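import Cfsg.Statements.S0002
import Mathlib

set_option autoImplicit false
open Pointwise
open Cfsg

namespace Cfsg.Agent.S0002

open MulOpposite MulAction Subgroup

/-- The class of a left transversal in `A.QuotientDiff`. -/
noncomputable def cls {G : Type*} [Group G] (A : Subgroup G) [IsMulCommutative A] [A.FiniteIndex]
    (T : A.LeftTransversal) : A.QuotientDiff := Quotient.mk'' T

theorem smul_cls {G : Type*} [Group G] (A : Subgroup G) [IsMulCommutative A] [A.FiniteIndex] [A.Normal]
    (T : A.LeftTransversal) (g : G) : g • cls A T = cls A (op g⁻¹ • T) := rfl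

/-- A complement `K` of an abelian normal Hall subgroup `A` is the stabilizer of its own class
in `A.QuotientDiff`. -/
theorem stabilizer_eq {G : Type*} [Group G] [Finite G] (A : Subgroup G) [A.Normal] [IsMulCommutative A]
    (hA : (Nat.card A).Coprime A.index) (K : Subgroup G) (hK : Subgroup.IsComplement' A K) :
    ∃ α : A.QuotientDiff, MulAction.stabilizer G α = K := by
  refine ⟨cls A ⟨(K : Set G), hK.symm⟩, ?_⟩
  symm
  apply Subgroup.eq_of_le_of_card_ge
  · intro k hk
    rw [MulAction.mem_stabilizer_iff, smul_cls]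
    congr 1
    apply Subtype.ext
    change op k⁻¹ • (K : Set G) = (K : Set G)
    ext x
    rw [Set.mem_smul_set_iff_inv_smul_mem]
    simp only [MulOpposite.smul_eq_mul_unop, SetLike.mem_coe, ← op_inv, inv_inv, unop_op]
    exact ⟨fun h => by simpa using K.mul_mem h (K.inv_mem hk), fun h => K.mul_mem h hk⟩
  · have h1' := (isComplement'_stabilizer_of_coprime (α := cls A ⟨(K : Set G), hK.symm⟩) hA).card_mul_card
    have h2' := hK.card_mul_card
    have hpos : 0 < Nat.card A := Nat.card_pos
    have : Nat.card A * Nat.card (stabilizer G (cls A ⟨(K : Set G), hK.symm⟩)) = Nat.card A * Nat.card K := by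
      rw [h1', h2']
    exact (Nat.eq_of_mul_eq_mul_left hpos this).le

theorem result {G : Type*} [Group G] [Finite G] (A : Subgroup G) [A.Normal] [IsMulCommutative A]
    (hA : (Nat.card A).Coprime A.index)
    (H K : Subgroup G) (hH : Subgroup.IsComplement' A H) (hK : Subgroup.IsComplement' A K) :
    ∃ a ∈ A, MulAut.conj a • H = K := by
  obtain ⟨α, hα⟩ := stabilizer_eq A hA H hH
  obtain ⟨β, hβ⟩ := stabilizer_eq A hA K hK
  obtain ⟨a, ha⟩ := exists_smul_eq hA α β
  refine ⟨a, a.2, ?_⟩
  rw [← hα, ← hβ, ← ha]
  change _ = stabilizer G ((a : G) • α)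
  rw [stabilizer_smul_eq_stabilizer_map_conj]
  rfl

end Cfsg.Agent.S0002
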