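import Cfsg.Statements.S1282
import Mathlib
import Cfsg.Agent.Lib.Helper52.Hyperplane

set_option autoImplicit false
open Cfsg

namespace Cfsg.Agent.S1282

open Subgroup in
theorem key {G : Type*} [Group G] [Finite G] (p : ℕ) [hp : Fact p.Prime] (A : Subgroup G)
    (hAc : ∀ x ∈ A, ∀ y ∈ A, x * y = y * x) (hAp : ∀ x ∈ A, x ^ p = 1)
    (q : ℕ) [hq : Fact q.Prime] (hqp : q ≠ p) (D Q : Subgroup G) (hQ : IsPGroup q ↥Q)
    (hAQ : A ≤ normalizer (Q : Set G)) (hAD : A ≤ normalizer (D : Set G)) (hDQ : D ≤ Q)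
    (hne : D ≠ Q) :
    ∃ B : Subgroup G, B ≤ A ∧ B.relIndex A ≤ p ∧
      ¬ (normalizer (D : Set G) ⊓ Q ⊓ centralizer (B : Set G) ≤ D) := by
  set N : Subgroup G := normalizer (D : Set G) ⊓ Q with hN
  have hND : ¬ N ≤ D := by
    obtain ⟨u, huQ, huD, huN⟩ := Helper48.exists_mem_normalizer_not_mem hQ hDQ hne
    intro h
    exact huD (h (Subgroup.mem_inf.mpr ⟨huN, huQ⟩))
  have hAN : A ≤ normalizer (N : Set G) := by
    intro x hx
    exact Helper48.mem_normalizer_inf' (Helper48.mem_normalizer_normalizer (hAD hx)) (hAQ hx)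
  have hNq : IsPGroup q N := hQ.to_le inf_le_right
  have hNcop : (Nat.card N).Coprime p := by
    obtain ⟨n, hn⟩ := IsPGroup.exists_card_eq hNq
    rw [hn]
    exact Nat.Coprime.pow_left n ((Nat.coprime_primes hq.out hp.out).mpr hqp)
  exact Helper52.exists_hyperplane_centralizer_not_le A N D hAc hAp hAN hNcop hND

/-- Let A be an elementary abelian p-subgroup of rank at least 3 of the finite group G, q ≠ p a prime, and Q₁, Q₂ q-subgroups normalized by A with D = Q₁ ∩ Q₂ different from both. Then there is a non-identity a ∈ A such that, for i = 1 and i = 2, N_{Q_i}(D) ∩ C_G(a) is not contained in D. -/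
theorem result {G : Type*} [Group G] [Finite G] (p : ℕ) [Fact p.Prime] (A : Subgroup G) (hA : Cfsg.IsElementaryAbelian p A) (hA3 : p ^ 3 ≤ Nat.card ↥A) (q : ℕ) [Fact q.Prime] (hqp : q ≠ p) (Q₁ Q₂ : Subgroup G) (h₁ : IsPGroup q ↥Q₁) (h₂ : IsPGroup q ↥Q₂) (hA₁ : A ≤ Subgroup.normalizer (Q₁ : Set G)) (hA₂ : A ≤ Subgroup.normalizer (Q₂ : Set G)) (hD₁ : Q₁ ⊓ Q₂ ≠ Q₁) (hD₂ : Q₁ ⊓ Q₂ ≠ Q₂) : ∃ a ∈ A, a ≠ 1 ∧ ¬ (Subgroup.normalizer ((Q₁ ⊓ Q₂ : Subgroup G) : Set G) ⊓ Q₁ ⊓ Subgroup.centralizer {a} ≤ Q₁ ⊓ Q₂) ∧ ¬ (Subgroup.normalizer ((Q₁ ⊓ Q₂ : Subgroup G) : Set G) ⊓ Q₂ ⊓ Subgroup.centralizer {a} ≤ Q₁ ⊓ Q₂) := by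
  have hp : p.Prime := Fact.out
  obtain ⟨hAcomm, hAp⟩ := hA
  have hAc : ∀ x ∈ A, ∀ y ∈ A, x * y = y * x := fun x hx y hy => by
    have := hAcomm.is_comm.comm ⟨x, hx⟩ ⟨y, hy⟩
    exact congrArg Subtype.val this
  have hAD : A ≤ Subgroup.normalizer ((Q₁ ⊓ Q₂ : Subgroup G) : Set G) := by
    intro x hx
    exact Helper48.mem_normalizer_inf' (hA₁ hx) (hA₂ hx)
  obtain ⟨B₁, hB₁A, hB₁i, hB₁⟩ := key p A hAc hAp q hqp (Q₁ ⊓ Q₂) Q₁ h₁ hA₁ hAD inf_le_left hD₁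
  obtain ⟨B₂, hB₂A, hB₂i, hB₂⟩ := key p A hAc hAp q hqp (Q₁ ⊓ Q₂) Q₂ h₂ hA₂ hAD inf_le_right hD₂
  -- a nonidentity element of `B₁ ⊓ B₂`
  obtain ⟨a, ha, ha1⟩ : ∃ a ∈ B₁ ⊓ B₂, a ≠ 1 := by
    by_contra hcon
    push Not at hcon
    have hbot : B₁ ⊓ B₂ = ⊥ := (Subgroup.eq_bot_iff_forall _).mpr hcon
    have h1 := Helper52.card_mul_relIndex_eq (le_trans inf_le_left hB₁A : B₁ ⊓ B₂ ≤ A)
    rw [hbot, Subgroup.card_bot, one_mul] at h1
    have h2 : (B₁ ⊓ B₂).relIndex A ≤ B₁.relIndex A * B₂.relIndex A := Subgroup.relIndex_inf_le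
    rw [hbot, h1] at h2
    have h3 : B₁.relIndex A * B₂.relIndex A ≤ p * p := Nat.mul_le_mul hB₁i hB₂i
    have h4 : 2 ≤ p := hp.two_le
    have h5 : p ^ 3 ≤ p * p := le_trans hA3 (le_trans h2 h3)
    nlinarith [Nat.pos_of_ne_zero hp.ne_zero]
  obtain ⟨haB₁, haB₂⟩ := Subgroup.mem_inf.mp ha
  refine ⟨a, hB₁A haB₁, ha1, ?_, ?_⟩
  · intro h
    apply hB₁
    refine le_trans (inf_le_inf_left _ ?_) h
    apply Subgroup.centralizer_le
    intro x hx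
    rw [Set.mem_singleton_iff] at hx
    subst hx
    exact haB₁
  · intro h
    apply hB₂
    refine le_trans (inf_le_inf_left _ ?_) h
    apply Subgroup.centralizer_le
    intro x hx
    rw [Set.mem_singleton_iff] at hx
    subst hx
    exact haB₂

end Cfsg.Agent.S1282
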