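import Cfsg.Statements.S1302
import Cfsg.Agent.Lib.Helper29.OmegaInv

set_option autoImplicit false
open Cfsg

namespace Cfsg.Agent.S1302

/-- Let X be a finite p-constrained group, p an odd prime, and A an abelian p-subgroup of X containing every element of order p of C_X(A). Then every subgroup of X of order prime to p that is normalized by A lies in O_{p'}(X). -/
theorem result {X : Type*} [Group X] [Finite X] (p : ℕ) [Fact p.Prime] (hp : p ≠ 2) (hX : Cfsg.IsPConstrained p X) (A : Subgroup X) (hA : IsMulCommutative ↥A) (hAp : IsPGroup p ↥A) (hΩ : ∀ x ∈ Subgroup.centralizer (A : Set X), orderOf x = p → x ∈ A) (Q : Subgroup X) (hQ : ¬ p ∣ Nat.card ↥Q) (hAQ : A ≤ Subgroup.normalizer (Q : Set X)) : Q ≤ Cfsg.pPrimeCore p X := by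
  classical
  have hpp : p.Prime := Fact.out
  haveI hKn : (Cfsg.pPrimeCore p X).Normal := Cfsg.Agent.Helper54.pPrimeCore_normal' p
  have hKc : (Nat.card (Cfsg.pPrimeCore p X)).Coprime p := Cfsg.Agent.Helper54.pPrimeCore_coprime p
  have hchar : Cfsg.Agent.Helper54.IsCharP p (X ⧸ Cfsg.pPrimeCore p X) :=
    Cfsg.Agent.Helper54.isPConstrained_iff_isCharP_quotient.mp hX
  have hQc : (Nat.card Q).Coprime p := ((Nat.Prime.coprime_iff_not_dvd hpp).mpr hQ).symm
  have hbot : Q.map (QuotientGroup.mk' (Cfsg.pPrimeCore p X)) = ⊥ := by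
    apply Cfsg.Agent.Helper29.eq_bot_of_isCharP p hp hchar
      (A.map (QuotientGroup.mk' (Cfsg.pPrimeCore p X))) (hAp.map _) ?_
      (Q.map (QuotientGroup.mk' (Cfsg.pPrimeCore p X))) ?_ ?_
    · -- the hypothesis on elements of order `p` passes to the quotient
      intro xbar hxbar hord
      obtain ⟨y, rfl⟩ := QuotientGroup.mk'_surjective (Cfsg.pPrimeCore p X) xbar
      have hc : ∀ t ∈ A, y * t * y⁻¹ * t⁻¹ ∈ Cfsg.pPrimeCore p X := by
        intro t ht
        have h1 := (Subgroup.mem_centralizer_iff.mp hxbar)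
          (QuotientGroup.mk' (Cfsg.pPrimeCore p X) t) (Subgroup.mem_map_of_mem _ ht)
        rw [← QuotientGroup.eq_one_iff]
        have h2 : ((y * t * y⁻¹ * t⁻¹ : X) : X ⧸ Cfsg.pPrimeCore p X)
            = (QuotientGroup.mk' (Cfsg.pPrimeCore p X) y) * (QuotientGroup.mk' (Cfsg.pPrimeCore p X) t)
              * (QuotientGroup.mk' (Cfsg.pPrimeCore p X) y)⁻¹
              * (QuotientGroup.mk' (Cfsg.pPrimeCore p X) t)⁻¹ := by
          simp
        rw [h2, ← h1]
        group
      obtain ⟨k, hk, hyk⟩ := Cfsg.Agent.Helper54.exists_mul_mem_centralizer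
        (Cfsg.pPrimeCore p X) hKc A hAp y hc
      have hπy' : QuotientGroup.mk' (Cfsg.pPrimeCore p X) (y * k)
          = QuotientGroup.mk' (Cfsg.pPrimeCore p X) y := by
        rw [map_mul]
        have : QuotientGroup.mk' (Cfsg.pPrimeCore p X) k = 1 := (QuotientGroup.eq_one_iff k).mpr hk
        rw [this, mul_one]
      obtain ⟨t, _, ht⟩ := Nat.exists_mul_mod_eq_one_of_coprime hKc hpp.one_lt
      set n := Nat.card (Cfsg.pPrimeCore p X) with hn
      have hxp : (QuotientGroup.mk' (Cfsg.pPrimeCore p X) y) ^ p = 1 := by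
        have := pow_orderOf_eq_one (QuotientGroup.mk' (Cfsg.pPrimeCore p X) y)
        rwa [hord] at this
      have hs_cen : (y * k) ^ (n * t) ∈ Subgroup.centralizer (A : Set X) := Subgroup.pow_mem _ hyk _
      have hπs : QuotientGroup.mk' (Cfsg.pPrimeCore p X) ((y * k) ^ (n * t))
          = QuotientGroup.mk' (Cfsg.pPrimeCore p X) y := by
        rw [map_pow, hπy', ← Nat.div_add_mod (n * t) p, ht, pow_add, pow_mul, hxp, one_pow, one_mul,
          pow_one]
      have hyp : (y * k) ^ p ∈ Cfsg.pPrimeCore p X := by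
        rw [← QuotientGroup.eq_one_iff]
        have : (((y * k) ^ p : X) : X ⧸ Cfsg.pPrimeCore p X)
            = (QuotientGroup.mk' (Cfsg.pPrimeCore p X) (y * k)) ^ p := by simp
        rw [this, hπy', hxp]
      have hsp : ((y * k) ^ (n * t)) ^ p = 1 := by
        have h1 : ((y * k) ^ (n * t)) ^ p = (((y * k) ^ p) ^ n) ^ t := by
          rw [← pow_mul, ← pow_mul, ← pow_mul]; congr 1; ring
        have h2 : ((y * k) ^ p) ^ n = 1 := by
          have h3 : ((⟨(y * k) ^ p, hyp⟩ : ↥(Cfsg.pPrimeCore p X)) ^ n) = 1 := pow_card_eq_one'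
          have h4 := congrArg Subtype.val h3
          rw [Subgroup.coe_pow, Subgroup.coe_one] at h4
          exact h4
        rw [h1, h2, one_pow]
      have hs1 : (y * k) ^ (n * t) ≠ 1 := by
        intro h
        rw [h, map_one] at hπs
        have : orderOf (QuotientGroup.mk' (Cfsg.pPrimeCore p X) y) = 1 := by
          rw [← hπs]; exact orderOf_one
        rw [hord] at this
        exact hpp.one_lt.ne' this
      have hmem := hΩ _ hs_cen (orderOf_eq_prime hsp hs1)
      exact ⟨_, hmem, hπs⟩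
    · exact Nat.Coprime.coprime_dvd_left (Subgroup.card_map_dvd _ _) hQc
    · exact (Subgroup.map_mono hAQ).trans (Subgroup.le_normalizer_map _)
  rw [← (QuotientGroup.ker_mk' (Cfsg.pPrimeCore p X)), ← Subgroup.map_eq_bot_iff]
  exact hbot

end Cfsg.Agent.S1302
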