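import Cfsg.Statements.S0041
import Cfsg.Agent.Lib.Helper96.FpfAction

set_option autoImplicit false
open Cfsg

namespace Cfsg.Agent.S0041

open Cfsg.Agent.Helper96
open scoped IsMulCommutative

variable {G : Type*} [Group G]

/-- The conjugation action of `A` on `V` when `A` normalizes `V`. -/
@[reducible] def conjAction (A V : Subgroup G) (hAV : A ≤ Subgroup.normalizer (V : Set G)) :
    MulDistribMulAction A V where
  smul a v := ⟨(a : G) * (v : G) * (a : G)⁻¹, (Subgroup.mem_normalizer_iff.mp (hAV a.2) v).mp v.2⟩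
  one_smul v := by
    apply Subtype.ext
    show ((1 : A) : G) * (v : G) * ((1 : A) : G)⁻¹ = v
    simp
  mul_smul a b v := by
    apply Subtype.ext
    show ((a * b : A) : G) * (v : G) * ((a * b : A) : G)⁻¹ = (a : G) * ((b : G) * (v : G) * (b : G)⁻¹) * (a : G)⁻¹
    simp only [Subgroup.coe_mul]
    group
  smul_mul a v w := by
    apply Subtype.ext
    show (a : G) * ((v * w : V) : G) * (a : G)⁻¹ = ((a : G) * (v : G) * (a : G)⁻¹) * ((a : G) * (w : G) * (a : G)⁻¹)
    simp only [Subgroup.coe_mul]
    group
  smul_one a := by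
    apply Subtype.ext
    show (a : G) * ((1 : V) : G) * (a : G)⁻¹ = ((1 : V) : G)
    simp

/-- A group acting on a nontrivial abelian group so that no nonidentity element has a nonidentity fixed point is cyclic, provided it is abelian or its order is a product of two (possibly equal) primes. -/
theorem result {G : Type*} [Group G] [Finite G] (A V : Subgroup G) [IsMulCommutative V]
    (hV : V ≠ ⊥) (hAV : A ≤ Subgroup.normalizer (V : Set G)) (hfpf : ∀ a ∈ A, a ≠ 1 → V ⊓ Subgroup.centralizer {a} = ⊥)
    (hA : IsMulCommutative A ∨ ∃ p q : ℕ, p.Prime ∧ q.Prime ∧ Nat.card A = p * q) : IsCyclic A := by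
  letI act : MulDistribMulAction A V := conjAction A V hAV
  have hsmul : ∀ (a : A) (v : V), ((a • v : V) : G) = (a : G) * (v : G) * (a : G)⁻¹ := fun _ _ => rfl
  have hntV : Nontrivial V := (Subgroup.nontrivial_iff_ne_bot V).mpr hV
  have hf : IsFpf A V := by
    intro a ha v hv
    have ha' : (a : G) ≠ 1 := fun h => ha (Subtype.ext h)
    have h1 : (a : G) * (v : G) * (a : G)⁻¹ = (v : G) := by rw [← hsmul, hv]
    have hmem : (v : G) ∈ V ⊓ Subgroup.centralizer {(a : G)} := by
      refine Subgroup.mem_inf.mpr ⟨v.2, ?_⟩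
      rw [Subgroup.mem_centralizer_iff]
      intro y hy
      rw [Set.mem_singleton_iff] at hy
      subst hy
      calc (a : G) * (v : G) = ((a : G) * (v : G) * (a : G)⁻¹) * (a : G) := by group
        _ = (v : G) * (a : G) := by rw [h1]
    rw [hfpf a a.2 ha', Subgroup.mem_bot] at hmem
    exact Subtype.ext hmem
  rcases hA with hAc | ⟨p, q, hp, hq, hcard⟩
  · exact isCyclic_of_fpf_comm hf
  · by_contra hnc
    by_cases hpq : p = q
    · subst hpq
      refine fpf_false_of_card_sq hf p hp (by rw [hcard, pow_two]) ?_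
      intro b
      have hd : orderOf b ∣ p * p := hcard ▸ orderOf_dvd_natCard b
      rw [← pow_two] at hd
      obtain ⟨k, hk, hk'⟩ := (Nat.dvd_prime_pow hp).mp hd
      have hk2 : k ≠ 2 := by
        intro h
        apply hnc
        apply isCyclic_of_orderOf_eq_card b
        rw [hk', h, hcard, pow_two]
      have hk1 : k ≤ 1 := by omega
      have : orderOf b ∣ p := by
        rw [hk']
        calc p ^ k ∣ p ^ 1 := pow_dvd_pow p hk1
          _ = p := pow_one p
      exact orderOf_dvd_iff_pow_eq_one.mp this
    · exact fpf_false_of_card_mul hf p q hp hq hpq hcard hnc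

end Cfsg.Agent.S0041
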