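import Cfsg.Statements.S3800

set_option autoImplicit false
open Cfsg

namespace Cfsg.Agent.S3800

open scoped Pointwise

variable {G : Type*} [Group G]

lemma mem_map_conj (H : Subgroup G) (g y : G) :
    y ∈ H.map (MulAut.conj g).toMonoidHom ↔ g⁻¹ * y * g ∈ H := by
  constructor
  · rintro ⟨h, hh, rfl⟩
    simpa [MulAut.conj_apply, mul_assoc] using hh
  · intro h
    refine ⟨g⁻¹ * y * g, h, ?_⟩
    simp [MulAut.conj_apply, mul_assoc]

lemma mem_normalizer_of_conj_le [Finite G] (P : Subgroup G) (h : G)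
    (hle : ∀ x ∈ P, h * x * h⁻¹ ∈ P) : h ∈ Subgroup.normalizer (P : Set G) := by
  have h1 : P.map (MulAut.conj h).toMonoidHom ≤ P := by
    rintro _ ⟨x, hx, rfl⟩
    exact hle x hx
  have h2 : P.map (MulAut.conj h).toMonoidHom = P := by
    apply Subgroup.eq_of_le_of_card_ge h1
    rw [Subgroup.card_map_of_injective (MulAut.conj h).injective]
  rw [Subgroup.mem_normalizer_iff]
  intro x
  constructor
  · exact hle x
  · intro hx
    have : h * x * h⁻¹ ∈ P.map (MulAut.conj h).toMonoidHom := by rw [h2]; exact hx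
    rw [mem_map_conj] at this
    simpa [mul_assoc] using this

lemma frattini_aux [Finite G] {p : ℕ} [Fact p.Prime] (N P : Subgroup G) [N.Normal]
    (hN : (Nat.card N).Coprime p) (hP : IsPGroup p P) (g : G)
    (hg : g ∈ Subgroup.normalizer ((N ⊔ P : Subgroup G) : Set G)) :
    ∃ n ∈ N, n⁻¹ * g ∈ Subgroup.normalizer (P : Set G) := by
  have hp : p.Prime := Fact.out
  set K : Subgroup G := N ⊔ P with hK
  have hPK : P ≤ K := le_sup_right
  have hNK : N ≤ K := le_sup_left
  obtain ⟨k, hk⟩ := hP.exists_card_eq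
  have hdisj : N ⊓ P = ⊥ := (Subgroup.disjoint_of_coprime_natCard (by rw [hk]; exact hN.pow_right k)).eq_bot
  have hrel : P.relIndex K = Nat.card N := by
    have h1 : (⊥ : Subgroup G).relIndex P * P.relIndex K = (⊥ : Subgroup G).relIndex K :=
      Subgroup.relIndex_mul_relIndex ⊥ P K bot_le hPK
    have h2 : (⊥ : Subgroup G).relIndex N * N.relIndex K = (⊥ : Subgroup G).relIndex K :=
      Subgroup.relIndex_mul_relIndex ⊥ N K bot_le hNK
    have h3 : N.relIndex K = N.relIndex P := by
      rw [hK]; exact Subgroup.relIndex_sup_left P N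
    have h4 : N.relIndex P = Nat.card P := by
      rw [← Subgroup.inf_relIndex_right, hdisj, Subgroup.relIndex_bot_left]
    rw [Subgroup.relIndex_bot_left] at h1 h2
    rw [h3, h4] at h2
    have hpos : 0 < Nat.card P := Nat.card_pos
    have : Nat.card P * P.relIndex K = Nat.card P * Nat.card N := by
      rw [h1, ← h2, mul_comm]
    exact Nat.eq_of_mul_eq_mul_left hpos this
  have hnd : ¬ p ∣ (P.subgroupOf K).index := by
    change ¬ p ∣ P.relIndex K
    rw [hrel]
    intro hdvd
    have := Nat.Coprime.eq_one_of_dvd hN.symm hdvd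
    exact hp.one_lt.ne' this
  have hP' : IsPGroup p (P.subgroupOf K) := hP.comap_subtype
  let P' : Sylow p K := hP'.toSylow hnd
  -- Q = g P g⁻¹
  have hQK : ∀ x ∈ P, g * x * g⁻¹ ∈ K := by
    intro x hx
    rw [Subgroup.mem_normalizer_iff] at hg
    exact (hg x).1 (hPK hx)
  let Q : Subgroup G := P.map (MulAut.conj g).toMonoidHom
  have hQ : IsPGroup p Q := hP.map _
  have hQ' : IsPGroup p (Q.subgroupOf K) := hQ.comap_subtype
  obtain ⟨Q1, hQ1⟩ := hQ'.exists_le_sylow
  obtain ⟨c, hc⟩ := MulAction.exists_smul_eq K P' Q1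
  have hmem : (c : G)⁻¹ * g ∈ Subgroup.normalizer (P : Set G) := by
    apply mem_normalizer_of_conj_le
    intro x hx
    have h1 : (⟨g * x * g⁻¹, hQK x hx⟩ : K) ∈ Q.subgroupOf K := by
      rw [Subgroup.mem_subgroupOf]
      exact ⟨x, hx, by simp [MulAut.conj_apply]⟩
    have h2 : (⟨g * x * g⁻¹, hQK x hx⟩ : K) ∈ (Q1 : Subgroup K) := hQ1 h1
    rw [← hc, Sylow.coe_subgroup_smul, Subgroup.mem_pointwise_smul_iff_inv_smul_mem] at h2
    have h3 : (MulAut.conj c)⁻¹ • (⟨g * x * g⁻¹, hQK x hx⟩ : K) ∈ P.subgroupOf K := h2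
    rw [Subgroup.mem_subgroupOf] at h3
    have h4 : (((MulAut.conj c)⁻¹ • (⟨g * x * g⁻¹, hQK x hx⟩ : K) : K) : G) =
        (c : G)⁻¹ * g * x * ((c : G)⁻¹ * g)⁻¹ := by
      simp [MulAut.smul_def, mul_assoc]
    rw [h4] at h3
    exact h3
  have hcK : (c : G) ∈ N ⊔ P := c.2
  rw [Subgroup.mem_sup_of_normal_left] at hcK
  obtain ⟨n, hn, x, hx, hnx⟩ := hcK
  refine ⟨n, hn, ?_⟩
  have hxN : x ∈ Subgroup.normalizer (P : Set G) := Subgroup.le_normalizer hx
  have : n⁻¹ * g = x * ((c : G)⁻¹ * g) := by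
    rw [← hnx]; group
  rw [this]
  exact Subgroup.mul_mem _ hxN hmem

/-- Let G be a finite group, N a normal subgroup of G whose order is prime to p, and P a p-subgroup of G. Then in G/N the normalizer of the image of P is the image of N_G(P), and the centralizer of the image of P is the image of C_G(P). -/
theorem result {G : Type*} [Group G] [Finite G] {p : ℕ} [Fact p.Prime] (N : Subgroup G) [N.Normal] (hN : (Nat.card N).Coprime p) (P : Subgroup G) (hP : IsPGroup p P) : Subgroup.normalizer ((P.map (QuotientGroup.mk' N)) : Set (G ⧸ N)) = (Subgroup.normalizer (P : Set G)).map (QuotientGroup.mk' N) ∧ Subgroup.centralizer ((P.map (QuotientGroup.mk' N)) : Set (G ⧸ N)) = (Subgroup.centralizer (P : Set G)).map (QuotientGroup.mk' N) := by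
  have hsurj : Function.Surjective (QuotientGroup.mk' N) := QuotientGroup.mk'_surjective N
  obtain ⟨k, hk⟩ := hP.exists_card_eq
  have hdisj : N ⊓ P = ⊥ := (Subgroup.disjoint_of_coprime_natCard (by rw [hk]; exact hN.pow_right k)).eq_bot
  have hnorm : Subgroup.normalizer ((P.map (QuotientGroup.mk' N)) : Set (G ⧸ N)) =
      (Subgroup.normalizer (P : Set G)).map (QuotientGroup.mk' N) := by
    apply le_antisymm
    · intro q hq
      obtain ⟨g, rfl⟩ := hsurj q
      have h1 : g ∈ (Subgroup.normalizer ((P.map (QuotientGroup.mk' N)) : Set (G ⧸ N))).comap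
          (QuotientGroup.mk' N) := hq
      rw [Subgroup.comap_normalizer_eq_of_surjective _ hsurj, Subgroup.comap_map_eq,
        QuotientGroup.ker_mk', sup_comm] at h1
      obtain ⟨n, hn, hng⟩ := frattini_aux N P hN hP g h1
      refine ⟨n⁻¹ * g, hng, ?_⟩
      have : (QuotientGroup.mk' N) n = 1 := by
        rw [QuotientGroup.mk'_apply, QuotientGroup.eq_one_iff]; exact hn
      rw [map_mul, map_inv, this, inv_one, one_mul]
    · exact Subgroup.le_normalizer_map _
  refine ⟨hnorm, ?_⟩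
  apply le_antisymm
  · intro q hq
    have hqn : q ∈ Subgroup.normalizer ((P.map (QuotientGroup.mk' N)) : Set (G ⧸ N)) :=
      Subgroup.centralizer_le_normalizer _ hq
    rw [hnorm] at hqn
    obtain ⟨h, hh, rfl⟩ := hqn
    refine ⟨h, ?_, rfl⟩
    show h ∈ Subgroup.centralizer (P : Set G)
    rw [Subgroup.mem_centralizer_iff]
    intro x hx
    have hx' : x ∈ P := hx
    -- h x h⁻¹ x⁻¹ ∈ P ⊓ N
    have h1 : h * x * h⁻¹ ∈ P := by
      have hh' : h ∈ Subgroup.normalizer (P : Set G) := hh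
      rw [Subgroup.mem_normalizer_iff] at hh'
      exact (hh' x).1 hx'
    have h2 : h * x * h⁻¹ * x⁻¹ ∈ P := P.mul_mem h1 (P.inv_mem hx')
    have h3 : h * x * h⁻¹ * x⁻¹ ∈ N := by
      rw [← QuotientGroup.eq_one_iff]
      rw [Subgroup.mem_centralizer_iff] at hq
      have h4 := hq ((QuotientGroup.mk' N) x) ⟨x, hx', rfl⟩
      simp only [QuotientGroup.mk'_apply] at h4
      simp only [QuotientGroup.mk_mul, QuotientGroup.mk_inv]
      rw [← h4]
      group
    have h5 : h * x * h⁻¹ * x⁻¹ ∈ N ⊓ P := ⟨h3, h2⟩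
    rw [hdisj, Subgroup.mem_bot] at h5
    have : h * x = x * h := by
      have h6 : h * x * h⁻¹ * x⁻¹ * (x * h) = x * h := by rw [h5, one_mul]
      rw [← h6]; group
    exact this.symm
  · rintro _ ⟨c, hc, rfl⟩
    rw [Subgroup.mem_centralizer_iff]
    rintro _ ⟨x, hx, rfl⟩
    have hc : c ∈ Subgroup.centralizer (P : Set G) := hc
    rw [Subgroup.mem_centralizer_iff] at hc
    have := hc x hx
    rw [← map_mul, ← map_mul, this]

end Cfsg.Agent.S3800
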