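import Cfsg.Statements.S0016
import Mathlib
import Cfsg.Agent.Lib.Helper49.UniqueOrderP
import Cfsg.Agent.Lib.Helper53.UniqueInvol4

set_option autoImplicit false
open Cfsg

namespace Cfsg.Agent.S0016

/-- A finite p-group in which only one subgroup has order p is either cyclic or (with p = 2) isomorphic to a generalized quaternion group. -/
theorem result {G : Type*} [Group G] [Finite G] (p : ℕ) [Fact p.Prime]
    (hG : IsPGroup p G) (huniq : ∀ H K : Subgroup G, Nat.card H = p → Nat.card K = p → H = K) :
    IsCyclic G ∨ (p = 2 ∧ ∃ n : ℕ, Nonempty (G ≃* QuaternionGroup (2 ^ n))) := by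
  have hp : p.Prime := Fact.out
  have hU : ∀ y z : G, orderOf y = p → orderOf z = p → z ∈ Subgroup.zpowers y := by
    intro y z hy hz
    have h1 : Nat.card (Subgroup.zpowers y) = p := by rw [Nat.card_zpowers, hy]
    have h2 : Nat.card (Subgroup.zpowers z) = p := by rw [Nat.card_zpowers, hz]
    rw [huniq _ _ h1 h2]
    exact Subgroup.mem_zpowers z
  by_cases hp2 : p = 2
  · subst hp2
    have hU2 : ∀ x y : G, orderOf x = 2 → orderOf y = 2 → x = y := by
      intro x y hx hy
      obtain ⟨k, hk⟩ := Subgroup.mem_zpowers_iff.mp (hU x y hx hy)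
      have this0 := zpow_mod_orderOf x k
      rw [hx] at this0
      have this : x ^ (k % 2) = x ^ k := by exact_mod_cast this0
      have hcases : k % 2 = 0 ∨ k % 2 = 1 := by omega
      rcases hcases with h0 | h0
      · exfalso
        rw [h0, zpow_zero, hk] at this
        rw [← this, orderOf_one] at hy
        omega
      · rw [h0, zpow_one, hk] at this
        exact this
    rcases Cfsg.Agent.Helper53.isCyclic_or_quaternion_of_unique_invol hG hU2 with h | ⟨n, -, hn⟩
    · left; exact h
    · right; exact ⟨rfl, n, hn⟩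
  · left
    have := Cfsg.Agent.Helper49.isCyclic_of_unique_order_p hp2 hU ⊤ (hG.to_subgroup ⊤)
    exact (Subgroup.topEquiv : (⊤ : Subgroup G) ≃* G).isCyclic.mp this

end Cfsg.Agent.S0016
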