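import Cfsg.Statements.S1473
import Mathlib
-- import your own Cfsg.Agent.* helpers here

set_option autoImplicit false
open Cfsg

namespace Cfsg.Agent.S1473

universe u

/-- A group embedding into a nilpotent group is nilpotent. -/
theorem isNilpotent_of_injective {A B : Type*} [Group A] [Group B] (hB : Group.IsNilpotent B)
    (f : A →* B) (hf : Function.Injective f) : Group.IsNilpotent A := by
  haveI := hB
  exact Group.nilpotent_of_mulEquiv (MonoidHom.ofInjective hf).symm

/-- The image of a nilpotent subgroup is nilpotent. -/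
theorem isNilpotent_map {A B : Type*} [Group A] [Group B] (K : Subgroup A)
    (hK : Group.IsNilpotent K) (f : A →* B) : Group.IsNilpotent (K.map f) := by
  haveI := hK
  exact Group.nilpotent_of_surjective (f.subgroupMap K) (f.subgroupMap_surjective K)

/-- A subgroup of a nilpotent subgroup is nilpotent. -/
theorem isNilpotent_of_le {A : Type*} [Group A] {K L : Subgroup A}
    (hL : Group.IsNilpotent L) (h : K ≤ L) : Group.IsNilpotent K :=
  isNilpotent_of_injective hL (Subgroup.inclusion h) (Subgroup.inclusion_injective h)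

/-- In a finite nilpotent group, elements of prime power orders for distinct primes commute. -/
theorem commute_of_nilpotent {L : Type*} [Group L] [Finite L]
    (hL : Group.IsNilpotent L) {q r : ℕ} (hq : q.Prime) (hr : r.Prime) (hqr : q ≠ r)
    (a b : L) (ha : ∃ i, a ^ q ^ i = 1) (hb : ∃ j, b ^ r ^ j = 1) : Commute a b := by
  haveI := Fact.mk hq
  haveI := Fact.mk hr
  have hn : ∀ (p : ℕ) (_hp : Fact p.Prime) (P : Sylow p L), (P : Subgroup L).Normal :=
    ((Group.isNilpotent_of_finite_tfae (G := L)).out 0 3).mp hL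
  obtain ⟨i, hi⟩ := ha
  obtain ⟨j, hj⟩ := hb
  have h1 : IsPGroup q (Subgroup.zpowers a) := by
    obtain ⟨k, -, hk⟩ := (Nat.dvd_prime_pow hq).mp (orderOf_dvd_of_pow_eq_one hi)
    exact IsPGroup.of_card (n := k) (by rw [Nat.card_zpowers, hk])
  have h2 : IsPGroup r (Subgroup.zpowers b) := by
    obtain ⟨k, -, hk⟩ := (Nat.dvd_prime_pow hr).mp (orderOf_dvd_of_pow_eq_one hj)
    exact IsPGroup.of_card (n := k) (by rw [Nat.card_zpowers, hk])
  obtain ⟨Q, hQ⟩ := h1.exists_le_sylow
  obtain ⟨R, hR⟩ := h2.exists_le_sylow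
  have hd : Disjoint (Q : Subgroup L) (R : Subgroup L) :=
    IsPGroup.disjoint_of_ne q r hqr _ _ Q.isPGroup' R.isPGroup'
  exact Subgroup.commute_of_normal_of_disjoint _ _ (hn q inferInstance Q) (hn r inferInstance R) hd a b
    (hQ (Subgroup.mem_zpowers a)) (hR (Subgroup.mem_zpowers b))

/-- A finite group in which elements of prime power orders for distinct primes commute
is nilpotent. -/
theorem isNilpotent_of_commute {L : Type*} [Group L] [Finite L]
    (h : ∀ q r : ℕ, q.Prime → r.Prime → q ≠ r → ∀ a b : L,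
      (∃ i, a ^ q ^ i = 1) → (∃ j, b ^ r ^ j = 1) → Commute a b) :
    Group.IsNilpotent L := by
  refine ((Group.isNilpotent_of_finite_tfae (G := L)).out 3 0).mp ?_
  intro q hq Q
  have hq' : q.Prime := hq.out
  rw [← Subgroup.normalizer_eq_top_iff, ← Subgroup.index_eq_one,
    Nat.eq_one_iff_not_exists_prime_dvd]
  intro r hr hdvd
  haveI := Fact.mk hr
  have key : ∃ R : Sylow r L, (R : Subgroup L) ≤ Subgroup.normalizer ((Q : Subgroup L) : Set L) := by
    by_cases hrq : r = q
    · subst hrq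
      exact ⟨Q, Subgroup.le_normalizer⟩
    · obtain ⟨R⟩ : Nonempty (Sylow r L) := inferInstance
      refine ⟨R, ?_⟩
      intro b hb
      have hb' : ∃ j, b ^ r ^ j = 1 := by
        obtain ⟨j, hj⟩ := R.isPGroup' ⟨b, hb⟩
        exact ⟨j, by simpa using congrArg Subtype.val hj⟩
      have hcomm : ∀ a ∈ (Q : Subgroup L), Commute a b := by
        intro a ha
        have ha' : ∃ i, a ^ q ^ i = 1 := by
          obtain ⟨i, hi⟩ := Q.isPGroup' ⟨a, ha⟩
          exact ⟨i, by simpa using congrArg Subtype.val hi⟩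
        exact h q r hq' hr (Ne.symm hrq) a b ha' hb'
      rw [Subgroup.mem_normalizer_iff]
      intro a
      constructor
      · intro ha
        have := (hcomm a ha).eq
        rw [← this, mul_inv_cancel_right]
        exact ha
      · intro ha
        have h2 : b * a * b⁻¹ * b = b * (b * a * b⁻¹) := (hcomm _ ha).eq
        have h3 : a = b * (a * b⁻¹) := by
          have := congrArg (fun t => b⁻¹ * t) h2
          simpa [mul_assoc] using this
        rw [h3]
        simpa [mul_assoc] using ha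
  obtain ⟨R, hR⟩ := key
  exact R.not_dvd_index (hdvd.trans (Subgroup.index_dvd_of_le hR))

/-- The CN property transfers along isomorphisms. -/
theorem isCN_of_mulEquiv {A B : Type*} [Group A] [Group B] (e : A ≃* B)
    (hA : Cfsg.IsCNGroup A) : Cfsg.IsCNGroup B := by
  intro g hg
  have hg' : e.symm g ≠ 1 := by
    intro h
    apply hg
    have := congrArg e h
    simpa using this
  have hnil := hA (e.symm g) hg'
  have hle : (Subgroup.centralizer ({g} : Set B)).map e.symm.toMonoidHom ≤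
      Subgroup.centralizer ({e.symm g} : Set A) := by
    rintro _ ⟨b, hb, rfl⟩
    have hb' := Subgroup.mem_centralizer_singleton_iff.mp hb
    rw [Subgroup.mem_centralizer_singleton_iff]
    change e.symm b * e.symm g = e.symm g * e.symm b
    rw [← map_mul, ← map_mul, hb']
  have h1 : Group.IsNilpotent ((Subgroup.centralizer ({g} : Set B)).map e.symm.toMonoidHom) :=
    isNilpotent_of_le hnil hle
  haveI := h1
  exact Group.nilpotent_of_mulEquiv
    ((Subgroup.centralizer ({g} : Set B)).equivMapOfInjective e.symm.toMonoidHom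
      e.symm.injective).symm

/-- Fixed point lemma on a coset: if `N` is a normal `p`-subgroup, `y` is a `q`-element (`q ≠ p`)
and `g` commutes with `y` modulo `N`, then some element of the coset `g N` commutes with `y`. -/
theorem exists_commute_mul {G : Type*} [Group G] [Finite G] {p q : ℕ} (hp : p.Prime)
    (hq : q.Prime) (hqp : q ≠ p) (N : Subgroup G) [hNn : N.Normal] (hN : IsPGroup p N) (y g : G)
    (hy : ∃ i, y ^ q ^ i = 1) (hc : g⁻¹ * y * g * y⁻¹ ∈ N) :
    ∃ n ∈ N, Commute y (g * n) := by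
  haveI := Fact.mk hp
  haveI := Fact.mk hq
  let T : Subgroup G :=
    { carrier := {t | g⁻¹ * t * g * t⁻¹ ∈ N}
      one_mem' := by simp
      mul_mem' := by
        intro t1 t2 h1 h2
        simp only [Set.mem_setOf_eq] at h1 h2 ⊢
        have h3 : t1 * (g⁻¹ * t2 * g * t2⁻¹) * t1⁻¹ ∈ N := hNn.conj_mem _ h2 t1
        have : g⁻¹ * (t1 * t2) * g * (t1 * t2)⁻¹ =
            (g⁻¹ * t1 * g * t1⁻¹) * (t1 * (g⁻¹ * t2 * g * t2⁻¹) * t1⁻¹) := by group
        rw [this]
        exact N.mul_mem h1 h3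
      inv_mem' := by
        intro t h1
        simp only [Set.mem_setOf_eq] at h1 ⊢
        have h3 : t⁻¹ * (g⁻¹ * t * g * t⁻¹)⁻¹ * t⁻¹⁻¹ ∈ N := hNn.conj_mem _ (N.inv_mem h1) t⁻¹
        have : g⁻¹ * t⁻¹ * g * t⁻¹⁻¹ = t⁻¹ * (g⁻¹ * t * g * t⁻¹)⁻¹ * t⁻¹⁻¹ := by group
        rw [this]
        exact h3 }
  have hyT : y ∈ T := hc
  have hT : ∀ t ∈ Subgroup.zpowers y, g⁻¹ * t * g * t⁻¹ ∈ N := by
    intro t ht
    exact (Subgroup.zpowers_le.mpr hyT) ht
  letI act : MulAction (Subgroup.zpowers y) N :=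
    { smul := fun t n => ⟨g⁻¹ * (t : G) * g * (n : G) * (t : G)⁻¹, by
        have h1 := hT t t.2
        have h2 : (t : G) * n * (t : G)⁻¹ ∈ N := hNn.conj_mem n n.2 t
        have : g⁻¹ * (t : G) * g * (n : G) * (t : G)⁻¹ =
            (g⁻¹ * t * g * (t : G)⁻¹) * (t * n * (t : G)⁻¹) := by group
        rw [this]
        exact N.mul_mem h1 h2⟩
      one_smul := fun n => by
        apply Subtype.ext
        change g⁻¹ * ((1 : Subgroup.zpowers y) : G) * g * (n : G) *
          ((1 : Subgroup.zpowers y) : G)⁻¹ = n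
        simp
      mul_smul := fun t1 t2 n => by
        apply Subtype.ext
        change g⁻¹ * ((t1 * t2 : Subgroup.zpowers y) : G) * g * (n : G) *
          ((t1 * t2 : Subgroup.zpowers y) : G)⁻¹ =
          g⁻¹ * (t1 : G) * g * (g⁻¹ * (t2 : G) * g * (n : G) * (t2 : G)⁻¹) * (t1 : G)⁻¹
        simp only [Subgroup.coe_mul]
        group }
  have hy' : IsPGroup q (Subgroup.zpowers y) := by
    obtain ⟨i, hi⟩ := hy
    obtain ⟨k, -, hk⟩ := (Nat.dvd_prime_pow hq).mp (orderOf_dvd_of_pow_eq_one hi)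
    exact IsPGroup.of_card (n := k) (by rw [Nat.card_zpowers, hk])
  have hcard : ¬ q ∣ Nat.card N := by
    obtain ⟨k, hk⟩ := IsPGroup.iff_card.mp hN
    rw [hk]
    intro h
    exact hqp ((Nat.prime_dvd_prime_iff_eq hq hp).mp (hq.dvd_of_dvd_pow h))
  obtain ⟨n, hn⟩ := hy'.nonempty_fixed_point_of_prime_not_dvd_card N hcard
  refine ⟨n, n.2, ?_⟩
  have h3 : g⁻¹ * y * g * n * y⁻¹ = n :=
    congrArg Subtype.val (hn ⟨y, Subgroup.mem_zpowers y⟩)
  change y * (g * n) = g * n * y
  calc y * (g * n) = g * (g⁻¹ * y * g * n * y⁻¹) * y := by group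
    _ = g * n * y := by rw [h3]

/-- A `p`-element normalizing a nontrivial `p`-subgroup `A` centralizes a nontrivial element
of `A`. -/
theorem exists_ne_one_commute {G : Type*} [Group G] [Finite G] {p : ℕ} (hp : p.Prime)
    (A : Subgroup G) (hA : IsPGroup p A) (hAbot : A ≠ ⊥) (u : G) (hu : ∃ i, u ^ p ^ i = 1)
    (hnorm : ∀ t ∈ Subgroup.zpowers u, ∀ a ∈ A, t * a * t⁻¹ ∈ A) :
    ∃ z ∈ A, z ≠ 1 ∧ Commute u z := by
  haveI := Fact.mk hp
  letI act : MulAction (Subgroup.zpowers u) A :=
    { smul := fun t a => ⟨(t : G) * (a : G) * (t : G)⁻¹, hnorm t t.2 a a.2⟩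
      one_smul := fun a => by
        apply Subtype.ext
        change ((1 : Subgroup.zpowers u) : G) * (a : G) * ((1 : Subgroup.zpowers u) : G)⁻¹ = a
        simp
      mul_smul := fun t1 t2 a => by
        apply Subtype.ext
        change ((t1 * t2 : Subgroup.zpowers u) : G) * (a : G) *
          ((t1 * t2 : Subgroup.zpowers u) : G)⁻¹ =
          (t1 : G) * ((t2 : G) * (a : G) * (t2 : G)⁻¹) * (t1 : G)⁻¹
        simp only [Subgroup.coe_mul]
        group }
  have hu' : IsPGroup p (Subgroup.zpowers u) := by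
    obtain ⟨i, hi⟩ := hu
    obtain ⟨k, -, hk⟩ := (Nat.dvd_prime_pow hp).mp (orderOf_dvd_of_pow_eq_one hi)
    exact IsPGroup.of_card (n := k) (by rw [Nat.card_zpowers, hk])
  have hdvd : p ∣ Nat.card A := by
    obtain ⟨k, hk⟩ := IsPGroup.iff_card.mp hA
    rcases Nat.eq_zero_or_pos k with h0 | h0
    · exfalso
      apply hAbot
      rw [← Subgroup.card_eq_one, hk, h0, pow_zero]
    · rw [hk]
      exact dvd_pow_self p h0.ne'
  have h1 : (1 : A) ∈ MulAction.fixedPoints (Subgroup.zpowers u) A := by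
    intro t
    apply Subtype.ext
    change (t : G) * ((1 : A) : G) * (t : G)⁻¹ = ((1 : A) : G)
    simp
  obtain ⟨b, hb, hne⟩ := hu'.exists_fixed_point_of_prime_dvd_card_of_fixed_point A hdvd h1
  refine ⟨b, b.2, ?_, ?_⟩
  · intro h
    apply hne
    apply Subtype.ext
    rw [h]
    rfl
  · have h3 : u * (b : G) * u⁻¹ = b :=
      congrArg Subtype.val (hb ⟨u, Subgroup.mem_zpowers u⟩)
    change u * (b : G) = b * u
    calc u * (b : G) = (u * (b : G) * u⁻¹) * u := by group
      _ = b * u := by rw [h3]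

/-- Lifting elements of prime power order through a quotient by a normal `p`-subgroup. -/
theorem exists_lift {G : Type*} [Group G] [Finite G] {p q : ℕ} (hp : p.Prime) (hq : q.Prime)
    (N : Subgroup G) [hNn : N.Normal] (hN : IsPGroup p N) (a' : G ⧸ N)
    (ha' : ∃ i, a' ^ q ^ i = 1) :
    ∃ a : G, (QuotientGroup.mk a : G ⧸ N) = a' ∧ ∃ j, a ^ q ^ j = 1 := by
  haveI := Fact.mk hp
  obtain ⟨a0, rfl⟩ := QuotientGroup.mk_surjective a'
  obtain ⟨i, hi⟩ := ha'
  obtain ⟨k, hk⟩ := IsPGroup.iff_card.mp hN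
  have hmem : a0 ^ q ^ i ∈ N := by
    rw [← QuotientGroup.eq_one_iff, QuotientGroup.mk_pow]
    exact hi
  have hpow : (a0 ^ q ^ i) ^ p ^ k = 1 := by
    have := pow_card_eq_one' (G := N) (x := ⟨a0 ^ q ^ i, hmem⟩)
    rw [hk] at this
    simpa using congrArg Subtype.val this
  by_cases hqp : q = p
  · subst hqp
    refine ⟨a0, rfl, i + k, ?_⟩
    rw [pow_add, pow_mul]
    exact hpow
  · by_cases hi1 : q ^ i = 1
    · refine ⟨1, ?_, 0, by simp⟩
      rw [hi1, pow_one] at hi
      rw [hi]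
      rfl
    · have h1 : 1 < q ^ i := by
        have : 0 < q ^ i := pow_pos hq.pos i
        omega
      have hcop : Nat.Coprime (p ^ k) (q ^ i) :=
        Nat.Coprime.pow _ _ ((Nat.coprime_primes hp hq).mpr (Ne.symm hqp))
      obtain ⟨m, -, hm⟩ := Nat.exists_mul_mod_eq_one_of_coprime hcop h1
      refine ⟨a0 ^ (p ^ k * m), ?_, i, ?_⟩
      · rw [QuotientGroup.mk_pow]
        have hdm := Nat.div_add_mod (p ^ k * m) (q ^ i)
        rw [hm] at hdm
        rw [← hdm, pow_add, pow_mul, hi, one_pow, one_mul, pow_one]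
      · have : (a0 ^ (p ^ k * m)) ^ q ^ i = ((a0 ^ q ^ i) ^ p ^ k) ^ m := by
          rw [← pow_mul, ← pow_mul, ← pow_mul]
          congr 1
          ring
        rw [this, hpow, one_pow]

/-- Two elements of prime power orders (for distinct primes) centralizing a common nontrivial
element of a CN-group commute. -/
theorem commute_of_CN {G : Type*} [Group G] [Finite G] (hCN : Cfsg.IsCNGroup G) {q r : ℕ}
    (hq : q.Prime) (hr : r.Prime) (hqr : q ≠ r) (z a b : G) (hz : z ≠ 1)
    (haz : Commute a z) (hbz : Commute b z) (ha : ∃ i, a ^ q ^ i = 1)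
    (hb : ∃ j, b ^ r ^ j = 1) : Commute a b := by
  have hnil := hCN z hz
  have ha' : a ∈ Subgroup.centralizer ({z} : Set G) :=
    Subgroup.mem_centralizer_singleton_iff.mpr haz.eq
  have hb' : b ∈ Subgroup.centralizer ({z} : Set G) :=
    Subgroup.mem_centralizer_singleton_iff.mpr hbz.eq
  have hab := commute_of_nilpotent hnil hq hr hqr
    (⟨a, ha'⟩ : Subgroup.centralizer ({z} : Set G)) ⟨b, hb'⟩
    (by obtain ⟨i, hi⟩ := ha; exact ⟨i, Subtype.ext (by simpa using hi)⟩)
    (by obtain ⟨j, hj⟩ := hb; exact ⟨j, Subtype.ext (by simpa using hj)⟩)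
  exact congrArg Subtype.val hab.eq

/-- Elements commuting modulo `N` have their commutator in `N`. -/
theorem comm_mem {G : Type*} [Group G] (N : Subgroup G) [N.Normal] {u v : G}
    (h : Commute (QuotientGroup.mk u : G ⧸ N) (QuotientGroup.mk v)) :
    u⁻¹ * v * u * v⁻¹ ∈ N := by
  rw [← QuotientGroup.eq_one_iff]
  simp only [QuotientGroup.mk_mul, QuotientGroup.mk_inv]
  have h1 : (QuotientGroup.mk u : G ⧸ N)⁻¹ * QuotientGroup.mk v * QuotientGroup.mk u *
      (QuotientGroup.mk v)⁻¹ = (QuotientGroup.mk u : G ⧸ N)⁻¹ *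
      (QuotientGroup.mk v * QuotientGroup.mk u) * (QuotientGroup.mk v)⁻¹ := by group
  rw [h1, ← h.eq]
  group

/-- The `p`-case: if `x` is a `p`-element outside the nontrivial normal `p`-subgroup `N` of the
CN-group `G`, then elements of prime power orders for distinct primes which commute with `x`
modulo `N` commute. -/
theorem commute_of_p_case {G : Type*} [Group G] [Finite G] (hCN : Cfsg.IsCNGroup G) {p : ℕ}
    (hp : p.Prime) (N : Subgroup G) [hNn : N.Normal] (hN : IsPGroup p N) (hNbot : N ≠ ⊥)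
    (x : G) (hxN : x ∉ N) (hx : ∃ e, x ^ p ^ e = 1) {q r : ℕ} (hq : q.Prime) (hr : r.Prime)
    (hqr : q ≠ r) (a b : G)
    (haC : Commute (QuotientGroup.mk a : G ⧸ N) (QuotientGroup.mk x))
    (hbC : Commute (QuotientGroup.mk b : G ⧸ N) (QuotientGroup.mk x))
    (ha : ∃ i, a ^ q ^ i = 1) (hb : ∃ j, b ^ r ^ j = 1) : Commute a b := by
  haveI := Fact.mk hp
  let ZN : Subgroup G := Subgroup.centralizer (N : Set G) ⊓ N
  have hZNn : ZN.Normal := inferInstance
  let Z1 : Subgroup G := ZN ⊓ Subgroup.centralizer ({x} : Set G)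
  let C : Subgroup G := (Subgroup.centralizer
    ({(QuotientGroup.mk x : G ⧸ N)} : Set (G ⧸ N))).comap (QuotientGroup.mk' N)
  have hCmem : ∀ c, c ∈ C ↔ Commute (QuotientGroup.mk c : G ⧸ N) (QuotientGroup.mk x) := by
    intro c
    rw [Subgroup.mem_comap, Subgroup.mem_centralizer_singleton_iff]
    rfl
  obtain ⟨k, hk⟩ := IsPGroup.iff_card.mp hN
  have hNp : ∀ z ∈ N, ∃ i, z ^ p ^ i = 1 := by
    intro z hzN
    refine ⟨k, ?_⟩
    have := pow_card_eq_one' (G := N) (x := ⟨z, hzN⟩)
    rw [hk] at this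
    simpa using congrArg Subtype.val this
  have hZ1p : ∀ z ∈ Z1, ∃ i, z ^ p ^ i = 1 := fun z hz => hNp z hz.1.2
  have hZNbot : ZN ≠ ⊥ := by
    haveI : Nontrivial N := (Subgroup.nontrivial_iff_ne_bot N).mpr hNbot
    have h1 : Subgroup.center N ≠ ⊥ := (hN.bot_lt_center).ne'
    obtain ⟨w, hw⟩ := (Subgroup.ne_bot_iff_exists_ne_one).mp h1
    intro hbot
    have hmem : ((w : N) : G) ∈ ZN := by
      refine ⟨Subgroup.mem_centralizer_iff.mpr ?_, (w : N).2⟩
      intro n hn
      have := (Subgroup.mem_center_iff.mp w.2) ⟨n, hn⟩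
      exact congrArg Subtype.val this
    rw [hbot, Subgroup.mem_bot] at hmem
    apply hw
    apply Subtype.ext
    apply Subtype.ext
    simpa using hmem
  -- a nontrivial element of `Z1`
  obtain ⟨z0, hz0ZN, hz0ne, hz0x⟩ := exists_ne_one_commute hp ZN (hN.to_le inf_le_right)
    hZNbot x hx (fun t _ a ha => hZNn.conj_mem a ha t)
  have hz0Z1 : z0 ∈ Z1 := ⟨hz0ZN, Subgroup.mem_centralizer_singleton_iff.mpr hz0x.eq.symm⟩
  have hZ1bot : Z1 ≠ ⊥ := by
    intro hbot
    rw [hbot, Subgroup.mem_bot] at hz0Z1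
    exact hz0ne hz0Z1
  -- `C` normalizes `Z1`
  have hF2 : ∀ c ∈ C, ∀ z ∈ Z1, c * z * c⁻¹ ∈ Z1 := by
    intro c hc z hz
    refine ⟨hZNn.conj_mem z hz.1 c, Subgroup.mem_centralizer_singleton_iff.mpr ?_⟩
    obtain ⟨n, hndef⟩ : ∃ n, n = x⁻¹ * c⁻¹ * x * c := ⟨_, rfl⟩
    have hn : n ∈ N := by
      have h1 : Commute (QuotientGroup.mk x : G ⧸ N) (QuotientGroup.mk c⁻¹) :=
        ((hCmem c).mp hc).symm.inv_right
      have := comm_mem N h1
      rw [hndef]
      simpa using this
    have hzx : z * x = x * z := Subgroup.mem_centralizer_singleton_iff.mp hz.2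
    have hzn : n * z = z * n := (Subgroup.mem_centralizer_iff.mp hz.1.1) _ hn
    have hcx : c⁻¹ * x * c = x * n := by
      rw [hndef]
      group
    have hzxn : z * (x * n) = x * n * z := by
      rw [← mul_assoc, hzx, mul_assoc, ← hzn, mul_assoc]
    calc c * z * c⁻¹ * x = c * (z * (c⁻¹ * x * c)) * c⁻¹ := by group
      _ = c * (z * (x * n)) * c⁻¹ := by rw [← hcx]
      _ = c * (x * n * z) * c⁻¹ := by rw [hzxn]
      _ = c * ((c⁻¹ * x * c) * z) * c⁻¹ := by rw [← hcx]
      _ = x * (c * z * c⁻¹) := by group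
  -- `p'`-elements of `C` of prime power order centralize `Z1`
  have hα : ∀ a ∈ C, ∀ q : ℕ, q.Prime → q ≠ p → (∃ i, a ^ q ^ i = 1) →
      ∀ z ∈ Z1, Commute a z := by
    intro a ha q hq hqp hai z hz
    have hmem : x⁻¹ * a * x * a⁻¹ ∈ N := comm_mem N ((hCmem a).mp ha).symm
    obtain ⟨n, hn, hcomm⟩ := exists_commute_mul hp hq hqp N hN a x hai hmem
    have hxn : x * n ≠ 1 := by
      intro h
      apply hxN
      have : x = n⁻¹ := eq_inv_of_mul_eq_one_left h
      rw [this]
      exact N.inv_mem hn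
    have hzx : z * x = x * z := Subgroup.mem_centralizer_singleton_iff.mp hz.2
    have hzn : n * z = z * n := (Subgroup.mem_centralizer_iff.mp hz.1.1) _ hn
    have hzxn : Commute z (x * n) := by
      change z * (x * n) = x * n * z
      rw [← mul_assoc, hzx, mul_assoc, ← hzn, mul_assoc]
    exact commute_of_CN hCN hq hp hqp (x * n) a z hxn hcomm hzxn hai (hZ1p z hz)
  -- `p`-elements of `C` centralize some nontrivial element of `Z1`
  have hβ : ∀ u ∈ C, (∃ i, u ^ p ^ i = 1) → ∃ z ∈ Z1, z ≠ 1 ∧ Commute u z := by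
    intro u hu hui
    exact exists_ne_one_commute hp Z1 (hN.to_le (inf_le_left.trans inf_le_right)) hZ1bot u hui
      (fun t ht a ha => hF2 t (Subgroup.zpowers_le.mpr hu ht) a ha)
  have haC' : a ∈ C := (hCmem a).mpr haC
  have hbC' : b ∈ C := (hCmem b).mpr hbC
  by_cases hqp : q = p
  · have hrp : r ≠ p := fun h => hqr (hqp.trans h.symm)
    obtain ⟨z, hz, hz1, hcz⟩ := hβ a haC' (hqp ▸ ha)
    exact commute_of_CN hCN hq hr hqr z a b hz1 hcz (hα b hbC' r hr hrp hb z hz) ha hb
  · by_cases hrp : r = p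
    · obtain ⟨z, hz, hz1, hcz⟩ := hβ b hbC' (hrp ▸ hb)
      exact commute_of_CN hCN hq hr hqr z a b hz1 (hα a haC' q hq hqp ha z hz) hcz ha hb
    · exact commute_of_CN hCN hq hr hqr z0 a b hz0ne (hα a haC' q hq hqp ha z0 hz0Z1)
        (hα b hbC' r hr hrp hb z0 hz0Z1) ha hb

/-- The quotient of a finite CN-group by a nontrivial normal `p`-subgroup is a CN-group. -/
theorem isCN_quotient_pgroup {G : Type*} [Group G] [Finite G] (hCN : Cfsg.IsCNGroup G) {p : ℕ}
    (hp : p.Prime) (N : Subgroup G) [hNn : N.Normal] (hN : IsPGroup p N) (hNbot : N ≠ ⊥) :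
    Cfsg.IsCNGroup (G ⧸ N) := by
  intro y' hy'
  have hord : orderOf y' ≠ 1 := by rwa [Ne, orderOf_eq_one_iff]
  have hsp : (orderOf y').minFac.Prime := Nat.minFac_prime hord
  have hsdvd : (orderOf y').minFac ∣ orderOf y' := Nat.minFac_dvd _
  generalize (orderOf y').minFac = s at hsp hsdvd
  have hx's : (y' ^ (orderOf y' / s)) ^ s = 1 := by
    rw [← pow_mul, Nat.div_mul_cancel hsdvd, pow_orderOf_eq_one]
  have hx'1 : y' ^ (orderOf y' / s) ≠ 1 := by
    intro h
    have h1 := orderOf_dvd_of_pow_eq_one h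
    have hpos : 0 < orderOf y' := orderOf_pos y'
    have h2 : orderOf y' / s < orderOf y' := Nat.div_lt_self hpos hsp.one_lt
    have h3 : 0 < orderOf y' / s := Nat.div_pos (Nat.le_of_dvd hpos hsdvd) hsp.pos
    exact absurd (Nat.le_of_dvd h3 h1) (not_le.mpr h2)
  have hle : Subgroup.centralizer ({y'} : Set (G ⧸ N)) ≤
      Subgroup.centralizer ({y' ^ (orderOf y' / s)} : Set (G ⧸ N)) := by
    intro g hg
    rw [Subgroup.mem_centralizer_singleton_iff] at hg ⊢
    have hc : Commute g y' := hg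
    exact (hc.pow_right _).eq
  refine isNilpotent_of_le ?_ hle
  generalize y' ^ (orderOf y' / s) = x' at hx's hx'1
  by_cases hsp' : s = p
  · obtain ⟨x, hx, hxp⟩ := exists_lift hp hp N hN x' ⟨1, by rw [pow_one, ← hsp']; exact hx's⟩
    have hxN : x ∉ N := by
      rw [← QuotientGroup.eq_one_iff, hx]
      exact hx'1
    apply isNilpotent_of_commute
    intro q r hq hr hqr a' b' ha' hb'
    obtain ⟨a, haa, hap⟩ := exists_lift hp hq N hN (a' : G ⧸ N)
      (by obtain ⟨i, hi⟩ := ha'; exact ⟨i, by simpa using congrArg Subtype.val hi⟩)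
    obtain ⟨b, hbb, hbp⟩ := exists_lift hp hr N hN (b' : G ⧸ N)
      (by obtain ⟨j, hj⟩ := hb'; exact ⟨j, by simpa using congrArg Subtype.val hj⟩)
    have haC : Commute (QuotientGroup.mk a : G ⧸ N) (QuotientGroup.mk x) := by
      rw [haa, hx]
      exact Subgroup.mem_centralizer_singleton_iff.mp a'.2
    have hbC : Commute (QuotientGroup.mk b : G ⧸ N) (QuotientGroup.mk x) := by
      rw [hbb, hx]
      exact Subgroup.mem_centralizer_singleton_iff.mp b'.2
    have hab := commute_of_p_case hCN hp N hN hNbot x hxN hxp hq hr hqr a b haC hbC hap hbp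
    apply Subtype.ext
    change (a' : G ⧸ N) * b' = b' * a'
    rw [← haa, ← hbb, ← QuotientGroup.mk_mul, ← QuotientGroup.mk_mul, hab.eq]
  · obtain ⟨x, hx, hxs⟩ := exists_lift hp hsp N hN x' ⟨1, by rw [pow_one]; exact hx's⟩
    have hx1 : x ≠ 1 := by
      rintro rfl
      apply hx'1
      rw [← hx]
      rfl
    have hnil := hCN x hx1
    have hle2 : Subgroup.centralizer ({x'} : Set (G ⧸ N)) ≤
        (Subgroup.centralizer ({x} : Set G)).map (QuotientGroup.mk' N) := by
      intro g' hg'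
      obtain ⟨g, rfl⟩ := QuotientGroup.mk_surjective g'
      have hcomm : Commute (QuotientGroup.mk g : G ⧸ N) (QuotientGroup.mk x) := by
        rw [hx]
        exact Subgroup.mem_centralizer_singleton_iff.mp hg'
      obtain ⟨n, hn, hc⟩ := exists_commute_mul hp hsp hsp' N hN x g hxs (comm_mem N hcomm)
      refine ⟨g * n, Subgroup.mem_centralizer_singleton_iff.mpr hc.eq.symm, ?_⟩
      change (QuotientGroup.mk (g * n) : G ⧸ N) = QuotientGroup.mk g
      rw [QuotientGroup.mk_mul, (QuotientGroup.eq_one_iff n).mpr hn, mul_one]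
    exact isNilpotent_of_le (isNilpotent_map _ hnil _) hle2

/-- A nontrivial subgroup which is solvable (as a group) properly contains its derived
subgroup. -/
theorem commutator_lt_of_solvable {G : Type*} [Group G] (M : Subgroup G)
    (hMs : Group.IsSolvable M) (hM : M ≠ ⊥) : ⁅M, M⁆ < M := by
  haveI := hMs
  rw [← Subgroup.nontrivial_iff_ne_bot] at hM
  have h1 : commutator M < ⊤ := Group.IsSolvable.commutator_lt_top_of_nontrivial M
  have h2 := (Subgroup.map_subtype_lt_map_subtype (G' := M)).mpr h1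
  rw [Subgroup.map_subtype_commutator, ← MonoidHom.range_eq_map, Subgroup.range_subtype] at h2
  exact h2

open scoped commutatorElement in
/-- A nontrivial solvable normal subgroup `H` of a finite group `G` contains a nontrivial
normal `p`-subgroup of `G`. -/
theorem exists_normal_pgroup {G : Type*} [Group G] [Finite G] (H : Subgroup G) [hHn : H.Normal]
    (hH : Group.IsSolvable H) (hbot : H ≠ ⊥) :
    ∃ p : ℕ, p.Prime ∧ ∃ N : Subgroup G, N.Normal ∧ N ≤ H ∧ N ≠ ⊥ ∧ IsPGroup p N := by
  obtain ⟨M, -, hMmin⟩ := Finite.exists_le_minimal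
    (p := fun K : Subgroup G => K.Normal ∧ K ≤ H ∧ K ≠ ⊥) (a := H) ⟨hHn, le_rfl, hbot⟩
  obtain ⟨hMn, hMH, hMbot⟩ := hMmin.prop
  haveI := hMn
  have hMsolv : Group.IsSolvable M := by
    haveI := hH
    exact Group.isSolvable_of_isSolvable_injective (f := Subgroup.inclusion hMH)
      (Subgroup.inclusion_injective hMH)
  have hcomm : ⁅M, M⁆ = ⊥ := by
    by_contra hne
    have hnorm : (⁅M, M⁆ : Subgroup G).Normal := inferInstance
    have hlt := commutator_lt_of_solvable M hMsolv hMbot
    have := hMmin.le_of_le ⟨hnorm, hlt.le.trans hMH, hne⟩ hlt.le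
    exact absurd this (not_le_of_gt hlt)
  have hMc : ∀ a ∈ M, ∀ b ∈ M, a * b = b * a := by
    intro a ha b hb
    have : ⁅a, b⁆ ∈ ⁅M, M⁆ := Subgroup.commutator_mem_commutator ha hb
    rw [hcomm, Subgroup.mem_bot] at this
    exact commutatorElement_eq_one_iff_mul_comm.mp this
  have hcard : Nat.card M ≠ 1 := by
    rw [Ne, Subgroup.card_eq_one]
    exact hMbot
  have hp : (Nat.card M).minFac.Prime := Nat.minFac_prime hcard
  have hpdvd : (Nat.card M).minFac ∣ Nat.card M := Nat.minFac_dvd _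
  generalize (Nat.card M).minFac = p at hp hpdvd
  haveI := Fact.mk hp
  obtain ⟨w, hw⟩ := exists_prime_orderOf_dvd_card' (G := M) p hpdvd
  let P : Subgroup G :=
    { carrier := {g | g ∈ M ∧ g ^ p = 1}
      one_mem' := ⟨M.one_mem, one_pow p⟩
      mul_mem' := by
        rintro a b ⟨ha, ha'⟩ ⟨hb, hb'⟩
        refine ⟨M.mul_mem ha hb, ?_⟩
        have hc : Commute a b := hMc a ha b hb
        rw [hc.mul_pow, ha', hb', one_mul]
      inv_mem' := by
        rintro a ⟨ha, ha'⟩
        exact ⟨M.inv_mem ha, by rw [inv_pow, ha', inv_one]⟩ }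
  have hPmem : ∀ g, g ∈ P ↔ g ∈ M ∧ g ^ p = 1 := fun g => Iff.rfl
  refine ⟨p, hp, P, ?_, ?_, ?_, ?_⟩
  · constructor
    intro a ha g
    rw [hPmem] at ha ⊢
    refine ⟨hMn.conj_mem a ha.1 g, ?_⟩
    rw [conj_pow, ha.2]
    group
  · intro a ha
    exact hMH ((hPmem a).mp ha).1
  · intro hP
    have hwP : (w : G) ∈ P := by
      rw [hPmem]
      refine ⟨w.2, ?_⟩
      have h1 : w ^ p = 1 := by rw [← hw]; exact pow_orderOf_eq_one w
      simpa using congrArg Subtype.val h1
    rw [hP, Subgroup.mem_bot] at hwP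
    have hw1 : w = 1 := Subtype.ext (by simpa using hwP)
    rw [hw1, orderOf_one] at hw
    exact hp.one_lt.ne hw
  · intro a
    refine ⟨1, Subtype.ext ?_⟩
    have := ((hPmem a).mp a.2).2
    simpa using this

/-- Main induction: the statement for all finite groups of a given universe, by strong
induction on the order. -/
theorem main (n : ℕ) : ∀ (G : Type u) [Group G] [Finite G], Nat.card G = n → Cfsg.IsCNGroup G →
    ∀ (H : Subgroup G) [H.Normal], Group.IsSolvable H → Cfsg.IsCNGroup (G ⧸ H) := by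
  induction n using Nat.strong_induction_on with
  | _ n ih =>
    intro G _ _ hn hCN H _ hH
    by_cases hbot : H = ⊥
    · subst hbot
      exact isCN_of_mulEquiv (QuotientGroup.quotientBot (G := G)).symm hCN
    · obtain ⟨p, hp, N, hNn, hNH, hNbot, hNp⟩ := exists_normal_pgroup H hH hbot
      haveI := hNn
      have h1 : Cfsg.IsCNGroup (G ⧸ N) := isCN_quotient_pgroup hCN hp N hNp hNbot
      have hcard : Nat.card (G ⧸ N) < n := by
        rw [← hn, Subgroup.card_eq_card_quotient_mul_card_subgroup N]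
        have h2 : 1 < Nat.card N := (Subgroup.one_lt_card_iff_ne_bot N).mpr hNbot
        have h3 : 0 < Nat.card (G ⧸ N) := Nat.card_pos
        nlinarith
      have hsolv : Group.IsSolvable (H.map (QuotientGroup.mk' N)) := by
        haveI := hH
        exact Group.isSolvable_of_surjective (f := (QuotientGroup.mk' N).subgroupMap H)
          ((QuotientGroup.mk' N).subgroupMap_surjective H)
      have h2 := ih _ hcard (G ⧸ N) rfl h1 (H.map (QuotientGroup.mk' N)) hsolv
      exact isCN_of_mulEquiv (QuotientGroup.quotientQuotientEquivQuotient N H hNH) h2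

theorem result {G : Type*} [Group G] [Finite G] (hCN : Cfsg.IsCNGroup G) (H : Subgroup G) [H.Normal] (hH : Group.IsSolvable H) :
    Cfsg.IsCNGroup (G ⧸ H) := by
  exact main (Nat.card G) G rfl hCN H hH

end Cfsg.Agent.S1473
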