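import Cfsg.Statements.S1474
import Mathlib
import Cfsg.Agent.Lib.Helper45.CNTools
import Cfsg.Agent.Lib.Helper45.FittingHall

set_option autoImplicit false
open Cfsg

namespace Cfsg.Agent.S1474

open Cfsg.Agent.Helper45.CN Cfsg.Agent.Helper45.FH Cfsg.Agent.Helper45.Nilp
open scoped Pointwise

universe u

variable {G : Type u} [Group G] [Finite G]

/-- no nonidentity element of a complement `E` of `F = fittingHall G` centralizes a nonidentity
element of `F` (in a CN-group). -/
theorem cent_eq_bot (hCN : Cfsg.IsCNGroup G) (E : Subgroup G)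
    (hFE : Cfsg.fittingHall G ⊓ E = ⊥)
    (hcop : (Nat.card (Cfsg.fittingHall G)).Coprime (Nat.card E))
    (hF1 : Cfsg.fittingHall G ≠ ⊥) :
    ∀ e ∈ E, e ≠ 1 → Cfsg.fittingHall G ⊓ Subgroup.centralizer ({e} : Set G) = ⊥ := by
  set F := Cfsg.fittingHall G with hFdef
  have hFn : F.Normal := Cfsg.fittingHall_normal G
  have hFnil : Group.IsNilpotent F := fittingHall_nilpotent
  intro e heE he1
  rw [Subgroup.eq_bot_iff_forall]
  intro x hx
  obtain ⟨hxF, hxC⟩ := Subgroup.mem_inf.mp hx
  by_contra hx1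
  rw [Subgroup.mem_centralizer_singleton_iff] at hxC
  -- a power `e'` of `e` of prime order `r`
  have hord1 : orderOf e ≠ 1 := by rwa [Ne, orderOf_eq_one_iff]
  obtain ⟨r, hr, hrd⟩ := Nat.exists_prime_and_dvd hord1
  have : Fact r.Prime := ⟨hr⟩
  have he'ord : orderOf (e ^ (orderOf e / r)) = r :=
    orderOf_pow_orderOf_div (orderOf_pos e).ne' hrd
  set e' := e ^ (orderOf e / r) with he'def
  have he'E : e' ∈ E := E.pow_mem heE _
  have he'1 : e' ≠ 1 := by
    intro h
    rw [h, orderOf_one] at he'ord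
    exact hr.one_lt.ne he'ord
  have hxe' : Commute e' x := by
    have : Commute e x := hxC.symm
    exact this.pow_left _
  have hrE : r ∣ Nat.card E := by
    have := orderOf_dvd_natCard (⟨e', he'E⟩ : E)
    rwa [Subgroup.orderOf_mk, he'ord] at this
  have hFr : ∀ f ∈ F, (orderOf f).Coprime r := by
    intro f hf
    have h1 : orderOf f ∣ Nat.card F := by
      have := orderOf_dvd_natCard (⟨f, hf⟩ : F)
      rwa [Subgroup.orderOf_mk] at this
    exact Nat.Coprime.coprime_dvd_left h1 (Nat.Coprime.coprime_dvd_right hrE hcop)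
  -- a nonidentity central element `z` of `F`
  have hFnt : Nontrivial F := (Subgroup.nontrivial_iff_ne_bot F).mpr hF1
  have hcen := Group.IsNilpotent.center_ne_bot (G := F)
  obtain ⟨⟨z₀, hz₀c⟩, hz₀1⟩ := (Subgroup.ne_bot_iff_exists_ne_one).mp hcen
  have hz1 : (z₀ : G) ≠ 1 := by
    intro h
    apply hz₀1
    apply Subtype.ext
    apply Subtype.ext
    exact h
  have hzF : (z₀ : G) ∈ F := z₀.2
  have hzc : ∀ f ∈ F, Commute (z₀ : G) f := by
    intro f hf
    have := Subgroup.mem_center_iff.mp hz₀c ⟨f, hf⟩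
    exact (congrArg Subtype.val this).symm
  -- `e'` centralizes `F`
  have h1 : Commute e' (z₀ : G) :=
    cn_commute hCN hx1 hxe' (hzc x hxF).symm hr (k := 1) (by rw [pow_one, he'ord]) (hFr _ hzF)
  have h2 : ∀ f ∈ F, Commute e' f := fun f hf =>
    cn_commute hCN hz1 h1 (hzc f hf) hr (k := 1) (by rw [pow_one, he'ord]) (hFr f hf)
  -- a Sylow `r`-subgroup `R` containing `e'`
  have hZP : IsPGroup r (Subgroup.zpowers e') := by
    apply IsPGroup.of_card (n := 1)
    rw [Nat.card_zpowers, he'ord, pow_one]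
  obtain ⟨R, hR⟩ := hZP.exists_le_sylow
  have he'R : e' ∈ (R : Subgroup G) := hR (Subgroup.mem_zpowers e')
  have hRne : (R : Subgroup G) ≠ ⊥ := by
    intro h
    rw [h, Subgroup.mem_bot] at he'R
    exact he'1 he'R
  have hRnt : Nontrivial (R : Subgroup G) := (Subgroup.nontrivial_iff_ne_bot _).mpr hRne
  have hRcen : Nontrivial (Subgroup.center (R : Subgroup G)) := R.isPGroup'.center_nontrivial
  obtain ⟨w₀, hw₀1⟩ := exists_ne (1 : Subgroup.center (R : Subgroup G))
  have hw1 : ((w₀ : (R : Subgroup G)) : G) ≠ 1 := by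
    intro h
    apply hw₀1
    apply Subtype.ext
    apply Subtype.ext
    exact h
  have hwR : ((w₀ : (R : Subgroup G)) : G) ∈ (R : Subgroup G) := (w₀ : (R : Subgroup G)).2
  have hwc : ∀ y ∈ (R : Subgroup G), Commute y ((w₀ : (R : Subgroup G)) : G) := by
    intro y hy
    have := Subgroup.mem_center_iff.mp w₀.2 ⟨y, hy⟩
    exact congrArg Subtype.val this
  have hRord : ∀ y ∈ (R : Subgroup G), ∃ j, orderOf y = r ^ j := by
    intro y hy
    obtain ⟨j, hj⟩ := (IsPGroup.iff_orderOf.mp R.isPGroup') ⟨y, hy⟩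
    exact ⟨j, by rw [← hj, Subgroup.orderOf_mk]⟩
  obtain ⟨jw, hjw⟩ := hRord _ hwR
  have h3 : ∀ f ∈ F, Commute ((w₀ : (R : Subgroup G)) : G) f := fun f hf =>
    cn_commute hCN he'1 (hwc e' he'R).symm (h2 f hf) hr hjw (hFr f hf)
  have h4 : ∀ y ∈ (R : Subgroup G), ∀ f ∈ F, Commute y f := by
    intro y hy f hf
    obtain ⟨j, hj⟩ := hRord y hy
    exact cn_commute hCN hw1 (hwc y hy) (h3 f hf) hr hj (hFr f hf)
  -- `C = C_G(F)` is a nilpotent normal subgroup containing `R`
  set C := Subgroup.centralizer (F : Set G) with hCdef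
  have hCn : C.Normal := Subgroup.normal_centralizer
  have hRC : (R : Subgroup G) ≤ C := by
    intro y hy
    rw [hCdef, Subgroup.mem_centralizer_iff]
    intro f hf
    exact ((h4 y hy f hf).eq).symm
  have hCnil : Group.IsNilpotent C := by
    apply nilpotent_of_le (hCN (z₀ : G) hz1)
    intro c hc
    rw [Subgroup.mem_centralizer_singleton_iff]
    rw [hCdef, Subgroup.mem_centralizer_iff] at hc
    exact (hc _ hzF).symm
  -- `R` is normal in `G`
  have hRn : (R : Subgroup G).Normal := by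
    constructor
    intro y hy g
    have hyC : g * y * g⁻¹ ∈ C := hCn.conj_mem y (hRC hy) g
    obtain ⟨j, hj⟩ := hRord y hy
    have hord : orderOf (⟨g * y * g⁻¹, hyC⟩ : C) = r ^ j := by
      rw [Subgroup.orderOf_mk, ← hj, ← MulAut.conj_apply]
      exact MulEquiv.orderOf_eq _ _
    have hRCn : ((R.subtype hRC : Sylow r C) : Subgroup C).Normal := inferInstance
    have := mem_sylow_of_normal (R.subtype hRC) hRCn hord
    rw [Sylow.coe_subtype, Subgroup.mem_subgroupOf] at this
    exact this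
  have hRF : (R : Subgroup G) ≤ F := sylow_le_fittingHall R hRn
  have : e' ∈ F ⊓ E := Subgroup.mem_inf.mpr ⟨hRF he'R, he'E⟩
  rw [hFE, Subgroup.mem_bot] at this
  exact he'1 this

/-- Let G be a finite group in which every non-identity element has nilpotent centralizer, not itself nilpotent, and having a nontrivial normal Sylow p-subgroup for some prime p. Let H be the largest normal nilpotent Hall subgroup of G. Then H is a nontrivial proper normal subgroup with a complement E that is a Frobenius complement in G (no non-identity element of E centralizes a non-identity element of H), and G/H is nilpotent. -/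
theorem result {G : Type*} [Group G] [Finite G] (hCN : Cfsg.IsCNGroup G) (hnn : ¬ Group.IsNilpotent G) (p : ℕ) [Fact p.Prime] (P : Sylow p G)
    (hP1 : (P : Subgroup G) ≠ ⊥) (hPn : (P : Subgroup G).Normal) :
    Cfsg.fittingHall G ≠ ⊥ ∧ Cfsg.fittingHall G ≠ ⊤ ∧
      (∃ E : Subgroup G, Subgroup.IsComplement' (Cfsg.fittingHall G) E ∧ Cfsg.IsFrobeniusComplement E ∧
        ∀ e ∈ E, e ≠ 1 → Cfsg.fittingHall G ⊓ Subgroup.centralizer ({e} : Set G) = ⊥) ∧
      Group.IsNilpotent (G ⧸ Cfsg.fittingHall G) := by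
  set F := Cfsg.fittingHall G with hFdef
  have hFn : F.Normal := Cfsg.fittingHall_normal G
  have hFnil : Group.IsNilpotent F := fittingHall_nilpotent
  have hFcop : (Nat.card F).Coprime F.index := fittingHall_coprime
  have hPF : (P : Subgroup G) ≤ F := sylow_le_fittingHall P hPn
  have hF1 : F ≠ ⊥ := by
    intro h
    rw [h, le_bot_iff] at hPF
    exact hP1 hPF
  have hF2 : F ≠ ⊤ := by
    intro h
    rw [h] at hFnil
    exact hnn (Group.nilpotent_of_mulEquiv Subgroup.topEquiv)
  obtain ⟨E, hE⟩ := Subgroup.exists_right_complement'_of_coprime hFcop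
  have hFE : F ⊓ E = ⊥ := hE.disjoint.eq_bot
  have hEcard : Nat.card E = F.index := hE.symm.index_eq_card.symm
  have hcop : (Nat.card F).Coprime (Nat.card E) := by rw [hEcard]; exact hFcop
  have hprod : ∀ g : G, ∃ f ∈ F, ∃ e ∈ E, g = f * e := by
    intro g
    obtain ⟨⟨⟨f, hf⟩, ⟨e, he⟩⟩, hfe, -⟩ := hE.existsUnique g
    exact ⟨f, hf, e, he, hfe.symm⟩
  have key := cent_eq_bot hCN E hFE hcop hF1
  -- `E` is a Frobenius complement
  have hEfrob : Cfsg.IsFrobeniusComplement E := by
    refine ⟨?_, ?_, ?_⟩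
    · intro h
      apply hF2
      rw [eq_top_iff]
      intro g _
      obtain ⟨f, hf, e, he, rfl⟩ := hprod g
      rw [h, Subgroup.mem_bot] at he
      rw [he, mul_one]
      exact hf
    · intro h
      apply hF1
      rw [← hFE, h, inf_top_eq]
    · intro g hg
      rw [Subgroup.eq_bot_iff_forall]
      intro y hy
      obtain ⟨hyE, hyc⟩ := Subgroup.mem_inf.mp hy
      obtain ⟨s, hs, hsy⟩ := (Subgroup.mem_smul_pointwise_iff_exists _ _ _).mp hyc
      rw [MulAut.smul_def, MulAut.conj_apply] at hsy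
      obtain ⟨f, hf, e, he, rfl⟩ := hprod g
      by_contra hy1
      -- `y = f e₁ f⁻¹` with `e₁ = e s e⁻¹ ∈ E`
      have he₁ : e * s * e⁻¹ ∈ E := E.mul_mem (E.mul_mem he hs) (E.inv_mem he)
      have hy' : y = f * (e * s * e⁻¹) * f⁻¹ := by rw [← hsy]; group
      have hyF : y * (e * s * e⁻¹)⁻¹ ∈ F := by
        have h1 : (e * s * e⁻¹) * f⁻¹ * (e * s * e⁻¹)⁻¹ ∈ F :=
          hFn.conj_mem _ (F.inv_mem hf) _
        have h2 : y * (e * s * e⁻¹)⁻¹ = f * ((e * s * e⁻¹) * f⁻¹ * (e * s * e⁻¹)⁻¹) := by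
          rw [hy']; group
        rw [h2]
        exact F.mul_mem hf h1
      have hyE' : y * (e * s * e⁻¹)⁻¹ ∈ E := E.mul_mem hyE (E.inv_mem he₁)
      have h1 : y * (e * s * e⁻¹)⁻¹ ∈ F ⊓ E := Subgroup.mem_inf.mpr ⟨hyF, hyE'⟩
      rw [hFE, Subgroup.mem_bot] at h1
      have hye : y = e * s * e⁻¹ := mul_inv_eq_one.mp h1
      -- so `f` centralizes `y`
      have hfc : f ∈ F ⊓ Subgroup.centralizer ({y} : Set G) := by
        refine Subgroup.mem_inf.mpr ⟨hf, ?_⟩
        rw [Subgroup.mem_centralizer_singleton_iff]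
        have h3 : y = f * y * f⁻¹ := by
          conv_lhs => rw [hy', ← hye]
        calc f * y = f * y * f⁻¹ * f := by group
          _ = y * f := by rw [← h3]
      rw [key y hyE hy1, Subgroup.mem_bot] at hfc
      apply hg
      rw [hfc, one_mul]
      exact he
  refine ⟨hF1, hF2, ⟨E, hE, hEfrob, key⟩, ?_⟩
  -- `E` is nilpotent, acting fixed-point-freely on `Z(F)`
  have hEnil : Group.IsNilpotent E := by
    have hFnt : Nontrivial F := (Subgroup.nontrivial_iff_ne_bot F).mpr hF1
    have hcen := Group.IsNilpotent.center_ne_bot (G := F)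
    set V := (Subgroup.center F).map F.subtype with hVdef
    have hVn : V.Normal := inferInstance
    have hVF : V ≤ F := Subgroup.map_subtype_le _
    have hV1 : V ≠ ⊥ := by
      intro h
      apply hcen
      rw [hVdef] at h
      exact (Subgroup.map_eq_bot_iff_of_injective _ F.subtype_injective).mp h
    apply cn_fpf_nilpotent hCN V E hV1
    · rw [Subgroup.normalizer_eq_top]
      exact le_top
    · intro e he he1
      rw [eq_bot_iff, ← key e he he1]
      exact inf_le_inf_right _ hVF
  -- `G ⧸ F` is a quotient of `E`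
  have hsurj : Function.Surjective ((QuotientGroup.mk' F).comp E.subtype) := by
    intro x
    obtain ⟨g, rfl⟩ := QuotientGroup.mk'_surjective F x
    obtain ⟨f, hf, e, he, rfl⟩ := hprod g
    refine ⟨⟨e, he⟩, ?_⟩
    simp only [MonoidHom.coe_comp, Function.comp_apply, Subgroup.coe_subtype, QuotientGroup.mk'_apply]
    rw [QuotientGroup.eq]
    have : e⁻¹ * (f * e) = e⁻¹ * f * e⁻¹⁻¹ := by group
    rw [this]
    exact hFn.conj_mem f hf e⁻¹
  exact Group.nilpotent_of_surjective _ hsurj

end Cfsg.Agent.S1474
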