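import Cfsg.Statements.S0015
import Mathlib

set_option autoImplicit false
open Cfsg
open scoped commutatorElement

namespace Cfsg.Agent.S0015

/-- A nontrivial normal subgroup of a nilpotent group meets the centre nontrivially. -/
theorem normal_inf_center_ne_bot {G : Type*} [Group G] [hG : Group.IsNilpotent G]
    (H : Subgroup G) [H.Normal] (hH : H ≠ ⊥) : H ⊓ Subgroup.center G ≠ ⊥ := by
  classical
  obtain ⟨n, hn⟩ := hG.nilpotent'
  have hex : ∃ i, H ⊓ Subgroup.upperCentralSeries G i ≠ ⊥ := ⟨n, by rw [hn, inf_top_eq]; exact hH⟩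
  have hmin := fun m => Nat.find_min hex (m := m)
  have hspec := Nat.find_spec hex
  set i := Nat.find hex with hi
  cases hi' : i with
  | zero =>
    rw [hi', Subgroup.upperCentralSeries_zero, inf_bot_eq] at hspec
    exact absurd rfl hspec
  | succ j =>
    have hj : H ⊓ Subgroup.upperCentralSeries G j = ⊥ := by
      have := hmin j (by omega)
      push Not at this
      exact this
    rw [hi'] at hspec
    intro hbot
    apply hspec
    rw [eq_bot_iff, ← hbot]
    intro h hh
    refine ⟨hh.1, ?_⟩
    change h ∈ Subgroup.center G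
    rw [Subgroup.mem_center_iff]
    intro g
    have h1 : ⁅h, g⁆ ∈ Subgroup.upperCentralSeries G j :=
      Subgroup.mem_upperCentralSeries_succ_iff.mp hh.2 g
    have h2 : ⁅h, g⁆ ∈ H := by
      rw [commutatorElement_def]
      have : h * g * h⁻¹ * g⁻¹ = h * (g * h⁻¹ * g⁻¹) := by group
      rw [this]
      exact H.mul_mem hh.1 (‹H.Normal›.conj_mem _ (H.inv_mem hh.1) g)
    have h3 : ⁅h, g⁆ ∈ H ⊓ Subgroup.upperCentralSeries G j := ⟨h2, h1⟩
    rw [hj, Subgroup.mem_bot, commutatorElement_eq_one_iff_mul_comm] at h3
    exact h3.symm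

/-- In a finite nilpotent group, an abelian normal subgroup that is maximal among abelian normal subgroups equals its own centralizer. -/
theorem result {G : Type*} [Group G] [Finite G] [Group.IsNilpotent G]
    (N : Subgroup G) [N.Normal] [IsMulCommutative N]
    (hmax : ∀ M : Subgroup G, M.Normal → IsMulCommutative M → N ≤ M → M = N) :
    Subgroup.centralizer (N : Set G) = N := by
  have hNC : N ≤ Subgroup.centralizer (N : Set G) := Subgroup.le_centralizer N
  by_contra hne
  have hlt : N < Subgroup.centralizer (N : Set G) := lt_of_le_of_ne hNC (Ne.symm hne)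
  set C := Subgroup.centralizer (N : Set G) with hC
  -- the image of C in G ⧸ N is a nontrivial normal subgroup
  have hCbar_ne : C.map (QuotientGroup.mk' N) ≠ ⊥ := by
    intro h
    rw [Subgroup.map_eq_bot_iff, QuotientGroup.ker_mk'] at h
    exact hlt.not_ge h
  haveI : (C.map (QuotientGroup.mk' N)).Normal :=
    Subgroup.Normal.map inferInstance _ (QuotientGroup.mk'_surjective N)
  have hmeet := normal_inf_center_ne_bot (C.map (QuotientGroup.mk' N)) hCbar_ne
  obtain ⟨⟨xbar, hxbar⟩, hxbar1⟩ := (Subgroup.ne_bot_iff_exists_ne_one).mp hmeet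
  obtain ⟨hxC, hxZ⟩ := hxbar
  obtain ⟨x, hxC', hx⟩ := Subgroup.mem_map.mp hxC
  have hx1 : ((xbar : G ⧸ N) ≠ 1) := by
    intro h; apply hxbar1; exact Subtype.ext h
  have hxN : x ∉ N := by
    intro h
    apply hx1
    rw [← hx]
    exact (QuotientGroup.eq_one_iff x).mpr h
  set M := N ⊔ Subgroup.zpowers x with hM
  have hMnormal : M.Normal := by
    have hz : (Subgroup.zpowers (xbar : G ⧸ N)).Normal := by
      constructor
      intro y hy g
      have hyZ : y ∈ Subgroup.center (G ⧸ N) := by
        obtain ⟨k, rfl⟩ := Subgroup.mem_zpowers_iff.mp hy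
        exact Subgroup.zpow_mem _ hxZ k
      rw [Subgroup.mem_center_iff] at hyZ
      rw [hyZ g, mul_inv_cancel_right]
      exact hy
    have hcomap : M = (Subgroup.zpowers (xbar : G ⧸ N)).comap (QuotientGroup.mk' N) := by
      rw [← hx]
      have : Subgroup.zpowers ((QuotientGroup.mk' N) x) =
          (Subgroup.zpowers x).map (QuotientGroup.mk' N) := by
        rw [MonoidHom.map_zpowers]
      rw [this, Subgroup.comap_map_eq, QuotientGroup.ker_mk', hM, sup_comm]
    rw [hcomap]
    exact Subgroup.Normal.comap hz _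
  have hMcomm : IsMulCommutative M := by
    rw [← Subgroup.le_centralizer_iff_isMulCommutative]
    have hzc : Subgroup.zpowers x ≤ Subgroup.centralizer (N : Set G) := by
      rw [Subgroup.zpowers_le]; exact hxC'
    have hzz : Subgroup.zpowers x ≤ Subgroup.centralizer (Subgroup.zpowers x : Set G) := by
      rw [Subgroup.le_centralizer_iff_isMulCommutative]
      infer_instance
    have h1 : N ≤ Subgroup.centralizer (M : Set G) := by
      rw [Subgroup.le_centralizer_iff, hM]
      exact sup_le hNC hzc
    have h2 : Subgroup.zpowers x ≤ Subgroup.centralizer (M : Set G) := by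
      rw [Subgroup.le_centralizer_iff, hM]
      exact sup_le (Subgroup.le_centralizer_iff.mp hzc) hzz
    exact sup_le h1 h2
  have := hmax M hMnormal hMcomm le_sup_left
  apply hxN
  rw [← this]
  exact (le_sup_right : Subgroup.zpowers x ≤ M) (Subgroup.mem_zpowers x)

end Cfsg.Agent.S0015
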