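import Cfsg.Statements.S1949
import Cfsg.Agent.Lib.Helper2.PResidual
import Cfsg.Agent.Lib.Helper24.ClassTwo
import Cfsg.Agent.Lib.Helper32.PGroupCenter

set_option autoImplicit false
open Cfsg
open scoped commutatorElement

namespace Cfsg.Agent.S1949

variable {P : Type*} [Group P]

/-- Coprime action, pointwise form: if `α` has order prime to `p` and fixes `x⁻¹ α(x)`, it fixes `x`. -/
theorem fix_of_fix_commutator {p : ℕ} [Fact p.Prime] (hP : IsPGroup p P)
    (α : MulAut P) (hα : (orderOf α).Coprime p) (x : P)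
    (h : α (x⁻¹ * α x) = x⁻¹ * α x) : α x = x := by
  set k := x⁻¹ * α x with hk
  have hαx : α x = x * k := by rw [hk]; group
  have hpow : ∀ n : ℕ, (α ^ n) x = x * k ^ n := by
    intro n
    induction n with
    | zero => simp
    | succ n ih =>
      rw [pow_succ', MulAut.mul_apply, ih, map_mul, map_pow, h, hαx, mul_assoc, ← pow_succ']
  have h1 : k ^ orderOf α = 1 := by
    have := hpow (orderOf α)
    rw [pow_orderOf_eq_one, MulAut.one_apply] at this
    exact mul_eq_left.mp this.symm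
  obtain ⟨j, hj⟩ := hP k
  have h2 : orderOf k ∣ orderOf α := orderOf_dvd_of_pow_eq_one h1
  have h3 : orderOf k ∣ p ^ j := orderOf_dvd_of_pow_eq_one hj
  have h4 : orderOf k = 1 := ((hα.pow_right j).coprime_dvd_left h2).eq_one_of_dvd h3
  have h5 : k = 1 := orderOf_eq_one_iff.mp h4
  rw [hαx, h5, mul_one]

/-- `H` is invariant under the automorphism group `G`. -/
def Inv (G : Subgroup (MulAut P)) (H : Subgroup P) : Prop := ∀ α ∈ G, ∀ h ∈ H, α h ∈ H

theorem Inv.map_eq {G : Subgroup (MulAut P)} {H : Subgroup P} (hH : Inv G H) {α : MulAut P}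
    (hα : α ∈ G) : H.map α.toMonoidHom = H := by
  apply le_antisymm
  · rintro _ ⟨h, hh, rfl⟩
    exact hH α hα h hh
  · intro h hh
    refine ⟨α⁻¹ h, hH α⁻¹ (G.inv_mem hα) h hh, ?_⟩
    exact MulAut.apply_inv_self P α h

theorem Inv.normal {G : Subgroup (MulAut P)} (hG : Cfsg.Inn P ≤ G) {H : Subgroup P}
    (hH : Inv G H) : H.Normal := by
  constructor
  intro h hh g
  have h1 : MulAut.conj g ∈ G := hG ⟨g, rfl⟩
  have h2 := hH _ h1 h hh
  simpa [MulAut.conj_apply] using h2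

theorem Inv.centralizer {G : Subgroup (MulAut P)} {H : Subgroup P} (hH : Inv G H) :
    Inv G (Subgroup.centralizer (H : Set P)) := by
  intro α hα z hz
  rw [Subgroup.mem_centralizer_iff] at hz ⊢
  intro h hh
  have h1 : α⁻¹ h ∈ H := hH α⁻¹ (G.inv_mem hα) h hh
  have h2 := hz _ h1
  have h3 := congrArg α h2
  rw [map_mul, map_mul, MulAut.apply_inv_self] at h3
  exact h3

theorem Inv.inf {G : Subgroup (MulAut P)} {H K : Subgroup P} (hH : Inv G H) (hK : Inv G K) :
    Inv G (H ⊓ K) := fun α hα x hx => ⟨hH α hα x hx.1, hK α hα x hx.2⟩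

/-- `[P, O^p(G)]`. -/
def P0 (p : ℕ) (G : Subgroup (MulAut P)) : Subgroup P :=
  Subgroup.closure {y : P | ∃ α ∈ Cfsg.pResidual p ↥G, ∃ x : P, y = x⁻¹ * (α : MulAut P) x}

theorem inv_P0 (p : ℕ) (G : Subgroup (MulAut P)) : Inv G (P0 p G) := by
  intro γ hγ y hy
  have hmap : (P0 p G).map γ.toMonoidHom ≤ P0 p G := by
    unfold P0
    rw [MonoidHom.map_closure, Subgroup.closure_le]
    rintro _ ⟨_, ⟨α, hα, x, rfl⟩, rfl⟩
    apply Subgroup.subset_closure
    have hn := Cfsg.Agent.Helper2.pResidual_normal (N := ↥G) p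
    refine ⟨⟨γ, hγ⟩ * α * ⟨γ, hγ⟩⁻¹, hn.conj_mem α hα ⟨γ, hγ⟩, γ x, ?_⟩
    simp [MulAut.mul_apply]
  exact hmap (Subgroup.mem_map_of_mem _ hy)

theorem mem_P0_of_coprime (p : ℕ) (G : Subgroup (MulAut P)) {α : MulAut P} (hα : α ∈ G)
    (hc : (orderOf α).Coprime p) (x : P) : x⁻¹ * α x ∈ P0 p G := by
  apply Subgroup.subset_closure
  refine ⟨⟨α, hα⟩, ?_, x, rfl⟩
  apply Subgroup.subset_closure
  show Nat.Coprime (orderOf (⟨α, hα⟩ : ↥G)) p
  rwa [Subgroup.orderOf_mk]


/-- The preimage in `C_{P0}(M)` of `Ω₁(Z(P/M))`, described elementwise. -/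
def Dp (p : ℕ) (G : Subgroup (MulAut P)) (M : Subgroup P) (hM : M.Normal) : Subgroup P where
  carrier := {x | x ∈ P0 p G ∧ (∀ m ∈ M, m * x = x * m) ∧ (∀ g : P, ⁅x, g⁆ ∈ M) ∧ x ^ p ∈ M}
  one_mem' := by
    refine ⟨Subgroup.one_mem _, fun m _ => by simp, fun g => ?_, by simp [Subgroup.one_mem]⟩
    rw [commutatorElement_one_left]
    exact Subgroup.one_mem _
  mul_mem' := by
    rintro x y ⟨hx1, hx2, hx3, hx4⟩ ⟨hy1, hy2, hy3, hy4⟩
    refine ⟨Subgroup.mul_mem _ hx1 hy1, fun m hm => ?_, fun g => ?_, ?_⟩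
    · rw [← mul_assoc, hx2 m hm, mul_assoc, hy2 m hm, mul_assoc]
    · have h1 : ⁅x * y, g⁆ = x * ⁅y, g⁆ * x⁻¹ * ⁅x, g⁆ := by
        simp only [commutatorElement_def]; group
      rw [h1]
      exact Subgroup.mul_mem _ (hM.conj_mem _ (hy3 g) x) (hx3 g)
    · haveI := hM
      have hc : Commute (QuotientGroup.mk x : P ⧸ M) (QuotientGroup.mk y) := by
        have h1 : (QuotientGroup.mk ⁅x, y⁆ : P ⧸ M) = 1 := (QuotientGroup.eq_one_iff _).mpr (hx3 y)
        have h2 : (QuotientGroup.mk ⁅x, y⁆ : P ⧸ M) = ⁅(QuotientGroup.mk x : P ⧸ M), QuotientGroup.mk y⁆ :=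
          map_commutatorElement (QuotientGroup.mk' M) x y
        rw [h2] at h1
        exact commutatorElement_eq_one_iff_commute.mp h1
      have h3 : (QuotientGroup.mk ((x * y) ^ p) : P ⧸ M) = 1 := by
        rw [QuotientGroup.mk_pow, QuotientGroup.mk_mul, hc.mul_pow, ← QuotientGroup.mk_pow,
          ← QuotientGroup.mk_pow, (QuotientGroup.eq_one_iff _).mpr hx4,
          (QuotientGroup.eq_one_iff _).mpr hy4, one_mul]
      exact (QuotientGroup.eq_one_iff _).mp h3
  inv_mem' := by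
    rintro x ⟨hx1, hx2, hx3, hx4⟩
    refine ⟨Subgroup.inv_mem _ hx1, fun m hm => ?_, fun g => ?_, ?_⟩
    · have := hx2 m hm
      calc m * x⁻¹ = x⁻¹ * (x * m) * x⁻¹ := by group
        _ = x⁻¹ * (m * x) * x⁻¹ := by rw [this]
        _ = x⁻¹ * m := by group
    · have h1 : ⁅x⁻¹, g⁆ = x⁻¹ * (⁅x, g⁆)⁻¹ * x⁻¹⁻¹ := by
        simp only [commutatorElement_def]; group
      rw [h1]
      exact hM.conj_mem _ (Subgroup.inv_mem _ (hx3 g)) x⁻¹
    · rw [inv_pow]
      exact Subgroup.inv_mem _ hx4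

theorem mem_Dp {p : ℕ} {G : Subgroup (MulAut P)} {M : Subgroup P} {hM : M.Normal} {x : P} :
    x ∈ Dp p G M hM ↔
      x ∈ P0 p G ∧ (∀ m ∈ M, m * x = x * m) ∧ (∀ g : P, ⁅x, g⁆ ∈ M) ∧ x ^ p ∈ M := Iff.rfl

theorem inv_Dp {p : ℕ} {G : Subgroup (MulAut P)} {M : Subgroup P} (hM : M.Normal)
    (hMi : Inv G M) : Inv G (Dp p G M hM) := by
  rintro α hα x ⟨hx1, hx2, hx3, hx4⟩
  refine ⟨inv_P0 p G α hα x hx1, fun m hm => ?_, fun g => ?_, ?_⟩
  · have h1 : α⁻¹ m ∈ M := hMi α⁻¹ (G.inv_mem hα) m hm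
    have h2 := congrArg α (hx2 _ h1)
    rw [map_mul, map_mul, MulAut.apply_inv_self] at h2
    exact h2
  · have h1 : ⁅α x, g⁆ = α ⁅x, α⁻¹ g⁆ := by
      rw [map_commutatorElement, MulAut.apply_inv_self]
    rw [h1]
    exact hMi α hα _ (hx3 _)
  · rw [← map_pow]
    exact hMi α hα _ hx4


section main
variable [Finite P] {p : ℕ} [Fact p.Prime]

/-- abelian `G`-invariant subgroups of `P0` -/
def Good (p : ℕ) (G : Subgroup (MulAut P)) (H : Subgroup P) : Prop :=
  Inv G H ∧ H ≤ P0 p G ∧ ∀ a ∈ H, ∀ b ∈ H, a * b = b * a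

theorem exists_maximal_good (p : ℕ) (G : Subgroup (MulAut P)) :
    ∃ M : Subgroup P, Maximal (Good p G) M := by
  have hfin : {H : Subgroup P | Good p G H}.Finite := Set.toFinite _
  have hbot : (⊥ : Subgroup P) ∈ {H : Subgroup P | Good p G H} := by
    refine ⟨?_, bot_le, ?_⟩
    · intro α _ h hh
      rw [Subgroup.mem_bot] at hh ⊢
      rw [hh, map_one]
    · intro a ha b hb
      rw [Subgroup.mem_bot] at ha hb
      rw [ha, hb]
  obtain ⟨M, -, hM⟩ := hfin.exists_le_maximal hbot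
  exact ⟨M, hM⟩

variable {G : Subgroup (MulAut P)} {M : Subgroup P}

theorem M_le_Dp (hMg : Good p G M) (hMn : M.Normal) : M ≤ Dp p G M hMn := by
  intro m hm
  refine ⟨hMg.2.1 hm, fun m' hm' => hMg.2.2 m' hm' m hm, fun g => ?_, Subgroup.pow_mem _ hm _⟩
  have : ⁅m, g⁆ = m * (g * m⁻¹ * g⁻¹) := by simp only [commutatorElement_def]; group
  rw [this]
  exact Subgroup.mul_mem _ hm (hMn.conj_mem _ (Subgroup.inv_mem _ hm) g)

theorem M_le_centralizer_Dp (hMn : M.Normal) :
    M ≤ Subgroup.centralizer (Dp p G M hMn : Set P) := by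
  intro m hm
  rw [Subgroup.mem_centralizer_iff]
  intro x hx
  exact (hx.2.1 m hm).symm

theorem center_Dp_le (hMmax : Maximal (Good p G) M) (hMn : M.Normal) :
    Dp p G M hMn ⊓ Subgroup.centralizer (Dp p G M hMn : Set P) ≤ M := by
  have hMg := hMmax.prop
  apply hMmax.le_of_ge
  · refine ⟨(inv_Dp hMn hMg.1).inf (inv_Dp hMn hMg.1).centralizer, ?_, ?_⟩
    · intro x hx; exact hx.1.1
    · intro a ha b hb
      exact ((Subgroup.mem_centralizer_iff.mp ha.2) b hb.1).symm
  · exact le_inf (M_le_Dp hMg hMn) (M_le_centralizer_Dp hMn)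

theorem centralizer_Dp_le (hP : IsPGroup p P) (hG : Cfsg.Inn P ≤ G)
    (hMmax : Maximal (Good p G) M) (hMn : M.Normal) :
    P0 p G ⊓ Subgroup.centralizer (Dp p G M hMn : Set P) ≤ M := by
  by_contra hcon
  set Q := P0 p G ⊓ Subgroup.centralizer (Dp p G M hMn : Set P) with hQ
  have hMg := hMmax.prop
  have hQi : Inv G Q := (inv_P0 p G).inf (inv_Dp hMn hMg.1).centralizer
  have hQn : Q.Normal := hQi.normal hG
  haveI := hMn
  let f := QuotientGroup.mk' M
  have hQbar : (Q.map f).Normal := hQn.map f (QuotientGroup.mk'_surjective M)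
  have hne : Q.map f ≠ ⊥ := by
    intro h
    rw [Subgroup.map_eq_bot_iff, QuotientGroup.ker_mk'] at h
    exact hcon h
  have hPq : IsPGroup p (P ⧸ M) := hP.to_quotient M
  obtain ⟨z, hzQ, hz1, hzc⟩ :=
    Cfsg.Agent.Helper32.exists_ne_one_mem_center_of_normal hPq (Q.map f) hne
  obtain ⟨k, hk⟩ := IsPGroup.iff_orderOf.mp hPq z
  have hk0 : k ≠ 0 := by
    rintro rfl
    rw [pow_zero, orderOf_eq_one_iff] at hk
    exact hz1 hk
  obtain ⟨j, rfl⟩ := Nat.exists_eq_succ_of_ne_zero hk0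
  set z' := z ^ p ^ j with hz'
  have hz'p : z' ^ p = 1 := by
    rw [hz', ← pow_mul, ← pow_succ, ← hk, pow_orderOf_eq_one]
  have hz'1 : z' ≠ 1 := by
    intro h
    have h1 : orderOf z ∣ p ^ j := orderOf_dvd_of_pow_eq_one h
    rw [hk] at h1
    have := (Nat.pow_dvd_pow_iff_le_right (Fact.out : p.Prime).one_lt).mp h1
    omega
  have hz'Q : z' ∈ Q.map f := Subgroup.pow_mem _ hzQ _
  have hz'c : z' ∈ Subgroup.center (P ⧸ M) := Subgroup.pow_mem _ hzc _
  obtain ⟨q, hq, hqz⟩ := hz'Q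
  have hqD : q ∈ Dp p G M hMn := by
    refine ⟨hq.1, fun m hm => ?_, fun g => ?_, ?_⟩
    · exact (Subgroup.mem_centralizer_iff.mp hq.2 m (M_le_Dp hMg hMn hm))
    · apply (QuotientGroup.eq_one_iff _).mp
      have : (QuotientGroup.mk ⁅q, g⁆ : P ⧸ M) = ⁅f q, f g⁆ := map_commutatorElement f q g
      rw [this, hqz, commutatorElement_eq_one_iff_commute]
      exact (Subgroup.mem_center_iff.mp hz'c (f g)).symm
    · apply (QuotientGroup.eq_one_iff _).mp
      rw [QuotientGroup.mk_pow]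
      have : (QuotientGroup.mk q : P ⧸ M) = z' := hqz
      rw [this, hz'p]
  have hqM : q ∈ M := center_Dp_le hMmax hMn ⟨hqD, hq.2⟩
  apply hz'1
  rw [← hqz]
  exact (QuotientGroup.eq_one_iff _).mpr hqM

theorem eq_one_of_fix_Dp (hP : IsPGroup p P) (hG : Cfsg.Inn P ≤ G)
    (hMmax : Maximal (Good p G) M) (hMn : M.Normal) (α : MulAut P) (hα : α ∈ G)
    (hc : (orderOf α).Coprime p) (hfix : ∀ d ∈ Dp p G M hMn, α d = d) : α = 1 := by
  have hMg := hMmax.prop
  have hDn : (Dp p G M hMn).Normal := (inv_Dp hMn hMg.1).normal hG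
  ext x
  rw [MulAut.one_apply]
  apply fix_of_fix_commutator hP α hc
  apply hfix
  apply M_le_Dp hMg hMn
  apply centralizer_Dp_le hP hG hMmax hMn
  refine ⟨mem_P0_of_coprime p G hα hc x, Subgroup.mem_centralizer_iff.mpr ?_⟩
  intro d hd
  have h1 : x * d * x⁻¹ ∈ Dp p G M hMn := hDn.conj_mem d hd x
  have h2 := hfix _ h1
  rw [map_mul, map_mul, hfix d hd, map_inv] at h2
  calc d * (x⁻¹ * α x) = x⁻¹ * (x * d * x⁻¹) * α x := by group
    _ = x⁻¹ * (α x * d * (α x)⁻¹) * α x := by rw [h2]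
    _ = (x⁻¹ * α x) * d := by group

/-- the exponent: `p` for odd `p`, `4` for `p = 2`. -/
def ee (p : ℕ) : ℕ := if p = 2 then 4 else p

theorem pow_ee_mul (hMn : M.Normal) {x y : P} (hx : x ∈ Dp p G M hMn)
    (hy : y ∈ Dp p G M hMn) : (x * y) ^ ee p = x ^ ee p * y ^ ee p := by
  set c := y * x * y⁻¹ * x⁻¹ with hc
  have hcM : c ∈ M := by
    have := hy.2.2.1 x
    rwa [commutatorElement_def] at this
  have hcx : Commute c x := hx.2.1 c hcM
  have hcy : Commute c y := hy.2.1 c hcM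
  have hcp : c ^ p = 1 := by
    have h1 := Cfsg.Agent.Helper24.commutator_pow_left_of_commute x y hcy p
    rw [← h1]
    have h2 : y ^ p * x = x * y ^ p := hx.2.1 _ hy.2.2.2
    rw [h2]; group
  have h3 := Cfsg.Agent.Helper24.mul_pow_of_commutator_commute x y hcx hcy (ee p)
  rw [h3]
  have h4 : c ^ ((ee p).choose 2) = 1 := by
    unfold ee
    split_ifs with h2
    · have : Nat.choose 4 2 = 2 * 3 := by decide
      rw [this, pow_mul, ← h2, hcp, one_pow]
    · have hp3 : 2 < p := lt_of_le_of_ne (Fact.out : p.Prime).two_le (Ne.symm h2)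
      obtain ⟨k, hk⟩ := (Fact.out : p.Prime).dvd_choose_self (by norm_num : (2:ℕ) ≠ 0) hp3
      rw [hk, pow_mul, hcp, one_pow]
  rw [h4, mul_one]

/-- `Ω`: the elements of `D'` killed by the exponent. -/
def DD (p : ℕ) [Fact p.Prime] (G : Subgroup (MulAut P)) (M : Subgroup P) (hMn : M.Normal) : Subgroup P where
  carrier := {x | x ∈ Dp p G M hMn ∧ x ^ ee p = 1}
  one_mem' := ⟨Subgroup.one_mem _, one_pow _⟩
  mul_mem' := by
    rintro x y ⟨hx, hx'⟩ ⟨hy, hy'⟩
    exact ⟨Subgroup.mul_mem _ hx hy, by rw [pow_ee_mul hMn hx hy, hx', hy', one_mul]⟩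
  inv_mem' := by
    rintro x ⟨hx, hx'⟩
    exact ⟨Subgroup.inv_mem _ hx, by rw [inv_pow, hx', inv_one]⟩


theorem pow_ee_of_pow_p {x : P} (h : x ^ p = 1) : x ^ ee p = 1 := by
  unfold ee
  split_ifs with h2
  · have : (4 : ℕ) = p * 2 := by rw [h2]
    rw [this, pow_mul, h, one_pow]
  · exact h

theorem pow_ee_mem (hMn : M.Normal) {x : P} (hx : x ∈ Dp p G M hMn) : x ^ ee p ∈ M := by
  unfold ee
  split_ifs with h2
  · have : (4 : ℕ) = p * 2 := by rw [h2]
    rw [this, pow_mul]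
    exact Subgroup.pow_mem _ hx.2.2.2 _
  · exact hx.2.2.2

theorem ee_cases {x : P} (h : x ^ ee p = 1) : x ^ p = 1 ∨ (p = 2 ∧ x ^ 4 = 1) := by
  unfold ee at h
  split_ifs at h with h2
  · exact Or.inr ⟨h2, h⟩
  · exact Or.inl h

theorem inv_DD (hMn : M.Normal) (hMi : Inv G M) : Inv G (DD p G M hMn) := by
  rintro α hα x ⟨hx, hx'⟩
  exact ⟨inv_Dp hMn hMi α hα x hx, by rw [← map_pow, hx', map_one]⟩

theorem fix_Dp_of_fix_DD (hP : IsPGroup p P) (hMg : Good p G M) (hMn : M.Normal)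
    (α : MulAut P) (hα : α ∈ G) (hc : (orderOf α).Coprime p)
    (hfix : ∀ d ∈ DD p G M hMn, α d = d) : ∀ d ∈ Dp p G M hMn, α d = d := by
  have hM_fix : ∀ j : ℕ, ∀ m ∈ M, m ^ p ^ j = 1 → α m = m := by
    intro j
    induction j with
    | zero =>
      intro m _ h
      rw [pow_zero, pow_one] at h
      rw [h, map_one]
    | succ j ih =>
      intro m hm h
      have h1 : α (m ^ p) = m ^ p :=
        ih (m ^ p) (Subgroup.pow_mem _ hm _) (by rw [← pow_mul, ← pow_succ']; exact h)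
      apply fix_of_fix_commutator hP α hc
      apply hfix
      have hαm : α m ∈ M := hMg.1 α hα m hm
      have hk : m⁻¹ * α m ∈ M := Subgroup.mul_mem _ (Subgroup.inv_mem _ hm) hαm
      refine ⟨M_le_Dp hMg hMn hk, ?_⟩
      apply pow_ee_of_pow_p
      have hcomm : Commute m⁻¹ (α m) := hMg.2.2 _ (Subgroup.inv_mem _ hm) _ hαm
      rw [hcomm.mul_pow, inv_pow, ← map_pow, h1, inv_mul_cancel]
  have hM_fix' : ∀ m ∈ M, α m = m := fun m hm => by
    obtain ⟨j, hj⟩ := hP m
    exact hM_fix j m hm hj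
  intro x hx
  apply fix_of_fix_commutator hP α hc
  apply hfix
  have hαx : α x ∈ Dp p G M hMn := inv_Dp hMn hMg.1 α hα x hx
  have hxi : x⁻¹ ∈ Dp p G M hMn := Subgroup.inv_mem _ hx
  refine ⟨Subgroup.mul_mem _ hxi hαx, ?_⟩
  rw [pow_ee_mul hMn hxi hαx, inv_pow, ← map_pow, hM_fix' _ (pow_ee_mem hMn hx), inv_mul_cancel]

end main

theorem isMulCommutative_closure {s : Set P} (hs : ∀ a ∈ s, ∀ b ∈ s, a * b = b * a) :
    IsMulCommutative ↥(Subgroup.closure s) := by
  have h1 : Subgroup.closure s ≤ Subgroup.centralizer s := by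
    rw [Subgroup.closure_le]
    intro a ha
    exact Subgroup.mem_centralizer_iff.mpr fun b hb => hs b hb a ha
  have h2 : Subgroup.closure s ≤ Subgroup.centralizer (Subgroup.closure s : Set P) := by
    rw [Subgroup.closure_le]
    intro a ha
    refine Subgroup.mem_centralizer_iff.mpr fun b hb => ?_
    exact ((Subgroup.mem_centralizer_iff.mp (h1 hb)) a ha).symm
  refine ⟨⟨fun a b => ?_⟩⟩
  ext
  exact ((Subgroup.mem_centralizer_iff.mp (h2 a.2)) b b.2).symm

theorem pow_apply_fix (f : MulAut P) (a : P) (h : f a = a) (k : ℕ) : (f ^ k) a = a := by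
  induction k with
  | zero => simp
  | succ k ih => rw [pow_succ, MulAut.mul_apply, h, ih]

/-- Let P be a finite p-group and G a group of automorphisms of P containing the inner automorphisms. Then there is a G-invariant subgroup D of P, contained in the subgroup generated by the elements x⁻¹α(x) with x in P and α in O^p(G), of exponent dividing p when p is odd and dividing 4 when p = 2, with [D, P] ≤ Z(D), such that every automorphism in G of order prime to p that fixes D elementwise is the identity; moreover every maximal abelian subgroup A of D is normal in P and every automorphism in G fixing A elementwise has p-power order. -/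
theorem result {P : Type*} [Group P] [Finite P] {p : ℕ} [Fact p.Prime] (hP : IsPGroup p P)
    (G : Subgroup (MulAut P)) (hG : Cfsg.Inn P ≤ G) :
    ∃ D : Subgroup P,
      (∀ α ∈ G, D.map α.toMonoidHom = D) ∧
      D ≤ Subgroup.closure {y : P | ∃ α ∈ Cfsg.pResidual p ↥G, ∃ x : P, y = x⁻¹ * (α : MulAut P) x} ∧
      (∀ d ∈ D, d ^ p = 1 ∨ (p = 2 ∧ d ^ 4 = 1)) ∧
      ⁅D, (⊤ : Subgroup P)⁆ ≤ D ⊓ Subgroup.centralizer (D : Set P) ∧
      (∀ α ∈ G, (orderOf α).Coprime p → (∀ d ∈ D, α d = d) → α = 1) ∧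
      ∀ A : Subgroup P, A ≤ D → IsMulCommutative ↥A →
        (∀ B : Subgroup P, A ≤ B → B ≤ D → IsMulCommutative ↥B → B = A) →
        A.Normal ∧ ∀ α ∈ G, (∀ a ∈ A, α a = a) → ∃ k : ℕ, orderOf α = p ^ k := by
  have hp : p.Prime := Fact.out
  obtain ⟨M, hMmax⟩ := exists_maximal_good (P := P) p G
  have hMg := hMmax.prop
  have hMn : M.Normal := hMg.1.normal hG
  set D := DD p G M hMn with hD
  have hDi : Inv G D := inv_DD hMn hMg.1
  have hDD' : D ≤ Dp p G M hMn := fun x hx => hx.1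
  have hfaith : ∀ α ∈ G, (orderOf α).Coprime p → (∀ d ∈ D, α d = d) → α = 1 :=
    fun α hα hc hfix => eq_one_of_fix_Dp hP hG hMmax hMn α hα hc
      (fix_Dp_of_fix_DD hP hMg hMn α hα hc hfix)
  have hDn : D.Normal := hDi.normal hG
  have hcomm : ∀ d ∈ D, ∀ g : P, ⁅d, g⁆ ∈ M := fun d hd g => (hDD' hd).2.2.1 g
  have hMcent : ∀ m ∈ M, ∀ d ∈ D, m * d = d * m := fun m hm d hd => (hDD' hd).2.1 m hm
  have hcommD : ∀ d ∈ D, ∀ g : P, ⁅d, g⁆ ∈ D := by
    intro d hd g
    have : ⁅d, g⁆ = d * (g * d⁻¹ * g⁻¹) := by simp only [commutatorElement_def]; group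
    rw [this]
    exact D.mul_mem hd (hDn.conj_mem _ (D.inv_mem hd) g)
  refine ⟨D, fun α hα => hDi.map_eq hα, fun x hx => (hDD' hx).1, ?_, ?_, hfaith, ?_⟩
  · intro d hd
    exact ee_cases hd.2
  · rw [Subgroup.commutator_le]
    intro d hd g _
    refine ⟨hcommD d hd g, Subgroup.mem_centralizer_iff.mpr fun x hx => ?_⟩
    exact (hMcent _ (hcomm d hd g) x hx).symm
  · intro A hAD hAc hAmax
    have hAcomm : ∀ a ∈ A, ∀ b ∈ A, a * b = b * a := by
      intro a ha b hb
      have := hAc.is_comm.comm ⟨a, ha⟩ ⟨b, hb⟩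
      exact congrArg Subtype.val this
    have hCA : ∀ d ∈ D, (∀ a ∈ A, d * a = a * d) → d ∈ A := by
      intro d hd hda
      have hAB : A ≤ Subgroup.closure ((A : Set P) ∪ {d}) :=
        fun a ha => Subgroup.subset_closure (Or.inl ha)
      have hBD : Subgroup.closure ((A : Set P) ∪ {d}) ≤ D := by
        rw [Subgroup.closure_le]
        rintro y (hy | hy)
        · exact hAD hy
        · rw [Set.mem_singleton_iff] at hy
          rw [hy]
          exact hd
      have hBc : IsMulCommutative ↥(Subgroup.closure ((A : Set P) ∪ {d})) := by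
        apply isMulCommutative_closure
        rintro a (ha | ha) b (hb | hb)
        · exact hAcomm a ha b hb
        · rw [Set.mem_singleton_iff] at hb
          rw [hb]
          exact (hda a ha).symm
        · rw [Set.mem_singleton_iff] at ha
          rw [ha]
          exact hda b hb
        · rw [Set.mem_singleton_iff] at ha hb
          rw [ha, hb]
      have := hAmax _ hAB hBD hBc
      rw [← this]
      exact Subgroup.subset_closure (Or.inr rfl)
    have hcommA : ∀ d ∈ D, ∀ g : P, ⁅d, g⁆ ∈ A := by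
      intro d hd g
      apply hCA _ (hcommD d hd g)
      intro a ha
      exact hMcent _ (hcomm d hd g) a (hAD ha)
    refine ⟨⟨fun a ha g => ?_⟩, ?_⟩
    · have h1 : g * a * g⁻¹ = (⁅a, g⁆)⁻¹ * a := by
        simp only [commutatorElement_def]; group
      rw [h1]
      exact A.mul_mem (A.inv_mem (hcommA a (hAD ha) g)) ha
    · intro α hα hfixA
      haveI : Finite (MulAut P) := inferInstance
      obtain ⟨k, m, hm, hkm⟩ :=
        Nat.exists_eq_pow_mul_and_not_dvd (orderOf_pos α).ne' p hp.ne_one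
      refine ⟨k, ?_⟩
      have hβo : orderOf (α ^ p ^ k) = m := by
        rw [orderOf_pow' α (pow_ne_zero k hp.ne_zero), hkm, Nat.gcd_eq_right (dvd_mul_right _ _),
          Nat.mul_div_cancel_left _ (pow_pos hp.pos k)]
      have hβc : (orderOf (α ^ p ^ k)).Coprime p := by
        rw [hβo]
        exact ((Nat.Prime.coprime_iff_not_dvd hp).mpr hm).symm
      have hβG : α ^ p ^ k ∈ G := G.pow_mem hα _
      have hβA : ∀ a ∈ A, (α ^ p ^ k) a = a := fun a ha => pow_apply_fix α a (hfixA a ha) _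
      have hβD : ∀ d ∈ D, (α ^ p ^ k) d = d := by
        intro d hd
        apply fix_of_fix_commutator hP _ hβc
        have hβd : (α ^ p ^ k) d ∈ D := hDi _ hβG d hd
        have hkD : d⁻¹ * (α ^ p ^ k) d ∈ D := D.mul_mem (D.inv_mem hd) hβd
        apply hβA
        apply hCA _ hkD
        intro a ha
        have h1 := hβA _ (hcommA d hd a)
        rw [map_commutatorElement, hβA a ha, commutatorElement_def, commutatorElement_def] at h1
        have h2 : (α ^ p ^ k) d * a * ((α ^ p ^ k) d)⁻¹ = d * a * d⁻¹ := by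
          have := congrArg (· * a) h1
          simpa using this
        calc d⁻¹ * (α ^ p ^ k) d * a = d⁻¹ * ((α ^ p ^ k) d * a * ((α ^ p ^ k) d)⁻¹) * (α ^ p ^ k) d := by
              group
          _ = d⁻¹ * (d * a * d⁻¹) * (α ^ p ^ k) d := by rw [h2]
          _ = a * (d⁻¹ * (α ^ p ^ k) d) := by group
      have hβ1 : α ^ p ^ k = 1 := hfaith _ hβG hβc hβD
      rw [hβ1, orderOf_one] at hβo
      rw [hkm, ← hβo, mul_one]

end Cfsg.Agent.S1949
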