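import Cfsg.Statements.S0640
import Cfsg.Agent.S1949
import Cfsg.Agent.Lib.Helper73.CoprimeFrattini
import Cfsg.Agent.Lib.Helper2.PGroup

set_option autoImplicit false
open Cfsg
open scoped commutatorElement

namespace Cfsg.Agent.S0640

/-- arithmetic: `q ∣ p ^ i - 1` with `i ∈ {1, 2}`, `p` odd prime, `q` prime gives the conclusion. -/
theorem arith {p q : ℕ} (hp : p.Prime) (hp2 : p ≠ 2) (hq : q.Prime) (i : ℕ) (hi1 : 1 ≤ i)
    (hi2 : i ≤ 2) (h : q ∣ p ^ i - 1) : q ∣ p ^ 2 - 1 ∧ q < p := by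
  have hp3 : 3 ≤ p := by
    have := hp.two_le
    omega
  have hfac : p ^ 2 - 1 = (p - 1) * (p + 1) := by
    obtain ⟨r, rfl⟩ : ∃ r, p = r + 1 := ⟨p - 1, by omega⟩
    simp only [Nat.add_sub_cancel]
    have : (r + 1) ^ 2 = r * (r + 1 + 1) + 1 := by ring
    rw [this, Nat.add_sub_cancel]
  have key : q ∣ p - 1 ∨ q ∣ p + 1 := by
    have : i = 1 ∨ i = 2 := by omega
    rcases this with rfl | rfl
    · left; simpa using h
    · rw [hfac] at h
      exact (Nat.Prime.dvd_mul hq).mp h
  rcases key with h1 | h1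
  · refine ⟨?_, ?_⟩
    · rw [hfac]; exact Dvd.dvd.mul_right h1 _
    · have := Nat.le_of_dvd (by omega) h1
      omega
  · refine ⟨?_, ?_⟩
    · rw [hfac]; exact Dvd.dvd.mul_left h1 _
    · have hodd : ¬ 2 ∣ p := by
        intro h2
        exact hp2 ((Nat.prime_dvd_prime_iff_eq Nat.prime_two hp).mp h2).symm
      obtain ⟨m, hm⟩ : 2 ∣ p + 1 := by omega
      rw [hm] at h1
      rcases (Nat.Prime.dvd_mul hq).mp h1 with h2 | h2
      · have := Nat.le_of_dvd (by norm_num) h2
        omega
      · have hm0 : 0 < m := by omega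
        have := Nat.le_of_dvd hm0 h2
        omega

/-- strict inclusion of `p`-subgroups multiplies the order by at least `p`. -/
theorem card_mul_le_of_lt {R : Type*} [Group R] [Finite R] {p : ℕ} [Fact p.Prime]
    (hR : IsPGroup p R) {H K : Subgroup R} (hlt : H < K) : p * Nat.card H ≤ Nat.card K := by
  have hp : p.Prime := Fact.out
  obtain ⟨i, hi⟩ := (hR.to_subgroup H).exists_card_eq
  obtain ⟨j, hj⟩ := (hR.to_subgroup K).exists_card_eq
  have hdvd : Nat.card H ∣ Nat.card K := Subgroup.card_dvd_of_le hlt.le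
  rw [hi, hj] at hdvd ⊢
  have hij : i ≤ j := (Nat.pow_dvd_pow_iff_le_right hp.one_lt).mp hdvd
  have hne : i ≠ j := by
    rintro rfl
    exact hlt.ne (Subgroup.eq_of_le_of_card_ge hlt.le (by rw [hi, hj]))
  have : i + 1 ≤ j := by omega
  calc p * p ^ i = p ^ (i + 1) := by rw [pow_succ']
    _ ≤ p ^ j := Nat.pow_le_pow_right hp.pos this

/-- restriction of an automorphism to an invariant subgroup -/
def restrictAut {R : Type*} [Group R] (α : MulAut R) (D : Subgroup R) (h : ∀ x ∈ D, α x ∈ D)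
    (h' : ∀ x ∈ D, α⁻¹ x ∈ D) : MulAut ↥D where
  toFun x := ⟨α x, h x x.2⟩
  invFun x := ⟨α⁻¹ x, h' x x.2⟩
  left_inv x := by ext; simp
  right_inv x := by ext; simp
  map_mul' x y := by ext; simp

theorem restrictAut_pow {R : Type*} [Group R] (α : MulAut R) (D : Subgroup R)
    (h : ∀ x ∈ D, α x ∈ D) (h' : ∀ x ∈ D, α⁻¹ x ∈ D) (n : ℕ) (x : D) :
    (((restrictAut α D h h') ^ n) x : R) = (α ^ n) x := by
  induction n generalizing x with
  | zero => simp
  | succ n ih =>
    rw [pow_succ, pow_succ, MulAut.mul_apply, MulAut.mul_apply, ih]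
    rfl


/-- a class-2 exponent-`p` subgroup `D` of a group of `p`-rank at most 2 has Frattini index at most `p²`. -/
theorem frattini_index_le {R : Type*} [Group R] [Finite R] {p : ℕ} [Fact p.Prime]
    (hR : IsPGroup p R) (hrk : Cfsg.PRankLE p 2 R) (D : Subgroup R) (hexp : ∀ d ∈ D, d ^ p = 1)
    (hcomm : ⁅D, (⊤ : Subgroup R)⁆ ≤ D ⊓ Subgroup.centralizer (D : Set R)) :
    ∃ d ≤ 2, (frattini ↥D).index = p ^ d := by
  have hp : p.Prime := Fact.out
  have hDp : IsPGroup p ↥D := hR.to_subgroup D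
  obtain ⟨d, hd⟩ := hDp.index (frattini ↥D)
  refine ⟨d, ?_, hd⟩
  suffices hle : (frattini ↥D).index ≤ p ^ 2 by
    rw [hd] at hle
    exact (Nat.pow_le_pow_iff_right hp.one_lt).mp hle
  by_cases hab : D ≤ Subgroup.centralizer (D : Set R)
  · have hc : IsMulCommutative ↥D := by
      refine ⟨⟨fun x y => ?_⟩⟩
      ext
      exact ((Subgroup.mem_centralizer_iff.mp (hab x.2)) y y.2).symm
    have h1 : Nat.card ↥D ≤ p ^ 2 := hrk D hc hexp
    exact (Nat.le_of_dvd Nat.card_pos (Subgroup.index_dvd_card _)).trans h1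
  · obtain ⟨a, haD, haC⟩ := SetLike.not_le_iff_exists.mp hab
    set Z := D ⊓ Subgroup.centralizer (D : Set R) with hZ
    have hZcomm : ∀ z ∈ Z, ∀ x ∈ D, z * x = x * z := fun z hz x hx =>
      ((Subgroup.mem_centralizer_iff.mp hz.2) x hx).symm
    have hcommZ : ∀ x ∈ D, ∀ g : R, ⁅x, g⁆ ∈ Z := fun x hx g =>
      hcomm (Subgroup.commutator_mem_commutator hx (Subgroup.mem_top g))
    -- some element of D does not commute with a
    obtain ⟨d0, hd0D, hd0a⟩ : ∃ d0 ∈ D, d0 * a ≠ a * d0 := by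
      by_contra hcon
      push_neg at hcon
      exact haC (Subgroup.mem_centralizer_iff.mpr hcon)
    have haZ : a ∉ Z := fun h => haC h.2
    -- E1
    set E1 := Subgroup.closure ((Z : Set R) ∪ {a}) with hE1
    have hZE1 : Z ≤ E1 := fun z hz => Subgroup.subset_closure (Or.inl hz)
    have haE1 : a ∈ E1 := Subgroup.subset_closure (Or.inr rfl)
    have hE1D : E1 ≤ D := by
      rw [hE1, Subgroup.closure_le]
      rintro y (hy | hy)
      · exact hy.1
      · rw [Set.mem_singleton_iff] at hy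
        rw [hy]
        exact haD
    have hE1c : IsMulCommutative ↥E1 := by
      apply Cfsg.Agent.S1949.isMulCommutative_closure
      rintro x (hx | hx) y (hy | hy)
      · exact hZcomm x hx y hy.1
      · rw [Set.mem_singleton_iff] at hy
        rw [hy]
        exact hZcomm x hx a haD
      · rw [Set.mem_singleton_iff] at hx
        rw [hx]
        exact (hZcomm y hy a haD).symm
      · rw [Set.mem_singleton_iff] at hx hy
        rw [hx, hy]
    have hE1card : Nat.card ↥E1 ≤ p ^ 2 := hrk E1 hE1c (fun x hx => hexp x (hE1D hx))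
    have hZltE1 : Z < E1 := lt_of_le_of_ne hZE1 (fun h => haZ (h ▸ haE1))
    have hZE1card : p * Nat.card ↥Z ≤ Nat.card ↥E1 := card_mul_le_of_lt hR hZltE1
    have hZne : Z ≠ ⊥ := by
      intro h
      apply hd0a
      have h1 : ⁅d0, a⁆ ∈ Z := hcommZ d0 hd0D a
      rw [h, Subgroup.mem_bot] at h1
      exact commutatorElement_eq_one_iff_commute.mp h1
    have hZcard : p ≤ Nat.card ↥Z := by
      have := card_mul_le_of_lt hR (bot_lt_iff_ne_bot.mpr hZne)
      rwa [Subgroup.card_bot, mul_one] at this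
    have hZle : Nat.card ↥Z ≤ p := by
      have h1 : p * Nat.card ↥Z ≤ p * p := by
        calc p * Nat.card ↥Z ≤ Nat.card ↥E1 := hZE1card
          _ ≤ p ^ 2 := hE1card
          _ = p * p := pow_two p
      exact Nat.le_of_mul_le_mul_left h1 hp.pos
    -- centralizer of a in D lies in E1
    have hC : ∀ b ∈ D, b * a = a * b → b ∈ E1 := by
      intro b hbD hba
      by_contra hbE1
      set E2 := Subgroup.closure ((E1 : Set R) ∪ {b}) with hE2
      have hE1E2 : E1 ≤ E2 := fun z hz => Subgroup.subset_closure (Or.inl hz)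
      have hbE2 : b ∈ E2 := Subgroup.subset_closure (Or.inr rfl)
      have hE2D : E2 ≤ D := by
        rw [hE2, Subgroup.closure_le]
        rintro y (hy | hy)
        · exact hE1D hy
        · rw [Set.mem_singleton_iff] at hy
          rw [hy]
          exact hbD
      have hE1b : ∀ x ∈ E1, x * b = b * x := by
        have h1 : E1 ≤ Subgroup.centralizer ({b} : Set R) := by
          rw [hE1, Subgroup.closure_le]
          rintro y (hy | hy)
          · refine Subgroup.mem_centralizer_iff.mpr fun c hc => ?_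
            rw [Set.mem_singleton_iff] at hc
            rw [hc]
            exact (hZcomm y hy b hbD).symm
          · rw [Set.mem_singleton_iff] at hy
            rw [hy]
            refine Subgroup.mem_centralizer_iff.mpr fun c hc => ?_
            rw [Set.mem_singleton_iff] at hc
            rw [hc]
            exact hba
        intro x hx
        exact ((Subgroup.mem_centralizer_iff.mp (h1 hx)) b rfl).symm
      have hE2c : IsMulCommutative ↥E2 := by
        apply Cfsg.Agent.S1949.isMulCommutative_closure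
        rintro x (hx | hx) y (hy | hy)
        · have := hE1c.is_comm.comm ⟨x, hx⟩ ⟨y, hy⟩
          exact congrArg Subtype.val this
        · rw [Set.mem_singleton_iff] at hy
          rw [hy]
          exact hE1b x hx
        · rw [Set.mem_singleton_iff] at hx
          rw [hx]
          exact (hE1b y hy).symm
        · rw [Set.mem_singleton_iff] at hx hy
          rw [hx, hy]
      have hE2card : Nat.card ↥E2 ≤ p ^ 2 := hrk E2 hE2c (fun x hx => hexp x (hE2D hx))
      have hlt : E1 < E2 := lt_of_le_of_ne hE1E2 (fun h => hbE1 (h ▸ hbE2))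
      have h1 := card_mul_le_of_lt hR hlt
      have h2 : p * (p * p) ≤ p * p := by
        calc p * (p * p) ≤ p * (p * Nat.card ↥Z) := by gcongr
          _ ≤ p * Nat.card ↥E1 := by gcongr
          _ ≤ Nat.card ↥E2 := h1
          _ ≤ p ^ 2 := hE2card
          _ = p * p := pow_two p
      have h3 : p * (p * p) = (p * p) * p := by ring
      have h4 : (p * p) * p ≤ (p * p) * 1 := by rw [← h3, mul_one]; exact h2
      have := Nat.le_of_mul_le_mul_left h4 (Nat.mul_pos hp.pos hp.pos)
      have := hp.one_lt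
      omega
    -- the homomorphism d ↦ [d, a]
    let ψ : ↥D →* ↥Z := MonoidHom.mk' (fun x => ⟨⁅x.1, a⁆, hcommZ x.1 x.2 a⟩) (by
      intro x y
      apply Subtype.ext
      show ⁅x.1 * y.1, a⁆ = ⁅x.1, a⁆ * ⁅y.1, a⁆
      have h1 : ⁅x.1 * y.1, a⁆ = x.1 * ⁅y.1, a⁆ * x.1⁻¹ * ⁅x.1, a⁆ := by
        simp only [commutatorElement_def]; group
      have h2 : x.1 * ⁅y.1, a⁆ = ⁅y.1, a⁆ * x.1 := (hZcomm _ (hcommZ y.1 y.2 a) x.1 x.2).symm
      have h3 : ⁅y.1, a⁆ * ⁅x.1, a⁆ = ⁅x.1, a⁆ * ⁅y.1, a⁆ :=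
        hZcomm _ (hcommZ y.1 y.2 a) _ (hcommZ x.1 x.2 a).1
      rw [h1, h2, mul_assoc ⁅y.1, a⁆, mul_inv_cancel, mul_one, h3])
    have hker : Nat.card ↥ψ.ker ≤ Nat.card ↥E1 := by
      have hmem : ∀ k : ψ.ker, (k.1.1 : R) ∈ E1 := by
        intro k
        apply hC _ k.1.2
        have h1 : ψ k.1 = 1 := k.2
        have h2 : ⁅(k.1.1 : R), a⁆ = 1 := congrArg Subtype.val h1
        exact commutatorElement_eq_one_iff_commute.mp h2
      apply Nat.card_le_card_of_injective (fun k : ψ.ker => (⟨k.1.1, hmem k⟩ : E1))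
      intro k k' h
      apply Subtype.ext
      apply Subtype.ext
      have h' : (⟨k.1.1, hmem k⟩ : E1) = ⟨k'.1.1, hmem k'⟩ := h
      exact Subtype.mk.inj h'
    have hrange : Nat.card ↥ψ.range ≤ Nat.card ↥Z := by
      exact Nat.card_le_card_of_injective (fun r : ψ.range => r.1) Subtype.val_injective
    have hDcard : Nat.card ↥D ≤ p ^ 2 * p := by
      rw [← Subgroup.card_mul_index ψ.ker, Subgroup.index_ker]
      exact Nat.mul_le_mul (hker.trans hE1card) (hrange.trans hZle)
    -- the Frattini subgroup is nontrivial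
    have hfr : frattini ↥D ≠ ⊥ := by
      intro h
      have h1 : ⁅(⟨d0, hd0D⟩ : ↥D), ⟨a, haD⟩⁆ ∈ frattini ↥D :=
        Cfsg.Agent.Helper2.commutatorElement_mem_frattini hDp _ _
      rw [h, Subgroup.mem_bot] at h1
      have h2 := commutatorElement_eq_one_iff_commute.mp h1
      exact hd0a (congrArg Subtype.val h2.eq)
    have hfrcard : p ≤ Nat.card ↥(frattini ↥D) := by
      have := card_mul_le_of_lt hDp (bot_lt_iff_ne_bot.mpr hfr)
      rwa [Subgroup.card_bot, mul_one] at this
    have h5 : p * (frattini ↥D).index ≤ p * p ^ 2 := by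
      calc p * (frattini ↥D).index ≤ Nat.card ↥(frattini ↥D) * (frattini ↥D).index := by gcongr
        _ = Nat.card ↥D := Subgroup.card_mul_index _
        _ ≤ p ^ 2 * p := hDcard
        _ = p * p ^ 2 := mul_comm _ _
    exact Nat.le_of_mul_le_mul_left h5 hp.pos


/-- For odd p, a prime q ≠ p dividing the order of the automorphism group of a p-group of rank at most 2 divides p² - 1 and is less than p. -/
theorem result {R : Type*} [Group R] [Finite R] {p : ℕ} [Fact p.Prime] (hp : p ≠ 2) (hR : IsPGroup p R) (hrk : Cfsg.PRankLE p 2 R) (q : ℕ) (hq : q.Prime) (hqp : q ≠ p) (hdvd : q ∣ Nat.card (MulAut R)) : q ∣ p ^ 2 - 1 ∧ q < p := by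
  have hpp : p.Prime := Fact.out
  haveI : Fact q.Prime := ⟨hq⟩
  obtain ⟨α, hα⟩ := exists_prime_orderOf_dvd_card' q hdvd
  obtain ⟨D, hDinv, -, hDexp, hDcomm, hDfaith, -⟩ :=
    Cfsg.Agent.S1949.result hR (⊤ : Subgroup (MulAut R)) le_top
  have hexp : ∀ d ∈ D, d ^ p = 1 := by
    intro d hd
    rcases hDexp d hd with h | ⟨h, -⟩
    · exact h
    · exact absurd h hp
  obtain ⟨d, hd2, hd⟩ := frattini_index_le hR hrk D hexp hDcomm
  by_contra hcon
  have hqi : ∀ i, 1 ≤ i → i ≤ d → ¬ q ∣ p ^ i - 1 := by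
    intro i hi1 hid hdiv
    exact hcon (arith hpp hp hq i hi1 (hid.trans hd2) hdiv)
  have hαD : ∀ x ∈ D, α x ∈ D := by
    intro x hx
    have := hDinv α (Subgroup.mem_top α)
    rw [← this]
    exact Subgroup.mem_map_of_mem _ hx
  have hαD' : ∀ x ∈ D, α⁻¹ x ∈ D := by
    intro x hx
    have := hDinv α⁻¹ (Subgroup.mem_top _)
    rw [← this]
    exact Subgroup.mem_map_of_mem _ hx
  set β := restrictAut α D hαD hαD' with hβ
  have hβq : β ^ q = 1 := by
    ext x
    rw [restrictAut_pow, ← hα, pow_orderOf_eq_one]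
    rfl
  have hA : IsPGroup q ↥(Subgroup.zpowers β) := by
    have h1 : orderOf β ∣ q := orderOf_dvd_of_pow_eq_one hβq
    rcases (Nat.dvd_prime hq).mp h1 with h2 | h2
    · exact IsPGroup.of_card (n := 0) (by rw [Nat.card_zpowers, h2, pow_zero])
    · exact IsPGroup.of_card (n := 1) (by rw [Nat.card_zpowers, h2, pow_one])
  have hfix : ∀ x ∈ D, α x = x := by
    intro x hx
    have h2 := Cfsg.Agent.Helper73.coprime_action_trivial hA (hR.to_subgroup D) hd hqi hqp.symm
      (⟨β, Subgroup.mem_zpowers β⟩ : Subgroup.zpowers β) (⟨x, hx⟩ : D)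
    have h3 : β ⟨x, hx⟩ = ⟨x, hx⟩ := h2
    exact congrArg Subtype.val h3
  have hcop : (orderOf α).Coprime p := by
    rw [hα]
    exact (Nat.coprime_primes hq hpp).mpr hqp
  have h1 := hDfaith α (Subgroup.mem_top α) hcop hfix
  rw [h1, orderOf_one] at hα
  exact hq.one_lt.ne hα

end Cfsg.Agent.S0640
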