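import Cfsg.Statements.S4207
import Mathlib

set_option autoImplicit false
open Cfsg

namespace Cfsg.Agent.S4207

/-- A free action: the group order divides the size of the set. -/
theorem card_dvd_of_free {G X : Type*} [Group G] [MulAction G X]
    (h : ∀ b : X, MulAction.stabilizer G b = ⊥) : Nat.card G ∣ Nat.card X := by
  have e := MulAction.selfEquivOrbitsQuotientProd h
  rw [Nat.card_congr e, Nat.card_prod]
  exact dvd_mul_left _ _

theorem exists_generators_aux {Q : Type*} [Group Q] [Finite Q] {p : ℕ} [Fact p.Prime]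
    (hQ : IsPGroup p Q) (k : ℕ) :
    ∃ f : Fin k → Q, Subgroup.closure (Set.range f) = ⊤ ∨
      p ^ k ≤ Nat.card (Subgroup.closure (Set.range f)) := by
  induction k with
  | zero =>
    refine ⟨fun i => i.elim0, Or.inr ?_⟩
    simp
  | succ k ih =>
    obtain ⟨f, hf⟩ := ih
    by_cases htop : Subgroup.closure (Set.range f) = ⊤
    · refine ⟨Fin.cons 1 f, Or.inl ?_⟩
      rw [Fin.range_cons, eq_top_iff, ← htop]
      exact Subgroup.closure_mono (Set.subset_insert _ _)
    · have hf' : p ^ k ≤ Nat.card (Subgroup.closure (Set.range f)) := hf.resolve_left htop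
      obtain ⟨x, hx⟩ : ∃ x : Q, x ∉ Subgroup.closure (Set.range f) := by
        by_contra hcon
        push Not at hcon
        exact htop (eq_top_iff.mpr fun y _ => hcon y)
      refine ⟨Fin.cons x f, Or.inr ?_⟩
      rw [Fin.range_cons]
      set C := Subgroup.closure (Set.range f) with hC
      set C' := Subgroup.closure (insert x (Set.range f)) with hC'
      have hle : C ≤ C' := Subgroup.closure_mono (Set.subset_insert _ _)
      have hxC' : x ∈ C' := Subgroup.subset_closure (Set.mem_insert _ _)
      have hlt : C < C' := lt_of_le_of_ne hle (fun h => hx (h ▸ hxC'))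
      obtain ⟨a, ha⟩ := (hQ.to_subgroup C).exists_card_eq
      obtain ⟨b, hb⟩ := (hQ.to_subgroup C').exists_card_eq
      have hcardlt : Nat.card C < Nat.card C' := by
        have h1 : (C : Set Q) ⊂ (C' : Set Q) := by exact_mod_cast hlt
        have := Set.ncard_lt_ncard h1 (Set.toFinite _)
        rw [← Nat.card_coe_set_eq, ← Nat.card_coe_set_eq] at this
        exact this
      have hp : 1 < p := (Fact.out : p.Prime).one_lt
      rw [ha, hb] at hcardlt
      have hab : a < b := (Nat.pow_lt_pow_iff_right hp).mp hcardlt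
      rw [ha] at hf'
      have hka : k ≤ a := (Nat.pow_le_pow_iff_right hp).mp hf'
      rw [hb]
      exact Nat.pow_le_pow_right hp.le (by omega)

/-- A group of order `p ^ r` is generated by `r` elements. -/
theorem exists_generators {Q : Type*} [Group Q] [Finite Q] {p r : ℕ} [Fact p.Prime]
    (hQ : Nat.card Q = p ^ r) : ∃ f : Fin r → Q, Subgroup.closure (Set.range f) = ⊤ := by
  obtain ⟨f, hf⟩ := exists_generators_aux (IsPGroup.of_card hQ) r
  refine ⟨f, ?_⟩
  rcases hf with hf | hf
  · exact hf
  · apply Subgroup.eq_top_of_le_card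
    rw [hQ]; exact hf

/-- Lifting generators of `P ⧸ frattini P` gives generators of `P`. -/
theorem exists_generators_of_frattini_index {P : Type*} [Group P] [Finite P] {p r : ℕ}
    [Fact p.Prime] (hr : (frattini P).index = p ^ r) :
    ∃ y : Fin r → P, Subgroup.closure (Set.range y) = ⊤ := by
  have hQ : Nat.card (P ⧸ frattini P) = p ^ r := by
    rw [← hr]; rfl
  obtain ⟨f, hf⟩ := exists_generators hQ
  refine ⟨fun i => Quotient.out (f i), ?_⟩
  apply frattini_nongenerating
  have hmap : (Subgroup.closure (Set.range fun i => Quotient.out (f i))).map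
      (QuotientGroup.mk' (frattini P)) = ⊤ := by
    rw [MonoidHom.map_closure, ← Set.range_comp]
    convert hf using 3
    ext i
    simp
  have := Subgroup.comap_map_eq (QuotientGroup.mk' (frattini P))
    (Subgroup.closure (Set.range fun i => Quotient.out (f i)))
  rw [hmap, Subgroup.comap_top, QuotientGroup.ker_mk'] at this
  exact this.symm

/-- If `x i` generate `P` and `g i ≡ x i` modulo the Frattini subgroup, then `g i` generate `P`. -/
theorem closure_eq_top_of_congr {P : Type*} [Group P] [Finite P] {r : ℕ} (y g : Fin r → P)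
    (hy : Subgroup.closure (Set.range y) = ⊤) (hg : ∀ i, g i * (y i)⁻¹ ∈ frattini P) :
    Subgroup.closure (Set.range g) = ⊤ := by
  apply frattini_nongenerating
  rw [eq_top_iff, ← hy, Subgroup.closure_le]
  rintro _ ⟨i, rfl⟩
  have h1 : g i ∈ Subgroup.closure (Set.range g) ⊔ frattini P :=
    (le_sup_left : Subgroup.closure (Set.range g) ≤ _) (Subgroup.subset_closure ⟨i, rfl⟩)
  have h2 : g i * (y i)⁻¹ ∈ Subgroup.closure (Set.range g) ⊔ frattini P :=
    (le_sup_right : frattini P ≤ _) (hg i)
  have : y i = (g i * (y i)⁻¹)⁻¹ * g i := by group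
  rw [SetLike.mem_coe, this]
  exact Subgroup.mul_mem _ (Subgroup.inv_mem _ h2) h1

/-- The set of tuples congruent to `y` modulo the Frattini subgroup. -/
def Tup {P : Type*} [Group P] {r : ℕ} (y : Fin r → P) : Type _ :=
  {g : Fin r → P // ∀ i, g i * (y i)⁻¹ ∈ frattini P}

def tupEquiv {P : Type*} [Group P] {r : ℕ} (y : Fin r → P) :
    Tup y ≃ (Fin r → frattini P) where
  toFun g := fun i => ⟨g.1 i * (y i)⁻¹, g.2 i⟩
  invFun φ := ⟨fun i => (φ i : P) * y i, fun i => by simp⟩
  left_inv g := by
    apply Subtype.ext
    funext i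
    simp
  right_inv φ := by
    funext i
    apply Subtype.ext
    simp

theorem card_tup {P : Type*} [Group P] [Finite P] {r : ℕ} (y : Fin r → P) :
    Nat.card (Tup y) = Nat.card (frattini P) ^ r := by
  rw [Nat.card_congr (tupEquiv y), Nat.card_fun]
  simp

/-- The action of a group of automorphisms trivial on the Frattini quotient on `Tup y`. -/
@[instance_reducible]
def tupAction {P : Type*} [Group P] {r : ℕ} (y : Fin r → P) (A : Subgroup (MulAut P))
    (hA : ∀ α ∈ A, ∀ x : P, α x * x⁻¹ ∈ frattini P) : MulAction A (Tup y) where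
  smul α g := ⟨fun i => (α : MulAut P) (g.1 i), fun i => by
    have h1 := hA α.1 α.2 (g.1 i)
    have h2 := g.2 i
    have : (α : MulAut P) (g.1 i) * (y i)⁻¹ =
        ((α : MulAut P) (g.1 i) * (g.1 i)⁻¹) * (g.1 i * (y i)⁻¹) := by group
    rw [this]
    exact Subgroup.mul_mem _ h1 h2⟩
  one_smul g := by
    apply Subtype.ext
    funext i
    rfl
  mul_smul α β g := by
    apply Subtype.ext
    funext i
    rfl

/-- Let `P` be a group of order `p^n` whose Frattini subgroup has index `p^r`. Then any group of automorphisms of `P` each of which induces the identity on the Frattini quotient has order dividing `p^(r(n-r))`; in particular it is a `p`-group. -/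
theorem result {P : Type*} [Group P] [Finite P] {p n r : ℕ} [Fact p.Prime] (hP : Nat.card P = p ^ n) (hr : (frattini P).index = p ^ r) (A : Subgroup (MulAut P)) (hA : ∀ α ∈ A, ∀ x : P, α x * x⁻¹ ∈ frattini P) : Nat.card A ∣ p ^ (r * (n - r)) := by
  have hp : 1 < p := (Fact.out : p.Prime).one_lt
  -- order of the Frattini subgroup
  have hmul := (frattini P).card_mul_index
  rw [hP, hr] at hmul
  have hrn : r ≤ n := by
    have : p ^ r ∣ p ^ n := Dvd.intro_left _ hmul
    exact (Nat.pow_dvd_pow_iff_le_right hp).mp this
  have hΦ : Nat.card (frattini P) = p ^ (n - r) := by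
    have h2 : p ^ n = p ^ (n - r) * p ^ r := by
      rw [← pow_add]; congr 1; omega
    rw [h2] at hmul
    exact Nat.eq_of_mul_eq_mul_right (by positivity) hmul
  obtain ⟨y, hy⟩ := exists_generators_of_frattini_index (P := P) hr
  letI := tupAction y A hA
  have hfree : ∀ b : Tup y, MulAction.stabilizer A b = ⊥ := by
    intro b
    rw [eq_bot_iff]
    intro α hα
    rw [MulAction.mem_stabilizer_iff] at hα
    rw [Subgroup.mem_bot]
    apply Subtype.ext
    have hgen := closure_eq_top_of_congr y b.1 hy b.2
    have hfix : ∀ i, (α : MulAut P) (b.1 i) = b.1 i := by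
      intro i
      have := congrArg (fun t : Tup y => t.1 i) hα
      exact this
    have : ((α : MulAut P) : P ≃* P).toMonoidHom = MonoidHom.id P := by
      apply MonoidHom.eq_of_eqOn_dense hgen
      rintro _ ⟨i, rfl⟩
      exact hfix i
    ext x
    have := congrArg (fun f : P →* P => f x) this
    simpa using this
  have hdvd := card_dvd_of_free hfree
  rw [card_tup, hΦ, ← pow_mul] at hdvd
  rwa [mul_comm] at hdvd

end Cfsg.Agent.S4207
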