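import Cfsg.Statements.S4208
import Cfsg.Agent.S4207
import Mathlib

set_option autoImplicit false
open Cfsg
open scoped commutatorElement

namespace Cfsg.Agent.S4208


/-- A free action: the group order divides the size of the set. -/
theorem card_dvd_of_free' {G X : Type*} [Group G] [MulAction G X]
    (h : ∀ b : X, MulAction.stabilizer G b = ⊥) : Nat.card G ∣ Nat.card X := by
  have e := MulAction.selfEquivOrbitsQuotientProd h
  rw [Nat.card_congr e, Nat.card_prod]
  exact dvd_mul_left _ _

section lin

variable {Q : Type*} [CommGroup Q] [Finite Q] {p : ℕ} [Fact p.Prime] [Module (ZMod p) (Additive Q)]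

theorem finrank_eq_of_card {r : ℕ} (hcard : Nat.card Q = p ^ r) :
    Module.finrank (ZMod p) (Additive Q) = r := by
  have hp : 1 < p := (Fact.out : p.Prime).one_lt
  have := Fintype.ofFinite (Additive Q)
  have h := Module.card_eq_pow_finrank (K := ZMod p) (V := Additive Q)
  have hc : Nat.card (Additive Q) = p ^ r := hcard
  rw [ZMod.card, ← Nat.card_eq_fintype_card, hc] at h
  exact (Nat.pow_right_injective hp h).symm

variable (p) in
/-- linearly independent tuples -/
abbrev LI (V : Type*) [AddCommGroup V] [Module (ZMod p) V] (r : ℕ) : Type _ :=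
  {s : Fin r → V // LinearIndependent (ZMod p) s}

/-- the linear map of an automorphism -/
def autLin (φ : MulAut Q) : Additive Q →ₗ[ZMod p] Additive Q :=
  (MonoidHom.toAdditive (φ : Q ≃* Q).toMonoidHom).toZModLinearMap p

theorem autLin_apply (φ : MulAut Q) (x : Additive Q) :
    autLin (p := p) φ x = Additive.ofMul (φ x.toMul) := rfl

theorem autLin_ker (φ : MulAut Q) : LinearMap.ker (autLin (p := p) φ) = ⊥ := by
  apply LinearMap.ker_eq_bot.mpr
  intro x y h
  have : φ x.toMul = φ y.toMul := h
  exact (φ : Q ≃* Q).injective this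

@[instance_reducible]
def liAction (Q : Type*) [CommGroup Q] [Finite Q] (p : ℕ) [Fact p.Prime] [Module (ZMod p) (Additive Q)]
    (r : ℕ) : MulAction (MulAut Q) (LI p (Additive Q) r) where
  smul φ s := ⟨fun i => autLin (p := p) φ (s.1 i), s.2.map' (autLin (p := p) φ) (autLin_ker φ)⟩
  one_smul s := by
    apply Subtype.ext
    funext i
    rfl
  mul_smul φ ψ s := by
    apply Subtype.ext
    funext i
    rfl

theorem card_mulAut_dvd' {r : ℕ} (hcard : Nat.card Q = p ^ r) :
    Nat.card (MulAut Q) ∣ ∏ i ∈ Finset.range r, (p ^ r - p ^ i) := by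
  have hfr := finrank_eq_of_card (p := p) hcard
  letI := liAction Q p r
  have hfree : ∀ b : LI p (Additive Q) r, MulAction.stabilizer (MulAut Q) b = ⊥ := by
    intro b
    rw [eq_bot_iff]
    intro φ hφ
    rw [MulAction.mem_stabilizer_iff] at hφ
    rw [Subgroup.mem_bot]
    have hfix : ∀ i, autLin (p := p) φ (b.1 i) = b.1 i :=
      fun i => congrArg (fun t : LI p (Additive Q) r => t.1 i) hφ
    have hspan : Submodule.span (ZMod p) (Set.range b.1) = ⊤ :=
      b.2.span_eq_top_of_card_eq_finrank' (by simp [hfr])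
    have : autLin (p := p) φ = LinearMap.id := by
      apply LinearMap.ext_on hspan
      rintro _ ⟨i, rfl⟩
      exact hfix i
    ext x
    have := congrArg (fun f : Additive Q →ₗ[ZMod p] Additive Q => f (Additive.ofMul x)) this
    exact this
  have hdvd := card_dvd_of_free' hfree
  have hc := card_linearIndependent (K := ZMod p) (V := Additive Q) (k := r) (le_of_eq hfr.symm)
  rw [hfr, ZMod.card] at hc
  rw [hc, Fin.prod_univ_eq_prod_range (fun i => p ^ r - p ^ i) r] at hdvd
  exact hdvd

end lin

/-- automorphism group of an elementary abelian group of order `p ^ r` -/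
theorem card_mulAut_dvd {Q : Type*} [Group Q] [Finite Q] {p r : ℕ} [Fact p.Prime]
    (hcomm : ∀ a b : Q, a * b = b * a) (hexp : ∀ a : Q, a ^ p = 1) (hcard : Nat.card Q = p ^ r) :
    Nat.card (MulAut Q) ∣ ∏ i ∈ Finset.range r, (p ^ r - p ^ i) := by
  letI : CommGroup Q := { ‹Group Q› with mul_comm := hcomm }
  letI : Module (ZMod p) (Additive Q) :=
    AddCommGroup.zmodModule (n := p) (fun x => by
      induction x using Additive.rec with | _ a => exact congrArg Additive.ofMul (hexp a))
  exact card_mulAut_dvd' (Q := Q) (p := p) hcard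



theorem mem_frattini_iff {P : Type*} [Group P] (x : P) :
    x ∈ frattini P ↔ ∀ M : Subgroup P, IsCoatom M → x ∈ M := by
  simp [frattini, Order.radical, Subgroup.mem_iInf]

theorem coatom_props {P : Type*} [Group P] [Finite P] {p : ℕ} [Fact p.Prime] (hP : IsPGroup p P)
    (M : Subgroup P) (hM : IsCoatom M) : (∀ x y : P, ⁅x, y⁆ ∈ M) ∧ (∀ x : P, x ^ p ∈ M) := by
  haveI : Group.IsNilpotent P := hP.isNilpotent
  haveI : M.Normal := Subgroup.NormalizerCondition.normal_of_coatom M
    Group.normalizerCondition_of_isNilpotent hM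
  -- every subgroup of the quotient is trivial or everything
  have hsub : ∀ S : Subgroup (P ⧸ M), S = ⊥ ∨ S = ⊤ := by
    intro S
    have hle : M ≤ S.comap (QuotientGroup.mk' M) := by
      have := Subgroup.ker_le_comap (QuotientGroup.mk' M) S
      rwa [QuotientGroup.ker_mk'] at this
    rcases hM.le_iff.mp hle with h | h
    · right
      apply Subgroup.comap_injective (QuotientGroup.mk'_surjective M)
      rw [h, Subgroup.comap_top]
    · left
      apply Subgroup.comap_injective (QuotientGroup.mk'_surjective M)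
      rw [h, MonoidHom.comap_bot, QuotientGroup.ker_mk']
  have hPQ : IsPGroup p (P ⧸ M) := hP.to_quotient M
  have hnt : Nat.card (P ⧸ M) ≠ 1 := by
    intro h1
    have : M.index = 1 := h1
    exact hM.1 (Subgroup.index_eq_one.mp this)
  have hdvd : p ∣ Nat.card (P ⧸ M) := hPQ.card_eq_or_dvd.resolve_left hnt
  obtain ⟨h, hh⟩ := exists_prime_orderOf_dvd_card' p hdvd
  have hz : Subgroup.zpowers h = ⊤ := by
    rcases hsub (Subgroup.zpowers h) with h0 | h0
    · exfalso
      rw [Subgroup.zpowers_eq_bot] at h0
      rw [h0, orderOf_one] at hh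
      exact (Fact.out : p.Prime).one_lt.ne hh
    · exact h0
  have hmem : ∀ q : P ⧸ M, ∃ a : ℤ, h ^ a = q := by
    intro q
    have : q ∈ Subgroup.zpowers h := hz ▸ Subgroup.mem_top q
    exact Subgroup.mem_zpowers_iff.mp this
  have hhp : h ^ p = 1 := hh ▸ pow_orderOf_eq_one h
  constructor
  · intro x y
    rw [← QuotientGroup.eq_one_iff, commutatorElement_def]
    obtain ⟨a, ha⟩ := hmem (x : P ⧸ M)
    obtain ⟨b, hb⟩ := hmem (y : P ⧸ M)
    simp only [QuotientGroup.mk_mul, QuotientGroup.mk_inv, ← ha, ← hb]
    rw [← zpow_add, ← zpow_neg, ← zpow_neg, ← zpow_add, ← zpow_add]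
    simp
  · intro x
    rw [← QuotientGroup.eq_one_iff]
    obtain ⟨a, ha⟩ := hmem (x : P ⧸ M)
    rw [QuotientGroup.mk_pow, ← ha, ← zpow_natCast, ← zpow_mul, mul_comm, zpow_mul, zpow_natCast,
      hhp, one_zpow]

theorem frattini_quot_props {P : Type*} [Group P] [Finite P] {p : ℕ} [Fact p.Prime]
    (hP : IsPGroup p P) :
    (∀ a b : P ⧸ frattini P, a * b = b * a) ∧ (∀ a : P ⧸ frattini P, a ^ p = 1) := by
  constructor
  · intro a b
    induction a using QuotientGroup.induction_on with | _ x => ?_
    induction b using QuotientGroup.induction_on with | _ y => ?_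
    rw [← QuotientGroup.mk_mul, ← QuotientGroup.mk_mul, QuotientGroup.eq, mem_frattini_iff]
    intro M hM
    have := (coatom_props hP M hM).1 y⁻¹ x⁻¹
    have h2 : (x * y)⁻¹ * (y * x) = ⁅y⁻¹, x⁻¹⁆ := by
      simp [commutatorElement_def, mul_assoc]
    rw [h2]; exact this
  · intro a
    induction a using QuotientGroup.induction_on with | _ x => ?_
    rw [← QuotientGroup.mk_pow, QuotientGroup.eq_one_iff, mem_frattini_iff]
    intro M hM
    exact (coatom_props hP M hM).2 x

/-- the induced automorphism on the quotient by a characteristic subgroup -/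
noncomputable def quotAut {G : Type*} [Group G] (N : Subgroup G) [hN : N.Characteristic] :
    MulAut G →* MulAut (G ⧸ N) where
  toFun α := QuotientGroup.congr N N α (Subgroup.characteristic_iff_map_eq.mp hN α)
  map_one' := by
    ext x
    induction x using QuotientGroup.induction_on with | _ x => rfl
  map_mul' α β := by
    ext x
    induction x using QuotientGroup.induction_on with | _ x => rfl

theorem quotAut_mk {G : Type*} [Group G] (N : Subgroup G) [hN : N.Characteristic]
    (α : MulAut G) (x : G) : quotAut N α (x : G ⧸ N) = ((α x : G) : G ⧸ N) := rfl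

theorem mem_ker_quotAut {G : Type*} [Group G] (N : Subgroup G) [hN : N.Characteristic]
    (α : MulAut G) (hα : α ∈ (quotAut N).ker) (x : G) : α x * x⁻¹ ∈ N := by
  rw [MonoidHom.mem_ker] at hα
  have h1 : quotAut N α (x : G ⧸ N) = (x : G ⧸ N) := by rw [hα]; rfl
  rw [quotAut_mk, QuotientGroup.eq] at h1
  have h2 := Subgroup.inv_mem _ h1
  have h3 : ((α x)⁻¹ * x)⁻¹ = x⁻¹ * α x := by group
  rw [h3] at h2
  exact (Subgroup.Normal.mem_comm_iff inferInstance).mp h2


/-- Let `P` be a group of order `p^n` whose Frattini subgroup has index `p^r`. Then the order of the automorphism group of `P` divides `p^(r(n-r)) · (p^r - 1)(p^r - p) ⋯ (p^r - p^(r-1))`. -/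
theorem result {P : Type*} [Group P] [Finite P] {p n r : ℕ} [Fact p.Prime] (hP : Nat.card P = p ^ n) (hr : (frattini P).index = p ^ r) : Nat.card (MulAut P) ∣ p ^ (r * (n - r)) * ∏ i ∈ Finset.range r, (p ^ r - p ^ i) := by
  have hPp : IsPGroup p P := IsPGroup.of_card hP
  obtain ⟨hcomm, hexp⟩ := frattini_quot_props hPp
  have hQ : Nat.card (P ⧸ frattini P) = p ^ r := by rw [← hr]; rfl
  have h1 : Nat.card (quotAut (frattini P)).ker ∣ p ^ (r * (n - r)) :=
    Cfsg.Agent.S4207.result hP hr (quotAut (frattini P)).ker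
      (fun α hα x => mem_ker_quotAut (frattini P) α hα x)
  have h2 : Nat.card (quotAut (frattini P)).range ∣ ∏ i ∈ Finset.range r, (p ^ r - p ^ i) :=
    (Subgroup.card_subgroup_dvd_card _).trans (card_mulAut_dvd hcomm hexp hQ)
  rw [← (quotAut (frattini P)).ker.card_mul_index, Subgroup.index_ker]
  exact mul_dvd_mul h1 h2

end Cfsg.Agent.S4208
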