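import Mathlib
import Cfsg.Statements.S1450
import Cfsg.Agent.Lib.Helper24.RankTwoSolv
import Cfsg.Agent.Lib.Helper29.Balance
import Cfsg.Agent.Lib.Helper31.GTPNil
import Cfsg.Agent.Lib.Helper23.ExtLayer

set_option autoImplicit false
open Cfsg

namespace Cfsg.Agent.S1450

open scoped commutatorElement

/-- consequences of `H ≤ O_{p',p}(G)` for a normal subgroup-like `H`: normal `p`-complement and
`p'`-subgroups -/
theorem complement_of_le_pPrimePCore {G : Type*} [Group G] [Finite G] (p : ℕ) [Fact p.Prime]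
    (H : Subgroup G) (hH : H ≤ pPrimePCore p G) :
    Cfsg.HasNormalPComplement p ↥H ∧
      (∀ L : Subgroup ↥H, (Nat.card L).Coprime p → L ≤ Cfsg.pPrimeCore p ↥H) := by
  have hp : p.Prime := Fact.out
  have hKcop : (Nat.card (pPrimeCore p G)).Coprime p := Cfsg.Agent.Helper55.pPrimeCore_coprime p
  have hN₁n : ((pPrimeCore p G).subgroupOf H).Normal := inferInstance
  have hN₁c : (Nat.card ((pPrimeCore p G).subgroupOf H)).Coprime p := by
    apply Nat.Coprime.coprime_dvd_left _ hKcop
    exact Subgroup.card_comap_dvd_of_injective (pPrimeCore p G) H.subtype H.subtype_injective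
  have hpow : ∀ x : ↥H, ∃ k : ℕ, x ^ (p ^ k) ∈ (pPrimeCore p G).subgroupOf H := by
    intro x
    obtain ⟨k, hk⟩ := Cfsg.Agent.Helper23.exists_pow_mem_pPrimeCore (hH x.2)
    refine ⟨k, ?_⟩
    rw [Subgroup.mem_subgroupOf, Subgroup.coe_pow]
    exact hk
  constructor
  · rw [Cfsg.Agent.Helper31.GT.hnpc_iff]
    refine ⟨(pPrimeCore p G).subgroupOf H, hN₁n, hN₁c, ?_⟩
    have hQ : IsPGroup p (↥H ⧸ (pPrimeCore p G).subgroupOf H) := by
      intro q
      induction q using QuotientGroup.induction_on with | _ x => ?_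
      obtain ⟨k, hk⟩ := hpow x
      refine ⟨k, ?_⟩
      rw [← QuotientGroup.mk_pow, QuotientGroup.eq_one_iff]
      exact hk
    obtain ⟨k, hk⟩ := IsPGroup.iff_card.mp hQ
    exact ⟨k, by rw [Subgroup.index_eq_card]; exact hk⟩
  · intro L hL x hx
    apply Cfsg.Agent.Helper55.le_pPrimeCore hN₁n hN₁c
    obtain ⟨k, hk⟩ := hpow x
    have hcopx : (p ^ k).Coprime (orderOf x) := by
      have h1 : orderOf x ∣ Nat.card L := by
        have := orderOf_dvd_natCard (⟨x, hx⟩ : L)
        rwa [← Subgroup.orderOf_coe] at this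
      exact Nat.Coprime.pow_left k (Nat.Coprime.coprime_dvd_left h1 hL).symm
    obtain ⟨m, hm⟩ := exists_pow_eq_self_of_coprime hcopx
    rw [← hm]
    exact Subgroup.pow_mem _ hk m

/-- Let G be a solvable group of odd order, p a prime dividing its order with G having no elementary abelian subgroup of order p ^ 3. Then every prime dividing the index of O_{p'}(G) is at most p; if p = 3 or p is the smallest prime divisor of #G then G has a normal p-complement; the derived subgroup G' has a normal p-complement; every subgroup of G' of order coprime to p lies in O_{p'}(G'); and G/O_{p',p}(G) is abelian of order coprime to p. -/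
theorem result {G : Type*} [Group G] [Finite G] [Group.IsSolvable G] (hodd : Odd (Nat.card G)) (p : ℕ) [Fact p.Prime] (hpG : p ∣ Nat.card G) (hr : Cfsg.PRankLE p 2 G) :
    (∀ q : ℕ, q.Prime → q ∣ (Cfsg.pPrimeCore p G).index → q ≤ p) ∧
      ((p = 3 ∨ ∀ q : ℕ, q.Prime → q ∣ Nat.card G → p ≤ q) → Cfsg.HasNormalPComplement p G) ∧
      Cfsg.HasNormalPComplement p ↥(commutator G) ∧
      (∀ L : Subgroup ↥(commutator G), (Nat.card L).Coprime p → L ≤ Cfsg.pPrimeCore p ↥(commutator G)) ∧
      commutator G ≤ Cfsg.pPrimePCore p G ∧ ((Cfsg.pPrimePCore p G).index).Coprime p := by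
  classical
  have hp : p.Prime := Fact.out
  have hp2 : p ≠ 2 := by
    rintro rfl
    exact hodd.not_two_dvd_nat hpG
  have hKcop : (Nat.card (pPrimeCore p G)).Coprime p := Cfsg.Agent.Helper55.pPrimeCore_coprime p
  have hsolvQ : Group.IsSolvable (G ⧸ pPrimeCore p G) := inferInstance
  have hoddQ : Odd (Nat.card (G ⧸ pPrimeCore p G)) :=
    Odd.of_dvd_nat hodd (Subgroup.card_quotient_dvd_card _)
  have hcent := (Cfsg.Agent.Helper24.isPConstrained_iff_quotient (G := G) (p := p)).mp
    (Cfsg.Agent.Helper29.isPConstrained_of_isSolvable p)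
  have hrkQ : PRankLE p 2 ↥(pCore p (G ⧸ pPrimeCore p G)) :=
    Cfsg.Agent.Helper24.RankTwoSolv.pRankLE_subgroup
      (Cfsg.Agent.Helper24.RankTwoSolv.pRankLE_quotient_coprime _ hKcop hr) _
  obtain ⟨hc1, hc2, hc3⟩ := Cfsg.Agent.Helper24.RankTwoSolv.core hsolvQ hoddQ hp2 hcent hrkQ
  have he1 : commutator G ≤ pPrimePCore p G := by
    rw [commutator_def, Subgroup.commutator_le]
    intro a _ b _
    show QuotientGroup.mk' (pPrimeCore p G) ⁅a, b⁆ ∈ pCore p (G ⧸ pPrimeCore p G)
    rw [map_commutatorElement]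
    apply hc1
    rw [commutator_def]
    exact Subgroup.commutator_mem_commutator (Subgroup.mem_top _) (Subgroup.mem_top _)
  have he2 : ((pPrimePCore p G).index).Coprime p := by
    have : (pPrimePCore p G).index = (pCore p (G ⧸ pPrimeCore p G)).index :=
      Subgroup.index_comap_of_surjective _ (QuotientGroup.mk'_surjective _)
    rw [this]; exact hc2
  have ha : ∀ q : ℕ, q.Prime → q ∣ (pPrimeCore p G).index → q ≤ p := by
    intro q hq hqd
    rw [Subgroup.index_eq_card] at hqd
    exact hc3 q hq hqd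
  obtain ⟨hcd1, hcd2⟩ := complement_of_le_pPrimePCore p (commutator G) he1
  refine ⟨ha, ?_, hcd1, hcd2, he1, he2⟩
  intro hb
  have hall : ∀ q : ℕ, q.Prime → q ∣ (pPrimeCore p G).index → q = p := by
    intro q hq hqd
    have hle := ha q hq hqd
    have hqG : q ∣ Nat.card G := hqd.trans (Subgroup.index_dvd_card _)
    rcases hb with h3 | hmin
    · have hq2 : q ≠ 2 := by
        rintro rfl
        exact hodd.not_two_dvd_nat hqG
      have := hq.two_le
      omega
    · exact le_antisymm hle (hmin q hq hqG)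
  have hidx0 : (pPrimeCore p G).index ≠ 0 := Subgroup.index_ne_zero_of_finite
  have hidx : ∃ k : ℕ, (pPrimeCore p G).index = p ^ k :=
    ⟨_, Nat.eq_prime_pow_of_unique_prime_dvd hidx0 (fun hd hdv => hall _ hd hdv)⟩
  exact (Cfsg.Agent.Helper31.GT.hnpc_iff).mpr ⟨pPrimeCore p G, inferInstance, hKcop, hidx⟩

end Cfsg.Agent.S1450
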