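import Mathlib
import Cfsg.Statements.S1451
import Cfsg.Agent.Lib.Helper24.RankTwoSolv
import Cfsg.Agent.Lib.Helper63.FittingCrit
import Cfsg.Agent.Lib.Helper62.PiCore
import Cfsg.Agent.Lib.Helper22.Fitting
import Cfsg.Agent.Lib.Helper19.PRank

set_option autoImplicit false
open Cfsg

namespace Cfsg.Agent.S1451

open scoped commutatorElement

/-- a subgroup containing the derived subgroup is normal -/
theorem normal_of_commutator_le {G : Type*} [Group G] (H : Subgroup G) (h : commutator G ≤ H) :
    H.Normal := by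
  constructor
  intro s hs g
  have : g * s * g⁻¹ = ⁅g, s⁆ * s := by rw [commutatorElement_def]; group
  rw [this]
  refine Subgroup.mul_mem _ (h ?_) hs
  rw [commutator_def]
  exact Subgroup.commutator_mem_commutator (Subgroup.mem_top g) (Subgroup.mem_top s)

/-- a subgroup `K` all of whose elements conjugate `H` into itself normalizes `H` -/
theorem le_normalizer_of_conj_mem {G : Type*} [Group G] {H K : Subgroup G}
    (h : ∀ g ∈ K, ∀ x ∈ H, g * x * g⁻¹ ∈ H) : K ≤ Subgroup.normalizer (H : Set G) := by
  intro g hg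
  rw [Subgroup.mem_normalizer_iff]
  intro x
  constructor
  · exact h g hg x
  · intro hx
    have := h g⁻¹ (K.inv_mem hg) _ hx
    have e : g⁻¹ * (g * x * g⁻¹) * g⁻¹⁻¹ = x := by group
    rwa [e] at this

/-- the `2`-core of a group of odd order is trivial -/
theorem pCore_two_eq_bot {G : Type*} [Group G] [Finite G] (hodd : Odd (Nat.card G)) :
    pCore 2 G = ⊥ := by
  have : Fact (Nat.Prime 2) := ⟨Nat.prime_two⟩
  have h2 : IsPGroup 2 (pCore 2 G) := Cfsg.Agent.Helper55.isPGroup_pCore
  obtain ⟨n, hn⟩ := h2.exists_card_eq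
  have hd : Nat.card (pCore 2 G) ∣ Nat.card G := Subgroup.card_subgroup_dvd_card _
  have hoddc : Odd (Nat.card (pCore 2 G)) := Odd.of_dvd_nat hodd hd
  rw [hn] at hoddc
  have hn0 : n = 0 := by
    by_contra hne
    have : Even (2 ^ n) := (Nat.even_pow.mpr ⟨even_two, hne⟩)
    exact (Nat.not_odd_iff_even.mpr this) hoddc
  rw [hn0, pow_zero] at hn
  exact Subgroup.eq_bot_of_card_eq _ hn

section keys

variable {G : Type*} [Group G] [Finite G]

omit [Finite G] in
/-- triviality of the conjugation automorphism means centralizing -/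
theorem mem_centralizer_of_conjNormal_eq_one (N : Subgroup G) [N.Normal] (g : G)
    (hg : (MulAut.conjNormal g : MulAut ↥N) = 1) : g ∈ Subgroup.centralizer (N : Set G) := by
  rw [Subgroup.mem_centralizer_iff]
  intro x hx
  have h1 : (MulAut.conjNormal g : MulAut ↥N) ⟨x, hx⟩ = ⟨x, hx⟩ := by rw [hg]; rfl
  have h2 := congrArg Subtype.val h1
  rw [MulAut.conjNormal_apply] at h2
  have h3 : g * x * g⁻¹ = x := h2
  calc x * g = (g * x * g⁻¹) * g := by rw [h3]
    _ = g * x := by group

theorem key1 (hsolv : Group.IsSolvable G) (hodd : Odd (Nat.card G)) (q : ℕ) [Fact q.Prime]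
    (hrk : PRankLE q 2 ↥(pCore q G)) (y : G) (hy : y ∈ commutator G)
    (hcop : (orderOf y).Coprime q) : y ∈ Subgroup.centralizer (pCore q G : Set G) := by
  by_cases hq2 : q = 2
  · subst hq2
    rw [pCore_two_eq_bot hodd, Subgroup.mem_centralizer_iff]
    intro h hh
    have hh' : h ∈ (⊥ : Subgroup G) := hh
    rw [Subgroup.mem_bot] at hh'
    rw [hh', one_mul, mul_one]
  · apply mem_centralizer_of_conjNormal_eq_one
    have hQp : IsPGroup q (pCore q G) := Cfsg.Agent.Helper55.isPGroup_pCore
    let φ : G →* MulAut ↥(pCore q G) := MulAut.conjNormal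
    have hoddX : Odd (Nat.card ↥φ.range) := Odd.of_dvd_nat hodd (Subgroup.card_range_dvd φ)
    have hsolvX : Group.IsSolvable ↥φ.range :=
      Group.isSolvable_of_surjective (f := φ.rangeRestrict) φ.rangeRestrict_surjective
    have hX : IsPGroup q (commutator ↥φ.range) :=
      Cfsg.Agent.Helper24.RankTwoAut.isPGroup_commutator_of_rank_two hq2 hQp hrk φ.range.subtype
        Subtype.val_injective hoddX hsolvX
    have hle : commutator G ≤ (commutator ↥φ.range).comap φ.rangeRestrict := by
      rw [commutator_def, Subgroup.commutator_le]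
      intro a _ b _
      rw [Subgroup.mem_comap, map_commutatorElement, commutator_def]
      exact Subgroup.commutator_mem_commutator (Subgroup.mem_top _) (Subgroup.mem_top _)
    obtain ⟨k, hk⟩ := hX ⟨φ.rangeRestrict y, hle hy⟩
    have hk1 : (φ y) ^ (q ^ k) = 1 := by
      have h1 := congrArg Subtype.val hk
      rw [Subgroup.coe_pow] at h1
      have h2 := congrArg Subtype.val h1
      rw [Subgroup.coe_pow] at h2
      exact h2
    have hd1 : orderOf (φ y) ∣ q ^ k := orderOf_dvd_of_pow_eq_one hk1
    have hd2 : orderOf (φ y) ∣ orderOf y := orderOf_map_dvd φ y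
    have hc : (orderOf y).Coprime (q ^ k) := hcop.pow_right k
    have h1 : orderOf (φ y) = 1 := Nat.eq_one_of_dvd_coprimes hc hd2 hd1
    exact orderOf_eq_one_iff.mp h1

theorem key2 (hodd : Odd (Nat.card G)) (q : ℕ) [Fact q.Prime]
    (hrk : PRankLE q 2 ↥(pCore q G)) (x : G) (r k : ℕ) (hr : r.Prime) (hqr : q < r)
    (hx : orderOf x = r ^ k) : x ∈ Subgroup.centralizer (pCore q G : Set G) := by
  by_cases hq2 : q = 2
  · subst hq2
    rw [pCore_two_eq_bot hodd, Subgroup.mem_centralizer_iff]
    intro h hh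
    have hh' : h ∈ (⊥ : Subgroup G) := hh
    rw [Subgroup.mem_bot] at hh'
    rw [hh', one_mul, mul_one]
  · apply mem_centralizer_of_conjNormal_eq_one
    have hQp : IsPGroup q (pCore q G) := Cfsg.Agent.Helper55.isPGroup_pCore
    let φ : G →* MulAut ↥(pCore q G) := MulAut.conjNormal
    by_contra hne
    have hd2 : orderOf (φ x) ∣ r ^ k := hx ▸ orderOf_map_dvd φ x
    obtain ⟨j, -, hj⟩ := (Nat.dvd_prime_pow hr).mp hd2
    have hj0 : j ≠ 0 := by
      rintro rfl
      rw [pow_zero] at hj
      exact hne (orderOf_eq_one_iff.mp hj)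
    have hrd : r ∣ Nat.card (MulAut ↥(pCore q G)) := by
      have h1 : r ∣ orderOf (φ x) := by rw [hj]; exact dvd_pow_self r hj0
      exact h1.trans (orderOf_dvd_natCard _)
    have := (Cfsg.Agent.S0640.result hq2 hQp hrk r hr (Nat.ne_of_gt hqr) hrd).2
    omega

end keys

/-- Let G be a solvable group of odd order such that G, or its Fitting subgroup, has no elementary abelian subgroup of order q ^ 3 for any prime q. Then G' is nilpotent; for every Sylow subgroup S of G, every characteristic subgroup T of S with T ≤ [S, S] is normal in G; and for every prime p, G has a characteristic subgroup that is a Hall subgroup for the set of primes greater than p. -/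
theorem result {G : Type*} [Group G] [Finite G] [Group.IsSolvable G] (hodd : Odd (Nat.card G)) (hr : Cfsg.RankLE 2 G ∨ Cfsg.RankLE 2 (Cfsg.fittingSubgroup G)) :
    Group.IsNilpotent ↥(commutator G) ∧
      (∀ (q : ℕ) [Fact q.Prime] (S : Sylow q G) (T : Subgroup ↥(S : Subgroup G)), T.Characteristic → T.map (S : Subgroup G).subtype ≤ ⁅(S : Subgroup G), (S : Subgroup G)⁆ →
        (T.map (S : Subgroup G).subtype).Normal) ∧
      ∀ p : ℕ, ∃ N : Subgroup G, N.Characteristic ∧ Cfsg.IsPiHall {q | q.Prime ∧ p < q} N := by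
  classical
  have hsolv : Group.IsSolvable G := inferInstance
  have hrF : Cfsg.RankLE 2 ↥(Cfsg.fittingSubgroup G) := by
    rcases hr with h | h
    · intro q hq
      exact Cfsg.Agent.Helper24.RankTwoSolv.pRankLE_subgroup (h q hq) _
    · exact h
  have hrkq : ∀ (q : ℕ) [Fact q.Prime], PRankLE q 2 ↥(pCore q G) := by
    intro q hq
    exact Cfsg.Agent.Helper19.prankLE_mono (Cfsg.Agent.Helper22.pCore_le_fittingSubgroup q)
      (hrF q hq.out)
  have hFn : (Cfsg.fittingSubgroup G).Normal := Cfsg.Agent.Helper22.fittingSubgroup_normal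
  -- (i)
  have hG'F : commutator G ≤ Cfsg.fittingSubgroup G :=
    Cfsg.Agent.Helper63.le_fittingSubgroup_of_centralizes hsolv (commutator G)
      (fun p _ y hy hc => key1 hsolv hodd p (hrkq p) y hy hc)
  have hFnil : Group.IsNilpotent ↥(Cfsg.fittingSubgroup G) :=
    Cfsg.Agent.Helper22.isNilpotent_fittingSubgroup
  have hnil : Group.IsNilpotent ↥(commutator G) := by
    have e := Subgroup.subgroupOfEquivOfLe hG'F
    exact Group.nilpotent_of_mulEquiv e
  refine ⟨hnil, ?_, ?_⟩
  · -- (ii)
    intro q hq S T hTchar hTle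
    have hKcop : (Nat.card (pPrimeCore q G)).Coprime q := Cfsg.Agent.Helper55.pPrimeCore_coprime q
    have hRS : pCore q G ≤ (S : Subgroup G) := Cfsg.Agent.Helper55.pCore_le_sylow S
    have hKS : pPrimeCore q G ⊓ (S : Subgroup G) = ⊥ :=
      Cfsg.Agent.Helper54.inf_eq_bot_of_isPGroup_of_coprime _ _ hKcop S.isPGroup'
    have hdisj : Disjoint (pPrimeCore q G) (pCore q G) := by
      rw [disjoint_iff, eq_bot_iff, ← hKS]
      exact inf_le_inf_left _ hRS
    have hFsup : Cfsg.fittingSubgroup G ≤ pCore q G ⊔ pPrimeCore q G :=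
      Cfsg.Agent.Helper22.fittingSubgroup_le_pCore_sup_pPrimeCore q
    have hTS : T.map (S : Subgroup G).subtype ≤ (S : Subgroup G) := by
      rintro _ ⟨t, -, rfl⟩
      exact t.2
    have hSS : ⁅(S : Subgroup G), (S : Subgroup G)⁆ ≤ commutator G := by
      rw [commutator_def]
      exact Subgroup.commutator_mono le_top le_top
    -- T' ≤ O_q(G)
    have hT'R : T.map (S : Subgroup G).subtype ≤ pCore q G := by
      intro x hx
      have hxF : x ∈ pCore q G ⊔ pPrimeCore q G := hFsup (hG'F (hSS (hTle hx)))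
      obtain ⟨r, hr, c, hc, hrc⟩ := Subgroup.mem_sup_of_normal_right.mp hxF
      have hcS : c ∈ (S : Subgroup G) := by
        have : c = r⁻¹ * x := by rw [← hrc]; group
        rw [this]
        exact Subgroup.mul_mem _ (Subgroup.inv_mem _ (hRS hr)) (hTS hx)
      have hc1 : c ∈ pPrimeCore q G ⊓ (S : Subgroup G) := Subgroup.mem_inf.mpr ⟨hc, hcS⟩
      rw [hKS, Subgroup.mem_bot] at hc1
      rw [← hrc, hc1, mul_one]
      exact hr
    -- S normalizes T'
    have hTn : T.Normal := inferInstance
    have hSconj : ∀ s ∈ (S : Subgroup G), ∀ x ∈ T.map (S : Subgroup G).subtype,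
        s * x * s⁻¹ ∈ T.map (S : Subgroup G).subtype := by
      rintro s hs _ ⟨t, ht, rfl⟩
      exact ⟨⟨s, hs⟩ * t * ⟨s, hs⟩⁻¹, hTn.conj_mem t ht ⟨s, hs⟩, rfl⟩
    have hN1 : Subgroup.normalizer ((S : Subgroup G) : Set G) ≤
        Subgroup.normalizer ((T.map (S : Subgroup G).subtype : Subgroup G) : Set G) := by
      apply le_normalizer_of_conj_mem
      rintro n hn _ ⟨t, ht, rfl⟩
      let ϕ : MulAut ↥(S : Subgroup G) := (S : Subgroup G).normalizerMonoidHom ⟨n, hn⟩
      have hϕ : ϕ t ∈ T := by
        have := (Subgroup.characteristic_iff_le_comap.mp hTchar) ϕ ht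
        exact this
      exact ⟨ϕ t, hϕ, rfl⟩
    have hN2 : commutator G ≤
        Subgroup.normalizer ((T.map (S : Subgroup G).subtype : Subgroup G) : Set G) := by
      apply le_normalizer_of_conj_mem
      intro g hg x hx
      have hgF : g ∈ pCore q G ⊔ pPrimeCore q G := hFsup (hG'F hg)
      obtain ⟨r, hr, c, hc, hrc⟩ := Subgroup.mem_sup_of_normal_right.mp hgF
      have hcx : Commute c x :=
        Subgroup.commute_of_normal_of_disjoint _ _ inferInstance inferInstance hdisj c x hc
          (hT'R hx)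
      have hcx' : c * x * c⁻¹ = x := by rw [hcx.eq]; group
      have : g * x * g⁻¹ = r * (c * x * c⁻¹) * r⁻¹ := by rw [← hrc]; group
      rw [this, hcx']
      exact hSconj r (hRS hr) x hx
    have hNn : (commutator G ⊔ (S : Subgroup G)).Normal :=
      normal_of_commutator_le _ le_sup_left
    have hfr := Sylow.normalizer_sup_eq_top' S (N := commutator G ⊔ (S : Subgroup G)) le_sup_right
    rw [← Subgroup.normalizer_eq_top_iff, eq_top_iff, ← hfr]
    exact sup_le hN1 (sup_le hN2 (Subgroup.le_normalizer.trans hN1))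
  · -- (iii)
    intro p
    refine ⟨piCore {q | q.Prime ∧ p < q} G, inferInstance,
      Cfsg.Agent.Helper62.isPi_piCore _, ?_⟩
    intro r hr hrπ hdvd
    have : Fact r.Prime := ⟨hr⟩
    obtain ⟨S⟩ : Nonempty (Sylow r G) := inferInstance
    have hSπ : Cfsg.Agent.Helper62.IsPi {q | q.Prime ∧ p < q} (S : Subgroup G) := by
      intro q hq hqd
      obtain ⟨n, hn⟩ := S.isPGroup'.exists_card_eq
      rw [hn] at hqd
      have : q = r := (Nat.prime_dvd_prime_iff_eq hq hr).mp (hq.dvd_of_dvd_pow hqd)
      rw [this]; exact hrπ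
    have hAπ : Cfsg.Agent.Helper62.IsPi {q | q.Prime ∧ p < q}
        ((S : Subgroup G) ⊔ piCore {q | q.Prime ∧ p < q} G) :=
      Cfsg.Agent.Helper62.isPi_sup _ _ _ hSπ (Cfsg.Agent.Helper62.isPi_piCore _)
    -- A ≤ centralizer of O_q for q ≤ p
    have hcent : ∀ (q : ℕ) [Fact q.Prime], ¬ p < q →
        pCore q G ≤ Subgroup.centralizer
          (((S : Subgroup G) ⊔ piCore {q | q.Prime ∧ p < q} G : Subgroup G) : Set G) := by
      intro q hq hqp
      rw [Subgroup.le_centralizer_iff]
      apply sup_le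
      · intro x hx
        obtain ⟨k, hk⟩ := S.isPGroup' ⟨x, hx⟩
        have hk' : x ^ (r ^ k) = 1 := by
          have := congrArg Subtype.val hk
          rw [Subgroup.coe_pow] at this
          exact this
        obtain ⟨j, -, hj⟩ := (Nat.dvd_prime_pow hr).mp (orderOf_dvd_of_pow_eq_one hk')
        have hqr : q < r := lt_of_le_of_lt (not_lt.mp hqp) hrπ.2
        exact key2 hodd q (hrkq q) x r j hr hqr hj
      · have hQp : IsPGroup q (pCore q G) := Cfsg.Agent.Helper55.isPGroup_pCore
        obtain ⟨m, hm⟩ := hQp.exists_card_eq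
        have hqO : ¬ q ∣ Nat.card (piCore {q | q.Prime ∧ p < q} G) := by
          intro hd
          exact hqp (Cfsg.Agent.Helper62.isPi_piCore _ q hq.out hd).2
        have hcop : (Nat.card (pCore q G)).Coprime (Nat.card (piCore {q | q.Prime ∧ p < q} G)) := by
          rw [hm]
          exact Nat.Coprime.pow_left m ((Nat.Prime.coprime_iff_not_dvd hq.out).mpr hqO)
        have hdisj : Disjoint (pCore q G) (piCore {q | q.Prime ∧ p < q} G) :=
          Subgroup.disjoint_of_coprime_natCard hcop
        intro z hz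
        rw [Subgroup.mem_centralizer_iff]
        intro h hh
        exact (Subgroup.commute_of_normal_of_disjoint _ _ inferInstance inferInstance hdisj h z
          hh hz).eq
    -- A is normal in A ⊔ F(G), which is normal in G
    have hBn : (((S : Subgroup G) ⊔ piCore {q | q.Prime ∧ p < q} G) ⊔
        Cfsg.fittingSubgroup G).Normal :=
      normal_of_commutator_le _ (hG'F.trans le_sup_right)
    have hFnorm : Cfsg.fittingSubgroup G ≤ Subgroup.normalizer
        ((((S : Subgroup G) ⊔ piCore {q | q.Prime ∧ p < q} G : Subgroup G)) : Set G) := by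
      rw [Cfsg.Agent.Helper22.fittingSubgroup_eq_iSup_pCore]
      apply iSup_le
      rintro ⟨q, hq⟩
      have : Fact q.Prime := ⟨hq⟩
      by_cases hqp : p < q
      · have hle : pCore q G ≤ piCore {q | q.Prime ∧ p < q} G := by
          apply Cfsg.Agent.Helper62.le_piCore _ inferInstance
          intro q' hq' hd
          have hQp : IsPGroup q (pCore q G) := Cfsg.Agent.Helper55.isPGroup_pCore
          obtain ⟨m, hm⟩ := hQp.exists_card_eq
          rw [hm] at hd
          have : q' = q := (Nat.prime_dvd_prime_iff_eq hq' hq).mp (hq'.dvd_of_dvd_pow hd)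
          rw [this]; exact ⟨hq, hqp⟩
        exact hle.trans (le_sup_right.trans Subgroup.le_normalizer)
      · exact (hcent q hqp).trans (Subgroup.centralizer_le_normalizer _)
    have hAB : (S : Subgroup G) ⊔ piCore {q | q.Prime ∧ p < q} G ≤
        ((S : Subgroup G) ⊔ piCore {q | q.Prime ∧ p < q} G) ⊔ Cfsg.fittingSubgroup G :=
      le_sup_left
    have hAnB : (((S : Subgroup G) ⊔ piCore {q | q.Prime ∧ p < q} G).subgroupOf
        (((S : Subgroup G) ⊔ piCore {q | q.Prime ∧ p < q} G) ⊔ Cfsg.fittingSubgroup G)).Normal := by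
      rw [Subgroup.normal_subgroupOf_iff_le_normalizer hAB]
      exact sup_le Subgroup.le_normalizer hFnorm
    have hAsub : ((S : Subgroup G) ⊔ piCore {q | q.Prime ∧ p < q} G).IsSubnormal :=
      Subgroup.IsSubnormal.step _ _ hAB hBn.isSubnormal hAnB
    have hSle : (S : Subgroup G) ≤ piCore {q | q.Prime ∧ p < q} G :=
      le_sup_left.trans (Cfsg.Agent.Helper62.subnormal_le_piCore _ hAsub hAπ)
    have h1 : r ∣ (S : Subgroup G).index := hdvd.trans (Subgroup.index_dvd_of_le hSle)
    exact S.not_dvd_index h1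

end Cfsg.Agent.S1451
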