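import Cfsg.Statements.S0100
import Mathlib
import Cfsg.Agent.Lib.Helper87.OmegaLemma
import Cfsg.Agent.Lib.Helper35.NormalStep
-- import your own Cfsg.Agent.* helpers here

set_option autoImplicit false
open Cfsg

namespace Cfsg.Agent.S0100

/-- `A` is a normal abelian subgroup of exponent dividing `p`. -/
def EA {P : Type*} [Group P] (p : ℕ) (A : Subgroup P) : Prop :=
  A.Normal ∧ (∀ a ∈ A, ∀ b ∈ A, a * b = b * a) ∧ (∀ a ∈ A, a ^ p = 1)

/-- A strictly smaller subgroup of a finite group has strictly smaller order. -/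
theorem card_lt_of_lt {G : Type*} [Group G] [Finite G] {H K : Subgroup G} (h : H < K) :
    Nat.card H < Nat.card K := by
  by_contra hcon
  push Not at hcon
  exact h.ne (Subgroup.eq_of_le_of_card_ge h.le hcon)

/-- A `p`-subgroup `Q` normalizing a nontrivial `p`-subgroup `N` centralizes a nontrivial
element of `N`. -/
theorem exists_fixed {G : Type*} [Group G] [Finite G] {p : ℕ} [Fact p.Prime]
    (N Q : Subgroup G) (hN : IsPGroup p N) (hNbot : N ≠ ⊥) (hQ : IsPGroup p Q)
    (hnorm : ∀ q ∈ Q, ∀ n ∈ N, q * n * q⁻¹ ∈ N) :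
    ∃ z ∈ N, z ≠ 1 ∧ ∀ q ∈ Q, q * z = z * q := by
  letI act : MulAction Q N :=
    { smul := fun t a => ⟨(t : G) * (a : G) * (t : G)⁻¹, hnorm t t.2 a a.2⟩
      one_smul := fun a => by
        apply Subtype.ext
        change ((1 : Q) : G) * (a : G) * ((1 : Q) : G)⁻¹ = a
        simp
      mul_smul := fun t1 t2 a => by
        apply Subtype.ext
        change ((t1 * t2 : Q) : G) * (a : G) * ((t1 * t2 : Q) : G)⁻¹ =
          (t1 : G) * ((t2 : G) * (a : G) * (t2 : G)⁻¹) * (t1 : G)⁻¹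
        simp only [Subgroup.coe_mul]
        group }
  have hdvd : p ∣ Nat.card N := by
    obtain ⟨k, hk⟩ := IsPGroup.iff_card.mp hN
    rcases Nat.eq_zero_or_pos k with h0 | h0
    · exfalso
      apply hNbot
      rw [← Subgroup.card_eq_one, hk, h0, pow_zero]
    · rw [hk]
      exact dvd_pow_self p h0.ne'
  have h1 : (1 : N) ∈ MulAction.fixedPoints Q N := by
    intro t
    apply Subtype.ext
    change (t : G) * ((1 : N) : G) * (t : G)⁻¹ = ((1 : N) : G)
    simp
  obtain ⟨b, hb, hne⟩ := hQ.exists_fixed_point_of_prime_dvd_card_of_fixed_point N hdvd h1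
  refine ⟨b, b.2, ?_, ?_⟩
  · intro h
    apply hne
    apply Subtype.ext
    rw [h]
    rfl
  · intro q hq
    have h3 : q * (b : G) * q⁻¹ = b := congrArg Subtype.val (hb ⟨q, hq⟩)
    calc q * (b : G) = (q * (b : G) * q⁻¹) * q := by group
      _ = b * q := by rw [h3]

/-- Structure of `A ⊔ zpowers x` for `x` of order dividing `p` centralizing the abelian group
`A` of exponent `p`. -/
theorem sup_zpowers_props {P : Type*} [Group P] {p : ℕ} (A : Subgroup P)
    (hAc : ∀ a ∈ A, ∀ b ∈ A, a * b = b * a) (hAp : ∀ a ∈ A, a ^ p = 1) (x : P)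
    (hxC : x ∈ Subgroup.centralizer (A : Set P)) (hxp : x ^ p = 1) :
    (A ⊔ Subgroup.zpowers x ≤ Subgroup.centralizer (A : Set P)) ∧
    (∀ b ∈ A ⊔ Subgroup.zpowers x, ∀ b' ∈ A ⊔ Subgroup.zpowers x, b * b' = b' * b) ∧
    (∀ b ∈ A ⊔ Subgroup.zpowers x, b ^ p = 1) := by
  have h1 : A ⊔ Subgroup.zpowers x ≤ Subgroup.centralizer (A : Set P) := by
    apply sup_le
    · intro a ha
      rw [Subgroup.mem_centralizer_iff]
      intro b hb
      exact hAc b hb a ha
    · rw [Subgroup.zpowers_le]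
      exact hxC
  have h2 : A ⊔ Subgroup.zpowers x ≤ Subgroup.centralizer ({x} : Set P) := by
    apply sup_le
    · intro a ha
      rw [Subgroup.mem_centralizer_singleton_iff]
      exact (Subgroup.mem_centralizer_iff.mp hxC a ha)
    · rw [Subgroup.zpowers_le, Subgroup.mem_centralizer_singleton_iff]
  have h3 : A ⊔ Subgroup.zpowers x ≤
      Subgroup.centralizer ((A ⊔ Subgroup.zpowers x : Subgroup P) : Set P) := by
    apply sup_le
    · intro a ha
      rw [Subgroup.mem_centralizer_iff]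
      intro b hb
      exact (Subgroup.mem_centralizer_iff.mp (h1 hb) a ha).symm
    · rw [Subgroup.zpowers_le, Subgroup.mem_centralizer_iff]
      intro b hb
      exact Subgroup.mem_centralizer_singleton_iff.mp (h2 hb)
  have hcomm : ∀ b ∈ A ⊔ Subgroup.zpowers x, ∀ b' ∈ A ⊔ Subgroup.zpowers x,
      b * b' = b' * b := by
    intro b hb b' hb'
    exact Subgroup.mem_centralizer_iff.mp (h3 hb') b hb
  refine ⟨h1, hcomm, ?_⟩
  let K : Subgroup P :=
    { carrier := {b | b ∈ A ⊔ Subgroup.zpowers x ∧ b ^ p = 1}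
      one_mem' := ⟨Subgroup.one_mem _, one_pow p⟩
      mul_mem' := by
        rintro b b' ⟨hb, hbp⟩ ⟨hb', hbp'⟩
        refine ⟨Subgroup.mul_mem _ hb hb', ?_⟩
        have hc : Commute b b' := hcomm b hb b' hb'
        rw [hc.mul_pow, hbp, hbp', one_mul]
      inv_mem' := by
        rintro b ⟨hb, hbp⟩
        exact ⟨Subgroup.inv_mem _ hb, by rw [inv_pow, hbp, inv_one]⟩ }
  have hK : A ⊔ Subgroup.zpowers x ≤ K := by
    apply sup_le
    · intro a ha
      exact ⟨Subgroup.mem_sup_left ha, hAp a ha⟩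
    · rw [Subgroup.zpowers_le]
      exact ⟨Subgroup.mem_sup_right (Subgroup.mem_zpowers x), hxp⟩
  intro b hb
  exact (hK hb).2

/-- The inductive step of Alperin's lemma: if `y` is an element of order `p` of `C_P(A)`
outside `A` and `A⟨y⟩` is not normal in `P`, then there is another such element `k` with
`N_P(A⟨k⟩)` strictly larger than `N_P(A⟨y⟩)`. -/
theorem alperin_step {P : Type*} [Group P] [Finite P] {p : ℕ} [Fact p.Prime] (hp : p ≠ 2)
    (hP : IsPGroup p P) (A : Subgroup P) (hA : EA p A) (y : P)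
    (hyC : y ∈ Subgroup.centralizer (A : Set P)) (hyp : y ^ p = 1) (hyA : y ∉ A)
    (hM : Subgroup.normalizer ((A ⊔ Subgroup.zpowers y : Subgroup P) : Set P) ≠ ⊤) :
    ∃ k : P, k ∈ Subgroup.centralizer (A : Set P) ∧ k ^ p = 1 ∧ k ∉ A ∧
      Nat.card (Subgroup.normalizer ((A ⊔ Subgroup.zpowers y : Subgroup P) : Set P)) <
      Nat.card (Subgroup.normalizer ((A ⊔ Subgroup.zpowers k : Subgroup P) : Set P)) := by
  have hpp : p.Prime := Fact.out
  haveI hAn : A.Normal := hA.1
  obtain ⟨hBC, hBcomm, hBp⟩ := sup_zpowers_props A hA.2.1 hA.2.2 y hyC hyp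
  obtain ⟨B, hBdef⟩ : ∃ B : Subgroup P, B = A ⊔ Subgroup.zpowers y := ⟨_, rfl⟩
  rw [← hBdef] at hBC hBcomm hBp hM ⊢
  have hAB : A ≤ B := hBdef ▸ le_sup_left
  have hyB : y ∈ B := hBdef ▸ Subgroup.mem_sup_right (Subgroup.mem_zpowers y)
  obtain ⟨M, hMdef⟩ : ∃ M : Subgroup P, M = Subgroup.normalizer (B : Set P) := ⟨_, rfl⟩
  rw [← hMdef] at hM ⊢
  have hBM : B ≤ M := hMdef ▸ Subgroup.le_normalizer
  haveI : Group.IsNilpotent P := hP.isNilpotent
  have hML : M < Subgroup.normalizer (M : Set P) :=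
    Group.normalizerCondition_of_isNilpotent M (lt_top_iff_ne_top.mpr hM)
  obtain ⟨L, hLdef⟩ : ∃ L : Subgroup P, L = Subgroup.normalizer (M : Set P) := ⟨_, rfl⟩
  rw [← hLdef] at hML
  -- the quotient by `A`
  have hQ : IsPGroup p (P ⧸ A) := hP.to_quotient A
  have hker : ∀ g : P, (QuotientGroup.mk g : P ⧸ A) = 1 ↔ g ∈ A := fun g =>
    QuotientGroup.eq_one_iff g
  -- a nontrivial element of `B / A` central in `M / A`
  have h1 : ∃ z ∈ B, z ∉ A ∧ ∀ m ∈ M, (QuotientGroup.mk m : P ⧸ A) * QuotientGroup.mk z =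
      QuotientGroup.mk z * QuotientGroup.mk m := by
    have hBbot : B.map (QuotientGroup.mk' A) ≠ ⊥ := by
      intro h
      have : (QuotientGroup.mk' A y) ∈ B.map (QuotientGroup.mk' A) := Subgroup.mem_map_of_mem _ hyB
      rw [h, Subgroup.mem_bot] at this
      exact hyA ((hker y).mp this)
    have hnorm : ∀ q ∈ M.map (QuotientGroup.mk' A), ∀ n ∈ B.map (QuotientGroup.mk' A),
        q * n * q⁻¹ ∈ B.map (QuotientGroup.mk' A) := by
      rintro _ ⟨m, hm, rfl⟩ _ ⟨b, hb, rfl⟩
      refine ⟨m * b * m⁻¹, ?_, by simp⟩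
      rw [hMdef] at hm
      exact (Subgroup.mem_normalizer_iff.mp hm b).mp hb
    obtain ⟨z', hz'B, hz'1, hz'c⟩ := exists_fixed (B.map (QuotientGroup.mk' A))
      (M.map (QuotientGroup.mk' A)) (hQ.to_subgroup _) hBbot (hQ.to_subgroup _) hnorm
    obtain ⟨z, hzB, rfl⟩ := hz'B
    refine ⟨z, hzB, ?_, ?_⟩
    · intro hzA
      exact hz'1 ((hker z).mpr hzA)
    · intro m hm
      exact hz'c _ (Subgroup.mem_map_of_mem _ hm)
  obtain ⟨z, hzB, hzA, hzc⟩ := h1
  -- the subgroup `W`
  let W : Subgroup P :=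
    { carrier := {u | u ∈ M ∧ u ∈ Subgroup.centralizer (A : Set P) ∧
        (∀ m ∈ M, (QuotientGroup.mk m : P ⧸ A) * QuotientGroup.mk u =
          QuotientGroup.mk u * QuotientGroup.mk m) ∧ u ^ p = 1}
      one_mem' := ⟨M.one_mem, Subgroup.one_mem _, by intro m _; simp, one_pow p⟩
      inv_mem' := by
        rintro u ⟨h1, h2, h3, h4⟩
        refine ⟨M.inv_mem h1, Subgroup.inv_mem _ h2, ?_, by rw [inv_pow, h4, inv_one]⟩
        intro m hm
        have hc : Commute (QuotientGroup.mk m : P ⧸ A) (QuotientGroup.mk u) := h3 m hm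
        rw [QuotientGroup.mk_inv]
        exact hc.inv_right.eq
      mul_mem' := by
        rintro u v ⟨hu1, hu2, hu3, hu4⟩ ⟨hv1, hv2, hv3, hv4⟩
        refine ⟨M.mul_mem hu1 hv1, Subgroup.mul_mem _ hu2 hv2, ?_, ?_⟩
        · intro m hm
          have hc1 : Commute (QuotientGroup.mk m : P ⧸ A) (QuotientGroup.mk u) := hu3 m hm
          have hc2 : Commute (QuotientGroup.mk m : P ⧸ A) (QuotientGroup.mk v) := hv3 m hm
          rw [QuotientGroup.mk_mul]
          exact (hc1.mul_right hc2).eq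
        · obtain ⟨c, hc⟩ : ∃ c, c = v⁻¹ * u⁻¹ * v * u := ⟨_, rfl⟩
          have hcA : c ∈ A := by
            rw [← hker, hc]
            simp only [QuotientGroup.mk_mul, QuotientGroup.mk_inv]
            have h := hu3 v hv1
            calc (QuotientGroup.mk v : P ⧸ A)⁻¹ * (QuotientGroup.mk u)⁻¹ * QuotientGroup.mk v *
                QuotientGroup.mk u = (QuotientGroup.mk v : P ⧸ A)⁻¹ * (QuotientGroup.mk u)⁻¹ *
                (QuotientGroup.mk v * QuotientGroup.mk u) := by group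
              _ = (QuotientGroup.mk v : P ⧸ A)⁻¹ * (QuotientGroup.mk u)⁻¹ *
                (QuotientGroup.mk u * QuotientGroup.mk v) := by rw [h]
              _ = 1 := by group
          have hcu : Commute c u := Subgroup.mem_centralizer_iff.mp hu2 c hcA
          have hcv : Commute c v := Subgroup.mem_centralizer_iff.mp hv2 c hcA
          have hcp : c ^ p = 1 := hA.2.2 c hcA
          rw [Cfsg.Agent.Helper87.mul_pow_class_two u v c hc hcu hcv p, hu4, hv4, one_mul, one_mul]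
          obtain ⟨t, ht⟩ := Cfsg.Agent.Helper87.dvd_tri_of_odd_prime p hpp hp
          rw [ht, pow_mul, hcp, one_pow] }
  have hWmem : ∀ u, u ∈ W ↔ (u ∈ M ∧ u ∈ Subgroup.centralizer (A : Set P) ∧
        (∀ m ∈ M, (QuotientGroup.mk m : P ⧸ A) * QuotientGroup.mk u =
          QuotientGroup.mk u * QuotientGroup.mk m) ∧ u ^ p = 1) := fun u => Iff.rfl
  have hzW : z ∈ W := by
    rw [hWmem]
    exact ⟨hBM hzB, hBC hzB, hzc, hBp z hzB⟩
  have hWM : W ≤ M := fun u hu => ((hWmem u).mp hu).1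
  -- `L` normalizes `W`
  have hLW : ∀ l ∈ L, ∀ u ∈ W, l * u * l⁻¹ ∈ W := by
    intro l hl u hu
    rw [hWmem] at hu ⊢
    obtain ⟨hu1, hu2, hu3, hu4⟩ := hu
    rw [hLdef] at hl
    refine ⟨(Subgroup.mem_normalizer_iff.mp hl u).mp hu1, ?_, ?_, ?_⟩
    · haveI : (Subgroup.centralizer (A : Set P)).Normal := Subgroup.normal_centralizer
      exact Subgroup.Normal.conj_mem inferInstance u hu2 l
    · intro m hm
      have hm' : l⁻¹ * m * l⁻¹⁻¹ ∈ M :=
        (Subgroup.mem_normalizer_iff.mp (Subgroup.inv_mem _ hl) m).mp hm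
      have hc : Commute (QuotientGroup.mk (l⁻¹ * m * l⁻¹⁻¹) : P ⧸ A) (QuotientGroup.mk u) :=
        hu3 _ hm'
      have hc2 := (Commute.conj_iff (QuotientGroup.mk l : P ⧸ A)).mpr hc
      have e1 : (QuotientGroup.mk l : P ⧸ A) * QuotientGroup.mk (l⁻¹ * m * l⁻¹⁻¹) *
          (QuotientGroup.mk l)⁻¹ = QuotientGroup.mk m := by
        simp only [QuotientGroup.mk_mul, QuotientGroup.mk_inv]
        group
      rw [e1] at hc2
      simp only [QuotientGroup.mk_mul, QuotientGroup.mk_inv]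
      exact hc2.eq
    · rw [conj_pow, hu4]
      group
  -- a nontrivial element of `W / A` central in `L / A`
  have h2 : ∃ k ∈ W, k ∉ A ∧ ∀ l ∈ L, (QuotientGroup.mk l : P ⧸ A) * QuotientGroup.mk k =
      QuotientGroup.mk k * QuotientGroup.mk l := by
    have hWbot : W.map (QuotientGroup.mk' A) ≠ ⊥ := by
      intro h
      have : (QuotientGroup.mk' A z) ∈ W.map (QuotientGroup.mk' A) := Subgroup.mem_map_of_mem _ hzW
      rw [h, Subgroup.mem_bot] at this
      exact hzA ((hker z).mp this)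
    have hnorm : ∀ q ∈ L.map (QuotientGroup.mk' A), ∀ n ∈ W.map (QuotientGroup.mk' A),
        q * n * q⁻¹ ∈ W.map (QuotientGroup.mk' A) := by
      rintro _ ⟨l, hl, rfl⟩ _ ⟨u, hu, rfl⟩
      exact ⟨l * u * l⁻¹, hLW l hl u hu, by simp⟩
    obtain ⟨k', hk'W, hk'1, hk'c⟩ := exists_fixed (W.map (QuotientGroup.mk' A))
      (L.map (QuotientGroup.mk' A)) (hQ.to_subgroup _) hWbot (hQ.to_subgroup _) hnorm
    obtain ⟨k, hkW, rfl⟩ := hk'W
    refine ⟨k, hkW, ?_, ?_⟩
    · intro hkA
      exact hk'1 ((hker k).mpr hkA)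
    · intro l hl
      exact hk'c _ (Subgroup.mem_map_of_mem _ hl)
  obtain ⟨k, hkW, hkA, hkc⟩ := h2
  obtain ⟨hk1, hk2, hk3, hk4⟩ := (hWmem k).mp hkW
  refine ⟨k, hk2, hk4, hkA, ?_⟩
  -- `L` normalizes `A ⊔ zpowers k`
  have hLk : ∀ l ∈ L, ∀ b ∈ A ⊔ Subgroup.zpowers k, l * b * l⁻¹ ∈ A ⊔ Subgroup.zpowers k := by
    intro l hl
    have hle : A ⊔ Subgroup.zpowers k ≤
        (A ⊔ Subgroup.zpowers k).comap (MulAut.conj l).toMonoidHom := by
      apply sup_le
      · intro a ha
        rw [Subgroup.mem_comap]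
        change l * a * l⁻¹ ∈ _
        exact Subgroup.mem_sup_left (hAn.conj_mem a ha l)
      · rw [Subgroup.zpowers_le, Subgroup.mem_comap]
        change l * k * l⁻¹ ∈ _
        have hmem : l * k * l⁻¹ * k⁻¹ ∈ A := by
          rw [← hker]
          simp only [QuotientGroup.mk_mul, QuotientGroup.mk_inv]
          rw [hkc l hl]
          group
        have : l * k * l⁻¹ = (l * k * l⁻¹ * k⁻¹) * k := by group
        rw [this]
        exact Subgroup.mul_mem _ (Subgroup.mem_sup_left hmem)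
          (Subgroup.mem_sup_right (Subgroup.mem_zpowers k))
    intro b hb
    have := hle hb
    rw [Subgroup.mem_comap] at this
    exact this
  have hLN : L ≤ Subgroup.normalizer ((A ⊔ Subgroup.zpowers k : Subgroup P) : Set P) := by
    intro l hl
    rw [Subgroup.mem_normalizer_iff]
    intro b
    constructor
    · exact hLk l hl b
    · intro hb
      have := hLk l⁻¹ (L.inv_mem hl) _ hb
      have e : l⁻¹ * (l * b * l⁻¹) * l⁻¹⁻¹ = b := by group
      rwa [e] at this
  exact lt_of_lt_of_le (card_lt_of_lt hML) (Subgroup.card_le_of_le hLN)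

/-- Alperin's lemma: a maximal normal elementary abelian subgroup `A` of a `p`-group (`p` odd)
contains every element of order dividing `p` of its centralizer. -/
theorem alperin {P : Type*} [Group P] [Finite P] {p : ℕ} [Fact p.Prime] (hp : p ≠ 2)
    (hP : IsPGroup p P) (A : Subgroup P) (hA : EA p A)
    (hmax : ∀ A' : Subgroup P, EA p A' → A ≤ A' → A' ≤ A) (x : P)
    (hxC : x ∈ Subgroup.centralizer (A : Set P)) (hxp : x ^ p = 1) : x ∈ A := by
  by_contra hxA
  haveI : Nonempty {y : P // y ∈ Subgroup.centralizer (A : Set P) ∧ y ^ p = 1 ∧ y ∉ A} :=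
    ⟨⟨x, hxC, hxp, hxA⟩⟩
  obtain ⟨y, hy⟩ := Finite.exists_max
    (fun y : {y : P // y ∈ Subgroup.centralizer (A : Set P) ∧ y ^ p = 1 ∧ y ∉ A} =>
    Nat.card (Subgroup.normalizer ((A ⊔ Subgroup.zpowers (y : P) : Subgroup P) : Set P)))
  obtain ⟨y, hyC, hyp, hyA⟩ := y
  by_cases hM : Subgroup.normalizer ((A ⊔ Subgroup.zpowers y : Subgroup P) : Set P) = ⊤
  · have hn : (A ⊔ Subgroup.zpowers y).Normal := Subgroup.normalizer_eq_top_iff.mp hM
    obtain ⟨_, h2, h3⟩ := sup_zpowers_props A hA.2.1 hA.2.2 y hyC hyp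
    have := hmax _ ⟨hn, h2, h3⟩ le_sup_left
    exact hyA (this (Subgroup.mem_sup_right (Subgroup.mem_zpowers y)))
  · obtain ⟨k, hkC, hkp, hkA, hlt⟩ := alperin_step hp hP A hA y hyC hyp hyA hM
    have := hy ⟨k, hkC, hkp, hkA⟩
    exact absurd hlt (not_lt.mpr this)

/-- Normal subgroups of every possible order inside a normal subgroup of a `p`-group. -/
theorem exists_normal_card {P : Type*} [Group P] [Finite P] {p : ℕ} [Fact p.Prime]
    (hP : IsPGroup p P) (A : Subgroup P) [A.Normal] : ∀ j : ℕ, p ^ j ≤ Nat.card A →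
    ∃ B : Subgroup P, B.Normal ∧ B ≤ A ∧ Nat.card B = p ^ j := by
  intro j
  induction j with
  | zero =>
    intro _
    exact ⟨⊥, inferInstance, bot_le, by simp⟩
  | succ j ih =>
    intro hj
    have hpp : p.Prime := Fact.out
    have hlt : p ^ j < p ^ (j + 1) := Nat.pow_lt_pow_right hpp.one_lt (Nat.lt_succ_self j)
    obtain ⟨B, hBn, hBA, hBc⟩ := ih (le_trans hlt.le hj)
    haveI := hBn
    have hne : B ≠ A := by
      intro h
      rw [h] at hBc
      omega
    obtain ⟨B', hB'n, _, hB'A, hB'c⟩ := Cfsg.Agent.Helper35.exists_normal_step hP B A hBA hne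
    exact ⟨B', hB'n, hB'A, by rw [hB'c, hBc, pow_succ]⟩

/-- Under the hypothesis of the theorem, normal elementary abelian subgroups have order at most
`p ^ 2`. -/
theorem card_le_sq {P : Type*} [Group P] [Finite P] {p : ℕ} [Fact p.Prime]
    (hP : IsPGroup p P)
    (h : ∀ A : Subgroup P, A.Normal → IsMulCommutative A → (∀ a ∈ A, a ^ p = 1) →
      Nat.card A ≠ p ^ 3) (A : Subgroup P) (hA : EA p A) : Nat.card A ≤ p ^ 2 := by
  have hpp : p.Prime := Fact.out
  by_contra hcon
  push Not at hcon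
  haveI := hA.1
  obtain ⟨k, hk⟩ := IsPGroup.iff_card.mp (hP.to_subgroup A)
  have hk3 : 3 ≤ k := by
    by_contra hk3
    push Not at hk3
    have : p ^ k ≤ p ^ 2 := Nat.pow_le_pow_right hpp.pos (by omega)
    omega
  have h3 : p ^ 3 ≤ Nat.card A := by
    rw [hk]
    exact Nat.pow_le_pow_right hpp.pos hk3
  obtain ⟨B, hBn, hBA, hBc⟩ := exists_normal_card hP A 3 h3
  refine h B hBn ⟨⟨fun a b => ?_⟩⟩ (fun a ha => hA.2.2 a (hBA ha)) hBc
  exact Subtype.ext (hA.2.1 a (hBA a.2) b (hBA b.2))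

/-- A normal subgroup of prime order of a `p`-group is central. -/
theorem le_center_of_card_prime {P : Type*} [Group P] [Finite P] {p : ℕ} [Fact p.Prime]
    (hP : IsPGroup p P) (N : Subgroup P) [N.Normal] (hN : Nat.card N = p) :
    N ≤ Subgroup.center P := by
  have hpp : p.Prime := Fact.out
  have hNbot : N ≠ ⊥ := by
    intro h
    rw [h, Subgroup.card_bot] at hN
    exact hpp.one_lt.ne hN
  obtain ⟨z, hzN, hz1, hzc⟩ := Cfsg.Agent.Helper32.exists_ne_one_mem_center_of_normal hP N hNbot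
  have hdvd : Nat.card (N ⊓ Subgroup.center P : Subgroup P) ∣ Nat.card N :=
    Subgroup.card_dvd_of_le inf_le_left
  rw [hN] at hdvd
  rcases (Nat.dvd_prime hpp).mp hdvd with h1 | h1
  · exfalso
    rw [Subgroup.card_eq_one] at h1
    have : z ∈ (N ⊓ Subgroup.center P : Subgroup P) := ⟨hzN, hzc⟩
    rw [h1, Subgroup.mem_bot] at this
    exact hz1 this
  · have : (N ⊓ Subgroup.center P : Subgroup P) = N :=
      Subgroup.eq_of_le_of_card_ge inf_le_left (by rw [h1, hN])
    rw [← this]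
    exact inf_le_right

/-- There is nothing strictly between subgroups of index `p`. -/
theorem eq_of_lt_of_le_of_card {P : Type*} [Group P] [Finite P] {p : ℕ} (hpp : p.Prime)
    (Z K A : Subgroup P) (h1 : Z < K) (h2 : K ≤ A) (hcard : Nat.card A = Nat.card Z * p) :
    K = A := by
  obtain ⟨m, hm⟩ : Nat.card Z ∣ Nat.card K := Subgroup.card_dvd_of_le h1.le
  have hKA : Nat.card K ∣ Nat.card A := Subgroup.card_dvd_of_le h2
  have hpos : 0 < Nat.card Z := Nat.card_pos
  rw [hm, hcard] at hKA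
  have hmp : m ∣ p := Nat.dvd_of_mul_dvd_mul_left hpos hKA
  have hlt := card_lt_of_lt h1
  rcases (Nat.dvd_prime hpp).mp hmp with h | h
  · rw [hm, h, mul_one] at hlt
    exact absurd hlt (lt_irrefl _)
  · apply Subgroup.eq_of_le_of_card_ge h2
    rw [hcard, hm, h]

/-- The key index estimate, one step. -/
theorem idx_step {P : Type*} [Group P] [Finite P] {p : ℕ} [Fact p.Prime] (hP : IsPGroup p P)
    (A Z0 : Subgroup P) [A.Normal] [Z0.Normal] (hZA : Z0 ≤ A) (hZc : Z0 ≤ Subgroup.center P)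
    (hZp : Nat.card Z0 ≤ p) (hcard : Nat.card A = Nat.card Z0 * p) (E : Subgroup P) :
    Nat.card E ≤ p * Nat.card (E ⊓ Subgroup.centralizer (A : Set P) : Subgroup P) := by
  have hpp : p.Prime := Fact.out
  have hne : Z0 ≠ A := by
    intro h
    rw [← h] at hcard
    have hpos : 0 < Nat.card Z0 := Nat.card_pos
    have : Nat.card Z0 * 1 < Nat.card Z0 * p := Nat.mul_lt_mul_of_pos_left hpp.one_lt hpos
    omega
  have hQ : IsPGroup p (P ⧸ Z0) := hP.to_quotient Z0
  have hπ : Function.Surjective (QuotientGroup.mk' Z0) := QuotientGroup.mk'_surjective Z0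
  haveI : (A.map (QuotientGroup.mk' Z0)).Normal := Subgroup.Normal.map inferInstance _ hπ
  have hAbar : A.map (QuotientGroup.mk' Z0) ≠ ⊥ := by
    intro h
    rw [Subgroup.map_eq_bot_iff, QuotientGroup.ker_mk'] at h
    exact hne (le_antisymm hZA h)
  obtain ⟨z, hzA, hz1, hzcen⟩ :=
    Cfsg.Agent.Helper32.exists_ne_one_mem_center_of_normal hQ (A.map (QuotientGroup.mk' Z0)) hAbar
  obtain ⟨n, hnA, rfl⟩ := hzA
  have hnZ : n ∉ Z0 := by
    intro hn
    apply hz1
    exact (QuotientGroup.eq_one_iff n).mpr hn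
  have hf : ∀ g : P, n⁻¹ * g⁻¹ * n * g ∈ Z0 := by
    intro g
    rw [← QuotientGroup.eq_one_iff]
    have hc := Subgroup.mem_center_iff.mp hzcen (QuotientGroup.mk g)
    simp only [QuotientGroup.mk_mul, QuotientGroup.mk_inv]
    change (QuotientGroup.mk g : P ⧸ Z0) * QuotientGroup.mk n =
      QuotientGroup.mk n * QuotientGroup.mk g at hc
    calc (QuotientGroup.mk n : P ⧸ Z0)⁻¹ * (QuotientGroup.mk g)⁻¹ * QuotientGroup.mk n *
        QuotientGroup.mk g = (QuotientGroup.mk n : P ⧸ Z0)⁻¹ * (QuotientGroup.mk g)⁻¹ *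
        (QuotientGroup.mk n * QuotientGroup.mk g) := by group
      _ = (QuotientGroup.mk n : P ⧸ Z0)⁻¹ * (QuotientGroup.mk g)⁻¹ *
        (QuotientGroup.mk g * QuotientGroup.mk n) := by rw [hc]
      _ = 1 := by group
  let φ : E →* Z0 := MonoidHom.mk' (fun e => ⟨n⁻¹ * (e : P)⁻¹ * n * (e : P), hf e⟩) (by
    intro a b
    apply Subtype.ext
    change n⁻¹ * ((a * b : E) : P)⁻¹ * n * ((a * b : E) : P) =
      (n⁻¹ * (a : P)⁻¹ * n * (a : P)) * (n⁻¹ * (b : P)⁻¹ * n * (b : P))
    have hc : ∀ g : P, g * (n⁻¹ * (a : P)⁻¹ * n * (a : P)) =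
        (n⁻¹ * (a : P)⁻¹ * n * (a : P)) * g := Subgroup.mem_center_iff.mp (hZc (hf a))
    rw [Subgroup.coe_mul]
    calc n⁻¹ * ((a : P) * (b : P))⁻¹ * n * ((a : P) * (b : P))
        = n⁻¹ * (b : P)⁻¹ * n * ((n⁻¹ * (a : P)⁻¹ * n * (a : P)) * (b : P)) := by group
      _ = n⁻¹ * (b : P)⁻¹ * n * ((b : P) * (n⁻¹ * (a : P)⁻¹ * n * (a : P))) := by rw [hc]
      _ = (n⁻¹ * (b : P)⁻¹ * n * (b : P)) * (n⁻¹ * (a : P)⁻¹ * n * (a : P)) := by group
      _ = (n⁻¹ * (a : P)⁻¹ * n * (a : P)) * (n⁻¹ * (b : P)⁻¹ * n * (b : P)) := by rw [hc])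
  have hφ : ∀ e : E, ((φ e : Z0) : P) = n⁻¹ * (e : P)⁻¹ * n * (e : P) := fun e => rfl
  -- the kernel lies in the centralizer of `A`
  have hker : ∀ e : E, e ∈ φ.ker → (e : P) ∈ Subgroup.centralizer (A : Set P) := by
    intro e he
    rw [MonoidHom.mem_ker] at he
    have he' : n⁻¹ * (e : P)⁻¹ * n * (e : P) = 1 := by
      rw [← hφ e, he]
      rfl
    have hne : n * (e : P) = (e : P) * n := by
      calc n * (e : P) = (e : P) * n * (n⁻¹ * (e : P)⁻¹ * n * (e : P)) := by group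
        _ = (e : P) * n := by rw [he', mul_one]
    have hlt : Z0 < A ⊓ Subgroup.centralizer ({(e : P)} : Set P) := by
      refine lt_of_le_of_ne ?_ ?_
      · intro z hz
        refine ⟨hZA hz, Subgroup.mem_centralizer_singleton_iff.mpr ?_⟩
        exact (Subgroup.mem_center_iff.mp (hZc hz) (e : P)).symm
      · intro h
        apply hnZ
        rw [h]
        exact ⟨hnA, Subgroup.mem_centralizer_singleton_iff.mpr hne⟩
    have hKA := eq_of_lt_of_le_of_card hpp Z0 _ A hlt inf_le_left hcard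
    rw [Subgroup.mem_centralizer_iff]
    intro a ha
    rw [← hKA] at ha
    exact Subgroup.mem_centralizer_singleton_iff.mp ha.2
  have h1 : Nat.card E = Nat.card (E ⧸ φ.ker) * Nat.card φ.ker :=
    Subgroup.card_eq_card_quotient_mul_card_subgroup φ.ker
  have h2 : Nat.card (E ⧸ φ.ker) ≤ Nat.card Z0 :=
    Nat.card_le_card_of_injective _ (QuotientGroup.kerLift_injective φ)
  have h3 : Nat.card φ.ker ≤ Nat.card (E ⊓ Subgroup.centralizer (A : Set P) : Subgroup P) := by
    refine Nat.card_le_card_of_injective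
      (fun e : φ.ker => (⟨((e : E) : P), ⟨(e : E).2, hker e e.2⟩⟩ :
        (E ⊓ Subgroup.centralizer (A : Set P) : Subgroup P))) ?_
    intro e1 e2 h
    have h' := congrArg
      (fun t : (E ⊓ Subgroup.centralizer (A : Set P) : Subgroup P) => (t : P)) h
    exact Subtype.ext (Subtype.ext h')
  calc Nat.card E = Nat.card (E ⧸ φ.ker) * Nat.card φ.ker := h1
    _ ≤ Nat.card Z0 * Nat.card (E ⊓ Subgroup.centralizer (A : Set P) : Subgroup P) :=
      Nat.mul_le_mul h2 h3
    _ ≤ p * Nat.card (E ⊓ Subgroup.centralizer (A : Set P) : Subgroup P) :=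
      Nat.mul_le_mul_right _ hZp

/-- The key index estimate: the centralizer of a normal subgroup of order at most `p ^ 2` has
index at most `p`. -/
theorem idx {P : Type*} [Group P] [Finite P] {p : ℕ} [Fact p.Prime] (hP : IsPGroup p P)
    (A : Subgroup P) [A.Normal] (hcard : Nat.card A ≤ p ^ 2) (E : Subgroup P) :
    Nat.card E ≤ p * Nat.card (E ⊓ Subgroup.centralizer (A : Set P) : Subgroup P) := by
  have hpp : p.Prime := Fact.out
  obtain ⟨k, hk⟩ := IsPGroup.iff_card.mp (hP.to_subgroup A)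
  have hk2 : k ≤ 2 := by
    rw [hk] at hcard
    exact (Nat.pow_le_pow_iff_right hpp.one_lt).mp hcard
  have hk' : k = 0 ∨ k = 1 ∨ k = 2 := by omega
  rcases hk' with rfl | rfl | rfl
  · rw [pow_zero, Subgroup.card_eq_one] at hk
    have hle : E ≤ E ⊓ Subgroup.centralizer (A : Set P) := by
      intro e he
      refine ⟨he, Subgroup.mem_centralizer_iff.mpr ?_⟩
      intro a ha
      rw [SetLike.mem_coe, hk, Subgroup.mem_bot] at ha
      rw [ha, one_mul, mul_one]
    calc Nat.card E ≤ Nat.card (E ⊓ Subgroup.centralizer (A : Set P) : Subgroup P) :=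
        Subgroup.card_le_of_le hle
      _ ≤ p * Nat.card (E ⊓ Subgroup.centralizer (A : Set P) : Subgroup P) :=
        Nat.le_mul_of_pos_left _ hpp.pos
  · rw [pow_one] at hk
    refine idx_step hP A ⊥ bot_le bot_le ?_ ?_ E
    · rw [Subgroup.card_bot]
      exact hpp.one_lt.le
    · rw [Subgroup.card_bot, one_mul, hk]
  · have hne : (⊥ : Subgroup P) ≠ A := by
      intro h
      rw [← h, Subgroup.card_bot] at hk
      have : 1 < p ^ 2 := Nat.one_lt_pow (by norm_num) hpp.one_lt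
      omega
    obtain ⟨Z0, hZn, _, hZA, hZc⟩ := Cfsg.Agent.Helper35.exists_normal_step hP ⊥ A bot_le hne
    haveI := hZn
    rw [Subgroup.card_bot, one_mul] at hZc
    refine idx_step hP A Z0 hZA (le_center_of_card_prime hP Z0 hZc) hZc.le ?_ E
    rw [hZc, hk, pow_two]

/-- For odd p, a p-group without normal elementary abelian subgroups of order p^3 has p-rank at most 2. -/
theorem result {P : Type*} [Group P] [Finite P] {p : ℕ} [Fact p.Prime] (hp : p ≠ 2) (hP : IsPGroup p P) (h : ∀ A : Subgroup P, A.Normal → IsMulCommutative A → (∀ a ∈ A, a ^ p = 1) → Nat.card A ≠ p ^ 3) (E : Subgroup P) (hE : IsMulCommutative E) (hEe : ∀ e ∈ E, e ^ p = 1) : Nat.card E ≤ p ^ 2 := by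
  have hpp : p.Prime := Fact.out
  have hbot : EA p (⊥ : Subgroup P) := by
    refine ⟨inferInstance, ?_, ?_⟩
    · intro a ha b hb
      rw [Subgroup.mem_bot] at ha hb
      rw [ha, hb]
    · intro a ha
      rw [Subgroup.mem_bot] at ha
      rw [ha, one_pow]
  obtain ⟨A, -, hAmax⟩ :=
    Finite.exists_le_maximal (p := fun A : Subgroup P => EA p A) (a := ⊥) hbot
  have hA : EA p A := hAmax.1
  have hmax : ∀ A' : Subgroup P, EA p A' → A ≤ A' → A' ≤ A := fun A' h1 h2 => hAmax.2 h1 h2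
  haveI := hA.1
  have hcardA : Nat.card A ≤ p ^ 2 := card_le_sq hP h A hA
  have hidx := idx hP A hcardA E
  have hEC : E ⊓ Subgroup.centralizer (A : Set P) ≤ A := by
    rintro e ⟨heE, heC⟩
    exact alperin hp hP A hA hmax e heC (hEe e heE)
  by_contra hcon
  push Not at hcon
  have h1 : Nat.card (E ⊓ Subgroup.centralizer (A : Set P) : Subgroup P) ≤ Nat.card A :=
    Subgroup.card_le_of_le hEC
  obtain ⟨j, hj⟩ := IsPGroup.iff_card.mp
    (hP.to_subgroup (E ⊓ Subgroup.centralizer (A : Set P) : Subgroup P))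
  have hj2 : 2 ≤ j := by
    by_contra hj2
    push Not at hj2
    have h3 : p ^ j ≤ p ^ 1 := Nat.pow_le_pow_right hpp.pos (by omega)
    rw [hj] at hidx
    have h4 : p * p ^ j ≤ p * p ^ 1 := Nat.mul_le_mul_left p h3
    have h5 : p * p ^ 1 = p ^ 2 := by ring
    omega
  have h2 : Nat.card A ≤ Nat.card (E ⊓ Subgroup.centralizer (A : Set P) : Subgroup P) := by
    rw [hj]
    exact le_trans hcardA (Nat.pow_le_pow_right hpp.pos hj2)
  have h3 : E ⊓ Subgroup.centralizer (A : Set P) = A := Subgroup.eq_of_le_of_card_ge hEC h2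
  have hAE : A ≤ E := h3 ▸ inf_le_left
  have hEcomm : ∀ a ∈ E, ∀ b ∈ E, a * b = b * a := by
    intro a ha b hb
    have := hE.is_comm.comm ⟨a, ha⟩ ⟨b, hb⟩
    exact congrArg Subtype.val this
  have hEC' : E ≤ Subgroup.centralizer (A : Set P) := by
    intro e he
    rw [Subgroup.mem_centralizer_iff]
    intro a ha
    exact hEcomm a (hAE ha) e he
  have hEA : E ≤ A := fun e he => hEC ⟨he, hEC' he⟩
  have := Subgroup.card_le_of_le hEA
  omega

end Cfsg.Agent.S0100
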