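import Mathlib
import Cfsg.Statements.S1453
import Cfsg.Agent.Lib.Helper24.RankThree

set_option autoImplicit false
open Cfsg

namespace Cfsg.Agent.S1453

open Cfsg.Agent.Helper24.RankThree Cfsg.Agent.Helper24

variable {R : Type*} [Group R]

theorem card_eq_prime_of_between [Finite R] {p : ℕ} (hp : p.Prime) {H K : Subgroup R} (hHK : H ≤ K)
    (hK : Nat.card K = p ^ 2) (hH : H ≠ ⊥) (hne : H ≠ K) : Nat.card H = p := by
  have hd : Nat.card H ∣ p ^ 2 := by rw [← hK]; exact Subgroup.card_dvd_of_le hHK
  obtain ⟨k, hk, hk'⟩ := (Nat.dvd_prime_pow hp).mp hd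
  interval_cases k
  · exfalso; apply hH
    rw [pow_zero] at hk'
    exact Subgroup.card_eq_one.mp hk'
  · rw [hk', pow_one]
  · exfalso; apply hne
    exact Subgroup.eq_of_le_of_card_ge hHK (by rw [hk', hK])

theorem sup_zpowers_eq [Finite R] {p : ℕ} (hp : p.Prime) {Z K : Subgroup R} (hZK : Z ≤ K)
    (hZ : Nat.card Z = p) (hK : Nat.card K = p ^ 2) {x : R} (hxK : x ∈ K) (hxZ : x ∉ Z) :
    Z ⊔ Subgroup.zpowers x = K := by
  have hle : Z ⊔ Subgroup.zpowers x ≤ K := sup_le hZK (by rw [Subgroup.zpowers_le]; exact hxK)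
  apply Subgroup.eq_of_le_of_card_ge hle
  have hd : Nat.card (Z ⊔ Subgroup.zpowers x : Subgroup R) ∣ p ^ 2 := by
    rw [← hK]; exact Subgroup.card_dvd_of_le hle
  obtain ⟨k, hk, hk'⟩ := (Nat.dvd_prime_pow hp).mp hd
  have hlt : Z < Z ⊔ Subgroup.zpowers x := by
    apply lt_of_le_of_ne le_sup_left
    intro h
    apply hxZ
    rw [h]
    exact Subgroup.mem_sup_right (Subgroup.mem_zpowers x)
  have hclt : Nat.card Z < Nat.card (Z ⊔ Subgroup.zpowers x : Subgroup R) := by
    by_contra hge
    push_neg at hge
    exact absurd (Subgroup.eq_of_le_of_card_ge hlt.le hge) (ne_of_lt hlt)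
  rw [hk', hZ] at hclt
  have hkk : 1 < k := by
    have : p ^ 1 < p ^ k := by rwa [pow_one]
    exact (Nat.pow_lt_pow_iff_right hp.one_lt).mp this
  have : k = 2 := by omega
  rw [hK, hk', this]

/-- Let p be an odd prime and R a finite p-group with an elementary abelian subgroup of order p ^ 3 and an elementary abelian subgroup E of order p ^ 2 contained in no larger elementary abelian subgroup. Let Z₂ be the second centre of R, W the subgroup generated by the elements of Z₂ of order dividing p, and T = C_R(W). Then E is not contained in T; the elements of order dividing p of the centre of R generate a group of order p; W is elementary abelian of order p ^ 2; and T is characteristic in R of index p. -/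
theorem result {R : Type*} [Group R] [Finite R] (p : ℕ) [Fact p.Prime] (hp : p ≠ 2) (hR : IsPGroup p R) (hr : ¬ Cfsg.PRankLE p 2 R)
    (E : Subgroup R) (hE : Cfsg.IsElementaryAbelian p E) (hE2 : Nat.card E = p ^ 2)
    (hEmax : ∀ B : Subgroup R, Cfsg.IsElementaryAbelian p B → E ≤ B → B = E) :
    ¬ E ≤ Subgroup.centralizer ((Subgroup.closure {x : R | x ∈ Subgroup.upperCentralSeries R 2 ∧ x ^ p = 1} : Subgroup R) : Set R) ∧
      Nat.card ↥(Subgroup.closure {x : R | x ∈ Subgroup.center R ∧ x ^ p = 1}) = p ∧
      (Cfsg.IsElementaryAbelian p (Subgroup.closure {x : R | x ∈ Subgroup.upperCentralSeries R 2 ∧ x ^ p = 1}) ∧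
        Nat.card ↥(Subgroup.closure {x : R | x ∈ Subgroup.upperCentralSeries R 2 ∧ x ^ p = 1}) = p ^ 2) ∧
      (Subgroup.centralizer ((Subgroup.closure {x : R | x ∈ Subgroup.upperCentralSeries R 2 ∧ x ^ p = 1} : Subgroup R) : Set R)).Characteristic ∧
      (Subgroup.centralizer ((Subgroup.closure {x : R | x ∈ Subgroup.upperCentralSeries R 2 ∧ x ^ p = 1} : Subgroup R) : Set R)).index = p := by
  classical
  have hpp : p.Prime := Fact.out
  have hp3 : 2 < p := lt_of_le_of_ne hpp.two_le (Ne.symm hp)
  have hnil : Group.IsNilpotent R := hR.isNilpotent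
  obtain ⟨W, hW⟩ : ∃ W : Subgroup R,
    W = Subgroup.closure {x : R | x ∈ Subgroup.upperCentralSeries R 2 ∧ x ^ p = 1} := ⟨_, rfl⟩
  obtain ⟨Z, hZ⟩ : ∃ Z : Subgroup R,
    Z = Subgroup.closure {x : R | x ∈ Subgroup.center R ∧ x ^ p = 1} := ⟨_, rfl⟩
  rw [← hW, ← hZ]
  -- basic facts on Z
  have hZ1 : ∀ x ∈ Z, x ∈ Subgroup.center R ∧ x ^ p = 1 := by
    intro x hx
    rw [hZ] at hx
    induction hx using Subgroup.closure_induction with
    | mem x hx => exact hx
    | one => exact ⟨one_mem _, one_pow _⟩
    | mul x y _ _ hx hy =>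
      refine ⟨mul_mem hx.1 hy.1, ?_⟩
      have hc : Commute x y := ((Subgroup.mem_center_iff.mp hx.1) y).symm
      rw [hc.mul_pow, hx.2, hy.2, one_mul]
    | inv x _ hx => exact ⟨inv_mem hx.1, by rw [inv_pow, hx.2, inv_one]⟩
  have hZcenter : Z ≤ Subgroup.center R := fun x hx => (hZ1 x hx).1
  have hucs1 : Subgroup.upperCentralSeries R 1 = Subgroup.center R :=
    Subgroup.upperCentralSeries_one R
  -- basic facts on W
  have hW1 : ∀ x ∈ W, x ∈ Subgroup.upperCentralSeries R 2 ∧ x ^ p = 1 := by
    intro x hx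
    rw [hW] at hx
    induction hx using Subgroup.closure_induction with
    | mem x hx => exact hx
    | one => exact ⟨one_mem _, one_pow _⟩
    | mul x y _ _ hx hy =>
      refine ⟨mul_mem hx.1 hy.1, ?_⟩
      have hc : y * x * y⁻¹ * x⁻¹ ∈ Subgroup.center R := by
        have := (Subgroup.mem_upperCentralSeries_succ_iff (n := 1)).mp hy.1 x
        rw [hucs1, commutatorElement_def] at this
        exact this
      rw [Subgroup.mem_center_iff] at hc
      have hcx : Commute (y * x * y⁻¹ * x⁻¹) x := (hc x).symm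
      have hcy : Commute (y * x * y⁻¹ * x⁻¹) y := (hc y).symm
      have h1 := Cfsg.Agent.Helper24.mul_pow_of_commutator_commute x y hcx hcy p
      have h2 := Cfsg.Agent.Helper24.commutator_pow_left_of_commute x y hcy p
      rw [hy.2] at h2
      have h3 : (y * x * y⁻¹ * x⁻¹) ^ p = 1 := by rw [← h2]; group
      have h4 : p ∣ p.choose 2 := hpp.dvd_choose_self (by norm_num) hp3
      obtain ⟨m, hm⟩ := h4
      rw [h1, hx.2, hy.2, hm, pow_mul, h3, one_pow, one_mul, one_mul]
    | inv x _ hx => exact ⟨inv_mem hx.1, by rw [inv_pow, hx.2, inv_one]⟩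
  have hcommWZ : ∀ w ∈ W, ∀ g : R, w * g * w⁻¹ * g⁻¹ ∈ Z := by
    intro w hw g
    have hc : w * g * w⁻¹ * g⁻¹ ∈ Subgroup.center R := by
      have := (Subgroup.mem_upperCentralSeries_succ_iff (n := 1)).mp (hW1 w hw).1 g
      rw [hucs1, commutatorElement_def] at this
      exact this
    have hcw : Commute (w * g * w⁻¹ * g⁻¹) w := ((Subgroup.mem_center_iff.mp hc) w).symm
    have h2 := Cfsg.Agent.Helper24.commutator_pow_left_of_commute g w hcw p
    rw [(hW1 w hw).2] at h2
    have h3 : (w * g * w⁻¹ * g⁻¹) ^ p = 1 := by rw [← h2]; group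
    rw [hZ]
    exact Subgroup.subset_closure ⟨hc, h3⟩
  have hZW : Z ≤ W := by
    rw [hZ, hW]
    apply Subgroup.closure_mono
    rintro x ⟨hx, hx'⟩
    refine ⟨?_, hx'⟩
    rw [← hucs1] at hx
    exact Subgroup.upperCentralSeries_mono R (by norm_num) hx
  -- maximality of E
  have hkey : ∀ x : R, x ^ p = 1 → (∀ y ∈ E, y * x = x * y) → x ∈ E := by
    intro x hx hxE
    have hK : IsElementaryAbelian p (Subgroup.zpowers x) := by
      refine ⟨inferInstance, ?_⟩
      intro a ha
      obtain ⟨k, rfl⟩ := Subgroup.mem_zpowers_iff.mp ha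
      rw [← zpow_natCast, ← zpow_mul, mul_comm, zpow_mul, zpow_natCast, hx, one_zpow]
    have hEK : E ≤ Subgroup.centralizer ((Subgroup.zpowers x : Subgroup R) : Set R) := by
      rw [Subgroup.le_centralizer_iff, Subgroup.zpowers_le]
      rw [Subgroup.mem_centralizer_iff]
      intro y hy
      exact hxE y hy
    have := hEmax _ (elemAb_sup hE hK hEK) le_sup_left
    rw [← this]
    exact Subgroup.mem_sup_right (Subgroup.mem_zpowers x)
  have hZE : Z ≤ E := by
    intro x hx
    apply hkey x (hZ1 x hx).2
    intro y _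
    exact (Subgroup.mem_center_iff.mp (hZ1 x hx).1) y
  have hEnt : Nontrivial R := by
    rw [← Finite.one_lt_card_iff_nontrivial]
    calc 1 < p ^ 2 := Nat.one_lt_pow (by norm_num) hpp.one_lt
      _ = Nat.card E := hE2.symm
      _ ≤ Nat.card R := Subgroup.card_le_card_group E
  have hZne : Z ≠ ⊥ := by
    have hcn : Nontrivial (Subgroup.center R) := hR.center_nontrivial
    have hcp : IsPGroup p (Subgroup.center R) := hR.to_subgroup _
    have hdvd : p ∣ Nat.card (Subgroup.center R) := by
      rcases hcp.card_eq_or_dvd with h | h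
      · exfalso
        have := Finite.one_lt_card_iff_nontrivial.mpr hcn
        omega
      · exact h
    obtain ⟨x, hx⟩ := exists_prime_orderOf_dvd_card' (G := Subgroup.center R) p hdvd
    intro hbot
    have hxZ : (x : R) ∈ Z := by
      rw [hZ]
      apply Subgroup.subset_closure
      refine ⟨x.2, ?_⟩
      have := pow_orderOf_eq_one x
      rw [hx] at this
      have h2 := congrArg Subtype.val this
      simpa using h2
    rw [hbot, Subgroup.mem_bot] at hxZ
    have : x = 1 := Subtype.ext hxZ
    rw [this, orderOf_one] at hx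
    exact hpp.one_lt.ne hx
  have hZneE : Z ≠ E := by
    intro hZE'
    apply hr
    intro B hBc hBe
    have hEc : E ≤ Subgroup.center R := by rw [← hZE']; exact hZcenter
    have hBE : B ≤ Subgroup.centralizer (E : Set R) :=
      Subgroup.le_centralizer_iff.mp (le_trans hEc (Subgroup.center_le_centralizer _))
    have := hEmax _ (elemAb_sup ⟨hBc, hBe⟩ hE hBE) le_sup_right
    have hBle : B ≤ E := by rw [← this]; exact le_sup_left
    rw [← hE2]
    exact Subgroup.card_le_of_le hBle
  have hZcard : Nat.card Z = p := card_eq_prime_of_between hpp hZE hE2 hZne hZneE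
  -- a normal elementary abelian subgroup of order p^3
  obtain ⟨A₀, hA₀n, hA₀, hA₀3⟩ := exists_normal_cube hp hR hr
  have hEW : ¬ E ≤ W := by
    intro h
    have hEn : E.Normal := by
      constructor
      intro n hn g
      have h1 := hZE (hcommWZ n (h hn) g)
      have : g * n * g⁻¹ = (n * g * n⁻¹ * g⁻¹)⁻¹ * n := by group
      rw [this]
      exact E.mul_mem (E.inv_mem h1) hn
    obtain ⟨F, _, hF, hEF, hFcard⟩ := exists_big_elemAb hR E hE hE2 A₀ hA₀ hA₀3
    have := hEmax F hF hEF
    rw [this, hE2] at hFcard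
    exact lt_irrefl _ hFcard
  rw [SetLike.not_le_iff_exists] at hEW
  obtain ⟨e, heE, heW⟩ := hEW
  have heZ : e ∉ Z := fun h => heW (hZW h)
  have hEgen : Z ⊔ Subgroup.zpowers e = E := sup_zpowers_eq hpp hZE hZcard hE2 heE heZ
  have hEWcard : Nat.card (E ⊓ W : Subgroup R) = p := by
    apply card_eq_prime_of_between hpp inf_le_left hE2
    · intro hbot
      apply hZne
      rw [eq_bot_iff, ← hbot]
      exact le_inf hZE hZW
    · intro h
      apply heW
      have : e ∈ E ⊓ W := by rw [h]; exact heE
      exact this.2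
  have hEWZ : E ⊓ W = Z :=
    (Subgroup.eq_of_le_of_card_ge (le_inf hZE hZW) (by rw [hEWcard, hZcard])).symm
  have hCW : W ⊓ Subgroup.centralizer {e} ≤ Z := by
    intro w hw
    obtain ⟨hwW, hwe⟩ := Subgroup.mem_inf.mp hw
    rw [Subgroup.mem_centralizer_singleton_iff] at hwe
    rw [← hEWZ]
    refine Subgroup.mem_inf.mpr ⟨?_, hwW⟩
    apply hkey w (hW1 w hwW).2
    have hle : E ≤ Subgroup.centralizer {w} := by
      rw [← hEgen]
      apply sup_le
      · exact le_trans hZcenter (Subgroup.center_le_centralizer _)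
      · rw [Subgroup.zpowers_le, Subgroup.mem_centralizer_singleton_iff]
        exact hwe.symm
    intro y hy
    have := hle hy
    rw [Subgroup.mem_centralizer_singleton_iff] at this
    exact this
  have hWle : Nat.card W ≤ p ^ 2 := by
    obtain ⟨k, hk, hk'⟩ := card_eq_of_commHomC W Z e hZcenter (fun h hh => hcommWZ h hh e)
    rw [hZcard] at hk
    have h1 : Nat.card (W ⊓ Subgroup.centralizer {e} : Subgroup R) ≤ p := by
      rw [← hZcard]; exact Subgroup.card_le_of_le hCW
    have h2 : k ≤ p := Nat.le_of_dvd hpp.pos hk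
    rw [hk', pow_two]
    exact Nat.mul_le_mul h1 h2
  -- an element of W outside Z
  have hA₀c : ¬ A₀ ≤ Subgroup.upperCentralSeries R 1 := by
    rw [hucs1]
    intro h
    have hA₀Z : A₀ ≤ Z := by
      intro a ha
      rw [hZ]
      exact Subgroup.subset_closure ⟨h ha, hA₀.2 a ha⟩
    have h1 := Subgroup.card_le_of_le hA₀Z
    rw [hA₀3, hZcard] at h1
    have h2 : p ^ 1 < p ^ 3 := Nat.pow_lt_pow_right hpp.one_lt (by norm_num)
    rw [pow_one] at h2
    omega
  obtain ⟨x, hxA, hx2, hx1⟩ := exists_mem_ucs_succ_not_mem A₀ 1 hA₀c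
  rw [hucs1] at hx1
  have hxW : x ∈ W := by
    rw [hW]
    exact Subgroup.subset_closure ⟨hx2, hA₀.2 x hxA⟩
  have hxZ : x ∉ Z := fun h => hx1 (hZcenter h)
  have hWcard : Nat.card W = p ^ 2 := by
    obtain ⟨k, hk⟩ := (IsPGroup.iff_card.mp (hR.to_subgroup W))
    have hlt : Nat.card Z < Nat.card W := by
      by_contra hge
      push_neg at hge
      have := Subgroup.eq_of_le_of_card_ge hZW hge
      apply hxZ
      rw [this]; exact hxW
    rw [hk, hZcard] at hlt
    rw [hk] at hWle
    have h1 : 1 < k := by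
      have : p ^ 1 < p ^ k := by rwa [pow_one]
      exact (Nat.pow_lt_pow_iff_right hpp.one_lt).mp this
    have h2 : k ≤ 2 := (Nat.pow_le_pow_iff_right hpp.one_lt).mp hWle
    have : k = 2 := by omega
    rw [hk, this]
  have hWgen : Z ⊔ Subgroup.zpowers x = W := sup_zpowers_eq hpp hZW hZcard hWcard hxW hxZ
  have hTeq : Subgroup.centralizer (W : Set R) = Subgroup.centralizer {x} := by
    apply le_antisymm
    · exact Subgroup.centralizer_le (by simpa using hxW)
    · intro g hg
      rw [Subgroup.mem_centralizer_singleton_iff] at hg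
      have hle : W ≤ Subgroup.centralizer {g} := by
        rw [← hWgen]
        apply sup_le
        · exact le_trans hZcenter (Subgroup.center_le_centralizer _)
        · rw [Subgroup.zpowers_le, Subgroup.mem_centralizer_singleton_iff]
          exact hg.symm
      rw [Subgroup.mem_centralizer_iff]
      intro y hy
      have := hle hy
      rw [Subgroup.mem_centralizer_singleton_iff] at this
      exact this
  refine ⟨?_, hZcard, ⟨⟨IsPGroup.isMulCommutative_of_card_eq_prime_sq hWcard,
    fun a ha => (hW1 a ha).2⟩, hWcard⟩, ?_, ?_⟩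
  · -- E ≰ T
    intro h
    have he := h heE
    have hWe : W ≤ W ⊓ Subgroup.centralizer {e} := by
      apply le_inf le_rfl
      intro w hw
      rw [Subgroup.mem_centralizer_singleton_iff]
      rw [Subgroup.mem_centralizer_iff] at he
      exact he w hw
    exact hxZ (hCW (hWe hxW))
  · -- characteristic
    have hWchar : W.Characteristic := by
      rw [Subgroup.characteristic_iff_map_le]
      intro ϕ
      rw [hW, MonoidHom.map_closure, Subgroup.closure_le]
      rintro _ ⟨y, ⟨hy, hy'⟩, rfl⟩
      apply Subgroup.subset_closure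
      refine ⟨?_, ?_⟩
      · have := (Subgroup.characteristic_iff_le_comap.mp
          (inferInstance : (Subgroup.upperCentralSeries R 2).Characteristic)) ϕ
        exact this hy
      · change (ϕ y) ^ p = 1
        rw [← map_pow, hy', map_one]
    infer_instance
  · -- index
    rw [hTeq]
    obtain ⟨k, hk, hk'⟩ := card_eq_of_commHomC (⊤ : Subgroup R) Z x hZcenter (fun g _ => by
      have h1 := Z.inv_mem (hcommWZ x hxW g)
      have : g * x * g⁻¹ * x⁻¹ = (x * g * x⁻¹ * g⁻¹)⁻¹ := by group
      rw [this]; exact h1)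
    rw [hZcard] at hk
    rw [Subgroup.card_top, top_inf_eq] at hk'
    have h1 := Subgroup.card_mul_index (Subgroup.centralizer {x} : Subgroup R)
    have hpos : 0 < Nat.card (Subgroup.centralizer {x} : Subgroup R) := Nat.card_pos
    have hidx : (Subgroup.centralizer {x} : Subgroup R).index = k := by
      have : Nat.card (Subgroup.centralizer {x} : Subgroup R) * (Subgroup.centralizer {x} : Subgroup R).index
          = Nat.card (Subgroup.centralizer {x} : Subgroup R) * k := by rw [h1, hk']
      exact Nat.eq_of_mul_eq_mul_left hpos this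
    rw [hidx]
    rcases (Nat.dvd_prime hpp).mp hk with h | h
    · exfalso
      rw [h] at hidx
      rw [Subgroup.index_eq_one] at hidx
      apply hx1
      rw [Subgroup.mem_center_iff]
      intro g
      have : g ∈ Subgroup.centralizer {x} := by rw [hidx]; trivial
      rw [Subgroup.mem_centralizer_singleton_iff] at this
      exact this
    · exact h

end Cfsg.Agent.S1453
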