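import Mathlib
import Cfsg.Statements.S1456
import Cfsg.Agent.Lib.Helper24.NarrowAut
import Cfsg.Agent.Lib.Helper24.RankTwoAut
import Cfsg.Agent.Lib.Helper63.FittingCrit
import Cfsg.Agent.Lib.Helper22.Fitting
import Cfsg.Agent.Lib.Helper55.Cores
import Cfsg.Agent.Lib.Helper19.PRank

set_option autoImplicit false
open Cfsg

namespace Cfsg.Agent.S1456

open scoped commutatorElement

/-- elements of order dividing `p` of the Fitting subgroup lie in `O_p(G)` -/
theorem mem_pCore_of_mem_fitting {G : Type*} [Group G] [Finite G] (p : ℕ) [Fact p.Prime] (x : G)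
    (hx : x ∈ fittingSubgroup G) (hxp : x ^ p = 1) : x ∈ pCore p G := by
  have hp : p.Prime := Fact.out
  have h1 := Cfsg.Agent.Helper22.fittingSubgroup_le_pCore_sup_pPrimeCore (G := G) p hx
  have hKcop : (Nat.card (pPrimeCore p G)).Coprime p := Cfsg.Agent.Helper55.pPrimeCore_coprime p
  have hQp : IsPGroup p (pCore p G) := Cfsg.Agent.Helper55.isPGroup_pCore
  obtain ⟨m, hm⟩ := hQp.exists_card_eq
  have hcop : (Nat.card (pCore p G)).Coprime (Nat.card (pPrimeCore p G)) := by
    rw [hm]
    exact (Nat.Coprime.pow_right m hKcop).symm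
  have hdisj : Disjoint (pCore p G) (pPrimeCore p G) := Subgroup.disjoint_of_coprime_natCard hcop
  obtain ⟨a, ha, b, hb, rfl⟩ := Subgroup.mem_sup_of_normal_right.mp h1
  have hcomm : Commute a b :=
    Subgroup.commute_of_normal_of_disjoint _ _ inferInstance inferInstance hdisj a b ha hb
  rw [hcomm.mul_pow] at hxp
  have hbp : b ^ p ∈ pCore p G ⊓ pPrimeCore p G := by
    refine ⟨?_, Subgroup.pow_mem _ hb p⟩
    have : b ^ p = (a ^ p)⁻¹ := eq_inv_of_mul_eq_one_right hxp
    rw [this]
    exact Subgroup.inv_mem _ (Subgroup.pow_mem _ ha p)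
  rw [hdisj.eq_bot, Subgroup.mem_bot] at hbp
  have hb1 : b = 1 := by
    have h2 : orderOf b ∣ p := orderOf_dvd_of_pow_eq_one hbp
    have h3 : orderOf b ∣ Nat.card (pPrimeCore p G) := by
      have := orderOf_dvd_natCard (⟨b, hb⟩ : pPrimeCore p G)
      rwa [← Subgroup.orderOf_coe] at this
    have h4 : orderOf b = 1 := Nat.eq_one_of_dvd_coprimes hKcop h3 h2
    exact orderOf_eq_one_iff.mp h4
  rw [hb1, mul_one]
  exact ha

/-- Let G be a solvable group of odd order, p a prime, and E an elementary abelian p-subgroup of the Fitting subgroup F(G) such that F(G) ∩ C_G(E) has no elementary abelian subgroup of order q ^ 3 for any prime q. Then the derived subgroup of G is contained in F(G). -/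
theorem result {G : Type*} [Group G] [Finite G] [Group.IsSolvable G] (hodd : Odd (Nat.card G)) (p : ℕ) [Fact p.Prime] (E : Subgroup G) (hE : E ≤ Cfsg.fittingSubgroup G) (hEe : Cfsg.IsElementaryAbelian p E)
    (hr : Cfsg.RankLE 2 ↥(Cfsg.fittingSubgroup G ⊓ Subgroup.centralizer (E : Set G))) :
    commutator G ≤ Cfsg.fittingSubgroup G := by
  classical
  have hp : p.Prime := Fact.out
  have hEp : E ≤ pCore p G := fun x hx => mem_pCore_of_mem_fitting p x (hE hx) (hEe.2 x hx)
  have hcn : (commutator G).Normal := inferInstance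
  apply Cfsg.Agent.Helper63.le_fittingSubgroup_of_centralizes inferInstance (commutator G)
  intro q hqF y hy hcop
  have hq : q.Prime := hqF.out
  have hQq : IsPGroup q (pCore q G) := Cfsg.Agent.Helper55.isPGroup_pCore
  by_cases hq2 : q = 2
  · subst hq2
    have hbot : pCore 2 G = ⊥ := by
      obtain ⟨m, hm⟩ := hQq.exists_card_eq
      have hd : Nat.card (pCore 2 G) ∣ Nat.card G := Subgroup.card_subgroup_dvd_card _
      have hm0 : m = 0 := by
        by_contra hm0
        have h2 : 2 ∣ Nat.card G := (dvd_pow_self 2 hm0).trans (hm ▸ hd)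
        exact hodd.not_two_dvd_nat h2
      rw [hm0, pow_zero] at hm
      exact Subgroup.card_eq_one.mp hm
    rw [hbot, Subgroup.mem_centralizer_iff]
    intro h hh
    rw [Subgroup.coe_bot, Set.mem_singleton_iff] at hh
    rw [hh, one_mul, mul_one]
  let φ : G →* MulAut ↥(pCore q G) := MulAut.conjNormal
  have hoddX : Odd (Nat.card ↥φ.range) := Odd.of_dvd_nat hodd (Subgroup.card_range_dvd φ)
  have hsolvX : Group.IsSolvable ↥φ.range :=
    Group.isSolvable_of_surjective (f := φ.rangeRestrict) φ.rangeRestrict_surjective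
  have hX : IsPGroup q (commutator ↥φ.range) := by
    by_cases hrk : PRankLE q 2 ↥(pCore q G)
    · exact Cfsg.Agent.Helper24.RankTwoAut.isPGroup_commutator_of_rank_two hq2 hQq hrk
        φ.range.subtype Subtype.val_injective hoddX hsolvX
    · have hqp : q = p := by
        by_contra hne
        apply hrk
        have hle : pCore q G ≤ fittingSubgroup G ⊓ Subgroup.centralizer (E : Set G) := by
          refine le_inf (Cfsg.Agent.Helper22.pCore_le_fittingSubgroup q) ?_
          intro x hx
          rw [Subgroup.mem_centralizer_iff]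
          intro e he
          have hQp : IsPGroup p (pCore p G) := Cfsg.Agent.Helper55.isPGroup_pCore
          obtain ⟨m, hm⟩ := hQp.exists_card_eq
          obtain ⟨n, hn⟩ := hQq.exists_card_eq
          have hcop' : (Nat.card (pCore p G)).Coprime (Nat.card (pCore q G)) := by
            rw [hm, hn]
            exact Nat.Coprime.pow _ _ ((Nat.coprime_primes hp hq).mpr (Ne.symm hne))
          have hdisj := Subgroup.disjoint_of_coprime_natCard hcop'
          exact Subgroup.commute_of_normal_of_disjoint _ _ inferInstance inferInstance hdisj e x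
            (hEp he) hx
        exact Cfsg.Agent.Helper19.prankLE_mono hle (hr q hq)
      subst hqp
      -- the narrow case
      have hE₀ : IsElementaryAbelian q (E.subgroupOf (pCore q G)) := by
        have := hEe.1
        refine ⟨inferInstance, ?_⟩
        intro a ha
        apply Subtype.ext
        rw [Subgroup.coe_pow, Subgroup.coe_one]
        exact hEe.2 a.1 ha
      obtain ⟨E₁, hE₀₁, hE₁, hmax, hge⟩ :=
        Cfsg.Agent.Helper24.NarrowAut.exists_max_elemAb hQq hrk _ hE₀
      have hle2 : Nat.card E₁ ≤ q ^ 2 := by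
        have hXle : E₁.map (pCore q G).subtype ≤
            fittingSubgroup G ⊓ Subgroup.centralizer (E : Set G) := by
          rintro _ ⟨e, he, rfl⟩
          rw [Subgroup.mem_inf]
          refine ⟨Cfsg.Agent.Helper22.pCore_le_fittingSubgroup q e.2, ?_⟩
          show (e : G) ∈ Subgroup.centralizer (E : Set G)
          rw [Subgroup.mem_centralizer_iff]
          intro g hg
          have hg' : (⟨g, hEp hg⟩ : pCore q G) ∈ E₁ := hE₀₁ (by
            rw [Subgroup.mem_subgroupOf]; exact hg)
          have hc : (⟨g, hEp hg⟩ : pCore q G) * e = e * ⟨g, hEp hg⟩ := by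
            have h1 := hE₁.1.is_comm.comm (⟨⟨g, hEp hg⟩, hg'⟩ : E₁) ⟨e, he⟩
            exact congrArg Subtype.val h1
          exact congrArg Subtype.val hc
        have h1 := (Cfsg.Agent.Helper19.prankLE_subgroup_iff q 2 _).mp (hr q hq)
          (E₁.map (pCore q G).subtype) hXle (by
            rintro _ ⟨a, ha, rfl⟩ _ ⟨b, hb, rfl⟩
            have h1 := hE₁.1.is_comm.comm (⟨a, ha⟩ : E₁) ⟨b, hb⟩
            have h2 : a * b = b * a := congrArg Subtype.val h1
            exact congrArg Subtype.val h2) (by
            rintro _ ⟨a, ha, rfl⟩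
            have h1 := hE₁.2 a ha
            have h2 := congrArg Subtype.val h1
            rwa [Subgroup.coe_pow, Subgroup.coe_one] at h2)
        have h2 : Nat.card (E₁.map (pCore q G).subtype) = Nat.card E₁ :=
          (Nat.card_congr (E₁.equivMapOfInjective _ (pCore q G).subtype_injective).toEquiv).symm
        rw [← h2]
        exact h1
      exact Cfsg.Agent.Helper24.NarrowAut.isPGroup_commutator hq2 hQq hrk E₁ hE₁
        (le_antisymm hle2 hge) hmax φ.range.subtype Subtype.val_injective
  -- conclusion
  have hle : commutator G ≤ (commutator ↥φ.range).comap φ.rangeRestrict := by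
    rw [commutator_def, Subgroup.commutator_le]
    intro a _ b _
    rw [Subgroup.mem_comap, map_commutatorElement, commutator_def]
    exact Subgroup.commutator_mem_commutator (Subgroup.mem_top _) (Subgroup.mem_top _)
  obtain ⟨k, hk⟩ := hX ⟨φ.rangeRestrict y, hle hy⟩
  have hk1 : (φ y) ^ (q ^ k) = 1 := by
    have h1 := congrArg Subtype.val hk
    rw [Subgroup.coe_pow] at h1
    have h2 := congrArg Subtype.val h1
    rw [Subgroup.coe_pow] at h2
    exact h2
  have hk2 : (φ y) ^ (orderOf y) = 1 := by rw [← map_pow, pow_orderOf_eq_one, map_one]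
  have hφy : φ y = 1 := by
    have h3 := pow_gcd_eq_one.2 ⟨hk1, hk2⟩
    have h4 : Nat.gcd (q ^ k) (orderOf y) = 1 := Nat.Coprime.pow_left k hcop.symm
    rwa [h4, pow_one] at h3
  rw [Subgroup.mem_centralizer_iff]
  intro x hx
  have h1 : φ y ⟨x, hx⟩ = ⟨x, hx⟩ := by rw [hφy]; rfl
  have h2 := congrArg Subtype.val h1
  rw [MulAut.conjNormal_apply] at h2
  have h3 : y * x * y⁻¹ = x := h2
  calc x * y = (y * x * y⁻¹) * y := by rw [h3]
    _ = y * x := by group

end Cfsg.Agent.S1456
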