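import Cfsg.Statements.S0173
import Mathlib
import Cfsg.Agent.Lib.Helper80.CharBasic

set_option autoImplicit false
open Cfsg

namespace Cfsg.Agent.S0173

open scoped ComplexConjugate
open Cfsg.Agent.Helper80

/-- Precomposing an irreducible representation with an automorphism keeps it irreducible. -/
theorem isIrreducible_comp {G : Type*} [Group G] {V : Type*} [AddCommGroup V] [Module ℂ V]
    (ρ : Representation ℂ G V) (α : G ≃* G) (h : ρ.IsIrreducible) :
    Representation.IsIrreducible ((ρ : G →* (V →ₗ[ℂ] V)).comp α.toMonoidHom) := by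
  let ρ' : Representation ℂ G V := (ρ : G →* (V →ₗ[ℂ] V)).comp α.toMonoidHom
  have hρ' : ∀ g, ρ' g = ρ (α g) := fun _ => rfl
  let e : Subrepresentation ρ' ≃o Subrepresentation ρ :=
    { toFun := fun W => ⟨W.toSubmodule, fun g v hv => by
        have := W.apply_mem_toSubmodule (α.symm g) hv
        rwa [hρ', MulEquiv.apply_symm_apply] at this⟩
      invFun := fun W => ⟨W.toSubmodule, fun g v hv => W.apply_mem_toSubmodule (α g) hv⟩
      left_inv := fun _ => rfl
      right_inv := fun _ => rfl
      map_rel_iff' := Iff.rfl }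
  exact (OrderIso.isSimpleOrder_iff e).mpr h

theorem isIrrCharacter_comp {G : Type*} [Group G] (α : G ≃* G) {χ : G → ℂ}
    (h : IsIrrCharacter G χ) : IsIrrCharacter G (χ ∘ α) := by
  obtain ⟨n, ρ, hirr, rfl⟩ := h
  exact ⟨n, (ρ : G →* ((Fin n → ℂ) →ₗ[ℂ] (Fin n → ℂ))).comp α.toMonoidHom,
    isIrreducible_comp ρ α hirr, rfl⟩

/-- Brauer's permutation lemma for a single automorphism: the number of conjugacy classes mapped to themselves equals the number of irreducible complex characters χ with χ ∘ α = χ. -/
theorem result {G : Type*} [Group G] [Finite G] (α : G ≃* G) : Nat.card {C : ConjClasses G // ConjClasses.map α.toMonoidHom C = C} = Nat.card {χ : Cfsg.IrrCharacter G // (χ : G → ℂ) ∘ α = (χ : G → ℂ)} := by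
  classical
  have : Fintype G := Fintype.ofFinite G
  have : Fintype (IrrCharacter G) := Fintype.ofFinite _
  have : Fintype (ConjClasses G) := Fintype.ofFinite _
  have hGne : (Nat.card G : ℂ) ≠ 0 := by exact_mod_cast Nat.card_pos.ne'
  -- the double sum, computed via first orthogonality
  have hA1 : ∑ χ : IrrCharacter G, ∑ g : G, (χ : G → ℂ) (α g) * conj ((χ : G → ℂ) g) =
      (Nat.card G : ℂ) * (Nat.card {χ : IrrCharacter G // (χ : G → ℂ) ∘ α = (χ : G → ℂ)} : ℂ) := by
    have h1 : ∀ χ : IrrCharacter G, ∑ g : G, (χ : G → ℂ) (α g) * conj ((χ : G → ℂ) g) =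
        if (χ : G → ℂ) ∘ α = (χ : G → ℂ) then (Nat.card G : ℂ) else 0 := by
      intro χ
      have := irr_first_orthogonality (⟨(χ : G → ℂ) ∘ α, isIrrCharacter_comp α χ.2⟩ : IrrCharacter G) χ
      simp only [Function.comp_apply] at this
      rw [this]
      congr 1
      rw [Subtype.ext_iff]
    simp_rw [h1]
    rw [Finset.sum_ite, Finset.sum_const_zero, add_zero, Finset.sum_const, nsmul_eq_mul, mul_comm,
      Nat.card_eq_fintype_card (α := {χ : IrrCharacter G // _}), Fintype.card_subtype]
  -- the same double sum via second orthogonality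
  have hA2 : ∑ χ : IrrCharacter G, ∑ g : G, (χ : G → ℂ) (α g) * conj ((χ : G → ℂ) g) =
      ∑ g : G, if IsConj (α g) g then
        (Nat.card (Subgroup.centralizer ({α g} : Set G)) : ℂ) else 0 := by
    rw [Finset.sum_comm]
    refine Finset.sum_congr rfl fun g _ => ?_
    have h := irr_second_orthogonality (α g) g
    rw [finsum_eq_sum_of_fintype] at h
    rw [h]
    by_cases hc : IsConj (α g) g
    · rw [if_pos hc, if_pos hc]
    · rw [if_neg hc, if_neg hc]
  -- regroup by classes
  have hconj_iff : ∀ g : G, IsConj (α g) g ↔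
      ConjClasses.map α.toMonoidHom (ConjClasses.mk g) = ConjClasses.mk g := by
    intro g
    rw [← ConjClasses.mk_eq_mk_iff_isConj]
    rfl
  have hcent : ∀ g : G, IsConj (α g) g →
      (Nat.card (Subgroup.centralizer ({α g} : Set G)) : ℂ) =
        (Nat.card G : ℂ) / (Nat.card {x : G // ConjClasses.mk x = ConjClasses.mk g} : ℂ) := by
    intro g hg
    have h1 := card_isConj_mul_card_centralizer (α g)
    have h2 : Nat.card {x : G // IsConj (α g) x} =
        Nat.card {x : G // ConjClasses.mk x = ConjClasses.mk g} := by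
      refine Nat.card_congr (Equiv.subtypeEquivRight fun x => ?_)
      rw [ConjClasses.mk_eq_mk_iff_isConj]
      exact ⟨fun h => (hg.symm.trans h).symm, fun h => hg.trans h.symm⟩
    rw [h2] at h1
    have hpos : (Nat.card {x : G // ConjClasses.mk x = ConjClasses.mk g} : ℂ) ≠ 0 := by
      have : Nonempty {x : G // ConjClasses.mk x = ConjClasses.mk g} := ⟨⟨g, rfl⟩⟩
      exact_mod_cast Nat.card_pos.ne'
    rw [eq_div_iff hpos, mul_comm]
    exact_mod_cast h1
  have hA3 : (∑ g : G, if IsConj (α g) g then
        (Nat.card (Subgroup.centralizer ({α g} : Set G)) : ℂ) else 0) =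
      (Nat.card G : ℂ) *
        (Nat.card {C : ConjClasses G // ConjClasses.map α.toMonoidHom C = C} : ℂ) := by
    have h1 : ∀ g : G, (if IsConj (α g) g then
        (Nat.card (Subgroup.centralizer ({α g} : Set G)) : ℂ) else 0) =
        if ConjClasses.map α.toMonoidHom (ConjClasses.mk g) = ConjClasses.mk g then
          (Nat.card G : ℂ) / (Nat.card {x : G // ConjClasses.mk x = ConjClasses.mk g} : ℂ)
        else 0 := by
      intro g
      by_cases hg : IsConj (α g) g
      · rw [if_pos hg, if_pos ((hconj_iff g).1 hg), hcent g hg]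
      · rw [if_neg hg, if_neg (fun h => hg ((hconj_iff g).2 h))]
    simp_rw [h1]
    rw [← Finset.sum_fiberwise (Finset.univ : Finset G) (ConjClasses.mk)]
    have h2 : ∀ C : ConjClasses G,
        (∑ g ∈ Finset.univ.filter (fun g : G => ConjClasses.mk g = C),
          if ConjClasses.map α.toMonoidHom (ConjClasses.mk g) = ConjClasses.mk g then
            (Nat.card G : ℂ) / (Nat.card {x : G // ConjClasses.mk x = ConjClasses.mk g} : ℂ)
          else 0) =
        if ConjClasses.map α.toMonoidHom C = C then (Nat.card G : ℂ) else 0 := by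
      intro C
      have h3 : ∀ g ∈ Finset.univ.filter (fun g : G => ConjClasses.mk g = C),
          (if ConjClasses.map α.toMonoidHom (ConjClasses.mk g) = ConjClasses.mk g then
            (Nat.card G : ℂ) / (Nat.card {x : G // ConjClasses.mk x = ConjClasses.mk g} : ℂ)
          else 0) =
          if ConjClasses.map α.toMonoidHom C = C then
            (Nat.card G : ℂ) / (Nat.card {x : G // ConjClasses.mk x = C} : ℂ) else 0 := by
        intro g hg
        rw [Finset.mem_filter] at hg
        rw [hg.2]
      rw [Finset.sum_congr rfl h3, Finset.sum_const, nsmul_eq_mul]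
      split_ifs with hC
      · have hcard : ((Finset.univ.filter (fun g : G => ConjClasses.mk g = C)).card : ℂ) =
            (Nat.card {x : G // ConjClasses.mk x = C} : ℂ) := by
          rw [Nat.card_eq_fintype_card, Fintype.card_subtype]
        rw [hcard]
        have hpos : (Nat.card {x : G // ConjClasses.mk x = C} : ℂ) ≠ 0 := by
          obtain ⟨g, rfl⟩ := ConjClasses.mk_surjective C
          have : Nonempty {x : G // ConjClasses.mk x = ConjClasses.mk g} := ⟨⟨g, rfl⟩⟩
          exact_mod_cast Nat.card_pos.ne'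
        field_simp
      · simp
    simp_rw [h2]
    rw [Finset.sum_ite, Finset.sum_const_zero, add_zero, Finset.sum_const, nsmul_eq_mul, mul_comm,
      Nat.card_eq_fintype_card (α := {C : ConjClasses G // _}), Fintype.card_subtype]
  have hfinal : (Nat.card G : ℂ) *
        (Nat.card {C : ConjClasses G // ConjClasses.map α.toMonoidHom C = C} : ℂ) =
      (Nat.card G : ℂ) *
        (Nat.card {χ : IrrCharacter G // (χ : G → ℂ) ∘ α = (χ : G → ℂ)} : ℂ) := by
    rw [← hA3, ← hA2, hA1]
  exact_mod_cast mul_left_cancel₀ hGne hfinal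

end Cfsg.Agent.S0173
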