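import Cfsg.Statements.S0187
import Mathlib
import Cfsg.Agent.Lib.Helper3.CharOrtho

set_option autoImplicit false
open Cfsg

namespace Cfsg.Agent.S0187

open Cfsg.Agent.Helper3

theorem irr_degree {G : Type*} [Group G] (χ : Cfsg.IrrCharacter G) :
    ∃ n : ℕ, 1 ≤ n ∧ (χ : G → ℂ) 1 = (n : ℂ) := by
  obtain ⟨n, ρ, hρ, hχ⟩ := χ.2
  haveI := hρ
  refine ⟨n, ?_, ?_⟩
  · by_contra h0
    have : n = 0 := by omega
    subst this
    have h1 : (⊥ : Subrepresentation ρ) ≠ ⊤ := bot_ne_top
    apply h1
    apply le_antisymm bot_le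
    intro v _
    rw [Subsingleton.elim v 0]
    exact (⊥ : Subrepresentation ρ).toSubmodule.zero_mem
  · rw [← hχ, Representation.char_one]; simp

/-- A finite group is commutative if and only if every irreducible complex character has degree 1. -/
theorem result {G : Type*} [Group G] [Finite G] : (∀ a b : G, a * b = b * a) ↔ ∀ χ : Cfsg.IrrCharacter G, (χ : G → ℂ) 1 = 1 := by
  classical
  haveI : Fintype G := Fintype.ofFinite G
  choose d hd1 hd using (irr_degree (G := G))
  have hsum : ∑ χ : Cfsg.IrrCharacter G, (d χ) ^ 2 = Nat.card G := by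
    have h := sum_sq_degrees (G := G)
    simp_rw [hd] at h
    exact_mod_cast h
  have hk : Fintype.card (Cfsg.IrrCharacter G) = Nat.card (ConjClasses G) := by
    rw [← Nat.card_eq_fintype_card]; exact card_irr_eq_card_conjClasses
  constructor
  · intro hcomm χ
    have hinj : Function.Injective (ConjClasses.mk : G → ConjClasses G) := by
      intro a b hab
      obtain ⟨c, hc⟩ := isConj_iff.mp (ConjClasses.mk_eq_mk_iff_isConj.mp hab)
      rw [← hc, hcomm c a]; group
    have hbij : Function.Bijective (ConjClasses.mk : G → ConjClasses G) :=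
      ⟨hinj, ConjClasses.mk_surjective⟩
    have hcard : Nat.card (ConjClasses G) = Nat.card G :=
      (Nat.card_congr (Equiv.ofBijective _ hbij)).symm
    have h1 : ∑ χ : Cfsg.IrrCharacter G, 1 = ∑ χ : Cfsg.IrrCharacter G, (d χ) ^ 2 := by
      rw [hsum, ← hcard, ← hk]; simp
    have h2 := (Finset.sum_eq_sum_iff_of_le (s := Finset.univ)
      (f := fun _ : Cfsg.IrrCharacter G => 1) (g := fun χ => (d χ) ^ 2)
      (fun χ _ => Nat.one_le_pow _ _ (hd1 χ))).mp h1 χ (Finset.mem_univ χ)
    rw [hd χ]
    have : d χ = 1 := by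
      have := hd1 χ
      nlinarith
    rw [this]; simp
  · intro hall a b
    have hd' : ∀ χ, d χ = 1 := by
      intro χ
      have := hall χ
      rw [hd χ] at this
      exact_mod_cast this
    have hcard : Nat.card G = Nat.card (ConjClasses G) := by
      rw [← hsum, ← hk]
      simp [hd']
    have hbij : Function.Bijective (ConjClasses.mk : G → ConjClasses G) :=
      ConjClasses.mk_surjective.bijective_of_nat_card_le hcard.le
    have h1 : ConjClasses.mk a = ConjClasses.mk (b * a * b⁻¹) :=
      ConjClasses.mk_eq_mk_iff_isConj.mpr (isConj_iff.mpr ⟨b, rfl⟩)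
    have h2 := hbij.1 h1
    calc a * b = b * a * b⁻¹ * b := by rw [← h2]
      _ = b * a := by group

end Cfsg.Agent.S0187
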