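import Cfsg.Statements.S0865
import Mathlib
import Cfsg.Agent.Lib.Helper15.LinearExt

set_option autoImplicit false
open Cfsg

namespace Cfsg.Agent.S0865

open Cfsg.Agent.Helper15

/-- Let N be a normal subgroup of the finite group G and λ a character of N of degree 1, invariant under conjugation by G, whose order (under pointwise multiplication) is coprime to the index of N. Then there is a character μ of G of degree 1 restricting to λ with the same order as λ, and μ is the only degree-1 character of G restricting to λ whose order is coprime to the index of N. -/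
theorem result {G : Type*} [Group G] [Finite G] (N : Subgroup G) [hN : N.Normal] (lam : N → ℂ) (hlam : Cfsg.IsCharacter N lam ∧ lam 1 = 1) (hinv : ∀ (g : G) (n : N), lam ⟨g * n * g⁻¹, hN.conj_mem (n : G) n.2 g⟩ = lam n) (hcop : Nat.Coprime N.index (orderOf lam)) : ∃ μ : G → ℂ, (Cfsg.IsCharacter G μ ∧ μ 1 = 1 ∧ (∀ n : N, μ n = lam n) ∧ orderOf μ = orderOf lam) ∧ ∀ μ' : G → ℂ, Cfsg.IsCharacter G μ' ∧ μ' 1 = 1 → (∀ n : N, μ' n = lam n) → Nat.Coprime N.index (orderOf μ') → μ' = μ := by
  let L : N →* ℂˣ := toUnitsHom lam hlam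
  have hL : ∀ (g : G) (n : N), L ⟨g * n * g⁻¹, hN.conj_mem (n : G) n.2 g⟩ = L n := by
    intro g n
    apply Units.ext
    simp only [L, coe_toUnitsHom]
    exact hinv g n
  have hord : orderOf lam = orderOf L := by
    rw [← orderOf_coeFunHom, coeFunHom_toUnitsHom]
  rw [hord] at hcop
  obtain ⟨μ, hμN, hμord, huniq⟩ := exists_unique_extension_of_coprime N L hL hcop
  refine ⟨coeFunHom G μ, ⟨(isLinear_coeFunHom μ).1, (isLinear_coeFunHom μ).2, fun n => ?_, ?_⟩, ?_⟩
  · rw [coeFunHom_apply, hμN n]
    rfl
  · rw [orderOf_coeFunHom, hμord, hord]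
  · intro μ' hμ' hμ'N hcop'
    have h1 : coeFunHom G (toUnitsHom μ' hμ') = μ' := coeFunHom_toUnitsHom μ' hμ'
    have h2 : toUnitsHom μ' hμ' = μ := by
      apply huniq
      · intro n
        apply Units.ext
        simp only [L, coe_toUnitsHom]
        exact hμ'N n
      · rw [← orderOf_coeFunHom, h1]
        exact hcop'
    rw [← h1, h2]

end Cfsg.Agent.S0865
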