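import Cfsg.Statements.S4455
import Cfsg.Agent.Lib.Helper75.CanonExt
import Cfsg.Agent.Lib.Helper75.DetOrder
import Cfsg.Agent.Lib.Helper75.RestrictIrr
import Cfsg.Agent.Lib.Helper75.WeightedOrbit
import Cfsg.Agent.Lib.Helper47.PRes
import Cfsg.Agent.Lib.Helper79.Orthogonality

set_option autoImplicit false
set_option linter.style.haveILetI false
set_option linter.unusedSectionVars false
open Cfsg

namespace Cfsg.Agent.S4455

open Cfsg.Agent.Helper81 Cfsg.Agent.Helper75

universe u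

/-- `O^p(O^p(G)) = O^p(G)` -/
theorem pResidual_pResidual' (p : ℕ) (G : Type u) [Group G] :
    pResidual p (pResidual p G) = ⊤ := by
  have h : {g : ↥(pResidual p G) | Nat.Coprime (orderOf g) p} =
      ((↑) : pResidual p G → G) ⁻¹' {g : G | Nat.Coprime (orderOf g) p} := by
    ext g
    simp only [Set.mem_ofPred_eq, Set.mem_preimage, Subgroup.orderOf_coe]
  show Subgroup.closure {g : ↥(pResidual p G) | Nat.Coprime (orderOf g) p} = ⊤
  rw [h]
  exact Subgroup.closure_closure_coe_preimage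

/-- degree of an irreducible character from its value at `1` -/
theorem charDegree_of_one {G : Type u} [Group G] {χ : G → ℂ} {d : ℕ} (h : χ 1 = d) :
    charDegree χ = d := by
  unfold charDegree
  rw [h]
  simp

/-- Main statement, with `Fintype` and universe fixed. -/
theorem main {G : Type u} [Group G] [Finite G] (p : ℕ) (hp : p.Prime) :
    Nat.card (pResidual p G) ≡
      ∑ χ ∈ Finset.univ.filter (fun χ : IrrCharacter G =>
        ¬ p ∣ charDegree (χ : G → ℂ) ∧ ¬ p ∣ detOrder (χ : G → ℂ)),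
        charDegree (χ : G → ℂ) ^ 2 [MOD p] := by
  classical
  haveI : Fact p.Prime := ⟨hp⟩
  haveI : Fintype G := Fintype.ofFinite G
  set K : Subgroup G := pResidual p G with hKdef
  have hK : K.Normal := Cfsg.Agent.Helper47.pResidual_normal
  haveI := hK
  haveI : Fintype K := Fintype.ofFinite K
  have hPQ : IsPGroup p (G ⧸ K) := Cfsg.Agent.Helper47.isPGroup_quotient_of_pResidual_le K le_rfl
  obtain ⟨a, ha⟩ := IsPGroup.iff_card.mp hPQ
  rw [← Subgroup.index_eq_card] at ha
  haveI : Group.IsNilpotent (G ⧸ K) := hPQ.isNilpotent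
  have hsolv : Group.IsSolvable (G ⧸ K) := inferInstance
  have hKK : pResidual p K = ⊤ := pResidual_pResidual' p G
  obtain ⟨P⟩ : Nonempty (Sylow p G) := inferInstance
  have hPK : (P : Subgroup G) ⊔ K = ⊤ := Cfsg.Agent.Helper47.sylow_sup_pResidual_eq_top P
  -- facts on degrees
  have hdeg : ∀ ψ : IrrCharacter K, (ψ : K → ℂ) 1 = (charDegree (ψ : K → ℂ) : ℂ) := fun ψ =>
    (Cfsg.Agent.Helper79.irr_one_eq ψ).1
  have hdegG : ∀ χ : IrrCharacter G, (χ : G → ℂ) 1 = (charDegree (χ : G → ℂ) : ℂ) := fun χ =>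
    (Cfsg.Agent.Helper79.irr_one_eq χ).1
  -- the action of `G` on `Irr(K)`
  letI actG : MulAction G (IrrCharacter K) :=
    { smul := fun g ψ => ⟨conjFun K hK ψ g⁻¹, conjFun_isIrrCharacter K hK ψ.2 g⁻¹⟩
      one_smul := fun ψ => Subtype.ext (by
        show conjFun K hK ψ 1⁻¹ = ψ
        rw [inv_one, conjFun_one])
      mul_smul := fun g h ψ => Subtype.ext (by
        show conjFun K hK ψ (g * h)⁻¹ = conjFun K hK (conjFun K hK ψ h⁻¹) g⁻¹
        rw [conjFun_mul, mul_inv_rev]) }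
  have hsmul : ∀ (g : G) (ψ : IrrCharacter K), ((g • ψ : IrrCharacter K) : K → ℂ) =
      conjFun K hK ψ g⁻¹ := fun _ _ => rfl
  have hsmulP : ∀ (x : (P : Subgroup G)) (ψ : IrrCharacter K),
      ((x • ψ : IrrCharacter K) : K → ℂ) = conjFun K hK ψ (x : G)⁻¹ := fun _ _ => rfl
  -- invariance predicate
  let q : IrrCharacter K → Prop := fun ψ => ∀ g : G, conjFun K hK (ψ : K → ℂ) g = ψ
  have hq : ∀ ψ : IrrCharacter K, q ψ ↔ ∀ x : (P : Subgroup G), x • ψ = ψ := by
    intro ψ
    constructor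
    · intro h x
      apply Subtype.ext
      rw [hsmulP]
      exact h _
    · intro h
      have hT : Cfsg.Agent.S0857.inertia K hK (ψ : K → ℂ) = ⊤ := by
        rw [eq_top_iff, ← hPK]
        apply sup_le
        · intro x hx
          have h1 := congrArg Subtype.val (h ⟨x, hx⟩)
          rw [hsmulP] at h1
          have h2 : x⁻¹ ∈ Cfsg.Agent.S0857.inertia K hK (ψ : K → ℂ) := h1
          have h3 := Subgroup.inv_mem _ h2
          rwa [inv_inv] at h3
        · intro k hk
          exact (Cfsg.Agent.S0857.mem_inertia K hK _ k).mpr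
            (Cfsg.Agent.S0857.conjFun_of_mem K hK
              (isClassFunction_of_isCharacter (IsIrrCharacter.isCharacter ψ.2)) hk)
      intro g
      rw [← Cfsg.Agent.S0857.mem_inertia, hT]
      exact Subgroup.mem_top g
  have hw : ∀ (x : (P : Subgroup G)) (ψ : IrrCharacter K),
      charDegree ((x • ψ : IrrCharacter K) : K → ℂ) ^ 2 = charDegree (ψ : K → ℂ) ^ 2 := by
    intro x ψ
    congr 1
    unfold charDegree
    rw [hsmulP, conjFun_one_apply]
  -- Step 1 and 2
  have h1 : Nat.card K = ∑ ψ : IrrCharacter K, charDegree (ψ : K → ℂ) ^ 2 :=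
    (Cfsg.Agent.Helper79.sum_sq_degree_nat (G := K)).symm
  have h2 := sum_modEq_sum_fixed (P := (P : Subgroup G)) P.isPGroup'
    (fun ψ : IrrCharacter K => charDegree (ψ : K → ℂ) ^ 2) hw q hq
  -- Step 3: drop the degrees divisible by `p`
  have h3 : ∑ ψ ∈ Finset.univ.filter q, charDegree (ψ : K → ℂ) ^ 2 ≡
      ∑ ψ ∈ (Finset.univ.filter q).filter (fun ψ : IrrCharacter K => ¬ p ∣ charDegree (ψ : K → ℂ)),
        charDegree (ψ : K → ℂ) ^ 2 [MOD p] := by
    rw [← Finset.sum_filter_add_sum_filter_not (Finset.univ.filter q)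
      (fun ψ : IrrCharacter K => ¬ p ∣ charDegree (ψ : K → ℂ))]
    have h0 : ∑ ψ ∈ (Finset.univ.filter q).filter (fun ψ : IrrCharacter K => ¬ ¬ p ∣ charDegree (ψ : K → ℂ)),
        charDegree (ψ : K → ℂ) ^ 2 ≡ 0 [MOD p] := by
      rw [Nat.modEq_zero_iff_dvd]
      apply Finset.dvd_sum
      intro ψ hψ
      have := (Finset.mem_filter.mp hψ).2
      rw [not_not] at this
      exact Dvd.dvd.pow this (by norm_num)
    have := Nat.ModEq.add_left
      (∑ ψ ∈ (Finset.univ.filter q).filter (fun ψ : IrrCharacter K => ¬ p ∣ charDegree (ψ : K → ℂ)),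
        charDegree (ψ : K → ℂ) ^ 2) h0
    rwa [add_zero] at this
  -- Step 4: the bijection
  have hcopidx : ∀ m : ℕ, ¬ p ∣ m → Nat.Coprime K.index m := by
    intro m hm
    rw [ha]
    exact Nat.Coprime.pow_left _ ((Nat.Prime.coprime_iff_not_dvd hp).mpr hm)
  have hinvform : ∀ ψ : IrrCharacter K, q ψ → ∀ (g : G) (n : K),
      (ψ : K → ℂ) ⟨g * n * g⁻¹, hK.conj_mem (n : G) n.2 g⟩ = (ψ : K → ℂ) n := by
    intro ψ hψ g n
    have := congrFun (hψ g) n
    rwa [conjFun_apply] at this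
  have hcan : ∀ ψ : IrrCharacter K, q ψ → ¬ p ∣ charDegree (ψ : K → ℂ) →
      ∃ χ : G → ℂ, (IsIrrCharacter G χ ∧ (∀ n : K, χ n = (ψ : K → ℂ) n) ∧
        detOrder χ = detOrder (ψ : K → ℂ)) ∧
      ∀ χ' : G → ℂ, IsIrrCharacter G χ' → (∀ n : K, χ' n = (ψ : K → ℂ) n) →
        Nat.Coprime K.index (detOrder χ') → χ' = χ := by
    intro ψ hψ hpd
    have hdo : Nat.Coprime (detOrder (ψ : K → ℂ)) p :=
      detOrder_coprime_of_pResidual_eq_top hp hKK ψ.2
    have hcop : Nat.Coprime K.index (detOrder (ψ : K → ℂ) * charDegree (ψ : K → ℂ)) := by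
      apply hcopidx
      intro hdvd
      rcases (Nat.Prime.dvd_mul hp).mp hdvd with h | h
      · have := Nat.Coprime.symm hdo
        rw [Nat.Prime.coprime_iff_not_dvd hp] at this
        exact this h
      · exact hpd h
    exact canon_ext K hsolv (ψ : K → ℂ) ψ.2 (hinvform ψ hψ) _ (hdeg ψ) hcop
  have h4 : ∑ χ ∈ Finset.univ.filter (fun χ : IrrCharacter G =>
        ¬ p ∣ charDegree (χ : G → ℂ) ∧ ¬ p ∣ detOrder (χ : G → ℂ)),
        charDegree (χ : G → ℂ) ^ 2 =
      ∑ ψ ∈ (Finset.univ.filter q).filter (fun ψ : IrrCharacter K => ¬ p ∣ charDegree (ψ : K → ℂ)),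
        charDegree (ψ : K → ℂ) ^ 2 := by
    have hresirr : ∀ χ : IrrCharacter G, ¬ p ∣ charDegree (χ : G → ℂ) →
        IsIrrCharacter K (fun n : K => (χ : G → ℂ) n) := fun χ hχ =>
      restrict_irr hp K hK a ha χ.2 _ (hdegG χ) hχ
    have hresdeg : ∀ χ : IrrCharacter G,
        charDegree (fun n : K => (χ : G → ℂ) n) = charDegree (χ : G → ℂ) := by
      intro χ
      unfold charDegree
      rfl
    have hresq : ∀ (χ : IrrCharacter G) (h : IsIrrCharacter K (fun n : K => (χ : G → ℂ) n)),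
        q ⟨_, h⟩ := by
      intro χ h g
      funext n
      rw [conjFun_apply]
      exact isClassFunction_of_isCharacter (IsIrrCharacter.isCharacter χ.2) n g
    refine Finset.sum_bij
      (fun χ hχ => (⟨fun n : K => (χ : G → ℂ) n,
        hresirr χ (Finset.mem_filter.mp hχ).2.1⟩ : IrrCharacter K)) ?_ ?_ ?_ ?_
    · intro χ hχ
      rw [Finset.mem_filter, Finset.mem_filter]
      refine ⟨⟨Finset.mem_univ _, hresq χ _⟩, ?_⟩
      show ¬ p ∣ charDegree (fun n : K => (χ : G → ℂ) n)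
      rw [hresdeg]
      exact (Finset.mem_filter.mp hχ).2.1
    · intro χ₁ h₁ χ₂ h₂ heq
      have hm₁ := (Finset.mem_filter.mp h₁).2
      have hm₂ := (Finset.mem_filter.mp h₂).2
      set ψ : IrrCharacter K := ⟨fun n : K => (χ₁ : G → ℂ) n, hresirr χ₁ hm₁.1⟩ with hψdef
      have hqψ : q ψ := hresq χ₁ _
      have hpdψ : ¬ p ∣ charDegree (ψ : K → ℂ) := by
        show ¬ p ∣ charDegree (fun n : K => (χ₁ : G → ℂ) n)
        rw [hresdeg]; exact hm₁.1
      obtain ⟨χ, _, huniq⟩ := hcan ψ hqψ hpdψ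
      have e1 : (χ₁ : G → ℂ) = χ := huniq _ χ₁.2 (fun n => rfl) (hcopidx _ hm₁.2)
      have e2 : (χ₂ : G → ℂ) = χ := by
        apply huniq _ χ₂.2 _ (hcopidx _ hm₂.2)
        intro n
        have := congrArg (fun ξ : IrrCharacter K => (ξ : K → ℂ) n) heq
        exact this.symm
      exact Subtype.ext (e1.trans e2.symm)
    · intro ψ hψ
      rw [Finset.mem_filter, Finset.mem_filter] at hψ
      obtain ⟨⟨_, hqψ⟩, hpdψ⟩ := hψ
      obtain ⟨χ, ⟨hχ, hχres, hχdo⟩, _⟩ := hcan ψ hqψ hpdψ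
      have hχ1 : χ 1 = (charDegree (ψ : K → ℂ) : ℂ) := by
        rw [← hdeg ψ]
        exact hχres 1
      have hχdeg : charDegree χ = charDegree (ψ : K → ℂ) := charDegree_of_one hχ1
      refine ⟨⟨χ, hχ⟩, ?_, ?_⟩
      · rw [Finset.mem_filter]
        refine ⟨Finset.mem_univ _, ?_, ?_⟩
        · show ¬ p ∣ charDegree χ
          rw [hχdeg]; exact hpdψ
        · show ¬ p ∣ detOrder χ
          rw [hχdo]
          have := Nat.Coprime.symm (detOrder_coprime_of_pResidual_eq_top hp hKK ψ.2)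
          rwa [Nat.Prime.coprime_iff_not_dvd hp] at this
      · apply Subtype.ext
        funext n
        exact hχres n
    · intro χ hχ
      show charDegree (χ : G → ℂ) ^ 2 = charDegree (fun n : K => (χ : G → ℂ) n) ^ 2
      rw [hresdeg]
  rw [h4, h1]
  exact h2.trans h3

/-- Fix a prime p and a finite group G. Let s be the sum of χ(1)² over the irreducible characters χ of G whose degree is not divisible by p and whose determinantal order o(χ) is not divisible by p. Then the order of O^p(G), the subgroup generated by the elements of order prime to p, is congruent to s modulo p. -/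
theorem result {G : Type*} [Group G] [Finite G] (p : ℕ) (hp : p.Prime) : (Nat.card (Cfsg.pResidual p G) : ℤ) ≡ (∑ᶠ χ ∈ {χ : Cfsg.IrrCharacter G | ¬ p ∣ Cfsg.charDegree (χ : G → ℂ) ∧ ¬ p ∣ Cfsg.detOrder (χ : G → ℂ)}, (Cfsg.charDegree (χ : G → ℂ) : ℤ) ^ 2) [ZMOD p] := by
  classical
  have h := main (G := G) p hp
  have hset : {χ : Cfsg.IrrCharacter G | ¬ p ∣ Cfsg.charDegree (χ : G → ℂ) ∧
      ¬ p ∣ Cfsg.detOrder (χ : G → ℂ)} =
      ↑(Finset.univ.filter (fun χ : IrrCharacter G =>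
        ¬ p ∣ charDegree (χ : G → ℂ) ∧ ¬ p ∣ detOrder (χ : G → ℂ))) := by
    ext χ
    simp
  rw [hset, finsum_mem_coe_finset]
  have h2 := (Int.natCast_modEq_iff).mpr h
  push_cast at h2
  exact h2

end Cfsg.Agent.S4455
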