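import Cfsg.Statements.S4456
import Cfsg.Agent.S4455
import Cfsg.Agent.Lib.Helper74.LinChar
import Cfsg.Agent.Lib.Helper15.LinearHom

set_option autoImplicit false
set_option linter.style.haveILetI false
set_option linter.unusedSectionVars false
open Cfsg

namespace Cfsg.Agent.S4456

open Cfsg.Agent.Helper81 Cfsg.Agent.Helper75

universe u

/-- the determinantal character of a linear character is the character itself -/
theorem detChar_of_linear {G : Type u} [Group G] [Finite G] {χ : G → ℂ}
    (hχ : IsIrrCharacter G χ) (h1 : χ 1 = 1) : detChar χ = χ := by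
  obtain ⟨n, ρ, hρ, rfl⟩ := hχ
  haveI := hρ
  have hn : n = 1 := by
    rw [Representation.char_one] at h1
    have h2 : (Module.finrank ℂ (Fin n → ℂ) : ℂ) = 1 := h1
    have h3 : Module.finrank ℂ (Fin n → ℂ) = 1 := by exact_mod_cast h2
    simpa using h3
  subst hn
  funext g
  rw [detChar_eq_det ρ g]
  exact (trace_eq_det_fin_one (ρ g)).symm

/-- the determinantal order of a linear character is its order as a homomorphism -/
theorem detOrder_ofHom {G : Type u} [Group G] [Finite G] (l : G →* ℂˣ) :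
    detOrder (Cfsg.Agent.Helper74.Lin.ofHom l : G → ℂ) = orderOf l := by
  unfold detOrder
  rw [detChar_of_linear (Cfsg.Agent.Helper74.Lin.ofHom l).2 (Cfsg.Agent.Helper74.Lin.ofHom_one_eq l)]
  exact Cfsg.Agent.Helper15.orderOf_coeFunHom l

/-- the homomorphisms of order prime to `p` -/
def primeToP {G : Type u} [Group G] (p : ℕ) : Subgroup (G →* ℂˣ) where
  carrier := {l | (orderOf l).Coprime p}
  one_mem' := by
    show (orderOf (1 : G →* ℂˣ)).Coprime p
    rw [orderOf_one]
    exact Nat.coprime_one_left p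
  mul_mem' := by
    intro a b ha hb
    have ha' : (orderOf a).Coprime p := ha
    have hb' : (orderOf b).Coprime p := hb
    show (orderOf (a * b)).Coprime p
    exact Nat.Coprime.coprime_dvd_left (Commute.orderOf_mul_dvd_mul_orderOf (Commute.all a b))
      (Nat.Coprime.mul_left ha' hb')
  inv_mem' := by
    intro a ha
    have ha' : (orderOf a).Coprime p := ha
    show (orderOf a⁻¹).Coprime p
    have h := orderOf_inv a
    rw [h]
    exact ha'

theorem card_primeToP_coprime {G : Type u} [Group G] [Finite G] (p : ℕ) (hp : p.Prime) :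
    (Nat.card (primeToP (G := G) p)).Coprime p := by
  haveI : Fact p.Prime := ⟨hp⟩
  apply Nat.Coprime.symm
  rw [Nat.Prime.coprime_iff_not_dvd hp]
  intro hdvd
  obtain ⟨x, hx⟩ := exists_prime_orderOf_dvd_card' p hdvd
  have h1 : (orderOf (x : G →* ℂˣ)).Coprime p := x.2
  rw [Subgroup.orderOf_coe, hx] at h1
  exact hp.one_lt.ne' ((Nat.coprime_self p).mp h1)

/-- Let p be a prime and G a finite group such that p divides the degree of every irreducible character of G of degree greater than one. Then G has a normal p-complement: a normal subgroup of order prime to p whose index is a power of p. -/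
theorem result {G : Type*} [Group G] [Finite G] (p : ℕ) (hp : p.Prime) (hdeg : ∀ χ : Cfsg.IrrCharacter G, Cfsg.charDegree (χ : G → ℂ) ≠ 1 → p ∣ Cfsg.charDegree (χ : G → ℂ)) : ∃ N : Subgroup G, N.Normal ∧ (Nat.card N).Coprime p ∧ ∃ k : ℕ, N.index = p ^ k := by
  classical
  haveI : Fact p.Prime := ⟨hp⟩
  set K : Subgroup G := pResidual p G with hKdef
  have hK : K.Normal := Cfsg.Agent.Helper47.pResidual_normal
  haveI := hK
  have hPQ : IsPGroup p (G ⧸ K) := Cfsg.Agent.Helper47.isPGroup_quotient_of_pResidual_le K le_rfl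
  obtain ⟨a, ha⟩ := IsPGroup.iff_card.mp hPQ
  rw [← Subgroup.index_eq_card] at ha
  refine ⟨K, hK, ?_, a, ha⟩
  have hmain := Cfsg.Agent.S4455.main (G := G) p hp
  set S : Finset (IrrCharacter G) := Finset.univ.filter (fun χ : IrrCharacter G =>
        ¬ p ∣ charDegree (χ : G → ℂ) ∧ ¬ p ∣ detOrder (χ : G → ℂ)) with hSdef
  have hS1 : ∀ χ ∈ S, charDegree (χ : G → ℂ) = 1 := by
    intro χ hχ
    by_contra hne
    exact (Finset.mem_filter.mp hχ).2.1 (hdeg χ hne)
  have hsum : ∑ χ ∈ S, charDegree (χ : G → ℂ) ^ 2 = S.card := by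
    rw [Finset.sum_congr rfl (fun χ hχ => by rw [hS1 χ hχ, one_pow]), Finset.sum_const,
      smul_eq_mul, mul_one]
  rw [hsum] at hmain
  have hone : ∀ χ ∈ S, (χ : G → ℂ) 1 = 1 := by
    intro χ hχ
    rw [(Cfsg.Agent.Helper79.irr_one_eq χ).1, hS1 χ hχ, Nat.cast_one]
  -- count `S`
  have hcard : S.card = Nat.card (primeToP (G := G) p) := by
    rw [← Nat.card_eq_finsetCard]
    apply Nat.card_congr
    refine
      { toFun := fun χ => ⟨Cfsg.Agent.Helper74.Lin.toHom χ.1 (hone χ.1 χ.2), ?_⟩
        invFun := fun l => ⟨Cfsg.Agent.Helper74.Lin.ofHom l.1, ?_⟩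
        left_inv := fun χ => Subtype.ext (Cfsg.Agent.Helper74.Lin.ofHom_toHom χ.1 (hone χ.1 χ.2))
        right_inv := fun l => Subtype.ext (by ext g; rfl) }
    · show (orderOf (Cfsg.Agent.Helper74.Lin.toHom χ.1 (hone χ.1 χ.2))).Coprime p
      rw [← detOrder_ofHom, Cfsg.Agent.Helper74.Lin.ofHom_toHom]
      apply Nat.Coprime.symm
      rw [Nat.Prime.coprime_iff_not_dvd hp]
      exact (Finset.mem_filter.mp χ.2).2.2
    · rw [hSdef, Finset.mem_filter]
      refine ⟨Finset.mem_univ _, ?_, ?_⟩
      · rw [Cfsg.Agent.S4455.charDegree_of_one (d := 1)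
          (by simp)]
        exact hp.one_lt.ne' ∘ Nat.dvd_one.mp
      · rw [detOrder_ofHom, ← Nat.Prime.coprime_iff_not_dvd hp]
        exact Nat.Coprime.symm l.2
  rw [hcard] at hmain
  have hcop := card_primeToP_coprime (G := G) p hp
  apply Nat.Coprime.symm
  rw [Nat.Prime.coprime_iff_not_dvd hp]
  intro hdvd
  have h0 : Nat.card K ≡ 0 [MOD p] := (Nat.modEq_zero_iff_dvd).mpr hdvd
  have h1 : Nat.card (primeToP (G := G) p) ≡ 0 [MOD p] := hmain.symm.trans h0
  have h2 : p ∣ Nat.card (primeToP (G := G) p) := (Nat.modEq_zero_iff_dvd).mp h1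
  have h3 := Nat.Coprime.symm hcop
  rw [Nat.Prime.coprime_iff_not_dvd hp] at h3
  exact h3 h2

end Cfsg.Agent.S4456
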