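import Cfsg.Statements.S4145
import Mathlib
-- import your own Cfsg.Agent.* helpers here

set_option autoImplicit false
open Cfsg

namespace Cfsg.Agent.S4145

/-- L1: a `p'`-element of `X` lies in a normal subgroup `K` of `X` of `p`-power index. -/
theorem mem_of_coprime_order {G : Type*} [Group G] [Finite G] (p : ℕ) [Fact p.Prime]
    {X K : Subgroup G} (hn : (K.subgroupOf X).Normal) {m : ℕ}
    (hidx : K.relIndex X = p ^ m) {x : G} (hx : x ∈ X) (hxo : (orderOf x).Coprime p) :
    x ∈ K := by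
  have h1 : (⟨x, hx⟩ : ↥X) ^ (p ^ m) ∈ K.subgroupOf X := by
    have := (K.subgroupOf X).pow_index_mem ⟨x, hx⟩
    rwa [← Subgroup.relIndex, hidx] at this
  rw [Subgroup.mem_subgroupOf] at h1
  have h2 : x ^ (p ^ m) ∈ K := by simpa using h1
  obtain ⟨j, hj⟩ := exists_pow_eq_self_of_coprime (x := x) (n := p ^ m)
    (Nat.Coprime.pow_left m hxo.symm)
  rw [← hj]; exact K.pow_mem h2 j

/-- L2: a normal `p`-complement of a normal subgroup is normal in the whole group. -/
theorem normal_of_pcomplement {G : Type*} [Group G] [Finite G] (p : ℕ) [Fact p.Prime]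
    {X K : Subgroup G} [hX : X.Normal] (hKX : K ≤ X) (hn : (K.subgroupOf X).Normal) {m : ℕ}
    (hidx : K.relIndex X = p ^ m) (hK : (Nat.card K).Coprime p) : K.Normal := by
  constructor
  intro k hk g
  apply mem_of_coprime_order p hn hidx (hX.conj_mem k (hKX hk) g)
  have h1 : orderOf (g * k * g⁻¹) = orderOf k := (MulAut.conj g).orderOf_eq k
  rw [h1]
  refine Nat.Coprime.coprime_dvd_left ?_ hK
  have := orderOf_dvd_natCard (⟨k, hk⟩ : K)
  rwa [Subgroup.orderOf_mk] at this

/-- Lemma D: a subgroup of order prime to `p` and `p`-power index is a complement of every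
Sylow `p`-subgroup. -/
theorem isComplement'_sylow {X : Type*} [Group X] [Finite X] (p : ℕ) [Fact p.Prime]
    (N : Subgroup X) (hN : (Nat.card N).Coprime p) {m : ℕ} (hidx : N.index = p ^ m)
    (Q : Sylow p X) : N.IsComplement' (Q : Subgroup X) := by
  have hp : p.Prime := Fact.out
  have hQcard : ∃ j, Nat.card Q = p ^ j := ⟨_, Q.card_eq_multiplicity⟩
  obtain ⟨j, hj⟩ := hQcard
  have hPeq : Nat.card Q = p ^ m := by
    have h1 : Nat.card N * p ^ m = Nat.card X := by
      rw [← hidx]; exact Subgroup.card_mul_index N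
    have h2 : Nat.card Q * (Q : Subgroup X).index = Nat.card X :=
      Subgroup.card_mul_index (Q : Subgroup X)
    apply Nat.dvd_antisymm
    · have h3 : Nat.card Q ∣ Nat.card N * p ^ m := by
        rw [h1, ← h2]; exact dvd_mul_right _ _
      have h4 : (Nat.card Q).Coprime (Nat.card N) := by
        rw [hj]
        exact (Nat.Coprime.pow_right _ hN).symm
      exact h4.dvd_of_dvd_mul_left h3
    · have h3 : p ^ m ∣ Nat.card Q * (Q : Subgroup X).index := by
        rw [h2, ← h1]; exact dvd_mul_left _ _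
      have h4 : (p ^ m).Coprime (Q : Subgroup X).index := by
        apply Nat.Coprime.pow_left
        exact (Nat.Prime.coprime_iff_not_dvd hp).mpr Q.not_dvd_index
      exact h4.dvd_of_dvd_mul_right h3
  apply Subgroup.isComplement'_of_coprime
  · rw [hPeq, ← hidx]; exact Subgroup.card_mul_index N
  · rw [hPeq]; exact Nat.Coprime.pow_right _ hN

/-- Burnside via the Mathlib dichotomy for cyclic Sylow subgroups. -/
theorem exists_normal_complement_of_not_le_commutator {X : Type*} [Group X] [Finite X] (p : ℕ)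
    [Fact p.Prime] (P : Sylow p X) (hcyc : IsCyclic (P : Subgroup X))
    (h : ¬ (P : Subgroup X) ≤ commutator X) :
    ∃ K : Subgroup X, K.Normal ∧ K.IsComplement' (P : Subgroup X) := by
  have := hcyc
  rcases Sylow.normalizer_le_centralizer_or_le_commutator P with h1 | h1
  · exact ⟨_, MonoidHom.normal_ker _, MonoidHom.ker_transferSylow_isComplement' P h1⟩
  · exact absurd h1 h

/-- Lemma E: relative version inside a subgroup `Y ≥ P`. -/
theorem exists_pcompl_subgroup {G : Type*} [Group G] [Finite G] (p : ℕ) [Fact p.Prime]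
    (P : Sylow p G) (hcyc : IsCyclic (P : Subgroup G)) (Y : Subgroup G)
    (hPY : (P : Subgroup G) ≤ Y)
    (hnot : ¬ ((P.subtype hPY : Sylow p Y) : Subgroup Y) ≤ commutator Y) :
    ∃ K : Subgroup G, K ≤ Y ∧ (K.subgroupOf Y).Normal ∧ (Nat.card K).Coprime p ∧
      K.relIndex Y = Nat.card P := by
  have hp : p.Prime := Fact.out
  have hcycY : IsCyclic ((P.subtype hPY : Sylow p Y) : Subgroup Y) := by
    have := hcyc
    exact isCyclic_of_surjective _ (Subgroup.subgroupOfEquivOfLe hPY).symm.surjective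
  obtain ⟨K', hK'n, hK'c⟩ :=
    exists_normal_complement_of_not_le_commutator p (P.subtype hPY) hcycY hnot
  have hsub : (K'.map Y.subtype).subgroupOf Y = K' :=
    Subgroup.comap_map_eq_self_of_injective Y.subtype_injective K'
  refine ⟨K'.map Y.subtype, Subgroup.map_subtype_le _, ?_, ?_, ?_⟩
  · rw [hsub]; exact hK'n
  · rw [Subgroup.card_map_of_injective Y.subtype_injective, ← hK'c.index_eq_card]
    exact ((Nat.Prime.coprime_iff_not_dvd hp).mpr (P.subtype hPY).not_dvd_index).symm
  · rw [Subgroup.relIndex, hsub, hK'c.symm.index_eq_card]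
    exact Nat.card_congr (Subgroup.subgroupOfEquivOfLe hPY).toEquiv

/-- Elements of a cyclic subgroup commute. -/
theorem commute_of_cyclic {G : Type*} [Group G] (P : Subgroup G) (hcyc : IsCyclic P) {a b : G}
    (ha : a ∈ P) (hb : b ∈ P) : a * b = b * a := by
  obtain ⟨g, hg⟩ := hcyc.exists_generator
  obtain ⟨i, hi⟩ := Subgroup.mem_zpowers_iff.mp (hg ⟨a, ha⟩)
  obtain ⟨j, hj⟩ := Subgroup.mem_zpowers_iff.mp (hg ⟨b, hb⟩)
  have h1 : (⟨a, ha⟩ : P) * ⟨b, hb⟩ = ⟨b, hb⟩ * ⟨a, ha⟩ := by
    rw [← hi, ← hj, ← zpow_add, ← zpow_add, add_comm]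
  exact congrArg Subtype.val h1

open scoped commutatorElement

/-- Transfer into an abelian subgroup kills commutators; evaluated on a "weakly central"
element it is a power map. -/
theorem pow_index_eq_one_of_mem_commutator {X : Type*} [Group X] [Finite X] (PX : Subgroup X)
    (hcomm : ∀ a ∈ PX, ∀ b ∈ PX, a * b = b * a) (z : X)
    (key : ∀ (k : ℕ) (g₀ : X), g₀⁻¹ * z ^ k * g₀ ∈ PX → g₀⁻¹ * z ^ k * g₀ = z ^ k)
    (hz : z ∈ commutator X) : z ^ PX.index = 1 := by
  let _ : CommGroup PX :=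
    { (inferInstance : Group PX) with
      mul_comm := fun a b => Subtype.ext (hcomm a a.2 b b.2) }
  have hV1 : MonoidHom.transfer (MonoidHom.id PX) z = 1 :=
    (Abelianization.commutator_subset_ker _) hz
  have hV2 := MonoidHom.transfer_eq_pow (MonoidHom.id PX) z key
  rw [hV1] at hV2
  have h3 := congrArg Subtype.val hV2
  simpa using h3.symm

/-- Main argument, for a Sylow subgroup `P` of `G` containing a Sylow subgroup of `H`. -/
theorem main_aux {G : Type*} [Group G] [Finite G] (p : ℕ) [Fact p.Prime]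
    (P : Sylow p G) (hcyc : IsCyclic (P : Subgroup G)) (H : Subgroup G) [hHn : H.Normal]
    (h1 : p ∣ Nat.card H) (h2 : p ∣ H.index) (Q0 : Sylow p H)
    (hQP : (Q0 : Subgroup H).map H.subtype ≤ P) :
    Cfsg.HasNormalPComplement p H ∧ Cfsg.IsPSolvable p G := by
  have hp : p.Prime := Fact.out
  obtain ⟨j, hj⟩ : ∃ j, Nat.card P = p ^ j := ⟨_, P.card_eq_multiplicity⟩
  -- Part A
  set G1 := H ⊔ (P : Subgroup G) with hG1
  have hPG1 : (P : Subgroup G) ≤ G1 := le_sup_right
  have hHG1 : H ≤ G1 := le_sup_left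
  have hnotA : ¬ ((P.subtype hPG1 : Sylow p G1) : Subgroup G1) ≤ commutator G1 := by
    intro hle
    have hcomm : commutator G1 ≤ H.subgroupOf G1 := by
      rw [commutator_def, Subgroup.commutator_le]
      intro a _ b _
      rw [Subgroup.mem_subgroupOf]
      have hmap : G1.map (QuotientGroup.mk' H) = (P : Subgroup G).map (QuotientGroup.mk' H) := by
        rw [hG1, Subgroup.map_sup, QuotientGroup.map_mk'_self, bot_sup_eq]
      have ha : QuotientGroup.mk' H (a : G) ∈ G1.map (QuotientGroup.mk' H) :=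
        Subgroup.mem_map_of_mem _ a.2
      have hb : QuotientGroup.mk' H (b : G) ∈ G1.map (QuotientGroup.mk' H) :=
        Subgroup.mem_map_of_mem _ b.2
      rw [hmap] at ha hb
      obtain ⟨u, hu, hua⟩ := Subgroup.mem_map.mp ha
      obtain ⟨u', hu', hub⟩ := Subgroup.mem_map.mp hb
      have hcoe : ((⁅a, b⁆ : G1) : G) = ⁅(a : G), (b : G)⁆ := rfl
      rw [hcoe, ← QuotientGroup.eq_one_iff]
      have h3 : ((⁅(a : G), (b : G)⁆ : G) : G ⧸ H) =
          QuotientGroup.mk' H ⁅(a : G), (b : G)⁆ := rfl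
      rw [h3, map_commutatorElement, ← hua, ← hub, ← map_commutatorElement]
      have h4 : ⁅u, u'⁆ = 1 := by
        rw [commutatorElement_eq_one_iff_mul_comm]
        exact commute_of_cyclic _ hcyc hu hu'
      rw [h4, map_one]
    have hPH : (P : Subgroup G) ≤ H := by
      intro u hu
      have h3 : (⟨u, hPG1 hu⟩ : G1) ∈ ((P.subtype hPG1 : Sylow p G1) : Subgroup G1) := by
        rw [Sylow.coe_subtype, Subgroup.mem_subgroupOf]; exact hu
      have h4 := hcomm (hle h3)
      rwa [Subgroup.mem_subgroupOf] at h4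
    exact P.not_dvd_index (h2.trans (Subgroup.index_dvd_of_le hPH))
  obtain ⟨K1, hK1G1, hK1n, hK1cop, hK1idx⟩ := exists_pcompl_subgroup p P hcyc G1 hPG1 hnotA
  have hcopK1 : ∀ x ∈ K1, (orderOf x).Coprime p := by
    intro x hx
    refine Nat.Coprime.coprime_dvd_left ?_ hK1cop
    have := orderOf_dvd_natCard (⟨x, hx⟩ : K1)
    rwa [Subgroup.orderOf_mk] at this
  obtain ⟨i, hi⟩ : ∃ i, H.relIndex G1 = p ^ i := by
    have h3 : H.relIndex G1 = H.relIndex (P : Subgroup G) := by
      rw [hG1]; exact Subgroup.relIndex_sup_left (P : Subgroup G) H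
    have h4 : H.relIndex (P : Subgroup G) ∣ p ^ j := by
      rw [← hj]; exact Subgroup.relIndex_dvd_card _ _
    obtain ⟨i, -, hi⟩ := (Nat.dvd_prime_pow hp).mp h4
    exact ⟨i, h3.trans hi⟩
  have hK1H : K1 ≤ H := by
    intro x hx
    exact mem_of_coprime_order p (inferInstance : (H.subgroupOf G1).Normal) hi (hK1G1 hx)
      (hcopK1 x hx)
  obtain ⟨m, hm⟩ : ∃ m, K1.relIndex H = p ^ m := by
    have h3 := Subgroup.relIndex_mul_relIndex K1 H G1 hK1H hHG1
    have h4 : K1.relIndex H ∣ p ^ j := by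
      rw [← hj, ← hK1idx, ← h3]; exact dvd_mul_right _ _
    obtain ⟨m, -, hm⟩ := (Nat.dvd_prime_pow hp).mp h4
    exact ⟨m, hm⟩
  have hK1nH : (K1.subgroupOf H).Normal := by
    constructor
    intro k hk h
    rw [Subgroup.mem_subgroupOf] at hk ⊢
    have h3 := hK1n.conj_mem ⟨(k : G), hHG1 k.2⟩
      (by rw [Subgroup.mem_subgroupOf]; exact hk) ⟨(h : G), hHG1 h.2⟩
    rw [Subgroup.mem_subgroupOf] at h3
    simpa using h3
  have hK1normal : K1.Normal := normal_of_pcomplement p hK1H hK1nH hm hK1cop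
  have hcomplH : (K1.subgroupOf H).IsComplement' (Q0 : Subgroup H) := by
    apply isComplement'_sylow p (K1.subgroupOf H) _ (m := m) _ Q0
    · rw [Nat.card_congr (Subgroup.subgroupOfEquivOfLe hK1H).toEquiv]; exact hK1cop
    · exact hm
  have claim1 : Cfsg.HasNormalPComplement p H := ⟨Q0, K1.subgroupOf H, hK1nH, hcomplH⟩
  -- Part B
  have hdecomp : ∀ h ∈ H, ∃ k ∈ K1, ∃ q ∈ (P : Subgroup G), q ∈ H ∧ h = k * q := by
    intro h hh
    obtain ⟨⟨⟨k, hk⟩, ⟨q, hq⟩⟩, hkq⟩ := hcomplH.2 ⟨h, hh⟩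
    refine ⟨(k : G), Subgroup.mem_subgroupOf.mp hk, (q : G),
      hQP (Subgroup.mem_map_of_mem _ hq), q.2, ?_⟩
    have := congrArg Subtype.val hkq
    simpa using this.symm
  have hHbarN : (H.map (QuotientGroup.mk' K1)).Normal :=
    Subgroup.Normal.map hHn _ (QuotientGroup.mk'_surjective K1)
  set C := (Subgroup.centralizer
    ((H.map (QuotientGroup.mk' K1) : Subgroup (G ⧸ K1)) : Set (G ⧸ K1))).comap
      (QuotientGroup.mk' K1) with hCdef
  have hCn : C.Normal := Subgroup.Normal.comap Subgroup.normal_centralizer _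
  have hCmem : ∀ g, g ∈ C ↔ ∀ h ∈ H, QuotientGroup.mk' K1 h * QuotientGroup.mk' K1 g =
      QuotientGroup.mk' K1 g * QuotientGroup.mk' K1 h := by
    intro g
    rw [hCdef, Subgroup.mem_comap, Subgroup.mem_centralizer_iff]
    constructor
    · intro hg h hh; exact hg _ (Subgroup.mem_map_of_mem _ hh)
    · rintro hg _ ⟨h, hh, rfl⟩; exact hg h hh
  have hPC : (P : Subgroup G) ≤ C := by
    intro u hu
    rw [hCmem]
    intro h hh
    obtain ⟨k, hk, q, hq, -, rfl⟩ := hdecomp h hh
    have hk1 : QuotientGroup.mk' K1 k = 1 := (QuotientGroup.eq_one_iff k).mpr hk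
    have hcomm : q * u = u * q := commute_of_cyclic _ hcyc hq hu
    rw [map_mul, hk1, one_mul, ← map_mul, ← map_mul, hcomm]
  have hnotB : ¬ ((P.subtype hPC : Sylow p C) : Subgroup C) ≤ commutator C := by
    intro hle
    have hQ0ne : (Q0 : Subgroup H) ≠ ⊥ := Q0.ne_bot_of_dvd_card h1
    obtain ⟨z0, hz01⟩ := (Subgroup.ne_bot_iff_exists_ne_one).mp hQ0ne
    have hzH : ((z0 : H) : G) ∈ H := (z0 : H).2
    have hzP : ((z0 : H) : G) ∈ (P : Subgroup G) := hQP (Subgroup.mem_map_of_mem _ z0.2)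
    have hz1 : ((z0 : H) : G) ≠ 1 := by
      intro h
      apply hz01
      apply Subtype.ext
      apply Subtype.ext
      exact h
    set z : G := ((z0 : H) : G) with hz
    have hzmem : (⟨z, hPC hzP⟩ : C) ∈ ((P.subtype hPC : Sylow p C) : Subgroup C) := by
      rw [Sylow.coe_subtype, Subgroup.mem_subgroupOf]; exact hzP
    have hKP : K1 ⊓ (P : Subgroup G) = ⊥ := by
      apply Disjoint.eq_bot
      apply Subgroup.disjoint_of_coprime_natCard
      rw [hj]; exact Nat.Coprime.pow_right _ hK1cop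
    have key : ∀ (k : ℕ) (g₀ : C), g₀⁻¹ * (⟨z, hPC hzP⟩ : C) ^ k * g₀ ∈
        ((P.subtype hPC : Sylow p C) : Subgroup C) →
        g₀⁻¹ * (⟨z, hPC hzP⟩ : C) ^ k * g₀ = (⟨z, hPC hzP⟩ : C) ^ k := by
      intro k g₀ hmem
      rw [Sylow.coe_subtype, Subgroup.mem_subgroupOf] at hmem
      have hmem' : (g₀ : G)⁻¹ * z ^ k * (g₀ : G) ∈ (P : Subgroup G) := by simpa using hmem
      apply Subtype.ext
      show (g₀ : G)⁻¹ * z ^ k * (g₀ : G) = z ^ k
      have hwH : z ^ k ∈ H := H.pow_mem hzH k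
      have hwP : z ^ k ∈ (P : Subgroup G) := Subgroup.pow_mem _ hzP k
      have h3 := (hCmem (g₀ : G)).mp g₀.2 (z ^ k) hwH
      -- mk (w * g) = mk (g * w)
      have h4 : QuotientGroup.mk' K1 (z ^ k) =
          QuotientGroup.mk' K1 ((g₀ : G)⁻¹ * z ^ k * (g₀ : G)) := by
        rw [map_mul, map_mul, map_inv, mul_assoc, h3, ← mul_assoc, inv_mul_cancel, one_mul]
      have h5 : (z ^ k)⁻¹ * ((g₀ : G)⁻¹ * z ^ k * (g₀ : G)) ∈ K1 := QuotientGroup.eq.mp h4
      have h6 : (z ^ k)⁻¹ * ((g₀ : G)⁻¹ * z ^ k * (g₀ : G)) ∈ K1 ⊓ (P : Subgroup G) :=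
        ⟨h5, Subgroup.mul_mem _ (Subgroup.inv_mem _ hwP) hmem'⟩
      rw [hKP, Subgroup.mem_bot] at h6
      exact (inv_mul_eq_one.mp h6).symm
    have hcommC : ∀ a ∈ ((P.subtype hPC : Sylow p C) : Subgroup C),
        ∀ b ∈ ((P.subtype hPC : Sylow p C) : Subgroup C), a * b = b * a := by
      intro a ha b hb
      rw [Sylow.coe_subtype, Subgroup.mem_subgroupOf] at ha hb
      exact Subtype.ext (commute_of_cyclic _ hcyc ha hb)
    have h7 := pow_index_eq_one_of_mem_commutator _ hcommC _ key (hle hzmem)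
    have h8 : z ^ ((P.subtype hPC : Sylow p C) : Subgroup C).index = 1 := by
      have := congrArg Subtype.val h7
      simpa using this
    have h9 : orderOf z ∣ ((P.subtype hPC : Sylow p C) : Subgroup C).index :=
      orderOf_dvd_of_pow_eq_one h8
    obtain ⟨t, ht⟩ := (IsPGroup.iff_orderOf.mp P.isPGroup') ⟨z, hzP⟩
    rw [Subgroup.orderOf_mk] at ht
    have ht0 : t ≠ 0 := by
      intro h0
      rw [h0, pow_zero, orderOf_eq_one_iff] at ht
      exact hz1 ht
    have h10 : p ∣ orderOf z := by rw [ht]; exact dvd_pow_self p ht0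
    exact (P.subtype hPC).not_dvd_index (h10.trans h9)
  obtain ⟨K2, hK2C, hK2n, hK2cop, hK2idx⟩ := exists_pcompl_subgroup p P hcyc C hPC hnotB
  have hK2normal : K2.Normal := normal_of_pcomplement p hK2C hK2n (hK2idx.trans hj) hK2cop
  refine ⟨claim1, 3, ![⊥, K2, C, ⊤], rfl, rfl, ?_, ?_, ?_⟩
  · rw [Fin.monotone_iff_le_succ]
    intro i
    fin_cases i
    · exact bot_le
    · exact hK2C
    · exact le_top
  · intro i
    fin_cases i
    · exact (inferInstance : (⊥ : Subgroup G).Normal)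
    · exact hK2normal
    · exact hCn
    · exact (inferInstance : (⊤ : Subgroup G).Normal)
  · intro i
    fin_cases i
    · right
      show ((⊥ : Subgroup G).relIndex K2).Coprime p
      rw [Subgroup.relIndex_bot_left]; exact hK2cop
    · left
      exact ⟨j, hK2idx.trans hj⟩
    · right
      show (C.relIndex ⊤).Coprime p
      rw [Subgroup.relIndex_top_right]
      have h6 : ¬ p ∣ C.index := fun h => P.not_dvd_index (h.trans (Subgroup.index_dvd_of_le hPC))
      exact ((Nat.Prime.coprime_iff_not_dvd hp).mpr h6).symm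

/-- Let G be a finite group with a cyclic Sylow p-subgroup and H a normal subgroup such that p divides both the order of H and the index of H. Then H has a normal p-complement and G is p-solvable. -/
theorem result {G : Type*} [Group G] [Finite G] (p : ℕ) [Fact p.Prime]
    (P : Sylow p G) (hP : IsCyclic (P : Subgroup G)) (H : Subgroup G) [H.Normal] (h1 : p ∣ Nat.card H) (h2 : p ∣ H.index) :
    Cfsg.HasNormalPComplement p H ∧ Cfsg.IsPSolvable p G := by
  obtain ⟨Q0⟩ : Nonempty (Sylow p H) := inferInstance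
  obtain ⟨P', hQP'⟩ := (Q0.isPGroup'.map H.subtype).exists_le_sylow
  have hcyc' : IsCyclic (P' : Subgroup G) := by
    have := hP
    exact isCyclic_of_surjective _ (Sylow.equiv P P').surjective
  exact main_aux p P' hcyc' H h1 h2 Q0 hQP'

end Cfsg.Agent.S4145
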