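import Cfsg.Statements.S4457
-- import your own Cfsg.Agent.* helpers here
import Cfsg.Agent.Lib.Helper76.CD2Final
import Cfsg.Agent.Lib.Helper76.CD2CaseB

set_option autoImplicit false
set_option linter.style.haveILetI false
open Cfsg

namespace Cfsg.Agent.S4457

/-- Let G be a finite group whose irreducible character degrees are exactly 1 and m (m ≠ 1). Then either G has an abelian normal subgroup of index m, or m is a power of a prime p and G is the direct product of a p-group and an abelian group: there are normal subgroups P and A with P a p-group, A abelian, P ⊓ A = 1 and P ⊔ A = G. -/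
theorem result {G : Type*} [Group G] [Finite G] (m : ℕ) (hcd : ∀ χ : Cfsg.IrrCharacter G, Cfsg.charDegree (χ : G → ℂ) = 1 ∨ Cfsg.charDegree (χ : G → ℂ) = m) (hm : ∃ χ : Cfsg.IrrCharacter G, Cfsg.charDegree (χ : G → ℂ) = m) (hm1 : m ≠ 1) : (∃ A : Subgroup G, A.Normal ∧ (∀ a ∈ A, ∀ b ∈ A, a * b = b * a) ∧ A.index = m) ∨ ∃ p e : ℕ, p.Prime ∧ m = p ^ e ∧ ∃ P A : Subgroup G, P.Normal ∧ A.Normal ∧ IsPGroup p P ∧ (∀ a ∈ A, ∀ b ∈ A, a * b = b * a) ∧ P ⊓ A = ⊥ ∧ P ⊔ A = ⊤ := by
  classical
  obtain ⟨χ₀, hχ₀⟩ := hm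
  by_cases hnilG : Group.IsNilpotent G
  · -- nilpotent case: direct product
    right
    obtain ⟨p, hp, hpm⟩ := Nat.exists_prime_and_dvd hm1
    haveI : Fact p.Prime := ⟨hp⟩
    obtain ⟨P⟩ : Nonempty (Sylow p G) := inferInstance
    have hPn : (P : Subgroup G).Normal := inferInstance
    obtain ⟨e, hme, A, hAn, hAc, hinf, hsup⟩ :=
      Cfsg.Agent.Helper76.CD2.caseB m hcd χ₀ hχ₀ p hp hpm P hPn
    exact ⟨p, e, hp, hme, P, A, hPn, hAn, P.isPGroup', hAc, hinf, hsup⟩
  · -- non-nilpotent case: an abelian normal subgroup of index `m`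
    left
    let S : Set (Subgroup G) := {K | ∃ hK : K.Normal,
      ¬ @Group.IsNilpotent (G ⧸ K) (@QuotientGroup.Quotient.group G _ K hK)}
    have hS : S.Nonempty := by
      refine ⟨⊥, inferInstance, ?_⟩
      intro h
      exact hnilG (Group.nilpotent_of_mulEquiv (QuotientGroup.quotientBot (G := G)))
    obtain ⟨K, ⟨hKn, hKnil⟩, hKmax⟩ := WellFounded.has_min (wellFounded_gt (α := Subgroup G)) S hS
    haveI := hKn
    have hcdH := Cfsg.Agent.Helper76.CD2.quotient m hcd K
    have hquot : ∀ L : Subgroup (G ⧸ K), ∀ _ : L.Normal, L ≠ ⊥ → Group.IsNilpotent ((G ⧸ K) ⧸ L) := by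
      intro L hLn hLb
      haveI := hLn
      set L' : Subgroup G := L.comap (QuotientGroup.mk' K) with hL'
      have hL'n : L'.Normal := inferInstance
      have hKL' : K < L' := by
        refine lt_of_le_of_ne ?_ ?_
        · intro x hx
          rw [hL', Subgroup.mem_comap, QuotientGroup.mk'_apply, (QuotientGroup.eq_one_iff x).2 hx]
          exact L.one_mem
        · intro h
          apply hLb
          rw [eq_bot_iff]
          intro y hy
          obtain ⟨x, rfl⟩ := QuotientGroup.mk_surjective y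
          have hx : x ∈ L' := hy
          rw [← h] at hx
          rw [Subgroup.mem_bot]
          exact (QuotientGroup.eq_one_iff x).2 hx
      have hnot : L' ∉ S := fun h => hKmax L' h hKL'
      have hnilL' : Group.IsNilpotent (G ⧸ L') := by
        by_contra h
        exact hnot ⟨hL'n, h⟩
      let f : G ⧸ L' →* (G ⧸ K) ⧸ L :=
        QuotientGroup.lift L' ((QuotientGroup.mk' L).comp (QuotientGroup.mk' K)) (by
          intro x hx
          rw [MonoidHom.mem_ker, MonoidHom.comp_apply, QuotientGroup.mk'_apply,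
            QuotientGroup.mk'_apply, QuotientGroup.eq_one_iff]
          exact hx)
      have hf : Function.Surjective f := by
        intro y
        obtain ⟨y', rfl⟩ := QuotientGroup.mk_surjective y
        obtain ⟨x, rfl⟩ := QuotientGroup.mk_surjective y'
        exact ⟨(x : G ⧸ L'), rfl⟩
      exact Group.nilpotent_of_surjective f hf
    obtain ⟨M, hMn, hMc, hMidx, hMfpf, hMcard, hMcop⟩ :=
      Cfsg.Agent.Helper76.CD2.structure_thm m hcdH hKnil hquot
    haveI := hMn
    haveI : Fintype G := Fintype.ofFinite G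
    set N : Subgroup G := M.comap (QuotientGroup.mk' K) with hN
    haveI hNn : N.Normal := inferInstance
    have hNidx : N.index = m := by
      rw [hN, Subgroup.index_comap_of_surjective M (QuotientGroup.mk'_surjective K), hMidx]
    let π : N →* M :=
      { toFun := fun n => ⟨((n : G) : G ⧸ K), n.2⟩
        map_one' := rfl
        map_mul' := fun a b => rfl }
    have hπ : Function.Surjective π := by
      rintro ⟨y, hy⟩
      obtain ⟨x, rfl⟩ := QuotientGroup.mk_surjective y
      exact ⟨⟨x, hy⟩, rfl⟩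
    let c : (M →* ℂˣ) →* (N →* ℂˣ) :=
      { toFun := fun mu => mu.comp π
        map_one' := rfl
        map_mul' := fun a b => rfl }
    have hc : Function.Injective c := by
      intro a b hab
      apply MonoidHom.ext
      intro y
      obtain ⟨n, rfl⟩ := hπ y
      exact congrArg (fun f : N →* ℂˣ => f n) hab
    set Λ : Subgroup (N →* ℂˣ) := c.range with hΛ
    have hΛcard : Nat.card Λ = Nat.card M := by
      rw [hΛ, Nat.card_congr (MonoidHom.ofInjective hc).symm.toEquiv,
        Cfsg.Agent.Helper74.Lin.card_hom]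
      have hcomm : commutator M = ⊥ := by
        rw [eq_bot_iff, commutator_def, Subgroup.commutator_le]
        intro a _ b _
        rw [Subgroup.mem_bot, commutatorElement_eq_one_iff_mul_comm]
        exact Subtype.ext (hMc a a.2 b b.2)
      rw [hcomm, Subgroup.index_bot]
    have hconj : ∀ (mu : M →* ℂˣ) (g : G), Cfsg.Agent.Helper76.CD2.conjHom N (c mu) g =
        c (Cfsg.Agent.Helper76.CD2.conjHom M mu (g : G ⧸ K)) := by
      intro mu g
      apply MonoidHom.ext
      intro n
      rfl
    have hstab : ∀ mu ∈ Λ, ∀ g : G, Cfsg.Agent.Helper76.CD2.conjHom N mu g ∈ Λ := by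
      rintro _ ⟨mu, rfl⟩ g
      rw [hconj]
      exact ⟨_, rfl⟩
    have hfpf : ∀ g : G, g ∉ N → ∀ mu ∈ Λ, Cfsg.Agent.Helper76.CD2.conjHom N mu g = mu → mu = 1 := by
      rintro g hg _ ⟨mu, rfl⟩ hfix
      rw [hconj] at hfix
      have h1 : Cfsg.Agent.Helper76.CD2.conjHom M mu (g : G ⧸ K) = mu := hc hfix
      have hgM : (g : G ⧸ K) ∉ M := hg
      have h2 := Cfsg.Agent.Helper76.CD2.dual_fpf M hMn (g : G ⧸ K) (hMfpf _ hgM) mu
        (fun x => congrArg (fun f : M →* ℂˣ => f x) h1)
      rw [h2, map_one]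
    have hlin := Cfsg.Agent.Helper76.CD2.all_linear_of_fpf m hcd N hNidx Λ hstab hfpf
      (hΛcard ▸ hMcard) (hΛcard ▸ hMcop)
    have hNc := Cfsg.Agent.Helper76.CD2.comm_of_all_linear hlin
    exact ⟨N, hNn, fun a ha b hb => congrArg Subtype.val (hNc ⟨a, ha⟩ ⟨b, hb⟩), hNidx⟩

end Cfsg.Agent.S4457
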