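import Cfsg.Statements.S4458
-- import your own Cfsg.Agent.* helpers here
import Cfsg.Agent.S4457
import Cfsg.Agent.Lib.Helper76.Taketa2

set_option autoImplicit false
set_option linter.style.haveILetI false
open scoped commutatorElement
open Cfsg

namespace Cfsg.Agent.S4458

/-- If a finite group has exactly two irreducible character degrees, 1 and m with m ≠ 1, then its commutator subgroup is abelian. -/
theorem result {G : Type*} [Group G] [Finite G] (m : ℕ) (hcd : ∀ χ : Cfsg.IrrCharacter G, Cfsg.charDegree (χ : G → ℂ) = 1 ∨ Cfsg.charDegree (χ : G → ℂ) = m) (hm : ∃ χ : Cfsg.IrrCharacter G, Cfsg.charDegree (χ : G → ℂ) = m) (hm1 : m ≠ 1) : ∀ a ∈ commutator G, ∀ b ∈ commutator G, a * b = b * a := by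
  classical
  have hm' := hm
  obtain ⟨χ₀, hχ₀⟩ := hm'
  have hm0 : 0 < m := by
    rw [← hχ₀]; exact (Cfsg.Agent.Helper79.irr_one_eq χ₀).2
  rcases Cfsg.Agent.S4457.result m hcd hm hm1 with
    ⟨A, hAn, hAc, hAidx⟩ | ⟨p, e, hp, hme, P, A, hPn, hAn, hPp, hAc, hinf, hsup⟩
  · -- abelian normal subgroup of index `m`: the quotient is abelian
    haveI := hAn
    have hlin : ∀ ψ : Cfsg.IrrCharacter (G ⧸ A), Cfsg.charDegree (ψ : G ⧸ A → ℂ) = 1 := by
      intro ψ
      rcases Cfsg.Agent.Helper76.CD2.quotient m hcd A ψ with h1 | h1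
      · exact h1
      · exfalso
        haveI := Fintype.ofFinite (G ⧸ A)
        have h2 := Cfsg.Agent.Helper79.sum_sq_degree_nat (G := G ⧸ A)
        have h3 : (Cfsg.charDegree (ψ : G ⧸ A → ℂ)) ^ 2 ≤
            ∑ χ : Cfsg.IrrCharacter (G ⧸ A), (Cfsg.charDegree (χ : G ⧸ A → ℂ)) ^ 2 :=
          Finset.single_le_sum (f := fun χ : Cfsg.IrrCharacter (G ⧸ A) =>
            (Cfsg.charDegree (χ : G ⧸ A → ℂ)) ^ 2) (fun _ _ => Nat.zero_le _) (Finset.mem_univ ψ)
        rw [h2, h1, ← Subgroup.index_eq_card, hAidx] at h3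
        have : m ≤ 1 := by nlinarith
        omega
    have hQc := Cfsg.Agent.Helper76.CD2.comm_of_all_linear hlin
    have hle : commutator G ≤ A := by
      rw [commutator_def, Subgroup.commutator_le]
      intro g₁ _ g₂ _
      rw [← QuotientGroup.eq_one_iff, commutatorElement_def]
      simp only [QuotientGroup.mk_mul, QuotientGroup.mk_inv]
      rw [hQc (g₁ : G ⧸ A) (g₂ : G ⧸ A)]; group
    intro a ha b hb
    exact hAc a (hle ha) b (hle hb)
  · -- `G = P × A`: nilpotent, hence an M-group
    haveI := hAn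
    haveI := hPn
    haveI : Fact p.Prime := ⟨hp⟩
    have hdec : ∀ g : G, ∃ y ∈ P, ∃ a ∈ A, g = y * a := by
      intro g
      have h1 : g ∈ ((P ⊔ A : Subgroup G) : Set G) := by rw [hsup]; exact Subgroup.mem_top g
      rw [Subgroup.mul_normal P A] at h1
      obtain ⟨y, hy, a, ha, rfl⟩ := Set.mem_mul.1 h1
      exact ⟨y, hy, a, ha, rfl⟩
    have hdis : Disjoint P A := disjoint_iff.2 hinf
    have hAcen : A ≤ Subgroup.center G := by
      intro x hx
      rw [Subgroup.mem_center_iff]
      intro g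
      obtain ⟨y, hy, a, ha, rfl⟩ := hdec g
      have e1 : y * x = x * y := (Subgroup.commute_of_normal_of_disjoint P A hPn hAn hdis y x hy hx).eq
      have e2 : a * x = x * a := hAc a ha x hx
      calc y * a * x = y * (a * x) := by group
        _ = y * (x * a) := by rw [e2]
        _ = (y * x) * a := by group
        _ = (x * y) * a := by rw [e1]
        _ = x * (y * a) := by group
    have hQp : IsPGroup p (G ⧸ A) := by
      intro z
      obtain ⟨g, rfl⟩ := QuotientGroup.mk_surjective z
      obtain ⟨y, hy, a, ha, rfl⟩ := hdec g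
      obtain ⟨k, hk⟩ := hPp ⟨y, hy⟩
      refine ⟨k, ?_⟩
      have hk' : y ^ p ^ k = 1 := by
        have := congrArg Subtype.val hk
        simpa using this
      have h1 : ((y * a : G) : G ⧸ A) = (y : G ⧸ A) := by
        rw [QuotientGroup.mk_mul, (QuotientGroup.eq_one_iff a).2 ha, mul_one]
      rw [h1, ← QuotientGroup.mk_pow, hk', QuotientGroup.mk_one]
    haveI hQnil : Group.IsNilpotent (G ⧸ A) := hQp.isNilpotent
    haveI hGnil : Group.IsNilpotent G :=
      Subgroup.isNilpotent_of_ker_le_center (QuotientGroup.mk' A)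
        (by rw [QuotientGroup.ker_mk']; exact hAcen)
    haveI : Fintype G := Fintype.ofFinite G
    have hd1 : derivedSeries G 1 = commutator G := derivedSeries_one G
    have hlin1 : ∀ χ : Cfsg.IrrCharacter G, Cfsg.charDegree (χ : G → ℂ) = 1 →
        ∀ g ∈ derivedSeries G 1, (χ : G → ℂ) g = (χ : G → ℂ) 1 := by
      intro χ hχ g hg
      rw [hd1] at hg
      exact (Cfsg.Agent.Helper79.mem_irrKer χ g).1
        ((Cfsg.Agent.Helper79.degree_one_iff χ).1 hχ hg)
    have key : ∀ χ : Cfsg.IrrCharacter G, ∀ g ∈ derivedSeries G 2,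
        (χ : G → ℂ) g = (χ : G → ℂ) 1 := by
      intro χ g hg
      rcases hcd χ with h1 | h1
      · exact hlin1 χ h1 g (derivedSeries_antitone G (by norm_num) hg)
      · obtain ⟨H, lam, hχ⟩ := Cfsg.Agent.Helper3.nilpotent_monomial (χ : G → ℂ) χ.2
        have hda : (χ : G → ℂ) 1 = (((m - 1) + 1 : ℕ) : ℂ) := by
          rw [(Cfsg.Agent.Helper79.irr_one_eq χ).1, h1, Nat.sub_add_cancel hm0]
        refine Cfsg.Agent.Helper76.Taketa2.taketa_step 1 (m - 1) ?_ χ hda H lam hχ g hg
        intro a n han hn g' hg'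
        have hdeg : Cfsg.charDegree (a : G → ℂ) = n := by
          have := (Cfsg.Agent.Helper79.irr_one_eq a).1
          rw [han] at this
          exact_mod_cast this.symm
        have : Cfsg.charDegree (a : G → ℂ) = 1 := by
          rcases hcd a with h2 | h2
          · exact h2
          · omega
        exact hlin1 a this g' hg'
    intro a ha b hb
    rw [← hd1] at ha hb
    have hc : ⁅a, b⁆ ∈ derivedSeries G 2 := by
      rw [derivedSeries_succ]
      exact Subgroup.commutator_mem_commutator ha hb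
    have h1 : ⁅a, b⁆ = 1 := by
      by_contra hne
      obtain ⟨ψ, hψ⟩ := Cfsg.Agent.Helper80.exists_irr_ne_of_ne_one _ hne
      exact hψ (key ψ _ hc)
    exact commutatorElement_eq_one_iff_mul_comm.1 h1

end Cfsg.Agent.S4458
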