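import Cfsg.Statements.S0043
import Mathlib

set_option autoImplicit false
open Cfsg

namespace Cfsg.Agent.S0043

/-- A minimal normal subgroup of a finite solvable group is abelian, and for some prime p all of its elements have order dividing p. -/
theorem result {G : Type*} [Group G] [Finite G] [Group.IsSolvable G]
    (N : Subgroup G) [N.Normal] (hN : N ≠ ⊥) (hmin : ∀ M : Subgroup G, M.Normal → M ≤ N → M = ⊥ ∨ M = N) :
    IsMulCommutative N ∧ ∃ p : ℕ, p.Prime ∧ ∀ x ∈ N, x ^ p = 1 := by
  -- N is abelian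
  have hlt : ⁅N, N⁆ < N := Group.IsSolvable.commutator_lt_of_ne_bot hN
  have hnorm : (⁅N, N⁆).Normal := Subgroup.commutator_normal N N
  have hbot : ⁅N, N⁆ = ⊥ := by
    rcases hmin _ hnorm hlt.le with h | h
    · exact h
    · exact absurd h hlt.ne
  have hcomm : ∀ a ∈ N, ∀ b ∈ N, a * b = b * a := by
    intro a ha b hb
    have h1 := Subgroup.commutator_eq_bot_iff_le_centralizer.mp hbot
    have := h1 ha
    rw [Subgroup.mem_centralizer_iff] at this
    exact (this b hb).symm
  have hab : IsMulCommutative N := ⟨⟨fun a b => Subtype.ext (hcomm a.1 a.2 b.1 b.2)⟩⟩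
  refine ⟨hab, ?_⟩
  -- pick a prime dividing |N|
  have hcard : Nat.card N ≠ 1 := by
    intro h
    exact hN (Subgroup.card_eq_one.mp h)
  obtain ⟨p, hp, hpd⟩ := Nat.exists_prime_and_dvd hcard
  haveI : Fact p.Prime := ⟨hp⟩
  refine ⟨p, hp, ?_⟩
  -- M = elements of N of order dividing p
  let M : Subgroup G :=
    { carrier := {x | x ∈ N ∧ x ^ p = 1}
      mul_mem' := by
        rintro a b ⟨ha, hap⟩ ⟨hb, hbp⟩
        refine ⟨N.mul_mem ha hb, ?_⟩
        rw [(show Commute a b from hcomm a ha b hb).mul_pow, hap, hbp, one_mul]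
      one_mem' := ⟨N.one_mem, one_pow _⟩
      inv_mem' := by
        rintro a ⟨ha, hap⟩
        exact ⟨N.inv_mem ha, by rw [inv_pow, hap, inv_one]⟩ }
  have hMn : M.Normal := by
    refine ⟨fun x hx g => ?_⟩
    obtain ⟨hxN, hxp⟩ := hx
    refine ⟨‹N.Normal›.conj_mem x hxN g, ?_⟩
    rw [conj_pow, hxp, mul_one, mul_inv_cancel]
  have hMle : M ≤ N := fun x hx => hx.1
  obtain ⟨y, hy⟩ := exists_prime_orderOf_dvd_card' (G := N) p hpd
  have hMne : M ≠ ⊥ := by
    intro h
    have hyM : (y : G) ∈ M := by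
      refine ⟨y.2, ?_⟩
      have : y ^ p = 1 := by rw [← hy]; exact pow_orderOf_eq_one y
      have := congrArg Subtype.val this
      simpa using this
    rw [h, Subgroup.mem_bot] at hyM
    have : y = 1 := Subtype.ext hyM
    rw [this, orderOf_one] at hy
    exact hp.one_lt.ne hy
  rcases hmin M hMn hMle with h | h
  · exact absurd h hMne
  · intro x hx
    have : x ∈ M := by rw [h]; exact hx
    exact this.2

end Cfsg.Agent.S0043
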