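import Cfsg.Statements.S0039
import Cfsg.Agent.Lib.Helper96.Frobenius

set_option autoImplicit false
open Cfsg

namespace Cfsg.Agent.S0039

open Cfsg.Agent.Helper96
open scoped Pointwise

/-- In a finite group that is a semidirect product of a normal subgroup K by a nontrivial subgroup H, H is a Frobenius complement exactly when each nonidentity element of H acts without nonidentity fixed points on K by conjugation. -/
theorem result {G : Type*} [Group G] [Finite G] (K H : Subgroup G) [K.Normal]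
    (hc : Subgroup.IsComplement' K H) (hK : K ≠ ⊥) (hH : H ≠ ⊥) :
    Cfsg.IsFrobeniusComplement H ↔ ∀ h ∈ H, h ≠ 1 → K ⊓ Subgroup.centralizer {h} = ⊥ := by
  have hdisj : K ⊓ H = ⊥ := disjoint_iff.mp hc.disjoint
  constructor
  · intro hF h hh h1
    rw [eq_bot_iff]
    intro k hk
    obtain ⟨hkK, hkC⟩ := Subgroup.mem_inf.mp hk
    rw [Subgroup.mem_centralizer_iff] at hkC
    have hcomm : h * k = k * h := hkC h (Set.mem_singleton h)
    have hconj : k⁻¹ * h * k = h := by
      rw [mul_assoc, hcomm, ← mul_assoc, inv_mul_cancel, one_mul]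
    have hkH : k ∈ H := frob_mem_of_conj_mem hF hh h1 (by rw [hconj]; exact hh)
    have : k ∈ K ⊓ H := ⟨hkK, hkH⟩
    rwa [hdisj] at this
  · intro hfpf
    refine ⟨hH, ?_, ?_⟩
    · intro htop
      apply hK
      rw [← hdisj, htop, inf_top_eq]
    · intro g hg
      rw [eq_bot_iff]
      intro x hx
      obtain ⟨hxH, hxc⟩ := Subgroup.mem_inf.mp hx
      rw [mem_conj_smul_iff] at hxc
      rw [Subgroup.mem_bot]
      by_contra hx1
      obtain ⟨⟨⟨k, hk⟩, ⟨h', hh'⟩⟩, hkh⟩ := hc.2 g
      simp only at hkh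
      -- k⁻¹ x k ∈ H
      have hy : k⁻¹ * x * k ∈ H := by
        have e : k⁻¹ * x * k = h' * (g⁻¹ * x * g) * h'⁻¹ := by rw [← hkh]; group
        rw [e]
        exact H.mul_mem (H.mul_mem hh' hxc) (H.inv_mem hh')
      have hmemK : x⁻¹ * (k⁻¹ * x * k) ∈ K := by
        have e : x⁻¹ * (k⁻¹ * x * k) = (x⁻¹ * k⁻¹ * x⁻¹⁻¹) * k := by group
        rw [e]
        exact K.mul_mem (‹K.Normal›.conj_mem _ (K.inv_mem hk) _) hk
      have hmemH : x⁻¹ * (k⁻¹ * x * k) ∈ H := H.mul_mem (H.inv_mem hxH) hy
      have h1 : x⁻¹ * (k⁻¹ * x * k) ∈ K ⊓ H := ⟨hmemK, hmemH⟩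
      rw [hdisj, Subgroup.mem_bot] at h1
      have hcomm : x * k = k * x := by
        have : k⁻¹ * x * k = x := by
          have := eq_inv_of_mul_eq_one_right h1
          rwa [inv_inv] at this
        calc x * k = k * (k⁻¹ * x * k) := by group
          _ = k * x := by rw [this]
      have hkC : k ∈ K ⊓ Subgroup.centralizer {x} := by
        refine Subgroup.mem_inf.mpr ⟨hk, ?_⟩
        rw [Subgroup.mem_centralizer_iff]
        intro y hy
        rw [Set.mem_singleton_iff] at hy
        rw [hy]; exact hcomm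
      rw [hfpf x hxH hx1, Subgroup.mem_bot] at hkC
      apply hg
      rw [← hkh, hkC, one_mul]
      exact hh'

end Cfsg.Agent.S0039
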