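import Cfsg.Statements.S0040
import Mathlib
import Cfsg.Agent.S0016
import Cfsg.Agent.S0034
import Cfsg.Agent.S0039
import Cfsg.Agent.S0041
import Cfsg.Agent.Lib.Helper52.CoprimeSylow

set_option autoImplicit false
open Cfsg

namespace Cfsg.Agent.S0040

/-- In a finite cyclic group, an element killed by `p` lies in the subgroup generated by any element of
order `p`. -/
theorem mem_zpowers_of_cyclic {A : Type*} [Group A] [Finite A] [IsCyclic A] {p : ℕ} (hp : 0 < p)
    (x z : A) (hx : x ^ p = 1) (hz : orderOf z = p) : x ∈ Subgroup.zpowers z := by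
  classical
  have : Fintype A := Fintype.ofFinite A
  have h1 := IsCyclic.card_pow_eq_one_le (α := A) hp
  set S : Finset A := Finset.univ.filter (fun a : A => a ^ p = 1) with hS
  set T : Finset A := (Finset.range p).image (fun i => z ^ i) with hT
  have hTS : T ⊆ S := by
    intro a ha
    rw [hT, Finset.mem_image] at ha
    obtain ⟨i, -, rfl⟩ := ha
    rw [hS, Finset.mem_filter]
    refine ⟨Finset.mem_univ _, ?_⟩
    rw [← pow_mul, mul_comm, pow_mul, ← hz, pow_orderOf_eq_one, one_pow]
  have hTc : T.card = p := by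
    rw [hT, Finset.card_image_of_injOn, Finset.card_range]
    intro i hi j hj hij
    simp only [Finset.coe_range, Set.mem_Iio] at hi hj
    rw [← hz] at hi hj
    exact pow_injOn_Iio_orderOf hi hj hij
  have hST : T = S := Finset.eq_of_subset_of_card_le hTS (by rw [hTc]; exact h1)
  have hxS : x ∈ S := by
    rw [hS, Finset.mem_filter]; exact ⟨Finset.mem_univ _, hx⟩
  rw [← hST, hT, Finset.mem_image] at hxS
  obtain ⟨i, -, rfl⟩ := hxS
  exact Subgroup.npow_mem_zpowers z i

/-- In a finite `p`-group all of whose abelian subgroups are cyclic, there is only one subgroup of order `p`. -/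
theorem unique_of_abelian_cyclic {P : Type*} [Group P] [Finite P] {p : ℕ} [Fact p.Prime]
    (hP : IsPGroup p P) (hab : ∀ A : Subgroup P, IsMulCommutative A → IsCyclic A)
    (X Y : Subgroup P) (hX : Nat.card X = p) (hY : Nat.card Y = p) : X = Y := by
  have hp : p.Prime := Fact.out
  have hnt : Nontrivial P := by
    have hXn : Nontrivial X := by
      apply Finite.one_lt_card_iff_nontrivial.mp; rw [hX]; exact hp.one_lt
    obtain ⟨a, b, hab⟩ := hXn
    exact ⟨a, b, fun h => hab (Subtype.ext h)⟩
  have hcn : Nontrivial (Subgroup.center P) := hP.center_nontrivial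
  have hdvd : p ∣ Nat.card (Subgroup.center P) := by
    obtain ⟨n, hn⟩ := IsPGroup.iff_card.mp (hP.to_subgroup (Subgroup.center P))
    rw [hn]
    have hn0 : n ≠ 0 := by
      rintro rfl
      rw [pow_zero] at hn
      have := Finite.one_lt_card_iff_nontrivial.mpr hcn
      omega
    exact dvd_pow_self p hn0
  obtain ⟨z, hz⟩ := exists_prime_orderOf_dvd_card' p hdvd
  have hz' : orderOf (z : P) = p := by rw [Subgroup.orderOf_coe]; exact hz
  have hzc : ∀ g : P, g * (z : P) = (z : P) * g := fun g => (Subgroup.mem_center_iff.mp z.2 g)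
  have key : ∀ X : Subgroup P, Nat.card X = p → X = Subgroup.zpowers (z : P) := by
    intro X hX
    apply Subgroup.eq_of_le_of_card_ge
    · intro x hx
      set A : Subgroup P := Subgroup.closure {x, (z : P)} with hA
      have hcomm : ∀ a ∈ ({x, (z : P)} : Set P), ∀ b ∈ ({x, (z : P)} : Set P), a * b = b * a := by
        intro a ha b hb
        rcases ha with rfl | ha
        · rcases hb with rfl | hb
          · rfl
          · rw [Set.mem_singleton_iff] at hb; subst hb; exact hzc a
        · rw [Set.mem_singleton_iff] at ha; subst ha; exact (hzc b).symm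
      have hAc : IsMulCommutative A := Subgroup.isMulCommutative_closure hcomm
      have hAcy : IsCyclic A := hab A hAc
      have hxA : x ∈ A := Subgroup.subset_closure (by simp)
      have hzA : (z : P) ∈ A := Subgroup.subset_closure (by simp)
      have hxp : x ^ p = 1 := by
        have := pow_card_eq_one' (G := X) (x := ⟨x, hx⟩)
        rw [hX] at this
        exact congrArg Subtype.val this
      have h1 : (⟨x, hxA⟩ : A) ^ p = 1 := Subtype.ext hxp
      have h2 : orderOf (⟨(z : P), hzA⟩ : A) = p := by rw [← hz']; exact Subgroup.orderOf_mk _ _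
      obtain ⟨k, hk⟩ := Subgroup.mem_zpowers_iff.mp (mem_zpowers_of_cyclic hp.pos _ _ h1 h2)
      rw [Subgroup.mem_zpowers_iff]
      exact ⟨k, by simpa using congrArg Subtype.val hk⟩
    · rw [hX, Nat.card_zpowers, hz']
  rw [key X hX, key Y hY]

/-- Abelian subgroups of the complement are cyclic. -/
theorem abelian_cyclic {G : Type*} [Group G] [Finite G] (K H : Subgroup G) [K.Normal]
    (hc : Subgroup.IsComplement' K H) (hK : K ≠ ⊥)
    (hfpf : ∀ h ∈ H, h ≠ 1 → K ⊓ Subgroup.centralizer {h} = ⊥)
    (A : Subgroup G) (hAH : A ≤ H) (hA : IsMulCommutative A) : IsCyclic A := by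
  by_cases hH : H = ⊥
  · have hAb : A = ⊥ := by rw [hH] at hAH; exact le_bot_iff.mp hAH
    subst hAb
    exact isCyclic_of_subsingleton
  have hfrob : Cfsg.IsFrobeniusComplement H := (Cfsg.Agent.S0039.result K H hc hK hH).mpr hfpf
  have hidx := (Cfsg.Agent.S0034.result H hfrob).2
  have h1 : Nat.Coprime (Nat.card K) (Nat.card H) := by
    unfold Nat.Coprime
    rw [← hc.index_eq_card]
    have hm : H.index ≡ 1 [MOD Nat.card H] := hidx
    rw [hm.gcd_eq]
    simp
  have hcop : (Nat.card A).Coprime (Nat.card K) :=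
    Nat.Coprime.coprime_dvd_left (Subgroup.card_dvd_of_le hAH) h1.symm
  have hK1 : Nat.card K ≠ 1 := fun h => hK (Subgroup.card_eq_one.mp h)
  set q := (Nat.card K).minFac with hq
  have hqp : q.Prime := Nat.minFac_prime hK1
  have : Fact q.Prime := ⟨hqp⟩
  have hqd : q ∣ Nat.card K := Nat.minFac_dvd _
  have hAK : A ≤ Subgroup.normalizer (K : Set G) := by
    rw [Subgroup.normalizer_eq_top]; exact le_top
  have hsolv : Group.IsSolvable A := Group.isSolvable_of_comm (fun a b => hA.is_comm.comm a b)
  obtain ⟨Q, hQK, hQc, hAQ⟩ :=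
    Cfsg.Agent.Helper52.exists_invariant_sylow A K hAK hcop (Or.inl hsolv) q
  unfold Cfsg.Agent.Helper52.sylCard at hQc
  have hQp : IsPGroup q Q := IsPGroup.of_card hQc
  have hQnt : Nontrivial Q := by
    apply Finite.one_lt_card_iff_nontrivial.mp
    rw [hQc]
    apply Nat.one_lt_pow _ hqp.one_lt
    have hpos : 0 < (Nat.card K).factorization q :=
      hqp.factorization_pos_of_dvd Nat.card_pos.ne' hqd
    omega
  have hcn : Nontrivial (Subgroup.center Q) := hQp.center_nontrivial
  obtain ⟨c, hc1⟩ : ∃ c : Subgroup.center Q, c ≠ 1 := exists_ne 1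
  set V : Subgroup G := Q ⊓ Subgroup.centralizer (Q : Set G) with hV
  have hVne : V ≠ ⊥ := by
    intro hbot
    have hcV : ((c : Q) : G) ∈ V := by
      refine Subgroup.mem_inf.mpr ⟨(c : Q).2, ?_⟩
      rw [Subgroup.mem_centralizer_iff]
      intro y hy
      have := Subgroup.mem_center_iff.mp c.2 ⟨y, hy⟩
      exact congrArg Subtype.val this
    rw [hbot, Subgroup.mem_bot] at hcV
    apply hc1
    apply Subtype.ext
    apply Subtype.ext
    exact hcV
  have hVc : IsMulCommutative V := by
    refine ⟨⟨fun a b => Subtype.ext ?_⟩⟩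
    have ha := (Subgroup.mem_inf.mp a.2).2
    have hb := (Subgroup.mem_inf.mp b.2).1
    rw [Subgroup.mem_centralizer_iff] at ha
    exact (ha b hb).symm
  have hconj : ∀ a : G, a ∈ Subgroup.normalizer (Q : Set G) → ∀ v ∈ V, a * v * a⁻¹ ∈ V := by
    intro a ha v hv
    have hn := Subgroup.mem_normalizer_iff.mp ha
    have hvQ := (Subgroup.mem_inf.mp hv).1
    have hvC := (Subgroup.mem_inf.mp hv).2
    rw [Subgroup.mem_centralizer_iff] at hvC
    refine Subgroup.mem_inf.mpr ⟨(hn v).mp hvQ, ?_⟩
    rw [Subgroup.mem_centralizer_iff]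
    intro y hy
    have hy' : a⁻¹ * y * a ∈ Q := by
      rw [hn]
      have : a * (a⁻¹ * y * a) * a⁻¹ = y := by group
      rw [this]; exact hy
    have := hvC _ hy'
    calc y * (a * v * a⁻¹) = a * ((a⁻¹ * y * a) * v) * a⁻¹ := by group
      _ = a * (v * (a⁻¹ * y * a)) * a⁻¹ := by rw [this]
      _ = a * v * a⁻¹ * y := by group
  have hAV : A ≤ Subgroup.normalizer (V : Set G) := by
    intro a ha
    rw [Subgroup.mem_normalizer_iff]
    intro v
    constructor
    · exact hconj a (hAQ ha) v
    · intro h
      have := hconj a⁻¹ (Subgroup.inv_mem _ (hAQ ha)) _ h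
      have e : a⁻¹ * (a * v * a⁻¹) * a⁻¹⁻¹ = v := by group
      rwa [e] at this
  have hfpf' : ∀ a ∈ A, a ≠ 1 → V ⊓ Subgroup.centralizer {a} = ⊥ := by
    intro a ha hne
    rw [eq_bot_iff]
    intro x hx
    have hx' : x ∈ K ⊓ Subgroup.centralizer {a} :=
      Subgroup.mem_inf.mpr ⟨hQK (Subgroup.mem_inf.mp (Subgroup.mem_inf.mp hx).1).1,
        (Subgroup.mem_inf.mp hx).2⟩
    rw [hfpf a (hAH ha) hne] at hx'
    exact hx'
  exact Cfsg.Agent.S0041.result A V hVne hAV hfpf' (Or.inl hA)

/-- Sylow subgroups of Frobenius complements: if H complements a nontrivial normal subgroup K and every nonidentity element of H has trivial centraliser in K, then each Sylow subgroup of H is cyclic or isomorphic to a generalized quaternion group. -/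
theorem result {G : Type*} [Group G] [Finite G] (K H : Subgroup G) [K.Normal]
    (hc : Subgroup.IsComplement' K H) (hK : K ≠ ⊥) (hfpf : ∀ h ∈ H, h ≠ 1 → K ⊓ Subgroup.centralizer {h} = ⊥)
    (p : ℕ) [Fact p.Prime] (P : Sylow p H) :
    IsCyclic P ∨ ∃ n : ℕ, Nonempty (P ≃* QuaternionGroup (2 ^ n)) := by
  have hPp : IsPGroup p P := P.isPGroup'
  have hab : ∀ A : Subgroup P, IsMulCommutative A → IsCyclic A := by
    intro A hA
    set f : ↥(P : Subgroup H) →* G := H.subtype.comp (P : Subgroup H).subtype with hf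
    have hfi : Function.Injective f := H.subtype_injective.comp (Subgroup.subtype_injective _)
    have e : A ≃* A.map f := A.equivMapOfInjective f hfi
    have hA0H : A.map f ≤ H := by
      rintro _ ⟨x, -, rfl⟩
      exact (x : H).2
    have hA0c : IsMulCommutative (A.map f) := by
      refine ⟨⟨fun a b => ?_⟩⟩
      apply e.symm.injective
      rw [map_mul, map_mul]
      exact hA.is_comm.comm _ _
    have := abelian_cyclic K H hc hK hfpf (A.map f) hA0H hA0c
    exact e.isCyclic.mpr this
  rcases Cfsg.Agent.S0016.result (G := P) p hPp (unique_of_abelian_cyclic hPp hab) with h | ⟨-, h⟩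
  · left; exact h
  · right; exact h

end Cfsg.Agent.S0040
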