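import Cfsg.Statements.S4341
import Mathlib

set_option autoImplicit false
open Cfsg

namespace Cfsg.Agent.S4341

open Subgroup

section idx
variable {G : Type*} [Group G] [Finite G]

theorem relIndex_ne_zero' (H K : Subgroup G) : H.relIndex K ≠ 0 := by
  rw [Subgroup.relIndex]
  exact Subgroup.index_ne_zero_of_finite

/-- `[A ⊔ K : A] = [K : A ⊓ K]` for `K` normal. -/
theorem relIndex_sup_of_normal (A K : Subgroup G) [K.Normal] :
    A.relIndex (A ⊔ K) = A.relIndex K := by
  -- [A⊔K : A⊓K] computed two ways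
  have h1 : (A ⊓ K).relIndex A * A.relIndex (A ⊔ K) = (A ⊓ K).relIndex (A ⊔ K) :=
    relIndex_mul_relIndex _ _ _ inf_le_left le_sup_left
  have h2 : (A ⊓ K).relIndex K * K.relIndex (A ⊔ K) = (A ⊓ K).relIndex (A ⊔ K) :=
    relIndex_mul_relIndex _ _ _ inf_le_right le_sup_right
  have h3 : K.relIndex (A ⊔ K) = K.relIndex A := relIndex_sup_right A K
  have h4 : (A ⊓ K).relIndex A = K.relIndex A := inf_relIndex_left A K
  have h5 : (A ⊓ K).relIndex K = A.relIndex K := inf_relIndex_right A K
  rw [h3, h5] at h2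
  rw [h4] at h1
  have hne : K.relIndex A ≠ 0 := relIndex_ne_zero' _ _
  have : K.relIndex A * A.relIndex (A ⊔ K) = K.relIndex A * A.relIndex K := by
    rw [h1, mul_comm, h2]
  exact Nat.eq_of_mul_eq_mul_left (Nat.pos_of_ne_zero hne) this

variable {p : ℕ} [Fact p.Prime]

/-- For `K` normal, `P ∩ K` is a Sylow `p`-subgroup of `K`. -/
noncomputable def sylowInf (P : Sylow p G) (K : Subgroup G) [K.Normal] : Sylow p K :=
  (P.isPGroup'.comap_subtype (K := K)).toSylow (by
    change ¬ p ∣ (P : Subgroup G).relIndex K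
    rw [← relIndex_sup_of_normal]
    intro h
    exact P.not_dvd_index (h.trans (relIndex_dvd_index_of_le le_sup_left)))

theorem coe_sylowInf (P : Sylow p G) (K : Subgroup G) [K.Normal] :
    ((sylowInf P K : Sylow p K) : Subgroup K) = (P : Subgroup G).subgroupOf K := rfl

theorem card_sylow_normal (P : Sylow p G) (K : Subgroup G) [K.Normal] :
    Nat.card (Sylow p K) =
      (normalizer (((P : Subgroup G) ⊓ K : Subgroup G) : Set G)).relIndex K := by
  rw [Sylow.card_eq_index_normalizer (sylowInf P K)]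
  have : ((sylowInf P K : Sylow p K) : Subgroup K) = ((P : Subgroup G) ⊓ K).subgroupOf K := by
    rw [coe_sylowInf, inf_subgroupOf_right]
  rw [Subgroup.relIndex, subgroupOf_normalizer_eq inf_le_right]
  congr 2
  rw [← this]
  rfl

theorem card_sylow_of_le (P : Sylow p G) (N : Subgroup G) (hPN : (P : Subgroup G) ≤ N) :
    Nat.card (Sylow p N) = (normalizer ((P : Subgroup G) : Set G)).relIndex N := by
  rw [Sylow.card_eq_index_normalizer (P.subtype hPN)]
  rw [Subgroup.relIndex, subgroupOf_normalizer_eq hPN]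
  rfl

/-- Sylow numbers are unchanged by passing to the quotient by a normal `p`-subgroup. -/
theorem card_sylow_quotient_pGroup (Q : Subgroup G) [Q.Normal] (hQ : IsPGroup p Q) :
    Nat.card (Sylow p (G ⧸ Q)) = Nat.card (Sylow p G) := by
  symm
  have hf : Function.Surjective (QuotientGroup.mk' Q) := QuotientGroup.mk'_surjective _
  apply Nat.card_eq_of_bijective (Sylow.mapSurjective hf)
  refine ⟨?_, Sylow.mapSurjective_surjective hf p⟩
  intro P P' hPP'
  have h2 : (P : Subgroup G).map (QuotientGroup.mk' Q) = (P' : Subgroup G).map (QuotientGroup.mk' Q) := by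
    have := congrArg (fun R : Sylow p (G ⧸ Q) => R.toSubgroup) hPP'
    simpa using this
  have h3 := congrArg (Subgroup.comap (QuotientGroup.mk' Q)) h2
  rw [comap_map_eq, comap_map_eq, QuotientGroup.ker_mk',
    sup_eq_left.mpr (hQ.le_sylow_of_normal P), sup_eq_left.mpr (hQ.le_sylow_of_normal P')] at h3
  exact Sylow.ext h3


end idx

-- The next lemmas (up to `card_sylow_quotient`) follow helper64's `Lib/Helper64/SylowQuot.lean`.
/-- Two Sylow subgroups of `G` contained in a subgroup `L` are conjugate by an element of `L`. -/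
theorem exists_mem_smul_eq_of_le {G : Type*} [Group G] [Finite G] {p : ℕ} [Fact p.Prime]
    (P Q : Sylow p G) (L : Subgroup G) (hP : (P : Subgroup G) ≤ L) (hQ : (Q : Subgroup G) ≤ L) :
    ∃ l ∈ L, l • Q = P := by
  obtain ⟨m, hm⟩ := MulAction.exists_smul_eq L (Q.subtype hQ) (P.subtype hP)
  refine ⟨m.1, m.2, ?_⟩
  have := congrArg (fun R : Sylow p L => (R : Subgroup L).map L.subtype) hm
  apply Sylow.ext
  have e1 : ((m • Q.subtype hQ : Sylow p L) : Subgroup L).map L.subtype
      = (((m : G) • Q : Sylow p G) : Subgroup G) := by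
    rw [Sylow.smul_subtype hQ m, Sylow.coe_subtype, Subgroup.subgroupOf_map_subtype]
    exact inf_of_le_left (Sylow.smul_le hQ m)
  have e2 : ((P.subtype hP : Sylow p L) : Subgroup L).map L.subtype = (P : Subgroup G) := by
    rw [Sylow.coe_subtype, Subgroup.subgroupOf_map_subtype]
    exact inf_of_le_left hP
  rw [← e1, ← e2]
  exact this

theorem mem_smul_sylow_iff {G : Type*} [Group G] {p : ℕ} (P : Sylow p G) (g x : G) :
    x ∈ ((g • P : Sylow p G) : Subgroup G) ↔ g⁻¹ * x * g ∈ (P : Subgroup G) := by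
  rw [Sylow.coe_subgroup_smul, Subgroup.mem_pointwise_smul_iff_inv_smul_mem]
  simp [MulAut.smul_def]

theorem conj_mem_smul_sylow {G : Type*} [Group G] {p : ℕ} (P : Sylow p G) (g a : G)
    (ha : a ∈ (P : Subgroup G)) : g * a * g⁻¹ ∈ ((g • P : Sylow p G) : Subgroup G) := by
  rw [mem_smul_sylow_iff]
  simpa [mul_assoc] using ha

/-- If `g • P ≤ P` then `g` normalizes `P`. -/
theorem mem_normalizer_of_smul_le {G : Type*} [Group G] {p : ℕ} (P : Sylow p G) (g : G)
    (h : ((g • P : Sylow p G) : Subgroup G) ≤ (P : Subgroup G)) :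
    g ∈ normalizer ((P : Subgroup G) : Set G) := by
  refine (Sylow.smul_eq_iff_mem_normalizer (g := g) (P := P)).mp ?_
  exact Sylow.ext ((g • P).3 P.2 h).symm

/-- The normalizer of the image of a Sylow subgroup in a quotient is the image of the normalizer. -/
theorem normalizer_map_mk' {G : Type*} [Group G] [Finite G] {p : ℕ} [Fact p.Prime]
    (P : Sylow p G) (K : Subgroup G) [K.Normal] :
    normalizer (((P : Subgroup G).map (QuotientGroup.mk' K) : Subgroup (G ⧸ K)) : Set (G ⧸ K))
      = (normalizer ((P : Subgroup G) : Set G)).map (QuotientGroup.mk' K) := by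
  apply le_antisymm _ (le_normalizer_map _)
  intro q hq
  obtain ⟨g, rfl⟩ := QuotientGroup.mk'_surjective K q
  set π := QuotientGroup.mk' K with hπ
  have hL : ((g • P : Sylow p G) : Subgroup G) ≤ (P : Subgroup G) ⊔ K := by
    intro y hy
    rw [mem_smul_sylow_iff] at hy
    have h1 : π (g⁻¹ * y * g) ∈ (P : Subgroup G).map π := mem_map_of_mem π hy
    rw [mem_normalizer_iff] at hq
    have h2 := (hq _).mp h1
    have h3 : π g * π (g⁻¹ * y * g) * (π g)⁻¹ = π y := by
      rw [← map_inv, ← map_mul, ← map_mul]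
      congr 1
      group
    rw [h3] at h2
    have : y ∈ ((P : Subgroup G).map π).comap π := h2
    rw [comap_map_eq, QuotientGroup.ker_mk'] at this
    exact this
  obtain ⟨l, hl, hlP⟩ := exists_mem_smul_eq_of_le P (g • P) ((P : Subgroup G) ⊔ K) le_sup_left hL
  rw [← mul_smul] at hlP
  have hlg : l * g ∈ normalizer ((P : Subgroup G) : Set G) :=
    (Sylow.smul_eq_iff_mem_normalizer (g := l * g) (P := P)).mp hlP
  have h1 : π l ∈ (normalizer ((P : Subgroup G) : Set G)).map π := by
    have : π l ∈ ((P : Subgroup G) ⊔ K).map π := mem_map_of_mem π hl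
    rw [Subgroup.map_sup, QuotientGroup.map_mk'_self, sup_bot_eq] at this
    exact map_mono le_normalizer this
  have h2 : π (l * g) ∈ (normalizer ((P : Subgroup G) : Set G)).map π := mem_map_of_mem π hlg
  have h3 : π g = (π l)⁻¹ * π (l * g) := by rw [map_mul]; group
  rw [h3]
  exact mul_mem (inv_mem h1) h2

/-- The number of Sylow `p`-subgroups of `G ⧸ K` is `|G : N_G(P) K|`. -/
theorem card_sylow_quotient {G : Type*} [Group G] [Finite G] {p : ℕ} [Fact p.Prime]
    (P : Sylow p G) (K : Subgroup G) [K.Normal] :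
    Nat.card (Sylow p (G ⧸ K)) = (normalizer ((P : Subgroup G) : Set G) ⊔ K).index := by
  have hπ : Function.Surjective (QuotientGroup.mk' K) := QuotientGroup.mk'_surjective K
  have h1 := Sylow.card_eq_index_normalizer (P.mapSurjective hπ)
  have h2 : normalizer (((P.mapSurjective hπ : Sylow p (G ⧸ K)) : Subgroup (G ⧸ K)) : Set (G ⧸ K))
      = (normalizer ((P : Subgroup G) : Set G)).map (QuotientGroup.mk' K) := by
    rw [Sylow.coe_mapSurjective]
    exact normalizer_map_mk' P K
  have h3 : Nat.card (Sylow p (G ⧸ K)) =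
      ((normalizer ((P : Subgroup G) : Set G)).map (QuotientGroup.mk' K)).index := by
    rw [← h2]; exact h1
  rw [h3, index_map, QuotientGroup.ker_mk',
    MonoidHom.range_eq_top_of_surjective _ hπ, index_top, mul_one]


theorem normalizer_le_normalizer_inf {G : Type*} [Group G] (P K : Subgroup G) [hK : K.Normal] :
    normalizer (P : Set G) ≤ normalizer ((P ⊓ K : Subgroup G) : Set G) := by
  intro g hg
  rw [mem_normalizer_iff] at hg ⊢
  intro h
  rw [mem_inf, mem_inf, hg h, hK.mem_comm_iff (a := g * h) (b := g⁻¹)]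
  simp

/-- Let K be a normal subgroup of a finite group G, p a prime and P a Sylow p-subgroup of G; let N be the normalizer of P ∩ K inside the subgroup PK. Then the number of Sylow p-subgroups of G equals the product of the numbers of Sylow p-subgroups of G/K, of K, and of N/(P ∩ K). (The normality of P ∩ K in N, which always holds, is assumed as a hypothesis so that the quotient can be formed.) -/
theorem result {G : Type*} [Group G] [Finite G]
    (p : ℕ) [Fact p.Prime] (K : Subgroup G) [K.Normal] (P : Sylow p G) (N : Subgroup G)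
    (hN : N = ((P : Subgroup G) ⊔ K) ⊓ Subgroup.normalizer (((P : Subgroup G) ⊓ K : Subgroup G) : Set G))
    [hn : (((P : Subgroup G) ⊓ K).subgroupOf N).Normal] :
    Nat.card (Sylow p G) =
      Nat.card (Sylow p (G ⧸ K)) * Nat.card (Sylow p K) * Nat.card (Sylow p (N ⧸ ((P : Subgroup G) ⊓ K).subgroupOf N)) := by
  set A : Subgroup G := normalizer ((P : Subgroup G) : Set G) with hA
  set C : Subgroup G := normalizer (((P : Subgroup G) ⊓ K : Subgroup G) : Set G) with hC
  set H : Subgroup G := (P : Subgroup G) ⊔ K with hH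
  have hAC : A ≤ C := normalizer_le_normalizer_inf _ _
  have hPA : (P : Subgroup G) ≤ A := le_normalizer
  have hPN : (P : Subgroup G) ≤ N := by
    rw [hN]; exact le_inf le_sup_left (hPA.trans hAC)
  have hNH : N ≤ H := by rw [hN]; exact inf_le_left
  have hKH : K ≤ H := le_sup_right
  -- the four Sylow counts
  have E1 : Nat.card (Sylow p G) = A.index := Sylow.card_eq_index_normalizer P
  have E2 : Nat.card (Sylow p (G ⧸ K)) = (A ⊔ K).index := card_sylow_quotient P K
  have E3 : Nat.card (Sylow p K) = C.relIndex K := card_sylow_normal P K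
  have E4 : Nat.card (Sylow p (N ⧸ ((P : Subgroup G) ⊓ K).subgroupOf N)) = A.relIndex N := by
    have hQ : IsPGroup p (((P : Subgroup G) ⊓ K).subgroupOf N) :=
      (P.isPGroup'.to_inf_left).comap_subtype
    rw [card_sylow_quotient_pGroup (((P : Subgroup G) ⊓ K).subgroupOf N) hQ,
      card_sylow_of_le P N hPN]
  rw [E1, E2, E3, E4]
  -- index calculus
  have I1 : A.relIndex (A ⊔ K) * (A ⊔ K).index = A.index := relIndex_mul_index le_sup_left
  have I2 : A.relIndex (A ⊔ K) = A.relIndex K := relIndex_sup_of_normal A K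
  have I3 : (A ⊓ K).relIndex (C ⊓ K) * (C ⊓ K).relIndex K = (A ⊓ K).relIndex K :=
    relIndex_mul_relIndex _ _ _ (inf_le_inf_right K hAC) inf_le_right
  have I4 : (A ⊓ K).relIndex K = A.relIndex K := inf_relIndex_right A K
  have I5 : (C ⊓ K).relIndex K = C.relIndex K := inf_relIndex_right C K
  -- X = C ⊓ K = K ⊓ N
  have hX : C ⊓ K = K ⊓ N := by
    rw [hN, ← inf_assoc, inf_of_le_left hKH, inf_comm]
  set M : Subgroup G := N ⊓ A with hM
  have hY : A ⊓ K = K ⊓ M := by
    rw [hM, hN, inf_assoc, inf_of_le_right hAC, ← inf_assoc, inf_of_le_left hKH, inf_comm]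
  have hNK : N ⊔ K = H := le_antisymm (sup_le hNH hKH) (sup_le_sup_right hPN K)
  have hMK : M ⊔ K = H :=
    le_antisymm (sup_le (inf_le_left.trans hNH) hKH) (sup_le_sup_right (le_inf hPN hPA) K)
  have J1 : (C ⊓ K).relIndex N = K.relIndex H := by
    rw [hX, inf_relIndex_right, ← hNK, relIndex_sup_right]
  have J2 : (A ⊓ K).relIndex M = K.relIndex H := by
    rw [hY, inf_relIndex_right, ← hMK, relIndex_sup_right]
  have J3 : (A ⊓ K).relIndex (C ⊓ K) * (C ⊓ K).relIndex N = (A ⊓ K).relIndex N :=
    relIndex_mul_relIndex _ _ _ (inf_le_inf_right K hAC) (hX ▸ inf_le_right)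
  have J4 : (A ⊓ K).relIndex M * M.relIndex N = (A ⊓ K).relIndex N :=
    relIndex_mul_relIndex _ _ _ (hY ▸ inf_le_right) inf_le_left
  have J5 : M.relIndex N = A.relIndex N := inf_relIndex_left N A
  have hr : K.relIndex H ≠ 0 := relIndex_ne_zero' _ _
  have J6 : (A ⊓ K).relIndex (C ⊓ K) = A.relIndex N := by
    rw [J1] at J3
    rw [J2, J5] at J4
    have : K.relIndex H * (A ⊓ K).relIndex (C ⊓ K) = K.relIndex H * A.relIndex N := by
      rw [mul_comm, J3, J4]
    exact Nat.eq_of_mul_eq_mul_left (Nat.pos_of_ne_zero hr) this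
  rw [← I1, I2, ← I4, ← I3, I5, J6]
  ring

end Cfsg.Agent.S4341
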