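import Cfsg.Statements.S0649

set_option autoImplicit false
open Cfsg
open scoped commutatorElement

namespace Cfsg.Agent.S0649

/-- In the Glauberman replacement situation, if B does not normalize A then some element of B normalizes N_S(A) without normalizing A. -/
theorem result {S : Type*} [Group S] [Finite S] {p : ℕ} [Fact p.Prime] (hS : IsPGroup p S) (B : Subgroup S) [B.Normal] (hB2 : p = 2 → IsMulCommutative B) (A : Subgroup S) (hA : IsMulCommutative A) (hBA : ⁅B, B⁆ ≤ A) (hnot : ¬ B ≤ Subgroup.normalizer (A : Set S)) : ∃ b ∈ B, b ∈ Subgroup.normalizer ((Subgroup.normalizer (A : Set S)) : Set S) ∧ b ∉ Subgroup.normalizer (A : Set S) := by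
  classical
  have hnil : Group.IsNilpotent S := hS.isNilpotent
  obtain ⟨n, hn⟩ := hnil.nilpotent'
  set N := Subgroup.normalizer (A : Set S) with hN
  have hPn : ¬ (B ⊓ Subgroup.upperCentralSeries S n ≤ N) := by
    rw [hn, inf_top_eq]; exact hnot
  have hex : ∃ i, ¬ (B ⊓ Subgroup.upperCentralSeries S i ≤ N) := ⟨n, hPn⟩
  set i := Nat.find hex with hi
  have hPi : ¬ (B ⊓ Subgroup.upperCentralSeries S i ≤ N) := Nat.find_spec hex
  have hi0 : i ≠ 0 := by
    intro h0
    apply hPi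
    rw [h0, Subgroup.upperCentralSeries_zero, inf_bot_eq]
    exact bot_le
  obtain ⟨j, hj⟩ := Nat.exists_eq_succ_of_ne_zero hi0
  have hPj : B ⊓ Subgroup.upperCentralSeries S j ≤ N := by
    by_contra hcon
    have := Nat.find_min' hex hcon
    omega
  rw [hj] at hPi
  obtain ⟨b, hbmem, hbN⟩ := SetLike.not_le_iff_exists.mp hPi
  obtain ⟨hbB, hbZ⟩ := Subgroup.mem_inf.mp hbmem
  refine ⟨b, hbB, ?_, hbN⟩
  apply Subgroup.mem_normalizer_fintype
  intro x hx
  have hx' : x ∈ N := hx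
  have hcomm : ⁅b, x⁆ ∈ Subgroup.upperCentralSeries S j :=
    Subgroup.mem_upperCentralSeries_succ_iff.mp hbZ x
  have hcommB : ⁅b, x⁆ ∈ B := by
    rw [commutatorElement_def]
    have h1 : x * b⁻¹ * x⁻¹ ∈ B := by
      have := ‹B.Normal›.conj_mem b⁻¹ (B.inv_mem hbB) x
      exact this
    have : b * x * b⁻¹ * x⁻¹ = b * (x * b⁻¹ * x⁻¹) := by group
    rw [this]
    exact B.mul_mem hbB h1
  have hcN : ⁅b, x⁆ ∈ N := hPj (Subgroup.mem_inf.mpr ⟨hcommB, hcomm⟩)
  have : b * x * b⁻¹ = ⁅b, x⁆ * x := by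
    rw [commutatorElement_def]; group
  show b * x * b⁻¹ ∈ N
  rw [this]
  exact N.mul_mem hcN hx'

end Cfsg.Agent.S0649
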