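import Cfsg.Statements.S0650
import Cfsg.Agent.Lib.Helper11.Replacement5

set_option autoImplicit false
open Cfsg

namespace Cfsg.Agent.S0650

open Cfsg.Agent.Helper11.Repl

/-- The Glauberman replacement Theorem: from an abelian A ⊇ [B, B] not normalized by the normal subgroup B and a suitable b ∈ B one gets the abelian subgroup A* = (A ∩ b⁻¹Ab)[A, b] of the same order, containing [B, B], meeting B strictly more than A does but not containing B, mutually normalizing with A, with strictly larger normalizer containing b, and (p odd) of no larger exponent. -/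
theorem result {S : Type*} [Group S] [Finite S] {p : ℕ} [Fact p.Prime] (hS : IsPGroup p S) (B : Subgroup S) [B.Normal] (hB2 : p = 2 → IsMulCommutative B) (A : Subgroup S) (hA : IsMulCommutative A) (hBA : ⁅B, B⁆ ≤ A) (hnot : ¬ B ≤ Subgroup.normalizer (A : Set S)) (b : S) (hb : b ∈ B) (hbN : b ∈ Subgroup.normalizer ((Subgroup.normalizer (A : Set S)) : Set S)) (hbA : b ∉ Subgroup.normalizer (A : Set S)) : Nat.card ↥((A ⊓ A.map (MulAut.conj (b⁻¹)).toMonoidHom) ⊔ Subgroup.closure {g : S | ∃ a ∈ A, g = a * b⁻¹ * a⁻¹ * b}) = Nat.card A ∧ IsMulCommutative ↥((A ⊓ A.map (MulAut.conj (b⁻¹)).toMonoidHom) ⊔ Subgroup.closure {g : S | ∃ a ∈ A, g = a * b⁻¹ * a⁻¹ * b}) ∧ ⁅B, B⁆ ≤ ((A ⊓ A.map (MulAut.conj (b⁻¹)).toMonoidHom) ⊔ Subgroup.closure {g : S | ∃ a ∈ A, g = a * b⁻¹ * a⁻¹ * b}) ∧ A ⊓ B < ((A ⊓ A.map (MulAut.conj (b⁻¹)).toMonoidHom) ⊔ Subgroup.closure {g : S | ∃ a ∈ A, g = a * b⁻¹ * a⁻¹ * b}) ⊓ B ∧ ((A ⊓ A.map (MulAut.conj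 (b⁻¹)).toMonoidHom) ⊔ Subgroup.closure {g : S | ∃ a ∈ A, g = a * b⁻¹ * a⁻¹ * b}) ⊓ B < B ∧ A ≤ Subgroup.normalizer (((A ⊓ A.map (MulAut.conj (b⁻¹)).toMonoidHom) ⊔ Subgroup.closure {g : S | ∃ a ∈ A, g = a * b⁻¹ * a⁻¹ * b} : Subgroup S) : Set S) ∧ ((A ⊓ A.map (MulAut.conj (b⁻¹)).toMonoidHom) ⊔ Subgroup.closure {g : S | ∃ a ∈ A, g = a * b⁻¹ * a⁻¹ * b}) ≤ Subgroup.normalizer (A : Set S) ∧ b ∈ Subgroup.normalizer (((A ⊓ A.map (MulAut.conj (b⁻¹)).toMonoidHom) ⊔ Subgroup.closure {g : S | ∃ a ∈ A, g = a * b⁻¹ * a⁻¹ * b} : Subgroup S) : Set S) ∧ Subgroup.normalizer (A : Set S) < Subgroup.normalizer (((A ⊓ A.map (MulAut.conj (b⁻¹)).toMonoidHom) ⊔ Subgroup.closure {g : S | ∃ a ∈ A, g = a * b⁻¹ * a⁻¹ * b} : Subgroup S) : Set S) ∧ (p ≠ 2 → Monoid.exponent ↥((A ⊓ A.map (MulAut.conj (b⁻¹)).toMonoidHom) ⊔ Subgroup.closure {g : S | ∃ a ∈ A, g = a * b⁻¹ * a⁻¹ * b}) ∣ Monoid.exponent A) := by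
  have hAstar_le_N := Astar_le_N (A := A) (b := b) hbN
  have hcomm := @Astar_comm S _ _ p _ hS A B _ b hB2 hA hBA hb hbN
  have hbNstar := b_mem_normalizer_Astar (A := A) (B := B) hBA hb
  refine ⟨card_Astar hS hB2 hA hBA hb hbN, ?_, ?_, ?_, ?_, ?_, hAstar_le_N, hbNstar, ?_, ?_⟩
  · exact ⟨⟨fun x y => Subtype.ext (hcomm x.2 y.2)⟩⟩
  · exact (B'_le_D hBA).trans le_sup_left
  · -- A ⊓ B < A* ⊓ B
    have hle : A ⊓ B ≤ Astar A b ⊓ B :=
      le_inf ((AB_le_D hBA hb).trans le_sup_left) inf_le_right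
    refine lt_of_le_of_ne hle ?_
    intro heq
    apply hbA
    have h1 : b⁻¹ ∈ Subgroup.normalizer (A : Set S) := by
      apply Subgroup.mem_normalizer_fintype
      intro a ha
      rw [inv_inv]
      by_contra hcon
      have ht : a * b⁻¹ * a⁻¹ * b ∈ Astar A b ⊓ B :=
        Subgroup.mem_inf.mpr ⟨Subgroup.mem_sup_right (t_mem_TT ha), t_mem_B hb a⟩
      have ht' : a * b⁻¹ * a⁻¹ * b ∈ A ⊓ B := by
        have : a * b⁻¹ * a⁻¹ * b ∈ Astar A b ⊓ B := ht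
        rw [← heq] at this
        exact this
      have htA := (Subgroup.mem_inf.mp ht').1
      apply hcon
      have : b⁻¹ * a * b = (a * b⁻¹ * a⁻¹ * b)⁻¹ * a := by group
      rw [this]
      exact A.mul_mem (A.inv_mem htA) ha
    have := Subgroup.inv_mem _ h1
    rwa [inv_inv] at this
  · -- A* ⊓ B < B
    refine lt_of_le_of_ne inf_le_right ?_
    intro heq
    apply hnot
    have : B ≤ Astar A b := by
      rw [← heq]; exact inf_le_left
    exact this.trans hAstar_le_N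
  · exact A_le_normalizer_Astar hA
  · refine lt_of_le_of_ne (N_le_normalizer_Astar hBA hb hbN) ?_
    intro heq
    apply hbA
    have : b ∈ Subgroup.normalizer ((Astar A b : Subgroup S) : Set S) := hbNstar
    rw [← heq] at this
    exact this
  · intro hp2
    apply Monoid.exponent_dvd_of_forall_pow_eq_one
    intro g
    apply Subtype.ext
    have := Astar_pow_exponent hS hB2 hA hBA hb hbN hp2 g.2
    rw [Subgroup.coe_pow]
    exact this

end Cfsg.Agent.S0650
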