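import Cfsg.Statements.S1137
import Mathlib
import Cfsg.Agent.Lib.Helper73.ClassTwoPow

set_option autoImplicit false
set_option linter.style.haveILetI false
open Cfsg
open scoped commutatorElement

namespace Cfsg.Agent.S1137

universe u

/-- working version of the Suzuki hypothesis (`K` only commutative; regularity split) -/
def Suz (P : Type u) [Group P] : Prop :=
  Finite P ∧ IsPGroup 2 P ∧ (∃ x y : P, x * y ≠ y * x) ∧
    (∃ x y : P, x ≠ y ∧ x ≠ 1 ∧ x * x = 1 ∧ y ≠ 1 ∧ y * y = 1) ∧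
    ∃ K : Subgroup (MulAut P), (∀ a ∈ K, ∀ b ∈ K, a * b = b * a) ∧
      (∀ x y : P, x ≠ 1 → x * x = 1 → y ≠ 1 → y * y = 1 → ∃ k ∈ K, k x = y) ∧
      (∀ k ∈ K, ∀ x : P, x ≠ 1 → x * x = 1 → k x = x → k = 1)

theorem suz_of_isSuzuki {P : Type u} [Group P] (hP : Cfsg.IsSuzukiTwoGroup P) : Suz P := by
  obtain ⟨hfin, h2, hna, htwo, K, hKcyc, hreg⟩ := hP
  refine ⟨hfin, h2, hna, htwo, K, ?_, ?_, ?_⟩
  · intro a ha b hb
    obtain ⟨g, hg⟩ := hKcyc.exists_generator
    obtain ⟨m, hm⟩ := Subgroup.mem_zpowers_iff.mp (hg ⟨a, ha⟩)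
    obtain ⟨n, hn⟩ := Subgroup.mem_zpowers_iff.mp (hg ⟨b, hb⟩)
    have h1 : (⟨a, ha⟩ : K) * ⟨b, hb⟩ = ⟨b, hb⟩ * ⟨a, ha⟩ := by
      rw [← hm, ← hn, ← zpow_add, ← zpow_add, add_comm]
    exact congrArg Subtype.val h1
  · intro x y hx1 hx2 hy1 hy2
    obtain ⟨k, hk, -⟩ := hreg x y hx1 hx2 hy1 hy2
    exact ⟨k.1, k.2, hk⟩
  · intro k hk x hx1 hx2 hkx
    obtain ⟨k0, -, huniq⟩ := hreg x x hx1 hx2 hx1 hx2
    have e1 : (⟨k, hk⟩ : K) = k0 := huniq ⟨k, hk⟩ hkx
    have e2 : (1 : K) = k0 := huniq 1 (by simp)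
    have e3 : (⟨k, hk⟩ : K) = 1 := e1.trans e2.symm
    exact congrArg Subtype.val e3

section LemmaB

variable {P : Type u} [Group P]

theorem comm_mul_right (x y z : P) (hc : ⁅x, z⁆ ∈ Subgroup.center P) :
    ⁅x, y * z⁆ = ⁅x, y⁆ * ⁅x, z⁆ := by
  have h1 := Subgroup.mem_center_iff.mp hc y⁻¹
  calc ⁅x, y * z⁆ = x * y * x⁻¹ * (⁅x, z⁆ * y⁻¹) := by
        simp only [commutatorElement_def]; group
    _ = x * y * x⁻¹ * (y⁻¹ * ⁅x, z⁆) := by rw [h1]
    _ = ⁅x, y⁆ * ⁅x, z⁆ := by simp only [commutatorElement_def]; group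

theorem comm_central (x z : P) (hz : z ∈ Subgroup.center P) : ⁅x, z⁆ = 1 := by
  have h := Subgroup.mem_center_iff.mp hz x
  rw [commutatorElement_def, h]; group

theorem lemmaB (K : Subgroup (MulAut P))
    (hKc : ∀ a ∈ K, ∀ b ∈ K, a * b = b * a)
    (hsq : ∀ k ∈ K, ∃ j ∈ K, j * j = k)
    (E : Subgroup P) (hE2 : ∀ x ∈ E, x * x = 1) (hEc : E ≤ Subgroup.center P)
    (hcomm : ∀ x y : P, ⁅x, y⁆ ∈ E)
    (e₀ : P) (he₀1 : e₀ ≠ 1)
    (htr : ∀ x ∈ E, x ≠ 1 → ∃ k ∈ K, k e₀ = x)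
    (hfree : ∀ k ∈ K, k e₀ = e₀ → k = 1)
    (π : P →* P) (hπE : ∀ x, π x ∈ E) (hπK : ∀ k ∈ K, ∀ x, π (k x) = k (π x))
    (hker : ∀ x, π x = 1 → x ∈ Subgroup.center P)
    (hcen : ∀ x ∈ Subgroup.center P, π x = 1)
    (u₀ : P) (hu₀ : π u₀ = e₀) : False := by
  have he₀ : e₀ ∈ E := hu₀ ▸ hπE u₀
  -- inverse in E
  have hEinv : ∀ x ∈ E, x⁻¹ = x := fun x hx => inv_eq_of_mul_eq_one_left (hE2 x hx)
  -- K preserves e₀-orbit inside E
  have hKe : ∀ k ∈ K, k e₀ ∈ E := fun k hk => by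
    rw [← hu₀, ← hπK k hk]; exact hπE _
  -- commutator depends only on π
  have hdep : ∀ y y' : P, π y = π y' → ⁅u₀, y⁆ = ⁅u₀, y'⁆ := by
    intro y y' h
    have h1 : π (y⁻¹ * y') = 1 := by rw [map_mul, map_inv, h, inv_mul_cancel]
    have h2 := hker _ h1
    have h3 : y' = y * (y⁻¹ * y') := by group
    rw [h3, comm_mul_right _ _ _ (by rw [comm_central _ _ h2]; exact Subgroup.one_mem _),
      comm_central _ _ h2, mul_one]
  -- additivity
  have hadd : ∀ k1 ∈ K, ∀ k2 ∈ K, ∀ k3 ∈ K, k3 e₀ = k1 e₀ * k2 e₀ →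
      ⁅u₀, k3 u₀⁆ = ⁅u₀, k1 u₀⁆ * ⁅u₀, k2 u₀⁆ := by
    intro k1 h1 k2 h2 k3 h3 h
    have h4 : π (k3 u₀) = π (k1 u₀ * k2 u₀) := by
      rw [map_mul, hπK k3 h3, hπK k1 h1, hπK k2 h2, hu₀, h]
    rw [hdep _ _ h4, comm_mul_right _ _ _ (hEc (hcomm _ _))]
  -- symmetry rule
  have hsym : ∀ k ∈ K, ⁅u₀, k u₀⁆ = k ⁅u₀, k⁻¹ u₀⁆ := by
    intro k hk
    rw [map_commutatorElement, MulAut.apply_inv_self, ← commutatorElement_inv,
      hEinv _ (hcomm _ _)]
  -- the field identity `m g + k g = g`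
  have hfield : ∀ k ∈ K, ∀ m ∈ K, m e₀ * k e₀ = e₀ → ∀ g ∈ E, m g * k g = g := by
    intro k hk m hm h g hg
    by_cases hg1 : g = 1
    · rw [hg1, map_one, map_one, mul_one]
    · obtain ⟨k', hk', rfl⟩ := htr g hg hg1
      have e1 : m (k' e₀) = k' (m e₀) := by
        rw [← MulAut.mul_apply, ← MulAut.mul_apply, hKc m hm k' hk']
      have e2 : k (k' e₀) = k' (k e₀) := by
        rw [← MulAut.mul_apply, ← MulAut.mul_apply, hKc k hk k' hk']
      rw [e1, e2, ← map_mul, h]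
  have hG1 : ⁅u₀, (1 : MulAut P) u₀⁆ = 1 := by
    rw [MulAut.one_apply, commutatorElement_self]
  -- main computation
  have hmain : ∀ k ∈ K, ⁅u₀, (k * k) u₀⁆ = 1 := by
    intro k hk
    by_cases hke : k e₀ = e₀
    · rw [hfree k hk hke, one_mul]; exact hG1
    · have hkE := hKe k hk
      have ht1 : e₀ * k e₀ ≠ 1 := by
        intro h
        apply hke
        have : k e₀ = e₀⁻¹ := (eq_inv_of_mul_eq_one_right h)
        rw [this, hEinv _ he₀]
      obtain ⟨m, hm, hme⟩ := htr _ (E.mul_mem he₀ hkE) ht1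
      have h1 : m e₀ * k e₀ = e₀ := by
        rw [hme, mul_assoc, hE2 _ hkE, mul_one]
      have hkm : k * m ∈ K := K.mul_mem hk hm
      have hkk : k * k ∈ K := K.mul_mem hk hk
      -- apply k
      have h2 : (k * k) e₀ = k e₀ * (k * m) e₀ := by
        have h := congrArg k h1
        rw [map_mul] at h
        rw [MulAut.mul_apply, MulAut.mul_apply]
        -- k (m e₀) * k (k e₀) = k e₀
        have hA : k (m e₀) ∈ E := by
          rw [← MulAut.mul_apply]; exact hKe _ hkm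
        have : k (k e₀) = k (m e₀) * k e₀ := by
          calc k (k e₀) = k (m e₀) * (k (m e₀) * k (k e₀)) := by
                rw [← mul_assoc, hE2 _ hA, one_mul]
            _ = k (m e₀) * k e₀ := by rw [h]
        rw [this]
        have hc := Subgroup.mem_center_iff.mp (hEc hkE) (k (m e₀))
        exact hc
      -- apply (k*m)⁻¹
      have hw : (k * m)⁻¹ ∈ K := K.inv_mem hkm
      have h3 : (k * m)⁻¹ e₀ = k⁻¹ e₀ * m⁻¹ e₀ := by
        have h : (k * m)⁻¹ (m e₀ * k e₀) = (k * m)⁻¹ e₀ := by rw [h1]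
        rw [map_mul] at h
        have e1 : (k * m)⁻¹ (m e₀) = k⁻¹ e₀ := by
          rw [← MulAut.mul_apply]
          congr 1
          rw [hKc k hk m hm]; group
        have e2 : (k * m)⁻¹ (k e₀) = m⁻¹ e₀ := by
          rw [← MulAut.mul_apply]
          congr 1
          group
        rw [e1, e2] at h
        exact h.symm
      have hki : k⁻¹ ∈ K := K.inv_mem hk
      have hmi : m⁻¹ ∈ K := K.inv_mem hm
      have s1 := hadd k hk (k * m) hkm (k * k) hkk h2
      have s2 := hsym (k * m) hkm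
      have s3 := hadd k⁻¹ hki m⁻¹ hmi (k * m)⁻¹ hw h3
      have s4 : ⁅u₀, m u₀⁆ = ⁅u₀, k u₀⁆ := by
        have := hadd 1 K.one_mem k hk m hm (by rw [MulAut.one_apply]; exact hme)
        rw [this, hG1, one_mul]
      have s5 : ⁅u₀, (k * m) u₀⁆ = ⁅u₀, k u₀⁆ := by
        rw [s2, s3, map_mul]
        have e1 : (k * m) ⁅u₀, k⁻¹ u₀⁆ = m ⁅u₀, k u₀⁆ := by
          rw [hKc k hk m hm, MulAut.mul_apply, ← hsym k hk]
        have e2 : (k * m) ⁅u₀, m⁻¹ u₀⁆ = k ⁅u₀, k u₀⁆ := by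
          rw [MulAut.mul_apply, ← hsym m hm, s4]
        rw [e1, e2]
        exact hfield k hk m hm h1 _ (hcomm _ _)
      rw [s1, s5]
      exact hE2 _ (hcomm _ _)
  have hall : ∀ k ∈ K, ⁅u₀, k u₀⁆ = 1 := by
    intro k hk
    obtain ⟨j, hj, rfl⟩ := hsq k hk
    exact hmain j hj
  have hu : u₀ ∈ Subgroup.center P := by
    rw [Subgroup.mem_center_iff]
    intro y
    have h1 : ⁅u₀, y⁆ = 1 := by
      by_cases hy : π y = 1
      · exact comm_central _ _ (hker y hy)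
      · obtain ⟨k, hk, hke⟩ := htr (π y) (hπE y) hy
        have h2 : π (k u₀) = π y := by rw [hπK k hk, hu₀, hke]
        rw [← hdep _ _ h2]
        exact hall k hk
    have h2 := commutatorElement_eq_one_iff_mul_comm.mp h1
    exact h2.symm
  exact he₀1 (hu₀ ▸ hcen u₀ hu)

end LemmaB

section Basic

variable {P : Type u} [Group P]

theorem center_map (k : MulAut P) (x : P) (hx : x ∈ Subgroup.center P) :
    k x ∈ Subgroup.center P := by
  rw [Subgroup.mem_center_iff]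
  intro g
  have h := Subgroup.mem_center_iff.mp hx (k⁻¹ g)
  calc g * k x = k (k⁻¹ g * x) := by rw [map_mul, MulAut.apply_inv_self]
    _ = k (x * k⁻¹ g) := by rw [h]
    _ = k x * g := by rw [map_mul, MulAut.apply_inv_self]

theorem exists_central_invol [Finite P] [Nontrivial P] (h2 : IsPGroup 2 P) :
    ∃ z ∈ Subgroup.center P, z ≠ 1 ∧ z * z = 1 := by
  haveI : Fact (Nat.Prime 2) := ⟨Nat.prime_two⟩
  haveI := h2.center_nontrivial
  have hdvd : 2 ∣ Nat.card (Subgroup.center P) := by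
    rcases (h2.to_subgroup (Subgroup.center P)).card_eq_or_dvd with h | h
    · exact absurd h (Finite.one_lt_card).ne'
    · exact h
  obtain ⟨z, hz⟩ := exists_prime_orderOf_dvd_card' 2 hdvd
  refine ⟨z.1, z.2, ?_, ?_⟩
  · intro h
    have : z = 1 := Subtype.ext h
    rw [this, orderOf_one] at hz
    omega
  · have h1 : z ^ 2 = 1 := by rw [← hz]; exact pow_orderOf_eq_one z
    have h2 : (z : P) ^ 2 = 1 := by
      have := congrArg (fun t : Subgroup.center P => (t : P)) h1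
      simpa using this
    rwa [pow_two] at h2

/-- the subgroup of elements of order at most two, when these are all central -/
def EE (P : Type u) [Group P] (hc : ∀ x : P, x * x = 1 → x ∈ Subgroup.center P) : Subgroup P where
  carrier := {x | x * x = 1}
  mul_mem' := by
    intro a b ha hb
    have h := Subgroup.mem_center_iff.mp (hc a ha) b
    show (a * b) * (a * b) = 1
    calc (a * b) * (a * b) = a * (b * a) * b := by group
      _ = a * (a * b) * b := by rw [h]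
      _ = (a * a) * (b * b) := by group
      _ = 1 := by rw [ha, hb, one_mul]
  one_mem' := mul_one 1
  inv_mem' := by
    intro a ha
    show a⁻¹ * a⁻¹ = 1
    rw [← mul_inv_rev, ha, inv_one]

theorem mem_EE (hc : ∀ x : P, x * x = 1 → x ∈ Subgroup.center P) (x : P) :
    x ∈ EE P hc ↔ x * x = 1 := Iff.rfl

theorem exists_sq [Finite P] (K : Subgroup (MulAut P))
    (hfree : ∀ k ∈ K, ∀ x : P, x ≠ 1 → x * x = 1 → k x = x → k = 1)
    (hc : ∀ x : P, x * x = 1 → x ∈ Subgroup.center P) (t : P) (ht1 : t ≠ 1) (ht2 : t * t = 1) :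
    ∀ k ∈ K, ∃ j ∈ K, j * j = k := by
  have hnoinv : ∀ j ∈ K, j * j = 1 → j = 1 := by
    intro j hj hjj
    have hjt2 : j t * j t = 1 := by rw [← map_mul, ht2, map_one]
    have hcomm := Subgroup.mem_center_iff.mp (hc t ht2) (j t)
    have hjy : j (t * j t) = t * j t := by
      have e0 : j (j t) = (j * j) t := rfl
      have e1 : j (j t) = t := by rw [e0, hjj, MulAut.one_apply]
      rw [map_mul, e1]
      exact hcomm
    have hyy : (t * j t) * (t * j t) = 1 := by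
      calc (t * j t) * (t * j t) = t * (j t * t) * j t := by group
        _ = t * (t * j t) * j t := by rw [hcomm]
        _ = (t * t) * (j t * j t) := by group
        _ = 1 := by rw [ht2, hjt2, one_mul]
    by_cases hy1 : t * j t = 1
    · have h1 : j t = t⁻¹ := eq_inv_of_mul_eq_one_right hy1
      have h2 : j t = t := by rw [h1]; exact inv_eq_of_mul_eq_one_left ht2
      exact hfree j hj t ht1 ht2 h2
    · exact hfree j hj _ hy1 hyy hjy
  intro k hk
  haveI : Finite (MulAut P) :=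
    Finite.of_injective (fun f : MulAut P => (f : P → P)) DFunLike.coe_injective
  have hn : 0 < orderOf k := orderOf_pos k
  have hodd : ¬ 2 ∣ orderOf k := by
    rintro ⟨m, hm⟩
    have hj : (k ^ m) * (k ^ m) = 1 := by
      rw [← pow_add, ← two_mul, ← hm, pow_orderOf_eq_one]
    have h0 := hnoinv (k ^ m) (K.pow_mem hk m) hj
    have h1 := orderOf_dvd_of_pow_eq_one h0
    rw [hm] at h1 hn
    have h3 : 2 * m ≤ m := Nat.le_of_dvd (by omega) h1
    omega
  refine ⟨k ^ ((orderOf k + 1) / 2), K.pow_mem hk _, ?_⟩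
  rw [← pow_add]
  have h4 : (orderOf k + 1) / 2 + (orderOf k + 1) / 2 = orderOf k + 1 := by omega
  rw [h4, pow_succ, pow_orderOf_eq_one, one_mul]

theorem sq_inv_mul (x y : P) (hx : x ∈ Subgroup.center P) :
    (x⁻¹ * y) * (x⁻¹ * y) = (x * x)⁻¹ * (y * y) := by
  have h := Subgroup.mem_center_iff.mp ((Subgroup.center P).inv_mem hx) y
  calc (x⁻¹ * y) * (x⁻¹ * y) = x⁻¹ * (y * x⁻¹) * y := by group
    _ = x⁻¹ * (x⁻¹ * y) * y := by rw [h]
    _ = (x * x)⁻¹ * (y * y) := by group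

end Basic

section Main

theorem invol_central {P : Type u} [Group P] (hS : Suz P) :
    ∀ x : P, x * x = 1 → x ∈ Subgroup.center P := by
  obtain ⟨hfin, h2, -, ⟨i₁, i₂, -, hi₁1, -, -, -⟩, K, -, htr, -⟩ := hS
  haveI := hfin
  haveI : Nontrivial P := ⟨⟨i₁, 1, hi₁1⟩⟩
  obtain ⟨z₀, hz₀c, hz₀1, hz₀2⟩ := exists_central_invol h2
  intro x hx
  by_cases hx1 : x = 1
  · rw [hx1]; exact Subgroup.one_mem _
  · obtain ⟨k, hk, hkx⟩ := htr z₀ x hz₀1 hz₀2 hx1 hx
    rw [← hkx]; exact center_map k z₀ hz₀c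

theorem exists_quot_aut {P : Type u} [Group P] (E : Subgroup P) [E.Normal] (k : MulAut P)
    (hk : ∀ x, x ∈ E ↔ k x ∈ E) :
    ∃ f : MulAut (P ⧸ E), ∀ x : P, f (x : P ⧸ E) = ((k x : P) : P ⧸ E) := by
  exact ⟨QuotientGroup.congr E E k (by
    ext y
    rw [Subgroup.mem_map]
    constructor
    · rintro ⟨x, hx, rfl⟩
      exact (hk x).mp hx
    · intro hy
      refine ⟨k⁻¹ y, ?_, MulAut.apply_inv_self P k y⟩
      rw [hk, MulAut.apply_inv_self]; exact hy), fun x => rfl⟩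

/-- the automorphisms of `P ⧸ E` induced by `K` -/
def Kbar {P : Type u} [Group P] (E : Subgroup P) [E.Normal] (K : Subgroup (MulAut P)) :
    Subgroup (MulAut (P ⧸ E)) where
  carrier := {f | ∃ k ∈ K, ∀ x : P, f (x : P ⧸ E) = ((k x : P) : P ⧸ E)}
  mul_mem' := by
    rintro f₁ f₂ ⟨k₁, hk₁, h₁⟩ ⟨k₂, hk₂, h₂⟩
    show ∃ k ∈ K, ∀ x : P, (f₁ * f₂) (x : P ⧸ E) = ((k x : P) : P ⧸ E)
    refine ⟨k₁ * k₂, K.mul_mem hk₁ hk₂, fun x => ?_⟩
    rw [MulAut.mul_apply, h₂, h₁, MulAut.mul_apply]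
  one_mem' := by
    show ∃ k ∈ K, ∀ x : P, (1 : MulAut (P ⧸ E)) (x : P ⧸ E) = ((k x : P) : P ⧸ E)
    exact ⟨1, K.one_mem, fun x => rfl⟩
  inv_mem' := by
    rintro f ⟨k, hk, h⟩
    show ∃ k ∈ K, ∀ x : P, f⁻¹ (x : P ⧸ E) = ((k x : P) : P ⧸ E)
    refine ⟨k⁻¹, K.inv_mem hk, fun x => ?_⟩
    have h1 := h (k⁻¹ x)
    rw [MulAut.apply_inv_self] at h1
    rw [← h1, MulAut.inv_apply_self]

theorem mem_Kbar {P : Type u} [Group P] (E : Subgroup P) [E.Normal] (K : Subgroup (MulAut P))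
    (f : MulAut (P ⧸ E)) :
    f ∈ Kbar E K ↔ ∃ k ∈ K, ∀ x : P, f (x : P ⧸ E) = ((k x : P) : P ⧸ E) := Iff.rfl

theorem suz_quot {P : Type u} [Group P] [Finite P] (h2 : IsPGroup 2 P)
    (K : Subgroup (MulAut P))
    (hKc : ∀ a ∈ K, ∀ b ∈ K, a * b = b * a)
    (htr : ∀ x y : P, x ≠ 1 → x * x = 1 → y ≠ 1 → y * y = 1 → ∃ k ∈ K, k x = y)
    (hfree : ∀ k ∈ K, ∀ x : P, x ≠ 1 → x * x = 1 → k x = x → k = 1)
    (E : Subgroup P) [E.Normal] (hEmem : ∀ x, x ∈ E ↔ x * x = 1)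
    (h4 : ∀ x : P, (x * x) * (x * x) = 1 → x ∈ Subgroup.center P)
    (hna : ∃ X Y : P ⧸ E, X * Y ≠ Y * X)
    (w₁ w₂ : P) (hw₁ : w₁ * w₁ ≠ 1) (hw₁' : (w₁ * w₁) * (w₁ * w₁) = 1)
    (hw₂ : w₂ * w₂ ≠ 1) (hw₂' : (w₂ * w₂) * (w₂ * w₂) = 1) (hw12 : w₁ * w₁ ≠ w₂ * w₂) :
    Suz (P ⧸ E) := by
  have hKE : ∀ k : MulAut P, ∀ x, x ∈ E ↔ k x ∈ E := by
    intro k x
    rw [hEmem, hEmem, ← map_mul]
    constructor
    · intro h; rw [h, map_one]
    · intro h
      have h' : k (x * x) = k 1 := by rw [h, map_one]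
      exact k.injective h'
  have hkey : ∀ x y : P, (x * x) * (x * x) = 1 →
      ((x : P ⧸ E) = (y : P ⧸ E) ↔ x * x = y * y) := by
    intro x y hx
    rw [QuotientGroup.eq, hEmem, sq_inv_mul x y (h4 x hx), inv_mul_eq_one]
  have hinv : ∀ x : P, (x : P ⧸ E) ≠ 1 → (x : P ⧸ E) * (x : P ⧸ E) = 1 →
      x * x ≠ 1 ∧ (x * x) * (x * x) = 1 := by
    intro x h1 h2'
    constructor
    · intro h; exact h1 ((QuotientGroup.eq_one_iff x).mpr ((hEmem x).mpr h))
    · have h3 : ((x * x : P) : P ⧸ E) = 1 := by rw [QuotientGroup.mk_mul]; exact h2'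
      exact (hEmem _).mp ((QuotientGroup.eq_one_iff _).mp h3)
  refine ⟨inferInstance, h2.to_quotient E, hna, ?_, Kbar E K, ?_, ?_, ?_⟩
  · refine ⟨(w₁ : P ⧸ E), (w₂ : P ⧸ E), ?_, ?_, ?_, ?_, ?_⟩
    · exact fun h => hw12 ((hkey w₁ w₂ hw₁').mp h)
    · exact fun h => hw₁ ((hEmem _).mp ((QuotientGroup.eq_one_iff _).mp h))
    · rw [← QuotientGroup.mk_mul, QuotientGroup.eq_one_iff, hEmem]; exact hw₁'
    · exact fun h => hw₂ ((hEmem _).mp ((QuotientGroup.eq_one_iff _).mp h))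
    · rw [← QuotientGroup.mk_mul, QuotientGroup.eq_one_iff, hEmem]; exact hw₂'
  · intro f₁ hf₁ f₂ hf₂
    obtain ⟨k₁, hk₁, h₁⟩ := (mem_Kbar E K f₁).mp hf₁
    obtain ⟨k₂, hk₂, h₂⟩ := (mem_Kbar E K f₂).mp hf₂
    refine MulEquiv.ext (fun X => ?_)
    obtain ⟨x, rfl⟩ := QuotientGroup.mk_surjective X
    have e1 : (f₁ * f₂) (x : P ⧸ E) = (((k₁ * k₂) x : P) : P ⧸ E) := by
      rw [MulAut.mul_apply, h₂, h₁, MulAut.mul_apply]
    have e2 : (f₂ * f₁) (x : P ⧸ E) = (((k₂ * k₁) x : P) : P ⧸ E) := by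
      rw [MulAut.mul_apply, h₁, h₂, MulAut.mul_apply]
    rw [e1, e2, hKc k₁ hk₁ k₂ hk₂]
  · intro X Y hX1 hX2 hY1 hY2
    obtain ⟨x, rfl⟩ := QuotientGroup.mk_surjective X
    obtain ⟨y, rfl⟩ := QuotientGroup.mk_surjective Y
    obtain ⟨hx1, hx2⟩ := hinv x hX1 hX2
    obtain ⟨hy1, hy2⟩ := hinv y hY1 hY2
    obtain ⟨k, hk, hkxy⟩ := htr (x * x) (y * y) hx1 hx2 hy1 hy2
    obtain ⟨f, hf⟩ := exists_quot_aut E k (hKE k)
    refine ⟨f, (mem_Kbar E K f).mpr ⟨k, hk, hf⟩, ?_⟩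
    have h44 : (k x * k x) * (k x * k x) = 1 := by
      rw [← map_mul, ← map_mul, hx2, map_one]
    rw [hf, hkey (k x) y h44, ← map_mul]
    exact hkxy
  · intro f hfK X hX1 hX2 hfX
    obtain ⟨k, hk, hf⟩ := (mem_Kbar E K f).mp hfK
    obtain ⟨x, rfl⟩ := QuotientGroup.mk_surjective X
    obtain ⟨hx1, hx2⟩ := hinv x hX1 hX2
    have h44 : (k x * k x) * (k x * k x) = 1 := by
      rw [← map_mul, ← map_mul, hx2, map_one]
    rw [hf, hkey (k x) x h44, ← map_mul] at hfX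
    have hk1 : k = 1 := hfree k hk (x * x) hx1 hx2 hfX
    refine MulEquiv.ext (fun Y => ?_)
    obtain ⟨y, rfl⟩ := QuotientGroup.mk_surjective Y
    simp only [hf, hk1, MulAut.one_apply]

theorem main_aux : ∀ n : ℕ, ∀ (P : Type u) [Group P], Suz P → Nat.card P = n →
    ∀ z ∈ Subgroup.center P, z * z = 1 := by
  intro n
  induction n using Nat.strong_induction_on with
  | _ n ih =>
    intro P _ hS hcard
    by_contra hcon
    push Not at hcon
    obtain ⟨z₁, hz₁c, hz₁⟩ := hcon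
    have hc := invol_central hS
    obtain ⟨hfin, h2, ⟨a, b, hab⟩, ⟨i₁, i₂, hi12, hi₁1, hi₁2, hi₂1, hi₂2⟩, K, hKc, htr, hfree⟩ :=
      hS
    haveI := hfin
    haveI : Fact (Nat.Prime 2) := ⟨Nat.prime_two⟩
    obtain ⟨E, hEmem⟩ : ∃ E : Subgroup P, ∀ x, x ∈ E ↔ x * x = 1 :=
      ⟨EE P hc, fun x => Iff.rfl⟩
    have hEc : E ≤ Subgroup.center P := fun x hx => hc x ((hEmem x).mp hx)
    haveI hEn : E.Normal := ⟨fun x hx g => by
      have h := Subgroup.mem_center_iff.mp (hEc hx) g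
      have h' : g * x * g⁻¹ = x := by rw [h]; group
      rw [h']; exact hx⟩
    have hsq := exists_sq K hfree hc i₁ hi₁1 hi₁2
    have hE2 : ∀ x ∈ E, x * x = 1 := fun x hx => (hEmem x).mp hx
    have ha : a ∉ Subgroup.center P := by
      intro h
      exact hab ((Subgroup.mem_center_iff.mp h b).symm)
    -- central element of maximal order
    have hord : ∀ g : P, ∃ k, orderOf g = 2 ^ k := IsPGroup.iff_orderOf.mp h2
    obtain ⟨⟨zs, hzsc⟩, hmax⟩ :=
      Finite.exists_max (fun w : Subgroup.center P => orderOf (w : P))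
    obtain ⟨e, he⟩ := hord zs
    have hexp : ∀ w ∈ Subgroup.center P, w ^ (2 ^ e) = 1 := by
      intro w hw
      obtain ⟨j, hj⟩ := hord w
      have h1 : orderOf w ≤ orderOf zs := hmax ⟨w, hw⟩
      rw [hj, he] at h1
      have h2' : j ≤ e := (Nat.pow_le_pow_iff_right (by norm_num)).mp h1
      have h3 : orderOf w ∣ 2 ^ e := by rw [hj]; exact pow_dvd_pow 2 h2'
      exact orderOf_dvd_iff_pow_eq_one.mp h3
    have he2 : 2 ≤ e := by
      by_contra hlt
      have h1 : z₁ ^ (2 ^ e) = 1 := hexp z₁ hz₁c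
      have hd : 2 ^ e ∣ 2 := by
        have h := pow_dvd_pow 2 (show e ≤ 1 by omega)
        rwa [pow_one] at h
      obtain ⟨c, hc'⟩ := hd
      apply hz₁
      rw [← pow_two, hc', pow_mul, h1, one_pow]
    have hzs_pow : zs ^ (2 ^ e) = 1 := by rw [← he]; exact pow_orderOf_eq_one zs
    obtain ⟨ts, hts⟩ : ∃ ts : P, ts = zs ^ (2 ^ (e - 1)) := ⟨_, rfl⟩
    have hts1 : ts ≠ 1 := by
      rw [hts]
      apply pow_ne_one_of_lt_orderOf (by positivity)
      rw [he]
      exact Nat.pow_lt_pow_right (by norm_num) (by omega)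
    have hts2 : ts * ts = 1 := by
      rw [hts, ← pow_add, ← two_mul, ← pow_succ']
      have h : e - 1 + 1 = e := by omega
      rw [h, hzs_pow]
    have hzt : ∀ i j, i + j + 1 = e → (zs ^ (2 ^ i)) ^ (2 ^ j) = ts := by
      intro i j hij
      have h : i + j = e - 1 := by omega
      rw [hts, ← pow_mul, ← pow_add, h]
    -- elements of order at most `2 ^ e` are central
    have hS5 : ∀ j, j ≤ e → ∀ x : P, x ^ (2 ^ j) = 1 → x ∈ Subgroup.center P := by
      intro j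
      induction j with
      | zero =>
        intro _ x hx
        rw [pow_zero, pow_one] at hx
        rw [hx]; exact Subgroup.one_mem _
      | succ j ihj =>
        intro hj x hx
        have hj' : j ≤ e := by omega
        by_cases hy1 : x ^ (2 ^ j) = 1
        · exact ihj hj' x hy1
        · have hy2 : x ^ (2 ^ j) * x ^ (2 ^ j) = 1 := by
            rw [← pow_add, ← two_mul, ← pow_succ', hx]
          obtain ⟨k, hk, hky⟩ := htr ts _ hts1 hts2 hy1 hy2
          have hzc : k (zs ^ (2 ^ (e - j - 1))) ∈ Subgroup.center P :=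
            center_map k _ (Subgroup.pow_mem _ hzsc _)
          have hzcp : (k (zs ^ (2 ^ (e - j - 1)))) ^ (2 ^ j) = x ^ (2 ^ j) := by
            rw [← map_pow, hzt (e - j - 1) j (by omega), hky]
          have hcm : Commute x (k (zs ^ (2 ^ (e - j - 1))))⁻¹ :=
            Subgroup.mem_center_iff.mp ((Subgroup.center P).inv_mem hzc) x
          have h1 : (x * (k (zs ^ (2 ^ (e - j - 1))))⁻¹) ^ (2 ^ j) = 1 := by
            rw [hcm.mul_pow, inv_pow, hzcp, mul_inv_cancel]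
          have h3 := (Subgroup.center P).mul_mem (ihj hj' _ h1) hzc
          rwa [inv_mul_cancel_right] at h3
    have h4 : ∀ x : P, (x * x) * (x * x) = 1 → x ∈ Subgroup.center P := by
      intro x hx
      apply hS5 2 he2 x
      rw [pow_two (2 : ℕ), pow_mul, pow_two, pow_two, hx]
    have hroot : ∀ t : P, t ≠ 1 → t * t = 1 → ∃ w : P, w * w = t := by
      intro t ht1 ht2
      obtain ⟨k, hk, hkt⟩ := htr ts t hts1 hts2 ht1 ht2
      refine ⟨k (zs ^ (2 ^ (e - 2))), ?_⟩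
      have h : e - 2 + 1 = e - 1 := by omega
      rw [← map_mul, ← pow_add, ← two_mul, ← pow_succ', h, ← hts, hkt]
    by_cases hQ : ∀ X Y : P ⧸ E, X * Y = Y * X
    · -- the quotient is abelian
      have hcomm : ∀ x y : P, ⁅x, y⁆ ∈ E := by
        intro x y
        have h1 : (QuotientGroup.mk' E) ⁅x, y⁆ = 1 := by
          rw [map_commutatorElement]
          exact commutatorElement_eq_one_iff_mul_comm.mpr (hQ _ _)
        exact (QuotientGroup.eq_one_iff _).mp h1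
      have hsqc : ∀ x : P, x * x ∈ Subgroup.center P := by
        intro x
        rw [Subgroup.mem_center_iff]
        intro g
        have hcE := hcomm x g
        have hcc := Subgroup.mem_center_iff.mp (hEc hcE) x⁻¹
        have hcx : ⁅x, g⁆ * x⁻¹ = x⁻¹ * ⁅x, g⁆ := hcc.symm
        have h2' : ⁅x * x, g⁆ = 1 := by
          calc ⁅x * x, g⁆ = x * (⁅x, g⁆ * x⁻¹) * ⁅x, g⁆ := by
                simp only [commutatorElement_def]; group
            _ = x * (x⁻¹ * ⁅x, g⁆) * ⁅x, g⁆ := by rw [hcx]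
            _ = ⁅x, g⁆ * ⁅x, g⁆ := by group
            _ = 1 := hE2 _ hcE
        exact (commutatorElement_eq_one_iff_mul_comm.mp h2').symm
      have hpowmul : ∀ x y : P, (x * y) ^ (2 ^ e) = x ^ (2 ^ e) * y ^ (2 ^ e) := by
        intro x y
        have hdE : y⁻¹ * x⁻¹ * y * x ∈ E := by
          have h := hcomm y⁻¹ x⁻¹
          rwa [commutatorElement_def, inv_inv, inv_inv] at h
        have hd : ∀ z : P, Commute (y⁻¹ * x⁻¹ * y * x) z := fun z =>
          (Subgroup.mem_center_iff.mp (hEc hdE) z).symm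
        have h2e : 2 ^ (e - 1) = 2 * 2 ^ (e - 2) := by
          rw [← pow_succ']; congr 1; omega
        refine Helper73.mul_pow_two_pow_class_two x y hd e (by omega) ?_
        rw [h2e, pow_mul, pow_two, hE2 _ hdE, one_pow]
      obtain ⟨π, hπ⟩ : ∃ π : P →* P, ∀ x, π x = x ^ (2 ^ e) :=
        ⟨{ toFun := fun x => x ^ (2 ^ e), map_one' := one_pow _, map_mul' := hpowmul },
          fun x => rfl⟩
      have hπE : ∀ x, π x ∈ E := by
        intro x
        rw [hπ, hEmem, ← pow_add, ← two_mul, pow_mul, pow_two]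
        exact hexp _ (hsqc x)
      have he₀1 : π a ≠ 1 := by
        intro h
        rw [hπ] at h
        exact ha (hS5 e le_rfl a h)
      have he₀2 : π a * π a = 1 := hE2 _ (hπE a)
      exact lemmaB K hKc hsq E hE2 hEc hcomm (π a) he₀1
        (fun x hx hx1 => htr (π a) x he₀1 he₀2 hx1 (hE2 x hx))
        (fun k hk hke => hfree k hk (π a) he₀1 he₀2 hke)
        π hπE
        (fun k hk x => by rw [hπ, hπ, map_pow])
        (fun x hx => by rw [hπ] at hx; exact hS5 e le_rfl x hx)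
        (fun x hx => by rw [hπ]; exact hexp x hx)
        a rfl
    · -- the quotient is a smaller Suzuki group
      push Not at hQ
      obtain ⟨w₁, hw₁⟩ := hroot i₁ hi₁1 hi₁2
      obtain ⟨w₂, hw₂⟩ := hroot i₂ hi₂1 hi₂2
      have hSQ : Suz (P ⧸ E) := suz_quot h2 K hKc htr hfree E hEmem h4 hQ w₁ w₂
        (by rw [hw₁]; exact hi₁1) (by rw [hw₁]; exact hi₁2)
        (by rw [hw₂]; exact hi₂1) (by rw [hw₂]; exact hi₂2) (by rw [hw₁, hw₂]; exact hi12)
      have hlt : Nat.card (P ⧸ E) < n := by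
        rw [← hcard, Subgroup.card_eq_card_quotient_mul_card_subgroup E]
        have h1 : 1 < Nat.card E := by
          haveI : Nontrivial E :=
            ⟨⟨⟨i₁, (hEmem i₁).mpr hi₁2⟩, 1, fun h => hi₁1 (congrArg Subtype.val h)⟩⟩
          exact Finite.one_lt_card
        exact lt_mul_of_one_lt_right Nat.card_pos h1
      have hIH := ih _ hlt (P ⧸ E) hSQ rfl
      haveI : Nontrivial (P ⧸ Subgroup.center P) :=
        ⟨⟨(a : P ⧸ Subgroup.center P), 1, fun h => ha ((QuotientGroup.eq_one_iff a).mp h)⟩⟩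
      obtain ⟨X, hXc, hX1, hX2⟩ := exists_central_invol (h2.to_quotient (Subgroup.center P))
      obtain ⟨x, rfl⟩ := QuotientGroup.mk_surjective X
      have hxZ : x ∉ Subgroup.center P := fun h => hX1 ((QuotientGroup.eq_one_iff x).mpr h)
      have hxxZ : x * x ∈ Subgroup.center P := by
        rw [← QuotientGroup.eq_one_iff, QuotientGroup.mk_mul]; exact hX2
      have hcZ : ∀ g : P, ⁅x, g⁆ ∈ Subgroup.center P := by
        intro g
        have h1 : (QuotientGroup.mk' (Subgroup.center P)) ⁅x, g⁆ = 1 := by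
          rw [map_commutatorElement]
          apply commutatorElement_eq_one_iff_mul_comm.mpr
          exact (Subgroup.mem_center_iff.mp hXc _).symm
        exact (QuotientGroup.eq_one_iff _).mp h1
      have hcE : ∀ g : P, ⁅x, g⁆ ∈ E := by
        intro g
        rw [hEmem]
        have hcc := Subgroup.mem_center_iff.mp (hcZ g) x⁻¹
        have h1 : ⁅x * x, g⁆ = 1 := by
          rw [commutatorElement_eq_one_iff_mul_comm]
          exact (Subgroup.mem_center_iff.mp hxxZ g).symm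
        have hcx : ⁅x, g⁆ * x⁻¹ = x⁻¹ * ⁅x, g⁆ := hcc.symm
        calc ⁅x, g⁆ * ⁅x, g⁆ = x * (x⁻¹ * ⁅x, g⁆) * ⁅x, g⁆ := by group
          _ = x * (⁅x, g⁆ * x⁻¹) * ⁅x, g⁆ := by rw [hcx]
          _ = ⁅x * x, g⁆ := by simp only [commutatorElement_def]; group
          _ = 1 := h1
      have hxc : (x : P ⧸ E) ∈ Subgroup.center (P ⧸ E) := by
        rw [Subgroup.mem_center_iff]
        intro Y
        obtain ⟨g, rfl⟩ := QuotientGroup.mk_surjective Y
        have h1 : (QuotientGroup.mk' E) ⁅x, g⁆ = 1 := (QuotientGroup.eq_one_iff _).mpr (hcE g)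
        rw [map_commutatorElement, commutatorElement_eq_one_iff_mul_comm] at h1
        exact h1.symm
      have h5 := hIH _ hxc
      have h6 : x * x ∈ E := by
        rw [← QuotientGroup.eq_one_iff, QuotientGroup.mk_mul]; exact h5
      exact hxZ (h4 x ((hEmem _).mp h6))

end Main

theorem result {P : Type*} [Group P] (hP : Cfsg.IsSuzukiTwoGroup P) :
    (∀ x : P, (x ≠ 1 ∧ x * x = 1) ↔ (x ∈ Subgroup.center P ∧ x ≠ 1)) ∧
      ∀ z ∈ Subgroup.center P, z * z = 1 := by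
  have hS := suz_of_isSuzuki hP
  have hz := main_aux _ P hS rfl
  have hc := invol_central hS
  exact ⟨fun x => ⟨fun h => ⟨hc x h.2, h.1⟩, fun h => ⟨h.2, hz x h.1⟩⟩, hz⟩

end Cfsg.Agent.S1137
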