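import Cfsg.Statements.S0603
import Cfsg.Agent.Lib.Helper10.ElemAb

set_option autoImplicit false
open Cfsg

namespace Cfsg.Agent.S0603

open Cfsg.Agent.Helper10

/-- The Thompson subgroup of any subgroup containing J(G) is J(G) itself. -/
theorem result {G : Type*} [Group G] [Finite G] {p : ℕ} [Fact p.Prime] (U : Subgroup G) (hU : Cfsg.thompsonSubgroup p G ≤ U) : Cfsg.thompsonSubgroupOf p U = Cfsg.thompsonSubgroup p G := by
  obtain ⟨A₀, hA₀⟩ := maxElementaryAbelianSubgroups_nonempty p G
  have hA₀U : A₀ ≤ U := (le_thompsonSubgroup hA₀).trans hU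
  apply le_antisymm
  · unfold thompsonSubgroupOf
    rw [Subgroup.map_le_iff_le_comap]
    apply sSup_le
    intro B hB
    rw [← Subgroup.map_le_iff_le_comap]
    exact le_thompsonSubgroup (map_subtype_mem_maxElementaryAbelianSubgroups hA₀ hA₀U hB)
  · apply sSup_le
    intro A hA
    have hAU : A ≤ U := (le_thompsonSubgroup hA).trans hU
    have h1 := subgroupOf_mem_maxElementaryAbelianSubgroups hA hAU
    have h2 : A.subgroupOf U ≤ thompsonSubgroup p U := le_thompsonSubgroup h1
    have h3 := Subgroup.map_mono (f := U.subtype) h2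
    rw [Subgroup.map_subgroupOf_eq_of_le hAU] at h3
    exact h3

end Cfsg.Agent.S0603
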