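import Cfsg.Statements.S1017
import Mathlib

set_option autoImplicit false
open Cfsg

namespace Cfsg.Agent.S1017

open MulAction Subgroup

open scoped Pointwise

variable {G : Type*} [Group G] [Finite G]

section

open MulAction Subgroup

open scoped Pointwise

variable {G : Type*} [Group G] [Finite G]

theorem sylow_card_eq {q : ℕ} [Fact q.Prime] (T : Sylow q G) (k m : ℕ) (hG : Nat.card G = q ^ k * m)
    (hm : ¬ q ∣ m) : Nat.card (T : Subgroup G) = q ^ k := by
  have hq : q.Prime := Fact.out
  have hm0 : m ≠ 0 := fun h => hm (h ▸ dvd_zero q)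
  rw [T.card_eq_multiplicity, hG, Nat.factorization_mul (pow_ne_zero _ hq.ne_zero) hm0, Finsupp.add_apply,
    hq.factorization_pow, Finsupp.single_eq_same, Nat.factorization_eq_zero_of_not_dvd hm, add_zero]

theorem card_sylow_mul_card_normalizer {q : ℕ} [Fact q.Prime] (S : Sylow q G) :
    Nat.card (Sylow q G) * Nat.card (Subgroup.normalizer ((S : Subgroup G) : Set G)) = Nat.card G := by
  have h1 := S.card_eq_index_normalizer
  have h2 := Subgroup.card_mul_index (Subgroup.normalizer ((S : Subgroup G) : Set G))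
  have h1' : Nat.card (Sylow q G) = (Subgroup.normalizer ((S : Subgroup G) : Set G)).index := h1
  rw [h1', mul_comm]
  exact h2

theorem card_ne_subtype {α : Type*} [Finite α] (a : α) :
    Nat.card {x : α // x ≠ a} = Nat.card α - 1 := by
  classical
  have := Fintype.ofFinite α
  rw [Nat.card_eq_fintype_card, Nat.card_eq_fintype_card]
  simp [Fintype.card_subtype_compl]

/-- In a subgroup of prime order, any nontrivial element generates the subgroup. -/
theorem zpowers_eq_of_card_prime {p : ℕ} [hp : Fact p.Prime]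
    (P : Subgroup G) (hP : Nat.card P = p) (g : G) (hg : g ∈ P) (hg1 : g ≠ 1) :
    Subgroup.zpowers g = P ∧ orderOf g = p := by
  have hord : orderOf g = p := by
    have h1 : orderOf (⟨g, hg⟩ : P) ∣ p := by rw [← hP]; exact orderOf_dvd_natCard _
    have h2 : orderOf (⟨g, hg⟩ : P) = orderOf g := Subgroup.orderOf_mk g hg
    rw [h2] at h1
    rcases (Nat.dvd_prime hp.out).1 h1 with h | h
    · exact absurd (orderOf_eq_one_iff.1 h) hg1
    · exact h
  refine ⟨?_, hord⟩
  have hle : Subgroup.zpowers g ≤ P := (Subgroup.zpowers_le).2 hg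
  apply Subgroup.eq_of_le_of_card_ge hle
  rw [Nat.card_zpowers, hord, hP]

/-- An element of order `p` lies in some Sylow `p`-subgroup. -/
theorem exists_sylow_mem_of_orderOf {p : ℕ} [Fact p.Prime]
    (g : G) (hg : orderOf g = p) : ∃ P : Sylow p G, g ∈ (P : Subgroup G) := by
  have hpg : IsPGroup p (Subgroup.zpowers g) := by
    apply IsPGroup.of_card (n := 1)
    rw [Nat.card_zpowers, hg, pow_one]
  obtain ⟨P, hP⟩ := hpg.exists_le_sylow
  exact ⟨P, hP (Subgroup.mem_zpowers g)⟩

theorem normal_card_absurd [IsSimpleGroup G] (H : Subgroup G)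
    (hn : H.Normal) (h1 : Nat.card H ≠ 1) (h2 : Nat.card H ≠ Nat.card G) : False := by
  rcases hn.eq_bot_or_eq_top with h | h
  · apply h1; rw [h]; exact Subgroup.card_bot
  · apply h2; rw [h]; exact Subgroup.card_top

/-- In a simple group, a proper nontrivial Sylow subgroup is not central in its normalizer. -/
theorem not_normalizer_le_centralizer [IsSimpleGroup G] {p : ℕ}
    [Fact p.Prime] (P : Sylow p G) (h1 : Nat.card (P : Subgroup G) ≠ 1)
    (h2 : Nat.card (P : Subgroup G) ≠ Nat.card G) :
    ¬ Subgroup.normalizer ((P : Subgroup G) : Set G) ≤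
      Subgroup.centralizer ((P : Subgroup G) : Set G) := by
  intro hP
  have hKc := (MonoidHom.ker_transferSylow_isComplement' P hP).card_mul_card
  have hpos : 0 < Nat.card (P : Subgroup G) := Nat.card_pos
  apply normal_card_absurd (MonoidHom.transferSylow P hP).ker inferInstance
  · intro hK1
    rw [hK1, one_mul] at hKc
    exact h2 hKc
  · intro hKG
    rw [hKG] at hKc
    have : Nat.card G * Nat.card (P : Subgroup G) = Nat.card G * 1 := by rw [hKc, mul_one]
    exact h1 (Nat.eq_of_mul_eq_mul_left Nat.card_pos this)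

theorem sylow_count_ne_one [IsSimpleGroup G] {p : ℕ}
    [hp : Fact p.Prime] (P : Sylow p G) (h1 : Nat.card (P : Subgroup G) ≠ 1)
    (h2 : Nat.card (P : Subgroup G) ≠ Nat.card G) : Nat.card (Sylow p G) ≠ 1 := by
  intro hc
  have : Subsingleton (Sylow p G) := (Nat.card_eq_one_iff_unique.1 hc).1
  have hn : (P : Subgroup G).Normal := P.normal_of_subsingleton
  exact normal_card_absurd (P : Subgroup G) hn h1 h2

theorem le_centralizer_self {p : ℕ} [hp : Fact p.Prime] (R : Sylow p G)
    (hR : Nat.card (R : Subgroup G) = p) :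
    (R : Subgroup G) ≤ Subgroup.centralizer ((R : Subgroup G) : Set G) := by
  have hcyc : IsCyclic ↥(R : Subgroup G) := isCyclic_of_prime_card hR
  have hcomm : IsMulCommutative ↥(R : Subgroup G) := ⟨⟨IsCyclic.commGroup.mul_comm⟩⟩
  exact Subgroup.le_centralizer_iff_isMulCommutative.2 hcomm

/-- Structure of the normalizer of a Sylow subgroup of prime order in a simple group. -/
theorem normalizer_structure [IsSimpleGroup G] {p : ℕ} [hp : Fact p.Prime] (R : Sylow p G)
    (hR : Nat.card (R : Subgroup G) = p) (hne : Nat.card G ≠ p) :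
    ∃ k c : ℕ, k ∣ p - 1 ∧ k ≠ 1 ∧
      Nat.card (Subgroup.centralizer ((R : Subgroup G) : Set G)) = p * c ∧
      Nat.card (Subgroup.normalizer ((R : Subgroup G) : Set G)) = k * (p * c) := by
  have hcyc : IsCyclic (R : Subgroup G) := isCyclic_of_prime_card hR
  have key := Subgroup.card_dvd_of_injective _
    (QuotientGroup.kerLift_injective (R : Subgroup G).normalizerMonoidHom)
  rw [Subgroup.normalizerMonoidHom_ker, ← Subgroup.index, ← Subgroup.relIndex, hcyc.card_mulAut, hR,
    Nat.totient_prime hp.out] at key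
  have hCN : Subgroup.centralizer ((R : Subgroup G) : Set G) ≤
      Subgroup.normalizer ((R : Subgroup G) : Set G) := Subgroup.centralizer_le_normalizer _
  have hRC := le_centralizer_self R hR
  obtain ⟨c, hc⟩ : p ∣ Nat.card (Subgroup.centralizer ((R : Subgroup G) : Set G)) := by
    conv_lhs => rw [← hR]
    exact Subgroup.card_dvd_of_le hRC
  refine ⟨(Subgroup.centralizer ((R : Subgroup G) : Set G)).relIndex
    (Subgroup.normalizer ((R : Subgroup G) : Set G)), c, key, ?_, hc, ?_⟩
  · intro h1
    rw [Subgroup.relIndex_eq_one] at h1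
    exact not_normalizer_le_centralizer R (by rw [hR]; exact hp.out.one_lt.ne')
      (by rw [hR]; exact hne.symm) h1
  · have h := Subgroup.relIndex_mul_relIndex (⊥ : Subgroup G) _ _ bot_le hCN
    rw [Subgroup.relIndex_bot_left, Subgroup.relIndex_bot_left] at h
    rw [← hc, ← h, mul_comm]

theorem card_sylow_mod {p : ℕ} [hp : Fact p.Prime] : Nat.card (Sylow p G) % p = 1 := by
  have := card_sylow_modEq_one p G
  rw [Nat.ModEq, Nat.mod_eq_of_lt hp.out.one_lt] at this
  exact this

theorem fixed_iff {p : ℕ} [Fact p.Prime] (P Q : Sylow p G) :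
    (∀ x ∈ (P : Subgroup G), x • Q = Q) ↔ Q = P := by
  constructor
  · intro h
    have hmem : Q ∈ fixedPoints (P : Subgroup G) (Sylow p G) := by
      intro x; exact h x.1 x.2
    rw [P.2.sylow_mem_fixedPoints_iff] at hmem
    exact Sylow.ext (P.3 Q.2 hmem)
  · rintro rfl x hx
    exact Sylow.smul_eq_iff_mem_normalizer.mpr (Subgroup.le_normalizer hx)

/-- A nontrivial element of a Sylow subgroup `P` of prime order fixes no other Sylow subgroup. -/
theorem eq_one_of_smul_eq {p : ℕ} [Fact p.Prime] (P Q : Sylow p G)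
    (hP : Nat.card (P : Subgroup G) = p) (hne : Q ≠ P) (g : G) (hg : g ∈ (P : Subgroup G))
    (hgQ : g • Q = Q) : g = 1 := by
  by_contra hg1
  apply hne
  rw [← fixed_iff]
  intro y hy
  have hz := (zpowers_eq_of_card_prime (P : Subgroup G) hP g hg hg1).1
  have hle : Subgroup.zpowers g ≤ stabilizer G Q := by
    rw [Subgroup.zpowers_le]
    exact hgQ
  rw [hz] at hle
  exact hle hy

end

section

open MulAction Subgroup

open scoped Pointwise

variable {G : Type*} [Group G] [Finite G]

theorem fixedPoints_zpowers_eq {α : Type*} [MulAction G α] (d : G) :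
    fixedPoints (Subgroup.zpowers d) α = fixedBy α d := by
  ext x
  constructor
  · intro h
    exact h ⟨d, Subgroup.mem_zpowers d⟩
  · rintro h ⟨y, k, rfl⟩
    have : d ^ k ∈ stabilizer G x := Subgroup.zpow_mem _ h k
    exact this

/-- An element of prime order `r` has `|α| ≡ |Fix|` mod `r`. -/
theorem card_modEq_card_fixedBy {α : Type*} [MulAction G α] [Finite α] (u : G) {r : ℕ}
    [hr : Fact r.Prime] (hu : orderOf u = r) :
    Nat.card α ≡ Nat.card (fixedBy α u) [MOD r] := by
  have hpg : IsPGroup r (Subgroup.zpowers u) :=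
    IsPGroup.of_card (n := 1) (by rw [Nat.card_zpowers, hu, pow_one])
  have hmod := hpg.card_modEq_card_fixedPoints α
  rwa [fixedPoints_zpowers_eq] at hmod

/-- If `g` of prime order `p` commutes with `u`, then `|Fix u| ≡ |Fix u ∩ Fix g|` mod `p`. -/
theorem card_fixedBy_modEq_inter {α : Type*} [MulAction G α] [Finite α] (g u : G)
    (hc : Commute g u) {p : ℕ} [hp : Fact p.Prime] (hg : orderOf g = p) :
    Nat.card (fixedBy α u) ≡ Nat.card ↥(fixedBy α u ∩ fixedBy α g) [MOD p] := by
  have hpg : IsPGroup p (Subgroup.zpowers g) :=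
    IsPGroup.of_card (n := 1) (by rw [Nat.card_zpowers, hg, pow_one])
  let S : SubMulAction (Subgroup.zpowers g) α :=
    { carrier := fixedBy α u
      smul_mem' := by
        rintro ⟨z, k, rfl⟩ x hx
        have hx' : u • x = x := hx
        have hcz : Commute (g ^ k) u := hc.zpow_left k
        show u • ((g ^ k) • x) = (g ^ k) • x
        rw [smul_smul, ← hcz.eq, ← smul_smul, hx'] }
  have hmod := hpg.card_modEq_card_fixedPoints ↥S
  have e1 : Nat.card ↥S = Nat.card (fixedBy α u) := rfl
  have e2 : Nat.card (fixedPoints (Subgroup.zpowers g) ↥S) =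
      Nat.card ↥(fixedBy α u ∩ fixedBy α g) := by
    apply Nat.card_congr
    refine ⟨fun x => ⟨x.1.1, x.1.2, ?_⟩, fun y => ⟨⟨y.1, y.2.1⟩, ?_⟩, ?_, ?_⟩
    · have := x.2 ⟨g, Subgroup.mem_zpowers g⟩
      have h2 := congrArg (fun t : ↥S => (t : α)) this
      exact h2
    · rintro ⟨z, k, rfl⟩
      apply Subtype.ext
      show (g ^ k) • y.1 = y.1
      have : g ^ k ∈ stabilizer G y.1 := Subgroup.zpow_mem _ y.2.2 k
      exact this
    · intro x; rfl
    · intro y; rfl
  rwa [e1, e2] at hmod

theorem sign_trivial [IsSimpleGroup G] (h2 : 2 < Nat.card G) {α : Type*} [MulAction G α]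
    [Fintype α] [DecidableEq α] (x : G) :
    Equiv.Perm.sign (MulAction.toPerm x : Equiv.Perm α) = 1 := by
  let f : G →* ℤˣ := (Equiv.Perm.sign).comp (MulAction.toPermHom G α)
  rcases (inferInstance : f.ker.Normal).eq_bot_or_eq_top with h | h
  · exfalso
    have hinj : Function.Injective f := (MonoidHom.ker_eq_bot_iff f).1 h
    have := Nat.card_le_card_of_injective f hinj
    have h3 : Nat.card ℤˣ = 2 := by
      rw [Nat.card_eq_fintype_card]; rfl
    omega
  · have : x ∈ f.ker := by rw [h]; exact Subgroup.mem_top x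
    exact this

/-- In a simple group of order `> 2`, an involution acting on a finite set has `|Fix| ≡ |α|` mod 4. -/
theorem card_fixedBy_mod_four [IsSimpleGroup G] (h2 : 2 < Nat.card G) {α : Type*} [MulAction G α]
    [Finite α] (u : G) (hu : orderOf u = 2) :
    Nat.card (fixedBy α u) ≡ Nat.card α [MOD 4] := by
  classical
  have := Fintype.ofFinite α
  have hu2 : u ^ 2 = 1 := by rw [← hu]; exact pow_orderOf_eq_one u
  have hσ : (MulAction.toPerm u : Equiv.Perm α) ^ 2 = 1 := by
    rw [← MulAction.toPermHom_apply, ← map_pow, hu2, map_one]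
  have hsign := Equiv.Perm.sign_of_pow_two_eq_one hσ
  rw [sign_trivial h2 u] at hsign
  have : Fact (Nat.Prime 2) := ⟨Nat.prime_two⟩
  have hmod2 := card_modEq_card_fixedBy (α := α) u hu
  have hfp : Fintype.card (Function.fixedPoints (MulAction.toPerm u : Equiv.Perm α)) =
      Nat.card (fixedBy α u) := by
    rw [← Nat.card_eq_fintype_card]; rfl
  rw [hfp, ← Nat.card_eq_fintype_card] at hsign
  have hle : Nat.card (fixedBy α u) ≤ Nat.card α := Nat.card_le_card_of_injective _ Subtype.val_injective
  set a := Nat.card α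
  set b := Nat.card (fixedBy α u)
  have hd2 : 2 ∣ a - b := (Nat.modEq_iff_dvd' hle).1 hmod2.symm
  obtain ⟨c, hc⟩ := hd2
  rw [hc, Nat.mul_div_cancel_left c (by norm_num)] at hsign
  have hev : Even c := by
    by_contra hodd
    rw [Nat.not_even_iff_odd] at hodd
    rw [hodd.neg_one_pow] at hsign
    exact absurd hsign (by decide)
  obtain ⟨e, he⟩ := hev
  rw [Nat.modEq_iff_dvd' hle]
  exact ⟨e, by omega⟩

theorem eq_one_of_forall_smul_eq [IsSimpleGroup G] {α : Type*} [MulAction G α]
    (hnt : ∃ (g : G) (a : α), g • a ≠ a) (u : G) (hu : ∀ a : α, u • a = a) : u = 1 := by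
  have hn : (MulAction.toPermHom G α).ker.Normal := inferInstance
  rcases hn.eq_bot_or_eq_top with h | h
  · have : u ∈ (MulAction.toPermHom G α).ker := by
      rw [MonoidHom.mem_ker]
      ext a
      exact hu a
    rw [h] at this
    exact Subgroup.mem_bot.1 this
  · exfalso
    obtain ⟨g, a, hga⟩ := hnt
    have : g ∈ (MulAction.toPermHom G α).ker := by rw [h]; exact Subgroup.mem_top g
    rw [MonoidHom.mem_ker] at this
    apply hga
    have h2 := congrArg (fun σ : Equiv.Perm α => σ a) this
    exact h2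

end

section

open MulAction Subgroup

open scoped Pointwise

variable {G : Type*} [Group G] [Finite G]

theorem smul_self_of_mem {p : ℕ} [Fact p.Prime] (Q : Sylow p G) (a : G) (ha : a ∈ (Q : Subgroup G)) :
    a • Q = Q :=
  Sylow.smul_eq_iff_mem_normalizer.mpr (Subgroup.le_normalizer ha)

/-- An element normalizing but not centralizing a Sylow subgroup `Q` of prime order `p` fixes at
most one Sylow subgroup in each `Q`-orbit. -/
theorem fix_bound {p : ℕ} [hp : Fact p.Prime] (Q : Sylow p G) (hQ : Nat.card (Q : Subgroup G) = p)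
    (x : G) (hxN : x ∈ Subgroup.normalizer ((Q : Subgroup G) : Set G))
    (hxC : x ∉ Subgroup.centralizer ((Q : Subgroup G) : Set G)) :
    p * (Nat.card (fixedBy (Sylow p G) x) - 1) ≤ Nat.card (Sylow p G) - 1 := by
  have hQfix : Q ∈ fixedBy (Sylow p G) x := Sylow.smul_eq_iff_mem_normalizer.mpr hxN
  rw [← card_ne_subtype (⟨Q, hQfix⟩ : fixedBy (Sylow p G) x), ← card_ne_subtype Q]
  have hcard : Nat.card (↥(Q : Subgroup G) ×
      {y : fixedBy (Sylow p G) x // y ≠ ⟨Q, hQfix⟩}) =
      p * Nat.card {y : fixedBy (Sylow p G) x // y ≠ ⟨Q, hQfix⟩} := by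
    rw [Nat.card_prod, hQ]
  rw [← hcard]
  refine Nat.card_le_card_of_injective
    (fun z => (⟨(z.1 : G) • (z.2.1.1 : Sylow p G), ?_⟩ : {ω : Sylow p G // ω ≠ Q})) ?_
  · intro h
    apply z.2.2
    apply Subtype.ext
    show (z.2.1.1 : Sylow p G) = Q
    have h2 : (z.1 : G)⁻¹ • ((z.1 : G) • (z.2.1.1 : Sylow p G)) = (z.1 : G)⁻¹ • Q := by rw [h]
    rw [inv_smul_smul, smul_self_of_mem Q _ (inv_mem z.1.2)] at h2
    exact h2
  · rintro ⟨⟨a, ha⟩, ⟨⟨ω, hω⟩, hne⟩⟩ ⟨⟨a', ha'⟩, ⟨⟨ω', hω'⟩, hne'⟩⟩ h
    have h1 : a • ω = a' • ω' := congrArg Subtype.val h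
    have hωQ : ω ≠ Q := fun hh => hne (Subtype.ext hh)
    have hxω : x • ω = ω := hω
    have hxω' : x • ω' = ω' := hω'
    set b := a'⁻¹ * a with hb
    have hbQ : b ∈ (Q : Subgroup G) := mul_mem (inv_mem ha') ha
    have hbω : b • ω = ω' := by rw [hb, mul_smul, h1, inv_smul_smul]
    have hxb : x * b * x⁻¹ ∈ (Q : Subgroup G) := (Subgroup.mem_normalizer_iff.mp hxN b).mp hbQ
    have hxinv : x⁻¹ • ω = ω := by
      conv_lhs => rw [← hxω]
      rw [inv_smul_smul]
    have h2 : (x * b * x⁻¹) • ω = b • ω := by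
      rw [mul_smul, mul_smul, hxinv, hbω, hxω']
    have h3 : (b⁻¹ * (x * b * x⁻¹)) • ω = ω := by
      rw [mul_smul, h2, inv_smul_smul]
    have h4 := eq_one_of_smul_eq Q ω hQ hωQ _ (mul_mem (inv_mem hbQ) hxb) h3
    have hcomm : x * b = b * x := by
      have h5 : x * b * x⁻¹ = b := by
        have := congrArg (fun t => b * t) h4
        simpa [mul_assoc] using this
      calc x * b = (x * b * x⁻¹) * x := by group
        _ = b * x := by rw [h5]
    have hb1 : b = 1 := by
      by_contra hb1
      apply hxC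
      have hz := (zpowers_eq_of_card_prime (Q : Subgroup G) hQ b hbQ hb1).1
      rw [← hz, Subgroup.zpowers_eq_closure, Subgroup.centralizer_closure,
        Subgroup.mem_centralizer_iff]
      intro y hy
      rw [Set.mem_singleton_iff] at hy
      subst hy
      exact hcomm.symm
    have haa : a = a' := by
      have : a'⁻¹ * a = 1 := hb1
      calc a = a' * (a'⁻¹ * a) := by group
        _ = a' := by rw [this, mul_one]
    have hωω : ω = ω' := by
      rw [← hbω, hb1, one_smul]
    subst haa
    subst hωω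
    rfl

theorem mem_smul_sylow_iff {p : ℕ} [Fact p.Prime] (P : Sylow p G) (h x : G) :
    x ∈ ((h • P : Sylow p G) : Subgroup G) ↔ h⁻¹ * x * h ∈ (P : Subgroup G) := by
  rw [Sylow.coe_subgroup_smul, Subgroup.mem_pointwise_smul_iff_inv_smul_mem, MulAut.smul_def,
    ← map_inv, MulAut.conj_apply, inv_inv]

/-- Counting a subgroup containing a Sylow subgroup via the Sylow subgroups it contains. -/
theorem card_eq_card_mul {p : ℕ} [Fact p.Prime] (H : Subgroup G) (P : Sylow p G)
    (hP : (P : Subgroup G) ≤ H) :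
    Nat.card H = Nat.card {Q : Sylow p G // (Q : Subgroup G) ≤ H} *
      Nat.card ↥(Subgroup.normalizer ((P : Subgroup G) : Set G) ⊓ H) := by
  have h1 := Subgroup.card_eq_card_quotient_mul_card_subgroup (stabilizer ↥H P)
  have h2 : Nat.card (↥H ⧸ stabilizer ↥H P) = Nat.card (orbit ↥H P) :=
    (Nat.card_congr (orbitEquivQuotientStabilizer ↥H P)).symm
  have h3 : Nat.card (orbit ↥H P) = Nat.card {Q : Sylow p G // (Q : Subgroup G) ≤ H} := by
    have hset : orbit ↥H P = {Q : Sylow p G | (Q : Subgroup G) ≤ H} := by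
      ext Q
      constructor
      · rintro ⟨h, rfl⟩
        intro x hx
        have hx' : x ∈ (((h : G) • P : Sylow p G) : Subgroup G) := hx
        rw [mem_smul_sylow_iff] at hx'
        have := hP hx'
        have h4 : x = (h : G) * ((h : G)⁻¹ * x * (h : G)) * (h : G)⁻¹ := by group
        rw [h4]
        exact mul_mem (mul_mem h.2 this) (inv_mem h.2)
      · intro hQ
        have hQ' : (Q : Subgroup G) ≤ H := hQ
        obtain ⟨h, hh⟩ := MulAction.exists_smul_eq ↥H (P.subtype hP) (Q.subtype hQ')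
        refine ⟨h, ?_⟩
        rw [Sylow.smul_subtype] at hh
        exact Sylow.subtype_injective hh
    rw [hset]
    rfl
  have h4 : Nat.card (stabilizer ↥H P) =
      Nat.card ↥(Subgroup.normalizer ((P : Subgroup G) : Set G) ⊓ H) := by
    apply Nat.card_congr
    refine ⟨fun h => ⟨(h.1 : G), ?_, h.1.2⟩, fun y => ⟨⟨y.1, y.2.2⟩, ?_⟩, ?_, ?_⟩
    · have := h.2
      rw [mem_stabilizer_iff] at this
      exact Sylow.smul_eq_iff_mem_normalizer.mp this
    · rw [mem_stabilizer_iff]
      exact Sylow.smul_eq_iff_mem_normalizer.mpr y.2.1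
    · intro h; rfl
    · intro y; rfl
  rw [h1, h2, h3, h4]

/-- A `p`-element normalizing a Sylow `p`-subgroup lies in it. -/
theorem mem_sylow_of_mem_normalizer {p : ℕ} [hp : Fact p.Prime] (P : Sylow p G) (b : G)
    (hb : orderOf b = p) (hbN : b ∈ Subgroup.normalizer ((P : Subgroup G) : Set G)) :
    b ∈ (P : Subgroup G) := by
  have hpg : IsPGroup p (Subgroup.zpowers b) :=
    IsPGroup.of_card (n := 1) (by rw [Nat.card_zpowers, hb, pow_one])
  have h := hpg.inf_normalizer_sylow P
  have hmem : b ∈ Subgroup.zpowers b ⊓ Subgroup.normalizer ((P : Subgroup G) : Set G) :=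
    ⟨Subgroup.mem_zpowers b, hbN⟩
  have hmem' : b ∈ Subgroup.zpowers b ⊓ (P : Subgroup G) := by
    rw [← h]; exact hmem
  exact hmem'.2

end

section

open MulAction Subgroup

open scoped Pointwise

variable {G : Type*} [Group G] [Finite G]

theorem sylow_card_all {p : ℕ} [Fact p.Prime] (P Q : Sylow p G) :
    Nat.card (Q : Subgroup G) = Nat.card (P : Subgroup G) := by
  rw [Q.card_eq_multiplicity, P.card_eq_multiplicity]

/-- An element centralizing a Sylow `p`-subgroup `P` of order `p` has `|Fix| ≡ 1` mod `p` on `Syl_p`. -/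
theorem card_fixedBy_sylow_modEq {p : ℕ} [hp : Fact p.Prime] (P : Sylow p G)
    (hP : Nat.card (P : Subgroup G) = p) (u : G)
    (hu : u ∈ Subgroup.centralizer ((P : Subgroup G) : Set G)) :
    Nat.card (fixedBy (Sylow p G) u) ≡ 1 [MOD p] := by
  obtain ⟨g', hg'⟩ := exists_prime_orderOf_dvd_card' (G := ↥(P : Subgroup G)) p (by rw [hP])
  have hg : orderOf (g' : G) = p := by rw [Subgroup.orderOf_coe]; exact hg'
  have hg1 : (g' : G) ≠ 1 := by
    intro h
    rw [h, orderOf_one] at hg
    exact hp.out.one_lt.ne hg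
  have hc : Commute (g' : G) u := (Subgroup.mem_centralizer_iff.mp hu g' g'.2)
  have hmod := card_fixedBy_modEq_inter (α := Sylow p G) (g' : G) u hc hg
  have hset : fixedBy (Sylow p G) u ∩ fixedBy (Sylow p G) (g' : G) = {P} := by
    ext Q
    simp only [Set.mem_inter_iff, Set.mem_singleton_iff, mem_fixedBy]
    constructor
    · rintro ⟨-, h2⟩
      by_contra hne
      exact hg1 (eq_one_of_smul_eq P Q hP hne _ g'.2 h2)
    · rintro rfl
      exact ⟨Sylow.smul_eq_iff_mem_normalizer.mpr (Subgroup.centralizer_le_normalizer _ hu),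
        smul_self_of_mem Q _ g'.2⟩
  rw [hset] at hmod
  simpa using hmod

theorem le_centralizer_singleton_iff (Q : Subgroup G) (u : G) :
    Q ≤ Subgroup.centralizer ({u} : Set G) ↔ u ∈ Subgroup.centralizer (Q : Set G) := by
  constructor
  · intro h
    rw [Subgroup.mem_centralizer_iff]
    intro y hy
    have := h hy
    rw [Subgroup.mem_centralizer_iff] at this
    exact (this u rfl).symm
  · intro h y hy
    rw [Subgroup.mem_centralizer_iff]
    intro z hz
    rw [Set.mem_singleton_iff] at hz
    subst hz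
    exact (Subgroup.mem_centralizer_iff.mp h y hy).symm

/-- If `u` has many fixed points on `Syl_p`, then it centralizes each Sylow subgroup it normalizes,
and the centralizer of `u` is counted accordingly. -/
theorem card_centralizer_eq {p : ℕ} [hp : Fact p.Prime] (P : Sylow p G)
    (hP : Nat.card (P : Subgroup G) = p) (u : G)
    (hu : u ∈ Subgroup.centralizer ((P : Subgroup G) : Set G))
    (hbig : Nat.card (Sylow p G) - 1 < p * (Nat.card (fixedBy (Sylow p G) u) - 1)) :
    Nat.card (Subgroup.centralizer ({u} : Set G)) = Nat.card (fixedBy (Sylow p G) u) *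
      Nat.card ↥(Subgroup.normalizer ((P : Subgroup G) : Set G) ⊓
        Subgroup.centralizer ({u} : Set G)) := by
  have hPH : (P : Subgroup G) ≤ Subgroup.centralizer ({u} : Set G) :=
    (le_centralizer_singleton_iff _ u).2 hu
  rw [card_eq_card_mul _ P hPH]
  congr 1
  apply Nat.card_congr
  refine Equiv.subtypeEquivRight ?_
  intro Q
  rw [le_centralizer_singleton_iff, mem_fixedBy]
  constructor
  · intro h
    exact Sylow.smul_eq_iff_mem_normalizer.mpr (Subgroup.centralizer_le_normalizer _ h)
  · intro h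
    by_contra hnc
    have hb := fix_bound Q ((sylow_card_all P Q).trans hP) u
      (Sylow.smul_eq_iff_mem_normalizer.mp h) hnc
    omega

theorem forall_smul_eq_of_card {α : Type*} [MulAction G α] [Finite α] (u : G)
    (h : Nat.card (fixedBy α u) = Nat.card α) : ∀ a : α, u • a = a := by
  have h1 : fixedBy α u = Set.univ := by
    apply Set.eq_of_subset_of_ncard_le (Set.subset_univ _) _ (Set.toFinite _)
    rw [Set.ncard_univ, ← h, _root_.Nat.card_coe_set_eq]
  intro a
  have : a ∈ fixedBy α u := by rw [h1]; exact Set.mem_univ a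
  exact this

theorem sylow_action_nontrivial {p : ℕ} [hp : Fact p.Prime] (h : 1 < Nat.card (Sylow p G)) :
    ∃ (g : G) (Q : Sylow p G), g • Q ≠ Q := by
  obtain ⟨P, Q, hPQ⟩ := Finite.one_lt_card_iff_nontrivial.mp h
  obtain ⟨g, hg⟩ := MulAction.exists_smul_eq G P Q
  exact ⟨g, P, by rw [hg]; exact hPQ.symm⟩

theorem coset_action_nontrivial (H : Subgroup G) (h : H ≠ ⊤) :
    ∃ (g : G) (a : G ⧸ H), g • a ≠ a := by
  have : ∃ x : G, x ∉ H := by
    by_contra hcon
    push Not at hcon
    exact h (eq_top_iff.2 fun x _ => hcon x)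
  obtain ⟨x, hx⟩ := this
  refine ⟨x, ((1 : G) : G ⧸ H), ?_⟩
  rw [MulAction.Quotient.smul_mk]
  intro hh
  rw [QuotientGroup.eq] at hh
  apply hx
  have : (x • (1 : G))⁻¹ * 1 ∈ H := hh
  simpa using this

theorem coset_fixed (H : Subgroup G) (x : G) (hx : x ∈ H) :
    ((1 : G) : G ⧸ H) ∈ fixedBy (G ⧸ H) x := by
  rw [mem_fixedBy, MulAction.Quotient.smul_mk, QuotientGroup.eq]
  have : (x • (1 : G))⁻¹ * 1 = x⁻¹ := by simp
  rw [this]
  exact inv_mem hx

end

section

open MulAction Subgroup

open scoped Pointwise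

variable {G : Type*} [Group G] [Finite G]

theorem card_fixedBy_le {α : Type*} [MulAction G α] [Finite α] (u : G) :
    Nat.card (fixedBy α u) ≤ Nat.card α :=
  Nat.card_le_card_of_injective _ Subtype.val_injective

theorem card_fixedBy_ne [IsSimpleGroup G] {α : Type*} [MulAction G α] [Finite α]
    (hnt : ∃ (g : G) (a : α), g • a ≠ a) (u : G) (hu : u ≠ 1) :
    Nat.card (fixedBy α u) ≠ Nat.card α := fun h =>
  hu (eq_one_of_forall_smul_eq hnt u (forall_smul_eq_of_card u h))

theorem ne_one_of_orderOf_prime (u : G) {r : ℕ} (hr : r.Prime) (hu : orderOf u = r) : u ≠ 1 := by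
  intro h
  rw [h, orderOf_one] at hu
  exact hr.one_lt.ne hu

theorem card_inter_comm {α : Type*} (s t : Set α) : Nat.card ↥(s ∩ t) = Nat.card ↥(t ∩ s) := by
  rw [Set.inter_comm]

theorem card_inter_le_left {α : Type*} [Finite α] (s t : Set α) : Nat.card ↥(s ∩ t) ≤ Nat.card ↥s :=
  Nat.card_mono (Set.toFinite s) Set.inter_subset_left

theorem card_inter_pos {α : Type*} [Finite α] (s t : Set α) (a : α) (hs : a ∈ s) (ht : a ∈ t) :
    0 < Nat.card ↥(s ∩ t) := by
  haveI : Nonempty ↥(s ∩ t) := ⟨⟨a, hs, ht⟩⟩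
  exact Nat.card_pos

end

section

open MulAction Subgroup

open scoped Pointwise

variable {G : Type*} [Group G] [Finite G]

instance fact7 : Fact (Nat.Prime 7) := ⟨by norm_num⟩

theorem numerics2016 (n k c : ℕ) (h : n * (k * (7 * c)) = 2016) (hk : k ∣ 7 - 1) (hk1 : k ≠ 1)
    (hn : n % 7 = 1) (hn1 : n ≠ 1) :
    (n = 8 ∧ 2 ∣ c) ∨ (n = 36 ∧ k = 2 ∧ c = 4) := by
  have h' : k * (n * c) = 288 := by
    have : 7 * (k * (n * c)) = 7 * 288 := by
      rw [show (7 : ℕ) * 288 = 2016 by norm_num, ← h]; ring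
    exact Nat.eq_of_mul_eq_mul_left (by norm_num) this
  have hkle : k ≤ 6 := Nat.le_of_dvd (by norm_num) hk
  have hk0 : 0 < k := Nat.pos_of_dvd_of_pos hk (by norm_num)
  have hnpos : 0 < n := by
    rcases Nat.eq_zero_or_pos n with h0 | h0
    · subst h0; simp at hn
    · exact h0
  have hcpos : 0 < c := by
    rcases Nat.eq_zero_or_pos c with h0 | h0
    · subst h0; simp at h'
    · exact h0
  have hk2 : 2 ≤ k := by omega
  have hnle : n ≤ 144 := by
    have h1 : n ≤ n * c := Nat.le_mul_of_pos_right n hcpos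
    have h2 : 2 * n ≤ k * (n * c) := Nat.mul_le_mul hk2 h1
    omega
  interval_cases k <;> first | omega | (exfalso; revert hk; decide) |
    (interval_cases n <;> first | omega | (left; exact ⟨rfl, by omega⟩) |
      (right; exact ⟨rfl, rfl, by omega⟩))

end

section

open MulAction Subgroup

open scoped Pointwise

variable {G : Type*} [Group G] [Finite G]

theorem case8_2016 [IsSimpleGroup G] (P : Sylow 7 G)
    (hP : Nat.card (P : Subgroup G) = 7) (hn : Nat.card (Sylow 7 G) = 8) (c : ℕ)
    (hC : Nat.card (Subgroup.centralizer ((P : Subgroup G) : Set G)) = 7 * c) (hc : 2 ∣ c) :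
    False := by
  obtain ⟨u', hu'⟩ := exists_prime_orderOf_dvd_card'
    (G := ↥(Subgroup.centralizer ((P : Subgroup G) : Set G))) 2 (by rw [hC]; exact Dvd.dvd.mul_left hc 7)
  have hu : orderOf (u' : G) = 2 := by rw [Subgroup.orderOf_coe]; exact hu'
  have h1 := card_fixedBy_sylow_modEq P hP (u' : G) u'.2
  have h2 := card_modEq_card_fixedBy (α := Sylow 7 G) (u' : G) hu
  have hle := card_fixedBy_le (α := Sylow 7 G) (u' : G)
  have hne := card_fixedBy_ne (α := Sylow 7 G) (sylow_action_nontrivial (by rw [hn]; norm_num))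
    (u' : G) (ne_one_of_orderOf_prime _ Nat.prime_two hu)
  rw [hn] at h2 hle hne
  unfold Nat.ModEq at h1 h2
  omega

end

section

open MulAction Subgroup

open scoped Pointwise

variable {G : Type*} [Group G] [Finite G]

/-- Endgame: a subgroup of index 9 containing commuting elements of orders 7 and 2. -/
theorem endgame2016 [IsSimpleGroup G] (H : Subgroup G) (hidx : Nat.card (G ⧸ H) = 9) (g u : G)
    (hg : orderOf g = 7) (hu : orderOf u = 2) (hc : Commute g u) (hgH : g ∈ H) (huH : u ∈ H) :
    False := by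
  have hHtop : H ≠ ⊤ := by
    intro h
    rw [h] at hidx
    have : Nat.card (G ⧸ (⊤ : Subgroup G)) = 1 := by
      rw [← Subgroup.index_eq_card, Subgroup.index_top]
    omega
  have hnt := coset_action_nontrivial H hHtop
  have ha1 := card_modEq_card_fixedBy (α := G ⧸ H) g hg
  have hale := card_fixedBy_le (α := G ⧸ H) g
  have hane := card_fixedBy_ne hnt g (ne_one_of_orderOf_prime _ (by norm_num) hg)
  have hb1 := card_modEq_card_fixedBy (α := G ⧸ H) u hu
  have hble := card_fixedBy_le (α := G ⧸ H) u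
  have hbne := card_fixedBy_ne hnt u (ne_one_of_orderOf_prime _ Nat.prime_two hu)
  have hj1 := card_fixedBy_modEq_inter (α := G ⧸ H) u g hc.symm hu
  have hj2 := card_fixedBy_modEq_inter (α := G ⧸ H) g u hc hg
  rw [card_inter_comm] at hj1
  have hjle := card_inter_le_left (fixedBy (G ⧸ H) u) (fixedBy (G ⧸ H) g)
  have hjle2 : Nat.card ↥(fixedBy (G ⧸ H) u ∩ fixedBy (G ⧸ H) g) ≤ Nat.card ↥(fixedBy (G ⧸ H) g) := by
    rw [card_inter_comm]; exact card_inter_le_left _ _
  have hjpos := card_inter_pos (fixedBy (G ⧸ H) u) (fixedBy (G ⧸ H) g) _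
    (coset_fixed H u huH) (coset_fixed H g hgH)
  rw [hidx] at ha1 hale hane hb1 hble hbne
  unfold Nat.ModEq at ha1 hb1 hj1 hj2
  omega

theorem case36_2016 [IsSimpleGroup G] (hG : Nat.card G = 2016) (P : Sylow 7 G)
    (hP : Nat.card (P : Subgroup G) = 7) (hn : Nat.card (Sylow 7 G) = 36)
    (hC : Nat.card (Subgroup.centralizer ((P : Subgroup G) : Set G)) = 28)
    (hN : Nat.card (Subgroup.normalizer ((P : Subgroup G) : Set G)) = 56) : False := by
  obtain ⟨V⟩ : Nonempty (Sylow 2 ↥(Subgroup.centralizer ((P : Subgroup G) : Set G))) := inferInstance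
  have hV : Nat.card (V : Subgroup ↥(Subgroup.centralizer ((P : Subgroup G) : Set G))) = 2 ^ 2 :=
    sylow_card_eq V 2 7 (by rw [hC]; norm_num) (by norm_num)
  obtain ⟨v, hv⟩ := exists_prime_orderOf_dvd_card'
    (G := ↥(V : Subgroup ↥(Subgroup.centralizer ((P : Subgroup G) : Set G)))) 2 (by rw [hV]; norm_num)
  obtain ⟨u, hudef⟩ : ∃ u : G, u = ((v : ↥(Subgroup.centralizer ((P : Subgroup G) : Set G))) : G) :=
    ⟨_, rfl⟩
  have hu : orderOf u = 2 := by
    rw [hudef, Subgroup.orderOf_coe, Subgroup.orderOf_coe]; exact hv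
  have huK : u ∈ Subgroup.centralizer ((P : Subgroup G) : Set G) := by
    rw [hudef]; exact (v : ↥(Subgroup.centralizer ((P : Subgroup G) : Set G))).2
  have hVcomm : ∀ a b : ↥(V : Subgroup ↥(Subgroup.centralizer ((P : Subgroup G) : Set G))),
      a * b = b * a := fun a b =>
    (IsPGroup.isMulCommutative_of_card_eq_prime_sq hV).is_comm.comm a b
  have hPM : (P : Subgroup G) ≤ Subgroup.normalizer ((P : Subgroup G) : Set G) ⊓
      Subgroup.centralizer ({u} : Set G) :=
    le_inf Subgroup.le_normalizer ((le_centralizer_singleton_iff _ u).2 huK)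
  have hV'card : Nat.card ((V : Subgroup ↥(Subgroup.centralizer ((P : Subgroup G) : Set G))).map
      (Subgroup.centralizer ((P : Subgroup G) : Set G)).subtype) = 4 := by
    rw [Subgroup.card_map_of_injective (Subgroup.subtype_injective _)]; exact hV
  have hV'M : (V : Subgroup ↥(Subgroup.centralizer ((P : Subgroup G) : Set G))).map
      (Subgroup.centralizer ((P : Subgroup G) : Set G)).subtype ≤
      Subgroup.normalizer ((P : Subgroup G) : Set G) ⊓ Subgroup.centralizer ({u} : Set G) := by
    rintro x ⟨y, hy, rfl⟩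
    refine ⟨Subgroup.centralizer_le_normalizer _ y.2, ?_⟩
    change (y : G) ∈ Subgroup.centralizer ({u} : Set G)
    rw [Subgroup.mem_centralizer_iff]
    intro z hz
    rw [Set.mem_singleton_iff] at hz
    subst hz
    have h1 := hVcomm v ⟨y, hy⟩
    have h2 := congrArg (fun t : ↥(V : Subgroup ↥(Subgroup.centralizer ((P : Subgroup G) : Set G))) =>
      ((t : ↥(Subgroup.centralizer ((P : Subgroup G) : Set G))) : G)) h1
    rw [hudef]
    exact h2
  have h7M := Subgroup.card_dvd_of_le hPM
  have h4M := Subgroup.card_dvd_of_le hV'M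
  have hM56 := Subgroup.card_dvd_of_le (inf_le_left :
    Subgroup.normalizer ((P : Subgroup G) : Set G) ⊓ Subgroup.centralizer ({u} : Set G) ≤
      Subgroup.normalizer ((P : Subgroup G) : Set G))
  rw [hP] at h7M
  rw [hV'card] at h4M
  rw [hN] at hM56
  have hu1 : u ≠ 1 := ne_one_of_orderOf_prime _ Nat.prime_two hu
  have h1 := card_fixedBy_sylow_modEq P hP u huK
  have h4 := card_fixedBy_mod_four (by rw [hG]; norm_num) (α := Sylow 7 G) u hu
  have hle := card_fixedBy_le (α := Sylow 7 G) u
  have hne := card_fixedBy_ne (α := Sylow 7 G) (sylow_action_nontrivial (by rw [hn]; norm_num)) u hu1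
  rw [hn] at h4 hle hne
  have h8 : Nat.card (fixedBy (Sylow 7 G) u) = 8 := by
    unfold Nat.ModEq at h1 h4
    omega
  have hcard := card_centralizer_eq P hP u huK (by rw [hn, h8]; norm_num)
  rw [h8] at hcard
  have hHdvd : Nat.card (Subgroup.centralizer ({u} : Set G)) ∣ 2016 := by
    rw [← hG]; exact Subgroup.card_subgroup_dvd_card _
  have hM28 : Nat.card ↥(Subgroup.normalizer ((P : Subgroup G) : Set G) ⊓
      Subgroup.centralizer ({u} : Set G)) = 28 := by
    have h28 : 28 ∣ Nat.card ↥(Subgroup.normalizer ((P : Subgroup G) : Set G) ⊓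
        Subgroup.centralizer ({u} : Set G)) :=
      Nat.Coprime.mul_dvd_of_dvd_of_dvd (by norm_num : Nat.Coprime 7 4) h7M h4M
    obtain ⟨e, he⟩ := h28
    obtain ⟨f, hf⟩ := hM56
    rw [he] at hf hcard
    have he12 : e = 1 ∨ e = 2 := by
      have : e * f = 2 := by nlinarith
      have he2 : e ∣ 2 := Dvd.intro _ this
      have hele := Nat.le_of_dvd (by norm_num) he2
      have hepos : 0 < e := by
        rcases Nat.eq_zero_or_pos e with h0 | h0
        · subst h0; simp at this
        · exact h0
      omega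
    rcases he12 with h | h
    · rw [he, h]
    · exfalso
      rw [h] at hcard
      rw [hcard] at hHdvd
      revert hHdvd
      decide
  rw [hM28] at hcard
  have hidx : Nat.card (G ⧸ Subgroup.centralizer ({u} : Set G)) = 9 := by
    have := Subgroup.card_eq_card_quotient_mul_card_subgroup (Subgroup.centralizer ({u} : Set G))
    rw [hG, hcard] at this
    omega
  obtain ⟨g', hg'⟩ := exists_prime_orderOf_dvd_card' (G := ↥(P : Subgroup G)) 7 (by rw [hP])
  have hg : orderOf (g' : G) = 7 := by rw [Subgroup.orderOf_coe]; exact hg'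
  have hc : Commute (g' : G) u := Subgroup.mem_centralizer_iff.mp huK g' g'.2
  have hgH : (g' : G) ∈ Subgroup.centralizer ({u} : Set G) := (hPM g'.2).2
  have huH : u ∈ Subgroup.centralizer ({u} : Set G) := by
    rw [Subgroup.mem_centralizer_iff]
    intro z hz
    rw [Set.mem_singleton_iff] at hz
    subst hz
    rfl
  exact endgame2016 _ hidx (g' : G) u hg hu hc hgH huH

end

section

open MulAction Subgroup

open scoped Pointwise

variable {G : Type*} [Group G] [Finite G]

theorem main2016 [IsSimpleGroup G] (hG : Nat.card G = 2016) : False := by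
  obtain ⟨P⟩ : Nonempty (Sylow 7 G) := inferInstance
  have hP : Nat.card (P : Subgroup G) = 7 := by
    have := sylow_card_eq P 1 288 (by rw [hG]; norm_num) (by norm_num)
    simpa using this
  obtain ⟨k, c, hk, hk1, hC, hN⟩ := normalizer_structure P hP (by rw [hG]; norm_num)
  have hmul := card_sylow_mul_card_normalizer P
  have hmod := card_sylow_mod (G := G) (p := 7)
  have hn1 := sylow_count_ne_one P (by rw [hP]; norm_num) (by rw [hP, hG]; norm_num)
  rw [hN, hG] at hmul
  rcases numerics2016 _ k c hmul hk hk1 hmod hn1 with ⟨h8, hc⟩ | ⟨h36, hk2, hc4⟩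
  · exact case8_2016 P hP h8 c hC hc
  · subst hk2
    subst hc4
    exact case36_2016 hG P hP h36 (by rw [hC]) (by rw [hN])

end

/-- No finite simple group has order 2016 = 2^5 * 3^2 * 7. -/
theorem result {G : Type*} [Group G] [Finite G] [IsSimpleGroup G] : Nat.card G ≠ 2016 :=
  fun hG => main2016 hG

end Cfsg.Agent.S1017
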