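import Cfsg.Statements.S0753
import Mathlib

set_option autoImplicit false
open Cfsg

namespace Cfsg.Agent.S0753

/-- If σ is a ring endomorphism of the field F other than the identity and B is a σ-sesquilinear conjugate-symmetric form with B v v = 0 for every v, then B = 0. -/
theorem result {F V : Type*} [Field F] [AddCommGroup V] [Module F V] (σ : F →+* F) (hσ : σ ≠ RingHom.id F) (B : V →ₛₗ[σ] V →ₗ[F] F) (hS : B.IsSymm) (h0 : ∀ v : V, B v v = 0) : B = 0 := by
  -- polarization: B u v + σ (B u v) = 0
  have hpol : ∀ u v : V, B u v + σ (B u v) = 0 := by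
    intro u v
    have h := h0 (u + v)
    simp only [map_add, LinearMap.add_apply, h0, zero_add, add_zero] at h
    rw [LinearMap.isSymm_def.mp hS u v]
    rw [add_comm]; exact h
  by_contra hB
  -- some value is nonzero
  have : ∃ u v : V, B u v ≠ 0 := by
    by_contra hcon
    push Not at hcon
    apply hB
    ext u v
    simpa using hcon u v
  obtain ⟨u, v, huv⟩ := this
  -- all a ∈ F are values: B u (a/c • v) = a
  have hall : ∀ a : F, a + σ a = 0 := by
    intro a
    have h := hpol u ((a / B u v) • v)
    simp only [map_smul, smul_eq_mul] at h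
    rw [div_mul_cancel₀ a huv] at h
    exact h
  apply hσ
  ext a
  have h1 := hall 1
  have ha := hall a
  simp only [map_one] at h1
  -- 1 + 1 = 0, so σ a = -a = a
  have : σ a = -a := by linear_combination ha
  have h2 : (2 : F) = 0 := by linear_combination h1
  simp only [RingHom.id_apply]
  rw [this]
  linear_combination (-a) * h2

end Cfsg.Agent.S0753
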