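import Cfsg.Statements.S0755
import Mathlib
import Cfsg.Agent.Lib.Helper13.OrthoSplit
import Cfsg.Agent.Lib.Helper13.NormSurj
import Cfsg.Agent.S0753

set_option autoImplicit false
open Cfsg

namespace Cfsg.Agent.S0755

open Cfsg.Agent.Helper13

theorem exists_unit_vector.{u, v} {F : Type u} [Field F] [Finite F] (σ : F →+* F)
    (hσ : σ ≠ RingHom.id F) (hσ2 : ∀ a : F, σ (σ a) = a)
    {W : Type v} [AddCommGroup W] [Module F W] [Nontrivial W]
    (BW : W →ₛₗ[σ] W →ₗ[F] F) (hSW : BW.IsSymm) (hBW : BW.Nondegenerate) :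
    ∃ v : W, BW v v = 1 := by
  have hx : ∃ x, BW x x ≠ 0 := by
    by_contra hcon
    push Not at hcon
    have h0 := Cfsg.Agent.S0753.result σ hσ BW hSW hcon
    obtain ⟨w, hw⟩ := exists_ne (0 : W)
    apply hw
    apply hBW.1
    intro y
    rw [h0]; rfl
  obtain ⟨x, hx⟩ := hx
  have hfix : σ (BW x x) = BW x x := hSW.eq x x
  have hfix' : σ (BW x x)⁻¹ = (BW x x)⁻¹ := by rw [map_inv₀, hfix]
  obtain ⟨a, ha⟩ := norm_surj_involution σ hσ hσ2 (BW x x)⁻¹ (inv_ne_zero hx) hfix'
  refine ⟨a • x, ?_⟩
  have e : BW (a • x) (a • x) = σ a * (a * BW x x) := by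
    rw [map_smul, smul_eq_mul, LinearMap.map_smulₛₗ, LinearMap.smul_apply, smul_eq_mul]
    ring
  have : σ a * (a * BW x x) = (a * σ a) * BW x x := by ring
  rw [e, this, ha, inv_mul_cancel₀ hx]

theorem main.{u, v} {F : Type u} {V : Type v} [Field F] [Finite F] [AddCommGroup V] [Module F V] [FiniteDimensional F V] (σ : F →+* F) (hσ : σ ≠ RingHom.id F) (hσ2 : ∀ a : F, σ (σ a) = a) (B : V →ₛₗ[σ] V →ₗ[F] F) (hS : B.IsSymm) (hB : B.Nondegenerate) : ∃ b : Module.Basis (Fin (Module.finrank F V)) F V, ∀ i j, B (b i) (b j) = if i = j then 1 else 0 := by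
  rcases Nat.eq_zero_or_pos (Module.finrank F V) with h0 | hpos
  · have : IsEmpty (Fin (Module.finrank F V)) := by rw [h0]; infer_instance
    exact ⟨Module.finBasis F V, fun i => isEmptyElim i⟩
  · obtain ⟨n, hn⟩ : ∃ n, Module.finrank F V = n + 1 := ⟨Module.finrank F V - 1, by omega⟩
    have base : ∀ {W : Type v} [AddCommGroup W] [Module F W] [FiniteDimensional F W]
        (BW : W →ₛₗ[σ] W →ₗ[F] F), BW.IsSymm → BW.Nondegenerate → Module.finrank F W = 1 →
        ∃ v : W, v ≠ 0 ∧ BW v v = 1 := by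
      intro W _ _ _ BW hSW hBW hW1
      have : Nontrivial W := Module.nontrivial_of_finrank_pos (R := F) (by omega)
      obtain ⟨v, hv⟩ := exists_unit_vector σ hσ hσ2 BW hSW hBW
      refine ⟨v, ?_, hv⟩
      rintro rfl
      simp at hv
    have step : ∀ {W : Type v} [AddCommGroup W] [Module F W] [FiniteDimensional F W]
        (BW : W →ₛₗ[σ] W →ₗ[F] F), BW.IsSymm → BW.Nondegenerate →
        2 ≤ Module.finrank F W → ∃ v : W, BW v v = 1 := by
      intro W _ _ _ BW hSW hBW hW2
      have : Nontrivial W := Module.nontrivial_of_finrank_pos (R := F) (by omega)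
      exact exists_unit_vector σ hσ hσ2 BW hSW hBW
    obtain ⟨v, h1, h2, h3, h4⟩ := exists_ortho_family (σ := σ) (fun c => c = 1) base step n B hS hB hn
    have hall : ∀ i j, B (v i) (v j) = if i = j then 1 else 0 := by
      intro i j
      by_cases hij : i = j
      · subst hij
        rw [if_pos rfl]
        by_cases hi : i = Fin.last n
        · rw [hi]; exact h3
        · exact h2 i hi
      · rw [if_neg hij]; exact h1 i j hij
    have hcard : Fintype.card (Fin (n + 1)) = Module.finrank F V := by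
      rw [Fintype.card_fin, hn]
    refine ⟨(basisOfTopLeSpanOfCardEqFinrank v h4 hcard).reindex (finCongr hn.symm), ?_⟩
    intro i j
    rw [Module.Basis.reindex_apply, Module.Basis.reindex_apply, coe_basisOfTopLeSpanOfCardEqFinrank, hall]
    simp only [EmbeddingLike.apply_eq_iff_eq]

/-- Classification of Hermitian forms over finite fields: if σ is a non-identity involutive automorphism of the finite field F and B is a non-degenerate conjugate-symmetric σ-sesquilinear form on the finite-dimensional space V, then V has a B-orthonormal basis. -/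
theorem result {F V : Type*} [Field F] [Finite F] [AddCommGroup V] [Module F V] [FiniteDimensional F V] (σ : F →+* F) (hσ : σ ≠ RingHom.id F) (hσ2 : ∀ a : F, σ (σ a) = a) (B : V →ₛₗ[σ] V →ₗ[F] F) (hS : B.IsSymm) (hB : B.Nondegenerate) : ∃ b : Module.Basis (Fin (Module.finrank F V)) F V, ∀ i j, B (b i) (b j) = if i = j then 1 else 0 :=
  main σ hσ hσ2 B hS hB

end Cfsg.Agent.S0755
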