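import Cfsg.Statements.S0779
import Mathlib
import Cfsg.Agent.Lib.Helper13.Herm

set_option autoImplicit false
open Cfsg

namespace Cfsg.Agent.S0779

open Matrix Cfsg.Agent.Helper13

theorem herm_transvection {F : Type*} [Field F] [Fintype F] {q : ℕ} (hF : Fintype.card F = q ^ 2)
    (n : ℕ) (v : Fin n → F) (hv0 : Cfsg.hermForm n F q v v = 0) (c : F) (x y : Fin n → F) :
    Cfsg.hermForm n F q ((Cfsg.unitaryTransvection n q v c) *ᵥ x)
      ((Cfsg.unitaryTransvection n q v c) *ᵥ y) =
    Cfsg.hermForm n F q x y + (c ^ q + c) * Cfsg.hermForm n F q x v * Cfsg.hermForm n F q v y := by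
  rw [unitaryTransvection_mulVec, unitaryTransvection_mulVec, hermForm_add_left,
    hermForm_smul_left, hermForm_add_right hF, hermForm_add_right hF, hermForm_smul_right,
    hermForm_smul_right, hv0, mul_pow, hermForm_conj hF]
  ring

/-- Unitary transvections: let |F| = q², h the standard Hermitian form Σ x_i y_i^q and v ≠ 0 with h(v, v) = 0. The linear map x ↦ x + c h(x, v) v is an isometry of h if and only if c = 0 or c^(q−1) = −1. -/
theorem result {F : Type*} [Field F] [Fintype F] {q : ℕ} (hF : Fintype.card F = q ^ 2) (n : ℕ) (v : Fin n → F) (hv : v ≠ 0) (hv0 : Cfsg.hermForm n F q v v = 0) (c : F) : (∀ x y : Fin n → F, Cfsg.hermForm n F q ((Cfsg.unitaryTransvection n q v c).mulVec x) ((Cfsg.unitaryTransvection n q v c).mulVec y) = Cfsg.hermForm n F q x y) ↔ (c = 0 ∨ c ^ (q - 1) = -1) := by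
  have hq : 0 < q := q_pos hF
  have hcq : c ^ q = c ^ (q - 1) * c := by
    rw [← pow_succ]; congr 1; omega
  constructor
  · intro h
    obtain ⟨i, hi⟩ : ∃ i, v i ≠ 0 := by
      by_contra hcon
      push Not at hcon
      exact hv (funext hcon)
    have h1 := h (Pi.single i 1) (Pi.single i 1)
    rw [herm_transvection hF n v hv0] at h1
    have hx : Cfsg.hermForm n F q (Pi.single i 1) v = v i ^ q := by
      unfold Cfsg.hermForm
      rw [Finset.sum_eq_single i]
      · simp
      · intro j _ hji; simp [Pi.single_apply, hji]
      · intro hi'; exact absurd (Finset.mem_univ i) hi'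
    have hy : Cfsg.hermForm n F q v (Pi.single i 1) = v i := by
      unfold Cfsg.hermForm
      rw [Finset.sum_eq_single i]
      · simp
      · intro j _ hji
        simp [Pi.single_apply, hji, hq.ne']
      · intro hi'; exact absurd (Finset.mem_univ i) hi'
    rw [hx, hy] at h1
    have h2 : (c ^ q + c) * v i ^ q * v i = 0 := by
      linear_combination h1
    have h3 : c ^ q + c = 0 := by
      rcases mul_eq_zero.mp h2 with h4 | h4
      · rcases mul_eq_zero.mp h4 with h5 | h5
        · exact h5
        · exact absurd (pow_eq_zero_iff hq.ne' |>.mp h5) hi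
      · exact absurd h4 hi
    rw [hcq] at h3
    by_cases hc : c = 0
    · exact Or.inl hc
    · right
      have : (c ^ (q - 1) + 1) * c = 0 := by linear_combination h3
      rcases mul_eq_zero.mp this with h4 | h4
      · linear_combination h4
      · exact absurd h4 hc
  · intro h x y
    rw [herm_transvection hF n v hv0]
    have : c ^ q + c = 0 := by
      rcases h with rfl | h
      · simp [hq.ne']
      · rw [hcq, h]; ring
    rw [this]; ring

end Cfsg.Agent.S0779
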