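import Cfsg.Statements.S0142
import Cfsg.Agent.Lib.Helper79.CycloNorm
import Cfsg.Agent.Lib.Helper3.CharIntegral
import Cfsg.Agent.Lib.Helper75.CharGalois

set_option autoImplicit false
open Cfsg

namespace Cfsg.Agent.S0142

/-- If the degree of an irreducible complex representation of a finite group is coprime to the size of the conjugacy class of g, then the character at g is zero or has absolute value equal to the degree. -/
theorem result {G : Type*} [Group G] [Finite G] {V : Type*} [AddCommGroup V] [Module ℂ V] [FiniteDimensional ℂ V] (ρ : Representation ℂ G V) [ρ.IsIrreducible] (g : G) (hcop : Nat.Coprime (Module.finrank ℂ V) (Subgroup.centralizer ({g} : Set G)).index) : ρ.character g = 0 ∨ ‖ρ.character g‖ = (Module.finrank ℂ V : ℝ) := by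
  have := Fintype.ofFinite G
  classical
  have hV : Nontrivial V := Cfsg.Agent.Helper3.nontrivial_of_irr ρ
  have hd : Module.finrank ℂ V ≠ 0 := (Module.finrank_pos (R := ℂ) (M := V)).ne'
  have hdC : (Module.finrank ℂ V : ℂ) ≠ 0 := by exact_mod_cast hd
  have h1 := Cfsg.Agent.Helper3.isIntegral_class_mul_char_div ρ g
  have h2 : IsIntegral ℤ (ρ.character g) := Cfsg.Agent.Helper3.char_isIntegral ρ g
  have hα : IsIntegral ℤ (ρ.character g / (Module.finrank ℂ V : ℂ)) := by
    have hb := Nat.gcd_eq_gcd_ab (Module.finrank ℂ V) (Subgroup.centralizer ({g} : Set G)).index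
    rw [hcop] at hb
    have hbC : (1 : ℂ) = (Module.finrank ℂ V : ℂ) * ((Nat.gcdA (Module.finrank ℂ V) (Subgroup.centralizer ({g} : Set G)).index : ℤ) : ℂ)
        + ((Subgroup.centralizer ({g} : Set G)).index : ℂ) * ((Nat.gcdB (Module.finrank ℂ V) (Subgroup.centralizer ({g} : Set G)).index : ℤ) : ℂ) := by
      exact_mod_cast hb
    have key : ρ.character g / (Module.finrank ℂ V : ℂ)
        = ((Nat.gcdA (Module.finrank ℂ V) (Subgroup.centralizer ({g} : Set G)).index : ℤ) : ℂ) * ρ.character g
          + ((Nat.gcdB (Module.finrank ℂ V) (Subgroup.centralizer ({g} : Set G)).index : ℤ) : ℂ)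
            * (((Subgroup.centralizer ({g} : Set G)).index : ℂ) * ρ.character g / (Module.finrank ℂ V : ℂ)) := by
      field_simp
      linear_combination (ρ.character g) * hbC
    rw [key]
    exact (IsIntegral.mul isIntegral_algebraMap h2).add (IsIntegral.mul isIntegral_algebraMap h1)
  obtain ⟨ζ, hζ⟩ := Cfsg.Agent.Helper75.exists_primitiveRoot_card G
  have hN : 0 < Nat.card G := Nat.card_pos
  obtain ⟨F, -, hF⟩ := Cfsg.Agent.Helper75.exists_poly ρ g (Nat.card G) hN (pow_card_eq_one') ζ hζ
  have hg1 : ρ.character g = Polynomial.aeval ζ F := by simpa using hF 1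
  have hbound : ∀ η ∈ primitiveRoots (Nat.card G) ℂ, ‖Polynomial.aeval η F‖ ≤ (Module.finrank ℂ V : ℝ) := by
    intro η hη
    rw [mem_primitiveRoots hN] at hη
    have : NeZero (Nat.card G) := ⟨hN.ne'⟩
    obtain ⟨k, -, hk⟩ := hζ.eq_pow_of_pow_eq_one hη.pow_eq_one
    rw [← hk, ← hF k]
    exact Cfsg.Agent.Helper3.norm_char_le ρ (g ^ k)
  have := Cfsg.Agent.Helper79.cyclo_norm_dichotomy (Nat.card G) hN ζ hζ F (Module.finrank ℂ V) hd
    (by rw [← hg1]; exact hα) hbound
  rw [← hg1] at this
  exact this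

end Cfsg.Agent.S0142
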