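import Cfsg.Statements.S0143
import Cfsg.Agent.S0142
import Cfsg.Agent.Lib.Helper79.Linear

set_option autoImplicit false
open Cfsg

namespace Cfsg.Agent.S0143

open Cfsg.Agent.Helper79

/-- a nontrivial irreducible character of a simple group with trivial centre: if `p ∤ χ(1)` and
the class of `g ≠ 1` has `p`-power size then `χ g = 0` -/
theorem dvd_or_eq_zero {G : Type*} [Group G] [Finite G] [IsSimpleGroup G] (p k : ℕ)
    (g : G) (hg : g ≠ 1) (hclass : (Subgroup.centralizer ({g} : Set G)).index = p ^ k)
    (hp : p.Prime) (hZ : Subgroup.center G = ⊥) (χ : IrrCharacter G) (hχ : χ ≠ trivChar G) :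
    p ∣ charDegree (χ : G → ℂ) ∨ (χ : G → ℂ) g = 0 := by
  have := Fintype.ofFinite G
  classical
  by_cases hdvd : p ∣ charDegree (χ : G → ℂ)
  · exact Or.inl hdvd
  right
  obtain ⟨n, ρ, hρ, hχρ, hker⟩ := irr_exists_rep χ
  have hn : Module.finrank ℂ (Fin n → ℂ) = charDegree (χ : G → ℂ) := by
    have h1 := (irr_one_eq χ).1
    have h2 : (χ : G → ℂ) 1 = ρ.character 1 := by rw [hχρ]
    rw [h2, Representation.char_one] at h1
    exact_mod_cast h1
  have hcop : Nat.Coprime (Module.finrank ℂ (Fin n → ℂ)) (Subgroup.centralizer ({g} : Set G)).index := by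
    rw [hclass, hn]
    apply Nat.Coprime.pow_right
    exact ((Nat.Prime.coprime_iff_not_dvd hp).2 hdvd).symm
  rcases Cfsg.Agent.S0142.result ρ g hcop with h0 | hnorm
  · rw [← hχρ]; exact h0
  exfalso
  obtain ⟨ω, hω⟩ := (Cfsg.Agent.Helper3.norm_char_eq_iff ρ g).1 hnorm
  -- commutators of g lie in the kernel
  have hcomm : ∀ x : G, g * x * g⁻¹ * x⁻¹ ∈ irrKer χ := by
    intro x
    rw [mem_irrKer, hker]
    rw [map_mul, map_mul, map_mul, hω]
    have h1 : ρ g⁻¹ * ρ g = 1 := by rw [← map_mul, inv_mul_cancel, map_one]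
    rw [hω] at h1
    have h2 : ρ x * ρ x⁻¹ = 1 := by rw [← map_mul, mul_inv_cancel, map_one]
    apply LinearMap.ext
    intro v
    have h1v := congrArg (fun f => f (ρ x⁻¹ v)) h1
    have h2v := congrArg (fun f => f v) h2
    simp only [Module.End.mul_apply, LinearMap.smul_apply, LinearMap.id_coe, id_eq,
      Module.End.one_apply] at h1v h2v ⊢
    rw [map_smul] at h1v
    rw [← map_smul, h1v, h2v]
  rcases (irrKer_normal χ).eq_bot_or_eq_top with hbot | htop
  · apply hg
    have hmem : g ∈ Subgroup.center G := by
      rw [Subgroup.mem_center_iff]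
      intro x
      have := hcomm x
      rw [hbot, Subgroup.mem_bot] at this
      have h3 : g * x = x * g := by
        have := congrArg (fun y => y * x * g) this
        simpa [mul_assoc] using this
      exact h3.symm
    rw [hZ, Subgroup.mem_bot] at hmem
    exact hmem
  · apply hχ
    have hall : ∀ x : G, (χ : G → ℂ) x = (χ : G → ℂ) 1 := by
      intro x
      have : x ∈ irrKer χ := by rw [htop]; trivial
      exact this
    by_contra hne
    have h1 := irr_orthonormal χ (trivChar G)
    rw [if_neg hne] at h1
    unfold pair at h1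
    simp only [trivChar_apply, mul_one, hall, Finset.sum_const, Finset.card_univ, nsmul_eq_mul] at h1
    rw [← Nat.card_eq_fintype_card, ← mul_assoc, inv_mul_cancel₀ card_ne_zero_complex, one_mul] at h1
    exact irr_one_ne_zero χ h1

/-- If a finite simple group has a non-identity element whose conjugacy class has prime-power size, then the group has prime order. -/
theorem result {G : Type*} [Group G] [Finite G] [IsSimpleGroup G] (p k : ℕ) (hp : p.Prime) (g : G) (hg : g ≠ 1) (hclass : (Subgroup.centralizer ({g} : Set G)).index = p ^ k) : (Nat.card G).Prime := by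
  have := Fintype.ofFinite G
  classical
  by_cases hcomm : ∀ a b : G, a * b = b * a
  · let inst : CommGroup G := { ‹Group G› with mul_comm := hcomm }
    exact @IsSimpleGroup.prime_card G inst ‹_›
  exfalso
  have hZ : Subgroup.center G = ⊥ := by
    rcases (inferInstance : (Subgroup.center G).Normal).eq_bot_or_eq_top with h | h
    · exact h
    · exfalso
      apply hcomm
      intro a b
      have : b ∈ Subgroup.center G := by rw [h]; trivial
      exact ((Subgroup.mem_center_iff.1 this) a)
  have hk : k ≠ 0 := by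
    rintro rfl
    rw [pow_zero, Subgroup.index_eq_one] at hclass
    apply hg
    have hmem : g ∈ Subgroup.center G := by
      rw [Subgroup.mem_center_iff]
      intro x
      have hx : x ∈ Subgroup.centralizer ({g} : Set G) := by rw [hclass]; trivial
      rw [Subgroup.mem_centralizer_iff] at hx
      exact (hx g rfl).symm
    rw [hZ, Subgroup.mem_bot] at hmem
    exact hmem
  have hsum := sum_degree_mul g hg
  rw [← Finset.add_sum_erase Finset.univ _ (Finset.mem_univ (trivChar G))] at hsum
  simp only [trivChar_apply, mul_one] at hsum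
  set β : ℂ := ∑ χ ∈ Finset.univ.erase (trivChar G),
    ((charDegree (χ : G → ℂ) / p : ℕ) : ℂ) * (χ : G → ℂ) g with hβ
  have hβint : IsIntegral ℤ β := by
    apply IsIntegral.sum
    intro χ _
    exact IsIntegral.mul (isIntegral_natCast _) (irr_isIntegral χ g)
  have hrest : ∑ χ ∈ Finset.univ.erase (trivChar G), (χ : G → ℂ) 1 * (χ : G → ℂ) g = (p : ℂ) * β := by
    rw [hβ, Finset.mul_sum]
    apply Finset.sum_congr rfl
    intro χ hχ
    have hχne : χ ≠ trivChar G := (Finset.mem_erase.1 hχ).1
    rcases dvd_or_eq_zero p k g hg hclass hp hZ χ hχne with hd | h0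
    · rw [(irr_one_eq χ).1]
      obtain ⟨m, hm⟩ := hd
      rw [hm, Nat.mul_div_cancel_left m hp.pos]
      push_cast
      ring
    · rw [h0]; ring
  rw [hrest] at hsum
  have h1 : (-β) * (p : ℂ) = ((1 : ℕ) : ℂ) := by
    push_cast
    linear_combination (-1 : ℂ) * hsum
  have := dvd_of_isIntegral_of_mul_eq (-β) p 1 hp.ne_zero h1 hβint.neg
  exact hp.one_lt.ne' (Nat.dvd_one.1 this)

end Cfsg.Agent.S0143
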