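import Cfsg.Statements.S0144
import Cfsg.Agent.S0143

set_option autoImplicit false
open Cfsg

namespace Cfsg.Agent.S0144

universe u

/-- the simple case of Burnside's two-prime theorem -/
theorem simple_case {G : Type u} [Group G] [Finite G] [IsSimpleGroup G] (p q : ℕ)
    (hp : p.Prime) (hq : q.Prime)
    (hP : ∀ r : ℕ, r.Prime → r ∣ Nat.card G → r = p ∨ r = q) : Group.IsSolvable G := by
  classical
  have hcard0 : Nat.card G ≠ 0 := Nat.card_pos.ne'
  by_cases hqd : q ∣ Nat.card G
  · -- Sylow q-subgroup is nontrivial, take a central element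
    have : Fact q.Prime := ⟨hq⟩
    obtain ⟨Q⟩ : Nonempty (Sylow q G) := inferInstance
    have hQne : (Q : Subgroup G) ≠ ⊥ := Sylow.ne_bot_of_dvd_card Q hqd
    have : Nontrivial (Q : Subgroup G) := (Subgroup.nontrivial_iff_ne_bot _).2 hQne
    have hZ : Nontrivial (Subgroup.center (Q : Subgroup G)) := IsPGroup.center_nontrivial Q.isPGroup'
    obtain ⟨z, hz⟩ := exists_ne (1 : Subgroup.center (Q : Subgroup G))
    set g : G := ((z : (Q : Subgroup G)) : G) with hgdef
    have hg : g ≠ 1 := by
      intro h
      apply hz
      apply Subtype.ext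
      apply Subtype.ext
      rw [hgdef] at h
      simpa using h
    have hle : (Q : Subgroup G) ≤ Subgroup.centralizer ({g} : Set G) := by
      intro x hx
      rw [Subgroup.mem_centralizer_iff]
      intro y hy
      rw [Set.mem_singleton_iff] at hy
      subst hy
      have hzc := z.2
      rw [Subgroup.mem_center_iff] at hzc
      have := hzc ⟨x, hx⟩
      have h2 := congrArg (fun w : (Q : Subgroup G) => (w : G)) this
      simpa using h2.symm
    have hdvd : (Subgroup.centralizer ({g} : Set G)).index ∣ (Q : Subgroup G).index :=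
      Subgroup.index_dvd_of_le hle
    have hQidx : ¬ q ∣ (Q : Subgroup G).index := Sylow.not_dvd_index Q
    have hidx0 : (Subgroup.centralizer ({g} : Set G)).index ≠ 0 := Subgroup.index_ne_zero_of_finite
    have hpow := Nat.eq_prime_pow_of_unique_prime_dvd (p := p) hidx0 (by
      intro r hr hrd
      have h1 : r ∣ Nat.card G := hrd.trans (Subgroup.index_dvd_card _)
      rcases hP r hr h1 with h | h
      · exact h
      · exfalso
        apply hQidx
        subst h
        exact hrd.trans hdvd)
    have hprime := Cfsg.Agent.S0143.result p _ hp g hg hpow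
    have : Fact (Nat.card G).Prime := ⟨hprime⟩
    have : IsCyclic G := isCyclic_of_prime_card rfl
    obtain ⟨c, hc⟩ := IsCyclic.exists_generator (α := G)
    refine Group.isSolvable_of_comm (fun a b => ?_)
    obtain ⟨i, rfl⟩ := Subgroup.mem_zpowers_iff.1 (hc a)
    obtain ⟨j, rfl⟩ := Subgroup.mem_zpowers_iff.1 (hc b)
    rw [← zpow_add, ← zpow_add, add_comm]
  · -- a p-group
    have : Fact p.Prime := ⟨hp⟩
    have hpow := Nat.eq_prime_pow_of_unique_prime_dvd (p := p) hcard0 (by
      intro r hr hrd
      rcases hP r hr hrd with h | h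
      · exact h
      · exfalso; apply hqd; rw [← h]; exact hrd)
    have hpg : IsPGroup p G := IsPGroup.of_card hpow
    have := hpg.isNilpotent
    exact IsNilpotent.to_isSolvable

theorem aux (p q : ℕ) (hp : p.Prime) (hq : q.Prime) : ∀ n : ℕ, ∀ (G : Type u) [Group G] [Finite G],
    Nat.card G = n → (∀ r : ℕ, r.Prime → r ∣ Nat.card G → r = p ∨ r = q) → Group.IsSolvable G := by
  intro n
  induction n using Nat.strong_induction_on with
  | _ n ih =>
    intro G _ _ hn hP
    by_cases hsimple : IsSimpleGroup G
    · exact simple_case p q hp hq hP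
    by_cases htriv : Subsingleton G
    · exact Group.isSolvable_of_comm (fun a b => Subsingleton.elim _ _)
    rw [not_subsingleton_iff_nontrivial] at htriv
    have hex : ∃ N : Subgroup G, N.Normal ∧ N ≠ ⊥ ∧ N ≠ ⊤ := by
      by_contra hcon
      push Not at hcon
      apply hsimple
      refine ⟨fun N hN => ?_⟩
      by_cases hb : N = ⊥
      · exact Or.inl hb
      · exact Or.inr (hcon N hN hb)
    obtain ⟨N, hNn, hNbot, hNtop⟩ := hex
    have hcardN : Nat.card N < n := by
      rw [← hn]
      apply lt_of_le_of_ne (Subgroup.card_le_card_group N)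
      intro h
      exact hNtop ((Subgroup.card_eq_iff_eq_top N).1 h)
    have hcardQ : Nat.card (G ⧸ N) < n := by
      rw [← hn, ← Subgroup.index_eq_card, ← Subgroup.card_mul_index N]
      have h1 : 1 < Nat.card N := by
        rw [Finite.one_lt_card_iff_nontrivial]
        exact (Subgroup.nontrivial_iff_ne_bot _).2 hNbot
      have h2 : 0 < N.index := Nat.pos_of_ne_zero Subgroup.index_ne_zero_of_finite
      nlinarith
    have : Group.IsSolvable N := ih _ hcardN N rfl (by
      intro r hr hrd
      exact hP r hr (hrd.trans (Subgroup.card_subgroup_dvd_card N)))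
    have : Group.IsSolvable (G ⧸ N) := ih _ hcardQ (G ⧸ N) rfl (by
      intro r hr hrd
      apply hP r hr
      rw [← Subgroup.index_eq_card] at hrd
      exact hrd.trans (Subgroup.index_dvd_card N))
    apply Group.isSolvable_of_ker_le_range N.subtype (QuotientGroup.mk' N)
    rw [QuotientGroup.ker_mk', Subgroup.range_subtype]

/-- The Burnside two-prime Theorem: a finite group of order p ^ a * q ^ b, for primes p and q, is solvable. -/
theorem result {G : Type*} [Group G] [Finite G] (p q a b : ℕ) (hp : p.Prime) (hq : q.Prime) (hcard : Nat.card G = p ^ a * q ^ b) : Group.IsSolvable G := by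
  apply aux p q hp hq (Nat.card G) G rfl
  intro r hr hrd
  rw [hcard] at hrd
  rcases (Nat.Prime.dvd_mul hr).1 hrd with h | h
  · left
    exact (Nat.prime_dvd_prime_iff_eq hr hp).1 (hr.dvd_of_dvd_pow h)
  · right
    exact (Nat.prime_dvd_prime_iff_eq hr hq).1 (hr.dvd_of_dvd_pow h)

end Cfsg.Agent.S0144
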