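import Cfsg.Statements.S4343
import Mathlib

set_option autoImplicit false
open Cfsg

namespace Cfsg.Agent.S4343

open scoped Pointwise
open MulAction

section
variable {S : Type*} [Group S] [Finite S] {p : ℕ} [Fact p.Prime]

theorem stab_eq (P Q : Sylow p S) :
    stabilizer (P : Subgroup S) Q = ((P : Subgroup S) ⊓ Q).subgroupOf (P : Subgroup S) := by
  ext ⟨h, hh⟩
  rw [mem_stabilizer_iff, Subgroup.mem_subgroupOf]
  change h • Q = Q ↔ _
  rw [Sylow.smul_eq_iff_mem_normalizer]
  have := P.isPGroup'.inf_normalizer_sylow Q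
  constructor
  · intro h1
    have : h ∈ (P : Subgroup S) ⊓ Subgroup.normalizer (Q : Set S) := ⟨hh, h1⟩
    rwa [P.isPGroup'.inf_normalizer_sylow Q] at this
  · intro h1
    have : h ∈ (P : Subgroup S) ⊓ Subgroup.normalizer (Q : Set S) := by
      rwa [P.isPGroup'.inf_normalizer_sylow Q]
    exact this.2

theorem relIndex_inf_eq (hn : Nat.card (Sylow p S) < p ^ 2) (P Q : Sylow p S) (hPQ : P ≠ Q) :
    ((P : Subgroup S) ⊓ Q).relIndex (P : Subgroup S) = p := by
  have hp : p.Prime := Fact.out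
  rw [Subgroup.relIndex, ← stab_eq, index_stabilizer]
  -- orbit size is a power of p
  have h1 : (orbit (P : Subgroup S) Q).ncard ∣ Nat.card (P : Subgroup S) := by
    rw [← index_stabilizer]; exact Subgroup.index_dvd_card _
  obtain ⟨k, hk⟩ := IsPGroup.iff_card.mp P.isPGroup'
  rw [hk] at h1
  obtain ⟨j, hj, hj'⟩ := (Nat.dvd_prime_pow hp).mp h1
  -- j ≠ 0
  have hj0 : j ≠ 0 := by
    rintro rfl
    rw [pow_zero, ← index_stabilizer, Subgroup.index_eq_one] at hj'
    apply hPQ
    have : Q ∈ fixedPoints (P : Subgroup S) (Sylow p S) := by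
      intro h
      have : h ∈ stabilizer (P : Subgroup S) Q := by rw [hj']; trivial
      exact this
    rw [P.isPGroup'.sylow_mem_fixedPoints_iff] at this
    exact Sylow.ext (P.is_maximal' Q.isPGroup' this).symm
  -- orbit avoids P
  have h2 : orbit (P : Subgroup S) Q ⊆ {P}ᶜ := by
    rintro _ ⟨h, rfl⟩ hmem
    rw [Set.mem_singleton_iff] at hmem
    apply hPQ
    have h3 : (h⁻¹ : (P : Subgroup S)) • P = P := by
      change ((h⁻¹ : (P : Subgroup S)) : S) • P = P
      rw [Sylow.smul_eq_iff_mem_normalizer]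
      exact Subgroup.le_normalizer (h⁻¹).2
    have hmem' : h • Q = P := hmem
    have : (h⁻¹ : (P : Subgroup S)) • P = Q := inv_smul_eq_iff.mpr hmem'.symm
    rw [← this, h3]
  have h3 : (orbit (P : Subgroup S) Q).ncard ≤ Nat.card (Sylow p S) - 1 := by
    have := Set.ncard_le_ncard h2 (Set.toFinite _)
    rw [Set.ncard_compl, Set.ncard_singleton] at this
    exact this
  rw [hj'] at h3 ⊢
  have h4 : p ^ j < p ^ 2 := by omega
  have h5 : j < 2 := (Nat.pow_lt_pow_iff_right hp.one_lt).mp h4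
  have : j = 1 := by omega
  rw [this, pow_one]

theorem card_inf_mul (hn : Nat.card (Sylow p S) < p ^ 2) (P Q : Sylow p S) (hPQ : P ≠ Q) :
    Nat.card ((P : Subgroup S) ⊓ Q : Subgroup S) * p = Nat.card (P : Subgroup S) := by
  have h1 := Subgroup.card_mul_index (((P : Subgroup S) ⊓ Q).subgroupOf (P : Subgroup S))
  rw [← Subgroup.relIndex, relIndex_inf_eq hn P Q hPQ,
    Nat.card_congr (Subgroup.subgroupOfEquivOfLe (inf_le_left)).toEquiv] at h1
  exact h1

theorem inf_normal (hn : Nat.card (Sylow p S) < p ^ 2) (P Q : Sylow p S) (hPQ : P ≠ Q) :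
    (P : Subgroup S) ≤ Subgroup.normalizer (((P : Subgroup S) ⊓ Q : Subgroup S) : Set S) := by
  rw [← Subgroup.normal_subgroupOf_iff_le_normalizer inf_le_left]
  apply Subgroup.normal_of_index_eq_minFac_card
  rw [← Subgroup.relIndex, relIndex_inf_eq hn P Q hPQ]
  obtain ⟨k, hk⟩ := IsPGroup.iff_card.mp P.isPGroup'
  have hk0 : k ≠ 0 := by
    rintro rfl
    have := card_inf_mul hn P Q hPQ
    rw [hk, pow_zero] at this
    have hp : p.Prime := Fact.out
    have := Nat.eq_one_of_mul_eq_one_left this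
    exact hp.one_lt.ne' this
  rw [hk, Nat.pow_minFac hk0, Nat.Prime.minFac_eq Fact.out]

theorem inf_le_sylow (hn : Nat.card (Sylow p S) < p ^ 2) (P Q : Sylow p S) (hPQ : P ≠ Q)
    (R : Sylow p S) : ((P : Subgroup S) ⊓ Q : Subgroup S) ≤ R := by
  set D : Subgroup S := (P : Subgroup S) ⊓ Q with hD
  set N : Subgroup S := Subgroup.normalizer (D : Set S) with hN
  have hPN : (P : Subgroup S) ≤ N := inf_normal hn P Q hPQ
  have hQN : (Q : Subgroup S) ≤ N := by
    have := inf_normal hn Q P (Ne.symm hPQ)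
    rwa [inf_comm] at this
  -- conjugating element
  have hRN : IsPGroup p (((R : Subgroup S) ⊓ N).subgroupOf N) :=
    (R.isPGroup'.to_inf_left).comap_subtype
  obtain ⟨T, hT⟩ := hRN.exists_le_sylow
  obtain ⟨n, hnT⟩ := exists_smul_eq N T (P.subtype hPN)
  have hconj : ∀ y ∈ (R : Subgroup S), y ∈ N → (n : S) * y * (n : S)⁻¹ ∈ (P : Subgroup S) := by
    intro y hyR hyN
    have h1 : (⟨y, hyN⟩ : N) ∈ (T : Subgroup N) := hT (by
      rw [Subgroup.mem_subgroupOf]; exact ⟨hyR, hyN⟩)
    have h2 : MulAut.conj n • (⟨y, hyN⟩ : N) ∈ MulAut.conj n • (T : Subgroup N) :=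
      Subgroup.smul_mem_pointwise_smul _ _ _ h1
    have h3 : MulAut.conj n • (T : Subgroup N) = ((P.subtype hPN : Sylow p N) : Subgroup N) := by
      rw [← hnT]; rfl
    rw [h3, Sylow.coe_subtype, Subgroup.mem_subgroupOf] at h2
    simpa [MulAut.smul_def] using h2
  -- R' = n • R
  set R' : Sylow p S := (n : S) • R with hR'
  have hmemR' : ∀ x : S, x ∈ R' ↔ (n : S)⁻¹ * x * (n : S) ∈ (R : Subgroup S) := by
    intro x
    change x ∈ MulAut.conj (n : S) • (R : Subgroup S) ↔ _
    rw [Subgroup.mem_pointwise_smul_iff_inv_smul_mem]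
    simp [MulAut.smul_def]
  have hle : ((R' : Subgroup S) ⊓ Q : Subgroup S) ≤ D := by
    rintro x ⟨hxR', hxQ⟩
    have hxN : x ∈ N := hQN hxQ
    have h1 : (n : S)⁻¹ * x * (n : S) ∈ (R : Subgroup S) := (hmemR' x).mp hxR'
    have h2 : (n : S)⁻¹ * x * (n : S) ∈ N :=
      N.mul_mem (N.mul_mem (N.inv_mem n.2) hxN) n.2
    have h3 := hconj _ h1 h2
    have h4 : (n : S) * ((n : S)⁻¹ * x * (n : S)) * (n : S)⁻¹ = x := by group
    rw [h4] at h3
    exact ⟨h3, hxQ⟩
  have hR'Q : R' ≠ Q := by
    intro h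
    have h1 : (Q : Subgroup S) ≤ D := by
      intro x hx
      exact hle ⟨h ▸ hx, hx⟩
    have h2 : (Q : Subgroup S) ≤ P := h1.trans inf_le_left
    exact hPQ (Sylow.ext (Q.is_maximal' P.isPGroup' h2))
  have hcard : Nat.card D ≤ Nat.card ((R' : Subgroup S) ⊓ Q : Subgroup S) := by
    have e1 := card_inf_mul hn P Q hPQ
    have e2 := card_inf_mul hn R' Q hR'Q
    have e3 : Nat.card (R' : Subgroup S) = Nat.card (P : Subgroup S) :=
      Nat.card_congr (Sylow.equiv R' P).toEquiv
    have hp : 0 < p := (Fact.out : p.Prime).pos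
    have : Nat.card D * p = Nat.card ((R' : Subgroup S) ⊓ Q : Subgroup S) * p := by
      rw [e1, e2, e3]
    exact (Nat.eq_of_mul_eq_mul_right hp this).le
  have heq : ((R' : Subgroup S) ⊓ Q : Subgroup S) = D := Subgroup.eq_of_le_of_card_ge hle hcard
  intro x hx
  -- n x n⁻¹ ∈ D ≤ R'
  have hxn : (n : S) * x * (n : S)⁻¹ ∈ D := by
    have hnN : (n : S) ∈ Subgroup.normalizer (D : Set S) := n.2
    rw [Subgroup.mem_normalizer_iff] at hnN
    exact (hnN x).mp hx
  have h1 : (n : S) * x * (n : S)⁻¹ ∈ (R' : Subgroup S) := by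
    rw [← heq] at hxn; exact hxn.1
  have h2 := (hmemR' _).mp h1
  have h3 : (n : S)⁻¹ * ((n : S) * x * (n : S)⁻¹) * (n : S) = x := by group
  rwa [h3] at h2


end

/-- Let S be a finite non-abelian simple group and p a prime dividing its order. If S has fewer than p² Sylow p-subgroups, then its Sylow p-subgroups have order p. -/
theorem result {S : Type*} [Group S] [Finite S]
    [IsSimpleGroup S] (hS : ¬ IsMulCommutative S) (p : ℕ) [Fact p.Prime] (hp : p ∣ Nat.card S)
    (hn : Nat.card (Sylow p S) < p ^ 2) (P : Sylow p S) : Nat.card P = p := by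
  have hcore : (P : Subgroup S).normalCore = ⊥ := by
    rcases (P : Subgroup S).normalCore_normal.eq_bot_or_eq_top with h | h
    · exact h
    · exfalso
      have hPtop : (P : Subgroup S) = ⊤ := top_le_iff.mp (h ▸ Subgroup.normalCore_le _)
      have hSp : IsPGroup p S := by
        have h1 : IsPGroup p (⊤ : Subgroup S) := hPtop ▸ P.isPGroup'
        exact h1.of_equiv Subgroup.topEquiv
      have hcn : Nontrivial (Subgroup.center S) := hSp.center_nontrivial
      have hcne : Subgroup.center S ≠ ⊥ := (Subgroup.nontrivial_iff_ne_bot _).mp hcn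
      have hctop : Subgroup.center S = ⊤ :=
        ((inferInstance : (Subgroup.center S).Normal).eq_bot_or_eq_top).resolve_left hcne
      apply hS
      constructor; constructor
      intro a b
      have : b ∈ Subgroup.center S := hctop ▸ Subgroup.mem_top b
      exact (Subgroup.mem_center_iff.mp this a)
  have hPne : (P : Subgroup S) ≠ ⊥ := P.ne_bot_of_dvd_card hp
  obtain ⟨Q, hQ⟩ : ∃ Q : Sylow p S, P ≠ Q := by
    by_contra hcon
    push Not at hcon
    have : Subsingleton (Sylow p S) := ⟨fun a b => (hcon a).symm.trans (hcon b)⟩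
    have hnorm : (P : Subgroup S).Normal := Sylow.normal_of_subsingleton P
    rw [Subgroup.normalCore_eq_self] at hcore
    exact hPne hcore
  have hD : ((P : Subgroup S) ⊓ Q : Subgroup S) = ⊥ := by
    rw [eq_bot_iff, ← hcore]
    intro x hx b
    have h1 := inf_le_sylow hn P Q hQ (b⁻¹ • P) hx
    change x ∈ MulAut.conj b⁻¹ • (P : Subgroup S) at h1
    rw [Subgroup.mem_pointwise_smul_iff_inv_smul_mem] at h1
    simpa [MulAut.smul_def] using h1
  have := card_inf_mul hn P Q hQ
  rw [hD, Subgroup.card_bot, one_mul] at this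
  exact this.symm

end Cfsg.Agent.S4343
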