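import Cfsg.Statements.S4345
import Cfsg.Agent.S4341
import Mathlib

set_option autoImplicit false
open Cfsg

namespace Cfsg.Agent.S4345

open Subgroup

universe u

/-- A nontrivial finite solvable group has a nontrivial normal subgroup of prime exponent.
(Same proof as helper60's `Lib/Helper60/Solvable.lean`.) -/
theorem exists_normal_pgroup {H : Type*} [Group H] [Finite H] [Group.IsSolvable H] [Nontrivial H] :
    ∃ (s : ℕ) (N : Subgroup H), s.Prime ∧ N.Normal ∧ N ≠ ⊥ ∧ IsPGroup s N := by
  classical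
  have hsol : ∃ n, derivedSeries H n = ⊥ := Group.IsSolvable.solvable
  have hn : derivedSeries H (Nat.find hsol) = ⊥ := Nat.find_spec hsol
  have hn0 : Nat.find hsol ≠ 0 := by
    intro h0
    rw [h0, derivedSeries_zero] at hn
    exact top_ne_bot hn
  obtain ⟨m, hm⟩ : ∃ m, Nat.find hsol = m + 1 := ⟨Nat.find hsol - 1, by omega⟩
  have hA : derivedSeries H m ≠ ⊥ := Nat.find_min hsol (by omega)
  have hAA : ⁅derivedSeries H m, derivedSeries H m⁆ = ⊥ := by
    rw [← derivedSeries_succ, ← hm]; exact hn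
  set A := derivedSeries H m with hAdef
  have hAn : A.Normal := derivedSeries_normal H m
  have hcomm : ∀ a ∈ A, ∀ b ∈ A, a * b = b * a := by
    intro a ha b hb
    have := Subgroup.commutator_eq_bot_iff_le_centralizer.mp hAA ha
    rw [Subgroup.mem_centralizer_iff] at this
    exact (this b hb).symm
  have hcard : Nat.card A ≠ 1 := by
    intro h
    exact hA (Subgroup.card_eq_one.mp h)
  set s := (Nat.card A).minFac with hs
  have hsp : s.Prime := Nat.minFac_prime hcard
  have hsdvd : s ∣ Nat.card A := Nat.minFac_dvd _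
  let N : Subgroup H :=
    { carrier := {g | g ∈ A ∧ g ^ s = 1}
      mul_mem' := by
        rintro a b ⟨ha, ha'⟩ ⟨hb, hb'⟩
        refine ⟨A.mul_mem ha hb, ?_⟩
        have hc : Commute a b := hcomm a ha b hb
        rw [hc.mul_pow, ha', hb', one_mul]
      one_mem' := ⟨A.one_mem, one_pow _⟩
      inv_mem' := by
        rintro a ⟨ha, ha'⟩
        exact ⟨A.inv_mem ha, by rw [inv_pow, ha', inv_one]⟩ }
  refine ⟨s, N, hsp, ⟨?_⟩, ?_, ?_⟩
  · rintro a ⟨ha, ha'⟩ g
    refine ⟨hAn.conj_mem a ha g, ?_⟩
    rw [conj_pow, ha', mul_one, mul_inv_cancel]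
  · have := Fact.mk hsp
    obtain ⟨g, hg⟩ := exists_prime_orderOf_dvd_card' s hsdvd
    intro hbot
    have hgN : (g : H) ∈ N := ⟨g.2, by
      have : (g : H) ^ s = ((g ^ s : A) : H) := by simp
      rw [this, ← hg, pow_orderOf_eq_one]; rfl⟩
    rw [hbot, Subgroup.mem_bot] at hgN
    have : g = 1 := Subtype.ext hgN
    rw [this, orderOf_one] at hg
    exact hsp.one_lt.ne hg
  · intro g
    refine ⟨1, ?_⟩
    rw [pow_one]
    exact Subtype.ext g.2.2

/-- `n_p(G) = [K : N_K(P)] · n_p(G/K)` and `[K : N_K(P)] = n_p(PK) ≡ 1 (mod p)`. -/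
theorem card_sylow_eq_mul {G : Type*} [Group G] [Finite G] (p : ℕ) [Fact p.Prime]
    (K : Subgroup G) [K.Normal] (P : Sylow p G) :
    Nat.card (Sylow p G) =
      (normalizer ((P : Subgroup G) : Set G)).relIndex K * Nat.card (Sylow p (G ⧸ K)) ∧
    (normalizer ((P : Subgroup G) : Set G)).relIndex K ≡ 1 [MOD p] := by
  set A : Subgroup G := normalizer ((P : Subgroup G) : Set G) with hA
  constructor
  · rw [Sylow.card_eq_index_normalizer P, S4341.card_sylow_quotient P K,
      ← S4341.relIndex_sup_of_normal A K]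
    exact (relIndex_mul_index le_sup_left).symm
  · have h1 := S4341.card_sylow_of_le P ((P : Subgroup G) ⊔ K) le_sup_left
    have h2 : Nat.card (Sylow p ↥((P : Subgroup G) ⊔ K)) ≡ 1 [MOD p] := card_sylow_modEq_one p _
    rw [h1] at h2
    -- A.relIndex (P ⊔ K) = A.relIndex K
    set A' : Subgroup G := A ⊓ ((P : Subgroup G) ⊔ K) with hA'
    have hPA' : (P : Subgroup G) ≤ A' := le_inf le_normalizer le_sup_left
    have e1 : A' ⊔ K = (P : Subgroup G) ⊔ K :=
      le_antisymm (sup_le inf_le_right le_sup_right) (sup_le_sup_right hPA' K)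
    have e2 : A'.relIndex (A' ⊔ K) = A'.relIndex K := S4341.relIndex_sup_of_normal A' K
    rw [e1, hA', inf_relIndex_right] at e2
    have e3 : (A ⊓ ((P : Subgroup G) ⊔ K)).relIndex K = A.relIndex K := by
      rw [← inf_relIndex_right, inf_assoc, inf_of_le_right (le_sup_right : K ≤ (P : Subgroup G) ⊔ K),
        inf_relIndex_right]
    rw [e2, e3] at h2
    exact h2

theorem aux (p ℓ : ℕ) [Fact p.Prime] (hℓ : ℓ.Prime) :
    ∀ (n : ℕ) (G : Type u) [Group G] [Finite G], Nat.card G = n → Group.IsSolvable G →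
      ℓ ^ (Nat.card (Sylow p G)).factorization ℓ ≡ 1 [MOD p] := by
  intro n
  induction n using Nat.strong_induction_on with
  | _ n ih =>
    intro G _ _ hcard hsol
    rcases subsingleton_or_nontrivial G with hsub | hnt
    · have h1 : Nat.card (Sylow p G) = 1 := by
        have : Subsingleton (Sylow p G) := ⟨fun P Q => Sylow.ext (Subsingleton.elim _ _)⟩
        exact Nat.card_unique
      rw [h1]
      simp [Nat.ModEq]
    · obtain ⟨s, K, hs, hKn, hKne, hKs⟩ := exists_normal_pgroup (H := G)
      obtain ⟨P⟩ := (inferInstance : Nonempty (Sylow p G))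
      obtain ⟨hmul, hmod⟩ := card_sylow_eq_mul p K P
      set r := (normalizer ((P : Subgroup G) : Set G)).relIndex K with hr
      set m := Nat.card (Sylow p (G ⧸ K)) with hm
      -- r is a power of s
      have : Fact s.Prime := ⟨hs⟩
      obtain ⟨a, ha⟩ := IsPGroup.iff_card.mp hKs
      have hrdvd : r ∣ s ^ a := ha ▸ relIndex_dvd_card _ _
      obtain ⟨b, -, hb⟩ := (Nat.dvd_prime_pow hs).mp hrdvd
      -- induction hypothesis for G ⧸ K
      have hlt : Nat.card (G ⧸ K) < n := by
        have h1 := Subgroup.card_eq_card_quotient_mul_card_subgroup K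
        have h2 : 1 < Nat.card K := by
          have := (Subgroup.one_lt_card_iff_ne_bot K).mpr hKne
          exact this
        have h3 : 0 < Nat.card (G ⧸ K) := Nat.card_pos
        rw [← hcard, h1]
        nlinarith
      have hIH : ℓ ^ m.factorization ℓ ≡ 1 [MOD p] :=
        ih _ hlt (G ⧸ K) rfl inferInstance
      have hr0 : r ≠ 0 := by rw [hb]; exact pow_ne_zero _ hs.ne_zero
      have hm0 : m ≠ 0 := Nat.card_pos.ne'
      rw [hmul, Nat.factorization_mul hr0 hm0, Finsupp.add_apply, pow_add]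
      have h1 : ℓ ^ r.factorization ℓ ≡ 1 [MOD p] := by
        rw [hb, Nat.Prime.factorization_pow hs, Finsupp.single_apply]
        split_ifs with h
        · rw [← h, ← hb]; exact hmod
        · simp [Nat.ModEq]
      simpa using h1.mul hIH

/-- Let G be a finite solvable group and p, ℓ primes. Then the largest power of ℓ dividing the number of Sylow p-subgroups of G is congruent to 1 modulo p. -/
theorem result {G : Type*} [Group G] [Finite G]
    (hG : Group.IsSolvable G) (p ℓ : ℕ) [Fact p.Prime] (hℓ : ℓ.Prime) :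
    ℓ ^ (Nat.card (Sylow p G)).factorization ℓ ≡ 1 [MOD p] :=
  aux p ℓ hℓ _ G rfl hG

end Cfsg.Agent.S4345
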