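import Cfsg.Statements.S1010
import Cfsg.Agent.S4341
import Cfsg.Agent.S4343
import Cfsg.Agent.S4345
import Mathlib

set_option autoImplicit false
open Cfsg

namespace Cfsg.Agent.S1010

open Subgroup MulAction
open scoped Pointwise

universe u

theorem fact5 : Fact (Nat.Prime 5) := ⟨by norm_num⟩
theorem fact2 : Fact (Nat.Prime 2) := ⟨Nat.prime_two⟩

attribute [local instance] fact5 fact2


/-- Hypotheses on a (hypothetical) simple group with 21 Sylow 5-subgroups of order 5. -/
structure Cfg (G : Type*) [Group G] [Finite G] : Prop where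
  simple : IsSimpleGroup G
  card21 : Nat.card (Sylow 5 G) = 21
  card5 : ∀ P : Sylow 5 G, Nat.card (P : Subgroup G) = 5

section basic
variable {G : Type*} [Group G] [Finite G]

theorem isPGroup_zpowers {z : G} (hz : z ^ 5 = 1) : IsPGroup 5 (zpowers z) := by
  rintro ⟨g, hg⟩
  obtain ⟨k, rfl⟩ := mem_zpowers_iff.mp hg
  refine ⟨1, ?_⟩
  apply Subtype.ext
  simp only [pow_one, SubmonoidClass.mk_pow, OneMemClass.coe_one]
  rw [← zpow_natCast, ← zpow_mul, mul_comm, zpow_mul, zpow_natCast, hz, one_zpow]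

/-- A `5`-element normalizing a Sylow `5`-subgroup lies in it. -/
theorem mem_of_mem_normalizer {z : G} (hz : z ^ 5 = 1) (Q : Sylow 5 G)
    (hzQ : z ∈ normalizer ((Q : Subgroup G) : Set G)) : z ∈ (Q : Subgroup G) := by
  have h : zpowers z ⊓ normalizer ((Q : Subgroup G) : Set G) = zpowers z ⊓ (Q : Subgroup G) :=
    (isPGroup_zpowers hz).inf_normalizer_sylow Q
  have : z ∈ zpowers z ⊓ normalizer ((Q : Subgroup G) : Set G) := ⟨mem_zpowers z, hzQ⟩
  rw [h] at this
  exact this.2

theorem smul_eq_iff {g : G} {Q : Sylow 5 G} :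
    g • Q = Q ↔ g ∈ normalizer ((Q : Subgroup G) : Set G) := Sylow.smul_eq_iff_mem_normalizer

variable (h : Cfg G)
include h

theorem Cfg.pow_five {P : Sylow 5 G} {z : G} (hz : z ∈ (P : Subgroup G)) : z ^ 5 = 1 := by
  have h1 : (⟨z, hz⟩ : (P : Subgroup G)) ^ Nat.card (P : Subgroup G) = 1 := pow_card_eq_one'
  rw [h.card5 P] at h1
  exact congrArg Subtype.val h1

theorem Cfg.eq_zpowers {P : Sylow 5 G} {z : G} (hz : z ∈ (P : Subgroup G)) (hz1 : z ≠ 1) :
    (P : Subgroup G) = zpowers z := by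
  symm
  apply Subgroup.eq_of_le_of_card_ge
  · rwa [zpowers_le]
  · rw [h.card5 P, Nat.card_zpowers]
    have h5 : orderOf z ∣ 5 := orderOf_dvd_of_pow_eq_one (h.pow_five hz)
    rcases (Nat.dvd_prime (by norm_num : Nat.Prime 5)).mp h5 with h1 | h1
    · exact absurd (orderOf_eq_one_iff.mp h1) hz1
    · exact h1.ge

theorem Cfg.eq_of_mem {P Q : Sylow 5 G} {z : G} (hzP : z ∈ (P : Subgroup G))
    (hzQ : z ∈ (Q : Subgroup G)) (hz1 : z ≠ 1) : P = Q :=
  Sylow.ext ((h.eq_zpowers hzP hz1).trans (h.eq_zpowers hzQ hz1).symm)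

/-- A nontrivial element of `P` fixes only `P`. -/
theorem Cfg.smul_eq_iff_eq {P Q : Sylow 5 G} {z : G} (hzP : z ∈ (P : Subgroup G)) (hz1 : z ≠ 1) :
    z • Q = Q ↔ Q = P := by
  constructor
  · intro hQ
    rw [smul_eq_iff] at hQ
    exact (h.eq_of_mem hzP (mem_of_mem_normalizer (h.pow_five hzP) Q hQ) hz1).symm
  · rintro rfl
    rw [smul_eq_iff]
    exact le_normalizer hzP

/-- The action on the Sylow `5`-subgroups is faithful. -/
theorem Cfg.eq_one_of_smul {g : G} (hg : ∀ Q : Sylow 5 G, g • Q = Q) : g = 1 := by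
  have := h.simple
  let φ := MulAction.toPermHom G (Sylow 5 G)
  have hker : g ∈ φ.ker := by
    rw [MonoidHom.mem_ker]
    exact Equiv.ext fun Q => hg Q
  rcases (MonoidHom.normal_ker φ).eq_bot_or_eq_top with h1 | h1
  · rw [h1, mem_bot] at hker; exact hker
  · exfalso
    have hall : ∀ (x : G) (Q : Sylow 5 G), x • Q = Q := by
      intro x Q
      have hx : x ∈ φ.ker := h1 ▸ mem_top x
      rw [MonoidHom.mem_ker] at hx
      have := congrArg (fun σ : Equiv.Perm (Sylow 5 G) => σ Q) hx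
      simpa [φ] using this
    have hsub : Subsingleton (Sylow 5 G) := by
      constructor
      intro P Q
      obtain ⟨x, rfl⟩ := MulAction.exists_smul_eq G P Q
      exact (hall x P).symm
    have := h.card21
    rw [Nat.card_eq_one_iff_unique.mpr ⟨hsub, ⟨default⟩⟩] at this
    omega

theorem Cfg.card_eq (P : Sylow 5 G) :
    Nat.card G = 21 * Nat.card (normalizer ((P : Subgroup G) : Set G)) := by
  rw [← h.card21, Sylow.card_eq_index_normalizer P, mul_comm]
  exact (Subgroup.card_mul_index (normalizer ((P : Subgroup G) : Set G))).symm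

end basic



section parity
variable {G : Type*} [Group G] [Finite G]

/-- The set of Sylow `5`-subgroups fixed (normalized) by `g`. -/
def Fx (g : G) : Set (Sylow 5 G) := {Q | g • Q = Q}

/-- The number of Sylow `5`-subgroups fixed by `g`. -/
noncomputable def fx (g : G) : ℕ := (Fx g).ncard

theorem mem_Fx {g : G} {Q : Sylow 5 G} : Q ∈ Fx g ↔ g • Q = Q := Iff.rfl

theorem card_fixedPoints_eq [Fintype (Sylow 5 G)] [DecidableEq (Sylow 5 G)] (g : G) :
    Fintype.card (Function.fixedPoints (MulAction.toPerm g : Equiv.Perm (Sylow 5 G))) = fx g := by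
  rw [fx, ← Nat.card_eq_fintype_card, ← Nat.card_coe_set_eq]
  rfl

variable (h : Cfg G)
include h

theorem Cfg.sign_eq_one [Fintype (Sylow 5 G)] [DecidableEq (Sylow 5 G)] (g : G) :
    Equiv.Perm.sign (MulAction.toPerm g : Equiv.Perm (Sylow 5 G)) = 1 := by
  have := h.simple
  let φ : G →* ℤˣ := (Equiv.Perm.sign).comp (MulAction.toPermHom G (Sylow 5 G))
  change φ g = 1
  rcases (MonoidHom.normal_ker φ).eq_bot_or_eq_top with h1 | h1
  · exfalso
    have hinj : Function.Injective φ := (MonoidHom.ker_eq_bot_iff φ).mp h1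
    have hle : Nat.card G ≤ Nat.card ℤˣ := Nat.card_le_card_of_injective φ hinj
    have h2 : Nat.card ℤˣ = 2 := by
      rw [Nat.card_eq_fintype_card]; rfl
    obtain ⟨P⟩ : Nonempty (Sylow 5 G) := inferInstance
    have h3 := h.card_eq P
    have h4 : 0 < Nat.card (normalizer ((P : Subgroup G) : Set G)) := Nat.card_pos
    omega
  · have : g ∈ φ.ker := h1 ▸ mem_top g
    exact MonoidHom.mem_ker.mp this

theorem Cfg.fx_le (g : G) : fx g ≤ 21 := by
  rw [fx, ← h.card21, ← Set.ncard_univ]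
  exact Set.ncard_le_ncard (Set.subset_univ _) Set.finite_univ

/-- An involution fixes `1 mod 4` points. -/
theorem Cfg.fx_mod_four {t : G} (ht : t ^ 2 = 1) : fx t % 4 = 1 := by
  classical
  have : Fintype (Sylow 5 G) := Fintype.ofFinite _
  set σ : Equiv.Perm (Sylow 5 G) := MulAction.toPerm t with hσ
  have hσ2 : σ ^ 2 = 1 := by
    have : σ = MulAction.toPermHom G (Sylow 5 G) t := rfl
    rw [this, ← map_pow, ht, map_one]
  have h1 := Equiv.Perm.sign_of_pow_two_eq_one hσ2
  rw [h.sign_eq_one t, card_fixedPoints_eq, ← Nat.card_eq_fintype_card, h.card21] at h1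
  have h2 : Even ((21 - fx t) / 2) := (neg_one_pow_eq_one_iff_even (by decide)).mp h1.symm
  have h3 : (Equiv.Perm.support σ)ᶜ.card ≡ Fintype.card (Sylow 5 G) [MOD 2] :=
    Equiv.Perm.card_compl_support_modEq (p := 2) (n := 1) (by simpa using hσ2)
  have h4 : (Equiv.Perm.support σ)ᶜ.card = fx t := by
    rw [← card_fixedPoints_eq t, ← hσ, Finset.card_compl, σ.card_fixedPoints, Equiv.Perm.sum_cycleType]
  rw [h4, ← Nat.card_eq_fintype_card, h.card21] at h3
  have h5 := h.fx_le t
  obtain ⟨k, hk⟩ := h2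
  have h6 : fx t % 2 = 1 := h3
  omega

end parity



section modfive
variable {G : Type*} [Group G] [Finite G]

theorem pow_smul_mem {z : G} {S : Set (Sylow 5 G)} (hS : ∀ Q ∈ S, z • Q ∈ S) (n : ℕ) :
    ∀ Q ∈ S, z ^ n • Q ∈ S := by
  induction n with
  | zero => intro Q hQ; simpa using hQ
  | succ n ih =>
    intro Q hQ
    rw [pow_succ', mul_smul]
    exact hS _ (ih Q hQ)

/-- A `z`-invariant set of Sylow subgroups, as a sub-action of `zpowers z`. -/
def subAct (z : G) (S : Set (Sylow 5 G)) (hS : ∀ Q ∈ S, z • Q ∈ S) :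
    SubMulAction (zpowers z) (Sylow 5 G) where
  carrier := S
  smul_mem' := by
    rintro ⟨c, hc⟩ Q hQ
    have hfin : IsOfFinOrder z := isOfFinOrder_of_finite z
    obtain ⟨n, rfl⟩ := (hfin.mem_powers_iff_mem_zpowers).mpr hc
    exact pow_smul_mem hS n Q hQ

variable (h : Cfg G)
include h

/-- A set of Sylow `5`-subgroups containing `P` and invariant under a nontrivial element of `P` has
`1 mod 5` elements. -/
theorem Cfg.ncard_mod_five {P : Sylow 5 G} {z : G} (hzP : z ∈ (P : Subgroup G)) (hz1 : z ≠ 1)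
    (S : Set (Sylow 5 G)) (hS : ∀ Q ∈ S, z • Q ∈ S) (hPS : P ∈ S) : S.ncard % 5 = 1 := by
  have hz5 : z ^ 5 = 1 := h.pow_five hzP
  have h1 := (isPGroup_zpowers hz5).card_modEq_card_fixedPoints (subAct z S hS)
  have h2 : Nat.card (subAct z S hS) = S.ncard := Nat.card_coe_set_eq S
  have h3 : Nat.card (fixedPoints (zpowers z) (subAct z S hS)) = 1 := by
    rw [Nat.card_eq_one_iff_unique]
    refine ⟨⟨?_⟩, ⟨⟨⟨P, hPS⟩, ?_⟩⟩⟩
    · rintro ⟨⟨Q, hQ⟩, hQf⟩ ⟨⟨Q', hQ'⟩, hQf'⟩
      have e1 : z • Q = Q := by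
        have := hQf ⟨z, mem_zpowers z⟩
        exact congrArg Subtype.val this
      have e2 : z • Q' = Q' := by
        have := hQf' ⟨z, mem_zpowers z⟩
        exact congrArg Subtype.val this
      rw [h.smul_eq_iff_eq hzP hz1] at e1 e2
      subst e1; subst e2; rfl
    · rintro ⟨c, hc⟩
      apply Subtype.ext
      change c • P = P
      rw [smul_eq_iff]
      have : c ∈ (P : Subgroup G) := (zpowers_le.mpr hzP) hc
      exact le_normalizer this
  rw [h2, h3] at h1
  exact h1

/-- An element commuting with a nontrivial element of a Sylow `5`-subgroup fixes `1 mod 5` points. -/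
theorem Cfg.fx_mod_five {P : Sylow 5 G} {z g : G} (hzP : z ∈ (P : Subgroup G)) (hz1 : z ≠ 1)
    (hc : Commute g z) : fx g % 5 = 1 := by
  apply h.ncard_mod_five hzP hz1 (Fx g)
  · intro Q hQ
    rw [mem_Fx] at hQ ⊢
    rw [← mul_smul, hc.eq, mul_smul, hQ]
  · rw [mem_Fx, smul_eq_iff, mem_normalizer_iff]
    intro x
    rw [h.eq_zpowers hzP hz1]
    have key : ∀ y : G, y ∈ zpowers z → g * y * g⁻¹ = y := by
      intro y hy
      obtain ⟨k, rfl⟩ := mem_zpowers_iff.mp hy
      have : Commute g (z ^ k) := hc.zpow_right k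
      rw [this.eq, mul_inv_cancel_right]
    constructor
    · intro hx
      rw [key x hx]; exact hx
    · intro hx
      have : g⁻¹ * (g * x * g⁻¹) * g = x := by group
      have hc' : Commute g⁻¹ z := hc.inv_left
      have key' : ∀ y : G, y ∈ zpowers z → g⁻¹ * y * g = y := by
        intro y hy
        obtain ⟨k, rfl⟩ := mem_zpowers_iff.mp hy
        have : Commute g⁻¹ (z ^ k) := hc'.zpow_right k
        rw [this.eq, inv_mul_cancel_right]
      rw [← this, key' _ hx]; exact hx

end modfive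



section F1
variable {G : Type*} [Group G] [Finite G]

theorem conj_mem_of_smul_eq {g : G} {P : Sylow 5 G} (hg : g • P = P) {z : G}
    (hz : z ∈ (P : Subgroup G)) : g * z * g⁻¹ ∈ (P : Subgroup G) := by
  rw [smul_eq_iff, mem_normalizer_iff] at hg
  exact (hg z).mp hz

theorem inv_smul_eq_of_smul_eq {g : G} {P : Sylow 5 G} (hg : g • P = P) : g⁻¹ • P = P := by
  rw [inv_smul_eq_iff, hg]

/-- The map `(Q, p) ↦ p • Q` from (fixed points of `g` other than `P`) × `P`. -/
def orbMap (P : Sylow 5 G) (g : G) :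
    (↥(Fx g \ {P}) × (P : Subgroup G)) → ↥({P}ᶜ : Set (Sylow 5 G)) :=
  fun x => ⟨(x.2 : G) • (x.1 : Sylow 5 G), by
    intro hx
    rw [Set.mem_singleton_iff] at hx
    have h1 : (x.1 : Sylow 5 G) = (x.2 : G)⁻¹ • P := eq_inv_smul_iff.mpr hx
    have h2 : (x.2 : G)⁻¹ • P = P := by
      rw [smul_eq_iff]; exact le_normalizer (inv_mem x.2.2)
    exact x.1.2.2 (by rw [Set.mem_singleton_iff, h1, h2])⟩

variable (h : Cfg G)
include h

/-- If `g` normalizes but does not centralize `P`, then a `P`-orbit other than `{P}` contains at most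
one fixed point of `g`. -/
theorem Cfg.not_mem_Fx {P : Sylow 5 G} {g : G} (hg : g • P = P)
    (hnc : ∀ z ∈ (P : Subgroup G), z ≠ 1 → ¬ Commute g z)
    {Q : Sylow 5 G} (hQ : Q ∈ Fx g) (hQP : Q ≠ P) {p : G} (hp : p ∈ (P : Subgroup G)) (hp1 : p ≠ 1) :
    p • Q ∉ Fx g := by
  intro hpQ
  rw [mem_Fx] at hQ hpQ
  set c : G := g⁻¹ * p⁻¹ * g * p with hc
  have hcQ : c • Q = Q := by
    rw [hc, mul_smul, mul_smul, mul_smul, hpQ, inv_smul_smul, inv_smul_eq_iff, hQ]
  have hcP : c ∈ (P : Subgroup G) := by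
    have h1 : g⁻¹ * p⁻¹ * g⁻¹⁻¹ ∈ (P : Subgroup G) :=
      conj_mem_of_smul_eq (inv_smul_eq_of_smul_eq hg) (inv_mem hp)
    rw [inv_inv] at h1
    exact mul_mem h1 hp
  by_cases hc1 : c = 1
  · apply hnc p hp hp1
    have : g * p = p * g := by
      have h2 : g⁻¹ * p⁻¹ * g * p = 1 := hc1
      have h3 : p * g * (g⁻¹ * p⁻¹ * g * p) = g * p := by group
      rw [h2, mul_one] at h3
      exact h3.symm
    exact this
  · exact hQP ((h.smul_eq_iff_eq hcP hc1).mp hcQ)

theorem Cfg.orbMap_injective {P : Sylow 5 G} {g : G} (hg : g • P = P)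
    (hnc : ∀ z ∈ (P : Subgroup G), z ≠ 1 → ¬ Commute g z) :
    Function.Injective (orbMap P g) := by
  rintro ⟨⟨Q, hQ, hQP⟩, ⟨p, hp⟩⟩ ⟨⟨Q', hQ', hQP'⟩, ⟨p', hp'⟩⟩ he
  have he' : p • Q = p' • Q' := congrArg Subtype.val he
  have h1 : Q' = (p'⁻¹ * p) • Q := by rw [mul_smul, he', inv_smul_smul]
  have hpp : p'⁻¹ * p = 1 := by
    by_contra hne
    have := h.not_mem_Fx hg hnc hQ (by simpa using hQP) (mul_mem (inv_mem hp') hp) hne
    rw [← h1] at this
    exact this hQ'
  have hpe : p = p' := by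
    have := inv_mul_eq_one.mp hpp
    exact this.symm
  subst hpe
  have hQe : Q = Q' := by rw [h1, hpp, one_smul]
  subst hQe
  rfl

theorem Cfg.ncard_compl_singleton (P : Sylow 5 G) : ({P}ᶜ : Set (Sylow 5 G)).ncard = 20 := by
  rw [Set.ncard_compl, Set.ncard_singleton, h.card21]

theorem Cfg.card_domain {P : Sylow 5 G} {g : G} (hg : g • P = P) :
    Nat.card (↥(Fx g \ {P}) × (P : Subgroup G)) = (fx g - 1) * 5 := by
  rw [Nat.card_prod, h.card5 P, Nat.card_coe_set_eq, Set.ncard_sdiff_singleton_of_mem (show P ∈ Fx g from hg)]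
  rfl

/-- If `g` normalizes but does not centralize `P`, then `g` has at most `5` fixed points. -/
theorem Cfg.fx_le_five {P : Sylow 5 G} {g : G} (hg : g • P = P)
    (hnc : ∀ z ∈ (P : Subgroup G), z ≠ 1 → ¬ Commute g z) : fx g ≤ 5 := by
  have h1 := Nat.card_le_card_of_injective _ (h.orbMap_injective hg hnc)
  rw [h.card_domain hg, Nat.card_coe_set_eq, h.ncard_compl_singleton] at h1
  omega

/-- If moreover `g` has exactly `5` fixed points, every `P`-orbit contains one. -/
theorem Cfg.exists_eq_smul {P : Sylow 5 G} {g : G} (hg : g • P = P)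
    (hnc : ∀ z ∈ (P : Subgroup G), z ≠ 1 → ¬ Commute g z) (h5 : fx g = 5)
    (Q' : Sylow 5 G) : ∃ Q ∈ Fx g, ∃ p ∈ (P : Subgroup G), Q' = p • Q := by
  by_cases hQ' : Q' = P
  · refine ⟨P, hg, 1, one_mem _, ?_⟩
    rw [one_smul, hQ']
  · have hbij : Function.Bijective (orbMap P g) := by
      apply Function.Injective.bijective_of_nat_card_le (h.orbMap_injective hg hnc)
      rw [h.card_domain hg, Nat.card_coe_set_eq, h.ncard_compl_singleton, h5]
    obtain ⟨⟨⟨Q, hQ, hQP⟩, ⟨p, hp⟩⟩, hx⟩ := hbij.2 ⟨Q', by simpa using hQ'⟩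
    refine ⟨Q, hQ, p, hp, ?_⟩
    exact (congrArg Subtype.val hx).symm

end F1



section invol
variable {G : Type*} [Group G] [Finite G]

variable (h : Cfg G)
include h

theorem Cfg.eq_one_of_fx {g : G} (hg : fx g = 21) : g = 1 := by
  apply h.eq_one_of_smul
  have : Fx g = Set.univ := by
    apply Set.eq_of_subset_of_ncard_le (Set.subset_univ _) _ Set.finite_univ
    rw [Set.ncard_univ, h.card21]
    exact hg.ge
  intro Q
  have : Q ∈ Fx g := this ▸ Set.mem_univ Q
  exact this

theorem Cfg.exists_fixed {t : G} (ht : t ^ 2 = 1) : ∃ P : Sylow 5 G, t • P = P := by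
  have h1 := h.fx_mod_four ht
  have h2 : (Fx t).ncard ≠ 0 := by
    change fx t ≠ 0
    omega
  obtain ⟨P, hP⟩ := Set.nonempty_of_ncard_ne_zero h2
  exact ⟨P, hP⟩

/-- An involution has exactly one or exactly five fixed points. -/
theorem Cfg.fx_involution {t : G} (ht : t ^ 2 = 1) (ht1 : t ≠ 1) : fx t = 1 ∨ fx t = 5 := by
  obtain ⟨P, hP⟩ := h.exists_fixed ht
  have h4 := h.fx_mod_four ht
  by_cases hc : ∃ z ∈ (P : Subgroup G), z ≠ 1 ∧ Commute t z
  · obtain ⟨z, hzP, hz1, hcz⟩ := hc
    have h5 := h.fx_mod_five hzP hz1 hcz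
    have hle := h.fx_le t
    have hne : fx t ≠ 21 := fun h21 => ht1 (h.eq_one_of_fx h21)
    left; omega
  · push Not at hc
    have hle := h.fx_le_five hP (fun z hz hz1 => hc z hz hz1)
    omega

/-- An involution with five fixed points does not centralize any of the Sylow subgroups it fixes. -/
theorem Cfg.not_commute_of_fx_five {t : G} (h5 : fx t = 5) {P : Sylow 5 G} :
    ∀ z ∈ (P : Subgroup G), z ≠ 1 → ¬ Commute t z := by
  intro z hz hz1 hc
  have := h.fx_mod_five hz hz1 hc
  omega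

theorem Cfg.commute_of_mem {P : Sylow 5 G} {a b : G} (ha : a ∈ (P : Subgroup G))
    (hb : b ∈ (P : Subgroup G)) : Commute a b := by
  by_cases ha1 : a = 1
  · rw [ha1]; exact Commute.one_left b
  · rw [h.eq_zpowers ha ha1] at hb
    obtain ⟨k, rfl⟩ := mem_zpowers_iff.mp hb
    exact (Commute.refl a).zpow_right k

/-- An involution with five fixed points inverts the Sylow subgroups it fixes. -/
theorem Cfg.conj_eq_inv {t : G} (ht : t ^ 2 = 1) (h5 : fx t = 5) {P : Sylow 5 G} (hP : t • P = P)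
    {z : G} (hz : z ∈ (P : Subgroup G)) : t * z * t⁻¹ = z⁻¹ := by
  have htz : t * z * t⁻¹ ∈ (P : Subgroup G) := conj_mem_of_smul_eq hP hz
  set w : G := z * (t * z * t⁻¹) with hw
  have hwP : w ∈ (P : Subgroup G) := mul_mem hz htz
  have htt : t⁻¹ = t := by
    rw [inv_eq_iff_mul_eq_one, ← pow_two, ht]
  have hcw : Commute t w := by
    have hzc : Commute z (t * z * t⁻¹) := h.commute_of_mem hz htz
    change t * w = w * t
    have e1 : t * w = (t * z * t⁻¹) * (t * (t * z * t⁻¹)) := by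
      rw [hw]; group
    have e2 : t * (t * z * t⁻¹) = z * t := by
      rw [htt]
      have : t * (t * z * t) = (t ^ 2) * z * t := by rw [pow_two]; group
      rw [this, ht, one_mul]
    rw [e1, e2, ← mul_assoc, ← hzc.eq]
  by_contra hne
  have hw1 : w ≠ 1 := by
    intro hw1
    apply hne
    have : z * (t * z * t⁻¹) = 1 := hw1
    exact (eq_inv_of_mul_eq_one_right this)
  exact h.not_commute_of_fx_five h5 w hwP hw1 hcw

end invol



section main
variable {G : Type*} [Group G] [Finite G]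

/-- `g` maps every Sylow `5`-subgroup into its own `P`-orbit. -/
def PresOrb (P : Sylow 5 G) (g : G) : Prop :=
  ∀ Q' : Sylow 5 G, ∃ p ∈ (P : Subgroup G), g • Q' = p • Q'

theorem presOrb_mul {P : Sylow 5 G} {g' g : G} (hg' : g' • P = P) (h1 : PresOrb P g')
    (h2 : PresOrb P g) : PresOrb P (g' * g) := by
  intro Q'
  obtain ⟨p, hp, hpQ⟩ := h2 Q'
  obtain ⟨p', hp', hpQ'⟩ := h1 Q'
  refine ⟨(g' * p * g'⁻¹) * p', mul_mem (conj_mem_of_smul_eq hg' hp) hp', ?_⟩
  rw [mul_smul, hpQ, mul_smul, ← hpQ', ← mul_smul, ← mul_smul]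
  congr 1
  group

theorem fx_conj (a g : G) : fx (a * g * a⁻¹) = fx g := by
  have : Fx (a * g * a⁻¹) = (fun Q : Sylow 5 G => a • Q) '' Fx g := by
    ext Q
    simp only [Set.mem_image, mem_Fx]
    constructor
    · intro hQ
      refine ⟨a⁻¹ • Q, ?_, smul_inv_smul a Q⟩
      calc g • a⁻¹ • Q = a⁻¹ • ((a * g * a⁻¹) • Q) := by
            rw [mul_smul, mul_smul, inv_smul_smul]
        _ = a⁻¹ • Q := by rw [hQ]
    · rintro ⟨Q, hQ, rfl⟩
      rw [mul_smul, mul_smul, inv_smul_smul, hQ]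
  rw [fx, this, Set.ncard_image_of_injective _ (MulAction.injective a)]
  rfl

variable (h : Cfg G)
include h

theorem Cfg.presOrb_of_fx_five {t : G} (ht : t ^ 2 = 1) (h5 : fx t = 5) {P : Sylow 5 G}
    (hP : t • P = P) : PresOrb P t := by
  intro Q'
  obtain ⟨Q₁, hQ₁, p₁, hp₁, rfl⟩ :=
    h.exists_eq_smul hP (h.not_commute_of_fx_five h5) h5 Q'
  refine ⟨p₁⁻¹ * p₁⁻¹, mul_mem (inv_mem hp₁) (inv_mem hp₁), ?_⟩
  have e1 : t * p₁ = (t * p₁ * t⁻¹) * t := by group
  rw [← mul_smul, e1, h.conj_eq_inv ht h5 hP hp₁, mul_smul, (show t • Q₁ = Q₁ from hQ₁),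
    ← mul_smul, mul_assoc, inv_mul_cancel, mul_one]

/-- An element centralizing `P` and preserving every `P`-orbit lies in `P`. -/
theorem Cfg.mem_of_presOrb {P : Sylow 5 G} {g : G} (hgP : g • P = P)
    (hc : ∀ z ∈ (P : Subgroup G), Commute g z) (hg : PresOrb P g) : g ∈ (P : Subgroup G) := by
  have h5 : g ^ 5 = 1 := by
    apply h.eq_one_of_smul
    intro Q'
    obtain ⟨p, hp, hpQ⟩ := hg Q'
    have key : ∀ n : ℕ, g ^ n • Q' = p ^ n • Q' := by
      intro n
      induction n with
      | zero => simp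
      | succ n ih =>
        rw [pow_succ, mul_smul, hpQ, ← mul_smul, ((hc p hp).pow_left n).eq, mul_smul, ih,
          ← mul_smul, ← pow_succ']
    rw [key 5, h.pow_five hp, one_smul]
  exact mem_of_mem_normalizer h5 P (smul_eq_iff.mp hgP)

/-- Two involutions with five fixed points normalizing `P` are conjugate under `P`. -/
theorem Cfg.exists_conj {t t' : G} (ht : t ^ 2 = 1) (h5 : fx t = 5) (ht' : t' ^ 2 = 1)
    (h5' : fx t' = 5) {P : Sylow 5 G} (hP : t • P = P) (hP' : t' • P = P) :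
    ∃ p ∈ (P : Subgroup G), t' = p * t * p⁻¹ := by
  set g : G := t' * t with hg
  have htt : t⁻¹ = t := by rw [inv_eq_iff_mul_eq_one, ← pow_two, ht]
  have htt' : t'⁻¹ = t' := by rw [inv_eq_iff_mul_eq_one, ← pow_two, ht']
  have hgP : g • P = P := by rw [hg, mul_smul, hP, hP']
  have hgc : ∀ z ∈ (P : Subgroup G), Commute g z := by
    intro z hz
    have e1 := h.conj_eq_inv ht h5 hP hz
    have e2 := h.conj_eq_inv ht' h5' hP' (inv_mem hz)
    rw [inv_inv] at e2
    change g * z = z * g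
    have e3 : g * z * g⁻¹ = z := by
      have : g * z * g⁻¹ = t' * (t * z * t⁻¹) * t'⁻¹ := by rw [hg]; group
      rw [this, e1, e2]
    calc g * z = g * z * g⁻¹ * g := by group
      _ = z * g := by rw [e3]
  have hgo : PresOrb P g :=
    presOrb_mul hP' (h.presOrb_of_fx_five ht' h5' hP') (h.presOrb_of_fx_five ht h5 hP)
  have hgmem : g ∈ (P : Subgroup G) := h.mem_of_presOrb hgP hgc hgo
  have hg5 : g ^ 5 = 1 := h.pow_five hgmem
  refine ⟨g ^ 3, pow_mem hgmem 3, ?_⟩
  have e1 := h.conj_eq_inv ht h5 hP (inv_mem (pow_mem hgmem 3))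
  rw [inv_inv] at e1
  have e2 : g ^ 3 * t * (g ^ 3)⁻¹ = g ^ 3 * (t * (g ^ 3)⁻¹ * t⁻¹) * t := by group
  rw [e2, e1, ← pow_add]
  have e3 : g ^ (3 + 3) = g := by
    rw [show 3 + 3 = 5 + 1 from rfl, pow_add, hg5, one_mul, pow_one]
  rw [e3, hg, mul_assoc, ← pow_two, ht, mul_one]

/-- No involution has exactly five fixed points. -/
theorem Cfg.fx_ne_five {t : G} (ht : t ^ 2 = 1) : fx t ≠ 5 := by
  intro h5
  obtain ⟨P, hP⟩ := h.exists_fixed ht
  obtain ⟨C, hC⟩ : ∃ C : Subgroup G, C = Subgroup.centralizer ({t} : Set G) := ⟨_, rfl⟩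
  have hmemC : ∀ x : G, x ∈ C ↔ t * x = x * t := by
    intro x
    rw [hC, mem_centralizer_iff]
    simp
  have horb : orbit C P = Fx t := by
    ext Q
    constructor
    · rintro ⟨⟨c, hc⟩, rfl⟩
      change t • (c • P) = c • P
      have hct : t * c = c * t := (hmemC c).mp hc
      rw [← mul_smul, hct, mul_smul, hP]
    · intro hQ
      obtain ⟨a, rfl⟩ := MulAction.exists_smul_eq G P Q
      set t' : G := a⁻¹ * t * a with ht'
      have ht'2 : t' ^ 2 = 1 := by
        have : t' ^ 2 = a⁻¹ * t ^ 2 * a := by rw [ht', pow_two, pow_two]; group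
        rw [this, ht]; group
      have h5' : fx t' = 5 := by
        have := fx_conj a⁻¹ t
        rw [inv_inv] at this
        rw [ht', this, h5]
      have hP' : t' • P = P := by
        rw [ht', mul_smul, mul_smul, (show t • a • P = a • P from hQ), inv_smul_smul]
      obtain ⟨p, hp, hpe⟩ := h.exists_conj ht h5 ht'2 h5' hP hP'
      have hmem : a * p ∈ C := by
        rw [hmemC]
        have e1 : a⁻¹ * t * a = p * t * p⁻¹ := hpe
        calc t * (a * p) = a * (a⁻¹ * t * a) * p := by group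
          _ = a * (p * t * p⁻¹) * p := by rw [e1]
          _ = a * p * t := by group
      refine ⟨⟨a * p, hmem⟩, ?_⟩
      change (a * p) • P = a • P
      rw [mul_smul]
      congr 1
      rw [smul_eq_iff]
      exact le_normalizer hp
  have hdvd : 5 ∣ Nat.card C := by
    have h1 : (stabilizer C P).index = (orbit C P).ncard := MulAction.index_stabilizer C P
    rw [horb] at h1
    have h2 : (Fx t).ncard = 5 := h5
    rw [h2] at h1
    rw [← h1]
    exact Subgroup.index_dvd_card _
  obtain ⟨c, hc⟩ := exists_prime_orderOf_dvd_card' (G := C) 5 hdvd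
  have hz5 : orderOf (c : G) = 5 := by rw [Subgroup.orderOf_coe, hc]
  have hz1 : (c : G) ≠ 1 := by
    intro h1
    rw [h1, orderOf_one] at hz5
    omega
  have hzp : (c : G) ^ 5 = 1 := by rw [← hz5]; exact pow_orderOf_eq_one _
  obtain ⟨Q, hQ⟩ := (isPGroup_zpowers hzp).exists_le_sylow
  have hcomm : Commute t (c : G) := (hmemC c).mp c.2
  have := h.fx_mod_five (hQ (mem_zpowers _)) hz1 hcomm
  omega

/-- Every involution has exactly one fixed point. -/
theorem Cfg.fx_involution_eq_one {t : G} (ht : t ^ 2 = 1) (ht1 : t ≠ 1) : fx t = 1 :=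
  (h.fx_involution ht ht1).resolve_right (h.fx_ne_five ht)

end main



section transfer
variable {G : Type*} [Group G] [Finite G]

omit [Finite G] in
theorem mem_of_sq_mem_of_odd_pow_mem (H : Subgroup G) {x : G} {m : ℕ} (hm : Odd m)
    (h2 : x ^ 2 ∈ H) (hm' : x ^ m ∈ H) : x ∈ H := by
  obtain ⟨j, rfl⟩ := hm
  have h3 : x ^ (2 * j) ∈ H := by rw [pow_mul]; exact pow_mem h2 j
  have : x = (x ^ (2 * j))⁻¹ * x ^ (2 * j + 1) := by rw [pow_succ]; group
  rw [this]; exact mul_mem (inv_mem h3) hm'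

theorem isPGroup_zpowers' {p : ℕ} [Fact p.Prime] {z : G} {k : ℕ} (hz : z ^ p ^ k = 1) :
    IsPGroup p (zpowers z) := by
  have h1 : orderOf z ∣ p ^ k := orderOf_dvd_of_pow_eq_one hz
  obtain ⟨j, -, hj⟩ := (Nat.dvd_prime_pow Fact.out).mp h1
  apply IsPGroup.of_card (n := j)
  rw [Nat.card_zpowers, hj]

/-- In a simple group, a nontrivial proper Sylow subgroup is not central in its normalizer
(Burnside's transfer theorem). -/
theorem not_normalizer_le_centralizer [IsSimpleGroup G] {p : ℕ} [Fact p.Prime] (S : Sylow p G)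
    (h1 : 1 < Nat.card (S : Subgroup G)) (h2 : Nat.card (S : Subgroup G) < Nat.card G) :
    ¬ normalizer ((S : Subgroup G) : Set G) ≤ centralizer ((S : Subgroup G) : Set G) := by
  intro hle
  have hK := MonoidHom.ker_transferSylow_isComplement' S hle
  have hcard := hK.card_mul_card
  rcases (MonoidHom.normal_ker (MonoidHom.transferSylow S hle)).eq_bot_or_eq_top with h3 | h3
  · rw [h3, Subgroup.card_bot, one_mul] at hcard
    omega
  · rw [h3, Subgroup.card_top] at hcard
    have hpos : 0 < Nat.card G := Nat.card_pos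
    have : Nat.card G * Nat.card (S : Subgroup G) = Nat.card G * 1 := by rw [hcard, mul_one]
    have := Nat.eq_of_mul_eq_mul_left hpos this
    omega

variable (h : Cfg G)
include h

theorem Cfg.card_mulAut (P : Sylow 5 G) : Nat.card (MulAut (P : Subgroup G)) = 4 := by
  have hcyc : IsCyclic (P : Subgroup G) := isCyclic_of_prime_card (h.card5 P)
  rw [IsCyclic.card_mulAut, h.card5 P, Nat.totient_prime (by norm_num : Nat.Prime 5)]

theorem Cfg.commute_of_hom_eq_one {P : Sylow 5 G}
    (x : normalizer ((P : Subgroup G) : Set G))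
    (hx : (P : Subgroup G).normalizerMonoidHom x = 1) :
    ∀ z ∈ (P : Subgroup G), Commute (x : G) z := by
  have h1 : x ∈ ((P : Subgroup G).normalizerMonoidHom).ker := hx
  rw [normalizerMonoidHom_ker, mem_subgroupOf, mem_centralizer_iff] at h1
  intro z hz
  exact (h1 z hz).symm

theorem Cfg.pow_four_commute {P : Sylow 5 G} {g : G} (hg : g • P = P) :
    ∀ z ∈ (P : Subgroup G), Commute (g ^ 4) z := by
  let g' : normalizer ((P : Subgroup G) : Set G) := ⟨g, smul_eq_iff.mp hg⟩
  have h1 : ((P : Subgroup G).normalizerMonoidHom g') ^ 4 = 1 := by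
    rw [← h.card_mulAut P]; exact pow_card_eq_one'
  rw [← map_pow] at h1
  exact h.commute_of_hom_eq_one (g' ^ 4) h1

theorem Cfg.comm_commute {P : Sylow 5 G} {g s : G} (hg : g • P = P) (hs : s • P = P) :
    ∀ z ∈ (P : Subgroup G), Commute (g * s * g⁻¹ * s⁻¹) z := by
  let g' : normalizer ((P : Subgroup G) : Set G) := ⟨g, smul_eq_iff.mp hg⟩
  let s' : normalizer ((P : Subgroup G) : Set G) := ⟨s, smul_eq_iff.mp hs⟩
  have hcyc : IsCyclic (P : Subgroup G) := isCyclic_of_prime_card (h.card5 P)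
  have hcomm : ∀ a b : MulAut (P : Subgroup G), a * b = b * a := by
    intro a b
    apply (IsCyclic.mulAutMulEquiv (P : Subgroup G)).injective
    rw [map_mul, map_mul, mul_comm]
  have h1 : (P : Subgroup G).normalizerMonoidHom (g' * s' * g'⁻¹ * s'⁻¹) = 1 := by
    rw [map_mul, map_mul, map_mul, map_inv, map_inv,
      hcomm ((P : Subgroup G).normalizerMonoidHom g') ((P : Subgroup G).normalizerMonoidHom s')]
    group
  exact h.commute_of_hom_eq_one (g' * s' * g'⁻¹ * s'⁻¹) h1

end transfer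



section final
variable {G : Type*} [Group G] [Finite G]

omit [Finite G] in
theorem pow_smul_eq {g : G} {Q : Sylow 5 G} (hQ : g • Q = Q) (n : ℕ) : g ^ n • Q = Q := by
  induction n with
  | zero => simp
  | succ n ih => rw [pow_succ, mul_smul, hQ, ih]

variable (h : Cfg G)
include h

/-- A nontrivial `2`-element has at most one fixed point. -/
theorem Cfg.fx_le_one_of_two_pow {s : G} {k : ℕ} (hs : s ^ 2 ^ k = 1) (hs1 : s ≠ 1) : fx s ≤ 1 := by
  classical
  have hex : ∃ k, s ^ 2 ^ k = 1 := ⟨k, hs⟩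
  set j := Nat.find hex with hj
  have hj1 : s ^ 2 ^ j = 1 := Nat.find_spec hex
  have hj0 : j ≠ 0 := by
    intro h0
    rw [h0, pow_zero, pow_one] at hj1
    exact hs1 hj1
  obtain ⟨i, hi⟩ := Nat.exists_eq_succ_of_ne_zero hj0
  have hi1 : s ^ 2 ^ i ≠ 1 := by
    have : i < j := by omega
    exact Nat.find_min hex this
  have hi2 : (s ^ 2 ^ i) ^ 2 = 1 := by
    rw [← pow_mul, ← pow_succ, ← Nat.succ_eq_add_one, ← hi]; exact hj1
  have h1 := h.fx_involution_eq_one hi2 hi1
  rw [← h1]
  apply Set.ncard_le_ncard _ (Set.toFinite _)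
  intro Q hQ
  exact pow_smul_eq hQ _

/-- There is a `2`-element normalizing but not centralizing some Sylow `5`-subgroup. -/
theorem Cfg.exists_two_elt : ∃ (P : Sylow 5 G) (s : G) (k : ℕ), s • P = P ∧ s ^ 2 ^ k = 1 ∧
    s ∉ centralizer ((P : Subgroup G) : Set G) := by
  have := h.simple
  obtain ⟨P⟩ : Nonempty (Sylow 5 G) := inferInstance
  have hN : ¬ normalizer ((P : Subgroup G) : Set G) ≤ centralizer ((P : Subgroup G) : Set G) := by
    apply not_normalizer_le_centralizer P
    · rw [h.card5 P]; norm_num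
    · rw [h.card5 P, h.card_eq P]
      have : 0 < Nat.card (normalizer ((P : Subgroup G) : Set G)) := Nat.card_pos
      omega
  obtain ⟨g, hgN, hgC⟩ := SetLike.not_le_iff_exists.mp hN
  have hgP : g • P = P := smul_eq_iff.mpr hgN
  obtain ⟨a, m, hm, hn⟩ := Nat.exists_eq_two_pow_mul_odd (orderOf_pos g).ne'
  refine ⟨P, g ^ m, a, pow_smul_eq hgP m, ?_, ?_⟩
  · rw [← pow_mul, mul_comm, ← hn, pow_orderOf_eq_one]
  · intro hs
    apply hgC
    have h4 : g ^ 4 ∈ centralizer ((P : Subgroup G) : Set G) := by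
      rw [mem_centralizer_iff]
      intro z hz
      exact ((h.pow_four_commute hgP z hz).eq).symm
    have h2 : g ^ 2 ∈ centralizer ((P : Subgroup G) : Set G) := by
      apply mem_of_sq_mem_of_odd_pow_mem _ hm
      · rw [← pow_mul]; exact h4
      · rw [← pow_mul, mul_comm, pow_mul]; exact pow_mem hs 2
    exact mem_of_sq_mem_of_odd_pow_mem _ hm h2 hs

/-- A Sylow `2`-subgroup fixing `P`, all of whose nontrivial elements fix only `P`,
has order dividing `20`. -/
theorem Cfg.card_dvd_twenty (T : Sylow 2 G) (hfx : ∀ x ∈ (T : Subgroup G), x ≠ 1 → fx x = 1) :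
    Nat.card (T : Subgroup G) ∣ 20 := by
  classical
  have : Fintype (T : Subgroup G) := Fintype.ofFinite _
  have : Fintype (Sylow 5 G) := Fintype.ofFinite _
  have : Fintype (MulAction.orbitRel.Quotient (T : Subgroup G) (Sylow 5 G)) := Fintype.ofFinite _
  have hB := MulAction.sum_card_fixedBy_eq_card_orbits_mul_card_group (T : Subgroup G) (Sylow 5 G)
  have hf : ∀ x : (T : Subgroup G),
      Fintype.card (MulAction.fixedBy (Sylow 5 G) x) = 1 + if x = 1 then 20 else 0 := by
    intro x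
    have e : Fintype.card (MulAction.fixedBy (Sylow 5 G) x) = fx (x : G) := by
      rw [fx, ← Nat.card_eq_fintype_card, ← Nat.card_coe_set_eq]
      rfl
    rw [e]
    by_cases hx : x = 1
    · rw [if_pos hx, hx]
      have : Fx ((1 : (T : Subgroup G)) : G) = Set.univ := by
        ext Q; simp [mem_Fx]
      rw [fx, this, Set.ncard_univ, h.card21]
    · rw [if_neg hx]
      exact hfx x x.2 (fun h1 => hx (Subtype.ext h1))
  simp_rw [hf] at hB
  rw [Finset.sum_add_distrib, Finset.sum_ite_eq' Finset.univ (1 : (T : Subgroup G))] at hB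
  simp only [Finset.sum_const, Finset.card_univ, smul_eq_mul, mul_one, Finset.mem_univ,
    if_true] at hB
  rw [Nat.card_eq_fintype_card]
  have : Fintype.card (T : Subgroup G) ∣
      Fintype.card (MulAction.orbitRel.Quotient (T : Subgroup G) (Sylow 5 G)) *
        Fintype.card (T : Subgroup G) := dvd_mul_left _ _
  rw [← hB] at this
  exact (Nat.dvd_add_right dvd_rfl).mp this

end final



section final2
variable {G : Type*} [Group G] [Finite G]

variable (h : Cfg G)
include h

theorem Cfg.normalizer_le_centralizer_two (T : Sylow 2 G) (P : Sylow 5 G) (s : G)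
    (hTP : ∀ x ∈ (T : Subgroup G), x • P = P)
    (huniq : ∀ Q : Sylow 5 G, s • Q = Q → Q = P)
    (hsT : s ∈ (T : Subgroup G)) (hsC : s ∉ centralizer ((P : Subgroup G) : Set G))
    (e : ℕ) (he : Nat.card (T : Subgroup G) = 2 ^ e) (he2 : e ≤ 2)
    (hTcomm : ∀ a ∈ (T : Subgroup G), ∀ b ∈ (T : Subgroup G), a * b = b * a) :
    normalizer ((T : Subgroup G) : Set G) ≤ centralizer ((T : Subgroup G) : Set G) := by
  intro x hx
  have hxn : ∀ y : G, y ∈ (T : Subgroup G) ↔ x * y * x⁻¹ ∈ (T : Subgroup G) :=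
    mem_normalizer_iff.mp hx
  -- (i) x fixes P
  have hxP : x • P = P := by
    apply huniq
    have h1 : x⁻¹ * s * x ∈ (T : Subgroup G) := by
      rw [hxn]
      have : x * (x⁻¹ * s * x) * x⁻¹ = s := by group
      rw [this]; exact hsT
    have h2 : s * x = x * (x⁻¹ * s * x) := by group
    rw [← mul_smul, h2, mul_smul, hTP _ h1]
  have hxP' : x⁻¹ • P = P := inv_smul_eq_of_smul_eq hxP
  -- (ii) D
  set D : Subgroup G := (T : Subgroup G) ⊓ centralizer ((P : Subgroup G) : Set G) with hD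
  have hDT : D ≤ (T : Subgroup G) := inf_le_left
  have hDne : D ≠ (T : Subgroup G) := by
    intro heq
    have : s ∈ D := heq ▸ hsT
    exact hsC (Subgroup.mem_inf.mp this).2
  have hDcard : Nat.card D ∣ 2 := by
    have h1 : Nat.card D ∣ 2 ^ e := he ▸ Subgroup.card_dvd_of_le hDT
    obtain ⟨i, hi, hi'⟩ := (Nat.dvd_prime_pow Nat.prime_two).mp h1
    have hie : i ≠ e := by
      rintro rfl
      apply hDne
      exact Subgroup.eq_of_le_of_card_ge hDT (by rw [he, hi'])
    have : i ≤ 1 := by omega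
    rw [hi']
    exact pow_dvd_pow 2 this
  -- (iii)
  have hDsq : ∀ d ∈ D, d ^ 2 = 1 := by
    intro d hd
    have h1 : (⟨d, hd⟩ : D) ^ Nat.card D = 1 := pow_card_eq_one'
    have h2 : d ^ Nat.card D = 1 := congrArg Subtype.val h1
    obtain ⟨c, hc⟩ := hDcard
    rw [hc, pow_mul, h2, one_pow]
  have hDconj : ∀ d ∈ D, x * d * x⁻¹ ∈ D := by
    intro d hd
    refine Subgroup.mem_inf.mpr ⟨(hxn d).mp (Subgroup.mem_inf.mp hd).1, ?_⟩
    rw [mem_centralizer_iff]
    intro z hz
    have hz' : x⁻¹ * z * x⁻¹⁻¹ ∈ (P : Subgroup G) := conj_mem_of_smul_eq hxP' hz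
    rw [inv_inv] at hz'
    have h1 := (mem_centralizer_iff.mp (Subgroup.mem_inf.mp hd).2) _ hz'
    calc z * (x * d * x⁻¹) = x * ((x⁻¹ * z * x) * d) * x⁻¹ := by group
      _ = x * (d * (x⁻¹ * z * x)) * x⁻¹ := by rw [h1]
      _ = x * d * x⁻¹ * z := by group
  have hDfix : ∀ d ∈ D, x * d * x⁻¹ = d := by
    intro d hd
    by_cases hd1 : d = 1
    · rw [hd1]; group
    · have hc2 : Nat.card D = 2 := by
        rcases (Nat.dvd_prime Nat.prime_two).mp hDcard with h1 | h1
        · exfalso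
          rw [Subgroup.card_eq_one] at h1
          rw [h1, mem_bot] at hd
          exact hd1 hd
        · exact h1
      obtain ⟨y, -, hy⟩ := (Nat.card_eq_two_iff' (1 : D)).mp hc2
      have e1 : (⟨d, hd⟩ : D) = y := hy _ (fun h1 => hd1 (congrArg Subtype.val h1))
      have e2 : (⟨x * d * x⁻¹, hDconj d hd⟩ : D) = y := by
        apply hy
        intro h1
        apply hd1
        have h2 : x * d * x⁻¹ = 1 := congrArg Subtype.val h1
        have : d = x⁻¹ * (x * d * x⁻¹) * x := by group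
        rw [this, h2]; group
      exact congrArg Subtype.val (e2.trans e1.symm)
  -- (iv)
  have hsq : x ^ 2 ∈ centralizer ((T : Subgroup G) : Set G) := by
    rw [mem_centralizer_iff]
    intro t ht
    set u : G := x * t * x⁻¹ * t⁻¹ with hu
    have huD : u ∈ D := by
      refine Subgroup.mem_inf.mpr ⟨mul_mem ((hxn t).mp ht) (inv_mem ht), ?_⟩
      rw [mem_centralizer_iff]
      intro z hz
      exact ((h.comm_commute hxP (hTP t ht) z hz).eq).symm
    have e1 : x * t * x⁻¹ = u * t := by rw [hu]; group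
    have e2 : x ^ 2 * t * (x ^ 2)⁻¹ = t := by
      calc x ^ 2 * t * (x ^ 2)⁻¹ = x * (x * t * x⁻¹) * x⁻¹ := by rw [pow_two]; group
        _ = x * (u * t) * x⁻¹ := by rw [e1]
        _ = (x * u * x⁻¹) * (x * t * x⁻¹) := by group
        _ = u * (u * t) := by rw [hDfix u huD, e1]
        _ = u ^ 2 * t := by rw [pow_two]; group
        _ = t := by rw [hDsq u huD, one_mul]
    calc t * x ^ 2 = (x ^ 2 * t * (x ^ 2)⁻¹) * x ^ 2 := by rw [e2]
      _ = x ^ 2 * t := by group
  -- (v)
  obtain ⟨a, m, hm, hn⟩ := Nat.exists_eq_two_pow_mul_odd (orderOf_pos x).ne'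
  have hy2 : (x ^ m) ^ 2 ^ a = 1 := by
    rw [← pow_mul, mul_comm, ← hn, pow_orderOf_eq_one]
  have hyT : x ^ m ∈ (T : Subgroup G) := by
    have h1 : zpowers (x ^ m) ⊓ normalizer ((T : Subgroup G) : Set G)
        = zpowers (x ^ m) ⊓ (T : Subgroup G) :=
      (isPGroup_zpowers' hy2).inf_normalizer_sylow T
    have : x ^ m ∈ zpowers (x ^ m) ⊓ normalizer ((T : Subgroup G) : Set G) :=
      ⟨mem_zpowers _, pow_mem hx m⟩
    rw [h1] at this
    exact this.2
  have hyC : x ^ m ∈ centralizer ((T : Subgroup G) : Set G) := by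
    rw [mem_centralizer_iff]
    intro t ht
    exact hTcomm t ht _ hyT
  exact mem_of_sq_mem_of_odd_pow_mem _ hm hsq hyC

end final2



section final3
variable {G : Type*} [Group G] [Finite G]

variable (h : Cfg G)
include h

/-- There is no simple group with `21` Sylow `5`-subgroups of order `5`. -/
theorem Cfg.false : False := by
  classical
  have hsimple := h.simple
  obtain ⟨P, s, k, hsP, hs2, hsC⟩ := h.exists_two_elt
  have hs1 : s ≠ 1 := by
    rintro rfl
    exact hsC (one_mem _)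
  have hfs : fx s ≤ 1 := h.fx_le_one_of_two_pow hs2 hs1
  have huniq : ∀ Q : Sylow 5 G, s • Q = Q → Q = P := by
    intro Q hQ
    exact (Set.ncard_le_one_iff (Set.toFinite _)).mp hfs hQ hsP
  obtain ⟨T, hT⟩ := (isPGroup_zpowers' hs2).exists_le_sylow
  have hsT : s ∈ (T : Subgroup G) := hT (mem_zpowers s)
  have hTP : ∀ x ∈ (T : Subgroup G), x • P = P := by
    obtain ⟨Q, hQ⟩ := T.isPGroup'.nonempty_fixed_point_of_prime_not_dvd_card (Sylow 5 G)
      (by rw [h.card21]; decide)
    have hQP : Q = P := huniq Q (hQ ⟨s, hsT⟩)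
    intro x hx
    rw [← hQP]
    exact hQ ⟨x, hx⟩
  have hfx : ∀ x ∈ (T : Subgroup G), x ≠ 1 → fx x = 1 := by
    intro x hx hx1
    obtain ⟨k', hk'⟩ := T.isPGroup' ⟨x, hx⟩
    have hk'' : x ^ 2 ^ k' = 1 := congrArg Subtype.val hk'
    have h1 := h.fx_le_one_of_two_pow hk'' hx1
    have h2 : 0 < fx x := (Set.ncard_pos (Set.toFinite _)).mpr ⟨P, hTP x hx⟩
    omega
  have hdvd := h.card_dvd_twenty T hfx
  obtain ⟨e, he⟩ := T.isPGroup'.exists_card_eq
  have he2 : e ≤ 2 := by
    by_contra hlt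
    push Not at hlt
    have h1 : 2 ^ 3 ∣ 2 ^ e := pow_dvd_pow 2 hlt
    rw [← he] at h1
    have h2 := h1.trans hdvd
    norm_num at h2
  have he0 : e ≠ 0 := by
    rintro rfl
    rw [pow_zero, Subgroup.card_eq_one] at he
    rw [he, mem_bot] at hsT
    exact hs1 hsT
  have hTcomm : ∀ a ∈ (T : Subgroup G), ∀ b ∈ (T : Subgroup G), a * b = b * a := by
    intro a ha b hb
    have hab : (⟨a, ha⟩ : (T : Subgroup G)) * ⟨b, hb⟩ = ⟨b, hb⟩ * ⟨a, ha⟩ := by
      have he12 : e = 1 ∨ e = 2 := by omega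
      rcases he12 with rfl | rfl
      · rw [pow_one] at he
        have hcyc : IsCyclic (T : Subgroup G) := isCyclic_of_prime_card he
        exact (isMulCommutative_iff.mp hcyc.isMulCommutative) _ _
      · exact (isMulCommutative_iff.mp (IsPGroup.isMulCommutative_of_card_eq_prime_sq he)) _ _
    exact congrArg Subtype.val hab
  have hle := h.normalizer_le_centralizer_two T P s hTP huniq hsT hsC e he he2 hTcomm
  apply not_normalizer_le_centralizer T _ _ hle
  · rw [he]
    exact Nat.one_lt_two_pow he0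
  · rw [he, h.card_eq P]
    have h1 : 0 < Nat.card (normalizer ((P : Subgroup G) : Set G)) := Nat.card_pos
    have h2 : 2 ^ e ≤ 2 ^ 2 := Nat.pow_le_pow_right (by norm_num) he2
    omega

end final3




/-- A minimal counterexample. -/
structure MinCE (G : Type u) [Group G] [Finite G] : Prop where
  card21 : Nat.card (Sylow 5 G) = 21
  min : ∀ (H : Type u) [Group H] [Finite H], Nat.card H < Nat.card G → Nat.card (Sylow 5 H) ≠ 21

section red
variable {G : Type u} [Group G] [Finite G]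

theorem relIndex_le_index' (H K : Subgroup G) : H.relIndex K ≤ H.index := by
  have h1 : (H ⊓ K).index ≤ H.index * K.index := index_inf_le
  have h2 : (H ⊓ K).relIndex K * K.index = (H ⊓ K).index := relIndex_mul_index inf_le_right
  rw [inf_relIndex_right] at h2
  rw [← h2] at h1
  have hK : 0 < K.index := Nat.pos_of_ne_zero Subgroup.index_ne_zero_of_finite
  exact Nat.le_of_mul_le_mul_right h1 hK

/-- `[P ⊔ K : N(P) ∩ (P ⊔ K)] = [K : N(P) ∩ K]`. -/
theorem relIndex_normalizer_sup {p : ℕ} (P : Sylow p G) (K : Subgroup G) [K.Normal] :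
    (normalizer ((P : Subgroup G) : Set G)).relIndex ((P : Subgroup G) ⊔ K) =
      (normalizer ((P : Subgroup G) : Set G)).relIndex K := by
  set A : Subgroup G := normalizer ((P : Subgroup G) : Set G) with hA
  set A' : Subgroup G := A ⊓ ((P : Subgroup G) ⊔ K) with hA'
  have hPA' : (P : Subgroup G) ≤ A' := le_inf le_normalizer le_sup_left
  have e1 : A' ⊔ K = (P : Subgroup G) ⊔ K :=
    le_antisymm (sup_le inf_le_right le_sup_right) (sup_le_sup_right hPA' K)
  have e2 : A'.relIndex (A' ⊔ K) = A'.relIndex K := S4341.relIndex_sup_of_normal A' K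
  rw [e1, hA', inf_relIndex_right] at e2
  have e3 : (A ⊓ ((P : Subgroup G) ⊔ K)).relIndex K = A.relIndex K := by
    rw [← inf_relIndex_right, inf_assoc, inf_of_le_right (le_sup_right : K ≤ (P : Subgroup G) ⊔ K),
      inf_relIndex_right]
  rw [e2, e3]

theorem card_quotient_lt {K : Subgroup G} [K.Normal] (hK : K ≠ ⊥) :
    Nat.card (G ⧸ K) < Nat.card G := by
  have h1 : Nat.card K * K.index = Nat.card G := Subgroup.card_mul_index K
  have h2 : 1 < Nat.card K := by
    rw [Subgroup.one_lt_card_iff_ne_bot]; exact hK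
  have h3 : 0 < K.index := Nat.pos_of_ne_zero Subgroup.index_ne_zero_of_finite
  change K.index < _
  rw [← h1]
  nlinarith

theorem card_subgroup_lt {H : Subgroup G} (hH : H ≠ ⊤) : Nat.card H < Nat.card G := by
  have h1 : Nat.card H * H.index = Nat.card G := Subgroup.card_mul_index H
  have h2 : H.index ≠ 1 := fun h => hH (Subgroup.index_eq_one.mp h)
  have h3 : 0 < H.index := Nat.pos_of_ne_zero Subgroup.index_ne_zero_of_finite
  have h4 : 0 < Nat.card H := Nat.card_pos
  rw [← h1]
  have : 2 ≤ H.index := by omega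
  nlinarith

variable (h : MinCE G)
include h

/-- Normal `5`-subgroups of a minimal counterexample are trivial. -/
theorem MinCE.eq_bot_of_normal_pGroup (Q : Subgroup G) [Q.Normal] (hQ : IsPGroup 5 Q) : Q = ⊥ := by
  by_contra hne
  have h1 := S4341.card_sylow_quotient_pGroup Q hQ
  rw [h.card21] at h1
  exact h.min (G ⧸ Q) (card_quotient_lt hne) h1

theorem MinCE.card5 (P : Sylow 5 G) : Nat.card (P : Subgroup G) = 5 := by
  have hn : Nat.card (Sylow 5 G) < 5 ^ 2 := by rw [h.card21]; norm_num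
  have hcore : (P : Subgroup G).normalCore = ⊥ :=
    h.eq_bot_of_normal_pGroup _ (P.isPGroup'.to_le (Subgroup.normalCore_le _))
  obtain ⟨Q, hQ⟩ : ∃ Q : Sylow 5 G, P ≠ Q := by
    by_contra hcon
    push Not at hcon
    have : Subsingleton (Sylow 5 G) := ⟨fun a b => (hcon a).symm.trans (hcon b)⟩
    have h1 := h.card21
    rw [Nat.card_eq_one_iff_unique.mpr ⟨this, ⟨P⟩⟩] at h1
    omega
  have hD : ((P : Subgroup G) ⊓ Q : Subgroup G) = ⊥ := by
    rw [eq_bot_iff, ← hcore]
    intro x hx b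
    have h1 := S4343.inf_le_sylow hn P Q hQ (b⁻¹ • P) hx
    change x ∈ MulAut.conj b⁻¹ • (P : Subgroup G) at h1
    rw [Subgroup.mem_pointwise_smul_iff_inv_smul_mem] at h1
    simpa [MulAut.smul_def] using h1
  have := S4343.card_inf_mul hn P Q hQ
  rw [hD, Subgroup.card_bot, one_mul] at this
  exact this.symm

end red




section red2
variable {G : Type u} [Group G] [Finite G]

theorem eq_zpowers_of_card5 {P : Subgroup G} (h5 : Nat.card P = 5) {z : G} (hz : z ∈ P)
    (hz1 : z ≠ 1) : P = zpowers z := by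
  symm
  apply Subgroup.eq_of_le_of_card_ge
  · rwa [zpowers_le]
  · rw [h5, Nat.card_zpowers]
    have h1 : (⟨z, hz⟩ : P) ^ Nat.card P = 1 := pow_card_eq_one'
    rw [h5] at h1
    have h2 : z ^ 5 = 1 := congrArg Subtype.val h1
    have h3 : orderOf z ∣ 5 := orderOf_dvd_of_pow_eq_one h2
    rcases (Nat.dvd_prime (by norm_num : Nat.Prime 5)).mp h3 with h4 | h4
    · exact absurd (orderOf_eq_one_iff.mp h4) hz1
    · exact h4.ge

variable (h : MinCE G)
include h

theorem MinCE.complement (P : Sylow 5 G) (K : Subgroup G) [K.Normal] (hKbot : K ≠ ⊥)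
    (hKtop : K ≠ ⊤) : (P : Subgroup G) ⊔ K = ⊤ ∧ K.index = 5 ∧ ¬ 5 ∣ Nat.card K := by
  have h5 := h.card5 P
  obtain ⟨hmul, hmod⟩ := S4345.card_sylow_eq_mul 5 K P
  have hb21 : Nat.card (Sylow 5 (G ⧸ K)) ≠ 21 := h.min (G ⧸ K) (card_quotient_lt hKbot)
  have hbmod : Nat.card (Sylow 5 (G ⧸ K)) ≡ 1 [MOD 5] := card_sylow_modEq_one 5 (G ⧸ K)
  rw [h.card21] at hmul
  have ha21 : (normalizer ((P : Subgroup G) : Set G)).relIndex K = 21 := by
    generalize (normalizer ((P : Subgroup G) : Set G)).relIndex K = a at hmul hmod ⊢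
    generalize Nat.card (Sylow 5 (G ⧸ K)) = b at hmul hb21 hbmod
    have hbd : b ∣ 21 := ⟨a, by rw [hmul, mul_comm]⟩
    have hb : b ∈ Nat.divisors 21 := Nat.mem_divisors.mpr ⟨hbd, by norm_num⟩
    have hdiv : Nat.divisors 21 = {1, 3, 7, 21} := by decide
    rw [hdiv] at hb
    simp only [Finset.mem_insert, Finset.mem_singleton] at hb
    have hbm : b % 5 = 1 := hbmod
    rcases hb with rfl | rfl | rfl | rfl
    · omega
    · omega
    · omega
    · exact absurd rfl hb21
  have hsup : (P : Subgroup G) ⊔ K = ⊤ := by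
    by_contra hne
    have h1 := S4341.card_sylow_of_le P ((P : Subgroup G) ⊔ K) le_sup_left
    rw [relIndex_normalizer_sup, ha21] at h1
    exact h.min _ (card_subgroup_lt hne) h1
  have hinf : (P : Subgroup G) ⊓ K = ⊥ := by
    by_contra hne
    obtain ⟨⟨x, hx⟩, hx1⟩ := (Subgroup.ne_bot_iff_exists_ne_one).mp hne
    have hx1' : x ≠ 1 := fun h1 => hx1 (Subtype.ext h1)
    have hPz := eq_zpowers_of_card5 h5 (Subgroup.mem_inf.mp hx).1 hx1'
    have hPK : (P : Subgroup G) ≤ K := by
      rw [hPz, zpowers_le]; exact (Subgroup.mem_inf.mp hx).2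
    apply hKtop
    rw [← hsup, sup_eq_right.mpr hPK]
  have hidx : K.index = 5 := by
    rw [← relIndex_top_right, ← hsup, relIndex_sup_right, ← inf_relIndex_left, hinf,
      relIndex_bot_left, h5]
  refine ⟨hsup, hidx, ?_⟩
  have hcard : Nat.card K * 5 = Nat.card G := by rw [← hidx]; exact Subgroup.card_mul_index K
  have hmult := P.card_eq_multiplicity
  rw [h5] at hmult
  have hv : (Nat.card G).factorization 5 = 1 := by
    have : (5 : ℕ) ^ 1 = 5 ^ (Nat.card G).factorization 5 := by rw [pow_one]; exact hmult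
    exact (Nat.pow_right_injective (by norm_num : 2 ≤ 5) this).symm
  have hnd := Nat.pow_succ_factorization_not_dvd (Nat.card_pos (α := G)).ne'
    (by norm_num : Nat.Prime 5)
  rw [hv] at hnd
  intro hdvd
  apply hnd
  rw [← hcard]
  obtain ⟨c, hc⟩ := hdvd
  exact ⟨c, by rw [hc]; ring⟩

end red2




section red3
variable {G : Type u} [Group G] [Finite G]

variable (h : MinCE G)
include h

/-- If `K` is a proper nontrivial normal subgroup, some Sylow `3`-subgroup is normalized by `P`. -/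
theorem MinCE.exists_sylow_three (P : Sylow 5 G) (K : Subgroup G) [K.Normal] (hKbot : K ≠ ⊥)
    (hKtop : K ≠ ⊤) : ∃ R : Sylow 3 G, (P : Subgroup G) ≤ normalizer ((R : Subgroup G) : Set G) := by
  obtain ⟨hsup, hidx, h5K⟩ := h.complement P K hKbot hKtop
  obtain ⟨R₀⟩ : Nonempty (Sylow 3 G) := inferInstance
  obtain ⟨hmul, -⟩ := S4345.card_sylow_eq_mul 3 K R₀
  have hb : Nat.card (Sylow 3 (G ⧸ K)) = 1 := by
    obtain ⟨R'⟩ : Nonempty (Sylow 3 (G ⧸ K)) := inferInstance
    have h1 : Nat.card (Sylow 3 (G ⧸ K)) ∣ 5 := by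
      have h2 : Nat.card (G ⧸ K) = 5 := hidx
      rw [← h2]
      exact (Sylow.card_dvd_index R').trans (Subgroup.index_dvd_card _)
    have h3 : Nat.card (Sylow 3 (G ⧸ K)) ≡ 1 [MOD 3] := card_sylow_modEq_one 3 (G ⧸ K)
    rcases (Nat.dvd_prime (by norm_num : Nat.Prime 5)).mp h1 with h4 | h4
    · exact h4
    · rw [h4] at h3
      exact absurd h3 (by decide)
  rw [hb, mul_one] at hmul
  have hnd : ¬ 5 ∣ Nat.card (Sylow 3 G) := by
    rw [hmul]
    intro hd
    exact h5K (hd.trans (relIndex_dvd_card _ _))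
  obtain ⟨R, hR⟩ := P.isPGroup'.nonempty_fixed_point_of_prime_not_dvd_card (Sylow 3 G) hnd
  refine ⟨R, ?_⟩
  intro x hx
  have := hR ⟨x, hx⟩
  exact Sylow.smul_eq_iff_mem_normalizer.mp this

/-- If `P` normalizes a Sylow `3`-subgroup `R`, then `R` normalizes `P`. -/
theorem MinCE.sylow_three_le (P : Sylow 5 G) (R : Sylow 3 G)
    (hPR : (P : Subgroup G) ≤ normalizer ((R : Subgroup G) : Set G)) :
    (R : Subgroup G) ≤ normalizer ((P : Subgroup G) : Set G) := by
  set M : Subgroup G := normalizer ((R : Subgroup G) : Set G) with hM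
  have hRM : (R : Subgroup G) ≤ M := le_normalizer
  set RM : Subgroup M := (R : Subgroup G).subgroupOf M with hRMdef
  have hRMn : RM.Normal := Subgroup.normal_in_normalizer
  set PM : Sylow 5 M := P.subtype hPR with hPM
  obtain ⟨hmul, hmod⟩ := S4345.card_sylow_eq_mul 5 RM PM
  -- bound
  have hle21 : Nat.card (Sylow 5 M) ≤ 21 := by
    rw [S4341.card_sylow_of_le P M hPR, ← h.card21, Sylow.card_eq_index_normalizer P]
    exact relIndex_le_index' _ _
  have hpos : 0 < Nat.card (Sylow 5 M) := Nat.card_pos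
  have hcardRM : Nat.card RM = Nat.card (R : Subgroup G) :=
    Nat.card_congr (Subgroup.subgroupOfEquivOfLe hRM).toEquiv
  obtain ⟨j, hj⟩ := R.isPGroup'.exists_card_eq
  have ha1 : (normalizer ((PM : Subgroup M) : Set M)).relIndex RM = 1 := by
    have hd : (normalizer ((PM : Subgroup M) : Set M)).relIndex RM ∣ 3 ^ j := by
      rw [← hj, ← hcardRM]; exact relIndex_dvd_card _ _
    have hle : (normalizer ((PM : Subgroup M) : Set M)).relIndex RM ≤ 21 := by
      refine le_trans (Nat.le_of_dvd hpos ?_) hle21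
      rw [hmul]; exact dvd_mul_right _ _
    generalize (normalizer ((PM : Subgroup M) : Set M)).relIndex RM = a at hd hle hmod
    obtain ⟨i, -, rfl⟩ := (Nat.dvd_prime_pow (by norm_num : Nat.Prime 3)).mp hd
    have hi : i ≤ 2 := by
      by_contra hlt
      push Not at hlt
      have : 3 ^ 3 ≤ 3 ^ i := Nat.pow_le_pow_right (by norm_num) hlt
      omega
    have hm : 3 ^ i % 5 = 1 := hmod
    interval_cases i
    · rfl
    · omega
    · omega
  rw [relIndex_eq_one] at ha1
  intro r hr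
  have hrM : r ∈ M := hRM hr
  have h1 : (⟨r, hrM⟩ : M) ∈ RM := by
    rw [hRMdef, mem_subgroupOf]; exact hr
  have h2 := ha1 h1
  have h3 : normalizer ((PM : Subgroup M) : Set M)
      = (normalizer ((P : Subgroup G) : Set G)).subgroupOf M := by
    rw [hPM, Sylow.coe_subtype, subgroupOf_normalizer_eq hPR]
  rw [h3, mem_subgroupOf] at h2
  exact h2

end red3




section red4
variable {G : Type u} [Group G] [Finite G]

theorem MinCE.isSimpleGroup (h : MinCE G) : IsSimpleGroup G := by
  have hnt : Nontrivial G := by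
    by_contra hnt
    rw [not_nontrivial_iff_subsingleton] at hnt
    have hs : Subsingleton (Sylow 5 G) := ⟨fun a b => Sylow.ext (Subsingleton.elim _ _)⟩
    have h1 := h.card21
    rw [Nat.card_eq_one_iff_unique.mpr ⟨hs, inferInstance⟩] at h1
    omega
  refine { exists_pair_ne := hnt.exists_pair_ne, eq_bot_or_eq_top_of_normal := ?_ }
  intro K hK
  by_contra hcon
  push Not at hcon
  obtain ⟨hKbot, hKtop⟩ := hcon
  obtain ⟨P⟩ : Nonempty (Sylow 5 G) := inferInstance
  obtain ⟨R, hPR⟩ := h.exists_sylow_three P K hKbot hKtop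
  have hRP := h.sylow_three_le P R hPR
  have h1 : Nat.card (R : Subgroup G) ∣ Nat.card (normalizer ((P : Subgroup G) : Set G)) :=
    Subgroup.card_dvd_of_le hRP
  have h2 : Nat.card G = 21 * Nat.card (normalizer ((P : Subgroup G) : Set G)) := by
    rw [← h.card21, Sylow.card_eq_index_normalizer P, mul_comm]
    exact (Subgroup.card_mul_index (normalizer ((P : Subgroup G) : Set G))).symm
  have h3 := R.card_eq_multiplicity
  have hnd := Nat.pow_succ_factorization_not_dvd (Nat.card_pos (α := G)).ne' Nat.prime_three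
  apply hnd
  rw [pow_succ, ← h3, h2]
  obtain ⟨c, hc⟩ := h1
  exact ⟨7 * c, by rw [hc]; ring⟩

theorem MinCE.cfg (h : MinCE G) : Cfg G := ⟨h.isSimpleGroup, h.card21, h.card5⟩

end red4

theorem main_aux : ∀ (n : ℕ) (G : Type u) [Group G] [Finite G], Nat.card G = n →
    Nat.card (Sylow 5 G) ≠ 21 := by
  intro n
  induction n using Nat.strong_induction_on with
  | _ n ih =>
    intro G _ _ hn h21
    have hmin : MinCE G := ⟨h21, fun H _ _ hlt => ih (Nat.card H) (hn ▸ hlt) H rfl⟩
    exact hmin.cfg.false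

/-- No finite group has exactly twenty-one Sylow 5-subgroups. -/
theorem result {G : Type*} [Group G] [Finite G] : Nat.card (Sylow 5 G) ≠ 21 :=
  main_aux _ G rfl


end Cfsg.Agent.S1010
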