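import Cfsg.Statements.S0031
import Mathlib
import Cfsg.Agent.Lib.Helper1.Basic

set_option autoImplicit false
open Pointwise
open Cfsg

namespace Cfsg.Agent.S0031

open Cfsg.Agent.Helper1

/-- A fixed-point-free automorphism of a finite group maps some Sylow p-subgroup to itself. -/
theorem result {G : Type*} [Group G] [Finite G] (φ : G ≃* G)
    (hφ : MonoidHom.FixedPointFree (φ : G →* G)) (p : ℕ) [Fact p.Prime] :
    ∃ P : Sylow p G, (P : Subgroup G).map (φ : G →* G) = P := by
  let P : Sylow p G := default
  have hcard : Nat.card ((P : Subgroup G).map (φ : G →* G)) = p ^ (Nat.card G).factorization p := by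
    rw [Subgroup.card_map_of_injective (f := (φ : G →* G)) φ.injective]
    exact P.card_eq_multiplicity
  let Q : Sylow p G := Sylow.ofCard _ hcard
  obtain ⟨g, hg⟩ := MulAction.exists_smul_eq G P Q
  have hg' : MulAut.conj g • (P : Subgroup G) = (P : Subgroup G).map (φ : G →* G) := by
    have := congrArg (fun S : Sylow p G => (S : Subgroup G)) hg
    simp only [Sylow.coe_subgroup_smul] at this
    rw [this]
    rfl
  obtain ⟨y, hy⟩ := hφ.commutatorMap_surjective g⁻¹
  rw [MonoidHom.commutatorMap_apply] at hy
  refine ⟨y⁻¹ • P, ?_⟩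
  rw [Sylow.coe_subgroup_smul, map_conj_smul, ← hg', conj_smul_conj_smul]
  congr 2
  have h1 : g = (φ : G →* G) y * y⁻¹ := by
    have := congrArg (·⁻¹) hy
    simp only [inv_inv] at this
    rw [← this]; simp [div_eq_mul_inv]
  rw [h1, map_inv]; group

end Cfsg.Agent.S0031
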