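import Mathlib
import Cfsg.Statements.S0850
import Cfsg.Agent.Lib.Helper14.IndFun

set_option autoImplicit false
open Cfsg
open Cfsg.Agent.Helper14

namespace Cfsg.Agent.S0850

/-- conjugation by a normalizing element as a permutation of `K` -/
def conjPerm {G : Type*} [Group G] (K : Subgroup G) (y : G)
    (hy : y ∈ Subgroup.normalizer (K : Set G)) : Equiv.Perm K where
  toFun k := ⟨y * k * y⁻¹, (Subgroup.mem_normalizer_iff.mp hy k).mp k.2⟩
  invFun k := ⟨y⁻¹ * k * y, (Subgroup.mem_normalizer_iff''.mp hy k).mp k.2⟩
  left_inv k := by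
    apply Subtype.ext
    simp only
    group
  right_inv k := by
    apply Subtype.ext
    simp only
    group

theorem conjPerm_pow {G : Type*} [Group G] (K : Subgroup G) (y : G)
    (hy : y ∈ Subgroup.normalizer (K : Set G)) (n : ℕ) (k : K) :
    (((conjPerm K y hy) ^ n) k : G) = y ^ n * k * (y ^ n)⁻¹ := by
  induction n generalizing k with
  | zero => simp
  | succ n ih =>
    rw [pow_succ, Equiv.Perm.mul_apply, ih]
    simp only [conjPerm, Equiv.coe_fn_mk]
    rw [pow_succ]
    group

theorem not_conj_mem {G : Type*} [Group G] [Finite G] (K : Subgroup G)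
    (hC : ∀ k ∈ K, k ≠ 1 → Subgroup.centralizer ({k} : Set G) ≤ K) (x : G)
    (hxN : x ∈ Subgroup.normalizer (K : Set G)) (hxK : x ∉ K) (g : G) : g * x * g⁻¹ ∉ K := by
  classical
  have : Fintype K := Fintype.ofFinite K
  intro hk
  have hx1 : x ≠ 1 := fun h => hxK (h ▸ K.one_mem)
  have hord : orderOf (g * x * g⁻¹) = orderOf x := by
    have : SemiconjBy g x (g * x * g⁻¹) := by
      unfold SemiconjBy
      group
    exact (this.orderOf_eq g).symm
  have hdvd : orderOf x ∣ Nat.card K := by
    rw [← hord]
    exact Subgroup.orderOf_dvd_natCard K hk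
  have hox : orderOf x ≠ 1 := fun h => hx1 (orderOf_eq_one_iff.mp h)
  have hox0 : orderOf x ≠ 0 := (orderOf_pos x).ne'
  obtain ⟨p, hp, hpx⟩ := Nat.exists_prime_and_dvd hox
  have : Fact p.Prime := ⟨hp⟩
  set y := x ^ (orderOf x / p) with hy
  have hyord : orderOf y = p := orderOf_pow_orderOf_div hox0 hpx
  have hy1 : y ≠ 1 := by
    intro h
    rw [h, orderOf_one] at hyord
    exact hp.one_lt.ne hyord
  have hyN : y ∈ Subgroup.normalizer (K : Set G) := Subgroup.pow_mem _ hxN _
  have hyK : y ∉ K := by
    intro hyK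
    apply hxK
    apply hC y hyK hy1
    rw [Subgroup.mem_centralizer_iff]
    intro z hz
    rw [Set.mem_singleton_iff] at hz
    subst hz
    exact (Commute.pow_right (Commute.refl x) _).eq.symm
  have hσ : (conjPerm K y hyN) ^ p ^ 1 = 1 := by
    ext k
    rw [pow_one, conjPerm_pow, ← hyord, pow_orderOf_eq_one]
    simp
  have hcard : p ∣ Fintype.card K := by
    rw [← Nat.card_eq_fintype_card]
    exact hpx.trans hdvd
  have h1 : (conjPerm K y hyN) 1 = 1 := by
    apply Subtype.ext
    simp [conjPerm]
  obtain ⟨b, hb, hb1⟩ := Equiv.Perm.exists_fixed_point_of_prime' hcard hσ h1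
  apply hyK
  have hb1' : (b : G) ≠ 1 := fun h => hb1 (Subtype.ext h)
  apply hC b b.2 hb1'
  rw [Subgroup.mem_centralizer_iff]
  intro z hz
  rw [Set.mem_singleton_iff] at hz
  subst hz
  have := congrArg Subtype.val hb
  simp only [conjPerm, Equiv.coe_fn_mk] at this
  calc (b : G) * y = (y * b * y⁻¹) * y := by rw [this]
    _ = y * b := by group

/-- Let K be a subgroup of the finite group G that meets each conjugate by an element outside its normalizer N trivially, is properly contained in N, and contains the centralizer of each of its non-identity elements (a T.I. subgroup with Frobenius normalizer). Then no element of N outside K is conjugate in G to an element of K, and for every class function ϑ of N that vanishes on N away from K and at the identity, the function induced from ϑ to G agrees with ϑ on all of N. -/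
theorem result {G : Type*} [Group G] [Fintype G] (K : Subgroup G) (hTI : ∀ g : G, g ∉ Subgroup.normalizer (K : Set G) → ∀ k ∈ K, g * k * g⁻¹ ∈ K → k = 1) (hlt : K < Subgroup.normalizer (K : Set G)) (hC : ∀ k ∈ K, k ≠ 1 → Subgroup.centralizer ({k} : Set G) ≤ K) : (∀ x ∈ Subgroup.normalizer (K : Set G), x ∉ K → ∀ g : G, g * x * g⁻¹ ∉ K) ∧ ∀ (ϑ : Subgroup.normalizer (K : Set G) → ℂ), Cfsg.IsClassFunction (Subgroup.normalizer (K : Set G)) ϑ → (∀ x : Subgroup.normalizer (K : Set G), (x : G) ∉ K → ϑ x = 0) → ϑ 1 = 0 → ∀ x : Subgroup.normalizer (K : Set G), Cfsg.indFun (Subgroup.normalizer (K : Set G)) ϑ x = ϑ x := by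
  classical
  have partA : ∀ x ∈ Subgroup.normalizer (K : Set G), x ∉ K → ∀ g : G, g * x * g⁻¹ ∉ K :=
    fun x hxN hxK g => not_conj_mem K hC x hxN hxK g
  refine ⟨partA, ?_⟩
  set N := Subgroup.normalizer (K : Set G) with hN
  intro ϑ hcl hvan h1 x
  rw [indFun_apply]
  -- each term of the sum
  have hterm : ∀ g : G, Cfsg.extendByZero N ϑ (g⁻¹ * (x : G) * g) = if g ∈ N then ϑ x else 0 := by
    intro g
    by_cases hgN : g ∈ N
    · rw [if_pos hgN]
      have hmem : g⁻¹ * (x : G) * g ∈ N := N.mul_mem (N.mul_mem (N.inv_mem hgN) x.2) hgN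
      rw [extendByZero_of_mem N ϑ hmem]
      have := hcl x (⟨g, hgN⟩⁻¹ : N)
      rw [← this]
      congr 1
      apply Subtype.ext
      simp
    · rw [if_neg hgN]
      by_cases hmem : g⁻¹ * (x : G) * g ∈ N
      · rw [extendByZero_of_mem N ϑ hmem]
        by_cases hxK : (x : G) ∈ K
        · by_cases hx1 : (x : G) = 1
          · have : (⟨g⁻¹ * (x : G) * g, hmem⟩ : N) = 1 := by
              apply Subtype.ext
              simp [hx1]
            rw [this, h1]
          · apply hvan
            intro hcon
            apply hx1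
            apply hTI g⁻¹ (fun h => hgN (by simpa using N.inv_mem h)) x hxK
            simpa using hcon
        · apply hvan
          have := partA x x.2 hxK g⁻¹
          simpa using this
      · exact extendByZero_of_not_mem N ϑ hmem
  simp_rw [hterm]
  rw [Finset.sum_ite, Finset.sum_const_zero, add_zero, Finset.sum_const, nsmul_eq_mul]
  have hcard : (Finset.filter (fun g => g ∈ N) Finset.univ).card = Nat.card N := by
    rw [Nat.card_eq_fintype_card, Fintype.card_subtype]
  rw [hcard, ← mul_assoc, inv_mul_cancel₀, one_mul]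
  have : Nat.card N ≠ 0 := Nat.card_pos.ne'
  exact_mod_cast this

end Cfsg.Agent.S0850
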