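import Cfsg.Statements.S0014
import Cfsg.Agent.S4208
import Mathlib

set_option autoImplicit false
open Cfsg

namespace Cfsg.Agent.S0014

theorem card_sup_le {Q : Type*} [CommGroup Q] [Finite Q] (A B : Subgroup Q) :
    Nat.card ↥(A ⊔ B) ≤ Nat.card A * Nat.card B := by
  rw [← Nat.card_prod]
  apply Nat.card_le_card_of_surjective
    (fun ab : A × B => (⟨ab.1 * ab.2,
      mul_mem ((le_sup_left : A ≤ A ⊔ B) ab.1.2) ((le_sup_right : B ≤ A ⊔ B) ab.2.2)⟩ : ↥(A ⊔ B)))
  rintro ⟨x, hx⟩
  obtain ⟨a, ha, b, hb, rfl⟩ := Subgroup.mem_sup.mp hx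
  exact ⟨(⟨a, ha⟩, ⟨b, hb⟩), rfl⟩

/-- Upper bound: `k` elements of an elementary abelian `p`-group generate at most `p ^ k` elements. -/
theorem card_closure_le {Q : Type*} [CommGroup Q] [Finite Q] {p : ℕ} [Fact p.Prime]
    (hexp : ∀ a : Q, a ^ p = 1) (U : Finset Q) :
    Nat.card (Subgroup.closure (U : Set Q)) ≤ p ^ U.card := by
  classical
  induction U using Finset.induction_on with
  | empty => simp
  | insert x U hx ih =>
    rw [Finset.coe_insert, Set.insert_eq, Subgroup.closure_union, Finset.card_insert_of_notMem hx,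
      pow_succ, mul_comm]
    refine (card_sup_le _ _).trans ?_
    apply Nat.mul_le_mul _ ih
    rw [← Subgroup.zpowers_eq_closure, Nat.card_zpowers]
    exact Nat.le_of_dvd (Fact.out : p.Prime).pos (orderOf_dvd_of_pow_eq_one (hexp x))

/-- Lower bound: an independent family of `k` elements of a `p`-group generates at least `p ^ k`
elements. -/
theorem le_card_closure {Q : Type*} [Group Q] [Finite Q] {p : ℕ} [Fact p.Prime]
    (hQ : IsPGroup p Q) [DecidableEq Q] (U : Finset Q)
    (hU : ∀ x ∈ U, x ∉ Subgroup.closure ((U.erase x : Finset Q) : Set Q)) :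
    p ^ U.card ≤ Nat.card (Subgroup.closure (U : Set Q)) := by
  have key : ∀ W : Finset Q, W ⊆ U → p ^ W.card ≤ Nat.card (Subgroup.closure (W : Set Q)) := by
    intro W
    induction W using Finset.induction_on with
    | empty => intro _; simp
    | insert x W hx ih =>
      intro hWU
      have hxU : x ∈ U := hWU (Finset.mem_insert_self x W)
      have hW'U : W ⊆ U := fun y hy => hWU (Finset.mem_insert_of_mem hy)
      have hsub : (W : Set Q) ⊆ ((U.erase x : Finset Q) : Set Q) := by
        intro y hy
        have hy' : y ∈ W := hy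
        have : y ≠ x := fun h => hx (h ▸ hy')
        exact Finset.mem_coe.mpr (Finset.mem_erase.mpr ⟨this, hW'U hy'⟩)
      have hxC : x ∉ Subgroup.closure (W : Set Q) :=
        fun h => hU x hxU (Subgroup.closure_mono hsub h)
      set C := Subgroup.closure (W : Set Q) with hC
      set C' := Subgroup.closure ((insert x W : Finset Q) : Set Q) with hC'
      have hle : C ≤ C' := Subgroup.closure_mono (by
        intro y hy; exact Finset.mem_coe.mpr (Finset.mem_insert_of_mem hy))
      have hxC' : x ∈ C' := Subgroup.subset_closure (Finset.mem_coe.mpr (Finset.mem_insert_self x W))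
      have hlt : C < C' := lt_of_le_of_ne hle (fun h => hxC (h ▸ hxC'))
      obtain ⟨a, ha⟩ := (hQ.to_subgroup C).exists_card_eq
      obtain ⟨b, hb⟩ := (hQ.to_subgroup C').exists_card_eq
      have hcardlt : Nat.card C < Nat.card C' := by
        have h1 : (C : Set Q) ⊂ (C' : Set Q) := by exact_mod_cast hlt
        have := Set.ncard_lt_ncard h1 (Set.toFinite _)
        rw [← Nat.card_coe_set_eq, ← Nat.card_coe_set_eq] at this
        exact this
      have hp : 1 < p := (Fact.out : p.Prime).one_lt
      rw [ha, hb] at hcardlt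
      have hab : a < b := (Nat.pow_lt_pow_iff_right hp).mp hcardlt
      have ih' := ih hW'U
      rw [ha] at ih'
      have hka : W.card ≤ a := (Nat.pow_le_pow_iff_right hp).mp ih'
      rw [hb, Finset.card_insert_of_notMem hx]
      exact Nat.pow_le_pow_right hp.le (by omega)
  exact key U (Finset.Subset.refl U)

/-- generation can be tested modulo the Frattini subgroup -/
theorem closure_eq_top_of_image {G : Type*} [Group G] [Finite G] (X : Set G)
    (h : Subgroup.closure ((QuotientGroup.mk' (frattini G)) '' X) = ⊤) :
    Subgroup.closure X = ⊤ := by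
  apply frattini_nongenerating
  have hmap : (Subgroup.closure X).map (QuotientGroup.mk' (frattini G)) = ⊤ := by
    rw [MonoidHom.map_closure]; exact h
  have := Subgroup.comap_map_eq (QuotientGroup.mk' (frattini G)) (Subgroup.closure X)
  rw [hmap, Subgroup.comap_top, QuotientGroup.ker_mk'] at this
  exact this.symm

theorem image_closure_eq_top {G : Type*} [Group G] (X : Set G)
    (h : Subgroup.closure X = ⊤) :
    Subgroup.closure ((QuotientGroup.mk' (frattini G)) '' X) = ⊤ := by
  rw [← MonoidHom.map_closure, h, ← MonoidHom.range_eq_map,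
    MonoidHom.range_eq_top.mpr (QuotientGroup.mk'_surjective _)]

/-- Burnside's basis Theorem: in a finite p-group whose Frattini quotient has order p ^ n, every generating set contains n elements that already generate, and no set with fewer than n elements generates. -/
theorem result {G : Type*} [Group G] [Finite G] (p n : ℕ) [Fact p.Prime]
    (hG : IsPGroup p G) (hn : (frattini G).index = p ^ n) :
    (∀ S : Finset G, Subgroup.closure (S : Set G) = ⊤ → ∃ T : Finset G, T ⊆ S ∧ T.card = n ∧ Subgroup.closure (T : Set G) = ⊤) ∧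
    (∀ T : Finset G, Subgroup.closure (T : Set G) = ⊤ → n ≤ T.card) := by
  classical
  have hp : 1 < p := (Fact.out : p.Prime).one_lt
  obtain ⟨hcomm, hexp⟩ := Cfsg.Agent.S4208.frattini_quot_props hG
  letI : CommGroup (G ⧸ frattini G) :=
    { (inferInstance : Group (G ⧸ frattini G)) with mul_comm := hcomm }
  have hQcard : Nat.card (G ⧸ frattini G) = p ^ n := by rw [← hn]; rfl
  have hQp : IsPGroup p (G ⧸ frattini G) := hG.to_quotient _
  have hcoe : ∀ T : Finset G, ((T.image (QuotientGroup.mk' (frattini G)) : Finset (G ⧸ frattini G)) :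
      Set (G ⧸ frattini G)) = (QuotientGroup.mk' (frattini G)) '' (T : Set G) := by
    intro T; simp
  -- part 2
  have part2 : ∀ T : Finset G, Subgroup.closure (T : Set G) = ⊤ → n ≤ T.card := by
    intro T hT
    have h1 := image_closure_eq_top (T : Set G) hT
    rw [← hcoe] at h1
    have h2 := card_closure_le hexp (T.image (QuotientGroup.mk' (frattini G)))
    rw [h1, Subgroup.card_top, hQcard] at h2
    have h3 : (T.image (QuotientGroup.mk' (frattini G))).card ≤ T.card := Finset.card_image_le
    exact ((Nat.pow_le_pow_iff_right hp).mp h2).trans h3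
  refine ⟨?_, part2⟩
  intro S hS
  -- a generating subset of minimal cardinality
  have hne : (S.powerset.filter (fun T : Finset G => Subgroup.closure (T : Set G) = ⊤)).Nonempty :=
    ⟨S, by simp [hS]⟩
  obtain ⟨T, hTmem, hTmin⟩ := Finset.exists_min_image _ Finset.card hne
  rw [Finset.mem_filter, Finset.mem_powerset] at hTmem
  obtain ⟨hTS, hTgen⟩ := hTmem
  refine ⟨T, hTS, ?_, hTgen⟩
  have herase : ∀ x ∈ T, Subgroup.closure ((T.erase x : Finset G) : Set G) ≠ ⊤ := by
    intro x hx htop
    have hmem : T.erase x ∈ S.powerset.filter (fun T : Finset G => Subgroup.closure (T : Set G) = ⊤) := by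
      rw [Finset.mem_filter, Finset.mem_powerset]
      exact ⟨(Finset.erase_subset x T).trans hTS, htop⟩
    have := hTmin _ hmem
    have hlt : (T.erase x).card < T.card := Finset.card_erase_lt_of_mem hx
    omega
  -- key independence claim
  have key : ∀ x ∈ T, (QuotientGroup.mk' (frattini G)) x ∉
      Subgroup.closure ((QuotientGroup.mk' (frattini G)) '' ((T.erase x : Finset G) : Set G)) := by
    intro x hx hmem
    apply herase x hx
    apply closure_eq_top_of_image
    rw [eq_top_iff, ← image_closure_eq_top (T : Set G) hTgen, Subgroup.closure_le]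
    rintro _ ⟨y, hy, rfl⟩
    by_cases hyx : y = x
    · rw [hyx]; exact hmem
    · apply Subgroup.subset_closure
      exact ⟨y, Finset.mem_coe.mpr (Finset.mem_erase.mpr ⟨hyx, hy⟩), rfl⟩
  have hinj : Set.InjOn (QuotientGroup.mk' (frattini G)) (T : Set G) := by
    intro x hx y hy hxy
    by_contra hne
    apply key x hx
    rw [hxy]
    apply Subgroup.subset_closure
    exact ⟨y, Finset.mem_coe.mpr (Finset.mem_erase.mpr ⟨fun h => hne h.symm, hy⟩), rfl⟩
  have hcardimg : (T.image (QuotientGroup.mk' (frattini G))).card = T.card :=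
    Finset.card_image_of_injOn hinj
  have hindep : ∀ xb ∈ T.image (QuotientGroup.mk' (frattini G)), xb ∉ Subgroup.closure
      (((T.image (QuotientGroup.mk' (frattini G))).erase xb : Finset (G ⧸ frattini G)) :
        Set (G ⧸ frattini G)) := by
    intro xb hxb hmem
    obtain ⟨x, hx, rfl⟩ := Finset.mem_image.mp hxb
    apply key x hx
    refine Subgroup.closure_mono ?_ hmem
    intro yb hyb
    have hyb' := Finset.mem_erase.mp (Finset.mem_coe.mp hyb)
    obtain ⟨y, hy, rfl⟩ := Finset.mem_image.mp hyb'.2
    refine ⟨y, Finset.mem_coe.mpr (Finset.mem_erase.mpr ⟨?_, hy⟩), rfl⟩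
    intro h; exact hyb'.1 (by rw [h])
  have hlow := le_card_closure hQp (T.image (QuotientGroup.mk' (frattini G))) hindep
  have hup : Nat.card (Subgroup.closure ((T.image (QuotientGroup.mk' (frattini G)) :
      Finset (G ⧸ frattini G)) : Set (G ⧸ frattini G))) ≤ p ^ n := by
    rw [← hQcard]; exact Subgroup.card_le_card_group _
  have hle : T.card ≤ n := by
    rw [← hcardimg]
    exact (Nat.pow_le_pow_iff_right hp).mp (hlow.trans hup)
  exact le_antisymm hle (part2 T hTgen)

end Cfsg.Agent.S0014
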