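import Cfsg.Statements.S0218
import Mathlib

set_option autoImplicit false
open Cfsg

namespace Cfsg.Agent.S0218

theorem invol_iff (m : ℕ) [NeZero m] (x : QuaternionGroup m) :
    orderOf x = 2 ↔ x = QuaternionGroup.a (m : ZMod (2 * m)) := by
  have hpos : 0 < m := NeZero.pos m
  constructor
  · intro h
    cases x with
    | a i =>
      rw [QuaternionGroup.orderOf_a] at h
      have hg : Nat.gcd (2 * m) i.val ∣ 2 * m := Nat.gcd_dvd_left _ _
      have hgm : Nat.gcd (2 * m) i.val = m := by
        have hgpos : 0 < Nat.gcd (2 * m) i.val := Nat.gcd_pos_of_pos_left _ (by omega)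
        generalize Nat.gcd (2 * m) i.val = g at hg h hgpos
        obtain ⟨k, hk⟩ := hg
        have hk2 : 2 * m / g = k := by rw [hk]; exact Nat.mul_div_cancel_left _ hgpos
        rw [hk2] at h
        subst h
        omega
      haveI : NeZero (2 * m) := ⟨by omega⟩
      have hi : i.val < 2 * m := ZMod.val_lt i
      have hdvd : m ∣ i.val := by
        have := Nat.gcd_dvd_right (2 * m) i.val
        rwa [hgm] at this
      obtain ⟨j, hj⟩ := hdvd
      have hj1 : j = 1 := by
        rcases j with _ | _ | j
        · exfalso
          simp only [mul_zero] at hj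
          rw [hj, Nat.gcd_zero_right] at hgm
          omega
        · rfl
        · exfalso
          nlinarith
      congr 1
      rw [← ZMod.natCast_zmod_val i, hj, hj1, mul_one]
    | xa i => rw [QuaternionGroup.orderOf_xa] at h; omega
  · rintro rfl
    rw [QuaternionGroup.orderOf_a, ZMod.val_natCast, Nat.mod_eq_of_lt (by omega)]
    have : Nat.gcd (2 * m) m = m := Nat.gcd_eq_right (dvd_mul_left m 2)
    rw [this]
    exact Nat.mul_div_cancel _ hpos

/-- The generalized quaternion group of order 2^(n+3) contains exactly one element of order 2. -/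
theorem result (n : ℕ) : Nat.card {x : QuaternionGroup (2 ^ (n + 1)) // orderOf x = 2} = 1 := by
  haveI : NeZero (2 ^ (n + 1)) := ⟨by positivity⟩
  haveI : Unique {x : QuaternionGroup (2 ^ (n + 1)) // orderOf x = 2} :=
    { default := ⟨QuaternionGroup.a ((2 ^ (n + 1) : ℕ) : ZMod (2 * 2 ^ (n + 1))),
        (invol_iff _ _).mpr rfl⟩
      uniq := fun x => Subtype.ext ((invol_iff _ _).mp x.2) }
  exact Nat.card_unique

end Cfsg.Agent.S0218
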