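import Cfsg.Statements.S0206
import Mathlib
import Cfsg.Agent.Lib.Helper4.Dihedral

set_option autoImplicit false
open Cfsg

namespace Cfsg.Agent.S0206

open Cfsg.Agent.Helper4

variable {G : Type*} [Group G]

/-- power of `R` by an element of `ZMod (orderOf R)` -/
noncomputable def zp (R : G) (i : ZMod (orderOf R)) : G := R ^ (ZMod.cast i : ℤ)

theorem zp_intCast (R : G) (k : ℤ) : zp R (k : ZMod (orderOf R)) = R ^ k := by
  unfold zp
  rw [zpow_eq_zpow_iff_modEq, ← ZMod.intCast_eq_intCast_iff, ZMod.intCast_zmod_cast]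

theorem zp_eq (R : G) (i : ZMod (orderOf R)) : ∃ k : ℤ, (k : ZMod (orderOf R)) = i ∧ zp R i = R ^ k :=
  ⟨ZMod.cast i, ZMod.intCast_zmod_cast i, rfl⟩

theorem zp_add (R : G) (i j : ZMod (orderOf R)) : zp R (i + j) = zp R i * zp R j := by
  obtain ⟨a, rfl, ha⟩ := zp_eq R i
  obtain ⟨b, rfl, hb⟩ := zp_eq R j
  rw [ha, hb, ← Int.cast_add, zp_intCast, zpow_add]

theorem zp_sub (R : G) (i j : ZMod (orderOf R)) : zp R (j - i) = (zp R i)⁻¹ * zp R j := by
  obtain ⟨a, rfl, ha⟩ := zp_eq R i
  obtain ⟨b, rfl, hb⟩ := zp_eq R j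
  rw [ha, hb, ← Int.cast_sub, zp_intCast, ← zpow_neg, ← zpow_add]
  congr 1; ring

theorem zp_eq_one (R : G) (i : ZMod (orderOf R)) (h : zp R i = 1) : i = 0 := by
  obtain ⟨a, rfl, ha⟩ := zp_eq R i
  rw [ha] at h
  rw [ZMod.intCast_zmod_eq_zero_iff_dvd]
  exact orderOf_dvd_iff_zpow_eq_one.mpr h

section
variable {x y : G} (hx : orderOf x = 2) (hy : orderOf y = 2)
include hx hy

theorem x_mul_zp (i : ZMod (orderOf (x * y))) : x * zp (x * y) i = (zp (x * y) i)⁻¹ * x := by
  unfold zp
  rw [dih_x_mul_zpow hx hy, zpow_neg]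

/-- the underlying function of the hom from the dihedral group -/
noncomputable def dihFun (x y : G) : DihedralGroup (orderOf (x * y)) → G
  | DihedralGroup.r i => zp (x * y) i
  | DihedralGroup.sr i => x * zp (x * y) i

theorem dihFun_mul (a b : DihedralGroup (orderOf (x * y))) :
    dihFun x y (a * b) = dihFun x y a * dihFun x y b := by
  have hxx : x * x = 1 := mul_self_of_orderOf_eq_two hx
  cases a with
  | r i =>
    cases b with
    | r j => simp only [DihedralGroup.r_mul_r, dihFun, zp_add]
    | sr j =>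
      simp only [DihedralGroup.r_mul_sr, dihFun, zp_sub]
      have h := x_mul_zp hx hy i
      calc x * ((zp (x * y) i)⁻¹ * zp (x * y) j)
          = (zp (x * y) i) * ((zp (x * y) i)⁻¹ * x * (zp (x * y) i)⁻¹) * zp (x * y) j := by group
        _ = (zp (x * y) i) * (x * zp (x * y) i * (zp (x * y) i)⁻¹) * zp (x * y) j := by rw [h]
        _ = zp (x * y) i * (x * zp (x * y) j) := by group
  | sr i =>
    cases b with
    | r j => simp only [DihedralGroup.sr_mul_r, dihFun, zp_add, mul_assoc]
    | sr j =>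
      simp only [DihedralGroup.sr_mul_sr, dihFun, zp_sub]
      have h := x_mul_zp hx hy i
      symm
      calc x * zp (x * y) i * (x * zp (x * y) j)
          = ((zp (x * y) i)⁻¹ * x) * (x * zp (x * y) j) := by rw [h]
        _ = (zp (x * y) i)⁻¹ * (x * x) * zp (x * y) j := by group
        _ = (zp (x * y) i)⁻¹ * zp (x * y) j := by rw [hxx, mul_one]

/-- the hom from the dihedral group -/
noncomputable def dihHom : DihedralGroup (orderOf (x * y)) →* G :=
  MonoidHom.mk' (dihFun x y) (dihFun_mul hx hy)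

theorem dihHom_injective : Function.Injective (dihHom hx hy) := by
  rw [injective_iff_map_eq_one]
  intro a ha
  change dihFun x y a = 1 at ha
  cases a with
  | r i =>
    simp only [dihFun] at ha
    rw [zp_eq_one _ _ ha]
    rfl
  | sr i =>
    exfalso
    simp only [dihFun] at ha
    apply dih_x_notMem_zpowers hx hy
    have hx_eq : x = (zp (x * y) i)⁻¹ := eq_inv_of_mul_eq_one_left ha
    have hmem : (zp (x * y) i)⁻¹ ∈ Subgroup.zpowers (x * y) := by
      apply Subgroup.inv_mem
      unfold zp
      exact Subgroup.zpow_mem_zpowers (x * y) _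
    rwa [← hx_eq] at hmem

theorem dihHom_range : (dihHom hx hy).range = Subgroup.closure ({x, y} : Set G) := by
  apply le_antisymm
  · rintro _ ⟨a, rfl⟩
    change dihFun x y a ∈ _
    cases a with
    | r i => exact dih_zpow_mem hx hy _
    | sr i =>
      exact Subgroup.mul_mem _ (Subgroup.subset_closure (by simp)) (dih_zpow_mem hx hy _)
  · intro d hd
    obtain ⟨k, rfl | rfl⟩ := dih_mem_closure hx hy hd
    · refine ⟨DihedralGroup.r (k : ZMod (orderOf (x * y))), ?_⟩
      show dihFun x y (DihedralGroup.r (k : ZMod (orderOf (x * y)))) = (x * y) ^ k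
      simp only [dihFun, zp_intCast]
    · refine ⟨DihedralGroup.sr ((-k : ℤ) : ZMod (orderOf (x * y))), ?_⟩
      show dihFun x y (DihedralGroup.sr ((-k : ℤ) : ZMod (orderOf (x * y)))) = (x * y) ^ k * x
      simp only [dihFun, zp_intCast]
      rw [dih_x_mul_zpow hx hy, neg_neg]

end

/-- Two distinct involutions x, y of a finite group generate a subgroup isomorphic to the dihedral group of order 2·|xy|. -/
theorem result {G : Type*} [Group G] [Finite G] (x y : G) (hx : orderOf x = 2) (hy : orderOf y = 2) (hxy : x ≠ y) : Nonempty (↥(Subgroup.closure ({x, y} : Set G)) ≃* DihedralGroup (orderOf (x * y))) :=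
  ⟨(MulEquiv.subgroupCongr (dihHom_range hx hy).symm).trans
    (MonoidHom.ofInjective (dihHom_injective hx hy)).symm⟩

end Cfsg.Agent.S0206
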