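import Cfsg.Statements.S4399
import Mathlib
import Cfsg.Agent.S0206
import Cfsg.Agent.Lib.Helper73.TwoGroupB
import Cfsg.Agent.Lib.Helper73.QuatRecog

set_option autoImplicit false
open Cfsg

namespace Cfsg.Agent.S4399

open Cfsg.Agent.Helper73

/-- Let S be a finite 2-group whose commutator quotient S/[S,S] is a Klein four-group (order 4 and exponent 2). Then S itself has order 4, or S is dihedral of order at least 8, semidihedral of order at least 16 (order 2^(k+4) with an element a of order 2^(k+3) and an involution b with b a b⁻¹ = a^(2^(k+2)−1)), or generalized quaternion of order at least 8. -/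
theorem result {S : Type*} [Group S] [Finite S] (h2 : IsPGroup 2 S) (hab : Nat.card (Abelianization S) = 4)
    (hexp : ∀ x : Abelianization S, x ^ 2 = 1) :
    Nat.card S = 4 ∨
    ((∃ k : ℕ, Nonempty (S ≃* DihedralGroup (2 ^ (k + 2)))) ∨
      (∃ k : ℕ, Nat.card S = 2 ^ (k + 4) ∧ ∃ a b : S, orderOf a = 2 ^ (k + 3) ∧ orderOf b = 2 ∧ b * a * b⁻¹ = a ^ (2 ^ (k + 2) - 1)) ∨
      (∃ k : ℕ, Nonempty (S ≃* QuaternionGroup (2 ^ (k + 1))))) := by
  classical
  have hf2 : Fact (Nat.Prime 2) := ⟨Nat.prime_two⟩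
  have hidx : (commutator S).index = 4 := by
    rw [← hab]; rfl
  obtain ⟨n, hn⟩ := IsPGroup.iff_card.1 h2
  have hdvd : 4 ∣ 2 ^ n := by
    rw [← hn, ← hidx]; exact Subgroup.index_dvd_card _
  have hn2 : 2 ≤ n := by
    have : (2 : ℕ) ^ 2 ∣ 2 ^ n := by norm_num; exact hdvd
    exact (Nat.pow_dvd_pow_iff_le_right (by norm_num)).1 this
  rcases (show n = 2 ∨ 3 ≤ n by omega) with rfl | hn3
  · left; rw [hn]; norm_num
  right
  obtain ⟨a, ha⟩ := exists_cyclic_max n hn3 S hn hidx
  have hN2 : 2 ^ (n - 1) = 2 * 2 ^ (n - 2) := by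
    rw [← pow_succ']; congr 1; omega
  have ha1 : a ≠ 1 := by
    intro h
    rw [h, orderOf_one, hN2] at ha
    have : 0 < 2 ^ (n - 2) := by positivity
    omega
  have hzz : (a ^ (2 ^ (n - 2))) ^ 2 = 1 := by
    rw [← pow_mul, mul_comm, ← hN2, ← ha]; exact pow_orderOf_eq_one a
  rcases classify n hn3 hn hidx a ha with ⟨t, ht, ht2, hta⟩ | ⟨t, ht, ht2, hta⟩ |
    ⟨hn4, t, ht, ht2, hta⟩
  · -- dihedral
    left
    refine ⟨n - 3, ?_⟩
    have ht1 : t ≠ 1 := by
      intro h; apply ht; rw [h]; exact Subgroup.one_mem _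
    have hx : orderOf t = 2 := orderOf_eq_prime ht2 ht1
    have hta1 : t * a ≠ 1 := by
      intro h; apply ht
      rw [eq_inv_of_mul_eq_one_left h]
      exact Subgroup.inv_mem _ (Subgroup.mem_zpowers a)
    have htinv : t⁻¹ = t := by
      rw [inv_eq_iff_mul_eq_one, ← pow_two, ht2]
    have hy : orderOf (t * a) = 2 := by
      apply orderOf_eq_prime _ hta1
      have : (t * a) ^ 2 = (t * a * t⁻¹) * (t ^ 2) * a := by rw [pow_two, pow_two]; group
      rw [this, hta, ht2, mul_one, inv_mul_cancel]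
    have hxy : t ≠ t * a := by
      intro h; apply ha1
      have := congrArg (fun g => t⁻¹ * g) h
      simpa using this.symm
    obtain ⟨e⟩ := Cfsg.Agent.S0206.result t (t * a) hx hy hxy
    have hprod : t * (t * a) = a := by rw [← mul_assoc, ← pow_two, ht2, one_mul]
    have hnk : n - 1 = n - 3 + 2 := by omega
    rw [hprod, ha, hnk] at e
    have htop : Subgroup.closure ({t, t * a} : Set S) = ⊤ := by
      rw [← Subgroup.card_eq_iff_eq_top, Nat.card_congr e.toEquiv, DihedralGroup.nat_card, hn,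
        ← pow_succ']
      congr 1; omega
    exact ⟨(Subgroup.topEquiv.symm.trans (MulEquiv.subgroupCongr htop.symm)).trans e⟩
  · -- quaternion
    right; right
    refine ⟨n - 3, ?_⟩
    have hnk : n - 2 = n - 3 + 1 := by omega
    rw [hN2, hnk] at ha
    rw [hnk] at ht2
    haveI : NeZero (2 ^ (n - 3 + 1)) := ⟨by positivity⟩
    apply quat_equiv ha ht2 hta ht
    rw [hn, show (4 : ℕ) = 2 ^ 2 by norm_num, ← pow_add]
    congr 1; omega
  · -- semidihedral
    right; left
    refine ⟨n - 4, ?_⟩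
    have hnk : n = n - 4 + 4 := by omega
    have hnk1 : n - 1 = n - 4 + 3 := by omega
    have hnk2 : n - 2 = n - 4 + 2 := by omega
    refine ⟨by rw [hn]; congr 1, ?_⟩
    rw [hnk1] at ha
    rw [hnk2] at ht2 hta hzz
    set K := 2 ^ (n - 4 + 2) with hK
    have hKpos : 0 < K := by rw [hK]; positivity
    have hconj : a⁻¹ * a ^ K = a ^ (K - 1) := by
      have : a ^ K = a * a ^ (K - 1) := by
        rw [← pow_succ']; congr 1; omega
      rw [this]; group
    rw [hconj] at hta
    rcases ht2 with ht2 | ht2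
    · have ht1 : t ≠ 1 := by
        intro h; apply ht; rw [h]; exact Subgroup.one_mem _
      exact ⟨a, t, ha, orderOf_eq_prime ht2 ht1, hta⟩
    · have hta1 : t * a ≠ 1 := by
        intro h; apply ht
        rw [eq_inv_of_mul_eq_one_left h]
        exact Subgroup.inv_mem _ (Subgroup.mem_zpowers a)
      refine ⟨a, t * a, ha, ?_, ?_⟩
      · apply orderOf_eq_prime _ hta1
        have : (t * a) ^ 2 = (t * a * t⁻¹) * (t ^ 2) * a := by rw [pow_two, pow_two]; group
        rw [this, hta, ht2, ← hconj]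
        calc a⁻¹ * a ^ K * a ^ K * a = a⁻¹ * (a ^ K) ^ 2 * a := by rw [pow_two]; group
          _ = 1 := by rw [hzz]; group
      · rw [← hta]; group

end Cfsg.Agent.S4399
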