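import Cfsg.Statements.S3224
import Mathlib
import Cfsg.Agent.S4399
import Cfsg.Agent.S0218
import Cfsg.Agent.Lib.Helper53.PGroupAb

set_option autoImplicit false
open Cfsg

namespace Cfsg.Agent.S3224

open Cfsg.Agent.Helper53

/-- the size of the commutator subgroup is at least the index of a centralizer. -/
theorem index_centralizer_le_card_commutator {S : Type*} [Group S] [Finite S] (x : S) :
    (Subgroup.centralizer ({x} : Set S)).index ≤ Nat.card ↥(commutator S) := by
  classical
  have hmem : ∀ g : S, g * x * g⁻¹ * x⁻¹ ∈ commutator S := by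
    intro g
    rw [commutator_def]
    exact Subgroup.commutator_mem_commutator (Subgroup.mem_top g) (Subgroup.mem_top x)
  let f : S ⧸ Subgroup.centralizer ({x} : Set S) → ↥(commutator S) :=
    Quotient.lift (fun g : S => (⟨g * x * g⁻¹ * x⁻¹, hmem g⟩ : ↥(commutator S))) (by
      intro g h hgh
      have hgh' : g⁻¹ * h ∈ Subgroup.centralizer ({x} : Set S) := QuotientGroup.leftRel_apply.mp hgh
      rw [Subgroup.mem_centralizer_iff] at hgh'
      have hc : x * (g⁻¹ * h) = (g⁻¹ * h) * x := hgh' x rfl
      apply Subtype.ext
      change g * x * g⁻¹ * x⁻¹ = h * x * h⁻¹ * x⁻¹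
      have : h * x * h⁻¹ = g * ((g⁻¹ * h) * x) * (g⁻¹ * h)⁻¹ * g⁻¹ := by group
      rw [this, ← hc]; group)
  have hf : Function.Injective f := by
    intro a b hab
    induction a using Quotient.inductionOn with
    | _ g =>
    induction b using Quotient.inductionOn with
    | _ h =>
    apply Quotient.sound
    apply QuotientGroup.leftRel_apply.mpr
    have h1 : g * x * g⁻¹ * x⁻¹ = h * x * h⁻¹ * x⁻¹ := congrArg Subtype.val hab
    have h2 : g * x * g⁻¹ = h * x * h⁻¹ := mul_right_cancel h1
    rw [Subgroup.mem_centralizer_iff]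
    intro y hy
    rw [Set.mem_singleton_iff] at hy
    subst hy
    calc y * (g⁻¹ * h) = g⁻¹ * (g * y * g⁻¹) * h := by group
      _ = g⁻¹ * (h * y * h⁻¹) * h := by rw [h2]
      _ = g⁻¹ * h * y := by group
  rw [Subgroup.index_eq_card]
  exact Nat.card_le_card_of_injective f hf

/-- A finite 2-group containing an involution whose centralizer has order 4 is dihedral, quasi-dihedral (semidihedral), or of order 4. -/
theorem result {S : Type*} [Group S] [Finite S] (hS : IsPGroup 2 S)
    (x : S) (hx : orderOf x = 2) (hC : Nat.card ↥(Subgroup.centralizer ({x} : Set S)) = 4) :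
    (∃ n : ℕ, Nonempty (S ≃* DihedralGroup n)) ∨ Cfsg.IsQuasiDihedral S ∨ Nat.card S = 4 := by
  classical
  by_cases h4 : Nat.card S = 4
  · right; right; exact h4
  have hf2 : Fact (Nat.Prime 2) := ⟨Nat.prime_two⟩
  obtain ⟨n, hn⟩ := IsPGroup.iff_card.1 hS
  -- if `x` is central then `|S| = 4`
  have hcentral : (∀ y : S, y * x = x * y) → False := by
    intro hall
    apply h4
    have : Subgroup.centralizer ({x} : Set S) = ⊤ := by
      rw [eq_top_iff]
      intro y _
      rw [Subgroup.mem_centralizer_iff]
      intro z hz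
      rw [Set.mem_singleton_iff] at hz
      rw [hz]
      exact (hall y).symm
    rw [← hC, this]
    exact (Subgroup.card_top).symm
  have hncyc : ¬ IsCyclic S := by
    intro hcyc
    apply hcentral
    intro y
    exact (isMulCommutative_iff.mp hcyc.isMulCommutative) y x
  have hnab : ¬ IsCyclic (Abelianization S) :=
    fun h => hncyc (isCyclic_of_isCyclic_abelianization hS h)
  have h1 := index_centralizer_le_card_commutator x
  have h2 := (Subgroup.centralizer ({x} : Set S)).card_mul_index
  have h3 := (commutator S).card_mul_index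
  rw [hC] at h2
  have hidx_le : (commutator S).index ≤ 4 := by
    have hpos : 0 < Nat.card ↥(commutator S) := Nat.card_pos
    by_contra hlt
    push Not at hlt
    have h5 : Nat.card ↥(commutator S) * 5 ≤ Nat.card ↥(commutator S) * (commutator S).index :=
      Nat.mul_le_mul_left _ hlt
    have h6 : 4 * (Subgroup.centralizer ({x} : Set S)).index ≤
        4 * Nat.card ↥(commutator S) := Nat.mul_le_mul_left _ h1
    omega
  have hidx_dvd : (commutator S).index ∣ 2 ^ n := hn ▸ Subgroup.index_dvd_card _
  obtain ⟨m, hm, hidx⟩ := (Nat.dvd_prime_pow Nat.prime_two).mp hidx_dvd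
  have hab_card : Nat.card (Abelianization S) = (commutator S).index := rfl
  have hm2 : m = 2 := by
    have hmle : m ≤ 2 := by
      by_contra h
      push Not at h
      have : 2 ^ 3 ≤ 2 ^ m := Nat.pow_le_pow_right (by norm_num) h
      omega
    interval_cases m
    · exfalso
      apply hnab
      have : Nat.card (Abelianization S) = 1 := by rw [hab_card, hidx]; norm_num
      have : Subsingleton (Abelianization S) := (Nat.card_eq_one_iff_unique.mp this).1
      infer_instance
    · exfalso
      apply hnab
      have : Nat.card (Abelianization S) = 2 := by rw [hab_card, hidx]; norm_num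
      exact isCyclic_of_prime_card this
    · rfl
  have hab : Nat.card (Abelianization S) = 4 := by rw [hab_card, hidx, hm2]; norm_num
  have hexp : ∀ y : Abelianization S, y ^ 2 = 1 := by
    intro y
    have hy4 : y ^ 4 = 1 := by rw [← hab]; exact pow_card_eq_one'
    have hdvd : orderOf y ∣ 4 := orderOf_dvd_of_pow_eq_one hy4
    have hne4 : orderOf y ≠ 4 := by
      intro h
      apply hnab
      exact isCyclic_of_orderOf_eq_card y (by rw [h, hab])
    have hd2 : orderOf y ∣ 2 := by
      have hle : orderOf y ≤ 4 := Nat.le_of_dvd (by norm_num) hdvd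
      have hpos : 0 < orderOf y := orderOf_pos y
      have h3' : orderOf y ≠ 3 := by
        intro h; rw [h] at hdvd; omega
      have : orderOf y = 1 ∨ orderOf y = 2 := by omega
      rcases this with h | h <;> rw [h]
      norm_num
    exact orderOf_dvd_iff_pow_eq_one.mp hd2
  rcases Cfsg.Agent.S4399.result hS hab hexp with h | h | h | h
  · exact absurd h h4
  · obtain ⟨k, hk⟩ := h
    left
    exact ⟨2 ^ (k + 2), hk⟩
  · obtain ⟨k, hcard, a, b, ha, hb, hab'⟩ := h
    right; left
    refine ⟨k + 3, by omega, hcard, a, b, ha, hb, ?_⟩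
    have : k + 3 - 1 = k + 2 := by omega
    rw [this]
    exact hab'
  · exfalso
    obtain ⟨k, ⟨e⟩⟩ := h
    have hne : NeZero (2 ^ (k + 1)) := ⟨by positivity⟩
    apply hcentral
    intro y
    have h5 : orderOf (y * x * y⁻¹) = 2 := by
      have := MulEquiv.orderOf_eq (MulAut.conj y) x
      rw [MulAut.conj_apply] at this
      rw [this, hx]
    have h6 : orderOf (e (y * x * y⁻¹)) = 2 := by rw [MulEquiv.orderOf_eq]; exact h5
    have h7 : orderOf (e x) = 2 := by rw [MulEquiv.orderOf_eq]; exact hx
    have h8 := (Cfsg.Agent.S0218.invol_iff _ _).mp h6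
    have h9 := (Cfsg.Agent.S0218.invol_iff _ _).mp h7
    have h10 : y * x * y⁻¹ = x := e.injective (by rw [h8, h9])
    calc y * x = (y * x * y⁻¹) * y := by group
      _ = x * y := by rw [h10]

end Cfsg.Agent.S3224
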