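import Cfsg.Statements.S3919
import Mathlib
import Cfsg.Agent.S0016
import Cfsg.Agent.S3224
import Cfsg.Agent.Lib.Helper14.QuatSylow
import Cfsg.Agent.Lib.Helper73.TwoGroupD

set_option autoImplicit false
open Cfsg

namespace Cfsg.Agent.S3919

open Cfsg.Agent.Helper73

/-- index `4` from a lower bound on the order of the commutator subgroup -/
theorem index_four_of_le {X : Type*} [Group X] [Finite X] (n : ℕ) (hn : 2 ≤ n)
    (hcard : Nat.card X = 2 ^ n) (hX : IsPGroup 2 X) (hna : commutator X ≠ ⊥)
    (hge : 2 ^ (n - 2) ≤ Nat.card (commutator X)) : (commutator X).index = 4 := by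
  obtain ⟨m, hm⟩ := four_dvd_index_commutator hX hna
  have hmul := (commutator X).card_mul_index
  rw [hcard, hm] at hmul
  have h2n : 2 ^ n = 2 ^ (n - 2) * 4 := by
    rw [show (4 : ℕ) = 2 ^ 2 by norm_num, ← pow_add]; congr 1; omega
  rw [h2n] at hmul
  have hmul' : Nat.card (commutator X) * m = 2 ^ (n - 2) := by
    have : Nat.card (commutator X) * m * 4 = 2 ^ (n - 2) * 4 := by rw [← hmul]; ring
    exact Nat.eq_of_mul_eq_mul_right (by norm_num) this
  have hm1 : m = 1 := by
    have hpos : 0 < 2 ^ (n - 2) := by positivity
    rcases (show m = 0 ∨ m = 1 ∨ 2 ≤ m by omega) with rfl | h | h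
    · rw [mul_zero] at hmul'; omega
    · exact h
    · exfalso
      have : Nat.card (commutator X) * 2 ≤ Nat.card (commutator X) * m :=
        Nat.mul_le_mul_left _ h
      omega
  rw [hm, hm1]

/-- the commutator subgroup of a generalized quaternion group is large -/
theorem card_commutator_quaternion {G : Type*} [Group G] [Finite G] (m : ℕ) (hm : 1 ≤ m)
    (e : G ≃* QuaternionGroup (2 ^ m)) : 2 ^ m ≤ Nat.card (commutator G) := by
  have h1 : commutator G = (commutator (QuaternionGroup (2 ^ m))).map e.symm.toMonoidHom := by
    rw [map_commutator_eq, MonoidHom.range_eq_top.2 e.symm.surjective, commutator_def]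
  have hw : e.symm (QuaternionGroup.a 2) ∈ commutator G := by
    rw [h1]
    exact Subgroup.mem_map_of_mem _ (Cfsg.Agent.Helper14.a_two_mem_commutator (2 ^ m))
  haveI : NeZero (2 ^ m) := ⟨by positivity⟩
  have ho : orderOf (e.symm (QuaternionGroup.a 2 : QuaternionGroup (2 ^ m))) = 2 ^ m := by
    rw [MulEquiv.orderOf_eq, QuaternionGroup.orderOf_a, ZMod.val_two_eq_two_mod]
    have h4 : 4 ≤ 2 * 2 ^ m := by
      have : 2 ^ 1 ≤ 2 ^ m := Nat.pow_le_pow_right (by norm_num) hm
      omega
    rw [Nat.mod_eq_of_lt (by omega)]
    have : Nat.gcd (2 * 2 ^ m) 2 = 2 := Nat.gcd_eq_right (dvd_mul_right 2 _)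
    rw [this, Nat.mul_div_cancel_left _ (by norm_num)]
  rw [← ho]
  exact Nat.le_of_dvd Nat.card_pos (Subgroup.orderOf_dvd_natCard _ hw)

/-- Say that a group has self-centralizing non-cyclic subgroups when every non-cyclic subgroup H satisfies C_G(H) ≤ H. A finite non-abelian 2-group G of order 2^n has self-centralizing non-cyclic subgroups if and only if G has nilpotency class n − 1 (that is, G is dihedral, semidihedral or generalized quaternion). -/
theorem result {G : Type*} [Group G] [Finite G] (hna : ¬ IsMulCommutative G) (n : ℕ) (hG : Nat.card G = 2 ^ n) :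
    (∀ H : Subgroup G, ¬ IsCyclic ↥H → Subgroup.centralizer (H : Set G) ≤ H) ↔ (⊤ : Subgroup G).lowerCentralSeries (n - 2) ≠ ⊥ := by
  classical
  have hf2 : Fact (Nat.Prime 2) := ⟨Nat.prime_two⟩
  have hp : IsPGroup 2 G := IsPGroup.of_card hG
  have hnil : Group.IsNilpotent G := hp.isNilpotent
  have hG'0 : commutator G ≠ ⊥ := by
    intro h
    apply hna
    rw [← Subgroup.lowerCentralSeries_one_eq_bot_iff]
    exact h
  have h4dvd := four_dvd_index_commutator hp hG'0
  have hn3 : 3 ≤ n := by
    by_contra hlt
    push Not at hlt
    have h1 := (commutator G).card_mul_index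
    rw [hG] at h1
    obtain ⟨m, hm⟩ := h4dvd
    have hc2 : 2 ≤ Nat.card (commutator G) := by
      by_contra h
      push Not at h
      have : Nat.card (commutator G) = 1 := by
        have := Nat.card_pos (α := commutator G)
        omega
      exact hG'0 (Subgroup.card_eq_one.1 this)
    have hm0 : m ≠ 0 := by
      rintro rfl
      rw [hm, mul_zero, mul_zero] at h1
      have : 0 < 2 ^ n := by positivity
      omega
    have h8 : 8 ≤ 2 ^ n := by
      rw [← h1, hm]
      have : 2 * (4 * 1) ≤ Nat.card (commutator G) * (4 * m) :=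
        Nat.mul_le_mul hc2 (Nat.mul_le_mul_left 4 (Nat.one_le_iff_ne_zero.2 hm0))
      omega
    have : 2 ^ n ≤ 2 ^ 2 := Nat.pow_le_pow_right (by norm_num) (by omega)
    omega
  -- reformulate the right-hand side
  have key : (⊤ : Subgroup G).lowerCentralSeries (n - 2) ≠ ⊥ ↔ (commutator G).index = 4 := by
    constructor
    · intro h
      have hc : ¬ Group.nilpotencyClass G ≤ n - 2 := fun hle =>
        h ((Subgroup.lowerCentralSeries_eq_bot_iff_nilpotencyClass_le).2 hle)
      push Not at hc
      have hge := card_lcs_ge hp (Group.nilpotencyClass G - 1) 1 (by omega)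
      have hge' : 2 ^ (Group.nilpotencyClass G - 1) ≤ Nat.card (commutator G) := hge
      apply index_four_of_le n (by omega) hG hp hG'0
      exact le_trans (Nat.pow_le_pow_right (by norm_num) (by omega)) hge'
    · intro hidx h
      have hc := class_of_index_four n (by omega) G hG hidx
      have := (Subgroup.lowerCentralSeries_eq_bot_iff_nilpotencyClass_le).1 h
      omega
  rw [key]
  constructor
  · -- self-centralizing ⟹ index 4
    intro hself
    apply index_four_of_le n (by omega) hG hp hG'0
    by_cases huniq : ∀ H K : Subgroup G, Nat.card H = 2 → Nat.card K = 2 → H = K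
    · rcases Cfsg.Agent.S0016.result 2 hp huniq with hcyc | ⟨-, m, ⟨e⟩⟩
      · exfalso
        apply hna
        obtain ⟨g, hg⟩ := hcyc.exists_generator
        constructor; constructor
        intro x y
        obtain ⟨i, rfl⟩ := Subgroup.mem_zpowers_iff.1 (hg x)
        obtain ⟨j, rfl⟩ := Subgroup.mem_zpowers_iff.1 (hg y)
        rw [← zpow_add, ← zpow_add, add_comm]
      · haveI : NeZero (2 ^ m) := ⟨by positivity⟩
        have hcard : Nat.card G = 4 * 2 ^ m := by
          rw [Nat.card_congr e.toEquiv, Nat.card_eq_fintype_card, QuaternionGroup.card]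
        rw [hG] at hcard
        have hmn : n = m + 2 := by
          have : (2 : ℕ) ^ n = 2 ^ (m + 2) := by rw [hcard]; ring
          exact Nat.pow_right_injective (le_refl 2) this
        have hm1 : 1 ≤ m := by omega
        have := card_commutator_quaternion m hm1 e
        rw [hmn, Nat.add_sub_cancel]
        exact this
    · push Not at huniq
      obtain ⟨H, K, hH, hK, hHK⟩ := huniq
      -- a central involution
      have hZ0 : Subgroup.center G ≠ ⊥ := by
        have := Cfsg.Agent.Helper10.normal_inf_center_ne_bot (⊤ : Subgroup G) (by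
          intro h
          have : Nat.card (⊤ : Subgroup G) = 1 := by rw [h, Subgroup.card_bot]
          rw [Subgroup.card_top, hG] at this
          have : 2 ^ 3 ≤ 2 ^ n := Nat.pow_le_pow_right (by norm_num) hn3
          omega)
        rwa [top_inf_eq] at this
      obtain ⟨k, hk⟩ := IsPGroup.iff_card.1 (hp.to_subgroup (Subgroup.center G))
      have hk0 : k ≠ 0 := by
        rintro rfl
        rw [pow_zero, Subgroup.card_eq_one] at hk
        exact hZ0 hk
      obtain ⟨z, hzZ, hoz⟩ := exists_mem_orderOf_eq 2 (Subgroup.center G)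
        (by rw [hk]; exact dvd_pow_self 2 hk0)
      -- an involution different from z
      obtain ⟨x, hox, hxz⟩ : ∃ x : G, orderOf x = 2 ∧ x ≠ z := by
        have hgen : ∀ L : Subgroup G, Nat.card L = 2 → ∃ y ∈ L, orderOf y = 2 ∧
            ∀ w ∈ L, w = 1 ∨ w = y := by
          intro L hL
          obtain ⟨y, hyL, hoy⟩ := exists_mem_orderOf_eq 2 L (by rw [hL])
          refine ⟨y, hyL, hoy, ?_⟩
          have hzp : Subgroup.zpowers y = L := by
            apply Subgroup.eq_of_le_of_card_ge (Subgroup.zpowers_le.2 hyL)
            rw [Nat.card_zpowers, hoy, hL]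
          intro w hw
          rw [← hzp] at hw
          obtain ⟨i, rfl⟩ := Subgroup.mem_zpowers_iff.1 hw
          have hy2 : y ^ 2 = 1 := by rw [← hoy]; exact pow_orderOf_eq_one y
          rcases Int.even_or_odd i with ⟨j, rfl⟩ | ⟨j, rfl⟩
          · left
            rw [← two_mul, zpow_mul, zpow_ofNat, hy2, one_zpow]
          · right
            rw [zpow_add, zpow_mul, zpow_ofNat, hy2, one_zpow, one_mul, zpow_one]
        obtain ⟨y1, hy1H, hoy1, hH'⟩ := hgen H hH
        obtain ⟨y2, hy2K, hoy2, hK'⟩ := hgen K hK
        by_cases h1 : y1 = z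
        · refine ⟨y2, hoy2, ?_⟩
          intro h2
          apply hHK
          have hy12 : y1 = y2 := h1.trans h2.symm
          ext w
          constructor
          · intro hw
            rcases hH' w hw with h | h
            · rw [h]; exact Subgroup.one_mem _
            · rw [h, hy12]; exact hy2K
          · intro hw
            rcases hK' w hw with h | h
            · rw [h]; exact Subgroup.one_mem _
            · rw [h, ← hy12]; exact hy1H
        · exact ⟨y1, hoy1, h1⟩
      set V : Subgroup G := Subgroup.zpowers x ⊔ Subgroup.zpowers z with hV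
      have hzn : (Subgroup.zpowers z).Normal := by
        constructor
        intro y hy g
        obtain ⟨i, rfl⟩ := Subgroup.mem_zpowers_iff.1 hy
        have hc : z ^ i ∈ Subgroup.center G := Subgroup.zpow_mem _ hzZ i
        rw [Subgroup.mem_center_iff] at hc
        rw [hc g, mul_assoc, mul_inv_cancel, mul_one]
        exact Subgroup.zpow_mem_zpowers z i
      have hVcard : Nat.card V ≤ 4 := by
        have h1 : Nat.card V ∣ Nat.card (Subgroup.zpowers z) * Nat.card (Subgroup.zpowers x) := by
          rw [hV, sup_comm]
          exact Cfsg.Agent.Helper34.card_sup_dvd_mul (Subgroup.zpowers z) (Subgroup.zpowers x)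
        rw [Nat.card_zpowers, Nat.card_zpowers, hox, hoz] at h1
        exact Nat.le_of_dvd (by norm_num) h1
      have hVnc : ¬ IsCyclic V := by
        intro hcyc
        have hle := Cfsg.Agent.Helper14.le_of_card_dvd_of_le_cyclic V (Subgroup.zpowers x)
          (Subgroup.zpowers z) le_sup_left le_sup_right
          (by rw [Nat.card_zpowers, Nat.card_zpowers, hox, hoz])
        have hxz' : x ∈ Subgroup.zpowers z := hle (Subgroup.mem_zpowers x)
        obtain ⟨i, hi⟩ := Subgroup.mem_zpowers_iff.1 hxz'
        have hz2 : z ^ 2 = 1 := by rw [← hoz]; exact pow_orderOf_eq_one z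
        rcases Int.even_or_odd i with ⟨j, rfl⟩ | ⟨j, rfl⟩
        · rw [← two_mul, zpow_mul, zpow_ofNat, hz2, one_zpow] at hi
          rw [← hi, orderOf_one] at hox
          omega
        · rw [zpow_add, zpow_mul, zpow_ofNat, hz2, one_zpow, one_mul, zpow_one] at hi
          exact hxz hi.symm
      have hCV := hself V hVnc
      have hCx : Subgroup.centralizer ({x} : Set G) ≤ V := by
        intro c hc
        apply hCV
        rw [Subgroup.mem_centralizer_iff]
        have hle : V ≤ Subgroup.centralizer ({c} : Set G) := by
          rw [hV]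
          apply sup_le
          · rw [Subgroup.zpowers_le, Subgroup.mem_centralizer_iff]
            intro y hy
            rw [Set.mem_singleton_iff] at hy
            rw [hy]
            rw [Subgroup.mem_centralizer_iff] at hc
            exact (hc x rfl).symm
          · rw [Subgroup.zpowers_le, Subgroup.mem_centralizer_iff]
            intro y hy
            rw [Set.mem_singleton_iff] at hy
            rw [hy]
            exact (Subgroup.mem_center_iff.1 hzZ c)
        intro v hv
        have := hle hv
        rw [Subgroup.mem_centralizer_iff] at this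
        exact (this c rfl).symm
      have hCcard : Nat.card (Subgroup.centralizer ({x} : Set G)) ≤ 4 :=
        le_trans (Subgroup.card_le_of_le hCx) hVcard
      have h1 := Cfsg.Agent.S3224.index_centralizer_le_card_commutator x
      have h2 := (Subgroup.centralizer ({x} : Set G)).card_mul_index
      rw [hG] at h2
      have h2n : 2 ^ n = 2 ^ (n - 2) * 4 := by
        rw [show (4 : ℕ) = 2 ^ 2 by norm_num, ← pow_add]; congr 1; omega
      rw [h2n] at h2
      by_contra hlt
      push Not at hlt
      have h3 : (Subgroup.centralizer ({x} : Set G)).index < 2 ^ (n - 2) := lt_of_le_of_lt h1 hlt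
      have h4 : Nat.card (Subgroup.centralizer ({x} : Set G)) *
          (Subgroup.centralizer ({x} : Set G)).index ≤ 4 * (Subgroup.centralizer ({x} : Set G)).index :=
        Nat.mul_le_mul_right _ hCcard
      omega
  · -- index 4 ⟹ self-centralizing
    intro hidx H hH
    obtain ⟨a, ha⟩ := exists_cyclic_max n hn3 G hG hidx
    obtain ⟨hZcard, hZA, hZmem⟩ := cyclic_max_center n hn3 hG hidx a ha
    set A := Subgroup.zpowers a with hA
    set z := a ^ (2 ^ (n - 2)) with hz
    have hN2 : 2 ^ (n - 1) = 2 * 2 ^ (n - 2) := by
      rw [← pow_succ']; congr 1; omega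
    have hAidx : A.index = 2 := by
      have h1 := A.card_mul_index
      rw [hA, Nat.card_zpowers, ha, hG] at h1
      have : 2 ^ n = 2 ^ (n - 1) * 2 := by
        rw [← pow_succ]; congr 1; omega
      rw [this] at h1
      exact Nat.eq_of_mul_eq_mul_left (by positivity) h1
    have hAcomm : ∀ x ∈ A, ∀ y ∈ A, x * y = y * x := by
      intro x hx y hy
      obtain ⟨i, rfl⟩ := Subgroup.mem_zpowers_iff.1 hx
      obtain ⟨j, rfl⟩ := Subgroup.mem_zpowers_iff.1 hy
      rw [← zpow_add, ← zpow_add, add_comm]
    -- an element of H outside A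
    obtain ⟨g, hgH, hgA⟩ : ∃ g ∈ H, g ∉ A := by
      by_contra h
      push Not at h
      apply hH
      have hle : H ≤ A := fun y hy => h y hy
      exact Subgroup.isCyclic_of_le hle
    have hgen := sup_zpowers_eq_top_of_index_two A hAidx g hgA
    have hCg : A ⊓ Subgroup.centralizer {g} = Subgroup.center G := by
      rw [Cfsg.Agent.Helper76.inf_centralizer_eq_inf_center A hAcomm g hgen]
      exact inf_eq_right.2 hZA
    -- z ∈ H
    have hzH : z ∈ H := by
      have hHA : H ⊓ A ≠ ⊥ := by
        intro hbot
        apply hH
        have hsub : ∀ y ∈ H, y = 1 ∨ y = g := by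
          intro y hy
          by_cases hyA : y ∈ A
          · left
            have : y ∈ H ⊓ A := ⟨hy, hyA⟩
            rw [hbot, Subgroup.mem_bot] at this
            exact this
          · right
            have h1 : g⁻¹ * y ∈ A := by
              rw [Subgroup.mul_mem_iff_of_index_two hAidx]
              constructor
              · intro h; exact absurd (by simpa using A.inv_mem h) hgA
              · intro h; exact absurd h hyA
            have : g⁻¹ * y ∈ H ⊓ A := ⟨H.mul_mem (H.inv_mem hgH) hy, h1⟩
            rw [hbot, Subgroup.mem_bot] at this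
            exact (inv_mul_eq_one.1 this).symm
        have hHz : H = Subgroup.zpowers g := by
          apply le_antisymm
          · intro y hy
            rcases hsub y hy with h | h
            · rw [h]; exact Subgroup.one_mem _
            · rw [h]; exact Subgroup.mem_zpowers g
          · exact Subgroup.zpowers_le.2 hgH
        rw [hHz]
        infer_instance
      obtain ⟨y, hy, hy1⟩ : ∃ y : G, y ∈ H ⊓ A ∧ y ≠ 1 := by
        by_contra h
        push Not at h
        apply hHA
        rw [eq_bot_iff]
        intro y hy
        rw [Subgroup.mem_bot]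
        exact h y hy
      -- a power of y is the involution z
      obtain ⟨j, hj⟩ := (IsPGroup.iff_orderOf.1 hp) y
      have hj0 : j ≠ 0 := by
        rintro rfl
        rw [pow_zero, orderOf_eq_one_iff] at hj
        exact hy1 hj
      have hy2 : orderOf (y ^ (2 ^ (j - 1))) = 2 := by
        rw [orderOf_pow_of_dvd (by positivity) (by rw [hj]; exact pow_dvd_pow 2 (by omega)), hj]
        have : 2 ^ j = 2 ^ (j - 1) * 2 := by
          rw [← pow_succ]; congr 1; omega
        rw [this, Nat.mul_div_cancel_left _ (by positivity)]
      have hyA : y ^ (2 ^ (j - 1)) ∈ A := A.pow_mem hy.2 _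
      -- elements of order 2 in A
      have hzz : z ^ 2 = 1 := by
        rw [hz, ← pow_mul, mul_comm, ← hN2, ← ha]; exact pow_orderOf_eq_one a
      have : y ^ (2 ^ (j - 1)) = z := by
        rw [hA, ← mem_powers_iff_mem_zpowers] at hyA
        obtain ⟨i, hi⟩ := hyA
        have hi : a ^ i = y ^ (2 ^ (j - 1)) := hi
        have h1 : a ^ (i * 2) = 1 := by
          rw [pow_mul, hi]
          have := pow_orderOf_eq_one (y ^ (2 ^ (j - 1)))
          rwa [hy2] at this
        have hdvd : 2 * 2 ^ (n - 2) ∣ i * 2 := by
          rw [← hN2, ← ha]; exact orderOf_dvd_of_pow_eq_one h1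
        have hdvd' : 2 ^ (n - 2) ∣ i := by
          have : 2 ^ (n - 2) * 2 ∣ i * 2 := by rwa [mul_comm (2 ^ (n - 2)) 2]
          exact Nat.dvd_of_mul_dvd_mul_right (by norm_num) this
        obtain ⟨r, rfl⟩ := hdvd'
        rw [← hi, pow_mul, ← hz]
        rcases Nat.even_or_odd r with ⟨s, rfl⟩ | ⟨s, rfl⟩
        · exfalso
          rw [pow_mul, ← hz, ← two_mul, pow_mul, hzz, one_pow] at hi
          rw [← hi, orderOf_one] at hy2
          omega
        · rw [pow_add, pow_mul, hzz, one_pow, one_mul, pow_one]
      rw [← this]
      exact H.pow_mem hy.1 _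
    have hZH : ∀ w ∈ Subgroup.center G, w ∈ H := by
      intro w hw
      rcases (hZmem w).1 hw with h | h
      · rw [h]; exact Subgroup.one_mem _
      · rw [h]; exact hzH
    intro c hc
    rw [Subgroup.mem_centralizer_iff] at hc
    have hcg : g * c = c * g := hc g hgH
    by_cases hcA : c ∈ A
    · apply hZH
      rw [← hCg]
      refine Subgroup.mem_inf.2 ⟨hcA, ?_⟩
      rw [Subgroup.mem_centralizer_iff]
      intro w hw
      rw [Set.mem_singleton_iff] at hw
      rw [hw]; exact hcg
    · have h1 : g⁻¹ * c ∈ A := by
        rw [Subgroup.mul_mem_iff_of_index_two hAidx]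
        constructor
        · intro h; exact absurd (by simpa using A.inv_mem h) hgA
        · intro h; exact absurd h hcA
      have h2 : g⁻¹ * c ∈ Subgroup.center G := by
        rw [← hCg]
        refine Subgroup.mem_inf.2 ⟨h1, ?_⟩
        rw [Subgroup.mem_centralizer_iff]
        intro w hw
        rw [Set.mem_singleton_iff] at hw
        rw [hw]
        calc g * (g⁻¹ * c) = c := by group
          _ = g⁻¹ * (g * c) := by group
          _ = g⁻¹ * (c * g) := by rw [hcg]
          _ = g⁻¹ * c * g := by group
      have : c = g * (g⁻¹ * c) := by group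
      rw [this]
      exact H.mul_mem hgH (hZH _ h2)

end Cfsg.Agent.S3919
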