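import Cfsg.Statements.S4189
import Mathlib
import Cfsg.Agent.Lib.Helper73.TwoGroupC
import Cfsg.Agent.Lib.Helper73.QuatRecog
import Cfsg.Agent.Lib.Helper73.CoprimeFrattini

set_option autoImplicit false
open Cfsg

namespace Cfsg.Agent.S4189

open Cfsg.Agent.Helper73

/-- squares of the elements outside the cyclic maximal subgroup -/
theorem sq_outside {P : Type*} [Group P] (a t w s : P) (hw : w ∈ Subgroup.zpowers a)
    (hs : s ∈ Subgroup.zpowers a) (ht2 : t ^ 2 = s) (hta : t * a * t⁻¹ = a⁻¹ * w)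
    (hidx : (Subgroup.zpowers a).index = 2) (g : P) (hg : g ∉ Subgroup.zpowers a)
    (ht : t ∉ Subgroup.zpowers a) :
    ∃ i : ℤ, g ^ 2 = w ^ i * s := by
  have hmem : t⁻¹ * g ∈ Subgroup.zpowers a := by
    rw [Subgroup.mul_mem_iff_of_index_two hidx]
    constructor
    · intro h; exact absurd (by simpa using (Subgroup.zpowers a).inv_mem h) ht
    · intro h; exact absurd h hg
  obtain ⟨i, hi⟩ := Subgroup.mem_zpowers_iff.1 hmem
  obtain ⟨k, rfl⟩ := Subgroup.mem_zpowers_iff.1 hw
  obtain ⟨l, rfl⟩ := Subgroup.mem_zpowers_iff.1 hs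
  refine ⟨i, ?_⟩
  have hg' : g = t * a ^ i := by rw [hi]; group
  have hconj : t * a ^ i * t⁻¹ = (a⁻¹ * a ^ k) ^ i := by
    rw [← hta, conj_zpow]
  have hc1 : Commute a⁻¹ (a ^ k) := (Commute.refl a).inv_left.zpow_right k
  rw [hc1.mul_zpow] at hconj
  have : g ^ 2 = (t * a ^ i * t⁻¹) * t ^ 2 * a ^ i := by rw [hg', pow_two, pow_two]; group
  rw [this, hconj, ht2, inv_zpow]
  have e1 : (a ^ k) ^ i = a ^ (k * i) := (zpow_mul a k i).symm
  rw [e1, ← zpow_neg, ← zpow_add, ← zpow_add, ← zpow_add, ← zpow_add]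
  congr 1; ring

/-- Let P be a finite non-abelian 2-group whose commutator subgroup has index 4 and whose automorphism group is not a 2-group (some automorphism has order that is not a power of 2). Then P is isomorphic to the quaternion group of order 8. -/
theorem result {P : Type*} [Group P] [Finite P] (hP : IsPGroup 2 P) (hna : ¬ IsMulCommutative P) (h4 : (commutator P).index = 4) (haut : ¬ IsPGroup 2 (MulAut P)) : Nonempty (P ≃* QuaternionGroup 2) := by
  classical
  have hf2 : Fact (Nat.Prime 2) := ⟨Nat.prime_two⟩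
  obtain ⟨n, hn⟩ := IsPGroup.iff_card.1 hP
  have hdvd : 4 ∣ 2 ^ n := by
    rw [← hn, ← h4]; exact Subgroup.index_dvd_card _
  have hn2 : 2 ≤ n := by
    have : (2 : ℕ) ^ 2 ∣ 2 ^ n := by norm_num; exact hdvd
    exact (Nat.pow_dvd_pow_iff_le_right (by norm_num)).1 this
  have hn3 : 3 ≤ n := by
    by_contra h
    have hn2' : n = 2 := by omega
    subst hn2'
    have hc := card_commutator_of_index 2 le_rfl hn h4
    rw [Nat.sub_self, pow_zero, Subgroup.card_eq_one] at hc
    apply hna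
    rw [← Subgroup.lowerCentralSeries_one_eq_bot_iff]
    exact hc
  obtain ⟨a, ha⟩ := exists_cyclic_max n hn3 P hn h4
  set A := Subgroup.zpowers a with hA
  have hN2 : 2 ^ (n - 1) = 2 * 2 ^ (n - 2) := by
    rw [← pow_succ']; congr 1; omega
  have hAidx : A.index = 2 := by
    have h1 := A.card_mul_index
    rw [hA, Nat.card_zpowers, ha, hn] at h1
    have : 2 ^ n = 2 ^ (n - 1) * 2 := by
      rw [← pow_succ]; congr 1; omega
    rw [this] at h1
    exact Nat.eq_of_mul_eq_mul_left (by positivity) h1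
  set z := a ^ (2 ^ (n - 2)) with hz
  have hzA : z ∈ A := Subgroup.pow_mem _ (Subgroup.mem_zpowers a) _
  have hzz : z ^ 2 = 1 := by
    rw [hz, ← pow_mul, mul_comm, ← hN2, ← ha]; exact pow_orderOf_eq_one a
  -- an automorphism of odd prime order
  obtain ⟨α, hα⟩ : ∃ α : MulAut P, ∀ k : ℕ, α ^ 2 ^ k ≠ 1 := by
    by_contra h
    push Not at h
    exact haut h
  have hoα : ¬ ∃ k, orderOf α = 2 ^ k := by
    rintro ⟨k, hk⟩
    exact hα k (by rw [← hk]; exact pow_orderOf_eq_one α)
  have hoαpos : 0 < orderOf α := orderOf_pos α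
  obtain ⟨q, hq, hqdvd, hq2⟩ : ∃ q : ℕ, q.Prime ∧ q ∣ orderOf α ∧ q ≠ 2 := by
    by_contra h
    push Not at h
    apply hoα
    exact ⟨(orderOf α).primeFactorsList.length,
      Nat.eq_prime_pow_of_unique_prime_dvd hoαpos.ne' (fun {r} hr hrd => h r hr hrd)⟩
  have hqf : Fact q.Prime := ⟨hq⟩
  set β := α ^ (orderOf α / q) with hβ
  have hoβ : orderOf β = q := by
    rw [hβ, orderOf_pow_of_dvd (by
      intro h0
      have := Nat.div_mul_cancel hqdvd
      rw [h0, zero_mul] at this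
      omega) (Nat.div_dvd_of_dvd hqdvd), Nat.div_div_self hqdvd hoαpos.ne']
  have hβq : β ^ q = 1 := by rw [← hoβ]; exact pow_orderOf_eq_one β
  have hβ1 : β ≠ 1 := by
    intro h; rw [h, orderOf_one] at hoβ; exact hq.one_lt.ne hoβ
  -- q = 3
  have hq3 : q = 3 := by
    by_contra hq3
    apply hβ1
    set B := Subgroup.zpowers β with hB
    have hBq : IsPGroup q B := IsPGroup.of_card (n := 1) (by rw [hB, Nat.card_zpowers, hoβ, pow_one])
    obtain ⟨d, hd⟩ := hP.index (frattini P)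
    have hd2 : d ≤ 2 := by
      have h1 : commutator P ≤ frattini P := (Cfsg.Agent.S0012.result 2 hP).1
      have h2 := Subgroup.index_dvd_of_le h1
      rw [h4, hd] at h2
      have : (2 : ℕ) ^ d ∣ 2 ^ 2 := by norm_num; exact h2
      exact (Nat.pow_dvd_pow_iff_le_right (by norm_num)).1 this
    have hqi : ∀ i, 1 ≤ i → i ≤ d → ¬ q ∣ 2 ^ i - 1 := by
      intro i hi1 hid
      have : i = 1 ∨ i = 2 := by omega
      rcases this with rfl | rfl
      · norm_num
        exact hq.one_lt.ne'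
      · norm_num
        intro h3
        exact hq3 ((Nat.prime_dvd_prime_iff_eq hq Nat.prime_three).1 h3)
    ext x
    have := coprime_action_trivial hBq hP hd hqi (Ne.symm hq2) (⟨β, Subgroup.mem_zpowers β⟩ : B) x
    exact this
  subst hq3
  -- the presentation
  obtain ⟨t, w, s, ht, hwA, hsA, hw2, hs2, ht2, hta, hD⟩ : ∃ t w s : P, t ∉ A ∧ w ∈ A ∧ s ∈ A ∧
      w ^ 2 = 1 ∧ s ^ 2 = 1 ∧ t ^ 2 = s ∧ t * a * t⁻¹ = a⁻¹ * w ∧
      ((w = 1 ∧ s = 1) ∨ (w = 1 ∧ s = z) ∨ 4 ≤ n) := by
    rcases classify n hn3 hn h4 a ha with ⟨t, ht, ht2, hta⟩ | ⟨t, ht, ht2, hta⟩ |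
      ⟨hn4, t, ht, ht2, hta⟩
    · exact ⟨t, 1, 1, ht, Subgroup.one_mem _, Subgroup.one_mem _, one_pow _, one_pow _, ht2,
        by rw [hta, mul_one], Or.inl ⟨rfl, rfl⟩⟩
    · exact ⟨t, 1, z, ht, Subgroup.one_mem _, hzA, one_pow _, hzz, ht2,
        by rw [hta, mul_one], Or.inr (Or.inl ⟨rfl, rfl⟩)⟩
    · rcases ht2 with h | h
      · exact ⟨t, z, 1, ht, hzA, Subgroup.one_mem _, hzz, one_pow _, h, hta, Or.inr (Or.inr hn4)⟩
      · exact ⟨t, z, z, ht, hzA, hzA, hzz, hzz, h, hta, Or.inr (Or.inr hn4)⟩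
  have hws : Commute w s := by
    obtain ⟨k, rfl⟩ := Subgroup.mem_zpowers_iff.1 hwA
    obtain ⟨l, rfl⟩ := Subgroup.mem_zpowers_iff.1 hsA
    exact (Commute.refl a).zpow_zpow k l
  have hsq4 : ∀ g : P, g ∉ A → g ^ 4 = 1 := by
    intro g hg
    obtain ⟨i, hi⟩ := sq_outside a t w s hwA hsA ht2 hta hAidx g hg ht
    have : g ^ 4 = (g ^ 2) ^ 2 := by rw [← pow_mul]
    rw [this, hi, (hws.zpow_left i).mul_pow, hs2, mul_one, ← zpow_natCast, ← zpow_mul, mul_comm,
      zpow_mul, zpow_natCast, hw2, one_zpow]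
  have hoβa : orderOf (β a) = 2 ^ (n - 1) := by
    rw [← ha]; exact MulEquiv.orderOf_eq β a
  by_cases hβa : β a ∈ A
  · -- β fixes A pointwise, hence is trivial
    exfalso
    apply hβ1
    rw [hA, ← mem_powers_iff_mem_zpowers] at hβa
    obtain ⟨r, hr⟩ := hβa
    have hr : a ^ r = β a := hr
    have hpow : ∀ j : ℕ, (β ^ j) a = a ^ (r ^ j) := by
      intro j
      induction j with
      | zero => simp
      | succ j ih =>
        rw [pow_succ', MulAut.mul_apply, ih, map_pow, ← hr, ← pow_mul, ← pow_succ']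
    have h3 := hpow 3
    rw [hβq, MulAut.one_apply] at h3
    have hr0 : r ≠ 0 := by
      rintro rfl
      rw [pow_zero] at hr
      rw [← hr, orderOf_one] at hoβa
      have : 2 ≤ 2 ^ (n - 1) := by
        calc 2 = 2 ^ 1 := by norm_num
          _ ≤ 2 ^ (n - 1) := Nat.pow_le_pow_right (by norm_num) (by omega)
      omega
    have hr1 : 1 ≤ r := Nat.one_le_iff_ne_zero.2 hr0
    have h5 : a ^ (r ^ 3 - 1) = 1 := by
      have h6 : a ^ (r ^ 3 - 1) * a = a := by
        rw [← pow_succ, Nat.sub_add_cancel (Nat.one_le_pow _ _ hr1)]; exact h3.symm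
      exact mul_eq_right.1 h6
    have hd1 : 2 ^ (n - 1) ∣ r ^ 3 - 1 := by
      rw [← ha]; exact orderOf_dvd_of_pow_eq_one h5
    have hfac : r ^ 3 - 1 = (r - 1) * (r ^ 2 + r + 1) := by
      obtain ⟨u, rfl⟩ : ∃ u, r = u + 1 := ⟨r - 1, by omega⟩
      rw [Nat.add_sub_cancel]
      have : (u + 1) ^ 3 = u * ((u + 1) ^ 2 + (u + 1) + 1) + 1 := by ring
      rw [this, Nat.add_sub_cancel]
    have hodd : Nat.Coprime (2 ^ (n - 1)) (r ^ 2 + r + 1) := by
      apply Nat.Coprime.pow_left
      rw [Nat.coprime_two_left]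
      rcases Nat.even_or_odd r with ⟨u, rfl⟩ | ⟨u, rfl⟩
      · exact ⟨2 * u ^ 2 + u, by ring⟩
      · exact ⟨2 * u ^ 2 + 3 * u + 1, by ring⟩
    rw [hfac] at hd1
    have hd2 : 2 ^ (n - 1) ∣ r - 1 := hodd.dvd_of_dvd_mul_right hd1
    have hβa' : β a = a := by
      rw [← hr]
      have h7 : a ^ (r - 1) = 1 := by
        rw [← ha] at hd2
        exact orderOf_dvd_iff_pow_eq_one.1 hd2
      calc a ^ r = a ^ (r - 1 + 1) := by rw [Nat.sub_add_cancel hr1]
        _ = a := by rw [pow_succ, h7, one_mul]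
    have hβA : ∀ y ∈ A, β y = y := by
      intro y hy
      obtain ⟨i, rfl⟩ := Subgroup.mem_zpowers_iff.1 hy
      rw [map_zpow, hβa']
    have hβtA : β t ∉ A := by
      intro h
      have h8 : (β ^ 2) (β t) = β t := by
        rw [pow_two, MulAut.mul_apply, hβA _ h, hβA _ h]
      have h9 : (β ^ 2) (β t) = t := by
        have : (β ^ 3) t = (β ^ 2) (β t) := by
          rw [pow_succ β 2, MulAut.mul_apply]
        rw [← this, hβq, MulAut.one_apply]
      rw [h9] at h8
      rw [← h8] at h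
      exact ht h
    have hcA : t⁻¹ * β t ∈ A := by
      rw [Subgroup.mul_mem_iff_of_index_two hAidx]
      constructor
      · intro h; exact absurd (by simpa using A.inv_mem h) ht
      · intro h; exact absurd h hβtA
    set c := t⁻¹ * β t with hc
    have hβt : β t = t * c := by rw [hc]; group
    have hβc : β c = c := hβA c hcA
    have hpow' : ∀ j : ℕ, (β ^ j) t = t * c ^ j := by
      intro j
      induction j with
      | zero => simp
      | succ j ih =>
        rw [pow_succ', MulAut.mul_apply, ih, map_mul, map_pow, hβc, hβt, mul_assoc, ← pow_succ']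
    have h10 := hpow' 3
    rw [hβq, MulAut.one_apply] at h10
    have hc3 : c ^ 3 = 1 := by
      have : t * c ^ 3 = t * 1 := by rw [mul_one]; exact h10.symm
      exact mul_left_cancel this
    have hc1 : c = 1 := by
      have h11 : orderOf c ∣ 3 := orderOf_dvd_of_pow_eq_one hc3
      have h12 : orderOf c ∣ 2 ^ n := by rw [← hn]; exact orderOf_dvd_natCard c
      have h13 : Nat.Coprime 3 (2 ^ n) := Nat.Coprime.pow_right n (by norm_num)
      exact orderOf_eq_one_iff.1 (Nat.eq_one_of_dvd_coprimes h13 h11 h12)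
    have hβt' : β t = t := by rw [hβt, hc1, mul_one]
    -- β fixes A and t, which generate
    have hgen := sup_zpowers_eq_top_of_index_two A hAidx t ht
    set F : Subgroup P := (β : P →* P).eqLocus (MonoidHom.id P) with hF
    have hAF : A ≤ F := fun y hy => hβA y hy
    have htF : Subgroup.zpowers t ≤ F := Subgroup.zpowers_le.2 hβt'
    have hFtop : F = ⊤ := by
      rw [eq_top_iff, ← hgen]; exact sup_le hAF htF
    ext x
    have hx : x ∈ F := hFtop ▸ Subgroup.mem_top x
    exact hx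
  · -- β a lies outside A, so has order dividing 4
    have h4' := hsq4 (β a) hβa
    have hd := orderOf_dvd_of_pow_eq_one h4'
    rw [hoβa] at hd
    have : (2 : ℕ) ^ (n - 1) ∣ 2 ^ 2 := by norm_num; exact hd
    have hle := (Nat.pow_dvd_pow_iff_le_right (by norm_num)).1 this
    have hn3' : n = 3 := by omega
    subst hn3'
    rcases hD with ⟨hw1, hs1⟩ | ⟨hw1, hs1⟩ | h4n
    · exfalso
      obtain ⟨i, hi⟩ := sq_outside a t w s hwA hsA ht2 hta hAidx (β a) hβa ht
      rw [hw1, hs1, one_zpow, mul_one] at hi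
      have := orderOf_dvd_of_pow_eq_one hi
      rw [hoβa] at this
      norm_num at this
    · have ha' : orderOf a = 2 * 2 := by rw [ha]; norm_num
      have ht2' : t ^ 2 = a ^ 2 := by rw [ht2, hs1, hz]; norm_num
      have hta' : t * a * t⁻¹ = a⁻¹ := by rw [hta, hw1, mul_one]
      exact quat_equiv ha' ht2' hta' ht (by rw [hn]; norm_num)
    · omega

end Cfsg.Agent.S4189
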