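import Cfsg.Statements.S4419
import Mathlib
import Cfsg.Agent.Lib.Helper2.Frobenius
import Cfsg.Agent.Lib.Helper54.Solv
import Cfsg.Agent.Lib.Helper73.MetacyclicAut

set_option autoImplicit false
open Cfsg

namespace Cfsg.Agent.S4419

open Cfsg.Agent.Helper73

/-- If `g` does not centralize `Q`, some element of prime power order in `⟨g⟩` does not. -/
theorem exists_prime_power_elt {G : Type*} [Group G] [Finite G] (Q : Subgroup G) (g : G)
    (hg : g ∉ Subgroup.centralizer (Q : Set G)) :
    ∃ (q : ℕ) (_ : q.Prime) (h : G) (k : ℕ), q ∣ orderOf g ∧ h ∈ Subgroup.zpowers g ∧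
      h ^ (q ^ k) = 1 ∧ h ∉ Subgroup.centralizer (Q : Set G) := by
  set H := Subgroup.zpowers g with hH
  set C := (Subgroup.centralizer (Q : Set G)).subgroupOf H with hC0
  have hC : C ≠ ⊤ := by
    intro h
    have : (⟨g, Subgroup.mem_zpowers g⟩ : H) ∈ C := h ▸ Subgroup.mem_top _
    exact hg (Subgroup.mem_subgroupOf.1 this)
  have hidx : C.index ≠ 1 := fun h => hC (Subgroup.index_eq_one.1 h)
  obtain ⟨q, hq, hqd⟩ := Nat.exists_prime_and_dvd hidx
  have : Fact q.Prime := ⟨hq⟩
  obtain ⟨T⟩ : Nonempty (Sylow q H) := inferInstance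
  have hT : ¬ (T : Subgroup H) ≤ C := by
    intro hle
    have h1 : C.index ∣ (T : Subgroup H).index := Subgroup.index_dvd_of_le hle
    exact T.not_dvd_index (hqd.trans h1)
  obtain ⟨h, hhT, hhC⟩ := SetLike.not_le_iff_exists.1 hT
  obtain ⟨k, hk⟩ := T.isPGroup' ⟨h, hhT⟩
  refine ⟨q, hq, h.1, k, ?_, h.2, ?_, ?_⟩
  · have : C.index ∣ Nat.card H := Subgroup.index_dvd_card C
    rw [Nat.card_zpowers] at this
    exact hqd.trans this
  · have := congrArg (fun t : (T : Subgroup H) => ((t : H) : G)) hk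
    simpa using this
  · intro hc; exact hhC (Subgroup.mem_subgroupOf.2 hc)

/-- Let p be a prime and G a finite group whose Sylow p-subgroups are metacyclic (a cyclic normal subgroup with cyclic quotient). Then G has a normal p-complement if and only if the order of G/O_{p′,p}(G) is coprime to p² − 1. -/
theorem result {G : Type*} [Group G] [Finite G] (p : ℕ) [Fact p.Prime] (S : Sylow p G) (hS : Cfsg.IsMetacyclic ↥(S : Subgroup G)) : Cfsg.HasNormalPComplement p G ↔ Nat.Coprime (Nat.card (G ⧸ Cfsg.pPrimePCore p G)) (p ^ 2 - 1) := by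
  have hp : Fact p.Prime := inferInstance
  constructor
  · rintro ⟨P, N, hNn, hNc⟩
    have hLtop : Cfsg.pPrimePCore p G = ⊤ := by
      set K := Cfsg.pPrimeCore p G with hK
      have hNcop : (Nat.card N).Coprime p := by
        rw [← hNc.index_eq_card]
        exact ((Nat.Prime.coprime_iff_not_dvd hp.out).2 P.not_dvd_index).symm
      have hNK : N ≤ K := Cfsg.Agent.Helper54.le_pPrimeCore hNn hNcop
      have hQp : IsPGroup p (G ⧸ K) := by
        obtain ⟨a, ha⟩ := IsPGroup.iff_card.1 P.isPGroup'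
        have h1 : K.index ∣ N.index := Subgroup.index_dvd_of_le hNK
        rw [hNc.symm.index_eq_card, ha] at h1
        obtain ⟨b, -, hb⟩ := (Nat.dvd_prime_pow hp.out).1 h1
        exact IsPGroup.of_card (n := b) hb
      have : Cfsg.pCore p (G ⧸ K) = ⊤ := by
        apply top_le_iff.1
        exact Cfsg.Agent.Helper54.le_pCore inferInstance (hQp.to_subgroup ⊤)
      unfold Cfsg.pPrimePCore
      rw [this, Subgroup.comap_top]
    rw [hLtop]
    have : Nat.card (G ⧸ (⊤ : Subgroup G)) = 1 := by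
      rw [← Subgroup.index, Subgroup.index_top]
    rw [this]; exact Nat.coprime_one_left _
  · intro hcop
    apply Cfsg.Agent.Helper2.frobenius p
    apply Cfsg.Agent.Helper2.frobCond_of_sylow S
    intro Q hQS g hg hgo
    by_contra hgc
    obtain ⟨q, hq, h, k, hqg, hhg, hhk, hhc⟩ := exists_prime_power_elt Q g hgc
    have : Fact q.Prime := ⟨hq⟩
    have hpq : p ≠ q := by
      rintro rfl
      exact hp.out.one_lt.ne' (Nat.Coprime.eq_one_of_dvd hgo.symm hqg)
    have hhN : h ∈ Subgroup.normalizer (Q : Set G) := (Subgroup.zpowers_le.2 hg) hhg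
    have hQp : IsPGroup p Q := S.isPGroup'.to_le hQS
    by_cases hqd : q ∣ p ^ 2 - 1
    · set K := Cfsg.pPrimeCore p G with hK
      set L := Cfsg.pPrimePCore p G with hL
      have hLn : L.Normal := Subgroup.Normal.comap (Cfsg.pCore_normal p (G ⧸ K)) _
      have hhL : h ∈ L := by
        rw [← QuotientGroup.eq_one_iff (N := L)]
        have h1 : orderOf ((h : G ⧸ L)) ∣ q ^ k :=
          orderOf_dvd_of_pow_eq_one (by rw [← QuotientGroup.mk_pow, hhk]; rfl)
        have h2 : orderOf ((h : G ⧸ L)) ∣ Nat.card (G ⧸ L) := orderOf_dvd_natCard _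
        have h3 : Nat.Coprime (q ^ k) (Nat.card (G ⧸ L)) := by
          apply Nat.Coprime.pow_left
          rw [hq.coprime_iff_not_dvd]
          intro hd
          have := Nat.dvd_gcd hd hqd
          rw [Nat.Coprime] at hcop
          rw [hcop] at this
          exact hq.one_lt.ne' (Nat.dvd_one.1 this)
        exact orderOf_eq_one_iff.1 (Nat.eq_one_of_dvd_coprimes h3 h1 h2)
      have hhK : h ∈ K := by
        have h0 : ((QuotientGroup.mk' K) h) ∈ Cfsg.pCore p (G ⧸ K) := hhL
        obtain ⟨m, hm⟩ := (Cfsg.Agent.Helper54.isPGroup_pCore (G := G ⧸ K) (p := p)) ⟨_, h0⟩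
        have h1 : orderOf ((QuotientGroup.mk' K) h) ∣ p ^ m :=
          orderOf_dvd_of_pow_eq_one (by simpa using congrArg Subtype.val hm)
        have h2 : orderOf ((QuotientGroup.mk' K) h) ∣ q ^ k :=
          orderOf_dvd_of_pow_eq_one (by rw [← map_pow, hhk, map_one])
        have h3 : Nat.Coprime (p ^ m) (q ^ k) :=
          Nat.Coprime.pow _ _ ((Nat.coprime_primes hp.out hq).2 hpq)
        have h4 : orderOf ((QuotientGroup.mk' K) h) = 1 := Nat.eq_one_of_dvd_coprimes h3 h1 h2
        rw [orderOf_eq_one_iff] at h4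
        exact (QuotientGroup.eq_one_iff h).1 h4
      have hKc : (Nat.card K).Coprime p := Cfsg.Agent.Helper54.pPrimeCore_coprime p
      apply hhc
      rw [Subgroup.mem_centralizer_iff]
      intro z hz
      have hcK : h * z * h⁻¹ * z⁻¹ ∈ K := by
        have : h * z * h⁻¹ * z⁻¹ = h * (z * h⁻¹ * z⁻¹) := by group
        rw [this]
        exact K.mul_mem hhK ((Cfsg.pPrimeCore_normal p G).conj_mem _ (K.inv_mem hhK) z)
      have hcQ : h * z * h⁻¹ * z⁻¹ ∈ Q :=
        Q.mul_mem ((Subgroup.mem_normalizer_iff.1 hhN z).1 hz) (Q.inv_mem hz)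
      have hc1 : h * z * h⁻¹ * z⁻¹ = 1 := by
        obtain ⟨m, hm⟩ := hQp ⟨_, hcQ⟩
        have h1 : orderOf (h * z * h⁻¹ * z⁻¹) ∣ p ^ m :=
          orderOf_dvd_of_pow_eq_one (by simpa using congrArg Subtype.val hm)
        have h2 : orderOf (h * z * h⁻¹ * z⁻¹) ∣ Nat.card K := by
          have := orderOf_dvd_natCard (⟨_, hcK⟩ : K)
          rwa [Subgroup.orderOf_mk] at this
        have h3 : Nat.Coprime (p ^ m) (Nat.card K) := Nat.Coprime.pow_left m hKc.symm
        exact orderOf_eq_one_iff.1 (Nat.eq_one_of_dvd_coprimes h3 h1 h2)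
      calc z * h = (h * z * h⁻¹ * z⁻¹)⁻¹ * (h * z) := by group
        _ = h * z := by rw [hc1, inv_one, one_mul]
    · obtain ⟨x, y, hxy⟩ := exists_two_gen_of_injective (Subgroup.inclusion hQS)
        (Subgroup.inclusion_injective hQS) hS
      exact hhc (mem_centralizer_of_not_dvd hpq hqd Q hQp x y hxy h hhN k hhk)

end Cfsg.Agent.S4419
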