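import Cfsg.Statements.S3740
import Mathlib
import Cfsg.Agent.Lib.Helper73.SL2Unip
import Cfsg.Agent.Lib.Helper73.QuatAction

set_option autoImplicit false
open Cfsg

namespace Cfsg.Agent.S3740

open Cfsg.Agent.Helper73 Cfsg.Agent.Helper5

/-- Let F be a finite field of odd characteristic p and let a be a p-element of SL₂(F) normalizing a subgroup R of order prime to p with [R, a] ≠ 1. Then p = 3, R is a quaternion group of order 8, and R⟨a⟩ is isomorphic to SL₂(3). -/
theorem result (F : Type) [Field F] [Fintype F] {p : ℕ} [Fact p.Prime] [CharP F p] (hp : p ≠ 2) (a : Matrix.SpecialLinearGroup (Fin 2) F) (ha : IsPGroup p ↥(Subgroup.zpowers a)) (R : Subgroup (Matrix.SpecialLinearGroup (Fin 2) F)) (hR : (Nat.card R).Coprime p) (haR : a ∈ Subgroup.normalizer (R : Set (Matrix.SpecialLinearGroup (Fin 2) F))) (hnt : ⁅R, Subgroup.zpowers a⁆ ≠ ⊥) : p = 3 ∧ Nonempty (↥R ≃* QuaternionGroup 2) ∧ Nonempty (↥(R ⊔ Subgroup.zpowers a) ≃* Matrix.SpecialLinearGroup (Fin 2) (ZMod 3)) := by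
  classical
  have hpp : p.Prime := Fact.out
  have hat : tr2 a = 2 := tr2_of_isPGroup p a ha
  have hap : a ^ p = 1 := pow_char_of_tr2 p a hat
  -- `a` does not centralize `R`
  have haC : a ∉ Subgroup.centralizer (R : Set (Matrix.SpecialLinearGroup (Fin 2) F)) := by
    intro hc
    apply hnt
    rw [Subgroup.commutator_eq_bot_iff_le_centralizer]
    intro x hx
    rw [Subgroup.mem_centralizer_iff]
    intro z hz
    obtain ⟨i, rfl⟩ := Subgroup.mem_zpowers_iff.1 hz
    have h1 : Commute a x := ((Subgroup.mem_centralizer_iff.1 hc) x hx).symm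
    exact (h1.zpow_left i).eq
  have ha1 : a ≠ 1 := by
    rintro rfl
    exact haC (Subgroup.one_mem _)
  have h2F : (2 : F) ≠ 0 := by
    apply Ring.two_ne_zero
    rw [ringChar.eq F p]; exact hp
  have hodd : Odd p := hpp.odd_of_ne_two hp
  have hcoR : ∀ x ∈ R, (orderOf x).Coprime p := by
    intro x hx
    exact Nat.Coprime.coprime_dvd_left (Subgroup.orderOf_dvd_natCard R hx) hR
  -- key claim
  have G1 : ∀ x ∈ R, Commute x (a * x * a⁻¹) → a * x = x * a ∧ x * x = 1 := by
    intro x hx hcomm
    have hyR : a * x * a⁻¹ ∈ R := (Subgroup.mem_normalizer_iff.1 haR x).1 hx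
    have ht : tr2 x = tr2 (a * x * a⁻¹) := (tr2_conj a x).symm
    have hco : (orderOf (x⁻¹ * (a * x * a⁻¹))).Coprime p :=
      hcoR _ (R.mul_mem (R.inv_mem hx) hyR)
    have hax : a * x = x * a := by
      rcases eq_or_eq_inv_of_comm p x (a * x * a⁻¹) hcomm.eq ht hco with h | h
      · calc a * x = (a * x * a⁻¹) * a := by group
          _ = x * a := by rw [h]
      · -- `a² ` commutes with `x`
        have h2 : Commute (a ^ 2) x := by
          have : a ^ 2 * x * (a ^ 2)⁻¹ = x := by
            calc a ^ 2 * x * (a ^ 2)⁻¹ = a * (a * x * a⁻¹) * a⁻¹ := by rw [pow_two]; group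
              _ = a * x⁻¹ * a⁻¹ := by rw [h]
              _ = (a * x * a⁻¹)⁻¹ := by group
              _ = x := by rw [h, inv_inv]
          show a ^ 2 * x = x * a ^ 2
          calc a ^ 2 * x = (a ^ 2 * x * (a ^ 2)⁻¹) * a ^ 2 := by group
            _ = x * a ^ 2 := by rw [this]
        obtain ⟨m, hm⟩ := hodd
        have h3 : (a ^ 2) ^ (m + 1) = a := by
          rw [← pow_mul]
          have : 2 * (m + 1) = p + 1 := by omega
          rw [this, pow_succ, hap, one_mul]
        have h4 : Commute ((a ^ 2) ^ (m + 1)) x := h2.pow_left _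
        rw [h3] at h4
        exact h4.eq
    exact ⟨hax, mul_self_eq_one_of_comm p a x ha1 hat hax (hcoR x hx)⟩
  -- the induced automorphism of `R`
  set β : MulAut R := R.normalizerMonoidHom ⟨a, haR⟩ with hβ
  have hβapp : ∀ q : R, ((β q : R) : Matrix.SpecialLinearGroup (Fin 2) F) = a * q * a⁻¹ :=
    fun q => rfl
  have hβp : β ^ (p ^ 1) = 1 := by
    rw [pow_one, hβ, ← map_pow]
    have : (⟨a, haR⟩ : Subgroup.normalizer (R : Set (Matrix.SpecialLinearGroup (Fin 2) F))) ^ p = 1 :=
      Subtype.ext (by simpa using hap)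
    rw [this, map_one]
  -- `R` is a `2`-group
  have hR2 : IsPGroup 2 R := by
    have hunique : ∀ {r : ℕ}, r.Prime → r ∣ Nat.card R → r = 2 := by
      intro r hr hrd
      by_contra hr2
      have : Fact r.Prime := ⟨hr⟩
      obtain ⟨Q, hQ⟩ := exists_invariant_sylow β p 1 r hβp hR
      have : Nontrivial (Q : Subgroup R) := by
        rw [Subgroup.nontrivial_iff_ne_bot]
        exact Sylow.ne_bot_of_dvd_card Q hrd
      have := Q.isPGroup'.center_nontrivial
      obtain ⟨z, hz1⟩ := exists_ne (1 : Subgroup.center (Q : Subgroup R))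
      set q : R := ((z : (Q : Subgroup R)) : R) with hq
      have hqQ : q ∈ (Q : Subgroup R) := (z : (Q : Subgroup R)).2
      have hw : β q ∈ (Q : Subgroup R) := hQ q hqQ
      have hcomm := (Subgroup.mem_center_iff.1 z.2) ⟨β q, hw⟩
      have hcomm' : (a * (q : Matrix.SpecialLinearGroup (Fin 2) F) * a⁻¹) * q =
          q * (a * (q : Matrix.SpecialLinearGroup (Fin 2) F) * a⁻¹) := by
        have := congrArg (fun t : (Q : Subgroup R) =>
          (((t : R)) : Matrix.SpecialLinearGroup (Fin 2) F)) hcomm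
        simpa [hβapp] using this
      obtain ⟨-, hqq⟩ := G1 (q : Matrix.SpecialLinearGroup (Fin 2) F) q.2 hcomm'.symm
      -- `q` has odd order
      have hq2 : orderOf q ∣ 2 := by
        apply orderOf_dvd_of_pow_eq_one
        apply Subtype.ext
        rw [pow_two]
        simpa using hqq
      obtain ⟨j, hj⟩ := (Q.isPGroup'.to_le le_rfl) ⟨q, hqQ⟩
      have hqr : orderOf q ∣ r ^ j := by
        apply orderOf_dvd_of_pow_eq_one
        have := congrArg Subtype.val hj
        simpa using this
      have h1 : orderOf q = 1 := by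
        have hc : Nat.Coprime 2 (r ^ j) := by
          apply Nat.Coprime.pow_right
          rw [Nat.coprime_primes Nat.prime_two hr]
          exact fun h => hr2 h.symm
        exact Nat.eq_one_of_dvd_coprimes hc hq2 hqr
      apply hz1
      apply Subtype.ext
      apply Subtype.ext
      show q = 1
      exact orderOf_eq_one_iff.1 h1
    have hne : Nat.card R ≠ 0 := Nat.card_pos.ne'
    exact IsPGroup.of_card (Nat.eq_prime_pow_of_unique_prime_dvd hne hunique)
  -- unique involution
  have hinv : ∀ x y : R, orderOf x = 2 → orderOf y = 2 → x = y := by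
    have key : ∀ x : R, orderOf x = 2 →
        (x : Matrix.SpecialLinearGroup (Fin 2) F) = Cfsg.Agent.Helper53.negOneSL2 F := by
      intro x hx
      have h1 : x ^ 2 = 1 := by
        have h0 := pow_orderOf_eq_one x
        rwa [hx] at h0
      have h2 : (x : Matrix.SpecialLinearGroup (Fin 2) F) * x = 1 := by
        have := congrArg Subtype.val h1
        simpa [pow_two] using this
      rcases Cfsg.Agent.Helper53.sl2_invol h2F _ h2 with h | h
      · exfalso
        have : x = 1 := Subtype.ext h
        rw [this, orderOf_one] at hx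
        omega
      · exact h
    intro x y hx hy
    exact Subtype.ext ((key x hx).trans (key y hy).symm)
  obtain ⟨rfl, ⟨e⟩⟩ := odd_action_unique_invol R hR2 hinv a haR p 1 hpp hp
    (by rw [pow_one]; exact hap) haC
  refine ⟨rfl, ⟨e⟩, ?_⟩
  -- the subgroup `H = R⟨a⟩`
  set H := R ⊔ Subgroup.zpowers a with hH
  have hRH : R ≤ H := le_sup_left
  have hzH : Subgroup.zpowers a ≤ H := le_sup_right
  have hHN : H ≤ Subgroup.normalizer (R : Set (Matrix.SpecialLinearGroup (Fin 2) F)) :=
    sup_le Subgroup.le_normalizer (by rw [Subgroup.zpowers_le]; exact haR)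
  have hNn : (R.subgroupOf H).Normal := Subgroup.normal_subgroupOf_of_le_normalizer hHN
  let e' : R.subgroupOf H ≃* QuaternionGroup 2 := (Subgroup.subgroupOfEquivOfLe hRH).trans e
  set c : H := ⟨a, hzH (Subgroup.mem_zpowers a)⟩ with hc
  have hc3 : c ^ 3 = 1 := Subtype.ext (by simpa using hap)
  have hcN : c ∉ Subgroup.centralizer ((R.subgroupOf H : Subgroup H) : Set H) := by
    intro hcc
    apply haC
    rw [Subgroup.mem_centralizer_iff] at hcc ⊢
    intro q hq
    have := hcc ⟨q, hRH hq⟩ (Subgroup.mem_subgroupOf.2 hq)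
    exact congrArg Subtype.val this
  have hzc : (Subgroup.zpowers a).subgroupOf H = Subgroup.zpowers c := by
    ext x
    rw [Subgroup.mem_subgroupOf, Subgroup.mem_zpowers_iff, Subgroup.mem_zpowers_iff]
    constructor
    · rintro ⟨i, hi⟩
      exact ⟨i, Subtype.ext (by simpa using hi)⟩
    · rintro ⟨i, hi⟩
      exact ⟨i, by rw [← hi]; simp [hc]⟩
  have hsup : R.subgroupOf H ⊔ Subgroup.zpowers c = ⊤ := by
    rw [← hzc, ← Subgroup.subgroupOf_sup hRH hzH, ← hH, Subgroup.subgroupOf_self]
  exact sl23_recog' (R.subgroupOf H) e' c hc3 hcN hsup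

end Cfsg.Agent.S3740
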