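import Cfsg.Statements.S0765
import Mathlib
import Cfsg.Agent.Lib.Helper13.Symp

set_option autoImplicit false
open Cfsg

namespace Cfsg.Agent.S0765

open Matrix Cfsg.Agent.Helper13

variable {F : Type*} [Field F] {m : ℕ}

/-- coefficient extraction -/
theorem sympForm_single_inl (x : Fin m ⊕ Fin m → F) (i : Fin m) :
    Cfsg.sympForm m F x (Pi.single (Sum.inl i) 1) = x (Sum.inr i) := by
  unfold Cfsg.sympForm
  rw [Matrix.mulVec_single_one]
  simp only [dotProduct, Fintype.sum_sum_type, Matrix.col_apply, Matrix.J, Matrix.fromBlocks_apply₁₁,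
    Matrix.fromBlocks_apply₂₁, Matrix.zero_apply, mul_zero, Finset.sum_const_zero, zero_add,
    Matrix.one_apply, mul_ite, mul_one, Finset.sum_ite_eq', Finset.mem_univ, if_true]

theorem sympForm_single_inr (x : Fin m ⊕ Fin m → F) (i : Fin m) :
    Cfsg.sympForm m F x (Pi.single (Sum.inr i) 1) = - x (Sum.inl i) := by
  unfold Cfsg.sympForm
  rw [Matrix.mulVec_single_one]
  simp only [dotProduct, Fintype.sum_sum_type, Matrix.col_apply, Matrix.J, Matrix.fromBlocks_apply₁₂,
    Matrix.fromBlocks_apply₂₂, Matrix.zero_apply, mul_zero, Finset.sum_const_zero, add_zero,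
    Matrix.neg_apply, Matrix.one_apply, mul_neg, mul_ite, mul_one, Finset.sum_neg_distrib,
    Finset.sum_ite_eq', Finset.mem_univ, if_true]

/-- vectors supported on the coordinates with index at least `j` -/
def Wsub (F : Type*) [Field F] (m j : ℕ) : Submodule F (Fin m ⊕ Fin m → F) where
  carrier := {w | ∀ i : Fin m, (i : ℕ) < j → w (Sum.inl i) = 0 ∧ w (Sum.inr i) = 0}
  add_mem' := by
    intro a b ha hb i hi
    simp [ha i hi, hb i hi]
  zero_mem' := by intro i _; simp
  smul_mem' := by
    intro c a ha i hi
    simp [ha i hi]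

theorem mem_Wsub (j : ℕ) (w : Fin m ⊕ Fin m → F) :
    w ∈ Wsub F m j ↔ ∀ i : Fin m, (i : ℕ) < j → w (Sum.inl i) = 0 ∧ w (Sum.inr i) = 0 := Iff.rfl

theorem eq_one_of_fix (A : Matrix (Fin m ⊕ Fin m) (Fin m ⊕ Fin m) F)
    (h : ∀ k, A *ᵥ Pi.single k 1 = Pi.single k 1) : A = 1 := by
  ext i k
  have := congrFun (h k) i
  rw [Matrix.mulVec_single_one] at this
  rw [Matrix.one_apply]
  simpa [Pi.single_apply, eq_comm] using this

theorem key (d : ℕ) : ∀ j, j + d = m → ∀ A : Matrix.symplecticGroup (Fin m) F,
    (∀ i : Fin m, (i : ℕ) < j → A.val *ᵥ Pi.single (Sum.inl i) 1 = Pi.single (Sum.inl i) 1 ∧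
      A.val *ᵥ Pi.single (Sum.inr i) 1 = Pi.single (Sum.inr i) 1) →
    A ∈ transvGroup (⊤ : Submodule F (Fin m ⊕ Fin m → F)) := by
  induction d with
  | zero =>
    intro j hj A hA
    have : A = 1 := by
      apply Subtype.ext
      apply eq_one_of_fix
      rintro (i | i)
      · exact (hA i (by omega)).1
      · exact (hA i (by omega)).2
    rw [this]
    exact Subgroup.one_mem _
  | succ d ih =>
    intro j hj A hA
    have hjm : j < m := by omega
    set jj : Fin m := ⟨j, hjm⟩ with hjj
    set ej : Fin m ⊕ Fin m → F := Pi.single (Sum.inl jj) 1 with hej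
    set fj : Fin m ⊕ Fin m → F := Pi.single (Sum.inr jj) 1 with hfj
    set u := A.val *ᵥ fj with hu
    set v := A.val *ᵥ ej with hv
    have huv : Cfsg.sympForm m F u v = 1 := by
      rw [hu, hv, sympForm_mulVec A.2, hej, sympForm_single_inl, hfj]
      simp
    have hne : ∀ i : Fin m, (i : ℕ) < j → i ≠ jj := by
      intro i hi e
      rw [e] at hi
      simp [hjj] at hi
    have hejW : ej ∈ Wsub F m j := by
      intro i hi
      have := hne i hi
      constructor
      · rw [hej, Pi.single_apply, if_neg]
        intro e; exact this (Sum.inl.inj e)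
      · rw [hej, Pi.single_apply, if_neg]
        intro e; cases e
    have hfjW : fj ∈ Wsub F m j := by
      intro i hi
      have := hne i hi
      constructor
      · rw [hfj, Pi.single_apply, if_neg]
        intro e; cases e
      · rw [hfj, Pi.single_apply, if_neg]
        intro e; exact this (Sum.inr.inj e)
    have himg : ∀ x ∈ Wsub F m j, A.val *ᵥ x ∈ Wsub F m j := by
      intro x hx i hi
      obtain ⟨h1, h2⟩ := hA i hi
      constructor
      · have := sympForm_single_inr (A.val *ᵥ x) i
        rw [← h2, sympForm_mulVec A.2, sympForm_single_inr, (hx i hi).1] at this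
        linear_combination this
      · have := sympForm_single_inl (A.val *ᵥ x) i
        rw [← h1, sympForm_mulVec A.2, sympForm_single_inl, (hx i hi).2] at this
        exact this.symm
    have huW : u ∈ Wsub F m j := himg fj hfjW
    have hvW : v ∈ Wsub F m j := himg ej hejW
    have hfe : Cfsg.sympForm m F fj ej = 1 := by
      rw [hej, sympForm_single_inl, hfj]; simp
    obtain ⟨τ, hτ, hτu, hτv⟩ := transvGroup_pairs (Wsub F m j) huW hvW hfjW hejW huv hfe
    have hτfix : ∀ i : Fin m, (i : ℕ) < j →
        τ.val *ᵥ Pi.single (Sum.inl i) 1 = Pi.single (Sum.inl i) 1 ∧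
        τ.val *ᵥ Pi.single (Sum.inr i) 1 = Pi.single (Sum.inr i) 1 := by
      intro i hi
      constructor
      · apply transvGroup_fix _ hτ
        intro w hw
        rw [sympForm_swap, sympForm_single_inl, (hw i hi).2, neg_zero]
      · apply transvGroup_fix _ hτ
        intro w hw
        rw [sympForm_swap, sympForm_single_inr, (hw i hi).1, neg_zero, neg_zero]
    have hτA : τ * A ∈ transvGroup (⊤ : Submodule F (Fin m ⊕ Fin m → F)) := by
      apply ih (j + 1) (by omega)
      intro i hi
      rw [Submonoid.coe_mul, ← Matrix.mulVec_mulVec, ← Matrix.mulVec_mulVec]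
      by_cases hij : (i : ℕ) < j
      · obtain ⟨h1, h2⟩ := hA i hij
        rw [h1, h2]
        exact hτfix i hij
      · have : i = jj := by
          apply Fin.ext
          simp only [hjj]
          omega
        rw [this]
        exact ⟨hτv, hτu⟩
    have hτtop : τ ∈ transvGroup (⊤ : Submodule F (Fin m ⊕ Fin m → F)) :=
      transvGroup_mono le_top hτ
    have : A = τ⁻¹ * (τ * A) := by group
    rw [this]
    exact Subgroup.mul_mem _ (Subgroup.inv_mem _ hτtop) hτA

/-- Generation of the symplectic group by symplectic transvections: the subgroup of Sp_2m(F) generated by all matrices of maps x ↦ x + c f(x, w) w is the whole group. -/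
theorem result {F : Type*} [Field F] (m : ℕ) : Subgroup.closure {A : Matrix.symplecticGroup (Fin m) F | ∃ (w : Fin m ⊕ Fin m → F) (c : F), (A : Matrix (Fin m ⊕ Fin m) (Fin m ⊕ Fin m) F) = Cfsg.sympTransvection m w c} = ⊤ := by
  rw [← transvGroup_top_eq, eq_top_iff]
  intro A _
  exact key m 0 (by omega) A (fun i hi => absurd hi (Nat.not_lt_zero _))

end Cfsg.Agent.S0765
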