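import Cfsg.Statements.S1985
import Cfsg.Agent.S1973
import Cfsg.Agent.Lib.Helper33.KInfC

set_option autoImplicit false
universe u
open Cfsg Cfsg.Agent.Helper33 Pointwise

namespace Cfsg.Agent.S1985

/-- Let p be an odd prime and G a finite group. Then the lower K-infinity subgroup controls weak closure of elements in G: the lower K-infinity subgroup of every p-subgroup P of G contains Z(P), and for some (equivalently, every) Sylow p-subgroup S of G, with K the lower K-infinity subgroup of S, every element of S commuting with all of N_G(K) is weakly closed in S with respect to G (every G-conjugate of it lying in S equals it). -/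
theorem result {G : Type u} [Group G] [Finite G] {p : ℕ} [Fact p.Prime] (hp : p ≠ 2) : Cfsg.ControlsWeakClosureOfElementsIn p (Cfsg.inducedFunctor (G := G) Cfsg.kInfLower) ⊤ := by
  classical
  have hW : Cfsg.IsConjugacyFunctor p (Cfsg.inducedFunctor (G := G) Cfsg.kInfLower) :=
    isConjugacyFunctor_indF (p := p) isCharPFunctor_kInfLower G
  have hWZ : ∀ P : Subgroup G, IsPGroup p ↥P →
      P ⊓ Subgroup.centralizer ((P : Subgroup G) : Set G) ≤ Cfsg.inducedFunctor Cfsg.kInfLower P := by
    intro P _ x hx
    refine ⟨⟨x, hx.1⟩, center_le_kInfLower _ ?_, rfl⟩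
    rw [Subgroup.mem_center_iff]
    intro y
    apply Subtype.ext
    exact Subgroup.mem_centralizer_iff.mp hx.2 y y.2
  have hp2 : 2 ≤ p - 1 := by
    have := (Fact.out : p.Prime).two_le
    omega
  refine Cfsg.Agent.S1973.result (Cfsg.inducedFunctor Cfsg.kInfLower) hW hWZ ?_ ⊤
  intro H T hTH hT hidx hnot
  obtain ⟨g, hgT, hgQ, hquad⟩ := kInf_local_quad H T hTH hT hidx (Or.inl hnot)
  refine ⟨g, hgT, hgQ, ?_⟩
  intro U V _ hUZ
  have h2 : Cfsg.iterCommutator (U.map H.subtype) (Subgroup.zpowers g) 2 = ⊥ := by
    apply le_bot_iff.mp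
    rw [← hquad]
    exact Subgroup.commutator_mono (Subgroup.commutator_mono hUZ le_rfl) le_rfl
  have hall : ∀ k, Cfsg.iterCommutator (U.map H.subtype) (Subgroup.zpowers g) (2 + k) = ⊥ := by
    intro k
    induction k with
    | zero => exact h2
    | succ k ih =>
      show ⁅Cfsg.iterCommutator (U.map H.subtype) (Subgroup.zpowers g) (2 + k), _⁆ = ⊥
      rw [ih]
      exact Subgroup.commutator_bot_left _
  obtain ⟨k, hk⟩ := Nat.exists_eq_add_of_le hp2
  rw [hk, hall k]
  exact bot_le

end Cfsg.Agent.S1985
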