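import Cfsg.Statements.S0609
import Cfsg.Agent.Lib.Helper10.Thompson
import Cfsg.Agent.Lib.Helper10.ThompsonMap
import Cfsg.Agent.Lib.Helper10.PrimeToPLift
import Cfsg.Agent.Lib.Helper30.Cores

set_option autoImplicit false
open Cfsg

namespace Cfsg.Agent.S0609

open Cfsg.Agent.Helper10
open Pointwise

/-- Thompson factorizability passes to and from the quotient by the largest normal subgroup of order prime to p. -/
theorem result {G : Type*} [Group G] [Finite G] {p : ℕ} [Fact p.Prime] : Cfsg.IsThompsonFactorizable p G ↔ Cfsg.IsThompsonFactorizable p (G ⧸ Cfsg.pPrimeCore p G) := by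
  set N := Cfsg.pPrimeCore p G with hN
  have hNcop : (Nat.card N).Coprime p := Cfsg.Agent.Helper30.pPrimeCore_coprime p
  have hbar : Cfsg.pPrimeCore p (G ⧸ N) = ⊥ := Cfsg.Agent.Helper30.pPrimeCore_quotient_eq_bot p
  set π := QuotientGroup.mk' N with hπ
  have hsurj : Function.Surjective π := QuotientGroup.mk'_surjective N
  have hπ1 : ∀ x : G, π x = 1 ↔ x ∈ N := fun x => QuotientGroup.eq_one_iff x
  have hinjS : ∀ S : Sylow p G, ∀ x ∈ (S : Subgroup G), π x = 1 → x = 1 := by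
    intro S x hx h1
    have hxN : x ∈ N := (hπ1 x).mp h1
    have hcop : (Nat.card (S : Subgroup G)).Coprime (Nat.card N) := by
      obtain ⟨k, hk⟩ := IsPGroup.iff_card.mp S.2
      rw [hk]
      exact (Nat.Coprime.pow_right k hNcop).symm
    have hbot := (Subgroup.disjoint_of_coprime_natCard hcop).eq_bot
    have : x ∈ (S : Subgroup G) ⊓ N := ⟨hx, hxN⟩
    rwa [hbot, Subgroup.mem_bot] at this
  have hJ : ∀ S : Sylow p G, Cfsg.thompsonSubgroupOf p ((S : Subgroup G).map π) =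
      (Cfsg.thompsonSubgroupOf p (S : Subgroup G)).map π :=
    fun S => thompsonSubgroupOf_map p π S (hinjS S)
  have hΩ : ∀ S : Sylow p G,
      Cfsg.omegaOne p ((S : Subgroup G).map π ⊓
        Subgroup.centralizer (((S : Subgroup G).map π : Subgroup (G ⧸ N)) : Set (G ⧸ N))) =
      (Cfsg.omegaOne p ((S : Subgroup G) ⊓ Subgroup.centralizer ((S : Subgroup G) : Set G))).map π := by
    intro S
    rw [inf_centralizer_map π S (hinjS S), omegaOne_map p π _ (fun x hx => hinjS S x (Subgroup.mem_inf.mp hx).1)]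
  constructor
  · intro hTF Sbar gbar
    obtain ⟨S, rfl⟩ := Sylow.mapSurjective_surjective hsurj p Sbar
    obtain ⟨g, rfl⟩ := hsurj gbar
    obtain ⟨x, hx, c, hc, n, hn, rfl⟩ := hTF S g
    refine ⟨1, Subgroup.one_mem _, π c, ?_, π n, ?_, ?_⟩
    · rw [Sylow.coe_mapSurjective, hΩ S, Subgroup.mem_centralizer_iff]
      rintro _ ⟨w, hw, rfl⟩
      rw [← map_mul, ← map_mul, hc w hw]
    · rw [Sylow.coe_mapSurjective, hJ S]
      exact Subgroup.le_normalizer_map π ⟨n, hn, rfl⟩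
    · rw [map_mul, map_mul, (hπ1 x).mpr hx]
  · intro hTF S g
    obtain ⟨xb, hxb, cb, hcb, nb, hnb, hg⟩ := hTF (S.mapSurjective hsurj) (π g)
    rw [hbar, Subgroup.mem_bot] at hxb
    subst hxb
    obtain ⟨c₀, rfl⟩ := hsurj cb
    obtain ⟨n₀, rfl⟩ := hsurj nb
    rw [Sylow.coe_mapSurjective, hΩ S] at hcb
    rw [Sylow.coe_mapSurjective, hJ S] at hnb
    set Ω := Cfsg.omegaOne p ((S : Subgroup G) ⊓ Subgroup.centralizer ((S : Subgroup G) : Set G)) with hΩdef
    set J := Cfsg.thompsonSubgroupOf p (S : Subgroup G) with hJdef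
    have hΩS : Ω ≤ S := (omegaOne_le_self p _).trans inf_le_left
    have hJS : J ≤ S := thompsonSubgroupOf_le _
    have hΩp : IsPGroup p Ω := S.2.to_le hΩS
    have hJp : IsPGroup p J := S.2.to_le hJS
    -- lift the centralizing element
    obtain ⟨m₁, hm₁, hc₁⟩ := exists_mul_mem_centralizer_of_commutator_mem hΩp hNcop c₀ (by
      intro q hq
      rw [← hπ1, map_mul, map_mul, map_mul, map_inv, map_inv]
      have := hcb (π q) ⟨q, hq, rfl⟩
      rw [← this]; group)
    -- lift the normalizing element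
    obtain ⟨m₂, hm₂, hn₂⟩ := exists_mul_mem_normalizer_of_conj_le_sup hJp hNcop n₀ (by
      rintro _ ⟨y, hy, rfl⟩
      show n₀ * y * n₀⁻¹ ∈ J ⊔ N
      have h1 : π (n₀ * y * n₀⁻¹) ∈ J.map π := by
        rw [map_mul, map_mul, map_inv]
        exact (Subgroup.mem_normalizer_iff.mp hnb (π y)).mp ⟨y, hy, rfl⟩
      obtain ⟨j, hj, hjeq⟩ := h1
      have h2 : j⁻¹ * (n₀ * y * n₀⁻¹) ∈ N := by
        rw [← hπ1, map_mul, map_inv, hjeq, inv_mul_cancel]
      have h3 : n₀ * y * n₀⁻¹ = j * (j⁻¹ * (n₀ * y * n₀⁻¹)) := by group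
      rw [h3]
      exact Subgroup.mul_mem _ (Subgroup.mem_sup_left hj) (Subgroup.mem_sup_right h2))
    -- assemble
    have hz : g * (c₀ * n₀)⁻¹ ∈ N := by
      rw [← hπ1, map_mul, map_inv, hg, one_mul, map_mul, mul_inv_cancel]
    have hNn : N.Normal := inferInstance
    refine ⟨g * (c₀ * n₀)⁻¹ * m₁⁻¹ * ((m₁ * c₀) * m₂⁻¹ * (m₁ * c₀)⁻¹), ?_, m₁ * c₀, hc₁, m₂ * n₀, hn₂, ?_⟩
    · exact N.mul_mem (N.mul_mem hz (N.inv_mem hm₁)) (hNn.conj_mem _ (N.inv_mem hm₂) _)
    · group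

end Cfsg.Agent.S0609
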