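import Cfsg.Statements.S1467
import Mathlib

set_option autoImplicit false
open Cfsg

namespace Cfsg.Agent.S1467

variable {G : Type*} [Group G]

theorem puigStep_antitone {X Y : Subgroup G} (h : X ≤ Y) : Cfsg.puigStep Y ≤ Cfsg.puigStep X := by
  unfold Cfsg.puigStep
  apply sSup_le_sSup
  rintro A ⟨hA, hYA⟩
  exact ⟨hA, h.trans hYA⟩

theorem puigSeq_one : Cfsg.puigSeq G 1 = ⊤ := by
  rw [eq_top_iff]
  intro g _
  have : Subgroup.zpowers g ≤ Cfsg.puigSeq G 1 := by
    show Subgroup.zpowers g ≤ Cfsg.puigStep (Cfsg.puigSeq G 0)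
    unfold Cfsg.puigStep
    apply le_sSup
    refine ⟨?_, ?_⟩
    · infer_instance
    · show (⊥ : Subgroup G) ≤ _
      exact bot_le
  exact this (Subgroup.mem_zpowers g)

theorem puigSeq_succ (n : ℕ) : Cfsg.puigSeq G (n + 1) = Cfsg.puigStep (Cfsg.puigSeq G n) := rfl

theorem even_le_succ (k : ℕ) : Cfsg.puigSeq G (2 * k) ≤ Cfsg.puigSeq G (2 * k + 1) := by
  induction k with
  | zero => show (⊥ : Subgroup G) ≤ _; exact bot_le
  | succ k ih =>
    have h1 : Cfsg.puigSeq G (2 * k + 2) ≤ Cfsg.puigSeq G (2 * k + 1) := by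
      rw [puigSeq_succ (2 * k + 1), puigSeq_succ (2 * k)]
      exact puigStep_antitone ih
    have : 2 * (k + 1) = 2 * k + 2 := by ring
    rw [this, puigSeq_succ (2 * k + 2), puigSeq_succ (2 * k + 1)]
    exact puigStep_antitone h1

theorem even_mono_step (n : ℕ) : Cfsg.puigSeq G (2 * n) ≤ Cfsg.puigSeq G (2 * n + 2) := by
  induction n with
  | zero => show (⊥ : Subgroup G) ≤ _; exact bot_le
  | succ n ih =>
    have : 2 * (n + 1) = 2 * n + 2 := by ring
    rw [this, puigSeq_succ (2 * n + 3), puigSeq_succ (2 * n + 2), puigSeq_succ (2 * n + 1),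
      puigSeq_succ (2 * n)]
    exact puigStep_antitone (puigStep_antitone ih)

theorem odd_anti_step (m : ℕ) : Cfsg.puigSeq G (2 * m + 3) ≤ Cfsg.puigSeq G (2 * m + 1) := by
  induction m with
  | zero => rw [puigSeq_one]; exact le_top
  | succ m ih =>
    have : 2 * (m + 1) + 3 = 2 * m + 3 + 2 := by ring
    have h2 : 2 * (m + 1) + 1 = 2 * m + 1 + 2 := by ring
    rw [this, h2, puigSeq_succ (2 * m + 3 + 1), puigSeq_succ (2 * m + 3), puigSeq_succ (2 * m + 1 + 1),
      puigSeq_succ (2 * m + 1)]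
    exact puigStep_antitone (puigStep_antitone ih)

theorem even_mono : Monotone (fun n => Cfsg.puigSeq G (2 * n)) := by
  apply monotone_nat_of_le_succ
  intro n
  have : 2 * (n + 1) = 2 * n + 2 := by ring
  simp only [this]
  exact even_mono_step n

theorem odd_anti : Antitone (fun n => Cfsg.puigSeq G (2 * n + 1)) := by
  apply antitone_nat_of_succ_le
  intro n
  have : 2 * (n + 1) + 1 = 2 * n + 3 := by ring
  simp only [this]
  exact odd_anti_step n

theorem even_le_odd (n m : ℕ) : Cfsg.puigSeq G (2 * n) ≤ Cfsg.puigSeq G (2 * m + 1) := by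
  calc Cfsg.puigSeq G (2 * n) ≤ Cfsg.puigSeq G (2 * (max n m)) := even_mono (le_max_left n m)
    _ ≤ Cfsg.puigSeq G (2 * (max n m) + 1) := even_le_succ _
    _ ≤ Cfsg.puigSeq G (2 * m + 1) := odd_anti (le_max_right n m)

theorem stab [Finite G] : ∃ k : ℕ, ∀ n : ℕ, k ≤ n →
    Cfsg.puigSeq G (2 * n) = Cfsg.puigLower G ∧ Cfsg.puigSeq G (2 * n + 1) = Cfsg.puigSubgroup G := by
  obtain ⟨k1, hk1⟩ := WellFoundedGT.monotone_chain_condition
    (⟨fun n => Cfsg.puigSeq G (2 * n), even_mono⟩ : ℕ →o Subgroup G)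
  obtain ⟨k2, hk2'⟩ := WellFoundedLT.antitone_chain_condition (odd_anti (G := G))
  simp only [OrderHom.coe_mk] at hk1 hk2'
  refine ⟨max k1 k2, fun n hn => ⟨?_, ?_⟩⟩
  · have hn1 : k1 ≤ n := le_trans (le_max_left _ _) hn
    unfold Cfsg.puigLower
    apply le_antisymm
    · exact le_iSup (fun n => Cfsg.puigSeq G (2 * n)) n
    · apply iSup_le
      intro m
      rcases le_total m n with h | h
      · exact even_mono h
      · rw [← hk1 n hn1, hk1 m (hn1.trans h)]
  · have hn2 : k2 ≤ n := le_trans (le_max_right _ _) hn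
    unfold Cfsg.puigSubgroup
    apply le_antisymm
    · apply le_iInf
      intro m
      rcases le_total m n with h | h
      · exact odd_anti h
      · rw [← hk2' n hn2, hk2' m (hn2.trans h)]
    · exact iInf_le (fun n => Cfsg.puigSeq G (2 * n + 1)) n

/-- Let G be a finite group with Puig series L_n(G). Then L_0 = 1, L_1 = G; L_{2n} ≤ L_{2n+2} ≤ L_{2m+3} ≤ L_{2m+1} for all n, m; there is k with L_{2n}(G) = L_*(G) and L_{2n+1}(G) = L(G) for all n ≥ k; L_*(G) ≤ L(G); and applying one Puig step to L_*(G) gives L(G) and to L(G) gives L_*(G). -/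
theorem result {G : Type*} [Group G] [Finite G] :
    Cfsg.puigSeq G 0 = ⊥ ∧ Cfsg.puigSeq G 1 = ⊤ ∧
      (∀ n m : ℕ, Cfsg.puigSeq G (2 * n) ≤ Cfsg.puigSeq G (2 * n + 2) ∧ Cfsg.puigSeq G (2 * n) ≤ Cfsg.puigSeq G (2 * m + 1) ∧
        Cfsg.puigSeq G (2 * m + 3) ≤ Cfsg.puigSeq G (2 * m + 1)) ∧
      (∃ k : ℕ, ∀ n : ℕ, k ≤ n → Cfsg.puigSeq G (2 * n) = Cfsg.puigLower G ∧ Cfsg.puigSeq G (2 * n + 1) = Cfsg.puigSubgroup G) ∧
      Cfsg.puigLower G ≤ Cfsg.puigSubgroup G ∧
      Cfsg.puigStep (Cfsg.puigLower G) = Cfsg.puigSubgroup G ∧ Cfsg.puigStep (Cfsg.puigSubgroup G) = Cfsg.puigLower G := by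
  refine ⟨rfl, puigSeq_one, fun n m => ⟨even_mono_step n, even_le_odd n m, odd_anti_step m⟩, stab, ?_, ?_, ?_⟩
  · unfold Cfsg.puigLower Cfsg.puigSubgroup
    exact iSup_le fun n => le_iInf fun m => even_le_odd n m
  · obtain ⟨k, hk⟩ := stab (G := G)
    rw [← (hk k le_rfl).1, ← (hk k le_rfl).2]
    rfl
  · obtain ⟨k, hk⟩ := stab (G := G)
    rw [← (hk k le_rfl).2, ← (hk (k + 1) (Nat.le_succ k)).1]
    rfl

end Cfsg.Agent.S1467
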