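import Cfsg.Statements.S1466
import Mathlib
import Cfsg.Agent.S1467

set_option autoImplicit false
open Cfsg

namespace Cfsg.Agent.S1466

variable {R : Type*} [Group R]

theorem puigStep_normal (X : Subgroup R) [hX : X.Normal] : (Cfsg.puigStep X).Normal := by
  constructor
  intro n hn g
  have hmap : (Cfsg.puigStep X).map (MulAut.conj g).toMonoidHom ≤ Cfsg.puigStep X := by
    rw [Subgroup.map_le_iff_le_comap]
    unfold Cfsg.puigStep
    apply sSup_le
    rintro A ⟨hA, hXA⟩
    rw [← Subgroup.map_le_iff_le_comap]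
    apply le_sSup
    refine ⟨?_, ?_⟩
    · have := hA
      exact Subgroup.map_isMulCommutative (H := A) (MulAut.conj g).toMonoidHom
    · have h1 := Subgroup.map_equiv_normalizer_eq A (MulAut.conj g)
      rw [← h1]
      intro x hx
      refine ⟨g⁻¹ * x * g, hXA ?_, ?_⟩
      · have := hX.conj_mem x hx g⁻¹
        simpa using this
      · simp only [MulEquiv.toMonoidHom_eq_coe, MonoidHom.coe_coe, MulAut.conj_apply]
        group
  apply hmap
  exact ⟨n, hn, by simp⟩

theorem puigSeq_normal (i : ℕ) : (Cfsg.puigSeq R i).Normal := by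
  induction i with
  | zero => show (⊥ : Subgroup R).Normal; infer_instance
  | succ i ih =>
    show (Cfsg.puigStep (Cfsg.puigSeq R i)).Normal
    have := ih
    exact puigStep_normal _

/-- iterated commutators with the whole group -/
def dseq (C : Subgroup R) : ℕ → Subgroup R
  | 0 => C
  | n + 1 => ⁅dseq C n, (⊤ : Subgroup R)⁆

theorem dseq_le_lcs (C : Subgroup R) (n : ℕ) : dseq C n ≤ Subgroup.lowerCentralSeries (⊤ : Subgroup R) n := by
  induction n with
  | zero => simp [dseq]
  | succ n ih =>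
    show ⁅dseq C n, (⊤ : Subgroup R)⁆ ≤ ⁅Subgroup.lowerCentralSeries (⊤ : Subgroup R) n, ⊤⁆
    exact Subgroup.commutator_mono ih le_rfl

theorem dseq_le (C : Subgroup R) [hC : C.Normal] (n : ℕ) : dseq C n ≤ C := by
  induction n with
  | zero => exact le_rfl
  | succ n ih =>
    show ⁅dseq C n, (⊤ : Subgroup R)⁆ ≤ C
    calc ⁅dseq C n, (⊤ : Subgroup R)⁆ ≤ ⁅C, ⊤⁆ := Subgroup.commutator_mono ih le_rfl
      _ ≤ C := Subgroup.commutator_le_left C ⊤

/-- In a nilpotent group, a normal subgroup `C` not contained in a subgroup `L` has an element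
outside `L` all of whose commutators lie in `L`. -/
theorem exists_central_mod [Group.IsNilpotent R] (C L : Subgroup R) [C.Normal] (h : ¬ C ≤ L) :
    ∃ x ∈ C, x ∉ L ∧ ∀ r : R, x * r * x⁻¹ * r⁻¹ ∈ L := by
  classical
  obtain ⟨n, hn⟩ := (Subgroup.nilpotent_iff_lowerCentralSeries (G := R)).mp inferInstance
  have hex : ∃ j, dseq C j ≤ L := ⟨n, by
    have := dseq_le_lcs C n
    rw [hn] at this
    exact this.trans bot_le⟩
  set j := Nat.find hex with hj
  have hjspec : dseq C j ≤ L := Nat.find_spec hex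
  have hj0 : j ≠ 0 := by
    intro h0
    rw [h0] at hjspec
    exact h hjspec
  obtain ⟨i, hi⟩ := Nat.exists_eq_succ_of_ne_zero hj0
  have hnot : ¬ dseq C i ≤ L := Nat.find_min hex (by omega)
  obtain ⟨x, hxD, hxL⟩ := SetLike.not_le_iff_exists.mp hnot
  refine ⟨x, dseq_le C i hxD, hxL, fun r => ?_⟩
  apply hjspec
  rw [hi]
  show x * r * x⁻¹ * r⁻¹ ∈ ⁅dseq C i, (⊤ : Subgroup R)⁆
  exact Subgroup.commutator_mem_commutator hxD (Subgroup.mem_top r)

theorem centralizer_puigStep_le [Group.IsNilpotent R] (X : Subgroup R) [X.Normal] :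
    Subgroup.centralizer ((Cfsg.puigStep X : Subgroup R) : Set R) ≤ Cfsg.puigStep X := by
  have := puigStep_normal X
  set L := Cfsg.puigStep X with hL
  set C := Subgroup.centralizer ((L : Subgroup R) : Set R) with hC
  by_contra hnot
  obtain ⟨x, hxC, hxL, hcomm⟩ := exists_central_mod C L hnot
  apply hxL
  set S : Set R := {x} ∪ ((C ⊓ L : Subgroup R) : Set R) with hS
  have hScomm : ∀ a ∈ S, ∀ b ∈ S, a * b = b * a := by
    have hCL : ∀ a ∈ C, ∀ b ∈ L, a * b = b * a := by
      intro a ha b hb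
      rw [hC, Subgroup.mem_centralizer_iff] at ha
      exact (ha b hb).symm
    rintro a (rfl | ha) b (rfl | hb)
    · rfl
    · exact hCL a hxC b hb.2
    · exact (hCL b hxC a ha.2).symm
    · exact hCL a ha.1 b hb.2
  have hSconj : ∀ s ∈ S, ∀ g : R, g * s * g⁻¹ ∈ Subgroup.closure S := by
    rintro s (rfl | hs) g
    · have h1 : g * s * g⁻¹ * s⁻¹ ∈ C ⊓ L := by
        constructor
        · have : g * s * g⁻¹ ∈ C := Subgroup.Normal.conj_mem inferInstance s hxC g
          exact C.mul_mem this (C.inv_mem hxC)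
        · have := L.inv_mem (hcomm g)
          have e : (s * g * s⁻¹ * g⁻¹)⁻¹ = g * s * g⁻¹ * s⁻¹ := by group
          rwa [e] at this
      have e : g * s * g⁻¹ = (g * s * g⁻¹ * s⁻¹) * s := by group
      rw [e]
      apply Subgroup.mul_mem
      · exact Subgroup.subset_closure (Or.inr h1)
      · exact Subgroup.subset_closure (Or.inl rfl)
    · apply Subgroup.subset_closure
      right
      exact ⟨Subgroup.Normal.conj_mem inferInstance s hs.1 g, Subgroup.Normal.conj_mem inferInstance s hs.2 g⟩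
  have hAnormal : (Subgroup.closure S).Normal := by
    constructor
    intro n hn g
    induction hn using Subgroup.closure_induction with
    | mem s hs => exact hSconj s hs g
    | one => simp
    | mul a b _ _ iha ihb =>
      have e : g * (a * b) * g⁻¹ = (g * a * g⁻¹) * (g * b * g⁻¹) := by group
      rw [e]; exact Subgroup.mul_mem _ iha ihb
    | inv a _ iha =>
      have e : g * a⁻¹ * g⁻¹ = (g * a * g⁻¹)⁻¹ := by group
      rw [e]; exact Subgroup.inv_mem _ iha
  have hAle : Subgroup.closure S ≤ L := by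
    rw [hL]
    unfold Cfsg.puigStep
    apply le_sSup
    refine ⟨Subgroup.isMulCommutative_closure hScomm, ?_⟩
    rw [Subgroup.normalizer_eq_top]
    exact le_top
  exact hAle (Subgroup.subset_closure (Or.inl rfl))

/-- Let p be a prime and R a nontrivial finite p-group. Then for every i > 0, Z(R) ≤ C_R(L_i(R)) ≤ L_i(R); likewise Z(R) ≤ C_R(L_*(R)) ≤ L_*(R) and Z(R) ≤ C_R(L(R)) ≤ L(R); and L(R) ≠ 1, L_*(R) ≠ 1. -/
theorem result {R : Type*} [Group R] [Finite R] (p : ℕ) [Fact p.Prime] (hR : IsPGroup p R) [Nontrivial R] :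
    (∀ i : ℕ, 0 < i → Subgroup.center R ≤ Subgroup.centralizer ((Cfsg.puigSeq R i : Subgroup R) : Set R) ∧
        Subgroup.centralizer ((Cfsg.puigSeq R i : Subgroup R) : Set R) ≤ Cfsg.puigSeq R i) ∧
      (Subgroup.center R ≤ Subgroup.centralizer ((Cfsg.puigLower R : Subgroup R) : Set R) ∧ Subgroup.centralizer ((Cfsg.puigLower R : Subgroup R) : Set R) ≤ Cfsg.puigLower R) ∧
      (Subgroup.center R ≤ Subgroup.centralizer ((Cfsg.puigSubgroup R : Subgroup R) : Set R) ∧ Subgroup.centralizer ((Cfsg.puigSubgroup R : Subgroup R) : Set R) ≤ Cfsg.puigSubgroup R) ∧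
      Cfsg.puigSubgroup R ≠ ⊥ ∧ Cfsg.puigLower R ≠ ⊥ := by
  have : Group.IsNilpotent R := hR.isNilpotent
  have key : ∀ i : ℕ, 0 < i →
      Subgroup.centralizer ((Cfsg.puigSeq R i : Subgroup R) : Set R) ≤ Cfsg.puigSeq R i := by
    intro i hi
    obtain ⟨j, rfl⟩ := Nat.exists_eq_succ_of_ne_zero (Nat.pos_iff_ne_zero.mp hi)
    have := puigSeq_normal (R := R) j
    exact centralizer_puigStep_le (Cfsg.puigSeq R j)
  obtain ⟨k, hk⟩ := Cfsg.Agent.S1467.stab (G := R)
  have hlow : Cfsg.puigSeq R (2 * (k + 1)) = Cfsg.puigLower R := (hk (k + 1) (Nat.le_succ k)).1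
  have hup : Cfsg.puigSeq R (2 * (k + 1) + 1) = Cfsg.puigSubgroup R := (hk (k + 1) (Nat.le_succ k)).2
  have h1 : Subgroup.centralizer ((Cfsg.puigLower R : Subgroup R) : Set R) ≤ Cfsg.puigLower R := by
    rw [← hlow]; exact key _ (by omega)
  have h2 : Subgroup.centralizer ((Cfsg.puigSubgroup R : Subgroup R) : Set R) ≤ Cfsg.puigSubgroup R := by
    rw [← hup]; exact key _ (by omega)
  have hZ : ⊥ < Subgroup.center R := hR.bot_lt_center
  refine ⟨fun i hi => ⟨Subgroup.center_le_centralizer _, key i hi⟩,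
    ⟨Subgroup.center_le_centralizer _, h1⟩, ⟨Subgroup.center_le_centralizer _, h2⟩, ?_, ?_⟩
  · intro h
    have : Subgroup.center R ≤ ⊥ := by
      rw [← h]; exact (Subgroup.center_le_centralizer _).trans h2
    exact absurd (lt_of_lt_of_le hZ this) (lt_irrefl _)
  · intro h
    have : Subgroup.center R ≤ ⊥ := by
      rw [← h]; exact (Subgroup.center_le_centralizer _).trans h1
    exact absurd (lt_of_lt_of_le hZ this) (lt_irrefl _)

end Cfsg.Agent.S1466
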