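import Cfsg.Statements.S1457
import Cfsg.Agent.Lib.Helper54.OddPStable
import Cfsg.Agent.Lib.Helper54.Solv
import Cfsg.Agent.Lib.Helper54.PxQ

set_option autoImplicit false
open Cfsg

namespace Cfsg.Agent.S1457

open Subgroup Cfsg.Agent.Helper54
open Cfsg.Agent.Helper11.ZJ (stabL stabL_normal le_stabL_of_quadratic isPGroup_stabL le_pCore'
  pCore_le_sylow' isPGroup_pCore' pCore_normal')
open scoped commutatorElement

/-- Let G be a solvable group of odd order, p a prime, S a Sylow p-subgroup of G and A an abelian subgroup of S normal in S. Then A ≤ O_{p',p}(G). -/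
theorem result {G : Type*} [Group G] [Finite G] [Group.IsSolvable G] (hodd : Odd (Nat.card G)) (p : ℕ) [Fact p.Prime] (S : Sylow p G) (A : Subgroup G) (hA : A ≤ (S : Subgroup G)) (hAc : IsMulCommutative A)
    (hAn : (S : Subgroup G) ≤ Subgroup.normalizer (A : Set G)) :
    A ≤ Cfsg.pPrimePCore p G := by
  by_cases hp : p = 2
  · -- the Sylow 2-subgroup of a group of odd order is trivial
    have hS : (S : Subgroup G) = ⊥ := by
      obtain ⟨k, hk⟩ := IsPGroup.iff_card.mp S.isPGroup'
      have h1 : Nat.card (S : Subgroup G) ∣ Nat.card G := Subgroup.card_subgroup_dvd_card _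
      have h2 : Odd (Nat.card (S : Subgroup G)) := Odd.of_dvd_nat hodd h1
      rw [hk, hp] at h2
      have hk0 : k = 0 := by
        by_contra hk0
        exact (Nat.not_even_iff_odd.mpr h2) ((Nat.even_pow' hk0).mpr even_two)
      rw [hk0, pow_zero] at hk
      exact Subgroup.card_eq_one.mp hk
    rw [hS, le_bot_iff] at hA
    rw [hA]; exact bot_le
  have hKn : (Cfsg.pPrimeCore p G).Normal := pPrimeCore_normal' (G := G) p
  set K := Cfsg.pPrimeCore p G with hK
  set π := QuotientGroup.mk' K with hπ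
  have hπs : Function.Surjective π := QuotientGroup.mk'_surjective K
  have hoddq : Odd (Nat.card (G ⧸ K)) := Odd.of_dvd_nat hodd (Subgroup.card_quotient_dvd_card K)
  have hBn : (Cfsg.pCore p (G ⧸ K)).Normal := pCore_normal' p (G ⧸ K)
  set B := Cfsg.pCore p (G ⧸ K) with hB
  have hBp : IsPGroup p B := isPGroup_pCore'
  have hst := isPStableOn_of_odd_solvable hoddq hp B hBp
  -- `B ≤ S̄ ≤ N(Ā)`
  have hBS : B ≤ (S : Subgroup G).map π := by
    have := pCore_le_sylow' (S.mapSurjective hπs)
    rwa [Sylow.coe_mapSurjective] at this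
  have hSN : (S : Subgroup G).map π ≤ normalizer ((A.map π : Subgroup (G ⧸ K)) : Set (G ⧸ K)) :=
    (map_mono hAn).trans (le_normalizer_map π)
  have hcomm : ⁅B, A.map π⁆ ≤ A.map π := by
    rw [commutator_le]
    intro b hb a ha
    have hbN := hSN (hBS hb)
    rw [commutatorElement_def]
    exact mul_mem ((mem_normalizer_iff.mp hbN a).mp ha) (inv_mem ha)
  have hAab : ⁅A.map π, A.map π⁆ = ⊥ := by
    rw [commutator_eq_bot_iff_le_centralizer]
    rintro _ ⟨x, hx, rfl⟩
    rw [mem_centralizer_iff]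
    rintro _ ⟨y, hy, rfl⟩
    have h1 : (⟨x, hx⟩ : A) * ⟨y, hy⟩ = ⟨y, hy⟩ * ⟨x, hx⟩ := mul_comm' _ _
    have h2 : x * y = y * x := congrArg Subtype.val h1
    rw [← map_mul, ← map_mul, h2]
  have hquad : ⁅⁅B, A.map π⁆, A.map π⁆ = ⊥ := by
    rw [eq_bot_iff, ← hAab]
    exact commutator_mono hcomm le_rfl
  have h1 : A.map π ≤ stabL p B := le_stabL_of_quadratic B hst _ hquad
  have hCB : centralizer (B : Set (G ⧸ K)) ≤ B :=
    centralizer_pCore_le p (pPrimeCore_quotient_eq_bot p)
  have h2 : IsPGroup p (stabL p B) := isPGroup_stabL B (hBp.to_le hCB)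
  have h3 : stabL p B ≤ B := le_pCore' (stabL_normal p B) h2
  intro a ha
  show π a ∈ B
  exact h3 (h1 (mem_map_of_mem _ ha))

end Cfsg.Agent.S1457
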