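import Cfsg.Statements.S1465
import Cfsg.Agent.Lib.Helper54.OddPStable
import Cfsg.Agent.Lib.Helper54.Solv

set_option autoImplicit false
open Cfsg

namespace Cfsg.Agent.S1465

open Subgroup Cfsg.Agent.Helper54
open Cfsg.Agent.Helper11.ZJ (stabL stabL_normal le_stabL_of_quadratic isPGroup_stabL)
open scoped commutatorElement

/-- an abelian subgroup normalized by `P` acts quadratically on `P` -/
theorem quad_of_abelian_of_le_normalizer {G : Type*} [Group G] (P B : Subgroup G)
    (hBc : IsMulCommutative B) (hPB : P ≤ normalizer (B : Set G)) : ⁅⁅P, B⁆, B⁆ = ⊥ := by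
  have hcomm : ⁅P, B⁆ ≤ B := by
    rw [commutator_le]
    intro x hx b hb
    rw [commutatorElement_def]
    exact mul_mem ((mem_normalizer_iff.mp (hPB hx) b).mp hb) (inv_mem hb)
  have hBB : ⁅B, B⁆ = ⊥ := by
    rw [commutator_eq_bot_iff_le_centralizer]
    intro x hx
    rw [mem_centralizer_iff]
    intro y hy
    have h1 : (⟨y, hy⟩ : B) * ⟨x, hx⟩ = ⟨x, hx⟩ * ⟨y, hy⟩ := mul_comm' _ _
    exact congrArg Subtype.val h1
  rw [eq_bot_iff, ← hBB]
  exact commutator_mono hcomm le_rfl

/-- Let p be an odd prime, G a solvable group of odd order, P a normal p-subgroup of G, and X the subgroup generated by a family of abelian p-subgroups of G each normalized by P. Then the image of X in G/C_G(P) lies in O_p(G/C_G(P)); and if O_{p'}(G) = 1 and O_p(G) ∩ C_G(P) ≤ P then X ≤ O_p(G). -/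
theorem result {G : Type*} [Group G] [Finite G] [Group.IsSolvable G] (hodd : Odd (Nat.card G)) (p : ℕ) [Fact p.Prime] (hp : p ≠ 2) (P : Subgroup G) [P.Normal] (hP : IsPGroup p P)
    (S : Set (Subgroup G)) (hS : ∀ B ∈ S, IsMulCommutative B ∧ IsPGroup p B ∧ P ≤ Subgroup.normalizer (B : Set G)) :
    (sSup S).map (QuotientGroup.mk' (Subgroup.centralizer (P : Set G))) ≤ Cfsg.pCore p (G ⧸ Subgroup.centralizer (P : Set G)) ∧
      (Cfsg.pPrimeCore p G = ⊥ → Cfsg.pCore p G ⊓ Subgroup.centralizer (P : Set G) ≤ P → sSup S ≤ Cfsg.pCore p G) := by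
  have hst := isPStableOn_of_odd_solvable hodd hp P hP
  have hX : sSup S ≤ stabL p P := by
    apply sSup_le
    intro B hB
    obtain ⟨hBc, _, hPB⟩ := hS B hB
    exact le_stabL_of_quadratic P hst B (quad_of_abelian_of_le_normalizer P B hBc hPB)
  refine ⟨?_, fun hO hPC => ?_⟩
  · rintro _ ⟨x, hx, rfl⟩
    exact hX hx
  · -- `C_G(P)` is a `p`-group
    set C := centralizer (P : Set G) with hC
    have hCle : C ≤ C ⊓ Cfsg.pCore p G := by
      apply derived_descent C (C ⊓ Cfsg.pCore p G)
      intro A hAn hAC hAA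
      refine le_inf hAC ?_
      apply le_sSup
      have hAAP : ⁅A, A⁆ ≤ P := by
        refine hAA.trans ?_
        rw [inf_comm]; exact hPC
      refine ⟨hAn, isPGroup_of_nilpotent_normal p hO A (isNilpotent_of_commutators_central A ?_)⟩
      exact commutators_central_of_le_centralizer A P hAC hAAP
    have hCp : IsPGroup p C := isPGroup_pCore.to_le (hCle.trans inf_le_right)
    have h2 : IsPGroup p (stabL p P) := isPGroup_stabL P hCp
    exact hX.trans (le_pCore (stabL_normal p P) h2)

end Cfsg.Agent.S1465
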