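import Cfsg.Statements.S1468
import Cfsg.Agent.Lib.Helper54.PuigIn
import Cfsg.Agent.S1465

set_option autoImplicit false
open Cfsg

namespace Cfsg.Agent.S1468

open Subgroup Cfsg.Agent.Helper54.Puig
open Cfsg.Agent.Helper11.ZJ (pCore_le_sylow' isPGroup_pCore' pCore_normal')

/-- the key step: the abelian subgroups of `S` normalized by `L_{2i+1}(S) ≥ L_{2i+1}(T)` lie in `T`. -/
theorem key {G : Type*} [Group G] [Finite G] [Group.IsSolvable G] (hodd : Odd (Nat.card G))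
    (p : ℕ) [Fact p.Prime] (hp : p ≠ 2) (hO : Cfsg.pPrimeCore p G = ⊥) (S : Sylow p G) (i : ℕ)
    (hi : seqIn (Cfsg.pCore p G) (2 * i + 1) ≤ seqIn (S : Subgroup G) (2 * i + 1)) :
    seqIn (S : Subgroup G) (2 * i + 2) ≤ Cfsg.pCore p G := by
  have hTn : (Cfsg.pCore p G).Normal := pCore_normal' p G
  have hTp : IsPGroup p (Cfsg.pCore p G) := isPGroup_pCore'
  have hnil : Group.IsNilpotent (Cfsg.pCore p G) := hTp.isNilpotent
  have hPn : (seqIn (Cfsg.pCore p G) (2 * i + 1)).Normal := seqIn_normal _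
  have hPp : IsPGroup p (seqIn (Cfsg.pCore p G) (2 * i + 1)) := hTp.to_le (seqIn_le _ _)
  have hcent := inf_centralizer_seqIn_le (Cfsg.pCore p G) (2 * i)
  exact (Cfsg.Agent.S1465.result hodd p hp (seqIn (Cfsg.pCore p G) (2 * i + 1)) hPp
    {A : Subgroup G | A ≤ (S : Subgroup G) ∧ IsMulCommutative A ∧
      seqIn (S : Subgroup G) (2 * i + 1) ≤ normalizer (A : Set G)}
    (fun B hB => ⟨hB.2.1, S.isPGroup'.to_le hB.1, hi.trans hB.2.2⟩)).2 hO hcent

/-- Let p be an odd prime, G a solvable group of odd order with O_{p'}(G) = 1, S a Sylow p-subgroup and T = O_p(G). Then, viewing the Puig subgroups of S and of T inside G, L_*(S) ≤ L_*(T) ≤ L(T) ≤ L(S). -/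
theorem result {G : Type*} [Group G] [Finite G] [Group.IsSolvable G] (hodd : Odd (Nat.card G)) (p : ℕ) [Fact p.Prime] (hp : p ≠ 2) (hO : Cfsg.pPrimeCore p G = ⊥) (S : Sylow p G) :
    (Cfsg.puigLower ↥(S : Subgroup G)).map (S : Subgroup G).subtype ≤ (Cfsg.puigLower ↥(Cfsg.pCore p G)).map (Cfsg.pCore p G).subtype ∧
      (Cfsg.puigLower ↥(Cfsg.pCore p G)).map (Cfsg.pCore p G).subtype ≤ (Cfsg.puigSubgroup ↥(Cfsg.pCore p G)).map (Cfsg.pCore p G).subtype ∧
      (Cfsg.puigSubgroup ↥(Cfsg.pCore p G)).map (Cfsg.pCore p G).subtype ≤ (Cfsg.puigSubgroup ↥(S : Subgroup G)).map (S : Subgroup G).subtype := by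
  have h := comparison_low_up (pCore_le_sylow' S) (key hodd p hp hO S)
  exact ⟨h.1, lowIn_le_upIn _, h.2⟩

end Cfsg.Agent.S1468
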