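import Cfsg.Statements.S1469
import Cfsg.Agent.Lib.Helper54.PuigIn
import Cfsg.Agent.Lib.Helper54.PConstrained
import Cfsg.Agent.Lib.Helper54.Solv
import Cfsg.Agent.Lib.Helper54.PxQ
import Cfsg.Agent.S1465
import Cfsg.Agent.S1468

set_option autoImplicit false
open Cfsg

namespace Cfsg.Agent.S1469

open Subgroup Cfsg.Agent.Helper54 Cfsg.Agent.Helper54.Puig
open Cfsg.Agent.Helper11.ZJ (pCore_le_sylow' isPGroup_pCore' pCore_normal' stabL
  normalizer_sup_centralizer_eq_top)

theorem isMulCommutative_inf_centralizer {G : Type*} [Group G] (U : Subgroup G) :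
    IsMulCommutative ↥(U ⊓ centralizer (U : Set G)) := by
  refine ⟨⟨fun a b => ?_⟩⟩
  apply Subtype.ext
  have ha := (mem_inf.mp a.2).2
  have hb := (mem_inf.mp b.2).1
  exact ((mem_centralizer_iff.mp ha) b hb).symm

theorem zIn_congr {G : Type*} [Group G] {Q S : Subgroup G} (h : upIn Q = upIn S) :
    zIn Q = zIn S := by
  unfold zIn; rw [h]

/-- `Z(L(S)) ⊴ G` when `O_{p'}(G) = 1`. -/
theorem zIn_normal {G : Type*} [Group G] [Finite G] [Group.IsSolvable G] (hodd : Odd (Nat.card G))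
    (p : ℕ) [Fact p.Prime] (hp : p ≠ 2) (hO : Cfsg.pPrimeCore p G = ⊥) (S : Sylow p G) :
    (zIn (S : Subgroup G)).Normal := by
  have hTn : (Cfsg.pCore p G).Normal := pCore_normal' p G
  have hTp : IsPGroup p (Cfsg.pCore p G) := isPGroup_pCore'
  have hTS : Cfsg.pCore p G ≤ (S : Subgroup G) := pCore_le_sylow' S
  obtain ⟨h1, h2, h3⟩ := Cfsg.Agent.S1468.result hodd p hp hO S
  change lowIn (S : Subgroup G) ≤ lowIn (Cfsg.pCore p G) at h1
  change lowIn (Cfsg.pCore p G) ≤ upIn (Cfsg.pCore p G) at h2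
  change upIn (Cfsg.pCore p G) ≤ upIn (S : Subgroup G) at h3
  -- `Z₁ = Z(L(T))`
  have hUTn : (upIn (Cfsg.pCore p G)).Normal := upIn_normal
  have hZ1n : (zIn (Cfsg.pCore p G)).Normal := by
    unfold zIn; infer_instance
  have hZ1T : zIn (Cfsg.pCore p G) ≤ Cfsg.pCore p G := inf_le_left.trans (upIn_le _)
  have hZ1p : IsPGroup p (zIn (Cfsg.pCore p G)) := hTp.to_le hZ1T
  have hZ1c : IsMulCommutative (zIn (Cfsg.pCore p G)) := isMulCommutative_inf_centralizer _
  have hZ1low : zIn (Cfsg.pCore p G) ≤ lowIn (S : Subgroup G) := by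
    rw [← stepIn_upIn]
    apply le_stepIn (hZ1T.trans hTS) hZ1c
    rw [normalizer_eq_top]; exact le_top
  -- `Z = Z(L(S)) ≤ L_*(S)`
  have hZc : IsMulCommutative (zIn (S : Subgroup G)) := isMulCommutative_inf_centralizer _
  have hZlow : zIn (S : Subgroup G) ≤ lowIn (S : Subgroup G) := by
    rw [← stepIn_upIn]
    apply le_stepIn (inf_le_left.trans (upIn_le _)) hZc
    refine le_trans ?_ (centralizer_le_normalizer _)
    rw [le_centralizer_iff]
    exact inf_le_right
  have hZZ1 : zIn (S : Subgroup G) ≤ zIn (Cfsg.pCore p G) :=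
    le_inf (hZlow.trans (h1.trans h2)) (inf_le_right.trans (centralizer_le h3))
  -- `p`-stability
  have h5 := (Cfsg.Agent.S1465.result hodd p hp (zIn (Cfsg.pCore p G)) hZ1p
    {A : Subgroup G | A ≤ (S : Subgroup G) ∧ IsMulCommutative A ∧
      lowIn (S : Subgroup G) ≤ normalizer (A : Set G)}
    (fun B hB => ⟨hB.2.1, S.isPGroup'.to_le hB.1, hZ1low.trans hB.2.2⟩)).1
  have hUL : upIn (S : Subgroup G) ≤ stabL p (zIn (Cfsg.pCore p G)) := by
    rw [← stepIn_lowIn]
    intro x hx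
    exact h5 (mem_map_of_mem _ hx)
  have hUQ : upIn (S : Subgroup G) ≤ (S : Subgroup G) ⊓ stabL p (zIn (Cfsg.pCore p G)) :=
    le_inf (upIn_le _) hUL
  have hQU : zIn ((S : Subgroup G) ⊓ stabL p (zIn (Cfsg.pCore p G))) = zIn (S : Subgroup G) :=
    zIn_congr (upIn_eq_of_le inf_le_left hUQ).1
  have hfr := normalizer_sup_centralizer_eq_top S (zIn (Cfsg.pCore p G))
  rw [← normalizer_eq_top_iff, eq_top_iff, ← hfr]
  apply sup_le
  · rw [← hQU]
    exact normalizer_le_normalizer_zIn _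
  · exact (centralizer_le hZZ1).trans (centralizer_le_normalizer _)

/-- Let p be an odd prime, G a solvable group of odd order and S a Sylow p-subgroup, and let Z be the centre of the Puig subgroup L(S), viewed inside G. Then G is generated by O_{p'}(G) and N_G(Z); and if O_{p'}(G) = 1 then Z is normal in G. -/
theorem result {G : Type*} [Group G] [Finite G] [Group.IsSolvable G] (hodd : Odd (Nat.card G)) (p : ℕ) [Fact p.Prime] (hp : p ≠ 2) (S : Sylow p G) :
    Cfsg.pPrimeCore p G ⊔ Subgroup.normalizer ((((Subgroup.center ↥(Cfsg.puigSubgroup ↥(S : Subgroup G))).map (Cfsg.puigSubgroup ↥(S : Subgroup G)).subtype).map (S : Subgroup G).subtype : Subgroup G) : Set G) = ⊤ ∧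
      (Cfsg.pPrimeCore p G = ⊥ → (((Subgroup.center ↥(Cfsg.puigSubgroup ↥(S : Subgroup G))).map (Cfsg.puigSubgroup ↥(S : Subgroup G)).subtype).map (S : Subgroup G).subtype).Normal) := by
  rw [center_puigSubgroup_map]
  refine ⟨?_, fun hO => zIn_normal hodd p hp hO S⟩
  have hKn : (Cfsg.pPrimeCore p G).Normal := pPrimeCore_normal' (G := G) p
  have hK : (Nat.card (pPrimeCore p G)).Coprime p := pPrimeCore_coprime p
  have hπs : Function.Surjective (QuotientGroup.mk' (pPrimeCore p G)) :=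
    QuotientGroup.mk'_surjective _
  have hoddq : Odd (Nat.card (G ⧸ pPrimeCore p G)) :=
    Odd.of_dvd_nat hodd (Subgroup.card_quotient_dvd_card _)
  have hbot : pPrimeCore p (G ⧸ pPrimeCore p G) = ⊥ := pPrimeCore_quotient_eq_bot p
  have hn := zIn_normal hoddq p hp hbot (S.mapSurjective hπs)
  have hinf : (S : Subgroup G) ⊓ (QuotientGroup.mk' (pPrimeCore p G)).ker = ⊥ := by
    rw [QuotientGroup.ker_mk', inf_comm]
    exact inf_eq_bot_of_isPGroup_of_coprime _ _ hK S.isPGroup'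
  rw [Sylow.coe_mapSurjective, ← map_zIn _ hinf] at hn
  have hZp : IsPGroup p (zIn (S : Subgroup G)) :=
    S.isPGroup'.to_le (inf_le_left.trans (upIn_le _))
  rw [eq_top_iff]
  intro c _
  have h1 : ∃ k ∈ pPrimeCore p G, c * k ∈ Subgroup.normalizer ((zIn (S : Subgroup G) : Subgroup G) : Set G) := by
    apply exists_mul_mem_normalizer (pPrimeCore p G) hK _ hZp c
    intro t ht
    have h2 : (QuotientGroup.mk' (pPrimeCore p G)) c * (QuotientGroup.mk' (pPrimeCore p G)) t *
        ((QuotientGroup.mk' (pPrimeCore p G)) c)⁻¹ ∈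
        (zIn (S : Subgroup G)).map (QuotientGroup.mk' (pPrimeCore p G)) :=
      hn.conj_mem _ (Subgroup.mem_map_of_mem _ ht) _
    obtain ⟨t', ht', h3⟩ := h2
    have h4 : t'⁻¹ * (c * t * c⁻¹) ∈ pPrimeCore p G := by
      rw [← QuotientGroup.eq_one_iff, ← QuotientGroup.mk'_apply]
      simp only [map_mul, map_inv]
      rw [h3]
      group
    have h5 : c * t * c⁻¹ = t' * (t'⁻¹ * (c * t * c⁻¹)) := by group
    rw [h5]
    exact Subgroup.mul_mem _ (Subgroup.mem_sup_left ht') (Subgroup.mem_sup_right h4)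
  obtain ⟨k, hk, hck⟩ := h1
  have h7 : c = (c * k) * k⁻¹ := by group
  rw [h7]
  exact Subgroup.mul_mem _ (Subgroup.mem_sup_right hck)
    (Subgroup.mem_sup_left (Subgroup.inv_mem _ hk))

end Cfsg.Agent.S1469
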