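import Cfsg.Statements.S0636
import Mathlib
import Cfsg.Agent.Lib.Helper35.CyclicMax
import Cfsg.Agent.Lib.Helper35.NormalStep
import Cfsg.Agent.Lib.Helper24.NonCyclic

set_option autoImplicit false
open Cfsg

namespace Cfsg.Agent.S0636

/-- cyclic case: a normal nonabelian extension `B` of degree `p` of the cyclic `A` -/
theorem cyclic_case {R : Type*} [Group R] [Finite R] {p : ℕ} [Fact p.Prime] (hp : p ≠ 2)
    (hR : IsPGroup p R) (A B : Subgroup R) (hB : B.Normal) (hAB : A ≤ B) (hAc : IsCyclic A)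
    (hcard : Nat.card B = Nat.card A * p) (hBnc : ¬ ∀ x ∈ B, ∀ y ∈ B, x * y = y * x) :
    ∃ M : Subgroup R, M ≤ B ∧ M.Normal ∧ (∀ x ∈ M, ∀ y ∈ M, x * y = y * x) ∧
      (∀ a ∈ M, a ^ p = 1) ∧ Nat.card M = p ^ 2 := by
  have hpp : p.Prime := Fact.out
  have hRB : IsPGroup p B := hR.to_subgroup B
  have hBncyc : ¬ IsCyclic B := by
    intro h
    apply hBnc
    intro x hx y hy
    have := (IsCyclic.isMulCommutative (α := B)).is_comm.comm ⟨x, hx⟩ ⟨y, hy⟩
    exact congrArg Subtype.val this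
  have hCc : IsCyclic (A.subgroupOf B) := (Subgroup.subgroupOfEquivOfLe hAB).isCyclic.mpr hAc
  have hCi : (A.subgroupOf B).index = p := by
    have h1 := Subgroup.card_mul_index (A.subgroupOf B)
    rw [Nat.card_congr (Subgroup.subgroupOfEquivOfLe hAB).toEquiv, hcard] at h1
    exact Nat.eq_of_mul_eq_mul_left Nat.card_pos h1
  obtain ⟨K, hK, hKcard⟩ :=
    Helper35.omega_card_of_cyclic_index_p hp hRB hBncyc (A.subgroupOf B) hCc hCi
  have hMcard : Nat.card (K.map B.subtype) = p ^ 2 := by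
    rw [Subgroup.card_map_of_injective B.subtype_injective, hKcard]
  refine ⟨K.map B.subtype, ?_, ?_, ?_, ?_, hMcard⟩
  · rintro _ ⟨k, -, rfl⟩
    exact k.2
  · refine ⟨?_⟩
    rintro _ ⟨k, hk, rfl⟩ r
    have hmem : r * (k : R) * r⁻¹ ∈ B := hB.conj_mem _ k.2 r
    refine ⟨⟨r * (k : R) * r⁻¹, hmem⟩, ?_, rfl⟩
    apply (hK _).mpr
    apply Subtype.ext
    have h1 := (hK k).mp hk
    have h2 : (k : R) ^ p = 1 := by
      have := congrArg Subtype.val h1
      simpa using this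
    simp only [Subgroup.coe_pow, Subgroup.coe_one]
    rw [conj_pow, h2, mul_one, mul_inv_cancel]
  · intro x hx y hy
    have := IsPGroup.commutative_of_card_eq_prime_sq hMcard ⟨x, hx⟩ ⟨y, hy⟩
    exact congrArg Subtype.val this
  · rintro _ ⟨k, hk, rfl⟩
    have h1 := (hK k).mp hk
    have := congrArg Subtype.val h1
    simpa using this

/-- noncyclic case: the abelian normal subgroup `A` is not cyclic -/
theorem noncyclic_case {R : Type*} [Group R] [Finite R] {p : ℕ} [Fact p.Prime]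
    (hR : IsPGroup p R) (A : Subgroup R) (hA : A.Normal)
    (hcomm : ∀ x ∈ A, ∀ y ∈ A, x * y = y * x) (hAc : ¬ IsCyclic A) :
    ∃ M : Subgroup R, M ≤ A ∧ M.Normal ∧ (∀ x ∈ M, ∀ y ∈ M, x * y = y * x) ∧
      (∀ a ∈ M, a ^ p = 1) ∧ Nat.card M = p ^ 2 := by
  have hpp : p.Prime := Fact.out
  haveI : IsMulCommutative A := ⟨⟨fun x y => Subtype.ext (hcomm x x.2 y y.2)⟩⟩
  obtain ⟨q, B₀, hq, hB₀A, hB₀q, hB₀card⟩ :=
    Helper24.exists_elementary_abelian_le_of_not_isCyclic A hAc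
  -- q = p
  have hqp : q = p := by
    have hne : B₀ ≠ ⊥ := by
      intro h
      rw [h, Subgroup.card_bot] at hB₀card
      have := hq.two_le
      nlinarith
    obtain ⟨⟨x, hx⟩, hx1⟩ := (Subgroup.ne_bot_iff_exists_ne_one).mp hne
    have hx1' : x ≠ 1 := fun h => hx1 (Subtype.ext h)
    haveI : Fact q.Prime := ⟨hq⟩
    have ho : orderOf x = q := orderOf_eq_prime (hB₀q x hx) hx1'
    obtain ⟨k, hk⟩ := (IsPGroup.iff_orderOf.mp hR) x
    rw [ho] at hk
    have hk0 : k ≠ 0 := by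
      intro h
      rw [h, pow_zero] at hk
      exact hq.one_lt.ne' hk
    have : p ∣ q := hk ▸ dvd_pow_self p hk0
    exact ((Nat.prime_dvd_prime_iff_eq hpp hq).mp this).symm
  subst hqp
  -- Ω
  let Ω : Subgroup R :=
    { carrier := {x | x ∈ A ∧ x ^ q = 1}
      mul_mem' := by
        rintro x y ⟨hx, hx'⟩ ⟨hy, hy'⟩
        refine ⟨A.mul_mem hx hy, ?_⟩
        have : Commute x y := hcomm x hx y hy
        rw [this.mul_pow, hx', hy', one_mul]
      one_mem' := ⟨A.one_mem, one_pow _⟩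
      inv_mem' := by
        rintro x ⟨hx, hx'⟩
        exact ⟨A.inv_mem hx, by rw [inv_pow, hx', inv_one]⟩ }
  have hΩmem : ∀ x, x ∈ Ω ↔ x ∈ A ∧ x ^ q = 1 := fun x => Iff.rfl
  haveI hΩn : Ω.Normal := by
    refine ⟨fun x hx r => ?_⟩
    rw [hΩmem] at hx ⊢
    refine ⟨hA.conj_mem x hx.1 r, ?_⟩
    rw [conj_pow, hx.2, mul_one, mul_inv_cancel]
  have hΩA : Ω ≤ A := fun x hx => hx.1
  have hB₀Ω : B₀ ≤ Ω := fun x hx => ⟨hB₀A hx, hB₀q x hx⟩
  have hΩcard : q ^ 2 ≤ Nat.card Ω := hB₀card.trans (Subgroup.card_le_of_le hB₀Ω)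
  have hΩne : Ω ≠ ⊥ := by
    intro h
    rw [h, Subgroup.card_bot] at hΩcard
    have := hq.two_le
    nlinarith
  obtain ⟨z, hzΩ, hz1, hzcen⟩ := Helper32.exists_ne_one_mem_center_of_normal hR Ω hΩne
  have hzord : orderOf z = q := orderOf_eq_prime ((hΩmem z).mp hzΩ).2 hz1
  have hZcen : Subgroup.zpowers z ≤ Subgroup.center R := by
    rw [Subgroup.zpowers_le]; exact hzcen
  haveI : (Subgroup.zpowers z).Normal := by
    refine ⟨fun n hn g => ?_⟩
    have := Subgroup.mem_center_iff.mp (hZcen hn) g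
    rw [this, mul_inv_cancel_right]
    exact hn
  have hZΩ : Subgroup.zpowers z ≤ Ω := by
    rw [Subgroup.zpowers_le]; exact hzΩ
  have hZne : Subgroup.zpowers z ≠ Ω := by
    intro h
    rw [← h, Nat.card_zpowers, hzord] at hΩcard
    have := hq.two_le
    nlinarith
  obtain ⟨M, hMn, hZM, hMΩ, hMcard⟩ :=
    Helper35.exists_normal_step hR (Subgroup.zpowers z) Ω hZΩ hZne
  refine ⟨M, hMΩ.trans hΩA, hMn, ?_, ?_, ?_⟩
  · intro x hx y hy
    exact hcomm x (hΩA (hMΩ hx)) y (hΩA (hMΩ hy))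
  · intro a ha
    exact (hMΩ ha).2
  · rw [hMcard, Nat.card_zpowers, hzord, pow_two]

theorem main {R : Type*} [Group R] [Finite R] {p : ℕ} [Fact p.Prime] (hp : p ≠ 2)
    (hR : IsPGroup p R) (S : Subgroup R) [hSn : S.Normal] (hS : ¬ IsCyclic S) :
    ∃ M : Subgroup R, M ≤ S ∧ M.Normal ∧ (∀ x ∈ M, ∀ y ∈ M, x * y = y * x) ∧
      (∀ a ∈ M, a ^ p = 1) ∧ Nat.card M = p ^ 2 := by
  have hpp : p.Prime := Fact.out
  let 𝒜 : Set (Subgroup R) := {A | A ≤ S ∧ A.Normal ∧ ∀ x ∈ A, ∀ y ∈ A, x * y = y * x}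
  have hne : 𝒜.Nonempty := ⟨⊥, bot_le, inferInstance, by
    intro x hx y hy
    rw [Subgroup.mem_bot] at hx hy
    rw [hx, hy]⟩
  obtain ⟨A, hAmax⟩ := (Set.toFinite 𝒜).exists_maximal hne
  obtain ⟨hAS, hAn, hAcomm⟩ := hAmax.prop
  by_cases hAc : IsCyclic A
  · have hneS : A ≠ S := by
      intro h
      rw [h] at hAc
      exact hS hAc
    haveI := hAn
    obtain ⟨B, hBn, hAB, hBS, hBcard⟩ := Helper35.exists_normal_step hR A S hAS hneS
    have hBnc : ¬ ∀ x ∈ B, ∀ y ∈ B, x * y = y * x := by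
      intro hcomm
      have hB𝒜 : B ∈ 𝒜 := ⟨hBS, hBn, hcomm⟩
      have hBA : B ≤ A := hAmax.le_of_ge hB𝒜 hAB
      have := Subgroup.card_le_of_le hBA
      rw [hBcard] at this
      have h1 : 0 < Nat.card A := Nat.card_pos
      have := hpp.one_lt
      nlinarith
    obtain ⟨M, hMB, hMn, h1, h2, h3⟩ := cyclic_case hp hR A B hBn hAB hAc hBcard hBnc
    exact ⟨M, hMB.trans hBS, hMn, h1, h2, h3⟩
  · obtain ⟨M, hMA, hMn, h1, h2, h3⟩ := noncyclic_case hR A hAn hAcomm hAc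
    exact ⟨M, hMA.trans hAS, hMn, h1, h2, h3⟩

/-- For odd p, every non-cyclic normal subgroup of a p-group contains a normal elementary abelian subgroup of the whole group of order p². -/
theorem result {R : Type*} [Group R] [Finite R] {p : ℕ} [Fact p.Prime] (hp : p ≠ 2) (hR : IsPGroup p R) (S : Subgroup R) [S.Normal] (hS : ¬ IsCyclic S) : ∃ A : Subgroup R, A ≤ S ∧ A.Normal ∧ Cfsg.IsElementaryAbelian p A ∧ Nat.card A = p ^ 2 := by
  obtain ⟨M, hMS, hMn, h1, h2, h3⟩ := main hp hR S hS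
  exact ⟨M, hMS, hMn, ⟨⟨⟨fun x y => Subtype.ext (h1 x x.2 y y.2)⟩⟩, h2⟩, h3⟩

end Cfsg.Agent.S0636
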