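import Cfsg.Statements.S1393
import Cfsg.Agent.Lib.Helper54.BGTransitivity

set_option autoImplicit false
open Cfsg

namespace Cfsg.Agent.S1393

open Cfsg.Agent.Helper22 (conjS conjS_one) in
/-- Let G be a minimal simple group of odd order, A a subgroup satisfying the transitivity hypothesis whose centre has rank at least 3, K = O_{π(A)'}(C_G(A)), and q a prime not dividing the order of A. Then any two maximal A-invariant q-subgroups of G are conjugate by an element of K. -/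
theorem result {G : Type*} [Group G] [Finite G] (hG : Cfsg.IsMinSimpleOddOrder G)
    (A : Subgroup G) (hA : Cfsg.TransitivityHypothesis A) (hZ : ¬ Cfsg.RankLE 2 ↥(A ⊓ Subgroup.centralizer (A : Set G)))
    (q : ℕ) (hq : q.Prime) (hqA : ¬ q ∣ Nat.card A) :
    ∀ Q₁ ∈ Cfsg.maxInvSubgroups ⊤ A {q}, ∀ Q₂ ∈ Cfsg.maxInvSubgroups ⊤ A {q}, ∃ k ∈ Cfsg.piCoreOf (Cfsg.primesNotDvd (Nat.card A)) (Subgroup.centralizer (A : Set G)), Q₂ = Q₁.map (MulAut.conj k).toMonoidHom := by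
  classical
  have : Fact q.Prime := ⟨hq⟩
  obtain ⟨p, hp, B, hBZ, hB, hB3⟩ := Cfsg.Agent.Helper54.exists_elemAb_of_not_rankLE _ 2 hZ
  have : Fact p.Prime := ⟨hp⟩
  have hBA : B ≤ A := hBZ.trans inf_le_left
  have hqp : q ≠ p := by
    rintro rfl
    apply hqA
    have h1 : q ∣ Nat.card B := by
      have h2 : q ∣ q ^ 3 := dvd_pow_self q (by norm_num)
      have hBp : IsPGroup q B := by
        intro g
        refine ⟨1, ?_⟩
        rw [pow_one]
        apply Subtype.ext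
        have := hB.2 g.1 g.2
        simpa using this
      obtain ⟨j, hj⟩ := IsPGroup.iff_card.mp hBp
      rw [hj] at hB3 ⊢
      have hj0 : j ≠ 0 := by
        rintro rfl
        have : 1 < q ^ (2 + 1) := Nat.one_lt_pow (by norm_num) hq.one_lt
        rw [pow_zero] at hB3
        omega
      exact dvd_pow_self q hj0
    exact h1.trans (Subgroup.card_dvd_of_le hBA)
  intro Q₁ hQ₁ Q₂ hQ₂
  have h₁ := Cfsg.Agent.Helper54.isMaxInvQ_of_mem_maxInvSubgroups A q Q₁ hQ₁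
  have h₂ := Cfsg.Agent.Helper54.isMaxInvQ_of_mem_maxInvSubgroups A q Q₂ hQ₂
  by_cases hD1 : Q₁ ⊓ Q₂ = Q₁
  · have hle : Q₁ ≤ Q₂ := hD1 ▸ inf_le_right
    have := h₁.2.2 Q₂ h₂.1 h₂.2.1 hle
    exact ⟨1, one_mem _, by rw [this]; exact (conjS_one Q₁).symm⟩
  by_cases hD2 : Q₁ ⊓ Q₂ = Q₂
  · have hle : Q₂ ≤ Q₁ := hD2 ▸ inf_le_left
    have := h₂.2.2 Q₁ h₁.1 h₁.2.1 hle
    exact ⟨1, one_mem _, by rw [← this]; exact (conjS_one Q₁).symm⟩
  obtain ⟨a, haB, ha1, hna₁, hna₂⟩ :=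
    Cfsg.Agent.S1282.result p B hB hB3 q hqp Q₁ Q₂ h₁.1 h₂.1 (hBA.trans h₁.2.1) (hBA.trans h₂.2.1)
      hD1 hD2
  have hmeet : ∀ Q : Subgroup G,
      ¬ (Subgroup.normalizer ((Q₁ ⊓ Q₂ : Subgroup G) : Set G) ⊓ Q ⊓ Subgroup.centralizer {a} ≤ Q₁ ⊓ Q₂) →
      Subgroup.centralizer ({a} : Set G) ⊓ Q ≠ ⊥ := by
    intro Q hn h
    apply hn
    have : Subgroup.normalizer ((Q₁ ⊓ Q₂ : Subgroup G) : Set G) ⊓ Q ⊓ Subgroup.centralizer {a} ≤
        Subgroup.centralizer ({a} : Set G) ⊓ Q := le_inf inf_le_right (inf_le_left.trans inf_le_right)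
    rw [h] at this
    exact this.trans bot_le
  obtain ⟨c, hc, hcQ⟩ := Cfsg.Agent.Helper54.bg_conj_of_centralizer_meet hG A hA q hqA a (hBZ haB) ha1
    Q₁ Q₂ h₁ h₂ (hmeet Q₁ hna₁) (hmeet Q₂ hna₂)
  exact ⟨c, hc, hcQ.symm⟩

end Cfsg.Agent.S1393
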