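import Cfsg.Statements.S0522
import Cfsg.Agent.Lib.Helper54.Transitivity

set_option autoImplicit false
open Cfsg

namespace Cfsg.Agent.S0522

/-- a finite solvable group is `p`-constrained -/
theorem isPConstrained_of_isSolvable {Y : Type*} [Group Y] [Finite Y] [Group.IsSolvable Y] (p : ℕ)
    [Fact p.Prime] : Cfsg.IsPConstrained p Y := by
  have hKn : (Cfsg.pPrimeCore p Y).Normal := Cfsg.Agent.Helper54.pPrimeCore_normal' p
  rw [Cfsg.Agent.Helper54.isPConstrained_iff_isCharP_quotient]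
  exact Cfsg.Agent.Helper54.centralizer_pCore_le p (Cfsg.Agent.Helper54.pPrimeCore_quotient_eq_bot p)

/-- the `p`-elements of `C_X(B)` lie in `B`, when `B ⊴ P` is self-centralizing in the Sylow subgroup `P` -/
theorem mem_of_mem_centralizer {X : Type*} [Group X] [Finite X] (p : ℕ) [Fact p.Prime]
    (P : Sylow p X) (B : Subgroup X) (hBP : B ≤ (P : Subgroup X))
    (hBn : ∀ x ∈ (P : Subgroup X), ∀ b ∈ B, x * b * x⁻¹ ∈ B)
    (hBc : (P : Subgroup X) ⊓ Subgroup.centralizer (B : Set X) = B)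
    (x : X) (hx : x ∈ Subgroup.centralizer (B : Set X)) (hxp : IsPGroup p (Subgroup.zpowers x)) :
    x ∈ B := by
  have hBp : IsPGroup p B := P.2.to_le hBP
  set N := Subgroup.normalizer (B : Set X) with hN
  have hPN : (P : Subgroup X) ≤ N := Cfsg.Agent.Helper54.le_normalizer_of_forall_conj_mem hBn
  have hCN : Subgroup.centralizer (B : Set X) ≤ N := Subgroup.centralizer_le_normalizer _
  have hxN : Subgroup.zpowers x ≤ N := Subgroup.zpowers_le.mpr (hCN hx)
  set M := Subgroup.zpowers x ⊔ B with hM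
  have hMp : IsPGroup p M := IsPGroup.to_sup_of_normal_right' hxp hBp hxN
  have hMN : M ≤ N := sup_le hxN Subgroup.le_normalizer
  have hMC : M ≤ Subgroup.centralizer (B : Set X) := by
    apply sup_le (Subgroup.zpowers_le.mpr hx)
    intro b hb
    rw [Subgroup.mem_centralizer_iff]
    intro b' hb'
    have h1 := (Subgroup.mem_centralizer_iff.mp hx) b' hb'
    have h2 := (Subgroup.mem_centralizer_iff.mp hx) b hb
    -- `b' * b = b * b'` : both lie in `P ⊓ C(B)`
    have hbc : b ∈ Subgroup.centralizer (B : Set X) := by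
      have : b ∈ (P : Subgroup X) ⊓ Subgroup.centralizer (B : Set X) := by rw [hBc]; exact hb
      exact this.2
    exact (Subgroup.mem_centralizer_iff.mp hbc) b' hb'
  -- Sylow's theorem inside `N`
  set P' : Sylow p N := P.subtype hPN with hP'
  have hM'p : IsPGroup p (M.subgroupOf N) := hMp.comap_subtype
  obtain ⟨Q', hQ'⟩ := hM'p.exists_le_sylow
  obtain ⟨n, hn⟩ := MulAction.exists_smul_eq N Q' P'
  -- every element of `M` is conjugated into `P ⊓ C(B) = B` by `n`
  have hxM : x ∈ M := Subgroup.mem_sup_left (Subgroup.mem_zpowers x)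
  have hmem : (⟨x, hMN hxM⟩ : N) ∈ (Q' : Subgroup N) := hQ' (Subgroup.mem_subgroupOf.mpr hxM)
  have h1 : n * ⟨x, hMN hxM⟩ * n⁻¹ ∈ (P' : Subgroup N) := by
    rw [← hn, Sylow.coe_subgroup_smul, Subgroup.mem_pointwise_smul_iff_inv_smul_mem]
    simp only [MulAut.smul_def, MulAut.conj_inv_apply]
    have : n⁻¹ * (n * ⟨x, hMN hxM⟩ * n⁻¹) * n = ⟨x, hMN hxM⟩ := by group
    rw [this]
    exact hmem
  rw [hP', Sylow.coe_subtype, Subgroup.mem_subgroupOf] at h1
  simp only [Subgroup.coe_mul, Subgroup.coe_inv] at h1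
  have hnN : (n : X) ∈ N := n.2
  have h2 : (n : X) * x * (n : X)⁻¹ ∈ Subgroup.centralizer (B : Set X) := by
    rw [Subgroup.mem_centralizer_iff]
    intro b hb
    have hb' : (n : X)⁻¹ * b * (n : X) ∈ B := by
      have := (Subgroup.mem_normalizer_iff.mp (N.inv_mem hnN) b).mp hb
      simpa using this
    have h3 := (Subgroup.mem_centralizer_iff.mp hx) _ hb'
    calc b * ((n : X) * x * (n : X)⁻¹) = (n : X) * (((n : X)⁻¹ * b * (n : X)) * x) * (n : X)⁻¹ := by group
      _ = (n : X) * (x * ((n : X)⁻¹ * b * (n : X))) * (n : X)⁻¹ := by rw [h3]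
      _ = (n : X) * x * (n : X)⁻¹ * b := by group
  have h4 : (n : X) * x * (n : X)⁻¹ ∈ B := by
    rw [← hBc]; exact ⟨h1, h2⟩
  have h5 := (Subgroup.mem_normalizer_iff.mp (N.inv_mem hnN) _).mp h4
  have h6 : (n : X)⁻¹ * ((n : X) * x * (n : X)⁻¹) * (n : X)⁻¹⁻¹ = x := by group
  rwa [h6] at h5

/-- Transitivity Theorem (odd-order setting). Let X be a finite group of odd order in which the normalizer of every
nontrivial p-subgroup is solvable, P a Sylow p-subgroup, and B an abelian subgroup of P, normalized by P, with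
C_P(B) = B and containing an elementary abelian subgroup of order p^3. Then for every prime q ≠ p, any two q-subgroups
that are maximal among the q-subgroups normalized by B are conjugate by an element of the centralizer of B. -/
theorem result {X : Type*} [Group X] [Finite X] (hX : Odd (Nat.card X)) (p : ℕ)
    [Fact p.Prime] (hloc : ∀ T : Subgroup X, IsPGroup p T → T ≠ ⊥ → Group.IsSolvable (Subgroup.normalizer (T : Set X)))
    (P : Sylow p X) (B : Subgroup X) (hBP : B ≤ (P : Subgroup X))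
    (hBn : ∀ x ∈ (P : Subgroup X), ∀ b ∈ B, x * b * x⁻¹ ∈ B) (hBa : IsMulCommutative B)
    (hBc : (P : Subgroup X) ⊓ Subgroup.centralizer (B : Set X) = B)
    (hB3 : ∃ E : Subgroup X, E ≤ B ∧ (∀ e ∈ E, e ^ p = 1) ∧ p ^ 3 ≤ Nat.card E)
    (q : ℕ) [Fact q.Prime] (hqp : q ≠ p) (Q₁ Q₂ : Subgroup X)
    (h₁ : IsPGroup q Q₁ ∧ B ≤ Subgroup.normalizer (Q₁ : Set X) ∧
      ∀ R : Subgroup X, IsPGroup q R → B ≤ Subgroup.normalizer (R : Set X) → Q₁ ≤ R → R = Q₁)
    (h₂ : IsPGroup q Q₂ ∧ B ≤ Subgroup.normalizer (Q₂ : Set X) ∧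
      ∀ R : Subgroup X, IsPGroup q R → B ≤ Subgroup.normalizer (R : Set X) → Q₂ ≤ R → R = Q₂) :
    ∃ c ∈ Subgroup.centralizer (B : Set X), Q₂ = Q₁.map (MulAut.conj c).toMonoidHom := by
  classical
  have hpp : p.Prime := Fact.out
  obtain ⟨A, hAB, hAe, hA3⟩ := hB3
  have hBp : IsPGroup p B := P.2.to_le hBP
  have hBc' : B ≤ Subgroup.centralizer (B : Set X) := by
    intro x hx
    rw [Subgroup.mem_centralizer_iff]
    intro y hy
    have := hBa.is_comm.comm ⟨y, hy⟩ ⟨x, hx⟩
    exact congrArg Subtype.val this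
  have hA : Cfsg.IsElementaryAbelian p A := by
    refine ⟨⟨⟨fun x y => ?_⟩⟩, hAe⟩
    apply Subtype.ext
    have := Subgroup.mem_centralizer_iff.mp (hBc' (hAB y.2)) x.1 (hAB x.2)
    simp only [Subgroup.coe_mul]
    exact this
  have hp2 : p ≠ 2 := by
    intro hp2
    -- `A` is a nontrivial `2`-group in a group of odd order
    have hAp : IsPGroup p A := hBp.to_le hAB
    obtain ⟨k, hk⟩ := IsPGroup.iff_card.mp hAp
    have hk0 : k ≠ 0 := by
      rintro rfl
      rw [hk, pow_zero] at hA3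
      have : 1 < p ^ 3 := Nat.one_lt_pow (by norm_num) hpp.one_lt
      omega
    have h2 : 2 ∣ Nat.card A := by
      rw [hk, hp2]; exact dvd_pow_self 2 hk0
    have h3 : 2 ∣ Nat.card X := h2.trans (Subgroup.card_subgroup_dvd_card A)
    exact (Nat.not_even_iff_odd.mpr hX) (even_iff_two_dvd.mpr h3)
  have hfull : ∀ x ∈ Subgroup.centralizer (B : Set X), IsPGroup p (Subgroup.zpowers x) → x ∈ B :=
    fun x hx hxp => mem_of_mem_centralizer p P B hBP hBn hBc x hx hxp
  have hloc' : ∀ a ∈ A, a ≠ 1 → Cfsg.IsPConstrained p ↥(Subgroup.centralizer ({a} : Set X)) := by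
    intro a haA ha1
    have hza : IsPGroup p (Subgroup.zpowers a) := hBp.to_le (Subgroup.zpowers_le.mpr (hAB haA))
    have hs : Group.IsSolvable ↥(Subgroup.normalizer ((Subgroup.zpowers a : Subgroup X) : Set X)) :=
      hloc _ hza (Subgroup.zpowers_ne_bot.mpr ha1)
    apply Cfsg.Agent.Helper54.isPConstrained_centralizer_singleton a hza
    exact isPConstrained_of_isSolvable p
  obtain ⟨c, hc, hcQ⟩ := Cfsg.Agent.Helper54.transitivity_of_isPConstrained p B A
    (Subgroup.centralizer (B : Set X)) hBp hBc' hfull hAB hA hA3 le_rfl (fun Y hY _ => hY)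
    (Or.inl hp2) hloc' q hqp Q₁ Q₂ h₁ h₂
  exact ⟨c, hc, hcQ.symm⟩

end Cfsg.Agent.S0522
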