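import Cfsg.Statements.S1396
import Cfsg.Agent.Lib.Helper54.BGTransitivity
import Cfsg.Agent.S0522

set_option autoImplicit false
open Cfsg

namespace Cfsg.Agent.S1396

/-- Let G be a minimal simple group of odd order, p a prime dividing the order of G and A an abelian p-subgroup. Suppose either (1) A consists exactly of the elements x of C_G(A) with x^p = 1, and every proper subgroup of G has p-length at most one, or (2) A is normal and self-centralizing in some Sylow p-subgroup of G and has rank at least 2. Then A satisfies the transitivity hypothesis. -/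
theorem result {G : Type*} [Group G] [Finite G] (hG : Cfsg.IsMinSimpleOddOrder G)
    (p : ℕ) [Fact p.Prime] (hp : p ∣ Nat.card G) (A : Subgroup G) (hAp : IsPGroup p A) (hAc : IsMulCommutative A)
    (h : (∀ x ∈ Subgroup.centralizer (A : Set G), x ^ p = 1 ↔ x ∈ A) ∧ (∀ H : Subgroup G, H ≠ ⊤ → Cfsg.PLengthLE p 1 H) ∨
      ∃ P : Sylow p G, Cfsg.IsSCN (P : Subgroup G) A ∧ ¬ Cfsg.PRankLE p 1 A) :
    Cfsg.TransitivityHypothesis A := by
  classical
  have hpp : p.Prime := Fact.out
  obtain ⟨hodd, hsimple, hnc, hsolv⟩ := hG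
  have hp2 : p ≠ 2 := by
    rintro rfl
    exact (Nat.not_even_iff_odd.mpr hodd) (even_iff_two_dvd.mpr hp)
  have hAc' : A ≤ Subgroup.centralizer (A : Set G) := by
    intro x hx
    rw [Subgroup.mem_centralizer_iff]
    intro y hy
    have := hAc.is_comm.comm ⟨y, hy⟩ ⟨x, hx⟩
    exact congrArg Subtype.val this
  -- elements of order `p` centralizing `A` lie in `A`
  have hΩ : ∀ x ∈ Subgroup.centralizer (A : Set G), orderOf x = p → x ∈ A := by
    intro x hx hord
    rcases h with ⟨h1, _⟩ | ⟨P, hP, _⟩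
    · exact (h1 x hx).mp (by rw [← hord]; exact pow_orderOf_eq_one x)
    · apply Cfsg.Agent.S0522.mem_of_mem_centralizer p P A hP.1 ?_ hP.2.2 x hx
      · apply IsPGroup.of_card (n := 1)
        rw [Nat.card_zpowers, hord, pow_one]
      · intro y hy b hb
        exact (Subgroup.mem_normalizer_iff.mp (hP.2.1 hy) b).mp hb
  have hA0 : A ≠ ⊥ := by
    rintro rfl
    rcases h with ⟨h1, _⟩ | ⟨P, _, hr⟩
    · obtain ⟨g, hg⟩ := exists_prime_orderOf_dvd_card' (G := G) p hp
      have hgc : g ∈ Subgroup.centralizer (((⊥ : Subgroup G) : Subgroup G) : Set G) := by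
        rw [Subgroup.mem_centralizer_iff]
        intro y hy
        rw [SetLike.mem_coe, Subgroup.mem_bot] at hy
        rw [hy]; simp
      have := (h1 g hgc).mp (by rw [← hg]; exact pow_orderOf_eq_one g)
      rw [Subgroup.mem_bot] at this
      rw [this, orderOf_one] at hg
      exact hpp.one_lt.ne hg
    · apply hr
      intro B _ _
      have : Subsingleton ↥(⊥ : Subgroup G) := inferInstance
      have h1 : Nat.card ↥B ≤ 1 := by
        rw [Nat.card_eq_one_iff_unique.mpr ⟨inferInstance, ⟨1⟩⟩]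
      exact h1.trans (Nat.one_le_pow _ _ hpp.pos)
  have hAtop : A ≠ ⊤ := by
    rintro rfl
    apply hnc
    refine ⟨⟨fun x y => ?_⟩⟩
    have := hAc.is_comm.comm ⟨x, Subgroup.mem_top x⟩ ⟨y, Subgroup.mem_top y⟩
    exact congrArg Subtype.val this
  have hpA : p ∣ Nat.card A := by
    obtain ⟨j, hj⟩ := IsPGroup.iff_card.mp hAp
    have hj0 : j ≠ 0 := by
      rintro rfl
      rw [pow_zero] at hj
      exact hA0 (Subgroup.card_eq_one.mp hj)
    rw [hj]; exact dvd_pow_self p hj0
  refine ⟨hA0, hAtop, fun X hX hAX => ?_⟩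
  set π' := Cfsg.primesNotDvd (Nat.card A) with hπ'
  have hXsolv : Group.IsSolvable X := hsolv X hX
  have hXc : Cfsg.IsPConstrained p ↥X := Cfsg.Agent.S0522.isPConstrained_of_isSolvable p
  apply le_antisymm
  · apply sSup_le
    rintro Y ⟨hYX, hYpi, hAY⟩
    have hYc : (Nat.card Y).Coprime p := by
      rw [Nat.coprime_comm, Nat.Prime.coprime_iff_not_dvd hpp]
      intro hpY
      exact (hYpi p hpp hpY).2 hpA
    have h1 := Cfsg.Agent.Helper54.le_map_pPrimeCore_of_le p hp2 A X hAX hAp hAc' hΩ hXc Y hYX hYc hAY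
    refine h1.trans (Subgroup.map_mono ?_)
    apply Cfsg.Agent.Helper62.le_piCore π' (Cfsg.Agent.Helper54.pPrimeCore_normal' p)
    intro r hr hrd
    refine ⟨hr, fun hrA => ?_⟩
    obtain ⟨j, hj⟩ := IsPGroup.iff_card.mp hAp
    rw [hj] at hrA
    have hrp : r = p := (Nat.prime_dvd_prime_iff_eq hr hpp).mp (hr.dvd_of_dvd_pow hrA)
    subst hrp
    have hc : (Nat.card (Cfsg.pPrimeCore r ↥X)).Coprime r := Cfsg.Agent.Helper54.pPrimeCore_coprime r
    have : r ∣ Nat.gcd (Nat.card (Cfsg.pPrimeCore r ↥X)) r := Nat.dvd_gcd hrd dvd_rfl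
    rw [hc] at this
    exact hr.one_lt.ne' (Nat.dvd_one.mp this)
  · apply le_sSup
    exact ⟨Cfsg.Agent.Helper54.piCoreOf_le π' X, Cfsg.Agent.Helper54.isPi_piCoreOf π' X,
      hAX.trans (Cfsg.Agent.Helper54.le_normalizer_piCoreOf π' X)⟩

end Cfsg.Agent.S1396
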