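import Cfsg.Statements.S0058
import Mathlib
import Cfsg.Agent.Lib.Helper24.NonCyclic
import Cfsg.Agent.Lib.Helper48.CoprimeGen

set_option autoImplicit false
open Cfsg

namespace Cfsg.Agent.S0058

/-- Generation by centralisers: when a noncyclic abelian group A normalises K with coprime orders, K is generated by the fixed-point subgroups of the nonidentity elements of A. -/
theorem result {G : Type*} [Group G] [Finite G] (A K : Subgroup G)
    [IsMulCommutative A] (hA : ¬ IsCyclic A) (hAK : A ≤ Subgroup.normalizer (K : Set G)) (hcop : (Nat.card A).Coprime (Nat.card K)) :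
    (⨆ a ∈ {a : G | a ∈ A ∧ a ≠ 1}, K ⊓ Subgroup.centralizer {a}) = K := by
  apply le_antisymm
  · exact iSup₂_le fun _ _ => inf_le_left
  · obtain ⟨p, B, hp, hBA, hBp, hBcard⟩ :=
      Cfsg.Agent.Helper24.exists_elementary_abelian_le_of_not_isCyclic A hA
    haveI : Fact p.Prime := ⟨hp⟩
    have hBc : ∀ x ∈ B, ∀ y ∈ B, x * y = y * x := by
      intro x hx y hy
      have := (inferInstance : IsMulCommutative A).is_comm.comm ⟨x, hBA hx⟩ ⟨y, hBA hy⟩
      exact congrArg Subtype.val this
    have hpB : p ∣ Nat.card B := by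
      have : p ∣ p ^ 2 := dvd_pow_self p (by norm_num)
      -- B is a p-group of order ≥ p^2
      have hpg : IsPGroup p B := by
        intro x
        exact ⟨1, Subtype.ext (by simpa using hBp x x.2)⟩
      obtain ⟨k, hk⟩ := IsPGroup.iff_card.mp hpg
      rw [hk]
      rw [hk] at hBcard
      have hk0 : k ≠ 0 := by
        rintro rfl
        rw [pow_zero] at hBcard
        have : 1 < p ^ 2 := Nat.one_lt_pow (by norm_num) hp.one_lt
        omega
      exact dvd_pow_self p hk0
    have hpA : p ∣ Nat.card A := hpB.trans (Subgroup.card_dvd_of_le hBA)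
    have hKp : (Nat.card K).Coprime p :=
      (Nat.Coprime.coprime_dvd_left hpA hcop).symm
    refine Cfsg.Agent.Helper48.le_of_forall_inf_centralizer_le B K _ hBc hBp hBcard
      (hBA.trans hAK) hKp ?_
    intro c hcB hc1
    exact le_iSup₂ (f := fun a (_ : a ∈ {a : G | a ∈ A ∧ a ≠ 1}) => K ⊓ Subgroup.centralizer {a})
      c ⟨hBA hcB, hc1⟩

end Cfsg.Agent.S0058
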