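import Cfsg.Statements.S0652
import Cfsg.Agent.Lib.Helper11.Replacement6

set_option autoImplicit false
open Cfsg

namespace Cfsg.Agent.S0652

open Cfsg.Agent.Helper11.Repl

theorem isElementaryAbelian_map_subtype {S : Type*} [Group S] {p : ℕ} (D : Subgroup S)
    (A' : Subgroup ↥D) : Cfsg.IsElementaryAbelian p (A'.map D.subtype) ↔ Cfsg.IsElementaryAbelian p A' := by
  constructor
  · rintro ⟨hc, hp⟩
    refine ⟨⟨⟨fun x y => ?_⟩⟩, fun a ha => ?_⟩
    · have h1 : (x : ↥D).1 ∈ A'.map D.subtype := ⟨x, x.2, rfl⟩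
      have h2 : (y : ↥D).1 ∈ A'.map D.subtype := ⟨y, y.2, rfl⟩
      have := ((isMulCommutative_iff_forall _).mp hc) _ h1 _ h2
      apply Subtype.ext
      apply Subtype.ext
      exact this
    · have h1 : (a : S) ∈ A'.map D.subtype := ⟨a, ha, rfl⟩
      have := hp _ h1
      apply Subtype.ext
      rw [Subgroup.coe_pow]
      exact this
  · rintro ⟨hc, hp⟩
    refine ⟨?_, ?_⟩
    · haveI := hc
      infer_instance
    · rintro _ ⟨a, ha, rfl⟩
      have := hp a ha
      have h2 := congrArg Subtype.val this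
      rw [Subgroup.coe_pow] at h2
      exact h2

/-- Membership in the family of images of largest elementary abelian subgroups of `D`. -/
theorem mem_image_maxElemAb_iff {S : Type*} [Group S] [Finite S] {p : ℕ} (D X : Subgroup S) :
    X ∈ Set.image (fun A : Subgroup ↥D => A.map D.subtype) (Cfsg.maxElementaryAbelianSubgroups p ↥D) ↔
      X ≤ D ∧ Cfsg.IsElementaryAbelian p X ∧
        ∀ Y : Subgroup S, Y ≤ D → Cfsg.IsElementaryAbelian p Y → Nat.card Y ≤ Nat.card X := by
  constructor
  · rintro ⟨A', ⟨hA'c, hA'max⟩, rfl⟩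
    refine ⟨Subgroup.map_subtype_le A', (isElementaryAbelian_map_subtype D A').mpr hA'c, ?_⟩
    intro Y hYD hYc
    have hYeq : (Y.subgroupOf D).map D.subtype = Y := Subgroup.map_subgroupOf_eq_of_le hYD
    have h1 : Cfsg.IsElementaryAbelian p (Y.subgroupOf D) := by
      rw [← isElementaryAbelian_map_subtype, hYeq]; exact hYc
    have h2 := hA'max (Y.subgroupOf D) h1
    have h3 : Nat.card (Y.subgroupOf D) = Nat.card Y :=
      Nat.card_congr (Subgroup.subgroupOfEquivOfLe hYD).toEquiv
    have h4 : Nat.card (A'.map D.subtype) = Nat.card A' :=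
      Subgroup.card_map_of_injective D.subtype_injective
    rw [h4, ← h3]; exact h2
  · rintro ⟨hXD, hXc, hXmax⟩
    have hXeq : (X.subgroupOf D).map D.subtype = X := Subgroup.map_subgroupOf_eq_of_le hXD
    refine ⟨X.subgroupOf D, ⟨?_, ?_⟩, hXeq⟩
    · rw [← isElementaryAbelian_map_subtype, hXeq]; exact hXc
    · intro B' hB'c
      have h1 : Cfsg.IsElementaryAbelian p (B'.map D.subtype) :=
        (isElementaryAbelian_map_subtype D B').mpr hB'c
      have h2 := hXmax (B'.map D.subtype) (Subgroup.map_subtype_le B') h1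
      have h3 : Nat.card (X.subgroupOf D) = Nat.card X :=
        Nat.card_congr (Subgroup.subgroupOfEquivOfLe hXD).toEquiv
      have h4 : Nat.card (B'.map D.subtype) = Nat.card B' :=
        Subgroup.card_map_of_injective D.subtype_injective
      rw [h3, ← h4]; exact h2

/-- For odd p and D normal in the p-group S, the elementary abelian subgroups of D of largest order satisfy the replacement property for class-2 normal subgroups of S. -/
theorem result {S : Type*} [Group S] [Finite S] {p : ℕ} [Fact p.Prime] (hS : IsPGroup p S) (hp : p ≠ 2) (D : Subgroup S) [D.Normal] : ∀ (B : Subgroup S) [B.Normal], ⁅⁅B, B⁆, B⁆ = ⊥ → (∃ U ∈ (Set.image (fun A : Subgroup ↥D => A.map D.subtype) (Cfsg.maxElementaryAbelianSubgroups p ↥D)), ⁅B, B⁆ ≤ U ∧ ¬ B ≤ U) → ∃ A ∈ (Set.image (fun A : Subgroup ↥D => A.map D.subtype) (Cfsg.maxElementaryAbelianSubgroups p ↥D)), ⁅B, B⁆ ≤ A ∧ ¬ B ≤ A ∧ B ≤ Subgroup.normalizer (A : Set S) := by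
  intro B _ _ hex
  obtain ⟨U, hU, hBU, hnU⟩ := hex
  have hB2 : p = 2 → IsMulCommutative B := fun h => absurd h hp
  apply exists_normalized_member hS hp B _ _ _ U hU hBU hnU
  · intro A hA
    exact ((mem_image_maxElemAb_iff D A).mp hA).2.1.1
  · intro A hA hBA b hb hbN hbA
    obtain ⟨hAD, hAc, hAmax⟩ := (mem_image_maxElemAb_iff D A).mp hA
    have hnot : ¬ B ≤ Subgroup.normalizer (A : Set S) := by
      intro h
      exact hbA (h hb)
    have hres := Cfsg.Agent.S0650.result hS B hB2 A hAc.1 hBA hnot b hb hbN hbA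
    obtain ⟨h1, h2, _⟩ := hres
    rw [mem_image_maxElemAb_iff]
    refine ⟨Astar_le_of_normal hAD b, ⟨h2, ?_⟩, ?_⟩
    · intro x hx
      have hx' : x ∈ Astar A b := hx
      have hexp := Astar_pow_exponent hS hB2 hAc.1 hBA hb hbN hp hx'
      have hdvd : Monoid.exponent A ∣ p := by
        apply Monoid.exponent_dvd_of_forall_pow_eq_one
        intro g
        apply Subtype.ext
        rw [Subgroup.coe_pow]
        exact hAc.2 g.1 g.2
      obtain ⟨k, hk⟩ := hdvd
      rw [hk, pow_mul, hexp, one_pow]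
    · intro Y hYD hYc
      have h1' : Nat.card (Astar A b) = Nat.card A := h1
      rw [h1']
      exact hAmax Y hYD hYc

end Cfsg.Agent.S0652
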