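import Cfsg.Statements.S0655
import Cfsg.Agent.Lib.Helper11.ElemAb

set_option autoImplicit false
open Cfsg

namespace Cfsg.Agent.S0655

/-- In a p-group the intersection of all elementary abelian subgroups of largest order is the subgroup generated by the elements of order dividing p in the centre (equivalently the centralizer) of the elementary-version Thompson subgroup. -/
theorem result {S : Type*} [Group S] [Finite S] {p : ℕ} [Fact p.Prime] (hS : IsPGroup p S) : sInf (Cfsg.maxElementaryAbelianSubgroups p S) = Cfsg.omegaCenterThompson p S ∧ Cfsg.omegaCenterThompson p S = Cfsg.omegaOne p (Subgroup.centralizer (Cfsg.thompsonSubgroup p S : Set S)) := by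
  obtain ⟨A₀, hA₀⟩ := Cfsg.Agent.Helper11.maxElementaryAbelianSubgroups_nonempty p S
  have h1 : sInf (Cfsg.maxElementaryAbelianSubgroups p S) ≤ Cfsg.omegaCenterThompson p S := by
    intro x hx
    rw [Subgroup.mem_sInf] at hx
    unfold Cfsg.omegaCenterThompson Cfsg.omegaOne
    apply Subgroup.subset_closure
    refine ⟨Subgroup.mem_inf.mpr ⟨?_, ?_⟩, ?_⟩
    · unfold Cfsg.thompsonSubgroup
      exact (le_sSup hA₀) (hx A₀ hA₀)
    · -- x commutes with every member, hence with the join
      have : Cfsg.thompsonSubgroup p S ≤ Subgroup.centralizer ({x} : Set S) := by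
        unfold Cfsg.thompsonSubgroup
        apply sSup_le
        intro A hA a ha
        rw [Subgroup.mem_centralizer_iff]
        intro y hy
        rw [Set.mem_singleton_iff] at hy
        subst hy
        have := hA.1.1.is_comm.comm (⟨y, hx A hA⟩ : A) ⟨a, ha⟩
        exact congrArg Subtype.val this
      rw [Subgroup.mem_centralizer_iff]
      intro y hy
      have := this hy
      rw [Subgroup.mem_centralizer_iff] at this
      exact (this x rfl).symm
    · exact hA₀.1.2 x (hx A₀ hA₀)
  have h2 : Cfsg.omegaCenterThompson p S ≤ Cfsg.omegaOne p (Subgroup.centralizer (Cfsg.thompsonSubgroup p S : Set S)) := by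
    unfold Cfsg.omegaCenterThompson Cfsg.omegaOne
    apply Subgroup.closure_mono
    rintro x ⟨hx, hxp⟩
    exact ⟨(Subgroup.mem_inf.mp hx).2, hxp⟩
  have h3 : Cfsg.omegaOne p (Subgroup.centralizer (Cfsg.thompsonSubgroup p S : Set S)) ≤ sInf (Cfsg.maxElementaryAbelianSubgroups p S) := by
    unfold Cfsg.omegaOne
    rw [Subgroup.closure_le]
    rintro x ⟨hx, hxp⟩
    rw [SetLike.mem_coe, Subgroup.mem_sInf]
    intro A hA
    apply Cfsg.Agent.Helper11.mem_of_mem_maxElementaryAbelianSubgroups hA _ hxp
    intro a ha
    rw [Subgroup.mem_centralizer_iff] at hx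
    have haJ : a ∈ Cfsg.thompsonSubgroup p S := by
      unfold Cfsg.thompsonSubgroup
      exact (le_sSup hA) ha
    exact hx a haJ
  exact ⟨le_antisymm h1 (h2.trans h3), le_antisymm h2 (h3.trans h1)⟩

end Cfsg.Agent.S0655
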