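import Cfsg.Statements.S1965
import Cfsg.Agent.Lib.Helper33.Fusion

set_option autoImplicit false
open Cfsg Cfsg.Agent.Helper33 Pointwise

namespace Cfsg.Agent.S1965

/-- Let p be a prime, G a finite group with Sylow p-subgroup S and 𝓕 a set of subgroups of S. Suppose that every subgroup T of S is G-conjugate to some member U of 𝓕 for which N_S(U) is a Sylow p-subgroup of N_G(U). Then 𝓕 is a conjugation family for S in G. -/
theorem result {G : Type*} [Group G] [Finite G] {p : ℕ} [Fact p.Prime] (S : Sylow p G) (𝓕 : Set (Subgroup G)) (h𝓕 : ∀ U ∈ 𝓕, U ≤ (S : Subgroup G)) (h : ∀ T : Subgroup G, T ≤ (S : Subgroup G) → ∃ U ∈ 𝓕, (∃ g : G, T.map (MulAut.conj g).toMonoidHom = U) ∧ ¬ p ∣ ((S : Subgroup G) ⊓ Subgroup.normalizer ((U : Subgroup G) : Set G)).relIndex (Subgroup.normalizer ((U : Subgroup G) : Set G))) : Cfsg.IsConjugationFamily 𝓕 (S : Subgroup G) := by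
  refine ⟨h𝓕, fun A g _ hAS hAg => ?_⟩
  have h' : ∀ T : Subgroup G, T ≤ (S : Subgroup G) → ∃ U ∈ 𝓕, (∃ g : G, MulAut.conj g • T = U) ∧
      IsSylIn p ((S : Subgroup G) ⊓ Subgroup.normalizer (U : Set G))
        (Subgroup.normalizer (U : Set G)) := by
    intro T hT
    obtain ⟨U, hU, hconj, hnd⟩ := h T hT
    exact ⟨U, hU, hconj, inf_le_right, S.isPGroup'.to_le inf_le_left, hnd⟩
  have hA' : Subgroup.closure A ≤ (S : Subgroup G) := (Subgroup.closure_le _).mpr hAS
  have hg' : MulAut.conj g⁻¹ • Subgroup.closure A ≤ (S : Subgroup G) := by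
    rw [← map_conj_eq_smul, MonoidHom.map_closure, Subgroup.closure_le]
    rintro _ ⟨a, ha, rfl⟩
    have := hAg ⟨a, ha, rfl⟩
    simpa using this
  have hr := reach_of_criterion S 𝓕 h𝓕 h' (Subgroup.closure A) hA' g hg'
  exact (hr.mono Subgroup.subset_closure).explicit

end Cfsg.Agent.S1965
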