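import Cfsg.Statements.S0648
import Mathlib

set_option autoImplicit false
open Cfsg
open scoped commutatorElement

namespace Cfsg.Agent.S0648

theorem keyE {G : Type*} [Group G] (b u v p c : G)
    (hH : (b*v)*(u*p)*(b*v)⁻¹*(u*p)⁻¹ = b*u*b⁻¹*u⁻¹)
    (hpv : p * v = v * p)
    (hc : c = u⁻¹ * v⁻¹ * u * v)
    (hcb : c * b = b * c) (hcu : c * u = u * c) (hcv : c * v = v * c)
    (hβu : (b*p*b⁻¹*p⁻¹) * u = u * (b*p*b⁻¹*p⁻¹)) :
    b*p*b⁻¹*p⁻¹ = c := by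
  have hcb' : Commute c b := hcb
  have hcu' : Commute c u := hcu
  have h1 : c = v * u⁻¹ * v⁻¹ * u := by
    have : c = v * c * v⁻¹ := by
      rw [← hcv]; group
    rw [this, hc]; group
  have hvu : v * u * v⁻¹ = u * c⁻¹ := by
    rw [h1]; group
  have hvp : v * p * v⁻¹ = p := by
    rw [← hpv]; group
  have hcinv_b : c⁻¹ * b = b * c⁻¹ := hcb'.inv_left.eq
  have hcinv_u : c⁻¹ * u = u * c⁻¹ := hcu'.inv_left.eq
  set β := b*p*b⁻¹*p⁻¹ with hβ
  set w := b*u*b⁻¹*u⁻¹ with hw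
  have hβu' : β * u⁻¹ = u⁻¹ * β := (show Commute β u from hβu).inv_right.eq
  have key : (b*v)*(u*p)*(b*v)⁻¹*(u*p)⁻¹ = c⁻¹ * (w * β) := by
    calc (b*v)*(u*p)*(b*v)⁻¹*(u*p)⁻¹
        = b * (v * u * v⁻¹) * (v * p * v⁻¹) * b⁻¹ * p⁻¹ * u⁻¹ := by group
      _ = b * (u * c⁻¹) * p * b⁻¹ * p⁻¹ * u⁻¹ := by rw [hvu, hvp]
      _ = b * (c⁻¹ * u) * p * b⁻¹ * p⁻¹ * u⁻¹ := by rw [hcinv_u]
      _ = (b * c⁻¹) * u * p * b⁻¹ * p⁻¹ * u⁻¹ := by group
      _ = (c⁻¹ * b) * u * p * b⁻¹ * p⁻¹ * u⁻¹ := by rw [hcinv_b]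
      _ = c⁻¹ * (b * u * b⁻¹) * (β * u⁻¹) := by rw [hβ]; group
      _ = c⁻¹ * (b * u * b⁻¹) * (u⁻¹ * β) := by rw [hβu']
      _ = c⁻¹ * (w * β) := by rw [hw]; group
  rw [key] at hH
  have hcw : c * w = w * c :=
    (((hcb'.mul_right hcu').mul_right hcb'.inv_right).mul_right hcu'.inv_right).eq
  calc β = w⁻¹ * c * (c⁻¹ * (w * β)) := by group
    _ = w⁻¹ * c * w := by rw [hH]
    _ = w⁻¹ * (c * w) := by group
    _ = w⁻¹ * (w * c) := by rw [hcw]
    _ = c := by group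

/-- If A acts on B centralizing [B, B], then [B, A] has derived subgroup central in B, and for abelian A and b ∈ B with [[b, A], A, A] = 1 the derived subgroup of the subgroup [b, A] generated by the commutators of b with A has exponent dividing 2. -/
theorem result {G : Type*} [Group G] [Finite G] (A B : Subgroup G) (hAB : A ≤ Subgroup.normalizer (B : Set G)) (hc : ⁅⁅B, B⁆, A⁆ = ⊥) : ⁅⁅B, A⁆, ⁅B, A⁆⁆ ≤ B ⊓ Subgroup.centralizer (B : Set G) ∧ (IsMulCommutative A → ∀ b ∈ B, ⁅⁅(Subgroup.closure {g : G | ∃ a ∈ A, g = b⁻¹ * a * b * a⁻¹}), A⁆, A⁆ = ⊥ → ∀ w ∈ ⁅(Subgroup.closure {g : G | ∃ a ∈ A, g = b⁻¹ * a * b * a⁻¹}), (Subgroup.closure {g : G | ∃ a ∈ A, g = b⁻¹ * a * b * a⁻¹})⁆, w ^ 2 = 1) := by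
  have hconj : ∀ a ∈ A, ∀ x ∈ B, a * x * a⁻¹ ∈ B := by
    intro a ha x hx
    have := hAB ha
    rw [Subgroup.mem_normalizer_iff] at this
    exact (this x).mp hx
  have hCB : ⁅B, A⁆ ≤ B := by
    rw [Subgroup.commutator_le]
    intro x hx a ha
    rw [commutatorElement_def]
    have h1 : a * x⁻¹ * a⁻¹ ∈ B := hconj a ha _ (B.inv_mem hx)
    have : x * a * x⁻¹ * a⁻¹ = x * (a * x⁻¹ * a⁻¹) := by group
    rw [this]
    exact B.mul_mem hx h1
  have hB'B : ⁅B, B⁆ ≤ B := by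
    rw [Subgroup.commutator_le]
    intro x hx y hy
    exact B.mul_mem (B.mul_mem (B.mul_mem hx hy) (B.inv_mem hx)) (B.inv_mem hy)
  have h1 : ⁅⁅B, A⁆, ⁅B, B⁆⁆ = ⊥ := by
    apply Subgroup.commutator_commutator_eq_bot_of_rotate
    · rw [Subgroup.commutator_comm A ⁅B, B⁆, hc, Subgroup.commutator_bot_left]
    · rw [eq_bot_iff, ← hc]
      exact Subgroup.commutator_mono (Subgroup.commutator_mono hB'B le_rfl) le_rfl
  set C := ⁅B, A⁆ with hC
  have h2 : ⁅⁅C, C⁆, B⁆ = ⊥ := by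
    apply Subgroup.commutator_commutator_eq_bot_of_rotate
    · rw [eq_bot_iff, ← h1, Subgroup.commutator_comm C ⁅B, B⁆]
      exact Subgroup.commutator_mono (Subgroup.commutator_mono hCB le_rfl) le_rfl
    · rw [eq_bot_iff, ← h1, Subgroup.commutator_comm C ⁅B, B⁆]
      exact Subgroup.commutator_mono (Subgroup.commutator_mono le_rfl hCB) le_rfl
  have hC'C : ⁅C, C⁆ ≤ C := by
    rw [Subgroup.commutator_le]
    intro x hx y hy
    exact C.mul_mem (C.mul_mem (C.mul_mem hx hy) (C.inv_mem hx)) (C.inv_mem hy)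
  refine ⟨le_inf (hC'C.trans hCB) (Subgroup.commutator_eq_bot_iff_le_centralizer.mp h2), ?_⟩
  intro hAab b hb hX
  set S : Set G := {g : G | ∃ a ∈ A, g = b⁻¹ * a * b * a⁻¹} with hS
  set X := Subgroup.closure S with hXdef
  -- element-level facts
  have fixB' : ∀ x ∈ ⁅B, B⁆, ∀ a ∈ A, a * x * a⁻¹ = x := by
    intro x hx a ha
    have : ⁅x, a⁆ ∈ ⁅⁅B, B⁆, A⁆ := Subgroup.commutator_mem_commutator hx ha
    rw [hc, Subgroup.mem_bot, commutatorElement_def] at this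
    have h3 : a * x * a⁻¹ = (x * a * x⁻¹ * a⁻¹)⁻¹ * x := by group
    rw [h3, this, inv_one, one_mul]
  have commCB' : ∀ y ∈ C, ∀ x ∈ ⁅B, B⁆, Commute x y := by
    intro y hy x hx
    have : ⁅y, x⁆ ∈ ⁅C, ⁅B, B⁆⁆ := Subgroup.commutator_mem_commutator hy hx
    rw [h1, Subgroup.mem_bot, commutatorElement_eq_one_iff_mul_comm] at this
    exact this.symm
  have centC' : ∀ z ∈ ⁅C, C⁆, ∀ x ∈ B, Commute z x := by
    intro z hz x hx
    have : ⁅z, x⁆ ∈ ⁅⁅C, C⁆, B⁆ := Subgroup.commutator_mem_commutator hz hx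
    rw [h2, Subgroup.mem_bot, commutatorElement_eq_one_iff_mul_comm] at this
    exact this
  have hgen_comm : ∀ a : G, b⁻¹ * a * b * a⁻¹ = ⁅b⁻¹, a⁆ := by
    intro a
    rw [commutatorElement_def, inv_inv]
  have hXC : X ≤ C := by
    rw [hXdef, Subgroup.closure_le]
    rintro g ⟨a, ha, rfl⟩
    rw [hgen_comm]
    exact Subgroup.commutator_mem_commutator (B.inv_mem hb) ha
  have hXB : X ≤ B := hXC.trans hCB
  set Pi := ⁅X, A⁆ with hPi
  have hPiB : Pi ≤ B := (Subgroup.commutator_mono hXB le_rfl).trans hCB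
  have hXcomm : X ≤ ⁅A, Subgroup.zpowers b⁆ := by
    rw [hXdef, Subgroup.closure_le]
    rintro g ⟨a, ha, rfl⟩
    rw [hgen_comm, Subgroup.commutator_comm]
    exact Subgroup.commutator_mem_commutator
      (Subgroup.inv_mem _ (Subgroup.mem_zpowers b)) ha
  have hzb : Subgroup.zpowers b ≤ B := by
    rw [Subgroup.zpowers_le]; exact hb
  have h3 : ⁅⁅A, Subgroup.zpowers b⁆, Pi⁆ = ⊥ := by
    apply Subgroup.commutator_commutator_eq_bot_of_rotate
    · rw [eq_bot_iff, ← hc]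
      exact Subgroup.commutator_mono (Subgroup.commutator_mono hzb hPiB) le_rfl
    · rw [hX, Subgroup.commutator_bot_left]
  have commXPi : ∀ x ∈ X, ∀ π ∈ Pi, Commute π x := by
    intro x hx π hπ
    have : ⁅x, π⁆ ∈ ⁅⁅A, Subgroup.zpowers b⁆, Pi⁆ :=
      Subgroup.commutator_mem_commutator (hXcomm hx) hπ
    rw [h3, Subgroup.mem_bot, commutatorElement_eq_one_iff_mul_comm] at this
    exact this.symm
  -- the key computation on generators
  have hgen : ∀ a ∈ A, ∀ a' ∈ A, ⁅b⁻¹ * a * b * a⁻¹, b⁻¹ * a' * b * a'⁻¹⁆ ∈ ⁅C, C⁆ ∧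
      ⁅b⁻¹ * a * b * a⁻¹, b⁻¹ * a' * b * a'⁻¹⁆ ^ 2 = 1 := by
    intro a ha a' ha'
    have haa' : a * a' = a' * a := by
      have := hAab.is_comm.comm (⟨a, ha⟩ : A) ⟨a', ha'⟩
      exact congrArg Subtype.val this
    set u := b⁻¹ * a * b * a⁻¹ with hu
    set v := b⁻¹ * a' * b * a'⁻¹ with hv
    have huX : u ∈ X := Subgroup.subset_closure ⟨a, ha, rfl⟩
    have hvX : v ∈ X := Subgroup.subset_closure ⟨a', ha', rfl⟩
    have huB : u ∈ B := hXB huX
    have hvB : v ∈ B := hXB hvX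
    -- general E1 for a pair
    have E : ∀ (a₁ : G) (ha₁ : a₁ ∈ A) (a₂ : G) (ha₂ : a₂ ∈ A),
        let u₁ := b⁻¹ * a₁ * b * a₁⁻¹
        let u₂ := b⁻¹ * a₂ * b * a₂⁻¹
        let p₁ := u₁⁻¹ * (a₂ * u₁ * a₂⁻¹)
        b * p₁ * b⁻¹ * p₁⁻¹ = u₁⁻¹ * u₂⁻¹ * u₁ * u₂ := by
      intro a₁ ha₁ a₂ ha₂ u₁ u₂ p₁
      have hu₁X : u₁ ∈ X := Subgroup.subset_closure ⟨a₁, ha₁, rfl⟩
      have hu₂X : u₂ ∈ X := Subgroup.subset_closure ⟨a₂, ha₂, rfl⟩
      have hp₁ : p₁ ∈ Pi := by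
        have : p₁ = ⁅u₁⁻¹, a₂⁆ := by
          show u₁⁻¹ * (a₂ * u₁ * a₂⁻¹) = ⁅u₁⁻¹, a₂⁆
          rw [commutatorElement_def, inv_inv]; group
        rw [this]
        exact Subgroup.commutator_mem_commutator (X.inv_mem hu₁X) ha₂
      have hcC : u₁⁻¹ * u₂⁻¹ * u₁ * u₂ ∈ ⁅C, C⁆ := by
        have : u₁⁻¹ * u₂⁻¹ * u₁ * u₂ = ⁅u₁⁻¹, u₂⁻¹⁆ := by
          rw [commutatorElement_def, inv_inv, inv_inv]
        rw [this]
        exact Subgroup.commutator_mem_commutator (C.inv_mem (hXC hu₁X)) (C.inv_mem (hXC hu₂X))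
      apply keyE b u₁ u₂ p₁ _
      · -- invariance of ⁅b, u₁⁆ under a₂
        have hw : b * u₁ * b⁻¹ * u₁⁻¹ ∈ ⁅B, B⁆ := by
          have : b * u₁ * b⁻¹ * u₁⁻¹ = ⁅b, u₁⁆ := by rw [commutatorElement_def]
          rw [this]
          exact Subgroup.commutator_mem_commutator hb (hXB hu₁X)
        have hfix := fixB' _ hw a₂ ha₂
        rw [← hfix]
        have e1 : b * u₂ = a₂ * b * a₂⁻¹ := by
          show b * (b⁻¹ * a₂ * b * a₂⁻¹) = _
          group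
        have e2 : u₁ * p₁ = a₂ * u₁ * a₂⁻¹ := by
          show u₁ * (u₁⁻¹ * (a₂ * u₁ * a₂⁻¹)) = _
          group
        rw [e1, e2]
        group
      · exact (commXPi u₂ hu₂X p₁ hp₁).eq
      · rfl
      · exact (centC' _ hcC b hb).eq
      · exact (centC' _ hcC u₁ (hXB hu₁X)).eq
      · exact (centC' _ hcC u₂ (hXB hu₂X)).eq
      · have hβ : b * p₁ * b⁻¹ * p₁⁻¹ ∈ ⁅B, B⁆ := by
          have : b * p₁ * b⁻¹ * p₁⁻¹ = ⁅b, p₁⁆ := by rw [commutatorElement_def]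
          rw [this]
          exact Subgroup.commutator_mem_commutator hb (hPiB hp₁)
        exact (commCB' u₁ (hXC hu₁X) _ hβ).eq
    set p := u⁻¹ * (a' * u * a'⁻¹) with hp
    set q := v⁻¹ * (a * v * a⁻¹) with hq
    set c := u⁻¹ * v⁻¹ * u * v with hcdef
    have hcC : c ∈ ⁅C, C⁆ := by
      have : c = ⁅u⁻¹, v⁻¹⁆ := by
        rw [commutatorElement_def, inv_inv, inv_inv]
      rw [this]
      exact Subgroup.commutator_mem_commutator (C.inv_mem (hXC huX)) (C.inv_mem (hXC hvX))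
    have E1 : b * p * b⁻¹ * p⁻¹ = c := E a ha a' ha'
    have E2 : b * q * b⁻¹ * q⁻¹ = v⁻¹ * u⁻¹ * v * u := E a' ha' a ha
    have hpcq : p = c * q := by
      have e1 : v * (a' * u * a'⁻¹) = b⁻¹ * (a' * a) * b * (a' * a)⁻¹ := by
        rw [hu, hv]; group
      have e2 : u * (a * v * a⁻¹) = b⁻¹ * (a * a') * b * (a * a')⁻¹ := by
        rw [hu, hv]; group
      have e3 : v * (a' * u * a'⁻¹) = u * (a * v * a⁻¹) := by
        rw [e1, e2, haa']
      calc p = u⁻¹ * v⁻¹ * (v * (a' * u * a'⁻¹)) := by rw [hp]; group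
        _ = u⁻¹ * v⁻¹ * (u * (a * v * a⁻¹)) := by rw [e3]
        _ = c * q := by rw [hcdef, hq]; group
    have hqB : q ∈ B := by
      have : q = ⁅v⁻¹, a⁆ := by
        rw [hq, commutatorElement_def, inv_inv]; group
      rw [this]
      exact hPiB (Subgroup.commutator_mem_commutator (X.inv_mem hvX) ha)
    have hcb : Commute c b := centC' c hcC b hb
    have hcq : Commute c q := centC' c hcC q hqB
    have hcinv : c = c⁻¹ := by
      have h5 : b * p * b⁻¹ * p⁻¹ = c * (b * q * b⁻¹ * q⁻¹) * c⁻¹ := by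
        rw [hpcq]
        calc b * (c * q) * b⁻¹ * (c * q)⁻¹ = (b * c) * q * b⁻¹ * q⁻¹ * c⁻¹ := by group
          _ = (c * b) * q * b⁻¹ * q⁻¹ * c⁻¹ := by rw [hcb.eq]
          _ = c * (b * q * b⁻¹ * q⁻¹) * c⁻¹ := by group
      rw [E1, E2] at h5
      have h6 : v⁻¹ * u⁻¹ * v * u = c⁻¹ := by rw [hcdef]; group
      rw [h6] at h5
      calc c = c * c⁻¹ * c⁻¹ := h5
        _ = c⁻¹ := by group
    have hc2 : c * c = 1 := by
      nth_rewrite 2 [hcinv]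
      exact mul_inv_cancel c
    have huv : ⁅u, v⁆ = c := by
      have huvB : u * v ∈ B := B.mul_mem huB hvB
      have h7 := (centC' c hcC _ huvB).eq
      calc ⁅u, v⁆ = (u * v) * c * (u * v)⁻¹ := by
            rw [commutatorElement_def, hcdef]; group
        _ = (c * (u * v)) * (u * v)⁻¹ := by rw [h7]
        _ = c := by group
    rw [huv]
    exact ⟨hcC, by rw [pow_two, hc2]⟩
  -- the subgroup of central elements of square one
  let E : Subgroup G :=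
    { carrier := {w | w ∈ ⁅C, C⁆ ∧ w ^ 2 = 1}
      one_mem' := ⟨Subgroup.one_mem _, one_pow _⟩
      mul_mem' := by
        rintro w w' ⟨hw, hw2⟩ ⟨hw', hw'2⟩
        refine ⟨Subgroup.mul_mem _ hw hw', ?_⟩
        have hcomm : Commute w w' := centC' w hw w' ((hC'C.trans hCB) hw')
        rw [hcomm.mul_pow, hw2, hw'2, one_mul]
      inv_mem' := by
        rintro w ⟨hw, hw2⟩
        exact ⟨Subgroup.inv_mem _ hw, by rw [inv_pow, hw2, inv_one]⟩ }
  have hEmem : ∀ w, w ∈ E ↔ (w ∈ ⁅C, C⁆ ∧ w ^ 2 = 1) := fun w => Iff.rfl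
  have hEcent : ∀ w ∈ E, ∀ x ∈ X, x * w * x⁻¹ = w := by
    intro w hw x hx
    have := (centC' w ((hEmem w).mp hw).1 x (hXB hx)).eq
    rw [← this]; group
  have hcommE : ∀ x (hx : x ∈ X) y (hy : y ∈ X), ⁅x, y⁆ ∈ E := by
    intro x hx y hy
    rw [hXdef] at hx hy
    induction hx, hy using Subgroup.closure_induction₂ with
    | mem x y hx hy =>
      obtain ⟨a, ha, rfl⟩ := hx
      obtain ⟨a', ha', rfl⟩ := hy
      exact (hEmem _).mpr (hgen a ha a' ha')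
    | one_left y hy => rw [commutatorElement_one_left]; exact E.one_mem
    | one_right x hx => rw [commutatorElement_one_right]; exact E.one_mem
    | mul_left x y z hx hy hz h₁ h₂ =>
      have e : ⁅x * y, z⁆ = (x * ⁅y, z⁆ * x⁻¹) * ⁅x, z⁆ := by
        simp only [commutatorElement_def]; group
      rw [e, hEcent _ h₂ x hx]
      exact E.mul_mem h₂ h₁
    | mul_right y z x hy hz hx h₁ h₂ =>
      have e : ⁅x, y * z⁆ = ⁅x, y⁆ * (y * ⁅x, z⁆ * y⁻¹) := by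
        simp only [commutatorElement_def]; group
      rw [e, hEcent _ h₂ y hy]
      exact E.mul_mem h₁ h₂
    | inv_left x y hx hy h₁ =>
      have e : ⁅x⁻¹, y⁆ = (x⁻¹ * ⁅x, y⁆ * x⁻¹⁻¹)⁻¹ := by
        simp only [commutatorElement_def]; group
      rw [e, hEcent _ h₁ x⁻¹ (Subgroup.inv_mem _ hx)]
      exact E.inv_mem h₁
    | inv_right x y hx hy h₁ =>
      have e : ⁅x, y⁻¹⁆ = (y⁻¹ * ⁅x, y⁆ * y⁻¹⁻¹)⁻¹ := by
        simp only [commutatorElement_def]; group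
      rw [e, hEcent _ h₁ y⁻¹ (Subgroup.inv_mem _ hy)]
      exact E.inv_mem h₁
  have hX'E : ⁅X, X⁆ ≤ E := by
    rw [Subgroup.commutator_le]
    intro x hx y hy
    exact hcommE x hx y hy
  intro w hw
  exact ((hEmem w).mp (hX'E hw)).2

end Cfsg.Agent.S0648
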