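import Cfsg.Statements.S1967
import Cfsg.Agent.Lib.Helper33.Syl

set_option autoImplicit false
open Cfsg Cfsg.Agent.Helper33 Pointwise

namespace Cfsg.Agent.S1967

/-- Let p be a prime, G a finite group with Sylow p-subgroup S and W a conjugacy functor for p on G. Then W controls strong fusion in G if and only if, whenever T ≤ S and g ∈ G satisfy gTg⁻¹ ≤ S, one can write g = n c with n ∈ N_G(W(S)) and c ∈ C_G(T). -/
theorem result {G : Type*} [Group G] [Finite G] {p : ℕ} [Fact p.Prime] (S : Sylow p G) (W : Subgroup G → Subgroup G) (hW : Cfsg.IsConjugacyFunctor p W) : Cfsg.ControlsStrongFusionIn p W ⊤ ↔ ∀ (T : Subgroup G) (g : G), T ≤ (S : Subgroup G) → T.map (MulAut.conj g).toMonoidHom ≤ (S : Subgroup G) → ∃ n ∈ Subgroup.normalizer ((W (S : Subgroup G) : Subgroup G) : Set G), ∃ c ∈ Subgroup.centralizer (T : Set G), g = n * c := by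
  constructor
  · rintro ⟨T₀, -, hT₀p, hT₀i, hctl⟩ T g hTS hTg
    have hT₀ : IsSylIn p T₀ ⊤ := ⟨le_top, hT₀p, hT₀i⟩
    obtain ⟨k, -, hk⟩ := (isSylIn_top S).exists_conj_eq hT₀
    have hk' : MulAut.conj k⁻¹ • (S : Subgroup G) = T₀ := by rw [← hk, conj_inv_smul_smul]
    rw [map_conj_eq_smul] at hTg
    have hA : ((MulAut.conj k⁻¹ • T : Subgroup G) : Set G) ⊆ T₀ := by
      rw [← hk']
      exact conj_smul_le_conj_smul hTS
    have hAh : (fun a => (k⁻¹ * g * k) * a * (k⁻¹ * g * k)⁻¹) '' ((MulAut.conj k⁻¹ • T : Subgroup G) : Set G) ⊆ T₀ := by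
      rintro _ ⟨a, ha, rfl⟩
      rw [SetLike.mem_coe, mem_conj_smul, inv_inv] at ha
      have h1 : g * (k * a * k⁻¹) * g⁻¹ ∈ (S : Subgroup G) := hTg (conj_mem_conj_smul ha)
      rw [SetLike.mem_coe, ← hk', mem_conj_smul, inv_inv]
      have : k * (k⁻¹ * g * k * a * (k⁻¹ * g * k)⁻¹) * k⁻¹ = g * (k * a * k⁻¹) * g⁻¹ := by group
      rw [this]; exact h1
    obtain ⟨x, hx, hxa⟩ := hctl _ (k⁻¹ * g * k) (Subgroup.mem_top _) hA hAh
    have hxN : x ∈ Subgroup.normalizer ((W T₀ : Subgroup G) : Set G) := hx.2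
    have hWS : W (S : Subgroup G) = MulAut.conj k • W T₀ := by
      rw [← hk]
      exact (hW T₀ hT₀p).2.2 k
    have hn : k * x * k⁻¹ ∈ Subgroup.normalizer ((W (S : Subgroup G) : Subgroup G) : Set G) := by
      rw [hWS, normalizer_conj_smul]
      exact conj_mem_conj_smul hxN
    refine ⟨k * x * k⁻¹, hn, (k * x * k⁻¹)⁻¹ * g, ?_, by group⟩
    rw [Subgroup.mem_centralizer_iff]
    intro t ht
    have hta : k⁻¹ * t * k ∈ ((MulAut.conj k⁻¹ • T : Subgroup G) : Set G) := by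
      rw [SetLike.mem_coe, mem_conj_smul, inv_inv]
      have : k * (k⁻¹ * t * k) * k⁻¹ = t := by group
      rw [this]; exact ht
    have h2 := hxa _ hta
    have h3 : (k * x * k⁻¹) * t * (k * x * k⁻¹)⁻¹ = g * t * g⁻¹ := by
      have e1 : (k * x * k⁻¹) * t * (k * x * k⁻¹)⁻¹ = k * (x * (k⁻¹ * t * k) * x⁻¹) * k⁻¹ := by group
      rw [e1, h2]; group
    calc t * ((k * x * k⁻¹)⁻¹ * g) = (k * x * k⁻¹)⁻¹ * ((k * x * k⁻¹) * t * (k * x * k⁻¹)⁻¹) * g := by group
      _ = (k * x * k⁻¹)⁻¹ * (g * t * g⁻¹) * g := by rw [h3]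
      _ = (k * x * k⁻¹)⁻¹ * g * t := by group
  · intro h
    refine ⟨S, le_top, S.isPGroup', (isSylIn_top S).not_dvd, ?_⟩
    intro A g _ hA hAg
    have hT : Subgroup.closure A ≤ (S : Subgroup G) := (Subgroup.closure_le _).mpr hA
    have hTg : (Subgroup.closure A).map (MulAut.conj g).toMonoidHom ≤ (S : Subgroup G) := by
      rw [MonoidHom.map_closure, Subgroup.closure_le]
      rintro _ ⟨a, ha, rfl⟩
      exact hAg ⟨a, ha, rfl⟩
    obtain ⟨n, hn, c, hc, rfl⟩ := h _ g hT hTg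
    refine ⟨n, ⟨Subgroup.mem_top _, hn⟩, ?_⟩
    intro a ha
    rw [Subgroup.mem_centralizer_iff] at hc
    have := hc a (Subgroup.subset_closure ha)
    calc n * a * n⁻¹ = n * (a * c) * c⁻¹ * n⁻¹ := by group
      _ = n * (c * a) * c⁻¹ * n⁻¹ := by rw [this]
      _ = n * c * a * (n * c)⁻¹ := by group

end Cfsg.Agent.S1967
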