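import Cfsg.Statements.S3836
import Mathlib

set_option autoImplicit false
open Cfsg

namespace Cfsg.Agent.S3836

/-- The p-core of any group is a p-group. -/
lemma pCore_isPGroup {X : Type*} [Group X] {p : ℕ} [Fact p.Prime] : IsPGroup p (Cfsg.pCore p X) := by
  unfold Cfsg.pCore
  exact Sylow.sSup_of_normal _ (fun H hH => hH.2) (fun H hH => hH.1)

/-- Let G be a finite group that is p-stable in the normalizer form: for every p-subgroup Q and every x ∈ N_G(Q) with [Q, x, x] = 1, the image of x in N_G(Q)/C_G(Q) lies in O_p(N_G(Q)/C_G(Q)). Then every subgroup of G is p-stable in the same sense. -/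
theorem result {G : Type*} [Group G] [Finite G] {p : ℕ} [Fact p.Prime] (hst : Cfsg.IsNormalizerPStable p G) (H : Subgroup G) : Cfsg.IsNormalizerPStable p ↥H := by
  intro P' hP' h hh hcomm
  set P : Subgroup G := P'.map H.subtype with hP
  have hPp : IsPGroup p P := hP'.map _
  -- membership transfer
  have hmemP : ∀ x : H, (x : G) ∈ P ↔ x ∈ P' := by
    intro x
    constructor
    · rintro ⟨y, hy, hyx⟩
      have : y = x := Subtype.ext hyx
      rw [← this]; exact hy
    · intro hx; exact ⟨x, hx, rfl⟩
  have hnorm : ∀ x : H, x ∈ Subgroup.normalizer (P' : Set H) → (x : G) ∈ Subgroup.normalizer (P : Set G) := by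
    intro x hx
    rw [Subgroup.mem_normalizer_iff] at hx ⊢
    intro g
    constructor
    · rintro ⟨y, hy, rfl⟩
      have := (hx y).mp hy
      exact ⟨x * y * x⁻¹, this, rfl⟩
    · rintro ⟨y, hy, hyg⟩
      -- x g x⁻¹ = y ∈ H, so g ∈ H
      have hgH : g ∈ H := by
        have : g = (x : G)⁻¹ * (y : G) * (x : G) := by
          have h' : (y : G) = (x : G) * g * (x : G)⁻¹ := hyg
          rw [h']; group
        rw [this]
        exact H.mul_mem (H.mul_mem (H.inv_mem x.2) y.2) x.2
      have h1 : x * ⟨g, hgH⟩ * x⁻¹ = y := Subtype.ext (by simpa using hyg.symm)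
      have h2 : (⟨g, hgH⟩ : H) ∈ P' := (hx ⟨g, hgH⟩).mpr (by rw [h1]; exact hy)
      exact ⟨⟨g, hgH⟩, h2, rfl⟩
  have hcent : ∀ x : H, x ∈ Subgroup.centralizer (P' : Set H) ↔ (x : G) ∈ Subgroup.centralizer (P : Set G) := by
    intro x
    rw [Subgroup.mem_centralizer_iff, Subgroup.mem_centralizer_iff]
    constructor
    · rintro hx _ ⟨y, hy, rfl⟩
      have := hx y hy
      exact congrArg Subtype.val this
    · intro hx y hy
      apply Subtype.ext
      exact hx y ⟨y, hy, rfl⟩
  have hg : (h : G) ∈ Subgroup.normalizer (P : Set G) := hnorm h hh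
  have hcommG : ⁅⁅P, Subgroup.zpowers (h : G)⁆, Subgroup.zpowers (h : G)⁆ = ⊥ := by
    have h1 : Subgroup.zpowers (h : G) = (Subgroup.zpowers h).map H.subtype := by
      rw [MonoidHom.map_zpowers]; rfl
    rw [h1, hP, ← Subgroup.map_commutator, ← Subgroup.map_commutator, hcomm, Subgroup.map_bot]
  have key := hst P hPp (h : G) hg hcommG
  -- the map on normalizers
  let ψ : ↥(Subgroup.normalizer (P' : Set H)) →* ↥(Subgroup.normalizer (P : Set G)) :=
    { toFun := fun x => ⟨((x : H) : G), hnorm x x.2⟩
      map_one' := rfl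
      map_mul' := fun _ _ => rfl }
  have hψ : (Subgroup.centralizer (P' : Set H)).subgroupOf (Subgroup.normalizer (P' : Set H)) =
      ((Subgroup.centralizer (P : Set G)).subgroupOf (Subgroup.normalizer (P : Set G))).comap ψ := by
    ext x
    rw [Subgroup.mem_comap, Subgroup.mem_subgroupOf, Subgroup.mem_subgroupOf]
    exact hcent x
  let ψb := QuotientGroup.map
    ((Subgroup.centralizer (P' : Set H)).subgroupOf (Subgroup.normalizer (P' : Set H)))
    ((Subgroup.centralizer (P : Set G)).subgroupOf (Subgroup.normalizer (P : Set G))) ψ (le_of_eq hψ)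
  have hψb_inj : Function.Injective ψb := by
    rw [← MonoidHom.ker_eq_bot_iff, QuotientGroup.ker_map, ← hψ]
    ext q
    constructor
    · rintro ⟨x, hx, rfl⟩
      rw [Subgroup.mem_bot]
      exact (QuotientGroup.eq_one_iff x).mpr hx
    · intro hq
      rw [Subgroup.mem_bot] at hq
      rw [hq]; exact Subgroup.one_mem _
  -- pull back the p-core
  have hK : (Cfsg.pCore p _).comap ψb ≤ Cfsg.pCore p _ := by
    apply le_sSup
    refine ⟨inferInstance, ?_⟩
    exact pCore_isPGroup.comap_of_injective ψb hψb_inj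
  apply hK
  rw [Subgroup.mem_comap]
  exact key

end Cfsg.Agent.S3836
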