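import Cfsg.Statements.S0647

set_option autoImplicit false
open Cfsg

namespace Cfsg.Agent.S0647

/-- For a nonempty family of maximal abelian subgroups of a finite group, the intersection of the family is the centre of the subgroup it generates, which is also the full centralizer of that subgroup. -/
theorem result {S : Type*} [Group S] [Finite S] (𝒜 : Set (Subgroup S)) (hne : 𝒜.Nonempty) (hab : ∀ A ∈ 𝒜, IsMulCommutative A) (hmax : ∀ A ∈ 𝒜, ∀ B : Subgroup S, IsMulCommutative B → A ≤ B → B = A) : sInf 𝒜 = sSup 𝒜 ⊓ Subgroup.centralizer ((sSup 𝒜 : Subgroup S) : Set S) ∧ sInf 𝒜 = Subgroup.centralizer ((sSup 𝒜 : Subgroup S) : Set S) := by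
  -- centralizer of the join is inside every member
  have h1 : Subgroup.centralizer ((sSup 𝒜 : Subgroup S) : Set S) ≤ sInf 𝒜 := by
    intro x hx
    rw [Subgroup.mem_sInf]
    intro A hA
    have hAle : A ≤ sSup 𝒜 := le_sSup hA
    -- the subgroup generated by A and x is commutative
    have hcomm : IsMulCommutative (A ⊔ Subgroup.zpowers x : Subgroup S) := by
      have hA' := hab A hA
      rw [← Subgroup.closure_eq A, Subgroup.zpowers_eq_closure, ← Subgroup.closure_union]
      apply Subgroup.isMulCommutative_closure
      intro a ha b hb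
      rcases ha with ha | ha <;> rcases hb with hb | hb
      · have := hA'.is_comm.comm (⟨a, ha⟩ : A) ⟨b, hb⟩
        exact congrArg Subtype.val this
      · rw [Set.mem_singleton_iff] at hb
        subst hb
        exact (hx a (hAle ha))
      · rw [Set.mem_singleton_iff] at ha
        subst ha
        exact (hx b (hAle hb)).symm
      · rw [Set.mem_singleton_iff] at ha hb
        subst ha; subst hb; rfl
    have := hmax A hA _ hcomm le_sup_left
    have hxmem : x ∈ A ⊔ Subgroup.zpowers x := by
      apply Subgroup.mem_sup_right
      exact Subgroup.mem_zpowers x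
    rw [this] at hxmem
    exact hxmem
  have h2 : sInf 𝒜 ≤ sSup 𝒜 ⊓ Subgroup.centralizer ((sSup 𝒜 : Subgroup S) : Set S) := by
    obtain ⟨A₀, hA₀⟩ := hne
    apply le_inf
    · exact (sInf_le hA₀).trans (le_sSup hA₀)
    · intro x hx
      rw [Subgroup.mem_sInf] at hx
      -- x commutes with every member, hence with the join
      have : sSup 𝒜 ≤ Subgroup.centralizer ({x} : Set S) := by
        apply sSup_le
        intro A hA a ha
        rw [Subgroup.mem_centralizer_iff]
        intro y hy
        rw [Set.mem_singleton_iff] at hy
        subst hy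
        have := (hab A hA).is_comm.comm (⟨y, hx A hA⟩ : A) ⟨a, ha⟩
        exact congrArg Subtype.val this
      rw [Subgroup.mem_centralizer_iff]
      intro y hy
      have := this hy
      rw [Subgroup.mem_centralizer_iff] at this
      exact (this x rfl).symm
  have h3 : sSup 𝒜 ⊓ Subgroup.centralizer ((sSup 𝒜 : Subgroup S) : Set S) ≤ Subgroup.centralizer ((sSup 𝒜 : Subgroup S) : Set S) := inf_le_right
  refine ⟨le_antisymm h2 (h3.trans h1), le_antisymm (h2.trans h3) h1⟩

end Cfsg.Agent.S0647
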