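import Cfsg.Statements.S4225
import Cfsg.Agent.Lib.Helper70.Regular

set_option autoImplicit false
open Cfsg

namespace Cfsg.Agent.S4225

/-- In a regular `p`-group, for every `k` the elements whose `p^k`-th power is `1` form a characteristic subgroup. -/
theorem result {G : Type*} [Group G] [Finite G] {p : ℕ} [Fact p.Prime] (hG : Cfsg.IsRegularPGroup p G) (k : ℕ) : ∃ H : Subgroup G, H.Characteristic ∧ (H : Set G) = {x : G | x ^ p ^ k = 1} := by
  have key := Cfsg.Agent.Helper70.powEqIff_of_regular hG
  refine ⟨{ carrier := {x : G | x ^ p ^ k = 1}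
            mul_mem' := ?_
            one_mem' := by simp
            inv_mem' := by intro x hx; simpa using hx }, ?_, rfl⟩
  · intro x y hx hy
    have hx' : x ^ p ^ k = 1 := hx
    have hy' : y ^ p ^ k = 1 := hy
    have := (key x y⁻¹ k).mp (by rw [hx', inv_pow, hy', inv_one])
    simpa using this
  · rw [Subgroup.characteristic_iff_comap_le]
    intro ϕ x hx
    have hx' : (ϕ x) ^ p ^ k = 1 := hx
    show x ^ p ^ k = 1
    apply ϕ.injective
    rw [map_pow, hx', map_one]

end Cfsg.Agent.S4225
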