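import Cfsg.Statements.S1442
import Mathlib
import Cfsg.Agent.Lib.Helper24.Coprime

set_option autoImplicit false
open Cfsg

namespace Cfsg.Agent.S1442

open Cfsg.Agent.Helper24

/-- Let G be a finite group, H a nilpotent subgroup and A a subgroup normalizing H with the orders of A and H coprime. Put C = H ∩ C_G(A). If H ∩ C_G(C) ≤ C then A centralizes H. -/
theorem result {G : Type*} [Group G] [Finite G] (H A : Subgroup G) (hH : Group.IsNilpotent H) (hA : (A ≤ Subgroup.normalizer (H : Set G))) (hcop : (Nat.card A).Coprime (Nat.card H))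
    (hC : H ⊓ Subgroup.centralizer (((H ⊓ Subgroup.centralizer (A : Set G)) : Subgroup G) : Set G) ≤ (H ⊓ Subgroup.centralizer (A : Set G))) :
    A ≤ Subgroup.centralizer (H : Set G) := by
  set C : Subgroup G := H ⊓ Subgroup.centralizer (A : Set G) with hCdef
  set N : Subgroup G := H ⊓ Subgroup.normalizer (C : Set G) with hNdef
  have hCH : C ≤ H := inf_le_left
  have hCA : C ≤ Subgroup.centralizer (A : Set G) := inf_le_right
  have hAC : A ≤ Subgroup.centralizer (C : Set G) := Subgroup.le_centralizer_iff.mp hCA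
  have hACn : A ≤ Subgroup.normalizer (C : Set G) := hAC.trans (Subgroup.centralizer_le_normalizer _)
  have hNH : N ≤ H := inf_le_left
  have hNC : N ≤ Subgroup.normalizer (C : Set G) := inf_le_right
  -- A normalizes N
  have hAN : A ≤ Subgroup.normalizer (N : Set G) := by
    have hconj : ∀ a ∈ A, ∀ n ∈ N, a * n * a⁻¹ ∈ N := by
      intro a ha n hn
      refine ⟨?_, ?_⟩
      · exact (Subgroup.mem_normalizer_iff.mp (hA ha) n).mp hn.1
      · exact Subgroup.mul_mem _ (Subgroup.mul_mem _ (hACn ha) hn.2) (Subgroup.inv_mem _ (hACn ha))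
    intro a ha
    rw [Subgroup.mem_normalizer_iff]
    intro n
    refine ⟨hconj a ha n, fun h => ?_⟩
    have := hconj a⁻¹ (A.inv_mem ha) _ h
    simpa [mul_assoc] using this
  -- three subgroups
  have h1 : ⁅⁅A, C⁆, N⁆ = ⊥ := by
    have : ⁅A, C⁆ = ⊥ := Subgroup.commutator_eq_bot_iff_le_centralizer.mpr hAC
    rw [this]
    exact Subgroup.commutator_bot_left N
  have h2 : ⁅⁅C, N⁆, A⁆ = ⊥ := by
    have h3 : ⁅C, N⁆ ≤ C := commutator_le_of_le_normalizer C N hNC
    have h4 : ⁅C, A⁆ = ⊥ := Subgroup.commutator_eq_bot_iff_le_centralizer.mpr hCA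
    rw [eq_bot_iff, ← h4]
    exact Subgroup.commutator_mono h3 le_rfl
  have h3 : ⁅⁅N, A⁆, C⁆ = ⊥ := Subgroup.commutator_commutator_eq_bot_of_rotate h1 h2
  have h4 : ⁅N, A⁆ ≤ Subgroup.centralizer (C : Set G) :=
    Subgroup.commutator_eq_bot_iff_le_centralizer.mp h3
  have h5 : ⁅N, A⁆ ≤ N := commutator_le_of_le_normalizer N A hAN
  have h6 : ⁅N, A⁆ ≤ C := le_trans (le_inf (h5.trans hNH) h4) hC
  have h7 : ⁅⁅N, A⁆, A⁆ = ⊥ :=
    Subgroup.commutator_eq_bot_iff_le_centralizer.mpr (h6.trans hCA)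
  have hcopN : (Nat.card A).Coprime (Nat.card N) :=
    Nat.Coprime.coprime_dvd_right (Subgroup.card_dvd_of_le hNH) hcop
  have h8 : A ≤ Subgroup.centralizer (N : Set G) := le_centralizer_of_coprime N A hAN hcopN h7
  have h9 : N ≤ C := le_inf hNH (Subgroup.le_centralizer_iff.mp h8)
  -- normalizer condition
  have hnc : NormalizerCondition H := Group.normalizerCondition_of_isNilpotent
  have hHC : H ≤ C := by
    by_contra hne
    have hlt : C.subgroupOf H < ⊤ := by
      rw [lt_top_iff_ne_top, Ne, Subgroup.subgroupOf_eq_top]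
      exact hne
    have := hnc _ hlt
    rw [← Subgroup.subgroupOf_normalizer_eq hCH] at this
    have hle : (Subgroup.normalizer (C : Set G)).subgroupOf H ≤ C.subgroupOf H := by
      intro x hx
      rw [Subgroup.mem_subgroupOf] at hx ⊢
      exact h9 ⟨x.2, hx⟩
    exact (lt_irrefl _ (lt_of_lt_of_le this hle))
  exact Subgroup.le_centralizer_iff.mp (hHC.trans hCA)

end Cfsg.Agent.S1442
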