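import Cfsg.Statements.S1443
import Mathlib
import Cfsg.Agent.Lib.Helper24.Omega1
import Cfsg.Agent.S1442

set_option autoImplicit false
open Cfsg

namespace Cfsg.Agent.S1443

open Cfsg.Agent.Helper24 Subgroup

/-- Let G be a finite group, p an odd prime, H a p-subgroup, E an elementary abelian subgroup of H, and A a subgroup of order coprime to p normalizing H. If A centralizes every element of order p in H ∩ C_G(E), then A centralizes H. -/
theorem result {G : Type*} [Group G] [Finite G] (p : ℕ) [Fact p.Prime] (hp : p ≠ 2) (H E A : Subgroup G) (hH : IsPGroup p H) (hE : E ≤ H) (hEe : Cfsg.IsElementaryAbelian p E)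
    (hA : (A ≤ Subgroup.normalizer (H : Set G))) (hcop : (Nat.card A).Coprime p)
    (hfix : ∀ x ∈ (H ⊓ Subgroup.centralizer (E : Set G)), orderOf x = p → A ≤ Subgroup.centralizer ({x} : Set G)) :
    A ≤ Subgroup.centralizer (H : Set G) := by
  have hpp : p.Prime := Fact.out
  set C := H ⊓ Subgroup.centralizer (E : Set G) with hC
  have hfix' : ∀ x ∈ C, x ^ p = 1 → ∀ a ∈ A, a * x = x * a := by
    intro x hx hxp a ha
    by_cases hx1 : x = 1
    · rw [hx1]; simp
    · have ho : orderOf x = p := orderOf_eq_prime hxp hx1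
      have := hfix x hx ho ha
      rw [mem_centralizer_iff] at this
      exact (this x rfl).symm
  have hEcomm : E ≤ centralizer (E : Set G) := by
    have := hEe.1
    exact le_centralizer_iff_isMulCommutative.mpr this
  have hEC : E ≤ C := le_inf hE hEcomm
  have hAE : A ≤ centralizer (E : Set G) := by
    intro a ha
    rw [mem_centralizer_iff]
    intro e he
    exact (hfix' e (hEC he) (hEe.2 e he) a ha).symm
  have hAC : A ≤ normalizer (C : Set G) := by
    intro a ha
    have hconj : ∀ b ∈ A, ∀ x ∈ C, b * x * b⁻¹ ∈ C := by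
      intro b hb x hx
      refine ⟨(mem_normalizer_iff.mp (hA hb) x).mp hx.1, ?_⟩
      exact Subgroup.mul_mem _ (Subgroup.mul_mem _ (hAE hb) hx.2) (Subgroup.inv_mem _ (hAE hb))
    rw [mem_normalizer_iff]
    intro x
    refine ⟨hconj a ha x, fun h => ?_⟩
    have := hconj a⁻¹ (A.inv_mem ha) _ h
    simpa [mul_assoc] using this
  have hCp : IsPGroup p C := hH.to_le inf_le_left
  have hACc : A ≤ centralizer (C : Set G) :=
    le_centralizer_of_centralizes_omega_one p hp A hcop _ C rfl hCp hAC hfix'
  have hnil : Group.IsNilpotent H := hH.isNilpotent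
  have hcopH : (Nat.card A).Coprime (Nat.card H) := by
    obtain ⟨k, hk⟩ := IsPGroup.iff_card.mp hH
    rw [hk]; exact Nat.Coprime.pow_right k hcop
  apply Cfsg.Agent.S1442.result H A hnil hA hcopH
  have hED : E ≤ H ⊓ centralizer (A : Set G) := le_inf hE (le_centralizer_iff.mp hAE)
  have h1 : centralizer ((H ⊓ centralizer (A : Set G) : Subgroup G) : Set G) ≤ centralizer (E : Set G) :=
    centralizer_le hED
  exact le_inf inf_le_left ((inf_le_inf_left H h1).trans (le_centralizer_iff.mp hACc))

end Cfsg.Agent.S1443
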