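import Mathlib
import Cfsg.Statements.S1455
import Cfsg.Agent.S1450
import Cfsg.Agent.Lib.Helper24.NarrowSolv
import Cfsg.Agent.Lib.Helper24.PLength

set_option autoImplicit false
open Cfsg

namespace Cfsg.Agent.S1455

open scoped commutatorElement

/-- Let G be a solvable group of odd order, p a prime dividing its order, and S a Sylow p-subgroup of G that is narrow; if S has an elementary abelian subgroup of order p ^ 3 assume also G = O_{p',p,p'}(G). Then every prime dividing the index of O_{p'}(G) is at most p; if p = 3 or p is the smallest prime divisor of #G then G has a normal p-complement; G' has a normal p-complement; every subgroup of G' of order coprime to p lies in O_{p'}(G'); and G' ≤ O_{p',p}(G) with the index of O_{p',p}(G) coprime to p. -/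
theorem result {G : Type*} [Group G] [Finite G] [Group.IsSolvable G] (hodd : Odd (Nat.card G)) (p : ℕ) [Fact p.Prime] (hpG : p ∣ Nat.card G) (S : Sylow p G) (hS : Cfsg.IsNarrow p ↥(S : Subgroup G))
    (hpl : ¬ Cfsg.PRankLE p 2 ↥(S : Subgroup G) → Cfsg.PLengthLE p 1 G) :
    (∀ q : ℕ, q.Prime → q ∣ (Cfsg.pPrimeCore p G).index → q ≤ p) ∧
      ((p = 3 ∨ ∀ q : ℕ, q.Prime → q ∣ Nat.card G → p ≤ q) → Cfsg.HasNormalPComplement p G) ∧
      Cfsg.HasNormalPComplement p ↥(commutator G) ∧
      (∀ L : Subgroup ↥(commutator G), (Nat.card L).Coprime p → L ≤ Cfsg.pPrimeCore p ↥(commutator G)) ∧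
      commutator G ≤ Cfsg.pPrimePCore p G ∧ ((Cfsg.pPrimePCore p G).index).Coprime p := by
  classical
  by_cases hrk : PRankLE p 2 ↥(S : Subgroup G)
  · exact Cfsg.Agent.S1450.result hodd p hpG
      (Cfsg.Agent.Helper24.NarrowSolv.prankLE_of_sylow S hrk)
  have hp : p.Prime := Fact.out
  have hp2 : p ≠ 2 := by
    rintro rfl
    exact hodd.not_two_dvd_nat hpG
  have hpl1 := hpl hrk
  have hSp : IsPGroup p ↥(S : Subgroup G) := S.isPGroup'
  obtain ⟨E, hE, hE2, hEmax⟩ :=
    Cfsg.Agent.Helper24.NarrowSolv.exists_max_elemAb_sq_of_isNarrow hSp hS hrk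
  obtain ⟨-, hKSn, -, -, hdisj⟩ := Cfsg.Agent.Helper24.plength_one_structure p hpl1 S
  have hKcop : (Nat.card (pPrimeCore p G)).Coprime p := Cfsg.Agent.Helper55.pPrimeCore_coprime p
  have hsolvQ : Group.IsSolvable (G ⧸ pPrimeCore p G) := inferInstance
  have hcent := (Cfsg.Agent.Helper24.isPConstrained_iff_quotient (G := G) (p := p)).mp
    (Cfsg.Agent.Helper29.isPConstrained_of_isSolvable p)
  have hmks : Function.Surjective (QuotientGroup.mk' (pPrimeCore p G)) :=
    QuotientGroup.mk'_surjective _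
  -- O_p(G/K) is the image of S
  have hpcore : pCore p (G ⧸ pPrimeCore p G) =
      (S : Subgroup G).map (QuotientGroup.mk' (pPrimeCore p G)) := by
    apply le_antisymm
    · have h1 := Cfsg.Agent.Helper55.pCore_le_sylow (S.mapSurjective hmks)
      rwa [Sylow.coe_mapSurjective] at h1
    · have hn : ((S : Subgroup G).map (QuotientGroup.mk' (pPrimeCore p G))).Normal := by
        have h1 : ((pPrimeCore p G ⊔ (S : Subgroup G)).map
            (QuotientGroup.mk' (pPrimeCore p G))).Normal := hKSn.map _ hmks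
        rwa [Subgroup.map_sup, QuotientGroup.map_mk'_self, bot_sup_eq] at h1
      exact Cfsg.Agent.Helper55.le_pCore hn (hSp.map _)
  let ι : ↥(S : Subgroup G) →* G ⧸ pPrimeCore p G :=
    (QuotientGroup.mk' (pPrimeCore p G)).comp (S : Subgroup G).subtype
  have hι : Function.Injective ι := by
    rw [injective_iff_map_eq_one]
    intro s hs
    have h1 : (s : G) ∈ pPrimeCore p G := (QuotientGroup.eq_one_iff _).mp hs
    have h2 : (s : G) ∈ pPrimeCore p G ⊓ (S : Subgroup G) := ⟨h1, s.2⟩
    rw [hdisj.eq_bot, Subgroup.mem_bot] at h2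
    exact Subtype.ext h2
  have hιr : ι.range = pCore p (G ⧸ pPrimeCore p G) := by
    rw [hpcore, MonoidHom.range_comp, Subgroup.range_subtype]
  let e : ↥(pCore p (G ⧸ pPrimeCore p G)) ≃* ↥(S : Subgroup G) :=
    ((MonoidHom.ofInjective hι).trans (MulEquiv.subgroupCongr hιr)).symm
  obtain ⟨hc1, hc2, hc3⟩ :=
    Cfsg.Agent.Helper24.NarrowSolv.core hp2 hcent e hrk E hE hE2 hEmax
  have he1 : commutator G ≤ pPrimePCore p G := by
    rw [commutator_def, Subgroup.commutator_le]
    intro a _ b _
    show QuotientGroup.mk' (pPrimeCore p G) ⁅a, b⁆ ∈ pCore p (G ⧸ pPrimeCore p G)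
    rw [map_commutatorElement]
    apply hc1
    rw [commutator_def]
    exact Subgroup.commutator_mem_commutator (Subgroup.mem_top _) (Subgroup.mem_top _)
  have he2 : ((pPrimePCore p G).index).Coprime p := by
    have : (pPrimePCore p G).index = (pCore p (G ⧸ pPrimeCore p G)).index :=
      Subgroup.index_comap_of_surjective _ (QuotientGroup.mk'_surjective _)
    rw [this]; exact hc2
  have ha : ∀ q : ℕ, q.Prime → q ∣ (pPrimeCore p G).index → q ≤ p := by
    intro q hq hqd
    rw [Subgroup.index_eq_card] at hqd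
    exact hc3 q hq hqd
  obtain ⟨hcd1, hcd2⟩ := Cfsg.Agent.S1450.complement_of_le_pPrimePCore p (commutator G) he1
  refine ⟨ha, ?_, hcd1, hcd2, he1, he2⟩
  intro hb
  have hall : ∀ q : ℕ, q.Prime → q ∣ (pPrimeCore p G).index → q = p := by
    intro q hq hqd
    have hle := ha q hq hqd
    have hqG : q ∣ Nat.card G := hqd.trans (Subgroup.index_dvd_card _)
    rcases hb with h3 | hmin
    · have hq2 : q ≠ 2 := by
        rintro rfl
        exact hodd.not_two_dvd_nat hqG
      have := hq.two_le
      omega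
    · exact le_antisymm hle (hmin q hq hqG)
  have hidx0 : (pPrimeCore p G).index ≠ 0 := Subgroup.index_ne_zero_of_finite
  have hidx : ∃ k : ℕ, (pPrimeCore p G).index = p ^ k :=
    ⟨_, Nat.eq_prime_pow_of_unique_prime_dvd hidx0 (fun hd hdv => hall _ hd hdv)⟩
  exact (Cfsg.Agent.Helper31.GT.hnpc_iff).mpr ⟨pPrimeCore p G, inferInstance, hKcop, hidx⟩

end Cfsg.Agent.S1455
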