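import Cfsg.Statements.S1324
import Cfsg.Agent.Lib.Helper29.CoprimeHyp

set_option autoImplicit false
open Cfsg

namespace Cfsg.Agent.S1324

/-- Let A be a noncyclic elementary abelian p-subgroup of a finite group H normalizing a subgroup X of order prime to p. Then X is generated by the subgroups X ∩ C_H(B), B ranging over the subgroups of A of index at most p. -/
theorem result {H : Type*} [Group H] [Finite H] (p : ℕ) [Fact p.Prime] (A X : Subgroup H) (hA : Cfsg.IsElementaryAbelian p A) (hA2 : p ^ 2 ≤ Nat.card ↥A) (hX : ¬ p ∣ Nat.card ↥X) (hAX : A ≤ Subgroup.normalizer (X : Set H)) : X = ⨆ B : {B : Subgroup H // B ≤ A ∧ B.relIndex A ≤ p}, X ⊓ Subgroup.centralizer ((B : Subgroup H) : Set H) := by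
  have hp : p.Prime := Fact.out
  obtain ⟨hcomm, hAp⟩ := hA
  have hAc : ∀ x ∈ A, ∀ y ∈ A, x * y = y * x := by
    intro x hx y hy
    have := mul_comm' (⟨x, hx⟩ : A) ⟨y, hy⟩
    exact congrArg Subtype.val this
  have hA1 : A ≠ ⊥ := by
    intro h
    rw [h, Subgroup.card_bot] at hA2
    have := hp.one_lt
    nlinarith
  have hXcop : (Nat.card X).Coprime p := ((Nat.Prime.coprime_iff_not_dvd hp).mpr hX).symm
  apply le_antisymm
  · refine le_trans (Cfsg.Agent.Helper29.le_iSup_covBy A X hAc hAp hA1 hAX hXcop) ?_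
    apply iSup_le
    rintro ⟨B, hB⟩
    exact le_iSup (fun B : {B : Subgroup H // B ≤ A ∧ B.relIndex A ≤ p} =>
      X ⊓ Subgroup.centralizer ((B : Subgroup H) : Set H))
      ⟨B, hB.le, (Cfsg.Agent.Helper29.relIndex_eq_of_covBy A B hAc hAp hB).le⟩
  · exact iSup_le fun _ => inf_le_left

end Cfsg.Agent.S1324
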