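import Mathlib
import Cfsg.Statements.S1452
import Cfsg.Agent.Lib.Helper24.RankThree

set_option autoImplicit false
open Cfsg

namespace Cfsg.Agent.S1452

open Cfsg.Agent.Helper24.RankThree

/-- Let p be an odd prime and R a finite p-group containing an elementary abelian subgroup of order p ^ 3. If E is a normal elementary abelian subgroup of R of order p ^ 2, then E ≤ A for some normal subgroup A of R with C_R(A) = A that contains an elementary abelian subgroup of order p ^ 3. -/
theorem result {R : Type*} [Group R] [Finite R] (p : ℕ) [Fact p.Prime] (hp : p ≠ 2) (hR : IsPGroup p R) (hr : ¬ Cfsg.PRankLE p 2 R)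
    (E : Subgroup R) [E.Normal] (hE : Cfsg.IsElementaryAbelian p E) (hE2 : Nat.card E = p ^ 2) :
    ∃ A : Subgroup R, E ≤ A ∧ A.Normal ∧ Subgroup.centralizer (A : Set R) = A ∧ ¬ Cfsg.PRankLE p 2 A := by
  classical
  obtain ⟨A₀, hA₀n, hA₀, hA₀3⟩ := exists_normal_cube hp hR hr
  obtain ⟨F, hFn, hF, hEF, hFcard⟩ := exists_big_elemAb hR E hE hE2 A₀ hA₀ hA₀3
  have : Group.IsNilpotent R := hR.isNilpotent
  obtain ⟨A, hFA, hAmax⟩ := Finite.exists_le_maximal
    (p := fun M : Subgroup R => M.Normal ∧ IsMulCommutative M) (a := F) ⟨hFn, hF.1⟩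
  have hAn : A.Normal := hAmax.prop.1
  have hAc : IsMulCommutative A := hAmax.prop.2
  refine ⟨A, le_trans hEF hFA, hAn, ?_, ?_⟩
  · apply Cfsg.Agent.S0015.result A
    intro M hMn hMc hAM
    exact le_antisymm (hAmax.le_of_ge ⟨hMn, hMc⟩ hAM) hAM
  · intro hrA
    have h1 := hrA (F.subgroupOf A) ?_ ?_
    · rw [Nat.card_congr (Subgroup.subgroupOfEquivOfLe hFA).toEquiv] at h1
      omega
    · apply Subgroup.le_centralizer_iff_isMulCommutative.mp
      intro a ha b hb
      rw [Subgroup.mem_subgroupOf] at ha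
      rw [SetLike.mem_coe, Subgroup.mem_subgroupOf] at hb
      apply Subtype.ext
      have := Subgroup.le_centralizer_iff_isMulCommutative.mpr hF.1 ha (b : R) hb
      simpa using this
    · intro a ha
      rw [Subgroup.mem_subgroupOf] at ha
      apply Subtype.ext
      have := hF.2 (a : R) ha
      simpa using this

end Cfsg.Agent.S1452
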