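import Cfsg.Statements.S1398
import Cfsg.Agent.Lib.Helper15.BGU.Main

set_option autoImplicit false
open Cfsg

namespace Cfsg.Agent.S1398

/-- Let G be a minimal simple group of odd order, M a maximal subgroup, p a prime, and B a noncyclic elementary abelian p-subgroup of M. If C_G(b) ≤ M for every non-identity b ∈ B, or if every subgroup of G of order coprime to p normalized by B is contained in M, then M is the only maximal subgroup of G containing B. -/
theorem result {G : Type*} [Group G] [Finite G] (hG : Cfsg.IsMinSimpleOddOrder G)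
    (M : Subgroup G) (hM : IsCoatom M) (p : ℕ) [Fact p.Prime] (B : Subgroup G) (hBM : B ≤ M)
    (hBe : Cfsg.IsElementaryAbelian p B) (hBnc : ¬ IsCyclic B)
    (h : (∀ b ∈ B, b ≠ 1 → Subgroup.centralizer ({b} : Set G) ≤ M) ∨
      ∀ Y ∈ Cfsg.invSubgroups ⊤ B (Cfsg.primesNotDvd p), Y ≤ M) :
    Cfsg.InUniqueMaximal B := by
  classical
  have hBp : IsPGroup p B := Cfsg.Agent.Helper15.BGU.isPGroup_of_isElementaryAbelian hBe
  have hB1 : B ≠ ⊥ := by
    intro hbot
    apply hBnc
    rw [hbot]
    infer_instance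
  have hb : ∀ Y : Subgroup G, (Nat.card Y).Coprime p → B ≤ Subgroup.normalizer (Y : Set G) →
      Y ≤ M := by
    rcases h with ha | hb'
    · intro Y hY hBY
      haveI : IsMulCommutative B := hBe.1
      obtain ⟨k, hk⟩ := IsPGroup.iff_card.1 hBp
      have hcop : (Nat.card B).Coprime (Nat.card Y) := by
        rw [hk]
        exact Nat.Coprime.pow_left k hY.symm
      have h1 := Cfsg.Agent.S0058.result B Y hBnc hBY hcop
      rw [← h1]
      apply iSup₂_le
      intro a ha'
      exact inf_le_right.trans (ha a ha'.1 ha'.2)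
    · intro Y hY hBY
      apply hb' Y
      refine ⟨le_top, ?_, hBY⟩
      intro q hq hqd
      refine ⟨hq, ?_⟩
      intro hqp
      have hpp : p.Prime := Fact.out
      have hqe : q = p := (Nat.prime_dvd_prime_iff_eq hq hpp).mp hqp
      rw [hqe] at hqd
      have := Nat.Coprime.eq_one_of_dvd hY.symm hqd
      exact hpp.one_lt.ne' this
  have c : Cfsg.Agent.Helper15.BGU.Ctx G p M B := ⟨hG, hM, hBM, hB1, hBp, hb⟩
  refine ⟨M, ⟨hM, hBM⟩, ?_⟩
  rintro H ⟨hH, hBH⟩
  exact c.unique hH hBH

end Cfsg.Agent.S1398
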