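import Cfsg.Statements.S1399
import Cfsg.Agent.S1398

set_option autoImplicit false
open Cfsg

namespace Cfsg.Agent.S1399

/-- Let G be a minimal simple group of odd order, L a subgroup contained in exactly one maximal subgroup of G, and K a subgroup of C_G(L) having, for some prime p, an elementary abelian subgroup of order p ^ 2. Then K is contained in exactly one maximal subgroup of G. -/
theorem result {G : Type*} [Group G] [Finite G] (hG : Cfsg.IsMinSimpleOddOrder G)
    (L K : Subgroup G) (hL : Cfsg.InUniqueMaximal L) (hK : K ≤ Subgroup.centralizer (L : Set G)) (hKr : ¬ Cfsg.RankLE 1 K) :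
    Cfsg.InUniqueMaximal K := by
  classical
  haveI : IsSimpleGroup G := hG.2.1
  obtain ⟨M, ⟨hM, hLM⟩, hMuniq⟩ := hL
  -- a noncyclic elementary abelian subgroup of K
  have hKr' : ∃ p : ℕ, p.Prime ∧ ¬ Cfsg.PRankLE p 1 ↥K := by
    by_contra hcon
    push Not at hcon
    exact hKr hcon
  obtain ⟨p, hp, hpr⟩ := hKr'
  haveI : Fact p.Prime := ⟨hp⟩
  obtain ⟨F, hFK, hF, hFc⟩ := Cfsg.Agent.Helper15.BGU.exists_of_not_pRankLE hpr
  rw [pow_one] at hFc
  have hFnc : ¬ IsCyclic ↥F := by
    intro hcyc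
    obtain ⟨g, hg⟩ := hcyc.exists_generator
    have h1 : orderOf g = Nat.card ↥F := orderOf_eq_card_of_forall_mem_zpowers hg
    have h2 : g ^ p = 1 := by
      apply Subtype.ext
      have := hF.2 (g : G) g.2
      simpa using this
    have h3 : orderOf g ∣ p := orderOf_dvd_of_pow_eq_one h2
    have h4 : orderOf g ≤ p := Nat.le_of_dvd hp.pos h3
    omega
  -- L ≠ ⊥
  have hL1 : L ≠ ⊥ := by
    intro hbot
    have hMtop : M ≠ ⊤ := hM.1
    obtain ⟨g, hg⟩ : ∃ g : G, g ∉ M := by
      by_contra hcon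
      push Not at hcon
      exact hMtop (eq_top_iff.mpr fun x _ => hcon x)
    have hz : Subgroup.zpowers g = ⊤ := by
      by_contra hne
      obtain ⟨H, hH, hle⟩ := Cfsg.Agent.Helper15.BGU.exists_coatom_ge hne
      have := hMuniq H ⟨hH, by rw [hbot]; exact bot_le⟩
      rw [this] at hle
      exact hg (hle (Subgroup.mem_zpowers g))
    apply hG.2.2.1
    refine ⟨⟨fun a b => ?_⟩⟩
    have ha : a ∈ Subgroup.zpowers g := by rw [hz]; exact Subgroup.mem_top _
    have hb : b ∈ Subgroup.zpowers g := by rw [hz]; exact Subgroup.mem_top _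
    obtain ⟨i, rfl⟩ := Subgroup.mem_zpowers_iff.mp ha
    obtain ⟨j, rfl⟩ := Subgroup.mem_zpowers_iff.mp hb
    rw [← zpow_add, ← zpow_add, add_comm]
  have hLtop : L ≠ ⊤ := by
    intro h
    rw [h] at hLM
    exact hM.1 (top_le_iff.mp hLM)
  -- N_G(L) ≤ M
  have hNL : Subgroup.normalizer (L : Set G) ≤ M := by
    obtain ⟨H, hH, hle⟩ := Cfsg.Agent.Helper15.BGU.exists_coatom_ge
      (Cfsg.Agent.Helper54.normalizer_ne_top_of_isSimpleGroup L hL1 hLtop)
    have := hMuniq H ⟨hH, Subgroup.le_normalizer.trans hle⟩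
    rw [← this]; exact hle
  have hCL : Subgroup.centralizer (L : Set G) ≤ M :=
    (Subgroup.centralizer_le_normalizer (L : Set G)).trans hNL
  have hKM : K ≤ M := hK.trans hCL
  -- centralizers of elements of F
  have hcent : ∀ b ∈ F, b ≠ 1 → Subgroup.centralizer ({b} : Set G) ≤ M := by
    intro b hb hb1
    obtain ⟨H, hH, hle⟩ := Cfsg.Agent.Helper15.BGU.exists_coatom_ge
      (Cfsg.Agent.Helper54.centralizer_singleton_ne_top hG.2.2.1 b hb1)
    have hLb : L ≤ Subgroup.centralizer ({b} : Set G) := by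
      intro l hl
      rw [Subgroup.mem_centralizer_iff]
      intro x hx
      rw [Set.mem_singleton_iff] at hx
      rw [hx]
      have := (Subgroup.mem_centralizer_iff.mp (hK (hFK hb))) l hl
      exact this.symm
    have := hMuniq H ⟨hH, hLb.trans hle⟩
    rw [← this]; exact hle
  have hFU := Cfsg.Agent.S1398.result hG M hM p F (hFK.trans hKM) hF hFnc (Or.inl hcent)
  obtain ⟨M', ⟨hM', hFM'⟩, hM'uniq⟩ := hFU
  have hMM' : M = M' := hM'uniq M ⟨hM, hFK.trans hKM⟩
  refine ⟨M, ⟨hM, hKM⟩, ?_⟩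
  rintro H ⟨hH, hKH⟩
  rw [hMM']
  exact hM'uniq H ⟨hH, hFK.trans hKH⟩

end Cfsg.Agent.S1399
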