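import Cfsg.Statements.S3910
import Mathlib
import Cfsg.Agent.S0015
import Cfsg.Agent.Lib.Helper24.NonCyclic
import Cfsg.Agent.Lib.Helper64.DirectFactor

set_option autoImplicit false
open Cfsg
open scoped commutatorElement

namespace Cfsg.Agent.S3910

open Subgroup

/-- In a cyclic subgroup, the elements killed by `d` all lie in the subgroup generated by any
element of order `d`. -/
theorem mem_zpowers_of_cyclic {G : Type*} [Group G] (A : Subgroup G) [Finite A] [hA : IsCyclic A]
    {h x : G} (hh : h ∈ A) (hx : x ∈ A) (hxd : x ^ orderOf h = 1) : x ∈ zpowers h := by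
  classical
  have : Fintype A := Fintype.ofFinite A
  have hd0 : 0 < orderOf h := by
    have : IsOfFinOrder (⟨h, hh⟩ : A) := isOfFinOrder_of_finite _
    have h2 : orderOf (⟨h, hh⟩ : A) = orderOf h := Subgroup.orderOf_mk h hh
    rw [← h2]
    exact this.orderOf_pos
  have hle := IsCyclic.card_pow_eq_one_le (α := A) hd0
  set S : Finset A := Finset.univ.filter (fun a : A => a ^ orderOf h = 1) with hS
  set T : Finset A := ((zpowers (⟨h, hh⟩ : A) : Set A)).toFinset with hT
  have hTS : T ⊆ S := by
    intro y hy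
    rw [hT, Set.mem_toFinset, SetLike.mem_coe] at hy
    rw [hS, Finset.mem_filter]
    refine ⟨Finset.mem_univ _, ?_⟩
    obtain ⟨k, rfl⟩ := mem_zpowers_iff.mp hy
    have h2 : orderOf (⟨h, hh⟩ : A) = orderOf h := Subgroup.orderOf_mk h hh
    rw [← h2, ← zpow_natCast, ← zpow_mul, mul_comm, zpow_mul, zpow_natCast, pow_orderOf_eq_one,
      one_zpow]
  have hTcard : T.card = orderOf h := by
    rw [hT, Set.toFinset_card, ← Nat.card_eq_fintype_card]
    have := Nat.card_zpowers (⟨h, hh⟩ : A)
    rw [Subgroup.orderOf_mk] at this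
    exact this
  have hTS' : T = S := Finset.eq_of_subset_of_card_le hTS (by rw [hTcard]; exact hle)
  have hxS : (⟨x, hx⟩ : A) ∈ S := by
    rw [hS, Finset.mem_filter]
    exact ⟨Finset.mem_univ _, Subtype.ext (by simpa using hxd)⟩
  rw [← hTS', hT, Set.mem_toFinset, SetLike.mem_coe] at hxS
  obtain ⟨k, hk⟩ := mem_zpowers_iff.mp hxS
  rw [mem_zpowers_iff]
  refine ⟨k, ?_⟩
  have := congrArg Subtype.val hk
  simpa using this

/-- In a finite nilpotent group, a `p`-element commutes with every element of order prime to `p`. -/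
theorem commute_of_nilpotent_coprime {G : Type*} [Group G] [Finite G] [hnil : Group.IsNilpotent G]
    {p : ℕ} [hp : Fact p.Prime] {g y : G} {k : ℕ} (hg : g ^ p ^ k = 1)
    (hy : (orderOf y).Coprime p) : Commute g y := by
  obtain ⟨P⟩ : Nonempty (Sylow p G) := inferInstance
  have hPn : (P : Subgroup G).Normal := inferInstance
  have hgP : g ∈ (P : Subgroup G) := by
    have hz : IsPGroup p (zpowers g) := by
      rintro ⟨z, hz⟩
      obtain ⟨n, rfl⟩ := mem_zpowers_iff.mp hz
      refine ⟨k, ?_⟩
      apply Subtype.ext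
      simp only [SubmonoidClass.mk_pow, OneMemClass.coe_one]
      rw [← zpow_natCast, ← zpow_mul, mul_comm, zpow_mul, zpow_natCast, hg, one_zpow]
    obtain ⟨Q, hQ⟩ := hz.exists_le_sylow
    have : Q = P := by
      have := Sylow.unique_of_normal P hPn
      exact Subsingleton.elim _ _
    rw [← this]
    exact hQ (mem_zpowers g)
  have hCn : (centralizer ((P : Subgroup G) : Set G)).Normal := inferInstance
  have hcop : (orderOf y).Coprime (centralizer ((P : Subgroup G) : Set G)).index := by
    apply Nat.Coprime.symm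
    apply Nat.coprime_of_dvd
    intro q hq hq1 hq2
    have : Fact q.Prime := ⟨hq⟩
    have hqp : q ≠ p := by
      intro h
      rw [h] at hq2
      have := Nat.Coprime.eq_one_of_dvd hy.symm hq2
      exact hp.out.one_lt.ne' this
    obtain ⟨Q⟩ : Nonempty (Sylow q G) := inferInstance
    have hQn : (Q : Subgroup G).Normal := inferInstance
    have hdis : Disjoint (P : Subgroup G) (Q : Subgroup G) :=
      IsPGroup.disjoint_of_ne p q (Ne.symm hqp) _ _ P.isPGroup' Q.isPGroup'
    have hQC : (Q : Subgroup G) ≤ centralizer ((P : Subgroup G) : Set G) := by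
      intro z hz a ha
      exact (Subgroup.commute_of_normal_of_disjoint _ _ hPn hQn hdis a z ha hz).eq
    have h3 : (centralizer ((P : Subgroup G) : Set G)).index ∣ (Q : Subgroup G).index :=
      Subgroup.index_dvd_of_le hQC
    exact Q.not_dvd_index (dvd_trans hq1 h3)
  have hyC : y ∈ centralizer ((P : Subgroup G) : Set G) :=
    Cfsg.Agent.Helper64.mem_of_coprime_index _ y hcop
  exact (hyC g hgP)

section Main

variable {G : Type*} [Group G]

theorem map_conj_eq_of_normal (A : Subgroup G) [hA : A.Normal] (g : G) :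
    A.map (MulAut.conj g).toMonoidHom = A := by
  ext x
  constructor
  · rintro ⟨a, ha, rfl⟩
    simpa using hA.conj_mem a ha g
  · intro hx
    refine ⟨g⁻¹ * x * g, ?_, by simp [mul_assoc]⟩
    have := hA.conj_mem x hx g⁻¹
    simpa using this

/-- Principle U: an abelian subgroup with the same order as a normal abelian subgroup equals it. -/
theorem eq_of_normal_of_card_eq
    (hB : ∀ A B : Subgroup G, IsMulCommutative ↥A → IsMulCommutative ↥B → Nat.card ↥A = Nat.card ↥B →
      ∃ g : G, B = A.map (MulAut.conj g).toMonoidHom)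
    (A B : Subgroup G) [A.Normal] (hA : IsMulCommutative A) (hBc : IsMulCommutative B)
    (h : Nat.card A = Nat.card B) : B = A := by
  obtain ⟨g, hg⟩ := hB A B hA hBc h
  rw [hg, map_conj_eq_of_normal]

/-- An element whose order is the order of an element of the normal subgroup `M` lies in `M`. -/
theorem mem_of_orderOf_eq
    (hB : ∀ A B : Subgroup G, IsMulCommutative ↥A → IsMulCommutative ↥B → Nat.card ↥A = Nat.card ↥B →
      ∃ g : G, B = A.map (MulAut.conj g).toMonoidHom)
    (M : Subgroup G) [hMn : M.Normal] {a m : G} (hm : m ∈ M) (hma : orderOf m = orderOf a) :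
    a ∈ M := by
  obtain ⟨g, hg⟩ := hB (zpowers m) (zpowers a) inferInstance inferInstance
    (by rw [Nat.card_zpowers, Nat.card_zpowers, hma])
  have ha : a ∈ (zpowers m).map (MulAut.conj g).toMonoidHom := by
    rw [← hg]; exact mem_zpowers a
  obtain ⟨b, hb, rfl⟩ := ha
  have := hMn.conj_mem b ((zpowers_le.mpr hm) hb) g
  simpa using this

variable [Finite G]

/-- Any two subgroups of prime order coincide. -/
theorem eq_of_card_prime [hnil : Group.IsNilpotent G]
    (hB : ∀ A B : Subgroup G, IsMulCommutative ↥A → IsMulCommutative ↥B → Nat.card ↥A = Nat.card ↥B →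
      ∃ g : G, B = A.map (MulAut.conj g).toMonoidHom)
    {p : ℕ} [hp : Fact p.Prime] (B₁ B₂ : Subgroup G) (h₁ : Nat.card B₁ = p) (h₂ : Nat.card B₂ = p) :
    B₁ = B₂ := by
  have hdvd : p ∣ Nat.card G := by rw [← h₁]; exact Subgroup.card_subgroup_dvd_card B₁
  obtain ⟨P⟩ : Nonempty (Sylow p G) := inferInstance
  have hPn : (P : Subgroup G).Normal := inferInstance
  have hPne : (P : Subgroup G) ≠ ⊥ := Sylow.ne_bot_of_dvd_card P hdvd
  have hne := Cfsg.Agent.S0015.normal_inf_center_ne_bot (P : Subgroup G) hPne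
  have hpg : IsPGroup p ((P : Subgroup G) ⊓ center G : Subgroup G) := P.isPGroup'.to_le inf_le_left
  obtain ⟨n, hn⟩ := IsPGroup.iff_card.mp hpg
  have hn0 : n ≠ 0 := by
    intro h0
    rw [h0, pow_zero] at hn
    exact hne (Subgroup.card_eq_one.mp hn)
  obtain ⟨z, hz⟩ := exists_prime_orderOf_dvd_card' p (by rw [hn]; exact dvd_pow_self p hn0)
  have hz' : orderOf (z : G) = p := by rw [Subgroup.orderOf_coe]; exact hz
  have hzc : (z : G) ∈ center G := z.2.2
  have hZn : (zpowers (z : G)).Normal := by
    refine ⟨fun x hx g => ?_⟩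
    have hxc : x ∈ center G := (zpowers_le.mpr hzc) hx
    rw [Subgroup.mem_center_iff] at hxc
    rw [hxc g, mul_inv_cancel_right]
    exact hx
  have hcard : Nat.card (zpowers (z : G)) = p := by rw [Nat.card_zpowers, hz']
  have hc : ∀ B : Subgroup G, Nat.card B = p → IsMulCommutative B := by
    intro B hBp
    have : IsCyclic B := isCyclic_of_prime_card hBp
    exact ⟨⟨(IsCyclic.commGroup (α := B)).mul_comm⟩⟩
  have e₁ := eq_of_normal_of_card_eq hB (zpowers (z : G)) B₁ inferInstance (hc B₁ h₁)
    (by rw [hcard, h₁])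
  have e₂ := eq_of_normal_of_card_eq hB (zpowers (z : G)) B₂ inferInstance (hc B₂ h₂)
    (by rw [hcard, h₂])
  rw [e₁, e₂]

/-- Every abelian subgroup is cyclic. -/
theorem isCyclic_of_comm [hnil : Group.IsNilpotent G]
    (hB : ∀ A B : Subgroup G, IsMulCommutative ↥A → IsMulCommutative ↥B → Nat.card ↥A = Nat.card ↥B →
      ∃ g : G, B = A.map (MulAut.conj g).toMonoidHom)
    (A : Subgroup G) [hA : IsMulCommutative A] : IsCyclic A := by
  by_contra hcyc
  obtain ⟨p, B, hp, hBA, hBexp, hBcard⟩ :=
    Cfsg.Agent.Helper24.exists_elementary_abelian_le_of_not_isCyclic A hcyc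
  have : Fact p.Prime := ⟨hp⟩
  have hBne : B ≠ ⊥ := by
    intro h
    rw [h, Subgroup.card_bot] at hBcard
    have := hp.one_lt
    nlinarith
  obtain ⟨⟨x, hxB⟩, hx1⟩ := Subgroup.ne_bot_iff_exists_ne_one.mp hBne
  have hx1' : x ≠ 1 := fun h => hx1 (Subtype.ext h)
  have hord : ∀ y ∈ B, y ≠ 1 → orderOf y = p := by
    intro y hy hy1
    have h1 : orderOf y ∣ p := orderOf_dvd_of_pow_eq_one (hBexp y hy)
    rcases (Nat.dvd_prime hp).mp h1 with h | h
    · exact absurd (orderOf_eq_one_iff.mp h) hy1
    · exact h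
  have hlt : zpowers x < B := by
    refine lt_of_le_of_ne (zpowers_le.mpr hxB) ?_
    intro h
    rw [← h, Nat.card_zpowers, hord x hxB hx1'] at hBcard
    have := hp.one_lt
    nlinarith
  obtain ⟨y, hyB, hyx⟩ := SetLike.exists_of_lt hlt
  have hy1 : y ≠ 1 := fun h => hyx (h ▸ one_mem _)
  have := eq_of_card_prime hB (zpowers x) (zpowers y)
    (by rw [Nat.card_zpowers, hord x hxB hx1']) (by rw [Nat.card_zpowers, hord y hyB hy1])
  apply hyx
  rw [this]
  exact mem_zpowers y

/-- A `p`-element of a normal cyclic subgroup is central. -/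
theorem mem_center_of_mem_cyclic_normal [hnil : Group.IsNilpotent G]
    (hB : ∀ A B : Subgroup G, IsMulCommutative ↥A → IsMulCommutative ↥B → Nat.card ↥A = Nat.card ↥B →
      ∃ g : G, B = A.map (MulAut.conj g).toMonoidHom)
    (A : Subgroup G) [A.Normal] [hAc : IsCyclic A] {p : ℕ} [hp : Fact p.Prime] {a : G} {k : ℕ}
    (haA : a ∈ A) (hak : orderOf a = p ^ k) : a ∈ center G := by
  rw [Subgroup.mem_center_iff]
  intro h
  suffices hc : Commute h a from hc.eq
  obtain ⟨l, m, hm, hn⟩ :=
    Nat.exists_eq_pow_mul_and_not_dvd (orderOf_pos h).ne' p hp.out.ne_one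
  have hm0 : m ≠ 0 := by
    intro h0
    rw [h0, mul_zero] at hn
    exact (orderOf_pos h).ne' hn
  have hcop : IsCoprime ((p ^ l : ℕ) : ℤ) (m : ℤ) := by
    rw [Nat.isCoprime_iff_coprime]
    exact Nat.Coprime.pow_left l ((Nat.Prime.coprime_iff_not_dvd hp.out).mpr hm)
  obtain ⟨u, v, huv⟩ := hcop
  have hh : h = (h ^ (p ^ l)) ^ u * (h ^ m) ^ v := by
    rw [← zpow_natCast h, ← zpow_natCast h, ← zpow_mul, ← zpow_mul, ← zpow_add,
      mul_comm _ u, mul_comm _ v, huv, zpow_one]
  rw [hh]
  apply Commute.mul_left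
  · apply Commute.zpow_left
    have h1 : (h ^ p ^ l) ^ m = 1 := by rw [← pow_mul, ← hn, pow_orderOf_eq_one]
    have hord : (orderOf (h ^ p ^ l)).Coprime p :=
      Nat.Coprime.coprime_dvd_left (orderOf_dvd_of_pow_eq_one h1)
        ((Nat.Prime.coprime_iff_not_dvd hp.out).mpr hm).symm
    exact (commute_of_nilpotent_coprime (g := a) (y := h ^ p ^ l) (k := k)
      (by rw [← hak, pow_orderOf_eq_one]) hord).symm
  · apply Commute.zpow_left
    have hord : orderOf (h ^ m) = p ^ l := by
      rw [orderOf_pow_of_dvd hm0 (by rw [hn]; exact dvd_mul_left _ _), hn,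
        Nat.mul_div_cancel _ (Nat.pos_of_ne_zero hm0)]
    rcases le_or_gt k l with hkl | hkl
    · have hord2 : orderOf ((h ^ m) ^ p ^ (l - k)) = p ^ k := by
        rw [orderOf_pow_of_dvd (pow_pos hp.out.pos _).ne'
          (by rw [hord]; exact pow_dvd_pow p (Nat.sub_le l k)), hord,
          Nat.pow_div (Nat.sub_le l k) hp.out.pos]
        congr 1
        omega
      have hmem : (h ^ m) ^ p ^ (l - k) ∈ A :=
        mem_of_orderOf_eq hB A haA (by rw [hak, hord2])
      have hz := mem_zpowers_of_cyclic A hmem haA (by rw [hord2, ← hak, pow_orderOf_eq_one])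
      obtain ⟨j, hj⟩ := mem_zpowers_iff.mp hz
      rw [← hj]
      exact ((Commute.refl (h ^ m)).pow_right _).zpow_right j
    · have hord2 : orderOf (a ^ p ^ (k - l)) = p ^ l := by
        rw [orderOf_pow_of_dvd (pow_pos hp.out.pos _).ne'
          (by rw [hak]; exact pow_dvd_pow p (Nat.sub_le k l)), hak,
          Nat.pow_div (Nat.sub_le k l) hp.out.pos]
        congr 1
        omega
      have hmem : h ^ m ∈ A := mem_of_orderOf_eq hB A (A.pow_mem haA _) (by rw [hord2, hord])
      have := (IsCyclic.commGroup (α := A)).mul_comm ⟨h ^ m, hmem⟩ ⟨a, haA⟩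
      exact congrArg Subtype.val this

end Main

/-- A finite nilpotent group in which any two abelian subgroups of the same order are conjugate is cyclic. -/
theorem result {G : Type*} [Group G] [Finite G] (hB : ∀ A B : Subgroup G, IsMulCommutative ↥A → IsMulCommutative ↥B → Nat.card ↥A = Nat.card ↥B → ∃ g : G, B = A.map (MulAut.conj g).toMonoidHom) (hnil : Group.IsNilpotent G) : IsCyclic G := by
  have hZ : center G = ⊤ := by
    by_contra hne
    have h12 : Subgroup.upperCentralSeries G 2 ≠ Subgroup.upperCentralSeries G 1 := by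
      intro h
      have hall : ∀ n, Subgroup.upperCentralSeries G (n + 1) = Subgroup.upperCentralSeries G 1 := by
        intro n
        induction n with
        | zero => rfl
        | succ n ih =>
          ext x
          constructor
          · intro hx
            have h3 : ∀ y, ⁅x, y⁆ ∈ Subgroup.upperCentralSeries G (n + 1) :=
              Subgroup.mem_upperCentralSeries_succ_iff.mp hx
            rw [ih] at h3
            have h2 : x ∈ Subgroup.upperCentralSeries G 2 :=
              Subgroup.mem_upperCentralSeries_succ_iff.mpr h3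
            rwa [h] at h2
          · intro hx
            rw [← h] at hx
            have h3 := Subgroup.mem_upperCentralSeries_succ_iff.mp hx
            apply Subgroup.mem_upperCentralSeries_succ_iff.mpr
            rw [ih]
            exact h3
      obtain ⟨n, hn⟩ := hnil.nilpotent'
      cases n with
      | zero =>
        apply hne
        rw [Subgroup.upperCentralSeries_zero] at hn
        rw [eq_top_iff, ← hn]
        exact bot_le
      | succ n =>
        rw [hall n, Subgroup.upperCentralSeries_one] at hn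
        exact hne hn
    have hlt : Subgroup.upperCentralSeries G 1 < Subgroup.upperCentralSeries G 2 :=
      lt_of_le_of_ne (Subgroup.upperCentralSeries_mono G (by norm_num)) (Ne.symm h12)
    obtain ⟨g₀, hg₀2, hg₀1⟩ := SetLike.exists_of_lt hlt
    rw [Subgroup.upperCentralSeries_one] at hg₀1
    -- choose such an element of minimal order
    obtain ⟨g, ⟨hg2, hg1⟩, hgmin⟩ :=
      WellFounded.has_min (measure (fun g : G => orderOf g)).wf
        {g : G | g ∈ Subgroup.upperCentralSeries G 2 ∧ g ∉ center G} ⟨g₀, hg₀2, hg₀1⟩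
    have hgmin' : ∀ x : G, x ∈ Subgroup.upperCentralSeries G 2 → orderOf x < orderOf g → x ∈ center G := by
      intro x hx2 hlt'
      by_contra hx1
      exact hgmin x ⟨hx2, hx1⟩ hlt'
    have hg_ne : g ≠ 1 := fun h => hg1 (h ▸ one_mem _)
    have hn1 : orderOf g ≠ 1 := fun h => hg_ne (orderOf_eq_one_iff.mp h)
    obtain ⟨p, hpp, hpdvd⟩ : ∃ p : ℕ, p.Prime ∧ p ∣ orderOf g :=
      ⟨_, Nat.minFac_prime hn1, Nat.minFac_dvd _⟩
    have : Fact p.Prime := ⟨hpp⟩
    obtain ⟨k, m, hm, hn⟩ :=
      Nat.exists_eq_pow_mul_and_not_dvd (orderOf_pos g).ne' p hpp.ne_one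
    have hm0 : m ≠ 0 := by
      intro h0
      rw [h0, mul_zero] at hn
      exact (orderOf_pos g).ne' hn
    have hk0 : k ≠ 0 := by
      intro h0
      rw [h0, pow_zero, one_mul] at hn
      apply hm
      rw [← hn]
      exact hpdvd
    have hm1 : m = 1 := by
      by_contra hm1
      have hpk1 : 1 < p ^ k := Nat.one_lt_pow hk0 hpp.one_lt
      have hm2 : 1 < m := by omega
      have ho1 : orderOf (g ^ m) = p ^ k := by
        rw [orderOf_pow_of_dvd hm0 (by rw [hn]; exact dvd_mul_left _ _), hn]
        exact Nat.mul_div_cancel _ (Nat.pos_of_ne_zero hm0)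
      have ho2 : orderOf (g ^ p ^ k) = m := by
        rw [orderOf_pow_of_dvd (by positivity) (by rw [hn]; exact dvd_mul_right _ _), hn]
        exact Nat.mul_div_cancel_left _ (by positivity)
      have hc1 : g ^ m ∈ center G := by
        apply hgmin' _ (Subgroup.pow_mem _ hg2 _)
        rw [ho1, hn]
        nlinarith
      have hc2 : g ^ p ^ k ∈ center G := by
        apply hgmin' _ (Subgroup.pow_mem _ hg2 _)
        rw [ho2, hn]
        nlinarith
      have hcop : IsCoprime ((p ^ k : ℕ) : ℤ) (m : ℤ) := by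
        rw [Nat.isCoprime_iff_coprime]
        exact Nat.Coprime.pow_left k ((Nat.Prime.coprime_iff_not_dvd hpp).mpr hm)
      obtain ⟨u, v, huv⟩ := hcop
      have hh : g = (g ^ (p ^ k)) ^ u * (g ^ m) ^ v := by
        rw [← zpow_natCast g, ← zpow_natCast g, ← zpow_mul, ← zpow_mul, ← zpow_add,
          mul_comm _ u, mul_comm _ v, huv, zpow_one]
      apply hg1
      rw [hh]
      exact Subgroup.mul_mem _ (Subgroup.zpow_mem _ hc2 _) (Subgroup.zpow_mem _ hc1 _)
    rw [hm1, mul_one] at hn
    -- the normal abelian subgroup `Z(G)⟨g⟩`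
    have hAle2 : center G ⊔ zpowers g ≤ Subgroup.upperCentralSeries G 2 := by
      refine sup_le ?_ (zpowers_le.mpr hg2)
      rw [← Subgroup.upperCentralSeries_one]
      exact Subgroup.upperCentralSeries_mono G (by norm_num)
    have hAn : (center G ⊔ zpowers g).Normal := by
      refine ⟨fun x hx h => ?_⟩
      have hx2 : x ∈ Subgroup.upperCentralSeries G 2 := hAle2 hx
      have h1 : ⁅x, h⁆ ∈ Subgroup.upperCentralSeries G 1 := Subgroup.mem_upperCentralSeries_succ_iff.mp hx2 h
      rw [Subgroup.upperCentralSeries_one] at h1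
      have h2 : h * x * h⁻¹ = (⁅x, h⁆)⁻¹ * x := by
        rw [commutatorElement_def]; group
      rw [h2]
      exact Subgroup.mul_mem _ (le_sup_left (a := center G) (Subgroup.inv_mem _ h1)) hx
    have hAc : IsMulCommutative (center G ⊔ zpowers g : Subgroup G) := by
      have hle : center G ⊔ zpowers g ≤ centralizer ((center G ⊔ zpowers g : Subgroup G) : Set G) := by
        refine sup_le (Subgroup.center_le_centralizer _) ?_
        rw [Subgroup.le_centralizer_iff]
        refine sup_le (Subgroup.center_le_centralizer _) ?_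
        intro x hx y hy
        obtain ⟨i, rfl⟩ := mem_zpowers_iff.mp hx
        obtain ⟨j, rfl⟩ := mem_zpowers_iff.mp hy
        rw [← zpow_add, ← zpow_add, add_comm]
      refine ⟨⟨fun a b => ?_⟩⟩
      apply Subtype.ext
      have := hle a.2 b.1 b.2
      simpa using this.symm
    have hAcyc : IsCyclic (center G ⊔ zpowers g : Subgroup G) :=
      isCyclic_of_comm hB _
    exact hg1 (mem_center_of_mem_cyclic_normal hB (center G ⊔ zpowers g)
      (le_sup_right (a := center G) (mem_zpowers g)) hn)
  have hc : IsMulCommutative (⊤ : Subgroup G) := by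
    refine ⟨⟨fun a b => ?_⟩⟩
    apply Subtype.ext
    have ha : (a : G) ∈ center G := by rw [hZ]; trivial
    have := (Subgroup.mem_center_iff.mp ha) b.1
    simpa using this.symm
  have hcyc : IsCyclic (⊤ : Subgroup G) := isCyclic_of_comm hB ⊤
  exact (Subgroup.topEquiv : (⊤ : Subgroup G) ≃* G).isCyclic.mp hcyc

end Cfsg.Agent.S3910
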