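import Cfsg.Statements.S4242
import Mathlib
import Cfsg.Agent.S3910
import Cfsg.Agent.S0023
import Cfsg.Agent.Lib.Helper2.Frobenius
import Cfsg.Agent.Lib.Helper55.HallCount

set_option autoImplicit false
open Cfsg

namespace Cfsg.Agent.S4242

open scoped Pointwise

theorem nilpotent_of_comm {H : Type*} [Group H] (h : ∀ a b : H, a * b = b * a) :
    Group.IsNilpotent H := by
  letI : CommGroup H := { (inferInstance : Group H) with mul_comm := h }
  exact CommGroup.isNilpotent

theorem nilpotent_of_le {G : Type*} [Group G] {X Y : Subgroup G} (h : X ≤ Y)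
    (hY : Group.IsNilpotent Y) : Group.IsNilpotent X := by
  haveI := hY
  exact Group.nilpotent_of_mulEquiv (Subgroup.subgroupOfEquivOfLe h)

/-- A `p`-element and a `p'`-element of a nilpotent subgroup commute. -/
theorem commute_of_mem_nilpotent {G : Type*} [Group G] [Finite G] (Y : Subgroup G)
    (hY : Group.IsNilpotent Y) (p : ℕ) [Fact p.Prime] {g y : G} (hg : g ∈ Y) (hy : y ∈ Y) {k : ℕ}
    (hgk : g ^ p ^ k = 1) (hyo : (orderOf y).Coprime p) : g * y = y * g := by
  haveI := hY
  have hg' : (⟨g, hg⟩ : Y) ^ p ^ k = 1 := by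
    apply Subtype.ext
    simpa using hgk
  have ho : (orderOf (⟨y, hy⟩ : Y)).Coprime p := by
    rw [← Subgroup.orderOf_coe]
    exact hyo
  have := (Cfsg.Agent.S3910.commute_of_nilpotent_coprime (G := Y) hg' ho).eq
  exact congrArg Subtype.val this

/-- Every proper subgroup of order divisible by `p` is nilpotent. -/
theorem proper_nilpotent {G : Type*} [Group G] [Finite G] (p : ℕ)
    (h : ∀ M : Subgroup G, IsCoatom M → p ∣ Nat.card M → Group.IsNilpotent M) (X : Subgroup G)
    (hX : X ≠ ⊤) (hpX : p ∣ Nat.card X) : Group.IsNilpotent X := by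
  rcases eq_top_or_exists_le_coatom X with h1 | ⟨M, hM, hXM⟩
  · exact absurd h1 hX
  · exact nilpotent_of_le hXM (h M hM (dvd_trans hpX (Subgroup.card_dvd_of_le hXM)))

/-- A nontrivial `p`-subgroup has order divisible by `p`, and its elements are killed by a
`p`-power. -/
theorem pgroup_facts {G : Type*} [Group G] [Finite G] (p : ℕ) [Fact p.Prime] (Q : Subgroup G)
    (hQ : IsPGroup p Q) : ∃ k : ℕ, Nat.card Q = p ^ k ∧ (∀ x ∈ Q, x ^ p ^ k = 1) ∧
      (Q ≠ ⊥ → p ∣ Nat.card Q) := by
  obtain ⟨k, hk⟩ := IsPGroup.iff_card.mp hQ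
  refine ⟨k, hk, ?_, ?_⟩
  · intro x hx
    have h1 : (⟨x, hx⟩ : Q) ^ Nat.card Q = 1 := pow_card_eq_one'
    rw [hk] at h1
    simpa using congrArg Subtype.val h1
  · intro hne
    rcases Nat.eq_zero_or_pos k with h0 | h0
    · exfalso
      rw [h0, pow_zero] at hk
      exact hne (Subgroup.card_eq_one.mp hk)
    · rw [hk]; exact dvd_pow_self p h0.ne'

theorem orderOf_coprime_of_mem {G : Type*} [Group G] [Finite G] (p : ℕ) (M : Subgroup G)
    (hM : (Nat.card M).Coprime p) {m : G} (hm : m ∈ M) : (orderOf m).Coprime p := by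
  have h1 : orderOf (⟨m, hm⟩ : M) ∣ Nat.card M := orderOf_dvd_natCard _
  rw [← Subgroup.orderOf_coe] at h1
  exact Nat.Coprime.coprime_dvd_left h1 hM

/-- The easy direction. -/
theorem backward {G : Type*} [Group G] [Finite G] (p : ℕ) (hp : p.Prime)
    (h : Group.IsNilpotent G ∨ Cfsg.IsMinimalNonNilpotent G ∨
        ∃ Z K : Subgroup G, Z.Normal ∧ K.Normal ∧ Z ⊓ K = ⊥ ∧ Z ⊔ K = ⊤ ∧ Nat.card Z = p ∧
          Cfsg.IsMinimalNonNilpotent K ∧ ¬ p ∣ Nat.card K) :
    ∀ M : Subgroup G, IsCoatom M → p ∣ Nat.card M → Group.IsNilpotent M := by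
  intro M hM hpM
  rcases h with h | h | ⟨Z, K, hZn, hKn, hZK, hsup, hZcard, hKmin, hpK⟩
  · haveI := h; infer_instance
  · exact h.2 M hM.1
  · haveI := hZn
    haveI := hKn
    haveI : Fact p.Prime := ⟨hp⟩
    have hKcop : (Nat.card K).Coprime p :=
      ((Nat.Prime.coprime_iff_not_dvd hp).mpr hpK).symm
    have hcomm : ∀ z ∈ Z, ∀ k ∈ K, Commute z k := fun z hz k hk =>
      Subgroup.commute_of_normal_of_disjoint Z K hZn hKn (disjoint_iff.mpr hZK) z k hz hk
    obtain ⟨x, hx⟩ := exists_prime_orderOf_dvd_card' (G := ↥M) p hpM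
    have hxp : (x : G) ^ p = 1 := by
      have h1 := pow_orderOf_eq_one x
      rw [hx] at h1
      exact_mod_cast congrArg Subtype.val h1
    have hx1 : (x : G) ≠ 1 := by
      intro h1
      have : x = 1 := Subtype.ext h1
      rw [this, orderOf_one] at hx
      exact hp.one_lt.ne hx
    -- `x ∈ Z`
    have hxZ : (x : G) ∈ Z := by
      have hxtop : (x : G) ∈ ((Z ⊔ K : Subgroup G) : Set G) := by rw [hsup]; trivial
      rw [Subgroup.normal_mul] at hxtop
      obtain ⟨z, hz, k, hk, hzk⟩ := hxtop
      have hzp : z ^ p = 1 := by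
        have h1 : (⟨z, hz⟩ : Z) ^ Nat.card Z = 1 := pow_card_eq_one'
        rw [hZcard] at h1
        simpa using congrArg Subtype.val h1
      have hkp : k ^ p = 1 := by
        have h2 : (z * k) ^ p = 1 := by
          change z * k = (x : G) at hzk
          rw [hzk]; exact hxp
        rw [(hcomm z hz k hk).mul_pow, hzp, one_mul] at h2
        exact h2
      have hk1 : k = 1 := by
        have h3 : orderOf k ∣ p := orderOf_dvd_of_pow_eq_one hkp
        have h4 : (orderOf k).Coprime p := orderOf_coprime_of_mem p K hKcop hk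
        have h5 : orderOf k = 1 := Nat.Coprime.eq_one_of_dvd h4 h3
        exact orderOf_eq_one_iff.mp h5
      change z * k = (x : G) at hzk
      rw [hk1, mul_one] at hzk
      rw [← hzk]; exact hz
    -- `Z ≤ M`
    have hZM : Z ≤ M := by
      have h1 : Subgroup.zpowers (x : G) ≤ Z := (Subgroup.zpowers_le).mpr hxZ
      have h2 : Nat.card (Subgroup.zpowers (x : G)) = p := by
        rw [Nat.card_zpowers, Subgroup.orderOf_coe, hx]
      have h3 : Subgroup.zpowers (x : G) = Z :=
        Subgroup.eq_of_le_of_card_ge h1 (by rw [h2, hZcard])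
      rw [← h3]
      exact (Subgroup.zpowers_le).mpr x.2
    -- `M = Z ⊔ (M ⊓ K)`
    have hMeq : M = Z ⊔ (M ⊓ K) := by
      apply le_antisymm
      · intro m hm
        have hmtop : m ∈ ((Z ⊔ K : Subgroup G) : Set G) := by rw [hsup]; trivial
        rw [Subgroup.normal_mul] at hmtop
        obtain ⟨z, hz, k, hk, hzk⟩ := hmtop
        change z * k = m at hzk
        have hkM : k ∈ M := by
          have : k = z⁻¹ * m := by rw [← hzk]; group
          rw [this]
          exact M.mul_mem (M.inv_mem (hZM hz)) hm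
        rw [← hzk]
        exact Subgroup.mul_mem _ (Subgroup.mem_sup_left hz)
          (Subgroup.mem_sup_right ⟨hkM, hk⟩)
      · exact sup_le hZM inf_le_left
    -- `M ⊓ K` is a proper subgroup of `K`
    have hne : (M ⊓ K).subgroupOf K ≠ ⊤ := by
      intro h1
      rw [Subgroup.subgroupOf_eq_top] at h1
      have h2 : K ≤ M := le_trans h1 inf_le_left
      have h3 : (⊤ : Subgroup G) ≤ M := by rw [← hsup]; exact sup_le hZM h2
      exact hM.1 (top_le_iff.mp h3)
    have hnil1 : Group.IsNilpotent ↥(M ⊓ K) := by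
      haveI := hKmin.2 _ hne
      exact Group.nilpotent_of_mulEquiv (Subgroup.subgroupOfEquivOfLe (inf_le_right))
    have hnilZ : Group.IsNilpotent ↥Z := by
      have : IsPGroup p Z := IsPGroup.of_card (n := 1) (by rw [hZcard, pow_one])
      exact this.isNilpotent
    haveI := hnil1
    haveI := hnilZ
    have hc : ∀ (z : ↥Z) (k : ↥(M ⊓ K)), Commute (Z.subtype z) ((M ⊓ K).subtype k) :=
      fun z k => hcomm z z.2 k (Subgroup.mem_inf.mp k.2).2
    have hrange : (MonoidHom.noncommCoprod Z.subtype (M ⊓ K).subtype hc).range = M := by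
      rw [MonoidHom.noncommCoprod_range, Subgroup.range_subtype, Subgroup.range_subtype, ← hMeq]
    have hnilr : Group.IsNilpotent ↥(MonoidHom.noncommCoprod Z.subtype (M ⊓ K).subtype hc).range :=
      Group.nilpotent_of_surjective (MonoidHom.noncommCoprod Z.subtype (M ⊓ K).subtype hc).rangeRestrict
        (MonoidHom.rangeRestrict_surjective _)
    exact nilpotent_of_le (le_of_eq hrange.symm) hnilr

/-- The case where the Sylow `p`-subgroup is normal. -/
theorem caseA {G : Type*} [Group G] [Finite G] (p : ℕ) [Fact p.Prime]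
    (h : ∀ M : Subgroup G, IsCoatom M → p ∣ Nat.card M → Group.IsNilpotent M)
    (M : Subgroup G) (hM : IsCoatom M) (hMnil : ¬ Group.IsNilpotent M) (hpM : ¬ p ∣ Nat.card M)
    (A : Subgroup G) (hA : IsPGroup p A) (hA1 : A ≠ ⊥) (hAn : A.Normal) :
    ∃ Z K : Subgroup G, Z.Normal ∧ K.Normal ∧ Z ⊓ K = ⊥ ∧ Z ⊔ K = ⊤ ∧ Nat.card Z = p ∧
          Cfsg.IsMinimalNonNilpotent K ∧ ¬ p ∣ Nat.card K := by
  haveI := hAn
  have hp : p.Prime := Fact.out
  have hprop := proper_nilpotent p h
  obtain ⟨a, hAcard, hApow, hAdvd⟩ := pgroup_facts p A hA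
  have hpA : p ∣ Nat.card A := hAdvd hA1
  have hMcop : (Nat.card M).Coprime p := ((Nat.Prime.coprime_iff_not_dvd hp).mpr hpM).symm
  have hAM : ¬ A ≤ M := fun hle => hpM (dvd_trans hpA (Subgroup.card_dvd_of_le hle))
  have hsup : A ⊔ M = ⊤ := hM.2 _ (right_lt_sup.mpr hAM)
  have hinf : A ⊓ M = ⊥ := by
    apply disjoint_iff.mp
    apply Subgroup.disjoint_of_coprime_natCard
    rw [hAcard]
    exact Nat.Coprime.pow_left a hMcop.symm
  have key : ∀ H₁ : Subgroup G, H₁ ≤ M → H₁ ≠ M → Group.IsNilpotent ↥(A ⊔ H₁) := by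
    intro H₁ hle hne
    apply hprop
    · intro htop
      apply hne
      apply le_antisymm hle
      intro m hm
      have hmtop : m ∈ ((A ⊔ H₁ : Subgroup G) : Set G) := by rw [htop]; trivial
      rw [Subgroup.normal_mul] at hmtop
      obtain ⟨x, hx, y, hy, hxy⟩ := hmtop
      change x * y = m at hxy
      have hxM : x ∈ M := by
        have : x = m * y⁻¹ := by rw [← hxy]; group
        rw [this]; exact M.mul_mem hm (M.inv_mem (hle hy))
      have hx1 : x = 1 := by
        have : x ∈ A ⊓ M := ⟨hx, hxM⟩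
        rw [hinf] at this; exact Subgroup.mem_bot.mp this
      rw [← hxy, hx1, one_mul]; exact hy
    · exact dvd_trans hpA (Subgroup.card_dvd_of_le le_sup_left)
  have key2 : ∀ H₁ : Subgroup G, H₁ ≤ M → H₁ ≠ M →
      Group.IsNilpotent ↥H₁ ∧ ∀ x ∈ A, ∀ y ∈ H₁, x * y = y * x := by
    intro H₁ hle hne
    have hnil := key H₁ hle hne
    refine ⟨nilpotent_of_le le_sup_right hnil, ?_⟩
    intro x hx y hy
    exact commute_of_mem_nilpotent (A ⊔ H₁) hnil p (Subgroup.mem_sup_left hx)
      (Subgroup.mem_sup_right hy) (hApow x hx) (orderOf_coprime_of_mem p M hMcop (hle hy))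
  have hMmin : Cfsg.IsMinimalNonNilpotent ↥M := by
    refine ⟨hMnil, ?_⟩
    intro H₀ hH₀
    have hle : H₀.map M.subtype ≤ M := Subgroup.map_subtype_le H₀
    have hne : H₀.map M.subtype ≠ M := by
      intro heq
      apply hH₀
      rw [eq_top_iff]
      intro m _
      have hm : (m : G) ∈ H₀.map M.subtype := by rw [heq]; exact m.2
      obtain ⟨m', hm', hmm⟩ := Subgroup.mem_map.mp hm
      have : m' = m := Subtype.ext hmm
      rw [← this]; exact hm'
    haveI := (key2 _ hle hne).1
    exact Group.nilpotent_of_mulEquiv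
      (Subgroup.equivMapOfInjective H₀ M.subtype M.subtype_injective).symm
  have hcent : ∀ m ∈ M, ∀ x ∈ A, x * m = m * x := by
    intro m hm x hx
    have hle : Subgroup.zpowers m ≤ M := (Subgroup.zpowers_le).mpr hm
    have hne : Subgroup.zpowers m ≠ M := by
      intro heq
      apply hMnil
      rw [← heq]
      exact nilpotent_of_comm (fun a b => mul_comm' a b)
    exact (key2 _ hle hne).2 x hx m (Subgroup.mem_zpowers m)
  have hMn : M.Normal := by
    rw [← Subgroup.normalizer_eq_top_iff, eq_top_iff, ← hsup]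
    apply sup_le
    · intro x hx
      rw [Subgroup.mem_normalizer_iff]
      intro m
      constructor
      · intro hm
        have : x * m * x⁻¹ = m := by rw [hcent m hm x hx]; group
        rw [this]; exact hm
      · intro hm
        have h1 := hcent _ hm x hx
        have h2 : x * (x * m * x⁻¹) = x * m := by rw [h1]; group
        have h3 := mul_left_cancel h2
        rw [← h3]; exact hm
    · exact Subgroup.le_normalizer
  haveI := hMn
  have hAp : Nat.card A = p := by
    by_contra hne
    obtain ⟨x, hx⟩ := exists_prime_orderOf_dvd_card' (G := ↥A) p hpA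
    have hP₁A : Subgroup.zpowers (x : G) ≤ A := (Subgroup.zpowers_le).mpr x.2
    have hP₁card : Nat.card (Subgroup.zpowers (x : G)) = p := by
      rw [Nat.card_zpowers, Subgroup.orderOf_coe, hx]
    have hP₁ne : Subgroup.zpowers (x : G) ≠ A := by
      intro heq
      apply hne
      rw [← hP₁card, heq]
    have hYnil : Group.IsNilpotent ↥(Subgroup.zpowers (x : G) ⊔ M) := by
      apply hprop
      · intro htop
        apply hP₁ne
        apply le_antisymm hP₁A
        intro y hy
        have hytop : y ∈ ((Subgroup.zpowers (x : G) ⊔ M : Subgroup G) : Set G) := by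
          rw [htop]; trivial
        rw [Subgroup.mul_normal] at hytop
        obtain ⟨b, hb, m, hm, hbm⟩ := hytop
        change b * m = y at hbm
        have hmA : m ∈ A := by
          have : m = b⁻¹ * y := by rw [← hbm]; group
          rw [this]; exact A.mul_mem (A.inv_mem (hP₁A hb)) hy
        have hm1 : m = 1 := by
          have : m ∈ A ⊓ M := ⟨hmA, hm⟩
          rw [hinf] at this; exact Subgroup.mem_bot.mp this
        rw [← hbm, hm1, mul_one]; exact hb
      · exact dvd_trans (by rw [hP₁card])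
          (Subgroup.card_dvd_of_le (le_sup_left : Subgroup.zpowers (x : G) ≤ _ ⊔ M))
    exact hMnil (nilpotent_of_le le_sup_right hYnil)
  exact ⟨A, M, hAn, hMn, hinf, hsup, hAp, hMmin, hpM⟩

/-- If some maximal subgroup is a non-nilpotent `p'`-group, there is a nontrivial normal
`p`-subgroup. -/
theorem exists_normal_pgroup {G : Type*} [Group G] [Finite G] (p : ℕ) [Fact p.Prime]
    (hpG : p ∣ Nat.card G)
    (h : ∀ M : Subgroup G, IsCoatom M → p ∣ Nat.card M → Group.IsNilpotent M)
    (M : Subgroup G) (hM : IsCoatom M) (hMnil : ¬ Group.IsNilpotent M) (hpM : ¬ p ∣ Nat.card M) :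
    ∃ Q : Subgroup G, Q.Normal ∧ IsPGroup p Q ∧ Q ≠ ⊥ := by
  by_contra hQ
  have hp : p.Prime := Fact.out
  have hprop := proper_nilpotent p h
  have hMcop : (Nat.card M).Coprime p := ((Nat.Prime.coprime_iff_not_dvd hp).mpr hpM).symm
  have hF : Cfsg.Agent.Helper2.FrobCond p G := by
    intro X hX g hg hgo
    obtain ⟨k, hXcard, hXpow, hXdvd⟩ := pgroup_facts p X hX
    rw [Subgroup.mem_centralizer_iff]
    intro x hx
    by_cases hXb : X = ⊥
    · rw [hXb] at hx
      have : x = 1 := Subgroup.mem_bot.mp hx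
      rw [this, one_mul, mul_one]
    · have hNne : Subgroup.normalizer (X : Set G) ≠ ⊤ := by
        intro htop
        exact hQ ⟨X, Subgroup.normalizer_eq_top_iff.mp htop, hX, hXb⟩
      have hNnil := hprop _ hNne
        (dvd_trans (hXdvd hXb) (Subgroup.card_dvd_of_le Subgroup.le_normalizer))
      exact commute_of_mem_nilpotent _ hNnil p (Subgroup.le_normalizer hx) hg (hXpow x hx) hgo
  obtain ⟨P', N, hNn, hNc⟩ := Cfsg.Agent.Helper2.frobenius p hF
  haveI := hNn
  have hMN : M ≤ N := fun m hm =>
    (Cfsg.Agent.Helper2.mem_normalPComplement_iff P' N hNc m).mpr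
      (orderOf_coprime_of_mem p M hMcop hm)
  have hP'1 : (P' : Subgroup G) ≠ ⊥ := P'.ne_bot_of_dvd_card hpG
  have hNtop : N ≠ ⊤ := by
    intro htop
    have h1 := hNc.card_mul_card
    rw [htop, Subgroup.card_top] at h1
    have hpos : 0 < Nat.card G := Nat.card_pos
    have h2 : Nat.card (P' : Subgroup G) = 1 := by
      have : Nat.card G * Nat.card (P' : Subgroup G) = Nat.card G * 1 := by rw [h1, mul_one]
      exact Nat.eq_of_mul_eq_mul_left hpos this
    exact hP'1 (Subgroup.card_eq_one.mp h2)
  have hMeqN : M = N := by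
    by_contra hne
    exact hNtop (hM.2 N (lt_of_le_of_ne hMN hne))
  obtain ⟨a, hAcard, hApow, hAdvd⟩ := pgroup_facts p (P' : Subgroup G) P'.isPGroup'
  have hpA : p ∣ Nat.card (P' : Subgroup G) := hAdvd hP'1
  have hNcop : (Nat.card N).Coprime p := by rw [← hMeqN]; exact hMcop
  have hNnil : ¬ Group.IsNilpotent ↥N := by rw [← hMeqN]; exact hMnil
  have hAN : (P' : Subgroup G) ≤ Subgroup.normalizer (N : Set G) := by
    rw [Subgroup.normalizer_eq_top_iff.mpr hNn]; exact le_top
  have hcopAN : (Nat.card (P' : Subgroup G)).Coprime (Nat.card N) := by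
    rw [hAcard]; exact Nat.Coprime.pow_left a hNcop.symm
  have hAsolv : Group.IsSolvable ↥(P' : Subgroup G) := by
    haveI : Group.IsNilpotent ↥(P' : Subgroup G) := P'.isPGroup'.isNilpotent
    infer_instance
  have hS : ∀ r : ℕ, r.Prime → ∃ S₁ : Subgroup G, S₁ ≤ N ∧
      Nat.card S₁ = r ^ (Nat.card N).factorization r ∧
      ∀ x ∈ (P' : Subgroup G), ∀ s ∈ S₁, x * s = s * x := by
    intro r hr
    haveI : Fact r.Prime := ⟨hr⟩
    obtain ⟨S, hSn⟩ := Cfsg.Agent.S0023.result (P' : Subgroup G) N hAN hcopAN (Or.inl hAsolv) r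
    have hS₁N : (S : Subgroup N).map N.subtype ≤ N := Subgroup.map_subtype_le _
    have hS₁card : Nat.card ((S : Subgroup N).map N.subtype) =
        r ^ (Nat.card N).factorization r := by
      rw [← Sylow.card_eq_multiplicity S]
      exact (Nat.card_congr (Subgroup.equivMapOfInjective (S : Subgroup N) N.subtype
        N.subtype_injective).toEquiv).symm
    refine ⟨(S : Subgroup N).map N.subtype, hS₁N, hS₁card, ?_⟩
    have hS₁ne : (S : Subgroup N).map N.subtype ≠ N := by
      intro heq
      apply hNnil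
      have hc : Nat.card N = r ^ (Nat.card N).factorization r := by
        rw [← hS₁card, heq]
      have : IsPGroup r ↥N := IsPGroup.of_card hc
      exact this.isNilpotent
    have hYne : (S : Subgroup N).map N.subtype ⊔ (P' : Subgroup G) ≠ ⊤ := by
      intro htop
      have hS₁n : ((S : Subgroup N).map N.subtype).Normal := by
        rw [← Subgroup.normalizer_eq_top_iff, eq_top_iff, ← htop]
        exact sup_le Subgroup.le_normalizer hSn
      haveI := hS₁n
      have e1 := Subgroup.relIndex_mul_relIndex ⊥ (P' : Subgroup G)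
        ((P' : Subgroup G) ⊔ (S : Subgroup N).map N.subtype) bot_le le_sup_left
      rw [Subgroup.relIndex_bot_left, Subgroup.relIndex_bot_left,
        Cfsg.Agent.Helper55.HallCount.relIndex_sup_self_left, sup_comm, htop,
        Subgroup.card_top] at e1
      have e2 := hNc.card_mul_card
      have e3 : (P' : Subgroup G).relIndex ((S : Subgroup N).map N.subtype) ∣
          Nat.card ((S : Subgroup N).map N.subtype) := Subgroup.relIndex_dvd_card _ _
      have hApos : 0 < Nat.card (P' : Subgroup G) := Nat.card_pos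
      have e4 : Nat.card N = (P' : Subgroup G).relIndex ((S : Subgroup N).map N.subtype) := by
        have : Nat.card (P' : Subgroup G) * Nat.card N = Nat.card (P' : Subgroup G) *
            (P' : Subgroup G).relIndex ((S : Subgroup N).map N.subtype) := by
          rw [e1, mul_comm, e2]
        exact Nat.eq_of_mul_eq_mul_left hApos this
      have e5 : Nat.card N ≤ Nat.card ((S : Subgroup N).map N.subtype) := by
        rw [e4]; exact Nat.le_of_dvd Nat.card_pos e3
      exact hS₁ne (Subgroup.eq_of_le_of_card_ge hS₁N e5)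
    have hYnil : Group.IsNilpotent ↥((S : Subgroup N).map N.subtype ⊔ (P' : Subgroup G)) :=
      hprop _ hYne (dvd_trans hpA (Subgroup.card_dvd_of_le le_sup_right))
    intro x hx s hs
    exact commute_of_mem_nilpotent _ hYnil p (Subgroup.mem_sup_right hx)
      (Subgroup.mem_sup_left hs) (hApow x hx) (orderOf_coprime_of_mem p N hNcop (hS₁N hs))
  have hNcent : N ≤ Subgroup.centralizer ((P' : Subgroup G) : Set G) := by
    have hCN : Subgroup.centralizer ((P' : Subgroup G) : Set G) ⊓ N ≤ N := inf_le_right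
    have hdvd : Nat.card N ∣
        Nat.card ↥(Subgroup.centralizer ((P' : Subgroup G) : Set G) ⊓ N) := by
      rw [← Nat.factorization_le_iff_dvd Nat.card_pos.ne' Nat.card_pos.ne']
      intro r
      by_cases hr : r.Prime
      · obtain ⟨S₁, hS₁N, hS₁card, hS₁c⟩ := hS r hr
        have hS₁C : S₁ ≤ Subgroup.centralizer ((P' : Subgroup G) : Set G) ⊓ N := by
          intro s hs
          refine ⟨?_, hS₁N hs⟩
          show s ∈ Subgroup.centralizer _
          rw [Subgroup.mem_centralizer_iff]
          intro x hx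
          exact hS₁c x hx s hs
        have := Subgroup.card_dvd_of_le hS₁C
        rw [hS₁card] at this
        exact (Nat.Prime.pow_dvd_iff_le_factorization hr Nat.card_pos.ne').mp this
      · rw [Nat.factorization_eq_zero_of_not_prime _ hr]; exact Nat.zero_le _
    have hCeq : Subgroup.centralizer ((P' : Subgroup G) : Set G) ⊓ N = N :=
      Subgroup.eq_of_le_of_card_ge hCN (Nat.le_of_dvd Nat.card_pos hdvd)
    rw [← hCeq]; exact inf_le_left
  have hAnorm : (P' : Subgroup G).Normal := by
    rw [← Subgroup.normalizer_eq_top_iff, eq_top_iff, ← hNc.sup_eq_top]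
    exact sup_le (le_trans hNcent (Subgroup.centralizer_le_normalizer _)) Subgroup.le_normalizer
  exact hQ ⟨(P' : Subgroup G), hAnorm, P'.isPGroup', hP'1⟩

/-- The hard direction. -/
theorem forward {G : Type*} [Group G] [Finite G] (p : ℕ) (hp : p.Prime) (hpG : p ∣ Nat.card G)
    (h : ∀ M : Subgroup G, IsCoatom M → p ∣ Nat.card M → Group.IsNilpotent M) :
    Group.IsNilpotent G ∨ Cfsg.IsMinimalNonNilpotent G ∨
        ∃ Z K : Subgroup G, Z.Normal ∧ K.Normal ∧ Z ⊓ K = ⊥ ∧ Z ⊔ K = ⊤ ∧ Nat.card Z = p ∧
          Cfsg.IsMinimalNonNilpotent K ∧ ¬ p ∣ Nat.card K := by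
  haveI : Fact p.Prime := ⟨hp⟩
  by_cases hall : ∀ M : Subgroup G, IsCoatom M → Group.IsNilpotent M
  · by_cases hG : Group.IsNilpotent G
    · left; exact hG
    · right; left
      refine ⟨hG, fun H hH => ?_⟩
      rcases eq_top_or_exists_le_coatom H with h1 | ⟨M, hM, hHM⟩
      · exact absurd h1 hH
      · exact nilpotent_of_le hHM (hall M hM)
  · push Not at hall
    obtain ⟨M, hM, hMnil⟩ := hall
    have hpM : ¬ p ∣ Nat.card M := fun hd => hMnil (h M hM hd)
    right; right
    obtain ⟨Q, hQn, hQp, hQ1⟩ := exists_normal_pgroup p hpG h M hM hMnil hpM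
    exact caseA p h M hM hMnil hpM Q hQp hQ1 hQn

/-- Let G be a finite group and p a prime dividing its order. Every maximal subgroup of G of order divisible by p is nilpotent if and only if G is nilpotent, or G is a minimal non-nilpotent group, or G is the internal direct product of a normal subgroup of order p and a normal minimal non-nilpotent subgroup of order prime to p. -/
theorem result {G : Type*} [Group G] [Finite G] (p : ℕ) (hp : p.Prime) (hpG : p ∣ Nat.card G) :
    (∀ M : Subgroup G, IsCoatom M → p ∣ Nat.card M → Group.IsNilpotent M) ↔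
      (Group.IsNilpotent G ∨ Cfsg.IsMinimalNonNilpotent G ∨
        ∃ Z K : Subgroup G, Z.Normal ∧ K.Normal ∧ Z ⊓ K = ⊥ ∧ Z ⊔ K = ⊤ ∧ Nat.card Z = p ∧
          Cfsg.IsMinimalNonNilpotent K ∧ ¬ p ∣ Nat.card K) :=
  ⟨forward p hp hpG, backward p hp⟩

end Cfsg.Agent.S4242
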