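import Cfsg.Statements.S1247
import Cfsg.Agent.Lib.Helper21.BenderMax
import Cfsg.Agent.Lib.Helper21.CharPLocal

set_option autoImplicit false
open Cfsg

namespace Cfsg.Agent.S1247

open Subgroup Cfsg.Agent.Helper21

section Aux

variable {G : Type*} [Group G]

/-- `A` normalizes the image of a normal subgroup of `A`. -/
theorem le_normalizer_map_subtype (A : Subgroup G) (W : Subgroup ↥A) [hW : W.Normal] :
    A ≤ normalizer ((W.map A.subtype : Subgroup G) : Set G) := by
  have h := Subgroup.le_normalizer_map (H := W) A.subtype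
  rw [Subgroup.normalizer_eq_top W, ← MonoidHom.range_eq_map, Subgroup.range_subtype] at h
  exact h

/-- In a simple group, the normalizer of (the image of) a nontrivial normal subgroup of a maximal
subgroup `A` is `A`. -/
theorem normalizer_map_subtype_eq [IsSimpleGroup G] (A : Subgroup G) (hA : IsCoatom A)
    (W : Subgroup ↥A) [W.Normal] (hW : W ≠ ⊥) :
    normalizer ((W.map A.subtype : Subgroup G) : Set G) = A := by
  rcases hA.le_iff.1 (le_normalizer_map_subtype A W) with h | h
  · exfalso
    have hn : (W.map A.subtype).Normal := Subgroup.normalizer_eq_top_iff.1 h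
    rcases hn.eq_bot_or_eq_top with h0 | h1
    · exact hW ((Subgroup.map_eq_bot_iff_of_injective _ A.subtype_injective).1 h0)
    · apply hA.1
      rw [eq_top_iff, ← h1]
      exact Subgroup.map_subtype_le W
  · exact h

/-- The centralizer of a subgroup containing the image of a nontrivial normal subgroup of the
maximal subgroup `A` lies in `A`. -/
theorem centralizer_le_of_map_le [IsSimpleGroup G] (A : Subgroup G) (hA : IsCoatom A)
    (W : Subgroup ↥A) [W.Normal] (hW : W ≠ ⊥) (T : Subgroup G) (hWT : W.map A.subtype ≤ T) :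
    centralizer (T : Set G) ≤ A := by
  calc centralizer (T : Set G) ≤ centralizer ((W.map A.subtype : Subgroup G) : Set G) :=
        Subgroup.centralizer_le (by exact_mod_cast hWT)
    _ ≤ normalizer ((W.map A.subtype : Subgroup G) : Set G) := Subgroup.centralizer_le_normalizer _
    _ = A := normalizer_map_subtype_eq A hA W hW

/-- transfer of normalization to the subgroup `A` -/
theorem subgroupOf_le_normalizer_subgroupOf {H K : Subgroup G} (A : Subgroup G)
    (h : H ≤ normalizer (K : Set G)) :
    H.subgroupOf A ≤ normalizer ((K.subgroupOf A : Subgroup ↥A) : Set ↥A) :=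
  (Subgroup.comap_mono h).trans (Subgroup.le_normalizer_comap _)

/-- transfer of centralization from the subgroup `A` -/
theorem commute_of_le_centralizer_subgroupOf (A : Subgroup G) (W : Subgroup ↥A) (D : Subgroup G)
    (h : W ≤ centralizer ((D.subgroupOf A : Subgroup ↥A) : Set ↥A)) (hDA : D ≤ A) {w d : G}
    (hw : w ∈ W.map A.subtype) (hd : d ∈ D) : d * w = w * d := by
  obtain ⟨w', hw', rfl⟩ := hw
  have := Subgroup.mem_centralizer_iff.1 (h hw') ⟨d, hDA hd⟩ (Subgroup.mem_subgroupOf.2 hd)
  exact congrArg Subtype.val this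

end Aux

section Setup

variable {G : Type*} [Group G] [Finite G]

/-- internal form of the hypotheses on `S` -/
theorem internal_hyps (A S : Subgroup G)
    (hSF : S ≤ (Cfsg.generalizedFittingSubgroup ↥A).map A.subtype)
    (hSsn : (S.subgroupOf ((Cfsg.generalizedFittingSubgroup ↥A).map A.subtype)).IsSubnormal)
    (hSC : (Cfsg.generalizedFittingSubgroup ↥A).map A.subtype ⊓ Subgroup.centralizer (S : Set G) ≤ S) :
    S ≤ A ∧ S.subgroupOf A ≤ Cfsg.generalizedFittingSubgroup ↥A ∧ (S.subgroupOf A).IsSubnormal ∧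
      Cfsg.generalizedFittingSubgroup ↥A ⊓ centralizer ((S.subgroupOf A : Subgroup ↥A) : Set ↥A) ≤
        S.subgroupOf A := by
  set Fs := Cfsg.generalizedFittingSubgroup ↥A with hFs
  have hSA : S ≤ A := hSF.trans (Subgroup.map_subtype_le _)
  have hSF' : S.subgroupOf A ≤ Fs := by
    intro x hx
    obtain ⟨y, hy, hyx⟩ := hSF (Subgroup.mem_subgroupOf.1 hx)
    have : y = x := A.subtype_injective hyx
    rwa [← this]
  have hFn : Fs.Normal := Helper29.generalizedFittingSubgroup_normal
  refine ⟨hSA, hSF', ?_, ?_⟩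
  · have h1 := hSsn.comap (A.subtype.subgroupMap Fs)
    have h2 := h1.trans' hFn.isSubnormal
    have heq : ((S.subgroupOf (Fs.map A.subtype)).comap (A.subtype.subgroupMap Fs)).map Fs.subtype =
        S.subgroupOf A := by
      ext x
      constructor
      · rintro ⟨y, hy, rfl⟩
        have hy' := Subgroup.mem_subgroupOf.1 (Subgroup.mem_comap.1 hy)
        rw [Subgroup.mem_subgroupOf]
        exact hy'
      · intro hx
        refine ⟨⟨x, hSF' hx⟩, ?_, rfl⟩
        apply Subgroup.mem_comap.2
        apply Subgroup.mem_subgroupOf.2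
        exact Subgroup.mem_subgroupOf.1 hx
    rwa [heq] at h2
  · intro x hx
    obtain ⟨hxF, hxC⟩ := Subgroup.mem_inf.1 hx
    rw [Subgroup.mem_subgroupOf]
    apply hSC
    refine Subgroup.mem_inf.2 ⟨Subgroup.mem_map_of_mem _ hxF, ?_⟩
    rw [Subgroup.mem_centralizer_iff]
    intro s hs
    have := Subgroup.mem_centralizer_iff.1 hxC ⟨s, hSA hs⟩ (Subgroup.mem_subgroupOf.2 hs)
    exact congrArg Subtype.val this

end Setup

section KeyB

variable {G : Type*} [Group G] [Finite G] [IsSimpleGroup G]

/-- The key step for part (b): a `p`-subgroup `P` of `G` normalized by `S` centralizes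
`E(A)` and `O_r(A)` for all primes `r ≠ p`, when `p` divides `|F(A)|`. -/
theorem key_b (A : Subgroup G) (hA : IsCoatom A) (S : Subgroup G) (hSA : S ≤ A)
    (hSF' : S.subgroupOf A ≤ Cfsg.generalizedFittingSubgroup ↥A)
    (hsn' : (S.subgroupOf A).IsSubnormal)
    (hSC' : Cfsg.generalizedFittingSubgroup ↥A ⊓
      centralizer ((S.subgroupOf A : Subgroup ↥A) : Set ↥A) ≤ S.subgroupOf A)
    (p : ℕ) [hpF : Fact p.Prime] (hpN : p ∣ Nat.card ↥(Cfsg.fittingSubgroup ↥A))
    (P : Subgroup G) (hPp : IsPGroup p ↥P) (hSP : S ≤ normalizer (P : Set G)) :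
    layer ↥A ⊔ ⨆ r : {r : ℕ // r.Prime ∧ r ≠ p}, pCore (r : ℕ) ↥A ≤
      (centralizer (P : Set G)).subgroupOf A := by
  classical
  have hp : p.Prime := hpF.out
  set Fs := Cfsg.generalizedFittingSubgroup ↥A with hFs
  set S' : Subgroup ↥A := S.subgroupOf A with hS'
  have hE' : layer ↥A ≤ S' := layer_le_of_selfCentralizing S' hsn' hSC'
  set C' : Subgroup ↥A := (centralizer (P : Set G)).subgroupOf A with hC'
  -- it suffices to show `P ≤ A`
  have hfinish : P ≤ A →
      layer ↥A ⊔ ⨆ r : {r : ℕ // r.Prime ∧ r ≠ p}, pCore (r : ℕ) ↥A ≤ C' := by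
    intro hPA
    have hD : IsPGroup p ↥(P.subgroupOf A) := hPp.comap_of_injective A.subtype A.subtype_injective
    have hSD : S' ≤ normalizer ((P.subgroupOf A : Subgroup ↥A) : Set ↥A) :=
      subgroupOf_le_normalizer_subgroupOf A hSP
    have hcent : centralizer ((P.subgroupOf A : Subgroup ↥A) : Set ↥A) ≤ C' := by
      intro a ha
      rw [hC', Subgroup.mem_subgroupOf, Subgroup.mem_centralizer_iff]
      intro h hh
      have := Subgroup.mem_centralizer_iff.1 ha ⟨h, hPA hh⟩ (Subgroup.mem_subgroupOf.2 hh)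
      exact congrArg Subtype.val this
    apply sup_le
    · exact (layer_le_centralizer_of_le_normalizer S' hE' _ hD hSD).trans hcent
    · apply iSup_le
      rintro ⟨r, hr, hrp⟩
      have := Fact.mk hr
      exact (pCore_le_centralizer_of_le_normalizer S' hSF' hE' hSC' _ hD hSD r hrp).trans hcent
  -- the subgroups `R = O_p(A)`, `W`, `T_p`
  set R : Subgroup ↥A := pCore p ↥A with hR
  have hRne : R ≠ ⊥ := pCore_ne_bot_of_dvd p hpN
  have hRp : IsPGroup p ↥R := Helper70.pCore_isPGroup
  set W : Subgroup ↥A := R ⊓ centralizer (Fs : Set ↥A) with hW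
  have hWn : W.Normal := inferInstance
  have hWne : W ≠ ⊥ := pCore_inf_centralizer_ne_bot p hRne
  have hWS : W ≤ S' := pCore_inf_centralizer_generalizedFittingSubgroup_le S' hSF' hSC' p
  set Tp : Subgroup G := S ⊓ R.map A.subtype with hTp
  have hWT : W.map A.subtype ≤ Tp := by
    rintro _ ⟨w, hw, rfl⟩
    exact Subgroup.mem_inf.2 ⟨Subgroup.mem_subgroupOf.1 (hWS hw),
      Subgroup.mem_map_of_mem _ (Subgroup.mem_inf.1 hw).1⟩
  have hCT : centralizer (Tp : Set G) ≤ A := centralizer_le_of_map_le A hA W hWne Tp hWT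
  set P₁ : Subgroup G := P ⊓ centralizer (Tp : Set G) with hP₁
  have hP₁A : P₁ ≤ A := inf_le_right.trans hCT
  have hP₁p : IsPGroup p ↥P₁ := hPp.to_le inf_le_left
  have hSTp : S ≤ normalizer (Tp : Set G) :=
    (le_inf le_normalizer (hSA.trans (le_normalizer_map_subtype A R))).trans
      (Helper22.normalizer_inf_le S (R.map A.subtype))
  have hSP₁ : S ≤ normalizer (P₁ : Set G) :=
    (le_inf hSP (hSTp.trans (normalizer_le_normalizer_centralizer' Tp))).trans
      (Helper22.normalizer_inf_le P (centralizer (Tp : Set G)))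
  have hD₁ : IsPGroup p ↥(P₁.subgroupOf A) :=
    hP₁p.comap_of_injective A.subtype A.subtype_injective
  have hSD₁ : S' ≤ normalizer ((P₁.subgroupOf A : Subgroup ↥A) : Set ↥A) :=
    subgroupOf_le_normalizer_subgroupOf A hSP₁
  have h1 := layer_le_centralizer_of_le_normalizer S' hE' _ hD₁ hSD₁
  have h2 : ∀ r : ℕ, r.Prime → r ≠ p →
      pCore r ↥A ≤ centralizer ((P₁.subgroupOf A : Subgroup ↥A) : Set ↥A) := by
    intro r hr hrp
    have := Fact.mk hr
    exact pCore_le_centralizer_of_le_normalizer S' hSF' hE' hSC' _ hD₁ hSD₁ r hrp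
  have hTpp : IsPGroup p ↥Tp := (hRp.map A.subtype).to_le inf_le_right
  -- generic application of Thompson's `A × B` lemma
  have hAxB : ∀ Y : Subgroup G, Y ≤ S → (Nat.card ↥Y).Coprime p → Tp ≤ centralizer (Y : Set G) →
      P₁ ≤ centralizer (Y : Set G) → P ≤ centralizer (Y : Set G) := by
    intro Y hYS hYc hTY hPY
    have := Helper30.thompson_AxB Tp Y hTpp hYc
      (Subgroup.commutator_eq_bot_iff_le_centralizer.2 hTY) P hPp
      (inf_le_left.trans hSP) (hYS.trans hSP) hPY
    rwa [Subgroup.commutator_eq_bot_iff_le_centralizer] at this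
  -- `P` centralizes `E(A)`
  have hEP : (layer ↥A).map A.subtype ≤ centralizer (P : Set G) := by
    have hgen := Helper30.pprimeGen_eq_top_of_perfect (H := ↥(layer ↥A)) p
    have hrange := Helper30.range_le_of_pprime_mem p hgen (A.subtype.comp (layer ↥A).subtype)
      (centralizer (P : Set G)) ?_
    · rintro _ ⟨k, hk, rfl⟩
      exact hrange ⟨⟨k, hk⟩, rfl⟩
    · intro k' hk'
      have hkS : ((k' : ↥A) : G) ∈ S := Subgroup.mem_subgroupOf.1 (hE' k'.2)
      have hord : orderOf ((k' : ↥A) : G) = orderOf k' := by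
        rw [Subgroup.orderOf_coe, Subgroup.orderOf_coe]
      have h3 := hAxB (zpowers ((k' : ↥A) : G)) (Subgroup.zpowers_le.2 hkS)
        (by rw [Nat.card_zpowers, hord]; exact hk') ?_ ?_
      · rw [Subgroup.le_centralizer_iff] at h3
        exact h3 (Subgroup.mem_zpowers _)
      · rw [Subgroup.le_centralizer_iff, Subgroup.zpowers_le, Subgroup.mem_centralizer_iff]
        intro t ht
        obtain ⟨t', ht', rfl⟩ := (Subgroup.mem_inf.1 ht).2
        have := Subgroup.mem_centralizer_iff.1 (layer_le_centralizer_fittingSubgroup k'.2) t'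
          (Helper70.pCore_le_fittingSubgroup ht')
        exact congrArg Subtype.val this
      · rw [Subgroup.le_centralizer_iff, Subgroup.zpowers_le, Subgroup.mem_centralizer_iff]
        intro u hu
        have := Subgroup.mem_centralizer_iff.1 (h1 k'.2) ⟨u, hP₁A hu⟩ (Subgroup.mem_subgroupOf.2 hu)
        exact congrArg Subtype.val this
  -- `P` centralizes `S ∩ O_r(A)`
  have hTrP : ∀ r : ℕ, r.Prime → r ≠ p →
      P ≤ centralizer ((S ⊓ (pCore r ↥A).map A.subtype : Subgroup G) : Set G) := by
    intro r hr hrp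
    have := Fact.mk hr
    apply hAxB _ inf_le_left
    · have hTr : IsPGroup r ↥(S ⊓ (pCore r ↥A).map A.subtype : Subgroup G) :=
        ((Helper70.pCore_isPGroup (G := ↥A) (p := r)).map A.subtype).to_le inf_le_right
      obtain ⟨n, hn⟩ := IsPGroup.iff_card.1 hTr
      rw [hn]
      exact Nat.Coprime.pow_left n ((Nat.coprime_primes hr hp).2 hrp)
    · intro t ht
      rw [Subgroup.mem_centralizer_iff]
      intro u hu
      obtain ⟨t', ht', rfl⟩ := (Subgroup.mem_inf.1 ht).2
      obtain ⟨u', hu', rfl⟩ := (Subgroup.mem_inf.1 hu).2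
      have := Subgroup.mem_centralizer_iff.1
        (pCore_le_centralizer_pCore_of_ne p r (Ne.symm hrp) ht') u' hu'
      exact congrArg Subtype.val this
    · intro u hu
      rw [Subgroup.mem_centralizer_iff]
      intro t ht
      obtain ⟨t', ht', rfl⟩ := (Subgroup.mem_inf.1 ht).2
      have := Subgroup.mem_centralizer_iff.1 (h2 r hr hrp ht') ⟨u, hP₁A hu⟩
        (Subgroup.mem_subgroupOf.2 hu)
      exact (congrArg Subtype.val this).symm
  -- conclusion
  by_cases hEbot : layer ↥A = ⊥
  · by_cases hall : ∀ r : {r : ℕ // r.Prime ∧ r ≠ p}, pCore (r : ℕ) ↥A = ⊥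
    · rw [hEbot, bot_sup_eq]
      apply iSup_le
      intro r
      rw [hall r]
      exact bot_le
    · push Not at hall
      obtain ⟨⟨r, hr, hrp⟩, hrne⟩ := hall
      have := Fact.mk hr
      apply hfinish
      have hWrne := pCore_inf_centralizer_ne_bot r hrne
      have hWrS := pCore_inf_centralizer_generalizedFittingSubgroup_le S' hSF' hSC' r
      have hWrT : (pCore r ↥A ⊓ centralizer (Fs : Set ↥A)).map A.subtype ≤
          S ⊓ (pCore r ↥A).map A.subtype := by
        rintro _ ⟨w, hw, rfl⟩
        exact Subgroup.mem_inf.2 ⟨Subgroup.mem_subgroupOf.1 (hWrS hw),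
          Subgroup.mem_map_of_mem _ (Subgroup.mem_inf.1 hw).1⟩
      exact (hTrP r hr hrp).trans (centralizer_le_of_map_le A hA _ hWrne _ hWrT)
  · apply hfinish
    exact (Subgroup.le_centralizer_iff.1 hEP).trans
      (centralizer_le_of_map_le A hA (layer ↥A) hEbot _ le_rfl)

end KeyB

/-- Let G be a non-abelian finite simple group, A a maximal subgroup, F = F*(A) its generalized Fitting subgroup (viewed in G), and S ≤ F a subgroup subnormal in F with C_F(S) ≤ S. Let B be any subgroup of G containing S. Then (a) for every prime q not dividing |F(A)|, O_q(B) ∩ A = 1; and (b) for every prime p dividing |F(A)|, O_p(B) commutes elementwise with the subgroup of F generated by its elements of order prime to p. -/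
theorem result {G : Type*} [Group G] [Finite G] [IsSimpleGroup G] (hna : ¬ IsMulCommutative G) (A : Subgroup G) (hA : IsCoatom A) (S : Subgroup G) (hSF : S ≤ (Cfsg.generalizedFittingSubgroup ↥A).map A.subtype) (hSsn : (S.subgroupOf ((Cfsg.generalizedFittingSubgroup ↥A).map A.subtype)).IsSubnormal) (hSC : (Cfsg.generalizedFittingSubgroup ↥A).map A.subtype ⊓ Subgroup.centralizer (S : Set G) ≤ S) (B : Subgroup G) (hSB : S ≤ B) : (∀ q : ℕ, q.Prime → ¬ q ∣ Nat.card (Cfsg.fittingSubgroup ↥A) → (Cfsg.pCore q ↥B).map B.subtype ⊓ A = ⊥) ∧ (∀ p : ℕ, p.Prime → p ∣ Nat.card (Cfsg.fittingSubgroup ↥A) → ∀ x ∈ (Cfsg.pCore p ↥B).map B.subtype, ∀ y ∈ (Cfsg.pResidual p ↥(Cfsg.generalizedFittingSubgroup ↥A)).map ((Cfsg.generalizedFittingSubgroup ↥A).subtype) , x * (A.subtype y) = (A.subtype y) * x) := by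
  classical
  obtain ⟨hSA, hSF', hsn', hSC'⟩ := internal_hyps A S hSF hSsn hSC
  set Fs := Cfsg.generalizedFittingSubgroup ↥A with hFs
  set S' : Subgroup ↥A := S.subgroupOf A with hS'
  have hE' : layer ↥A ≤ S' := layer_le_of_selfCentralizing S' hsn' hSC'
  refine ⟨?_, ?_⟩
  · -- part (a)
    intro q hq hqN
    have := Fact.mk hq
    set Pq : Subgroup G := (Cfsg.pCore q ↥B).map B.subtype with hPq
    have hPqp : IsPGroup q ↥Pq := (Helper70.pCore_isPGroup (G := ↥B) (p := q)).map _
    have hBn : (Cfsg.pCore q ↥B).Normal := Helper70.pCore_normal q ↥B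
    have hBP : B ≤ normalizer (Pq : Set G) := le_normalizer_map_subtype B _
    have hD : IsPGroup q ↥(Pq.subgroupOf A) := hPqp.comap_of_injective A.subtype A.subtype_injective
    have hSD : S' ≤ normalizer ((Pq.subgroupOf A : Subgroup ↥A) : Set ↥A) :=
      subgroupOf_le_normalizer_subgroupOf A (hSB.trans hBP)
    have hbot := eq_bot_of_le_normalizer_of_not_dvd S' hSF' hsn' hSC' (Pq.subgroupOf A) hD hSD hqN
    rw [eq_bot_iff]
    intro x hx
    obtain ⟨hx1, hx2⟩ := Subgroup.mem_inf.1 hx
    have h1 : (⟨x, hx2⟩ : ↥A) ∈ Pq.subgroupOf A := Subgroup.mem_subgroupOf.2 hx1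
    rw [hbot, Subgroup.mem_bot] at h1
    rw [Subgroup.mem_bot]
    exact congrArg Subtype.val h1
  · -- part (b)
    intro p hp hpN x hx y hy
    have hpF := Fact.mk hp
    set P : Subgroup G := (Cfsg.pCore p ↥B).map B.subtype with hP
    have hPp : IsPGroup p ↥P := (Helper70.pCore_isPGroup (G := ↥B) (p := p)).map _
    have hBn : (Cfsg.pCore p ↥B).Normal := Helper70.pCore_normal p ↥B
    have hBP : B ≤ normalizer (P : Set G) := le_normalizer_map_subtype B _
    have hSP : S ≤ normalizer (P : Set G) := hSB.trans hBP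
    have key := key_b A hA S hSA hSF' hsn' hSC' p hpN P hPp hSP
    have hyC : y ∈ (centralizer (P : Set G)).subgroupOf A := by
      have hle : (Cfsg.pResidual p ↥Fs).map Fs.subtype ≤ (centralizer (P : Set G)).subgroupOf A := by
        unfold Cfsg.pResidual
        rw [MonoidHom.map_closure, Subgroup.closure_le]
        rintro _ ⟨z, hz, rfl⟩
        apply key
        apply mem_layer_sup_of_coprime_orderOf p z.2
        have hz' : (orderOf z).Coprime p := hz
        rw [Subgroup.orderOf_coe]
        exact hz'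
      exact hle hy
    exact Subgroup.mem_centralizer_iff.1 (Subgroup.mem_subgroupOf.1 hyC) x hx

end Cfsg.Agent.S1247
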