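import Mathlib
import Cfsg.Statements.S1312
import Cfsg.Agent.Lib.Helper23.BenderMSG
-- import your own Cfsg.Agent.* helpers here

set_option autoImplicit false
open Cfsg

namespace Cfsg.Agent.S1312

open Cfsg.Agent.Helper23

/-- Let G be a non-abelian finite simple group and M ≠ N maximal subgroups of G with F*(M) ≤ N and F*(N) ≤ M. Then there is a prime p such that F*(M) and F*(N) are both p-groups. -/
theorem result {G : Type*} [Group G] [Finite G] [IsSimpleGroup G] (hna : ¬ IsMulCommutative G) (M N : Subgroup G) (hM : IsCoatom M) (hN : IsCoatom N) (hMN : M ≠ N) (h1 : (Cfsg.generalizedFittingSubgroup ↥M).map M.subtype ≤ N) (h2 : (Cfsg.generalizedFittingSubgroup ↥N).map N.subtype ≤ M) : ∃ p : ℕ, p.Prime ∧ IsPGroup p ↥(Cfsg.generalizedFittingSubgroup ↥M) ∧ IsPGroup p ↥(Cfsg.generalizedFittingSubgroup ↥N) := by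
  classical
  -- notation
  have hMN1 : fsOf M ≤ N := h1
  have hNM1 : fsOf N ≤ M := h2
  -- commutation facts from S1247
  have hB_M : ∀ (p : ℕ) [Fact p.Prime], ∀ x ∈ pCoreOf p M, ∀ g ∈ fsOf N, (orderOf g).Coprime p → x * g = g * x :=
    fun p _ => pCoreOf_commute_fsOf hna N hN M hNM1 hMN1 p
  have hB_N : ∀ (p : ℕ) [Fact p.Prime], ∀ x ∈ pCoreOf p N, ∀ g ∈ fsOf M, (orderOf g).Coprime p → x * g = g * x :=
    fun p _ => pCoreOf_commute_fsOf hna M hM N hMN1 hNM1 p
  -- Step E: the layers coincide, hence are trivial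
  have hE1 : layerOf N ≤ layerOf M := layerOf_le_layerOf M N hMN1 hNM1
    (fun q hq => by have := Fact.mk hq; exact hB_M q)
  have hE2 : layerOf M ≤ layerOf N := layerOf_le_layerOf N M hNM1 hMN1
    (fun q hq => by have := Fact.mk hq; exact hB_N q)
  have hEeq : layerOf M = layerOf N := le_antisymm hE2 hE1
  have hEM : layer ↥M = ⊥ := by
    by_contra hne
    have hneN : layer ↥N ≠ ⊥ := by
      intro h0
      apply hne
      have : layerOf M = ⊥ := by rw [hEeq]; show (layer ↥N).map N.subtype = ⊥; rw [h0, Subgroup.map_bot]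
      exact (Subgroup.map_eq_bot_iff_of_injective _ M.subtype_injective).mp this
    have e1 := Cfsg.Agent.S1247.normalizer_map_subtype_eq M hM (layer ↥M) hne
    have e2 := Cfsg.Agent.S1247.normalizer_map_subtype_eq N hN (layer ↥N) hneN
    apply hMN
    rw [← e1, ← e2]
    show Subgroup.normalizer ((layerOf M : Subgroup G) : Set G) = Subgroup.normalizer ((layerOf N : Subgroup G) : Set G)
    rw [hEeq]
  have hEN : layer ↥N = ⊥ := by
    have : layerOf N = ⊥ := by rw [← hEeq]; show (layer ↥M).map M.subtype = ⊥; rw [hEM, Subgroup.map_bot]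
    exact (Subgroup.map_eq_bot_iff_of_injective _ N.subtype_injective).mp this
  have hFM : generalizedFittingSubgroup ↥M = fittingSubgroup ↥M := by
    unfold generalizedFittingSubgroup; rw [hEM, bot_sup_eq]
  have hFN : generalizedFittingSubgroup ↥N = fittingSubgroup ↥N := by
    unfold generalizedFittingSubgroup; rw [hEN, bot_sup_eq]
  -- neither M nor N is trivial
  have hMne : M ≠ ⊥ := by
    intro h0
    have hNne : N ≠ ⊥ := fun h => hMN (h0.trans h.symm)
    have : N = ⊤ := hM.lt_iff.mp (h0 ▸ bot_lt_iff_ne_bot.mpr hNne)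
    exact hN.1 this
  have hNne : N ≠ ⊥ := by
    intro h0
    have : M = ⊤ := hN.lt_iff.mp (h0 ▸ bot_lt_iff_ne_bot.mpr hMne)
    exact hM.1 this
  -- Claim A
  have claimA : ∀ (A B : Subgroup G), IsCoatom A → fsOf A ≤ B → fsOf B ≤ A →
      (∀ (p : ℕ) [Fact p.Prime], ∀ x ∈ pCoreOf p A, ∀ g ∈ fsOf B, (orderOf g).Coprime p → x * g = g * x) →
      ∀ (p r : ℕ) [Fact p.Prime] [Fact r.Prime], r ≠ p → pCoreOf p A ≠ ⊥ → pCoreOf r A ≤ pCoreOf r B := by
    intro A B hA hAB hBA hcomm p r hp hr hne hPne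
    have hPne' : pCore p ↥A ≠ ⊥ := by
      intro h0; apply hPne; show (pCore p ↥A).map A.subtype = ⊥; rw [h0, Subgroup.map_bot]
    have hn : (pCore p ↥A).Normal := pCore_normal' p _
    exact pcore_le_of_chain hne A B (fsOf B) (pCoreOf p A) (pCoreOf r A)
      (le_normalizer_fsOf B) (inf_centralizer_fsOf_le B)
      ((pCoreOf_le_fsOf A p).trans hAB) (pCoreOf_isPGroup A) (hcomm p)
      ((pCoreOf_le_fsOf A r).trans hAB) (pCoreOf_isPGroup A) (hcomm r)
      (Cfsg.Agent.S1247.centralizer_le_of_map_le A hA (pCore p ↥A) hPne' _ le_rfl)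
      (le_normalizer_pCoreOf A)
  -- existence of a prime with nontrivial core, and uniqueness
  have exists_prime : ∀ (A : Subgroup G), A ≠ ⊥ → generalizedFittingSubgroup ↥A = fittingSubgroup ↥A →
      ∃ p : ℕ, p.Prime ∧ pCoreOf p A ≠ ⊥ := by
    intro A hAne hFA
    by_contra hall
    push Not at hall
    have h0 : fittingSubgroup ↥A = ⊥ := by
      rw [Cfsg.Agent.Helper22.fittingSubgroup_eq_iSup_pCore, eq_bot_iff]
      apply iSup_le
      rintro ⟨q, hq⟩
      have := hall q hq
      have h3 : (pCore q ↥A).map A.subtype = ⊥ := this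
      rw [(Subgroup.map_eq_bot_iff_of_injective _ A.subtype_injective).mp h3]
    apply hAne
    rw [eq_bot_iff]
    intro a ha
    have h1 : (⟨a, ha⟩ : ↥A) ∈ Subgroup.centralizer ((generalizedFittingSubgroup ↥A : Subgroup ↥A) : Set ↥A) := by
      rw [hFA, h0, Subgroup.mem_centralizer_iff]
      intro y hy
      rw [SetLike.mem_coe, Subgroup.mem_bot] at hy
      rw [hy]; simp
    have h2 := Cfsg.Agent.Helper21.centralizer_generalizedFittingSubgroup_le h1
    rw [hFA, h0, Subgroup.mem_bot] at h2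
    rw [Subgroup.mem_bot]
    exact congrArg Subtype.val h2
  obtain ⟨p, hp, hpM⟩ := exists_prime M hMne hFM
  obtain ⟨q, hq, hqN⟩ := exists_prime N hNne hFN
  have hpF := Fact.mk hp
  have hqF := Fact.mk hq
  -- uniqueness in M
  have uniqM : ∀ r : ℕ, r.Prime → r ≠ p → pCoreOf r M = ⊥ := by
    intro r hr hne
    by_contra hrM
    have hrF := Fact.mk hr
    have a1 : pCoreOf r M ≤ pCoreOf r N := claimA M N hM hMN1 hNM1 hB_M p r hne hpM
    have a2 : pCoreOf p M ≤ pCoreOf p N := claimA M N hM hMN1 hNM1 hB_M r p hne.symm hrM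
    have hpN : pCoreOf p N ≠ ⊥ := fun h0 => hpM (le_bot_iff.mp (h0 ▸ a2))
    have a3 : pCoreOf r N ≤ pCoreOf r M := claimA N M hN hNM1 hMN1 hB_N p r hne hpN
    have heq : pCoreOf r M = pCoreOf r N := le_antisymm a1 a3
    have hrM' : pCore r ↥M ≠ ⊥ := by
      intro h0; apply hrM; show (pCore r ↥M).map M.subtype = ⊥; rw [h0, Subgroup.map_bot]
    have hrN' : pCore r ↥N ≠ ⊥ := by
      intro h0; apply hrM; rw [heq]; show (pCore r ↥N).map N.subtype = ⊥; rw [h0, Subgroup.map_bot]
    have hn1 : (pCore r ↥M).Normal := pCore_normal' r _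
    have hn2 : (pCore r ↥N).Normal := pCore_normal' r _
    have e1 := Cfsg.Agent.S1247.normalizer_map_subtype_eq M hM (pCore r ↥M) hrM'
    have e2 := Cfsg.Agent.S1247.normalizer_map_subtype_eq N hN (pCore r ↥N) hrN'
    apply hMN
    rw [← e1, ← e2]
    show Subgroup.normalizer ((pCoreOf r M : Subgroup G) : Set G) = Subgroup.normalizer ((pCoreOf r N : Subgroup G) : Set G)
    rw [heq]
  have uniqN : ∀ r : ℕ, r.Prime → r ≠ q → pCoreOf r N = ⊥ := by
    intro r hr hne
    by_contra hrN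
    have hrF := Fact.mk hr
    have a1 : pCoreOf r N ≤ pCoreOf r M := claimA N M hN hNM1 hMN1 hB_N q r hne hqN
    have a2 : pCoreOf q N ≤ pCoreOf q M := claimA N M hN hNM1 hMN1 hB_N r q hne.symm hrN
    have hqM : pCoreOf q M ≠ ⊥ := fun h0 => hqN (le_bot_iff.mp (h0 ▸ a2))
    have a3 : pCoreOf r M ≤ pCoreOf r N := claimA M N hM hMN1 hNM1 hB_M q r hne hqM
    have heq : pCoreOf r N = pCoreOf r M := le_antisymm a1 a3
    have hrN' : pCore r ↥N ≠ ⊥ := by
      intro h0; apply hrN; show (pCore r ↥N).map N.subtype = ⊥; rw [h0, Subgroup.map_bot]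
    have hrM' : pCore r ↥M ≠ ⊥ := by
      intro h0; apply hrN; rw [heq]; show (pCore r ↥M).map M.subtype = ⊥; rw [h0, Subgroup.map_bot]
    have hn1 : (pCore r ↥M).Normal := pCore_normal' r _
    have hn2 : (pCore r ↥N).Normal := pCore_normal' r _
    have e1 := Cfsg.Agent.S1247.normalizer_map_subtype_eq M hM (pCore r ↥M) hrM'
    have e2 := Cfsg.Agent.S1247.normalizer_map_subtype_eq N hN (pCore r ↥N) hrN'
    apply hMN
    rw [← e1, ← e2]
    show Subgroup.normalizer ((pCoreOf r M : Subgroup G) : Set G) = Subgroup.normalizer ((pCoreOf r N : Subgroup G) : Set G)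
    rw [heq]
  -- F*(A) = O_p(A)
  have fs_eq : ∀ (A : Subgroup G) (p : ℕ), p.Prime → generalizedFittingSubgroup ↥A = fittingSubgroup ↥A →
      (∀ r : ℕ, r.Prime → r ≠ p → pCoreOf r A = ⊥) → generalizedFittingSubgroup ↥A = pCore p ↥A := by
    intro A p hp hFA huniq
    have := Fact.mk hp
    rw [hFA]
    apply le_antisymm
    · rw [Cfsg.Agent.Helper22.fittingSubgroup_eq_iSup_pCore]
      apply iSup_le
      rintro ⟨r, hr⟩
      by_cases hrp : r = p
      · subst hrp; exact le_rfl
      · have h3 : (pCore r ↥A).map A.subtype = ⊥ := huniq r hr hrp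
        rw [(Subgroup.map_eq_bot_iff_of_injective _ A.subtype_injective).mp h3]
        exact bot_le
    · exact Cfsg.Agent.Helper70.pCore_le_fittingSubgroup
  have hfsM := fs_eq M p hp hFM uniqM
  have hfsN := fs_eq N q hq hFN uniqN
  -- p = q
  have hpq : p = q := by
    by_contra hne
    apply hpM
    rw [eq_bot_iff]
    intro x hx
    -- x centralizes fsOf N
    have hxN : x ∈ N := hMN1 (pCoreOf_le_fsOf M p hx)
    have hqgrp : IsPGroup q ↥(pCore q ↥N) := pCore_isPGroup q _
    have hxC : x ∈ Subgroup.centralizer ((fsOf N : Subgroup G) : Set G) := by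
      rw [Subgroup.mem_centralizer_iff]
      intro g hg
      symm
      apply hB_M p x hx g hg
      obtain ⟨n, hn, rfl⟩ := hg
      rw [hfsN] at hn
      obtain ⟨k, hk⟩ := hqgrp ⟨n, hn⟩
      have hk' : (N.subtype n) ^ q ^ k = 1 := by
        have := congrArg Subtype.val hk
        simp only [Subgroup.coe_pow, Subgroup.coe_one] at this
        rw [← map_pow, this, map_one]
      have h4 : orderOf (N.subtype n) ∣ q ^ k := orderOf_dvd_of_pow_eq_one hk'
      exact Nat.Coprime.coprime_dvd_left h4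
        (Nat.Coprime.pow_left k ((Nat.coprime_primes hq hp).mpr (Ne.symm hne)))
    have hxK : x ∈ fsOf N := inf_centralizer_fsOf_le N ⟨hxN, hxC⟩
    -- x is a p-element and a q-element
    obtain ⟨n, hn, rfl⟩ := hxK
    rw [hfsN] at hn
    obtain ⟨k, hk⟩ := hqgrp ⟨n, hn⟩
    have hk' : (N.subtype n) ^ q ^ k = 1 := by
      have := congrArg Subtype.val hk
      simp only [Subgroup.coe_pow, Subgroup.coe_one] at this
      rw [← map_pow, this, map_one]
    obtain ⟨j, hj⟩ := (pCoreOf_isPGroup (p := p) M) ⟨_, hx⟩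
    have hj' : (N.subtype n) ^ p ^ j = 1 := by
      have := congrArg Subtype.val hj
      simpa using this
    have h4 : orderOf (N.subtype n) ∣ q ^ k := orderOf_dvd_of_pow_eq_one hk'
    have h5 : orderOf (N.subtype n) ∣ p ^ j := orderOf_dvd_of_pow_eq_one hj'
    have h6 : (q ^ k).Coprime (p ^ j) :=
      Nat.Coprime.pow _ _ ((Nat.coprime_primes hq hp).mpr (Ne.symm hne))
    have h7 : orderOf (N.subtype n) = 1 := Nat.eq_one_of_dvd_coprimes h6 h4 h5
    rw [Subgroup.mem_bot]
    exact orderOf_eq_one_iff.mp h7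
  subst hpq
  refine ⟨p, hp, ?_, ?_⟩
  · rw [hfsM]; exact pCore_isPGroup p _
  · rw [hfsN]; exact pCore_isPGroup p _

end Cfsg.Agent.S1312
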