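import Cfsg.Statements.S1482
import Cfsg.Agent.S1312
import Cfsg.Agent.Lib.Helper29.Balance
import Cfsg.Agent.Lib.Helper22.Fitting
import Cfsg.Agent.Lib.Helper94.Solvable
import Cfsg.Agent.Lib.Helper24.FStar

set_option autoImplicit false
open Cfsg

namespace Cfsg.Agent.S1482

variable {G : Type*} [Group G]

/-- image of a normal subgroup of `H` is normalized by `H` -/
theorem mem_normalizer_map_subtype {H : Subgroup G} (N : Subgroup ↥H) [hN : N.Normal] {x : G}
    (hx : x ∈ H) : x ∈ Subgroup.normalizer ((N.map H.subtype : Subgroup G) : Set G) := by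
  rw [Subgroup.mem_normalizer_iff]
  intro y
  constructor
  · rintro ⟨n, hn, rfl⟩
    refine ⟨⟨x, hx⟩ * n * ⟨x, hx⟩⁻¹, hN.conj_mem n hn ⟨x, hx⟩, ?_⟩
    simp
  · rintro ⟨n, hn, hny⟩
    refine ⟨⟨x, hx⟩⁻¹ * n * ⟨x, hx⟩, ?_, ?_⟩
    · have := hN.conj_mem n hn ⟨x, hx⟩⁻¹
      simpa using this
    · simp only [map_mul, map_inv, Subgroup.coe_subtype]
      have hny' : (n : G) = x * y * x⁻¹ := hny
      rw [hny']; group

/-- `N(A) ≤ N(C(A))` -/
theorem normalizer_le_normalizer_centralizer (A : Subgroup G) :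
    Subgroup.normalizer (A : Set G) ≤
      Subgroup.normalizer ((Subgroup.centralizer (A : Set G) : Subgroup G) : Set G) := by
  have key : ∀ m : G, m ∈ Subgroup.normalizer (A : Set G) → ∀ g : G,
      g ∈ Subgroup.centralizer (A : Set G) → m * g * m⁻¹ ∈ Subgroup.centralizer (A : Set G) := by
    intro m hm g hg
    rw [Subgroup.mem_centralizer_iff] at hg ⊢
    intro a ha
    have ha' : m⁻¹ * a * m ∈ A := by
      have := (Subgroup.mem_normalizer_iff''.mp hm a).mp ha
      exact this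
    have h1 := hg _ ha'
    calc a * (m * g * m⁻¹) = m * ((m⁻¹ * a * m) * g) * m⁻¹ := by group
      _ = m * (g * (m⁻¹ * a * m)) * m⁻¹ := by rw [h1]
      _ = m * g * m⁻¹ * a := by group
  intro n hn
  rw [Subgroup.mem_normalizer_iff]
  intro g
  constructor
  · exact key n hn g
  · intro h
    have := key n⁻¹ (Subgroup.inv_mem _ hn) _ h
    have e : n⁻¹ * (n * g * n⁻¹) * n⁻¹⁻¹ = g := by group
    rwa [e] at this

/-- `O_p(X)` as a subgroup of `G` -/
def Op (p : ℕ) (X : Subgroup G) : Subgroup G := (pCore p ↥X).map X.subtype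

theorem Op_le (p : ℕ) (X : Subgroup G) : Op p X ≤ X := by
  rintro _ ⟨x, -, rfl⟩; exact x.2

theorem le_normalizer_Op (p : ℕ) (X : Subgroup G) :
    X ≤ Subgroup.normalizer (Op p X : Set G) :=
  fun _ hx => mem_normalizer_map_subtype (pCore p ↥X) hx

theorem isPGroup_Op [Finite G] (p : ℕ) [Fact p.Prime] (X : Subgroup G) : IsPGroup p ↥(Op p X) :=
  (Cfsg.Agent.Helper54.isPGroup_pCore (p := p) (G := ↥X)).map X.subtype

theorem commute_Op [Finite G] {p r : ℕ} [Fact p.Prime] [Fact r.Prime] (hne : p ≠ r) (X : Subgroup G)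
    {x y : G} (hx : x ∈ Op p X) (hy : y ∈ Op r X) : x * y = y * x := by
  obtain ⟨x', hx', rfl⟩ := hx
  obtain ⟨y', hy', rfl⟩ := hy
  have hd : Disjoint (pCore p ↥X) (pCore r ↥X) :=
    IsPGroup.disjoint_of_ne p r hne _ _ Cfsg.Agent.Helper54.isPGroup_pCore
      Cfsg.Agent.Helper54.isPGroup_pCore
  have h := Subgroup.commute_of_normal_of_disjoint _ _ (pCore_normal p ↥X) (pCore_normal r ↥X) hd
    x' y' hx' hy'
  have := congrArg Subtype.val h.eq
  simpa using this

theorem fittingOf_eq [Finite G] (X : Subgroup G) :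
    Cfsg.fittingOf X = ⨆ p : {p : ℕ // p.Prime}, Op (p : ℕ) X := by
  unfold Cfsg.fittingOf Op
  rw [Cfsg.Agent.Helper22.fittingSubgroup_eq_iSup_pCore, Subgroup.map_iSup]

theorem Op_le_fittingOf [Finite G] (p : ℕ) [hp : Fact p.Prime] (X : Subgroup G) :
    Op p X ≤ Cfsg.fittingOf X := by
  rw [fittingOf_eq]
  exact le_iSup (fun q : {q : ℕ // q.Prime} => Op (q : ℕ) X) ⟨p, hp.out⟩

theorem fittingOf_le (X : Subgroup G) : Cfsg.fittingOf X ≤ X := by
  rintro _ ⟨x, -, rfl⟩; exact x.2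

/-- elements of order dividing `p` of the Fitting subgroup lie in `O_p(G)` -/
theorem mem_pCore_of_mem_fitting {K : Type*} [Group K] [Finite K] (p : ℕ) [Fact p.Prime] (x : K)
    (hx : x ∈ fittingSubgroup K) (hxp : x ^ p = 1) : x ∈ pCore p K := by
  have h1 := Cfsg.Agent.Helper22.fittingSubgroup_le_pCore_sup_pPrimeCore (G := K) p hx
  have hKcop : (Nat.card (pPrimeCore p K)).Coprime p := Cfsg.Agent.Helper54.pPrimeCore_coprime p
  have hQp : IsPGroup p (pCore p K) := Cfsg.Agent.Helper54.isPGroup_pCore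
  obtain ⟨m, hm⟩ := hQp.exists_card_eq
  have hcop : (Nat.card (pCore p K)).Coprime (Nat.card (pPrimeCore p K)) := by
    rw [hm]
    exact (Nat.Coprime.pow_right m hKcop).symm
  have hdisj : Disjoint (pCore p K) (pPrimeCore p K) := Subgroup.disjoint_of_coprime_natCard hcop
  obtain ⟨a, ha, b, hb, rfl⟩ := Subgroup.mem_sup_of_normal_right.mp h1
  have hcomm : Commute a b :=
    Subgroup.commute_of_normal_of_disjoint _ _ inferInstance inferInstance hdisj a b ha hb
  rw [hcomm.mul_pow] at hxp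
  have hbp : b ^ p ∈ pCore p K ⊓ pPrimeCore p K := by
    refine ⟨?_, Subgroup.pow_mem _ hb p⟩
    have : b ^ p = (a ^ p)⁻¹ := eq_inv_of_mul_eq_one_right hxp
    rw [this]
    exact Subgroup.inv_mem _ (Subgroup.pow_mem _ ha p)
  rw [hdisj.eq_bot, Subgroup.mem_bot] at hbp
  have hb1 : b = 1 := by
    have h2 : orderOf b ∣ p := orderOf_dvd_of_pow_eq_one hbp
    have h3 : orderOf b ∣ Nat.card (pPrimeCore p K) := by
      have := orderOf_dvd_natCard (⟨b, hb⟩ : pPrimeCore p K)
      rwa [← Subgroup.orderOf_coe] at this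
    have h4 : orderOf b = 1 := Nat.eq_one_of_dvd_coprimes hKcop h3 h2
    exact orderOf_eq_one_iff.mp h4
  rw [hb1, mul_one]
  exact ha

theorem mem_Op_of_mem_fittingOf [Finite G] (X : Subgroup G) (p : ℕ) [Fact p.Prime] {z : G}
    (hz : z ∈ Cfsg.fittingOf X) (hzp : z ^ p = 1) : z ∈ Op p X := by
  obtain ⟨y, hy, rfl⟩ := hz
  refine ⟨y, mem_pCore_of_mem_fitting p y hy ?_, rfl⟩
  apply Subtype.ext
  simpa using hzp

/-- a nontrivial `p`-subgroup has an element of order `p` -/
theorem exists_order_p [Finite G] {p : ℕ} [hp : Fact p.Prime] (A : Subgroup G) (hA : IsPGroup p ↥A)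
    (hne : A ≠ ⊥) : ∃ z ∈ A, z ≠ 1 ∧ z ^ p = 1 := by
  haveI : Nontrivial ↥A := (Subgroup.nontrivial_iff_ne_bot A).mpr hne
  obtain ⟨n, hn0, hn⟩ := hA.nontrivial_iff_card.mp inferInstance
  have hdvd : p ∣ Nat.card ↥A := by rw [hn]; exact dvd_pow_self p (by omega)
  obtain ⟨x, hx⟩ := exists_prime_orderOf_dvd_card' (G := ↥A) p hdvd
  refine ⟨(x : G), x.2, ?_, ?_⟩
  · intro h1
    have : x = 1 := Subtype.ext h1
    rw [this, orderOf_one] at hx
    exact hp.out.one_lt.ne hx
  · have := pow_orderOf_eq_one x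
    rw [hx] at this
    have := congrArg Subtype.val this
    simpa using this

theorem Op_ne_bot_of_dvd [Finite G] (X : Subgroup G) (p : ℕ) [hp : Fact p.Prime]
    (h : p ∣ Nat.card ↥(Cfsg.fittingOf X)) : Op p X ≠ ⊥ := by
  obtain ⟨x, hx⟩ := exists_prime_orderOf_dvd_card' (G := ↥(Cfsg.fittingOf X)) p h
  have hxp : (x : G) ^ p = 1 := by
    have := pow_orderOf_eq_one x
    rw [hx] at this
    have := congrArg Subtype.val this
    simpa using this
  have hx1 : (x : G) ≠ 1 := by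
    intro h1
    have : x = 1 := Subtype.ext h1
    rw [this, orderOf_one] at hx
    exact hp.out.one_lt.ne hx
  have hmem := mem_Op_of_mem_fittingOf X p x.2 hxp
  intro hbot
  rw [hbot, Subgroup.mem_bot] at hmem
  exact hx1 hmem

/-- `Z(F(H)) ∩ O_p(H)` -/
def Zc (p : ℕ) (H : Subgroup G) : Subgroup G :=
  Op p H ⊓ Subgroup.centralizer (Cfsg.fittingOf H : Set G)

theorem Zc_ne_bot [Finite G] (H : Subgroup G) (p : ℕ) [hp : Fact p.Prime] (h : Op p H ≠ ⊥) :
    Zc p H ≠ ⊥ := by
  haveI : Nontrivial ↥(Op p H) := (Subgroup.nontrivial_iff_ne_bot _).mpr h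
  haveI hnt : Nontrivial ↥(Subgroup.center ↥(Op p H)) := (isPGroup_Op p H).center_nontrivial
  obtain ⟨z, hz⟩ := exists_ne (1 : ↥(Subgroup.center ↥(Op p H)))
  have hzc : ∀ x ∈ Op p H, x * ((z : ↥(Op p H)) : G) = ((z : ↥(Op p H)) : G) * x := by
    intro x hx
    have := Subgroup.mem_center_iff.mp z.2 ⟨x, hx⟩
    have := congrArg Subtype.val this
    simpa using this
  have hw1 : ((z : ↥(Op p H)) : G) ≠ 1 := by
    intro h1
    apply hz
    apply Subtype.ext
    apply Subtype.ext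
    simpa using h1
  have hF : Cfsg.fittingOf H ≤ Subgroup.centralizer ({((z : ↥(Op p H)) : G)} : Set G) := by
    rw [fittingOf_eq]
    apply iSup_le
    rintro ⟨r, hr⟩
    haveI : Fact r.Prime := ⟨hr⟩
    intro x hx
    rw [Subgroup.mem_centralizer_iff]
    intro w hw
    rw [Set.mem_singleton_iff] at hw
    subst hw
    by_cases hrp : r = p
    · subst hrp
      exact (hzc x hx).symm
    · exact commute_Op (Ne.symm hrp) H (z : ↥(Op p H)).2 hx
  intro hbot
  have hmem : ((z : ↥(Op p H)) : G) ∈ Zc p H := by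
    refine ⟨(z : ↥(Op p H)).2, ?_⟩
    show ((z : ↥(Op p H)) : G) ∈ Subgroup.centralizer (Cfsg.fittingOf H : Set G)
    rw [Subgroup.mem_centralizer_iff]
    intro f hf
    have := Subgroup.mem_centralizer_iff.mp (hF hf) _ (Set.mem_singleton _)
    exact this.symm
  rw [hbot, Subgroup.mem_bot] at hmem
  exact hw1 hmem

theorem le_normalizer_Zc [Finite G] (p : ℕ) (H : Subgroup G) :
    H ≤ Subgroup.normalizer (Zc p H : Set G) := by
  intro h hh
  have h1 : h ∈ Subgroup.normalizer (Op p H : Set G) := le_normalizer_Op p H hh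
  have h2 : h ∈ Subgroup.normalizer ((Cfsg.fittingOf H : Subgroup G) : Set G) :=
    mem_normalizer_map_subtype (Cfsg.fittingSubgroup ↥H) hh
  have h3 := normalizer_le_normalizer_centralizer _ h2
  exact Subgroup.inf_normalizer_le_normalizer_inf ⟨h1, h3⟩

/-- balance: in a solvable subgroup `L`, a `p'`-subgroup `Y` of `C_L(T)` normalized by `C_L(T)`
(`T` a `p`-subgroup of `L`) centralizes `O_p(L)`. -/
theorem bal [Finite G] {p : ℕ} [Fact p.Prime] (L : Subgroup G) [hL : Group.IsSolvable ↥L]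
    (T Y : Subgroup G) (hTL : T ≤ L) (hT : IsPGroup p ↥T) (hYL : Y ≤ L)
    (hYT : Y ≤ Subgroup.centralizer (T : Set G)) (hY : (Nat.card ↥Y).Coprime p)
    (hN : L ⊓ Subgroup.centralizer (T : Set G) ≤ Subgroup.normalizer (Y : Set G)) :
    ∀ y ∈ Y, ∀ x ∈ Op p L, x * y = y * x := by
  have h1 : Y.subgroupOf L ≤ pPrimeCore p ↥L := by
    apply Cfsg.Agent.Helper29.le_pPrimeCore_of_isPConstrained
      (Cfsg.Agent.Helper29.isPConstrained_of_isSolvable p) (T.subgroupOf L) hT.comap_subtype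
    · intro y hy
      rw [Subgroup.mem_centralizer_iff]
      intro t ht
      apply Subtype.ext
      have := Subgroup.mem_centralizer_iff.mp (hYT (Subgroup.mem_subgroupOf.mp hy)) (t : G)
        (Subgroup.mem_subgroupOf.mp ht)
      simpa using this
    · have : Nat.card ↥(Y.subgroupOf L) = Nat.card ↥Y :=
        Nat.card_congr (Subgroup.subgroupOfEquivOfLe hYL).toEquiv
      rw [this]; exact hY
    · intro c hc
      have hc' : (c : G) ∈ L ⊓ Subgroup.centralizer (T : Set G) := by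
        refine ⟨c.2, ?_⟩
        show (c : G) ∈ Subgroup.centralizer (T : Set G)
        rw [Subgroup.mem_centralizer_iff]
        intro t ht
        have := Subgroup.mem_centralizer_iff.mp hc ⟨t, hTL ht⟩
          (by rw [SetLike.mem_coe, Subgroup.mem_subgroupOf]; exact ht)
        exact congrArg Subtype.val this
      have hn := hN hc'
      rw [Subgroup.mem_normalizer_iff] at hn ⊢
      intro y
      rw [Subgroup.mem_subgroupOf, Subgroup.mem_subgroupOf]
      have := hn (y : G)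
      simpa using this
  have hKcop : (Nat.card (pPrimeCore p ↥L)).Coprime p := Cfsg.Agent.Helper54.pPrimeCore_coprime p
  have hQp : IsPGroup p (pCore p ↥L) := Cfsg.Agent.Helper54.isPGroup_pCore
  obtain ⟨m, hm⟩ := hQp.exists_card_eq
  have hcop : (Nat.card (pCore p ↥L)).Coprime (Nat.card (pPrimeCore p ↥L)) := by
    rw [hm]
    exact (Nat.Coprime.pow_right m hKcop).symm
  have hdisj : Disjoint (pCore p ↥L) (pPrimeCore p ↥L) := Subgroup.disjoint_of_coprime_natCard hcop
  intro y hy x hx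
  obtain ⟨x', hx', rfl⟩ := hx
  have hy' : (⟨y, hYL hy⟩ : ↥L) ∈ Y.subgroupOf L := by
    rw [Subgroup.mem_subgroupOf]; exact hy
  have hcomm : Commute x' (⟨y, hYL hy⟩ : ↥L) :=
    Subgroup.commute_of_normal_of_disjoint _ _ inferInstance inferInstance hdisj x' _ hx' (h1 hy')
  have := congrArg Subtype.val hcomm.eq
  simpa using this

theorem normalizer_eq_of_coatom [IsSimpleGroup G] {H : Subgroup G} (hH : IsCoatom H) (X : Subgroup G)
    (hX0 : X ≠ ⊥) (hXH : X ≤ H) (hHX : H ≤ Subgroup.normalizer (X : Set G)) :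
    Subgroup.normalizer (X : Set G) = H := by
  have hXtop : X ≠ ⊤ := fun h => hH.1 (top_le_iff.mp (h ▸ hXH))
  have hN : Subgroup.normalizer (X : Set G) ≠ ⊤ := by
    intro h
    have hn : X.Normal := Subgroup.normalizer_eq_top_iff.mp h
    rcases hn.eq_bot_or_eq_top with h | h
    · exact hX0 h
    · exact hXtop h
  by_contra hne
  exact hN (hH.2 _ (lt_of_le_of_ne hHX (Ne.symm hne)))

theorem core [Finite G] [IsSimpleGroup G] (hna : ¬ IsMulCommutative G)
    (hsolv : ∀ K : Subgroup G, K ≠ ⊤ → Group.IsSolvable ↥K)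
    (H : Subgroup G) (hH : IsCoatom H)
    (hF2 : 2 ≤ (Nat.card ↥(Cfsg.fittingOf H)).primeFactors.card)
    (M : Subgroup G) (hM : M ≤ Cfsg.fittingOf H)
    (hZM : Cfsg.fittingOf H ⊓ Subgroup.centralizer (Cfsg.fittingOf H : Set G) ≤ M)
    (hinv : ∀ Y ∈ Cfsg.invSubgroups ⊤ M (Cfsg.primesNotDvd (Nat.card ↥(Cfsg.fittingOf H))), Y = ⊥)
    (L : Subgroup G) (hL : IsCoatom L) (hML : M ≤ L) : L = H := by
  classical
  by_contra hne
  haveI : Group.IsSolvable ↥H := hsolv H hH.1
  haveI : Group.IsSolvable ↥L := hsolv L hL.1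
  -- facts for the primes dividing |F|
  have hπ : ∀ p : ℕ, p.Prime → p ∣ Nat.card ↥(Cfsg.fittingOf H) →
      Zc p H ≠ ⊥ ∧ Zc p H ≤ M ∧ Subgroup.normalizer (Zc p H : Set G) = H := by
    intro p hp hdvd
    haveI : Fact p.Prime := ⟨hp⟩
    have h1 : Op p H ≠ ⊥ := Op_ne_bot_of_dvd H p hdvd
    have h2 : Zc p H ≠ ⊥ := Zc_ne_bot H p h1
    have h3 : Zc p H ≤ M := fun z hz => hZM ⟨Op_le_fittingOf p H hz.1, hz.2⟩
    exact ⟨h2, h3, normalizer_eq_of_coatom hH _ h2 (inf_le_left.trans (Op_le p H))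
      (le_normalizer_Zc p H)⟩
  -- two distinct primes
  obtain ⟨p₁, p₂, hp₁, hp₂, hd₁, hd₂, h12⟩ : ∃ p₁ p₂ : ℕ, p₁.Prime ∧ p₂.Prime ∧
      p₁ ∣ Nat.card ↥(Cfsg.fittingOf H) ∧ p₂ ∣ Nat.card ↥(Cfsg.fittingOf H) ∧ p₁ ≠ p₂ := by
    obtain ⟨a, ha, b, hb, hab⟩ := Finset.one_lt_card.mp
      (by omega : 1 < (Nat.card ↥(Cfsg.fittingOf H)).primeFactors.card)
    exact ⟨a, b, Nat.prime_of_mem_primeFactors ha, Nat.prime_of_mem_primeFactors hb,
      Nat.dvd_of_mem_primeFactors ha, Nat.dvd_of_mem_primeFactors hb, hab⟩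
  have hother : ∀ p : ℕ, ∃ r : ℕ, r.Prime ∧ r ∣ Nat.card ↥(Cfsg.fittingOf H) ∧ r ≠ p := by
    intro p
    by_cases h : p₁ = p
    · exact ⟨p₂, hp₂, hd₂, fun h' => h12 (h.trans h'.symm)⟩
    · exact ⟨p₁, hp₁, hd₁, h⟩
  -- (C1)
  have hC1 : ∀ p : ℕ, p.Prime → p ∣ Nat.card ↥(Cfsg.fittingOf H) → ∀ r : ℕ, r.Prime → r ≠ p →
      ∀ y ∈ Op r H ⊓ L, ∀ x ∈ Op p L, x * y = y * x := by
    intro p hp hdvd r hr hrp
    haveI : Fact p.Prime := ⟨hp⟩
    haveI : Fact r.Prime := ⟨hr⟩
    obtain ⟨-, hZM', hNZ⟩ := hπ p hp hdvd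
    apply bal L (Zc p H) (Op r H ⊓ L) (hZM'.trans hML) ((isPGroup_Op p H).to_le inf_le_left)
      inf_le_right
    · intro y hy
      rw [Subgroup.mem_centralizer_iff]
      intro z hz
      exact commute_Op (Ne.symm hrp) H hz.1 hy.1
    · have hYr : IsPGroup r ↥(Op r H ⊓ L : Subgroup G) := (isPGroup_Op r H).to_le inf_le_left
      obtain ⟨n, hn⟩ := IsPGroup.iff_card.mp hYr
      rw [hn]
      exact Nat.Coprime.pow_left n ((Nat.coprime_primes hr hp).mpr hrp)
    · intro c hc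
      have hcH : c ∈ H := by
        rw [← hNZ]; exact Subgroup.centralizer_le_normalizer _ hc.2
      exact Subgroup.inf_normalizer_le_normalizer_inf
        ⟨le_normalizer_Op r H hcH, Subgroup.le_normalizer hc.1⟩
  -- (C2)
  have hC2 : ∀ p : ℕ, p.Prime → p ∣ Nat.card ↥(Cfsg.fittingOf H) → Op p L ≤ H := by
    intro p hp hdvd
    obtain ⟨r, hr, hrd, hrp⟩ := hother p
    obtain ⟨-, hZrM, hNZr⟩ := hπ r hr hrd
    have hcent : Op p L ≤ Subgroup.centralizer (Zc r H : Set G) := by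
      intro x hx
      rw [Subgroup.mem_centralizer_iff]
      intro z hz
      have hz' : z ∈ Op r H ⊓ L := ⟨hz.1, hML (hZrM hz)⟩
      exact (hC1 p hp hdvd r hr hrp z hz' x hx).symm
    calc Op p L ≤ Subgroup.centralizer (Zc r H : Set G) := hcent
      _ ≤ Subgroup.normalizer (Zc r H : Set G) := Subgroup.centralizer_le_normalizer _
      _ = H := hNZr
  -- (C3)
  have hC3 : ∀ t : ℕ, t.Prime → ¬ t ∣ Nat.card ↥(Cfsg.fittingOf H) → Op t L = ⊥ := by
    intro t ht hnd
    haveI : Fact t.Prime := ⟨ht⟩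
    apply hinv
    refine ⟨le_top, ?_, hML.trans (le_normalizer_Op t L)⟩
    intro q hq hqd
    obtain ⟨n, hn⟩ := IsPGroup.iff_card.mp (isPGroup_Op t L)
    rw [hn] at hqd
    have hqt : q = t := (Nat.prime_dvd_prime_iff_eq hq ht).mp (hq.dvd_of_dvd_pow hqd)
    subst hqt
    exact ⟨hq, hnd⟩
  have hEH : Cfsg.fittingOf L ≤ H := by
    rw [fittingOf_eq]
    apply iSup_le
    rintro ⟨t, ht⟩
    show Op t L ≤ H
    by_cases hd : t ∣ Nat.card ↥(Cfsg.fittingOf H)
    · exact hC2 t ht hd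
    · rw [hC3 t ht hd]; exact bot_le
  -- (C4)
  have hC4 : ∀ p : ℕ, p.Prime → p ∣ Nat.card ↥(Cfsg.fittingOf H) → Op p L ≠ ⊥ := by
    intro p hp hdvd hbot
    haveI : Fact p.Prime := ⟨hp⟩
    obtain ⟨hZne, hZM', -⟩ := hπ p hp hdvd
    have hcent : Cfsg.fittingOf L ≤ Subgroup.centralizer (Zc p H : Set G) := by
      rw [fittingOf_eq]
      apply iSup_le
      rintro ⟨t, ht⟩
      show Op t L ≤ _
      by_cases htp : t = p
      · rw [htp, hbot]; exact bot_le
      · by_cases hd : t ∣ Nat.card ↥(Cfsg.fittingOf H)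
        · intro x hx
          rw [Subgroup.mem_centralizer_iff]
          intro z hz
          have hz' : z ∈ Op p H ⊓ L := ⟨hz.1, hML (hZM' hz)⟩
          exact (hC1 t ht hd p hp (Ne.symm htp) z hz' x hx).symm
        · rw [hC3 t ht hd]; exact bot_le
    have hZE : Zc p H ≤ Cfsg.fittingOf L := by
      intro z hz
      have hzL : z ∈ L := hML (hZM' hz)
      have hzc : (⟨z, hzL⟩ : ↥L) ∈
          Subgroup.centralizer ((Cfsg.fittingSubgroup ↥L : Subgroup ↥L) : Set ↥L) := by
        rw [Subgroup.mem_centralizer_iff]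
        intro e he
        apply Subtype.ext
        have heE : (e : G) ∈ Cfsg.fittingOf L := ⟨e, he, rfl⟩
        have := Subgroup.mem_centralizer_iff.mp (hcent heE) z hz
        simpa using this.symm
      exact ⟨⟨z, hzL⟩, Cfsg.Agent.Helper94.centralizer_fitting_le hzc, rfl⟩
    obtain ⟨z, hz, hz1, hzp⟩ := exists_order_p (Zc p H) ((isPGroup_Op p H).to_le inf_le_left) hZne
    have := mem_Op_of_mem_fittingOf L p (hZE hz) hzp
    rw [hbot, Subgroup.mem_bot] at this
    exact hz1 this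
  -- (C6)
  have hC6 : ∀ p : ℕ, p.Prime → p ∣ Nat.card ↥(Cfsg.fittingOf H) → ∀ r : ℕ, r.Prime →
      r ∣ Nat.card ↥(Cfsg.fittingOf H) → r ≠ p → ∀ y ∈ Op r L, ∀ x ∈ Op p H, x * y = y * x := by
    intro p hp hdvd r hr hrd hrp
    haveI : Fact p.Prime := ⟨hp⟩
    haveI : Fact r.Prime := ⟨hr⟩
    have hNE : Subgroup.normalizer (Op p L : Set G) = L :=
      normalizer_eq_of_coatom hL _ (hC4 p hp hdvd) (Op_le p L) (le_normalizer_Op p L)
    apply bal H (Op p L) (Op r L) (hC2 p hp hdvd) (isPGroup_Op p L) (hC2 r hr hrd)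
    · intro y hy
      rw [Subgroup.mem_centralizer_iff]
      intro z hz
      exact commute_Op (Ne.symm hrp) L hz hy
    · obtain ⟨n, hn⟩ := IsPGroup.iff_card.mp (isPGroup_Op r L)
      rw [hn]
      exact Nat.Coprime.pow_left n ((Nat.coprime_primes hr hp).mpr hrp)
    · intro c hc
      have hcL : c ∈ L := by rw [← hNE]; exact Subgroup.centralizer_le_normalizer _ hc.2
      exact le_normalizer_Op r L hcL
  -- (C7)
  have hFL : Cfsg.fittingOf H ≤ L := by
    rw [fittingOf_eq]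
    apply iSup_le
    rintro ⟨p, hp⟩
    show Op p H ≤ L
    haveI : Fact p.Prime := ⟨hp⟩
    by_cases hd : p ∣ Nat.card ↥(Cfsg.fittingOf H)
    · obtain ⟨r, hr, hrd, hrp⟩ := hother p
      haveI : Fact r.Prime := ⟨hr⟩
      have hNE : Subgroup.normalizer (Op r L : Set G) = L :=
        normalizer_eq_of_coatom hL _ (hC4 r hr hrd) (Op_le r L) (le_normalizer_Op r L)
      have hc : Op p H ≤ Subgroup.centralizer (Op r L : Set G) := by
        intro x hx
        rw [Subgroup.mem_centralizer_iff]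
        intro y hy
        exact (hC6 p hp hd r hr hrd hrp y hy x hx).symm
      calc Op p H ≤ Subgroup.centralizer (Op r L : Set G) := hc
        _ ≤ Subgroup.normalizer (Op r L : Set G) := Subgroup.centralizer_le_normalizer _
        _ = L := hNE
    · have hb : Op p H = ⊥ := by
        by_contra hne'
        obtain ⟨z, hz, hz1, hzp⟩ := exists_order_p (Op p H) (isPGroup_Op p H) hne'
        have hzF : z ∈ Cfsg.fittingOf H := Op_le_fittingOf p H hz
        have ho : orderOf z = p := orderOf_eq_prime hzp hz1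
        have h2 : orderOf z ∣ Nat.card ↥(Cfsg.fittingOf H) := Subgroup.orderOf_dvd_natCard _ hzF
        exact hd (ho ▸ h2)
      rw [hb]; exact bot_le
  -- apply Bender's maximal subgroup theorem S1312
  have hFs : ∀ (K : Subgroup G) [Group.IsSolvable ↥K],
      Cfsg.generalizedFittingSubgroup ↥K = Cfsg.fittingSubgroup ↥K := by
    intro K _
    apply Cfsg.Agent.Helper24.generalizedFitting_eq_fitting_of_layer_eq_bot
    exact Cfsg.Agent.Helper24.layer_eq_bot_of_centralizer_fitting_le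
      Cfsg.Agent.Helper94.centralizer_fitting_le
  obtain ⟨p, hp, hpH, -⟩ := Cfsg.Agent.S1312.result hna H L hH hL (fun h => hne h.symm)
    (by rw [hFs H]; exact hFL) (by rw [hFs L]; exact hEH)
  rw [hFs H] at hpH
  haveI : Fact p.Prime := ⟨hp⟩
  obtain ⟨n, hn⟩ := IsPGroup.iff_card.mp hpH
  have hcard : Nat.card ↥(Cfsg.fittingOf H) = p ^ n := by
    rw [← hn]
    exact Nat.card_congr
      (Subgroup.equivMapOfInjective _ _ (Subgroup.subtype_injective H)).symm.toEquiv
  rw [hcard] at hF2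
  have hsub : (p ^ n).primeFactors ⊆ {p} := by
    intro q hq
    rw [Finset.mem_singleton]
    exact (Nat.prime_dvd_prime_iff_eq (Nat.prime_of_mem_primeFactors hq) hp).mp
      ((Nat.prime_of_mem_primeFactors hq).dvd_of_dvd_pow (Nat.dvd_of_mem_primeFactors hq))
  have := Finset.card_le_card hsub
  simp at this
  omega

/-- Let G be a minimal simple group of odd order, H a maximal subgroup whose Fitting subgroup F has at least two prime divisors, and M a subgroup of F containing the centre of F such that the only M-invariant subgroup of G of order coprime to #F is the trivial one. Then H is the only maximal subgroup of G containing M. -/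
theorem result {G : Type*} [Group G] [Finite G] (hG : Cfsg.IsMinSimpleOddOrder G) (H : Subgroup G) (hH : IsCoatom H) (hF2 : 2 ≤ (Nat.card (Cfsg.fittingOf H)).primeFactors.card)
    (M : Subgroup G) (hM : M ≤ Cfsg.fittingOf H) (hZM : Cfsg.fittingOf H ⊓ Subgroup.centralizer (Cfsg.fittingOf H : Set G) ≤ M)
    (hinv : ∀ Y ∈ Cfsg.invSubgroups ⊤ M (Cfsg.primesNotDvd (Nat.card (Cfsg.fittingOf H))), Y = ⊥) :
    ∀ L : Subgroup G, IsCoatom L → M ≤ L → L = H := by
  intro L hL hML
  obtain ⟨-, hsimple, hna, hsolv⟩ := hG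
  haveI := hsimple
  exact core hna hsolv H hH hF2 M hM hZM hinv L hL hML

end Cfsg.Agent.S1482
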