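import Cfsg.Statements.S1401
import Mathlib
import Cfsg.Agent.S1399
import Cfsg.Agent.S1397
import Cfsg.Agent.Lib.Helper96.BGU4

set_option autoImplicit false
open Cfsg

namespace Cfsg.Agent.S1401

/-- Let G be a minimal simple group of odd order, p a prime, and M a maximal subgroup whose Fitting subgroup contains an elementary abelian subgroup of order p ^ 3. Then every abelian p-subgroup of G containing an elementary abelian subgroup of order p ^ 3 lies in exactly one maximal subgroup of G. -/
theorem result {G : Type*} [Group G] [Finite G] (hG : Cfsg.IsMinSimpleOddOrder G)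
    (M : Subgroup G) (hM : IsCoatom M) (p : ℕ) [Fact p.Prime] (hF : ¬ Cfsg.PRankLE p 2 ↥(Cfsg.fittingOf M))
    (A : Subgroup G) (hAp : IsPGroup p A) (hAc : IsMulCommutative A) (hA3 : ¬ Cfsg.PRankLE p 2 ↥A) :
    Cfsg.InUniqueMaximal A := by
  have h92 : Cfsg.Agent.Helper96.BGU.H92 G := fun L K hL hK hKr => Cfsg.Agent.S1399.result hG L K hL hK hKr
  have h81 : Cfsg.Agent.Helper96.BGU.H81 G := fun M hM p _ A₀ h1 h2 h3 h4 =>
    Cfsg.Agent.S1397.result hG M hM p A₀ h1 h2 h3 h4
  exact Cfsg.Agent.Helper96.BGU.bg94 hG.1 h92 h81 M hM p hF A hAp hAc hA3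

end Cfsg.Agent.S1401
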