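import Cfsg.Statements.S5133
import Cfsg.Agent.Lib.Helper85.SurjMor4

set_option autoImplicit false
open Cfsg

namespace Cfsg.Agent.S5133

open Cfsg.FusionSystem Cfsg.Agent.Helper87 Cfsg.Agent.Helper85

/-- Let F be a saturated fusion system over a finite p-group S, F' a fusion system over S', and α : S → S' a surjective morphism of fusion systems from F to F' (α maps S onto S' and every map of F' with source P' ≤ S' is induced along α by a map of F on the full preimage of P'). Then F' is saturated. -/
theorem result {Ω : Type*} [Group Ω] {S : Subgroup Ω} [Finite S] (p : ℕ) [Fact p.Prime] (hS : IsPGroup p S) (F : Cfsg.FusionSystem S) (hF : F.IsSaturated p) {Ω' : Type*} [Group Ω'] {S' : Subgroup Ω'} (F' : Cfsg.FusionSystem S') (α : S →* Ω') (hα : F.IsSurjectiveMorphism F' α) : F'.IsSaturated p := by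
  intro P' hP'
  have hT : F.StronglyClosed (kerOf α) := kerOf_stronglyClosed hS hα.1
  have hP : preimageAlong α P' ≤ S := preimageAlong_le α P'
  have hTP : kerOf α ≤ preimageAlong α P' := kerOf_le_pre α P'
  obtain ⟨Q, hconj, hfn⟩ := exists_fullyNormalized_conj F hP
  obtain ⟨f, hf⟩ := isConj_iff.1 hconj
  have hTQ : kerOf α ≤ Q := by
    intro t ht
    obtain ⟨x, hx, rfl⟩ := Mor.surj_stronglyClosed hT hf.mor hTP ht
    exact hf.map_mem (hTP hx)
  obtain ⟨f', hf', -⟩ := descend_iso hα.1 hf
  rw [img_pre hα.2.1 hP'] at hf'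
  have hfa := fullyAutomized_of_fullyNormalized hS hF hfn
  have hrec := receptive_of_fullyNormalized hS hF hfn
  exact ⟨imageAlong α Q, isConj_iff.2 ⟨f', hf'⟩, fullyAutomized_image hS hα hTQ hfa,
    receptive_image hS hα hTQ hfa hrec⟩

end Cfsg.Agent.S5133
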