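import Cfsg.Statements.S1459
import Mathlib
import Cfsg.Agent.Lib.Helper24.Averaging
import Cfsg.Agent.Lib.Helper55.Cores

set_option autoImplicit false
open Cfsg

namespace Cfsg.Agent.S1459

open Cfsg.Agent.Helper24 Subgroup
open scoped commutatorElement

/-- `A ≤ N(N)` from conjugation-closure. -/
theorem le_normalizer_of_conj_mem {G : Type*} [Group G] (A N : Subgroup G)
    (h : ∀ a ∈ A, ∀ n ∈ N, a * n * a⁻¹ ∈ N) : A ≤ normalizer (N : Set G) := by
  intro a ha
  rw [mem_normalizer_iff]
  intro n
  refine ⟨h a ha n, fun hn => ?_⟩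
  have := h a⁻¹ (A.inv_mem ha) _ hn
  simpa [mul_assoc] using this

/-- Lemma Z. -/
theorem eq_of_complement {G : Type*} [Group G] [Group.IsSolvable G] (X K L : Subgroup G)
    [X.Normal] [L.Normal] (hXK : X ⊔ K = ⊤) (hdisj : Disjoint X K)
    (hXG' : X ≤ commutator G) (hLX : L ≤ X) (hL : ∀ x ∈ X, ∀ k ∈ K, ⁅x, k⁆ ∈ L) : X = L := by
  set N := L ⊔ K with hN
  have hconj : ∀ g : G, ∀ l ∈ L, g * l * g⁻¹ ∈ L := fun g l hl =>
    (inferInstance : L.Normal).conj_mem l hl g
  have hXN : X ≤ normalizer (N : Set G) := by
    apply le_normalizer_of_conj_mem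
    intro x hx n hn
    obtain ⟨l, hl, k, hk, rfl⟩ := mem_sup_of_normal_left.mp hn
    have : x * (l * k) * x⁻¹ = (x * l * x⁻¹) * ⁅x, k⁆ * k := by
      rw [commutatorElement_def]; group
    rw [this]
    exact mul_mem_sup (L.mul_mem (hconj x l hl) (hL x hx k hk)) hk
  have hKN : K ≤ normalizer (N : Set G) := by
    apply le_normalizer_of_conj_mem
    intro a ha n hn
    obtain ⟨l, hl, k, hk, rfl⟩ := mem_sup_of_normal_left.mp hn
    have : a * (l * k) * a⁻¹ = (a * l * a⁻¹) * (a * k * a⁻¹) := by group
    rw [this]
    exact mul_mem_sup (hconj a l hl) (K.mul_mem (K.mul_mem ha hk) (K.inv_mem ha))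
  have hNn : N.Normal := by
    rw [← normalizer_eq_top_iff, eq_top_iff, ← hXK]
    exact sup_le hXN hKN
  have htop : commutator G ⊔ N = ⊤ := by
    rw [eq_top_iff, ← hXK]
    exact sup_le (hXG'.trans le_sup_left) ((le_sup_right : K ≤ N).trans le_sup_right)
  have hNtop : N = ⊤ := eq_top_of_commutator_sup_eq_top N htop
  apply le_antisymm _ hLX
  intro x hx
  have hxN : x ∈ L ⊔ K := by rw [← hN, hNtop]; trivial
  obtain ⟨l, hl, k, hk, hlk⟩ := mem_sup_of_normal_left.mp hxN
  have hkX : k ∈ X := by
    have : k = l⁻¹ * x := by rw [← hlk]; group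
    rw [this]; exact X.mul_mem (X.inv_mem (hLX hl)) hx
  have hk1 : k = 1 := disjoint_def.mp hdisj hkX hk
  rw [← hlk, hk1, mul_one]; exact hl

/-- A nilpotent group generated by its commutator subgroup and one element is generated by that
element. -/
theorem zpowers_eq_top_of_nilpotent (X : Type*) [Group X] [Group.IsNilpotent X] :
    ∀ x : X, commutator X ⊔ zpowers x = ⊤ → zpowers x = ⊤ := by
  refine Group.nilpotent_center_quotient_ind
    (P := fun X _ _ => ∀ x : X, commutator X ⊔ zpowers x = ⊤ → zpowers x = ⊤) X ?_ ?_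
  · intro X _ _ x _
    exact Subsingleton.elim _ _
  · intro X _ _ ih x hx
    set π := QuotientGroup.mk' (center X) with hπ
    have hsurj : Function.Surjective π := QuotientGroup.mk'_surjective _
    have h1 : (commutator X).map π = commutator (X ⧸ center X) := by
      rw [map_commutator_eq, MonoidHom.range_eq_top.mpr hsurj, _root_.commutator_def]
    have h2 : (commutator X ⊔ zpowers x).map π = ⊤ := by
      rw [hx, ← MonoidHom.range_eq_map, MonoidHom.range_eq_top.mpr hsurj]
    rw [Subgroup.map_sup, h1, MonoidHom.map_zpowers] at h2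
    have h3 : zpowers (π x) = ⊤ := ih (π x) h2
    have : IsCyclic (X ⧸ center X) := ⟨⟨π x, fun y => by
      have : y ∈ zpowers (π x) := by rw [h3]; trivial
      exact this⟩⟩
    have hcomm : IsMulCommutative X :=
      MonoidHom.isMulCommutative_of_isCyclic_of_ker_le_center π (by rw [hπ, QuotientGroup.ker_mk'])
    have h4 : commutator X = ⊥ := by
      rw [commutator_eq_bot_iff]
      exact hcomm
    rwa [h4, bot_sup_eq] at hx

/-- part (b)(i) -/
theorem coprime_of_nilpotent_commutator {G : Type*} [Group G] [Finite G]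
    (hnil : Group.IsNilpotent ↥(commutator G)) (hq : (commutator G).index.Prime) :
    (Nat.card ↥(commutator G)).Coprime (commutator G).index := by
  set D := commutator G with hD
  set q := D.index with hqdef
  have : Fact q.Prime := ⟨hq⟩
  set R := pPrimeCore q G with hR
  have hRcop : (Nat.card R).Coprime q := Helper55.pPrimeCore_coprime q
  -- the quotient G/R is a q-group
  have hidx : ∀ r : ℕ, r.Prime → r ≠ q → ¬ r ∣ R.index := by
    intro r hr hrq hdvd
    have : Fact r.Prime := ⟨hr⟩
    obtain ⟨P⟩ : Nonempty (Sylow r D) := inferInstance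
    have hPn : (P : Subgroup D).Normal := by
      have := (Group.isNilpotent_of_finite_tfae (G := D)).out 0 3
      exact (this.mp hnil) r ⟨hr⟩ P
    have := hPn
    have : (P : Subgroup D).Characteristic := Sylow.characteristic_of_normal P hPn
    have hPGn : ((P : Subgroup D).map D.subtype).Normal :=
      ConjAct.normal_of_characteristic_of_normal
    have hPcard : Nat.card ((P : Subgroup D).map D.subtype) = Nat.card (P : Subgroup D) :=
      card_map_of_injective D.subtype_injective
    have hPle : (P : Subgroup D).map D.subtype ≤ R := by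
      apply Helper55.le_pPrimeCore hPGn
      rw [hPcard]
      obtain ⟨n, hn⟩ := IsPGroup.iff_card.mp P.isPGroup'
      rw [hn]
      apply Nat.Coprime.pow_left
      exact (Nat.coprime_primes hr hq).mpr hrq
    have h1 : R.index ∣ ((P : Subgroup D).map D.subtype).index := index_dvd_of_le hPle
    have h2 : ((P : Subgroup D).map D.subtype).index = (P : Subgroup D).index * D.index := by
      rw [index_map_subtype]
    have h3 : ¬ r ∣ (P : Subgroup D).index := P.not_dvd_index
    have h4 : r ∣ (P : Subgroup D).index * q := by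
      rw [hqdef, ← h2]; exact dvd_trans hdvd h1
    rcases (Nat.Prime.dvd_mul hr).mp h4 with h5 | h5
    · exact h3 h5
    · exact hrq ((Nat.prime_dvd_prime_iff_eq hr hq).mp h5)
  have hRidx : ∃ n : ℕ, R.index = q ^ n := by
    have hne : R.index ≠ 0 := index_ne_zero_of_finite
    refine ⟨_, Nat.eq_prime_pow_of_unique_prime_dvd (p := q) hne ?_⟩
    intro r hr hrdvd
    by_contra hne'
    exact hidx r hr hne' hrdvd
  have hQp : IsPGroup q (G ⧸ R) := by
    obtain ⟨n, hn⟩ := hRidx
    apply IsPGroup.of_card (n := n)
    rw [← hn]; rfl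
  have : Group.IsNilpotent (G ⧸ R) := hQp.isNilpotent
  -- pick x outside D
  have hDne : D ≠ ⊤ := by
    intro h
    rw [hqdef, h, index_top] at hq
    exact Nat.not_prime_one hq
  obtain ⟨x, hx⟩ : ∃ x : G, x ∉ D := by
    by_contra hall
    push Not at hall
    exact hDne (eq_top_iff.mpr fun y _ => hall y)
  have hDx : D ⊔ zpowers x = ⊤ := by
    have h1 : D.relIndex (D ⊔ zpowers x) * (D ⊔ zpowers x).index = D.index :=
      relIndex_mul_index le_sup_left
    rcases (Nat.dvd_prime hq).mp (Dvd.intro_left _ h1) with h2 | h2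
    · exact index_eq_one.mp h2
    · exfalso
      rw [h2] at h1
      have h3 : D.relIndex (D ⊔ zpowers x) = 1 := by
        have hqpos : 0 < q := hq.pos
        have : D.relIndex (D ⊔ zpowers x) * q = 1 * q := by rw [h1, one_mul]
        exact Nat.eq_of_mul_eq_mul_right hqpos this
      have h4 : D ⊔ zpowers x ≤ D := relIndex_eq_one.mp h3
      exact hx (h4 (mem_sup_right (mem_zpowers x)))
  -- G/R is generated by its commutator subgroup and the image of x
  set π := QuotientGroup.mk' R with hπ
  have hsurj : Function.Surjective π := QuotientGroup.mk'_surjective _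
  have h1 : D.map π = commutator (G ⧸ R) := by
    rw [hD, map_commutator_eq, MonoidHom.range_eq_top.mpr hsurj, _root_.commutator_def]
  have h2 : (D ⊔ zpowers x).map π = ⊤ := by
    rw [hDx, ← MonoidHom.range_eq_map, MonoidHom.range_eq_top.mpr hsurj]
  rw [Subgroup.map_sup, h1, MonoidHom.map_zpowers] at h2
  have h3 : zpowers (π x) = ⊤ := zpowers_eq_top_of_nilpotent (G ⧸ R) (π x) h2
  have hcomm : IsMulCommutative (G ⧸ R) := by
    have : IsCyclic (G ⧸ R) := ⟨⟨π x, fun y => by
      have : y ∈ zpowers (π x) := by rw [h3]; trivial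
      exact this⟩⟩
    exact ⟨⟨IsCyclic.commGroup.mul_comm⟩⟩
  have hDR : D ≤ R := Subgroup.Normal.quotient_commutative_iff_commutator_le.mp hcomm
  exact Nat.Coprime.coprime_dvd_left (card_dvd_of_le hDR) hRcop

/-- Let G be a finite solvable group. (a) If H is a normal subgroup of order coprime to its index, K is a complement to H, and H ≤ G', then H = [H, K] and H ∩ C_G(K) ≤ [H, H]. (b) If G' is nilpotent and has prime index in G, then the order of G' is coprime to its index and G' = [G, K] (the subgroup generated by commutators of elements of G with elements of K) for every complement K of G'. -/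
theorem result {G : Type*} [Group G] [Finite G] [Group.IsSolvable G] :
    (∀ (H K : Subgroup G), H.Normal → (Nat.card H).Coprime H.index → Subgroup.IsComplement' H K → H ≤ commutator G →
        H = ⁅H, K⁆ ∧ H ⊓ Subgroup.centralizer (K : Set G) ≤ ⁅H, H⁆) ∧
      (Group.IsNilpotent ↥(commutator G) → (commutator G).index.Prime →
        (Nat.card ↥(commutator G)).Coprime (commutator G).index ∧
        ∀ K : Subgroup G, Subgroup.IsComplement' (commutator G) K → commutator G = ⁅(⊤ : Subgroup G), K⁆) := by
  refine ⟨?_, ?_⟩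
  · intro H K hHn hcop hcompl hHG'
    have := hHn
    have hKH : K ≤ normalizer (H : Set G) := by rw [normalizer_eq_top]; exact le_top
    have hLH : ⁅H, K⁆ ≤ H := commutator_le_of_le_normalizer H K hKH
    have hLn : (⁅H, K⁆).Normal := by
      rw [← normalizer_eq_top_iff, eq_top_iff, ← hcompl.sup_eq_top]
      exact sup_le (normalizer_commutator_ge_left H K) (normalizer_commutator_ge_right H K)
    have h1 : H = ⁅H, K⁆ := eq_of_complement H K ⁅H, K⁆ hcompl.sup_eq_top hcompl.disjoint hHG' hLH
      (fun x hx k hk => commutator_mem_commutator hx hk)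
    refine ⟨h1, ?_⟩
    have hcop' : (Nat.card H).Coprime (Nat.card K) := by
      rw [← hcompl.symm.index_eq_card]; exact hcop
    have h2 := inf_centralizer_inf_commutator_le H K hKH hcop'
    intro c hc
    apply h2
    refine ⟨hc, ?_⟩
    rw [← h1]; exact hc.1
  · intro hnil hq
    refine ⟨coprime_of_nilpotent_commutator hnil hq, ?_⟩
    intro K hcompl
    have hLD : ⁅(⊤ : Subgroup G), K⁆ ≤ commutator G := by
      rw [_root_.commutator_def]; exact commutator_mono le_rfl le_top
    have hLn : (⁅(⊤ : Subgroup G), K⁆).Normal := by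
      rw [← normalizer_eq_top_iff, eq_top_iff]
      exact normalizer_commutator_ge_left ⊤ K
    exact eq_of_complement (commutator G) K ⁅(⊤ : Subgroup G), K⁆ hcompl.sup_eq_top hcompl.disjoint
      le_rfl hLD (fun x _ k hk => commutator_mem_commutator (mem_top x) hk)

end Cfsg.Agent.S1459
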