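import Cfsg.Statements.S1410
import Cfsg.Agent.Lib.Helper20.BG106A
import Cfsg.Agent.Lib.Helper20.BG106D
import Cfsg.Agent.S1404
import Cfsg.Agent.S1405
import Cfsg.Agent.S1407
import Cfsg.Agent.S1444
import Cfsg.Agent.S1450

set_option autoImplicit false
open Cfsg

namespace Cfsg.Agent.S1410

/-- Let G be a minimal simple group of odd order. Then for every prime p and every proper subgroup H of G, H = O_{p',p,p'}(H). -/
theorem result {G : Type*} [Group G] [Finite G] (hG : Cfsg.IsMinSimpleOddOrder G) (p : ℕ) [Fact p.Prime] (H : Subgroup G) (hH : H ≠ ⊤) :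
    Cfsg.PLengthLE p 1 H := by
  classical
  obtain ⟨M, hM, hHM⟩ := (eq_top_or_exists_le_coatom H).resolve_left hH
  have hsolv : Group.IsSolvable M := hG.2.2.2 M hM.1
  have hoddM : Odd (Nat.card M) := by
    obtain ⟨k, hk⟩ := Subgroup.card_subgroup_dvd_card M
    have := hG.1
    rw [hk] at this
    exact (Nat.odd_mul.mp this).1
  refine Cfsg.Agent.Helper20.BG106.plen_subgroup hHM ?_
  by_cases hr : Cfsg.PRankLE p 2 M
  · by_cases hpM : p ∣ Nat.card M
    · have h := Cfsg.Agent.S1450.result (G := M) hoddM p hpM hr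
      exact Cfsg.Agent.Helper20.BG106.plen_of_index h.2.2.2.2.2
    · exact Cfsg.Agent.Helper20.BG106.plen_of_coprime
        ((Nat.Prime.coprime_iff_not_dvd Fact.out).mpr hpM).symm
  · have hpα : p ∈ Cfsg.alpha M := ⟨Fact.out, hr⟩
    have h5 := Cfsg.Agent.S1405.result hG M hM
    refine Cfsg.Agent.Helper20.BG106.main hG M hM p hpα ?_ ⟨h5.1, h5.2.2.1⟩ ?_ ?_
    · intro r _ hrσ X hXp hX1 hXM
      exact (Cfsg.Agent.S1404.result hG M hM r hrσ X hXp hX1 hXM).1
    · intro hα q _ hqM hqσ P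
      obtain ⟨x, hx1, hx2, hx3, -⟩ := Cfsg.Agent.S1407.result hG M hM hα q hqM hqσ P
      exact ⟨x, hx1, hx2, hx3⟩
    · intro H' R R₀ _ hHall hR hR₀ hR₀p hZ
      exact Cfsg.Agent.S1444.result (G := M) hoddM H' R R₀ hHall hR hR₀ hR₀p hZ p

end Cfsg.Agent.S1410
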