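import Cfsg.Statements.S3742

set_option autoImplicit false
open Cfsg

namespace Cfsg.Agent.S3742

abbrev Q := QuaternionGroup 2

def gi : Q := QuaternionGroup.a 1
def gj : Q := QuaternionGroup.xa 0

/-- the canonical word of an element, evaluated at `(u, v)` -/
def ext (u v : Q) : Q → Q
  | QuaternionGroup.a k => u ^ k.val
  | QuaternionGroup.xa k => v * u ^ k.val

def idx : Q → ℕ
  | QuaternionGroup.a k => k.val
  | QuaternionGroup.xa k => 4 + k.val

lemma idx_lt (x : Q) : idx x < 8 := by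
  cases x with
  | a k => have := ZMod.val_lt k; simp only [idx]; omega
  | xa k => have := ZMod.val_lt k; simp only [idx]; omega

def tblV : Fin 64 → Equiv.Perm (Fin 4) := ![
  1,
  1,
  1,
  1,
  1,
  1,
  1,
  1,
  1,
  1,
  1,
  1,
  1,
  Equiv.swap 0 2 * Equiv.swap 1 2 * Equiv.swap 2 3,
  Equiv.swap 0 3 * Equiv.swap 1 2,
  Equiv.swap 0 1 * Equiv.swap 1 3 * Equiv.swap 2 3,
  1,
  1,
  1,
  1,
  1,
  1,
  1,
  1,
  1,
  1,
  1,
  1,
  Equiv.swap 0 2 * Equiv.swap 1 3,
  Equiv.swap 0 3,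
  Equiv.swap 0 1 * Equiv.swap 2 3,
  Equiv.swap 1 2,
  1,
  Equiv.swap 0 1,
  1,
  Equiv.swap 0 3 * Equiv.swap 1 2 * Equiv.swap 2 3,
  1,
  Equiv.swap 1 3 * Equiv.swap 2 3,
  1,
  Equiv.swap 0 2 * Equiv.swap 2 3,
  1,
  Equiv.swap 1 2 * Equiv.swap 2 3,
  1,
  Equiv.swap 0 1 * Equiv.swap 1 3,
  Equiv.swap 0 3 * Equiv.swap 1 3 * Equiv.swap 2 3,
  1,
  Equiv.swap 0 2,
  1,
  1,
  Equiv.swap 0 2 * Equiv.swap 1 3 * Equiv.swap 2 3,
  1,
  Equiv.swap 2 3,
  1,
  Equiv.swap 0 1 * Equiv.swap 1 2,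
  1,
  Equiv.swap 0 3 * Equiv.swap 1 3,
  1,
  Equiv.swap 0 3 * Equiv.swap 2 3,
  1,
  Equiv.swap 0 2 * Equiv.swap 1 2,
  Equiv.swap 0 1 * Equiv.swap 1 2 * Equiv.swap 2 3,
  1,
  Equiv.swap 1 3,
  1]
def codeList : List (QuaternionGroup 2 × QuaternionGroup 2) := [
  (QuaternionGroup.a 1, QuaternionGroup.xa 0),
  (QuaternionGroup.a 1, QuaternionGroup.xa 1),
  (QuaternionGroup.a 1, QuaternionGroup.xa 2),
  (QuaternionGroup.a 1, QuaternionGroup.xa 3),
  (QuaternionGroup.a 3, QuaternionGroup.xa 0),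
  (QuaternionGroup.a 3, QuaternionGroup.xa 1),
  (QuaternionGroup.a 3, QuaternionGroup.xa 2),
  (QuaternionGroup.a 3, QuaternionGroup.xa 3),
  (QuaternionGroup.xa 0, QuaternionGroup.a 1),
  (QuaternionGroup.xa 0, QuaternionGroup.a 3),
  (QuaternionGroup.xa 0, QuaternionGroup.xa 1),
  (QuaternionGroup.xa 0, QuaternionGroup.xa 3),
  (QuaternionGroup.xa 1, QuaternionGroup.a 1),
  (QuaternionGroup.xa 1, QuaternionGroup.a 3),
  (QuaternionGroup.xa 1, QuaternionGroup.xa 0),
  (QuaternionGroup.xa 1, QuaternionGroup.xa 2),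
  (QuaternionGroup.xa 2, QuaternionGroup.a 1),
  (QuaternionGroup.xa 2, QuaternionGroup.a 3),
  (QuaternionGroup.xa 2, QuaternionGroup.xa 1),
  (QuaternionGroup.xa 2, QuaternionGroup.xa 3),
  (QuaternionGroup.xa 3, QuaternionGroup.a 1),
  (QuaternionGroup.xa 3, QuaternionGroup.a 3),
  (QuaternionGroup.xa 3, QuaternionGroup.xa 0),
  (QuaternionGroup.xa 3, QuaternionGroup.xa 2)]

def tbl (u v : Q) : Equiv.Perm (Fin 4) :=
  tblV ⟨idx u * 8 + idx v, by have := idx_lt u; have := idx_lt v; omega⟩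

/-- every homomorphism is determined by the images of the two generators -/
lemma ext_of_hom (f : Q →* Q) (x : Q) : f x = ext (f gi) (f gj) x := by
  cases x with
  | a k =>
    simp only [ext, gi]
    rw [← map_pow, QuaternionGroup.a_one_pow, ZMod.natCast_zmod_val]
  | xa k =>
    simp only [ext, gi, gj]
    rw [← map_pow, ← map_mul, QuaternionGroup.a_one_pow, ZMod.natCast_zmod_val,
      QuaternionGroup.xa_mul_a, zero_add]

set_option maxRecDepth 100000 in
lemma comp_tbl : ∀ c ∈ codeList, ∀ d ∈ codeList,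
    tbl (ext c.1 c.2 d.1) (ext c.1 c.2 d.2) = tbl c.1 c.2 * tbl d.1 d.2 := by decide +kernel

set_option maxRecDepth 100000 in
lemma mem_codeList : ∀ u v : Q, (∀ x y : Q, ext u v (x * y) = ext u v x * ext u v y) →
    Function.Injective (ext u v) → (u, v) ∈ codeList := by decide +kernel

set_option maxRecDepth 100000 in
lemma codeList_hom : ∀ c ∈ codeList, ∀ x y : Q, ext c.1 c.2 (x * y) = ext c.1 c.2 x * ext c.1 c.2 y := by
  decide +kernel

set_option maxRecDepth 100000 in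
lemma codeList_inj : ∀ c ∈ codeList, Function.Injective (ext c.1 c.2) := by decide +kernel

set_option maxRecDepth 100000 in
lemma codeList_gen : ∀ c ∈ codeList, ext c.1 c.2 gi = c.1 ∧ ext c.1 c.2 gj = c.2 := by decide +kernel

set_option maxRecDepth 100000 in
lemma tbl_inj : ∀ c ∈ codeList, ∀ d ∈ codeList, tbl c.1 c.2 = tbl d.1 d.2 → c = d := by decide +kernel

set_option maxRecDepth 100000 in
lemma tbl_surj : ∀ π : Equiv.Perm (Fin 4), ∃ c ∈ codeList, tbl c.1 c.2 = π := by decide +kernel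

lemma code_mem (f : MulAut Q) : (f gi, f gj) ∈ codeList := by
  have h : ∀ x : Q, f x = ext (f gi) (f gj) x := fun x => ext_of_hom f.toMonoidHom x
  apply mem_codeList
  · intro x y
    rw [← h, ← h, ← h, map_mul]
  · intro x y hxy
    rw [← h, ← h] at hxy
    exact f.injective hxy

/-- the isomorphism -/
def Φ : MulAut Q →* Equiv.Perm (Fin 4) where
  toFun f := tbl (f gi) (f gj)
  map_one' := by
    show tbl gi gj = 1
    decide +kernel
  map_mul' f g := by
    have h : ∀ x : Q, f x = ext (f gi) (f gj) x := fun x => ext_of_hom f.toMonoidHom x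
    have := comp_tbl _ (code_mem f) _ (code_mem g)
    simp only at this
    rw [← this, ← h, ← h]
    rfl

lemma Φ_injective : Function.Injective Φ := by
  intro f g hfg
  have h := tbl_inj _ (code_mem f) _ (code_mem g) hfg
  have h1 : f gi = g gi := congrArg Prod.fst h
  have h2 : f gj = g gj := congrArg Prod.snd h
  apply MulEquiv.ext
  intro x
  have hf : f x = ext (f gi) (f gj) x := ext_of_hom f.toMonoidHom x
  have hg : g x = ext (g gi) (g gj) x := ext_of_hom g.toMonoidHom x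
  rw [hf, hg, h1, h2]

lemma Φ_surjective : Function.Surjective Φ := by
  intro π
  obtain ⟨c, hc, hπ⟩ := tbl_surj π
  have hhom := codeList_hom c hc
  have hinj := codeList_inj c hc
  have hbij : Function.Bijective (ext c.1 c.2) := Finite.injective_iff_bijective.mp hinj
  let f : MulAut Q := MulEquiv.ofBijective (MonoidHom.mk' (ext c.1 c.2) hhom) hbij
  refine ⟨f, ?_⟩
  show tbl (ext c.1 c.2 gi) (ext c.1 c.2 gj) = π
  rw [(codeList_gen c hc).1, (codeList_gen c hc).2, hπ]

theorem result : Nonempty (MulAut (QuaternionGroup 2) ≃* Equiv.Perm (Fin 4)) :=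
  ⟨MulEquiv.ofBijective Φ ⟨Φ_injective, Φ_surjective⟩⟩

end Cfsg.Agent.S3742
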