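import Cfsg.Statements.S0560
import Cfsg.Agent.Lib.Helper10.ProdCard

set_option autoImplicit false
open Cfsg

namespace Cfsg.Agent.S0560

open Cfsg.Agent.Helper10
open Pointwise

variable {G : Type*} [Group G]

lemma map_subtype_conj_smul (H : Subgroup G) (h : H) (S : Subgroup H) :
    (MulAut.conj h • S).map H.subtype = MulAut.conj (h : G) • S.map H.subtype := by
  ext x
  constructor
  · rintro ⟨y, hy, rfl⟩
    obtain ⟨z, hz, rfl⟩ := (Subgroup.mem_smul_pointwise_iff_exists _ _ _).mp hy
    rw [Subgroup.mem_smul_pointwise_iff_exists]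
    exact ⟨z, ⟨z, hz, rfl⟩, by simp [MulAut.conj_apply]⟩
  · intro hx
    obtain ⟨_, ⟨z, hz, rfl⟩, rfl⟩ := (Subgroup.mem_smul_pointwise_iff_exists _ _ _).mp hx
    refine ⟨MulAut.conj h • z, Subgroup.smul_mem_pointwise_smul _ _ _ hz, ?_⟩
    simp [MulAut.conj_apply]

lemma card_conj_smul (U : Subgroup G) (g : G) :
    Nat.card (MulAut.conj g • U : Subgroup G) = Nat.card U :=
  (Nat.card_congr (Subgroup.equivSMul (MulAut.conj g) U).toEquiv).symm

/-- Let the finite group G be the product HK of two subgroups and p a prime. Then there are Sylow p-subgroups P of H and Q of K and a Sylow p-subgroup R of G whose underlying set is the product set of P and Q. -/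
theorem result {G : Type*} [Group G] [Finite G] (H K : Subgroup G) (hHK : ∀ g : G, ∃ h ∈ H, ∃ k ∈ K, g = h * k) (p : ℕ) [Fact p.Prime] : ∃ (P : Sylow p H) (Q : Sylow p K) (R : Sylow p G), ((R : Subgroup G) : Set G) = (((P : Subgroup H).map H.subtype : Subgroup G) : Set G) * (((Q : Subgroup K).map K.subtype : Subgroup G) : Set G) := by
  have hp : p.Prime := Fact.out
  obtain ⟨P₀⟩ : Nonempty (Sylow p H) := inferInstance
  obtain ⟨Q₀⟩ : Nonempty (Sylow p K) := inferInstance
  obtain ⟨R₀, hR₀⟩ := (P₀.2.map H.subtype).exists_le_sylow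
  obtain ⟨R₁, hR₁⟩ := (Q₀.2.map K.subtype).exists_le_sylow
  obtain ⟨x, hx⟩ := MulAction.exists_smul_eq G R₀ R₁
  -- x⁻¹ = h' * k'  so  x = k'⁻¹ * h'⁻¹
  obtain ⟨h', hh', k', hk', hxhk⟩ := hHK x⁻¹
  have hx' : x = k'⁻¹ * h'⁻¹ := by
    rw [← inv_inv x, hxhk]; group
  set h : H := ⟨h'⁻¹, H.inv_mem hh'⟩ with hh
  set k : K := ⟨k', hk'⟩ with hk
  -- R := h • R₀ = k • R₁
  set R : Sylow p G := (h : G) • R₀ with hR
  have hRk : R = (k : G) • R₁ := by
    rw [hR, ← hx, ← mul_smul]
    congr 1
    rw [hx']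
    show h'⁻¹ = k' * (k'⁻¹ * h'⁻¹)
    group
  set P : Sylow p H := h • P₀ with hP
  set Q : Sylow p K := k • Q₀ with hQ
  refine ⟨P, Q, R, ?_⟩
  set P' := (P : Subgroup H).map H.subtype with hP'
  set Q' := (Q : Subgroup K).map K.subtype with hQ'
  have hP'R : P' ≤ R := by
    rw [hP', hP, Sylow.coe_subgroup_smul, map_subtype_conj_smul, hR, Sylow.coe_subgroup_smul]
    exact Subgroup.pointwise_smul_le_pointwise_smul_iff.mpr hR₀
  have hQ'R : Q' ≤ R := by
    rw [hQ', hQ, Sylow.coe_subgroup_smul, map_subtype_conj_smul, hRk, Sylow.coe_subgroup_smul]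
    exact Subgroup.pointwise_smul_le_pointwise_smul_iff.mpr hR₁
  -- the product set is contained in R
  have hsub : (P' : Set G) * (Q' : Set G) ⊆ ((R : Subgroup G) : Set G) := by
    rintro _ ⟨a, ha, b, hb, rfl⟩
    exact (R : Subgroup G).mul_mem (hP'R ha) (hQ'R hb)
  symm
  apply Set.eq_of_subset_of_ncard_le hsub _ (Set.toFinite _)
  -- cardinalities
  have hcardP : Nat.card P' = p ^ (Nat.card H).factorization p := by
    rw [hP', Subgroup.card_map_of_injective H.subtype_injective]
    exact P.card_eq_multiplicity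
  have hcardQ : Nat.card Q' = p ^ (Nat.card K).factorization p := by
    rw [hQ', Subgroup.card_map_of_injective K.subtype_injective]
    exact Q.card_eq_multiplicity
  have hcardR : Nat.card (R : Subgroup G) = p ^ (Nat.card G).factorization p := R.card_eq_multiplicity
  have hformPQ := card_set_mul_mul_card_inf P' Q'
  have hformHK := card_set_mul_mul_card_inf H K
  have hHKuniv : ((H : Set G) * (K : Set G) : Set G) = Set.univ := by
    rw [Set.eq_univ_iff_forall]
    intro g
    obtain ⟨a, ha, b, hb, rfl⟩ := hHK g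
    exact Set.mul_mem_mul ha hb
  rw [hHKuniv, Nat.card_congr (Equiv.Set.univ G)] at hformHK
  -- P' ⊓ Q' is a p-subgroup of H ⊓ K
  have hPQle : P' ⊓ Q' ≤ H ⊓ K :=
    inf_le_inf (Subgroup.map_subtype_le _) (Subgroup.map_subtype_le _)
  have hPQp : IsPGroup p (P' ⊓ Q' : Subgroup G) := (R.2.to_le hP'R).to_le inf_le_left
  obtain ⟨c, hc⟩ := IsPGroup.iff_card.mp hPQp
  have hdvd : p ^ c ∣ Nat.card (H ⊓ K : Subgroup G) := by
    rw [← hc]; exact Subgroup.card_dvd_of_le hPQle
  have hcle : c ≤ (Nat.card (H ⊓ K : Subgroup G)).factorization p :=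
    (hp.pow_dvd_iff_le_factorization Nat.card_pos.ne').mp hdvd
  -- valuations
  have hval : (Nat.card G).factorization p + (Nat.card (H ⊓ K : Subgroup G)).factorization p =
      (Nat.card H).factorization p + (Nat.card K).factorization p := by
    have := congrArg (fun n => n.factorization p) hformHK
    beta_reduce at this
    rw [Nat.factorization_mul Nat.card_pos.ne' Nat.card_pos.ne',
      Nat.factorization_mul Nat.card_pos.ne' Nat.card_pos.ne'] at this
    simpa using this
  rw [hcardP, hcardQ, hc, ← pow_add] at hformPQ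
  -- |P'Q'| * p^c = p^(vH+vK)
  rw [← Nat.card_coe_set_eq, ← Nat.card_coe_set_eq]
  have hRc : Nat.card (((R : Subgroup G) : Set G)) = p ^ (Nat.card G).factorization p := hcardR
  rw [hRc]
  set X := Nat.card ((P' : Set G) * (Q' : Set G) : Set G) with hX
  set vG := (Nat.card G).factorization p
  set vHK := (Nat.card (H ⊓ K : Subgroup G)).factorization p
  set vH := (Nat.card H).factorization p
  set vK := (Nat.card K).factorization p
  have h1 : X * p ^ c = p ^ (vG + (vHK - c)) * p ^ c := by
    rw [hformPQ, ← pow_add]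
    congr 1
    omega
  have h2 : X = p ^ (vG + (vHK - c)) := Nat.eq_of_mul_eq_mul_right (pow_pos hp.pos c) h1
  rw [h2]
  exact Nat.pow_le_pow_right hp.pos (Nat.le_add_right _ _)

end Cfsg.Agent.S0560
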