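import Mathlib
import Cfsg.Statements.S0684
import Cfsg.Agent.Lib.Helper12.FpfLinear

set_option autoImplicit false
open Cfsg

namespace Cfsg.Agent.S0684

open Cfsg.Agent.Helper12.FpfLinear

section
variable {p : ℕ} [Fact p.Prime] {V : Type*} [AddCommGroup V] [Module (ZMod p) V]

/-- the image of a subgroup of `H` in the full linear group -/
abbrev img (H : Subgroup (V ≃ₗ[ZMod p] V)) (A : Subgroup H) : Subgroup (V ≃ₗ[ZMod p] V) :=
  A.map H.subtype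

theorem inv_iff (H : Subgroup (V ≃ₗ[ZMod p] V)) (A : Subgroup H) (W : Submodule (ZMod p) V) :
    Inv (img H A) W ↔ ∀ a ∈ A, ∀ v ∈ W, ((a : H) : V ≃ₗ[ZMod p] V) v ∈ W := by
  constructor
  · intro h a ha v hv
    exact h a.1 ⟨a, ha, rfl⟩ v hv
  · rintro h _ ⟨a, ha, rfl⟩ v hv
    exact h a ha v hv

theorem fpf_of_reg (H : Subgroup (V ≃ₗ[ZMod p] V))
    (hreg : ∀ v w : V, v ≠ 0 → w ≠ 0 → ∃! h : H, (h : V ≃ₗ[ZMod p] V) v = w) (A : Subgroup H) :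
    ∀ b ∈ img H A, ∀ v : V, v ≠ 0 → b v = v → b = 1 := by
  rintro _ ⟨a, _, rfl⟩ v hv hav
  have := (hreg v v hv hv).unique (y₁ := a) (y₂ := 1) hav rfl
  rw [this]
  rfl

theorem comm_img (H : Subgroup (V ≃ₗ[ZMod p] V)) (A : Subgroup H) (hAc : IsMulCommutative A) :
    ∀ a ∈ img H A, ∀ b ∈ img H A, a * b = b * a := by
  rintro _ ⟨a, ha, rfl⟩ _ ⟨b, hb, rfl⟩
  have h := hAc.is_comm.comm (⟨a, ha⟩ : A) ⟨b, hb⟩
  have h2 : a * b = b * a := congrArg Subtype.val h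
  have h3 := congrArg (H.subtype) h2
  simpa using h3

theorem cyclic_of_img (H : Subgroup (V ≃ₗ[ZMod p] V)) (A : Subgroup H)
    (h : IsCyclic (img H A)) : IsCyclic A := by
  let e := Subgroup.equivMapOfInjective A H.subtype H.subtype_injective
  exact isCyclic_of_surjective e.symm e.symm.surjective

theorem card_img (H : Subgroup (V ≃ₗ[ZMod p] V)) (A : Subgroup H) :
    Nat.card (img H A) = Nat.card A :=
  (Nat.card_congr (Subgroup.equivMapOfInjective A H.subtype H.subtype_injective).toEquiv).symm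

end

/-- Zassenhaus, near-fields: a maximal normal abelian subgroup of a regular linear group without irreducible cyclic normal subgroups is cyclic and reducible. -/
theorem result {p : ℕ} [Fact p.Prime] {V : Type*} [AddCommGroup V] [Module (ZMod p) V] [Finite V] (H : Subgroup (V ≃ₗ[ZMod p] V)) (hreg : ∀ v w : V, v ≠ 0 → w ≠ 0 → ∃! h : H, (h : V ≃ₗ[ZMod p] V) v = w) (hI : ∀ A : Subgroup H, A.Normal → IsCyclic A → ∃ W : Submodule (ZMod p) V, W ≠ ⊥ ∧ W ≠ ⊤ ∧ ∀ a ∈ A, ∀ v ∈ W, ((a : H) : V ≃ₗ[ZMod p] V) v ∈ W) (A : Subgroup H) (hAn : A.Normal) (hAc : IsMulCommutative A) (hAmax : ∀ B : Subgroup H, B.Normal → IsMulCommutative B → A ≤ B → B = A) : IsCyclic A ∧ ∃ W : Submodule (ZMod p) V, W ≠ ⊥ ∧ W ≠ ⊤ ∧ (∀ a ∈ A, ∀ v ∈ W, ((a : H) : V ≃ₗ[ZMod p] V) v ∈ W) ∧ (∀ W' : Submodule (ZMod p) V, W' ≤ W → (∀ a ∈ A, ∀ v ∈ W', ((a : H) : V ≃ₗ[ZMod p] V) v ∈ W') → W' = ⊥ ∨ W' = W) ∧ Nat.card A ∣ p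 ^ Module.finrank (ZMod p) W - 1 := by
  have hfpf := fpf_of_reg H hreg A
  have hcomm := comm_img H A hAc
  -- V is non-trivial
  obtain ⟨W₀', hW₀'0, -, -⟩ := hI ⊥ inferInstance inferInstance
  have htop : (⊤ : Submodule (ZMod p) V) ≠ ⊥ := by
    intro h
    apply hW₀'0
    rw [eq_bot_iff, ← h]
    exact le_top
  obtain ⟨W₁, -, hW₁⟩ := exists_minimal (img H A) ⊤ htop (fun _ _ _ _ => Submodule.mem_top)
  have hcyc : IsCyclic A := cyclic_of_img H A (cyclic_of_fpf (img H A) W₁ hcomm hfpf hW₁)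
  refine ⟨hcyc, ?_⟩
  obtain ⟨W₀, hW₀0, hW₀top, hW₀inv⟩ := hI A hAn hcyc
  obtain ⟨W, hWle, hW⟩ := exists_minimal (img H A) W₀ hW₀0 ((inv_iff H A W₀).mpr hW₀inv)
  refine ⟨W, hW.1, ?_, (inv_iff H A W).mp hW.2.1, ?_, ?_⟩
  · intro h
    apply hW₀top
    rw [eq_top_iff, ← h]
    exact hWle
  · intro W' hW' hinv'
    exact hW.2.2 W' hW' ((inv_iff H A W').mpr hinv')
  · rw [← card_img H A]
    exact card_dvd (img H A) W hW.2.1 hfpf

end Cfsg.Agent.S0684
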