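import Mathlib
import Cfsg.Statements.S0685
import Cfsg.Agent.Lib.Helper12.FpfLinear
import Cfsg.Agent.S0684

set_option autoImplicit false
open Cfsg

namespace Cfsg.Agent.S0685

open Cfsg.Agent.Helper12.FpfLinear Cfsg.Agent.S0684 Module

theorem arith (p n k : ℕ) (hp : 2 ≤ p) (hk : 1 ≤ k) (h2k : 2 * k ≤ n)
    (h : p ^ n - 1 ≤ (p ^ k - 1) * n) : False := by
  obtain ⟨x, rfl⟩ : ∃ x, n = x + k := ⟨n - k, by omega⟩
  have hx1 : 1 ≤ x := by omega
  have h2x : 2 * x ≤ 2 ^ x := by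
    obtain ⟨y, rfl⟩ : ∃ y, x = y + 1 := ⟨x - 1, by omega⟩
    have := Nat.lt_two_pow_self (n := y)
    rw [pow_succ]
    omega
  have hpx : 2 ^ x ≤ p ^ x := Nat.pow_le_pow_left hp x
  have hQ : x + k ≤ p ^ x := by omega
  have hP : 2 ≤ p ^ k := by
    calc 2 = 2 ^ 1 := by norm_num
      _ ≤ p ^ 1 := Nat.pow_le_pow_left hp 1
      _ ≤ p ^ k := Nat.pow_le_pow_right (by omega) hk
  rw [pow_add] at h
  obtain ⟨P', hP'⟩ : ∃ P', p ^ k = P' + 2 := ⟨p ^ k - 2, by omega⟩
  rw [hP'] at h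
  have h1 : (x + k) * (P' + 2) ≤ p ^ x * (P' + 2) := Nat.mul_le_mul_right _ hQ
  have h3 : P' + 2 - 1 = P' + 1 := by omega
  rw [h3] at h
  have h4 : 1 ≤ p ^ x * (P' + 2) := by nlinarith
  zify [h4] at h
  zify at h1
  nlinarith

section
variable {p : ℕ} [Fact p.Prime] {V : Type*} [AddCommGroup V] [Module (ZMod p) V] [Finite V]

theorem card_nonzero : Nat.card {v : V // v ≠ 0} = p ^ finrank (ZMod p) V - 1 := by
  classical
  have : Fintype V := Fintype.ofFinite _
  have : Module.Finite (ZMod p) V := Module.Finite.of_finite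
  have h1 : Nat.card V = p ^ finrank (ZMod p) V := by
    rw [Module.natCard_eq_pow_finrank (K := ZMod p) (V := V)]
    simp
  rw [← h1, Nat.card_eq_fintype_card, Nat.card_eq_fintype_card]
  exact Set.card_ne_eq (0 : V)

theorem card_H (H : Subgroup (V ≃ₗ[ZMod p] V))
    (hreg : ∀ v w : V, v ≠ 0 → w ≠ 0 → ∃! h : H, (h : V ≃ₗ[ZMod p] V) v = w) (v₀ : V)
    (hv₀ : v₀ ≠ 0) : Nat.card H = p ^ finrank (ZMod p) V - 1 := by
  rw [← card_nonzero (p := p) (V := V)]
  let f : H → {v : V // v ≠ 0} := fun h => ⟨(h : V ≃ₗ[ZMod p] V) v₀, fun h0 => hv₀ (by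
    have := (h : V ≃ₗ[ZMod p] V).injective (h0.trans (map_zero _).symm)
    exact this)⟩
  apply Nat.card_congr (Equiv.ofBijective f ⟨?_, ?_⟩)
  · intro h h' hh
    have h1 : (h : V ≃ₗ[ZMod p] V) v₀ = (h' : V ≃ₗ[ZMod p] V) v₀ := congrArg Subtype.val hh
    have hne : (h' : V ≃ₗ[ZMod p] V) v₀ ≠ 0 := (f h').2
    exact (hreg v₀ _ hv₀ hne).unique h1 rfl
  · intro w
    obtain ⟨h, hh, -⟩ := hreg v₀ w.1 hv₀ w.2
    exact ⟨h, Subtype.ext hh⟩

theorem two_k_le (H : Subgroup (V ≃ₗ[ZMod p] V))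
    (hreg : ∀ v w : V, v ≠ 0 → w ≠ 0 → ∃! h : H, (h : V ≃ₗ[ZMod p] V) v = w)
    (A : Subgroup H) (hAn : A.Normal) (W : Submodule (ZMod p) V) (hW : Minimal (img H A) W)
    (hWtop : W ≠ ⊤) : 2 * finrank (ZMod p) W ≤ finrank (ZMod p) V := by
  have : Module.Finite (ZMod p) V := Module.Finite.of_finite
  obtain ⟨w, hw, hw0⟩ := Submodule.exists_mem_ne_zero_of_ne_bot hW.1
  obtain ⟨v, hv⟩ : ∃ v : V, v ∉ W := by
    by_contra hcon
    push Not at hcon
    exact hWtop (eq_top_iff.mpr fun v _ => hcon v)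
  have hv0 : v ≠ 0 := fun h => hv (h ▸ W.zero_mem)
  obtain ⟨h, hh, -⟩ := hreg w v hw0 hv0
  let W₂ : Submodule (ZMod p) V := W.map ((h : V ≃ₗ[ZMod p] V) : V →ₗ[ZMod p] V)
  have hW₂inv : Inv (img H A) W₂ := by
    rintro _ ⟨a, ha, rfl⟩ _ ⟨x, hx, rfl⟩
    have hc : h⁻¹ * a * h⁻¹⁻¹ ∈ A := hAn.conj_mem a ha h⁻¹
    have hmem := hW.2.1 _ ⟨h⁻¹ * a * h⁻¹⁻¹, hc, rfl⟩ x hx
    refine ⟨_, hmem, ?_⟩
    have e : h * (h⁻¹ * a * h⁻¹⁻¹) = a * h := by group
    have e2 := congrArg (fun g : H => (g : V ≃ₗ[ZMod p] V) x) e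
    exact e2
  have hfr : finrank (ZMod p) W₂ = finrank (ZMod p) W :=
    LinearEquiv.finrank_map_eq (h : V ≃ₗ[ZMod p] V) W
  have hdisj : W ⊓ W₂ = ⊥ := by
    have hinf : Inv (img H A) (W ⊓ W₂) := fun b hb x hx =>
      ⟨hW.2.1 b hb x hx.1, hW₂inv b hb x hx.2⟩
    rcases hW.2.2 (W ⊓ W₂) inf_le_left hinf with h0 | h0
    · exact h0
    · exfalso
      have hle : W ≤ W₂ := by rw [← h0]; exact inf_le_right
      have heq : W = W₂ := Submodule.eq_of_le_of_finrank_eq hle hfr.symm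
      apply hv
      rw [heq, ← hh]
      exact ⟨w, hw, rfl⟩
  have h1 := Submodule.finrank_sup_add_finrank_inf_eq W W₂
  rw [hdisj, finrank_bot, add_zero, hfr] at h1
  have h2 : finrank (ZMod p) (W ⊔ W₂ : Submodule (ZMod p) V) ≤ finrank (ZMod p) V :=
    Submodule.finrank_le _
  omega

theorem card_le (H : Subgroup (V ≃ₗ[ZMod p] V))
    (hreg : ∀ v w : V, v ≠ 0 → w ≠ 0 → ∃! h : H, (h : V ≃ₗ[ZMod p] V) v = w)
    (A : Subgroup H) (hAn : A.Normal) (hAc : IsMulCommutative A) (hcyc : IsCyclic A)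
    (hle : Subgroup.centralizer (A : Set H) ≤ A)
    (W : Submodule (ZMod p) V) (hW : Minimal (img H A) W) :
    Nat.card H ≤ Nat.card A * finrank (ZMod p) V := by
  classical
  have : Module.Finite (ZMod p) V := Module.Finite.of_finite
  have hfinE : Finite (V ≃ₗ[ZMod p] V) :=
    Finite.of_injective (fun e : V ≃ₗ[ZMod p] V => (e : V → V)) DFunLike.coe_injective
  have : Fintype H := Fintype.ofFinite _
  have : Fintype A := Fintype.ofFinite _
  obtain ⟨a₀, ha₀⟩ := hcyc.exists_generator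
  let a : H := a₀.1
  let φ : H → A := fun h => ⟨h * a * h⁻¹, hAn.conj_mem a a₀.2 h⟩
  let ι : A → img H A := fun x => ⟨(x.1 : V ≃ₗ[ZMod p] V), ⟨x.1, x.2, rfl⟩⟩
  have hι : Function.Injective ι := by
    intro x y hxy
    apply Subtype.ext
    apply Subtype.ext
    have := congrArg (fun z : img H A => (z.1 : V ≃ₗ[ZMod p] V)) hxy
    exact this
  let P := LinearMap.charpoly ((a : V ≃ₗ[ZMod p] V) : V →ₗ[ZMod p] V)
  let S : Finset (img H A) := (Finset.univ.image φ).image ι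
  have hS : ∀ b ∈ S, Polynomial.aeval (b.1 : V →ₗ[ZMod p] V) P = 0 := by
    intro b hb
    obtain ⟨x, hx, rfl⟩ := Finset.mem_image.mp hb
    obtain ⟨h, -, rfl⟩ := Finset.mem_image.mp hx
    have e1 : (((ι (φ h)).1 : V ≃ₗ[ZMod p] V) : V →ₗ[ZMod p] V) =
        (h : V ≃ₗ[ZMod p] V).conj ((a : V ≃ₗ[ZMod p] V) : V →ₗ[ZMod p] V) := by
      apply LinearMap.ext
      intro v
      rfl
    rw [e1]
    have e2 : P = LinearMap.charpoly ((h : V ≃ₗ[ZMod p] V).conj
        ((a : V ≃ₗ[ZMod p] V) : V →ₗ[ZMod p] V)) := (LinearEquiv.charpoly_conj _ _).symm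
    rw [e2]
    exact LinearMap.aeval_self_charpoly _
  have hbound := card_roots_bound (img H A) W (comm_img H A hAc) (fpf_of_reg H hreg A) hW P
    (LinearMap.charpoly_monic _) S hS
  rw [LinearMap.charpoly_natDegree, Finset.card_image_of_injective _ hι] at hbound
  -- fibres of φ
  have hfib : ∀ y ∈ Finset.univ.image φ,
      (Finset.univ.filter (fun h => φ h = y)).card ≤ Fintype.card A := by
    intro y hy
    obtain ⟨h₀, -, rfl⟩ := Finset.mem_image.mp hy
    have hsub : Finset.univ.filter (fun h => φ h = φ h₀) ⊆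
        (Finset.univ : Finset A).image (fun x => h₀ * x.1) := by
      intro h hh
      rw [Finset.mem_filter] at hh
      have h1 : h * a * h⁻¹ = h₀ * a * h₀⁻¹ := congrArg Subtype.val hh.2
      have hcomm : (h₀⁻¹ * h) * a = a * (h₀⁻¹ * h) := by
        have : h₀⁻¹ * (h * a * h⁻¹) * h = h₀⁻¹ * (h₀ * a * h₀⁻¹) * h := by rw [h1]
        have l : h₀⁻¹ * (h * a * h⁻¹) * h = (h₀⁻¹ * h) * a := by group
        have r : h₀⁻¹ * (h₀ * a * h₀⁻¹) * h = a * (h₀⁻¹ * h) := by group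
        rw [l, r] at this
        exact this
      have hmem : h₀⁻¹ * h ∈ Subgroup.centralizer (A : Set H) := by
        rw [Subgroup.mem_centralizer_iff]
        intro x hx
        obtain ⟨k, hk⟩ := Subgroup.mem_zpowers_iff.mp (ha₀ ⟨x, hx⟩)
        have hxk : x = a ^ k := by
          have := congrArg Subtype.val hk
          simpa using this.symm
        rw [hxk]
        have hc : Commute (h₀⁻¹ * h) a := hcomm
        exact ((hc.zpow_right k).eq).symm
      rw [Finset.mem_image]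
      exact ⟨⟨h₀⁻¹ * h, hle hmem⟩, Finset.mem_univ _, by simp⟩
    exact (Finset.card_le_card hsub).trans (Finset.card_image_le.trans (by simp))
  have h1 := Finset.card_le_mul_card_image (f := φ) Finset.univ (Fintype.card A) hfib
  rw [Finset.card_univ] at h1
  rw [Nat.card_eq_fintype_card, Nat.card_eq_fintype_card]
  exact h1.trans (Nat.mul_le_mul_left _ hbound)

end

/-- Zassenhaus, near-fields: a maximal normal abelian subgroup of a regular linear group without irreducible cyclic normal subgroups is properly contained in its centraliser. -/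
theorem result {p : ℕ} [Fact p.Prime] {V : Type*} [AddCommGroup V] [Module (ZMod p) V] [Finite V] (H : Subgroup (V ≃ₗ[ZMod p] V)) (hreg : ∀ v w : V, v ≠ 0 → w ≠ 0 → ∃! h : H, (h : V ≃ₗ[ZMod p] V) v = w) (hI : ∀ A : Subgroup H, A.Normal → IsCyclic A → ∃ W : Submodule (ZMod p) V, W ≠ ⊥ ∧ W ≠ ⊤ ∧ ∀ a ∈ A, ∀ v ∈ W, ((a : H) : V ≃ₗ[ZMod p] V) v ∈ W) (A : Subgroup H) (hAn : A.Normal) (hAc : IsMulCommutative A) (hAmax : ∀ B : Subgroup H, B.Normal → IsMulCommutative B → A ≤ B → B = A) : A < Subgroup.centralizer (A : Set H) ∧ ¬ IsMulCommutative (Subgroup.centralizer (A : Set H)) := by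
  have hp : 2 ≤ p := (Fact.out : p.Prime).two_le
  have key : ¬ (Subgroup.centralizer (A : Set H) ≤ A) := by
    intro hle
    obtain ⟨hcyc, W, hW0, hWtop, hWinv, hWmin, hdvd⟩ :=
      Cfsg.Agent.S0684.result H hreg hI A hAn hAc hAmax
    have hW : Minimal (img H A) W :=
      ⟨hW0, (inv_iff H A W).mpr hWinv, fun W' hW' hinv' =>
        hWmin W' hW' ((inv_iff H A W').mp hinv')⟩
    obtain ⟨w, hw, hw0⟩ := Submodule.exists_mem_ne_zero_of_ne_bot hW0
    have h1 := card_H H hreg w hw0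
    have h2 := card_le H hreg A hAn hAc hcyc hle W hW
    have h4 := two_k_le H hreg A hAn W hW hWtop
    have : Module.Finite (ZMod p) V := Module.Finite.of_finite
    have hk : 1 ≤ finrank (ZMod p) W := by
      rw [Nat.one_le_iff_ne_zero]
      intro h0
      exact hW0 (Submodule.finrank_eq_zero.mp h0)
    have hpk : 2 ≤ p ^ finrank (ZMod p) W := by
      calc 2 = 2 ^ 1 := by norm_num
        _ ≤ p ^ 1 := Nat.pow_le_pow_left hp 1
        _ ≤ p ^ finrank (ZMod p) W := Nat.pow_le_pow_right (by omega) hk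
    have h3 : Nat.card A ≤ p ^ finrank (ZMod p) W - 1 := Nat.le_of_dvd (by omega) hdvd
    apply arith p (finrank (ZMod p) V) (finrank (ZMod p) W) hp hk h4
    rw [← h1]
    exact h2.trans (Nat.mul_le_mul_right _ h3)
  have hAle : A ≤ Subgroup.centralizer (A : Set H) := by
    intro x hx
    rw [Subgroup.mem_centralizer_iff]
    intro y hy
    have h := hAc.is_comm.comm (⟨y, hy⟩ : A) ⟨x, hx⟩
    exact congrArg Subtype.val h
  constructor
  · apply lt_of_le_of_ne hAle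
    intro h
    apply key
    rw [← h]
  · intro hC
    have := hAmax _ (Subgroup.normal_centralizer) hC hAle
    apply key
    rw [this]

end Cfsg.Agent.S0685
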