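import Cfsg.Statements.S0153
import Cfsg.Agent.Lib.Helper81.CharCore
import Mathlib

set_option autoImplicit false
open Cfsg

namespace Cfsg.Agent.S0153

open Representation Cfsg.Agent.Helper81 Module

universe u v w

section
variable {G : Type u} [Group G] {V : Type v} [AddCommGroup V] [Module ℂ V]
  {W : Type w} [AddCommGroup W] [Module ℂ W]

theorem im_apply {ρ : Representation ℂ G V} {σ : Representation ℂ G W}
    (f : IntertwiningMap ρ σ) (g : G) (v : V) :
    f.toLinearMap (ρ g v) = σ g (f.toLinearMap v) :=
  LinearMap.congr_fun (f.isIntertwining' g) v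

/-- kernel of an intertwining map -/
def kerSub {ρ : Representation ℂ G V} {σ : Representation ℂ G W}
    (f : IntertwiningMap ρ σ) : Subrepresentation ρ where
  toSubmodule := LinearMap.ker f.toLinearMap
  apply_mem_toSubmodule g v hv := by
    rw [LinearMap.mem_ker] at hv ⊢
    rw [im_apply, hv, map_zero]

/-- range of an intertwining map -/
def rangeSub {ρ : Representation ℂ G V} {σ : Representation ℂ G W}
    (f : IntertwiningMap ρ σ) : Subrepresentation σ where
  toSubmodule := LinearMap.range f.toLinearMap
  apply_mem_toSubmodule g w hw := by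
    obtain ⟨v, rfl⟩ := hw
    exact ⟨ρ g v, im_apply f g v⟩

theorem injective_of_ne_zero {ρ : Representation ℂ G V} {σ : Representation ℂ G W}
    [hρ : ρ.IsIrreducible] (f : IntertwiningMap ρ σ) (hf : f ≠ 0) :
    Function.Injective f.toLinearMap := by
  rw [← LinearMap.ker_eq_bot]
  rcases hρ.eq_bot_or_eq_top (kerSub f) with h | h
  · exact congrArg Subrepresentation.toSubmodule h
  · exfalso
    apply hf
    ext v
    have : v ∈ (kerSub f).toSubmodule := by rw [h]; trivial
    exact this

/-- an injective intertwining map is an equivalence onto its range -/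
noncomputable def equivRange {ρ : Representation ℂ G V} {σ : Representation ℂ G W}
    (f : IntertwiningMap ρ σ) (hf : Function.Injective f.toLinearMap) :
    ρ.Equiv (rangeSub f).toRepresentation :=
  Representation.Equiv.mk (LinearEquiv.ofInjective f.toLinearMap hf) (fun g => by
    ext v
    exact im_apply f g v)

theorem apply_prodEquiv {ρ : Representation ℂ G V} {S S' : Subrepresentation ρ}
    (hS : IsCompl S.toSubmodule S'.toSubmodule) (g : G) (x : S.toSubmodule × S'.toSubmodule) :
    ρ g (Submodule.prodEquivOfIsCompl _ _ hS x) =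
      Submodule.prodEquivOfIsCompl _ _ hS (S.toRepresentation g x.1, S'.toRepresentation g x.2) := by
  simp [Submodule.coe_prodEquivOfIsCompl', Subrepresentation.toRepresentation]

/-- glue two equivalences along complements -/
theorem glue {ρ : Representation ℂ G V} {σ : Representation ℂ G W}
    {S S' : Subrepresentation ρ} {T T' : Subrepresentation σ}
    (hS : IsCompl S.toSubmodule S'.toSubmodule) (hT : IsCompl T.toSubmodule T'.toSubmodule)
    (e₁ : S.toRepresentation.Equiv T.toRepresentation)
    (e₂ : S'.toRepresentation.Equiv T'.toRepresentation) : Nonempty (ρ.Equiv σ) := by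
  let e : V ≃ₗ[ℂ] W :=
    (Submodule.prodEquivOfIsCompl _ _ hS).symm ≪≫ₗ
      (e₁.toLinearEquiv.prodCongr e₂.toLinearEquiv) ≪≫ₗ (Submodule.prodEquivOfIsCompl _ _ hT)
  have he : ∀ y, e (Submodule.prodEquivOfIsCompl _ _ hS y) =
      Submodule.prodEquivOfIsCompl _ _ hT (e₁.toLinearEquiv y.1, e₂.toLinearEquiv y.2) := fun y => by
    simp only [e, LinearEquiv.trans_apply, LinearEquiv.symm_apply_apply,
      LinearEquiv.prodCongr_apply]
  refine ⟨Representation.Equiv.mk e ?_⟩
  intro g
  ext v
  obtain ⟨x, rfl⟩ := (Submodule.prodEquivOfIsCompl _ _ hS).surjective v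
  have he₁ : ∀ s, e₁.toLinearEquiv (S.toRepresentation g s) =
      T.toRepresentation g (e₁.toLinearEquiv s) :=
    fun s => im_apply e₁.toIntertwiningMap g s
  have he₂ : ∀ s, e₂.toLinearEquiv (S'.toRepresentation g s) =
      T'.toRepresentation g (e₂.toLinearEquiv s) :=
    fun s => im_apply e₂.toIntertwiningMap g s
  change e (ρ g (Submodule.prodEquivOfIsCompl _ _ hS x)) =
    σ g (e (Submodule.prodEquivOfIsCompl _ _ hS x))
  rw [apply_prodEquiv hS, he, he, apply_prodEquiv hT, he₁, he₂]

end

section main
variable {G : Type u} [Group G] [Finite G]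

theorem finrank_im_eq {V : Type v} [AddCommGroup V] [Module ℂ V] [FiniteDimensional ℂ V]
    {W : Type w} [AddCommGroup W] [Module ℂ W] [FiniteDimensional ℂ W]
    {U : Type*} [AddCommGroup U] [Module ℂ U] [FiniteDimensional ℂ U]
    (ρ : Representation ℂ G V) (σ : Representation ℂ G W) (τ : Representation ℂ G U)
    (h : ρ.character = σ.character) :
    finrank ℂ (IntertwiningMap τ ρ) = finrank ℂ (IntertwiningMap τ σ) := by
  have : Fintype G := Fintype.ofFinite G
  have : Invertible (Nat.card G : ℂ) :=
    invertibleOfNonzero (by exact_mod_cast (Nat.card_pos (α := G)).ne')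
  have h1 := Representation.card_inv_mul_sum_char_mul_char_eq_finrank τ ρ
  have h2 := Representation.card_inv_mul_sum_char_mul_char_eq_finrank τ σ
  rw [h] at h1
  exact_mod_cast h1.symm.trans h2

theorem aux (n : ℕ) : ∀ (V : Type v) (W : Type w) [AddCommGroup V] [Module ℂ V]
    [FiniteDimensional ℂ V] [AddCommGroup W] [Module ℂ W] [FiniteDimensional ℂ W]
    (ρ : Representation ℂ G V) (σ : Representation ℂ G W), finrank ℂ V = n →
    ρ.character = σ.character → Nonempty (ρ.Equiv σ) := by
  induction n using Nat.strong_induction_on with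
  | _ n ih =>
  intro V W _ _ _ _ _ _ ρ σ hn h
  have hdim : finrank ℂ V = finrank ℂ W := by
    have h1 := ρ.char_one
    have h2 := σ.char_one
    rw [h] at h1
    exact_mod_cast h1.symm.trans h2
  rcases subsingleton_or_nontrivial V with hV | hV
  · have hW : Subsingleton W := by
      rw [← Module.finrank_zero_iff (R := ℂ), ← hdim, Module.finrank_zero_iff]
      exact hV
    exact ⟨Representation.Equiv.mk (LinearEquiv.ofSubsingleton V W)
      (fun g => by ext v; exact Subsingleton.elim _ _)⟩
  · obtain ⟨S, S', hc, hS⟩ := exists_irreducible_compl ρ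
    haveI := isIrreducible_of_isAtom S hS
    let ι : IntertwiningMap S.toRepresentation ρ := ⟨S.toSubmodule.subtype, fun g => rfl⟩
    have hι : ι ≠ 0 := by
      intro h0
      apply hS.1
      apply le_antisymm _ bot_le
      intro v hv
      have : ι.toLinearMap ⟨v, hv⟩ = 0 := by rw [h0]; rfl
      have hv0 : v = 0 := this
      rw [hv0]
      exact (⊥ : Subrepresentation ρ).toSubmodule.zero_mem
    have hfr : finrank ℂ (IntertwiningMap S.toRepresentation ρ) ≠ 0 := by
      intro h0
      rw [Module.finrank_zero_iff] at h0
      exact hι (Subsingleton.elim _ _)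
    rw [finrank_im_eq ρ σ S.toRepresentation h] at hfr
    have hex : ∃ f : IntertwiningMap S.toRepresentation σ, f ≠ 0 := by
      by_contra hne
      push_neg at hne
      apply hfr
      haveI : Subsingleton (IntertwiningMap S.toRepresentation σ) :=
        ⟨fun a b => (hne a).trans (hne b).symm⟩
      exact Module.finrank_zero_of_subsingleton
    obtain ⟨f, hf⟩ := hex
    have hinj := injective_of_ne_zero f hf
    haveI : NeZero (Nat.card G : ℂ) := ⟨by exact_mod_cast (Nat.card_pos (α := G)).ne'⟩
    obtain ⟨T', hT'⟩ := exists_isCompl (rangeSub f)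
    have hchar : S'.toRepresentation.character = T'.toRepresentation.character := by
      funext g
      have h1 := character_eq_add_of_isCompl hc g
      have h2 := character_eq_add_of_isCompl hT' g
      have h3 := congrFun (char_iso (equivRange f hinj)) g
      rw [h] at h1
      rw [h1, h3] at h2
      exact add_left_cancel h2
    have hlt := finrank_compl_lt hc hS
    obtain ⟨e₂⟩ := ih _ (hn ▸ hlt) S'.toSubmodule T'.toSubmodule S'.toRepresentation
      T'.toRepresentation rfl hchar
    exact glue (isCompl_toSubmodule hc) (isCompl_toSubmodule hT') (equivRange f hinj) e₂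

end main

/-- Complex representations of a finite group with equal characters are equivalent. -/
theorem result {G : Type*} [Group G] [Finite G] {V W : Type*} [AddCommGroup V] [Module ℂ V] [FiniteDimensional ℂ V] [AddCommGroup W] [Module ℂ W] [FiniteDimensional ℂ W] (ρ : Representation ℂ G V) (σ : Representation ℂ G W) (h : ρ.character = σ.character) : Nonempty (ρ.Equiv σ) := by
  exact aux _ V W ρ σ rfl h

end Cfsg.Agent.S0153
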