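import Cfsg.Statements.S0111

set_option autoImplicit false
open Cfsg

namespace Cfsg.Agent.S0111

/-- The Thompson transfer lemma states that an involution of a Sylow 2-subgroup P lying outside a subgroup Q of index 2 in P either lies outside some normal subgroup of index 2 in G or is conjugate to an element of Q. -/
theorem result {G : Type*} [Group G] [Finite G] (P : Sylow 2 G) (Q : Subgroup G) (hQP : Q ≤ (P : Subgroup G)) (hQi : Q.relIndex (P : Subgroup G) = 2) (u : G) (hu : orderOf u = 2) (huP : u ∈ (P : Subgroup G)) (huQ : u ∉ Q) : (∃ M : Subgroup G, M.Normal ∧ M.index = 2 ∧ u ∉ M) ∨ ∃ g : G, g * u * g⁻¹ ∈ Q := by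
  classical
  by_cases hconj : ∃ g : G, g * u * g⁻¹ ∈ Q
  · exact Or.inr hconj
  left
  simp only [not_exists] at hconj
  have : Fintype (G ⧸ Q) := Fintype.ofFinite _
  let φ : G →* Equiv.Perm (G ⧸ Q) := MulAction.toPermHom G (G ⧸ Q)
  let s : G →* ℤˣ := Equiv.Perm.sign.comp φ
  have hu2 : u ^ 2 = 1 := by rw [← hu]; exact pow_orderOf_eq_one u
  have huinv : u⁻¹ = u := by
    rw [inv_eq_iff_mul_eq_one, ← pow_two]; exact hu2
  have hτ2 : (φ u) ^ 2 = 1 := by rw [← map_pow, hu2, map_one]
  have hfix : ∀ x : G ⧸ Q, φ u x ≠ x := by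
    intro x
    induction x using QuotientGroup.induction_on with
    | H g =>
      intro h
      have h' : ((u * g : G) : G ⧸ Q) = (g : G ⧸ Q) := h
      rw [QuotientGroup.eq] at h'
      have := hconj g⁻¹
      apply this
      simpa [mul_assoc, huinv] using h'
  have hsupp : (φ u).support = Finset.univ := by
    ext x
    simp only [Equiv.Perm.mem_support, Finset.mem_univ, iff_true]
    exact hfix x
  have hne1 : φ u ≠ 1 := by
    intro h1
    have := hfix ((1 : G) : G ⧸ Q)
    rw [h1] at this
    exact this rfl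
  have hord : orderOf (φ u) = 2 := orderOf_eq_prime hτ2 hne1
  obtain ⟨n, hn⟩ := Equiv.Perm.cycleType_prime_order (σ := φ u) (by rw [hord]; exact Nat.prime_two)
  rw [hord] at hn
  have hsum : (φ u).cycleType.sum = Q.index := by
    rw [Equiv.Perm.sum_cycleType, hsupp, Finset.card_univ, Subgroup.index, Nat.card_eq_fintype_card]
  have hidx : Q.index = 2 * (P : Subgroup G).index := by
    rw [← Subgroup.relIndex_mul_index hQP, hQi]
  have hodd : ¬ 2 ∣ (P : Subgroup G).index := P.not_dvd_index
  have hn1 : n + 1 = (P : Subgroup G).index := by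
    rw [hn, Multiset.sum_replicate, smul_eq_mul, hidx] at hsum
    omega
  have hsu : s u = -1 := by
    show Equiv.Perm.sign (φ u) = -1
    rw [Equiv.Perm.sign_of_cycleType, hn, Multiset.sum_replicate, Multiset.card_replicate,
      smul_eq_mul, hn1]
    have hodd' : Odd ((P : Subgroup G).index * 2 + (P : Subgroup G).index) := by
      have : Odd (P : Subgroup G).index := Nat.odd_iff.mpr (by omega)
      exact Even.add_odd (by simp) this
    exact hodd'.neg_one_pow
  refine ⟨s.ker, inferInstance, ?_, ?_⟩
  · rw [Subgroup.index_ker]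
    have hrange : s.range = ⊤ := by
      rw [eq_top_iff]
      intro x _
      rcases Int.units_eq_one_or x with h | h
      · rw [h]; exact Subgroup.one_mem _
      · rw [h, ← hsu]; exact ⟨u, rfl⟩
    rw [hrange, Nat.card_congr Subgroup.topEquiv.toEquiv, Nat.card_eq_fintype_card]
    rfl
  · intro h
    rw [MonoidHom.mem_ker, hsu] at h
    exact absurd h (by decide)
end Cfsg.Agent.S0111
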