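import Cfsg.Statements.S0718
import Cfsg.Agent.Lib.Helper12.MultFree
import Mathlib

set_option autoImplicit false
open Cfsg

namespace Cfsg.Agent.S0718

open Cfsg.Agent.Helper12.MultFree Representation

theorem permRep_character {G : Type*} [Group G] {Ω : Type*} [Fintype Ω] [MulAction G Ω] (g : G) :
    (Cfsg.permRep ℂ G Ω).character g = (Nat.card (MulAction.fixedBy Ω g) : ℂ) := by
  classical
  unfold Representation.character
  rw [LinearMap.trace_eq_matrix_trace ℂ (Pi.basisFun ℂ Ω), Matrix.trace]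
  simp only [Matrix.diag_apply, LinearMap.toMatrix_apply, Pi.basisFun_apply, Pi.basisFun_repr]
  have : ∀ i : Ω, (Cfsg.permRep ℂ G Ω g (Pi.single i (1 : ℂ))) i = if g • i = i then 1 else 0 := by
    intro i
    change (Pi.single i (1 : ℂ) : Ω → ℂ) (g⁻¹ • i) = _
    rw [Pi.single_apply]
    congr 1
    rw [inv_smul_eq_iff]
    exact propext eq_comm
  simp_rw [this]
  rw [Finset.sum_boole, Nat.card_eq_fintype_card]
  congr 1
  rw [Fintype.card_subtype]
  rfl

/-- Multiplicity-freeness of the permutation character is equivalent to commutativity of the centraliser ring, i.e. of the algebra of `G`-equivariant endomorphisms of the complex permutation module. -/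
theorem result {G : Type*} [Group G] [Fintype G] {Ω : Type*} [Fintype Ω] [MulAction G Ω] : (∀ χ : G → ℂ, Cfsg.IsIrrCharacter G χ → Cfsg.classInner (fun g : G => (Nat.card (MulAction.fixedBy Ω g) : ℂ)) χ = 0 ∨ Cfsg.classInner (fun g : G => (Nat.card (MulAction.fixedBy Ω g) : ℂ)) χ = 1) ↔ ∀ S T : (Ω → ℂ) →ₗ[ℂ] (Ω → ℂ), S ∈ ((Cfsg.permRep ℂ G Ω).linHom (Cfsg.permRep ℂ G Ω)).invariants → T ∈ ((Cfsg.permRep ℂ G Ω).linHom (Cfsg.permRep ℂ G Ω)).invariants → S ∘ₗ T = T ∘ₗ S := by
  have hchar : (fun g : G => (Nat.card (MulAction.fixedBy Ω g) : ℂ)) =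
      (Cfsg.permRep ℂ G Ω).character := by
    funext g
    rw [permRep_character]
  rw [hchar]
  constructor
  · intro hmf S T hS hT
    exact comm_of_mf (Cfsg.permRep ℂ G Ω) hmf
      (invariantsEquivIntertwiningMap _ _ ⟨S, hS⟩) (invariantsEquivIntertwiningMap _ _ ⟨T, hT⟩)
  · intro hcomm χ hχ
    apply mf_of_comm (Cfsg.permRep ℂ G Ω) _ χ hχ
    intro S T
    exact hcomm S.toLinearMap T.toLinearMap
      ((invariantsEquivIntertwiningMap _ _).symm S).2 ((invariantsEquivIntertwiningMap _ _).symm T).2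

end Cfsg.Agent.S0718
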