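import Cfsg.Statements.S0878
import Mathlib

set_option autoImplicit false
open Cfsg MulAction

namespace Cfsg.Agent.S0878

variable {G Ω : Type*} [Group G] [MulAction G Ω]

lemma card_ge_three [Fintype Ω] (hZ : Cfsg.IsZassenhausGroup G Ω) : 3 ≤ Fintype.card Ω := by
  classical
  obtain ⟨hf, _, _, ⟨g, hg, a, b, hab, hga, hgb⟩, _⟩ := hZ
  have : ∃ c : Ω, g • c ≠ c := by
    by_contra hcon
    push Not at hcon
    apply hg
    apply hf.eq_of_smul_eq_smul
    intro c
    rw [hcon c, one_smul]
  obtain ⟨c, hc⟩ := this
  have hca : c ≠ a := fun h => hc (h ▸ hga)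
  have hcb : c ≠ b := fun h => hc (h ▸ hgb)
  have h3 : ({a, b, c} : Finset Ω).card = 3 := by
    rw [Finset.card_insert_of_notMem, Finset.card_insert_of_notMem, Finset.card_singleton]
    · simpa using Ne.symm hcb
    · simp only [Finset.mem_insert, Finset.mem_singleton, not_or]
      exact ⟨hab, Ne.symm hca⟩
  rw [← h3]
  exact Finset.card_le_univ _

/-- the counting lemma: an element of the point stabiliser fixing only `a` lies in `H`. -/
lemma mem_of_fix [Finite G] [Fintype Ω] (hZ : Cfsg.IsZassenhausGroup G Ω) (a : Ω) (H : Subgroup G)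
    (hHa : H ≤ MulAction.stabilizer G a) (hHcard : Nat.card H + 1 = Fintype.card Ω)
    (hHfix : ∀ u ∈ H, u ≠ 1 → ∀ c : Ω, u • c = c → c = a)
    (x₀ : G) (hx₀a : x₀ ∈ MulAction.stabilizer G a) (hx₀fix : ∀ c : Ω, x₀ • c = c → c = a) :
    x₀ ∈ H := by
  classical
  by_contra hx₀H
  have hn3 := card_ge_three hZ
  obtain ⟨_, h2, h3, _, _⟩ := hZ
  rw [MulAction.is_two_pretransitive_iff] at h2
  set S := MulAction.stabilizer G a with hS
  let X := ↥(SubMulAction.ofStabilizer G a)
  have : Fintype S := Fintype.ofFinite S
  have : Fintype X := Fintype.ofFinite X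
  have : Fintype H := Fintype.ofFinite H
  have hXcard : Nat.card X + 1 = Fintype.card Ω := by
    rw [← Nat.card_eq_fintype_card]
    exact SubMulAction.nat_card_ofStabilizer_add_one_eq G a
  -- X nonempty
  have hXne : Nonempty X := by
    have : 0 < Nat.card X := by omega
    exact (Nat.card_pos_iff.mp this).1
  -- transitivity
  have htrans : IsPretransitive S X := by
    constructor
    intro c d
    obtain ⟨g, hga, hgc⟩ := h2 (Ne.symm c.2) (Ne.symm d.2)
    refine ⟨⟨g, hga⟩, ?_⟩
    apply Subtype.ext
    exact hgc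
  have huniq : Nat.card (Quotient (orbitRel S X)) = 1 := by
    have := (pretransitive_iff_unique_quotient_of_nonempty (G := S) (α := X)).mp htrans
    obtain ⟨u⟩ := this
    exact Nat.card_unique
  -- Burnside
  have hB : ∑ g : S, Nat.card (fixedBy X g) = Nat.card S := by
    rw [← Nat.card_sigma, Nat.card_congr (sigmaFixedByEquivOrbitsProdGroup S X), Nat.card_prod,
      huniq, one_mul]
  -- the estimates
  have hval : ∀ (g : S) (c : X), ((g • c : X) : Ω) = (g : G) • (c : Ω) := fun g c => rfl
  have hF1 : Nat.card (fixedBy X (1 : S)) = Nat.card X := by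
    apply Nat.card_congr
    exact (Equiv.subtypeUnivEquiv (fun c => by simp))
  have hF2 : ∀ g : S, g ≠ 1 → Nat.card (fixedBy X g) ≤ 1 := by
    intro g hg
    rw [Finite.card_le_one_iff_subsingleton]
    constructor
    rintro ⟨c, hc⟩ ⟨d, hd⟩
    by_contra hcd
    apply hg
    apply Subtype.ext
    have hcd' : (c : Ω) ≠ (d : Ω) := fun h => hcd (Subtype.ext (Subtype.ext h))
    have hc' : (g : G) • (c : Ω) = c := by rw [← hval]; exact congrArg Subtype.val hc
    have hd' : (g : G) • (d : Ω) = d := by rw [← hval]; exact congrArg Subtype.val hd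
    exact h3 (g : G) a c d (Ne.symm c.2) hcd' (Ne.symm d.2) g.2 hc' hd'
  have hF3 : ∀ g : S, g ≠ 1 → ((g : G) ∈ H ∨ (g : G) = x₀) → Nat.card (fixedBy X g) = 0 := by
    intro g hg hP
    have : IsEmpty (fixedBy X g) := by
      constructor
      rintro ⟨c, hc⟩
      have hc' : (g : G) • (c : Ω) = c := by rw [← hval]; exact congrArg Subtype.val hc
      have hg1 : (g : G) ≠ 1 := fun h => hg (Subtype.ext h)
      rcases hP with hP | hP
      · exact c.2 (hHfix _ hP hg1 _ hc')
      · rw [hP] at hc'
        exact c.2 (hx₀fix _ hc')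
    exact Nat.card_of_isEmpty
  set n := Fintype.card Ω with hn
  let φ : S → ℕ := fun g => (if g = 1 then (n - 1) else 0) +
    (if ((g : G) ∈ H ∨ (g : G) = x₀) then 0 else 1)
  have hle : ∀ g : S, Nat.card (fixedBy X g) ≤ φ g := by
    intro g
    by_cases hg : g = 1
    · subst hg
      rw [hF1]
      simp only [φ, if_true]
      omega
    · by_cases hP : ((g : G) ∈ H ∨ (g : G) = x₀)
      · rw [hF3 g hg hP]; exact Nat.zero_le _
      · simp only [φ, if_neg hg, if_neg hP]
        simpa using hF2 g hg
  have hsumφ : ∑ g : S, φ g = (n - 1) +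
      (Finset.univ.filter (fun g : S => ¬ ((g : G) ∈ H ∨ (g : G) = x₀))).card := by
    simp only [φ]
    rw [Finset.sum_add_distrib, Finset.sum_ite_eq' Finset.univ (1 : S)]
    simp only [Finset.mem_univ, if_true]
    congr 1
    rw [Finset.card_filter]
    apply Finset.sum_congr rfl
    intro g _
    by_cases hP : ((g : G) ∈ H ∨ (g : G) = x₀) <;> simp [hP]
  have hsplit := Finset.card_filter_add_card_filter_not (s := (Finset.univ : Finset S))
    (fun g : S => ((g : G) ∈ H ∨ (g : G) = x₀))
  -- lower bound for the number of g with P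
  have hP_ge : n ≤ (Finset.univ.filter (fun g : S => ((g : G) ∈ H ∨ (g : G) = x₀))).card := by
    let ι : H ↪ S := ⟨fun u => ⟨u.1, hHa u.2⟩, fun u v h => Subtype.ext (congrArg (fun z : S => (z : G)) h)⟩
    let Himg : Finset S := Finset.univ.map ι
    have hx₀' : (⟨x₀, hx₀a⟩ : S) ∉ Himg := by
      simp only [Himg, Finset.mem_map, Finset.mem_univ, true_and, not_exists]
      intro u hu
      apply hx₀H
      have : (u : G) = x₀ := congrArg Subtype.val hu
      rw [← this]; exact u.2
    have hsub : insert (⟨x₀, hx₀a⟩ : S) Himg ⊆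
        Finset.univ.filter (fun g : S => ((g : G) ∈ H ∨ (g : G) = x₀)) := by
      intro g hg
      rw [Finset.mem_insert] at hg
      rw [Finset.mem_filter]
      refine ⟨Finset.mem_univ _, ?_⟩
      rcases hg with hg | hg
      · right; rw [hg]
      · left
        simp only [Himg, Finset.mem_map, Finset.mem_univ, true_and] at hg
        obtain ⟨u, hu⟩ := hg
        rw [← hu]; exact u.2
    have hcard : (insert (⟨x₀, hx₀a⟩ : S) Himg).card = n := by
      rw [Finset.card_insert_of_notMem hx₀', Finset.card_map, Finset.card_univ,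
        ← Nat.card_eq_fintype_card, hHcard]
    rw [← hcard]
    exact Finset.card_le_card hsub
  have hsum_le : ∑ g : S, Nat.card (fixedBy X g) ≤ ∑ g : S, φ g :=
    Finset.sum_le_sum (fun g _ => hle g)
  rw [hB, hsumφ] at hsum_le
  rw [Finset.card_univ, ← Nat.card_eq_fintype_card] at hsplit
  omega

/-- Let G be a Zassenhaus group on the finite set Ω, a a point, and let H be the subgroup of the stabilizer of a consisting of the identity and the elements fixing no point other than a (given here as a subgroup of the stabilizer of order one less than the number of points whose non-identity elements fix only a; it is the Frobenius kernel of the stabilizer). Then an element outside the stabilizer of a conjugates no non-identity element of H into H, and the normalizer of H is exactly the stabilizer of a. -/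
theorem result {G Ω : Type*} [Group G] [Finite G] [MulAction G Ω] [Fintype Ω] (hZ : Cfsg.IsZassenhausGroup G Ω) (a : Ω) (H : Subgroup G) (hHa : H ≤ MulAction.stabilizer G a) (hHcard : Nat.card H + 1 = Fintype.card Ω) (hHfix : ∀ u ∈ H, u ≠ 1 → ∀ c : Ω, u • c = c → c = a) : (∀ g : G, g ∉ MulAction.stabilizer G a → ∀ u ∈ H, g * u * g⁻¹ ∈ H → u = 1) ∧ Subgroup.normalizer (H : Set G) = MulAction.stabilizer G a := by
  have part1 : ∀ g : G, g ∉ MulAction.stabilizer G a → ∀ u ∈ H, g * u * g⁻¹ ∈ H → u = 1 := by
    intro g hg u hu hgu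
    by_contra hu1
    apply hg
    have hne : g * u * g⁻¹ ≠ 1 := by
      intro h
      apply hu1
      have : u = g⁻¹ * (g * u * g⁻¹) * g := by group
      rw [this, h]; group
    have hua : u • a = a := hHa hu
    have : (g * u * g⁻¹) • (g • a) = g • a := by
      rw [mul_smul, mul_smul, inv_smul_smul, hua]
    exact hHfix _ hgu hne _ this
  refine ⟨part1, ?_⟩
  -- conjugation by elements of the stabilizer preserves H
  have conj_mem : ∀ g : G, g ∈ MulAction.stabilizer G a → ∀ u ∈ H, g * u * g⁻¹ ∈ H := by
    intro g hg u hu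
    by_cases hu1 : u = 1
    · subst hu1; simp [H.one_mem]
    have hga : g • a = a := hg
    have hga' : g⁻¹ • a = a := by rw [inv_smul_eq_iff, hga]
    apply mem_of_fix hZ a H hHa hHcard hHfix
    · exact Subgroup.mul_mem _ (Subgroup.mul_mem _ hg (hHa hu)) (Subgroup.inv_mem _ hg)
    · intro c hc
      rw [mul_smul, mul_smul] at hc
      have h1 : u • (g⁻¹ • c) = g⁻¹ • c := by
        have := congrArg (fun z => g⁻¹ • z) hc
        simpa using this
      have h2 := hHfix u hu hu1 _ h1
      rw [inv_smul_eq_iff, hga] at h2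
      exact h2
  apply le_antisymm
  · intro g hg
    by_contra hga
    rw [Subgroup.mem_set_normalizer_iff] at hg
    -- H is nontrivial
    have hn3 := card_ge_three hZ
    have : 1 < Nat.card H := by omega
    rw [Finite.one_lt_card_iff_nontrivial] at this
    obtain ⟨u, hu⟩ := exists_ne (1 : H)
    have := part1 g hga u u.2 ((hg u).mp u.2)
    exact hu (Subtype.ext this)
  · intro g hg
    rw [Subgroup.mem_set_normalizer_iff]
    intro u
    constructor
    · exact conj_mem g hg u
    · intro h
      have := conj_mem g⁻¹ (Subgroup.inv_mem _ hg) _ h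
      have e : g⁻¹ * (g * u * g⁻¹) * g⁻¹⁻¹ = u := by group
      rwa [e] at this

end Cfsg.Agent.S0878
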