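import Cfsg.Statements.S0037
import Mathlib
import Cfsg.Agent.Lib.Helper96.Frobenius

set_option autoImplicit false
open Pointwise
open Cfsg

namespace Cfsg.Agent.S0037

open Cfsg.Agent.Helper96

variable {G : Type*} [Group G]

/-- Two conjugates of a Frobenius complement sharing a nonidentity element coincide:
if `a⁻¹ x a ∈ H` and `b⁻¹ x b ∈ H` with `x ≠ 1` then `a⁻¹ b ∈ H`. -/
theorem inv_mul_mem_of_common {H : Subgroup G} (hH : Cfsg.IsFrobeniusComplement H) {x a b : G}
    (hx : x ≠ 1) (ha : a⁻¹ * x * a ∈ H) (hb : b⁻¹ * x * b ∈ H) : a⁻¹ * b ∈ H := by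
  apply frob_mem_of_conj_mem hH ha
  · intro h
    apply hx
    have : x = a * (a⁻¹ * x * a) * a⁻¹ := by group
    rw [this, h]; group
  · have : (a⁻¹ * b)⁻¹ * (a⁻¹ * x * a) * (a⁻¹ * b) = b⁻¹ * x * b := by group
    rw [this]; exact hb

/-- Step 1: if `|H₀| ≤ |H|`, every nonidentity element of `H₀` lies in a conjugate of `H`. -/
theorem exists_conj_mem [Finite G] {H H₀ : Subgroup G}
    (hH : Cfsg.IsFrobeniusComplement H) (hH₀ : Cfsg.IsFrobeniusComplement H₀)
    (hle : Nat.card H₀ ≤ Nat.card H) (x : G) (hx : x ∈ H₀) (hx1 : x ≠ 1) :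
    ∃ g : G, g⁻¹ * x * g ∈ H := by
  classical
  by_contra hcon
  push Not at hcon
  have hxK : x ∈ Cfsg.frobeniusKernel H := (mem_frobeniusKernel_iff H x).mpr (Or.inr hcon)
  -- the conjugates of `x` by coset representatives of `H₀` are distinct elements of the kernel
  let f : G ⧸ H₀ → Cfsg.frobeniusKernel H := fun c =>
    ⟨complKernelMap H₀ (c, ⟨⟨x, hx⟩, fun h => hx1 (congrArg Subtype.val h)⟩), by
      rw [mem_frobeniusKernel_iff]
      right
      intro g
      unfold complKernelMap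
      simp only
      have := hcon (c.out⁻¹ * g)
      intro h
      apply this
      have e : (c.out⁻¹ * g)⁻¹ * x * (c.out⁻¹ * g) = g⁻¹ * (c.out * x * c.out⁻¹) * g := by group
      rw [e]; exact h⟩
  have hf : Function.Injective f := by
    intro c c' h
    have h1 := congrArg Subtype.val h
    have h2 := complKernelMap_injective hH₀ h1
    exact (Prod.ext_iff.mp h2).1
  have h1 : (⟨1, (mem_frobeniusKernel_iff H 1).mpr (Or.inl rfl)⟩ : Cfsg.frobeniusKernel H) ∉ Set.range f := by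
    rintro ⟨c, hc⟩
    have h2 := congrArg Subtype.val hc
    simp only [f] at h2
    unfold complKernelMap at h2
    simp only at h2
    apply hx1
    have : x = c.out⁻¹ * (c.out * x * c.out⁻¹) * c.out := by group
    rw [this, h2]; group
  have := Fintype.ofFinite (G ⧸ H₀)
  have := Fintype.ofFinite (Cfsg.frobeniusKernel H)
  have hlt := Fintype.card_lt_of_injective_of_notMem f hf h1
  rw [← Nat.card_eq_fintype_card, ← Nat.card_eq_fintype_card, card_frobeniusKernel hH,
    ← Subgroup.index_eq_card] at hlt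
  -- `H₀.index < H.index` contradicts `|H₀| ≤ |H|`
  have e1 := H.index_mul_card
  have e2 := H₀.index_mul_card
  have hpos : 0 < Nat.card H₀ := Nat.card_pos
  have : H₀.index * Nat.card H₀ < H.index * Nat.card H :=
    calc H₀.index * Nat.card H₀ < H.index * Nat.card H₀ := Nat.mul_lt_mul_of_pos_right hlt hpos
      _ ≤ H.index * Nat.card H := Nat.mul_le_mul_left _ hle
  rw [e1, e2] at this
  exact lt_irrefl _ this

/-- The intersection of `H₀` with a conjugate of the Frobenius complement `H`, if proper and nontrivial,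
is a Frobenius complement in `H₀`. -/
theorem isFrobeniusComplement_inf {H : Subgroup G} (hH : Cfsg.IsFrobeniusComplement H) (H₀ : Subgroup G)
    (g : G) (hbot : H₀ ⊓ MulAut.conj g • H ≠ ⊥) (htop : ¬ H₀ ≤ MulAut.conj g • H) :
    Cfsg.IsFrobeniusComplement ((H₀ ⊓ MulAut.conj g • H).subgroupOf H₀) := by
  refine ⟨?_, ?_, ?_⟩
  · intro h
    rw [Subgroup.subgroupOf_eq_bot] at h
    apply hbot
    have := h.eq_bot
    rwa [inf_eq_left.mpr (inf_le_left : H₀ ⊓ MulAut.conj g • H ≤ H₀)] at this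
  · intro h
    rw [Subgroup.subgroupOf_eq_top] at h
    exact htop (h.trans inf_le_right)
  · intro u hu
    rw [eq_bot_iff]
    intro z hz
    rw [Subgroup.mem_bot]
    by_contra hz1
    obtain ⟨hz2, hz3⟩ := Subgroup.mem_inf.mp hz
    rw [Subgroup.mem_subgroupOf] at hz2
    rw [mem_conj_smul_iff, Subgroup.mem_subgroupOf] at hz3
    have h1 : g⁻¹ * (z : G) * g ∈ H := (mem_conj_smul_iff H g _).mp hz2.2
    have h2 : g⁻¹ * ((u⁻¹ * z * u : H₀) : G) * g ∈ H := (mem_conj_smul_iff H g _).mp hz3.2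
    have hz1' : (z : G) ≠ 1 := fun h => hz1 (Subtype.ext h)
    have h3 : g⁻¹ * ((u : G) * g) ∈ H := by
      apply inv_mul_mem_of_common hH hz1' h1
      have e : ((u : G) * g)⁻¹ * (z : G) * ((u : G) * g) = g⁻¹ * ((u⁻¹ * z * u : H₀) : G) * g := by
        simp only [Subgroup.coe_mul, Subgroup.coe_inv]; group
      rw [e]; exact h2
    apply hu
    rw [Subgroup.mem_subgroupOf]
    refine Subgroup.mem_inf.mpr ⟨u.2, (mem_conj_smul_iff H g _).mpr ?_⟩
    have e : g⁻¹ * (u : G) * g = g⁻¹ * ((u : G) * g) := by group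
    rw [e]; exact h3

/-- Of two Frobenius complements in one finite group, the one of smaller (or equal) order is conjugate to a subgroup of the other. -/
theorem result {G : Type*} [Group G] [Finite G] (H H₀ : Subgroup G)
    (hH : Cfsg.IsFrobeniusComplement H) (hH₀ : Cfsg.IsFrobeniusComplement H₀) (hle : Nat.card H₀ ≤ Nat.card H) :
    ∃ g : G, MulAut.conj g • H₀ ≤ H := by
  classical
  by_contra hcon
  push Not at hcon
  have hcon' : ∀ g : G, ¬ H₀ ≤ MulAut.conj g • H := by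
    intro g hg
    apply hcon g⁻¹
    intro x hx
    rw [mem_conj_smul_iff, inv_inv] at hx
    have := hg hx
    rw [mem_conj_smul_iff] at this
    have e : g⁻¹ * (g * x * g⁻¹) * g = x := by group
    rwa [e] at this
  have hstep := exists_conj_mem hH hH₀ hle
  -- a first nonidentity element
  obtain ⟨x1, hx1, hx1'⟩ : ∃ x ∈ H₀, x ≠ 1 := by
    by_contra h
    push Not at h
    exact hH₀.1 ((Subgroup.eq_bot_iff_forall _).mpr h)
  obtain ⟨g1, hg1⟩ := hstep x1 hx1 hx1'
  have hD1bot : H₀ ⊓ MulAut.conj g1 • H ≠ ⊥ := by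
    intro h
    have : x1 ∈ H₀ ⊓ MulAut.conj g1 • H := ⟨hx1, (mem_conj_smul_iff H g1 x1).mpr hg1⟩
    rw [h, Subgroup.mem_bot] at this
    exact hx1' this
  have hF1 := isFrobeniusComplement_inf hH H₀ g1 hD1bot (hcon' g1)
  set D1 : Subgroup H₀ := (H₀ ⊓ MulAut.conj g1 • H).subgroupOf H₀ with hD1
  have hK1card := card_frobeniusKernel hF1
  have := Fintype.ofFinite H₀
  -- a nonidentity element of the first kernel
  have hidx1 : 2 ≤ D1.index := by
    have h0 : D1.index ≠ 0 := Subgroup.index_ne_zero_of_finite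
    have h1 : D1.index ≠ 1 := fun h => hF1.2.1 (Subgroup.index_eq_one.mp h)
    omega
  obtain ⟨y, hyK, hy1⟩ : ∃ y : H₀, y ∈ Cfsg.frobeniusKernel D1 ∧ y ≠ 1 := by
    by_contra h
    push Not at h
    have hsub : Cfsg.frobeniusKernel D1 ⊆ {1} := fun z hz => h z hz
    have h2 : Nat.card (Cfsg.frobeniusKernel D1) ≤ 1 := by
      have := Set.ncard_le_ncard hsub (Set.finite_singleton 1)
      rw [Set.ncard_singleton] at this
      rwa [Nat.card_coe_set_eq]
    rw [hK1card] at h2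
    omega
  obtain ⟨g2, hg2⟩ := hstep (y : G) y.2 (fun h => hy1 (Subtype.ext h))
  have hD2bot : H₀ ⊓ MulAut.conj g2 • H ≠ ⊥ := by
    intro h
    have : (y : G) ∈ H₀ ⊓ MulAut.conj g2 • H := ⟨y.2, (mem_conj_smul_iff H g2 y).mpr hg2⟩
    rw [h, Subgroup.mem_bot] at this
    exact hy1 (Subtype.ext this)
  have hF2 := isFrobeniusComplement_inf hH H₀ g2 hD2bot (hcon' g2)
  set D2 : Subgroup H₀ := (H₀ ⊓ MulAut.conj g2 • H).subgroupOf H₀ with hD2
  have hK2card := card_frobeniusKernel hF2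
  have hidx2 : 2 ≤ D2.index := by
    have h0 : D2.index ≠ 0 := Subgroup.index_ne_zero_of_finite
    have h1 : D2.index ≠ 1 := fun h => hF2.2.1 (Subgroup.index_eq_one.mp h)
    omega
  -- the two kernels cover `H₀`
  have hcover : ∀ z : H₀, z ∈ Cfsg.frobeniusKernel D1 ∨ z ∈ Cfsg.frobeniusKernel D2 := by
    intro z
    by_contra h
    push Not at h
    obtain ⟨hz1, hz2⟩ := h
    rw [not_mem_frobeniusKernel_iff] at hz1 hz2
    obtain ⟨hzne, u1, hu1⟩ := hz1
    obtain ⟨-, u2, hu2⟩ := hz2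
    rw [hD1, Subgroup.mem_subgroupOf] at hu1
    rw [hD2, Subgroup.mem_subgroupOf] at hu2
    have hu1' := (mem_conj_smul_iff H g1 _).mp hu1.2
    have hu2' := (mem_conj_smul_iff H g2 _).mp hu2.2
    have hzne' : (z : G) ≠ 1 := fun h => hzne (Subtype.ext h)
    -- `(u1 g1)⁻¹ (u2 g2) ∈ H`
    have h3 : ((u1 : G) * g1)⁻¹ * ((u2 : G) * g2) ∈ H := by
      apply inv_mul_mem_of_common hH hzne'
      · have e : ((u1 : G) * g1)⁻¹ * (z : G) * ((u1 : G) * g1) = g1⁻¹ * ((u1⁻¹ * z * u1 : H₀) : G) * g1 := by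
          simp only [Subgroup.coe_mul, Subgroup.coe_inv]; group
        rw [e]; exact hu1'
      · have e : ((u2 : G) * g2)⁻¹ * (z : G) * ((u2 : G) * g2) = g2⁻¹ * ((u2⁻¹ * z * u2 : H₀) : G) * g2 := by
          simp only [Subgroup.coe_mul, Subgroup.coe_inv]; group
        rw [e]; exact hu2'
    -- then `y` lies in an `H₀`-conjugate of `D1`
    have hy2 : y ∉ Cfsg.frobeniusKernel D1 := by
      rw [not_mem_frobeniusKernel_iff]
      refine ⟨hy1, u2⁻¹ * u1, ?_⟩
      rw [hD1, Subgroup.mem_subgroupOf]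
      refine Subgroup.mem_inf.mpr ⟨SetLike.coe_mem _, (mem_conj_smul_iff H g1 _).mpr ?_⟩
      -- `g1⁻¹ (u2⁻¹ u1)⁻¹ y (u2⁻¹ u1) g1 = w⁻¹ (g2⁻¹ y g2) w` with `w = g2⁻¹ u2⁻¹ u1 g1 ∈ H`
      set w : G := ((u1 : G) * g1)⁻¹ * ((u2 : G) * g2) with hw
      have e : g1⁻¹ * (((u2⁻¹ * u1)⁻¹ * y * (u2⁻¹ * u1) : H₀) : G) * g1 = w * (g2⁻¹ * (y : G) * g2) * w⁻¹ := by
        simp only [Subgroup.coe_mul, Subgroup.coe_inv, hw]; group
      rw [e]
      exact H.mul_mem (H.mul_mem h3 hg2) (H.inv_mem h3)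
    exact hy2 hyK
  -- counting
  have hcardD1 := D1.index_mul_card
  have hcardD2 := D2.index_mul_card
  have hD1card : 2 ≤ Nat.card D1 := by
    have h0 : 0 < Nat.card D1 := Nat.card_pos
    have h1 : Nat.card D1 ≠ 1 := fun h => hF1.1 (Subgroup.card_eq_one.mp h)
    omega
  have hD2card : 2 ≤ Nat.card D2 := by
    have h0 : 0 < Nat.card D2 := Nat.card_pos
    have h1 : Nat.card D2 ≠ 1 := fun h => hF2.1 (Subgroup.card_eq_one.mp h)
    omega
  set K1 : Finset H₀ := (Cfsg.frobeniusKernel D1).toFinset with hK1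
  set K2 : Finset H₀ := (Cfsg.frobeniusKernel D2).toFinset with hK2
  have hK1c : K1.card = D1.index := by
    rw [← hK1card, hK1, Set.toFinset_card, Nat.card_eq_fintype_card]
  have hK2c : K2.card = D2.index := by
    rw [← hK2card, hK2, Set.toFinset_card, Nat.card_eq_fintype_card]
  have hunion : K1 ∪ K2 = Finset.univ := by
    rw [Finset.eq_univ_iff_forall]
    intro z
    rw [Finset.mem_union, hK1, hK2, Set.mem_toFinset, Set.mem_toFinset]
    exact hcover z
  have hinter : 1 ≤ (K1 ∩ K2).card := by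
    apply Finset.card_pos.mpr
    refine ⟨1, ?_⟩
    rw [Finset.mem_inter, hK1, hK2, Set.mem_toFinset, Set.mem_toFinset]
    exact ⟨(mem_frobeniusKernel_iff D1 1).mpr (Or.inl rfl), (mem_frobeniusKernel_iff D2 1).mpr (Or.inl rfl)⟩
  have hsum := Finset.card_union_add_card_inter K1 K2
  rw [hunion, Finset.card_univ, ← Nat.card_eq_fintype_card, hK1c, hK2c] at hsum
  -- `h0 + 1 ≤ i1 + i2`, `2 i1 ≤ h0`, `2 i2 ≤ h0`
  have h1 : 2 * D1.index ≤ Nat.card H₀ := by
    rw [← hcardD1]; nlinarith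
  have h2 : 2 * D2.index ≤ Nat.card H₀ := by
    rw [← hcardD2]; nlinarith
  omega

end Cfsg.Agent.S0037
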