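import Cfsg.Statements.S3383

set_option autoImplicit false
open Cfsg
open scoped Pointwise

namespace Cfsg.Agent.S3383

variable {L : Type*} [Group L]

lemma mem_conj_smul (H : Subgroup L) (g x : L) :
    x ∈ MulAut.conj g • H ↔ g⁻¹ * x * g ∈ H := by
  rw [Subgroup.mem_pointwise_smul_iff_inv_smul_mem, ← map_inv, MulAut.smul_def,
    MulAut.conj_apply, inv_inv]

lemma mem_K_iff (H K : Subgroup L) (hK : (K : Set L) = Cfsg.frobeniusKernel H) (x : L) :
    x ∈ K ↔ (x = 1 ∨ ∀ g : L, g⁻¹ * x * g ∉ H) := by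
  have : x ∈ (K : Set L) ↔ x ∈ Cfsg.frobeniusKernel H := by rw [hK]
  rw [SetLike.mem_coe] at this
  rw [this]
  unfold Cfsg.frobeniusKernel
  simp only [Set.mem_ofPred_eq, mem_conj_smul]

lemma K_normal (H K : Subgroup L) (hK : (K : Set L) = Cfsg.frobeniusKernel H) : K.Normal := by
  constructor
  intro x hx g
  rw [mem_K_iff H K hK] at hx ⊢
  rcases hx with rfl | hx
  · left; simp
  · right
    intro g'
    have := hx (g⁻¹ * g')
    convert this using 1
    group

lemma K_inf_H (H K : Subgroup L) (hK : (K : Set L) = Cfsg.frobeniusKernel H)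
    (x : L) (hxK : x ∈ K) (hxH : x ∈ H) : x = 1 := by
  rw [mem_K_iff H K hK] at hxK
  rcases hxK with rfl | hx
  · rfl
  · exfalso
    apply hx 1
    simpa using hxH

lemma commute_mem (H : Subgroup L) (hH : Cfsg.IsFrobeniusComplement H)
    (h : L) (hh : h ∈ H) (h1 : h ≠ 1) (g : L) (hg : g * h = h * g) : g ∈ H := by
  by_contra hgH
  have := hH.2.2 g hgH
  have hmem : h ∈ H ⊓ (MulAut.conj g • H) := by
    refine Subgroup.mem_inf.mpr ⟨hh, ?_⟩
    rw [mem_conj_smul]
    have : g⁻¹ * h * g = h := by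
      rw [mul_assoc, ← hg]; group
    rw [this]; exact hh
  rw [this] at hmem
  exact h1 (Subgroup.mem_bot.mp hmem)

lemma comparable [Finite L] (H : Subgroup L) (hH : Cfsg.IsFrobeniusComplement H)
    (K : Subgroup L) (hK : (K : Set L) = Cfsg.frobeniusKernel H)
    (N : Subgroup L) (hN : N.Normal) : K ≤ N ∨ N ≤ K := by
  classical
  have hKn : K.Normal := K_normal H K hK
  by_cases hNK : N ≤ K
  · right; exact hNK
  · left
    rw [SetLike.not_le_iff_exists] at hNK
    obtain ⟨x, hxN, hxK⟩ := hNK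
    rw [mem_K_iff H K hK] at hxK
    push Not at hxK
    obtain ⟨hx1, g, hg⟩ := hxK
    set h := g⁻¹ * x * g with hdef
    have hhN : h ∈ N := by
      have := hN.conj_mem x hxN g⁻¹
      simpa [hdef] using this
    have hh1 : h ≠ 1 := by
      intro h1
      apply hx1
      have : x = g * h * g⁻¹ := by rw [hdef]; group
      rw [this, h1]; group
    -- the map k ↦ h⁻¹ * k⁻¹ * h * k
    have hmemK : ∀ k : K, h⁻¹ * (k : L)⁻¹ * h * k ∈ K ⊓ N := by
      intro k
      refine Subgroup.mem_inf.mpr ⟨?_, ?_⟩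
      · have h1 : h⁻¹ * (k : L)⁻¹ * h ∈ K := by
          have := hKn.conj_mem (k : L)⁻¹ (inv_mem k.2) h⁻¹
          simpa using this
        exact mul_mem h1 k.2
      · have h1 : (k : L)⁻¹ * h * k ∈ N := by
          have := hN.conj_mem h hhN (k : L)⁻¹
          simpa using this
        have h2 : h⁻¹ * (k : L)⁻¹ * h * k = h⁻¹ * ((k : L)⁻¹ * h * k) := by group
        rw [h2]
        exact mul_mem (inv_mem hhN) h1
    let φ : K → ↥(K ⊓ N) := fun k => ⟨h⁻¹ * (k : L)⁻¹ * h * k, hmemK k⟩
    have hφ : Function.Injective φ := by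
      intro a b hab
      have hab' : h⁻¹ * (a : L)⁻¹ * h * a = h⁻¹ * (b : L)⁻¹ * h * b := congrArg Subtype.val hab
      have hcomm : ((b : L) * (a : L)⁻¹) * h = h * ((b : L) * (a : L)⁻¹) := by
        have h3 : (a : L)⁻¹ * h * a = (b : L)⁻¹ * h * b := by
          have := congrArg (fun t => h * t) hab'
          simpa [mul_assoc] using this
        calc ((b : L) * (a : L)⁻¹) * h = b * ((a : L)⁻¹ * h * a) * (a : L)⁻¹ := by group
          _ = b * ((b : L)⁻¹ * h * b) * (a : L)⁻¹ := by rw [h3]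
          _ = h * ((b : L) * (a : L)⁻¹) := by group
      have hmemH := commute_mem H hH h hg hh1 _ hcomm
      have hmemK' : (b : L) * (a : L)⁻¹ ∈ K := mul_mem b.2 (inv_mem a.2)
      have := K_inf_H H K hK _ hmemK' hmemH
      apply Subtype.ext
      have h4 : (b : L) = (b * (a : L)⁻¹) * a := by group
      rw [h4, this, one_mul]
    have hcard : Nat.card K ≤ Nat.card ↥(K ⊓ N) := Nat.card_le_card_of_injective φ hφ
    have heq : K ⊓ N = K := Subgroup.eq_of_le_of_card_ge inf_le_left hcard
    rw [← heq]; exact inf_le_right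

theorem result {L : Type*} [Group L] [Finite L]
    (H : Subgroup L) (hH : Cfsg.IsFrobeniusComplement H)
    (K : Subgroup L) (hK : (K : Set L) = Cfsg.frobeniusKernel H) :
    K.Characteristic ∧ ∀ N : Subgroup L, N.Normal → K ≤ N ∨ N ≤ K := by
  have hcomp := comparable H hH K hK
  refine ⟨?_, hcomp⟩
  have hKn : K.Normal := K_normal H K hK
  rw [Subgroup.characteristic_iff_map_eq]
  intro φ
  have hn : (K.map φ.toMonoidHom).Normal := hKn.map φ.toMonoidHom φ.surjective
  have hcard : Nat.card (K.map φ.toMonoidHom) = Nat.card K :=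
    Subgroup.card_map_of_injective φ.injective
  rcases hcomp _ hn with h | h
  · exact (Subgroup.eq_of_le_of_card_ge h (le_of_eq hcard)).symm
  · exact Subgroup.eq_of_le_of_card_ge h (le_of_eq hcard.symm)

end Cfsg.Agent.S3383
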