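import Cfsg.Statements.S0738
import Mathlib
import Cfsg.Agent.Lib.Helper96.Zassenhaus

set_option autoImplicit false
open Cfsg

namespace Cfsg.Agent.S0738

open MulAction Helper96
open scoped Pointwise

/-- A free action of a finite group on a finite set: the order divides the size. -/
theorem card_dvd_of_free {H Y : Type*} [Group H] [MulAction H Y] [Finite H] [Finite Y]
    (hfree : ∀ y : Y, stabilizer H y = ⊥) : Nat.card H ∣ Nat.card Y := by
  have e := MulAction.selfEquivOrbitsQuotientProd hfree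
  rw [Nat.card_congr e, Nat.card_prod]
  exact dvd_mul_left _ _

/-- Counting lemma: an invariant subgroup `C` (acting freely at `b`) of the stabilizer of `a` has
order congruent to one modulo the order of the two-point stabilizer. -/
theorem card_sub_one_dvd {G Ω : Type*} [Group G] [Finite G] [MulAction G Ω] {a b : Ω}
    (hfree : ∀ g : G, g • a = a → g • b = b → ∀ y : Ω, y ≠ a → y ≠ b → g • y = y → g = 1)
    (hab : a ≠ b)
    (C : Subgroup G) (hCa : C ≤ stabilizer G a) (hCb : ∀ u ∈ C, u • b = b → u = 1)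
    (hinv : ∀ h ∈ stabilizer G a ⊓ stabilizer G b, ∀ c ∈ C, h * c * h⁻¹ ∈ C) :
    Nat.card ↥(stabilizer G a ⊓ stabilizer G b) ∣ Nat.card C - 1 := by
  classical
  obtain ⟨H, hHdef⟩ : ∃ H : Subgroup G, H = stabilizer G a ⊓ stabilizer G b := ⟨_, rfl⟩
  rw [← hHdef] at hinv ⊢
  have hHa : ∀ h ∈ H, h • a = a := fun h hh => by
    rw [hHdef] at hh; exact mem_stabilizer_iff.mp (Subgroup.mem_inf.mp hh).1
  have hHb : ∀ h ∈ H, h • b = b := fun h hh => by
    rw [hHdef] at hh; exact mem_stabilizer_iff.mp (Subgroup.mem_inf.mp hh).2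
  -- the invariant set
  let Y : SubMulAction ↥H Ω :=
    { carrier := {y | y ≠ b ∧ ∃ u ∈ C, u • b = y}
      smul_mem' := by
        rintro ⟨h, hh⟩ y ⟨hyb, u, hu, rfl⟩
        refine ⟨?_, h * u * h⁻¹, hinv h hh u hu, ?_⟩
        · intro heq
          apply hyb
          have : (h : G) • u • b = b := heq
          have h2 := congrArg (fun z => h⁻¹ • z) this
          simp only [inv_smul_smul] at h2
          rw [h2]
          have := hHb h hh
          rw [← this, inv_smul_smul, this]
        · show (h * u * h⁻¹) • b = h • u • b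
          have hb' : h⁻¹ • b = b := by
            have := hHb h hh
            rw [← this, inv_smul_smul, this]
          rw [mul_smul, mul_smul, hb'] }
  have hYmem : ∀ y : Ω, y ∈ Y ↔ (y ≠ b ∧ ∃ u ∈ C, u • b = y) := fun y => Iff.rfl
  have hYfree : ∀ y : Y, stabilizer ↥H y = ⊥ := by
    intro y
    rw [Subgroup.eq_bot_iff_forall]
    rintro ⟨h, hh⟩ hstab
    rw [mem_stabilizer_iff] at hstab
    have hy : (h : G) • (y : Ω) = y := congrArg Subtype.val hstab
    obtain ⟨hyb, u, hu, huy⟩ := (hYmem y).mp y.2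
    have hya : (y : Ω) ≠ a := by
      intro heq
      rw [← huy] at heq
      have hua : u • a = a := mem_stabilizer_iff.mp (hCa hu)
      have : u • b = u • a := by rw [heq, hua]
      exact hab (smul_left_cancel u this).symm
    apply Subtype.ext
    exact hfree h (hHa h hh) (hHb h hh) y hya hyb hy
  have hfinY : Finite Y := Finite.of_injective (fun y : Y => (⟨(Classical.choose ((hYmem y).mp y.2).2), (Classical.choose_spec ((hYmem y).mp y.2).2).1⟩ : C)) (by
    intro y₁ y₂ h12
    apply Subtype.ext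
    have e1 := (Classical.choose_spec ((hYmem y₁).mp y₁.2).2).2
    have e2 := (Classical.choose_spec ((hYmem y₂).mp y₂.2).2).2
    have := congrArg Subtype.val h12
    simp only at this
    rw [← e1, ← e2, this])
  have hdvd := card_dvd_of_free hYfree
  -- the size of `Y`
  have hcard : Nat.card Y + 1 = Nat.card C := by
    have hinj : Set.InjOn (fun u : G => u • b) (C : Set G) := by
      intro u hu v hv huv
      have : (v⁻¹ * u) • b = b := by
        rw [mul_smul]
        show v⁻¹ • (u • b) = b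
        have h1 : u • b = v • b := huv
        rw [h1, inv_smul_smul]
      have h1 := hCb _ (C.mul_mem (C.inv_mem hv) hu) this
      have : u = v * (v⁻¹ * u) := by group
      rw [this, h1, mul_one]
    have himg : ((fun u : G => u • b) '' (C : Set G)).ncard = Nat.card C := by
      rw [Set.InjOn.ncard_image hinj]
      exact (Nat.card_coe_set_eq (C : Set G)).symm
    have hbmem : b ∈ ((fun u : G => u • b) '' (C : Set G)) := ⟨1, C.one_mem, one_smul _ _⟩
    have hYset : (Y : Set Ω) = ((fun u : G => u • b) '' (C : Set G)) \ {b} := by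
      ext y
      constructor
      · rintro ⟨hyb, u, hu, rfl⟩
        exact ⟨⟨u, hu, rfl⟩, hyb⟩
      · rintro ⟨⟨u, hu, rfl⟩, hyb⟩
        exact ⟨hyb, u, hu, rfl⟩
    have h1 : Nat.card Y = (Y : Set Ω).ncard := Nat.card_coe_set_eq (Y : Set Ω)
    rw [h1, hYset, ← himg]
    exact Set.ncard_sdiff_singleton_add_one hbmem (Set.toFinite _)
  rw [← hcard, Nat.add_sub_cancel]
  exact hdvd

/-- An invariant nontrivial `p`-subgroup of the regular normal subgroup. -/
theorem exists_inv_psub {G Ω : Type*} [Group G] [Finite G] [MulAction G Ω] [Fintype Ω]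
    (hZ : Cfsg.IsZassenhausGroup G Ω) {a b : Ω} (hab : a ≠ b)
    (F : Subgroup G) (hFle : F ≤ MulAction.stabilizer G a)
    (hreg : ∀ y z : Ω, y ≠ a → z ≠ a → ∃! u : F, (u : G) • y = z)
    (p : ℕ) [Fact p.Prime] (hp : p ∣ Nat.card F) :
    ∃ Q : Subgroup G, Q ≤ F ∧ IsPGroup p Q ∧ Q ≠ ⊥ ∧
      ∀ h ∈ stabilizer G a ⊓ stabilizer G b, ∀ c ∈ Q, h * c * h⁻¹ ∈ Q := by
  classical
  have hfree : ∀ g : G, g • a = a → g • b = b → ∀ y : Ω, y ≠ a → y ≠ b → g • y = y → g = 1 :=
    fun g ha hb y hya hyb hy => hZ.2.2.1 g a b y hab (Ne.symm hyb) (Ne.symm hya) ha hb hy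
  have hFfix : ∀ u ∈ F, ∀ y : Ω, y ≠ a → u • y = y → u = 1 := by
    intro u hu y hy huy
    obtain ⟨w, -, hw⟩ := hreg y y hy hy
    have h1 := hw ⟨u, hu⟩ huy
    have h2 := hw 1 (one_smul _ _)
    exact congrArg Subtype.val (h1.trans h2.symm)
  obtain ⟨Ga, hGadef⟩ : ∃ Ga : Subgroup G, Ga = stabilizer G a := ⟨_, rfl⟩
  obtain ⟨H, hHdef⟩ : ∃ H : Subgroup G, H = stabilizer G a ⊓ stabilizer G b := ⟨_, rfl⟩
  rw [← hHdef]
  rw [← hGadef] at hFle
  have hGa' : ∀ x ∈ Ga, x • a = a := fun x hx => by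
    rw [hGadef] at hx; exact mem_stabilizer_iff.mp hx
  have hGa : ∀ x : Ga, (x : G) • a = a := fun x => hGa' x x.2
  have hHmem : ∀ x : G, x ∈ H ↔ x • a = a ∧ x • b = b := by
    intro x; rw [hHdef, Subgroup.mem_inf, mem_stabilizer_iff, mem_stabilizer_iff]
  have hHGa : H ≤ Ga := by rw [hHdef, hGadef]; exact inf_le_left
  obtain ⟨H', hH'def⟩ : ∃ H' : Subgroup Ga, H' = H.subgroupOf Ga := ⟨_, rfl⟩
  obtain ⟨F', hF'def⟩ : ∃ F' : Subgroup Ga, F' = F.subgroupOf Ga := ⟨_, rfl⟩
  have hH'mem : ∀ x : Ga, x ∈ H' ↔ (x : G) • b = b := by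
    intro x
    rw [hH'def, Subgroup.mem_subgroupOf, hHmem]
    exact ⟨fun h => h.2, fun h => ⟨hGa x, h⟩⟩
  have hF'mem : ∀ x : Ga, x ∈ F' ↔ (x : G) ∈ F := by
    intro x; rw [hF'def, Subgroup.mem_subgroupOf]
  have hn3 := zass_card_ge_three hZ
  -- `H'` is a Frobenius complement
  have hFrob : Cfsg.IsFrobeniusComplement H' := by
    refine ⟨?_, ?_, ?_⟩
    · obtain ⟨g₀, hg₀, a₀, b₀, hab₀, hga₀, hgb₀⟩ := hZ.2.2.2.1
      obtain ⟨t, hta, htb⟩ := zass_two_trans hZ hab₀ hab
      have h1 : (t * g₀ * t⁻¹) • a = a := by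
        rw [mul_smul, mul_smul, ← hta, inv_smul_smul, hga₀]
      have h2 : (t * g₀ * t⁻¹) • b = b := by
        rw [mul_smul, mul_smul, ← htb, inv_smul_smul, hgb₀]
      have hmemGa : t * g₀ * t⁻¹ ∈ Ga := by rw [hGadef]; exact mem_stabilizer_iff.mpr h1
      intro hbot
      have : (⟨t * g₀ * t⁻¹, hmemGa⟩ : Ga) ∈ H' := (hH'mem _).mpr h2
      rw [hbot, Subgroup.mem_bot] at this
      have h3 : t * g₀ * t⁻¹ = 1 := congrArg Subtype.val this
      apply hg₀
      have : g₀ = t⁻¹ * (t * g₀ * t⁻¹) * t := by group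
      rw [this, h3]; group
    · -- a third point
      have : ∃ c : Ω, c ≠ a ∧ c ≠ b := by
        by_contra hno
        push Not at hno
        have : (Finset.univ : Finset Ω) ⊆ {a, b} := by
          intro c _
          by_cases hca : c = a
          · simp [hca]
          · simp [hno c hca]
        have h1 := Finset.card_le_card this
        have h2 : ({a, b} : Finset Ω).card ≤ 2 := Finset.card_le_two
        rw [Finset.card_univ] at h1
        omega
      obtain ⟨c, hca, hcb⟩ := this
      obtain ⟨u, hu, -⟩ := hreg b c hab.symm hca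
      intro htop
      have : (⟨(u : G), hFle u.2⟩ : Ga) ∈ H' := by rw [htop]; exact Subgroup.mem_top _
      rw [hH'mem] at this
      exact hcb (hu.symm.trans this)
    · intro g hg
      rw [Subgroup.eq_bot_iff_forall]
      intro x hx
      rw [Subgroup.mem_inf, mem_conj_smul_iff, hH'mem, hH'mem] at hx
      obtain ⟨hx1, hx2⟩ := hx
      rw [hH'mem] at hg
      have hx2' : (g : G)⁻¹ • (x : G) • (g : G) • b = b := by
        have : ((g⁻¹ * x * g : Ga) : G) = (g : G)⁻¹ * (x : G) * (g : G) := by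
          simp
        rw [this, mul_smul, mul_smul] at hx2
        exact hx2
      have hx3 : (x : G) • ((g : G) • b) = (g : G) • b := by
        have := congrArg (fun z => (g : G) • z) hx2'
        simpa using this
      have hgba : (g : G) • b ≠ a := by
        intro h
        have : (g : G) • b = (g : G) • a := by rw [h, hGa g]
        exact hab (smul_left_cancel _ this).symm
      apply Subtype.ext
      exact hfree x (hGa x) hx1 _ hgba hg hx3
  -- complement
  have hcompl : Subgroup.IsComplement' F' H' := by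
    apply Subgroup.isComplement'_of_disjoint_and_mul_eq_univ
    · rw [Subgroup.disjoint_def]
      intro x hxF hxH
      rw [hF'mem] at hxF
      rw [hH'mem] at hxH
      exact Subtype.ext (hFfix x hxF b hab.symm hxH)
    · rw [Set.eq_univ_iff_forall]
      intro x
      have hxba : (x : G) • b ≠ a := by
        intro h
        have : (x : G) • b = (x : G) • a := by rw [h, hGa x]
        exact hab (smul_left_cancel _ this).symm
      obtain ⟨u, hu, -⟩ := hreg b ((x : G) • b) hab.symm hxba
      refine ⟨⟨(u : G), hFle u.2⟩, (hF'mem _).mpr u.2, (⟨(u : G), hFle u.2⟩ : Ga)⁻¹ * x, ?_, ?_⟩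
      · rw [SetLike.mem_coe, hH'mem]
        have : (((⟨(u : G), hFle u.2⟩ : Ga)⁻¹ * x : Ga) : G) = (u : G)⁻¹ * (x : G) := by simp
        rw [this, mul_smul, ← hu, inv_smul_smul]
      · simp
  have hidx : H'.index = Nat.card F := by
    rw [hcompl.index_eq_card, hF'def]
    exact Nat.card_congr (Subgroup.subgroupOfEquivOfLe hFle).toEquiv
  obtain ⟨Q', hQ'ker, hQ'p, hQ'bot, hQ'norm⟩ := exists_invariant_pSubgroup hFrob p (hidx ▸ hp)
  -- the kernel is `F'`
  have hker : (F' : Set Ga) = Cfsg.frobeniusKernel H' := by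
    apply Set.eq_of_subset_of_ncard_le
    · intro x hx
      rw [SetLike.mem_coe, hF'mem] at hx
      by_cases hx1 : x = 1
      · left; exact hx1
      · right
        intro g hg
        rw [mem_conj_smul_iff, hH'mem] at hg
        have : ((g⁻¹ * x * g : Ga) : G) = (g : G)⁻¹ * (x : G) * (g : G) := by simp
        rw [this, mul_smul, mul_smul] at hg
        have hx3 : (x : G) • ((g : G) • b) = (g : G) • b := by
          have := congrArg (fun z => (g : G) • z) hg
          simpa using this
        have hgba : (g : G) • b ≠ a := by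
          intro h
          have : (g : G) • b = (g : G) • a := by rw [h, hGa g]
          exact hab (smul_left_cancel _ this).symm
        exact hx1 (Subtype.ext (hFfix x hx _ hgba hx3))
    · rw [← Nat.card_coe_set_eq, ← Nat.card_coe_set_eq, card_frobeniusKernel hFrob,
        hcompl.index_eq_card]
      exact le_of_eq rfl
    · exact Set.toFinite _
  refine ⟨Q'.map Ga.subtype, ?_, hQ'p.map _, ?_, ?_⟩
  · intro x hx
    obtain ⟨x', hx', rfl⟩ := Subgroup.mem_map.mp hx
    have : x' ∈ (F' : Set Ga) := by rw [hker]; exact hQ'ker hx'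
    exact (hF'mem x').mp this
  · rw [Ne, Subgroup.map_eq_bot_iff_of_injective _ Ga.subtype_injective]
    exact hQ'bot
  · intro h hh c hc
    obtain ⟨c', hc', rfl⟩ := Subgroup.mem_map.mp hc
    have hh' : (⟨h, hHGa hh⟩ : Ga) ∈ H' := by
      rw [hH'mem]; exact ((hHmem h).mp hh).2
    have := (Subgroup.mem_normalizer_iff.mp (hQ'norm hh') c').mp hc'
    exact Subgroup.mem_map.mpr ⟨_, this, by simp⟩

/-- Let a finite Zassenhaus group of degree `n + 1` have two-point stabilisers of order `d` with `2d ≥ n - 1`. Then a normal subgroup of a point stabiliser acting regularly on the remaining points is elementary abelian, and the degree is a prime power plus one. -/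
theorem result {G Ω : Type*} [Group G] [Finite G] [MulAction G Ω] [Fintype Ω] (hZ : Cfsg.IsZassenhausGroup G Ω) {a b : Ω} (hab : a ≠ b) (hd : Fintype.card Ω - 2 ≤ 2 * Nat.card ↥(MulAction.stabilizer G a ⊓ MulAction.stabilizer G b)) (F : Subgroup G) (hFle : F ≤ MulAction.stabilizer G a) (hFn : (F.subgroupOf (MulAction.stabilizer G a)).Normal) (hreg : ∀ y z : Ω, y ≠ a → z ≠ a → ∃! u : F, (u : G) • y = z) : IsMulCommutative F ∧ ∃ p f : ℕ, p.Prime ∧ (∀ u ∈ F, u ^ p = 1) ∧ Fintype.card Ω = p ^ f + 1 := by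
  classical
  have hfree : ∀ g : G, g • a = a → g • b = b → ∀ y : Ω, y ≠ a → y ≠ b → g • y = y → g = 1 :=
    fun g ha hb y hya hyb hy => hZ.2.2.1 g a b y hab (Ne.symm hyb) (Ne.symm hya) ha hb hy
  have hFfix : ∀ u ∈ F, ∀ y : Ω, y ≠ a → u • y = y → u = 1 := by
    intro u hu y hy huy
    obtain ⟨w, -, hw⟩ := hreg y y hy hy
    have h1 := hw ⟨u, hu⟩ huy
    have h2 := hw 1 (one_smul _ _)
    exact congrArg Subtype.val (h1.trans h2.symm)
  have hFb : ∀ u ∈ F, u • b = b → u = 1 := fun u hu => hFfix u hu b hab.symm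
  have hFa : ∀ u ∈ F, u • a = a := fun u hu => mem_stabilizer_iff.mp (hFle hu)
  have hHF : ∀ h ∈ stabilizer G a ⊓ stabilizer G b, ∀ u ∈ F, h * u * h⁻¹ ∈ F := by
    intro h hh u hu
    have hha : h ∈ stabilizer G a := (Subgroup.mem_inf.mp hh).1
    have := hFn.conj_mem ⟨u, hFle hu⟩ (Subgroup.mem_subgroupOf.mpr hu) ⟨h, hha⟩
    exact Subgroup.mem_subgroupOf.mp this
  -- the order of `F`
  have hFcard : Nat.card F + 1 = Fintype.card Ω := by
    have e : F ≃ {z : Ω // ¬ z = a} := Equiv.ofBijective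
      (fun u => ⟨(u : G) • b, by
        intro h
        have : (u : G) • b = (u : G) • a := by rw [h, hFa u u.2]
        exact hab (smul_left_cancel _ this).symm⟩) ⟨by
          intro u v huv
          have huv' : (u : G) • b = (v : G) • b := congrArg Subtype.val huv
          have h1 : ((v : G)⁻¹ * (u : G)) • b = b := by
            rw [mul_smul, huv', inv_smul_smul]
          have h2 := hFb _ (F.mul_mem (F.inv_mem v.2) u.2) h1
          apply Subtype.ext
          have : (u : G) = (v : G) * ((v : G)⁻¹ * (u : G)) := by group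
          rw [this, h2, mul_one], by
          rintro ⟨z, hz⟩
          obtain ⟨u, hu, -⟩ := hreg b z hab.symm hz
          exact ⟨u, Subtype.ext hu⟩⟩
    rw [Nat.card_congr e, Nat.card_eq_fintype_card, Fintype.card_subtype_compl,
      Fintype.card_subtype_eq]
    have := zass_card_ge_three hZ
    omega
  have hn3 := zass_card_ge_three hZ
  have hF2 : 2 ≤ Nat.card F := by omega
  -- minimality
  have hmin : ∀ C : Subgroup G, C ≤ F →
      (∀ h ∈ stabilizer G a ⊓ stabilizer G b, ∀ c ∈ C, h * c * h⁻¹ ∈ C) → C ≠ ⊥ → C = F := by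
    intro C hCF hCinv hCbot
    have hdC := card_sub_one_dvd hfree hab C (hCF.trans hFle) (fun u hu => hFb u (hCF hu)) hCinv
    have hdiv : Nat.card C ∣ Nat.card F := Subgroup.card_dvd_of_le hCF
    have hC2 : 1 < Nat.card C := (Subgroup.one_lt_card_iff_ne_bot C).mpr hCbot
    apply Subgroup.eq_of_le_of_card_ge hCF
    obtain ⟨m, hm⟩ := hdiv
    have hdle : Nat.card ↥(stabilizer G a ⊓ stabilizer G b) ≤ Nat.card C - 1 :=
      Nat.le_of_dvd (by omega) hdC
    rcases m with _ | _ | m
    · omega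
    · omega
    · exfalso
      have h2c : Nat.card C * 2 ≤ Nat.card F := by
        rw [hm]; exact Nat.mul_le_mul_left _ (by omega)
      omega
  -- a prime
  obtain ⟨p, hpdef⟩ : ∃ p : ℕ, p = (Nat.card F).minFac := ⟨_, rfl⟩
  have hpp : p.Prime := by rw [hpdef]; exact Nat.minFac_prime (by omega)
  have hpdvd : p ∣ Nat.card F := by rw [hpdef]; exact Nat.minFac_dvd _
  have : Fact p.Prime := ⟨hpp⟩
  obtain ⟨Q, hQF, hQp, hQbot, hQinv⟩ := exists_inv_psub hZ hab F hFle hreg p hpdvd
  have hQeq : Q = F := hmin Q hQF hQinv hQbot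
  have hFp : IsPGroup p F := hQeq ▸ hQp
  -- the centre
  have hcomm : ∀ u ∈ F, ∀ v ∈ F, u * v = v * u := by
    obtain ⟨Z, hZdef⟩ : ∃ Z : Subgroup G, Z = F ⊓ Subgroup.centralizer (F : Set G) := ⟨_, rfl⟩
    have hZF : Z ≤ F := by rw [hZdef]; exact inf_le_left
    have hZinv : ∀ h ∈ stabilizer G a ⊓ stabilizer G b, ∀ c ∈ Z, h * c * h⁻¹ ∈ Z := by
      intro h hh c hc
      rw [hZdef, Subgroup.mem_inf, Subgroup.mem_centralizer_iff] at hc ⊢
      refine ⟨hHF h hh c hc.1, ?_⟩
      intro u hu
      have hu' : h⁻¹ * u * h⁻¹⁻¹ ∈ F := hHF h⁻¹ (Subgroup.inv_mem _ hh) u hu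
      have := hc.2 _ hu'
      rw [inv_inv] at this
      calc u * (h * c * h⁻¹) = h * ((h⁻¹ * u * h) * c) * h⁻¹ := by group
        _ = h * (c * (h⁻¹ * u * h)) * h⁻¹ := by rw [this]
        _ = h * c * h⁻¹ * u := by group
    have hZbot : Z ≠ ⊥ := by
      have : Nontrivial F := Finite.one_lt_card_iff_nontrivial.mp (by omega)
      have := hFp.center_nontrivial
      obtain ⟨z, hz⟩ := exists_ne (1 : Subgroup.center F)
      intro hbot
      have hzZ : ((z : F) : G) ∈ Z := by
        rw [hZdef, Subgroup.mem_inf, Subgroup.mem_centralizer_iff]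
        refine ⟨(z : F).2, ?_⟩
        intro u hu
        have := Subgroup.mem_center_iff.mp z.2 ⟨u, hu⟩
        exact congrArg Subtype.val this
      rw [hbot, Subgroup.mem_bot] at hzZ
      apply hz
      apply Subtype.ext
      apply Subtype.ext
      exact hzZ
    have hZeq := hmin Z hZF hZinv hZbot
    intro u hu v hv
    rw [← hZeq, hZdef, Subgroup.mem_inf, Subgroup.mem_centralizer_iff] at hv
    exact hv.2 u hu
  -- exponent
  have hexp : ∀ u ∈ F, u ^ p = 1 := by
    let W : Subgroup G :=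
      { carrier := {u | u ∈ F ∧ u ^ p = 1}
        mul_mem' := by
          rintro u v ⟨hu, hu1⟩ ⟨hv, hv1⟩
          refine ⟨F.mul_mem hu hv, ?_⟩
          rw [(show Commute u v from hcomm u hu v hv).mul_pow, hu1, hv1, one_mul]
        one_mem' := ⟨F.one_mem, one_pow _⟩
        inv_mem' := by
          rintro u ⟨hu, hu1⟩
          exact ⟨F.inv_mem hu, by rw [inv_pow, hu1, inv_one]⟩ }
    have hWmem : ∀ u, u ∈ W ↔ (u ∈ F ∧ u ^ p = 1) := fun u => Iff.rfl
    have hWF : W ≤ F := fun u hu => ((hWmem u).mp hu).1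
    have hWinv : ∀ h ∈ stabilizer G a ⊓ stabilizer G b, ∀ c ∈ W, h * c * h⁻¹ ∈ W := by
      intro h hh c hc
      rw [hWmem] at hc ⊢
      refine ⟨hHF h hh c hc.1, ?_⟩
      rw [conj_pow, hc.2]
      group
    have hWbot : W ≠ ⊥ := by
      obtain ⟨x, hx⟩ := exists_prime_orderOf_dvd_card' (G := F) p hpdvd
      intro hbot
      have hxW : (x : G) ∈ W := by
        rw [hWmem]
        refine ⟨x.2, ?_⟩
        have : x ^ p = 1 := by rw [← hx]; exact pow_orderOf_eq_one x
        have := congrArg Subtype.val this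
        simpa using this
      rw [hbot, Subgroup.mem_bot] at hxW
      have hx1 : x = 1 := Subtype.ext hxW
      rw [hx1, orderOf_one] at hx
      exact hpp.one_lt.ne hx
    have hWeq := hmin W hWF hWinv hWbot
    intro u hu
    rw [← hWeq] at hu
    exact ((hWmem u).mp hu).2
  obtain ⟨f, hf⟩ := IsPGroup.iff_card.mp hFp
  refine ⟨⟨⟨fun x y => Subtype.ext (hcomm x x.2 y y.2)⟩⟩, p, f, hpp, hexp, ?_⟩
  omega

end Cfsg.Agent.S0738
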