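import Cfsg.Statements.S0879
import Mathlib

set_option autoImplicit false
open Cfsg

namespace Cfsg.Agent.S0879

variable {G Ω : Type*} [Group G] [MulAction G Ω]

lemma mem_E {a b : Ω} {x : G} :
    x ∈ (MulAction.stabilizer G a ⊓ MulAction.stabilizer G b : Subgroup G) ↔ x • a = a ∧ x • b = b := by
  simp [Subgroup.mem_inf, MulAction.mem_stabilizer_iff]

/-- if `k` preserves `{a,b}` then `k⁻¹` normalizes `E`. -/
lemma normalizes_of_preserves {a b : Ω} (g : G)
    (hk : (g⁻¹ • a = a ∧ g⁻¹ • b = b) ∨ (g⁻¹ • a = b ∧ g⁻¹ • b = a)) :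
    g ∈ Subgroup.normalizer ((MulAction.stabilizer G a ⊓ MulAction.stabilizer G b : Subgroup G) : Set G) := by
  rw [Subgroup.mem_set_normalizer_iff]
  intro n
  rw [SetLike.mem_coe, SetLike.mem_coe, mem_E, mem_E]
  have key : ∀ c : Ω, (g * n * g⁻¹) • c = c ↔ n • (g⁻¹ • c) = g⁻¹ • c := by
    intro c
    rw [mul_smul, mul_smul]
    constructor
    · intro h
      have := congrArg (fun z => g⁻¹ • z) h
      simpa using this
    · intro h
      rw [h]; simp
  rw [key, key]
  rcases hk with ⟨h1, h2⟩ | ⟨h1, h2⟩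
  · rw [h1, h2]
  · rw [h1, h2]; exact and_comm

lemma preserves_of_conj (hZ : Cfsg.IsZassenhausGroup G Ω) {a b : Ω} (hab : a ≠ b) (g x : G)
    (hx : x ∈ (MulAction.stabilizer G a ⊓ MulAction.stabilizer G b : Subgroup G)) (hx1 : x ≠ 1)
    (hgx : g * x * g⁻¹ ∈ (MulAction.stabilizer G a ⊓ MulAction.stabilizer G b : Subgroup G)) :
    (g⁻¹ • a = a ∧ g⁻¹ • b = b) ∨ (g⁻¹ • a = b ∧ g⁻¹ • b = a) := by
  obtain ⟨_, _, h3, _, _⟩ := hZ
  rw [mem_E] at hx hgx
  have key : ∀ c : Ω, (g * x * g⁻¹) • c = c → x • (g⁻¹ • c) = g⁻¹ • c := by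
    intro c h
    rw [mul_smul, mul_smul] at h
    have := congrArg (fun z => g⁻¹ • z) h
    simpa using this
  have fixab : ∀ c : Ω, x • c = c → c = a ∨ c = b := by
    intro c hc
    by_contra hcon
    push Not at hcon
    exact hx1 (h3 x a b c hab (Ne.symm hcon.2) (Ne.symm hcon.1) hx.1 hx.2 hc)
  have ha := fixab _ (key a hgx.1)
  have hb := fixab _ (key b hgx.2)
  have hne : g⁻¹ • a ≠ g⁻¹ • b := fun h => hab (by simpa using h)
  rcases ha with ha | ha <;> rcases hb with hb | hb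
  · exact absurd (ha.trans hb.symm) hne
  · exact Or.inl ⟨ha, hb⟩
  · exact Or.inr ⟨ha, hb⟩
  · exact absurd (ha.trans hb.symm) hne

/-- Let G be a Zassenhaus group on the finite set Ω and E the stabilizer of two distinct points a, b. Then an element outside the normalizer of E conjugates no non-identity element of E into E, and E has index 2 in its normalizer. -/
theorem result {G Ω : Type*} [Group G] [Finite G] [MulAction G Ω] [Fintype Ω] (hZ : Cfsg.IsZassenhausGroup G Ω) {a b : Ω} (hab : a ≠ b) : (∀ g : G, g ∉ Subgroup.normalizer ((MulAction.stabilizer G a ⊓ MulAction.stabilizer G b : Subgroup G) : Set G) → ∀ x ∈ (MulAction.stabilizer G a ⊓ MulAction.stabilizer G b : Subgroup G), g * x * g⁻¹ ∈ (MulAction.stabilizer G a ⊓ MulAction.stabilizer G b : Subgroup G) → x = 1) ∧ ((MulAction.stabilizer G a ⊓ MulAction.stabilizer G b : Subgroup G).subgroupOf (Subgroup.normalizer ((MulAction.stabilizer G a ⊓ MulAction.stabilizer G b : Subgroup G) : Set G))).index = 2 :=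 by
  have hZ' := hZ
  obtain ⟨_, h2, h3, ⟨g₀, hg₀, a', b', hab', hga', hgb'⟩, _⟩ := hZ'
  rw [MulAction.is_two_pretransitive_iff] at h2
  constructor
  · intro g hg x hx hgx
    by_contra hx1
    exact hg (normalizes_of_preserves g (preserves_of_conj hZ hab g x hx hx1 hgx))
  · -- nontrivial element of E
    obtain ⟨k, hka, hkb⟩ := h2 hab' hab
    have hx₀ : k * g₀ * k⁻¹ ∈ (MulAction.stabilizer G a ⊓ MulAction.stabilizer G b : Subgroup G) := by
      rw [mem_E]
      constructor
      · rw [mul_smul, mul_smul, ← hka]; simp [hga']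
      · rw [mul_smul, mul_smul, ← hkb]; simp [hgb']
    have hx₀1 : k * g₀ * k⁻¹ ≠ 1 := by
      intro h
      apply hg₀
      have : g₀ = k⁻¹ * (k * g₀ * k⁻¹) * k := by group
      rw [this, h]; group
    -- the swapping element
    obtain ⟨t, hta, htb⟩ := h2 hab (Ne.symm hab)
    have hta' : t⁻¹ • a = b := by rw [← htb]; simp
    have htb' : t⁻¹ • b = a := by rw [← hta]; simp
    have htN : t ∈ Subgroup.normalizer ((MulAction.stabilizer G a ⊓ MulAction.stabilizer G b : Subgroup G) : Set G) :=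
      normalizes_of_preserves t (Or.inr ⟨hta', htb'⟩)
    rw [Subgroup.index_eq_two_iff]
    refine ⟨⟨t, htN⟩, ?_⟩
    rintro ⟨n, hn⟩
    simp only [Subgroup.mem_subgroupOf, Subgroup.coe_mul]
    -- n preserves {a,b}
    have hn' := hn
    rw [Subgroup.mem_set_normalizer_iff] at hn'
    have hconj : n * (k * g₀ * k⁻¹) * n⁻¹ ∈ (MulAction.stabilizer G a ⊓ MulAction.stabilizer G b : Subgroup G) :=
      (hn' _).mp hx₀
    have hpres := preserves_of_conj hZ hab n _ hx₀ hx₀1 hconj
    rw [mem_E, mem_E]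
    have e1 : ∀ c d : Ω, n⁻¹ • c = d → n • d = c := by
      intro c d h; rw [← h]; simp
    rcases hpres with ⟨h1, h2'⟩ | ⟨h1, h2'⟩
    · right
      refine ⟨⟨e1 _ _ h1, e1 _ _ h2'⟩, ?_⟩
      rintro ⟨h, -⟩
      rw [mul_smul, hta, e1 _ _ h2'] at h
      exact hab h.symm
    · left
      refine ⟨?_, ?_⟩
      · constructor
        · rw [mul_smul, hta, e1 _ _ h1]
        · rw [mul_smul, htb, e1 _ _ h2']
      · rintro ⟨h, -⟩
        rw [e1 _ _ h2'] at h
        exact hab h.symm

end Cfsg.Agent.S0879
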