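import Cfsg.Statements.S0741
import Mathlib
import Cfsg.Agent.Lib.Helper96.Zassenhaus

set_option autoImplicit false
open Cfsg

namespace Cfsg.Agent.S0741

open MulAction Helper96

/-- Double counting in a Zassenhaus-like situation: `J` a set of non-identity elements each
fixing at most two points, with at most `d` elements of `J` mapping `c` to `e` for `c ≠ e`. -/
theorem count_le {G Ω : Type*} [Group G] [Fintype G] [MulAction G Ω] [Fintype Ω] [DecidableEq Ω]
    [DecidableEq G]
    (J : Finset G) (d : ℕ)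
    (hfix : ∀ x ∈ J, (Finset.univ.filter (fun c : Ω => x • c = c)).card ≤ 2)
    (hm : ∀ c e : Ω, c ≠ e → (J.filter (fun x => x • c = e)).card ≤ d) :
    J.card * (Fintype.card Ω - 2) ≤ Fintype.card Ω * ((Fintype.card Ω - 1) * d) := by
  have hdc := Finset.sum_card_bipartiteAbove_eq_sum_card_bipartiteBelow (s := J)
    (t := (Finset.univ : Finset Ω)) (fun x c => x • c ≠ c)
  have hL : J.card * (Fintype.card Ω - 2) ≤
      ∑ x ∈ J, ((Finset.univ : Finset Ω).bipartiteAbove (fun x c => x • c ≠ c) x).card := by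
    rw [← smul_eq_mul, ← Finset.sum_const]
    apply Finset.sum_le_sum
    intro x hx
    have h1 := hfix x hx
    have h2 := Finset.card_filter_add_card_filter_not (s := (Finset.univ : Finset Ω))
      (fun c : Ω => x • c = c)
    rw [Finset.card_univ] at h2
    have h3 : (Finset.univ : Finset Ω).bipartiteAbove (fun x c => x • c ≠ c) x =
        Finset.univ.filter (fun c : Ω => ¬ x • c = c) := rfl
    rw [h3]
    omega
  have hR : ∑ c ∈ (Finset.univ : Finset Ω), (J.bipartiteBelow (fun x c => x • c ≠ c) c).card ≤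
      Fintype.card Ω * ((Fintype.card Ω - 1) * d) := by
    rw [← Finset.card_univ (α := Ω), ← smul_eq_mul, ← Finset.sum_const]
    apply Finset.sum_le_sum
    intro c _
    have h3 : J.bipartiteBelow (fun x c => x • c ≠ c) c = J.filter (fun x => x • c ≠ c) := rfl
    rw [h3]
    have h4 := Finset.card_eq_sum_card_fiberwise (s := J.filter (fun x => x • c ≠ c))
      (t := Finset.univ.erase c) (f := fun x => x • c) (by
        intro x hx
        simp only [Finset.coe_filter, Set.mem_ofPred_eq] at hx
        simp only [Finset.coe_erase, Finset.coe_univ, Set.mem_sdiff, Set.mem_univ,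
          Set.mem_singleton_iff, true_and]
        exact hx.2)
    rw [h4]
    have h5 : ((Finset.univ : Finset Ω).erase c).card = Fintype.card Ω - 1 := by
      rw [Finset.card_erase_of_mem (Finset.mem_univ c), Finset.card_univ]
    rw [Finset.card_univ, ← h5, ← smul_eq_mul, ← Finset.sum_const]
    apply Finset.sum_le_sum
    intro e he
    have hce : c ≠ e := (Finset.ne_of_mem_erase he).symm
    refine le_trans (Finset.card_le_card ?_) (hm c e hce)
    intro x hx
    simp only [Finset.mem_filter] at hx ⊢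
    exact ⟨hx.1.1, hx.2⟩
  calc J.card * (Fintype.card Ω - 2) ≤ _ := hL
    _ = _ := hdc
    _ ≤ _ := hR

/-- The number of elements of `J` (closed under inverse-free conditions below) sending `c` to `e`
is at most the order of the two-point stabiliser. Here `J` consists of elements of order two. -/
theorem swap_le {G Ω : Type*} [Group G] [Fintype G] [MulAction G Ω] [Fintype Ω] [DecidableEq Ω]
    [DecidableEq G] (hZ : Cfsg.IsZassenhausGroup G Ω) {a b : Ω} (hab : a ≠ b)
    (J : Finset G) (hJ : ∀ x ∈ J, x * x = 1) (c e : Ω) (hce : c ≠ e) :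
    (J.filter (fun x => x • c = e)).card ≤ Nat.card ↥(stabilizer G a ⊓ stabilizer G b) := by
  classical
  by_cases hem : (J.filter (fun x => x • c = e)) = ∅
  · rw [hem]; simp
  obtain ⟨t, ht⟩ := Finset.nonempty_iff_ne_empty.mpr hem
  rw [Finset.mem_filter] at ht
  obtain ⟨g, hga, hgb⟩ := zass_two_trans hZ hab hce
  have htt : t * t = 1 := hJ t ht.1
  have hte : t • e = c := by
    rw [← ht.2, ← mul_smul, htt, one_smul]
  have htinv : t⁻¹ = t := inv_eq_of_mul_eq_one_right htt
  rw [Nat.card_eq_fintype_card, Fintype.card_subtype]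
  have hinj : Function.Injective (fun x : G => g⁻¹ * t⁻¹ * x * g) := by
    intro x y hxy
    simpa using hxy
  rw [← Finset.card_image_of_injective _ hinj]
  apply Finset.card_le_card
  intro y hy
  rw [Finset.mem_image] at hy
  obtain ⟨x, hx, rfl⟩ := hy
  rw [Finset.mem_filter] at hx
  have hxx : x * x = 1 := hJ x hx.1
  have hxe : x • e = c := by
    rw [← hx.2, ← mul_smul, hxx, one_smul]
  rw [Finset.mem_filter]
  refine ⟨Finset.mem_univ _, ?_⟩
  rw [Subgroup.mem_inf, mem_stabilizer_iff, mem_stabilizer_iff, htinv]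
  constructor
  · rw [mul_smul, mul_smul, mul_smul, hga, hx.2, hte, ← hga, inv_smul_smul]
  · rw [mul_smul, mul_smul, mul_smul, hgb, hxe, ht.2, ← hgb, inv_smul_smul]

/-- If the two-point stabilisers of a finite Zassenhaus group of degree `n + 1` have even order `d`, then `2d ≥ n - 1`. -/
theorem result {G Ω : Type*} [Group G] [Finite G] [MulAction G Ω] [Fintype Ω] (hZ : Cfsg.IsZassenhausGroup G Ω) {a b : Ω} (hab : a ≠ b) (heven : Even (Nat.card ↥(MulAction.stabilizer G a ⊓ MulAction.stabilizer G b))) : Fintype.card Ω - 2 ≤ 2 * Nat.card ↥(MulAction.stabilizer G a ⊓ MulAction.stabilizer G b) := by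
  classical
  have := Fintype.ofFinite G
  obtain ⟨τ', hτ'⟩ := exists_prime_orderOf_dvd_card' (G := ↥(stabilizer G a ⊓ stabilizer G b)) 2
    heven.two_dvd
  obtain ⟨τ, hτdef⟩ : ∃ τ : G, τ = (τ' : G) := ⟨_, rfl⟩
  have hτo : orderOf τ = 2 := by rw [hτdef, Subgroup.orderOf_coe, hτ']
  have hτa : τ • a = a := by
    rw [hτdef]; exact mem_stabilizer_iff.mp (Subgroup.mem_inf.mp τ'.2).1
  have hτb : τ • b = b := by
    rw [hτdef]; exact mem_stabilizer_iff.mp (Subgroup.mem_inf.mp τ'.2).2
  obtain ⟨I, hIdef⟩ : ∃ I : Finset G, I = Finset.univ.filter (fun x : G => orderOf x = 2) :=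
    ⟨_, rfl⟩
  have hImem : ∀ x, x ∈ I ↔ orderOf x = 2 := by
    intro x; rw [hIdef]; simp
  have hIsq : ∀ x ∈ I, x * x = 1 := by
    intro x hx
    rw [← pow_two, ← (hImem x).mp hx]
    exact pow_orderOf_eq_one x
  have hIne : ∀ x ∈ I, x ≠ 1 := by
    intro x hx h1
    rw [hImem, h1, orderOf_one] at hx
    omega
  have hfix : ∀ x ∈ I, (Finset.univ.filter (fun c : Ω => x • c = c)).card ≤ 2 := by
    intro x hx
    by_contra h
    push Not at h
    obtain ⟨c₁, hc₁, c₂, hc₂, c₃, hc₃, h12, h13, h23⟩ := Finset.two_lt_card.mp h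
    simp only [Finset.mem_filter, Finset.mem_univ, true_and] at hc₁ hc₂ hc₃
    exact hIne x hx (hZ.2.2.1 x c₁ c₂ c₃ h12 h23 h13 hc₁ hc₂ hc₃)
  have hcount := count_le I (Nat.card ↥(stabilizer G a ⊓ stabilizer G b)) hfix
    (fun c e hce => swap_le hZ hab I hIsq c e hce)
  -- lower bound on the number of involutions
  have hex : ∀ pr : Ω × Ω, pr.1 ≠ pr.2 →
      ∃ x : G, orderOf x = 2 ∧ x • pr.1 = pr.1 ∧ x • pr.2 = pr.2 := by
    intro pr hpr
    obtain ⟨g, hga, hgb⟩ := zass_two_trans hZ hab hpr
    refine ⟨g * τ * g⁻¹, ?_, ?_, ?_⟩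
    · rw [← hτo, ← MulAut.conj_apply]
      exact (MulAut.conj g).orderOf_eq τ
    · rw [mul_smul, mul_smul, ← hga, inv_smul_smul, hτa]
    · rw [mul_smul, mul_smul, ← hgb, inv_smul_smul, hτb]
  choose! f hf using hex
  have hI : Fintype.card Ω * Fintype.card Ω - Fintype.card Ω ≤ 2 * I.card := by
    have h1 := Finset.card_le_mul_card_image (s := (Finset.univ : Finset Ω).offDiag) (f := f) 2 (by
      intro x hx
      rw [Finset.mem_image] at hx
      obtain ⟨pr, hpr, rfl⟩ := hx
      rw [Finset.mem_offDiag] at hpr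
      have hfI : f pr ∈ I := (hImem _).mpr (hf pr hpr.2.2).1
      have hsub : (Finset.univ : Finset Ω).offDiag.filter (fun pr' => f pr' = f pr) ⊆
          (Finset.univ.filter (fun c : Ω => f pr • c = c)).offDiag := by
        intro pr' hpr'
        rw [Finset.mem_filter, Finset.mem_offDiag] at hpr'
        rw [Finset.mem_offDiag]
        have := hf pr' hpr'.1.2.2
        rw [hpr'.2] at this
        simp only [Finset.mem_filter, Finset.mem_univ, true_and]
        exact ⟨this.2.1, this.2.2, hpr'.1.2.2⟩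
      refine le_trans (Finset.card_le_card hsub) ?_
      rw [Finset.offDiag_card]
      have := hfix (f pr) hfI
      interval_cases (Finset.univ.filter (fun c : Ω => f pr • c = c)).card <;> simp)
    rw [Finset.offDiag_card, Finset.card_univ] at h1
    refine le_trans h1 (Nat.mul_le_mul_left 2 (Finset.card_le_card ?_))
    intro x hx
    rw [Finset.mem_image] at hx
    obtain ⟨pr, hpr, rfl⟩ := hx
    rw [Finset.mem_offDiag] at hpr
    exact (hImem _).mpr (hf pr hpr.2.2).1
  -- arithmetic
  have hN2 : 2 ≤ Fintype.card Ω := by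
    have := zass_card_ge_three hZ
    omega
  obtain ⟨n, hn⟩ : ∃ n, Fintype.card Ω = n + 2 := ⟨Fintype.card Ω - 2, by omega⟩
  rw [hn] at hcount hI ⊢
  simp only [Nat.add_sub_cancel] at hcount ⊢
  have e1 : n + 2 - 1 = n + 1 := by omega
  rw [e1] at hcount
  have e2 : (n + 2) * (n + 2) - (n + 2) = (n + 2) * (n + 1) := by
    have : (n + 2) * (n + 2) = (n + 2) * (n + 1) + (n + 2) := by ring
    omega
  rw [e2] at hI
  by_contra hlt
  push Not at hlt
  have h3 : (n + 2) * (n + 1) * n ≤ (n + 2) * (n + 1) * (2 * Nat.card ↥(stabilizer G a ⊓ stabilizer G b)) := by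
    calc (n + 2) * (n + 1) * n ≤ 2 * I.card * n := Nat.mul_le_mul_right n hI
      _ = 2 * (I.card * n) := by ring
      _ ≤ 2 * ((n + 2) * ((n + 1) * Nat.card ↥(stabilizer G a ⊓ stabilizer G b))) :=
          Nat.mul_le_mul_left 2 hcount
      _ = _ := by ring
  have h4 := Nat.le_of_mul_le_mul_left h3 (by positivity)
  omega

end Cfsg.Agent.S0741
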