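import Cfsg.Statements.S0740
import Mathlib
import Cfsg.Agent.S0741

set_option autoImplicit false
open Cfsg

namespace Cfsg.Agent.S0740

open MulAction Helper96

/-- The number of fixed points of an involution has the parity of the degree. -/
theorem fixedBy_parity {G Ω : Type*} [Group G] [MulAction G Ω] [Fintype Ω] (s : G)
    (hs : orderOf s = 2) : Fintype.card Ω ≡ Nat.card (fixedBy Ω s) [MOD 2] := by
  have hP : IsPGroup 2 (Subgroup.zpowers s) := by
    apply IsPGroup.of_card (n := 1)
    rw [Nat.card_zpowers, hs, pow_one]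
  have h1 := hP.card_modEq_card_fixedPoints Ω
  have h2 : (fixedPoints (Subgroup.zpowers s) Ω) = fixedBy Ω s := by
    ext x
    rw [mem_fixedPoints, mem_fixedBy]
    constructor
    · intro h
      exact h ⟨s, Subgroup.mem_zpowers s⟩
    · intro h g
      have : Subgroup.zpowers s ≤ stabilizer G x :=
        Subgroup.zpowers_le.mpr (mem_stabilizer_iff.mpr h)
      exact mem_stabilizer_iff.mp (this g.2)
  rw [h2, Nat.card_eq_fintype_card] at h1
  exact h1

/-- A conjugation-closed nonempty set of involutions contains one swapping `a` and `b`. -/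
theorem exists_swap {G Ω : Type*} [Group G] [Finite G] [MulAction G Ω] [Fintype Ω]
    (hZ : Cfsg.IsZassenhausGroup G Ω) {a b : Ω} (hab : a ≠ b)
    (J : Set G) (hJ2 : ∀ x ∈ J, orderOf x = 2) (hJc : ∀ x ∈ J, ∀ g : G, g * x * g⁻¹ ∈ J)
    (hJne : J.Nonempty) : ∃ s ∈ J, s • a = b ∧ s • b = a := by
  classical
  have := Fintype.ofFinite G
  by_contra hno
  push Not at hno
  have hsq : ∀ x ∈ J, x * x = 1 := by
    intro x hx
    rw [← pow_two, ← hJ2 x hx]
    exact pow_orderOf_eq_one x
  have hno' : ∀ x ∈ J, ∀ c e : Ω, c ≠ e → x • c ≠ e := by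
    intro x hx c e hce hxc
    obtain ⟨g, hgc, hge⟩ := zass_two_trans hZ hce hab
    have hmem := hJc x hx g
    have h1 : (g * x * g⁻¹) • a = b := by
      rw [mul_smul, mul_smul, ← hgc, inv_smul_smul, hxc, hge]
    have h2 : (g * x * g⁻¹) • b = a := by
      rw [← h1, ← mul_smul, hsq _ hmem, one_smul]
    exact hno _ hmem h1 h2
  have hfix : ∀ x ∈ J.toFinset, (Finset.univ.filter (fun c : Ω => x • c = c)).card ≤ 2 := by
    intro x hx
    rw [Set.mem_toFinset] at hx
    by_contra h
    push Not at h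
    obtain ⟨c₁, hc₁, c₂, hc₂, c₃, hc₃, h12, h13, h23⟩ := Finset.two_lt_card.mp h
    simp only [Finset.mem_filter, Finset.mem_univ, true_and] at hc₁ hc₂ hc₃
    have h1 := hZ.2.2.1 x c₁ c₂ c₃ h12 h23 h13 hc₁ hc₂ hc₃
    have := hJ2 x hx
    rw [h1, orderOf_one] at this
    omega
  have hcount := S0741.count_le J.toFinset 0 hfix (by
    intro c e hce
    rw [Nat.le_zero, Finset.card_eq_zero, Finset.filter_eq_empty_iff]
    intro x hx
    rw [Set.mem_toFinset] at hx
    exact hno' x hx c e hce)
  have h3 := zass_card_ge_three hZ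
  simp only [mul_zero, Nat.le_zero, mul_eq_zero] at hcount
  rcases hcount with h | h
  · rw [Finset.card_eq_zero, Set.toFinset_eq_empty] at h
    rw [h] at hJne
    exact Set.not_nonempty_empty hJne
  · omega

theorem card_fixedBy_eq {G Ω : Type*} [Group G] [MulAction G Ω] [Fintype Ω] [DecidableEq Ω]
    (s : G) :
    Nat.card (fixedBy Ω s) = (Finset.univ.filter (fun c : Ω => s • c = c)).card := by
  classical
  rw [Nat.card_eq_fintype_card, ← Set.toFinset_card]
  congr 1
  ext x
  simp [mem_fixedBy]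

theorem card_fixedBy_le_two {G Ω : Type*} [Group G] [MulAction G Ω] [Fintype Ω]
    (hZ : Cfsg.IsZassenhausGroup G Ω) (s : G) (hs : s ≠ 1) : Nat.card (fixedBy Ω s) ≤ 2 := by
  classical
  rw [card_fixedBy_eq]
  by_contra h
  push Not at h
  obtain ⟨c₁, hc₁, c₂, hc₂, c₃, hc₃, h12, h13, h23⟩ := Finset.two_lt_card.mp h
  simp only [Finset.mem_filter, Finset.mem_univ, true_and] at hc₁ hc₂ hc₃
  exact hs (hZ.2.2.1 s c₁ c₂ c₃ h12 h23 h13 hc₁ hc₂ hc₃)

/-- In a finite Zassenhaus group any two points `a ≠ b` are swapped by an involution; every such involution has exactly one fixed point when the degree is odd and 0 or 2 fixed points when the degree is even; and if the two-point stabiliser has even order, some such involution has exactly 2 fixed points. -/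
theorem result {G Ω : Type*} [Group G] [Finite G] [MulAction G Ω] [Fintype Ω] (hZ : Cfsg.IsZassenhausGroup G Ω) {a b : Ω} (hab : a ≠ b) : (∃ s : G, orderOf s = 2 ∧ s • a = b ∧ s • b = a) ∧ (∀ s : G, orderOf s = 2 → s • a = b → s • b = a → (Odd (Fintype.card Ω) → Nat.card (MulAction.fixedBy Ω s) = 1) ∧ (Even (Fintype.card Ω) → Nat.card (MulAction.fixedBy Ω s) = 0 ∨ Nat.card (MulAction.fixedBy Ω s) = 2)) ∧ (Even (Fintype.card Ω) → Even (Nat.card ↥(MulAction.stabilizer G a ⊓ MulAction.stabilizer G b)) → ∃ s : G, orderOf s = 2 ∧ s • a = b ∧ s • b = a ∧ Nat.card (MulAction.fixedBy Ω s) = 2) := by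
  classical
  -- an involution in the two-point stabilizer, when its order is even
  have hτ : Even (Nat.card ↥(stabilizer G a ⊓ stabilizer G b)) →
      ∃ τ : G, orderOf τ = 2 ∧ τ • a = a ∧ τ • b = b := by
    intro heven
    obtain ⟨τ', hτ'⟩ := exists_prime_orderOf_dvd_card'
      (G := ↥(stabilizer G a ⊓ stabilizer G b)) 2 heven.two_dvd
    refine ⟨(τ' : G), ?_, ?_, ?_⟩
    · rw [Subgroup.orderOf_coe, hτ']
    · exact mem_stabilizer_iff.mp (Subgroup.mem_inf.mp τ'.2).1
    · exact mem_stabilizer_iff.mp (Subgroup.mem_inf.mp τ'.2).2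
  have hpart2 : ∀ s : G, orderOf s = 2 →
      (Odd (Fintype.card Ω) → Nat.card (MulAction.fixedBy Ω s) = 1) ∧
      (Even (Fintype.card Ω) → Nat.card (MulAction.fixedBy Ω s) = 0 ∨
        Nat.card (MulAction.fixedBy Ω s) = 2) := by
    intro s hs
    have hs1 : s ≠ 1 := by
      intro h
      rw [h, orderOf_one] at hs
      omega
    have h1 := card_fixedBy_le_two hZ s hs1
    have h2 := fixedBy_parity (Ω := Ω) s hs
    unfold Nat.ModEq at h2
    constructor
    · intro hodd
      rw [Nat.odd_iff] at hodd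
      omega
    · intro hev
      rw [Nat.even_iff] at hev
      omega
  refine ⟨?_, fun s hs _ _ => hpart2 s hs, ?_⟩
  · by_cases heven : Even (Nat.card ↥(stabilizer G a ⊓ stabilizer G b))
    · obtain ⟨τ, hτo, -, -⟩ := hτ heven
      obtain ⟨s, hsJ, hsa, hsb⟩ := exists_swap hZ hab {x : G | orderOf x = 2}
        (fun x hx => hx) (fun x hx g => by
          show orderOf (g * x * g⁻¹) = 2
          rw [← MulAut.conj_apply, (MulAut.conj g).orderOf_eq x]
          exact hx) ⟨τ, hτo⟩
      exact ⟨s, hsJ, hsa, hsb⟩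
    · rw [Nat.not_even_iff_odd] at heven
      obtain ⟨t, hta, htb⟩ := zass_two_trans hZ hab hab.symm
      have httH : t * t ∈ stabilizer G a ⊓ stabilizer G b := by
        rw [Subgroup.mem_inf, mem_stabilizer_iff, mem_stabilizer_iff, mul_smul, mul_smul, hta,
          htb, hta]
        exact ⟨rfl, rfl⟩
      obtain ⟨k, hkdef⟩ : ∃ k, k = orderOf (t * t) := ⟨_, rfl⟩
      have hkd : k ∣ Nat.card ↥(stabilizer G a ⊓ stabilizer G b) := by
        have := orderOf_dvd_natCard (⟨t * t, httH⟩ : ↥(stabilizer G a ⊓ stabilizer G b))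
        rw [← Subgroup.orderOf_coe] at this
        rw [hkdef]
        exact this
      have hkodd : Odd k := Odd.of_dvd_nat heven hkd
      obtain ⟨j, hj⟩ := hkodd
      have htt : (t * t) ^ k = 1 := by rw [hkdef]; exact pow_orderOf_eq_one _
      have hpowH : (t * t) ^ j ∈ stabilizer G a ⊓ stabilizer G b := Subgroup.pow_mem _ httH j
      have hdecomp : t ^ k = (t * t) ^ j * t := by
        rw [hj, ← pow_two, ← pow_mul, pow_succ]
      have hsa : t ^ k • a = b := by
        rw [hdecomp, mul_smul, hta]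
        exact mem_stabilizer_iff.mp (Subgroup.mem_inf.mp hpowH).2
      have hsb : t ^ k • b = a := by
        rw [hdecomp, mul_smul, htb]
        exact mem_stabilizer_iff.mp (Subgroup.mem_inf.mp hpowH).1
      refine ⟨t ^ k, ?_, hsa, hsb⟩
      apply orderOf_eq_prime
      · rw [← pow_mul, mul_comm, pow_mul, pow_two]
        exact htt
      · intro h1
        rw [h1, one_smul] at hsa
        exact hab hsa
  · intro hNeven heven
    obtain ⟨τ, hτo, hτa, -⟩ := hτ heven
    obtain ⟨s, hsJ, hsa, hsb⟩ := exists_swap hZ hab {x : G | orderOf x = 2 ∧ ∃ c : Ω, x • c = c}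
      (fun x hx => hx.1) (fun x hx g => by
        obtain ⟨hx2, c, hc⟩ := hx
        refine ⟨?_, g • c, ?_⟩
        · rw [← MulAut.conj_apply, (MulAut.conj g).orderOf_eq x]
          exact hx2
        · rw [mul_smul, mul_smul, inv_smul_smul, hc]) ⟨τ, hτo, a, hτa⟩
    obtain ⟨hs2, c, hc⟩ := hsJ
    refine ⟨s, hs2, hsa, hsb, ?_⟩
    rcases (hpart2 s hs2).2 hNeven with h | h
    · exfalso
      have : Nonempty (fixedBy Ω s) := ⟨⟨c, mem_fixedBy.mpr hc⟩⟩
      have hpos : 0 < Nat.card (fixedBy Ω s) := Nat.card_pos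
      omega
    · exact h

end Cfsg.Agent.S0740
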