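import Cfsg.Statements.S0339
import Mathlib
import Cfsg.Agent.Lib.Helper96.Zassenhaus

set_option autoImplicit false
open Cfsg

namespace Cfsg.Agent.S0339

open Cfsg.Agent.Helper96 MulAction

/-- A non-trivial normal subgroup of a Zassenhaus group is itself a Zassenhaus group on the same set. -/
theorem result {G Ω : Type*} [Group G] [MulAction G Ω] [Finite Ω]
    (hZ : Cfsg.IsZassenhausGroup G Ω) (N : Subgroup G) [N.Normal] (hN : N ≠ ⊥) :
    Cfsg.IsZassenhausGroup N Ω := by
  classical
  have := Fintype.ofFinite Ω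
  have hsm : ∀ (n : N) (ω : Ω), n • ω = (n : G) • ω := fun _ _ => rfl
  refine ⟨?_, ?_, ?_, ?_, ?_⟩
  · constructor
    intro n₁ n₂ h
    apply Subtype.ext
    apply hZ.1.eq_of_smul_eq_smul
    intro ω
    exact h ω
  · rw [MulAction.is_two_pretransitive_iff]
    intro a b c d hab hcd
    obtain ⟨n, hn, h1, h2⟩ := zass_normal_two_trans hZ N hN hab hcd
    exact ⟨⟨n, hn⟩, h1, h2⟩
  · intro n a b c hab hbc hac ha hb hc
    apply Subtype.ext
    exact hZ.2.2.1 (n : G) a b c hab hbc hac ha hb hc
  · obtain ⟨n, hn, hn1, a, b, hab, hna, hnb⟩ := zass_normal_fix_two hZ N hN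
    exact ⟨⟨n, hn⟩, fun h => hn1 (congrArg Subtype.val h), a, b, hab, hna, hnb⟩
  · intro M hMn hMt
    by_contra hno
    push Not at hno
    apply zass_normal_no_regular hZ N hN M hMn
    · intro a b
      obtain ⟨m, hm⟩ := hMt.exists_smul_eq a b
      exact ⟨(m : N), m.2, hm⟩
    · intro m hm a hma
      have h1 : (⟨m, hm⟩ : M) ∈ stabilizer M a := by
        rw [mem_stabilizer_iff]
        exact hma
      rw [hno a, Subgroup.mem_bot] at h1
      exact congrArg Subtype.val h1

end Cfsg.Agent.S0339
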