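import Cfsg.Statements.S0071
import Cfsg.Agent.Lib.Helper2.Frobenius

set_option autoImplicit false
open Cfsg

namespace Cfsg.Agent.S0071

open Cfsg.Agent.Helper2

/-- The Frobenius normal p-complement Theorem states that a Sylow p-subgroup has a normal complement exactly when, for each of its subgroups Q, every element of the normalizer of Q of order prime to p centralizes Q. -/
theorem result {G : Type*} [Group G] [Finite G] {p : ℕ} [Fact p.Prime] (P : Sylow p G) : (∃ N : Subgroup G, N.Normal ∧ N.IsComplement' (P : Subgroup G)) ↔ ∀ Q : Subgroup G, Q ≤ (P : Subgroup G) → ∀ g ∈ Subgroup.normalizer (Q : Set G), Nat.Coprime (orderOf g) p → g ∈ Subgroup.centralizer (Q : Set G) := by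
  constructor
  · rintro ⟨N, hNn, hNc⟩ Q hQP g hg hgo
    have hgN : g ∈ N := (mem_normalPComplement_iff P N hNc g).mpr hgo
    have hdisj : N ⊓ (P : Subgroup G) = ⊥ := disjoint_iff.mp hNc.disjoint
    rw [Subgroup.mem_centralizer_iff]
    intro x hx
    have h1 : g * x * g⁻¹ * x⁻¹ ∈ N := by
      have : g * x * g⁻¹ * x⁻¹ = g * (x * g⁻¹ * x⁻¹) := by group
      rw [this]
      exact N.mul_mem hgN (hNn.conj_mem _ (N.inv_mem hgN) x)
    have h2 : g * x * g⁻¹ * x⁻¹ ∈ (P : Subgroup G) := by
      apply hQP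
      exact Q.mul_mem ((Subgroup.mem_normalizer_iff.mp hg x).mp hx) (Q.inv_mem hx)
    have h3 : g * x * g⁻¹ * x⁻¹ ∈ N ⊓ (P : Subgroup G) := Subgroup.mem_inf.mpr ⟨h1, h2⟩
    rw [hdisj, Subgroup.mem_bot] at h3
    calc x * g = (g * x * g⁻¹ * x⁻¹) * (x * g) := by rw [h3, one_mul]
      _ = g * x := by group
  · intro h
    exact (hasNormalPComplement_iff P).mp (frobenius p (frobCond_of_sylow P h))
end Cfsg.Agent.S0071
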