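import Cfsg.Statements.S0106
import Mathlib
import Cfsg.Agent.S0071
import Cfsg.Agent.Lib.Helper55.QuatCentralizer
import Cfsg.Agent.Lib.Helper53.OddAut
import Cfsg.Agent.Lib.Helper53.SL23Section
-- import your own Cfsg.Agent.* helpers here

set_option autoImplicit false
open Cfsg

namespace Cfsg.Agent.S0106

open Cfsg.Agent.Helper53

/-- The unique involution of a generalized quaternion group. -/
theorem quat_invol_unique {m : ℕ} [NeZero m] (x : QuaternionGroup m) (hx : orderOf x = 2) :
    x = QuaternionGroup.a m := by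
  rcases x with i | i
  · have h1 : (QuaternionGroup.a i : QuaternionGroup m) ^ 2 = 1 := by
      rw [← hx]; exact pow_orderOf_eq_one _
    rw [pow_two, QuaternionGroup.a_mul_a, QuaternionGroup.one_def] at h1
    have h2 : i + i = 0 := by injection h1
    have h3 : 2 * i = 0 := (two_mul i).trans h2
    rcases Cfsg.Agent.Helper55.QuatCent.zmod_two_mul_eq_zero i h3 with rfl | rfl
    · exfalso
      rw [QuaternionGroup.a_zero, orderOf_one] at hx
      omega
    · rfl
  · exfalso
    rw [QuaternionGroup.orderOf_xa] at hx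
    omega

/-- A subgroup of a generalized quaternion `2`-group has at most one involution. -/
theorem invol_unique_of_le {G : Type*} [Group G] (T Q : Subgroup G) (hQT : Q ≤ T) (m : ℕ)
    [NeZero m] (e : T ≃* QuaternionGroup m) (x y : Q) (hx : orderOf x = 2) (hy : orderOf y = 2) :
    x = y := by
  let φ : Q →* QuaternionGroup m := e.toMonoidHom.comp (Subgroup.inclusion hQT)
  have hφ : Function.Injective φ := e.injective.comp (Subgroup.inclusion_injective hQT)
  apply hφ
  rw [quat_invol_unique (φ x) (by rw [orderOf_injective φ hφ]; exact hx),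
    quat_invol_unique (φ y) (by rw [orderOf_injective φ hφ]; exact hy)]

/-- A finite group with generalized quaternion Sylow 2-subgroups either has a normal 2-complement or has a section isomorphic to SL(2,3). -/
theorem result {G : Type*} [Group G] [Finite G] (T : Sylow 2 G) (n : ℕ) (hn : 1 ≤ n) (hT : Nonempty ((T : Subgroup G) ≃* QuaternionGroup (2 ^ n))) : Cfsg.HasNormalPComplement 2 G ∨ ∃ (H K : Subgroup G) (hK : (K.subgroupOf H).Normal), Nonempty ((H ⧸ K.subgroupOf H) ≃* Matrix.SpecialLinearGroup (Fin 2) (ZMod 3)) := by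
  have : Fact (Nat.Prime 2) := ⟨Nat.prime_two⟩
  obtain ⟨eT⟩ := hT
  by_cases hA : Cfsg.HasNormalPComplement 2 G
  · exact Or.inl hA
  right
  have h1 : ¬ ∃ N : Subgroup G, N.Normal ∧ N.IsComplement' (T : Subgroup G) :=
    fun ⟨N, hN, hc⟩ => hA ⟨T, N, hN, hc⟩
  rw [Cfsg.Agent.S0071.result T] at h1
  push Not at h1
  obtain ⟨Q, hQT, g, hg, hcop, hgc⟩ := h1
  have hodd : Odd (orderOf g) := (Nat.coprime_two_right).mp hcop
  have hnc : ¬ ∀ q ∈ Q, g * q * g⁻¹ = q := by
    intro h
    apply hgc
    rw [Subgroup.mem_centralizer_iff]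
    intro q hq
    have := h q hq
    calc q * g = (g * q * g⁻¹) * g := by rw [this]
      _ = g * q := by group
  have hQ2 : IsPGroup 2 Q := T.isPGroup'.to_le hQT
  have : NeZero (2 ^ n) := ⟨by positivity⟩
  have hU : ∀ x y : Q, orderOf x = 2 → orderOf y = 2 → x = y :=
    fun x y hx hy => invol_unique_of_le (T : Subgroup G) Q hQT (2 ^ n) eT x y hx hy
  rcases isCyclic_or_quaternion_of_unique_invol hQ2 hU with hc | ⟨k, hk1, ⟨e⟩⟩
  · exfalso
    exact hnc (conj_eq_of_isPGroup_mulAut Q g hg hodd (isPGroup_mulAut_of_isCyclic hQ2 hc))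
  · rcases Nat.lt_or_ge k 2 with hk | hk
    · obtain rfl : k = 1 := by omega
      have e' : Q ≃* QuaternionGroup 2 := e
      obtain ⟨i, j, y, h4, hsq, hconj, hy1, hy2, hyodd, hne⟩ :=
        exists_q8_relations Q e' g hg hodd hnc
      exact exists_SL23_section_of_relations i j y h4 hsq hconj hy1 hy2 hyodd hne
    · exfalso
      exact hnc (conj_eq_of_isPGroup_mulAut Q g hg hodd (isPGroup_mulAut_of_quaternion k hk e))

end Cfsg.Agent.S0106
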