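import Cfsg.Statements.S1303
import Cfsg.Agent.Lib.Helper70.Fitting

set_option autoImplicit false
open Cfsg

namespace Cfsg.Agent.S1303

/-- the group `SL(2,3)` -/
abbrev SL23 := Matrix.SpecialLinearGroup (Fin 2) (ZMod 3)

theorem d0 : ∀ g : SL23, g ^ 24 = 1 := by decide +kernel

theorem d1 : ∀ g : SL23, g ≠ 1 → g ^ 3 = 1 → ∃ h : SL23, (h * g * h⁻¹ * g⁻¹) ^ 3 ≠ 1 := by
  decide +kernel

theorem d2 : ∀ g : SL23, (∀ q : SL23, q ^ 4 = 1 → q * g = g * q) → g ^ 4 = 1 := by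
  decide +kernel

theorem d3 : ∀ a b : SL23, a ^ 4 = 1 → b ^ 4 = 1 → (a * b) ^ 4 = 1 := by decide +kernel

theorem d4 : ∀ t : SL23, t ^ 2 = 1 → t ≠ 1 → ∀ g : SL23, g * t = t * g := by decide +kernel

/-- an element of order 3 -/
def x3 : SL23 := ⟨!![1, 1; 0, 1], by decide⟩

theorem x3_pow : x3 ^ 3 = 1 := by decide +kernel

theorem x3_ne : x3 ≠ 1 := by decide +kernel

/-- the quaternion subgroup: elements of order dividing 4 -/
def Q8 : Subgroup SL23 where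
  carrier := {g | g ^ 4 = 1}
  mul_mem' := fun ha hb => d3 _ _ ha hb
  one_mem' := one_pow 4
  inv_mem' := fun {a} ha => by
    change (a⁻¹) ^ 4 = 1
    rw [inv_pow, show a ^ 4 = 1 from ha, inv_one]

theorem mem_Q8 {g : SL23} : g ∈ Q8 ↔ g ^ 4 = 1 := Iff.rfl

instance Q8_normal : Q8.Normal := by
  refine ⟨fun n hn g => ?_⟩
  rw [mem_Q8] at hn ⊢
  rw [conj_pow, hn, mul_one, mul_inv_cancel]

theorem Q8_isPGroup : IsPGroup 2 Q8 := by
  intro g
  refine ⟨2, ?_⟩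
  apply Subtype.ext
  have := g.2
  rw [mem_Q8] at this
  simpa using this

theorem pPrimeCore_eq_bot : Cfsg.pPrimeCore 2 SL23 = ⊥ := by
  unfold Cfsg.pPrimeCore
  rw [sSup_eq_bot]
  rintro N ⟨hNn, hNc⟩
  have pow3 : ∀ y ∈ N, y ^ 3 = 1 := by
    intro y hy
    have h1 : orderOf y ∣ Nat.card N := Subgroup.orderOf_dvd_natCard N hy
    have h2 : orderOf y ∣ 3 * 8 := orderOf_dvd_of_pow_eq_one (d0 y)
    have h3 : (orderOf y).Coprime 8 := by
      have : (Nat.card N).Coprime (2 ^ 3) := Nat.Coprime.pow_right 3 hNc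
      exact Nat.Coprime.coprime_dvd_left h1 this
    have h4 : orderOf y ∣ 3 := Nat.Coprime.dvd_of_dvd_mul_right h3 h2
    exact orderOf_dvd_iff_pow_eq_one.mp h4
  rw [Subgroup.eq_bot_iff_forall]
  intro x hx
  by_contra hne
  obtain ⟨h, hh⟩ := d1 x hne (pow3 x hx)
  apply hh
  apply pow3
  exact N.mul_mem (hNn.conj_mem x hx h) (N.inv_mem hx)

theorem Q8_le : Q8 ≤ Cfsg.pPrimePCore 2 SL23 := by
  unfold Cfsg.pPrimePCore
  rw [← Subgroup.map_le_iff_le_comap]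
  unfold Cfsg.pCore
  apply le_sSup
  refine ⟨?_, ?_⟩
  · exact Subgroup.Normal.map Q8_normal _ (QuotientGroup.mk'_surjective _)
  · exact Q8_isPGroup.map _

theorem isPConstrained : Cfsg.IsPConstrained 2 SL23 := by
  intro P
  have hsub : (Q8.subgroupOf (Cfsg.pPrimePCore 2 SL23)) ≤ (P : Subgroup ↥(Cfsg.pPrimePCore 2 SL23)) := by
    haveI : (Q8.subgroupOf (Cfsg.pPrimePCore 2 SL23)).Normal := Q8_normal.subgroupOf _
    exact Cfsg.Agent.Helper70.le_sylow_of_normal_isPGroup _ (Q8_isPGroup.comap_subtype) P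
  have hQle : Q8 ≤ (P : Subgroup ↥(Cfsg.pPrimePCore 2 SL23)).map (Cfsg.pPrimePCore 2 SL23).subtype := by
    intro q hq
    exact ⟨⟨q, Q8_le hq⟩, hsub (Subgroup.mem_subgroupOf.mpr hq), rfl⟩
  intro x hx
  have hx' := Subgroup.centralizer_le (show (Q8 : Set SL23) ⊆ _ from hQle) hx
  apply Q8_le
  rw [mem_Q8]
  apply d2
  intro q hq
  exact Subgroup.mem_centralizer_iff.mp hx' q hq

/-- SL(2,3) is 2-constrained with trivial 2'-core, every involution is central, and a subgroup of order 3 is not contained in the 2'-core. -/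
theorem result : Cfsg.IsPConstrained 2 (Matrix.SpecialLinearGroup (Fin 2) (ZMod 3)) ∧ Cfsg.pPrimeCore 2 (Matrix.SpecialLinearGroup (Fin 2) (ZMod 3)) = ⊥ ∧ (∀ t : Matrix.SpecialLinearGroup (Fin 2) (ZMod 3), orderOf t = 2 → t ∈ Subgroup.center (Matrix.SpecialLinearGroup (Fin 2) (ZMod 3))) ∧ ∃ Q : Subgroup (Matrix.SpecialLinearGroup (Fin 2) (ZMod 3)), Nat.card ↥Q = 3 ∧ ¬ (Q ≤ Cfsg.pPrimeCore 2 (Matrix.SpecialLinearGroup (Fin 2) (ZMod 3))) := by
  refine ⟨isPConstrained, pPrimeCore_eq_bot, ?_, ?_⟩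
  · intro t ht
    rw [Subgroup.mem_center_iff]
    have h1 : t ^ 2 = 1 := by
      have := pow_orderOf_eq_one t
      rwa [ht] at this
    have h2 : t ≠ 1 := by
      intro h
      rw [h, orderOf_one] at ht
      omega
    exact d4 t h1 h2
  · refine ⟨Subgroup.zpowers x3, ?_, ?_⟩
    · rw [Nat.card_zpowers]
      haveI : Fact (Nat.Prime 3) := ⟨by norm_num⟩
      exact orderOf_eq_prime x3_pow x3_ne
    · rw [pPrimeCore_eq_bot, le_bot_iff, Subgroup.zpowers_eq_bot]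
      exact x3_ne

end Cfsg.Agent.S1303
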