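import Mathlib
import Cfsg.Statements.S4072
import Cfsg.Agent.Lib.Helper67.MinNonAbelian
import Cfsg.Agent.Lib.Helper67.BaerSuzuki

set_option autoImplicit false
open Cfsg

namespace Cfsg.Agent.S4072

open Subgroup
open scoped commutatorElement

/-- homomorphisms from a perfect group to a commutative group are trivial -/
theorem hom_trivial_of_perfect {G C : Type*} [Group G] [Group C] (hperf : commutator G = ⊤)
    (f : G →* C) (hC : ∀ a b : C, a * b = b * a) (g : G) : f g = 1 := by
  have h1 : commutator G ≤ f.ker := by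
    rw [commutator_eq_closure, Subgroup.closure_le]
    rintro x ⟨a, b, rfl⟩
    rw [SetLike.mem_coe, MonoidHom.mem_ker, map_commutatorElement,
      commutatorElement_eq_one_iff_mul_comm]
    exact hC _ _
  have : g ∈ f.ker := h1 (hperf ▸ Subgroup.mem_top g)
  exact this

/-- Burnside: a nontrivial Sylow subgroup with `N(P) ≤ C(P)` gives a nontrivial abelian quotient. -/
theorem not_perfect_of_burnside {G : Type*} [Group G] [Finite G] {p : ℕ} [Fact p.Prime]
    (P : Sylow p G) (hP : normalizer (P : Set G) ≤ centralizer (P : Set G))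
    (hne : (P : Subgroup G) ≠ ⊥) : commutator G ≠ ⊤ := by
  intro hperf
  have hcomm : ∀ a b : P, a * b = b * a := fun a b =>
    Subtype.ext (hP (le_normalizer b.2) a a.2)
  have h1 : (MonoidHom.transferSylow P hP).ker = ⊤ := by
    rw [eq_top_iff]
    intro g _
    exact hom_trivial_of_perfect hperf (MonoidHom.transferSylow P hP) hcomm g
  have h2 := MonoidHom.ker_transferSylow_isComplement' P hP
  rw [h1] at h2
  have h3 := h2.card_mul_card
  rw [Subgroup.card_top] at h3
  have h4 : Nat.card (P : Subgroup G) = 1 := by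
    have hpos : 0 < Nat.card G := Nat.card_pos
    exact Nat.eq_of_mul_eq_mul_left hpos (by rw [h3, mul_one])
  exact hne (Subgroup.card_eq_one.1 h4)

theorem perfect_quotient {G : Type*} [Group G] (hperf : commutator G = ⊤) (N : Subgroup G)
    [N.Normal] : commutator (G ⧸ N) = ⊤ := by
  rw [eq_top_iff, ← Subgroup.map_top_of_surjective _ (QuotientGroup.mk'_surjective N), ← hperf,
    _root_.commutator_def, Subgroup.map_commutator, _root_.commutator_def]
  exact Subgroup.commutator_mono le_top le_top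

theorem comm_mem_commutator {P : Type*} [Group P] (x y : P) :
    (x * y)⁻¹ * (y * x) ∈ commutator P := by
  have : (x * y)⁻¹ * (y * x) = ⁅y⁻¹, x⁻¹⁆ := by
    simp [commutatorElement_def, mul_assoc]
  rw [this, _root_.commutator_def]
  exact Subgroup.commutator_mem_commutator (Subgroup.mem_top _) (Subgroup.mem_top _)

/-- the hypothesis: non-abelian subgroups are self-normalizing -/
def SN (G : Type*) [Group G] : Prop :=
  ∀ H : Subgroup G, ¬ IsMulCommutative H → Subgroup.normalizer (H : Set G) = H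

theorem SN.comm_of_normal {G : Type*} [Group G] (hS : SN G) (N : Subgroup G) (hN : N.Normal)
    (hne : N ≠ ⊤) : IsMulCommutative N := by
  by_contra hc
  have h1 := hS N hc
  rw [Subgroup.normalizer_eq_top] at h1
  exact hne h1.symm

theorem solvable_of_commutator_comm {G : Type*} [Group G]
    (h : IsMulCommutative (commutator G)) : Group.IsSolvable G := by
  rw [Group.isSolvable_def]
  refine ⟨2, ?_⟩
  show ⁅derivedSeries G 1, derivedSeries G 1⁆ = ⊥
  have h1 : derivedSeries G 1 = commutator G := rfl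
  rw [h1, Subgroup.commutator_eq_bot_iff_le_centralizer]
  intro a ha
  rw [Subgroup.mem_centralizer_iff]
  intro b hb
  exact congrArg Subtype.val (h.is_comm.comm ⟨b, hb⟩ ⟨a, ha⟩)

theorem setup {G : Type*} [Group G] [Finite G] (hS : SN G) (hns : ¬ Group.IsSolvable G)
    (hnsimple : ¬ IsSimpleGroup G) :
    ∃ A : Subgroup G, A.Normal ∧ A ≠ ⊥ ∧ A ≠ ⊤ ∧ IsMulCommutative A ∧
      (∀ N : Subgroup G, N.Normal → A ≤ N → N = A ∨ N = ⊤) ∧ commutator G = ⊤ := by
  classical
  have hnt : Nontrivial G := by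
    by_contra hcon
    rw [not_nontrivial_iff_subsingleton] at hcon
    exact hns inferInstance
  obtain ⟨N₀, hN₀n, hN₀b, hN₀t⟩ : ∃ N₀ : Subgroup G, N₀.Normal ∧ N₀ ≠ ⊥ ∧ N₀ ≠ ⊤ := by
    by_contra hcon
    push Not at hcon
    apply hnsimple
    exact ⟨fun H hH => by
      by_cases hb : H = ⊥
      · exact Or.inl hb
      · exact Or.inr (hcon H hH hb)⟩
  obtain ⟨A, ⟨hAn, hAt, hN₀A⟩, hAmax⟩ := Set.exists_max_image
    {N : Subgroup G | N.Normal ∧ N ≠ ⊤ ∧ N₀ ≤ N} (fun N => Nat.card N) (Set.toFinite _)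
    ⟨N₀, hN₀n, hN₀t, le_rfl⟩
  have hAb : A ≠ ⊥ := by
    rintro rfl
    exact hN₀b (le_bot_iff.1 hN₀A)
  have hperf : commutator G = ⊤ := by
    by_contra hne
    have h1 : (commutator G).Normal := inferInstance
    exact hns (solvable_of_commutator_comm (hS.comm_of_normal _ h1 hne))
  refine ⟨A, hAn, hAb, hAt, hS.comm_of_normal A hAn hAt, ?_, hperf⟩
  intro N hNn hAN
  by_cases hNt : N = ⊤
  · exact Or.inr hNt
  · left
    have h1 := hAmax N ⟨hNn, hNt, hN₀A.trans hAN⟩
    exact (Subgroup.eq_of_le_of_card_ge hAN h1).symm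

/-- conjugation by an element commuting with `x` fixes `zpowers x` pointwise -/
theorem conj_mem_zpowers_iff {G : Type*} [Group G] {x g : G} (h : g * x = x * g) (m : G) :
    m ∈ zpowers x ↔ g * m * g⁻¹ ∈ zpowers x := by
  have hk : ∀ k : ℤ, g * x ^ k * g⁻¹ = x ^ k := by
    intro k
    have : Commute g (x ^ k) := (Commute.zpow_right h k)
    rw [this.eq, mul_inv_cancel_right]
  constructor
  · intro hm
    obtain ⟨k, rfl⟩ := mem_zpowers_iff.1 hm
    rw [hk]
    exact zpow_mem_zpowers x k
  · intro hm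
    obtain ⟨k, hk'⟩ := mem_zpowers_iff.1 hm
    have : m = x ^ k := by
      have h1 : m = g⁻¹ * (g * m * g⁻¹) * g := by group
      rw [h1, ← hk']
      exact (Commute.zpow_right h k).inv_mul_cancel
    rw [this]
    exact zpow_mem_zpowers x k

/-- Case `C_G(A) = A`. -/
theorem case_self_centralizing {G : Type*} [Group G] [Finite G] (hS : SN G)
    (A : Subgroup G) [hAn : A.Normal] (hAt : A ≠ ⊤) (hperf : commutator G = ⊤)
    (hCA : centralizer (A : Set G) = A) : False := by
  classical
  -- a prime dividing the order of G ⧸ A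
  have hnt : Nat.card (G ⧸ A) ≠ 1 := by
    intro h1
    rw [← Subgroup.index_eq_card, Subgroup.index_eq_one] at h1
    exact hAt h1
  obtain ⟨r, hr, hrd⟩ := Nat.exists_prime_and_dvd hnt
  have : Fact r.Prime := ⟨hr⟩
  obtain ⟨R⟩ : Nonempty (Sylow r (G ⧸ A)) := inferInstance
  have hRne : (R : Subgroup (G ⧸ A)) ≠ ⊥ := by
    intro hb
    have h1 := R.card_eq_multiplicity
    rw [hb, Subgroup.card_bot] at h1
    have h2 : (Nat.card (G ⧸ A)).factorization r = 0 := by
      by_contra h0
      have : 1 < r ^ (Nat.card (G ⧸ A)).factorization r := Nat.one_lt_pow h0 hr.one_lt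
      omega
    rcases (Nat.factorization_eq_zero_iff _ _).1 h2 with h | h | h
    · exact h hr
    · exact h hrd
    · exact Nat.card_pos.ne' h
  -- an element of order r in the centre of R
  have hRnt : Nontrivial R := by
    rw [← Subgroup.nontrivial_iff_ne_bot] at hRne
    exact hRne
  have hcnt : Nontrivial (center R) := IsPGroup.center_nontrivial R.2
  have hcd : r ∣ Nat.card (center R) := by
    obtain ⟨k, hk⟩ := IsPGroup.iff_card.1 (R.2.to_subgroup (center R))
    rw [hk]
    apply dvd_pow_self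
    rintro rfl
    rw [pow_zero] at hk
    have := (Nat.card_eq_one_iff_unique.1 hk).1
    exact not_subsingleton (center R) this
  obtain ⟨xc, hxc⟩ := exists_prime_orderOf_dvd_card' (G := center R) r hcd
  set xb : G ⧸ A := ((xc : R) : G ⧸ A) with hxb
  have hxbR : xb ∈ (R : Subgroup (G ⧸ A)) := (xc : R).2
  have hxb_ord : orderOf xb = r := by
    rw [hxb, Subgroup.orderOf_coe, Subgroup.orderOf_coe]; exact hxc
  have hxb_comm : ∀ g ∈ (R : Subgroup (G ⧸ A)), g * xb = xb * g := by
    intro g hg
    have := Subgroup.mem_center_iff.1 xc.2 ⟨g, hg⟩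
    exact congrArg Subtype.val this
  obtain ⟨x, hx⟩ := QuotientGroup.mk_surjective xb
  set H := (zpowers xb).comap (QuotientGroup.mk' A) with hH
  have hxH : x ∈ H := by
    show QuotientGroup.mk' A x ∈ zpowers xb
    rw [QuotientGroup.mk'_apply, hx]
    exact mem_zpowers xb
  have hAH : A ≤ H := by
    intro a ha
    show QuotientGroup.mk' A a ∈ zpowers xb
    rw [QuotientGroup.mk'_apply, (QuotientGroup.eq_one_iff a).2 ha]
    exact one_mem _
  have hxA : x ∉ A := by
    intro hxA
    have : xb = 1 := by rw [← hx]; exact (QuotientGroup.eq_one_iff x).2 hxA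
    rw [this, orderOf_one] at hxb_ord
    exact hr.one_lt.ne hxb_ord
  have hHnc : ¬ IsMulCommutative H := by
    intro hc
    apply hxA
    rw [← hCA, Subgroup.mem_centralizer_iff]
    intro a ha
    exact congrArg Subtype.val (hc.is_comm.comm ⟨a, hAH ha⟩ ⟨x, hxH⟩)
  have hNH := hS H hHnc
  -- elements of G ⧸ A commuting with xb lie in zpowers xb
  have hkey : ∀ gb : G ⧸ A, gb * xb = xb * gb → gb ∈ zpowers xb := by
    intro gb hgb
    obtain ⟨g, rfl⟩ := QuotientGroup.mk_surjective gb
    have hgN : g ∈ normalizer (H : Set G) := by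
      rw [mem_normalizer_iff]
      intro h
      show QuotientGroup.mk' A h ∈ zpowers xb ↔ QuotientGroup.mk' A (g * h * g⁻¹) ∈ zpowers xb
      rw [map_mul, map_mul, map_inv]
      exact conj_mem_zpowers_iff hgb _
    rw [hNH] at hgN
    exact hgN
  have hRle : (R : Subgroup (G ⧸ A)) ≤ zpowers xb := fun g hg => hkey g (hxb_comm g hg)
  have hReq : (R : Subgroup (G ⧸ A)) = zpowers xb :=
    le_antisymm hRle (by rw [zpowers_le]; exact hxbR)
  have hNC : normalizer ((R : Subgroup (G ⧸ A)) : Set (G ⧸ A)) ≤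
      centralizer ((R : Subgroup (G ⧸ A)) : Set (G ⧸ A)) := by
    intro gb hgb
    -- gb normalizes zpowers xb, so its lift normalizes H
    obtain ⟨g, rfl⟩ := QuotientGroup.mk_surjective gb
    have hgN : g ∈ normalizer (H : Set G) := by
      rw [mem_normalizer_iff]
      intro h
      show QuotientGroup.mk' A h ∈ zpowers xb ↔ QuotientGroup.mk' A (g * h * g⁻¹) ∈ zpowers xb
      rw [map_mul, map_mul, map_inv, ← hReq]
      exact mem_normalizer_iff.1 hgb _
    rw [hNH] at hgN
    have hgz : (QuotientGroup.mk g : G ⧸ A) ∈ zpowers xb := hgN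
    rw [mem_centralizer_iff]
    intro m hm
    rw [SetLike.mem_coe, hReq] at hm
    obtain ⟨i, rfl⟩ := mem_zpowers_iff.1 hm
    obtain ⟨j, hj⟩ := mem_zpowers_iff.1 hgz
    rw [← hj, ← zpow_add, ← zpow_add, add_comm]
  -- Burnside gives a nontrivial abelian quotient of G ⧸ A, hence of G
  have h1 := not_perfect_of_burnside R hNC hRne
  exact h1 (perfect_quotient hperf A)

/-- Case `A ≤ Z(G)`. -/
theorem case_central {G : Type*} [Group G] [Finite G] (hS : SN G)
    (A : Subgroup G) (hAb : A ≠ ⊥) (hperf : commutator G = ⊤)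
    (hAZ : A ≤ center G) : False := by
  classical
  have hcardA : Nat.card A ≠ 1 := fun h => hAb (Subgroup.card_eq_one.1 h)
  obtain ⟨p, hp, hpd⟩ := Nat.exists_prime_and_dvd hcardA
  have : Fact p.Prime := ⟨hp⟩
  obtain ⟨za, hza⟩ := exists_prime_orderOf_dvd_card' (G := A) p hpd
  set z : G := (za : G) with hz
  have hzA : z ∈ A := za.2
  have hzord : orderOf z = p := by rw [hz, Subgroup.orderOf_coe]; exact hza
  have hzZ : z ∈ center G := hAZ hzA
  have hz1 : z ≠ 1 := by
    intro h
    rw [h, orderOf_one] at hzord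
    exact hp.one_lt.ne hzord
  have hzp : IsPGroup p (zpowers z) := by
    apply IsPGroup.of_card (n := 1)
    rw [Nat.card_zpowers, hzord, pow_one]
  obtain ⟨P, hzP'⟩ := hzp.exists_le_sylow
  have hzP : z ∈ (P : Subgroup G) := hzP' (mem_zpowers z)
  -- the transfer into P / P'
  let ϕ : (P : Subgroup G) →* Abelianization (P : Subgroup G) := Abelianization.of
  have hkey : ∀ (k : ℕ) (g₀ : G), g₀⁻¹ * z ^ k * g₀ ∈ (P : Subgroup G) →
      g₀⁻¹ * z ^ k * g₀ = z ^ k := by
    intro k g₀ _
    have hzk : z ^ k ∈ center G := Subgroup.pow_mem _ hzZ k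
    rw [mul_assoc, ← Subgroup.mem_center_iff.1 hzk g₀, inv_mul_cancel_left]
  have htr := MonoidHom.transfer_eq_pow ϕ z hkey
  have hV1 : MonoidHom.transfer ϕ z = 1 :=
    hom_trivial_of_perfect hperf _ (fun a b => mul_comm a b) z
  rw [hV1] at htr
  have hmem : (⟨z ^ (P : Subgroup G).index, MonoidHom.transfer_eq_pow_aux z hkey⟩ :
      (P : Subgroup G)) ∈ commutator (P : Subgroup G) := by
    rw [← Abelianization.ker_of, MonoidHom.mem_ker]
    exact htr.symm
  set zP : (P : Subgroup G) := ⟨z, hzP⟩ with hzPdef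
  have hzPmem : zP ∈ commutator (P : Subgroup G) := by
    have hcop : Nat.Coprime (P : Subgroup G).index p :=
      ((Nat.Prime.coprime_iff_not_dvd hp).2 P.not_dvd_index).symm
    obtain ⟨k, -, hk⟩ := Nat.exists_mul_mod_eq_one_of_coprime hcop hp.one_lt
    have h1 : zP = (⟨z ^ (P : Subgroup G).index, MonoidHom.transfer_eq_pow_aux z hkey⟩ :
        (P : Subgroup G)) ^ k := by
      apply Subtype.ext
      rw [Subgroup.coe_pow]
      show z = (z ^ (P : Subgroup G).index) ^ k
      rw [← pow_mul, ← pow_mod_orderOf, hzord, hk, pow_one]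
    rw [h1]
    exact Subgroup.pow_mem _ hmem k
  have hzP1 : zP ≠ 1 := fun h => hz1 (congrArg Subtype.val h)
  have hPnc : ¬ IsMulCommutative (P : Subgroup G) := by
    intro hc
    have h1 : commutator (P : Subgroup G) = ⊥ := by
      rw [eq_bot_iff, commutator_eq_closure, Subgroup.closure_le]
      rintro x ⟨a, b, rfl⟩
      rw [SetLike.mem_coe, Subgroup.mem_bot, commutatorElement_eq_one_iff_mul_comm]
      exact hc.is_comm.comm a b
    rw [h1, Subgroup.mem_bot] at hzPmem
    exact hzP1 hzPmem
  have hNP := hS (P : Subgroup G) hPnc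
  have hmin : ∀ H : Subgroup (P : Subgroup G), H ≠ ⊤ → IsMulCommutative H := by
    intro H hH
    by_contra hc
    have hH'nc : ¬ IsMulCommutative (H.map (P : Subgroup G).subtype) := by
      intro hc'
      apply hc
      refine ⟨⟨fun a b => ?_⟩⟩
      have h1 := hc'.is_comm.comm ⟨a.1.1, ⟨a.1, a.2, rfl⟩⟩ ⟨b.1.1, ⟨b.1, b.2, rfl⟩⟩
      apply Subtype.ext
      apply Subtype.ext
      have h2 := congrArg Subtype.val h1
      exact h2
    have hlt : H.map (P : Subgroup G).subtype < (P : Subgroup G) := by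
      refine lt_of_le_of_ne (map_subtype_le H) ?_
      intro heq
      apply hH
      rw [eq_top_iff]
      intro a _
      have h1 : (a : G) ∈ H.map (P : Subgroup G).subtype := by rw [heq]; exact a.2
      obtain ⟨b, hb, hba⟩ := h1
      have h2 : b = a := Subtype.ext hba
      rwa [← h2]
    obtain ⟨e, -, heH, heN⟩ := Cfsg.Agent.Helper67.exists_mem_normalizer_not_mem P.2 hlt
    rw [hS _ hH'nc] at heN
    exact heH heN
  obtain ⟨c, hcord, -, hcle⟩ :=
    Cfsg.Agent.Helper67.exists_commutator_le_zpowers P.2 hPnc hmin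
  have hle : commutator (P : Subgroup G) ≤ zpowers zP := by
    have h1 : zP ∈ zpowers c := hcle hzPmem
    have h2 : zpowers zP = zpowers c := by
      apply Subgroup.eq_of_le_of_card_ge (by rwa [zpowers_le])
      rw [Nat.card_zpowers, Nat.card_zpowers, hcord, hzPdef, Subgroup.orderOf_mk, hzord]
    rw [h2]
    exact hcle
  -- the quotient by ⟨z⟩
  have hZn : (zpowers z).Normal := by
    constructor
    intro n hn g
    obtain ⟨k, rfl⟩ := mem_zpowers_iff.1 hn
    have h1 : z ^ k ∈ center G := Subgroup.zpow_mem _ hzZ k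
    have h2 : g * z ^ k * g⁻¹ = z ^ k := by
      rw [Subgroup.mem_center_iff.1 h1 g, mul_inv_cancel_right]
    rw [h2]
    exact zpow_mem_zpowers z k
  set f := QuotientGroup.mk' (zpowers z) with hf
  have hfs : Function.Surjective f := QuotientGroup.mk'_surjective _
  set Pb : Sylow p (G ⧸ zpowers z) := P.mapSurjective hfs with hPb
  have hPbcoe : (Pb : Subgroup (G ⧸ zpowers z)) = (P : Subgroup G).map f :=
    Sylow.coe_mapSurjective hfs P
  have hmemPb : ∀ g : G, f g ∈ (Pb : Subgroup (G ⧸ zpowers z)) ↔ g ∈ (P : Subgroup G) := by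
    intro g
    rw [hPbcoe]
    constructor
    · rintro ⟨h, hh, hhg⟩
      have h1 : h⁻¹ * g ∈ zpowers z := by
        rw [← QuotientGroup.eq_one_iff, ← QuotientGroup.mk'_apply, ← hf, map_mul, map_inv, hhg,
          inv_mul_cancel]
      have h2 := (P : Subgroup G).mul_mem hh (hzP' h1)
      rwa [mul_inv_cancel_left] at h2
    · intro hg
      exact ⟨g, hg, rfl⟩
  have hPbne : (Pb : Subgroup (G ⧸ zpowers z)) ≠ ⊥ := by
    intro hb
    apply hPnc
    refine ⟨⟨fun a b => ?_⟩⟩
    have ha : (a : G) ∈ zpowers z := by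
      have h1 : f a ∈ (Pb : Subgroup (G ⧸ zpowers z)) := (hmemPb a).2 a.2
      rw [hb, Subgroup.mem_bot] at h1
      exact (QuotientGroup.eq_one_iff _).1 h1
    have haZ : (a : G) ∈ center G := (zpowers_le.2 hzZ) ha
    apply Subtype.ext
    exact (Subgroup.mem_center_iff.1 haZ b).symm
  have hPbcomm : ∀ a ∈ (Pb : Subgroup (G ⧸ zpowers z)), ∀ b ∈ (Pb : Subgroup (G ⧸ zpowers z)),
      a * b = b * a := by
    intro a ha b hb
    rw [hPbcoe] at ha hb
    obtain ⟨a, ha, rfl⟩ := ha
    obtain ⟨b, hb, rfl⟩ := hb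
    rw [← map_mul, ← map_mul, hf, QuotientGroup.mk'_apply, QuotientGroup.mk'_apply,
      QuotientGroup.eq]
    have h1 := hle (comm_mem_commutator (⟨a, ha⟩ : (P : Subgroup G)) ⟨b, hb⟩)
    obtain ⟨k, hk⟩ := mem_zpowers_iff.1 h1
    have h2 : z ^ k = (a * b)⁻¹ * (b * a) := by
      have := congrArg Subtype.val hk
      simpa using this
    rw [← h2]
    exact zpow_mem_zpowers z k
  have hNC : normalizer ((Pb : Subgroup (G ⧸ zpowers z)) : Set (G ⧸ zpowers z)) ≤
      centralizer ((Pb : Subgroup (G ⧸ zpowers z)) : Set (G ⧸ zpowers z)) := by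
    intro gb hgb
    obtain ⟨g, rfl⟩ := hfs gb
    have hgN : g ∈ normalizer ((P : Subgroup G) : Set G) := by
      rw [mem_normalizer_iff]
      intro h
      rw [← hmemPb, ← hmemPb (g * h * g⁻¹), map_mul, map_mul, map_inv]
      exact mem_normalizer_iff.1 hgb _
    rw [hNP] at hgN
    have h1 : f g ∈ (Pb : Subgroup (G ⧸ zpowers z)) := (hmemPb g).2 hgN
    rw [mem_centralizer_iff]
    intro m hm
    exact hPbcomm m hm (f g) h1
  exact not_perfect_of_burnside Pb hNC hPbne (perfect_quotient hperf _)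

/-- A finite group in which every non-abelian subgroup is self-normalizing is solvable or simple. -/
theorem result {G : Type*} [Group G] [Finite G] (hS : ∀ H : Subgroup G, ¬ IsMulCommutative H → Subgroup.normalizer (H : Set G) = H) :
    Group.IsSolvable G ∨ IsSimpleGroup G := by
  by_contra hcon
  push Not at hcon
  obtain ⟨hns, hnsimple⟩ := hcon
  obtain ⟨A, hAn, hAb, hAt, hAc, hAmax, hperf⟩ := setup hS hns hnsimple
  have hAC : A ≤ centralizer (A : Set G) := by
    intro a ha
    rw [mem_centralizer_iff]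
    intro b hb
    exact congrArg Subtype.val (hAc.is_comm.comm ⟨b, hb⟩ ⟨a, ha⟩)
  have hCn : (centralizer (A : Set G)).Normal := inferInstance
  rcases hAmax _ hCn hAC with h | h
  · exact case_self_centralizing hS A hAt hperf h
  · apply case_central hS A hAb hperf
    intro a ha
    rw [Subgroup.mem_center_iff]
    intro g
    have := h ▸ Subgroup.mem_top g
    exact mem_centralizer_iff.1 this a ha |>.symm

end Cfsg.Agent.S4072
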