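import Cfsg.Statements.S0728
import Cfsg.Agent.Lib.Helper19.Sharp3

set_option autoImplicit false
open Cfsg

namespace Cfsg.Agent.S0728

/-- In a sharply triply transitive group of even degree at least 6 (degree `q + 1`, `q` odd), a two-point stabiliser has at most one subgroup of order 3. -/
theorem result {α : Type*} [Fintype α] [DecidableEq α] (heven : Even (Fintype.card α)) (h6 : 6 ≤ Fintype.card α) (G : Subgroup (Equiv.Perm α)) (h3 : MulAction.IsMultiplyPretransitive G α 3) (hsharp : ∀ x : Fin 3 ↪ α, MulAction.stabilizer G x = ⊥) {a b : α} (hab : a ≠ b) (A B : Subgroup G) (hA : A ≤ MulAction.stabilizer G a ⊓ MulAction.stabilizer G b) (hB : B ≤ MulAction.stabilizer G a ⊓ MulAction.stabilizer G b) (hA3 : Nat.card A = 3) (hB3 : Nat.card B = 3) : A = B := by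
  classical
  -- a third point
  have hc : ∃ c : α, a ≠ c ∧ b ≠ c := by
    by_contra hcon
    push Not at hcon
    have hsub : (Finset.univ : Finset α) ⊆ {a, b} := by
      intro c _
      by_cases h : a = c
      · simp [h]
      · simp [(hcon c h).symm]
    have h1 := Finset.card_le_card hsub
    have h2 : ({a, b} : Finset α).card ≤ 2 := Finset.card_le_two
    rw [Finset.card_univ] at h1
    omega
  obtain ⟨c, hac, hbc⟩ := hc
  -- elements of A, B have order dividing 3 and fix a, b
  have hpowA : ∀ x ∈ A, x ^ 3 = 1 := by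
    intro x hx
    have h := pow_card_eq_one' (G := A) (x := ⟨x, hx⟩)
    rw [hA3] at h
    exact congrArg Subtype.val h
  have hpowB : ∀ x ∈ B, x ^ 3 = 1 := by
    intro x hx
    have h := pow_card_eq_one' (G := B) (x := ⟨x, hx⟩)
    rw [hB3] at h
    exact congrArg Subtype.val h
  have hfixA : ∀ x ∈ A, x • a = a ∧ x • b = b := by
    intro x hx
    have := hA hx
    rw [Subgroup.mem_inf, MulAction.mem_stabilizer_iff, MulAction.mem_stabilizer_iff] at this
    exact this
  have hfixB : ∀ x ∈ B, x • a = a ∧ x • b = b := by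
    intro x hx
    have := hB hx
    rw [Subgroup.mem_inf, MulAction.mem_stabilizer_iff, MulAction.mem_stabilizer_iff] at this
    exact this
  -- a nontrivial element of A
  have : Finite A := Nat.finite_of_card_ne_zero (by rw [hA3]; norm_num)
  have : Finite B := Nat.finite_of_card_ne_zero (by rw [hB3]; norm_num)
  have hAnt : ∃ x ∈ A, x ≠ 1 := by
    by_contra hcon
    push Not at hcon
    have : A = ⊥ := (Subgroup.eq_bot_iff_forall A).mpr hcon
    rw [this, Subgroup.card_bot] at hA3
    omega
  obtain ⟨x, hxA, hx1⟩ := hAnt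
  have hBA : B ≤ A := by
    intro y hyB
    by_cases hy1 : y = 1
    · rw [hy1]; exact A.one_mem
    · rcases Cfsg.Agent.Helper19.Sharp3.eq_or_eq_inv G h3 hsharp hab hac hbc (hpowA x hxA)
        (hpowB y hyB) (hfixA x hxA).1 (hfixA x hxA).2 (hfixB y hyB).1 (hfixB y hyB).2 hx1 hy1
        with h | h
      · rw [h]; exact hxA
      · rw [h]; exact A.inv_mem hxA
  exact (Subgroup.eq_of_le_of_card_ge hBA (by rw [hA3, hB3])).symm

end Cfsg.Agent.S0728
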