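import Cfsg.Statements.S0729
import Mathlib
import Cfsg.Agent.Lib.Helper12.Sharp3Idx
-- import your own Cfsg.Agent.* helpers here

set_option autoImplicit false
open Cfsg

namespace Cfsg.Agent.S0729

/-- In a sharply triply transitive group of even degree at least 6, the two-point stabiliser `H = G_{a,b}` has a normal subgroup of index 2 that is normalised by the element `s` interchanging `a, b` and fixing a third point `c`. -/
theorem result {α : Type*} [Fintype α] [DecidableEq α] (heven : Even (Fintype.card α)) (h6 : 6 ≤ Fintype.card α) (G : Subgroup (Equiv.Perm α)) (h3 : MulAction.IsMultiplyPretransitive G α 3) (hsharp : ∀ x : Fin 3 ↪ α, MulAction.stabilizer G x = ⊥) {a b c : α} (hab : a ≠ b) (hac : a ≠ c) (hbc : b ≠ c) (s : G) (hsa : s • a = b) (hsb : s • b = a) (hsc : s • c = c) : ∃ N : Subgroup G, N ≤ MulAction.stabilizer G a ⊓ MulAction.stabilizer G b ∧ (N.subgroupOf (MulAction.stabilizer G a ⊓ MulAction.stabilizer G b)).Normal ∧ N.relIndex (MulAction.stabilizer G a ⊓ MulAction.stabilizer G b) = 2 ∧ ∀ n ∈ N,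 s * n * s⁻¹ ∈ N := by
  classical
  set H : Subgroup G := MulAction.stabilizer G a ⊓ MulAction.stabilizer G b with hH
  have hmemH : ∀ g : G, g ∈ H ↔ g • a = a ∧ g • b = b := by
    intro g
    simp only [hH, Subgroup.mem_inf, MulAction.mem_stabilizer_iff]
  -- `s` is an involution
  have hss : s * s = 1 := by
    apply Cfsg.Agent.Helper19.Sharp3.eq_one_of_fix3 G hsharp hab hac hbc
    · rw [mul_smul, hsa, hsb]
    · rw [mul_smul, hsb, hsa]
    · rw [mul_smul, hsc, hsc]
  have hsinv : s⁻¹ = s := inv_eq_of_mul_eq_one_right hss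
  have hconjH : ∀ x ∈ H, s * x * s⁻¹ ∈ H := by
    intro x hx
    rw [hmemH] at hx ⊢
    rw [hsinv]
    constructor
    · rw [mul_smul, mul_smul, hsa, hx.2, hsb]
    · rw [mul_smul, mul_smul, hsb, hx.1, hsa]
  -- conjugation by `s` as an automorphism of `H`
  let σ : H ≃* H :=
    { toFun := fun x => ⟨s * x * s⁻¹, hconjH x x.2⟩
      invFun := fun x => ⟨s * x * s⁻¹, hconjH x x.2⟩
      left_inv := by
        intro x
        apply Subtype.ext
        change s * (s * (x : G) * s⁻¹) * s⁻¹ = x
        rw [hsinv]
        calc s * (s * (x : G) * s) * s = (s * s) * (x : G) * (s * s) := by group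
          _ = x := by rw [hss, one_mul, mul_one]
      right_inv := by
        intro x
        apply Subtype.ext
        change s * (s * (x : G) * s⁻¹) * s⁻¹ = x
        rw [hsinv]
        calc s * (s * (x : G) * s) * s = (s * s) * (x : G) * (s * s) := by group
          _ = x := by rw [hss, one_mul, mul_one]
      map_mul' := by
        intro x y
        apply Subtype.ext
        change s * ((x : G) * (y : G)) * s⁻¹ = s * (x : G) * s⁻¹ * (s * (y : G) * s⁻¹)
        group }
  have hσ : ∀ x : H, ((σ x : H) : G) = s * (x : G) * s⁻¹ := fun _ => rfl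
  have hσσ : ∀ x, σ (σ x) = x := by
    intro x
    apply Subtype.ext
    rw [hσ, hσ, hsinv]
    calc s * (s * (x : G) * s) * s = (s * s) * (x : G) * (s * s) := by group
      _ = x := by rw [hss, one_mul, mul_one]
  obtain ⟨M, hM⟩ := Cfsg.Agent.Helper12.Sharp3Idx.exists_index_two G heven h6 h3 hsharp hab
  obtain ⟨M', hM', hinv⟩ := Cfsg.Agent.Helper12.IndexTwo.exists_invariant σ hσσ M hM
  have hsub : (M'.map H.subtype).subgroupOf H = M' := by
    rw [Subgroup.subgroupOf]
    exact Subgroup.comap_map_eq_self_of_injective H.subtype_injective M'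
  refine ⟨M'.map H.subtype, Subgroup.map_subtype_le _, ?_, ?_, ?_⟩
  · rw [hsub]
    exact Subgroup.normal_of_index_eq_two hM'
  · rw [Subgroup.relIndex, hsub]
    exact hM'
  · rintro _ ⟨x, hx, rfl⟩
    exact ⟨σ x, hinv x hx, rfl⟩

end Cfsg.Agent.S0729
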