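import Cfsg.Statements.S0742
import Cfsg.Agent.S0741
import Cfsg.Agent.Lib.Helper19.ZassPSL

set_option autoImplicit false
open Cfsg

namespace Cfsg.Agent.S0742

/-- A finite Zassenhaus group of degree `n + 1` with two-point stabilisers of even order `d` satisfying `2d ≤ n - 1` has `n = p^f` for an odd prime `p` and is isomorphic to `PSL(2, p^f)`. -/
theorem result {G Ω : Type*} [Group G] [Finite G] [MulAction G Ω] [Fintype Ω] (hZ : Cfsg.IsZassenhausGroup G Ω) {a b : Ω} (hab : a ≠ b) (heven : Even (Nat.card ↥(MulAction.stabilizer G a ⊓ MulAction.stabilizer G b))) (hd : 2 * Nat.card ↥(MulAction.stabilizer G a ⊓ MulAction.stabilizer G b) ≤ Fintype.card Ω - 2) : ∃ (p f : ℕ) (K : Type) (_ : Field K) (_ : Fintype K), p.Prime ∧ p ≠ 2 ∧ Fintype.card K = p ^ f ∧ Fintype.card Ω = p ^ f + 1 ∧ Nonempty (G ≃* Matrix.ProjectiveSpecialLinearGroup (Fin 2) K) := by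
  classical
  have h1 := Cfsg.Agent.S0741.result hZ hab heven
  have heq : Fintype.card Ω - 2 =
      2 * Nat.card ↥(MulAction.stabilizer G a ⊓ MulAction.stabilizer G b) := le_antisymm h1 hd
  obtain ⟨H, hHa, hHcard, hHfix⟩ := Cfsg.Agent.Helper19.ZassD.exists_kernel hZ a
  obtain ⟨E, iF, iT, hcardE, hiso⟩ :=
    Cfsg.Agent.Helper19.ZassPSL.nonempty_mulEquiv_psl hZ hab hHa hHcard hHfix heven heq
  have hn3 := Cfsg.Agent.S0878.card_ge_three hZ
  obtain ⟨n, hp, hn⟩ := FiniteField.card E (ringChar E)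
  refine ⟨ringChar E, (n : ℕ), E, iF, iT, hp, ?_, hn, ?_, hiso⟩
  · intro h2
    rw [h2] at hn
    have hn0 : (n : ℕ) ≠ 0 := n.ne_zero
    have : 2 ∣ 2 ^ (n : ℕ) := dvd_pow_self 2 hn0
    omega
  · rw [← hn]
    omega

end Cfsg.Agent.S0742
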