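import Cfsg.Statements.S0727
import Cfsg.Agent.Lib.Helper19.Zass2Final

set_option autoImplicit false
open Cfsg

namespace Cfsg.Agent.S0727

/-- A sharply triply transitive permutation group of degree `2^f + 1` is isomorphic to the projective general linear group of degree 2 over the field with `2^f` elements. -/
theorem result {α : Type*} [Fintype α] [DecidableEq α] {f : ℕ} (hf : 1 ≤ f) (hα : Fintype.card α = 2 ^ f + 1) (G : Subgroup (Equiv.Perm α)) (h3 : MulAction.IsMultiplyPretransitive G α 3) (hsharp : ∀ x : Fin 3 ↪ α, MulAction.stabilizer G x = ⊥) : ∃ (F : Type) (_ : Field F) (_ : Fintype F), Fintype.card F = 2 ^ f ∧ Nonempty (G ≃* Matrix.ProjGenLinGroup (Fin 2) F) := by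
  have hodd : Odd (Fintype.card α) := by
    rw [hα]
    refine ⟨2 ^ (f - 1), ?_⟩
    obtain ⟨k, rfl⟩ : ∃ k, f = k + 1 := ⟨f - 1, by omega⟩
    rw [Nat.add_sub_cancel, pow_succ]
    ring
  have hcard : 3 ≤ Fintype.card α := by
    rw [hα]
    have : 2 ^ 1 ≤ 2 ^ f := Nat.pow_le_pow_right (by norm_num) hf
    omega
  obtain ⟨a, ha1, hcard2, F, hF, hFin, hFcard, hpgl, _⟩ :=
    Cfsg.Agent.Helper19.Zass2.zassenhaus_char_two G h3 hsharp hodd hcard
  have haf : a = f := by
    rw [hα] at hcard2
    have : 2 ^ f = 2 ^ a := by omega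
    exact (Nat.pow_right_injective (le_refl 2) this).symm
  subst haf
  exact ⟨F, hF, hFin, hFcard, hpgl⟩

end Cfsg.Agent.S0727
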