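import Cfsg.Statements.S0730
import Mathlib
import Cfsg.Agent.Lib.Helper12.Sharp3Odd
import Cfsg.Agent.Lib.Helper19.Zass2Final
-- import your own Cfsg.Agent.* helpers here

set_option autoImplicit false
open Cfsg

namespace Cfsg.Agent.S0730

/-- A sharply triply transitive group of degree `p^f + 1`, `p` an odd prime and `f` odd, is isomorphic to the projective general linear group of degree 2 over the field with `p^f` elements (for even `f` there is a second, twisted, group). -/
theorem result {α : Type*} [Fintype α] [DecidableEq α] {p f : ℕ} (hp : p.Prime) (hp2 : p ≠ 2) (hfo : Odd f) (hα : Fintype.card α = p ^ f + 1) (G : Subgroup (Equiv.Perm α)) (h3 : MulAction.IsMultiplyPretransitive G α 3) (hsharp : ∀ x : Fin 3 ↪ α, MulAction.stabilizer G x = ⊥) : ∃ (F : Type) (_ : Field F) (_ : Fintype F), Fintype.card F = p ^ f ∧ Nonempty (G ≃* Matrix.ProjGenLinGroup (Fin 2) F) := by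
  classical
  obtain ⟨F, hF, hFin, hcardF, ⟨e⟩⟩ :=
    Cfsg.Agent.Helper12.Sharp3Odd.exists_field_mulEquiv_odd G hp hp2 hfo hα h3 hsharp
  haveI : Fact p.Prime := ⟨hp⟩
  have hf0 : f ≠ 0 := by
    have := hfo.pos
    omega
  let F₀ := GaloisField p f
  haveI : Fintype F₀ := Fintype.ofFinite _
  have hF₀ : Fintype.card F₀ = p ^ f := by
    rw [← Nat.card_eq_fintype_card]
    exact GaloisField.card p f hf0
  have hcF : Fintype.card F = p ^ f := by omega
  have r : F ≃+* F₀ := FiniteField.ringEquivOfCardEq (by rw [hcF, hF₀])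
  exact ⟨F₀, inferInstance, inferInstance, hF₀, ⟨e.trans (Cfsg.Agent.Helper19.Zass2.pglCongr r)⟩⟩

end Cfsg.Agent.S0730
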