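import Cfsg.Statements.S0939
import Cfsg.Agent.Lib.Helper16.QuotBlock
import Cfsg.Agent.Lib.Helper77.BlockIdem
import Cfsg.Agent.Lib.Helper49.PPrimeCore
import Cfsg.Agent.Lib.Helper78.CharCount

set_option autoImplicit false
open Cfsg

namespace Cfsg.Agent.S0939

open Cfsg.Agent.Helper77 Cfsg.Agent.Helper78
open scoped ComplexConjugate

/-- a rational `S / p ^ k` in the local ring at `M` has `p ^ k ∣ S` -/
theorem pow_dvd_of_memLocalRing_div {p : ℕ} {M : Ideal AlgInt} (hM : IsPModular p M) (S : ℕ) :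
    ∀ k : ℕ, MemLocalRing M ((S : ℂ) / ((p : ℂ) ^ k)) → p ^ k ∣ S := by
  have hp0 : (p : ℂ) ≠ 0 := by exact_mod_cast hM.1.ne_zero
  have := isPrime_of_isPModular hM
  intro k
  induction k with
  | zero => intro _; simp
  | succ k ih =>
    intro h
    have hpI : MemLocalIdeal M (p : ℂ) := (memLocalIdeal_natCast_iff hM p).2 dvd_rfl
    have h1 : MemLocalIdeal M ((S : ℂ) / (p : ℂ) ^ k) := by
      have e : (S : ℂ) / (p : ℂ) ^ k = (p : ℂ) * ((S : ℂ) / (p : ℂ) ^ (k + 1)) := by
        field_simp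
        ring
      rw [e]
      exact memLocalIdeal_mul_right hpI h
    obtain ⟨S', hS'⟩ := ih (memLocalRing_of_memLocalIdeal h1)
    have h2 : (S : ℂ) / (p : ℂ) ^ k = (S' : ℂ) := by
      rw [hS']; push_cast; field_simp
    rw [h2] at h1
    obtain ⟨S'', hS''⟩ := (memLocalIdeal_natCast_iff hM S').1 h1
    exact ⟨S'', by rw [hS', hS'']; ring⟩

/-- a finite `p`-group has a single `p`-block -/
theorem mem_block_of_pgroup {Q : Type*} [Group Q] [Fintype Q] {p : ℕ} {M : Ideal AlgInt}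
    (hM : IsPModular p M) (k : ℕ) (hQ : Nat.card Q = p ^ k) {B : Set (IrrCharacter Q)}
    (hB : IsPBlock M B) (χ : IrrCharacter Q) : χ ∈ B := by
  classical
  have := isPrime_of_isPModular hM
  have hp0 : (p : ℂ) ≠ 0 := by exact_mod_cast hM.1.ne_zero
  set Bf := (Set.toFinite B).toFinset with hBf
  have hmem : ∀ ψ, ψ ∈ Bf ↔ ψ ∈ B := fun ψ => Set.Finite.mem_toFinset _
  -- the block coefficient at `1`
  have h1 := memLocalRing_blockCoeff hB (1 : Q)
  rw [blockCoeff_eq_sum] at h1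
  have h2 : (Nat.card Q : ℂ)⁻¹ * ∑ ψ ∈ Bf, (ψ : Q → ℂ) 1 * conj ((ψ : Q → ℂ) 1) =
      ((∑ ψ ∈ Bf, (charDegree (ψ : Q → ℂ)) ^ 2 : ℕ) : ℂ) / (p : ℂ) ^ k := by
    rw [hQ]
    push_cast
    rw [div_eq_inv_mul]
    congr 1
    apply Finset.sum_congr rfl
    intro ψ _
    rw [(irr_charDegree ψ.2).1, Complex.conj_natCast]
    ring
  rw [h2] at h1
  have hdvd := pow_dvd_of_memLocalRing_div hM _ k h1
  -- total sum of squares
  have htot : ∑ ψ : IrrCharacter Q, (charDegree (ψ : Q → ℂ)) ^ 2 = p ^ k := by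
    have h := sum_irr_one_mul (1 : Q)
    rw [if_pos rfl, hQ] at h
    have h3 : ((∑ ψ : IrrCharacter Q, (charDegree (ψ : Q → ℂ)) ^ 2 : ℕ) : ℂ) = ((p ^ k : ℕ) : ℂ) := by
      rw [← h]
      push_cast
      apply Finset.sum_congr rfl
      intro ψ _
      rw [(irr_charDegree ψ.2).1]
      ring
    exact_mod_cast h3
  -- the block sum is positive
  obtain ⟨χ0, hχ0⟩ := nonempty_of_isPBlock hB
  have hpos : 0 < ∑ ψ ∈ Bf, (charDegree (ψ : Q → ℂ)) ^ 2 := by
    apply Finset.sum_pos'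
    · intro ψ _; exact Nat.zero_le _
    · exact ⟨χ0, (hmem χ0).2 hχ0, Nat.pow_pos (irr_charDegree χ0.2).2⟩
  have hge : p ^ k ≤ ∑ ψ ∈ Bf, (charDegree (ψ : Q → ℂ)) ^ 2 := Nat.le_of_dvd hpos hdvd
  by_contra hχ
  have hχ' : χ ∉ Bf := fun h => hχ ((hmem χ).1 h)
  have hlt : ∑ ψ ∈ Bf, (charDegree (ψ : Q → ℂ)) ^ 2 <
      ∑ ψ : IrrCharacter Q, (charDegree (ψ : Q → ℂ)) ^ 2 := by
    apply Finset.sum_lt_sum_of_subset (Finset.subset_univ _) (Finset.mem_univ χ) hχ'
    · exact Nat.pow_pos (irr_charDegree χ.2).2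
    · intro ψ _ _; exact Nat.zero_le _
  omega

/-- same block in a quotient implies same block of the inflations -/
theorem sameBlock_comp_mk {G : Type*} [Group G] [Finite G] {M : Ideal AlgInt} [M.IsPrime]
    (N : Subgroup G) [N.Normal] {φ φ' : G ⧸ N → ℂ} (h : SameBlock M φ φ') :
    SameBlock M (φ ∘ (QuotientGroup.mk : G → G ⧸ N)) (φ' ∘ (QuotientGroup.mk : G → G ⧸ N)) := by
  intro g
  have hle : Subgroup.centralizer ({g} : Set G) ≤
      (Subgroup.centralizer ({(QuotientGroup.mk g : G ⧸ N)} : Set (G ⧸ N))).comap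
        (QuotientGroup.mk' N) := by
    intro x hx
    rw [Subgroup.mem_comap, Subgroup.mem_centralizer_iff]
    intro y hy
    rw [Set.mem_singleton_iff] at hy
    subst hy
    have h1 := Subgroup.mem_centralizer_iff.1 hx g rfl
    show (QuotientGroup.mk g : G ⧸ N) * QuotientGroup.mk x = QuotientGroup.mk x * QuotientGroup.mk g
    rw [← QuotientGroup.mk_mul, h1, QuotientGroup.mk_mul]
  have hidx : (Subgroup.centralizer ({g} : Set G)).index =
      (Subgroup.centralizer ({g} : Set G)).relIndex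
        ((Subgroup.centralizer ({(QuotientGroup.mk g : G ⧸ N)} : Set (G ⧸ N))).comap
          (QuotientGroup.mk' N)) *
      (Subgroup.centralizer ({(QuotientGroup.mk g : G ⧸ N)} : Set (G ⧸ N))).index := by
    rw [← Subgroup.index_comap_of_surjective _ (QuotientGroup.mk'_surjective N)]
    exact (Subgroup.relIndex_mul_index hle).symm
  have h2 := h (QuotientGroup.mk g)
  unfold centralChar at h2 ⊢
  simp only [Function.comp_apply, QuotientGroup.mk_one]
  rw [hidx]
  push_cast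
  have e : ∀ (m c a b a' b' : ℂ), m * c * a / b - m * c * a' / b' =
      m * (c * a / b - c * a' / b') := by
    intro m c a b a' b'
    ring
  rw [e]
  exact memLocalIdeal_mul_left (memLocalRing_natCast _) h2

/-- Let G be a finite group with a normal p-complement (the largest normal subgroup O_p'(G) of order prime to p has p-power index). Then, relative to any maximal ideal M of the algebraic integers containing p, the principal block of G is the set of irreducible characters χ with χ n = χ 1 for every n ∈ O_p'(G). -/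
theorem result {G : Type*} [Group G] [Finite G] (p : ℕ) [Fact p.Prime] (M : Ideal Cfsg.AlgInt) (hM : Cfsg.IsPModular p M) (hnc : ∃ k : ℕ, (Cfsg.pPrimeCore p G).index = p ^ k) : Cfsg.principalBlock M G = {χ : Cfsg.IrrCharacter G | ∀ n ∈ Cfsg.pPrimeCore p G, (χ : G → ℂ) n = (χ : G → ℂ) 1} := by
  classical
  have := Fintype.ofFinite G
  have hprime := isPrime_of_isPModular hM
  have hNn : (Cfsg.pPrimeCore p G).Normal := Cfsg.Agent.Helper49.pPrimeCore_normal' p
  have hpN : ¬ p ∣ Nat.card (Cfsg.pPrimeCore p G) := by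
    have h := Cfsg.Agent.Helper49.pPrimeCore_card_coprime (G := G) p
    intro hd
    have h1 := Nat.Coprime.eq_one_of_dvd h.symm hd
    exact (Fact.out : p.Prime).one_lt.ne' h1
  have : Fintype (Cfsg.pPrimeCore p G) := Fintype.ofFinite _
  have : Fintype (G ⧸ Cfsg.pPrimeCore p G) := Fintype.ofFinite _
  obtain ⟨k, hk⟩ := hnc
  have hQ : Nat.card (G ⧸ Cfsg.pPrimeCore p G) = p ^ k := by
    rw [← hk]
    rfl
  ext χ
  simp only [Set.mem_ofPred_eq]
  constructor
  · intro hχ n hn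
    have h1 : SameBlock M ((trivIrr G : IrrCharacter G) : G → ℂ) (χ : G → ℂ) := hχ
    exact Cfsg.Agent.Helper16.ker_of_sameBlock_of_pprime (Cfsg.pPrimeCore p G) hM hpN (trivIrr G) χ h1
      (fun n => rfl) ⟨n, hn⟩
  · intro hχ
    have hle : Cfsg.pPrimeCore p G ≤ Cfsg.Agent.Helper79.irrKer χ := fun n hn => hχ n hn
    obtain ⟨ψ, hψ⟩ := Cfsg.Agent.Helper79.exists_deflate (Cfsg.pPrimeCore p G) χ hle
    have hB := isPBlock_principalBlock (G := G ⧸ Cfsg.pPrimeCore p G) M
    have h1 := mem_block_of_pgroup hM k hQ hB ψ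
    have h2 : SameBlock M (fun _ : G ⧸ Cfsg.pPrimeCore p G => (1 : ℂ))
        (ψ : G ⧸ Cfsg.pPrimeCore p G → ℂ) := h1
    have h3 := sameBlock_comp_mk (Cfsg.pPrimeCore p G) h2
    show SameBlock M (fun _ : G => (1 : ℂ)) (χ : G → ℂ)
    rw [← hψ]
    exact h3

end Cfsg.Agent.S0939
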