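import Mathlib
import Cfsg.Statements.S0941
import Cfsg.Agent.Lib.Helper16.Regular
import Cfsg.Agent.Lib.Helper16.QuotBlock
import Cfsg.Agent.S0939

set_option autoImplicit false
set_option linter.style.haveILetI false
open Cfsg

namespace Cfsg.Agent.S0941

open Cfsg.Agent.Helper16 Cfsg.Agent.Helper77
open scoped ComplexConjugate

set_option linter.unusedSectionVars false

variable {G : Type*} [Group G] [Fintype G]

open scoped Classical in
/-- If the trivial character of the normal subgroup `N` occurs in `θ` restricted to `N`, then `N`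
lies in the kernel of `θ`. -/
theorem const_of_triv_constituent (N : Subgroup G) [N.Normal] [Fintype N] (θ : IrrCharacter G)
    (h : classInner (fun n : N => (θ : G → ℂ) n) (trivIrr N : N → ℂ) ≠ 0) (n : N) :
    (θ : G → ℂ) n = (θ : G → ℂ) 1 := by
  apply restrict_const_of_only_triv N θ
  intro θ₁ hθ₁
  have hC : ∀ x : G, ∀ θ' ∈ ({trivIrr N} : Finset (IrrCharacter N)),
      conjIrr N x θ' ∈ ({trivIrr N} : Finset (IrrCharacter N)) := by
    intro x θ' hθ'
    rw [Finset.mem_singleton] at hθ' ⊢
    rw [hθ', conjIrr_trivIrr]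
  have h1 := omega_idemFun_of_constituent N {trivIrr N} hC θ (trivIrr N) h
  have h2 := omega_idemFun_of_constituent N {trivIrr N} hC θ θ₁ hθ₁
  rw [if_pos (Finset.mem_singleton_self _)] at h1
  rw [h1] at h2
  by_contra hne
  rw [if_neg (by rw [Finset.mem_singleton]; exact hne)] at h2
  exact one_ne_zero h2

theorem sum_eq_zero_of_not_le_ker (N : Subgroup G) [N.Normal] [Fintype N] (θ : IrrCharacter G)
    (h : ¬ ∀ n : N, (θ : G → ℂ) n = (θ : G → ℂ) 1) : ∑ n : N, (θ : G → ℂ) n = 0 := by
  by_contra hne
  apply h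
  apply const_of_triv_constituent N θ
  unfold classInner
  simp only [trivIrr_apply, map_one, mul_one]
  have hN0 : (Nat.card N : ℂ)⁻¹ ≠ 0 := by
    apply inv_ne_zero
    exact_mod_cast Nat.card_pos.ne'
  exact mul_ne_zero hN0 hne

/-- Let P be a normal p-subgroup of the finite group G such that the index of C_G(P) is a power of p, and fix a maximal ideal M of the algebraic integers containing p. Then (i) two irreducible characters of G ⧸ P lie in the same block if and only if their inflations to G do, and (ii) every block of G contains the inflation of some irreducible character of G ⧸ P; so inflation induces a bijection between the blocks of G ⧸ P and the blocks of G. -/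
theorem result {G : Type*} [Group G] [Finite G] (p : ℕ) [Fact p.Prime] (M : Ideal Cfsg.AlgInt) (hM : Cfsg.IsPModular p M) (P : Subgroup G) [P.Normal] (hP : IsPGroup p P) (hC : ∃ k : ℕ, (Subgroup.centralizer (P : Set G)).index = p ^ k) : (∀ χ ψ : Cfsg.IrrCharacter (G ⧸ P), Cfsg.SameBlock M (χ : G ⧸ P → ℂ) (ψ : G ⧸ P → ℂ) ↔ Cfsg.SameBlock M ((χ : G ⧸ P → ℂ) ∘ QuotientGroup.mk) ((ψ : G ⧸ P → ℂ) ∘ QuotientGroup.mk)) ∧ ∀ B : Set (Cfsg.IrrCharacter G), Cfsg.IsPBlock M B → ∃ χ : Cfsg.IrrCharacter (G ⧸ P), ∃ θ ∈ B, (θ : G → ℂ) = (χ : G ⧸ P → ℂ) ∘ QuotientGroup.mk := by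
  classical
  have hpr := isPrime_of_isPModular hM
  have hne := ne_top_of_isPModular hM
  have hp : p.Prime := Fact.out
  haveI : Fintype G := Fintype.ofFinite G
  haveI : Fintype (G ⧸ P) := Fintype.ofFinite _
  haveI : Fintype P := Fintype.ofFinite _
  refine ⟨fun χ ψ => ⟨fun h => Cfsg.Agent.S0939.sameBlock_comp_mk P h, fun h => ?_⟩, ?_⟩
  · -- same block upstairs implies same block downstairs
    apply sameBlock_of_regular hM χ ψ
    intro q hq
    obtain ⟨x, rfl, hx⟩ := exists_regular_lift P hP q hq
    have hxC : x ∈ Subgroup.centralizer (P : Set G) :=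
      mem_of_regular_of_pIndex (Subgroup.centralizer (P : Set G)) hC x hx
    have hidx := index_centralizer_mk_eq P hP x hxC hx
    have hx' := h x
    unfold centralChar at hx' ⊢
    simp only [Function.comp_apply, QuotientGroup.mk_one] at hx'
    rw [hidx]
    exact hx'
  · intro B hB
    by_contra hcon
    push Not at hcon
    have hker : ∀ θ ∈ B, ¬ ∀ n : P, (θ : G → ℂ) n = (θ : G → ℂ) 1 := by
      intro θ hθ hall
      have hle : P ≤ Cfsg.Agent.Helper79.irrKer θ := by
        intro n hn
        rw [Cfsg.Agent.Helper79.mem_irrKer]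
        exact hall ⟨n, hn⟩
      obtain ⟨ψ, hψ⟩ := Cfsg.Agent.Helper79.exists_deflate P θ hle
      apply hcon ψ θ hθ
      rw [← hψ]
      rfl
    -- the sum of the block idempotent over `P` vanishes
    have hsum0 : ∑ u : P, blockCoeff B (u : G) = 0 := by
      simp_rw [blockCoeff_eq_sum]
      rw [← Finset.mul_sum, Finset.sum_comm]
      have : ∀ θ ∈ (Set.toFinite B).toFinset,
          ∑ u : P, (θ : G → ℂ) 1 * conj ((θ : G → ℂ) (u : G)) = 0 := by
        intro θ hθ
        rw [← Finset.mul_sum, ← map_sum,
          sum_eq_zero_of_not_le_ker P θ (hker θ ((Set.Finite.mem_toFinset _).mp hθ)), map_zero,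
          mul_zero]
      rw [Finset.sum_eq_zero this, mul_zero]
    -- but it equals the coefficient at `1`
    have hsum1 : ∑ u : P, blockCoeff B (u : G) = blockCoeff B 1 := by
      rw [Finset.sum_eq_single (1 : P)]
      · rfl
      · intro u _ hu
        apply blockCoeff_eq_zero_of_singular hM hB
        obtain ⟨k, hk⟩ := hP u
        have hk' : (u : G) ^ p ^ k = 1 := by
          have := congrArg Subtype.val hk
          simpa using this
        obtain ⟨j, -, hj⟩ := (Nat.dvd_prime_pow hp).mp (orderOf_dvd_of_pow_eq_one hk')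
        rw [hj]
        have hj0 : j ≠ 0 := by
          rintro rfl
          rw [pow_zero, orderOf_eq_one_iff] at hj
          exact hu (Subtype.ext hj)
        exact dvd_pow_self p hj0
      · intro h; exact absurd (Finset.mem_univ _) h
    have hne1 : blockCoeff B 1 ≠ 0 := by
      rw [blockCoeff_eq_sum]
      apply mul_ne_zero
      · apply inv_ne_zero
        exact_mod_cast Nat.card_pos.ne'
      · obtain ⟨θ₀, hθ₀⟩ := Cfsg.Agent.Helper77.nonempty_of_isPBlock hB
        have hre : (∑ θ ∈ (Set.toFinite B).toFinset, (θ : G → ℂ) 1 * conj ((θ : G → ℂ) 1))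
            = ((∑ θ ∈ (Set.toFinite B).toFinset, Complex.normSq ((θ : G → ℂ) 1) : ℝ) : ℂ) := by
          rw [Complex.ofReal_sum]
          refine Finset.sum_congr rfl fun θ _ => ?_
          rw [Complex.mul_conj]
        rw [hre]
        have hpos : 0 < ∑ θ ∈ (Set.toFinite B).toFinset, Complex.normSq ((θ : G → ℂ) 1) := by
          apply Finset.sum_pos'
          · intro θ _; exact Complex.normSq_nonneg _
          · refine ⟨θ₀, (Set.Finite.mem_toFinset _).mpr hθ₀, ?_⟩
            exact Complex.normSq_pos.mpr (Cfsg.Agent.Helper78.irr_apply_one_ne_zero θ₀.2)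
        exact_mod_cast hpos.ne'
    rw [hsum1] at hsum0
    exact hne1 hsum0

end Cfsg.Agent.S0941
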