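import Cfsg.Statements.S0883
import Cfsg.Agent.Lib.Helper19.ZassH
import Cfsg.Agent.Lib.Helper96.RankOneNil

set_option autoImplicit false
open Cfsg

namespace Cfsg.Agent.S0883

/-- Let G be a finite simple Zassenhaus group on Ω with h + 1 points whose two-point stabilizer E has odd order e with 2e < h - 1, and let H be the subgroup of the stabilizer of a consisting of the identity and the elements fixing no point other than a (given here as a subgroup of the stabilizer of order one less than the number of points whose non-identity elements fix only a; it is the Frobenius kernel of the stabilizer). If a non-identity element u of H is a product of two involutions of G, then u is an involution. -/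
theorem result {G Ω : Type*} [Group G] [Finite G] [MulAction G Ω] [Fintype Ω] (hZ : Cfsg.IsZassenhausGroup G Ω) {a b : Ω} (hab : a ≠ b) [IsSimpleGroup G] (h e : ℕ) (hh : Fintype.card Ω = h + 1) (he : Nat.card ↥(MulAction.stabilizer G a ⊓ MulAction.stabilizer G b : Subgroup G) = e) (hodd : Odd e) (hlt : 2 * e < h - 1) (H : Subgroup G) (hHa : H ≤ MulAction.stabilizer G a) (hHcard : Nat.card H + 1 = Fintype.card Ω) (hHfix : ∀ u ∈ H, u ≠ 1 → ∀ c : Ω, u • c = c → c = a) (u : G) (hu : u ∈ H) (hu1 : u ≠ 1) (x y : G) (hx : orderOf x = 2) (hy : orderOf y = 2) (hxy : x * y = u) : orderOf u = 2 := by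
  have hx2 : x * x = 1 := by rw [← pow_two, ← hx, pow_orderOf_eq_one]
  have hy2 : y * y = 1 := by rw [← pow_two, ← hy, pow_orderOf_eq_one]
  have hx1 : x ≠ 1 := by
    intro h; rw [h, orderOf_one] at hx; omega
  have hy1 : y ≠ 1 := by
    intro h; rw [h, orderOf_one] at hy; omega
  have hxinv : x⁻¹ = x := inv_eq_of_mul_eq_one_right hx2
  have hyinv : y⁻¹ = y := inv_eq_of_mul_eq_one_right hy2
  have huinv : u⁻¹ = y * x := by rw [← hxy, mul_inv_rev, hxinv, hyinv]
  have hS := Cfsg.Agent.S0878.result hZ a H hHa hHcard hHfix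
  have hxa : x ∈ MulAction.stabilizer G a := by
    by_contra hxa
    apply hu1
    apply hS.1 x hxa u hu
    have : x * u * x⁻¹ = u⁻¹ := by
      rw [huinv, ← hxy, hxinv]
      calc x * (x * y) * x = (x * x) * y * x := by group
        _ = y * x := by rw [hx2, one_mul]
    rw [this]; exact H.inv_mem hu
  have hya : y ∈ MulAction.stabilizer G a := by
    by_contra hya
    apply hu1
    apply hS.1 y hya u hu
    have : y * u * y⁻¹ = u⁻¹ := by
      rw [huinv, ← hxy, hyinv]
      calc y * (x * y) * y = y * x * (y * y) := by group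
        _ = y * x := by rw [hy2, mul_one]
    rw [this]; exact H.inv_mem hu
  obtain ⟨t, hSetup⟩ := Cfsg.Agent.Helper19.ZassH.setup hZ hHa hHcard hHfix hab (he ▸ hodd)
    hxa hx1 hx2
  have hnil := Cfsg.Agent.Helper19.ZassH.H_nilpotent hZ hHa hHcard hHfix hab
  have hcen := (Cfsg.Agent.Helper96.invol_central_of_nilpotent hSetup hnil).1
  have hxc := hcen x ⟨hxa, hx1, hx2⟩
  have hyc := hcen y ⟨hya, hy1, hy2⟩
  have hcomm : x * y = y * x := hxc.2 y hyc.1
  apply orderOf_eq_prime
  · rw [pow_two, ← hxy]
    calc x * y * (x * y) = x * (y * x) * y := by group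
      _ = x * (x * y) * y := by rw [hcomm]
      _ = (x * x) * (y * y) := by group
      _ = 1 := by rw [hx2, hy2, one_mul]
  · exact hu1

end Cfsg.Agent.S0883
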