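import Cfsg.Statements.S0881
import Mathlib
import Cfsg.Agent.Lib.Helper4.Zass

set_option autoImplicit false
open Cfsg

namespace Cfsg.Agent.S0881

/-- Let G be a finite simple Zassenhaus group on Ω with n points, a ≠ b points with two-point stabilizer E of odd order less than n - 2, and let H be the subgroup of the stabilizer of a consisting of the identity and the elements fixing no point other than a (given here as a subgroup of the stabilizer of order one less than the number of points whose non-identity elements fix only a; it is the Frobenius kernel of the stabilizer). Let μ be a character of degree 1 of the stabilizer of a that is identically 1 on H but not identically 1. Then the function induced from μ to G is an irreducible character of G, and it takes the value 1 at every non-identity element of H. -/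
theorem result {G Ω : Type*} [Group G] [Fintype G] [MulAction G Ω] [Fintype Ω] (hZ : Cfsg.IsZassenhausGroup G Ω) {a b : Ω} (hab : a ≠ b) [IsSimpleGroup G] (hodd : Odd (Nat.card ↥(MulAction.stabilizer G a ⊓ MulAction.stabilizer G b : Subgroup G))) (hlt : Nat.card ↥(MulAction.stabilizer G a ⊓ MulAction.stabilizer G b : Subgroup G) < Fintype.card Ω - 2) (H : Subgroup G) (hHa : H ≤ MulAction.stabilizer G a) (hHcard : Nat.card H + 1 = Fintype.card Ω) (hHfix : ∀ u ∈ H, u ≠ 1 → ∀ c : Ω, u • c = c → c = a) (μ : MulAction.stabilizer G a → ℂ) (hμ : Cfsg.IsCharacter (MulAction.stabilizer G a) μ ∧ μ 1 = 1) (hμH : ∀ u : MulAction.stabilizer G a, (u : G) ∈ H → μ u = 1) (hμne : μ ≠ fun _ => 1) : Cfsg.IsIrrCharacter G (Cfsg.indFun (MulAction.stabilizer G a) μ) ∧ ∀ u ∈ H, u ≠ 1 → Cfsg.indFun (MulAction.stabilizer G a) μ u = 1 := by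
  classical
  haveI : Fintype (MulAction.stabilizer G a) := Fintype.ofFinite _
  let ν := Cfsg.Agent.Helper15.toUnitsHom μ hμ
  have hμν : μ = fun p => ((ν p : ℂˣ) : ℂ) := by
    ext p
    exact (Cfsg.Agent.Helper15.coe_toUnitsHom μ hμ p).symm
  constructor
  · apply Cfsg.Agent.Helper15.isIrrCharacter_of_classInner_eq_one
      (Cfsg.Agent.Helper81.isCharacter_indFun (MulAction.stabilizer G a) hμ.1)
    rw [hμν]
    apply Cfsg.Agent.Helper4.Zass.classInner_indFun_lin
    have hνH : ∀ u : MulAction.stabilizer G a, (u : G) ∈ H → ν u = 1 := by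
      intro u hu
      apply Units.ext
      rw [Cfsg.Agent.Helper15.coe_toUnitsHom, Units.val_one]
      exact hμH u hu
    have hν1 : ν ≠ 1 := by
      intro h
      apply hμne
      rw [hμν]
      ext p
      rw [h]
      simp
    exact Cfsg.Agent.Helper4.Zass.key hZ hab hodd hHa hHcard hHfix ν hνH hν1
  · intro u hu hu1
    exact Cfsg.Agent.Helper4.Zass.indFun_eq_one hZ hHa hHcard hHfix μ hμH hu hu1

end Cfsg.Agent.S0881
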