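import Cfsg.Statements.S0188
import Cfsg.Agent.Lib.Helper78.CharOrtho
import Cfsg.Agent.Lib.Helper15.NormOne

set_option autoImplicit false
open Cfsg

namespace Cfsg.Agent.S0188

open Cfsg.Agent.Helper78
open scoped ComplexConjugate

section

variable {G : Type*} [Group G] [Fintype G] {H : Type*} [Group H] [Fintype H]

/-- inner product of product functions factors -/
theorem classInner_prod (f1 g1 : G → ℂ) (f2 g2 : H → ℂ) :
    classInner (fun x : G × H => f1 x.1 * f2 x.2) (fun x : G × H => g1 x.1 * g2 x.2) =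
      classInner f1 g1 * classInner f2 g2 := by
  unfold classInner
  rw [Nat.card_prod, Fintype.sum_prod_type]
  have h : ∀ (a : G) (b : H), f1 a * f2 b * conj (g1 a * g2 b) =
      (f1 a * conj (g1 a)) * (f2 b * conj (g2 b)) := by
    intro a b
    rw [map_mul]
    ring
  simp only [h]
  rw [← Finset.sum_mul_sum]
  push_cast
  rw [mul_inv]
  ring

omit [Fintype G] [Fintype H] in
/-- a product of characters is a character -/
theorem isCharacter_prod {φ : G → ℂ} {ψ : H → ℂ} (hφ : IsCharacter G φ) (hψ : IsCharacter H ψ) :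
    IsCharacter (G × H) (fun x => φ x.1 * ψ x.2) := by
  obtain ⟨n, ρ1, rfl⟩ := hφ
  obtain ⟨m, ρ2, rfl⟩ := hψ
  have h := isCharacter_of_rep
    (Representation.tprod (ρ1.comp (MonoidHom.fst G H)) (ρ2.comp (MonoidHom.snd G H)))
  rw [Representation.char_tensor] at h
  exact h

/-- a product of irreducible characters is irreducible -/
theorem isIrrCharacter_prod {φ : G → ℂ} {ψ : H → ℂ} (hφ : IsIrrCharacter G φ)
    (hψ : IsIrrCharacter H ψ) : IsIrrCharacter (G × H) (fun x => φ x.1 * ψ x.2) := by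
  classical
  apply Cfsg.Agent.Helper15.isIrrCharacter_of_classInner_eq_one
    (isCharacter_prod (IsIrrCharacter.isCharacter hφ) (IsIrrCharacter.isCharacter hψ))
  rw [classInner_prod, classInner_irr' hφ hφ, classInner_irr' hψ hψ, if_pos rfl, if_pos rfl, one_mul]

open scoped Classical in
/-- conjugated regular character formula -/
theorem sum_irr_one_mul_conj (g : G) :
    ∑ χ : IrrCharacter G, (χ : G → ℂ) 1 * conj ((χ : G → ℂ) g) =
      if g = 1 then (Nat.card G : ℂ) else 0 := by
  have h := congrArg conj (sum_irr_one_mul g)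
  rw [map_sum] at h
  have h2 : ∀ χ : IrrCharacter G, conj ((χ : G → ℂ) 1 * (χ : G → ℂ) g) =
      (χ : G → ℂ) 1 * conj ((χ : G → ℂ) g) := by
    intro χ
    rw [map_mul, irr_conj_apply_one χ.2]
  simp only [h2] at h
  rw [h]
  split_ifs
  · exact Complex.conj_natCast _
  · exact map_zero _

open scoped Classical in
theorem apply_one_eq_sum (θ : G × H → ℂ) :
    θ 1 = ∑ φ : IrrCharacter G, ∑ ψ : IrrCharacter H,
      ((φ : G → ℂ) 1 * (ψ : H → ℂ) 1) *
        classInner θ (fun x : G × H => (φ : G → ℂ) x.1 * (ψ : H → ℂ) x.2) := by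
  unfold classInner
  have hx : ∀ x : G × H, ∑ φ : IrrCharacter G, ∑ ψ : IrrCharacter H, θ x *
        (((φ : G → ℂ) 1 * conj ((φ : G → ℂ) x.1)) * ((ψ : H → ℂ) 1 * conj ((ψ : H → ℂ) x.2))) =
      θ x * ((if x.1 = 1 then (Nat.card G : ℂ) else 0) * (if x.2 = 1 then (Nat.card H : ℂ) else 0)) := by
    intro x
    rw [← sum_irr_one_mul_conj x.1, ← sum_irr_one_mul_conj x.2, Finset.sum_mul_sum, Finset.mul_sum]
    apply Finset.sum_congr rfl
    intro φ _
    rw [Finset.mul_sum]
  have hN : (Nat.card (G × H) : ℂ) = (Nat.card G : ℂ) * (Nat.card H : ℂ) := by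
    rw [Nat.card_prod]; push_cast; rfl
  have hG : (Nat.card G : ℂ) ≠ 0 := natCard_ne_zero_complex
  have hH : (Nat.card H : ℂ) ≠ 0 := natCard_ne_zero_complex
  calc θ 1 = (Nat.card (G × H) : ℂ)⁻¹ * (θ 1 * ((Nat.card G : ℂ) * (Nat.card H : ℂ))) := by
        rw [hN]; field_simp
    _ = (Nat.card (G × H) : ℂ)⁻¹ * ∑ x : G × H, θ x *
          ((if x.1 = 1 then (Nat.card G : ℂ) else 0) * (if x.2 = 1 then (Nat.card H : ℂ) else 0)) := by
        congr 1
        rw [Finset.sum_eq_single (1 : G × H)]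
        · simp
        · intro x _ hx1
          have : ¬ (x.1 = 1 ∧ x.2 = 1) := fun h => hx1 (Prod.ext h.1 h.2)
          by_cases h1 : x.1 = 1
          · have h2 : x.2 ≠ 1 := fun h => this ⟨h1, h⟩
            rw [if_neg h2]; ring
          · rw [if_neg h1]; ring
        · intro h; exact absurd (Finset.mem_univ _) h
    _ = (Nat.card (G × H) : ℂ)⁻¹ * ∑ x : G × H, ∑ φ : IrrCharacter G, ∑ ψ : IrrCharacter H, θ x *
        (((φ : G → ℂ) 1 * conj ((φ : G → ℂ) x.1)) * ((ψ : H → ℂ) 1 * conj ((ψ : H → ℂ) x.2))) := by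
        congr 1
        exact Finset.sum_congr rfl (fun x _ => (hx x).symm)
    _ = (Nat.card (G × H) : ℂ)⁻¹ * ∑ φ : IrrCharacter G, ∑ ψ : IrrCharacter H, ∑ x : G × H, θ x *
        (((φ : G → ℂ) 1 * conj ((φ : G → ℂ) x.1)) * ((ψ : H → ℂ) 1 * conj ((ψ : H → ℂ) x.2))) := by
        congr 1
        rw [Finset.sum_comm]
        apply Finset.sum_congr rfl
        intro φ _
        rw [Finset.sum_comm]
    _ = _ := by
        rw [Finset.mul_sum]
        apply Finset.sum_congr rfl
        intro φ _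
        rw [Finset.mul_sum]
        apply Finset.sum_congr rfl
        intro ψ _
        rw [mul_left_comm ((φ : G → ℂ) 1 * (ψ : H → ℂ) 1)]
        congr 1
        rw [Finset.mul_sum]
        apply Finset.sum_congr rfl
        intro x _
        rw [map_mul]
        ring

end

/-- The irreducible complex characters of G × H are precisely the functions (g, h) ↦ φ g * ψ h with φ, ψ irreducible characters of G and H. -/
theorem result {G : Type*} [Group G] [Finite G] {H : Type*} [Group H] [Finite H] (θ : G × H → ℂ) : Cfsg.IsIrrCharacter (G × H) θ ↔ ∃ (φ : G → ℂ) (ψ : H → ℂ), Cfsg.IsIrrCharacter G φ ∧ Cfsg.IsIrrCharacter H ψ ∧ θ = fun x => φ x.1 * ψ x.2 := by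
  classical
  have := Fintype.ofFinite G
  have := Fintype.ofFinite H
  constructor
  · intro hθ
    by_contra hcon
    have hzero : ∀ (φ : IrrCharacter G) (ψ : IrrCharacter H),
        classInner θ (fun x : G × H => (φ : G → ℂ) x.1 * (ψ : H → ℂ) x.2) = 0 := by
      intro φ ψ
      by_contra hne
      apply hcon
      refine ⟨φ, ψ, φ.2, ψ.2, ?_⟩
      have h := classInner_irr' hθ (isIrrCharacter_prod φ.2 ψ.2)
      by_contra hneq
      rw [if_neg hneq] at h
      exact hne h
    have h1 := apply_one_eq_sum θ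
    simp only [hzero, mul_zero, Finset.sum_const_zero] at h1
    exact irr_apply_one_ne_zero hθ h1
  · rintro ⟨φ, ψ, hφ, hψ, rfl⟩
    exact isIrrCharacter_prod hφ hψ

end Cfsg.Agent.S0188
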