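import Mathlib
import Cfsg.Statements.S1515
import Cfsg.Agent.Lib.Helper82.GenChar

set_option autoImplicit false
open Cfsg

namespace Cfsg.Agent.S1515

open Cfsg.Agent.Helper81 Cfsg.Agent.Helper82
open scoped ComplexConjugate

/-- Let (S, τ, R) be a coherence system from L to G, χ ∈ S, and ψ an integer combination of S with ⟨χ, ψ⟩ = ⟨conj χ, ψ⟩ = 0. Let τ₁ be a linear isometry on the integer combinations of χ − ψ and χ − conj χ, with virtual-character values, agreeing with τ on integer multiples of χ − conj χ. Then the sum over α ∈ R χ of the squared absolute values of ⟨τ₁(χ − ψ), α⟩ is at least ⟨χ, χ⟩; and if ⟨τ₁(χ − ψ), τ₁(χ − ψ)⟩ minus that sum is at least ⟨ψ, ψ⟩, then the sum equals ⟨χ, χ⟩ and every ⟨τ₁(χ − ψ), α⟩ with α ∈ R χ is 0 or 1. -/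
theorem result {L : Type*} [Group L] [Fintype L] {G : Type*} [Group G] [Fintype G] (S : Set (L → ℂ)) (τ : (L → ℂ) → (G → ℂ)) (R : (L → ℂ) → Finset (G → ℂ)) (hS : Cfsg.IsCoherenceSystem S τ R) (χ : L → ℂ) (hχ : χ ∈ S) (ψ : L → ℂ) (hψ : ψ ∈ Cfsg.zspan S) (h1 : Cfsg.classInner χ ψ = 0) (h2 : Cfsg.classInner (Cfsg.conjFun χ) ψ = 0) (τ₁ : (L → ℂ) → (G → ℂ)) (hτ₁ : Cfsg.IsLinearIsometryOn (Cfsg.zspan {χ - ψ, χ - Cfsg.conjFun χ}) τ₁) (hagree : ∀ n : ℤ, τ₁ (n • (χ - Cfsg.conjFun χ)) = τ (n • (χ - Cfsg.conjFun χ))) : (Cfsg.classInner χ χ).re ≤ ∑ α ∈ R χ, ‖Cfsg.classInner (τ₁ (χ - ψ)) α‖ ^ 2 ∧ ((Cfsg.classInner ψ ψ).re ≤ (Cfsg.classInner (τ₁ (χ - ψ)) (τ₁ (χ - ψ))).re - ∑ α ∈ R χ, ‖Cfsg.classInner (τ₁ (χ - ψ)) α‖ ^ 2 → (∑ α ∈ R χ, ‖Cfsg.classInner (τ₁ (χ - ψ)) α‖ ^ 2 = (Cfsg.classInner χ χ).re ∧ ∀ α ∈ R χ, Cfsg.classInner (τ₁ (χ - ψ)) α = 0 ∨ Cfsg.classInner (τ₁ (χ - ψ)) α = 1)) := by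
  classical
  obtain ⟨hadd, hsmul, hiso, hgen⟩ := hτ₁
  set E := Cfsg.zspan {χ - ψ, χ - Cfsg.conjFun χ} with hE
  have hm1 : χ - ψ ∈ E := Submodule.subset_span (by simp)
  have hm2 : χ - Cfsg.conjFun χ ∈ E := Submodule.subset_span (by simp)
  set Δ := τ₁ (χ - ψ) with hΔ
  have hΔgen : IsGeneralizedCharacter G Δ := hgen _ hm1
  -- integrality of the coefficients
  have hint : ∀ α ∈ R χ, ∃ k : ℤ, classInner Δ α = (k : ℂ) := fun α hα =>
    genChar_inner_int hΔgen (hS.virtual χ hχ α hα)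
  choose! k hk using hint
  -- ⟨χ,χ⟩ is a natural number
  obtain ⟨n, hn⟩ := exists_nat_classInner_char (hS.isCharacter χ hχ) (hS.isCharacter χ hχ)
  -- orthogonality relations
  have hcc : classInner χ (Cfsg.conjFun χ) = 0 :=
    hS.orthogonal χ hχ _ (hS.conj_mem χ hχ) (fun h => hS.conj_ne χ hχ h.symm)
  have hψχ : classInner ψ χ = 0 := by
    rw [classInner_conj_symm χ ψ, h1, map_zero]
  have hψc : classInner ψ (Cfsg.conjFun χ) = 0 := by
    rw [classInner_conj_symm (Cfsg.conjFun χ) ψ, h2, map_zero]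
  -- the sum of the coefficients
  have hsum : ∑ α ∈ R χ, classInner Δ α = (n : ℂ) := by
    rw [← classInner_sum_right, ← hS.sum_eq χ hχ]
    have h3 : τ (χ - Cfsg.conjFun χ) = τ₁ (χ - Cfsg.conjFun χ) := by
      have := hagree 1
      rw [one_smul] at this
      exact this.symm
    rw [h3, hΔ, hiso _ hm1 _ hm2]
    rw [classInner_sub_left, classInner_sub_right, classInner_sub_right, hn, hcc, hψχ, hψc]
    ring
  have hsumk : ∑ α ∈ R χ, k α = (n : ℤ) := by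
    have h3 : ((∑ α ∈ R χ, k α : ℤ) : ℂ) = ((n : ℤ) : ℂ) := by
      push_cast
      rw [← hsum]
      exact Finset.sum_congr rfl (fun α hα => (hk α hα).symm)
    exact Int.cast_injective h3
  have hnorm : ∀ α ∈ R χ, ‖classInner Δ α‖ ^ 2 = ((k α ^ 2 : ℤ) : ℝ) := by
    intro α hα
    rw [hk α hα]
    push_cast
    rw [Complex.norm_intCast, sq_abs]
  have hsq : ∑ α ∈ R χ, ‖classInner Δ α‖ ^ 2 = ((∑ α ∈ R χ, k α ^ 2 : ℤ) : ℝ) := by
    push_cast
    exact Finset.sum_congr rfl (fun α hα => by rw [hnorm α hα]; push_cast; ring)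
  have hre : (classInner χ χ).re = ((n : ℤ) : ℝ) := by
    rw [hn]; simp
  have hkk : ∀ α ∈ R χ, k α ≤ k α ^ 2 := by
    intro α _
    nlinarith [sq_nonneg (k α), sq_nonneg (k α - 1), mul_self_nonneg (2 * k α - 1)]
  have hle : (n : ℤ) ≤ ∑ α ∈ R χ, k α ^ 2 := by
    rw [← hsumk]
    exact Finset.sum_le_sum hkk
  refine ⟨?_, ?_⟩
  · rw [hsq, hre]
    exact_mod_cast hle
  · intro hyp
    have hΔΔ : (classInner Δ Δ).re = ((n : ℤ) : ℝ) + (classInner ψ ψ).re := by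
      rw [hΔ, hiso _ hm1 _ hm1, classInner_sub_left, classInner_sub_right, classInner_sub_right,
        hn, h1, hψχ]
      simp
    rw [hΔΔ, hsq] at hyp
    have hge : ((∑ α ∈ R χ, k α ^ 2 : ℤ) : ℝ) ≤ ((n : ℤ) : ℝ) := by linarith
    have hge' : ∑ α ∈ R χ, k α ^ 2 ≤ (n : ℤ) := by exact_mod_cast hge
    have heq : ∑ α ∈ R χ, k α ^ 2 = (n : ℤ) := le_antisymm hge' hle
    refine ⟨?_, ?_⟩
    · rw [hsq, hre, heq]
    · intro α hα
      have hzero : ∑ α ∈ R χ, (k α ^ 2 - k α) = 0 := by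
        rw [Finset.sum_sub_distrib, heq, hsumk]; ring
      have h0 := (Finset.sum_eq_zero_iff_of_nonneg
        (fun α hα => sub_nonneg.2 (hkk α hα))).1 hzero α hα
      have h3 : k α * (k α - 1) = 0 := by ring_nf; ring_nf at h0; linarith
      rw [hk α hα]
      rcases mul_eq_zero.1 h3 with h4 | h4
      · left; rw [h4]; simp
      · right
        have : k α = 1 := by omega
        rw [this]; simp

end Cfsg.Agent.S1515
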