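import Cfsg.Statements.S0161
import Mathlib
import Cfsg.Agent.Lib.Helper80.FrobSchur2

set_option autoImplicit false
open Cfsg

namespace Cfsg.Agent.S0161

open scoped ComplexConjugate
open Cfsg.Agent.Helper80

/-- In a finite group of odd order, a real-valued irreducible complex character is the trivial character. -/
theorem result {G : Type*} [Group G] [Finite G] (hodd : Odd (Nat.card G)) (χ : Cfsg.IrrCharacter G) (hreal : ∀ g : G, ((χ : G → ℂ) g).im = 0) : (χ : G → ℂ) = fun _ => 1 := by
  classical
  have := Fintype.ofFinite G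
  by_contra hne
  have hne' : χ ≠ trivialIrr G := fun h => hne (by rw [h]; rfl)
  -- squaring is a bijection
  have hsq : Function.Injective (fun s : G => s * s) := by
    intro a b hab
    simp only at hab
    obtain ⟨k, hk⟩ := hodd
    have hpow : ∀ x : G, x = (x * x) ^ (k + 1) := by
      intro x
      rw [← pow_two, ← pow_mul, show 2 * (k + 1) = Nat.card G + 1 by omega, pow_succ,
        pow_card_eq_one', one_mul]
    rw [hpow a, hpow b, hab]
  have hbij : Function.Bijective (fun s : G => s * s) :=
    (Finite.injective_iff_bijective).1 hsq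
  have hsum : ∑ s : G, (χ : G → ℂ) (s * s) = ∑ s : G, (χ : G → ℂ) s :=
    Fintype.sum_bijective _ hbij _ _ (fun _ => rfl)
  have horth := irr_first_orthogonality χ (trivialIrr G)
  rw [if_neg hne'] at horth
  simp only [trivialIrr_apply, map_one, mul_one] at horth
  have hν : (Nat.card G : ℂ)⁻¹ * ∑ s : G, (χ : G → ℂ) (s * s) = 0 := by
    rw [hsum, horth, mul_zero]
  obtain ⟨s, hs⟩ := (irr_fs χ).2.1.1 hν
  exact hs (hreal s)

end Cfsg.Agent.S0161
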