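import Cfsg.Statements.S1523
import Mathlib
import Cfsg.Agent.Lib.Helper25.FreeOrbit
import Cfsg.Agent.Lib.Helper77.CentralChar
import Cfsg.Agent.Lib.Helper78.CharBasic


set_option autoImplicit false
open Cfsg

namespace Cfsg.Agent.S1523


open Cfsg.Agent.Helper77

/-- A rational algebraic integer is an integer: divisibility form. -/
theorem int_dvd_of_integral (x : ℂ) (n : ℕ) (k : ℤ) (hn : n ≠ 0)
    (hx : x * (n : ℂ) = (k : ℂ)) (hint : IsIntegral ℤ x) : (n : ℤ) ∣ k := by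
  have hn' : (n : ℂ) ≠ 0 := by exact_mod_cast hn
  have h1 : x = (((k : ℚ) / (n : ℚ) : ℚ) : ℂ) := by
    push_cast
    rw [eq_div_iff hn']
    exact hx
  rw [h1] at hint
  have h2 : IsIntegral ℤ ((k : ℚ) / (n : ℚ) : ℚ) :=
    (isIntegral_algebraMap_iff (algebraMap ℚ ℂ).injective).1 hint
  obtain ⟨j, hj⟩ := IsIntegrallyClosed.isIntegral_iff.1 h2
  have h3 : ((j : ℤ) : ℚ) * (n : ℚ) = (k : ℚ) := by
    have : (algebraMap ℤ ℚ) j = (j : ℚ) := rfl
    rw [this] at hj
    rw [hj]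
    have hn'' : (n : ℚ) ≠ 0 := by exact_mod_cast hn
    field_simp
  have h4 : j * (n : ℤ) = k := by exact_mod_cast h3
  exact ⟨j, by rw [← h4]; ring⟩

theorem sum_subgroup_irr' {G : Type*} [Group G] [Fintype G] (S : Subgroup G) [Fintype S]
    (ψ : G → ℂ) (hψ : IsIrrCharacter G ψ) :
    ∃ m : ℕ, ∑ s : S, ψ (s : G) = (Nat.card S : ℂ) * m := by
  classical
  obtain ⟨n, ρ, -, rfl⟩ := hψ
  let σ : Representation ℂ S (Fin n → ℂ) := ρ.comp S.subtype
  have hne : (Nat.card S : ℂ) ≠ 0 := by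
    have : 0 < Nat.card S := Nat.card_pos
    exact_mod_cast this.ne'
  have : Invertible (Nat.card S : ℂ) := invertibleOfNonzero hne
  have h := Representation.card_inv_mul_sum_char_eq_finrank σ
  refine ⟨Module.finrank ℂ (Representation.invariants σ), ?_⟩
  rw [← h, ← mul_assoc, mul_inv_cancel₀ hne, one_mul]
  rfl

/-- In a subgroup of odd order no non-identity element is conjugate to its inverse. -/
theorem eq_one_of_conj_inv {G : Type*} [Group G] (N : Subgroup G) [Finite N]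
    (hodd : Odd (Nat.card N)) (z c : G) (hz : z ∈ N) (hc : c ∈ N)
    (h : c * z * c⁻¹ = z⁻¹) : z = 1 := by
  have h2 : Commute (c ^ 2) z := by
    have h3 : c ^ 2 * z * (c ^ 2)⁻¹ = z := by
      have e1 : c ^ 2 * z * (c ^ 2)⁻¹ = c * (c * z * c⁻¹) * c⁻¹ := by
        rw [pow_two, mul_inv_rev]
        simp only [mul_assoc]
      rw [e1, h]
      have e2 : c * z⁻¹ * c⁻¹ = (c * z * c⁻¹)⁻¹ := by group
      rw [e2, h, inv_inv]
    exact mul_inv_eq_iff_eq_mul.mp h3
  obtain ⟨j, hj⟩ : ∃ j, orderOf c = 2 * j + 1 := by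
    have hdvd : orderOf c ∣ Nat.card N := by
      have := orderOf_dvd_natCard (⟨c, hc⟩ : N)
      rwa [Subgroup.orderOf_mk] at this
    exact Odd.of_dvd_nat hodd hdvd
  have hcj : c * (c ^ 2) ^ j = 1 := by
    rw [← pow_mul, ← pow_succ', ← hj]
    exact pow_orderOf_eq_one c
  have h3 : Commute ((c ^ 2) ^ j) z := h2.pow_left j
  have h4 : z⁻¹ = z := by
    have e0 : (c ^ 2) ^ j * z * ((c ^ 2) ^ j)⁻¹ = z := by
      rw [h3.eq, mul_inv_cancel_right]
    calc z⁻¹ = c * z * c⁻¹ := h.symm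
      _ = c * ((c ^ 2) ^ j * z * ((c ^ 2) ^ j)⁻¹) * c⁻¹ := by rw [e0]
      _ = (c * (c ^ 2) ^ j) * z * (c * (c ^ 2) ^ j)⁻¹ := by
          rw [mul_inv_rev]
          simp only [mul_assoc]
      _ = z := by rw [hcj]; simp
  have hz2 : z ^ 2 = 1 := by
    rw [pow_two]
    nth_rewrite 1 [← h4]
    exact inv_mul_cancel z
  have hdz : orderOf z ∣ 2 := orderOf_dvd_of_pow_eq_one hz2
  have hdN : orderOf z ∣ Nat.card N := by
    have := orderOf_dvd_natCard (⟨z, hz⟩ : N)
    rwa [Subgroup.orderOf_mk] at this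
  have hcop : Nat.gcd 2 (Nat.card N) = 1 := Nat.coprime_two_left.mpr hodd
  have h5 : orderOf z ∣ 1 := hcop ▸ Nat.dvd_gcd hdz hdN
  exact orderOf_eq_one_iff.mp (Nat.dvd_one.mp h5)


section classmul

variable {G : Type*} [Group G] [Fintype G]

theorem conv_class_sum (ψ : G → ℂ) (hcl : IsClassFunction G ψ) (z w : G) :
    omega ψ (conv (classInd z) (classInd w))
      = (∑ x, classInd z x) * (∑ y, classInd w y * ψ (z * y)) / ψ 1 := by
  unfold omega conv
  refine congrArg (fun t => t / ψ 1) ?_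
  simp_rw [Finset.sum_mul]
  rw [Finset.sum_comm]
  refine Finset.sum_congr rfl fun x _ => ?_
  by_cases hx : IsConj z x
  · have e1 : ∑ g, classInd z x * classInd w (x⁻¹ * g) * ψ g
        = classInd z x * ∑ y, classInd w y * ψ (x * y) := by
      rw [Finset.mul_sum, ← Equiv.sum_comp (Equiv.mulLeft x)]
      refine Finset.sum_congr rfl fun y _ => ?_
      simp [mul_assoc]
    rw [e1]
    refine congrArg (fun t => classInd z x * t) ?_
    obtain ⟨c, hc⟩ := isConj_iff.mp hx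
    rw [← Equiv.sum_comp (MulAut.conj c).toEquiv]
    refine Finset.sum_congr rfl fun y _ => ?_
    have h1 : classInd w ((MulAut.conj c).toEquiv y) = classInd w y := by
      simpa using isClassFunction_classInd w y c
    have h2 : ψ (x * (MulAut.conj c).toEquiv y) = ψ (z * y) := by
      have e2 : x * (MulAut.conj c).toEquiv y = c * (z * y) * c⁻¹ := by
        rw [← hc]
        simp only [MulEquiv.toEquiv_eq_coe, EquivLike.coe_coe, MulAut.conj_apply]
        group
      rw [e2]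
      exact hcl _ c
    rw [h1, h2]
  · have h0 : classInd z x = 0 := by
      unfold classInd
      rw [if_neg hx]
    simp [h0]

theorem omega_classInd_inv (ψ : G → ℂ) (hcl : IsClassFunction G ψ) (z : G)
    (hzz : ψ z⁻¹ = ψ z) : omega ψ (classInd z⁻¹) = omega ψ (classInd z) := by
  unfold omega
  refine congrArg (fun t => t / ψ 1) ?_
  rw [← Equiv.sum_comp (Equiv.inv G)]
  refine Finset.sum_congr rfl fun g _ => ?_
  simp only [Equiv.inv_apply]
  by_cases hg : IsConj z g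
  · obtain ⟨c, hc⟩ := isConj_iff.mp hg
    have hg' : IsConj z⁻¹ g⁻¹ := isConj_iff.mpr ⟨c, by rw [← hc]; group⟩
    have e1 : classInd z⁻¹ g⁻¹ = 1 := by
      unfold classInd
      rw [if_pos hg']
    have e2 : classInd z g = 1 := by
      unfold classInd
      rw [if_pos hg]
    rw [e1, e2]
    refine congrArg (fun t => (1 : ℂ) * t) ?_
    have h1 : ψ g = ψ z := by
      rw [← hc]
      exact hcl z c
    have h2 : ψ g⁻¹ = ψ z⁻¹ := by
      have e3 : g⁻¹ = c * z⁻¹ * c⁻¹ := by rw [← hc]; group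
      rw [e3]
      exact hcl _ c
    rw [h1, h2]
    exact hzz
  · have hg' : ¬ IsConj z⁻¹ g⁻¹ := by
      intro h
      apply hg
      obtain ⟨c, hc⟩ := isConj_iff.mp h
      refine isConj_iff.mpr ⟨c, ?_⟩
      have e4 : c * z * c⁻¹ = (c * z⁻¹ * c⁻¹)⁻¹ := by group
      rw [e4, hc, inv_inv]
    have e1 : classInd z⁻¹ g⁻¹ = 0 := by
      unfold classInd
      rw [if_neg hg']
    have e2 : classInd z g = 0 := by
      unfold classInd
      rw [if_neg hg]
    rw [e1, e2]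
    simp

theorem classInd_sum_ne_zero (z : G) : (∑ x, classInd z x : ℂ) ≠ 0 := by
  classical
  have e1 : (∑ x, classInd z x : ℂ)
      = ((Finset.univ.filter (fun x => IsConj z x)).card : ℂ) := by
    unfold classInd
    rw [Finset.sum_ite, Finset.sum_const_zero, add_zero, Finset.sum_const, nsmul_eq_mul,
      mul_one]
  rw [e1]
  have hpos : 0 < (Finset.univ.filter (fun x => IsConj z x)).card :=
    Finset.card_pos.mpr ⟨z, Finset.mem_filter.mpr ⟨Finset.mem_univ _, IsConj.refl z⟩⟩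
  exact_mod_cast hpos.ne'

theorem F_eq (ψ : G → ℂ) (hψ : IsIrrCharacter G ψ) (z : G) (hzz : ψ z⁻¹ = ψ z) :
    (fun w => ∑ y, classInd w y * ψ (z * y)) z
      = (fun w => ∑ y, classInd w y * ψ (z * y)) z⁻¹ := by
  have hcl : IsClassFunction G ψ := isClassFunction_of_isIrrCharacter hψ
  have hψ1 : ψ 1 ≠ 0 := irrChar_one_ne_zero hψ
  have h1 := omega_conv hψ (isClassFunction_classInd z) (isClassFunction_classInd z)
  have h2 := omega_conv hψ (isClassFunction_classInd z) (isClassFunction_classInd z⁻¹)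
  rw [conv_class_sum ψ hcl] at h1 h2
  rw [omega_classInd_inv ψ hcl z hzz, ← h1] at h2
  have h3 := (div_left_inj' hψ1).mp h2
  exact (mul_left_cancel₀ (classInd_sum_ne_zero z) h3).symm

end classmul

/-- Freeness of the conjugation action of a TI Sylow subgroup on the conjugates of a central
element lying outside `Z`. -/
theorem free_of_TI {G : Type*} [Group G] [Finite G] (p : ℕ) [Fact p.Prime] (P : Sylow p G)
    (hTI : Cfsg.IsTISubset ((P : Subgroup G) : Set G)) (Z : Subgroup G) (hZP : Z ≤ P)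
    (hZn : ∀ x ∈ Subgroup.normalizer ((P : Subgroup G) : Set G), ∀ z ∈ Z, x * z * x⁻¹ ∈ Z)
    (w : G) (hw : w ∈ Z) (hw1 : w ≠ 1) (y : G) (hy : IsConj w y) (hyZ : y ∉ Z)
    (g : G) (hg : g ∈ (P : Subgroup G)) (hgy : g * y * g⁻¹ = y) : g = 1 := by
  by_contra hg1
  obtain ⟨c, hc⟩ := isConj_iff.mp hy
  have hcomm : (c⁻¹ * g * c) * w * (c⁻¹ * g * c)⁻¹ = w := by
    have e1 : (c⁻¹ * g * c) * w * (c⁻¹ * g * c)⁻¹ = c⁻¹ * (g * (c * w * c⁻¹) * g⁻¹) * c := by
      group
    rw [e1, hc, hgy, ← hc]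
    group
  have hwP : w ∈ (P : Subgroup G) := hZP hw
  have hhN : c⁻¹ * g * c ∈ Subgroup.normalizer ((P : Subgroup G) : Set G) := by
    by_contra hh
    exact hw1 (hTI _ hh w hwP (by rw [hcomm]; exact hwP))
  have hhP : c⁻¹ * g * c ∈ (P : Subgroup G) := by
    obtain ⟨Q, hQdef⟩ : ∃ Q : Subgroup G, Q = (P : Subgroup G).map (MulAut.conj c⁻¹).toMonoidHom :=
      ⟨_, rfl⟩
    have hQ : IsPGroup p Q := by
      rw [hQdef]
      exact P.isPGroup'.map _
    have hhQ : c⁻¹ * g * c ∈ Q := by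
      rw [hQdef]
      refine Subgroup.mem_map.mpr ⟨g, hg, ?_⟩
      simp [MulAut.conj_apply]
    have h5 : Q ⊓ Subgroup.normalizer ((P : Subgroup G) : Set G) = Q ⊓ (P : Subgroup G) :=
      hQ.inf_normalizer_sylow P
    have h6 : c⁻¹ * g * c ∈ Q ⊓ Subgroup.normalizer ((P : Subgroup G) : Set G) := ⟨hhQ, hhN⟩
    rw [h5] at h6
    exact h6.2
  have hcN : c ∈ Subgroup.normalizer ((P : Subgroup G) : Set G) := by
    by_contra hcN
    have h1 := hTI c hcN (c⁻¹ * g * c) hhP (by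
      have e2 : c * (c⁻¹ * g * c) * c⁻¹ = g := by group
      rw [e2]
      exact hg)
    apply hg1
    have e3 : g = c * (c⁻¹ * g * c) * c⁻¹ := by group
    rw [e3, h1]
    group
  exact hyZ (hc ▸ hZn c hcN w hw)

/-- Let G be a finite group, p a prime, P a Sylow p-subgroup whose underlying set is a TI-subset of G, with L the set normaliser of P of odd order. Let Z ≠ ⊥ be a subgroup of P, normal in L and central in P, such that the centralisers in L of any two non-identity elements of Z have the same order. If ψ is an irreducible character of G taking the same value at all non-identity elements of Z, then for z ∈ Z, z ≠ 1, the value ψ z is an integer n with Nat.card P dividing ψ(1) − n (as integers, ψ 1 being the degree). -/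
theorem result {G : Type*} [Group G] [Finite G] (p : ℕ) [Fact p.Prime] (P : Sylow p G) (hTI : Cfsg.IsTISubset ((P : Subgroup G) : Set G)) (hodd : Odd (Nat.card (Subgroup.normalizer ((P : Subgroup G) : Set G)))) (Z : Subgroup G) (hZ1 : Z ≠ ⊥) (hZP : Z ≤ P) (hZn : ∀ x ∈ Subgroup.normalizer ((P : Subgroup G) : Set G), ∀ z ∈ Z, x * z * x⁻¹ ∈ Z) (hZc : ∀ z ∈ Z, ∀ y ∈ (P : Subgroup G), z * y = y * z) (hCL : ∀ z ∈ Z, ∀ z' ∈ Z, z ≠ 1 → z' ≠ 1 → Nat.card ↥(Subgroup.normalizer ((P : Subgroup G) : Set G) ⊓ Subgroup.centralizer ({z} : Set G)) = Nat.card ↥(Subgroup.normalizer ((P : Subgroup G) : Set G) ⊓ Subgroup.centralizer ({z'} : Set G))) (ψ : G → ℂ) (hψ : Cfsg.IsIrrCharacter G ψ) (hconst : ∀ z ∈ Z, ∀ z' ∈ Z, z ≠ 1 → z' ≠ 1 → ψ z = ψ z') (z : G) (hz : z ∈ Z) (hz1 : z ≠ 1) : ∃ n d : ℤ, ψ z = n ∧ ψ 1 = d ∧ (Nat.card (P : Subgroup G) : ℤ) ∣ d - n  := by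
  classical
  have _instG : Fintype G := Fintype.ofFinite G
  have hcl : IsClassFunction G ψ := isClassFunction_of_isIrrCharacter hψ
  have hψ1 : ψ 1 ≠ 0 := irrChar_one_ne_zero hψ
  have hint : ∀ g, IsIntegral ℤ (ψ g) := by
    obtain ⟨n, ρ, -, rfl⟩ := hψ
    exact fun g => Cfsg.Agent.Helper78.char_isIntegral ρ g
  obtain ⟨d, hd⟩ : ∃ d : ℕ, ψ 1 = d := by
    obtain ⟨n, ρ, -, rfl⟩ := hψ
    exact ⟨n, by rw [Representation.char_one]; simp⟩
  have hzi : z⁻¹ ∈ Z := Z.inv_mem hz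
  have hzi1 : z⁻¹ ≠ 1 := by simpa using hz1
  have hPN : (P : Subgroup G) ≤ Subgroup.normalizer ((P : Subgroup G) : Set G) :=
    Subgroup.le_normalizer
  have ha : ∀ y ∈ Z, y ≠ 1 → ψ y = ψ z := fun y hy hy1 => hconst y hy z hz hy1 hz1
  -- z is not conjugate to its inverse
  have hnc : ¬ IsConj z z⁻¹ := by
    intro hy
    obtain ⟨c, hc⟩ := isConj_iff.mp hy
    have hcN : c ∈ Subgroup.normalizer ((P : Subgroup G) : Set G) := by
      by_contra hcN
      exact hz1 (hTI c hcN z (hZP hz) (by rw [hc]; exact hZP hzi))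
    exact hz1 (eq_one_of_conj_inv _ hodd z c (hPN (hZP hz)) hcN hc)
  -- the value at z is an integer
  obtain ⟨n, hn⟩ : ∃ n : ℤ, ψ z = n := by
    have hZcard : 1 < Nat.card Z := by
      rw [Subgroup.one_lt_card_iff_ne_bot]
      exact hZ1
    obtain ⟨m, hm⟩ := sum_subgroup_irr' Z ψ hψ
    have hsumZ : ∑ s : Z, ψ (s : G) = ψ 1 + ((Nat.card Z - 1 : ℕ) : ℂ) * ψ z := by
      rw [← Finset.add_sum_erase Finset.univ _ (Finset.mem_univ (1 : Z))]
      congr 1
      have hrest : ∀ s ∈ (Finset.univ : Finset Z).erase 1, ψ (s : G) = ψ z := by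
        intro s hs
        exact ha (s : G) s.2 (fun h => (Finset.ne_of_mem_erase hs) (Subtype.ext h))
      rw [Finset.sum_congr rfl hrest]
      rw [Finset.sum_const, Finset.card_erase_of_mem (Finset.mem_univ _), Finset.card_univ,
        nsmul_eq_mul, Nat.card_eq_fintype_card]
    have hne : Nat.card Z - 1 ≠ 0 := by omega
    have hkey : ψ z * ((Nat.card Z - 1 : ℕ) : ℂ) = (((Nat.card Z : ℤ) * (m : ℤ) - (d : ℤ) : ℤ) : ℂ) := by
      push_cast
      rw [← hm, hsumZ, hd]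
      push_cast
      ring
    obtain ⟨j, hj⟩ := int_dvd_of_integral (ψ z) (Nat.card Z - 1) _ hne hkey (hint z)
    refine ⟨j, ?_⟩
    have hne' : ((Nat.card Z - 1 : ℕ) : ℂ) ≠ 0 := by exact_mod_cast hne
    have h2 : ψ z * ((Nat.card Z - 1 : ℕ) : ℂ) = (j : ℂ) * ((Nat.card Z - 1 : ℕ) : ℂ) := by
      rw [hkey, hj]
      push_cast
      ring
    exact mul_right_cancel₀ hne' h2
  -- the class-multiplication sums
  obtain ⟨F, hF⟩ : ∃ F : G → ℂ, F = fun w => ∑ y, classInd w y * ψ (z * y) := ⟨_, rfl⟩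
  have hFeq : F z = F z⁻¹ := by
    rw [hF]
    exact F_eq ψ hψ z (ha _ hzi hzi1)
  have hsplit : ∀ w, F w = (∑ y, if (IsConj w y ∧ y ∈ Z) then ψ (z * y) else 0)
       + ∑ y, if (IsConj w y ∧ y ∉ Z) then ψ (z * y) else 0 := by
    intro w
    rw [hF, ← Finset.sum_add_distrib]
    refine Finset.sum_congr rfl fun y _ => ?_
    unfold classInd
    by_cases h1 : IsConj w y <;> by_cases h2 : y ∈ Z <;> simp [h1, h2]
  have hfreeSum : ∀ w ∈ Z, w ≠ 1 → ∃ α : ℂ, IsIntegral ℤ α ∧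
      ∑ y, (if (IsConj w y ∧ y ∉ Z) then ψ (z * y) else 0)
        = (Nat.card (P : Subgroup G) : ℂ) * α := by
    intro w hw hw1
    obtain ⟨α, hα, hsum⟩ := Cfsg.Agent.Helper25.FreeOrbit.conj_free_sum (P : Subgroup G)
      {y | IsConj w y ∧ y ∉ Z}
      (fun g hg y hy => by
        refine ⟨hy.1.trans (isConj_iff.mpr ⟨g, rfl⟩), fun h => hy.2 ?_⟩
        have h1 := hZn g⁻¹ (Subgroup.inv_mem _ (hPN hg)) _ h
        have e1 : g⁻¹ * (g * y * g⁻¹) * g⁻¹⁻¹ = y := by group
        rwa [e1] at h1)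
      (fun g hg y hy h => free_of_TI p P hTI Z hZP hZn w hw hw1 y hy.1 hy.2 g hg h)
      (fun y => ψ (z * y))
      (fun g hg y _ => by
        have e1 : z * (g * y * g⁻¹) = g * (z * y) * g⁻¹ := by
          calc z * (g * y * g⁻¹) = (z * g) * y * g⁻¹ := by group
            _ = (g * z) * y * g⁻¹ := by rw [hZc z hz g hg]
            _ = g * (z * y) * g⁻¹ := by group
        show ψ (z * (g * y * g⁻¹)) = ψ (z * y)
        rw [e1]
        exact hcl _ g)
      (fun y => hint _)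
    refine ⟨α, hα, ?_⟩
    rw [← hsum]
    refine Finset.sum_congr rfl fun y _ => ?_
    by_cases h : IsConj w y ∧ y ∉ Z
    · rw [if_pos h, if_pos (show y ∈ {y | IsConj w y ∧ y ∉ Z} from h)]
    · rw [if_neg h, if_neg (show y ∉ {y | IsConj w y ∧ y ∉ Z} from h)]
  have hAdiff : (∑ y, if (IsConj z y ∧ y ∈ Z) then ψ (z * y) else 0)
      - (∑ y, if (IsConj z⁻¹ y ∧ y ∈ Z) then ψ (z * y) else 0) = ψ z - ψ 1 := by
    have e1 : (∑ y, if (IsConj z⁻¹ y ∧ y ∈ Z) then ψ (z * y) else 0)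
        = ∑ y, if (IsConj z y ∧ y ∈ Z) then ψ (z * y⁻¹) else 0 := by
      rw [← Equiv.sum_comp (Equiv.inv G)]
      refine Finset.sum_congr rfl fun y _ => ?_
      simp only [Equiv.inv_apply]
      have hiff : (IsConj z⁻¹ y⁻¹ ∧ y⁻¹ ∈ Z) ↔ (IsConj z y ∧ y ∈ Z) := by
        rw [Z.inv_mem_iff]
        constructor
        · rintro ⟨h1, h2⟩
          refine ⟨?_, h2⟩
          obtain ⟨c, hc⟩ := isConj_iff.mp h1
          refine isConj_iff.mpr ⟨c, ?_⟩
          have e4 : c * z * c⁻¹ = (c * z⁻¹ * c⁻¹)⁻¹ := by group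
          rw [e4, hc, inv_inv]
        · rintro ⟨h1, h2⟩
          refine ⟨?_, h2⟩
          obtain ⟨c, hc⟩ := isConj_iff.mp h1
          exact isConj_iff.mpr ⟨c, by rw [← hc]; group⟩
      by_cases h : IsConj z y ∧ y ∈ Z
      · rw [if_pos h, if_pos (hiff.mpr h)]
      · rw [if_neg h, if_neg (fun h' => h (hiff.mp h'))]
    rw [e1, ← Finset.sum_sub_distrib]
    rw [Finset.sum_eq_single z]
    · rw [if_pos ⟨IsConj.refl z, hz⟩, if_pos ⟨IsConj.refl z, hz⟩, mul_inv_cancel]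
      congr 1
      refine ha (z * z) (Z.mul_mem hz hz) (fun h => ?_)
      have hzz : z = z⁻¹ := eq_inv_of_mul_eq_one_left h
      exact hnc ((congrArg (IsConj z) hzz).mp (IsConj.refl z))
    · intro y _ hyz
      by_cases h : IsConj z y ∧ y ∈ Z
      · rw [if_pos h, if_pos h]
        have h1 : ψ (z * y) = ψ z := by
          refine ha _ (Z.mul_mem hz h.2) (fun h' => ?_)
          have hy' : y = z⁻¹ := eq_inv_of_mul_eq_one_right h'
          exact hnc ((congrArg (IsConj z) hy').mp h.1)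
        have h2 : ψ (z * y⁻¹) = ψ z := by
          refine ha _ (Z.mul_mem hz (Z.inv_mem h.2)) (fun h' => ?_)
          exact hyz (mul_inv_eq_one.mp h').symm
        rw [h1, h2, sub_self]
      · rw [if_neg h, if_neg h, sub_self]
    · intro h
      exact absurd (Finset.mem_univ _) h
  obtain ⟨α1, hα1, hs1⟩ := hfreeSum z hz hz1
  obtain ⟨α2, hα2, hs2⟩ := hfreeSum z⁻¹ hzi hzi1
  have hPne : Nat.card (P : Subgroup G) ≠ 0 := Nat.card_pos.ne'
  have hfinal : (α2 - α1) * ((Nat.card (P : Subgroup G) : ℕ) : ℂ) = (((n : ℤ) - (d : ℤ) : ℤ) : ℂ) := by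
    have h := hFeq
    rw [hsplit z, hsplit z⁻¹, hs1, hs2] at h
    push_cast
    rw [← hn, ← hd, ← hAdiff]
    linear_combination -h
  have hdvd := int_dvd_of_integral (α2 - α1) (Nat.card (P : Subgroup G)) _ hPne hfinal
    (hα2.sub hα1)
  refine ⟨n, (d : ℤ), hn, by rw [hd]; simp, ?_⟩
  have : ((d : ℤ) - n) = -((n : ℤ) - (d : ℤ)) := by ring
  rw [this]
  exact (dvd_neg).mpr hdvd

end Cfsg.Agent.S1523
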