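import Cfsg.Statements.S1533
import Mathlib
import Cfsg.Agent.Lib.Helper82.SibSylow

set_option autoImplicit false
set_option linter.style.haveILetI false
open Cfsg

namespace Cfsg.Agent.S1533

/-- Let G be a finite group, p an odd prime, and P a nontrivial Sylow p-subgroup whose underlying set is a TI-subset of G, with P properly contained in its set normaliser N and C_G(x) ≤ P for every non-identity x ∈ P. Let S be the set of irreducible characters χ of N with χ x ≠ χ 1 for some x ∈ P. Then either S has exactly one member, P is elementary abelian and Nat.card P = [N:P] + 1; or (S, N minus 1, induction to G) is coherent. -/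
theorem result {G : Type*} [Group G] [Fintype G] (p : ℕ) [Fact p.Prime] (hp : p ≠ 2) (P : Sylow p G) (hP1 : (P : Subgroup G) ≠ ⊥) (hTI : Cfsg.IsTISubset ((P : Subgroup G) : Set G)) (hlt : (P : Subgroup G) < Subgroup.normalizer ((P : Subgroup G) : Set G)) (hC : ∀ k ∈ (P : Subgroup G), k ≠ 1 → Subgroup.centralizer ({k} : Set G) ≤ (P : Subgroup G)) [Fintype ↥(Subgroup.normalizer ((P : Subgroup G) : Set G))] : (Nat.card {χ : ↥(Subgroup.normalizer ((P : Subgroup G) : Set G)) → ℂ // Cfsg.IsIrrCharacter ↥(Subgroup.normalizer ((P : Subgroup G) : Set G)) χ ∧ ∃ x : ↥(Subgroup.normalizer ((P : Subgroup G) : Set G)), (x : G) ∈ (P : Subgroup G) ∧ χ x ≠ χ 1} = 1 ∧ Cfsg.IsElementaryAbelian p (P : Subgroup G) ∧ Nat.card (P : Subgroup G) = ((P : Subgroup G).subgroupOf (Subgroup.normalizer ((P : Subgroup G) : Set G))).index + 1) ∨ Cfsg.IsCoherent {χ : ↥(Subgroup.normalizer ((P : Subgroup G) : Set G)) → ℂ | Cfsg.IsIrrCharacter ↥(Subgroup.normalizer ((P : Subgroup G) : Set G)) χ ∧ ∃ x : ↥(Subgroup.normalizer ((P : Subgroup G) : Set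 G)), (x : G) ∈ (P : Subgroup G) ∧ χ x ≠ χ 1} {1}ᶜ (fun α => Cfsg.indFun (Subgroup.normalizer ((P : Subgroup G) : Set G)) α) := by
  classical
  haveI := Cfsg.Agent.Helper82.SibTI.normal_subgroupOf_normalizer (P : Subgroup G)
  haveI : Fintype ((P : Subgroup G).subgroupOf (Subgroup.normalizer ((P : Subgroup G) : Set G))) :=
    Fintype.ofFinite _
  have hC' := Cfsg.Agent.Helper82.tifn_hC' (P : Subgroup G)
    (Subgroup.normalizer ((P : Subgroup G) : Set G)) hC
  have hind := Cfsg.Agent.Helper82.tifn_hind (P : Subgroup G) hTI hlt hC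
  have hKtop : (P : Subgroup G).subgroupOf (Subgroup.normalizer ((P : Subgroup G) : Set G)) ≠ ⊤ := by
    intro h
    apply hlt.ne
    apply le_antisymm hlt.le
    intro x hx
    have : (⟨x, hx⟩ : Subgroup.normalizer ((P : Subgroup G) : Set G)) ∈
        (P : Subgroup G).subgroupOf (Subgroup.normalizer ((P : Subgroup G) : Set G)) := by
      rw [h]; trivial
    exact this
  have hK : (P : Subgroup G).subgroupOf (Subgroup.normalizer ((P : Subgroup G) : Set G)) ≠ ⊥ := by
    intro h
    apply hP1
    rw [eq_bot_iff]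
    intro w hw
    have h1 : (⟨w, hlt.le hw⟩ : Subgroup.normalizer ((P : Subgroup G) : Set G)) ∈
        (P : Subgroup G).subgroupOf (Subgroup.normalizer ((P : Subgroup G) : Set G)) := hw
    rw [h, Subgroup.mem_bot] at h1
    exact congrArg Subtype.val h1
  have hset : {χ : ↥(Subgroup.normalizer ((P : Subgroup G) : Set G)) → ℂ |
      Cfsg.IsIrrCharacter ↥(Subgroup.normalizer ((P : Subgroup G) : Set G)) χ ∧
      ∃ x : ↥(Subgroup.normalizer ((P : Subgroup G) : Set G)), (x : G) ∈ (P : Subgroup G) ∧
        χ x ≠ χ 1} =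
      (↑(Cfsg.Agent.Helper82.sibS (Subgroup.normalizer ((P : Subgroup G) : Set G))
        ((P : Subgroup G).subgroupOf (Subgroup.normalizer ((P : Subgroup G) : Set G)))) :
        Set (↥(Subgroup.normalizer ((P : Subgroup G) : Set G)) → ℂ)) := by
    rw [Cfsg.Agent.Helper82.SibSylow.coe_sibS_eq_relevant _ _ hC' hKtop]
    rfl
  have hcardK : Nat.card ((P : Subgroup G).subgroupOf
      (Subgroup.normalizer ((P : Subgroup G) : Set G))) = Nat.card (P : Subgroup G) :=
    Nat.card_congr (Subgroup.subgroupOfEquivOfLe hlt.le).toEquiv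
  by_cases hab : ∀ a ∈ (P : Subgroup G), ∀ b ∈ (P : Subgroup G), a * b = b * a
  · have habK : ∀ a b : (P : Subgroup G).subgroupOf
        (Subgroup.normalizer ((P : Subgroup G) : Set G)), a * b = b * a :=
      fun a b => Subtype.ext (Subtype.ext (hab a.1.1 a.2 b.1.1 b.2))
    by_cases hcard : 2 ≤ (Cfsg.Agent.Helper82.sibS (Subgroup.normalizer ((P : Subgroup G) : Set G))
        ((P : Subgroup G).subgroupOf (Subgroup.normalizer ((P : Subgroup G) : Set G)))).card
    · right
      rw [hset]
      exact Cfsg.Agent.Helper82.SibSylow.coherent_of_abelian _ _ hC' hind habK hK hcard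
    · left
      have hne : (Cfsg.Agent.Helper82.sibS (Subgroup.normalizer ((P : Subgroup G) : Set G))
          ((P : Subgroup G).subgroupOf
            (Subgroup.normalizer ((P : Subgroup G) : Set G)))).Nonempty := by
        have hsolv : Group.IsSolvable ((P : Subgroup G).subgroupOf
            (Subgroup.normalizer ((P : Subgroup G) : Set G))) := Group.isSolvable_of_comm habK
        obtain ⟨θ₀, hθ₀, -, -⟩ := Cfsg.Agent.Helper82.exists_linear_above
          ((P : Subgroup G).subgroupOf (Subgroup.normalizer ((P : Subgroup G) : Set G)))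
          (⊥ : Subgroup ↥(Subgroup.normalizer ((P : Subgroup G) : Set G))) hsolv
          (bot_lt_iff_ne_bot.mpr hK)
        exact ⟨_, (Cfsg.Agent.Helper82.mem_sibS _ _ _).mpr ⟨θ₀, hθ₀, rfl⟩⟩
      have hcard1 : (Cfsg.Agent.Helper82.sibS (Subgroup.normalizer ((P : Subgroup G) : Set G))
          ((P : Subgroup G).subgroupOf
            (Subgroup.normalizer ((P : Subgroup G) : Set G)))).card = 1 := by
        have := Finset.card_pos.mpr hne
        omega
      have hidx := Cfsg.Agent.Helper82.SibSylow.card_of_abelian_single _ _ hC' habK hKtop hcard1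
      refine ⟨?_, ⟨⟨⟨fun a b => Subtype.ext (hab a a.2 b b.2)⟩⟩, ?_⟩, ?_⟩
      · have h := congrArg Set.ncard hset
        rw [Set.ncard_coe_finset, hcard1] at h
        rw [← h]
        exact Nat.card_coe_set_eq _
      · have hpK : IsPGroup p ((P : Subgroup G).subgroupOf
            (Subgroup.normalizer ((P : Subgroup G) : Set G))) := P.isPGroup'.comap_subtype
        have hel := Cfsg.Agent.Helper82.SibSylow.elementary_of_card _ _ hC' p habK hpK hK hidx
        intro a ha
        have h1 := hel ⟨a, hlt.le ha⟩ ha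
        have h2 := congrArg Subtype.val h1
        rw [Subgroup.coe_pow, Subgroup.coe_one] at h2
        exact h2
      · rw [← hcardK]
        exact hidx
  · right
    rcases Cfsg.Agent.Helper82.SibSylow.odd_or_comm p hp P hC with hodd | hcomm
    · rw [hset, Cfsg.Agent.Helper82.coe_sibS]
      exact Cfsg.Agent.Helper82.SibTI.sib_ti (P : Subgroup G) hodd hP1 P.isPGroup'.isNilpotent hTI hlt hC
        (Cfsg.Agent.Helper82.SibSylow.sylow_coprime p P hlt.le)
    · exact absurd hcomm hab

end Cfsg.Agent.S1533
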