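import Cfsg.Statements.S1535
import Cfsg.Agent.Lib.Helper3.FeitCohD
import Cfsg.Agent.Lib.Helper29.FrobPair

set_option autoImplicit false
set_option linter.style.haveILetI false
open Cfsg

namespace Cfsg.Agent.S1535

/-- Let N be a finite group with a proper nontrivial normal subgroup H such that every element commuting with a non-identity element of H lies in H (N is a Frobenius group with kernel H); let e be the index of H and suppose Nat.card H ≠ e + 1. Let S be the set of irreducible characters χ of N with χ h ≠ χ 1 for some h ∈ H, and τ a linear isometry on the integer combinations of S vanishing at 1, with values virtual characters of a finite group G vanishing at 1. Then (S, N minus 1, τ) is coherent, or there is a prime p with Nat.card H a power of p, H non-abelian and [H : [H,H]] ≤ 4e² + 1. -/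
theorem result {N : Type*} [Group N] [Fintype N] {G : Type*} [Group G] [Fintype G] (H : Subgroup N) [H.Normal] (hH1 : H ≠ ⊥) (hH2 : H ≠ ⊤) (hC : ∀ h ∈ H, h ≠ 1 → Subgroup.centralizer ({h} : Set N) ≤ H) (he : Nat.card H ≠ H.index + 1) (τ : (N → ℂ) → (G → ℂ)) (hτ : Cfsg.IsLinearIsometryOn (Cfsg.zspanOn {χ : N → ℂ | Cfsg.IsIrrCharacter N χ ∧ ∃ h ∈ H, χ h ≠ χ 1} {1}ᶜ) τ) (hτ1 : ∀ α ∈ Cfsg.zspanOn {χ : N → ℂ | Cfsg.IsIrrCharacter N χ ∧ ∃ h ∈ H, χ h ≠ χ 1} {1}ᶜ, τ α 1 = 0) : Cfsg.IsCoherent {χ : N → ℂ | Cfsg.IsIrrCharacter N χ ∧ ∃ h ∈ H, χ h ≠ χ 1} {1}ᶜ τ ∨ ∃ p : ℕ, p.Prime ∧ (∃ m : ℕ, Nat.card H = p ^ m) ∧ ¬ IsMulCommutative H ∧ (⁅H, H⁆.subgroupOf H).index ≤ 4 * H.index ^ 2 + 1 := by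
  classical
  have hset : {χ : N → ℂ | Cfsg.IsIrrCharacter N χ ∧ ∃ h ∈ H, χ h ≠ χ 1} =
      (↑(Cfsg.Agent.H3Feit.frobS H) : Set (N → ℂ)) := (Cfsg.Agent.H3Feit.coe_frobS H hC hH2).symm
  rw [hset] at hτ hτ1 ⊢
  have hHn : H.Normal := inferInstance
  have hnil : Group.IsNilpotent H :=
    (Cfsg.Agent.Helper29.FrobPair.frob_pair H ⊤ (lt_top_iff_ne_top.2 hH2)
      (fun g _ h hh => hHn.conj_mem h hh g)
      (fun h hh h1 => inf_le_right.trans (hC h hh h1))).2
  haveI := hnil
  have hidx : 0 < H.index := Nat.pos_of_ne_zero Subgroup.index_ne_zero_of_finite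
  have hLeq : (⁅H, H⁆.subgroupOf H).index = (commutator H).index := by
    show (Subgroup.comap H.subtype ⁅H, H⁆).index = _
    rw [← Subgroup.map_subtype_commutator,
      Subgroup.comap_map_eq_self_of_injective H.subtype_injective]
  have hdvd := Cfsg.Agent.H3Feit.index_dvd_card_sub_one H hC H le_rfl
  by_cases hab : IsMulCommutative H
  · left
    refine Cfsg.Agent.H3Feit.frob_coherent_of_degree_bound H hC ?_ ?_ τ hτ hτ1
    · have hc : commutator H = ⊥ := (commutator_eq_bot_iff H).2 hab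
      rw [hc, Subgroup.index_bot]
      have h2 : 1 < Nat.card H := (Subgroup.one_lt_card_iff_ne_bot H).2 hH1
      obtain ⟨k, hk⟩ := hdvd
      have hk0 : k ≠ 0 := by
        rintro rfl
        omega
      have hk1 : k ≠ 1 := by
        rintro rfl
        omega
      have hk2 : 2 ≤ k := by omega
      have : H.index * 2 ≤ H.index * k := Nat.mul_le_mul_left _ hk2
      omega
    · intro φ hφ
      exfalso
      have hc : commutator H = ⊥ := (commutator_eq_bot_iff H).2 hab
      have := Cfsg.Agent.Helper79.degree_one_of_commutator_le_irrKer φ (by rw [hc]; exact bot_le)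
      omega
  · by_cases hpp : ∃ p : ℕ, p.Prime ∧ ∃ m : ℕ, Nat.card H = p ^ m
    · obtain ⟨p, hp, m, hm⟩ := hpp
      by_cases hL : (commutator H).index ≤ 4 * H.index ^ 2 + 1
      · right
        exact ⟨p, hp, ⟨m, hm⟩, hab, by rw [hLeq]; exact hL⟩
      · left
        push Not at hL
        haveI := Fact.mk hp
        have hHp : IsPGroup p H := IsPGroup.of_card hm
        refine Cfsg.Agent.H3Feit.frob_coherent_of_degree_bound H hC ?_
          (Cfsg.Agent.H3Feit.degree_bound_of_prime_pow H p hHp (by omega)) τ hτ hτ1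
        nlinarith
    · left
      obtain ⟨h1, h2⟩ := Cfsg.Agent.H3Feit.degree_bound_of_not_prime_pow H hC hH1 hpp
      exact Cfsg.Agent.H3Feit.frob_coherent_of_degree_bound H hC h1 h2 τ hτ hτ1

end Cfsg.Agent.S1535
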