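import Cfsg.Statements.S1534
import Mathlib
import Cfsg.Agent.Lib.Helper3.FeitTI
import Cfsg.Agent.S1533
import Cfsg.Agent.S1535

set_option autoImplicit false
set_option linter.style.haveILetI false
set_option maxHeartbeats 800000
open Cfsg

namespace Cfsg.Agent.S1534

/-- Let G be a finite group and K a nontrivial nilpotent subgroup whose underlying set is a TI-subset of G, properly contained in its set normaliser N, with C_G(k) ≤ K for every non-identity k ∈ K; let e be the index of K in N and S the set of irreducible characters χ of N with χ k ≠ χ 1 for some k ∈ K. Then one of: S has exactly one member, Nat.card K = e + 1 and K is an elementary abelian p-group for some prime p; or K is a Sylow 2-subgroup of G (Nat.card K is the largest power of 2 dividing Nat.card G) and [K : [K,K]] < 4e²; or (S, N minus 1, induction to G) is coherent. -/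
theorem result {G : Type*} [Group G] [Fintype G] (K : Subgroup G) (hK1 : K ≠ ⊥) (hnil : Group.IsNilpotent K) (hTI : Cfsg.IsTISubset (K : Set G)) (hlt : K < Subgroup.normalizer (K : Set G)) (hC : ∀ k ∈ K, k ≠ 1 → Subgroup.centralizer ({k} : Set G) ≤ K) [Fintype ↥(Subgroup.normalizer (K : Set G))] : (Nat.card {χ : ↥(Subgroup.normalizer (K : Set G)) → ℂ // Cfsg.IsIrrCharacter ↥(Subgroup.normalizer (K : Set G)) χ ∧ ∃ k : ↥(Subgroup.normalizer (K : Set G)), (k : G) ∈ K ∧ χ k ≠ χ 1} = 1 ∧ Nat.card K = (K.subgroupOf (Subgroup.normalizer (K : Set G))).index + 1 ∧ ∃ p : ℕ, p.Prime ∧ Cfsg.IsElementaryAbelian p K) ∨ (Nat.card K = 2 ^ (Nat.card G).factorization 2 ∧ (⁅K, K⁆.subgroupOf K).index < 4 * (K.subgroupOf (Subgroup.normalizer (K : Set G))).index ^ 2) ∨ Cfsg.IsCoherent {χ : ↥(Subgroup.normalizer (K : Set G)) → ℂ | Cfsg.IsIrrCharacter ↥(Subgroup.normalizer (K : Set G)) χ ∧ ∃ k : ↥(Subgroup.normalizer (K : Set G)), (k : G) ∈ K ∧ χ k ≠ χ 1} {1}ᶜ (fun α => Cfsg.indFun (Subgroup.normalizer (K : Set G)) α) := by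
  classical
  haveI := Cfsg.Agent.Helper82.SibTI.normal_subgroupOf_normalizer K
  haveI : Fintype (K.subgroupOf (Subgroup.normalizer (K : Set G))) := Fintype.ofFinite _
  have hC' := Cfsg.Agent.Helper82.tifn_hC' K (Subgroup.normalizer (K : Set G)) hC
  have hind := Cfsg.Agent.Helper82.tifn_hind K hTI hlt hC
  have hKtop : K.subgroupOf (Subgroup.normalizer (K : Set G)) ≠ ⊤ := by
    intro h
    apply hlt.ne
    apply le_antisymm hlt.le
    intro x hx
    have : (⟨x, hx⟩ : Subgroup.normalizer (K : Set G)) ∈
        K.subgroupOf (Subgroup.normalizer (K : Set G)) := by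
      rw [h]; trivial
    exact this
  have hK : K.subgroupOf (Subgroup.normalizer (K : Set G)) ≠ ⊥ := by
    intro h
    apply hK1
    rw [eq_bot_iff]
    intro w hw
    have h1 : (⟨w, hlt.le hw⟩ : Subgroup.normalizer (K : Set G)) ∈
        K.subgroupOf (Subgroup.normalizer (K : Set G)) := hw
    rw [h, Subgroup.mem_bot] at h1
    exact congrArg Subtype.val h1
  have hset : {χ : ↥(Subgroup.normalizer (K : Set G)) → ℂ |
      Cfsg.IsIrrCharacter ↥(Subgroup.normalizer (K : Set G)) χ ∧
      ∃ x : ↥(Subgroup.normalizer (K : Set G)), (x : G) ∈ K ∧ χ x ≠ χ 1} =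
      (↑(Cfsg.Agent.Helper82.sibS (Subgroup.normalizer (K : Set G))
        (K.subgroupOf (Subgroup.normalizer (K : Set G)))) :
        Set (↥(Subgroup.normalizer (K : Set G)) → ℂ)) := by
    rw [Cfsg.Agent.Helper82.SibSylow.coe_sibS_eq_relevant _ _ hC' hKtop]
    rfl
  have hcardK : Nat.card (K.subgroupOf (Subgroup.normalizer (K : Set G))) = Nat.card K :=
    Nat.card_congr (Subgroup.subgroupOfEquivOfLe hlt.le).toEquiv
  by_cases hab : ∀ a ∈ K, ∀ b ∈ K, a * b = b * a
  · have habK : ∀ a b : K.subgroupOf (Subgroup.normalizer (K : Set G)), a * b = b * a :=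
      fun a b => Subtype.ext (Subtype.ext (hab a.1.1 a.2 b.1.1 b.2))
    by_cases hcard : 2 ≤ (Cfsg.Agent.Helper82.sibS (Subgroup.normalizer (K : Set G))
        (K.subgroupOf (Subgroup.normalizer (K : Set G)))).card
    · right; right
      rw [hset]
      exact Cfsg.Agent.Helper82.SibSylow.coherent_of_abelian _ _ hC' hind habK hK hcard
    · left
      have hne : (Cfsg.Agent.Helper82.sibS (Subgroup.normalizer (K : Set G))
          (K.subgroupOf (Subgroup.normalizer (K : Set G)))).Nonempty := by
        have hsolv : Group.IsSolvable (K.subgroupOf (Subgroup.normalizer (K : Set G))) :=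
          Group.isSolvable_of_comm habK
        obtain ⟨θ₀, hθ₀, -, -⟩ := Cfsg.Agent.Helper82.exists_linear_above
          (K.subgroupOf (Subgroup.normalizer (K : Set G)))
          (⊥ : Subgroup ↥(Subgroup.normalizer (K : Set G))) hsolv
          (bot_lt_iff_ne_bot.mpr hK)
        exact ⟨_, (Cfsg.Agent.Helper82.mem_sibS _ _ _).mpr ⟨θ₀, hθ₀, rfl⟩⟩
      have hcard1 : (Cfsg.Agent.Helper82.sibS (Subgroup.normalizer (K : Set G))
          (K.subgroupOf (Subgroup.normalizer (K : Set G)))).card = 1 := by
        have := Finset.card_pos.mpr hne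
        omega
      have hidx := Cfsg.Agent.Helper82.SibSylow.card_of_abelian_single _ _ hC' habK hKtop hcard1
      have hcardne : Nat.card K ≠ 1 := fun h => hK1 (Subgroup.card_eq_one.1 h)
      obtain ⟨p, hp, hpK⟩ := Nat.exists_prime_and_dvd hcardne
      haveI := Fact.mk hp
      refine ⟨?_, ?_, p, hp, ⟨⟨⟨fun a b => Subtype.ext (hab a a.2 b b.2)⟩⟩, ?_⟩⟩
      · have h := congrArg Set.ncard hset
        rw [Set.ncard_coe_finset, hcard1] at h
        rw [← h]
        exact Nat.card_coe_set_eq _
      · rw [← hcardK]
        exact hidx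
      · have hel := Cfsg.Agent.H3Feit.exponent_of_card _ _ hC' p habK
          (by rw [hcardK]; exact hpK) hidx
        intro a ha
        have h1 := hel ⟨a, hlt.le ha⟩ ha
        have h2 := congrArg Subtype.val h1
        rw [Subgroup.coe_pow, Subgroup.coe_one] at h2
        exact h2
  · have hnil' : Group.IsNilpotent (K.subgroupOf (Subgroup.normalizer (K : Set G))) :=
      (Group.isNilpotent_congr (Subgroup.subgroupOfEquivOfLe hlt.le)).mpr hnil
    have hne : Nat.card (K.subgroupOf (Subgroup.normalizer (K : Set G))) ≠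
        (K.subgroupOf (Subgroup.normalizer (K : Set G))).index + 1 := by
      intro h
      have habK := Cfsg.Agent.H3Feit.abelian_of_card _ _ hC' hnil' hK h
      apply hab
      intro a ha b hb
      have h2 := habK ⟨⟨a, hlt.le ha⟩, ha⟩ ⟨⟨b, hlt.le hb⟩, hb⟩
      have h3 := congrArg (fun x : ↥(K.subgroupOf (Subgroup.normalizer (K : Set G))) =>
        ((x : ↥(Subgroup.normalizer (K : Set G))) : G)) h2
      simpa using h3
    obtain ⟨hτ, hτ1⟩ := Cfsg.Agent.H3Feit.ind_isometry (Subgroup.normalizer (K : Set G))
      (K.subgroupOf (Subgroup.normalizer (K : Set G))) hC' hind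
    rw [Cfsg.Agent.Helper82.SibSylow.coe_sibS_eq_relevant _ _ hC' hKtop] at hτ hτ1
    rcases Cfsg.Agent.S1535.result (K.subgroupOf (Subgroup.normalizer (K : Set G))) hK hKtop hC'
      hne (fun α => Cfsg.indFun (Subgroup.normalizer (K : Set G)) α) hτ hτ1 with
      hcoh | ⟨p, hp, ⟨m, hm⟩, -, hidx⟩
    · right; right
      exact hcoh
    · haveI := Fact.mk hp
      have hKp : IsPGroup p K := IsPGroup.of_card (by rw [← hcardK]; exact hm)
      obtain ⟨P, hPK⟩ : ∃ P : Sylow p G, (P : Subgroup G) = K :=
        ⟨⟨K, hKp, fun {Q} hQ hKQ => le_antisymm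
          (Cfsg.Agent.H3Feit.le_of_isPGroup_of_centralizer K hK1 hC p Q hQ hKQ) hKQ⟩, rfl⟩
      by_cases hp2 : p = 2
      · right; left
        subst hp2
        refine ⟨by rw [← hPK]; exact P.card_eq_multiplicity, ?_⟩
        -- the commutator indices agree
        have hLeq1 : (⁅K, K⁆.subgroupOf K).index = (commutator K).index := by
          show (Subgroup.comap K.subtype ⁅K, K⁆).index = _
          rw [← Subgroup.map_subtype_commutator,
            Subgroup.comap_map_eq_self_of_injective K.subtype_injective]
        have hLeq2 : (⁅K.subgroupOf (Subgroup.normalizer (K : Set G)),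
            K.subgroupOf (Subgroup.normalizer (K : Set G))⁆.subgroupOf
            (K.subgroupOf (Subgroup.normalizer (K : Set G)))).index =
            (commutator (K.subgroupOf (Subgroup.normalizer (K : Set G)))).index := by
          show (Subgroup.comap (K.subgroupOf (Subgroup.normalizer (K : Set G))).subtype _).index = _
          rw [← Subgroup.map_subtype_commutator,
            Subgroup.comap_map_eq_self_of_injective (Subgroup.subtype_injective _)]
        have hLeq3 : (commutator K).index =
            (commutator (K.subgroupOf (Subgroup.normalizer (K : Set G)))).index :=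
          Cfsg.Agent.H3Feit.index_commutator_congr (Subgroup.subgroupOfEquivOfLe hlt.le)
        rw [hLeq2, ← hLeq3] at hidx
        rw [hLeq1]
        -- arithmetic
        have hdvdL : (commutator K).index ∣ 2 ^ m := by
          rw [← hm, hcardK]
          exact Subgroup.index_dvd_card _
        obtain ⟨j, -, hj⟩ := (Nat.dvd_prime_pow Nat.prime_two).1 hdvdL
        have hedvd := Cfsg.Agent.H3Feit.index_dvd_card_sub_one
          (K.subgroupOf (Subgroup.normalizer (K : Set G))) hC'
          (K.subgroupOf (Subgroup.normalizer (K : Set G))) le_rfl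
        rw [hm] at hedvd
        have hm0 : m ≠ 0 := by
          rintro rfl
          rw [pow_zero] at hm
          exact hK (Subgroup.card_eq_one.1 hm)
        have he0 : (K.subgroupOf (Subgroup.normalizer (K : Set G))).index ≠ 0 :=
          Subgroup.index_ne_zero_of_finite
        have he1 : (K.subgroupOf (Subgroup.normalizer (K : Set G))).index ≠ 1 :=
          fun h => hKtop (Subgroup.index_eq_one.1 h)
        set e := (K.subgroupOf (Subgroup.normalizer (K : Set G))).index with he
        have heodd : ¬ 2 ∣ e := by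
          intro h2
          have h3 : 2 ∣ 2 ^ m - 1 := h2.trans hedvd
          have h4 : 2 ∣ 2 ^ m := dvd_pow_self 2 hm0
          have h5 : 1 ≤ 2 ^ m := Nat.one_le_two_pow
          omega
        by_contra hge
        push Not at hge
        rw [hj] at hidx hge
        have hcase : 2 ^ j = 4 * e ^ 2 ∨ 2 ^ j = 4 * e ^ 2 + 1 := by omega
        rcases hcase with h | h
        · have h6 : e ∣ 2 ^ j := ⟨4 * e, by rw [h]; ring⟩
          obtain ⟨l, -, hl⟩ := (Nat.dvd_prime_pow Nat.prime_two).1 h6
          rcases Nat.eq_zero_or_pos l with hl0 | hl0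
          · rw [hl0, pow_zero] at hl
            exact he1 hl
          · apply heodd
            rw [hl]
            exact dvd_pow_self 2 hl0.ne'
        · rcases Nat.eq_zero_or_pos j with hj0 | hj0
          · rw [hj0, pow_zero] at h
            have : e ^ 2 = 0 := by omega
            exact he0 ((pow_eq_zero_iff (two_ne_zero)).1 this)
          · have h7 : 2 ∣ 2 ^ j := dvd_pow_self 2 hj0.ne'
            omega
      · right; right
        subst hPK
        rcases Cfsg.Agent.S1533.result p hp2 P hK1 hTI hlt hC with ⟨-, hel, -⟩ | hcoh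
        · exfalso
          apply hab
          intro a ha b hb
          have := hel.1.is_comm.comm ⟨a, ha⟩ ⟨b, hb⟩
          exact congrArg Subtype.val this
        · exact hcoh

end Cfsg.Agent.S1534
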