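import Cfsg.Statements.S0752
import Mathlib

set_option autoImplicit false
open Cfsg

namespace Cfsg.Agent.S0752

variable {F : Type*} [Field F]

/-- the family version -/
def Q {V : Type*} [AddCommGroup V] [Module F V] (B : LinearMap.BilinForm F V) : Prop :=
  ∃ (m k : ℕ) (e f : Fin m → V) (r : Fin k → V),
    (∀ i j, B (e i) (f j) = if i = j then 1 else 0) ∧
    (∀ i j, B (e i) (e j) = 0) ∧ (∀ i j, B (f i) (f j) = 0) ∧
    (∀ j v, B (r j) v = 0) ∧
    (⊤ ≤ Submodule.span F (Set.range (Sum.elim (Sum.elim e f) r))) ∧
    2 * m + k = Module.finrank F V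

theorem Q_of_finrank (n : ℕ) : ∀ {V : Type*} [AddCommGroup V] [Module F V] [FiniteDimensional F V]
    (B : LinearMap.BilinForm F V), B.IsAlt → Module.finrank F V = n → Q B := by
  induction n using Nat.strong_induction_on with
  | _ n ih =>
  intro V _ _ _ B hA hn
  have hskew : ∀ x y, B x y = - B y x := fun x y => (hA.neg_eq y x).symm
  by_cases hB : ∀ u v, B u v = 0
  · -- B = 0
    refine ⟨0, Module.finrank F V, Fin.elim0, Fin.elim0, Module.finBasis F V,
      fun i => i.elim0, fun i => i.elim0, fun i => i.elim0, fun j v => hB _ _, ?_, by simp⟩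
    rw [← (Module.finBasis F V).span_eq]
    apply Submodule.span_mono
    rintro _ ⟨j, rfl⟩
    exact ⟨Sum.inr j, rfl⟩
  · push Not at hB
    obtain ⟨u₀, v, huv⟩ := hB
    set u := (B u₀ v)⁻¹ • u₀ with hu
    have huv1 : B u v = 1 := by
      rw [hu, map_smul, LinearMap.smul_apply, smul_eq_mul, inv_mul_cancel₀ huv]
    have hvu : B v u = -1 := by rw [hskew, huv1]
    have huu : B u u = 0 := hA u
    have hvv : B v v = 0 := hA v
    -- the complement
    set φ : V →ₗ[F] F × F := (B u).prod (B v) with hφ
    set W : Submodule F V := LinearMap.ker φ with hW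
    have hWmem : ∀ w, w ∈ W ↔ B u w = 0 ∧ B v w = 0 := by
      intro w
      rw [hW, LinearMap.mem_ker, hφ, LinearMap.prod_apply]
      exact Prod.mk_eq_zero
    have hsurj : Function.Surjective φ := by
      rintro ⟨a, b⟩
      refine ⟨a • v - b • u, ?_⟩
      rw [hφ, LinearMap.prod_apply]
      apply Prod.ext
      · change B u (a • v - b • u) = a
        simp only [map_sub, map_smul, smul_eq_mul, huv1, huu]; ring
      · change B v (a • v - b • u) = b
        simp only [map_sub, map_smul, smul_eq_mul, hvv, hvu]; ring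
    have hrank : Module.finrank F W + 2 = Module.finrank F V := by
      have h1 := LinearMap.finrank_range_add_finrank_ker φ
      rw [LinearMap.range_eq_top.mpr hsurj, finrank_top, Module.finrank_prod,
        Module.finrank_self, ← hW] at h1
      omega
    -- decomposition
    have hdecomp : ∀ x : V, x - (B x v) • u - (B u x) • v ∈ W := by
      intro x
      rw [hWmem]
      constructor
      · simp only [map_sub, map_smul, smul_eq_mul, huu, huv1]; ring
      · simp only [map_sub, map_smul, smul_eq_mul, hvu, hvv, hskew v x]; ring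
    -- induction hypothesis
    have hlt : Module.finrank F W < n := by omega
    obtain ⟨m', k', e', f', r', h1, h2, h3, h4, h5, h6⟩ :=
      ih (Module.finrank F W) hlt (B.restrict W) (fun x => hA x) rfl
    have hW1 : ∀ w : W, B u w = 0 := fun w => ((hWmem w).mp w.2).1
    have hW2 : ∀ w : W, B v w = 0 := fun w => ((hWmem w).mp w.2).2
    have hW1' : ∀ w : W, B w u = 0 := fun w => by rw [hskew, hW1, neg_zero]
    have hW2' : ∀ w : W, B w v = 0 := fun w => by rw [hskew, hW2, neg_zero]
    refine ⟨m' + 1, k', Fin.cons u (fun i => (e' i : V)), Fin.cons v (fun i => (f' i : V)),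
      fun j => (r' j : V), ?_, ?_, ?_, ?_, ?_, by omega⟩
    · intro i j
      refine Fin.cases ?_ (fun i => ?_) i <;> refine Fin.cases ?_ (fun j => ?_) j
      · simp [huv1]
      · simp only [Fin.cons_zero, Fin.cons_succ, hW1]
        rw [if_neg (Fin.succ_ne_zero j).symm]
      · simp only [Fin.cons_zero, Fin.cons_succ, hW2']
        rw [if_neg (Fin.succ_ne_zero i)]
      · simp only [Fin.cons_succ, Fin.succ_inj]
        exact h1 i j
    · intro i j
      refine Fin.cases ?_ (fun i => ?_) i <;> refine Fin.cases ?_ (fun j => ?_) j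
      · simp [huu]
      · simp only [Fin.cons_zero, Fin.cons_succ, hW1]
      · simp only [Fin.cons_zero, Fin.cons_succ, hW1']
      · simp only [Fin.cons_succ]
        exact h2 i j
    · intro i j
      refine Fin.cases ?_ (fun i => ?_) i <;> refine Fin.cases ?_ (fun j => ?_) j
      · simp [hvv]
      · simp only [Fin.cons_zero, Fin.cons_succ, hW2]
      · simp only [Fin.cons_zero, Fin.cons_succ, hW2']
      · simp only [Fin.cons_succ]
        exact h3 i j
    · intro j x
      have hx := hdecomp x
      have e : x = (⟨_, hx⟩ : W) + (B x v) • u + (B u x) • v := by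
        simp only; abel
      rw [e]
      simp only [map_add, map_smul, smul_eq_mul, hW1', hW2', mul_zero, add_zero]
      exact h4 j ⟨_, hx⟩
    · -- spanning
      set S := Submodule.span F (Set.range (Sum.elim (Sum.elim
        (Fin.cons u (fun i => (e' i : V)) : Fin (m' + 1) → V)
        (Fin.cons v (fun i => (f' i : V)))) (fun j => (r' j : V)))) with hS
      have huS : u ∈ S := Submodule.subset_span ⟨Sum.inl (Sum.inl 0), by simp⟩
      have hvS : v ∈ S := Submodule.subset_span ⟨Sum.inl (Sum.inr 0), by simp⟩
      have hWS : ∀ w : W, (w : V) ∈ S := by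
        intro w
        have hw : w ∈ Submodule.span F (Set.range (Sum.elim (Sum.elim e' f') r')) := h5 Submodule.mem_top
        have := Submodule.apply_mem_span_image_of_mem_span W.subtype hw
        rw [Submodule.subtype_apply] at this
        refine Submodule.span_mono ?_ this
        rintro _ ⟨_, ⟨(i | i) | j, rfl⟩, rfl⟩
        · exact ⟨Sum.inl (Sum.inl i.succ), by simp⟩
        · exact ⟨Sum.inl (Sum.inr i.succ), by simp⟩
        · exact ⟨Sum.inr j, by simp⟩
      intro x _
      have hx := hdecomp x
      have e : x = (⟨_, hx⟩ : W) + (B x v) • u + (B u x) • v := by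
        simp only; abel
      rw [e]
      exact S.add_mem (S.add_mem (hWS _) (S.smul_mem _ huS)) (S.smul_mem _ hvS)

/-- Classification of alternating forms: for an alternating bilinear form B on a finite-dimensional space over any field there is a basis indexed by (Fin m ⊕ Fin m) ⊕ Fin k such that B (e_i, f_j) = δ_ij, the e's are pairwise orthogonal, the f's are pairwise orthogonal, and the last k basis vectors are orthogonal to everything (they span the radical). -/
theorem result {F V : Type*} [Field F] [AddCommGroup V] [Module F V] [FiniteDimensional F V] (B : LinearMap.BilinForm F V) (hA : B.IsAlt) : ∃ (m k : ℕ) (b : Module.Basis ((Fin m ⊕ Fin m) ⊕ Fin k) F V), (∀ i j : Fin m, B (b (Sum.inl (Sum.inl i))) (b (Sum.inl (Sum.inr j))) = if i = j then 1 else 0) ∧ (∀ i j : Fin m, B (b (Sum.inl (Sum.inl i))) (b (Sum.inl (Sum.inl j))) = 0) ∧ (∀ i j : Fin m, B (b (Sum.inl (Sum.inr i))) (b (Sum.inl (Sum.inr j))) = 0) ∧ (∀ (j : Fin k) (v : V), B (b (Sum.inr j)) v = 0) := by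
  obtain ⟨m, k, e, f, r, h1, h2, h3, h4, h5, h6⟩ := Q_of_finrank (Module.finrank F V) B hA rfl
  have hcard : Fintype.card ((Fin m ⊕ Fin m) ⊕ Fin k) = Module.finrank F V := by
    simp only [Fintype.card_sum, Fintype.card_fin]; omega
  refine ⟨m, k, basisOfTopLeSpanOfCardEqFinrank (Sum.elim (Sum.elim e f) r) h5 hcard, ?_, ?_, ?_, ?_⟩
  all_goals rw [coe_basisOfTopLeSpanOfCardEqFinrank]
  · exact h1
  · exact h2
  · exact h3
  · exact h4

end Cfsg.Agent.S0752
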