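import Mathlib
import Cfsg.Statements.S0794
import Cfsg.Agent.Lib.Helper13.QuadMat

set_option autoImplicit false
open Cfsg

namespace Cfsg.Agent.S0794

open Matrix Cfsg.Agent.Helper13 QuadraticMap
open scoped commutatorElement

section

variable {F : Type*} [Field F] {ι : Type} [Fintype ι] [DecidableEq ι]
  (Q : QuadraticForm F (ι → F))

/-- Eichler transformation matrix -/
def eichM (u w : ι → F) : Matrix ι ι F :=
  1 + Matrix.vecMulVec w (Cfsg.polarVec (⇑Q) u) - Matrix.vecMulVec u (Cfsg.polarVec (⇑Q) w)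
    - Q w • Matrix.vecMulVec u (Cfsg.polarVec (⇑Q) u)

theorem eichM_mulVec (u w x : ι → F) :
    eichM Q u w *ᵥ x = x + polar (⇑Q) u x • w - polar (⇑Q) w x • u
      - (Q w * polar (⇑Q) u x) • u := by
  unfold eichM
  rw [Matrix.sub_mulVec, Matrix.sub_mulVec, Matrix.add_mulVec, Matrix.one_mulVec,
    Matrix.smul_mulVec, vecMulVec_mulVec', vecMulVec_mulVec', vecMulVec_mulVec',
    polarVec_dotProduct, polarVec_dotProduct, smul_smul]

theorem Q_combo (x u w : ι → F) (a d : F) (hu : Q u = 0) (huw : polar (⇑Q) u w = 0) :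
    Q (x + (a • w + d • u)) = Q x + a * a * Q w + (a * polar (⇑Q) x w + d * polar (⇑Q) x u) := by
  rw [QuadraticMap.map_add Q x, QuadraticMap.map_add Q (a • w), QuadraticMap.map_smul,
    QuadraticMap.map_smul, hu, polar_add_right, polar_smul_right, polar_smul_right,
    polar_smul_left, polar_smul_right, polar_comm (⇑Q) w u, huw]
  simp only [smul_eq_mul]
  ring

theorem eichM_isometry (u w : ι → F) (hu : Q u = 0) (huw : polar (⇑Q) u w = 0) (x : ι → F) :
    Q (eichM Q u w *ᵥ x) = Q x := by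
  rw [eichM_mulVec]
  have : x + polar (⇑Q) u x • w - polar (⇑Q) w x • u - (Q w * polar (⇑Q) u x) • u =
      x + (polar (⇑Q) u x • w + (-(polar (⇑Q) w x) - Q w * polar (⇑Q) u x) • u) := by
    module
  rw [this, Q_combo Q x u w _ _ hu huw, polar_comm (⇑Q) x w, polar_comm (⇑Q) x u]
  ring

theorem mat_ext_mulVec {M N : Matrix ι ι F} (h : ∀ v, M *ᵥ v = N *ᵥ v) : M = N := by
  apply Matrix.toLin'.injective
  apply LinearMap.ext
  intro v
  simp only [Matrix.toLin'_apply]
  exact h v

theorem eichM_mul (u w w' : ι → F) (hu : Q u = 0) (huw : polar (⇑Q) u w = 0)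
    (huw' : polar (⇑Q) u w' = 0) : eichM Q u w * eichM Q u w' = eichM Q u (w + w') := by
  apply mat_ext_mulVec
  intro x
  rw [← Matrix.mulVec_mulVec, eichM_mulVec Q u w', eichM_mulVec Q u w, eichM_mulVec Q u (w + w')]
  have huu : polar (⇑Q) u u = 0 := by rw [polar_self, hu, smul_zero]
  have hwu : polar (⇑Q) w u = 0 := by rw [polar_comm, huw]
  have h1 : polar (⇑Q) u (x + polar (⇑Q) u x • w' - polar (⇑Q) w' x • u -
      (Q w' * polar (⇑Q) u x) • u) = polar (⇑Q) u x := by
    rw [polar_sub_right, polar_sub_right, polar_add_right, polar_smul_right, polar_smul_right,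
      polar_smul_right, huu, huw']
    simp
  have h2 : polar (⇑Q) w (x + polar (⇑Q) u x • w' - polar (⇑Q) w' x • u -
      (Q w' * polar (⇑Q) u x) • u) = polar (⇑Q) w x + polar (⇑Q) u x * polar (⇑Q) w w' := by
    rw [polar_sub_right, polar_sub_right, polar_add_right, polar_smul_right, polar_smul_right,
      polar_smul_right, hwu]
    simp
  rw [h1, h2, polar_add_left, QuadraticMap.map_add Q w w']
  module

theorem eichM_zero (u : ι → F) : eichM Q u 0 = 1 := by
  apply mat_ext_mulVec
  intro x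
  rw [eichM_mulVec, Matrix.one_mulVec, polar_zero_left, QuadraticMap.map_zero]
  simp

theorem eichM_smul_eq_siegel (u v : ι → F) (c : F) (hv : Q v = 0) :
    eichM Q u (c • v) = Cfsg.siegelMatrix (⇑Q) u v c := by
  apply mat_ext_mulVec
  intro x
  rw [eichM_mulVec, siegelMatrix_mulVec, polar_smul_left, QuadraticMap.map_smul, hv]
  simp only [smul_eq_mul, mul_zero, zero_mul, zero_smul, sub_zero]
  module

theorem polar_of_isometry (M : Matrix ι ι F) (hM : ∀ x, Q (M *ᵥ x) = Q x) (x y : ι → F) :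
    polar (⇑Q) (M *ᵥ x) (M *ᵥ y) = polar (⇑Q) x y := by
  unfold polar
  rw [← Matrix.mulVec_add, hM, hM, hM]

theorem eichM_conj (M M' : Matrix ι ι F) (hMM' : M * M' = 1) (hM : ∀ x, Q (M *ᵥ x) = Q x)
    (u w : ι → F) : M * eichM Q u w * M' = eichM Q (M *ᵥ u) (M *ᵥ w) := by
  apply mat_ext_mulVec
  intro x
  rw [← Matrix.mulVec_mulVec, ← Matrix.mulVec_mulVec, eichM_mulVec, eichM_mulVec]
  have hx : M *ᵥ (M' *ᵥ x) = x := by
    rw [Matrix.mulVec_mulVec, hMM', Matrix.one_mulVec]
  have h1 : ∀ y, polar (⇑Q) y (M' *ᵥ x) = polar (⇑Q) (M *ᵥ y) x := by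
    intro y
    rw [← polar_of_isometry Q M hM y (M' *ᵥ x), hx]
  rw [h1 u, h1 w, hM w]
  simp only [Matrix.mulVec_sub, Matrix.mulVec_add, Matrix.mulVec_smul, hx]

end

theorem exists_nonsingular_perp {F : Type*} [Field F] {n : ℕ} (hn : 5 ≤ n)
    (Q : QuadraticForm F (Fin n → F)) (hQ : (QuadraticMap.polarBilin Q).Nondegenerate)
    (u v : Fin n → F) :
    ∃ w, polar (⇑Q) u w = 0 ∧ polar (⇑Q) v w = 0 ∧ Q w ≠ 0 := by
  classical
  by_contra hcon
  push Not at hcon
  set B : LinearMap.BilinForm F (Fin n → F) := QuadraticMap.polarBilin Q with hB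
  set P := B.orthogonal (Submodule.span F {u, v}) with hP
  have hfrP : Module.finrank F P = n - Module.finrank F (Submodule.span F ({u, v} : Set (Fin n → F))) := by
    rw [hP, LinearMap.BilinForm.finrank_orthogonal hQ, Module.finrank_fin_fun]
  have hspan : Module.finrank F (Submodule.span F ({u, v} : Set (Fin n → F))) ≤ 2 := by
    have := finrank_span_finset_le_card (R := F) ({u, v} : Finset (Fin n → F))
    rw [Finset.coe_insert, Finset.coe_singleton] at this
    exact le_trans this Finset.card_le_two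
  have hPQ : ∀ w ∈ P, Q w = 0 := by
    intro w hw
    rw [hP, LinearMap.BilinForm.mem_orthogonal_iff] at hw
    apply hcon w
    · have := hw u (Submodule.subset_span (by simp))
      rwa [hB, QuadraticMap.polarBilin_apply_apply] at this
    · have := hw v (Submodule.subset_span (by simp))
      rwa [hB, QuadraticMap.polarBilin_apply_apply] at this
  have hPP : P ≤ B.orthogonal P := by
    intro w hw
    rw [LinearMap.BilinForm.mem_orthogonal_iff]
    intro p hp
    rw [hB, QuadraticMap.polarBilin_apply_apply]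
    unfold polar
    rw [hPQ _ (P.add_mem hp hw), hPQ p hp, hPQ w hw]
    simp
  have h1 := Submodule.finrank_mono hPP
  have h3 : Module.finrank F (B.orthogonal P) = n - Module.finrank F P := by
    rw [LinearMap.BilinForm.finrank_orthogonal hQ, Module.finrank_fin_fun]
  omega

/-- For q odd, n ≥ 5 and Q with non-degenerate polar form: an isometry whose matrix is a Siegel transformation T_(u,v)(c) (u, v singular and orthogonal) is a commutator in the isometry group, so lies in Ω. -/
theorem result {F : Type*} [Field F] [Fintype F] (h2 : (2 : F) ≠ 0) {n : ℕ} (hn : 5 ≤ n) (Q : QuadraticForm F (Fin n → F)) (hQ : (QuadraticMap.polarBilin Q).Nondegenerate) (u v : Fin n → F) (hu : Q u = 0) (hv : Q v = 0) (huv : QuadraticMap.polar ⇑Q u v = 0) (c : F) (g : ↥(Cfsg.isometryGroup F ⇑Q)) (hg : ((g : Matrix.GeneralLinearGroup (Fin n) F) : Matrix (Fin n) (Fin n) F) = Cfsg.siegelMatrix ⇑Q u v c) : g ∈ commutatorSet ↥(Cfsg.isometryGroup F ⇑Q) ∧ g ∈ Cfsg.Omega F ⇑Q := by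
  obtain ⟨w, huw, hvw, hQw⟩ := exists_nonsingular_perp hn Q hQ u v
  have hvu : polar (⇑Q) v u = 0 := by rw [polar_comm, huv]
  set t : F := -c / (2 * Q w) with ht
  set z : Fin n → F := t • w with hz
  have hvz : polar (⇑Q) v z = 0 := by rw [hz, polar_smul_right, hvw, smul_zero]
  have hvz' : polar (⇑Q) v (-z) = 0 := by rw [polar_neg_right, hvz, neg_zero]
  have huw' : polar (⇑Q) u (-w) = 0 := by rw [polar_neg_right, huw, neg_zero]
  have hzu : polar (⇑Q) z u = 0 := by rw [hz, polar_smul_left, polar_comm, huw, smul_zero]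
  have hzw : polar (⇑Q) z w = -c := by
    rw [hz, polar_smul_left, polar_self, ht, smul_eq_mul, nsmul_eq_mul]
    push_cast
    field_simp
  -- the two isometries
  have e1 : eichM Q v z * eichM Q v (-z) = 1 := by
    rw [eichM_mul Q v z (-z) hv hvz hvz', add_neg_cancel, eichM_zero]
  have e1' : eichM Q v (-z) * eichM Q v z = 1 := by
    rw [eichM_mul Q v (-z) z hv hvz' hvz, neg_add_cancel, eichM_zero]
  have e2 : eichM Q u w * eichM Q u (-w) = 1 := by
    rw [eichM_mul Q u w (-w) hu huw huw', add_neg_cancel, eichM_zero]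
  have e2' : eichM Q u (-w) * eichM Q u w = 1 := by
    rw [eichM_mul Q u (-w) w hu huw' huw, neg_add_cancel, eichM_zero]
  let G1 : Matrix.GeneralLinearGroup (Fin n) F := ⟨eichM Q v z, eichM Q v (-z), e1, e1'⟩
  let G2 : Matrix.GeneralLinearGroup (Fin n) F := ⟨eichM Q u w, eichM Q u (-w), e2, e2'⟩
  have hG1 : G1 ∈ Cfsg.isometryGroup F ⇑Q := by
    intro x _
    exact eichM_isometry Q v z hv hvz x
  have hG2 : G2 ∈ Cfsg.isometryGroup F ⇑Q := by
    intro x _
    exact eichM_isometry Q u w hu huw x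
  have hM1u : eichM Q v z *ᵥ u = u := by
    rw [eichM_mulVec, hvu, hzu]
    simp
  have hM1w : eichM Q v z *ᵥ w = w + c • v := by
    rw [eichM_mulVec, hvw, hzw]
    simp
  have hcomm : (⁅(⟨G1, hG1⟩ : ↥(Cfsg.isometryGroup F ⇑Q)), ⟨G2, hG2⟩⁆ :
      ↥(Cfsg.isometryGroup F ⇑Q)) = g := by
    apply Subtype.ext
    apply Units.ext
    rw [hg]
    change eichM Q v z * eichM Q u w * eichM Q v (-z) * eichM Q u (-w) = _
    rw [eichM_conj Q (eichM Q v z) (eichM Q v (-z)) e1 (eichM_isometry Q v z hv hvz) u w,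
      hM1u, hM1w, eichM_mul Q u (w + c • v) (-w) hu
        (by rw [polar_add_right, polar_smul_right, huw, huv]; simp) huw',
      add_neg_cancel_comm, eichM_smul_eq_siegel Q u v c hv]
  have hmem : g ∈ commutatorSet ↥(Cfsg.isometryGroup F ⇑Q) := ⟨_, _, hcomm⟩
  refine ⟨hmem, ?_⟩
  unfold Cfsg.Omega
  rw [commutator_eq_closure]
  exact Subgroup.subset_closure hmem

end Cfsg.Agent.S0794
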