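import Mathlib
import Cfsg.Statements.S0795
import Cfsg.Agent.Lib.Helper14.ReflGen
import Cfsg.Agent.Lib.Helper14.ReflClass
import Cfsg.Agent.Lib.Helper43.QuadWitt

set_option autoImplicit false
open Cfsg

namespace Cfsg.Agent.S0795

open Matrix QuadraticMap Cfsg.Agent.Helper13 Cfsg.Agent.S0794 Cfsg.Agent.Helper14.ReflGen
open scoped commutatorElement

/-- if the generators commute modulo a normal subgroup, the commutator subgroup lies in it -/
theorem commutator_le_of_gens {G : Type*} [Group G] (S : Set G)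
    (hgen : Subgroup.closure S = ⊤) (K : Subgroup G) [hK : K.Normal]
    (h : ∀ s ∈ S, ∀ t ∈ S, s * t * s⁻¹ * t⁻¹ ∈ K) : commutator G ≤ K := by
  have hst : ∀ s ∈ S, ∀ t ∈ S, (QuotientGroup.mk' K s) * (QuotientGroup.mk' K t) =
      (QuotientGroup.mk' K t) * (QuotientGroup.mk' K s) := by
    intro s hs t ht
    have := (QuotientGroup.eq_one_iff (N := K) _).mpr (h s hs t ht)
    rw [← QuotientGroup.mk'_apply, map_mul, map_mul, map_mul, map_inv, map_inv] at this
    calc _ = (QuotientGroup.mk' K s * QuotientGroup.mk' K t * (QuotientGroup.mk' K s)⁻¹ *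
          (QuotientGroup.mk' K t)⁻¹) * (QuotientGroup.mk' K t * QuotientGroup.mk' K s) := by group
      _ = _ := by rw [this, one_mul]
  have step1 : ∀ t ∈ S, ∀ x ∈ Subgroup.closure S, (QuotientGroup.mk' K x) * (QuotientGroup.mk' K t) =
      (QuotientGroup.mk' K t) * (QuotientGroup.mk' K x) := by
    intro t ht x hx
    induction hx using Subgroup.closure_induction with
    | mem s hs => exact hst s hs t ht
    | one => simp
    | mul a b _ _ ha hb =>
      rw [map_mul, mul_assoc, hb, ← mul_assoc, ha, mul_assoc]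
    | inv a _ ha =>
      rw [map_inv]
      calc _ = (QuotientGroup.mk' K a)⁻¹ * (QuotientGroup.mk' K t * QuotientGroup.mk' K a) *
            (QuotientGroup.mk' K a)⁻¹ := by group
        _ = (QuotientGroup.mk' K a)⁻¹ * (QuotientGroup.mk' K a * QuotientGroup.mk' K t) *
            (QuotientGroup.mk' K a)⁻¹ := by rw [ha]
        _ = _ := by group
  have step2 : ∀ y ∈ Subgroup.closure S, ∀ x : G, (QuotientGroup.mk' K x) * (QuotientGroup.mk' K y) =
      (QuotientGroup.mk' K y) * (QuotientGroup.mk' K x) := by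
    intro y hy
    induction hy using Subgroup.closure_induction with
    | mem t ht => intro x; exact step1 t ht x (hgen ▸ Subgroup.mem_top x)
    | one => intro x; simp
    | mul a b _ _ ha hb =>
      intro x
      rw [map_mul, ← mul_assoc, ha, mul_assoc, hb, ← mul_assoc]
    | inv a _ ha =>
      intro x
      rw [map_inv]
      calc _ = (QuotientGroup.mk' K a)⁻¹ * (QuotientGroup.mk' K a * QuotientGroup.mk' K x) *
            (QuotientGroup.mk' K a)⁻¹ := by group
        _ = (QuotientGroup.mk' K a)⁻¹ * (QuotientGroup.mk' K x * QuotientGroup.mk' K a) *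
            (QuotientGroup.mk' K a)⁻¹ := by rw [ha]
        _ = _ := by group
  rw [commutator_eq_closure, Subgroup.closure_le]
  rintro _ ⟨a, b, rfl⟩
  rw [SetLike.mem_coe, ← QuotientGroup.eq_one_iff (N := K), ← QuotientGroup.mk'_apply,
    commutatorElement_def, map_mul, map_mul, map_mul, map_inv, map_inv,
    step2 b (hgen ▸ Subgroup.mem_top b) a]
  group

/-- elements of a closure inside a subgroup lie in the closure taken in the subgroup -/
theorem closure_subtype_mem {G : Type*} [Group G] (H : Subgroup G) (S : Set G)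
    (hS : S ⊆ H) (x : G) (hx : x ∈ Subgroup.closure S) :
    ∃ hxH : x ∈ H, (⟨x, hxH⟩ : H) ∈ Subgroup.closure {g : H | (g : G) ∈ S} := by
  induction hx using Subgroup.closure_induction with
  | mem x hx => exact ⟨hS hx, Subgroup.subset_closure hx⟩
  | one => exact ⟨H.one_mem, Subgroup.one_mem _⟩
  | mul x y _ _ ihx ihy =>
    obtain ⟨hx1, hx2⟩ := ihx
    obtain ⟨hy1, hy2⟩ := ihy
    exact ⟨H.mul_mem hx1 hy1, Subgroup.mul_mem _ hx2 hy2⟩
  | inv x _ ih =>
    obtain ⟨hx1, hx2⟩ := ih
    exact ⟨H.inv_mem hx1, Subgroup.inv_mem _ hx2⟩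

section

variable {F : Type*} [Field F] {ι : Type} [Fintype ι] [DecidableEq ι]
  (Q : QuadraticForm F (ι → F))

/-- the subgroup of `GL` generated by the Siegel transformations -/
def SG : Subgroup (GL ι F) :=
  Subgroup.closure {g | ∃ (u v : ι → F) (c : F), Q u = 0 ∧ Q v = 0 ∧ polar (⇑Q) u v = 0 ∧
    (g : Matrix ι ι F) = Cfsg.siegelMatrix (⇑Q) u v c}

theorem refl_neg (v : ι → F) :
    Cfsg.reflectionMatrix (⇑Q) (-v) = Cfsg.reflectionMatrix (⇑Q) v := by
  apply mat_ext_mulVec
  intro x
  rw [reflectionMatrix_mulVec, reflectionMatrix_mulVec, QuadraticMap.map_neg, polar_neg_left]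
  module

/-- a nondegenerate subspace of codimension at least two has a universal orthogonal complement -/
theorem exists_perp_value [Finite F] (hQ : (polarBilin Q).Nondegenerate)
    (H : Submodule F (ι → F))
    (hH : Disjoint H (LinearMap.BilinForm.orthogonal (polarBilin Q) H))
    (hdim : Module.finrank F H + 2 ≤ Fintype.card ι) (m : F) (hm : m ≠ 0) :
    ∃ y, (∀ h ∈ H, polar (⇑Q) h y = 0) ∧ Q y = m := by
  set Q' : QuadraticForm F (ι → F) := m⁻¹ • Q with hQ'
  have hpol : ∀ x y, polar (⇑Q') x y = m⁻¹ * polar (⇑Q) x y := by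
    intro x y
    rw [hQ', FunLike.coe_smul, QuadraticMap.polar_smul, smul_eq_mul]
  have hm' : m⁻¹ ≠ 0 := inv_ne_zero hm
  have hQ'nd : (polarBilin Q').Nondegenerate := by
    constructor
    · intro x hx
      apply hQ.1 x
      intro y
      have := hx y
      rw [polarBilin_apply_apply, hpol] at this
      rw [polarBilin_apply_apply]
      exact (mul_eq_zero.mp this).resolve_left hm'
    · intro x hx
      apply hQ.2 x
      intro y
      have := hx y
      rw [polarBilin_apply_apply, hpol] at this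
      rw [polarBilin_apply_apply]
      exact (mul_eq_zero.mp this).resolve_left hm'
  have horth : LinearMap.BilinForm.orthogonal (polarBilin Q') H =
      LinearMap.BilinForm.orthogonal (polarBilin Q) H := by
    ext z
    rw [LinearMap.BilinForm.mem_orthogonal_iff, LinearMap.BilinForm.mem_orthogonal_iff]
    constructor
    · intro h n hn
      have := h n hn
      rw [polarBilin_apply_apply, hpol] at this
      rw [polarBilin_apply_apply]
      exact (mul_eq_zero.mp this).resolve_left hm'
    · intro h n hn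
      have := h n hn
      rw [polarBilin_apply_apply] at this
      rw [polarBilin_apply_apply, hpol, this, mul_zero]
  have hH' : Disjoint H (LinearMap.BilinForm.orthogonal (polarBilin Q') H) := by
    rw [horth]; exact hH
  obtain ⟨-, hnd, hfr⟩ := Cfsg.Agent.Helper43.orthogonal_props Q' hQ'nd H hH'
  have h2 : 2 ≤ Module.finrank F (LinearMap.BilinForm.orthogonal (polarBilin Q') H) := by
    rw [hfr, Module.finrank_fintype_fun_eq_card]
    omega
  obtain ⟨⟨y, hy⟩, hy1⟩ := Cfsg.Agent.Helper43.exists_eq_one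
    (Cfsg.Agent.Helper43.qrestrict Q' (LinearMap.BilinForm.orthogonal (polarBilin Q') H)) hnd h2
  refine ⟨y, ?_, ?_⟩
  · intro h hh
    rw [horth, LinearMap.BilinForm.mem_orthogonal_iff] at hy
    have := hy h hh
    rwa [polarBilin_apply_apply] at this
  · rw [Cfsg.Agent.Helper43.qrestrict_apply] at hy1
    change Q' y = 1 at hy1
    rw [hQ', _root_.smul_apply, smul_eq_mul] at hy1
    field_simp at hy1
    exact hy1

/-- every Eichler transformation is a product of Siegel transformations -/
theorem eichGL_mem_SG [Finite F] (hQ : (polarBilin Q).Nondegenerate) (h2 : (2 : F) ≠ 0)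
    (hn : 5 ≤ Fintype.card ι) (u w : ι → F) (hu : Q u = 0) (huw : polar (⇑Q) u w = 0) :
    eichGL Q u w hu huw ∈ SG Q := by
  by_cases hw : Q w = 0
  · apply Subgroup.subset_closure
    refine ⟨u, w, 1, hu, hw, huw, ?_⟩
    change eichM Q u w = _
    rw [← eichM_smul_eq_siegel Q u w 1 hw, one_smul]
  by_cases hu0 : u = 0
  · have : eichGL Q u w hu huw = 1 := by
      apply Units.ext
      change eichM Q u w = 1
      apply mat_ext_mulVec
      intro x
      rw [eichM_mulVec, hu0, polar_zero_left]
      simp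
    rw [this]
    exact Subgroup.one_mem _
  obtain ⟨u', hu', huu'⟩ := Cfsg.Agent.Helper43.exists_hyperbolic_partner Q hQ u hu0 hu
  set H : Submodule F (ι → F) := Submodule.span F {u, u', w} with hHdef
  have hwu : polar (⇑Q) w u = 0 := by rw [polar_comm, huw]
  have hu'u : polar (⇑Q) u' u = 1 := by rw [polar_comm, huu']
  have hH : Disjoint H (LinearMap.BilinForm.orthogonal (polarBilin Q) H) := by
    rw [Submodule.disjoint_def]
    intro z hz hz'
    rw [LinearMap.BilinForm.mem_orthogonal_iff] at hz'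
    obtain ⟨α, β, γ, rfl⟩ := Submodule.mem_span_triple.mp hz
    have e1 := hz' u (Submodule.subset_span (by simp))
    have e2 := hz' w (Submodule.subset_span (by simp))
    have e3 := hz' u' (Submodule.subset_span (by simp))
    rw [polarBilin_apply_apply, polar_add_right, polar_add_right, polar_smul_right,
      polar_smul_right, polar_smul_right] at e1 e2 e3
    rw [polar_self', hu, huu', huw] at e1
    rw [polar_self', hwu] at e2
    rw [polar_self', hu', hu'u] at e3
    simp only [smul_eq_mul, mul_zero, mul_one, zero_add, add_zero] at e1 e2 e3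
    have hβ : β = 0 := e1
    rw [hβ] at e2
    have hγ : γ = 0 := by
      have : γ * (2 * Q w) = 0 := by linear_combination e2
      rcases mul_eq_zero.mp this with h | h
      · exact h
      · exact absurd h (mul_ne_zero h2 hw)
    rw [hγ] at e3
    have hα : α = 0 := by linear_combination e3
    rw [hα, hβ, hγ]
    simp
  have hfin : Module.finrank F H ≤ 3 := by
    classical
    have := finrank_span_finset_le_card (R := F) ({u, u', w} : Finset (ι → F))
    rw [Finset.coe_insert, Finset.coe_insert, Finset.coe_singleton] at this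
    exact le_trans this Finset.card_le_three
  obtain ⟨y, hy, hQy⟩ := exists_perp_value Q hQ H hH (by omega) (-(Q w)) (neg_ne_zero.mpr hw)
  have hyu : polar (⇑Q) u y = 0 := hy u (Submodule.subset_span (by simp))
  have hyw : polar (⇑Q) w y = 0 := hy w (Submodule.subset_span (by simp))
  -- w = (1/2)(w+y) + (1/2)(w-y)
  have hs1 : Q (w + y) = 0 := by rw [Q_add', hQy, hyw]; ring
  have hs2 : Q (w - y) = 0 := by rw [Q_sub, hQy, hyw]; ring
  have hp1 : polar (⇑Q) u (w + y) = 0 := by rw [polar_add_right, huw, hyu, add_zero]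
  have hp2 : polar (⇑Q) u (w - y) = 0 := by rw [polar_sub_right, huw, hyu, sub_zero]
  have hp1' : polar (⇑Q) u ((2 : F)⁻¹ • (w + y)) = 0 := by
    rw [polar_smul_right, hp1, smul_zero]
  have hp2' : polar (⇑Q) u ((2 : F)⁻¹ • (w - y)) = 0 := by
    rw [polar_smul_right, hp2, smul_zero]
  have hdecomp : w = (2 : F)⁻¹ • (w + y) + (2 : F)⁻¹ • (w - y) := by
    have : (2 : F)⁻¹ • (w + y) + (2 : F)⁻¹ • (w - y) = ((2 : F)⁻¹ * 2) • w := by module
    rw [this, inv_mul_cancel₀ h2, one_smul]
  have hprod : eichGL Q u w hu huw =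
      eichGL Q u ((2 : F)⁻¹ • (w + y)) hu hp1' * eichGL Q u ((2 : F)⁻¹ • (w - y)) hu hp2' := by
    apply Units.ext
    rw [Units.val_mul]
    change eichM Q u w = eichM Q u _ * eichM Q u _
    rw [eichM_mul Q u _ _ hu hp1' hp2', ← hdecomp]
  rw [hprod]
  apply Subgroup.mul_mem
  · apply Subgroup.subset_closure
    refine ⟨u, w + y, (2 : F)⁻¹, hu, hs1, hp1, ?_⟩
    change eichM Q u _ = _
    rw [eichM_smul_eq_siegel Q u (w + y) _ hs1]
  · apply Subgroup.subset_closure
    refine ⟨u, w - y, (2 : F)⁻¹, hu, hs2, hp2, ?_⟩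
    change eichM Q u _ = _
    rw [eichM_smul_eq_siegel Q u (w - y) _ hs2]

/-- the product of two reflections in vectors of the same norm is a product of Siegel
transformations -/
theorem refl_mul_refl_mem_SG [Finite F] (hQ : (polarBilin Q).Nondegenerate) (h2 : (2 : F) ≠ 0)
    (hn : 5 ≤ Fintype.card ι) (a a' : ι → F) (ha : Q a ≠ 0) (haa' : Q a' = Q a) :
    ∃ g ∈ SG Q, (g : Matrix ι ι F) =
      Cfsg.reflectionMatrix (⇑Q) a * Cfsg.reflectionMatrix (⇑Q) a' := by
  -- the case of singular difference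
  have caseB : ∀ b : ι → F, Q b = Q a → Q (b - a) = 0 → ∃ g ∈ SG Q, (g : Matrix ι ι F) =
      Cfsg.reflectionMatrix (⇑Q) a * Cfsg.reflectionMatrix (⇑Q) b := by
    intro b hb hd
    have hab : polar (⇑Q) a b = 2 * Q a := by
      have := Q_sub Q b a
      rw [hd, hb, polar_comm (⇑Q) b a] at this
      linear_combination this
    have had : polar (⇑Q) (b - a) a = 0 := by
      rw [polar_sub_left, polar_comm (⇑Q) b a, hab, polar_self']
      ring
    set u : ι → F := (Q a)⁻¹ • (b - a) with hu
    have hQu : Q u = 0 := by rw [hu, Q_smul', hd, mul_zero]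
    have hua : polar (⇑Q) u a = 0 := by rw [hu, polar_smul_left, had, smul_zero]
    refine ⟨eichGL Q u a hQu hua, eichGL_mem_SG Q hQ h2 hn u a hQu hua, ?_⟩
    change eichM Q u a = _
    rw [eich_eq_refl_mul Q u a hQu hua ha]
    congr 2
    rw [hu, smul_smul, mul_inv_cancel₀ ha, one_smul]
    abel
  by_cases hd : Q (a' - a) = 0
  · exact caseB a' haa' hd
  by_cases hs : Q (a' + a) = 0
  · have := caseB (-a') (by rw [QuadraticMap.map_neg, haa']) (by
      have : -a' - a = -(a' + a) := by abel
      rw [this, QuadraticMap.map_neg, hs])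
    rwa [refl_neg] at this
  -- the nondegenerate plane
  set c : F := Q a with hc
  set t : F := polar (⇑Q) a a' with ht
  have hta : polar (⇑Q) a' a = t := by rw [polar_comm]
  have hQd : Q (a' - a) = 2 * c - t := by rw [Q_sub, haa', hta]; ring
  have hQs : Q (a' + a) = 2 * c + t := by rw [Q_add', haa', hta]; ring
  have hd' : 2 * c - t ≠ 0 := by rw [← hQd]; exact hd
  have hs' : 2 * c + t ≠ 0 := by rw [← hQs]; exact hs
  set H : Submodule F (ι → F) := Submodule.span F {a, a'} with hHdef
  have hH : Disjoint H (LinearMap.BilinForm.orthogonal (polarBilin Q) H) := by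
    rw [Submodule.disjoint_def]
    intro z hz hz'
    rw [LinearMap.BilinForm.mem_orthogonal_iff] at hz'
    obtain ⟨α, β, rfl⟩ := Submodule.mem_span_pair.mp hz
    have e1 := hz' a (Submodule.subset_span (by simp))
    have e2 := hz' a' (Submodule.subset_span (by simp))
    rw [polarBilin_apply_apply, polar_add_right, polar_smul_right, polar_smul_right] at e1 e2
    rw [polar_self', ← ht] at e1
    rw [polar_self', hta, haa'] at e2
    simp only [smul_eq_mul] at e1 e2
    have hα : α = 0 := by
      have : ((2 * c - t) * (2 * c + t)) * α = 0 := by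
        linear_combination (2 * c) * e1 - t * e2
      exact (mul_eq_zero.mp this).resolve_left (mul_ne_zero hd' hs')
    have hβ : β = 0 := by
      have : ((2 * c - t) * (2 * c + t)) * β = 0 := by
        linear_combination (2 * c) * e2 - t * e1
      exact (mul_eq_zero.mp this).resolve_left (mul_ne_zero hd' hs')
    rw [hα, hβ]
    simp
  have hfin : Module.finrank F H ≤ 2 := by
    classical
    have := finrank_span_finset_le_card (R := F) ({a, a'} : Finset (ι → F))
    rw [Finset.coe_insert, Finset.coe_singleton] at this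
    exact le_trans this Finset.card_le_two
  obtain ⟨y, hy, hQy⟩ := exists_perp_value Q hQ H hH (by omega) (-(2 * c + t))
    (neg_ne_zero.mpr hs')
  have hya : polar (⇑Q) a y = 0 := hy a (Submodule.subset_span (by simp))
  have hya' : polar (⇑Q) a' y = 0 := hy a' (Submodule.subset_span (by simp))
  set w : ι → F := a' + a + y with hw
  have hQw : Q w = 0 := by
    rw [hw, Q_add', hQs, hQy, polar_add_left, hya, hya']
    ring
  have hwa : polar (⇑Q) w a = 2 * c + t := by
    rw [hw, polar_add_left, polar_add_left, hta, polar_self', polar_comm (⇑Q) y a, hya]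
    ring
  set x : ι → F := (2 * c + t)⁻¹ • (a' - a) with hx
  have hwd : polar (⇑Q) w (a' - a) = 0 := by
    rw [hw, polar_add_left, polar_add_left, polar_sub_right, polar_sub_right, polar_sub_right,
      polar_self', polar_self', hta, ← ht, haa', polar_comm (⇑Q) y a', polar_comm (⇑Q) y a,
      hya, hya']
    ring
  have hwx : polar (⇑Q) w x = 0 := by rw [hx, polar_smul_right, hwd, smul_zero]
  have hwx' : polar (⇑Q) w (-x) = 0 := by rw [polar_neg_right, hwx, neg_zero]
  have hxa : polar (⇑Q) x a = (2 * c + t)⁻¹ * (t - 2 * c) := by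
    rw [hx, polar_smul_left, polar_sub_left, hta, polar_self', smul_eq_mul]
  have hQx : Q x = (2 * c + t)⁻¹ * (2 * c + t)⁻¹ * (2 * c - t) := by
    rw [hx, Q_smul', hQd]
  have hinv : (2 * c + t)⁻¹ * (2 * c + t) = 1 := inv_mul_cancel₀ hs'
  have hMa : eichM Q w x *ᵥ a = a' := by
    rw [eichM_mulVec, hwa, hxa, hQx, hx, smul_smul, mul_inv_cancel₀ hs', one_smul]
    have hcoef : (2 * c + t)⁻¹ * (t - 2 * c) +
        (2 * c + t)⁻¹ * (2 * c + t)⁻¹ * (2 * c - t) * (2 * c + t) = 0 := by
      linear_combination ((2 * c + t)⁻¹ * (2 * c - t)) * hinv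
    have : a + (a' - a) - ((2 * c + t)⁻¹ * (t - 2 * c)) • w -
        ((2 * c + t)⁻¹ * (2 * c + t)⁻¹ * (2 * c - t) * (2 * c + t)) • w =
        a' - ((2 * c + t)⁻¹ * (t - 2 * c) +
        (2 * c + t)⁻¹ * (2 * c + t)⁻¹ * (2 * c - t) * (2 * c + t)) • w := by module
    rw [this, hcoef, zero_smul, sub_zero]
  have hMM' : eichM Q w x * eichM Q w (-x) = 1 := by
    rw [eichM_mul Q w x (-x) hQw hwx hwx', add_neg_cancel, eichM_zero]
  have hconj := Cfsg.Agent.Helper14.ReflClass.refl_conj Q (eichM Q w x) (eichM Q w (-x)) hMM'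
    (eichM_isometry Q w x hQw hwx) a
  rw [hMa] at hconj
  -- conjugate the Eichler transformation by the reflection
  have hconj2 := eichM_conj Q (Cfsg.reflectionMatrix (⇑Q) a) (Cfsg.reflectionMatrix (⇑Q) a)
    (refl_sq Q a ha) (refl_isom Q a ha) w x
  have hQw2 : Q (Cfsg.reflectionMatrix (⇑Q) a *ᵥ w) = 0 := by rw [refl_isom Q a ha, hQw]
  have hwx2 : polar (⇑Q) (Cfsg.reflectionMatrix (⇑Q) a *ᵥ w)
      (Cfsg.reflectionMatrix (⇑Q) a *ᵥ x) = 0 := by
    rw [polar_of_isometry Q _ (refl_isom Q a ha), hwx]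
  refine ⟨eichGL Q _ _ hQw2 hwx2 * eichGL Q w (-x) hQw hwx',
    Subgroup.mul_mem _ (eichGL_mem_SG Q hQ h2 hn _ _ hQw2 hwx2)
      (eichGL_mem_SG Q hQ h2 hn _ _ hQw hwx'), ?_⟩
  rw [Units.val_mul]
  change eichM Q _ _ * eichM Q w (-x) = _
  rw [← hconj2, ← hconj]
  simp only [Matrix.mul_assoc]

end

/-- Generation of Ω by root elements: for q odd, n ≥ 5 and Q with non-degenerate polar form on F^n, the commutator subgroup of the isometry group equals the subgroup generated by the isometries whose matrices are Siegel transformations T_(u,v)(c) with u, v singular and orthogonal. -/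
theorem result {F : Type*} [Field F] [Fintype F] (h2 : (2 : F) ≠ 0) {n : ℕ} (hn : 5 ≤ n) (Q : QuadraticForm F (Fin n → F)) (hQ : (QuadraticMap.polarBilin Q).Nondegenerate) : Cfsg.Omega F ⇑Q = Subgroup.closure {g : ↥(Cfsg.isometryGroup F ⇑Q) | ∃ (u v : Fin n → F) (c : F), Q u = 0 ∧ Q v = 0 ∧ QuadraticMap.polar ⇑Q u v = 0 ∧ ((g : Matrix.GeneralLinearGroup (Fin n) F) : Matrix (Fin n) (Fin n) F) = Cfsg.siegelMatrix ⇑Q u v c} := by
  set K := Subgroup.closure {g : ↥(Cfsg.isometryGroup F ⇑Q) | ∃ (u v : Fin n → F) (c : F), Q u = 0 ∧ Q v = 0 ∧ QuadraticMap.polar ⇑Q u v = 0 ∧ ((g : Matrix.GeneralLinearGroup (Fin n) F) : Matrix (Fin n) (Fin n) F) = Cfsg.siegelMatrix ⇑Q u v c} with hK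
  have hcard : 5 ≤ Fintype.card (Fin n) := by rw [Fintype.card_fin]; exact hn
  apply le_antisymm
  · -- Ω ≤ K
    have hnormal : K.Normal := by
      constructor
      intro x hx g
      induction hx using Subgroup.closure_induction with
      | mem s hs =>
        obtain ⟨u, v, c, hu, hv, huv, hs⟩ := hs
        apply Subgroup.subset_closure
        set M : Matrix (Fin n) (Fin n) F := ((g : GL (Fin n) F) : Matrix (Fin n) (Fin n) F) with hM
        set M' : Matrix (Fin n) (Fin n) F :=
          (((g : GL (Fin n) F)⁻¹ : GL (Fin n) F) : Matrix (Fin n) (Fin n) F) with hM'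
        have hMM' : M * M' = 1 := by
          rw [hM, hM', ← Units.val_mul, mul_inv_cancel, Units.val_one]
        have hgQ : ∀ x, Q (M *ᵥ x) = Q x := fun x => g.2 x x
        have hMv : Q (M *ᵥ v) = 0 := by rw [hgQ, hv]
        refine ⟨M *ᵥ u, M *ᵥ v, c, by rw [hgQ, hu], hMv, by rw [polar_of_isometry Q M hgQ, huv], ?_⟩
        change M * ((s : GL (Fin n) F) : Matrix (Fin n) (Fin n) F) * M' = _
        rw [hs, ← eichM_smul_eq_siegel Q u v c hv, eichM_conj Q M M' hMM' hgQ, Matrix.mulVec_smul,
          eichM_smul_eq_siegel Q _ _ c hMv]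
      | one => simp
      | mul a b _ _ ha hb =>
        have : g * (a * b) * g⁻¹ = (g * a * g⁻¹) * (g * b * g⁻¹) := by group
        rw [this]
        exact Subgroup.mul_mem _ ha hb
      | inv a _ ha =>
        have : g * a⁻¹ * g⁻¹ = (g * a * g⁻¹)⁻¹ := by group
        rw [this]
        exact Subgroup.inv_mem _ ha
    have hgen := isometryGroup_closure_refl Q hQ (Or.inr (by rw [Fintype.card_fin]; omega))
    apply commutator_le_of_gens _ hgen K
    rintro s ⟨a, ha, hs⟩ t ⟨b, hb, ht⟩
    have hs2 : s⁻¹ = s := by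
      apply inv_eq_of_mul_eq_one_right
      apply Subtype.ext
      apply Units.ext
      change ((s : GL (Fin n) F) : Matrix (Fin n) (Fin n) F) *
        ((s : GL (Fin n) F) : Matrix (Fin n) (Fin n) F) = 1
      rw [hs]
      exact refl_sq Q a ha
    have ht2 : t⁻¹ = t := by
      apply inv_eq_of_mul_eq_one_right
      apply Subtype.ext
      apply Units.ext
      change ((t : GL (Fin n) F) : Matrix (Fin n) (Fin n) F) *
        ((t : GL (Fin n) F) : Matrix (Fin n) (Fin n) F) = 1
      rw [ht]
      exact refl_sq Q b hb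
    have hconj := Cfsg.Agent.Helper14.ReflClass.refl_conj Q (Cfsg.reflectionMatrix (⇑Q) a)
      (Cfsg.reflectionMatrix (⇑Q) a) (refl_sq Q a ha) (refl_isom Q a ha) b
    have hb' : Q (Cfsg.reflectionMatrix (⇑Q) a *ᵥ b) ≠ 0 := by rw [refl_isom Q a ha]; exact hb
    obtain ⟨g, hg, hgm⟩ := refl_mul_refl_mem_SG Q hQ h2 hcard
      (Cfsg.reflectionMatrix (⇑Q) a *ᵥ b) b hb' (by rw [refl_isom Q a ha])
    obtain ⟨hgG, hgK⟩ := closure_subtype_mem (Cfsg.isometryGroup F ⇑Q)
      {g : GL (Fin n) F | ∃ (u v : Fin n → F) (c : F), Q u = 0 ∧ Q v = 0 ∧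
        polar (⇑Q) u v = 0 ∧ (g : Matrix (Fin n) (Fin n) F) = Cfsg.siegelMatrix (⇑Q) u v c}
      (by
        rintro g ⟨u, v, c, hu, hv, huv, hg⟩
        intro x _
        change Q ((g : Matrix (Fin n) (Fin n) F) *ᵥ x) = Q x
        rw [hg, ← eichM_smul_eq_siegel Q u v c hv]
        exact eichM_isometry Q u (c • v) hu (by rw [polar_smul_right, huv, smul_zero]) x) g hg
    have heq : s * t * s⁻¹ * t⁻¹ = ⟨g, hgG⟩ := by
      rw [hs2, ht2]
      apply Subtype.ext
      apply Units.ext
      change ((s : GL (Fin n) F) : Matrix (Fin n) (Fin n) F) *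
        ((t : GL (Fin n) F) : Matrix (Fin n) (Fin n) F) *
        ((s : GL (Fin n) F) : Matrix (Fin n) (Fin n) F) *
        ((t : GL (Fin n) F) : Matrix (Fin n) (Fin n) F) = (g : Matrix (Fin n) (Fin n) F)
      rw [hgm, ← hconj, hs, ht]
    rw [heq]
    exact hgK
  · -- K ≤ Ω
    rw [hK, Subgroup.closure_le]
    rintro g ⟨u, v, c, hu, hv, huv, hg⟩
    exact (Cfsg.Agent.S0794.result h2 hn Q hQ u v hu hv huv c g hg).2

end Cfsg.Agent.S0795
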