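import Cfsg.Statements.S0291
import Cfsg.Agent.Lib.Helper19.QuadCount
-- import your own Cfsg.Agent.* helpers here

set_option autoImplicit false
open Cfsg

namespace Cfsg.Agent.S0291

/-- For q odd, the form x_0^2 + sum_{i<m} x_i y_i on F^(2m+1) has exactly q^(2m) zeros. -/
theorem result {F : Type*} [Field F] [Fintype F] {q : ℕ} (hF : Fintype.card F = q) (hodd : Odd q) (m : ℕ) : Nat.card {v : Unit ⊕ (Fin m ⊕ Fin m) → F // Cfsg.quadFormOdd m F v = 0} = q ^ (2 * m) := by
  classical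
  have h := Cfsg.Agent.Helper19.card_add_dot_prod (F := F) (ι := Fin m) (α := Unit)
    (fun z => z () ^ 2)
  have h0 : Nat.card {z : Unit → F // z () ^ 2 = 0} = 1 := by
    rw [Nat.card_eq_one_iff_unique]
    refine ⟨⟨?_⟩, ⟨⟨0, by simp⟩⟩⟩
    rintro ⟨z, hz⟩ ⟨w, hw⟩
    apply Subtype.ext
    funext u
    cases u
    have hz' : z () = 0 := by simpa using hz
    have hw' : w () = 0 := by simpa using hw
    exact hz'.trans hw'.symm
  rw [h0, Fintype.card_fin, Fintype.card_unit, hF, pow_one, one_mul] at h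
  have e : Nat.card {v : Unit ⊕ (Fin m ⊕ Fin m) → F // Cfsg.quadFormOdd m F v = 0}
      = Nat.card {p : (Unit → F) × (Fin m ⊕ Fin m → F) //
        p.1 () ^ 2 + ∑ i, p.2 (Sum.inl i) * p.2 (Sum.inr i) = 0} := by
    refine Nat.card_congr ((Equiv.sumArrowEquivProdArrow Unit (Fin m ⊕ Fin m) F).subtypeEquiv ?_)
    intro v
    simp [Equiv.sumArrowEquivProdArrow, Cfsg.quadFormOdd]
  rw [e, h]
  have hq : 1 ≤ q := by
    rw [← hF]; exact Fintype.card_pos
  rcases Nat.eq_zero_or_pos m with rfl | hm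
  · simp
  · obtain ⟨k, rfl⟩ : ∃ k, m = k + 1 := ⟨m - 1, by omega⟩
    have e1 : q ^ (k + 1) = q * q ^ k := by ring
    have e2 : q ^ (2 * (k + 1)) = q * q ^ k * (q * q ^ k) := by ring
    have e3 : k + 1 - 1 = k := by omega
    rw [e1, e2, e3]
    have hA : 1 ≤ q ^ k := Nat.one_le_pow _ _ hq
    generalize q ^ k = A at *
    have hB : 1 ≤ q * A := Nat.mul_pos hq hA
    have : q * ((q * A - 1) * A) = (q * A - 1) * (q * A) := by ring
    rw [this]
    generalize q * A = B at *
    rw [Nat.sub_mul, one_mul]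
    have h2 : B ≤ B * B := Nat.le_mul_of_pos_left B hB
    omega

end Cfsg.Agent.S0291
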