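import Cfsg.Statements.S0286
import Cfsg.Agent.Lib.Helper43.OrthOdd
import Cfsg.Agent.S0291

set_option autoImplicit false
open Cfsg

namespace Cfsg.Agent.S0286
open Cfsg.Agent.Helper43

theorem two_ne_zero_of_odd {F : Type*} [Field F] [Fintype F] (hodd : Odd (Fintype.card F)) :
    (2 : F) ≠ 0 := by
  intro h
  have h1 : ringChar F = 2 := CharP.ringChar_of_prime_eq_zero Nat.prime_two (by exact_mod_cast h)
  have h2 := FiniteField.even_card_of_char_two h1
  rcases hodd with ⟨k, hk⟩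
  omega

theorem odd_arith (q m : ℕ) :
    ∏ i ∈ Finset.range m, ((q ^ (2 * (i + 1)) - 1) * q ^ (1 + 2 * i)) =
      q ^ (m ^ 2) * ∏ i ∈ Finset.range m, (q ^ (2 * (i + 1)) - 1) := by
  induction m with
  | zero => simp
  | succ m ih =>
    rw [Finset.prod_range_succ, ih, Finset.prod_range_succ]
    have e : q ^ ((m + 1) ^ 2) = q ^ (m ^ 2) * q ^ (1 + 2 * m) := by
      rw [← pow_add]
      congr 1
      ring
    rw [e]
    ring

/-- |GO_{2m+1}(q)| = 2 q^(m^2) prod_{i=1}^{m} (q^(2i) - 1) for q odd. -/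
theorem result {F : Type*} [Field F] [Fintype F] {q : ℕ} (hF : Fintype.card F = q) (hodd : Odd q) (m : ℕ) : Nat.card (Cfsg.isometryGroup F (Cfsg.quadFormOdd m F)) = 2 * q ^ (m ^ 2) * ∏ i ∈ Finset.range m, (q ^ (2 * (i + 1)) - 1) := by
  have hq : 1 ≤ q := by rw [← hF]; exact Fintype.card_pos
  have h2 : (2 : F) ≠ 0 := two_ne_zero_of_odd (by rw [hF]; exact hodd)
  have hN := Cfsg.Agent.S0291.result hF hodd m
  have hS : ∀ j, (fun j => q ^ (2 * j)) (j + 1) = Fintype.card F * (fun j => q ^ (2 * j)) j +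
      (Fintype.card F - 1) * Fintype.card F ^ (1 + 2 * j) := by
    intro j
    rw [hF]
    simp only
    obtain ⟨r, rfl⟩ : ∃ r, q = r + 1 := ⟨q - 1, by omega⟩
    simp only [Nat.add_sub_cancel]
    ring
  have key := card_isometryGroup_odd (F := F) m h2 (fun j => q ^ (2 * j)) hS hN
  rw [key, hF]
  show 2 * ∏ i ∈ Finset.range m, ((q ^ (2 * (i + 1)) - 1) * q ^ (1 + 2 * i)) = _
  rw [odd_arith]
  ring

end Cfsg.Agent.S0286
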