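import Cfsg.Statements.S0289
import Cfsg.Agent.Lib.Helper19.QuadCount
-- import your own Cfsg.Agent.* helpers here

set_option autoImplicit false
open Cfsg

namespace Cfsg.Agent.S0289

/-- The hyperbolic quadratic form on F^(2m), m at least 1, has q^(2m-1) + q^m - q^(m-1) zeros (that is, (q^m - 1)(q^(m-1) + 1) non-zero isotropic vectors). -/
theorem result {F : Type*} [Field F] [Fintype F] {q : ℕ} (hF : Fintype.card F = q) (m : ℕ) (hm : 1 ≤ m) : Nat.card {v : Fin m ⊕ Fin m → F // Cfsg.quadFormPlus m F v = 0} = q ^ (2 * m - 1) + q ^ m - q ^ (m - 1) := by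
  classical
  have h := Cfsg.Agent.Helper19.card_dot_sum (F := F) (ι := Fin m) (0 : F)
  rw [if_pos rfl, Fintype.card_fin, hF] at h
  unfold Cfsg.quadFormPlus
  rw [h]
  have hq : 1 ≤ q := by
    rw [← hF]; exact Fintype.card_pos
  obtain ⟨k, rfl⟩ : ∃ k, m = k + 1 := ⟨m - 1, by omega⟩
  have e1 : q ^ (k + 1) = q * q ^ k := by ring
  have e2 : q ^ (2 * (k + 1) - 1) = q * q ^ k * q ^ k := by
    have : 2 * (k + 1) - 1 = k + k + 1 := by omega
    rw [this]; ring
  have e3 : k + 1 - 1 = k := by omega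
  rw [e1, e2, e3]
  have hA : 1 ≤ q ^ k := Nat.one_le_pow _ _ hq
  generalize q ^ k = A at *
  rw [Nat.sub_mul, one_mul]
  have h2 : A ≤ q * A * A := Nat.le_mul_of_pos_left A (Nat.mul_pos hq hA)
  omega

end Cfsg.Agent.S0289
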