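import Cfsg.Statements.S0287
import Cfsg.Agent.Lib.Helper43.OrthPlus
import Cfsg.Agent.S0289

set_option autoImplicit false
open Cfsg

namespace Cfsg.Agent.S0287
open Cfsg.Agent.Helper43

/-- The number of singular vectors of the plus-type form in dimension `2j`. -/
def nP (q : ℕ) : ℕ → ℕ
  | 0 => 1
  | (j + 1) => (q ^ (j + 1) - 1) * (q ^ j + 1) + 1

theorem nP_rec (q : ℕ) (hq : 1 ≤ q) (j : ℕ) :
    nP q (j + 1) = q * nP q j + (q - 1) * q ^ (0 + 2 * j) := by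
  cases j with
  | zero =>
    simp only [nP]
    obtain ⟨r, rfl⟩ : ∃ r, q = r + 1 := ⟨q - 1, by omega⟩
    simp
    ring
  | succ i =>
    have h1 : 1 ≤ q ^ (i + 1 + 1) := Nat.one_le_pow _ _ hq
    have h2 : 1 ≤ q ^ (i + 1) := Nat.one_le_pow _ _ hq
    apply Nat.cast_injective (R := ℤ)
    simp only [nP]
    push_cast [Nat.cast_sub h1, Nat.cast_sub h2, Nat.cast_sub hq]
    ring

theorem nP_eq (q : ℕ) (hq : 1 ≤ q) (m : ℕ) (hm : 1 ≤ m) :
    q ^ (2 * m - 1) + q ^ m - q ^ (m - 1) = nP q m := by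
  obtain ⟨k, rfl⟩ : ∃ k, m = k + 1 := ⟨m - 1, by omega⟩
  have e1 : 2 * (k + 1) - 1 = 2 * k + 1 := by omega
  simp only [Nat.add_sub_cancel, e1, nP]
  have h1 : 1 ≤ q ^ (k + 1) := Nat.one_le_pow _ _ hq
  have h2 : q ^ k ≤ q ^ (2 * k + 1) + q ^ (k + 1) := by
    have : q ^ k ≤ q ^ (k + 1) := Nat.pow_le_pow_right hq (by omega)
    omega
  apply Nat.cast_injective (R := ℤ)
  push_cast [Nat.cast_sub h1, Nat.cast_sub h2]
  ring

theorem sq_sub_one (a : ℕ) : a ^ 2 - 1 = (a - 1) * (a + 1) := by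
  cases a with
  | zero => simp
  | succ b =>
    simp only [Nat.add_sub_cancel]
    apply Nat.sub_eq_of_eq_add
    ring

theorem final_arith (q : ℕ) (k : ℕ) :
    ∏ i ∈ Finset.range (k + 1), ((nP q (i + 1) - 1) * q ^ (2 * i)) =
      2 * q ^ ((k + 1) * k) * (q ^ (k + 1) - 1) * ∏ i ∈ Finset.range k, (q ^ (2 * (i + 1)) - 1) := by
  induction k with
  | zero => simp [nP]; ring
  | succ k ih =>
    rw [Finset.prod_range_succ, ih, Finset.prod_range_succ]
    have e1 : nP q (k + 1 + 1) - 1 = (q ^ (k + 1 + 1) - 1) * (q ^ (k + 1) + 1) := by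
      simp [nP]
    have e2 : q ^ (2 * (k + 1)) - 1 = (q ^ (k + 1) - 1) * (q ^ (k + 1) + 1) := by
      rw [← sq_sub_one, ← pow_mul]
      congr 2
      ring
    have e3 : q ^ ((k + 1 + 1) * (k + 1)) = q ^ ((k + 1) * k) * q ^ (2 * (k + 1)) := by
      rw [← pow_add]
      congr 1
      ring
    rw [e1, e2, e3]
    ring

/-- |GO^+_{2m}(q)| = 2 q^(m(m-1)) (q^m - 1) prod_{i=1}^{m-1} (q^(2i) - 1), m at least 1, all q. -/
theorem result {F : Type*} [Field F] [Fintype F] {q : ℕ} (hF : Fintype.card F = q) (m : ℕ) (hm : 1 ≤ m) : Nat.card (Cfsg.isometryGroup F (Cfsg.quadFormPlus m F)) = 2 * q ^ (m * (m - 1)) * (q ^ m - 1) * ∏ i ∈ Finset.range (m - 1), (q ^ (2 * (i + 1)) - 1) := by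
  have hq : 1 ≤ q := by rw [← hF]; exact Fintype.card_pos
  have hN := Cfsg.Agent.S0289.result hF m hm
  rw [nP_eq q hq m hm] at hN
  have key := card_isometryGroup_plus (F := F) m (nP q) (by rw [hF]; exact nP_rec q hq) hN
  rw [key, hF]
  obtain ⟨k, rfl⟩ : ∃ k, m = k + 1 := ⟨m - 1, by omega⟩
  simp only [Nat.add_sub_cancel]
  exact final_arith q k

end Cfsg.Agent.S0287
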