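import Cfsg.Statements.S0290
import Cfsg.Agent.Lib.Helper19.QuadCount
-- import your own Cfsg.Agent.* helpers here

set_option autoImplicit false
open Cfsg

namespace Cfsg.Agent.S0290

/-- The minus-type quadratic form on F^(2m), m at least 1, has q^(2m-1) + q^(m-1) - q^m zeros (that is, (q^m + 1)(q^(m-1) - 1) non-zero isotropic vectors). -/
theorem result {F : Type*} [Field F] [Fintype F] {q : ℕ} (hF : Fintype.card F = q) (m : ℕ) (hm : 1 ≤ m) (a b : F) (hab : ∀ z₁ z₂ : F, z₁ ^ 2 + a * z₁ * z₂ + b * z₂ ^ 2 = 0 → z₁ = 0 ∧ z₂ = 0) : Nat.card {v : (Fin (m - 1) ⊕ Fin (m - 1)) ⊕ Fin 2 → F // Cfsg.quadFormMinus (m - 1) F a b v = 0} = q ^ (2 * m - 1) + q ^ (m - 1) - q ^ m := by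
  classical
  obtain ⟨k, rfl⟩ : ∃ k, m = k + 1 := ⟨m - 1, by omega⟩
  change Nat.card {v : (Fin k ⊕ Fin k) ⊕ Fin 2 → F // Cfsg.quadFormMinus k F a b v = 0}
    = q ^ (2 * (k + 1) - 1) + q ^ k - q ^ (k + 1)
  have h := Cfsg.Agent.Helper19.card_add_dot_prod (F := F) (ι := Fin k) (α := Fin 2)
    (fun z => z 0 ^ 2 + a * z 0 * z 1 + b * z 1 ^ 2)
  have h0 : Nat.card {z : Fin 2 → F // z 0 ^ 2 + a * z 0 * z 1 + b * z 1 ^ 2 = 0} = 1 := by
    rw [Nat.card_eq_one_iff_unique]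
    refine ⟨⟨?_⟩, ⟨⟨0, by simp⟩⟩⟩
    rintro ⟨z, hz⟩ ⟨w, hw⟩
    apply Subtype.ext
    have hz' := hab _ _ hz
    have hw' := hab _ _ hw
    funext u
    fin_cases u
    · exact hz'.1.trans hw'.1.symm
    · exact hz'.2.trans hw'.2.symm
  rw [h0, Fintype.card_fin, Fintype.card_fin, hF, one_mul] at h
  have e : Nat.card {v : (Fin k ⊕ Fin k) ⊕ Fin 2 → F // Cfsg.quadFormMinus k F a b v = 0}
      = Nat.card {p : (Fin 2 → F) × (Fin k ⊕ Fin k → F) //
        (p.1 0 ^ 2 + a * p.1 0 * p.1 1 + b * p.1 1 ^ 2)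
          + ∑ i, p.2 (Sum.inl i) * p.2 (Sum.inr i) = 0} := by
    refine Nat.card_congr
      (((Equiv.sumArrowEquivProdArrow (Fin k ⊕ Fin k) (Fin 2) F).trans
        (Equiv.prodComm _ _)).subtypeEquiv ?_)
    intro v
    simp only [Equiv.sumArrowEquivProdArrow, Cfsg.quadFormMinus, Equiv.trans_apply,
      Equiv.coe_fn_mk, Equiv.prodComm_apply, Prod.swap_prod_mk, Function.comp_apply]
    rw [add_comm]
  rw [e, h]
  have hq : 1 ≤ q := by
    rw [← hF]; exact Fintype.card_pos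
  rcases Nat.eq_zero_or_pos k with rfl | hk
  · simp
  · obtain ⟨j, rfl⟩ : ∃ j, k = j + 1 := ⟨k - 1, by omega⟩
    have e1 : q ^ (j + 1) = q * q ^ j := by ring
    have e2 : q ^ (2 * (j + 1 + 1) - 1) = q ^ 2 * (q * q ^ j * q ^ j) := by
      have : 2 * (j + 1 + 1) - 1 = 2 + (j + j + 1) := by omega
      rw [this]; ring
    have e4 : q ^ (j + 1 + 1) = q ^ 2 * q ^ j := by ring
    have e3 : j + 1 - 1 = j := by omega
    rw [e2, e4, e1, e3]
    have hA : 1 ≤ q ^ j := Nat.one_le_pow _ _ hq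
    generalize q ^ j = A at *
    rw [Nat.sub_mul, one_mul, Nat.mul_sub]
    have h2 : A ≤ q * A * A := Nat.le_mul_of_pos_left A (Nat.mul_pos hq hA)
    have h3 : q ^ 2 * A ≤ q ^ 2 * (q * A * A) := Nat.mul_le_mul_left _ h2
    have h4 : q * A ≤ q ^ 2 * A := by
      have : q ≤ q ^ 2 := by nlinarith
      exact Nat.mul_le_mul_right _ this
    omega

end Cfsg.Agent.S0290
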