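import Cfsg.Statements.S0288
import Cfsg.Agent.Lib.Helper43.OrthMinus
import Cfsg.Agent.S0290

set_option autoImplicit false
open Cfsg

namespace Cfsg.Agent.S0288
open Cfsg.Agent.Helper43

/-- The number of singular vectors of the minus-type form in dimension `2j + 2`. -/
def nM (q : ℕ) (j : ℕ) : ℕ := (q ^ (j + 1) + 1) * (q ^ j - 1) + 1

theorem nM_rec (q : ℕ) (hq : 1 ≤ q) (j : ℕ) :
    nM q (j + 1) = q * nM q j + (q - 1) * q ^ (2 + 2 * j) := by
  have h1 : 1 ≤ q ^ (j + 1) := Nat.one_le_pow _ _ hq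
  have h2 : 1 ≤ q ^ j := Nat.one_le_pow _ _ hq
  apply Nat.cast_injective (R := ℤ)
  simp only [nM]
  push_cast [Nat.cast_sub h1, Nat.cast_sub h2, Nat.cast_sub hq]
  ring

theorem nM_eq (q : ℕ) (hq : 1 ≤ q) (m : ℕ) (hm : 1 ≤ m) :
    q ^ (2 * m - 1) + q ^ (m - 1) - q ^ m = nM q (m - 1) := by
  obtain ⟨k, rfl⟩ : ∃ k, m = k + 1 := ⟨m - 1, by omega⟩
  have e1 : 2 * (k + 1) - 1 = 2 * k + 1 := by omega
  simp only [Nat.add_sub_cancel, e1, nM]
  have h1 : 1 ≤ q ^ k := Nat.one_le_pow _ _ hq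
  have h2 : q ^ (k + 1) ≤ q ^ (2 * k + 1) + q ^ k := by
    have : q ^ (k + 1) ≤ q ^ (2 * k + 1) := Nat.pow_le_pow_right hq (by omega)
    omega
  apply Nat.cast_injective (R := ℤ)
  push_cast [Nat.cast_sub h1, Nat.cast_sub h2]
  ring

theorem sq_sub_one (a : ℕ) : a ^ 2 - 1 = (a - 1) * (a + 1) := by
  cases a with
  | zero => simp
  | succ b =>
    simp only [Nat.add_sub_cancel]
    apply Nat.sub_eq_of_eq_add
    ring

theorem final_arith (q : ℕ) (k : ℕ) :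
    2 * (q + 1) * ∏ i ∈ Finset.range k, ((nM q (i + 1) - 1) * q ^ (2 + 2 * i)) =
      2 * q ^ ((k + 1) * k) * (q ^ (k + 1) + 1) * ∏ i ∈ Finset.range k, (q ^ (2 * (i + 1)) - 1) := by
  induction k with
  | zero => simp
  | succ k ih =>
    rw [Finset.prod_range_succ, ← mul_assoc, ih, Finset.prod_range_succ]
    have e1 : nM q (k + 1) - 1 = (q ^ (k + 1 + 1) + 1) * (q ^ (k + 1) - 1) := by
      simp [nM]
    have e2 : q ^ (2 * (k + 1)) - 1 = (q ^ (k + 1) - 1) * (q ^ (k + 1) + 1) := by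
      rw [← sq_sub_one, ← pow_mul]
      congr 2
      ring
    have e3 : q ^ ((k + 1 + 1) * (k + 1)) = q ^ ((k + 1) * k) * q ^ (2 + 2 * k) := by
      rw [← pow_add]
      congr 1
      ring
    rw [e1, e2, e3]
    ring

/-- |GO^-_{2m}(q)| = 2 q^(m(m-1)) (q^m + 1) prod_{i=1}^{m-1} (q^(2i) - 1), m at least 1, all q; the form is quadFormMinus (m-1) with an anisotropic binary part. -/
theorem result {F : Type*} [Field F] [Fintype F] {q : ℕ} (hF : Fintype.card F = q) (m : ℕ) (hm : 1 ≤ m) (a b : F) (hab : ∀ z₁ z₂ : F, z₁ ^ 2 + a * z₁ * z₂ + b * z₂ ^ 2 = 0 → z₁ = 0 ∧ z₂ = 0) : Nat.card (Cfsg.isometryGroup F (Cfsg.quadFormMinus (m - 1) F a b)) = 2 * q ^ (m * (m - 1)) * (q ^ m + 1) * ∏ i ∈ Finset.range (m - 1), (q ^ (2 * (i + 1)) - 1) := by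
  have hq : 1 ≤ q := by rw [← hF]; exact Fintype.card_pos
  have hN := Cfsg.Agent.S0290.result hF m hm a b hab
  rw [nM_eq q hq m hm] at hN
  have key := card_isometryGroup_minus (F := F) (m - 1) (a := a) (b := b) hab (nM q)
    (by rw [hF]; exact nM_rec q hq) (by simp [nM]) hN
  rw [key, hF]
  obtain ⟨k, rfl⟩ : ∃ k, m = k + 1 := ⟨m - 1, by omega⟩
  simp only [Nat.add_sub_cancel]
  exact final_arith q k

end Cfsg.Agent.S0288
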