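import Cfsg.Statements.S0792
-- import your own Cfsg.Agent.* helpers here
import Mathlib
import Cfsg.Agent.Lib.Helper13.QuadMat
import Cfsg.Agent.Lib.Helper44.CartanDieudonne

set_option autoImplicit false
open Cfsg

namespace Cfsg.Agent.S0792

section aux

open Matrix QuadraticMap Cfsg.Agent.Helper44 Cfsg.Agent.Helper13

variable {F : Type*} [Field F] {ι : Type} [Fintype ι] [DecidableEq ι]

theorem toLin'_refl (Q : QuadraticForm F (ι → F)) (v : ι → F) :
    Matrix.toLin' (Cfsg.reflectionMatrix (⇑Q) v) = reflLin Q v := by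
  apply LinearMap.ext
  intro x
  rw [Matrix.toLin'_apply, reflectionMatrix_mulVec, reflLin_apply]

theorem refl_mul_self (Q : QuadraticForm F (ι → F)) (v : ι → F) (hv : Q v ≠ 0) :
    Cfsg.reflectionMatrix (⇑Q) v * Cfsg.reflectionMatrix (⇑Q) v = 1 := by
  apply Matrix.toLin'.injective
  rw [Matrix.toLin'_mul, Matrix.toLin'_one, toLin'_refl]
  exact reflLin_mul_self Q v hv

theorem det_refl (Q : QuadraticForm F (ι → F)) (v : ι → F) (hv : Q v ≠ 0) :
    (Cfsg.reflectionMatrix (⇑Q) v).det = -1 := by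
  have h1 : Cfsg.reflectionMatrix (⇑Q) v =
      1 + Matrix.vecMulVec (-(Q v)⁻¹ • v) (Cfsg.polarVec (⇑Q) v) := by
    unfold Cfsg.reflectionMatrix
    rw [Matrix.smul_vecMulVec, neg_smul, sub_eq_add_neg]
  rw [h1, det_one_add_vecMulVec, dotProduct_smul, polarVec_dotProduct, polar_self_mul, smul_eq_mul]
  field_simp
  ring

theorem toLin'_list_prod (l : List (Matrix ι ι F)) :
    Matrix.toLin' l.prod = (l.map (fun M => Matrix.toLin' M)).prod := by
  induction l with
  | nil => rw [List.prod_nil, Matrix.toLin'_one, List.map_nil, List.prod_nil]; rfl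
  | cons a l ih => rw [List.prod_cons, Matrix.toLin'_mul, ih, List.map_cons, List.prod_cons]; rfl

/-- Matrix form of Cartan–Dieudonné in odd characteristic. -/
theorem matrix_cd (h2 : (2 : F) ≠ 0) (Q : QuadraticForm F (ι → F))
    (hQ : (polarBilin Q).Nondegenerate) (M : Matrix ι ι F) (hM : ∀ u, Q (M *ᵥ u) = Q u) :
    ∃ l : List (ι → F), (∀ w ∈ l, Q w ≠ 0) ∧
      M = (l.map (Cfsg.reflectionMatrix (⇑Q))).prod := by
  obtain ⟨l, hl, hgl⟩ := cartan_dieudonne_odd h2 Q hQ (Matrix.toLin' M) (fun x => by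
    rw [Matrix.toLin'_apply]; exact hM x)
  refine ⟨l, hl, ?_⟩
  apply Matrix.toLin'.injective
  rw [hgl, toLin'_list_prod, List.map_map]
  congr 1
  apply List.map_congr_left
  intro w _
  exact (toLin'_refl Q w).symm

theorem det_list_prod (Q : QuadraticForm F (ι → F)) (l : List (ι → F)) (hl : ∀ w ∈ l, Q w ≠ 0) :
    ((l.map (Cfsg.reflectionMatrix (⇑Q))).prod).det = (-1) ^ l.length := by
  induction l with
  | nil => simp
  | cons a l ih =>
    rw [List.map_cons, List.prod_cons, Matrix.det_mul, det_refl Q a (hl a (List.mem_cons_self ..)),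
      ih (fun w hw => hl w (List.mem_cons_of_mem _ hw)), List.length_cons, pow_succ]
    ring

/-- The reflection as an element of the isometry group. -/
noncomputable def reflG (Q : QuadraticForm F (ι → F)) (v : ι → F) (hv : Q v ≠ 0) :
    ↥(Cfsg.isometryGroup F (⇑Q)) :=
  ⟨⟨Cfsg.reflectionMatrix (⇑Q) v, Cfsg.reflectionMatrix (⇑Q) v, refl_mul_self Q v hv,
    refl_mul_self Q v hv⟩, by
    intro u _
    show Q (Cfsg.reflectionMatrix (⇑Q) v *ᵥ u) = Q u
    rw [reflectionMatrix_mulVec, ← reflLin_apply, Q_reflLin Q v u hv]⟩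

theorem coe_reflG (Q : QuadraticForm F (ι → F)) (v : ι → F) (hv : Q v ≠ 0) :
    ((reflG Q v hv : Matrix.GeneralLinearGroup ι F) : Matrix ι ι F) =
      Cfsg.reflectionMatrix (⇑Q) v := rfl

theorem mem_closure_of_even (Q : QuadraticForm F (ι → F)) :
    ∀ (k : ℕ) (l : List (ι → F)), l.length = 2 * k → (∀ w ∈ l, Q w ≠ 0) →
    ∀ g : ↥(Cfsg.isometryGroup F (⇑Q)),
      ((g : Matrix.GeneralLinearGroup ι F) : Matrix ι ι F) =
        (l.map (Cfsg.reflectionMatrix (⇑Q))).prod →
      g ∈ Subgroup.closure {g : ↥(Cfsg.isometryGroup F (⇑Q)) | ∃ u v : ι → F, Q u ≠ 0 ∧ Q v ≠ 0 ∧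
        ((g : Matrix.GeneralLinearGroup ι F) : Matrix ι ι F) =
          Cfsg.reflectionMatrix (⇑Q) u * Cfsg.reflectionMatrix (⇑Q) v} := by
  intro k
  induction k with
  | zero =>
    intro l hl _ g hg
    have : l = [] := List.length_eq_zero_iff.mp (by omega)
    subst this
    have : g = 1 := by
      apply Subtype.ext
      apply Units.ext
      rw [hg]
      simp
    rw [this]
    exact Subgroup.one_mem _
  | succ k ih =>
    intro l hl hlQ g hg
    match l, hl, hlQ, hg with
    | [], hl, _, _ => simp at hl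
    | [_], hl, _, _ => simp at hl; omega
    | u :: v :: l', hl, hlQ, hg =>
      have hu : Q u ≠ 0 := hlQ u (by simp)
      have hv : Q v ≠ 0 := hlQ v (by simp)
      have hg' : ((reflG Q v hv * reflG Q u hu * g : ↥(Cfsg.isometryGroup F (⇑Q))) :
          Matrix.GeneralLinearGroup ι F).1 = (l'.map (Cfsg.reflectionMatrix (⇑Q))).prod := by
        rw [Subgroup.coe_mul, Subgroup.coe_mul, Units.val_mul, Units.val_mul, coe_reflG,
          coe_reflG, hg, List.map_cons, List.prod_cons, List.map_cons, List.prod_cons,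
          mul_assoc, ← mul_assoc (Cfsg.reflectionMatrix (⇑Q) u), refl_mul_self Q u hu, one_mul,
          ← mul_assoc, refl_mul_self Q v hv, one_mul]
      have h1 := ih l' (by simp at hl; omega)
        (fun w hw => hlQ w (List.mem_cons_of_mem _ (List.mem_cons_of_mem _ hw))) _ hg'
      have h2 : reflG Q u hu * reflG Q v hv ∈ Subgroup.closure
          {g : ↥(Cfsg.isometryGroup F (⇑Q)) | ∃ u v : ι → F, Q u ≠ 0 ∧ Q v ≠ 0 ∧
            ((g : Matrix.GeneralLinearGroup ι F) : Matrix ι ι F) =
              Cfsg.reflectionMatrix (⇑Q) u * Cfsg.reflectionMatrix (⇑Q) v} := by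
        apply Subgroup.subset_closure
        exact ⟨u, v, hu, hv, rfl⟩
      have h3 : g = (reflG Q u hu * reflG Q v hv) * (reflG Q v hv * reflG Q u hu * g) := by
        apply Subtype.ext
        apply Units.ext
        rw [Subgroup.coe_mul, Units.val_mul, hg', Subgroup.coe_mul, Units.val_mul, coe_reflG,
          coe_reflG, hg, List.map_cons, List.prod_cons, List.map_cons, List.prod_cons, mul_assoc]
      rw [h3]
      exact Subgroup.mul_mem _ h2 h1

end aux

/-- For q odd and Q with non-degenerate polar form on F^n, the determinant-one isometries form the subgroup generated by all products r_u r_v of two reflections (Q(u), Q(v) ≠ 0). -/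
theorem result {F : Type*} [Field F] [Fintype F] (h2 : (2 : F) ≠ 0) {n : ℕ} (Q : QuadraticForm F (Fin n → F)) (hQ : (QuadraticMap.polarBilin Q).Nondegenerate) : Cfsg.specialIsometryGroup F ⇑Q = Subgroup.closure {g : ↥(Cfsg.isometryGroup F ⇑Q) | ∃ u v : Fin n → F, Q u ≠ 0 ∧ Q v ≠ 0 ∧ ((g : Matrix.GeneralLinearGroup (Fin n) F) : Matrix (Fin n) (Fin n) F) = Cfsg.reflectionMatrix ⇑Q u * Cfsg.reflectionMatrix ⇑Q v} := by
  apply le_antisymm
  · intro g hg
    have hdet : (((g : Matrix.GeneralLinearGroup (Fin n) F) : Matrix (Fin n) (Fin n) F)).det = 1 := by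
      unfold Cfsg.specialIsometryGroup at hg
      rw [MonoidHom.mem_ker, MonoidHom.comp_apply] at hg
      have := congrArg Units.val hg
      simpa using this
    obtain ⟨l, hl, hMl⟩ := matrix_cd h2 Q hQ
      ((g : Matrix.GeneralLinearGroup (Fin n) F) : Matrix (Fin n) (Fin n) F)
      (fun u => g.2 u u)
    have hdl := det_list_prod Q l hl
    rw [← hMl, hdet] at hdl
    have heven : Even l.length := by
      by_contra hodd
      rw [Nat.not_even_iff_odd] at hodd
      rw [hodd.neg_one_pow] at hdl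
      apply h2
      linear_combination hdl
    obtain ⟨k, hk⟩ := heven
    exact mem_closure_of_even Q k l (by omega) hl g hMl
  · rw [Subgroup.closure_le]
    rintro g ⟨u, v, hu, hv, hg⟩
    show g ∈ Cfsg.specialIsometryGroup F ⇑Q
    unfold Cfsg.specialIsometryGroup
    rw [MonoidHom.mem_ker, MonoidHom.comp_apply]
    apply Units.ext
    rw [Matrix.GeneralLinearGroup.val_det_apply]
    show (((g : Matrix.GeneralLinearGroup (Fin n) F) : Matrix (Fin n) (Fin n) F)).det = 1
    rw [hg, Matrix.det_mul, det_refl Q u hu, det_refl Q v hv]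
    ring

end Cfsg.Agent.S0792
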