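import Cfsg.Statements.S0786
-- import your own Cfsg.Agent.* helpers here
import Mathlib
import Cfsg.Agent.Lib.Helper13.QuadMat
import Cfsg.Agent.Lib.Helper44.CartanDieudonne
import Cfsg.Agent.Lib.Helper44.CDChar2
import Cfsg.Agent.S0792

set_option autoImplicit false
open Cfsg

namespace Cfsg.Agent.S0786

section aux

open Matrix QuadraticMap Cfsg.Agent.Helper44 Cfsg.Agent.Helper13 Cfsg.Agent.S0792

variable {F : Type*} [Field F] {ι : Type} [Fintype ι] [DecidableEq ι]

/-- Matrix form of Cartan–Dieudonné over a finite field (all characteristics), excluding dimension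
four over the field with two elements. -/
theorem matrix_cd_all [Fintype F] (Q : QuadraticForm F (ι → F))
    (hQ : (polarBilin Q).Nondegenerate) (hexc : Fintype.card F ≠ 2 ∨ Fintype.card ι ≠ 4)
    (M : Matrix ι ι F) (hM : ∀ u, Q (M *ᵥ u) = Q u) :
    ∃ l : List (ι → F), (∀ w ∈ l, Q w ≠ 0) ∧
      M = (l.map (Cfsg.reflectionMatrix (⇑Q))).prod := by
  by_cases h2 : (2 : F) ≠ 0
  · exact matrix_cd h2 Q hQ M hM
  · simp only [not_not] at h2
    obtain ⟨l, hl, hgl⟩ := cartan_dieudonne_char2 Q h2 hQ
      (by rw [Module.finrank_fintype_fun_eq_card]; exact hexc) (Matrix.toLin' M) (fun x => by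
      rw [Matrix.toLin'_apply]; exact hM x)
    refine ⟨l, hl, ?_⟩
    apply Matrix.toLin'.injective
    unfold reflProd at hgl
    rw [hgl, toLin'_list_prod, List.map_map]
    congr 1
    apply List.map_congr_left
    intro w _
    exact (toLin'_refl Q w).symm

theorem mem_closure_of_list (Q : QuadraticForm F (ι → F)) :
    ∀ (l : List (ι → F)), (∀ w ∈ l, Q w ≠ 0) →
    ∀ g : ↥(Cfsg.isometryGroup F (⇑Q)),
      ((g : Matrix.GeneralLinearGroup ι F) : Matrix ι ι F) =
        (l.map (Cfsg.reflectionMatrix (⇑Q))).prod →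
      g ∈ Subgroup.closure {g : ↥(Cfsg.isometryGroup F (⇑Q)) | ∃ v : ι → F, Q v ≠ 0 ∧
        ((g : Matrix.GeneralLinearGroup ι F) : Matrix ι ι F) =
          Cfsg.reflectionMatrix (⇑Q) v} := by
  intro l
  induction l with
  | nil =>
    intro _ g hg
    have : g = 1 := by
      apply Subtype.ext
      apply Units.ext
      rw [hg]
      simp
    rw [this]
    exact Subgroup.one_mem _
  | cons v l ih =>
    intro hlQ g hg
    have hv : Q v ≠ 0 := hlQ v (List.mem_cons_self ..)
    have hg' : ((reflG Q v hv * g : ↥(Cfsg.isometryGroup F (⇑Q))) :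
        Matrix.GeneralLinearGroup ι F).1 = (l.map (Cfsg.reflectionMatrix (⇑Q))).prod := by
      rw [Subgroup.coe_mul, Units.val_mul, coe_reflG, hg, List.map_cons, List.prod_cons,
        ← mul_assoc, refl_mul_self Q v hv, one_mul]
    have h1 := ih (fun w hw => hlQ w (List.mem_cons_of_mem _ hw)) _ hg'
    have h2 : reflG Q v hv ∈ Subgroup.closure
        {g : ↥(Cfsg.isometryGroup F (⇑Q)) | ∃ v : ι → F, Q v ≠ 0 ∧
          ((g : Matrix.GeneralLinearGroup ι F) : Matrix ι ι F) =
            Cfsg.reflectionMatrix (⇑Q) v} := by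
      apply Subgroup.subset_closure
      exact ⟨v, hv, rfl⟩
    have h3 : g = reflG Q v hv * (reflG Q v hv * g) := by
      apply Subtype.ext
      apply Units.ext
      rw [Subgroup.coe_mul, Units.val_mul, hg', coe_reflG, hg, List.map_cons, List.prod_cons]
    rw [h3]
    exact Subgroup.mul_mem _ h2 h1

end aux

/-- Generation by reflections: if F is finite, Q is a quadratic form on F^n with non-degenerate polar form, and (|F|, n) ≠ (2, 4), then the isometry group of Q is generated by the reflections r_v, Q(v) ≠ 0. -/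
theorem result {F : Type*} [Field F] [Fintype F] {n : ℕ} (Q : QuadraticForm F (Fin n → F)) (hQ : (QuadraticMap.polarBilin Q).Nondegenerate) (h : Fintype.card F ≠ 2 ∨ n ≠ 4) : Subgroup.closure {g : ↥(Cfsg.isometryGroup F ⇑Q) | ∃ v : Fin n → F, Q v ≠ 0 ∧ ((g : Matrix.GeneralLinearGroup (Fin n) F) : Matrix (Fin n) (Fin n) F) = Cfsg.reflectionMatrix ⇑Q v} = ⊤ := by
  rw [eq_top_iff]
  intro g _
  obtain ⟨l, hl, hMl⟩ := matrix_cd_all Q hQ (by rw [Fintype.card_fin]; exact h)
    ((g : Matrix.GeneralLinearGroup (Fin n) F) : Matrix (Fin n) (Fin n) F)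
    (fun u => g.2 u u)
  exact mem_closure_of_list Q l hl g hMl

end Cfsg.Agent.S0786
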