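import Cfsg.Statements.S0788
import Cfsg.Agent.Lib.Helper43.SpinorNorm
import Cfsg.Agent.S0786
import Cfsg.Agent.S0785

set_option autoImplicit false
open Cfsg

namespace Cfsg.Agent.S0788

open Cfsg.Agent.Helper43 QuadraticMap Matrix

section aux

variable {F : Type*} [Field F] [Fintype F] [DecidableEq F] {n : ℕ}
variable (Q : QuadraticForm F (Fin n → F))

/-- determinant as a homomorphism on the isometry group -/
noncomputable def detHom : ↥(Cfsg.isometryGroup F ⇑Q) →* Fˣ :=
  Matrix.GeneralLinearGroup.det.comp (Subgroup.subtype _)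

theorem detHom_coe (g : ↥(Cfsg.isometryGroup F ⇑Q)) :
    ((detHom Q g : Fˣ) : F) = ((g : GL (Fin n) F) : Matrix (Fin n) (Fin n) F).det := rfl

/-- the pair (det, spinor sign) -/
noncomputable def phiHom : ↥(Cfsg.isometryGroup F ⇑Q) →* Fˣ × ℤˣ :=
  (detHom Q).prod (theta Q)

theorem exists_aniso (hn : 2 ≤ n) (hQ : (polarBilin Q).Nondegenerate) : ∃ u, Q u ≠ 0 := by
  by_contra hcon
  push Not at hcon
  have hx : (Pi.single (⟨0, by omega⟩ : Fin n) (1 : F) : Fin n → F) ≠ 0 := by
    intro h
    have := congrFun h ⟨0, by omega⟩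
    simp at this
  apply hx
  apply hQ.1
  intro y
  rw [polarBilin_apply_apply]
  unfold polar
  rw [hcon, hcon, hcon]
  ring

theorem exists_norm_eq (h2 : (2 : F) ≠ 0) (hn : 2 ≤ n) (hQ : (polarBilin Q).Nondegenerate)
    (c : F) : ∃ v, Q v = c := by
  obtain ⟨u, hu⟩ := exists_aniso Q hn hQ
  obtain ⟨w, hw1, hw2⟩ := exists_aniso_perp Q h2 (by rw [Fintype.card_fin]; exact hn) hQ hu
  obtain ⟨s, t, hst⟩ := exists_sq_add_sq_add h2 (Q u) (Q w) (-c) hu hw2
  refine ⟨s • u + t • w, ?_⟩
  rw [QuadraticMap.map_add Q, QuadraticMap.map_smul, QuadraticMap.map_smul, polar_smul_left,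
    polar_smul_right, hw1]
  simp only [smul_eq_mul, mul_zero, add_zero]
  linear_combination hst

theorem ker_phiHom (h2 : (2 : F) ≠ 0) (hn : 2 ≤ n) (hQ : (polarBilin Q).Nondegenerate) :
    (phiHom Q).ker = Cfsg.Omega F ⇑Q := by
  have hcard : 2 ≤ Fintype.card (Fin n) := by rw [Fintype.card_fin]; exact hn
  apply le_antisymm
  · intro g hg
    rw [MonoidHom.mem_ker] at hg
    have hg1 : detHom Q g = 1 := congrArg Prod.fst hg
    have hg2 : theta Q g = 1 := congrArg Prod.snd hg
    have hexc : Fintype.card F ≠ 2 ∨ Fintype.card (Fin n) ≠ 4 := by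
      left
      intro h
      have : ringChar F = 2 := by
        have := FiniteField.even_card_iff_char_two.2 (by rw [h])
        exact this
      apply h2
      have hc := ringChar.Nat.cast_ringChar (R := F)
      rw [this] at hc
      exact_mod_cast hc
    obtain ⟨l, hl, hMl⟩ := Cfsg.Agent.S0786.matrix_cd_all Q hQ hexc
      ((g : GL (Fin n) F) : Matrix (Fin n) (Fin n) F) (fun u => g.2 u u)
    have hdet : ((g : GL (Fin n) F) : Matrix (Fin n) (Fin n) F).det = 1 := by
      rw [← detHom_coe, hg1]
      rfl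
    have hMl' : ((g : GL (Fin n) F) : Matrix (Fin n) (Fin n) F) =
        (l.map (fun v => Cfsg.reflectionMatrix (⇑Q) v)).prod := hMl
    rw [hMl', det_list_reflection Q l hl] at hdet
    have hneg : (-1 : F) ≠ 1 := by
      intro h
      apply h2
      have : (1 : F) + 1 = 0 := by
        nth_rewrite 1 [← h]
        exact neg_add_cancel 1
      rw [← one_add_one_eq_two]
      exact this
    have heven : Even l.length := (neg_one_pow_eq_one_iff_even hneg).1 hdet
    rw [mem_Omega_iff_of_list Q h2 hcard hQ g l hl hMl']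
    refine ⟨heven, ?_⟩
    obtain ⟨k, hk⟩ := heven
    have hlist := theta_list_prod Q h2 hcard hQ k l (by omega) hl
    rw [← eq_list_prod_of_coe Q g l hl hMl', hg2] at hlist
    have hP0 : (l.map (fun v => Q v)).prod ≠ 0 := by
      apply List.prod_ne_zero
      intro h0
      obtain ⟨v, hv, hv0⟩ := List.mem_map.1 h0
      exact hl v hv hv0
    rw [← quadraticChar_one_iff_isSquare hP0]
    exact hlist.symm
  · exact Abelianization.commutator_subset_ker (phiHom Q)

theorem range_phiHom (h2 : (2 : F) ≠ 0) (hn : 2 ≤ n) (hQ : (polarBilin Q).Nondegenerate) :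
    ((phiHom Q).range : Set (Fˣ × ℤˣ)) =
      ((({1, -1} : Finset Fˣ) ×ˢ (Finset.univ : Finset ℤˣ) : Finset (Fˣ × ℤˣ)) : Set (Fˣ × ℤˣ)) := by
  have hcard : 2 ≤ Fintype.card (Fin n) := by rw [Fintype.card_fin]; exact hn
  have hF : ringChar F ≠ 2 := by
    intro h
    apply h2
    have := ringChar.Nat.cast_ringChar (R := F)
    rw [h] at this
    exact_mod_cast this
  ext x
  simp only [SetLike.mem_coe, MonoidHom.mem_range, Finset.coe_product, Finset.coe_insert,
    Finset.coe_singleton, Finset.coe_univ, Set.mem_prod, Set.mem_insert_iff,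
    Set.mem_singleton_iff, Set.mem_univ, and_true]
  constructor
  · rintro ⟨g, rfl⟩
    have := (Cfsg.Agent.S0785.result Q hQ).1 g
    rcases this with h | h
    · left
      apply Units.ext
      exact h
    · right
      apply Units.ext
      exact h
  · intro hx
    -- two reflections in different classes
    obtain ⟨ν, hν⟩ := FiniteField.exists_nonsquare hF
    obtain ⟨u, hu⟩ := exists_norm_eq Q h2 hn hQ 1
    obtain ⟨v, hv⟩ := exists_norm_eq Q h2 hn hQ ν
    have hu0 : Q u ≠ 0 := by rw [hu]; exact one_ne_zero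
    have hv0 : Q v ≠ 0 := by
      rw [hv]
      intro h
      apply hν
      rw [h]
      exact ⟨0, by simp⟩
    have hdu : detHom Q (reflIso Q hu0) = -1 := by
      apply Units.ext
      rw [detHom_coe, reflIso_coe, reflectionMatrix_det Q hu0]
      rfl
    have hdv : detHom Q (reflIso Q hv0) = -1 := by
      apply Units.ext
      rw [detHom_coe, reflIso_coe, reflectionMatrix_det Q hv0]
      rfl
    have hne : theta Q (reflIso Q hu0) ≠ theta Q (reflIso Q hv0) := by
      intro h
      have := (theta_reflIso_eq_iff Q h2 hcard hQ hu0 hv0).1 h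
      rw [hu, hv, one_mul] at this
      exact hν this
    rw [Int.units_ne_iff_eq_neg] at hne
    obtain ⟨x1, x2⟩ := x
    simp only at hx
    rcases Int.units_eq_one_or (theta Q (reflIso Q hv0)) with hs | hs
    · -- theta v = 1, theta u = -1
      rw [hs] at hne
      rcases hx with rfl | rfl <;> rcases Int.units_eq_one_or x2 with rfl | rfl
      · exact ⟨1, (map_one _).trans rfl⟩
      · refine ⟨reflIso Q hu0 * reflIso Q hv0, ?_⟩
        show ((detHom Q) (reflIso Q hu0 * reflIso Q hv0), (theta Q) (reflIso Q hu0 * reflIso Q hv0)) = _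
        rw [map_mul, map_mul, hdu, hdv, hne, hs]
        simp
      · refine ⟨reflIso Q hv0, ?_⟩
        show ((detHom Q) (reflIso Q hv0), (theta Q) (reflIso Q hv0)) = _
        rw [hdv, hs]
      · refine ⟨reflIso Q hu0, ?_⟩
        show ((detHom Q) (reflIso Q hu0), (theta Q) (reflIso Q hu0)) = _
        rw [hdu, hne]
    · rw [hs, neg_neg] at hne
      rcases hx with rfl | rfl <;> rcases Int.units_eq_one_or x2 with rfl | rfl
      · exact ⟨1, (map_one _).trans rfl⟩
      · refine ⟨reflIso Q hu0 * reflIso Q hv0, ?_⟩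
        show ((detHom Q) (reflIso Q hu0 * reflIso Q hv0), (theta Q) (reflIso Q hu0 * reflIso Q hv0)) = _
        rw [map_mul, map_mul, hdu, hdv, hne, hs]
        simp
      · refine ⟨reflIso Q hu0, ?_⟩
        show ((detHom Q) (reflIso Q hu0), (theta Q) (reflIso Q hu0)) = _
        rw [hdu, hne]
      · refine ⟨reflIso Q hv0, ?_⟩
        show ((detHom Q) (reflIso Q hv0), (theta Q) (reflIso Q hv0)) = _
        rw [hdv, hs]

end aux

/-- Ω has index 4 in O for q odd: if F is finite of odd characteristic, n ≥ 2 and Q is a quadratic form on F^n with non-degenerate polar form, then the commutator subgroup of the isometry group of Q (the group Ω of our definitions) has index 4 in it. -/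
theorem result {F : Type*} [Field F] [Fintype F] (h2 : (2 : F) ≠ 0) {n : ℕ} (hn : 2 ≤ n) (Q : QuadraticForm F (Fin n → F)) (hQ : (QuadraticMap.polarBilin Q).Nondegenerate) : (Cfsg.Omega F ⇑Q).index = 4 := by
  classical
  rw [← ker_phiHom Q h2 hn hQ, Subgroup.index_ker]
  have hneg : (-1 : Fˣ) ≠ 1 := by
    intro h
    have h' := congrArg (fun u : Fˣ => (u : F)) h
    simp only [Units.val_neg, Units.val_one] at h'
    apply h2
    have : (1 : F) + 1 = 0 := by
      nth_rewrite 1 [← h']
      exact neg_add_cancel 1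
    rw [← one_add_one_eq_two]
    exact this
  have := range_phiHom Q h2 hn hQ
  rw [show Nat.card ↥(phiHom Q).range = Nat.card ↥((phiHom Q).range : Set (Fˣ × ℤˣ)) from rfl, this,
    Nat.card_coe_set_eq, Set.ncard_coe_finset, Finset.card_product,
    Finset.card_pair hneg.symm, Finset.card_univ, Fintype.card_units_int]

end Cfsg.Agent.S0788
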