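import Cfsg.Statements.S2635
-- import your own Cfsg.Agent.* helpers here
import Mathlib
import Cfsg.Agent.Lib.Helper13.QuadMat
import Cfsg.Agent.Lib.Helper44.CartanDieudonne
import Cfsg.Agent.Lib.Helper44.CDChar2
import Cfsg.Agent.S0792
import Cfsg.Agent.S0786

set_option autoImplicit false
open Cfsg

namespace Cfsg.Agent.S2635

section aux

open Matrix QuadraticMap Cfsg.Agent.Helper44 Cfsg.Agent.Helper13 Cfsg.Agent.S0792
  Cfsg.Agent.S0786

variable {F : Type*} [Field F] {ι : Type} [Fintype ι] [DecidableEq ι]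

theorem exists_G_of_list (Q : QuadraticForm F (ι → F)) :
    ∀ (l : List (ι → F)), (∀ w ∈ l, Q w ≠ 0) →
    ∃ ρ : ↥(Cfsg.isometryGroup F (⇑Q)),
      ((ρ : Matrix.GeneralLinearGroup ι F) : Matrix ι ι F) =
        (l.map (Cfsg.reflectionMatrix (⇑Q))).prod := by
  intro l
  induction l with
  | nil =>
    intro _
    exact ⟨1, by simp⟩
  | cons v l ih =>
    intro hl
    obtain ⟨ρ, hρ⟩ := ih (fun w hw => hl w (List.mem_cons_of_mem _ hw))
    refine ⟨reflG Q v (hl v (List.mem_cons_self ..)) * ρ, ?_⟩
    rw [Subgroup.coe_mul, Units.val_mul, coe_reflG, hρ, List.map_cons, List.prod_cons]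

theorem list_prod_mulVec (Q : QuadraticForm F (ι → F)) (l : List (ι → F)) (x : ι → F) :
    (l.map (Cfsg.reflectionMatrix (⇑Q))).prod *ᵥ x = reflProd Q l x := by
  rw [← Matrix.toLin'_apply, toLin'_list_prod, List.map_map]
  unfold reflProd
  congr 2
  apply List.map_congr_left
  intro w _
  exact toLin'_refl Q w

theorem list_prod_mul_reverse (Q : QuadraticForm F (ι → F)) (l : List (ι → F))
    (hl : ∀ w ∈ l, Q w ≠ 0) :
    (l.map (Cfsg.reflectionMatrix (⇑Q))).prod *
      (l.reverse.map (Cfsg.reflectionMatrix (⇑Q))).prod = 1 := by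
  induction l with
  | nil => simp
  | cons v l ih =>
    rw [List.reverse_cons, List.map_append, List.prod_append, List.map_cons, List.prod_cons,
      List.map_cons, List.map_nil, List.prod_cons, List.prod_nil, mul_one, mul_assoc,
      ← mul_assoc _ _ (Cfsg.reflectionMatrix (⇑Q) v),
      ih (fun w hw => hl w (List.mem_cons_of_mem _ hw)), one_mul,
      refl_mul_self Q v (hl v (List.mem_cons_self ..))]

theorem refl_conj (Q : QuadraticForm F (ι → F)) (P : Matrix ι ι F)
    (hP : ∀ x, Q (P *ᵥ x) = Q x) (u : ι → F) :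
    P * Cfsg.reflectionMatrix (⇑Q) u = Cfsg.reflectionMatrix (⇑Q) (P *ᵥ u) * P := by
  apply Matrix.toLin'.injective
  apply LinearMap.ext
  intro x
  have hpol : polar Q (P *ᵥ u) (P *ᵥ x) = polar Q u x := by
    have := polar_map_of_isometry Q (Matrix.toLin' P) (fun x => by
      rw [Matrix.toLin'_apply]; exact hP x) u x
    rwa [Matrix.toLin'_apply, Matrix.toLin'_apply] at this
  rw [Matrix.toLin'_mul, Matrix.toLin'_mul, LinearMap.comp_apply, LinearMap.comp_apply,
    Matrix.toLin'_apply, Matrix.toLin'_apply, Matrix.toLin'_apply, Matrix.toLin'_apply,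
    reflectionMatrix_mulVec, reflectionMatrix_mulVec, hpol, hP, Matrix.mulVec_sub,
    Matrix.mulVec_smul]

theorem refl_smul (Q : QuadraticForm F (ι → F)) (v : ι → F) (c : F) (hc : c ≠ 0) :
    Cfsg.reflectionMatrix (⇑Q) (c • v) = Cfsg.reflectionMatrix (⇑Q) v := by
  apply Matrix.toLin'.injective
  apply LinearMap.ext
  intro x
  rw [Matrix.toLin'_apply, Matrix.toLin'_apply, reflectionMatrix_mulVec, reflectionMatrix_mulVec,
    QuadraticMap.map_smul, polar_smul_left, smul_smul, smul_eq_mul, smul_eq_mul]
  congr 2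
  by_cases hv : Q v = 0
  · simp [hv]
  · field_simp

/-- Products of an even number of reflections lie in the commutator subgroup (characteristic
two, finite field). -/
theorem pair_mem_commutator [Fintype F] (h2 : (2 : F) = 0) (Q : QuadraticForm F (ι → F))
    (hQ : (polarBilin Q).Nondegenerate) (hexc : Fintype.card F ≠ 2 ∨ Fintype.card ι ≠ 4)
    (u v : ι → F) (hu : Q u ≠ 0) (hv : Q v ≠ 0) :
    reflG Q u hu * reflG Q v hv ∈ commutator ↥(Cfsg.isometryGroup F (⇑Q)) := by
  have hchar : CharP F 2 := CharTwo.of_one_ne_zero_of_two_eq_zero one_ne_zero h2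
  -- rescale v to have the norm of u
  obtain ⟨c, hc⟩ : ∃ c : F, Q u / Q v = c * c :=
    FiniteField.isSquare_of_char_two (ringChar.eq F 2) _
  have hc0 : c ≠ 0 := by
    rintro rfl
    rw [mul_zero] at hc
    exact (div_ne_zero hu hv) hc
  have hQcv : Q u = Q (c • v) := by
    rw [QuadraticMap.map_smul, smul_eq_mul, ← hc]
    field_simp
  obtain ⟨l, hl, hlu⟩ := refl_trans Q h2 hQ
    (by rw [Module.finrank_fintype_fun_eq_card]; exact hexc) u (c • v) hu hQcv
  obtain ⟨ρ, hρ⟩ := exists_G_of_list Q l hl
  have hρu : ((ρ : Matrix.GeneralLinearGroup ι F) : Matrix ι ι F) *ᵥ u = c • v := by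
    rw [hρ, list_prod_mulVec, hlu]
  have hconj : ρ * reflG Q u hu = reflG Q v hv * ρ := by
    apply Subtype.ext
    apply Units.ext
    rw [Subgroup.coe_mul, Units.val_mul, Subgroup.coe_mul, Units.val_mul, coe_reflG, coe_reflG,
      refl_conj Q ((ρ : Matrix.GeneralLinearGroup ι F) : Matrix ι ι F) (fun x => ρ.2 x x) u,
      hρu, refl_smul Q v c hc0]
  have hinv : (reflG Q u hu)⁻¹ = reflG Q u hu := by
    apply inv_eq_of_mul_eq_one_left
    apply Subtype.ext
    apply Units.ext
    rw [Subgroup.coe_mul, Units.val_mul, coe_reflG, refl_mul_self Q u hu]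
    rfl
  have : reflG Q u hu * reflG Q v hv = reflG Q u hu * ρ * (reflG Q u hu)⁻¹ * ρ⁻¹ := by
    rw [hinv, mul_assoc (reflG Q u hu), hconj, mul_assoc, mul_assoc,
      mul_inv_cancel, mul_one]
  rw [this, ← commutatorElement_def, commutator_def]
  exact Subgroup.commutator_mem_commutator (Subgroup.mem_top _) (Subgroup.mem_top _)

end aux

/-- Over a finite field of characteristic two, for a quadratic form Q on F^n with non-degenerate polar form, n ≥ 2, other than dimension 4 over the field of two elements, Ω (the commutator subgroup of the orthogonal group) is exactly the subgroup generated by the products of two reflections (orthogonal transvections) x ↦ x − Q(v)⁻¹ f(x, v) v, Q(v) ≠ 0: the products of an even number of reflections. -/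
theorem result {F : Type*} [Field F] [Fintype F] [CharP F 2] {n : ℕ} (hn : 2 ≤ n) (h : Fintype.card F ≠ 2 ∨ n ≠ 4) (Q : QuadraticForm F (Fin n → F)) (hQ : (QuadraticMap.polarBilin Q).Nondegenerate) : Cfsg.Omega F ⇑Q = Subgroup.closure {g : ↥(Cfsg.isometryGroup F ⇑Q) | ∃ u v : Fin n → F, Q u ≠ 0 ∧ Q v ≠ 0 ∧ ((g : Matrix.GeneralLinearGroup (Fin n) F) : Matrix (Fin n) (Fin n) F) = Cfsg.reflectionMatrix ⇑Q u * Cfsg.reflectionMatrix ⇑Q v} := by
  have h2 : (2 : F) = 0 := CharTwo.two_eq_zero
  have hexc : Fintype.card F ≠ 2 ∨ Fintype.card (Fin n) ≠ 4 := by rw [Fintype.card_fin]; exact h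
  apply le_antisymm
  · -- commutators are products of an even number of reflections
    show commutator ↥(Cfsg.isometryGroup F ⇑Q) ≤ _
    rw [commutator_def, Subgroup.commutator_le]
    intro a _ b _
    obtain ⟨la, hla, hMa⟩ := S0786.matrix_cd_all Q hQ hexc
      ((a : Matrix.GeneralLinearGroup (Fin n) F) : Matrix (Fin n) (Fin n) F) (fun u => a.2 u u)
    obtain ⟨lb, hlb, hMb⟩ := S0786.matrix_cd_all Q hQ hexc
      ((b : Matrix.GeneralLinearGroup (Fin n) F) : Matrix (Fin n) (Fin n) F) (fun u => b.2 u u)
    obtain ⟨a', ha'⟩ := exists_G_of_list Q la.reverse (fun w hw => hla w (List.mem_reverse.mp hw))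
    obtain ⟨b', hb'⟩ := exists_G_of_list Q lb.reverse (fun w hw => hlb w (List.mem_reverse.mp hw))
    have hainv : a⁻¹ = a' := by
      apply inv_eq_of_mul_eq_one_right
      apply Subtype.ext
      apply Units.ext
      rw [Subgroup.coe_mul, Units.val_mul, hMa, ha', list_prod_mul_reverse Q la hla]
      rfl
    have hbinv : b⁻¹ = b' := by
      apply inv_eq_of_mul_eq_one_right
      apply Subtype.ext
      apply Units.ext
      rw [Subgroup.coe_mul, Units.val_mul, hMb, hb', list_prod_mul_reverse Q lb hlb]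
      rfl
    apply S0792.mem_closure_of_even Q (la.length + lb.length)
      (la ++ (lb ++ (la.reverse ++ lb.reverse)))
    · simp only [List.length_append, List.length_reverse]
      ring
    · intro w hw
      simp only [List.mem_append, List.mem_reverse] at hw
      rcases hw with hw | hw | hw | hw
      · exact hla w hw
      · exact hlb w hw
      · exact hla w hw
      · exact hlb w hw
    · rw [commutatorElement_def, hainv, hbinv, Subgroup.coe_mul, Subgroup.coe_mul,
        Subgroup.coe_mul, Units.val_mul, Units.val_mul, Units.val_mul, hMa, hMb, ha', hb',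
        List.map_append, List.map_append, List.map_append, List.prod_append, List.prod_append,
        List.prod_append, mul_assoc, mul_assoc]
  · rw [Subgroup.closure_le]
    rintro g ⟨u, v, hu, hv, hg⟩
    have : g = S0792.reflG Q u hu * S0792.reflG Q v hv := by
      apply Subtype.ext
      apply Units.ext
      rw [hg]
      rfl
    rw [this]
    exact pair_mem_commutator h2 Q hQ hexc u v hu hv

end Cfsg.Agent.S2635
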