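import Cfsg.Statements.S0789
-- import your own Cfsg.Agent.* helpers here
import Mathlib
import Cfsg.Agent.Lib.Helper13.QuadMat
import Cfsg.Agent.Lib.Helper44.CartanDieudonne
import Cfsg.Agent.Lib.Helper44.CDChar2
import Cfsg.Agent.Lib.Helper44.ReflParity
import Cfsg.Agent.S0792
import Cfsg.Agent.S0786
import Cfsg.Agent.S2635

set_option autoImplicit false
open Cfsg

namespace Cfsg.Agent.S0789

section aux

open Matrix QuadraticMap Cfsg.Agent.Helper44 Cfsg.Agent.Helper13 Cfsg.Agent.S0792
  Cfsg.Agent.S0786 Cfsg.Agent.S2635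

variable {F : Type*} [Field F] {ι : Type} [Fintype ι] [DecidableEq ι]

/-- The subgroup generated by the products of two reflections. -/
def Rplus (Q : QuadraticForm F (ι → F)) : Subgroup ↥(Cfsg.isometryGroup F (⇑Q)) :=
  Subgroup.closure {g : ↥(Cfsg.isometryGroup F (⇑Q)) | ∃ u v : ι → F, Q u ≠ 0 ∧ Q v ≠ 0 ∧
    ((g : Matrix.GeneralLinearGroup ι F) : Matrix ι ι F) =
      Cfsg.reflectionMatrix (⇑Q) u * Cfsg.reflectionMatrix (⇑Q) v}

/-- Elements of `Rplus` are products of an even number of reflections. -/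
theorem exists_even_list_of_mem (Q : QuadraticForm F (ι → F))
    (g : ↥(Cfsg.isometryGroup F (⇑Q))) (hg : g ∈ Rplus Q) :
    ∃ l : List (ι → F), (∀ w ∈ l, Q w ≠ 0) ∧ Even l.length ∧
      ((g : Matrix.GeneralLinearGroup ι F) : Matrix ι ι F) =
        (l.map (Cfsg.reflectionMatrix (⇑Q))).prod := by
  unfold Rplus at hg
  induction hg using Subgroup.closure_induction with
  | mem x hx =>
    obtain ⟨u, v, hu, hv, hx⟩ := hx
    refine ⟨[u, v], ?_, ⟨1, rfl⟩, ?_⟩
    · intro w hw
      simp only [List.mem_cons, List.not_mem_nil, or_false] at hw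
      rcases hw with rfl | rfl
      · exact hu
      · exact hv
    · rw [hx]; simp
  | one => exact ⟨[], by simp, ⟨0, rfl⟩, by simp⟩
  | mul x y _ _ hx hy =>
    obtain ⟨lx, hlx, hex, hMx⟩ := hx
    obtain ⟨ly, hly, hey, hMy⟩ := hy
    refine ⟨lx ++ ly, ?_, ?_, ?_⟩
    · intro w hw
      rcases List.mem_append.mp hw with hw | hw
      · exact hlx w hw
      · exact hly w hw
    · rw [List.length_append]; exact hex.add hey
    · rw [Subgroup.coe_mul, Units.val_mul, hMx, hMy, List.map_append, List.prod_append]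
  | inv x _ hx =>
    obtain ⟨lx, hlx, hex, hMx⟩ := hx
    obtain ⟨x', hx'⟩ := exists_G_of_list Q lx.reverse
      (fun w hw => hlx w (List.mem_reverse.mp hw))
    have hxinv : x⁻¹ = x' := by
      apply inv_eq_of_mul_eq_one_right
      apply Subtype.ext
      apply Units.ext
      rw [Subgroup.coe_mul, Units.val_mul, hMx, hx', list_prod_mul_reverse Q lx hlx]
      rfl
    refine ⟨lx.reverse, fun w hw => hlx w (List.mem_reverse.mp hw), ?_, ?_⟩
    · rw [List.length_reverse]; exact hex
    · rw [hxinv, hx']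

/-- Membership in `Rplus` is detected by the parity of any expression as a product of
reflections. -/
theorem mem_Rplus_iff (Q : QuadraticForm F (ι → F)) (hQ : (polarBilin Q).Nondegenerate)
    (g : ↥(Cfsg.isometryGroup F (⇑Q))) (l : List (ι → F)) (hl : ∀ w ∈ l, Q w ≠ 0)
    (hg : ((g : Matrix.GeneralLinearGroup ι F) : Matrix ι ι F) =
        (l.map (Cfsg.reflectionMatrix (⇑Q))).prod) :
    g ∈ Rplus Q ↔ Even l.length := by
  constructor
  · intro hmem
    obtain ⟨l', hl', he', hM'⟩ := exists_even_list_of_mem Q g hmem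
    have heq : reflProd Q l = reflProd Q l' := by
      apply LinearMap.ext
      intro x
      rw [← list_prod_mulVec, ← list_prod_mulVec, ← hg, ← hM']
    have := length_parity_of_reflProd_eq Q hQ l l' hl hl' heq
    rw [Nat.even_iff] at he' ⊢
    omega
  · rintro ⟨k, hk⟩
    exact mem_closure_of_even Q k l (by omega) hl g hg

end aux

/-- Ω has index 2 in O for q even: if F is finite of characteristic two, n ≥ 2, Q is a quadratic form on F^n with non-degenerate polar form, and (|F|, n) ≠ (2, 4), then the commutator subgroup of the isometry group of Q has index 2 in it. -/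
theorem result {F : Type*} [Field F] [Fintype F] [CharP F 2] {n : ℕ} (hn : 2 ≤ n) (Q : QuadraticForm F (Fin n → F)) (hQ : (QuadraticMap.polarBilin Q).Nondegenerate) (h : Fintype.card F ≠ 2 ∨ n ≠ 4) : (Cfsg.Omega F ⇑Q).index = 2 := by
  have hexc : Fintype.card F ≠ 2 ∨ Fintype.card (Fin n) ≠ 4 := by rw [Fintype.card_fin]; exact h
  have hOm : Cfsg.Omega F ⇑Q = Rplus Q := S2635.result hn h Q hQ
  rw [hOm, Subgroup.index_eq_two_iff]
  have : Nonempty (Fin n) := ⟨⟨0, by omega⟩⟩
  obtain ⟨v, hv⟩ := Helper44.exists_Q_ne_zero Q hQ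
  refine ⟨S0792.reflG Q v hv, fun b => ?_⟩
  obtain ⟨l, hl, hMl⟩ := S0786.matrix_cd_all Q hQ hexc
    ((b : Matrix.GeneralLinearGroup (Fin n) F) : Matrix (Fin n) (Fin n) F) (fun u => b.2 u u)
  have h1 := mem_Rplus_iff Q hQ b l hl hMl
  have h2 := mem_Rplus_iff Q hQ (b * S0792.reflG Q v hv) (l ++ [v])
    (by
      intro w hw
      rcases List.mem_append.mp hw with hw | hw
      · exact hl w hw
      · rw [List.mem_singleton] at hw
        rw [hw]; exact hv)
    (by
      rw [Subgroup.coe_mul, Units.val_mul, hMl, S0792.coe_reflG, List.map_append,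
        List.prod_append]
      simp)
  rw [List.length_append, List.length_singleton] at h2
  rw [h1, h2]
  rcases Nat.even_or_odd l.length with he | ho
  · right
    exact ⟨he, by rw [Nat.not_even_iff_odd]; exact he.add_one⟩
  · left
    exact ⟨ho.add_one, by rw [Nat.not_even_iff_odd]; exact ho⟩

end Cfsg.Agent.S0789
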