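import Cfsg.Statements.S2613
import Cfsg.Agent.Lib.Helper43.SpinorDiag
import Cfsg.Agent.Lib.Helper43.OrthPlus

set_option autoImplicit false
open Cfsg

namespace Cfsg.Agent.S2613

open Cfsg.Agent.Helper43 QuadraticMap Matrix

theorem isHypFamily_comp {F V : Type*} [Field F] [AddCommGroup V] [Module F V]
    {Q : QuadraticForm F V} {k k' : ℕ} {e f : Fin k → V} (h : IsHypFamily Q e f)
    (φ : Fin k' → Fin k) (hφ : Function.Injective φ) :
    IsHypFamily Q (fun j => e (φ j)) (fun j => f (φ j)) where
  qe j := h.qe _
  qf j := h.qf _
  ef a b := by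
    rw [h.ef]
    by_cases hab : a = b
    · rw [if_pos hab, if_pos (by rw [hab])]
    · rw [if_neg hab, if_neg (fun h' => hab (hφ h'))]
  ee a b := h.ee _ _
  ff a b := h.ff _ _

theorem polar_single_inl {F : Type*} [Field F] (m : ℕ) (j : Fin m) (x : Fin m ⊕ Fin m → F) :
    polar (stdPlus F m) (Pi.single (Sum.inl j) 1) x = x (Sum.inr j) := by
  rw [polar_stdPlus]
  simp [Pi.single_apply]

theorem polar_single_inr {F : Type*} [Field F] (m : ℕ) (j : Fin m) (x : Fin m ⊕ Fin m → F) :
    polar (stdPlus F m) (Pi.single (Sum.inr j) 1) x = x (Sum.inl j) := by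
  rw [polar_stdPlus]
  simp [Pi.single_apply]

/-- For the hyperbolic form Σ x_j y_j on F^(2m), F finite with q elements, q odd, and 1 ≤ i ≤ m: the involution negating the first i hyperbolic pairs (x_j, y_j ↦ −x_j, −y_j for j < i) and fixing the rest lies in Ω⁺_2m(q) (commutator subgroup of the orthogonal group) if and only if q^i ≡ 1 (mod 4); its (−1)-eigenspace is a hyperbolic 2i-space. -/
theorem result {F : Type*} [Field F] [Fintype F] {q : ℕ} (hF : Fintype.card F = q) (hq : Odd q) {m : ℕ} (i : ℕ) (hi : 1 ≤ i) (him : i ≤ m) : (∃ g : ↥(Cfsg.isometryGroup F (Cfsg.quadFormPlus m F)), g ∈ Cfsg.Omega F (Cfsg.quadFormPlus m F) ∧ ((g : Matrix.GeneralLinearGroup (Fin m ⊕ Fin m) F) : Matrix (Fin m ⊕ Fin m) (Fin m ⊕ Fin m) F) = Matrix.diagonal (fun k : Fin m ⊕ Fin m => if (Sum.elim (fun j : Fin m => (j : ℕ)) (fun j : Fin m => (j : ℕ)) k) < i then (-1 : F) else 1)) ↔ q ^ i % 4 = 1 := by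
  have h2 : (2 : F) ≠ 0 := two_ne_zero_of_odd_card hF hq
  have hcard : 2 ≤ Fintype.card (Fin m ⊕ Fin m) := by
    rw [Fintype.card_sum, Fintype.card_fin]
    omega
  have hfam := isHypFamily_comp (stdPlus_isHypFamily F m) (Fin.castLE him)
    (Fin.castLE_injective him)
  have key := exists_mem_Omega_iff_of_hypFamily (stdPlus F m) h2 hcard (stdPlus_nondegenerate F m)
    hfam (Matrix.diagonal (fun k : Fin m ⊕ Fin m => if (Sum.elim (fun j : Fin m => (j : ℕ)) (fun j : Fin m => (j : ℕ)) k) < i then (-1 : F) else 1))
    (by
      intro x
      funext k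
      rw [Matrix.mulVec_diagonal]
      rcases k with l | l
      · by_cases hl : (l : ℕ) < i
        · have hd : (if Sum.elim (fun j : Fin m => (j : ℕ)) (fun j : Fin m => (j : ℕ)) (Sum.inl l) < i
              then (-1 : F) else 1) = -1 := if_pos hl
          rw [hd]
          simp only [polar_single_inl, polar_single_inr, Pi.sub_apply, Finset.sum_apply,
            Pi.add_apply, Pi.smul_apply, smul_eq_mul, Pi.single_apply, Sum.inl.injEq, reduceCtorEq,
            if_false, mul_zero, add_zero]
          rw [Finset.sum_eq_single (⟨l, hl⟩ : Fin i)]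
          · rw [if_pos (by ext; rfl)]
            have : Fin.castLE him ⟨(l : ℕ), hl⟩ = l := by ext; rfl
            rw [this]
            ring
          · intro b _ hb
            rw [if_neg, mul_zero]
            intro h
            apply hb
            ext
            show (b : ℕ) = (l : ℕ)
            rw [h]
            rfl
          · intro h
            exact absurd (Finset.mem_univ _) h
        · have hd : (if Sum.elim (fun j : Fin m => (j : ℕ)) (fun j : Fin m => (j : ℕ)) (Sum.inl l) < i
              then (-1 : F) else 1) = 1 := if_neg hl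
          rw [hd]
          simp only [polar_single_inl, polar_single_inr, Pi.sub_apply, Finset.sum_apply,
            Pi.add_apply, Pi.smul_apply, smul_eq_mul, Pi.single_apply, Sum.inl.injEq, reduceCtorEq,
            if_false, mul_zero, add_zero]
          rw [Finset.sum_eq_zero]
          · ring
          · intro b _
            rw [if_neg, mul_zero]
            intro h
            apply hl
            rw [h]
            exact b.2
      · by_cases hl : (l : ℕ) < i
        · have hd : (if Sum.elim (fun j : Fin m => (j : ℕ)) (fun j : Fin m => (j : ℕ)) (Sum.inr l) < i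
              then (-1 : F) else 1) = -1 := if_pos hl
          rw [hd]
          simp only [polar_single_inl, polar_single_inr, Pi.sub_apply, Finset.sum_apply,
            Pi.add_apply, Pi.smul_apply, smul_eq_mul, Pi.single_apply, Sum.inr.injEq, reduceCtorEq,
            if_false, mul_zero, zero_add]
          rw [Finset.sum_eq_single (⟨l, hl⟩ : Fin i)]
          · rw [if_pos (by ext; rfl)]
            have : Fin.castLE him ⟨(l : ℕ), hl⟩ = l := by ext; rfl
            rw [this]
            ring
          · intro b _ hb
            rw [if_neg, mul_zero]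
            intro h
            apply hb
            ext
            show (b : ℕ) = (l : ℕ)
            rw [h]
            rfl
          · intro h
            exact absurd (Finset.mem_univ _) h
        · have hd : (if Sum.elim (fun j : Fin m => (j : ℕ)) (fun j : Fin m => (j : ℕ)) (Sum.inr l) < i
              then (-1 : F) else 1) = 1 := if_neg hl
          rw [hd]
          simp only [polar_single_inl, polar_single_inr, Pi.sub_apply, Finset.sum_apply,
            Pi.add_apply, Pi.smul_apply, smul_eq_mul, Pi.single_apply, Sum.inr.injEq, reduceCtorEq,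
            if_false, mul_zero, zero_add]
          rw [Finset.sum_eq_zero]
          · ring
          · intro b _
            rw [if_neg, mul_zero]
            intro h
            apply hl
            rw [h]
            exact b.2)
  rw [← isSquare_neg_one_pow_iff_card hF hq i]
  exact key

end Cfsg.Agent.S2613
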