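import Cfsg.Statements.S2615
import Cfsg.Agent.Lib.Helper43.SpinorDiag
import Cfsg.Agent.Lib.Helper43.OrthMinus
import Cfsg.Agent.S2613

set_option autoImplicit false
open Cfsg

namespace Cfsg.Agent.S2615

open Cfsg.Agent.Helper43 QuadraticMap Matrix

theorem polar_minus_single_e {F : Type*} [Field F] (k : ℕ) (a b : F) (j : Fin k)
    (x : (Fin k ⊕ Fin k) ⊕ Fin 2 → F) :
    polar (stdMinus F k a b) (Pi.single (Sum.inl (Sum.inl j)) 1) x = x (Sum.inl (Sum.inr j)) := by
  rw [polar_stdMinus]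
  simp [Pi.single_apply]

theorem polar_minus_single_f {F : Type*} [Field F] (k : ℕ) (a b : F) (j : Fin k)
    (x : (Fin k ⊕ Fin k) ⊕ Fin 2 → F) :
    polar (stdMinus F k a b) (Pi.single (Sum.inl (Sum.inr j)) 1) x = x (Sum.inl (Sum.inl j)) := by
  rw [polar_stdMinus]
  simp [Pi.single_apply]

/-- For an elliptic form Σ_(j<m−1) x_j y_j + (z₁² + a z₁z₂ + b z₂²) (anisotropic binary part) on F^(2m), F finite with q elements, q odd, and 1 ≤ i ≤ m − 1: the involution negating the first i hyperbolic pairs and fixing the rest lies in Ω⁻_2m(q) (commutator subgroup of the orthogonal group) if and only if q^i ≡ 1 (mod 4). -/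
theorem result {F : Type*} [Field F] [Fintype F] {q : ℕ} (hF : Fintype.card F = q) (hq : Odd q) {m : ℕ} (a b : F) (hab : ∀ z₁ z₂ : F, z₁ ^ 2 + a * z₁ * z₂ + b * z₂ ^ 2 = 0 → z₁ = 0 ∧ z₂ = 0) (i : ℕ) (hi : 1 ≤ i) (him : i + 1 ≤ m) : (∃ g : ↥(Cfsg.isometryGroup F (Cfsg.quadFormMinus (m - 1) F a b)), g ∈ Cfsg.Omega F (Cfsg.quadFormMinus (m - 1) F a b) ∧ ((g : Matrix.GeneralLinearGroup ((Fin (m - 1) ⊕ Fin (m - 1)) ⊕ Fin 2) F) : Matrix ((Fin (m - 1) ⊕ Fin (m - 1)) ⊕ Fin 2) ((Fin (m - 1) ⊕ Fin (m - 1)) ⊕ Fin 2) F) = Matrix.diagonal (fun k : (Fin (m - 1) ⊕ Fin (m - 1)) ⊕ Fin 2 => if (Sum.elim (Sum.elim (fun j : Fin (m - 1) => (j : ℕ)) (fun j : Fin (m - 1) => (j : ℕ))) (fun _ : Fin 2 => i) k) < i then (-1 : F) else 1)) ↔ q ^ i % 4 = 1 := by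
  have h2 : (2 : F) ≠ 0 := two_ne_zero_of_odd_card hF hq
  have him' : i ≤ m - 1 := by omega
  have hcard : 2 ≤ Fintype.card ((Fin (m - 1) ⊕ Fin (m - 1)) ⊕ Fin 2) := by
    rw [Fintype.card_sum, Fintype.card_sum, Fintype.card_fin, Fintype.card_fin]
    omega
  have hfam := Cfsg.Agent.S2613.isHypFamily_comp (stdMinus_isHypFamily F (m - 1) a b)
    (Fin.castLE him') (Fin.castLE_injective him')
  have key := exists_mem_Omega_iff_of_hypFamily (stdMinus F (m - 1) a b) h2 hcard
    (stdMinus_nondegenerate (k := m - 1) hab)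
    hfam (Matrix.diagonal (fun k : (Fin (m - 1) ⊕ Fin (m - 1)) ⊕ Fin 2 => if (Sum.elim (Sum.elim (fun j : Fin (m - 1) => (j : ℕ)) (fun j : Fin (m - 1) => (j : ℕ))) (fun _ : Fin 2 => i) k) < i then (-1 : F) else 1))
    (by
      intro x
      apply diagonal_mulVec_eq_of_pairs (stdMinus F (m - 1) a b)
        (fun j : Fin i => (Sum.inl (Sum.inl (Fin.castLE him' j)) : (Fin (m - 1) ⊕ Fin (m - 1)) ⊕ Fin 2))
        (fun j : Fin i => (Sum.inl (Sum.inr (Fin.castLE him' j)) : (Fin (m - 1) ⊕ Fin (m - 1)) ⊕ Fin 2))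
      · intro a' b' h
        exact Fin.castLE_injective him' (Sum.inl_injective (Sum.inl_injective h))
      · intro a' b' h
        exact Fin.castLE_injective him' (Sum.inr_injective (Sum.inl_injective h))
      · intro a' b' h
        exact Sum.inl_ne_inr (Sum.inl_injective h)
      · intro j x
        exact polar_minus_single_e (m - 1) a b _ x
      · intro j x
        exact polar_minus_single_f (m - 1) a b _ x
      · intro j
        exact if_pos j.2
      · intro j
        exact if_pos j.2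
      · intro k h1 h2'
        rcases k with (l | l) | u
        · apply if_neg
          intro hl
          exact h1 ⟨l, hl⟩ rfl
        · apply if_neg
          intro hl
          exact h2' ⟨l, hl⟩ rfl
        · exact if_neg (lt_irrefl i))
  rw [← isSquare_neg_one_pow_iff_card hF hq i, ← coe_stdMinus F (m - 1) a b]
  exact key

end Cfsg.Agent.S2615
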