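import Cfsg.Statements.S0791
import Cfsg.Agent.Lib.Helper43.SpinorDiag
import Cfsg.Agent.Lib.Helper43.OrthMinus
import Cfsg.Agent.Lib.Helper43.GramDet
import Cfsg.Agent.S2615

set_option autoImplicit false
open Cfsg

namespace Cfsg.Agent.S0791

open Cfsg.Agent.Helper43 QuadraticMap Matrix

theorem polar_minus_z0 {F : Type*} [Field F] (k : ℕ) (a b : F)
    (x : (Fin k ⊕ Fin k) ⊕ Fin 2 → F) :
    polar (stdMinus F k a b) (Pi.single (Sum.inr 0) 1) x = 2 * x (Sum.inr 0) + a * x (Sum.inr 1) := by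
  rw [polar_stdMinus]
  simp

theorem polar_minus_z1 {F : Type*} [Field F] (k : ℕ) (a b : F)
    (x : (Fin k ⊕ Fin k) ⊕ Fin 2 → F) :
    polar (stdMinus F k a b) (Pi.single (Sum.inr 1) 1) x =
      a * x (Sum.inr 0) + 2 * b * x (Sum.inr 1) := by
  rw [polar_stdMinus]
  simp

/-- The two orthogonal vectors of the anisotropic plane. -/
noncomputable def pp {F : Type*} [Field F] (k : ℕ) (a : F) : Fin 2 → ((Fin k ⊕ Fin k) ⊕ Fin 2 → F) :=
  ![Pi.single (Sum.inr 0) 1, Pi.single (Sum.inr 1) 1 - (a / 2) • Pi.single (Sum.inr 0) 1]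

theorem isSquare_mul_nonsquare_iff {F : Type*} [Field F] [Fintype F] {x D : F} (hx : x ≠ 0)
    (hD : ¬ IsSquare D) : IsSquare (x * D) ↔ ¬ IsSquare x := by
  constructor
  · intro h hxs
    apply hD
    obtain ⟨s, hs⟩ := hxs
    obtain ⟨r, hr⟩ := h
    have hs0 : s ≠ 0 := by
      intro h0
      rw [h0, mul_zero] at hs
      exact hx hs
    refine ⟨r / s, ?_⟩
    subst hs
    field_simp
    linear_combination hr
  · intro h
    exact isSquare_mul_of_not_isSquare h hD

theorem arith_iff (q m : ℕ) (hq : Odd q) : ¬ (q ^ m % 4 = 1) ↔ q ^ m % 4 = 3 := by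
  have : Odd (q ^ m) := hq.pow
  obtain ⟨t, ht⟩ := this
  omega

/-- −1 ∈ Ω⁻_2m(q) iff q^m ≡ −1 (mod 4), for q odd and m ≥ 1; for the minus-type form quadFormMinus (m−1) with anisotropic binary part. -/
theorem result {F : Type*} [Field F] [Fintype F] {q : ℕ} (hF : Fintype.card F = q) (hodd : Odd q) (m : ℕ) (hm : 1 ≤ m) (a b : F) (hab : ∀ z₁ z₂ : F, z₁ ^ 2 + a * z₁ * z₂ + b * z₂ ^ 2 = 0 → z₁ = 0 ∧ z₂ = 0) : (∃ g : ↥(Cfsg.isometryGroup F (Cfsg.quadFormMinus (m - 1) F a b)), g ∈ Cfsg.Omega F (Cfsg.quadFormMinus (m - 1) F a b) ∧ ((g : Matrix.GeneralLinearGroup ((Fin (m - 1) ⊕ Fin (m - 1)) ⊕ Fin 2) F) : Matrix ((Fin (m - 1) ⊕ Fin (m - 1)) ⊕ Fin 2) ((Fin (m - 1) ⊕ Fin (m - 1)) ⊕ Fin 2) F) = -1) ↔ q ^ m % 4 = 3 := by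
  have h2 : (2 : F) ≠ 0 := two_ne_zero_of_odd_card hF hodd
  have h4 : (4 : F) ≠ 0 := by
    have : (4 : F) = 2 * 2 := by norm_num
    rw [this]
    exact mul_ne_zero h2 h2
  have hD : ¬ IsSquare (a ^ 2 - 4 * b) := AnisoPair.disc_ne_zero hab h2
  have hD0 : a ^ 2 - 4 * b ≠ 0 := by
    intro h
    apply hD
    rw [h]
    exact ⟨0, by simp⟩
  obtain ⟨c, rfl⟩ : ∃ c, b = c + a ^ 2 / 4 := ⟨b - a ^ 2 / 4, by ring⟩
  have hc : c ≠ 0 := by
    intro h
    apply hD0
    rw [h]
    field_simp
    ring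
  have hcard : 2 ≤ Fintype.card ((Fin (m - 1) ⊕ Fin (m - 1)) ⊕ Fin 2) := by
    rw [Fintype.card_sum, Fintype.card_sum, Fintype.card_fin, Fintype.card_fin]
    omega
  set Q := stdMinus F (m - 1) a (c + a ^ 2 / 4) with hQdef
  have hq0 : Q (pp (m - 1) a 0) = 1 := stdMinus_single_zero F (m - 1) a (c + a ^ 2 / 4)
  have hq1 : Q (pp (m - 1) a 1) = c := by
    show Q (Pi.single (Sum.inr 1) 1 - (a / 2) • Pi.single (Sum.inr 0) 1) = _
    rw [sub_eq_add_neg, ← neg_smul, QuadraticMap.map_add Q, QuadraticMap.map_smul,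
      polar_smul_right, stdMinus_single_zero, stdMinus_single_one, polar_comm,
      stdMinus_polar_zero_one]
    simp only [smul_eq_mul]
    field_simp
    ring
  have key := exists_mem_Omega_iff_of_hypFamily_add Q h2 hcard
    (stdMinus_nondegenerate (k := m - 1) hab) (stdMinus_isHypFamily F (m - 1) a (c + a ^ 2 / 4))
    (pp (m - 1) a)
    (by
      intro t
      fin_cases t
      · show Q (pp (m - 1) a 0) ≠ 0
        rw [hq0]
        exact one_ne_zero
      · show Q (pp (m - 1) a 1) ≠ 0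
        rw [hq1]
        exact hc)
    (by
      have h01 : polar Q (pp (m - 1) a 0) (pp (m - 1) a 1) = 0 := by
        show polar Q (Pi.single (Sum.inr 0) 1)
          (Pi.single (Sum.inr 1) 1 - (a / 2) • Pi.single (Sum.inr 0) 1) = 0
        rw [polar_sub_right, polar_smul_right, stdMinus_polar_zero_one, polar_self,
          stdMinus_single_zero]
        simp only [smul_eq_mul, nsmul_eq_mul, Nat.cast_ofNat]
        field_simp
        ring
      intro s t hst
      fin_cases s <;> fin_cases t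
      · exact absurd rfl hst
      · exact h01
      · rw [polar_comm]
        exact h01
      · exact absurd rfl hst)
    (by
      intro j t
      fin_cases t
      · exact stdMinus_polar_cross F (m - 1) a (c + a ^ 2 / 4) (Sum.inl j) 0
      · show polar Q (Pi.single (Sum.inl (Sum.inl j)) 1)
          (Pi.single (Sum.inr 1) 1 - (a / 2) • Pi.single (Sum.inr 0) 1) = 0
        rw [polar_sub_right, polar_smul_right, stdMinus_polar_cross, stdMinus_polar_cross]
        simp)
    (by
      intro j t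
      fin_cases t
      · exact stdMinus_polar_cross F (m - 1) a (c + a ^ 2 / 4) (Sum.inr j) 0
      · show polar Q (Pi.single (Sum.inl (Sum.inr j)) 1)
          (Pi.single (Sum.inr 1) 1 - (a / 2) • Pi.single (Sum.inr 0) 1) = 0
        rw [polar_sub_right, polar_smul_right, stdMinus_polar_cross, stdMinus_polar_cross]
        simp)
    (-1)
    (by
      intro x
      have hdiag := diagonal_mulVec_eq_of_pairs Q
        (fun j : Fin (m - 1) => (Sum.inl (Sum.inl j) : (Fin (m - 1) ⊕ Fin (m - 1)) ⊕ Fin 2))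
        (fun j : Fin (m - 1) => (Sum.inl (Sum.inr j) : (Fin (m - 1) ⊕ Fin (m - 1)) ⊕ Fin 2))
        (fun a' b' h => Sum.inl_injective (Sum.inl_injective h))
        (fun a' b' h => Sum.inr_injective (Sum.inl_injective h))
        (fun a' b' h => Sum.inl_ne_inr (Sum.inl_injective h))
        (fun j x => Cfsg.Agent.S2615.polar_minus_single_e (m - 1) a (c + a ^ 2 / 4) j x)
        (fun j x => Cfsg.Agent.S2615.polar_minus_single_f (m - 1) a (c + a ^ 2 / 4) j x)
        (fun k => Sum.elim (fun _ => (-1 : F)) (fun _ => 1) k)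
        (fun j => rfl) (fun j => rfl)
        (by
          intro k h1 h2'
          rcases k with (l | l) | u
          · exact absurd rfl (h1 l)
          · exact absurd rfl (h2' l)
          · rfl) x
      rw [← hdiag, Fin.sum_univ_two, hq0, hq1]
      have e0 : pp (m - 1) a 0 = Pi.single (Sum.inr 0) 1 := rfl
      have e1 : pp (m - 1) a 1 = Pi.single (Sum.inr 1) 1 - (a / 2) • Pi.single (Sum.inr 0) 1 := rfl
      rw [e0, e1, polar_sub_left, polar_smul_left, polar_minus_z0, polar_minus_z1]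
      funext k
      rw [Matrix.neg_mulVec, Matrix.one_mulVec]
      simp only [Pi.neg_apply, Pi.sub_apply, Pi.add_apply, Pi.smul_apply, smul_eq_mul,
        Matrix.mulVec_diagonal, Pi.single_apply]
      rcases k with (l | l) | u
      · simp
      · simp
      · fin_cases u
        · simp
          field_simp
          ring
        · simp
          field_simp
          ring)
  rw [← coe_stdMinus F (m - 1) a (c + a ^ 2 / 4), key, ← arith_iff q m hodd, ← isSquare_neg_one_pow_iff_card hF hodd m]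
  rw [Fin.prod_univ_two, hq0, hq1, one_mul]
  have hm' : m = (m - 1) + 1 := by omega
  have e : (-1 : F) ^ (m - 1) * c = (1 / 2) * (1 / 2) * ((-1) ^ m * (a ^ 2 - 4 * (c + a ^ 2 / 4))) := by
    nth_rewrite 2 [hm']
    rw [pow_succ]
    field_simp
    ring
  have hev : Even (Fintype.card (Fin 2)) := by simp
  rw [and_iff_right hev, e, isSquare_sq_mul_iff _ _ (by simp [h2]),
    isSquare_mul_nonsquare_iff (pow_ne_zero _ (by simp)) hD]

end Cfsg.Agent.S0791
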