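import Cfsg.Statements.S2167
import Mathlib

set_option autoImplicit false
open Cfsg

namespace Cfsg.Agent.S2167

open Module

universe u v

/-- An alternating bilinear form has even rank (in the form `dim V = dim (ker B) + 2k`). -/
theorem alt_even_aux {F : Type u} [Field F] :
    ∀ (d : ℕ) (V : Type v) [AddCommGroup V] [Module F V] [FiniteDimensional F V],
      finrank F V = d → ∀ B : V →ₗ[F] V →ₗ[F] F, B.IsAlt →
        ∃ k, finrank F V = finrank F (LinearMap.ker B) + 2 * k := by
  intro d
  induction d using Nat.strong_induction_on with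
  | _ d ih =>
    intro V _ _ _ hd B hB
    by_cases hB0 : B = 0
    · refine ⟨0, ?_⟩
      rw [hB0, LinearMap.ker_zero, finrank_top]
      simp
    · -- find u v with B u v ≠ 0
      obtain ⟨u, v, huv⟩ : ∃ u v, B u v ≠ 0 := by
        by_contra h
        push Not at h
        apply hB0
        ext x y
        exact h x y
      have hvu : B v u = - B u v := by
        have := hB.neg u v
        rw [← this]
      have hvu0 : B v u ≠ 0 := by rw [hvu]; exact neg_ne_zero.mpr huv
      have huu : B u u = 0 := hB u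
      have hvv : B v v = 0 := hB v
      -- the orthogonal complement of span{u,v}
      let L : V →ₗ[F] F × F := (B u).prod (B v)
      have hLsurj : Function.Surjective L := by
        rintro ⟨a, b⟩
        refine ⟨(a / B u v) • v + (b / B v u) • u, ?_⟩
        have h1 : B u ((a / B u v) • v + (b / B v u) • u) = a := by
          rw [map_add, map_smul, map_smul, huu, smul_zero, add_zero, smul_eq_mul, div_mul_cancel₀ _ huv]
        have h2 : B v ((a / B u v) • v + (b / B v u) • u) = b := by
          rw [map_add, map_smul, map_smul, hvv, smul_zero, zero_add, smul_eq_mul, div_mul_cancel₀ _ hvu0]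
        exact Prod.ext h1 h2
      set V' := LinearMap.ker L with hV'
      have hmemV' : ∀ x, x ∈ V' ↔ B u x = 0 ∧ B v x = 0 := by
        intro x
        rw [hV', LinearMap.mem_ker]
        constructor
        · intro h
          exact ⟨congrArg Prod.fst h, congrArg Prod.snd h⟩
        · rintro ⟨h1, h2⟩
          exact Prod.ext h1 h2
      have hdimV' : finrank F V = finrank F V' + 2 := by
        have h1 := LinearMap.finrank_range_add_finrank_ker L
        rw [← hV'] at h1
        have h2 : finrank F (LinearMap.range L) = 2 := by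
          rw [LinearMap.range_eq_top.mpr hLsurj, finrank_top, Module.finrank_prod, Module.finrank_self]
        omega
      let B' : V' →ₗ[F] V' →ₗ[F] F := B.domRestrict₁₂ V' V'
      have hB' : B'.IsAlt := fun x => hB x
      have hker : (LinearMap.ker B').map V'.subtype = LinearMap.ker B := by
        ext x
        simp only [Submodule.mem_map, LinearMap.mem_ker, Submodule.subtype_apply]
        constructor
        · rintro ⟨⟨x', hx'⟩, hx'k, rfl⟩
          obtain ⟨hux, hvx⟩ := (hmemV' x').mp hx'
          have hxu : B x' u = 0 := by rw [← hB.neg u x', hux, neg_zero]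
          have hxv : B x' v = 0 := by rw [← hB.neg v x', hvx, neg_zero]
          ext z
          -- decompose z
          set y := z - (B v z / B v u) • u - (B u z / B u v) • v with hy
          have hyV' : y ∈ V' := by
            rw [hmemV']
            constructor
            · simp only [hy, map_sub, map_smul, smul_eq_mul, huu, mul_zero, sub_zero]
              rw [div_mul_cancel₀ _ huv, sub_self]
            · simp only [hy, map_sub, map_smul, smul_eq_mul, hvv, mul_zero, sub_zero]
              rw [div_mul_cancel₀ _ hvu0, sub_self]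
          have hxy : B x' y = 0 := by
            have := LinearMap.congr_fun hx'k ⟨y, hyV'⟩
            simpa only [B', LinearMap.domRestrict₁₂_apply, LinearMap.zero_apply] using this
          have hz : z = y + (B v z / B v u) • u + (B u z / B u v) • v := by
            rw [hy]; abel
          rw [hz]
          simp [hxy, hxu, hxv]
        · intro hx
          have hux : B u x = 0 := by rw [← hB.neg x u, hx]; simp
          have hvx : B v x = 0 := by rw [← hB.neg x v, hx]; simp
          refine ⟨⟨x, (hmemV' x).mpr ⟨hux, hvx⟩⟩, ?_, rfl⟩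
          ext y
          simp only [B', LinearMap.domRestrict₁₂_apply, hx, LinearMap.zero_apply]
      have hkerdim : finrank F (LinearMap.ker B') = finrank F (LinearMap.ker B) := by
        rw [← hker, Submodule.finrank_map_subtype_eq]
      have hlt : finrank F V' < d := by omega
      obtain ⟨k, hk⟩ := ih (finrank F V') hlt V' rfl B' hB'
      refine ⟨k + 1, ?_⟩
      rw [hdimV', hk, hkerdim]
      ring


open Matrix

/-- an alternating matrix has even rank -/
theorem alt_matrix_rank_even {F : Type u} [Field F] {ι : Type} [Fintype ι] [DecidableEq ι]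
    (M : Matrix ι ι F) (hM : ∀ v : ι → F, v ⬝ᵥ (M *ᵥ v) = 0) : Even M.rank := by
  set B : (ι → F) →ₗ[F] (ι → F) →ₗ[F] F := Matrix.toLinearMap₂' F M with hBdef
  have hBapp : ∀ x y, B x y = x ⬝ᵥ (M *ᵥ y) := fun x y => Matrix.toLinearMap₂'_apply' M x y
  have hB : B.IsAlt := by
    intro x
    rw [hBapp]
    exact hM x
  obtain ⟨k, hk⟩ := alt_even_aux (finrank F (ι → F)) (ι → F) rfl B hB
  have hker : LinearMap.ker B = LinearMap.ker (Matrix.mulVecLin M) := by
    ext x
    simp only [LinearMap.mem_ker, Matrix.mulVecLin_apply]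
    constructor
    · intro hx
      apply dotProduct_eq_zero
      intro y
      rw [dotProduct_comm, ← hBapp, ← hB.neg, hx]
      simp
    · intro hx
      apply LinearMap.ext
      intro y
      rw [← hB.neg, hBapp, hx]
      simp
  have h1 := LinearMap.finrank_range_add_finrank_ker (Matrix.mulVecLin M)
  have h2 : M.rank = finrank F (LinearMap.range (Matrix.mulVecLin M)) := rfl
  rw [hker] at hk
  refine ⟨k, ?_⟩
  omega


section main

variable {F : Type*} [Field F] [Fintype F] [CharP F 2] {m : ℕ}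

theorem J_self (v : Fin m ⊕ Fin m → F) : v ⬝ᵥ (Matrix.J (Fin m) F *ᵥ v) = 0 := by
  simp only [Matrix.J, dotProduct, Matrix.mulVec, Fintype.sum_sum_type, Matrix.fromBlocks_apply₁₁,
    Matrix.fromBlocks_apply₁₂, Matrix.fromBlocks_apply₂₁, Matrix.fromBlocks_apply₂₂, Matrix.zero_apply,
    zero_mul, Finset.sum_const_zero, zero_add, add_zero, Matrix.neg_apply, Matrix.one_apply]
  simp only [neg_mul, ite_mul, one_mul, zero_mul, Finset.sum_neg_distrib, Finset.sum_ite_eq, Finset.mem_univ,
    if_true, mul_neg]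
  rw [← sub_eq_neg_add, sub_eq_zero]
  apply Finset.sum_congr rfl
  intro i _
  ring

/-- the matrix `S = J * A` is skew -/
theorem S_transpose (A : Matrix (Fin m ⊕ Fin m) (Fin m ⊕ Fin m) F)
    (hA : A ∈ Matrix.symplecticGroup (Fin m) F) (hAA : A * A = 1) :
    (Matrix.J (Fin m) F * A)ᵀ = -(Matrix.J (Fin m) F * A) := by
  have h1 : Aᵀ * Matrix.J (Fin m) F * A = Matrix.J (Fin m) F := SymplecticGroup.mem_iff'.mp hA
  have h2 : Aᵀ * Matrix.J (Fin m) F = Matrix.J (Fin m) F * A := by
    calc Aᵀ * Matrix.J (Fin m) F = Aᵀ * Matrix.J (Fin m) F * (A * A) := by rw [hAA, Matrix.mul_one]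
      _ = (Aᵀ * Matrix.J (Fin m) F * A) * A := by rw [Matrix.mul_assoc, Matrix.mul_assoc, Matrix.mul_assoc]
      _ = Matrix.J (Fin m) F * A := by rw [h1]
  rw [Matrix.transpose_mul, Matrix.J_transpose, Matrix.mul_neg, h2]

theorem neg_eq_self (x : F) : -x = x := by
  have h2F : (2 : F) = 0 := CharP.cast_eq_zero F 2
  have : x + x = 0 := by rw [← two_mul, h2F, zero_mul]
  exact neg_eq_of_add_eq_zero_left this

/-- the quadratic map `v ↦ f(v, A v)` as an additive map -/
noncomputable def phi (S : Matrix (Fin m ⊕ Fin m) (Fin m ⊕ Fin m) F) (hS : Sᵀ = -S) :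
    (Fin m ⊕ Fin m → F) →+ F where
  toFun v := v ⬝ᵥ (S *ᵥ v)
  map_zero' := by simp
  map_add' u v := by
    have hc : v ⬝ᵥ (S *ᵥ u) = u ⬝ᵥ (S *ᵥ v) := by
      rw [Matrix.dotProduct_mulVec, ← Matrix.mulVec_transpose, hS, dotProduct_comm, Matrix.neg_mulVec,
        dotProduct_neg, neg_eq_self]
    rw [Matrix.mulVec_add, add_dotProduct, dotProduct_add, dotProduct_add, hc]
    have : u ⬝ᵥ (S *ᵥ v) + u ⬝ᵥ (S *ᵥ v) = 0 := by
      rw [← two_mul, show (2 : F) = 0 from CharP.cast_eq_zero F 2, zero_mul]
    calc u ⬝ᵥ S *ᵥ u + u ⬝ᵥ S *ᵥ v + (u ⬝ᵥ S *ᵥ v + v ⬝ᵥ S *ᵥ v)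
        = u ⬝ᵥ S *ᵥ u + v ⬝ᵥ S *ᵥ v + (u ⬝ᵥ S *ᵥ v + u ⬝ᵥ S *ᵥ v) := by ring
      _ = u ⬝ᵥ S *ᵥ u + v ⬝ᵥ S *ᵥ v := by rw [this, add_zero]

theorem phi_apply (S : Matrix (Fin m ⊕ Fin m) (Fin m ⊕ Fin m) F) (hS : Sᵀ = -S) (v : Fin m ⊕ Fin m → F) :
    phi S hS v = v ⬝ᵥ (S *ᵥ v) := rfl

theorem phi_smul (S : Matrix (Fin m ⊕ Fin m) (Fin m ⊕ Fin m) F) (hS : Sᵀ = -S) (μ : F)
    (v : Fin m ⊕ Fin m → F) : phi S hS (μ • v) = μ * μ * phi S hS v := by
  rw [phi_apply, phi_apply, Matrix.mulVec_smul, smul_dotProduct, dotProduct_smul, smul_eq_mul, smul_eq_mul,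
    mul_assoc]

theorem card_ker_phi (S : Matrix (Fin m ⊕ Fin m) (Fin m ⊕ Fin m) F) (hS : Sᵀ = -S) :
    Nat.card {v : Fin m ⊕ Fin m → F // phi S hS v = 0} = Fintype.card F ^ (2 * m) ∨
    Nat.card {v : Fin m ⊕ Fin m → F // phi S hS v = 0} * Fintype.card F = Fintype.card F ^ (2 * m) := by
  have hV : Nat.card (Fin m ⊕ Fin m → F) = Fintype.card F ^ (2 * m) := by
    rw [Nat.card_eq_fintype_card, Fintype.card_fun, Fintype.card_sum, Fintype.card_fin, two_mul]
  by_cases h0 : ∀ v, phi S hS v = 0
  · left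
    rw [← hV]
    exact Nat.card_congr (Equiv.subtypeUnivEquiv h0)
  · right
    push Not at h0
    obtain ⟨v₀, hv₀⟩ := h0
    have hsurj : Function.Surjective (phi S hS) := by
      intro c
      obtain ⟨μ, hμ⟩ := surjective_frobenius F 2 (c / phi S hS v₀)
      rw [frobenius_def, pow_two] at hμ
      refine ⟨μ • v₀, ?_⟩
      rw [phi_smul, hμ, div_mul_cancel₀ _ hv₀]
    have h1 := AddSubgroup.card_mul_index (phi S hS).ker
    rw [AddSubgroup.index_ker, AddMonoidHom.range_eq_top.mpr hsurj, hV] at h1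
    have h2 : Nat.card (⊤ : AddSubgroup F) = Fintype.card F := by
      rw [← Nat.card_eq_fintype_card]
      exact Nat.card_congr AddSubgroup.topEquiv.toEquiv
    rw [h2] at h1
    exact h1

end main

/-- For an involution t of the symplectic group Sp_{2m}(F), m ≥ 2, F a finite field of characteristic two (matrices A with A J Aᵀ = J acting on column vectors, alternating form f(u, v) = u ⬝ (J v)): the set V(t) of vectors v with f(v, t v) = 0 has either q^{2m} or q^{2m−1} elements, q the order of F (it is a subspace of codimension at most 1), and if it is the whole space then t − 1 has even rank. -/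
theorem result {F : Type*} [Field F] [Fintype F] [CharP F 2] {m : ℕ} (hm : 2 ≤ m) (a : ↥(Matrix.symplecticGroup (Fin m) F)) (ha : orderOf a = 2) :
    (Nat.card {v : Fin m ⊕ Fin m → F // Cfsg.sympForm m F v (Matrix.mulVec ((a : ↥(Matrix.symplecticGroup (Fin m) F)) : Matrix (Fin m ⊕ Fin m) (Fin m ⊕ Fin m) F) v) = 0} = Fintype.card F ^ (2 * m) ∨ Nat.card {v : Fin m ⊕ Fin m → F // Cfsg.sympForm m F v (Matrix.mulVec ((a : ↥(Matrix.symplecticGroup (Fin m) F)) : Matrix (Fin m ⊕ Fin m) (Fin m ⊕ Fin m) F) v) = 0} * Fintype.card F = Fintype.card F ^ (2 * m)) ∧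
    ((∀ v : Fin m ⊕ Fin m → F, Cfsg.sympForm m F v (Matrix.mulVec ((a : ↥(Matrix.symplecticGroup (Fin m) F)) : Matrix (Fin m ⊕ Fin m) (Fin m ⊕ Fin m) F) v) = 0) → Even (((a : ↥(Matrix.symplecticGroup (Fin m) F)) : Matrix (Fin m ⊕ Fin m) (Fin m ⊕ Fin m) F) - 1).rank) := by
  set A : Matrix (Fin m ⊕ Fin m) (Fin m ⊕ Fin m) F := (a : Matrix (Fin m ⊕ Fin m) (Fin m ⊕ Fin m) F) with hAdef
  have hA : A ∈ Matrix.symplecticGroup (Fin m) F := a.2
  have hAA : A * A = 1 := by
    have h := pow_orderOf_eq_one a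
    rw [ha, pow_two] at h
    have h' := congrArg (fun x : ↥(Matrix.symplecticGroup (Fin m) F) => (x : Matrix (Fin m ⊕ Fin m) (Fin m ⊕ Fin m) F)) h
    simpa using h'
  have hS := S_transpose A hA hAA
  have hform : ∀ v : Fin m ⊕ Fin m → F, Cfsg.sympForm m F v (Matrix.mulVec A v) = phi (Matrix.J (Fin m) F * A) hS v := by
    intro v
    rw [phi_apply]
    unfold Cfsg.sympForm
    rw [Matrix.mulVec_mulVec]
  constructor
  · simp only [hform]
    exact card_ker_phi _ hS
  · intro hall
    have hM : ∀ v : Fin m ⊕ Fin m → F, v ⬝ᵥ ((Matrix.J (Fin m) F * (A - 1)) *ᵥ v) = 0 := by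
      intro v
      rw [Matrix.mul_sub, Matrix.mul_one, Matrix.sub_mulVec, dotProduct_sub, J_self, sub_zero]
      have := hall v
      rw [hform, phi_apply] at this
      exact this
    have hev := alt_matrix_rank_even _ hM
    rwa [Matrix.rank_mul_eq_right_of_isUnit_det _ _ (Matrix.isUnit_det_J (Fin m) F)] at hev

end Cfsg.Agent.S2167
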