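import Cfsg.Statements.S2622
import Mathlib

set_option autoImplicit false
open Cfsg

namespace Cfsg.Agent.S2622

open Module

universe u

section

variable {F : Type*} {V : Type u} [Field F] [AddCommGroup V] [Module F V]

/-- orthonormal families -/
def IsON (B : LinearMap.BilinForm F V) {j : ℕ} (u : Fin j → V) : Prop :=
  ∀ i i', B (u i) (u i') = if i = i' then 1 else 0

theorem IsON.pair_sum {B : LinearMap.BilinForm F V} {j : ℕ} {u : Fin j → V} (hu : IsON B u)
    (c : Fin j → F) (i : Fin j) : B (u i) (∑ a, c a • u a) = c i := by
  rw [map_sum]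
  simp only [map_smul, smul_eq_mul, hu i, mul_ite, mul_one, mul_zero]
  rw [Finset.sum_ite_eq Finset.univ i c]
  simp

theorem IsON.linearIndependent {B : LinearMap.BilinForm F V} {j : ℕ} {u : Fin j → V}
    (hu : IsON B u) : LinearIndependent F u := by
  rw [Fintype.linearIndependent_iff]
  intro c hc i
  have := hu.pair_sum c i
  rw [hc] at this
  simpa using this.symm

theorem IsON.disjoint {B : LinearMap.BilinForm F V} {j : ℕ} {u : Fin j → V} (hu : IsON B u) :
    Disjoint (Submodule.span F (Set.range u))
      (LinearMap.BilinForm.orthogonal B (Submodule.span F (Set.range u))) := by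
  rw [Submodule.disjoint_def]
  intro x hx hx'
  obtain ⟨c, rfl⟩ := (Submodule.mem_span_range_iff_exists_fun F).mp hx
  rw [LinearMap.BilinForm.mem_orthogonal_iff] at hx'
  have hc : ∀ a, c a = 0 := by
    intro a
    rw [← hu.pair_sum c a]
    exact hx' (u a) (Submodule.subset_span ⟨a, rfl⟩)
  simp [hc]

theorem mem_orth_span_range (B : LinearMap.BilinForm F V) {j : ℕ} (u : Fin j → V) (x : V) :
    x ∈ LinearMap.BilinForm.orthogonal B (Submodule.span F (Set.range u)) ↔
      ∀ i, B (u i) x = 0 := by
  rw [LinearMap.BilinForm.mem_orthogonal_iff]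
  constructor
  · intro h i
    exact h (u i) (Submodule.subset_span ⟨i, rfl⟩)
  · intro h n hn
    show B n x = 0
    induction hn using Submodule.span_induction with
    | mem y hy =>
      obtain ⟨i, rfl⟩ := hy
      exact h i
    | zero => simp
    | add y z _ _ hy hz => rw [map_add, LinearMap.add_apply, hy, hz, add_zero]
    | smul c y _ hy => rw [map_smul, LinearMap.smul_apply, hy, smul_zero]

end

section FD

variable {F : Type*} {V : Type u} [Field F] [AddCommGroup V] [Module F V] [FiniteDimensional F V]

theorem split_props (B : LinearMap.BilinForm F V) (hS : B.IsSymm) (hB : B.Nondegenerate) {j : ℕ}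
    (u : Fin j → V) (hu : IsON B u) :
    (LinearMap.BilinForm.restrict B
      (LinearMap.BilinForm.orthogonal B (Submodule.span F (Set.range u)))).Nondegenerate ∧
    finrank F (LinearMap.BilinForm.orthogonal B (Submodule.span F (Set.range u))) + j
      = finrank F V := by
  have hrefl := hS.isRefl
  constructor
  · apply LinearMap.BilinForm.nondegenerate_restrict_of_disjoint_orthogonal _ hrefl
    rw [LinearMap.BilinForm.orthogonal_orthogonal hB hrefl]
    exact hu.disjoint.symm
  · have h1 := LinearMap.BilinForm.finrank_orthogonal hB (Submodule.span F (Set.range u))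
    have h2 : finrank F (Submodule.span F (Set.range u)) = j := by
      rw [finrank_span_eq_card hu.linearIndependent]; simp
    have h3 : finrank F (Submodule.span F (Set.range u)) ≤ finrank F V := Submodule.finrank_le _
    omega

theorem extend_on (B : LinearMap.BilinForm F V) (hS : B.IsSymm) {j k : ℕ} (u : Fin j → V)
    (hu : IsON B u)
    (w : Fin k → LinearMap.BilinForm.orthogonal B (Submodule.span F (Set.range u)))
    (hw : IsON (LinearMap.BilinForm.restrict B
      (LinearMap.BilinForm.orthogonal B (Submodule.span F (Set.range u)))) w) :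
    IsON B (Fin.append u (fun i => (w i : V))) := by
  have horth : ∀ i i', B (u i) (w i' : V) = 0 := by
    intro i i'
    exact (LinearMap.BilinForm.mem_orthogonal_iff.mp (w i').2) (u i)
      (Submodule.subset_span ⟨i, rfl⟩)
  intro a b
  refine Fin.addCases (fun i => ?_) (fun i => ?_) a <;>
    refine Fin.addCases (fun i' => ?_) (fun i' => ?_) b
  · rw [Fin.append_left, Fin.append_left, hu i i']
    simp [Fin.ext_iff]
  · rw [Fin.append_left, Fin.append_right, horth]
    rw [if_neg]
    intro h
    have := congrArg Fin.val h
    simp at this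
    omega
  · rw [Fin.append_right, Fin.append_left, hS.eq, horth]
    rw [if_neg]
    intro h
    have := congrArg Fin.val h
    simp at this
    omega
  · rw [Fin.append_right, Fin.append_right]
    have := hw i i'
    simp only [LinearMap.BilinForm.restrict_apply, LinearMap.domRestrict_apply] at this
    rw [this]
    simp [Fin.ext_iff]

end FD

section Main

variable {F : Type*} [Field F] [Finite F] [CharP F 2]

theorem char2_add_self (x : F) : x + x = 0 := CharTwo.add_self_eq_zero x

theorem exists_on_family : ∀ (n : ℕ) (V : Type u) [AddCommGroup V] [Module F V]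
    [FiniteDimensional F V] (B : LinearMap.BilinForm F V), B.IsSymm → B.Nondegenerate →
    (∃ v : V, B v v ≠ 0) → finrank F V = n → ∃ fam : Fin n → V, IsON B fam := by
  intro n
  induction n using Nat.strong_induction_on with
  | _ n ih =>
    intro V _ _ _ B hS hB hna hn
    obtain ⟨v, hv⟩ := hna
    have hchar : ringChar F = 2 := ringChar.eq F 2
    obtain ⟨s, hs⟩ := FiniteField.isSquare_of_char_two hchar (B v v)
    have hs0 : s ≠ 0 := by
      rintro rfl
      exact hv (by rw [hs]; ring)
    set v₁ := s⁻¹ • v with hv₁
    have h11 : B v₁ v₁ = 1 := by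
      simp only [hv₁, map_smul, LinearMap.smul_apply, smul_eq_mul, hs]
      field_simp
    have hu1 : IsON B (![v₁] : Fin 1 → V) := by
      intro i i'
      fin_cases i; fin_cases i'
      simpa using h11
    obtain ⟨hWnd, hWdim⟩ := split_props B hS hB _ hu1
    set W := LinearMap.BilinForm.orthogonal B (Submodule.span F (Set.range (![v₁] : Fin 1 → V)))
      with hW
    have hWorth : ∀ w ∈ W, B v₁ w = 0 := by
      intro w hw
      exact (LinearMap.BilinForm.mem_orthogonal_iff.mp hw) v₁ (Submodule.subset_span ⟨0, rfl⟩)
    by_cases hWna : ∃ w : W, (LinearMap.BilinForm.restrict B W) w w ≠ 0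
    · -- W is not alternating: induct on W
      obtain ⟨n', rfl⟩ : ∃ n', n = n' + 1 := ⟨n - 1, by omega⟩
      obtain ⟨fam', hfam'⟩ := ih n' (by omega) W (LinearMap.BilinForm.restrict B W)
        (hS.restrict W) hWnd hWna (by omega)
      have := extend_on B hS _ hu1 fam' hfam'
      have hcast : 1 + n' = n' + 1 := by omega
      refine ⟨fun i => Fin.append (![v₁] : Fin 1 → V) (fun i => (fam' i : V)) (Fin.cast hcast.symm i), ?_⟩
      intro i i'
      rw [this]
      simp [Fin.ext_iff]
    · push Not at hWna
      have hWalt : ∀ w ∈ W, B w w = 0 := fun w hw => hWna ⟨w, hw⟩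
      by_cases hW0 : finrank F W = 0
      · -- n = 1
        have hn1 : n = 1 := by omega
        subst hn1
        exact ⟨![v₁], hu1⟩
      · -- W is a nonzero nondegenerate alternating space
        have hWpos : 0 < finrank F W := Nat.pos_of_ne_zero hW0
        have : Nontrivial W := finrank_pos_iff.mp hWpos
        obtain ⟨e, he⟩ := exists_ne (0 : W)
        -- partner f with B e f = 1
        have : ∃ f : W, B (e : V) (f : V) = 1 := by
          have h1 : ∃ f : W, (LinearMap.BilinForm.restrict B W) e f ≠ 0 := by
            by_contra h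
            push Not at h
            exact he (hWnd.1 e h)
          obtain ⟨f, hf⟩ := h1
          have hf' : B (e : V) (f : V) ≠ 0 := hf
          refine ⟨(B (e : V) (f : V))⁻¹ • f, ?_⟩
          rw [Submodule.coe_smul, map_smul, smul_eq_mul, inv_mul_cancel₀ hf']
        obtain ⟨f, hef⟩ := this
        have hfe : B (f : V) (e : V) = 1 := by rw [hS.eq]; exact hef
        have h1e : B v₁ (e : V) = 0 := hWorth _ e.2
        have h1f : B v₁ (f : V) = 0 := hWorth _ f.2
        have he1 : B (e : V) v₁ = 0 := by rw [hS.eq]; exact h1e
        have hf1 : B (f : V) v₁ = 0 := by rw [hS.eq]; exact h1f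
        have hee : B (e : V) (e : V) = 0 := hWalt _ e.2
        have hff : B (f : V) (f : V) = 0 := hWalt _ f.2
        have h2 : (1 : F) + 1 = 0 := char2_add_self 1
        obtain ⟨v₂, hv₂⟩ : ∃ v₂ : V, v₂ = v₁ + (e : V) := ⟨_, rfl⟩
        obtain ⟨v₃, hv₃⟩ : ∃ v₃ : V, v₃ = v₁ + (f : V) := ⟨_, rfl⟩
        obtain ⟨v₄, hv₄⟩ : ∃ v₄ : V, v₄ = v₁ + (e : V) + (f : V) := ⟨_, rfl⟩
        have h22 : B v₂ v₂ = 1 := by
          simp only [hv₂, map_add, LinearMap.add_apply, h11, h1e, he1, hee]; ring
        have h33 : B v₃ v₃ = 1 := by
          simp only [hv₃, map_add, LinearMap.add_apply, h11, h1f, hf1, hff]; ring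
        have h23 : B v₂ v₃ = 0 := by
          simp only [hv₂, hv₃, map_add, LinearMap.add_apply, h11, h1f, he1, hef]
          linear_combination h2
        have h32 : B v₃ v₂ = 0 := by rw [hS.eq]; exact h23
        have h24 : B v₂ v₄ = 0 := by
          simp only [hv₂, hv₄, map_add, LinearMap.add_apply, h11, h1e, h1f, he1, hee, hef]
          linear_combination h2
        have h34 : B v₃ v₄ = 0 := by
          simp only [hv₃, hv₄, map_add, LinearMap.add_apply, h11, h1e, h1f, hf1, hfe, hff]
          linear_combination h2
        have h44 : B v₄ v₄ = 1 := by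
          simp only [hv₄, map_add, LinearMap.add_apply, h11, h1e, h1f, he1, hf1, hee, hff, hef,
            hfe]
          linear_combination h2
        have hu2 : IsON B (![v₂, v₃] : Fin 2 → V) := by
          intro i i'
          fin_cases i <;> fin_cases i'
          · simpa using h22
          · simpa using h23
          · simpa using h32
          · simpa using h33
        obtain ⟨hW'nd, hW'dim⟩ := split_props B hS hB _ hu2
        set W' := LinearMap.BilinForm.orthogonal B
          (Submodule.span F (Set.range (![v₂, v₃] : Fin 2 → V))) with hW'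
        have hv4W' : v₄ ∈ W' := by
          rw [hW', mem_orth_span_range]
          intro i
          fin_cases i
          · simpa using h24
          · simpa using h34
        obtain ⟨n', rfl⟩ : ∃ n', n = n' + 2 := ⟨n - 2, by omega⟩
        obtain ⟨fam', hfam'⟩ := ih n' (by omega) W' (LinearMap.BilinForm.restrict B W')
          (hS.restrict W') hW'nd ⟨⟨v₄, hv4W'⟩, by
            show B v₄ v₄ ≠ 0
            rw [h44]; exact one_ne_zero⟩ (by omega)
        have := extend_on B hS _ hu2 fam' hfam'
        have hcast : 2 + n' = n' + 2 := by omega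
        refine ⟨fun i => Fin.append (![v₂, v₃] : Fin 2 → V) (fun i => (fam' i : V))
          (Fin.cast hcast.symm i), ?_⟩
        intro i i'
        rw [this]
        simp [Fin.ext_iff]

end Main

theorem result {F V : Type*} [Field F] [Finite F] [CharP F 2] [AddCommGroup V] [Module F V] [FiniteDimensional F V] {n : ℕ} (hV : Module.finrank F V = n) (B : LinearMap.BilinForm F V) (hS : B.IsSymm) (hB : B.Nondegenerate) (hna : ∃ v : V, B v v ≠ 0) : ∃ b : Module.Basis (Fin n) F V, ∀ i j, B (b i) (b j) = if i = j then 1 else 0 := by
  obtain ⟨fam, hfam⟩ := exists_on_family n V B hS hB hna hV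
  have hcard : Fintype.card (Fin n) = finrank F V := by rw [hV]; simp
  have hn0 : n ≠ 0 := by
    rintro rfl
    obtain ⟨v, hv⟩ := hna
    have : Subsingleton V := finrank_zero_iff.mp hV
    have hv0 : v = 0 := Subsingleton.elim _ _
    rw [hv0] at hv
    simp at hv
  have : Nonempty (Fin n) := ⟨⟨0, Nat.pos_of_ne_zero hn0⟩⟩
  refine ⟨basisOfLinearIndependentOfCardEqFinrank hfam.linearIndependent hcard, ?_⟩
  rw [coe_basisOfLinearIndependentOfCardEqFinrank]
  exact hfam

end Cfsg.Agent.S2622
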