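import Cfsg.Statements.S2623
import Cfsg.Agent.Lib.Helper43.QuadOdd
import Cfsg.Agent.Lib.Helper43.GramDet

set_option autoImplicit false
open Cfsg

namespace Cfsg.Agent.S2623

open Module QuadraticMap Matrix Cfsg.Agent.Helper43

/-- the standard Gram matrix of the polar form -/
def gram {F : Type*} [Field F] {n : ℕ} (Q : QuadraticForm F (Fin n → F)) : Matrix (Fin n) (Fin n) F :=
  Matrix.of (fun i j : Fin n => QuadraticMap.polar ⇑Q (Pi.single i 1) (Pi.single j 1))

theorem polar_eq_gram {F : Type*} [Field F] {n : ℕ} (Q : QuadraticForm F (Fin n → F))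
    (u v : Fin n → F) : polar Q u v = u ⬝ᵥ (gram Q *ᵥ v) := by
  have h1 : gram Q = LinearMap.BilinForm.toMatrix' (polarBilin Q) := by
    ext i j
    rw [LinearMap.BilinForm.toMatrix'_apply]
    rfl
  rw [h1, ← Matrix.toBilin'_apply', Matrix.toBilin'_toMatrix']
  rfl

theorem gram_basis_det {F : Type*} [Field F] {n : ℕ} (Q : QuadraticForm F (Fin n → F))
    (b : Basis (Fin n) F (Fin n → F)) :
    ∃ d : F, d ≠ 0 ∧ (Matrix.of (fun i j : Fin n => polar Q (b i) (b j))).det
      = d * d * (gram Q).det := by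
  obtain ⟨d, hd, h⟩ := gram_det_eq (gram Q) b
  refine ⟨d, hd, ?_⟩
  rw [← h]
  congr 1
  ext i j
  simp only [Matrix.of_apply]
  exact polar_eq_gram Q _ _

theorem result {F : Type*} [Field F] [Fintype F] (h2 : (2 : F) ≠ 0) {n : ℕ} (Q₁ Q₂ : QuadraticForm F (Fin n → F)) (h₁ : (QuadraticMap.polarBilin Q₁).Nondegenerate) (h₂ : (QuadraticMap.polarBilin Q₂).Nondegenerate) : (∃ g : (Fin n → F) ≃ₗ[F] (Fin n → F), ∀ v, Q₂ (g v) = Q₁ v) ↔ IsSquare ((Matrix.of (fun i j : Fin n => QuadraticMap.polar ⇑Q₁ (Pi.single i 1) (Pi.single j 1))).det * (Matrix.of (fun i j : Fin n => QuadraticMap.polar ⇑Q₂ (Pi.single i 1) (Pi.single j 1))).det) := by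
  change _ ↔ IsSquare ((gram Q₁).det * (gram Q₂).det)
  constructor
  · rintro ⟨g, hg⟩
    have hpol : ∀ u v, polar Q₂ (g u) (g v) = polar Q₁ u v := by
      intro u v
      unfold polar
      rw [← map_add, hg, hg, hg]
    obtain ⟨d, hd, hdet⟩ := gram_basis_det Q₂ ((Pi.basisFun F (Fin n)).map g)
    have h3 : Matrix.of (fun i j : Fin n => polar Q₂ (((Pi.basisFun F (Fin n)).map g) i)
        (((Pi.basisFun F (Fin n)).map g) j)) = gram Q₁ := by
      ext i j
      simp only [Matrix.of_apply, Basis.map_apply, Pi.basisFun_apply, hpol]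
      rfl
    rw [h3] at hdet
    refine ⟨d * (gram Q₂).det, ?_⟩
    rw [hdet]; ring
  · rintro ⟨s, hs⟩
    rcases n with _ | n
    · refine ⟨LinearEquiv.refl _ _, ?_⟩
      intro v
      have hv : v = 0 := Subsingleton.elim _ _
      rw [hv, map_zero, QuadraticMap.map_zero, QuadraticMap.map_zero]
    · have hfin : finrank F (Fin (n + 1) → F) = n + 1 := by simp
      obtain ⟨b₁, ho₁, hone₁, hl₁⟩ := exists_ortho_basis_one h2 n (Fin (n + 1) → F) Q₁ hfin h₁
      obtain ⟨b₂, ho₂, hone₂, hl₂⟩ := exists_ortho_basis_one h2 n (Fin (n + 1) → F) Q₂ hfin h₂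
      -- determinants of the diagonal Gram matrices
      have hdiag : ∀ (Q : QuadraticForm F (Fin (n + 1) → F)) (b : Basis (Fin (n + 1)) F (Fin (n + 1) → F)),
          (∀ i j, i ≠ j → polar Q (b i) (b j) = 0) → (∀ i, i ≠ Fin.last n → Q (b i) = 1) →
          (Matrix.of (fun i j : Fin (n + 1) => polar Q (b i) (b j))).det
            = 2 ^ (n + 1) * Q (b (Fin.last n)) := by
        intro Q b ho hone
        have : Matrix.of (fun i j : Fin (n + 1) => polar Q (b i) (b j))
            = Matrix.diagonal (fun i => 2 * Q (b i)) := by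
          ext i j
          by_cases hij : i = j
          · subst hij
            simp [polar_self]
          · simp [Matrix.diagonal_apply_ne _ hij, ho i j hij]
        rw [this, Matrix.det_diagonal, Fin.prod_univ_castSucc]
        have h3 : ∏ i : Fin n, 2 * Q (b (Fin.castSucc i)) = 2 ^ n := by
          rw [Finset.prod_congr rfl (g := fun _ => (2 : F))]
          · simp
          · intro i _
            rw [hone _ (Fin.castSucc_lt_last i).ne, mul_one]
        rw [h3]; ring
      obtain ⟨δ₁, hδ₁, hd₁⟩ := gram_basis_det Q₁ b₁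
      obtain ⟨δ₂, hδ₂, hd₂⟩ := gram_basis_det Q₂ b₂
      rw [hdiag Q₁ b₁ ho₁ hone₁] at hd₁
      rw [hdiag Q₂ b₂ ho₂ hone₂] at hd₂
      set d₁ := Q₁ (b₁ (Fin.last n)) with hd₁def
      set d₂ := Q₂ (b₂ (Fin.last n)) with hd₂def
      have h2n : (2 : F) ^ (n + 1) ≠ 0 := pow_ne_zero _ h2
      obtain ⟨r, hr2, hr0⟩ : ∃ r : F, d₁ * d₂ = r * r ∧ r ≠ 0 := by
        have hr2 : d₁ * d₂ = (δ₁ * δ₂ * s / 2 ^ (n + 1)) * (δ₁ * δ₂ * s / 2 ^ (n + 1)) := by
          field_simp
          have : (2 : F) ^ (n + 1) * d₁ * (2 ^ (n + 1) * d₂)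
              = δ₁ * δ₁ * (gram Q₁).det * (δ₂ * δ₂ * (gram Q₂).det) := by
            rw [hd₁, hd₂]
          have e : (gram Q₁).det * (gram Q₂).det = s * s := hs
          linear_combination this + (δ₁ * δ₁ * δ₂ * δ₂) * e
        refine ⟨_, hr2, ?_⟩
        intro h
        rw [h, mul_zero] at hr2
        exact (mul_ne_zero hl₁ hl₂) hr2
      set c := d₁ / r with hc
      have hc0 : c ≠ 0 := div_ne_zero hl₁ hr0
      have hcd : c ^ 2 * d₂ = d₁ := by
        rw [hc, div_pow, div_mul_eq_mul_div, div_eq_iff (pow_ne_zero 2 hr0)]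
        linear_combination d₁ * hr2
      -- the rescaled basis
      let w : Fin (n + 1) → Fˣ := fun i => if i = Fin.last n then Units.mk0 c hc0 else 1
      let b₂' := b₂.unitsSMul w
      have hb₂' : ∀ i, b₂' i = (w i : F) • b₂ i := by
        intro i
        rw [Basis.unitsSMul_apply]
        rfl
      apply isometry_of_ortho_bases Q₁ Q₂ b₁ b₂' ho₁
      · intro i j hij
        rw [hb₂', hb₂', polar_smul_left, polar_smul_right, ho₂ i j hij]
        simp
      · intro i
        rw [hb₂', QuadraticMap.map_smul]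
        by_cases hi : i = Fin.last n
        · subst hi
          simp only [w, if_pos rfl, Units.val_mk0, smul_eq_mul]
          rw [← hd₂def, ← hd₁def, ← hcd]; ring
        · simp only [w, if_neg hi, Units.val_one, smul_eq_mul]
          rw [hone₁ i hi, hone₂ i hi]; ring

end Cfsg.Agent.S2623
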