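import Cfsg.Statements.S0749
import Mathlib

set_option autoImplicit false
open Cfsg

namespace Cfsg.Agent.S0749

variable {F V : Type*} [Field F] [AddCommGroup V] [Module F V]

/-- isometries -/
def IsIsom (B : LinearMap.BilinForm F V) (g : V ≃ₗ[F] V) : Prop := ∀ u v, B (g u) (g v) = B u v

theorem isIsom_refl (B : LinearMap.BilinForm F V) : IsIsom B (LinearEquiv.refl F V) :=
  fun _ _ => rfl

theorem isIsom_trans {B : LinearMap.BilinForm F V} {g h : V ≃ₗ[F] V} (hg : IsIsom B g)
    (hh : IsIsom B h) : IsIsom B (g.trans h) := by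
  intro u v
  rw [LinearEquiv.trans_apply, LinearEquiv.trans_apply, hh, hg]

theorem isIsom_symm {B : LinearMap.BilinForm F V} {g : V ≃ₗ[F] V} (hg : IsIsom B g) :
    IsIsom B g.symm := by
  intro u v
  have := hg (g.symm u) (g.symm v)
  rw [LinearEquiv.apply_symm_apply, LinearEquiv.apply_symm_apply] at this
  exact this.symm

/-- transvection as a linear map -/
def tvMap (B : LinearMap.BilinForm F V) (t : V) (c : F) : V →ₗ[F] V :=
  LinearMap.id + c • (B.flip t).smulRight t

theorem tvMap_apply (B : LinearMap.BilinForm F V) (t : V) (c : F) (v : V) :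
    tvMap B t c v = v + c • (B v t) • t := by
  simp [tvMap]

theorem tvMap_comp (B : LinearMap.BilinForm F V) (hA : B.IsAlt) (t : V) (c : F) :
    (tvMap B t (-c)).comp (tvMap B t c) = LinearMap.id := by
  ext v
  rw [LinearMap.comp_apply, tvMap_apply, tvMap_apply, LinearMap.id_apply]
  have h1 : B (v + c • (B v t) • t) t = B v t := by
    rw [map_add, LinearMap.add_apply, map_smul, map_smul, LinearMap.smul_apply,
      LinearMap.smul_apply, hA t, smul_zero, smul_zero, add_zero]
  rw [h1, neg_smul]
  abel

/-- transvection as a linear equivalence -/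
def tv (B : LinearMap.BilinForm F V) (hA : B.IsAlt) (t : V) (c : F) : V ≃ₗ[F] V :=
  LinearEquiv.ofLinearMap (tvMap B t c) (tvMap B t (-c))
    (by have := tvMap_comp B hA t (-c); rwa [neg_neg] at this) (tvMap_comp B hA t c)

theorem tv_apply (B : LinearMap.BilinForm F V) (hA : B.IsAlt) (t : V) (c : F) (v : V) :
    tv B hA t c v = v + c • (B v t) • t := tvMap_apply B t c v

theorem tv_isIsom (B : LinearMap.BilinForm F V) (hA : B.IsAlt) (t : V) (c : F) :
    IsIsom B (tv B hA t c) := by
  intro u v
  rw [tv_apply, tv_apply]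
  have hskew : B t v = - B v t := (hA.neg_eq v t).symm
  simp only [map_add, map_smul, LinearMap.add_apply, LinearMap.smul_apply, smul_eq_mul, hA t,
    mul_zero, add_zero, hskew]
  ring

/-- single transvection step -/
theorem step1 (B : LinearMap.BilinForm F V) (hA : B.IsAlt) (X' : Submodule F V) (x z : V)
    (horth : ∀ w ∈ X', B w z = B w x) (hxz : B x z ≠ 0) :
    ∃ h : V ≃ₗ[F] V, IsIsom B h ∧ (∀ w ∈ X', h w = w) ∧ h x = z := by
  refine ⟨tv B hA (z - x) (B x z)⁻¹, tv_isIsom B hA _ _, ?_, ?_⟩
  · intro w hw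
    rw [tv_apply, map_sub, horth w hw, sub_self, zero_smul, smul_zero, add_zero]
  · rw [tv_apply, map_sub, hA x, sub_zero, smul_smul, inv_mul_cancel₀ hxz, one_smul]
    abel

variable [FiniteDimensional F V]

/-- a vector outside a subspace is detected by the orthogonal complement -/
theorem exists_perp_ne (B : LinearMap.BilinForm F V) (hB : B.Nondegenerate) (X' : Submodule F V)
    (x : V) (hx : x ∉ X') : ∃ s : V, (∀ w ∈ X', B w s = 0) ∧ B x s ≠ 0 := by
  obtain ⟨f, hfx, hfX⟩ := Submodule.exists_le_ker_of_notMem hx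
  set s : V := (B.flip.toDual hB.flip).symm f with hs
  have hs' : ∀ w, B w s = f w := by
    intro w
    exact LinearMap.BilinForm.apply_toDual_symm_apply (B := B.flip) (hB := hB.flip) f w
  refine ⟨s, ?_, ?_⟩
  · intro w hw
    rw [hs']
    exact hfX hw
  · rw [hs']; exact hfx

theorem keyK (B : LinearMap.BilinForm F V) (hB : B.Nondegenerate) (hA : B.IsAlt)
    (X' : Submodule F V) (x z : V) (hx : x ∉ X') (hz : z ∉ X')
    (horth : ∀ w ∈ X', B w z = B w x) :
    ∃ h : V ≃ₗ[F] V, IsIsom B h ∧ (∀ w ∈ X', h w = w) ∧ h x = z := by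
  by_cases hxz : B x z = 0
  · obtain ⟨s₁, hs₁, hxs₁⟩ := exists_perp_ne B hB X' x hx
    obtain ⟨s₂, hs₂, hzs₂⟩ := exists_perp_ne B hB X' z hz
    have hs : ∃ s : V, (∀ w ∈ X', B w s = 0) ∧ B x s ≠ 0 ∧ B z s ≠ 0 := by
      by_cases h1 : B z s₁ = 0
      · by_cases h2 : B x s₂ = 0
        · refine ⟨s₁ + s₂, ?_, ?_, ?_⟩
          · intro w hw; rw [map_add, hs₁ w hw, hs₂ w hw, add_zero]
          · rw [map_add, h2, add_zero]; exact hxs₁
          · rw [map_add, h1, zero_add]; exact hzs₂
        · exact ⟨s₂, hs₂, h2, hzs₂⟩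
      · exact ⟨s₁, hs₁, hxs₁, h1⟩
    obtain ⟨s, hsX, hxs, hzs⟩ := hs
    have hsz : B s z ≠ 0 := by
      rw [← hA.neg_eq]; exact neg_ne_zero.mpr hzs
    obtain ⟨h₁, hh₁, hfix₁, hmap₁⟩ := step1 B hA X' x (x + s)
      (by intro w hw; rw [map_add, hsX w hw, add_zero])
      (by rw [map_add, hA x, zero_add]; exact hxs)
    obtain ⟨h₂, hh₂, hfix₂, hmap₂⟩ := step1 B hA X' (x + s) z
      (by intro w hw; rw [map_add, hsX w hw, add_zero]; exact horth w hw)
      (by rw [map_add, LinearMap.add_apply, hxz, zero_add]; exact hsz)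
    refine ⟨h₁.trans h₂, isIsom_trans hh₁ hh₂, ?_, ?_⟩
    · intro w hw
      rw [LinearEquiv.trans_apply, hfix₁ w hw, hfix₂ w hw]
    · rw [LinearEquiv.trans_apply, hmap₁, hmap₂]
  · exact step1 B hA X' x z horth hxz

theorem witt_family (B : LinearMap.BilinForm F V) (hB : B.Nondegenerate) (hA : B.IsAlt) (n : ℕ) :
    ∀ x y : Fin n → V, LinearIndependent F x → LinearIndependent F y →
      (∀ i j, B (y i) (y j) = B (x i) (x j)) →
      ∃ g : V ≃ₗ[F] V, IsIsom B g ∧ ∀ i, g (x i) = y i := by
  induction n with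
  | zero =>
    intro x y _ _ _
    exact ⟨LinearEquiv.refl F V, isIsom_refl B, fun i => i.elim0⟩
  | succ n ih =>
    intro x y hx hy hxy
    set x' : Fin n → V := fun i => x (Fin.castSucc i) with hx'
    set y' : Fin n → V := fun i => y (Fin.castSucc i) with hy'
    have hinj : Function.Injective (Fin.castSucc : Fin n → Fin (n + 1)) := Fin.castSucc_injective n
    obtain ⟨g', hg', hg'x⟩ := ih x' y' (hx.comp _ hinj) (hy.comp _ hinj)
      (fun i j => hxy _ _)
    set z := g'.symm (y (Fin.last n)) with hz
    set X' : Submodule F V := Submodule.span F (Set.range x') with hX'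
    have hlast : Fin.last n ∉ Set.range (Fin.castSucc : Fin n → Fin (n + 1)) := by
      rintro ⟨i, hi⟩
      exact (Fin.castSucc_lt_last i).ne hi
    have hxX' : x (Fin.last n) ∉ X' := by
      have := hx.notMem_span_image hlast
      rwa [← Set.range_comp] at this
    have hzX' : z ∉ X' := by
      intro hzmem
      have h1 : g' z ∈ Submodule.map g'.toLinearMap X' := Submodule.mem_map_of_mem hzmem
      rw [hX', Submodule.map_span, ← Set.range_comp] at h1
      have h2 : (g'.toLinearMap ∘ x') = y' := by
        funext i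
        exact hg'x i
      rw [h2, hz] at h1
      have h3 : g' (g'.symm (y (Fin.last n))) = y (Fin.last n) := g'.apply_symm_apply _
      rw [h3] at h1
      have := hy.notMem_span_image hlast
      rw [← Set.range_comp] at this
      exact this h1
    have horth : ∀ w ∈ X', B w z = B w (x (Fin.last n)) := by
      intro w hw
      induction hw using Submodule.span_induction with
      | mem w hw =>
        obtain ⟨i, rfl⟩ := hw
        have h1 := hg' (x' i) z
        rw [hg'x i, hz, g'.apply_symm_apply] at h1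
        rw [← hz] at h1
        rw [← h1]
        exact hxy _ _
      | zero => simp
      | add a b _ _ ha hb => rw [map_add, LinearMap.add_apply, LinearMap.add_apply, ha, hb]
      | smul c a _ ha => rw [map_smul, LinearMap.smul_apply, LinearMap.smul_apply, ha]
    obtain ⟨h, hh, hfix, hmap⟩ := keyK B hB hA X' (x (Fin.last n)) z hxX' hzX' horth
    refine ⟨h.trans g', isIsom_trans hh hg', ?_⟩
    intro i
    rw [LinearEquiv.trans_apply]
    rcases Fin.eq_castSucc_or_eq_last i with ⟨j, rfl⟩ | rfl
    · rw [hfix _ (Submodule.subset_span ⟨j, rfl⟩)]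
      exact hg'x j
    · rw [hmap, hz, g'.apply_symm_apply]

/-- Witt's Lemma for alternating forms. If B is a non-degenerate alternating bilinear form on a finite-dimensional vector space V (over any field) and φ is a linear equivalence between subspaces X and Y of V preserving B, then φ extends to a B-preserving linear automorphism of V. -/
theorem result {F V : Type*} [Field F] [AddCommGroup V] [Module F V] [FiniteDimensional F V] (B : LinearMap.BilinForm F V) (hB : B.Nondegenerate) (hA : B.IsAlt) (X Y : Submodule F V) (φ : X ≃ₗ[F] Y) (hφ : ∀ x x' : X, B (φ x : V) (φ x' : V) = B (x : V) (x' : V)) : ∃ g : V ≃ₗ[F] V, (∀ u v : V, B (g u) (g v) = B u v) ∧ ∀ x : X, g (x : V) = (φ x : V) := by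
  set b := Module.finBasis F X with hb
  have hx : LinearIndependent F (fun i => (b i : V)) :=
    b.linearIndependent.map' X.subtype (Submodule.ker_subtype X)
  have hy : LinearIndependent F (fun i => (φ (b i) : V)) :=
    (b.map φ).linearIndependent.map' Y.subtype (Submodule.ker_subtype Y)
  obtain ⟨g, hg, hgb⟩ := witt_family B hB hA _ (fun i => (b i : V)) (fun i => (φ (b i) : V)) hx hy
    (fun i j => hφ _ _)
  refine ⟨g, hg, ?_⟩
  have heq : g.toLinearMap.comp X.subtype = Y.subtype.comp φ.toLinearMap := by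
    apply b.ext
    intro i
    exact hgb i
  intro x
  exact LinearMap.congr_fun heq x

end Cfsg.Agent.S0749
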