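import Cfsg.Statements.S0776
import Mathlib
import Cfsg.Agent.Lib.Helper13.SympGeom
import Cfsg.Agent.Lib.Helper13.Parabolic
import Cfsg.Agent.S0752

set_option autoImplicit false
open Cfsg

namespace Cfsg.Agent.S0776

open Matrix Module Cfsg.Agent.Helper13

variable {F : Type*} [Field F] {m : ℕ}

/-- the symplectic form as a bilinear form -/
noncomputable def sB (m : ℕ) (F : Type*) [Field F] : LinearMap.BilinForm F (Fin m ⊕ Fin m → F) :=
  Matrix.toBilin' (Matrix.J (Fin m) F)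

theorem sB_apply (u v : Fin m ⊕ Fin m → F) : sB m F u v = Cfsg.sympForm m F u v := by
  unfold sB Cfsg.sympForm
  rw [Matrix.toBilin'_apply']

theorem sB_alt : (sB m F).IsAlt := by
  intro u
  rw [sB_apply, sympForm_self]

theorem sB_refl : (sB m F).IsRefl := sB_alt.isRefl

theorem sB_nondeg : (sB m F).Nondegenerate := by
  constructor
  · intro x hx
    by_contra h0
    obtain ⟨v, hv⟩ := exists_partner h0
    have := hx v
    rw [sB_apply, hv] at this
    exact one_ne_zero this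
  · intro y hy
    by_contra h0
    obtain ⟨v, hv⟩ := exists_partner h0
    have := hy v
    rw [sB_apply, sympForm_swap, hv] at this
    simp at this

/-- a symplectic basis of a non-degenerate subspace -/
theorem exists_sympBasis (U : Submodule F (Fin m ⊕ Fin m → F)) (r : ℕ)
    (hUr : Module.finrank F U = 2 * r)
    (hU : ∀ u ∈ U, (∀ v ∈ U, Cfsg.sympForm m F u v = 0) → u = 0) :
    ∃ b : Basis (Fin r ⊕ Fin r) F U, ∀ x x', Cfsg.sympForm m F (b x : Fin m ⊕ Fin m → F) (b x') =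
      Matrix.J (Fin r) F x x' := by
  have hA : ((sB m F).restrict U).IsAlt := by
    intro u
    rw [LinearMap.BilinForm.restrict_apply, LinearMap.domRestrict_apply]
    exact sB_alt _
  obtain ⟨m', k', b₀, h1, h2, h3, h4⟩ := S0752.result ((sB m F).restrict U) hA
  have hk' : k' = 0 := by
    by_contra hne
    have hpos : 0 < k' := Nat.pos_of_ne_zero hne
    have h0 : b₀ (Sum.inr ⟨0, hpos⟩) = 0 := by
      apply Subtype.ext
      apply hU _ (b₀ (Sum.inr ⟨0, hpos⟩)).2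
      intro v hv
      have := h4 ⟨0, hpos⟩ ⟨v, hv⟩
      rw [LinearMap.BilinForm.restrict_apply, LinearMap.domRestrict_apply, sB_apply] at this
      exact this
    exact b₀.ne_zero _ h0
  subst hk'
  have hm' : m' = r := by
    have := Module.finrank_eq_card_basis b₀
    rw [hUr] at this
    simp only [Fintype.card_sum, Fintype.card_fin] at this
    omega
  subst hm'
  have e : (Fin m' ⊕ Fin m') ⊕ Fin 0 ≃ Fin m' ⊕ Fin m' :=
    (Equiv.sumEmpty _ _).trans (Equiv.sumComm _ _)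
  have key : ∀ x y : U, Cfsg.sympForm m F (x : Fin m ⊕ Fin m → F) y = (sB m F).restrict U x y := by
    intro x y
    rw [LinearMap.BilinForm.restrict_apply, LinearMap.domRestrict_apply, sB_apply]
  refine ⟨b₀.reindex ((Equiv.sumEmpty _ _).trans (Equiv.sumComm _ _)), ?_⟩
  intro x x'
  rw [key, Basis.reindex_apply, Basis.reindex_apply]
  rcases x with i | i <;> rcases x' with j | j
  · simp only [Equiv.symm_trans_apply, Equiv.sumComm_symm, Equiv.sumComm_apply, Sum.swap_inl,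
      Equiv.sumEmpty_symm_apply, Matrix.J, Matrix.fromBlocks_apply₁₁, Matrix.zero_apply]
    exact h3 i j
  · simp only [Equiv.symm_trans_apply, Equiv.sumComm_symm, Equiv.sumComm_apply, Sum.swap_inl,
      Sum.swap_inr, Equiv.sumEmpty_symm_apply, Matrix.J, Matrix.fromBlocks_apply₁₂,
      Matrix.neg_apply, Matrix.one_apply]
    rw [← key, sympForm_swap, key, h1 j i]
    simp [eq_comm]
  · simp only [Equiv.symm_trans_apply, Equiv.sumComm_symm, Equiv.sumComm_apply, Sum.swap_inl,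
      Sum.swap_inr, Equiv.sumEmpty_symm_apply, Matrix.J, Matrix.fromBlocks_apply₂₁,
      Matrix.one_apply]
    exact h1 i j
  · simp only [Equiv.symm_trans_apply, Equiv.sumComm_symm, Equiv.sumComm_apply, Sum.swap_inr,
      Equiv.sumEmpty_symm_apply, Matrix.J, Matrix.fromBlocks_apply₂₂, Matrix.zero_apply]
    exact h2 i j

/-- the block form `diag(J_k, J_(m-k))` -/
def J' (k l : ℕ) (F : Type*) [Field F] :
    Matrix ((Fin k ⊕ Fin k) ⊕ (Fin l ⊕ Fin l)) ((Fin k ⊕ Fin k) ⊕ (Fin l ⊕ Fin l)) F :=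
  Matrix.fromBlocks (Matrix.J (Fin k) F) 0 0 (Matrix.J (Fin l) F)

/-- an adapted symplectic basis of the whole space -/
theorem exists_adapted_basis (k : ℕ) (hk : k ≤ m) (W : Submodule F (Fin m ⊕ Fin m → F))
    (hWk : Module.finrank F W = 2 * k)
    (hW : ∀ u ∈ W, (∀ v ∈ W, Cfsg.sympForm m F u v = 0) → u = 0) :
    ∃ bV : Basis ((Fin k ⊕ Fin k) ⊕ (Fin (m - k) ⊕ Fin (m - k))) F (Fin m ⊕ Fin m → F),
      (∀ c c', Cfsg.sympForm m F (bV c) (bV c') = J' k (m - k) F c c') ∧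
      (∀ x, bV (Sum.inl x) ∈ W) ∧
      (∀ v ∈ W, ∀ y, bV.repr v (Sum.inr y) = 0) := by
  have hnd : ((sB m F).restrict W).Nondegenerate := by
    constructor
    · intro x hx
      apply Subtype.ext
      apply hW _ x.2
      intro v hv
      have := hx ⟨v, hv⟩
      rw [LinearMap.BilinForm.restrict_apply, LinearMap.domRestrict_apply, sB_apply] at this
      exact this
    · intro y hy
      apply Subtype.ext
      apply hW _ y.2
      intro v hv
      have := hy ⟨v, hv⟩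
      rw [LinearMap.BilinForm.restrict_apply, LinearMap.domRestrict_apply, sB_apply] at this
      rw [sympForm_swap, this, neg_zero]
  have hc : IsCompl W ((sB m F).orthogonal W) :=
    LinearMap.BilinForm.isCompl_orthogonal_of_restrict_nondegenerate sB_refl hnd
  have hdim : Module.finrank F ((sB m F).orthogonal W) = 2 * (m - k) := by
    have := Submodule.finrank_add_eq_of_isCompl hc
    rw [hWk, Module.finrank_fintype_fun_eq_card, Fintype.card_sum, Fintype.card_fin] at this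
    omega
  have hW' : ∀ u ∈ (sB m F).orthogonal W,
      (∀ v ∈ (sB m F).orthogonal W, Cfsg.sympForm m F u v = 0) → u = 0 := by
    intro u hu huW
    apply sB_nondeg.1
    intro z
    have hz : z ∈ W ⊔ (sB m F).orthogonal W := by rw [hc.sup_eq_top]; exact Submodule.mem_top
    obtain ⟨w, hw, w', hw', rfl⟩ := Submodule.mem_sup.mp hz
    rw [map_add, sB_apply, sB_apply, huW w' hw', add_zero, sympForm_swap, ← sB_apply]
    rw [LinearMap.BilinForm.mem_orthogonal_iff] at hu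
    rw [hu w hw, neg_zero]
  obtain ⟨bW, hbW⟩ := exists_sympBasis W k hWk hW
  obtain ⟨bW', hbW'⟩ := exists_sympBasis ((sB m F).orthogonal W) (m - k) hdim hW'
  refine ⟨(bW.prod bW').map (Submodule.prodEquivOfIsCompl W _ hc), ?_, ?_, ?_⟩
  · have hl : ∀ x, ((bW.prod bW').map (Submodule.prodEquivOfIsCompl W _ hc)) (Sum.inl x) =
        (bW x : Fin m ⊕ Fin m → F) := by
      intro x
      rw [Basis.map_apply, Submodule.coe_prodEquivOfIsCompl']
      simp
    have hr : ∀ y, ((bW.prod bW').map (Submodule.prodEquivOfIsCompl W _ hc)) (Sum.inr y) =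
        (bW' y : Fin m ⊕ Fin m → F) := by
      intro y
      rw [Basis.map_apply, Submodule.coe_prodEquivOfIsCompl']
      simp
    have hort : ∀ x y, Cfsg.sympForm m F (bW x : Fin m ⊕ Fin m → F) (bW' y) = 0 := by
      intro x y
      have := (bW' y).2
      rw [LinearMap.BilinForm.mem_orthogonal_iff] at this
      rw [← sB_apply]
      exact this _ (bW x).2
    intro c c'
    rcases c with x | y <;> rcases c' with x' | y'
    · rw [hl, hl, hbW]; rfl
    · rw [hl, hr, hort]; rfl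
    · rw [hr, hl, sympForm_swap, hort, neg_zero]; rfl
    · rw [hr, hr, hbW']; rfl
  · intro x
    rw [Basis.map_apply, Submodule.coe_prodEquivOfIsCompl']
    simp
  · intro v hv y
    rw [Basis.map_repr, LinearEquiv.trans_apply]
    have : (Submodule.prodEquivOfIsCompl W _ hc).symm v = ((⟨v, hv⟩ : W), 0) :=
      Submodule.prodEquivOfIsCompl_symm_apply_left W _ hc ⟨v, hv⟩
    rw [this, Basis.prod_repr_inr]
    simp

section Main

variable {k l : ℕ}
  (bV : Basis ((Fin k ⊕ Fin k) ⊕ (Fin l ⊕ Fin l)) F (Fin m ⊕ Fin m → F))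

/-- change of basis matrices -/
noncomputable def Tm : Matrix (Fin m ⊕ Fin m) ((Fin k ⊕ Fin k) ⊕ (Fin l ⊕ Fin l)) F :=
  (Pi.basisFun F (Fin m ⊕ Fin m)).toMatrix bV

noncomputable def Tm' : Matrix ((Fin k ⊕ Fin k) ⊕ (Fin l ⊕ Fin l)) (Fin m ⊕ Fin m) F :=
  bV.toMatrix (Pi.basisFun F (Fin m ⊕ Fin m))

theorem Tm_mul_Tm' : Tm bV * Tm' bV = 1 := Basis.toMatrix_mul_toMatrix_flip _ _

theorem Tm'_mul_Tm : Tm' bV * Tm bV = 1 := Basis.toMatrix_mul_toMatrix_flip _ _

theorem Tm_apply (a : Fin m ⊕ Fin m) (c : (Fin k ⊕ Fin k) ⊕ (Fin l ⊕ Fin l)) :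
    Tm bV a c = bV c a := by
  rw [Tm, Basis.toMatrix_apply, Pi.basisFun_repr]

theorem Tm_mulVec (u : (Fin k ⊕ Fin k) ⊕ (Fin l ⊕ Fin l) → F) :
    Tm bV *ᵥ u = ∑ c, u c • bV c := by
  rw [Matrix.mulVec_eq_sum]
  apply Finset.sum_congr rfl
  intro c _
  rw [op_smul_eq_smul]
  congr 1

theorem Tm'_mulVec (v : Fin m ⊕ Fin m → F) : Tm' bV *ᵥ v = bV.repr v := by
  have := Basis.toMatrix_mulVec_repr (Pi.basisFun F (Fin m ⊕ Fin m)) bV v
  rw [← this]
  congr 1

theorem gram (hJ : ∀ c c', Cfsg.sympForm m F (bV c) (bV c') = J' k l F c c') :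
    (Tm bV)ᵀ * Matrix.J (Fin m) F * Tm bV = J' k l F := by
  rw [Matrix.mul_assoc]
  ext c c'
  rw [← hJ c c', Matrix.mul_apply]
  unfold Cfsg.sympForm
  simp only [dotProduct, Matrix.mulVec, Matrix.transpose_apply, Matrix.mul_apply, Tm_apply]

/-- being symplectic with respect to the block form -/
def IsSp' (X : Matrix ((Fin k ⊕ Fin k) ⊕ (Fin l ⊕ Fin l)) ((Fin k ⊕ Fin k) ⊕ (Fin l ⊕ Fin l)) F) :
    Prop := Xᵀ * J' k l F * X = J' k l F

theorem conj_mem (hJ : ∀ c c', Cfsg.sympForm m F (bV c) (bV c') = J' k l F c c')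
    {X : Matrix ((Fin k ⊕ Fin k) ⊕ (Fin l ⊕ Fin l)) ((Fin k ⊕ Fin k) ⊕ (Fin l ⊕ Fin l)) F}
    (hX : IsSp' X) : Tm bV * X * Tm' bV ∈ Matrix.symplecticGroup (Fin m) F := by
  rw [SymplecticGroup.mem_iff']
  have hg := gram bV hJ
  calc (Tm bV * X * Tm' bV)ᵀ * Matrix.J (Fin m) F * (Tm bV * X * Tm' bV)
      = (Tm' bV)ᵀ * (Xᵀ * ((Tm bV)ᵀ * Matrix.J (Fin m) F * Tm bV) * X) * Tm' bV := by
        simp only [Matrix.transpose_mul, Matrix.mul_assoc]
    _ = (Tm' bV)ᵀ * J' k l F * Tm' bV := by rw [hg, hX]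
    _ = (Tm' bV)ᵀ * ((Tm bV)ᵀ * Matrix.J (Fin m) F * Tm bV) * Tm' bV := by rw [hg]
    _ = (Tm bV * Tm' bV)ᵀ * Matrix.J (Fin m) F * (Tm bV * Tm' bV) := by
        simp only [Matrix.transpose_mul, Matrix.mul_assoc]
    _ = Matrix.J (Fin m) F := by rw [Tm_mul_Tm']; simp

theorem conj'_isSp' (hJ : ∀ c c', Cfsg.sympForm m F (bV c) (bV c') = J' k l F c c')
    {A : Matrix (Fin m ⊕ Fin m) (Fin m ⊕ Fin m) F}
    (hA : A ∈ Matrix.symplecticGroup (Fin m) F) : IsSp' (Tm' bV * A * Tm bV) := by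
  have hg := gram bV hJ
  have hA' := SymplecticGroup.mem_iff'.mp hA
  unfold IsSp'
  calc (Tm' bV * A * Tm bV)ᵀ * J' k l F * (Tm' bV * A * Tm bV)
      = (Tm bV)ᵀ * (Aᵀ * ((Tm' bV)ᵀ * J' k l F * Tm' bV) * A) * Tm bV := by
        simp only [Matrix.transpose_mul, Matrix.mul_assoc]
    _ = (Tm bV)ᵀ * (Aᵀ * ((Tm bV * Tm' bV)ᵀ * Matrix.J (Fin m) F * (Tm bV * Tm' bV)) * A) *
          Tm bV := by
        rw [← hg]; simp only [Matrix.transpose_mul, Matrix.mul_assoc]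
    _ = (Tm bV)ᵀ * (Aᵀ * Matrix.J (Fin m) F * A) * Tm bV := by
        rw [Tm_mul_Tm']; simp
    _ = J' k l F := by rw [hA', hg]

theorem isSp'_diag (A₁ : Matrix (Fin k ⊕ Fin k) (Fin k ⊕ Fin k) F)
    (A₂ : Matrix (Fin l ⊕ Fin l) (Fin l ⊕ Fin l) F)
    (h1 : A₁ ∈ Matrix.symplecticGroup (Fin k) F) (h2 : A₂ ∈ Matrix.symplecticGroup (Fin l) F) :
    IsSp' (Matrix.fromBlocks A₁ 0 0 A₂) := by
  unfold IsSp' J'
  rw [Matrix.fromBlocks_transpose, Matrix.fromBlocks_multiply, Matrix.fromBlocks_multiply]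
  simp only [Matrix.transpose_zero, Matrix.mul_zero, Matrix.zero_mul, add_zero, zero_add]
  rw [SymplecticGroup.mem_iff'.mp h1, SymplecticGroup.mem_iff'.mp h2]

theorem isSp'_upper {P : Matrix (Fin k ⊕ Fin k) (Fin k ⊕ Fin k) F}
    {Q : Matrix (Fin k ⊕ Fin k) (Fin l ⊕ Fin l) F}
    {S : Matrix (Fin l ⊕ Fin l) (Fin l ⊕ Fin l) F}
    (h : IsSp' (Matrix.fromBlocks P Q 0 S)) :
    P ∈ Matrix.symplecticGroup (Fin k) F ∧ Q = 0 ∧ S ∈ Matrix.symplecticGroup (Fin l) F := by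
  unfold IsSp' J' at h
  rw [Matrix.fromBlocks_transpose, Matrix.fromBlocks_multiply, Matrix.fromBlocks_multiply] at h
  simp only [Matrix.transpose_zero, Matrix.mul_zero, Matrix.zero_mul, add_zero, zero_add] at h
  rw [Matrix.fromBlocks_inj] at h
  obtain ⟨hP, hPQ, -, hS⟩ := h
  have hPmem : P ∈ Matrix.symplecticGroup (Fin k) F := SymplecticGroup.mem_iff'.mpr hP
  have hQ : Q = 0 := by
    have h1 := SymplecticGroup.mem_iff.mp hPmem
    have h2 : P * Matrix.J (Fin k) F * (Pᵀ * Matrix.J (Fin k) F * Q) = 0 := by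
      rw [hPQ, Matrix.mul_zero]
    have h3 : P * Matrix.J (Fin k) F * (Pᵀ * Matrix.J (Fin k) F * Q) =
        (P * Matrix.J (Fin k) F * Pᵀ) * Matrix.J (Fin k) F * Q := by
      simp only [Matrix.mul_assoc]
    rw [h3, h1, Matrix.J_squared] at h2
    simpa using h2
  subst hQ
  refine ⟨hPmem, rfl, SymplecticGroup.mem_iff'.mpr ?_⟩
  simpa using hS

end Main

section Final

variable {k l : ℕ}
  (bV : Basis ((Fin k ⊕ Fin k) ⊕ (Fin l ⊕ Fin l)) F (Fin m ⊕ Fin m → F))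
  (W : Submodule F (Fin m ⊕ Fin m → F))

theorem Tm_mulVec_mem (hin : ∀ x, bV (Sum.inl x) ∈ W)
    (u : (Fin k ⊕ Fin k) ⊕ (Fin l ⊕ Fin l) → F) (hu : ∀ y, u (Sum.inr y) = 0) :
    Tm bV *ᵥ u ∈ W := by
  rw [Tm_mulVec, Fintype.sum_sum_type]
  apply W.add_mem
  · apply W.sum_mem
    intro x _
    exact W.smul_mem _ (hin x)
  · apply W.sum_mem
    intro y _
    rw [hu y, zero_smul]
    exact W.zero_mem

theorem diag_mulVec_mem (hin : ∀ x, bV (Sum.inl x) ∈ W)
    (hrepr : ∀ v ∈ W, ∀ y, bV.repr v (Sum.inr y) = 0)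
    (A₁ : Matrix (Fin k ⊕ Fin k) (Fin k ⊕ Fin k) F)
    (A₂ : Matrix (Fin l ⊕ Fin l) (Fin l ⊕ Fin l) F) (v : Fin m ⊕ Fin m → F) (hv : v ∈ W) :
    (Tm bV * Matrix.fromBlocks A₁ 0 0 A₂ * Tm' bV) *ᵥ v ∈ W := by
  rw [← Matrix.mulVec_mulVec, ← Matrix.mulVec_mulVec]
  apply Tm_mulVec_mem bV W hin
  intro y
  rw [Matrix.fromBlocks_mulVec]
  have : (Tm' bV *ᵥ v) ∘ Sum.inr = 0 := by
    funext y'
    rw [Tm'_mulVec]
    exact hrepr v hv y'
  simp only [Sum.elim_inr, this]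
  simp

theorem mem_stab_of_forall (A : Matrix.symplecticGroup (Fin m) F)
    (h : ∀ v ∈ W, A.val *ᵥ v ∈ W) :
    A ∈ Cfsg.stabilizing (Cfsg.spToMat m F) (W : Set (Fin m ⊕ Fin m → F)) := by
  intro v
  refine ⟨fun hv => h v hv, fun hv => ?_⟩
  exact mem_of_mulVec_mem W
    (Matrix.GeneralLinearGroup.mk'' A.val (SymplecticGroup.symplectic_det A.2)) h v hv

theorem conj_mul (X Y : Matrix ((Fin k ⊕ Fin k) ⊕ (Fin l ⊕ Fin l)) ((Fin k ⊕ Fin k) ⊕ (Fin l ⊕ Fin l)) F) :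
    Tm bV * X * Tm' bV * (Tm bV * Y * Tm' bV) = Tm bV * (X * Y) * Tm' bV := by
  calc Tm bV * X * Tm' bV * (Tm bV * Y * Tm' bV)
      = Tm bV * X * (Tm' bV * Tm bV) * Y * Tm' bV := by simp only [Matrix.mul_assoc]
    _ = Tm bV * (X * Y) * Tm' bV := by
        rw [Tm'_mul_Tm]; simp only [Matrix.mul_one, Matrix.mul_assoc]

/-- the isomorphism, as a homomorphism -/
noncomputable def Phi (hJ : ∀ c c', Cfsg.sympForm m F (bV c) (bV c') = J' k l F c c')
    (hin : ∀ x, bV (Sum.inl x) ∈ W)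
    (hrepr : ∀ v ∈ W, ∀ y, bV.repr v (Sum.inr y) = 0) :
    Matrix.symplecticGroup (Fin k) F × Matrix.symplecticGroup (Fin l) F →*
      ↥(Cfsg.stabilizing (Cfsg.spToMat m F) (W : Set (Fin m ⊕ Fin m → F))) where
  toFun A := ⟨⟨Tm bV * Matrix.fromBlocks A.1.val 0 0 A.2.val * Tm' bV,
      conj_mem bV hJ (isSp'_diag _ _ A.1.2 A.2.2)⟩,
    mem_stab_of_forall W _ (diag_mulVec_mem bV W hin hrepr _ _)⟩
  map_one' := by
    apply Subtype.ext
    apply Subtype.ext
    simp only [Prod.fst_one, Prod.snd_one, OneMemClass.coe_one, Matrix.fromBlocks_one,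
      Matrix.mul_one, Tm_mul_Tm']
  map_mul' A B := by
    apply Subtype.ext
    apply Subtype.ext
    simp only [Prod.fst_mul, Prod.snd_mul, Submonoid.coe_mul, Subgroup.coe_mul]
    rw [conj_mul, Matrix.fromBlocks_multiply]
    simp only [Matrix.mul_zero, Matrix.zero_mul, add_zero, zero_add]

theorem Phi_val (hJ : ∀ c c', Cfsg.sympForm m F (bV c) (bV c') = J' k l F c c')
    (hin : ∀ x, bV (Sum.inl x) ∈ W)
    (hrepr : ∀ v ∈ W, ∀ y, bV.repr v (Sum.inr y) = 0)
    (A : Matrix.symplecticGroup (Fin k) F × Matrix.symplecticGroup (Fin l) F) :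
    (Phi bV W hJ hin hrepr A).val.val =
      Tm bV * Matrix.fromBlocks A.1.val 0 0 A.2.val * Tm' bV := rfl

theorem Phi_bijective (hJ : ∀ c c', Cfsg.sympForm m F (bV c) (bV c') = J' k l F c c')
    (hin : ∀ x, bV (Sum.inl x) ∈ W)
    (hrepr : ∀ v ∈ W, ∀ y, bV.repr v (Sum.inr y) = 0) :
    Function.Bijective (Phi bV W hJ hin hrepr) := by
  constructor
  · intro A B hAB
    have h1 := congrArg (fun g => Tm' bV * g.val.val * Tm bV) hAB
    simp only [Phi_val] at h1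
    have h2 : ∀ X : Matrix ((Fin k ⊕ Fin k) ⊕ (Fin l ⊕ Fin l)) ((Fin k ⊕ Fin k) ⊕ (Fin l ⊕ Fin l)) F,
        Tm' bV * (Tm bV * X * Tm' bV) * Tm bV = X := by
      intro X
      calc Tm' bV * (Tm bV * X * Tm' bV) * Tm bV
          = (Tm' bV * Tm bV) * X * (Tm' bV * Tm bV) := by simp only [Matrix.mul_assoc]
        _ = X := by rw [Tm'_mul_Tm]; simp
    rw [h2, h2, Matrix.fromBlocks_inj] at h1
    exact Prod.ext (Subtype.ext h1.1) (Subtype.ext h1.2.2.2)
  · rintro ⟨A, hA⟩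
    set X := Tm' bV * A.val * Tm bV with hX
    have hXsp : IsSp' X := conj'_isSp' bV hJ A.2
    have hX21 : X.toBlocks₂₁ = 0 := by
      ext y x
      have h1 : X.toBlocks₂₁ y x = (X *ᵥ Pi.single (Sum.inl x) 1) (Sum.inr y) := by
        rw [Matrix.mulVec_single_one]; rfl
      rw [h1, hX, ← Matrix.mulVec_mulVec, ← Matrix.mulVec_mulVec, Tm'_mulVec]
      apply hrepr
      apply (hA _).mp
      rw [Matrix.mulVec_single_one]
      have : (Tm bV).col (Sum.inl x) = bV (Sum.inl x) := by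
        funext a
        exact Tm_apply bV a _
      rw [this]
      exact hin x
    have hfb := Matrix.fromBlocks_toBlocks X
    rw [hX21] at hfb
    rw [← hfb] at hXsp
    obtain ⟨hP, hQ, hS⟩ := isSp'_upper hXsp
    rw [hQ] at hfb
    refine ⟨(⟨X.toBlocks₁₁, hP⟩, ⟨X.toBlocks₂₂, hS⟩), ?_⟩
    apply Subtype.ext
    apply Subtype.ext
    rw [Phi_val]
    simp only
    rw [hfb, hX]
    calc Tm bV * (Tm' bV * A.val * Tm bV) * Tm' bV
        = (Tm bV * Tm' bV) * A.val * (Tm bV * Tm' bV) := by simp only [Matrix.mul_assoc]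
      _ = A.val := by rw [Tm_mul_Tm']; simp

end Final

/-- If W ≤ F^(2m) is a 2k-dimensional subspace on which the symplectic form is non-degenerate, then the stabiliser of W in Sp_2m(F) is isomorphic to Sp_2k(F) × Sp_(2m−2k)(F). -/
theorem result {F : Type*} [Field F] (m k : ℕ) (hk : k ≤ m) (W : Submodule F (Fin m ⊕ Fin m → F)) (hWk : Module.finrank F W = 2 * k) (hW : ∀ u ∈ W, (∀ v ∈ W, Cfsg.sympForm m F u v = 0) → u = 0) : Nonempty (↥(Cfsg.stabilizing (Cfsg.spToMat m F) (W : Set (Fin m ⊕ Fin m → F))) ≃* Matrix.symplecticGroup (Fin k) F × Matrix.symplecticGroup (Fin (m - k)) F) := by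
  obtain ⟨bV, hJ, hin, hrepr⟩ := exists_adapted_basis k hk W hWk hW
  exact ⟨(MulEquiv.ofBijective (Phi bV W hJ hin hrepr) (Phi_bijective bV W hJ hin hrepr)).symm⟩

end Cfsg.Agent.S0776
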