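import Cfsg.Statements.S0775
import Mathlib
import Cfsg.Agent.Lib.Helper13.SympGeom
import Cfsg.Agent.Lib.Helper13.TIFrames
import Cfsg.Agent.Lib.Lead.SpCard
import Cfsg.Agent.S0749
import Cfsg.Agent.S0776

set_option autoImplicit false
open Cfsg

namespace Cfsg.Agent.S0775

open Matrix Module Submodule Cfsg.Agent.Helper13 Cfsg.Agent.S0776

variable {F : Type*} [Field F] {m : ℕ}

/-! ### isometries as symplectic matrices -/

theorem mem_symplectic_of_preserves (A : Matrix (Fin m ⊕ Fin m) (Fin m ⊕ Fin m) F)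
    (h : ∀ u v, Cfsg.sympForm m F (A *ᵥ u) (A *ᵥ v) = Cfsg.sympForm m F u v) :
    A ∈ Matrix.symplecticGroup (Fin m) F := by
  rw [SymplecticGroup.mem_iff', Matrix.mul_assoc]
  ext x y
  have h0 := h (Pi.single x 1) (Pi.single y 1)
  have h1 : Cfsg.sympForm m F (A *ᵥ Pi.single x 1) (A *ᵥ Pi.single y 1) =
      (Aᵀ * (Matrix.J (Fin m) F * A)) x y := by
    rw [Matrix.mulVec_single_one, Matrix.mulVec_single_one]
    unfold Cfsg.sympForm
    simp only [dotProduct, Matrix.mulVec, Matrix.transpose_apply, Matrix.mul_apply, Matrix.col_apply]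
  have h2 : Cfsg.sympForm m F (Pi.single x 1) (Pi.single y 1) = Matrix.J (Fin m) F x y := by
    unfold Cfsg.sympForm
    rw [Matrix.mulVec_single_one, single_one_dotProduct, Matrix.col_apply]
  rw [← h1, h0, h2]

/-- Witt transitivity on totally isotropic frames, in matrix form -/
theorem exists_symp_frame {k : ℕ} (s s' : TIFrame (sB m F) k) :
    ∃ A : Matrix.symplecticGroup (Fin m) F, ∀ i, A.val *ᵥ (s.1 i) = s'.1 i := by
  have hφ : ∀ x x' : span F (Set.range s.1), ∀ y y' : span F (Set.range s'.1),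
      sB m F (y : Fin m ⊕ Fin m → F) (y' : Fin m ⊕ Fin m → F) =
        sB m F (x : Fin m ⊕ Fin m → F) (x' : Fin m ⊕ Fin m → F) := by
    intro x x' y y'
    have h1 := span_le_orthogonal (sB m F) s x'.2
    have h2 := span_le_orthogonal (sB m F) s' y'.2
    rw [LinearMap.BilinForm.mem_orthogonal_iff] at h1 h2
    rw [h1 _ x.2, h2 _ y.2]
  obtain ⟨g, hg, hgφ⟩ := S0749.result (sB m F) sB_nondeg sB_alt _ _
    ((Basis.span s.2.1).equiv (Basis.span s'.2.1) (Equiv.refl _)) (fun x x' => hφ x x' _ _)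
  have hgA : ∀ v, LinearMap.toMatrix' g.toLinearMap *ᵥ v = g v := by
    intro v
    rw [LinearMap.toMatrix'_mulVec]
    rfl
  refine ⟨⟨LinearMap.toMatrix' g.toLinearMap, mem_symplectic_of_preserves _ ?_⟩, ?_⟩
  · intro u v
    rw [hgA, hgA, ← sB_apply, ← sB_apply]
    exact hg u v
  · intro i
    change LinearMap.toMatrix' g.toLinearMap *ᵥ (s.1 i) = s'.1 i
    rw [hgA]
    have := hgφ (Basis.span s.2.1 i)
    rw [Basis.equiv_apply, Basis.span_apply, Basis.span_apply] at this
    exact this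

/-! ### the action on frames -/

theorem mulVec_injective' (A : Matrix.symplecticGroup (Fin m) F) :
    Function.Injective (fun v : Fin m ⊕ Fin m → F => A.val *ᵥ v) := by
  intro u v huv
  have := congrArg (fun w => (A⁻¹).val *ᵥ w) huv
  simp only [] at this
  rw [inv_mulVec_mulVec, inv_mulVec_mulVec] at this
  exact this

/-- the image of a frame -/
noncomputable def act {k : ℕ} (A : Matrix.symplecticGroup (Fin m) F) (s : TIFrame (sB m F) k) :
    TIFrame (sB m F) k :=
  ⟨fun i => A.val *ᵥ s.1 i, by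
    have := s.2.1.map' (Matrix.toLin' A.val) (by
      rw [LinearMap.ker_eq_bot]
      intro u v huv
      rw [Matrix.toLin'_apply, Matrix.toLin'_apply] at huv
      exact mulVec_injective' A huv)
    exact this, fun i j => by
    rw [sB_apply, sympForm_mulVec A.2, ← sB_apply]
    exact s.2.2 i j⟩

theorem act_val {k : ℕ} (A : Matrix.symplecticGroup (Fin m) F) (s : TIFrame (sB m F) k)
    (i : Fin k) : (act A s).1 i = A.val *ᵥ s.1 i := rfl

noncomputable instance frameAction {k : ℕ} :
    MulAction (Matrix.symplecticGroup (Fin m) F) (TIFrame (sB m F) k) where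
  smul := act
  one_smul s := by
    apply Subtype.ext
    funext i
    change (1 : Matrix.symplecticGroup (Fin m) F).val *ᵥ s.1 i = s.1 i
    simp
  mul_smul A A' s := by
    apply Subtype.ext
    funext i
    change (A * A').val *ᵥ s.1 i = A.val *ᵥ (A'.val *ᵥ s.1 i)
    rw [Submonoid.coe_mul, Matrix.mulVec_mulVec]

theorem smul_val {k : ℕ} (A : Matrix.symplecticGroup (Fin m) F) (s : TIFrame (sB m F) k)
    (i : Fin k) : (A • s).1 i = A.val *ᵥ s.1 i := rfl

instance frame_pretransitive {k : ℕ} :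
    MulAction.IsPretransitive (Matrix.symplecticGroup (Fin m) F) (TIFrame (sB m F) k) := by
  constructor
  intro s s'
  obtain ⟨A, hA⟩ := exists_symp_frame s s'
  refine ⟨A, ?_⟩
  apply Subtype.ext
  funext i
  rw [smul_val, hA]

theorem span_smul {k : ℕ} (A : Matrix.symplecticGroup (Fin m) F) (s : TIFrame (sB m F) k) :
    span F (Set.range (A • s).1) = (span F (Set.range s.1)).map (Matrix.toLin' A.val) := by
  rw [Submodule.map_span, ← Set.range_comp]
  congr 1

/-! ### frames spanning `W` -/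

section Count

variable {k : ℕ} (W : Submodule F (Fin m ⊕ Fin m → F))

/-- a linearly independent family in a totally isotropic `W` is a frame -/
noncomputable def frameOfLI (hW : ∀ u ∈ W, ∀ v ∈ W, Cfsg.sympForm m F u v = 0)
    (t : {t : Fin k → W // LinearIndependent F t}) : TIFrame (sB m F) k :=
  ⟨fun i => (t.1 i : Fin m ⊕ Fin m → F), t.2.map' W.subtype (Submodule.ker_subtype W),
    fun i j => by rw [sB_apply]; exact hW _ (t.1 i).2 _ (t.1 j).2⟩

theorem span_frameOfLI (hWk : Module.finrank F W = k)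
    (hW : ∀ u ∈ W, ∀ v ∈ W, Cfsg.sympForm m F u v = 0)
    (t : {t : Fin k → W // LinearIndependent F t}) :
    span F (Set.range (frameOfLI W hW t).1) = W := by
  apply Submodule.eq_of_le_of_finrank_eq
  · rw [span_le]
    rintro _ ⟨i, rfl⟩
    exact (t.1 i).2
  · rw [finrank_span_eq_card (frameOfLI W hW t).2.1, Fintype.card_fin, hWk]

noncomputable def equivFW (hWk : Module.finrank F W = k)
    (hW : ∀ u ∈ W, ∀ v ∈ W, Cfsg.sympForm m F u v = 0) :
    {t : Fin k → W // LinearIndependent F t} ≃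
      {s : TIFrame (sB m F) k // span F (Set.range s.1) = W} where
  toFun t := ⟨frameOfLI W hW t, span_frameOfLI W hWk hW t⟩
  invFun s := ⟨fun i => ⟨s.1.1 i, by
      have h := s.2
      have h2 : s.1.1 i ∈ span F (Set.range s.1.1) := subset_span ⟨i, rfl⟩
      rw [h] at h2
      exact h2⟩, by
    apply LinearIndependent.of_comp W.subtype
    exact s.1.2.1⟩
  left_inv t := by
    apply Subtype.ext
    funext i
    rfl
  right_inv s := by
    apply Subtype.ext
    apply Subtype.ext
    funext i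
    rfl

theorem card_FW [Fintype F] (hWk : Module.finrank F W = k)
    (hW : ∀ u ∈ W, ∀ v ∈ W, Cfsg.sympForm m F u v = 0) :
    Nat.card {s : TIFrame (sB m F) k // span F (Set.range s.1) = W} =
      ∏ i : Fin k, (Fintype.card F ^ k - Fintype.card F ^ (i : ℕ)) := by
  rw [← Nat.card_congr (equivFW W hWk hW), card_linearIndependent (le_of_eq hWk.symm), hWk]

/-! ### the stabiliser -/

theorem map_eq_of_mem_stab (A : Matrix.symplecticGroup (Fin m) F)
    (hA : A ∈ Cfsg.stabilizing (Cfsg.spToMat m F) (W : Set (Fin m ⊕ Fin m → F))) :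
    W.map (Matrix.toLin' A.val) = W := by
  apply le_antisymm
  · rw [Submodule.map_le_iff_le_comap]
    intro v hv
    rw [Submodule.mem_comap, Matrix.toLin'_apply]
    exact (hA v).mp hv
  · intro w hw
    refine ⟨(A⁻¹).val *ᵥ w, ?_, ?_⟩
    · apply (hA _).mpr
      change A.val *ᵥ ((A⁻¹).val *ᵥ w) ∈ W
      rw [mulVec_inv_mulVec]
      exact hw
    · rw [Matrix.toLin'_apply, mulVec_inv_mulVec]

theorem mem_stab_of_span (A : Matrix.symplecticGroup (Fin m) F) (s : TIFrame (sB m F) k)
    (hs : span F (Set.range s.1) = W) (hAs : span F (Set.range (A • s).1) = W) :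
    A ∈ Cfsg.stabilizing (Cfsg.spToMat m F) (W : Set (Fin m ⊕ Fin m → F)) := by
  apply mem_stab_of_forall
  intro v hv
  rw [span_smul, hs] at hAs
  rw [← hAs]
  exact ⟨v, hv, Matrix.toLin'_apply _ _⟩

theorem orbit_stab (s₀ : TIFrame (sB m F) k) (hs₀ : span F (Set.range s₀.1) = W) :
    MulAction.orbit ↥(Cfsg.stabilizing (Cfsg.spToMat m F) (W : Set (Fin m ⊕ Fin m → F))) s₀ =
      {s | span F (Set.range s.1) = W} := by
  ext s
  rw [MulAction.mem_orbit_iff, Set.mem_ofPred_eq]
  constructor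
  · rintro ⟨g, rfl⟩
    rw [Subgroup.smul_def, span_smul, hs₀]
    exact map_eq_of_mem_stab W g.1 g.2
  · intro hs
    obtain ⟨A, hA⟩ := MulAction.exists_smul_eq (Matrix.symplecticGroup (Fin m) F) s₀ s
    refine ⟨⟨A, mem_stab_of_span W A s₀ hs₀ (by rw [hA]; exact hs)⟩, ?_⟩
    rw [Subgroup.smul_def]
    exact hA

theorem stabilizer_le (s₀ : TIFrame (sB m F) k) (hs₀ : span F (Set.range s₀.1) = W) :
    MulAction.stabilizer (Matrix.symplecticGroup (Fin m) F) s₀ ≤
      Cfsg.stabilizing (Cfsg.spToMat m F) (W : Set (Fin m ⊕ Fin m → F)) := by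
  intro A hA
  rw [MulAction.mem_stabilizer_iff] at hA
  exact mem_stab_of_span W A s₀ hs₀ (by rw [hA]; exact hs₀)

theorem stabilizer_sub (s₀ : TIFrame (sB m F) k) :
    MulAction.stabilizer ↥(Cfsg.stabilizing (Cfsg.spToMat m F) (W : Set (Fin m ⊕ Fin m → F))) s₀ =
      (MulAction.stabilizer (Matrix.symplecticGroup (Fin m) F) s₀).subgroupOf
        (Cfsg.stabilizing (Cfsg.spToMat m F) (W : Set (Fin m ⊕ Fin m → F))) := by
  ext g
  rw [MulAction.mem_stabilizer_iff, Subgroup.mem_subgroupOf, MulAction.mem_stabilizer_iff,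
    Subgroup.smul_def]

theorem key_count [Fintype F] (hWk : Module.finrank F W = k)
    (hW : ∀ u ∈ W, ∀ v ∈ W, Cfsg.sympForm m F u v = 0) :
    Nat.card ↥(Cfsg.stabilizing (Cfsg.spToMat m F) (W : Set (Fin m ⊕ Fin m → F))) *
        Nat.card (TIFrame (sB m F) k) =
      (∏ i : Fin k, (Fintype.card F ^ k - Fintype.card F ^ (i : ℕ))) *
        Nat.card (Matrix.symplecticGroup (Fin m) F) := by
  classical
  -- a base frame
  let t₀ : {t : Fin k → W // LinearIndependent F t} :=
    ⟨fun i => Module.finBasisOfFinrankEq F W hWk i, (Module.finBasisOfFinrankEq F W hWk).linearIndependent⟩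
  let s₀ : TIFrame (sB m F) k := frameOfLI W hW t₀
  have hs₀ : span F (Set.range s₀.1) = W := span_frameOfLI W hWk hW t₀
  set P := Cfsg.stabilizing (Cfsg.spToMat m F) (W : Set (Fin m ⊕ Fin m → F)) with hP
  set S₀ := MulAction.stabilizer (Matrix.symplecticGroup (Fin m) F) s₀ with hS₀
  have h1 : S₀.index = Nat.card (TIFrame (sB m F) k) := by
    rw [hS₀, MulAction.index_stabilizer, MulAction.orbit_eq_univ, Set.ncard_univ]
  have h2 := Subgroup.card_mul_index S₀
  have h3 : (MulAction.stabilizer ↥P s₀).index =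
      ∏ i : Fin k, (Fintype.card F ^ k - Fintype.card F ^ (i : ℕ)) := by
    rw [MulAction.index_stabilizer, orbit_stab W s₀ hs₀, ← card_FW W hWk hW]
    rfl
  have h4 := Subgroup.card_mul_index (MulAction.stabilizer ↥P s₀)
  have h5 : Nat.card (MulAction.stabilizer ↥P s₀) = Nat.card S₀ := by
    rw [stabilizer_sub]
    exact Nat.card_congr (Subgroup.subgroupOfEquivOfLe (stabilizer_le W s₀ hs₀)).toEquiv
  rw [← h4, ← h2, h5, h3, h1]
  ring

end Count


theorem arith (q k j : ℕ) :
    q ^ (k * (k + 1) / 2 + 2 * k * j) * (q ^ (j ^ 2) * ∏ i ∈ Finset.range j, (q ^ (2 * (i + 1)) - 1)) *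
      ∏ i ∈ Finset.range k, (q ^ (2 * (k + j) - i) - q ^ i) =
    q ^ ((k + j) ^ 2) * ∏ i ∈ Finset.range (k + j), (q ^ (2 * (i + 1)) - 1) := by
  have ha : ∏ i ∈ Finset.range k, (q ^ (2 * (k + j) - i) - q ^ i) =
      q ^ (k * (k - 1) / 2) * ∏ i ∈ Finset.range k, (q ^ (2 * (k + j - i)) - 1) := by
    rw [← Finset.sum_range_id, ← Finset.prod_pow_eq_pow_sum, ← Finset.prod_mul_distrib]
    apply Finset.prod_congr rfl
    intro i hi
    rw [Finset.mem_range] at hi
    rw [Nat.mul_sub_one, ← pow_add]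
    congr 2
    omega
  have hb : ∏ i ∈ Finset.range (k + j), (q ^ (2 * (i + 1)) - 1) =
      (∏ i ∈ Finset.range j, (q ^ (2 * (i + 1)) - 1)) * ∏ i ∈ Finset.range k, (q ^ (2 * (k + j - i)) - 1) := by
    rw [add_comm k j, Finset.prod_range_add]
    congr 1
    rw [← Finset.prod_range_reflect (fun i => q ^ (2 * (j + i + 1)) - 1) k]
    apply Finset.prod_congr rfl
    intro i hi
    rw [Finset.mem_range] at hi
    congr 3
    omega
  have hc : k * (k + 1) / 2 + 2 * k * j + j ^ 2 + k * (k - 1) / 2 = (k + j) ^ 2 := by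
    have h1 : k * (k - 1) / 2 * 2 = k * (k - 1) := by
      rw [← Finset.sum_range_id, Finset.sum_range_id_mul_two]
    have h2 : k * (k + 1) / 2 * 2 = k * (k + 1) := by
      have := Finset.sum_range_id_mul_two (k + 1)
      rw [Finset.sum_range_id, Nat.add_sub_cancel, mul_comm (k + 1) k] at this
      exact this
    have h3 : k * (k - 1) + k * (k + 1) = 2 * (k * k) := by
      cases k with
      | zero => rfl
      | succ n => simp only [Nat.add_sub_cancel]; ring
    have h4 : (k + j) ^ 2 = k * k + 2 * k * j + j ^ 2 := by ring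
    omega
  rw [ha, hb, ← hc, pow_add, pow_add, pow_add]
  ring

/-- Maximal parabolics of the symplectic group: if W is a k-dimensional subspace of F^(2m) on which the symplectic form vanishes identically, its stabiliser in Sp_2m(q) has order q^(k(k+1)/2 + 2k(m−k)) · |Sp_(2m−2k)(q)| · |GL_k(q)|. -/
theorem result {F : Type*} [Field F] [Fintype F] {q : ℕ} (hF : Fintype.card F = q) (m k : ℕ) (hk : k ≤ m) (W : Submodule F (Fin m ⊕ Fin m → F)) (hWk : Module.finrank F W = k) (hW : ∀ u ∈ W, ∀ v ∈ W, Cfsg.sympForm m F u v = 0) : Nat.card ↥(Cfsg.stabilizing (Cfsg.spToMat m F) (W : Set (Fin m ⊕ Fin m → F))) = q ^ (k * (k + 1) / 2 + 2 * k * (m - k)) * (q ^ ((m - k) ^ 2) * ∏ i ∈ Finset.range (m - k), (q ^ (2 * (i + 1)) - 1)) * ∏ i : Fin k, (q ^ k - q ^ (i : ℕ)) := by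
  classical
  have hkey := key_count W hWk hW
  have hq : Nat.card F = q := by rw [Nat.card_eq_fintype_card, hF]
  have hX : Nat.card (TIFrame (sB m F) k) =
      ∏ i ∈ Finset.range k, (q ^ (2 * m - i) - q ^ i) := by
    rw [card_TIFrame (sB m F) sB_nondeg sB_alt k, hq, Module.finrank_fintype_fun_eq_card,
      Fintype.card_sum, Fintype.card_fin, ← two_mul]
  have hSp := Cfsg.Agent.Lead.card_symplecticGroup (F := F) m
  rw [hq] at hSp
  obtain ⟨j, rfl⟩ := Nat.exists_eq_add_of_le hk
  have har := arith q k j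
  rw [Nat.add_sub_cancel_left]
  rw [hF, hX, hSp, ← har] at hkey
  have hXpos : 0 < ∏ i ∈ Finset.range k, (q ^ (2 * (k + j) - i) - q ^ i) := by
    rw [← hX]
    have : Finite (TIFrame (sB (k + j) F) k) := by
      have : Finite (Fin (k + j) ⊕ Fin (k + j) → F) := inferInstance
      infer_instance
    have : Nonempty (TIFrame (sB (k + j) F) k) :=
      ⟨frameOfLI W hW ⟨fun i => Module.finBasisOfFinrankEq F W hWk i,
        (Module.finBasisOfFinrankEq F W hWk).linearIndependent⟩⟩
    exact Nat.card_pos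
  apply Nat.eq_of_mul_eq_mul_right hXpos
  rw [hkey]
  ring

end Cfsg.Agent.S0775
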