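import Cfsg.Statements.S0781
import Mathlib
import Cfsg.Agent.Lib.Helper13.HermTv

set_option autoImplicit false
open Cfsg

namespace Cfsg.Agent.S0781

open Matrix Module Submodule Cfsg.Agent.Helper13
open scoped commutatorElement

variable {F : Type*} [Field F] [Fintype F] {q n : ℕ}

/-- in dimension at least four there is a second isotropic vector orthogonal to `u` -/
theorem exists_iso_perp (hF : Fintype.card F = q ^ 2) (hn : 4 ≤ n) (u : Fin n → F) (hu : u ≠ 0)
    (huu : stdB hF n u u = 0) :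
    ∃ w : Fin n → F, LinearIndependent F (Fin.cons w (fun _ : Fin 1 => u) : Fin 2 → (Fin n → F)) ∧
      stdB hF n u w = 0 ∧ stdB hF n w w = 0 := by
  have hq2 := Cfsg.Agent.Helper19.herm_two_le hF
  let s : HFrame n F q 1 := ⟨fun _ => u, linearIndependent_unique_iff.mpr hu, fun _ _ => huu⟩
  have hcard := card_HExt hF s
  have hcount : 2 ≤ Cfsg.Agent.Helper19.hermCount F q (n - 2 * 1) 0 := by
    rw [Cfsg.Agent.Helper19.hermCount_at_zero hF]
    have hd : 2 ≤ n - 2 * 1 := by omega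
    generalize n - 2 * 1 = d at hd
    have h1 : 1 ≤ q ^ (d - 1) - 1 := by
      have : 2 ^ 1 ≤ q ^ (d - 1) := by
        calc 2 ^ 1 ≤ q ^ 1 := Nat.pow_le_pow_left hq2 1
          _ ≤ q ^ (d - 1) := Nat.pow_le_pow_right (by omega) (by omega)
      omega
    have h2 : 1 ≤ q ^ d - 1 := by
      have : 2 ^ 1 ≤ q ^ d := by
        calc 2 ^ 1 ≤ q ^ 1 := Nat.pow_le_pow_left hq2 1
          _ ≤ q ^ d := Nat.pow_le_pow_right (by omega) (by omega)
      omega
    split_ifs
    · have : 1 ≤ (q ^ d - 1) * (q ^ (d - 1) + 1) := Nat.mul_pos h2 (by omega)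
      omega
    · have : 1 ≤ (q ^ d + 1) * (q ^ (d - 1) - 1) := Nat.mul_pos (by omega) h1
      omega
  have hpos : 0 < Nat.card (HExt s) := by
    rw [hcard]
    have : (q ^ 2) ^ 1 * 2 ≤ (q ^ 2) ^ 1 * Cfsg.Agent.Helper19.hermCount F q (n - 2 * 1) 0 :=
      Nat.mul_le_mul_left _ hcount
    have hq : 0 < (q ^ 2) ^ 1 := by positivity
    omega
  obtain ⟨⟨w⟩, -⟩ := Nat.card_pos_iff.mp hpos
  refine ⟨w.1, ((hframeEquiv hF 1).symm ⟨s, w⟩).2.1, w.2.2.1 0, w.2.2.2⟩


theorem exists_partner_perp (hF : Fintype.card F = q ^ 2) (u w : Fin n → F)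
    (hLI : LinearIndependent F (Fin.cons w (fun _ : Fin 1 => u) : Fin 2 → (Fin n → F)))
    (huw : stdB hF n u w = 0) (hww : stdB hF n w w = 0) :
    ∃ w₁ : Fin n → F, stdB hF n u w₁ = 0 ∧ stdB hF n w w₁ = 1 ∧ stdB hF n w₁ w₁ = 0 := by
  obtain ⟨w₀, hw₀⟩ := herm_prescribe (frobQ hF) (frobQ_ne_id hF) (frobQ_frobQ hF)
    (stdB hF n) (stdB_isSymm hF n) (stdB_nondeg hF n) _ hLI ![1, 0]
  have h0 : stdB hF n w w₀ = 1 := by
    have := hw₀ 0
    simpa using this
  have h1 : stdB hF n u w₀ = 0 := by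
    have := hw₀ 1
    simpa using this
  have h0' : stdB hF n w₀ w = 1 := by
    rw [← (stdB_isSymm hF n).eq w w₀, h0, map_one]
  obtain ⟨α, hα⟩ := trace_surj_involution (frobQ hF) (frobQ_ne_id hF) (frobQ_frobQ hF)
    (-(stdB hF n w₀ w₀)) (by rw [map_neg, (stdB_isSymm hF n).eq])
  refine ⟨w₀ + α • w, ?_, ?_, ?_⟩
  · rw [map_add, map_smul, huw, smul_zero, add_zero, h1]
  · rw [map_add, map_smul, hww, smul_zero, add_zero, h0]
  · simp only [map_add, LinearMap.add_apply, map_smul, LinearMap.map_smulₛₗ, LinearMap.smul_apply,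
      smul_eq_mul, hww, h0, h0']
    linear_combination hα

/-- the commutator of two Eichler transformations is a transvection -/
theorem eichler_comm (hF : Fintype.card F = q ^ 2) (u w w' : Fin n → F) (a c : F)
    (huu : stdB hF n u u = 0) (hww : stdB hF n w w = 0) (huw : stdB hF n u w = 0)
    (hw'w' : stdB hF n w' w' = 0) (huw' : stdB hF n u w' = 0)
    (hww' : stdB hF n w w' = a) (hθ : c = frobQ hF a - a)
    (huu' : Cfsg.hermForm n F q u u = 0) (hc : c ^ q + c = 0) :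
    ⁅eichlerSU hF u w huu hww huw, eichlerSU hF u w' huu hw'w' huw'⁆ = tvSU hF u c huu' hc := by
  have hwu : stdB hF n w u = 0 := by
    rw [← (stdB_isSymm hF n).eq u w, huw, map_zero]
  have hw'u : stdB hF n w' u = 0 := by
    rw [← (stdB_isSymm hF n).eq u w', huw', map_zero]
  have hw'w : stdB hF n w' w = frobQ hF a := by
    rw [← (stdB_isSymm hF n).eq w w', hww']
  apply SU_commutator_eq
  intro x
  rw [eichlerSU_mulVec, eichlerSU_mulVec, tvSU_mulVec, eichlerSU_mulVec, eichlerSU_mulVec]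
  simp only [map_add, map_sub, map_smul, smul_eq_mul, huu, huw, huw', hwu, hw'u, hww',
    hw'w, mul_zero, add_zero, sub_zero]
  rw [hθ]
  module


theorem comm_four (hF : Fintype.card F = q ^ 2) (hn : 4 ≤ n) (u : Fin n → F) (hu : u ≠ 0)
    (huu' : Cfsg.hermForm n F q u u = 0) (c : F) (hc : c ^ q + c = 0) :
    tvSU hF u c huu' hc ∈ commutatorSet ↥(Cfsg.SU n F q) := by
  have huu : stdB hF n u u = 0 := huu'
  obtain ⟨w, hLI, huw, hww⟩ := exists_iso_perp hF hn u hu huu
  obtain ⟨w₁, huw₁, hww₁, hw₁w₁⟩ := exists_partner_perp hF u w hLI huw hww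
  obtain ⟨z, hz⟩ := trace_surj_involution (frobQ hF) (frobQ_ne_id hF) (frobQ_frobQ hF) 1
    (map_one _)
  have hσc : frobQ hF c = -c := by
    rw [frobQ_apply]
    linear_combination hc
  have hw'w' : stdB hF n ((-c * z) • w₁) ((-c * z) • w₁) = 0 := by
    rw [map_smul, LinearMap.map_smulₛₗ, LinearMap.smul_apply, hw₁w₁, smul_zero, smul_zero]
  have huw' : stdB hF n u ((-c * z) • w₁) = 0 := by
    rw [map_smul, huw₁, smul_zero]
  have hww' : stdB hF n w ((-c * z) • w₁) = -c * z := by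
    rw [map_smul, hww₁, smul_eq_mul, mul_one]
  have hθ : c = frobQ hF (-c * z) - (-c * z) := by
    rw [map_mul, map_neg, hσc]
    linear_combination (-c) * hz
  exact ⟨_, _, eichler_comm hF u w ((-c * z) • w₁) (-c * z) c huu hww huw hw'w' huw' hww' hθ huu' hc⟩


/-- an element of `SU_3` scaling the isotropic vector `u` by `l` -/
theorem exists_torus_three (hF : Fintype.card F = q ^ 2) (hn : n = 3) (u : Fin n → F) (hu : u ≠ 0)
    (huu : stdB hF n u u = 0) (l : F) (hl : l ≠ 0) :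
    ∃ g : ↥(Cfsg.SU n F q),
      ((g : Matrix.SpecialLinearGroup (Fin n) F) : Matrix (Fin n) (Fin n) F) *ᵥ u = l • u := by
  classical
  obtain ⟨y, huy, hyy⟩ := exists_hyp_partner (stdB hF n) (stdB_isSymm hF n) (frobQ_ne_id hF)
    (frobQ_frobQ hF) (stdB_nondeg hF n) u hu huu
  have hyu : stdB hF n y u = 1 := by
    rw [← (stdB_isSymm hF n).eq u y, huy, map_one]
  have hdet : (Matrix.of fun a b : Fin 2 => stdB hF n (![u, y] a) (![u, y] b)).det ≠ 0 := by
    rw [Matrix.det_fin_two]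
    simp only [Matrix.of_apply, Matrix.cons_val_zero, Matrix.cons_val_one, huu, hyy, huy, hyu]
    norm_num
  obtain ⟨e, he, hee⟩ := herm_nd_unit (frobQ hF) (frobQ_ne_id hF) (frobQ_frobQ hF) (stdB hF n)
    (stdB_isSymm hF n) (stdB_nondeg hF n) ![u, y] hdet (by
      rw [Module.finrank_fintype_fun_eq_card, Fintype.card_fin]; omega)
  have hue : stdB hF n u e = 0 := by
    have := he 0
    simpa using this
  have hye : stdB hF n y e = 0 := by
    have := he 1
    simpa using this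
  have heu : stdB hF n e u = 0 := by
    rw [← (stdB_isSymm hF n).eq u e, hue, map_zero]
  have hσl : frobQ hF l ≠ 0 := (map_ne_zero _).mpr hl
  set μ : F := frobQ hF l * l⁻¹ with hμ
  have hμN : frobQ hF μ * μ = 1 := by
    rw [hμ, map_mul, map_inv₀, frobQ_frobQ]
    field_simp
  have h1 : frobQ hF l * (frobQ hF l)⁻¹ = 1 := mul_inv_cancel₀ hσl
  have h2 : frobQ hF (frobQ hF l)⁻¹ * l = 1 := by
    rw [map_inv₀, frobQ_frobQ, inv_mul_cancel₀ hl]
  obtain ⟨T, hTv, hdetT⟩ : ∃ T : Matrix (Fin n) (Fin n) F,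
      (∀ v, T *ᵥ v = v + ((l - 1) * stdB hF n y v) • u +
        (((frobQ hF l)⁻¹ - 1) * stdB hF n u v) • y) ∧ T.det = l * (frobQ hF l)⁻¹ := by
    refine ⟨M1 q (l - 1) u y * M1 q ((frobQ hF l)⁻¹ - 1) y u, ?_, ?_⟩
    · intro v
      rw [← Matrix.mulVec_mulVec, M1_mulVec, M1_mulVec, ← stdB_apply hF, ← stdB_apply hF,
        map_add, map_smul, hyy, smul_zero, add_zero]
      abel
    · rw [Matrix.det_mul, M1_det, M1_det, ← stdB_apply hF, ← stdB_apply hF, hyu, huy]
      ring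
  obtain ⟨R, hRv, hdetR⟩ : ∃ R : Matrix (Fin n) (Fin n) F,
      (∀ v, R *ᵥ v = v + ((μ - 1) * stdB hF n e v) • e) ∧ R.det = μ := by
    refine ⟨M1 q (μ - 1) e e, ?_, ?_⟩
    · intro v
      rw [M1_mulVec, ← stdB_apply hF]
    · rw [M1_det, ← stdB_apply hF, hee]
      ring
  refine ⟨mkSU (T * R) ?_ ?_, ?_⟩
  · rw [Matrix.det_mul, hdetT, hdetR, hμ]
    field_simp
  · intro a b
    rw [← Matrix.mulVec_mulVec, ← Matrix.mulVec_mulVec, ← stdB_apply hF, ← stdB_apply hF, hTv,
      hTv (R *ᵥ a)]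
    rw [torus_isometry (stdB hF n) (stdB_isSymm hF n) u y l (frobQ hF l)⁻¹ huu hyy huy hyu h1 h2,
      hRv, hRv]
    exact quasirefl_isometry (stdB hF n) (stdB_isSymm hF n) e μ hee hμN b a
  · rw [mkSU_val, ← Matrix.mulVec_mulVec, hRv, heu, mul_zero, zero_smul, add_zero, hTv, hyu, huu]
    rw [mul_zero, zero_smul, add_zero, mul_one]
    module


theorem comm_three (hF : Fintype.card F = q ^ 2) (hn : n = 3) (hq : 3 ≤ q) (u : Fin n → F)
    (hu : u ≠ 0) (huu' : Cfsg.hermForm n F q u u = 0) (c : F) (hc : c ^ q + c = 0) :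
    tvSU hF u c huu' hc ∈ commutatorSet ↥(Cfsg.SU n F q) := by
  classical
  have huu : stdB hF n u u = 0 := huu'
  have hσc : frobQ hF c = -c := by
    rw [frobQ_apply]
    linear_combination hc
  obtain ⟨t, ht, ht1⟩ := Finset.exists_mem_ne
    (s := Cfsg.Agent.Helper19.hermFixed F q) (by
      rw [(Cfsg.Agent.Helper19.herm_sandwich hF).1]; omega) 1
  rw [Cfsg.Agent.Helper19.mem_hermFixed] at ht
  have hσt : frobQ hF t = t := ht.2
  obtain ⟨l, hl⟩ := norm_surj_involution (frobQ hF) (frobQ_ne_id hF) (frobQ_frobQ hF) t ht.1 hσt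
  have hl0 : l ≠ 0 := by
    intro h
    rw [h, zero_mul] at hl
    exact ht.1 hl.symm
  have hσl : frobQ hF l ≠ 0 := (map_ne_zero _).mpr hl0
  obtain ⟨g, hg⟩ := exists_torus_three hF hn u hu huu l hl0
  have ht1' : t - 1 ≠ 0 := sub_ne_zero.mpr ht1
  have hc' : (c / (t - 1)) ^ q + c / (t - 1) = 0 := by
    have : (c / (t - 1)) ^ q = frobQ hF (c / (t - 1)) := rfl
    rw [this, map_div₀, map_sub, map_one, hσc, hσt]
    field_simp
    ring
  refine ⟨g, tvSU hF u (c / (t - 1)) huu' hc', ?_⟩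
  apply SU_commutator_eq
  intro x
  have hiso : stdB hF n
      (((g : Matrix.SpecialLinearGroup (Fin n) F) : Matrix (Fin n) (Fin n) F) *ᵥ u)
      (((g : Matrix.SpecialLinearGroup (Fin n) F) : Matrix (Fin n) (Fin n) F) *ᵥ x) =
      stdB hF n u x := g.2 x u
  rw [hg, LinearMap.map_smulₛₗ, LinearMap.smul_apply, smul_eq_mul] at hiso
  have key : stdB hF n u
      (((g : Matrix.SpecialLinearGroup (Fin n) F) : Matrix (Fin n) (Fin n) F) *ᵥ x) =
      (frobQ hF l)⁻¹ * stdB hF n u x := by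
    rw [← hiso]
    field_simp
  rw [tvSU_mulVec, tvSU_mulVec, tvSU_mulVec, Matrix.mulVec_add, Matrix.mulVec_smul, hg]
  simp only [map_add, map_smul, huu, smul_eq_mul, mul_zero, add_zero, key]
  have hcoef : c / (t - 1) * stdB hF n u x * l =
      c / (t - 1) * ((frobQ hF l)⁻¹ * stdB hF n u x) + c * ((frobQ hF l)⁻¹ * stdB hF n u x) := by
    rw [← hl]
    field_simp
    have : l * frobQ hF l - 1 ≠ 0 := by rw [hl]; exact ht1'
    field_simp
    ring
  rw [smul_smul, hcoef]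
  module

/-- In SU_n(q) with n ≥ 4, or n = 3 and q > 2, every element whose matrix is a unitary transvection x ↦ x + c h(x, v) v (v isotropic) is a commutator ⁅B, C⁆ of two elements of SU_n(q). -/
theorem result {F : Type*} [Field F] [Fintype F] {q : ℕ} (hF : Fintype.card F = q ^ 2) (n : ℕ) (hn : 4 ≤ n ∨ (n = 3 ∧ 3 ≤ q)) (A : ↥(Cfsg.SU n F q)) (v : Fin n → F) (c : F) (hv0 : Cfsg.hermForm n F q v v = 0) (hA : ((A : Matrix.SpecialLinearGroup (Fin n) F) : Matrix (Fin n) (Fin n) F) = Cfsg.unitaryTransvection n q v c) : A ∈ commutatorSet ↥(Cfsg.SU n F q) := by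
  have hq : 0 < q := q_pos hF
  by_cases hv : v = 0
  · have hA1 : A = 1 := by
      apply SU_ext
      intro x
      rw [hA, unitaryTransvection_mulVec, hv]
      simp
    rw [hA1]
    exact ⟨1, 1, by simp⟩
  · have hiso : ∀ x y : Fin n → F, Cfsg.hermForm n F q
        ((Cfsg.unitaryTransvection n q v c).mulVec x) ((Cfsg.unitaryTransvection n q v c).mulVec y) =
        Cfsg.hermForm n F q x y := by
      intro x y
      rw [← hA]
      exact A.2 x y
    have hcc := (Cfsg.Agent.S0779.result hF n v hv hv0 c).mp hiso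
    have hc : c ^ q + c = 0 := by
      rcases hcc with h0 | h1
      · rw [h0, zero_pow hq.ne', add_zero]
      · have : c ^ q = c ^ (q - 1) * c := by
          rw [← pow_succ]; congr 1; omega
        rw [this, h1]
        ring
    have hAtv : A = tvSU hF v c hv0 hc :=
      Subtype.ext (Subtype.ext (hA.trans (unitaryTransvection_eq_M1 v c)))
    rw [hAtv]
    rcases hn with h4 | ⟨h3, hq3⟩
    · exact comm_four hF h4 v hv hv0 c hc
    · exact comm_three hF h3 hq3 v hv hv0 c hc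

end Cfsg.Agent.S0781
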