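import Cfsg.Statements.S0283
import Mathlib
import Cfsg.Agent.Lib.Helper13.SUPrim
import Cfsg.Agent.S0781

set_option autoImplicit false
set_option linter.unusedSimpArgs false
open Cfsg

namespace Cfsg.Agent.S0283

open Cfsg.Agent.Helper13 Matrix
open scoped LinearAlgebra.Projectivization Pointwise

section Root

variable {F : Type*} [Field F] [Fintype F] {q n : ℕ} (hF : Fintype.card F = q ^ 2)

/-- the group of unitary transvections with centre the isotropic vector `u` -/
def rootGroup (u : Fin n → F) (huu : stdB hF n u u = 0) : Subgroup ↥(Cfsg.SU n F q) where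
  carrier := {g | ∃ a : F, frobQ hF a = -a ∧ ∀ x, actv g x = x + (a * stdB hF n u x) • u}
  one_mem' := ⟨0, by rw [map_zero, neg_zero], fun x => by
    rw [actv_one, zero_mul, zero_smul, add_zero]⟩
  mul_mem' := by
    rintro g h ⟨a, ha, hg⟩ ⟨b, hb, hh⟩
    refine ⟨a + b, by rw [map_add, ha, hb]; ring, fun x => ?_⟩
    rw [actv_mul, hh, hg]
    simp only [map_add, map_smul, smul_eq_mul, huu, mul_zero, add_zero]
    module
  inv_mem' := by
    rintro g ⟨a, ha, hg⟩
    refine ⟨-a, by rw [map_neg, ha], fun x => ?_⟩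
    apply actv_inv
    rw [hg]
    simp only [map_add, map_smul, smul_eq_mul, huu, mul_zero, add_zero]
    module

theorem mem_rootGroup (u : Fin n → F) (huu : stdB hF n u u = 0) (g : ↥(Cfsg.SU n F q)) :
    g ∈ rootGroup hF u huu ↔
      ∃ a : F, frobQ hF a = -a ∧ ∀ x, actv g x = x + (a * stdB hF n u x) • u := Iff.rfl

theorem rootGroup_comm (u : Fin n → F) (huu : stdB hF n u u = 0) :
    IsMulCommutative (rootGroup hF u huu) := by
  refine ⟨⟨?_⟩⟩
  rintro ⟨g, a, ha, hg⟩ ⟨h, b, hb, hh⟩
  apply Subtype.ext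
  change g * h = h * g
  apply SU_ext
  intro x
  change actv (g * h) x = actv (h * g) x
  rw [actv_mul, actv_mul, hh, hg, hg, hh]
  simp only [map_add, map_smul, smul_eq_mul, huu, mul_zero, add_zero]
  module

theorem tvSU_mem_rootGroup (u : Fin n → F) (huu : stdB hF n u u = 0) (a : F)
    (ha : a ^ q + a = 0) (huu' : Cfsg.hermForm n F q u u = 0) :
    tvSU hF u a huu' ha ∈ rootGroup hF u huu := by
  refine ⟨a, ?_, fun x => actv_tvSU hF u a huu' ha x⟩
  rw [frobQ_apply]
  linear_combination ha

theorem rootGroup_smul (l : F) (hl : l ≠ 0) (u : Fin n → F) (huu : stdB hF n u u = 0)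
    (h' : stdB hF n (l • u) (l • u) = 0) : rootGroup hF (l • u) h' = rootGroup hF u huu := by
  have hσl : frobQ hF l ≠ 0 := by
    intro h
    apply hl
    rw [← frobQ_frobQ hF l, h, map_zero]
  ext g
  rw [mem_rootGroup, mem_rootGroup]
  constructor
  · rintro ⟨a, ha, hg⟩
    refine ⟨a * (frobQ hF l * l), ?_, fun x => ?_⟩
    · rw [map_mul, map_mul, frobQ_frobQ, ha]
      ring
    · rw [hg]
      simp only [LinearMap.map_smulₛₗ, LinearMap.smul_apply, smul_eq_mul, smul_smul]
      congr 2
      ring
  · rintro ⟨a, ha, hg⟩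
    refine ⟨a / (frobQ hF l * l), ?_, fun x => ?_⟩
    · rw [map_div₀, map_mul, frobQ_frobQ, ha]
      field_simp
    · rw [hg]
      simp only [LinearMap.map_smulₛₗ, LinearMap.smul_apply, smul_eq_mul, smul_smul]
      congr 2
      field_simp

theorem rootGroup_conj (g : ↥(Cfsg.SU n F q)) (u : Fin n → F) (huu : stdB hF n u u = 0)
    (h' : stdB hF n (actv g u) (actv g u) = 0) :
    rootGroup hF (actv g u) h' = MulAut.conj g • rootGroup hF u huu := by
  have hinv : ∀ x, actv g (actv g⁻¹ x) = x := by
    intro x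
    rw [← actv_mul, mul_inv_cancel, actv_one]
  have hinv' : ∀ x, actv g⁻¹ (actv g x) = x := by
    intro x
    rw [← actv_mul, inv_mul_cancel, actv_one]
  ext A
  rw [Subgroup.mem_smul_pointwise_iff_exists, mem_rootGroup]
  constructor
  · rintro ⟨a, ha, hA⟩
    refine ⟨g⁻¹ * A * g, ⟨a, ha, fun x => ?_⟩, ?_⟩
    · rw [actv_mul, actv_mul, hA, actv_iso, actv_add, actv_smul, hinv', hinv']
    · rw [MulAut.smul_def, MulAut.conj_apply]
      group
  · rintro ⟨s, ⟨a, ha, hs⟩, rfl⟩
    refine ⟨a, ha, fun x => ?_⟩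
    rw [MulAut.smul_def, MulAut.conj_apply, actv_mul, actv_mul, hs, actv_add, actv_smul, hinv]
    have := actv_iso hF g u (actv g⁻¹ x)
    rw [hinv] at this
    rw [this]

theorem rootGroup_rep_mk (w : Fin n → F) (hw : w ≠ 0) (hww : stdB hF n w w = 0)
    (h' : stdB hF n (Projectivization.mk F w hw).rep (Projectivization.mk F w hw).rep = 0) :
    rootGroup hF (Projectivization.mk F w hw).rep h' = rootGroup hF w hww := by
  obtain ⟨a, ha⟩ := Projectivization.exists_smul_eq_mk_rep F w hw
  have h1 : (Projectivization.mk F w hw).rep = (a : F) • w := by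
    rw [← ha, Units.smul_def]
  have key : ∀ (v : Fin n → F) (hv : stdB hF n v v = 0), v = (a : F) • w →
      rootGroup hF v hv = rootGroup hF w hww := by
    intro v hv hvw
    subst hvw
    exact rootGroup_smul hF (a : F) a.ne_zero w hww hv
  exact key _ h' h1

theorem rootGroup_mkPt (w : Fin n → F) (hw : w ≠ 0) (hww : stdB hF n w w = 0) :
    rootGroup hF (mkPt hF w hw hww).1.rep (mkPt hF w hw hww).2 = rootGroup hF w hww :=
  rootGroup_rep_mk hF w hw hww _

/-- the Iwasawa structure on `SU` acting on isotropic points -/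
noncomputable def iwasawa (hn : 3 ≤ n) (h32 : ¬(n = 3 ∧ q = 2)) :
    MulAction.IwasawaStructure ↥(Cfsg.SU n F q) ↥(isoPts hF (n := n)) where
  T p := rootGroup hF p.1.rep p.2
  is_comm p := rootGroup_comm hF _ _
  is_conj g p := by
    obtain ⟨v, hv, hvv, rfl⟩ := exists_mkPt hF p
    rw [smul_mkPt, rootGroup_mkPt, rootGroup_mkPt]
    exact rootGroup_conj hF g v hvv _
  is_generator := by
    rw [eq_top_iff, ← TG_top hF hn h32]
    unfold TG
    rw [Subgroup.closure_le]
    rintro g ⟨u, a, huu, ha, -, rfl⟩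
    by_cases hu : u = 0
    · have : tvSU hF u a huu ha = 1 := by
        apply SU_ext
        intro x
        change actv (tvSU hF u a huu ha) x = actv 1 x
        rw [actv_tvSU, actv_one, hu, smul_zero, add_zero]
      rw [this]
      exact Subgroup.one_mem _
    · have huu' : stdB hF n u u = 0 := huu
      apply Subgroup.mem_iSup_of_mem (mkPt hF u hu huu')
      rw [rootGroup_mkPt]
      exact tvSU_mem_rootGroup hF u huu' a ha huu

include hF in
/-- `SU_n(q)` is perfect -/
theorem su_perfect (hn : 3 ≤ n) (h32 : ¬(n = 3 ∧ q = 2)) :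
    commutator ↥(Cfsg.SU n F q) = ⊤ := by
  have hq := Cfsg.Agent.Helper19.herm_two_le hF
  rw [eq_top_iff, ← TG_top hF hn h32, commutator_eq_closure]
  unfold TG
  apply Subgroup.closure_mono
  rintro g ⟨u, a, huu, ha, -, rfl⟩
  apply Cfsg.Agent.S0781.result hF n (by omega) _ u a huu
  unfold tvSU
  rw [mkSU_val, unitaryTransvection_eq_M1]

/-- a subgroup fixing all the isotropic points is central -/
theorem le_center_of_fixes (hn : 3 ≤ n) (h32 : ¬(n = 3 ∧ q = 2))
    (N : Subgroup ↥(Cfsg.SU n F q))
    (h : MulAction.fixedPoints N ↥(isoPts hF (n := n)) = Set.univ) :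
    N ≤ Subgroup.center ↥(Cfsg.SU n F q) := by
  intro g hg
  have hfix : ∀ p : ↥(isoPts hF (n := n)), g • p = p := by
    intro p
    have hp : p ∈ MulAction.fixedPoints N ↥(isoPts hF (n := n)) := by
      rw [h]
      trivial
    exact hp ⟨g, hg⟩
  have hscal : ∀ (u : Fin n → F), u ≠ 0 → stdB hF n u u = 0 → ∃ l : F, actv g u = l • u := by
    intro u hu huu
    have := hfix (mkPt hF u hu huu)
    rw [smul_mkPt, mkPt_eq_iff] at this
    obtain ⟨a, ha⟩ := this
    exact ⟨a, ha.symm⟩
  -- the scalar has norm one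
  have hnorm : ∀ (u : Fin n → F) (l : F), u ≠ 0 → stdB hF n u u = 0 → actv g u = l • u →
      frobQ hF l * l = 1 := by
    intro u l hu huu hl
    obtain ⟨y, huy, hyy⟩ := su_exists_partner hF u hu huu
    have hyu : stdB hF n y u = 1 := by
      rw [← (stdB_isSymm hF n).eq u y, huy, map_one]
    have hy : y ≠ 0 := by
      rintro rfl
      rw [map_zero] at huy
      exact zero_ne_one huy
    obtain ⟨m, hm⟩ := hscal y hy hyy
    obtain ⟨c, hc0, hc⟩ := exists_trace_zero hF
    have hc' : frobQ hF c = -c := by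
      rw [frobQ_apply]
      linear_combination hc
    have hww : stdB hF n (u + c • y) (u + c • y) = 0 := by
      simp only [map_add, map_smul, LinearMap.add_apply, LinearMap.map_smulₛₗ,
        LinearMap.smul_apply, smul_eq_mul, huu, hyy, huy, hyu, hc']
      ring
    have hw : u + c • y ≠ 0 := by
      intro h0
      have := congrArg (stdB hF n u) h0
      rw [map_add, map_smul, huu, huy, map_zero, zero_add, smul_eq_mul, mul_one] at this
      exact hc0 this
    obtain ⟨k, hk⟩ := hscal _ hw hww
    rw [actv_add, actv_smul, hl, hm] at hk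
    -- compare coefficients
    have h1 := congrArg (stdB hF n y) hk
    have h2 := congrArg (stdB hF n u) hk
    simp only [map_add, map_smul, smul_eq_mul, huu, hyy, huy, hyu, mul_zero, mul_one, add_zero,
      zero_add] at h1 h2
    have hlm : l = m := by
      have : c * m = c * l := by rw [h1, h2, mul_comm]
      exact (mul_left_cancel₀ hc0 this).symm
    have h3 := actv_iso hF g u y
    rw [hl, hm, huy] at h3
    simp only [map_smul, LinearMap.map_smulₛₗ, LinearMap.smul_apply, smul_eq_mul, huy,
      mul_one] at h3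
    rw [← hlm] at h3
    linear_combination h3
  -- `g` commutes with the root groups
  have hcent : (⊤ : Subgroup ↥(Cfsg.SU n F q)) ≤ Subgroup.centralizer {g} := by
    rw [← (iwasawa hF hn h32).is_generator]
    apply iSup_le
    intro p t ht
    obtain ⟨u, hu, huu, rfl⟩ := exists_mkPt hF p
    have ht' : t ∈ rootGroup hF (mkPt hF u hu huu).1.rep (mkPt hF u hu huu).2 := ht
    rw [rootGroup_mkPt] at ht'
    obtain ⟨a, ha, ht⟩ := ht'
    obtain ⟨l, hl⟩ := hscal u hu huu
    have hl1 := hnorm u l hu huu hl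
    rw [Subgroup.mem_centralizer_singleton_iff]
    apply SU_ext
    intro x
    change actv (t * g) x = actv (g * t) x
    rw [actv_mul, actv_mul, ht, ht, actv_add, actv_smul, hl]
    have h4 := actv_iso hF g u x
    rw [hl] at h4
    simp only [LinearMap.map_smulₛₗ, LinearMap.smul_apply, smul_eq_mul] at h4
    have h5 : stdB hF n u (actv g x) = l * stdB hF n u x := by
      rw [← h4]
      linear_combination (-(stdB hF n u (actv g x))) * hl1
    rw [h5, smul_smul]
    congr 2
    ring
  rw [Subgroup.mem_center_iff]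
  intro t
  have := hcent (Subgroup.mem_top t)
  rw [Subgroup.mem_centralizer_singleton_iff] at this
  exact this

end Root

section Main

theorem simple_quot {G : Type*} [Group G] (x : G) (hx : x ∉ Subgroup.center G)
    (H : ∀ N : Subgroup G, N.Normal → N ≤ Subgroup.center G ∨ N = ⊤) :
    IsSimpleGroup (G ⧸ Subgroup.center G) := by
  refine { exists_pair_ne := ⟨(x : G ⧸ Subgroup.center G), 1,
             fun h => hx ((QuotientGroup.eq_one_iff x).mp h)⟩,
           eq_bot_or_eq_top_of_normal := ?_ }
  intro K hK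
  have hN : (K.comap (QuotientGroup.mk' (Subgroup.center G))).Normal := hK.comap _
  rcases H _ hN with h | h
  · left
    rw [eq_bot_iff]
    intro k hk
    obtain ⟨g, rfl⟩ := QuotientGroup.mk_surjective k
    have hg : g ∈ K.comap (QuotientGroup.mk' (Subgroup.center G)) := hk
    rw [Subgroup.mem_bot, QuotientGroup.eq_one_iff]
    exact h hg
  · right
    rw [eq_top_iff]
    intro k _
    obtain ⟨g, rfl⟩ := QuotientGroup.mk_surjective k
    have hg : g ∈ K.comap (QuotientGroup.mk' (Subgroup.center G)) := by rw [h]; trivial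
    exact hg

variable {F : Type*} [Field F] [Fintype F] {q n : ℕ} (hF : Fintype.card F = q ^ 2)

include hF in
theorem exists_noncentral (hn : 3 ≤ n) (h32 : ¬(n = 3 ∧ q = 2)) :
    ∃ x : ↥(Cfsg.SU n F q), x ∉ Subgroup.center ↥(Cfsg.SU n F q) := by
  by_contra hall
  simp only [not_exists, not_not] at hall
  have hc : Subgroup.center ↥(Cfsg.SU n F q) = ⊤ := by
    rw [eq_top_iff]
    intro x _
    exact hall x
  have hbot := (commutator_eq_bot_iff_center_eq_top _).mpr hc
  rw [su_perfect hF hn h32] at hbot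
  -- the group is trivial, but a transvection is not
  obtain ⟨u, hu, huu⟩ : ∃ u : Fin n → F, u ≠ 0 ∧ stdB hF n u u = 0 := by
    have hON0 : ON hF (fun i : Fin 0 => (i.elim0 : Fin n → F)) := fun i => i.elim0
    obtain ⟨e1, he1W, he1⟩ := hON0.exists_unit (by omega)
    have hON1 := hON0.snoc e1 he1 he1W
    obtain ⟨e2, he2W, he2⟩ := hON1.exists_unit (by omega)
    rw [perpS_snoc] at he2W
    have h12 := he2W.2
    have h21 := stdB_swap_zero hF _ _ h12
    obtain ⟨ζ, hζ⟩ := norm_surj_involution (frobQ hF) (frobQ_ne_id hF) (frobQ_frobQ hF) (-1)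
      (neg_ne_zero.mpr one_ne_zero) (by rw [map_neg, map_one])
    refine ⟨e1 + ζ • e2, ?_, ?_⟩
    · intro h0
      have : stdB hF n e1 (e1 + ζ • e2) = 1 := by
        rw [map_add, map_smul, he1, h12, smul_zero, add_zero]
      rw [h0, map_zero] at this
      exact zero_ne_one this
    · simp only [map_add, map_smul, LinearMap.add_apply, LinearMap.map_smulₛₗ,
        LinearMap.smul_apply, smul_eq_mul, he1, he2, h12, h21]
      linear_combination hζ
  obtain ⟨y, huy, hyy⟩ := su_exists_partner hF u hu huu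
  obtain ⟨a, ha0, ha⟩ := exists_trace_zero hF
  have huu' : Cfsg.hermForm n F q u u = 0 := huu
  have h1 : tvSU hF u a huu' ha ∈ (⊤ : Subgroup ↥(Cfsg.SU n F q)) := Subgroup.mem_top _
  rw [hbot, Subgroup.mem_bot] at h1
  have h2 := actv_tvSU hF u a huu' ha y
  rw [h1, actv_one, huy, mul_one] at h2
  have h3 : a • u = 0 := by
    have h4 : y + a • u = y + 0 := by rw [add_zero, ← h2]
    exact add_left_cancel h4
  rcases smul_eq_zero.mp h3 with h3 | h3
  · exact ha0 h3
  · exact hu h3

include hF in
theorem main (hn : 3 ≤ n) (h32 : ¬(n = 3 ∧ q = 2)) : IsSimpleGroup (Cfsg.PSU n F q) := by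
  have hperf := su_perfect hF hn h32
  obtain ⟨x, hx⟩ := exists_noncentral hF hn h32
  have hprim := su_preprimitive hF hn
  apply simple_quot x hx
  intro N hN
  by_cases hfix : MulAction.fixedPoints N ↥(isoPts hF (n := n)) = Set.univ
  · exact Or.inl (le_center_of_fixes hF hn h32 N hfix)
  · right
    have := (iwasawa hF hn h32).commutator_le N hfix
    rw [hperf] at this
    exact eq_top_iff.mpr this

end Main

/-- PSU_n(q) is simple for n at least 3 and (n, q) other than (3, 2). -/
theorem result {F : Type*} [Field F] [Fintype F] {q : ℕ} (hF : Fintype.card F = q ^ 2) (n : ℕ) (hn : 3 ≤ n) (h : ¬ (n = 3 ∧ q = 2)) : IsSimpleGroup (Cfsg.PSU n F q) := by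
  exact main hF hn h

end Cfsg.Agent.S0283
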