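import Mathlib
import Cfsg.Statements.S0838

set_option autoImplicit false
open Cfsg

namespace Cfsg.Agent.S0838

open QuadraticMap

section

variable {F : Type*} [Field F]

theorem exists_binary_eq_one [Fintype F] (h2 : (2 : F) ≠ 0) (a b : F) (ha : a ≠ 0) (hb : b ≠ 0) :
    ∃ x y : F, a * x ^ 2 + b * y ^ 2 = 1 := by
  have hcard : Fintype.card F % 2 = 1 := by
    apply FiniteField.odd_card_of_char_ne_two
    intro h
    apply h2
    have := CharP.cast_eq_zero F (ringChar F)
    rw [h] at this
    exact_mod_cast this
  have hf : (Polynomial.C a * Polynomial.X ^ 2 : Polynomial F).degree = 2 := by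
    rw [Polynomial.degree_C_mul_X_pow 2 ha]; rfl
  have hg : (Polynomial.C b * Polynomial.X ^ 2 - Polynomial.C 1 : Polynomial F).degree = 2 := by
    rw [Polynomial.degree_sub_eq_left_of_degree_lt]
    · rw [Polynomial.degree_C_mul_X_pow 2 hb]; rfl
    · rw [Polynomial.degree_C_mul_X_pow 2 hb]
      exact lt_of_le_of_lt Polynomial.degree_C_le (by norm_num)
  obtain ⟨x, y, hxy⟩ := FiniteField.exists_root_sum_quadratic hf hg hcard
  refine ⟨x, y, ?_⟩
  simp only [Polynomial.eval_mul, Polynomial.eval_C, Polynomial.eval_pow, Polynomial.eval_X,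
    Polynomial.eval_sub] at hxy
  linear_combination hxy

variable {ι : Type*} [Fintype ι] [DecidableEq ι]

theorem sum_split2 (f : ι → F) {i j : ι} (hij : i ≠ j) :
    ∑ k, f k = f i + f j + ∑ k ∈ (Finset.univ.erase i).erase j, f k := by
  rw [← Finset.add_sum_erase Finset.univ f (Finset.mem_univ i),
    ← Finset.add_sum_erase (Finset.univ.erase i) f
      (Finset.mem_erase.mpr ⟨hij.symm, Finset.mem_univ j⟩), add_assoc]

/-- the binary move as a linear equivalence -/
def moveEquiv (w : ι → F) (i j : ι) (hij : i ≠ j) (x y : F)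
    (hxy : w i * x ^ 2 + w j * y ^ 2 = 1) : (ι → F) ≃ₗ[F] (ι → F) where
  toFun v := fun k => if k = i then x * v i - w j * y * v j
    else if k = j then y * v i + w i * x * v j else v k
  invFun u := fun k => if k = i then w i * x * u i + w j * y * u j
    else if k = j then -y * u i + x * u j else u k
  map_add' u v := by
    funext k
    simp only [Pi.add_apply]
    split_ifs <;> ring
  map_smul' c v := by
    funext k
    simp only [Pi.smul_apply, smul_eq_mul, RingHom.id_apply]
    split_ifs <;> ring
  left_inv v := by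
    funext k
    by_cases hki : k = i
    · subst hki
      simp only [if_true, if_neg hij.symm]
      linear_combination (v k) * hxy
    · by_cases hkj : k = j
      · subst hkj
        simp only [if_true, if_neg hki, if_neg hij.symm]
        linear_combination (v k) * hxy
      · simp only [if_neg hki, if_neg hkj]
  right_inv u := by
    funext k
    by_cases hki : k = i
    · subst hki
      simp only [if_true, if_neg hij.symm]
      linear_combination (u k) * hxy
    · by_cases hkj : k = j
      · subst hkj
        simp only [if_true, if_neg hki, if_neg hij.symm]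
        linear_combination (u k) * hxy
      · simp only [if_neg hki, if_neg hkj]

theorem move_equivalent (w : ι → F) (i j : ι) (hij : i ≠ j) (x y : F)
    (hxy : w i * x ^ 2 + w j * y ^ 2 = 1) :
    Equivalent (weightedSumSquares F (Function.update (Function.update w i 1) j (w i * w j)))
      (weightedSumSquares F w) := by
  refine ⟨⟨moveEquiv w i j hij x y hxy, ?_⟩⟩
  intro v
  change weightedSumSquares F w (moveEquiv w i j hij x y hxy v) = weightedSumSquares F _ v
  simp only [weightedSumSquares_apply, smul_eq_mul]
  rw [sum_split2 _ hij, sum_split2 (fun k => Function.update (Function.update w i 1) j (w i * w j) k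
    * (v k * v k)) hij]
  have hrest : ∀ k ∈ (Finset.univ.erase i).erase j,
      w k * ((moveEquiv w i j hij x y hxy) v k * (moveEquiv w i j hij x y hxy) v k) =
      Function.update (Function.update w i 1) j (w i * w j) k * (v k * v k) := by
    intro k hk
    have hkj : k ≠ j := (Finset.mem_erase.mp hk).1
    have hki : k ≠ i := (Finset.mem_erase.mp (Finset.mem_erase.mp hk).2).1
    rw [Function.update_of_ne hkj, Function.update_of_ne hki]
    simp only [moveEquiv, LinearEquiv.coe_mk, LinearMap.coe_mk, AddHom.coe_mk, if_neg hki,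
      if_neg hkj]
  rw [Finset.sum_congr rfl hrest]
  simp only [moveEquiv, LinearEquiv.coe_mk, LinearMap.coe_mk, AddHom.coe_mk, if_true,
    if_neg hij.symm, Function.update_self, Function.update_of_ne hij]
  linear_combination (v i * v i + w i * w j * (v j * v j)) * hxy

/-- diagonal forms over a finite field of odd characteristic: move all weights to one coordinate -/
theorem diag_normal [Fintype F] (h2 : (2 : F) ≠ 0) (w : ι → F) (hw : ∀ i, w i ≠ 0) (j₀ : ι) :
    Equivalent (weightedSumSquares F w)
      (weightedSumSquares F (fun i => if i = j₀ then ∏ k, w k else 1)) := by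
  classical
  have key : ∀ s : Finset ι, j₀ ∉ s → Equivalent (weightedSumSquares F w)
      (weightedSumSquares F (fun i => if i ∈ s then 1 else if i = j₀ then w j₀ * ∏ k ∈ s, w k
        else w i)) := by
    intro s
    induction s using Finset.induction_on with
    | empty =>
      intro _
      have : (fun i => if i ∈ (∅ : Finset ι) then (1 : F) else if i = j₀ then
          w j₀ * ∏ k ∈ (∅ : Finset ι), w k else w i) = w := by
        funext i
        simp only [Finset.notMem_empty, if_false, Finset.prod_empty, mul_one]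
        split_ifs with h
        · rw [h]
        · rfl
      rw [this]
    | insert a s has ih =>
      intro hj
      have haj : a ≠ j₀ := fun h => hj (h ▸ Finset.mem_insert_self a s)
      have hjs : j₀ ∉ s := fun h => hj (Finset.mem_insert_of_mem h)
      refine (ih hjs).trans ?_
      set W : ι → F := fun i => if i ∈ s then 1 else if i = j₀ then w j₀ * ∏ k ∈ s, w k
        else w i with hW
      have hWa : W a = w a := by simp only [hW, if_neg has, if_neg haj]
      have hWj : W j₀ = w j₀ * ∏ k ∈ s, w k := by simp only [hW, if_neg hjs, if_true]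
      have hWa0 : W a ≠ 0 := by rw [hWa]; exact hw a
      have hWj0 : W j₀ ≠ 0 := by
        rw [hWj]
        exact mul_ne_zero (hw j₀) (Finset.prod_ne_zero_iff.mpr (fun k _ => hw k))
      obtain ⟨x, y, hxy⟩ := exists_binary_eq_one h2 (W a) (W j₀) hWa0 hWj0
      have hm := (move_equivalent W a j₀ haj x y hxy).symm
      convert hm using 2
      funext i
      by_cases hij : i = j₀
      · subst hij
        rw [Function.update_self, hWa, hWj, if_neg hj, if_pos rfl, Finset.prod_insert has]
        ring
      · rw [Function.update_of_ne hij]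
        by_cases hia : i = a
        · subst hia
          rw [Function.update_self, if_pos (Finset.mem_insert_self i s)]
        · rw [Function.update_of_ne hia]
          simp only [hW, Finset.mem_insert, hia, false_or, if_neg hij]
  have h := key (Finset.univ.erase j₀) (Finset.notMem_erase j₀ _)
  convert h using 2
  funext i
  by_cases hij : i = j₀
  · subst hij
    rw [if_pos rfl, if_neg (Finset.notMem_erase i _), if_pos rfl,
      Finset.mul_prod_erase _ _ (Finset.mem_univ i)]
  · rw [if_neg hij, if_pos (Finset.mem_erase.mpr ⟨hij, Finset.mem_univ i⟩)]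

theorem sep_of_nondeg {V : Type*} [AddCommGroup V] [Module F V] [Invertible (2 : F)]
    (Q : QuadraticForm F V) (h : (QuadraticMap.polarBilin Q).Nondegenerate) :
    (associated (R := F) Q).SeparatingLeft := by
  intro x hx
  apply h.1 x
  intro y
  rw [← QuadraticMap.two_nsmul_associated F Q]
  simp only [LinearMap.smul_apply]
  rw [hx y, smul_zero]

theorem smul_equivalent {V W : Type*} [AddCommGroup V] [Module F V] [AddCommGroup W] [Module F W]
    {Q : QuadraticForm F V} {Q' : QuadraticForm F W} (c : F) (h : Equivalent Q Q') :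
    Equivalent (c • Q) (c • Q') := by
  obtain ⟨e⟩ := h
  refine ⟨⟨e.toLinearEquiv, ?_⟩⟩
  intro v
  change (c • Q') (e v) = (c • Q) v
  simp only [QuadraticMap.smul_apply, e.map_app]

theorem units_weights_equivalent (w : ι → Fˣ) :
    Equivalent (weightedSumSquares F w) (weightedSumSquares F (fun i => (w i : F))) := by
  refine ⟨⟨LinearEquiv.refl F (ι → F), ?_⟩⟩
  intro v
  simp only [weightedSumSquares_apply, Units.smul_def, smul_eq_mul]
  rfl

theorem smul_weights_equivalent (c : F) (w : ι → F) :
    Equivalent (c • weightedSumSquares F w) (weightedSumSquares F (fun i => c * w i)) := by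
  refine ⟨⟨LinearEquiv.refl F (ι → F), ?_⟩⟩
  intro v
  change weightedSumSquares F (fun i => c * w i) v = (c • weightedSumSquares F w) v
  simp only [QuadraticMap.smul_apply, weightedSumSquares_apply, smul_eq_mul, Finset.mul_sum]
  apply Finset.sum_congr rfl
  intro i _
  ring

theorem std_square_equivalent (j₀ : ι) (d t : F) (ht : t ≠ 0) :
    Equivalent (weightedSumSquares F (fun i => if i = j₀ then d * t ^ 2 else 1))
      (weightedSumSquares F (fun i => if i = j₀ then d else 1)) := by
  refine ⟨QuadraticForm.isometryEquivWeightedSumSquaresWeightedSumSquares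
    (fun i => if i = j₀ then Units.mk0 t ht else 1) ?_⟩
  intro i
  split_ifs with h
  · simp
  · simp

end

/-- Over a finite field with 2 ≠ 0 and n odd: two quadratic forms Q₁, Q₂ on F^n with non-degenerate polar forms are similar — there are an invertible linear map g and a scalar c ≠ 0 with Q₂ (g v) = c · Q₁ v for all v. -/
theorem result {F : Type*} [Field F] [Fintype F] (h2 : (2 : F) ≠ 0) {n : ℕ} (hn : Odd n) (Q₁ Q₂ : QuadraticForm F (Fin n → F)) (h₁ : (QuadraticMap.polarBilin Q₁).Nondegenerate) (h₂ : (QuadraticMap.polarBilin Q₂).Nondegenerate) : ∃ (g : (Fin n → F) ≃ₗ[F] (Fin n → F)) (c : F), c ≠ 0 ∧ ∀ v, Q₂ (g v) = c * Q₁ v := by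
  classical
  have : Invertible (2 : F) := invertibleOfNonzero h2
  obtain ⟨w₁, hw₁⟩ := QuadraticForm.equivalent_weightedSumSquares_units_of_nondegenerate' Q₁
    (sep_of_nondeg Q₁ h₁)
  obtain ⟨w₂, hw₂⟩ := QuadraticForm.equivalent_weightedSumSquares_units_of_nondegenerate' Q₂
    (sep_of_nondeg Q₂ h₂)
  have hm : Module.finrank F (Fin n → F) = n := Module.finrank_fin_fun F
  have hmodd : Odd (Module.finrank F (Fin n → F)) := hm.symm ▸ hn
  let j₀ : Fin (Module.finrank F (Fin n → F)) := ⟨0, hmodd.pos⟩
  set u₁ : Fin (Module.finrank F (Fin n → F)) → F := fun i => (w₁ i : F) with hu₁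
  set u₂ : Fin (Module.finrank F (Fin n → F)) → F := fun i => (w₂ i : F) with hu₂
  have hu₁0 : ∀ i, u₁ i ≠ 0 := fun i => (w₁ i).ne_zero
  have hu₂0 : ∀ i, u₂ i ≠ 0 := fun i => (w₂ i).ne_zero
  set d₁ := ∏ k, u₁ k with hd₁
  set d₂ := ∏ k, u₂ k with hd₂
  have hd₁0 : d₁ ≠ 0 := Finset.prod_ne_zero_iff.mpr (fun k _ => hu₁0 k)
  have hd₂0 : d₂ ≠ 0 := Finset.prod_ne_zero_iff.mpr (fun k _ => hu₂0 k)
  set c := d₂ / d₁ with hc
  have hc0 : c ≠ 0 := div_ne_zero hd₂0 hd₁0
  have E₁ : Equivalent Q₁ (weightedSumSquares F u₁) := hw₁.trans (units_weights_equivalent w₁)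
  have E₂ : Equivalent Q₂ (weightedSumSquares F (fun i => if i = j₀ then d₂ else 1)) :=
    (hw₂.trans (units_weights_equivalent w₂)).trans (diag_normal h2 u₂ hu₂0 j₀)
  have E₃ : Equivalent (c • Q₁) (weightedSumSquares F (fun i => c * u₁ i)) :=
    (smul_equivalent c E₁).trans (smul_weights_equivalent c u₁)
  have E₄ := diag_normal h2 (fun i => c * u₁ i) (fun i => mul_ne_zero hc0 (hu₁0 i)) j₀
  obtain ⟨r, hr⟩ := hmodd
  have hcard : Fintype.card (Fin (Module.finrank F (Fin n → F))) = 2 * r + 1 := by
    rw [Fintype.card_fin, hr]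
  have hprod : ∏ k, c * u₁ k = d₂ * (c ^ r) ^ 2 := by
    have hcd : c * d₁ = d₂ := by rw [hc]; exact div_mul_cancel₀ d₂ hd₁0
    rw [Finset.prod_mul_distrib, Finset.prod_const, Finset.card_univ, hcard, ← hd₁, ← hcd]
    ring
  rw [hprod] at E₄
  have E₅ := std_square_equivalent j₀ d₂ (c ^ r) (pow_ne_zero _ hc0)
  obtain ⟨e⟩ := ((E₃.trans E₄).trans E₅).trans E₂.symm
  refine ⟨e.toLinearEquiv, c, hc0, ?_⟩
  intro v
  have := e.map_app v
  rw [QuadraticMap.smul_apply, smul_eq_mul] at this
  exact this

end Cfsg.Agent.S0838
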