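import Cfsg.Statements.S0269
import Mathlib
import Cfsg.Agent.Lib.Helper13.SympGeom
import Cfsg.Agent.S0765

set_option autoImplicit false
open Cfsg

namespace Cfsg.Agent.S0269

section Blocks
open Matrix Cfsg.Agent.Helper13
variable {F : Type*} [Field F] {m : ℕ}

/-- the Levi element `diag(X, X^{-T})` -/
def dMat (X Y : Matrix (Fin m) (Fin m) F) : Matrix (Fin m ⊕ Fin m) (Fin m ⊕ Fin m) F :=
  fromBlocks X 0 0 Yᵀ

/-- the unipotent element `[[1,S],[0,1]]` -/
def nMat (S : Matrix (Fin m) (Fin m) F) : Matrix (Fin m ⊕ Fin m) (Fin m ⊕ Fin m) F :=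
  fromBlocks 1 S 0 1

theorem dMat_mem (X Y : Matrix (Fin m) (Fin m) F) (h : X * Y = 1) :
    dMat X Y ∈ Matrix.symplecticGroup (Fin m) F := by
  rw [SymplecticGroup.mem_iff]
  unfold dMat Matrix.J
  rw [fromBlocks_transpose, fromBlocks_multiply, fromBlocks_multiply]
  simp only [Matrix.mul_zero, Matrix.zero_mul, add_zero, zero_add, Matrix.mul_one, Matrix.mul_neg,
    Matrix.neg_mul, transpose_zero, transpose_transpose]
  have h' : Yᵀ * Xᵀ = 1 := by rw [← transpose_mul, h, transpose_one]
  rw [h, h', neg_zero]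

theorem nMat_mem (S : Matrix (Fin m) (Fin m) F) (hS : Sᵀ = S) :
    nMat S ∈ Matrix.symplecticGroup (Fin m) F := by
  rw [SymplecticGroup.mem_iff]
  unfold nMat Matrix.J
  rw [fromBlocks_transpose, fromBlocks_multiply, fromBlocks_multiply]
  simp only [Matrix.mul_zero, Matrix.zero_mul, add_zero, zero_add, Matrix.mul_one, Matrix.mul_neg,
    Matrix.neg_mul, transpose_zero, transpose_one, Matrix.one_mul, hS, neg_zero,
    add_neg_cancel]

theorem nMat_mul (S S' : Matrix (Fin m) (Fin m) F) : nMat S * nMat S' = nMat (S + S') := by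
  unfold nMat
  rw [fromBlocks_multiply]
  simp only [Matrix.mul_zero, Matrix.zero_mul, add_zero, zero_add, Matrix.mul_one, Matrix.one_mul]
  rw [add_comm]

theorem dMat_mul_nMat (X Y S : Matrix (Fin m) (Fin m) F) (h : X * Y = 1) :
    dMat X Y * nMat S = nMat (X * S * Xᵀ) * dMat X Y := by
  unfold dMat nMat
  rw [fromBlocks_multiply, fromBlocks_multiply]
  simp only [Matrix.mul_zero, Matrix.zero_mul, add_zero, zero_add, Matrix.mul_one, Matrix.one_mul]
  have h' : Xᵀ * Yᵀ = 1 := by
    rw [← transpose_mul, mul_eq_one_comm.mp h, transpose_one]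
  rw [Matrix.mul_assoc (X * S), h', Matrix.mul_one]

end Blocks

section Grp
open Matrix Cfsg.Agent.Helper13
variable {F : Type*} [Field F] {m : ℕ}

theorem delta_symm (X S : Matrix (Fin m) (Fin m) F) (hS : Sᵀ = S) :
    (X * S * Xᵀ - S)ᵀ = X * S * Xᵀ - S := by
  rw [transpose_sub, transpose_mul, transpose_mul, transpose_transpose, hS, Matrix.mul_assoc]

/-- the key commutator: `n(X S Xᵀ - S) = [d(X), n(S)]` lies in the commutator subgroup -/
theorem nMat_delta_mem (X Y S : Matrix (Fin m) (Fin m) F) (h : X * Y = 1) (hS : Sᵀ = S)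
    (A : Matrix.symplecticGroup (Fin m) F) (hA : A.val = nMat (X * S * Xᵀ - S)) :
    A ∈ commutator (Matrix.symplecticGroup (Fin m) F) := by
  let d : Matrix.symplecticGroup (Fin m) F := ⟨dMat X Y, dMat_mem X Y h⟩
  let n : Matrix.symplecticGroup (Fin m) F := ⟨nMat S, nMat_mem S hS⟩
  have key : A * n * d = d * n := by
    apply Subtype.ext
    simp only [Submonoid.coe_mul]
    show A.val * nMat S * dMat X Y = dMat X Y * nMat S
    rw [hA, nMat_mul, sub_add_cancel, dMat_mul_nMat X Y S h]
  have hA' : A = d * n * d⁻¹ * n⁻¹ := by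
    rw [eq_mul_inv_iff_mul_eq, eq_mul_inv_iff_mul_eq]
    exact key
  have hmem := Subgroup.commutator_mem_commutator (Subgroup.mem_top d) (Subgroup.mem_top n)
  rw [commutatorElement_def] at hmem
  rw [hA', commutator_def]
  exact hmem

/-- the product of two elements `n(S)`, `n(S')` at the group level -/
theorem nMat_sub_mem (S S' : Matrix (Fin m) (Fin m) F)
    (A B C : Matrix.symplecticGroup (Fin m) F) (hA : A.val = nMat S) (hB : B.val = nMat S')
    (hC : C.val = nMat (S - S'))
    (hAm : A ∈ commutator (Matrix.symplecticGroup (Fin m) F))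
    (hBm : B ∈ commutator (Matrix.symplecticGroup (Fin m) F)) :
    C ∈ commutator (Matrix.symplecticGroup (Fin m) F) := by
  have : C = A * B⁻¹ := by
    rw [eq_mul_inv_iff_mul_eq]
    apply Subtype.ext
    simp only [Submonoid.coe_mul]
    rw [hA, hB, hC, nMat_mul, sub_add_cancel]
  rw [this]
  exact Subgroup.mul_mem _ hAm (Subgroup.inv_mem _ hBm)

end Grp

section Units
open Matrix
variable {F : Type*} [Field F] {m : ℕ}

/-- matrix unit -/
abbrev E (a b : Fin m) : Matrix (Fin m) (Fin m) F := Matrix.single a b (1 : F)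

theorem E_mul_same (a b c : Fin m) : (E a b : Matrix (Fin m) (Fin m) F) * E b c = E a c := by
  unfold E
  rw [single_mul_single_same, mul_one]

theorem E_mul_ne (a b c d : Fin m) (h : b ≠ c) :
    (E a b : Matrix (Fin m) (Fin m) F) * E c d = 0 := by
  unfold E
  rw [single_mul_single_of_ne _ _ _ _ h]

theorem E_transpose (a b : Fin m) : (E a b : Matrix (Fin m) (Fin m) F)ᵀ = E b a := by
  unfold E
  rw [transpose_single]

theorem X_mul_Y (a b : Fin m) (hab : a ≠ b) :
    (1 + E a b : Matrix (Fin m) (Fin m) F) * (1 - E a b) = 1 := by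
  rw [mul_sub, mul_one, add_mul, one_mul, E_mul_ne a b a b hab.symm]
  abel

theorem delta_eq (a b : Fin m) (S : Matrix (Fin m) (Fin m) F) :
    (1 + E a b : Matrix (Fin m) (Fin m) F) * S * (1 + E a b)ᵀ - S
      = E a b * S + S * E b a + E a b * S * E b a := by
  rw [transpose_add, transpose_one, E_transpose]
  noncomm_ring

/-- case `2 ≠ 0`-style: `Δ(s(E_ab + E_ba)) = (2 s) E_aa` -/
theorem delta_case2 (a b : Fin m) (hab : a ≠ b) (s : F) :
    (1 + E a b : Matrix (Fin m) (Fin m) F) * (s • (E a b + E b a)) * (1 + E a b)ᵀ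
      - s • (E a b + E b a) = (2 * s) • E a a := by
  rw [delta_eq]
  simp only [mul_smul_comm, smul_mul_assoc, mul_add, add_mul, E_mul_same, E_mul_ne a b a b hab.symm,
    E_mul_ne b a b a hab, E_mul_ne a a b a hab, zero_add, add_zero, smul_zero]
  rw [← add_smul]
  congr 1
  ring

theorem delta_case3a (a b : Fin m) (s : F) :
    (1 + E a b : Matrix (Fin m) (Fin m) F) * (s • E b b) * (1 + E a b)ᵀ - s • E b b
      = s • (E a b + E b a + E a a) := by
  rw [delta_eq]
  simp only [mul_smul_comm, smul_mul_assoc, E_mul_same, smul_add]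

theorem delta_case3b (a b c : Fin m) (hbc : b ≠ c) (s : F) :
    (1 + E a c : Matrix (Fin m) (Fin m) F) * (s • (E c b + E b c)) * (1 + E a c)ᵀ
      - s • (E c b + E b c) = s • (E a b + E b a) := by
  rw [delta_eq]
  simp only [mul_smul_comm, smul_mul_assoc, mul_add, add_mul, E_mul_same, E_mul_ne a c b c hbc.symm,
    E_mul_ne c b c a hbc, E_mul_ne a b c a hbc, zero_add, add_zero, smul_zero, smul_add]

theorem symm_E_add (a b : Fin m) (s : F) :
    (s • (E a b + E b a : Matrix (Fin m) (Fin m) F))ᵀ = s • (E a b + E b a) := by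
  rw [transpose_smul, transpose_add, E_transpose, E_transpose, add_comm]

theorem symm_E_self (a : Fin m) (s : F) :
    (s • (E a a : Matrix (Fin m) (Fin m) F))ᵀ = s • E a a := by
  rw [transpose_smul, E_transpose]

end Units

section Cases
open Matrix Cfsg.Agent.Helper13
variable {F : Type*} [Field F] {m : ℕ}

/-- the property: all `n(c E_ii)` lie in the commutator subgroup -/
def RootInComm (F : Type*) [Field F] (m : ℕ) (i : Fin m) : Prop :=
  ∀ (c : F) (A : Matrix.symplecticGroup (Fin m) F), A.val = nMat (c • E i i) →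
    A ∈ commutator (Matrix.symplecticGroup (Fin m) F)

theorem rootInComm_case1 (i : Fin m) (a : F) (ha0 : a ≠ 0) (ha1 : a * a ≠ 1) :
    RootInComm F m i := by
  intro c A hA
  have hd : a * a - 1 ≠ 0 := sub_ne_zero.mpr ha1
  set s : F := c / (a * a - 1) with hs
  have hXY : (1 + (a - 1) • E i i : Matrix (Fin m) (Fin m) F) * (1 + (a⁻¹ - 1) • E i i) = 1 := by
    simp only [mul_add, add_mul, one_mul, mul_one, mul_smul_comm, smul_mul_assoc, E_mul_same]
    have : (a - 1) + (a⁻¹ - 1) * a = 0 := by
      field_simp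
      ring
    trans (1 : Matrix (Fin m) (Fin m) F) + ((a - 1) + (a⁻¹ - 1) * a) • E i i
    · module
    · rw [this, zero_smul, add_zero]
  have hdelta : (1 + (a - 1) • E i i : Matrix (Fin m) (Fin m) F) * (s • E i i)
      * (1 + (a - 1) • E i i)ᵀ - s • E i i = c • E i i := by
    rw [transpose_add, transpose_one, transpose_smul, E_transpose]
    simp only [mul_add, add_mul, one_mul, mul_one, mul_smul_comm, smul_mul_assoc, E_mul_same,
      smul_smul]
    trans ((s + (a - 1) * s) * a - s) • (E i i : Matrix (Fin m) (Fin m) F)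
    · module
    · congr 1
      have hs' : s * (a * a - 1) = c := by rw [hs, div_mul_cancel₀ _ hd]
      linear_combination hs'
  apply nMat_delta_mem _ _ (s • E i i) hXY (symm_E_self i s) A
  rw [hA, hdelta]

theorem rootInComm_case2 (a b : Fin m) (hab : a ≠ b) (h2 : (2 : F) ≠ 0) :
    RootInComm F m a := by
  intro c A hA
  apply nMat_delta_mem _ _ ((c / 2) • (E a b + E b a)) (X_mul_Y a b hab) (symm_E_add a b _) A
  rw [hA, delta_case2 a b hab]
  congr 2
  field_simp

theorem rootInComm_case3 (a b c : Fin m) (hab : a ≠ b) (hac : a ≠ c) (hbc : b ≠ c) :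
    RootInComm F m a := by
  intro s A hA
  have hsymm1 : (s • (E a b + E b a + E a a : Matrix (Fin m) (Fin m) F))ᵀ
      = s • (E a b + E b a + E a a) := by
    rw [transpose_smul, transpose_add, transpose_add, E_transpose, E_transpose, E_transpose,
      add_comm (E b a)]
  let A1 : Matrix.symplecticGroup (Fin m) F :=
    ⟨nMat (s • (E a b + E b a + E a a)), nMat_mem _ hsymm1⟩
  let B1 : Matrix.symplecticGroup (Fin m) F :=
    ⟨nMat (s • (E a b + E b a)), nMat_mem _ (symm_E_add a b s)⟩
  have hA1 : A1 ∈ commutator (Matrix.symplecticGroup (Fin m) F) := by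
    apply nMat_delta_mem _ _ (s • E b b) (X_mul_Y a b hab) (symm_E_self b s) A1
    show nMat _ = nMat _
    rw [delta_case3a a b]
  have hB1 : B1 ∈ commutator (Matrix.symplecticGroup (Fin m) F) := by
    apply nMat_delta_mem _ _ (s • (E c b + E b c)) (X_mul_Y a c hac) (symm_E_add c b s) B1
    show nMat _ = nMat _
    rw [delta_case3b a b c hbc]
  apply nMat_sub_mem _ _ A1 B1 A rfl rfl _ hA1 hB1
  rw [hA]
  congr 1
  rw [← smul_sub, add_sub_cancel_left]

end Cases

section Final
open Matrix Cfsg.Agent.Helper13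
variable {F : Type*} [Field F] {m : ℕ}

theorem J_mulVec_single_inl (i : Fin m) :
    Matrix.J (Fin m) F *ᵥ (Pi.single (Sum.inl i) 1) = Pi.single (Sum.inr i) 1 := by
  rw [Matrix.mulVec_single_one]
  ext (k | k)
  · simp [Matrix.J]
  · simp [Matrix.J, Matrix.one_apply, Pi.single_apply]

theorem transv_eq_nMat (i : Fin m) (c : F) :
    Cfsg.sympTransvection m (Pi.single (Sum.inl i) (1 : F)) c = nMat (c • E i i) := by
  unfold Cfsg.sympTransvection nMat
  rw [J_mulVec_single_inl, ← Matrix.single_eq_single_vecMulVec_single]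
  ext (a | a) (b | b)
  · simp [Matrix.single_apply, Matrix.one_apply]
  · simp [Matrix.single_apply, Matrix.one_apply]
  · simp [Matrix.single_apply, Matrix.one_apply]
  · simp [Matrix.single_apply, Matrix.one_apply]

theorem conj_sympT (B : Matrix.symplecticGroup (Fin m) F) (w : Fin m ⊕ Fin m → F) (c : F) :
    B * sympT w c = sympT (B.val *ᵥ w) c * B := by
  apply Subtype.ext
  simp only [Submonoid.coe_mul]
  rw [Matrix.ext_iff_mulVec]
  intro x
  rw [← Matrix.mulVec_mulVec, ← Matrix.mulVec_mulVec]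
  show B.val *ᵥ (Cfsg.sympTransvection m w c *ᵥ x)
    = Cfsg.sympTransvection m (B.val *ᵥ w) c *ᵥ (B.val *ᵥ x)
  rw [sympTransvection_mulVec, sympTransvection_mulVec, sympForm_mulVec B.2, Matrix.mulVec_add,
    Matrix.mulVec_smul]

theorem sympT_zero (c : F) : sympT (0 : Fin m ⊕ Fin m → F) c = 1 := by
  apply Subtype.ext
  show Cfsg.sympTransvection m 0 c = 1
  unfold Cfsg.sympTransvection
  rw [Matrix.zero_vecMulVec, smul_zero, add_zero]

theorem all_transv_mem (i : Fin m) (hroot : RootInComm F m i) (w : Fin m ⊕ Fin m → F) (c : F) :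
    sympT w c ∈ commutator (Matrix.symplecticGroup (Fin m) F) := by
  classical
  by_cases hw : w = 0
  · rw [hw, sympT_zero]
    exact one_mem _
  · have he : (Pi.single (Sum.inl i) 1 : Fin m ⊕ Fin m → F) ≠ 0 := by
      intro h
      have := congrFun h (Sum.inl i)
      simp at this
    obtain ⟨B, hB⟩ := exists_symp_map he hw
    have h1 : sympT (Pi.single (Sum.inl i) 1) c ∈ commutator (Matrix.symplecticGroup (Fin m) F) :=
      hroot c _ (transv_eq_nMat i c)
    have h2 := conj_sympT B (Pi.single (Sum.inl i) 1) c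
    rw [hB] at h2
    have h3 : sympT w c = B * sympT (Pi.single (Sum.inl i) 1) c * B⁻¹ := by
      rw [eq_mul_inv_iff_mul_eq, h2]
    rw [h3]
    have hn : (commutator (Matrix.symplecticGroup (Fin m) F)).Normal := by
      rw [commutator_def]
      infer_instance
    exact hn.conj_mem _ h1 B

theorem perfect_of_root (i : Fin m) (hroot : RootInComm F m i) :
    commutator (Matrix.symplecticGroup (Fin m) F) = ⊤ := by
  rw [eq_top_iff, ← Cfsg.Agent.S0765.result m, Subgroup.closure_le]
  rintro A ⟨w, c, hA⟩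
  have : A = sympT w c := Subtype.ext hA
  rw [this]
  exact all_transv_mem i hroot w c

theorem exists_good_scalar [Fintype F] (h4 : 4 ≤ Fintype.card F) :
    ∃ a : F, a ≠ 0 ∧ a * a ≠ 1 := by
  classical
  obtain ⟨a, ha⟩ : ∃ a : F, a ∉ ({0, 1, -1} : Finset F) := by
    by_contra hne
    simp only [not_exists, not_not] at hne
    have hsub : (Finset.univ : Finset F) ⊆ {0, 1, -1} := fun x _ => hne x
    have h1 := Finset.card_le_card hsub
    have h2 : ({0, 1, -1} : Finset F).card ≤ 3 := Finset.card_le_three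
    rw [Finset.card_univ] at h1
    omega
  simp only [Finset.mem_insert, Finset.mem_singleton, not_or] at ha
  refine ⟨a, ha.1, ?_⟩
  intro h
  have h2 : (a - 1) * (a + 1) = 0 := by linear_combination h
  rcases mul_eq_zero.mp h2 with h3 | h3
  · exact ha.2.1 (sub_eq_zero.mp h3)
  · exact ha.2.2 (eq_neg_of_add_eq_zero_left h3)

theorem main [Fintype F] (m : ℕ)
    (h : 3 ≤ m ∨ (m = 2 ∧ 3 ≤ Fintype.card F) ∨ 4 ≤ Fintype.card F) :
    commutator (Matrix.symplecticGroup (Fin m) F) = ⊤ := by
  have hcase1 : 1 ≤ m → 4 ≤ Fintype.card F →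
      commutator (Matrix.symplecticGroup (Fin m) F) = ⊤ := by
    intro hm h4
    obtain ⟨a, ha0, ha1⟩ := exists_good_scalar h4
    exact perfect_of_root ⟨0, by omega⟩ (rootInComm_case1 _ a ha0 ha1)
  rcases h with h3 | ⟨rfl, h3⟩ | h4
  · exact perfect_of_root ⟨0, by omega⟩
      (rootInComm_case3 ⟨0, by omega⟩ ⟨1, by omega⟩ ⟨2, by omega⟩
        (by simp [Fin.ext_iff]) (by simp [Fin.ext_iff]) (by simp [Fin.ext_iff]))
  · by_cases h4 : 4 ≤ Fintype.card F
    · exact hcase1 (by omega) h4
    · have hc : Fintype.card F = 3 := by omega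
      have h2 : (2 : F) ≠ 0 := by
        intro h2
        have : CharP F 2 := CharTwo.of_one_ne_zero_of_two_eq_zero one_ne_zero h2
        have hch : ringChar F = 2 := ringChar.eq F 2
        have := FiniteField.even_card_iff_char_two.mp hch
        omega
      exact perfect_of_root ⟨0, by omega⟩
        (rootInComm_case2 ⟨0, by omega⟩ ⟨1, by omega⟩ (by simp [Fin.ext_iff]) h2)
  · rcases Nat.eq_zero_or_pos m with rfl | hm
    · have : Subsingleton (Matrix.symplecticGroup (Fin 0) F) :=
        ⟨fun A B => Subtype.ext (Subsingleton.elim _ _)⟩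
      exact Subsingleton.elim _ _
    · exact hcase1 hm h4

end Final


/-- Sp_{2m}(q) is perfect except for Sp_2(2), Sp_2(3) and Sp_4(2): stated as m at least 3, or m = 2 and q at least 3, or q at least 4. -/
theorem result {F : Type*} [Field F] [Fintype F] (m : ℕ) (h : 3 ≤ m ∨ (m = 2 ∧ 3 ≤ Fintype.card F) ∨ 4 ≤ Fintype.card F) : commutator (Matrix.symplecticGroup (Fin m) F) = ⊤ := by
  exact main m h

end Cfsg.Agent.S0269
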