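import Cfsg.Statements.S0768
import Mathlib
import Cfsg.Agent.Lib.Helper13.SympGeom

set_option autoImplicit false
open scoped LinearAlgebra.Projectivization
open Cfsg

namespace Cfsg.Agent.S0768

open Matrix Cfsg.Agent.Helper13
open scoped Pointwise

variable {F : Type*} [Field F] {m : ℕ}

theorem smul_mk' (A : Matrix.symplecticGroup (Fin m) F) (u : Fin m ⊕ Fin m → F) (hu : u ≠ 0)
    (hAu : A.val *ᵥ u ≠ 0) :
    (toSpGL A) • Projectivization.mk F u hu = Projectivization.mk F (A.val *ᵥ u) hAu := by
  rw [Subgroup.smul_def, Projectivization.smul_mk]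
  rfl

theorem pretrans : MulAction.IsPretransitive ↥(Cfsg.spGL m F) (ℙ F (Fin m ⊕ Fin m → F)) := by
  constructor
  intro x y
  induction x using Projectivization.ind with
  | h u hu =>
  induction y using Projectivization.ind with
  | h u' hu' =>
  obtain ⟨A, hA⟩ := exists_symp_map hu hu'
  refine ⟨toSpGL A, ?_⟩
  rw [smul_mk' A u hu (by rw [hA]; exact hu')]
  simp only [hA]

theorem block_nonorth {B : Set (ℙ F (Fin m ⊕ Fin m → F))}
    (hB : MulAction.IsBlock ↥(Cfsg.spGL m F) B)
    {x y z : Fin m ⊕ Fin m → F} (hx : x ≠ 0) (hy : y ≠ 0) (hz : z ≠ 0)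
    (hxB : Projectivization.mk F x hx ∈ B) (hyB : Projectivization.mk F y hy ∈ B)
    (hxy : Cfsg.sympForm m F x y ≠ 0) (hxz : Cfsg.sympForm m F x z ≠ 0) :
    Projectivization.mk F z hz ∈ B := by
  obtain ⟨A, hAx, c, hc, hAy⟩ := exists_symp_fix_nonorth hxy hxz
  rw [MulAction.isBlock_iff_smul_eq_of_mem] at hB
  have h1 : toSpGL A • Projectivization.mk F x hx = Projectivization.mk F x hx := by
    rw [smul_mk' A x hx (by rw [hAx]; exact hx)]
    simp only [hAx]
  have h2 : toSpGL A • Projectivization.mk F y hy = Projectivization.mk F z hz := by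
    rw [smul_mk' A y hy (by rw [hAy]; exact smul_ne_zero hc hz)]
    rw [Projectivization.mk_eq_mk_iff']
    exact ⟨c, hAy.symm⟩
  have h3 := hB (g := toSpGL A) hxB (by rw [h1]; exact hxB)
  rw [← h3, ← h2]
  exact Set.smul_mem_smul_set hyB

theorem block_orth {B : Set (ℙ F (Fin m ⊕ Fin m → F))}
    (hB : MulAction.IsBlock ↥(Cfsg.spGL m F) B)
    {x y z : Fin m ⊕ Fin m → F} (hx : x ≠ 0) (hy : y ≠ 0) (hz : z ≠ 0)
    (hxB : Projectivization.mk F x hx ∈ B) (hyB : Projectivization.mk F y hy ∈ B)
    (hind : ∀ a : F, x ≠ a • y) (hind' : ∀ a : F, x ≠ a • z)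
    (hxy : Cfsg.sympForm m F x y = 0) (hxz : Cfsg.sympForm m F x z = 0) :
    Projectivization.mk F z hz ∈ B := by
  obtain ⟨A, hAx, hAy⟩ := exists_symp_fix_orth hy hz hind hind' hxy hxz
  rw [MulAction.isBlock_iff_smul_eq_of_mem] at hB
  have h1 : toSpGL A • Projectivization.mk F x hx = Projectivization.mk F x hx := by
    rw [smul_mk' A x hx (by rw [hAx]; exact hx)]
    simp only [hAx]
  have h2 : toSpGL A • Projectivization.mk F y hy = Projectivization.mk F z hz := by
    rw [smul_mk' A y hy (by rw [hAy]; exact hz)]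
    simp only [hAy]
  have h3 := hB (g := toSpGL A) hxB (by rw [h1]; exact hxB)
  rw [← h3, ← h2]
  exact Set.smul_mem_smul_set hyB

theorem exists_common {x z : Fin m ⊕ Fin m → F} (hx : x ≠ 0) (hz : z ≠ 0) :
    ∃ t, Cfsg.sympForm m F x t ≠ 0 ∧ Cfsg.sympForm m F z t ≠ 0 := by
  obtain ⟨p, hp⟩ := exists_partner hx
  obtain ⟨q, hq⟩ := exists_partner hz
  by_cases h1 : Cfsg.sympForm m F z p = 0
  · by_cases h2 : Cfsg.sympForm m F x q = 0
    · refine ⟨p + q, ?_, ?_⟩
      · rw [sympForm_add_right, hp, h2, add_zero]; exact one_ne_zero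
      · rw [sympForm_add_right, hq, h1, zero_add]; exact one_ne_zero
    · exact ⟨q, h2, by rw [hq]; exact one_ne_zero⟩
  · exact ⟨p, by rw [hp]; exact one_ne_zero, h1⟩

/-- Primitivity: for m ≥ 1 and F finite, the symplectic group of the form sympForm (as a subgroup of the general linear group) acts primitively on the projective space of F^(2m). -/
theorem result {F : Type*} [Field F] [Finite F] (m : ℕ) (hm : 1 ≤ m) : MulAction.IsPreprimitive ↥(Cfsg.spGL m F) (ℙ F (Fin m ⊕ Fin m → F)) := by
  have : MulAction.IsPretransitive ↥(Cfsg.spGL m F) (ℙ F (Fin m ⊕ Fin m → F)) := pretrans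
  apply MulAction.IsPreprimitive.mk
  intro B hB
  rcases B.subsingleton_or_nontrivial with h | h
  · left; exact h
  · right
    obtain ⟨a, ha, b, hb, hab⟩ := h
    induction a using Projectivization.ind with
    | h x hx =>
    induction b using Projectivization.ind with
    | h y hy =>
    have key : ∃ (x' y' : Fin m ⊕ Fin m → F) (hx' : x' ≠ 0) (hy' : y' ≠ 0),
        Projectivization.mk F x' hx' ∈ B ∧ Projectivization.mk F y' hy' ∈ B ∧
          Cfsg.sympForm m F x' y' ≠ 0 := by
      by_cases hxy : Cfsg.sympForm m F x y = 0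
      · have hind : ∀ a : F, x ≠ a • y := by
          intro a hxa
          apply hab
          rw [Projectivization.mk_eq_mk_iff']
          exact ⟨a, hxa.symm⟩
        have hind2 : ∀ a : F, y ≠ a • x := by
          intro a hya
          apply hab
          symm
          rw [Projectivization.mk_eq_mk_iff']
          exact ⟨a, hya.symm⟩
        obtain ⟨z, hz1, hz2⟩ := exists_sep hy hind
        have hz : z ≠ 0 := by
          rintro rfl
          rw [sympForm_zero_right] at hz1
          exact zero_ne_one hz1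
        have hind3 : ∀ a : F, y ≠ a • z := by
          intro a hya
          have h0 : Cfsg.sympForm m F x y = a := by
            rw [hya, sympForm_smul_right, hz1, mul_one]
          rw [hxy] at h0
          rw [← h0, zero_smul] at hya
          exact hy hya
        have hzB : Projectivization.mk F z hz ∈ B :=
          block_orth hB hy hx hz hb ha hind2 hind3 (by rw [sympForm_swap, hxy, neg_zero]) hz2
        exact ⟨x, z, hx, hz, ha, hzB, by rw [hz1]; exact one_ne_zero⟩
      · exact ⟨x, y, hx, hy, ha, hb, hxy⟩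
    obtain ⟨x', y', hx', hy', hx'B, hy'B, hx'y'⟩ := key
    rw [← Set.top_eq_univ, eq_top_iff]
    intro c _
    induction c using Projectivization.ind with
    | h z hz =>
    by_cases hxz : Cfsg.sympForm m F x' z = 0
    · obtain ⟨t, ht1, ht2⟩ := exists_common hx' hz
      have ht : t ≠ 0 := by
        rintro rfl
        rw [sympForm_zero_right] at ht1
        exact ht1 rfl
      have htB : Projectivization.mk F t ht ∈ B :=
        block_nonorth hB hx' hy' ht hx'B hy'B hx'y' ht1
      refine block_nonorth hB ht hx' hz htB hx'B ?_ ?_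
      · rw [sympForm_swap]; exact neg_ne_zero.mpr ht1
      · rw [sympForm_swap]; exact neg_ne_zero.mpr ht2
    · exact block_nonorth hB hx' hy' hz hx'B hy'B hx'y' hxz

end Cfsg.Agent.S0768
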