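import Cfsg.Statements.S0270
import Mathlib
import Cfsg.Agent.S0269
import Cfsg.Agent.S0768

set_option autoImplicit false
open Cfsg

namespace Cfsg.Agent.S0270

section Transport
open Matrix Cfsg.Agent.Helper13
open scoped LinearAlgebra.Projectivization
variable {F : Type*} [Field F] {m : ℕ}

/-- group hom `Sp → spGL` -/
noncomputable def toSp : Matrix.symplecticGroup (Fin m) F →* Cfsg.spGL m F where
  toFun := toSpGL
  map_one' := by
    apply Subtype.ext
    apply Units.ext
    rfl
  map_mul' A B := by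
    apply Subtype.ext
    apply Units.ext
    rfl

theorem sympForm_mulVec_eq (A : Matrix (Fin m ⊕ Fin m) (Fin m ⊕ Fin m) F)
    (u v : Fin m ⊕ Fin m → F) :
    Cfsg.sympForm m F (A *ᵥ u) (A *ᵥ v) = u ⬝ᵥ ((Aᵀ * Matrix.J (Fin m) F * A) *ᵥ v) := by
  unfold Cfsg.sympForm
  rw [← Matrix.mulVec_mulVec, ← Matrix.mulVec_mulVec, dotProduct_comm, Matrix.dotProduct_mulVec,
    dotProduct_comm, Matrix.mulVec_transpose]

theorem mem_symplectic_of_preserves (A : Matrix (Fin m ⊕ Fin m) (Fin m ⊕ Fin m) F)
    (h : ∀ u v, Cfsg.sympForm m F (A *ᵥ u) (A *ᵥ v) = Cfsg.sympForm m F u v) :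
    A ∈ Matrix.symplecticGroup (Fin m) F := by
  rw [SymplecticGroup.mem_iff']
  ext i j
  have := h (Pi.single i 1) (Pi.single j 1)
  rw [sympForm_mulVec_eq] at this
  unfold Cfsg.sympForm at this
  simpa only [Matrix.mulVec_single_one, single_one_dotProduct, Matrix.col_apply] using this

theorem toSp_surjective : Function.Surjective (toSp (F := F) (m := m)) := by
  intro g
  have hmem : (g.val : Matrix (Fin m ⊕ Fin m) (Fin m ⊕ Fin m) F) ∈
      Matrix.symplecticGroup (Fin m) F := mem_symplectic_of_preserves _ g.2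
  refine ⟨⟨_, hmem⟩, ?_⟩
  apply Subtype.ext
  apply Units.ext
  rfl

/-- the action of `Sp` on projective space, through `spGL` -/
noncomputable instance spAction :
    MulAction (Matrix.symplecticGroup (Fin m) F) (ℙ F (Fin m ⊕ Fin m → F)) :=
  MulAction.compHom _ (toSp (F := F) (m := m))

theorem sp_smul_def (A : Matrix.symplecticGroup (Fin m) F) (p : ℙ F (Fin m ⊕ Fin m → F)) :
    A • p = toSp A • p := rfl

theorem sp_smul_mk (A : Matrix.symplecticGroup (Fin m) F) (u : Fin m ⊕ Fin m → F) (hu : u ≠ 0)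
    (hAu : A.val *ᵥ u ≠ 0) :
    A • Projectivization.mk F u hu = Projectivization.mk F (A.val *ᵥ u) hAu := by
  rw [sp_smul_def]
  exact Cfsg.Agent.S0768.smul_mk' A u hu hAu

theorem mulVec_ne_zero (A : Matrix.symplecticGroup (Fin m) F) {u : Fin m ⊕ Fin m → F}
    (hu : u ≠ 0) : A.val *ᵥ u ≠ 0 := by
  intro h
  apply hu
  have := inv_mulVec_mulVec A u
  rw [h, Matrix.mulVec_zero] at this
  exact this.symm

theorem sp_preprimitive [Finite F] (hm : 1 ≤ m) :
    MulAction.IsPreprimitive (Matrix.symplecticGroup (Fin m) F) (ℙ F (Fin m ⊕ Fin m → F)) := by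
  have h := Cfsg.Agent.S0768.result (F := F) m hm
  let f : ℙ F (Fin m ⊕ Fin m → F) →ₑ[⇑(toSp (F := F) (m := m))] ℙ F (Fin m ⊕ Fin m → F) :=
    { toFun := id
      map_smul' := fun g x => rfl }
  exact (MulAction.isPreprimitive_congr (f := f) toSp_surjective Function.bijective_id).mpr h

end Transport

section Root
open Matrix Cfsg.Agent.Helper13 Cfsg.Agent.S0269
open scoped LinearAlgebra.Projectivization Pointwise
variable {F : Type*} [Field F] {m : ℕ}

theorem sympT_ext {A B : Matrix.symplecticGroup (Fin m) F}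
    (h : ∀ x, A.val *ᵥ x = B.val *ᵥ x) : A = B := by
  apply Subtype.ext
  rw [Matrix.ext_iff_mulVec]
  exact h

theorem sympT_mulVec (v : Fin m ⊕ Fin m → F) (c : F) (x : Fin m ⊕ Fin m → F) :
    (sympT v c).val *ᵥ x = x + (c * Cfsg.sympForm m F x v) • v :=
  sympTransvection_mulVec v c x

theorem sympT_add (v : Fin m ⊕ Fin m → F) (c d : F) :
    sympT v c * sympT v d = sympT v (c + d) := by
  apply sympT_ext
  intro x
  rw [Submonoid.coe_mul, ← Matrix.mulVec_mulVec, sympT_mulVec, sympT_mulVec, sympT_mulVec,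
    sympForm_add_left, sympForm_smul_left, sympForm_self, mul_zero, add_zero, add_assoc, ← add_smul]
  congr 2
  ring

theorem sympT_zero_right (v : Fin m ⊕ Fin m → F) : sympT v (0 : F) = 1 := by
  apply sympT_ext
  intro x
  rw [sympT_mulVec, zero_mul, zero_smul, add_zero, Submonoid.coe_one, Matrix.one_mulVec]

theorem sympT_smul (a : F) (v : Fin m ⊕ Fin m → F) (c : F) :
    sympT (a • v) c = sympT v (a * a * c) := by
  apply sympT_ext
  intro x
  rw [sympT_mulVec, sympT_mulVec, sympForm_smul_right, smul_smul]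
  congr 2
  ring

/-- the root subgroup `{T_v(c)}` -/
def rootGroup (v : Fin m ⊕ Fin m → F) : Subgroup (Matrix.symplecticGroup (Fin m) F) where
  carrier := {A | ∃ c : F, A = sympT v c}
  one_mem' := ⟨0, (sympT_zero_right v).symm⟩
  mul_mem' := by
    rintro _ _ ⟨c, rfl⟩ ⟨d, rfl⟩
    exact ⟨c + d, sympT_add v c d⟩
  inv_mem' := by
    rintro _ ⟨c, rfl⟩
    refine ⟨-c, ?_⟩
    rw [inv_eq_iff_mul_eq_one, sympT_add, add_neg_cancel, sympT_zero_right]

theorem mem_rootGroup (v : Fin m ⊕ Fin m → F) (A : Matrix.symplecticGroup (Fin m) F) :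
    A ∈ rootGroup v ↔ ∃ c : F, A = sympT v c := Iff.rfl

theorem rootGroup_comm (v : Fin m ⊕ Fin m → F) : IsMulCommutative (rootGroup v) := by
  refine ⟨⟨?_⟩⟩
  rintro ⟨_, c, rfl⟩ ⟨_, d, rfl⟩
  apply Subtype.ext
  show sympT v c * sympT v d = sympT v d * sympT v c
  rw [sympT_add, sympT_add, add_comm]

theorem rootGroup_smul (a : F) (ha : a ≠ 0) (v : Fin m ⊕ Fin m → F) :
    rootGroup (a • v) = rootGroup v := by
  ext A
  rw [mem_rootGroup, mem_rootGroup]
  constructor
  · rintro ⟨c, rfl⟩
    exact ⟨a * a * c, sympT_smul a v c⟩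
  · rintro ⟨c, rfl⟩
    refine ⟨c / (a * a), ?_⟩
    rw [sympT_smul]
    congr 1
    field_simp

theorem rootGroup_conj (g : Matrix.symplecticGroup (Fin m) F) (v : Fin m ⊕ Fin m → F) :
    rootGroup (g.val *ᵥ v) = MulAut.conj g • rootGroup v := by
  ext A
  rw [Subgroup.mem_smul_pointwise_iff_exists, mem_rootGroup]
  constructor
  · rintro ⟨c, rfl⟩
    refine ⟨sympT v c, ⟨c, rfl⟩, ?_⟩
    rw [MulAut.smul_def, MulAut.conj_apply, conj_sympT, mul_inv_cancel_right]
  · rintro ⟨_, ⟨c, rfl⟩, rfl⟩
    refine ⟨c, ?_⟩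
    rw [MulAut.smul_def, MulAut.conj_apply, conj_sympT, mul_inv_cancel_right]

end Root

section Iwasawa
open Matrix Cfsg.Agent.Helper13 Cfsg.Agent.S0269
open scoped LinearAlgebra.Projectivization Pointwise
variable {F : Type*} [Field F] {m : ℕ}

theorem rootGroup_rep_mk (w : Fin m ⊕ Fin m → F) (hw : w ≠ 0) :
    rootGroup (Projectivization.mk F w hw).rep = rootGroup w := by
  have h := Projectivization.mk_rep (Projectivization.mk F w hw)
  obtain ⟨a, ha⟩ := (Projectivization.mk_eq_mk_iff' F _ _ _ _).mp h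
  have ha0 : a ≠ 0 := by
    rintro rfl
    rw [zero_smul] at ha
    exact (Projectivization.rep_nonzero _) ha.symm
  rw [← ha, rootGroup_smul a ha0]

/-- the Iwasawa structure on `Sp` -/
noncomputable def iwasawa :
    MulAction.IwasawaStructure (Matrix.symplecticGroup (Fin m) F) (ℙ F (Fin m ⊕ Fin m → F)) where
  T p := rootGroup p.rep
  is_comm p := rootGroup_comm _
  is_conj g p := by
    have hv := p.rep_nonzero
    have hgv := mulVec_ne_zero g hv
    have h1 : g • p = Projectivization.mk F (g.val *ᵥ p.rep) hgv := by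
      conv_lhs => rw [← Projectivization.mk_rep p]
      exact sp_smul_mk g _ hv hgv
    rw [h1, rootGroup_rep_mk, rootGroup_conj]
  is_generator := by
    rw [eq_top_iff, ← Cfsg.Agent.S0765.result m, Subgroup.closure_le]
    rintro A ⟨w, c, hA⟩
    have hAw : A = sympT w c := Subtype.ext hA
    rw [hAw]
    by_cases hw : w = 0
    · rw [hw, sympT_zero]
      exact one_mem _
    · apply Subgroup.mem_iSup_of_mem (Projectivization.mk F w hw)
      rw [rootGroup_rep_mk]
      exact ⟨c, rfl⟩

theorem le_center_of_fixes (N : Subgroup (Matrix.symplecticGroup (Fin m) F))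
    (h : MulAction.fixedPoints N (ℙ F (Fin m ⊕ Fin m → F)) = Set.univ) :
    N ≤ Subgroup.center (Matrix.symplecticGroup (Fin m) F) := by
  intro n hn
  have hfix : ∀ p : ℙ F (Fin m ⊕ Fin m → F), n • p = p := by
    intro p
    have hp : p ∈ MulAction.fixedPoints N (ℙ F (Fin m ⊕ Fin m → F)) := by rw [h]; trivial
    exact hp ⟨n, hn⟩
  have hscal : ∃ a : F, Matrix.toLin' n.val = a • 1 := by
    apply LinearMap.exists_eq_smul_id_of_forall_notLinearIndependent
    intro v
    by_cases hv : v = 0
    · rw [hv]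
      intro hli
      exact hli.ne_zero 0 rfl
    · rw [LinearIndependent.pair_iff' hv]
      simp only [not_forall, not_not]
      have h1 := hfix (Projectivization.mk F v hv)
      rw [sp_smul_mk n v hv (mulVec_ne_zero n hv), Projectivization.mk_eq_mk_iff'] at h1
      obtain ⟨a, ha⟩ := h1
      exact ⟨a, by rw [ha, Matrix.toLin'_apply]⟩
  obtain ⟨a, ha⟩ := hscal
  have hn' : ∀ x, n.val *ᵥ x = a • x := by
    intro x
    have := congrArg (fun f : (Fin m ⊕ Fin m → F) →ₗ[F] (Fin m ⊕ Fin m → F) => f x) ha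
    simpa only [Matrix.toLin'_apply, LinearMap.smul_apply, Module.End.one_apply] using this
  rw [Subgroup.mem_center_iff]
  intro A
  apply sympT_ext
  intro x
  rw [Submonoid.coe_mul, Submonoid.coe_mul, ← Matrix.mulVec_mulVec, ← Matrix.mulVec_mulVec, hn', hn',
    Matrix.mulVec_smul]

end Iwasawa

section Main
open Matrix Cfsg.Agent.Helper13 Cfsg.Agent.S0269
open scoped LinearAlgebra.Projectivization Pointwise

theorem simple_quot {G : Type*} [Group G] (x : G) (hx : x ∉ Subgroup.center G)
    (H : ∀ N : Subgroup G, N.Normal → N ≤ Subgroup.center G ∨ N = ⊤) :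
    IsSimpleGroup (G ⧸ Subgroup.center G) := by
  refine { exists_pair_ne := ⟨(x : G ⧸ Subgroup.center G), 1,
             fun h => hx ((QuotientGroup.eq_one_iff x).mp h)⟩,
           eq_bot_or_eq_top_of_normal := ?_ }
  intro K hK
  have hN : (K.comap (QuotientGroup.mk' (Subgroup.center G))).Normal := hK.comap _
  rcases H _ hN with h | h
  · left
    rw [eq_bot_iff]
    intro k hk
    obtain ⟨g, rfl⟩ := QuotientGroup.mk_surjective k
    have hg : g ∈ K.comap (QuotientGroup.mk' (Subgroup.center G)) := hk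
    rw [Subgroup.mem_bot, QuotientGroup.eq_one_iff]
    exact h hg
  · right
    rw [eq_top_iff]
    intro k _
    obtain ⟨g, rfl⟩ := QuotientGroup.mk_surjective k
    have hg : g ∈ K.comap (QuotientGroup.mk' (Subgroup.center G)) := by rw [h]; trivial
    exact hg

variable {F : Type*} [Field F] {m : ℕ}

theorem exists_noncentral (hm : 1 ≤ m)
    (hperf : commutator (Matrix.symplecticGroup (Fin m) F) = ⊤) :
    ∃ x : Matrix.symplecticGroup (Fin m) F, x ∉ Subgroup.center (Matrix.symplecticGroup (Fin m) F) := by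
  classical
  by_contra hall
  simp only [not_exists, not_not] at hall
  have hc : Subgroup.center (Matrix.symplecticGroup (Fin m) F) = ⊤ := by
    rw [eq_top_iff]
    intro x _
    exact hall x
  have hbot := (commutator_eq_bot_iff_center_eq_top _).mpr hc
  rw [hperf] at hbot
  -- the group is trivial, but a transvection is not
  let e : Fin m ⊕ Fin m → F := Pi.single (Sum.inl ⟨0, by omega⟩) 1
  have he : e ≠ 0 := by
    intro h
    have := congrFun h (Sum.inl ⟨0, by omega⟩)
    simp [e] at this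
  obtain ⟨x, hx⟩ := exists_partner he
  have h1 : sympT e 1 ∈ (⊤ : Subgroup (Matrix.symplecticGroup (Fin m) F)) := Subgroup.mem_top _
  rw [hbot, Subgroup.mem_bot] at h1
  have h2 := congrArg (fun A : Matrix.symplecticGroup (Fin m) F => A.val *ᵥ x) h1
  simp only [Submonoid.coe_one, Matrix.one_mulVec] at h2
  rw [sympT_mulVec, sympForm_swap, hx, one_mul, neg_smul, one_smul] at h2
  apply he
  have h3 : x + -e = x + 0 := by rw [h2, add_zero]
  have := add_left_cancel h3
  exact neg_eq_zero.mp this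

theorem main [Fintype F] (m : ℕ) (hm : 2 ≤ m) (h : m = 2 → 3 ≤ Fintype.card F) :
    IsSimpleGroup (Cfsg.PSp m F) := by
  have hperf : commutator (Matrix.symplecticGroup (Fin m) F) = ⊤ := by
    apply Cfsg.Agent.S0269.main m
    by_cases h3 : 3 ≤ m
    · exact Or.inl h3
    · have hm2 : m = 2 := by omega
      exact Or.inr (Or.inl ⟨hm2, h hm2⟩)
  obtain ⟨x, hx⟩ := exists_noncentral (by omega) hperf
  have hprim := sp_preprimitive (F := F) (m := m) (by omega)
  apply simple_quot x hx
  intro N hN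
  by_cases hfix : MulAction.fixedPoints N (ℙ F (Fin m ⊕ Fin m → F)) = Set.univ
  · exact Or.inl (le_center_of_fixes N hfix)
  · right
    have := (iwasawa (F := F) (m := m)).commutator_le N hfix
    rw [hperf] at this
    exact eq_top_iff.mpr this

end Main


/-- PSp_{2m}(q) is simple for m at least 2 and (m, q) other than (2, 2). -/
theorem result {F : Type*} [Field F] [Fintype F] (m : ℕ) (hm : 2 ≤ m) (h : m = 2 → 3 ≤ Fintype.card F) : IsSimpleGroup (Cfsg.PSp m F) := by
  exact main m hm h

end Cfsg.Agent.S0270
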