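import Cfsg.Statements.S2585
import Cfsg.Agent.Lib.Helper43.SpChar2

set_option autoImplicit false
open Cfsg

namespace Cfsg.Agent.S2585

open Matrix QuadraticMap Cfsg.Agent.Helper43

theorem sympForm_mulVec {F : Type*} [Field F] {m : ℕ} (A : Matrix (Fin m ⊕ Fin m) (Fin m ⊕ Fin m) F)
    (hA : A ∈ Matrix.symplecticGroup (Fin m) F) (x y : Fin m ⊕ Fin m → F) :
    Cfsg.sympForm m F (A.mulVec x) (A.mulVec y) = Cfsg.sympForm m F x y := by
  unfold Cfsg.sympForm
  have h := SymplecticGroup.mem_iff'.mp hA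
  have e : A *ᵥ x ⬝ᵥ (J (Fin m) F *ᵥ (A *ᵥ y)) = x ⬝ᵥ ((Aᵀ * J (Fin m) F * A) *ᵥ y) := by
    rw [← Matrix.vecMul_transpose, ← Matrix.dotProduct_mulVec, Matrix.mulVec_mulVec,
      Matrix.mulVec_mulVec, Matrix.mul_assoc]
  rw [e, h]

theorem sympForm_eq_sum {F : Type*} [Field F] {m : ℕ} (u v : Fin m ⊕ Fin m → F) :
    Cfsg.sympForm m F u v
      = ∑ i : Fin m, (u (Sum.inr i) * v (Sum.inl i) - u (Sum.inl i) * v (Sum.inr i)) := by
  unfold Cfsg.sympForm Matrix.J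
  rw [Matrix.fromBlocks_mulVec]
  simp only [dotProduct, Fintype.sum_sum_type, Sum.elim_inl, Sum.elim_inr, Matrix.zero_mulVec,
    Matrix.one_mulVec, Matrix.neg_mulVec, zero_add, add_zero, Pi.neg_apply,
    Function.comp_apply]
  rw [Finset.sum_sub_distrib, add_comm, sub_eq_add_neg, ← Finset.sum_neg_distrib]
  congr 1
  apply Finset.sum_congr rfl
  intro i _
  ring

theorem result {F : Type*} [Field F] [Fintype F] [CharP F 2] {m : ℕ} (A : Matrix.symplecticGroup (Fin m) F) : ∃ Q : QuadraticForm F (Fin m ⊕ Fin m → F), (∀ u v : Fin m ⊕ Fin m → F, QuadraticMap.polar ⇑Q u v = Cfsg.sympForm m F u v) ∧ ∀ v : Fin m ⊕ Fin m → F, Q ((A : Matrix (Fin m ⊕ Fin m) (Fin m ⊕ Fin m) F).mulVec v) = Q v := by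
  set Bs : LinearMap.BilinForm F (Fin m ⊕ Fin m → F) := Matrix.toBilin' (J (Fin m) F) with hBs
  have hBs' : ∀ u v, Bs u v = Cfsg.sympForm m F u v := by
    intro u v
    rw [hBs, Matrix.toBilin'_apply']
    rfl
  have hnd : Bs.Nondegenerate :=
    LinearMap.BilinForm.nondegenerate_toBilin'_of_det_ne_zero' _ (Matrix.isUnit_det_J (Fin m) F).ne_zero
  set B₀ : LinearMap.BilinForm F (Fin m ⊕ Fin m → F) :=
    Matrix.toBilin' (Matrix.fromBlocks (0 : Matrix (Fin m) (Fin m) F) (1 : Matrix (Fin m) (Fin m) F)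
      (0 : Matrix (Fin m) (Fin m) F) (0 : Matrix (Fin m) (Fin m) F)) with hB₀
  have hB₀' : ∀ u v, B₀ u v = ∑ i : Fin m, u (Sum.inl i) * v (Sum.inr i) := by
    intro u v
    rw [hB₀, Matrix.toBilin'_apply', Matrix.fromBlocks_mulVec]
    simp only [dotProduct, Fintype.sum_sum_type, Sum.elim_inl, Sum.elim_inr, Matrix.zero_mulVec,
      Matrix.one_mulVec, zero_add, add_zero, Pi.zero_apply, mul_zero, Finset.sum_const_zero,
      Function.comp_apply]
  have hQ₀ : ∀ u v, polar (LinearMap.BilinMap.toQuadraticMap B₀) u v = Bs u v := by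
    intro u v
    rw [LinearMap.BilinMap.polar_toQuadraticMap, hBs', sympForm_eq_sum, hB₀', hB₀',
      ← Finset.sum_add_distrib]
    apply Finset.sum_congr rfl
    intro i _
    rw [CharTwo.sub_eq_add]
    ring
  obtain ⟨Q, hQ1, hQ2⟩ := exists_invariant_quadratic Bs hnd (LinearMap.BilinMap.toQuadraticMap B₀) hQ₀
    (Matrix.toLin' (A : Matrix (Fin m ⊕ Fin m) (Fin m ⊕ Fin m) F)) (by
      intro u v
      rw [hBs', hBs', Matrix.toLin'_apply, Matrix.toLin'_apply]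
      exact sympForm_mulVec _ A.2 u v)
  refine ⟨Q, fun u v => by rw [hQ1, hBs'], fun v => ?_⟩
  have := hQ2 v
  rwa [Matrix.toLin'_apply] at this

end Cfsg.Agent.S2585
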