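import Cfsg.Statements.S0787
-- import your own Cfsg.Agent.* helpers here
import Mathlib
import Cfsg.Agent.Lib.Helper13.QuadMat
import Cfsg.Agent.Lib.Helper43.QuadWitt
import Cfsg.Agent.Lib.Helper43.AnisoPlane
import Cfsg.Agent.Lib.Helper43.SpinorNorm
import Cfsg.Agent.Lib.Helper44.CartanDieudonne
import Cfsg.Agent.Lib.Helper44.CDChar2
import Cfsg.Agent.Lib.Helper44.ReflParity
import Cfsg.Agent.S0792
import Cfsg.Agent.S0786
import Cfsg.Agent.S2635
import Cfsg.Agent.S0789

set_option autoImplicit false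
open Cfsg

namespace Cfsg.Agent.S0787

section prop

theorem p1 (su sv sa sb cuv cua cav cab cbv : Prop) (hsq : ¬ (su ↔ sv)) (hab : ¬ (sa ↔ sb))
    (hua : su ↔ sa) (e1 : cuv ↔ (cua ↔ cav)) (e2 : cav ↔ (cab ↔ cbv)) (e3 : cua)
    (hvb : sb ↔ sv) (e4 : cbv) : cuv ↔ ((su ↔ sv) ∨ cab) := by grind

theorem p2 (su sv sa sb cuv cub cbv cba cav cab : Prop) (hsq : ¬ (su ↔ sv)) (hab : ¬ (sa ↔ sb))
    (hua : ¬ (su ↔ sa)) (hub : su ↔ sb) (hva : sa ↔ sv) (e1 : cuv ↔ (cub ↔ cbv))
    (e2 : cbv ↔ (cba ↔ cav)) (e3 : cub) (e4 : cav) (e5 : cba ↔ cab) :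
    cuv ↔ ((su ↔ sv) ∨ cab) := by grind

theorem p3 (x cuv x' su sv sP κ : Prop) (h1 : x' ↔ (sP ∨ κ)) (h4 : cuv ↔ ((su ↔ sv) ∨ κ))
    (h6 : x ↔ (cuv ↔ x')) : x ↔ ((su ↔ (sv ↔ sP)) ∨ κ) := by grind

theorem p4 (su sv sa sb : Prop) (hsq : ¬ (su ↔ sv)) (hab : ¬ (sa ↔ sb)) (hua : su ↔ sa) :
    sb ↔ sv := by grind

theorem p5 (su sv sa sb : Prop) (hsq : ¬ (su ↔ sv)) (hab : ¬ (sa ↔ sb)) (hua : ¬ (su ↔ sa)) :
    (su ↔ sb) ∧ (sa ↔ sv) := by grind

end prop

section grp

variable {G : Type*} [Group G]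

theorem unique_of_le (K : Subgroup G) (hK : K.index = 2)
    (hU : ∀ H : Subgroup G, H.index = 2 → K ≤ H) : ∃! H : Subgroup G, H.index = 2 := by
  refine ⟨K, hK, fun H hH => ?_⟩
  have hle := hU H hH
  have h1 := Subgroup.relIndex_mul_index hle
  rw [hH, hK] at h1
  have h2 : K.relIndex H = 1 := by omega
  exact le_antisymm (Subgroup.relIndex_eq_one.mp h2) hle

theorem commutator_le_of_index_two (H : Subgroup G) (hH : H.index = 2) : commutator G ≤ H := by
  rw [commutator_def, Subgroup.commutator_le]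
  intro a _ b _
  rw [commutatorElement_def, Subgroup.mul_mem_iff_of_index_two hH,
    Subgroup.mul_mem_iff_of_index_two hH, Subgroup.mul_mem_iff_of_index_two hH,
    Subgroup.inv_mem_iff, Subgroup.inv_mem_iff]
  tauto

end grp

section aux

open Matrix QuadraticMap Cfsg.Agent.Helper44 Cfsg.Agent.Helper13 Cfsg.Agent.Helper43
  Cfsg.Agent.S0792 Cfsg.Agent.S0786 Cfsg.Agent.S2635

variable {F : Type*} [Field F] [Fintype F] {ι : Type} [Fintype ι] [DecidableEq ι]

theorem Omega_le_SO (Q : QuadraticForm F (ι → F)) :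
    Cfsg.Omega F (⇑Q) ≤ Cfsg.specialIsometryGroup F (⇑Q) :=
  Abelianization.commutator_subset_ker _

theorem mem_SO_iff (Q : QuadraticForm F (ι → F)) (g : ↥(Cfsg.isometryGroup F (⇑Q))) :
    g ∈ Cfsg.specialIsometryGroup F (⇑Q) ↔
      ((g : Matrix.GeneralLinearGroup ι F) : Matrix ι ι F).det = 1 := by
  unfold Cfsg.specialIsometryGroup
  rw [MonoidHom.mem_ker, MonoidHom.comp_apply]
  constructor
  · intro h
    have := congrArg Units.val h
    simpa using this
  · intro h
    apply Units.ext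
    rw [Matrix.GeneralLinearGroup.val_det_apply]
    exact h

/-- Characteristic two: the special isometry group is everything and `Ω` has index two. -/
theorem char2_case (h2 : (2 : F) = 0) (hn : 2 ≤ Fintype.card ι) (Q : QuadraticForm F (ι → F))
    (hQ : (polarBilin Q).Nondegenerate) (hexc : Fintype.card F ≠ 2 ∨ Fintype.card ι ≠ 4)
    (hidx : (Cfsg.Omega F (⇑Q)).index = 2) :
    ∃! H : Subgroup ↥(Cfsg.specialIsometryGroup F (⇑Q)), H.index = 2 := by
  have hneg : (-1 : F) = 1 := by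
    have : (1 : F) + 1 = 0 := by rw [one_add_one_eq_two]; exact h2
    exact neg_eq_of_add_eq_zero_left this
  have htop : Cfsg.specialIsometryGroup F (⇑Q) = ⊤ := by
    rw [eq_top_iff]
    intro g _
    rw [mem_SO_iff]
    obtain ⟨l, hl, hMl⟩ := matrix_cd_all Q hQ hexc
      ((g : Matrix.GeneralLinearGroup ι F) : Matrix ι ι F) (fun u => g.2 u u)
    rw [hMl, det_list_prod Q l hl, hneg, one_pow]
  apply unique_of_le ((Cfsg.Omega F (⇑Q)).subgroupOf (Cfsg.specialIsometryGroup F (⇑Q)))
  · show (Cfsg.Omega F (⇑Q)).relIndex (Cfsg.specialIsometryGroup F (⇑Q)) = 2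
    rw [htop, Subgroup.relIndex_top_right, hidx]
  · intro H hH
    have h1 : (H.map (Cfsg.specialIsometryGroup F (⇑Q)).subtype).index = 2 := by
      rw [Subgroup.index_map_subtype, hH, htop, Subgroup.index_top]
    have h3 := commutator_le_of_index_two _ h1
    intro x hx
    rw [Subgroup.mem_subgroupOf] at hx
    have h4 := h3 hx
    obtain ⟨y, hy, hyx⟩ := Subgroup.mem_map.mp h4
    have : y = x := Subtype.ext hyx
    rw [← this]
    exact hy

/-! ### Odd characteristic -/

theorem isSquare_mul_iff {x y : F} (hx : x ≠ 0) (hy : y ≠ 0) :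
    IsSquare (x * y) ↔ (IsSquare x ↔ IsSquare y) := by
  constructor
  · rintro ⟨r, hr⟩
    constructor
    · rintro ⟨s, rfl⟩
      have hs : s ≠ 0 := by
        rintro rfl
        simp at hx
      refine ⟨r / s, ?_⟩
      field_simp
      linear_combination hr
    · rintro ⟨s, rfl⟩
      have hs : s ≠ 0 := by
        rintro rfl
        simp at hy
      refine ⟨r / s, ?_⟩
      field_simp
      linear_combination hr
  · intro h
    by_cases hsx : IsSquare x
    · exact hsx.mul (h.mp hsx)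
    · exact isSquare_mul_of_not_isSquare hsx (fun hsy => hsx (h.mpr hsy))

theorem exists_Q_eq (hn : 2 ≤ Fintype.card ι) (Q : QuadraticForm F (ι → F))
    (hQ : (polarBilin Q).Nondegenerate) (c : F) (hc : c ≠ 0) : ∃ x, Q x = c := by
  have hQ' : (polarBilin (c⁻¹ • Q)).Nondegenerate := by
    rw [(polarBilin_isRefl _).nondegenerate_iff_separatingLeft]
    intro v hv
    apply hQ.1 v
    intro y
    have := hv y
    rw [polarBilin_apply_apply] at this ⊢
    have h' : polar (⇑(c⁻¹ • Q)) v y = c⁻¹ * polar (⇑Q) v y := by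
      unfold polar
      simp only [_root_.smul_apply, smul_eq_mul]
      ring
    rw [h'] at this
    rcases mul_eq_zero.mp this with h | h
    · exact absurd h (inv_ne_zero hc)
    · exact h
  obtain ⟨x, hx⟩ := exists_eq_one (c⁻¹ • Q) hQ'
    (by rw [Module.finrank_fintype_fun_eq_card]; exact hn)
  refine ⟨x, ?_⟩
  rw [_root_.smul_apply, smul_eq_mul] at hx
  field_simp at hx
  exact hx

theorem exists_nonsquare_pair (h2 : (2 : F) ≠ 0) (hn : 2 ≤ Fintype.card ι)
    (Q : QuadraticForm F (ι → F)) (hQ : (polarBilin Q).Nondegenerate) :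
    ∃ a b : ι → F, Q a ≠ 0 ∧ Q b ≠ 0 ∧ ¬ (IsSquare (Q a) ↔ IsSquare (Q b)) := by
  have hchar : ringChar F ≠ 2 := by
    intro h
    apply h2
    have := ringChar.Nat.cast_ringChar (R := F)
    rw [h] at this
    exact_mod_cast this
  obtain ⟨t, ht⟩ := FiniteField.exists_nonsquare hchar
  have ht0 : t ≠ 0 := by
    rintro rfl
    exact ht ⟨0, by simp⟩
  obtain ⟨a, ha⟩ := exists_Q_eq hn Q hQ 1 one_ne_zero
  obtain ⟨b, hb⟩ := exists_Q_eq hn Q hQ t ht0
  refine ⟨a, b, by rw [ha]; exact one_ne_zero, by rw [hb]; exact ht0, ?_⟩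
  rw [ha, hb]
  intro h
  exact ht (h.mp ⟨1, by simp⟩)

/-- The product of two reflections as an element of the special isometry group. -/
noncomputable def pairS (Q : QuadraticForm F (ι → F)) (u v : ι → F) (hu : Q u ≠ 0) (hv : Q v ≠ 0) :
    ↥(Cfsg.specialIsometryGroup F (⇑Q)) :=
  ⟨reflG Q u hu * reflG Q v hv, by
    rw [mem_SO_iff, Subgroup.coe_mul, Units.val_mul, coe_reflG, coe_reflG, Matrix.det_mul,
      det_refl Q u hu, det_refl Q v hv]
    ring⟩

theorem reflG_mul_self (Q : QuadraticForm F (ι → F)) (u : ι → F) (hu : Q u ≠ 0) :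
    reflG Q u hu * reflG Q u hu = 1 := by
  apply Subtype.ext
  apply Units.ext
  rw [Subgroup.coe_mul, Units.val_mul, coe_reflG, refl_mul_self Q u hu]
  rfl

theorem pairS_mul (Q : QuadraticForm F (ι → F)) (u v w : ι → F) (hu : Q u ≠ 0) (hv : Q v ≠ 0)
    (hw : Q w ≠ 0) : pairS Q u v hu hv * pairS Q v w hv hw = pairS Q u w hu hw := by
  apply Subtype.ext
  show reflG Q u hu * reflG Q v hv * (reflG Q v hv * reflG Q w hw) = reflG Q u hu * reflG Q w hw
  rw [mul_assoc, ← mul_assoc (reflG Q v hv), reflG_mul_self, one_mul]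

theorem pairS_self (Q : QuadraticForm F (ι → F)) (u : ι → F) (hu : Q u ≠ 0) :
    pairS Q u u hu hu = 1 := by
  apply Subtype.ext
  exact reflG_mul_self Q u hu

/-- A product of two reflections in vectors whose norms lie in the same square class is a
square in the special isometry group. -/
theorem pairS_eq_sq (h2 : (2 : F) ≠ 0) (Q : QuadraticForm F (ι → F)) (u v : ι → F)
    (hu : Q u ≠ 0) (hv : Q v ≠ 0) (hsq : IsSquare (Q u * Q v)) :
    ∃ (w : ι → F) (hw : Q w ≠ 0), pairS Q u v hu hv = pairS Q u w hu hw * pairS Q u w hu hw := by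
  obtain ⟨t, ht⟩ := hsq
  have ht0 : t ≠ 0 := by
    rintro rfl
    rw [mul_zero] at ht
    exact (mul_ne_zero hu hv) ht
  -- a multiple of v with the norm of u and not "opposite" to u
  obtain ⟨μ, hμ0, hμQ, hμne⟩ : ∃ μ : F, μ ≠ 0 ∧ Q (μ • v) = Q u ∧ Q (u - μ • v) ≠ 0 := by
    have hlam : Q ((Q u / t) • v) = Q u := by
      rw [QuadraticMap.map_smul, smul_eq_mul]
      have e : Q u / t * (Q u / t) * Q v = Q u * (Q u * Q v) / (t * t) := by
        field_simp
      rw [e, ht]
      field_simp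
    have hlam' : Q ((-(Q u / t)) • v) = Q u := by
      rw [neg_smul, QuadraticMap.map_neg, hlam]
    have hl0 : Q u / t ≠ 0 := div_ne_zero hu ht0
    by_cases h : Q (u - (Q u / t) • v) ≠ 0
    · exact ⟨Q u / t, hl0, hlam, h⟩
    · simp only [not_not] at h
      refine ⟨-(Q u / t), neg_ne_zero.mpr hl0, hlam', ?_⟩
      have e1 := Q_sub_eq Q u ((Q u / t) • v)
      have e2 := Q_sub_eq Q u ((-(Q u / t)) • v)
      rw [hlam, h] at e1
      rw [hlam', neg_smul, polar_neg_right] at e2
      rw [neg_smul, e2]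
      have h4 : (4 : F) * Q u ≠ 0 := by
        have : (4 : F) = 2 * 2 := by norm_num
        rw [this]
        exact mul_ne_zero (mul_ne_zero h2 h2) hu
      intro h0
      apply h4
      linear_combination h0 - e1
  refine ⟨u - μ • v, hμne, ?_⟩
  apply Subtype.ext
  apply Subtype.ext
  apply Units.ext
  show Cfsg.reflectionMatrix (⇑Q) u * Cfsg.reflectionMatrix (⇑Q) v =
    Cfsg.reflectionMatrix (⇑Q) u * Cfsg.reflectionMatrix (⇑Q) (u - μ • v) *
      (Cfsg.reflectionMatrix (⇑Q) u * Cfsg.reflectionMatrix (⇑Q) (u - μ • v))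
  have hwu : Cfsg.reflectionMatrix (⇑Q) (u - μ • v) *ᵥ u = μ • v := by
    rw [reflectionMatrix_mulVec, ← Helper44.reflLin_apply]
    exact reflLin_sub Q u (μ • v) hμQ.symm hμne
  have hconj := refl_conj Q (Cfsg.reflectionMatrix (⇑Q) (u - μ • v)) (fun x => by
    rw [reflectionMatrix_mulVec, ← Helper44.reflLin_apply, Q_reflLin Q _ _ hμne]) u
  rw [hwu, refl_smul Q v μ hμ0] at hconj
  rw [mul_assoc, ← mul_assoc (Cfsg.reflectionMatrix (⇑Q) (u - μ • v)), hconj, mul_assoc,
    refl_mul_self Q _ hμne, mul_one]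

/-- Odd characteristic: `Ω` has index two in the special isometry group. -/
theorem odd_index (h2 : (2 : F) ≠ 0) (hn : 2 ≤ Fintype.card ι) (Q : QuadraticForm F (ι → F))
    (hQ : (polarBilin Q).Nondegenerate) :
    ((Cfsg.Omega F (⇑Q)).subgroupOf (Cfsg.specialIsometryGroup F (⇑Q))).index = 2 := by
  classical
  show (Cfsg.Omega F (⇑Q)).relIndex (Cfsg.specialIsometryGroup F (⇑Q)) = 2
  obtain ⟨a, b, ha, hb, hab⟩ := exists_nonsquare_pair h2 hn Q hQ
  rw [Subgroup.relIndex_eq_two_iff]
  refine ⟨reflG Q a ha * reflG Q b hb, (pairS Q a b ha hb).2, fun g hg => ?_⟩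
  rw [mem_SO_iff] at hg
  obtain ⟨l, hl, hMl⟩ := matrix_cd h2 Q hQ
    ((g : Matrix.GeneralLinearGroup ι F) : Matrix ι ι F) (fun u => g.2 u u)
  have hneg : (-1 : F) ≠ 1 := by
    intro h
    apply h2
    have : (1 : F) + 1 = 0 := by
      nth_rewrite 1 [← h]
      exact neg_add_cancel 1
    rw [← one_add_one_eq_two]
    exact this
  have heven : Even l.length := by
    rw [hMl, det_list_prod Q l hl] at hg
    exact (neg_one_pow_eq_one_iff_even hneg).1 hg
  have hP0 : (l.map (fun v => Q v)).prod ≠ 0 := by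
    apply List.prod_ne_zero
    intro h0
    obtain ⟨v, hv, hv0⟩ := List.mem_map.1 h0
    exact hl v hv hv0
  have h1 := mem_Omega_iff_of_list Q h2 hn hQ g l hl hMl
  have h3 := mem_Omega_iff_of_list Q h2 hn hQ (g * (reflG Q a ha * reflG Q b hb)) (l ++ [a, b])
    (by
      intro w hw
      rcases List.mem_append.mp hw with hw | hw
      · exact hl w hw
      · simp only [List.mem_cons, List.not_mem_nil, or_false] at hw
        rcases hw with rfl | rfl
        · exact ha
        · exact hb)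
    (by
      rw [Subgroup.coe_mul, Subgroup.coe_mul, Units.val_mul, Units.val_mul, hMl, coe_reflG,
        coe_reflG, List.map_append, List.prod_append]
      simp)
  have h4 : ((l ++ [a, b]).map (fun v => Q v)).prod =
      (l.map (fun v => Q v)).prod * (Q a * Q b) := by
    rw [List.map_append, List.prod_append]
    simp
  have h5 : Even (l ++ [a, b]).length := by
    rw [List.length_append]
    exact heven.add ⟨1, rfl⟩
  rw [h4, isSquare_mul_iff hP0 (mul_ne_zero ha hb), isSquare_mul_iff ha hb] at h3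
  rw [h1, h3]
  by_cases hsq : IsSquare (l.map (fun v => Q v)).prod
  · right
    exact ⟨⟨heven, hsq⟩, fun h => hab (h.2.mp hsq)⟩
  · left
    exact ⟨⟨h5, ⟨fun h => absurd h hsq, fun h => absurd h hab⟩⟩, fun h => hsq h.2⟩

/-- Odd characteristic: `Ω` lies in every subgroup of index two of the special isometry group. -/
theorem odd_le (h2 : (2 : F) ≠ 0) (hn : 2 ≤ Fintype.card ι) (Q : QuadraticForm F (ι → F))
    (hQ : (polarBilin Q).Nondegenerate)
    (H : Subgroup ↥(Cfsg.specialIsometryGroup F (⇑Q))) (hH : H.index = 2) :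
    (Cfsg.Omega F (⇑Q)).subgroupOf (Cfsg.specialIsometryGroup F (⇑Q)) ≤ H := by
  classical
  obtain ⟨a, b, ha, hb, hab⟩ := exists_nonsquare_pair h2 hn Q hQ
  have hmul := fun x y => Subgroup.mul_mem_iff_of_index_two hH (a := x) (b := y)
  -- c1
  have c1 : ∀ u v (hu : Q u ≠ 0) (hv : Q v ≠ 0), (IsSquare (Q u) ↔ IsSquare (Q v)) →
      pairS Q u v hu hv ∈ H := by
    intro u v hu hv hsq
    obtain ⟨w, hw, he⟩ := pairS_eq_sq h2 Q u v hu hv ((isSquare_mul_iff hu hv).mpr hsq)
    rw [he, hmul]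
  -- c2
  have c2 : ∀ u v w (hu : Q u ≠ 0) (hv : Q v ≠ 0) (hw : Q w ≠ 0),
      (pairS Q u w hu hw ∈ H ↔ (pairS Q u v hu hv ∈ H ↔ pairS Q v w hv hw ∈ H)) := by
    intro u v w hu hv hw
    rw [← pairS_mul Q u v w hu hv hw, hmul]
  have csymm : ∀ u v (hu : Q u ≠ 0) (hv : Q v ≠ 0),
      (pairS Q v u hv hu ∈ H ↔ pairS Q u v hu hv ∈ H) := by
    intro u v hu hv
    have := c2 u v u hu hv hu
    rw [pairS_self] at this
    have h1 : (1 : ↥(Cfsg.specialIsometryGroup F (⇑Q))) ∈ H := Subgroup.one_mem H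
    exact (this.mp h1).symm
  -- the general value of c
  have ciff : ∀ u v (hu : Q u ≠ 0) (hv : Q v ≠ 0),
      (pairS Q u v hu hv ∈ H ↔ ((IsSquare (Q u) ↔ IsSquare (Q v)) ∨ pairS Q a b ha hb ∈ H)) := by
    intro u v hu hv
    by_cases hsq : (IsSquare (Q u) ↔ IsSquare (Q v))
    · have := c1 u v hu hv hsq
      exact ⟨fun _ => Or.inl hsq, fun _ => this⟩
    · by_cases hua : (IsSquare (Q u) ↔ IsSquare (Q a))
      · have hvb : (IsSquare (Q b) ↔ IsSquare (Q v)) := p4 _ _ _ _ hsq hab hua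
        have e1 := c2 u a v hu ha hv
        have e2 := c2 a b v ha hb hv
        have e3 := c1 u a hu ha hua
        have e4 := c1 b v hb hv hvb
        exact p1 _ _ _ _ _ _ _ _ _ hsq hab hua e1 e2 e3 hvb e4
      · obtain ⟨hub, hva⟩ := p5 _ _ _ _ hsq hab hua
        have e1 := c2 u b v hu hb hv
        have e2 := c2 b a v hb ha hv
        have e3 := c1 u b hu hb hub
        have e4 := c1 a v ha hv hva
        have e5 := csymm a b ha hb
        exact p2 _ _ _ _ _ _ _ _ _ _ hsq hab hua hub hva e1 e2 e3 e4 e5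
  -- induction over lists of even length
  have key : ∀ (k : ℕ) (l : List (ι → F)), l.length = 2 * k → (∀ w ∈ l, Q w ≠ 0) →
      ∀ x : ↥(Cfsg.specialIsometryGroup F (⇑Q)),
        (((x : ↥(Cfsg.isometryGroup F (⇑Q))) : Matrix.GeneralLinearGroup ι F) : Matrix ι ι F) =
          (l.map (Cfsg.reflectionMatrix (⇑Q))).prod →
        (x ∈ H ↔ (IsSquare (l.map (fun v => Q v)).prod ∨ pairS Q a b ha hb ∈ H)) := by
    intro k
    induction k with
    | zero =>
      intro l hl _ x hx
      have : l = [] := List.length_eq_zero_iff.mp (by omega)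
      subst this
      have hx1 : x = 1 := by
        apply Subtype.ext
        apply Subtype.ext
        apply Units.ext
        rw [hx]
        simp
      rw [hx1]
      have h1 : (1 : ↥(Cfsg.specialIsometryGroup F (⇑Q))) ∈ H := Subgroup.one_mem H
      have h2' : IsSquare (([] : List (ι → F)).map (fun v => Q v)).prod := by
        simp
      exact ⟨fun _ => Or.inl h2', fun _ => h1⟩
    | succ k ih =>
      intro l hl hlQ x hx
      match l, hl, hlQ, hx with
      | [], hl, _, _ => simp at hl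
      | [_], hl, _, _ => simp at hl; omega
      | u :: v :: l', hl, hlQ, hx =>
        have hu : Q u ≠ 0 := hlQ u (by simp)
        have hv : Q v ≠ 0 := hlQ v (by simp)
        have hl'Q : ∀ w ∈ l', Q w ≠ 0 :=
          fun w hw => hlQ w (List.mem_cons_of_mem _ (List.mem_cons_of_mem _ hw))
        have hx' : ((((pairS Q v u hv hu * x : ↥(Cfsg.specialIsometryGroup F (⇑Q))) :
            ↥(Cfsg.isometryGroup F (⇑Q))) : Matrix.GeneralLinearGroup ι F) : Matrix ι ι F) =
            (l'.map (Cfsg.reflectionMatrix (⇑Q))).prod := by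
          show ((((reflG Q v hv * reflG Q u hu) * (x : ↥(Cfsg.isometryGroup F (⇑Q))) :
            ↥(Cfsg.isometryGroup F (⇑Q))) : Matrix.GeneralLinearGroup ι F) : Matrix ι ι F) = _
          rw [Subgroup.coe_mul, Subgroup.coe_mul, Units.val_mul, Units.val_mul, coe_reflG,
            coe_reflG, hx, List.map_cons, List.prod_cons, List.map_cons, List.prod_cons,
            mul_assoc, ← mul_assoc (Cfsg.reflectionMatrix (⇑Q) u), refl_mul_self Q u hu, one_mul,
            ← mul_assoc, refl_mul_self Q v hv, one_mul]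
        have h1 := ih l' (by simp at hl; omega) hl'Q _ hx'
        have h3 : x = pairS Q u v hu hv * (pairS Q v u hv hu * x) := by
          rw [← mul_assoc, pairS_mul, pairS_self, one_mul]
        have h4 := ciff u v hu hv
        have hP0 : (l'.map (fun v => Q v)).prod ≠ 0 := by
          apply List.prod_ne_zero
          intro h0
          obtain ⟨w, hw, hw0⟩ := List.mem_map.1 h0
          exact hl'Q w hw hw0
        have h5 : ((u :: v :: l').map (fun v => Q v)).prod =
            Q u * (Q v * (l'.map (fun v => Q v)).prod) := by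
          simp
        rw [h5, isSquare_mul_iff hu (mul_ne_zero hv hP0), isSquare_mul_iff hv hP0]
        have h6 := hmul (pairS Q u v hu hv) (pairS Q v u hv hu * x)
        rw [← h3] at h6
        exact p3 _ _ _ _ _ _ _ h1 h4 h6
  intro x hx
  rw [Subgroup.mem_subgroupOf] at hx
  have hdet := (mem_SO_iff Q _).mp x.2
  obtain ⟨l, hl, hMl⟩ := matrix_cd h2 Q hQ
    (((x : ↥(Cfsg.isometryGroup F (⇑Q))) : Matrix.GeneralLinearGroup ι F) : Matrix ι ι F)
    (fun u => (x : ↥(Cfsg.isometryGroup F (⇑Q))).2 u u)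
  have h1 := (mem_Omega_iff_of_list Q h2 hn hQ _ l hl hMl).mp hx
  obtain ⟨k, hk⟩ := h1.1
  exact (key k l (by omega) hl x hMl).mpr (Or.inl h1.2)

end aux

/-- Existence and uniqueness of Ω: if F is finite, n ≥ 2, Q is a quadratic form on F^n with non-degenerate polar form and (|F|, n) ≠ (2, 4), then the group of isometries of determinant one has a unique subgroup of index 2. -/
theorem result {F : Type*} [Field F] [Fintype F] {n : ℕ} (hn : 2 ≤ n) (Q : QuadraticForm F (Fin n → F)) (hQ : (QuadraticMap.polarBilin Q).Nondegenerate) (h : Fintype.card F ≠ 2 ∨ n ≠ 4) : ∃! H : Subgroup ↥(Cfsg.specialIsometryGroup F ⇑Q), H.index = 2 := by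
  have hn' : 2 ≤ Fintype.card (Fin n) := by rw [Fintype.card_fin]; exact hn
  have hexc : Fintype.card F ≠ 2 ∨ Fintype.card (Fin n) ≠ 4 := by rw [Fintype.card_fin]; exact h
  by_cases h2 : (2 : F) = 0
  · have hchar : CharP F 2 := CharTwo.of_one_ne_zero_of_two_eq_zero one_ne_zero h2
    exact char2_case h2 hn' Q hQ hexc (S0789.result hn Q hQ h)
  · exact unique_of_le _ (odd_index h2 hn' Q hQ) (fun H hH => odd_le h2 hn' Q hQ H hH)

end Cfsg.Agent.S0787
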