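import Cfsg.Statements.S0112
import Mathlib

set_option autoImplicit false
open Cfsg

namespace Cfsg.Agent.S0112

universe u

/-- card of a subgroup of a group of order `p^n` -/
theorem card_sub_pow {X : Type u} [Group X] [Finite X] {p : ℕ} [Fact p.Prime] {n : ℕ}
    (hX : Nat.card X = p ^ n) (H : Subgroup X) : ∃ k, k ≤ n ∧ Nat.card H = p ^ k := by
  have h1 : Nat.card H ∣ p ^ n := hX ▸ Subgroup.card_subgroup_dvd_card H
  exact (Nat.dvd_prime_pow (Fact.out : p.Prime)).mp h1

/-- commutator map into the centre -/
theorem card_le_of_comm {X : Type u} [Group X] [Finite X] (C A : Subgroup X) (a₀ : X)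
    (hAC : A ≤ C)
    (hcomm : ∀ x ∈ C, x * a₀ * x⁻¹ * a₀⁻¹ ∈ Subgroup.center X)
    (hker : ∀ x ∈ C, x * a₀ = a₀ * x → x ∈ A) :
    Nat.card C ≤ Nat.card A * Nat.card (Subgroup.center X) := by
  let φ : C →* Subgroup.center X := MonoidHom.mk' (fun x => ⟨x.1 * a₀ * x.1⁻¹ * a₀⁻¹, hcomm x.1 x.2⟩) (by
    intro x y
    apply Subtype.ext
    have hy := hcomm y.1 y.2
    rw [Subgroup.mem_center_iff] at hy
    simp only [Subgroup.coe_mul, mul_inv_rev]
    have h1 := hy (x.1⁻¹ * a₀⁻¹)
    have h2 : (x.1 * y.1 * a₀ * (y.1⁻¹ * x.1⁻¹) * a₀⁻¹ : X)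
        = x.1 * (y.1 * a₀ * y.1⁻¹ * a₀⁻¹) * a₀ * x.1⁻¹ * a₀⁻¹ := by group
    rw [h2]
    have h3 := hy (x.1)
    calc x.1 * (y.1 * a₀ * y.1⁻¹ * a₀⁻¹) * a₀ * x.1⁻¹ * a₀⁻¹
        = (x.1 * (y.1 * a₀ * y.1⁻¹ * a₀⁻¹)) * (a₀ * x.1⁻¹ * a₀⁻¹) := by group
      _ = ((y.1 * a₀ * y.1⁻¹ * a₀⁻¹) * x.1) * (a₀ * x.1⁻¹ * a₀⁻¹) := by rw [h3]
      _ = (y.1 * a₀ * y.1⁻¹ * a₀⁻¹) * (x.1 * a₀ * x.1⁻¹ * a₀⁻¹) := by group
      _ = (x.1 * a₀ * x.1⁻¹ * a₀⁻¹) * (y.1 * a₀ * y.1⁻¹ * a₀⁻¹) := by
        rw [hy])
  have h1 : Nat.card C = Nat.card φ.ker * Nat.card φ.range := by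
    rw [← Subgroup.index_ker, Subgroup.card_mul_index]
  have h2 : Nat.card φ.ker ≤ Nat.card A := by
    have hle : φ.ker ≤ A.subgroupOf C := by
      intro x hx
      rw [MonoidHom.mem_ker] at hx
      have := congrArg (fun z : Subgroup.center X => (z : X)) hx
      simp only [φ, MonoidHom.mk'_apply, Subgroup.coe_one] at this
      rw [Subgroup.mem_subgroupOf]
      apply hker x.1 x.2
      have h : x.1 * a₀ = (x.1 * a₀ * x.1⁻¹ * a₀⁻¹) * (a₀ * x.1) := by group
      rw [h, this, one_mul]
    calc Nat.card φ.ker ≤ Nat.card (A.subgroupOf C) := Subgroup.card_le_of_le hle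
      _ = Nat.card A := by
        rw [Nat.card_congr (Subgroup.subgroupOfEquivOfLe hAC).toEquiv]
  have h3 : Nat.card φ.range ≤ Nat.card (Subgroup.center X) :=
    Subgroup.card_le_card_group _
  rw [h1]
  exact Nat.mul_le_mul h2 h3

theorem card_comap_mk {X : Type u} [Group X] [Finite X] (N : Subgroup X) [N.Normal]
    (K : Subgroup (X ⧸ N)) :
    Nat.card (K.comap (QuotientGroup.mk' N)) = Nat.card K * Nat.card N := by
  have h1 := Subgroup.index_comap_of_surjective K (QuotientGroup.mk'_surjective N)
  have h2 := Subgroup.card_mul_index (K.comap (QuotientGroup.mk' N))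
  have h3 := Subgroup.card_mul_index K
  have h4 := Subgroup.card_eq_card_quotient_mul_card_subgroup N
  rw [h1] at h2
  have hi : K.index ≠ 0 := Subgroup.index_ne_zero_of_finite
  have : Nat.card (K.comap (QuotientGroup.mk' N)) * K.index
      = (Nat.card K * Nat.card N) * K.index := by
    rw [h2, h4, ← h3]; ring
  exact Nat.eq_of_mul_eq_mul_right (Nat.pos_of_ne_zero hi) this

theorem main {p : ℕ} [Fact p.Prime] (n : ℕ) : ∀ (X : Type u) [Group X] [Finite X]
    (hX : Nat.card X = p ^ n) (A : Subgroup X) (hA : Nat.card A = p ^ 2)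
    (hC : Subgroup.centralizer (A : Set X) = A), Group.nilpotencyClass X = n - 1 := by
  have hp : p.Prime := Fact.out
  induction n with
  | zero =>
    intro X _ _ hX A hA hC
    exfalso
    have h1 : Nat.card A ∣ Nat.card X := Subgroup.card_subgroup_dvd_card A
    rw [hX, hA, pow_zero, Nat.dvd_one] at h1
    have := hp.one_lt
    nlinarith
  | succ m ih =>
    intro X _ _ hX A hA hC
    have hpX : IsPGroup p X := IsPGroup.of_card hX
    haveI : Group.IsNilpotent X := hpX.isNilpotent
    haveI : Nontrivial X := by
      rw [← Finite.one_lt_card_iff_nontrivial, hX]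
      exact Nat.one_lt_pow (Nat.succ_ne_zero m) hp.one_lt
    have hn2 : 2 ≤ m + 1 := by
      have h1 : Nat.card A ∣ Nat.card X := Subgroup.card_subgroup_dvd_card A
      rw [hX, hA] at h1
      exact (Nat.pow_dvd_pow_iff_le_right hp.one_lt).mp h1
    have hAab : A ≤ Subgroup.centralizer (A : Set X) := hC.symm ▸ le_refl A
    have hAcomm : ∀ a ∈ A, ∀ b ∈ A, a * b = b * a := by
      intro a ha b hb
      have := hAab ha
      rw [Subgroup.mem_centralizer_iff] at this
      exact (this b hb).symm
    rcases Nat.lt_or_ge 2 (m + 1) with hn3 | hn2'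
    · -- inductive step
      set Z := Subgroup.center X with hZ
      have hZA : Z ≤ A := by
        rw [← hC]; exact Subgroup.center_le_centralizer _
      have hAne : A ≠ ⊤ := by
        intro h
        rw [h, Subgroup.card_top, hX] at hA
        have := Nat.pow_right_injective hp.two_le hA
        omega
      have hZne : Z ≠ A := by
        intro h
        apply hAne
        rw [← hC, ← h, Subgroup.centralizer_eq_top_iff_subset]
      haveI := hpX.center_nontrivial
      obtain ⟨k, hk, hZk⟩ := card_sub_pow hX Z
      have hZcard : Nat.card Z = p := by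
        have h1 : Nat.card Z ∣ Nat.card A := Subgroup.card_dvd_of_le hZA
        rw [hA, hZk] at h1
        have hk2 : k ≤ 2 := (Nat.pow_dvd_pow_iff_le_right hp.one_lt).mp h1
        have hk0 : k ≠ 0 := by
          intro h0
          rw [h0, pow_zero] at hZk
          have : Nontrivial Z := inferInstance
          rw [← Finite.one_lt_card_iff_nontrivial] at this
          omega
        have hk2' : k ≠ 2 := by
          intro h2
          apply hZne
          apply Subgroup.eq_of_le_of_card_ge hZA
          rw [hA, hZk, h2]
        have : k = 1 := by omega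
        rw [hZk, this, pow_one]
      have hπ : Function.Surjective (QuotientGroup.mk' (Subgroup.center X)) :=
        QuotientGroup.mk'_surjective _
      have hQcard : Nat.card (X ⧸ Subgroup.center X) = p ^ m := by
        have := Subgroup.card_eq_card_quotient_mul_card_subgroup (Subgroup.center X)
        rw [hX, hZcard, pow_succ] at this
        exact (Nat.eq_of_mul_eq_mul_right hp.pos this).symm
      have hpQ : IsPGroup p (X ⧸ Subgroup.center X) := IsPGroup.of_card hQcard
      haveI : Nontrivial (X ⧸ Subgroup.center X) := by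
        rw [← Finite.one_lt_card_iff_nontrivial, hQcard]
        exact Nat.one_lt_pow (by omega) hp.one_lt
      -- image of A
      have hcomapA : (A.map (QuotientGroup.mk' (Subgroup.center X))).comap
          (QuotientGroup.mk' (Subgroup.center X)) = A := by
        rw [QuotientGroup.comap_map_mk']
        exact sup_eq_right.mpr hZA
      have hAbar : Nat.card (A.map (QuotientGroup.mk' (Subgroup.center X))) = p := by
        have h1 := card_comap_mk (Subgroup.center X)
          (A.map (QuotientGroup.mk' (Subgroup.center X)))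
        rw [hcomapA, hA, hZcard, pow_two] at h1
        exact (Nat.eq_of_mul_eq_mul_right hp.pos h1).symm
      have hAbarcomm : ∀ x ∈ A.map (QuotientGroup.mk' (Subgroup.center X)),
          ∀ y ∈ A.map (QuotientGroup.mk' (Subgroup.center X)), x * y = y * x := by
        rintro _ ⟨a, ha, rfl⟩ _ ⟨b, hb, rfl⟩
        rw [← map_mul, ← map_mul, hAcomm a ha b hb]
      set π := QuotientGroup.mk' (Subgroup.center X) with hπdef
      set Abar := A.map π with hAbar_def
      set Cbar := Subgroup.centralizer (Abar : Set (X ⧸ Subgroup.center X)) with hCbar_def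
      have hAbarC : Abar ≤ Cbar := by
        intro x hx
        rw [hCbar_def, Subgroup.mem_centralizer_iff]
        intro y hy
        exact hAbarcomm y hy x hx
      have hAC : A ≤ Cbar.comap π := by
        intro a ha
        exact hAbarC (Subgroup.mem_map_of_mem π ha)
      obtain ⟨a₀, ha₀, ha₀Z⟩ : ∃ a₀ ∈ A, a₀ ∉ Subgroup.center X :=
        SetLike.exists_of_lt (lt_of_le_of_ne hZA hZne)
      have hcomm : ∀ x ∈ Cbar.comap π, x * a₀ * x⁻¹ * a₀⁻¹ ∈ Subgroup.center X := by
        intro x hx
        rw [Subgroup.mem_comap, hCbar_def, Subgroup.mem_centralizer_iff] at hx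
        have h1 := hx (π a₀) (Subgroup.mem_map_of_mem π ha₀)
        rw [← QuotientGroup.eq_one_iff]
        change π (x * a₀ * x⁻¹ * a₀⁻¹) = 1
        rw [map_mul, map_mul, map_mul, map_inv, map_inv, ← h1]
        group
      have hker : ∀ x ∈ Cbar.comap π, x * a₀ = a₀ * x → x ∈ A := by
        intro x _ hxa
        set H := A ⊓ Subgroup.centralizer {x} with hH
        have hZH : Subgroup.center X ≤ H := le_inf hZA (Subgroup.center_le_centralizer _)
        have ha₀H : a₀ ∈ H := by
          refine ⟨ha₀, ?_⟩
          change a₀ ∈ Subgroup.centralizer {x}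
          rw [Subgroup.mem_centralizer_singleton_iff]
          exact hxa.symm
        have hHA : H = A := by
          apply Subgroup.eq_of_le_of_card_ge inf_le_left
          obtain ⟨j, hj, hHj⟩ := card_sub_pow hX H
          rw [hA, hHj]
          apply Nat.pow_le_pow_right hp.pos
          by_contra hj2
          have hj1 : j ≤ 1 := by omega
          have : Subgroup.center X = H := by
            apply Subgroup.eq_of_le_of_card_ge hZH
            rw [hZcard, hHj]
            calc p ^ j ≤ p ^ 1 := Nat.pow_le_pow_right hp.pos hj1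
              _ = p := pow_one p
          exact ha₀Z (this ▸ ha₀H)
        rw [← hC, Subgroup.mem_centralizer_iff]
        intro a ha
        have : a ∈ H := hHA ▸ ha
        have : a ∈ Subgroup.centralizer {x} := this.2
        rw [Subgroup.mem_centralizer_singleton_iff] at this
        exact this
      have hCle := card_le_of_comm (Cbar.comap π) A a₀ hAC hcomm hker
      rw [card_comap_mk, hA, hZcard] at hCle
      have hCbar_le : Nat.card Cbar ≤ p ^ 2 := by
        have := Nat.le_of_mul_le_mul_right hCle hp.pos
        exact this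
      obtain ⟨j, hj, hCj⟩ := card_sub_pow hQcard Cbar
      have hj2 : 2 ≤ j := by
        by_contra hcon
        have hj1 : j ≤ 1 := by omega
        have hCA : Abar = Cbar := by
          apply Subgroup.eq_of_le_of_card_ge hAbarC
          rw [hAbar, hCj]
          calc p ^ j ≤ p ^ 1 := Nat.pow_le_pow_right hp.pos hj1
            _ = p := pow_one p
        have hcenle : Subgroup.center (X ⧸ Subgroup.center X) ≤ Abar := by
          rw [hCA]; exact Subgroup.center_le_centralizer _
        haveI := hpQ.center_nontrivial
        obtain ⟨i, hi, hci⟩ := card_sub_pow hQcard (Subgroup.center (X ⧸ Subgroup.center X))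
        have hi0 : i ≠ 0 := by
          intro h0
          rw [h0, pow_zero] at hci
          have : Nontrivial (Subgroup.center (X ⧸ Subgroup.center X)) := inferInstance
          rw [← Finite.one_lt_card_iff_nontrivial] at this
          omega
        have hcenA : Subgroup.center (X ⧸ Subgroup.center X) = Abar := by
          apply Subgroup.eq_of_le_of_card_ge hcenle
          rw [hAbar, hci]
          calc p = p ^ 1 := (pow_one p).symm
            _ ≤ p ^ i := Nat.pow_le_pow_right hp.pos (by omega)
        have hCtop : Cbar = ⊤ := by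
          rw [hCbar_def, ← hcenA, Subgroup.centralizer_eq_top_iff_subset]
        rw [hCtop, Subgroup.card_top, hQcard] at hCj
        have := Nat.pow_right_injective hp.two_le hCj
        omega
      have hCcard : Nat.card Cbar = p ^ 2 := by
        apply le_antisymm hCbar_le
        rw [hCj]
        exact Nat.pow_le_pow_right hp.pos hj2
      have hCcomm := IsPGroup.commutative_of_card_eq_prime_sq hCcard
      have hCcent : Subgroup.centralizer (Cbar : Set (X ⧸ Subgroup.center X)) = Cbar := by
        apply le_antisymm
        · exact Subgroup.centralizer_le hAbarC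
        · intro x hx
          rw [Subgroup.mem_centralizer_iff]
          intro y hy
          have := hCcomm ⟨y, hy⟩ ⟨x, hx⟩
          exact congrArg Subtype.val this
      have h1 := ih (X ⧸ Subgroup.center X) hQcard Cbar hCcard hCcent
      rw [Group.nilpotencyClass_quotient_center] at h1
      have hne : Group.nilpotencyClass X ≠ 0 := by
        intro h
        rw [Group.nilpotencyClass_zero_iff_subsingleton] at h
        exact not_subsingleton X h
      omega
    · -- n = 2
      have hm : m + 1 = 2 := le_antisymm hn2' hn2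
      have hAtop : A = ⊤ := by
        apply Subgroup.eq_top_of_card_eq
        rw [hA, hX, hm]
      have hcomm : ∀ a b : X, a * b = b * a := by
        intro a b
        exact hAcomm a (hAtop ▸ Subgroup.mem_top a) b (hAtop ▸ Subgroup.mem_top b)
      have hle : Group.nilpotencyClass X ≤ 1 := by
        rw [← Subgroup.upperCentralSeries_eq_top_iff_nilpotencyClass_le, Subgroup.upperCentralSeries_one,
          eq_top_iff]
        intro x _
        rw [Subgroup.mem_center_iff]
        intro g; exact hcomm g x
      have hne : Group.nilpotencyClass X ≠ 0 := by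
        intro h
        rw [Group.nilpotencyClass_zero_iff_subsingleton] at h
        exact not_subsingleton X h
      omega

/-- A p-group with a self-centralizing subgroup of order p^2 is of maximal class. -/
theorem result {X : Type*} [Group X] [Finite X] {p : ℕ} [Fact p.Prime] (n : ℕ) (hX : Nat.card X = p ^ n) (A : Subgroup X) (hA : Nat.card A = p ^ 2) (hC : Subgroup.centralizer (A : Set X) = A) : Group.nilpotencyClass X = n - 1 := by
  exact main n X hX A hA hC

end Cfsg.Agent.S0112
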