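import Cfsg.Statements.S4143
import Mathlib
import Cfsg.Agent.S0112
import Cfsg.Agent.Lib.Helper35.NormalStep

set_option autoImplicit false
open Cfsg

namespace Cfsg.Agent.S4143

universe u

/-- a p-group of order `p^k` with `k ≤ 2` is commutative -/
theorem comm_of_card_le_sq {H : Type u} [Group H] [Finite H] {p : ℕ} [Fact p.Prime] {k : ℕ}
    (hk : k ≤ 2) (hH : Nat.card H = p ^ k) : ∀ a b : H, a * b = b * a := by
  have hp : p.Prime := Fact.out
  interval_cases k
  · haveI : Subsingleton H := (Nat.card_eq_one_iff_unique.mp (by simpa using hH)).1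
    intro a b; exact Subsingleton.elim _ _
  · haveI : IsCyclic H := isCyclic_of_prime_card (p := p) (by simpa using hH)
    intro a b
    exact (IsCyclic.isMulCommutative (α := H)).is_comm.comm a b
  · have hc := IsPGroup.commutative_of_card_eq_prime_sq (p := p) (G := H) hH
    intro a b
    exact hc a b

theorem main {X : Type u} [Group X] [Finite X] {p : ℕ} [Fact p.Prime] (n : ℕ) (hX : Nat.card X = p ^ n)
    (B : Subgroup X) (hB : Nat.card B = p ^ 3) (hBna : ¬ IsMulCommutative B)
    (hC : Subgroup.centralizer (B : Set X) ≤ B) :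
    Group.nilpotencyClass X = n - 1 := by
  classical
  have hp : p.Prime := Fact.out
  have hpX : IsPGroup p X := IsPGroup.of_card hX
  haveI : Group.IsNilpotent X := hpX.isNilpotent
  -- n ≥ 3
  have hn : 3 ≤ n := by
    have h1 : Nat.card B ∣ Nat.card X := Subgroup.card_subgroup_dvd_card B
    rw [hB, hX] at h1
    exact (Nat.pow_dvd_pow_iff_le_right hp.one_lt).mp h1
  haveI : Nontrivial X := by
    rw [← Finite.one_lt_card_iff_nontrivial, hX]
    exact Nat.one_lt_pow (by omega) hp.one_lt
  -- the centre is nontrivial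
  have hZne : Subgroup.center X ≠ ⊥ := by
    haveI := hpX.center_nontrivial
    exact (Subgroup.nontrivial_iff_ne_bot _).mp this
  set Z := Subgroup.center X with hZdef
  set C := Subgroup.centralizer (B : Set X) with hCdef
  have hZC : Z ≤ C := Subgroup.center_le_centralizer _
  have hZB : Z ≤ B := hZC.trans hC
  -- |C| ≤ p
  obtain ⟨k, hk3, hCk⟩ := Cfsg.Agent.S0112.card_sub_pow (n := 3) (X := B) hB (C.subgroupOf B)
  have hCcard : Nat.card C = p ^ k := by
    rw [← hCk]
    exact (Nat.card_congr (Subgroup.subgroupOfEquivOfLe hC).toEquiv).symm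
  have hBcen : B ≤ Subgroup.centralizer (C : Set X) := by
    intro b hb
    rw [Subgroup.mem_centralizer_iff]
    intro c hc
    have := (Subgroup.mem_centralizer_iff.mp hc) b hb
    exact this.symm
  have hk1 : k ≤ 1 := by
    by_contra hk
    apply hBna
    have hk' : k = 2 ∨ k = 3 := by omega
    rcases hk' with h2 | h2 <;> rw [h2] at hCcard
    · have hidx : C.relIndex B = p := by
        have h1 := Subgroup.relIndex_mul_relIndex ⊥ C B bot_le hC
        rw [Subgroup.relIndex_bot_left, Subgroup.relIndex_bot_left, hCcard, hB] at h1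
        have : C.relIndex B * p ^ 2 = p * p ^ 2 := by rw [mul_comm, h1]; ring
        exact Nat.eq_of_mul_eq_mul_right (pow_pos hp.pos 2) this
      have := Cfsg.Agent.Helper35.comm_of_central_of_relIndex_prime hp C B hC hBcen hidx
      exact ⟨⟨fun x y => Subtype.ext (this x.1 x.2 y.1 y.2)⟩⟩
    · have hCB : C = B := Subgroup.eq_of_le_of_card_ge hC (by rw [hCcard, hB])
      refine ⟨⟨fun x y => Subtype.ext ?_⟩⟩
      have hx : x.1 ∈ C := by rw [hCB]; exact x.2
      exact ((Subgroup.mem_centralizer_iff.mp hx) y.1 y.2).symm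
  -- |Z| = p
  obtain ⟨j, hjn, hZj⟩ := Cfsg.Agent.S0112.card_sub_pow (n := n) hX Z
  have hj1 : 1 ≤ j := by
    by_contra hj
    have : j = 0 := by omega
    subst this
    apply hZne
    rw [pow_zero] at hZj
    exact Subgroup.eq_bot_of_card_eq _ hZj
  have hjk : j ≤ k := by
    have h1 : Nat.card Z ≤ Nat.card C := Subgroup.card_le_of_le hZC
    rw [hZj, hCcard] at h1
    exact (Nat.pow_le_pow_iff_right hp.one_lt).mp h1
  have hj : j = 1 := by omega
  have hk : k = 1 := by omega
  subst hj hk
  rw [pow_one] at hZj hCcard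
  have hZeqC : Z = C := Subgroup.eq_of_le_of_card_ge hZC (by rw [hZj, hCcard])
  -- generators x, y of B
  obtain ⟨x, hxB, hxZ⟩ : ∃ x, x ∈ B ∧ x ∉ Z := by
    by_contra hcon
    push Not at hcon
    have hle : B ≤ Z := fun b hb => hcon b hb
    have h1 : Nat.card B ≤ Nat.card Z := Subgroup.card_le_of_le hle
    rw [hB, hZj] at h1
    have : p ^ 1 < p ^ 3 := Nat.pow_lt_pow_right hp.one_lt (by norm_num)
    rw [pow_one] at this
    omega
  obtain ⟨y, hyB, hxy⟩ : ∃ y, y ∈ B ∧ y * x ≠ x * y := by
    by_contra hcon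
    push Not at hcon
    apply hxZ
    rw [hZeqC, hCdef, Subgroup.mem_centralizer_iff]
    intro b hb
    exact hcon b hb
  have hgen : Subgroup.closure ({x, y} : Set X) = B := by
    set K := Subgroup.closure ({x, y} : Set X) with hK
    have hKB : K ≤ B := by
      rw [hK, Subgroup.closure_le]
      intro t ht
      rcases ht with rfl | rfl
      · exact hxB
      · exact hyB
    obtain ⟨m, hm3, hKm⟩ := Cfsg.Agent.S0112.card_sub_pow (n := 3) (X := B) hB (K.subgroupOf B)
    have hKcard : Nat.card K = p ^ m := by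
      rw [← hKm]
      exact (Nat.card_congr (Subgroup.subgroupOfEquivOfLe hKB).toEquiv).symm
    have hm : m = 3 := by
      by_contra hne
      have hm2 : m ≤ 2 := by omega
      have := comm_of_card_le_sq (H := K) hm2 hKcard
        ⟨y, Subgroup.subset_closure (by simp)⟩ ⟨x, Subgroup.subset_closure (by simp)⟩
      exact hxy (congrArg Subtype.val this)
    subst hm
    exact Subgroup.eq_of_le_of_card_ge hKB (by rw [hKcard, hB])
  -- the quotient
  set π := QuotientGroup.mk' Z with hπ
  have hπs : Function.Surjective π := QuotientGroup.mk'_surjective Z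
  have hQcard : Nat.card (X ⧸ Z) = p ^ (n - 1) := by
    have h1 := Subgroup.card_eq_card_quotient_mul_card_subgroup Z
    rw [hX, hZj] at h1
    have h2 : p ^ n = p ^ (n - 1) * p := by
      rw [← pow_succ]; congr 1; omega
    rw [h2] at h1
    exact (Nat.eq_of_mul_eq_mul_right hp.pos h1).symm
  set A := B.map π with hAdef
  have hcomapA : A.comap π = B := by
    rw [hAdef, Subgroup.comap_map_eq, hπ, QuotientGroup.ker_mk']
    exact sup_eq_left.mpr hZB
  have hAcard : Nat.card A = p ^ 2 := by
    have h1 := Cfsg.Agent.Helper35.card_comap_mk' Z A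
    rw [hcomapA, hB, hZj] at h1
    have : p ^ 2 * p = Nat.card A * p := by rw [← h1]; ring
    exact (Nat.eq_of_mul_eq_mul_right hp.pos this).symm
  have hAcomm : ∀ a b : A, a * b = b * a := comm_of_card_le_sq (le_refl 2) hAcard
  have hAle : A ≤ Subgroup.centralizer (A : Set (X ⧸ Z)) := by
    intro a ha
    rw [Subgroup.mem_centralizer_iff]
    intro b hb
    exact congrArg Subtype.val (hAcomm ⟨b, hb⟩ ⟨a, ha⟩)
  set N := (Subgroup.centralizer (A : Set (X ⧸ Z))).comap π with hNdef
  have hBN : B ≤ N := by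
    rw [← hcomapA]
    exact Subgroup.comap_mono hAle
  -- commutators of N with B lie in Z
  have hNcomm : ∀ g ∈ N, ∀ b ∈ B, g * b * g⁻¹ * b⁻¹ ∈ Subgroup.center X := by
    intro g hg b hb
    have h1 : π g ∈ Subgroup.centralizer (A : Set (X ⧸ Z)) := hg
    have h2 : π b ∈ A := Subgroup.mem_map_of_mem π hb
    have h3 := (Subgroup.mem_centralizer_iff.mp h1) (π b) h2
    have h4 : π (g * b * g⁻¹ * b⁻¹) = 1 := by
      rw [map_mul, map_mul, map_mul, map_inv, map_inv, ← h3]
      group
    have h5 : g * b * g⁻¹ * b⁻¹ ∈ π.ker := h4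
    rw [hπ, QuotientGroup.ker_mk'] at h5
    exact h5
  set N₁ := N ⊓ Subgroup.centralizer ({x} : Set X) with hN₁
  set N₂ := N₁ ⊓ Subgroup.centralizer ({y} : Set X) with hN₂
  have h1 : Nat.card N ≤ Nat.card N₁ * Nat.card (Subgroup.center X) := by
    apply Cfsg.Agent.S0112.card_le_of_comm N N₁ x inf_le_left
    · intro g hg; exact hNcomm g hg x hxB
    · intro g hg hgx
      refine Subgroup.mem_inf.mpr ⟨hg, ?_⟩
      refine Subgroup.mem_centralizer_iff.mpr ?_
      intro t ht
      rw [Set.mem_singleton_iff] at ht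
      subst ht
      exact hgx.symm
  have h2 : Nat.card N₁ ≤ Nat.card N₂ * Nat.card (Subgroup.center X) := by
    apply Cfsg.Agent.S0112.card_le_of_comm N₁ N₂ y inf_le_left
    · intro g hg; exact hNcomm g hg.1 y hyB
    · intro g hg hgy
      refine Subgroup.mem_inf.mpr ⟨hg, ?_⟩
      refine Subgroup.mem_centralizer_iff.mpr ?_
      intro t ht
      rw [Set.mem_singleton_iff] at ht
      subst ht
      exact hgy.symm
  have hN₂C : N₂ ≤ C := by
    intro g hg
    have hgx : g ∈ Subgroup.centralizer ({x} : Set X) := hg.1.2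
    have hgy : g ∈ Subgroup.centralizer ({y} : Set X) := hg.2
    rw [hCdef, ← hgen, Subgroup.centralizer_closure]
    refine Subgroup.mem_centralizer_iff.mpr ?_
    intro t ht
    rcases ht with rfl | ht
    · exact (Subgroup.mem_centralizer_iff.mp hgx) t (Set.mem_singleton t)
    · rw [Set.mem_singleton_iff] at ht
      subst ht
      exact (Subgroup.mem_centralizer_iff.mp hgy) t (Set.mem_singleton t)
  have h3 : Nat.card N₂ ≤ p := by
    have := Subgroup.card_le_of_le hN₂C
    rw [hCcard] at this
    exact this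
  have hNle : Nat.card N ≤ p ^ 3 := by
    rw [← hZdef, hZj] at h1 h2
    calc Nat.card N ≤ Nat.card N₁ * p := h1
      _ ≤ (Nat.card N₂ * p) * p := Nat.mul_le_mul_right p h2
      _ ≤ (p * p) * p := Nat.mul_le_mul_right p (Nat.mul_le_mul_right p h3)
      _ = p ^ 3 := by ring
  have hNB : N = B := (Subgroup.eq_of_le_of_card_ge hBN (by rw [hB]; exact hNle)).symm
  have hcentA : Subgroup.centralizer (A : Set (X ⧸ Z)) = A := by
    apply le_antisymm _ hAle
    intro a ha
    obtain ⟨g, rfl⟩ := hπs a
    have hg : g ∈ N := ha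
    rw [hNB] at hg
    exact Subgroup.mem_map_of_mem π hg
  have hcl := Cfsg.Agent.S0112.result (X := X ⧸ Z) (p := p) (n - 1) hQcard A hAcard hcentA
  have hfin := Group.nilpotencyClass_eq_quotient_center_plus_one (G := X)
  have hcl' : Group.nilpotencyClass (X ⧸ Subgroup.center X) = n - 1 - 1 := hcl
  rw [hfin, hcl']
  omega

/-- Let X be a finite p-group of order p^n containing a non-abelian subgroup B of order p³ with C_X(B) ≤ B. Then X has nilpotency class n − 1 (maximal class). -/
theorem result {X : Type*} [Group X] [Finite X] {p : ℕ} [Fact p.Prime] (n : ℕ) (hX : Nat.card X = p ^ n)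
    (B : Subgroup X) (hB : Nat.card B = p ^ 3) (hBna : ¬ IsMulCommutative B) (hC : Subgroup.centralizer (B : Set X) ≤ B) :
    Group.nilpotencyClass X = n - 1 := by
  exact main n hX B hB hBna hC

end Cfsg.Agent.S4143
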