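import Cfsg.Statements.S3376
import Cfsg.Agent.Lib.Helper32.PGroupCenter

set_option autoImplicit false
open Cfsg
open scoped Pointwise

namespace Cfsg.Agent.S3376

/-- Maschke's theorem for an involution acting on a commutative group of exponent `3`. -/
lemma maschke {V : Type*} [CommGroup V] [Finite V] (h3 : ∀ v : V, v ^ 3 = 1) (τ : V ≃* V)
    (hτ : ∀ v, τ (τ v) = v) (W : Subgroup V) (hW : ∀ w ∈ W, τ w ∈ W) :
    ∃ A : Subgroup V, (∀ a ∈ A, τ a ∈ A) ∧ A ⊓ W = ⊥ ∧ A ⊔ W = ⊤ := by
  classical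
  let P : Subgroup V → Prop := fun A => (∀ a ∈ A, τ a ∈ A) ∧ A ⊓ W = ⊥
  have hfin : {A | P A}.Finite := Set.toFinite _
  have hne : {A | P A}.Nonempty := ⟨⊥, by
    refine ⟨?_, by simp⟩
    intro a ha
    rw [Subgroup.mem_bot] at ha
    rw [ha, map_one]; exact Subgroup.one_mem _⟩
  obtain ⟨A, ⟨hAτ, hAW⟩, hmax⟩ := hfin.exists_maximal hne
  refine ⟨A, hAτ, hAW, ?_⟩
  by_contra hne
  -- an element outside `A ⊔ W`
  obtain ⟨v, hv⟩ : ∃ v : V, v ∉ A ⊔ W := by
    by_contra hall
    push Not at hall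
    exact hne (eq_top_iff.2 fun v _ => hall v)
  have hBτ : ∀ b ∈ A ⊔ W, τ b ∈ A ⊔ W := by
    intro b hb
    obtain ⟨a, ha, w, hw, rfl⟩ := Subgroup.mem_sup.1 hb
    rw [map_mul]
    exact Subgroup.mul_mem_sup (hAτ a ha) (hW w hw)
  -- an eigenvector outside `A ⊔ W`
  obtain ⟨x, hx, hxτ⟩ : ∃ x : V, x ∉ A ⊔ W ∧ (τ x = x ∨ τ x = x⁻¹) := by
    by_cases h1 : v * τ v ∈ A ⊔ W
    · by_cases h2 : v * (τ v)⁻¹ ∈ A ⊔ W
      · exfalso
        apply hv
        have h4 : v = ((v * τ v) * (v * (τ v)⁻¹))⁻¹ := by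
          have : (v * τ v) * (v * (τ v)⁻¹) = v ^ 2 := by
            rw [pow_two]; simp [mul_left_comm]
          rw [this]
          have h5 : v ^ 2 * v = 1 := by rw [← pow_succ]; exact h3 v
          exact (eq_inv_of_mul_eq_one_right h5)
        rw [h4]
        exact Subgroup.inv_mem _ (Subgroup.mul_mem _ h1 h2)
      · refine ⟨_, h2, Or.inr ?_⟩
        rw [map_mul, map_inv, hτ]
        simp [mul_comm]
    · refine ⟨_, h1, Or.inl ?_⟩
      rw [map_mul, hτ, mul_comm]
  -- enlarge `A`
  have hx3 : x ^ 3 = 1 := h3 x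
  have hP : P (A ⊔ Subgroup.zpowers x) := by
    constructor
    · intro b hb
      obtain ⟨a, ha, y, hy, rfl⟩ := Subgroup.mem_sup.1 hb
      rw [map_mul]
      refine Subgroup.mul_mem_sup (hAτ a ha) ?_
      obtain ⟨k, rfl⟩ := Subgroup.mem_zpowers_iff.1 hy
      rw [map_zpow]
      rcases hxτ with h | h
      · rw [h]; exact Subgroup.zpow_mem_zpowers x k
      · rw [h]; exact Subgroup.zpow_mem _ (Subgroup.inv_mem _ (Subgroup.mem_zpowers x)) k
    · rw [eq_bot_iff]
      rintro b ⟨hb1, hb2⟩
      obtain ⟨a, ha, y, hy, rfl⟩ := Subgroup.mem_sup.1 hb1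
      have hyB : y ∈ A ⊔ W := by
        have : y = a⁻¹ * (a * y) := by group
        rw [this]
        exact Subgroup.mul_mem_sup (Subgroup.inv_mem _ ha) hb2
      -- `y` is a power of `x` lying in `A ⊔ W`, hence trivial
      have hy1 : y = 1 := by
        by_contra hy1
        apply hx
        obtain ⟨k, rfl⟩ := Subgroup.mem_zpowers_iff.1 hy
        -- `k mod 3`
        have hk : x ^ k = x ^ (k % 3) := by
          conv_lhs => rw [← Int.emod_add_mul_ediv k 3]
          rw [zpow_add, zpow_mul]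
          have : x ^ (3 : ℤ) = 1 := by exact_mod_cast hx3
          rw [this, one_zpow, mul_one]
        have hk0 : 0 ≤ k % 3 := Int.emod_nonneg _ (by norm_num)
        have hk3 : k % 3 < 3 := Int.emod_lt_of_pos _ (by norm_num)
        rw [hk] at hyB hy1
        interval_cases hkk : k % 3
        · simp at hy1
        · simpa using hyB
        · have : x = (x ^ (2 : ℤ))⁻¹ := by
            have h5 : x ^ (2 : ℤ) * x = 1 := by
              have : x ^ (2 : ℤ) * x = x ^ 3 := by
                rw [show (2 : ℤ) = ((2 : ℕ) : ℤ) from rfl, zpow_natCast, ← pow_succ]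
              rw [this, hx3]
            exact eq_inv_of_mul_eq_one_right h5
          rw [this]
          exact Subgroup.inv_mem _ hyB
      rw [hy1, mul_one] at hb2 ⊢
      have : a ∈ A ⊓ W := ⟨ha, hb2⟩
      rw [hAW] at this
      exact this
  have hle : A ≤ A ⊔ Subgroup.zpowers x := le_sup_left
  have hge := hmax hP hle
  apply hx
  exact (le_sup_left : A ≤ A ⊔ W) (hge (Subgroup.mem_sup_right (Subgroup.mem_zpowers x)))

/-- the product formula, with one factor normal -/
lemma card_sup_mul_card_inf {G : Type*} [Group G] [Finite G] (H K : Subgroup G) [K.Normal] :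
    Nat.card (H ⊔ K : Subgroup G) * Nat.card (H ⊓ K : Subgroup G) = Nat.card H * Nat.card K := by
  have a := Subgroup.relIndex_sup_right (H := H) (K := K)
  have b : Nat.card K * K.relIndex (H ⊔ K) = Nat.card (H ⊔ K : Subgroup G) := by
    have := Subgroup.relIndex_mul_relIndex (H := (⊥ : Subgroup G)) (K := K) (L := H ⊔ K)
      bot_le le_sup_right
    rwa [Subgroup.relIndex_bot_left, Subgroup.relIndex_bot_left] at this
  have c : (H ⊓ K).relIndex H = K.relIndex H := Subgroup.inf_relIndex_left H K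
  have d : Nat.card (H ⊓ K : Subgroup G) * (H ⊓ K).relIndex H = Nat.card H := by
    have := Subgroup.relIndex_mul_relIndex (H := (⊥ : Subgroup G)) (K := H ⊓ K) (L := H)
      bot_le inf_le_left
    rwa [Subgroup.relIndex_bot_left, Subgroup.relIndex_bot_left] at this
  rw [← b, ← d, a, c]; ring

/-- the product formula, with one factor normalizing the other and trivial intersection -/
lemma card_sup_of_le_normalizer {G : Type*} [Group G] [Finite G] (H K : Subgroup G)
    (hHK : H ≤ Subgroup.normalizer (K : Set G)) (hdisj : H ⊓ K = ⊥) :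
    Nat.card (H ⊔ K : Subgroup G) = Nat.card H * Nat.card K := by
  set N : Subgroup G := Subgroup.normalizer (K : Set G) with hN
  have hKN : K ≤ N := Subgroup.le_normalizer
  have hn : (K.subgroupOf N).Normal := Subgroup.normal_in_normalizer
  have h1 := card_sup_mul_card_inf (H.subgroupOf N) (K.subgroupOf N)
  rw [← Subgroup.subgroupOf_sup hHK hKN] at h1
  have h2 : H.subgroupOf N ⊓ K.subgroupOf N = ⊥ := by
    rw [eq_bot_iff]
    rintro ⟨x, hxN⟩ hx
    obtain ⟨hx1, hx2⟩ := Subgroup.mem_inf.1 hx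
    rw [Subgroup.mem_subgroupOf] at hx1 hx2
    have : x ∈ H ⊓ K := ⟨hx1, hx2⟩
    rw [hdisj, Subgroup.mem_bot] at this
    rw [Subgroup.mem_bot]
    exact Subtype.ext this
  rw [h2, Subgroup.card_bot, mul_one] at h1
  rw [Nat.card_congr (Subgroup.subgroupOfEquivOfLe (sup_le hHK hKN)).toEquiv,
    Nat.card_congr (Subgroup.subgroupOfEquivOfLe hHK).toEquiv,
    Nat.card_congr (Subgroup.subgroupOfEquivOfLe hKN).toEquiv] at h1
  exact h1

lemma cycleType_of_fpf (σ : Equiv.Perm (Fin 9)) (h3 : σ ^ 3 = 1) (h1 : σ ≠ 1)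
    (hf : ∀ i, σ i ≠ i) : σ.cycleType = Multiset.replicate 3 3 := by
  have _ : Fact (Nat.Prime 3) := ⟨by norm_num⟩
  have ho : orderOf σ = 3 := orderOf_eq_prime h3 h1
  obtain ⟨n, hn⟩ := Equiv.Perm.cycleType_prime_order (σ := σ) (by rw [ho]; norm_num)
  rw [ho] at hn
  have hs := Equiv.Perm.sum_cycleType σ
  have hsupp : σ.support = Finset.univ := by
    ext i
    simp [hf i]
  rw [hn, hsupp, Multiset.sum_replicate] at hs
  simp only [smul_eq_mul, Finset.card_univ, Fintype.card_fin] at hs
  have : n = 2 := by omega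
  rw [hn, this]

lemma card_centralizer (σ : Equiv.Perm (Fin 9)) (h : σ.cycleType = Multiset.replicate 3 3) :
    Nat.card (Subgroup.centralizer {σ}) = 162 := by
  rw [Equiv.Perm.nat_card_centralizer, h]
  decide

section main

variable {G : Type*} [Group G] [Finite G]

lemma card_sylows (hG : Nat.card G = 162) (S : Sylow 3 G) (T : Sylow 2 G) :
    Nat.card (S : Subgroup G) = 81 ∧ Nat.card (T : Subgroup G) = 2 := by
  have _ : Fact (Nat.Prime 3) := ⟨by norm_num⟩
  have _ : Fact (Nat.Prime 2) := ⟨by norm_num⟩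
  constructor
  · rw [Sylow.card_eq_multiplicity, hG]
    have : (162 : ℕ).factorization 3 = 4 := by decide +kernel
    rw [this]; norm_num
  · rw [Sylow.card_eq_multiplicity, hG]
    have : (162 : ℕ).factorization 2 = 1 := by decide +kernel
    rw [this]; norm_num

/-- a subgroup of order two is `{1, t}` -/
lemma exists_gen_of_card_two (T : Subgroup G) (hT : Nat.card T = 2) :
    ∃ t : G, t ∈ T ∧ t ≠ 1 ∧ t * t = 1 ∧ ∀ u ∈ T, u = 1 ∨ u = t := by
  have hnt : Nontrivial T := by
    rw [← Finite.one_lt_card_iff_nontrivial, hT]; norm_num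
  obtain ⟨⟨t, htT⟩, ht⟩ := exists_ne (1 : T)
  have ht1 : t ≠ 1 := fun h => ht (Subtype.ext h)
  have htt : t * t = 1 := by
    have h := pow_card_eq_one' (G := T) (x := ⟨t, htT⟩)
    rw [hT] at h
    have := congrArg Subtype.val h
    simpa [pow_two] using this
  refine ⟨t, htT, ht1, htt, ?_⟩
  have hz : Subgroup.zpowers t = T := by
    apply Subgroup.eq_of_le_of_card_ge
    · rw [Subgroup.zpowers_le]; exact htT
    · rw [hT, Nat.card_zpowers, orderOf_eq_prime (by rw [pow_two]; exact htt) ht1]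
  intro u hu
  rw [← hz] at hu
  obtain ⟨k, rfl⟩ := Subgroup.mem_zpowers_iff.1 hu
  rcases Int.even_or_odd k with ⟨m, rfl⟩ | ⟨m, rfl⟩
  · left
    rw [← two_mul, zpow_mul, zpow_two, htt, one_zpow]
  · right
    rw [zpow_add, zpow_mul, zpow_two, htt, one_zpow, one_mul, zpow_one]

/-- the structural part: a core-free subgroup of index `9` and a central element of order `3` -/
lemma exists_corefree (hG : Nat.card G = 162)
    (S : Sylow 3 G) (T : Sylow 2 G) (J : Subgroup G) [hJn : J.Normal] (hJcomm : IsMulCommutative J)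
    (hJexp : ∀ a ∈ J, a ^ 3 = 1) (hJcard : Nat.card J = 27)
    (Z : Subgroup G) (hZ : Z = (S : Subgroup G) ⊓ Subgroup.centralizer ((S : Subgroup G) : Set G)) (hZcard : Nat.card Z = 3)
    (hZT : Z ≤ Subgroup.centralizer ((T : Subgroup G) : Set G))
    (hST : (S : Subgroup G) ⊓ Subgroup.centralizer ((T : Subgroup G) : Set G) ≠ S) :
    ∃ (H : Subgroup G) (z : G), H.index = 9 ∧ H.normalCore = ⊥ ∧ z ∈ Subgroup.center G ∧ z ≠ 1 ∧
      z ^ 3 = 1 := by
  have _ : Fact (Nat.Prime 3) := ⟨by norm_num⟩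
  have _ : Fact (Nat.Prime 2) := ⟨by norm_num⟩
  obtain ⟨hScard, hTcard⟩ := card_sylows hG S T
  -- `S` is normal
  have hSidx : (S : Subgroup G).index = 2 := by
    have := Subgroup.index_mul_card (S : Subgroup G)
    rw [hScard, hG] at this
    omega
  have hSn : (S : Subgroup G).Normal := Subgroup.normal_of_index_eq_two hSidx
  -- the involution
  obtain ⟨t, htT, ht1, htt, hTel⟩ := exists_gen_of_card_two (T : Subgroup G) hTcard
  have htinv : t⁻¹ = t := inv_eq_of_mul_eq_one_right htt
  -- `S ⊔ T = ⊤`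
  have hSTdisj : (T : Subgroup G) ⊓ S = ⊥ :=
    (Subgroup.disjoint_of_coprime_natCard (by rw [hScard, hTcard]; decide)).eq_bot
  have hSTtop : (T : Subgroup G) ⊔ S = ⊤ := by
    have h := card_sup_mul_card_inf (T : Subgroup G) (S : Subgroup G)
    rw [hSTdisj, Subgroup.card_bot, mul_one, hScard, hTcard] at h
    apply (Subgroup.card_eq_iff_eq_top _).1
    rw [h, hG]
  -- `Z` is central
  have hZS : Z ≤ Subgroup.centralizer ((S : Subgroup G) : Set G) := by
    rw [hZ]; exact inf_le_right
  have hZcen : Z ≤ Subgroup.center G := by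
    have h1 : (S : Subgroup G) ≤ Subgroup.centralizer (Z : Set G) := Subgroup.le_centralizer_iff.1 hZS
    have h2 : (T : Subgroup G) ≤ Subgroup.centralizer (Z : Set G) := Subgroup.le_centralizer_iff.1 hZT
    have h3 : Subgroup.centralizer (Z : Set G) = ⊤ := by
      rw [eq_top_iff, ← hSTtop]
      exact sup_le h2 h1
    exact Subgroup.centralizer_eq_top_iff_subset.1 h3
  -- `J ≤ S`
  have hJS : J ≤ (S : Subgroup G) := by
    have hJp : IsPGroup 3 J := IsPGroup.of_card (n := 3) (by rw [hJcard]; norm_num)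
    obtain ⟨Q, hQ⟩ := hJp.exists_le_sylow
    have := Sylow.unique_of_normal S hSn
    rwa [Subsingleton.elim Q S] at hQ
  -- a generator of `Z`
  have hSp : IsPGroup 3 (S : Subgroup G) := S.isPGroup'
  have hJS_ne : J.subgroupOf (S : Subgroup G) ≠ ⊥ := by
    intro h
    rw [Subgroup.subgroupOf_eq_bot] at h
    have h2 : J ⊓ (S : Subgroup G) = J := inf_eq_left.2 hJS
    rw [disjoint_iff, h2] at h
    rw [h, Subgroup.card_bot] at hJcard
    omega
  have hJSn : (J.subgroupOf (S : Subgroup G)).Normal := inferInstance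
  obtain ⟨⟨z, hzS⟩, hzJ, hz1, hzc⟩ :=
    Cfsg.Agent.Helper32.exists_ne_one_mem_center_of_normal hSp (J.subgroupOf (S : Subgroup G)) hJS_ne
  rw [Subgroup.mem_subgroupOf] at hzJ
  have hz1' : z ≠ 1 := fun h => hz1 (Subtype.ext h)
  have hzZ : z ∈ Z := by
    rw [hZ]
    refine Subgroup.mem_inf.2 ⟨hzS, ?_⟩
    rw [Subgroup.mem_centralizer_iff]
    intro s hs
    rw [Subgroup.mem_center_iff] at hzc
    have := hzc ⟨s, hs⟩
    exact congrArg Subtype.val this
  have hz3 : z ^ 3 = 1 := hJexp z hzJ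
  have hzo : orderOf z = 3 := orderOf_eq_prime hz3 hz1'
  have hZz : Subgroup.zpowers z = Z := by
    apply Subgroup.eq_of_le_of_card_ge
    · rw [Subgroup.zpowers_le]; exact hzZ
    · rw [hZcard, Nat.card_zpowers, hzo]
  have hZJ : Z ≤ J := by
    rw [← hZz, Subgroup.zpowers_le]; exact hzJ
  have hzcen : z ∈ Subgroup.center G := hZcen hzZ
  have hZn : Z.Normal := by
    refine ⟨fun n hn g => ?_⟩
    have hc := hZcen hn
    rw [Subgroup.mem_center_iff] at hc
    have : g * n * g⁻¹ = n := by rw [hc g, mul_inv_cancel_right]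
    rw [this]; exact hn
  -- Maschke: a `t`-invariant complement of `Z` in `J`
  let _ : CommGroup J := { (inferInstance : Group J) with mul_comm := fun a b => hJcomm.is_comm.comm a b }
  let τ : J ≃* J := MulAut.conjNormal t
  have hτ : ∀ v : J, τ (τ v) = v := by
    intro v
    apply Subtype.ext
    show ((MulAut.conjNormal t (MulAut.conjNormal t v) : J) : G) = v
    rw [MulAut.conjNormal_apply, MulAut.conjNormal_apply, htinv]
    calc t * (t * (v : G) * t) * t = (t * t) * v * (t * t) := by group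
      _ = v := by rw [htt]; group
  have h3 : ∀ v : J, v ^ 3 = 1 := fun v => Subtype.ext (by simpa using hJexp v v.2)
  have hW : ∀ w ∈ Z.subgroupOf J, τ w ∈ Z.subgroupOf J := by
    intro w hw
    rw [Subgroup.mem_subgroupOf] at hw ⊢
    show ((MulAut.conjNormal t w : J) : G) ∈ Z
    rw [MulAut.conjNormal_apply]
    have hc := hZcen hw
    rw [Subgroup.mem_center_iff] at hc
    have : t * (w : G) * t⁻¹ = w := by rw [hc t, mul_inv_cancel_right]
    rw [this]; exact hw
  obtain ⟨A₀, hA₀τ, hA₀W, hA₀sup⟩ := maschke h3 τ hτ (Z.subgroupOf J) hW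
  set A : Subgroup G := A₀.map J.subtype with hA
  have hAJ : A ≤ J := Subgroup.map_subtype_le A₀
  have hAt : ∀ a ∈ A, t * a * t⁻¹ ∈ A := by
    rintro _ ⟨a₀, ha₀, rfl⟩
    refine ⟨τ a₀, hA₀τ a₀ ha₀, ?_⟩
    show ((MulAut.conjNormal t a₀ : J) : G) = _
    rw [MulAut.conjNormal_apply]
    rfl
  have hAZ : A ⊓ Z = ⊥ := by
    rw [eq_bot_iff]
    rintro x ⟨⟨a₀, ha₀, rfl⟩, hx2⟩
    have : a₀ ∈ A₀ ⊓ Z.subgroupOf J := ⟨ha₀, Subgroup.mem_subgroupOf.2 hx2⟩
    rw [hA₀W, Subgroup.mem_bot] at this
    rw [this]; simp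
  have hAZsup : A ⊔ Z = J := by
    have h1 : (A₀ ⊔ Z.subgroupOf J).map J.subtype = A ⊔ Z := by
      rw [Subgroup.map_sup, Subgroup.subgroupOf_map_subtype, inf_eq_left.2 hZJ]
    rw [← h1, hA₀sup, ← MonoidHom.range_eq_map, Subgroup.range_subtype]
  have hAcard : Nat.card A = 9 := by
    have h := card_sup_mul_card_inf A Z
    rw [hAZsup, hAZ, Subgroup.card_bot, hJcard, hZcard] at h
    omega
  -- the subgroup `H = T A`
  have hTnorm : (T : Subgroup G) ≤ Subgroup.normalizer (A : Set G) := by
    intro u hu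
    rcases hTel u hu with rfl | rfl
    · exact Subgroup.one_mem _
    · rw [Subgroup.mem_normalizer_iff]
      intro a
      constructor
      · exact hAt a
      · intro h
        have h2 := hAt _ h
        have : u * (u * a * u⁻¹) * u⁻¹ = a := by
          rw [htinv]
          calc u * (u * a * u) * u = (u * u) * a * (u * u) := by group
            _ = a := by rw [htt]; group
        rwa [this] at h2
  have hTA : (T : Subgroup G) ⊓ A = ⊥ :=
    (Subgroup.disjoint_of_coprime_natCard (by rw [hAcard, hTcard]; decide)).eq_bot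
  set H : Subgroup G := (T : Subgroup G) ⊔ A with hH
  have hHcard : Nat.card H = 18 := by
    rw [hH, card_sup_of_le_normalizer _ _ hTnorm hTA, hAcard, hTcard]
  have hHidx : H.index = 9 := by
    have := Subgroup.index_mul_card H
    rw [hHcard, hG] at this
    omega
  have hzH : z ∉ H := by
    intro hz
    have h1 : J ≤ H := by
      rw [← hAZsup, ← hZz]
      exact sup_le le_sup_right (by rw [Subgroup.zpowers_le]; exact hz)
    have := Subgroup.card_dvd_of_le h1
    rw [hJcard, hHcard] at this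
    omega
  have hZH : ∀ w ∈ Z, w ∈ H → w = 1 := by
    intro w hwZ hwH
    by_contra hw1
    apply hzH
    -- `z` is a power of `w`
    have hwo : orderOf w = 3 := by
      have h3 : w ^ 3 = 1 := hJexp w (hZJ hwZ)
      exact orderOf_eq_prime h3 hw1
    have hZw : Subgroup.zpowers w = Z := by
      apply Subgroup.eq_of_le_of_card_ge
      · rw [Subgroup.zpowers_le]; exact hwZ
      · rw [hZcard, Nat.card_zpowers, hwo]
    have : z ∈ Subgroup.zpowers w := by rw [hZw]; exact hzZ
    exact (Subgroup.zpowers_le.2 hwH) this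
  refine ⟨H, z, hHidx, ?_, hzcen, hz1', hz3⟩
  -- core-freeness
  set N : Subgroup G := H.normalCore with hN
  have hNH : N ≤ H := Subgroup.normalCore_le H
  have hNn : N.Normal := Subgroup.normalCore_normal H
  have hNS : N ⊓ (S : Subgroup G) = ⊥ := by
    by_contra hne
    have hMn : ((N ⊓ (S : Subgroup G)).subgroupOf (S : Subgroup G)).Normal := inferInstance
    have hM_ne : (N ⊓ (S : Subgroup G)).subgroupOf (S : Subgroup G) ≠ ⊥ := by
      intro h
      rw [Subgroup.subgroupOf_eq_bot, disjoint_iff, inf_assoc, inf_idem] at h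
      exact hne h
    obtain ⟨⟨w, hwS⟩, hwM, hw1, hwc⟩ :=
      Cfsg.Agent.Helper32.exists_ne_one_mem_center_of_normal hSp _ hM_ne
    rw [Subgroup.mem_subgroupOf] at hwM
    have hwZ : w ∈ Z := by
      rw [hZ]
      refine Subgroup.mem_inf.2 ⟨hwS, ?_⟩
      rw [Subgroup.mem_centralizer_iff]
      intro s hs
      rw [Subgroup.mem_center_iff] at hwc
      have := hwc ⟨s, hs⟩
      exact congrArg Subtype.val this
    apply hw1
    apply Subtype.ext
    exact hZH w hwZ (hNH hwM.1)
  have hNcard : Nat.card N ∣ 2 := by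
    have h := card_sup_mul_card_inf N (S : Subgroup G)
    rw [hNS, Subgroup.card_bot, mul_one, hScard] at h
    have h2 : Nat.card (N ⊔ (S : Subgroup G) : Subgroup G) ∣ 162 := by
      rw [← hG]; exact Subgroup.card_subgroup_dvd_card _
    rw [h] at h2
    have : (162 : ℕ) = 2 * 81 := by norm_num
    rw [this] at h2
    exact Nat.dvd_of_mul_dvd_mul_right (by norm_num) h2
  rcases (Nat.dvd_prime Nat.prime_two).1 hNcard with h1 | h2
  · exact Subgroup.card_eq_one.1 h1
  · exfalso
    obtain ⟨n, hnN, hn1, hnn, hNel⟩ := exists_gen_of_card_two N h2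
    -- `n` is central
    have hncen : ∀ g : G, g * n * g⁻¹ = n := by
      intro g
      have := hNn.conj_mem n hnN g
      rcases hNel _ this with h | h
      · exfalso
        apply hn1
        have : n = g⁻¹ * (g * n * g⁻¹) * g := by group
        rw [this, h]; group
      · exact h
    -- `n` is conjugate to `t`
    have hnp : IsPGroup 2 (Subgroup.zpowers n) := by
      apply IsPGroup.of_card (n := 1)
      rw [Nat.card_zpowers, orderOf_eq_prime (by rw [pow_two]; exact hnn) hn1]
      norm_num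
    obtain ⟨Q, hQ⟩ := hnp.exists_le_sylow
    obtain ⟨g, hg⟩ := MulAction.exists_smul_eq G T Q
    have hnQ : n ∈ (Q : Subgroup G) := hQ (Subgroup.mem_zpowers n)
    rw [← hg, Sylow.coe_subgroup_smul, Subgroup.mem_smul_pointwise_iff_exists] at hnQ
    obtain ⟨u, huT, hun⟩ := hnQ
    have hun' : g * u * g⁻¹ = n := hun
    have hut : u = t := by
      rcases hTel u huT with h | h
      · exfalso
        apply hn1
        rw [← hun', h]; group
      · exact h
    have hnt : n = t := by
      have : t = g⁻¹ * (g * u * g⁻¹) * g := by rw [hut]; group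
      rw [this, hun']
      have := hncen g⁻¹
      simpa using this.symm
    -- then `T` centralizes `S`
    apply hST
    apply inf_eq_left.2
    intro s hs
    rw [Subgroup.mem_centralizer_iff]
    intro u hu
    rcases hTel u hu with rfl | rfl
    · simp
    · have := hncen s
      rw [hnt] at this
      calc u * s = (s * u * s⁻¹) * s := by rw [this]
        _ = s * u := by group

end main

/-- Let G be a group of order 162 = 3⁴·2 with Sylow 3-subgroup S and Sylow 2-subgroup T, having an elementary abelian normal subgroup J of order 27, such that Z = Z(S) has order 3, Z centralizes T, and C_S(T) ≠ S. Then G is isomorphic to the centralizer in Sym(9) of a product of three disjoint 3-cycles. -/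
theorem result {G : Type*} [Group G] [Finite G] (hG : Nat.card G = 162)
    (S : Sylow 3 G) (T : Sylow 2 G) (J : Subgroup G) [hJn : J.Normal] (hJcomm : IsMulCommutative J)
    (hJexp : ∀ a ∈ J, a ^ 3 = 1) (hJcard : Nat.card J = 27)
    (Z : Subgroup G) (hZ : Z = (S : Subgroup G) ⊓ Subgroup.centralizer ((S : Subgroup G) : Set G)) (hZcard : Nat.card Z = 3)
    (hZT : Z ≤ Subgroup.centralizer ((T : Subgroup G) : Set G))
    (hST : (S : Subgroup G) ⊓ Subgroup.centralizer ((T : Subgroup G) : Set G) ≠ S) :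
    Nonempty (G ≃* Subgroup.centralizer ({Equiv.swap (0 : Fin 9) 1 * Equiv.swap 1 2 * Equiv.swap 3 4 * Equiv.swap 4 5 * Equiv.swap 6 7 * Equiv.swap 7 8} : Set (Equiv.Perm (Fin 9)))) := by
  obtain ⟨H, z, hHidx, hcore, hzcen, hz1, hz3⟩ :=
    exists_corefree hG S T J hJcomm hJexp hJcard Z hZ hZcard hZT hST
  -- the action on the cosets of `H`
  let φ : G →* Equiv.Perm (G ⧸ H) := MulAction.toPermHom G (G ⧸ H)
  have hφ : Function.Injective φ := by
    rw [← MonoidHom.ker_eq_bot_iff, ← Subgroup.normalCore_eq_ker, hcore]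
  have hcard : Nat.card (G ⧸ H) = 9 := hHidx
  have hfin : Finite (G ⧸ H) := inferInstance
  let e : (G ⧸ H) ≃ Fin 9 := Finite.equivFinOfCardEq hcard
  let ψ : G →* Equiv.Perm (Fin 9) := (e.permCongrHom).toMonoidHom.comp φ
  have hψ : Function.Injective ψ := e.permCongrHom.injective.comp hφ
  have hσ3 : (ψ z) ^ 3 = 1 := by rw [← map_pow, hz3, map_one]
  have hσ1 : ψ z ≠ 1 := fun h => hz1 (hψ (by rw [h, map_one]))
  have hzH : z ∉ H := by
    intro hz
    apply hz1
    have hzn : (Subgroup.zpowers z).Normal := by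
      refine ⟨fun n hn g => ?_⟩
      have hc : n ∈ Subgroup.center G := (Subgroup.zpowers_le.2 hzcen) hn
      rw [Subgroup.mem_center_iff] at hc
      have : g * n * g⁻¹ = n := by rw [hc g, mul_inv_cancel_right]
      rw [this]; exact hn
    have : Subgroup.zpowers z ≤ H.normalCore := by
      apply Subgroup.normal_le_normalCore.2
      rw [Subgroup.zpowers_le]; exact hz
    rw [hcore] at this
    exact (Subgroup.mem_bot.1 (this (Subgroup.mem_zpowers z)))
  have hσf : ∀ i, ψ z i ≠ i := by
    intro i hi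
    have h1 : φ z (e.symm i) = e.symm i := by
      have : ψ z i = e (φ z (e.symm i)) := rfl
      rw [this] at hi
      exact e.injective (by rw [hi]; simp)
    obtain ⟨g, hg⟩ := QuotientGroup.mk_surjective (e.symm i)
    rw [← hg] at h1
    have h2 : ((z * g : G) : G ⧸ H) = (g : G ⧸ H) := h1
    rw [QuotientGroup.eq] at h2
    apply hzH
    rw [Subgroup.mem_center_iff] at hzcen
    have : (z * g)⁻¹ * g = z⁻¹ := by rw [← hzcen g]; group
    rw [this] at h2
    simpa using H.inv_mem h2
  have hct := cycleType_of_fpf (ψ z) hσ3 hσ1 hσf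
  have hct0 := cycleType_of_fpf (Equiv.swap (0 : Fin 9) 1 * Equiv.swap 1 2 * Equiv.swap 3 4 *
    Equiv.swap 4 5 * Equiv.swap 6 7 * Equiv.swap 7 8) (by decide) (by decide) (by decide)
  obtain ⟨c, hc⟩ := isConj_iff.1 (Equiv.Perm.isConj_iff_cycleType_eq.2 (hct.trans hct0.symm))
  let ψ' : G →* Equiv.Perm (Fin 9) := (MulAut.conj c).toMonoidHom.comp ψ
  have hψ' : Function.Injective ψ' := (MulAut.conj c).injective.comp hψ
  have hψ'z : ψ' z = Equiv.swap (0 : Fin 9) 1 * Equiv.swap 1 2 * Equiv.swap 3 4 *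
    Equiv.swap 4 5 * Equiv.swap 6 7 * Equiv.swap 7 8 := hc
  have hrange : ψ'.range = Subgroup.centralizer ({Equiv.swap (0 : Fin 9) 1 * Equiv.swap 1 2 *
      Equiv.swap 3 4 * Equiv.swap 4 5 * Equiv.swap 6 7 * Equiv.swap 7 8} : Set (Equiv.Perm (Fin 9))) := by
    apply Subgroup.eq_of_le_of_card_ge
    · rintro _ ⟨g, rfl⟩
      rw [Subgroup.mem_centralizer_iff]
      intro y hy
      rw [Set.mem_singleton_iff] at hy
      rw [hy, ← hψ'z, ← map_mul, ← map_mul]
      rw [Subgroup.mem_center_iff] at hzcen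
      rw [hzcen g]
    · rw [card_centralizer _ hct0, ← hG]
      exact (Nat.card_congr (MonoidHom.ofInjective hψ').toEquiv).le
  exact ⟨(MonoidHom.ofInjective hψ').trans (MulEquiv.subgroupCongr hrange)⟩

end Cfsg.Agent.S3376
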