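import Cfsg.Statements.S0638
import Mathlib
import Cfsg.Agent.Lib.Helper35.CyclicMax
import Cfsg.Agent.Lib.Helper35.NormalStep

set_option autoImplicit false
open Cfsg

namespace Cfsg.Agent.S0638

/-- one step up in a cyclic quotient -/
theorem step {R : Type*} [Group R] [Finite R] {p : ℕ} [Fact p.Prime] (hR : IsPGroup p R)
    (N : Subgroup R) [hN : N.Normal] (hQ : IsCyclic (R ⧸ N)) (hNtop : N ≠ ⊤) :
    ∃ M : Subgroup R, ∃ hM : M.Normal, N ≤ M ∧ Nat.card M = Nat.card N * p ∧ IsCyclic (R ⧸ M) ∧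
      ∀ x : R, x ^ p = 1 → x ∈ M := by
  have hp : p.Prime := Fact.out
  obtain ⟨g, hg⟩ := hQ.exists_generator
  have hog : orderOf g = Nat.card (R ⧸ N) := orderOf_eq_card_of_forall_mem_zpowers hg
  have hQp : IsPGroup p (R ⧸ N) := hR.to_quotient N
  obtain ⟨j, hj⟩ := IsPGroup.iff_card.mp hQp
  have hj0 : j ≠ 0 := by
    intro h
    rw [h, pow_zero] at hj
    apply hNtop
    have : N.index = 1 := hj
    exact Subgroup.index_eq_one.mp this
  obtain ⟨w, hw⟩ : ∃ w, w = g ^ (p ^ (j - 1)) := ⟨_, rfl⟩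
  have hpj : p ^ (j - 1) * p = p ^ j := by
    rw [← pow_succ]; congr 1; omega
  have hword : orderOf w = p := by
    rw [hw, orderOf_pow_of_dvd (pow_pos hp.pos _).ne'
      (by rw [hog, hj]; exact pow_dvd_pow p (by omega)), hog, hj, ← hpj,
      Nat.mul_div_cancel_left _ (pow_pos hp.pos _)]
  have hcomm : ∀ x y : R ⧸ N, x * y = y * x := (IsCyclic.isMulCommutative (α := R ⧸ N)).is_comm.comm
  haveI : (Subgroup.zpowers w).Normal := by
    refine ⟨fun n hn g => ?_⟩
    rw [hcomm g n, mul_inv_cancel_right]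
    exact hn
  have hkey : ∀ y : R ⧸ N, y ^ p = 1 → y ∈ Subgroup.zpowers w := by
    intro y hy
    obtain ⟨i, rfl⟩ := Subgroup.mem_zpowers_iff.mp (hg y)
    rw [← zpow_natCast, ← zpow_mul] at hy
    have h1 := (orderOf_dvd_iff_zpow_eq_one).mpr hy
    rw [hog, hj, ← hpj] at h1
    have h2 : ((p ^ (j - 1) : ℕ) : ℤ) ∣ i := by
      push_cast at h1 ⊢
      exact Int.dvd_of_mul_dvd_mul_right (by exact_mod_cast hp.ne_zero) h1
    obtain ⟨t, rfl⟩ := h2
    refine Subgroup.mem_zpowers_iff.mpr ⟨t, ?_⟩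
    rw [hw, ← zpow_natCast, ← zpow_mul]
  refine ⟨(Subgroup.zpowers w).comap (QuotientGroup.mk' N), Subgroup.Normal.comap inferInstance _,
    ?_, ?_, ?_, ?_⟩
  · intro a ha
    rw [Subgroup.mem_comap]
    have : QuotientGroup.mk' N a = 1 := by
      rw [← MonoidHom.mem_ker, QuotientGroup.ker_mk']; exact ha
    rw [this]; exact Subgroup.one_mem _
  · rw [Helper35.card_comap_mk', Nat.card_zpowers, hword, mul_comm]
  · haveI : ((Subgroup.zpowers w).comap (QuotientGroup.mk' N)).Normal :=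
      Subgroup.Normal.comap inferInstance _
    have hle : N ≤ ((Subgroup.zpowers w).comap (QuotientGroup.mk' N)).comap (MonoidHom.id R) := by
      intro a ha
      rw [Subgroup.mem_comap, MonoidHom.id_apply, Subgroup.mem_comap]
      have : QuotientGroup.mk' N a = 1 := by
        rw [← MonoidHom.mem_ker, QuotientGroup.ker_mk']; exact ha
      rw [this]; exact Subgroup.one_mem _
    have hsurj := QuotientGroup.map_surjective_of_surjective (N := N)
      ((Subgroup.zpowers w).comap (QuotientGroup.mk' N)) (MonoidHom.id R)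
      (by
        intro y
        obtain ⟨x, rfl⟩ := QuotientGroup.mk_surjective y
        exact ⟨x, rfl⟩) hle
    exact isCyclic_of_surjective _ hsurj
  · intro x hx
    rw [Subgroup.mem_comap]
    apply hkey
    rw [← map_pow, hx, map_one]

theorem main {R : Type*} [Group R] [Finite R] {p : ℕ} [Fact p.Prime] (hp : p ≠ 2)
    (hR : IsPGroup p R) (hm : Cfsg.IsMetacyclic R) (hnc : ¬ IsCyclic R) :
    ∃ K : Subgroup R, (∀ x, x ∈ K ↔ x ^ p = 1) ∧ Nat.card K = p ^ 2 := by
  have hpp : p.Prime := Fact.out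
  let 𝒩 : Set (Subgroup R) := {N | ∃ _ : N.Normal, IsCyclic N ∧ IsCyclic (R ⧸ N)}
  have hne : 𝒩.Nonempty := by
    obtain ⟨N, hN, h1, h2⟩ := hm
    exact ⟨N, hN, h1, h2⟩
  obtain ⟨N, hN𝒩, hNmax⟩ :=
    (Set.toFinite 𝒩).exists_maximalFor (fun N : Subgroup R => Nat.card N) 𝒩 hne
  obtain ⟨hNn, hNc, hQc⟩ := hN𝒩
  have hNtop : N ≠ ⊤ := by
    intro h
    rw [h] at hNc
    exact hnc ((Subgroup.topEquiv (G := R)).isCyclic.mp hNc)
  obtain ⟨M, hMn, hNM, hMcard, hMQ, hMall⟩ := step hR N hQc hNtop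
  have hMnc : ¬ IsCyclic M := by
    intro hMc
    have hM𝒩 : M ∈ 𝒩 := ⟨hMn, hMc, hMQ⟩
    have := hNmax hM𝒩 (by
      change Nat.card N ≤ Nat.card M
      exact Subgroup.card_le_of_le hNM)
    change Nat.card M ≤ Nat.card N at this
    rw [hMcard] at this
    have h1 : 0 < Nat.card N := Nat.card_pos
    have := hpp.one_lt
    nlinarith
  have hRM : IsPGroup p M := hR.to_subgroup M
  have hCc : IsCyclic (N.subgroupOf M) := (Subgroup.subgroupOfEquivOfLe hNM).isCyclic.mpr hNc
  have hCi : (N.subgroupOf M).index = p := by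
    have h1 := Subgroup.card_mul_index (N.subgroupOf M)
    rw [Nat.card_congr (Subgroup.subgroupOfEquivOfLe hNM).toEquiv, hMcard] at h1
    exact Nat.eq_of_mul_eq_mul_left Nat.card_pos h1
  obtain ⟨K, hK, hKcard⟩ :=
    Helper35.omega_card_of_cyclic_index_p hp hRM hMnc (N.subgroupOf M) hCc hCi
  refine ⟨K.map M.subtype, ?_, ?_⟩
  · intro x
    constructor
    · rintro ⟨k, hk, rfl⟩
      have h1 := (hK k).mp hk
      have := congrArg Subtype.val h1
      simpa using this
    · intro hx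
      refine ⟨⟨x, hMall x hx⟩, ?_, rfl⟩
      apply (hK _).mpr
      apply Subtype.ext
      simpa using hx
  · rw [Subgroup.card_map_of_injective M.subtype_injective, hKcard]

/-- For odd p, in a non-cyclic metacyclic p-group the elements of order dividing p generate an elementary abelian subgroup of order p². -/
theorem result {R : Type*} [Group R] [Finite R] {p : ℕ} [Fact p.Prime] (hp : p ≠ 2) (hR : IsPGroup p R) (hm : Cfsg.IsMetacyclic R) (hnc : ¬ IsCyclic R) : Cfsg.IsElementaryAbelian p (Cfsg.omegaOne p (⊤ : Subgroup R)) ∧ Nat.card ↥(Cfsg.omegaOne p (⊤ : Subgroup R)) = p ^ 2 := by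
  obtain ⟨K, hK, hKcard⟩ := main hp hR hm hnc
  have hcl : Cfsg.omegaOne p (⊤ : Subgroup R) = K := by
    have : {x : R | x ∈ (⊤ : Subgroup R) ∧ x ^ p = 1} = (K : Set R) := by
      ext x
      simp only [Subgroup.mem_top, true_and, Set.mem_setOf_eq, SetLike.mem_coe]
      exact (hK x).symm
    rw [Cfsg.omegaOne, this, Subgroup.closure_eq]
  rw [hcl]
  refine ⟨⟨?_, fun a ha => (hK a).mp ha⟩, hKcard⟩
  exact ⟨⟨IsPGroup.commutative_of_card_eq_prime_sq hKcard⟩⟩

end Cfsg.Agent.S0638
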