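import Mathlib
import Cfsg.Statements.S1448
import Cfsg.Agent.S0640
import Cfsg.Agent.Lib.Helper24.BlkMain
import Cfsg.Agent.Lib.Helper24.BlkOp4
import Cfsg.Agent.Lib.Helper24.MetaCoprime

set_option autoImplicit false
open Cfsg

namespace Cfsg.Agent.S1448

open scoped commutatorElement

/-- Let G be a finite group, p an odd prime, R a nontrivial p-subgroup with no elementary abelian subgroup of order p ^ 3, and A a subgroup of odd order coprime to p normalizing R with [R, A] = R. Then 3 < p, and either R is abelian or R is generated by two elementwise-commuting subgroups R₁, R₂ with R₁ non-abelian of order p ^ 3 and exponent p, R₂ cyclic, and the elements of R₂ of order dividing p generating exactly [R₁, R₁]. -/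
theorem result {G : Type*} [Group G] [Finite G] (p : ℕ) [Fact p.Prime] (hp : p ≠ 2) (R A : Subgroup G) (hR : IsPGroup p R) (hR1 : R ≠ ⊥) (hr : Cfsg.PRankLE p 2 R)
    (hA : (A ≤ Subgroup.normalizer (R : Set G))) (hcop : (Nat.card A).Coprime p) (hAodd : Odd (Nat.card A)) (hRA : ⁅R, A⁆ = R) :
    3 < p ∧ (IsMulCommutative R ∨ ∃ R₁ R₂ : Subgroup G, R₁ ⊔ R₂ = R ∧ (∀ a ∈ R₁, ∀ b ∈ R₂, a * b = b * a) ∧
        ¬ IsMulCommutative R₁ ∧ Nat.card R₁ = p ^ 3 ∧ Monoid.exponent R₁ = p ∧ IsCyclic R₂ ∧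
        Subgroup.closure {x : G | x ∈ R₂ ∧ x ^ p = 1} = ⁅R₁, R₁⁆) := by
  classical
  have hpp : p.Prime := Fact.out
  let φ : A →* MulAut ↥R := (Subgroup.normalizerMonoidHom R).comp (Subgroup.inclusion hA)
  have hφ : ∀ (a : A) (r : R), ((φ a r : R) : G) = (a : G) * r * (a : G)⁻¹ := fun _ _ => rfl
  -- the nontriviality of the action
  have hNT : ∀ K : Subgroup ↥R, K.Normal → (∀ α ∈ Set.range φ, ∀ r : ↥R, α r * r⁻¹ ∈ K) →
      K = ⊤ := by
    intro K hKn hK
    rw [eq_top_iff]
    intro x _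
    have hle : ⁅R, A⁆ ≤ K.map R.subtype := by
      rw [Subgroup.commutator_le]
      intro r hr' a ha
      have h1 := hK (φ ⟨a, ha⟩) ⟨⟨a, ha⟩, rfl⟩ ⟨r, hr'⟩
      have h2 := K.inv_mem h1
      refine ⟨_, h2, ?_⟩
      show ((((φ ⟨a, ha⟩ ⟨r, hr'⟩ * (⟨r, hr'⟩ : R)⁻¹)⁻¹ : R) : G)) = ⁅r, a⁆
      rw [Subgroup.coe_inv, Subgroup.coe_mul, Subgroup.coe_inv, hφ, commutatorElement_def]
      group
    have hx : (x : G) ∈ K.map R.subtype := by
      apply hle
      rw [hRA]
      exact x.2
    obtain ⟨k, hk, hkx⟩ := hx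
    have : k = x := Subtype.ext hkx
    rw [← this]
    exact hk
  have hΓodd : ∀ α ∈ Set.range φ, Odd (orderOf α) := by
    rintro _ ⟨a, rfl⟩
    have h1 : orderOf (φ a) ∣ Nat.card A :=
      (orderOf_map_dvd φ a).trans (orderOf_dvd_natCard a)
    exact Odd.of_dvd_nat hAodd h1
  -- p > 3
  have hp3 : 3 < p := by
    obtain ⟨α, hα, hα1⟩ : ∃ α ∈ Set.range φ, α ≠ 1 := by
      by_contra hno
      push Not at hno
      have h1 : (⊥ : Subgroup ↥R) = ⊤ := by
        apply hNT ⊥ inferInstance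
        intro α hα r
        rw [hno α hα, MulAut.one_apply, mul_inv_cancel]
        exact Subgroup.one_mem _
      apply hR1
      rw [Subgroup.eq_bot_iff_forall]
      intro x hx
      have h2 : (⟨x, hx⟩ : ↥R) ∈ (⊥ : Subgroup ↥R) := by rw [h1]; exact Subgroup.mem_top _
      rw [Subgroup.mem_bot] at h2
      exact congrArg Subtype.val h2
    have ho1 : orderOf α ≠ 1 := fun h => hα1 (orderOf_eq_one_iff.mp h)
    obtain ⟨q, hq, hqd⟩ := Nat.exists_prime_and_dvd ho1
    obtain ⟨a, rfl⟩ := hα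
    have hqA : q ∣ Nat.card A :=
      hqd.trans ((orderOf_map_dvd φ a).trans (orderOf_dvd_natCard a))
    have hqp : q ≠ p := by
      rintro rfl
      have := Nat.Coprime.eq_one_of_dvd hcop.symm hqA
      exact hq.one_lt.ne' this
    have hq2 : q ≠ 2 := by
      rintro rfl
      have := Odd.of_dvd_nat hAodd hqA
      exact absurd this (by decide)
    have hdvd : q ∣ Nat.card (MulAut ↥R) := hqd.trans (orderOf_dvd_natCard _)
    obtain ⟨-, hlt⟩ := Cfsg.Agent.S0640.result hp hR hr q hq hqp hdvd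
    have := hq.two_le
    omega
  refine ⟨hp3, ?_⟩
  by_cases hcommR : IsMulCommutative R
  · exact Or.inl hcommR
  right
  rcases Cfsg.Agent.Helper24.Blk.theta hp hR hr with hm | hE | ⟨h3, -⟩
  · exfalso
    have h1 := Cfsg.Agent.Helper24.Meta.commutator_eq_bot_of_commutator_eq hp R A hR hm hA
      hcop hRA
    apply hcommR
    refine ⟨⟨fun a b => Subtype.ext ?_⟩⟩
    have h2 : ⁅(a : G), (b : G)⁆ ∈ ⁅R, R⁆ := Subgroup.commutator_mem_commutator a.2 b.2
    rw [h1, Subgroup.mem_bot, commutatorElement_eq_one_iff_mul_comm] at h2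
    exact h2
  · obtain ⟨E, Q, Z, hsup, hEQ, ⟨a, ha, b, hb, hab⟩, hEc, hEe, hQcyc, hZiff, hcommE⟩ :=
      Cfsg.Agent.Helper24.Blk.op_structure hp3 hR hr hE (Set.range φ) hΓodd hNT
    have hinj : Function.Injective R.subtype := Subgroup.subtype_injective R
    refine ⟨E.map R.subtype, Q.map R.subtype, ?_, ?_, ?_, ?_, ?_, ?_, ?_⟩
    · rw [← Subgroup.map_sup, hsup, ← MonoidHom.range_eq_map, Subgroup.range_subtype]
    · rintro _ ⟨a', ha', rfl⟩ _ ⟨b', hb', rfl⟩
      rw [← map_mul, ← map_mul, hEQ a' ha' b' hb']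
    · intro hc
      apply hab
      have h1 := hc.is_comm.comm (⟨R.subtype a, a, ha, rfl⟩ : ↥(E.map R.subtype))
        ⟨R.subtype b, b, hb, rfl⟩
      have h2 := congrArg Subtype.val h1
      simp only [Subgroup.coe_mul] at h2
      apply hinj
      rw [map_mul, map_mul]
      exact h2
    · rw [Subgroup.card_map_of_injective hinj, hEc]
    · have h1 : Monoid.exponent ↥(E.map R.subtype) ∣ p := by
        apply Monoid.exponent_dvd_of_forall_pow_eq_one
        rintro ⟨_, g, hg, rfl⟩
        apply Subtype.ext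
        rw [Subgroup.coe_pow, Subgroup.coe_one, ← map_pow, hEe g hg, map_one]
      rcases (Nat.dvd_prime hpp).mp h1 with h | h
      · exfalso
        rw [Monoid.exp_eq_one_iff] at h
        have h2 : Nat.card ↥(E.map R.subtype) = 1 := Nat.card_unique
        rw [Subgroup.card_map_of_injective hinj, hEc] at h2
        have : 1 < p ^ 3 := Nat.one_lt_pow (by norm_num) hpp.one_lt
        omega
      · exact h
    · have : IsCyclic ↥Q := hQcyc
      exact isCyclic_of_surjective (Q.equivMapOfInjective R.subtype hinj)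
        (Q.equivMapOfInjective R.subtype hinj).surjective
    · rw [← Subgroup.map_commutator, hcommE]
      have hset : {x : G | x ∈ Q.map R.subtype ∧ x ^ p = 1} = ((Z.map R.subtype : Subgroup G) : Set G) := by
        ext x
        simp only [Set.mem_ofPred_eq, SetLike.mem_coe, Subgroup.mem_map]
        constructor
        · rintro ⟨⟨u, hu, rfl⟩, hup⟩
          refine ⟨u, (hZiff u).mpr ⟨hu, ?_⟩, rfl⟩
          apply hinj
          rw [map_pow, hup, map_one]
        · rintro ⟨u, hu, rfl⟩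
          obtain ⟨huQ, hup⟩ := (hZiff u).mp hu
          exact ⟨⟨u, huQ, rfl⟩, by rw [← map_pow, hup, map_one]⟩
      rw [hset, Subgroup.closure_eq]
  · omega

end Cfsg.Agent.S1448
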