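import Cfsg.Statements.S1412
import Cfsg.Agent.S1411
import Cfsg.Agent.S1448
import Cfsg.Agent.Lib.Helper30.BGFusD

set_option autoImplicit false
open Cfsg

namespace Cfsg.Agent.S1412

/-- Let G be a minimal simple group of odd order, p a prime and P a Sylow p-subgroup of G with no elementary abelian subgroup of order p ^ 3. Then either P is abelian, or P is generated by two elementwise-commuting subgroups P₁, P₂ with P₁ nonabelian of order p ^ 3 and exponent p, P₂ cyclic, and the elements of P₂ of order dividing p generating exactly the centre of P₁. -/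
theorem result {G : Type*} [Group G] [Finite G] (hG : Cfsg.IsMinSimpleOddOrder G) (p : ℕ) [Fact p.Prime] (P : Sylow p G) (hr : Cfsg.PRankLE p 2 (P : Subgroup G)) :
    IsMulCommutative (P : Subgroup G) ∨ ∃ P₁ P₂ : Subgroup G, P₁ ⊔ P₂ = (P : Subgroup G) ∧ (∀ a ∈ P₁, ∀ b ∈ P₂, a * b = b * a) ∧
        ¬ IsMulCommutative P₁ ∧ Nat.card P₁ = p ^ 3 ∧ Monoid.exponent P₁ = p ∧ IsCyclic P₂ ∧
        Subgroup.closure {x : G | x ∈ P₂ ∧ x ^ p = 1} = P₁ ⊓ Subgroup.centralizer (P₁ : Set G) := by
  classical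
  by_cases hbot : (P : Subgroup G) = ⊥
  · left
    refine ⟨⟨fun a b => ?_⟩⟩
    have hall : ∀ x : G, x ∈ (P : Subgroup G) → x = 1 := by
      intro x hx
      rw [hbot, Subgroup.mem_bot] at hx
      exact hx
    have ha : (a : G) = 1 := hall _ a.2
    have hb : (b : G) = 1 := hall _ b.2
    apply Subtype.ext
    simp [ha, hb]
  obtain ⟨V, hV, hcop, hdvd⟩ := Cfsg.Agent.Helper30.BGFus.exists_isComplIn_normalizer P
  have hodd : Odd (Nat.card G) := hG.1
  have hVodd : Odd (Nat.card V) := Odd.of_dvd_nat hodd hdvd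
  have hpp : p.Prime := Fact.out
  have hp2 : p ≠ 2 := by
    intro h2
    have h1 : p ∣ Nat.card (P : Subgroup G) := by
      rcases P.isPGroup'.card_eq_or_dvd with h | h
      · exact absurd (Subgroup.eq_bot_of_card_eq _ h) hbot
      · exact h
    have h3 : p ∣ Nat.card G := h1.trans (Subgroup.card_subgroup_dvd_card _)
    rw [h2] at h3
    have := Odd.of_dvd_nat hodd h3
    exact absurd this (by decide)
  have h11 := (Cfsg.Agent.S1411.result hG p P V hV).1
  obtain ⟨-, h48⟩ := Cfsg.Agent.S1448.result p hp2 (P : Subgroup G) V P.isPGroup' hbot hr hV.2.1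
    hcop hVodd h11.symm
  rcases h48 with h | ⟨R₁, R₂, h1, h2, h3, h4, h5, h6, h7⟩
  · exact Or.inl h
  · refine Or.inr ⟨R₁, R₂, h1, h2, h3, h4, h5, h6, ?_⟩
    rw [h7]
    exact Cfsg.Agent.Helper30.BGFus.commutator_eq_inf_centralizer_of_card_cube R₁ h4 h3

end Cfsg.Agent.S1412
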