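import Cfsg.Statements.S1394
import Cfsg.Agent.Lib.Helper54.BGTransitivity

set_option autoImplicit false
open Cfsg

namespace Cfsg.Agent.S1394

open Cfsg.Agent.Helper22 (conjS conjS_one conjS_mul conjS_inv_conjS) in
/-- Let G be a minimal simple group of odd order, A a subgroup satisfying the transitivity hypothesis whose centre has rank at least 2, K = O_{π(A)'}(C_G(A)), and q a prime dividing the order of C_G(A) but not that of A. Then any two maximal A-invariant q-subgroups of G are conjugate by an element of K. -/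
theorem result {G : Type*} [Group G] [Finite G] (hG : Cfsg.IsMinSimpleOddOrder G)
    (A : Subgroup G) (hA : Cfsg.TransitivityHypothesis A) (hZ : ¬ Cfsg.RankLE 1 ↥(A ⊓ Subgroup.centralizer (A : Set G)))
    (q : ℕ) (hq : q.Prime) (hqA : ¬ q ∣ Nat.card A) (hqC : q ∣ Nat.card (Subgroup.centralizer (A : Set G))) :
    ∀ Q₁ ∈ Cfsg.maxInvSubgroups ⊤ A {q}, ∀ Q₂ ∈ Cfsg.maxInvSubgroups ⊤ A {q}, ∃ k ∈ Cfsg.piCoreOf (Cfsg.primesNotDvd (Nat.card A)) (Subgroup.centralizer (A : Set G)), Q₂ = Q₁.map (MulAut.conj k).toMonoidHom := by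
  classical
  have : Fact q.Prime := ⟨hq⟩
  obtain ⟨p, hp, B, hBZ, hB, hB2⟩ := Cfsg.Agent.Helper54.exists_elemAb_of_not_rankLE _ 1 hZ
  have : Fact p.Prime := ⟨hp⟩
  have hBA : B ≤ A := hBZ.trans inf_le_left
  have hBp : IsPGroup p B := by
    intro g
    refine ⟨1, ?_⟩
    rw [pow_one]
    apply Subtype.ext
    have := hB.2 g.1 g.2
    simpa using this
  have hpA : p ∣ Nat.card A := by
    obtain ⟨j, hj⟩ := IsPGroup.iff_card.mp hBp
    have hj0 : j ≠ 0 := by
      rintro rfl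
      rw [hj, pow_zero] at hB2
      have : 1 < p ^ (1 + 1) := Nat.one_lt_pow (by norm_num) hp.one_lt
      omega
    exact ((dvd_pow_self p hj0).trans hj.symm.dvd).trans (Subgroup.card_dvd_of_le hBA)
  have hqp : q ≠ p := by
    rintro rfl
    exact hqA hpA
  have hBc : ∀ x ∈ B, ∀ y ∈ B, x * y = y * x := by
    intro x hx y hy
    have := hB.1.is_comm.comm ⟨x, hx⟩ ⟨y, hy⟩
    exact congrArg Subtype.val this
  -- a nontrivial `q`-subgroup of `C_G(A)`
  obtain ⟨x, hx⟩ := exists_prime_orderOf_dvd_card' (G := ↥(Subgroup.centralizer (A : Set G))) q hqC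
  set Q₀ : Subgroup G := Subgroup.zpowers (x : G) with hQ₀
  have hQ₀q : IsPGroup q Q₀ := by
    apply IsPGroup.of_card (n := 1)
    rw [Nat.card_zpowers, pow_one, Subgroup.orderOf_coe, hx]
  have hQ₀C : Q₀ ≤ Subgroup.centralizer (A : Set G) := Subgroup.zpowers_le.mpr x.2
  have hQ₀ne : Q₀ ≠ ⊥ := by
    rw [hQ₀, Ne, Subgroup.zpowers_eq_bot]
    intro h
    have : orderOf (x : G) = 1 := by rw [h, orderOf_one]
    rw [Subgroup.orderOf_coe, hx] at this
    exact hq.one_lt.ne' this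
  have hAQ₀ : A ≤ Subgroup.normalizer (Q₀ : Set G) :=
    (Subgroup.le_centralizer_iff.mp hQ₀C).trans (Subgroup.centralizer_le_normalizer _)
  obtain ⟨Qs, hQs, hQ₀Qs⟩ := Cfsg.Agent.Helper54.exists_isMaxInvQ_ge (E := A) hQ₀q hAQ₀
  -- every maximal member is conjugate to `Qs`
  have key : ∀ Q : Subgroup G, Cfsg.Agent.Helper54.IsMaxInvQ A q Q →
      ∃ c ∈ Cfsg.piCoreOf (Cfsg.primesNotDvd (Nat.card A)) (Subgroup.centralizer (A : Set G)),
        conjS c Q = Qs := by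
    intro Q hQ
    have hQne : ¬ Q ≤ ⊥ := by
      intro h
      have hQb : Q = ⊥ := le_bot_iff.mp h
      have := hQ.2.2 Q₀ hQ₀q hAQ₀ (hQb ▸ bot_le)
      exact hQ₀ne (this.trans hQb)
    have hQc : (Nat.card Q).Coprime p := by
      obtain ⟨n, hn⟩ := IsPGroup.iff_card.mp hQ.1
      rw [hn]
      exact Nat.Coprime.pow_left n ((Nat.coprime_primes hq hp).mpr hqp)
    obtain ⟨B', hB'B, hB'idx, hB'Q⟩ := Cfsg.Agent.Helper52.exists_hyperplane_centralizer_not_le
      B Q ⊥ hBc hB.2 (hBA.trans hQ.2.1) hQc hQne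
    have hB'ne : B' ≠ ⊥ := by
      rintro rfl
      rw [Subgroup.relIndex_bot_left] at hB'idx
      have : p < p ^ (1 + 1) := by
        calc p = p ^ 1 := (pow_one p).symm
          _ < p ^ (1 + 1) := Nat.pow_lt_pow_right hp.one_lt (by norm_num)
      omega
    obtain ⟨b, hb1⟩ := (Subgroup.ne_bot_iff_exists_ne_one).mp hB'ne
    have hb1' : (b : G) ≠ 1 := fun h => hb1 (Subtype.ext h)
    have hbB : (b : G) ∈ B := hB'B b.2
    have hmeet₁ : Subgroup.centralizer ({(b : G)} : Set G) ⊓ Q ≠ ⊥ := by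
      intro h
      apply hB'Q
      rw [← h]
      refine le_inf (inf_le_right.trans ?_) inf_le_left
      exact Subgroup.centralizer_le (Set.singleton_subset_iff.mpr b.2)
    have hmeet₂ : Subgroup.centralizer ({(b : G)} : Set G) ⊓ Qs ≠ ⊥ := by
      intro h
      apply hQ₀ne
      rw [eq_bot_iff, ← h]
      refine le_inf (hQ₀C.trans ?_) hQ₀Qs
      exact Subgroup.centralizer_le (Set.singleton_subset_iff.mpr (hBA hbB))
    exact Cfsg.Agent.Helper54.bg_conj_of_centralizer_meet hG A hA q hqA b (hBZ hbB) hb1' Q Qs hQ hQs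
      hmeet₁ hmeet₂
  intro Q₁ hQ₁ Q₂ hQ₂
  obtain ⟨c₁, hc₁, e₁⟩ := key Q₁ (Cfsg.Agent.Helper54.isMaxInvQ_of_mem_maxInvSubgroups A q Q₁ hQ₁)
  obtain ⟨c₂, hc₂, e₂⟩ := key Q₂ (Cfsg.Agent.Helper54.isMaxInvQ_of_mem_maxInvSubgroups A q Q₂ hQ₂)
  refine ⟨c₂⁻¹ * c₁, mul_mem (inv_mem hc₂) hc₁, ?_⟩
  show Q₂ = conjS (c₂⁻¹ * c₁) Q₁
  rw [conjS_mul, e₁, ← e₂, conjS_inv_conjS]

end Cfsg.Agent.S1394
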