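-- Statement S1416 (Bender–Glauberman Proposition 12.4): assembly of helper12's `prop124`
-- (Prop. 12.4 from Lemma 12.3), helper17's `lemma123` (Lemma 12.3 from Section 11), and the
-- Section 11 library (helper24 `thm117`, helper33 `exc_lemmaI`, `facts`).
import Cfsg.Statements.S1416
import Cfsg.Agent.Lib.Helper12.BG124c
import Cfsg.Agent.Lib.Helper17.BG123
import Cfsg.Agent.Lib.Helper17.BG11Final
import Cfsg.Agent.Lib.Helper24.BG11.Fin3
import Cfsg.Agent.Lib.Helper33.BG11I

set_option autoImplicit false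
open Cfsg

namespace Cfsg.Agent.S1416

/-- Let G be a minimal simple group of odd order, M a maximal subgroup, p a prime and A ≤ M elementary abelian of order p ^ 2. Then C_G(A) ≤ M. If moreover for every subgroup A₀ of A of order p, M is not the unique maximal subgroup containing N_G(A₀), then p ∈ σ(M), M_α = 1 and M_σ is nilpotent. -/
theorem result {G : Type*} [Group G] [Finite G] (hG : Cfsg.IsMinSimpleOddOrder G)
    (M : Subgroup G) (hM : IsCoatom M) (p : ℕ) [Fact p.Prime] (A : Subgroup G) (hA : (A ≤ M ∧ Cfsg.IsElementaryAbelian p A ∧ Nat.card A = p ^ 2)) :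
    Subgroup.centralizer (A : Set G) ≤ M ∧
      ((∀ A₀ : Subgroup G, A₀ ≤ A → Nat.card A₀ = p →
          ¬ (Subgroup.normalizer (A₀ : Set G) ≤ M ∧ ∀ L : Subgroup G, IsCoatom L → Subgroup.normalizer (A₀ : Set G) ≤ L → L = M)) →
        p ∈ Cfsg.sigma M ∧ Cfsg.alphaCore M = ⊥ ∧ Group.IsNilpotent (Cfsg.sigmaCore M)) := by
  have F := Cfsg.Agent.Helper17.BG11Final.facts hG
  refine Cfsg.Agent.Helper12.BG124.prop124 hG M hM p A hA ?_
  intro H hH hMH A₀ hA₀ hA₀c hN
  exact Cfsg.Agent.Helper17.BG123.lemma123 hG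
    (fun H' p' A' A0' hE => ⟨F.nil hE, Cfsg.Agent.Helper24.BG11.thm117 hG F hE,
      fun g hg hAg => Cfsg.Agent.Helper33.BG11I.exc_lemmaI hG hE g hg hAg⟩)
    M H hM hH hMH p A A₀ hA.1 hA.2.1 hA.2.2 hA₀ hA₀c hN

end Cfsg.Agent.S1416
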