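import Cfsg.Statements.S1423
import Cfsg.Agent.Lib.Helper89.BG1214f

set_option autoImplicit false
open Cfsg

namespace Cfsg.Agent.S1423

open Subgroup Cfsg.Agent.Helper16 Cfsg.Agent.Helper79.BG10 Cfsg.Agent.Helper89.BG12 in
/-- Let G be a minimal simple group of odd order, M a maximal subgroup, p ∈ σ(M), X ≤ M a subgroup of order p and P a Sylow p-subgroup of M_σ. If p ∈ β(M) or X ≤ (M_σ)', then C_G(X) ≤ M, M is the unique maximal subgroup containing C_G(X), and M is the unique maximal subgroup containing P. -/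
theorem result {G : Type*} [Group G] [Finite G] (hG : Cfsg.IsMinSimpleOddOrder G)
    (M : Subgroup G) (hM : IsCoatom M) (p : ℕ) [Fact p.Prime] (hp : p ∈ Cfsg.sigma M) (X : Subgroup G) (hXM : X ≤ M) (hX : Nat.card X = p)
    (P : Sylow p ↥(Cfsg.sigmaCore M)) (h : p ∈ Cfsg.beta M ∨ X ≤ ⁅Cfsg.sigmaCore M, Cfsg.sigmaCore M⁆) :
    (Subgroup.centralizer (X : Set G) ≤ M ∧ ∀ L : Subgroup G, IsCoatom L → Subgroup.centralizer (X : Set G) ≤ L → L = M) ∧ Cfsg.InUniqueMaximal ((P : Subgroup ↥(Cfsg.sigmaCore M)).map (Cfsg.sigmaCore M).subtype) ∧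
      (P : Subgroup ↥(Cfsg.sigmaCore M)).map (Cfsg.sigmaCore M).subtype ≤ M := by
  classical
  have hpp : p.Prime := Fact.out
  obtain ⟨hHall, -, -⟩ := Cfsg.Agent.S1350.result hG M hM
  obtain ⟨hXp, hX1⟩ := isPGroup_and_ne_bot_of_card_eq_prime hX
  have hσM : sigmaCore M ≤ M := Cfsg.Agent.Helper55.BGB.sigmaCore_le M
  set S : Subgroup G := (P : Subgroup ↥(Cfsg.sigmaCore M)).map (Cfsg.sigmaCore M).subtype with hS
  have hSσ : IsSylowIn p (sigmaCore M) S := ⟨P, rfl⟩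
  have hSM : IsSylowIn p M S :=
    isSylowIn_of_not_dvd_relIndex_of_le hSσ hσM (hHall.2.2 p hpp hp)
  obtain ⟨S₁, hXS₁, hS₁⟩ := exists_isSylowIn_ge hXp hXM
  obtain ⟨z, hz, hSz⟩ := exists_cj_eq_of_isSylowIn hS₁ hSM
  obtain ⟨h1, h2⟩ := main_of_sylow hG M hM p hp X hX h S₁ hS₁ hXS₁
  refine ⟨h1, ?_, hSM.le⟩
  refine ⟨M, ⟨hM, hSM.le⟩, ?_⟩
  rintro L ⟨hL, hSL⟩
  have hco : IsCoatom (cj z⁻¹ L) := Cfsg.Agent.Helper64.isCoatom_map_conj L z⁻¹ hL
  have h3 : S₁ ≤ cj z⁻¹ L := by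
    rw [← cj_le_iff, ← hSz]; exact hSL
  have h4 := h2 _ hco h3
  have h5 : cj z (cj z⁻¹ L) = cj z M := by rw [h4]
  rw [cj_cj_inv, cj_eq_self_of_mem hz] at h5
  exact h5

end Cfsg.Agent.S1423
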