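import Cfsg.Statements.S1424
import Cfsg.Agent.S1350
import Cfsg.Agent.S1404
import Cfsg.Agent.S1413
import Cfsg.Agent.S1420
import Cfsg.Agent.Lib.Helper89.BG12Tools
import Cfsg.Agent.Lib.Helper55.BGHall

set_option autoImplicit false
open Cfsg

namespace Cfsg.Agent.S1424

open Subgroup Cfsg.Agent.Helper16 Cfsg.Agent.Helper79.BG10 Cfsg.Agent.Helper89.BG12 in
/-- Let G be a minimal simple group of odd order, M a maximal subgroup, q ∈ σ(M), X a nontrivial q-subgroup of M, M* a maximal subgroup different from M with N_G(X) ≤ M*, and S a Sylow q-subgroup of M ∩ M* containing X. Then M* is not conjugate to M in G, N_G(S) ≤ M, and q does not divide the index of S in M*. -/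
theorem result {G : Type*} [Group G] [Finite G] (hG : Cfsg.IsMinSimpleOddOrder G)
    (M : Subgroup G) (hM : IsCoatom M) (q : ℕ) [Fact q.Prime] (hq : q ∈ Cfsg.sigma M) (X : Subgroup G) (hXq : IsPGroup q X) (hX1 : X ≠ ⊥) (hXM : X ≤ M)
    (Mstar : Subgroup G) (hMs : IsCoatom Mstar) (hne : Mstar ≠ M) (hNX : Subgroup.normalizer (X : Set G) ≤ Mstar)
    (S : Sylow q ↥(M ⊓ Mstar)) (hXS : X ≤ (S : Subgroup ↥(M ⊓ Mstar)).map (M ⊓ Mstar).subtype) :
    (∀ g : G, Mstar ≠ M.map (MulAut.conj g).toMonoidHom) ∧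
      Subgroup.normalizer (((S : Subgroup ↥(M ⊓ Mstar)).map (M ⊓ Mstar).subtype : Subgroup G) : Set G) ≤ M ∧
      ¬ q ∣ ((S : Subgroup ↥(M ⊓ Mstar)).map (M ⊓ Mstar).subtype).relIndex Mstar := by
  classical
  set T : Subgroup G := (S : Subgroup ↥(M ⊓ Mstar)).map (M ⊓ Mstar).subtype with hTdef
  have hTsyl : IsSylowIn q (M ⊓ Mstar) T := ⟨S, rfl⟩
  have hTq : IsPGroup q T := hTsyl.isPGroup
  have hTle : T ≤ M ⊓ Mstar := hTsyl.le
  have hTM : T ≤ M := hTle.trans inf_le_left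
  have hTMs : T ≤ Mstar := hTle.trans inf_le_right
  have hT1 : T ≠ ⊥ := fun h => hX1 (le_bot_iff.mp (h ▸ hXS))
  have hCX : centralizer (X : Set G) ≤ Mstar := (centralizer_le_normalizer _).trans hNX
  have hCT : centralizer (T : Set G) ≤ Mstar :=
    (Subgroup.centralizer_le (SetLike.coe_subset_coe.mpr hXS)).trans hCX
  -- part (a)
  have partA : ∀ g : G, Mstar ≠ M.map (MulAut.conj g).toMonoidHom := by
    intro g hg
    have hXMs : X ≤ Mstar := le_normalizer.trans hNX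
    have h1 : cj g⁻¹ X ≤ M := by
      rw [cj_le_iff, inv_inv]
      have hXMs' := hXMs
      rw [hg] at hXMs'
      exact hXMs'
    obtain ⟨m, hm, c, hc, hgmc⟩ := (S1404.result hG M hM q hq X hXq hX1 hXM).1 g⁻¹ h1
    have hcMs : c ∈ Mstar := hCX hc
    have hg' : g = c⁻¹ * m⁻¹ := by rw [← mul_inv_rev, ← hgmc, inv_inv]
    have h2 : Mstar = cj c⁻¹ M := by
      have : cj g M = cj c⁻¹ M := by rw [hg', cj_mul, cj_eq_self_of_mem (inv_mem hm)]
      exact hg.trans this
    have h3 : cj c Mstar = M := by rw [h2, cj_cj_inv]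
    rw [cj_eq_self_of_mem hcMs] at h3
    exact hne h3
  -- part (c)
  have partC : ¬ q ∣ T.relIndex Mstar := by
    obtain ⟨Ss, hTSs, hSs⟩ := exists_isSylowIn_ge hTq hTMs
    by_cases hTS : T = Ss
    · rw [hTS]; exact not_dvd_relIndex_of_isSylowIn hSs
    exfalso
    obtain ⟨s, hsS, hsN, hsT⟩ := exists_mem_normalizer_not_mem hSs.isPGroup hTSs hTS
    set S₁ : Subgroup G := Ss ⊓ normalizer (T : Set G) with hS₁
    have hS₁q : IsPGroup q S₁ := hSs.isPGroup.to_le inf_le_left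
    have hTS₁ : T ≤ S₁ := le_inf hTSs le_normalizer
    have hsS₁ : s ∈ S₁ := ⟨hsS, hsN⟩
    obtain ⟨Q, hTQ, hQ⟩ := exists_isSylowIn_ge hTq hTM
    have hQtop := isSylowIn_top_of_sigma hq hQ
    obtain ⟨P, hP⟩ := exists_sylow_of_isSylowIn_top hQtop
    have hd := (S1413.result hG q P).2.1 T (hP ▸ hTQ)
    rw [hP] at hd
    have hQN : IsSylowIn q (normalizer (T : Set G)) (Q ⊓ normalizer (T : Set G)) :=
      isSylowIn_of_not_dvd_relIndex (hQ.isPGroup.to_le inf_le_left) inf_le_right hd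
    obtain ⟨R, hS₁R, hR⟩ :=
      exists_isSylowIn_ge hS₁q (inf_le_right : S₁ ≤ normalizer (T : Set G))
    obtain ⟨z, hz, hRz⟩ := exists_cj_eq_of_isSylowIn hQN hR
    have h1 : cj z⁻¹ S₁ ≤ M := by
      rw [cj_le_iff, inv_inv]
      exact hS₁R.trans (hRz ▸ cj_mono z (inf_le_left.trans hQ.le))
    have hzN : z⁻¹ ∈ normalizer (T : Set G) := inv_mem hz
    have h2 : cj z⁻¹ T ≤ M := by rw [cj_eq_self_of_mem_normalizer hzN]; exact hTM
    obtain ⟨m, hm, c, hc, hzmc⟩ := (S1404.result hG M hM q hq T hTq hT1 hTM).1 z⁻¹ h2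
    have h3 : cj c S₁ ≤ M := by
      have : cj z⁻¹ S₁ = cj m (cj c S₁) := by rw [hzmc, cj_mul]
      rw [this, cj_le_iff, cj_eq_self_of_mem (inv_mem hm)] at h1
      exact h1
    have hcMs : c ∈ Mstar := hCT hc
    have h4 : cj c S₁ ≤ Mstar := by
      rw [cj_le_iff, cj_eq_self_of_mem (inv_mem hcMs)]
      exact inf_le_left.trans hSs.le
    have h5 : T ≤ cj c S₁ := by
      have := cj_mono c hTS₁
      rwa [cj_eq_self_of_mem_centralizer hc] at this
    have h6 : cj c S₁ = T := eq_of_isSylowIn_le hTsyl (isPGroup_cj c hS₁q) (le_inf h3 h4) h5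
    have h7 : S₁ = T := by
      have hc1 : Nat.card S₁ = Nat.card T := by rw [← h6, card_cj]
      symm; exact Subgroup.eq_of_le_of_card_ge hTS₁ (by omega)
    exact hsT (h7 ▸ hsS₁)
  -- part (b)
  have partB : normalizer (T : Set G) ≤ M := by
    by_cases hcyc : IsCyclic T
    · have hNN : normalizer (T : Set G) ≤ normalizer (X : Set G) :=
        normalizer_le_normalizer_of_le_cyclic hcyc hXS
      obtain ⟨Q, hTQ, hQ⟩ := exists_isSylowIn_ge hTq hTM
      have hQNT : Q ⊓ normalizer (T : Set G) = T :=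
        eq_of_isSylowIn_le hTsyl (hQ.isPGroup.to_le inf_le_left)
          (le_inf (inf_le_left.trans hQ.le) (inf_le_right.trans (hNN.trans hNX)))
          (le_inf hTQ le_normalizer)
      have hTQeq : T = Q := by
        by_contra hne'
        obtain ⟨x, hxQ, hxN, hxT⟩ := exists_mem_normalizer_not_mem hQ.isPGroup hTQ hne'
        exact hxT (hQNT ▸ (⟨hxQ, hxN⟩ : x ∈ Q ⊓ normalizer (T : Set G)))
      rw [hTQeq]; exact normalizer_le_of_sigma hq hQ
    · obtain ⟨hHall, -, -⟩ := S1350.result hG M hM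
      obtain ⟨E, hE⟩ := Cfsg.Agent.Helper55.BGB.exists_compl_sigmaCore hHall
      exact (S1420.result hG M hM E hE).2.2.1 q T hq hTq hTM hcyc
  exact ⟨partA, partB, partC⟩

end Cfsg.Agent.S1424
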