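import Cfsg.Statements.S1422
import Cfsg.Agent.S1350
import Cfsg.Agent.S1405
import Cfsg.Agent.S1417
import Cfsg.Agent.S1423
import Cfsg.Agent.Lib.Helper29.BG12
import Cfsg.Agent.Lib.Helper96.BGU2
import Cfsg.Agent.Lib.Helper34.BG10a

set_option autoImplicit false
open Cfsg

namespace Cfsg.Agent.S1422

open Cfsg.Agent.Helper29.BG12

/-- a prime `p` with a non-abelian `p`-subgroup `P ≤ L` lies in `σ(L)` (B-G: `α(L) ⊆ σ(L)`,
`τ₂`-Sylow subgroups are abelian, rank one Sylow subgroups are cyclic). -/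
theorem mem_sigma_of_nonabelian {G : Type*} [Group G] [Finite G] (hG : Cfsg.IsMinSimpleOddOrder G)
    (p : ℕ) [hp : Fact p.Prime] (P : Subgroup G) (hP : IsPGroup p P) (hPna : ¬ IsMulCommutative P)
    (L : Subgroup G) (hL : IsCoatom L) (hPL : P ≤ L) : p ∈ Cfsg.sigma L := by
  classical
  have hpP : p ∣ Nat.card P := prime_dvd_card_of_not_comm hP hPna
  have hpL : p ∣ Nat.card L := dvd_trans hpP (Subgroup.card_dvd_of_le hPL)
  have hp2 : p ≠ 2 := by
    rintro rfl
    have h2 : 2 ∣ Nat.card G := dvd_trans hpP (Subgroup.card_subgroup_dvd_card P)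
    have hodd := hG.1
    rw [Nat.odd_iff] at hodd
    omega
  by_cases h2 : Cfsg.PRankLE p 2 L
  · by_contra hns
    -- P is not cyclic
    have hPnc : ¬ IsCyclic P := fun hc => hPna (by
      haveI := hc
      exact IsCyclic.isMulCommutative)
    obtain ⟨E, hEP, hE, hEc⟩ := Cfsg.Agent.Helper96.BGU.exists_elemAb_of_not_isCyclic hp2 P hP hPnc
    have hEL : E ≤ L := hEP.trans hPL
    have h1 : ¬ Cfsg.PRankLE p 1 L := by
      intro h1
      have hc : IsMulCommutative (E.subgroupOf L) := by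
        haveI := hE.1
        refine ⟨⟨fun a b => ?_⟩⟩
        have := hE.1.is_comm.comm ⟨(a : L), a.2⟩ ⟨(b : L), b.2⟩
        have h3 : ((a : L) : G) * ((b : L) : G) = ((b : L) : G) * ((a : L) : G) :=
          congrArg (fun z : E => (z : G)) this
        exact Subtype.ext (Subtype.ext h3)
      have he : ∀ a ∈ E.subgroupOf L, a ^ p = 1 := by
        intro a ha
        have := hE.2 (a : G) ha
        exact Subtype.ext (by simpa using this)
      have := h1 (E.subgroupOf L) hc he
      rw [card_subgroupOf_of_le hEL] at this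
      omega
    have hτ : p ∈ Cfsg.tau2 L := ⟨hp.out, hns, h2, h1⟩
    obtain ⟨A, hAE, hA, hAc⟩ := Cfsg.Agent.Helper34.BG.exists_elemAb_card_eq hE hEc
    have h17 := Cfsg.Agent.S1417.result hG L hL p hτ A ⟨hAE.trans hEL, hA, hAc⟩
    have hPL' : IsPGroup p (P.subgroupOf L) := by
      have : IsPGroup p ((P.subgroupOf L).map L.subtype) := by
        rw [Subgroup.map_subgroupOf_eq_of_le hPL]; exact hP
      exact (IsPGroup.of_equiv this ((P.subgroupOf L).equivMapOfInjective L.subtype
        L.subtype_injective).symm)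
    obtain ⟨Q, hQ⟩ := hPL'.exists_le_sylow
    have hQc := (h17.2.1 Q).1
    exact hPna (comm_of_subgroupOf hPL (comm_of_le hQ hQc))
  · have hα : p ∈ Cfsg.alpha L := ⟨hp.out, h2⟩
    have h5 := Cfsg.Agent.S1405.result hG L hL
    have h50 := Cfsg.Agent.S1350.result hG L hL
    have hnd : ¬ p ∣ (Cfsg.alphaCore L).relIndex L := h5.1.2.2 p hp.out hα
    have hle : Cfsg.alphaCore L ≤ L := h5.1.1
    have hcard : Nat.card (Cfsg.alphaCore L) * (Cfsg.alphaCore L).relIndex L = Nat.card L := by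
      rw [← card_subgroupOf_of_le hle]
      exact Subgroup.card_mul_index ((Cfsg.alphaCore L).subgroupOf L)
    have hpa : p ∣ Nat.card (Cfsg.alphaCore L) := by
      rw [← hcard] at hpL
      rcases (Nat.Prime.dvd_mul hp.out).mp hpL with h | h
      · exact h
      · exact absurd h hnd
    have hps : p ∣ Nat.card (Cfsg.sigmaCore L) :=
      dvd_trans hpa (Subgroup.card_dvd_of_le h5.2.2.1)
    exact h50.1.2.1 p hp.out hps

/-- a `p`-subgroup of `L` lies in `L_σ` when `p ∈ σ(L)`. -/
theorem le_sigmaCore_of_mem_sigma {G : Type*} [Group G] [Finite G] (hG : Cfsg.IsMinSimpleOddOrder G)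
    (p : ℕ) [hp : Fact p.Prime] (P : Subgroup G) (hP : IsPGroup p P)
    (L : Subgroup G) (hL : IsCoatom L) (hPL : P ≤ L) (hσ : p ∈ Cfsg.sigma L) :
    P ≤ Cfsg.sigmaCore L := by
  have h50 := Cfsg.Agent.S1350.result hG L hL
  have hnd : ¬ p ∣ (Cfsg.sigmaCore L).relIndex L := h50.1.2.2 p hp.out hσ
  have hidx : (Cfsg.sigmaCore L).relIndex L = (Cfsg.piCore (Cfsg.sigma L) L).index := by
    unfold Cfsg.sigmaCore Subgroup.relIndex Subgroup.subgroupOf
    rw [Subgroup.comap_map_eq_self_of_injective L.subtype_injective]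
  rw [hidx] at hnd
  have hPL' : IsPGroup p (P.subgroupOf L) := by
    have : IsPGroup p ((P.subgroupOf L).map L.subtype) := by
      rw [Subgroup.map_subgroupOf_eq_of_le hPL]; exact hP
    exact (IsPGroup.of_equiv this ((P.subgroupOf L).equivMapOfInjective L.subtype
      L.subtype_injective).symm)
  have h1 := pgroup_le_of_normal_of_not_dvd_index (Cfsg.piCore (Cfsg.sigma L) L) hnd
    (P.subgroupOf L) hPL'
  have h2 : (P.subgroupOf L).map L.subtype ≤ (Cfsg.piCore (Cfsg.sigma L) L).map L.subtype :=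
    Subgroup.map_mono h1
  rw [Subgroup.map_subgroupOf_eq_of_le hPL] at h2
  exact h2

/-- Let G be a minimal simple group of odd order, p a prime and P a non-abelian p-subgroup of G. Then P lies in exactly one maximal subgroup of G. -/
theorem result {G : Type*} [Group G] [Finite G] (hG : Cfsg.IsMinSimpleOddOrder G) (p : ℕ) [Fact p.Prime] (P : Subgroup G) (hP : IsPGroup p P) (hPna : ¬ IsMulCommutative P) :
    Cfsg.InUniqueMaximal P := by
  classical
  have hPne : P ≠ ⊤ := ne_top_of_isPGroup hG hP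
  obtain ⟨L0, hL0, hPL0⟩ := exists_coatom_ge hPne
  have hcomm_le : ⁅P, P⁆ ≤ P := Subgroup.commutator_le_self P
  obtain ⟨X, hXP', hXcard⟩ := exists_card_eq_prime_le (hP.to_le hcomm_le)
    (commutator_ne_bot_of_not_comm hPna)
  have key : ∀ L : Subgroup G, IsCoatom L → P ≤ L →
      (Subgroup.centralizer (X : Set G) ≤ L ∧
        ∀ L' : Subgroup G, IsCoatom L' → Subgroup.centralizer (X : Set G) ≤ L' → L' = L) := by
    intro L hL hPL
    have hσ := mem_sigma_of_nonabelian hG p P hP hPna L hL hPL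
    have hPσ := le_sigmaCore_of_mem_sigma hG p P hP L hL hPL hσ
    have hX' : X ≤ ⁅Cfsg.sigmaCore L, Cfsg.sigmaCore L⁆ :=
      hXP'.trans (Subgroup.commutator_mono hPσ hPσ)
    have hXL : X ≤ L := (hXP'.trans hcomm_le).trans hPL
    exact (Cfsg.Agent.S1423.result hG L hL p hσ X hXL hXcard default (Or.inr hX')).1
  refine ⟨L0, ⟨hL0, hPL0⟩, ?_⟩
  rintro L ⟨hL, hPL⟩
  exact (key L0 hL0 hPL0).2 L hL (key L hL hPL).1

end Cfsg.Agent.S1422
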