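import Mathlib
import Cfsg.Statements.S1449
import Cfsg.Agent.Lib.Helper24.RankTwoAut

set_option autoImplicit false
open Cfsg

namespace Cfsg.Agent.S1449

open scoped commutatorElement

/-- the conjugation action of `A ≤ N_G(R)` on `R` -/
noncomputable def conjHom {G : Type*} [Group G] (R A : Subgroup G)
    (hA : A ≤ Subgroup.normalizer (R : Set G)) : ↥A →* MulAut ↥R :=
  (R.normalizerMonoidHom).comp (Subgroup.inclusion hA)

theorem conjHom_apply {G : Type*} [Group G] (R A : Subgroup G)
    (hA : A ≤ Subgroup.normalizer (R : Set G)) (a : A) (x : R) :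
    ((conjHom R A hA a x : ↥R) : G) = a * x * (a : G)⁻¹ := rfl

theorem conjHom_injective {G : Type*} [Group G] (R A : Subgroup G)
    (hA : A ≤ Subgroup.normalizer (R : Set G))
    (hfaith : A ⊓ Subgroup.centralizer (R : Set G) = ⊥) :
    Function.Injective (conjHom R A hA) := by
  rw [injective_iff_map_eq_one]
  intro a ha
  have hmem : (a : G) ∈ A ⊓ Subgroup.centralizer (R : Set G) := by
    refine Subgroup.mem_inf.mpr ⟨a.2, ?_⟩
    rw [Subgroup.mem_centralizer_iff]
    intro x hx
    have h1 : conjHom R A hA a ⟨x, hx⟩ = ⟨x, hx⟩ := by rw [ha]; rfl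
    have h2 := congrArg Subtype.val h1
    rw [conjHom_apply] at h2
    have h3 : (a : G) * x * (a : G)⁻¹ = x := h2
    calc x * (a : G) = ((a : G) * x * (a : G)⁻¹) * (a : G) := by rw [h3]
      _ = (a : G) * x := by group
  rw [hfaith, Subgroup.mem_bot] at hmem
  exact Subtype.ext hmem

/-- Let G be a finite group, p an odd prime, R a p-subgroup with no elementary abelian subgroup of order p ^ 3, and A a solvable subgroup of odd order normalizing R with A ∩ C_G(R) = 1. Then the derived subgroup [A, A] is a p-group. -/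
theorem result {G : Type*} [Group G] [Finite G] (p : ℕ) [Fact p.Prime] (hp : p ≠ 2) (R A : Subgroup G) (hR : IsPGroup p R) (hr : Cfsg.PRankLE p 2 R)
    (hA : (A ≤ Subgroup.normalizer (R : Set G))) (hAs : Group.IsSolvable A) (hAodd : Odd (Nat.card A)) (hfaith : A ⊓ Subgroup.centralizer (R : Set G) = ⊥) :
    IsPGroup p ↥⁅A, A⁆ := by
  have h1 : IsPGroup p (commutator ↥A) :=
    Cfsg.Agent.Helper24.RankTwoAut.isPGroup_commutator_of_rank_two hp hR hr
      (conjHom R A hA) (conjHom_injective R A hA hfaith) hAodd hAs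
  rw [← Subgroup.map_subtype_commutator]
  exact h1.map _

end Cfsg.Agent.S1449
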