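import Cfsg.Statements.S0873
import Mathlib
import Cfsg.Agent.Lib.Helper15.LinearChar

set_option autoImplicit false
open Cfsg

namespace Cfsg.Agent.S0873

open Cfsg.Agent.Helper15

variable {G : Type*} [Group G]

/-- the fibre of `lam` through `c` -/
def fibre (C : Subgroup G) (lam : C → ℂ) (c : C) : Set C := {c' | lam c' = lam c}

/-- conjugation action of `P` on a fibre of an invariant function -/
@[reducible] noncomputable def act (C P : Subgroup G) [hC : C.Normal] (lam : C → ℂ)
    (hinv : ∀ (g : G) (c : C), lam ⟨g * c * g⁻¹, hC.conj_mem (c : G) c.2 g⟩ = lam c) (c : C) :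
    MulAction P (fibre C lam c) where
  smul u x := ⟨⟨(u : G) * x.1 * (u : G)⁻¹, hC.conj_mem _ x.1.2 _⟩, (hinv u x.1).trans x.2⟩
  one_smul x := by
    apply Subtype.ext; apply Subtype.ext
    show ((1 : P) : G) * x.1 * ((1 : P) : G)⁻¹ = x.1
    simp
  mul_smul u v x := by
    apply Subtype.ext; apply Subtype.ext
    show ((u * v : P) : G) * x.1 * ((u * v : P) : G)⁻¹ = (u : G) * ((v : G) * x.1 * (v : G)⁻¹) * (u : G)⁻¹
    simp only [Subgroup.coe_mul, mul_inv_rev, mul_assoc]

/-- Let C be a normal subgroup of the finite group G of order prime to p and P a p-subgroup with C ⊔ P = G. Let λ be a character of C of degree 1 invariant under conjugation by G and equal to 1 at every element of C centralized by P. Then λ is identically 1. -/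
theorem result {G : Type*} [Group G] [Finite G] (p : ℕ) [Fact p.Prime] (C P : Subgroup G) [hC : C.Normal] (hP : IsPGroup p P) (hcop : Nat.Coprime (Nat.card C) p) (hCP : C ⊔ P = ⊤) (lam : C → ℂ) (hlam : Cfsg.IsCharacter C lam ∧ lam 1 = 1) (hinv : ∀ (g : G) (c : C), lam ⟨g * c * g⁻¹, hC.conj_mem (c : G) c.2 g⟩ = lam c) (hker : ∀ c : C, (c : G) ∈ Subgroup.centralizer (P : Set G) → lam c = 1) : lam = fun _ => 1 := by
  funext c
  let _ := act C P lam hinv c
  -- the fibre is in bijection with the kernel
  let K := linearCharKer lam hlam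
  have e : fibre C lam c ≃ K :=
    { toFun := fun x => ⟨c⁻¹ * x.1, by
        rw [mem_linearCharKer, linear_char_mul lam hlam, linear_char_inv lam hlam, x.2]
        exact inv_mul_cancel₀ (linear_char_ne_zero lam hlam c)⟩
      invFun := fun k => ⟨c * k.1, by
        show lam (c * k.1) = lam c
        rw [linear_char_mul lam hlam, (mem_linearCharKer lam hlam _).mp k.2, mul_one]⟩
      left_inv := fun x => by apply Subtype.ext; simp
      right_inv := fun k => by apply Subtype.ext; simp }
  have hcard : Nat.card (fibre C lam c) = Nat.card K := Nat.card_congr e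
  have hdvd : Nat.card K ∣ Nat.card C := Subgroup.card_subgroup_dvd_card K
  have hnd : ¬ p ∣ Nat.card (fibre C lam c) := by
    rw [hcard]
    intro h
    have h2 : p ∣ Nat.card C := h.trans hdvd
    have h3 : p ∣ Nat.gcd (Nat.card C) p := Nat.dvd_gcd h2 dvd_rfl
    rw [hcop] at h3
    exact (Fact.out : p.Prime).one_lt.ne' (Nat.dvd_one.mp h3)
  obtain ⟨x, hx⟩ := hP.nonempty_fixed_point_of_prime_not_dvd_card (fibre C lam c) hnd
  have hxc : (x.1 : G) ∈ Subgroup.centralizer (P : Set G) := by
    intro u hu
    have h1 := hx ⟨u, hu⟩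
    have h2 : (u : G) * x.1 * (u : G)⁻¹ = x.1 := congrArg (fun t : fibre C lam c => ((t.1 : C) : G)) h1
    calc u * (x.1 : G) = (u * x.1 * u⁻¹) * u := by group
      _ = x.1 * u := by rw [h2]
  rw [← x.2]
  exact hker x.1 hxc

end Cfsg.Agent.S0873
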