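import Cfsg.Statements.S0870
import Cfsg.Agent.Lib.Helper15.PermChar

set_option autoImplicit false
open Cfsg

namespace Cfsg.Agent.S0870

open MulAction Cfsg.Agent.Helper15

/-- For subgroups H and K of a finite group G, the pointwise product of the functions induced from the constant function 1 on H and on K is a sum, over subgroups U of H with natural-number coefficients, of the functions induced from the constant function 1 on U. -/
theorem result {G : Type*} [Group G] [Fintype G] (H K : Subgroup G) : ∃ a : Subgroup G → ℕ, (∀ U, a U ≠ 0 → U ≤ H) ∧ Cfsg.indFun H (fun _ => 1) * Cfsg.indFun K (fun _ => 1) = ∑ U : Subgroup G, (a U : ℂ) • Cfsg.indFun U (fun _ => 1) := by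
  classical
  let X := (G ⧸ H) × (G ⧸ K)
  let Ω := orbitRel.Quotient G X
  have : Fintype Ω := Fintype.ofFinite _
  -- representatives of the orbits whose first coordinate is the trivial coset
  have hex : ∀ ω : Ω, ∃ p : X, (Quotient.mk'' p : Ω) = ω ∧ p.1 = ((1 : G) : G ⧸ H) := by
    intro ω
    induction ω using Quotient.inductionOn' with | _ p =>
    obtain ⟨a, ha⟩ := QuotientGroup.mk_surjective p.1
    refine ⟨a⁻¹ • p, ?_, ?_⟩
    · apply Quotient.sound'
      exact ⟨a⁻¹, rfl⟩
    · show a⁻¹ • p.1 = _
      rw [← ha]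
      show ((a⁻¹ * a : G) : G ⧸ H) = _
      rw [inv_mul_cancel]
  choose rep hrep hrep1 using hex
  let σ : Ω → Subgroup G := fun ω => stabilizer G (rep ω)
  refine ⟨fun U => (Finset.univ.filter (fun ω => σ ω = U)).card, ?_, ?_⟩
  · intro U hU
    obtain ⟨ω, hω⟩ := Finset.card_pos.mp (Nat.pos_of_ne_zero hU)
    rw [Finset.mem_filter] at hω
    rw [← hω.2]
    intro s hs
    have h1 : s • (rep ω).1 = (rep ω).1 := congrArg Prod.fst (mem_stabilizer_iff.mp hs)
    rw [hrep1] at h1
    have h2 : s ∈ stabilizer G (((1 : G) : G ⧸ H)) := mem_stabilizer_iff.mpr h1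
    rwa [stabilizer_quotient] at h2
  · funext g
    rw [Pi.mul_apply, Finset.sum_apply]
    simp only [Pi.smul_apply, smul_eq_mul]
    rw [indFun_one_eq_card_fixed, indFun_one_eq_card_fixed]
    have hprod : Nat.card {q : G ⧸ H // g • q = q} * Nat.card {q : G ⧸ K // g • q = q} =
        Nat.card {p : X // g • p = p} := by
      rw [← Nat.card_prod]
      refine Nat.card_congr ?_
      refine (Equiv.subtypeProdEquivProd (p := fun q : G ⧸ H => g • q = q)
        (q := fun q : G ⧸ K => g • q = q)).symm.trans (Equiv.subtypeEquivRight ?_)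
      intro p
      show _ ↔ (g • p.1, g • p.2) = p
      rw [Prod.ext_iff]
    rw [← Nat.cast_mul, hprod, card_fixed_eq_sum_orbits g rep hrep]
    push_cast
    have hφ : ∀ ω, (Nat.card {y : orbit G (rep ω) // g • (y : X) = y} : ℂ) =
        indFun (σ ω) (fun _ => (1 : ℂ)) g :=
      fun ω => (indFun_stabilizer (rep ω) (σ ω) rfl g).symm
    simp_rw [hφ]
    rw [← Finset.sum_fiberwise (Finset.univ) σ (fun ω => indFun (σ ω) (fun _ => (1 : ℂ)) g)]
    refine Finset.sum_congr rfl fun U _ => ?_
    have : ∀ ω ∈ Finset.univ.filter (fun ω => σ ω = U),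
        indFun (σ ω) (fun _ => (1 : ℂ)) g = indFun U (fun _ => (1 : ℂ)) g := by
      intro ω hω
      rw [(Finset.mem_filter.mp hω).2]
    rw [Finset.sum_congr rfl this, Finset.sum_const, nsmul_eq_mul]

end Cfsg.Agent.S0870
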