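import Cfsg.Statements.S0872
import Cfsg.Agent.S0870
import Cfsg.Agent.S0871
import Cfsg.Agent.Lib.Helper15.QuasiElem

set_option autoImplicit false
open Cfsg

namespace Cfsg.Agent.S0872

open Cfsg.Agent.Helper15

universe u

variable {G : Type u} [Group G] [Fintype G]

/-- the integral span of the permutation characters on `p`-quasi-elementary subgroups -/
def qeSpan (p : ℕ) : AddSubgroup (G → ℂ) where
  carrier := {f | ∃ a : Subgroup G → ℤ, (∀ H, a H ≠ 0 → IsQE p H) ∧
    f = ∑ H : Subgroup G, (a H : ℂ) • indFun H (fun _ => (1 : ℂ))}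
  zero_mem' := ⟨0, by simp, by simp⟩
  add_mem' := by
    rintro f g ⟨a, ha, rfl⟩ ⟨b, hb, rfl⟩
    refine ⟨a + b, ?_, ?_⟩
    · intro H hH
      by_cases h : a H = 0
      · apply hb
        simpa [h] using hH
      · exact ha H h
    · rw [← Finset.sum_add_distrib]
      refine Finset.sum_congr rfl fun H _ => ?_
      rw [Pi.add_apply, Int.cast_add, add_smul]
  neg_mem' := by
    rintro f ⟨a, ha, rfl⟩
    refine ⟨-a, ?_, ?_⟩
    · intro H hH
      apply ha
      simpa using hH
    · rw [← Finset.sum_neg_distrib]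
      refine Finset.sum_congr rfl fun H _ => ?_
      rw [Pi.neg_apply, Int.cast_neg, neg_smul]

theorem mem_qeSpan_iff (p : ℕ) (f : G → ℂ) : f ∈ qeSpan (G := G) p ↔
    ∃ a : Subgroup G → ℤ, (∀ H, a H ≠ 0 → IsQE p H) ∧
      f = ∑ H : Subgroup G, (a H : ℂ) • indFun H (fun _ => (1 : ℂ)) := Iff.rfl

theorem indFun_mem_qeSpan {p : ℕ} {H₀ : Subgroup G} (h : IsQE p H₀) :
    indFun H₀ (fun _ => (1 : ℂ)) ∈ qeSpan (G := G) p := by
  classical
  refine ⟨fun H => if H = H₀ then 1 else 0, ?_, ?_⟩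
  · intro H hH
    by_cases hh : H = H₀
    · rw [hh]; exact h
    · simp [hh] at hH
  · rw [Finset.sum_eq_single H₀]
    · simp
    · intro H _ hH
      simp [hH]
    · intro hH
      exact absurd (Finset.mem_univ _) hH

theorem mul_mem_qeSpan {p : ℕ} (hp : p.Prime) {f g : G → ℂ} (hf : f ∈ qeSpan (G := G) p)
    (hg : g ∈ qeSpan (G := G) p) : f * g ∈ qeSpan (G := G) p := by
  obtain ⟨a, ha, rfl⟩ := hf
  obtain ⟨b, hb, rfl⟩ := hg
  rw [Finset.sum_mul]
  refine AddSubgroup.sum_mem _ fun H _ => ?_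
  rw [Finset.mul_sum]
  refine AddSubgroup.sum_mem _ fun K _ => ?_
  by_cases hH : a H = 0
  · rw [hH]
    simp only [Int.cast_zero, zero_smul, zero_mul]
    exact AddSubgroup.zero_mem _
  have hqe := ha H hH
  have hre : ((a H : ℂ) • indFun H (fun _ => (1 : ℂ))) * ((b K : ℂ) • indFun K (fun _ => (1 : ℂ))) =
      (a H * b K) • (indFun H (fun _ => (1 : ℂ)) * indFun K (fun _ => (1 : ℂ))) := by
    funext y
    simp only [Pi.mul_apply, Pi.smul_apply, smul_eq_mul, zsmul_eq_mul, Int.cast_mul]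
    ring
  rw [hre]
  apply AddSubgroup.zsmul_mem
  obtain ⟨n, hn, hprod⟩ := Cfsg.Agent.S0870.result H K
  have hprod' : indFun H (fun _ => (1 : ℂ)) * indFun K (fun _ => (1 : ℂ)) =
      ∑ U : Subgroup G, ((n U : ℤ) : ℂ) • indFun U (fun _ => (1 : ℂ)) := by
    rw [hprod]
    refine Finset.sum_congr rfl fun U _ => ?_
    simp
  rw [hprod']
  exact ⟨fun U => (n U : ℤ), fun U hU => hqe.mono hp (hn U (by simpa using hU)), rfl⟩

/-- the key induction: a function in the span that is constant `-m` on a finite set -/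
theorem exists_const_on {p : ℕ} (hp : p.Prime) (T : Finset G) :
    ∃ (m : ℤ) (r : G → ℂ), r ∈ qeSpan (G := G) p ∧ ¬ (p : ℤ) ∣ m ∧ ∀ y ∈ T, (m : ℂ) + r y = 0 := by
  classical
  induction T using Finset.induction_on with
  | empty => exact ⟨1, 0, AddSubgroup.zero_mem _, by
      intro h
      have := Int.eq_one_of_dvd_one (by positivity) h
      have hp1 := hp.one_lt
      omega, by simp⟩
  | insert x T _ ih =>
    obtain ⟨m, r, hr, hm, hT⟩ := ih
    obtain ⟨H, hH, n, hn, hpn⟩ := Cfsg.Agent.S0871.result x p hp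
    have hf : indFun H (fun _ => (1 : ℂ)) ∈ qeSpan (G := G) p := indFun_mem_qeSpan hH
    refine ⟨m * n, (n : ℤ) • r - m • indFun H (fun _ => (1 : ℂ)) - r * indFun H (fun _ => (1 : ℂ)),
      ?_, ?_, ?_⟩
    · exact AddSubgroup.sub_mem _ (AddSubgroup.sub_mem _ (AddSubgroup.zsmul_mem _ hr _)
        (AddSubgroup.zsmul_mem _ hf _)) (mul_mem_qeSpan hp hr hf)
    · intro hdvd
      rcases (Nat.prime_iff_prime_int.mp hp).dvd_or_dvd hdvd with h | h
      · exact hm h
      · exact hpn (Int.natCast_dvd_natCast.mp h)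
    · intro y hy
      have hfac : ((m * (n : ℤ) : ℤ) : ℂ) + ((n : ℤ) • r - m • indFun H (fun _ => (1 : ℂ)) -
          r * indFun H (fun _ => (1 : ℂ))) y =
          ((m : ℂ) + r y) * ((n : ℂ) - indFun H (fun _ => (1 : ℂ)) y) := by
        have e1 : ((n : ℤ) • r) y = (n : ℂ) * r y := by
          rw [Pi.smul_apply, zsmul_eq_mul]
          simp
        have e2 : (m • indFun H (fun _ => (1 : ℂ))) y = (m : ℂ) * indFun H (fun _ => (1 : ℂ)) y := by
          rw [Pi.smul_apply, zsmul_eq_mul]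
        rw [Pi.sub_apply, Pi.sub_apply, Pi.mul_apply, e1, e2]
        push_cast
        ring
      rw [hfac]
      rcases Finset.mem_insert.mp hy with rfl | hy'
      · rw [hn, sub_self, mul_zero]
      · rw [hT y hy', zero_mul]

/-- For a finite group G and a prime p there are an integer m not divisible by p and a ℤ-linear combination of functions induced from the constant function 1 on subgroups H, each having a cyclic normal subgroup of order prime to p and p-power index in H, that equals the constant function m. -/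
theorem result {G : Type*} [Group G] [Fintype G] (p : ℕ) (hp : p.Prime) : ∃ (m : ℤ) (a : Subgroup G → ℤ), ¬ (p : ℤ) ∣ m ∧ (∀ H, a H ≠ 0 → (∃ C : Subgroup G, C ≤ H ∧ H ≤ Subgroup.normalizer (C : Set G) ∧ IsCyclic C ∧ Nat.Coprime (Nat.card C) p ∧ ∃ k : ℕ, C.relIndex H = p ^ k)) ∧ (fun _ : G => (m : ℂ)) = ∑ H : Subgroup G, (a H : ℂ) • Cfsg.indFun H (fun _ => 1) := by
  obtain ⟨m, r, hr, hm, hT⟩ := exists_const_on (G := G) hp Finset.univ
  have hneg : (fun _ : G => (m : ℂ)) = -r := by
    funext y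
    have := hT y (Finset.mem_univ y)
    rw [Pi.neg_apply]
    linear_combination this
  obtain ⟨a, ha, hsum⟩ := AddSubgroup.neg_mem _ hr
  exact ⟨m, a, hm, ha, hneg.trans hsum⟩

end Cfsg.Agent.S0872
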