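import Cfsg.Statements.S0874
import Cfsg.Agent.S0872
import Cfsg.Agent.Lib.Helper15.BrauerLocal

set_option autoImplicit false
open Cfsg

namespace Cfsg.Agent.S0874

open Cfsg.Agent.Helper15

/-- the local form of Brauer's induction theorem, in `ElemComb` form -/
theorem brauer_local {G : Type*} [Group G] [Fintype G] (p : ℕ) [Fact p.Prime] :
    ∃ m : ℤ, ¬ (p : ℤ) ∣ m ∧ ElemComb p (fun _ : G => (m : ℂ)) := by
  classical
  obtain ⟨m, a, hm, ha, hsum⟩ := Cfsg.Agent.S0872.result (G := G) p (Fact.out : p.Prime)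
  refine ⟨m, hm, ?_⟩
  rw [hsum]
  apply ElemComb.sum
  intro H _
  by_cases h0 : a H = 0
  · rw [h0]
    simp only [Int.cast_zero, zero_smul]
    exact ElemComb.zero
  · have hQE : IsQE p H := ha H h0
    have h1 : ElemComb p (fun _ : H => (1 : ℂ)) := elemComb_one hQE.toGroup
    exact (h1.induce H).zsmul (a H)

/-- For a finite group G and a prime p there are an integer m not divisible by p and a list of triples (E, φ, c), with E a p-elementary subgroup, φ a character of E and c an integer, such that the constant function m on G equals the sum of the c • (function induced from φ). -/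
theorem result {G : Type*} [Group G] [Fintype G] (p : ℕ) (hp : p.Prime) : ∃ (m : ℤ) (l : List ((E : Subgroup G) × ((E → ℂ) × ℤ))), ¬ (p : ℤ) ∣ m ∧ (∀ t ∈ l, Cfsg.IsElementary p t.1 ∧ Cfsg.IsCharacter t.1 t.2.1) ∧ (fun _ : G => (m : ℂ)) = (l.map fun t => (t.2.2 : ℂ) • Cfsg.indFun t.1 t.2.1).sum := by
  have : Fact p.Prime := ⟨hp⟩
  obtain ⟨m, hm, l, hl, hsum⟩ := brauer_local (G := G) p
  exact ⟨m, l, hm, hl, hsum⟩

end Cfsg.Agent.S0874
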