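import Cfsg.Statements.S0186
import Cfsg.Agent.Lib.Helper78.CharLinear
import Cfsg.Agent.Lib.Helper78.CharCount
import Cfsg.Agent.Lib.Helper3.CharOrtho
import Cfsg.Agent.Lib.Helper79.Inflation

set_option autoImplicit false
open Cfsg

namespace Cfsg.Agent.S0186

open Cfsg.Agent.Helper78
open scoped ComplexConjugate commutatorElement

/-- restriction of a character to a subgroup is a character -/
theorem isCharacter_restrict {G : Type*} [Group G] (H : Subgroup G) {χ : G → ℂ}
    (h : IsCharacter G χ) : IsCharacter H (fun x : H => χ x) := by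
  obtain ⟨n, ρ, rfl⟩ := h
  exact ⟨n, ρ.comp H.subtype, rfl⟩

/-- if an irreducible character of `G` has degree `< p`, its restriction to a `p`-subgroup
is trivial on commutators. -/
theorem apply_commutator_of_degree_lt {G : Type*} [Group G] [Finite G] (p : ℕ) [Fact p.Prime]
    (P : Subgroup G) (hP : IsPGroup p P) (χ : IrrCharacter G)
    (hdeg : charDegree (χ : G → ℂ) < p) (x : P) (hx : x ∈ commutator P) :
    (χ : G → ℂ) x = (χ : G → ℂ) 1 := by
  classical
  have := Fintype.ofFinite G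
  have : Fintype P := Fintype.ofFinite P
  have hres := isCharacter_restrict P (IsIrrCharacter.isCharacter χ.2)
  obtain ⟨m, hm⟩ := Cfsg.Agent.Helper78.IsCharacter.exists_irr_decomp hres
  have hval : ∀ y : P, (χ : G → ℂ) y = ∑ ψ : IrrCharacter P, (m ψ : ℂ) * (ψ : P → ℂ) y := by
    intro y
    have := congrFun hm y
    simpa [Finset.sum_apply] using this
  -- each constituent with positive multiplicity is linear
  have hlin : ∀ ψ : IrrCharacter P, m ψ ≠ 0 → (ψ : P → ℂ) 1 = 1 := by
    intro ψ hψ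
    obtain ⟨h1, h2⟩ := irr_charDegree ψ.2
    have hdvd := Cfsg.Agent.Helper79.irr_degree_dvd_card ψ
    obtain ⟨c, hc⟩ := IsPGroup.iff_card.1 hP
    rw [hc] at hdvd
    obtain ⟨j, hj, hj2⟩ := (Nat.dvd_prime_pow (Fact.out : p.Prime)).1 hdvd
    -- degree of ψ ≤ degree of χ
    have hle : charDegree (ψ : P → ℂ) ≤ charDegree (χ : G → ℂ) := by
      have h3 := hval 1
      obtain ⟨g1, g2⟩ := irr_charDegree χ.2
      have h4 : ((charDegree (χ : G → ℂ) : ℕ) : ℂ) =
          ((∑ φ : IrrCharacter P, m φ * charDegree (φ : P → ℂ) : ℕ) : ℂ) := by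
        rw [← g1]
        have : ((1 : P) : G) = 1 := rfl
        rw [← this, h3]
        push_cast
        apply Finset.sum_congr rfl
        intro φ _
        rw [(irr_charDegree φ.2).1]
      have h5 : charDegree (χ : G → ℂ) = ∑ φ : IrrCharacter P, m φ * charDegree (φ : P → ℂ) := by
        exact_mod_cast h4
      rw [h5]
      calc charDegree (ψ : P → ℂ) ≤ m ψ * charDegree (ψ : P → ℂ) :=
            Nat.le_mul_of_pos_left _ (Nat.pos_of_ne_zero hψ)
        _ ≤ _ := Finset.single_le_sum (f := fun φ : IrrCharacter P => m φ * charDegree (φ : P → ℂ))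
            (fun _ _ => Nat.zero_le _) (Finset.mem_univ ψ)
    have hlt : charDegree (ψ : P → ℂ) < p := lt_of_le_of_lt hle hdeg
    rw [hj2] at hlt
    have hj0 : j = 0 := by
      by_contra hne
      have : p ^ 1 ≤ p ^ j := Nat.pow_le_pow_right (Fact.out : p.Prime).pos (Nat.one_le_iff_ne_zero.2 hne)
      rw [pow_one] at this
      omega
    rw [h1, hj2, hj0]
    simp
  rw [hval x]
  have h1 : ((1 : P) : G) = 1 := rfl
  rw [← h1, hval 1]
  apply Finset.sum_congr rfl
  intro ψ _
  by_cases hψ : m ψ = 0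
  · rw [hψ]; simp
  · rw [linear_char_eq_one_of_mem_commutator ψ.2 (hlin ψ hψ) x hx, hlin ψ hψ]

/-- In a simple group with noncommuting `a b` in a `p`-subgroup, an irreducible character of
degree `< p` is constant. -/
theorem const_of_degree_lt {G : Type*} [Group G] [Finite G] [IsSimpleGroup G] (p : ℕ) [Fact p.Prime]
    (P : Subgroup G) (hP : IsPGroup p P) (a b : G) (ha : a ∈ P) (hb : b ∈ P) (hab : a * b ≠ b * a)
    (χ : IrrCharacter G) (hdeg : charDegree (χ : G → ℂ) < p) (g : G) :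
    (χ : G → ℂ) g = (χ : G → ℂ) 1 := by
  have hx : ⁅(⟨a, ha⟩ : P), (⟨b, hb⟩ : P)⁆ ∈ commutator P :=
    Subgroup.commutator_mem_commutator (Subgroup.mem_top _) (Subgroup.mem_top _)
  have h1 := apply_commutator_of_degree_lt p P hP χ hdeg _ hx
  have h2 : ((⁅(⟨a, ha⟩ : P), (⟨b, hb⟩ : P)⁆ : P) : G) ∈ Cfsg.Agent.Helper79.irrKer χ := h1
  have h3 : ((⁅(⟨a, ha⟩ : P), (⟨b, hb⟩ : P)⁆ : P) : G) ≠ 1 := by
    intro h
    apply hab
    have h4 : ⁅a, b⁆ = 1 := by
      simpa [commutatorElement_def] using h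
    exact commutatorElement_eq_one_iff_mul_comm.1 h4
  rcases (Cfsg.Agent.Helper79.irrKer_normal χ).eq_bot_or_eq_top with h | h
  · rw [h, Subgroup.mem_bot] at h2
    exact absurd h2 h3
  · have : g ∈ Cfsg.Agent.Helper79.irrKer χ := by rw [h]; exact Subgroup.mem_top g
    exact this

/-- two constant irreducible characters coincide -/
theorem eq_of_const {G : Type*} [Group G] [Finite G] (χ ψ : IrrCharacter G)
    (hχ : ∀ g, (χ : G → ℂ) g = (χ : G → ℂ) 1) (hψ : ∀ g, (ψ : G → ℂ) g = (ψ : G → ℂ) 1) :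
    χ = ψ := by
  classical
  have := Fintype.ofFinite G
  have h1 := classInner_irr χ ψ
  by_contra hne
  rw [if_neg hne] at h1
  unfold classInner at h1
  have h2 : ∑ g : G, (χ : G → ℂ) g * conj ((ψ : G → ℂ) g) =
      (Nat.card G : ℂ) * ((χ : G → ℂ) 1 * conj ((ψ : G → ℂ) 1)) := by
    rw [Finset.sum_congr rfl (fun g _ => by rw [hχ g, hψ g])]
    rw [Finset.sum_const, Finset.card_univ, nsmul_eq_mul, Nat.card_eq_fintype_card]
  rw [h2] at h1
  have h3 : (Nat.card G : ℂ) ≠ 0 := natCard_ne_zero_complex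
  have h4 : (χ : G → ℂ) 1 ≠ 0 := irr_apply_one_ne_zero χ.2
  have h5 : conj ((ψ : G → ℂ) 1) ≠ 0 := by
    rw [Ne, map_eq_zero]
    exact irr_apply_one_ne_zero ψ.2
  rcases mul_eq_zero.1 h1 with h | h
  · exact inv_ne_zero h3 h
  · rcases mul_eq_zero.1 h with h | h
    · exact h3 h
    · rcases mul_eq_zero.1 h with h | h
      · exact h4 h
      · exact h5 h

/-- a `p`-group containing two noncommuting elements has order divisible by `p ^ 2` -/
theorem sq_dvd_card_of_not_comm {G : Type*} [Group G] [Finite G] (p : ℕ) [Fact p.Prime]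
    (P : Subgroup G) (hP : IsPGroup p P) (a b : G) (ha : a ∈ P) (hb : b ∈ P)
    (hab : a * b ≠ b * a) : p ^ 2 ∣ Nat.card G := by
  obtain ⟨c, hc⟩ := IsPGroup.iff_card.1 hP
  have hc2 : 2 ≤ c := by
    by_contra hlt
    have hc01 : c = 0 ∨ c = 1 := by omega
    rcases hc01 with h0 | h1
    · rw [h0, pow_zero] at hc
      have hbot : P = ⊥ := Subgroup.card_eq_one.1 hc
      rw [hbot, Subgroup.mem_bot] at ha
      apply hab
      rw [ha, one_mul, mul_one]
    · rw [h1, pow_one] at hc
      have hcyc : IsCyclic P := isCyclic_of_prime_card hc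
      have hcomm := (IsCyclic.commGroup (α := P)).mul_comm ⟨a, ha⟩ ⟨b, hb⟩
      apply hab
      exact congrArg Subtype.val hcomm
  calc p ^ 2 ∣ p ^ c := pow_dvd_pow p hc2
    _ = Nat.card P := hc.symm
    _ ∣ Nat.card G := Subgroup.card_subgroup_dvd_card P

/-- Let G be a finite simple group of order n and p a prime dividing n. If G has more than n / p^2 conjugacy classes, then every Sylow p-subgroup of G is abelian. -/
theorem result {G : Type*} [Group G] [Finite G] [IsSimpleGroup G] (p : ℕ) [Fact p.Prime] (hp : p ∣ Nat.card G) (hmany : Nat.card G < p ^ 2 * Nat.card (ConjClasses G)) (P : Sylow p G) (a b : G) (ha : a ∈ P) (hb : b ∈ P) : a * b = b * a := by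
  classical
  by_contra hab
  have := Fintype.ofFinite G
  have hPp : IsPGroup p (P : Subgroup G) := P.isPGroup'
  have hsmall : ∀ χ ψ : IrrCharacter G, charDegree (χ : G → ℂ) < p → charDegree (ψ : G → ℂ) < p →
      χ = ψ := fun χ ψ h1 h2 =>
    eq_of_const χ ψ (const_of_degree_lt p P hPp a b ha hb hab χ h1)
      (const_of_degree_lt p P hPp a b ha hb hab ψ h2)
  have hsum : ∑ χ : IrrCharacter G, (charDegree (χ : G → ℂ)) ^ 2 = Nat.card G := by
    have h := sum_irr_one_mul (1 : G)
    rw [if_pos rfl] at h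
    have h2 : ((∑ χ : IrrCharacter G, (charDegree (χ : G → ℂ)) ^ 2 : ℕ) : ℂ) = (Nat.card G : ℂ) := by
      rw [← h]
      push_cast
      apply Finset.sum_congr rfl
      intro χ _
      rw [(irr_charDegree χ.2).1]
      ring
    exact_mod_cast h2
  have hk : Fintype.card (IrrCharacter G) = Nat.card (ConjClasses G) := by
    rw [← Nat.card_eq_fintype_card]
    exact Cfsg.Agent.Helper3.card_irr_eq_card_conjClasses
  have hkpos : 0 < Fintype.card (IrrCharacter G) := by
    rw [hk]
    exact Nat.card_pos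
  obtain ⟨χ0, hχ0⟩ : ∃ χ0 : IrrCharacter G, ∀ χ : IrrCharacter G, χ ≠ χ0 →
      p ≤ charDegree (χ : G → ℂ) := by
    by_cases h : ∃ χ0 : IrrCharacter G, charDegree (χ0 : G → ℂ) < p
    · obtain ⟨χ0, h0⟩ := h
      refine ⟨χ0, fun χ hne => ?_⟩
      by_contra hlt
      exact hne (hsmall χ χ0 (not_le.1 hlt) h0)
    · obtain ⟨χ0⟩ := Fintype.card_pos_iff.1 hkpos
      refine ⟨χ0, fun χ _ => ?_⟩
      by_contra hlt
      exact h ⟨χ, not_le.1 hlt⟩
  have hlower : (Fintype.card (IrrCharacter G) - 1) * p ^ 2 + 1 ≤ Nat.card G := by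
    rw [← hsum, ← Finset.add_sum_erase Finset.univ _ (Finset.mem_univ χ0)]
    have h1 : 1 ≤ (charDegree (χ0 : G → ℂ)) ^ 2 :=
      Nat.one_le_pow _ _ (irr_charDegree χ0.2).2
    have h2 : (Fintype.card (IrrCharacter G) - 1) * p ^ 2 ≤
        ∑ χ ∈ Finset.univ.erase χ0, (charDegree (χ : G → ℂ)) ^ 2 := by
      calc (Fintype.card (IrrCharacter G) - 1) * p ^ 2
          = ∑ χ ∈ Finset.univ.erase χ0, p ^ 2 := by
            rw [Finset.sum_const, Finset.card_erase_of_mem (Finset.mem_univ χ0), Finset.card_univ,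
              smul_eq_mul]
        _ ≤ _ := Finset.sum_le_sum (fun χ hχ =>
            Nat.pow_le_pow_left (hχ0 χ (Finset.ne_of_mem_erase hχ)) 2)
    omega
  obtain ⟨m, hm⟩ := sq_dvd_card_of_not_comm p P hPp a b ha hb hab
  rw [← hk] at hmany
  rw [hm] at hmany hlower
  have h1 : m < Fintype.card (IrrCharacter G) := Nat.lt_of_mul_lt_mul_left hmany
  have h2 : m ≤ Fintype.card (IrrCharacter G) - 1 := by omega
  have h3 : p ^ 2 * m ≤ (Fintype.card (IrrCharacter G) - 1) * p ^ 2 := by
    rw [mul_comm]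
    exact Nat.mul_le_mul_right _ h2
  omega

end Cfsg.Agent.S0186
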