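import Cfsg.Statements.S1043
import Cfsg.Agent.Lib.Helper18.AddAll
import Cfsg.Agent.S1041

set_option autoImplicit false
open Cfsg

namespace Cfsg.Agent.S1043

open Cfsg.Lie Cfsg.Agent.Helper18

abbrev Good (D : ChevalleyDatum) : Prop :=
  D ∈ [chevG2, chevB2, chevD4, chevF4, chevE6, chevE7, chevE8]

theorem neg_facts (D : ChevalleyDatum) (hD : Good D) :
    ∀ r < D.nroots, D.IsNegRoot r → D.IsPosRoot (D.neg r) ∧ D.neg (D.neg r) = r := by
  simp only [Good, List.mem_cons, List.not_mem_nil, or_false] at hD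
  rcases hD with rfl | rfl | rfl | rfl | rfl | rfl | rfl
  · decide +kernel
  · decide +kernel
  · decide +kernel
  · decide +kernel
  · decide +kernel
  · decide +kernel
  · decide +kernel

section

variable {F : Type*} [Field F] (D : ChevalleyDatum) (hD : Good D)

include hD

/-- The root element `x_r(t)` as an element of the general linear group. -/
noncomputable def xU (r : ℕ) (t : F) : GL D.Idx F :=
  ⟨D.x F r t, D.x F r (-t), by rw [x_add D hD, add_neg_cancel, x_zero], by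
    rw [x_add D hD, neg_add_cancel, x_zero]⟩

@[simp] theorem xU_val (r : ℕ) (t : F) : ((xU D hD r t : GL D.Idx F) : Matrix D.Idx D.Idx F) = D.x F r t := rfl

theorem xU_inv (r : ℕ) (t : F) : (xU D hD r t)⁻¹ = xU D hD r (-t) := by
  apply Units.ext
  rfl

theorem xU_mem_group (r : ℕ) (t : F) : xU D hD r t ∈ D.group F := by
  by_cases hr : r < D.nroots
  · apply Subgroup.subset_closure
    refine ⟨⟨r, hr⟩, t, ?_⟩
    rw [xU_val, ChevalleyDatum.x, dif_pos hr]
  · have : xU D hD r t = 1 := by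
      apply Units.ext
      rw [xU_val, ChevalleyDatum.x, dif_neg hr]
      rfl
    rw [this]
    exact Subgroup.one_mem _

theorem eq_of_nMat (g : GL D.Idx F) (r : ℕ) (t : F) (hg : (g : Matrix D.Idx D.Idx F) = D.nMat F r t) :
    g = xU D hD r t * xU D hD (D.neg r) (-t⁻¹) * xU D hD r t := by
  apply Units.ext
  rw [hg]
  simp [ChevalleyDatum.nMat, ChevalleyDatum.nWord, ChevalleyDatum.wordMat, mul_assoc]

theorem eq_of_hMat (g : GL D.Idx F) (r : ℕ) (t : F) (hg : (g : Matrix D.Idx D.Idx F) = D.hMat F r t) :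
    g = (xU D hD r t * xU D hD (D.neg r) (-t⁻¹) * xU D hD r t) *
      (xU D hD r (-1) * xU D hD (D.neg r) (-(-1 : F)⁻¹) * xU D hD r (-1)) := by
  apply Units.ext
  rw [hg]
  simp [ChevalleyDatum.hMat, ChevalleyDatum.hWord, ChevalleyDatum.nWord, ChevalleyDatum.wordMat, mul_assoc]

theorem diagonal_le : D.diagonalSubgroup F ≤ D.group F := by
  rw [ChevalleyDatum.diagonalSubgroup, Subgroup.closure_le]
  rintro g ⟨r, t, _, _, hg⟩
  rw [eq_of_hMat D hD g r t hg]
  have := fun r t => xU_mem_group (F := F) D hD r t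
  exact Subgroup.mul_mem _ (Subgroup.mul_mem _ (Subgroup.mul_mem _ (this _ _) (this _ _)) (this _ _))
    (Subgroup.mul_mem _ (Subgroup.mul_mem _ (this _ _) (this _ _)) (this _ _))

omit hD in
theorem posUnipotent_le : D.posUnipotent F ≤ D.group F := by
  rw [ChevalleyDatum.posUnipotent, Subgroup.closure_le]
  rintro g ⟨r, t, hr, hg⟩
  apply Subgroup.subset_closure
  refine ⟨⟨r, hr.1⟩, t, ?_⟩
  rw [hg, ChevalleyDatum.x, dif_pos hr.1]

theorem borel_le : D.borelSubgroup F ≤ D.group F :=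
  sup_le (posUnipotent_le D) (diagonal_le D hD)

theorem monomial_le : D.monomialSubgroup F ≤ D.group F := by
  apply sup_le (diagonal_le D hD)
  rw [Subgroup.closure_le]
  rintro g ⟨r, _, hg⟩
  rw [eq_of_nMat D hD g r 1 hg]
  have := fun r t => xU_mem_group (F := F) D hD r t
  exact Subgroup.mul_mem _ (Subgroup.mul_mem _ (this _ _) (this _ _)) (this _ _)

theorem xU_pos_mem (p : ℕ) (hp : D.IsPosRoot p) (t : F) : xU D hD p t ∈ D.borelSubgroup F ⊔ D.monomialSubgroup F := by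
  apply Subgroup.mem_sup_left
  apply Subgroup.mem_sup_left
  apply Subgroup.subset_closure
  exact ⟨p, t, hp, rfl⟩

theorem xU_neg_mem (r : ℕ) (hr : r < D.nroots) (hneg : D.IsNegRoot r) (t : F) :
    xU D hD r t ∈ D.borelSubgroup F ⊔ D.monomialSubgroup F := by
  obtain ⟨hp, hpr⟩ := neg_facts D hD r hr hneg
  set p := D.neg r with hpdef
  set P := D.borelSubgroup F ⊔ D.monomialSubgroup F with hP
  have hU : ∀ s : F, xU D hD p s ∈ P := xU_pos_mem D hD p hp
  -- n_p(1) ∈ N
  have hn1 : xU D hD p (1 : F) * xU D hD r (-(1 : F)⁻¹) * xU D hD p (1 : F) ∈ P := by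
    apply Subgroup.mem_sup_right
    apply Subgroup.mem_sup_right
    apply Subgroup.subset_closure
    refine ⟨p, hp.1, ?_⟩
    simp [ChevalleyDatum.nMat, ChevalleyDatum.nWord, ChevalleyDatum.wordMat, mul_assoc, hpr]
  -- x_r(-1) ∈ P
  have hxm1 : xU D hD r (-1 : F) ∈ P := by
    have h2 : xU D hD r (-(1 : F)⁻¹) = (xU D hD p 1)⁻¹ * (xU D hD p 1 * xU D hD r (-(1 : F)⁻¹) * xU D hD p 1) * (xU D hD p 1)⁻¹ := by
      group
    have h3 : (-(1 : F)⁻¹) = -1 := by simp
    rw [h3] at h2 hn1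
    rw [h2]
    exact Subgroup.mul_mem _ (Subgroup.mul_mem _ (Subgroup.inv_mem _ (hU 1)) hn1) (Subgroup.inv_mem _ (hU 1))
  have hx1 : xU D hD r (1 : F) ∈ P := by
    have : xU D hD r (1 : F) = (xU D hD r (-1 : F))⁻¹ := by rw [xU_inv, neg_neg]
    rw [this]
    exact Subgroup.inv_mem _ hxm1
  -- n_p(-1) ∈ P
  have hnm1 : xU D hD p (-1 : F) * xU D hD r (1 : F) * xU D hD p (-1 : F) ∈ P :=
    Subgroup.mul_mem _ (Subgroup.mul_mem _ (hU _) hx1) (hU _)
  by_cases ht : t = 0
  · have : xU D hD r t = 1 := by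
      apply Units.ext
      rw [xU_val, ht, x_zero]
      rfl
    rw [this]
    exact Subgroup.one_mem _
  · set s : F := -t⁻¹ with hs
    have hs0 : s ≠ 0 := by simp [hs, ht]
    have hst : -s⁻¹ = t := by simp [hs]
    -- h_p(s) ∈ H
    have hh : (xU D hD p s * xU D hD r (-s⁻¹) * xU D hD p s) *
        (xU D hD p (-1) * xU D hD r (-(-1 : F)⁻¹) * xU D hD p (-1)) ∈ P := by
      apply Subgroup.mem_sup_left
      apply Subgroup.mem_sup_right
      apply Subgroup.subset_closure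
      refine ⟨p, s, hp.1, hs0, ?_⟩
      simp [ChevalleyDatum.hMat, ChevalleyDatum.hWord, ChevalleyDatum.nWord, ChevalleyDatum.wordMat, mul_assoc, hpr]
    have h4 : (-(-1 : F)⁻¹) = 1 := by simp
    rw [h4, hst] at hh
    have h5 : xU D hD r t = (xU D hD p s)⁻¹ * ((xU D hD p s * xU D hD r t * xU D hD p s) *
        (xU D hD p (-1) * xU D hD r 1 * xU D hD p (-1))) * (xU D hD p (-1) * xU D hD r 1 * xU D hD p (-1))⁻¹ *
        (xU D hD p s)⁻¹ := by
      group
    rw [h5]
    exact Subgroup.mul_mem _ (Subgroup.mul_mem _ (Subgroup.mul_mem _ (Subgroup.inv_mem _ (hU s)) hh)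
      (Subgroup.inv_mem _ hnm1)) (Subgroup.inv_mem _ (hU s))

theorem sup_eq : D.borelSubgroup F ⊔ D.monomialSubgroup F = D.group F := by
  apply le_antisymm (sup_le (borel_le D hD) (monomial_le D hD))
  rw [ChevalleyDatum.group, Subgroup.closure_le]
  rintro g ⟨r, t, hg⟩
  have hg' : g = xU D hD r.val t := by
    apply Units.ext
    rw [hg, xU_val, ChevalleyDatum.x, dif_pos r.2]
  rw [hg']
  rcases Cfsg.Agent.S1041.pos_or_neg D hD r.val r.2 with h | h
  · exact xU_pos_mem D hD r.val h t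
  · exact xU_neg_mem D hD r.val r.2 h t

end

theorem result {F : Type*} [Field F] (D : Cfsg.Lie.ChevalleyDatum) (hD : D ∈ [Cfsg.Lie.chevG2, Cfsg.Lie.chevB2, Cfsg.Lie.chevD4, Cfsg.Lie.chevF4, Cfsg.Lie.chevE6, Cfsg.Lie.chevE7, Cfsg.Lie.chevE8]) :
    D.borelSubgroup F ≤ D.group F ∧ D.monomialSubgroup F ≤ D.group F ∧ D.borelSubgroup F ⊔ D.monomialSubgroup F = D.group F :=
  ⟨borel_le D hD, monomial_le D hD, sup_eq D hD⟩

end Cfsg.Agent.S1043
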