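import Cfsg.Statements.S0905
import Mathlib
import Cfsg.Agent.Lib.Helper15.AugNilp

set_option autoImplicit false
open Cfsg

namespace Cfsg.Agent.S0905

open Cfsg.Agent.Helper15 MonoidAlgebra

variable {G : Type*} [Group G]

/-- the part of the class of `g` in the coset `c` -/
def fibre (N : Subgroup G) (g : G) (c : G ⧸ N) : Set G :=
  {x | IsConj g x ∧ (x : G ⧸ N) = c}

@[reducible] noncomputable def act (N : Subgroup G) [hN : N.Normal] (g : G) (c : G ⧸ N) :
    MulAction N (fibre N g c) where
  smul u x := ⟨(u : G) * x.1 * (u : G)⁻¹, x.2.1.trans (isConj_iff.mpr ⟨u, rfl⟩), by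
    have h1 : ((u : G) : G ⧸ N) = 1 := (QuotientGroup.eq_one_iff _).mpr u.2
    rw [QuotientGroup.mk_mul, QuotientGroup.mk_mul, QuotientGroup.mk_inv, h1, x.2.2]
    simp⟩
  one_smul x := by
    apply Subtype.ext
    show ((1 : N) : G) * x.1 * ((1 : N) : G)⁻¹ = x.1
    simp
  mul_smul u v x := by
    apply Subtype.ext
    show ((u * v : N) : G) * x.1 * ((u * v : N) : G)⁻¹ = (u : G) * ((v : G) * x.1 * (v : G)⁻¹) * (u : G)⁻¹
    simp only [Subgroup.coe_mul, mul_inv_rev, mul_assoc]

lemma card_fibre_dvd [Finite G] (p : ℕ) [Fact p.Prime] (N : Subgroup G) [hN : N.Normal]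
    (hNp : IsPGroup p N) (g : G) (hg : g ∉ Subgroup.centralizer (N : Set G)) (c : G ⧸ N) :
    p ∣ Nat.card (fibre N g c) := by
  let _ := act N g c
  have key := hNp.card_modEq_card_fixedPoints (fibre N g c)
  have hempty : IsEmpty (MulAction.fixedPoints N (fibre N g c)) := by
    constructor
    rintro ⟨x, hx⟩
    apply hg
    -- x centralizes N
    have hxc : ∀ u ∈ N, u * x.1 = x.1 * u := by
      intro u hu
      have h1 := hx ⟨u, hu⟩
      have h2 : u * x.1 * u⁻¹ = x.1 := congrArg Subtype.val h1
      calc u * x.1 = (u * x.1 * u⁻¹) * u := by group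
        _ = x.1 * u := by rw [h2]
    obtain ⟨k, hk⟩ := isConj_iff.mp x.2.1
    -- k * g * k⁻¹ = x
    intro u hu
    have hu' : k * u * k⁻¹ ∈ N := hN.conj_mem u hu k
    have h3 := hxc _ hu'
    rw [← hk] at h3
    have : k * (u * g) * k⁻¹ = k * (g * u) * k⁻¹ := by
      calc k * (u * g) * k⁻¹ = k * u * k⁻¹ * (k * g * k⁻¹) := by group
        _ = k * g * k⁻¹ * (k * u * k⁻¹) := h3
        _ = k * (g * u) * k⁻¹ := by group
    have := mul_left_cancel (mul_right_cancel this)
    exact this
  have h0 : Nat.card (MulAction.fixedPoints N (fibre N g c)) = 0 := Nat.card_of_isEmpty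
  rw [h0] at key
  exact (Nat.modEq_zero_iff_dvd).mp key

/-- The main statement for a normal `p`-subgroup. -/
theorem classSum_nilpotent [Finite G] (p : ℕ) [Fact p.Prime] (F : Type*) [Field F] [CharP F p]
    (N : Subgroup G) [hN : N.Normal] (hNp : IsPGroup p N) (g : G)
    (hg : g ∉ Subgroup.centralizer (N : Set G)) :
    IsNilpotent (∑ᶠ x ∈ ConjClasses.carrier (ConjClasses.mk g), MonoidAlgebra.single x (1 : F) : MonoidAlgebra F G) := by
  classical
  obtain ⟨n, hn⟩ := (IsPGroup.iff_card).mp hNp
  have hbot := augSpan_pow_eq_bot F p N n hn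
  refine ⟨p ^ n, pow_eq_zero_of_mem F N (p ^ n) hbot _ ?_⟩
  apply ker_le_top_mul_augSpan
  have : Fintype G := Fintype.ofFinite G
  have hfin : (ConjClasses.carrier (ConjClasses.mk g)).Finite := Set.toFinite _
  rw [finsum_mem_eq_finite_toFinset_sum _ hfin, map_sum]
  -- compare coefficients
  apply MonoidAlgebra.coeff_injective
  ext c
  rw [MonoidAlgebra.coeff_sum, Finsupp.finsetSum_apply]
  have h1 : ∀ x : G, ((mapDomainAlgHom F F (QuotientGroup.mk' N)) (single x (1 : F))).coeff c =
      if (x : G ⧸ N) = c then (1 : F) else 0 := by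
    intro x
    have : (mapDomainAlgHom F F (QuotientGroup.mk' N)) (single x (1 : F)) =
        single ((x : G ⧸ N)) (1 : F) := by simp
    rw [this, coeff_single, Finsupp.single_apply]
  simp only [h1]
  rw [Finset.sum_boole]
  have hcard : (Finset.filter (fun x : G => (x : G ⧸ N) = c) hfin.toFinset).card =
      Nat.card (fibre N g c) := by
    rw [Nat.card_eq_fintype_card, ← Set.toFinset_card]
    congr 1
    ext x
    rw [Finset.mem_filter, Set.Finite.mem_toFinset, Set.mem_toFinset,
      ConjClasses.mem_carrier_iff_mk_eq, ConjClasses.mk_eq_mk_iff_isConj, isConj_comm]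
    rfl
  rw [hcard]
  simp only [MonoidAlgebra.coeff_zero, Finsupp.coe_zero, Pi.zero_apply]
  exact (CharP.cast_eq_zero_iff F p _).mpr (card_fibre_dvd p N hNp g hg c)

/-- Let F be a field of characteristic p and let g be an element of the finite group G no conjugate of which centralizes O_p(G). Then the class sum of g is a nilpotent element of the group algebra F[G]. -/
theorem result {G : Type*} [Group G] [Finite G] (p : ℕ) [Fact p.Prime] (F : Type*) [Field F] [CharP F p] (g : G) (hg : ∀ x : G, IsConj g x → x ∉ Subgroup.centralizer (Cfsg.pCore p G : Set G)) : IsNilpotent (∑ᶠ x ∈ ConjClasses.carrier (ConjClasses.mk g), MonoidAlgebra.single x (1 : F) : MonoidAlgebra F G) := by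
  have hg' := hg g (IsConj.refl g)
  -- find a normal p-subgroup not centralized by g
  have : ∃ N : Subgroup G, N.Normal ∧ IsPGroup p N ∧ g ∉ Subgroup.centralizer (N : Set G) := by
    by_contra hcon
    push Not at hcon
    apply hg'
    have hle : Cfsg.pCore p G ≤ Subgroup.centralizer ({g} : Set G) := by
      apply sSup_le
      rintro N ⟨hN1, hN2⟩
      have := hcon N hN1 hN2
      intro u hu
      rw [Subgroup.mem_centralizer_iff]
      intro y hy
      rw [Set.mem_singleton_iff] at hy
      subst hy
      exact (this u hu).symm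
    rw [Subgroup.mem_centralizer_iff]
    intro u hu
    have := hle hu
    rw [Subgroup.mem_centralizer_iff] at this
    exact (this g rfl).symm
  obtain ⟨N, hN1, hN2, hN3⟩ := this
  exact classSum_nilpotent p F N hN2 g hN3

end Cfsg.Agent.S0905
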