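import Cfsg.Statements.S4653
import Mathlib
import Cfsg.Agent.Lib.Helper77.Support

set_option autoImplicit false
open Cfsg

namespace Cfsg.Agent.S4653

open Cfsg.Agent.Helper77

/-- Fix a prime p and a maximal ideal M of the algebraic integers containing p. Let P be a normal p-subgroup of the finite group G and B a p-block of G. Then the idempotent of B is supported on C_G(P): its coefficient at every element of G outside C_G(P) is zero. -/
theorem result {G : Type*} [Group G] [Fintype G] (p : ℕ) [Fact p.Prime] (M : Ideal Cfsg.AlgInt) (hM : Cfsg.IsPModular p M) (P : Subgroup G) [P.Normal] (hP : IsPGroup p P) (B : Set (Cfsg.IrrCharacter G)) (hB : Cfsg.IsPBlock M B) (g : G) (hg : g ∉ Subgroup.centralizer (P : Set G)) : Cfsg.blockCoeff B g = 0 := by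
  classical
  have hpr := isPrime_of_isPModular hM
  obtain ⟨χ₀, hχ₀⟩ := nonempty_of_isPBlock hB
  have hCn : (Subgroup.centralizer (P : Set G)).Normal := inferInstance
  refine blockCoeff_of_isConvClosed hB _ (isConvClosed_support (Subgroup.centralizer (P : Set G)))
    hχ₀ ?_ g hg
  intro ψ hψ
  have : ∃ x : G, ¬ MemLocalIdeal M (centralChar (χ₀ : G → ℂ) x - centralChar (ψ : G → ℂ) x) := by
    by_contra hcon
    push Not at hcon
    exact hψ (mem_of_sameBlock hB hχ₀ hcon)
  obtain ⟨x, hx⟩ := this
  refine ⟨x, classInd_support _ ?_, hx⟩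
  by_contra hxC
  apply hx
  exact memLocalIdeal_sub
    (memLocalIdeal_centralChar_of_notMem_centralizer hM P hP x hxC χ₀.2)
    (memLocalIdeal_centralChar_of_notMem_centralizer hM P hP x hxC ψ.2)

end Cfsg.Agent.S4653
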