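import Cfsg.Statements.S0932
import Mathlib

set_option autoImplicit false
open Cfsg

namespace Cfsg.Agent.S0932

open scoped Classical in
/-- Fibre of the conjugation map `x ↦ x⁻¹ g x` has the size of the centralizer. -/
theorem card_fiber_conj {G : Type*} [Group G] [Fintype G] (g y : G) :
    (Finset.univ.filter (fun x : G => x⁻¹ * g * x = y⁻¹ * g * y)).card
      = Nat.card (Subgroup.centralizer ({g} : Set G)) := by
  rw [Nat.card_eq_fintype_card, ← Fintype.card_subtype]
  refine Fintype.card_congr ?_
  refine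
    { toFun := fun x => ⟨x.1 * y⁻¹, ?_⟩
      invFun := fun c => ⟨c.1 * y, ?_⟩
      left_inv := ?_
      right_inv := ?_ }
  · rw [Subgroup.mem_centralizer_iff]
    intro h hh
    rw [Set.mem_singleton_iff] at hh
    subst hh
    have hx := x.2
    -- x⁻¹ h x = y⁻¹ h y
    have : h * (x.1 * y⁻¹) = x.1 * (x.1⁻¹ * h * x.1) * y⁻¹ := by group
    rw [this, hx]; group
  · have hc := c.2
    rw [Subgroup.mem_centralizer_iff] at hc
    have h1 := hc g rfl
    show (c.1 * y)⁻¹ * g * (c.1 * y) = y⁻¹ * g * y
    have : (c.1 * y)⁻¹ * g * (c.1 * y) = y⁻¹ * (c.1⁻¹ * (g * c.1)) * y := by group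
    rw [this, h1]; group
  · intro x; ext; simp
  · intro c; ext; simp

open scoped Classical in
theorem sum_conj_eq {G : Type*} [Group G] [Fintype G] (g : G) (f : G → ℂ) :
    ∑ x : G, f (x⁻¹ * g * x)
      = (Nat.card (Subgroup.centralizer ({g} : Set G)) : ℂ) *
          ∑ k ∈ Finset.univ.filter (fun k : G => IsConj g k), f k := by
  rw [Finset.sum_comp f (fun x : G => x⁻¹ * g * x)]
  have himg : (Finset.univ.image (fun x : G => x⁻¹ * g * x))
      = Finset.univ.filter (fun k : G => IsConj g k) := by
    ext k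
    simp only [Finset.mem_image, Finset.mem_univ, true_and, Finset.mem_filter]
    constructor
    · rintro ⟨x, rfl⟩
      rw [isConj_iff]
      exact ⟨x⁻¹, by group⟩
    · intro h
      rw [isConj_iff] at h
      obtain ⟨c, hc⟩ := h
      exact ⟨c⁻¹, by rw [← hc]; group⟩
  rw [himg, Finset.mul_sum]
  refine Finset.sum_congr rfl ?_
  intro k hk
  rw [Finset.mem_filter] at hk
  obtain ⟨c, hc⟩ := isConj_iff.mp hk.2
  have hk' : k = c⁻¹⁻¹ * g * c⁻¹ := by rw [← hc]; group
  rw [hk', card_fiber_conj g c⁻¹]
  simp [nsmul_eq_mul]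

open scoped Classical in
theorem finsum_subgroup_conj {G : Type*} [Group G] [Fintype G] (H : Subgroup G) (f : H → ℂ) (g : G) :
    ∑ᶠ h ∈ {h : H | IsConj g (h : G)}, f h
      = ∑ k ∈ Finset.univ.filter (fun k : G => IsConj g k), Cfsg.extendByZero H f k := by
  rw [finsum_mem_eq_finite_toFinset_sum _ (Set.toFinite _)]
  symm
  -- sum over k in G of extension = sum over h in H
  have hsplit : ∑ k ∈ Finset.univ.filter (fun k : G => IsConj g k), Cfsg.extendByZero H f k
      = ∑ k ∈ (Finset.univ.filter (fun k : G => IsConj g k)).filter (fun k => k ∈ H),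
          Cfsg.extendByZero H f k := by
    rw [Finset.sum_filter (s := Finset.univ.filter (fun k : G => IsConj g k))]
    refine Finset.sum_congr rfl ?_
    intro k _
    split_ifs with hk
    · rfl
    · unfold Cfsg.extendByZero
      rw [Function.extend_apply']
      · rfl
      · rintro ⟨h, rfl⟩
        exact hk h.2
  rw [hsplit]
  refine Finset.sum_bij' (fun k hk => (⟨k, by
      simp only [Finset.mem_filter] at hk; exact hk.2⟩ : H)) (fun h _ => (h : G)) ?_ ?_ ?_ ?_ ?_
  · intro k hk
    simp only [Finset.mem_filter, Finset.mem_univ, true_and] at hk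
    simp only [Set.Finite.mem_toFinset, Set.mem_ofPred_eq]
    exact hk.1
  · intro h hh
    simp only [Set.Finite.mem_toFinset, Set.mem_ofPred_eq] at hh
    simp only [Finset.mem_filter, Finset.mem_univ, true_and]
    exact ⟨hh, h.2⟩
  · intro k _; rfl
  · intro h _; rfl
  · intro k hk
    simp only [Finset.mem_filter] at hk
    unfold Cfsg.extendByZero
    have : k = ((⟨k, hk.2⟩ : H) : G) := rfl
    conv_lhs => rw [this]
    rw [Subtype.val_injective.extend_apply]

/-- Let H be a subgroup of the finite group G and ξ a character of H. For every g ∈ G, the sum of ξ h / ξ 1 over the elements h ∈ H that are conjugate in G to g equals the central character at g of the character of G induced from ξ (class size times value divided by degree). -/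
theorem result {G : Type*} [Group G] [Fintype G] (H : Subgroup G) (ξ : H → ℂ) (hξ : Cfsg.IsCharacter H ξ) (g : G) : Cfsg.inducedCentralChar H ξ g = Cfsg.centralChar (Cfsg.indFun H ξ) g := by
  classical
  unfold Cfsg.inducedCentralChar Cfsg.centralChar Cfsg.indFun
  rw [finsum_subgroup_conj H (fun h => ξ h / ξ 1) g]
  rw [sum_conj_eq g (Cfsg.extendByZero H ξ)]
  -- the value at 1
  have h1 : ∑ x : G, Cfsg.extendByZero H ξ (x⁻¹ * 1 * x) = (Nat.card G : ℂ) * ξ 1 := by
    have : ∀ x : G, Cfsg.extendByZero H ξ (x⁻¹ * 1 * x) = ξ 1 := by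
      intro x
      have : x⁻¹ * 1 * x = ((1 : H) : G) := by simp
      rw [this]
      unfold Cfsg.extendByZero
      rw [Subtype.val_injective.extend_apply]
    simp only [this, Finset.sum_const, Finset.card_univ, nsmul_eq_mul, Nat.card_eq_fintype_card]
  rw [h1]
  have hext : ∀ k : G, Cfsg.extendByZero H (fun h => ξ h / ξ 1) k = Cfsg.extendByZero H ξ k / ξ 1 := by
    intro k
    unfold Cfsg.extendByZero
    by_cases hk : k ∈ H
    · have : k = ((⟨k, hk⟩ : H) : G) := rfl
      rw [this, Subtype.val_injective.extend_apply, Subtype.val_injective.extend_apply]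
    · rw [Function.extend_apply', Function.extend_apply']
      · simp
      · rintro ⟨h, rfl⟩; exact hk h.2
      · rintro ⟨h, rfl⟩; exact hk h.2
  simp only [hext]
  rw [← Finset.sum_div]
  set S := ∑ k ∈ Finset.univ.filter (fun k : G => IsConj g k), Cfsg.extendByZero H ξ k with hS
  have hidx : ((Subgroup.centralizer ({g} : Set G)).index : ℂ) *
      (Nat.card (Subgroup.centralizer ({g} : Set G)) : ℂ) = (Nat.card G : ℂ) := by
    rw [← Nat.cast_mul, mul_comm, Subgroup.card_mul_index]
  have hG : (Nat.card G : ℂ) ≠ 0 := by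
    rw [Nat.cast_ne_zero]; exact Nat.card_pos.ne'
  have hH : (Nat.card H : ℂ) ≠ 0 := by
    rw [Nat.cast_ne_zero]; exact Nat.card_pos.ne'
  by_cases hξ1 : ξ 1 = 0
  · simp [hξ1]
  · have hne : (Nat.card H : ℂ)⁻¹ * ((Nat.card G : ℂ) * ξ 1) ≠ 0 :=
      mul_ne_zero (inv_ne_zero hH) (mul_ne_zero hG hξ1)
    rw [div_eq_div_iff hξ1 hne, ← hidx]
    ring

end Cfsg.Agent.S0932
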