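import Cfsg.Statements.S0635
import Cfsg.Agent.Lib.Helper63.PLen
import Cfsg.Agent.Lib.Helper76.PSolvable

set_option autoImplicit false
set_option linter.style.haveILetI false
open Cfsg

namespace Cfsg.Agent.S0635

open Cfsg.Agent.Helper55 Cfsg.Agent.Helper63 Cfsg.Agent.Helper76

instance pPrimePCore_normal (p : ℕ) (G : Type*) [Group G] : (pPrimePCore p G).Normal := by
  unfold pPrimePCore; infer_instance

/-- Chains pull back along the quotient map. -/
theorem PL_comap {G : Type*} [Group G] {p : ℕ} (N : Subgroup G) [N.Normal] {k : ℕ}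
    {A B : Subgroup (G ⧸ N)} (h : PL p k A B) :
    PL p k (A.comap (QuotientGroup.mk' N)) (B.comap (QuotientGroup.mk' N)) := by
  have hrel : ∀ X Y : Subgroup (G ⧸ N),
      (X.comap (QuotientGroup.mk' N)).relIndex (Y.comap (QuotientGroup.mk' N)) = X.relIndex Y := by
    intro X Y
    rw [Subgroup.relIndex_comap,
      Subgroup.map_comap_eq_self_of_surjective (QuotientGroup.mk'_surjective N)]
  induction h with
  | base A B hAB hA hB hc =>
    refine PL.base _ _ (Subgroup.comap_mono hAB) (hA.comap _) (hB.comap _) ?_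
    rw [hrel]; exact hc
  | step k A B C D _ hBC hCD hC hD hpow hc ih =>
    refine PL.step k _ _ _ _ ih (Subgroup.comap_mono hBC) (Subgroup.comap_mono hCD) (hC.comap _)
      (hD.comap _) ?_ ?_
    · rw [hrel]; exact hpow
    · rw [hrel]; exact hc

/-- The centre of a Sylow `p`-subgroup of a `p`-soluble group lies in `O_{p',p}(G)`. -/
theorem center_sylow_le {G : Type*} [Group G] [Finite G] {p : ℕ} [Fact p.Prime]
    (hsol : IsPSolvable p G) (S : Sylow p G) (z : ↥(S : Subgroup G))
    (hz : z ∈ Subgroup.center ↥(S : Subgroup G)) : (z : G) ∈ pPrimePCore p G := by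
  show QuotientGroup.mk' (pPrimeCore p G) (z : G) ∈ pCore p (G ⧸ pPrimeCore p G)
  have hsol' : IsPSolvable p (G ⧸ pPrimeCore p G) := IsPSolvable.quotient hsol _
  have hbot : pPrimeCore p (G ⧸ pPrimeCore p G) = ⊥ := pPrimeCore_quotient_eq_bot p
  apply centralizer_pCore_le hsol' hbot
  rw [Subgroup.mem_centralizer_iff]
  intro q hq
  have hsurj := QuotientGroup.mk'_surjective (pPrimeCore p G)
  have h1 : q ∈ ((S.mapSurjective hsurj : Sylow p (G ⧸ pPrimeCore p G)) :
      Subgroup (G ⧸ pPrimeCore p G)) := pCore_le_sylow _ hq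
  rw [Sylow.coe_mapSurjective] at h1
  obtain ⟨s, hs, rfl⟩ := h1
  rw [← map_mul, ← map_mul]
  congr 1
  have h2 := (Subgroup.mem_center_iff.mp hz) ⟨s, hs⟩
  exact congrArg Subtype.val h2

/-- The image of a Sylow `p`-subgroup modulo `O_{p',p}(G)` has smaller class. -/
theorem nilpotencyClass_map_le {G : Type*} [Group G] [Finite G] {p : ℕ} [Fact p.Prime]
    (hsol : IsPSolvable p G) (S : Sylow p G) :
    Group.nilpotencyClass ↥((S : Subgroup G).map (QuotientGroup.mk' (pPrimePCore p G))) ≤
      Group.nilpotencyClass ↥(S : Subgroup G) - 1 := by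
  haveI : Group.IsNilpotent ↥(S : Subgroup G) := S.isPGroup'.isNilpotent
  -- the restriction of the quotient map
  let ψ : ↥(S : Subgroup G) →* ↥((S : Subgroup G).map (QuotientGroup.mk' (pPrimePCore p G))) :=
    ((QuotientGroup.mk' (pPrimePCore p G)).comp (S : Subgroup G).subtype).codRestrict _
      (fun x => Subgroup.mem_map_of_mem _ x.2)
  have hψ : Function.Surjective ψ := by
    rintro ⟨_, ⟨s, hs, rfl⟩⟩
    exact ⟨⟨s, hs⟩, rfl⟩
  have hker : Subgroup.center ↥(S : Subgroup G) ≤ ψ.ker := by
    intro z hz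
    rw [MonoidHom.mem_ker]
    apply Subtype.ext
    show QuotientGroup.mk' (pPrimePCore p G) (z : G) = 1
    rw [QuotientGroup.mk'_apply, QuotientGroup.eq_one_iff]
    exact center_sylow_le hsol S z hz
  let ψ' : (↥(S : Subgroup G) ⧸ Subgroup.center ↥(S : Subgroup G)) →*
      ↥((S : Subgroup G).map (QuotientGroup.mk' (pPrimePCore p G))) :=
    QuotientGroup.lift _ ψ hker
  have hψ' : Function.Surjective ψ' := by
    intro y
    obtain ⟨x, rfl⟩ := hψ y
    exact ⟨QuotientGroup.mk x, rfl⟩
  have h1 := Group.nilpotencyClass_le_of_surjective ψ' hψ'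
  rw [Group.nilpotencyClass_quotient_center] at h1
  exact h1

theorem main {p : ℕ} [Fact p.Prime] : ∀ k : ℕ, ∀ (G : Type*) [Group G] [Finite G],
    IsPSolvable p G → ∀ S : Sylow p G, Group.nilpotencyClass ↥(S : Subgroup G) ≤ k →
      PL p k (⊥ : Subgroup G) ⊤ := by
  intro k
  induction k with
  | zero =>
    intro G _ _ _ S hS
    haveI : Group.IsNilpotent ↥(S : Subgroup G) := S.isPGroup'.isNilpotent
    have h0 : Group.nilpotencyClass ↥(S : Subgroup G) = 0 := Nat.le_zero.mp hS
    rw [Group.nilpotencyClass_zero_iff_subsingleton] at h0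
    refine PL.base _ _ bot_le inferInstance inferInstance ?_
    rw [Subgroup.relIndex_bot_left]
    have h1 : Nat.card ↥(S : Subgroup G) = 1 := Nat.card_eq_one_iff_unique.mpr ⟨h0, ⟨1⟩⟩
    have h2 := (S : Subgroup G).card_mul_index
    rw [h1, one_mul] at h2
    have h3 : Nat.card ↥(⊤ : Subgroup G) = Nat.card G := Nat.card_congr Subgroup.topEquiv.toEquiv
    rw [h3, ← h2]
    have hp : p.Prime := Fact.out
    exact (Nat.Prime.coprime_iff_not_dvd hp).mpr S.not_dvd_index |>.symm
  | succ k ih =>
    intro G _ _ hsol S hS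
    have hKn : (pPrimeCore p G).Normal := inferInstance
    have hNn : (pPrimePCore p G).Normal := inferInstance
    have hKN : pPrimeCore p G ≤ pPrimePCore p G := le_comap_mk'_self _ _
    -- the chain `1 ≤ O_{p'} ≤ O_{p',p}`
    have hc1 : PL p 1 (⊥ : Subgroup G) (pPrimePCore p G) := by
      refine PL.step 0 ⊥ (pPrimeCore p G) (pPrimePCore p G) (pPrimePCore p G)
        (PL.base _ _ bot_le inferInstance hKn ?_) hKN le_rfl hNn hNn ?_ ?_
      · rw [Subgroup.relIndex_bot_left]; exact pPrimeCore_coprime p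
      · have h1 : (pPrimeCore p G).relIndex (pPrimePCore p G) =
            Nat.card (pCore p (G ⧸ pPrimeCore p G)) := relIndex_comap_mk' _ _
        rw [h1]
        exact IsPGroup.iff_card.mp isPGroup_pCore
      · simp
    -- the quotient
    have hsol' : IsPSolvable p (G ⧸ pPrimePCore p G) := IsPSolvable.quotient hsol _
    have hsurj := QuotientGroup.mk'_surjective (pPrimePCore p G)
    have hcl : Group.nilpotencyClass
        ↥((S.mapSurjective hsurj : Sylow p (G ⧸ pPrimePCore p G)) :
          Subgroup (G ⧸ pPrimePCore p G)) ≤ k := by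
      rw [Sylow.coe_mapSurjective]
      have h5 : Group.nilpotencyClass ↥(S : Subgroup G) - 1 ≤ k := by omega
      exact (nilpotencyClass_map_le hsol S).trans h5
    have hc2 := ih (G ⧸ pPrimePCore p G) hsol' (S.mapSurjective hsurj) hcl
    have hc3 := PL_comap (pPrimePCore p G) hc2
    rw [MonoidHom.comap_bot, QuotientGroup.ker_mk', Subgroup.comap_top] at hc3
    have hc4 := hc1.trans hc3
    rw [Nat.add_comm] at hc4
    exact hc4

/-- The p-length of a p-soluble group is at most the nilpotency class of its Sylow p-subgroups. -/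
theorem result {G : Type*} [Group G] [Finite G] {p : ℕ} [Fact p.Prime] (hsol : Cfsg.IsPSolvable p G) (S : Sylow p G) : Cfsg.PLengthLE p (Group.nilpotencyClass ↥(S : Subgroup G)) G := by
  exact PLengthLE_of_PL p (main _ G hsol S le_rfl)

end Cfsg.Agent.S0635
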