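import Mathlib
import Cfsg.Statements.S0952
import Cfsg.Agent.Lib.Helper16.WBO

set_option autoImplicit false
set_option linter.style.haveILetI false
open Cfsg

namespace Cfsg.Agent.S0952

open Cfsg.Agent.Helper16 Cfsg.Agent.Helper77
open scoped ComplexConjugate

/-- Let χ and ψ be irreducible characters of the finite group G lying in different blocks relative to a maximal ideal M of the algebraic integers containing the prime p. Then the sum of χ x * conj (ψ x) over the elements x of order prime to p is zero. -/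
theorem result {G : Type*} [Group G] [Finite G] (p : ℕ) [Fact p.Prime] (M : Ideal Cfsg.AlgInt) (hM : Cfsg.IsPModular p M) (χ ψ : Cfsg.IrrCharacter G) (h : ¬ Cfsg.SameBlock M (χ : G → ℂ) (ψ : G → ℂ)) : ∑ᶠ x ∈ {x : G | ¬ p ∣ orderOf x}, (χ : G → ℂ) x * conj ((ψ : G → ℂ) x) = 0 := by
  classical
  have hpr := isPrime_of_isPModular hM
  haveI : Fintype G := Fintype.ofFinite G
  set B' := blockOf M (ψ : G → ℂ) with hB'def
  have hB' : IsPBlock M B' := isPBlock_blockOf ψ
  have hψB' : ψ ∈ B' := mem_blockOf_self ψ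
  have hχB' : χ ∉ B' := by
    intro hmem
    apply h
    exact Cfsg.Agent.Helper77.sameBlock_symm hmem
  set Bf := (Set.toFinite B').toFinset with hBf
  have hmemBf : ∀ θ, θ ∈ Bf ↔ θ ∈ B' := fun θ => Set.Finite.mem_toFinset _
  set Sreg : Finset G := Finset.univ.filter (fun x : G => ¬ p ∣ orderOf x) with hSreg
  have hgoal : ∑ᶠ x ∈ {x : G | ¬ p ∣ orderOf x}, (χ : G → ℂ) x * conj ((ψ : G → ℂ) x)
      = ∑ x ∈ Sreg, (χ : G → ℂ) x * conj ((ψ : G → ℂ) x) := by
    rw [finsum_mem_eq_finite_toFinset_sum _ (Set.toFinite _)]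
    refine Finset.sum_congr ?_ fun _ _ => rfl
    ext x
    simp [hSreg]
  rw [hgoal]
  -- coefficients
  set c : IrrCharacter G → ℂ := fun θ => ∑ x ∈ Sreg, (χ : G → ℂ) x * conj ((θ : G → ℂ) x) with hc
  set f : G → ℂ := fun y => ∑ θ ∈ Bf, c θ * (θ : G → ℂ) y with hf
  -- (a) f vanishes on p-singular elements
  have hfa : ∀ y : G, p ∣ orderOf y → f y = 0 := by
    intro y hy
    simp only [hf, hc]
    simp_rw [Finset.sum_mul]
    rw [Finset.sum_comm]
    refine Finset.sum_eq_zero fun x hx => ?_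
    have hxreg : ¬ p ∣ orderOf x := (Finset.mem_filter.mp hx).2
    have hw := weak_block_orthogonality hM hB' x y hxreg hy
    have hw' := congrArg conj hw
    rw [map_sum, map_zero] at hw'
    have : ∑ θ ∈ Bf, (χ : G → ℂ) x * conj ((θ : G → ℂ) x) * (θ : G → ℂ) y
        = (χ : G → ℂ) x * ∑ θ ∈ Bf, conj ((θ : G → ℂ) x * conj ((θ : G → ℂ) y)) := by
      rw [Finset.mul_sum]
      refine Finset.sum_congr rfl fun θ _ => ?_
      rw [map_mul, Complex.conj_conj]
      ring
    rw [this, hw', mul_zero]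
  -- (b) f is orthogonal to χ
  have hfb : ∑ y : G, f y * conj ((χ : G → ℂ) y) = 0 := by
    simp only [hf]
    simp_rw [Finset.sum_mul]
    rw [Finset.sum_comm]
    refine Finset.sum_eq_zero fun θ hθ => ?_
    have hne : θ ≠ χ := by
      rintro rfl
      exact hχB' ((hmemBf _).mp hθ)
    have horth := Cfsg.Agent.Helper78.classInner_irr θ χ
    rw [if_neg hne] at horth
    unfold classInner at horth
    have hG : (Nat.card G : ℂ)⁻¹ ≠ 0 := by
      apply inv_ne_zero
      exact_mod_cast Nat.card_pos.ne'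
    have h0 := (mul_eq_zero.mp horth).resolve_left hG
    simp_rw [mul_assoc]
    rw [← Finset.mul_sum, h0, mul_zero]
  -- (c) the same sum computed on the p-regular elements
  have hfc : ∑ y : G, f y * conj ((χ : G → ℂ) y) = ∑ θ ∈ Bf, c θ * conj (c θ) := by
    have h1 : ∑ y : G, f y * conj ((χ : G → ℂ) y) = ∑ y ∈ Sreg, f y * conj ((χ : G → ℂ) y) := by
      symm
      apply Finset.sum_subset (Finset.subset_univ _)
      intro y _ hy
      have : p ∣ orderOf y := by
        by_contra hcon
        exact hy (Finset.mem_filter.mpr ⟨Finset.mem_univ _, hcon⟩)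
      rw [hfa y this, zero_mul]
    rw [h1]
    simp only [hf]
    simp_rw [Finset.sum_mul]
    rw [Finset.sum_comm]
    refine Finset.sum_congr rfl fun θ _ => ?_
    simp_rw [mul_assoc]
    rw [← Finset.mul_sum]
    congr 1
    simp only [hc]
    rw [map_sum]
    refine Finset.sum_congr rfl fun y _ => ?_
    rw [map_mul, Complex.conj_conj, mul_comm]
  rw [hfc] at hfb
  -- sum of squares vanishes
  have hsq : ∀ θ ∈ Bf, c θ * conj (c θ) = ((Complex.normSq (c θ) : ℝ) : ℂ) := fun θ _ =>
    Complex.mul_conj _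
  rw [Finset.sum_congr rfl hsq, ← Complex.ofReal_sum] at hfb
  have hreal : ∑ θ ∈ Bf, Complex.normSq (c θ) = 0 := by exact_mod_cast hfb
  have hall := (Finset.sum_eq_zero_iff_of_nonneg (fun θ _ => Complex.normSq_nonneg _)).mp hreal
  have hψ0 := hall ψ ((hmemBf ψ).mpr hψB')
  exact Complex.normSq_eq_zero.mp hψ0

end Cfsg.Agent.S0952
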