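import Cfsg.Statements.S0923
import Cfsg.Agent.Lib.Helper16.SecondMain2
import Mathlib

set_option autoImplicit false
set_option linter.style.haveILetI false
set_option linter.unusedSectionVars false
open Cfsg

namespace Cfsg.Agent.S0923

open Cfsg.Agent.Helper16 Cfsg.Agent.Helper77

/-- Brauer's Second Main Theorem, in terms of ordinary characters. Let x be a p-element of the finite group G with centralizer C, let χ lie in the block B of G and let b be a block of C that does not induce B (relative to a maximal ideal M of the algebraic integers containing p). Form the class function ϑ(c) = χ(x c) on C and its b-part (the sum over ψ ∈ b of the inner product of ϑ with ψ, times ψ). Then the b-part of ϑ vanishes at every p-regular element of C. (Equivalently, the generalized decomposition numbers of χ with respect to b are zero.) -/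
theorem result {G : Type*} [Group G] [Finite G] (p : ℕ) [Fact p.Prime] (M : Ideal Cfsg.AlgInt) (hM : Cfsg.IsPModular p M) (x : G) (hx : ∃ k : ℕ, orderOf x = p ^ k) (B : Set (Cfsg.IrrCharacter G)) (hB : Cfsg.IsPBlock M B) (χ : Cfsg.IrrCharacter G) (hχ : χ ∈ B) (b : Set (Cfsg.IrrCharacter (Subgroup.centralizer ({x} : Set G)))) (hb : Cfsg.IsPBlock M b) (hnot : ¬ Cfsg.IsInducedBlock M (Subgroup.centralizer ({x} : Set G)) b B) (y : Subgroup.centralizer ({x} : Set G)) (hy : ¬ p ∣ orderOf y) : Cfsg.blockPart b (fun c : Subgroup.centralizer ({x} : Set G) => (χ : G → ℂ) (x * (c : G))) y = 0 := by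
  classical
  haveI : Fintype G := Fintype.ofFinite G
  haveI : Fintype (Subgroup.centralizer ({x} : Set G)) := Fintype.ofFinite _
  haveI hpr := isPrime_of_isPModular hM
  have hp : p.Prime := hM.1
  have hχcl := isClassFunction_of_isIrrCharacter χ.2
  -- the induced block
  obtain ⟨B₀, hind⟩ := exists_isInducedBlock_centralizer hM x hx hb
  have hB₀ : IsPBlock M B₀ := hind.2.1
  have hχB₀ : χ ∉ B₀ := by
    intro h
    have : B₀ = B := eq_of_isPBlock_of_mem hB₀ hB h hχ
    exact hnot (this ▸ hind)
  -- the element `x * y`
  have hyx : x * (y : G) = (y : G) * x := (mem_centralizer_singleton_iff' x (y : G)).1 y.2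
  have hxC : x ∈ Subgroup.centralizer ({x} : Set G) := (mem_centralizer_singleton_iff' x x).2 rfl
  set h : Subgroup.centralizer ({x} : Set G) := ⟨x, hxC⟩ * y with hh
  have hhval : (h : G) = x * (y : G) := rfl
  have hpart : IsPPart p (h : G) x := by
    refine ⟨(y : G), hhval.symm, hyx, hx, ?_⟩
    rwa [Subgroup.orderOf_coe]
  have hC : ∀ z : G, IsPPart p (h : G) z →
      Subgroup.centralizer ({z} : Set G) ≤ Subgroup.centralizer ({x} : Set G) := by
    intro z hz
    rw [isPPart_unique hp hz hpart]
  have hmain := second_main_idem hM _ hind h hC χ hχB₀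
  -- the class function
  have hϑ : IsClassFunction (Subgroup.centralizer ({x} : Set G))
      (fun c : Subgroup.centralizer ({x} : Set G) => (χ : G → ℂ) (x * (c : G))) := by
    intro c k
    show (χ : G → ℂ) (x * ((k * c * k⁻¹ : Subgroup.centralizer ({x} : Set G)) : G)) =
      (χ : G → ℂ) (x * (c : G))
    have hkx : x * (k : G) = (k : G) * x := (mem_centralizer_singleton_iff' x (k : G)).1 k.2
    have : x * ((k * c * k⁻¹ : Subgroup.centralizer ({x} : Set G)) : G) =
        (k : G) * (x * (c : G)) * (k : G)⁻¹ := by
      push_cast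
      calc x * ((k : G) * (c : G) * (k : G)⁻¹) = (x * (k : G)) * (c : G) * (k : G)⁻¹ := by group
        _ = ((k : G) * x) * (c : G) * (k : G)⁻¹ := by rw [hkx]
        _ = (k : G) * (x * (c : G)) * (k : G)⁻¹ := by group
    rw [this, hχcl]
  rw [blockPart_eq_sum_blockCoeff b hϑ y, ← hmain]
  refine Finset.sum_congr rfl fun k _ => ?_
  congr 2
  have hkx : x * (k : G) = (k : G) * x := (mem_centralizer_singleton_iff' x (k : G)).1 k.2
  rw [hhval]
  push_cast
  have hcalc : x * ((k : G) * (y : G)) = (k : G) * (x * (y : G)) := by
    calc x * ((k : G) * (y : G)) = (x * (k : G)) * (y : G) := by group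
      _ = ((k : G) * x) * (y : G) := by rw [hkx]
      _ = (k : G) * (x * (y : G)) := by group
  rw [hcalc]

end Cfsg.Agent.S0923
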