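import Cfsg.Statements.S0914
import Cfsg.Agent.S0909
import Cfsg.Agent.Lib.Helper16.Osima
import Cfsg.Agent.Lib.Helper79.Integrality
import Cfsg.Agent.Lib.Helper78.CharCount

set_option autoImplicit false
open Cfsg

namespace Cfsg.Agent.S0914

open scoped ComplexConjugate
open Cfsg.Agent.Helper77

/-- Let χ be an irreducible character of the finite group G, p a prime and M a maximal ideal of the algebraic integers containing p. Then p does not divide the integer (Nat.card G) / χ(1) if and only if the block of χ relative to M consists of χ alone. -/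
theorem result {G : Type*} [Group G] [Finite G] (p : ℕ) [Fact p.Prime] (M : Ideal Cfsg.AlgInt) (hM : Cfsg.IsPModular p M) (χ : Cfsg.IrrCharacter G) : ¬ p ∣ Nat.card G / Cfsg.charDegree (χ : G → ℂ) ↔ Cfsg.blockOf M (χ : G → ℂ) = {χ} := by
  classical
  have := Fintype.ofFinite G
  have hprime := isPrime_of_isPModular hM
  have hdvd : charDegree (χ : G → ℂ) ∣ Nat.card G := Cfsg.Agent.Helper79.irr_degree_dvd_card χ
  obtain ⟨hd1, hdpos⟩ := Cfsg.Agent.Helper79.irr_one_eq χ
  obtain ⟨c, hc⟩ := hdvd
  have hquot : Nat.card G / charDegree (χ : G → ℂ) = c := by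
    rw [hc]
    exact Nat.mul_div_cancel_left c hdpos
  rw [hquot]
  have hc0 : c ≠ 0 := by
    rintro rfl
    rw [mul_zero] at hc
    exact Nat.card_pos.ne' hc
  have hcC : (c : ℂ) ≠ 0 := by exact_mod_cast hc0
  have hdC : (charDegree (χ : G → ℂ) : ℂ) ≠ 0 := by exact_mod_cast hdpos.ne'
  have hcoef : ∀ g : G, blockCoeff ({χ} : Set (IrrCharacter G)) g = conj ((χ : G → ℂ) g) / (c : ℂ) := by
    intro g
    unfold blockCoeff
    rw [finsum_mem_singleton, hd1, hc]
    push_cast
    field_simp
  constructor
  · intro hpc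
    have hA : ∀ g : G, MemLocalRing M (blockCoeff ({χ} : Set (IrrCharacter G)) g) := by
      intro g
      rw [hcoef]
      have hint : IsIntegral ℤ (conj ((χ : G → ℂ) g)) := by
        have h1 := Cfsg.Agent.Helper79.irr_isIntegral χ g
        exact h1.map (starRingEnd ℂ).toIntAlgHom
      refine ⟨⟨conj ((χ : G → ℂ) g), hint⟩, (c : AlgInt), ?_, by simp⟩
      rw [natCast_mem_iff hM]
      exact hpc
    have h1 := Cfsg.Agent.S0909.result p M hM {χ} hA χ rfl
    exact Set.Subset.antisymm h1 (Set.singleton_subset_iff.mpr (sameBlock_refl _))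
  · intro hB hpc
    have hBl : IsPBlock M ({χ} : Set (IrrCharacter G)) := ⟨χ, hB.symm⟩
    have hvan : ∀ g : G, p ∣ orderOf g → (χ : G → ℂ) g = 0 := by
      intro g hg
      have h0 := Cfsg.Agent.Helper16.blockCoeff_eq_zero_of_singular hM hBl g hg
      rw [hcoef, div_eq_zero_iff] at h0
      rcases h0 with h0 | h0
      · simpa using h0
      · exact absurd h0 hcC
    obtain ⟨P⟩ : Nonempty (Sylow p G) := inferInstance
    obtain ⟨m, hm⟩ := Cfsg.Agent.Helper78.IsCharacter.sum_subgroup
      (Cfsg.Agent.Helper78.IsIrrCharacter.isCharacter χ.2) (P : Subgroup G)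
    have hsum : ∑ w : (P : Subgroup G), (χ : G → ℂ) (w : G) = (χ : G → ℂ) 1 := by
      rw [Finset.sum_eq_single (1 : (P : Subgroup G))]
      · rfl
      · intro u _ hu
        apply hvan
        obtain ⟨k, hk⟩ := (IsPGroup.iff_orderOf.mp P.isPGroup') u
        have hk0 : k ≠ 0 := by
          rintro rfl
          rw [pow_zero, orderOf_eq_one_iff] at hk
          exact hu hk
        rw [Subgroup.orderOf_coe, hk]
        exact dvd_pow_self p hk0
      · intro h
        exact absurd (Finset.mem_univ _) h
    rw [hsum, hd1] at hm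
    have hdm : charDegree (χ : G → ℂ) = Nat.card (P : Subgroup G) * m := by exact_mod_cast hm
    have hidx := Subgroup.card_mul_index (P : Subgroup G)
    rw [hc, hdm] at hidx
    have hPpos : 0 < Nat.card (P : Subgroup G) := Nat.card_pos
    have h2 : (P : Subgroup G).index = m * c := by
      have : Nat.card (P : Subgroup G) * (P : Subgroup G).index =
          Nat.card (P : Subgroup G) * (m * c) := by rw [hidx]; ring
      exact Nat.eq_of_mul_eq_mul_left hPpos this
    exact P.not_dvd_index (h2 ▸ Dvd.dvd.mul_left hpc m)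

end Cfsg.Agent.S0914
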