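import Mathlib
import Cfsg.Statements.S4666
import Cfsg.Agent.Lib.Helper16.PRegDiv

set_option autoImplicit false
set_option linter.style.haveILetI false
set_option linter.unusedSectionVars false
open Cfsg

namespace Cfsg.Agent.S4666

open scoped ComplexConjugate
open Cfsg.Agent.Helper77 Cfsg.Agent.Helper78 Cfsg.Agent.Helper16

section
variable {G : Type*} [Group G] [Fintype G]

/-- For `ψ` in the block `B`, `p ^ d(B) ψ 1_reg` is an integer combination of members of `B`. -/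
theorem exists_int_decomp_block (p : ℕ) [Fact p.Prime] {M : Ideal AlgInt} (hM : IsPModular p M)
    {B : Set (IrrCharacter G)} (hB : IsPBlock M B) (ψ : IrrCharacter G) (hψ : ψ ∈ B) :
    ∃ c : IrrCharacter G → ℤ, (∀ φ, φ ∉ B → c φ = 0) ∧
      pRegScaled p ((p : ℂ) ^ blockDefect p B) (ψ : G → ℂ) =
        ∑ φ : IrrCharacter G, ((c φ : ℤ) : ℂ) • (φ : G → ℂ) := by
  classical
  have hpr := isPrime_of_isPModular hM
  obtain ⟨c₀, hc₀⟩ := exists_int_decomp_pRegScaled p ψ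
  set a := (Nat.card G).factorization p with ha
  set ν := (charDegree (ψ : G → ℂ)).factorization p with hν
  have hc₀B : ∀ φ, φ ∉ B → c₀ φ = 0 := by
    intro φ hφ
    have h1 : ¬ SameBlock M (ψ : G → ℂ) (φ : G → ℂ) := fun hs => hφ (mem_of_sameBlock hB hψ hs)
    have h2 := classInner_pRegScaled_eq_zero hM ((p ^ (a - ν) : ℕ) : ℂ) ψ φ h1
    rw [hc₀, classInner_decomp (fun φ => ((c₀ φ : ℤ) : ℂ)) φ] at h2
    exact_mod_cast h2
  have hle : a - ν ≤ blockDefect p B := by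
    unfold blockDefect
    have h3 : sInf ((fun χ : IrrCharacter G => (charDegree (χ : G → ℂ)).factorization p) '' B) ≤ ν :=
      Nat.sInf_le (Set.mem_image_of_mem _ hψ)
    omega
  obtain ⟨k, hk⟩ := Nat.exists_eq_add_of_le hle
  refine ⟨fun φ => (p : ℤ) ^ k * c₀ φ, fun φ hφ => by simp [hc₀B φ hφ], ?_⟩
  have h4 : pRegScaled p ((p : ℂ) ^ blockDefect p B) (ψ : G → ℂ) =
      ((p : ℂ) ^ k) • pRegScaled p ((p ^ (a - ν) : ℕ) : ℂ) (ψ : G → ℂ) := by
    funext x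
    unfold pRegScaled
    by_cases hx : p ∣ orderOf x
    · simp [hx]
    · simp only [hx, if_false, Pi.smul_apply, smul_eq_mul]
      rw [hk, pow_add]
      push_cast
      ring
  rw [h4, hc₀, Finset.smul_sum]
  refine Finset.sum_congr rfl fun φ _ => ?_
  rw [smul_smul]
  push_cast
  rfl

theorem pRegularPart_eq (p : ℕ) (χ : G → ℂ) (g : G) :
    pRegularPart p χ g = pRegScaled p 1 χ g := by
  unfold pRegularPart pRegScaled IsPRegular
  by_cases hx : p ∣ orderOf g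
  · simp [hx]
  · simp [hx]

end

theorem result {G : Type*} [Group G] [Fintype G] (p : ℕ) [Fact p.Prime] (M : Ideal Cfsg.AlgInt) (hM : Cfsg.IsPModular p M) (B : Set (Cfsg.IrrCharacter G)) (hB : Cfsg.IsPBlock M B) (χ : G → ℂ) (hχ : (∃ n : Cfsg.IrrCharacter G → ℤ, ∀ g : G, χ g = ∑ᶠ ψ ∈ B, (n ψ : ℂ) * (ψ : G → ℂ) g)) : (∃ n : Cfsg.IrrCharacter G → ℤ, ∀ g : G, (p ^ Cfsg.blockDefect p B : ℂ) * Cfsg.pRegularPart p χ g = ∑ᶠ ψ ∈ B, (n ψ : ℂ) * (ψ : G → ℂ) g) := by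
  classical
  obtain ⟨n, hn⟩ := hχ
  set Bf := (Set.toFinite B).toFinset with hBf
  have hmemBf : ∀ θ, θ ∈ Bf ↔ θ ∈ B := fun θ => Set.Finite.mem_toFinset _
  have hex : ∀ ψ : IrrCharacter G, ∃ c : IrrCharacter G → ℤ, ψ ∈ B →
      ((∀ φ, φ ∉ B → c φ = 0) ∧ pRegScaled p ((p : ℂ) ^ blockDefect p B) (ψ : G → ℂ) =
        ∑ φ : IrrCharacter G, ((c φ : ℤ) : ℂ) • (φ : G → ℂ)) := by
    intro ψ
    by_cases hψ : ψ ∈ B
    · obtain ⟨c, h1, h2⟩ := exists_int_decomp_block p hM hB ψ hψ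
      exact ⟨c, fun _ => ⟨h1, h2⟩⟩
    · exact ⟨fun _ => 0, fun h => absurd h hψ⟩
  choose c hc using hex
  refine ⟨fun φ => ∑ ψ ∈ Bf, n ψ * c ψ φ, fun g => ?_⟩
  rw [finsum_mem_eq_finite_toFinset_sum _ (Set.toFinite B)]
  have hχg : χ g = ∑ ψ ∈ Bf, (n ψ : ℂ) * (ψ : G → ℂ) g := by
    rw [hn g, finsum_mem_eq_finite_toFinset_sum _ (Set.toFinite B)]
  -- LHS
  have hL : (p ^ blockDefect p B : ℂ) * pRegularPart p χ g =
      ∑ ψ ∈ Bf, (n ψ : ℂ) * pRegScaled p ((p : ℂ) ^ blockDefect p B) (ψ : G → ℂ) g := by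
    rw [pRegularPart_eq]
    unfold pRegScaled
    by_cases hx : p ∣ orderOf g
    · simp [hx]
    · simp only [hx, if_false, one_mul]
      rw [hχg, Finset.mul_sum]
      refine Finset.sum_congr rfl fun ψ _ => ?_
      ring
  rw [hL]
  have h2 : ∀ ψ ∈ Bf, (n ψ : ℂ) * pRegScaled p ((p : ℂ) ^ blockDefect p B) (ψ : G → ℂ) g =
      ∑ φ ∈ Bf, ((n ψ * c ψ φ : ℤ) : ℂ) * (φ : G → ℂ) g := by
    intro ψ hψ
    have hψB := (hmemBf ψ).1 hψ
    obtain ⟨h3, h4⟩ := hc ψ hψB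
    rw [h4, Finset.sum_apply, Finset.mul_sum]
    rw [← Finset.sum_subset (Finset.subset_univ Bf)]
    · refine Finset.sum_congr rfl fun φ _ => ?_
      simp only [Pi.smul_apply, smul_eq_mul]
      push_cast
      ring
    · intro φ _ hφ
      have hφB : φ ∉ B := fun h => hφ ((hmemBf φ).2 h)
      rw [h3 φ hφB]
      simp
  rw [Finset.sum_congr rfl h2, Finset.sum_comm]
  refine Finset.sum_congr rfl fun φ _ => ?_
  rw [← Finset.sum_mul]
  push_cast
  rfl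

end Cfsg.Agent.S4666
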