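import Cfsg.Statements.S4571
import Cfsg.Agent.Lib.Helper78.PCentral
import Cfsg.Agent.Lib.Helper77.Principal

set_option autoImplicit false
open Cfsg

namespace Cfsg.Agent.S4571

/-- Let Q be a normal p-subgroup of the finite group G with G = Q·C_G(Q), and M a maximal ideal of the algebraic integers containing p. Then the principal p-blocks of G and of G/Q have the same p-regular rank (the same number of irreducible Brauer characters). -/
theorem result {G : Type*} [Group G] [Finite G] (p : ℕ) [Fact p.Prime] (M : Ideal Cfsg.AlgInt) (hM : Cfsg.IsPModular p M) (Q : Subgroup G) [Q.Normal] (hQ : IsPGroup p Q) (hsup : Q ⊔ Subgroup.centralizer (Q : Set G) = ⊤) : Cfsg.blockRank p (Cfsg.principalBlock M G) = Cfsg.blockRank p (Cfsg.principalBlock M (G ⧸ Q)) := by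
  classical
  have := Fintype.ofFinite G
  have hpr := Cfsg.Agent.Helper77.isPrime_of_isPModular hM
  have hreg := Cfsg.Agent.Helper78.regular_mem_centralizer_of_sup (p := p) Q hQ hsup
  rw [Cfsg.Agent.Helper78.blockRank_eq_deflSet hM Q hQ hreg
    (Cfsg.Agent.Helper77.isPBlock_principalBlock (G := G) M)]
  congr 1
  have htriv : Cfsg.Agent.Helper79.inflate Q (Cfsg.Agent.Helper77.trivIrr (G ⧸ Q)) =
      Cfsg.Agent.Helper77.trivIrr G := Subtype.ext rfl
  ext ψ
  show Cfsg.Agent.Helper79.inflate Q ψ ∈ Cfsg.principalBlock M G ↔ ψ ∈ Cfsg.principalBlock M (G ⧸ Q)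
  constructor
  · intro h
    -- `inflate ψ` is in the principal block of `G`
    have h1 : SameBlock M ((Cfsg.Agent.Helper77.trivIrr G : IrrCharacter G) : G → ℂ)
        (Cfsg.Agent.Helper79.inflate Q ψ : G → ℂ) := h
    have h2 : SameBlock M ((Cfsg.Agent.Helper77.trivIrr (G ⧸ Q) : IrrCharacter (G ⧸ Q)) : G ⧸ Q → ℂ)
        (ψ : G ⧸ Q → ℂ) := by
      apply Cfsg.Agent.Helper16.sameBlock_of_regular hM
      intro q hq
      obtain ⟨x, rfl, hx⟩ := Cfsg.Agent.Helper16.exists_regular_lift Q hQ q hq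
      rw [Cfsg.Agent.Helper78.centralChar_inflate_of_regular' Q hQ _ x hx (hreg x hx),
        Cfsg.Agent.Helper78.centralChar_inflate_of_regular' Q hQ _ x hx (hreg x hx), htriv]
      exact h1 x
    exact h2
  · intro h
    have h1 : SameBlock M ((Cfsg.Agent.Helper77.trivIrr (G ⧸ Q) : IrrCharacter (G ⧸ Q)) : G ⧸ Q → ℂ)
        (ψ : G ⧸ Q → ℂ) := h
    have h2 := Cfsg.Agent.Helper78.sameBlock_inflate Q _ _ h1
    rw [htriv] at h2
    exact h2

end Cfsg.Agent.S4571
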