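import Cfsg.Statements.S4512
import Cfsg.Agent.Lib.Helper74.Subsec3
import Cfsg.Agent.Lib.Helper74.Klein1
import Cfsg.Agent.Lib.Helper74.Klein2
import Cfsg.Agent.Lib.Helper74.BrauerFeit6

set_option autoImplicit false
set_option linter.style.haveILetI false
set_option maxHeartbeats 800000
open Cfsg

namespace Cfsg.Agent.S4512

open Cfsg.Agent.Helper74.SS Cfsg.Agent.Helper74.KL Cfsg.Agent.Helper74.BF Cfsg.Agent.Helper74.DO
open Cfsg.Agent.Helper77 Cfsg.Agent.Helper78
open scoped ComplexConjugate

/-- `secNorm` at the identity is the regular norm. -/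
theorem secNorm_one {G : Type*} [Group G] [Fintype G] (χ : IrrCharacter G) :
    secNorm 2 (1 : G) χ = classInner (pRegularPart 2 (χ : G → ℂ)) (χ : G → ℂ) := by
  classical
  letI : Fintype (Subgroup.centralizer ({(1 : G)} : Set G)) := Fintype.ofFinite _
  have htop : Subgroup.centralizer ({(1 : G)} : Set G) = ⊤ := by
    rw [Subgroup.centralizer_eq_top_iff_subset]
    intro y hy
    rw [Set.mem_singleton_iff.1 hy]
    exact Subgroup.one_mem _
  have hcard : Nat.card (Subgroup.centralizer ({(1 : G)} : Set G)) = Nat.card G := by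
    rw [htop, Subgroup.card_top]
  unfold secNorm classInner
  rw [hcard]
  congr 1
  have h1 := sum_subgroup_eq (Subgroup.centralizer ({(1 : G)} : Set G))
    (fun g : G => pRegularPart 2 (χ : G → ℂ) g * conj ((χ : G → ℂ) g))
    (fun x hx => absurd (by rw [htop]; trivial) hx)
  rw [← h1]
  refine Finset.sum_congr rfl fun c _ => ?_
  by_cases hc : 2 ∣ orderOf c
  · have hc' : 2 ∣ orderOf (c : G) := by rwa [Subgroup.orderOf_coe]
    rw [pRegularPart_of_singular 2 _ hc, pRegularPart_of_singular 2 _ hc']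
    simp
  · have hc' : ¬ 2 ∣ orderOf (c : G) := by rwa [Subgroup.orderOf_coe]
    rw [pRegularPart_of_regular 2 _ hc, pRegularPart_of_regular 2 _ hc']
    simp only [one_mul]

/-- the regular norm in terms of the contribution number -/
theorem classInner_reg_eq {G : Type*} [Group G] [Fintype G] {B : Set (IrrCharacter G)}
    {n : IrrCharacter G → IrrCharacter G → ℤ} (hn : IsContrib 2 B n) (hd : blockDefect 2 B = 2)
    {χ : IrrCharacter G} (hχ : χ ∈ B) :
    4 * classInner (pRegularPart 2 (χ : G → ℂ)) (χ : G → ℂ) = ((n χ χ : ℤ) : ℂ) := by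
  classical
  rw [hn.cast_eq χ hχ χ, hd]
  unfold classInner regSum
  have : ∑ g : G, pRegularPart 2 (χ : G → ℂ) g * conj ((χ : G → ℂ) g) =
      ∑ x ∈ Finset.univ.filter (fun x : G => ¬ 2 ∣ orderOf x),
        (χ : G → ℂ) x * conj ((χ : G → ℂ) x) := by
    rw [Finset.sum_filter]
    refine Finset.sum_congr rfl fun g _ => ?_
    by_cases hg : 2 ∣ orderOf g
    · rw [pRegularPart_of_singular 2 _ hg, if_neg (not_not.2 hg), zero_mul]
    · rw [pRegularPart_of_regular 2 _ hg, if_pos hg]
  rw [this]
  push_cast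
  ring

/-- If G is a finite group with a Sylow 2-subgroup that is a Klein four-group and a single conjugacy class of involutions, then its principal 2-block (relative to a maximal ideal M of the algebraic integers containing 2) has 2-regular rank 3: the restrictions of its irreducible characters to the elements of odd order span a space of dimension 3 (it has three irreducible Brauer characters). -/
theorem result {G : Type*} [Group G] [Finite G] (M : Ideal Cfsg.AlgInt) (hM : Cfsg.IsPModular 2 M) (P : Sylow 2 G)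
    (hP : Nat.card P = 4) (hexp : ∀ x : P, x * x = 1)
    (hone : ∀ s t : G, orderOf s = 2 → orderOf t = 2 → IsConj s t) :
    Cfsg.blockRank 2 (Cfsg.principalBlock M G) = 3 := by
  classical
  letI : Fintype G := Fintype.ofFinite G
  haveI : Fact (Nat.Prime 2) := ⟨Nat.prime_two⟩
  haveI := isPrime_of_isPModular hM
  -- an involution in `P`
  haveI : Nontrivial P := Finite.one_lt_card_iff_nontrivial.1 (by rw [hP]; norm_num)
  obtain ⟨x₀, hx₀⟩ := exists_ne (1 : P)
  obtain ⟨t, htdef⟩ : ∃ t : G, t = (x₀ : G) := ⟨_, rfl⟩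
  have htt : t * t = 1 := by
    rw [htdef]
    exact_mod_cast congrArg Subtype.val (hexp x₀)
  have ht1 : t ≠ 1 := by
    intro h
    apply hx₀
    apply Subtype.ext
    rw [← htdef, h]
    rfl
  have ht2 : orderOf t = 2 := orderOf_eq_prime (by rw [pow_two]; exact htt) ht1
  have htp : ∃ k : ℕ, orderOf t = 2 ^ k := ⟨1, by rw [ht2, pow_one]⟩
  -- the order of `G`
  have hcardG : (Nat.card G).factorization 2 = 2 := by
    have h := Sylow.card_eq_multiplicity P
    rw [hP] at h
    have h' : 2 ^ 2 = 2 ^ (Nat.card G).factorization 2 := by simpa using h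
    exact (Nat.pow_right_injective (le_refl 2) h').symm
  -- `2`-elements are involutions
  have h2el : ∀ g : G, (∃ k : ℕ, orderOf g = 2 ^ k) → g ≠ 1 → orderOf g = 2 := by
    intro g hg hg1
    obtain ⟨k, hk⟩ := hg
    have hpg : IsPGroup 2 (Subgroup.zpowers g) := by
      apply IsPGroup.of_card (n := k)
      rw [Nat.card_zpowers, hk]
    obtain ⟨Q, hQ⟩ := hpg.exists_le_sylow
    have e := Sylow.equiv Q P
    have hgQ : g ∈ (Q : Subgroup G) := hQ (Subgroup.mem_zpowers g)
    have h1 := hexp (e ⟨g, hgQ⟩)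
    rw [← map_mul] at h1
    have h2 : (⟨g, hgQ⟩ : Q) * ⟨g, hgQ⟩ = 1 := by
      apply e.injective
      rw [h1, map_one]
    have h3 : g * g = 1 := by
      have := congrArg (fun q : Q => (q : G)) h2
      simpa using this
    exact orderOf_eq_prime (by rw [pow_two]; exact h3) hg1
  -- the set of representatives
  have hX : ∀ x ∈ ({1, t} : Finset G), ∃ k : ℕ, orderOf x = 2 ^ k := by
    intro x hx
    rw [Finset.mem_insert, Finset.mem_singleton] at hx
    rcases hx with rfl | rfl
    · exact ⟨0, by simp⟩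
    · exact htp
  have hXrep : ∀ g : G, (∃ k : ℕ, orderOf g = 2 ^ k) →
      ∃! x, x ∈ ({1, t} : Finset G) ∧ IsConj g x := by
    intro g hg
    by_cases hg1 : g = 1
    · subst hg1
      refine ⟨1, ⟨by simp, IsConj.refl 1⟩, ?_⟩
      rintro y ⟨_, hy⟩
      exact isConj_one_right.1 hy
    · have hg2 := h2el g hg hg1
      refine ⟨t, ⟨by simp, hone g t hg2 ht2⟩, ?_⟩
      rintro y ⟨hyX, hy⟩
      rw [Finset.mem_insert, Finset.mem_singleton] at hyX
      rcases hyX with rfl | rfl
      · exact absurd (isConj_one_left.1 hy) hg1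
      · rfl
  -- the centralizer of `t`
  letI : Fintype (Subgroup.centralizer ({t} : Set G)) := Fintype.ofFinite _
  have hPcomm : ∀ a b : P, a * b = b * a := by
    intro a b
    have h1 := hexp (a * b)
    have ha := hexp a
    have hb := hexp b
    calc a * b = a * ((a * b) * (a * b)) * b := by rw [h1, mul_one]
      _ = (a * a) * (b * a) * (b * b) := by group
      _ = b * a := by rw [ha, hb, one_mul, mul_one]
  have hPC : (P : Subgroup G) ≤ Subgroup.centralizer ({t} : Set G) := by
    intro y hy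
    rw [mem_cent_iff, htdef]
    have := congrArg (fun q : P => (q : G)) (hPcomm x₀ ⟨y, hy⟩)
    simpa using this
  have hCcard : (Nat.card (Subgroup.centralizer ({t} : Set G))).factorization 2 = 2 := by
    have hC0 : Nat.card (Subgroup.centralizer ({t} : Set G)) ≠ 0 := Nat.card_pos.ne'
    have hG0 : Nat.card G ≠ 0 := Nat.card_pos.ne'
    have h1 : 2 ^ 2 ∣ Nat.card (Subgroup.centralizer ({t} : Set G)) := by
      have := Subgroup.card_dvd_of_le hPC
      have hP' : Nat.card (P : Subgroup G) = 4 := hP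
      rw [hP'] at this
      exact this
    have h2 := (Nat.Prime.pow_dvd_iff_le_factorization Nat.prime_two hC0).1 h1
    have h3 := (Nat.factorization_le_iff_dvd hC0 hG0).2
      (Subgroup.card_subgroup_dvd_card (Subgroup.centralizer ({t} : Set G))) 2
    omega
  have htC := self_mem_cent t
  have hzord : orderOf (⟨t, htC⟩ : Subgroup.centralizer ({t} : Set G)) = 2 := by
    rw [← Subgroup.orderOf_coe]
    exact ht2
  have hzcen : (⟨t, htC⟩ : Subgroup.centralizer ({t} : Set G)) ∈
      Subgroup.center (Subgroup.centralizer ({t} : Set G)) := by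
    rw [Subgroup.mem_center_iff]
    intro c
    apply Subtype.ext
    exact ((mem_cent_iff t (c : G)).1 c.2).symm
  have hrankC : blockRank 2 (principalBlock M (Subgroup.centralizer ({t} : Set G))) = 1 :=
    blockRank_principal_of_central_involution hM _ hzord hzcen hCcard
  -- the subsection sums
  have hB₀ : IsPBlock M (principalBlock M G) := isPBlock_principalBlock M
  have hS : {b : Set (IrrCharacter (Subgroup.centralizer ({t} : Set G))) |
      IsInducedBlock M (Subgroup.centralizer ({t} : Set G)) b (principalBlock M G)} =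
      {principalBlock M (Subgroup.centralizer ({t} : Set G))} := by
    ext b
    rw [Set.mem_singleton_iff]
    show IsInducedBlock M (Subgroup.centralizer ({t} : Set G)) b (principalBlock M G) ↔ _
    exact blocks_inducing_principal hM t htp b
  have hsum1 : ∑ χ ∈ (Set.toFinite (principalBlock M G)).toFinset, secNorm 2 t χ = 1 := by
    have h := sum_blockRank_eq hM t htp hB₀
    rw [hS, finsum_mem_singleton, hrankC] at h
    rw [← h]
    norm_num
  have h1t : (1 : G) ≠ t := fun h => ht1 h.symm
  have hsec : ∀ χ : IrrCharacter G, secNorm 2 (1 : G) χ + secNorm 2 t χ = 1 := by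
    intro χ
    have h := sum_secNorm ({1, t} : Finset G) hX hXrep χ
    rwa [Finset.sum_pair h1t] at h
  -- `l = k - 1`
  obtain ⟨T, hTdef⟩ : ∃ T : Finset (IrrCharacter G),
      T = (Set.toFinite (principalBlock M G)).toFinset := ⟨_, rfl⟩
  have hTmem : ∀ χ, χ ∈ T ↔ χ ∈ principalBlock M G := by
    intro χ
    rw [hTdef, Set.Finite.mem_toFinset]
  have hl := blockRank_eq_sum hM hB₀
  rw [← hTdef] at hl hsum1
  have hlk : (blockRank 2 (principalBlock M G) : ℂ) + 1 = (T.card : ℂ) := by
    rw [hl]
    have h1 : ∑ χ ∈ T, classInner (pRegularPart 2 (χ : G → ℂ)) (χ : G → ℂ) =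
        ∑ χ ∈ T, (1 - secNorm 2 t χ) := by
      refine Finset.sum_congr rfl fun χ _ => ?_
      rw [← secNorm_one χ, ← hsec χ]
      ring
    rw [h1, Finset.sum_sub_distrib, hsum1, Finset.sum_const, nsmul_eq_mul, mul_one]
    ring
  have hlk' : blockRank 2 (principalBlock M G) + 1 = T.card := by exact_mod_cast hlk
  -- contribution numbers
  obtain ⟨n, hn⟩ := exists_contrib hM hB₀
  have hd : blockDefect 2 (principalBlock M G) = 2 := by
    rw [blockDefect_principalBlock 2 hM, hcardG]
  have hht : ∀ χ ∈ principalBlock M G,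
      (charDegree (χ : G → ℂ)).factorization 2 = minVal 2 (principalBlock M G) := by
    intro χ hχ
    by_contra hne
    have hlt : minVal 2 (principalBlock M G) < (charDegree (χ : G → ℂ)).factorization 2 :=
      lt_of_le_of_ne (minVal_le hχ) (Ne.symm hne)
    have := hn.height_add_two_le hM hB₀ hχ hlt
    rw [hd] at this
    omega
  have hself : ∀ χ ∈ principalBlock M G, n χ χ = 1 ∨ n χ χ = 3 := by
    intro χ hχ
    have h1 := hn.self_pos hχ
    have h2 := hn.self_le hχ
    have h3 := hn.not_dvd_self hM hB₀ hχ (hht χ hχ)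
    rw [hd] at h2
    norm_num at h2
    have h4 : ¬ (2 : ℤ) ∣ n χ χ := by exact_mod_cast h3
    omega
  have hodd : ∀ χ ∈ principalBlock M G, ∀ ψ ∈ principalBlock M G, ¬ (2 : ℤ) ∣ n χ ψ := by
    intro χ hχ ψ hψ h2
    have hv := hn.val_eq hM hB₀ hχ (hht χ hχ) hψ
    have hpos := factorization_pos_of_dvd (p := 2) hv.1 (by exact_mod_cast h2)
    have := hht ψ hψ
    omega
  have hsq : ∀ χ ∈ principalBlock M G, ∑ ψ ∈ T, n χ ψ ^ 2 = 4 * n χ χ := by
    intro χ hχ
    have h := hn.sum_sq hχ
    rw [hd] at h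
    rw [← Finset.sum_subset (Finset.subset_univ T)] at h
    · rw [h]; norm_num
    · intro ψ _ hψ
      rw [hn.zero_of_notMem χ hχ ψ (fun h' => hψ ((hTmem ψ).2 h'))]
      norm_num
  have h4l : (4 : ℤ) * (blockRank 2 (principalBlock M G) : ℤ) = ∑ χ ∈ T, n χ χ := by
    have h1 : (4 : ℂ) * (blockRank 2 (principalBlock M G) : ℂ) = ∑ χ ∈ T, ((n χ χ : ℤ) : ℂ) := by
      rw [hl, Finset.mul_sum]
      refine Finset.sum_congr rfl fun χ hχ => ?_
      exact classInner_reg_eq hn hd ((hTmem χ).1 hχ)
    have h2 : (((4 : ℤ) * (blockRank 2 (principalBlock M G) : ℤ) : ℤ) : ℂ) =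
        ((∑ χ ∈ T, n χ χ : ℤ) : ℂ) := by
      push_cast
      exact h1
    exact_mod_cast h2
  -- `k = 4`
  have hk : T.card = 4 := by
    by_cases hex : ∃ χ ∈ T, n χ χ = 1
    · obtain ⟨χ₁, hχ₁T, h11⟩ := hex
      have hχ₁ := (hTmem χ₁).1 hχ₁T
      have hs := hsq χ₁ hχ₁
      rw [h11] at hs
      have hall : ∀ ψ ∈ T, n χ₁ ψ ^ 2 = 1 := by
        intro ψ hψ
        have hle : n χ₁ ψ ^ 2 ≤ ∑ ψ ∈ T, n χ₁ ψ ^ 2 :=
          Finset.single_le_sum (f := fun ψ => n χ₁ ψ ^ 2) (fun i _ => sq_nonneg _) hψ
        rw [hs] at hle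
        have ho := hodd χ₁ hχ₁ ψ ((hTmem ψ).1 hψ)
        have hb1 : n χ₁ ψ ≤ 2 := by nlinarith
        have hb2 : -2 ≤ n χ₁ ψ := by nlinarith
        have : n χ₁ ψ = 1 ∨ n χ₁ ψ = -1 := by omega
        rcases this with h | h <;> rw [h] <;> norm_num
      rw [Finset.sum_congr rfl hall, Finset.sum_const, nsmul_eq_mul, mul_one] at hs
      exact_mod_cast hs
    · have hall : ∀ χ ∈ T, n χ χ = 3 := by
        intro χ hχ
        rcases hself χ ((hTmem χ).1 hχ) with h | h
        · exact absurd ⟨χ, hχ, h⟩ hex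
        · exact h
      rw [Finset.sum_congr rfl hall, Finset.sum_const, nsmul_eq_mul] at h4l
      have : (4 : ℤ) * (blockRank 2 (principalBlock M G) : ℤ) = (T.card : ℤ) * 3 := h4l
      have h5 : ((blockRank 2 (principalBlock M G) : ℤ)) + 1 = (T.card : ℤ) := by exact_mod_cast hlk'
      omega
  omega

end Cfsg.Agent.S4512
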