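import Cfsg.Statements.S4717
import Cfsg.Agent.S0923
import Cfsg.Agent.Lib.Helper16.SecondMain2
import Cfsg.Agent.Lib.Helper16.DefectNum2
import Cfsg.Agent.Lib.Helper16.NormalSub
import Cfsg.Agent.Lib.Helper16.BlockPartReg
import Cfsg.Agent.Lib.Helper77.ThirdMain
import Cfsg.Agent.Lib.Helper77.DefectInd
import Cfsg.Agent.Lib.Helper77.FMT
import Cfsg.Agent.Lib.Helper77.CentralChar
import Cfsg.Agent.Lib.Helper78.DefectClass
import Cfsg.Agent.Lib.Helper78.CharOrtho

set_option autoImplicit false
set_option linter.style.haveILetI false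
set_option linter.unusedSectionVars false
open Cfsg

namespace Cfsg.Agent.S4717

open scoped ComplexConjugate
open Cfsg.Agent.Helper16 Cfsg.Agent.Helper77 Cfsg.Agent.Helper78

section

variable {G : Type*} [Group G] [Fintype G] {p : ℕ} {M : Ideal AlgInt}

/-- A block of the centralizer of a `p`-subgroup inducing `B` gives a Brauer pair of `B`. -/
theorem isBrauerPairOf_of_isInducedBlock [Fact p.Prime] (hM : IsPModular p M) (Q : Subgroup G)
    (hQ : IsPGroup p Q) {b : Set (IrrCharacter (Subgroup.centralizer (Q : Set G)))}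
    {B : Set (IrrCharacter G)}
    (hind : IsInducedBlock M (Subgroup.centralizer (Q : Set G)) b B) :
    IsBrauerPairOf p M B Q b := by
  classical
  haveI hpr := isPrime_of_isPModular hM
  haveI : Fintype (Subgroup.centralizer (Q : Set G)) := Fintype.ofFinite _
  refine ⟨⟨hQ, hind.1⟩, hind.2.1, ?_⟩
  intro ξ hξ
  obtain ⟨χ, hχ⟩ := nonempty_of_isPBlock hind.2.1
  have h := omega_restr_congr_of_isInducedBlock _ hind hξ hχ (isClassFunction_blockCoeff B)
    (isRValued_blockCoeff hind.2.1)
  rw [omega_blockCoeff, if_pos hχ] at h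
  rw [brauerOmega_eq_omega]
  exact h

/-- Brauer's third main theorem for blocks induced from the centralizer of a `p`-subgroup. -/
theorem principal_iff_of_isInducedBlock [Fact p.Prime] (hM : IsPModular p M) (Q : Subgroup G)
    (hQ : IsPGroup p Q) (C : Subgroup G) (hC : C = Subgroup.centralizer (Q : Set G))
    {b : Set (IrrCharacter C)} {B : Set (IrrCharacter G)}
    (hind : IsInducedBlock M C b B) :
    B = principalBlock M G ↔ b = principalBlock M C := by
  subst hC
  have hbp := isBrauerPairOf_of_isInducedBlock hM Q hQ hind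
  constructor
  · rintro rfl
    exact (isBrauerPairOf_principalBlock_iff hM Q hQ b hind.1).1 hbp
  · rintro rfl
    have h0 := isBrauerPairOf_principal hM Q hQ
    obtain ⟨B', _, huniq⟩ := existsUnique_block_of_brauerPair hM Q hQ _ hind.1
    rw [huniq B ⟨hind.2.1, hbp.2.2⟩, huniq _ ⟨h0.2.1, h0.2.2⟩]

theorem centralizer_singleton_eq_zpowers (y : G) :
    Subgroup.centralizer ({y} : Set G) = Subgroup.centralizer ((Subgroup.zpowers y : Subgroup G) : Set G) := by
  ext z
  rw [Subgroup.mem_centralizer_iff, Subgroup.mem_centralizer_iff]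
  constructor
  · intro h w hw
    obtain ⟨n, rfl⟩ := Subgroup.mem_zpowers_iff.1 hw
    have hc : Commute y z := h y rfl
    exact (hc.zpow_left n).eq
  · intro h w hw
    rw [Set.mem_singleton_iff] at hw
    subst hw
    exact h w (Subgroup.mem_zpowers w)

theorem isPGroup_zpowers [Fact p.Prime] (y : G) (hy : ∃ k : ℕ, orderOf y = p ^ k) :
    IsPGroup p (Subgroup.zpowers y) := by
  obtain ⟨k, hk⟩ := hy
  exact IsPGroup.of_card (n := k) (by rw [Nat.card_zpowers, hk])

/-- Part (a). -/
theorem partA [Fact p.Prime] (hM : IsPModular p M) (r : ℕ)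
    (h : ∀ B' : Set (IrrCharacter G), IsPBlock M B' → B' ≠ principalBlock M G →
      blockDefect p B' < r)
    (y : G) (hy : ∃ k : ℕ, orderOf y = p ^ k)
    (b : Set (IrrCharacter (Subgroup.centralizer ({y} : Set G)))) (hb : IsPBlock M b)
    (hne : b ≠ principalBlock M (Subgroup.centralizer ({y} : Set G))) : blockDefect p b < r := by
  classical
  haveI : Fintype (Subgroup.centralizer ({y} : Set G)) := Fintype.ofFinite _
  have hp : p.Prime := hM.1
  haveI hpr := isPrime_of_isPModular hM
  obtain ⟨B, hind⟩ := exists_isInducedBlock_centralizer hM y hy hb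
  have hQ := isPGroup_zpowers (p := p) y hy
  have hiff := principal_iff_of_isInducedBlock hM (Subgroup.zpowers y) hQ _
    (centralizer_singleton_eq_zpowers y) hind
  have hBne : B ≠ principalBlock M G := fun h' => hne (hiff.1 h')
  have hlt := h B hind.2.1 hBne
  obtain ⟨D, hD⟩ := exists_isDefectGroup p hb
  obtain ⟨E, hE, hDE⟩ := exists_isDefectGroup_of_isInducedBlock hM _ hind D hD
  have h1 := card_of_isDefectGroup hM hb D hD
  have h2 := card_of_isDefectGroup hM hind.2.1 E hE
  have h3 : Nat.card (D.map (Subgroup.centralizer ({y} : Set G)).subtype) = Nat.card D :=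
    Subgroup.card_map_of_injective (Subgroup.subtype_injective _)
  have h4 : Nat.card (D.map (Subgroup.centralizer ({y} : Set G)).subtype) ≤ Nat.card E :=
    Subgroup.card_le_of_le hDE
  rw [h3, h1, h2] at h4
  have h5 := (Nat.pow_le_pow_iff_right hp.one_lt).1 h4
  omega

/-- Characters in a block of small defect take values in the local ideal at elements whose
centralizer has a large `p`-part. -/
theorem memLocalIdeal_irr_of_defect_lt {X : Type*} [Group X] [Fintype X] [Fact p.Prime]
    (hM : IsPModular p M) {b : Set (IrrCharacter X)} (hb : IsPBlock M b) {ψ : IrrCharacter X}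
    (hψ : ψ ∈ b) (c : X) (d : ℕ)
    (hd : p ^ d ∣ Nat.card (Subgroup.centralizer ({c} : Set X))) (hlt : blockDefect p b < d) :
    MemLocalIdeal M ((ψ : X → ℂ) c) := by
  classical
  have hp : p.Prime := hM.1
  haveI hpr := isPrime_of_isPModular hM
  have hz := centralChar_isIntegral ψ.2 c
  obtain ⟨hA, hApos⟩ := Cfsg.Agent.Helper79.irr_one_eq ψ
  have hD0 : (Subgroup.centralizer ({c} : Set X)).index ≠ 0 := Subgroup.index_ne_zero_of_finite
  have hA0 : charDegree (ψ : X → ℂ) ≠ 0 := hApos.ne'
  have hDc : ((Subgroup.centralizer ({c} : Set X)).index : ℂ) ≠ 0 := by exact_mod_cast hD0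
  have hAc : (charDegree (ψ : X → ℂ) : ℂ) ≠ 0 := by exact_mod_cast hA0
  have heq : (ψ : X → ℂ) c = (charDegree (ψ : X → ℂ) : ℂ) * centralChar (ψ : X → ℂ) c /
      ((Subgroup.centralizer ({c} : Set X)).index : ℂ) := by
    unfold centralChar
    rw [hA]
    field_simp
  rw [heq]
  apply memLocalIdeal_nat_mul_div hM _ _ hA0 hD0 _ hz
  have h1 := factorization_index_add hp c
  have hcard0 : Nat.card (Subgroup.centralizer ({c} : Set X)) ≠ 0 := Nat.card_pos.ne'
  have h2 : d ≤ (Nat.card (Subgroup.centralizer ({c} : Set X))).factorization p :=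
    (hp.pow_dvd_iff_le_factorization hcard0).1 hd
  have h3 := blockDefect_eq p b
  have h4 := Cfsg.Agent.Helper16.minVal_le (p := p) hψ
  obtain ⟨g, hg⟩ := exists_isDefectClass hb
  have h5 := centralizer_factorization_add_minVal_le hM hb g hg.2.1
  omega

/-- If all the blocks of `C_G(y)` inducing `B` have defect less than `d` and `p ^ d` divides the
order of the centralizer of `y * s` in `C_G(y)`, then `χ (y * s)` lies in the local ideal. -/
theorem memLocalIdeal_of_induced_small [Fact p.Prime] (hM : IsPModular p M)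
    {B : Set (IrrCharacter G)} (hB : IsPBlock M B) {χ : IrrCharacter G} (hχ : χ ∈ B) (y : G)
    (hy : ∃ k : ℕ, orderOf y = p ^ k)
    (s : Subgroup.centralizer ({y} : Set G)) (hs : ¬ p ∣ orderOf s) (d : ℕ)
    (hd : ∀ c : Subgroup.centralizer ({y} : Set G), (c : G) = y * (s : G) →
      p ^ d ∣ Nat.card (Subgroup.centralizer ({c} : Set (Subgroup.centralizer ({y} : Set G)))))
    (hsmall : ∀ b : Set (IrrCharacter (Subgroup.centralizer ({y} : Set G))),
      IsInducedBlock M (Subgroup.centralizer ({y} : Set G)) b B → blockDefect p b < d) :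
    MemLocalIdeal M ((χ : G → ℂ) (y * (s : G))) := by
  classical
  haveI : Fintype (Subgroup.centralizer ({y} : Set G)) := Fintype.ofFinite _
  haveI hpr := isPrime_of_isPModular hM
  have hχcl := isClassFunction_of_isIrrCharacter χ.2
  have hyC : y ∈ Subgroup.centralizer ({y} : Set G) := (mem_centralizer_singleton_iff' y y).2 rfl
  have hcomm : ∀ k : Subgroup.centralizer ({y} : Set G), y * (k : G) = (k : G) * y :=
    fun k => (mem_centralizer_singleton_iff' y (k : G)).1 k.2
  have hϑ : IsClassFunction (Subgroup.centralizer ({y} : Set G))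
      (fun c : Subgroup.centralizer ({y} : Set G) => (χ : G → ℂ) (y * (c : G))) := by
    intro c k
    show (χ : G → ℂ) (y * ((k * c * k⁻¹ : Subgroup.centralizer ({y} : Set G)) : G)) =
      (χ : G → ℂ) (y * (c : G))
    have hkx := hcomm k
    have : y * ((k * c * k⁻¹ : Subgroup.centralizer ({y} : Set G)) : G) =
        (k : G) * (y * (c : G)) * (k : G)⁻¹ := by
      push_cast
      calc y * ((k : G) * (c : G) * (k : G)⁻¹) = (y * (k : G)) * (c : G) * (k : G)⁻¹ := by group
        _ = ((k : G) * y) * (c : G) * (k : G)⁻¹ := by rw [hkx]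
        _ = (k : G) * (y * (c : G)) * (k : G)⁻¹ := by group
    rw [this, hχcl]
  have h1 : (χ : G → ℂ) (y * (s : G)) = ∑ b ∈ allBlocks M (Subgroup.centralizer ({y} : Set G)),
      blockPart b (fun c : Subgroup.centralizer ({y} : Set G) => (χ : G → ℂ) (y * (c : G))) s := by
    simp_rw [blockPart_eq_sum_blockCoeff _ hϑ s]
    rw [Finset.sum_comm]
    simp_rw [← Finset.sum_mul]
    have hall := sum_blockCoeff_allBlocks (M := M) (G := Subgroup.centralizer ({y} : Set G))
    have hk : ∀ k : Subgroup.centralizer ({y} : Set G),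
        ∑ b ∈ allBlocks M (Subgroup.centralizer ({y} : Set G)), blockCoeff b k = delta k := by
      intro k
      rw [← hall, Finset.sum_apply]
    simp_rw [hk]
    unfold delta
    simp
  rw [h1]
  apply memLocalIdeal_sum
  intro b hb
  rw [mem_allBlocks] at hb
  by_cases hind : IsInducedBlock M (Subgroup.centralizer ({y} : Set G)) b B
  · have hlt := hsmall b hind
    have hres : IsCharacter (Subgroup.centralizer ({y} : Set G))
        (fun c : Subgroup.centralizer ({y} : Set G) => (χ : G → ℂ) c) :=
      isCharacter_restrict _ (Cfsg.Agent.Helper3.isCharacter_of_isIrrCharacter χ.2)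
    obtain ⟨m, hm⟩ := IsCharacter.exists_irr_decomp hres
    have hrescl : IsClassFunction (Subgroup.centralizer ({y} : Set G))
        (fun c : Subgroup.centralizer ({y} : Set G) => (χ : G → ℂ) c) :=
      Cfsg.Agent.Helper77.isClassFunction_restrict _ hχcl
    have h2 : blockPart b (fun c : Subgroup.centralizer ({y} : Set G) =>
          (χ : G → ℂ) (y * (c : G))) s =
        blockPart b (fun c : Subgroup.centralizer ({y} : Set G) => (χ : G → ℂ) c)
          (⟨y, hyC⟩ * s) := by
      rw [blockPart_eq_sum_blockCoeff b hϑ s, blockPart_eq_sum_blockCoeff b hrescl (⟨y, hyC⟩ * s)]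
      refine Finset.sum_congr rfl fun k _ => ?_
      congr 1
      push_cast
      have hkx := hcomm k
      have hcalc : y * ((k : G) * (s : G)) = (k : G) * (y * (s : G)) := by
        calc y * ((k : G) * (s : G)) = (y * (k : G)) * (s : G) := by group
          _ = ((k : G) * y) * (s : G) := by rw [hkx]
          _ = (k : G) * (y * (s : G)) := by group
      rw [hcalc]
    rw [h2, blockPart_eq_finset]
    apply memLocalIdeal_sum
    intro ψ hψ
    rw [Set.Finite.mem_toFinset] at hψ
    have hin : classInner (fun c : Subgroup.centralizer ({y} : Set G) => (χ : G → ℂ) c)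
        (ψ : Subgroup.centralizer ({y} : Set G) → ℂ) = (m ψ : ℂ) := by
      rw [hm]
      exact classInner_decomp (fun ξ => (m ξ : ℂ)) ψ
    rw [hin]
    exact memLocalIdeal_mul_left (memLocalRing_natCast _)
      (memLocalIdeal_irr_of_defect_lt hM hb hψ (⟨y, hyC⟩ * s) d (hd _ rfl) hlt)
  · rw [Cfsg.Agent.S0923.result p M hM y hy B hB χ hχ b hb hind s hs]
    exact memLocalIdeal_zero hpr.ne_top

/-- Part (b). -/
theorem partB [Fact p.Prime] (hM : IsPModular p M) (r : ℕ) (hr : 0 < r)
    (h : ∀ y : G, orderOf y = p →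
      ∀ B' : Set (IrrCharacter (Subgroup.centralizer ({y} : Set G))), IsPBlock M B' →
        B' ≠ principalBlock M (Subgroup.centralizer ({y} : Set G)) → blockDefect p B' < r)
    (B : Set (IrrCharacter G)) (hB : IsPBlock M B) (hne : B ≠ principalBlock M G) :
    blockDefect p B < r := by
  classical
  haveI hpr := isPrime_of_isPModular hM
  have hp : p.Prime := hM.1
  by_contra hcon
  push Not at hcon
  obtain ⟨g₀, hg₀⟩ := exists_isDefectClass hB
  have hfac := factorization_centralizer_of_isDefectClass hM hB g₀ hg₀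
  obtain ⟨P⟩ : Nonempty (Sylow p (Subgroup.centralizer ({g₀} : Set G))) := inferInstance
  have hPcard : Nat.card (P : Subgroup (Subgroup.centralizer ({g₀} : Set G))) =
      p ^ blockDefect p B := by
    rw [Sylow.card_eq_multiplicity, hfac]
  have hPp : IsPGroup p (P : Subgroup (Subgroup.centralizer ({g₀} : Set G))) := P.isPGroup'
  haveI hPnt : Nontrivial (P : Subgroup (Subgroup.centralizer ({g₀} : Set G))) := by
    rw [← Finite.one_lt_card_iff_nontrivial, hPcard]
    exact Nat.one_lt_pow (by omega) hp.one_lt
  haveI hZnt := hPp.center_nontrivial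
  have hZp : IsPGroup p (Subgroup.center (P : Subgroup (Subgroup.centralizer ({g₀} : Set G)))) :=
    hPp.to_subgroup _
  have hZdvd : p ∣ Nat.card (Subgroup.center (P : Subgroup (Subgroup.centralizer ({g₀} : Set G)))) := by
    rcases hZp.card_eq_or_dvd with h1 | h1
    · exfalso
      have := Finite.one_lt_card_iff_nontrivial.2 hZnt
      omega
    · exact h1
  obtain ⟨z, hz⟩ := exists_prime_orderOf_dvd_card' p hZdvd
  set y : G := (((z : (P : Subgroup (Subgroup.centralizer ({g₀} : Set G)))) :
    Subgroup.centralizer ({g₀} : Set G)) : G) with hydef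
  have hyord : orderOf y = p := by
    rw [hydef, Subgroup.orderOf_coe, Subgroup.orderOf_coe, Subgroup.orderOf_coe, hz]
  have hgy : g₀ * y = y * g₀ :=
    (mem_centralizer_singleton_iff' g₀ y).1
      ((z : (P : Subgroup (Subgroup.centralizer ({g₀} : Set G)))) :
        Subgroup.centralizer ({g₀} : Set G)).2
  have hyg : Commute y g₀ := hgy.symm
  have hPy : ∀ w : (P : Subgroup (Subgroup.centralizer ({g₀} : Set G))),
      ((w : Subgroup.centralizer ({g₀} : Set G)) : G) * y =
        y * ((w : Subgroup.centralizer ({g₀} : Set G)) : G) := by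
    intro w
    have := (Subgroup.mem_center_iff.1 z.2) w
    have h2 := congrArg (fun t : (P : Subgroup (Subgroup.centralizer ({g₀} : Set G))) =>
      ((t : Subgroup.centralizer ({g₀} : Set G)) : G)) this
    simpa using h2
  have hPg : ∀ w : (P : Subgroup (Subgroup.centralizer ({g₀} : Set G))),
      g₀ * ((w : Subgroup.centralizer ({g₀} : Set G)) : G) =
        ((w : Subgroup.centralizer ({g₀} : Set G)) : G) * g₀ := fun w =>
    (mem_centralizer_singleton_iff' g₀ _).1 (w : Subgroup.centralizer ({g₀} : Set G)).2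
  have hg₀C : g₀ ∈ Subgroup.centralizer ({y} : Set G) :=
    (mem_centralizer_singleton_iff' y g₀).2 hgy.symm
  have hreg : ¬ p ∣ orderOf g₀ :=
    (Cfsg.Agent.Helper74.DO.defect_le_of_blockCoeff hM hB g₀ hg₀.2.1).1
  have hs : ¬ p ∣ orderOf (⟨g₀, hg₀C⟩ : Subgroup.centralizer ({y} : Set G)) := by
    rw [← Subgroup.orderOf_coe]
    exact hreg
  obtain ⟨χ, hχ, hht⟩ := Cfsg.Agent.Helper74.DO.exists_minVal (p := p) (nonempty_of_isPBlock hB)
  have hy' : ∃ k : ℕ, orderOf y = p ^ k := ⟨1, by rw [hyord, pow_one]⟩
  have hd : ∀ c : Subgroup.centralizer ({y} : Set G),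
      (c : G) = y * ((⟨g₀, hg₀C⟩ : Subgroup.centralizer ({y} : Set G)) : G) →
      p ^ blockDefect p B ∣
        Nat.card (Subgroup.centralizer ({c} : Set (Subgroup.centralizer ({y} : Set G)))) := by
    intro c hc
    have hwC : ∀ w : (P : Subgroup (Subgroup.centralizer ({g₀} : Set G))),
        ((w : Subgroup.centralizer ({g₀} : Set G)) : G) ∈ Subgroup.centralizer ({y} : Set G) :=
      fun w => (mem_centralizer_singleton_iff' y _).2 (hPy w).symm
    let f₁ : (P : Subgroup (Subgroup.centralizer ({g₀} : Set G))) →*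
        Subgroup.centralizer ({y} : Set G) :=
      ((Subgroup.centralizer ({g₀} : Set G)).subtype.comp
        (P : Subgroup (Subgroup.centralizer ({g₀} : Set G))).subtype).codRestrict _ hwC
    have hf₁ : ∀ w, ((f₁ w : Subgroup.centralizer ({y} : Set G)) : G) =
        ((w : Subgroup.centralizer ({g₀} : Set G)) : G) := fun w => rfl
    have hwc : ∀ w, f₁ w ∈ Subgroup.centralizer ({c} : Set (Subgroup.centralizer ({y} : Set G))) := by
      intro w
      rw [mem_centralizer_singleton_iff']
      apply Subtype.ext
      push_cast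
      rw [hc, hf₁]
      show y * g₀ * _ = _ * (y * g₀)
      have h1 := hPy w
      have h2 := hPg w
      calc y * g₀ * ((w : Subgroup.centralizer ({g₀} : Set G)) : G)
          = y * (g₀ * ((w : Subgroup.centralizer ({g₀} : Set G)) : G)) := by group
        _ = y * (((w : Subgroup.centralizer ({g₀} : Set G)) : G) * g₀) := by rw [h2]
        _ = (y * ((w : Subgroup.centralizer ({g₀} : Set G)) : G)) * g₀ := by group
        _ = (((w : Subgroup.centralizer ({g₀} : Set G)) : G) * y) * g₀ := by rw [h1]
        _ = ((w : Subgroup.centralizer ({g₀} : Set G)) : G) * (y * g₀) := by group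
    let f₂ : (P : Subgroup (Subgroup.centralizer ({g₀} : Set G))) →*
        Subgroup.centralizer ({c} : Set (Subgroup.centralizer ({y} : Set G))) :=
      f₁.codRestrict _ hwc
    have hinj : Function.Injective f₂ := by
      intro w w' hww
      have h1 : f₁ w = f₁ w' := congrArg Subtype.val hww
      have h2 : ((f₁ w : Subgroup.centralizer ({y} : Set G)) : G) =
          ((f₁ w' : Subgroup.centralizer ({y} : Set G)) : G) := congrArg Subtype.val h1
      rw [hf₁, hf₁] at h2
      exact Subtype.ext (Subtype.ext h2)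
    have := Subgroup.card_dvd_of_injective f₂ hinj
    rwa [hPcard] at this
  have hsmall : ∀ b : Set (IrrCharacter (Subgroup.centralizer ({y} : Set G))),
      IsInducedBlock M (Subgroup.centralizer ({y} : Set G)) b B →
        blockDefect p b < blockDefect p B := by
    intro b hind
    have hQ := isPGroup_zpowers (p := p) y hy'
    have hiff := principal_iff_of_isInducedBlock hM (Subgroup.zpowers y) hQ _
      (centralizer_singleton_eq_zpowers y) hind
    have hbne : b ≠ principalBlock M (Subgroup.centralizer ({y} : Set G)) :=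
      fun h' => hne (hiff.2 h')
    have := h y hyord b hind.1 hbne
    omega
  have hmem := memLocalIdeal_of_induced_small hM hB hχ y hy' ⟨g₀, hg₀C⟩ hs (blockDefect p B)
    hd hsmall
  exact not_memLocalIdeal_irr_mul_defectClass hM hB hg₀ y hyg 1 (by rw [hyord, pow_one]) hχ hht
    hmem

end

/-- Let p be a prime, M a maximal ideal of the algebraic integers containing p, and r a natural number; say that a finite group X has deficiency class r when X has no non-principal p-block of defect ≥ r. If G has deficiency class r then so does the centralizer of every p-element of G; conversely, if r > 0 and the centralizer of every element of order p has deficiency class r, then G has deficiency class r. -/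
theorem result {G : Type*} [Group G] [Finite G] (p : ℕ) [Fact p.Prime] (M : Ideal Cfsg.AlgInt) (hM : Cfsg.IsPModular p M) (r : ℕ) : ((∀ B' : Set (Cfsg.IrrCharacter G), Cfsg.IsPBlock M B' → B' ≠ Cfsg.principalBlock M G → Cfsg.blockDefect p B' < r) → ∀ y : G, (∃ k : ℕ, orderOf y = p ^ k) → (∀ B' : Set (Cfsg.IrrCharacter ↥(Subgroup.centralizer ({y} : Set G))), Cfsg.IsPBlock M B' → B' ≠ Cfsg.principalBlock M ↥(Subgroup.centralizer ({y} : Set G)) → Cfsg.blockDefect p B' < r)) ∧ (0 < r → (∀ y : G, orderOf y = p → (∀ B' : Set (Cfsg.IrrCharacter ↥(Subgroup.centralizer ({y} : Set G))), Cfsg.IsPBlock M B' → B' ≠ Cfsg.principalBlock M ↥(Subgroup.centralizer ({y} : Set G)) → Cfsg.blockDefect p B' < r)) → (∀ B' : Set (Cfsg.IrrCharacter G), Cfsg.IsPBlock M B' → B' ≠ Cfsg.principalBlock M G → Cfsg.blockDefect p B' < r)) := by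
  classical
  haveI : Fintype G := Fintype.ofFinite G
  refine ⟨?_, ?_⟩
  · intro h y hy B' hB' hne
    exact partA hM r h y hy B' hB' hne
  · intro hr h B' hB' hne
    exact partB hM r hr h B' hB' hne

end Cfsg.Agent.S4717
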