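import Cfsg.Statements.S0925
import Cfsg.Agent.Lib.Helper16.SectionOrtho
import Mathlib

set_option autoImplicit false
set_option linter.style.haveILetI false
set_option linter.unusedSectionVars false
open Cfsg
open scoped ComplexConjugate

namespace Cfsg.Agent.S0925

open Cfsg.Agent.Helper16 Cfsg.Agent.Helper77 Cfsg.Agent.Helper78

theorem blockPart_eq {G : Type*} [Group G] [Fintype G] (B : Set (IrrCharacter G)) (ϑ : G → ℂ)
    (u : G) : blockPart B ϑ u =
      ∑ χ ∈ (Set.toFinite B).toFinset, classInner ϑ (χ : G → ℂ) * (χ : G → ℂ) u := by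
  unfold blockPart
  rw [finsum_mem_eq_finite_toFinset_sum _ (Set.toFinite B)]
  refine Finset.sum_congr rfl fun χ _ => ?_
  congr 1
  unfold classInner
  congr!

/-- (i) Let ϑ be a class function on the finite group G and x a p-element, and suppose ϑ vanishes at every element whose p-part is conjugate to x. Then for every block B (relative to a maximal ideal M of the algebraic integers containing p) the B-part of ϑ — the sum over χ ∈ B of the inner product of ϑ with χ, times χ — also vanishes at every such element. (ii) Block orthogonality, its corollary: if the p-parts of g and h are not conjugate, then the sum over χ ∈ B of χ g * χ h⁻¹ is zero for every block B. -/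
theorem result {G : Type*} [Group G] [Finite G] (p : ℕ) [Fact p.Prime] (M : Ideal Cfsg.AlgInt) (hM : Cfsg.IsPModular p M) : (∀ (ϑ : G → ℂ), Cfsg.IsClassFunction G ϑ → ∀ x : G, (∃ k : ℕ, orderOf x = p ^ k) → (∀ u z : G, Cfsg.IsPPart p u z → IsConj x z → ϑ u = 0) → ∀ B : Set (Cfsg.IrrCharacter G), Cfsg.IsPBlock M B → ∀ u z : G, Cfsg.IsPPart p u z → IsConj x z → Cfsg.blockPart B ϑ u = 0) ∧ (∀ g h x y : G, Cfsg.IsPPart p g x → Cfsg.IsPPart p h y → ¬ IsConj x y → ∀ B : Set (Cfsg.IrrCharacter G), Cfsg.IsPBlock M B → ∑ᶠ χ ∈ B, (χ : G → ℂ) g * (χ : G → ℂ) h⁻¹ = 0) := by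
  classical
  haveI : Fintype G := Fintype.ofFinite G
  have hp : p.Prime := Fact.out
  have hii : ∀ g h x y : G, Cfsg.IsPPart p g x → Cfsg.IsPPart p h y → ¬ IsConj x y →
      ∀ B : Set (Cfsg.IrrCharacter G), Cfsg.IsPBlock M B →
      ∑ χ ∈ (Set.toFinite B).toFinset, (χ : G → ℂ) g * (χ : G → ℂ) h⁻¹ = 0 :=
    fun g h x y hx hy hxy B hB => block_orthogonality_sections hM hB hx hy hxy
  refine ⟨?_, ?_⟩
  · intro ϑ _ x _ hvan B hB u z huz hxz
    rw [blockPart_eq]
    unfold classInner
    have h1 : ∀ χ ∈ (Set.toFinite B).toFinset,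
        (Nat.card G : ℂ)⁻¹ * (∑ g : G, ϑ g * conj ((χ : G → ℂ) g)) * (χ : G → ℂ) u
        = (Nat.card G : ℂ)⁻¹ * ∑ g : G, ϑ g * ((χ : G → ℂ) u * (χ : G → ℂ) g⁻¹) := by
      intro χ _
      rw [mul_assoc, Finset.sum_mul]
      congr 1
      refine Finset.sum_congr rfl fun g _ => ?_
      rw [IsIrrCharacter.inv χ.2 g]
      ring
    rw [Finset.sum_congr rfl h1, ← Finset.mul_sum, Finset.sum_comm]
    have h2 : ∀ g : G, ∑ χ ∈ (Set.toFinite B).toFinset,
        ϑ g * ((χ : G → ℂ) u * (χ : G → ℂ) g⁻¹) = 0 := by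
      intro g
      rw [← Finset.mul_sum]
      obtain ⟨z', hz'⟩ := exists_isPPart hp g
      by_cases hc : IsConj x z'
      · rw [hvan g z' hz' hc, zero_mul]
      · have hzz' : ¬ IsConj z z' := fun h => hc (hxz.trans h)
        rw [hii u g z z' huz hz' hzz' B hB, mul_zero]
    rw [Finset.sum_congr rfl (fun g _ => h2 g), Finset.sum_const_zero, mul_zero]
  · intro g h x y hx hy hxy B hB
    rw [finsum_mem_eq_finite_toFinset_sum _ (Set.toFinite B)]
    exact hii g h x y hx hy hxy B hB

end Cfsg.Agent.S0925
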