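import Cfsg.Statements.S5078
import Cfsg.Agent.Lib.Helper84.FusBasic

set_option autoImplicit false
open Cfsg

namespace Cfsg.Agent.S5078

open Cfsg.Agent.Helper84 Cfsg.FusionSystem

/-- In any fusion system over a finite subgroup S, a receptive subgroup is fully centralized. -/
theorem result {Ω : Type*} [Group Ω] {S : Subgroup Ω} [Finite S] (F : Cfsg.FusionSystem S) (P : Subgroup Ω) (hP : F.IsReceptive P) : F.IsFullyCentralized P := by
  refine ⟨hP.1, ?_⟩
  intro Q hPQ
  obtain ⟨ψ₁, hψ₁, hr⟩ := conj_symm F hPQ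
  obtain ⟨ψ, hψ, hag⟩ := hP.2 Q ψ₁ hψ₁ hr
  have hQle := le_extender F hψ₁
  have hCle : centralizerIn S Q ≤ extender S Q ψ₁ := centralizerIn_le_extender Q ψ₁
  have hinj := F.injective_of_mem hψ
  -- the map C_S(Q) → C_S(P)
  have hmap : ∀ c : centralizerIn S Q, ψ ⟨c, hCle c.2⟩ ∈ centralizerIn S P := by
    intro c
    refine Subgroup.mem_inf.mpr ⟨(F.le_of_mem hψ).2 _, ?_⟩
    rw [Subgroup.mem_centralizer_iff]
    intro y hy
    have hy' : y ∈ ψ₁.range := hr ▸ hy
    obtain ⟨x, rfl⟩ := hy'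
    have hx := hag x x.2 (hQle x.2)
    have hxx : (⟨(x : Ω), x.2⟩ : Q) = x := rfl
    rw [hxx] at hx
    rw [← hx, ← map_mul, ← map_mul]
    congr 1
    apply Subtype.ext
    have hc : (c : Ω) ∈ Subgroup.centralizer (Q : Set Ω) := c.2.2
    exact hc x x.2
  have : Finite (centralizerIn S P) :=
    Finite.of_injective (Subgroup.inclusion (inf_le_left : centralizerIn S P ≤ S))
      (Subgroup.inclusion_injective _)
  apply Nat.card_le_card_of_injective (fun c : centralizerIn S Q => (⟨ψ ⟨c, hCle c.2⟩, hmap c⟩ : centralizerIn S P))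
  intro c c' h
  have h1 : ψ ⟨c, hCle c.2⟩ = ψ ⟨c', hCle c'.2⟩ := congrArg Subtype.val h
  have h2 := hinj h1
  have h3 : (c : Ω) = c' := congrArg (fun z : extender S Q ψ₁ => (z : Ω)) h2
  exact Subtype.ext h3

end Cfsg.Agent.S5078
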