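import Cfsg.Statements.S1181
import Mathlib
import Cfsg.Agent.Lib.Helper20.Isolated

set_option autoImplicit false
open Cfsg Cfsg.Agent.Helper20

namespace Cfsg.Agent.S1181

/-- Let z be an isolated involution of the finite group G and N a normal subgroup with z ∉ N. Then the centralizer of zN in G/N is the image of C_G(z), and zN is an isolated involution of G/N. -/
theorem result {G : Type*} [Group G] [Finite G] (z : G) (hz : Cfsg.IsIsolatedInvolution z) (N : Subgroup G) [N.Normal] (hzN : z ∉ N) : Subgroup.centralizer ({(QuotientGroup.mk z : G ⧸ N)} : Set (G ⧸ N)) = (Subgroup.centralizer ({z} : Set G)).map (QuotientGroup.mk' N) ∧ Cfsg.IsIsolatedInvolution (QuotientGroup.mk z : G ⧸ N) := by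
  have hzz := iso_sq hz
  have hzi := iso_inv hz
  refine ⟨?_, ?_⟩
  · apply le_antisymm
    · intro q hq
      obtain ⟨g, rfl⟩ := QuotientGroup.mk_surjective q
      rw [Subgroup.mem_centralizer_iff] at hq
      have h1 := hq _ rfl
      -- mk z * mk g = mk g * mk z
      have h2 : ((z * g : G) : G ⧸ N) = ((g * z : G) : G ⧸ N) := by
        simpa using h1
      rw [QuotientGroup.eq] at h2
      -- (z g)⁻¹ (g z) ∈ N ; conjugate by g
      have h3 : z * (g * z * g⁻¹) ∈ N := by
        have := (inferInstance : N.Normal).conj_mem _ h2 g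
        have e : g * ((z * g)⁻¹ * (g * z)) * g⁻¹ = z⁻¹ * (g * z * g⁻¹) := by group
        rw [e, hzi] at this
        exact this
      have hkN : isoK z g ∈ N := by unfold isoK; exact N.pow_mem h3 _
      have hk := isoK_conj hz g
      refine ⟨(isoK z g)⁻¹ * g, ?_, ?_⟩
      · show (isoK z g)⁻¹ * g ∈ Subgroup.centralizer ({z} : Set G)
        rw [mem_centralizer_iff_conj_eq]
        exact hk.symm
      · show (((isoK z g)⁻¹ * g : G) : G ⧸ N) = (g : G ⧸ N)
        rw [QuotientGroup.eq]
        have : ((isoK z g)⁻¹ * g)⁻¹ * g = g⁻¹ * isoK z g * g := by group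
        rw [this]
        have := (inferInstance : N.Normal).conj_mem _ hkN g⁻¹
        simpa using this
    · rintro q ⟨c, hc, rfl⟩
      rw [Subgroup.mem_centralizer_iff]
      intro y hy
      rw [Set.mem_singleton_iff] at hy
      subst hy
      have hc' := Subgroup.mem_centralizer_iff.mp hc z rfl
      show ((z : G) : G ⧸ N) * ((c : G) : G ⧸ N) = ((c : G) : G ⧸ N) * ((z : G) : G ⧸ N)
      rw [← QuotientGroup.mk_mul, ← QuotientGroup.mk_mul, hc']
  · refine ⟨?_, ?_⟩
    · have : Fact (Nat.Prime 2) := ⟨Nat.prime_two⟩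
      apply orderOf_eq_prime
      · rw [pow_two, ← QuotientGroup.mk_mul, hzz]; rfl
      · intro h
        apply hzN
        exact (QuotientGroup.eq_one_iff z).mp h
    · intro q hq
      obtain ⟨g, rfl⟩ := QuotientGroup.mk_surjective q
      have h1 : ((z * (g * z * g⁻¹) : G) : G ⧸ N) = (((g * z * g⁻¹) * z : G) : G ⧸ N) := by
        have := hq.eq
        simpa using this
      rw [QuotientGroup.eq] at h1
      have htt := iso_sq (iso_conj hz g)
      have hti := iso_inv (iso_conj hz g)
      have hodd := iso_odd hz g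
      have hgoal : (g : G ⧸ N) * (z : G ⧸ N) * (g : G ⧸ N)⁻¹ = ((g * z * g⁻¹ : G) : G ⧸ N) := by
        simp
      rw [hgoal]
      clear hgoal hq
      generalize g * z * g⁻¹ = t at *
      have h2 : (z * t) * (z * t) ∈ N := by
        have e : (z * t)⁻¹ * (t * z) = (t * z) * (t * z) := by
          rw [mul_inv_rev, hzi, hti]
        rw [e] at h1
        -- conjugate by z
        have := (inferInstance : N.Normal).conj_mem _ h1 z
        have e2 : z * ((t * z) * (t * z)) * z⁻¹ = (z * t) * (z * t) * (z * z⁻¹) := by group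
        rw [e2, mul_inv_cancel, mul_one] at this
        exact this
      have h3 : z * t ∈ N := by
        obtain ⟨e, he⟩ := hodd
        have : z * t = ((z * t) * (z * t)) ^ (e + 1) := by
          rw [← pow_two, ← pow_mul, show 2 * (e + 1) = orderOf (z * t) + 1 by omega, pow_succ,
            pow_orderOf_eq_one, one_mul]
        rw [this]
        exact N.pow_mem h2 _
      have h4 : ((z * t : G) : G ⧸ N) = 1 := (QuotientGroup.eq_one_iff _).mpr h3
      have h5 : ((t : G) : G ⧸ N) = ((z : G) : G ⧸ N) := by
        have : ((z : G) : G ⧸ N) * ((t : G) : G ⧸ N) = 1 := by rw [← QuotientGroup.mk_mul]; exact h4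
        have h6 := eq_inv_of_mul_eq_one_right this
        rw [h6, ← QuotientGroup.mk_inv, hzi]
      exact h5


end Cfsg.Agent.S1181
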