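import Cfsg.Statements.S2972
import Cfsg.Agent.Lib.Helper49.ZStar
import Mathlib.GroupTheory.Transfer
import Mathlib.GroupTheory.SpecificGroups.Cyclic

set_option autoImplicit false
open Cfsg

namespace Cfsg.Agent.S2972

open Cfsg.Agent.Helper49
open scoped commutatorElement

/-- A central subgroup of order `p` and index prime to `p` in a finite group with trivial
`p'`-core is the whole group. -/
theorem eq_top_of_central_prime {K : Type*} [Group K] [Finite K] {p : ℕ} [Fact p.Prime]
    (Z : Subgroup K) (hZc : Z ≤ Subgroup.center K) (hZp : Nat.card Z = p)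
    (hidx : (Z.index).Coprime p) (hO : Cfsg.pPrimeCore p K = ⊥) : Z = ⊤ := by
  have hp : p.Prime := Fact.out
  have hcard : Nat.card K = p * Z.index := by rw [← hZp, Subgroup.card_mul_index]
  have hidx0 : Z.index ≠ 0 := Subgroup.index_ne_zero_of_finite
  have hfac : (Nat.card K).factorization p = 1 := by
    rw [hcard, Nat.factorization_mul hp.ne_zero hidx0]
    have h1 : (p.factorization) p = 1 := hp.factorization_self
    have h2 : (Z.index.factorization) p = 0 := by
      apply Nat.factorization_eq_zero_of_not_dvd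
      intro hd
      have := Nat.Coprime.eq_one_of_dvd hidx.symm hd
      exact hp.one_lt.ne' this
    simp [h1, h2]
  let P : Sylow p K := Sylow.ofCard Z (by rw [hfac, pow_one, hZp])
  have hPZ : (P : Subgroup K) = Z := Sylow.coe_ofCard Z _
  have hP : Subgroup.normalizer ((P : Subgroup K) : Set K) ≤
      Subgroup.centralizer ((P : Subgroup K) : Set K) := by
    intro g _
    rw [Subgroup.mem_centralizer_iff]
    intro z hz
    rw [SetLike.mem_coe, hPZ] at hz
    exact ((Subgroup.mem_center_iff.mp (hZc hz)) g).symm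
  have hcompl := MonoidHom.ker_transferSylow_isComplement' P hP
  set T := (MonoidHom.transferSylow P hP).ker with hT
  have hTcard : Nat.card T * Nat.card (P : Subgroup K) = Nat.card K := hcompl.card_mul_card
  have hTidx : Nat.card T = Z.index := by
    rw [hPZ, hZp, hcard, mul_comm] at hTcard
    exact Nat.eq_of_mul_eq_mul_left hp.pos hTcard
  have hTle : T ≤ Cfsg.pPrimeCore p K :=
    le_pPrimeCore p T inferInstance (by rw [hTidx]; exact hidx)
  rw [hO, le_bot_iff] at hTle
  rw [hTle] at hcompl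
  rw [← hPZ]
  exact Subgroup.isComplement'_bot_left.mp hcompl

section main

variable {G : Type*} [Group G] [Finite G] {p : ℕ} [Fact p.Prime] (x : G)

/-- if all conjugates fix `x`, then `x` is in `Z*`. -/
theorem inZStar_of_central (h : ∀ g : G, g * x * g⁻¹ = x) : Cfsg.InZStar p x := by
  intro g
  rw [h g, mul_inv_cancel]
  exact Subgroup.one_mem _

theorem pPrimeCore_eq_bot_of_normal (hO : Cfsg.pPrimeCore p G = ⊥) (M : Subgroup G) [M.Normal] :
    Cfsg.pPrimeCore p M = ⊥ := by
  have h := map_pPrimeCore_le p M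
  rw [hO, le_bot_iff] at h
  rw [eq_bot_iff]
  intro m hm
  have : (M.subtype m) ∈ (Cfsg.pPrimeCore p M).map M.subtype := ⟨m, hm, rfl⟩
  rw [h, Subgroup.mem_bot] at this
  rw [Subgroup.mem_bot]
  exact Subtype.ext this

/-- Step 2: the normal closure of `x` is everything. -/
theorem normalClosure_eq_top (hiso : Cfsg.IsIsolated x) (hnz : ¬ Cfsg.InZStar p x)
    (hmin : ∀ (H : Subgroup G) (hxH : x ∈ H), H ≠ ⊤ → Cfsg.InZStar p (⟨x, hxH⟩ : ↥H))
    (hO : Cfsg.pPrimeCore p G = ⊥) : Subgroup.normalClosure ({x} : Set G) = ⊤ := by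
  by_contra hne
  set M := Subgroup.normalClosure ({x} : Set G) with hM
  have hxM : x ∈ M := Subgroup.subset_normalClosure (Set.mem_singleton x)
  have hZ := hmin M hxM hne
  have hOM : Cfsg.pPrimeCore p M = ⊥ := pPrimeCore_eq_bot_of_normal hO M
  apply hnz
  apply inZStar_of_central
  intro g
  have hgM : g * x * g⁻¹ ∈ M := Subgroup.normalClosure_normal.conj_mem x hxM g
  have h1 := hZ ⟨g * x * g⁻¹, hgM⟩
  rw [hOM, Subgroup.mem_bot] at h1
  have h2 : (g * x * g⁻¹) * x * (g * x * g⁻¹)⁻¹ * x⁻¹ = 1 := by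
    have := congrArg Subtype.val h1
    simpa using this
  apply hiso g
  show x * (g * x * g⁻¹) = (g * x * g⁻¹) * x
  have h3 : (g * x * g⁻¹) * x = x * (g * x * g⁻¹) := by
    have : (g * x * g⁻¹) * x * (g * x * g⁻¹)⁻¹ = x := by
      rw [← mul_inv_eq_one]; exact h2
    calc (g * x * g⁻¹) * x = ((g * x * g⁻¹) * x * (g * x * g⁻¹)⁻¹) * (g * x * g⁻¹) := by group
      _ = x * (g * x * g⁻¹) := by rw [this]
  exact h3.symm

/-- Claim A: every nontrivial normal subgroup together with `x` generates `G`. -/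
theorem sup_zpowers_eq_top (hx : orderOf x = p) (hiso : Cfsg.IsIsolated x)
    (hnz : ¬ Cfsg.InZStar p x)
    (hmin : ∀ (H : Subgroup G) (hxH : x ∈ H), H ≠ ⊤ → Cfsg.InZStar p (⟨x, hxH⟩ : ↥H))
    (hquot : ∀ (N : Subgroup G) [N.Normal], N ≠ ⊥ → Cfsg.InZStar p (QuotientGroup.mk x : G ⧸ N))
    (hO : Cfsg.pPrimeCore p G = ⊥) (hcl : Subgroup.normalClosure ({x} : Set G) = ⊤)
    (N : Subgroup G) [hN : N.Normal] (hN1 : N ≠ ⊥) : N ⊔ Subgroup.zpowers x = ⊤ := by
  have hp : p.Prime := Fact.out
  by_contra hne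
  set H := N ⊔ Subgroup.zpowers x with hH
  have hxH : x ∈ H := Subgroup.mem_sup_right (Subgroup.mem_zpowers x)
  have hNH : N ≤ H := le_sup_left
  have hZ := hmin H hxH hne
  set D : Subgroup G := (Cfsg.pPrimeCore p H).map H.subtype with hD
  have hDconj : ∀ h ∈ H, ∀ d ∈ D, h * d * h⁻¹ ∈ D := fun h hh d hd =>
    conj_mem_map_pPrimeCore p H h (Subgroup.le_normalizer hh) d hd
  have hDcop : (Nat.card D).Coprime p := by
    rw [hD, card_map_subtype]; exact pPrimeCore_card_coprime p
  -- E = D ⊓ N is trivial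
  have hE : D ⊓ N = ⊥ := by
    have hEn : ((D ⊓ N).subgroupOf N).Normal := by
      apply Subgroup.normal_subgroupOf_of_le_normalizer
      intro n hn
      apply mem_normalizer_of_conj_le
      intro e he
      exact Subgroup.mem_inf.mpr ⟨hDconj n (hNH hn) e (Subgroup.mem_inf.mp he).1,
        hN.conj_mem e (Subgroup.mem_inf.mp he).2 n⟩
    have hEcop : (Nat.card ((D ⊓ N).subgroupOf N)).Coprime p := by
      rw [Nat.card_congr (Subgroup.subgroupOfEquivOfLe (inf_le_right : D ⊓ N ≤ N)).toEquiv]
      exact Nat.Coprime.coprime_dvd_left (Subgroup.card_dvd_of_le inf_le_left) hDcop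
    have h1 := le_pPrimeCore p _ hEn hEcop
    rw [pPrimeCore_eq_bot_of_normal hO N, le_bot_iff, Subgroup.subgroupOf_eq_bot] at h1
    rw [eq_bot_iff]
    intro y hy
    have : y ∈ (D ⊓ N) ⊓ N := Subgroup.mem_inf.mpr ⟨hy, (Subgroup.mem_inf.mp hy).2⟩
    exact (disjoint_iff.mp h1) ▸ this
  -- x centralizes N
  have hxN : ∀ n ∈ N, n * x = x * n := by
    intro n hn
    have h1 := hZ ⟨n, hNH hn⟩
    have h2 : n * x * n⁻¹ * x⁻¹ ∈ D := ⟨_, h1, by simp⟩
    have h3 : n * x * n⁻¹ * x⁻¹ ∈ N := by
      have : n * x * n⁻¹ * x⁻¹ = n * (x * n⁻¹ * x⁻¹) := by group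
      rw [this]
      exact N.mul_mem hn (hN.conj_mem _ (N.inv_mem hn) x)
    have h4 : n * x * n⁻¹ * x⁻¹ ∈ D ⊓ N := Subgroup.mem_inf.mpr ⟨h2, h3⟩
    rw [hE, Subgroup.mem_bot] at h4
    have : n * x * n⁻¹ = x := by rwa [mul_inv_eq_one] at h4
    calc n * x = (n * x * n⁻¹) * n := by group
      _ = x * n := by rw [this]
  -- N is central
  have hNc : N ≤ Subgroup.center G := by
    have hxC : x ∈ Subgroup.centralizer (N : Set G) := by
      rw [Subgroup.mem_centralizer_iff]
      intro n hn
      exact hxN n hn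
    have hC : Subgroup.centralizer (N : Set G) = ⊤ := by
      rw [eq_top_iff, ← hcl]
      exact Subgroup.normalClosure_le_normal (Set.singleton_subset_iff.mpr hxC)
    intro n hn
    rw [Subgroup.mem_center_iff]
    intro g
    have hg : g ∈ Subgroup.centralizer (N : Set G) := by rw [hC]; trivial
    exact (Subgroup.mem_centralizer_iff.mp hg n hn).symm
  -- an element of prime order in N
  have hNcard : Nat.card N ≠ 1 := by
    intro h
    exact hN1 (Subgroup.card_eq_one.mp h)
  obtain ⟨r, hr, hrdvd⟩ := Nat.exists_prime_and_dvd hNcard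
  haveI : Fact r.Prime := ⟨hr⟩
  obtain ⟨z', hz'⟩ := exists_prime_orderOf_dvd_card' r hrdvd
  set z : G := (z' : G) with hz
  have hzN : z ∈ N := z'.2
  have hzord : orderOf z = r := by rw [hz, Subgroup.orderOf_coe]; exact hz'
  set N₀ := Subgroup.zpowers z with hN₀
  have hN₀N : N₀ ≤ N := by rw [hN₀, Subgroup.zpowers_le]; exact hzN
  have hN₀c : N₀ ≤ Subgroup.center G := hN₀N.trans hNc
  have hN₀n : N₀.Normal := by
    constructor
    intro y hy g
    have := (Subgroup.mem_center_iff.mp (hN₀c hy)) g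
    have h2 : g * y * g⁻¹ = y := by
      calc g * y * g⁻¹ = (g * y) * g⁻¹ := rfl
        _ = (y * g) * g⁻¹ := by rw [this]
        _ = y := by group
    rw [h2]; exact hy
  have hN₀card : Nat.card N₀ = r := by rw [hN₀, Nat.card_zpowers, hzord]
  have hN₀1 : N₀ ≠ ⊥ := by
    intro h
    rw [h, Subgroup.card_bot] at hN₀card
    exact hr.one_lt.ne' hN₀card.symm
  have hrp : r = p := by
    by_contra hrp
    have h1 : (Nat.card N₀).Coprime p := by
      rw [hN₀card]; exact (Nat.coprime_primes hr hp).mpr hrp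
    have h2 := le_pPrimeCore p N₀ hN₀n h1
    rw [hO, le_bot_iff] at h2
    exact hN₀1 h2
  -- the quotient by N₀
  have hq := hquot N₀ hN₀1
  set Kbar := Cfsg.pPrimeCore p (G ⧸ N₀) with hKbar
  have hKbarN : Kbar.Normal := pPrimeCore_normal' p
  set K : Subgroup G := Kbar.comap (QuotientGroup.mk' N₀) with hK
  have hKn : K.Normal := hKbarN.comap _
  have hN₀K : N₀ ≤ K := by
    intro d hd
    show (QuotientGroup.mk' N₀) d ∈ Kbar
    have h1 : (QuotientGroup.mk' N₀) d = 1 := (QuotientGroup.eq_one_iff d).mpr hd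
    rw [h1]; exact Kbar.one_mem
  have hrel : N₀.relIndex K = Nat.card Kbar := by
    have hker : N₀ = (⊥ : Subgroup (G ⧸ N₀)).comap (QuotientGroup.mk' N₀) :=
      (QuotientGroup.ker_mk' N₀).symm
    conv_lhs => rw [hker]
    rw [Subgroup.relIndex_comap, Subgroup.relIndex_bot_left]
    have : K.map (QuotientGroup.mk' N₀) = Kbar :=
      Subgroup.map_comap_eq_self_of_surjective (QuotientGroup.mk'_surjective N₀) Kbar
    rw [this]
  -- K = N₀
  have hKN₀ : K = N₀ := by
    have h1 : N₀.subgroupOf K = ⊤ := by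
      apply eq_top_of_central_prime (p := p) (N₀.subgroupOf K)
      · intro k hk
        rw [Subgroup.mem_center_iff]
        intro g
        apply Subtype.ext
        have := (Subgroup.mem_center_iff.mp (hN₀c (Subgroup.mem_subgroupOf.mp hk))) (g : G)
        simpa using this
      · rw [Nat.card_congr (Subgroup.subgroupOfEquivOfLe hN₀K).toEquiv, hN₀card, hrp]
      · show (N₀.relIndex K).Coprime p
        rw [hrel]; exact pPrimeCore_card_coprime p
      · exact pPrimeCore_eq_bot_of_normal hO K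
    rw [Subgroup.subgroupOf_eq_top] at h1
    exact le_antisymm h1 hN₀K
  -- conclusion: x is central
  apply hnz
  apply inZStar_of_central
  intro g
  have h1 := hq (QuotientGroup.mk g)
  have h2 : g * x * g⁻¹ * x⁻¹ ∈ K := by
    show (QuotientGroup.mk' N₀) (g * x * g⁻¹ * x⁻¹) ∈ Kbar
    simpa using h1
  rw [hKN₀] at h2
  have h3 := Subgroup.mem_center_iff.mp (hN₀c h2)
  apply hiso g
  show x * (g * x * g⁻¹) = (g * x * g⁻¹) * x
  have h4 := h3 x
  calc x * (g * x * g⁻¹) = (x * (g * x * g⁻¹ * x⁻¹)) * x := by group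
    _ = ((g * x * g⁻¹ * x⁻¹) * x) * x := by rw [h4]
    _ = (g * x * g⁻¹) * x := by group

end main

/-- every nontrivial normal subgroup contains the derived subgroup -/
theorem commutator_le_of_sup_eq_top {G : Type*} [Group G] (x : G) (K : Subgroup G) [hK : K.Normal]
    (h : K ⊔ Subgroup.zpowers x = ⊤) : commutator G ≤ K := by
  have hq : ∀ y : G ⧸ K, y ∈ Subgroup.zpowers (QuotientGroup.mk x : G ⧸ K) := by
    intro y
    have h1 : (⊤ : Subgroup (G ⧸ K)) = Subgroup.zpowers (QuotientGroup.mk x : G ⧸ K) := by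
      calc (⊤ : Subgroup (G ⧸ K)) = (⊤ : Subgroup G).map (QuotientGroup.mk' K) := by
            rw [← MonoidHom.range_eq_map]
            exact (MonoidHom.range_eq_top.mpr (QuotientGroup.mk'_surjective K)).symm
        _ = (K ⊔ Subgroup.zpowers x).map (QuotientGroup.mk' K) := by rw [h]
        _ = Subgroup.zpowers (QuotientGroup.mk x : G ⧸ K) := by
            rw [Subgroup.map_sup, QuotientGroup.map_mk'_self, bot_sup_eq, MonoidHom.map_zpowers]
            rfl
    rw [← h1]; trivial
  rw [commutator_def, Subgroup.commutator_le]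
  intro a _ b _
  obtain ⟨i, hi⟩ := Subgroup.mem_zpowers_iff.mp (hq (QuotientGroup.mk a))
  obtain ⟨j, hj⟩ := Subgroup.mem_zpowers_iff.mp (hq (QuotientGroup.mk b))
  rw [← QuotientGroup.eq_one_iff, commutatorElement_def]
  simp only [QuotientGroup.mk_mul, QuotientGroup.mk_inv]
  rw [← hi, ← hj]
  have hc : Commute ((QuotientGroup.mk x : G ⧸ K) ^ i) ((QuotientGroup.mk x : G ⧸ K) ^ j) :=
    (Commute.refl _).zpow_zpow i j
  rw [hc.eq]
  group

/-- Let G be a finite group, p a prime and x ∈ G an isolated element of order p (the only conjugate of x commuting with x is x) which is not central modulo the largest normal subgroup of order prime to p, while x is central modulo the largest normal subgroup of order prime to p in every proper subgroup containing x, and the image of x is so in every quotient of G by a nontrivial normal subgroup (a minimal counterexample to the Z*_p statement). Then the derived subgroup G' is a non-abelian simple group and G = G'⟨x⟩. -/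
theorem result {G : Type*} [Group G] [Finite G] {p : ℕ} [Fact p.Prime] (x : G) (hx : orderOf x = p) (hiso : Cfsg.IsIsolated x) (hnz : ¬ Cfsg.InZStar p x) (hmin : ∀ (H : Subgroup G) (hxH : x ∈ H), H ≠ ⊤ → Cfsg.InZStar p (⟨x, hxH⟩ : ↥H)) (hquot : ∀ (N : Subgroup G) [N.Normal], N ≠ ⊥ → Cfsg.InZStar p (QuotientGroup.mk x : G ⧸ N)) : IsSimpleGroup ↥(commutator G) ∧ ¬ IsMulCommutative ↥(commutator G) ∧ commutator G ⊔ Subgroup.zpowers x = ⊤ := by
  have hp : p.Prime := Fact.out
  have hxp : ∃ k : ℕ, orderOf x = p ^ k := ⟨1, by rw [hx, pow_one]⟩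
  have hO := pPrimeCore_eq_bot_of_min x hnz hquot
  have hcl := normalClosure_eq_top x hiso hnz hmin hO
  have hA : ∀ (N : Subgroup G) [N.Normal], N ≠ ⊥ → N ⊔ Subgroup.zpowers x = ⊤ :=
    fun N _ hN1 => sup_zpowers_eq_top x hx hiso hnz hmin hquot hO hcl N hN1
  have hxnc : ¬ ∀ g : G, g * x * g⁻¹ = x := fun h => hnz (inZStar_of_central x h)
  set N := commutator G with hN
  have hNn : N.Normal := inferInstance
  have hN1 : N ≠ ⊥ := by
    intro h
    apply hxnc
    intro g
    have h1 : ⁅g, x⁆ ∈ N := by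
      rw [hN, commutator_def]
      exact Subgroup.commutator_mem_commutator (Subgroup.mem_top g) (Subgroup.mem_top x)
    rw [h, Subgroup.mem_bot, commutatorElement_def] at h1
    rwa [mul_inv_eq_one] at h1
  have hsup : N ⊔ Subgroup.zpowers x = ⊤ := hA N hN1
  have hle : ∀ (K : Subgroup G) [K.Normal], K ≠ ⊥ → N ≤ K := fun K _ hK1 =>
    commutator_le_of_sup_eq_top x K (hA K hK1)
  obtain ⟨P, hP⟩ := (isPGroup_zpowers_of_orderOf hxp).exists_le_sylow
  have hxP : x ∈ (P : Subgroup G) := hP (Subgroup.mem_zpowers x)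
  have hcomm := isolated_commute_of_mem_pgroup hiso (P : Subgroup G) P.2 hxP
  have hsimple : IsSimpleGroup ↥N := by
    haveI : Nontrivial ↥N := (Subgroup.nontrivial_iff_ne_bot N).mpr hN1
    refine ⟨fun T hT => ?_⟩
    by_contra hcon
    push Not at hcon
    obtain ⟨hT1, hT2⟩ := hcon
    set TG : Subgroup G := T.map N.subtype with hTG
    have hTGN : TG ≤ N := by rintro y ⟨t, -, rfl⟩; exact t.2
    have hTnorm : ∀ n ∈ N, ∀ t ∈ TG, n * t * n⁻¹ ∈ TG := by
      rintro n hn y ⟨t, ht, rfl⟩
      exact ⟨⟨n, hn⟩ * t * ⟨n, hn⟩⁻¹, hT.conj_mem t ht ⟨n, hn⟩, by simp⟩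
    have hD : TG.normalCore = ⊥ := by
      by_contra hD1
      have h1 : N ≤ TG.normalCore := hle _ hD1
      have h2 : N ≤ TG := h1.trans (Subgroup.normalCore_le TG)
      apply hT2
      rw [eq_top_iff]
      intro n _
      obtain ⟨t, ht, hte⟩ := h2 n.2
      have : t = n := Subtype.ext hte
      rw [← this]; exact ht
    -- P ⊓ TG = ⊥
    have hPT : ∀ y ∈ (P : Subgroup G), y ∈ TG → y = 1 := by
      intro y hyP hyT
      have hyD : y ∈ TG.normalCore := by
        intro b
        have hb : b ∈ N ⊔ Subgroup.zpowers x := by rw [hsup]; trivial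
        rw [← SetLike.mem_coe, Subgroup.normal_mul, Set.mem_mul] at hb
        obtain ⟨n, hn, w, hw, rfl⟩ := hb
        obtain ⟨i, rfl⟩ := Subgroup.mem_zpowers_iff.mp hw
        have hc : Commute (x ^ i) y := (hcomm y hyP).zpow_left i
        have h1 : n * x ^ i * y * (n * x ^ i)⁻¹ = n * y * n⁻¹ := by
          have : x ^ i * y = y * x ^ i := hc.eq
          calc n * x ^ i * y * (n * x ^ i)⁻¹ = n * (x ^ i * y) * (x ^ i)⁻¹ * n⁻¹ := by group
            _ = n * (y * x ^ i) * (x ^ i)⁻¹ * n⁻¹ := by rw [this]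
            _ = n * y * n⁻¹ := by group
        rw [h1]
        exact hTnorm n hn y hyT
      rw [hD, Subgroup.mem_bot] at hyD
      exact hyD
    -- p does not divide |TG|
    have hTGp : ¬ p ∣ Nat.card TG := by
      intro hdvd
      obtain ⟨t', ht'⟩ := exists_prime_orderOf_dvd_card' p hdvd
      set t : G := (t' : G) with ht
      have htT : t ∈ TG := t'.2
      have htord : orderOf t = p := by rw [ht, Subgroup.orderOf_coe]; exact ht'
      have htp : IsPGroup p (Subgroup.zpowers t) :=
        isPGroup_zpowers_of_orderOf ⟨1, by rw [htord, pow_one]⟩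
      obtain ⟨P', hP'⟩ := htp.exists_le_sylow
      obtain ⟨g, hg⟩ := MulAction.exists_smul_eq G P' P
      have hgt : g * t * g⁻¹ ∈ (P : Subgroup G) := by
        rw [← hg, Sylow.coe_subgroup_smul]
        have := Subgroup.smul_mem_pointwise_smul t (MulAut.conj g) (P' : Subgroup G)
          (hP' (Subgroup.mem_zpowers t))
        simpa [MulAut.smul_def, MulAut.conj_apply] using this
      have hgd : g ∈ Subgroup.zpowers x ⊔ N := by rw [sup_comm, hsup]; trivial
      rw [← SetLike.mem_coe, Subgroup.mul_normal, Set.mem_mul] at hgd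
      obtain ⟨w, hw, n, hn, rfl⟩ := hgd
      have hwP : w ∈ (P : Subgroup G) := hP hw
      have h1 : n * t * n⁻¹ ∈ (P : Subgroup G) := by
        have : n * t * n⁻¹ = w⁻¹ * (w * n * t * (w * n)⁻¹) * w := by group
        rw [this]
        exact (P : Subgroup G).mul_mem ((P : Subgroup G).mul_mem ((P : Subgroup G).inv_mem hwP) hgt) hwP
      have h2 : n * t * n⁻¹ ∈ TG := hTnorm n hn t htT
      have h3 := hPT _ h1 h2
      have h4 : t = 1 := by
        have : t = n⁻¹ * (n * t * n⁻¹) * n := by group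
        rw [this, h3]; group
      rw [h4, orderOf_one] at htord
      exact hp.one_lt.ne' htord.symm
    have hTcop : (Nat.card T).Coprime p := by
      have : Nat.card TG = Nat.card T := card_map_subtype N T
      rw [← this]
      exact ((Nat.Prime.coprime_iff_not_dvd hp).mpr hTGp).symm
    have h5 := le_pPrimeCore p T hT hTcop
    rw [pPrimeCore_eq_bot_of_normal hO N, le_bot_iff] at h5
    exact hT1 h5
  refine ⟨hsimple, ?_, hsup⟩
  intro hcommN
  letI : CommGroup ↥N := { (inferInstance : Group ↥N) with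
    mul_comm := fun a b => hcommN.is_comm.comm a b }
  have hprime : (Nat.card ↥N).Prime := IsSimpleGroup.prime_card
  by_cases hr : Nat.card ↥N = p
  · have hNp : IsPGroup p N := IsPGroup.of_card (n := 1) (by rw [hr, pow_one])
    have htop : IsPGroup p ((N ⊔ Subgroup.zpowers x : Subgroup G)) :=
      hNp.to_sup_of_normal_left (isPGroup_zpowers_of_orderOf hxp)
    rw [hsup] at htop
    have := isolated_commute_of_mem_pgroup hiso ⊤ htop (Subgroup.mem_top x)
    apply hxnc
    intro g
    have hc := this g (Subgroup.mem_top g)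
    calc g * x * g⁻¹ = (g * x) * g⁻¹ := rfl
      _ = (x * g) * g⁻¹ := by rw [hc.eq]
      _ = x := by group
  · have h1 : (Nat.card ↥N).Coprime p := (Nat.coprime_primes hprime hp).mpr hr
    have h2 := le_pPrimeCore p N hNn h1
    rw [hO, le_bot_iff] at h2
    exact hN1 h2

end Cfsg.Agent.S2972
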