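import Cfsg.Statements.S4487
import Cfsg.Agent.Lib.Helper76.NilB
import Cfsg.Agent.Lib.Helper55.Cores
-- import your own Cfsg.Agent.* helpers here

set_option autoImplicit false
open Cfsg

namespace Cfsg.Agent.S4487

/-- Let G be a finite group and p a prime such that G has no non-trivial normal subgroup of order prime to p and C_G(O_p(G)) ≤ O_p(G). Then G has a single p-block: any two irreducible characters lie in the same block relative to every maximal ideal M of the algebraic integers containing p. -/
theorem result {G : Type*} [Group G] [Finite G] (p : ℕ) [Fact p.Prime] (M : Ideal Cfsg.AlgInt) (hM : Cfsg.IsPModular p M) (hcore : Cfsg.pPrimeCore p G = ⊥) (hconstr : Subgroup.centralizer ((Cfsg.pCore p G) : Set G) ≤ Cfsg.pCore p G) (χ ψ : Cfsg.IrrCharacter G) : Cfsg.SameBlock M (χ : G → ℂ) (ψ : G → ℂ) := by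
  classical
  have := Fintype.ofFinite G
  have hpr := Cfsg.Agent.Helper77.isPrime_of_isPModular hM
  have hPn : (Cfsg.pCore p G).Normal := inferInstance
  have hPp : IsPGroup p (Cfsg.pCore p G) := Cfsg.Agent.Helper55.isPGroup_pCore
  intro g
  by_cases hg : g ∈ Subgroup.centralizer ((Cfsg.pCore p G) : Set G)
  · have hgP : g ∈ Cfsg.pCore p G := hconstr hg
    have h1 := Cfsg.Agent.Helper76.memLocalIdeal_centralChar_sub_of_mem hM (Cfsg.pCore p G) hPp g hgP χ.2
    have h2 := Cfsg.Agent.Helper76.memLocalIdeal_centralChar_sub_of_mem hM (Cfsg.pCore p G) hPp g hgP ψ.2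
    have h3 := Cfsg.Agent.Helper77.memLocalIdeal_sub h1 h2
    have e : Cfsg.centralChar (χ : G → ℂ) g - ((Subgroup.centralizer ({g} : Set G)).index : ℂ) -
        (Cfsg.centralChar (ψ : G → ℂ) g - ((Subgroup.centralizer ({g} : Set G)).index : ℂ)) =
        Cfsg.centralChar (χ : G → ℂ) g - Cfsg.centralChar (ψ : G → ℂ) g := by ring
    rw [e] at h3
    exact h3
  · have h1 := Cfsg.Agent.Helper77.memLocalIdeal_centralChar_of_notMem_centralizer hM (Cfsg.pCore p G) hPp g hg χ.2
    have h2 := Cfsg.Agent.Helper77.memLocalIdeal_centralChar_of_notMem_centralizer hM (Cfsg.pCore p G) hPp g hg ψ.2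
    exact Cfsg.Agent.Helper77.memLocalIdeal_sub h1 h2

end Cfsg.Agent.S4487
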