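import Cfsg.Statements.S0942
import Cfsg.Agent.Lib.Helper78.ThirdCent
import Cfsg.Agent.Lib.Helper78.FongPrincipal

set_option autoImplicit false
open Cfsg

namespace Cfsg.Agent.S0942

/-- Let u be a p-element of the finite group G, let v lie in the largest normal subgroup of C_G(u) of order prime to p, and let χ belong to the principal block (relative to a maximal ideal M of the algebraic integers containing p). Then χ (u * v) = χ u. -/
theorem result {G : Type*} [Group G] [Finite G] (p : ℕ) [Fact p.Prime] (M : Ideal Cfsg.AlgInt) (hM : Cfsg.IsPModular p M) (u : G) (hu : ∃ k : ℕ, orderOf u = p ^ k) (v : G) (hv : v ∈ Cfsg.centralizerPPrimeCore p u) (χ : Cfsg.IrrCharacter G) (hχ : χ ∈ Cfsg.principalBlock M G) : (χ : G → ℂ) (u * v) = (χ : G → ℂ) u := by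
  classical
  have := Fintype.ofFinite G
  have hp : p.Prime := Fact.out
  have hpr := Cfsg.Agent.Helper77.isPrime_of_isPModular hM
  have : Fintype (Subgroup.centralizer ({u} : Set G)) := Fintype.ofFinite _
  obtain ⟨v', hv', rfl⟩ := hv
  -- `v'` is `p`-regular
  have hpN := Cfsg.Agent.Helper78.not_dvd_card_pPrimeCore (G := Subgroup.centralizer ({u} : Set G)) p
  have hv'reg : ¬ p ∣ orderOf v' := by
    intro h
    apply hpN
    have h1 : orderOf (⟨v', hv'⟩ : Cfsg.pPrimeCore p (Subgroup.centralizer ({u} : Set G))) ∣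
        Nat.card (Cfsg.pPrimeCore p (Subgroup.centralizer ({u} : Set G))) := orderOf_dvd_natCard _
    rw [Subgroup.orderOf_mk] at h1
    exact h.trans h1
  have h1reg : ¬ p ∣ orderOf (1 : Subgroup.centralizer ({u} : Set G)) := by
    rw [orderOf_one]; exact hp.not_dvd_one
  have e1 := Cfsg.Agent.Helper78.section_principal hM u hu χ hχ v' hv'reg
  have e2 := Cfsg.Agent.Helper78.section_principal hM u hu χ hχ 1 h1reg
  -- the principal block part takes the same value at `v'` and at `1`
  have e3 : Cfsg.blockPart (Cfsg.principalBlock M (Subgroup.centralizer ({u} : Set G)))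
      (fun c : Subgroup.centralizer ({u} : Set G) => (χ : G → ℂ) (u * (c : G))) v' =
      Cfsg.blockPart (Cfsg.principalBlock M (Subgroup.centralizer ({u} : Set G)))
      (fun c : Subgroup.centralizer ({u} : Set G) => (χ : G → ℂ) (u * (c : G))) 1 := by
    rw [Cfsg.Agent.Helper16.blockPart_eq_finset, Cfsg.Agent.Helper16.blockPart_eq_finset]
    refine Finset.sum_congr rfl fun ψ hψ => ?_
    rw [Set.Finite.mem_toFinset] at hψ
    have hsame : SameBlock M
        ((Cfsg.Agent.Helper77.trivIrr (Subgroup.centralizer ({u} : Set G)) :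
          IrrCharacter (Subgroup.centralizer ({u} : Set G))) :
            Subgroup.centralizer ({u} : Set G) → ℂ)
        (ψ : Subgroup.centralizer ({u} : Set G) → ℂ) := hψ
    have := Cfsg.Agent.Helper16.ker_of_sameBlock_of_pprime
      (Cfsg.pPrimeCore p (Subgroup.centralizer ({u} : Set G))) hM hpN
      (Cfsg.Agent.Helper77.trivIrr _) ψ hsame (fun n => rfl) ⟨v', hv'⟩
    rw [this]
  simp only [Subgroup.coe_subtype] at *
  rw [e1, e3, ← e2]
  simp

end Cfsg.Agent.S0942
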