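import Cfsg.Statements.S4611
import Cfsg.Agent.S0915
import Cfsg.Agent.S0939
import Cfsg.Agent.Lib.Helper76.SolvPSolv
-- import your own Cfsg.Agent.* helpers here

set_option autoImplicit false
open Cfsg

namespace Cfsg.Agent.S4611

open Cfsg.Agent.Helper76 Cfsg.Agent.Helper77 Cfsg.Agent.Helper79

/-- For a solvable group, the principal `p`-block consists of the irreducible characters with
`O_{p'}(G)` in their kernel. -/
theorem mem_principalBlock_iff {G : Type*} [Group G] [Finite G] [Group.IsSolvable G] (p : ℕ)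
    [Fact p.Prime] (M : Ideal Cfsg.AlgInt) (hM : Cfsg.IsPModular p M) (χ : Cfsg.IrrCharacter G) :
    χ ∈ Cfsg.principalBlock M G ↔ Cfsg.pPrimeCore p G ≤ irrKer χ := by
  classical
  have := Fintype.ofFinite G
  have hprime := isPrime_of_isPModular hM
  have hNn : (Cfsg.pPrimeCore p G).Normal := inferInstance
  have hpN : ¬ p ∣ Nat.card (Cfsg.pPrimeCore p G) := by
    have h := Cfsg.Agent.Helper55.pPrimeCore_coprime (G := G) p
    intro hd
    have h1 := Nat.Coprime.eq_one_of_dvd h.symm hd
    exact (Fact.out : p.Prime).one_lt.ne' h1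
  constructor
  · intro hχ n hn
    have h1 : SameBlock M ((trivIrr G : IrrCharacter G) : G → ℂ) (χ : G → ℂ) := hχ
    exact Cfsg.Agent.Helper16.ker_of_sameBlock_of_pprime (Cfsg.pPrimeCore p G) hM hpN (trivIrr G) χ h1
      (fun n => rfl) ⟨n, hn⟩
  · intro hle
    obtain ⟨ψ, hψ⟩ := exists_deflate (Cfsg.pPrimeCore p G) χ hle
    have hsolv : IsPSolvable p (G ⧸ Cfsg.pPrimeCore p G) :=
      IsPSolvable.quotient (isPSolvable_of_isSolvable' p) _
    have hcore : pPrimeCore p (G ⧸ Cfsg.pPrimeCore p G) = ⊥ :=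
      Cfsg.Agent.Helper55.pPrimeCore_quotient_eq_bot p
    have h2 : SameBlock M (fun _ : G ⧸ Cfsg.pPrimeCore p G => (1 : ℂ))
        (ψ : G ⧸ Cfsg.pPrimeCore p G → ℂ) :=
      Cfsg.Agent.S0915.result p M hM hsolv hcore (trivIrr _) ψ
    have h3 := Cfsg.Agent.S0939.sameBlock_comp_mk (Cfsg.pPrimeCore p G) h2
    show SameBlock M (fun _ : G => (1 : ℂ)) (χ : G → ℂ)
    rw [← hψ]
    exact h3

/-- a nontrivial finite group has a nontrivial irreducible character -/
theorem exists_ne_trivIrr {Q : Type*} [Group Q] [Finite Q] [Nontrivial Q] :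
    ∃ ψ : Cfsg.IrrCharacter Q, ψ ≠ trivIrr Q := by
  have := Fintype.ofFinite Q
  by_contra hcon
  push Not at hcon
  have hsub : Subsingleton (Cfsg.IrrCharacter Q) := ⟨fun a b => by rw [hcon a, hcon b]⟩
  have h := sum_sq_degree_nat (G := Q)
  rw [Fintype.sum_subsingleton _ (trivIrr Q)] at h
  have h1 : charDegree ((trivIrr Q : Cfsg.IrrCharacter Q) : Q → ℂ) = 1 := by
    unfold charDegree
    rw [trivIrr_apply]
    simp
  rw [h1] at h
  have h2 : 1 < Nat.card Q := Finite.one_lt_card
  omega

/-- an irreducible character whose kernel is everything is the principal character -/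
theorem eq_one_of_irrKer_eq_top {G : Type*} [Group G] [Finite G] (χ : Cfsg.IrrCharacter G)
    (h : irrKer χ = ⊤) : (χ : G → ℂ) = fun _ => 1 := by
  obtain ⟨ψ, hψ⟩ := exists_deflate (⊤ : Subgroup G) χ (by rw [h])
  have h1 : charDegree (ψ : G ⧸ (⊤ : Subgroup G) → ℂ) ∣ Nat.card (G ⧸ (⊤ : Subgroup G)) :=
    irr_degree_dvd_card ψ
  have h2 : Nat.card (G ⧸ (⊤ : Subgroup G)) = 1 := by
    rw [← Subgroup.index_eq_card, Subgroup.index_top]
  rw [h2, Nat.dvd_one] at h1
  have h3 : charDegree (χ : G → ℂ) = 1 := by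
    rw [← hψ, charDegree_inflate, h1]
  have h4 : (χ : G → ℂ) 1 = 1 := by
    rw [(irr_one_eq χ).1, h3]; simp
  funext g
  have hg : g ∈ irrKer χ := by rw [h]; exact Subgroup.mem_top g
  rw [(mem_irrKer χ g).mp hg, h4]

/-- Let G be a finite solvable group and π a nonempty set of primes, each dividing the order of G; fix for each p in π a maximal ideal M p of the algebraic integers containing p. Then the only irreducible character lying in the principal p-block for every p in π is the principal character if and only if G is generated by the subgroups O_{p'}(G), p in π (the largest normal subgroups of order prime to p). -/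
theorem result {G : Type*} [Group G] [Finite G] [Group.IsSolvable G] (π : Set ℕ) (hπ : ∀ p ∈ π, p.Prime ∧ p ∣ Nat.card G) (hne : π.Nonempty) (M : ℕ → Ideal Cfsg.AlgInt) (hM : ∀ p ∈ π, Cfsg.IsPModular p (M p)) :
    (∀ χ : Cfsg.IrrCharacter G, (∀ p ∈ π, χ ∈ Cfsg.principalBlock (M p) G) → (χ : G → ℂ) = fun _ => 1) ↔
      ⨆ p ∈ π, Cfsg.pPrimeCore p G = ⊤ := by
  classical
  have hfact : ∀ p ∈ π, Fact p.Prime := fun p hp => ⟨(hπ p hp).1⟩
  constructor
  · intro h
    by_contra hne'
    set N : Subgroup G := ⨆ p ∈ π, Cfsg.pPrimeCore p G with hN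
    have hNn : N.Normal := by
      rw [hN]
      have : ∀ p : ℕ, (⨆ (_ : p ∈ π), Cfsg.pPrimeCore p G).Normal := fun p => inferInstance
      infer_instance
    have hnt : Nontrivial (G ⧸ N) := by
      rw [← not_subsingleton_iff_nontrivial]
      intro hsub
      apply hne'
      rw [eq_top_iff]
      intro g _
      have : (QuotientGroup.mk g : G ⧸ N) = 1 := Subsingleton.elim _ _
      exact (QuotientGroup.eq_one_iff g).mp this
    obtain ⟨ψ, hψ⟩ := exists_ne_trivIrr (Q := G ⧸ N)
    have hker : N ≤ irrKer (inflate N ψ) := le_irrKer_inflate N ψ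
    have h1 := h (inflate N ψ) (fun p hp => by
      have := hfact p hp
      rw [mem_principalBlock_iff p (M p) (hM p hp)]
      refine le_trans ?_ hker
      rw [hN]
      exact le_biSup (fun p => Cfsg.pPrimeCore p G) hp)
    apply hψ
    apply Subtype.ext
    funext x
    obtain ⟨g, rfl⟩ := QuotientGroup.mk_surjective x
    have := congrFun h1 g
    rw [inflate_apply] at this
    rw [this, trivIrr_apply]
  · intro h χ hχ
    apply eq_one_of_irrKer_eq_top
    rw [eq_top_iff, ← h]
    apply iSup₂_le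
    intro p hp
    have := hfact p hp
    exact (mem_principalBlock_iff p (M p) (hM p hp) χ).mp (hχ p hp)

end Cfsg.Agent.S4611
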