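import Mathlib
import Cfsg.Statements.S0842
import Cfsg.Agent.Lib.Helper14.QuatSylow

set_option autoImplicit false
open Cfsg
open Cfsg.Agent.Helper14

namespace Cfsg.Agent.S0842

section
variable {G : Type*} [Group G] [Finite G] (S : Sylow 2 G) (n : ℕ)
  (e : (S : Subgroup G) ≃* QuaternionGroup (2 ^ (n + 2)))

local notation "DD" => (⁅(S : Subgroup G), (S : Subgroup G)⁆ : Subgroup G)
local notation "CC" => Subgroup.centralizer ((⁅(S : Subgroup G), (S : Subgroup G)⁆ : Subgroup G) : Set G)
local notation "NN" => Subgroup.normalizer ((⁅(S : Subgroup G), (S : Subgroup G)⁆ : Subgroup G) : Set G)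

include e in
theorem inf_eq_rotS : (S : Subgroup G) ⊓ CC = rotS (S : Subgroup G) e := by
  have : NeZero (2 ^ (n + 2)) := ⟨by positivity⟩
  apply le_antisymm
  · exact inf_centralizer_le_rotS _ e (four_ne_zero_zmod n)
  · exact le_inf (rotS_le _ e) (rotS_le_centralizer _ e)

/-- `S ⊓ C` as a Sylow 2-subgroup of `C` -/
def sylowC : Sylow 2 CC where
  toSubgroup := ((S : Subgroup G) ⊓ CC).subgroupOf CC
  isPGroup' := by
    have h1 : IsPGroup 2 ((S : Subgroup G) ⊓ CC : Subgroup G) := S.isPGroup'.to_le inf_le_left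
    exact h1.comap_subtype
  is_maximal' := by
    intro Q hQ hle
    symm
    apply Subgroup.eq_of_le_of_card_ge hle
    -- |Q| ≤ |S ⊓ C|
    set T : Subgroup G := Q.map (CC).subtype with hT
    have hTp : IsPGroup 2 T := hQ.map _
    have hTC : T ≤ CC := Subgroup.map_subtype_le _
    have hCN : CC ≤ NN := centralizer_le_normalizer' _
    have hSN : (S : Subgroup G) ≤ NN := le_normalizer_commutator _
    obtain ⟨x, hxN, hx⟩ := exists_conj_mem_sylow_of_le S NN hSN T (hTC.trans hCN) hTp
    have hcardQ : Nat.card Q = Nat.card T :=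
      Nat.card_congr (Q.equivMapOfInjective _ (Subgroup.subtype_injective _)).toEquiv
    have hcardA : Nat.card (((S : Subgroup G) ⊓ CC).subgroupOf CC) =
        Nat.card ((S : Subgroup G) ⊓ CC : Subgroup G) :=
      Nat.card_congr (Subgroup.subgroupOfEquivOfLe inf_le_right).toEquiv
    rw [hcardQ, hcardA]
    let f : T → ((S : Subgroup G) ⊓ CC : Subgroup G) := fun t =>
      ⟨x * t * x⁻¹, Subgroup.mem_inf.mpr ⟨hx t t.2,
        conj_mem_centralizer_of_mem_normalizer _ hxN (hTC t.2)⟩⟩
    apply Nat.card_le_card_of_injective f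
    intro t₁ t₂ h
    have := congrArg Subtype.val h
    simp only [f, mul_left_inj, mul_right_inj] at this
    exact Subtype.ext this


include e in
theorem sylowC_isCyclic : IsCyclic (sylowC S) := by
  have : NeZero (2 ^ (n + 2)) := ⟨by positivity⟩
  have h1 : IsCyclic (rotS (S : Subgroup G) e) := rotS_isCyclic _ e
  have h2 : IsCyclic ((S : Subgroup G) ⊓ CC : Subgroup G) := by
    rw [inf_eq_rotS S n e]
    exact h1
  exact (Subgroup.subgroupOfEquivOfLe (inf_le_right : (S : Subgroup G) ⊓ CC ≤ CC)).isCyclic.mpr h2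

include e in
theorem two_dvd_card_C : 2 ∣ Nat.card CC := by
  have : NeZero (2 ^ (n + 2)) := ⟨by positivity⟩
  have h4 := four_ne_zero_zmod n
  -- the element d₀ = e⁻¹(a 2) of D is nontrivial
  set d₀ : (S : Subgroup G) := e.symm (QuaternionGroup.a 2) with hd₀
  have hd₀D : (d₀ : G) ∈ DD := by
    rw [mem_commutator_iff _ e]
    exact ⟨d₀, by simp [hd₀, a_two_mem_commutator], rfl⟩
  have hd₀1 : (d₀ : G) ≠ 1 := by
    intro h
    have h' : d₀ = 1 := Subtype.ext h
    rw [hd₀] at h'
    have h2 : (QuaternionGroup.a 2 : QuaternionGroup (2 ^ (n + 2))) = 1 := by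
      have := congrArg e h'
      simpa using this
    rw [QuaternionGroup.one_def] at h2
    injection h2 with h3
    apply h4
    have : (4 : ZMod (2 * 2 ^ (n + 2))) = 2 * 2 := by norm_num
    rw [this, h3, mul_zero]
  have hDC : DD ≤ CC := by
    have h1 : DD ≤ rotS (S : Subgroup G) e := commutator_le_rotS _ e
    exact h1.trans (rotS_le_centralizer _ e)
  have hDp : IsPGroup 2 DD := S.isPGroup'.to_le (Subgroup.commutator_le_self _)
  obtain ⟨i, hi⟩ := IsPGroup.iff_card.mp hDp
  have hi0 : i ≠ 0 := by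
    rintro rfl
    rw [pow_zero, Subgroup.card_eq_one] at hi
    apply hd₀1
    have : (d₀ : G) ∈ (⊥ : Subgroup G) := hi ▸ hd₀D
    exact Subgroup.mem_bot.mp this
  have h2D : 2 ∣ Nat.card DD := by
    rw [hi]
    exact dvd_pow_self 2 hi0
  exact h2D.trans (Subgroup.card_dvd_of_le hDC)



include e in
theorem coe_mem_C_iff (s : (S : Subgroup G)) : (s : G) ∈ CC ↔ e s ∈ rot (2 ^ (n + 2)) := by
  constructor
  · intro h
    have h1 : (s : G) ∈ (S : Subgroup G) ⊓ CC := Subgroup.mem_inf.mpr ⟨s.2, h⟩
    rw [inf_eq_rotS S n e, mem_rotS_iff] at h1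
    obtain ⟨s', hs', hss⟩ := h1
    have : s' = s := Subtype.ext hss
    rw [← this]
    exact hs'
  · intro h
    apply rotS_le_centralizer _ e
    exact (mem_rotS_iff _ e _).mpr ⟨s, h, rfl⟩

include e in
theorem main : ∃ K : Subgroup G, Odd (Nat.card K) ∧ K ≤ CC ∧ NN ≤ Subgroup.normalizer (K : Set G) ∧
    K ⊔ (S : Subgroup G) = NN ∧ K ⊔ ((S : Subgroup G) ⊓ CC) = CC ∧ ((CC).subgroupOf NN).index = 2 := by
  have : NeZero (2 ^ (n + 2)) := ⟨by positivity⟩
  have h4 := four_ne_zero_zmod n
  have hcyc : IsCyclic (sylowC S) := sylowC_isCyclic S n e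
  have hmin : (Nat.card CC).minFac = 2 := (Nat.minFac_eq_two_iff _).mpr (two_dvd_card_C S n e)
  have hcomp := IsCyclic.isComplement' hmin hcyc
  set K₀ := (MonoidHom.transferSylow (sylowC S) (hcyc.normalizer_le_centralizer hmin)).ker with hK₀
  have hK₀odd : ¬ 2 ∣ Nat.card K₀ := MonoidHom.not_dvd_card_ker_transferSylow (sylowC S) _
  have hCN : CC ≤ NN := centralizer_le_normalizer' _
  have hSN : (S : Subgroup G) ≤ NN := le_normalizer_commutator _
  have hcardK : Nat.card (K₀.map (CC).subtype) = Nat.card K₀ :=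
    (Nat.card_congr (K₀.equivMapOfInjective _ (Subgroup.subtype_injective _)).toEquiv).symm
  -- (5)
  have h5 : K₀.map (CC).subtype ⊔ ((S : Subgroup G) ⊓ CC) = CC := by
    have h := hcomp.sup_eq_top
    have h' := congrArg (Subgroup.map (CC).subtype) h
    rw [Subgroup.map_sup] at h'
    have e1 : Subgroup.map (CC).subtype ((sylowC S : Sylow 2 CC) : Subgroup CC) = (S : Subgroup G) ⊓ CC := by
      show Subgroup.map (CC).subtype (((S : Subgroup G) ⊓ CC).subgroupOf CC) = _
      rw [Subgroup.subgroupOf_map_subtype, inf_assoc, inf_idem]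
    have e2 : Subgroup.map (CC).subtype ⊤ = CC := by
      rw [← MonoidHom.range_eq_map, Subgroup.range_subtype]
    rw [e1, e2] at h'
    exact h'
  -- characterization of K₀
  have hchar : ∀ c : CC, c ∈ K₀ ↔ Odd (orderOf c) := by
    intro c
    constructor
    · intro hc
      have h1 : orderOf c ∣ Nat.card K₀ := Subgroup.orderOf_dvd_natCard K₀ hc
      rw [← Nat.not_even_iff_odd, even_iff_two_dvd]
      intro h2
      exact hK₀odd (h2.trans h1)
    · intro hc
      rw [hK₀, MonoidHom.mem_ker]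
      set f := MonoidHom.transferSylow (sylowC S) (hcyc.normalizer_le_centralizer hmin) with hf
      have h1 : orderOf (f c) ∣ orderOf c := orderOf_map_dvd f c
      obtain ⟨j, hj⟩ := (sylowC S).isPGroup' (f c)
      have h2 : orderOf (f c) ∣ 2 ^ j := orderOf_dvd_of_pow_eq_one hj
      have hcop : Nat.Coprime (2 ^ j) (orderOf c) := Nat.Coprime.pow_left j (Nat.coprime_two_left.mpr hc)
      have := Nat.eq_one_of_dvd_coprimes hcop h2 h1
      exact orderOf_eq_one_iff.mp this
  have hmemK : ∀ h : G, h ∈ K₀.map (CC).subtype ↔ h ∈ CC ∧ Odd (orderOf h) := by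
    intro h
    rw [Subgroup.mem_map]
    constructor
    · rintro ⟨c, hc, rfl⟩
      refine ⟨c.2, ?_⟩
      have := (hchar c).mp hc
      rw [← Subgroup.orderOf_coe] at this
      exact this
    · rintro ⟨hC, hodd⟩
      refine ⟨⟨h, hC⟩, ?_, rfl⟩
      rw [hchar, ← Subgroup.orderOf_coe]
      exact hodd
  -- N = C ⊔ S
  have hNCS : NN ≤ CC ⊔ (S : Subgroup G) := by
    rw [← Subgroup.relIndex_eq_one]
    have hDcyc : IsCyclic DD :=
      haveI := rotS_isCyclic (S : Subgroup G) e
      Subgroup.isCyclic_of_le (commutator_le_rotS _ e)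
    have key := Subgroup.card_dvd_of_injective _ (QuotientGroup.kerLift_injective (DD).normalizerMonoidHom)
    rw [Subgroup.normalizerMonoidHom_ker, ← Subgroup.index, ← Subgroup.relIndex] at key
    have hDp : IsPGroup 2 DD := S.isPGroup'.to_le (Subgroup.commutator_le_self _)
    obtain ⟨i, hi⟩ := IsPGroup.iff_card.mp hDp
    have hpow : ∃ j, Nat.card (MulAut DD) = 2 ^ j := by
      rw [IsCyclic.card_mulAut, hi]
      rcases Nat.eq_zero_or_pos i with h0 | h0
      · exact ⟨0, by simp [h0]⟩
      · exact ⟨i - 1, by rw [Nat.totient_prime_pow Nat.prime_two h0]; simp⟩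
    obtain ⟨j, hj⟩ := hpow
    rw [hj] at key
    have h1 : (CC ⊔ (S : Subgroup G)).relIndex NN ∣ 2 ^ j :=
      (Subgroup.relIndex_dvd_of_le_left NN le_sup_left).trans key
    have h2 : (CC ⊔ (S : Subgroup G)).relIndex NN ∣ (S : Subgroup G).index :=
      (Subgroup.relIndex_dvd_of_le_left NN le_sup_right).trans (Subgroup.relIndex_dvd_index_of_le hSN)
    obtain ⟨m, -, hm⟩ := (Nat.dvd_prime_pow Nat.prime_two).mp h1
    rcases Nat.eq_zero_or_pos m with h0 | h0
    · rw [hm, h0, pow_zero]
    · exfalso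
      apply S.not_dvd_index
      refine Dvd.dvd.trans ?_ h2
      rw [hm]
      exact dvd_pow_self 2 h0.ne'
  refine ⟨K₀.map (CC).subtype, ?_, Subgroup.map_subtype_le _, ?_, ?_, h5, ?_⟩
  · rw [hcardK, ← Nat.not_even_iff_odd, even_iff_two_dvd]
    exact hK₀odd
  · -- N normalizes K
    intro g hg
    rw [Subgroup.mem_normalizer_iff]
    intro h
    rw [hmemK, hmemK, orderOf_conj']
    constructor
    · rintro ⟨hC, hodd⟩
      exact ⟨conj_mem_centralizer_of_mem_normalizer _ hg hC, hodd⟩
    · rintro ⟨hC, hodd⟩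
      refine ⟨?_, hodd⟩
      have := conj_mem_centralizer_of_mem_normalizer _ (Subgroup.inv_mem _ hg) hC
      simpa [mul_assoc] using this
  · -- K ⊔ S = N
    apply le_antisymm
    · exact sup_le ((Subgroup.map_subtype_le _).trans hCN) hSN
    · refine hNCS.trans ?_
      apply sup_le _ le_sup_right
      exact h5.symm.le.trans (sup_le le_sup_left (inf_le_left.trans le_sup_right))
  · -- index 2
    have hLE : (S : Subgroup G) ≤ Subgroup.normalizer ((CC : Subgroup G) : Set G) := by
      intro s hs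
      rw [Subgroup.mem_normalizer_iff]
      intro h
      constructor
      · intro hh
        exact conj_mem_centralizer_of_mem_normalizer _ (hSN hs) hh
      · intro hh
        have := conj_mem_centralizer_of_mem_normalizer _ (Subgroup.inv_mem _ (hSN hs)) hh
        simpa [mul_assoc] using this
    have hprod := Subgroup.coe_mul_of_right_le_normalizer_left CC (S : Subgroup G) hLE
    set s₀ : (S : Subgroup G) := e.symm (QuaternionGroup.xa 0) with hs₀
    have hs₀C : (s₀ : G) ∉ CC := by
      rw [coe_mem_C_iff S n e, hs₀, MulEquiv.apply_symm_apply]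
      exact xa_not_mem_rot 0
    rw [Subgroup.index_eq_two_iff]
    refine ⟨⟨(s₀ : G), hSN s₀.2⟩, ?_⟩
    rintro ⟨b, hb⟩
    simp only [Subgroup.mem_subgroupOf, Subgroup.coe_mul]
    have hb' : b ∈ ((CC ⊔ (S : Subgroup G) : Subgroup G) : Set G) := hNCS hb
    rw [hprod] at hb'
    obtain ⟨c, hc, s, hs, rfl⟩ := hb'
    have hcs : ∀ t : G, c * t ∈ CC ↔ t ∈ CC := by
      intro t
      constructor
      · intro h
        have := Subgroup.mul_mem _ (Subgroup.inv_mem _ hc) h
        simpa using this
      · intro h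
        exact Subgroup.mul_mem _ hc h
    rcases hes : e ⟨s, hs⟩ with i | i
    · -- s ∈ C
      right
      have hsC : s ∈ CC := by
        have := (coe_mem_C_iff S n e ⟨s, hs⟩).mpr (by rw [hes]; exact a_mem_rot i)
        exact this
      refine ⟨(hcs s).mpr hsC, ?_⟩
      rw [mul_assoc, hcs]
      intro h
      apply hs₀C
      have := Subgroup.mul_mem _ (Subgroup.inv_mem _ hsC) h
      simpa using this
    · left
      have hsC : s ∉ CC := by
        intro h
        have := (coe_mem_C_iff S n e ⟨s, hs⟩).mp h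
        rw [hes] at this
        exact xa_not_mem_rot i this
      refine ⟨?_, fun h => hsC ((hcs s).mp h)⟩
      rw [mul_assoc, hcs]
      have := (coe_mem_C_iff S n e (⟨s, hs⟩ * s₀)).mpr (by
        rw [map_mul, hes, hs₀, MulEquiv.apply_symm_apply, QuaternionGroup.xa_mul_xa]
        exact a_mem_rot _)
      exact this

end

theorem result {G : Type*} [Group G] [Finite G] (S : Sylow 2 G) (n : ℕ) (e : (S : Subgroup G) ≃* QuaternionGroup (2 ^ (n + 2))) (D : Subgroup G) (hD : D = ⁅(S : Subgroup G), (S : Subgroup G)⁆) : ∃ K : Subgroup G, Odd (Nat.card K) ∧ K ≤ Subgroup.centralizer (D : Set G) ∧ Subgroup.normalizer (D : Set G) ≤ Subgroup.normalizer (K : Set G) ∧ K ⊔ (S : Subgroup G) = Subgroup.normalizer (D : Set G) ∧ K ⊔ ((S : Subgroup G) ⊓ Subgroup.centralizer (D : Set G)) = Subgroup.centralizer (D : Set G) ∧ ((Subgroup.centralizer (D : Set G)).subgroupOf (Subgroup.normalizer (D : Set G))).index = 2 := by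
  subst hD
  exact main S n e

end Cfsg.Agent.S0842
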