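import Mathlib
import Cfsg.Statements.S0843
import Cfsg.Agent.Lib.Helper14.QuatSylow

set_option autoImplicit false
open Cfsg
open Cfsg.Agent.Helper14

namespace Cfsg.Agent.S0843

theorem conj_zpow' {G : Type*} [Group G] (x y : G) (z : ℤ) :
    (x * y * x⁻¹) ^ z = x * y ^ z * x⁻¹ := by
  have := map_zpow (MulAut.conj x) y z
  simpa [MulAut.conj_apply] using this.symm

theorem partA {G : Type*} [Group G] [Finite G] (S : Sylow 2 G) (n : ℕ)
    (e : (S : Subgroup G) ≃* QuaternionGroup (2 ^ (n + 2))) (y : G)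
    (hy : y ∈ Subgroup.centralizer ((⁅(S : Subgroup G), (S : Subgroup G)⁆ : Subgroup G) : Set G))
    (hdvd : Nat.card (⁅(S : Subgroup G), (S : Subgroup G)⁆ : Subgroup G) ∣ orderOf y) :
    (⁅(S : Subgroup G), (S : Subgroup G)⁆ : Subgroup G) ≤ Subgroup.zpowers y := by
  have : NeZero (2 ^ (n + 2)) := ⟨by positivity⟩
  have h4 := four_ne_zero_zmod n
  set D : Subgroup G := ⁅(S : Subgroup G), (S : Subgroup G)⁆ with hD
  set C := Subgroup.centralizer (D : Set G) with hC
  set N := Subgroup.normalizer (D : Set G) with hN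
  have hDS : D ≤ (S : Subgroup G) := Subgroup.commutator_le_self _
  have hDp : IsPGroup 2 D := S.isPGroup'.to_le hDS
  obtain ⟨i, hi⟩ := IsPGroup.iff_card.mp hDp
  have ho : orderOf y ≠ 0 := (orderOf_pos y).ne'
  set y' := y ^ (orderOf y / Nat.card D) with hy'
  have hoy' : orderOf y' = Nat.card D := orderOf_pow_orderOf_div ho hdvd
  set T := Subgroup.zpowers y' with hT
  have hTcard : Nat.card T = 2 ^ i := by rw [Nat.card_zpowers, hoy', hi]
  have hTp : IsPGroup 2 T := IsPGroup.of_card hTcard
  have hy'C : y' ∈ C := Subgroup.pow_mem _ hy _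
  have hTC : T ≤ C := by
    rw [hT, Subgroup.zpowers_le]
    exact hy'C
  have hCN : C ≤ N := centralizer_le_normalizer' D
  have hSN : (S : Subgroup G) ≤ N := le_normalizer_commutator _
  obtain ⟨x, hxN, hx⟩ := exists_conj_mem_sylow_of_le S N hSN T (hTC.trans hCN) hTp
  set w := x * y' * x⁻¹ with hw
  have hwS : w ∈ (S : Subgroup G) := hx y' (Subgroup.mem_zpowers y')
  have hwC : w ∈ C := conj_mem_centralizer_of_mem_normalizer D hxN hy'C
  have hwA : w ∈ rotS (S : Subgroup G) e :=
    inf_centralizer_le_rotS _ e h4 (Subgroup.mem_inf.mpr ⟨hwS, hwC⟩)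
  have hT₂A : Subgroup.zpowers w ≤ rotS (S : Subgroup G) e := by
    rw [Subgroup.zpowers_le]
    exact hwA
  have hDA : D ≤ rotS (S : Subgroup G) e := commutator_le_rotS _ e
  have hcyc : IsCyclic (rotS (S : Subgroup G) e) := rotS_isCyclic _ e
  have hDT₂ : D ≤ Subgroup.zpowers w := by
    apply le_of_card_dvd_of_le_cyclic (rotS (S : Subgroup G) e) D (Subgroup.zpowers w) hDA hT₂A
    rw [Nat.card_zpowers, hw, orderOf_conj', hoy']
  intro d hd
  have hd₂ : x * d * x⁻¹ ∈ D := (Subgroup.mem_normalizer_iff.mp hxN d).mp hd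
  have := hDT₂ hd₂
  rw [Subgroup.mem_zpowers_iff] at this
  obtain ⟨z, hz⟩ := this
  rw [hw, conj_zpow'] at hz
  have hdz : y' ^ z = d := by
    have := congrArg (fun t => x⁻¹ * t * x) hz
    simpa [mul_assoc] using this
  rw [← hdz, hy', ← zpow_natCast, ← zpow_mul]
  exact Subgroup.zpow_mem_zpowers y _

/-- Suppose a Sylow 2-subgroup S of the finite group G is generalized quaternion of order at least 16; let D be the commutator subgroup of S and X the set of elements of the centralizer of D whose order is divisible by the order of D. Then D is contained in the cyclic subgroup generated by any element of X; an element of G conjugating some element of X into the centralizer of D normalizes D; and the normalizer of D maps X to itself under conjugation. -/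
theorem result {G : Type*} [Group G] [Finite G] (S : Sylow 2 G) (n : ℕ) (e : (S : Subgroup G) ≃* QuaternionGroup (2 ^ (n + 2))) (D : Subgroup G) (hD : D = ⁅(S : Subgroup G), (S : Subgroup G)⁆) : (∀ y : G, y ∈ Subgroup.centralizer (D : Set G) → Nat.card D ∣ orderOf y → D ≤ Subgroup.zpowers y) ∧ (∀ g y : G, y ∈ Subgroup.centralizer (D : Set G) → Nat.card D ∣ orderOf y → g * y * g⁻¹ ∈ Subgroup.centralizer (D : Set G) → g ∈ Subgroup.normalizer (D : Set G)) ∧ (∀ g y : G, g ∈ Subgroup.normalizer (D : Set G) → y ∈ Subgroup.centralizer (D : Set G) → Nat.card D ∣ orderOf y → g * y * g⁻¹ ∈ Subgroup.centralizer (D : Set G) ∧ Nat.card D ∣ orderOf (g * y * g⁻¹)) := by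
  subst hD
  set D : Subgroup G := ⁅(S : Subgroup G), (S : Subgroup G)⁆ with hD
  have hA : ∀ y : G, y ∈ Subgroup.centralizer (D : Set G) → Nat.card D ∣ orderOf y →
      D ≤ Subgroup.zpowers y := fun y hy hdvd => partA S n e y hy hdvd
  refine ⟨hA, ?_, ?_⟩
  · intro g y hy hdvd hgy
    have h1 : D ≤ Subgroup.zpowers y := hA y hy hdvd
    have h2 : D ≤ Subgroup.zpowers (g * y * g⁻¹) := hA _ hgy (by rw [orderOf_conj']; exact hdvd)
    set D' : Subgroup G := D.map (MulAut.conj g).toMonoidHom with hD'
    have hcard : Nat.card D' = Nat.card D :=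
      Nat.card_congr (D.equivMapOfInjective _ (MulAut.conj g).injective).symm.toEquiv
    have h3 : D' ≤ Subgroup.zpowers (g * y * g⁻¹) := by
      rintro _ ⟨d, hd, rfl⟩
      have := h1 hd
      rw [Subgroup.mem_zpowers_iff] at this ⊢
      obtain ⟨z, rfl⟩ := this
      refine ⟨z, ?_⟩
      rw [conj_zpow']
      simp [MulAut.conj_apply]
    have h4 : D' ≤ D :=
      le_of_card_dvd_of_le_cyclic (Subgroup.zpowers (g * y * g⁻¹)) D' D h3 h2 (by rw [hcard])
    have h5 : D ≤ D' :=
      le_of_card_dvd_of_le_cyclic (Subgroup.zpowers (g * y * g⁻¹)) D D' h2 h3 (by rw [hcard])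
    rw [Subgroup.mem_normalizer_iff]
    intro h
    constructor
    · intro hh
      apply h4
      exact ⟨h, hh, by simp [MulAut.conj_apply]⟩
    · intro hh
      obtain ⟨d, hd, hdh⟩ := h5 hh
      simp only [MulEquiv.coe_toMonoidHom, MulAut.conj_apply] at hdh
      have : d = h := by
        have := congrArg (fun t => g⁻¹ * t * g) hdh
        simpa [mul_assoc] using this
      rw [← this]
      exact hd
  · intro g y hg hy hdvd
    refine ⟨conj_mem_centralizer_of_mem_normalizer D hg hy, ?_⟩
    rw [orderOf_conj']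
    exact hdvd

end Cfsg.Agent.S0843
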