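import Mathlib
import Cfsg.Statements.S0840
import Cfsg.Agent.Lib.Helper78.CharSchur

set_option autoImplicit false
open Cfsg

namespace Cfsg.Agent.S0840

open scoped ComplexConjugate
open Cfsg.Agent.Helper78

theorem card_class_mul_card_centralizer {G : Type*} [Group G] [Finite G] (g : G) :
    Nat.card {x : G // IsConj g x} * Nat.card (Subgroup.centralizer ({g} : Set G)) =
      Nat.card G := by
  rw [Subgroup.nat_card_centralizer_nat_card_stabilizer]
  have e := MulAction.orbitProdStabilizerEquivGroup (ConjAct G) g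
  have h1 := Nat.card_congr e
  rw [Nat.card_prod] at h1
  have h2 : Nat.card (MulAction.orbit (ConjAct G) g) = Nat.card {x : G // IsConj g x} := by
    apply Nat.card_congr
    apply Equiv.subtypeEquivRight
    intro x
    rw [ConjAct.mem_orbit_conjAct, isConj_comm]
  rw [← h2, h1]
  exact Nat.card_congr ConjAct.ofConjAct.toEquiv

open scoped Classical in
/-- counting pairs of conjugators through the pairs of conjugates -/
theorem card_pairs {G : Type*} [Group G] [Fintype G] (a b c : G) :
    (Finset.univ.filter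
      (fun ab : G × G => ab.1 * a * ab.1⁻¹ * (ab.2 * b * ab.2⁻¹) * c⁻¹ = 1)).card =
    Nat.card (Subgroup.centralizer ({a} : Set G)) * Nat.card (Subgroup.centralizer ({b} : Set G)) *
      Nat.card {p : G × G // IsConj a p.1 ∧ IsConj b p.2 ∧ p.1 * p.2 = c} := by
  set S := Finset.univ.filter
      (fun ab : G × G => ab.1 * a * ab.1⁻¹ * (ab.2 * b * ab.2⁻¹) * c⁻¹ = 1) with hS
  set T := Finset.univ.filter
      (fun p : G × G => IsConj a p.1 ∧ IsConj b p.2 ∧ p.1 * p.2 = c) with hT
  let f : G × G → G × G := fun ab => (ab.1 * a * ab.1⁻¹, ab.2 * b * ab.2⁻¹)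
  have hmaps : ∀ s ∈ S, f s ∈ T := by
    intro s hs
    simp only [hS, Finset.mem_filter, Finset.mem_univ, true_and] at hs
    simp only [hT, Finset.mem_filter, Finset.mem_univ, true_and, f]
    refine ⟨isConj_iff.mpr ⟨s.1, rfl⟩, isConj_iff.mpr ⟨s.2, rfl⟩, ?_⟩
    exact mul_inv_eq_one.mp hs
  rw [Finset.card_eq_sum_card_fiberwise hmaps]
  have hfiber : ∀ t ∈ T, (Finset.filter (fun s => f s = t) S).card =
      Nat.card (Subgroup.centralizer ({a} : Set G)) *
        Nat.card (Subgroup.centralizer ({b} : Set G)) := by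
    intro t ht
    simp only [hT, Finset.mem_filter, Finset.mem_univ, true_and] at ht
    obtain ⟨h1, h2, h3⟩ := ht
    have : Finset.filter (fun s => f s = t) S =
        (Finset.univ.filter (fun α : G => α * a * α⁻¹ = t.1)) ×ˢ
          (Finset.univ.filter (fun β : G => β * b * β⁻¹ = t.2)) := by
      ext s
      simp only [hS, Finset.mem_filter, Finset.mem_univ, true_and, Finset.mem_product, f]
      constructor
      · rintro ⟨-, hst⟩
        rw [← hst]
        exact ⟨rfl, rfl⟩
      · rintro ⟨hs1, hs2⟩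
        refine ⟨?_, Prod.ext hs1 hs2⟩
        rw [hs1, hs2, h3, mul_inv_cancel]
    rw [this, Finset.card_product, card_conjugators, card_conjugators, if_pos h1, if_pos h2]
  rw [Finset.sum_congr rfl hfiber, Finset.sum_const, smul_eq_mul, mul_comm]
  congr 1
  rw [Nat.card_eq_fintype_card, Fintype.card_subtype]

/-- Class multiplication coefficients from the character table: for elements a, b, c of a finite group G, the number of ordered pairs (x, y) with x conjugate to a, y conjugate to b and x * y = c equals the product of the sizes of the conjugacy classes of a and b, divided by the order of G, times the sum over the irreducible characters χ of χ a * χ b * conj (χ c) / χ 1. -/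
theorem result {G : Type*} [Group G] [Finite G] (a b c : G) : (Nat.card {p : G × G // IsConj a p.1 ∧ IsConj b p.2 ∧ p.1 * p.2 = c} : ℂ) = (Nat.card {x : G // IsConj a x} : ℂ) * (Nat.card {x : G // IsConj b x} : ℂ) / (Nat.card G : ℂ) * ∑ᶠ χ : Cfsg.IrrCharacter G, (χ : G → ℂ) a * (χ : G → ℂ) b * conj ((χ : G → ℂ) c) / (χ : G → ℂ) 1 := by
  classical
  have : Fintype G := Fintype.ofFinite G
  rw [finsum_eq_sum_of_fintype]
  have hinv : ∀ χ : Cfsg.IrrCharacter G, conj ((χ : G → ℂ) c) = (χ : G → ℂ) c⁻¹ := by
    intro χ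
    rw [IsIrrCharacter.inv χ.2]
  simp only [hinv]
  have key := sum_irr_mul_mul_div a b c⁻¹
  rw [card_pairs] at key
  have ha := card_class_mul_card_centralizer a
  have hb := card_class_mul_card_centralizer b
  set N := Nat.card {p : G × G // IsConj a p.1 ∧ IsConj b p.2 ∧ p.1 * p.2 = c} with hN
  set Sg := ∑ χ : Cfsg.IrrCharacter G,
    (χ : G → ℂ) a * (χ : G → ℂ) b * (χ : G → ℂ) c⁻¹ / (χ : G → ℂ) 1 with hSg
  have hG0 : (Nat.card G : ℂ) ≠ 0 := by
    have : Nat.card G ≠ 0 := Nat.card_pos.ne'
    exact_mod_cast this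
  have ha' : (Nat.card {x : G // IsConj a x} : ℂ) *
      (Nat.card (Subgroup.centralizer ({a} : Set G)) : ℂ) = (Nat.card G : ℂ) := by
    exact_mod_cast ha
  have hb' : (Nat.card {x : G // IsConj b x} : ℂ) *
      (Nat.card (Subgroup.centralizer ({b} : Set G)) : ℂ) = (Nat.card G : ℂ) := by
    exact_mod_cast hb
  push_cast at key
  -- key : |G| * Sg = |C a| * |C b| * N
  have : (Nat.card {x : G // IsConj a x} : ℂ) * (Nat.card {x : G // IsConj b x} : ℂ) *
      ((Nat.card G : ℂ) * Sg) = (Nat.card G : ℂ) * (Nat.card G : ℂ) * (N : ℂ) := by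
    rw [key]
    calc _ = ((Nat.card {x : G // IsConj a x} : ℂ) *
          (Nat.card (Subgroup.centralizer ({a} : Set G)) : ℂ)) *
        ((Nat.card {x : G // IsConj b x} : ℂ) *
          (Nat.card (Subgroup.centralizer ({b} : Set G)) : ℂ)) * (N : ℂ) := by ring
      _ = _ := by rw [ha', hb']
  have h2 : (Nat.card {x : G // IsConj a x} : ℂ) * (Nat.card {x : G // IsConj b x} : ℂ) * Sg =
      (Nat.card G : ℂ) * (N : ℂ) := by
    apply mul_left_cancel₀ hG0
    linear_combination this
  rw [eq_comm, div_mul_eq_mul_div, div_eq_iff hG0]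
  linear_combination h2

end Cfsg.Agent.S0840
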