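import Cfsg.Statements.S0947
import Cfsg.Agent.Lib.Helper78.SectionSum
import Cfsg.Agent.Lib.Helper78.NormalCompSum

set_option autoImplicit false
open Cfsg

namespace Cfsg.Agent.S0947

/-- finsum of squared norms over a finite set as a complex finite sum -/
theorem finsum_normSq_eq {α : Type*} [Finite α] (S : Set α) (f : α → ℂ) :
    ((∑ᶠ a ∈ S, ‖f a‖ ^ 2 : ℝ) : ℂ) =
      ∑ a ∈ (Set.toFinite S).toFinset, f a * (starRingEnd ℂ) (f a) := by
  rw [finsum_mem_eq_finite_toFinset_sum _ (Set.toFinite S)]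
  push_cast
  refine Finset.sum_congr rfl fun a _ => ?_
  rw [Complex.mul_conj, Complex.normSq_eq_norm_sq]
  push_cast
  rfl

/-- Let z ≠ 1 be a p-element of the finite group G with centralizer H, and fix a maximal ideal M of the algebraic integers containing p. (i) For every y ∈ H of order prime to p, the sum over ζ in the principal block of G of |ζ (z * y)|² equals the sum over χ in the principal block of H of |χ y|². (ii) If moreover H has a normal p-complement (its largest normal subgroup of order prime to p has p-power index), that common value is the largest power of p dividing the order of H. -/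
theorem result {G : Type*} [Group G] [Finite G] (p : ℕ) [Fact p.Prime] (M : Ideal Cfsg.AlgInt) (hM : Cfsg.IsPModular p M) (z : G) (hz : ∃ k : ℕ, orderOf z = p ^ k) (hz1 : z ≠ 1) (y : Subgroup.centralizer ({z} : Set G)) (hy : ¬ p ∣ orderOf y) : (∑ᶠ ζ ∈ Cfsg.principalBlock M G, ‖(ζ : G → ℂ) (z * (y : G))‖ ^ 2 = ∑ᶠ χ ∈ Cfsg.principalBlock M (Subgroup.centralizer ({z} : Set G)), ‖(χ : Subgroup.centralizer ({z} : Set G) → ℂ) y‖ ^ 2) ∧ ((∃ k : ℕ, (Cfsg.pPrimeCore p (Subgroup.centralizer ({z} : Set G))).index = p ^ k) → ∑ᶠ ζ ∈ Cfsg.principalBlock M G, ‖(ζ : G → ℂ) (z * (y : G))‖ ^ 2 = ((p ^ (Nat.card (Subgroup.centralizer ({z} : Set G))).factorization p : ℕ) : ℝ)) := by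
  classical
  have := Fintype.ofFinite G
  have key := Cfsg.Agent.Helper78.sum_section_principal hM z hz y hy
  have hi : ∑ᶠ ζ ∈ Cfsg.principalBlock M G, ‖(ζ : G → ℂ) (z * (y : G))‖ ^ 2 =
      ∑ᶠ χ ∈ Cfsg.principalBlock M (Subgroup.centralizer ({z} : Set G)),
        ‖(χ : Subgroup.centralizer ({z} : Set G) → ℂ) y‖ ^ 2 := by
    apply Complex.ofReal_injective
    rw [finsum_normSq_eq (Cfsg.principalBlock M G) (fun ζ => (ζ : G → ℂ) (z * (y : G))),
      finsum_normSq_eq (Cfsg.principalBlock M (Subgroup.centralizer ({z} : Set G)))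
        (fun χ => (χ : Subgroup.centralizer ({z} : Set G) → ℂ) y)]
    exact key
  refine ⟨hi, ?_⟩
  intro hnc
  rw [hi]
  apply Complex.ofReal_injective
  rw [finsum_normSq_eq (Cfsg.principalBlock M (Subgroup.centralizer ({z} : Set G)))
    (fun χ => (χ : Subgroup.centralizer ({z} : Set G) → ℂ) y)]
  rw [Cfsg.Agent.Helper78.sum_principal_of_normal_complement p M hM hnc y hy]
  push_cast
  rfl

end Cfsg.Agent.S0947
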