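import Cfsg.Statements.S0948
import Cfsg.Agent.Lib.Helper74.Klein4
import Cfsg.Agent.Lib.Helper16.WBO
import Cfsg.Agent.Lib.Helper81.CharInd
import Cfsg.Agent.Lib.Helper79.CharBasic
import Cfsg.Agent.Lib.Helper80.CharBasic

set_option autoImplicit false
set_option linter.style.haveILetI false
set_option maxHeartbeats 800000
open Cfsg

namespace Cfsg.Agent.S0948

open Cfsg.Agent.Helper74.SS Cfsg.Agent.Helper74.KL
open Cfsg.Agent.Helper77 Cfsg.Agent.Helper78
open scoped ComplexConjugate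

/-- degree congruence from the restriction to a subgroup of order four on whose non-identity
elements the character takes the constant integer value `e` -/
theorem deg_congr {G : Type*} [Group G] [Fintype G] (P : Subgroup G) [Fintype P]
    (hP4 : Nat.card P = 4) (χ : IrrCharacter G) (e : ℤ)
    (hval : ∀ x : P, x ≠ 1 → (χ : G → ℂ) x = (e : ℂ)) :
    (4 : ℤ) ∣ (charDegree (χ : G → ℂ) : ℤ) - e := by
  classical
  have hρ : IsCharacter P (fun x : P => (χ : G → ℂ) x) :=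
    Cfsg.Agent.Helper81.isCharacter_restrict P (Cfsg.Agent.Helper80.isCharacter_of_irr χ.2)
  obtain ⟨k, hk⟩ := Cfsg.Agent.Helper81.exists_nat_classInner_char hρ
    (Cfsg.Agent.Helper80.isCharacter_of_irr (trivIrr P).2)
  unfold classInner at hk
  rw [hP4] at hk
  have hcard : (Finset.univ.erase (1 : P)).card = 3 := by
    rw [Finset.card_erase_of_mem (Finset.mem_univ _), Finset.card_univ,
      ← Nat.card_eq_fintype_card, hP4]
  have hsum : ∑ x : P, (χ : G → ℂ) x * conj ((trivIrr P : P → ℂ) x) =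
      (charDegree (χ : G → ℂ) : ℂ) + 3 * (e : ℂ) := by
    rw [← Finset.add_sum_erase Finset.univ _ (Finset.mem_univ (1 : P))]
    congr 1
    · rw [trivIrr_apply, map_one, mul_one]
      exact (Cfsg.Agent.Helper79.irr_one_eq χ).1
    · have : ∀ x ∈ Finset.univ.erase (1 : P),
          (χ : G → ℂ) x * conj ((trivIrr P : P → ℂ) x) = (e : ℂ) := by
        intro x hx
        rw [trivIrr_apply, map_one, mul_one]
        exact hval x (Finset.ne_of_mem_erase hx)
      rw [Finset.sum_congr rfl this, Finset.sum_const, hcard]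
      simp
  rw [hsum] at hk
  have h4 : ((charDegree (χ : G → ℂ) : ℤ) : ℂ) + 3 * (e : ℂ) = 4 * ((k : ℤ) : ℂ) := by
    have : (4 : ℂ) ≠ 0 := by norm_num
    push_cast
    field_simp at hk
    linear_combination hk
  have h4' : (charDegree (χ : G → ℂ) : ℤ) + 3 * e = 4 * (k : ℤ) := by exact_mod_cast h4
  exact ⟨(k : ℤ) - e, by linarith⟩

/-- Let the finite group G have a Sylow 2-subgroup P that is a Klein four-group, suppose all involutions of G are conjugate, and fix a maximal ideal M of the algebraic integers containing 2. Then the principal block consists of exactly four irreducible characters, the principal character and ζ₂, ζ₃, ζ₄, and there is a sign ε such that for every involution z: ζ₂ z = 1, ζ₃ z = ε, ζ₄ z = -1; moreover ζ₂ 1 ≡ 1, ζ₃ 1 ≡ ε, ζ₄ 1 ≡ -1 (mod 4), and 1 + ζ₂ y + ε ζ₃ y - ζ₄ y = 0 for every y of odd order. -/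
theorem result {G : Type*} [Group G] [Finite G] (M : Ideal Cfsg.AlgInt) (hM : Cfsg.IsPModular 2 M) (P : Sylow 2 G) (hP : IsKleinFour (P : Subgroup G)) (hone : ∀ s t : G, orderOf s = 2 → orderOf t = 2 → IsConj s t) : ∃ ζ₂ ζ₃ ζ₄ : Cfsg.IrrCharacter G, ∃ ε : ℤ, (ε = 1 ∨ ε = -1) ∧ (ζ₂ : G → ℂ) ≠ (fun _ => 1) ∧ (ζ₃ : G → ℂ) ≠ (fun _ => 1) ∧ ζ₂ ≠ ζ₃ ∧ ζ₂ ≠ ζ₄ ∧ ζ₃ ≠ ζ₄ ∧ Cfsg.principalBlock M G = {χ : Cfsg.IrrCharacter G | (χ : G → ℂ) = (fun _ => 1) ∨ χ = ζ₂ ∨ χ = ζ₃ ∨ χ = ζ₄} ∧ (∀ z : G, orderOf z = 2 → (ζ₂ : G → ℂ) z = 1 ∧ (ζ₃ : G → ℂ) z = (ε : ℂ) ∧ (ζ₄ : G → ℂ) z = -1) ∧ (4 : ℤ) ∣ (Cfsg.charDegree (ζ₂ : G → ℂ) : ℤ) - 1 ∧ (4 : ℤ) ∣ (Cfsg.charDegree (ζ₃ : G → ℂ) : ℤ) - ε ∧ (4 : ℤ) ∣ (Cfsg.charDegree (ζ₄ : G → ℂ) : ℤ) + 1 ∧ ∀ y : G, Odd (orderOf y) → 1 + (ζ₂ : G → ℂ) y + (ε : ℂ) * (ζ₃ : G → ℂ) y - (ζ₄ : G → ℂ) y = 0 := by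
  classical
  letI : Fintype G := Fintype.ofFinite G
  letI : Fintype (P : Subgroup G) := Fintype.ofFinite _
  haveI : Fact (Nat.Prime 2) := ⟨Nat.prime_two⟩
  haveI := isPrime_of_isPModular hM
  have hP4 : Nat.card P = 4 := hP.card_four
  have hexp : ∀ x : P, x * x = 1 := by
    intro x
    have h : (x : (P : Subgroup G)) ^ Monoid.exponent (P : Subgroup G) = 1 :=
      Monoid.pow_exponent_eq_one _
    rw [hP.exponent_two, pow_two] at h
    exact h
  obtain ⟨t, ht2, htP, hrankC, hk, hsec⟩ := klein_core M hM P hP4 hexp hone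
  have htp : ∃ k : ℕ, orderOf t = 2 ^ k := ⟨1, by rw [ht2, pow_one]⟩
  have htt : t⁻¹ = t := by
    have h : t ^ 2 = 1 := by rw [← ht2]; exact pow_orderOf_eq_one t
    rw [pow_two] at h
    exact inv_eq_of_mul_eq_one_left h
  have hB₀ : IsPBlock M (principalBlock M G) := isPBlock_principalBlock M
  have htriv := trivIrr_mem_principalBlock (G := G) M
  -- values at `t`
  have hval : ∀ χ ∈ principalBlock M G, (χ : G → ℂ) t = 1 ∨ (χ : G → ℂ) t = -1 := by
    intro χ hχ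
    have h1 := secNorm_of_rank_one t hM htp hrankC hχ
    rw [hsec χ hχ, hsec _ htriv] at h1
    have hreal : conj ((χ : G → ℂ) t) = (χ : G → ℂ) t := by
      rw [← IsIrrCharacter.inv χ.2 t, htt]
    rw [hreal] at h1
    have h2 : ((χ : G → ℂ) t - 1) * ((χ : G → ℂ) t + 1) = 0 := by linear_combination (-4) * h1
    rcases mul_eq_zero.1 h2 with h | h
    · left; linear_combination h
    · right; linear_combination h
  -- values at all involutions
  have hinv : ∀ (χ : IrrCharacter G) (z : G), orderOf z = 2 → (χ : G → ℂ) z = (χ : G → ℂ) t := by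
    intro χ z hz
    obtain ⟨c, hc⟩ := isConj_iff.1 (hone t z ht2 hz)
    rw [← hc]
    exact isClassFunction_of_isIrrCharacter χ.2 t c
  -- the sign function
  obtain ⟨e, hedef⟩ : ∃ e : IrrCharacter G → ℤ,
      e = fun χ : IrrCharacter G => if (χ : G → ℂ) t = 1 then (1 : ℤ) else -1 := ⟨_, rfl⟩
  have he : ∀ χ ∈ principalBlock M G, (χ : G → ℂ) t = ((e χ : ℤ) : ℂ) ∧ (e χ = 1 ∨ e χ = -1) := by
    intro χ hχ
    rcases hval χ hχ with h | h
    · have h1 : e χ = 1 := by rw [hedef]; exact if_pos h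
      rw [h1]
      exact ⟨by rw [h]; norm_num, Or.inl rfl⟩
    · have hne : ¬ ((χ : G → ℂ) t = 1) := by
        rw [h]; norm_num
      have h1 : e χ = -1 := by rw [hedef]; exact if_neg hne
      rw [h1]
      exact ⟨by rw [h]; norm_num, Or.inr rfl⟩
  have he_triv : e (trivIrr G) = 1 := by
    rw [hedef]
    simp only [trivIrr_apply, if_true]
  -- degree congruences
  have hdeg : ∀ χ ∈ principalBlock M G, (4 : ℤ) ∣ (charDegree (χ : G → ℂ) : ℤ) - e χ := by
    intro χ hχ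
    apply deg_congr (P : Subgroup G) hP4 χ (e χ)
    intro x hx
    have hx2 : orderOf (x : G) = 2 := by
      apply orderOf_eq_prime
      · rw [pow_two]
        exact_mod_cast congrArg Subtype.val (hexp x)
      · intro h
        apply hx
        exact Subtype.ext h
    rw [hinv χ _ hx2]
    exact (he χ hχ).1
  -- the finset of the block
  obtain ⟨T, hTdef⟩ : ∃ T : Finset (IrrCharacter G),
      T = (Set.toFinite (principalBlock M G)).toFinset := ⟨_, rfl⟩
  have hTmem : ∀ χ, χ ∈ T ↔ χ ∈ principalBlock M G := by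
    intro χ
    rw [hTdef, Set.Finite.mem_toFinset]
  rw [← hTdef] at hk
  have ht_sing : 2 ∣ orderOf t := by rw [ht2]
  have hwbo : ∀ y : G, ¬ 2 ∣ orderOf y →
      ∑ χ ∈ T, (χ : G → ℂ) y * ((e χ : ℤ) : ℂ) = 0 := by
    intro y hy
    have h := Cfsg.Agent.Helper16.weak_block_orthogonality hM hB₀ y t hy ht_sing
    rw [← hTdef] at h
    rw [← h]
    refine Finset.sum_congr rfl fun χ hχ => ?_
    rw [(he χ ((hTmem χ).1 hχ)).1]
    simp
  -- the degree equation
  have h1reg : ¬ 2 ∣ orderOf (1 : G) := by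
    rw [orderOf_one]; norm_num
  have hdegsum : ∑ χ ∈ T, (charDegree (χ : G → ℂ) : ℤ) * e χ = 0 := by
    have h := hwbo 1 h1reg
    have h' : ((∑ χ ∈ T, (charDegree (χ : G → ℂ) : ℤ) * e χ : ℤ) : ℂ) = 0 := by
      rw [← h]
      push_cast
      refine Finset.sum_congr rfl fun χ _ => ?_
      rw [(Cfsg.Agent.Helper79.irr_one_eq χ).1]
    exact_mod_cast h'
  have hdegpos : ∀ χ : IrrCharacter G, (0 : ℤ) < (charDegree (χ : G → ℂ) : ℤ) := by
    intro χ
    exact_mod_cast (Cfsg.Agent.Helper79.irr_one_eq χ).2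
  have hdegtriv : (charDegree (trivIrr G : G → ℂ) : ℤ) = 1 := by
    have h := (Cfsg.Agent.Helper79.irr_one_eq (trivIrr G)).1
    rw [trivIrr_apply] at h
    exact_mod_cast h.symm
  have htrivT : trivIrr G ∈ T := (hTmem _).2 htriv
  obtain ⟨S, hSdef⟩ : ∃ S : Finset (IrrCharacter G), S = T.erase (trivIrr G) := ⟨_, rfl⟩
  have hScard : S.card = 3 := by
    rw [hSdef, Finset.card_erase_of_mem htrivT, hk]
  have hSsum : ∑ χ ∈ S, (charDegree (χ : G → ℂ) : ℤ) * e χ = -1 := by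
    have h := Finset.add_sum_erase T (fun χ => (charDegree (χ : G → ℂ) : ℤ) * e χ) htrivT
    rw [hdegsum, ← hSdef, hdegtriv, he_triv] at h
    linarith
  have hSB : ∀ χ ∈ S, χ ∈ principalBlock M G := by
    intro χ hχ
    rw [hSdef] at hχ
    exact (hTmem χ).1 (Finset.mem_of_mem_erase hχ)
  -- a character with value `1` and one with value `-1`
  have hex2 : ∃ χ ∈ S, e χ = 1 := by
    by_contra hcon
    push Not at hcon
    have hall : ∀ χ ∈ S, (charDegree (χ : G → ℂ) : ℤ) * e χ ≤ -1 := by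
      intro χ hχ
      rcases (he χ (hSB χ hχ)).2 with h | h
      · exact absurd h (hcon χ hχ)
      · rw [h]
        have := hdegpos χ
        linarith
    have h := Finset.sum_le_sum hall
    rw [hSsum, Finset.sum_const, hScard] at h
    norm_num at h
  have hex4 : ∃ χ ∈ S, e χ = -1 := by
    by_contra hcon
    push Not at hcon
    have hall : ∀ χ ∈ S, 0 ≤ (charDegree (χ : G → ℂ) : ℤ) * e χ := by
      intro χ hχ
      rcases (he χ (hSB χ hχ)).2 with h | h
      · rw [h]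
        have := hdegpos χ
        linarith
      · exact absurd h (hcon χ hχ)
    have h := Finset.sum_nonneg hall
    rw [hSsum] at h
    norm_num at h
  obtain ⟨ζ₂, hζ₂S, he2⟩ := hex2
  obtain ⟨ζ₄, hζ₄S, he4⟩ := hex4
  have h24 : ζ₂ ≠ ζ₄ := by
    intro h
    rw [h, he4] at he2
    norm_num at he2
  have hζ₄S' : ζ₄ ∈ S.erase ζ₂ := Finset.mem_erase.2 ⟨fun h => h24 h.symm, hζ₄S⟩
  have hcard1 : ((S.erase ζ₂).erase ζ₄).card = 1 := by
    rw [Finset.card_erase_of_mem hζ₄S', Finset.card_erase_of_mem hζ₂S, hScard]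
  obtain ⟨ζ₃, hζ₃⟩ := Finset.card_eq_one.1 hcard1
  have hζ₃mem : ζ₃ ∈ (S.erase ζ₂).erase ζ₄ := by rw [hζ₃]; exact Finset.mem_singleton_self _
  have h34 : ζ₃ ≠ ζ₄ := (Finset.mem_erase.1 hζ₃mem).1
  have hζ₃S' : ζ₃ ∈ S.erase ζ₂ := (Finset.mem_erase.1 hζ₃mem).2
  have h32 : ζ₃ ≠ ζ₂ := (Finset.mem_erase.1 hζ₃S').1
  have hζ₃S : ζ₃ ∈ S := (Finset.mem_erase.1 hζ₃S').2
  have hSne : ∀ χ ∈ S, χ ≠ trivIrr G := by
    intro χ hχ
    rw [hSdef] at hχ
    exact (Finset.mem_erase.1 hχ).1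
  have hTiff : ∀ χ, χ ∈ T ↔ χ = trivIrr G ∨ χ = ζ₂ ∨ χ = ζ₃ ∨ χ = ζ₄ := by
    intro χ
    constructor
    · intro hχ
      by_cases h1 : χ = trivIrr G
      · exact Or.inl h1
      by_cases h2 : χ = ζ₂
      · exact Or.inr (Or.inl h2)
      by_cases h4 : χ = ζ₄
      · exact Or.inr (Or.inr (Or.inr h4))
      have hχS : χ ∈ S := by
        rw [hSdef]
        exact Finset.mem_erase.2 ⟨h1, hχ⟩
      have : χ ∈ (S.erase ζ₂).erase ζ₄ :=
        Finset.mem_erase.2 ⟨h4, Finset.mem_erase.2 ⟨h2, hχS⟩⟩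
      rw [hζ₃, Finset.mem_singleton] at this
      exact Or.inr (Or.inr (Or.inl this))
    · rintro (h | h | h | h)
      · rw [h]; exact htrivT
      · rw [h, ← hTmem] at *; exact (hTmem _).2 (hSB _ hζ₂S)
      · rw [h]; exact (hTmem _).2 (hSB _ hζ₃S)
      · rw [h]; exact (hTmem _).2 (hSB _ hζ₄S)
  have htriv_iff : ∀ χ : IrrCharacter G, (χ : G → ℂ) = (fun _ => 1) ↔ χ = trivIrr G := by
    intro χ
    constructor
    · intro h
      apply Subtype.ext
      rw [h]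
      funext g
      rw [trivIrr_apply]
    · intro h
      rw [h]
      funext g
      rw [trivIrr_apply]
  have hTeq : T = insert (trivIrr G) (insert ζ₂ (insert ζ₃ {ζ₄})) := by
    ext χ
    rw [hTiff χ]
    simp only [Finset.mem_insert, Finset.mem_singleton]
  have hsum4 : ∀ f : IrrCharacter G → ℂ,
      ∑ χ ∈ T, f χ = f (trivIrr G) + (f ζ₂ + (f ζ₃ + f ζ₄)) := by
    intro f
    rw [hTeq, Finset.sum_insert, Finset.sum_insert, Finset.sum_insert, Finset.sum_singleton]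
    · rw [Finset.mem_singleton]; exact h34
    · rw [Finset.mem_insert, Finset.mem_singleton]
      rintro (h | h)
      · exact h32 h.symm
      · exact h24 h
    · rw [Finset.mem_insert, Finset.mem_insert, Finset.mem_singleton]
      rintro (h | h | h)
      · exact hSne _ hζ₂S h.symm
      · exact hSne _ hζ₃S h.symm
      · exact hSne _ hζ₄S h.symm
  have he3 := (he ζ₃ (hSB _ hζ₃S)).2
  refine ⟨ζ₂, ζ₃, ζ₄, e ζ₃, he3, ?_, ?_, fun h => h32 h.symm, h24, h34, ?_, ?_, ?_, ?_, ?_, ?_⟩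
  · intro h
    exact hSne _ hζ₂S ((htriv_iff _).1 h)
  · intro h
    exact hSne _ hζ₃S ((htriv_iff _).1 h)
  · ext χ
    rw [Set.mem_setOf_eq, htriv_iff, ← hTiff, hTmem]
  · intro z hz
    rw [hinv ζ₂ z hz, hinv ζ₃ z hz, hinv ζ₄ z hz, (he ζ₂ (hSB _ hζ₂S)).1,
      (he ζ₃ (hSB _ hζ₃S)).1, (he ζ₄ (hSB _ hζ₄S)).1, he2, he4]
    norm_num
  · have := hdeg ζ₂ (hSB _ hζ₂S)
    rwa [he2] at this
  · exact hdeg ζ₃ (hSB _ hζ₃S)
  · have := hdeg ζ₄ (hSB _ hζ₄S)
    rw [he4] at this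
    simpa using this
  · intro y hy
    have hyreg : ¬ 2 ∣ orderOf y := by
      rw [← even_iff_two_dvd, Nat.not_even_iff_odd]
      exact hy
    have h := hwbo y hyreg
    rw [hsum4, he_triv, he2, he4, trivIrr_apply] at h
    push_cast at h
    linear_combination h

end Cfsg.Agent.S0948
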