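import Cfsg.Statements.S0950
import Mathlib
import Cfsg.Agent.Lib.Helper2.Frobenius

set_option autoImplicit false
set_option linter.style.haveILetI false
set_option linter.unusedSectionVars false
open Cfsg

namespace Cfsg.Agent.S0950

open Subgroup

set_option maxRecDepth 100000 in
theorem q8_pow_four : ∀ x : QuaternionGroup 2, x ^ 4 = 1 := by decide

set_option maxRecDepth 100000 in
theorem q8_unique_invol : ∀ x y : QuaternionGroup 2, x ≠ 1 → y ≠ 1 → x ^ 2 = 1 → y ^ 2 = 1 →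
    x = y := by decide

set_option maxRecDepth 100000 in
theorem q8_cover : ∀ x w v : QuaternionGroup 2, x ^ 2 ≠ 1 → w ^ 2 ≠ 1 → w ≠ x → w ≠ x⁻¹ →
    (v = 1 ∨ v = x ^ 2 ∨ v = x ∨ v = x⁻¹ ∨ v = w ∨ v = w⁻¹ ∨ v = x * w ∨ v = (x * w)⁻¹) := by
  decide

/-- an element of odd order commuting via a 2-power commutes -/
theorem commute_of_pow_two_pow {G : Type*} [Group G] [Finite G] (g w : G)
    (hodd : Nat.Coprime (orderOf g) 2) (k : ℕ) (h : Commute (g ^ 2 ^ k) w) : Commute g w := by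
  have hc : Nat.Coprime (2 ^ k) (orderOf g) := (Nat.Coprime.pow_right k hodd).symm
  obtain ⟨m, hm⟩ := exists_pow_eq_self_of_coprime hc
  rw [← hm]
  exact h.pow_left m

theorem conj_eq_of_commute {G : Type*} [Group G] (g w : G) (h : Commute g w) :
    g * w * g⁻¹ = w := by
  rw [h.eq, mul_inv_cancel_right]

section main

variable {G : Type*} [Group G] [Finite G] (S : Sylow 2 G)
  (e : (S : Subgroup G) ≃* QuaternionGroup 2)

include e

theorem s_pow_four (x : G) (hx : x ∈ (S : Subgroup G)) : x ^ 4 = 1 := by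
  have := q8_pow_four (e ⟨x, hx⟩)
  rw [← map_pow, EmbeddingLike.map_eq_one_iff] at this
  simpa [Subtype.ext_iff] using this

theorem s_unique_invol (x : G) (hx : x ∈ (S : Subgroup G)) (y : G) (hy : y ∈ (S : Subgroup G))
    (hx1 : x ≠ 1) (hy1 : y ≠ 1) (hx2 : x ^ 2 = 1) (hy2 : y ^ 2 = 1) : x = y := by
  have := q8_unique_invol (e ⟨x, hx⟩) (e ⟨y, hy⟩)
  simp only [← map_pow, ne_eq, EmbeddingLike.map_eq_one_iff, EmbeddingLike.apply_eq_iff_eq] at this
  have h := this (by simpa [Subtype.ext_iff] using hx1) (by simpa [Subtype.ext_iff] using hy1)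
    (by simpa [Subtype.ext_iff] using hx2) (by simpa [Subtype.ext_iff] using hy2)
  simpa [Subtype.ext_iff] using h

theorem s_cover (x : G) (hx : x ∈ (S : Subgroup G)) (w : G) (hw : w ∈ (S : Subgroup G))
    (v : G) (hv : v ∈ (S : Subgroup G))
    (hx2 : x ^ 2 ≠ 1) (hw2 : w ^ 2 ≠ 1) (hwx : w ≠ x) (hwx' : w ≠ x⁻¹) :
    (v = 1 ∨ v = x ^ 2 ∨ v = x ∨ v = x⁻¹ ∨ v = w ∨ v = w⁻¹ ∨ v = x * w ∨ v = (x * w)⁻¹) := by
  have := q8_cover (e ⟨x, hx⟩) (e ⟨w, hw⟩) (e ⟨v, hv⟩)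
  simp only [← map_pow, ← map_mul, ← map_inv, ne_eq, EmbeddingLike.map_eq_one_iff,
    EmbeddingLike.apply_eq_iff_eq] at this
  have h := this (by simpa [Subtype.ext_iff] using hx2) (by simpa [Subtype.ext_iff] using hw2)
    (by simpa [Subtype.ext_iff] using hwx) (by simpa [Subtype.ext_iff] using hwx')
  simpa [Subtype.ext_iff] using h

/-- a subgroup of order 4 of `S` is generated by an element of order 4 -/
theorem exists_gen (A : Subgroup G) (hA : A ≤ (S : Subgroup G)) (hA4 : Nat.card A = 4) :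
    ∃ x ∈ A, x ^ 2 ≠ 1 ∧ A = zpowers x := by
  have hex : ∃ x ∈ A, x ^ 2 ≠ 1 := by
    by_contra hcon
    push Not at hcon
    have hne : A ≠ ⊥ := by
      intro h
      rw [h, Subgroup.card_bot] at hA4
      omega
    obtain ⟨a, ha1⟩ := (Subgroup.ne_bot_iff_exists_ne_one.1 hne)
    have ha1' : (a : G) ≠ 1 := fun h => ha1 (Subtype.ext h)
    have hle : A ≤ zpowers (a : G) := by
      intro y hy
      by_cases hy1 : y = 1
      · rw [hy1]; exact one_mem _
      · have := s_unique_invol S e y (hA hy) a (hA a.2) hy1 ha1' (hcon y hy) (hcon a a.2)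
        rw [this]; exact mem_zpowers _
    have h1 : Nat.card A ≤ Nat.card (zpowers (a : G)) := Subgroup.card_le_of_le hle
    rw [Nat.card_zpowers] at h1
    have h2 : orderOf (a : G) ≤ 2 := orderOf_le_of_pow_eq_one (by norm_num) (hcon a a.2)
    omega
  obtain ⟨x, hxA, hx2⟩ := hex
  refine ⟨x, hxA, hx2, ?_⟩
  have hord : orderOf x = 2 ^ (1 + 1) :=
    orderOf_eq_prime_pow (p := 2) (n := 1) (by simpa using hx2)
      (by simpa using s_pow_four S e x (hA hxA))
  symm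
  apply Subgroup.eq_of_le_of_card_ge (zpowers_le.2 hxA)
  rw [Nat.card_zpowers, hord, hA4]
  norm_num

end main

/-- Let S be a Sylow 2-subgroup of the finite group G that is isomorphic to the quaternion group of order 8, and suppose S has no normal complement in G. Then any two subgroups of order 4 of S are conjugate by an element of the normalizer of S. -/
theorem result {G : Type*} [Group G] [Finite G] (S : Sylow 2 G) (e : (S : Subgroup G) ≃* QuaternionGroup 2) (hnc : ∀ N : Subgroup G, N.Normal → ¬ Subgroup.IsComplement' N (S : Subgroup G)) (A B : Subgroup G) (hA : A ≤ S) (hB : B ≤ S) (hA4 : Nat.card A = 4) (hB4 : Nat.card B = 4) : ∃ n ∈ Subgroup.normalizer ((S : Subgroup G) : Set G), B = A.map (MulAut.conj n).toMonoidHom := by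
  classical
  haveI : Fact (Nat.Prime 2) := ⟨Nat.prime_two⟩
  -- Step A: Frobenius' condition fails
  have hnF : ¬ Helper2.FrobCond 2 G := by
    intro hF
    obtain ⟨P, N, hNn, hNc⟩ := Helper2.frobenius 2 hF
    apply hnc N hNn
    have hcard : Nat.card N * Nat.card (S : Subgroup G) = Nat.card G := by
      rw [Sylow.card_eq_multiplicity S, ← Sylow.card_eq_multiplicity P]; exact hNc.card_mul_card
    apply Subgroup.isComplement'_of_coprime hcard
    have h1 : Nat.card N = (P : Subgroup G).index := hNc.index_eq_card.symm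
    rw [h1, Sylow.card_eq_multiplicity S]
    exact Nat.Coprime.pow_right _
      ((Nat.Prime.coprime_iff_not_dvd Nat.prime_two).2 P.not_dvd_index).symm
  -- Step B: a witness
  have hex : ∃ Q : Subgroup G, Q ≤ (S : Subgroup G) ∧ ∃ g ∈ normalizer (Q : Set G),
      Nat.Coprime (orderOf g) 2 ∧ g ∉ centralizer (Q : Set G) := by
    by_contra hcon
    push Not at hcon
    exact hnF (Helper2.frobCond_of_sylow S (fun Q hQ g hg hgo => hcon Q hQ g hg hgo))
  obtain ⟨Q, hQS, g, hgN, hgo, hgC⟩ := hex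
  rw [mem_centralizer_iff] at hgC
  push Not at hgC
  obtain ⟨w, hwQ, hwg⟩ := hgC
  have hwQ' : w ∈ Q := hwQ
  have hnorm : ∀ h, h ∈ Q ↔ g * h * g⁻¹ ∈ Q := mem_normalizer_iff.1 hgN
  have hncomm : ¬ Commute g w := fun h => hwg h.eq.symm
  -- w has order 4
  have hw2 : w ^ 2 ≠ 1 := by
    intro hw2
    have hw1 : w ≠ 1 := by
      intro h; apply hncomm; rw [h]; exact Commute.one_right g
    have h1 : g * w * g⁻¹ ≠ 1 := fun h => hw1 (conj_eq_one_iff.1 h)
    have h2 : (g * w * g⁻¹) ^ 2 = 1 := by rw [conj_pow, hw2]; simp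
    have := s_unique_invol S e _ (hQS ((hnorm w).1 hwQ')) w (hQS hwQ') h1 hw1 h2 hw2
    apply hncomm
    show g * w = w * g
    calc g * w = (g * w * g⁻¹) * g := by group
      _ = w * g := by rw [this]
  set w₁ := g * w * g⁻¹ with hw₁
  have hw₁Q : w₁ ∈ Q := (hnorm w).1 hwQ'
  have hw₁2 : w₁ ^ 2 ≠ 1 := by
    rw [hw₁, conj_pow]
    intro h; exact hw2 (conj_eq_one_iff.1 h)
  have hcomm_of : ∀ k : ℕ, g ^ 2 ^ k * w * (g ^ 2 ^ k)⁻¹ = w → False := by
    intro k h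
    apply hncomm
    apply commute_of_pow_two_pow g w hgo k
    show g ^ 2 ^ k * w = w * g ^ 2 ^ k
    calc g ^ 2 ^ k * w = (g ^ 2 ^ k * w * (g ^ 2 ^ k)⁻¹) * g ^ 2 ^ k := by group
      _ = w * g ^ 2 ^ k := by rw [h]
  have hw₁w : w₁ ≠ w := by
    intro h
    apply hcomm_of 0
    simpa using h
  have hw₁w' : w₁ ≠ w⁻¹ := by
    intro h
    apply hcomm_of 1
    have : g ^ 2 ^ 1 * w * (g ^ 2 ^ 1)⁻¹ = g * (g * w * g⁻¹) * g⁻¹ := by
      simp only [pow_one, pow_two, mul_inv_rev, mul_assoc]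
    rw [this, ← hw₁, h]
    have : g * w⁻¹ * g⁻¹ = (g * w * g⁻¹)⁻¹ := by group
    rw [this, ← hw₁, h, inv_inv]
  -- Q = S
  have hSQ : (S : Subgroup G) ≤ Q := by
    intro v hv
    have hwS := hQS hwQ'
    have hw₁S := hQS hw₁Q
    rcases s_cover S e w hwS w₁ hw₁S v hv hw2 hw₁2 hw₁w hw₁w' with h | h | h | h | h | h | h | h <;>
      rw [h]
    · exact one_mem _
    · exact pow_mem hwQ' _
    · exact hwQ'
    · exact inv_mem hwQ'
    · exact hw₁Q
    · exact inv_mem hw₁Q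
    · exact mul_mem hwQ' hw₁Q
    · exact inv_mem (mul_mem hwQ' hw₁Q)
  have hQeq : Q = (S : Subgroup G) := le_antisymm hQS hSQ
  rw [hQeq] at hgN hnorm hwQ' hw₁Q
  -- the third conjugate
  set w₂ := g * w₁ * g⁻¹ with hw₂
  have hw₂S : w₂ ∈ (S : Subgroup G) := (hnorm w₁).1 hw₁Q
  have hw₂2 : w₂ ^ 2 ≠ 1 := by
    rw [hw₂, conj_pow]
    intro h; exact hw₁2 (conj_eq_one_iff.1 h)
  have hw₂g : g ^ 2 * w * (g ^ 2)⁻¹ = w₂ := by
    rw [hw₂, hw₁]; simp only [pow_two, mul_inv_rev, mul_assoc]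
  have h3 : w₂ = w * w₁ ∨ w₂ = (w * w₁)⁻¹ := by
    rcases s_cover S e w hwQ' w₁ hw₁Q w₂ hw₂S hw2 hw₁2 hw₁w hw₁w' with h | h | h | h | h | h | h | h
    · exfalso; apply hw₂2; rw [h]; simp
    · exfalso; apply hw₂2; rw [h, ← pow_mul]; exact s_pow_four S e w hwQ'
    · -- w₂ = w
      exfalso
      apply hcomm_of 1
      simpa using hw₂g.trans h
    · -- w₂ = w⁻¹
      exfalso
      apply hcomm_of 2
      have : g ^ 2 ^ 2 * w * (g ^ 2 ^ 2)⁻¹ = g ^ 2 * (g ^ 2 * w * (g ^ 2)⁻¹) * (g ^ 2)⁻¹ := by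
        group
      rw [this, hw₂g, h]
      have : g ^ 2 * w⁻¹ * (g ^ 2)⁻¹ = (g ^ 2 * w * (g ^ 2)⁻¹)⁻¹ := by group
      rw [this, hw₂g, h, inv_inv]
    · -- w₂ = w₁
      exfalso
      apply hw₁w
      have h' : g * w₁ * g⁻¹ = g * w * g⁻¹ := by rw [← hw₂, h, hw₁]
      have := mul_left_cancel (mul_right_cancel h')
      exact this
    · -- w₂ = w₁⁻¹
      exfalso
      have hc : Commute (g ^ 2 ^ 1) w₁ := by
        show g ^ 2 ^ 1 * w₁ = w₁ * g ^ 2 ^ 1
        have h' : g ^ 2 ^ 1 * w₁ * (g ^ 2 ^ 1)⁻¹ = w₁ := by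
          have : g ^ 2 ^ 1 * w₁ * (g ^ 2 ^ 1)⁻¹ = g * (g * w₁ * g⁻¹) * g⁻¹ := by
            simp only [pow_one, pow_two, mul_inv_rev, mul_assoc]
          rw [this, ← hw₂, h]
          have : g * w₁⁻¹ * g⁻¹ = (g * w₁ * g⁻¹)⁻¹ := by group
          rw [this, ← hw₂, h, inv_inv]
        calc g ^ 2 ^ 1 * w₁ = (g ^ 2 ^ 1 * w₁ * (g ^ 2 ^ 1)⁻¹) * g ^ 2 ^ 1 := by group
          _ = w₁ * g ^ 2 ^ 1 := by rw [h']
      have hc' := commute_of_pow_two_pow g w₁ hgo 1 hc
      have : w₂ = w₁ := by rw [hw₂]; exact conj_eq_of_commute g w₁ hc'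
      rw [this] at h
      apply hw₁2
      calc w₁ ^ 2 = w₁ * w₁ := pow_two w₁
        _ = w₁ * w₁⁻¹ := by rw [← h]
        _ = 1 := mul_inv_cancel w₁
    · exact Or.inl h
    · exact Or.inr h
  -- every subgroup of order 4 of S is a conjugate of ⟨w⟩ by a power of g
  have key : ∀ C : Subgroup G, C ≤ (S : Subgroup G) → Nat.card C = 4 →
      ∃ i : ℕ, C = zpowers (g ^ i * w * (g ^ i)⁻¹) := by
    intro C hC hC4
    obtain ⟨x, hxC, hx2, hCx⟩ := exists_gen S e C hC hC4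
    rcases s_cover S e w hwQ' w₁ hw₁Q x (hC hxC) hw2 hw₁2 hw₁w hw₁w' with
      h | h | h | h | h | h | h | h
    · exfalso; apply hx2; rw [h]; simp
    · exfalso; apply hx2; rw [h, ← pow_mul]; exact s_pow_four S e w hwQ'
    · exact ⟨0, by rw [hCx, h]; simp⟩
    · exact ⟨0, by rw [hCx, h, zpowers_inv]; simp⟩
    · exact ⟨1, by rw [hCx, h, hw₁]; simp⟩
    · exact ⟨1, by rw [hCx, h, zpowers_inv, hw₁]; simp⟩
    · refine ⟨2, ?_⟩
      rw [hCx, hw₂g, h]
      rcases h3 with h3 | h3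
      · rw [h3]
      · rw [h3, zpowers_inv]
    · refine ⟨2, ?_⟩
      rw [hCx, hw₂g, h]
      rcases h3 with h3 | h3
      · rw [h3, zpowers_inv]
      · rw [h3]
  obtain ⟨i, hi⟩ := key A hA hA4
  obtain ⟨j, hj⟩ := key B hB hB4
  refine ⟨g ^ j * (g ^ i)⁻¹, mul_mem (pow_mem hgN j) (inv_mem (pow_mem hgN i)), ?_⟩
  rw [hi, hj, MonoidHom.map_zpowers]
  congr 1
  simp only [MulEquiv.coe_toMonoidHom, MulAut.conj_apply]
  group

end Cfsg.Agent.S0950
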