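import Cfsg.Statements.S0169
import Cfsg.Agent.Lib.Helper75.ScalarIndex
import Cfsg.Agent.Lib.Helper81.CharCorr
import Cfsg.Agent.Lib.Helper3.Spectral

set_option autoImplicit false
set_option linter.style.haveILetI false
open Cfsg

namespace Cfsg.Agent.S0169

open scoped ComplexConjugate
open Module

/-- irreducible characters of a finite abelian group are linear with values of norm one -/
theorem linear_of_comm {H : Type*} [Group H] [Finite H] (hH : ∀ a b : H, a * b = b * a)
    {θ : H → ℂ} (hθ : IsIrrCharacter H θ) : θ 1 = 1 ∧ ∀ h, ‖θ h‖ = 1 := by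
  obtain ⟨k, τ, hτ, rfl⟩ := hθ
  haveI := hτ
  have h1 : finrank ℂ (Fin k → ℂ) ∣ (Subgroup.center H).index := Cfsg.Agent.S0179.result τ
  have hc : Subgroup.center H = ⊤ := by
    ext x
    simp only [Subgroup.mem_center_iff, Subgroup.mem_top, iff_true]
    intro g; exact hH g x
  rw [hc, Subgroup.index_top, Nat.dvd_one] at h1
  constructor
  · rw [Representation.char_one, h1]; simp
  · intro h
    obtain ⟨c, hc, _⟩ := LinearMap.existsUnique_eq_smul_id_of_finrank_eq_one h1 (τ h)
    have := (Cfsg.Agent.Helper3.norm_char_eq_iff τ h).mpr ⟨c, hc⟩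
    rw [this, h1]; simp

/-- value of an induced function at the identity -/
theorem indFun_one {G : Type*} [Group G] [Fintype G] (T : Subgroup G) (ψ : T → ℂ) :
    indFun T ψ 1 = (T.index : ℂ) * ψ 1 := by
  unfold indFun
  have h1 : ∀ x : G, extendByZero T ψ (x⁻¹ * 1 * x) = ψ 1 := by
    intro x
    have : x⁻¹ * 1 * x = ((1 : T) : G) := by simp
    rw [this]
    unfold extendByZero
    exact Subtype.val_injective.extend_apply ψ 0 1
  simp only [h1, Finset.sum_const, Finset.card_univ, nsmul_eq_mul]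
  have hT : (Nat.card T : ℂ) ≠ 0 := by exact_mod_cast (Nat.card_pos (α := T)).ne'
  have h2 : (Fintype.card G : ℂ) = (Nat.card T : ℂ) * (T.index : ℂ) := by
    rw [← Nat.card_eq_fintype_card, ← Subgroup.card_mul_index T]; push_cast; rfl
  rw [h2]
  field_simp

/-- **Ito's theorem.** -/
theorem result {G : Type*} [Group G] [Finite G] {V : Type*} [AddCommGroup V] [Module ℂ V] [FiniteDimensional ℂ V] (ρ : Representation ℂ G V) [ρ.IsIrreducible] (H : Subgroup G) [H.Normal] (hH : ∀ a ∈ H, ∀ b ∈ H, a * b = b * a) : Module.finrank ℂ V ∣ H.index := by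
  classical
  haveI : Fintype G := Fintype.ofFinite G
  haveI : Fintype H := Fintype.ofFinite H
  have hN : H.Normal := inferInstance
  set χ := ρ.character with hχdef
  have hχ : IsIrrCharacter G χ := Cfsg.Agent.Helper3.isIrrCharacter_of_rep ρ
  have hV := Cfsg.Agent.Helper3.nontrivial_of_irr ρ
  -- an irreducible constituent of the restriction to `H`
  have hres : IsCharacter H (fun n : H => χ n) :=
    Cfsg.Agent.Helper81.isCharacter_restrict H (Cfsg.Agent.Helper81.IsIrrCharacter.isCharacter hχ)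
  have hres0 : (fun n : H => χ n) ≠ 0 := by
    intro h0
    have := congrFun h0 1
    simp only [Pi.zero_apply, OneMemClass.coe_one, hχdef, Representation.char_one] at this
    have hpos : (finrank ℂ V : ℂ) ≠ 0 := by
      exact_mod_cast (Module.finrank_pos (R := ℂ) (M := V)).ne'
    exact hpos this
  obtain ⟨θ, hθ, hθne⟩ := Cfsg.Agent.Helper81.exists_irr_constituent hres hres0
  have hHcomm : ∀ a b : H, a * b = b * a := by
    intro a b
    exact Subtype.ext (hH a a.2 b b.2)
  obtain ⟨hθ1, hθnorm⟩ := linear_of_comm hHcomm hθ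
  -- the inertia group
  let T : Subgroup G :=
    { carrier := {g | Cfsg.Agent.Helper81.conjFun H hN θ g = θ}
      one_mem' := Cfsg.Agent.Helper81.conjFun_one H hN θ
      mul_mem' := by
        intro a b ha hb
        simp only [Set.mem_ofPred_eq] at ha hb ⊢
        rw [← Cfsg.Agent.Helper81.conjFun_mul, ha, hb]
      inv_mem' := by
        intro a ha
        simp only [Set.mem_ofPred_eq] at ha ⊢
        have h1 := Cfsg.Agent.Helper81.conjFun_mul H hN θ a a⁻¹
        rw [ha, mul_inv_cancel, Cfsg.Agent.Helper81.conjFun_one] at h1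
        exact h1 }
  have hT : ∀ g : G, g ∈ T ↔ Cfsg.Agent.Helper81.conjFun H hN θ g = θ := fun g => Iff.rfl
  haveI : Fintype T := Fintype.ofFinite T
  have hHT : H ≤ T := by
    intro h hh
    rw [hT]
    ext n
    rw [Cfsg.Agent.Helper81.conjFun_apply]
    congr 1
    apply Subtype.ext
    simp only
    rw [hH h hh n n.2, mul_inv_cancel_right]
  -- Clifford correspondence
  obtain ⟨ψ, hψ, hind, hmult⟩ :=
    Cfsg.Agent.Helper81.clifford_corr_surj H T hN hHT hθ hT hχ hθne
  have hψne : classInner (Cfsg.Agent.Helper81.resTo hHT ψ) θ ≠ 0 := by rw [hmult]; exact hθne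
  -- restriction of `ψ` to `H` is a multiple of `θ`
  haveI : Fintype (IrrCharacter H) := @Fintype.ofFinite _ Cfsg.Agent.Helper81.irr_finite
  have hψres : IsCharacter H (Cfsg.Agent.Helper81.resTo hHT ψ) :=
    Cfsg.Agent.Helper81.isCharacter_resTo hHT (Cfsg.Agent.Helper81.IsIrrCharacter.isCharacter hψ)
  obtain ⟨m, hm⟩ := Cfsg.Agent.Helper81.exists_nat_decomp hψres
  have hmφ : ∀ φ : IrrCharacter H, (φ : H → ℂ) ≠ θ → m φ = 0 := by
    intro φ hφ
    have h1 : classInner (Cfsg.Agent.Helper81.resTo hHT ψ) (φ : H → ℂ) = (m φ : ℂ) := by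
      conv_lhs => rw [hm]
      exact Cfsg.Agent.Helper81.classInner_nat_decomp (fun χ' => (m χ' : ℂ)) φ
    have h2 := Cfsg.Agent.Helper81.clifford_inertia H T hN hHT hθ (fun t ht => (hT t).mp ht)
      hψ hψne φ.2 hφ
    rw [h1] at h2
    exact_mod_cast h2
  have hres2 : Cfsg.Agent.Helper81.resTo hHT ψ = (m ⟨θ, hθ⟩ : ℂ) • θ := by
    rw [hm, Finset.sum_eq_single (⟨θ, hθ⟩ : IrrCharacter H)]
    · intro φ _ hφ
      have : (φ : H → ℂ) ≠ θ := fun h => hφ (Subtype.ext h)
      rw [hmφ φ this]; simp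
    · intro h; exact absurd (Finset.mem_univ _) h
  set e : ℕ := m ⟨θ, hθ⟩ with he
  -- a representation affording `ψ`
  obtain ⟨n, σ, hσ, hσψ⟩ := hψ
  haveI := hσ
  have hψ1 : ψ 1 = (n : ℂ) := by
    rw [← hσψ, Representation.char_one]; simp
  have hen : (e : ℂ) = (n : ℂ) := by
    have h1 := congrFun hres2 1
    simp only [Pi.smul_apply, smul_eq_mul, hθ1, mul_one] at h1
    rw [← h1, ← hψ1]
    rfl
  -- `H` acts by scalars in `σ`
  have hscal : ∀ a ∈ H.subgroupOf T, ∃ c : ℂ, σ a = c • (1 : Module.End ℂ (Fin n → ℂ)) := by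
    intro a ha
    have ha' : (a : G) ∈ H := ha
    have h1 : ψ a = (e : ℂ) * θ ⟨(a : G), ha'⟩ := by
      have := congrFun hres2 ⟨(a : G), ha'⟩
      simp only [Pi.smul_apply, smul_eq_mul] at this
      rw [← this]
      rfl
    have h2 : ‖σ.character a‖ = (finrank ℂ (Fin n → ℂ) : ℝ) := by
      rw [hσψ, h1, norm_mul, hθnorm, mul_one, hen]
      simp
    obtain ⟨ω, hω⟩ := (Cfsg.Agent.Helper3.norm_char_eq_iff σ a).mp h2
    exact ⟨ω, hω⟩
  have hdvd : n ∣ (H.subgroupOf T).index := by
    have := Cfsg.Agent.Helper75.finrank_dvd_index_of_scalar σ (H.subgroupOf T) hscal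
    simpa using this
  -- degrees
  have hdeg : finrank ℂ V = T.index * n := by
    have h1 : χ 1 = (finrank ℂ V : ℂ) := by rw [hχdef, Representation.char_one]
    have h2 : χ 1 = (T.index : ℂ) * (n : ℂ) := by
      rw [← hind, indFun_one, hψ1]
    have h3 : ((finrank ℂ V : ℕ) : ℂ) = ((T.index * n : ℕ) : ℂ) := by
      rw [← h1, h2]; push_cast; rfl
    exact_mod_cast h3
  rw [hdeg, ← Subgroup.relIndex_mul_index hHT, mul_comm]
  exact Nat.mul_dvd_mul_right hdvd _

end Cfsg.Agent.S0169
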