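import Mathlib
import Cfsg.Statements.S0157
import Cfsg.Agent.Lib.Helper3.CharDecomp

set_option autoImplicit false
open Cfsg

namespace Cfsg.Agent.S0157

open scoped ComplexConjugate
open Cfsg.Agent.Helper3

theorem permChar_apply {G : Type*} [Group G] (X : Type*) [MulAction G X] [Fintype X]
    [DecidableEq X] (g : G) :
    (Representation.ofMulAction ℂ G X).character g = (Nat.card (MulAction.fixedBy X g) : ℂ) := by
  classical
  unfold Representation.character
  rw [LinearMap.trace_eq_matrix_trace ℂ (MonoidAlgebra.basis X ℂ), Matrix.trace]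
  simp only [Matrix.diag_apply, LinearMap.toMatrix_apply, MonoidAlgebra.basis_apply,
    Representation.ofMulAction_single]
  have : ∀ i : X, ((MonoidAlgebra.basis X ℂ).repr (MonoidAlgebra.single (g • i) (1 : ℂ))) i
      = if g • i = i then 1 else 0 := by
    intro i
    change (MonoidAlgebra.single (g • i) (1 : ℂ)).coeff i = _
    rw [MonoidAlgebra.coeff_single, Finsupp.single_apply]
  simp_rw [this]
  rw [Finset.sum_boole, Nat.card_eq_fintype_card]
  congr 1
  rw [Fintype.card_subtype]
  rfl

theorem isCharacter_permChar {G : Type*} [Group G] (X : Type*) [MulAction G X] [Finite X] :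
    Cfsg.IsCharacter G (fun g => (Nat.card (MulAction.fixedBy X g) : ℂ)) := by
  classical
  have : Fintype X := Fintype.ofFinite X
  have h := isCharacter_of_rep (Representation.ofMulAction ℂ G X)
  convert h using 1
  funext g
  rw [permChar_apply]

/-- fixed points of the diagonal action on pairs -/
theorem card_fixedBy_prod {G : Type*} [Group G] (X : Type*) [MulAction G X] [Finite X] (g : G) :
    Nat.card (MulAction.fixedBy (X × X) g) = Nat.card (MulAction.fixedBy X g) ^ 2 := by
  rw [pow_two, ← Nat.card_prod]
  apply Nat.card_congr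
  refine ⟨fun p => (⟨p.1.1, ?_⟩, ⟨p.1.2, ?_⟩), fun q => ⟨(q.1.1, q.2.1), ?_⟩, ?_, ?_⟩
  · have := p.2
    rw [MulAction.mem_fixedBy] at this ⊢
    exact congrArg Prod.fst this
  · have := p.2
    rw [MulAction.mem_fixedBy] at this ⊢
    exact congrArg Prod.snd this
  · rw [MulAction.mem_fixedBy]
    have h1 := q.1.2
    have h2 := q.2.2
    rw [MulAction.mem_fixedBy] at h1 h2
    exact Prod.ext h1 h2
  · intro p; rfl
  · intro q; rfl

/-- Burnside's lemma with `Nat.card` -/
theorem burnside {G : Type*} [Group G] [Fintype G] (Y : Type*) [MulAction G Y] [Finite Y] :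
    ∑ g : G, Nat.card (MulAction.fixedBy Y g) =
      Nat.card (Quotient (MulAction.orbitRel G Y)) * Nat.card G := by
  classical
  have : Fintype Y := Fintype.ofFinite Y
  have : Fintype (Quotient (MulAction.orbitRel G Y)) := Fintype.ofFinite _
  have h := MulAction.sum_card_fixedBy_eq_card_orbits_mul_card_group G Y
  simp only [Nat.card_eq_fintype_card]
  convert h using 2

theorem card_orbits_eq_one {G : Type*} [Group G] (X : Type*) [MulAction G X]
    [MulAction.IsPretransitive G X] [Nonempty X] :
    Nat.card (Quotient (MulAction.orbitRel G X)) = 1 := by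
  rw [Nat.card_eq_one_iff_unique]
  refine ⟨?_, ?_⟩
  · constructor
    intro a b
    induction a using Quotient.inductionOn with | _ a => ?_
    induction b using Quotient.inductionOn with | _ b => ?_
    apply Quotient.sound
    change a ∈ MulAction.orbit G b
    obtain ⟨g, hg⟩ := MulAction.exists_smul_eq G b a
    exact ⟨g, hg⟩
  · obtain ⟨x⟩ := ‹Nonempty X›
    exact ⟨Quotient.mk _ x⟩

theorem card_orbits_prod_eq_two_iff {G : Type*} [Group G] (X : Type*) [MulAction G X] [Finite X]
    [MulAction.IsPretransitive G X] (hX : 2 ≤ Nat.card X) :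
    Nat.card (Quotient (MulAction.orbitRel G (X × X))) = 2 ↔
      MulAction.IsMultiplyPretransitive G X 2 := by
  classical
  have : Fintype X := Fintype.ofFinite X
  have : Fintype (Quotient (MulAction.orbitRel G (X × X))) := Fintype.ofFinite _
  have hrel : ∀ p q : X × X, (Quotient.mk (MulAction.orbitRel G (X × X)) p =
      Quotient.mk (MulAction.orbitRel G (X × X)) q) ↔ ∃ g : G, g • q = p := by
    intro p q
    rw [Quotient.eq]
    rfl
  -- two distinct points
  rw [Nat.card_eq_fintype_card] at hX
  obtain ⟨x₀, x₁, h01⟩ := Fintype.one_lt_card_iff.mp (by omega : 1 < Fintype.card X)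
  rw [MulAction.is_two_pretransitive_iff]
  constructor
  · intro h2 a b c d hab hcd
    by_contra hcon
    have h3 : 2 < Fintype.card (Quotient (MulAction.orbitRel G (X × X))) := by
      rw [Fintype.two_lt_card_iff]
      refine ⟨Quotient.mk _ (a, a), Quotient.mk _ (a, b), Quotient.mk _ (c, d), ?_, ?_, ?_⟩
      · rw [Ne, hrel]
        rintro ⟨g, hg⟩
        have h1 := congrArg Prod.fst hg
        have h2 := congrArg Prod.snd hg
        simp only [Prod.smul_fst, Prod.smul_snd] at h1 h2
        apply hab
        rw [← h1] at h2
        exact (MulAction.injective g h2).symm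
      · rw [Ne, hrel]
        rintro ⟨g, hg⟩
        have h1 := congrArg Prod.fst hg
        have h2 := congrArg Prod.snd hg
        simp only [Prod.smul_fst, Prod.smul_snd] at h1 h2
        apply hcd
        rw [← h1] at h2
        exact (MulAction.injective g h2).symm
      · rw [Ne, hrel]
        rintro ⟨g, hg⟩
        apply hcon
        refine ⟨g⁻¹, ?_, ?_⟩
        · have h1 := congrArg Prod.fst hg
          simp only [Prod.smul_fst] at h1
          rw [← h1, inv_smul_smul]
        · have h2 := congrArg Prod.snd hg
          simp only [Prod.smul_snd] at h2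
          rw [← h2, inv_smul_smul]
    rw [Nat.card_eq_fintype_card] at h2
    omega
  · intro h2
    rw [Nat.card_eq_two_iff]
    refine ⟨Quotient.mk _ (x₀, x₀), Quotient.mk _ (x₀, x₁), ?_, ?_⟩
    · rw [Ne, hrel]
      rintro ⟨g, hg⟩
      have h1 := congrArg Prod.fst hg
      have h2 := congrArg Prod.snd hg
      simp only [Prod.smul_fst, Prod.smul_snd] at h1 h2
      apply h01
      rw [← h1] at h2
      exact (MulAction.injective g h2).symm
    · apply Set.eq_univ_of_forall
      intro q
      induction q using Quotient.inductionOn with | _ q => ?_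
      obtain ⟨a, b⟩ := q
      by_cases hab : a = b
      · left
        subst hab
        rw [hrel]
        obtain ⟨g, hg⟩ := MulAction.exists_smul_eq G x₀ a
        exact ⟨g, by rw [← hg]; rfl⟩
      · right
        rw [Set.mem_singleton_iff, hrel]
        obtain ⟨g, hg1, hg2⟩ := h2 h01 hab
        exact ⟨g, by rw [← hg1, ← hg2]; rfl⟩

/-- For a transitive action of a finite group on a finite set with at least two points: the action is 2-transitive if and only if the function sending g to (number of fixed points of g) − 1 is an irreducible character. -/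
theorem result {G : Type*} [Group G] [Finite G] (X : Type*) [MulAction G X] [Finite X] [MulAction.IsPretransitive G X] (hX : 2 ≤ Nat.card X) : Cfsg.IsIrrCharacter G (fun g => (Nat.card (MulAction.fixedBy X g) : ℂ) - 1) ↔ MulAction.IsMultiplyPretransitive G X 2 := by
  classical
  have : Fintype G := Fintype.ofFinite G
  have hne : Nonempty X := by
    have : 0 < Nat.card X := by omega
    exact (Nat.card_pos_iff.mp this).1
  rw [← card_orbits_prod_eq_two_iff X hX]
  set π : G → ℂ := fun g => (Nat.card (MulAction.fixedBy X g) : ℂ) with hπ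
  set r := Nat.card (Quotient (MulAction.orbitRel G (X × X))) with hr
  have hπc : Cfsg.IsCharacter G π := isCharacter_permChar X
  have hG0 : (Nat.card G : ℂ) ≠ 0 := card_ne_zero_complex
  -- inner products
  have h1 : Cfsg.classInner π (fun _ => (1 : ℂ)) = 1 := by
    unfold Cfsg.classInner
    have hb := burnside (G := G) X
    rw [card_orbits_eq_one, one_mul] at hb
    have : ∑ g : G, π g * conj (1 : ℂ) = (Nat.card G : ℂ) := by
      simp only [map_one, mul_one, hπ]
      exact_mod_cast hb
    rw [this, inv_mul_cancel₀ hG0]
  have h1' : Cfsg.classInner (fun _ => (1 : ℂ)) π = 1 := by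
    rw [← classInner_conj_symm, h1, map_one]
  have h11 : Cfsg.classInner (fun _ : G => (1 : ℂ)) (fun _ => (1 : ℂ)) = 1 :=
    classInner_irr_self isIrrCharacter_one
  have hππ : Cfsg.classInner π π = (r : ℂ) := by
    unfold Cfsg.classInner
    have hb := burnside (G := G) (X × X)
    simp only [card_fixedBy_prod] at hb
    have : ∑ g : G, π g * conj (π g) = (r : ℂ) * (Nat.card G : ℂ) := by
      simp only [hπ, Complex.conj_natCast]
      have : ∀ g : G, (Nat.card (MulAction.fixedBy X g) : ℂ) * (Nat.card (MulAction.fixedBy X g) : ℂ)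
          = ((Nat.card (MulAction.fixedBy X g) ^ 2 : ℕ) : ℂ) := by
        intro g; push_cast; ring
      simp only [this]
      exact_mod_cast hb
    rw [this]
    field_simp
  set θ : G → ℂ := fun g => (Nat.card (MulAction.fixedBy X g) : ℂ) - 1 with hθ
  have hθeq : θ = π - (fun _ => (1 : ℂ)) := by
    funext g; rfl
  have hθθ : Cfsg.classInner θ θ = (r : ℂ) - 1 := by
    rw [hθeq, classInner_sub_left, sub_eq_add_neg π, ← neg_one_smul ℂ (fun _ : G => (1 : ℂ)),
      classInner_add_right, classInner_add_right, classInner_smul_right, classInner_smul_right,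
      hππ, h1, h1', h11]
    simp only [map_neg, map_one]
    ring
  -- θ is a character
  have hθc : Cfsg.IsCharacter G θ := by
    set ψ₀ : Cfsg.IrrCharacter G := ⟨fun _ => (1 : ℂ), isIrrCharacter_one⟩ with hψ₀
    have hm : irrMult π ψ₀ = 1 := by
      have := irrMult_spec hπc ψ₀
      rw [show ((ψ₀ : Cfsg.IrrCharacter G) : G → ℂ) = fun _ => (1 : ℂ) from rfl, h1] at this
      exact_mod_cast this.symm
    have hdec := isCharacter_eq_sum_irrMult hπc
    rw [← Finset.add_sum_erase Finset.univ _ (Finset.mem_univ ψ₀), hm] at hdec
    have : θ = ∑ ψ ∈ Finset.univ.erase ψ₀, (irrMult π ψ : ℂ) • (ψ : G → ℂ) := by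
      rw [hθeq]
      nth_rewrite 1 [hdec]
      simp only [Nat.cast_one, one_smul]
      rw [show ((ψ₀ : Cfsg.IrrCharacter G) : G → ℂ) = fun _ => (1 : ℂ) from rfl]
      abel
    rw [this]
    apply isCharacter_sum
    intro ψ _
    exact isCharacter_nsmul (isCharacter_of_isIrrCharacter ψ.2) _
  constructor
  · intro hirr
    have := classInner_irr_self hirr
    rw [hθθ] at this
    have h2 : (r : ℂ) = 2 := by linear_combination this
    exact_mod_cast h2
  · intro h2
    apply isIrrCharacter_of_classInner_self_eq_one hθc
    rw [hθθ, h2]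
    norm_num

end Cfsg.Agent.S0157
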