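import Cfsg.Statements.S1012
import Mathlib
import Cfsg.Agent.Lib.Helper17.Simple
import Cfsg.Agent.Lib.Helper17.PrimeSylow
import Cfsg.Agent.Lib.Helper17.SylowFixed
import Cfsg.Agent.Lib.Helper17.EmbedNormalizer

set_option autoImplicit false
open Cfsg

namespace Cfsg.Agent.S1012

open Cfsg.Agent.Helper17

/-- Commuting elements of orders 2 and 3 give an element of order 6. -/
theorem orderOf_mul_eq_six {G : Type*} [Group G] (t x : G) (ht : orderOf t = 2) (hx : orderOf x = 3)
    (hc : Commute t x) : orderOf (t * x) = 6 := by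
  have := hc.orderOf_mul_eq_mul_orderOf_of_coprime (by rw [ht, hx]; decide)
  rw [this, ht, hx]

/-- A group of order 24 containing no element of order 6 is isomorphic to the symmetric group of degree 4. -/
theorem result {G : Type*} [Group G] [Finite G] (h : Nat.card G = 24) (h6 : ∀ g : G, orderOf g ≠ 6) : Nonempty (G ≃* Equiv.Perm (Fin 4)) := by
  classical
  have : Fact (Nat.Prime 3) := ⟨by norm_num⟩
  have : Fact (Nat.Prime 2) := ⟨by norm_num⟩
  have hfac : Nat.card G = 3 ^ 1 * 8 := by rw [h]; norm_num
  have hnd : ¬ 3 ∣ 8 := by norm_num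
  obtain ⟨hdvd, hmod⟩ := sylow_count (G := G) hfac hnd
  have hcS : ∀ S : Sylow 3 G, Nat.card (S : Subgroup G) = 3 := by
    intro S
    have := sylow_card_eq S hfac hnd
    simpa using this
  -- an element of order 3
  obtain ⟨x, hx⟩ := exists_prime_orderOf_dvd_card' (G := G) 3 (by rw [h]; norm_num)
  have hle : Nat.card (Sylow 3 G) ≤ 8 := Nat.le_of_dvd (by norm_num) hdvd
  have hcases : Nat.card (Sylow 3 G) = 1 ∨ Nat.card (Sylow 3 G) = 4 := by
    generalize Nat.card (Sylow 3 G) = n at *
    interval_cases n <;> omega
  rcases hcases with h1 | h4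
  · -- normal Sylow 3-subgroup
    exfalso
    obtain ⟨P⟩ : Nonempty (Sylow 3 G) := inferInstance
    have : Subsingleton (Sylow 3 G) := (Nat.card_eq_one_iff_unique.1 h1).1
    have hPn : (P : Subgroup G).Normal := P.normal_of_subsingleton
    have hxP : x ∈ (P : Subgroup G) := by
      obtain ⟨Q, hQ⟩ := exists_sylow_mem_of_orderOf x hx
      rwa [Subsingleton.elim Q P] at hQ
    set N : Subgroup G := Subgroup.normalizer ((P : Subgroup G) : Set G) with hN
    set C : Subgroup G := Subgroup.centralizer ((P : Subgroup G) : Set G) with hC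
    have hNtop : N = ⊤ := Subgroup.normalizer_eq_top_iff.2 hPn
    have key := Subgroup.card_dvd_of_injective _
      (QuotientGroup.kerLift_injective (P : Subgroup G).normalizerMonoidHom)
    rw [Subgroup.normalizerMonoidHom_ker, ← Subgroup.index, ← Subgroup.relIndex] at key
    have hcyc : IsCyclic ↥(P : Subgroup G) := isCyclic_of_prime_card (hcS P)
    rw [hcyc.card_mulAut, hcS P] at key
    have hphi : Nat.totient 3 = 2 := by decide
    rw [hphi] at key
    change C.relIndex N ∣ 2 at key
    rw [hNtop, Subgroup.relIndex_top_right] at key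
    have hCcard := C.card_mul_index
    rw [h] at hCcard
    have h2C : 2 ∣ Nat.card C := by
      have hle2 : C.index ≤ 2 := Nat.le_of_dvd (by norm_num) key
      have hpos : C.index ≠ 0 := Subgroup.index_ne_zero_of_finite
      generalize C.index = i at *
      generalize Nat.card C = c at *
      interval_cases i <;> omega
    obtain ⟨t, ht⟩ := exists_prime_orderOf_dvd_card' (G := ↥C) 2 h2C
    have ht' : orderOf (t : G) = 2 := by rw [Subgroup.orderOf_coe]; exact ht
    have hcomm : Commute (t : G) x := by
      have := Subgroup.mem_centralizer_iff.1 t.2 x hxP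
      exact this.symm
    exact h6 _ (orderOf_mul_eq_six _ _ ht' hx hcomm)
  · -- four Sylow 3-subgroups: act on them
    have hfin : Fintype (Sylow 3 G) := Fintype.ofFinite _
    let φ : G →* Equiv.Perm (Sylow 3 G) := MulAction.toPermHom G (Sylow 3 G)
    have hker : ∀ g : G, g ∈ φ.ker → ∀ P : Sylow 3 G,
        g ∈ Subgroup.normalizer ((P : Subgroup G) : Set G) := by
      intro g hg P
      have h1 : φ g = 1 := hg
      have h2 : φ g P = P := by rw [h1]; rfl
      exact Sylow.smul_eq_iff_mem_normalizer.1 h2
    obtain ⟨P⟩ : Nonempty (Sylow 3 G) := inferInstance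
    have hN6 : Nat.card ↥(Subgroup.normalizer ((P : Subgroup G) : Set G)) = 6 := by
      have := card_normalizer_mul_sylow_count P
      rw [h4, h] at this
      omega
    have hKle : φ.ker ≤ Subgroup.normalizer ((P : Subgroup G) : Set G) := fun g hg => hker g hg P
    have hK6 : Nat.card φ.ker ∣ 6 := hN6 ▸ Subgroup.card_dvd_of_le hKle
    have hK3 : ¬ 3 ∣ Nat.card φ.ker := by
      intro h3
      obtain ⟨y, hy⟩ := exists_prime_orderOf_dvd_card' (G := ↥φ.ker) 3 h3
      have hy' : orderOf (y : G) = 3 := by rw [Subgroup.orderOf_coe]; exact hy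
      have hy1 : (y : G) ≠ 1 := by
        intro h1
        rw [h1, orderOf_one] at hy'
        omega
      have hall : ∀ Q : Sylow 3 G, (Q : Subgroup G) = Subgroup.zpowers (y : G) := by
        intro Q
        have hyQ : (y : G) ∈ (Q : Subgroup G) :=
          mem_sylow_of_mem_normalizer Q _ (isPGroup_zpowers_of_orderOf _ hy') (hker _ y.2 Q)
        exact ((zpowers_eq_of_card_prime _ (hcS Q) _ hyQ hy1).1).symm
      have : Subsingleton (Sylow 3 G) :=
        ⟨fun Q Q' => Sylow.ext ((hall Q).trans (hall Q').symm)⟩
      have : Nat.card (Sylow 3 G) ≤ 1 := Finite.card_le_one_iff_subsingleton.2 this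
      omega
    have hK2 : Nat.card φ.ker ≠ 2 := by
      intro hK2
      obtain ⟨t, ht⟩ := exists_prime_orderOf_dvd_card' (G := ↥φ.ker) 2 (by rw [hK2])
      have ht' : orderOf (t : G) = 2 := by rw [Subgroup.orderOf_coe]; exact ht
      have ht1 : (t : G) ≠ 1 := by
        intro h1
        rw [h1, orderOf_one] at ht'
        omega
      -- t is central
      have hcent : ∀ g : G, g * (t : G) * g⁻¹ = (t : G) := by
        intro g
        have hmem : g * (t : G) * g⁻¹ ∈ φ.ker := (φ.normal_ker).conj_mem _ t.2 g
        have hne : g * (t : G) * g⁻¹ ≠ 1 := by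
          intro h1
          apply ht1
          have : (t : G) = g⁻¹ * (g * (t : G) * g⁻¹) * g := by group
          rw [this, h1]; group
        -- the kernel has exactly two elements
        have hgen := (zpowers_eq_of_card_prime (p := 2) φ.ker hK2 (t : G) t.2 ht1).1
        have hmem' : g * (t : G) * g⁻¹ ∈ Subgroup.zpowers (t : G) := hgen.symm ▸ hmem
        obtain ⟨k, hk⟩ := Subgroup.mem_zpowers_iff.1 hmem'
        have hk2 : (t : G) ^ k = (t : G) ^ (k % 2) := by
          conv_lhs => rw [← Int.emod_add_mul_ediv k 2, zpow_add, zpow_mul]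
          have : (t : G) ^ (2 : ℤ) = 1 := by
            have := pow_orderOf_eq_one (t : G)
            rw [ht'] at this
            exact_mod_cast this
          rw [this, one_zpow, mul_one]
        rw [hk2] at hk
        rcases Int.emod_two_eq_zero_or_one k with h0 | h1
        · rw [h0, zpow_zero] at hk
          exact absurd hk.symm hne
        · rw [h1, zpow_one] at hk
          exact hk.symm
      have hcomm : Commute (t : G) x := by
        have := hcent x
        change (t : G) * x = x * (t : G)
        calc (t : G) * x = (x * (t : G) * x⁻¹) * x := by rw [this]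
          _ = x * (t : G) := by group
      exact h6 _ (orderOf_mul_eq_six _ _ ht' hx hcomm)
    have hK1 : Nat.card φ.ker = 1 := by
      have hle6 : Nat.card φ.ker ≤ 6 := Nat.le_of_dvd (by norm_num) hK6
      have hpos : 0 < Nat.card φ.ker := Nat.card_pos
      generalize Nat.card φ.ker = c at *
      interval_cases c <;> omega
    have hinj : Function.Injective φ := by
      rw [← MonoidHom.ker_eq_bot_iff]
      exact Subgroup.card_eq_one.1 hK1
    have hbij : Function.Bijective φ := by
      apply (Nat.bijective_iff_injective_and_card φ).2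
      refine ⟨hinj, ?_⟩
      rw [h, Nat.card_eq_fintype_card, Fintype.card_perm, ← Nat.card_eq_fintype_card, h4]
      rfl
    have e1 : G ≃* Equiv.Perm (Sylow 3 G) := MulEquiv.ofBijective φ hbij
    have hc4 : Fintype.card (Sylow 3 G) = 4 := by rw [← Nat.card_eq_fintype_card]; exact h4
    let e2 : Sylow 3 G ≃ Fin 4 := Fintype.equivFinOfCardEq hc4
    exact ⟨e1.trans e2.permCongrHom⟩

end Cfsg.Agent.S1012
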