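import Cfsg.Statements.S0995
import Mathlib
import Cfsg.Agent.Lib.Helper17.ConjCount
import Cfsg.Agent.Lib.Helper17.PrimeSylow
import Cfsg.Agent.Lib.Helper17.SylowSub
import Cfsg.Agent.Lib.Helper17.SylowInter2
import Cfsg.Agent.Lib.Helper17.EmbedNormalizer

set_option autoImplicit false
open Cfsg

namespace Cfsg.Agent.S0995

open Cfsg.Agent.Helper17

/-- If `u` commutes with `w` then it commutes with every element of `zpowers w`. -/
theorem commute_of_mem_zpowers {G : Type*} [Group G] {u w x : G} (h : Commute u w)
    (hx : x ∈ Subgroup.zpowers w) : Commute u x := by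
  obtain ⟨k, rfl⟩ := Subgroup.mem_zpowers_iff.1 hx
  exact h.zpow_right k

/-- Let G be a finite perfect group containing an element z of prime order p whose centralizer is the cyclic group it generates. Let t be the number of conjugacy classes of elements of order p. Then t divides p - 1, the number of Sylow p-subgroups has the form 1 + n * p, and |G| * t = (p - 1) * p * (1 + n * p). -/
theorem result {G : Type*} [Group G] [Finite G] (hperf : commutator G = ⊤) (p : ℕ) [Fact p.Prime] (z : G) (hz : orderOf z = p) (hC : Subgroup.centralizer ({z} : Set G) = Subgroup.zpowers z) : ∃ n t : ℕ, t = Nat.card {c : ConjClasses G // ∃ g : G, ConjClasses.mk g = c ∧ orderOf g = p} ∧ t ∣ p - 1 ∧ Nat.card (Sylow p G) = 1 + n * p ∧ Nat.card G * t = (p - 1) * p * (1 + n * p) := by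
  classical
  have hp : p.Prime := Fact.out
  set Z : Subgroup G := Subgroup.zpowers z with hZ
  have hcZ : Nat.card Z = p := by rw [hZ, Nat.card_zpowers, hz]
  have hz1 : z ≠ 1 := by
    rintro rfl
    rw [orderOf_one] at hz
    exact hp.one_lt.ne' hz.symm
  have hzZ : z ∈ Z := Subgroup.mem_zpowers z
  have hmemC : ∀ u : G, u ∈ Z ↔ Commute u z := by
    intro u
    rw [← hC, Subgroup.mem_centralizer_iff]
    constructor
    · intro h; exact (h z rfl).symm
    · intro h y hy
      rw [Set.mem_singleton_iff] at hy
      rw [hy]; exact h.symm.eq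
  -- the Sylow subgroup containing z is Z
  obtain ⟨P, hzP⟩ := exists_sylow_mem_of_orderOf z hz
  have hPZ : (P : Subgroup G) = Z := by
    have : Nontrivial ↥(P : Subgroup G) := ⟨⟨⟨z, hzP⟩, 1, fun h => hz1 (congrArg Subtype.val h)⟩⟩
    have hcn : Nontrivial (Subgroup.center ↥(P : Subgroup G)) := P.2.center_nontrivial
    obtain ⟨w, hwc, hw1⟩ := (Subgroup.center ↥(P : Subgroup G)).exists_ne_one_of_nontrivial
    have hwcomm : ∀ u : G, u ∈ (P : Subgroup G) → Commute u (w : G) := by
      intro u hu
      have := (Subgroup.mem_center_iff.1 hwc) ⟨u, hu⟩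
      exact congrArg Subtype.val this
    have hw1' : (w : G) ≠ 1 := fun h => hw1 (Subtype.ext h)
    have hwZ : (w : G) ∈ Z := (hmemC _).2 (hwcomm z hzP).symm
    have hgen := (zpowers_eq_of_card_prime Z hcZ (w : G) hwZ hw1').1
    apply le_antisymm
    · intro u hu
      rw [hmemC]
      exact commute_of_mem_zpowers (hwcomm u hu) (hgen ▸ hzZ)
    · rw [hZ, Subgroup.zpowers_le]; exact hzP
  have hcS : ∀ S : Sylow p G, Nat.card (S : Subgroup G) = p := by
    intro S
    rw [Sylow.card_eq_multiplicity, ← Sylow.card_eq_multiplicity P, hPZ, hcZ]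
  -- centralizers of nontrivial elements of Z
  have hcent : ∀ g : G, g ∈ Z → g ≠ 1 → Subgroup.centralizer ({g} : Set G) = Z := by
    intro g hg hg1
    have hgen := (zpowers_eq_of_card_prime Z hcZ g hg hg1).1
    ext u
    rw [Subgroup.mem_centralizer_iff, hmemC]
    constructor
    · intro h
      have h1 : Commute u g := (h g rfl).symm
      exact commute_of_mem_zpowers h1 (hgen ▸ hzZ)
    · intro h y hy
      rw [Set.mem_singleton_iff] at hy
      rw [hy]
      have hu : u ∈ Z := (hmemC u).2 h
      have h2 : Commute z g := commute_of_mem_zpowers (Commute.refl z) hg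
      have h3 : Commute g u := by
        have : Commute g z := h2.symm
        exact commute_of_mem_zpowers this hu
      exact h3.eq
  -- p divides |G|
  obtain ⟨s, hs⟩ : p ∣ Nat.card G := hcZ ▸ Subgroup.card_subgroup_dvd_card Z
  -- class sizes
  have hclass : ∀ g : G, orderOf g = p → Nat.card (ConjClasses.mk g).carrier = s := by
    intro g hg
    obtain ⟨R, hR⟩ := exists_sylow_mem_of_orderOf g hg
    obtain ⟨a, rfl⟩ := MulAction.exists_smul_eq G P R
    rw [mem_smul_sylow_iff, hPZ] at hR
    have hconj : IsConj g (a⁻¹ * g * a) := by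
      rw [isConj_iff]; exact ⟨a⁻¹, by simp⟩
    have hne1 : a⁻¹ * g * a ≠ 1 := by
      intro h1
      have := orderOf_eq_of_isConj hconj
      rw [h1, orderOf_one, hg] at this
      exact hp.one_lt.ne' this
    have hmk : ConjClasses.mk g = ConjClasses.mk (a⁻¹ * g * a) :=
      ConjClasses.mk_eq_mk_iff_isConj.2 hconj
    have h1 := card_carrier_mul_card_centralizer (a⁻¹ * g * a)
    rw [hcent _ hR hne1, hcZ, hs, ← hmk] at h1
    have : Nat.card (ConjClasses.mk g).carrier * p = s * p := by rw [h1, mul_comm]
    exact Nat.eq_of_mul_eq_mul_right hp.pos this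
  have hE1 := card_orderOf_eq_classes_mul (G := G) p s hclass
  have hE2 := card_orderOf_eq_prime (G := G) (p := p) hcS
  -- normalizer
  set N : Subgroup G := Subgroup.normalizer ((P : Subgroup G) : Set G) with hN
  have hNcount := card_normalizer_mul_sylow_count P
  have hPN : (P : Subgroup G) ≤ N := Subgroup.le_normalizer
  have hrel := card_inf_mul_relIndex (P : Subgroup G) N
  rw [inf_of_le_left hPN, hcS P] at hrel
  -- the centralizer of P is P
  have hCP : Subgroup.centralizer ((P : Subgroup G) : Set G) = (P : Subgroup G) := by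
    rw [hPZ]
    ext u
    rw [Subgroup.mem_centralizer_iff, hmemC]
    constructor
    · intro h; exact (h z hzZ).symm
    · intro h y hy
      exact (commute_of_mem_zpowers h hy).symm.eq
  have key := Subgroup.card_dvd_of_injective _
    (QuotientGroup.kerLift_injective (P : Subgroup G).normalizerMonoidHom)
  rw [Subgroup.normalizerMonoidHom_ker, ← Subgroup.index, ← Subgroup.relIndex] at key
  have hcyc : IsCyclic ↥(P : Subgroup G) := isCyclic_of_prime_card (hcS P)
  rw [hcyc.card_mulAut, hcS P, Nat.totient_prime hp, hCP] at key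
  -- arithmetic
  set np := Nat.card (Sylow p G) with hnp
  set m := (P : Subgroup G).relIndex N with hm
  set t := Nat.card {c : ConjClasses G // ∃ g : G, ConjClasses.mk g = c ∧ orderOf g = p} with ht
  have hnppos : 0 < np := Nat.card_pos
  have hmod : np % p = 1 := by
    have := card_sylow_modEq_one p G
    rw [Nat.ModEq, Nat.mod_eq_of_lt hp.one_lt] at this
    exact this
  have hsm : s = m * np := by
    have : p * s = p * (m * np) := by
      rw [← hs, ← hNcount, ← hrel]; ring
    exact Nat.eq_of_mul_eq_mul_left hp.pos this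
  have htm : t * m = p - 1 := by
    have h1 : t * s = np * (p - 1) := by rw [← hE1, hE2]
    rw [hsm] at h1
    have : (t * m) * np = (p - 1) * np := by rw [mul_assoc, h1, mul_comm]
    exact Nat.eq_of_mul_eq_mul_right hnppos this
  have hdiv : 1 + np / p * p = np := by
    have := Nat.div_add_mod np p
    rw [hmod] at this
    linarith [mul_comm p (np / p)]
  refine ⟨np / p, t, rfl, Dvd.intro _ htm, hdiv.symm, ?_⟩
  rw [hdiv, hs, hsm, ← htm]; ring

end Cfsg.Agent.S0995
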