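import Mathlib
import Cfsg.Prelude.Def_Characters
import Cfsg.Prelude.Def_Blocks
import Cfsg.Agent.Lib.Helper75.CharGalois
import Cfsg.Agent.Lib.Helper81.CharInd
import Cfsg.Agent.Lib.Helper81.CharProd
import Cfsg.Agent.Lib.Helper3.CharDecomp

set_option autoImplicit false
open Cfsg

namespace Cfsg.Agent.S4488

open Polynomial Module

section rep

variable {G : Type*} [Group G] {V : Type*} [AddCommGroup V] [Module ℂ V] [FiniteDimensional ℂ V]
  (ρ : Representation ℂ G V)

/-- A `p`-rational character value at a `p`-element is invariant under the Galois twists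
`x ↦ x ^ k`, `k` prime to `p`. -/
theorem galois_inv (p : ℕ) (hp : p.Prime) (r : ℕ) (hr : 0 < r) (hpr : ¬ p ∣ r)
    (x : G) (j : ℕ) (hx : x ^ (p ^ j) = 1)
    (hval : ρ.character x ∈
      IntermediateField.adjoin ℚ ({Complex.exp (2 * Real.pi * Complex.I / r)} : Set ℂ))
    (k : ℕ) (hk : k.Coprime p) : ρ.character (x ^ k) = ρ.character x := by
  classical
  set q := p ^ j with hq
  have hq0 : 0 < q := pow_pos hp.pos j
  set N := r * q with hN
  have hN0 : 0 < N := Nat.mul_pos hr hq0
  set ζ : ℂ := Complex.exp (2 * Real.pi * Complex.I / (N : ℕ)) with hζdef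
  have hζ : IsPrimitiveRoot ζ N := Complex.isPrimitiveRoot_exp N hN0.ne'
  set ζr : ℂ := Complex.exp (2 * Real.pi * Complex.I / (r : ℕ)) with hζrdef
  have hζr1 : IsPrimitiveRoot ζr r := Complex.isPrimitiveRoot_exp r hr.ne'
  have hζr : ζ ^ q = ζr := by
    rw [hζdef, hζrdef, ← Complex.exp_nat_mul]
    congr 1
    have h1 : (r : ℂ) ≠ 0 := by exact_mod_cast hr.ne'
    have h2 : (q : ℂ) ≠ 0 := by exact_mod_cast hq0.ne'
    rw [hN]; push_cast; field_simp
  have hω : IsPrimitiveRoot (ζ ^ r) q := hζ.pow hN0 (by rw [hN])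
  obtain ⟨F, -, hF⟩ := Helper75.exists_poly ρ x q hq0 hx (ζ ^ r) hω
  have hint : IsIntegral ℚ ζr := by
    refine ⟨X ^ r - 1, monic_X_pow_sub_C 1 hr.ne', ?_⟩
    simp [hζr1.pow_eq_one]
  have hmem : ρ.character x ∈ (IntermediateField.adjoin ℚ ({ζr} : Set ℂ)).toSubalgebra := hval
  rw [IntermediateField.adjoin_simple_toSubalgebra_of_isAlgebraic hint.isAlgebraic,
    Algebra.adjoin_singleton_eq_range_aeval] at hmem
  obtain ⟨Q, hQ⟩ := hmem
  set D : ℚ[X] := (F.map (Int.castRingHom ℚ)).comp (X ^ r) - Q.comp (X ^ q) with hD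
  have hDev : ∀ y : ℂ, aeval y D = aeval (y ^ r) F - aeval (y ^ q) Q := by
    intro y
    rw [hD, map_sub, aeval_comp, aeval_comp]
    simp only [map_pow, aeval_X]
    congr 1
    rw [← algebraMap_int_eq, aeval_map_algebraMap]
  have h0 : aeval ζ D = 0 := by
    rw [hDev, hζr]
    have := hF 1
    rw [pow_one, pow_one] at this
    rw [← this]
    change _ - (aeval ζr) Q = 0
    rw [show (aeval ζr) Q = ρ.character x from hQ, sub_self]
  -- CRT
  have hco : Nat.Coprime r q := by
    rw [hq]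
    exact Nat.Coprime.pow_right j ((Nat.Prime.coprime_iff_not_dvd hp).mpr hpr).symm
  obtain ⟨m, hm1, hm2⟩ := Nat.chineseRemainder hco 1 k
  have hmr : Nat.Coprime m r := by
    have := hm1.gcd_eq
    rw [Nat.Coprime, this]; simp
  have hmq : Nat.Coprime m q := by
    have := hm2.gcd_eq
    rw [Nat.Coprime, this, hq]
    exact Nat.Coprime.pow_right j hk
  have hmN : Nat.Coprime m N := Nat.Coprime.mul_right hmr hmq
  have hζm : IsPrimitiveRoot (ζ ^ m) N := hζ.pow_of_coprime m hmN
  have hmin : minpoly ℚ ζ = minpoly ℚ (ζ ^ m) :=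
    (cyclotomic_eq_minpoly_rat hζ hN0).symm.trans (cyclotomic_eq_minpoly_rat hζm hN0)
  have h1 : aeval (ζ ^ m) D = 0 := by
    rw [← minpoly.dvd_iff, ← hmin]
    exact minpoly.dvd ℚ ζ h0
  rw [hDev] at h1
  have e1 : (ζ ^ m) ^ r = (ζ ^ r) ^ k := by
    rw [← pow_mul, mul_comm, pow_mul]
    exact pow_eq_pow_of_modEq hm2 hω.pow_eq_one
  have e2 : (ζ ^ m) ^ q = ζr := by
    rw [← pow_mul, mul_comm, pow_mul, hζr]
    have : ζr ^ m = ζr ^ 1 := by
      exact pow_eq_pow_of_modEq hm1 hζr1.pow_eq_one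
    rw [this, pow_one]
  rw [e1, e2, ← hF k] at h1
  rw [sub_eq_zero] at h1
  rw [h1]
  exact hQ

/-- The sum of the character values over the powers of an element of exponent `N`. -/
theorem sum_pow_char (y : G) (N : ℕ) (hN : 0 < N) (hy : y ^ N = 1) :
    ∃ c : ℕ, c ≤ finrank ℂ V ∧
      ∑ i ∈ Finset.range N, ρ.character (y ^ i) = (N : ℂ) * c := by
  classical
  obtain ⟨μ, hμ, hchar⟩ := Helper75.exists_eigenvalues ρ y N hN hy
  refine ⟨(Finset.univ.filter (fun l => μ l = 1)).card, ?_, ?_⟩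
  · calc (Finset.univ.filter (fun l => μ l = 1)).card ≤ (Finset.univ : Finset (Fin (finrank ℂ V))).card :=
          Finset.card_le_card (Finset.filter_subset _ _)
      _ = finrank ℂ V := by simp
  · simp_rw [hchar]
    rw [Finset.sum_comm]
    have key : ∀ l, ∑ i ∈ Finset.range N, μ l ^ i = if μ l = 1 then (N : ℂ) else 0 := by
      intro l
      split_ifs with h
      · simp [h]
      · have h1 := geom_sum_mul (μ l) N
        rw [hμ l, sub_self] at h1
        exact (mul_eq_zero.mp h1).resolve_right (sub_ne_zero.mpr h)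
    simp_rw [key]
    rw [Finset.sum_ite]
    simp
    ring

/-- Values of a Galois-invariant character at `p`-elements: rational integers congruent to the
degree modulo `p`, and bounded below. -/
theorem int_value (p : ℕ) (hp : p.Prime) (x : G) (j : ℕ) (hx : x ^ (p ^ j) = 1)
    (hgal : ∀ i : ℕ, ¬ p ∣ i → ρ.character (x ^ i) = ρ.character x) :
    ∃ m : ℤ, ρ.character x = m ∧ (p : ℤ) ∣ (finrank ℂ V : ℤ) - m ∧
      ((p : ℤ) - 1) * ((finrank ℂ V : ℤ) - m) ≤ p * finrank ℂ V := by
  classical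
  rcases Nat.eq_zero_or_pos j with hj | hj
  · subst hj
    rw [pow_zero, pow_one] at hx
    subst hx
    refine ⟨finrank ℂ V, by simp [Representation.char_one], by simp, ?_⟩
    have : (0 : ℤ) ≤ (p : ℤ) * finrank ℂ V := by positivity
    simpa using this
  obtain ⟨j', rfl⟩ : ∃ j', j = j' + 1 := ⟨j - 1, by omega⟩
  set q' := p ^ j' with hq'
  have hq'0 : 0 < q' := pow_pos hp.pos j'
  have hqq : p ^ (j' + 1) = p * q' := by rw [pow_succ, mul_comm]
  rw [hqq] at hx
  have hpq0 : 0 < p * q' := Nat.mul_pos hp.pos hq'0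
  obtain ⟨m0, -, hA⟩ := sum_pow_char ρ x (p * q') hpq0 hx
  have hxp : (x ^ p) ^ q' = 1 := by rw [← pow_mul]; exact hx
  obtain ⟨s, hs, hB⟩ := sum_pow_char ρ (x ^ p) q' hq'0 hxp
  set v := ρ.character x with hv
  -- split the sum
  have hsplit := Finset.sum_filter_add_sum_filter_not (Finset.range (p * q')) (fun i => p ∣ i)
    (fun i => ρ.character (x ^ i))
  have hfil : (Finset.range (p * q')).filter (fun i => p ∣ i) =
      (Finset.range q').image (fun i => p * i) := by
    ext i
    simp only [Finset.mem_filter, Finset.mem_range, Finset.mem_image]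
    constructor
    · rintro ⟨h1, c, rfl⟩
      exact ⟨c, lt_of_mul_lt_mul_left h1 (Nat.zero_le p), rfl⟩
    · rintro ⟨c, hc, rfl⟩
      exact ⟨Nat.mul_lt_mul_of_pos_left hc hp.pos, dvd_mul_right p c⟩
  have hinj : Set.InjOn (fun i => p * i) (Finset.range q' : Set ℕ) := by
    intro a _ b _ hab
    exact Nat.eq_of_mul_eq_mul_left hp.pos hab
  have hfirst : ∑ i ∈ (Finset.range (p * q')).filter (fun i => p ∣ i), ρ.character (x ^ i) =
      (q' : ℂ) * s := by
    rw [hfil, Finset.sum_image hinj, ← hB]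
    apply Finset.sum_congr rfl
    intro i _
    rw [pow_mul]
  have hcard : ((Finset.range (p * q')).filter (fun i => ¬ p ∣ i)).card = p * q' - q' := by
    have h1 := Finset.card_filter_add_card_filter_not (s := Finset.range (p * q'))
      (fun i => p ∣ i)
    rw [hfil, Finset.card_image_of_injOn hinj, Finset.card_range, Finset.card_range] at h1
    omega
  have hsecond : ∑ i ∈ (Finset.range (p * q')).filter (fun i => ¬ p ∣ i), ρ.character (x ^ i) =
      ((p * q' - q' : ℕ) : ℂ) * v := by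
    rw [Finset.sum_congr rfl (fun i hi => hgal i (Finset.mem_filter.mp hi).2), Finset.sum_const,
      hcard, nsmul_eq_mul]
  rw [hA, hfirst, hsecond] at hsplit
  have hle : q' ≤ p * q' := Nat.le_mul_of_pos_left q' hp.pos
  have hq'C : (q' : ℂ) ≠ 0 := by exact_mod_cast hq'0.ne'
  have hrel : ((p : ℂ) - 1) * v = (p : ℂ) * m0 - s := by
    have h1 : (q' : ℂ) * (((p : ℂ) - 1) * v) = (q' : ℂ) * ((p : ℂ) * m0 - s) := by
      rw [Nat.cast_sub hle] at hsplit
      push_cast at hsplit
      linear_combination hsplit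
    exact mul_left_cancel₀ hq'C h1
  have hp1 : ((p : ℂ) - 1) ≠ 0 := by
    intro h
    have h2 : (p : ℂ) = 1 := by linear_combination h
    have : p = 1 := by exact_mod_cast h2
    exact hp.one_lt.ne' this
  -- rationality
  set w : ℚ := ((p : ℚ) * m0 - s) / ((p : ℚ) - 1) with hw
  have hvw : v = (w : ℂ) := by
    rw [hw]; push_cast
    rw [eq_div_iff hp1, mul_comm]; exact hrel
  have hintv : IsIntegral ℤ v := by
    obtain ⟨μ, hμ, hchar⟩ := Helper75.exists_eigenvalues ρ x (p * q') hpq0 hx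
    have h1 := hchar 1
    rw [pow_one] at h1
    rw [hv, h1]
    apply IsIntegral.sum
    intro i _
    rw [pow_one]
    exact IsIntegral.of_pow hpq0 (by rw [hμ i]; exact isIntegral_one)
  have hintw : IsIntegral ℤ w := by
    rw [hvw] at hintv
    have : (w : ℂ) = algebraMap ℚ ℂ w := rfl
    rw [this] at hintv
    exact (isIntegral_algebraMap_iff (algebraMap ℚ ℂ).injective).mp hintv
  obtain ⟨z, hz⟩ := IsIntegrallyClosed.isIntegral_iff.mp hintw
  have hvz : v = (z : ℂ) := by
    rw [hvw, ← hz]; simp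
  refine ⟨z, hvz, ?_, ?_⟩
  · -- congruence via cyclotomic polynomial at 1
    set q := p * q' with hq
    set ω : ℂ := Complex.exp (2 * Real.pi * Complex.I / (q : ℕ)) with hωdef
    have hω : IsPrimitiveRoot ω q := Complex.isPrimitiveRoot_exp q hpq0.ne'
    obtain ⟨F, hF1, hF⟩ := Helper75.exists_poly ρ x q hpq0 hx ω hω
    have h1 := hF 1
    rw [pow_one, pow_one, ← hv, hvz] at h1
    have h2 : aeval ω (F - C z) = 0 := by
      rw [map_sub, ← h1, aeval_C]; simp
    have hint : IsIntegral ℤ ω := hω.isIntegral hpq0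
    have hdvd : cyclotomic q ℤ ∣ F - C z := by
      rw [cyclotomic_eq_minpoly hω hpq0]
      exact minpoly.isIntegrallyClosed_dvd hint h2
    obtain ⟨g, hg⟩ := hdvd
    have heval : eval 1 (F - C z) = (p : ℤ) * eval 1 g := by
      rw [hg, eval_mul]
      congr 1
      have : Fact p.Prime := ⟨hp⟩
      rw [← hqq]
      exact eval_one_cyclotomic_prime_pow (R := ℤ) j'
    rw [eval_sub, hF1, eval_C] at heval
    exact ⟨_, heval⟩
  · -- bound
    have h3 : ((p : ℤ) - 1) * z = (p : ℤ) * m0 - s := by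
      have : (((p : ℤ) - 1) * z : ℂ) = (((p : ℤ) * m0 - s : ℤ) : ℂ) := by
        push_cast; rw [← hvz]; exact hrel
      exact_mod_cast this
    have h4 : (s : ℤ) ≤ finrank ℂ V := by exact_mod_cast hs
    have h5 : (0 : ℤ) ≤ (p : ℤ) * m0 := by positivity
    nlinarith

end rep

section avg

variable {H : Type*} [Group H] [Fintype H]

omit [Fintype H] in
theorem isCharacter_pow {ψ : H → ℂ} (hψ : IsCharacter H ψ) (k : ℕ) :
    IsCharacter H (fun h => ψ h ^ k) := by
  induction k with
  | zero =>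
    simp only [pow_zero]
    exact Helper3.isCharacter_one
  | succ k ih =>
    have := Helper81.isCharacter_mul ih hψ
    convert this using 1
    funext h
    simp [pow_succ]

theorem sum_pow_nat {ψ : H → ℂ} (hψ : IsCharacter H ψ) (k : ℕ) :
    ∃ c : ℕ, ∑ h : H, ψ h ^ k = (Nat.card H : ℂ) * c := by
  obtain ⟨c, hc⟩ := Helper81.exists_nat_classInner_char (isCharacter_pow hψ k)
    (Helper3.isCharacter_one (G := H))
  refine ⟨c, ?_⟩
  unfold classInner at hc
  simp only [map_one, mul_one] at hc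
  have h0 : (Nat.card H : ℂ) ≠ 0 := by
    have : 0 < Nat.card H := Nat.card_pos
    exact_mod_cast this.ne'
  rw [← hc, ← mul_assoc, mul_inv_cancel₀ h0, one_mul]

/-- The average over the group of an integer polynomial in a character is an integer. -/
theorem avg_int {ψ : H → ℂ} (hψ : IsCharacter H ψ) (f : ℤ[X]) :
    ∃ z : ℤ, ∑ h : H, aeval (ψ h) f = (Nat.card H : ℂ) * z := by
  choose c hc using sum_pow_nat hψ
  refine ⟨∑ i ∈ Finset.range (f.natDegree + 1), f.coeff i * c i, ?_⟩
  simp_rw [aeval_eq_sum_range]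
  rw [Finset.sum_comm]
  push_cast
  rw [Finset.mul_sum]
  apply Finset.sum_congr rfl
  intro i _
  rw [← Finset.smul_sum, hc i, zsmul_eq_mul]
  ring

end avg

theorem prod_Icc_cast (T : ℕ) : ∏ t ∈ Finset.Icc 1 T, (t : ℤ) = (T.factorial : ℤ) := by
  induction T with
  | zero => simp
  | succ k ih =>
    rw [Finset.prod_Icc_succ_top (by omega), ih, Nat.factorial_succ]
    push_cast
    ring

theorem result {G : Type*} [Group G] [Finite G] (p : ℕ) (hp : p.Prime) (χ : G → ℂ) (hχ : Cfsg.IsCharacter G χ) (hfaith : ∀ g : G, χ g = χ 1 → g = 1) (hrat : (∃ r : ℕ, 0 < r ∧ ¬ p ∣ r ∧ ∀ g : G, χ g ∈ IntermediateField.adjoin ℚ ({Complex.exp (2 * Real.pi * Complex.I / r)} : Set ℂ))) (n : ℕ) (hn : Cfsg.charDegree χ = n) : (Nat.card G).factorization p ≤ ∑ i ∈ Finset.range (n + 1), n / ((p - 1) * p ^ i) := by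
  classical
  obtain ⟨r, hr, hpr, hval⟩ := hrat
  obtain ⟨n', ρ, rfl⟩ := hχ
  have hfr : finrank ℂ (Fin n' → ℂ) = n' := by simp
  have hone : ρ.character 1 = (n' : ℂ) := by rw [Representation.char_one, hfr]
  have hnn : n = n' := by
    rw [← hn]; unfold Cfsg.charDegree; rw [hone]; simp
  subst hnn
  have : Fact p.Prime := ⟨hp⟩
  obtain ⟨P⟩ : Nonempty (Sylow p G) := inferInstance
  have hPcard : Nat.card P = p ^ (Nat.card G).factorization p := P.card_eq_multiplicity
  set a := (Nat.card G).factorization p with ha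
  -- values on P
  have hvals : ∀ x : G, x ∈ P → ∃ m : ℤ, ρ.character x = m ∧ (p : ℤ) ∣ (n : ℤ) - m ∧
      ((p : ℤ) - 1) * ((n : ℤ) - m) ≤ p * n := by
    intro x hxP
    obtain ⟨j, hj⟩ := P.2 ⟨x, hxP⟩
    have hxj : x ^ (p ^ j) = 1 := by
      have := congrArg Subtype.val hj
      simpa using this
    have hgal : ∀ i : ℕ, ¬ p ∣ i → ρ.character (x ^ i) = ρ.character x := by
      intro i hi
      exact galois_inv ρ p hp r hr hpr x j hxj (hval x) i
        ((Nat.Prime.coprime_iff_not_dvd hp).mpr hi).symm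
    have := int_value ρ p hp x j hxj hgal
    rwa [hfr] at this
  set T := n / (p - 1) with hT
  have hp1 : 0 < p - 1 := Nat.sub_pos_of_lt hp.one_lt
  set f : ℤ[X] := ∏ t ∈ Finset.Icc 1 T, (X - C ((n : ℤ) - p * t)) with hf
  have haevalInt : ∀ m : ℤ, aeval (m : ℂ) f = ((eval m f : ℤ) : ℂ) := by
    intro m
    have := aeval_algebraMap_apply (A := ℤ) ℂ m f
    simpa using this
  have hvanish : ∀ x : G, x ∈ P → x ≠ 1 → aeval (ρ.character x) f = 0 := by
    intro x hxP hx1
    obtain ⟨m, hm, ⟨t, ht⟩, hbound⟩ := hvals x hxP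
    have hmn : m ≠ n := by
      intro h
      apply hx1
      apply hfaith
      rw [hm, hone, h]; simp
    have hmle : m ≤ n := by
      have h1 := Helper75.norm_char_le ρ x
      rw [hfr, hm] at h1
      have h2 : ((m : ℤ) : ℝ) ≤ ‖((m : ℤ) : ℂ)‖ := by
        rw [Complex.norm_intCast]; exact le_abs_self _
      have : (m : ℝ) ≤ n := h2.trans h1
      exact_mod_cast this
    have ht1 : 1 ≤ t := by
      have hpos : (0 : ℤ) < p * t := by rw [← ht]; omega
      have hp0 : (0 : ℤ) < p := by exact_mod_cast hp.pos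
      by_contra hcon
      have : t ≤ 0 := by omega
      nlinarith
    have htT : t ≤ T := by
      rw [ht] at hbound
      have hp0 : (0 : ℤ) < p := by exact_mod_cast hp.pos
      have h1 : ((p : ℤ) - 1) * t ≤ n := by
        have : (p : ℤ) * (((p : ℤ) - 1) * t) ≤ p * n := by linarith
        exact le_of_mul_le_mul_left this hp0
      have h2 : (p - 1) * t.toNat ≤ n := by
        have h3 : ((t.toNat : ℕ) : ℤ) = t := Int.toNat_of_nonneg (by omega)
        have h4 : ((p - 1 : ℕ) : ℤ) = (p : ℤ) - 1 := by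
          rw [Nat.cast_sub hp.one_lt.le]; simp
        have : (((p - 1) * t.toNat : ℕ) : ℤ) ≤ (n : ℤ) := by
          push_cast; rw [h3, h4]; exact h1
        exact_mod_cast this
      have h5 : t.toNat ≤ T := by
        rw [hT, Nat.le_div_iff_mul_le hp1, mul_comm]; exact h2
      omega
    rw [hm, haevalInt, hf, eval_prod]
    have hmem : t.toNat ∈ Finset.Icc 1 T := by
      rw [Finset.mem_Icc]; omega
    have hzero : eval m (X - C ((n : ℤ) - p * (t.toNat : ℕ))) = 0 := by
      rw [eval_sub, eval_X, eval_C]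
      have h3 : ((t.toNat : ℕ) : ℤ) = t := Int.toNat_of_nonneg (by omega)
      rw [h3]; linarith
    rw [Finset.prod_eq_zero hmem hzero]
    simp
  have hfn : eval (n : ℤ) f = (p : ℤ) ^ T * (T.factorial : ℤ) := by
    rw [hf, eval_prod]
    simp only [eval_sub, eval_X, eval_C, sub_sub_cancel]
    rw [Finset.prod_mul_distrib, Finset.prod_const, Nat.card_Icc, Nat.add_sub_cancel]
    congr 1
    exact prod_Icc_cast T
  -- the average
  haveI : Fintype P := Fintype.ofFinite P
  have hψ : IsCharacter P (fun h : P => ρ.character h) :=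
    Helper81.isCharacter_restrict (P : Subgroup G) ⟨n, ρ, rfl⟩
  obtain ⟨z, hz⟩ := avg_int hψ f
  have hsum : ∑ h : P, aeval (ρ.character h) f = (((p : ℤ) ^ T * (T.factorial : ℤ) : ℤ) : ℂ) := by
    refine (Finset.sum_eq_single (1 : ↥(P : Subgroup G)) ?_ ?_).trans ?_
    · intro h _ hh
      apply hvanish h h.2
      intro h1
      apply hh
      exact Subtype.ext h1
    · intro h; exact absurd (Finset.mem_univ _) h
    · rw [OneMemClass.coe_one, hone, ← hfn]
      exact haevalInt n
  rw [hsum, hPcard] at hz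
  have hdvdZ : ((p ^ a : ℕ) : ℤ) ∣ (p : ℤ) ^ T * (T.factorial : ℤ) := by
    refine ⟨z, ?_⟩
    have : ((((p : ℤ) ^ T * (T.factorial : ℤ) : ℤ)) : ℂ) = (((p ^ a : ℕ) : ℤ) * z : ℤ) := by
      rw [hz]; push_cast; ring
    exact_mod_cast this
  have hdvdN : p ^ a ∣ p ^ T * T.factorial := by
    have : ((p ^ a : ℕ) : ℤ) ∣ ((p ^ T * T.factorial : ℕ) : ℤ) := by
      push_cast; push_cast at hdvdZ; exact hdvdZ
    exact_mod_cast this
  have hne : p ^ T * T.factorial ≠ 0 :=
    Nat.mul_ne_zero (pow_ne_zero _ hp.ne_zero) (Nat.factorial_ne_zero _)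
  have hle : a ≤ (p ^ T * T.factorial).factorization p :=
    (hp.pow_dvd_iff_le_factorization hne).mp hdvdN
  rw [Nat.factorization_mul (pow_ne_zero _ hp.ne_zero) (Nat.factorial_ne_zero _),
    Finsupp.add_apply, Nat.factorization_pow, Finsupp.smul_apply, hp.factorization_self,
    smul_eq_mul, mul_one] at hle
  have hlog : Nat.log p T < n + 1 := by
    have h1 : Nat.log p T ≤ T := Nat.log_le_self p T
    have h2 : T ≤ n := Nat.div_le_self n (p - 1)
    omega
  rw [Nat.factorization_factorial hp hlog] at hle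
  refine hle.trans (le_of_eq ?_)
  rw [Finset.range_eq_Ico, Finset.sum_eq_sum_Ico_succ_bot (Nat.succ_pos n)]
  congr 1
  · simp [hT]
  · apply Finset.sum_congr rfl
    intro i _
    rw [hT, Nat.div_div_eq_div_mul]

end Cfsg.Agent.S4488
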