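import Cfsg.Statements.S1033
import Cfsg.Agent.Lib.Helper18.HSmall
import Cfsg.Agent.Lib.Helper18.HE7
import Cfsg.Agent.Lib.Helper18.HE8a
import Cfsg.Agent.Lib.Helper18.HE8b

set_option autoImplicit false
open Cfsg

namespace Cfsg.Agent.S1033

open Cfsg.Lie Cfsg.Agent.Helper18

theorem all (D : Cfsg.Lie.ChevalleyDatum) (hD : D ∈ [Cfsg.Lie.chevG2, Cfsg.Lie.chevB2, Cfsg.Lie.chevD4, Cfsg.Lie.chevF4, Cfsg.Lie.chevE6, Cfsg.Lie.chevE7, Cfsg.Lie.chevE8]) (i : ℕ) (hi : i < D.rank) :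
    hSimpleCheck D i = true := by
  simp only [List.mem_cons, List.not_mem_nil, or_false] at hD
  rcases hD with rfl | rfl | rfl | rfl | rfl | rfl | rfl
  · exact hSimpleG2 i (Nat.zero_le _) hi
  · exact hSimpleB2 i (Nat.zero_le _) hi
  · exact hSimpleD4 i (Nat.zero_le _) hi
  · exact hSimpleF4 i (Nat.zero_le _) hi
  · exact hSimpleE6 i (Nat.zero_le _) hi
  · exact hSimpleE7 i (Nat.zero_le _) hi
  · by_cases h : i < 4
    · exact hSimpleE8a i (Nat.zero_le _) h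
    · exact hSimpleE8b i (by omega) hi

/-- `h_p(c)` (for a fundamental root `p = p_{i+1}` and `c ≠ 0`) is diagonal: it fixes each `h_{p_j}` and scales `e_s` by `c^{A_{p,s}}`. -/
theorem result {F : Type*} [Field F] (D : Cfsg.Lie.ChevalleyDatum) (hD : D ∈ [Cfsg.Lie.chevG2, Cfsg.Lie.chevB2, Cfsg.Lie.chevD4, Cfsg.Lie.chevF4, Cfsg.Lie.chevE6, Cfsg.Lie.chevE7, Cfsg.Lie.chevE8]) (i : ℕ) (hi : i < D.rank) (c : F) (hc : c ≠ 0) :
    D.hMat F (D.simple i) c = Matrix.diagonal (Sum.elim (fun _ => (1 : F)) (fun s : Fin D.nroots => c ^ (D.cartan i s))) :=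
  hMat_simple_of_check D i (all D hD i hi) c hc

end Cfsg.Agent.S1033
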