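import Cfsg.Statements.S1096
import Cfsg.Agent.Lib.Helper18.HAll
import Cfsg.Agent.Lib.Helper18.HSmall
import Cfsg.Agent.Lib.Helper18.HE7
import Cfsg.Agent.Lib.Helper18.HE8a
import Cfsg.Agent.Lib.Helper18.HE8b
import Cfsg.Agent.Lib.Helper18.NSmall
import Cfsg.Agent.Lib.Helper18.NE7
import Cfsg.Agent.Lib.Helper18.NE8a
import Cfsg.Agent.Lib.Helper18.NE8b
import Cfsg.Agent.Lib.Helper18.ReflSmall
import Cfsg.Agent.Lib.Helper18.ReflE8
import Cfsg.Agent.Lib.Helper18.ReflE8b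

set_option autoImplicit false
open Cfsg

namespace Cfsg.Agent.S1096

open Cfsg.Lie Cfsg.Agent.Helper18

theorem nMono {F : Type*} [Field F] (D : ChevalleyDatum) (i : ℕ) (h : NGoal F D i) :
    ∃ η : ℕ → ℤ, D.nMat F (D.simple i) 1 = monoMat D i η := by
  obtain ⟨η, _, _, _, _, h5⟩ := h
  exact ⟨η, h5⟩

/-- `n_p h_{p_j}(t) n_p⁻¹ = h_{w_p(p_j)}(t)` for fundamental `p`, `p_j` and `t ≠ 0`, stated as `n_p h_{p_j}(t) = h_{w_p(p_j)}(t) n_p`. -/
theorem result {F : Type*} [Field F] (D : Cfsg.Lie.ChevalleyDatum) (hD : D ∈ [Cfsg.Lie.chevG2, Cfsg.Lie.chevB2, Cfsg.Lie.chevD4, Cfsg.Lie.chevF4, Cfsg.Lie.chevE6, Cfsg.Lie.chevE7, Cfsg.Lie.chevE8]) (i j : ℕ) (hi : i < D.rank) (hj : j < D.rank) (t : F) (ht : t ≠ 0) :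
    D.nMat F (D.simple i) 1 * D.hMat F (D.simple j) t = D.hMat F (D.reflectRoot i (D.simple j)) t * D.nMat F (D.simple i) 1 := by
  simp only [List.mem_cons, List.not_mem_nil, or_false] at hD
  rcases hD with rfl | rfl | rfl | rfl | rfl | rfl | rfl
  · exact n_h_comm chevG2 expG2 i j (nMono _ i (nGoalG2 i (Nat.zero_le _) hi)) (hSimpleG2 j (Nat.zero_le _) hj)
      hAllG2 (reflAllG2 i j hi hj) t ht
  · exact n_h_comm chevB2 expB2 i j (nMono _ i (nGoalB2 i (Nat.zero_le _) hi)) (hSimpleB2 j (Nat.zero_le _) hj)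
      hAllB2 (reflAllB2 i j hi hj) t ht
  · exact n_h_comm chevD4 expD4 i j (nMono _ i (nGoalD4 i (Nat.zero_le _) hi)) (hSimpleD4 j (Nat.zero_le _) hj)
      hAllD4 (reflAllD4 i j hi hj) t ht
  · exact n_h_comm chevF4 expF4 i j (nMono _ i (nGoalF4 i (Nat.zero_le _) hi)) (hSimpleF4 j (Nat.zero_le _) hj)
      hAllF4 (reflAllF4 i j hi hj) t ht
  · exact n_h_comm chevE6 expE6 i j (nMono _ i (nGoalE6 i (Nat.zero_le _) hi)) (hSimpleE6 j (Nat.zero_le _) hj)
      hAllE6 (reflAllE6 i j hi hj) t ht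
  · exact n_h_comm chevE7 expE7 i j (nMono _ i (nGoalE7 i (Nat.zero_le _) hi)) (hSimpleE7 j (Nat.zero_le _) hj)
      hAllE7 (reflAllE7 i j hi hj) t ht
  · have hN : NGoal F chevE8 i := by
      by_cases h : i < 4
      · exact nGoalE8a i (Nat.zero_le _) h
      · exact nGoalE8b i (by omega) hi
    have hS : hSimpleCheck chevE8 j = true := by
      by_cases h : j < 4
      · exact hSimpleE8a j (Nat.zero_le _) h
      · exact hSimpleE8b j (by omega) hj
    have hR : reflCheck chevE8 expE8 i j = true := by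
      by_cases h : i < 4
      · exact reflAllE8a i j (Nat.zero_le _) h hj
      · exact reflAllE8b i j (by omega) hi hj
    exact n_h_comm chevE8 expE8 i j (nMono _ i hN) hS hAllE8 hR t ht

end Cfsg.Agent.S1096
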