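import Cfsg.Statements.S1027
import Cfsg.Agent.Lib.Helper18.UiAll
import Cfsg.Agent.Lib.Helper18.TorusAll
import Cfsg.Agent.Lib.Helper18.ConjAll
import Cfsg.Agent.Lib.Helper18.UCardData
import Cfsg.Agent.S1038

set_option autoImplicit false
open Cfsg

namespace Cfsg.Agent.S1027

/-- For the subgroup `U` generated by the root elements `x_r(t)` of the positive roots `r`: `|U| = q^N` over a field with `q` elements, where `N` is the number of positive roots (half the number of roots). -/
theorem result {F : Type*} [Field F] [Fintype F] (D : Cfsg.Lie.ChevalleyDatum) (hD : D ∈ [Cfsg.Lie.chevG2, Cfsg.Lie.chevB2, Cfsg.Lie.chevD4, Cfsg.Lie.chevF4, Cfsg.Lie.chevE6, Cfsg.Lie.chevE7, Cfsg.Lie.chevE8]) :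
    Nat.card (D.posUnipotent F) = Fintype.card F ^ (D.nroots / 2) := by
  obtain ⟨tbl, hT⟩ := Cfsg.Agent.Helper18.torusData_all D hD
  have hHN : D.diagonalSubgroup F ≤ D.monomialSubgroup F := le_sup_left
  have hNH := (Subgroup.normal_subgroupOf_iff_le_normalizer hHN).mp (Cfsg.Agent.S1038.result (F := F) D hD)
  have hB := Cfsg.Agent.Helper18.bnFacts_all D hD
  have hU := Cfsg.Agent.Helper18.uiFacts_all D hD
  have hconj : ∀ i < D.rank, ∀ s < D.nroots, Cfsg.Agent.Helper18.ConjGoal' F D i s :=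
    fun i hi s hs => Cfsg.Agent.Helper18.conjGoal_all D hD i s hi hs
  have hS : ∀ i < D.rank, Cfsg.Agent.Helper18.ConjGoalS' F D i :=
    fun i hi => Cfsg.Agent.Helper18.conjGoalS_all D hD i hi
  have hTri := Cfsg.Agent.Helper17.triOK_of_mem D hD
  have hNeg := Cfsg.Agent.Helper18.negTriOK_of_mem D hD
  obtain ⟨tbls, l, hperm, hred, hw0, hlen⟩ := Cfsg.Agent.Helper18.w0Data_all D hD
  rw [← hlen, ← Nat.card_eq_fintype_card]
  exact Cfsg.Agent.Helper18.posUnipotent_card D hD hB hU hT hTri hNeg hconj hS hNH tbls hperm l hred hw0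

end Cfsg.Agent.S1027
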