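import Cfsg.Statements.S1080

set_option autoImplicit false
open Cfsg

namespace Cfsg.Agent.S1080

open Cfsg.Lie

theorem xMat_map {F : Type*} [Field F] (D : ChevalleyDatum) (f : F →+* F) (r : Fin D.nroots) (t : F) :
    (D.xMat F r t).map f = D.xMat F r (f t) := by
  ext row col
  rcases col with i | s <;> rcases row with i' | u
  · simp only [ChevalleyDatum.xMat, Matrix.map_apply, Matrix.of_apply]
    split_ifs <;> simp
  · simp only [ChevalleyDatum.xMat, Matrix.map_apply, Matrix.of_apply]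
    split_ifs <;> simp
  · simp only [ChevalleyDatum.xMat, Matrix.map_apply, Matrix.of_apply]
    split_ifs <;> simp
  · simp only [ChevalleyDatum.xMat, Matrix.map_apply, Matrix.of_apply]
    split_ifs <;> simp [map_list_sum, List.map_map, Function.comp_def]

theorem x_map {F : Type*} [Field F] (D : ChevalleyDatum) (f : F →+* F) (r : ℕ) (t : F) :
    (D.x F r t).map f = D.x F r (f t) := by
  unfold ChevalleyDatum.x
  split_ifs with h
  · exact xMat_map D f ⟨r, h⟩ t
  · simp

/-- The automorphism of `GL` induced by a field automorphism. -/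
noncomputable def glAut {F : Type*} [Field F] (D : ChevalleyDatum) (f : F ≃+* F) :
    GL D.Idx F ≃* GL D.Idx F :=
  Units.mapEquiv (RingEquiv.mapMatrix f).toMulEquiv

theorem glAut_val {F : Type*} [Field F] (D : ChevalleyDatum) (f : F ≃+* F) (g : GL D.Idx F) :
    ((glAut D f g : GL D.Idx F) : Matrix D.Idx D.Idx F) = (g : Matrix D.Idx D.Idx F).map f := by
  rfl

theorem map_group_le {F : Type*} [Field F] (D : ChevalleyDatum) (f : F ≃+* F) :
    (D.group F).map (glAut D f).toMonoidHom ≤ D.group F := by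
  unfold ChevalleyDatum.group
  rw [MonoidHom.map_closure]
  apply Subgroup.closure_mono
  rintro _ ⟨g, ⟨r, t, hg⟩, rfl⟩
  refine ⟨r, f t, ?_⟩
  show ((glAut D f g : GL D.Idx F) : Matrix D.Idx D.Idx F) = _
  rw [glAut_val, hg]
  exact xMat_map D (f : F →+* F) r t

theorem map_group_eq {F : Type*} [Field F] (D : ChevalleyDatum) (f : F ≃+* F) :
    (D.group F).map (glAut D f).toMonoidHom = D.group F := by
  apply le_antisymm (map_group_le D f)
  intro g hg
  refine ⟨glAut D f.symm g, ?_, ?_⟩
  · apply map_group_le D f.symm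
    exact ⟨g, hg, rfl⟩
  · apply Units.ext
    show ((glAut D f (glAut D f.symm g) : GL D.Idx F) : Matrix D.Idx D.Idx F) = _
    rw [glAut_val, glAut_val]
    ext i j
    simp

theorem result {F : Type*} [Field F] (D : Cfsg.Lie.ChevalleyDatum) (hD : D ∈ [Cfsg.Lie.chevG2, Cfsg.Lie.chevB2, Cfsg.Lie.chevD4, Cfsg.Lie.chevF4, Cfsg.Lie.chevE6, Cfsg.Lie.chevE7, Cfsg.Lie.chevE8]) (f : F ≃+* F) :
    ∃ α : ↥(D.group F) ≃* ↥(D.group F), ∀ (g : ↥(D.group F)) (r : ℕ) (t : F), r < D.nroots →
      ((g : GL D.Idx F) : Matrix D.Idx D.Idx F) = D.x F r t → ((α g : GL D.Idx F) : Matrix D.Idx D.Idx F) = D.x F r (f t) := by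
  refine ⟨((glAut D f).subgroupMap (D.group F)).trans (MulEquiv.subgroupCongr (map_group_eq D f)), ?_⟩
  intro g r t _ hg
  show ((glAut D f (g : GL D.Idx F) : GL D.Idx F) : Matrix D.Idx D.Idx F) = _
  rw [glAut_val, hg]
  exact x_map D (f : F →+* F) r t

end Cfsg.Agent.S1080
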