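import Cfsg.Statements.S2157
import Mathlib

set_option autoImplicit false
open Cfsg

namespace Cfsg.Agent.S2157
open Cfsg.Lie

/-- `u = k·r + s` witnessed by the chain table -/
def reachK (D : ChevalleyDatum) (r : ℕ) : ℕ → ℕ → ℕ → Bool
  | s, u, 0 => s == u
  | s, u, (k+1) => match D.chainRoot r s 1 with
    | none => false
    | some s' => decide (s' < D.nroots) && reachK D r s' u k

def chainOK (D : ChevalleyDatum) : Bool :=
  (List.range D.nroots).all fun r => (D.chain.getD r #[]).toList.all fun e =>
    decide (e.1 < D.nroots) && e.2.toList.zipIdx.all fun q => reachK D r e.1 q.1.1 (q.2+1)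

theorem reachK_spec {F : Type*} [Field F] (D : ChevalleyDatum) (χ : ℕ → Fˣ) (hχ : D.IsRootCharacter χ)
    (r : ℕ) (hr : r < D.nroots) :
    ∀ k s u, s < D.nroots → reachK D r s u k = true → χ u = χ r ^ k * χ s := by
  intro k
  induction k with
  | zero =>
    intro s u _ h
    simp only [reachK, beq_iff_eq] at h
    subst h
    simp
  | succ k ih =>
    intro s u hs h
    unfold reachK at h
    split at h
    · exact absurd h (by simp)
    · rename_i s' hs'
      simp only [Bool.and_eq_true, decide_eq_true_eq] at h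
      rw [ih s' u h.1 h.2, hχ.2 r s s' hr hs hs', pow_succ, mul_assoc]

theorem chainCoeff_spec (D : ChevalleyDatum) (hOK : chainOK D = true) (r s u : ℕ) (hr : r < D.nroots)
    (km : ℕ × ℤ) (hkm : km ∈ D.chainCoeff r s u) : s < D.nroots ∧ reachK D r s u km.1 = true := by
  unfold ChevalleyDatum.chainCoeff at hkm
  simp only [List.mem_flatMap, List.mem_filter, List.mem_map, decide_eq_true_eq] at hkm
  obtain ⟨e, ⟨he, hes⟩, q, ⟨hq, hqu⟩, hqk⟩ := hkm
  unfold chainOK at hOK
  simp only [List.all_eq_true, List.mem_range, Bool.and_eq_true, decide_eq_true_eq] at hOK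
  have h1 := hOK r hr e he
  have h2 := h1.2 q hq
  subst hes hqu
  rw [← hqk]
  exact ⟨h1.1, h2⟩


open Matrix

theorem chain_sum {F : Type*} [Field F] (D : ChevalleyDatum) (hOK : chainOK D = true) (χ : ℕ → Fˣ)
    (hχ : D.IsRootCharacter χ) (r s u : ℕ) (hr : r < D.nroots) (t : F) :
    (χ u : F) * ((D.chainCoeff r s u).map fun km => ((km.2 : ℤ) : F) * t ^ km.1).sum * ((χ s : F))⁻¹ =
      ((D.chainCoeff r s u).map fun km => ((km.2 : ℤ) : F) * ((χ r : F) * t) ^ km.1).sum := by
  rw [← List.sum_map_mul_left, ← List.sum_map_mul_right]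
  congr 1
  apply List.map_congr_left
  intro km hkm
  obtain ⟨hs, hreach⟩ := chainCoeff_spec D hOK r s u hr km hkm
  have h := reachK_spec D χ hχ r hr km.1 s u hs hreach
  have h' : (χ u : F) = (χ r : F) ^ km.1 * (χ s : F) := by
    rw [h]; push_cast; ring
  have hne : (χ s : F) ≠ 0 := (χ s).ne_zero
  rw [h', mul_pow]
  field_simp

theorem conj_xMat {F : Type*} [Field F] (D : ChevalleyDatum) (hOK : chainOK D = true) (χ : ℕ → Fˣ)
    (hχ : D.IsRootCharacter χ) (r : Fin D.nroots) (t : F) :
    D.charDiag F χ * D.xMat F r t * D.charDiag F (fun s => (χ s)⁻¹) = D.xMat F r ((χ r.val : F) * t) := by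
  ext row col
  unfold ChevalleyDatum.charDiag
  rw [Matrix.mul_diagonal, Matrix.diagonal_mul]
  have hneg : ∀ s : ℕ, s = D.negIdx.getD r.val 0 → (χ s : F) = (χ r.val : F)⁻¹ := by
    intro s hs
    have := hχ.1 r.val r.isLt
    unfold ChevalleyDatum.neg at this
    rw [hs, this]
    simp
  have hr0 : (χ r.val : F) ≠ 0 := (χ r.val).ne_zero
  rcases col with i | s
  · rcases row with i' | u
    · simp [ChevalleyDatum.xMat]
    · simp only [ChevalleyDatum.xMat, Matrix.of_apply, Sum.elim_inl, Sum.elim_inr]
      split_ifs with h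
      · subst h; simp; ring
      · simp
  · simp only [Sum.elim_inr]
    have hs0 : (χ s.val : F) ≠ 0 := (χ s.val).ne_zero
    by_cases hsr : s = r
    · subst hsr
      rcases row with i' | u
      · simp [ChevalleyDatum.xMat]
      · simp only [ChevalleyDatum.xMat, Matrix.of_apply, Sum.elim_inr, if_true]
        split_ifs with h
        · subst h; simp
        · simp
    · by_cases hsn : s.val = D.negIdx.getD r.val 0
      · have hχs := hneg s.val hsn
        rcases row with i' | u
        · simp only [ChevalleyDatum.xMat, Matrix.of_apply, Sum.elim_inl, if_neg hsr, if_pos hsn]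
          simp only [Units.val_inv_eq_inv_val, hχs, inv_inv]
          ring
        · simp only [ChevalleyDatum.xMat, Matrix.of_apply, Sum.elim_inr, if_neg hsr, if_pos hsn]
          simp only [Units.val_inv_eq_inv_val]
          split_ifs with h1 h2
          · subst h1; field_simp
          · subst h2; rw [hχs, inv_inv]; ring
          · simp
      · rcases row with i' | u
        · simp only [ChevalleyDatum.xMat, Matrix.of_apply, Sum.elim_inl, if_neg hsr, if_neg hsn]
          simp
        · simp only [ChevalleyDatum.xMat, Matrix.of_apply, Sum.elim_inr, if_neg hsr, if_neg hsn]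
          simp only [Units.val_inv_eq_inv_val]
          rw [mul_add, add_mul, chain_sum D hOK χ hχ r.val s.val u.val r.isLt t]
          congr 1
          split_ifs with h1
          · subst h1; field_simp
          · simp


theorem okG2 : chainOK chevG2 = true := by decide +kernel
theorem okB2 : chainOK chevB2 = true := by decide +kernel
theorem okD4 : chainOK chevD4 = true := by decide +kernel
theorem okF4 : chainOK chevF4 = true := by decide +kernel
theorem okE6 : chainOK chevE6 = true := by decide +kernel
theorem okE7 : chainOK chevE7 = true := by decide +kernel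
theorem okE8 : chainOK chevE8 = true := by decide +kernel

/-- In a Chevalley group of type G₂, B₂, D₄, F₄, E₆, E₇ or E₈, for every character `χ` of the root lattice with values in `Fˣ` the diagonal matrix `ĥ(χ)` (identity on the coroot coordinates, `χ(s)` on the coordinate of `e_s`) conjugates each root element `x_r(t)` to `x_r(χ(r) t)`: `ĥ(χ) x_r(t) ĥ(χ)⁻¹ = x_r(χ(r) t)` as matrices, with `ĥ(χ)⁻¹` written as `ĥ(χ⁻¹)`. -/
theorem result {F : Type*} [Field F] (D : Cfsg.Lie.ChevalleyDatum) (hD : D ∈ [Cfsg.Lie.chevG2, Cfsg.Lie.chevB2, Cfsg.Lie.chevD4, Cfsg.Lie.chevF4, Cfsg.Lie.chevE6, Cfsg.Lie.chevE7, Cfsg.Lie.chevE8]) (χ : ℕ → Fˣ) (hχ : D.IsRootCharacter χ) (r : ℕ) (hr : r < D.nroots) (t : F) :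
    D.charDiag F χ * D.x F r t * D.charDiag F (fun s => (χ s)⁻¹) = D.x F r ((χ r : F) * t) := by
  have hOK : chainOK D = true := by
    simp only [List.mem_cons, List.not_mem_nil, or_false] at hD
    rcases hD with h | h | h | h | h | h | h <;> subst h
    · exact okG2
    · exact okB2
    · exact okD4
    · exact okF4
    · exact okE6
    · exact okE7
    · exact okE8
  have hx : ∀ t' : F, D.x F r t' = D.xMat F ⟨r, hr⟩ t' := by
    intro t'
    unfold ChevalleyDatum.x
    rw [dif_pos hr]
  rw [hx, hx]
  exact conj_xMat D hOK χ hχ ⟨r, hr⟩ t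

end Cfsg.Agent.S2157
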