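import Cfsg.Statements.S1035
import Cfsg.Agent.Lib.Helper18.TorusCardData
import Cfsg.Agent.Lib.Helper18.TorusAll

set_option autoImplicit false
open Cfsg

namespace Cfsg.Agent.S1035

/-- `d · |H| = (q - 1)^rank` over a field with `q` elements, with `d = 1` (G₂, F₄, E₈), `gcd(3, q-1)` (E₆), `gcd(2, q-1)` (E₇, B₂), `gcd(2, q-1)²` (D₄). -/
theorem result {F : Type*} [Field F] [Fintype F] {q : ℕ} (hq : Fintype.card F = q)
    (p : Cfsg.Lie.ChevalleyDatum × ℕ)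
    (hp : p ∈ [(Cfsg.Lie.chevG2, 1), (Cfsg.Lie.chevF4, 1), (Cfsg.Lie.chevE8, 1), (Cfsg.Lie.chevE6, Nat.gcd 3 (q - 1)),
      (Cfsg.Lie.chevE7, Nat.gcd 2 (q - 1)), (Cfsg.Lie.chevB2, Nat.gcd 2 (q - 1)), (Cfsg.Lie.chevD4, Nat.gcd 2 (q - 1) ^ 2)]) :
    p.2 * Nat.card (p.1.diagonalSubgroup F) = (q - 1) ^ p.1.rank := by
  subst hq
  simp only [List.mem_cons, List.not_mem_nil, or_false] at hp
  rcases hp with rfl | rfl | rfl | rfl | rfl | rfl | rfl
  · obtain ⟨tbl, hT⟩ := Cfsg.Agent.Helper18.torusData_all Cfsg.Lie.chevG2 (by simp)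
    have h := Cfsg.Agent.Helper18.card_diag (F := F) (D := Cfsg.Lie.chevG2) (by simp) hT
      Cfsg.Agent.Helper18.smith_G2
    have hprod : (∏ i : Fin Cfsg.Lie.chevG2.rank, (Fintype.card F - 1).gcd
        (Cfsg.Agent.Helper18.lget Cfsg.Agent.Helper18.smd_G2 i.val 0)) = 1 := by
      change (∏ i : Fin 2, _) = _
      simp [Fin.prod_univ_succ, Cfsg.Agent.Helper18.smd_G2, Cfsg.Agent.Helper18.lget]
    rw [hprod] at h
    exact h
  · obtain ⟨tbl, hT⟩ := Cfsg.Agent.Helper18.torusData_all Cfsg.Lie.chevF4 (by simp)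
    have h := Cfsg.Agent.Helper18.card_diag (F := F) (D := Cfsg.Lie.chevF4) (by simp) hT
      Cfsg.Agent.Helper18.smith_F4
    have hprod : (∏ i : Fin Cfsg.Lie.chevF4.rank, (Fintype.card F - 1).gcd
        (Cfsg.Agent.Helper18.lget Cfsg.Agent.Helper18.smd_F4 i.val 0)) = 1 := by
      change (∏ i : Fin 4, _) = _
      simp [Fin.prod_univ_succ, Cfsg.Agent.Helper18.smd_F4, Cfsg.Agent.Helper18.lget]
    rw [hprod] at h
    exact h
  · obtain ⟨tbl, hT⟩ := Cfsg.Agent.Helper18.torusData_all Cfsg.Lie.chevE8 (by simp)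
    have h := Cfsg.Agent.Helper18.card_diag (F := F) (D := Cfsg.Lie.chevE8) (by simp) hT
      Cfsg.Agent.Helper18.smith_E8
    have hprod : (∏ i : Fin Cfsg.Lie.chevE8.rank, (Fintype.card F - 1).gcd
        (Cfsg.Agent.Helper18.lget Cfsg.Agent.Helper18.smd_E8 i.val 0)) = 1 := by
      change (∏ i : Fin 8, _) = _
      simp [Fin.prod_univ_succ, Cfsg.Agent.Helper18.smd_E8, Cfsg.Agent.Helper18.lget]
    rw [hprod] at h
    exact h
  · obtain ⟨tbl, hT⟩ := Cfsg.Agent.Helper18.torusData_all Cfsg.Lie.chevE6 (by simp)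
    have h := Cfsg.Agent.Helper18.card_diag (F := F) (D := Cfsg.Lie.chevE6) (by simp) hT
      Cfsg.Agent.Helper18.smith_E6
    have hprod : (∏ i : Fin Cfsg.Lie.chevE6.rank, (Fintype.card F - 1).gcd
        (Cfsg.Agent.Helper18.lget Cfsg.Agent.Helper18.smd_E6 i.val 0)) = Nat.gcd 3 (Fintype.card F - 1) := by
      change (∏ i : Fin 6, _) = _
      simp [Fin.prod_univ_succ, Cfsg.Agent.Helper18.smd_E6, Cfsg.Agent.Helper18.lget, Nat.gcd_comm]
    rw [hprod] at h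
    exact h
  · obtain ⟨tbl, hT⟩ := Cfsg.Agent.Helper18.torusData_all Cfsg.Lie.chevE7 (by simp)
    have h := Cfsg.Agent.Helper18.card_diag (F := F) (D := Cfsg.Lie.chevE7) (by simp) hT
      Cfsg.Agent.Helper18.smith_E7
    have hprod : (∏ i : Fin Cfsg.Lie.chevE7.rank, (Fintype.card F - 1).gcd
        (Cfsg.Agent.Helper18.lget Cfsg.Agent.Helper18.smd_E7 i.val 0)) = Nat.gcd 2 (Fintype.card F - 1) := by
      change (∏ i : Fin 7, _) = _
      simp [Fin.prod_univ_succ, Cfsg.Agent.Helper18.smd_E7, Cfsg.Agent.Helper18.lget, Nat.gcd_comm]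
    rw [hprod] at h
    exact h
  · obtain ⟨tbl, hT⟩ := Cfsg.Agent.Helper18.torusData_all Cfsg.Lie.chevB2 (by simp)
    have h := Cfsg.Agent.Helper18.card_diag (F := F) (D := Cfsg.Lie.chevB2) (by simp) hT
      Cfsg.Agent.Helper18.smith_B2
    have hprod : (∏ i : Fin Cfsg.Lie.chevB2.rank, (Fintype.card F - 1).gcd
        (Cfsg.Agent.Helper18.lget Cfsg.Agent.Helper18.smd_B2 i.val 0)) = Nat.gcd 2 (Fintype.card F - 1) := by
      change (∏ i : Fin 2, _) = _
      simp [Fin.prod_univ_succ, Cfsg.Agent.Helper18.smd_B2, Cfsg.Agent.Helper18.lget, Nat.gcd_comm]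
    rw [hprod] at h
    exact h
  · obtain ⟨tbl, hT⟩ := Cfsg.Agent.Helper18.torusData_all Cfsg.Lie.chevD4 (by simp)
    have h := Cfsg.Agent.Helper18.card_diag (F := F) (D := Cfsg.Lie.chevD4) (by simp) hT
      Cfsg.Agent.Helper18.smith_D4
    have hprod : (∏ i : Fin Cfsg.Lie.chevD4.rank, (Fintype.card F - 1).gcd
        (Cfsg.Agent.Helper18.lget Cfsg.Agent.Helper18.smd_D4 i.val 0)) = Nat.gcd 2 (Fintype.card F - 1) ^ 2 := by
      change (∏ i : Fin 4, _) = _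
      simp [Fin.prod_univ_succ, Cfsg.Agent.Helper18.smd_D4, Cfsg.Agent.Helper18.lget, Nat.gcd_comm, sq]
    rw [hprod] at h
    exact h

end Cfsg.Agent.S1035
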