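import Cfsg.Statements.S1062
import Cfsg.Agent.Lib.Helper18.ChevOrder
import Cfsg.Agent.Lib.Helper18.CellsF4All
import Cfsg.Agent.S1035

set_option autoImplicit false
open Cfsg

namespace Cfsg.Agent.S1062

/-- `|F₄(q)| = q²⁴ (q² - 1)(q⁶ - 1)(q⁸ - 1)(q¹² - 1)`. -/
theorem result {F : Type*} [Field F] [Fintype F] {q : ℕ} (hq : Fintype.card F = q) : Nat.card ↥(Cfsg.Lie.chevF4.group F) = q ^ 24 * (q ^ 2 - 1) * (q ^ 6 - 1) * (q ^ 8 - 1) * (q ^ 12 - 1) := by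
  have h := Cfsg.Agent.Helper18.chev_card_formula (F := F) Cfsg.Lie.chevF4 (by simp [Cfsg.Agent.S1043.Good])
    Cfsg.Agent.Helper18.permTblF4 Cfsg.Agent.Helper18.cellRF4 Cfsg.Agent.Helper18.cellNxtF4
    Cfsg.Agent.Helper18.cellCntF4 Cfsg.Agent.Helper18.permTblF4_ok Cfsg.Agent.Helper18.cellChkF4
    Cfsg.Agent.Helper18.cellCntChkF4
  have hH := Cfsg.Agent.S1035.result (F := F) hq (Cfsg.Lie.chevF4, 1) (by simp)
  have hH' : Nat.card ↥(Cfsg.Lie.chevF4.diagonalSubgroup F) = (q - 1) ^ 4 := by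
    have e : Cfsg.Lie.chevF4.rank = 4 := rfl
    simpa [e] using hH
  have hN : Cfsg.Lie.chevF4.nroots / 2 = 24 := rfl
  have hq1 : 1 ≤ q := by
    rw [← hq]
    exact Fintype.card_pos
  rw [h, hH', hN, hq]
  simp only [Cfsg.Agent.Helper18.cellCntF4, List.length_cons, List.length_nil, Finset.sum_range_succ,
    Finset.sum_range_zero, Cfsg.Agent.Helper18.lget]
  have h2 : 1 ≤ q ^ 2 := Nat.one_le_pow _ _ hq1
  have h6 : 1 ≤ q ^ 6 := Nat.one_le_pow _ _ hq1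
  have h8 : 1 ≤ q ^ 8 := Nat.one_le_pow _ _ hq1
  have h12 : 1 ≤ q ^ 12 := Nat.one_le_pow _ _ hq1
  zify [hq1, h2, h6, h8, h12]
  ring

end Cfsg.Agent.S1062
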