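import Cfsg.Statements.S1059
import Cfsg.Agent.Lib.Helper18.ChevOrder
import Cfsg.Agent.Lib.Helper18.CellsG2
import Cfsg.Agent.S1035

set_option autoImplicit false
open Cfsg

namespace Cfsg.Agent.S1059

/-- `|G₂(q)| = q⁶ (q² - 1)(q⁶ - 1)`. -/
theorem result {F : Type*} [Field F] [Fintype F] {q : ℕ} (hq : Fintype.card F = q) : Nat.card ↥(Cfsg.Lie.chevG2.group F) = q ^ 6 * (q ^ 2 - 1) * (q ^ 6 - 1) := by
  have h := Cfsg.Agent.Helper18.chev_card_formula (F := F) Cfsg.Lie.chevG2 (by simp [Cfsg.Agent.S1043.Good])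
    Cfsg.Agent.Helper18.permTblG2 Cfsg.Agent.Helper18.cellRG2 Cfsg.Agent.Helper18.cellNxtG2
    Cfsg.Agent.Helper18.cellCntG2 Cfsg.Agent.Helper18.permTblG2_ok Cfsg.Agent.Helper18.cellChkG2
    Cfsg.Agent.Helper18.cellCntChkG2
  have hH := Cfsg.Agent.S1035.result (F := F) hq (Cfsg.Lie.chevG2, 1) (by simp)
  have hH' : Nat.card ↥(Cfsg.Lie.chevG2.diagonalSubgroup F) = (q - 1) ^ 2 := by
    have e : Cfsg.Lie.chevG2.rank = 2 := rfl
    simpa [e] using hH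
  have hN : Cfsg.Lie.chevG2.nroots / 2 = 6 := rfl
  have hq1 : 1 ≤ q := by
    rw [← hq]
    exact Fintype.card_pos
  rw [h, hH', hN, hq]
  simp only [Cfsg.Agent.Helper18.cellCntG2, List.length_cons, List.length_nil, Finset.sum_range_succ,
    Finset.sum_range_zero, Cfsg.Agent.Helper18.lget]
  have h2 : 1 ≤ q ^ 2 := Nat.one_le_pow _ _ hq1
  have h6 : 1 ≤ q ^ 6 := Nat.one_le_pow _ _ hq1
  zify [hq1, h2, h6]
  ring

end Cfsg.Agent.S1059
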