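import Cfsg.Statements.S1110
import Cfsg.Agent.Lib.Helper59.F4SuzCard

set_option autoImplicit false
open Cfsg

namespace Cfsg.Agent.S1110

/-- `|H¹| = |G¹ ∩ H|`: `|H¹| = (2 ^ (2 * m + 1) - 1) ^ 2` for ²F₄(2^(2m+1)). -/
theorem result {K : Type*} [Field K] [Fintype K] {m : ℕ} (hK : Fintype.card K = 2 ^ (2 * m + 1)) :
    Nat.card ↥(Cfsg.Lie.chevF4.diagonalSubgroup K ⊓ Cfsg.Lie.twistedF4 K (2 ^ m)) = (2 ^ (2 * m + 1) - 1) ^ 2 := by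
  classical
  have : Fact (Nat.Prime 2) := ⟨by norm_num⟩
  have : CharP K 2 := charP_of_card_eq_prime_pow hK
  have FD := Cfsg.Agent.Helper15.Ree4.fieldData_of_card hK
  have hperf : ∀ x : K, ∃ y : K, y ^ 2 = x := fun x => ⟨(x ^ 2 ^ m) ^ 2 ^ m, FD.sq x⟩
  obtain ⟨α, hα⟩ := Cfsg.Agent.Helper6.ChevGraph.F4.exists_aut hperf
  obtain ⟨tbl, hT⟩ := Cfsg.Agent.Helper18.torusData_all Cfsg.Lie.chevF4 (by simp)
  rw [Cfsg.Agent.Helper59.F4Suz.card_H1 FD hT α hα, Nat.card_eq_fintype_card, Fintype.card_units, hK]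
  ring

end Cfsg.Agent.S1110
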