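import Cfsg.Statements.S1029
import Cfsg.Agent.Lib.Helper17.ChevTriGen

set_option autoImplicit false
open Cfsg

namespace Cfsg.Agent.S1029

open Cfsg.Agent.Helper17
open scoped commutatorElement

/-- The commutator of an element of depth `k + 1` with a unitriangular element has depth `k + 2`. -/
theorem dep_commutator {D : Cfsg.Lie.ChevalleyDatum} {F : Type*} [Field F] (k : ℕ)
    (x g : GL D.Idx F) (hx : Dep D (k + 1) ((x : Matrix D.Idx D.Idx F) - 1))
    (hg : Dep D 1 ((g : Matrix D.Idx D.Idx F) - 1)) :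
    Dep D (k + 2) (((⁅x, g⁆ : GL D.Idx F) : Matrix D.Idx D.Idx F) - 1) := by
  set A : Matrix D.Idx D.Idx F := (x : Matrix D.Idx D.Idx F) - 1 with hA
  set B : Matrix D.Idx D.Idx F := (g : Matrix D.Idx D.Idx F) - 1 with hB
  have hxi : Dep D 0 ((x⁻¹ : GL D.Idx F) : Matrix D.Idx D.Idx F) :=
    dep_zero_of_sub_one (dep_inv (by omega) x hx)
  have hgi : Dep D 0 ((g⁻¹ : GL D.Idx F) : Matrix D.Idx D.Idx F) :=
    dep_zero_of_sub_one (dep_inv le_rfl g hg)
  have hxv : (x : Matrix D.Idx D.Idx F) = 1 + A := by rw [hA]; abel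
  have hgv : (g : Matrix D.Idx D.Idx F) = 1 + B := by rw [hB]; abel
  have hx1 : (x : Matrix D.Idx D.Idx F) * ((x⁻¹ : GL D.Idx F) : Matrix D.Idx D.Idx F) = 1 := by
    rw [← Units.val_mul, mul_inv_cancel, Units.val_one]
  have hg1 : (g : Matrix D.Idx D.Idx F) * ((g⁻¹ : GL D.Idx F) : Matrix D.Idx D.Idx F) = 1 := by
    rw [← Units.val_mul, mul_inv_cancel, Units.val_one]
  have key : ((⁅x, g⁆ : GL D.Idx F) : Matrix D.Idx D.Idx F) - 1 =
      (A * B - B * A) * (((x⁻¹ : GL D.Idx F) : Matrix D.Idx D.Idx F) *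
        ((g⁻¹ : GL D.Idx F) : Matrix D.Idx D.Idx F)) := by
    have e1 : A * B - B * A = (x : Matrix D.Idx D.Idx F) * (g : Matrix D.Idx D.Idx F) -
        (g : Matrix D.Idx D.Idx F) * (x : Matrix D.Idx D.Idx F) := by
      rw [hxv, hgv]; noncomm_ring
    rw [e1, commutatorElement_def, Units.val_mul, Units.val_mul, Units.val_mul, sub_mul]
    have e2 : (g : Matrix D.Idx D.Idx F) * (x : Matrix D.Idx D.Idx F) *
        (((x⁻¹ : GL D.Idx F) : Matrix D.Idx D.Idx F) *
          ((g⁻¹ : GL D.Idx F) : Matrix D.Idx D.Idx F)) = 1 := by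
      rw [mul_assoc, ← mul_assoc (x : Matrix D.Idx D.Idx F), hx1, one_mul, hg1]
    rw [e2]
    simp only [mul_assoc]
  rw [key]
  have hAB : Dep D (k + 2) (A * B - B * A) := by
    apply dep_sub
    · have := dep_mul hx hg
      rwa [show k + 1 + 1 = k + 2 by omega] at this
    · have := dep_mul hg hx
      rwa [show 1 + (k + 1) = k + 2 by omega] at this
  have := dep_mul hAB (dep_mul hxi hgi)
  simpa using this

/-- `U` is a nilpotent group (the subgroups generated by root subgroups of height at least `m` form a central series). -/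
theorem result {F : Type*} [Field F] (D : Cfsg.Lie.ChevalleyDatum) (hD : D ∈ [Cfsg.Lie.chevG2, Cfsg.Lie.chevB2, Cfsg.Lie.chevD4, Cfsg.Lie.chevF4, Cfsg.Lie.chevE6, Cfsg.Lie.chevE7, Cfsg.Lie.chevE8]) : Group.IsNilpotent (D.posUnipotent F) := by
  have hOK := triOK_of_mem D hD
  have hU := posUnipotent_le_depSubgroup (F := F) hOK
  rw [Subgroup.nilpotent_iff_finite_descending_central_series]
  refine ⟨D.rank + D.nroots,
    fun k => (depSubgroup D F (k + 1) (by omega)).subgroupOf (D.posUnipotent F), ⟨?_, ?_⟩, ?_⟩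
  · rw [Subgroup.subgroupOf_eq_top]
    exact hU
  · intro x n hx g
    rw [Subgroup.mem_subgroupOf] at hx ⊢
    rw [mem_depSubgroup] at hx ⊢
    have hg : Dep D 1 (((g : GL D.Idx F) : Matrix D.Idx D.Idx F) - 1) := hU g.2
    have := dep_commutator n (x : GL D.Idx F) (g : GL D.Idx F) hx hg
    exact this
  · rw [Subgroup.eq_bot_iff_forall]
    intro x hx
    rw [Subgroup.mem_subgroupOf, mem_depSubgroup] at hx
    have h0 := eq_zero_of_dep (by omega) hx
    apply Subtype.ext
    apply Units.ext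
    rw [sub_eq_zero] at h0
    rw [h0]
    rfl

end Cfsg.Agent.S1029
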