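import Cfsg.Statements.S1051
import Cfsg.Agent.Lib.Helper18.ChevCore
import Cfsg.Agent.Lib.Helper18.TorusAll
import Cfsg.Agent.S1053
import Cfsg.Agent.S1038

set_option autoImplicit false
open Cfsg

namespace Cfsg.Agent.S1051

theorem neg_ne (D : Cfsg.Lie.ChevalleyDatum) (hD : D ∈ [Cfsg.Lie.chevG2, Cfsg.Lie.chevB2, Cfsg.Lie.chevD4, Cfsg.Lie.chevF4, Cfsg.Lie.chevE6, Cfsg.Lie.chevE7, Cfsg.Lie.chevE8]) :
    ∀ r < D.nroots, D.neg r < D.nroots ∧ D.neg r ≠ r := by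
  simp only [List.mem_cons, List.not_mem_nil, or_false] at hD
  rcases hD with rfl | rfl | rfl | rfl | rfl | rfl | rfl
  · decide +kernel
  · decide +kernel
  · decide +kernel
  · decide +kernel
  · decide +kernel
  · decide +kernel
  · decide +kernel

/-- `⋂_g g B g⁻¹ = 1`: the normal core of `B` in the Chevalley group is trivial. -/
theorem result {F : Type*} [Field F] (D : Cfsg.Lie.ChevalleyDatum) (hD : D ∈ [Cfsg.Lie.chevG2, Cfsg.Lie.chevB2, Cfsg.Lie.chevD4, Cfsg.Lie.chevF4, Cfsg.Lie.chevE6, Cfsg.Lie.chevE7, Cfsg.Lie.chevE8]) : ((D.borelSubgroup F).subgroupOf (D.group F)).normalCore = ⊥ := by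
  obtain ⟨tbl, hT⟩ := Cfsg.Agent.Helper18.torusData_all D hD
  exact Cfsg.Agent.Helper18.borel_core_trivial D hD hT (Cfsg.Agent.Helper17.triOK_of_mem D hD)
    (Cfsg.Agent.Helper18.negTriOK_of_mem D hD) (neg_ne D hD) (Cfsg.Agent.S1053.result D hD)
    (Cfsg.Agent.S1038.result D hD)

end Cfsg.Agent.S1051
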