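import Cfsg.Statements.S1229
import Mathlib
import Cfsg.Agent.Lib.Helper45.CIT

set_option autoImplicit false
open Cfsg

namespace Cfsg.Agent.S1229

open Cfsg.Agent.Helper45.SE Cfsg.Agent.Helper45.CIT

theorem exists_smul_pt0 {G : Type*} [Group G] (T : Sylow 2 G) (a : G ⧸ NT T) :
    ∃ k : G, k • pt0 T = a := by
  induction a using QuotientGroup.induction_on with
  | H g => exact ⟨g, smul_pt0 g⟩

theorem inv_smul_ne {G : Type*} [Group G] {X : Type*} [MulAction G X] (k : G) {a b : X}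
    (h : a ≠ b) : k⁻¹ • a ≠ k⁻¹ • b := fun h' => h (smul_left_cancel _ h')

/-- Let G be a finite group with a Sylow 2-subgroup T that is neither cyclic nor normal, such that the centralizer of every involution is an elementary abelian 2-group; put H = N_G(T) and X = G/H. Then G is triply transitive on X, an element fixing three distinct points of X is the identity, and T acts regularly on X minus the point H. -/
theorem result {G : Type*} [Group G] [Finite G] (T : Sylow 2 G) (hnc : ¬ IsCyclic (T : Subgroup G)) (hnn : ¬ (T : Subgroup G).Normal) (hC : ∀ t : G, orderOf t = 2 → IsMulCommutative (Subgroup.centralizer ({t} : Set G)) ∧ ∀ c ∈ Subgroup.centralizer ({t} : Set G), c ^ 2 = 1) : (∀ x₁ x₂ x₃ y₁ y₂ y₃ : G ⧸ Subgroup.normalizer ((T : Subgroup G) : Set G), x₁ ≠ x₂ → x₁ ≠ x₃ → x₂ ≠ x₃ → y₁ ≠ y₂ → y₁ ≠ y₃ → y₂ ≠ y₃ → ∃ g : G, g • x₁ = y₁ ∧ g • x₂ =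 y₂ ∧ g • x₃ = y₃) ∧ (∀ g : G, ∀ x₁ x₂ x₃ : G ⧸ Subgroup.normalizer ((T : Subgroup G) : Set G), x₁ ≠ x₂ → x₁ ≠ x₃ → x₂ ≠ x₃ → g • x₁ = x₁ → g • x₂ = x₂ → g • x₃ = x₃ → g = 1) ∧ (∀ x y : G ⧸ Subgroup.normalizer ((T : Subgroup G) : Set G), x ≠ QuotientGroup.mk 1 → y ≠ QuotientGroup.mk 1 → ∃! t : G, t ∈ T ∧ t • x = y) := by
  have h : Hyp T := ⟨hnc, hnn, hC⟩
  refine ⟨?_, ?_, ?_⟩
  · intro x₁ x₂ x₃ y₁ y₂ y₃ hx12 hx13 hx23 hy12 hy13 hy23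
    obtain ⟨k1, hk1⟩ := exists_smul_pt0 T x₁
    obtain ⟨k2, hk2⟩ := exists_smul_pt0 T y₁
    have e1 : pt0 T = k1⁻¹ • x₁ := by rw [← hk1, inv_smul_smul]
    have e2 : pt0 T = k2⁻¹ • y₁ := by rw [← hk2, inv_smul_smul]
    have hp2 : pt0 T ≠ k1⁻¹ • x₂ := by rw [e1]; exact inv_smul_ne k1 hx12
    have hp3 : pt0 T ≠ k1⁻¹ • x₃ := by rw [e1]; exact inv_smul_ne k1 hx13
    have hp : k1⁻¹ • x₂ ≠ k1⁻¹ • x₃ := inv_smul_ne k1 hx23
    have hr2 : pt0 T ≠ k2⁻¹ • y₂ := by rw [e2]; exact inv_smul_ne k2 hy12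
    have hr3 : pt0 T ≠ k2⁻¹ • y₃ := by rw [e2]; exact inv_smul_ne k2 hy13
    have hr : k2⁻¹ • y₂ ≠ k2⁻¹ • y₃ := inv_smul_ne k2 hy23
    obtain ⟨h0, hh0, h02, h03⟩ := h.NT_two_trans hp2 hp3 hp hr2 hr3 hr
    have h01 : h0 • pt0 T = pt0 T := mem_NT_iff.mp hh0
    refine ⟨k2 * h0 * k1⁻¹, ?_, ?_, ?_⟩
    · rw [mul_smul, mul_smul, ← e1, h01, hk2]
    · rw [mul_smul, mul_smul, h02, smul_inv_smul]
    · rw [mul_smul, mul_smul, h03, smul_inv_smul]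
  · intro g x₁ x₂ x₃ hx12 hx13 hx23 hg1 hg2 hg3
    obtain ⟨k1, hk1⟩ := exists_smul_pt0 T x₁
    have e1 : pt0 T = k1⁻¹ • x₁ := by rw [← hk1, inv_smul_smul]
    have hp2 : pt0 T ≠ k1⁻¹ • x₂ := by rw [e1]; exact inv_smul_ne k1 hx12
    have hp3 : pt0 T ≠ k1⁻¹ • x₃ := by rw [e1]; exact inv_smul_ne k1 hx13
    have hp : k1⁻¹ • x₃ ≠ k1⁻¹ • x₂ := inv_smul_ne k1 (Ne.symm hx23)
    have hfix : ∀ a : G ⧸ NT T, g • a = a → (k1⁻¹ * g * k1) • (k1⁻¹ • a) = k1⁻¹ • a := by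
      intro a ha
      rw [mul_smul, mul_smul, smul_inv_smul, ha]
    have hd : k1⁻¹ * g * k1 ∈ Dw T (k1⁻¹ • x₂) := by
      refine mem_Dw.mpr ⟨mem_NT_iff.mpr ?_, hfix x₂ hg2⟩
      rw [e1]; exact hfix x₁ hg1
    have := h.Dw_semireg hp2 hp3 hp hd (hfix x₃ hg3)
    have h2 : g = k1 * (k1⁻¹ * g * k1) * k1⁻¹ := by group
    rw [h2, this]; group
  · intro x y hx hy
    exact h.T_regular (Ne.symm hx) (Ne.symm hy)

end Cfsg.Agent.S1229
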