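import Mathlib
import Cfsg.Statements.S1140

set_option autoImplicit false
open Cfsg

namespace Cfsg.Agent.S1140

section
variable {F : Type*} [Field F]

theorem linIndep : LinearIndependent F (fun σ : F ≃+* F => ((σ : F →+* F) : F → F)) := by
  have h := linearIndependent_monoidHom F F
  have hinj : Function.Injective (fun σ : F ≃+* F => (((σ : F →+* F) : F →* F))) := by
    intro σ τ h
    ext x
    exact DFunLike.congr_fun h x
  exact h.comp _ hinj

variable [Fintype F] [CharP F 2]

theorem cards : ∃ n : ℕ, Nat.card (F ≃+* F) = n ∧ Nat.card F = 2 ^ n ∧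
    Nat.card (F →+ F) = 2 ^ (n * n) := by
  let _ : Algebra (ZMod 2) F := ZMod.algebra F 2
  refine ⟨Module.finrank (ZMod 2) F, ?_, ?_, ?_⟩
  · rw [← IsGalois.card_aut_eq_finrank (ZMod 2) F]
    apply Nat.card_congr
    refine ⟨fun σ => AlgEquiv.ofRingEquiv (f := σ) ?_, fun σ => σ.toRingEquiv, ?_, ?_⟩
    · intro x
      have : (σ : F →+* F).comp (algebraMap (ZMod 2) F) = algebraMap (ZMod 2) F :=
        Subsingleton.elim _ _
      exact DFunLike.congr_fun this x
    · intro σ; rfl
    · intro σ; rfl
  · rw [Module.natCard_eq_pow_finrank (K := ZMod 2) (V := F)]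
    simp
  · rw [Nat.card_congr (AddMonoidHom.toZModLinearMapEquiv 2 (M := F) (M₁ := F)).toEquiv,
      Module.natCard_eq_pow_finrank (K := ZMod 2), Module.finrank_linearMap]
    simp

/-- The combination map `c ↦ (x ↦ ∑ σ, c σ * σ x)`. -/
noncomputable def comb [Fintype (F ≃+* F)] : ((F ≃+* F) → F) →+ (F →+ F) where
  toFun c :=
    { toFun := fun x => ∑ σ : F ≃+* F, c σ * σ x
      map_zero' := by simp
      map_add' := by
        intro x y
        simp [mul_add, Finset.sum_add_distrib] }
  map_zero' := by
    ext x
    simp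
  map_add' := by
    intro c d
    ext x
    simp [add_mul, Finset.sum_add_distrib]

omit [Fintype F] [CharP F 2] in
theorem comb_apply [Fintype (F ≃+* F)] (c : (F ≃+* F) → F) (x : F) :
    comb c x = ∑ σ : F ≃+* F, c σ * σ x := rfl

theorem comb_bijective [Fintype (F ≃+* F)] : Function.Bijective (comb (F := F)) := by
  have hinj : Function.Injective (comb (F := F)) := by
    rw [injective_iff_map_eq_zero]
    intro c hc
    have hli := Fintype.linearIndependent_iff.mp (linIndep (F := F)) c (by
      ext x
      have := DFunLike.congr_fun hc x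
      rw [comb_apply] at this
      simpa using this)
    ext σ
    exact hli σ
  have : Finite (F →+ F) := Finite.of_injective (fun f : F →+ F => (f : F → F)) DFunLike.coe_injective
  apply hinj.bijective_of_nat_card_le
  obtain ⟨n, h1, h2, h3⟩ := cards (F := F)
  rw [h3, Nat.card_fun, h1, h2, ← pow_mul]

/-- In a finite field of characteristic 2, additive maps are combinations of automorphisms. -/
theorem exists_comb [Fintype (F ≃+* F)] (f : F →+ F) :
    ∃ c : (F ≃+* F) → F, ∀ x, f x = ∑ σ : F ≃+* F, c σ * σ x := by
  obtain ⟨c, hc⟩ := comb_bijective.2 f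
  exact ⟨c, fun x => by rw [← hc, comb_apply]⟩

end

/-- For a finite field `F` of characteristic 2, the automorphisms of `F`, viewed as additive maps `F → F`, are linearly independent over `F` (acting on values) every additive endomorphism of `F` is an `F`-linear combination of them, and every biadditive map `F → F → F` is an `F`-combination of the maps `(x, y) ↦ σ(x) τ(y)`. -/
theorem result {F : Type*} [Field F] [Fintype F] [CharP F 2] :
    LinearIndependent F (fun σ : F ≃+* F => ((σ : F →+* F) : F → F)) ∧
      (∀ f : F →+ F, ∃ (s : Finset (F ≃+* F)) (c : (F ≃+* F) → F), ∀ x : F, f x = ∑ σ ∈ s, c σ * σ x) ∧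
      ∀ B : F →+ F →+ F, ∃ (s : Finset ((F ≃+* F) × (F ≃+* F))) (c : (F ≃+* F) × (F ≃+* F) → F),
        ∀ x y : F, B x y = ∑ p ∈ s, c p * (p.1 x * p.2 y) := by
  classical
  have hfin : Finite (F ≃+* F) :=
    Finite.of_injective (fun σ : F ≃+* F => (σ : F → F)) DFunLike.coe_injective
  have : Fintype (F ≃+* F) := Fintype.ofFinite _
  refine ⟨linIndep, ?_, ?_⟩
  · intro f
    obtain ⟨c, hc⟩ := exists_comb f
    exact ⟨Finset.univ, c, hc⟩
  · intro B
    let e : ((F ≃+* F) → F) ≃+ (F →+ F) := AddEquiv.ofBijective comb comb_bijective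
    -- coefficient functions of `B x`
    let g : (F ≃+* F) → (F →+ F) := fun τ =>
      { toFun := fun x => e.symm (B x) τ
        map_zero' := by simp
        map_add' := by intro x y; simp }
    have hB : ∀ x y, B x y = ∑ τ : F ≃+* F, g τ x * τ y := by
      intro x y
      have h1 : e (e.symm (B x)) = B x := e.apply_symm_apply _
      have h2 := DFunLike.congr_fun h1 y
      rw [← h2]
      rfl
    choose d hd using fun τ => exists_comb (g τ)
    refine ⟨Finset.univ, fun p => d p.2 p.1, ?_⟩
    intro x y
    rw [hB, Fintype.sum_prod_type, Finset.sum_comm]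
    apply Finset.sum_congr rfl
    intro τ _
    rw [hd τ x, Finset.sum_mul]
    apply Finset.sum_congr rfl
    intro σ _
    ring

end Cfsg.Agent.S1140
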