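import Cfsg.Statements.S1123
import Cfsg.Agent.Lib.Helper19.RankOneInvol

set_option autoImplicit false
open Cfsg

namespace Cfsg.Agent.S1123

open Cfsg.Agent.Helper19 MulAction

/-- In the rank-one set-up (`G` finite and doubly transitive on `Ω`, `t` an involution moving `a`, `Q` normal in `G_a` with `G_a = Q D`, `Q ⊓ D = 1` for the two-point stabiliser `D = G_a ⊓ G_{t • a}`, `|Q|` even, `|D|` odd), there is a unique pair `(s, r)` with `s` an involution of `G_a`, `r ∈ Q` and `t s t = r⁻¹ t r`. -/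
theorem result {G Ω : Type*} [Group G] [Finite G] [MulAction G Ω] {a : Ω} {t : G} {Q : Subgroup G}
    (hS : Cfsg.IsRankOneSetup G Ω a t Q) :
    ∃! p : G × G, p.1 ∈ Cfsg.involutionsIn (MulAction.stabilizer G a : Set G) ∧ p.2 ∈ Q ∧
      t * p.1 * t = p.2⁻¹ * t * p.2 := by
  have ht2 := hS.mul_self
  have htinv : t⁻¹ = t := inv_eq_self_of_mul_self ht2
  obtain ⟨c₀, hc₀⟩ := invol_exists_fix hS ht2
  have hc₀a : c₀ ≠ a := by
    intro h
    rw [h] at hc₀
    exact ta_ne hS hc₀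
  obtain ⟨r₀, hr₀, hr₀b⟩ := exists_Q_smul hS (ta_ne hS) hc₀a
  have hr₀inv : r₀⁻¹ • c₀ = t • a := by rw [← hr₀b, inv_smul_smul]
  have hta : t • (t • a) = a := by rw [← mul_smul, ht2, one_smul]
  refine ⟨(t * r₀⁻¹ * t * r₀ * t, r₀), ⟨⟨?_, ?_, ?_⟩, hr₀, ?_⟩, ?_⟩
  · -- fixes a
    show t * r₀⁻¹ * t * r₀ * t ∈ stabilizer G a
    rw [mem_stabilizer_iff]
    simp only [mul_smul]
    rw [hr₀b, hc₀, hr₀inv, hta]
  · intro h
    replace h : t * r₀⁻¹ * t * r₀ * t = 1 := h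
    have h1 : t = (t * r₀⁻¹)⁻¹ * (t * r₀⁻¹ * t * r₀ * t) * (t * r₀⁻¹) := by
      rw [mul_inv_rev, inv_inv, htinv]
      have : r₀ * t * (t * r₀⁻¹ * t * r₀ * t) * (t * r₀⁻¹) =
          r₀ * (t * t) * r₀⁻¹ * t * r₀ * (t * t) * r₀⁻¹ := by group
      rw [this, ht2]; group
    rw [h] at h1
    apply hS.ne_one
    rw [h1]; group
  · show t * r₀⁻¹ * t * r₀ * t * (t * r₀⁻¹ * t * r₀ * t) = 1
    have : t * r₀⁻¹ * t * r₀ * t * (t * r₀⁻¹ * t * r₀ * t) =
        t * r₀⁻¹ * t * r₀ * (t * t) * r₀⁻¹ * t * r₀ * t := by group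
    rw [this, ht2]
    have : t * r₀⁻¹ * t * r₀ * 1 * r₀⁻¹ * t * r₀ * t = t * r₀⁻¹ * (t * t) * r₀ * t := by group
    rw [this, ht2]
    have : t * r₀⁻¹ * 1 * r₀ * t = t * t := by group
    rw [this, ht2]
  · show t * (t * r₀⁻¹ * t * r₀ * t) * t = r₀⁻¹ * t * r₀
    have : t * (t * r₀⁻¹ * t * r₀ * t) * t = (t * t) * r₀⁻¹ * t * r₀ * (t * t) := by group
    rw [this, ht2]; group
  · rintro ⟨s, r⟩ ⟨⟨hs, hs1, hs2⟩, hr, heq⟩
    simp only at hs hs1 hs2 hr heq
    have hsa : s • a = a := hs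
    -- LHS fixes `t • a`
    have h1 : (t * s * t) • (t • a) = t • a := by
      simp only [mul_smul]
      rw [hta, hsa]
    -- RHS fixes `r⁻¹ • c₀`
    have h2 : (r⁻¹ * t * r) • (r⁻¹ • c₀) = r⁻¹ • c₀ := by
      simp only [mul_smul]
      rw [smul_inv_smul, hc₀]
    have hne : r⁻¹ * t * r ≠ 1 := by
      intro h
      apply hS.ne_one
      have : t = r * (r⁻¹ * t * r) * r⁻¹ := by group
      rw [this, h]; group
    have hsq : (r⁻¹ * t * r) * (r⁻¹ * t * r) = 1 := by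
      have : (r⁻¹ * t * r) * (r⁻¹ * t * r) = r⁻¹ * (t * t) * r := by group
      rw [this, ht2]; group
    rw [heq] at h1
    have h3 : t • a = r⁻¹ • c₀ := invol_fix_unique hS hne hsq h1 h2
    have h4 : r = r₀ := by
      apply Q_smul_unique hS (ta_ne hS) hr hr₀
      rw [hr₀b, h3, smul_inv_smul]
    subst h4
    have h5 : s = t * r⁻¹ * t * r * t := by
      have : s = t * (t * s * t) * t := by
        have : t * (t * s * t) * t = (t * t) * s * (t * t) := by group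
        rw [this, ht2]; group
      rw [this, heq]; group
    rw [h5]

end Cfsg.Agent.S1123
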