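import Cfsg.Statements.S1378
import Cfsg.Agent.Lib.Helper21.BGSigma
import Cfsg.Agent.Lib.Helper21.BG139Setup
import Cfsg.Agent.Lib.Helper53.BG139b

set_option autoImplicit false
open Cfsg

namespace Cfsg.Agent.S1378

open Subgroup Cfsg.Agent.Helper21.BGSigma in
/-- Let G be a minimal simple group of odd order. Then every prime dividing the order of G belongs to σ(M) for some maximal subgroup M, and if σ(M) and σ(N) have a prime in common for maximal subgroups M, N then N is conjugate to M; so the sets σ(M_i) over representatives of the conjugacy classes of maximal subgroups partition the prime divisors of #G. -/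
theorem result {G : Type*} [Group G] [Finite G] (hG : Cfsg.IsMinSimpleOddOrder G) :
    (∀ p : ℕ, p.Prime → p ∣ Nat.card G → ∃ M : Subgroup G, IsCoatom M ∧ p ∈ Cfsg.sigma M) ∧
      ∀ M N : Subgroup G, IsCoatom M → IsCoatom N → (Cfsg.sigma M ∩ Cfsg.sigma N).Nonempty → ∃ g : G, N = M.map (MulAut.conj g).toMonoidHom := by
  haveI : IsSimpleGroup G := hG.2.1
  constructor
  · intro p hp hdvd
    haveI := Fact.mk hp
    obtain ⟨P⟩ : Nonempty (Sylow p G) := inferInstance
    obtain ⟨M, hM, hle⟩ := exists_coatom_normalizer_sylow_le hG.2.2.1 hdvd P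
    have hPM : (P : Subgroup G) ≤ M := le_normalizer.trans hle
    have hPbot : (P : Subgroup G) ≠ ⊥ := P.ne_bot_of_dvd_card hdvd
    refine ⟨M, hM, hp, ?_, P.subtype hPM, ?_⟩
    · have h1 : p ∣ Nat.card (P : Subgroup G) := by
        obtain ⟨n, hn⟩ := IsPGroup.iff_card.mp P.2
        rw [hn]
        rcases Nat.eq_zero_or_pos n with h0 | hpos
        · exfalso
          apply hPbot
          rw [h0, pow_zero] at hn
          exact Subgroup.card_eq_one.mp hn
        · exact dvd_pow_self p hpos.ne'
      exact h1.trans (Subgroup.card_dvd_of_le hPM)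
    · rw [Sylow.coe_subtype, map_subgroupOf_eq_of_le hPM]
      exact hle
  · rintro M N hM hN ⟨q, hqM, hqN⟩
    by_contra hcon
    push Not at hcon
    have hq : q.Prime := hqM.1
    haveI := Fact.mk hq
    -- the aligned bad pair (Lib/Helper21/BG139Setup) and its impossibility (Lib/Helper53/BG139b)
    obtain ⟨g, S, h⟩ := Cfsg.Agent.Helper21.BG139.exists_setup hG M N hM hN q hqM hqN hcon
    exact Cfsg.Agent.Helper53.BG139.false_of_setup hG h

end Cfsg.Agent.S1378
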