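import Cfsg.Statements.S1425
import Cfsg.Agent.S1350
import Cfsg.Agent.S1403
import Cfsg.Agent.S1414
import Cfsg.Agent.S1417
import Cfsg.Agent.S1420
import Cfsg.Agent.S1424
import Cfsg.Agent.Lib.Helper82.BG1215d

set_option autoImplicit false
open Cfsg

namespace Cfsg.Agent.S1425

/-- Let G be a minimal simple group of odd order, M a maximal subgroup and Y a nontrivial subgroup of G all of whose prime divisors lie in σ(M). Then gYg⁻¹ ≤ M_σ for some g ∈ G. -/
theorem result {G : Type*} [Group G] [Finite G] (hG : Cfsg.IsMinSimpleOddOrder G)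
    (M : Subgroup G) (hM : IsCoatom M) (Y : Subgroup G) (hY1 : Y ≠ ⊥) (hY : ∀ p : ℕ, p.Prime → p ∣ Nat.card Y → p ∈ Cfsg.sigma M) :
    ∃ g : G, Y.map (MulAut.conj g).toMonoidHom ≤ Cfsg.sigmaCore M := by
  have hU : Cfsg.Agent.Helper34.BG.UniqHyp G :=
    fun K hK h1 h2 => Cfsg.Agent.S1403.result hG K hK h1 h2
  have h1350 : Cfsg.Agent.Helper82.BG1215.H1350 G := fun L hL =>
    ⟨(Cfsg.Agent.S1350.result hG L hL).1, (Cfsg.Agent.S1350.result hG L hL).2.1⟩
  have h1414 : Cfsg.Agent.Helper82.BG1215.H1414 G := fun L hL =>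
    ⟨(Cfsg.Agent.S1414.result hG L hL).1, (Cfsg.Agent.S1414.result hG L hL).2.2.2.1⟩
  have h1417 : Cfsg.Agent.Helper82.BG1215.H1417 G := by
    intro L hL p _ hp A hA
    obtain ⟨h1, h2, h3, -, h5, -⟩ := Cfsg.Agent.S1417.result hG L hL p hp A hA
    exact ⟨h1, fun P hAP => ((h2 P).2 hAP).1, h3, h5⟩
  have h1420 : Cfsg.Agent.Helper82.BG1215.H1420 G := by
    intro L hL
    obtain ⟨E, hE⟩ := Cfsg.Agent.Helper55.BGB.exists_compl_sigmaCore (h1350 L hL).1
    exact (Cfsg.Agent.S1420.result hG L hL E hE).2.2.1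
  have h1424 : Cfsg.Agent.Helper82.BG1215.H1424 G := by
    intro L hL q _ hq X hXq hX1 hXM Ls hLs hne hNX S hXS
    exact Cfsg.Agent.S1424.result hG L hL q hq X hXq hX1 hXM Ls hLs hne hNX S hXS
  exact Cfsg.Agent.Helper82.BG1215.sigma_conj hG hU h1350 h1414 h1417 h1420 h1424 M hM Y hY1 hY

end Cfsg.Agent.S1425
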