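import Cfsg.Statements.S1426
import Cfsg.Agent.S1350
import Cfsg.Agent.S1403
import Cfsg.Agent.S1404
import Cfsg.Agent.S1420
import Cfsg.Agent.S1423
import Cfsg.Agent.S1459
import Cfsg.Agent.Lib.Helper89.BG12Tools2
import Cfsg.Agent.Lib.Helper55.BGHall
import Cfsg.Agent.Lib.Helper78.BG121

set_option autoImplicit false
open Cfsg

namespace Cfsg.Agent.S1426

open Subgroup Cfsg.Agent.Helper16 Cfsg.Agent.Helper79.BG10 Cfsg.Agent.Helper89.BG12
  Cfsg.Agent.Helper55.BGB in
open scoped commutatorElement in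
/-- Let G be a minimal simple group of odd order, M a maximal subgroup and E a complement to M_σ in M. Then M_σ ∩ C_G(E) ≤ (M_σ)', the commutator subgroup [M_σ, E] equals M_σ, and for every g outside M the intersection M_σ ∩ gMg⁻¹ is cyclic, has no prime divisor in β(M), and meets (M_σ)' trivially. -/
theorem result {G : Type*} [Group G] [Finite G] (hG : Cfsg.IsMinSimpleOddOrder G)
    (M : Subgroup G) (hM : IsCoatom M) (E : Subgroup G) (hE : Cfsg.IsComplIn E (Cfsg.sigmaCore M) M) :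
    Cfsg.sigmaCore M ⊓ Subgroup.centralizer (E : Set G) ≤ ⁅Cfsg.sigmaCore M, Cfsg.sigmaCore M⁆ ∧
      ⁅Cfsg.sigmaCore M, E⁆ = Cfsg.sigmaCore M ∧
      ∀ g : G, g ∉ M → IsCyclic ↥(Cfsg.sigmaCore M ⊓ M.map (MulAut.conj g).toMonoidHom) ∧
        (∀ p : ℕ, p.Prime → p ∣ Nat.card ↥(Cfsg.sigmaCore M ⊓ M.map (MulAut.conj g).toMonoidHom) → p ∉ Cfsg.beta M) ∧
        Cfsg.sigmaCore M ⊓ M.map (MulAut.conj g).toMonoidHom ⊓ ⁅Cfsg.sigmaCore M, Cfsg.sigmaCore M⁆ = ⊥ := by
  classical
  have hU : UniqHyp G := fun K hK h1 h2 => Cfsg.Agent.S1403.result hG K hK h1 h2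
  obtain ⟨hHall, -, -⟩ := S1350.result hG M hM
  have : Group.IsSolvable M := hG.2.2.2 M hM.1
  have hMsM : sigmaCore M ≤ M := sigmaCore_le M
  -- `M_σ ≤ M'`
  have hMsD : sigmaCore M ≤ ⁅M, M⁆ := by
    have h0 : sigmaCore M ≤ sigmaCore M ⊓ ⁅M, M⁆ := by
      apply le_of_forall_prime_pow_dvd _ _ inf_le_left
      intro u hu
      by_cases hud : u ∣ Nat.card (sigmaCore M)
      · have : Fact u.Prime := ⟨hu⟩
        have huσ : u ∈ sigma M := isPi_sigmaCore M u hu hud
        obtain ⟨P₀, -, hP₀⟩ :=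
          exists_isSylowIn_ge (p := u) (K := M) (X := ⊥) IsPGroup.of_bot bot_le
        have h1 : P₀ ≤ sigmaCore M :=
          le_sigmaCore_of_isPGroup hu hHall huσ hP₀.le hP₀.isPGroup
        have h2 : P₀ ≤ ⁅M, M⁆ := sylow_le_commutator hG hU hM huσ hP₀
        have h3 : Nat.card P₀ ∣ Nat.card (sigmaCore M ⊓ ⁅M, M⁆ : Subgroup G) :=
          Subgroup.card_dvd_of_le (le_inf h1 h2)
        rw [hP₀.card] at h3
        refine dvd_trans (pow_dvd_pow u ?_) h3
        exact (Nat.factorization_le_iff_dvd Nat.card_pos.ne' Nat.card_pos.ne').mpr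
          (Subgroup.card_dvd_of_le hMsM) u
      · rw [Nat.factorization_eq_zero_of_not_dvd hud, pow_zero]; exact one_dvd _
    exact h0.trans inf_le_right
  -- transfer to the group `↥M` and apply S1459
  set H : Subgroup M := piCore (sigma M) M with hH
  have hHmap : H.map M.subtype = sigmaCore M := rfl
  set K : Subgroup M := E.subgroupOf M with hK
  have hKmap : K.map M.subtype = E := Subgroup.map_subgroupOf_eq_of_le hE.1
  have hrel : (sigmaCore M).relIndex M = H.index := by
    show ((H.map M.subtype).subgroupOf M).index = H.index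
    rw [show (H.map M.subtype).subgroupOf M = H from
      Subgroup.comap_map_eq_self_of_injective (Subgroup.subtype_injective M) _]
  have hcardH : Nat.card H = Nat.card (sigmaCore M) :=
    (Subgroup.card_map_of_injective (Subgroup.subtype_injective M)).symm
  have hcardK : Nat.card K = Nat.card E :=
    Nat.card_congr (Subgroup.subgroupOfEquivOfLe hE.1).toEquiv
  have hcop : (Nat.card H).Coprime H.index := by
    apply Nat.coprime_of_dvd
    intro k hk hkH hkI
    rw [hcardH] at hkH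
    rw [← hrel] at hkI
    exact hHall.2.2 k hk (hHall.2.1 k hk hkH) hkI
  have hcompl : Subgroup.IsComplement' H K := by
    apply Subgroup.isComplement'_of_card_mul_and_disjoint
    · rw [hcardH, hcardK, Cfsg.Agent.Helper78.BG121.card_eq_of_isComplIn hE, mul_comm]
    · rw [disjoint_iff, eq_bot_iff]
      rintro x ⟨hxH, hxK⟩
      have h1 : (x : G) ∈ sigmaCore M := ⟨x, hxH, rfl⟩
      have h2 : (x : G) ∈ E := hxK
      have h3 : (x : G) ∈ E ⊓ sigmaCore M := ⟨h2, h1⟩
      rw [hE.2.2.1] at h3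
      exact Subtype.ext h3
  have hHcomm : H ≤ commutator M := by
    have hc : (commutator M).map M.subtype = ⁅M, M⁆ := by
      rw [commutator_def, Subgroup.map_commutator, ← MonoidHom.range_eq_map, Subgroup.range_subtype]
    rw [← Subgroup.map_le_map_iff_of_injective (Subgroup.subtype_injective M), hc]
    exact hMsD
  obtain ⟨h1, h2⟩ := (S1459.result (G := M)).1 H K inferInstance hcop hcompl hHcomm
  have part2 : ⁅sigmaCore M, E⁆ = sigmaCore M := by
    have := congrArg (Subgroup.map M.subtype) h1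
    rw [Subgroup.map_commutator, hKmap, hHmap] at this
    exact this.symm
  have part1 : sigmaCore M ⊓ centralizer (E : Set G) ≤ ⁅sigmaCore M, sigmaCore M⁆ := by
    intro x hx
    obtain ⟨hxMs, hxC⟩ := Subgroup.mem_inf.mp hx
    obtain ⟨y, hyH, rfl⟩ := hxMs
    have hy : y ∈ H ⊓ centralizer (K : Set M) := by
      refine Subgroup.mem_inf.mpr ⟨hyH, ?_⟩
      rw [Subgroup.mem_centralizer_iff]
      intro k hk
      apply Subtype.ext
      have hkE : (k : G) ∈ E := hk
      have := (Subgroup.mem_centralizer_iff.mp hxC) (k : G) hkE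
      simpa using this
    have hy2 := h2 hy
    have hmap : (⁅H, H⁆).map M.subtype = ⁅sigmaCore M, sigmaCore M⁆ := by
      rw [Subgroup.map_commutator, hHmap]
    rw [← hmap]; exact ⟨y, hy2, rfl⟩
  refine ⟨part1, part2, ?_⟩
  intro g hg
  set D : Subgroup G := sigmaCore M ⊓ M.map (MulAut.conj g).toMonoidHom with hD
  -- the key: no nontrivial `q`-subgroup of `D` has its centralizer in `M`
  have key : ∀ (q : ℕ) [Fact q.Prime] (X : Subgroup G), IsPGroup q X → X ≠ ⊥ → X ≤ D →
      q ∈ sigma M ∧ ¬ centralizer (X : Set G) ≤ M := by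
    intro q _ X hXq hX1 hXD
    have hXMs : X ≤ sigmaCore M := hXD.trans inf_le_left
    have hXM : X ≤ M := hXMs.trans hMsM
    have hqσ : q ∈ sigma M :=
      isPi_sigmaCore M q Fact.out
        ((dvd_card_of_isPGroup_ne_bot hXq hX1).trans (Subgroup.card_dvd_of_le hXMs))
    refine ⟨hqσ, fun hC => ?_⟩
    have h1 : cj g⁻¹ X ≤ M := by
      rw [cj_le_iff, inv_inv]; exact hXD.trans inf_le_right
    obtain ⟨m, hm, c, hc, hgmc⟩ := (S1404.result hG M hM q hqσ X hXq hX1 hXM).1 g⁻¹ h1
    have h2 : g⁻¹ ∈ M := hgmc ▸ mul_mem hm (hC hc)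
    exact hg (inv_inv g ▸ inv_mem h2)
  have p3b : ∀ p : ℕ, p.Prime → p ∣ Nat.card D → p ∉ beta M := by
    intro p hp hpD hβ
    have : Fact p.Prime := ⟨hp⟩
    obtain ⟨X, hXD, hXc⟩ := exists_le_card_eq_prime p D hpD
    obtain ⟨hXq, hX1⟩ := isPGroup_and_ne_bot_of_card_eq_prime hXc
    obtain ⟨hpσ, hnC⟩ := key p X hXq hX1 hXD
    have hXM : X ≤ M := hXD.trans (inf_le_left.trans hMsM)
    obtain ⟨P⟩ : Nonempty (Sylow p ↥(sigmaCore M)) := inferInstance
    exact hnC (S1423.result hG M hM p hpσ X hXM hXc P (Or.inl hβ)).1.1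
  have p3c : D ⊓ ⁅sigmaCore M, sigmaCore M⁆ = ⊥ := by
    by_contra hne
    have hcard : Nat.card (D ⊓ ⁅sigmaCore M, sigmaCore M⁆ : Subgroup G) ≠ 1 :=
      fun h => hne (Subgroup.eq_bot_of_card_eq _ h)
    obtain ⟨p, hp, hpd⟩ := Nat.exists_prime_and_dvd hcard
    have : Fact p.Prime := ⟨hp⟩
    obtain ⟨X, hXle, hXc⟩ := exists_le_card_eq_prime p _ hpd
    have hXD : X ≤ D := hXle.trans inf_le_left
    obtain ⟨hXq, hX1⟩ := isPGroup_and_ne_bot_of_card_eq_prime hXc
    obtain ⟨hpσ, hnC⟩ := key p X hXq hX1 hXD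
    have hXM : X ≤ M := hXD.trans (inf_le_left.trans hMsM)
    obtain ⟨P⟩ : Nonempty (Sylow p ↥(sigmaCore M)) := inferInstance
    exact hnC (S1423.result hG M hM p hpσ X hXM hXc P (Or.inr (hXle.trans inf_le_right))).1.1
  have p3a : IsCyclic D := by
    have hcomm : ∀ a b : D, a * b = b * a := by
      intro a b
      have haD : (a : G) ∈ D := a.2
      have hbD : (b : G) ∈ D := b.2
      have haMs : (a : G) ∈ sigmaCore M := (Subgroup.mem_inf.mp haD).1
      have hbMs : (b : G) ∈ sigmaCore M := (Subgroup.mem_inf.mp hbD).1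
      have h1 : ⁅(a : G), (b : G)⁆ ∈ D ⊓ ⁅sigmaCore M, sigmaCore M⁆ := by
        refine Subgroup.mem_inf.mpr ⟨?_, Subgroup.commutator_mem_commutator haMs hbMs⟩
        rw [commutatorElement_def]
        exact mul_mem (mul_mem (mul_mem haD hbD) (inv_mem haD)) (inv_mem hbD)
      rw [p3c, Subgroup.mem_bot, commutatorElement_eq_one_iff_mul_comm] at h1
      exact Subtype.ext h1
    have hodd : Odd (Nat.card D) :=
      Odd.of_dvd_nat hG.1 (Subgroup.card_subgroup_dvd_card D)
    apply Cfsg.Agent.Helper78.BG121.isCyclic_of_nilpotent_rank_one hodd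
      (Cfsg.Agent.Helper78.BG121.isNilpotent_of_comm hcomm)
    intro p hp hpD A hAc hAe
    by_contra hlt
    rw [not_le, pow_one] at hlt
    have : Fact p.Prime := ⟨hp⟩
    set A' : Subgroup G := A.map D.subtype with hA'
    have hA'c : Nat.card A' = Nat.card A :=
      Subgroup.card_map_of_injective (Subgroup.subtype_injective D)
    have hA'D : A' ≤ D := Subgroup.map_subtype_le A
    have hA'e : ∀ a ∈ A', a ^ p = 1 := by
      rintro _ ⟨a, ha, rfl⟩
      have := congrArg Subtype.val (hAe a ha)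
      simpa using this
    have hA'q : IsPGroup p A' := isPGroup_of_pow_eq_one A' hA'e
    have hA'1 : A' ≠ ⊥ := by
      intro h
      rw [h, Subgroup.card_bot] at hA'c
      have := hp.one_lt
      omega
    have hA'nc : ¬ IsCyclic A' :=
      not_isCyclic_of_exponent_of_lt hp.pos hA'e (by omega)
    obtain ⟨hpσ, hnC⟩ := key p A' hA'q hA'1 hA'D
    have hA'M : A' ≤ M := hA'D.trans (inf_le_left.trans hMsM)
    have hN := (S1420.result hG M hM E hE).2.2.1 p A' hpσ hA'q hA'M hA'nc
    exact hnC ((centralizer_le_normalizer _).trans hN)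
  exact ⟨p3a, p3b, p3c⟩

end Cfsg.Agent.S1426
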