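import Cfsg.Statements.S1419
-- import your own Cfsg.Agent.* helpers here

import Cfsg.Agent.S1408
import Cfsg.Agent.S1417
import Cfsg.Agent.S1418
import Cfsg.Agent.Lib.Helper29.BG12s
import Cfsg.Agent.Lib.Helper29.BG127b
import Cfsg.Agent.Lib.Helper29.BG127c
import Cfsg.Agent.Lib.Helper29.BG127d
import Cfsg.Agent.Lib.Helper29.BG127e
import Cfsg.Agent.Lib.Helper29.BG127f

set_option autoImplicit false
open Cfsg

namespace Cfsg.Agent.S1419

open Subgroup
open Cfsg.Agent.Helper79.BG10 (cj mem_cj conj_mem_cj cj_mono card_cj cj_eq_self_of_mem_normalizer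
  mem_normalizer_of_cj_eq cj_mul)
open Cfsg.Agent.Helper29.BG12 Cfsg.Agent.Helper29.BG127

/-- Let G be a minimal simple group of odd order whose Sylow p-subgroups are nonabelian, M a maximal subgroup with p ∈ τ₂(M), E a complement to M_σ in M and A ≤ E elementary abelian of order p ^ 2. Then τ₂(M) = {p}; A₀ = A ∩ C_G(M_σ) has order p and F(M) is generated by M_σ and A₀ (a direct product); and every subgroup X ≠ A₀ of E of order p satisfies M_σ ∩ C_G(X) = 1 and C_G(X) ⊄ M. -/
theorem result {G : Type*} [Group G] [Finite G] (hG : Cfsg.IsMinSimpleOddOrder G)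
    (M : Subgroup G) (hM : IsCoatom M) (E : Subgroup G) (hE : Cfsg.IsComplIn E (Cfsg.sigmaCore M) M) (p : ℕ) [Fact p.Prime] (hp : p ∈ Cfsg.tau2 M) (hS : ∀ S : Sylow p G, ¬ IsMulCommutative (S : Subgroup G))
    (A : Subgroup G) (hA : (A ≤ E ∧ Cfsg.IsElementaryAbelian p A ∧ Nat.card A = p ^ 2)) :
    Cfsg.tau2 M = {p} ∧
      (Nat.card ↥(A ⊓ Subgroup.centralizer (Cfsg.sigmaCore M : Set G)) = p ∧
        Cfsg.fittingOf M = Cfsg.sigmaCore M ⊔ (A ⊓ Subgroup.centralizer (Cfsg.sigmaCore M : Set G))) ∧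
      ∀ X : Subgroup G, X ≤ E → Nat.card X = p → X ≠ A ⊓ Subgroup.centralizer (Cfsg.sigmaCore M : Set G) →
        Cfsg.sigmaCore M ⊓ Subgroup.centralizer (X : Set G) = ⊥ ∧ ¬ Subgroup.centralizer (X : Set G) ≤ M := by
  classical
  have hpP : p.Prime := hp.1
  have hEM : E ≤ M := hE.1
  have hAM : A ≤ M := hA.1.trans hEM
  have hpσ : p ∉ sigma M := hp.2.1
  have h17 := Cfsg.Agent.S1417.result hG M hM p hp A ⟨hAM, hA.2.1, hA.2.2⟩
  have h18 := Cfsg.Agent.S1418.result hG M hM E hE p hp A hA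
  have hCAM : centralizer (A : Set G) ≤ M := h18.2.1.1.trans inf_le_left
  have hAc := elemAb_comm hA.2.1
  -- first clause
  have hτ : tau2 M = {p} := by
    ext q
    constructor
    · intro hq
      exact tau2_unique hG M hM E hE p hp hS A hA q hq
    · intro hq
      have : q = p := hq
      rw [this]; exact hp
  -- the `p`-element `x`
  obtain ⟨S', x, z, hAS, hxS, hxA, hxM, hSMc, hzA, hz1, hzc, P', hAP, hPS, hSMP⟩ :=
    exists_p_element M p hS A hAM hA.2.2 h17.2.1 hCAM
  set S : Subgroup G := (S' : Subgroup G) with hSdef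
  have hSp : IsPGroup p S := S'.isPGroup'
  have hzx : x * z * x⁻¹ = z := by rw [hzc x hxS]; group
  set K : Subgroup G := sigmaCore M with hKdef
  have hKM : K ≤ M := sigmaCore_le M
  have hKn : M ≤ normalizer (K : Set G) := le_normalizer_sigmaCore M
  have hKcop : (Nat.card K).Coprime p := coprime_card_sigmaCore hG hM hpP hpσ
  have hNAne : normalizer (A : Set G) ≠ ⊤ :=
    normalizer_ne_top_of_card hG (k := 2) two_ne_zero hA.2.2
  have hKne : K ≠ ⊥ := by
    intro hK
    apply h18.2.1.2.2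
    have hME : M ≤ E := by
      intro m hm
      obtain ⟨a, ha, b, hb, rfl⟩ := hE.2.2.2 m hm
      rw [hK, Subgroup.mem_bot] at hb
      rw [hb, mul_one]; exact ha
    have hMN : M ≤ normalizer (A : Set G) := hME.trans h18.1.1
    by_contra h
    have hlt : M < normalizer (A : Set G) := lt_of_le_of_ne hMN (fun he => h (he ▸ le_rfl))
    exact hNAne (hM.2 _ hlt)
  obtain ⟨X₀, Z₀, hX₀A, hX₀c, hKX₀, hZ₀A, hZ₀c, hZ₀x, hZ₀fix, hX₀Z₀, hZ₀good, hlines⟩ :=
    lines hG M hM p K hKn hKcop hKne A hAM hA.2.1 hA.2.2 hCAM h17.2.2.2.2.1 h18.2.2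
      S x z hSp hAS hxS hxA hxM hSMc hzA hz1 hzx
  -- `X₀ = A ∩ C_G(K)`
  have hX₀CK : X₀ ≤ centralizer (K : Set G) := Subgroup.le_centralizer_iff.mp hKX₀
  have hX₀eq : A ⊓ centralizer (K : Set G) = X₀ := by
    symm
    apply Subgroup.eq_of_le_of_card_ge (le_inf hX₀A hX₀CK)
    rw [hX₀c]
    have hne : A ⊓ centralizer (K : Set G) ≠ A := by
      intro h
      apply hKne
      have hAK : A ≤ centralizer (K : Set G) := by rw [← h]; exact inf_le_right
      have hKA : K ≤ centralizer (A : Set G) := Subgroup.le_centralizer_iff.mp hAK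
      rw [eq_bot_iff, ← h17.2.2.2.1]
      exact le_inf le_rfl hKA
    have hd : Nat.card ↥(A ⊓ centralizer (K : Set G)) ∣ p ^ 2 := by
      rw [← hA.2.2]; exact Subgroup.card_dvd_of_le inf_le_left
    obtain ⟨k, hk, hk'⟩ := (Nat.dvd_prime_pow hpP).mp hd
    interval_cases k
    · rw [hk', pow_zero]; exact hpP.one_lt.le
    · rw [hk', pow_one]
    · exfalso; apply hne
      exact Subgroup.eq_of_le_of_card_ge inf_le_left (by rw [hk', hA.2.2])
  rw [hX₀eq]
  -- `X₀` is normal in `M`
  have hbad_eq : ∀ Y : Subgroup G, Y ≤ A → Nat.card Y = p → K ≤ centralizer (Y : Set G) → Y = X₀ := by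
    intro Y hYA hYc hKY
    by_contra hne
    apply hKne
    rw [eq_bot_iff, ← (hlines Y hYA hYc hne).1]
    exact le_inf le_rfl hKY
  have hX₀n : M ≤ normalizer (X₀ : Set G) := by
    intro m hm
    obtain ⟨e, he, k, hk, rfl⟩ := hE.2.2.2 m hm
    apply mem_normalizer_of_cj_eq
    rw [cj_mul]
    have h1 : cj k X₀ = X₀ :=
      cj_eq_self_of_mem_normalizer (Subgroup.centralizer_le_normalizer _ (hKX₀ hk))
    rw [h1]
    apply hbad_eq
    · have := cj_mono e hX₀A
      rwa [cj_eq_self_of_mem_normalizer (h18.1.1 he)] at this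
    · rw [card_cj, hX₀c]
    · rw [Cfsg.Agent.Helper79.BG10.centralizer_cj]
      have := cj_mono e hKX₀
      rwa [cj_eq_self_of_mem_normalizer (hKn (hEM he))] at this
  -- normal `p`-subgroups of `M` lie in `X₀`
  have hp2 : p ≠ 2 := Cfsg.Agent.Helper34.BG.prime_ne_two hG A (by
    rw [hA.2.2]; exact dvd_pow_self p two_ne_zero)
  have hAmax := (Cfsg.Agent.S1408.result hG M hM p hpσ hp.2.2.1 hp.2.2.2).2 A hAM hA.2.1 hA.2.2
  obtain ⟨C, hC1, hC2⟩ := exists_power_subgroup hG p hp2 S' (hS S') A hAS hA.2.1 hA.2.2 hAmax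
    z hzA hz1 hzc
  obtain ⟨-, hP2⟩ := h17.2.1 P'
  obtain ⟨hPiff, -⟩ := hP2 hAP
  have hRX : ∀ R : Subgroup G, R ≤ M → M ≤ normalizer (R : Set G) → IsPGroup p R → R ≤ X₀ := by
    intro R hRM hRn hRp
    -- `R ≤ P`
    have hRP : R ≤ (P' : Subgroup M).map M.subtype := by
      haveI hnn : (R.subgroupOf M).Normal :=
        (Subgroup.normal_subgroupOf_iff_le_normalizer hRM).mpr hRn
      have hpp : IsPGroup p (R.subgroupOf M) := hRp.comap_subtype (K := M)
      have h1 : R.subgroupOf M ≤ (P' : Subgroup M) := hpp.le_sylow_of_normal P'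
      intro r hr
      exact ⟨⟨r, hRM hr⟩, h1 (by rw [Subgroup.mem_subgroupOf]; exact hr), rfl⟩
    -- `R` centralizes `K`
    obtain ⟨j, hj⟩ := IsPGroup.iff_card.mp hRp
    have hcop : (Nat.card R).Coprime (Nat.card K) := by
      rw [hj]; exact Nat.Coprime.pow_left j hKcop.symm
    have hRK := comm_of_normal_coprime hRM hKM hRn hKn hcop
    have hRCK : R ≤ centralizer (K : Set G) := by
      intro r hr
      rw [Subgroup.mem_centralizer_iff]
      intro k hk
      exact (hRK r hr k hk).symm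
    -- every element of `R` has order dividing `p`
    have hexp : ∀ d ∈ R, d ^ p = 1 := by
      intro d hd
      by_contra hdp
      obtain ⟨k, hk⟩ := (IsPGroup.iff_orderOf.mp hRp) ⟨d, hd⟩
      have hord : orderOf d = p ^ k := by rw [← hk]; exact (Subgroup.orderOf_mk d hd).symm
      have hk2 : 2 ≤ k := by
        by_contra hlt
        apply hdp
        have : k = 0 ∨ k = 1 := by omega
        rcases this with rfl | rfl
        · rw [pow_zero, orderOf_eq_one_iff] at hord
          rw [hord, one_pow]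
        · rw [pow_one] at hord
          rw [← hord]; exact pow_orderOf_eq_one d
      set e := d ^ (p ^ (k - 1)) with he
      have hep : e ^ p = 1 := by
        rw [he, ← pow_mul, ← pow_succ, Nat.sub_add_cancel (by omega), ← hord]
        exact pow_orderOf_eq_one d
      have he1 : e ≠ 1 := by
        rw [he]
        apply pow_ne_one_of_lt_orderOf (pow_pos hpP.pos _).ne'
        rw [hord]
        exact Nat.pow_lt_pow_right hpP.one_lt (by omega)
      have heR : e ∈ R := R.pow_mem hd _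
      have heA : e ∈ A := (hPiff e (hRP heR)).mp hep
      have heX₀ : e ∈ X₀ := by rw [← hX₀eq]; exact ⟨heA, hRCK heR⟩
      have hdS : d ∈ S := hPS (hRP hd)
      have hdCA : d ∈ centralizer (A : Set G) := hSMc d hdS (hRM hd)
      have heC : e ∈ C := by
        have h1 : e = (d ^ p) ^ (p ^ (k - 2)) := by
          rw [he, ← pow_mul, ← pow_succ']
          congr 2
          omega
        rw [h1]
        exact C.pow_mem (hC1 d hdS hdCA) _
      have hxe : x * e * x⁻¹ = e := by
        rw [hC2 e heC hep x hxS]; group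
      have heZ₀ : e ∈ Z₀ := hZ₀fix e heA hxe
      apply hX₀Z₀
      exact Subgroup.eq_of_le_of_card_ge (le_of_card_prime_of_mem hX₀c heX₀ he1 heZ₀)
        (by rw [hX₀c, hZ₀c])
    intro d hd
    rw [← hX₀eq]
    exact ⟨(hPiff d (hRP hd)).mp (hexp d hd), hRCK hd⟩
  refine ⟨hτ, ⟨hX₀c, ?_⟩, ?_⟩
  · exact le_antisymm (fitting_le hG M hM p hτ X₀ hRX)
      (le_fitting h17.1 (hX₀A.trans hAM) hX₀c hX₀n)
  · intro X hXE hXc hXne
    exact hlines X (h18.1.2 X hXE hXc) hXc hXne

end Cfsg.Agent.S1419
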