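import Cfsg.Statements.S1446
import Cfsg.Agent.Lib.Helper10.FrobCyclic

set_option autoImplicit false
open Cfsg

namespace Cfsg.Agent.S1446

/-- Let X be a finite group with subgroups K, R, M such that: K and R are nontrivial, K ∩ R = 1, R normalizes K, no non-identity element of R centralizes a non-identity element of K, K ⊔ R is solvable of odd order; M is nilpotent and nontrivial, normalized by K and by R, with order coprime to that of K ⊔ R, M ∩ C(K) = 1, and M ∩ C(x) = M ∩ C(R) for all non-identity x ∈ R. Then R has prime order p, #M = #(M ∩ C(R)) ^ p, and if M ∩ C(R) is cyclic then [K, K] centralizes M. -/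
theorem result {X : Type*} [Group X] [Finite X] (K R M : Subgroup X) (hK1 : K ≠ ⊥) (hR1 : R ≠ ⊥) (hKR : K ⊓ R = ⊥)
    (hRK : R ≤ Subgroup.normalizer (K : Set X)) (hfrob : ∀ r ∈ R, r ≠ 1 → K ⊓ Subgroup.centralizer ({r} : Set X) = ⊥)
    (hsolv : Group.IsSolvable ↥(K ⊔ R)) (hodd : Odd (Nat.card ↥(K ⊔ R)))
    (hM1 : M ≠ ⊥) (hMn : Group.IsNilpotent M) (hKM : K ≤ Subgroup.normalizer (M : Set X)) (hRM : R ≤ Subgroup.normalizer (M : Set X))
    (hcop : (Nat.card ↥(K ⊔ R)).Coprime (Nat.card M)) (hCK : M ⊓ Subgroup.centralizer (K : Set X) = ⊥)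
    (hpr : ∀ x ∈ R, x ≠ 1 → M ⊓ Subgroup.centralizer ({x} : Set X) = M ⊓ Subgroup.centralizer (R : Set X)) :
    (Nat.card R).Prime ∧ Nat.card M = Nat.card ↥(M ⊓ Subgroup.centralizer (R : Set X)) ^ Nat.card R ∧
      (IsCyclic ↥(M ⊓ Subgroup.centralizer (R : Set X)) → ⁅K, K⁆ ≤ Subgroup.centralizer (M : Set X)) := by
  have hUn : ∀ e ∈ R, ∀ u ∈ K, e * u * e⁻¹ ∈ K := fun e he u hu =>
    ((Subgroup.mem_normalizer_iff.mp (hRK he)) u).mp hu
  have fpf : ∀ e ∈ R, e ≠ 1 → ∀ u ∈ K, e * u * e⁻¹ = u → u = 1 := by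
    intro e he he1 u hu h
    have h1 : u ∈ K ⊓ Subgroup.centralizer ({e} : Set X) := by
      refine Subgroup.mem_inf.mpr ⟨hu, ?_⟩
      rw [Subgroup.mem_centralizer_iff]
      intro x hx
      rw [Set.mem_singleton_iff] at hx
      subst hx
      exact (mul_inv_eq_iff_eq_mul.mp h)
    rw [hfrob e he he1, Subgroup.mem_bot] at h1
    exact h1
  have hKnil := Cfsg.Agent.Helper10.FrobRep.nilpotent_of_fpf K R hR1 hUn fpf
  have hHn : K ⊔ R ≤ Subgroup.normalizer (M : Set X) := sup_le hKM hRM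
  have hMsolv : Group.IsSolvable M := by
    haveI := hMn
    infer_instance
  have formula : ∀ R₁ : Subgroup X, R₁ ≤ R →
      Nat.card M = Nat.card ↥(M ⊓ Subgroup.centralizer (R₁ : Set X)) ^ Nat.card R₁ := by
    intro R₁ hR₁
    have hle : K ⊔ R₁ ≤ K ⊔ R := sup_le_sup_left hR₁ K
    have hcop₁ : (Nat.card M).Coprime (Nat.card ↥(K ⊔ R₁)) :=
      hcop.symm.coprime_dvd_right (Subgroup.card_dvd_of_le hle)
    have key := Cfsg.Agent.Helper10.FrobRep.wielandt_formula K R₁ M
      (fun e he u hu => hUn e (hR₁ he) u hu) hKnil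
      (fun e he he1 u hu h => fpf e (hR₁ he) he1 u hu h) (hle.trans hHn) hMsolv hcop₁
    have h1 : M ⊓ Subgroup.centralizer ((K ⊔ R₁ : Subgroup X) : Set X) = ⊥ := by
      rw [eq_bot_iff, ← hCK]
      exact inf_le_inf_left M (Subgroup.centralizer_le
        (SetLike.coe_subset_coe.mpr (le_sup_left : K ≤ K ⊔ R₁)))
    rw [h1, hCK, Subgroup.card_bot, one_pow, one_mul, mul_one] at key
    exact key
  have hMcard : 1 < Nat.card M := by
    rw [Subgroup.one_lt_card_iff_ne_bot]; exact hM1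
  have hc : 2 ≤ Nat.card ↥(M ⊓ Subgroup.centralizer (R : Set X)) := by
    by_contra hlt
    have hpos : 0 < Nat.card ↥(M ⊓ Subgroup.centralizer (R : Set X)) := Nat.card_pos
    have h1 : Nat.card ↥(M ⊓ Subgroup.centralizer (R : Set X)) = 1 := by omega
    have h2 := formula R le_rfl
    rw [h1, one_pow] at h2
    omega
  have hRcard : 1 < Nat.card R := by
    rw [Subgroup.one_lt_card_iff_ne_bot]; exact hR1
  obtain ⟨p, hp, hpd⟩ := Nat.exists_prime_and_dvd (Nat.ne_of_gt hRcard)
  haveI : Fact p.Prime := ⟨hp⟩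
  obtain ⟨r, hr⟩ := exists_prime_orderOf_dvd_card' p hpd
  have hr1 : (r : X) ≠ 1 := by
    intro h
    have : r = 1 := Subtype.ext h
    rw [this, orderOf_one] at hr
    exact hp.one_lt.ne hr
  have hR₁ : Subgroup.zpowers (r : X) ≤ R := by
    rw [Subgroup.zpowers_le]; exact r.2
  have hcardR₁ : Nat.card (Subgroup.zpowers (r : X)) = p := by
    rw [Nat.card_zpowers, Subgroup.orderOf_coe, hr]
  have hCR₁ : M ⊓ Subgroup.centralizer ((Subgroup.zpowers (r : X) : Subgroup X) : Set X) =
      M ⊓ Subgroup.centralizer (R : Set X) := by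
    apply le_antisymm
    · rw [← hpr r r.2 hr1]
      apply inf_le_inf_left
      exact Subgroup.centralizer_le (by
        intro x hx
        rw [Set.mem_singleton_iff] at hx
        subst hx
        exact Subgroup.mem_zpowers _)
    · exact inf_le_inf_left M (Subgroup.centralizer_le (SetLike.coe_subset_coe.mpr hR₁))
  have hprime : (Nat.card R).Prime := by
    have f1 := formula (Subgroup.zpowers (r : X)) hR₁
    have f2 := formula R le_rfl
    rw [hCR₁, hcardR₁] at f1
    rw [f1] at f2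
    have := Nat.pow_right_injective hc f2
    rw [← this]
    exact hp
  exact ⟨hprime, formula R le_rfl, fun hcyc =>
    Cfsg.Agent.Helper10.FrobRep.commutator_le_centralizer_of_cyclic K R M hUn hKnil fpf hHn
      hMsolv hcop.symm hcyc⟩

end Cfsg.Agent.S1446
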