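import Cfsg.Statements.S1430
import Mathlib
import Cfsg.Agent.Lib.Helper45.BG142f
import Cfsg.Agent.S1415
import Cfsg.Agent.S1427
import Cfsg.Agent.S1428
import Cfsg.Agent.Lib.Helper47.BG142L
import Cfsg.Agent.Lib.Helper79.BG142Q5
import Cfsg.Agent.Lib.Helper71.BG142Q6
import Cfsg.Agent.Lib.Helper79.BG142Q7
import Cfsg.Agent.Lib.Helper60.BG142Q9
import Cfsg.Agent.Lib.Helper60.BG142Q11

set_option autoImplicit false
open Cfsg

namespace Cfsg.Agent.S1430

/-- Let G be a minimal simple group of odd order, M a maximal subgroup, K ≠ 1 a Hall κ(M)-subgroup of M and K* = M_σ ∩ C_G(K). Then M_σ ∩ C_G(k) = K* for every non-identity k ∈ K; there is an abelian subgroup U of M, a Hall subgroup of M for the primes outside κ(M) ∪ σ(M), normalized by K with U ∩ C_G(k) = 1 for all non-identity k ∈ K; and for every subgroup X ≤ K of prime order, M ∩ N_G(X) = M ∩ N_G(K) = K ⊔ K*, and X ≤ M*_σ for every maximal subgroup M* containing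 N_G(X). -/
theorem result {G : Type*} [Group G] [Finite G] (hG : Cfsg.IsMinSimpleOddOrder G)
    (M : Subgroup G) (hM : IsCoatom M) (K : Subgroup G) (hK : Cfsg.IsPiHallOf (Cfsg.kappa M) K M) (hK1 : K ≠ ⊥) :
    (∀ k ∈ K, k ≠ 1 → Cfsg.sigmaCore M ⊓ Subgroup.centralizer ({k} : Set G) = (Cfsg.sigmaCore M ⊓ Subgroup.centralizer (K : Set G))) ∧
      (∃ U : Subgroup G, IsMulCommutative U ∧ Cfsg.IsPiHallOf {q | q.Prime ∧ q ∉ Cfsg.kappa M ∧ q ∉ Cfsg.sigma M} U M ∧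
        K ≤ Subgroup.normalizer (U : Set G) ∧ ∀ k ∈ K, k ≠ 1 → U ⊓ Subgroup.centralizer ({k} : Set G) = ⊥) ∧
      ∀ X : Subgroup G, X ≤ K → (Nat.card X).Prime →
        M ⊓ Subgroup.normalizer (X : Set G) = K ⊔ (Cfsg.sigmaCore M ⊓ Subgroup.centralizer (K : Set G)) ∧ M ⊓ Subgroup.normalizer (K : Set G) = K ⊔ (Cfsg.sigmaCore M ⊓ Subgroup.centralizer (K : Set G)) ∧
        ∀ Mstar : Subgroup G, IsCoatom Mstar → Subgroup.normalizer (X : Set G) ≤ Mstar → X ≤ Cfsg.sigmaCore Mstar := by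
  have h28 : Cfsg.Agent.Helper45.BG142.T1428 G := fun M hM E hE p hp P hPE hP R hRE hR =>
    Cfsg.Agent.S1428.result hG M hM E hE p hp P hPE hP R hRE hR
  have h1 : Cfsg.Agent.Helper45.BG142.L1 G :=
    Cfsg.Agent.Helper45.BG142.l1_of_q5 (fun M hM E hE s hs Y hYE hY hC =>
      Cfsg.Agent.Helper79.BG142Req.tau2_eq_empty_of_tau3_fixed hG M hM E hE s hs Y hYE hY hC)
  have h2 : Cfsg.Agent.Helper45.BG142.L2 G := fun M E E₁ hM hE hE₁ =>
    Cfsg.Agent.Helper47.BG142.L2 (Cfsg.Agent.S1415.result hG) (Cfsg.Agent.S1427.result hG)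
      (Cfsg.Agent.S1428.result hG) hM hE hE₁
  have h5 : Cfsg.Agent.Helper45.BG142.L5 G :=
    Cfsg.Agent.Helper45.BG142.l5_of_q6 (fun M hM E hE p hp X hXE hX hC r hr R hRE hR =>
      Cfsg.Agent.Helper71.BG142Req.false_of_tau2_centralizes hG M hM E hE p hp X hXE hX hC r hr R
        hRE hR)
  have h6 : Cfsg.Agent.Helper45.BG142.L6 G := fun M hM p hp hpσ hr X hXM hX hC H hH hNH =>
    Cfsg.Agent.Helper79.BG142Req.le_sigmaCore_of_normalizer_le hG M hM p hp hpσ hr X hXM hX hC H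
      hH hNH
  have h8 : Cfsg.Agent.Helper45.BG142.L8 G := fun M E hM hE h2' s hs Y hYE hY hC =>
    Cfsg.Agent.Helper60.BG142Req.semiprime_of_tau3_fixed hG M hM E hE h2' s hs Y hYE hY hC
  have h9 : Cfsg.Agent.Helper45.BG142.L9 G := fun M E hM hE h2' hsemi hK0 X hXE hX =>
    Cfsg.Agent.Helper60.BG142Req.le_normalizer_of_semiprime hG M hM E hE h2' hsemi hK0 X hXE hX
  exact Cfsg.Agent.Helper45.BG142.s1430_of hG h28 h1 h2 h5 h6 h8 h9 M hM K hK hK1

end Cfsg.Agent.S1430
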