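import Cfsg.Statements.S1429
import Cfsg.Agent.S0636
import Cfsg.Agent.S1405
import Cfsg.Agent.S1417
import Cfsg.Agent.Lib.Helper55.BGHall
import Cfsg.Agent.Lib.Helper20.BG13A

set_option autoImplicit false
open Cfsg

namespace Cfsg.Agent.S1429

/-- Let G be a minimal simple group of odd order and M a maximal subgroup such that κ(M) is not the whole of the primes of M outside σ(M) (M is not of type P₁). Let p divide the order of M with p ∉ σ(M) ∪ κ(M), S a Sylow p-subgroup of M, and A the subgroup generated by the elements of S of order dividing p. Then A has order at most p ^ 2, M_σ ∩ C_G(A) = 1, and M_σ is nilpotent. -/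
theorem result {G : Type*} [Group G] [Finite G] (hG : Cfsg.IsMinSimpleOddOrder G)
    (M : Subgroup G) (hM : IsCoatom M) (hP1 : ¬ (∀ q : ℕ, q.Prime → q ∣ Nat.card M → q ∉ Cfsg.sigma M → q ∈ Cfsg.kappa M))
    (p : ℕ) [Fact p.Prime] (hpM : p ∣ Nat.card M) (hp : p ∉ Cfsg.sigma M ∪ Cfsg.kappa M) (S : Sylow p M) :
    Nat.card ↥(Subgroup.closure {x : G | x ∈ (S : Subgroup M).map M.subtype ∧ x ^ p = 1}) ≤ p ^ 2 ∧
      Cfsg.sigmaCore M ⊓ Subgroup.centralizer ((Subgroup.closure {x : G | x ∈ (S : Subgroup M).map M.subtype ∧ x ^ p = 1} : Subgroup G) : Set G) = ⊥ ∧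
      Group.IsNilpotent (Cfsg.sigmaCore M) := by
  classical
  have hpp : p.Prime := Fact.out
  have hσ : p ∉ Cfsg.sigma M := fun h => hp (Or.inl h)
  have hκ : p ∉ Cfsg.kappa M := fun h => hp (Or.inr h)
  have hp2 : p ≠ 2 := by
    rintro rfl
    have h2 : 2 ∣ Nat.card G := hpM.trans (Subgroup.card_subgroup_dvd_card M)
    exact (Nat.not_even_iff_odd.mpr hG.1) (even_iff_two_dvd.mpr h2)
  have hMle : M ≤ Subgroup.normalizer ((Cfsg.sigmaCore M : Subgroup G) : Set G) :=
    Cfsg.Agent.Helper55.BGB.le_normalizer_sigmaCore M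
  by_cases hcyc : IsCyclic (S : Subgroup M)
  · -- cyclic Sylow subgroup: free action
    have hfree := Cfsg.Agent.Helper20.BG13.free_of_cyclic M p hpM hσ hκ S hcyc
    -- an element of order p in S
    have hpS : p ∣ Nat.card (S : Subgroup M) := by
      rw [Sylow.card_eq_multiplicity]
      have h1 : 1 ≤ (Nat.card M).factorization p :=
        (hpp.dvd_iff_one_le_factorization Nat.card_pos.ne').mp hpM
      exact dvd_pow_self p (by omega)
    obtain ⟨x0, hx0⟩ := exists_prime_orderOf_dvd_card' (G := (S : Subgroup M)) p hpS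
    have hx0ne : (x0 : M) ≠ 1 := by
      intro h
      have : x0 = 1 := Subtype.ext h
      rw [this, orderOf_one] at hx0
      exact hpp.one_lt.ne hx0
    have hx0p : ((x0 : M) : G) ^ p = 1 := by
      have h1 : x0 ^ p = 1 := by
        have := pow_orderOf_eq_one x0
        rwa [hx0] at this
      have h2 : (x0 : M) ^ p = 1 := by
        have := congrArg Subtype.val h1
        simpa using this
      have h3 := congrArg Subtype.val h2
      simpa using h3
    have hx0A : ((x0 : M) : G) ∈ Subgroup.closure {x : G | x ∈ (S : Subgroup M).map M.subtype ∧ x ^ p = 1} :=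
      Subgroup.subset_closure ⟨⟨(x0 : M), x0.2, rfl⟩, hx0p⟩
    -- the image of S is cyclic and A sits inside it with exponent p
    haveI : IsCyclic ↥(S : Subgroup M) := hcyc
    haveI hSGc : IsCyclic ↥((S : Subgroup M).map M.subtype) :=
      isCyclic_of_surjective ((M.subtype).subgroupMap (S : Subgroup M))
        ((M.subtype).subgroupMap_surjective (S : Subgroup M))
    have hcomm : ∀ a ∈ (S : Subgroup M).map M.subtype, ∀ b ∈ (S : Subgroup M).map M.subtype, a * b = b * a := by
      intro a ha b hb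
      have := (IsCyclic.commGroup (α := ↥((S : Subgroup M).map M.subtype))).mul_comm ⟨a, ha⟩ ⟨b, hb⟩
      exact congrArg Subtype.val this
    have hAprop : ∀ a ∈ Subgroup.closure {x : G | x ∈ (S : Subgroup M).map M.subtype ∧ x ^ p = 1},
        a ∈ (S : Subgroup M).map M.subtype ∧ a ^ p = 1 := by
      intro a ha
      induction ha using Subgroup.closure_induction with
      | mem x hx => exact hx
      | one => exact ⟨Subgroup.one_mem _, one_pow _⟩
      | mul x y _ _ hx hy =>
        refine ⟨Subgroup.mul_mem _ hx.1 hy.1, ?_⟩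
        have hc : Commute x y := hcomm x hx.1 y hy.1
        rw [hc.mul_pow, hx.2, hy.2, one_mul]
      | inv x _ hx =>
        exact ⟨Subgroup.inv_mem _ hx.1, by rw [inv_pow, hx.2, inv_one]⟩
    have hAle : Subgroup.closure {x : G | x ∈ (S : Subgroup M).map M.subtype ∧ x ^ p = 1}
        ≤ (S : Subgroup M).map M.subtype := fun a ha => (hAprop a ha).1
    haveI hAc : IsCyclic ↥(Subgroup.closure {x : G | x ∈ (S : Subgroup M).map M.subtype ∧ x ^ p = 1}) :=
      isCyclic_of_injective (Subgroup.inclusion hAle) (Subgroup.inclusion_injective hAle)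
    refine ⟨?_, ?_, ?_⟩
    · -- card ≤ p ≤ p^2
      letI : Fintype ↥(Subgroup.closure {x : G | x ∈ (S : Subgroup M).map M.subtype ∧ x ^ p = 1}) :=
        Fintype.ofFinite _
      have h1 := IsCyclic.card_pow_eq_one_le
        (α := ↥(Subgroup.closure {x : G | x ∈ (S : Subgroup M).map M.subtype ∧ x ^ p = 1})) hpp.pos
      have h2 : (Finset.univ.filter (fun a : ↥(Subgroup.closure {x : G | x ∈ (S : Subgroup M).map M.subtype ∧ x ^ p = 1}) => a ^ p = 1)) = Finset.univ := by
        apply Finset.filter_true_of_mem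
        intro a _
        apply Subtype.ext
        rw [Subgroup.coe_pow]
        exact (hAprop a a.2).2
      rw [h2, Finset.card_univ, ← Nat.card_eq_fintype_card] at h1
      calc _ ≤ p := h1
        _ ≤ p ^ 2 := by nlinarith [hpp.one_lt]
    · -- centralizer
      rw [Subgroup.eq_bot_iff_forall]
      intro y hy
      by_contra hy1
      have hyσ : y ∈ Cfsg.sigmaCore M := hy.1
      have hyc : y ∈ Subgroup.centralizer ((Subgroup.closure {x : G | x ∈ (S : Subgroup M).map M.subtype ∧ x ^ p = 1} : Subgroup G) : Set G) := hy.2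
      have h := hyc ((x0 : M) : G) hx0A
      exact hfree (x0 : M) x0.2 hx0ne y hyσ hy1 h
    · -- nilpotent by Thompson
      apply Cfsg.Agent.Helper20.BG13.nilpotent_of_free (Cfsg.sigmaCore M) ((x0 : M) : G)
        (hMle (x0 : M).2) p hpp hx0p
      intro y hy hy1
      exact hfree (x0 : M) x0.2 hx0ne y hy hy1
  · -- noncyclic Sylow subgroup: p ∈ τ₂(M)
    have hSp : IsPGroup p ↥(S : Subgroup M) := S.isPGroup'
    have htop : ¬ IsCyclic ↥(⊤ : Subgroup ↥(S : Subgroup M)) := by
      intro h
      apply hcyc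
      haveI := h
      exact isCyclic_of_surjective (Subgroup.topEquiv (G := ↥(S : Subgroup M))).toMonoidHom
        (Subgroup.topEquiv (G := ↥(S : Subgroup M))).surjective
    obtain ⟨M0, -, -, hM0c, hM0e, hM0card⟩ :=
      Cfsg.Agent.S0636.main (R := ↥(S : Subgroup M)) hp2 hSp (⊤ : Subgroup ↥(S : Subgroup M)) htop
    -- push M0 to M and to G
    set AM : Subgroup M := M0.map (S : Subgroup M).subtype with hAM
    set AG : Subgroup G := AM.map M.subtype with hAG
    have hAMcard : Nat.card AM = p ^ 2 := by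
      rw [hAM, Subgroup.card_map_of_injective (Subgroup.subtype_injective _), hM0card]
    have hAGcard : Nat.card AG = p ^ 2 := by
      rw [hAG, Subgroup.card_map_of_injective (Subgroup.subtype_injective _), hAMcard]
    have hAMle : AM ≤ (S : Subgroup M) := by
      rintro _ ⟨a, -, rfl⟩
      exact a.2
    have hAGle : AG ≤ (S : Subgroup M).map M.subtype := Subgroup.map_mono hAMle
    have hAGM : AG ≤ M := by
      rintro _ ⟨a, -, rfl⟩
      exact a.2
    have hAMcomm : ∀ a ∈ AM, ∀ b ∈ AM, a * b = b * a := by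
      rintro _ ⟨a, ha, rfl⟩ _ ⟨b, hb, rfl⟩
      rw [← map_mul, ← map_mul, hM0c a ha b hb]
    have hAMexp : ∀ a ∈ AM, a ^ p = 1 := by
      rintro _ ⟨a, ha, rfl⟩
      rw [← map_pow, hM0e a ha, map_one]
    have hAGel : Cfsg.IsElementaryAbelian p AG := by
      constructor
      · refine ⟨⟨?_⟩⟩
        rintro ⟨_, ⟨a, ha, rfl⟩⟩ ⟨_, ⟨b, hb, rfl⟩⟩
        apply Subtype.ext
        simp only [Subgroup.coe_mul]
        rw [← map_mul, ← map_mul, hAMcomm a ha b hb]
      · rintro _ ⟨a, ha, rfl⟩
        rw [← map_pow, hAMexp a ha, map_one]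
    -- p ∈ τ₂(M)
    have h1405 := Cfsg.Agent.S1405.result hG M hM
    have hr2 : Cfsg.PRankLE p 2 M :=
      Cfsg.Agent.Helper55.BGB.prankLE_two_of_not_mem_sigma hpp h1405.1 h1405.2.2.1 hσ
    have hr1 : ¬ Cfsg.PRankLE p 1 M := by
      intro h
      have hAMc : IsMulCommutative AM := ⟨⟨fun a b => Subtype.ext (hAMcomm a a.2 b b.2)⟩⟩
      have := h AM hAMc hAMexp
      rw [hAMcard, pow_one] at this
      nlinarith [hpp.one_lt]
    have hτ : p ∈ Cfsg.tau2 M := ⟨hpp, hσ, hr2, hr1⟩
    obtain ⟨hnil, hSyl, -, hcent, -, -⟩ :=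
      Cfsg.Agent.S1417.result hG M hM p hτ AG ⟨hAGM, hAGel, hAGcard⟩
    obtain ⟨-, hS2⟩ := hSyl S
    obtain ⟨hOm, -⟩ := hS2 hAGle
    have hAeq : Subgroup.closure {x : G | x ∈ (S : Subgroup M).map M.subtype ∧ x ^ p = 1} = AG := by
      apply le_antisymm
      · rw [Subgroup.closure_le]
        rintro x ⟨hxS, hxp⟩
        exact (hOm x hxS).mp hxp
      · intro x hx
        exact Subgroup.subset_closure ⟨hAGle hx, (hOm x (hAGle hx)).mpr hx⟩
    rw [hAeq]
    exact ⟨hAGcard.le, hcent, hnil⟩

end Cfsg.Agent.S1429
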