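import Cfsg.Statements.S1432
import Mathlib
import Cfsg.Agent.S1350
import Cfsg.Agent.S1405
import Cfsg.Agent.S1417
import Cfsg.Agent.S1418
import Cfsg.Agent.S1420
import Cfsg.Agent.S1430
import Cfsg.Agent.S1431
import Cfsg.Agent.Lib.Helper45.BG143

set_option autoImplicit false
open Cfsg

namespace Cfsg.Agent.S1432

/-- Let G be a minimal simple group of odd order, M a maximal subgroup, x a non-identity element of M_σ and x' a non-identity element of C_M(x) no prime divisor of whose order lies in σ(M). Then either all prime divisors of the order of x' lie in κ(M) and C_G(x) ≤ M; or all of them lie in τ₂(M), they all lie in σ(L) for a single maximal subgroup L, and C_G(x') ≤ M with M the unique maximal subgroup containing C_G(x'). -/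
theorem result {G : Type*} [Group G] [Finite G] (hG : Cfsg.IsMinSimpleOddOrder G)
    (M : Subgroup G) (hM : IsCoatom M) (x : G) (hx : x ∈ Cfsg.sigmaCore M) (hx1 : x ≠ 1) (x' : G) (hx' : x' ∈ M ⊓ Subgroup.centralizer ({x} : Set G)) (hx'1 : x' ≠ 1)
    (hσ : ∀ p : ℕ, p.Prime → p ∣ orderOf x' → p ∉ Cfsg.sigma M) :
    ((∀ p : ℕ, p.Prime → p ∣ orderOf x' → p ∈ Cfsg.kappa M) ∧ Subgroup.centralizer ({x} : Set G) ≤ M) ∨
      ((∀ p : ℕ, p.Prime → p ∣ orderOf x' → p ∈ Cfsg.tau2 M) ∧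
        (∃ L : Subgroup G, IsCoatom L ∧ ∀ p : ℕ, p.Prime → p ∣ orderOf x' → p ∈ Cfsg.sigma L) ∧
        (Subgroup.centralizer ({x'} : Set G) ≤ M ∧ ∀ L : Subgroup G, IsCoatom L → Subgroup.centralizer ({x'} : Set G) ≤ L → L = M)) := by
  have hH : Cfsg.Agent.Helper45.BG143.HHall G := fun L hL => (Cfsg.Agent.S1350.result hG L hL).1
  have hα : Cfsg.Agent.Helper45.BG143.HAlpha G := fun L hL =>
    ⟨(Cfsg.Agent.S1405.result hG L hL).1, (Cfsg.Agent.S1405.result hG L hL).2.2.1⟩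
  have h17 : Cfsg.Agent.Helper45.BG143.H17e G := fun L hL r _ hr A hA =>
    (Cfsg.Agent.S1417.result hG L hL r hr A hA).2.2.2.2.1
  have h18 : Cfsg.Agent.Helper45.BG143.H18 G := fun L hL E hE r _ hr A hA =>
    ⟨(Cfsg.Agent.S1418.result hG L hL E hE r hr A hA).1.1,
      (Cfsg.Agent.S1418.result hG L hL E hE r hr A hA).2.1.2.2⟩
  have h20 : Cfsg.Agent.Helper45.BG143.H20d G := fun L hL => by
    obtain ⟨E, hE⟩ := Cfsg.Agent.Helper55.BGB.exists_compl_sigmaCore (hH L hL)
    exact (Cfsg.Agent.S1420.result hG L hL E hE).2.2.2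
  have h30 : Cfsg.Agent.Helper45.BG143.H30 G := fun L K hL hK hK1 =>
    ⟨(Cfsg.Agent.S1430.result hG L hL K hK hK1).1,
      fun X hX hXp => ((Cfsg.Agent.S1430.result hG L hL K hK hK1).2.2 X hX hXp).1⟩
  have h31 : Cfsg.Agent.Helper45.BG143.H31a G := fun L K hL hK hK1 =>
    (Cfsg.Agent.S1431.result hG L hL K hK hK1).1
  exact Cfsg.Agent.Helper45.BG143.bg143 hG hH hα h17 h18 h20 h30 h31 M hM x hx hx1 x' hx' hx'1 hσ

end Cfsg.Agent.S1432
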