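-- Statement S1445: prime-like coprime action on a solvable odd-order group: [K, R] ≤ F(K).
import Cfsg.Statements.S1445
import Cfsg.Agent.Lib.Helper48.HallHigmanPCore
import Cfsg.Agent.Lib.Helper48.Cores
import Cfsg.Agent.Lib.Helper52.CoprimeHall
import Cfsg.Agent.Lib.Helper63.FittingCrit

set_option autoImplicit false
open Cfsg

namespace Cfsg.Agent.S1445

open Subgroup Cfsg.Agent.Helper48.HHC
open scoped commutatorElement

/-- the part of the argument for a fixed prime `p` -/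
theorem main_p {G : Type*} [Group G] [Finite G] [Group.IsSolvable G] (hodd : Odd (Nat.card G))
    (K R : Subgroup G) [hKn : K.Normal] (hcop : (Nat.card K).Coprime (Nat.card R))
    (hprime : ∀ x ∈ R, x ≠ 1 → K ⊓ Subgroup.centralizer ({x} : Set G) =
      (K ⊓ Subgroup.centralizer (R : Set G)))
    (hF : Cfsg.fittingOf K ⊓ Subgroup.centralizer (R : Set G) = ⊥)
    {r : ℕ} (hr : r.Prime) (x : G) (hxR : x ∈ R) (hxord : orderOf x = r)
    (p : ℕ) [hpF : Fact p.Prime] (y : G) (hy : y ∈ ⁅K, R⁆) (hyp : (orderOf y).Coprime p) :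
    y ∈ centralizer (((Cfsg.pCore p ↥K).map K.subtype : Subgroup G) : Set G) := by
  classical
  have hp : p.Prime := hpF.out
  have : Fact r.Prime := ⟨hr⟩
  have hxr : x ^ r = 1 := by rw [← hxord]; exact pow_orderOf_eq_one x
  have hx1 : x ≠ 1 := by
    intro h
    rw [h, orderOf_one] at hxord
    exact hr.one_lt.ne hxord
  obtain ⟨P, hPdef⟩ : ∃ P : Subgroup G, P = (Cfsg.pCore p ↥K).map K.subtype := ⟨_, rfl⟩
  rw [← hPdef]
  have hPn : P.Normal := by
    rw [hPdef]
    infer_instance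
  have hPK : P ≤ K := by
    rw [hPdef]
    rintro _ ⟨v, _, rfl⟩
    exact v.2
  have hPp : IsPGroup p P := by
    rw [hPdef]
    exact (Cfsg.Agent.Helper70.pCore_isPGroup (G := ↥K) (p := p)).map K.subtype
  by_cases hP1 : P = ⊥
  · rw [hP1, Subgroup.mem_centralizer_iff]
    intro v hv
    rw [Subgroup.coe_bot, Set.mem_singleton_iff] at hv
    rw [hv, one_mul, mul_one]
  -- p divides |K|
  have hpK : p ∣ Nat.card K := by
    obtain ⟨k, hk⟩ := IsPGroup.iff_card.mp hPp
    have hk0 : k ≠ 0 := by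
      intro h0
      rw [h0, pow_zero] at hk
      exact hP1 ((Subgroup.card_eq_one).mp hk)
    have h1 : p ∣ Nat.card P := by rw [hk]; exact dvd_pow_self p hk0
    exact h1.trans (Subgroup.card_dvd_of_le hPK)
  have hrR : r ∣ Nat.card R := by
    rw [← hxord]
    have := orderOf_dvd_natCard (⟨x, hxR⟩ : R)
    rwa [Subgroup.orderOf_mk] at this
  have hrK : (Nat.card K).Coprime r := Nat.Coprime.coprime_dvd_right hrR hcop
  have hKG : Nat.card K ∣ Nat.card G := Subgroup.card_subgroup_dvd_card K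
  have hpr : p ≠ r := by
    intro h
    rw [h] at hpK
    have h1 : r ∣ Nat.gcd (Nat.card K) r := Nat.dvd_gcd hpK dvd_rfl
    rw [Nat.Coprime.gcd_eq_one hrK] at h1
    exact hr.one_lt.ne' (Nat.dvd_one.mp h1)
  have hRK : R ≤ normalizer (K : Set G) := by
    rw [Subgroup.normalizer_eq_top K]
    exact le_top
  have hcop' : (Nat.card R).Coprime (Nat.card K) := Nat.coprime_comm.mp hcop
  have hKsolv : Group.IsSolvable K := inferInstance
  have hRsolv : Group.IsSolvable R := inferInstance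
  -- (i) no fixed points of x on P
  have hPF : P ≤ Cfsg.fittingOf K := by
    rw [hPdef]
    exact Subgroup.map_mono (Cfsg.Agent.Helper70.pCore_le_fittingSubgroup (G := ↥K) (p := p))
  have hxfix : P ⊓ centralizer ({x} : Set G) = ⊥ := by
    rw [eq_bot_iff]
    rintro v ⟨hvP, hvx⟩
    have h1 : v ∈ K ⊓ centralizer ({x} : Set G) := ⟨hPK hvP, hvx⟩
    rw [hprime x hxR hx1] at h1
    have h2 : v ∈ Cfsg.fittingOf K ⊓ centralizer (R : Set G) := ⟨hPF hvP, h1.2⟩
    rw [hF] at h2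
    exact h2
  -- the centraliser of P
  obtain ⟨CP, hCPdef⟩ : ∃ CP : Subgroup G, CP = centralizer (P : Set G) := ⟨_, rfl⟩
  rw [← hCPdef]
  have hCPn : CP.Normal := by rw [hCPdef]; infer_instance
  -- invariant Hall p'-subgroup and Sylow p-subgroup
  have hmn : Nat.card K = ordCompl[p] (Nat.card K) * ordProj[p] (Nat.card K) := by
    rw [mul_comm]
    exact (Nat.ordProj_mul_ordCompl_eq_self _ _).symm
  have hcopmn : (ordCompl[p] (Nat.card K)).Coprime (ordProj[p] (Nat.card K)) := by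
    apply Nat.Coprime.pow_right
    exact (Nat.coprime_ordCompl hp Nat.card_pos.ne').symm
  obtain ⟨H, hHK, hHcard, hRH⟩ := Cfsg.Agent.Helper52.exists_invariant_hall R K hRK hcop' hKsolv
    _ _ hmn hcopmn
  obtain ⟨P₁, hP₁K, hP₁card, hRP₁⟩ :=
    Cfsg.Agent.Helper52.exists_invariant_sylow R K hRK hcop' (Or.inl hRsolv) p
  have hP₁card' : Nat.card P₁ = ordProj[p] (Nat.card K) := hP₁card
  have hHcop : (Nat.card H).Coprime p := by
    rw [hHcard]
    exact (Nat.coprime_ordCompl hp Nat.card_pos.ne').symm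
  -- (ii) x centralises H modulo CP
  let T : Subgroup G :=
    { carrier := {k | k ∈ H ∧ x * k * x⁻¹ * k⁻¹ ∈ CP}
      one_mem' := ⟨H.one_mem, by simp⟩
      mul_mem' := by
        rintro k k' ⟨hk, hkc⟩ ⟨hk', hkc'⟩
        refine ⟨H.mul_mem hk hk', ?_⟩
        have e : x * (k * k') * x⁻¹ * (k * k')⁻¹ =
            (x * k * x⁻¹ * k⁻¹) * (k * (x * k' * x⁻¹ * k'⁻¹) * k⁻¹) := by group
        rw [e]
        exact mul_mem hkc (hCPn.conj_mem _ hkc' k)
      inv_mem' := by
        rintro k ⟨hk, hkc⟩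
        refine ⟨H.inv_mem hk, ?_⟩
        have e : x * k⁻¹ * x⁻¹ * k⁻¹⁻¹ = k⁻¹ * (x * k * x⁻¹ * k⁻¹)⁻¹ * k⁻¹⁻¹ := by group
        rw [e]
        exact hCPn.conj_mem _ (inv_mem hkc) k⁻¹ }
  have hTH : T ≤ H := fun k hk => hk.1
  have hRHcop : (Nat.card R).Coprime (Nat.card H) :=
    Nat.Coprime.coprime_dvd_right (Subgroup.card_dvd_of_le hHK) hcop'
  have hsyl : ∀ q : ℕ, q.Prime → q ^ (Nat.card H).factorization q ∣ Nat.card T := by
    intro q hq
    have : Fact q.Prime := ⟨hq⟩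
    by_cases hqH : q ∣ Nat.card H
    · obtain ⟨Qq, hQH, hQcard, hRQ⟩ :=
        Cfsg.Agent.Helper52.exists_invariant_sylow R H hRH hRHcop (Or.inl hRsolv) q
      have hqK : q ∣ Nat.card K := hqH.trans (Subgroup.card_dvd_of_le hHK)
      have hqG : q ∣ Nat.card G := hqK.trans hKG
      have hq2 : q ≠ 2 := by
        intro h
        rw [h] at hqG
        exact (Nat.not_even_iff_odd.mpr hodd) (even_iff_two_dvd.mpr hqG)
      have hpq : p ≠ q := by
        intro h
        rw [← h] at hqH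
        have h1 : p ∣ Nat.gcd (Nat.card H) p := Nat.dvd_gcd hqH dvd_rfl
        rw [Nat.Coprime.gcd_eq_one hHcop] at h1
        exact hp.one_lt.ne' (Nat.dvd_one.mp h1)
      have hqr : q ≠ r := by
        intro h
        rw [h] at hqK
        have h1 : r ∣ Nat.gcd (Nat.card K) r := Nat.dvd_gcd hqK dvd_rfl
        rw [Nat.Coprime.gcd_eq_one hrK] at h1
        exact hr.one_lt.ne' (Nat.dvd_one.mp h1)
      have hQq : IsPGroup q Qq := IsPGroup.of_card hQcard
      have hxQ : ∀ u ∈ Qq, x * u * x⁻¹ ∈ Qq := fun u hu =>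
        (Subgroup.mem_normalizer_iff.mp (hRQ hxR) u).mp hu
      have hkey := commutator_centralizes_normal_pgroup hp hq hr hpq hpr hqr hq2 P Qq hPp x hxr
        hxfix hQq hxQ
      have hQT : Qq ≤ T := by
        intro u hu
        refine ⟨hQH hu, ?_⟩
        rw [hCPdef]
        exact hkey u hu
      have h1 : Nat.card Qq ∣ Nat.card T := Subgroup.card_dvd_of_le hQT
      rw [hQcard] at h1
      exact h1
    · rw [Nat.factorization_eq_zero_of_not_dvd hqH, pow_zero]
      exact one_dvd _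
  have hTeq : T = H := by
    have hdvd : Nat.card H ∣ Nat.card T := by
      rw [← Nat.factorization_prime_le_iff_dvd Nat.card_pos.ne' Nat.card_pos.ne']
      intro q hq
      exact (Nat.Prime.pow_dvd_iff_le_factorization hq Nat.card_pos.ne').mp (hsyl q hq)
    exact Subgroup.eq_of_le_of_card_ge hTH (Nat.le_of_dvd Nat.card_pos hdvd)
  have hxH : ∀ h ∈ H, x * h * x⁻¹ * h⁻¹ ∈ CP := by
    intro h hh
    have : h ∈ T := by rw [hTeq]; exact hh
    exact this.2
  -- the normal subgroup C = K ⊓ CP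
  obtain ⟨C, hCdef⟩ : ∃ C : Subgroup G, C = K ⊓ CP := ⟨_, rfl⟩
  have hCn : C.Normal := by rw [hCdef]; infer_instance
  have hCK : C ≤ K := by rw [hCdef]; exact inf_le_left
  have hCCP : C ≤ CP := by rw [hCdef]; exact inf_le_right
  have hCcop : (Nat.card C).Coprime r :=
    Nat.Coprime.coprime_dvd_left (Subgroup.card_dvd_of_le hCK) hrK
  -- (iii) every element of R centralises H modulo C
  have hyH : ∀ z ∈ R, ∀ h ∈ H, z * h * z⁻¹ * h⁻¹ ∈ C := by
    intro z hz h hh
    have hhK : h ∈ K := hHK hh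
    have hm : h⁻¹ * (x * h * x⁻¹) ∈ C := by
      rw [hCdef]
      refine ⟨K.mul_mem (K.inv_mem hhK) (hKn.conj_mem h hhK x), ?_⟩
      have h1 := hCPn.conj_mem _ (hxH h hh) h⁻¹
      have e : h⁻¹ * (x * h * x⁻¹ * h⁻¹) * h⁻¹⁻¹ = h⁻¹ * (x * h * x⁻¹) := by group
      rwa [e] at h1
    have hxN : x ∈ normalizer (C : Set G) := by
      rw [Subgroup.normalizer_eq_top C]
      exact Subgroup.mem_top x
    obtain ⟨d, hd, hfix⟩ := Cfsg.Agent.Helper48.exists_mul_mem_fixed C hCcop x h 1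
      (by rw [pow_one]; exact hxr) hxN hm
    have h1 : h * d ∈ K ⊓ centralizer ({x} : Set G) := by
      refine ⟨K.mul_mem hhK (hCK hd), ?_⟩
      show h * d ∈ centralizer ({x} : Set G)
      rw [Subgroup.mem_centralizer_singleton_iff]
      calc h * d * x = (x * (h * d) * x⁻¹) * x := by rw [hfix]
        _ = x * (h * d) := by group
    rw [hprime x hxR hx1] at h1
    have h2 : z * (h * d) = (h * d) * z := (Subgroup.mem_centralizer_iff.mp h1.2 z hz)
    have e : z * h * z⁻¹ * h⁻¹ = (h * d) * (z * d⁻¹ * z⁻¹ * d) * (h * d)⁻¹ := by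
      have e1 : z * h = (h * d) * z * d⁻¹ := by rw [← h2]; group
      calc z * h * z⁻¹ * h⁻¹ = (z * h) * z⁻¹ * h⁻¹ := by group
        _ = ((h * d) * z * d⁻¹) * z⁻¹ * h⁻¹ := by rw [e1]
        _ = (h * d) * (z * d⁻¹ * z⁻¹ * d) * (h * d)⁻¹ := by group
    rw [e]
    apply hCn.conj_mem
    exact C.mul_mem (hCn.conj_mem _ (C.inv_mem hd) z) hd
  -- the quotient by C
  obtain ⟨π, hπdef⟩ : ∃ π : G →* G ⧸ C, π = QuotientGroup.mk' C := ⟨_, rfl⟩
  have hπker : ∀ g : G, π g = 1 ↔ g ∈ C := by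
    intro g
    rw [hπdef]
    exact QuotientGroup.eq_one_iff g
  -- K = P₁ H
  have hdecomp : ∀ k ∈ K, ∃ a ∈ P₁, ∃ h ∈ H, k = a * h := by
    have hcardP₁ : Nat.card (P₁.subgroupOf K) = ordProj[p] (Nat.card K) := by
      rw [← hP₁card']
      exact Nat.card_congr (Subgroup.subgroupOfEquivOfLe hP₁K).toEquiv
    have hcardH : Nat.card (H.subgroupOf K) = ordCompl[p] (Nat.card K) := by
      rw [← hHcard]
      exact Nat.card_congr (Subgroup.subgroupOfEquivOfLe hHK).toEquiv
    have hcompl : Subgroup.IsComplement' (P₁.subgroupOf K) (H.subgroupOf K) := by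
      apply Subgroup.isComplement'_of_coprime
      · rw [hcardP₁, hcardH]
        exact Nat.ordProj_mul_ordCompl_eq_self _ _
      · rw [hcardP₁, hcardH]
        exact hcopmn.symm
    intro k hk
    obtain ⟨⟨a, h⟩, hah, -⟩ := hcompl.existsUnique (⟨k, hk⟩ : K)
    refine ⟨a.1.1, a.2, h.1.1, h.2, ?_⟩
    have := congrArg Subtype.val hah
    simpa using this.symm
  -- (iv) commutators lie in D = π⁻¹(π P₁)
  let D : Subgroup G := (P₁.map π).comap π
  have hcommD : ⁅K, R⁆ ≤ D := by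
    rw [Subgroup.commutator_le]
    intro k hk z hz
    obtain ⟨a, ha, h, hh, rfl⟩ := hdecomp k hk
    show π ⁅a * h, z⁆ ∈ P₁.map π
    have hza : z * a * z⁻¹ ∈ P₁ := (Subgroup.mem_normalizer_iff.mp (hRP₁ hz) a).mp ha
    have h1 : π (z * h * z⁻¹ * h⁻¹) = 1 := (hπker _).mpr (hyH z hz h hh)
    have e : ⁅a * h, z⁆ = a * (z * h * z⁻¹ * h⁻¹)⁻¹ * a⁻¹ * (a * (z * a * z⁻¹)⁻¹) := by
      rw [commutatorElement_def]; group
    rw [e, map_mul, map_mul, map_mul, map_inv, h1, inv_one, mul_one, map_inv, mul_inv_cancel,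
      one_mul]
    exact ⟨a * (z * a * z⁻¹)⁻¹, P₁.mul_mem ha (P₁.inv_mem hza), rfl⟩
  -- (v) a p'-element of D lies in C
  have hyD : y ∈ D := hcommD hy
  obtain ⟨a, ha, hay⟩ : ∃ a ∈ P₁, π a = π y := hyD
  have hP₁p : IsPGroup p P₁ := IsPGroup.of_card hP₁card
  obtain ⟨j, hj⟩ := hP₁p ⟨a, ha⟩
  have haj : a ^ (p ^ j) = 1 := by
    have := congrArg Subtype.val hj
    simpa using this
  have h1 : (π y) ^ (p ^ j) = 1 := by rw [← hay, ← map_pow, haj, map_one]
  have h2 : (π y) ^ (orderOf y) = 1 := by rw [← map_pow, pow_orderOf_eq_one, map_one]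
  have h3 : orderOf (π y) ∣ Nat.gcd (orderOf y) (p ^ j) :=
    Nat.dvd_gcd (orderOf_dvd_of_pow_eq_one h2) (orderOf_dvd_of_pow_eq_one h1)
  rw [Nat.Coprime.gcd_eq_one (Nat.Coprime.pow_right j hyp)] at h3
  have h4 : π y = 1 := orderOf_eq_one_iff.mp (Nat.dvd_one.mp h3)
  exact hCCP ((hπker y).mp h4)

/-- Let G be a solvable group of odd order, K a normal subgroup and R a subgroup with G = KR and the orders of K and R coprime. Suppose K ∩ C_G(x) = K ∩ C_G(R) for every non-identity x ∈ R, and F(K) ∩ C_G(R) = 1. Then [K, R] is contained in the Fitting subgroup of K. -/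
theorem result {G : Type*} [Group G] [Finite G] [Group.IsSolvable G] (hodd : Odd (Nat.card G)) (K R : Subgroup G) [K.Normal] (hKR : K ⊔ R = ⊤) (hcop : (Nat.card K).Coprime (Nat.card R))
    (hprime : ∀ x ∈ R, x ≠ 1 → K ⊓ Subgroup.centralizer ({x} : Set G) = (K ⊓ Subgroup.centralizer (R : Set G)))
    (hF : Cfsg.fittingOf K ⊓ Subgroup.centralizer (R : Set G) = ⊥) :
    ⁅K, R⁆ ≤ Cfsg.fittingOf K := by
  classical
  by_cases hR1 : R = ⊥
  · rw [hR1, Subgroup.commutator_bot_right]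
    exact bot_le
  have hRcard : Nat.card R ≠ 1 := fun h => hR1 (Subgroup.card_eq_one.mp h)
  obtain ⟨r, hr, hrR⟩ := Nat.exists_prime_and_dvd hRcard
  have : Fact r.Prime := ⟨hr⟩
  obtain ⟨x', hx'⟩ := exists_prime_orderOf_dvd_card' r hrR
  have hxord : orderOf (x' : G) = r := by rw [Subgroup.orderOf_coe]; exact hx'
  have hKsolv : Group.IsSolvable K := inferInstance
  have hcommK : ⁅K, R⁆ ≤ K := Subgroup.commutator_le_left K R
  have hH'n : ((⁅K, R⁆).subgroupOf K).Normal :=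
    Subgroup.normal_subgroupOf_of_le_normalizer (Subgroup.normalizer_commutator_ge_left K R)
  have hcrit := Cfsg.Agent.Helper63.le_fittingSubgroup_of_centralizes hKsolv
    ((⁅K, R⁆).subgroupOf K) ?_
  · intro g hg
    have hgK := hcommK hg
    exact ⟨⟨g, hgK⟩, hcrit (Subgroup.mem_subgroupOf.mpr hg), rfl⟩
  · intro p _ y hy hyp
    have h1 := main_p hodd K R hcop hprime hF hr x'.1 x'.2 hxord p y.1
      (Subgroup.mem_subgroupOf.mp hy) (by rwa [Subgroup.orderOf_coe])
    rw [Subgroup.mem_centralizer_iff]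
    intro v hv
    have h2 := Subgroup.mem_centralizer_iff.mp h1 v.1 ⟨v, hv, rfl⟩
    exact Subtype.ext h2

end Cfsg.Agent.S1445
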