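-- Statement S1433 (BG 14.4: the cosets x R(x) are pairwise disjoint).
-- Formal consequence of S1375 (structure of C_G(x) for x in M_sigma with C_G(x) not in M),
-- S1378 (sigma-sets of non-conjugate maximal subgroups are disjoint) and S1350 (M_sigma is Hall).
import Cfsg.Statements.S1433
import Cfsg.Agent.S1350
import Cfsg.Agent.S1375
import Cfsg.Agent.S1378
import Cfsg.Agent.Lib.Helper97.BG144

set_option autoImplicit false
open Cfsg

namespace Cfsg.Agent.S1433

open Cfsg.Agent.Helper97.BG144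

theorem sigmaCore_le_self {G : Type*} [Group G] (M : Subgroup G) : Cfsg.sigmaCore M ≤ M := by
  unfold Cfsg.sigmaCore
  intro x hx
  obtain ⟨y, -, rfl⟩ := hx
  exact y.2

theorem self_mem_centralizer {G : Type*} [Group G] (x : G) :
    x ∈ Subgroup.centralizer ({x} : Set G) := by
  rw [Subgroup.mem_centralizer_iff]
  intro h hh
  rw [Set.mem_singleton_iff.mp hh]

/-- The situation of a nontrivial element `r` of `R(x)`. -/
theorem key {G : Type*} [Group G] [Finite G] (hG : Cfsg.IsMinSimpleOddOrder G)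
    (M : Subgroup G) (hM : IsCoatom M) (x : G) (hx : x ∈ Cfsg.sigmaCore M) (hx1 : x ≠ 1)
    (r : G) (hr : r ∈ Cfsg.supportR M x) (hr1 : r ≠ 1) :
    ∃ L : Subgroup G, IsCoatom L ∧ Subgroup.centralizer ({x} : Set G) ≤ L ∧
      r ∈ Cfsg.sigmaCore L ∧ Commute x r ∧
      (∀ M' : Subgroup G, IsCoatom M' → x ∈ Cfsg.sigmaCore M' → M' ⊓ Cfsg.sigmaCore L = ⊥) ∧
      (∀ p : ℕ, p.Prime → p ∣ orderOf r → p ∈ Cfsg.sigma L) ∧
      (∀ p : ℕ, p.Prime → p ∣ orderOf x → p ∉ Cfsg.sigma L) := by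
  unfold Cfsg.supportR at hr
  split_ifs at hr with h
  · obtain ⟨N0, ⟨hN0, hCN0⟩, huniq, hσF, -, -, hcompl, -⟩ :=
      Cfsg.Agent.S1375.result hG M hM x hx hx1 h.1
    have hch : Classical.choose h.2.exists = N0 := by
      have hspec := Classical.choose_spec h.2.exists
      exact huniq _ hspec.1 hspec.2
    rw [hch] at hr
    have hrL : r ∈ Cfsg.sigmaCore N0 := by rw [hσF]; exact hr.1
    have hrc : r ∈ Subgroup.centralizer ({x} : Set G) := hr.2
    have hcomm : Commute x r :=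
      Subgroup.mem_centralizer_iff.mp hrc x (Set.mem_singleton x)
    have hxC : x ∈ Subgroup.centralizer ({x} : Set G) := self_mem_centralizer x
    have hK : ∀ M' : Subgroup G, IsCoatom M' → x ∈ Cfsg.sigmaCore M' →
        M' ⊓ Cfsg.sigmaCore N0 = ⊥ := by
      intro M' hM' hxM'
      by_cases hC : Subgroup.centralizer ({x} : Set G) ≤ M'
      · have hM'N : M' = N0 := huniq M' hM' hC
        exfalso
        have hx_in : x ∈ (M ⊓ N0) ⊓ Cfsg.sigmaCore N0 :=
          ⟨⟨sigmaCore_le_self M hx, hCN0 hxC⟩, hM'N ▸ hxM'⟩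
        rw [hcompl.2.2.1] at hx_in
        exact hx1 (Subgroup.mem_bot.mp hx_in)
      · obtain ⟨N1, ⟨hN1, hCN1⟩, huniq1, -, -, -, hcompl1, -⟩ :=
          Cfsg.Agent.S1375.result hG M' hM' x hxM' hx1 hC
        have h10 : N0 = N1 := huniq1 N0 hN0 hCN0
        rw [← h10] at hcompl1
        rw [eq_bot_iff]
        intro t ht
        have ht' : t ∈ (M' ⊓ N0) ⊓ Cfsg.sigmaCore N0 :=
          ⟨⟨ht.1, sigmaCore_le_self _ ht.2⟩, ht.2⟩
        rw [hcompl1.2.2.1] at ht'
        exact ht'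
    have hallL := (Cfsg.Agent.S1350.result hG N0 hN0).1
    refine ⟨N0, hN0, hCN0, hrL, hcomm, hK, pi_of_mem_sigmaCore hallL hrL, ?_⟩
    intro p hp hpd hpσ
    have how : orderOf (x ^ (orderOf x / p)) = p :=
      orderOf_pow_orderOf_div (orderOf_pos x).ne' hpd
    have hwL : x ^ (orderOf x / p) ∈ N0 := pow_mem (hCN0 hxC) _
    have hwM : x ^ (orderOf x / p) ∈ M := pow_mem (sigmaCore_le_self M hx) _
    have hwσ : x ^ (orderOf x / p) ∈ Cfsg.sigmaCore N0 := by
      apply mem_sigmaCore_of_pi hallL hwL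
      intro q hq hqd
      rw [how] at hqd
      have : q = p := (Nat.prime_dvd_prime_iff_eq hq hp).mp hqd
      rw [this]; exact hpσ
    have hbot : x ^ (orderOf x / p) ∈ M ⊓ Cfsg.sigmaCore N0 := ⟨hwM, hwσ⟩
    rw [hK M hM hx] at hbot
    have h1 : x ^ (orderOf x / p) = 1 := Subgroup.mem_bot.mp hbot
    rw [h1, orderOf_one] at how
    exact hp.one_lt.ne how
  · exact absurd (Subgroup.mem_bot.mp hr) hr1

theorem coprime_of_pi {a b : ℕ} {π : Set ℕ} (ha : ∀ p : ℕ, p.Prime → p ∣ a → p ∉ π)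
    (hb : ∀ p : ℕ, p.Prime → p ∣ b → p ∈ π) : Nat.Coprime a b :=
  Nat.coprime_of_dvd fun k hk hka hkb => ha k hk hka (hb k hk hkb)

/-- Case `s = 1`, `r ≠ 1`. -/
theorem caseB {G : Type*} [Group G] [Finite G] (hG : Cfsg.IsMinSimpleOddOrder G)
    (M N : Subgroup G) (hM : IsCoatom M) (hN : IsCoatom N) (x y : G)
    (hx : x ∈ Cfsg.sigmaCore M) (hy : y ∈ Cfsg.sigmaCore N) (hx1 : x ≠ 1)
    (r : G) (hr : r ∈ Cfsg.supportR M x) (hr1 : r ≠ 1) (heq : x * r = y) : False := by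
  obtain ⟨L, hL, hCL, hrL, hcomm, hK, hrπ, hxπ⟩ := key hG M hM x hx hx1 r hr hr1
  have hcop : (orderOf x).Coprime (orderOf r) := coprime_of_pi hxπ hrπ
  obtain ⟨j, hj⟩ := exists_zpow_left hcomm hcop
  obtain ⟨j', hj'⟩ := exists_zpow_right hcomm hcop
  rw [heq] at hj hj'
  have hxN : x ∈ Cfsg.sigmaCore N := by rw [hj]; exact zpow_mem hy j
  have hrN : r ∈ N := by rw [hj']; exact zpow_mem (sigmaCore_le_self N hy) j'
  have hbot : r ∈ N ⊓ Cfsg.sigmaCore L := ⟨hrN, hrL⟩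
  rw [hK N hN hxN] at hbot
  exact hr1 (Subgroup.mem_bot.mp hbot)

/-- Case `r ≠ 1`, `s ≠ 1`. -/
theorem caseC {G : Type*} [Group G] [Finite G] (hG : Cfsg.IsMinSimpleOddOrder G)
    (M N : Subgroup G) (hM : IsCoatom M) (hN : IsCoatom N) (x y : G)
    (hx : x ∈ Cfsg.sigmaCore M) (hy : y ∈ Cfsg.sigmaCore N) (hx1 : x ≠ 1) (hy1 : y ≠ 1)
    (hxy : x ≠ y)
    (r : G) (hr : r ∈ Cfsg.supportR M x) (hr1 : r ≠ 1)
    (s : G) (hs : s ∈ Cfsg.supportR N y) (hs1 : s ≠ 1) (heq : x * r = y * s) : False := by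
  obtain ⟨L, hL, hCL, hrL, hcomm, hK, hrπ, hxπ⟩ := key hG M hM x hx hx1 r hr hr1
  obtain ⟨L', hL', hCL', hsL', hcomm', hK', hsπ, hyπ⟩ := key hG N hN y hy hy1 s hs hs1
  have hcop : (orderOf x).Coprime (orderOf r) := coprime_of_pi hxπ hrπ
  have hcop' : (orderOf y).Coprime (orderOf s) := coprime_of_pi hyπ hsπ
  by_cases hcommon : ∃ p : ℕ, p.Prime ∧ p ∣ orderOf r ∧ p ∣ orderOf s
  · obtain ⟨p, hp, hpr, hps⟩ := hcommon
    obtain ⟨g, hg⟩ := (Cfsg.Agent.S1378.result hG).2 L L' hL hL' ⟨p, hrπ p hp hpr, hsπ p hp hps⟩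
    have hσ : Cfsg.sigma L' = Cfsg.sigma L := by rw [hg]; exact sigma_map_conj L g
    rw [hσ] at hsπ hyπ
    have h2 : (orderOf x).Coprime (orderOf s) := coprime_of_pi hxπ hsπ
    have h3 : (orderOf y).Coprime (orderOf r) := coprime_of_pi hyπ hrπ
    exact hxy (eq_of_mul_eq_mul hcomm hcomm' heq hcop h2 h3 hcop').1
  · push Not at hcommon
    have hos : orderOf s ≠ 1 := fun h => hs1 (orderOf_eq_one_iff.mp h)
    obtain ⟨q, hq, hqs⟩ := Nat.exists_prime_and_dvd hos
    obtain ⟨j, hj⟩ := exists_zpow_left hcomm hcop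
    obtain ⟨j', hj'⟩ := exists_zpow_right hcomm hcop
    obtain ⟨i, hi⟩ := exists_zpow_right hcomm' hcop'
    -- the order of `s` divides that of `x * r`
    have hsz : orderOf s ∣ orderOf (x * r) := by
      apply orderOf_dvd_of_pow_eq_one
      rw [hi, ← heq, ← zpow_natCast, ← zpow_mul, mul_comm, zpow_mul, zpow_natCast,
        pow_orderOf_eq_one, one_zpow]
    have hz : orderOf (x * r) ∣ orderOf x * orderOf r := hcomm.orderOf_mul_dvd_mul_orderOf
    have hqx : q ∣ orderOf x := by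
      rcases (Nat.Prime.dvd_mul hq).mp ((hqs.trans hsz).trans hz) with h | h
      · exact h
      · exact absurd hqs (hcommon q hq h)
    have hallM := (Cfsg.Agent.S1350.result hG M hM).1
    have hallL' := (Cfsg.Agent.S1350.result hG L' hL').1
    obtain ⟨g, hg⟩ := (Cfsg.Agent.S1378.result hG).2 M L' hM hL'
      ⟨q, pi_of_mem_sigmaCore hallM hx q hq hqx, hsπ q hq hqs⟩
    have hσ : Cfsg.sigma L' = Cfsg.sigma M := by rw [hg]; exact sigma_map_conj M g
    have hzL' : x * r ∈ L' := by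
      rw [heq]
      exact mul_mem (hCL' (self_mem_centralizer y)) (sigmaCore_le_self L' hsL')
    have hxL' : x ∈ L' := by rw [hj]; exact zpow_mem hzL' j
    have hrL' : r ∈ L' := by rw [hj']; exact zpow_mem hzL' j'
    have hxσ : x ∈ Cfsg.sigmaCore L' := by
      apply mem_sigmaCore_of_pi hallL' hxL'
      intro p hp hpd
      rw [hσ]
      exact pi_of_mem_sigmaCore hallM hx p hp hpd
    have hbot : r ∈ L' ⊓ Cfsg.sigmaCore L := ⟨hrL', hrL⟩
    rw [hK L' hL' hxσ] at hbot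
    exact hr1 (Subgroup.mem_bot.mp hbot)

/-- Let G be a minimal simple group of odd order, M and N maximal subgroups, x ≠ 1 in M_σ and y ≠ 1 in N_σ with x ≠ y, where R(x) = 1 if C_G(x) ≤ M and R(x) = C_{L_F}(x) for the unique maximal L containing C_G(x) otherwise (and likewise R(y) relative to N). Then no element lies in both x R(x) and y R(y). -/
theorem result {G : Type*} [Group G] [Finite G] (hG : Cfsg.IsMinSimpleOddOrder G)
    (M N : Subgroup G) (hM : IsCoatom M) (hN : IsCoatom N) (x y : G) (hx : x ∈ Cfsg.sigmaCore M) (hy : y ∈ Cfsg.sigmaCore N)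
    (hx1 : x ≠ 1) (hy1 : y ≠ 1) (hxy : x ≠ y) :
    ∀ r ∈ Cfsg.supportR M x, ∀ s ∈ Cfsg.supportR N y, x * r ≠ y * s := by
  intro r hr s hs heq
  by_cases hr1 : r = 1
  · by_cases hs1 : s = 1
    · apply hxy
      rw [hr1, hs1, mul_one, mul_one] at heq
      exact heq
    · rw [hr1, mul_one] at heq
      exact caseB hG N M hN hM y x hy hx hy1 s hs hs1 heq.symm
  · by_cases hs1 : s = 1
    · rw [hs1, mul_one] at heq
      exact caseB hG M N hM hN x y hx hy hx1 r hr hr1 heq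
    · exact caseC hG M N hM hN x y hx hy hx1 hy1 hxy r hr hr1 s hs hs1 heq

end Cfsg.Agent.S1433
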