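import Cfsg.Statements.S4043
import Mathlib
import Cfsg.Agent.Lib.Helper24.SZInternal
import Cfsg.Agent.Lib.Helper62.FittingMin

set_option autoImplicit false
open Cfsg

namespace Cfsg.Agent.S4043

/-- Data extracted from a normal `p`-complement of a subgroup `A`. -/
theorem npc_data {G : Type*} [Group G] [Finite G] {p : ℕ} [Fact p.Prime] (A : Subgroup G)
    (h : Cfsg.HasNormalPComplement p A) :
    ∃ K P : Subgroup G, K ≤ A ∧ P ≤ A ∧ A ≤ Subgroup.normalizer (K : Set G) ∧ IsPGroup p P ∧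
      (Nat.card K).Coprime p ∧ Nat.card K * Nat.card P = Nat.card A ∧ K ⊔ P = A ∧
      (∀ a ∈ A, (orderOf a).Coprime p → a ∈ K) := by
  obtain ⟨P, K, hKn, hKP⟩ := h
  have hp : p.Prime := Fact.out
  refine ⟨K.map A.subtype, (P : Subgroup A).map A.subtype, Subgroup.map_subtype_le _,
    Subgroup.map_subtype_le _, ?_, P.isPGroup'.map _, ?_, ?_, ?_, ?_⟩
  · rw [Subgroup.le_normalizer_iff]
    rintro a ha _ ⟨k, hk, rfl⟩
    refine ⟨⟨a, ha⟩ * k * ⟨a, ha⟩⁻¹, hKn.conj_mem k hk ⟨a, ha⟩, ?_⟩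
    simp
  · rw [Subgroup.card_map_of_injective A.subtype_injective]
    have h1 : (P : Subgroup A).index = Nat.card K := hKP.index_eq_card
    have h2 : ¬ p ∣ (P : Subgroup A).index := P.not_dvd_index
    rw [h1] at h2
    exact ((Nat.Prime.coprime_iff_not_dvd hp).2 h2).symm
  · rw [Subgroup.card_map_of_injective A.subtype_injective,
      Subgroup.card_map_of_injective A.subtype_injective]
    exact hKP.card_mul_card
  · rw [← Subgroup.map_sup, hKP.sup_eq_top, ← MonoidHom.range_eq_map, Subgroup.range_subtype]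
  · intro a ha hcop
    have hidx : K.index = Nat.card (P : Subgroup A) := hKP.symm.index_eq_card
    obtain ⟨i, hi⟩ := IsPGroup.iff_card.1 P.isPGroup'
    set q : A ⧸ K := ((⟨a, ha⟩ : A) : A ⧸ K) with hq
    have h1 : q ^ (p ^ i) = 1 := by
      have : Nat.card (A ⧸ K) = p ^ i := by rw [← Subgroup.index_eq_card, hidx, hi]
      rw [← this]; exact pow_card_eq_one'
    have h2 : q ^ (orderOf a) = 1 := by
      rw [hq, ← QuotientGroup.mk_pow]
      have : (⟨a, ha⟩ : A) ^ orderOf a = 1 := by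
        apply Subtype.ext; simp [pow_orderOf_eq_one]
      rw [this]; rfl
    have hq1 : q = 1 := by
      have d1 := orderOf_dvd_of_pow_eq_one h1
      have d2 := orderOf_dvd_of_pow_eq_one h2
      have hc : Nat.Coprime (p ^ i) (orderOf a) := (Nat.Coprime.pow_right i hcop).symm
      exact orderOf_eq_one_iff.1 (Nat.eq_one_of_dvd_coprimes hc d1 d2)
    rw [hq, QuotientGroup.eq_one_iff] at hq1
    exact ⟨⟨a, ha⟩, hq1, rfl⟩

/-- decomposition of elements along a complement -/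
theorem exists_mul_of_isComplement' {G : Type*} [Group G] {A N : Subgroup G}
    (h : A.IsComplement' N) (g : G) : ∃ a ∈ A, ∃ n ∈ N, a * n = g := by
  obtain ⟨⟨a, n⟩, hx⟩ := h.2 g
  exact ⟨a.1, a.2, n.1, n.2, hx⟩

theorem result {G : Type*} [Group G] [Finite G] {p : ℕ}
    [Fact p.Prime] (N : Subgroup G) [N.Normal] (hN : IsPGroup p N) (A A₁ : Subgroup G)
    (hA : A.IsComplement' N) (hA₁ : A₁.IsComplement' N)
    (hAp : Cfsg.HasNormalPComplement p A) (hA₁p : Cfsg.HasNormalPComplement p A₁)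
    (hC : ∀ n : G, n ∈ N → (∀ a : G, a ∈ A → a * n * a⁻¹ = n) → n = 1)
    (hC₁ : ∀ n : G, n ∈ N → (∀ a : G, a ∈ A₁ → a * n * a⁻¹ = n) → n = 1) :
    ∃ n : G, n ∈ N ∧ A₁ = A.map (MulAut.conj n).toMonoidHom := by
  have hp : p.Prime := Fact.out
  obtain ⟨K, P, hKA, hPA, hAK, hP, hKcop, hKP, hKPsup, hKall⟩ := npc_data A hAp
  obtain ⟨K₁, P₁, hK₁A, hP₁A, hAK₁, hP₁, hK₁cop, hK₁P, hK₁Psup, hK₁all⟩ := npc_data A₁ hA₁p
  have hAN : A ⊓ N = ⊥ := disjoint_iff.1 hA.disjoint
  have hA₁N : A₁ ⊓ N = ⊥ := disjoint_iff.1 hA₁.disjoint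
  obtain ⟨j, hj⟩ := IsPGroup.iff_card.1 hN
  -- S1 : K₁ ≤ N ⊔ K
  have hS1 : K₁ ≤ N ⊔ K := by
    intro g hg
    have hgo : (orderOf g).Coprime p :=
      Nat.Coprime.coprime_dvd_left (Subgroup.orderOf_dvd_natCard K₁ hg) hK₁cop
    obtain ⟨a, ha, n, hn, rfl⟩ := exists_mul_of_isComplement' hA g
    have hak : a ∈ K := by
      apply hKall a ha
      have h1 : a ^ orderOf (a * n) ∈ A ⊓ N := by
        refine Subgroup.mem_inf.2 ⟨pow_mem ha _, ?_⟩
        rw [← QuotientGroup.eq_one_iff, QuotientGroup.mk_pow]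
        have h2 : ((a : G) : G ⧸ N) = ((a * n : G) : G ⧸ N) := by
          rw [QuotientGroup.mk_mul, (QuotientGroup.eq_one_iff n).2 hn, mul_one]
        rw [h2, ← QuotientGroup.mk_pow, pow_orderOf_eq_one]; rfl
      rw [hAN, Subgroup.mem_bot] at h1
      exact Nat.Coprime.coprime_dvd_left (orderOf_dvd_of_pow_eq_one h1) hgo
    have : a * n = (a * n * a⁻¹) * a := by simp [mul_assoc]
    rw [this]
    exact mul_mem ((le_sup_left : N ≤ N ⊔ K) ((inferInstance : N.Normal).conj_mem n hn a))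
      ((le_sup_right : K ≤ N ⊔ K) hak)
  -- cardinalities
  have hcardA : Nat.card A = Nat.card A₁ := by
    have h1 := hA.card_mul_card
    have h2 := hA₁.card_mul_card
    have hNpos : 0 < Nat.card N := Nat.card_pos
    exact Nat.eq_of_mul_eq_mul_right hNpos (h1.trans h2.symm)
  obtain ⟨i, hi⟩ := IsPGroup.iff_card.1 hP
  obtain ⟨i₁, hi₁⟩ := IsPGroup.iff_card.1 hP₁
  have hcardK : Nat.card K₁ = Nat.card K := by
    have e : Nat.card K * p ^ i = Nat.card K₁ * p ^ i₁ := by
      rw [← hi, ← hi₁, hKP, hK₁P, hcardA]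
    have d1 : Nat.card K ∣ Nat.card K₁ := by
      have : Nat.card K ∣ Nat.card K₁ * p ^ i₁ := Dvd.intro _ e
      exact (Nat.Coprime.pow_right i₁ hKcop).dvd_of_dvd_mul_right this
    have d2 : Nat.card K₁ ∣ Nat.card K := by
      have : Nat.card K₁ ∣ Nat.card K * p ^ i := Dvd.intro _ e.symm
      exact (Nat.Coprime.pow_right i hK₁cop).dvd_of_dvd_mul_right this
    exact Nat.dvd_antisymm d2 d1
  -- S2 : conjugacy of K and K₁
  have hsolv : Group.IsSolvable N := by
    have : Group.IsNilpotent N := hN.isNilpotent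
    infer_instance
  have hcopNK : (Nat.card N).Coprime (Nat.card K) := by
    rw [hj]; exact (Nat.Coprime.pow_right j hKcop).symm
  obtain ⟨n, hnN, hK₁eq⟩ := Cfsg.Agent.Helper24.sz_conj_internal N K K₁
    (by rw [Subgroup.normalizer_eq_top]; exact le_top) hsolv hcopNK hcardK hS1
  refine ⟨n, hnN, ?_⟩
  set A₂ := A.map (MulAut.conj n).toMonoidHom with hA₂
  set M := Subgroup.normalizer (K₁ : Set G) with hM
  -- A₂ ≤ M
  have hA₂M : A₂ ≤ M := by
    rw [hM, Subgroup.le_normalizer_iff]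
    rintro _ ⟨a, ha, rfl⟩ x hx
    rw [hK₁eq] at hx ⊢
    obtain ⟨k, hk, rfl⟩ := hx
    have hnorm := Subgroup.le_normalizer_iff.1 hAK a ha k hk
    refine ⟨a * k * a⁻¹, hnorm, ?_⟩
    simp [mul_assoc]
  -- M ⊓ N = ⊥
  have hMN : M ⊓ N = ⊥ := by
    rw [eq_bot_iff]
    -- first: M ⊓ N centralizes K₁
    have hcent : ∀ c ∈ M ⊓ N, ∀ k ∈ K₁, c * k = k * c := by
      intro c hc k hk
      obtain ⟨hcM, hcN⟩ := Subgroup.mem_inf.1 hc
      have h1 : c * k * c⁻¹ * k⁻¹ ∈ K₁ := by
        have := (Subgroup.le_normalizer_iff.1 (le_refl M)) c hcM k hk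
        exact mul_mem this (inv_mem hk)
      have h2 : c * k * c⁻¹ * k⁻¹ ∈ N := by
        have : c * k * c⁻¹ * k⁻¹ = c * (k * c⁻¹ * k⁻¹) := by simp [mul_assoc]
        rw [this]
        exact mul_mem hcN ((inferInstance : N.Normal).conj_mem _ (inv_mem hcN) k)
      have h3 : c * k * c⁻¹ * k⁻¹ ∈ A₁ ⊓ N := Subgroup.mem_inf.2 ⟨hK₁A h1, h2⟩
      rw [hA₁N, Subgroup.mem_bot] at h3
      have := mul_inv_eq_one.1 h3
      calc c * k = c * k * c⁻¹ * c := by simp
        _ = k * c := by rw [this]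
    set CN := M ⊓ N with hCN
    by_contra hne
    have hCNne : CN ≠ ⊥ := fun h => hne (h ▸ le_refl _)
    -- P₁ normalizes CN
    have hP₁CN : P₁ ≤ Subgroup.normalizer (CN : Set G) := by
      rw [Subgroup.le_normalizer_iff]
      intro x hx c hc
      obtain ⟨hcM, hcN⟩ := Subgroup.mem_inf.1 hc
      have hxM : x ∈ M := hAK₁ (hP₁A hx)
      exact Subgroup.mem_inf.2
        ⟨mul_mem (mul_mem hxM hcM) (inv_mem hxM), (inferInstance : N.Normal).conj_mem c hcN x⟩
    have hCNp : IsPGroup p CN := hN.to_le inf_le_right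
    set T := P₁ ⊔ CN with hT
    have hTp : IsPGroup p T := IsPGroup.to_sup_of_normal_right' hP₁ hCNp hP₁CN
    have : Group.IsNilpotent T := hTp.isNilpotent
    have hTnorm : T ≤ Subgroup.normalizer (CN : Set G) := sup_le hP₁CN Subgroup.le_normalizer
    have : (CN.subgroupOf T).Normal := Subgroup.normal_subgroupOf_of_le_normalizer hTnorm
    have hne' : CN.subgroupOf T ≠ ⊥ := by
      intro h
      rw [Subgroup.subgroupOf_eq_bot] at h
      apply hCNne
      rw [disjoint_iff, inf_eq_left.2 (le_sup_right : CN ≤ T)] at h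
      exact h
    have hcen := Cfsg.Agent.Helper62.normal_inf_center_ne_bot (CN.subgroupOf T) hne'
    obtain ⟨⟨c, hcmem⟩, hc1⟩ := (Subgroup.ne_bot_iff_exists_ne_one).1 hcen
    obtain ⟨hcCN, hcZ⟩ := Subgroup.mem_inf.1 hcmem
    have hcCN' : (c : G) ∈ CN := Subgroup.mem_subgroupOf.1 hcCN
    have hcN : (c : G) ∈ N := (Subgroup.mem_inf.1 hcCN').2
    have hcne : (c : G) ≠ 1 := by
      intro h
      apply hc1
      apply Subtype.ext
      apply Subtype.ext
      simpa using h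
    apply hcne
    apply hC₁ (c : G) hcN
    -- centralizer of c contains K₁ and P₁
    have hle : A₁ ≤ Subgroup.centralizer ({(c : G)} : Set G) := by
      rw [← hK₁Psup]
      apply sup_le
      · intro k hk
        rw [Subgroup.mem_centralizer_iff]
        rintro _ rfl
        exact hcent (c : G) hcCN' k hk
      · intro x hx
        rw [Subgroup.mem_centralizer_iff]
        rintro _ rfl
        have hxT : x ∈ T := (le_sup_left : P₁ ≤ T) hx
        have := Subgroup.mem_center_iff.1 hcZ ⟨x, hxT⟩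
        have h2 := congrArg Subtype.val this
        simpa using h2.symm
    intro a ha
    have := Subgroup.mem_centralizer_iff.1 (hle ha) (c : G) rfl
    rw [← this]; simp
  -- M ≤ A₁
  have hMA₁ : M ≤ A₁ := by
    intro m hm
    obtain ⟨a, ha, n', hn', rfl⟩ := exists_mul_of_isComplement' hA₁ m
    have haM : a ∈ M := hAK₁ ha
    have hn'M : n' ∈ M := by
      have : n' = a⁻¹ * (a * n') := by simp
      rw [this]
      exact mul_mem (inv_mem haM) hm
    have : n' ∈ M ⊓ N := Subgroup.mem_inf.2 ⟨hn'M, hn'⟩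
    rw [hMN, Subgroup.mem_bot] at this
    rw [this, mul_one]; exact ha
  have hle : A₂ ≤ A₁ := hA₂M.trans hMA₁
  have hcard : Nat.card A₂ = Nat.card A :=
    Subgroup.card_map_of_injective (MulAut.conj n).injective
  exact (Subgroup.eq_of_le_of_card_ge hle (by rw [hcard, hcardA])).symm

end Cfsg.Agent.S4043
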