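import Mathlib
import Cfsg.Statements.S1377
import Cfsg.Agent.S1375
import Cfsg.Agent.S1433
import Cfsg.Agent.S1374
import Cfsg.Agent.Lib.Helper75.SigmaFusion
import Cfsg.Agent.Lib.Helper25.BGNat
import Cfsg.Agent.Lib.Helper25.BGCount

set_option autoImplicit false
open Cfsg

namespace Cfsg.Agent.S1377

open Subgroup
open Cfsg.Agent.Helper79.BG10
open Cfsg.Agent.Helper25.BGNat
open Cfsg.Agent.Helper25.BGCount

/-- The data of S1375 for a nonidentity element of `M_σ` whose centralizer is not in `M`. -/
theorem supportR_data {G : Type*} [Group G] [Finite G] (hG : Cfsg.IsMinSimpleOddOrder G)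
    (M : Subgroup G) (hM : IsCoatom M) (x : G) (hx : x ∈ Cfsg.sigmaCore M) (hx1 : x ≠ 1)
    (hxM : ¬ Subgroup.centralizer ({x} : Set G) ≤ M) :
    Subgroup.centralizer ({x} : Set G) ≤ Subgroup.normalizer ((Cfsg.supportR M x : Subgroup G) : Set G) ∧
      Cfsg.IsComplIn (M ⊓ Subgroup.centralizer ({x} : Set G)) (Cfsg.supportR M x)
        (Subgroup.centralizer ({x} : Set G)) := by
  obtain ⟨N, ⟨hN, hxN⟩, huniq, hσF, hnorm, hcompl, -, -⟩ := Cfsg.Agent.S1375.result hG M hM x hx hx1 hxM
  have hR : Cfsg.supportR M x = Cfsg.sigmaCore N ⊓ Subgroup.centralizer ({x} : Set G) := by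
    rw [supportR_eq_of_unique hxM hN hxN huniq, hσF]
  rw [hR]
  exact ⟨hnorm, hcompl⟩

/-- Let G be a minimal simple group of odd order and M a maximal subgroup. For x ≠ 1 in M_σ let R(x) = 1 if C_G(x) ≤ M and otherwise R(x) = C_{N_F}(x) for the unique maximal subgroup N containing C_G(x). Then the union over G-conjugates of the cosets x R(x) has cardinality (#M_σ − 1) times the index of M. -/
theorem result {G : Type*} [Group G] [Finite G] (hG : Cfsg.IsMinSimpleOddOrder G)
    (M : Subgroup G) (hM : IsCoatom M) :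
    Set.ncard (Cfsg.tildeOf M ((Cfsg.sigmaCore M : Set G) \ {1})) = (Nat.card (Cfsg.sigmaCore M) - 1) * M.index := by
  by_cases hS : Cfsg.sigmaCore M = ⊥
  · have hempty : Cfsg.tildeOf M ((Cfsg.sigmaCore M : Set G) \ {1}) = ∅ := by
      rw [Set.eq_empty_iff_forall_notMem]
      rintro u ⟨a, ⟨ha, ha1⟩, -⟩
      rw [hS] at ha
      exact ha1 (by simpa using ha)
    rw [hempty, hS]
    simp
  · have hSM : Cfsg.sigmaCore M ≤ M := by
      unfold Cfsg.sigmaCore
      exact Subgroup.map_subtype_le _
    have hcjM : ∀ m ∈ M, cj m M = M := fun m hm => cj_eq_self_of_mem hm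
    have hcov : Cover M (Cfsg.sigmaCore M) (Cfsg.supportR M) := by
      refine
        { normal := ?_
          equivar := ?_
          le_cent := ?_
          normal_cent := ?_
          decomp := ?_
          inf_bot := ?_
          fusion := ?_
          disj := ?_ }
      · intro m hm a ha
        have := conj_mem_sigmaCore_cj (g := m) ha
        rwa [hcjM m hm] at this
      · intro m hm a _ _
        have := supportR_cj m M a
        rwa [hcjM m hm] at this
      · intro a _ _
        exact supportR_le_centralizer M a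
      · intro a ha ha1 c hc
        by_cases hle : Subgroup.centralizer ({a} : Set G) ≤ M
        · rw [supportR_eq_bot_of_le hle]
          simp
        · exact cj_eq_self_of_mem_normalizer ((supportR_data hG M hM a ha ha1 hle).1 hc)
      · intro a ha ha1 c hc
        by_cases hle : Subgroup.centralizer ({a} : Set G) ≤ M
        · exact ⟨1, one_mem _, c, hle hc, (one_mul c).symm⟩
        · obtain ⟨-, -, -, hdec⟩ := (supportR_data hG M hM a ha ha1 hle).2
          obtain ⟨m, hm, r, hr, hcm⟩ := hdec c⁻¹ (inv_mem hc)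
          refine ⟨r⁻¹, inv_mem hr, m⁻¹, inv_mem hm.1, ?_⟩
          have : c = (c⁻¹)⁻¹ := (inv_inv c).symm
          rw [this, hcm]; group
      · intro a ha ha1
        by_cases hle : Subgroup.centralizer ({a} : Set G) ≤ M
        · rw [supportR_eq_bot_of_le hle]
          simp
        · obtain ⟨-, -, hbot, -⟩ := (supportR_data hG M hM a ha ha1 hle).2
          rw [eq_bot_iff]
          intro x hx
          rw [← hbot]
          exact ⟨⟨hx.2, supportR_le_centralizer M a hx.1⟩, hx.1⟩
      · intro a ha _ z hz
        haveI : IsSimpleGroup G := hG.2.1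
        exact Cfsg.Agent.Helper75.SigmaFusion.sigmaCore_fusion M hM
          (fun x hx hx1 => Cfsg.Agent.S1374.result hG M hM x hx hx1) a ha z hz
      · intro a ha ha1 b hb hb1 y r hr s hs he
        by_contra hne
        have hb' : y * b * y⁻¹ ∈ Cfsg.sigmaCore (cj y M) := conj_mem_sigmaCore_cj hb
        have hb1' : y * b * y⁻¹ ≠ 1 := Cover.conj_ne_one hb1
        have hs' : y * s * y⁻¹ ∈ Cfsg.supportR (cj y M) (y * b * y⁻¹) := conj_mem_supportR_cj hs
        have := Cfsg.Agent.S1433.result hG M (cj y M) hM (isCoatom_cj hM) a (y * b * y⁻¹) ha hb'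
          ha1 hb1' hne r hr (y * s * y⁻¹) hs'
        apply this
        rw [he]; group
    exact hcov.ncard_eq

end Cfsg.Agent.S1377
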