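import Cfsg.Statements.S1351
-- import your own Cfsg.Agent.* helpers here
import Cfsg.Agent.Lib.Helper9.BG147h
import Cfsg.Agent.Lib.Helper25.BG14Disj
import Cfsg.Agent.Lib.Helper25.BG14T
import Cfsg.Agent.S1350
import Cfsg.Agent.S1430
import Cfsg.Agent.S1431
import Cfsg.Agent.S1432
import Cfsg.Agent.S1414
import Cfsg.Agent.S1403
import Cfsg.Agent.S1423
import Cfsg.Agent.S1426
import Cfsg.Agent.S1429
import Cfsg.Agent.S1377

set_option autoImplicit false
open Cfsg

namespace Cfsg.Agent.S1351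

/-- Let G be a minimal simple group of odd order and M a maximal subgroup. Then M possesses a Hall κ(M)-subgroup, and every Hall κ(M)-subgroup of M is cyclic. -/
theorem result {G : Type*} [Group G] [Finite G] (hG : Cfsg.IsMinSimpleOddOrder G)
    (M : Subgroup G) (hM : IsCoatom M) :
    (∃ K : Subgroup G, Cfsg.IsPiHallOf (Cfsg.kappa M) K M) ∧
      ∀ K : Subgroup G, Cfsg.IsPiHallOf (Cfsg.kappa M) K M → IsCyclic K := by
  classical
  have rows : Cfsg.Agent.Helper9.BG147.Rows G :=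
    { hall := fun L hL =>
        let h0 := Cfsg.Agent.S1350.result hG L hL
        ⟨h0.1, h0.2.1⟩
      pp := fun L J hL hJ hJ1 => by
        have h0 := Cfsg.Agent.S1350.result hG L hL
        have h1 := Cfsg.Agent.S1430.result hG L hL J hJ hJ1
        have h2 := Cfsg.Agent.S1431.result hG L hL J hJ hJ1
        exact ⟨hL, hJ, hJ1, h0.1, h0.2.1, h1.1, h1.2.1, h1.2.2, h2.1, h2.2.2.1, h2.2.2.2⟩
      h1432 := fun L hL x hx hx1 x' hx' hx'1 hσ =>
        Cfsg.Agent.S1432.result hG L hL x hx hx1 x' hx' hx'1 hσ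
      h1414 := fun L hL p hp hpM hpβ =>
        ((Cfsg.Agent.S1414.result hG L hL).2.2.2.2 p hp hpM hpβ).2.1
      h1403 := fun R h1 h2 h3 => Cfsg.Agent.S1403.result hG R h1 h2 (Or.inl h3)
      h1423 := fun L hL p _ hp X hXM hXc hX' =>
        (Cfsg.Agent.S1423.result hG L hL p hp X hXM hXc (Classical.arbitrary _) (Or.inr hX')).1
      h1426 := fun L hL E hE => (Cfsg.Agent.S1426.result hG L hL E hE).1
      h1429 := fun L hL hP1 p _ hpM hp S =>
        let h := Cfsg.Agent.S1429.result hG L hL hP1 p hpM hp S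
        ⟨h.2.1, h.2.2⟩ }
  constructor
  · obtain ⟨J, hJ, -⟩ := Cfsg.Agent.Helper9.BG147.exists_hall_ge (π := Cfsg.kappa M) (M := M)
      (Y := ⊥) (Cfsg.Agent.Helper34.BG.solvable_of_ne_top hG hM.1) bot_le
      (fun p hp hpd => by
        rw [Subgroup.card_bot] at hpd
        exact absurd (Nat.dvd_one.mp hpd) hp.one_lt.ne')
    exact ⟨J, hJ⟩
  · intro K hK
    exact Cfsg.Agent.Helper9.BG147.isCyclic_of_isPiHallOf_kappa hG rows
      (fun L hL => Cfsg.Agent.S1377.result hG L hL)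
      (Cfsg.Agent.Helper25.BG14Disj.part1 hG)
      (fun L J hL hJ hJ1 k hk hk1 y hy hy1 N hN g =>
        Cfsg.Agent.Helper25.BG14T.mul_not_mem_tilde hG L J hL hJ hJ1 k y hk hk1 hy hy1 N hN g)
      hM hK

end Cfsg.Agent.S1351
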