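import Cfsg.Statements.S1365
import Cfsg.Agent.S1350
import Cfsg.Agent.S1426
import Cfsg.Agent.S1430
import Cfsg.Agent.Lib.Helper55.BGDecomp2
import Cfsg.Agent.Lib.Helper55.BGCyclic
import Cfsg.Agent.Lib.Helper24.Averaging
import Cfsg.Agent.Lib.Helper98.BGK

set_option autoImplicit false
open Cfsg

namespace Cfsg.Agent.S1365

open Subgroup
open scoped commutatorElement
open Cfsg.Agent.Helper55.BGB Cfsg.Agent.Helper98.BGK

/-- `g x g⁻¹ ∈ X` for `g` in the normalizer of `X`. -/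
private theorem conj_mem_of_mem_normalizer {G : Type*} [Group G] {X : Subgroup G} {g x : G}
    (hg : g ∈ normalizer (X : Set G)) (hx : x ∈ X) : g * x * g⁻¹ ∈ X :=
  (mem_normalizer_iff.mp hg x).mp hx

theorem result {G : Type*} [Group G] [Finite G] (hG : Cfsg.IsMinSimpleOddOrder G)
    (M : Subgroup G) (hM : IsCoatom M) (K U : Subgroup G) (hKU : Cfsg.IsSigmaDecomposition M K U) (hK1 : K ≠ ⊥) :
    ⁅M, M⁆ = U ⊔ Cfsg.sigmaCore M ∧ (Cfsg.sigmaCore M ⊓ Subgroup.centralizer (K : Set G)) ≤ ⁅⁅M, M⁆, ⁅M, M⁆⁆ := by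
  have : IsSimpleGroup G := hG.2.1
  have hsol : Group.IsSolvable M := hG.2.2.2 M hM.1
  obtain ⟨hHallσ, -, -⟩ := Cfsg.Agent.S1350.result hG M hM
  obtain ⟨-, ⟨U0, -, hU0H, hKU0, hfpf⟩, -⟩ := Cfsg.Agent.S1430.result hG M hM K hKU.hall hK1
  obtain ⟨l, hlM, hl⟩ := exists_conj_of_hall hsol hKU hHallσ hU0H
  have hSM : Cfsg.sigmaCore M ≤ M := sigmaCore_le M
  have hMS : M ≤ normalizer ((Cfsg.sigmaCore M : Subgroup G) : Set G) := le_normalizer_sigmaCore M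
  have hUM : U ≤ M := hKU.compl.1
  have hKM : K ≤ M := hKU.hall.1
  have hU0M : U0 ≤ M := hU0H.1
  have hKc : ∀ a ∈ K, ∀ b ∈ K, a * b = b * a := fun a ha b hb => commute_of_isCyclic hKU.cyclic ha hb
  obtain ⟨⟨k0, hk0⟩, hk01⟩ := (Subgroup.ne_bot_iff_exists_ne_one).mp hK1
  have hk01' : k0 ≠ 1 := fun h => hk01 (Subtype.ext h)
  -- conjugation facts
  have hKS : ∀ k ∈ K, ∀ s ∈ Cfsg.sigmaCore M, k * s * k⁻¹ ∈ Cfsg.sigmaCore M :=
    fun k hk s hs => conj_mem_of_mem_normalizer (hMS (hKM hk)) hs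
  have hKU' : ∀ k ∈ K, ∀ u ∈ U, k * u * k⁻¹ ∈ U :=
    fun k hk u hu => conj_mem_of_mem_normalizer (hKU.normal hk) hu
  have hKD : ∀ k ∈ K, ∀ d ∈ U ⊔ Cfsg.sigmaCore M, k * d * k⁻¹ ∈ U ⊔ Cfsg.sigmaCore M := by
    intro k hk d hd
    have hUS : ∀ u ∈ U, ∀ s ∈ Cfsg.sigmaCore M, u * s * u⁻¹ ∈ Cfsg.sigmaCore M :=
      fun u hu s hs => conj_mem_of_mem_normalizer (hMS (hUM hu)) hs
    rw [sup_comm] at hd
    obtain ⟨s, hs, u, hu, rfl⟩ := exists_mul_of_mem_sup hUS hd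
    have : k * (s * u) * k⁻¹ = (k * s * k⁻¹) * (k * u * k⁻¹) := by group
    rw [this]
    exact mul_mem (mem_sup_right (hKS k hk s hs)) (mem_sup_left (hKU' k hk u hu))
  -- decomposition of M
  have hdecK : ∀ b ∈ K ⊔ Cfsg.sigmaCore M, ∃ s ∈ Cfsg.sigmaCore M, ∃ k ∈ K, b = s * k := by
    intro b hb
    rw [sup_comm] at hb
    exact exists_mul_of_mem_sup hKS hb
  have hdec : ∀ m ∈ M, ∃ d ∈ U ⊔ Cfsg.sigmaCore M, ∃ k ∈ K, m = d * k := by
    intro m hm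
    obtain ⟨a, ha, b, hb, rfl⟩ := hKU.compl.2.2.2 m hm
    obtain ⟨s, hs, k, hk, rfl⟩ := hdecK b hb
    exact ⟨a * s, mul_mem (mem_sup_left ha) (mem_sup_right hs), k, hk, by group⟩
  have hle : ⁅M, M⁆ ≤ U ⊔ Cfsg.sigmaCore M :=
    commutator_le_of_decomp (U ⊔ Cfsg.sigmaCore M) K M hKD hKc hdec
  -- `U0 ≤ [M, M]`
  have hU0comm := comm_surj U0 k0 (hKU0 hk0) (hfpf k0 hk0 hk01')
  have hMnorm := le_normalizer_commutator M
  have hU0H' : U0 ≤ ⁅M, M⁆ := by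
    intro u hu
    obtain ⟨v, hv, rfl⟩ := hU0comm u hu
    have : v * k0 * v⁻¹ * k0⁻¹ = ⁅v, k0⁆ := by rw [commutatorElement_def]
    rw [this]
    exact Subgroup.commutator_mem_commutator (hU0M hv) (hKM hk0)
  have hUH : U ≤ ⁅M, M⁆ := by
    intro u hu
    rw [hl] at hu
    obtain ⟨u0, hu0, rfl⟩ := hu
    simp only [MulEquiv.coe_toMonoidHom, MulAut.conj_apply]
    exact conj_mem_of_mem_normalizer (hMnorm hlM) (hU0H' hu0)
  -- the complement `U ⊔ K`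
  have hcardUK : Nat.card ↥(U ⊔ K) ∣ Nat.card U * Nat.card K := by
    have := Cfsg.Agent.Helper50.card_sup_mul_card_inf_of_le_normalizer U K hKU.normal
    exact Dvd.intro _ this
  have hE : Cfsg.IsComplIn (U ⊔ K) (Cfsg.sigmaCore M) M := by
    refine ⟨sup_le hUM hKM, hSM, ?_, ?_⟩
    · by_contra hne
      have hcard : Nat.card ((U ⊔ K) ⊓ Cfsg.sigmaCore M : Subgroup G) ≠ 1 :=
        fun h1 => hne ((Subgroup.card_eq_one).mp h1)
      obtain ⟨p, hp, hpd⟩ := Nat.exists_prime_and_dvd hcard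
      have h1 : p ∣ Nat.card U * Nat.card K :=
        (hpd.trans (Subgroup.card_dvd_of_le inf_le_left)).trans hcardUK
      have h2 : p ∈ Cfsg.sigma M :=
        isPi_sigmaCore M p hp (hpd.trans (Subgroup.card_dvd_of_le inf_le_right))
      rcases (Nat.Prime.dvd_mul hp).mp h1 with h | h
      · exact (U_prime_not_mem hKU hHallσ hp h).2 h2
      · exact not_mem_sigma_of_mem_kappa (hKU.hall.2.1 p hp h) h2
    · intro m hm
      obtain ⟨a, ha, b, hb, rfl⟩ := hKU.compl.2.2.2 m hm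
      obtain ⟨s, hs, k, hk, rfl⟩ := hdecK b hb
      refine ⟨a * k, mul_mem (mem_sup_left ha) (mem_sup_right hk), k⁻¹ * s * k⁻¹⁻¹,
        hKS k⁻¹ (inv_mem hk) s hs, by group⟩
  obtain ⟨-, hSE, -⟩ := Cfsg.Agent.S1426.result hG M hM (U ⊔ K) hE
  have hSH : Cfsg.sigmaCore M ≤ ⁅M, M⁆ := by
    rw [← hSE]; exact Subgroup.commutator_mono hSM (sup_le hUM hKM)
  have hEq : ⁅M, M⁆ = U ⊔ Cfsg.sigmaCore M := le_antisymm hle (sup_le hUH hSH)
  refine ⟨hEq, ?_⟩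
  -- second part
  have hKH : K ≤ normalizer ((⁅M, M⁆ : Subgroup G) : Set G) := hKM.trans hMnorm
  have hU0N : U0 ≤ ⁅⁅M, M⁆, K⁆ := by
    intro u hu
    obtain ⟨v, hv, rfl⟩ := hU0comm u hu
    have : v * k0 * v⁻¹ * k0⁻¹ = ⁅v, k0⁆ := by rw [commutatorElement_def]
    rw [this]
    exact Subgroup.commutator_mem_commutator (hU0H' hv) hk0
  have hUN : U ≤ ⁅⁅M, M⁆, K⁆ := by
    intro u hu
    rw [hl] at hu
    obtain ⟨u0, hu0, rfl⟩ := hu
    simp only [MulEquiv.coe_toMonoidHom, MulAut.conj_apply]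
    obtain ⟨d, hd, k, hk, rfl⟩ := hdec l hlM
    have e : d * k * u0 * (d * k)⁻¹ = d * (k * u0 * k⁻¹) * d⁻¹ := by group
    rw [e]
    refine conj_mem_commutator_left _ K (hEq ▸ hd) _ (hU0N ?_)
    exact conj_mem_of_mem_normalizer (hKU0 hk) hu0
  have hSN : Cfsg.sigmaCore M ≤ ⁅⁅M, M⁆, K⁆ := by
    rw [← hSE, Subgroup.commutator_le]
    intro s hs e he
    obtain ⟨u, hu, k, hk, rfl⟩ := exists_mul_of_mem_sup hKU' he
    have e1 : ⁅s, u * k⁆ = (s * u * s⁻¹) * u⁻¹ * (u * ⁅s, k⁆ * u⁻¹) := by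
      simp only [commutatorElement_def]; group
    rw [e1]
    refine mul_mem (mul_mem ?_ (inv_mem (hUN hu))) ?_
    · exact conj_mem_commutator_left _ K (hSH hs) _ (hUN hu)
    · exact conj_mem_commutator_left _ K (hUH hu) _
        (Subgroup.commutator_mem_commutator (hSH hs) hk)
  have hHN : ⁅M, M⁆ ≤ ⁅⁅M, M⁆, K⁆ := by
    rw [hEq]; rw [hEq] at hUN hSN; exact sup_le hUN hSN
  have hcop : (Nat.card ↥⁅M, M⁆).Coprime (Nat.card K) := by
    apply Nat.coprime_of_dvd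
    intro p hp hp1 hp2
    have hpk : p ∈ Cfsg.kappa M := hKU.hall.2.1 p hp hp2
    have hUS : Cfsg.sigmaCore M ≤ normalizer ((U : Subgroup G) : Set G) → True := fun _ => trivial
    have hdv : Nat.card ↥(Cfsg.sigmaCore M ⊔ U) ∣ Nat.card (Cfsg.sigmaCore M) * Nat.card U := by
      have := Cfsg.Agent.Helper50.card_sup_mul_card_inf_of_le_normalizer (Cfsg.sigmaCore M) U
        (hUM.trans hMS)
      exact Dvd.intro _ this
    rw [hEq, sup_comm] at hp1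
    rcases (Nat.Prime.dvd_mul hp).mp (hp1.trans hdv) with h | h
    · exact not_mem_sigma_of_mem_kappa hpk (isPi_sigmaCore M p hp h)
    · exact (U_prime_not_mem hKU hHallσ hp h).1 hpk
  have hav := Cfsg.Agent.Helper24.inf_centralizer_inf_commutator_le ⁅M, M⁆ K hKH hcop
  intro y hy
  exact hav ⟨⟨hSH hy.1, hy.2⟩, hHN (hSH hy.1)⟩

end Cfsg.Agent.S1365
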