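import Cfsg.Statements.S1352
import Cfsg.Agent.S1350
import Cfsg.Agent.S1365
import Cfsg.Agent.S1430
import Cfsg.Agent.Lib.Helper55.BGDecomp2

set_option autoImplicit false
open Cfsg

namespace Cfsg.Agent.S1352

/-- Let G be a minimal simple group of odd order, M a maximal subgroup and K a cyclic Hall κ(M)-subgroup of M. Then there is a subgroup U of M, normalized by K, with U ∩ K M_σ = 1 and M = U K M_σ; moreover U M_σ is normal in M for any such U. -/
theorem result {G : Type*} [Group G] [Finite G] (hG : Cfsg.IsMinSimpleOddOrder G)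
    (M : Subgroup G) (hM : IsCoatom M) (K : Subgroup G)
    (hKc : IsCyclic K) (hK : Cfsg.IsPiHallOf (Cfsg.kappa M) K M) :
    (∃ U : Subgroup G, Cfsg.IsSigmaDecomposition M K U) ∧
      ∀ U : Subgroup G, Cfsg.IsSigmaDecomposition M K U → M ≤ Subgroup.normalizer ((U ⊔ Cfsg.sigmaCore M : Subgroup G) : Set G) := by
  obtain ⟨hHallσ, -, -⟩ := Cfsg.Agent.S1350.result hG M hM
  constructor
  · by_cases hK1 : K = ⊥
    · obtain ⟨E, hE⟩ := Cfsg.Agent.Helper55.BGB.exists_compl_sigmaCore hHallσ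
      refine ⟨E, hKc, hK, ?_, ?_⟩
      · rw [hK1, bot_sup_eq]; exact hE
      · rw [hK1]; exact bot_le
    · obtain ⟨-, ⟨U', -, hU'H, hKU', -⟩, -⟩ := Cfsg.Agent.S1430.result hG M hM K hK hK1
      exact ⟨U', hKc, hK, Cfsg.Agent.Helper55.BGB.isComplIn_of_hall hK hHallσ hU'H, hKU'⟩
  · intro U hKU
    by_cases hK1 : K = ⊥
    · have hle : M ≤ U ⊔ Cfsg.sigmaCore M := by
        intro m hm
        obtain ⟨a, ha, b, hb, rfl⟩ := hKU.compl.2.2.2 m hm
        rw [hK1, bot_sup_eq] at hb
        exact mul_mem (Subgroup.mem_sup_left ha) (Subgroup.mem_sup_right hb)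
      have hge : U ⊔ Cfsg.sigmaCore M ≤ M :=
        sup_le hKU.compl.1 (Cfsg.Agent.Helper55.BGB.sigmaCore_le M)
      have heq : U ⊔ Cfsg.sigmaCore M = M := le_antisymm hge hle
      rw [heq]
      exact Subgroup.le_normalizer
    · obtain ⟨hM', -⟩ := Cfsg.Agent.S1365.result hG M hM K U hKU hK1
      rw [← hM']
      exact Cfsg.Agent.Helper55.BGB.le_normalizer_commutator M

end Cfsg.Agent.S1352
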