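import Cfsg.Statements.S1367
-- import your own Cfsg.Agent.* helpers here
import Cfsg.Agent.Lib.Helper9.BG147a
import Cfsg.Agent.S1350
import Cfsg.Agent.S1430
import Cfsg.Agent.S1431
import Cfsg.Agent.S1423
import Cfsg.Agent.S1426
import Cfsg.Agent.S1429

set_option autoImplicit false
open Cfsg

namespace Cfsg.Agent.S1367

/-- Let G be a minimal simple group of odd order, M a maximal subgroup with standard factorisation M = K U M_σ, K ≠ 1, K* = M_σ ∩ C_G(K), and M* a maximal subgroup with K = M*_σ ∩ C_G(K*) and K* a Hall κ(M*)-subgroup of M*. Then for subgroups X ≤ K* and Y ≤ K of prime order, M is the only maximal subgroup containing C_G(X) and M* the only one containing C_G(Y). -/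
theorem result {G : Type*} [Group G] [Finite G] (hG : Cfsg.IsMinSimpleOddOrder G)
    (M : Subgroup G) (hM : IsCoatom M) (K U : Subgroup G) (hKU : Cfsg.IsSigmaDecomposition M K U) (hK1 : K ≠ ⊥) (Mstar : Subgroup G) (hMstar : IsCoatom Mstar)
    (hKst : K = Cfsg.sigmaCore Mstar ⊓ Subgroup.centralizer ((Cfsg.sigmaCore M ⊓ Subgroup.centralizer (K : Set G)) : Set G))
    (hKstH : Cfsg.IsPiHallOf (Cfsg.kappa Mstar) (Cfsg.sigmaCore M ⊓ Subgroup.centralizer (K : Set G)) Mstar) :
    (∀ X : Subgroup G, X ≤ (Cfsg.sigmaCore M ⊓ Subgroup.centralizer (K : Set G)) → (Nat.card X).Prime →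
        Subgroup.centralizer (X : Set G) ≤ M ∧ ∀ L : Subgroup G, IsCoatom L → Subgroup.centralizer (X : Set G) ≤ L → L = M) ∧
      (∀ Y : Subgroup G, Y ≤ K → (Nat.card Y).Prime →
        Subgroup.centralizer (Y : Set G) ≤ Mstar ∧ ∀ L : Subgroup G, IsCoatom L → Subgroup.centralizer (Y : Set G) ≤ L → L = Mstar) := by
  classical
  have hK : Cfsg.IsPiHallOf (Cfsg.kappa M) K M := hKU.hall
  -- the two `P`-pairs
  have pp : Cfsg.Agent.Helper9.BG147.PPair M K := by
    have h0 := Cfsg.Agent.S1350.result hG M hM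
    have h1 := Cfsg.Agent.S1430.result hG M hM K hK hK1
    have h2 := Cfsg.Agent.S1431.result hG M hM K hK hK1
    exact ⟨hM, hK, hK1, h0.1, h0.2.1, h1.1, h1.2.1, h1.2.2, h2.1, h2.2.2.1, h2.2.2.2⟩
  have hKs1 := pp.Ks_ne_bot
  have pp' : Cfsg.Agent.Helper9.BG147.PPair Mstar
      (Cfsg.sigmaCore M ⊓ Subgroup.centralizer (K : Set G)) := by
    have h0 := Cfsg.Agent.S1350.result hG Mstar hMstar
    have h1 := Cfsg.Agent.S1430.result hG Mstar hMstar _ hKstH hKs1
    have h2 := Cfsg.Agent.S1431.result hG Mstar hMstar _ hKstH hKs1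
    exact ⟨hMstar, hKstH, hKs1, h0.1, h0.2.1, h1.1, h1.2.1, h1.2.2, h2.1, h2.2.2.1, h2.2.2.2⟩
  constructor
  · intro X hX hXp
    exact Cfsg.Agent.Helper9.BG147.lemmaC hG pp
      (fun p _ hp X hXM hXc hX' =>
        (Cfsg.Agent.S1423.result hG M hM p hp X hXM hXc (Classical.arbitrary _) (Or.inr hX')).1)
      (fun E hE => (Cfsg.Agent.S1426.result hG M hM E hE).1)
      (fun hP1 p _ hpM hp S =>
        let h := Cfsg.Agent.S1429.result hG M hM hP1 p hpM hp S
        ⟨h.2.1, h.2.2⟩)
      (Cfsg.Agent.Helper9.BG147.isCyclic_of_hall_kappa hKstH) X hX hXp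
  · intro Y hY hYp
    have hYle : Y ≤ Cfsg.Agent.Helper9.BG147.Ks Mstar
        (Cfsg.sigmaCore M ⊓ Subgroup.centralizer (K : Set G)) := by
      intro y hy
      have := hY hy
      rw [hKst] at this
      exact this
    exact Cfsg.Agent.Helper9.BG147.lemmaC hG pp'
      (fun p _ hp X hXM hXc hX' =>
        (Cfsg.Agent.S1423.result hG Mstar hMstar p hp X hXM hXc (Classical.arbitrary _)
          (Or.inr hX')).1)
      (fun E hE => (Cfsg.Agent.S1426.result hG Mstar hMstar E hE).1)
      (fun hP1 p _ hpM hp S =>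
        let h := Cfsg.Agent.S1429.result hG Mstar hMstar hP1 p hpM hp S
        ⟨h.2.1, h.2.2⟩)
      (fun q A _ hA _ => by
        have hAK : A ≤ K := by
          intro a ha
          have := hA ha
          rw [hKst]
          exact this
        exact Cfsg.Agent.Helper9.BG147.isCyclic_of_le hKU.cyclic hAK)
      Y hYle hYp

end Cfsg.Agent.S1367
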