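import Cfsg.Statements.S1366
-- import your own Cfsg.Agent.* helpers here
import Cfsg.Agent.Lib.Helper9.BG147h
import Cfsg.Agent.Lib.Helper25.BG14Disj
import Cfsg.Agent.Lib.Helper25.BG14T
import Cfsg.Agent.S1350
import Cfsg.Agent.S1430
import Cfsg.Agent.S1431
import Cfsg.Agent.S1432
import Cfsg.Agent.S1414
import Cfsg.Agent.S1403
import Cfsg.Agent.S1423
import Cfsg.Agent.S1426
import Cfsg.Agent.S1429
import Cfsg.Agent.S1377
import Cfsg.Agent.S1367

set_option autoImplicit false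
open Cfsg

namespace Cfsg.Agent.S1366

/-- Let G be a minimal simple group of odd order, M a maximal subgroup with standard factorisation M = K U M_σ, K ≠ 1, and K* = M_σ ∩ C_G(K). Then there is exactly one maximal subgroup M* of G such that K = M*_σ ∩ C_G(K*) and K* is a Hall κ(M*)-subgroup of M* (in particular κ(M*) is nonempty). -/
theorem result {G : Type*} [Group G] [Finite G] (hG : Cfsg.IsMinSimpleOddOrder G)
    (M : Subgroup G) (hM : IsCoatom M) (K U : Subgroup G) (hKU : Cfsg.IsSigmaDecomposition M K U) (hK1 : K ≠ ⊥) :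
    ∃! Mstar : Subgroup G, IsCoatom Mstar ∧ K = Cfsg.sigmaCore Mstar ⊓ Subgroup.centralizer ((Cfsg.sigmaCore M ⊓ Subgroup.centralizer (K : Set G)) : Set G) ∧
        Cfsg.IsPiHallOf (Cfsg.kappa Mstar) (Cfsg.sigmaCore M ⊓ Subgroup.centralizer (K : Set G)) Mstar := by
  classical
  have hK : Cfsg.IsPiHallOf (Cfsg.kappa M) K M := hKU.hall
  have rows : Cfsg.Agent.Helper9.BG147.Rows G :=
    { hall := fun L hL =>
        let h0 := Cfsg.Agent.S1350.result hG L hL
        ⟨h0.1, h0.2.1⟩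
      pp := fun L J hL hJ hJ1 => by
        have h0 := Cfsg.Agent.S1350.result hG L hL
        have h1 := Cfsg.Agent.S1430.result hG L hL J hJ hJ1
        have h2 := Cfsg.Agent.S1431.result hG L hL J hJ hJ1
        exact ⟨hL, hJ, hJ1, h0.1, h0.2.1, h1.1, h1.2.1, h1.2.2, h2.1, h2.2.2.1, h2.2.2.2⟩
      h1432 := fun L hL x hx hx1 x' hx' hx'1 hσ =>
        Cfsg.Agent.S1432.result hG L hL x hx hx1 x' hx' hx'1 hσ
      h1414 := fun L hL p hp hpM hpβ =>
        ((Cfsg.Agent.S1414.result hG L hL).2.2.2.2 p hp hpM hpβ).2.1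
      h1403 := fun R h1 h2 h3 => Cfsg.Agent.S1403.result hG R h1 h2 (Or.inl h3)
      h1423 := fun L hL p _ hp X hXM hXc hX' =>
        (Cfsg.Agent.S1423.result hG L hL p hp X hXM hXc (Classical.arbitrary _) (Or.inr hX')).1
      h1426 := fun L hL E hE => (Cfsg.Agent.S1426.result hG L hL E hE).1
      h1429 := fun L hL hP1 p _ hpM hp S =>
        let h := Cfsg.Agent.S1429.result hG L hL hP1 p hpM hp S
        ⟨h.2.1, h.2.2⟩ }
  have pp : Cfsg.Agent.Helper9.BG147.PPair M K := rows.pp M K hM hK hK1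
  obtain ⟨Mstar, hMs, hKst, hKstH⟩ :=
    Cfsg.Agent.Helper9.BG147.exists_partner hG rows pp hKU.cyclic
      (fun L hL => Cfsg.Agent.S1377.result hG L hL)
      (Cfsg.Agent.Helper25.BG14Disj.part1 hG)
      (fun L J hL hJ hJ1 k hk hk1 y hy hy1 N hN g =>
        Cfsg.Agent.Helper25.BG14T.mul_not_mem_tilde hG L J hL hJ hJ1 k y hk hk1 hy hy1 N hN g)
  refine ⟨Mstar, ⟨hMs, hKst, hKstH⟩, ?_⟩
  rintro L ⟨hL, hKL, hKLH⟩
  -- uniqueness: both are the unique maximal subgroup containing `C_G(Y)`, `Y ≤ K` of prime order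
  obtain ⟨Y, hYK, hYp⟩ := Cfsg.Agent.Helper9.BG147.exists_prime_card_le hK1
  have h1 := (Cfsg.Agent.S1367.result hG M hM K U hKU hK1 Mstar hMs hKst hKstH).2 Y hYK hYp
  have h2 := (Cfsg.Agent.S1367.result hG M hM K U hKU hK1 L hL hKL hKLH).2 Y hYK hYp
  exact h1.2 L hL h2.1

end Cfsg.Agent.S1366
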