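import Cfsg.Statements.S0585
import Cfsg.Agent.Lib.Helper10.Frattini

set_option autoImplicit false
open Cfsg

namespace Cfsg.Agent.S0585

open Cfsg.Agent.Helper10

/-- If the Frattini subgroup of a finite group G is trivial, then every abelian normal subgroup of G has a complement in G. -/
theorem result {G : Type*} [Group G] [Finite G] (hΦ : frattini G = ⊥) (A : Subgroup G) [A.Normal] [IsMulCommutative A] : ∃ H : Subgroup G, Subgroup.IsComplement' A H := by
  classical
  have hfin : Set.Finite {H : Subgroup G | A ⊔ H = ⊤} := Set.toFinite _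
  have hne : {H : Subgroup G | A ⊔ H = ⊤}.Nonempty := ⟨⊤, sup_top_eq A⟩
  obtain ⟨H, hH, hmin⟩ := Set.exists_min_image _ (fun H : Subgroup G => Nat.card H) hfin hne
  have hH' : A ⊔ H = ⊤ := hH
  refine ⟨H, isComplement'_of_normal_of_sup_eq_top_of_inf_eq_bot hH' ?_⟩
  -- A ⊓ H is normal in G
  have hnorm : (A ⊓ H).Normal := by
    rw [← Subgroup.normalizer_eq_top_iff, eq_top_iff, ← hH']
    apply sup_le
    · -- A centralizes A ⊓ H
      refine le_trans ?_ (Subgroup.centralizer_le_normalizer _)
      intro a ha
      rw [Subgroup.mem_centralizer_iff]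
      intro x hx
      exact setLike_mul_comm hx.1 ha
    · have h1 : H ≤ Subgroup.normalizer (A : Set G) := by
        rw [Subgroup.normalizer_eq_top]; exact le_top
      have h2 : H ≤ Subgroup.normalizer (H : Set G) := Subgroup.le_normalizer
      exact (le_inf h1 h2).trans Subgroup.inf_normalizer_le_normalizer_inf
  have hle : A ⊓ H ≤ (frattini H).map H.subtype := by
    by_contra hcon
    obtain ⟨M, hMlt, hHM⟩ := exists_lt_sup_eq_of_not_le_map_frattini (inf_le_right : A ⊓ H ≤ H) hcon
    have hAM : A ⊔ M = ⊤ := by
      rw [eq_top_iff, ← hH']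
      apply sup_le le_sup_left
      refine hHM.trans ?_
      exact sup_le (inf_le_left.trans le_sup_left) le_sup_right
    have h1 := hmin M hAM
    have h2 : M = H := Subgroup.eq_of_le_of_card_ge hMlt.le h1
    exact hMlt.ne h2
  have := le_frattini_of_normal_of_le_map_frattini (A ⊓ H) H hle
  rw [hΦ] at this
  exact eq_bot_iff.mpr this

end Cfsg.Agent.S0585
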