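import Cfsg.Statements.S0586
import Cfsg.Agent.S0008
import Cfsg.Agent.S0575
import Cfsg.Agent.S0585
import Cfsg.Agent.Lib.Helper10.MinNormal
import Cfsg.Agent.Lib.Helper10.Frattini

set_option autoImplicit false
open Cfsg

namespace Cfsg.Agent.S0586

open Cfsg.Agent.Helper10

open scoped IsMulCommutative in
lemma isNilpotent_of_comm {G : Type*} [Group G] (N : Subgroup G) (h : IsMulCommutative N) :
    Group.IsNilpotent N := by
  infer_instance

/-- In a finite nilpotent group the commutator subgroup lies in the Frattini subgroup. -/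
lemma commutator_le_frattini_of_isNilpotent {F : Type*} [Group F] [Finite F] [hF : Group.IsNilpotent F] :
    commutator F ≤ frattini F := by
  unfold frattini Order.radical
  rw [le_iInf₂_iff]
  intro M hM
  have q := (Group.isNilpotent_of_finite_tfae (G := F)).out 0 2
  have hMn : M.Normal := (q.mp hF) M hM
  by_contra hle
  -- commutator F ⊔ M = ⊤, so F / M is perfect and nilpotent, hence trivial
  have htop := sup_eq_top_of_isCoatom_of_not_le hM hle
  haveI : Nontrivial (F ⧸ M) := by
    rw [← not_subsingleton_iff_nontrivial]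
    intro hss
    exact hM.1 (QuotientGroup.subsingleton_iff.mp hss)
  have hlt := Group.IsSolvable.commutator_lt_top_of_nontrivial (F ⧸ M)
  apply hlt.ne
  rw [eq_top_iff]
  intro q _
  obtain ⟨x, rfl⟩ := QuotientGroup.mk_surjective q
  have hx : x ∈ commutator F ⊔ M := by rw [htop]; trivial
  have hx' : x ∈ ((commutator F ⊔ M : Subgroup F) : Set F) := hx
  rw [Subgroup.mul_normal] at hx'
  obtain ⟨c, hc, m, hm, rfl⟩ := hx'
  have h1 : (QuotientGroup.mk (c * m) : F ⧸ M) = QuotientGroup.mk c := by
    rw [QuotientGroup.mk_mul, (QuotientGroup.eq_one_iff m).mpr hm, mul_one]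
  rw [h1]
  have h2 := map_derivedSeries_le_derivedSeries (QuotientGroup.mk' M) 1
  rw [derivedSeries_one, derivedSeries_one] at h2
  exact h2 ⟨c, hc, rfl⟩

/-- If the Frattini subgroup of a finite group G is trivial, then the Fitting subgroup of G equals the join of all abelian minimal normal subgroups of G. -/
theorem result {G : Type*} [Group G] [Finite G] (hΦ : frattini G = ⊥) : Cfsg.fittingSubgroup G = sSup {N : Subgroup G | N.Normal ∧ N ≠ ⊥ ∧ IsMulCommutative N ∧ ∀ K : Subgroup G, K.Normal → K ≤ N → K = ⊥ ∨ K = N} := by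
  set F := Cfsg.fittingSubgroup G with hF
  set S := sSup {N : Subgroup G | N.Normal ∧ N ≠ ⊥ ∧ IsMulCommutative N ∧ ∀ K : Subgroup G, K.Normal → K ≤ N → K = ⊥ ∨ K = N} with hS
  haveI hFnil : Group.IsNilpotent F := Cfsg.Agent.S0008.result
  haveI hFn : F.Normal := Cfsg.Agent.Helper70.fittingSubgroup_normal G
  have hSF : S ≤ F := by
    apply sSup_le
    rintro N ⟨hNn, _, hNab, _⟩
    apply le_sSup
    refine ⟨hNn, ?_⟩
    exact isNilpotent_of_comm N hNab
  -- frattini F = ⊥
  have hΦF : frattini F = ⊥ := by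
    have h1 := Cfsg.Agent.S0575.result F
    rw [hΦ, le_bot_iff, Subgroup.map_eq_bot_iff_of_injective _ F.subtype_injective] at h1
    exact h1
  -- F is abelian
  have hFab : ∀ x ∈ F, ∀ y ∈ F, x * y = y * x := by
    have h1 : commutator F = ⊥ := by
      rw [eq_bot_iff, ← hΦF]; exact commutator_le_frattini_of_isNilpotent
    have h2 := (commutator_eq_bot_iff (G := F)).mp h1
    intro x hx y hy
    have := (isMulCommutative_iff.mp h2) ⟨x, hx⟩ ⟨y, hy⟩
    exact congrArg Subtype.val this
  haveI hSn : S.Normal := Subgroup.sSup_normal _ (fun N hN => hN.1)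
  haveI hSab : IsMulCommutative S :=
    isMulCommutative_iff_of_setLike.mpr (fun x hx y hy => hFab x (hSF hx) y (hSF hy))
  obtain ⟨K, hK⟩ := Cfsg.Agent.S0585.result hΦ S
  have htop : S ⊔ K = ⊤ := hK.sup_eq_top
  have hbot : S ⊓ K = ⊥ := hK.disjoint.eq_bot
  -- F = S ⊔ (F ⊓ K)
  have hFeq : F = S ⊔ (F ⊓ K) := by
    have := dedekind_normal_eq S K F hSF
    rwa [htop, inf_top_eq] at this
  -- F ⊓ K is normal in G
  have hFKn : (F ⊓ K).Normal := by
    rw [← Subgroup.normalizer_eq_top_iff, eq_top_iff, ← htop]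
    apply sup_le
    · refine le_trans ?_ (Subgroup.centralizer_le_normalizer _)
      intro s hs
      rw [Subgroup.mem_centralizer_iff]
      intro x hx
      exact hFab x hx.1 s (hSF hs)
    · have h1 : K ≤ Subgroup.normalizer (F : Set G) := by
        rw [Subgroup.normalizer_eq_top]; exact le_top
      exact (le_inf h1 Subgroup.le_normalizer).trans Subgroup.inf_normalizer_le_normalizer_inf
  have hFK : F ⊓ K = ⊥ := by
    by_contra hne
    obtain ⟨N, hN, hNle⟩ := exists_isMinNormal_le (F ⊓ K) hne
    have hNS : N ≤ S := by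
      apply le_sSup
      refine ⟨hN.1, hN.2.1, ?_, hN.2.2⟩
      exact isMulCommutative_iff_of_setLike.mpr
        (fun x hx y hy => hFab x (hNle hx).1 y (hNle hy).1)
    have : N ≤ S ⊓ K := le_inf hNS (hNle.trans inf_le_right)
    rw [hbot, le_bot_iff] at this
    exact hN.2.1 this
  rw [hFeq, hFK, sup_bot_eq]

end Cfsg.Agent.S0586
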