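import Cfsg.Statements.S1353
import Mathlib
import Cfsg.Agent.S1350
import Cfsg.Agent.S1430
import Cfsg.Agent.Lib.Helper23.HallRel


set_option autoImplicit false
open Cfsg

namespace Cfsg.Agent.S1353

open Cfsg.Agent.Helper23

/-- Let G be a minimal simple group of odd order, M a maximal subgroup with standard factorisation M = K U M_σ. Then C_U(k) = 1 for every non-identity element k of K. -/
theorem result {G : Type*} [Group G] [Finite G] (hG : Cfsg.IsMinSimpleOddOrder G)
    (M : Subgroup G) (hM : IsCoatom M) (K U : Subgroup G) (hKU : Cfsg.IsSigmaDecomposition M K U) :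
    ∀ k ∈ K, k ≠ 1 → U ⊓ Subgroup.centralizer ({k} : Set G) = ⊥ := by
  intro k hk hk1
  classical
  have hK1 : K ≠ ⊥ := by
    intro h
    rw [h, Subgroup.mem_bot] at hk
    exact hk1 hk
  obtain ⟨hKM, hKκ, hKidx⟩ := hKU.hall
  obtain ⟨hUM, hBM, hUB, hprod⟩ := hKU.compl
  obtain ⟨⟨hσM, hσp, hσidx⟩, -, -⟩ := Cfsg.Agent.S1350.result hG M hM
  obtain ⟨-, ⟨U₁, -, ⟨hU₁M, hU₁p, hU₁idx⟩, hKU₁, hU₁c⟩, -⟩ :=
    Cfsg.Agent.S1430.result hG M hM K hKU.hall hK1
  have hKB : K ≤ K ⊔ Cfsg.sigmaCore M := le_sup_left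
  have hσB : Cfsg.sigmaCore M ≤ K ⊔ Cfsg.sigmaCore M := le_sup_right
  -- F1 : |M| = |U| |B|
  have F1 : Nat.card M = Nat.card U * Nat.card ↥(K ⊔ Cfsg.sigmaCore M) := by
    have hc : Subgroup.IsComplement' (U.subgroupOf M) ((K ⊔ Cfsg.sigmaCore M).subgroupOf M) := by
      apply Subgroup.isComplement'_of_disjoint_and_mul_eq_univ
      · rw [Subgroup.disjoint_def]
        intro x hxU hxB
        have h1 : (x : G) ∈ U ⊓ (K ⊔ Cfsg.sigmaCore M) := ⟨hxU, hxB⟩
        rw [hUB, Subgroup.mem_bot] at h1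
        exact Subtype.ext h1
      · rw [Set.eq_univ_iff_forall]
        intro m
        obtain ⟨a, ha, b, hb, hab⟩ := hprod m m.2
        exact Set.mem_mul.mpr ⟨⟨a, hUM ha⟩, ha, ⟨b, hBM hb⟩, hb, Subtype.ext hab.symm⟩
    have h1 := hc.card_mul_card
    rw [HallRel.card_subgroupOf_of_le hUM, HallRel.card_subgroupOf_of_le hBM] at h1
    exact h1.symm
  -- F2 : primes of |B| lie in κ ∪ σ
  have F2 : ∀ p : ℕ, p.Prime → p ∣ Nat.card ↥(K ⊔ Cfsg.sigmaCore M) →
      p ∈ Cfsg.kappa M ∨ p ∈ Cfsg.sigma M := by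
    intro p hp hpB
    have hσeq : (Cfsg.sigmaCore M).subgroupOf M = Cfsg.piCore (Cfsg.sigma M) M := by
      ext x
      rw [Subgroup.mem_subgroupOf]
      unfold Cfsg.sigmaCore
      constructor
      · rintro ⟨y, hy, hyx⟩
        have : y = x := Subtype.ext hyx
        rw [← this]; exact hy
      · intro hx
        exact ⟨x, hx, rfl⟩
    have hB' : (K ⊔ Cfsg.sigmaCore M).subgroupOf M
        = K.subgroupOf M ⊔ Cfsg.piCore (Cfsg.sigma M) M := by
      rw [Subgroup.subgroupOf_sup hKM hσM, hσeq]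
    have hcB : Nat.card ↥(K ⊔ Cfsg.sigmaCore M)
        = Nat.card ↥(Cfsg.piCore (Cfsg.sigma M) M)
          * (Cfsg.piCore (Cfsg.sigma M) M).relIndex (K.subgroupOf M) := by
      rw [← HallRel.card_subgroupOf_of_le hBM, hB',
        HallRel.card_eq_card_mul_relIndex (le_sup_right : Cfsg.piCore (Cfsg.sigma M) M ≤ _),
        Subgroup.relIndex_sup_right]
    have hcσ : Nat.card ↥(Cfsg.piCore (Cfsg.sigma M) M) = Nat.card ↥(Cfsg.sigmaCore M) := by
      rw [← hσeq, HallRel.card_subgroupOf_of_le hσM]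
    rw [hcB] at hpB
    rcases (Nat.Prime.dvd_mul hp).mp hpB with h | h
    · right
      rw [hcσ] at h
      exact hσp p hp h
    · left
      have h2 : p ∣ Nat.card ↥(K.subgroupOf M) := dvd_trans h (Subgroup.relIndex_dvd_card _ _)
      rw [HallRel.card_subgroupOf_of_le hKM] at h2
      exact hKκ p hp h2
  have hMpos : 0 < Nat.card M := Nat.card_pos
  have hKpos : 0 < Nat.card K := Nat.card_pos
  have hσpos : 0 < Nat.card ↥(Cfsg.sigmaCore M) := Nat.card_pos
  -- primes of |U|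
  have hUp : ∀ p : ℕ, p.Prime → p ∣ Nat.card U → p ∉ Cfsg.kappa M ∧ p ∉ Cfsg.sigma M := by
    intro p hp hpU
    constructor
    · intro hκ
      apply hKidx p hp hκ
      have h1 := HallRel.card_eq_card_mul_relIndex hKM
      have h2 := HallRel.card_eq_card_mul_relIndex hKB
      rw [F1, h2] at h1
      have h3 : K.relIndex M = Nat.card U * K.relIndex (K ⊔ Cfsg.sigmaCore M) := by
        apply Nat.eq_of_mul_eq_mul_left hKpos
        rw [← h1]; ring
      rw [h3]
      exact dvd_mul_of_dvd_left hpU _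
    · intro hσ
      apply hσidx p hp hσ
      have h1 := HallRel.card_eq_card_mul_relIndex hσM
      have h2 := HallRel.card_eq_card_mul_relIndex hσB
      rw [F1, h2] at h1
      have h3 : (Cfsg.sigmaCore M).relIndex M
          = Nat.card U * (Cfsg.sigmaCore M).relIndex (K ⊔ Cfsg.sigmaCore M) := by
        apply Nat.eq_of_mul_eq_mul_left hσpos
        rw [← h1]; ring
      rw [h3]
      exact dvd_mul_of_dvd_left hpU _
  -- |U| = |U₁|
  have hMU : Nat.card M = Nat.card U * U.relIndex M := HallRel.card_eq_card_mul_relIndex hUM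
  have hMU₁ : Nat.card M = Nat.card U₁ * U₁.relIndex M := HallRel.card_eq_card_mul_relIndex hU₁M
  have hUpos : 0 < Nat.card U := Nat.card_pos
  have hUrel : U.relIndex M = Nat.card ↥(K ⊔ Cfsg.sigmaCore M) := by
    apply Nat.eq_of_mul_eq_mul_left hUpos
    rw [← hMU, F1]
  have hcop₁ : (Nat.card U₁).Coprime (U₁.relIndex M) := by
    apply Nat.coprime_of_dvd
    intro p hp h1 h2
    exact hU₁idx p hp (hU₁p p hp h1) h2
  have hcard : Nat.card U = Nat.card U₁ := by
    apply Nat.dvd_antisymm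
    · have hc : (Nat.card U).Coprime (U₁.relIndex M) := by
        apply Nat.coprime_of_dvd
        intro p hp h1 h2
        have := hUp p hp h1
        exact hU₁idx p hp ⟨hp, this.1, this.2⟩ h2
      have hd : Nat.card U ∣ Nat.card U₁ * U₁.relIndex M := by
        rw [← hMU₁, hMU]; exact dvd_mul_right _ _
      exact hc.dvd_of_dvd_mul_right hd
    · have hc : (Nat.card U₁).Coprime (U.relIndex M) := by
        apply Nat.coprime_of_dvd
        intro p hp h1 h2
        rw [hUrel] at h2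
        have h3 := hU₁p p hp h1
        rcases F2 p hp h2 with h | h
        · exact h3.2.1 h
        · exact h3.2.2 h
      have hd : Nat.card U₁ ∣ Nat.card U * U.relIndex M := by
        rw [← hMU, hMU₁]; exact dvd_mul_right _ _
      exact hc.dvd_of_dvd_mul_right hd
  have hsolM : Group.IsSolvable M := hG.2.2.2 M hM.1
  -- Step A : conjugate U₁ onto U inside M
  obtain ⟨g, hgM, hg⟩ := HallRel.hall_rel_conj' M U₁ U hU₁M hUM hcard hcop₁
  -- Step B : inside L = N_M(U)
  have hLtop : M ⊓ Subgroup.normalizer (U : Set G) ≠ ⊤ := by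
    intro h
    exact hM.1 (top_le_iff.mp (h ▸ inf_le_left))
  have hsolL : Group.IsSolvable ↥(M ⊓ Subgroup.normalizer (U : Set G)) := hG.2.2.2 _ hLtop
  have hKL : K ≤ M ⊓ Subgroup.normalizer (U : Set G) := le_inf hKM hKU.normal
  have hK₂M : K.map (MulAut.conj g).toMonoidHom ≤ M := by
    intro x hx
    rw [HallRel.mem_map_conj] at hx
    have := M.mul_mem (M.mul_mem hgM (hKM hx)) (M.inv_mem hgM)
    simpa [mul_assoc] using this
  have hK₂N : K.map (MulAut.conj g).toMonoidHom ≤ Subgroup.normalizer (U : Set G) := by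
    have h1 : (Subgroup.normalizer (U₁ : Set G)).map (MulAut.conj g).toMonoidHom
        = Subgroup.normalizer ((U₁.map (MulAut.conj g).toMonoidHom : Subgroup G) : Set G) :=
      Subgroup.map_equiv_normalizer_eq U₁ (MulAut.conj g)
    rw [hg, ← h1]
    exact Subgroup.map_mono hKU₁
  have hK₂L : K.map (MulAut.conj g).toMonoidHom ≤ M ⊓ Subgroup.normalizer (U : Set G) :=
    le_inf hK₂M hK₂N
  have hcK₂ : Nat.card ↥(K.map (MulAut.conj g).toMonoidHom) = Nat.card K := HallRel.card_map_conj K g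
  have hcop₂ : (Nat.card ↥(K.map (MulAut.conj g).toMonoidHom)).Coprime
      ((K.map (MulAut.conj g).toMonoidHom).relIndex (M ⊓ Subgroup.normalizer (U : Set G))) := by
    apply Nat.coprime_of_dvd
    intro p hp h1 h2
    rw [hcK₂] at h1
    have hκ := hKκ p hp h1
    apply hKidx p hp hκ
    -- relIndex K₂ L ∣ relIndex K₂ M = relIndex K M
    have h3 : (K.map (MulAut.conj g).toMonoidHom).relIndex (M ⊓ Subgroup.normalizer (U : Set G))
        ∣ (K.map (MulAut.conj g).toMonoidHom).relIndex M := by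
      rw [← Subgroup.relIndex_mul_relIndex _ _ _ hK₂L inf_le_left]
      exact dvd_mul_right _ _
    have h4 : (K.map (MulAut.conj g).toMonoidHom).relIndex M = K.relIndex M := by
      have e1 := HallRel.card_eq_card_mul_relIndex hK₂M
      have e2 := HallRel.card_eq_card_mul_relIndex hKM
      rw [hcK₂] at e1
      apply Nat.eq_of_mul_eq_mul_left hKpos
      rw [← e1, ← e2]
    rw [← h4]
    exact dvd_trans h2 h3
  obtain ⟨l, hlL, hl⟩ := HallRel.hall_rel_conj' (M ⊓ Subgroup.normalizer (U : Set G))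
    (K.map (MulAut.conj g).toMonoidHom) K hK₂L hKL hcK₂.symm hcop₂
  -- now transport
  rw [eq_bot_iff]
  intro x hx
  obtain ⟨hxU, hxC⟩ := Subgroup.mem_inf.mp hx
  rw [Subgroup.mem_bot]
  -- x ∈ U, l ∈ N(U) : l⁻¹ x l ∈ U = U₁^g
  have hlN : l ∈ Subgroup.normalizer (U : Set G) := hlL.2
  have hx1 : l⁻¹ * x * l ∈ U := by
    have := (Subgroup.mem_normalizer_iff.mp (Subgroup.inv_mem _ hlN) x).mp hxU
    simpa using this
  rw [hg, HallRel.mem_map_conj] at hx1
  -- k ∈ K = (K^g)^l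
  have hk2 : l⁻¹ * k * l ∈ K.map (MulAut.conj g).toMonoidHom := by
    rw [hl, HallRel.mem_map_conj] at hk
    exact hk
  rw [HallRel.mem_map_conj] at hk2
  set k₁ := g⁻¹ * (l⁻¹ * k * l) * g with hk₁
  set u₁ := g⁻¹ * (l⁻¹ * x * l) * g with hu₁
  have hk₁1 : k₁ ≠ 1 := by
    intro h
    apply hk1
    have : k = l * (g * k₁ * g⁻¹) * l⁻¹ := by rw [hk₁]; group
    rw [this, h]; group
  have hcomm : k * x = x * k := (Subgroup.mem_centralizer_iff.mp hxC) k (Set.mem_singleton k)
  have hu₁c : u₁ ∈ U₁ ⊓ Subgroup.centralizer ({k₁} : Set G) := by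
    refine Subgroup.mem_inf.mpr ⟨hx1, ?_⟩
    rw [Subgroup.mem_centralizer_iff]
    intro y hy
    rw [Set.mem_singleton_iff] at hy
    rw [hy]
    have e1 : k₁ * u₁ = g⁻¹ * (l⁻¹ * (k * x) * l) * g := by rw [hk₁, hu₁]; group
    have e2 : u₁ * k₁ = g⁻¹ * (l⁻¹ * (x * k) * l) * g := by rw [hk₁, hu₁]; group
    rw [e1, e2, hcomm]
  rw [hU₁c k₁ hk2 hk₁1, Subgroup.mem_bot] at hu₁c
  have : x = l * (g * u₁ * g⁻¹) * l⁻¹ := by rw [hu₁]; group
  rw [this, hu₁c]; group

end Cfsg.Agent.S1353
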