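import Cfsg.Statements.S1372
import Mathlib
import Cfsg.Agent.S1350
import Cfsg.Agent.S1353
import Cfsg.Agent.S1365
import Cfsg.Agent.S1375
import Cfsg.Agent.S1403
import Cfsg.Agent.S1404
import Cfsg.Agent.S1409
import Cfsg.Agent.S1420
import Cfsg.Agent.S1429
import Cfsg.Agent.S1430
import Cfsg.Agent.S1431
import Cfsg.Agent.Lib.Helper23.BGKstar
import Cfsg.Agent.Lib.Helper35.BG159b

set_option autoImplicit false
open Cfsg

namespace Cfsg.Agent.S1372

/-- Let G be a minimal simple group of odd order and M a maximal subgroup with standard factorisation M = K U M_σ, K ≠ 1 and U ≠ 1. Then K has prime order, and the Fitting subgroup F(M) contains M_σ and is a TI-subset of G. -/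
theorem result {G : Type*} [Group G] [Finite G] (hG : Cfsg.IsMinSimpleOddOrder G)
    (M : Subgroup G) (hM : IsCoatom M) (K U : Subgroup G) (hKU : Cfsg.IsSigmaDecomposition M K U) (hK1 : K ≠ ⊥) (hU1 : U ≠ ⊥) :
    (Nat.card K).Prime ∧ Cfsg.IsTISubset (Cfsg.fittingOf M : Set G) ∧ Cfsg.sigmaCore M ≤ Cfsg.fittingOf M := by
  have hU : Cfsg.Agent.Helper34.BG.UniqHyp G :=
    fun K hK h1 h2 => Cfsg.Agent.S1403.result hG K hK h1 h2
  exact Cfsg.Agent.Helper35.BG159.bg15_9 hG hU
    (fun M hM => Cfsg.Agent.S1350.result hG M hM)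
    (fun M hM K U hKU => Cfsg.Agent.S1353.result hG M hM K U hKU)
    (fun M hM K U hKU hK1 => Cfsg.Agent.S1365.result hG M hM K U hKU hK1)
    (fun M hM x hx hx1 hxM => Cfsg.Agent.S1375.result hG M hM x hx hx1 hxM)
    (fun M hM p _ hp X hXp hX1 hXM => Cfsg.Agent.S1404.result hG M hM p hp X hXp hX1 hXM)
    (fun M hM p _ hp X hX hNX => Cfsg.Agent.S1409.result hG M hM p hp X hX hNX)
    (fun M hM E hE => Cfsg.Agent.S1420.result hG M hM E hE)
    (fun M hM hP1 p _ hpM hp S => Cfsg.Agent.S1429.result hG M hM hP1 p hpM hp S)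
    (fun M hM K hK hK1 => Cfsg.Agent.S1430.result hG M hM K hK hK1)
    (fun M hM K hK hK1 => Cfsg.Agent.S1431.result hG M hM K hK hK1)
    M hM K U hKU hK1 hU1
    (Cfsg.Agent.Helper23.BGCount.kstar_ne_bot hG M hM K hKU.hall hK1)

end Cfsg.Agent.S1372
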