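import Cfsg.Statements.S1434
-- import your own Cfsg.Agent.* helpers here
import Cfsg.Agent.Lib.Helper9.BG147d
import Cfsg.Agent.S1350
import Cfsg.Agent.S1430
import Cfsg.Agent.S1431
import Cfsg.Agent.S1414
import Cfsg.Agent.S1403
import Cfsg.Agent.S1351

set_option autoImplicit false
open Cfsg

namespace Cfsg.Agent.S1434

/-- Let G be a minimal simple group of odd order, M a maximal subgroup with standard factorisation M = K U M_σ, K ≠ 1, K* = M_σ ∩ C_G(K), and M* a maximal subgroup with K = M*_σ ∩ C_G(K*) and K* a Hall κ(M*)-subgroup of M*. Then κ(M) = τ₁(M); K* is a Hall σ(M)-subgroup of M*; for non-identity x ∈ K and y ∈ K*, C_M(x), C_{M*}(y) and C_G(xy) all equal K K*; the set Ẑ of elements of K K* outside K ∪ K* meets no gMg⁻¹ with g ∉ M; and with k = #K, k* = #K*, the union of the conjugates of Ẑ has k·k*·(number of elements) = (k k* − k − k* + 1)·#G and more than #G / 2 elements. -/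
theorem result {G : Type*} [Group G] [Finite G] (hG : Cfsg.IsMinSimpleOddOrder G)
    (M : Subgroup G) (hM : IsCoatom M) (K U : Subgroup G) (hKU : Cfsg.IsSigmaDecomposition M K U) (hK1 : K ≠ ⊥) (Mstar : Subgroup G) (hMstar : IsCoatom Mstar)
    (hKst : K = Cfsg.sigmaCore Mstar ⊓ Subgroup.centralizer ((Cfsg.sigmaCore M ⊓ Subgroup.centralizer (K : Set G)) : Set G))
    (hKstH : Cfsg.IsPiHallOf (Cfsg.kappa Mstar) (Cfsg.sigmaCore M ⊓ Subgroup.centralizer (K : Set G)) Mstar) :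
    Cfsg.kappa M = Cfsg.tau1 M ∧ Cfsg.IsPiHallOf (Cfsg.sigma M) (Cfsg.sigmaCore M ⊓ Subgroup.centralizer (K : Set G)) Mstar ∧
      (∀ x ∈ K, x ≠ 1 → ∀ y ∈ (Cfsg.sigmaCore M ⊓ Subgroup.centralizer (K : Set G)), y ≠ 1 →
        M ⊓ Subgroup.centralizer ({x} : Set G) = K ⊔ (Cfsg.sigmaCore M ⊓ Subgroup.centralizer (K : Set G)) ∧ Mstar ⊓ Subgroup.centralizer ({y} : Set G) = K ⊔ (Cfsg.sigmaCore M ⊓ Subgroup.centralizer (K : Set G)) ∧
        Subgroup.centralizer ({x * y} : Set G) = K ⊔ (Cfsg.sigmaCore M ⊓ Subgroup.centralizer (K : Set G))) ∧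
      (∀ g : G, g ∉ M → ∀ z ∈ ((↑(K ⊔ (Cfsg.sigmaCore M ⊓ Subgroup.centralizer (K : Set G))) : Set G) \ ((K : Set G) ∪ ↑(Cfsg.sigmaCore M ⊓ Subgroup.centralizer (K : Set G)))), z ∉ M.map (MulAut.conj g).toMonoidHom) ∧
      Nat.card K * Nat.card ↥(Cfsg.sigmaCore M ⊓ Subgroup.centralizer (K : Set G)) * Set.ncard {a : G | ∃ g : G, ∃ z ∈ ((↑(K ⊔ (Cfsg.sigmaCore M ⊓ Subgroup.centralizer (K : Set G))) : Set G) \ ((K : Set G) ∪ ↑(Cfsg.sigmaCore M ⊓ Subgroup.centralizer (K : Set G)))), a = g * z * g⁻¹} =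
        (Nat.card K * Nat.card ↥(Cfsg.sigmaCore M ⊓ Subgroup.centralizer (K : Set G)) - Nat.card K - Nat.card ↥(Cfsg.sigmaCore M ⊓ Subgroup.centralizer (K : Set G)) + 1) * Nat.card G ∧
      Nat.card G < 2 * Set.ncard {a : G | ∃ g : G, ∃ z ∈ ((↑(K ⊔ (Cfsg.sigmaCore M ⊓ Subgroup.centralizer (K : Set G))) : Set G) \ ((K : Set G) ∪ ↑(Cfsg.sigmaCore M ⊓ Subgroup.centralizer (K : Set G)))), a = g * z * g⁻¹} := by
  classical
  have hK : Cfsg.IsPiHallOf (Cfsg.kappa M) K M := hKU.hall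
  have pp : Cfsg.Agent.Helper9.BG147.PPair M K := by
    have h0 := Cfsg.Agent.S1350.result hG M hM
    have h1 := Cfsg.Agent.S1430.result hG M hM K hK hK1
    have h2 := Cfsg.Agent.S1431.result hG M hM K hK hK1
    exact ⟨hM, hK, hK1, h0.1, h0.2.1, h1.1, h1.2.1, h1.2.2, h2.1, h2.2.2.1, h2.2.2.2⟩
  have hKs1 := pp.Ks_ne_bot
  have pp' : Cfsg.Agent.Helper9.BG147.PPair Mstar
      (Cfsg.sigmaCore M ⊓ Subgroup.centralizer (K : Set G)) := by
    have h0 := Cfsg.Agent.S1350.result hG Mstar hMstar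
    have h1 := Cfsg.Agent.S1430.result hG Mstar hMstar _ hKstH hKs1
    have h2 := Cfsg.Agent.S1431.result hG Mstar hMstar _ hKstH hKs1
    exact ⟨hMstar, hKstH, hKs1, h0.1, h0.2.1, h1.1, h1.2.1, h1.2.2, h2.1, h2.2.2.1, h2.2.2.2⟩
  have d : Cfsg.Agent.Helper9.BG147.Dual M K Mstar := ⟨pp, pp', hKst⟩
  have hT : Cfsg.sigmaCore M ⊓ Cfsg.sigmaCore Mstar = ⊥ :=
    d.sigma_inf_sigma
      (fun p hp hpM hpβ => ((Cfsg.Agent.S1414.result hG M hM).2.2.2.2 p hp hpM hpβ).2.1)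
      (fun R h1 h2 h3 => Cfsg.Agent.S1403.result hG R h1 h2 (Or.inl h3))
  have hKc : IsCyclic K := hKU.cyclic
  have hKsc : IsCyclic ↥(Cfsg.sigmaCore M ⊓ Subgroup.centralizer (K : Set G)) :=
    (Cfsg.Agent.S1351.result hG Mstar hMstar).2 _ hKstH
  have hcount := d.count hG hT hKc hKsc
  refine ⟨pp.kappa_eq_tau1 hKc, d.hall_sigma hG hT, ?_, ?_, hcount.1, hcount.2⟩
  · intro x hx hx1 y hy hy1
    refine ⟨pp.inf_centralizer_singleton hKc hx hx1, ?_, d.centralizer_mul hT hKc hKsc hx hx1 hy hy1⟩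
    have h := pp'.inf_centralizer_singleton hKsc hy hy1
    rw [h, sup_comm]
    congr 1
    exact hKst.symm
  · intro g hg z hz
    exact d.Zhat_not_mem_conj hg hz

end Cfsg.Agent.S1434
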