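import Cfsg.Statements.S2119
import Mathlib

set_option autoImplicit false
set_option linter.unusedSimpArgs false
set_option linter.unusedVariables false
set_option linter.unusedSectionVars false
open Cfsg

namespace Cfsg.Agent.S2119

open Equiv Equiv.Perm

section PartA1
open Nat

theorem arith_aux (k : ℕ) (hk : 3 ≤ k) : 2 * (3 ^ k * k !) < 3 * (3 * k - 3)! := by
  induction k, hk using Nat.le_induction with
  | base => decide
  | succ k hk ih =>
    have h1 : 3 * (k + 1) - 3 = (3 * k - 3) + 3 := by omega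
    rw [h1, Nat.factorial_succ, Nat.factorial_succ, Nat.factorial_succ, pow_succ, Nat.factorial_succ]
    have h2 : 3 * k - 3 + 1 ≥ 7 := by omega
    have h3 : 3 * (k + 1) ≤ (3 * k - 3 + 2 + 1) * ((3 * k - 3 + 1 + 1) * (3 * k - 3 + 1)) := by
      obtain ⟨j, hj⟩ : ∃ j, 3 * k = j + 3 := ⟨3 * k - 3, by omega⟩
      have hj' : 3 * k - 3 = j := by omega
      rw [hj']
      have e1 : 3 * (k + 1) = j + 6 := by omega
      rw [e1]
      have e2 : 2 ≤ (j + 1 + 1) * (j + 1) := by nlinarith
      calc j + 6 ≤ (j + 2 + 1) * 2 := by omega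
        _ ≤ (j + 2 + 1) * ((j + 1 + 1) * (j + 1)) := Nat.mul_le_mul_left _ e2
    calc 2 * (3 ^ k * 3 * ((k + 1) * k !)) = 3 * (k + 1) * (2 * (3 ^ k * k !)) := by ring
      _ ≤ (3 * k - 3 + 2 + 1) * ((3 * k - 3 + 1 + 1) * (3 * k - 3 + 1)) * (2 * (3 ^ k * k !)) :=
          Nat.mul_le_mul_right _ h3
      _ < (3 * k - 3 + 2 + 1) * ((3 * k - 3 + 1 + 1) * (3 * k - 3 + 1)) * (3 * (3 * k - 3)!) := by
          apply Nat.mul_lt_mul_of_pos_left ih
          positivity
      _ = 3 * ((3 * k - 3 + 2 + 1) * ((3 * k - 3 + 1 + 1) * ((3 * k - 3 + 1) * (3 * k - 3)!))) := by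
          ring

theorem arith_key (n k : ℕ) (hk : 2 ≤ k) (h3k : 3 * k ≤ n) (h6 : n ≠ 6) :
    2 * (3 ^ k * k ! * (n - 3 * k)!) < 3 * (n - 3)! := by
  obtain ⟨m, rfl⟩ : ∃ m, n = 3 * k + m := ⟨n - 3 * k, by omega⟩
  have hm : 3 * k + m - 3 * k = m := by omega
  rw [hm]
  have hsplit : 3 * k + m - 3 = (3 * k - 3) + m := by omega
  rw [hsplit]
  have hdvd : (3 * k - 3)! * m ! ≤ ((3 * k - 3) + m)! :=
    Nat.le_of_dvd (Nat.factorial_pos _) (Nat.factorial_mul_factorial_dvd_factorial_add _ _)
  rcases Nat.lt_or_ge k 3 with hk3 | hk3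
  · have hk2 : k = 2 := by omega
    subst hk2
    have hm1 : 1 ≤ m := by omega
    have h3 : 3 * 2 - 3 + m = m + 3 := by omega
    rw [h3]
    have e : (m + 3)! = (m + 3) * ((m + 2) * ((m + 1) * m !)) := by
      rw [Nat.factorial_succ, Nat.factorial_succ, Nat.factorial_succ]
    have e2 : (2:ℕ)! = 2 := rfl
    rw [e, e2]
    have hmpos : 0 < m ! := Nat.factorial_pos m
    have h24 : 24 ≤ (m + 3) * ((m + 2) * (m + 1)) := by
      obtain ⟨m', rfl⟩ : ∃ m', m = m' + 1 := ⟨m - 1, by omega⟩
      have : (4:ℕ) * (3 * 2) ≤ (m' + 1 + 3) * ((m' + 1 + 2) * (m' + 1 + 1)) :=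
        Nat.mul_le_mul (by omega) (Nat.mul_le_mul (by omega) (by omega))
      omega
    calc 2 * (3 ^ 2 * 2 * m !) = 36 * m ! := by ring
      _ < 72 * m ! := by omega
      _ = 3 * (24 * m !) := by ring
      _ ≤ 3 * ((m + 3) * ((m + 2) * (m + 1)) * m !) :=
          Nat.mul_le_mul_left _ (Nat.mul_le_mul_right _ h24)
      _ = 3 * ((m + 3) * ((m + 2) * ((m + 1) * m !))) := by ring
  · have h1 := arith_aux k hk3
    calc 2 * (3 ^ k * k ! * m !) = (2 * (3 ^ k * k !)) * m ! := by ring
      _ < (3 * (3 * k - 3)!) * m ! := Nat.mul_lt_mul_of_pos_right h1 (Nat.factorial_pos m)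
      _ = 3 * ((3 * k - 3)! * m !) := by ring
      _ ≤ 3 * ((3 * k - 3) + m)! := Nat.mul_le_mul_left _ hdvd

end PartA1

section PartB1
open Nat

variable {α : Type*} [Fintype α] [DecidableEq α]

theorem card_centralizer_replicate (g : Perm α) (k : ℕ) (hk : 1 ≤ k)
    (h : g.cycleType = Multiset.replicate k 3) :
    Nat.card (Subgroup.centralizer {g}) = (Fintype.card α - 3 * k)! * 3 ^ k * k ! := by
  rw [Equiv.Perm.nat_card_centralizer, h]
  have h1 : (Multiset.replicate k 3).sum = 3 * k := by simp [mul_comm]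
  have h2 : (Multiset.replicate k 3).prod = 3 ^ k := by simp
  have h3 : (Multiset.replicate k 3).toFinset = {3} := by
    rw [Multiset.toFinset_replicate]
    simp; omega
  rw [h1, h2, h3]
  simp

/-- centralizer in the alternating group versus centralizer in the symmetric group -/
theorem card_centralizer_alt [Nontrivial α] (a : alternatingGroup α) :
    ∃ d : ℕ, (d = 1 ∨ d = 2) ∧
      Nat.card (Subgroup.centralizer {a}) * d = Nat.card (Subgroup.centralizer {(a : Perm α)}) := by
  set C := Subgroup.centralizer {(a : Perm α)} with hC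
  refine ⟨(alternatingGroup α).relIndex C, ?_, ?_⟩
  · have h1 : (alternatingGroup α).relIndex C ∣ 2 := by
      rw [← alternatingGroup.index_eq_two (α := α)]
      exact Subgroup.relIndex_dvd_index_of_normal _ _
    rcases (Nat.dvd_prime Nat.prime_two).mp h1 with h | h
    · exact Or.inl h
    · exact Or.inr h
  · have h2 := Subgroup.card_mul_index ((alternatingGroup α).subgroupOf C)
    rw [← Subgroup.relIndex] at h2
    rw [← h2]
    congr 1
    apply Nat.card_congr
    refine ⟨fun x => ⟨⟨(x.1 : Perm α), ?_⟩, ?_⟩, fun y => ⟨⟨(y.1 : Perm α), y.2⟩, ?_⟩, ?_, ?_⟩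
    · have := x.2
      rw [Subgroup.mem_centralizer_singleton_iff] at this ⊢
      exact congrArg Subtype.val this
    · exact x.1.2
    · rw [Subgroup.mem_centralizer_singleton_iff]
      have := y.1.2
      rw [Subgroup.mem_centralizer_singleton_iff] at this
      exact Subtype.ext this
    · intro x; rfl
    · intro y; rfl

theorem card_centralizer_mulEquiv {A : Type*} [Group A] (ψ : A ≃* A) (a : A) :
    Nat.card (Subgroup.centralizer {ψ a}) = Nat.card (Subgroup.centralizer {a}) := by
  apply Nat.card_congr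
  refine (ψ.toEquiv.subtypeEquiv ?_).symm
  intro x
  rw [Subgroup.mem_centralizer_singleton_iff, Subgroup.mem_centralizer_singleton_iff]
  constructor
  · intro h
    change ψ x * ψ a = ψ a * ψ x
    rw [← map_mul, ← map_mul, h]
  · intro h
    change ψ x * ψ a = ψ a * ψ x at h
    rw [← map_mul, ← map_mul] at h
    exact ψ.injective h

/-- An automorphism of the alternating group maps 3-cycles to 3-cycles (degree ≠ 6). -/
theorem isThreeCycle_map (h6 : Fintype.card α ≠ 6) (ψ : alternatingGroup α ≃* alternatingGroup α)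
    (a : alternatingGroup α) (ha : (a : Perm α).IsThreeCycle) :
    ((ψ a : alternatingGroup α) : Perm α).IsThreeCycle := by
  have hcard3 : 3 ≤ Fintype.card α := by
    have := ha.card_support
    have h2 := Finset.card_le_univ (a : Perm α).support
    omega
  haveI : Nontrivial α := Fintype.one_lt_card_iff_nontrivial.mp (by omega)
  have ho : orderOf ((ψ a : alternatingGroup α) : Perm α) = 3 := by
    rw [Subgroup.orderOf_coe, MulEquiv.orderOf_eq, ← Subgroup.orderOf_coe, ha.orderOf]
  obtain ⟨m, hm⟩ := cycleType_prime_order (σ := ((ψ a : alternatingGroup α) : Perm α))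
    (by rw [ho]; exact Nat.prime_three)
  rw [ho] at hm
  rcases Nat.eq_zero_or_pos m with h0 | hpos
  · rw [h0] at hm
    rw [IsThreeCycle, hm]; rfl
  · exfalso
    set k := m + 1 with hk
    have hk2 : 2 ≤ k := by omega
    have h3k : 3 * k ≤ Fintype.card α := by
      have := sum_cycleType_le ((ψ a : alternatingGroup α) : Perm α)
      rw [hm] at this
      simpa [mul_comm] using this
    have hc' := card_centralizer_replicate _ k (by omega) hm
    have hc := card_centralizer_replicate (a : Perm α) 1 le_rfl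
      (by rw [ha.cycleType]; rfl)
    obtain ⟨d, hd, hd'⟩ := card_centralizer_alt a
    obtain ⟨e, he, he'⟩ := card_centralizer_alt (ψ a)
    rw [card_centralizer_mulEquiv ψ a] at he'
    rw [hc] at hd'
    rw [hc'] at he'
    have key := arith_key (Fintype.card α) k hk2 h3k h6
    set X := Nat.card (Subgroup.centralizer {a}) with hX
    have e1 : X * d = 3 * (Fintype.card α - 3)! := by
      rw [hd']; simp; ring
    have e2 : X * e = 3 ^ k * k ! * (Fintype.card α - 3 * k)! := by
      rw [he']; ring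
    rcases hd with rfl | rfl <;> rcases he with rfl | rfl <;> nlinarith

end PartB1

section PartC1

variable {α : Type*} [DecidableEq α]

/-- the 3-cycle `u → v → w → u` -/
def tc (u v w : α) : Perm α := swap u v * swap v w

theorem tc_apply (u v w y : α) : tc u v w y = swap u v (swap v w y) := rfl

theorem I1 {a b p : α} (hab : a ≠ b) (hap : a ≠ p) (hbp : b ≠ p) :
    tc a p b = (tc a b p)⁻¹ := by
  rw [eq_inv_iff_mul_eq_one]
  ext y
  simp only [tc, Perm.mul_apply, Perm.one_apply, swap_apply_def]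
  split_ifs <;> simp_all

theorem I2 {a b p q : α} (hab : a ≠ b) (hap : a ≠ p) (haq : a ≠ q) (hbp : b ≠ p) (hbq : b ≠ q)
    (hpq : p ≠ q) : tc a p q = tc a b q * (tc a b p)⁻¹ := by
  rw [eq_mul_inv_iff_mul_eq]
  ext y
  simp only [tc, Perm.mul_apply, swap_apply_def]
  split_ifs <;> simp_all

theorem I4 {a p q r : α} (hap : a ≠ p) (haq : a ≠ q) (har : a ≠ r) (hpq : p ≠ q) (hpr : p ≠ r)
    (hqr : q ≠ r) : tc p q r = tc a p q * tc a q r := by
  ext y
  simp only [tc, Perm.mul_apply, swap_apply_def]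
  split_ifs <;> simp_all

theorem I0' {a b z z' : α} (hab : a ≠ b) (haz : a ≠ z) (haz' : a ≠ z') (hbz : b ≠ z) (hbz' : b ≠ z')
    (hzz' : z ≠ z') : tc a b z * tc a b z' = swap a z * swap b z' := by
  ext y
  simp only [tc, Perm.mul_apply]
  by_cases hya : y = a
  · subst hya
    simp [swap_apply_of_ne_of_ne, hab, haz, haz', hbz, hbz', hzz', hab.symm, haz.symm, haz'.symm,
      hbz.symm, hbz'.symm, hzz'.symm]
  by_cases hyb : y = b
  · subst hyb
    simp [swap_apply_of_ne_of_ne, hab, haz, haz', hbz, hbz', hzz', hab.symm, haz.symm, haz'.symm,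
      hbz.symm, hbz'.symm, hzz'.symm]
  by_cases hyz : y = z
  · subst hyz
    simp [swap_apply_of_ne_of_ne, hab, haz, haz', hbz, hbz', hzz', hab.symm, haz.symm, haz'.symm,
      hbz.symm, hbz'.symm, hzz'.symm]
  by_cases hyz' : y = z'
  · subst hyz'
    simp [swap_apply_of_ne_of_ne, hab, haz, haz', hbz, hbz', hzz', hab.symm, haz.symm, haz'.symm,
      hbz.symm, hbz'.symm, hzz'.symm]
  simp [swap_apply_of_ne_of_ne, hya, hyb, hyz, hyz']

theorem I0 {a b z z' : α} (hab : a ≠ b) (haz : a ≠ z) (haz' : a ≠ z') (hbz : b ≠ z) (hbz' : b ≠ z')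
    (hzz' : z ≠ z') : (tc a b z * tc a b z') ^ 2 = 1 := by
  rw [I0' hab haz haz' hbz hbz' hzz', pow_two]
  ext y
  simp only [Perm.mul_apply, Perm.one_apply, swap_apply_def]
  split_ifs <;> simp_all

end PartC1

section PartC2

variable {α : Type*} [DecidableEq α]

theorem tc_apply_of_ne {u v w y : α} (h1 : y ≠ u) (h2 : y ≠ v) (h3 : y ≠ w) : tc u v w y = y := by
  rw [tc_apply, swap_apply_of_ne_of_ne h2 h3, swap_apply_of_ne_of_ne h1 h2]

theorem tc_isThreeCycle {u v w : α} [Fintype α] (huv : u ≠ v) (huw : u ≠ w) (hvw : v ≠ w) :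
    (tc u v w).IsThreeCycle := by
  have : tc u v w = swap v u * swap v w := by rw [tc, swap_comm]
  rw [this]
  exact isThreeCycle_swap_mul_swap_same huv.symm hvw huw

variable [Fintype α]

/-- normal form of a 3-cycle -/
theorem threeCycle_normal_form {τ : Perm α} (hτ : τ.IsThreeCycle) {u : α} (hu : τ u ≠ u) :
    τ u ≠ u ∧ τ (τ u) ≠ u ∧ τ (τ u) ≠ τ u ∧ τ (τ (τ u)) = u ∧ τ = tc u (τ u) (τ (τ u)) := by
  have h3 : τ ^ 3 = 1 := by rw [← hτ.orderOf]; exact pow_orderOf_eq_one τ
  have hcube : τ (τ (τ u)) = u := by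
    have := congrArg (fun f : Perm α => f u) h3
    simpa [pow_succ, Perm.mul_apply] using this
  have hvw : τ (τ u) ≠ τ u := fun h => hu (τ.injective h)
  have hwu : τ (τ u) ≠ u := by
    intro h
    rw [h] at hcube
    exact hu hcube
  refine ⟨hu, hwu, hvw, hcube, ?_⟩
  have hsupp : τ.support = {u, τ u, τ (τ u)} := by
    symm
    apply Finset.eq_of_subset_of_card_le
    · intro y hy
      simp only [Finset.mem_insert, Finset.mem_singleton] at hy
      rw [Perm.mem_support]
      rcases hy with rfl | rfl | rfl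
      · exact hu
      · exact hvw
      · rw [hcube]; exact hwu.symm
    · rw [hτ.card_support]
      rw [Finset.card_insert_of_notMem, Finset.card_insert_of_notMem, Finset.card_singleton]
      · simpa using hvw.symm
      · simp only [Finset.mem_insert, Finset.mem_singleton, not_or]
        exact ⟨fun h => hu h.symm, fun h => hwu h.symm⟩
  ext y
  by_cases hy : y ∈ τ.support
  · rw [hsupp] at hy
    simp only [Finset.mem_insert, Finset.mem_singleton] at hy
    rcases hy with rfl | rfl | rfl
    · rw [tc_apply, swap_apply_of_ne_of_ne (Ne.symm hu) (Ne.symm hwu), swap_apply_left]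
    · rw [tc_apply, swap_apply_left, swap_apply_of_ne_of_ne hwu hvw]
    · rw [tc_apply, swap_apply_right, swap_apply_right, hcube]
  · have h1 : τ y = y := Perm.notMem_support.mp hy
    rw [hsupp] at hy
    simp only [Finset.mem_insert, Finset.mem_singleton, not_or] at hy
    rw [h1, tc_apply_of_ne hy.1 hy.2.1 hy.2.2]

/-- two 3-cycles whose product squares to one share at least two points -/
theorem card_sdiff_le_one {σ τ : Perm α} (hσ : σ.IsThreeCycle) (h : (σ * τ) ^ 2 = 1) :
    (σ.support \ τ.support).card ≤ 1 := by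
  rw [Finset.card_le_one]
  intro u hu u' hu'
  by_contra hne
  rw [Finset.mem_sdiff, Perm.mem_support, Perm.notMem_support] at hu hu'
  -- find s with s, σ s fixed by τ and s moved by σ
  have key : ∀ s : α, σ s ≠ s → τ s = s → τ (σ s) = σ s → False := by
    intro s hs h1 h2
    obtain ⟨-, hw, -, -, -⟩ := threeCycle_normal_form hσ hs
    have := congrArg (fun f : Perm α => f s) h
    simp only [pow_two, Perm.mul_apply, Perm.one_apply, h1, h2] at this
    exact hw this
  obtain ⟨-, -, -, hcube, hform⟩ := threeCycle_normal_form hσ hu.1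
  -- u' is σ u or σ (σ u)
  have hu'supp : u' = σ u ∨ u' = σ (σ u) := by
    have : tc u (σ u) (σ (σ u)) u' ≠ u' := by rw [← hform]; exact hu'.1
    by_contra hcon
    push Not at hcon
    exact this (tc_apply_of_ne (Ne.symm hne) hcon.1 hcon.2)
  rcases hu'supp with h1 | h1
  · exact key u hu.1 hu.2 (h1 ▸ hu'.2)
  · apply key u' hu'.1 hu'.2
    rw [h1, hcube]; exact hu.2

end PartC2

section PartD1

variable {α : Type*} [DecidableEq α] [Fintype α]

/-- An even permutation fixing `x` is a product of 3-cycles fixing `x`. -/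
theorem mem_closure_threeCycles_fixing (x : α) (g : Perm α) (hg : g ∈ alternatingGroup α)
    (hgx : g x = x) :
    g ∈ Subgroup.closure {τ : Perm α | τ.IsThreeCycle ∧ τ x = x} := by
  have h₁ : ∀ y, (g y ≠ x) ↔ (y ≠ x) := by
    intro y
    constructor
    · intro h hy; exact h (hy ▸ hgx)
    · intro h hy; apply h; apply g.injective; rw [hy, hgx]
  have h₂ : ∀ y, g y ≠ y → y ≠ x := by
    intro y hy hyx; exact hy (hyx ▸ hgx)
  set g' : Perm {y // y ≠ x} := g.subtypePerm h₁ with hg'
  have hof : ofSubtype g' = g := ofSubtype_subtypePerm h₁ h₂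
  have hsign : g' ∈ alternatingGroup {y // y ≠ x} := by
    rw [mem_alternatingGroup, hg', sign_subtypePerm g h₁ h₂]
    exact mem_alternatingGroup.mp hg
  rw [← closure_three_cycles_eq_alternating] at hsign
  have hmap : ofSubtype g' ∈ (Subgroup.closure {σ : Perm {y // y ≠ x} | σ.IsThreeCycle}).map
      (ofSubtype : Perm {y // y ≠ x} →* Perm α) := Subgroup.mem_map_of_mem _ hsign
  rw [MonoidHom.map_closure] at hmap
  rw [← hof]
  refine Subgroup.closure_mono ?_ hmap
  rintro _ ⟨σ, hσ, rfl⟩
  refine ⟨?_, ?_⟩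
  · change (ofSubtype σ).cycleType = {3}
    rw [cycleType_ofSubtype]
    exact hσ
  · exact ofSubtype_apply_of_not_mem σ (by simp)

end PartD1

section PartD2

variable {α : Type*} [DecidableEq α]

variable [Fintype α]

/-- the chain of 3-cycles `(a b z)`, `z ∉ {a,b,x}` -/
def chain (a b x : α) : Set (Perm α) := {σ | ∃ z, z ≠ a ∧ z ≠ b ∧ z ≠ x ∧ σ = tc a b z}

theorem tc_mem_closure_chain_of_left {a b x p q : α} (hab : a ≠ b) (hax : a ≠ x) (hbx : b ≠ x)
    (hap : a ≠ p) (haq : a ≠ q) (hpq : p ≠ q) (hpx : p ≠ x) (hqx : q ≠ x) :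
    tc a p q ∈ Subgroup.closure (chain a b x) := by
  by_cases hpb : p = b
  · subst hpb
    exact Subgroup.subset_closure ⟨q, haq.symm, hpq.symm, hqx, rfl⟩
  by_cases hqb : q = b
  · subst hqb
    rw [I1 hab hap (Ne.symm hpb)]
    exact Subgroup.inv_mem _ (Subgroup.subset_closure ⟨p, hap.symm, hpb, hpx, rfl⟩)
  · rw [I2 hab hap haq (Ne.symm hpb) (Ne.symm hqb) hpq]
    exact Subgroup.mul_mem _ (Subgroup.subset_closure ⟨q, haq.symm, hqb, hqx, rfl⟩)
      (Subgroup.inv_mem _ (Subgroup.subset_closure ⟨p, hap.symm, hpb, hpx, rfl⟩))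

theorem threeCycle_mem_closure_chain {a b x : α} (hab : a ≠ b) (hax : a ≠ x) (hbx : b ≠ x)
    {τ : Perm α} (hτ : τ.IsThreeCycle) (hτx : τ x = x) :
    τ ∈ Subgroup.closure (chain a b x) := by
  have hfix : ∀ y, τ y ≠ y → y ≠ x := fun y hy hyx => hy (hyx ▸ hτx)
  have hfix' : ∀ y, τ y ≠ y → τ y ≠ x := by
    intro y hy hyx
    apply hy
    apply τ.injective
    rw [hyx, hτx]
  by_cases hτa : τ a = a
  · -- pick u moved
    obtain ⟨u, hu⟩ : ∃ u, τ u ≠ u := by
      by_contra hcon
      push Not at hcon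
      have : τ = 1 := Perm.ext hcon
      rw [this] at hτ
      exact hτ.ne_one rfl
    obtain ⟨h1, h2, h3, h4, h5⟩ := threeCycle_normal_form hτ hu
    have hua : a ≠ u := fun h => hu (h ▸ hτa)
    have hva : a ≠ τ u := by
      intro h
      apply hua
      apply τ.injective
      rw [hτa]; exact h
    have hwa : a ≠ τ (τ u) := by
      intro h
      apply hva
      apply τ.injective
      rw [hτa]; exact h
    rw [h5, I4 hua hva hwa (Ne.symm h1) (Ne.symm h2) (Ne.symm h3)]
    refine Subgroup.mul_mem _ ?_ ?_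
    · exact tc_mem_closure_chain_of_left hab hax hbx hua hva (Ne.symm h1) (hfix u hu) (hfix' u hu)
    · exact tc_mem_closure_chain_of_left hab hax hbx hva hwa (Ne.symm h3) (hfix' u hu)
        (hfix' _ h3)
  · obtain ⟨h1, h2, h3, h4, h5⟩ := threeCycle_normal_form hτ hτa
    rw [h5]
    exact tc_mem_closure_chain_of_left hab hax hbx (Ne.symm h1) (Ne.symm h2) (Ne.symm h3)
      (hfix' a hτa) (hfix' _ h3)

end PartD2

section PartE1

variable {α : Type*} [DecidableEq α]

variable [Fintype α]

theorem exists_notMem (s : Finset α) (h : s.card < Fintype.card α) : ∃ y, y ∉ s := by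
  by_contra hcon
  push Not at hcon
  have : s = Finset.univ := Finset.eq_univ_iff_forall.mpr hcon
  rw [this, Finset.card_univ] at h
  exact lt_irrefl _ h

theorem tc_mem_alt {u v w : α} (huv : u ≠ v) (huw : u ≠ w) (hvw : v ≠ w) :
    tc u v w ∈ alternatingGroup α :=
  (tc_isThreeCycle huv huw hvw).mem_alternatingGroup

open Classical in
/-- extension by one of an automorphism of the alternating group to all permutations -/
noncomputable def extd (ψ : alternatingGroup α ≃* alternatingGroup α) (g : Perm α) : Perm α :=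
  if h : g ∈ alternatingGroup α then ((ψ ⟨g, h⟩ : alternatingGroup α) : Perm α) else 1

theorem extd_eq (ψ : alternatingGroup α ≃* alternatingGroup α) {g : Perm α}
    (h : g ∈ alternatingGroup α) : extd ψ g = ((ψ ⟨g, h⟩ : alternatingGroup α) : Perm α) :=
  dif_pos h

theorem extd_coe (ψ : alternatingGroup α ≃* alternatingGroup α) (g : alternatingGroup α) :
    extd ψ (g : Perm α) = ((ψ g : alternatingGroup α) : Perm α) :=
  extd_eq ψ g.2

theorem extd_mul (ψ : alternatingGroup α ≃* alternatingGroup α) {g h : Perm α}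
    (hg : g ∈ alternatingGroup α) (hh : h ∈ alternatingGroup α) :
    extd ψ (g * h) = extd ψ g * extd ψ h := by
  rw [extd_eq ψ hg, extd_eq ψ hh, extd_eq ψ (mul_mem hg hh), ← Subgroup.coe_mul, ← map_mul]
  rfl

theorem extd_one (ψ : alternatingGroup α ≃* alternatingGroup α) : extd ψ 1 = 1 := by
  rw [extd_eq ψ (one_mem _)]
  have : (⟨1, one_mem _⟩ : alternatingGroup α) = 1 := rfl
  rw [this, map_one]; rfl

theorem extd_inv (ψ : alternatingGroup α ≃* alternatingGroup α) {g : Perm α}
    (hg : g ∈ alternatingGroup α) : extd ψ g⁻¹ = (extd ψ g)⁻¹ := by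
  rw [extd_eq ψ hg, extd_eq ψ (inv_mem hg), ← Subgroup.coe_inv, ← map_inv]
  rfl

theorem extd_pow (ψ : alternatingGroup α ≃* alternatingGroup α) {g : Perm α}
    (hg : g ∈ alternatingGroup α) (k : ℕ) : extd ψ (g ^ k) = (extd ψ g) ^ k := by
  rw [extd_eq ψ hg, extd_eq ψ (pow_mem hg k), ← Subgroup.coe_pow, ← map_pow]
  rfl

theorem exists_fixed (h4 : 4 ≤ Fintype.card α) (h6 : Fintype.card α ≠ 6)
    (ψ : alternatingGroup α ≃* alternatingGroup α) (x : α) :
    ∃ y : α, ∀ g : alternatingGroup α, (g : Perm α) x = x →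
      ((ψ g : alternatingGroup α) : Perm α) y = y := by
  obtain ⟨a, ha⟩ := exists_notMem {x} (by rw [Finset.card_singleton]; omega)
  obtain ⟨b, hb⟩ := exists_notMem {x, a} (by
    have := Finset.card_le_two (a := x) (b := a); omega)
  have hax : a ≠ x := by simpa using ha
  have hbx : b ≠ x := by
    intro h; apply hb; rw [h]; simp
  have hab : a ≠ b := by
    intro h; apply hb; rw [h]; simp
  set Z : Finset α := Finset.univ \ {a, b, x} with hZ
  have hZmem : ∀ z, z ∈ Z ↔ z ≠ a ∧ z ≠ b ∧ z ≠ x := by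
    intro z; simp [hZ]
  have hZcard : Z.card = Fintype.card α - 3 := by
    rw [hZ, Finset.card_sdiff_of_subset (Finset.subset_univ _), Finset.card_univ]
    congr 1
    rw [Finset.card_insert_of_notMem, Finset.card_insert_of_notMem, Finset.card_singleton]
    · simpa using hbx
    · simp only [Finset.mem_insert, Finset.mem_singleton, not_or]; exact ⟨hab, hax⟩
  set s : α → Perm α := fun z => extd ψ (tc a b z) with hs
  have hs3 : ∀ z ∈ Z, (s z).IsThreeCycle := by
    intro z hz
    rw [hZmem] at hz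
    have hmem := tc_mem_alt hab hz.1.symm hz.2.1.symm
    rw [hs]
    simp only
    rw [extd_eq ψ hmem]
    exact isThreeCycle_map h6 ψ ⟨_, hmem⟩ (tc_isThreeCycle hab hz.1.symm hz.2.1.symm)
  have hs2 : ∀ z ∈ Z, ∀ z' ∈ Z, z ≠ z' → (s z * s z') ^ 2 = 1 := by
    intro z hz z' hz' hne
    rw [hZmem] at hz hz'
    have hmem := tc_mem_alt hab hz.1.symm hz.2.1.symm
    have hmem' := tc_mem_alt hab hz'.1.symm hz'.2.1.symm
    rw [hs]
    simp only
    rw [← extd_mul ψ hmem hmem', ← extd_pow ψ (mul_mem hmem hmem'),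
      I0 hab hz.1.symm hz'.1.symm hz.2.1.symm hz'.2.1.symm hne, extd_one]
  have hZne : Z.Nonempty := by
    rw [← Finset.card_pos, hZcard]; omega
  obtain ⟨z0, hz0⟩ := hZne
  set U : Finset α := Z.biUnion (fun z => (s z).support) with hU
  have hUsub : U ⊆ (s z0).support ∪
      (Z.erase z0).biUnion (fun z => (s z).support \ (s z0).support) := by
    intro u hu
    rw [hU, Finset.mem_biUnion] at hu
    obtain ⟨z, hz, hzu⟩ := hu
    by_cases hu0 : u ∈ (s z0).support
    · exact Finset.mem_union_left _ hu0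
    · apply Finset.mem_union_right
      rw [Finset.mem_biUnion]
      refine ⟨z, ?_, Finset.mem_sdiff.mpr ⟨hzu, hu0⟩⟩
      rw [Finset.mem_erase]
      refine ⟨?_, hz⟩
      rintro rfl
      exact hu0 hzu
  have hUcard : U.card ≤ 3 + (Z.card - 1) := by
    refine (Finset.card_le_card hUsub).trans ?_
    refine (Finset.card_union_le _ _).trans ?_
    rw [(hs3 z0 hz0).card_support]
    apply Nat.add_le_add_left
    refine Finset.card_biUnion_le.trans ?_
    have : ∀ z ∈ Z.erase z0, ((s z).support \ (s z0).support).card ≤ 1 := by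
      intro z hz
      rw [Finset.mem_erase] at hz
      exact card_sdiff_le_one (hs3 z hz.2) (hs2 z hz.2 z0 hz0 hz.1)
    refine (Finset.sum_le_sum this).trans ?_
    rw [Finset.sum_const, Finset.card_erase_of_mem hz0]
    simp
  obtain ⟨y, hy⟩ := exists_notMem U (by omega)
  have hyfix : ∀ z ∈ Z, s z y = y := by
    intro z hz
    by_contra hcon
    apply hy
    rw [hU, Finset.mem_biUnion]
    exact ⟨z, hz, Perm.mem_support.mpr hcon⟩
  refine ⟨y, ?_⟩
  intro g hg
  have h1 : (g : Perm α) ∈ Subgroup.closure (chain a b x) := by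
    have := mem_closure_threeCycles_fixing x (g : Perm α) g.2 hg
    refine (Subgroup.closure_le _).mpr ?_ this
    rintro τ ⟨hτ, hτx⟩
    exact threeCycle_mem_closure_chain hab hax hbx hτ hτx
  have key : ∀ g : Perm α, g ∈ Subgroup.closure (chain a b x) →
      g ∈ alternatingGroup α ∧ extd ψ g y = y := by
    intro g hg
    induction hg using Subgroup.closure_induction with
    | mem g hg =>
      obtain ⟨z, hza, hzb, hzx, rfl⟩ := hg
      exact ⟨tc_mem_alt hab hza.symm hzb.symm, hyfix z ((hZmem z).mpr ⟨hza, hzb, hzx⟩)⟩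
    | one => exact ⟨one_mem _, by rw [extd_one]; rfl⟩
    | mul g h _ _ ihg ihh =>
      refine ⟨mul_mem ihg.1 ihh.1, ?_⟩
      rw [extd_mul ψ ihg.1 ihh.1, Perm.mul_apply, ihh.2, ihg.2]
    | inv g _ ihg =>
      refine ⟨inv_mem ihg.1, ?_⟩
      rw [extd_inv ψ ihg.1, Perm.inv_eq_iff_eq]
      exact ihg.2.symm
  have := (key _ h1).2
  rwa [extd_coe] at this

end PartE1

section PartE2

variable {α : Type*} [DecidableEq α]

variable [Fintype α]

theorem eq_of_stab_le (h4 : 4 ≤ Fintype.card α) (x x' : α)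
    (h : ∀ g : alternatingGroup α, (g : Perm α) x = x → (g : Perm α) x' = x') : x = x' := by
  by_contra hne
  obtain ⟨u, hu⟩ := exists_notMem {x, x'} (by
    have := Finset.card_le_two (a := x) (b := x'); omega)
  obtain ⟨v, hv⟩ := exists_notMem {x, x', u} (by
    have := Finset.card_le_three (a := x) (b := x') (c := u); omega)
  simp only [Finset.mem_insert, Finset.mem_singleton, not_or] at hu hv
  have hmem := tc_mem_alt (Ne.symm hu.2) (Ne.symm hv.2.1) (Ne.symm hv.2.2)
  have h1 := h ⟨tc x' u v, hmem⟩ (tc_apply_of_ne hne (Ne.symm hu.1) (Ne.symm hv.1))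
  change tc x' u v x' = x' at h1
  rw [tc_apply, swap_apply_of_ne_of_ne (Ne.symm hu.2) (Ne.symm hv.2.1), swap_apply_left] at h1
  exact hu.2 h1

theorem exists_conj (h4 : 4 ≤ Fintype.card α) (h6 : Fintype.card α ≠ 6)
    (ψ : alternatingGroup α ≃* alternatingGroup α) :
    ∃ σ : Perm α, ∀ g : alternatingGroup α,
      ((ψ g : alternatingGroup α) : Perm α) = σ * g * σ⁻¹ := by
  choose f hf using exists_fixed h4 h6 ψ
  choose f' hf' using exists_fixed h4 h6 ψ.symm
  have h1 : ∀ x, f' (f x) = x := by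
    intro x
    refine (eq_of_stab_le h4 x (f' (f x)) (fun g hg => ?_)).symm
    have := hf' (f x) (ψ g) (hf x g hg)
    simpa using this
  have h2 : ∀ y, f (f' y) = y := by
    intro y
    refine (eq_of_stab_le h4 y (f (f' y)) (fun g hg => ?_)).symm
    have := hf (f' y) (ψ.symm g) (hf' y g hg)
    simpa using this
  have hiff : ∀ (g : alternatingGroup α) (x : α),
      ((ψ g : alternatingGroup α) : Perm α) (f x) = f x → (g : Perm α) x = x := by
    intro g x hg
    have := hf' (f x) (ψ g) hg
    simpa [h1] using this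
  have hequiv : ∀ (g : alternatingGroup α) (x : α),
      ((ψ g : alternatingGroup α) : Perm α) (f x) = f ((g : Perm α) x) := by
    intro g x
    refine (eq_of_stab_le h4 (f ((g : Perm α) x)) _ (fun k hk => ?_)).symm
    obtain ⟨h, rfl⟩ := ψ.surjective k
    have e1 : (h : Perm α) ((g : Perm α) x) = (g : Perm α) x := hiff h _ hk
    have e2 : ((g⁻¹ * h * g : alternatingGroup α) : Perm α) x = x := by
      simp only [Subgroup.coe_mul, Subgroup.coe_inv, Perm.mul_apply, e1]
      simp
    have e3 := hf x _ e2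
    simp only [map_mul, map_inv, Subgroup.coe_mul, Subgroup.coe_inv, Perm.mul_apply] at e3
    rw [Perm.inv_eq_iff_eq] at e3
    exact e3
  refine ⟨⟨f, f', h1, h2⟩, fun g => ?_⟩
  ext y
  simp only [Perm.mul_apply]
  change _ = f ((g : Perm α) (f' y))
  rw [← hequiv, h2]

theorem eq_one_of_comm (h4 : 4 ≤ Fintype.card α) (σ : Perm α)
    (h : ∀ g : alternatingGroup α, σ * g * σ⁻¹ = g) : σ = 1 := by
  ext x
  refine (eq_of_stab_le h4 x (σ x) (fun g hg => ?_)).symm
  have := h g
  rw [mul_inv_eq_iff_eq_mul] at this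
  have h2 := congrArg (fun p : Perm α => p x) this
  simp only [Perm.mul_apply, hg] at h2
  exact h2.symm

theorem main (h4 : 4 ≤ Fintype.card α) (h6 : Fintype.card α ≠ 6) :
    Function.Bijective
      (MulAut.conjNormal : Perm α →* MulAut (alternatingGroup α)) := by
  constructor
  · rw [injective_iff_map_eq_one]
    intro σ hσ
    apply eq_one_of_comm h4
    intro g
    rw [← MulAut.conjNormal_apply, hσ]
    rfl
  · intro ψ
    obtain ⟨σ, hσ⟩ := exists_conj h4 h6 ψ
    refine ⟨σ, ?_⟩
    ext g : 2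
    rw [MulAut.conjNormal_apply, hσ]

end PartE2

/-- Automorphisms of the alternating groups: for n ≥ 4 with n ≠ 6, every automorphism of the alternating group of degree n is conjugation by a unique permutation, i.e. conjugation induces an isomorphism from the symmetric group of degree n onto the automorphism group of the alternating group (so the outer automorphism group has order 2). -/
theorem result (n : ℕ) (hn : 4 ≤ n) (h6 : n ≠ 6) : Function.Bijective (MulAut.conjNormal : Equiv.Perm (Fin n) →* MulAut ↥(alternatingGroup (Fin n))) := by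
  have h4 : 4 ≤ Fintype.card (Fin n) := by rw [Fintype.card_fin]; exact hn
  have h6' : Fintype.card (Fin n) ≠ 6 := by rw [Fintype.card_fin]; exact h6
  exact main h4 h6'

end Cfsg.Agent.S2119
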