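import Cfsg.Statements.S0606
import Cfsg.Agent.Lib.Helper10.ElemAb
import Cfsg.Agent.Lib.Helper10.Card

set_option autoImplicit false
open Cfsg

namespace Cfsg.Agent.S0606

open Cfsg.Agent.Helper10

/-- Elementary abelian p-subgroups of maximal order are best offenders on any normal elementary abelian p-subgroup. -/
theorem result {G : Type*} [Group G] [Finite G] {p : ℕ} [Fact p.Prime] (V : Subgroup G) [V.Normal] (hV : Cfsg.IsElementaryAbelian p V) (A : Subgroup G) (hA : A ∈ Cfsg.maxElementaryAbelianSubgroups p G) : Cfsg.IsBestOffenderOn p V A := by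
  have hAab := (isElementaryAbelian_iff.mp hA.1)
  refine ⟨?_, ?_, ?_⟩
  · intro B hBA
    have hB : IsElementaryAbelian p B := elemAb_mono hA.1 hBA
    have hC : IsElementaryAbelian p (V ⊓ Subgroup.centralizer (B : Set G)) :=
      elemAb_mono hV inf_le_left
    have hcomm : ∀ a ∈ B, ∀ b ∈ V ⊓ Subgroup.centralizer (B : Set G), a * b = b * a := by
      intro a ha b hb
      exact (Subgroup.mem_centralizer_iff.mp hb.2 a ha)
    have hD := elemAb_sup_of_commute hB hC hcomm
    have h1 : Nat.card ↥(B ⊔ (V ⊓ Subgroup.centralizer (B : Set G))) ≤ Nat.card A := hA.2 _ hD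
    have h2 := card_mul_card_le_card_sup_mul_card_inf B (V ⊓ Subgroup.centralizer (B : Set G))
    have h3 : B ⊓ (V ⊓ Subgroup.centralizer (B : Set G)) ≤ V ⊓ Subgroup.centralizer (A : Set G) := by
      intro x hx
      refine ⟨hx.2.1, ?_⟩
      show x ∈ Subgroup.centralizer (A : Set G)
      rw [Subgroup.mem_centralizer_iff]
      intro a ha
      exact hAab.1 a ha x (hBA hx.1)
    have h4 : Nat.card ↥(B ⊓ (V ⊓ Subgroup.centralizer (B : Set G))) ≤
        Nat.card ↥(V ⊓ Subgroup.centralizer (A : Set G)) := Subgroup.card_le_of_le h3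
    calc Nat.card B * Nat.card ↥(V ⊓ Subgroup.centralizer (B : Set G))
        ≤ Nat.card ↥(B ⊔ (V ⊓ Subgroup.centralizer (B : Set G))) *
          Nat.card ↥(B ⊓ (V ⊓ Subgroup.centralizer (B : Set G))) := h2
      _ ≤ Nat.card A * Nat.card ↥(V ⊓ Subgroup.centralizer (A : Set G)) := Nat.mul_le_mul h1 h4
  · have : ⁅A, A⁆ = ⊥ := Subgroup.commutator_self_eq_bot_iff.mpr hA.1.1
    rw [this]
    exact bot_le
  · intro a ha
    rw [hAab.2 a ha]
    exact one_mem _

end Cfsg.Agent.S0606
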