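import Cfsg.Statements.S0607
import Mathlib
import Cfsg.Agent.Lib.Helper51.NilAction
import Cfsg.Agent.Lib.Helper10.ElemAb
import Cfsg.Agent.S0606

set_option autoImplicit false
open Cfsg

namespace Cfsg.Agent.S0607

open Cfsg.Agent.Helper51 Cfsg.Agent.Helper10
open scoped commutatorElement

theorem replacement_aux {G : Type*} [Group G] [Finite G] {p : ℕ} [Fact p.Prime]
    (V A X Astar : Subgroup G)
    (hV : Cfsg.IsElementaryAbelian p V)
    (hA : A ∈ Cfsg.maxElementaryAbelianSubgroups p G)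
    (hAV : A ≤ Subgroup.normalizer (V : Set G))
    (hab : ⁅A, A⁆ ≤ Subgroup.centralizer (V : Set G))
    (hpow : ∀ a ∈ A, a ^ p ∈ Subgroup.centralizer (V : Set G))
    (hX : X = ⁅V, A⁆)
    (hAstar : Astar = A ⊓ Subgroup.centralizer (X : Set G))
    (h1 : Nat.card Astar * Nat.card ↥(V ⊓ Subgroup.centralizer (Astar : Set G)) =
      Nat.card A * Nat.card ↥(V ⊓ Subgroup.centralizer (A : Set G)))
    (h2 : V ⊓ Subgroup.centralizer (Astar : Set G) = X ⊔ (V ⊓ Subgroup.centralizer (A : Set G))) :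
    (X ⊔ Astar) ∈ Cfsg.maxElementaryAbelianSubgroups p G ∧
      ⁅⁅V, X ⊔ Astar⁆, X ⊔ Astar⁆ = ⊥ ∧ (X ≠ ⊥ → ⁅V, X ⊔ Astar⁆ ≠ ⊥) := by
  have hVab := isElementaryAbelian_iff.mp hV
  have hAab := isElementaryAbelian_iff.mp hA.1
  have hVc : ∀ x ∈ V, ∀ y ∈ V, x * y = y * x := hVab.1
  have hVp : IsPGroup p V := elemAb_isPGroup hV
  have hXV : X ≤ V := by
    rw [hX, Subgroup.commutator_le]
    intro v hv a ha
    exact comm_mem_of_normalizes hAV hv ha
  have hAsA : Astar ≤ A := by rw [hAstar]; exact inf_le_left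
  have hAsC : Astar ≤ Subgroup.centralizer (X : Set G) := by rw [hAstar]; exact inf_le_right
  have hXel : IsElementaryAbelian p X := elemAb_mono hV hXV
  have hAsel : IsElementaryAbelian p Astar := elemAb_mono hA.1 hAsA
  have hcommXA : ∀ x ∈ X, ∀ b ∈ Astar, x * b = b * x := by
    intro x hx b hb
    exact (Subgroup.mem_centralizer_iff.mp (hAsC hb)) x hx
  have hA₀el : IsElementaryAbelian p (X ⊔ Astar) := elemAb_sup_of_commute hXel hAsel hcommXA
  have hA₀ab := isElementaryAbelian_iff.mp hA₀el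
  -- C_V(A) ≤ A by maximality
  have hCA : V ⊓ Subgroup.centralizer (A : Set G) ≤ A := by
    have hCel : IsElementaryAbelian p (V ⊓ Subgroup.centralizer (A : Set G)) :=
      elemAb_mono hV inf_le_left
    have hcomm : ∀ a ∈ A, ∀ c ∈ V ⊓ Subgroup.centralizer (A : Set G), a * c = c * a := by
      intro a ha c hc
      exact (Subgroup.mem_centralizer_iff.mp hc.2) a ha
    have hel := elemAb_sup_of_commute hA.1 hCel hcomm
    have hcard : Nat.card ↥(A ⊔ (V ⊓ Subgroup.centralizer (A : Set G))) ≤ Nat.card A :=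
      hA.2 _ hel
    have : A ⊔ (V ⊓ Subgroup.centralizer (A : Set G)) = A :=
      (Subgroup.eq_of_le_of_card_ge le_sup_left hcard).symm
    exact le_sup_right.trans this.le
  have hCAs : V ⊓ Subgroup.centralizer (A : Set G) ≤ Astar := by
    rw [hAstar]
    refine le_inf hCA ?_
    intro c hc
    rw [Subgroup.mem_centralizer_iff]
    intro x hx
    exact hVc x (hXV hx) c hc.1
  -- A₀ = Astar ⊔ C_V(Astar)
  have hA₀eq : X ⊔ Astar = Astar ⊔ (V ⊓ Subgroup.centralizer (Astar : Set G)) := by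
    apply le_antisymm
    · refine sup_le ?_ le_sup_left
      refine le_trans ?_ le_sup_right
      rw [h2]; exact le_sup_left
    · refine sup_le le_sup_right ?_
      rw [h2]
      exact sup_le le_sup_left (hCAs.trans le_sup_right)
  have hinfle : Astar ⊓ (V ⊓ Subgroup.centralizer (Astar : Set G)) ≤
      V ⊓ Subgroup.centralizer (A : Set G) := by
    intro x hx
    refine ⟨hx.2.1, ?_⟩
    change x ∈ Subgroup.centralizer (A : Set G)
    rw [Subgroup.mem_centralizer_iff]
    intro a ha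
    exact hAab.1 a ha x (hAsA hx.1)
  have hcardA₀ : Nat.card A ≤ Nat.card ↥(X ⊔ Astar) := by
    have i1 := Cfsg.Agent.Helper50.card_mul_card_le Astar (V ⊓ Subgroup.centralizer (Astar : Set G))
    have i2 : Nat.card ↥(Astar ⊓ (V ⊓ Subgroup.centralizer (Astar : Set G))) ≤
        Nat.card ↥(V ⊓ Subgroup.centralizer (A : Set G)) := Subgroup.card_le_of_le hinfle
    have hpos : 0 < Nat.card ↥(V ⊓ Subgroup.centralizer (A : Set G)) := Nat.card_pos
    have h3 : Nat.card A * Nat.card ↥(V ⊓ Subgroup.centralizer (A : Set G)) ≤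
        Nat.card ↥(X ⊔ Astar) * Nat.card ↥(V ⊓ Subgroup.centralizer (A : Set G)) := by
      rw [← h1, hA₀eq]
      exact i1.trans (Nat.mul_le_mul_left _ i2)
    exact Nat.le_of_mul_le_mul_right h3 hpos
  refine ⟨mem_maxElementaryAbelianSubgroups_of_card_le hA hA₀el hcardA₀, ?_, ?_⟩
  · -- quadratic action
    -- T' = {y ∈ C(X) | ∀ v ∈ V, ⁅v, y⁆ ∈ X}
    let T' : Subgroup G :=
      { carrier := {y | y ∈ Subgroup.centralizer (X : Set G) ∧ ∀ v ∈ V, ⁅v, y⁆ ∈ X}
        one_mem' := ⟨one_mem _, fun v _ => by rw [commutatorElement_one_right]; exact one_mem _⟩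
        mul_mem' := by
          rintro y₁ y₂ ⟨hy₁, h₁⟩ ⟨hy₂, h₂⟩
          refine ⟨mul_mem hy₁ hy₂, fun v hv => ?_⟩
          rw [commElt_mul_right]
          have hc := (Subgroup.mem_centralizer_iff.mp hy₁) _ (h₂ v hv)
          have e : y₁ * ⁅v, y₂⁆ * y₁⁻¹ = ⁅v, y₂⁆ := by rw [← hc]; group
          rw [e]
          exact X.mul_mem (h₁ v hv) (h₂ v hv)
        inv_mem' := by
          rintro y ⟨hy, h₁⟩
          refine ⟨inv_mem hy, fun v hv => ?_⟩
          have hc := (Subgroup.mem_centralizer_iff.mp hy) _ (X.inv_mem (h₁ v hv))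
          have e : ⁅v, y⁻¹⁆ = y⁻¹ * (⁅v, y⁆⁻¹ * y) := by
            simp only [commutatorElement_def]; group
          rw [e, hc]
          have e2 : y⁻¹ * (y * ⁅v, y⁆⁻¹) = ⁅v, y⁆⁻¹ := by group
          rw [e2]
          exact X.inv_mem (h₁ v hv) }
    have hXT : X ≤ T' := by
      intro x hx
      refine ⟨?_, fun v hv => ?_⟩
      · rw [Subgroup.mem_centralizer_iff]
        intro x' hx'
        exact hVc x' (hXV hx') x (hXV hx)
      · have : ⁅v, x⁆ = 1 := by
          rw [commutatorElement_eq_one_iff_mul_comm]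
          exact hVc v hv x (hXV hx)
        rw [this]; exact one_mem _
    have hAsT : Astar ≤ T' := by
      intro y hy
      refine ⟨hAsC hy, fun v hv => ?_⟩
      rw [hX]
      exact Subgroup.commutator_mem_commutator hv (hAsA hy)
    have hA₀T : X ⊔ Astar ≤ T' := sup_le hXT hAsT
    have hle1 : ⁅V, X ⊔ Astar⁆ ≤ X := by
      rw [Subgroup.commutator_le]
      intro v hv y hy
      exact (hA₀T hy).2 v hv
    have hle2 : X ≤ Subgroup.centralizer ((X ⊔ Astar : Subgroup G) : Set G) := by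
      intro x hx
      rw [Subgroup.mem_centralizer_iff]
      intro y hy
      exact hA₀ab.1 y hy x (le_sup_left (a := X) hx)
    rw [Subgroup.commutator_eq_bot_iff_le_centralizer]
    exact hle1.trans hle2
  · intro hne hbot
    apply hne
    rw [Subgroup.commutator_eq_bot_iff_le_centralizer] at hbot
    have hVle : V ≤ X ⊔ (V ⊓ Subgroup.centralizer (A : Set G)) := by
      rw [← h2]
      refine le_inf le_rfl (hbot.trans ?_)
      exact Subgroup.centralizer_le (SetLike.coe_subset_coe.mpr le_sup_right)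
    rw [hX]
    rw [hX] at hVle
    exact commutator_eq_bot_of_sup_cv hVc hVp hAV hab hpow le_rfl hVle

/-- The replacement Theorem for the Thompson subgroup: from A of maximal order among elementary abelian p-subgroups one obtains A₀ = [V, A] C_A([V, A]) of the same kind, quadratic on V and nontrivial on V when A is. -/
theorem result {G : Type*} [Group G] [Finite G] {p : ℕ} [Fact p.Prime] (V : Subgroup G) [V.Normal] (hV : Cfsg.IsElementaryAbelian p V) (A : Subgroup G) (hA : A ∈ Cfsg.maxElementaryAbelianSubgroups p G) : (⁅V, A⁆ ⊔ (A ⊓ Subgroup.centralizer ((⁅V, A⁆ : Subgroup G) : Set G))) ∈ Cfsg.maxElementaryAbelianSubgroups p G ∧ ⁅⁅V, ⁅V, A⁆ ⊔ (A ⊓ Subgroup.centralizer ((⁅V, A⁆ : Subgroup G) : Set G))⁆, ⁅V, A⁆ ⊔ (A ⊓ Subgroup.centralizer ((⁅V, A⁆ : Subgroup G) : Set G))⁆ = ⊥ ∧ (⁅V, A⁆ ≠ ⊥ → ⁅V, ⁅V, A⁆ ⊔ (A ⊓ Subgroup.centralizer ((⁅V, A⁆ : Subgroup G) : Set G))⁆ ≠ ⊥) := by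
  have hVab := isElementaryAbelian_iff.mp hV
  have hVc : ∀ x ∈ V, ∀ y ∈ V, x * y = y * x := hVab.1
  have hAV : A ≤ Subgroup.normalizer (V : Set G) := by
    rw [Subgroup.normalizer_eq_top]; exact le_top
  obtain ⟨hmax, hab, hpow⟩ := Cfsg.Agent.S0606.result V hV A hA
  have hmax' : ∀ B : Subgroup G, B ≤ A → tm V B ≤ tm V A := hmax
  obtain ⟨h1, h2⟩ := goodSub_commutator hVc hAV hab hmax' (le_refl V)
  exact replacement_aux V A ⁅V, A⁆ (A ⊓ Subgroup.centralizer ((⁅V, A⁆ : Subgroup G) : Set G))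
    hV hA hAV hab hpow rfl rfl h1 h2

end Cfsg.Agent.S0607
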