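import Cfsg.Statements.S1190
import Mathlib
import Cfsg.Agent.Lib.Helper20.QDKlein

set_option autoImplicit false
open Cfsg Cfsg.Agent.Helper20

namespace Cfsg.Agent.S1190

/-- In a quasi-dihedral 2-group S, any two Klein four-subgroups are conjugate, and every Klein four-subgroup T satisfies C_S(T) = T and |N_S(T) : T| = 2. -/
theorem result {S : Type*} [Group S] [Finite S] (hS : Cfsg.IsQuasiDihedral S) : (∀ T₁ T₂ : Subgroup S, IsKleinFour T₁ → IsKleinFour T₂ → ∃ s : S, T₁.map (MulAut.conj s).toMonoidHom = T₂) ∧ (∀ T : Subgroup S, IsKleinFour T → Subgroup.centralizer (T : Set S) = T ∧ T.relIndex (Subgroup.normalizer (T : Set S)) = 2) := by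
  obtain ⟨k, -, ⟨φ⟩⟩ := exists_iso_SD hS
  constructor
  · intro T₁ T₂ h₁ h₂
    have h₁' := isKleinFour_map φ.symm T₁ h₁
    have h₂' := isKleinFour_map φ.symm T₂ h₂
    obtain ⟨s, hs⟩ := SD.klein_conj _ _ h₁' h₂'
    refine ⟨φ s, ?_⟩
    have := congrArg (Subgroup.map φ.toMonoidHom) hs
    rw [map_conj_map, map_symm_map, map_symm_map] at this
    exact this
  · intro T hT
    have hT' := isKleinFour_map φ.symm T hT
    constructor
    · have h1 := SD.klein_centralizer _ hT'
      have h2 := map_centralizer_equiv φ.symm T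
      rw [h1] at h2
      exact Subgroup.map_injective φ.symm.injective h2
    · have h1 := SD.klein_relIndex _ hT'
      rw [← map_normalizer_equiv φ.symm T, relIndex_map_equiv] at h1
      exact h1


end Cfsg.Agent.S1190
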