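import Cfsg.Statements.S1191
import Mathlib
import Cfsg.Agent.Lib.Helper20.QDQuat

set_option autoImplicit false
open Cfsg Cfsg.Agent.Helper20

namespace Cfsg.Agent.S1191

/-- In a quasi-dihedral 2-group S, any two subgroups isomorphic to the quaternion group of order 8 are conjugate, and each such subgroup Q satisfies C_S(Q) = Z(Q) and |N_S(Q) : Q| = 2. -/
theorem result {S : Type*} [Group S] [Finite S] (hS : Cfsg.IsQuasiDihedral S) : (∀ Q₁ Q₂ : Subgroup S, Nonempty (Q₁ ≃* QuaternionGroup 2) → Nonempty (Q₂ ≃* QuaternionGroup 2) → ∃ s : S, Q₁.map (MulAut.conj s).toMonoidHom = Q₂) ∧ (∀ Q : Subgroup S, Nonempty (Q ≃* QuaternionGroup 2) → Subgroup.centralizer (Q : Set S) = (Subgroup.center Q).map Q.subtype ∧ Q.relIndex (Subgroup.normalizer (Q : Set S)) = 2) := by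
  obtain ⟨k, -, ⟨φ⟩⟩ := exists_iso_SD hS
  have tr : ∀ Q : Subgroup S, Nonempty (Q ≃* QuaternionGroup 2) →
      Nonempty (↥(Q.map φ.symm.toMonoidHom) ≃* QuaternionGroup 2) := by
    rintro Q ⟨ψ⟩
    exact ⟨((Q.equivMapOfInjective φ.symm.toMonoidHom φ.symm.injective).symm).trans ψ⟩
  constructor
  · intro Q₁ Q₂ h₁ h₂
    obtain ⟨s, hs⟩ := SD.quat_conj _ _ (tr Q₁ h₁) (tr Q₂ h₂)
    refine ⟨φ s, ?_⟩
    have := congrArg (Subgroup.map φ.toMonoidHom) hs
    rw [map_conj_map, map_symm_map, map_symm_map] at this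
    exact this
  · intro Q hQ
    have hQ' := tr Q hQ
    constructor
    · apply centralizer_eq_map_center_of_le
      have h1 := SD.quat_centralizer _ hQ'
      rw [← map_centralizer_equiv φ.symm Q] at h1
      exact (map_le_map_iff_equiv φ.symm _ _).mp h1
    · have h1 := SD.quat_relIndex _ hQ'
      rw [← map_normalizer_equiv φ.symm Q, relIndex_map_equiv] at h1
      exact h1


end Cfsg.Agent.S1191
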