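import Cfsg.Statements.S1203
import Mathlib
import Cfsg.Agent.Lib.Helper20.LocalIdx
import Cfsg.Agent.S1190
import Cfsg.Agent.S1191

set_option autoImplicit false
open Cfsg Cfsg.Agent.Helper20

namespace Cfsg.Agent.S1203

/-- Let G be a finite group with quasi-dihedral Sylow 2-subgroup S, T a Klein four-subgroup of S and Q a quaternion subgroup of order 8 of S. Then |N_G(T) : C_G(T)| ∈ {2, 6} and |N_G(Q) : Q C_G(Q)| ∈ {2, 6}. -/
theorem result {G : Type*} [Group G] [Finite G] (S : Sylow 2 G) (hS : Cfsg.IsQuasiDihedral (S : Subgroup G)) (T : Subgroup G) (hT : IsKleinFour T) (hTS : T ≤ S) (Q : Subgroup G) (hQS : Q ≤ S) (eQ : Q ≃* QuaternionGroup 2) : ((Subgroup.centralizer (T : Set G)).relIndex (Subgroup.normalizer (T : Set G)) = 2 ∨ (Subgroup.centralizer (T : Set G)).relIndex (Subgroup.normalizer (T : Set G)) = 6) ∧ ((Q ⊔ Subgroup.centralizer (Q : Set G)).relIndex (Subgroup.normalizer (Q : Set G)) = 2 ∨ (Q ⊔ Subgroup.centralizer (Q : Set G)).relIndex (Subgroup.normalizer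 (Q : Set G)) = 6) := by
  have hS2 : IsPGroup 2 (S : Subgroup G) := S.isPGroup'
  constructor
  · have hT' : IsKleinFour ↥(T.subgroupOf (S : Subgroup G)) := by
      have e := Subgroup.subgroupOfEquivOfLe hTS
      exact ⟨by rw [Nat.card_congr e.toEquiv]; exact hT.card_four,
        by rw [Monoid.exponent_eq_of_mulEquiv e]; exact hT.exponent_two⟩
    obtain ⟨h1, h2⟩ := (Cfsg.Agent.S1190.result hS).2 _ hT'
    exact localIdx_four (S : Subgroup G) hS2 T hT.card_four hTS (le_of_eq h1) h2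
  · have hQ' : Nonempty (↥(Q.subgroupOf (S : Subgroup G)) ≃* QuaternionGroup 2) :=
      ⟨(Subgroup.subgroupOfEquivOfLe hQS).trans eQ⟩
    obtain ⟨h1, h2⟩ := (Cfsg.Agent.S1191.result hS).2 _ hQ'
    refine localIdx_quat (S : Subgroup G) hS2 Q eQ hQS ?_ h2
    rw [h1]
    exact Subgroup.map_subtype_le _


end Cfsg.Agent.S1203
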