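import Cfsg.Statements.S1205
import Mathlib
import Cfsg.Agent.Lib.Helper20.QDFus5
import Cfsg.Agent.Lib.Helper98.Transport

set_option autoImplicit false
open Cfsg Cfsg.Agent.Helper20

namespace Cfsg.Agent.S1205

/-- Let G be a finite group with quasi-dihedral Sylow 2-subgroup S, T a Klein four-subgroup and Q a quaternion subgroup of order 8 of S, with |N_G(T) : C_G(T)| = 2 and |N_G(Q) : Q C_G(Q)| = 6. Then G has a normal subgroup K of index 2 whose Sylow 2-subgroups are generalized quaternion and which has no subgroup of index 2; the centre of S is weakly closed in S; and G has exactly two classes of involutions and one class of elements of order 4. -/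
theorem result {G : Type*} [Group G] [Finite G] (S : Sylow 2 G) (hS : Cfsg.IsQuasiDihedral (S : Subgroup G)) (T : Subgroup G) (hT : IsKleinFour T) (hTS : T ≤ S) (Q : Subgroup G) (hQS : Q ≤ S) (eQ : Q ≃* QuaternionGroup 2) (h₁ : (Subgroup.centralizer (T : Set G)).relIndex (Subgroup.normalizer (T : Set G)) = 2) (h₂ : (Q ⊔ Subgroup.centralizer (Q : Set G)).relIndex (Subgroup.normalizer (Q : Set G)) = 6) : (∃ K : Subgroup G, K.Normal ∧ K.index = 2 ∧ (∀ P : Sylow 2 ↥K, ∃ m : ℕ, 1 ≤ m ∧ Nonempty ((P : Subgroup ↥K) ≃* QuaternionGroup (2 ^ m))) ∧ (∀ H : Subgroup ↥K, H.index ≠ 2)) ∧ Cfsg.IsWeaklyClosed ((Subgroup.center (S : Subgroup G)).map (S : Subgroup G).subtype) (S : Subgroup G) ∧ Nat.card {C : ConjClasses G // ∃ t : G, orderOf t = 2 ∧ ConjClasses.mk t = C} = 2 ∧ Nat.card {C : ConjClasses G // ∃ t : G, orderOf t = 4 ∧ ConjClasses.mk t = C} = 1 := by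
  obtain ⟨k, ι, hinj, hrange⟩ := exists_coord (S : Subgroup G) hS
  obtain ⟨b, hTb⟩ := klein_eq_map S ι hinj hrange T hT hTS
  obtain ⟨c, hQc⟩ := quat_eq_map S ι hinj hrange Q ⟨eQ⟩ hQS
  have hzt := not_isConj_z_t_of_two S ι hinj hrange hS b T hT hTS hTb h₁
  obtain ⟨n₂, hn₂, hvu⟩ := exists_conj_v_u_of_six S ι hinj hrange c Q eQ hQc h₂
  have hvu' : IsConj (ι ⟨qN k, false⟩) (ι ⟨2 * c + 1, true⟩) := by
    rcases hvu with h | h
    · exact isConj_iff.mpr ⟨n₂, h⟩
    · have h1 : IsConj (ι ⟨qN k, false⟩) (ι ⟨2 * c + 1, true⟩)⁻¹ := isConj_iff.mpr ⟨n₂, h⟩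
      rw [← map_inv] at h1
      exact h1.trans (ι.map_isConj (SD.isConj_inv_uS c))
  have hto : orderOf (⟨2 * b, true⟩ : SD k) = 2 :=
    (SD.orderOf_eq_two_iff _).mpr (Or.inr ⟨rfl, b, rfl⟩)
  refine ⟨?_, ?_, ?_, ?_⟩
  · obtain ⟨K, hKn, hK2, htK⟩ := exists_index_two_of_transfer S ι hinj hrange SD.Qt SD.index_Qt 1
      le_rfl (by
        intro p hp
        have h1 : orderOf p ≠ 1 := by
          rw [Ne, orderOf_eq_one_iff]
          rintro rfl
          exact hp (Subgroup.one_mem _)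
        have h2 := orderOf_pos p
        simp only [Nat.sub_self, pow_zero]
        omega) ⟨2 * b, true⟩ (by rw [hto, pow_one]) (by
        intro g p hp e
        have hpo : orderOf p = 2 := by
          have h1 : orderOf (g * ι ⟨2 * b, true⟩ * g⁻¹) = orderOf (ι ⟨2 * b, true⟩) :=
            MulEquiv.orderOf_eq (MulAut.conj g) _
          rw [e, orderOf_injective ι hinj, orderOf_injective ι hinj, hto] at h1
          exact h1
        rcases (SD.orderOf_eq_two_iff p).mp hpo with h | ⟨h1, b', h2⟩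
        · apply hzt
          rw [isConj_comm, isConj_iff]
          exact ⟨g, by rw [e, h]⟩
        · rcases (SD.mem_Qt p).mp hp with ⟨h3, -⟩ | ⟨-, b'', h4⟩
          · rw [h1] at h3; exact absurd h3 (by simp)
          · rw [h2] at h4; exact even_ne_odd _ _ h4)
    have hco := isCoatom_comap S ι hinj hrange K hK2 ⟨2 * b, true⟩ htK
    have hKQt : K.comap ι = SD.Qt := by
      rcases (SD.coatom_iff _).mp hco with h | h | h
      · exfalso
        have hv : ι ⟨qN k, false⟩ ∈ K :=
          (show (⟨qN k, false⟩ : SD k) ∈ K.comap ι from h ▸ (SD.mem_Rot _).mpr rfl)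
        have h5 := hKn.conj_mem _ hv n₂
        have hu : ι ⟨2 * c + 1, true⟩ ∈ K := by
          rcases hvu with e | e
          · rw [e] at h5; exact h5
          · rw [e] at h5; exact (K.inv_mem_iff).mp h5
        have h6 : (⟨2 * c + 1, true⟩ : SD k) ∈ K.comap ι := hu
        rw [h, SD.mem_Rot] at h6
        simp at h6
      · exact h
      · exfalso
        exact htK (show (⟨2 * b, true⟩ : SD k) ∈ K.comap ι from h ▸ (SD.mem_Dih _).mpr ⟨b, rfl⟩)
    have hSK : (S : Subgroup G) ⊓ K = SD.Qt.map ι := by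
      rw [inf_eq_map_comap S ι hinj hrange K, hKQt]
    refine ⟨K, hKn, hK2, ?_, ?_⟩
    · intro P
      obtain ⟨e⟩ := sylow_equiv_inf_normal S K P
      exact ⟨k + 1, by omega, ⟨e.trans ((MulEquiv.subgroupCongr hSK).trans
        (((SD.Qt (k := k)).equivMapOfInjective ι hinj).symm.trans SD.qtEquiv))⟩⟩
    · intro H hH
      apply not_inf_le_of_index_prime S K H hH
      rw [hSK]
      apply subgroupOf_le_of_map_le
      have hrel : (H.map K.subtype).relIndex K = 2 := by rw [relIndex_map_subtype, hH]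
      have hcomm : ∀ x g, x ∈ K → g ∈ K → x⁻¹ * (g * x * g⁻¹) ∈ H.map K.subtype :=
        fun x g hx hg => comm_mem_of_relIndex_two _ K hrel x g hx hg
      have hQtK : ∀ p ∈ (SD.Qt : Subgroup (SD k)), ι p ∈ K :=
        fun p hp => (show p ∈ K.comap ι from hKQt ▸ hp)
      have hs₀ : ι ⟨1, false⟩ ∉ K := fun h =>
        SD.one_false_not_mem_Qt (hKQt ▸ (show (⟨1, false⟩ : SD k) ∈ K.comap ι from h))
      have hcomm₀ : ι ⟨1, false⟩ * ι ⟨qN k, false⟩ = ι ⟨qN k, false⟩ * ι ⟨1, false⟩ := by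
        rw [← map_mul, ← map_mul, SD.one_false_comm_rot]
      obtain ⟨n', hn'K, hn'⟩ := exists_mem_conj_eq_of_index_two K hK2 _ (ι ⟨qN k, false⟩)
        hs₀ hcomm₀ n₂
      have hvK : ι ⟨qN k, false⟩ ∈ K :=
        hQtK _ ((SD.mem_Qt _).mpr (Or.inl ⟨rfl, oN k, two_oN.symm⟩))
      have hle : SD.Qt ≤ (H.map K.subtype).comap ι := by
        apply SD.Qt_le_of_fusion _ ?_ c ?_ ?_
        · intro s₁ hs₁ s₂ hs₂
          rw [Subgroup.mem_comap]
          simp only [map_mul, map_inv]
          exact hcomm _ _ (hQtK _ hs₁) (hQtK _ hs₂)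
        · have h7 := hcomm _ _ hvK hn'K
          rw [hn'] at h7
          rcases hvu with e | e
          · left; rw [Subgroup.mem_comap, map_mul, map_inv, ← e]; exact h7
          · right; rw [Subgroup.mem_comap, map_mul, map_inv, map_inv, ← e]; exact h7
        · have hn''K : ι ⟨1, false⟩ * n' * (ι ⟨1, false⟩)⁻¹ ∈ K := hKn.conj_mem _ hn'K _
          have h7 := hcomm _ _ hvK hn''K
          have h8 : (ι ⟨1, false⟩)⁻¹ * ι ⟨qN k, false⟩ * ι ⟨1, false⟩ = ι ⟨qN k, false⟩ := by
            rw [mul_assoc, ← hcomm₀, ← mul_assoc, inv_mul_cancel, one_mul]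
          have e1 : (ι ⟨1, false⟩ * n' * (ι ⟨1, false⟩)⁻¹) * ι ⟨qN k, false⟩ *
              (ι ⟨1, false⟩ * n' * (ι ⟨1, false⟩)⁻¹)⁻¹ =
              ι ⟨1, false⟩ * (n₂ * ι ⟨qN k, false⟩ * n₂⁻¹) * (ι ⟨1, false⟩)⁻¹ := by
            rw [← hn']
            calc (ι ⟨1, false⟩ * n' * (ι ⟨1, false⟩)⁻¹) * ι ⟨qN k, false⟩ *
                (ι ⟨1, false⟩ * n' * (ι ⟨1, false⟩)⁻¹)⁻¹
                = ι ⟨1, false⟩ * (n' * ((ι ⟨1, false⟩)⁻¹ * ι ⟨qN k, false⟩ * ι ⟨1, false⟩) * n'⁻¹) *
                  (ι ⟨1, false⟩)⁻¹ := by group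
              _ = ι ⟨1, false⟩ * (n' * ι ⟨qN k, false⟩ * n'⁻¹) * (ι ⟨1, false⟩)⁻¹ := by rw [h8]
          rw [e1] at h7
          rcases hvu with e | e
          · right
            rw [e] at h7
            rw [Subgroup.mem_comap, ← SD.conj_one_uS]
            simp only [map_mul, map_inv]
            exact h7
          · left
            rw [e] at h7
            have e2 : (⟨2 * c + 3, true⟩ : SD k) =
                (⟨1, false⟩ : SD k) * (⟨2 * c + 1, true⟩ : SD k)⁻¹ * (⟨1, false⟩ : SD k)⁻¹ := by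
              have := congrArg (fun x => x⁻¹) (SD.conj_one_uS (k := k) c)
              simp only [mul_inv_rev, inv_inv] at this
              rw [← this]; group
            rw [Subgroup.mem_comap, e2]
            simp only [map_mul, map_inv]
            exact h7
      rintro _ ⟨p, hp, rfl⟩
      exact hle hp
  · rw [center_map_eq S ι hinj hrange]
    refine ⟨?_, ?_⟩
    · rw [Subgroup.zpowers_le, ← hrange]; exact ⟨_, rfl⟩
    · intro g hg
      rw [map_conj_zpowers] at hg ⊢
      have hgS : g * ι ⟨hN k, false⟩ * g⁻¹ ∈ ι.range := by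
        rw [hrange]; exact hg (Subgroup.mem_zpowers _)
      obtain ⟨p, hp⟩ := hgS
      have hpo : orderOf p = 2 := by
        rw [← orderOf_injective ι hinj p, hp]
        have h0 : orderOf (ι ⟨hN k, false⟩) = 2 := by
          rw [orderOf_injective ι hinj, SD.orderOf_eq_two_iff]; left; rfl
        have h1 : orderOf (g * ι ⟨hN k, false⟩ * g⁻¹) = orderOf (ι ⟨hN k, false⟩) :=
          MulEquiv.orderOf_eq (MulAut.conj g) _
        rw [h1, h0]
      rcases SD.isConj_of_orderOf_two b p hpo with h | h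
      · rw [← hp, h]
      · exfalso
        apply hzt
        have h1 : IsConj (ι ⟨hN k, false⟩) (ι p) := isConj_iff.mpr ⟨g, hp.symm⟩
        exact h1.trans (ι.map_isConj h)
  · apply Cfsg.Agent.Helper98.card_classes_eq_two 2 (ι ⟨hN k, false⟩) (ι ⟨2 * b, true⟩)
    · rw [orderOf_injective ι hinj, SD.orderOf_eq_two_iff]; left; rfl
    · rw [orderOf_injective ι hinj]; exact hto
    · exact hzt
    · intro t ht
      exact isConj_involution S ι hinj hrange b t ht
  · apply Cfsg.Agent.Helper98.card_classes_eq_one 4 (ι ⟨qN k, false⟩)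
    · rw [orderOf_injective ι hinj]; exact SD.orderOf_vS
    · intro t ht
      rcases isConj_order_four S ι hinj hrange c t ht with h | h
      · exact h
      · exact h.trans hvu'.symm


end Cfsg.Agent.S1205
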