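import Cfsg.Statements.S1206
import Mathlib
import Cfsg.Agent.Lib.Helper20.QDFus5
import Cfsg.Agent.Lib.Helper98.Transport

set_option autoImplicit false
open Cfsg Cfsg.Agent.Helper20

namespace Cfsg.Agent.S1206

/-- Let G be a finite group with quasi-dihedral Sylow 2-subgroup S, T a Klein four-subgroup and Q a quaternion subgroup of order 8 of S, with |N_G(T) : C_G(T)| = 6 and |N_G(Q) : Q C_G(Q)| = 2. Then G has a normal subgroup K of index 2 whose Sylow 2-subgroups are dihedral and which has no subgroup of index 2, and G has exactly one class of involutions and two classes of elements of order 4. -/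
theorem result {G : Type*} [Group G] [Finite G] (S : Sylow 2 G) (hS : Cfsg.IsQuasiDihedral (S : Subgroup G)) (T : Subgroup G) (hT : IsKleinFour T) (hTS : T ≤ S) (Q : Subgroup G) (hQS : Q ≤ S) (eQ : Q ≃* QuaternionGroup 2) (h₁ : (Subgroup.centralizer (T : Set G)).relIndex (Subgroup.normalizer (T : Set G)) = 6) (h₂ : (Q ⊔ Subgroup.centralizer (Q : Set G)).relIndex (Subgroup.normalizer (Q : Set G)) = 2) : (∃ K : Subgroup G, K.Normal ∧ K.index = 2 ∧ (∀ P : Sylow 2 ↥K, ∃ m : ℕ, Nonempty ((P : Subgroup ↥K) ≃* DihedralGroup m)) ∧ (∀ H : Subgroup ↥K, H.index ≠ 2)) ∧ Nat.card {C : ConjClasses G // ∃ t : G, orderOf t = 2 ∧ ConjClasses.mk t = C} = 1 ∧ Nat.card {C : ConjClasses G // ∃ t : G, orderOf t = 4 ∧ ConjClasses.mk t = C} = 2 := by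
  obtain ⟨k, ι, hinj, hrange⟩ := exists_coord (S : Subgroup G) hS
  obtain ⟨b, hTb⟩ := klein_eq_map S ι hinj hrange T hT hTS
  obtain ⟨c, hQc⟩ := quat_eq_map S ι hinj hrange Q ⟨eQ⟩ hQS
  obtain ⟨n₁, hn₁, hzt⟩ := exists_conj_z_t_of_six S ι hinj hrange b T hT.card_four hTb h₁
  have hzt' : IsConj (ι ⟨hN k, false⟩) (ι ⟨2 * b, true⟩) := isConj_iff.mpr ⟨n₁, hzt⟩
  have hvu := not_isConj_v_u_of_two S ι hinj hrange hS c Q eQ hQS hQc h₂
  have huo : orderOf (⟨2 * c + 1, true⟩ : SD k) = 4 := SD.orderOf_uS c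
  refine ⟨?_, ?_, ?_⟩
  · obtain ⟨K, hKn, hK2, huK⟩ := exists_index_two_of_transfer S ι hinj hrange SD.Dih SD.index_Dih 2
      (by norm_num) (by
        intro p hp
        have h1 : orderOf p ≠ 1 := by
          rw [Ne, orderOf_eq_one_iff]
          rintro rfl
          exact hp (Subgroup.one_mem _)
        have h2 : orderOf p ≠ 2 := by
          intro h
          rcases (SD.orderOf_eq_two_iff p).mp h with h3 | ⟨-, b', h4⟩
          · apply hp
            rw [h3, SD.mem_Dih]
            exact ⟨qN k, two_qN.symm⟩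
          · exact hp ((SD.mem_Dih _).mpr ⟨b', h4⟩)
        have h3 := orderOf_pos p
        simp only [Nat.add_one_sub_one, pow_one]
        omega) ⟨2 * c + 1, true⟩ (by rw [huo]; norm_num) (by
        intro g p hp e
        have hpo : orderOf p = 4 := by
          have h1 : orderOf (g * ι ⟨2 * c + 1, true⟩ * g⁻¹) = orderOf (ι ⟨2 * c + 1, true⟩) :=
            MulEquiv.orderOf_eq (MulAut.conj g) _
          rw [e, orderOf_injective ι hinj, orderOf_injective ι hinj, huo] at h1
          exact h1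
        have hup : IsConj (ι ⟨2 * c + 1, true⟩) (ι p) := isConj_iff.mpr ⟨g, e⟩
        rcases (SD.orderOf_eq_four_iff p).mp hpo with h | h | ⟨h1, b', h2⟩
        · apply hvu
          rw [h] at hup
          exact hup.symm
        · apply hvu
          rw [h] at hup
          exact (hup.trans (ι.map_isConj SD.isConj_inv_qN)).symm
        · obtain ⟨b'', h4⟩ := (SD.mem_Dih p).mp hp
          rw [h2] at h4
          exact even_ne_odd _ _ h4.symm)
    have hco := isCoatom_comap S ι hinj hrange K hK2 ⟨2 * c + 1, true⟩ huK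
    have hKD : K.comap ι = SD.Dih := by
      rcases (SD.coatom_iff _).mp hco with h | h | h
      · exfalso
        have hz : ι ⟨hN k, false⟩ ∈ K :=
          (show (⟨hN k, false⟩ : SD k) ∈ K.comap ι from h ▸ (SD.mem_Rot _).mpr rfl)
        have h5 := hKn.conj_mem _ hz n₁
        rw [hzt] at h5
        have h6 : (⟨2 * b, true⟩ : SD k) ∈ K.comap ι := h5
        rw [h, SD.mem_Rot] at h6
        simp at h6
      · exfalso
        exact huK (show (⟨2 * c + 1, true⟩ : SD k) ∈ K.comap ι from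
          h ▸ (SD.mem_Qt _).mpr (Or.inr ⟨rfl, c, rfl⟩))
      · exact h
    have hSK : (S : Subgroup G) ⊓ K = SD.Dih.map ι := by
      rw [inf_eq_map_comap S ι hinj hrange K, hKD]
    refine ⟨K, hKn, hK2, ?_, ?_⟩
    · intro P
      obtain ⟨e⟩ := sylow_equiv_inf_normal S K P
      exact ⟨2 ^ (k + 2), ⟨e.trans ((MulEquiv.subgroupCongr hSK).trans
        (((SD.Dih (k := k)).equivMapOfInjective ι hinj).symm.trans SD.dihEquiv))⟩⟩
    · intro H hH
      apply not_inf_le_of_index_prime S K H hH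
      rw [hSK]
      apply subgroupOf_le_of_map_le
      have hrel : (H.map K.subtype).relIndex K = 2 := by rw [relIndex_map_subtype, hH]
      have hcomm : ∀ x g, x ∈ K → g ∈ K → x⁻¹ * (g * x * g⁻¹) ∈ H.map K.subtype :=
        fun x g hx hg => comm_mem_of_relIndex_two _ K hrel x g hx hg
      have hDK : ∀ p ∈ (SD.Dih : Subgroup (SD k)), ι p ∈ K :=
        fun p hp => (show p ∈ K.comap ι from hKD ▸ hp)
      have hs₀ : ι ⟨1, false⟩ ∉ K := fun h =>
        SD.one_false_not_mem_Dih (hKD ▸ (show (⟨1, false⟩ : SD k) ∈ K.comap ι from h))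
      have hcomm₀ : ι ⟨1, false⟩ * ι ⟨hN k, false⟩ = ι ⟨hN k, false⟩ * ι ⟨1, false⟩ := by
        rw [← map_mul, ← map_mul, SD.one_false_comm_rot]
      obtain ⟨n', hn'K, hn'⟩ := exists_mem_conj_eq_of_index_two K hK2 _ (ι ⟨hN k, false⟩)
        hs₀ hcomm₀ n₁
      have hzK : ι ⟨hN k, false⟩ ∈ K := hDK _ ((SD.mem_Dih _).mpr ⟨qN k, two_qN.symm⟩)
      have hle : SD.Dih ≤ (H.map K.subtype).comap ι := by
        apply SD.Dih_le_of_fusion _ ?_ b ?_ ?_
        · intro s₁ hs₁ s₂ hs₂
          rw [Subgroup.mem_comap]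
          simp only [map_mul, map_inv]
          exact hcomm _ _ (hDK _ hs₁) (hDK _ hs₂)
        · have h7 := hcomm _ _ hzK hn'K
          rw [hn', hzt] at h7
          rw [Subgroup.mem_comap, map_mul, map_inv]
          exact h7
        · have hn''K : ι ⟨1, false⟩ * n' * (ι ⟨1, false⟩)⁻¹ ∈ K := hKn.conj_mem _ hn'K _
          have h7 := hcomm _ _ hzK hn''K
          have h8 : (ι ⟨1, false⟩)⁻¹ * ι ⟨hN k, false⟩ * ι ⟨1, false⟩ = ι ⟨hN k, false⟩ := by
            rw [mul_assoc, ← hcomm₀, ← mul_assoc, inv_mul_cancel, one_mul]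
          have e1 : (ι ⟨1, false⟩ * n' * (ι ⟨1, false⟩)⁻¹) * ι ⟨hN k, false⟩ *
              (ι ⟨1, false⟩ * n' * (ι ⟨1, false⟩)⁻¹)⁻¹ =
              ι ⟨1, false⟩ * (n₁ * ι ⟨hN k, false⟩ * n₁⁻¹) * (ι ⟨1, false⟩)⁻¹ := by
            rw [← hn']
            calc (ι ⟨1, false⟩ * n' * (ι ⟨1, false⟩)⁻¹) * ι ⟨hN k, false⟩ *
                (ι ⟨1, false⟩ * n' * (ι ⟨1, false⟩)⁻¹)⁻¹
                = ι ⟨1, false⟩ * (n' * ((ι ⟨1, false⟩)⁻¹ * ι ⟨hN k, false⟩ * ι ⟨1, false⟩) * n'⁻¹) *
                  (ι ⟨1, false⟩)⁻¹ := by group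
              _ = ι ⟨1, false⟩ * (n' * ι ⟨hN k, false⟩ * n'⁻¹) * (ι ⟨1, false⟩)⁻¹ := by rw [h8]
          rw [e1, hzt] at h7
          rw [Subgroup.mem_comap, ← SD.conj_one_tS]
          simp only [map_mul, map_inv]
          exact h7
      rintro _ ⟨p, hp, rfl⟩
      exact hle hp
  · apply Cfsg.Agent.Helper98.card_classes_eq_one 2 (ι ⟨hN k, false⟩)
    · rw [orderOf_injective ι hinj, SD.orderOf_eq_two_iff]; left; rfl
    · intro t ht
      rcases isConj_involution S ι hinj hrange b t ht with h | h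
      · exact h
      · exact h.trans hzt'.symm
  · apply Cfsg.Agent.Helper98.card_classes_eq_two 4 (ι ⟨qN k, false⟩) (ι ⟨2 * c + 1, true⟩)
    · rw [orderOf_injective ι hinj]; exact SD.orderOf_vS
    · rw [orderOf_injective ι hinj]; exact huo
    · exact hvu
    · intro t ht
      exact isConj_order_four S ι hinj hrange c t ht


end Cfsg.Agent.S1206
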