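import Cfsg.Statements.S1189
import Mathlib
import Cfsg.Agent.Lib.Helper20.QDFacts
import Cfsg.Agent.Lib.Helper98.Transport

set_option autoImplicit false
open Cfsg Cfsg.Agent.Helper20

namespace Cfsg.Agent.S1189

/-- A quasi-dihedral 2-group has exactly two conjugacy classes of elements of order 2 and exactly two conjugacy classes of elements of order 4. -/
theorem result {S : Type*} [Group S] [Finite S] (hS : Cfsg.IsQuasiDihedral S) : Nat.card {C : ConjClasses S // ∃ t : S, orderOf t = 2 ∧ ConjClasses.mk t = C} = 2 ∧ Nat.card {C : ConjClasses S // ∃ t : S, orderOf t = 4 ∧ ConjClasses.mk t = C} = 2 := by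
  obtain ⟨k, -, ⟨φ⟩⟩ := exists_iso_SD hS
  rw [← Cfsg.Agent.Helper98.card_classes_orderOf_congr φ 2,
    ← Cfsg.Agent.Helper98.card_classes_orderOf_congr φ 4]
  constructor
  · apply Cfsg.Agent.Helper98.card_classes_eq_two 2 (⟨hN k, false⟩ : SD k) ⟨0, true⟩
    · rw [SD.orderOf_eq_two_iff]; left; rfl
    · rw [SD.orderOf_eq_two_iff]; right; exact ⟨rfl, 0, by simp⟩
    · intro h
      have := SD.isConj_e h
      simp at this
    · intro t ht
      rw [SD.orderOf_eq_two_iff] at ht
      rcases ht with rfl | ⟨h1, b, h2⟩
      · left; exact IsConj.refl _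
      · right
        rcases t with ⟨a, e⟩
        simp only at h1 h2
        subst h1 h2
        have := SD.isConj_true_of_even (k := k) 0 b
        rw [zero_add] at this
        exact this.symm
  · apply Cfsg.Agent.Helper98.card_classes_eq_two 4 (⟨qN k, false⟩ : SD k) ⟨1, true⟩
    · rw [SD.orderOf_eq_four_iff]; left; rfl
    · rw [SD.orderOf_eq_four_iff]; right; right; exact ⟨rfl, 0, by simp⟩
    · intro h
      have := SD.isConj_e h
      simp at this
    · intro t ht
      rw [SD.orderOf_eq_four_iff] at ht
      rcases ht with rfl | rfl | ⟨h1, b, h2⟩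
      · left; exact IsConj.refl _
      · left
        rw [isConj_iff]
        refine ⟨⟨0, true⟩, ?_⟩
        rw [SD.conj_true_false, SD.cN_mul]
        simp only [SD.mk.injEq, and_true]
        rw [mul_add, hN_mul_qN, hN_mul_hN]
        linear_combination (-1 : ZMod (2 ^ (k + 3))) * (two_qN (k := k)) - (two_hN (k := k))
      · right
        rcases t with ⟨a, e⟩
        simp only at h1 h2
        subst h1 h2
        have := SD.isConj_true_of_even (k := k) 1 b
        rw [add_comm (1 : ZMod (2 ^ (k + 3))) (2 * b)] at this
        exact this.symm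


end Cfsg.Agent.S1189
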