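import Cfsg.Statements.S1207
import Mathlib
import Cfsg.Agent.Lib.Helper20.FrobQD
import Cfsg.Agent.S1189

set_option autoImplicit false
open Cfsg Cfsg.Agent.Helper20

namespace Cfsg.Agent.S1207

/-- Let G be a finite group with quasi-dihedral Sylow 2-subgroup S, T a Klein four-subgroup and Q a quaternion subgroup of order 8 of S, with |N_G(T) : C_G(T)| = 2 and |N_G(Q) : Q C_G(Q)| = 2. Then G has a normal 2-complement, exactly two classes of involutions and exactly two classes of elements of order 4. -/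
theorem result {G : Type*} [Group G] [Finite G] (S : Sylow 2 G) (hS : Cfsg.IsQuasiDihedral (S : Subgroup G)) (T : Subgroup G) (hT : IsKleinFour T) (hTS : T ≤ S) (Q : Subgroup G) (hQS : Q ≤ S) (eQ : Q ≃* QuaternionGroup 2) (h₁ : (Subgroup.centralizer (T : Set G)).relIndex (Subgroup.normalizer (T : Set G)) = 2) (h₂ : (Q ⊔ Subgroup.centralizer (Q : Set G)).relIndex (Subgroup.normalizer (Q : Set G)) = 2) : Cfsg.HasNormalPComplement 2 G ∧ Nat.card {C : ConjClasses G // ∃ t : G, orderOf t = 2 ∧ ConjClasses.mk t = C} = 2 ∧ Nat.card {C : ConjClasses G // ∃ t : G, orderOf t = 4 ∧ ConjClasses.mk t = C} = 2 := by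
  have hT' : OddCentralizes T := oddCentralizes_of_relIndex_two T h₁
  have hQ2 : IsPGroup 2 Q := S.isPGroup'.to_le hQS
  have hQ' : OddCentralizes Q := oddCentralizes_of_sup_relIndex_two Q hQ2 h₂
  have hall := oddCentralizes_of_qd S hS T hT hTS Q hQS eQ hT' hQ'
  have hF : Cfsg.Agent.Helper2.FrobCond 2 G :=
    Cfsg.Agent.Helper2.frobCond_of_sylow S (fun Q' hQ' g hg ho => hall Q' hQ' g hg ho)
  have hctrl : ∀ x g : G, x ∈ (S : Subgroup G) → g * x * g⁻¹ ∈ (S : Subgroup G) →
      ∃ u ∈ (S : Subgroup G), u * x * u⁻¹ = g * x * g⁻¹ :=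
    fun x g hx hgx => Cfsg.Agent.Helper2.frob_controls_fusion hF S x g hx hgx
  obtain ⟨c2, c4⟩ := Cfsg.Agent.S1189.result hS
  refine ⟨Cfsg.Agent.Helper2.frobenius 2 hF, ?_, ?_⟩
  · rw [card_classes_eq_of_controls S hctrl 2 ⟨1, by norm_num⟩]; exact c2
  · rw [card_classes_eq_of_controls S hctrl 4 ⟨2, by norm_num⟩]; exact c4


end Cfsg.Agent.S1207
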