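import Cfsg.Statements.S0855
import Cfsg.Agent.S4456
import Cfsg.Agent.S0169
import Cfsg.Agent.Lib.Helper79.Integrality

set_option autoImplicit false
set_option linter.style.haveILetI false
set_option linter.unusedSectionVars false
open Cfsg

namespace Cfsg.Agent.S0855

open Cfsg.Agent.Helper81 Cfsg.Agent.Helper75

universe u

/-- the degree of a constituent of the restriction to a normal subgroup divides the degree -/
theorem deg_dvd_of_constituent {G : Type u} [Group G] [Fintype G] (N : Subgroup G) [Fintype N]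
    (hN : N.Normal) {χ : G → ℂ} (hχ : IsIrrCharacter G χ) {ψ : N → ℂ} (hψ : IsIrrCharacter N ψ)
    (hne : classInner (fun n : N => χ n) ψ ≠ 0) (a b : ℕ) (ha : χ 1 = a) (hb : ψ 1 = b) :
    b ∣ a := by
  classical
  have hcl := clifford N hN hχ hψ hne
  obtain ⟨e, he⟩ := exists_nat_classInner
    (isCharacter_restrict N (IsIrrCharacter.isCharacter hχ)) hψ
  rw [he] at hcl
  have hS := conjSet_finite N hN ψ
  rw [finsum_mem_eq_finite_toFinset_sum _ hS] at hcl
  have h1 := congrFun hcl 1
  simp only [OneMemClass.coe_one, Pi.smul_apply, Finset.sum_apply, smul_eq_mul] at h1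
  rw [Finset.sum_congr rfl (g := fun _ => ψ 1)] at h1
  · rw [Finset.sum_const, ha, hb, nsmul_eq_mul] at h1
    have h2 : a = e * (hS.toFinset.card * b) := by exact_mod_cast h1
    exact ⟨e * hS.toFinset.card, by rw [h2]; ring⟩
  · intro ψ' hψ'
    rw [Set.Finite.mem_toFinset] at hψ'
    obtain ⟨g, rfl⟩ := hψ'
    exact conjFun_one_apply N hN ψ g

/-- every irreducible character of a normal subgroup lies under some irreducible character -/
theorem exists_over {G : Type u} [Group G] [Fintype G] (N : Subgroup G) [Fintype N]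
    {ψ : N → ℂ} (hψ : IsIrrCharacter N ψ) :
    ∃ χ : G → ℂ, IsIrrCharacter G χ ∧ classInner (fun n : N => χ n) ψ ≠ 0 := by
  have hInd : IsCharacter G (indFun N ψ) := isCharacter_indFun N (IsIrrCharacter.isCharacter hψ)
  have hInd0 : indFun N ψ ≠ 0 := by
    intro h0
    have h1 := indFun_one N ψ
    rw [h0] at h1
    obtain ⟨d, hd0, hd⟩ := irr_one_pos hψ
    simp only [Pi.zero_apply] at h1
    rw [hd] at h1
    have hidx : N.index ≠ 0 := Subgroup.index_ne_zero_of_finite
    have : (N.index : ℂ) * (d : ℂ) ≠ 0 :=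
      mul_ne_zero (by exact_mod_cast hidx) (by exact_mod_cast hd0.ne')
    exact this h1.symm
  obtain ⟨χ, hχ, hne⟩ := exists_irr_constituent hInd hInd0
  refine ⟨χ, hχ, ?_⟩
  rw [frobenius_reciprocity N ψ
    (isClassFunction_of_isCharacter (IsIrrCharacter.isCharacter hχ))] at hne
  rw [classInner_conj_symm]
  intro h0
  apply hne
  exact (map_eq_zero _).mp h0

/-- a finite group all of whose irreducible characters are linear is abelian -/
theorem comm_of_all_linear {N : Type u} [Group N] [Finite N]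
    (h : ∀ ψ : IrrCharacter N, charDegree (ψ : N → ℂ) = 1) (a b : N) : a * b = b * a := by
  classical
  haveI : Fintype N := Fintype.ofFinite N
  have h1 : Nat.card N = ∑ ψ : IrrCharacter N, charDegree (ψ : N → ℂ) ^ 2 :=
    (Cfsg.Agent.Helper79.sum_sq_degree_nat (G := N)).symm
  have h2 : ∑ ψ : IrrCharacter N, charDegree (ψ : N → ℂ) ^ 2 = Nat.card (IrrCharacter N) := by
    rw [Finset.sum_congr rfl (fun ψ _ => by rw [h ψ, one_pow]), Finset.sum_const, smul_eq_mul,
      mul_one, Finset.card_univ, Nat.card_eq_fintype_card]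
  have h3 : Nat.card (IrrCharacter N) = (commutator N).index := by
    have hcl := Cfsg.Agent.Helper74.Lin.card_linear (G := N)
    rw [← hcl]
    apply Nat.card_congr
    exact (Equiv.subtypeUnivEquiv (fun ψ : IrrCharacter N => by
      rw [(Cfsg.Agent.Helper79.irr_one_eq ψ).1, h ψ, Nat.cast_one])).symm
  have h4 : Nat.card (commutator N) = 1 := by
    have h5 := Subgroup.card_mul_index (commutator N)
    rw [← h3, ← h2, ← h1] at h5
    have hpos : 0 < Nat.card N := Nat.card_pos
    exact Nat.eq_of_mul_eq_mul_right hpos (by rw [h5, one_mul])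
  have h6 : commutator N = ⊥ := Subgroup.card_eq_one.mp h4
  have h7 : a * b * a⁻¹ * b⁻¹ ∈ commutator N := by
    rw [commutator_def, ← commutatorElement_def]
    exact Subgroup.commutator_mem_commutator (Subgroup.mem_top a) (Subgroup.mem_top b)
  rw [h6, Subgroup.mem_bot] at h7
  calc a * b = (a * b * a⁻¹ * b⁻¹) * (b * a) := by group
    _ = b * a := by rw [h7, one_mul]

/-- For a finite group G and a prime p: every irreducible character of G has degree a power of p if and only if G has an abelian normal subgroup whose order is prime to p and whose index is a power of p. -/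
theorem result {G : Type*} [Group G] [Finite G] (p : ℕ) (hp : p.Prime) : (∀ χ : Cfsg.IrrCharacter G, ∃ k : ℕ, (χ : G → ℂ) 1 = (p : ℂ) ^ k) ↔ ∃ A : Subgroup G, A.Normal ∧ (∀ a ∈ A, ∀ b ∈ A, a * b = b * a) ∧ Nat.Coprime (Nat.card A) p ∧ ∃ k : ℕ, A.index = p ^ k := by
  classical
  haveI : Fintype G := Fintype.ofFinite G
  constructor
  · intro h
    have hdegk : ∀ χ : IrrCharacter G, ∃ k : ℕ, charDegree (χ : G → ℂ) = p ^ k := by
      intro χ
      obtain ⟨k, hk⟩ := h χ
      exact ⟨k, Cfsg.Agent.S4455.charDegree_of_one (by rw [hk]; push_cast; rfl)⟩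
    have hdeg : ∀ χ : IrrCharacter G, charDegree (χ : G → ℂ) ≠ 1 →
        p ∣ charDegree (χ : G → ℂ) := by
      intro χ hne
      obtain ⟨k, hk⟩ := hdegk χ
      rw [hk] at hne ⊢
      cases k with
      | zero => exact absurd (pow_zero p) hne
      | succ k => exact dvd_pow_self p (Nat.succ_ne_zero k)
    obtain ⟨N, hN, hcop, k, hk⟩ := Cfsg.Agent.S4456.result p hp hdeg
    haveI : Fintype N := Fintype.ofFinite N
    refine ⟨N, hN, ?_, hcop, k, hk⟩
    have hlin : ∀ ψ : IrrCharacter N, charDegree (ψ : N → ℂ) = 1 := by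
      intro ψ
      obtain ⟨χ, hχ, hne⟩ := exists_over N ψ.2
      obtain ⟨j, hj⟩ := hdegk ⟨χ, hχ⟩
      have h1 : charDegree (ψ : N → ℂ) ∣ p ^ j := by
        apply deg_dvd_of_constituent N hN hχ ψ.2 hne
        · have e1 := (Cfsg.Agent.Helper79.irr_one_eq ⟨χ, hχ⟩).1
          rw [hj] at e1
          exact e1
        · exact (Cfsg.Agent.Helper79.irr_one_eq ψ).1
      obtain ⟨i, _, hi⟩ := (Nat.dvd_prime_pow hp).mp h1
      have h2 : charDegree (ψ : N → ℂ) ∣ Nat.card N := Cfsg.Agent.Helper79.irr_degree_dvd_card ψ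
      rw [hi] at h2 ⊢
      cases i with
      | zero => rfl
      | succ i =>
        exfalso
        have h3 : p ∣ Nat.card N := (dvd_pow_self p (Nat.succ_ne_zero i)).trans h2
        have h4 := Nat.Coprime.symm hcop
        rw [Nat.Prime.coprime_iff_not_dvd hp] at h4
        exact h4 h3
    intro a ha b hb
    have := comm_of_all_linear hlin ⟨a, ha⟩ ⟨b, hb⟩
    exact congrArg Subtype.val this
  · rintro ⟨A, hA, hcomm, _, k, hk⟩ χ
    obtain ⟨n, ρ, hρ, hχ⟩ := χ.2
    haveI := hρ
    haveI := hA
    have h1 : Module.finrank ℂ (Fin n → ℂ) ∣ A.index := Cfsg.Agent.S0169.result ρ A hcomm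
    rw [hk] at h1
    obtain ⟨j, _, hj⟩ := (Nat.dvd_prime_pow hp).mp h1
    refine ⟨j, ?_⟩
    rw [← hχ, Representation.char_one, hj]
    push_cast
    rfl

end Cfsg.Agent.S0855
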