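import Cfsg.Statements.S4466
import Cfsg.Agent.S0143
import Cfsg.Agent.S4465
import Cfsg.Agent.Lib.Helper78.ItoMichler

set_option autoImplicit false
set_option linter.style.haveILetI false
open Cfsg

namespace Cfsg.Agent.S4466

open Cfsg.Agent.Helper79 Cfsg.Agent.Helper81

universe u

/-- every nonlinear irreducible character has prime degree -/
def PrimeDeg (G : Type u) [Group G] : Prop :=
  ∀ χ : IrrCharacter G, charDegree (χ : G → ℂ) ≠ 1 → (charDegree (χ : G → ℂ)).Prime

section Inherit

variable {G : Type u} [Group G] [Finite G]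

theorem primeDeg_normal (h : PrimeDeg G) (N : Subgroup G) (hN : N.Normal) : PrimeDeg N := by
  intro θ hθ1
  have := Fintype.ofFinite G
  have : Fintype N := Fintype.ofFinite N
  obtain ⟨χ, hχ, hne⟩ := Cfsg.Agent.Helper78.exists_irr_over N θ.2
  obtain ⟨e, he⟩ := Cfsg.Agent.Helper78.clifford_degree N hN hχ θ.2 hne
  have hdvd : charDegree (θ : N → ℂ) ∣ charDegree χ := by
    rw [he]
    exact dvd_mul_of_dvd_right (dvd_mul_left _ _) _
  have hχ1 : charDegree ((⟨χ, hχ⟩ : IrrCharacter G) : G → ℂ) ≠ 1 := by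
    intro h1
    apply hθ1
    have h2 : charDegree χ = 1 := h1
    rw [h2] at hdvd
    exact Nat.dvd_one.1 hdvd
  have hp := h ⟨χ, hχ⟩ hχ1
  rcases (Nat.dvd_prime hp).1 hdvd with h1 | h1
  · exact absurd h1 hθ1
  · rw [h1]; exact hp

theorem primeDeg_quotient (h : PrimeDeg G) (K : Subgroup G) [K.Normal] : PrimeDeg (G ⧸ K) := by
  intro ψ hψ1
  have hd : charDegree (Cfsg.Agent.Helper79.inflate K ψ : G → ℂ) =
      charDegree (ψ : G ⧸ K → ℂ) := by
    unfold charDegree
    rw [Cfsg.Agent.Helper79.inflate_apply]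
    rfl
  have := h (Cfsg.Agent.Helper79.inflate K ψ) (by rw [hd]; exact hψ1)
  rwa [hd] at this

end Inherit

section Simple

variable {G : Type u} [Group G] [Finite G] [IsSimpleGroup G]

/-- in a simple group, a nontrivial irreducible character is faithful -/
theorem irrKer_eq_bot (χ : IrrCharacter G) (hχ : χ ≠ trivChar G) : irrKer χ = ⊥ := by
  have := Fintype.ofFinite G
  classical
  rcases (irrKer_normal χ).eq_bot_or_eq_top with hbot | htop
  · exact hbot
  · exfalso
    apply hχ
    have hall : ∀ x : G, (χ : G → ℂ) x = (χ : G → ℂ) 1 := by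
      intro x
      have : x ∈ irrKer χ := by rw [htop]; trivial
      exact this
    by_contra hne
    have h1 := irr_orthonormal χ (trivChar G)
    rw [if_neg hne] at h1
    unfold pair at h1
    simp only [trivChar_apply, mul_one, hall, Finset.sum_const, Finset.card_univ, nsmul_eq_mul] at h1
    rw [← Nat.card_eq_fintype_card, ← mul_assoc, inv_mul_cancel₀ card_ne_zero_complex, one_mul] at h1
    exact irr_one_ne_zero χ h1

/-- an element acting as a scalar in a faithful irreducible representation of a group with trivial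
centre is trivial -/
theorem eq_one_of_scalar (hZ : Subgroup.center G = ⊥) (χ : IrrCharacter G) (hχ : χ ≠ trivChar G)
    {n : ℕ} (ρ : Representation ℂ G (Fin n → ℂ))
    (hker : ∀ g : G, (χ : G → ℂ) g = (χ : G → ℂ) 1 ↔ ρ g = 1) (g : G) (ω : ℂ)
    (hω : ρ g = ω • (1 : (Fin n → ℂ) →ₗ[ℂ] (Fin n → ℂ))) : g = 1 := by
  have hcomm : ∀ x : G, g * x * g⁻¹ * x⁻¹ ∈ irrKer χ := by
    intro x
    rw [mem_irrKer, hker]
    rw [map_mul, map_mul, map_mul, hω]
    have h1 : ρ g⁻¹ * ρ g = 1 := by rw [← map_mul, inv_mul_cancel, map_one]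
    rw [hω] at h1
    have h2 : ρ x * ρ x⁻¹ = 1 := by rw [← map_mul, mul_inv_cancel, map_one]
    apply LinearMap.ext
    intro v
    have h1v := congrArg (fun f => f (ρ x⁻¹ v)) h1
    have h2v := congrArg (fun f => f v) h2
    simp only [Module.End.mul_apply, LinearMap.smul_apply,
      Module.End.one_apply] at h1v h2v ⊢
    rw [map_smul] at h1v
    rw [← map_smul, h1v, h2v]
  have hbot := irrKer_eq_bot χ hχ
  have hmem : g ∈ Subgroup.center G := by
    rw [Subgroup.mem_center_iff]
    intro x
    have := hcomm x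
    rw [hbot, Subgroup.mem_bot] at this
    have h3 : g * x = x * g := by
      have := congrArg (fun y => y * x * g) this
      simpa [mul_assoc] using this
    exact h3.symm
  rw [hZ, Subgroup.mem_bot] at hmem
  exact hmem

/-- Burnside's vanishing lemma in a simple group with trivial centre -/
theorem vanish_of_coprime (hZ : Subgroup.center G = ⊥) (χ : IrrCharacter G) (hχ : χ ≠ trivChar G)
    (g : G) (hg : g ≠ 1)
    (hcop : Nat.Coprime (charDegree (χ : G → ℂ)) (Subgroup.centralizer ({g} : Set G)).index) :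
    (χ : G → ℂ) g = 0 := by
  have := Fintype.ofFinite G
  classical
  obtain ⟨n, ρ, hρ, hχρ, hker⟩ := irr_exists_rep χ
  have hn : Module.finrank ℂ (Fin n → ℂ) = charDegree (χ : G → ℂ) := by
    have h1 := (irr_one_eq χ).1
    have h2 : (χ : G → ℂ) 1 = ρ.character 1 := by rw [hχρ]
    rw [h2, Representation.char_one] at h1
    exact_mod_cast h1
  have hcop' : Nat.Coprime (Module.finrank ℂ (Fin n → ℂ))
      (Subgroup.centralizer ({g} : Set G)).index := by rw [hn]; exact hcop
  rcases Cfsg.Agent.S0142.result ρ g hcop' with h0 | hnorm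
  · rw [← hχρ]; exact h0
  exfalso
  obtain ⟨ω, hω⟩ := (Cfsg.Agent.Helper3.norm_char_eq_iff ρ g).1 hnorm
  exact hg (eq_one_of_scalar hZ χ hχ ρ hker g ω hω)

/-- nontrivial irreducible characters of a nonabelian simple group are nonlinear -/
theorem degree_ne_one (hZ : Subgroup.center G = ⊥) (χ : IrrCharacter G) (hχ : χ ≠ trivChar G) :
    charDegree (χ : G → ℂ) ≠ 1 := by
  intro h1
  obtain ⟨n, ρ, hρ, hχρ, hker⟩ := irr_exists_rep χ
  have hn : n = 1 := by
    have h3 := (irr_one_eq χ).1
    have h2 : (χ : G → ℂ) 1 = ρ.character 1 := by rw [hχρ]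
    rw [h2, Representation.char_one, Module.finrank_fin_fun, h1] at h3
    exact_mod_cast h3
  subst hn
  obtain ⟨g, hg⟩ := exists_ne (1 : G)
  apply hg
  apply eq_one_of_scalar hZ χ hχ ρ hker g (ρ g (fun _ => 1) 0)
  apply LinearMap.ext
  intro v
  funext i
  have hv : v = v 0 • (fun _ => (1 : ℂ)) := by
    funext j
    have : j = 0 := Subsingleton.elim _ _
    simp [this]
  have hi : i = 0 := Subsingleton.elim _ _
  subst hi
  conv_lhs => rw [hv]
  rw [map_smul]
  simp [mul_comm]

/-- a nonabelian simple group has no irreducible character of degree two -/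
theorem degree_ne_two (hZ : Subgroup.center G = ⊥) (χ : IrrCharacter G) :
    charDegree (χ : G → ℂ) ≠ 2 := by
  intro h2
  have hχ : χ ≠ trivChar G := by
    rintro rfl
    have : charDegree (trivChar G : G → ℂ) = 1 := charDegree_linChar _
    omega
  obtain ⟨n, ρ, hρ, hχρ, hker⟩ := irr_exists_rep χ
  have hn : n = 2 := by
    have h3 := (irr_one_eq χ).1
    have h4 : (χ : G → ℂ) 1 = ρ.character 1 := by rw [hχρ]
    rw [h4, Representation.char_one, Module.finrank_fin_fun, h2] at h3
    exact_mod_cast h3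
  subst hn
  -- the determinant is trivial
  let δ : G →* ℂ := (LinearMap.det : ((Fin 2 → ℂ) →ₗ[ℂ] (Fin 2 → ℂ)) →* ℂ).comp ρ
  have hδ : ∀ g, δ g = 1 := by
    have hnorm : δ.ker.Normal := inferInstance
    rcases hnorm.eq_bot_or_eq_top with hb | ht
    · exfalso
      have hcomm : ∀ a b : G, a * b = b * a := by
        intro a b
        have : δ (a * b) = δ (b * a) := by rw [map_mul, map_mul, mul_comm]
        exact (MonoidHom.ker_eq_bot_iff δ).1 hb this
      obtain ⟨g, hg⟩ := exists_ne (1 : G)
      have : g ∈ Subgroup.center G := by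
        rw [Subgroup.mem_center_iff]; intro x; exact hcomm x g
      rw [hZ, Subgroup.mem_bot] at this
      exact hg this
    · intro g
      have : g ∈ δ.ker := by rw [ht]; trivial
      exact this
  -- an involution
  have h2dvd : 2 ∣ Nat.card G := by
    have := irr_degree_dvd_card χ
    rwa [h2] at this
  haveI : Fact (Nat.Prime 2) := ⟨Nat.prime_two⟩
  obtain ⟨t, ht⟩ := exists_prime_orderOf_dvd_card' 2 h2dvd
  have ht1 : t ≠ 1 := by
    intro h
    rw [h, orderOf_one] at ht
    omega
  have htt : t * t = 1 := by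
    rw [← pow_two, ← ht]; exact pow_orderOf_eq_one t
  set M := LinearMap.toMatrix' (ρ t) with hM
  have hMM : M * M = 1 := by
    rw [hM, ← LinearMap.toMatrix'_mul, ← map_mul, htt, map_one, LinearMap.toMatrix'_one]
  have hdet : M.det = 1 := by
    rw [hM, LinearMap.det_toMatrix']
    exact hδ t
  have hch := Matrix.aeval_self_charpoly M
  rw [Matrix.charpoly_fin_two] at hch
  simp only [map_sub, map_add, map_mul, Polynomial.aeval_X, Polynomial.aeval_C,
    Algebra.algebraMap_eq_smul_one, hdet, pow_two, hMM] at hch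
  obtain ⟨τ, hτ⟩ : ∃ τ : ℂ, τ = M.trace := ⟨_, rfl⟩
  rw [← hτ] at hch
  have key : τ • M = (2 : ℂ) • (1 : Matrix (Fin 2) (Fin 2) ℂ) := by
    have h5 : (1 : Matrix (Fin 2) (Fin 2) ℂ) - τ • M + (1 : ℂ) • 1 = 0 := by
      simpa using hch
    rw [one_smul, sub_add_eq_add_sub, sub_eq_zero] at h5
    rw [← h5, two_smul]
  have htr : τ ≠ 0 := by
    intro h0
    rw [h0, zero_smul] at key
    have := congrFun (congrFun key 0) 0
    simp at this
  have hMs : M = (2 / τ) • (1 : Matrix (Fin 2) (Fin 2) ℂ) := by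
    calc M = τ⁻¹ • (τ • M) := by rw [smul_smul, inv_mul_cancel₀ htr, one_smul]
      _ = τ⁻¹ • ((2 : ℂ) • (1 : Matrix (Fin 2) (Fin 2) ℂ)) := by rw [key]
      _ = (2 / τ) • (1 : Matrix (Fin 2) (Fin 2) ℂ) := by
          rw [smul_smul]; congr 1; field_simp
  have hscal : ρ t = (2 / τ) • (1 : (Fin 2 → ℂ) →ₗ[ℂ] (Fin 2 → ℂ)) := by
    apply LinearMap.toMatrix'.injective
    rw [map_smul, LinearMap.toMatrix'_one, ← hM]
    exact hMs
  exact ht1 (eq_one_of_scalar hZ χ hχ ρ hker t _ hscal)

omit [IsSimpleGroup G] in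
/-- the final contradiction from column orthogonality -/
theorem contra (g : G) (hg : g ≠ 1) (p : ℕ) (hp : p.Prime)
    (h : ∀ χ : IrrCharacter G, χ ≠ trivChar G →
      charDegree (χ : G → ℂ) = p ∨ (χ : G → ℂ) g = 0) : False := by
  have := Fintype.ofFinite G
  classical
  have hsum := sum_degree_mul g hg
  rw [← Finset.add_sum_erase Finset.univ _ (Finset.mem_univ (trivChar G))] at hsum
  simp only [trivChar_apply, mul_one] at hsum
  set β : ℂ := ∑ χ ∈ Finset.univ.erase (trivChar G),
    ((charDegree (χ : G → ℂ) / p : ℕ) : ℂ) * (χ : G → ℂ) g with hβ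
  have hβint : IsIntegral ℤ β := by
    apply IsIntegral.sum
    intro χ _
    exact IsIntegral.mul (isIntegral_natCast _) (irr_isIntegral χ g)
  have hrest : ∑ χ ∈ Finset.univ.erase (trivChar G), (χ : G → ℂ) 1 * (χ : G → ℂ) g =
      (p : ℂ) * β := by
    rw [hβ, Finset.mul_sum]
    apply Finset.sum_congr rfl
    intro χ hχ
    have hχne : χ ≠ trivChar G := (Finset.mem_erase.1 hχ).1
    rcases h χ hχne with hd | h0
    · rw [(irr_one_eq χ).1, hd, Nat.div_self hp.pos]
      push_cast
      ring
    · rw [h0]; ring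
  rw [hrest] at hsum
  have h1 : (-β) * (p : ℂ) = ((1 : ℕ) : ℂ) := by
    push_cast
    linear_combination (-1 : ℂ) * hsum
  have := dvd_of_isIntegral_of_mul_eq (-β) p 1 hp.ne_zero h1 hβint.neg
  exact hp.one_lt.ne' (Nat.dvd_one.1 this)

/-- the simple case -/
theorem simple_case (h : PrimeDeg G) : Group.IsSolvable G := by
  classical
  by_cases hcomm : ∀ a b : G, a * b = b * a
  · exact Group.isSolvable_of_comm hcomm
  exfalso
  have hZ : Subgroup.center G = ⊥ := by
    rcases (inferInstance : (Subgroup.center G).Normal).eq_bot_or_eq_top with h' | h'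
    · exact h'
    · exfalso
      apply hcomm
      intro a b
      have : b ∈ Subgroup.center G := by rw [h']; trivial
      exact ((Subgroup.mem_center_iff.1 this) a)
  obtain ⟨g₀, hg₀⟩ := exists_ne (1 : G)
  by_cases hex : ∃ χ : IrrCharacter G, χ ≠ trivChar G
  swap
  · push Not at hex
    exact contra g₀ hg₀ 3 Nat.prime_three (fun χ hχ => absurd (hex χ) hχ)
  haveI hfin : Finite (IrrCharacter G) := irr_finite
  obtain ⟨χ₀, hχ₀, hmin⟩ := Set.exists_min_image {χ : IrrCharacter G | χ ≠ trivChar G}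
    (fun χ => charDegree (χ : G → ℂ)) (Set.toFinite _) hex
  obtain ⟨p, hp_def⟩ : ∃ p, p = charDegree (χ₀ : G → ℂ) := ⟨_, rfl⟩
  have hp1 : p ≠ 1 := by rw [hp_def]; exact degree_ne_one hZ χ₀ hχ₀
  have hp : p.Prime := by rw [hp_def]; exact h χ₀ (by rw [← hp_def]; exact hp1)
  have hp2 : p ≠ 2 := by rw [hp_def]; exact degree_ne_two hZ χ₀
  have hnp : ¬ (p + 1).Prime := by
    intro hpr
    rcases hp.eq_two_or_odd with h2 | hodd'
    · exact hp2 h2
    · have h2d : 2 ∣ p + 1 := by omega
      have := (Nat.prime_dvd_prime_iff_eq Nat.prime_two hpr).1 h2d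
      have := hp.two_le
      omega
  have hfaith : ∀ g : G, (χ₀ : G → ℂ) g = (χ₀ : G → ℂ) 1 → g = 1 := by
    intro g hg
    have : g ∈ irrKer χ₀ := hg
    rw [irrKer_eq_bot χ₀ hχ₀, Subgroup.mem_bot] at this
    exact this
  obtain ⟨A, hA1, hA2, hA3⟩ := Cfsg.Agent.S4465.result (χ₀ : G → ℂ)
    (IsIrrCharacter.isCharacter χ₀.2) hfaith p hp_def.symm
  have key : ∀ g : G, g ≠ 1 → (A = ⊥ ∨ g ∈ A) → ∀ χ : IrrCharacter G, χ ≠ trivChar G →
      charDegree (χ : G → ℂ) = p ∨ (χ : G → ℂ) g = 0 := by
    intro g hg hcase χ hχ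
    by_cases hr : charDegree (χ : G → ℂ) = p
    · exact Or.inl hr
    right
    have hr1 : charDegree (χ : G → ℂ) ≠ 1 := degree_ne_one hZ χ hχ
    have hrp : (charDegree (χ : G → ℂ)).Prime := h χ hr1
    have hle : p ≤ charDegree (χ : G → ℂ) := by rw [hp_def]; exact hmin χ hχ
    have hlt : p + 1 < charDegree (χ : G → ℂ) := by
      have h3 : charDegree (χ : G → ℂ) ≠ p + 1 := by
        intro h4; rw [h4] at hrp; exact hnp hrp
      omega
    rcases hcase with hA | hgA
    · exfalso
      have := hA3 _ hrp (by rw [hA, Subgroup.index_bot]; exact irr_degree_dvd_card χ)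
      omega
    · apply vanish_of_coprime hZ χ hχ g hg
      rw [Nat.Prime.coprime_iff_not_dvd hrp]
      intro hd
      have hleA : A ≤ Subgroup.centralizer ({g} : Set G) := by
        intro a ha
        rw [Subgroup.mem_centralizer_singleton_iff]
        exact hA1 a ha g hgA
      have := hA3 _ hrp (hd.trans (Subgroup.index_dvd_of_le hleA))
      omega
  by_cases hA : A = ⊥
  · exact contra g₀ hg₀ p hp (key g₀ hg₀ (Or.inl hA))
  · obtain ⟨⟨g, hgA⟩, hg1⟩ := (Subgroup.ne_bot_iff_exists_ne_one).1 hA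
    have hg1' : g ≠ 1 := fun h => hg1 (Subtype.ext h)
    exact contra g hg1' p hp (key g hg1' (Or.inr hgA))

end Simple

theorem aux : ∀ n : ℕ, ∀ (G : Type u) [Group G] [Finite G],
    Nat.card G = n → PrimeDeg G → Group.IsSolvable G := by
  intro n
  induction n using Nat.strong_induction_on with
  | _ n ih =>
    intro G _ _ hn hP
    by_cases hsimple : IsSimpleGroup G
    · exact simple_case hP
    by_cases htriv : Subsingleton G
    · exact Group.isSolvable_of_comm (fun a b => Subsingleton.elim _ _)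
    rw [not_subsingleton_iff_nontrivial] at htriv
    have hex : ∃ N : Subgroup G, N.Normal ∧ N ≠ ⊥ ∧ N ≠ ⊤ := by
      by_contra hcon
      push Not at hcon
      apply hsimple
      refine ⟨fun N hN => ?_⟩
      by_cases hb : N = ⊥
      · exact Or.inl hb
      · exact Or.inr (hcon N hN hb)
    obtain ⟨N, hNn, hNbot, hNtop⟩ := hex
    have hcardN : Nat.card N < n := by
      rw [← hn]
      apply lt_of_le_of_ne (Subgroup.card_le_card_group N)
      intro h
      exact hNtop ((Subgroup.card_eq_iff_eq_top N).1 h)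
    have hcardQ : Nat.card (G ⧸ N) < n := by
      rw [← hn, ← Subgroup.index_eq_card, ← Subgroup.card_mul_index N]
      have h1 : 1 < Nat.card N := by
        rw [Finite.one_lt_card_iff_nontrivial]
        exact (Subgroup.nontrivial_iff_ne_bot _).2 hNbot
      have h2 : 0 < N.index := Nat.pos_of_ne_zero Subgroup.index_ne_zero_of_finite
      nlinarith
    have : Group.IsSolvable N := ih _ hcardN N rfl (primeDeg_normal hP N hNn)
    have : Group.IsSolvable (G ⧸ N) := ih _ hcardQ (G ⧸ N) rfl (primeDeg_quotient hP N)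
    apply Group.isSolvable_of_ker_le_range N.subtype (QuotientGroup.mk' N)
    rw [QuotientGroup.ker_mk', Subgroup.range_subtype]

/-- If every irreducible character of the finite group G of degree greater than one has prime degree, then G is solvable. -/
theorem result {G : Type*} [Group G] [Finite G] (h : ∀ χ : Cfsg.IrrCharacter G, Cfsg.charDegree (χ : G → ℂ) ≠ 1 → (Cfsg.charDegree (χ : G → ℂ)).Prime) : Group.IsSolvable G := by
  exact aux (Nat.card G) G rfl h

end Cfsg.Agent.S4466
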