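import Cfsg.Statements.S4813
import Cfsg.Agent.S4466
import Cfsg.Agent.Lib.Helper74.LinChar
import Cfsg.Agent.Lib.Helper79.DegreeRatio
import Cfsg.Agent.Lib.Helper55.Solv

set_option autoImplicit false
set_option linter.style.haveILetI false
set_option linter.unusedSectionVars false
open Cfsg

namespace Cfsg.Agent.S4813

open Cfsg.Agent.Helper81 Cfsg.Agent.S4466
open scoped ComplexConjugate

universe u

section Clifford
variable {G : Type u} [Group G] [Fintype G]

/-- the restriction of an irreducible character has an irreducible constituent -/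
theorem exists_under (N : Subgroup G) [Fintype N] {χ : G → ℂ} (hχ : IsIrrCharacter G χ) :
    ∃ θ : N → ℂ, IsIrrCharacter N θ ∧ classInner (fun n : N => χ n) θ ≠ 0 := by
  have hres := isCharacter_restrict N (IsIrrCharacter.isCharacter hχ)
  have h0 : (fun n : N => χ n) ≠ 0 := by
    intro h
    have h1 := congrFun h 1
    simp only [Pi.zero_apply] at h1
    exact Cfsg.Agent.Helper78.irr_apply_one_ne_zero hχ h1
  exact exists_irr_constituent hres h0

/-- Clifford: degree formula and norm of the restriction, with the same ramification index -/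
theorem clifford_norm (N : Subgroup G) [Fintype N] (hN : N.Normal) {χ : G → ℂ}
    (hχ : IsIrrCharacter G χ) {θ : N → ℂ} (hθ : IsIrrCharacter N θ)
    (hne : classInner (fun n : N => χ n) θ ≠ 0) :
    ∃ e : ℕ, charDegree χ = e * (Nat.card (conjSet N hN θ) * charDegree θ) ∧
      classInner (fun n : N => χ n) (fun n : N => χ n) =
        ((e * e * Nat.card (conjSet N hN θ) : ℕ) : ℂ) := by
  have h := clifford N hN hχ hθ hne
  have hχc := isClassFunction_of_isCharacter (IsIrrCharacter.isCharacter hχ)
  obtain ⟨e, he⟩ := exists_nat_classInner (isCharacter_restrict N (IsIrrCharacter.isCharacter hχ)) hθ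
  refine ⟨e, ?_, ?_⟩
  · have hS := conjSet_finite N hN θ
    have h1 := congrFun h 1
    rw [he, finsum_mem_eq_finite_toFinset_sum _ hS] at h1
    simp only [Pi.smul_apply, Finset.sum_apply, smul_eq_mul] at h1
    have h2 : ∑ ψ ∈ hS.toFinset, ψ 1 = (Nat.card (conjSet N hN θ) : ℂ) * θ 1 := by
      rw [Finset.sum_congr rfl (fun ψ hψ =>
        Cfsg.Agent.Helper78.conjSet_apply_one N hN θ ((Set.Finite.mem_toFinset hS).1 hψ))]
      rw [Finset.sum_const, nsmul_eq_mul]
      congr 2
      rw [Nat.card_eq_card_finite_toFinset hS]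
    rw [h2] at h1
    have h3 : ((1 : N) : G) = 1 := rfl
    rw [h3, (Cfsg.Agent.Helper78.irr_charDegree hχ).1,
      (Cfsg.Agent.Helper78.irr_charDegree hθ).1] at h1
    exact_mod_cast h1
  · have hS := conjSet_finite N hN θ
    have h1 : classInner (fun n : N => χ n) (fun n : N => χ n) =
        classInner (fun n : N => χ n)
          (classInner (fun n : N => χ n) θ • ∑ᶠ ψ ∈ conjSet N hN θ, ψ) := by
      rw [← h]
    rw [h1, classInner_smul_right, finsum_mem_eq_finite_toFinset_sum _ hS]
    have h2 : classInner (fun n : N => χ n) (∑ ψ ∈ hS.toFinset, ψ) =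
        ∑ ψ ∈ hS.toFinset, classInner (fun n : N => χ n) ψ :=
      classInner_sum_right hS.toFinset (fun n : N => χ n) (fun ψ : N → ℂ => ψ)
    rw [h2]
    have h3 : ∀ ψ ∈ hS.toFinset, classInner (fun n : N => χ n) ψ = (e : ℂ) := by
      intro ψ hψ
      obtain ⟨g, rfl⟩ := (Set.Finite.mem_toFinset hS).1 hψ
      rw [classInner_restrict_conjFun N hN hχc θ g, he]
    rw [Finset.sum_congr rfl h3, Finset.sum_const, nsmul_eq_mul, he,
      ← Nat.card_eq_card_finite_toFinset hS]
    simp only [Complex.conj_natCast]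
    push_cast
    ring

open scoped Classical in
/-- the norm of the restriction to a subgroup is at most the index -/
theorem norm_restrict_le (N : Subgroup G) [Fintype N] {χ : G → ℂ}
    (hχ : IsIrrCharacter G χ) (m : ℕ)
    (hm : classInner (fun n : N => χ n) (fun n : N => χ n) = (m : ℂ)) : m ≤ N.index := by
  have h1 := classInner_restrict_self N hχ
  rw [hm] at h1
  have hre : ∀ g : G, (if g ∈ N then (0 : ℂ) else χ g * conj (χ g)) =
      ((if g ∈ N then (0 : ℝ) else Complex.normSq (χ g) : ℝ) : ℂ) := by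
    intro g
    by_cases hg : g ∈ N
    · simp [hg]
    · simp [hg, Complex.mul_conj]
  simp only [hre] at h1
  rw [← Complex.ofReal_sum] at h1
  have hr : 0 ≤ ∑ g : G, (if g ∈ N then (0 : ℝ) else Complex.normSq (χ g)) := by
    apply Finset.sum_nonneg
    intro g _
    by_cases hg : g ∈ N
    · rw [if_pos hg]
    · rw [if_neg hg]; exact Complex.normSq_nonneg _
  have h2 : ((Nat.card N : ℝ) * (m : ℝ)) =
      (Nat.card G : ℝ) - ∑ g : G, (if g ∈ N then (0 : ℝ) else Complex.normSq (χ g)) := by
    apply Complex.ofReal_injective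
    rw [Complex.ofReal_sub, Complex.ofReal_mul]
    simpa using h1
  have h3 : ((Nat.card N : ℝ) * (m : ℝ)) ≤ (Nat.card G : ℝ) := by linarith
  have h4 : Nat.card N * m ≤ Nat.card G := by exact_mod_cast h3
  rw [← Subgroup.index_mul_card N, mul_comm] at h4
  exact Nat.le_of_mul_le_mul_right h4 Nat.card_pos

/-- degrees over a normal subgroup of prime index -/
theorem deg_restrict (M : Subgroup G) [Fintype M] (hM : M.Normal) (s : ℕ) (hs : s.Prime)
    (hidx : M.index = s) {χ : G → ℂ} (hχ : IsIrrCharacter G χ) {θ : M → ℂ}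
    (hθ : IsIrrCharacter M θ) (hne : classInner (fun n : M => χ n) θ ≠ 0) :
    charDegree χ = charDegree θ ∨ charDegree χ = s * charDegree θ := by
  haveI := hM
  obtain ⟨e, he1, he2⟩ := Cfsg.Agent.Helper79.degree_ratio_dvd_index M hχ hθ hne
  rw [(Cfsg.Agent.Helper78.irr_charDegree hχ).1, (Cfsg.Agent.Helper78.irr_charDegree hθ).1] at he1
  have he3 : charDegree χ = e * charDegree θ := by exact_mod_cast he1
  rw [hidx] at he2
  rcases (Nat.dvd_prime hs).1 he2 with h | h
  · left; rw [he3, h, one_mul]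
  · right; rw [he3, h]

/-- if all nonlinear degrees of `G` are prime, nonlinear irreducible characters of normal
subgroups are invariant -/
theorem nonlinear_invariant (hG : PrimeDeg G) (N : Subgroup G) [Fintype N] (hN : N.Normal)
    {θ : N → ℂ} (hθ : IsIrrCharacter N θ) (hθ1 : charDegree θ ≠ 1) (g : G) :
    conjFun N hN θ g = θ := by
  obtain ⟨χ, hχ, hne⟩ := Cfsg.Agent.Helper78.exists_irr_over N hθ
  obtain ⟨e, he⟩ := Cfsg.Agent.Helper78.clifford_degree N hN hχ hθ hne
  have hθ0 := (Cfsg.Agent.Helper78.irr_charDegree hθ).2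
  have hχ0 := (Cfsg.Agent.Helper78.irr_charDegree hχ).2
  set d := charDegree θ with hd
  set k := Nat.card (conjSet N hN θ) with hk
  have hdvd : d ∣ charDegree χ := by
    rw [he]; exact dvd_mul_of_dvd_right (dvd_mul_left _ _) _
  have hχ1 : charDegree ((⟨χ, hχ⟩ : IrrCharacter G) : G → ℂ) ≠ 1 := by
    intro h1
    apply hθ1
    have h2 : charDegree χ = 1 := h1
    rw [h2] at hdvd
    exact Nat.dvd_one.1 hdvd
  have hp : (charDegree χ).Prime := hG ⟨χ, hχ⟩ hχ1
  have hdp : d = charDegree χ := by
    rcases (Nat.dvd_prime hp).1 hdvd with h1 | h1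
    · exact absurd h1 hθ1
    · exact h1
  have hek : e * k = 1 := by
    have h1 : e * k * d = 1 * d := by
      rw [one_mul, mul_assoc, ← he, hdp]
    exact Nat.eq_of_mul_eq_mul_right hθ0 h1
  have hk1 : k = 1 := Nat.eq_one_of_mul_eq_one_left hek
  rw [hk] at hk1
  obtain ⟨hsub, -⟩ := Nat.card_eq_one_iff_unique.1 hk1
  have h1 : (⟨conjFun N hN θ g, ⟨g, rfl⟩⟩ : conjSet N hN θ) =
      ⟨θ, ⟨1, (conjFun_one N hN θ).symm⟩⟩ := Subsingleton.elim _ _
  exact congrArg Subtype.val h1

/-- an irreducible character of prime degree vanishing off a proper normal subgroup `L`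
forces `|M : L| ∈ {a, a²}` -/
theorem vanish_index (L : Subgroup G) [Fintype L] (hL : L.Normal) (hLtop : L ≠ ⊤)
    {ψ : G → ℂ} (hψ : IsIrrCharacter G ψ) (a : ℕ) (ha : a.Prime) (hdeg : charDegree ψ = a)
    (hvan : ∀ g : G, g ∉ L → ψ g = 0) : L.index = a ∨ L.index = a * a := by
  classical
  obtain ⟨θ, hθ, hne⟩ := exists_under L hψ
  obtain ⟨e, he1, he2⟩ := clifford_norm L hL hψ hθ hne
  have h1 := classInner_restrict_self L hψ
  rw [(vanish_off_iff L).2 hvan, sub_zero, he2] at h1
  have h2 : Nat.card L * (e * e * Nat.card (conjSet L hL θ)) = Nat.card G := by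
    exact_mod_cast h1
  rw [← Subgroup.index_mul_card L, mul_comm] at h2
  have h3 : e * e * Nat.card (conjSet L hL θ) = L.index :=
    Nat.eq_of_mul_eq_mul_right Nat.card_pos h2
  have hidx1 : L.index ≠ 1 := fun h => hLtop (Subgroup.index_eq_one.1 h)
  set k := Nat.card (conjSet L hL θ) with hk
  set d := charDegree θ with hd
  rw [hdeg] at he1
  have hedvd : e ∣ a := ⟨k * d, he1⟩
  rcases (Nat.dvd_prime ha).1 hedvd with h | h
  · -- e = 1
    rw [h, one_mul] at he1
    rw [h, one_mul, one_mul] at h3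
    have hkdvd : k ∣ a := ⟨d, he1⟩
    rcases (Nat.dvd_prime ha).1 hkdvd with h' | h'
    · exact absurd (h3.symm.trans h') hidx1
    · left; rw [← h3, h']
  · -- e = a
    rw [h] at he1 h3
    have hkd : k * d = 1 := by
      have : a * (k * d) = a * 1 := by rw [mul_one]; exact he1.symm
      exact Nat.eq_of_mul_eq_mul_left ha.pos this
    have hk1 : k = 1 := Nat.eq_one_of_mul_eq_one_right hkd
    right; rw [← h3, hk1, mul_one]

end Clifford

section Twist
variable {G : Type u} [Group G] [Fintype G]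

open Cfsg.Agent.Helper74.Lin

/-- the subgroup of `N` on which the linear character `φ` agrees with its `g`-conjugate -/
noncomputable def eqKer (N : Subgroup G) [N.Normal] (φ : N →* ℂˣ) (g : G) : Subgroup N :=
  ((φ.comp (MulAut.conjNormal g : N ≃* N).toMonoidHom) / φ).ker

instance eqKer_normal (N : Subgroup G) [N.Normal] (φ : N →* ℂˣ) (g : G) :
    (eqKer N φ g).Normal := by
  unfold eqKer
  exact MonoidHom.normal_ker _

theorem mem_eqKer (N : Subgroup G) [hN : N.Normal] (φ : N →* ℂˣ) (g : G) (n : N) :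
    n ∈ eqKer N φ g ↔ φ ⟨g * n * g⁻¹, hN.conj_mem n n.2 g⟩ = φ n := by
  unfold eqKer
  rw [MonoidHom.mem_ker, MonoidHom.div_apply, div_eq_one]
  have h1 : ((MulAut.conjNormal g : N ≃* N) n : N) = ⟨g * n * g⁻¹, hN.conj_mem n n.2 g⟩ := by
    apply Subtype.ext
    exact MulAut.conjNormal_apply g n
  simp only [MonoidHom.comp_apply, MulEquiv.coe_toMonoidHom, h1]

theorem eqKer_ne_top (N : Subgroup G) [hN : N.Normal] (lam : IrrCharacter N)
    (h1 : (lam : N → ℂ) 1 = 1) (g : G) (hg : conjFun N hN (lam : N → ℂ) g ≠ (lam : N → ℂ)) :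
    eqKer N (toHom lam h1) g ≠ ⊤ := by
  intro htop
  apply hg
  funext n
  have hn : n ∈ eqKer N (toHom lam h1) g := by rw [htop]; trivial
  rw [mem_eqKer] at hn
  rw [conjFun_apply]
  have := congrArg (fun x : ℂˣ => (x : ℂ)) hn
  simpa using this

theorem twist_vanish (N : Subgroup G) [hN : N.Normal] (φ : N →* ℂˣ) (ψ : IrrCharacter N)
    (hψ : ∀ g : G, conjFun N hN (ψ : N → ℂ) g = (ψ : N → ℂ))
    (htw : ∀ g : G, conjFun N hN (twistIrr φ ψ : N → ℂ) g = (twistIrr φ ψ : N → ℂ))
    (g : G) (n : N) (hn : n ∉ eqKer N φ g) : (ψ : N → ℂ) n = 0 := by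
  rw [mem_eqKer] at hn
  have e1 := congrFun (htw g) n
  have e2 := congrFun (hψ g) n
  rw [conjFun_apply] at e1 e2
  rw [twistIrr_apply, twistIrr_apply, e2] at e1
  have e3 : (((φ ⟨g * n * g⁻¹, hN.conj_mem n n.2 g⟩ : ℂˣ) : ℂ) - ((φ n : ℂˣ) : ℂ)) *
      (ψ : N → ℂ) n = 0 := by
    rw [sub_mul, e1, sub_self]
  rcases mul_eq_zero.1 e3 with h | h
  · exfalso
    apply hn
    apply Units.ext
    exact sub_eq_zero.1 h
  · exact h

theorem twist_degree {N : Type u} [Group N] (φ : N →* ℂˣ) (ψ : IrrCharacter N) :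
    charDegree (twistIrr φ ψ : N → ℂ) = charDegree (ψ : N → ℂ) := by
  unfold charDegree
  rw [twistIrr_apply, map_one, Units.val_one, one_mul]

/-- the bad case: a character of degree `s = |G : M|` not a degree of `M`, and two different
nonlinear degrees of `M` -/
theorem bad_case (hG : PrimeDeg G) (M : Subgroup G) [Fintype M] (hM : M.Normal) (s : ℕ)
    (hs : s.Prime) (hidx : M.index = s) (χ : IrrCharacter G)
    (hχs : charDegree (χ : G → ℂ) = s)
    (hnos : ∀ θ : IrrCharacter M, charDegree (θ : M → ℂ) ≠ s)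
    (ψ₁ ψ₂ : IrrCharacter M) (h1 : charDegree (ψ₁ : M → ℂ) ≠ 1)
    (h2 : charDegree (ψ₂ : M → ℂ) ≠ 1)
    (hne : charDegree (ψ₁ : M → ℂ) ≠ charDegree (ψ₂ : M → ℂ)) : False := by
  classical
  haveI := hM
  have hMp : PrimeDeg M := primeDeg_normal hG M hM
  -- a linear constituent
  obtain ⟨lam, hlam, hlne⟩ := exists_under M χ.2
  have hlam1 : charDegree lam = 1 := by
    rcases deg_restrict M hM s hs hidx χ.2 hlam hlne with h | h
    · exact absurd (h.symm.trans hχs) (hnos ⟨lam, hlam⟩)
    · rw [hχs] at h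
      have : s * 1 = s * charDegree lam := by rw [mul_one]; exact h
      exact (Nat.eq_of_mul_eq_mul_left hs.pos this).symm
  have hlam1' : lam 1 = 1 := by
    rw [(Cfsg.Agent.Helper78.irr_charDegree hlam).1, hlam1]; simp
  -- it is not invariant
  have hninv : ∃ g : G, conjFun M hM lam g ≠ lam := by
    by_contra hcon
    push Not at hcon
    obtain ⟨e, he1, he2⟩ := clifford_norm M hM χ.2 hlam hlne
    have hset : conjSet M hM lam = {lam} := by
      ext ψ
      simp only [conjSet, Set.mem_ofPred_eq, Set.mem_singleton_iff]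
      constructor
      · rintro ⟨g, rfl⟩; exact hcon g
      · intro h; exact ⟨1, by rw [h, hcon 1]⟩
    have hk : Nat.card (conjSet M hM lam) = 1 := by
      rw [hset]; simp
    rw [hk, hlam1, hχs] at he1
    rw [hk] at he2
    have hes : e = s := by rw [he1]; simp
    have hle := norm_restrict_le M χ.2 _ he2
    rw [hidx, hes, mul_one] at hle
    have : s * 2 ≤ s * 1 := by
      calc s * 2 ≤ s * s := Nat.mul_le_mul_left s hs.two_le
        _ ≤ s * 1 := by rw [mul_one]; exact hle
    have := Nat.le_of_mul_le_mul_left this hs.pos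
    omega
  obtain ⟨g, hg⟩ := hninv
  set φ := toHom (⟨lam, hlam⟩ : IrrCharacter M) hlam1' with hφ
  set L := eqKer M φ g with hLdef
  have hLtop : L ≠ ⊤ := eqKer_ne_top M ⟨lam, hlam⟩ hlam1' g hg
  haveI : Fintype L := Fintype.ofFinite L
  have hLn : L.Normal := eqKer_normal M φ g
  -- both characters vanish off `L`
  have hvan : ∀ ψ : IrrCharacter M, charDegree (ψ : M → ℂ) ≠ 1 →
      ∀ m : M, m ∉ L → (ψ : M → ℂ) m = 0 := by
    intro ψ hψ1 m hm
    refine twist_vanish M φ ψ (nonlinear_invariant hG M hM ψ.2 hψ1) ?_ g m hm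
    refine nonlinear_invariant hG M hM (twistIrr φ ψ).2 ?_
    rw [twist_degree]; exact hψ1
  have ha := hMp ψ₁ h1
  have hb := hMp ψ₂ h2
  have r1 := vanish_index L hLn hLtop ψ₁.2 _ ha rfl (hvan ψ₁ h1)
  have r2 := vanish_index L hLn hLtop ψ₂.2 _ hb rfl (hvan ψ₂ h2)
  set a := charDegree (ψ₁ : M → ℂ) with hadef
  set b := charDegree (ψ₂ : M → ℂ) with hbdef
  rcases r1 with r1 | r1 <;> rcases r2 with r2 | r2
  · exact hne (r1.symm.trans r2)
  · rw [r1] at r2
    rw [r2] at ha
    exact Nat.not_prime_mul hb.ne_one hb.ne_one ha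
  · rw [r2] at r1
    rw [r1] at hb
    exact Nat.not_prime_mul ha.ne_one ha.ne_one hb
  · rw [r1] at r2
    exact hne (Nat.mul_self_inj.1 r2)

/-- degrees of `G` in terms of degrees of a normal subgroup of prime index -/
theorem claimA (hG : PrimeDeg G) (M : Subgroup G) [Fintype M] (hM : M.Normal) (s : ℕ)
    (hs : s.Prime) (hidx : M.index = s) (χ : IrrCharacter G) :
    charDegree (χ : G → ℂ) = 1 ∨ charDegree (χ : G → ℂ) = s ∨
      ∃ θ : IrrCharacter M, charDegree (θ : M → ℂ) = charDegree (χ : G → ℂ) ∧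
        charDegree (θ : M → ℂ) ≠ 1 := by
  have hMp : PrimeDeg M := primeDeg_normal hG M hM
  obtain ⟨θ, hθ, hne⟩ := exists_under M χ.2
  by_cases hθ1 : charDegree θ = 1
  · rcases deg_restrict M hM s hs hidx χ.2 hθ hne with h | h
    · left; rw [h, hθ1]
    · right; left; rw [h, hθ1, mul_one]
  · rcases deg_restrict M hM s hs hidx χ.2 hθ hne with h | h
    · right; right; exact ⟨⟨θ, hθ⟩, h.symm, hθ1⟩
    · exfalso
      have hχ1 : charDegree (χ : G → ℂ) ≠ 1 := by
        rw [h]
        intro h1
        have := Nat.eq_one_of_mul_eq_one_left h1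
        exact hθ1 this
      have hp := hG χ hχ1
      rw [h] at hp
      exact Nat.not_prime_mul hs.ne_one hθ1 hp

end Twist

section Main

theorem main : ∀ n : ℕ, ∀ (G : Type u) [Group G] [Finite G], Nat.card G = n →
    Group.IsSolvable G → PrimeDeg G →
    ∃ a b : ℕ, ∀ χ : IrrCharacter G, charDegree (χ : G → ℂ) = 1 ∨
      charDegree (χ : G → ℂ) = a ∨ charDegree (χ : G → ℂ) = b := by
  intro n
  induction n using Nat.strong_induction_on with
  | _ n ih =>
    intro G _ _ hn hsol hG
    haveI := Fintype.ofFinite G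
    rcases subsingleton_or_nontrivial G with hsub | hnt
    · refine ⟨1, 1, fun χ => Or.inl ?_⟩
      have h1 := Cfsg.Agent.Helper79.irr_degree_dvd_card χ
      have h2 : Nat.card G = 1 := Nat.card_unique
      rw [h2] at h1
      exact Nat.dvd_one.1 h1
    · obtain ⟨M, hM, hMs⟩ := Cfsg.Agent.Helper55.exists_normal_prime_index hsol
      haveI : Fintype M := Fintype.ofFinite M
      set s := M.index with hsdef
      have hMp : PrimeDeg M := primeDeg_normal hG M hM
      have hlt : Nat.card M < n := by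
        rw [← hn, ← Subgroup.index_mul_card M]
        have h2 : 2 ≤ M.index := hMs.two_le
        have h0 : 0 < Nat.card M := Nat.card_pos
        nlinarith
      haveI : Group.IsSolvable M := Group.isSolvable_of_isSolvable_injective M.subtype_injective
      obtain ⟨a, b, hab⟩ := ih (Nat.card M) hlt M rfl inferInstance hMp
      have hA := claimA hG M hM s hMs rfl
      by_cases h1 : ∃ χ : IrrCharacter G, charDegree (χ : G → ℂ) = s
      · by_cases h2 : ∃ θ : IrrCharacter M, charDegree (θ : M → ℂ) = s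
        · obtain ⟨θ, hθ⟩ := h2
          refine ⟨a, b, fun χ => ?_⟩
          rcases hA χ with h | h | ⟨θ', h', -⟩
          · left; exact h
          · rw [h, ← hθ]; exact hab θ
          · rw [← h']; exact hab θ'
        · push Not at h2
          obtain ⟨χs, hχs⟩ := h1
          by_cases h3 : ∃ ψ : IrrCharacter M, charDegree (ψ : M → ℂ) ≠ 1
          · obtain ⟨ψ, hψ⟩ := h3
            refine ⟨s, charDegree (ψ : M → ℂ), fun χ => ?_⟩
            rcases hA χ with h | h | ⟨θ', h', hne⟩
            · left; exact h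
            · right; left; exact h
            · right; right
              rw [← h']
              by_contra hne2
              exact bad_case hG M hM s hMs rfl χs hχs h2 θ' ψ hne hψ hne2
          · push Not at h3
            refine ⟨s, s, fun χ => ?_⟩
            rcases hA χ with h | h | ⟨θ', h', hne⟩
            · left; exact h
            · right; left; exact h
            · exact absurd (h3 θ') hne
      · refine ⟨a, b, fun χ => ?_⟩
        rcases hA χ with h | h | ⟨θ', h', -⟩
        · left; exact h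
        · exact absurd ⟨χ, h⟩ h1
        · rw [← h']; exact hab θ'

end Main

/-- If every irreducible complex character of the finite group G of degree greater than one has prime degree, then G has at most three distinct irreducible character degrees. -/
theorem result {G : Type*} [Group G] [Finite G] (hprime : ∀ d ∈ Cfsg.charDegrees G, d = 1 ∨ d.Prime) : Nat.card ↥(Cfsg.charDegrees G) ≤ 3 := by
  have hG : PrimeDeg G := by
    intro χ hχ
    rcases hprime _ ⟨χ, rfl⟩ with h | h
    · exact absurd h hχ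
    · exact h
  have hsol : Group.IsSolvable G := Cfsg.Agent.S4466.result hG
  obtain ⟨a, b, hab⟩ := main (Nat.card G) G rfl hsol hG
  have hsub : Cfsg.charDegrees G ⊆ (({1, a, b} : Finset ℕ) : Set ℕ) := by
    rintro d ⟨χ, rfl⟩
    simp only [Finset.coe_insert, Finset.coe_singleton, Set.mem_insert_iff,
      Set.mem_singleton_iff]
    exact hab χ
  calc Nat.card ↥(Cfsg.charDegrees G) = (Cfsg.charDegrees G).ncard := Nat.card_coe_set_eq _
    _ ≤ (({1, a, b} : Finset ℕ) : Set ℕ).ncard :=
        Set.ncard_le_ncard hsub (Finset.finite_toSet _)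
    _ = ({1, a, b} : Finset ℕ).card := Set.ncard_coe_finset _
    _ ≤ 3 := Finset.card_le_three

end Cfsg.Agent.S4813
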