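import Cfsg.Statements.S0519
import Mathlib
import Cfsg.Agent.S0126
import Cfsg.Agent.S0206
import Cfsg.Agent.Lib.Helper4.NormalFour4
import Cfsg.Agent.Lib.Helper73.QuatRecog

set_option autoImplicit false
open Cfsg

namespace Cfsg.Agent.S0519

open Cfsg.Agent.Helper4

/-- Let P be a finite p-group in which every abelian normal subgroup is cyclic, but which has a non-cyclic abelian
subgroup. Then p = 2 and P is generalized quaternion, dihedral of order at least 16, or quasi-dihedral. -/
theorem result {P : Type*} [Group P] [Finite P] (p : ℕ) [Fact p.Prime]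
    (hP : IsPGroup p P) (hn : ∀ A : Subgroup P, A.Normal → IsMulCommutative A → IsCyclic A)
    (hm : ∃ B : Subgroup P, IsMulCommutative B ∧ ¬ IsCyclic B) :
    p = 2 ∧ ((∃ n : ℕ, Nonempty (P ≃* QuaternionGroup n)) ∨ (∃ n : ℕ, 8 ≤ n ∧ Nonempty (P ≃* DihedralGroup n)) ∨
      Cfsg.IsQuasiDihedral P) := by
  classical
  -- `P` is not cyclic
  have hnc : ¬ IsCyclic P := by
    intro hc
    obtain ⟨B, -, hB⟩ := hm
    exact hB (Subgroup.isCyclic B)
  -- `p = 2`
  have hp2 : p = 2 := by
    by_contra hp
    obtain ⟨A, hAn, ⟨hAc, hAexp⟩, hAcard⟩ := Cfsg.Agent.S0126.result hp hP hnc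
    have hcyc := hn A hAn hAc
    obtain ⟨g, hg⟩ := hcyc.exists_generator
    have h1 : orderOf g = Nat.card A := orderOf_eq_card_of_forall_mem_zpowers hg
    have h2 : g ^ p = 1 := by
      apply Subtype.ext
      simp only [Subgroup.coe_pow, Subgroup.coe_one]
      exact hAexp g.1 g.2
    have h3 : orderOf g ∣ p := orderOf_dvd_of_pow_eq_one h2
    rw [h1, hAcard] at h3
    have hp' := (Fact.out : p.Prime)
    have h4 := Nat.le_of_dvd hp'.pos h3
    have h5 : p < p ^ 2 := by
      have := hp'.two_le
      nlinarith
    omega
  refine ⟨hp2, ?_⟩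
  subst hp2
  -- no normal four-subgroups
  have hno : ∀ V : Subgroup P, V.Normal → ¬ IsKleinFour V := by
    intro V hVn hV4
    haveI := hV4
    exact IsKleinFour.not_isCyclic (G := V) (hn V hVn IsKleinFour.isMulCommutative)
  obtain ⟨n, a, hord, hAn, hcase⟩ := structure_of_no_normal_four hP hno
  rcases hcase with hall | ⟨hn2, t, ht, hF4, hact, hsq⟩
  · exact absurd (⟨⟨a, hall⟩⟩ : IsCyclic P) hnc
  -- basic numerics
  have hidx : (Subgroup.zpowers a).index = 2 := by
    rw [Subgroup.index_eq_two_iff]
    refine ⟨t, fun b => ?_⟩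
    by_cases hb : b ∈ Subgroup.zpowers a
    · right
      refine ⟨hb, ?_⟩
      intro h
      apply ht
      have : t = b⁻¹ * (b * t) := by group
      rw [this]
      exact Subgroup.mul_mem _ (Subgroup.inv_mem _ hb) h
    · left
      exact ⟨hF4 b t hb ht, hb⟩
  have hcard : Nat.card P = 2 ^ (n + 1) := by
    have := (Subgroup.zpowers a).card_mul_index
    rw [hidx, Nat.card_zpowers, hord] at this
    rw [← this, pow_succ]
  have ht1 : t ≠ 1 := fun h => ht (h ▸ Subgroup.one_mem _)
  have ha1 : a ≠ 1 := by
    intro h
    rw [h, orderOf_one] at hord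
    have : 4 ≤ 2 ^ n := by
      calc 4 = 2 ^ 2 := by norm_num
        _ ≤ 2 ^ n := Nat.pow_le_pow_right (by norm_num) hn2
    omega
  have htaA : t * a ∉ Subgroup.zpowers a := by
    intro h
    apply ht
    have : t = (t * a) * a⁻¹ := by group
    rw [this]
    exact Subgroup.mul_mem _ h (Subgroup.inv_mem _ (Subgroup.mem_zpowers a))
  have hta1 : t * a ≠ 1 := fun h => htaA (h ▸ Subgroup.one_mem _)
  have hn1 : n - 1 + 1 = n := by omega
  have h2n : 2 ^ n = 2 * 2 ^ (n - 1) := by
    conv_lhs => rw [← hn1]
    rw [pow_succ]; ring
  rcases hact with hinv | ⟨hn3, hsd⟩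
  · -- `t` inverts `a`
    rcases hsq with htt | htt
    · -- dihedral
      right; left
      -- `n ≥ 3`
      have hn3 : 3 ≤ n := by
        by_contra hlt
        have hn' : n = 2 := by omega
        subst hn'
        -- the normal four-group `{1, a², t, t a²}`
        have haa : (a * a) * (a * a) = 1 := by
          have : a ^ 4 = 1 := by
            have := pow_orderOf_eq_one a
            rwa [hord] at this
          calc (a * a) * (a * a) = a ^ 4 := by
                simp only [pow_succ, pow_zero, one_mul, mul_assoc]
            _ = 1 := this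
        have hcomm : (a * a) * t = t * (a * a) := by
          have h1 : t * (a * a) * t⁻¹ = a⁻¹ * a⁻¹ := by
            calc t * (a * a) * t⁻¹ = (t * a * t⁻¹) * (t * a * t⁻¹) := by group
              _ = a⁻¹ * a⁻¹ := by rw [hinv]
          have h2 : a⁻¹ * a⁻¹ = a * a := by
            have : (a * a)⁻¹ = a * a := inv_eq_of_mul_eq_one_left haa
            rw [← this]; group
          calc (a * a) * t = (t * (a * a) * t⁻¹) * t := by rw [h1, h2]
            _ = t * (a * a) := by group
        have haa1 : a * a ≠ 1 := by
          intro h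
          have : orderOf a ∣ 2 := orderOf_dvd_of_pow_eq_one (by rw [pow_two]; exact h)
          rw [hord] at this
          have := Nat.le_of_dvd (by norm_num) this
          omega
        have hne : a * a ≠ t := by
          intro h
          apply ht
          rw [← h]
          exact Subgroup.mul_mem _ (Subgroup.mem_zpowers a) (Subgroup.mem_zpowers a)
        have hV4 := isKleinFour_fourSub haa htt hcomm haa1 ht1 hne
        have hVidx : (fourSub (a * a) t haa htt hcomm).index = 2 := by
          have := (fourSub (a * a) t haa htt hcomm).card_mul_index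
          rw [card_fourSub haa htt hcomm haa1 ht1 hne, hcard] at this
          omega
        exact hno _ (Subgroup.normal_of_index_eq_two hVidx) hV4
      refine ⟨2 ^ n, ?_, ?_⟩
      · calc 8 = 2 ^ 3 := by norm_num
          _ ≤ 2 ^ n := Nat.pow_le_pow_right (by norm_num) hn3
      · have hot : orderOf t = 2 := orderOf_eq_prime (by rw [pow_two]; exact htt) ht1
        have hta2 : (t * a) * (t * a) = 1 := by
          calc (t * a) * (t * a) = (t * a * t⁻¹) * (t * t) * a := by group
            _ = 1 := by rw [hinv, htt, mul_one, inv_mul_cancel]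
        have hota : orderOf (t * a) = 2 := orderOf_eq_prime (by rw [pow_two]; exact hta2) hta1
        have hne : t ≠ t * a := by
          intro h
          apply ha1
          have : t * 1 = t * a := by rw [mul_one]; exact h
          exact (mul_left_cancel this).symm
        obtain ⟨e⟩ := Cfsg.Agent.S0206.result t (t * a) hot hota hne
        have hprod : t * (t * a) = a := by rw [← mul_assoc, htt, one_mul]
        rw [hprod, hord] at e
        have htop : Subgroup.closure ({t, t * a} : Set P) = ⊤ := by
          rw [eq_top_iff]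
          intro g _
          have htm : t ∈ Subgroup.closure ({t, t * a} : Set P) :=
            Subgroup.subset_closure (by simp)
          have htam : t * a ∈ Subgroup.closure ({t, t * a} : Set P) :=
            Subgroup.subset_closure (by simp)
          have ham : a ∈ Subgroup.closure ({t, t * a} : Set P) := by
            have h := Subgroup.mul_mem _ (Subgroup.inv_mem _ htm) htam
            rwa [inv_mul_cancel_left] at h
          have hAle : Subgroup.zpowers a ≤ Subgroup.closure ({t, t * a} : Set P) :=
            Subgroup.zpowers_le.mpr ham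
          by_cases hg : g ∈ Subgroup.zpowers a
          · exact hAle hg
          · have htinv : t⁻¹ ∉ Subgroup.zpowers a := fun h => ht (by simpa using Subgroup.inv_mem _ h)
            have := hF4 t⁻¹ g htinv hg
            have e2 : g = t * (t⁻¹ * g) := by group
            rw [e2]
            exact Subgroup.mul_mem _ htm (hAle this)
        exact ⟨(Subgroup.topEquiv.symm.trans (MulEquiv.subgroupCongr htop.symm)).trans e⟩
    · -- quaternion
      left
      refine ⟨2 ^ (n - 1), ?_⟩
      haveI : NeZero (2 ^ (n - 1)) := ⟨by positivity⟩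
      have ha : orderOf a = 2 * 2 ^ (n - 1) := by rw [hord, h2n]
      have ht2 : t ^ 2 = a ^ (2 ^ (n - 1)) := by rw [pow_two]; exact htt
      have hc : Nat.card P = 4 * 2 ^ (n - 1) := by rw [hcard, pow_succ, h2n]; ring
      exact Cfsg.Agent.Helper73.quat_equiv ha ht2 hinv ht hc
  · -- semidihedral action
    right; right
    have hz2 : a ^ (2 ^ (n - 1)) * a ^ (2 ^ (n - 1)) = 1 := by
      rw [← pow_add, ← two_mul, ← h2n, ← hord, pow_orderOf_eq_one]
    rcases hsq with htt | htt
    · refine ⟨n, hn3, hcard, a, t, hord, ?_, hsd⟩
      exact orderOf_eq_prime (by rw [pow_two]; exact htt) ht1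
    · refine ⟨n, hn3, hcard, a, t * a, hord, ?_, ?_⟩
      · apply orderOf_eq_prime _ hta1
        rw [pow_two]
        have hpos : 1 ≤ 2 ^ (n - 1) := Nat.one_le_two_pow
        calc (t * a) * (t * a) = (t * a * t⁻¹) * (t * t) * a := by group
          _ = a ^ (2 ^ (n - 1) - 1) * a ^ (2 ^ (n - 1)) * a := by rw [hsd, htt]
          _ = a ^ (2 ^ (n - 1) - 1 + 2 ^ (n - 1) + 1) := by
            rw [pow_add, pow_add, pow_one]
          _ = a ^ (2 ^ n) := by
            congr 1
            rw [h2n]; omega
          _ = 1 := by rw [← hord, pow_orderOf_eq_one]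
      · rw [← hsd]; group

end Cfsg.Agent.S0519
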