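import Cfsg.Statements.S3305

set_option autoImplicit false
open Cfsg

namespace Cfsg.Agent.S3305

open scoped Pointwise

theorem mem_smul_sylow {G : Type*} [Group G] {p : ℕ} (g : G) (T : Sylow p G) (x : G) :
    x ∈ ((g • T : Sylow p G) : Subgroup G) ↔ g⁻¹ * x * g ∈ (T : Subgroup G) := by
  rw [Sylow.coe_subgroup_smul, Subgroup.mem_pointwise_smul_iff_inv_smul_mem]
  simp [MulAut.smul_def]

/-- Key lemma: given Sylow `p`-subgroups `Sb`, `Tb` of a quotient `G ⧸ H`, there are Sylow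
`p`-subgroups `S`, `T` of `G` mapping onto them and a subgroup `R ≤ S ⊓ T` mapping onto `Sb ⊓ Tb`. -/
theorem exists_lifts {G : Type*} [Group G] [Finite G] (p : ℕ) [Fact p.Prime]
    (H : Subgroup G) [H.Normal] (Sb Tb : Sylow p (G ⧸ H)) :
    ∃ (S T : Sylow p G) (R : Subgroup G),
      (S : Subgroup G).map (QuotientGroup.mk' H) = Sb ∧
      (T : Subgroup G).map (QuotientGroup.mk' H) = Tb ∧
      R ≤ (S : Subgroup G) ⊓ T ∧
      R.map (QuotientGroup.mk' H) = (Sb : Subgroup (G ⧸ H)) ⊓ Tb := by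
  have hπs : Function.Surjective (QuotientGroup.mk' H) := QuotientGroup.mk'_surjective H
  obtain ⟨S, hS⟩ := Sylow.mapSurjective_surjective hπs p Sb
  obtain ⟨T, hT⟩ := Sylow.mapSurjective_surjective hπs p Tb
  have hS' : (S : Subgroup G).map (QuotientGroup.mk' H) = Sb := by
    rw [← Sylow.coe_mapSurjective hπs, hS]
  have hT' : (T : Subgroup G).map (QuotientGroup.mk' H) = Tb := by
    rw [← Sylow.coe_mapSurjective hπs, hT]
  set R : Subgroup G :=
    (S : Subgroup G) ⊓ ((Sb : Subgroup (G ⧸ H)) ⊓ Tb).comap (QuotientGroup.mk' H) with hR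
  have hRmap : R.map (QuotientGroup.mk' H) = (Sb : Subgroup _) ⊓ Tb := by
    apply le_antisymm
    · rintro _ ⟨r, hr, rfl⟩
      exact hr.2
    · intro d hd
      have hd1 : d ∈ (S : Subgroup G).map (QuotientGroup.mk' H) := by
        rw [hS']; exact hd.1
      obtain ⟨s, hs, rfl⟩ := hd1
      exact ⟨s, ⟨hs, hd⟩, rfl⟩
  set M : Subgroup G := (Tb : Subgroup (G ⧸ H)).comap (QuotientGroup.mk' H) with hM
  have hTM : (T : Subgroup G) ≤ M := by
    rw [hM, ← Subgroup.map_le_iff_le_comap, hT']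
  have hRM : R ≤ M := fun r hr => hr.2.2
  have hR2 : IsPGroup p R := S.2.to_le inf_le_left
  have hR2' : IsPGroup p (R.subgroupOf M) := hR2.comap_subtype
  obtain ⟨Q, hQ⟩ := hR2'.exists_le_sylow
  obtain ⟨m, hm⟩ := MulAction.exists_smul_eq M (T.subtype hTM) Q
  refine ⟨S, (m : G) • T, R, hS', ?_, ?_, hRmap⟩
  · -- image of the conjugate
    have hmM : QuotientGroup.mk' H (m : G) ∈ (Tb : Subgroup (G ⧸ H)) := m.2
    ext d
    constructor
    · rintro ⟨x, hx, rfl⟩
      have hx' := (mem_smul_sylow (m : G) T x).mp hx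
      have h1 : QuotientGroup.mk' H ((m : G)⁻¹ * x * (m : G)) ∈ (Tb : Subgroup (G ⧸ H)) := by
        rw [← hT']; exact ⟨_, hx', rfl⟩
      have h2 : QuotientGroup.mk' H x =
          QuotientGroup.mk' H (m : G) * QuotientGroup.mk' H ((m : G)⁻¹ * x * (m : G)) *
            (QuotientGroup.mk' H (m : G))⁻¹ := by
        rw [← map_mul, ← map_inv, ← map_mul]
        congr 1
        group
      rw [h2]
      exact Subgroup.mul_mem _ (Subgroup.mul_mem _ hmM h1) (Subgroup.inv_mem _ hmM)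
    · intro hd
      have h1 : (QuotientGroup.mk' H (m : G))⁻¹ * d * QuotientGroup.mk' H (m : G) ∈
          (Tb : Subgroup (G ⧸ H)) :=
        Subgroup.mul_mem _ (Subgroup.mul_mem _ (Subgroup.inv_mem _ hmM) hd) hmM
      rw [← hT'] at h1
      obtain ⟨t, ht, hteq⟩ := h1
      refine ⟨(m : G) * t * (m : G)⁻¹, ?_, ?_⟩
      · apply (mem_smul_sylow (m : G) T _).mpr
        have : (m : G)⁻¹ * ((m : G) * t * (m : G)⁻¹) * (m : G) = t := by group
        rw [this]; exact ht
      · rw [map_mul, map_mul, map_inv, hteq]; group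
  · intro r hr
    refine ⟨hr.1, ?_⟩
    have h1 : (⟨r, hRM hr⟩ : M) ∈ R.subgroupOf M := by
      rw [Subgroup.mem_subgroupOf]; exact hr
    have h2 : (⟨r, hRM hr⟩ : M) ∈ (Q : Subgroup M) := hQ h1
    rw [← hm, Sylow.smul_subtype hTM m, Sylow.coe_subtype, Subgroup.mem_subgroupOf] at h2
    exact h2

/-- If any two distinct Sylow 2-subgroups of the finite group G intersect in a cyclic group, then the same holds in every quotient group G/H, H a normal subgroup of G. -/
theorem result {G : Type*} [Group G] [Finite G]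
    (hC : ∀ S T : Sylow 2 G, S ≠ T → IsCyclic ↥((S : Subgroup G) ⊓ (T : Subgroup G))) (H : Subgroup G) [H.Normal] :
    ∀ S T : Sylow 2 (G ⧸ H), S ≠ T → IsCyclic ↥((S : Subgroup (G ⧸ H)) ⊓ (T : Subgroup (G ⧸ H))) := by
  intro Sb Tb hne
  obtain ⟨S, T, R, hS, hT, hR, hRmap⟩ := exists_lifts 2 H Sb Tb
  have hST : S ≠ T := by
    rintro rfl
    apply hne
    apply Sylow.ext
    rw [← hS, ← hT]
  have hcyc : IsCyclic ↥((S : Subgroup G) ⊓ T) := hC S T hST
  have hRc : IsCyclic R :=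
    isCyclic_of_surjective (Subgroup.subgroupOfEquivOfLe hR) (Subgroup.subgroupOfEquivOfLe hR).surjective
  rw [← hRmap]
  exact isCyclic_of_surjective ((QuotientGroup.mk' H).subgroupMap R)
    ((QuotientGroup.mk' H).subgroupMap_surjective R)

end Cfsg.Agent.S3305
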