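import Cfsg.Statements.S1896
import Mathlib
import Cfsg.Agent.Lib.Helper73.Metacyclic2
import Cfsg.Agent.Lib.Helper73.ClassTwoPow
import Cfsg.Agent.Lib.Helper73.MetacyclicAut
import Cfsg.Agent.Lib.Helper73.TwoGroupA
import Cfsg.Agent.Lib.Helper34.PPrimeCore
import Cfsg.Agent.S4189
import Cfsg.Agent.S0014

set_option autoImplicit false
open Cfsg

namespace Cfsg.Agent.S1896

open Cfsg.Agent.Helper73
open scoped commutatorElement

/-- a generator of a two-generated `2`-group with Frattini index `4` lies outside the Frattini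
subgroup -/
lemma not_mem_frattini_of_gen {X : Type*} [Group X] [Finite X] (hX : IsPGroup 2 X)
    (hΦ : (frattini X).index = 4) (x y : X) (hxy : Subgroup.closure ({x, y} : Set X) = ⊤) :
    x ∉ frattini X := by
  classical
  have hf2 : Fact (Nat.Prime 2) := ⟨Nat.prime_two⟩
  intro hx
  have h1 : Subgroup.closure ({y} : Set X) ⊔ frattini X = ⊤ := by
    rw [eq_top_iff, ← hxy, Subgroup.closure_le]
    intro z hz
    rcases hz with rfl | rfl
    · exact (le_sup_right : frattini X ≤ _) hx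
    · exact (le_sup_left : Subgroup.closure ({z} : Set X) ≤ _) (Subgroup.subset_closure rfl)
  have h2 : Subgroup.closure ({y} : Set X) = ⊤ := frattini_nongenerating h1
  have h3 := (Cfsg.Agent.S0014.result 2 2 hX (by rw [hΦ]; norm_num)).2 ({y} : Finset X)
    (by rw [Finset.coe_singleton]; exact h2)
  simp at h3

/-- the unique involution of a cyclic `2`-group -/
lemma invol_of_cyclic {X : Type*} [Group X] (a : X) (m : ℕ) (hm1 : 1 ≤ m)
    (ha : orderOf a = 2 ^ m) (w : X) (hw : w ∈ Subgroup.zpowers a) (hw2 : w ^ 2 = 1)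
    (hw1 : w ≠ 1) : w = a ^ (2 ^ (m - 1)) := by
  obtain ⟨l, rfl⟩ := Subgroup.mem_zpowers_iff.1 hw
  have h2m : (2 : ℤ) ^ m = 2 ^ (m - 1) * 2 := by
    rw [← pow_succ]; congr 1; omega
  have h1 : ((2 ^ m : ℕ) : ℤ) ∣ l * 2 := by
    rw [← ha, orderOf_dvd_iff_zpow_eq_one, zpow_mul]
    exact_mod_cast hw2
  have h2 : (2 : ℤ) ^ (m - 1) ∣ l := by
    have : (2 : ℤ) ^ (m - 1) * 2 ∣ l * 2 := by
      rw [← h2m]; exact_mod_cast h1
    exact Int.dvd_of_mul_dvd_mul_right (by norm_num) this
  obtain ⟨l', rfl⟩ := h2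
  set g := a ^ (2 ^ (m - 1)) with hg
  have hgg : g ^ 2 = 1 := by
    rw [hg, ← pow_mul, ← pow_succ, Nat.sub_add_cancel hm1, ← ha, pow_orderOf_eq_one]
  have e1 : a ^ ((2 : ℤ) ^ (m - 1) * l') = g ^ l' := by
    rw [zpow_mul, hg]
    congr 1
    exact_mod_cast zpow_natCast a (2 ^ (m - 1))
  rw [e1] at hw1 ⊢
  rcases Int.even_or_odd l' with ⟨k, hk⟩ | ⟨k, hk⟩
  · exfalso
    apply hw1
    rw [hk, ← two_mul, zpow_mul, zpow_ofNat, hgg, one_zpow]
  · rw [hk, zpow_add, zpow_mul, zpow_ofNat, hgg, one_zpow, one_mul, zpow_one]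

/-- abelian case: the homocyclic decomposition -/
lemma abelian_case {X : Type*} [Group X] [Finite X] (hX : IsPGroup 2 X)
    (hcomm : ∀ x y : X, x * y = y * x) (a b : X)
    (hab : Subgroup.closure ({a, b} : Set X) = ⊤) (m : ℕ) (hm1 : 1 ≤ m)
    (ha : orderOf a = 2 ^ m) (hb : orderOf b = 2 ^ m)
    (habm : (a * b⁻¹) ^ (2 ^ (m - 1)) ≠ 1) :
    Nonempty (X ≃* Multiplicative (ZMod (2 ^ m)) × Multiplicative (ZMod (2 ^ m))) := by
  classical
  -- trivial intersection
  have hdisj : ∀ g : X, g ∈ Subgroup.zpowers a → g ∈ Subgroup.zpowers b → g = 1 := by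
    intro g hga hgb
    by_contra hg1
    obtain ⟨k, hk⟩ := hX.exists_orderOf_eq_pow g
    have hk1 : 1 ≤ k := by
      by_contra h
      have h0 : k = 0 := by omega
      rw [h0, pow_zero, orderOf_eq_one_iff] at hk
      exact hg1 hk
    set w := g ^ (2 ^ (k - 1)) with hw
    have hw2 : w ^ 2 = 1 := by
      rw [hw, ← pow_mul, ← pow_succ, Nat.sub_add_cancel hk1, ← hk, pow_orderOf_eq_one]
    have hw1 : w ≠ 1 := by
      intro h
      have h1 := orderOf_dvd_of_pow_eq_one h
      rw [hk] at h1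
      have h2 := (Nat.pow_dvd_pow_iff_le_right (by norm_num : 1 < 2)).1 h1
      omega
    have hwa := invol_of_cyclic a m hm1 ha w (Subgroup.pow_mem _ hga _) hw2 hw1
    have hwb := invol_of_cyclic b m hm1 hb w (Subgroup.pow_mem _ hgb _) hw2 hw1
    apply habm
    have hc : Commute a b⁻¹ := hcomm a b⁻¹
    rw [hc.mul_pow, inv_pow, ← hwa, ← hwb, mul_inv_cancel]
  set A := Subgroup.zpowers a with hA
  set B := Subgroup.zpowers b with hB
  let f : A × B →* X := MonoidHom.noncommCoprod A.subtype B.subtype (fun x y => hcomm _ _)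
  have hf : ∀ x : A × B, f x = (x.1 : X) * (x.2 : X) := fun x => rfl
  have hinj : Function.Injective f := by
    rw [injective_iff_map_eq_one]
    rintro ⟨x, y⟩ hxy
    rw [hf] at hxy
    simp only at hxy
    have hx : (x : X) = (y : X)⁻¹ := eq_inv_of_mul_eq_one_left hxy
    have hx1 : (x : X) = 1 := hdisj _ x.2 (by rw [hx]; exact B.inv_mem y.2)
    have hy1 : (y : X) = 1 := by rw [hx1, one_mul] at hxy; exact hxy
    ext
    · exact hx1
    · exact hy1
  have hsurj : Function.Surjective f := by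
    rw [← MonoidHom.range_eq_top, eq_top_iff, ← hab, Subgroup.closure_le]
    intro z hz
    rcases hz with rfl | rfl
    · exact ⟨(⟨z, Subgroup.mem_zpowers z⟩, 1), by rw [hf]; simp⟩
    · exact ⟨(1, ⟨z, Subgroup.mem_zpowers z⟩), by rw [hf]; simp⟩
  have eA : Multiplicative (ZMod (2 ^ m)) ≃* A :=
    zmodMulEquivOfGenerator (g := (⟨a, Subgroup.mem_zpowers a⟩ : A)) (by
      rintro ⟨x, hx⟩
      obtain ⟨l, rfl⟩ := Subgroup.mem_zpowers_iff.1 hx
      exact Subgroup.mem_zpowers_iff.2 ⟨l, Subtype.ext (by simp)⟩) (by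
      rw [hA, Nat.card_zpowers, ha])
  have eB : Multiplicative (ZMod (2 ^ m)) ≃* B :=
    zmodMulEquivOfGenerator (g := (⟨b, Subgroup.mem_zpowers b⟩ : B)) (by
      rintro ⟨x, hx⟩
      obtain ⟨l, rfl⟩ := Subgroup.mem_zpowers_iff.1 hx
      exact Subgroup.mem_zpowers_iff.2 ⟨l, Subtype.ext (by simp)⟩) (by
      rw [hB, Nat.card_zpowers, hb])
  exact ⟨((MulEquiv.prodCongr eA eB).trans (MulEquiv.ofBijective f ⟨hinj, hsurj⟩)).symm⟩

/-- the `2 ^ s`-power map is trivial -/
lemma key_pow {X : Type*} [Group X] [Finite X] (hX : IsPGroup 2 X)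
    (hΦ : (frattini X).index = 4)
    (β : MulAut X) (hβ3 : β ^ 3 = 1) (hβ1 : β ≠ 1) (a : X)
    (hle : commutator X ≤ Subgroup.zpowers a)
    (hcen : ∀ c ∈ commutator X, ∀ z : X, Commute c z)
    (hdmem : ∀ x y : X, y⁻¹ * x⁻¹ * y * x ∈ commutator X)
    (m : ℕ) (hexp1 : ∀ x : X, x ^ (2 ^ m) ∈ commutator X)
    (s : ℕ) (hs1 : 1 ≤ s) (hms : m ≤ s)
    (hd : ∀ x y : X, (y⁻¹ * x⁻¹ * y * x) ^ (2 ^ (s - 1)) = 1) (g : X) : g ^ (2 ^ s) = 1 := by
  let φ : X →* X :=
    { toFun := fun x => x ^ (2 ^ s)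
      map_one' := one_pow _
      map_mul' := fun x y =>
        mul_pow_two_pow_class_two x y (hcen _ (hdmem x y)) s hs1 (hd x y) }
  have hφ : ∀ x, φ x = x ^ (2 ^ s) := fun x => rfl
  have hL : φ.ker = ⊤ := by
    apply no_inv_cyclic_quot hX hΦ β hβ3 hβ1 φ.ker
    · intro x hx
      rw [MonoidHom.mem_ker, hφ] at hx ⊢
      rw [← map_pow, hx, map_one]
    · have hrange : φ.range ≤ Subgroup.zpowers a := by
        rintro _ ⟨x, rfl⟩
        apply hle
        rw [hφ]
        obtain ⟨t, rfl⟩ := Nat.exists_eq_add_of_le hms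
        rw [pow_add, pow_mul]
        exact Subgroup.pow_mem _ (hexp1 x) _
      have hcyc : IsCyclic φ.range := Subgroup.isCyclic_of_le hrange
      exact isCyclic_of_injective (QuotientGroup.quotientKerEquivRange φ).toMonoidHom
        (QuotientGroup.quotientKerEquivRange φ).injective
  have hg : g ∈ φ.ker := by rw [hL]; trivial
  exact hg

/-- the nonabelian case: the commutator subgroup has index `4` -/
lemma nonabelian_case {X : Type*} [Group X] [Finite X] (hX : IsPGroup 2 X)
    (hΦ : (frattini X).index = 4)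
    (β : MulAut X) (hβ3 : β ^ 3 = 1) (hβ1 : β ≠ 1) (a b : X)
    (hab : Subgroup.closure ({a, b} : Set X) = ⊤)
    (hle : commutator X ≤ Subgroup.zpowers a)
    (m : ℕ) (hm1 : 1 ≤ m) (hexp1 : ∀ x : X, x ^ (2 ^ m) ∈ commutator X)
    (hexp2 : ∀ x : X, x ^ (2 ^ (m - 1)) ∈ commutator X → x ∈ frattini X)
    (hna : commutator X ≠ ⊥) : (commutator X).index = 4 := by
  classical
  have hf2 : Fact (Nat.Prime 2) := ⟨Nat.prime_two⟩
  have haΦ : a ∉ frattini X := not_mem_frattini_of_gen hX hΦ a b hab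
  have hchar : ∀ c ∈ commutator X, ∀ γ : MulAut X, γ c ∈ commutator X := by
    intro c hc γ
    have h := (Subgroup.characteristic_iff_map_le.1
      (inferInstance : (commutator X).Characteristic)) γ
    exact h ⟨c, hc, rfl⟩
  have hcen : ∀ c ∈ commutator X, ∀ z : X, Commute c z := by
    set C := Subgroup.centralizer (commutator X : Set X) with hC
    have hCinv : ∀ x ∈ C, β x ∈ C := by
      intro x hx
      rw [hC, Subgroup.mem_centralizer_iff] at hx ⊢
      intro c hc
      have hc' : β⁻¹ c ∈ commutator X := hchar c hc β⁻¹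
      have h1 := hx _ hc'
      have h2 := congrArg β h1
      simpa using h2
    have hCtop : C = ⊤ := by
      rcases inv_le_frattini_or_top hX hΦ β hβ3 hβ1 C hCinv with h | h
      · exfalso
        apply haΦ
        apply h
        rw [hC, Subgroup.mem_centralizer_iff]
        intro c hc
        obtain ⟨l, rfl⟩ := Subgroup.mem_zpowers_iff.1 (hle hc)
        exact ((Commute.refl a).zpow_left l).eq
      · exact h
    intro c hc z
    have hz : z ∈ C := by rw [hCtop]; trivial
    rw [hC, Subgroup.mem_centralizer_iff] at hz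
    exact hz c hc
  have hdmem : ∀ x y : X, y⁻¹ * x⁻¹ * y * x ∈ commutator X := by
    intro x y
    have h1 : y⁻¹ * x⁻¹ * y * x = ⁅y⁻¹, x⁻¹⁆ := by rw [commutatorElement_def]; group
    rw [h1, commutator_def]
    exact Subgroup.commutator_mem_commutator (Subgroup.mem_top _) (Subgroup.mem_top _)
  have hXΦ : commutator X ≤ frattini X := (Cfsg.Agent.S0012.result 2 hX).1
  have h4dvd : 4 ∣ (commutator X).index := by
    rw [← hΦ]; exact Subgroup.index_dvd_of_le hXΦ
  rcases Nat.lt_or_ge m 2 with hm2 | hm2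
  · have hm : m = 1 := by omega
    subst hm
    have hsq : ∀ x : X, x ^ 2 ∈ commutator X := by intro x; simpa using hexp1 x
    let π : X →* Abelianization X := Abelianization.of
    have hπ : Function.Surjective π := QuotientGroup.mk_surjective
    have hcard : Nat.card (Abelianization X) = (commutator X).index :=
      (Subgroup.index_eq_card _).symm
    have htop : Subgroup.zpowers (π a) ⊔ Subgroup.zpowers (π b) = ⊤ := by
      rw [eq_top_iff, ← MonoidHom.range_eq_top.2 hπ, MonoidHom.range_eq_map, ← hab,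
        MonoidHom.map_closure, Subgroup.closure_le]
      rintro _ ⟨z, hz, rfl⟩
      rcases hz with rfl | rfl
      · exact (le_sup_left : Subgroup.zpowers (π z) ≤ _) (Subgroup.mem_zpowers _)
      · exact (le_sup_right : Subgroup.zpowers (π z) ≤ _) (Subgroup.mem_zpowers _)
    have h1 := Cfsg.Agent.Helper34.card_sup_dvd_mul (Subgroup.zpowers (π a))
      (Subgroup.zpowers (π b))
    rw [htop, Subgroup.card_top, Nat.card_zpowers, Nat.card_zpowers] at h1
    have hπ1 : ∀ x : X, x ∈ commutator X → π x = 1 := fun x hx =>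
      (QuotientGroup.eq_one_iff x).2 hx
    have hoa : orderOf (π a) ∣ 2 :=
      orderOf_dvd_of_pow_eq_one (by rw [← map_pow]; exact hπ1 _ (hsq a))
    have hob : orderOf (π b) ∣ 2 :=
      orderOf_dvd_of_pow_eq_one (by rw [← map_pow]; exact hπ1 _ (hsq b))
    have h2 : Nat.card (Abelianization X) ∣ 4 := h1.trans (mul_dvd_mul hoa hob)
    rw [hcard] at h2
    exact Nat.dvd_antisymm h2 h4dvd
  · exfalso
    let π : X →* X ⧸ commutator X := QuotientGroup.mk' _
    have hπ1 : ∀ x : X, π x = 1 ↔ x ∈ commutator X := fun x => QuotientGroup.eq_one_iff x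
    have hoa : orderOf (π a) = 2 ^ m := by
      have h := orderOf_eq_prime_pow (x := π a) (p := 2) (n := m - 1) ?_ ?_
      · rwa [Nat.sub_add_cancel hm1] at h
      · intro h
        rw [← map_pow, hπ1] at h
        exact haΦ (hexp2 a h)
      · rw [Nat.sub_add_cancel hm1, ← map_pow, hπ1]; exact hexp1 a
    set c₀ := a ^ (2 ^ m) with hc₀
    have hK1 : ∀ c ∈ commutator X, ∃ j : ℤ, c = c₀ ^ j := by
      intro c hc
      obtain ⟨l, rfl⟩ := Subgroup.mem_zpowers_iff.1 (hle hc)
      have h1 : (π a) ^ l = 1 := by rw [← map_zpow, hπ1]; exact hc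
      rw [← orderOf_dvd_iff_zpow_eq_one, hoa] at h1
      obtain ⟨j, rfl⟩ := h1
      refine ⟨j, ?_⟩
      rw [hc₀, zpow_mul]
      congr 1
      exact_mod_cast zpow_natCast a (2 ^ m)
    have hc₀1 : c₀ ≠ 1 := by
      intro h
      apply hna
      rw [eq_bot_iff]
      intro c hc
      obtain ⟨j, rfl⟩ := hK1 c hc
      rw [h, one_zpow]
      exact Subgroup.mem_bot.2 rfl
    by_cases hI : ∀ x y : X, (y⁻¹ * x⁻¹ * y * x) ^ (2 ^ (m - 1)) = 1
    · exact hc₀1 (key_pow hX hΦ β hβ3 hβ1 a hle hcen hdmem m hexp1 m hm1 le_rfl hI a)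
    · push Not at hI
      obtain ⟨x, y, hxy⟩ := hI
      have hdm : ∀ x y : X, (y⁻¹ * x⁻¹ * y * x) ^ (2 ^ m) = 1 := by
        intro x y
        have h1 := pow_mul_comm_class_two x y (hcen _ (hdmem x y)) (2 ^ m)
        have h2 : y ^ (2 ^ m) * x = x * y ^ (2 ^ m) := (hcen _ (hexp1 y) x).eq
        rw [h2] at h1
        simpa using h1
      have h3 := key_pow hX hΦ β hβ3 hβ1 a hle hcen hdmem m hexp1 (m + 1) (by omega) (by omega)
        (by simpa using hdm) a
      obtain ⟨j, hj⟩ := hK1 _ (hdmem x y)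
      apply hxy
      rw [hj]
      have hc₀2 : c₀ ^ 2 = 1 := by rw [hc₀, ← pow_mul, ← pow_succ]; exact h3
      have h5 : (2 : ℕ) ^ (m - 1) = 2 * 2 ^ (m - 2) := by
        rw [← pow_succ']; congr 1; omega
      have h6 : (c₀ ^ j) ^ 2 = 1 := by
        rw [← zpow_natCast, ← zpow_mul, mul_comm, zpow_mul, zpow_natCast, hc₀2, one_zpow]
      rw [h5, pow_mul, h6, one_pow]

/-- A finite metacyclic 2-group whose automorphism group is not a 2-group is isomorphic to the quaternion group of order 8 or to a homocyclic abelian group Z_{2^n} × Z_{2^n}. -/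
theorem result {X : Type*} [Group X] [Finite X] (hX : IsPGroup 2 X)
    (hm : Cfsg.IsMetacyclic X) (hA : ¬ IsPGroup 2 (MulAut X)) :
    Nonempty (X ≃* QuaternionGroup 2) ∨
      ∃ n : ℕ, Nonempty (X ≃* Multiplicative (ZMod (2 ^ n)) × Multiplicative (ZMod (2 ^ n))) := by
  classical
  have hf2 : Fact (Nat.Prime 2) := ⟨Nat.prime_two⟩
  -- an automorphism of odd prime order
  obtain ⟨α, hα⟩ : ∃ α : MulAut X, ∀ k : ℕ, α ^ 2 ^ k ≠ 1 := by
    by_contra h
    push Not at h
    exact hA h
  have hoα : ¬ ∃ k, orderOf α = 2 ^ k := by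
    rintro ⟨k, hk⟩
    exact hα k (by rw [← hk]; exact pow_orderOf_eq_one α)
  have hoαpos : 0 < orderOf α := orderOf_pos α
  obtain ⟨q, hq, hqdvd, hq2⟩ : ∃ q : ℕ, q.Prime ∧ q ∣ orderOf α ∧ q ≠ 2 := by
    by_contra h
    push Not at h
    apply hoα
    exact ⟨(orderOf α).primeFactorsList.length,
      Nat.eq_prime_pow_of_unique_prime_dvd hoαpos.ne' (fun {r} hr hrd => h r hr hrd)⟩
  have hqf : Fact q.Prime := ⟨hq⟩
  set β := α ^ (orderOf α / q) with hβ
  have hoβ : orderOf β = q := by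
    rw [hβ, orderOf_pow_of_dvd (by
      intro h0
      have := Nat.div_mul_cancel hqdvd
      rw [h0, zero_mul] at this
      omega) (Nat.div_dvd_of_dvd hqdvd), Nat.div_div_self hqdvd hoαpos.ne']
  have hβq : β ^ q = 1 := by rw [← hoβ]; exact pow_orderOf_eq_one β
  have hβ1 : β ≠ 1 := by
    intro h; rw [h, orderOf_one] at hoβ; exact hq.one_lt.ne hoβ
  -- generators
  obtain ⟨N, hN, hNc, hQc⟩ := hm
  obtain ⟨a0, ha0⟩ := hNc.exists_generator
  obtain ⟨bbar, hb0⟩ := hQc.exists_generator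
  obtain ⟨b, rfl⟩ := QuotientGroup.mk_surjective bbar
  set a : X := a0.1 with ha
  have hNa : N = Subgroup.zpowers a := by
    ext g
    constructor
    · intro hg
      obtain ⟨j, hj⟩ := Subgroup.mem_zpowers_iff.1 (ha0 ⟨g, hg⟩)
      have h1 := congrArg Subtype.val hj
      exact Subgroup.mem_zpowers_iff.2 ⟨j, by simpa using h1⟩
    · intro hg
      obtain ⟨j, rfl⟩ := Subgroup.mem_zpowers_iff.1 hg
      exact N.zpow_mem a0.2 j
  have hab : Subgroup.closure ({a, b} : Set X) = ⊤ := by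
    rw [eq_top_iff]
    intro g _
    obtain ⟨i, hi⟩ := Subgroup.mem_zpowers_iff.1 (hb0 (g : X ⧸ N))
    have h1 : (b ^ i)⁻¹ * g ∈ N := by
      rw [← QuotientGroup.eq, QuotientGroup.mk_zpow]; exact hi
    rw [hNa] at h1
    obtain ⟨j, hj⟩ := Subgroup.mem_zpowers_iff.1 h1
    have h2 : g = b ^ i * a ^ j := by rw [hj]; group
    rw [h2]
    exact Subgroup.mul_mem _ (Subgroup.zpow_mem _ (Subgroup.subset_closure (by simp)) i)
      (Subgroup.zpow_mem _ (Subgroup.subset_closure (by simp)) j)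
  have hle : commutator X ≤ Subgroup.zpowers a := by
    rw [← hNa]
    have hc : IsMulCommutative (X ⧸ N) := inferInstance
    exact Subgroup.Normal.quotient_commutative_iff_commutator_le.1 hc
  -- Frattini index 4 and q = 3
  obtain ⟨d, hd2, hd⟩ := frattini_index_le_two hX a b hab
  have hdq : d = 2 ∧ q = 3 := by
    by_contra hcon
    apply hβ1
    set B := Subgroup.zpowers β with hB
    have hBq : IsPGroup q B :=
      IsPGroup.of_card (n := 1) (by rw [hB, Nat.card_zpowers, hoβ, pow_one])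
    have hqi : ∀ i, 1 ≤ i → i ≤ d → ¬ q ∣ 2 ^ i - 1 := by
      intro i hi1 hid
      have : i = 1 ∨ i = 2 := by omega
      rcases this with rfl | rfl
      · norm_num
        exact hq.one_lt.ne'
      · norm_num
        intro h3
        have hq3 := (Nat.prime_dvd_prime_iff_eq hq Nat.prime_three).1 h3
        exact hcon ⟨by omega, hq3⟩
    ext x
    exact coprime_action_trivial hBq hX hd hqi (Ne.symm hq2)
      (⟨β, Subgroup.mem_zpowers β⟩ : B) x
  obtain ⟨rfl, rfl⟩ := hdq
  have hΦ : (frattini X).index = 4 := by rw [hd]; norm_num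
  obtain ⟨m, hm1, hexp1, hexp2⟩ := exists_exponent_data hX hΦ β hβq hβ1
  by_cases hna : commutator X = ⊥
  · right
    refine ⟨m, ?_⟩
    have hcomm : ∀ x y : X, x * y = y * x := by
      intro x y
      have h1 : ⁅x, y⁆ ∈ commutator X := by
        rw [commutator_def]
        exact Subgroup.commutator_mem_commutator (Subgroup.mem_top _) (Subgroup.mem_top _)
      rw [hna, Subgroup.mem_bot, commutatorElement_eq_one_iff_mul_comm] at h1
      exact h1
    have hba : Subgroup.closure ({b, a} : Set X) = ⊤ := by rw [Set.pair_comm]; exact hab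
    have hab' : Subgroup.closure ({a * b⁻¹, b} : Set X) = ⊤ := by
      rw [eq_top_iff, ← hab, Subgroup.closure_le]
      intro z hz
      rcases hz with hz | hz
      · have h1 : z = (a * b⁻¹) * b := by rw [hz]; group
        rw [h1]
        exact Subgroup.mul_mem _ (Subgroup.subset_closure (by simp))
          (Subgroup.subset_closure (by simp))
      · rw [hz]; exact Subgroup.subset_closure (by simp)
    have haΦ : a ∉ frattini X := not_mem_frattini_of_gen hX hΦ a b hab
    have hbΦ : b ∉ frattini X := not_mem_frattini_of_gen hX hΦ b a hba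
    have habΦ : a * b⁻¹ ∉ frattini X := not_mem_frattini_of_gen hX hΦ (a * b⁻¹) b hab'
    have hord : ∀ x : X, x ∉ frattini X → orderOf x = 2 ^ m ∧ x ^ (2 ^ (m - 1)) ≠ 1 := by
      intro x hx
      have hx1 : x ^ (2 ^ (m - 1)) ≠ 1 := by
        intro h
        apply hx
        apply hexp2
        rw [h]; exact Subgroup.one_mem _
      refine ⟨?_, hx1⟩
      have h := orderOf_eq_prime_pow (x := x) (p := 2) (n := m - 1) hx1 ?_
      · rwa [Nat.sub_add_cancel hm1] at h
      · rw [Nat.sub_add_cancel hm1]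
        have h2 := hexp1 x
        rw [hna, Subgroup.mem_bot] at h2
        exact h2
    exact abelian_case hX hcomm a b hab m hm1 (hord a haΦ).1 (hord b hbΦ).1 (hord _ habΦ).2
  · left
    have h4 := nonabelian_case hX hΦ β hβq hβ1 a b hab hle m hm1 hexp1 hexp2 hna
    have hnc : ¬ IsMulCommutative X := by
      intro hc
      apply hna
      rw [eq_bot_iff, commutator_eq_closure, Subgroup.closure_le]
      rintro _ ⟨x, y, rfl⟩
      rw [SetLike.mem_coe, Subgroup.mem_bot, commutatorElement_eq_one_iff_mul_comm]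
      exact mul_comm' x y
    exact Cfsg.Agent.S4189.result hX hnc h4 hA

end Cfsg.Agent.S1896
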