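import Cfsg.Statements.S3215
import Cfsg.Agent.S0044
import Cfsg.Agent.S0016
import Cfsg.Agent.Lib.Helper71.FrobConj
import Cfsg.Agent.Lib.Helper30.AxB
import Cfsg.Agent.Lib.Helper70.Fitting
import Cfsg.Agent.Lib.Helper64.DirectFactor

set_option autoImplicit false
open Cfsg

namespace Cfsg.Agent.S3215

open scoped commutatorElement
open Cfsg.Agent.Helper70

variable {H : Type*} [Group H] [Finite H]

lemma fitting_eq_pCore (hO : Cfsg.oddCore H = ⊥) :
    Cfsg.fittingSubgroup H = Cfsg.pCore 2 H := by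
  have : Fact (Nat.Prime 2) := ⟨Nat.prime_two⟩
  apply le_antisymm
  · rw [fittingSubgroup_eq_coreJoin]
    apply iSup_le
    intro p
    have hp : (p : ℕ).Prime := Nat.prime_of_mem_primeFactors p.2
    have : Fact (p : ℕ).Prime := ⟨hp⟩
    by_cases h2 : (p : ℕ) = 2
    · rw [h2]
    · have hle : Cfsg.pCore (p : ℕ) H ≤ Cfsg.oddCore H := by
        apply le_sSup
        refine ⟨pCore_normal _ _, ?_⟩
        obtain ⟨k, hk⟩ := (pCore_isPGroup (G := H) (p := (p : ℕ))).exists_card_eq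
        rw [hk]
        apply Nat.Coprime.pow_left
        exact (Nat.coprime_primes hp Nat.prime_two).mpr h2
      rw [hO] at hle
      exact hle.trans bot_le
  · exact pCore_le_fittingSubgroup

lemma centralizer_pCore_le (hsol : Group.IsSolvable H) (hO : Cfsg.oddCore H = ⊥) :
    Subgroup.centralizer (Cfsg.pCore 2 H : Set H) ≤ Cfsg.pCore 2 H := by
  have := Cfsg.Agent.S0044.result (G := H)
  rwa [fitting_eq_pCore hO] at this


/-- Key lemma: an element of odd order commuting with an involution is trivial. -/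
lemma eq_one_of_comm_invol (hsol : Group.IsSolvable H) (hO : Cfsg.oddCore H = ⊥)
    (hI : ∀ t : H, orderOf t = 2 →
      Cfsg.HasNormalPComplement 2 ↥(Subgroup.centralizer ({t} : Set H)))
    (t x : H) (ht : orderOf t = 2) (hx : Odd (orderOf x)) (hc : x * t = t * x) : x = 1 := by
  have : Fact (Nat.Prime 2) := ⟨Nat.prime_two⟩
  have hI' := hI t ht
  set C := Subgroup.centralizer ({t} : Set H) with hCdef
  set Q := Cfsg.pCore 2 H with hQdef
  obtain ⟨P, N, hNn, hNc⟩ := hI'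
  have hQn : Q.Normal := pCore_normal 2 H
  have hQ2 : IsPGroup 2 Q := pCore_isPGroup
  -- `N` has odd order
  have hNodd : (Nat.card N).Coprime 2 := by
    have h1 : (P : Subgroup C).index = Nat.card N := hNc.index_eq_card
    rw [← h1, Nat.coprime_comm, Nat.Prime.coprime_iff_not_dvd Nat.prime_two]
    exact P.not_dvd_index
  -- `x ∈ N`
  have hxC : x ∈ C := by
    rw [Subgroup.mem_centralizer_iff]
    intro y hy
    rw [Set.mem_singleton_iff] at hy
    rw [hy]; exact hc.symm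
  have hxN : (⟨x, hxC⟩ : C) ∈ N := by
    apply Cfsg.Agent.Helper64.mem_of_coprime_index N
    have h1 : N.index = Nat.card (P : Subgroup C) := hNc.symm.index_eq_card
    obtain ⟨k, hk⟩ := P.2.exists_card_eq
    rw [h1, hk]
    apply Nat.Coprime.pow_right
    have : orderOf (⟨x, hxC⟩ : C) = orderOf x := Subgroup.orderOf_mk x hxC
    rw [this]
    exact Nat.coprime_two_right.mpr hx
  -- the subgroups for the `A × B` lemma
  set B := N.map C.subtype with hBdef
  set A := Subgroup.zpowers t with hAdef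
  have hA : IsPGroup 2 A := by
    apply IsPGroup.of_card (n := 1)
    rw [Nat.card_zpowers, ht, pow_one]
  have hBcard : Nat.card B = Nat.card N := Subgroup.card_map_of_injective C.subtype_injective
  have hB : (Nat.card B).Coprime 2 := by rw [hBcard]; exact hNodd
  have hBC : ∀ b ∈ B, b * t = t * b := by
    rintro _ ⟨n, -, rfl⟩
    have := n.2
    rw [Subgroup.mem_centralizer_iff] at this
    exact (this t rfl).symm
  have hAB : ⁅A, B⁆ = ⊥ := by
    rw [Subgroup.commutator_eq_bot_iff_le_centralizer]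
    intro a ha
    rw [Subgroup.mem_centralizer_iff]
    intro b hb
    obtain ⟨k, rfl⟩ := Subgroup.mem_zpowers_iff.mp ha
    exact ((Commute.zpow_right (hBC b hb) k)).eq
  have hBQ : B ⊓ Q = ⊥ := by
    rw [← disjoint_iff]
    apply Subgroup.disjoint_of_coprime_natCard
    obtain ⟨k, hk⟩ := hQ2.exists_card_eq
    rw [hk]
    exact Nat.Coprime.pow_right _ hB
  have hC : Q ⊓ Subgroup.centralizer (A : Set H) ≤ Subgroup.centralizer (B : Set H) := by
    intro y hy
    rw [Subgroup.mem_inf] at hy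
    obtain ⟨hyQ, hyA⟩ := hy
    rw [Subgroup.mem_centralizer_iff] at hyA ⊢
    have hyC : y ∈ C := by
      rw [Subgroup.mem_centralizer_iff]
      intro z hz
      rw [Set.mem_singleton_iff] at hz
      rw [hz]
      exact hyA t (Subgroup.mem_zpowers t)
    rintro _ ⟨n, hn, rfl⟩
    -- the commutator lies in `B ⊓ Q`
    have h1 : (n : H) * y * (n : H)⁻¹ * y⁻¹ ∈ B := by
      have h2 : n * (⟨y, hyC⟩ * n⁻¹ * (⟨y, hyC⟩ : C)⁻¹) ∈ N :=
        N.mul_mem hn (hNn.conj_mem _ (N.inv_mem hn) _)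
      refine ⟨_, h2, ?_⟩
      simp [mul_assoc]
    have h2 : (n : H) * y * (n : H)⁻¹ * y⁻¹ ∈ Q :=
      Q.mul_mem (hQn.conj_mem _ hyQ _) (Q.inv_mem hyQ)
    have h3 : (n : H) * y * (n : H)⁻¹ * y⁻¹ ∈ B ⊓ Q := ⟨h1, h2⟩
    rw [hBQ, Subgroup.mem_bot] at h3
    have h4 : (n : H) * y = y * (n : H) := by
      have := congrArg (fun z => z * y * (n : H)) h3
      simpa [mul_assoc] using this
    exact h4
  have hres := Cfsg.Agent.Helper30.thompson_AxB A B hA hB hAB Q hQ2
    (by rw [Subgroup.normalizer_eq_top]; exact le_top) (by rw [Subgroup.normalizer_eq_top]; exact le_top) hC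
  rw [Subgroup.commutator_eq_bot_iff_le_centralizer] at hres
  -- so `B ≤ C(Q) ≤ Q`
  have hBle : B ≤ Q := by
    intro b hb
    apply centralizer_pCore_le hsol hO
    rw [Subgroup.mem_centralizer_iff]
    intro q hq
    have := hres hq
    rw [Subgroup.mem_centralizer_iff] at this
    exact (this b hb).symm
  have hB1 : B = ⊥ := by
    rw [eq_bot_iff, ← hBQ]
    exact le_inf le_rfl hBle
  have : x ∈ B := ⟨⟨x, hxC⟩, hxN, rfl⟩
  rw [hB1, Subgroup.mem_bot] at this
  exact this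


/-- the hypotheses bundled -/
structure Hyp (H : Type*) [Group H] [Finite H] : Prop where
  hsol : Group.IsSolvable H
  hO : Cfsg.oddCore H = ⊥
  hI : ∀ t : H, orderOf t = 2 →
      Cfsg.HasNormalPComplement 2 ↥(Subgroup.centralizer ({t} : Set H))

/-- an element of odd order commuting with a nontrivial `2`-element is trivial -/
lemma Hyp.eq_one_of_comm (h : Hyp H) (s x : H) (hs : ∃ k, orderOf s = 2 ^ k) (hs1 : s ≠ 1)
    (hx : Odd (orderOf x)) (hc : x * s = s * x) : x = 1 := by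
  obtain ⟨k, hk⟩ := hs
  have hk0 : k ≠ 0 := by
    rintro rfl
    rw [pow_zero, orderOf_eq_one_iff] at hk
    exact hs1 hk
  obtain ⟨j, rfl⟩ := Nat.exists_eq_succ_of_ne_zero hk0
  have ht : orderOf (s ^ (2 ^ j)) = 2 := by
    have := orderOf_pow_orderOf_div (x := s) (n := 2) (by rw [hk]; positivity)
      (by rw [hk, pow_succ]; exact dvd_mul_left _ _)
    rw [hk, pow_succ, Nat.mul_div_cancel _ (by norm_num : 0 < 2)] at this
    exact this
  refine eq_one_of_comm_invol h.hsol h.hO h.hI (s ^ (2 ^ j)) x ht hx ?_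
  exact (Commute.pow_right (show Commute x s from hc) _).eq


lemma Hyp.subsingleton_of_pCore_eq_bot (h : Hyp H) (hY : Cfsg.pCore 2 H = ⊥) : Subsingleton H := by
  have h1 := centralizer_pCore_le h.hsol h.hO
  rw [hY] at h1
  have h2 : (⊤ : Subgroup H) ≤ ⊥ := by
    intro x _
    apply h1
    rw [Subgroup.mem_centralizer_iff]
    intro y hy
    have : y = 1 := by simpa using hy
    rw [this]; simp
  constructor
  intro a b
  have ha : a ∈ (⊥ : Subgroup H) := h2 (Subgroup.mem_top a)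
  have hb : b ∈ (⊥ : Subgroup H) := h2 (Subgroup.mem_top b)
  rw [Subgroup.mem_bot] at ha hb
  rw [ha, hb]

/-- odd order elements act fixed-point-freely on `O₂(H)` -/
lemma Hyp.fpf (h : Hyp H) (x y : H) (hx : Odd (orderOf x)) (hx1 : x ≠ 1)
    (hy : y ∈ Cfsg.pCore 2 H) (hc : x * y = y * x) : y = 1 := by
  have : Fact (Nat.Prime 2) := ⟨Nat.prime_two⟩
  by_contra hy1
  apply hx1
  apply h.eq_one_of_comm y x ?_ hy1 hx hc
  have hQ2 : IsPGroup 2 (Cfsg.pCore 2 H) := pCore_isPGroup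
  obtain ⟨k, hk⟩ := (hQ2 ⟨y, hy⟩)
  have h1 : y ^ 2 ^ k = 1 := congrArg Subtype.val hk
  exact (Nat.dvd_prime_pow Nat.prime_two).mp (orderOf_dvd_of_pow_eq_one h1) |>.imp fun j hj => hj.2

/-- subgroups of odd prime power order are cyclic -/
lemma Hyp.isCyclic_of_odd_pgroup (h : Hyp H) {p : ℕ} [Fact p.Prime] (hp : p ≠ 2)
    (P₀ : Subgroup H) (hP : IsPGroup p P₀) : IsCyclic P₀ := by
  have h2 : Fact (Nat.Prime 2) := ⟨Nat.prime_two⟩
  have hpp : p.Prime := Fact.out
  by_cases hY : Cfsg.pCore 2 H = ⊥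
  · have := h.subsingleton_of_pCore_eq_bot hY
    exact isCyclic_of_subsingleton
  · have hYn : (Cfsg.pCore 2 H).Normal := pCore_normal 2 H
    have hnt : Nontrivial ↥(Cfsg.pCore 2 H) := (Subgroup.nontrivial_iff_ne_bot _).mpr hY
    have hQ2 : IsPGroup 2 (Cfsg.pCore 2 H) := pCore_isPGroup
    have hcop : (Nat.card ↥(Cfsg.pCore 2 H)).Coprime p := by
      obtain ⟨k, hk⟩ := hQ2.exists_card_eq
      rw [hk]
      apply Nat.Coprime.pow_left
      exact (Nat.coprime_primes Nat.prime_two hpp).mpr (Ne.symm hp)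
    have huniq := Cfsg.Agent.Helper71.unique_subgroup_order_p_of_fpf p hP hcop
      (Cfsg.Agent.Helper71.conjHom P₀ (Cfsg.pCore 2 H)) (by
        intro g hg y hgy
        have h1 : (g : H) * y * (g : H)⁻¹ = y := by
          rw [← Cfsg.Agent.Helper71.conjHom_coe, hgy]
        have hc : (g : H) * y = y * g := by
          calc (g : H) * y = ((g : H) * y * (g : H)⁻¹) * g := by group
            _ = y * g := by rw [h1]
        have hodd : Odd (orderOf (g : H)) := by
          obtain ⟨k, hk⟩ := hP.exists_card_eq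
          have : orderOf (g : H) ∣ p ^ k := by
            rw [← hk, Subgroup.orderOf_coe]
            exact orderOf_dvd_natCard g
          exact (hpp.odd_of_ne_two hp).pow.of_dvd_nat this
        have := h.fpf g y hodd (fun e => hg (Subtype.ext e)) y.2 hc
        exact Subtype.ext this)
    rcases Cfsg.Agent.S0016.result p hP huniq with hc | ⟨h2', -⟩
    · exact hc
    · exact absurd h2' hp


lemma Hyp.sylow_cyclic_of_odd (h : Hyp H) (X : Subgroup H) (hX : Odd (Nat.card X))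
    (p : ℕ) [Fact p.Prime] (P : Sylow p ↥X) : IsCyclic ↥(P : Subgroup ↥X) := by
  have hpp : p.Prime := Fact.out
  by_cases hp : p = 2
  · subst hp
    obtain ⟨k, hk⟩ := P.2.exists_card_eq
    have h1 : Nat.card (P : Subgroup ↥X) ∣ Nat.card X := Subgroup.card_subgroup_dvd_card _
    have h2 : Odd (Nat.card (P : Subgroup ↥X)) := hX.of_dvd_nat h1
    have h3 : Nat.card (P : Subgroup ↥X) = 1 := by
      rw [hk] at h2 ⊢
      rcases Nat.eq_zero_or_pos k with rfl | hk0
      · simp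
      · exfalso
        have h4 : 2 ∣ 2 ^ k := dvd_pow_self 2 hk0.ne'
        exact (Nat.not_even_iff_odd.mpr h2) (even_iff_two_dvd.mpr h4)
    have : Subsingleton (P : Subgroup ↥X) := (Nat.card_eq_one_iff_unique.mp h3).1
    exact isCyclic_of_subsingleton
  · have hcyc := h.isCyclic_of_odd_pgroup hp ((P : Subgroup ↥X).map X.subtype) (P.2.map X.subtype)
    let e := (P : Subgroup ↥X).equivMapOfInjective X.subtype X.subtype_injective
    exact isCyclic_of_surjective e.symm e.symm.surjective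

lemma Hyp.isZGroup_of_odd (h : Hyp H) (X : Subgroup H) (hX : Odd (Nat.card X)) : IsZGroup X := by
  constructor
  intro p hp P
  have : Fact p.Prime := ⟨hp⟩
  exact h.sylow_cyclic_of_odd X hX p P


section quotient

/-- `O₂(H)` is normal (local instance) -/
local instance instNormalPCoreTwo : (Cfsg.pCore 2 H).Normal := pCore_normal 2 H

lemma pCore_quot_eq_bot : Cfsg.pCore 2 (H ⧸ Cfsg.pCore 2 H) = ⊥ := by
  have : Fact (Nat.Prime 2) := ⟨Nat.prime_two⟩
  set Y := Cfsg.pCore 2 H with hY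
  have hY2 : IsPGroup 2 Y := pCore_isPGroup
  have hQ2 : IsPGroup 2 (Cfsg.pCore 2 (H ⧸ Y)) := pCore_isPGroup
  have hQn : (Cfsg.pCore 2 (H ⧸ Y)).Normal := pCore_normal 2 _
  set M := (Cfsg.pCore 2 (H ⧸ Y)).comap (QuotientGroup.mk' Y) with hM
  have hMn : M.Normal := hQn.comap _
  have hM2 : IsPGroup 2 M := by
    intro m
    obtain ⟨k₁, hk₁⟩ := hQ2 ⟨QuotientGroup.mk' Y m.1, m.2⟩
    have h1 : (QuotientGroup.mk' Y m.1) ^ 2 ^ k₁ = 1 := congrArg Subtype.val hk₁
    rw [← map_pow, QuotientGroup.mk'_apply, QuotientGroup.eq_one_iff] at h1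
    obtain ⟨k₂, hk₂⟩ := hY2 ⟨_, h1⟩
    have h2 : (m.1 ^ 2 ^ k₁) ^ 2 ^ k₂ = 1 := congrArg Subtype.val hk₂
    refine ⟨k₁ + k₂, ?_⟩
    apply Subtype.ext
    rw [pow_add, pow_mul]
    exact h2
  have hMY : M ≤ Y := le_pCore M hM2
  rw [eq_bot_iff]
  intro z hz
  obtain ⟨w, rfl⟩ := QuotientGroup.mk'_surjective Y z
  have hw : w ∈ M := hz
  rw [Subgroup.mem_bot, QuotientGroup.mk'_apply, QuotientGroup.eq_one_iff]
  exact hMY hw

lemma odd_card_fitting_quot :
    Odd (Nat.card (Cfsg.fittingSubgroup (H ⧸ Cfsg.pCore 2 H))) := by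
  have : Fact (Nat.Prime 2) := ⟨Nat.prime_two⟩
  set R := Cfsg.fittingSubgroup (H ⧸ Cfsg.pCore 2 H) with hR
  have hRn : R.Normal := fittingSubgroup_normal _
  have hRnil : Group.IsNilpotent R := fittingSubgroup_isNilpotent _
  let S : Sylow 2 R := default
  have hSn : (S : Subgroup R).Normal := by
    have q := (Group.isNilpotent_of_finite_tfae (G := R)).out 0 3
    rw [q] at hRnil
    exact hRnil 2 inferInstance S
  have hSc : (S : Subgroup R).Characteristic := Sylow.characteristic_of_normal S hSn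
  have hSmapn : ((S : Subgroup R).map R.subtype).Normal := ConjAct.normal_of_characteristic_of_normal
  have hSmap2 : IsPGroup 2 ((S : Subgroup R).map R.subtype) := S.2.map _
  have h1 : (S : Subgroup R).map R.subtype ≤ Cfsg.pCore 2 (H ⧸ Cfsg.pCore 2 H) :=
    le_pCore _ hSmap2
  rw [pCore_quot_eq_bot, le_bot_iff, (Subgroup.map_eq_bot_iff_of_injective _ R.subtype_injective)] at h1
  have h2 := S.not_dvd_index
  rw [h1, Subgroup.index_bot] at h2
  exact Nat.odd_iff.mpr (Nat.two_dvd_ne_zero.mp h2)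


omit [Finite H] in
lemma mulAut_comm_of_isCyclic {R : Type*} [Group R] [IsCyclic R] (σ τ : MulAut R) :
    σ * τ = τ * σ := by
  ext r
  obtain ⟨m, hm⟩ := MonoidHom.map_cyclic (σ : R →* R)
  obtain ⟨n, hn⟩ := MonoidHom.map_cyclic (τ : R →* R)
  have h1 : ∀ g, σ g = g ^ m := hm
  have h2 : ∀ g, τ g = g ^ n := hn
  simp only [MulAut.mul_apply]
  rw [h1, h2, h2, h1, ← zpow_mul, ← zpow_mul, mul_comm]

omit [Finite H] in
lemma le_of_normal_coprime_index {G : Type*} [Group G] [Finite G] (X N : Subgroup G) [N.Normal]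
    (hcop : (Nat.card N).Coprime X.index) : N ≤ X := by
  have h1 : X.relIndex N ∣ X.index := relIndex_dvd_index_of_normal_right X N
  have h2 : X.relIndex N ∣ Nat.card N := Subgroup.index_dvd_card _
  have h3 : X.relIndex N = 1 := Nat.eq_one_of_dvd_coprimes hcop h2 h1
  exact Subgroup.relIndex_eq_one.mp h3


lemma Hyp.quot_structure (h : Hyp H) (X : Subgroup H) (hXodd : Odd (Nat.card X))
    (hXidx : ∃ k : ℕ, X.index = 2 ^ k) :
    IsCyclic (Cfsg.fittingSubgroup (H ⧸ Cfsg.pCore 2 H)) ∧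
    Cfsg.fittingSubgroup (H ⧸ Cfsg.pCore 2 H) ≤ X.map (QuotientGroup.mk' (Cfsg.pCore 2 H)) ∧
    _root_.commutator (H ⧸ Cfsg.pCore 2 H) ≤ Cfsg.fittingSubgroup (H ⧸ Cfsg.pCore 2 H) ∧
    Subgroup.centralizer (Cfsg.fittingSubgroup (H ⧸ Cfsg.pCore 2 H) : Set (H ⧸ Cfsg.pCore 2 H)) ≤
      Cfsg.fittingSubgroup (H ⧸ Cfsg.pCore 2 H) := by
  have hsol : Group.IsSolvable H := h.hsol
  set Y := Cfsg.pCore 2 H with hY
  set R := Cfsg.fittingSubgroup (H ⧸ Y) with hR
  set Xb := X.map (QuotientGroup.mk' Y) with hXb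
  have hRn : R.Normal := fittingSubgroup_normal _
  have hRnil : Group.IsNilpotent R := fittingSubgroup_isNilpotent _
  have hRodd : Odd (Nat.card R) := odd_card_fitting_quot
  have hcent : Subgroup.centralizer (R : Set (H ⧸ Y)) ≤ R := Cfsg.Agent.S0044.result
  -- `R ≤ Xb`
  have hXbidx : ∃ j : ℕ, Xb.index = 2 ^ j := by
    obtain ⟨k, hk⟩ := hXidx
    have h1 : Xb.index ∣ X.index := Subgroup.index_map_dvd X (QuotientGroup.mk'_surjective Y)
    rw [hk] at h1
    obtain ⟨j, -, hj⟩ := (Nat.dvd_prime_pow Nat.prime_two).mp h1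
    exact ⟨j, hj⟩
  have hRX : R ≤ Xb := by
    apply le_of_normal_coprime_index
    obtain ⟨j, hj⟩ := hXbidx
    rw [hj]
    exact Nat.Coprime.pow_right _ (Nat.coprime_two_right.mpr hRodd)
  -- `Xb` is a Z-group
  have hXZ : IsZGroup X := h.isZGroup_of_odd X hXodd
  have hXbZ : IsZGroup Xb :=
    IsZGroup.of_surjective (f := (QuotientGroup.mk' Y).subgroupMap X)
      ((QuotientGroup.mk' Y).subgroupMap_surjective X)
  have hRZ : IsZGroup R :=
    IsZGroup.of_injective (f := Subgroup.inclusion hRX) (Subgroup.inclusion_injective hRX)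
  have hRcyc : IsCyclic R := inferInstance
  refine ⟨hRcyc, hRX, ?_, hcent⟩
  -- commutators centralize `R`
  rw [commutator_def, Subgroup.commutator_le]
  intro a _ b _
  apply hcent
  rw [Subgroup.mem_centralizer_iff]
  intro r hr
  have h1 : MulAut.conjNormal (H := R) ⁅a, b⁆ = 1 := by
    rw [map_commutatorElement, commutatorElement_eq_one_iff_mul_comm]
    exact mulAut_comm_of_isCyclic _ _
  have h2 := congrArg (fun σ : MulAut R => ((σ ⟨r, hr⟩ : R) : H ⧸ Y)) h1
  simp only [MulAut.conjNormal_apply, MulAut.one_apply] at h2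
  generalize ⁅a, b⁆ = c at h2 ⊢
  calc r * c = (c * r * c⁻¹) * c := by rw [h2]
    _ = c * r := by group


/-- lifting lemma: in `H ⧸ O₂(H)` no involution commutes with an element of odd prime order -/
lemma Hyp.no_comm_lift (h : Hyp H) (v₀ z₀ : H)
    (hv1 : QuotientGroup.mk' (Cfsg.pCore 2 H) v₀ ≠ 1)
    (hv2 : (QuotientGroup.mk' (Cfsg.pCore 2 H) v₀) ^ 2 = 1)
    (r : ℕ) (hr : r.Prime) (hr2 : r ≠ 2)
    (hz : orderOf (QuotientGroup.mk' (Cfsg.pCore 2 H) z₀) = r)
    (hc : QuotientGroup.mk' (Cfsg.pCore 2 H) v₀ * QuotientGroup.mk' (Cfsg.pCore 2 H) z₀ =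
      QuotientGroup.mk' (Cfsg.pCore 2 H) z₀ * QuotientGroup.mk' (Cfsg.pCore 2 H) v₀) : False := by
  have : Fact (Nat.Prime 2) := ⟨Nat.prime_two⟩
  have : Fact r.Prime := ⟨hr⟩
  set Y := Cfsg.pCore 2 H with hY
  have hY2 : IsPGroup 2 Y := pCore_isPGroup
  obtain ⟨k, hk⟩ := hY2.exists_card_eq
  have hYpow : ∀ y ∈ Y, y ^ 2 ^ k = 1 := by
    intro y hy
    have := pow_card_eq_one' (G := Y) (x := ⟨y, hy⟩)
    rw [hk] at this
    exact congrArg Subtype.val this
  have hrcop : r.Coprime (2 ^ k) :=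
    Nat.Coprime.pow_right _ ((Nat.coprime_primes hr Nat.prime_two).mpr hr2)
  -- the element `z₁ = z₀ ^ (2^k)` has order `r`
  set z₁ := z₀ ^ 2 ^ k with hz₁
  have hz₁r : z₁ ^ r = 1 := by
    have h1 : z₀ ^ r ∈ Y := by
      rw [← QuotientGroup.eq_one_iff, ← QuotientGroup.mk'_apply, map_pow, ← hz, pow_orderOf_eq_one]
    rw [hz₁, ← pow_mul, mul_comm, pow_mul]
    exact hYpow _ h1
  have hmkz₁ : QuotientGroup.mk' Y z₁ ≠ 1 := by
    rw [hz₁, map_pow]
    intro h1
    have h2 := orderOf_dvd_of_pow_eq_one h1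
    rw [hz] at h2
    have := Nat.Coprime.eq_one_of_dvd hrcop h2
    exact hr.one_lt.ne' this
  have hz₁1 : z₁ ≠ 1 := by
    intro h1
    apply hmkz₁
    rw [h1, map_one]
  have hordz₁ : orderOf z₁ = r := by
    have h1 : orderOf z₁ ∣ r := orderOf_dvd_of_pow_eq_one hz₁r
    rcases (Nat.dvd_prime hr).mp h1 with h2 | h2
    · rw [orderOf_eq_one_iff] at h2
      exact absurd h2 hz₁1
    · exact h2
  have hcz₁ : QuotientGroup.mk' Y v₀ * QuotientGroup.mk' Y z₁ =
      QuotientGroup.mk' Y z₁ * QuotientGroup.mk' Y v₀ := by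
    rw [hz₁, map_pow]
    exact (Commute.pow_right (show Commute _ _ from hc) _).eq
  -- the action of `⟨z₁⟩` on the coset of `v₀`
  let A := Subgroup.zpowers z₁
  have hA : IsPGroup r A := by
    apply IsPGroup.of_card (n := 1)
    rw [Nat.card_zpowers, hordz₁, pow_one]
  have hAcomm : ∀ g ∈ A, QuotientGroup.mk' Y g * QuotientGroup.mk' Y v₀ =
      QuotientGroup.mk' Y v₀ * QuotientGroup.mk' Y g := by
    intro g hg
    obtain ⟨j, rfl⟩ := Subgroup.mem_zpowers_iff.mp hg
    rw [map_zpow]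
    exact ((Commute.zpow_right (show Commute _ _ from hcz₁) j)).eq.symm
  let Ω := {s : H // QuotientGroup.mk' Y s = QuotientGroup.mk' Y v₀}
  let act : MulAction A Ω :=
    { smul := fun g s => ⟨(g : H) * s.1 * (g : H)⁻¹, by
        rw [map_mul, map_mul, s.2, map_inv, hAcomm g g.2, mul_assoc, mul_inv_cancel, mul_one]⟩
      one_smul := fun s => by
        apply Subtype.ext
        show ((1 : A) : H) * s.1 * ((1 : A) : H)⁻¹ = s.1
        simp
      mul_smul := fun g g' s => by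
        apply Subtype.ext
        show ((g * g' : A) : H) * s.1 * ((g * g' : A) : H)⁻¹ =
          (g : H) * ((g' : H) * s.1 * (g' : H)⁻¹) * (g : H)⁻¹
        simp [mul_assoc] }
  have hΩ : Nat.card Ω = 2 ^ k := by
    rw [← hk]
    apply Nat.card_congr
    exact
      { toFun := fun s => ⟨v₀⁻¹ * s.1, by
          rw [← QuotientGroup.eq_one_iff, ← QuotientGroup.mk'_apply, map_mul, s.2, map_inv,
            inv_mul_cancel]⟩
        invFun := fun y => ⟨v₀ * y.1, by
          rw [map_mul, QuotientGroup.mk'_apply, QuotientGroup.mk'_apply,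
            (QuotientGroup.eq_one_iff (N := Y) y.1).mpr y.2, mul_one]⟩
        left_inv := fun s => by apply Subtype.ext; simp
        right_inv := fun y => by apply Subtype.ext; simp }
  have hfix := hA.nonempty_fixed_point_of_prime_not_dvd_card Ω (by
    rw [hΩ]
    intro h1
    have h2 := Nat.Coprime.eq_one_of_dvd hrcop h1
    exact hr.one_lt.ne' h2)
  obtain ⟨s, hs⟩ := hfix
  have hsz : z₁ * s.1 = s.1 * z₁ := by
    have h1 := hs ⟨z₁, Subgroup.mem_zpowers z₁⟩
    have h2 : z₁ * s.1 * z₁⁻¹ = s.1 := congrArg Subtype.val h1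
    calc z₁ * s.1 = (z₁ * s.1 * z₁⁻¹) * z₁ := by group
      _ = s.1 * z₁ := by rw [h2]
  have hs1 : s.1 ≠ 1 := by
    intro h1
    apply hv1
    rw [← s.2, h1, map_one]
  have hs2 : s.1 ^ 2 ∈ Y := by
    rw [← QuotientGroup.eq_one_iff, ← QuotientGroup.mk'_apply, map_pow, s.2]
    exact hv2
  have hsord : ∃ j, orderOf s.1 = 2 ^ j := by
    have h1 : s.1 ^ 2 ^ (k + 1) = 1 := by
      rw [pow_succ, mul_comm, pow_mul]
      exact hYpow _ hs2
    obtain ⟨j, -, hj⟩ := (Nat.dvd_prime_pow Nat.prime_two).mp (orderOf_dvd_of_pow_eq_one h1)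
    exact ⟨j, hj⟩
  have hzodd : Odd (orderOf z₁) := by
    rw [hordz₁]
    exact hr.odd_of_ne_two hr2
  exact hz₁1 (h.eq_one_of_comm s.1 z₁ hsord hs1 hzodd hsz)


omit [Finite H] in
/-- an element of square one acting on a cyclic normal subgroup centralizes or inverts each
element of prime order -/
lemma cent_or_inv {G : Type*} [Group G] (R : Subgroup G) [R.Normal] [IsCyclic R] (z : G)
    (hzR : z ∈ R) (r : ℕ) (hr : r.Prime) (hz : orderOf z = r) (v : G) (hv : v ^ 2 = 1) :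
    v * z * v⁻¹ = z ∨ v * z * v⁻¹ = z⁻¹ := by
  set σ : MulAut R := MulAut.conjNormal v with hσ
  obtain ⟨m, hm⟩ := MonoidHom.map_cyclic (σ : R →* R)
  have hm' : ∀ g : R, σ g = g ^ m := hm
  set z' : R := ⟨z, hzR⟩ with hz'
  have hσσ : σ (σ z') = z' := by
    have : σ * σ = 1 := by
      rw [hσ, ← map_mul, ← pow_two, hv, map_one]
    calc σ (σ z') = (σ * σ) z' := rfl
      _ = z' := by rw [this]; rfl
  have h1 : z' ^ (m * m - 1) = 1 := by
    have : z' ^ (m * m) = z' := by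
      rw [zpow_mul, ← hm', ← hm', hσσ]
    rw [zpow_sub, zpow_one, this, mul_inv_cancel]
  have hordz' : orderOf z' = r := by
    rw [← hz, ← Subgroup.orderOf_coe]
  have h2 : (r : ℤ) ∣ m * m - 1 := by
    rw [← hordz']
    exact orderOf_dvd_iff_zpow_eq_one.mpr h1
  have h3 : (r : ℤ) ∣ (m - 1) * (m + 1) := by
    have : (m - 1) * (m + 1) = m * m - 1 := by ring
    rw [this]; exact h2
  have hrp : Prime (r : ℤ) := Nat.prime_iff_prime_int.mp hr
  have hval : (σ z' : G) = v * z * v⁻¹ := by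
    rw [hσ, MulAut.conjNormal_apply]
  rcases hrp.dvd_or_dvd h3 with h4 | h4
  · left
    have h5 : z' ^ (m - 1) = 1 := by
      rw [← hordz'] at h4
      exact orderOf_dvd_iff_zpow_eq_one.mp h4
    have h6 : z' ^ m = z' := by
      have : z' ^ m = z' ^ (m - 1) * z' := by rw [← zpow_add_one]; congr 1; ring
      rw [this, h5, one_mul]
    rw [← hval, hm', h6]
  · right
    have h5 : z' ^ (m + 1) = 1 := by
      rw [← hordz'] at h4
      exact orderOf_dvd_iff_zpow_eq_one.mp h4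
    have h6 : z' ^ m = z'⁻¹ := by
      rw [zpow_add_one] at h5
      exact eq_inv_of_mul_eq_one_left h5
    rw [← hval, hm', h6]
    rfl


lemma Hyp.no_klein (h : Hyp H) (X : Subgroup H) (hXodd : Odd (Nat.card X))
    (hXidx : ∃ k : ℕ, X.index = 2 ^ k) (a b : H ⧸ Cfsg.pCore 2 H) (ha1 : a ≠ 1) (hb1 : b ≠ 1)
    (ha2 : a ^ 2 = 1) (hb2 : b ^ 2 = 1) (hab : a ≠ b) (hc : a * b = b * a) : False := by
  obtain ⟨hRcyc, hRX, hcomm, hcent⟩ := h.quot_structure X hXodd hXidx
  have hRodd : Odd (Nat.card (Cfsg.fittingSubgroup (H ⧸ Cfsg.pCore 2 H))) := odd_card_fitting_quot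
  set R := Cfsg.fittingSubgroup (H ⧸ Cfsg.pCore 2 H) with hR
  have hRn : R.Normal := fittingSubgroup_normal _
  -- `R` is nontrivial
  have hRne : Nat.card R ≠ 1 := by
    intro h1
    have h2 : R = ⊥ := Subgroup.card_eq_one.mp h1
    apply ha1
    have : a ∈ R := by
      apply hcent
      rw [h2, Subgroup.mem_centralizer_iff]
      intro y hy
      have : y = 1 := by simpa using hy
      rw [this]; simp
    rw [h2, Subgroup.mem_bot] at this
    exact this
  set r := (Nat.card R).minFac with hrdef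
  have hr : r.Prime := Nat.minFac_prime hRne
  have : Fact r.Prime := ⟨hr⟩
  have hrdvd : r ∣ Nat.card R := Nat.minFac_dvd _
  have hr2 : r ≠ 2 := by
    intro h2
    rw [h2] at hrdvd
    exact (Nat.not_even_iff_odd.mpr hRodd) (even_iff_two_dvd.mpr hrdvd)
  obtain ⟨x, hx⟩ := exists_prime_orderOf_dvd_card' r hrdvd
  set z : H ⧸ Cfsg.pCore 2 H := (x : H ⧸ Cfsg.pCore 2 H) with hz
  have hzR : z ∈ R := x.2
  have hzord : orderOf z = r := by rw [hz, Subgroup.orderOf_coe, hx]
  -- find an involution centralizing `z`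
  have key : ∃ v : H ⧸ Cfsg.pCore 2 H, v ≠ 1 ∧ v ^ 2 = 1 ∧ v * z * v⁻¹ = z := by
    rcases cent_or_inv R z hzR r hr hzord a ha2 with h1 | h1
    · exact ⟨a, ha1, ha2, h1⟩
    rcases cent_or_inv R z hzR r hr hzord b hb2 with h2 | h2
    · exact ⟨b, hb1, hb2, h2⟩
    refine ⟨a * b, ?_, ?_, ?_⟩
    · intro h3
      apply hab
      have hbinv : b⁻¹ = b := by
        rw [inv_eq_iff_mul_eq_one, ← pow_two, hb2]
      rw [← hbinv]
      exact eq_inv_of_mul_eq_one_left h3
    · rw [pow_two]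
      calc a * b * (a * b) = a * (b * a) * b := by group
        _ = a * (a * b) * b := by rw [hc]
        _ = a ^ 2 * b ^ 2 := by rw [pow_two, pow_two]; group
        _ = 1 := by rw [ha2, hb2, one_mul]
    · calc a * b * z * (a * b)⁻¹ = a * (b * z * b⁻¹) * a⁻¹ := by group
        _ = a * z⁻¹ * a⁻¹ := by rw [h2]
        _ = (a * z * a⁻¹)⁻¹ := by group
        _ = z := by rw [h1, inv_inv]
  obtain ⟨v, hv1, hv2, hvz⟩ := key
  obtain ⟨v₀, hv₀⟩ := QuotientGroup.mk'_surjective (Cfsg.pCore 2 H) v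
  obtain ⟨z₀, hz₀⟩ := QuotientGroup.mk'_surjective (Cfsg.pCore 2 H) z
  refine h.no_comm_lift v₀ z₀ (by rw [hv₀]; exact hv1) (by rw [hv₀]; exact hv2) r hr hr2
    (by rw [hz₀]; exact hzord) ?_
  rw [hv₀, hz₀]
  calc v * z = (v * z * v⁻¹) * v := by group
    _ = z * v := by rw [hvz]


omit [Finite H] in
lemma isCyclic_of_comm_quaternion {T : Type*} [Group T] (hT : ∀ a b : T, a * b = b * a) (n : ℕ)
    (e : T ≃* QuaternionGroup (2 ^ n)) : IsCyclic T := by
  have h1 : QuaternionGroup.a (1 : ZMod (2 * 2 ^ n)) * QuaternionGroup.xa 0 =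
      QuaternionGroup.xa 0 * QuaternionGroup.a 1 := by
    have := hT (e.symm (QuaternionGroup.a 1)) (e.symm (QuaternionGroup.xa 0))
    rw [← map_mul, ← map_mul] at this
    exact e.symm.injective this
  rw [QuaternionGroup.a_mul_xa, QuaternionGroup.xa_mul_a, QuaternionGroup.xa.injEq] at h1
  have h2 : ((2 : ℕ) : ZMod (2 * 2 ^ n)) = 0 := by
    have : (0 : ZMod (2 * 2 ^ n)) - 1 + 1 = 0 + 1 + 1 := by rw [h1]
    push_cast
    linear_combination -this
  rw [ZMod.natCast_eq_zero_iff] at h2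
  have h3 : 2 ^ n = 1 := by
    have : 2 * 2 ^ n ≤ 2 := Nat.le_of_dvd (by norm_num) h2
    have : 0 < 2 ^ n := by positivity
    omega
  have h4 : n = 0 := by
    by_contra hn
    have : 2 ≤ 2 ^ n := by
      calc 2 = 2 ^ 1 := by norm_num
        _ ≤ 2 ^ n := Nat.pow_le_pow_right (by norm_num) (Nat.one_le_iff_ne_zero.mpr hn)
    omega
  subst h4
  have : IsCyclic (QuaternionGroup (2 ^ 0)) := by
    rw [pow_zero]; exact QuaternionGroup.quaternionGroup_one_isCyclic
  exact isCyclic_of_surjective e.symm e.symm.surjective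

lemma Hyp.sylow_two_quot_cyclic (h : Hyp H) (X : Subgroup H) (hXodd : Odd (Nat.card X))
    (hXidx : ∃ k : ℕ, X.index = 2 ^ k) (T : Sylow 2 (H ⧸ Cfsg.pCore 2 H)) :
    IsCyclic ↥(T : Subgroup (H ⧸ Cfsg.pCore 2 H)) := by
  have : Fact (Nat.Prime 2) := ⟨Nat.prime_two⟩
  obtain ⟨hRcyc, hRX, hcomm, hcent⟩ := h.quot_structure X hXodd hXidx
  have hRodd : Odd (Nat.card (Cfsg.fittingSubgroup (H ⧸ Cfsg.pCore 2 H))) := odd_card_fitting_quot
  set R := Cfsg.fittingSubgroup (H ⧸ Cfsg.pCore 2 H) with hR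
  have hTR : (T : Subgroup (H ⧸ Cfsg.pCore 2 H)) ⊓ R = ⊥ := by
    rw [← disjoint_iff]
    apply Subgroup.disjoint_of_coprime_natCard
    obtain ⟨k, hk⟩ := T.2.exists_card_eq
    rw [hk]
    exact Nat.Coprime.pow_left _ (Nat.coprime_two_left.mpr hRodd)
  have hTcomm : ∀ a b : (T : Subgroup (H ⧸ Cfsg.pCore 2 H)), a * b = b * a := by
    intro a b
    have h1 : ⁅(a : H ⧸ Cfsg.pCore 2 H), (b : H ⧸ Cfsg.pCore 2 H)⁆ ∈
        (T : Subgroup (H ⧸ Cfsg.pCore 2 H)) ⊓ R := by
      refine ⟨?_, hcomm (Subgroup.commutator_mem_commutator (Subgroup.mem_top _) (Subgroup.mem_top _))⟩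
      rw [commutatorElement_def]
      exact (T : Subgroup (H ⧸ Cfsg.pCore 2 H)).mul_mem
        ((T : Subgroup (H ⧸ Cfsg.pCore 2 H)).mul_mem
          ((T : Subgroup (H ⧸ Cfsg.pCore 2 H)).mul_mem a.2 b.2)
          ((T : Subgroup (H ⧸ Cfsg.pCore 2 H)).inv_mem a.2))
        ((T : Subgroup (H ⧸ Cfsg.pCore 2 H)).inv_mem b.2)
    rw [hTR, Subgroup.mem_bot, commutatorElement_eq_one_iff_mul_comm] at h1
    exact Subtype.ext h1
  have huniq : ∀ A B : Subgroup (T : Subgroup (H ⧸ Cfsg.pCore 2 H)),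
      Nat.card A = 2 → Nat.card B = 2 → A = B := by
    intro A B hA hB
    by_contra hAB
    -- generators
    have gen : ∀ C : Subgroup (T : Subgroup (H ⧸ Cfsg.pCore 2 H)), Nat.card C = 2 →
        ∃ c : (T : Subgroup (H ⧸ Cfsg.pCore 2 H)), c ≠ 1 ∧ c ^ 2 = 1 ∧ C = Subgroup.zpowers c := by
      intro C hC
      have hnt : Nontrivial C := by
        rw [← Finite.one_lt_card_iff_nontrivial, hC]; norm_num
      obtain ⟨c, hc⟩ := exists_ne (1 : C)
      have hc2 : c ^ 2 = 1 := by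
        have := pow_card_eq_one' (G := C) (x := c)
        rwa [hC] at this
      refine ⟨c, fun e => hc (Subtype.ext e), congrArg Subtype.val hc2, ?_⟩
      symm
      apply Subgroup.eq_of_le_of_card_ge
      · rw [Subgroup.zpowers_le]; exact c.2
      · rw [hC, Nat.card_zpowers]
        have h1 : orderOf (c : (T : Subgroup (H ⧸ Cfsg.pCore 2 H))) ∣ 2 :=
          orderOf_dvd_of_pow_eq_one (congrArg Subtype.val hc2)
        rcases (Nat.dvd_prime Nat.prime_two).mp h1 with h2 | h2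
        · rw [orderOf_eq_one_iff] at h2
          exact absurd (Subtype.ext h2) hc
        · rw [h2]
    obtain ⟨a, ha1, ha2, hAa⟩ := gen A hA
    obtain ⟨b, hb1, hb2, hBb⟩ := gen B hB
    have hab : a ≠ b := by
      intro e
      apply hAB
      rw [hAa, hBb, e]
    refine h.no_klein X hXodd hXidx (a : H ⧸ Cfsg.pCore 2 H) b ?_ ?_ ?_ ?_ ?_ ?_
    · exact fun e => ha1 (Subtype.ext e)
    · exact fun e => hb1 (Subtype.ext e)
    · exact congrArg Subtype.val ha2
    · exact congrArg Subtype.val hb2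
    · exact fun e => hab (Subtype.ext e)
    · exact congrArg Subtype.val (hTcomm a b)
  rcases Cfsg.Agent.S0016.result 2 T.2 huniq with hc | ⟨-, n, ⟨e⟩⟩
  · exact hc
  · exact isCyclic_of_comm_quaternion hTcomm n e


lemma Hyp.sup_normal (h : Hyp H) (X : Subgroup H) (hXodd : Odd (Nat.card X))
    (hXidx : ∃ k : ℕ, X.index = 2 ^ k) : (X ⊔ Cfsg.pCore 2 H).Normal := by
  obtain ⟨-, hRX, hcomm, -⟩ := h.quot_structure X hXodd hXidx
  have hXbn : (X.map (QuotientGroup.mk' (Cfsg.pCore 2 H))).Normal := by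
    constructor
    intro x hx g
    have e : g * x * g⁻¹ = ⁅g, x⁆ * x := by rw [commutatorElement_def]; group
    rw [e]
    exact Subgroup.mul_mem _
      (hRX (hcomm (Subgroup.commutator_mem_commutator (Subgroup.mem_top g) (Subgroup.mem_top x)))) hx
  have e : X ⊔ Cfsg.pCore 2 H =
      (X.map (QuotientGroup.mk' (Cfsg.pCore 2 H))).comap (QuotientGroup.mk' (Cfsg.pCore 2 H)) := by
    rw [Subgroup.comap_map_eq, QuotientGroup.ker_mk']
  rw [e]
  exact hXbn.comap _

lemma Hyp.quot_cyclic (h : Hyp H) (X : Subgroup H) (hXodd : Odd (Nat.card X))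
    (hXidx : ∃ k : ℕ, X.index = 2 ^ k) (hN : (X ⊔ Cfsg.pCore 2 H).Normal) :
    IsCyclic (H ⧸ (X ⊔ Cfsg.pCore 2 H)) ∧ IsPGroup 2 (H ⧸ (X ⊔ Cfsg.pCore 2 H)) := by
  have : Fact (Nat.Prime 2) := ⟨Nat.prime_two⟩
  set K := X ⊔ Cfsg.pCore 2 H with hK
  have hcard : ∃ j : ℕ, Nat.card (H ⧸ K) = 2 ^ j := by
    obtain ⟨k, hk⟩ := hXidx
    have h1 : K.index ∣ X.index := Subgroup.index_dvd_of_le le_sup_left
    rw [hk] at h1
    obtain ⟨j, -, hj⟩ := (Nat.dvd_prime_pow Nat.prime_two).mp h1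
    exact ⟨j, by rw [← Subgroup.index_eq_card, hj]⟩
  obtain ⟨j, hj⟩ := hcard
  refine ⟨?_, IsPGroup.of_card hj⟩
  let π : H ⧸ Cfsg.pCore 2 H →* H ⧸ K :=
    QuotientGroup.map (Cfsg.pCore 2 H) K (MonoidHom.id H) (by
      intro y hy
      exact (le_sup_right : Cfsg.pCore 2 H ≤ K) hy)
  have hπ : Function.Surjective π := by
    intro q
    obtain ⟨g, rfl⟩ := QuotientGroup.mk'_surjective K q
    exact ⟨QuotientGroup.mk' _ g, rfl⟩
  let T : Sylow 2 (H ⧸ Cfsg.pCore 2 H) := default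
  have hTc : IsCyclic ↥(T : Subgroup (H ⧸ Cfsg.pCore 2 H)) :=
    h.sylow_two_quot_cyclic X hXodd hXidx T
  have hI : (T : Subgroup (H ⧸ Cfsg.pCore 2 H)).map π = ⊤ := by
    rw [← Subgroup.index_eq_one]
    have h1 : ((T : Subgroup (H ⧸ Cfsg.pCore 2 H)).map π).index ∣
        (T : Subgroup (H ⧸ Cfsg.pCore 2 H)).index := Subgroup.index_map_dvd _ hπ
    have h2 : ((T : Subgroup (H ⧸ Cfsg.pCore 2 H)).map π).index ∣ 2 ^ j := by
      rw [← hj]; exact Subgroup.index_dvd_card _
    have h3 : ¬ 2 ∣ (T : Subgroup (H ⧸ Cfsg.pCore 2 H)).index := T.not_dvd_index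
    obtain ⟨i, -, hi⟩ := (Nat.dvd_prime_pow Nat.prime_two).mp h2
    rcases Nat.eq_zero_or_pos i with rfl | hi0
    · simpa using hi
    · exfalso
      apply h3
      refine dvd_trans ?_ h1
      rw [hi]
      exact dvd_pow_self 2 hi0.ne'
  have hsurj : Function.Surjective (π.comp (T : Subgroup (H ⧸ Cfsg.pCore 2 H)).subtype) := by
    intro q
    have : q ∈ (T : Subgroup (H ⧸ Cfsg.pCore 2 H)).map π := by rw [hI]; exact Subgroup.mem_top q
    obtain ⟨t, ht, rfl⟩ := this
    exact ⟨⟨t, ht⟩, rfl⟩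
  exact isCyclic_of_surjective _ hsurj

end quotient

/-- Let H be a finite solvable group with no nontrivial normal subgroup of odd order in which the centralizer of every involution has a normal 2-complement. Let X be a Hall 2'-subgroup of H (odd order, index a power of 2) and Y = O₂(H). Then no non-identity element of X commutes with a non-identity element of Y (so for X ≠ 1 the group XY is a Frobenius group with kernel Y), every Sylow subgroup of X is cyclic, XY is normal in H, and H/XY is a cyclic 2-group. -/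
theorem result {H : Type*} [Group H] [Finite H] (hsol : Group.IsSolvable H)
    (hO : Cfsg.oddCore H = ⊥)
    (hI : ∀ t : H, orderOf t = 2 → Cfsg.HasNormalPComplement 2 ↥(Subgroup.centralizer ({t} : Set H)))
    (X : Subgroup H) (hXodd : Odd (Nat.card X)) (hXidx : ∃ k : ℕ, X.index = 2 ^ k) :
    (∀ x ∈ X, x ≠ 1 → ∀ y ∈ Cfsg.pCore 2 H, y ≠ 1 → x * y ≠ y * x) ∧
      (∀ (p : ℕ) [Fact p.Prime] (P : Sylow p ↥X), IsCyclic ↥(P : Subgroup ↥X)) ∧
      (X ⊔ Cfsg.pCore 2 H).Normal ∧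
      ∀ hN : (X ⊔ Cfsg.pCore 2 H).Normal, IsCyclic (H ⧸ (X ⊔ Cfsg.pCore 2 H)) ∧ IsPGroup 2 (H ⧸ (X ⊔ Cfsg.pCore 2 H)) := by
  have h : Hyp H := ⟨hsol, hO, hI⟩
  refine ⟨?_, ?_, h.sup_normal X hXodd hXidx, fun hN => h.quot_cyclic X hXodd hXidx hN⟩
  · intro x hx hx1 y hy hy1 hc
    apply hy1
    refine h.fpf x y ?_ hx1 hy hc
    have h1 : orderOf x ∣ Nat.card X := by
      have := orderOf_dvd_natCard (⟨x, hx⟩ : X)
      rwa [Subgroup.orderOf_mk] at this
    exact hXodd.of_dvd_nat h1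
  · intro p _ P
    exact h.sylow_cyclic_of_odd X hXodd p P

end Cfsg.Agent.S3215
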