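import Cfsg.Statements.S2879
import Mathlib
import Cfsg.Agent.S1896
import Cfsg.Agent.S3215
import Cfsg.Agent.S4208
import Cfsg.Agent.Lib.Helper73.QuatAction
import Cfsg.Agent.Lib.Helper47.Basic
import Cfsg.Agent.Lib.Helper73.QuatAux
import Cfsg.Agent.S0014

set_option autoImplicit false
open Cfsg

namespace Cfsg.Agent.S2879

open Cfsg.Agent.Helper73

/-- a group embedding in a metacyclic group is metacyclic -/
theorem isMetacyclic_of_injective {Q R : Type*} [Group Q] [Group R] (f : Q →* R)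
    (hf : Function.Injective f) (hR : Cfsg.IsMetacyclic R) : Cfsg.IsMetacyclic Q := by
  obtain ⟨N, hN, hNc, hRNc⟩ := hR
  set M := N.comap f with hM
  have hMn : M.Normal := hN.comap f
  have hMc : IsCyclic M := by
    let φ : M →* N := f.subgroupComap N
    apply isCyclic_of_injective φ
    intro a b h
    apply Subtype.ext
    apply hf
    exact congrArg Subtype.val h
  have hQMc : IsCyclic (Q ⧸ M) := by
    let ψ : Q ⧸ M →* R ⧸ N := QuotientGroup.map M N f le_rfl
    apply isCyclic_of_injective ψ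
    rw [injective_iff_map_eq_one]
    intro a ha
    induction a using QuotientGroup.induction_on with | _ x => ?_
    have ha' : ((f x : R) : R ⧸ N) = 1 := ha
    rw [QuotientGroup.eq_one_iff] at ha'
    exact (QuotientGroup.eq_one_iff x).2 ha'
  exact ⟨M, hMn, hMc, hQMc⟩

/-- a group with a cyclic subgroup of index two is metacyclic -/
theorem isMetacyclic_of_index_two {T : Type*} [Group T] (x : T)
    (hx : (Subgroup.zpowers x).index = 2) : Cfsg.IsMetacyclic T := by
  have hf2 : Fact (Nat.Prime 2) := ⟨Nat.prime_two⟩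
  have hn : (Subgroup.zpowers x).Normal := Subgroup.normal_of_index_eq_two hx
  refine ⟨Subgroup.zpowers x, hn, inferInstance, ?_⟩
  apply isCyclic_of_prime_card (p := 2)
  rw [← Subgroup.index_eq_card]; exact hx

/-- subgroups of a group with a cyclic subgroup of index two contain a big cyclic subgroup -/
theorem exists_big_cyclic {T : Type*} [Group T] [Finite T] (x : T)
    (hx : (Subgroup.zpowers x).index = 2) (Q : Subgroup T) :
    ∃ y ∈ Q, Nat.card Q ≤ 2 * orderOf y := by
  have hn : (Subgroup.zpowers x).Normal := Subgroup.normal_of_index_eq_two hx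
  set A := Subgroup.zpowers x with hA
  have hcyc : IsCyclic ↥(Q ⊓ A) := Subgroup.isCyclic_of_le (inf_le_right : Q ⊓ A ≤ A)
  obtain ⟨y, hy⟩ := hcyc.exists_generator
  refine ⟨(y : T), (inf_le_left : Q ⊓ A ≤ Q) y.2, ?_⟩
  have h1 : orderOf (y : T) = Nat.card ↥(Q ⊓ A) := by
    rw [Subgroup.orderOf_coe]
    exact orderOf_eq_card_of_forall_mem_zpowers hy
  have h2 : Nat.card Q = Nat.card ↥(Q ⊓ A) * (Q ⊓ A).relIndex Q := by
    rw [← Subgroup.relIndex_bot_left, ← Subgroup.relIndex_bot_left (Q ⊓ A)]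
    exact (Subgroup.relIndex_mul_relIndex _ _ _ bot_le inf_le_left).symm
  have h3 : (Q ⊓ A).relIndex Q ∣ 2 := by
    rw [Subgroup.inf_relIndex_left, ← hx]
    exact Subgroup.relIndex_dvd_index_of_normal A Q
  have h4 := Nat.le_of_dvd (by norm_num) h3
  rw [h2, h1, mul_comm]
  exact Nat.mul_le_mul_right _ h4

/-- dihedral and quasi-dihedral groups have a cyclic subgroup of index two -/
theorem exists_cyclic_index_two {T : Type*} [Group T] [Finite T]
    (hT : (∃ n : ℕ, 4 ≤ n ∧ Nonempty (T ≃* DihedralGroup n)) ∨ Cfsg.IsQuasiDihedral T) :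
    (∃ x : T, (Subgroup.zpowers x).index = 2) ∧ 8 ≤ Nat.card T := by
  rcases hT with ⟨n, hn, ⟨e⟩⟩ | ⟨n, hn, hcard, x, y, hx, hy, hxy⟩
  · have hcard : Nat.card T = 2 * n := by
      rw [Nat.card_congr e.toEquiv, DihedralGroup.nat_card]
    refine ⟨⟨e.symm (DihedralGroup.r 1), ?_⟩, by omega⟩
    have ho : orderOf (e.symm (DihedralGroup.r 1)) = n := by
      rw [MulEquiv.orderOf_eq, DihedralGroup.orderOf_r_one]
    have h1 := (Subgroup.zpowers (e.symm (DihedralGroup.r 1))).card_mul_index
    rw [Nat.card_zpowers, ho, hcard] at h1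
    have hn0 : 0 < n := by omega
    have h2 : n * (Subgroup.zpowers (e.symm (DihedralGroup.r 1))).index = n * 2 := by
      rw [h1]; ring
    exact Nat.eq_of_mul_eq_mul_left hn0 h2
  · refine ⟨⟨x, ?_⟩, ?_⟩
    · have h1 := (Subgroup.zpowers x).card_mul_index
      rw [Nat.card_zpowers, hx, hcard, pow_succ] at h1
      exact Nat.eq_of_mul_eq_mul_left (by positivity) h1
    · rw [hcard]
      calc 8 = 2 ^ 3 := by norm_num
        _ ≤ 2 ^ (n + 1) := Nat.pow_le_pow_right (by norm_num) (by omega)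

/-- the Frattini subgroup of the quaternion group of order `8` has index `4` -/
theorem frattini_index_quat {X : Type*} [Group X] [Finite X] (e : X ≃* QuaternionGroup 2) :
    (frattini X).index = 4 := by
  classical
  have hf2 : Fact (Nat.Prime 2) := ⟨Nat.prime_two⟩
  have hcard : Nat.card X = 8 := by
    rw [Nat.card_congr e.toEquiv, Nat.card_eq_fintype_card, QuaternionGroup.card]
  have hX : IsPGroup 2 X := IsPGroup.of_card (n := 3) (by rw [hcard]; norm_num)
  obtain ⟨x, y, hxy⟩ := Cfsg.Agent.Helper73.QuatAux.quat_two_gen 1 e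
  obtain ⟨d, hd2, hd⟩ := frattini_index_le_two hX x y hxy
  have hd2' : 2 ≤ d := by
    by_contra hlt
    push Not at hlt
    obtain ⟨T, hTS, hTc, hTgen⟩ := (Cfsg.Agent.S0014.result 2 d hX hd).1 ({x, y} : Finset X)
      (by rw [Finset.coe_pair]; exact hxy)
    have hcyc : IsCyclic X := by
      have hT1 : T.card ≤ 1 := by omega
      obtain ⟨t, hT⟩ := Finset.card_le_one_iff_subset_singleton.1 hT1
      have h1 : Subgroup.closure ({t} : Set X) = ⊤ := by
        rw [eq_top_iff, ← hTgen]
        apply Subgroup.closure_mono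
        intro w hw
        have := hT hw
        simpa using this
      rw [← Subgroup.zpowers_eq_closure] at h1
      exact isCyclic_iff_exists_zpowers_eq_top.2 ⟨t, h1⟩
    have h1 : e.symm (QuaternionGroup.a 1) * e.symm (QuaternionGroup.xa 0) =
        e.symm (QuaternionGroup.xa 0) * e.symm (QuaternionGroup.a 1) := mul_comm' _ _
    rw [← map_mul, ← map_mul] at h1
    have h2 := e.symm.injective h1
    revert h2
    decide
  have hd' : d = 2 := le_antisymm hd2 hd2'
  rw [hd, hd']
  norm_num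

/-- the four-group case: an odd order element normalizing a subgroup of order `2` of a normal
subgroup of order `4` centralizes the latter -/
theorem v4_case {G : Type*} [Group G] [Finite G] (Q Z : Subgroup G) [hQn : Q.Normal]
    [hZn : Z.Normal] (hQ4 : Nat.card Q = 4) (hZQ : Z ≤ Q) (hZ1 : Z ≠ ⊥) (hZQne : Z ≠ Q)
    (g : G) (r : ℕ) (hr : Odd r) (hgr : g ^ r = 1) : g ∈ Subgroup.centralizer (Q : Set G) := by
  classical
  have hZ2 : Nat.card Z = 2 := by
    have h1 : Nat.card Z ∣ 4 := hQ4 ▸ Subgroup.card_dvd_of_le hZQ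
    have h2 : Nat.card Z ≠ 1 := fun h => hZ1 (Subgroup.card_eq_one.1 h)
    have h3 : Nat.card Z ≠ 4 := by
      intro h
      apply hZQne
      exact Subgroup.eq_of_le_of_card_ge hZQ (by rw [hQ4, h])
    have h4 : Nat.card Z ≤ 4 := Nat.le_of_dvd (by norm_num) h1
    have h5 : 0 < Nat.card Z := Nat.card_pos
    interval_cases hc : Nat.card Z <;> omega
  set Z' := Z.subgroupOf Q with hZ'
  have hZ'n : Z'.Normal := hZn.subgroupOf Q
  have hZ'card : Nat.card Z' = 2 := by
    rw [hZ', Nat.card_congr (Subgroup.subgroupOfEquivOfLe hZQ).toEquiv, hZ2]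
  have hZ'idx : Z'.index = 2 := by
    have h1 := Z'.card_mul_index
    rw [hZ'card, hQ4] at h1
    omega
  set β : MulAut Q := MulAut.conjNormal g with hβ
  have hβapp : ∀ q : Q, ((β q : Q) : G) = g * q * g⁻¹ := fun q => MulAut.conjNormal_apply g q
  have hβZ : ∀ q : Q, β q ∈ Z' ↔ q ∈ Z' := by
    intro q
    rw [hZ', Subgroup.mem_subgroupOf, Subgroup.mem_subgroupOf, hβapp]
    constructor
    · intro h
      have h1 := hZn.conj_mem _ h g⁻¹
      have h2 : g⁻¹ * (g * ↑q * g⁻¹) * g⁻¹⁻¹ = q := by group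
      rwa [h2] at h1
    · intro h
      exact hZn.conj_mem _ h g
  obtain ⟨z', hz'1, hz'u⟩ := (Nat.card_eq_two_iff' (1 : Z')).1 hZ'card
  -- `β` fixes `Z'` pointwise
  have hβfix : ∀ c : Q, c ∈ Z' → β c = c := by
    intro c hc
    by_cases hc1 : c = 1
    · rw [hc1, map_one]
    · have h1 : (⟨c, hc⟩ : Z') = z' := hz'u _ (fun h => hc1 (congrArg Subtype.val h))
      have h2 : (⟨β c, (hβZ c).2 hc⟩ : Z') = z' := hz'u _ (fun h => by
        apply hc1
        have h3 : β c = 1 := congrArg Subtype.val h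
        exact β.injective (by rw [h3, map_one]))
      have h3 := h2.trans h1.symm
      exact congrArg Subtype.val h3
  have hsq : ∀ c : Q, c ∈ Z' → c * c = 1 := by
    intro c hc
    have h1 : (⟨c, hc⟩ : Z') ^ 2 = 1 := by
      rw [← hZ'card]; exact pow_card_eq_one'
    have h2 := congrArg Subtype.val h1
    simpa [pow_two] using h2
  have hβ2 : β ^ 2 = 1 := by
    ext u
    have hc : β u * u⁻¹ ∈ Z' := by
      rw [Subgroup.mul_mem_iff_of_index_two hZ'idx, hβZ, inv_mem_iff]
    have h1 : β u = (β u * u⁻¹) * u := by group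
    have h2 : (β ^ 2) u = β (β u) := rfl
    rw [h2]
    nth_rewrite 1 [h1]
    rw [map_mul, hβfix _ hc]
    have h3 : β u * u⁻¹ * β u = (β u * u⁻¹) * (β u * u⁻¹) * u := by group
    rw [h3, hsq _ hc, one_mul]
    rfl
  have hβr : β ^ r = 1 := by rw [hβ, ← map_pow, hgr, map_one]
  have hβ1 : β = 1 := by
    obtain ⟨k, hk⟩ := hr
    have h1 : β ^ r = β := by
      rw [hk, pow_succ, pow_mul, hβ2, one_pow, one_mul]
    rw [← h1, hβr]
  rw [Subgroup.mem_centralizer_iff]
  intro q hq
  have h2 := hβapp ⟨q, hq⟩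
  rw [hβ1] at h2
  simp only [MulAut.one_apply] at h2
  calc q * g = (g * q * g⁻¹) * g := by rw [← h2]
    _ = g * q := by group

/-- the quaternion case -/
theorem q8_case {G : Type*} [Group G] [Finite G] (Q : Subgroup G) [hQn : Q.Normal]
    (e : Q ≃* QuaternionGroup 2) (hCQ : Subgroup.centralizer (Q : Set G) ≤ Q)
    (g : G) (r : ℕ) (hr : r.Prime) (hr2 : r ≠ 2) (hgr : orderOf g = r) :
    ∃ U : Subgroup G, U.Normal ∧
      Nonempty (↥U ≃* Matrix.SpecialLinearGroup (Fin 2) (ZMod 3)) := by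
  classical
  have hf2 : Fact (Nat.Prime 2) := ⟨Nat.prime_two⟩
  have hcardQ : Nat.card Q = 8 := by
    rw [Nat.card_congr e.toEquiv, Nat.card_eq_fintype_card, QuaternionGroup.card]
  have hQ2 : IsPGroup 2 Q := IsPGroup.of_card (n := 3) (by rw [hcardQ]; norm_num)
  set ρ : G →* MulAut Q := MulAut.conjNormal with hρ
  have hρapp : ∀ (h : G) (q : Q), ((ρ h q : Q) : G) = h * q * h⁻¹ :=
    fun h q => MulAut.conjNormal_apply h q
  have hker : ∀ h : G, ρ h = 1 → h ∈ Subgroup.centralizer (Q : Set G) := by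
    intro h h1
    rw [Subgroup.mem_centralizer_iff]
    intro q hq
    have h2 := hρapp h ⟨q, hq⟩
    rw [h1] at h2
    simp only [MulAut.one_apply] at h2
    calc q * h = (h * q * h⁻¹) * h := by rw [← h2]
      _ = h * q := by group
  have hgC : g ∉ Subgroup.centralizer (Q : Set G) := by
    intro h
    have hgQ := hCQ h
    obtain ⟨k, hk⟩ := (IsPGroup.iff_orderOf.1 hQ2) ⟨g, hgQ⟩
    rw [Subgroup.orderOf_mk, hgr] at hk
    have h1 : r ∣ 2 ^ k := hk ▸ dvd_rfl
    exact hr2 ((Nat.prime_dvd_prime_iff_eq hr Nat.prime_two).1 (hr.dvd_of_dvd_pow h1))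
  have hAut : Nat.card (MulAut Q) ∣ 24 := by
    have h := Cfsg.Agent.S4208.result (P := Q) (p := 2) (n := 3) (r := 2)
      (by rw [hcardQ]; norm_num) (by rw [frattini_index_quat e]; norm_num)
    have h24 : 2 ^ (2 * (3 - 2)) * ∏ i ∈ Finset.range 2, (2 ^ 2 - 2 ^ i) = 24 := by
      rw [Finset.prod_range_succ, Finset.prod_range_one]; norm_num
    rwa [h24] at h
  have hρg1 : ρ g ≠ 1 := fun h => hgC (hker g h)
  have hρgr : (ρ g) ^ r = 1 := by rw [← map_pow, ← hgr, pow_orderOf_eq_one, map_one]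
  have hrf : Fact r.Prime := ⟨hr⟩
  have hρg : orderOf (ρ g) = r := orderOf_eq_prime hρgr hρg1
  have hr3 : r = 3 := by
    have h1 : r ∣ 24 := hρg ▸ (orderOf_dvd_natCard (ρ g)).trans hAut
    have h2 : r ∣ 2 ^ 3 * 3 := by norm_num; exact h1
    rcases (Nat.Prime.dvd_mul hr).1 h2 with h | h
    · exact absurd ((Nat.prime_dvd_prime_iff_eq hr Nat.prime_two).1 (hr.dvd_of_dvd_pow h)) hr2
    · exact (Nat.prime_dvd_prime_iff_eq hr Nat.prime_three).1 h
  subst hr3
  -- `|G| ≤ 48`
  have hG48 : Nat.card G ≤ 48 := by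
    have h1 : Nat.card G = Nat.card ρ.ker * ρ.ker.index := (Subgroup.card_mul_index _).symm
    rw [Subgroup.index_ker] at h1
    have h2 : Nat.card ρ.range ≤ 24 :=
      Nat.le_of_dvd (by norm_num) ((Subgroup.card_subgroup_dvd_card _).trans hAut)
    have h3 : Nat.card ρ.ker ≤ 2 := by
      set z₀ : G := ((e.symm (QuaternionGroup.a 2) : Q) : G) with hz₀
      have hsub : (ρ.ker : Set G) ⊆ {1, z₀} := by
        intro h hh
        have hh1 : ρ h = 1 := hh
        have hhQ : h ∈ Q := hCQ (hker h hh1)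
        have hcen : ∀ w : QuaternionGroup 2, w * e ⟨h, hhQ⟩ = e ⟨h, hhQ⟩ * w := by
          intro w
          have h2 := (Subgroup.mem_centralizer_iff.1 (hker h hh1)) (e.symm w : Q) (e.symm w).2
          have h3 : e.symm w * ⟨h, hhQ⟩ = ⟨h, hhQ⟩ * e.symm w := Subtype.ext h2
          have h4 := congrArg e h3
          rwa [map_mul, map_mul, e.apply_symm_apply] at h4
        have hdec : ∀ c : QuaternionGroup 2, (∀ w : QuaternionGroup 2, w * c = c * w) →
            c = 1 ∨ c = QuaternionGroup.a 2 := by decide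
        rcases hdec _ hcen with h5 | h5
        · left
          have h6 : (⟨h, hhQ⟩ : Q) = 1 := e.injective (by rw [h5, map_one])
          exact congrArg Subtype.val h6
        · right
          have h6 : (⟨h, hhQ⟩ : Q) = e.symm (QuaternionGroup.a 2) := by
            rw [← h5, e.symm_apply_apply]
          exact congrArg Subtype.val h6
      have h4 : Nat.card ρ.ker = (ρ.ker : Set G).ncard := (Nat.card_coe_set_eq _)
      rw [h4]
      exact (Set.ncard_le_ncard hsub (Set.toFinite _)).trans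
        ((Set.ncard_insert_le _ _).trans (by rw [Set.ncard_singleton]))
    rw [h1]
    calc Nat.card ρ.ker * Nat.card ρ.range ≤ 2 * 24 := Nat.mul_le_mul h3 h2
      _ = 48 := by norm_num
  set U := Q ⊔ Subgroup.zpowers g with hU
  have hQU : Q ≤ U := le_sup_left
  have hgU : g ∈ U := (le_sup_right : Subgroup.zpowers g ≤ U) (Subgroup.mem_zpowers g)
  have hU24 : 24 ∣ Nat.card U := by
    have h1 : 8 ∣ Nat.card U := hcardQ ▸ Subgroup.card_dvd_of_le hQU
    have h2 : 3 ∣ Nat.card U := by
      have := Subgroup.card_dvd_of_le (le_sup_right : Subgroup.zpowers g ≤ U)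
      rwa [Nat.card_zpowers, hgr] at this
    exact Nat.Coprime.mul_dvd_of_dvd_of_dvd (by norm_num : Nat.Coprime 8 3) h1 h2
  have hUidx : U.index = 1 ∨ U.index = 2 := by
    have h1 := U.card_mul_index
    have h2 : 24 ≤ Nat.card U := Nat.le_of_dvd Nat.card_pos hU24
    have h3 : U.index ≠ 0 := Subgroup.index_ne_zero_of_finite
    have h4 : 24 * U.index ≤ 48 := by
      calc 24 * U.index ≤ Nat.card U * U.index := Nat.mul_le_mul_right _ h2
        _ = Nat.card G := h1
        _ ≤ 48 := hG48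
    omega
  have hUn : U.Normal := by
    rcases hUidx with h | h
    · rw [Subgroup.index_eq_one.1 h]; infer_instance
    · exact Subgroup.normal_of_index_eq_two h
  refine ⟨U, hUn, ?_⟩
  have hNn : (Q.subgroupOf U).Normal := hQn.subgroupOf U
  set c : U := ⟨g, hgU⟩ with hc
  have hc3 : c ^ 3 = 1 := Subtype.ext (by
    rw [hc]; simp only [Subgroup.coe_pow, Subgroup.coe_one]
    rw [← hgr]; exact pow_orderOf_eq_one g)
  have hcN : c ∉ Subgroup.centralizer ((Q.subgroupOf U : Subgroup U) : Set U) := by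
    intro h
    apply hgC
    rw [Subgroup.mem_centralizer_iff] at h ⊢
    intro q hq
    have h1 := h ⟨q, hQU hq⟩ (Subgroup.mem_subgroupOf.2 hq)
    exact congrArg Subtype.val h1
  have hsup : Q.subgroupOf U ⊔ Subgroup.zpowers c = ⊤ := by
    have h1 : (Subgroup.zpowers g).subgroupOf U = Subgroup.zpowers c := by
      ext w
      rw [Subgroup.mem_subgroupOf, Subgroup.mem_zpowers_iff, Subgroup.mem_zpowers_iff]
      constructor
      · rintro ⟨k, hk⟩
        exact ⟨k, Subtype.ext (by rw [← hk]; simp [hc])⟩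
      · rintro ⟨k, hk⟩
        exact ⟨k, by rw [← hk]; simp [hc]⟩
    rw [← h1, ← Subgroup.subgroupOf_sup hQU le_sup_right]
    exact Subgroup.subgroupOf_self U
  exact sl23_recog' (Q.subgroupOf U) ((Subgroup.subgroupOfEquivOfLe hQU).trans e) c hc3 hcN hsup

/-- Let G be a finite solvable group with O(G) = 1 whose Sylow 2-subgroup T is dihedral of order at least 8 or semidihedral, with G ≠ T and Z(T) normal in G. Then G has a normal subgroup isomorphic to SL₂(3). -/
theorem result {G : Type*} [Group G] [Finite G] (hsol : IsSolvable G) (hO : Cfsg.oddCore G = ⊥) (T : Sylow 2 G) (hT : (∃ n : ℕ, 4 ≤ n ∧ Nonempty (↥(T : Subgroup G) ≃* DihedralGroup n)) ∨ Cfsg.IsQuasiDihedral ↥(T : Subgroup G)) (hne : (T : Subgroup G) ≠ ⊤) (hZ : ((T : Subgroup G) ⊓ Subgroup.centralizer ((T : Subgroup G) : Set G)).Normal) : ∃ U : Subgroup G, U.Normal ∧ Nonempty (↥U ≃* Matrix.SpecialLinearGroup (Fin 2) (ZMod 3)) := by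
  classical
  have hf2 : Fact (Nat.Prime 2) := ⟨Nat.prime_two⟩
  set Q := Cfsg.pCore 2 G with hQdef
  have hQn : Q.Normal := Subgroup.sSup_normal _ (fun _ h => h.1)
  have hQ2 : IsPGroup 2 Q := Cfsg.Agent.Helper47.pCore_isPGroup
  have hCQ : Subgroup.centralizer (Q : Set G) ≤ Q :=
    Cfsg.Agent.S3215.centralizer_pCore_le hsol hO
  have hQT : Q ≤ (T : Subgroup G) := Cfsg.Agent.Helper47.pCore_le_sylow T
  obtain ⟨⟨x, hx⟩, hT8⟩ := exists_cyclic_index_two hT
  -- `G` is not a `2`-group
  have hG2 : ¬ IsPGroup 2 G := by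
    intro h
    apply hne
    have h1 : IsPGroup 2 (⊤ : Subgroup G) := h.to_subgroup ⊤
    exact (T.is_maximal' h1 le_top).symm
  obtain ⟨r, hr, hrdvd, hr2⟩ : ∃ r : ℕ, r.Prime ∧ r ∣ Nat.card G ∧ r ≠ 2 := by
    by_contra hcon
    push Not at hcon
    apply hG2
    exact IsPGroup.of_card (Nat.eq_prime_pow_of_unique_prime_dvd Nat.card_pos.ne'
      (fun {s} hs hsd => hcon s hs hsd))
  have hrf : Fact r.Prime := ⟨hr⟩
  obtain ⟨g, hg⟩ := exists_prime_orderOf_dvd_card' r hrdvd
  have hgC : g ∉ Subgroup.centralizer (Q : Set G) := by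
    intro h
    have hgQ := hCQ h
    obtain ⟨k, hk⟩ := (IsPGroup.iff_orderOf.1 hQ2) ⟨g, hgQ⟩
    rw [Subgroup.orderOf_mk, hg] at hk
    have h1 : r ∣ 2 ^ k := hk ▸ dvd_rfl
    exact hr2 ((Nat.prime_dvd_prime_iff_eq hr Nat.prime_two).1 (hr.dvd_of_dvd_pow h1))
  -- `Q` is metacyclic
  have hTm : Cfsg.IsMetacyclic ↥(T : Subgroup G) := isMetacyclic_of_index_two x hx
  have hQm : Cfsg.IsMetacyclic ↥Q :=
    isMetacyclic_of_injective (Subgroup.inclusion hQT) (Subgroup.inclusion_injective hQT) hTm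
  -- `Aut(Q)` is not a `2`-group
  set β : MulAut Q := MulAut.conjNormal g with hβ
  have hβr : β ^ r = 1 := by rw [hβ, ← map_pow, ← hg, pow_orderOf_eq_one, map_one]
  have hβ1 : β ≠ 1 := by
    intro h1
    apply hgC
    rw [Subgroup.mem_centralizer_iff]
    intro q hq
    have h2 : ((β ⟨q, hq⟩ : Q) : G) = g * q * g⁻¹ := MulAut.conjNormal_apply g ⟨q, hq⟩
    rw [h1] at h2
    simp only [MulAut.one_apply] at h2
    calc q * g = (g * q * g⁻¹) * g := by rw [← h2]
      _ = g * q := by group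
  have hA : ¬ IsPGroup 2 (MulAut Q) := by
    intro hp
    obtain ⟨j, hj⟩ := hp β
    apply hβ1
    have h1 : orderOf β ∣ 2 ^ j := orderOf_dvd_of_pow_eq_one hj
    have h2 : orderOf β ∣ r := orderOf_dvd_of_pow_eq_one hβr
    have h3 : Nat.Coprime (2 ^ j) r :=
      Nat.Coprime.pow_left j ((Nat.coprime_primes Nat.prime_two hr).2 (Ne.symm hr2))
    have h4 : orderOf β = 1 := Nat.eq_one_of_dvd_coprimes h3 h1 h2
    exact orderOf_eq_one_iff.1 h4
  rcases Cfsg.Agent.S1896.result hQ2 hQm hA with ⟨⟨e⟩⟩ | ⟨n, ⟨e⟩⟩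
  · exact q8_case Q e hCQ g r hr hr2 hg
  · exfalso
    have hexp : ∀ q : Q, q ^ (2 ^ n) = 1 := by
      intro q
      apply e.injective
      rw [map_pow, map_one]
      have h1 : ∀ w : Multiplicative (ZMod (2 ^ n)), w ^ (2 ^ n) = 1 := by
        intro w
        have h2 : Nat.card (Multiplicative (ZMod (2 ^ n))) = 2 ^ n := by
          rw [Nat.card_congr Multiplicative.toAdd, Nat.card_zmod]
        have h3 : w ^ Nat.card (Multiplicative (ZMod (2 ^ n))) = 1 := pow_card_eq_one'
        rwa [h2] at h3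
      exact Prod.ext (h1 _) (h1 _)
    have hcardQ : Nat.card Q = 2 ^ n * 2 ^ n := by
      rw [Nat.card_congr e.toEquiv, Nat.card_prod, Nat.card_congr Multiplicative.toAdd,
        Nat.card_zmod]
    obtain ⟨y, hyQ', hy⟩ := exists_big_cyclic x hx (Q.subgroupOf (T : Subgroup G))
    have hcard' : Nat.card (Q.subgroupOf (T : Subgroup G)) = Nat.card Q :=
      Nat.card_congr (Subgroup.subgroupOfEquivOfLe hQT).toEquiv
    have hyo : orderOf y ∣ 2 ^ n := by
      have hyQ : (y : G) ∈ Q := Subgroup.mem_subgroupOf.1 hyQ'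
      have h1 := hexp ⟨(y : G), hyQ⟩
      apply orderOf_dvd_of_pow_eq_one
      have h2 := congrArg Subtype.val h1
      exact Subtype.ext (by simpa using h2)
    have hle : 2 ^ n * 2 ^ n ≤ 2 * 2 ^ n := by
      rw [← hcardQ, ← hcard']
      exact hy.trans (Nat.mul_le_mul_left 2 (Nat.le_of_dvd (by positivity) hyo))
    have hn1 : n ≤ 1 := by
      have h1 : 2 ^ n ≤ 2 ^ 1 := by
        have h2 := Nat.le_of_mul_le_mul_right hle (by positivity)
        simpa using h2
      exact (Nat.pow_le_pow_iff_right (by norm_num)).1 h1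
    interval_cases n
    · apply hgC
      rw [Subgroup.mem_centralizer_iff]
      intro q hq
      have h1 : (⟨q, hq⟩ : Q) = 1 := by
        have h2 := hexp ⟨q, hq⟩
        simpa using h2
      have hq1 : q = 1 := congrArg Subtype.val h1
      rw [hq1]; simp
    · set Z := (T : Subgroup G) ⊓ Subgroup.centralizer ((T : Subgroup G) : Set G) with hZdef
      have hZ2 : IsPGroup 2 Z := T.2.to_le inf_le_left
      have hZQ : Z ≤ Q := Cfsg.Agent.Helper47.le_pCore hZ hZ2
      have hQ4 : Nat.card Q = 4 := by rw [hcardQ]; norm_num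
      have hZ1 : Z ≠ ⊥ := by
        have hnt : Nontrivial ↥(T : Subgroup G) :=
          Finite.one_lt_card_iff_nontrivial.1 (by omega)
        have hcn := IsPGroup.center_nontrivial T.2
        obtain ⟨z, hz⟩ := exists_ne (1 : Subgroup.center ↥(T : Subgroup G))
        intro hbot
        apply hz
        have hzZ : ((z : ↥(T : Subgroup G)) : G) ∈ Z := by
          refine Subgroup.mem_inf.2 ⟨(z : ↥(T : Subgroup G)).2, ?_⟩
          rw [Subgroup.mem_centralizer_iff]
          intro t ht
          have h1 := Subgroup.mem_center_iff.1 z.2 ⟨t, ht⟩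
          exact congrArg Subtype.val h1
        rw [hbot, Subgroup.mem_bot] at hzZ
        exact Subtype.ext (Subtype.ext hzZ)
      have hZne : Z ≠ Q := by
        intro h
        have h1 : Q ≤ Subgroup.centralizer ((T : Subgroup G) : Set G) := h ▸ inf_le_right
        have h2 : (T : Subgroup G) ≤ Subgroup.centralizer (Q : Set G) :=
          Subgroup.le_centralizer_iff.1 h1
        have h3 := Subgroup.card_le_of_le (h2.trans hCQ)
        omega
      apply hgC
      exact v4_case Q Z hQ4 hZQ hZ1 hZne g r (hr.odd_of_ne_two hr2)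
        (by rw [← hg]; exact pow_orderOf_eq_one g)

end Cfsg.Agent.S2879
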