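import Cfsg.Statements.S2970
import Cfsg.Agent.Lib.Helper49.Isolated
import Cfsg.Agent.Lib.Helper49.CyclicSylow

set_option autoImplicit false
open Cfsg

namespace Cfsg.Agent.S2970

open Cfsg.Agent.Helper49

/-- Let G be a finite group, p a prime and x ∈ G an element of p-power order which is isolated in G. Then the image of x in any quotient G ⧸ N is isolated in G ⧸ N; and if x ≠ 1 and the Sylow p-subgroups of G are cyclic, then G has a normal p-complement. -/
theorem result {G : Type*} [Group G] [Finite G] {p : ℕ} [Fact p.Prime] (x : G) (hx : ∃ k : ℕ, orderOf x = p ^ k) (hiso : Cfsg.IsIsolated x) : (∀ (N : Subgroup G) [N.Normal], Cfsg.IsIsolated (QuotientGroup.mk x : G ⧸ N)) ∧ (x ≠ 1 → (∀ P : Sylow p G, IsCyclic ↥(P : Subgroup G)) → Cfsg.HasNormalPComplement p G) := by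
  constructor
  · intro N _ gbar hcomm
    obtain ⟨g, rfl⟩ := QuotientGroup.mk_surjective gbar
    let C : Subgroup G := (Subgroup.centralizer ({(QuotientGroup.mk x : G ⧸ N)} : Set (G ⧸ N))).comap
      (QuotientGroup.mk' N)
    have hxC : x ∈ C := by
      show (QuotientGroup.mk' N) x ∈ Subgroup.centralizer _
      rw [Subgroup.mem_centralizer_iff]
      intro y hy
      rw [Set.mem_singleton_iff] at hy
      subst hy
      rfl
    have hgC : g * x * g⁻¹ ∈ C := by
      show (QuotientGroup.mk' N) (g * x * g⁻¹) ∈ Subgroup.centralizer _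
      rw [Subgroup.mem_centralizer_iff]
      intro y hy
      rw [Set.mem_singleton_iff] at hy
      subst hy
      simpa using hcomm.eq
    obtain ⟨c, hc, hcx⟩ := isolated_fusion hiso hx C hxC g hgC
    have hc' : (QuotientGroup.mk c : G ⧸ N) * QuotientGroup.mk x = QuotientGroup.mk x * QuotientGroup.mk c := by
      have := (Subgroup.mem_centralizer_iff.mp (show (QuotientGroup.mk' N) c ∈ Subgroup.centralizer _ from hc))
        (QuotientGroup.mk x) rfl
      simpa using this.symm
    have h1 : (QuotientGroup.mk c : G ⧸ N) * ((QuotientGroup.mk g : G ⧸ N) * QuotientGroup.mk x * (QuotientGroup.mk g)⁻¹) * (QuotientGroup.mk c)⁻¹ = QuotientGroup.mk x := by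
      have := congrArg (QuotientGroup.mk : G → G ⧸ N) hcx
      simpa [mul_assoc] using this
    calc (QuotientGroup.mk g : G ⧸ N) * QuotientGroup.mk x * (QuotientGroup.mk g)⁻¹
        = (QuotientGroup.mk c)⁻¹ * ((QuotientGroup.mk c : G ⧸ N) * ((QuotientGroup.mk g : G ⧸ N) * QuotientGroup.mk x * (QuotientGroup.mk g)⁻¹) * (QuotientGroup.mk c)⁻¹) * (QuotientGroup.mk c) := by group
      _ = (QuotientGroup.mk c)⁻¹ * (QuotientGroup.mk x) * (QuotientGroup.mk c) := by rw [h1]
      _ = (QuotientGroup.mk c)⁻¹ * ((QuotientGroup.mk x) * (QuotientGroup.mk c)) := by group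
      _ = (QuotientGroup.mk c)⁻¹ * ((QuotientGroup.mk c) * (QuotientGroup.mk x)) := by rw [hc']
      _ = QuotientGroup.mk x := by group
  · intro hx1 hcyc
    obtain ⟨P, hP⟩ := (isPGroup_zpowers_of_orderOf hx).exists_le_sylow
    have hxP : x ∈ (P : Subgroup G) := hP (Subgroup.mem_zpowers x)
    apply hasNormalPComplement_of_cyclic_sylow P (hcyc P) x hxP hx1
    intro g hg
    have hgx : g * x * g⁻¹ ∈ (P : Subgroup G) := (Subgroup.mem_normalizer_iff.mp hg x).mp hxP
    exact isolated_conj_eq_of_mem_pgroup hiso (P : Subgroup G) P.2 hxP g hgx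

end Cfsg.Agent.S2970
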