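import Cfsg.Statements.S1271
import Cfsg.Agent.Lib.Helper21.BalanceComp

set_option autoImplicit false
open Cfsg

namespace Cfsg.Agent.S1271

open Subgroup
open scoped commutatorElement

variable {G : Type*} [Group G]

/-- Setup facts for the component case: the element `x` normalizes `L` and does not centralize it. -/
theorem mem_normalizer_of_commutator_eq (x : G) (L : Subgroup G)
    (hLx : ⁅L, zpowers x⁆ = L) : x ∈ normalizer (L : Set G) := by
  have h1 : ∀ l ∈ L, ∀ y ∈ zpowers x, y * l * y⁻¹ ∈ L := by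
    intro l hl y hy
    have h2 : ⁅l⁻¹, y⁆ ∈ ⁅L, zpowers x⁆ := Subgroup.commutator_mem_commutator (L.inv_mem hl) hy
    rw [hLx, commutatorElement_def] at h2
    have h3 := L.mul_mem hl h2
    have e : l * (l⁻¹ * y * l⁻¹⁻¹ * y⁻¹) = y * l * y⁻¹ := by group
    rwa [e] at h3
  rw [Subgroup.mem_normalizer_iff]
  intro l
  constructor
  · intro hl
    exact h1 l hl x (Subgroup.mem_zpowers x)
  · intro hl
    have := h1 _ hl x⁻¹ (Subgroup.inv_mem _ (Subgroup.mem_zpowers x))
    have e : x⁻¹ * (x * l * x⁻¹) * x⁻¹⁻¹ = l := by group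
    rwa [e] at this

theorem not_mem_centralizer_of_commutator_eq (x : G) (L : Subgroup G) (hL : IsComponent L)
    (hLx : ⁅L, zpowers x⁆ = L) : x ∉ centralizer (L : Set G) := by
  intro hx
  have h1 : zpowers x ≤ centralizer (L : Set G) := by
    rw [Subgroup.zpowers_le]; exact hx
  have h2 : ⁅L, zpowers x⁆ = ⊥ := by
    rw [Subgroup.commutator_eq_bot_iff_le_centralizer, Subgroup.le_centralizer_iff]
    exact h1
  rw [hLx] at h2
  have hnt := Helper21.quasisimple_nontrivial hL.2
  rw [h2] at hnt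
  exact not_subsingleton _ (inferInstance : Subsingleton (⊥ : Subgroup G))

/-- `l ∈ L` with `x l x⁻¹ = l z'`, `z'` centralizing `L` and `W`: then `l` maps `M = W C_L(x)` into
itself by conjugation. -/
theorem conj_mem_sup_of_twisted (x l z' : G) (L W : Subgroup G)
    (hl : l ∈ L) (hxl : x * l * x⁻¹ = l * z') (hz'C : z' ∈ centralizer (L : Set G))
    (hWz : ∀ w ∈ W, w * z' = z' * w) (hWx : W ≤ centralizer ({x} : Set G))
    (hWN : W ≤ normalizer (L : Set G)) :
    ∀ m ∈ W ⊔ (L ⊓ centralizer ({x} : Set G)),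
      l * m * l⁻¹ ∈ W ⊔ (L ⊓ centralizer ({x} : Set G)) := by
  set M : Subgroup G := W ⊔ (L ⊓ centralizer ({x} : Set G)) with hM
  have hcomm_of : ∀ c : G, x * c * x⁻¹ = c → c ∈ centralizer ({x} : Set G) := by
    intro c hc
    rw [Subgroup.mem_centralizer_iff]
    intro y hy
    rw [Set.mem_singleton_iff] at hy
    subst hy
    exact mul_inv_eq_iff_eq_mul.1 hc
  have hconj_of : ∀ c : G, c ∈ centralizer ({x} : Set G) → x * c * x⁻¹ = c := by
    intro c hc
    rw [Subgroup.mem_centralizer_iff] at hc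
    have := hc x (Set.mem_singleton x)
    rw [this, mul_inv_cancel_right]
  have hT : M ≤ M.comap (MulAut.conj l).toMonoidHom := by
    apply sup_le
    · intro w hw
      rw [Subgroup.mem_comap]
      show l * w * l⁻¹ ∈ M
      have hwinvN : w⁻¹ ∈ normalizer (L : Set G) := Subgroup.inv_mem _ (hWN hw)
      have hcL : w⁻¹ * l * w * l⁻¹ ∈ L := by
        have h1 : w⁻¹ * l * w⁻¹⁻¹ ∈ L := (Subgroup.mem_normalizer_iff.1 hwinvN l).1 hl
        rw [inv_inv] at h1
        exact L.mul_mem h1 (L.inv_mem hl)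
      have e1 : x * w * x⁻¹ = w := hconj_of w (hWx hw)
      have r3 : w * z' = z' * w := hWz w hw
      have hcx : x * (w⁻¹ * l * w * l⁻¹) * x⁻¹ = w⁻¹ * l * w * l⁻¹ := by
        calc x * (w⁻¹ * l * w * l⁻¹) * x⁻¹
            = (x * w * x⁻¹)⁻¹ * (x * l * x⁻¹) * (x * w * x⁻¹) * (x * l * x⁻¹)⁻¹ := by group
          _ = w⁻¹ * (l * z') * w * (l * z')⁻¹ := by rw [e1, hxl]
          _ = w⁻¹ * l * (z' * w) * z'⁻¹ * l⁻¹ := by group
          _ = w⁻¹ * l * (w * z') * z'⁻¹ * l⁻¹ := by rw [r3]
          _ = w⁻¹ * l * w * l⁻¹ := by group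
      have hc : w⁻¹ * l * w * l⁻¹ ∈ L ⊓ centralizer ({x} : Set G) :=
        Subgroup.mem_inf.2 ⟨hcL, hcomm_of _ hcx⟩
      have e : l * w * l⁻¹ = w * (w⁻¹ * l * w * l⁻¹) := by group
      rw [e]
      exact Subgroup.mul_mem _ (Subgroup.mem_sup_left hw) (Subgroup.mem_sup_right hc)
    · intro c hc
      rw [Subgroup.mem_comap]
      show l * c * l⁻¹ ∈ M
      have hcL := (Subgroup.mem_inf.1 hc).1
      have hcx := (Subgroup.mem_inf.1 hc).2
      have e1 : x * c * x⁻¹ = c := hconj_of c hcx
      have r3 : z' * c = c * z' := by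
        rw [Subgroup.mem_centralizer_iff] at hz'C
        exact (hz'C c hcL).symm
      have h3L : l * c * l⁻¹ ∈ L := L.mul_mem (L.mul_mem hl hcL) (L.inv_mem hl)
      have h3x : x * (l * c * l⁻¹) * x⁻¹ = l * c * l⁻¹ := by
        calc x * (l * c * l⁻¹) * x⁻¹
            = (x * l * x⁻¹) * (x * c * x⁻¹) * (x * l * x⁻¹)⁻¹ := by group
          _ = (l * z') * c * (l * z')⁻¹ := by rw [e1, hxl]
          _ = l * (z' * c) * z'⁻¹ * l⁻¹ := by group
          _ = l * (c * z') * z'⁻¹ * l⁻¹ := by rw [r3]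
          _ = l * c * l⁻¹ := by group
      exact Subgroup.mem_sup_right (Subgroup.mem_inf.2 ⟨h3L, hcomm_of _ h3x⟩)
  intro m hm
  have := hT hm
  rw [Subgroup.mem_comap] at this
  exact this

/-- `s ∈ C_G(x) ∩ N_G(L)` normalizing `W` maps `M = W C_L(x)` into itself. -/
theorem conj_mem_sup_of_centralizes (x s : G) (L W : Subgroup G)
    (hsx : s ∈ centralizer ({x} : Set G)) (hsN : s ∈ normalizer (L : Set G))
    (hsW : ∀ w ∈ W, s * w * s⁻¹ ∈ W) :
    ∀ m ∈ W ⊔ (L ⊓ centralizer ({x} : Set G)),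
      s * m * s⁻¹ ∈ W ⊔ (L ⊓ centralizer ({x} : Set G)) := by
  set M : Subgroup G := W ⊔ (L ⊓ centralizer ({x} : Set G)) with hM
  have hT : M ≤ M.comap (MulAut.conj s).toMonoidHom := by
    apply sup_le
    · intro w hw
      rw [Subgroup.mem_comap]
      show s * w * s⁻¹ ∈ M
      exact Subgroup.mem_sup_left (hsW w hw)
    · intro c hc
      rw [Subgroup.mem_comap]
      show s * c * s⁻¹ ∈ M
      have hcL := (Subgroup.mem_inf.1 hc).1
      have hcx := (Subgroup.mem_inf.1 hc).2
      apply Subgroup.mem_sup_right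
      refine Subgroup.mem_inf.2 ⟨(Subgroup.mem_normalizer_iff.1 hsN c).1 hcL, ?_⟩
      exact Subgroup.mul_mem _ (Subgroup.mul_mem _ hsx hcx) (Subgroup.inv_mem _ hsx)
  intro m hm
  have := hT hm
  rw [Subgroup.mem_comap] at this
  exact this

/-- Claim 1: `O_{p'}(H / C_H(L)) = 1` for `L ⊴ H` a component of `G` with `O_{p'}(G) = 1`. -/
theorem pPrimeCore_quotient_centralizer_eq_bot [Finite G] (p : ℕ) [Fact p.Prime]
    (hO : pPrimeCore p G = ⊥) (L : Subgroup G) (hL : IsComponent L) (H : Subgroup G)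
    (hLH : L ≤ H) (hHN : H ≤ normalizer (L : Set G))
    [hCn : ((centralizer (L : Set G)).subgroupOf H).Normal] :
    pPrimeCore p (↥H ⧸ (centralizer (L : Set G)).subgroupOf H) = ⊥ := by
  set C := (centralizer (L : Set G)).subgroupOf H with hC
  set π : ↥H →* ↥H ⧸ C := QuotientGroup.mk' C with hπ
  have hker : π.ker = C := QuotientGroup.ker_mk' C
  set Nb := pPrimeCore p (↥H ⧸ C) with hNb
  have hNbn : Nb.Normal := inferInstance
  have hNbco : (Nat.card Nb).Coprime p := Helper30.pPrimeCore_coprime p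
  set N : Subgroup G := (Nb.comap π).map H.subtype with hN
  have hNH : N ≤ H := Subgroup.map_subtype_le _
  have hNN : N ≤ normalizer (L : Set G) := hNH.trans hHN
  have hmemN : ∀ n : G, n ∈ N ↔ ∃ hn : n ∈ H, π ⟨n, hn⟩ ∈ Nb := by
    intro n
    constructor
    · rintro ⟨y, hy, rfl⟩
      exact ⟨y.2, Subgroup.mem_comap.1 hy⟩
    · rintro ⟨hn, h⟩
      exact ⟨⟨n, hn⟩, Subgroup.mem_comap.2 h, rfl⟩
  -- it suffices to show N ≤ C(L)
  have hsuff : N ≤ centralizer (L : Set G) → Nb = ⊥ := by
    intro hNC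
    rw [eq_bot_iff]
    intro nb hnb
    obtain ⟨n, rfl⟩ := QuotientGroup.mk'_surjective C nb
    have h1 : (n : G) ∈ N := (hmemN _).2 ⟨n.2, hnb⟩
    have h2 : n ∈ C := Subgroup.mem_subgroupOf.2 (hNC h1)
    rw [Subgroup.mem_bot]
    exact (QuotientGroup.eq_one_iff n).2 h2
  apply hsuff
  rcases Helper30.component_commutator_eq_self_or_bot L N hL hNN with h | h
  · exfalso
    -- L ≤ N
    have hLN : L ≤ N := by
      rw [← h, Subgroup.commutator_le]
      intro l hl n hn
      obtain ⟨hnH, hnb⟩ := (hmemN n).1 hn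
      have hlH : l ∈ H := hLH hl
      rw [commutatorElement_def]
      have h1 : l * n * l⁻¹ ∈ N := by
        rw [hmemN]
        refine ⟨H.mul_mem (H.mul_mem hlH hnH) (H.inv_mem hlH), ?_⟩
        have := hNbn.conj_mem _ hnb (π ⟨l, hlH⟩)
        rw [← map_inv, ← map_mul, ← map_mul] at this
        exact this
      exact N.mul_mem h1 (N.inv_mem hn)
    obtain ⟨T⟩ : Nonempty (Sylow p G) := inferInstance
    obtain ⟨s, hsT, hsL, hsC⟩ := Helper30.exists_mem_sylow_not_mem_centralizer_component hO T hL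
    obtain ⟨hsH, hsb⟩ := (hmemN s).1 (hLN hsL)
    apply hsC
    -- π s has p-power order and lies in a p'-group
    have h1 : π ⟨s, hsH⟩ = 1 := by
      obtain ⟨k, hk⟩ := (T.isPGroup'.to_le (le_refl _)) ⟨s, hsT⟩
      have hk' : s ^ p ^ k = 1 := by
        have := congrArg Subtype.val hk
        simpa using this
      have h2 : (π ⟨s, hsH⟩) ^ p ^ k = 1 := by
        rw [← map_pow]
        have : (⟨s, hsH⟩ : ↥H) ^ p ^ k = 1 := by
          apply Subtype.ext
          simpa using hk'
        rw [this, map_one]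
      have h3 : orderOf (π ⟨s, hsH⟩) ∣ p ^ k := orderOf_dvd_of_pow_eq_one h2
      have h4 : orderOf (π ⟨s, hsH⟩) ∣ Nat.card Nb := by
        have := orderOf_dvd_natCard (⟨π ⟨s, hsH⟩, hsb⟩ : ↥Nb)
        rwa [← Subgroup.orderOf_coe] at this
      have h5 : (orderOf (π ⟨s, hsH⟩)).Coprime p := Nat.Coprime.coprime_dvd_left h4 hNbco
      have h6 : (orderOf (π ⟨s, hsH⟩)).Coprime (p ^ k) := Nat.Coprime.pow_right k h5
      have h7 : orderOf (π ⟨s, hsH⟩) = 1 := Nat.Coprime.eq_one_of_dvd h6 h3
      exact orderOf_eq_one_iff.1 h7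
    have h2 : (⟨s, hsH⟩ : ↥H) ∈ C := (QuotientGroup.eq_one_iff _).1 h1
    exact Subgroup.mem_subgroupOf.1 h2
  · rw [Subgroup.commutator_eq_bot_iff_le_centralizer, Subgroup.le_centralizer_iff] at h
    exact h

/-- The component case: if `[L, x] = L` then `O_{p'}(C_G(x))` centralizes `L`. -/
theorem component_case [Finite G] (p : ℕ) [hp : Fact p.Prime] (hO : pPrimeCore p G = ⊥)
    (x : G) (hx : orderOf x = p) (L : Subgroup G) (hL : IsComponent L)
    (hLx : ⁅L, zpowers x⁆ = L)
    (h : ∀ H : Subgroup G, L ≤ H → (L.subgroupOf H).Normal →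
      ∀ [((centralizer (L : Set G)).subgroupOf H).Normal],
        IsBalancedFor p (↥H ⧸ (centralizer (L : Set G)).subgroupOf H)) :
    centralizerPPrimeCore p x ≤ centralizer (L : Set G) := by
  set W := centralizerPPrimeCore p x with hW
  have hxP : IsPGroup p (zpowers x) := by
    apply IsPGroup.of_card (n := 1)
    rw [Nat.card_zpowers, hx, pow_one]
  have hWco := Helper30.centralizerPPrimeCore_coprime (G := G) p x
  have hWC := Helper30.centralizerPPrimeCore_le_centralizer (G := G) p x
  have hWN : W ≤ normalizer (L : Set G) := by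
    intro w hw
    have := Helper30.centralizerPPrimeCore_le_componentKernel p hO x hxP hw
    rw [Helper30.mem_componentKernel] at this
    exact (Helper30.cj_eq_self_iff L w).1 (this L hL)
  have hxN := mem_normalizer_of_commutator_eq x L hLx
  have hxC := not_mem_centralizer_of_commutator_eq x L hL hLx
  set S : Subgroup G := W ⊔ zpowers x with hS
  have hSN : S ≤ normalizer (L : Set G) := sup_le hWN (by rw [Subgroup.zpowers_le]; exact hxN)
  have hxx : zpowers x ≤ centralizer ({x} : Set G) := by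
    rw [Subgroup.zpowers_le, Subgroup.mem_centralizer_iff]
    intro y hy
    rw [Set.mem_singleton_iff] at hy
    rw [hy]
  have hSx : S ≤ centralizer ({x} : Set G) := sup_le hWC hxx
  set H : Subgroup G := L ⊔ S with hH
  have hLH : L ≤ H := le_sup_left
  have hSH : S ≤ H := le_sup_right
  have hHN : H ≤ normalizer (L : Set G) := sup_le Subgroup.le_normalizer hSN
  have hLn : (L.subgroupOf H).Normal := (Subgroup.normal_subgroupOf_iff_le_normalizer hLH).2 hHN
  have hCn : ((centralizer (L : Set G)).subgroupOf H).Normal := by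
    constructor
    intro c hc g
    rw [Subgroup.mem_subgroupOf] at hc ⊢
    exact Helper30.conj_mem_centralizer_of_mem_normalizer L (hHN g.2) hc
  have hbal := @h H hLH hLn hCn
  have hQbot := pPrimeCore_quotient_centralizer_eq_bot p hO L hL H hLH hHN
  set C := (centralizer (L : Set G)).subgroupOf H with hC
  set π : ↥H →* ↥H ⧸ C := QuotientGroup.mk' C with hπ
  have hxH : x ∈ H := hSH (Subgroup.mem_sup_right (Subgroup.mem_zpowers x))
  set x' : ↥H := ⟨x, hxH⟩ with hx'
  -- the order of the image of x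
  have hord : orderOf (π x') = p := by
    apply orderOf_eq_prime
    · rw [← map_pow]
      have : x' ^ p = 1 := by
        apply Subtype.ext
        rw [Subgroup.coe_pow, Subgroup.coe_one]
        show x ^ p = 1
        rw [← hx]; exact pow_orderOf_eq_one x
      rw [this, map_one]
    · intro h1
      exact hxC (Subgroup.mem_subgroupOf.1 ((QuotientGroup.eq_one_iff x').1 h1))
  -- Z(L) and W
  set Z : Subgroup G := L ⊓ centralizer (L : Set G) with hZ
  have hZp : IsPGroup p Z := Helper21.isPGroup_inf_centralizer_component p hO L hL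
  have hNZ : normalizer (L : Set G) ≤ normalizer (Z : Set G) := by
    intro g hg
    apply Helper21.mem_normalizer_of_conj_mem
    intro a ha
    exact Subgroup.mem_inf.2 ⟨(Subgroup.mem_normalizer_iff.1 hg a).1 (Subgroup.mem_inf.1 ha).1,
      Helper30.conj_mem_centralizer_of_mem_normalizer L hg (Subgroup.mem_inf.1 ha).2⟩
  have hWZ : W ≤ centralizer (Z : Set G) :=
    Helper21.centPPrimeCore_le_centralizer_of_isPGroup p x hxP Z hZp (hNZ hxN) (hWN.trans hNZ)
  -- the subgroup M
  set M : Subgroup G := W ⊔ (L ⊓ centralizer ({x} : Set G)) with hM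
  have hWM : W ≤ M := le_sup_left
  have hMx : M ≤ centralizer ({x} : Set G) := sup_le hWC inf_le_right
  have hMH : M ≤ H := sup_le ((le_sup_left : W ≤ S).trans hSH) (inf_le_left.trans hLH)
  have hkey : ∀ k : ↥H, π k ∈ centralizer ({π x'} : Set (↥H ⧸ C)) →
      (k : G) ∈ normalizer (M : Set G) := by
    intro k hk
    have hkH : (k : G) ∈ ((L ⊔ S : Subgroup G) : Set G) := k.2
    rw [Subgroup.coe_mul_of_right_le_normalizer_left L S hSN] at hkH
    obtain ⟨l, hl, s, hs, hls⟩ := Set.mem_mul.1 hkH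
    have hl : l ∈ L := hl
    have hs : s ∈ S := hs
    have hcomm : π x' * π k = π k * π x' :=
      (Subgroup.mem_centralizer_iff.1 hk) _ (Set.mem_singleton _)
    have e : π (k * x') = π (x' * k) := by rw [map_mul, map_mul, hcomm]
    have h1 : (k * x')⁻¹ * (x' * k) ∈ C := QuotientGroup.eq.1 e
    have h1G : x⁻¹ * (l * s)⁻¹ * x * (l * s) ∈ centralizer (L : Set G) := by
      have h2 := Subgroup.mem_subgroupOf.1 h1
      have e2 : (((k * x')⁻¹ * (x' * k) : ↥H) : G) = x⁻¹ * (l * s)⁻¹ * x * (l * s) := by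
        rw [hls]
        simp only [Subgroup.coe_mul, Subgroup.coe_inv, hx']
        group
      rwa [e2] at h2
    have hsx : s * x = x * s := by
      have := (Subgroup.mem_centralizer_iff.1 (hSx hs)) x (Set.mem_singleton x)
      exact this.symm
    have hz0 : x⁻¹ * l⁻¹ * x * l ∈ centralizer (L : Set G) := by
      have := Helper30.conj_mem_centralizer_of_mem_normalizer L (hSN hs) h1G
      have e3 : s * (x⁻¹ * (l * s)⁻¹ * x * (l * s)) * s⁻¹ = (s * x⁻¹ * s⁻¹) * l⁻¹ * x * l := by
        group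
      have e4 : s * x⁻¹ * s⁻¹ = x⁻¹ := by
        have : s * x⁻¹ = x⁻¹ * s := by
          have h5 : x⁻¹ * (s * x) * x⁻¹ = x⁻¹ * (x * s) * x⁻¹ := by rw [hsx]
          have e5 : x⁻¹ * (s * x) * x⁻¹ = x⁻¹ * s := by group
          have e6 : x⁻¹ * (x * s) * x⁻¹ = s * x⁻¹ := by group
          rw [e5, e6] at h5
          exact h5.symm
        rw [this, mul_inv_cancel_right]
      rw [e3, e4] at this
      exact this
    set z' : G := l⁻¹ * (x * l * x⁻¹) with hz'
    have hz'C : z' ∈ centralizer (L : Set G) := by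
      have := Helper30.conj_mem_centralizer_of_mem_normalizer L hxN hz0
      have e3 : x * (x⁻¹ * l⁻¹ * x * l) * x⁻¹ = z' := by rw [hz']; group
      rwa [e3] at this
    have hz'L : z' ∈ L :=
      L.mul_mem (L.inv_mem hl) ((Subgroup.mem_normalizer_iff.1 hxN l).1 hl)
    have hxl : x * l * x⁻¹ = l * z' := by rw [hz', mul_inv_cancel_left]
    have hWz : ∀ w ∈ W, w * z' = z' * w := by
      intro w hw
      have := (Subgroup.mem_centralizer_iff.1 (hWZ hw)) z' (Subgroup.mem_inf.2 ⟨hz'L, hz'C⟩)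
      exact this.symm
    have hl_conj := conj_mem_sup_of_twisted x l z' L W hl hxl hz'C hWz hWC hWN
    have hs_conj := conj_mem_sup_of_centralizes x s L W (hSx hs) (hSN hs)
      (fun w hw => Helper30.conj_mem_centralizerPPrimeCore p x hw (hSx hs))
    apply Helper21.mem_normalizer_of_conj_mem
    intro m hm
    have := hl_conj _ (hs_conj m hm)
    have e3 : l * (s * m * s⁻¹) * l⁻¹ = (k : G) * m * (k : G)⁻¹ := by rw [← hls]; group
    rwa [e3] at this
  -- the p'-core of M
  set W₁ : Subgroup G := (pPrimeCore p ↥M).map M.subtype with hW₁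
  have hWW₁ : W ≤ W₁ := by
    have hn : (W.subgroupOf M).Normal := by
      constructor
      intro w hw m
      rw [Subgroup.mem_subgroupOf] at hw ⊢
      exact Helper30.conj_mem_centralizerPPrimeCore p x hw (hMx m.2)
    have hco : (Nat.card (W.subgroupOf M)).Coprime p := by
      rw [Nat.card_congr (Subgroup.subgroupOfEquivOfLe hWM).toEquiv]; exact hWco
    have h1 := Helper30.le_pPrimeCore hn hco
    intro w hw
    exact ⟨⟨w, hWM hw⟩, h1 (Subgroup.mem_subgroupOf.2 hw), rfl⟩
  have hW₁co : (Nat.card W₁).Coprime p := by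
    rw [hW₁, Subgroup.card_map_of_injective M.subtype_injective]
    exact Helper30.pPrimeCore_coprime p
  -- the image in the centralizer of the image of x
  set Kb : Subgroup (↥H ⧸ C) := centralizer ({π x'} : Set (↥H ⧸ C)) with hKb
  set Wb : Subgroup ↥Kb := ((W₁.subgroupOf H).map π).subgroupOf Kb with hWb
  have hWbn : Wb.Normal := by
    constructor
    intro a ha g
    rw [hWb, Subgroup.mem_subgroupOf] at ha ⊢
    obtain ⟨a', ha', hae⟩ := Subgroup.mem_map.1 ha
    obtain ⟨k, hk⟩ := QuotientGroup.mk'_surjective C (g : ↥H ⧸ C)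
    have hkK : π k ∈ Kb := by rw [hπ, hk]; exact g.2
    have hkn := hkey k hkK
    refine Subgroup.mem_map.2 ⟨k * a' * k⁻¹, ?_, ?_⟩
    · rw [Subgroup.mem_subgroupOf]
      exact Helper30.conj_mem_pPrimeCore_map p M (k : G) hkn (a' : G)
        (Subgroup.mem_subgroupOf.1 ha')
    · rw [map_mul, map_mul, map_inv, hae, hπ, hk]
      rfl
  have hWbco : (Nat.card Wb).Coprime p := by
    have h1 : Nat.card Wb ∣ Nat.card ((W₁.subgroupOf H).map π) :=
      Subgroup.card_comap_dvd_of_injective _ Kb.subtype Kb.subtype_injective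
    have h2 : Nat.card ((W₁.subgroupOf H).map π) ∣ Nat.card (W₁.subgroupOf H) :=
      Subgroup.card_map_dvd _ π
    have h3 : Nat.card (W₁.subgroupOf H) ∣ Nat.card W₁ :=
      Subgroup.card_comap_dvd_of_injective _ H.subtype H.subtype_injective
    exact Nat.Coprime.coprime_dvd_left (h1.trans (h2.trans h3)) hW₁co
  have hWble : Wb ≤ pPrimeCore p ↥Kb := Helper30.le_pPrimeCore hWbn hWbco
  -- conclusion
  intro w hw
  have hwH : w ∈ H := hSH (Subgroup.mem_sup_left hw)
  have hwK : π ⟨w, hwH⟩ ∈ Kb := by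
    rw [hKb, Subgroup.mem_centralizer_iff]
    intro y hy
    rw [Set.mem_singleton_iff] at hy
    rw [hy, ← map_mul, ← map_mul]
    congr 1
    apply Subtype.ext
    show x * w = w * x
    exact (Subgroup.mem_centralizer_iff.1 (hWC hw)) x (Set.mem_singleton x)
  have h1 : (⟨π ⟨w, hwH⟩, hwK⟩ : ↥Kb) ∈ Wb := by
    rw [hWb, Subgroup.mem_subgroupOf]
    exact Subgroup.mem_map.2 ⟨⟨w, hwH⟩, Subgroup.mem_subgroupOf.2 (hWW₁ hw), rfl⟩
  have h2 : π ⟨w, hwH⟩ ∈ centralizerPPrimeCore p (π x') := ⟨⟨π ⟨w, hwH⟩, hwK⟩, hWble h1, rfl⟩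
  have h3 := hbal (π x') hord h2
  rw [hQbot, Subgroup.mem_bot] at h3
  exact Subgroup.mem_subgroupOf.1 ((QuotientGroup.eq_one_iff (⟨w, hwH⟩ : ↥H)).1 h3)

/-- Let G be finite with O_{p'}(G) = 1. Suppose that for every component L of G and every subgroup H ≥ L in which L is normal, the quotient H / C_H(L) is balanced for the prime p. Then G is balanced for p. -/
theorem result {G : Type*} [Group G] [Finite G] (p : ℕ) [Fact p.Prime] (hO : Cfsg.pPrimeCore p G = ⊥) (h : ∀ L : Subgroup G, Cfsg.IsComponent L → ∀ H : Subgroup G, L ≤ H → (L.subgroupOf H).Normal → ∀ [((Subgroup.centralizer (L : Set G)).subgroupOf H).Normal], Cfsg.IsBalancedFor p (↥H ⧸ (Subgroup.centralizer (L : Set G)).subgroupOf H)) : Cfsg.IsBalancedFor p G := by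
  intro x hx
  set W := centralizerPPrimeCore p x with hW
  have hxP : IsPGroup p (zpowers x) := by
    apply IsPGroup.of_card (n := 1)
    rw [Nat.card_zpowers, hx, pow_one]
  have hWco := Helper30.centralizerPPrimeCore_coprime (G := G) p x
  -- W centralizes every component
  have hcomp : ∀ L : Subgroup G, IsComponent L → L ≤ centralizer (W : Set G) := by
    intro L hL
    by_cases hLx : ⁅L, zpowers x⁆ = L
    · rw [Subgroup.le_centralizer_iff]
      exact component_case p hO x hx L hL hLx (h L hL)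
    · have := Helper30.component_commutator_centralizerPPrimeCore p hO x hx L hL hLx
      rw [Subgroup.commutator_eq_bot_iff_le_centralizer] at this
      exact this
  have hlayer : layer G ≤ centralizer (W : Set G) := sSup_le (fun L hL => hcomp L hL)
  -- W centralizes O_p(G)
  have hQn : (pCore p G).Normal := Helper70.pCore_normal p G
  have hnorm : normalizer ((pCore p G : Subgroup G) : Set G) = ⊤ := Subgroup.normalizer_eq_top _
  have hWQ : W ≤ centralizer (pCore p G : Set G) :=
    Helper21.centPPrimeCore_le_centralizer_of_isPGroup p x hxP (pCore p G) Helper70.pCore_isPGroup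
      (by rw [hnorm]; exact Subgroup.mem_top x) (by rw [hnorm]; exact le_top)
  have hFit : fittingSubgroup G ≤ pCore p G := by
    have := Helper22.fittingSubgroup_le_pCore_sup_pPrimeCore (G := G) p
    rwa [hO, sup_bot_eq] at this
  have hFit' : fittingSubgroup G ≤ centralizer (W : Set G) := by
    rw [Subgroup.le_centralizer_iff]
    exact hWQ.trans (Subgroup.centralizer_le hFit)
  have hFstar : generalizedFittingSubgroup G ≤ centralizer (W : Set G) := sup_le hlayer hFit'
  have hWF : W ≤ centralizer (generalizedFittingSubgroup G : Set G) := by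
    rw [Subgroup.le_centralizer_iff]; exact hFstar
  have hWF2 : W ≤ generalizedFittingSubgroup G :=
    hWF.trans Helper21.centralizer_generalizedFittingSubgroup_le
  have hWp : W ≤ pCore p G :=
    (le_inf hWF2 hWF).trans (Helper21.generalizedFittingSubgroup_inf_centralizer_le.trans hFit)
  have hWbot : W = ⊥ :=
    Helper30.eq_bot_of_isPGroup_of_coprime (p := p) W (Helper70.pCore_isPGroup.to_le hWp) hWco
  rw [hWbot]
  exact bot_le

end Cfsg.Agent.S1271
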