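import Cfsg.Statements.S1298
import Cfsg.Agent.Lib.Helper21.BalanceCore
import Cfsg.Agent.Lib.Helper24.FixedLift

set_option autoImplicit false
open Cfsg

namespace Cfsg.Agent.S1298

open Subgroup
open scoped commutatorElement

/-- Coprime lifting: if the images of `c` and of the `p`-element `x` commute modulo the normal
`p'`-subgroup `N`, then `c N` contains an element commuting with `x`. -/
theorem exists_lift_centralizer {C : Type*} [Group C] [Finite C] (p : ℕ) [hp : Fact p.Prime]
    (N : Subgroup C) [hN : N.Normal]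
    (hco : (Nat.card N).Coprime p) (x c : C) (hx : x ^ p = 1)
    (hc : (QuotientGroup.mk' N x) * (QuotientGroup.mk' N c) =
      (QuotientGroup.mk' N c) * (QuotientGroup.mk' N x)) :
    ∃ c₂ : C, c₂ ∈ centralizer ({x} : Set C) ∧ QuotientGroup.mk' N c₂ = QuotientGroup.mk' N c := by
  have hQ : IsPGroup p (zpowers x) := by
    apply IsPGroup.of_card_dvd_pow (n := 1)
    rw [Nat.card_zpowers, pow_one]
    exact orderOf_dvd_of_pow_eq_one hx
  have hNp : ¬ p ∣ Nat.card N := by
    intro h
    have := Nat.Coprime.eq_one_of_dvd hco.symm h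
    exact hp.out.one_lt.ne' this
  have hQN : zpowers x ≤ normalizer (N : Set C) := by
    rw [Subgroup.normalizer_eq_top N]; exact le_top
  have hcond : ∀ q ∈ zpowers x, c⁻¹ * (q * c * q⁻¹) ∈ N := by
    intro q hq
    obtain ⟨j, rfl⟩ := Subgroup.mem_zpowers_iff.1 hq
    rw [← QuotientGroup.eq_one_iff, ← QuotientGroup.mk'_apply]
    have hcomm : Commute (QuotientGroup.mk' N x) (QuotientGroup.mk' N c) := hc
    have h2 : Commute ((QuotientGroup.mk' N x) ^ j) (QuotientGroup.mk' N c) := hcomm.zpow_left j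
    rw [map_mul, map_mul, map_mul, map_inv, map_inv, map_zpow, h2.eq]
    group
  obtain ⟨n, hn, hcn⟩ := Helper24.exists_mul_mem_centralizer_of_isPGroup (zpowers x) N hQ hNp hQN c hcond
  refine ⟨c * n, ?_, ?_⟩
  · exact Subgroup.centralizer_le (Set.singleton_subset_iff.mpr (Subgroup.mem_zpowers x)) hcn
  · rw [map_mul]
    have : QuotientGroup.mk' N n = 1 := (QuotientGroup.eq_one_iff n).2 hn
    rw [this, mul_one]

/-- Let G be finite and k ≥ 1. Suppose that for every x of order p, writing C = C_G(x), every component K of C / O_{p'}(C) has K / Z(K) locally k-balanced for p. Then G is k-balanced for p. -/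
theorem result {G : Type*} [Group G] [Finite G] (p k : ℕ) [Fact p.Prime] (hk : 1 ≤ k) (h : ∀ x : G, orderOf x = p → ∀ K : Subgroup (↥(Subgroup.centralizer ({x} : Set G)) ⧸ Cfsg.pPrimeCore p ↥(Subgroup.centralizer ({x} : Set G))), Cfsg.IsComponent K → Cfsg.IsLocallyKBalanced p k (↥K ⧸ Subgroup.center ↥K)) : Cfsg.IsKBalanced p k G := by
  intro A hA hcard b hb hAb
  have hpp : p.Prime := Fact.out
  set C : Subgroup G := centralizer ({b} : Set G) with hC
  set N : Subgroup ↥C := pPrimeCore p ↥C with hN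
  have hNn : N.Normal := inferInstance
  have hNco : (Nat.card N).Coprime p := Helper30.pPrimeCore_coprime p
  set π : ↥C →* ↥C ⧸ N := QuotientGroup.mk' N with hπ
  have hQbot : pPrimeCore p (↥C ⧸ N) = ⊥ := Helper30.pPrimeCore_quotient_eq_bot p
  have hAcomm : ∀ a ∈ A, ∀ c ∈ A, a * c = c * a := fun a ha c hc =>
    congrArg Subtype.val (hA.1.is_comm.comm ⟨a, ha⟩ ⟨c, hc⟩)
  have hAC : A ≤ C := by
    intro a ha
    rw [hC, Subgroup.mem_centralizer_iff]
    intro z hz
    rw [Set.mem_singleton_iff] at hz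
    rw [hz]; exact (hAb a ha).symm
  set A' : Subgroup ↥C := A.subgroupOf C with hA'
  set Ab : Subgroup (↥C ⧸ N) := A'.map π with hAbdef
  have hA'pow : ∀ a' ∈ A', a' ^ p = 1 := by
    intro a' ha'
    apply Subtype.ext
    rw [Subgroup.coe_pow, Subgroup.coe_one]
    exact hA.2 _ (Subgroup.mem_subgroupOf.1 ha')
  have hAbEA : IsElementaryAbelian p Ab := by
    refine ⟨⟨⟨fun a c => ?_⟩⟩, ?_⟩
    · obtain ⟨a', ha', hae⟩ := a.2
      obtain ⟨c', hc', hce⟩ := c.2
      have hcc : a' * c' = c' * a' := by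
        apply Subtype.ext
        exact hAcomm _ (Subgroup.mem_subgroupOf.1 ha') _ (Subgroup.mem_subgroupOf.1 hc')
      apply Subtype.ext
      show (a : ↥C ⧸ N) * c = c * a
      rw [← hae, ← hce, ← map_mul, ← map_mul, hcc]
    · rintro _ ⟨a', ha', rfl⟩
      rw [← map_pow, hA'pow a' ha', map_one]
  have hinj : ∀ a' ∈ A', π a' = 1 → a' = 1 := by
    intro a' ha' h1
    have h2 : a' ∈ N := (QuotientGroup.eq_one_iff a').1 h1
    have h3 : orderOf a' ∣ Nat.card N := by
      have := orderOf_dvd_natCard (⟨a', h2⟩ : ↥N)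
      rwa [← Subgroup.orderOf_coe] at this
    have h4 : orderOf a' ∣ p := orderOf_dvd_of_pow_eq_one (hA'pow a' ha')
    have h5 : (orderOf a').Coprime p := Nat.Coprime.coprime_dvd_left h3 hNco
    have h6 : orderOf a' = 1 := Nat.Coprime.eq_one_of_dvd h5 h4
    exact orderOf_eq_one_iff.1 h6
  have hAbcard : Nat.card Ab = p ^ k := by
    have h1 := Subgroup.relIndex_ker (K := A') π
    have h2 : π.ker ⊓ A' = ⊥ := by
      rw [eq_bot_iff]
      intro a' ha'
      rw [Subgroup.mem_bot]
      exact hinj a' (Subgroup.mem_inf.1 ha').2 (MonoidHom.mem_ker.1 (Subgroup.mem_inf.1 ha').1)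
    rw [← Subgroup.inf_relIndex_right, h2, Subgroup.relIndex_bot_left] at h1
    rw [hAbdef, ← h1, hA', Nat.card_congr (Subgroup.subgroupOfEquivOfLe hAC).toEquiv, hcard]
  have hDelta : signalizerDelta p Ab = ⊥ :=
    Helper21.signalizerDelta_eq_bot p k hk hQbot (h b hb) Ab hAbEA hAbcard
  intro d hd
  have hdΔ : d ∈ signalizerDelta p A := (Subgroup.mem_inf.1 hd).1
  have hdC : d ∈ C := (Subgroup.mem_inf.1 hd).2
  have hmem : π ⟨d, hdC⟩ ∈ signalizerDelta p Ab := by
    unfold signalizerDelta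
    rw [Subgroup.mem_iInf]
    rintro ⟨ab, hab, hne⟩
    obtain ⟨a', ha', rfl⟩ := hab
    have haA : (a' : G) ∈ A := Subgroup.mem_subgroupOf.1 ha'
    have hane : (a' : G) ≠ 1 := by
      intro h1
      apply hne
      have : a' = 1 := Subtype.ext h1
      rw [this]; exact map_one _
    set a : G := (a' : G) with hadef
    have hda : d ∈ centralizerPPrimeCore p a := by
      unfold signalizerDelta at hdΔ
      exact (Subgroup.mem_iInf.1 hdΔ) ⟨a, haA, hane⟩
    -- the subgroup D_a
    set D : Subgroup G := centralizerPPrimeCore p a ⊓ C with hD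
    have hDco : (Nat.card D).Coprime p :=
      Nat.Coprime.coprime_dvd_left (Subgroup.card_dvd_of_le inf_le_left)
        (Helper30.centralizerPPrimeCore_coprime p a)
    have hDa : D ≤ centralizer ({a} : Set G) :=
      inf_le_left.trans (Helper30.centralizerPPrimeCore_le_centralizer p a)
    have hDconj : ∀ g : G, g ∈ centralizer ({a} : Set G) → g ∈ C → ∀ d ∈ D, g * d * g⁻¹ ∈ D := by
      intro g hga hgC d hd
      exact Subgroup.mem_inf.2
        ⟨Helper30.conj_mem_centralizerPPrimeCore p a (Subgroup.mem_inf.1 hd).1 hga,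
          C.mul_mem (C.mul_mem hgC (Subgroup.mem_inf.1 hd).2) (C.inv_mem hgC)⟩
    set D' : Subgroup ↥C := D.subgroupOf C with hD'
    show π ⟨d, hdC⟩ ∈ centralizerPPrimeCore p (π a')
    rw [Helper21.mem_centralizerPPrimeCore_iff]
    refine ⟨D'.map π, ?_, ?_, ?_, ?_⟩
    · rintro _ ⟨d₁, hd₁, rfl⟩
      rw [Subgroup.mem_centralizer_iff]
      intro z hz
      rw [Set.mem_singleton_iff] at hz
      subst hz
      rw [← map_mul, ← map_mul]
      congr 1
      apply Subtype.ext
      show a * (d₁ : G) = (d₁ : G) * a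
      exact (Subgroup.mem_centralizer_iff.1 (hDa (Subgroup.mem_subgroupOf.1 hd₁))) a
        (Set.mem_singleton a)
    · intro cb hcb
      obtain ⟨c, rfl⟩ := QuotientGroup.mk'_surjective N cb
      have hcomm : π a' * π c = π c * π a' :=
        (Subgroup.mem_centralizer_iff.1 hcb) _ (Set.mem_singleton _)
      obtain ⟨c₂, hc₂, hc₂e⟩ := exists_lift_centralizer p N hNco a' c (hA'pow a' ha') hcomm
      have hc₂a : (c₂ : G) ∈ centralizer ({a} : Set G) := by
        rw [Subgroup.mem_centralizer_iff]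
        intro z hz
        rw [Set.mem_singleton_iff] at hz
        subst hz
        have := (Subgroup.mem_centralizer_iff.1 hc₂) a' (Set.mem_singleton _)
        exact congrArg Subtype.val this
      apply Helper21.mem_normalizer_of_conj_mem
      rintro _ ⟨d₁, hd₁, rfl⟩
      refine ⟨c₂ * d₁ * c₂⁻¹, ?_, ?_⟩
      · rw [SetLike.mem_coe, hD', Subgroup.mem_subgroupOf]
        exact hDconj (c₂ : G) hc₂a c₂.2 (d₁ : G) (Subgroup.mem_subgroupOf.1 hd₁)
      · rw [map_mul, map_mul, map_inv]
        rw [show π c₂ = π c from hc₂e]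
    · have h1 : Nat.card (D'.map π) ∣ Nat.card D' := Subgroup.card_map_dvd _ π
      have h2 : Nat.card D' ∣ Nat.card D :=
        Subgroup.card_comap_dvd_of_injective _ C.subtype C.subtype_injective
      exact Nat.Coprime.coprime_dvd_left (h1.trans h2) hDco
    · exact ⟨⟨d, hdC⟩, Subgroup.mem_subgroupOf.2 (Subgroup.mem_inf.2 ⟨hda, hdC⟩), rfl⟩
  rw [hDelta, Subgroup.mem_bot] at hmem
  have h2 : (⟨d, hdC⟩ : ↥C) ∈ N := (QuotientGroup.eq_one_iff _).1 hmem
  exact ⟨⟨d, hdC⟩, h2, rfl⟩

end Cfsg.Agent.S1298
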