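import Cfsg.Statements.S0221
import Mathlib
import Cfsg.Agent.Lib.Helper4.NormalFour4
import Cfsg.Agent.Lib.Helper31.ThompsonTransfer
import Cfsg.Agent.Lib.Helper47.PRes

set_option autoImplicit false
open Cfsg

namespace Cfsg.Agent.S0221

open Cfsg.Agent.Helper4

/-- a group without subgroups of index two is generated by its elements of odd order -/
theorem pResidual_eq_top_of_no_index_two {G : Type*} [Group G] [Finite G]
    (hno : ∀ H : Subgroup G, H.index ≠ 2) : Cfsg.pResidual 2 G = ⊤ := by
  haveI : Fact (Nat.Prime 2) := ⟨Nat.prime_two⟩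
  by_contra hne
  have hQ : IsPGroup 2 (G ⧸ Cfsg.pResidual 2 G) :=
    Cfsg.Agent.Helper47.isPGroup_quotient_of_pResidual_le (Cfsg.pResidual 2 G) le_rfl
  obtain ⟨k, hk⟩ := hQ.exists_card_eq
  have hk0 : k ≠ 0 := by
    rintro rfl
    apply hne
    rw [pow_zero] at hk
    have h1 : (Cfsg.pResidual 2 G).index = 1 := by rw [Subgroup.index_eq_card, hk]
    exact Subgroup.index_eq_one.mp h1
  obtain ⟨k', rfl⟩ : ∃ k', k = k' + 1 := ⟨k - 1, by omega⟩
  obtain ⟨K, hK⟩ := Sylow.exists_subgroup_card_pow_prime (G := G ⧸ Cfsg.pResidual 2 G) 2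
    (n := k') (by rw [hk]; exact pow_dvd_pow 2 (Nat.le_succ k'))
  have hidx : K.index = 2 := by
    have := K.card_mul_index
    rw [hK, hk, pow_succ] at this
    exact Nat.eq_of_mul_eq_mul_left (pow_pos (by norm_num) k') this
  apply hno (K.comap (QuotientGroup.mk' (Cfsg.pResidual 2 G)))
  rw [Subgroup.index_comap_of_surjective _ (QuotientGroup.mk'_surjective _)]
  exact hidx

/-- the core of the argument: an involution of `S` centralizing the normal four-group -/
theorem case_centralizes {G : Type*} [Group G] [Finite G] (S : Subgroup G) (A₈ : Subgroup G)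
    (hA₈S : A₈ ≤ S) (hA₈card : Nat.card A₈ = 8) (hA₈exp : ∀ e ∈ A₈, e * e = 1)
    (z v : G) (hvS : v ∈ S) (hzz : z * z = 1) (hvv : v * v = 1) (hz1 : z ≠ 1)
    (hv1 : v ≠ 1) (hzv : z ≠ v)
    (hzc : ∀ s ∈ S, s * z = z * s) (hconj : ∀ s ∈ S, s * v * s⁻¹ = v ∨ s * v * s⁻¹ = z * v)
    (y : G) (hyS : y ∈ S) (hyy : y * y = 1) (hy1 : y ≠ 1) (hyv : y * v = v * y)
    (hnoE8 : ∀ E : Subgroup G, (∀ e ∈ E, y * e = e * y) → (∀ e ∈ E, e * e = 1) →
      Nat.card E ≠ 8) : False := by
  have hzvc : z * v = v * z := (hzc v hvS).symm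
  have hyz : y * z = z * y := hzc y hyS
  -- Step 1: `y ∈ V`
  have hyV : y ∈ fourSub z v hzz hvv hzvc := by
    by_contra hyV
    have hc : ∀ u ∈ fourSub z v hzz hvv hzvc, y * u = u * y := by
      intro u hu
      rcases mem_fourSub.mp hu with h | h | h | h
      · rw [h, mul_one, one_mul]
      · rw [h]; exact hyz
      · rw [h]; exact hyv
      · rw [h, ← mul_assoc, hyz, mul_assoc, hyv, mul_assoc]
    apply hnoE8 (extSub _ y hyy hc) (fun e he => commute_of_mem_extSub he)
      (fun e he => sq_extSub (fun u hu => sq_fourSub hu) he)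
    rw [card_extSub _ _ _ _ hyV, card_fourSub hzz hvv hzvc hz1 hv1 hzv]
  -- the `S`-conjugates of `y`
  have hA₈comm := comm_of_sq_mem A₈ hA₈exp
  rcases mem_fourSub.mp hyV with h | h | h | h
  · exact hy1 h
  · -- `y = z` is central in `S`
    apply hnoE8 A₈ (fun e he => by rw [h]; exact ((hzc e (hA₈S he))).symm) hA₈exp hA₈card
  all_goals
    have hconjy : ∀ s ∈ S, s * y * s⁻¹ = y ∨ s * y * s⁻¹ = z * y := by
      intro s hs
      first
      | (rw [h]; exact hconj s hs)
      | (rw [h]
         have e : s * (z * v) * s⁻¹ = (s * z * s⁻¹) * (s * v * s⁻¹) := by group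
         have hsz : s * z * s⁻¹ = z := by rw [hzc s hs, mul_assoc, mul_inv_cancel, mul_one]
         rw [e, hsz]
         rcases hconj s hs with h' | h'
         · left; rw [h']
         · right; rw [h'])
    have hzy : z * y ≠ y := by
      intro h'
      apply hz1
      have : z * y = 1 * y := by rw [one_mul]; exact h'
      exact mul_right_cancel this
    by_cases hall : ∀ a ∈ A₈, y * a = a * y
    · exact hnoE8 A₈ hall hA₈exp hA₈card
    push Not at hall
    obtain ⟨a₀, ha₀, ha₀y⟩ := hall
    have hnc : ∀ s ∈ S, y * s ≠ s * y → s * y * s⁻¹ = z * y := by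
      intro s hs hne
      rcases hconjy s hs with h' | h'
      · exfalso
        apply hne
        calc y * s = (s * y * s⁻¹)⁻¹⁻¹ * s := by rw [inv_inv, h']
          _ = s * y := by rw [inv_inv]; group
      · exact h'
    set B := A₈ ⊓ Subgroup.centralizer ({y} : Set G) with hB
    have hmemB : ∀ a, a ∈ B ↔ a ∈ A₈ ∧ y * a = a * y := by
      intro a
      rw [hB, Subgroup.mem_inf, Subgroup.mem_centralizer_singleton_iff, eq_comm]
    have hc : ∀ u ∈ B, a₀ * u = u * a₀ := fun u hu => hA₈comm a₀ ha₀ u ((hmemB u).mp hu).1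
    have ha₀a₀ : a₀ * a₀ = 1 := hA₈exp a₀ ha₀
    have hEeq : A₈ = extSub B a₀ ha₀a₀ hc := by
      ext w
      rw [mem_extSub]
      constructor
      · intro hw
        by_cases hwy : y * w = w * y
        · exact Or.inl ((hmemB w).mpr ⟨hw, hwy⟩)
        · right
          refine (hmemB _).mpr ⟨A₈.mul_mem ha₀ hw, ?_⟩
          have h1 := hnc w (hA₈S hw) hwy
          have h2 := hnc a₀ (hA₈S ha₀) ha₀y
          have hza₀ : a₀ * z * a₀⁻¹ = z := by
            rw [hzc a₀ (hA₈S ha₀), mul_assoc, mul_inv_cancel, mul_one]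
          have h3 : (a₀ * w) * y * (a₀ * w)⁻¹ = y := by
            calc (a₀ * w) * y * (a₀ * w)⁻¹ = a₀ * (w * y * w⁻¹) * a₀⁻¹ := by group
              _ = a₀ * (z * y) * a₀⁻¹ := by rw [h1]
              _ = (a₀ * z * a₀⁻¹) * (a₀ * y * a₀⁻¹) := by group
              _ = z * (z * y) := by rw [hza₀, h2]
              _ = y := by rw [← mul_assoc, hzz, one_mul]
          calc y * (a₀ * w) = ((a₀ * w) * y * (a₀ * w)⁻¹) * (a₀ * w) := by rw [h3]
            _ = (a₀ * w) * y := by group
      · rintro (hw | hw)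
        · exact ((hmemB w).mp hw).1
        · have : w = a₀⁻¹ * (a₀ * w) := by group
          rw [this]
          exact A₈.mul_mem (A₈.inv_mem ha₀) ((hmemB _).mp hw).1
    have ha₀B : a₀ ∉ B := fun h' => ha₀y ((hmemB a₀).mp h').2
    have hcardB : Nat.card B = 4 := by
      have := card_extSub B a₀ ha₀a₀ hc ha₀B
      rw [← hEeq, hA₈card] at this
      omega
    have hyB : y ∈ B := by
      by_contra hyB
      have hcy : ∀ u ∈ B, y * u = u * y := fun u hu => ((hmemB u).mp hu).2
      apply hnoE8 (extSub B y hyy hcy) (fun e he => commute_of_mem_extSub he)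
        (fun e he => sq_extSub (fun u hu => hA₈exp u ((hmemB u).mp hu).1) he)
      rw [card_extSub _ _ _ _ hyB, hcardB]
    exact ha₀y (hA₈comm y ((hmemB y).mp hyB).1 a₀ ha₀)

/-- Let G be a finite group with no subgroup of index 2 whose 2-rank is at least 3 (it contains an elementary abelian subgroup of order 8). Then the centralizer of every involution of G also contains an elementary abelian subgroup of order 8. -/
theorem result {G : Type*} [Group G] [Finite G] (hno : ∀ H : Subgroup G, H.index ≠ 2) (hrank : ∃ E : Subgroup G, Nat.card E = 8 ∧ ∀ e ∈ E, e ^ 2 = 1) (x : G) (hx : orderOf x = 2) : ∃ E : Subgroup G, E ≤ Subgroup.centralizer ({x} : Set G) ∧ Nat.card E = 8 ∧ ∀ e ∈ E, e ^ 2 = 1 := by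
  classical
  haveI : Fact (Nat.Prime 2) := ⟨Nat.prime_two⟩
  by_contra hcon
  push Not at hcon
  have hO := pResidual_eq_top_of_no_index_two hno
  have hxx : x * x = 1 := by rw [← pow_two, ← hx, pow_orderOf_eq_one]
  have hx1 : x ≠ 1 := by
    rintro rfl
    rw [orderOf_one] at hx
    omega
  -- no `E₈` in the centralizer of a conjugate of `x`
  have hnoE8 : ∀ (g : G) (E : Subgroup G), (∀ e ∈ E, (g * x * g⁻¹) * e = e * (g * x * g⁻¹)) →
      (∀ e ∈ E, e * e = 1) → Nat.card E ≠ 8 := by
    intro g E hc hexp hcard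
    obtain ⟨e, he, hne⟩ := hcon (E.map (MulAut.conj g⁻¹).toMonoidHom) (by
      rintro _ ⟨e, he, rfl⟩
      rw [Subgroup.mem_centralizer_singleton_iff]
      have := hc e he
      simp only [MulEquiv.coe_toMonoidHom, MulAut.conj_apply, inv_inv]
      symm
      calc x * (g⁻¹ * e * g) = g⁻¹ * ((g * x * g⁻¹) * e) * g := by group
        _ = g⁻¹ * (e * (g * x * g⁻¹)) * g := by rw [this]
        _ = g⁻¹ * e * g * x := by group) (by
      rw [Subgroup.card_map_of_injective (MulAut.conj g⁻¹).injective]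
      exact hcard)
    apply hne
    obtain ⟨e', he', rfl⟩ := he
    simp only [MulEquiv.coe_toMonoidHom, MulAut.conj_apply, inv_inv]
    rw [pow_two]
    calc g⁻¹ * e' * g * (g⁻¹ * e' * g) = g⁻¹ * (e' * e') * g := by group
      _ = 1 := by rw [hexp e' he']; group
  obtain ⟨E₀, hE₀8, hE₀exp⟩ := hrank
  -- a Sylow 2-subgroup containing `x`
  have hZ : IsPGroup 2 (Subgroup.zpowers x) := by
    apply IsPGroup.of_card (n := 1)
    rw [Nat.card_zpowers, hx, pow_one]
  obtain ⟨S, hS⟩ := hZ.exists_le_sylow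
  have hxS : x ∈ S := hS (Subgroup.mem_zpowers x)
  -- conjugate `E₀` into `S`
  have hE₀p : IsPGroup 2 E₀ := IsPGroup.of_card (n := 3) (by rw [hE₀8]; norm_num)
  obtain ⟨Q, hQ⟩ := hE₀p.exists_le_sylow
  obtain ⟨k, hk⟩ := MulAction.exists_smul_eq G Q S
  set A₈ := E₀.map (MulAut.conj k).toMonoidHom with hA₈
  have hA₈S : A₈ ≤ S := by
    rintro _ ⟨e, he, rfl⟩
    rw [← hk, Sylow.coe_subgroup_smul, Subgroup.mem_pointwise_smul_iff_inv_smul_mem]
    simp only [MulAut.smul_def, MulEquiv.coe_toMonoidHom, MulAut.conj_apply, map_inv,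
      MulAut.conj_inv_apply]
    have : k⁻¹ * (k * e * k⁻¹) * k = e := by group
    rw [this]
    exact hQ he
  have hA₈card : Nat.card A₈ = 8 := by
    rw [hA₈, Subgroup.card_map_of_injective (MulAut.conj k).injective]
    exact hE₀8
  have hA₈exp : ∀ e ∈ A₈, e * e = 1 := by
    rintro _ ⟨e, he, rfl⟩
    simp only [MulEquiv.coe_toMonoidHom, MulAut.conj_apply]
    have := hE₀exp e he
    rw [pow_two] at this
    calc k * e * k⁻¹ * (k * e * k⁻¹) = k * (e * e) * k⁻¹ := by group
      _ = 1 := by rw [this]; group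
  obtain ⟨z, v, hzS, hvS, hzz, hvv, hz1, hv1, hzv, hzc, hconj⟩ :=
    normal_four_data_subgroup (S : Subgroup G) S.isPGroup' A₈ hA₈S hA₈card hA₈exp
  by_cases hxv : x * v = v * x
  · -- `x` centralizes the four-group
    refine case_centralizes (S : Subgroup G) A₈ hA₈S hA₈card hA₈exp z v hvS hzz hvv hz1 hv1 hzv
      hzc hconj x hxS hxx hx1 hxv ?_
    intro E hc hexp
    apply hnoE8 1 E _ hexp
    intro e he
    simp only [one_mul, inv_one, mul_one]
    exact hc e he
  · -- Thompson transfer
    have hzvne : z * v ≠ v := by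
      intro h'
      apply hz1
      have : z * v = 1 * v := by rw [one_mul]; exact h'
      exact mul_right_cancel this
    have hnc : ∀ s ∈ (S : Subgroup G), v * s ≠ s * v → s * v * s⁻¹ = z * v := by
      intro s hs hne
      rcases hconj s hs with h' | h'
      · exfalso
        apply hne
        calc v * s = (s * v * s⁻¹)⁻¹⁻¹ * s := by rw [inv_inv, h']
          _ = s * v := by rw [inv_inv]; group
      · exact h'
    set M : Subgroup ↥(S : Subgroup G) :=
      (Subgroup.centralizer ({v} : Set G)).subgroupOf (S : Subgroup G) with hM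
    have hmemM : ∀ s : ↥(S : Subgroup G), s ∈ M ↔ v * (s : G) = (s : G) * v := by
      intro s
      rw [hM, Subgroup.mem_subgroupOf, Subgroup.mem_centralizer_singleton_iff, eq_comm]
    have hxvconj : x * v * x⁻¹ = z * v := hnc x hxS (fun h => hxv h.symm)
    have hidx : M.index = 2 := by
      rw [Subgroup.index_eq_two_iff]
      refine ⟨⟨x, hxS⟩, ?_⟩
      rintro ⟨b, hb⟩
      rw [hmemM, hmemM]
      simp only [Subgroup.coe_mul]
      have hbz : b * z * b⁻¹ = z := by rw [hzc b hb, mul_assoc, mul_inv_cancel, mul_one]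
      by_cases hbv : v * b = b * v
      · right
        refine ⟨hbv, ?_⟩
        intro h'
        -- `(b x) v (b x)⁻¹ = z v ≠ v`
        have h1 : (b * x) * v * (b * x)⁻¹ = z * v := by
          calc (b * x) * v * (b * x)⁻¹ = b * (x * v * x⁻¹) * b⁻¹ := by group
            _ = b * (z * v) * b⁻¹ := by rw [hxvconj]
            _ = (b * z * b⁻¹) * (b * v * b⁻¹) := by group
            _ = z * v := by
              rw [hbz]
              congr 1
              rw [← hbv]; group
        have h2 : (b * x) * v * (b * x)⁻¹ = v := by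
          rw [← h']; group
        exact hzvne (h1.symm.trans h2)
      · left
        refine ⟨?_, hbv⟩
        have h0 := hnc b hb hbv
        have h1 : (b * x) * v * (b * x)⁻¹ = v := by
          calc (b * x) * v * (b * x)⁻¹ = b * (x * v * x⁻¹) * b⁻¹ := by group
            _ = b * (z * v) * b⁻¹ := by rw [hxvconj]
            _ = (b * z * b⁻¹) * (b * v * b⁻¹) := by group
            _ = z * (z * v) := by rw [hbz, h0]
            _ = v := by rw [← mul_assoc, hzz, one_mul]
        calc v * (b * x) = ((b * x) * v * (b * x)⁻¹) * (b * x) := by rw [h1]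
          _ = b * x * v := by group
    obtain ⟨g, hgS, hgM⟩ :=
      Cfsg.Agent.Helper31.exists_conj_mem_of_index_two hO S M hidx x hx hxS
    have hyv : v * (g * x * g⁻¹) = (g * x * g⁻¹) * v := (hmemM _).mp hgM
    refine case_centralizes (S : Subgroup G) A₈ hA₈S hA₈card hA₈exp z v hvS hzz hvv hz1 hv1 hzv
      hzc hconj (g * x * g⁻¹) hgS ?_ ?_ hyv.symm ?_
    · calc g * x * g⁻¹ * (g * x * g⁻¹) = g * (x * x) * g⁻¹ := by group
        _ = 1 := by rw [hxx]; group
    · intro h'
      apply hx1
      have : x = g⁻¹ * (g * x * g⁻¹) * g := by group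
      rw [this, h']; group
    · intro E hc hexp
      exact hnoE8 g E hc hexp

end Cfsg.Agent.S0221
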