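import Cfsg.Statements.S1910
import Cfsg.Agent.Lib.Helper2.Frobenius

set_option autoImplicit false
open Cfsg

namespace Cfsg.Agent.S1910

open Subgroup
open scoped Pointwise commutatorElement

section helpers

variable {G : Type*} [Group G]

/-- conjugate of a subgroup -/
abbrev cj (g : G) (H : Subgroup G) : Subgroup G := H.map (MulAut.conj g).toMonoidHom

theorem mem_cj {g : G} {H : Subgroup G} {x : G} : x ∈ cj g H ↔ g⁻¹ * x * g ∈ H := by
  constructor
  · rintro ⟨h, hh, rfl⟩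
    simpa [MulAut.conj_apply, mul_assoc] using hh
  · intro h
    exact ⟨g⁻¹ * x * g, h, by simp [MulAut.conj_apply, mul_assoc]⟩

theorem conj_mem_cj {g : G} {H : Subgroup G} {x : G} (hx : x ∈ H) : g * x * g⁻¹ ∈ cj g H :=
  ⟨x, hx, by simp [MulAut.conj_apply]⟩

theorem cj_cj (a b : G) (H : Subgroup G) : cj a (cj b H) = cj (a * b) H := by
  ext x
  simp only [mem_cj]
  have e : b⁻¹ * (a⁻¹ * x * a) * b = (a * b)⁻¹ * x * (a * b) := by group
  rw [e]

theorem cj_one (H : Subgroup G) : cj 1 H = H := by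
  ext x
  rw [mem_cj]
  simp

theorem card_cj (g : G) (H : Subgroup G) : Nat.card (cj g H) = Nat.card H :=
  card_map_of_injective (MulAut.conj g).injective

theorem cj_inf (g : G) (H K : Subgroup G) : cj g (H ⊓ K) = cj g H ⊓ cj g K := by
  ext x
  simp only [mem_cj, mem_inf]

theorem cj_mono (g : G) {H K : Subgroup G} (h : H ≤ K) : cj g H ≤ cj g K := Subgroup.map_mono h

theorem mem_normalizer_iff_cj {g : G} {H : Subgroup G} : g ∈ normalizer (H : Set G) ↔ cj g H = H := by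
  rw [mem_normalizer_iff_map_conj_eq]
  rfl

theorem mem_normalizer_cj {g h : G} {H : Subgroup G} :
    h ∈ normalizer ((cj g H : Subgroup G) : Set G) ↔ g⁻¹ * h * g ∈ normalizer (H : Set G) := by
  rw [mem_normalizer_iff_cj, mem_normalizer_iff_cj, cj_cj]
  constructor
  · intro h1
    have h2 := congrArg (cj g⁻¹) h1
    rw [cj_cj, cj_cj, inv_mul_cancel, cj_one] at h2
    have e : g⁻¹ * h * g = g⁻¹ * (h * g) := by group
    rw [e]; exact h2
  · intro h1
    have h2 := congrArg (cj g) h1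
    rw [cj_cj] at h2
    have e : g * (g⁻¹ * h * g) = h * g := by group
    rw [e] at h2
    exact h2

/-- a `2`-subgroup of a subgroup of odd order is trivial -/
theorem eq_bot_of_two_group_of_odd [Finite G] {H K : Subgroup G} (hHK : H ≤ K) (hH : IsPGroup 2 H)
    (hK : Odd (Nat.card K)) : H = ⊥ := by
  haveI : Fact (Nat.Prime 2) := ⟨Nat.prime_two⟩
  obtain ⟨k, hk⟩ := IsPGroup.iff_card.mp hH
  have h1 : Nat.card H ∣ Nat.card K := card_dvd_of_le hHK
  rcases Nat.eq_zero_or_pos k with h0 | hpos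
  · rw [h0, pow_zero] at hk
    exact card_eq_one.mp hk
  · exfalso
    have h2 : 2 ∣ Nat.card K := by
      refine Dvd.dvd.trans ?_ h1
      rw [hk]
      exact dvd_pow_self 2 hpos.ne'
    exact (Nat.not_even_iff_odd.mpr hK) (even_iff_two_dvd.mpr h2)

theorem eq_one_of_mem_two_group_of_mem_odd [Finite G] {R K : Subgroup G} (hR : IsPGroup 2 R)
    (hK : Odd (Nat.card K)) {r : G} (hrR : r ∈ R) (hrK : r ∈ K) : r = 1 := by
  have h1 : R ⊓ K = ⊥ := eq_bot_of_two_group_of_odd inf_le_right (hR.to_le inf_le_left) hK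
  have : r ∈ R ⊓ K := ⟨hrR, hrK⟩
  rw [h1, mem_bot] at this
  exact this

/-- Sylow `p`-subgroup of a subgroup `M` containing a given `p`-subgroup. -/
theorem exists_sylow_in [Finite G] (p : ℕ) [Fact p.Prime] (M R : Subgroup G) (hRM : R ≤ M) (hR : IsPGroup p R) :
    ∃ R₁ : Subgroup G, R ≤ R₁ ∧ R₁ ≤ M ∧ IsPGroup p R₁ ∧ ¬ p ∣ R₁.relIndex M := by
  have hR' : IsPGroup p (R.subgroupOf M) := hR.comap_subtype
  obtain ⟨P', hP'⟩ := hR'.exists_le_sylow
  refine ⟨(P' : Subgroup M).map M.subtype, ?_, map_subtype_le _, P'.2.map _, ?_⟩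
  · intro r hr
    exact ⟨⟨r, hRM hr⟩, hP' (mem_subgroupOf.mpr hr), rfl⟩
  · have h2 : ((P' : Subgroup M).map M.subtype).relIndex M = (P' : Subgroup M).index := by
      rw [relIndex]
      congr 1
      exact comap_map_eq_self_of_injective M.subtype_injective _
    rw [h2]
    exact P'.not_dvd_index

/-- elements of `T ⊔ R` are products when `R` normalizes `T`. -/
theorem exists_mul_of_mem_sup {T R : Subgroup G} (hRT : R ≤ normalizer (T : Set G)) {u : G}
    (hu : u ∈ T ⊔ R) : ∃ t ∈ T, ∃ r ∈ R, u = t * r := by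
  have h1 : ((T ⊔ R : Subgroup G) : Set G) = (T : Set G) * (R : Set G) := by
    exact coe_mul_of_right_le_normalizer_left T R hRT
  have h2 : u ∈ (T : Set G) * (R : Set G) := by rw [← h1]; exact hu
  obtain ⟨t, ht, r, hr, htr⟩ := Set.mem_mul.mp h2
  exact ⟨t, ht, r, hr, htr.symm⟩

/-- In an internal direct product `T × R`, a subgroup `V` meeting `T` trivially embeds in `R`. -/
theorem exists_injective_hom_of_direct {T R V : Subgroup G}
    (hcomm : ∀ t ∈ T, ∀ r ∈ R, t * r = r * t) (hTR : T ⊓ R = ⊥)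
    (hV : ∀ u ∈ V, ∃ t ∈ T, ∃ r ∈ R, u = t * r) (hVT : V ⊓ T = ⊥) :
    ∃ ψ : V →* R, Function.Injective ψ := by
  classical
  have huniq : ∀ t ∈ T, ∀ r ∈ R, ∀ t' ∈ T, ∀ r' ∈ R, t * r = t' * r' → r = r' := by
    intro t ht r hr t' ht' r' hr' h
    have h1 : t'⁻¹ * t = r' * r⁻¹ := by
      calc t'⁻¹ * t = t'⁻¹ * (t * r) * r⁻¹ := by group
        _ = t'⁻¹ * (t' * r') * r⁻¹ := by rw [h]
        _ = r' * r⁻¹ := by group
    have h2 : t'⁻¹ * t ∈ T ⊓ R := ⟨T.mul_mem (T.inv_mem ht') ht, by rw [h1]; exact R.mul_mem hr' (R.inv_mem hr)⟩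
    rw [hTR, mem_bot] at h2
    rw [h2] at h1
    have : r' = r := by
      calc r' = (r' * r⁻¹) * r := by group
        _ = r := by rw [← h1, one_mul]
    exact this.symm
  choose tf htf rf hrf huf using hV
  let ψf : V → R := fun u => ⟨rf u.1 u.2, hrf u.1 u.2⟩
  have hmul : ∀ a b : V, ψf (a * b) = ψf a * ψf b := by
    intro a b
    apply Subtype.ext
    show rf (a * b : V).1 (a * b : V).2 = rf a.1 a.2 * rf b.1 b.2
    have h1 := huf (a * b : V).1 (a * b : V).2
    have h2 : ((a * b : V) : G) = (tf a.1 a.2 * tf b.1 b.2) * (rf a.1 a.2 * rf b.1 b.2) := by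
      rw [Subgroup.coe_mul]
      conv_lhs => rw [huf a.1 a.2, huf b.1 b.2]
      have c1 := hcomm (tf b.1 b.2) (htf b.1 b.2) (rf a.1 a.2) (hrf a.1 a.2)
      calc tf a.1 a.2 * rf a.1 a.2 * (tf b.1 b.2 * rf b.1 b.2)
          = tf a.1 a.2 * (rf a.1 a.2 * tf b.1 b.2) * rf b.1 b.2 := by group
        _ = tf a.1 a.2 * (tf b.1 b.2 * rf a.1 a.2) * rf b.1 b.2 := by rw [c1]
        _ = (tf a.1 a.2 * tf b.1 b.2) * (rf a.1 a.2 * rf b.1 b.2) := by group
    rw [h1] at h2
    exact huniq _ (htf _ _) _ (hrf _ _) _ (T.mul_mem (htf _ _) (htf _ _)) _ (R.mul_mem (hrf _ _) (hrf _ _)) h2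
  refine ⟨MonoidHom.mk' ψf hmul, ?_⟩
  rw [injective_iff_map_eq_one]
  intro a ha
  have h1 : rf a.1 a.2 = 1 := congrArg Subtype.val ha
  have h2 := huf a.1 a.2
  rw [h1, mul_one] at h2
  have h3 : (a : G) ∈ V ⊓ T := ⟨a.2, by rw [h2]; exact htf _ _⟩
  rw [hVT, mem_bot] at h3
  exact Subtype.ext h3

/-- `|H ⊔ K| = |H| |K|` if `K` normalizes `H` and `H ⊓ K = ⊥`. -/
theorem card_sup_eq_mul [Finite G] (H K : Subgroup G) (hK : K ≤ normalizer (H : Set G)) (h : H ⊓ K = ⊥) :
    Nat.card (H ⊔ K : Subgroup G) = Nat.card H * Nat.card K := by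
  rw [← Nat.card_prod]
  symm
  let f : H × K → (H ⊔ K : Subgroup G) := fun x =>
    ⟨(x.1 : G) * (x.2 : G), Subgroup.mul_mem_sup x.1.2 x.2.2⟩
  apply Nat.card_congr (Equiv.ofBijective f ⟨?_, ?_⟩)
  · rintro ⟨a, b⟩ ⟨a', b'⟩ hab
    have h0 : (a : G) * (b : G) = (a' : G) * (b' : G) := congrArg Subtype.val hab
    have h1 : (a' : G)⁻¹ * (a : G) = (b' : G) * (b : G)⁻¹ := by
      calc (a' : G)⁻¹ * (a : G) = (a' : G)⁻¹ * ((a : G) * (b : G)) * (b : G)⁻¹ := by group
        _ = (a' : G)⁻¹ * ((a' : G) * (b' : G)) * (b : G)⁻¹ := by rw [h0]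
        _ = (b' : G) * (b : G)⁻¹ := by group
    have h2 : (a' : G)⁻¹ * (a : G) ∈ H ⊓ K :=
      ⟨H.mul_mem (H.inv_mem a'.2) a.2, by rw [h1]; exact K.mul_mem b'.2 (K.inv_mem b.2)⟩
    rw [h, mem_bot] at h2
    have h3 : (a : G) = (a' : G) := by
      calc (a : G) = (a' : G) * ((a' : G)⁻¹ * (a : G)) := by group
        _ = (a' : G) := by rw [h2, mul_one]
    have h4 : (b : G) = (b' : G) := by
      rw [h3] at h0
      exact mul_left_cancel h0
    exact Prod.ext (Subtype.ext h3) (Subtype.ext h4)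
  · rintro ⟨u, hu⟩
    obtain ⟨t, ht, r, hr, hutr⟩ := exists_mul_of_mem_sup hK hu
    exact ⟨(⟨t, ht⟩, ⟨r, hr⟩), Subtype.ext hutr.symm⟩

theorem card_eq_card_mul_relIndex [Finite G] {H K : Subgroup G} (h : H ≤ K) :
    Nat.card K = Nat.card H * H.relIndex K := by
  have h1 := relIndex_mul_relIndex (⊥ : Subgroup G) H K bot_le h
  rw [relIndex_bot_left, relIndex_bot_left] at h1
  exact h1.symm

theorem tight_cj [Finite G] (X : Subgroup G)
    (hX : ∀ h : G, h ∉ normalizer (X : Set G) → Odd (Nat.card ↥(X ⊓ cj h X))) (g : G) :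
    ∀ h : G, h ∉ normalizer ((cj g X : Subgroup G) : Set G) → Odd (Nat.card ↥(cj g X ⊓ cj h (cj g X))) := by
  intro h hh
  have h1 : g⁻¹ * h * g ∉ normalizer (X : Set G) := fun hc => hh (mem_normalizer_cj.mpr hc)
  have h2 := hX _ h1
  have h3 : cj g (X ⊓ cj (g⁻¹ * h * g) X) = cj g X ⊓ cj h (cj g X) := by
    rw [cj_inf, cj_cj, cj_cj]
    have e : g * (g⁻¹ * h * g) = h * g := by group
    rw [e]
  rw [← h3, card_cj]
  exact h2

/-- The general lemma. -/
theorem lemmaL [Finite G] (X : Subgroup G)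
    (hX : ∀ h : G, h ∉ normalizer (X : Set G) → Odd (Nat.card ↥(X ⊓ cj h X)))
    (g : G) (hg : g ∉ normalizer (X : Set G))
    (T : Subgroup G) (hT1 : T ≠ ⊥) (hTY : T ≤ cj g X) (hTN : T ≤ normalizer (X : Set G)) (hT2 : IsPGroup 2 T)
    (S : Subgroup G) (hTS : T ≤ S) (hS : S ≤ X ⊔ T) (hS2 : IsPGroup 2 S) (hSsyl : ¬ 2 ∣ S.relIndex (X ⊔ T)) :
    T ⊓ X = ⊥ ∧ ⁅T, S ⊓ normalizer (T : Set G) ⊓ X⁆ = ⊥ ∧
    T ⊔ (S ⊓ normalizer (T : Set G) ⊓ X) = S ⊓ normalizer (T : Set G) ∧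
    S ⊓ normalizer (T : Set G) ⊓ X ≤ normalizer ((cj g X : Subgroup G) : Set G) ∧
    Nat.card T ≤ Nat.card ↥(S ⊓ normalizer (T : Set G) ⊓ X) ∧
    (Nat.card ↥(S ⊓ normalizer (T : Set G) ⊓ X) ≤ Nat.card T →
      Nonempty (↥(S ⊓ normalizer (T : Set G) ⊓ X) ≃* T)) := by
  haveI : Fact (Nat.Prime 2) := ⟨Nat.prime_two⟩
  set Y := cj g X with hYdef
  have hXY : Odd (Nat.card ↥(X ⊓ Y)) := hX g hg
  have hY : ∀ h : G, h ∉ normalizer (Y : Set G) → Odd (Nat.card ↥(Y ⊓ cj h Y)) := by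
    intro h hh
    have h1 : g⁻¹ * h * g ∉ normalizer (X : Set G) := fun hc => hh (mem_normalizer_cj.mpr hc)
    have h2 := hX _ h1
    have h3 : cj g (X ⊓ cj (g⁻¹ * h * g) X) = Y ⊓ cj h Y := by
      rw [cj_inf, cj_cj, hYdef, cj_cj]
      have e : g * (g⁻¹ * h * g) = h * g := by group
      rw [e]
    rw [← h3, card_cj]
    exact h2
  set R := S ⊓ normalizer (T : Set G) ⊓ X with hRdef
  have hRS : R ≤ S := inf_le_left.trans inf_le_left
  have hRN : R ≤ normalizer (T : Set G) := inf_le_left.trans inf_le_right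
  have hRX : R ≤ X := inf_le_right
  have hR2 : IsPGroup 2 R := hS2.to_le hRS
  -- (a)
  have ha : T ⊓ X = ⊥ :=
    eq_bot_of_two_group_of_odd (le_inf inf_le_right (inf_le_left.trans hTY)) (hT2.to_le inf_le_left) hXY
  -- (b)
  have hcomm : ∀ t ∈ T, ∀ r ∈ R, t * r = r * t := by
    intro t ht r hr
    have h1 : t * r * t⁻¹ * r⁻¹ ∈ T ⊓ X := by
      constructor
      · have e : t * r * t⁻¹ * r⁻¹ = t * (r * t⁻¹ * r⁻¹) := by group
        rw [e]
        exact T.mul_mem ht ((mem_normalizer_iff.mp (hRN hr) t⁻¹).mp (T.inv_mem ht))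
      · exact X.mul_mem ((mem_normalizer_iff.mp (hTN ht) r).mp (hRX hr)) (X.inv_mem (hRX hr))
    rw [ha, mem_bot] at h1
    calc t * r = (t * r * t⁻¹ * r⁻¹) * (r * t) := by group
      _ = r * t := by rw [h1, one_mul]
  have hb : ⁅T, R⁆ = ⊥ := by
    rw [eq_bot_iff, commutator_le]
    intro t ht r hr
    rw [mem_bot, commutatorElement_def, hcomm t ht r hr]
    group
  have hTRinf : T ⊓ R = ⊥ := by
    rw [eq_bot_iff, ← ha]
    exact inf_le_inf_left T hRX
  -- (c)
  have hc : T ⊔ R = S ⊓ normalizer (T : Set G) := by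
    apply le_antisymm
    · exact sup_le (le_inf hTS le_normalizer) inf_le_left
    · intro s hs
      obtain ⟨x, hx, t, ht, hsxt⟩ := exists_mul_of_mem_sup hTN (hS hs.1)
      have hxR : x ∈ R := by
        have e : x = s * t⁻¹ := by rw [hsxt]; group
        refine ⟨⟨?_, ?_⟩, hx⟩
        · rw [e]; exact S.mul_mem hs.1 (S.inv_mem (hTS ht))
        · rw [e]
          exact (normalizer (T : Set G)).mul_mem hs.2 ((normalizer (T : Set G)).inv_mem (le_normalizer ht))
      rw [hsxt, sup_comm]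
      exact Subgroup.mul_mem_sup hxR ht
  -- (d)
  have hd : R ≤ normalizer (Y : Set G) := by
    obtain ⟨t', ht'⟩ := (Subgroup.ne_bot_iff_exists_ne_one).mp hT1
    obtain ⟨t, htT, ht1⟩ : ∃ t ∈ T, t ≠ 1 := ⟨t'.1, t'.2, fun h => ht' (Subtype.ext h)⟩
    intro r hr
    by_contra hcon
    have hodd := hY r hcon
    apply ht1
    apply eq_one_of_mem_two_group_of_mem_odd hT2 hodd htT
    refine ⟨hTY htT, ?_⟩
    have e : t = r * t * r⁻¹ := by rw [← hcomm t htT r hr]; group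
    rw [e]
    exact conj_mem_cj (hTY htT)
  refine ⟨ha, hb, hc, hd, ?_⟩
  by_cases hSN : S ≤ normalizer (T : Set G)
  · -- case B1
    have hNT : S ⊓ normalizer (T : Set G) = S := inf_of_le_left hSN
    have hTRS : T ⊔ R = S := by rw [hc, hNT]
    have hcS : Nat.card S = Nat.card T * Nat.card R := by
      rw [← hTRS]; exact card_sup_eq_mul T R hRN hTRinf
    have hXT : X ⊓ T = ⊥ := by rw [inf_comm]; exact ha
    have hcXT : Nat.card (X ⊔ T : Subgroup G) = Nat.card X * Nat.card T := card_sup_eq_mul X T hTN hXT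
    set j := S.relIndex (X ⊔ T) with hj
    have h1 : Nat.card (X ⊔ T : Subgroup G) = Nat.card S * j := card_eq_card_mul_relIndex hS
    have hcX : Nat.card X = Nat.card R * j := by
      have h2 : Nat.card T * Nat.card X = Nat.card T * (Nat.card R * j) := by
        calc Nat.card T * Nat.card X = Nat.card X * Nat.card T := mul_comm _ _
          _ = Nat.card (X ⊔ T : Subgroup G) := hcXT.symm
          _ = Nat.card S * j := h1
          _ = Nat.card T * (Nat.card R * j) := by rw [hcS, mul_assoc]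
      exact Nat.eq_of_mul_eq_mul_left Nat.card_pos h2
    have hjodd : Nat.Coprime 2 j := (Nat.Prime.coprime_iff_not_dvd Nat.prime_two).mpr hSsyl
    obtain ⟨a, hTa⟩ := IsPGroup.iff_card.mp hT2
    have hcY : Nat.card Y = Nat.card X := card_cj g X
    have hTdvd : Nat.card T ∣ Nat.card R := by
      have h2 : Nat.card T ∣ Nat.card R * j := by
        rw [← hcX, ← hcY]; exact card_dvd_of_le hTY
      have hcop : (Nat.card T).Coprime j := by rw [hTa]; exact Nat.Coprime.pow_left a hjodd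
      exact hcop.dvd_of_dvd_mul_right h2
    refine ⟨Nat.le_of_dvd Nat.card_pos hTdvd, ?_⟩
    intro hle
    have heq : Nat.card R = Nat.card T := le_antisymm hle (Nat.le_of_dvd Nat.card_pos hTdvd)
    -- Sylow subgroups of `Y`
    have hRgY : cj g R ≤ Y := cj_mono g hRX
    have hidx1 : ((cj g R).subgroupOf Y).index = j := by
      show (cj g R).relIndex Y = j
      rw [hYdef]
      have h2 : (cj g R).relIndex (cj g X) = R.relIndex X :=
        relIndex_map_map_of_injective R X (MulAut.conj g).injective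
      rw [h2]
      have h3 := card_eq_card_mul_relIndex hRX
      rw [hcX] at h3
      exact (Nat.eq_of_mul_eq_mul_left Nat.card_pos h3).symm
    have hidx2 : (T.subgroupOf Y).index = j := by
      show T.relIndex Y = j
      have h3 := card_eq_card_mul_relIndex hTY
      rw [hcY, hcX, heq] at h3
      exact (Nat.eq_of_mul_eq_mul_left Nat.card_pos h3).symm
    have hp1 : IsPGroup 2 ((cj g R).subgroupOf Y) := (hR2.map _).comap_subtype
    have hp2 : IsPGroup 2 (T.subgroupOf Y) := hT2.comap_subtype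
    let P₁ : Sylow 2 Y := hp1.toSylow (by rw [hidx1]; exact hSsyl)
    let P₂ : Sylow 2 Y := hp2.toSylow (by rw [hidx2]; exact hSsyl)
    have e1 : R ≃* cj g R := (MulAut.conj g).subgroupMap R
    have e2 : (cj g R).subgroupOf Y ≃* cj g R := subgroupOfEquivOfLe hRgY
    have e3 : (P₁ : Subgroup Y) ≃* (P₂ : Subgroup Y) := Sylow.equiv P₁ P₂
    have e4 : T.subgroupOf Y ≃* T := subgroupOfEquivOfLe hTY
    exact ⟨e1.trans (e2.symm.trans (e3.trans e4))⟩
  · -- case B2
    have hlt : S ⊓ normalizer (T : Set G) < S := by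
      apply lt_of_le_of_ne inf_le_left
      intro h
      apply hSN
      rw [← h]; exact inf_le_right
    obtain ⟨s, hsS, hsN, hsNT⟩ := Cfsg.Agent.Helper2.exists_mem_normalizer_not_mem hS2 hlt
    have hsT : s ∉ normalizer (T : Set G) := fun h => hsNT ⟨hsS, h⟩
    set V := cj s T with hV
    have hVNT : V ≤ S ⊓ normalizer (T : Set G) := by
      rintro u ⟨t, ht, rfl⟩
      have htNT : t ∈ S ⊓ normalizer (T : Set G) := ⟨hTS ht, le_normalizer ht⟩
      have := (mem_normalizer_iff.mp hsN t).mp htNT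
      simpa [MulAut.conj_apply] using this
    have hVdec : ∀ u ∈ V, ∃ t ∈ T, ∃ r ∈ R, u = t * r := by
      intro u hu
      have : u ∈ T ⊔ R := by rw [hc]; exact hVNT hu
      exact exists_mul_of_mem_sup hRN this
    have hsX : s ∈ normalizer (X : Set G) := by
      have : X ⊔ T ≤ normalizer (X : Set G) := sup_le le_normalizer hTN
      exact this (hS hsS)
    have hsY : s ∉ normalizer (Y : Set G) := by
      intro hsY
      apply hsT
      rw [mem_normalizer_iff_cj]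
      have hVT : V ≤ T := by
        intro u hu
        obtain ⟨t, ht, r, hr, hutr⟩ := hVdec u hu
        have huY : u ∈ Y := by
          have h1 : V ≤ cj s Y := cj_mono s hTY
          have h2 : cj s Y = Y := mem_normalizer_iff_cj.mp hsY
          rw [h2] at h1
          exact h1 hu
        have hrY : r ∈ Y := by
          have e : r = t⁻¹ * u := by rw [hutr]; group
          rw [e]
          exact Y.mul_mem (Y.inv_mem (hTY ht)) huY
        have hr1 : r = 1 := eq_one_of_mem_two_group_of_mem_odd hR2 hXY hr ⟨hRX hr, hrY⟩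
        rw [hutr, hr1, mul_one]
        exact ht
      exact eq_of_le_of_card_ge hVT (le_of_eq (card_cj s T).symm)
    have hodd := hY s hsY
    have hVTinf : V ⊓ T = ⊥ :=
      eq_bot_of_two_group_of_odd (le_inf (inf_le_right.trans hTY) (inf_le_left.trans (cj_mono s hTY)))
        (hT2.to_le inf_le_right) hodd
    obtain ⟨ψ, hψ⟩ := exists_injective_hom_of_direct hcomm hTRinf hVdec hVTinf
    have hcardV : Nat.card V = Nat.card T := card_cj s T
    have hle : Nat.card T ≤ Nat.card R := by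
      rw [← hcardV]
      exact Nat.card_le_card_of_injective ψ hψ
    refine ⟨hle, ?_⟩
    intro hle'
    have hbij : Function.Bijective ψ := hψ.bijective_of_nat_card_le (by rw [hcardV]; exact hle')
    have e1 : V ≃* R := MulEquiv.ofBijective ψ hbij
    have e2 : T ≃* V := (MulAut.conj s).subgroupMap T
    exact ⟨e1.symm.trans e2.symm⟩

end helpers

/-- Let Q be a tightly embedded subgroup of a finite group G, g an element outside N_G(Q), T a nontrivial Sylow 2-subgroup of Q^g ∩ N_G(Q), and S a Sylow 2-subgroup of QT containing T. Then T ∩ Q = 1, and N_S(T) is the direct product of T and N_S(T) ∩ Q, with N_S(T) ∩ Q isomorphic to T. -/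
theorem result {G : Type*} [Group G] [Finite G] (Q : Subgroup G) (hQ : Cfsg.IsTightlyEmbedded Q)
    (g : G) (hg : g ∉ Subgroup.normalizer (Q : Set G))
    (T : Subgroup G) (hT1 : T ≠ ⊥) (hT : T ≤ Q.map (MulAut.conj g).toMonoidHom ⊓ Subgroup.normalizer (Q : Set G))
    (hTsyl : IsPGroup 2 T ∧ ¬ 2 ∣ T.relIndex (Q.map (MulAut.conj g).toMonoidHom ⊓ Subgroup.normalizer (Q : Set G)))
    (S : Subgroup G) (hTS : T ≤ S) (hS : S ≤ Q ⊔ T) (hSsyl : IsPGroup 2 S ∧ ¬ 2 ∣ S.relIndex (Q ⊔ T)) :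
    T ⊓ Q = ⊥ ∧
      T ⊓ (S ⊓ Subgroup.normalizer (T : Set G) ⊓ Q) = ⊥ ∧
      ⁅T, S ⊓ Subgroup.normalizer (T : Set G) ⊓ Q⁆ = ⊥ ∧
      T ⊔ (S ⊓ Subgroup.normalizer (T : Set G) ⊓ Q) = S ⊓ Subgroup.normalizer (T : Set G) ∧
      Nonempty (↥(S ⊓ Subgroup.normalizer (T : Set G) ⊓ Q) ≃* T) := by
  haveI : Fact (Nat.Prime 2) := ⟨Nat.prime_two⟩
  have hX : ∀ h : G, h ∉ normalizer (Q : Set G) → Odd (Nat.card ↥(Q ⊓ cj h Q)) := hQ.2
  set Y := cj g Q with hYdef
  have hTY : T ≤ Y := hT.trans inf_le_left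
  have hTN : T ≤ normalizer (Q : Set G) := hT.trans inf_le_right
  obtain ⟨ha, hb, hc, hd, he, hf⟩ := lemmaL Q hX g hg T hT1 hTY hTN hTsyl.1 S hTS hS hSsyl.1 hSsyl.2
  set R := S ⊓ normalizer (T : Set G) ⊓ Q with hRdef
  have hRQ : R ≤ Q := inf_le_right
  have hR2 : IsPGroup 2 R := hSsyl.1.to_le (inf_le_left.trans inf_le_left)
  refine ⟨ha, ?_, hb, hc, hf ?_⟩
  · rw [eq_bot_iff, ← ha]
    exact inf_le_inf_left T hRQ
  -- `|R| ≤ |T|` by symmetry
  have hYt := tight_cj Q hX g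
  have hR1 : R ≠ ⊥ := by
    intro h
    rw [h, card_bot] at he
    apply hT1
    exact card_eq_one.mp (le_antisymm he Nat.card_pos)
  obtain ⟨R₁, hRR₁, hR₁le, hR₁2, -⟩ := exists_sylow_in 2 (Q ⊓ normalizer (Y : Set G)) R (le_inf hRQ hd) hR2
  have hR₁ne : R₁ ≠ ⊥ := by
    intro h
    apply hR1
    rw [eq_bot_iff, ← h]; exact hRR₁
  obtain ⟨S', hR₁S', hS'le, hS'2, hS'syl⟩ := exists_sylow_in 2 (Y ⊔ R₁) R₁ le_sup_right hR₁2
  have hg' : g⁻¹ ∉ normalizer (Y : Set G) := by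
    intro h
    apply hg
    have h1 := mem_normalizer_cj.mp h
    have e : g⁻¹ * g⁻¹ * g = g⁻¹ := by group
    rw [e] at h1
    have := (normalizer (Q : Set G)).inv_mem h1
    simpa using this
  have hYQ : cj g⁻¹ Y = Q := by
    rw [hYdef, cj_cj, inv_mul_cancel, cj_one]
  have hR₁Q : R₁ ≤ cj g⁻¹ Y := by rw [hYQ]; exact hR₁le.trans inf_le_left
  obtain ⟨-, -, -, hd', he', -⟩ := lemmaL Y hYt g⁻¹ hg' R₁ hR₁ne hR₁Q (hR₁le.trans inf_le_right) hR₁2
    S' hR₁S' hS'le hS'2 hS'syl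
  rw [hYQ] at hd'
  set R' := S' ⊓ normalizer (R₁ : Set G) ⊓ Y with hR'def
  have hR'le : R' ≤ Y ⊓ normalizer (Q : Set G) := le_inf inf_le_right hd'
  have hR'2 : IsPGroup 2 R' := hS'2.to_le (inf_le_left.trans inf_le_left)
  have h1 : Nat.card R' ∣ Nat.card T := by
    have h2 : Nat.card R' ∣ Nat.card ↥(Y ⊓ normalizer (Q : Set G)) := card_dvd_of_le hR'le
    rw [card_eq_card_mul_relIndex hT] at h2
    obtain ⟨b, hb'⟩ := IsPGroup.iff_card.mp hR'2
    have hcop : (Nat.card R').Coprime (T.relIndex (Y ⊓ normalizer (Q : Set G))) := by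
      rw [hb']
      exact Nat.Coprime.pow_left b ((Nat.Prime.coprime_iff_not_dvd Nat.prime_two).mpr hTsyl.2)
    exact hcop.dvd_of_dvd_mul_right h2
  calc Nat.card R ≤ Nat.card R₁ := card_le_of_le hRR₁
    _ ≤ Nat.card R' := he'
    _ ≤ Nat.card T := Nat.le_of_dvd Nat.card_pos h1

end Cfsg.Agent.S1910
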