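import Cfsg.Statements.S0384
import Cfsg.Agent.Lib.Helper7.M12

set_option autoImplicit false
open scoped Pointwise
open Cfsg

namespace Cfsg.Agent.S0384

/-- A dodecad stabiliser is sharply 5-transitive on the dodecad. -/
theorem result (d : Finset Cfsg.GolayPt) (hd : d ∈ Cfsg.dodecads) (x y : Fin 5 ↪ Cfsg.GolayPt) (hx : ∀ i, x i ∈ d) (hy : ∀ i, y i ∈ d) : ∃! g : MulAction.stabilizer Cfsg.M24 d, ∀ i, ((g : Cfsg.M24) : Equiv.Perm Cfsg.GolayPt) (x i) = y i := by
  open Cfsg.Agent.Helper7 in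
  have hxs : (List.ofFn x).Nodup := List.nodup_ofFn.mpr x.injective
  have hxD : ∀ z ∈ List.ofFn x, z ∈ d := by
    intro z hz; rw [List.mem_ofFn] at hz; obtain ⟨i, rfl⟩ := hz; exact hx i
  obtain ⟨g, hg, hgm⟩ := m12_five_trans hd (List.ofFn x) (List.ofFn y) hxs
    (List.nodup_ofFn.mpr y.injective) hxD
    (by intro z hz; rw [List.mem_ofFn] at hz; obtain ⟨i, rfl⟩ := hz; exact hy i)
    (by simp) (by simp)
  have hg' := Cfsg.Agent.Helper7.mem_setStab.mp hg
  have hgi : ∀ i, g (x i) = y i := by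
    intro i
    rw [List.map_ofFn] at hgm
    exact congrFun (List.ofFn_injective hgm) i
  have hcard := Cfsg.Agent.Helper7.card_m12_stabL hd (List.ofFn x) hxs hxD (by simp)
  have hbot : Cfsg.Agent.Helper7.stabL (Cfsg.Agent.Helper7.setStab d) (List.ofFn x) = ⊥ := by
    rw [← Subgroup.card_eq_one]
    rw [List.length_ofFn, show Nat.descFactorial 12 5 = 95040 from by decide] at hcard
    omega
  refine ⟨⟨⟨g, hg'.1⟩, hg'.2⟩, hgi, ?_⟩
  intro g' hg'i
  have hk : (g : Equiv.Perm GolayPt)⁻¹ * ((g' : M24) : Equiv.Perm GolayPt) ∈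
      Cfsg.Agent.Helper7.stabL (Cfsg.Agent.Helper7.setStab d) (List.ofFn x) := by
    rw [Cfsg.Agent.Helper7.mem_stabL]
    refine ⟨Subgroup.mul_mem _ (Subgroup.inv_mem _ hg) ?_, ?_⟩
    · exact Cfsg.Agent.Helper7.mem_setStab.mpr ⟨(g' : M24).2, g'.2⟩
    · intro z hz
      rw [List.mem_ofFn] at hz
      obtain ⟨i, rfl⟩ := hz
      rw [Equiv.Perm.mul_apply, hg'i i, ← hgi i]
      simp
  rw [hbot, Subgroup.mem_bot, inv_mul_eq_one] at hk
  apply Subtype.ext
  apply Subtype.ext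
  exact hk.symm

end Cfsg.Agent.S0384
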