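-- Statement S5628: every permutation of a hyperoval of the plane of order 4 extends uniquely to a collineation.
import Cfsg.Statements.S5628
import Cfsg.Agent.Lib.Helper8.Plane4Iso
import Mathlib

set_option autoImplicit false
open Cfsg
open scoped Pointwise

namespace Cfsg.Agent.S5628

open Cfsg.Agent.Helper8 Finset

theorem smul_finset_eq_image {α : Type*} [DecidableEq α] (g : Equiv.Perm α) (b : Finset α) :
    g • b = b.image g := by
  ext p
  simp [Finset.mem_smul_finset]

theorem mem_aut_iff {α : Type*} [Fintype α] [DecidableEq α] (L : Set (Finset α))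
    (g : Equiv.Perm α) : g ∈ Cfsg.setSystemAut L ↔ ∀ l ∈ L, l.image g ∈ L := by
  rw [Cfsg.setSystemAut, MulAction.mem_stabilizer_set' (Set.toFinite L)]
  constructor
  · intro h l hl; rw [← smul_finset_eq_image]; exact h hl
  · intro h l hl; rw [smul_finset_eq_image]; exact h l hl

/-- A collineation fixing a hyperoval pointwise is the identity. -/
theorem rigid {α : Type*} [Fintype α] [DecidableEq α] (hα : Fintype.card α = 21)
    {L : Set (Finset α)} (hL : Cfsg.IsSteinerSystem 2 5 L) {H : Finset α} (hH : H ∈ arcsF L 6)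
    (h : Equiv.Perm α) (hh : ∀ l ∈ L, l.image h ∈ L) (hfix : ∀ a ∈ H, h a = a) (x : α) :
    h x = x := by
  by_cases hx : x ∈ H
  · exact hfix x hx
  have hH6 : H.card = 6 := (mem_arcsF.mp hH).1
  obtain ⟨P1, P2, hP1, hP2, hne⟩ := (duads_syntheme hα hL hH hx).exists_two hH6
  have key : ∀ P ∈ duads L H x, P ∈ duads L H (h x) := by
    intro P hP
    obtain ⟨hPH, hP2c, hxP⟩ := mem_duads.mp hP
    obtain ⟨hm, hPm⟩ := lineOf_spec hL hP2c
    have him : (lineOf L P).image h ∈ L := hh _ hm
    have hsub : P ⊆ (lineOf L P).image h := by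
      intro a ha
      rw [mem_image]
      exact ⟨a, hPm ha, hfix a (hPH ha)⟩
    have heq : (lineOf L P).image h = lineOf L P := eq_lineOf hL hP2c him hsub
    refine mem_duads.mpr ⟨hPH, hP2c, ?_⟩
    rw [← heq]
    exact mem_image_of_mem _ hxP
  exact (point_unique_of_duads hα hL hH hne hP1 hP2 (key P1 hP1) (key P2 hP2)).symm

/-- In a projective plane of order 4 (a Steiner system S(2, 5, 21)), every permutation of the six points of a hyperoval (a 6-set met by no line in more than two points) is the restriction of exactly one automorphism of the plane. In particular the stabiliser of a hyperoval in the automorphism group is isomorphic to the symmetric group of degree 6 acting faithfully on the hyperoval. -/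
theorem result {α : Type*} [Fintype α] [DecidableEq α] (hα : Fintype.card α = 21) (L : Set (Finset α)) (hL : Cfsg.IsSteinerSystem 2 5 L) (H : Finset α) (hH : (H.card = 6 ∧ ∀ l ∈ L, (l ∩ H).card ≤ 2)) (σ : Equiv.Perm ↥H) : ∃! g : Equiv.Perm α, g ∈ Cfsg.setSystemAut L ∧ ∀ p : ↥H, g p = σ p := by
  have hH' : H ∈ arcsF L 6 := mem_arcsF.mpr hH
  let f : Equiv.Perm α := Equiv.Perm.ofSubtype σ
  have hfH : ∀ a (ha : a ∈ H), f a = σ ⟨a, ha⟩ := by
    intro a ha
    exact Equiv.Perm.ofSubtype_apply_of_mem σ ha
  have hf : H.image f = H := by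
    apply eq_of_subset_of_card_le
    · intro y hy
      obtain ⟨a, ha, rfl⟩ := mem_image.mp hy
      rw [hfH a ha]
      exact (σ ⟨a, ha⟩).2
    · rw [card_image_of_injective _ f.injective]
  obtain ⟨e, heH, heL⟩ := exists_iso_extending hα hα hL hL hH' hH' f hf
  have heaut : ∀ l ∈ L, l.image e ∈ L := by
    intro l hl
    rw [← heL]
    exact ⟨l, hl, rfl⟩
  refine ⟨e, ⟨(mem_aut_iff L e).mpr heaut, ?_⟩, ?_⟩
  · intro p
    rw [heH p p.2, hfH p p.2]
  · rintro g ⟨hgaut, hgσ⟩
    rw [mem_aut_iff] at hgaut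
    -- e⁻¹ * g fixes H pointwise
    have hinv : ∀ l ∈ L, l.image (e⁻¹ : Equiv.Perm α) ∈ L := by
      intro l hl
      rw [← heL] at hl
      obtain ⟨l0, hl0, rfl⟩ := hl
      rw [image_image]
      have : ((e⁻¹ : Equiv.Perm α) ∘ e) = id := by
        funext x; simp
      rw [this, image_id]
      exact hl0
    have hcomp : ∀ l ∈ L, l.image (e⁻¹ * g : Equiv.Perm α) ∈ L := by
      intro l hl
      have : l.image (e⁻¹ * g : Equiv.Perm α) = (l.image g).image (e⁻¹ : Equiv.Perm α) := by
        rw [image_image]; rfl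
      rw [this]
      exact hinv _ (hgaut l hl)
    have hfix : ∀ a ∈ H, (e⁻¹ * g : Equiv.Perm α) a = a := by
      intro a ha
      have h1 : g a = σ ⟨a, ha⟩ := hgσ ⟨a, ha⟩
      have h2 : e a = σ ⟨a, ha⟩ := by rw [heH a ha, hfH a ha]
      rw [Equiv.Perm.mul_apply, h1, ← h2]
      simp
    ext x
    have := rigid hα hL hH' (e⁻¹ * g) hcomp hfix x
    rw [Equiv.Perm.mul_apply] at this
    have h3 := congrArg e this
    simpa using h3

end Cfsg.Agent.S5628
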