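import Cfsg.Statements.S1277
import Cfsg.Agent.Lib.Helper21.PGen

set_option autoImplicit false
open Cfsg

namespace Cfsg.Agent.S1277

open Cfsg.Agent.Helper21 Subgroup

theorem pLayer_map_eq {X : Type*} [Group X] [Finite X] (p : ℕ) [Fact p.Prime] :
    (Cfsg.pLayer p X).map (QuotientGroup.mk' (Cfsg.pPrimeCore p X))
      = Cfsg.layer (X ⧸ Cfsg.pPrimeCore p X) := by
  apply le_antisymm
  · unfold Cfsg.pLayer
    rw [Subgroup.map_le_iff_le_comap]
    apply sSup_le
    intro K hK
    rw [← Subgroup.map_le_iff_le_comap]
    exact le_sSup hK.2.1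
  · unfold Cfsg.layer
    apply sSup_le
    intro Kbar hK
    rw [← map_pGen_comap_eq p Kbar hK]
    exact Subgroup.map_mono (le_sSup (isPComponent_pGen_comap p Kbar hK))

/-- For a finite group X with core O(X): the image of E(X) in X / O(X) is all of E(X / O(X)) if and only if every 2-component of X is a component, i.e. L_{2'}(X) ≤ E(X). -/
theorem result {X : Type*} [Group X] [Finite X] : (Cfsg.layer X).map (QuotientGroup.mk' (Cfsg.oddCore X)) = Cfsg.layer (X ⧸ Cfsg.oddCore X) ↔ Cfsg.pLayer 2 X ≤ Cfsg.layer X := by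
  have : Fact (Nat.Prime 2) := ⟨Nat.prime_two⟩
  show (Cfsg.layer X).map (QuotientGroup.mk' (Cfsg.pPrimeCore 2 X))
    = Cfsg.layer (X ⧸ Cfsg.pPrimeCore 2 X) ↔ _
  set π := QuotientGroup.mk' (Cfsg.pPrimeCore 2 X) with hπ
  constructor
  · intro h
    apply sSup_le
    intro K hK
    -- some component L of X has the same image as K
    have hex : ∃ L : Subgroup X, Cfsg.IsComponent L ∧ L.map π = K.map π := by
      by_contra hcon
      push Not at hcon
      apply component_not_le_of_commutative _ hK.2.1
      rw [Subgroup.commutator_eq_bot_iff_le_centralizer]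
      have h1 : K.map π ≤ (Cfsg.layer X).map π := by
        rw [h]; exact le_sSup hK.2.1
      refine h1.trans ?_
      unfold Cfsg.layer
      rw [Subgroup.map_le_iff_le_comap]
      apply sSup_le
      intro L hL
      rw [← Subgroup.map_le_iff_le_comap, ← Subgroup.commutator_eq_bot_iff_le_centralizer]
      rcases component_map_eq_bot_or_isComponent π (QuotientGroup.mk'_surjective _) hL with h2 | h2
      · rw [h2]; exact Subgroup.commutator_bot_left _
      · exact component_commutator_eq_bot_of_ne _ _ h2 hK.2.1 (hcon L hL)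
    obtain ⟨L, hL, hLK⟩ := hex
    have h2 : K ≤ L := by
      rw [pComponent_eq_pGen 2 hK]
      apply pGen_le_of_subnormal 2 hL.1
      rw [← comap_map_mk_pPrimeCore, hLK]
    exact h2.trans (le_sSup hL)
  · intro h
    apply le_antisymm (layer_map_le π (QuotientGroup.mk'_surjective _))
    rw [← pLayer_map_eq 2]
    exact Subgroup.map_mono h

end Cfsg.Agent.S1277
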