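import Cfsg.Statements.S1946
import Cfsg.Agent.S0071
import Cfsg.Agent.Lib.Helper2.PComplement
import Cfsg.Agent.Lib.Helper32.MinimalAction

set_option autoImplicit false
open Cfsg

namespace Cfsg.Agent.S1946

open Subgroup Cfsg.Agent.Helper2 Cfsg.Agent.Helper32
open scoped commutatorElement

/-- Let P be a Sylow p-subgroup of the finite group G. Then G has a normal p-complement if and only if P controls the fusion of its elements of order dividing p (dividing 4 when p = 2): whenever such an element a of P has a G-conjugate g a g⁻¹ in P, that conjugate is already x a x⁻¹ for some x in P. -/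
theorem result {G : Type*} [Group G] [Finite G] {p : ℕ} [Fact p.Prime] (P : Sylow p G) :
    Cfsg.HasNormalPComplement p G ↔
      ∀ a ∈ (P : Subgroup G), (a ^ p = 1 ∨ (p = 2 ∧ a ^ 4 = 1)) → ∀ g : G, g * a * g⁻¹ ∈ (P : Subgroup G) →
        ∃ x ∈ (P : Subgroup G), g * a * g⁻¹ = x * a * x⁻¹ := by
  have hp : p.Prime := Fact.out
  rw [hasNormalPComplement_iff P]
  constructor
  · rintro ⟨N, hNn, hNc⟩ a ha _ g hg
    have hdisj : N ⊓ (P : Subgroup G) = ⊥ := disjoint_iff.mp hNc.disjoint
    obtain ⟨⟨⟨n, hn⟩, ⟨x, hx⟩⟩, hnx, -⟩ := (Subgroup.isComplement_iff_existsUnique.mp hNc) g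
    simp only at hnx
    refine ⟨x, hx, ?_⟩
    set b := x * a * x⁻¹ with hb
    have hbP : b ∈ (P : Subgroup G) := (P : Subgroup G).mul_mem ((P : Subgroup G).mul_mem hx ha)
      ((P : Subgroup G).inv_mem hx)
    have hgb : g * a * g⁻¹ = n * b * n⁻¹ := by rw [← hnx, hb]; group
    have h1 : n * b * n⁻¹ * b⁻¹ ∈ N := by
      have : n * b * n⁻¹ * b⁻¹ = n * (b * n⁻¹ * b⁻¹) := by group
      rw [this]
      exact N.mul_mem hn (hNn.conj_mem _ (N.inv_mem hn) b)
    have h2 : n * b * n⁻¹ * b⁻¹ ∈ (P : Subgroup G) := by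
      rw [← hgb]
      exact (P : Subgroup G).mul_mem hg ((P : Subgroup G).inv_mem hbP)
    have h3 : n * b * n⁻¹ * b⁻¹ ∈ N ⊓ (P : Subgroup G) := Subgroup.mem_inf.mpr ⟨h1, h2⟩
    rw [hdisj, Subgroup.mem_bot] at h3
    rw [hgb]
    calc n * b * n⁻¹ = (n * b * n⁻¹ * b⁻¹) * b := by group
      _ = b := by rw [h3, one_mul]
  · intro hF
    rw [Cfsg.Agent.S0071.result P]
    -- the exponent
    obtain ⟨e, hpe, hpch, he⟩ : ∃ e : ℕ, p ∣ e ∧ p ∣ e.choose 2 ∧
        ∀ a : G, a ^ e = 1 → (a ^ p = 1 ∨ (p = 2 ∧ a ^ 4 = 1)) := by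
      by_cases h2 : p = 2
      · refine ⟨4, ?_, ?_, ?_⟩
        · rw [h2]; norm_num
        · rw [h2]; decide
        · intro a ha; exact Or.inr ⟨h2, ha⟩
      · refine ⟨p, dvd_rfl, ?_, ?_⟩
        · apply Nat.Prime.dvd_choose_self hp (by norm_num)
          have := hp.two_le
          omega
        · intro a ha; exact Or.inl ha
    intro Q₀ hQ₀P g hg hgo
    set A : Subgroup G := zpowers g with hA
    have hcardA : Nat.card A = orderOf g := Nat.card_zpowers g
    have hcop : (Nat.card A).Coprime p := by rw [hcardA]; exact hgo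
    have hAQ₀ : A ≤ normalizer (Q₀ : Set G) := by
      rw [hA, zpowers_le]; exact hg
    have key : ∀ (n : ℕ) (Q : Subgroup G), Nat.card Q = n → Q ≤ (P : Subgroup G) →
        A ≤ normalizer (Q : Set G) → A ≤ centralizer (Q : Set G) := by
      intro n
      induction n using Nat.strong_induction_on with
      | _ n ih =>
      intro Q hcard hQP hAQ
      have hQ : IsPGroup p Q := P.2.to_le hQP
      have hstar : ∀ C₁ : Subgroup G, C₁ ≤ Q → C₁ ≠ Q → A ≤ normalizer (C₁ : Set G) →
          A ≤ centralizer (C₁ : Set G) := by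
        intro C₁ h1 h2 h3
        have hlt : Nat.card C₁ < n := by
          rw [← hcard]
          rcases lt_or_eq_of_le (card_le_of_le h1) with h | h
          · exact h
          · exact absurd (eq_of_le_of_card_ge h1 (le_of_eq h.symm)) h2
        exact ih _ hlt C₁ rfl (h1.trans hQP) h3
      rcases centralizes_or_small_of_minimal p e hpe hpch A hcop Q hQ hAQ hstar with h | ⟨h1, h2⟩
      · exact h
      · -- `Q = [Q, A]` has exponent dividing `e`: then `Q` lies in every term of the lower central series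
        have hall : ∀ i : ℕ, Q ≤ Subgroup.lowerCentralSeries (P : Subgroup G) i := by
          intro i
          induction i with
          | zero => exact hQP
          | succ i ihi =>
            show Q ≤ ⁅Subgroup.lowerCentralSeries (P : Subgroup G) i, (P : Subgroup G)⁆
            rw [← h1, commutator_le]
            intro x hx a ha
            have hx' : x⁻¹ ∈ Q := Q.inv_mem hx
            have hsmall : (x⁻¹) ^ e = 1 := h2 _ hx'
            have hconj : a * x⁻¹ * a⁻¹ ∈ Q := (mem_normalizer_iff.mp (hAQ ha) x⁻¹).mp hx'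
            obtain ⟨u, hu, hux⟩ := hF x⁻¹ (hQP hx') (he _ hsmall) a (hQP hconj)
            have h6 : ⁅x, a⁆ = ⁅x, u⁆ := by
              rw [commutatorElement_def, commutatorElement_def]
              have e1 : x * a * x⁻¹ * a⁻¹ = x * (a * x⁻¹ * a⁻¹) := by group
              have e2 : x * u * x⁻¹ * u⁻¹ = x * (u * x⁻¹ * u⁻¹) := by group
              rw [e1, e2, hux]
            rw [h6]
            exact commutator_mem_commutator (ihi hx) hu
        have hnil : Group.IsNilpotent (P : Subgroup G) := P.2.isNilpotent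
        obtain ⟨m, hm⟩ := (Subgroup.isNilpotent_iff_lowerCentralSeries (P : Subgroup G)).mp hnil
        have hQbot : Q = ⊥ := by
          rw [eq_bot_iff, ← hm]; exact hall m
        rw [hQbot]
        intro a _
        rw [mem_centralizer_iff]
        intro h hh
        rw [SetLike.mem_coe, mem_bot] at hh
        rw [hh]; simp
    exact key _ Q₀ rfl hQ₀P hAQ₀ (mem_zpowers g)

end Cfsg.Agent.S1946
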