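import Mathlib
import Cfsg.Statements.S2352

set_option autoImplicit false
open Cfsg

namespace Cfsg.Agent.S2352

open Equiv

/-- A functional and injective relation on a finite type extends to a permutation. -/
theorem exists_perm_of_rel {β : Type*} [Finite β] (R : β → β → Prop)
    (hfun : ∀ x y y', R x y → R x y' → y = y') (hinj : ∀ x x' y, R x y → R x' y → x = x') :
    ∃ σ : Perm β, ∀ x y, R x y → σ x = y := by
  obtain ⟨σ, hσ⟩ := Equiv.Perm.exists_extending_pair
    (fun p : {p : β × β // R p.1 p.2} => p.1.1) (fun p : {p : β × β // R p.1 p.2} => p.1.2)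
    (by
      rintro ⟨⟨x, y⟩, h⟩ ⟨⟨x', y'⟩, h'⟩ (hxx : x = x')
      subst hxx
      have := hfun x y y' h h'
      subst this
      rfl)
    (by
      rintro ⟨⟨x, y⟩, h⟩ ⟨⟨x', y'⟩, h'⟩ (hyy : y = y')
      subst hyy
      have := hinj x x' y h h'
      subst this
      rfl)
  exact ⟨σ, fun x y h => hσ ⟨(x, y), h⟩⟩

/-- The relation attached to the letter `a` in the word `L`. -/
def rel (L : List (ℕ × Bool)) (a : ℕ) (x y : Fin (L.length + 1)) : Prop :=
  ∃ (j : ℕ) (h : j < L.length),
    (L[j] = (a, true) ∧ x.val = j + 1 ∧ y.val = j) ∨ (L[j] = (a, false) ∧ x.val = j ∧ y.val = j + 1)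

theorem rel_fun (L : List (ℕ × Bool)) (hL : FreeGroup.IsReduced L) (a : ℕ)
    (x y y' : Fin (L.length + 1)) (h : rel L a x y) (h' : rel L a x y') : y = y' := by
  obtain ⟨j, hj, h⟩ := h
  obtain ⟨j', hj', h'⟩ := h'
  rcases h with ⟨e, hx, hy⟩ | ⟨e, hx, hy⟩ <;> rcases h' with ⟨e', hx', hy'⟩ | ⟨e', hx', hy'⟩
  · apply Fin.ext; omega
  · exfalso
    have hjj : j' = j + 1 := by omega
    subst hjj
    have := List.IsChain.getElem hL j hj'
    rw [e, e'] at this
    simpa using this rfl
  · exfalso
    have hjj : j = j' + 1 := by omega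
    subst hjj
    have := List.IsChain.getElem hL j' hj
    rw [e, e'] at this
    simpa using this rfl
  · apply Fin.ext; omega

theorem rel_inj (L : List (ℕ × Bool)) (hL : FreeGroup.IsReduced L) (a : ℕ)
    (x x' y : Fin (L.length + 1)) (h : rel L a x y) (h' : rel L a x' y) : x = x' := by
  obtain ⟨j, hj, h⟩ := h
  obtain ⟨j', hj', h'⟩ := h'
  rcases h with ⟨e, hx, hy⟩ | ⟨e, hx, hy⟩ <;> rcases h' with ⟨e', hx', hy'⟩ | ⟨e', hx', hy'⟩
  · apply Fin.ext; omega
  · exfalso
    have hjj : j = j' + 1 := by omega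
    subst hjj
    have := List.IsChain.getElem hL j' hj
    rw [e, e'] at this
    simpa using this rfl
  · exfalso
    have hjj : j' = j + 1 := by omega
    subst hjj
    have := List.IsChain.getElem hL j hj'
    rw [e, e'] at this
    simpa using this rfl
  · apply Fin.ext; omega

/-- Path-following: a product of permutations each moving `s + j + 1` to `s + j`. -/
theorem prod_path {k : ℕ} (G : ℕ × Bool → Perm (Fin (k + 1))) :
    ∀ (M : List (ℕ × Bool)) (s : ℕ) (_ : s + M.length = k)
      (_ : ∀ (j : ℕ) (h : j < M.length) (x y : Fin (k + 1)), x.val = s + j + 1 → y.val = s + j →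
        G M[j] x = y),
      ∀ (x y : Fin (k + 1)), x.val = k → y.val = s → (M.map G).prod x = y := by
  intro M
  induction M with
  | nil =>
    intro s hs _ x y hx hy
    simp only [List.map_nil, List.prod_nil, Perm.coe_one, id_eq]
    apply Fin.ext
    simp at hs
    omega
  | cons m M ih =>
    intro s hs H x y hx hy
    simp only [List.map_cons, List.prod_cons, Perm.coe_mul, Function.comp_apply]
    simp only [List.length_cons] at hs
    have hs' : (s + 1) + M.length = k := by omega
    have := ih (s + 1) hs' (fun j h x y hx hy => by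
      have := H (j + 1) (by simp; omega) x y (by omega) (by omega)
      simpa using this) x ⟨s + 1, by omega⟩ hx rfl
    rw [this]
    have := H 0 (by simp) ⟨s + 1, by omega⟩ y (by simp) (by simpa using hy)
    simpa using this

/-- Every nontrivial element of the free group acts nontrivially in some finite permutation
representation. -/
theorem exists_perm_rep (w : FreeGroup ℕ) (hw : w ≠ 1) :
    ∃ (k : ℕ) (f : ℕ → Perm (Fin (k + 1))), FreeGroup.lift f w ≠ 1 := by
  set L := w.toWord with hLdef
  have hL : FreeGroup.IsReduced L := FreeGroup.isReduced_toWord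
  have hLne : L ≠ [] := by
    intro h
    exact hw (FreeGroup.toWord_eq_nil_iff.mp h)
  have hwL : w = FreeGroup.mk L := FreeGroup.mk_toWord.symm
  have hex : ∀ a : ℕ, ∃ σ : Perm (Fin (L.length + 1)), ∀ x y, rel L a x y → σ x = y :=
    fun a => exists_perm_of_rel (rel L a) (rel_fun L hL a) (rel_inj L hL a)
  choose f hf using hex
  refine ⟨L.length, f, ?_⟩
  rw [hwL, FreeGroup.lift_mk]
  intro h1
  have hpos : 0 < L.length := List.length_pos_iff.mpr hLne
  have key := prod_path (k := L.length) (fun x => cond x.2 (f x.1) (f x.1)⁻¹) L 0 (by simp)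
    (fun j h x y hx hy => by
      rcases hLj : L[j] with ⟨a, b⟩
      cases b with
      | true =>
        simp only [cond_true]
        exact hf a x y ⟨j, h, Or.inl ⟨hLj, by omega, by omega⟩⟩
      | false =>
        simp only [cond_false]
        rw [Equiv.Perm.inv_eq_iff_eq]
        exact (hf a y x ⟨j, h, Or.inr ⟨hLj, by omega, by omega⟩⟩).symm)
    ⟨L.length, by omega⟩ ⟨0, by omega⟩ rfl rfl
  rw [h1] at key
  simp only [Perm.coe_one, id_eq, Fin.mk.injEq] at key
  omega

/-- The embedding of two copies of `Fin m` into `Fin n`. -/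
def emb (m n : ℕ) (h : m + m ≤ n) : Fin m ⊕ Fin m ↪ Fin n :=
  finSumFinEquiv.toEmbedding.trans (Fin.castLEEmb h)

open Classical in
/-- Extension of permutations along the embedding `emb`. -/
noncomputable def Phi1 (m n : ℕ) (h : m + m ≤ n) : Perm (Fin m ⊕ Fin m) →* Perm (Fin n) :=
  Equiv.Perm.extendDomainHom (Equiv.ofInjective (emb m n h) (emb m n h).injective)

theorem Phi1_injective (m n : ℕ) (h : m + m ≤ n) : Function.Injective (Phi1 m n h) :=
  Equiv.Perm.extendDomainHom_injective _

theorem Phi1_sign (m n : ℕ) (h : m + m ≤ n) (σ : Perm (Fin m ⊕ Fin m)) :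
    Equiv.Perm.sign (Phi1 m n h σ) = Equiv.Perm.sign σ := by
  unfold Phi1
  rw [Equiv.Perm.extendDomainHom_apply, Equiv.Perm.sign_extendDomain]

/-- The diagonal action on two copies. -/
def Phi2 (m : ℕ) : Perm (Fin m) →* Perm (Fin m ⊕ Fin m) :=
  (Equiv.Perm.sumCongrHom (Fin m) (Fin m)).comp (MonoidHom.prod (MonoidHom.id _) (MonoidHom.id _))

theorem Phi2_injective (m : ℕ) : Function.Injective (Phi2 m) := by
  intro a b hab
  have h1 : ((a, a) : Perm (Fin m) × Perm (Fin m)) = (b, b) :=
    Equiv.Perm.sumCongrHom_injective hab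
  exact congrArg Prod.fst h1

theorem Phi2_sign (m : ℕ) (σ : Perm (Fin m)) : Equiv.Perm.sign (Phi2 m σ) = 1 := by
  have : Phi2 m σ = Equiv.Perm.sumCongr σ σ := rfl
  rw [this, Equiv.Perm.sign_sumCongr]
  exact Int.units_mul_self _

/-- The doubling homomorphism `Perm (Fin m) →* Perm (Fin n)`, landing in the even permutations. -/
noncomputable def Phi (m n : ℕ) (h : m + m ≤ n) : Perm (Fin m) →* Perm (Fin n) :=
  (Phi1 m n h).comp (Phi2 m)

theorem Phi_injective (m n : ℕ) (h : m + m ≤ n) : Function.Injective (Phi m n h) := by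
  intro a b hab
  have h1 : Phi2 m a = Phi2 m b := Phi1_injective m n h hab
  exact Phi2_injective m h1

theorem Phi_sign (m n : ℕ) (h : m + m ≤ n) (σ : Perm (Fin m)) :
    Equiv.Perm.sign (Phi m n h σ) = 1 := by
  have : Phi m n h σ = Phi1 m n h (Phi2 m σ) := rfl
  rw [this, Phi1_sign, Phi2_sign]

theorem result (w : FreeGroup ℕ) (hw : w ≠ 1) :
    ∃ N : ℕ, ∀ n : ℕ, N ≤ n → ∃ f : ℕ → alternatingGroup (Fin n), FreeGroup.lift f w ≠ 1 := by
  obtain ⟨k, f, hf⟩ := exists_perm_rep w hw
  refine ⟨(k + 1) + (k + 1), fun n hn => ?_⟩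
  refine ⟨fun i => ⟨Phi (k + 1) n hn (f i), Equiv.Perm.mem_alternatingGroup.mpr
    (Phi_sign (k + 1) n hn (f i))⟩, ?_⟩
  intro h1
  apply hf
  apply Phi_injective (k + 1) n hn
  rw [map_one]
  have e1 : (alternatingGroup (Fin n)).subtype.comp (FreeGroup.lift fun i =>
      (⟨Phi (k + 1) n hn (f i), Equiv.Perm.mem_alternatingGroup.mpr
        (Phi_sign (k + 1) n hn (f i))⟩ : alternatingGroup (Fin n))) =
      (Phi (k + 1) n hn).comp (FreeGroup.lift f) := by
    apply FreeGroup.ext_hom
    intro i
    simp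
  have e2 := DFunLike.congr_fun e1 w
  simp only [MonoidHom.coe_comp, Function.comp_apply, h1, map_one] at e2
  exact e2.symm

end Cfsg.Agent.S2352
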