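import Mathlib
import Cfsg.Statements.S2353

set_option autoImplicit false
open Cfsg

namespace Cfsg.Agent.S2353

open Polynomial

variable {F : Type*} [Field F]

noncomputable def step (c : F) (r : F[X] × F[X]) : F[X] × F[X] :=
  ((1 + C (c^2) * X^2) * r.1 + C c * X * r.2, C c * X * r.1 + r.2)

def RowInv (γ : F) (m : ℕ) (p q : F[X]) : Prop :=
  1 ≤ m ∧ p.natDegree ≤ m ∧ q.natDegree + 1 ≤ m ∧ q.coeff (m - 1) ≠ 0 ∧ p.coeff m = γ * q.coeff (m - 1)

theorem inv_same (γ c : F) (m : ℕ) (p q : F[X]) (hγ : γ ≠ 0) (hc : c ≠ 0) (h : RowInv γ m p q) :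
    RowInv c (m + 2) (step c (p, q)).1 (step c (p, q)).2 := by
  obtain ⟨hm, hp, hq, hα, hpq⟩ := h
  have e1 : (step c (p, q)).1 = p + C (c ^ 2) * (X ^ 2 * p) + C c * (X * q) := by
    simp only [step]; ring
  have e2 : (step c (p, q)).2 = C c * (X * p) + q := by
    simp only [step]; ring
  have hq1 : q.coeff (m + 1) = 0 := coeff_eq_zero_of_natDegree_lt (by omega)
  have hp2 : p.coeff (m + 2) = 0 := coeff_eq_zero_of_natDegree_lt (by omega)
  have c1 : (step c (p, q)).1.coeff (m + 2) = c ^ 2 * p.coeff m := by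
    rw [e1, coeff_add, coeff_add, coeff_C_mul, coeff_C_mul, coeff_X_pow_mul,
      show m + 2 = (m + 1) + 1 from rfl, coeff_X_mul, hq1]
    rw [show m + 1 + 1 = m + 2 from rfl, hp2]
    ring
  have c2 : (step c (p, q)).2.coeff (m + 1) = c * p.coeff m := by
    rw [e2, coeff_add, coeff_C_mul, coeff_X_mul, hq1]
    ring
  refine ⟨by omega, ?_, ?_, ?_, ?_⟩
  · rw [e1]; compute_degree; all_goals omega
  · have : (step c (p, q)).2.natDegree ≤ m + 1 := by
      rw [e2]; compute_degree; all_goals omega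
    omega
  · rw [show m + 2 - 1 = m + 1 from rfl, c2, hpq]
    exact mul_ne_zero hc (mul_ne_zero hγ hα)
  · rw [show m + 2 - 1 = m + 1 from rfl, c1, c2]
    ring

theorem inv_flip (γ c : F) (m : ℕ) (p q : F[X]) (hcγ : c + γ ≠ 0) (h : RowInv γ m p q) :
    RowInv c (m + 1) (step c (q, p)).1 (step c (q, p)).2 := by
  obtain ⟨hm, hp, hq, hα, hpq⟩ := h
  have e1 : (step c (q, p)).1 = q + C (c ^ 2) * (X ^ 2 * q) + C c * (X * p) := by
    simp only [step]; ring
  have e2 : (step c (q, p)).2 = C c * (X * q) + p := by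
    simp only [step]; ring
  obtain ⟨k, rfl⟩ : ∃ k, m = k + 1 := ⟨m - 1, by omega⟩
  simp only [Nat.add_sub_cancel] at hα hpq
  have hq1 : q.coeff (k + 1 + 1) = 0 := coeff_eq_zero_of_natDegree_lt (by omega)
  have c1 : (step c (q, p)).1.coeff (k + 1 + 1) = c ^ 2 * q.coeff k + c * p.coeff (k + 1) := by
    rw [e1, coeff_add, coeff_add, coeff_C_mul, coeff_C_mul, coeff_X_mul,
      show k + 1 + 1 = k + 2 from rfl, coeff_X_pow_mul]
    rw [show k + 2 = k + 1 + 1 from rfl, hq1]
    ring
  have c2 : (step c (q, p)).2.coeff (k + 1) = c * q.coeff k + p.coeff (k + 1) := by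
    rw [e2, coeff_add, coeff_C_mul, coeff_X_mul]
  refine ⟨by omega, ?_, ?_, ?_, ?_⟩
  · rw [e1]; compute_degree; all_goals omega
  · have : (step c (q, p)).2.natDegree ≤ k + 1 := by
      rw [e2]; compute_degree; all_goals omega
    omega
  · rw [show k + 1 + 1 - 1 = k + 1 from rfl, c2, hpq]
    have : c * q.coeff k + γ * q.coeff k = (c + γ) * q.coeff k := by ring
    rw [this]
    exact mul_ne_zero hcγ hα
  · rw [show k + 1 + 1 - 1 = k + 1 from rfl, c1, c2, hpq]
    ring

/-- The action of a letter on a row of polynomials. -/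
noncomputable def act (c : ℕ → F) (l : ℕ × Bool) (r : F[X] × F[X]) : F[X] × F[X] :=
  if l.2 then step (c l.1) r else (step (-(c l.1)) r.swap).swap

/-- The state invariant after `k` letters, the last one being `l`. -/
def St (c : ℕ → F) (k : ℕ) (l : ℕ × Bool) (r : F[X] × F[X]) : Prop :=
  c l.1 ≠ 0 ∧ ∃ m, m ≤ 2 * k ∧
    if l.2 then RowInv (c l.1) m r.1 r.2 else RowInv (-(c l.1)) m r.2 r.1

theorem st_init (c : ℕ → F) (l : ℕ × Bool) (hl : c l.1 ≠ 0) : St c 1 l (act c l (1, 0)) := by
  refine ⟨hl, ?_⟩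
  rcases l with ⟨i, b⟩
  cases b with
  | true =>
    refine ⟨2, le_refl _, ?_⟩
    have e : step (c i) ((1 : F[X]), (0 : F[X])) = (1 + C (c i ^ 2) * X ^ 2, C (c i) * X) := by
      simp [step]
    simp only [act, if_true, e]
    refine ⟨by omega, ?_, ?_, ?_, ?_⟩
    · compute_degree
    · have : (C (c i) * X : F[X]).natDegree ≤ 1 := by compute_degree
      omega
    · simpa using hl
    · rw [coeff_add, coeff_C_mul, coeff_X_pow, coeff_one]
      simp
      ring
  | false =>
    refine ⟨1, by omega, ?_⟩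
    have e : step (-(c i)) ((0 : F[X]), (1 : F[X])) = (C (-(c i)) * X, 1) := by
      simp [step]
    simp only [act, Bool.false_eq_true, if_false, Prod.swap, e]
    refine ⟨le_refl _, ?_, ?_, ?_, ?_⟩
    · compute_degree
    · simp
    · simp
    · simp

theorem st_step (c : ℕ → F) (k : ℕ) (l l' : ℕ × Bool) (r : F[X] × F[X])
    (hred : l.1 = l'.1 → l.2 = l'.2) (hl' : c l'.1 ≠ 0) (hinj : c l.1 = c l'.1 → l.1 = l'.1)
    (h : St c k l r) : St c (k + 1) l' (act c l' r) := by
  obtain ⟨hl, m, hm, h⟩ := h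
  refine ⟨hl', ?_⟩
  rcases l with ⟨i, b⟩
  rcases l' with ⟨j, b'⟩
  rcases r with ⟨r1, r2⟩
  simp only at hred hl' hinj hl h
  cases b <;> cases b'
  · simp only [Bool.false_eq_true, if_false] at h
    refine ⟨m + 2, by omega, ?_⟩
    simp only [act, Bool.false_eq_true, if_false, Prod.swap]
    exact inv_same _ _ m r2 r1 (neg_ne_zero.mpr hl) (neg_ne_zero.mpr hl') h
  · simp only [Bool.false_eq_true, if_false] at h
    refine ⟨m + 1, by omega, ?_⟩
    simp only [act, if_true]
    refine inv_flip _ _ m r2 r1 ?_ h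
    intro h0
    have hcc : c i = c j := by linear_combination (-1 : F) * h0
    have := hred (hinj hcc)
    simp at this
  · simp only [if_true] at h
    refine ⟨m + 1, by omega, ?_⟩
    simp only [act, Bool.false_eq_true, if_false, Prod.swap]
    refine inv_flip _ _ m r1 r2 ?_ h
    intro h0
    have hcc : c i = c j := by linear_combination h0
    have := hred (hinj hcc)
    simp at this
  · simp only [if_true] at h
    refine ⟨m + 2, by omega, ?_⟩
    simp only [act, if_true]
    exact inv_same _ _ m r1 r2 hl hl' h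

theorem st_run (c : ℕ → F) :
    ∀ (L : List (ℕ × Bool)) (last : ℕ × Bool) (r : F[X] × F[X]) (k : ℕ),
      FreeGroup.IsReduced (last :: L) → (∀ l ∈ last :: L, c l.1 ≠ 0) →
      (∀ l ∈ last :: L, ∀ l' ∈ last :: L, c l.1 = c l'.1 → l.1 = l'.1) → St c k last r →
      ∃ last', St c (k + L.length) last' (L.foldl (fun r l => act c l r) r) := by
  intro L
  induction L with
  | nil =>
    intro last r k _ _ _ h
    exact ⟨last, by simpa using h⟩
  | cons l L ih =>
    intro last r k hred h0 hinj h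
    rw [FreeGroup.isReduced_cons_cons] at hred
    have h1 := st_step c k last l r hred.1 (h0 l (by simp))
      (hinj last (by simp) l (by simp)) h
    obtain ⟨last', hlast'⟩ := ih l (act c l r) (k + 1) hred.2
      (fun x hx => h0 x (List.mem_cons_of_mem _ hx))
      (fun x hx y hy => hinj x (List.mem_cons_of_mem _ hx) y (List.mem_cons_of_mem _ hy)) h1
    refine ⟨last', ?_⟩
    simp only [List.foldl_cons, List.length_cons]
    have : k + (L.length + 1) = k + 1 + L.length := by omega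
    rw [this]
    exact hlast'

theorem st_final (c : ℕ → F) (k : ℕ) (l : ℕ × Bool) (r : F[X] × F[X]) (h : St c k l r) :
    r.2 ≠ 0 ∧ r.2.natDegree ≤ 2 * k := by
  obtain ⟨hl, m, hm, h⟩ := h
  rcases l with ⟨i, b⟩
  cases b with
  | true =>
    simp only [if_true] at h
    obtain ⟨h1, h2, h3, h4, h5⟩ := h
    refine ⟨?_, by omega⟩
    intro h0
    rw [h0] at h4
    simp at h4
  | false =>
    simp only [Bool.false_eq_true, if_false] at h
    obtain ⟨h1, h2, h3, h4, h5⟩ := h
    refine ⟨?_, by omega⟩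
    intro h0
    rw [h0] at h5
    simp only [coeff_zero] at h5
    have := mul_ne_zero (neg_ne_zero.mpr hl) h4
    exact this h5.symm

/-- Main polynomial statement: the second entry of the first row of a nonempty reduced word. -/
theorem row_ne_zero (c : ℕ → F) (L : List (ℕ × Bool)) (hL : L ≠ []) (hred : FreeGroup.IsReduced L)
    (h0 : ∀ l ∈ L, c l.1 ≠ 0) (hinj : ∀ l ∈ L, ∀ l' ∈ L, c l.1 = c l'.1 → l.1 = l'.1) :
    (L.foldl (fun r l => act c l r) ((1 : F[X]), (0 : F[X]))).2 ≠ 0 ∧
    (L.foldl (fun r l => act c l r) ((1 : F[X]), (0 : F[X]))).2.natDegree ≤ 2 * L.length := by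
  obtain ⟨l, L', rfl⟩ := List.exists_cons_of_ne_nil hL
  obtain ⟨last', h⟩ := st_run c L' l (act c l (1, 0)) 1 hred h0 hinj (st_init c l (h0 l (by simp)))
  have := st_final c _ _ _ h
  simp only [List.foldl_cons, List.length_cons]
  refine ⟨this.1, ?_⟩
  have h2 := this.2
  omega

/-- The matrix of a letter, specialised at `s`. -/
def mat (c : ℕ → F) (s : F) (l : ℕ × Bool) : Matrix (Fin 2) (Fin 2) F :=
  if l.2 then !![1 + (c l.1) ^ 2 * s ^ 2, c l.1 * s; c l.1 * s, 1]
  else !![1, -(c l.1 * s); -(c l.1 * s), 1 + (c l.1) ^ 2 * s ^ 2]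

/-- Evaluation of a row of polynomials. -/
noncomputable def evalRow (s : F) (r : F[X] × F[X]) : Fin 2 → F := ![eval s r.1, eval s r.2]

theorem evalRow_act (c : ℕ → F) (s : F) (l : ℕ × Bool) (r : F[X] × F[X]) :
    evalRow s (act c l r) = Matrix.vecMul (evalRow s r) (mat c s l) := by
  rcases l with ⟨i, b⟩
  rcases r with ⟨r1, r2⟩
  cases b
  · ext k
    fin_cases k <;>
      simp [evalRow, act, mat, step, Matrix.vecMul, dotProduct, Fin.sum_univ_two] <;> ring
  · ext k
    fin_cases k <;>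
      simp [evalRow, act, mat, step, Matrix.vecMul, dotProduct, Fin.sum_univ_two] <;> ring

theorem evalRow_foldl (c : ℕ → F) (s : F) :
    ∀ (L : List (ℕ × Bool)) (r : F[X] × F[X]),
      evalRow s (L.foldl (fun r l => act c l r) r) =
        Matrix.vecMul (evalRow s r) (L.map (mat c s)).prod := by
  intro L
  induction L with
  | nil => intro r; simp
  | cons l L ih =>
    intro r
    rw [List.foldl_cons, ih, evalRow_act, List.map_cons, List.prod_cons, Matrix.vecMul_vecMul]

/-- The generators in `SL₂`. -/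
def gen (c : ℕ → F) (s : F) (i : ℕ) : Matrix.SpecialLinearGroup (Fin 2) F :=
  ⟨!![1 + (c i) ^ 2 * s ^ 2, c i * s; c i * s, 1], by
    rw [Matrix.det_fin_two_of]; ring⟩

theorem gen_letter (c : ℕ → F) (s : F) (l : ℕ × Bool) :
    ((cond l.2 (gen c s l.1) (gen c s l.1)⁻¹ : Matrix.SpecialLinearGroup (Fin 2) F) :
      Matrix (Fin 2) (Fin 2) F) = mat c s l := by
  rcases l with ⟨i, b⟩
  cases b
  · change ((gen c s i)⁻¹ : Matrix.SpecialLinearGroup (Fin 2) F).1 = _
    rw [Matrix.SpecialLinearGroup.coe_inv]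
    simp [gen, mat, Matrix.adjugate_fin_two_of]
  · change (gen c s i : Matrix.SpecialLinearGroup (Fin 2) F).1 = _
    simp [gen, mat]

theorem lift_gen_val (c : ℕ → F) (s : F) (L : List (ℕ × Bool)) :
    ((FreeGroup.lift (gen c s) (FreeGroup.mk L) : Matrix.SpecialLinearGroup (Fin 2) F) :
      Matrix (Fin 2) (Fin 2) F) = (L.map (mat c s)).prod := by
  rw [FreeGroup.lift_mk]
  induction L with
  | nil => simp
  | cons l L ih =>
    rw [List.map_cons, List.prod_cons, Matrix.SpecialLinearGroup.coe_mul, ih, List.map_cons,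
      List.prod_cons, gen_letter]

theorem vecMul_e1 (W : Matrix (Fin 2) (Fin 2) F) : Matrix.vecMul ![1, 0] W 1 = W 0 1 := by
  simp [Matrix.vecMul, dotProduct, Fin.sum_univ_two]

/-- For a nonempty reduced word and suitable constants, some specialisation has a nonzero
off-diagonal entry. -/
theorem exists_offdiag [Fintype F] (c : ℕ → F) (L : List (ℕ × Bool)) (hL : L ≠ [])
    (hred : FreeGroup.IsReduced L)
    (h0 : ∀ l ∈ L, c l.1 ≠ 0) (hinj : ∀ l ∈ L, ∀ l' ∈ L, c l.1 = c l'.1 → l.1 = l'.1)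
    (hcard : 2 * L.length < Fintype.card F) :
    ∃ s : F, ((FreeGroup.lift (gen c s) (FreeGroup.mk L) : Matrix.SpecialLinearGroup (Fin 2) F) :
      Matrix (Fin 2) (Fin 2) F) 0 1 ≠ 0 := by
  obtain ⟨hne, hdeg⟩ := row_ne_zero c L hL hred h0 hinj
  obtain ⟨s, hs⟩ := Polynomial.exists_eval_ne_zero_of_natDegree_lt_card _ hne (by
    rw [Cardinal.mk_fintype]
    exact_mod_cast lt_of_le_of_lt hdeg hcard)
  refine ⟨s, ?_⟩
  rw [lift_gen_val, ← vecMul_e1 (L.map (mat c s)).prod]
  have h1 := evalRow_foldl c s L ((1 : F[X]), (0 : F[X]))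
  have h2 : evalRow s ((1 : F[X]), (0 : F[X])) = ![1, 0] := by
    simp [evalRow]
  rw [h2] at h1
  rw [← h1]
  simpa [evalRow] using hs

theorem result (w : FreeGroup ℕ) (hw : w ≠ 1) :
    ∃ N : ℕ, ∀ (F : Type*) [Field F] [Fintype F], N ≤ Fintype.card F →
      ∃ f : ℕ → Matrix.ProjectiveSpecialLinearGroup (Fin 2) F, FreeGroup.lift f w ≠ 1 := by
  classical
  set L := w.toWord with hLdef
  have hred : FreeGroup.IsReduced L := FreeGroup.isReduced_toWord
  have hLne : L ≠ [] := fun h => hw (FreeGroup.toWord_eq_nil_iff.mp h)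
  have hwL : w = FreeGroup.mk L := FreeGroup.mk_toWord.symm
  set M := (L.map Prod.fst).sum + 1 with hM
  have hlt : ∀ l ∈ L, l.1 < M := by
    intro l hl
    have : l.1 ≤ (L.map Prod.fst).sum := List.le_sum_of_mem (List.mem_map_of_mem hl)
    omega
  refine ⟨max (2 * L.length + 1) (M + 1), fun F _ _ hN => ?_⟩
  have hN1 : 2 * L.length < Fintype.card F := by
    have := le_max_left (2 * L.length + 1) (M + 1)
    omega
  have hN2 : M ≤ Fintype.card Fˣ := by
    rw [Fintype.card_units]
    have := le_max_right (2 * L.length + 1) (M + 1)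
    omega
  obtain ⟨e⟩ : Nonempty (Fin M ↪ Fˣ) :=
    Function.Embedding.nonempty_of_card_le (by simpa using hN2)
  set c : ℕ → F := fun i => if h : i < M then ((e ⟨i, h⟩ : Fˣ) : F) else 1 with hc
  have h0 : ∀ l ∈ L, c l.1 ≠ 0 := by
    intro l hl
    simp only [hc, dif_pos (hlt l hl)]
    exact Units.ne_zero _
  have hinj : ∀ l ∈ L, ∀ l' ∈ L, c l.1 = c l'.1 → l.1 = l'.1 := by
    intro l hl l' hl' h
    simp only [hc, dif_pos (hlt l hl), dif_pos (hlt l' hl')] at h
    have := e.injective (Units.ext h)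
    simpa using this
  obtain ⟨s, hs⟩ := exists_offdiag c L hLne hred h0 hinj hN1
  refine ⟨fun i => QuotientGroup.mk (gen c s i), ?_⟩
  have e1 : FreeGroup.lift (fun i => (QuotientGroup.mk (gen c s i) :
      Matrix.ProjectiveSpecialLinearGroup (Fin 2) F)) =
      (QuotientGroup.mk' (Subgroup.center (Matrix.SpecialLinearGroup (Fin 2) F))).comp
        (FreeGroup.lift (gen c s)) := by
    apply FreeGroup.ext_hom
    intro i
    simp
  intro h1
  rw [e1, MonoidHom.comp_apply, QuotientGroup.mk'_apply, QuotientGroup.eq_one_iff] at h1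
  obtain ⟨r, _, hr⟩ := Matrix.SpecialLinearGroup.mem_center_iff.mp h1
  apply hs
  rw [← hwL, ← hr]
  simp

end Cfsg.Agent.S2353
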