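import Cfsg.Statements.S1280
import Cfsg.Agent.Lib.Helper34.Cover
import Cfsg.Agent.Lib.Helper31.Cores

set_option autoImplicit false
open Cfsg

namespace Cfsg.Agent.S1280

open Subgroup

variable {G : Type*} [Group G]

/-- If `Y` normalizes `X`, every element of `X ⊔ Y` is a product `x * y`. -/
theorem mem_sup_of_le_normalizer {X Y : Subgroup G} (h : Y ≤ normalizer (X : Set G)) {g : G}
    (hg : g ∈ X ⊔ Y) : ∃ x ∈ X, ∃ y ∈ Y, g = x * y := by
  rw [sup_eq_closure] at hg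
  induction hg using closure_induction with
  | mem g hg =>
    rcases hg with hg | hg
    · exact ⟨g, hg, 1, Y.one_mem, by simp⟩
    · exact ⟨1, X.one_mem, g, hg, by simp⟩
  | one => exact ⟨1, X.one_mem, 1, Y.one_mem, by simp⟩
  | mul a b _ _ iha ihb =>
    obtain ⟨x1, hx1, y1, hy1, rfl⟩ := iha
    obtain ⟨x2, hx2, y2, hy2, rfl⟩ := ihb
    refine ⟨x1 * (y1 * x2 * y1⁻¹), X.mul_mem hx1 ((mem_normalizer_iff.1 (h hy1) x2).1 hx2),
      y1 * y2, Y.mul_mem hy1 hy2, by group⟩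
  | inv a _ iha =>
    obtain ⟨x, hx, y, hy, rfl⟩ := iha
    refine ⟨y⁻¹ * x⁻¹ * y⁻¹⁻¹, (mem_normalizer_iff.1 (h (Y.inv_mem hy)) x⁻¹).1 (X.inv_mem hx),
      y⁻¹, Y.inv_mem hy, by group⟩

/-- If `Y` normalizes `X` and both are solvable then `X ⊔ Y` is solvable. -/
theorem isSolvable_sup {X Y : Subgroup G} (h : Y ≤ normalizer (X : Set G))
    (hX : Group.IsSolvable ↥X) (hY : Group.IsSolvable ↥Y) : Group.IsSolvable ↥(X ⊔ Y) := by
  have hn : (X.subgroupOf (X ⊔ Y)).Normal := by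
    rw [Subgroup.normal_subgroupOf_iff_le_normalizer le_sup_left]
    exact sup_le Subgroup.le_normalizer h
  let f : ↥(X.subgroupOf (X ⊔ Y)) →* ↥(X ⊔ Y) := (X.subgroupOf (X ⊔ Y)).subtype
  let g : ↥(X ⊔ Y) →* ↥(X ⊔ Y) ⧸ X.subgroupOf (X ⊔ Y) := QuotientGroup.mk' _
  have h1 : Group.IsSolvable ↥(X.subgroupOf (X ⊔ Y)) :=
    Group.isSolvable_of_isSolvable_injective
      (f := (Subgroup.subgroupOfEquivOfLe (le_sup_left : X ≤ X ⊔ Y)).toMonoidHom)
      (Subgroup.subgroupOfEquivOfLe (le_sup_left : X ≤ X ⊔ Y)).injective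
  have h2 : Group.IsSolvable (↥(X ⊔ Y) ⧸ X.subgroupOf (X ⊔ Y)) := by
    let φ : ↥Y →* ↥(X ⊔ Y) ⧸ X.subgroupOf (X ⊔ Y) :=
      g.comp (Subgroup.inclusion (le_sup_right : Y ≤ X ⊔ Y))
    have hφ : Function.Surjective φ := by
      intro q
      obtain ⟨s, rfl⟩ := QuotientGroup.mk'_surjective _ q
      obtain ⟨x, hx, y, hy, hxy⟩ := mem_sup_of_le_normalizer h s.2
      refine ⟨⟨y, hy⟩, ?_⟩
      show g (Subgroup.inclusion le_sup_right ⟨y, hy⟩) = g s
      have hs : s = ⟨x, le_sup_left (b := Y) hx⟩ * Subgroup.inclusion le_sup_right ⟨y, hy⟩ :=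
        Subtype.ext hxy
      rw [hs, map_mul]
      have : g ⟨x, le_sup_left (b := Y) hx⟩ = 1 := by
        rw [QuotientGroup.mk'_apply, QuotientGroup.eq_one_iff, Subgroup.mem_subgroupOf]
        exact hx
      rw [this, one_mul]
    exact Group.isSolvable_of_surjective hφ
  refine Group.isSolvable_of_ker_le_range f g ?_
  rw [QuotientGroup.ker_mk', Subgroup.range_subtype]

/-- Let θ be a solvable A-signalizer functor (A a noncyclic elementary abelian p-subgroup of the finite group G), and X, Y members of its family with Y ≤ N_G(X). Then X ⊔ Y (= XY) is again in the family. -/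
theorem result {G : Type*} [Group G] [Finite G] (p : ℕ) [Fact p.Prime] (A : Subgroup G) (hA : Cfsg.IsElementaryAbelian p A) (hA2 : p ^ 2 ≤ Nat.card ↥A) (θ : G → Subgroup G) (hθ : Cfsg.IsSolvableSignalizerFunctor p A θ) (X Y : Subgroup G) (hX : X ∈ Cfsg.signalizerFamily p A θ) (hY : Y ∈ Cfsg.signalizerFamily p A θ) (hn : Y ≤ Subgroup.normalizer (X : Set G)) : X ⊔ Y ∈ Cfsg.signalizerFamily p A θ := by
  obtain ⟨hXs, hXc, hXi, hXb⟩ := hX
  obtain ⟨hYs, hYc, hYi, hYb⟩ := hY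
  have hp : p.Prime := Fact.out
  refine ⟨isSolvable_sup hn hXs hYs, ?_, ?_, ?_⟩
  · intro hdvd
    have h1 := Cfsg.Agent.Helper31.card_sup_dvd_of_le_normalizer Y X hn
    rw [sup_comm] at h1
    rcases (Nat.Prime.dvd_mul hp).1 (hdvd.trans h1) with h | h
    · exact hYc h
    · exact hXc h
  · intro b hb u hu
    obtain ⟨x, hx, y, hy, rfl⟩ := mem_sup_of_le_normalizer hn hu
    have : b * (x * y) * b⁻¹ = (b * x * b⁻¹) * (b * y * b⁻¹) := by group
    rw [this]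
    exact mul_mem (mem_sup_left (hXi b hb x hx)) (mem_sup_right (hYi b hb y hy))
  · intro a ha ha1 g hg
    obtain ⟨hgXY, hgc⟩ := Subgroup.mem_inf.1 hg
    rw [Subgroup.mem_centralizer_singleton_iff] at hgc
    obtain ⟨x, hx, y, hy, rfl⟩ := mem_sup_of_le_normalizer hn hgXY
    have hainv : a⁻¹ ∈ A := A.inv_mem ha
    -- O = X ⊓ Y
    set O : Subgroup G := X ⊓ Y with hO
    have hOcard : ¬ p ∣ Nat.card O := fun h => hXc (h.trans (Subgroup.card_dvd_of_le inf_le_left))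
    have hap : a ^ p ^ 1 = 1 := by rw [pow_one]; exact hA.2 a ha
    have haO : a ∈ Subgroup.normalizer (O : Set G) := by
      rw [Subgroup.mem_normalizer_iff]
      intro o
      constructor
      · intro h
        obtain ⟨h1, h2⟩ := Subgroup.mem_inf.1 h
        exact Subgroup.mem_inf.2 ⟨hXi a ha o h1, hYi a ha o h2⟩
      · intro h
        obtain ⟨h1, h2⟩ := Subgroup.mem_inf.1 h
        have e : o = a⁻¹ * (a * o * a⁻¹) * a⁻¹⁻¹ := by group
        rw [e]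
        exact Subgroup.mem_inf.2 ⟨hXi a⁻¹ hainv _ h1, hYi a⁻¹ hainv _ h2⟩
    -- a fixes x * y
    have hfix : a * (x * y) * a⁻¹ = x * y := by
      rw [← hgc]; group
    have hk : (y⁻¹)⁻¹ * a * y⁻¹ * a⁻¹ ∈ O := by
      have hk2 : (y⁻¹)⁻¹ * a * y⁻¹ * a⁻¹ ∈ Y := by
        have : (y⁻¹)⁻¹ * a * y⁻¹ * a⁻¹ = y * (a * y⁻¹ * a⁻¹) := by group
        rw [this]
        exact Y.mul_mem hy (hYi a ha _ (Y.inv_mem hy))
      have hk1 : (y⁻¹)⁻¹ * a * y⁻¹ * a⁻¹ ∈ X := by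
        have h1 : y * a = x⁻¹ * (a * (x * y)) := by rw [← hgc]; group
        have e : (y⁻¹)⁻¹ * a * y⁻¹ * a⁻¹ = x⁻¹ * (a * x * a⁻¹) := by
          calc (y⁻¹)⁻¹ * a * y⁻¹ * a⁻¹ = (y * a) * y⁻¹ * a⁻¹ := by group
            _ = x⁻¹ * (a * (x * y)) * y⁻¹ * a⁻¹ := by rw [h1]
            _ = x⁻¹ * (a * x * a⁻¹) := by group
        rw [e]
        exact X.mul_mem (X.inv_mem hx) (hXi a ha x hx)
      exact Subgroup.mem_inf.2 ⟨hk1, hk2⟩
    obtain ⟨o, ho, hofix⟩ := Cfsg.Agent.Helper34.exists_fixed_in_coset O hOcard hap haO hk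
    obtain ⟨hoX, hoY⟩ := Subgroup.mem_inf.1 ho
    -- y' = (y⁻¹ o)⁻¹ ∈ Y is fixed by a
    have hy' : (y⁻¹ * o)⁻¹ ∈ θ a := by
      apply hYb a ha ha1
      refine Subgroup.mem_inf.2 ⟨Y.inv_mem (Y.mul_mem (Y.inv_mem hy) hoY), ?_⟩
      rw [Subgroup.mem_centralizer_singleton_iff]
      have e : (y⁻¹ * o)⁻¹ * a = (a * (y⁻¹ * o) * a⁻¹)⁻¹ * a := by rw [hofix]
      rw [e]; group
    have hx' : x * o ∈ θ a := by
      apply hXb a ha ha1
      refine Subgroup.mem_inf.2 ⟨X.mul_mem hx hoX, ?_⟩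
      rw [Subgroup.mem_centralizer_singleton_iff]
      have e1 : x * o = (x * y) * (y⁻¹ * o) := by group
      have e2 : a * (x * o) * a⁻¹ = x * o := by
        calc a * (x * o) * a⁻¹ = (a * (x * y) * a⁻¹) * (a * (y⁻¹ * o) * a⁻¹) := by rw [e1]; group
          _ = (x * y) * (y⁻¹ * o) := by rw [hfix, hofix]
          _ = x * o := by group
      have : a * (x * o) = (a * (x * o) * a⁻¹) * a := by group
      rw [this, e2]
    have : x * y = (x * o) * (y⁻¹ * o)⁻¹ := by group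
    rw [this]
    exact (θ a).mul_mem hx' hy'

end Cfsg.Agent.S1280
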