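import Mathlib
import Cfsg.Statements.S1379
import Cfsg.Agent.S1366
import Cfsg.Agent.Lib.Helper25.BG14Main
import Cfsg.Agent.Lib.Helper25.BG14Disj
import Cfsg.Agent.Lib.Helper25.BG14Disj3b
import Cfsg.Agent.Lib.Helper25.BG14Three
import Cfsg.Agent.Lib.Helper23.BG147Claim2

set_option autoImplicit false
open Cfsg

namespace Cfsg.Agent.S1379

open Cfsg.Agent.Helper25

/-- Let G be a minimal simple group of odd order; for a maximal subgroup M write M̃ for the union of the G-conjugates of the cosets x R(x), x ≠ 1 in M_σ. Then M̃ ∩ Ñ = ∅ for non-conjugate maximal M, N; if every maximal subgroup has κ empty, every g ≠ 1 lies in some M̃; and if M = K U M_σ has K ≠ 1 with Ẑ = K K* − (K ∪ K*), then every g ≠ 1 lies in some Ñ or in a conjugate of Ẑ, and no conjugate of an element of Ẑ lies in any Ñ. -/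
theorem result {G : Type*} [Group G] [Finite G] (hG : Cfsg.IsMinSimpleOddOrder G) :
    (∀ M N : Subgroup G, IsCoatom M → IsCoatom N → (∀ g : G, N ≠ M.map (MulAut.conj g).toMonoidHom) → Cfsg.tildeOf M ((Cfsg.sigmaCore M : Set G) \ {1}) ∩ Cfsg.tildeOf N ((Cfsg.sigmaCore N : Set G) \ {1}) = ∅) ∧
      ((∀ M : Subgroup G, IsCoatom M → Cfsg.kappa M = ∅) →
        ∀ g : G, g ≠ 1 → ∃ M : Subgroup G, IsCoatom M ∧ g ∈ Cfsg.tildeOf M ((Cfsg.sigmaCore M : Set G) \ {1})) ∧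
      ∀ (M K U : Subgroup G), IsCoatom M → Cfsg.IsSigmaDecomposition M K U → K ≠ ⊥ →
        (∀ g : G, g ≠ 1 → (∃ N : Subgroup G, IsCoatom N ∧ g ∈ Cfsg.tildeOf N ((Cfsg.sigmaCore N : Set G) \ {1})) ∨
            ∃ y : G, ∃ z ∈ ((↑(K ⊔ (Cfsg.sigmaCore M ⊓ Subgroup.centralizer (K : Set G))) : Set G) \ ((K : Set G) ∪ ↑(Cfsg.sigmaCore M ⊓ Subgroup.centralizer (K : Set G)))), g = y * z * y⁻¹) ∧
        ∀ N : Subgroup G, IsCoatom N → ∀ y : G, ∀ z ∈ ((↑(K ⊔ (Cfsg.sigmaCore M ⊓ Subgroup.centralizer (K : Set G))) : Set G) \ ((K : Set G) ∪ ↑(Cfsg.sigmaCore M ⊓ Subgroup.centralizer (K : Set G)))), y * z * y⁻¹ ∉ Cfsg.tildeOf N ((Cfsg.sigmaCore N : Set G) \ {1}) := by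
  refine ⟨BG14Disj.part1 hG, ?_, ?_⟩
  · intro hκ g hg
    rcases BG14Main.main hG g hg with h | h
    · exact h
    · exfalso
      obtain ⟨M, hM, x, hx, hx1, y, hy, hy1, hxy, hκy, -⟩ := h
      obtain ⟨p, hp, hpd⟩ := BG14Main.exists_prime_dvd_orderOf hy1
      have := hκy p hp hpd
      rw [hκ M hM] at this
      exact this
  · intro M K U hM hKU hK1
    refine ⟨?_, BG14Disj.part3b hG M K U hM hKU hK1⟩
    intro g hg
    rcases BG14Main.main hG g hg with h | h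
    · left; exact h
    · right
      obtain ⟨H, hH, x, hx, hx1, y, hy, hy1, hxy, hκy, -, c, rfl⟩ := h
      obtain ⟨Mstar, ⟨hMstar, hKst, hKstH⟩, -⟩ := Cfsg.Agent.S1366.result hG M hM K U hKU hK1
      have hκne : (Cfsg.kappa H).Nonempty := by
        obtain ⟨p, hp, hpd⟩ := BG14Main.exists_prime_dvd_orderOf hy1
        exact ⟨p, hκy p hp hpd⟩
      have hconj : (∃ t : G, H = M.map (MulAut.conj t).toMonoidHom) ∨
          (∃ t : G, H = Mstar.map (MulAut.conj t).toMonoidHom) := by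
        obtain ⟨t, h | h⟩ := Cfsg.Agent.Helper23.BG147.claim2 hG M hM K U hKU hK1 Mstar hMstar hKst hKstH
          H hH hκne
        · exact Or.inl ⟨t, h⟩
        · exact Or.inr ⟨t, h⟩
      obtain ⟨d, z, hz, he⟩ := BG14Three.part3a_core hG M K U hM hKU hK1 Mstar hMstar hKst hKstH
        H hconj x hx hx1 y hy hy1 hxy hκy
      refine ⟨c * d, z, hz, ?_⟩
      rw [he]
      group

end Cfsg.Agent.S1379
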