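import Cfsg.Statements.S0945
import Mathlib
import Cfsg.Agent.Lib.Helper16.Homocyclic

set_option autoImplicit false
open Cfsg

namespace Cfsg.Agent.S0945

open Cfsg.Agent.Helper16

variable {G : Type*} [Group G]

theorem sylow_le_centralizer_of_comm (P : Subgroup G) (hc : ∀ x y : P, x * y = y * x) :
    P ≤ Subgroup.centralizer (P : Set G) := by
  intro x hx
  rw [Subgroup.mem_centralizer_iff]
  intro y hy
  have := hc ⟨y, hy⟩ ⟨x, hx⟩
  exact congrArg Subtype.val this

theorem relIndex_eq_card_range (P : Subgroup G) :
    (Subgroup.centralizer (P : Set G)).relIndex (Subgroup.normalizer (P : Set G))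
      = Nat.card P.normalizerMonoidHom.range := by
  rw [Subgroup.relIndex, ← Subgroup.normalizerMonoidHom_ker, Subgroup.index_ker]

theorem odd_relIndex [Finite G] (P : Sylow 2 G) (hc : ∀ x y : (P : Subgroup G), x * y = y * x) :
    Odd ((Subgroup.centralizer ((P : Subgroup G) : Set G)).relIndex
      (Subgroup.normalizer ((P : Subgroup G) : Set G))) := by
  have h1 : (Subgroup.centralizer ((P : Subgroup G) : Set G)).relIndex
      (Subgroup.normalizer ((P : Subgroup G) : Set G)) ∣
      (P : Subgroup G).relIndex (Subgroup.normalizer ((P : Subgroup G) : Set G)) :=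
    Subgroup.relIndex_dvd_of_le_left _ (sylow_le_centralizer_of_comm _ hc)
  have h2 : (P : Subgroup G).relIndex (Subgroup.normalizer ((P : Subgroup G) : Set G)) ∣
      (P : Subgroup G).index := Subgroup.relIndex_dvd_index_of_le Subgroup.le_normalizer
  have h3 : ¬ 2 ∣ (P : Subgroup G).index := P.not_dvd_index
  rw [← Nat.not_even_iff_odd, even_iff_two_dvd]
  intro h
  exact h3 (h.trans (h1.trans h2))

/-- Let P be a Sylow 2-subgroup of the finite group G isomorphic to Z/2^m × Z/2^m with m ≥ 1. Then (i) the index of C_G(P) in N_G(P) is 1 or 3, and (ii) if it is not 1, then for every z ≠ 1 in P, C_G(z) ∩ N_G(P) = C_G(P). -/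
theorem result {G : Type*} [Group G] [Finite G] (P : Sylow 2 G) (m : ℕ) (hm : 1 ≤ m) (e : (P : Subgroup G) ≃* Multiplicative (ZMod (2 ^ m) × ZMod (2 ^ m))) : ((Subgroup.centralizer (P : Set G)).relIndex (Subgroup.normalizer (P : Set G)) = 1 ∨ (Subgroup.centralizer (P : Set G)).relIndex (Subgroup.normalizer (P : Set G)) = 3) ∧ ((Subgroup.centralizer (P : Set G)).relIndex (Subgroup.normalizer (P : Set G)) ≠ 1 → ∀ z ∈ (P : Subgroup G), z ≠ 1 → Subgroup.centralizer ({z} : Set G) ⊓ Subgroup.normalizer (P : Set G) = Subgroup.centralizer (P : Set G)) := by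
  have hc : ∀ x y : (P : Subgroup G), x * y = y * x := comm_of_equiv m e
  have hodd := odd_relIndex P hc
  have hA : Nat.card (P : Subgroup G).normalizerMonoidHom.range
      = (Subgroup.centralizer ((P : Subgroup G) : Set G)).relIndex
          (Subgroup.normalizer ((P : Subgroup G) : Set G)) := (relIndex_eq_card_range _).symm
  have hoddA : Odd (Nat.card (P : Subgroup G).normalizerMonoidHom.range) := by rw [hA]; exact hodd
  refine ⟨?_, ?_⟩
  · have := card_aut_subgroup_of_odd m hm e (P : Subgroup G).normalizerMonoidHom.range hoddA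
    rw [hA] at this
    exact this
  · intro _ z hz hz1
    apply le_antisymm
    · rintro n ⟨hnz, hnN⟩
      have hnN' : n ∈ Subgroup.normalizer ((P : Subgroup G) : Set G) := hnN
      set α := (P : Subgroup G).normalizerMonoidHom ⟨n, hnN'⟩ with hα
      have hαmem : α ∈ (P : Subgroup G).normalizerMonoidHom.range := ⟨_, rfl⟩
      have hpow : α ^ Nat.card (P : Subgroup G).normalizerMonoidHom.range = 1 := by
        have h2 : (⟨α, hαmem⟩ : (P : Subgroup G).normalizerMonoidHom.range)
            ^ Nat.card (P : Subgroup G).normalizerMonoidHom.range = 1 := pow_card_eq_one'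
        have := congrArg Subtype.val h2
        rw [Subgroup.coe_pow] at this
        exact this
      have hfix : α ⟨z, hz⟩ = ⟨z, hz⟩ := by
        apply Subtype.ext
        rw [hα]
        show n * z * n⁻¹ = z
        have hnz' : n ∈ Subgroup.centralizer ({z} : Set G) := hnz
        rw [Subgroup.mem_centralizer_iff] at hnz'
        have := hnz' z rfl
        rw [← this]; group
      have hz1' : (⟨z, hz⟩ : (P : Subgroup G)) ≠ 1 := by
        intro h
        exact hz1 (congrArg Subtype.val h)
      have hα1 := aut_eq_one_of_fix m hm e α _ hoddA hpow ⟨z, hz⟩ hz1' hfix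
      have hker : (⟨n, hnN'⟩ : Subgroup.normalizer ((P : Subgroup G) : Set G))
          ∈ (P : Subgroup G).normalizerMonoidHom.ker := by
        rw [MonoidHom.mem_ker]; exact hα1
      rw [Subgroup.normalizerMonoidHom_ker, Subgroup.mem_subgroupOf] at hker
      exact hker
    · intro n hn
      refine ⟨?_, Subgroup.centralizer_le_normalizer _ hn⟩
      refine Subgroup.centralizer_le ?_ hn
      intro w hw
      rw [Set.mem_singleton_iff] at hw
      rw [hw]; exact hz

end Cfsg.Agent.S0945
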