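import Cfsg.Statements.S2843
import Mathlib
import Cfsg.Agent.Lib.Helper23.Large

set_option autoImplicit false
open Cfsg

namespace Cfsg.Agent.S2843

open Cfsg.Agent.Helper23
open scoped commutatorElement

/-- Let Q be a nontrivial large p-subgroup of the finite group H, Q ≤ L ≤ H, and Y a nontrivial p-subgroup of H normalized by L. Let L° be the weak closure of Q in L (generated by the conjugates of Q inside L). Then L° equals the weak closure of Q in L·C_H(Y), and [L°, C_H(Y)] ≤ O_p(L°); in particular C_H(Y) normalizes L°. -/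
theorem result {H : Type*} [Group H] [Finite H] {p : ℕ} [Fact p.Prime] (Q : Subgroup H) (hQp : IsPGroup p ↥Q) (hQ1 : Q ≠ ⊥) (hL : Cfsg.IsLarge Q) (L : Subgroup H) (hQL : Q ≤ L) (Y : Subgroup H) (hYp : IsPGroup p ↥Y) (hY1 : Y ≠ ⊥) (hLY : L ≤ Subgroup.normalizer ((Y : Subgroup H) : Set H)) : Cfsg.weakClosure Q L = Cfsg.weakClosure Q (L ⊔ Subgroup.centralizer ((Y : Subgroup H) : Set H)) ∧ ⁅Cfsg.weakClosure Q L, Subgroup.centralizer ((Y : Subgroup H) : Set H)⁆ ≤ (Cfsg.pCoreOf p (Cfsg.weakClosure Q L)) ∧ Subgroup.centralizer ((Y : Subgroup H) : Set H) ≤ Subgroup.normalizer (((Cfsg.weakClosure Q L) : Subgroup H) : Set H) := by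
  set D := Subgroup.centralizer ((Y : Subgroup H) : Set H) with hD
  have hDY : D ≤ Subgroup.normalizer (Y : Set H) := Subgroup.centralizer_le_normalizer _
  have hLD : L ≤ Subgroup.normalizer (D : Set H) :=
    hLY.trans (normalizer_le_normalizer_centralizer' Y)
  have hKY : L ⊔ D ≤ Subgroup.normalizer (Y : Set H) := sup_le hLY hDY
  -- Claim A
  have hA : ∀ g : H, cj Q g ≤ L ⊔ D → D ≤ Subgroup.normalizer (cj Q g : Set H) := by
    intro g hg
    have hne := inf_centralizer_ne_bot_of_le_normalizer (isPGroup_cj hQp g) hYp hY1 (hg.trans hKY)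
    have hN := (isLarge_cj hL g).2 _ inf_le_right hne
    refine le_trans ?_ hN
    refine le_trans ?_ (Subgroup.centralizer_le_normalizer _)
    exact Subgroup.centralizer_le inf_le_left
  have hDQ : D ≤ Subgroup.normalizer (Q : Set H) := by
    have := hA 1 (by rw [cj_one]; exact hQL.trans le_sup_left)
    rwa [cj_one] at this
  -- Claim B
  have hB : ∀ g : H, cj Q g ≤ L ⊔ D → cj Q g ≤ L := by
    intro g hg
    set K := L ⊔ D with hK
    have hQK : Q ≤ K := hQL.trans le_sup_left
    obtain ⟨S, hS⟩ := (hQp.comap_subtype (K := K)).exists_le_sylow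
    obtain ⟨S', hS'⟩ := ((isPGroup_cj hQp g).comap_subtype (K := K)).exists_le_sylow
    obtain ⟨x, hx⟩ := MulAction.exists_smul_eq ↥K S S'
    set SH := (S : Subgroup ↥K).map K.subtype with hSH
    have hSHp : IsPGroup p ↥SH := S.2.map _
    have hQSH : Q ≤ SH := by
      intro q hq
      exact ⟨⟨q, hQK hq⟩, hS (Subgroup.mem_comap.mpr hq), rfl⟩
    have hgSH : cj Q ((x : H)⁻¹ * g) ≤ SH := by
      rw [← cj_cj]
      intro y hy
      have hy' := mem_cj.mp hy
      rw [inv_inv] at hy'
      -- hy' : x * y * x⁻¹ ∈ cj Q g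
      have hyK : (x : H) * y * (x : H)⁻¹ ∈ K := hg hy'
      have h1 : (⟨(x : H) * y * (x : H)⁻¹, hyK⟩ : ↥K) ∈ ((S' : Sylow p ↥K) : Subgroup ↥K) :=
        hS' (Subgroup.mem_comap.mpr hy')
      rw [← hx] at h1
      have h2 := mem_smul_sylow_iff.mp h1
      refine ⟨_, h2, ?_⟩
      simp only [Subgroup.coe_subtype, Subgroup.coe_mul, Subgroup.coe_inv]
      group
    have heq := cj_eq_of_le_pgroup hQp hQ1 hL hSHp hQSH _ hgSH
    -- so cj Q g = cj Q x
    have hgx : cj Q g = cj Q (x : H) := by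
      have := congrArg (fun A => cj A (x : H)) heq
      simp only [cj_cj] at this
      rw [← this]
      congr 1
      group
    obtain ⟨l, hl, d, hd, hxld⟩ := mem_sup_of_le_normalizer hLD x.2
    rw [hgx, hxld, ← cj_cj, cj_eq_of_mem_normalizer (hDQ hd)]
    exact cj_le_of_mem hQL hl
  -- (1)
  have h1 : Cfsg.weakClosure Q L = Cfsg.weakClosure Q (L ⊔ D) := by
    unfold Cfsg.weakClosure
    apply le_antisymm
    · apply iSup_le
      rintro ⟨g, hg⟩
      exact le_iSup_of_le (⟨g, hg.trans le_sup_left⟩ : {g : H // Q.map (MulAut.conj g).toMonoidHom ≤ L ⊔ D}) le_rfl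
    · apply iSup_le
      rintro ⟨g, hg⟩
      exact le_iSup_of_le (⟨g, hB g hg⟩ : {g : H // Q.map (MulAut.conj g).toMonoidHom ≤ L}) le_rfl
  -- (3)
  have h3 : D ≤ Subgroup.normalizer (((Cfsg.weakClosure Q L) : Subgroup H) : Set H) := by
    unfold Cfsg.weakClosure
    apply le_normalizer_iSup
    rintro ⟨g, hg⟩
    exact hA g (hg.trans le_sup_left)
  have hWL : Cfsg.weakClosure Q L ≤ L := by
    unfold Cfsg.weakClosure
    apply iSup_le
    rintro ⟨g, hg⟩
    exact hg
  refine ⟨h1, ?_, h3⟩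
  -- (2)
  set E := Cfsg.pCoreOf p D with hE
  have hEp : IsPGroup p ↥E := pCoreOf_isPGroup D
  have hLE : L ≤ Subgroup.normalizer (E : Set H) := hLD.trans (normalizer_le_normalizer_pCoreOf D)
  -- commutators land in E
  have hcomm : ∀ x ∈ Cfsg.weakClosure Q L, x ∈ L ∧ ∀ d ∈ D, ⁅x, d⁆ ∈ E := by
    intro x hx
    unfold Cfsg.weakClosure at hx
    refine Subgroup.iSup_induction (C := fun x => x ∈ L ∧ ∀ d ∈ D, ⁅x, d⁆ ∈ E) _ hx ?_ ?_ ?_
    · rintro ⟨g, hg⟩ x hx
      have hxL : x ∈ L := hg hx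
      refine ⟨hxL, ?_⟩
      intro d hd
      have hdn := hA g (hg.trans le_sup_left) hd
      have hmem : ⁅x, d⁆ ∈ cj Q g ⊓ D := by
        rw [commutatorElement_def]
        refine Subgroup.mem_inf.mpr ⟨?_, ?_⟩
        · have h1 : d * x⁻¹ * d⁻¹ ∈ cj Q g := by
            rw [Subgroup.mem_set_normalizer_iff] at hdn
            exact (hdn x⁻¹).mp (Subgroup.inv_mem _ hx)
          have : x * d * x⁻¹ * d⁻¹ = x * (d * x⁻¹ * d⁻¹) := by group
          rw [this]
          exact Subgroup.mul_mem _ hx h1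
        · have h1 : x * d * x⁻¹ ∈ D := by
            have := hLD hxL
            rw [Subgroup.mem_set_normalizer_iff] at this
            exact (this d).mp hd
          exact D.mul_mem h1 (D.inv_mem hd)
      have hle : cj Q g ⊓ D ≤ E := by
        apply le_pCoreOf_of_normal_pgroup inf_le_right ((isPGroup_cj hQp g).to_inf_left)
        intro d' hd'
        have hd'n := hA g (hg.trans le_sup_left) hd'
        rw [Subgroup.mem_set_normalizer_iff] at hd'n ⊢
        intro z
        simp only [Subgroup.coe_inf, Set.mem_inter_iff, SetLike.mem_coe]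
        constructor
        · rintro ⟨hz1, hz2⟩
          exact ⟨(hd'n z).mp hz1, D.mul_mem (D.mul_mem hd' hz2) (D.inv_mem hd')⟩
        · rintro ⟨hz1, hz2⟩
          refine ⟨(hd'n z).mpr hz1, ?_⟩
          have : z = d'⁻¹ * (d' * z * d'⁻¹) * d' := by group
          rw [this]
          exact D.mul_mem (D.mul_mem (D.inv_mem hd') hz2) hd'
      exact hle hmem
    · refine ⟨L.one_mem, ?_⟩
      intro d hd
      rw [commutatorElement_def]
      simp
    · intro x y hx hy
      refine ⟨L.mul_mem hx.1 hy.1, ?_⟩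
      intro d hd
      have e : ⁅x * y, d⁆ = x * ⁅y, d⁆ * x⁻¹ * ⁅x, d⁆ := by
        simp only [commutatorElement_def]; group
      rw [e]
      apply E.mul_mem _ (hx.2 d hd)
      have := hLE hx.1
      rw [Subgroup.mem_set_normalizer_iff] at this
      exact (this _).mp (hy.2 d hd)
  have hXE : ⁅Cfsg.weakClosure Q L, D⁆ ≤ E := by
    rw [Subgroup.commutator_le]
    intro x hx d hd
    exact (hcomm x hx).2 d hd
  apply le_pCoreOf_of_normal_pgroup
  · -- ⁅L°, D⁆ ≤ L°
    rw [Subgroup.commutator_le]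
    intro x hx d hd
    rw [commutatorElement_def]
    have h := h3 hd
    rw [Subgroup.mem_set_normalizer_iff] at h
    have h1 : d * x⁻¹ * d⁻¹ ∈ Cfsg.weakClosure Q L := (h x⁻¹).mp (Subgroup.inv_mem _ hx)
    have : x * d * x⁻¹ * d⁻¹ = x * (d * x⁻¹ * d⁻¹) := by group
    rw [this]
    exact Subgroup.mul_mem _ hx h1
  · exact hEp.to_le hXE
  · -- L° normalizes ⁅L°, D⁆
    intro x hx
    rw [mem_normalizer_iff_cj_eq]
    unfold cj
    rw [Subgroup.map_commutator]
    have e1 : Subgroup.map (MulAut.conj x).toMonoidHom (Cfsg.weakClosure Q L) = Cfsg.weakClosure Q L :=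
      cj_eq_of_mem_normalizer (Subgroup.le_normalizer hx)
    have e2 : Subgroup.map (MulAut.conj x).toMonoidHom D = D :=
      cj_eq_of_mem_normalizer (hLD (hWL hx))
    rw [e1, e2]

end Cfsg.Agent.S2843
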