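import Cfsg.Statements.S5021
import Cfsg.Agent.Lib.Helper21.RankOneAlg
import Cfsg.Agent.Lib.Helper21.RankOneSpecial

set_option autoImplicit false
open Cfsg

namespace Cfsg.Agent.S5021

open Cfsg.Agent.Helper83 Cfsg.Agent.Helper21.RankOneAlg Cfsg.Agent.Helper21.RankOneSpecial
open scoped IsMulCommutative

section bridge

variable {X : Type*} [Group X]

/-- the map `a ↦ b(a)` as a map between the additive versions of `A` and `B` -/
noncomputable def fAdd (A B : Subgroup X) (x : Additive A) : Additive B :=
  Additive.ofMul ⟨bmap A B (x.toMul : X), bmap_mem A B _⟩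

theorem bmap_eqE' {A B : Subgroup X} (hs : IsSpecialRankOnePair A B) (hA : IsMulCommutative A)
    (hB : IsMulCommutative B) {x u : X} (hx : x ∈ A) (hu : u ∈ A)
    (hx1 : x ≠ 1) (hu1 : u ≠ 1) (hux : u ≠ x) (hux' : u * x ≠ 1) :
    bmap B A (bmap A B (u * x) / bmap A B x) * x =
      bmap B A (bmap A B (bmap B A (bmap A B u / bmap A B x) * x) / bmap A B x) := by
  have cB : ∀ z : X, bmap A B z / bmap A B x = (bmap A B x)⁻¹ * bmap A B z := by
    intro z
    rw [div_eq_mul_inv]
    exact comm_of_mem hB (bmap_mem A B z) (B.inv_mem (bmap_mem A B x))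
  have cA : ∀ z : X, bmap B A z * x = x * bmap B A z := fun z =>
    comm_of_mem hA (bmap_mem B A z) hx
  rw [cB, cB, cB, cA, cA, comm_of_mem hA hu hx]
  exact bmap_eqE hs hx hu hx1 hu1 hux (by rwa [comm_of_mem hA hx hu])

theorem data {A B : Subgroup X} (hs : IsSpecialRankOnePair A B) [hA : IsMulCommutative A]
    [hB : IsMulCommutative B] : Data (fAdd A B) (fAdd B A) where
  gf x := by
    apply Additive.toMul.injective; apply Subtype.ext
    exact bmap_bmap hs.1 x.toMul.2
  fg y := by
    apply Additive.toMul.injective; apply Subtype.ext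
    exact bmap_bmap (RankOnePair_symm hs.1) y.toMul.2
  f0 := by
    apply Additive.toMul.injective; apply Subtype.ext
    exact bmap_one A B
  odd x := by
    apply Additive.toMul.injective; apply Subtype.ext
    exact bmap_inv hs x.toMul.2
  dbl a ha := by
    rw [two_nsmul, two_nsmul]
    apply Additive.toMul.injective; apply Subtype.ext
    refine bmap_sq hs a.toMul.2 ?_
    intro e
    apply ha
    rw [two_nsmul]
    apply Additive.toMul.injective; apply Subtype.ext
    exact e
  eqE x u hx hu hux hux' := by
    apply Additive.toMul.injective; apply Subtype.ext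
    refine bmap_eqE' hs hA hB x.toMul.2 u.toMul.2 ?_ ?_ ?_ ?_
    · intro e; apply hx
      apply Additive.toMul.injective; apply Subtype.ext; exact e
    · intro e; apply hu
      apply Additive.toMul.injective; apply Subtype.ext; exact e
    · intro e; apply hux
      apply Additive.toMul.injective; apply Subtype.ext; exact e
    · intro e; apply hux'
      apply Additive.toMul.injective; apply Subtype.ext; exact e

end bridge

/-- In a special rank one group with abelian unipotent subgroups A and B, either A is an elementary abelian p-group for some prime p, or A is torsion-free and divisible (every element of A has an n-th root in A for every positive n). -/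
theorem result {X : Type*} [Group X] {A B : Subgroup X} (h : Cfsg.IsRankOneGroup X A B)
    (hs : Cfsg.IsSpecialRankOnePair A B) (hab : Cfsg.HasAbelianUnipotents A B) :
    (∃ p : ℕ, p.Prime ∧ Cfsg.IsElementaryAbelian p A) ∨
    ((∀ a ∈ A, a ≠ 1 → ¬ IsOfFinOrder a) ∧ ∀ a ∈ A, ∀ n : ℕ, 0 < n → ∃ c ∈ A, c ^ n = a) := by
  obtain ⟨-, hp⟩ := h
  have hA := hab.1
  have hB := hab.2
  have D := data hs
  -- translation of the torsion condition
  have tr : ∀ (C : Subgroup X) [IsMulCommutative C] (x : Additive C) (n : ℕ),
      n • x = 0 ↔ ((x.toMul : C) : X) ^ n = 1 := by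
    intro C _ x n
    constructor
    · intro e
      have := congrArg (fun z => ((Additive.toMul z : C) : X)) e
      simpa using this
    · intro e
      apply Additive.toMul.injective; apply Subtype.ext
      simpa using e
  have tr0 : ∀ (C : Subgroup X) [IsMulCommutative C] (x : Additive C),
      x = 0 ↔ ((x.toMul : C) : X) = 1 := by
    intro C _ x
    constructor
    · intro e; rw [e]; rfl
    · intro e
      apply Additive.toMul.injective; apply Subtype.ext
      exact e
  by_cases htor : ∀ a ∈ A, a ≠ 1 → ¬ IsOfFinOrder a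
  · right
    refine ⟨htor, ?_⟩
    have htorB : ∀ b ∈ B, b ≠ 1 → ¬ IsOfFinOrder b := by
      obtain ⟨g, -, hg⟩ := right_mem_unipotentSubgroups hp
      intro b hb hb1 hfin
      rw [hg, mem_conjBy] at hb
      apply htor _ hb
      · intro e
        apply hb1
        have : b = g * (g⁻¹ * b * g) * g⁻¹ := by group
        rw [this, e]; group
      · rw [isOfFinOrder_iff_pow_eq_one] at hfin ⊢
        obtain ⟨n, hn, e⟩ := hfin
        refine ⟨n, hn, ?_⟩
        have := conj_pow (a := g⁻¹) (b := b) (i := n)
        rw [inv_inv] at this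
        rw [this, e]; group
    have hM : ∀ x : Additive A, x ≠ 0 → ∀ n : ℕ, 0 < n → n • x ≠ 0 := by
      intro x hx n hn e
      rw [tr A] at e
      apply htor _ x.toMul.2 (fun e1 => hx ((tr0 A x).2 e1))
      exact isOfFinOrder_iff_pow_eq_one.2 ⟨n, hn, e⟩
    have hN : ∀ y : Additive B, y ≠ 0 → ∀ n : ℕ, 0 < n → n • y ≠ 0 := by
      intro x hx n hn e
      rw [tr B] at e
      apply htorB _ x.toMul.2 (fun e1 => hx ((tr0 B x).2 e1))
      exact isOfFinOrder_iff_pow_eq_one.2 ⟨n, hn, e⟩
    intro a ha n hn
    obtain ⟨c, hc⟩ := D.divisible hM hN (Additive.ofMul ⟨a, ha⟩) n hn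
    refine ⟨c.toMul, c.toMul.2, ?_⟩
    have := congrArg (fun z => ((Additive.toMul z : A) : X)) hc
    simpa using this
  · left
    push Not at htor
    obtain ⟨a, ha, ha1, hfin⟩ := htor
    obtain ⟨n, hn, e⟩ := isOfFinOrder_iff_pow_eq_one.1 hfin
    obtain ⟨p, hpp, hall⟩ := D.torsion ⟨Additive.ofMul ⟨a, ha⟩,
      fun e0 => ha1 ((tr0 A _).1 e0), n, hn, (tr A _ n).2 e⟩
    refine ⟨p, hpp, hA, fun a' ha' => ?_⟩
    exact (tr A (Additive.ofMul ⟨a', ha'⟩) p).1 (hall _)

end Cfsg.Agent.S5021
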