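import Cfsg.Statements.S5017
import Cfsg.Agent.Lib.Helper83.RankOneGroup

set_option autoImplicit false
open Cfsg

namespace Cfsg.Agent.S5017

open Cfsg.Agent.Helper83

/-- Let X be a rank one group with unipotent subgroups A and B and N a normal subgroup of X. Then either X = N A or N lies in the centre of X. Consequently a perfect rank one group is quasisimple. -/
theorem result {X : Type*} [Group X] {A B : Subgroup X} (h : Cfsg.IsRankOneGroup X A B) :
    (∀ N : Subgroup X, N.Normal → N ⊔ A = ⊤ ∨ N ≤ Subgroup.center X) ∧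
    (Group.IsPerfect X → Cfsg.IsQuasisimple X) := by
  refine ⟨rankOneGroup_dichotomy h, ?_⟩
  intro hperf
  refine ⟨hperf, ?_⟩
  have : Nontrivial (X ⧸ Subgroup.center X) := by
    have hne := rankOneGroup_center_ne_top h
    obtain ⟨x, hx⟩ : ∃ x : X, x ∉ Subgroup.center X := by
      by_contra hcon
      push Not at hcon
      exact hne (Subgroup.eq_top_iff' _ |>.2 hcon)
    refine ⟨⟨(x : X ⧸ Subgroup.center X), 1, ?_⟩⟩
    intro h1
    exact hx ((QuotientGroup.eq_one_iff x).1 h1)
  refine ⟨?_⟩
  intro H hH
  have hN : (H.comap (QuotientGroup.mk' (Subgroup.center X))).Normal := hH.comap _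
  rcases rankOneGroup_dichotomy h _ hN with h1 | h1
  · right
    set N := H.comap (QuotientGroup.mk' (Subgroup.center X)) with hNdef
    have := hN
    -- X ⧸ N is nilpotent
    have : Group.IsNilpotent A := h.2.nilpotent_left
    have hsurj : Function.Surjective ((QuotientGroup.mk' N).comp A.subtype) := by
      intro y
      obtain ⟨x, rfl⟩ := QuotientGroup.mk_surjective y
      have hx : x ∈ N ⊔ A := by rw [h1]; trivial
      obtain ⟨n, hn, a, ha, rfl⟩ := Subgroup.mem_sup_of_normal_left.1 hx
      refine ⟨⟨a, ha⟩, ?_⟩
      simp only [MonoidHom.coe_comp, Function.comp_apply, Subgroup.coe_subtype, QuotientGroup.mk'_apply]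
      rw [QuotientGroup.mk_mul, (QuotientGroup.eq_one_iff n).2 hn, one_mul]
    have : Group.IsNilpotent (X ⧸ N) := Group.nilpotent_of_surjective _ hsurj
    have hsub : Subsingleton (X ⧸ N) := by
      by_contra hns
      rw [not_subsingleton_iff_nontrivial] at hns
      have := hns
      exact Group.IsPerfect.not_isNilpotent (X ⧸ N) inferInstance
    have hNtop : N = ⊤ := by
      rw [Subgroup.eq_top_iff']
      intro x
      have : (x : X ⧸ N) = 1 := Subsingleton.elim _ _
      exact (QuotientGroup.eq_one_iff x).1 this
    rw [Subgroup.eq_top_iff']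
    intro y
    obtain ⟨x, rfl⟩ := QuotientGroup.mk_surjective y
    have : x ∈ N := by rw [hNtop]; trivial
    exact this
  · left
    rw [Subgroup.eq_bot_iff_forall]
    intro y hy
    obtain ⟨x, rfl⟩ := QuotientGroup.mk_surjective y
    have : x ∈ H.comap (QuotientGroup.mk' (Subgroup.center X)) := hy
    exact (QuotientGroup.eq_one_iff x).2 (h1 this)

end Cfsg.Agent.S5017
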