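import Cfsg.Statements.S5022
import Cfsg.Agent.Lib.Helper83.R1Braid
import Cfsg.Agent.Lib.Helper69.R1REL
import Cfsg.Agent.Lib.Helper71.R1KER
import Cfsg.Agent.Lib.Helper82.R1RNG
import Cfsg.Agent.Lib.Helper82.R1ISO
import Cfsg.Agent.Lib.Helper38.SL2Lift

set_option autoImplicit false
open Cfsg

namespace Cfsg.Agent.S5022

open Cfsg.Agent.Helper38.SL2Pres Cfsg.Agent.Helper83.R1

/-- Let X be a special rank one group with abelian unipotent subgroups A and B, where A is an elementary abelian p-group for the prime p. Then for every non-identity a in A and the non-identity b in B with b⁻¹ A b = a⁻¹ B a, the subgroup generated by a and b is isomorphic to SL₂(p) or to PSL₂(p). -/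
theorem result {X : Type*} [Group X] {A B : Subgroup X} (h : Cfsg.IsRankOneGroup X A B)
    (hs : Cfsg.IsSpecialRankOnePair A B) (hab : Cfsg.HasAbelianUnipotents A B)
    {p : ℕ} [Fact p.Prime] (hA : Cfsg.IsElementaryAbelian p A)
    {a b : X} (ha : a ∈ A) (ha1 : a ≠ 1) (hb : b ∈ B) (hb1 : b ≠ 1) (hab' : Cfsg.conjBy A b⁻¹ = Cfsg.conjBy B a⁻¹) :
    Nonempty (↥(Subgroup.closure ({a, b} : Set X)) ≃* Matrix.SpecialLinearGroup (Fin 2) (ZMod p)) ∨
    Nonempty (↥(Subgroup.closure ({a, b} : Set X)) ≃* Matrix.ProjectiveSpecialLinearGroup (Fin 2) (ZMod p)) := by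
  obtain ⟨hap, hbp, hbr, hnc, hne⟩ := r1_facts h hs hab hA ha ha1 hb hb1 hab'
  have hR := Cfsg.Agent.Helper69.R1.rel_of_braid a b hap hbp hbr
  obtain ⟨Φ, hX, hY⟩ := exists_hom_of_rel hR
  have hpp : p.Prime := Fact.out
  have : Fact (1 < p) := ⟨hpp.one_lt⟩
  have hX1 : Φ (xmat 1) = a := by rw [hX]; simp [ZMod.val_one]
  have hY1 : Φ (ymat 1) = b := by rw [hY]; simp [ZMod.val_one]
  have hker : Φ.ker ≤ Subgroup.center (Matrix.SpecialLinearGroup (Fin 2) (ZMod p)) := by
    apply Cfsg.Agent.Helper71.R1.ker_le_center Φ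
    · intro s hs0
      rw [hY1, hX]
      exact hnc s hs0
    · intro t
      rw [hX1, hY]
      exact hne t
  have hrng : Φ.range = Subgroup.closure ({a, b} : Set X) := Cfsg.Agent.Helper82.R1.range_eq_closure Φ a b hX hY
  rw [← hrng]
  exact Cfsg.Agent.Helper82.R1.iso_of_ker_le_center Φ hker

end Cfsg.Agent.S5022
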