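import Mathlib
import Cfsg.Statements.S1527

set_option autoImplicit false
open Cfsg

namespace Cfsg.Agent.S1527

/-- non-identity elements conjugate into `K` -/
def conjSet {G : Type*} [Group G] (K : Subgroup G) : Set G :=
  {y | y ≠ 1 ∧ ∃ x : G, x * y * x⁻¹ ∈ K}

theorem card_ne_one {K : Type*} [Group K] [Finite K] :
    Nat.card {h : K // h ≠ 1} = Nat.card K - 1 := by
  classical
  have := Fintype.ofFinite K
  rw [Nat.card_eq_fintype_card, Nat.card_eq_fintype_card, Fintype.card_subtype_compl,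
    Fintype.card_subtype_eq]

theorem card_conjSet {G : Type*} [Group G] [Finite G] (K : Subgroup G)
    (hTI : Cfsg.IsTISubset (K : Set G)) :
    Nat.card (conjSet K) = (Subgroup.normalizer (K : Set G)).index * (Nat.card K - 1) := by
  classical
  have hTI' : ∀ g x : G, x ∈ K → x ≠ 1 → g * x * g⁻¹ ∈ K →
      g ∈ Subgroup.normalizer (K : Set G) := by
    intro g x hx hx1 hgx
    by_contra hg
    exact hx1 (hTI g hg x hx hgx)
  rw [Subgroup.index, ← card_ne_one (K := K), ← Nat.card_prod]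
  symm
  apply Nat.card_congr
  refine Equiv.ofBijective
    (fun qh => ⟨(qh.1.out : G) * ((qh.2 : K) : G) * (qh.1.out : G)⁻¹, ?_, ?_⟩) ⟨?_, ?_⟩
  · intro h
    apply qh.2.2
    have : ((qh.2 : K) : G) = 1 := by
      have := congrArg (fun z => (qh.1.out : G)⁻¹ * z * (qh.1.out : G)) h
      simpa [mul_assoc] using this
    exact Subtype.ext this
  · exact ⟨(qh.1.out : G)⁻¹, by simp [mul_assoc]⟩
  · rintro ⟨q, h⟩ ⟨q', h'⟩ heq
    have heq' : (q.out : G) * ((h : K) : G) * (q.out : G)⁻¹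
        = (q'.out : G) * ((h' : K) : G) * (q'.out : G)⁻¹ := congrArg Subtype.val heq
    have h1 : ((q'.out : G)⁻¹ * q.out) * ((h : K) : G) * ((q'.out : G)⁻¹ * q.out)⁻¹
        = ((h' : K) : G) := by
      have := congrArg (fun z => (q'.out : G)⁻¹ * z * (q'.out : G)) heq'
      simpa [mul_assoc] using this
    have hne : ((h : K) : G) ≠ 1 := fun hh => h.2 (Subtype.ext hh)
    have hmem := hTI' _ _ (h : K).2 hne (by rw [h1]; exact (h' : K).2)
    have hq : q' = q := by
      rw [← QuotientGroup.out_eq' q', ← QuotientGroup.out_eq' q, QuotientGroup.eq]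
      exact hmem
    subst hq
    have h2 : ((h : K) : G) = ((h' : K) : G) := by
      have := congrArg (fun z => (q'.out : G)⁻¹ * z * (q'.out : G)) heq'
      simpa [mul_assoc] using this
    exact Prod.ext rfl (Subtype.ext (Subtype.ext h2))
  · rintro ⟨y, hy1, x, hx⟩
    obtain ⟨n, hn⟩ := QuotientGroup.mk_out_eq_mul (Subgroup.normalizer (K : Set G)) x⁻¹
    have hnK : (n : G)⁻¹ * (x * y * x⁻¹) * (n : G) ∈ K :=
      (Subgroup.mem_normalizer_iff''.1 n.2 _).1 hx
    have hne : (⟨_, hnK⟩ : K) ≠ 1 := by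
      intro hh
      have := congrArg Subtype.val hh
      simp only [Subgroup.coe_one] at this
      apply hy1
      have h3 := congrArg (fun z => x⁻¹ * ((n : G) * z * (n : G)⁻¹) * x) this
      simpa [mul_assoc] using h3
    refine ⟨((QuotientGroup.mk x⁻¹ : G ⧸ Subgroup.normalizer (K : Set G)), ⟨⟨_, hnK⟩, hne⟩), ?_⟩
    apply Subtype.ext
    show ((QuotientGroup.mk x⁻¹ : G ⧸ Subgroup.normalizer (K : Set G)).out : G) *
      ((n : G)⁻¹ * (x * y * x⁻¹) * (n : G)) *
      ((QuotientGroup.mk x⁻¹ : G ⧸ Subgroup.normalizer (K : Set G)).out : G)⁻¹ = y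
    rw [hn]
    simp [mul_assoc]

theorem index_unique {G : Type*} [Group G] [Finite G] {ι : Type*} (H : ι → Subgroup G)
    (hcop : ∀ i j, i ≠ j → Nat.Coprime (Nat.card (H i)) (Nat.card (H j)))
    {y : G} (hy : y ≠ 1) {i j : ι} {x x' : G} (hx : x * y * x⁻¹ ∈ H i)
    (hx' : x' * y * x'⁻¹ ∈ H j) : i = j := by
  by_contra hij
  have h1 : orderOf y ∣ Nat.card (H i) := by
    have := Subgroup.orderOf_dvd_natCard (H i) hx
    rwa [← MulAut.conj_apply, MulEquiv.orderOf_eq] at this
  have h2 : orderOf y ∣ Nat.card (H j) := by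
    have := Subgroup.orderOf_dvd_natCard (H j) hx'
    rwa [← MulAut.conj_apply, MulEquiv.orderOf_eq] at this
  have h3 := Nat.dvd_gcd h1 h2
  rw [(hcop i j hij), Nat.dvd_one, orderOf_eq_one_iff] at h3
  exact hy h3

theorem result {G : Type*} [Group G] [Finite G] {ι : Type*} [Fintype ι] (H : ι → Subgroup G) (hcop : ∀ i j, i ≠ j → Nat.Coprime (Nat.card (H i)) (Nat.card (H j))) (hTI : ∀ i, Cfsg.IsTISubset (H i : Set G)) (hcover : ∀ g : G, g ≠ 1 → ∃ i, ∃ x : G, x * g * x⁻¹ ∈ H i) : Nat.card G - 1 = ∑ i, (Subgroup.normalizer (H i : Set G)).index * (Nat.card (H i) - 1) := by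
  classical
  rw [Finset.sum_congr rfl (fun i _ => (card_conjSet (H i) (hTI i)).symm), ← Nat.card_sigma,
    ← card_ne_one (K := G)]
  apply Nat.card_congr
  exact
    { toFun := fun y => ⟨(hcover y y.2).choose, ⟨y, y.2, (hcover y y.2).choose_spec⟩⟩
      invFun := fun s => ⟨s.2, s.2.2.1⟩
      left_inv := fun y => rfl
      right_inv := by
        rintro ⟨i, y, hy1, x, hx⟩
        apply Sigma.subtype_ext
        · exact index_unique H hcop hy1 (hcover y hy1).choose_spec.choose_spec hx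
        · rfl }

end Cfsg.Agent.S1527
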