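import Mathlib
import Cfsg.Statements.S0182
import Cfsg.Agent.Lib.Helper82.CATable

set_option autoImplicit false
set_option linter.style.haveILetI false
set_option linter.unusedVariables false
open Cfsg
open scoped Pointwise

namespace Cfsg.Agent.S0182

universe u

/-- The CA property: centralizers of non-identity elements are abelian. -/
def CA (G : Type u) [Group G] : Prop :=
  ∀ x : G, x ≠ 1 → ∀ a ∈ Subgroup.centralizer ({x} : Set G),
    ∀ b ∈ Subgroup.centralizer ({x} : Set G), a * b = b * a

theorem mem_cent {G : Type u} [Group G] {x a : G} :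
    a ∈ Subgroup.centralizer ({x} : Set G) ↔ Commute a x := by
  rw [Subgroup.mem_centralizer_iff]
  constructor
  · intro h
    exact (h x rfl).symm
  · intro h y hy
    rw [Set.mem_singleton_iff] at hy
    rw [hy]
    exact h.symm

theorem ca_trans {G : Type u} [Group G] (hCA : CA G) {a b c : G} (hb : b ≠ 1)
    (h1 : Commute a b) (h2 : Commute b c) : Commute a c :=
  hCA b hb a (mem_cent.2 h1) c (mem_cent.2 h2.symm)

theorem ca_cent_eq {G : Type u} [Group G] (hCA : CA G) {x y : G} (hx : x ≠ 1) (hy : y ≠ 1)
    (hxy : Commute y x) :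
    Subgroup.centralizer ({y} : Set G) = Subgroup.centralizer ({x} : Set G) := by
  ext a
  rw [mem_cent, mem_cent]
  exact ⟨fun h => ca_trans hCA hy h hxy, fun h => ca_trans hCA hx h hxy.symm⟩

theorem conj_ne_one {G : Type u} [Group G] {g k : G} (hk : k ≠ 1) : g * k * g⁻¹ ≠ 1 := by
  intro h
  apply hk
  have h' : k = g⁻¹ * (g * k * g⁻¹) * g := by group
  rw [h', h]
  group

theorem ca_mem_normalizer {G : Type u} [Group G] (hCA : CA G) {x k g : G} (hx : x ≠ 1)
    (hk : Commute k x) (hk1 : k ≠ 1) (hgk : Commute (g * k * g⁻¹) x) :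
    g ∈ Subgroup.normalizer (Subgroup.centralizer ({x} : Set G) : Set G) := by
  rw [Subgroup.mem_normalizer_iff]
  intro h
  have hw1 : g * k * g⁻¹ ≠ 1 := conj_ne_one hk1
  constructor
  · intro hh
    have h1 : Commute h k := ca_trans hCA hx (mem_cent.1 hh) hk.symm
    have h2 : Commute (g * h * g⁻¹) (g * k * g⁻¹) := (Commute.conj_iff g).2 h1
    exact mem_cent.2 (ca_trans hCA hw1 h2 hgk)
  · intro hh
    have h2 : Commute (g * h * g⁻¹) (g * k * g⁻¹) := ca_trans hCA hx (mem_cent.1 hh) hgk.symm
    have h1 : Commute h k := (Commute.conj_iff g).1 h2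
    exact mem_cent.2 (ca_trans hCA hk1 h1 hk)

theorem ca_subgroup {G : Type u} [Group G] (hCA : CA G) (H : Subgroup G) : CA H := by
  intro x hx a ha b hb
  rw [mem_cent] at ha hb
  apply Subtype.ext
  have hx' : (x : G) ≠ 1 := fun h => hx (Subtype.ext h)
  have ha' : Commute (a : G) (x : G) := congrArg Subtype.val ha
  have hb' : Commute (b : G) (x : G) := congrArg Subtype.val hb
  exact ca_trans hCA hx' ha' hb'.symm

/-- Two non-identity elements of a Sylow subgroup of a CA-group commute. -/
theorem ca_sylow_comm {G : Type u} [Group G] [Finite G] (hCA : CA G) {p : ℕ} [Fact p.Prime]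
    (P : Sylow p G) {u v : G} (hu : u ∈ P) (hv : v ∈ P) (hu1 : u ≠ 1) (hv1 : v ≠ 1) :
    Commute u v := by
  haveI : Nontrivial (P : Subgroup G) :=
    ⟨⟨⟨u, hu⟩, 1, fun h => hu1 (congrArg Subtype.val h)⟩⟩
  haveI := IsPGroup.center_nontrivial P.2
  obtain ⟨⟨z, hzc⟩, hz1⟩ := exists_ne (1 : Subgroup.center (P : Subgroup G))
  have hz1' : (z : G) ≠ 1 := by
    intro h
    apply hz1
    apply Subtype.ext
    apply Subtype.ext
    exact h
  rw [Subgroup.mem_center_iff] at hzc
  have h1 : Commute u (z : G) := congrArg Subtype.val (hzc ⟨u, hu⟩)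
  have h2 : Commute v (z : G) := congrArg Subtype.val (hzc ⟨v, hv⟩)
  exact ca_trans hCA hz1' h1 h2.symm

theorem ca_solvable_aux : ∀ n : ℕ, ∀ (G : Type u) [Group G] [Finite G], Nat.card G = n →
    Odd n → CA G → Group.IsSolvable G := by
  intro n
  induction n using Nat.strong_induction_on with
  | _ n ih =>
  intro G _ _ hn hodd hCA
  classical
  by_cases hcomm : ∀ a b : G, a * b = b * a
  · exact Group.isSolvable_of_comm hcomm
  by_cases hB : ∃ x : G, x ≠ 1 ∧
      Subgroup.normalizer (Subgroup.centralizer ({x} : Set G) : Set G) ≤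
        Subgroup.centralizer ({x} : Set G)
  · -- Burnside's transfer theorem applies
    obtain ⟨x, hx1, hNA⟩ := hB
    have hxA : x ∈ Subgroup.centralizer ({x} : Set G) := mem_cent.2 (Commute.refl x)
    have hA1 : 1 < Nat.card (Subgroup.centralizer ({x} : Set G)) := by
      rw [Subgroup.one_lt_card_iff_ne_bot]
      intro h
      rw [h, Subgroup.mem_bot] at hxA
      exact hx1 hxA
    have hp : (Nat.card (Subgroup.centralizer ({x} : Set G))).minFac.Prime :=
      Nat.minFac_prime (by omega)
    haveI : Fact (Nat.card (Subgroup.centralizer ({x} : Set G))).minFac.Prime := ⟨hp⟩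
    obtain ⟨y, hy⟩ := exists_prime_orderOf_dvd_card'
      (G := Subgroup.centralizer ({x} : Set G))
      (Nat.card (Subgroup.centralizer ({x} : Set G))).minFac (Nat.minFac_dvd _)
    generalize (Nat.card (Subgroup.centralizer ({x} : Set G))).minFac = p at *
    have hy1 : (y : G) ≠ 1 := by
      intro h
      have : y = 1 := Subtype.ext h
      rw [this, orderOf_one] at hy
      exact hp.one_lt.ne hy
    have hyx : Commute (y : G) x := mem_cent.1 y.2
    have hoy : orderOf (y : G) = p := by
      rw [← hy]
      exact Subgroup.orderOf_coe y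
    have hpg : IsPGroup p (Subgroup.zpowers (y : G)) := by
      apply IsPGroup.of_card (n := 1)
      rw [Nat.card_zpowers, hoy, pow_one]
    obtain ⟨P, hP⟩ := hpg.exists_le_sylow
    have hyP : (y : G) ∈ P := hP (Subgroup.mem_zpowers _)
    have hPA : ∀ u ∈ P, Commute u x := by
      intro u hu
      by_cases hu1 : u = 1
      · rw [hu1]
        exact Commute.one_left x
      · exact ca_trans hCA hy1 (ca_sylow_comm hCA P hu hyP hu1 hy1) hyx
    have hPab : ∀ u ∈ P, ∀ v ∈ P, u * v = v * u := fun u hu v hv =>
      hCA x hx1 u (mem_cent.2 (hPA u hu)) v (mem_cent.2 (hPA v hv))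
    have hNC : Subgroup.normalizer ((P : Subgroup G) : Set G) ≤
        Subgroup.centralizer ((P : Subgroup G) : Set G) := by
      intro n hn
      have hn' := (Subgroup.mem_normalizer_iff.1 hn (y : G)).1 hyP
      have hnA : n ∈ Subgroup.centralizer ({x} : Set G) :=
        hNA (ca_mem_normalizer hCA hx1 hyx hy1 (hPA _ hn'))
      rw [Subgroup.mem_centralizer_iff]
      intro u hu
      exact hCA x hx1 u (mem_cent.2 (hPA u hu)) n hnA
    have hcompl := MonoidHom.ker_transferSylow_isComplement' P hNC
    have hcardQ := hcompl.card_mul_card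
    have hP1 : 1 < Nat.card (P : Subgroup G) := by
      rw [Subgroup.one_lt_card_iff_ne_bot]
      intro h
      have hyP' : (y : G) ∈ (P : Subgroup G) := hyP
      rw [h, Subgroup.mem_bot] at hyP'
      exact hy1 hyP'
    have hQlt : Nat.card (MonoidHom.transferSylow P hNC).ker < n := by
      rw [← hn, ← hcardQ]
      have : 0 < Nat.card (MonoidHom.transferSylow P hNC).ker := Nat.card_pos
      nlinarith
    haveI : Group.IsSolvable (MonoidHom.transferSylow P hNC).ker :=
      ih _ hQlt _ rfl
        (Odd.of_dvd_nat hodd (hn ▸ Subgroup.card_subgroup_dvd_card _))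
        (ca_subgroup hCA _)
    haveI : Group.IsSolvable (P : Subgroup G) :=
      Group.isSolvable_of_comm (fun u v => Subtype.ext (hPab u u.2 v v.2))
    exact Group.isSolvable_of_ker_le_range (MonoidHom.transferSylow P hNC).ker.subtype
      (MonoidHom.transferSylow P hNC) (Subgroup.range_subtype _).ge
  · -- the character-theoretic contradiction
    exfalso
    push Not at hB hcomm
    obtain ⟨a₀, b₀, hab₀⟩ := hcomm
    have ha₀ : a₀ ≠ 1 := by
      intro h
      apply hab₀
      rw [h, one_mul, mul_one]
    haveI := Fintype.ofFinite G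
    let s : Setoid {x : G // x ≠ 1} :=
      { r := fun x y => ∃ g : G, Commute (g * x.1 * g⁻¹) y.1
        iseqv :=
          { refl := fun x => ⟨1, by simp⟩
            symm := by
              rintro x y ⟨g, hg⟩
              refine ⟨g⁻¹, ?_⟩
              have h := (Commute.conj_iff g⁻¹).2 hg
              have e1 : g⁻¹ * (g * x.1 * g⁻¹) * g⁻¹⁻¹ = x.1 := by group
              rw [e1] at h
              exact h.symm
            trans := by
              rintro x y z ⟨g, hg⟩ ⟨h, hh⟩
              refine ⟨h * g, ?_⟩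
              have h1 := (Commute.conj_iff h).2 hg
              have e1 : h * (g * x.1 * g⁻¹) * h⁻¹ = h * g * x.1 * (h * g)⁻¹ := by group
              rw [e1] at h1
              exact ca_trans hCA (conj_ne_one y.2) h1 hh } }
    haveI : Fintype (Quotient s) := Fintype.ofFinite _
    haveI : Nonempty (Quotient s) := ⟨Quotient.mk s ⟨a₀, ha₀⟩⟩
    have hrep : ∀ m : Quotient s, Quotient.mk s (Quotient.out m) = m := fun m => Quotient.out_eq m
    have hrel : ∀ (x y : {x : G // x ≠ 1}), Quotient.mk s x = Quotient.mk s y ↔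
        ∃ g : G, Commute (g * x.1 * g⁻¹) y.1 := fun x y => Quotient.eq
    have hodd' : Odd (Nat.card G) := hn ▸ hodd
    refine Cfsg.Agent.Helper82.ca_table_false (ι := Quotient s) hodd'
      (fun m => Subgroup.centralizer ({(Quotient.out m).1} : Set G)) ?_ ?_ ?_ ?_ ?_ ?_
      (fun x => if h : x = 1 then Quotient.mk s ⟨a₀, ha₀⟩ else Quotient.mk s ⟨x, h⟩) ?_
    · -- T.I.
      intro m g hg k hk hgk
      by_contra hk1
      exact hg (ca_mem_normalizer hCA (Quotient.out m).2 (mem_cent.1 hk) hk1 (mem_cent.1 hgk))
    · -- proper in the normalizer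
      intro m
      exact lt_of_le_not_ge Subgroup.le_normalizer (hB _ (Quotient.out m).2)
    · -- centralizers
      intro m k hk hk1
      exact (ca_cent_eq hCA (Quotient.out m).2 hk1 (mem_cent.1 hk)).le
    · -- abelian
      intro m
      exact hCA _ (Quotient.out m).2
    · -- nontrivial
      intro m
      exact ⟨(Quotient.out m).1, mem_cent.2 (Commute.refl _), (Quotient.out m).2⟩
    · -- coprime orders
      intro k l hkl
      by_contra hnc
      obtain ⟨p, hp, hpk, hpl⟩ := Nat.Prime.not_coprime_iff_dvd.1 hnc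
      haveI : Fact p.Prime := ⟨hp⟩
      obtain ⟨y, hy⟩ := exists_prime_orderOf_dvd_card'
        (G := Subgroup.centralizer ({(Quotient.out k).1} : Set G)) p hpk
      obtain ⟨y', hy'⟩ := exists_prime_orderOf_dvd_card'
        (G := Subgroup.centralizer ({(Quotient.out l).1} : Set G)) p hpl
      have hy1 : (y : G) ≠ 1 := by
        intro h
        have : y = 1 := Subtype.ext h
        rw [this, orderOf_one] at hy
        exact hp.one_lt.ne hy
      have hy'1 : (y' : G) ≠ 1 := by
        intro h
        have : y' = 1 := Subtype.ext h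
        rw [this, orderOf_one] at hy'
        exact hp.one_lt.ne hy'
      have hpg : IsPGroup p (Subgroup.zpowers (y : G)) := by
        apply IsPGroup.of_card (n := 1)
        rw [Nat.card_zpowers, Subgroup.orderOf_coe, hy, pow_one]
      have hpg' : IsPGroup p (Subgroup.zpowers (y' : G)) := by
        apply IsPGroup.of_card (n := 1)
        rw [Nat.card_zpowers, Subgroup.orderOf_coe, hy', pow_one]
      obtain ⟨P, hP⟩ := hpg.exists_le_sylow
      obtain ⟨P', hP'⟩ := hpg'.exists_le_sylow
      obtain ⟨g, hg⟩ := MulAction.exists_smul_eq G P' P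
      have hyP : (y : G) ∈ P := hP (Subgroup.mem_zpowers _)
      have hy'P : g * (y' : G) * g⁻¹ ∈ P := by
        have h1 : (y' : G) ∈ P' := hP' (Subgroup.mem_zpowers _)
        have h2 : MulAut.conj g • (y' : G) ∈ MulAut.conj g • (P' : Subgroup G) :=
          Subgroup.smul_mem_pointwise_smul _ _ _ h1
        rw [← Sylow.coe_subgroup_smul, hg] at h2
        exact h2
      have hc := ca_sylow_comm hCA P hyP hy'P hy1 (conj_ne_one hy'1)
      have h1 : Commute (Quotient.out k).1 (y : G) := (mem_cent.1 y.2).symm
      have h2 : Commute (g * (y' : G) * g⁻¹) (g * (Quotient.out l).1 * g⁻¹) :=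
        (Commute.conj_iff g).2 (mem_cent.1 y'.2)
      have h3 := ca_trans hCA (conj_ne_one hy'1) (ca_trans hCA hy1 h1 hc) h2
      apply hkl
      rw [← hrep k, ← hrep l, eq_comm, hrel]
      exact ⟨g, h3.symm⟩
    · -- the classifying map
      intro x hx m
      rw [dif_neg hx]
      constructor
      · rintro ⟨g, hg⟩
        rw [← hrep m, hrel]
        exact ⟨g, mem_cent.1 hg⟩
      · intro h
        rw [← hrep m, hrel] at h
        obtain ⟨g, hg⟩ := h
        exact ⟨g, mem_cent.2 hg⟩

/-- The CA-Theorem for odd order: a finite group of odd order in which every non-identity element has an abelian centralizer is solvable. -/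
theorem result {G : Type*} [Group G] [Finite G] (hodd : Odd (Nat.card G)) (hCA : ∀ x : G, x ≠ 1 → ∀ a ∈ Subgroup.centralizer ({x} : Set G), ∀ b ∈ Subgroup.centralizer ({x} : Set G), a * b = b * a) : Group.IsSolvable G := by
  exact ca_solvable_aux (Nat.card G) G rfl hodd hCA

end Cfsg.Agent.S0182
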