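import Cfsg.Statements.S1354
import Mathlib
import Cfsg.Agent.S1350
import Cfsg.Agent.S1403
import Cfsg.Agent.S1430
import Cfsg.Agent.Lib.Helper55.BGKappa
import Cfsg.Agent.Lib.Helper55.BGCyclic
import Cfsg.Agent.Lib.Helper55.BGFit
import Cfsg.Agent.Lib.Helper60.BG144b
import Cfsg.Agent.Lib.Helper95.BG15.FitSigma

set_option autoImplicit false
open Cfsg

namespace Cfsg.Agent.S1354

/-- Let G be a minimal simple group of odd order, M a maximal subgroup and K a cyclic Hall κ(M)-subgroup of M, and put K* = M_σ ∩ C_G(K). Then K* ≠ 1, and if K ≠ 1 then for every non-identity k ∈ K the centralizer C_M(k) is the subgroup generated by K and K* (an internal direct product, as K ∩ M_σ = 1 and K* centralizes K). -/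
theorem result {G : Type*} [Group G] [Finite G] (hG : Cfsg.IsMinSimpleOddOrder G)
    (M : Subgroup G) (hM : IsCoatom M) (K : Subgroup G)
    (hKc : IsCyclic K) (hK : Cfsg.IsPiHallOf (Cfsg.kappa M) K M) :
    Cfsg.sigmaCore M ⊓ Subgroup.centralizer (K : Set G) ≠ ⊥ ∧
      (K ≠ ⊥ → ∀ k ∈ K, k ≠ 1 →
        M ⊓ Subgroup.centralizer ({k} : Set G) = K ⊔ (Cfsg.sigmaCore M ⊓ Subgroup.centralizer (K : Set G))) := by
  classical
  have hUH : Cfsg.Agent.Helper34.BG.UniqHyp G :=
    fun K hK h1 h2 => Cfsg.Agent.S1403.result hG K hK h1 h2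
  obtain ⟨hHall, -, -⟩ := Cfsg.Agent.S1350.result hG M hM
  have hN1 : Cfsg.sigmaCore M ≠ ⊥ :=
    Cfsg.Agent.Helper95.BG15.FitSigma.sigmaCore_ne_bot hG hUH hM hHall
  have hKs1 : Cfsg.sigmaCore M ⊓ Subgroup.centralizer (K : Set G) ≠ ⊥ := by
    by_cases hK1 : K = ⊥
    · have hc : Subgroup.centralizer ((K : Subgroup G) : Set G) = ⊤ := by
        rw [hK1]
        ext x
        simp only [Subgroup.mem_top, iff_true]
        intro y hy
        have : y = 1 := by simpa using hy
        rw [this]; simp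
      rw [hc, inf_top_eq]
      exact hN1
    · obtain ⟨hpr, -, -⟩ := Cfsg.Agent.S1430.result hG M hM K hK hK1
      exact Cfsg.Agent.Helper55.BGKappa.Kstar_ne_bot hK hK1 hpr
  refine ⟨hKs1, ?_⟩
  intro hK1 k hk hk1
  obtain ⟨-, -, h3⟩ := Cfsg.Agent.S1430.result hG M hM K hK hK1
  -- a subgroup of prime order inside `⟨k⟩`
  have hord : orderOf k ≠ 1 := fun h => hk1 (orderOf_eq_one_iff.mp h)
  obtain ⟨p, hp, hpd⟩ := Nat.exists_prime_and_dvd hord
  have hord0 : orderOf k ≠ 0 := (orderOf_pos k).ne'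
  have hx : orderOf (k ^ (orderOf k / p)) = p := orderOf_pow_orderOf_div hord0 hpd
  have hXK : Subgroup.zpowers (k ^ (orderOf k / p)) ≤ K := by
    rw [Subgroup.zpowers_le]
    exact pow_mem hk _
  have hXp : (Nat.card ↥(Subgroup.zpowers (k ^ (orderOf k / p)))).Prime := by
    rw [Nat.card_zpowers, hx]; exact hp
  obtain ⟨hNX, -, -⟩ := h3 _ hXK hXp
  have hXk : Subgroup.zpowers (k ^ (orderOf k / p)) ≤ Subgroup.zpowers k := by
    rw [Subgroup.zpowers_le]
    exact pow_mem (Subgroup.mem_zpowers k) _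
  apply le_antisymm
  · rw [← hNX]
    exact inf_le_inf_left M
      (Cfsg.Agent.Helper60.BG144.centralizer_le_normalizer_of_le_zpowers hXk)
  · apply sup_le
    · refine le_inf hK.1 ?_
      intro y hy
      rw [Subgroup.mem_centralizer_singleton_iff]
      exact Cfsg.Agent.Helper55.BGB.commute_of_isCyclic hKc hy hk
    · refine le_inf (inf_le_left.trans (Cfsg.Agent.Helper55.BGB.sigmaCore_le M)) ?_
      exact inf_le_right.trans
        (Subgroup.centralizer_le (Set.singleton_subset_iff.mpr hk))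

end Cfsg.Agent.S1354
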