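import Cfsg.Statements.S1368
-- import your own Cfsg.Agent.* helpers here
import Cfsg.Agent.Lib.Helper9.BG147b
import Cfsg.Agent.S1350
import Cfsg.Agent.S1430
import Cfsg.Agent.S1431
import Cfsg.Agent.S1414
import Cfsg.Agent.S1403
import Cfsg.Agent.S1351

set_option autoImplicit false
open Cfsg

namespace Cfsg.Agent.S1368

/-- Let G be a minimal simple group of odd order, M a maximal subgroup with standard factorisation M = K U M_σ, K ≠ 1, K* = M_σ ∩ C_G(K), and M* a maximal subgroup with K = M*_σ ∩ C_G(K*) and K* a Hall κ(M*)-subgroup of M*. Then M ∩ M* is the subgroup generated by K and K*, and it is cyclic. -/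
theorem result {G : Type*} [Group G] [Finite G] (hG : Cfsg.IsMinSimpleOddOrder G)
    (M : Subgroup G) (hM : IsCoatom M) (K U : Subgroup G) (hKU : Cfsg.IsSigmaDecomposition M K U) (hK1 : K ≠ ⊥) (Mstar : Subgroup G) (hMstar : IsCoatom Mstar)
    (hKst : K = Cfsg.sigmaCore Mstar ⊓ Subgroup.centralizer ((Cfsg.sigmaCore M ⊓ Subgroup.centralizer (K : Set G)) : Set G))
    (hKstH : Cfsg.IsPiHallOf (Cfsg.kappa Mstar) (Cfsg.sigmaCore M ⊓ Subgroup.centralizer (K : Set G)) Mstar) :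
    M ⊓ Mstar = K ⊔ (Cfsg.sigmaCore M ⊓ Subgroup.centralizer (K : Set G)) ∧ IsCyclic ↥(K ⊔ (Cfsg.sigmaCore M ⊓ Subgroup.centralizer (K : Set G))) := by
  classical
  have hK : Cfsg.IsPiHallOf (Cfsg.kappa M) K M := hKU.hall
  have pp : Cfsg.Agent.Helper9.BG147.PPair M K := by
    have h0 := Cfsg.Agent.S1350.result hG M hM
    have h1 := Cfsg.Agent.S1430.result hG M hM K hK hK1
    have h2 := Cfsg.Agent.S1431.result hG M hM K hK hK1
    exact ⟨hM, hK, hK1, h0.1, h0.2.1, h1.1, h1.2.1, h1.2.2, h2.1, h2.2.2.1, h2.2.2.2⟩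
  have hKs1 := pp.Ks_ne_bot
  have pp' : Cfsg.Agent.Helper9.BG147.PPair Mstar
      (Cfsg.sigmaCore M ⊓ Subgroup.centralizer (K : Set G)) := by
    have h0 := Cfsg.Agent.S1350.result hG Mstar hMstar
    have h1 := Cfsg.Agent.S1430.result hG Mstar hMstar _ hKstH hKs1
    have h2 := Cfsg.Agent.S1431.result hG Mstar hMstar _ hKstH hKs1
    exact ⟨hMstar, hKstH, hKs1, h0.1, h0.2.1, h1.1, h1.2.1, h1.2.2, h2.1, h2.2.2.1, h2.2.2.2⟩
  have d : Cfsg.Agent.Helper9.BG147.Dual M K Mstar := ⟨pp, pp', hKst⟩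
  have hT : Cfsg.sigmaCore M ⊓ Cfsg.sigmaCore Mstar = ⊥ :=
    d.sigma_inf_sigma
      (fun p hp hpM hpβ => ((Cfsg.Agent.S1414.result hG M hM).2.2.2.2 p hp hpM hpβ).2.1)
      (fun R h1 h2 h3 => Cfsg.Agent.S1403.result hG R h1 h2 (Or.inl h3))
  exact ⟨d.inf_eq hT, d.isCyclic_Z hKU.cyclic
    ((Cfsg.Agent.S1351.result hG Mstar hMstar).2 _ hKstH)⟩

end Cfsg.Agent.S1368
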