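import Cfsg.Statements.S1437
import Mathlib
import Cfsg.Agent.S1350
import Cfsg.Agent.S1352
import Cfsg.Agent.S1353
import Cfsg.Agent.S1366
import Cfsg.Agent.S1368
import Cfsg.Agent.S1369
import Cfsg.Agent.S1403
import Cfsg.Agent.S1414
import Cfsg.Agent.S1426
import Cfsg.Agent.S1429
import Cfsg.Agent.S1430
import Cfsg.Agent.Lib.Helper55.BG152
import Cfsg.Agent.Lib.Helper55.BGKappa
import Cfsg.Agent.Lib.Helper55.BGDecomp
import Cfsg.Agent.Lib.Helper55.BGCyclic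
import Cfsg.Agent.Lib.Helper60.BG144b
import Cfsg.Agent.Lib.Helper34.BG10i
import Cfsg.Agent.Lib.Helper98.BGK
import Cfsg.Agent.Lib.Helper95.BG15.FitSigma

set_option autoImplicit false
open Cfsg

namespace Cfsg.Agent.S1437

open Subgroup Cfsg.Agent.Helper55.BGFrob

theorem le_normalizer_bot' {G : Type*} [Group G] (A : Subgroup G) :
    A ≤ normalizer (((⊥ : Subgroup G) : Subgroup G) : Set G) := by
  intro g _
  rw [mem_normalizer_iff]
  intro h
  rw [mem_bot, mem_bot]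
  constructor
  · rintro rfl; simp
  · intro h1
    have : h = g⁻¹ * (g * h * g⁻¹) * g := by group
    rw [this, h1]; simp

/-- If `U ≠ 1` in the standard factorisation `M = K U M_σ` (with `K ≠ 1`), then `K` has prime order. -/
theorem card_K_prime_of_U_ne_bot {G : Type*} [Group G] [Finite G] (hG : Cfsg.IsMinSimpleOddOrder G)
    (M : Subgroup G) (hM : IsCoatom M) (K U : Subgroup G) (hKU : Cfsg.IsSigmaDecomposition M K U)
    (hK1 : K ≠ ⊥) (hU1 : U ≠ ⊥) : (Nat.card K).Prime := by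
  classical
  have hUH : Cfsg.Agent.Helper34.BG.UniqHyp G :=
    fun K hK h1 h2 => Cfsg.Agent.S1403.result hG K hK h1 h2
  obtain ⟨hHall, -, -⟩ := Cfsg.Agent.S1350.result hG M hM
  have hNM : Cfsg.sigmaCore M ≤ M := Cfsg.Agent.Helper55.BGB.sigmaCore_le M
  have hMN : M ≤ normalizer ((Cfsg.sigmaCore M : Subgroup G) : Set G) :=
    Cfsg.Agent.Helper55.BGB.le_normalizer_sigmaCore M
  obtain ⟨hUM, hBM, hUB, hprod⟩ := hKU.compl
  have hKM : K ≤ M := hKU.hall.1
  have hc : Nat.card U ≠ 1 := fun hc => hU1 (Subgroup.card_eq_one.mp hc)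
  obtain ⟨r, hr, hrU⟩ := Nat.exists_prime_and_dvd hc
  haveI : Fact r.Prime := ⟨hr⟩
  obtain ⟨hrκ, hrσ⟩ := Cfsg.Agent.Helper55.BGB.U_prime_not_mem hKU hHall hr hrU
  have hrM : r ∣ Nat.card M := hrU.trans (Subgroup.card_dvd_of_le hUM)
  have hpiN : ∀ p : ℕ, p.Prime → p ∣ Nat.card (Cfsg.sigmaCore M) → p ∈ Cfsg.sigma M :=
    Cfsg.Agent.Helper55.BGB.isPi_sigmaCore M
  have hridx : ¬ r ∣ U.relIndex M := by
    have h1 := Cfsg.Agent.Helper55.BGB.card_mul_relIndex hUM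
    have h2 := Cfsg.Agent.Helper55.BGB.card_decomp hKU
    have hpos : 0 < Nat.card U := Nat.card_pos
    have h3 : U.relIndex M = Nat.card K * Nat.card (Cfsg.sigmaCore M) :=
      Nat.eq_of_mul_eq_mul_left hpos (h1.trans h2)
    rw [h3]
    intro hd
    rcases (Nat.Prime.dvd_mul hr).mp hd with h | h
    · exact hrκ (hKU.hall.2.1 r hr h)
    · exact hrσ (hpiN r hr h)
  obtain ⟨S, hS⟩ := Cfsg.Agent.Helper55.BGKappa.exists_sylow_le_of_hall (M := M) (U := U) (r := r) hridx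
  obtain ⟨-, hcent, hnil⟩ := Cfsg.Agent.S1429.result hG M hM (fun hh => hrκ (hh r hr hrM hrσ)) r hrM
    (by rintro (h | h); exact hrσ h; exact hrκ h) S
  obtain ⟨hpr, -, -⟩ := Cfsg.Agent.S1430.result hG M hM K hKU.hall hK1
  have hfrob := Cfsg.Agent.S1353.result hG M hM K U hKU
  have hUK : U ⊓ K = ⊥ := by
    rw [eq_bot_iff, ← hUB]
    exact inf_le_inf_left U le_sup_left
  have hUKM : U ⊔ K ≤ M := sup_le hUM hKM
  have hMsolv : Group.IsSolvable ↥M := hG.2.2.2 M hM.1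
  have hsolv : Group.IsSolvable ↥(U ⊔ K) :=
    solvable_of_solvable_injective (Subgroup.inclusion_injective hUKM)
  have hodd : Odd (Nat.card ↥(U ⊔ K)) := Cfsg.Agent.Helper34.BG.odd_card_subgroup hG _
  have hcop : (Nat.card ↥(U ⊔ K)).Coprime (Nat.card (Cfsg.sigmaCore M)) := by
    have h1 := Cfsg.Agent.Helper50.card_sup_mul_card_inf_of_le_normalizer U K hKU.normal
    rw [hUK, Subgroup.card_bot, mul_one] at h1
    rw [h1]
    apply Nat.Coprime.mul_left
    · apply Nat.coprime_of_dvd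
      intro p hp h2 h3
      exact (Cfsg.Agent.Helper55.BGB.U_prime_not_mem hKU hHall hp h2).2 (hpiN p hp h3)
    · apply Nat.coprime_of_dvd
      intro p hp h2 h3
      exact Cfsg.Agent.Helper55.BGB.not_mem_sigma_of_mem_kappa (hKU.hall.2.1 p hp h2) (hpiN p hp h3)
  have hCD : Cfsg.sigmaCore M ⊓ centralizer (U : Set G) ≤ ⊥ := by
    rw [← hcent]
    apply inf_le_inf_left
    apply centralizer_le
    rw [SetLike.coe_subset_coe, closure_le]
    intro x hx
    exact hS hx.1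
  have hne : ¬ Cfsg.sigmaCore M ≤ ⊥ := by
    rw [le_bot_iff]
    exact Cfsg.Agent.Helper95.BG15.FitSigma.sigmaCore_ne_bot hG hUH hM hHall
  exact (frob_section U K (Cfsg.sigmaCore M) ⊥ hU1 hK1 hUK hKU.normal hfrob hsolv hodd bot_le
    (le_normalizer_bot' _) hnil (hUM.trans hMN) (hKM.trans hMN) (le_normalizer_bot' _)
    (le_normalizer_bot' _) hcop hCD hpr hne).1


/-- Let G be a minimal simple group of odd order and M a maximal subgroup with standard factorisation M = K U M_σ such that M_F ≠ M_σ; put K* = M_σ ∩ C_G(K), p = #K, q = #K*. Then U = 1 and M_σ = M'; p and q are prime, q divides #M_F and q ∈ β(M); M_σ has a Sylow q-subgroup Q normal in M and contained in M_F; every complement D of Q in M_σ is nilpotent, and Q₀ = Q ∩ C_G(D) is normal in M; Q₀ < Q with #Q = #Q₀ · q ^ p, every element of Q has its q-th power and all its commutators with Q in Q₀, and every subgroup strictly between Q₀ and Q fails to be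 normal in M. -/
theorem result {G : Type*} [Group G] [Finite G] (hG : Cfsg.IsMinSimpleOddOrder G)
    (M : Subgroup G) (hM : IsCoatom M) (K U : Subgroup G) (hKU : Cfsg.IsSigmaDecomposition M K U) (hne : Cfsg.fittingHallOf M ≠ Cfsg.sigmaCore M) :
    U = ⊥ ∧ Cfsg.sigmaCore M = ⁅M, M⁆ ∧ (Nat.card K).Prime ∧ (Nat.card ↥(Cfsg.sigmaCore M ⊓ Subgroup.centralizer (K : Set G))).Prime ∧
      Nat.card ↥(Cfsg.sigmaCore M ⊓ Subgroup.centralizer (K : Set G)) ∣ Nat.card (Cfsg.fittingHallOf M) ∧ Nat.card ↥(Cfsg.sigmaCore M ⊓ Subgroup.centralizer (K : Set G)) ∈ Cfsg.beta M ∧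
      ∃ Q : Subgroup G, Q ≤ Cfsg.fittingHallOf M ∧ M ≤ Subgroup.normalizer (Q : Set G) ∧ IsPGroup (Nat.card ↥(Cfsg.sigmaCore M ⊓ Subgroup.centralizer (K : Set G))) Q ∧
        ¬ Nat.card ↥(Cfsg.sigmaCore M ⊓ Subgroup.centralizer (K : Set G)) ∣ Q.relIndex (Cfsg.sigmaCore M) ∧
        ∀ D : Subgroup G, Cfsg.IsComplIn Q D (Cfsg.sigmaCore M) →
          Group.IsNilpotent D ∧ M ≤ Subgroup.normalizer ((Q ⊓ Subgroup.centralizer (D : Set G) : Subgroup G) : Set G) ∧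
          Q ⊓ Subgroup.centralizer (D : Set G) < Q ∧
          Nat.card Q = Nat.card ↥(Q ⊓ Subgroup.centralizer (D : Set G)) * Nat.card ↥(Cfsg.sigmaCore M ⊓ Subgroup.centralizer (K : Set G)) ^ Nat.card K ∧
          (∀ a ∈ Q, ∀ b ∈ Q, a ^ Nat.card ↥(Cfsg.sigmaCore M ⊓ Subgroup.centralizer (K : Set G)) ∈ Q ⊓ Subgroup.centralizer (D : Set G) ∧
            a * b * a⁻¹ * b⁻¹ ∈ Q ⊓ Subgroup.centralizer (D : Set G)) ∧
          ∀ N : Subgroup G, Q ⊓ Subgroup.centralizer (D : Set G) < N → N < Q → ¬ M ≤ Subgroup.normalizer (N : Set G) := by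
  classical
  have hUH : Cfsg.Agent.Helper34.BG.UniqHyp G :=
    fun K hK h1 h2 => Cfsg.Agent.S1403.result hG K hK h1 h2
  obtain ⟨hHall, -, -⟩ := Cfsg.Agent.S1350.result hG M hM
  have hNM : Cfsg.sigmaCore M ≤ M := Cfsg.Agent.Helper55.BGB.sigmaCore_le M
  have hMN : M ≤ normalizer ((Cfsg.sigmaCore M : Subgroup G) : Set G) :=
    Cfsg.Agent.Helper55.BGB.le_normalizer_sigmaCore M
  obtain ⟨hUM, hBM, hUB, hprod⟩ := hKU.compl
  have hKM : K ≤ M := hKU.hall.1
  have hMsolv : Group.IsSolvable ↥M := hG.2.2.2 M hM.1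
  have hModd : Odd (Nat.card ↥M) := Cfsg.Agent.Helper34.BG.odd_card_subgroup hG M
  have hpiN : ∀ p : ℕ, p.Prime → p ∣ Nat.card (Cfsg.sigmaCore M) → p ∈ Cfsg.sigma M :=
    Cfsg.Agent.Helper55.BGB.isPi_sigmaCore M
  -- Step 1: `M_σ` is not nilpotent
  have hNnil : ¬ Group.IsNilpotent ↥(Cfsg.sigmaCore M) := by
    intro hnil
    apply hne
    exact le_antisymm (Cfsg.Agent.Helper60.BG144.fittingHallOf_le_sigmaCore hG hM)
      (Cfsg.Agent.Helper60.BG144.sigmaCore_le_fittingHallOf_of_nil hHall hnil)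
  -- Step 2: every prime of `M` outside `σ(M)` lies in `κ(M)`
  have hall : ∀ r : ℕ, r.Prime → r ∣ Nat.card M → r ∉ Cfsg.sigma M → r ∈ Cfsg.kappa M := by
    intro r hr hrM hrσ
    by_contra hrκ
    haveI : Fact r.Prime := ⟨hr⟩
    obtain ⟨-, -, hnil⟩ := Cfsg.Agent.S1429.result hG M hM (fun hh => hrκ (hh r hr hrM hrσ)) r hrM
      (by rintro (h | h); exact hrσ h; exact hrκ h) default
    exact hNnil hnil
  have hU : U = ⊥ := by
    by_contra hU1
    have hc : Nat.card U ≠ 1 := fun hc => hU1 (Subgroup.card_eq_one.mp hc)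
    obtain ⟨r, hr, hrU⟩ := Nat.exists_prime_and_dvd hc
    obtain ⟨hrκ, hrσ⟩ := Cfsg.Agent.Helper55.BGB.U_prime_not_mem hKU hHall hr hrU
    exact hrκ (hall r hr (hrU.trans (Subgroup.card_dvd_of_le hUM)) hrσ)
  have hMle : M ≤ Cfsg.sigmaCore M ⊔ K := by
    intro m hm
    obtain ⟨a, ha, b, hb, rfl⟩ := hprod m hm
    rw [hU, mem_bot] at ha
    rw [ha, one_mul, sup_comm]
    exact hb
  have hKN : K ⊓ Cfsg.sigmaCore M = ⊥ := Cfsg.Agent.Helper55.BGB.K_inf_sigmaCore hKU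
  have hKnN : ∀ y ∈ K, ∀ x ∈ Cfsg.sigmaCore M, y * x * y⁻¹ ∈ Cfsg.sigmaCore M := by
    intro y hy x hx
    exact (mem_normalizer_iff.mp (hMN (hKM hy)) x).mp hx
  have hMnk : ∀ m ∈ M, ∃ d ∈ Cfsg.sigmaCore M, ∃ k ∈ K, m = d * k := fun m hm =>
    Cfsg.Agent.Helper98.BGK.exists_mul_of_mem_sup hKnN (hMle hm)
  have hcompl : Cfsg.IsComplIn K (Cfsg.sigmaCore M) M := by
    refine ⟨hKM, hNM, hKN, ?_⟩
    intro m hm
    obtain ⟨d, hd, k, hk, hmk⟩ := hMnk m⁻¹ (inv_mem hm)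
    refine ⟨k⁻¹, inv_mem hk, d⁻¹, inv_mem hd, ?_⟩
    have : m = (m⁻¹)⁻¹ := (inv_inv m).symm
    rw [this, hmk, mul_inv_rev]
  obtain ⟨-, hcomm, -⟩ := Cfsg.Agent.S1426.result hG M hM K hcompl
  have hN1 : Cfsg.sigmaCore M ≠ ⊥ :=
    Cfsg.Agent.Helper95.BG15.FitSigma.sigmaCore_ne_bot hG hUH hM hHall
  have hK1 : K ≠ ⊥ := by
    intro hK
    rw [hK, Subgroup.commutator_bot_right] at hcomm
    exact hN1 hcomm.symm
  -- `M_σ = M'`
  have hNM' : Cfsg.sigmaCore M = ⁅M, M⁆ := by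
    apply le_antisymm (Cfsg.Agent.Helper34.BG.sigmaCore_le_commutator hG hUH hM)
    exact Cfsg.Agent.Helper98.BGK.commutator_le_of_decomp (Cfsg.sigmaCore M) K M hKnN
      (fun a ha b hb => Cfsg.Agent.Helper55.BGB.commute_of_isCyclic hKU.cyclic ha hb) hMnk
  obtain ⟨hpr, -, -⟩ := Cfsg.Agent.S1430.result hG M hM K hKU.hall hK1
  have hKs1 := Cfsg.Agent.Helper55.BGKappa.Kstar_ne_bot hKU.hall hK1 hpr
  -- the second maximal subgroup `M*`
  obtain ⟨Ms, ⟨hMs, hKeq, hKsHall⟩, -⟩ := Cfsg.Agent.S1366.result hG M hM K U hKU hK1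
  obtain ⟨-, hcyc⟩ := Cfsg.Agent.S1368.result hG M hM K U hKU hK1 Ms hMs hKeq hKsHall
  have hKsc : IsCyclic ↥(Cfsg.sigmaCore M ⊓ centralizer (K : Set G)) := by
    haveI := hcyc
    exact Subgroup.isCyclic_of_le
      (H' := K ⊔ (Cfsg.sigmaCore M ⊓ centralizer (K : Set G))) le_sup_right
  obtain ⟨⟨Us, hKUs⟩, -⟩ := Cfsg.Agent.S1352.result hG Ms hMs _ hKsc hKsHall
  obtain ⟨hor, -⟩ := Cfsg.Agent.S1369.result hG M hM K U hKU hK1 Ms hMs hKeq hKsHall
  have hUs1 : Us ≠ ⊥ := by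
    rcases hor with h | h
    · exact absurd hU h
    · exact h Us hKUs
  have hqprime : (Nat.card ↥(Cfsg.sigmaCore M ⊓ centralizer (K : Set G))).Prime :=
    card_K_prime_of_U_ne_bot hG Ms hMs _ Us hKUs hKs1 hUs1
  have hcop : (Nat.card (Cfsg.sigmaCore M)).Coprime (Nat.card K) := by
    apply Nat.coprime_of_dvd
    intro p hp h2 h3
    exact Cfsg.Agent.Helper55.BGB.not_mem_sigma_of_mem_kappa (hKU.hall.2.1 p hp h3) (hpiN p hp h2)
  have hpre := Cfsg.Agent.Helper55.BG152.pre_of M (Cfsg.sigmaCore M) K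
    (Nat.card ↥(Cfsg.sigmaCore M ⊓ centralizer (K : Set G))) hqprime hNM hMN hKM hMle hMsolv hModd
    hcop hK1 rfl hpr hNnil hcomm
  obtain ⟨hKp, hmain⟩ := hpre.main
  haveI : Fact (Nat.card ↥(Cfsg.sigmaCore M ⊓ centralizer (K : Set G))).Prime := ⟨hqprime⟩
  have hqN : Nat.card ↥(Cfsg.sigmaCore M ⊓ centralizer (K : Set G)) ∣ Nat.card (Cfsg.sigmaCore M) :=
    hpre.q_dvd_card_N
  have hqσ : Nat.card ↥(Cfsg.sigmaCore M ⊓ centralizer (K : Set G)) ∈ Cfsg.sigma M :=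
    hpiN _ hqprime hqN
  -- `Q ≤ M_F`
  have hQM : Cfsg.pCoreOf (Nat.card ↥(Cfsg.sigmaCore M ⊓ centralizer (K : Set G))) (Cfsg.sigmaCore M) ≤ M :=
    hpre.hQN.trans hNM
  have hQF : Cfsg.pCoreOf (Nat.card ↥(Cfsg.sigmaCore M ⊓ centralizer (K : Set G))) (Cfsg.sigmaCore M)
      ≤ Cfsg.fittingHallOf M := by
    set q := Nat.card ↥(Cfsg.sigmaCore M ⊓ centralizer (K : Set G)) with hq
    set Q := Cfsg.pCoreOf q (Cfsg.sigmaCore M) with hQ
    haveI hnorm : (Q.subgroupOf M).Normal :=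
      (Subgroup.normal_subgroupOf_iff_le_normalizer hQM).mpr hpre.hMQ
    have hpg : IsPGroup q ↥(Q.subgroupOf M) := hpre.hQp.comap_subtype
    have hnil : Group.IsNilpotent ↥(Q.subgroupOf M) := hpg.isNilpotent
    have hcopQ : (Nat.card ↥(Q.subgroupOf M)).Coprime (Q.subgroupOf M).index := by
      obtain ⟨e, he⟩ := hpg.exists_card_eq
      rw [he]
      apply Nat.Coprime.pow_left
      rw [Nat.Prime.coprime_iff_not_dvd hqprime]
      show ¬ q ∣ Q.relIndex M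
      rw [← Subgroup.relIndex_mul_relIndex Q (Cfsg.sigmaCore M) M hpre.hQN hNM]
      intro hd
      rcases (Nat.Prime.dvd_mul hqprime).mp hd with h | h
      · exact hpre.hQidx h
      · exact hHall.2.2 q hqprime hqσ h
    have hle : Q.subgroupOf M ≤ Cfsg.fittingHall ↥M := le_sSup ⟨hnorm, hnil, hcopQ⟩
    have := Subgroup.map_mono (f := M.subtype) hle
    rw [map_subgroupOf_eq_of_le hQM] at this
    exact this
  -- `q ∈ β(M)`
  have hqβ : Nat.card ↥(Cfsg.sigmaCore M ⊓ centralizer (K : Set G)) ∈ Cfsg.beta M := by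
    by_contra hqβ
    set q := Nat.card ↥(Cfsg.sigmaCore M ⊓ centralizer (K : Set G)) with hq
    set Q := Cfsg.pCoreOf q (Cfsg.sigmaCore M) with hQ
    obtain ⟨-, -, -, -, h5⟩ := Cfsg.Agent.S1414.result hG M hM
    obtain ⟨-, ⟨P, C, hCn, hCP⟩, -⟩ := h5 q hqprime (hqN.trans (Subgroup.card_dvd_of_le hNM)) hqβ
    set D : Subgroup G := C.map (Cfsg.sigmaCore M).subtype with hD
    have hDN : D ≤ Cfsg.sigmaCore M := by
      rintro _ ⟨y, -, rfl⟩
      exact y.2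
    have hcD : Nat.card D = Nat.card C :=
      Subgroup.card_map_of_injective (Subgroup.subtype_injective _)
    have hqC : ¬ q ∣ Nat.card C := by
      rw [← hCP.index_eq_card]
      exact P.not_dvd_index
    -- `|Q| = |P|`
    have hQ'p : IsPGroup q (Cfsg.pCore q ↥(Cfsg.sigmaCore M)) := Cfsg.Agent.Helper55.isPGroup_pCore
    have hidx : (Cfsg.pCore q ↥(Cfsg.sigmaCore M)).index = Q.relIndex (Cfsg.sigmaCore M) := by
      rw [hQ]
      unfold Cfsg.pCoreOf Subgroup.relIndex Subgroup.subgroupOf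
      rw [Subgroup.comap_map_eq_self_of_injective (Subgroup.subtype_injective _)]
    have hQ'idx : ¬ q ∣ (Cfsg.pCore q ↥(Cfsg.sigmaCore M)).index := by
      rw [hidx]; exact hpre.hQidx
    have hcQ : Nat.card Q = Nat.card P := by
      have h1 : Nat.card Q = Nat.card (Cfsg.pCore q ↥(Cfsg.sigmaCore M)) :=
        Subgroup.card_map_of_injective (Subgroup.subtype_injective _)
      have h2 := (hQ'p.toSylow hQ'idx).card_eq_multiplicity
      have h3 := P.card_eq_multiplicity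
      rw [h1, h3]
      exact h2
    have hcard : Nat.card Q * Nat.card D = Nat.card (Cfsg.sigmaCore M) := by
      rw [hcQ, hcD, mul_comm]
      exact hCP.card_mul_card
    have hQD : Q ⊓ D = ⊥ := by
      apply Subgroup.inf_eq_bot_of_coprime
      obtain ⟨e, he⟩ := hpre.hQp.exists_card_eq
      rw [he, hcD]
      apply Nat.Coprime.pow_left
      exact (Nat.Prime.coprime_iff_not_dvd hqprime).mpr hqC
    have hcomplD : Cfsg.IsComplIn Q D (Cfsg.sigmaCore M) :=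
      Cfsg.Agent.Helper55.BGB.isComplIn_of_card hpre.hQN hDN hQD hcard
    obtain ⟨-, -, hlt, -⟩ := hmain D hcomplD
    apply ne_of_lt hlt
    apply le_antisymm inf_le_left
    refine le_inf le_rfl ?_
    -- `Q ≤ C(D)`: both are normal in `M_σ` and meet trivially
    have hND : Cfsg.sigmaCore M ≤ normalizer (D : Set G) :=
      Cfsg.Agent.Helper55.BGB.le_normalizer_map_subtype (Cfsg.sigmaCore M) C
    have hNQ : Cfsg.sigmaCore M ≤ normalizer (Q : Set G) := hNM.trans hpre.hMQ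
    intro a ha
    rw [mem_centralizer_iff]
    intro d hd
    have h1 : a * d * a⁻¹ * d⁻¹ ∈ Q ⊓ D := by
      refine Subgroup.mem_inf.mpr ⟨?_, ?_⟩
      · have : d * a⁻¹ * d⁻¹ ∈ Q := (mem_normalizer_iff.mp (hNQ (hDN hd)) a⁻¹).mp (inv_mem ha)
        have e : a * d * a⁻¹ * d⁻¹ = a * (d * a⁻¹ * d⁻¹) := by group
        rw [e]
        exact mul_mem ha this
      · have : a * d * a⁻¹ ∈ D := (mem_normalizer_iff.mp (hND (hpre.hQN ha)) d).mp hd
        exact mul_mem this (inv_mem hd)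
    rw [hQD, mem_bot] at h1
    have : a * d = (a * d * a⁻¹ * d⁻¹) * (d * a) := by group
    rw [this, h1, one_mul]
  refine ⟨hU, hNM', hKp, hqprime, ?_, hqβ, _, hQF, hpre.hMQ, hpre.hQp, hpre.hQidx, hmain⟩
  exact (Subgroup.card_dvd_of_le (hpre.hKsQ.trans hQF))

end Cfsg.Agent.S1437
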