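import Cfsg.Statements.S1355
import Mathlib
import Cfsg.Agent.S1350
import Cfsg.Agent.S1351
import Cfsg.Agent.S1352
import Cfsg.Agent.S1403
import Cfsg.Agent.S1415
import Cfsg.Agent.S1437
import Cfsg.Agent.Lib.Helper34.BG10i
import Cfsg.Agent.Lib.Helper55.BGHall
import Cfsg.Agent.Lib.Helper60.BG144b
import Cfsg.Agent.Lib.Helper95.BG15.FitSigma
import Cfsg.Agent.Lib.Helper83.BG152a

set_option autoImplicit false
open Cfsg

namespace Cfsg.Agent.S1355

/-- Let G be a minimal simple group of odd order and M a maximal subgroup. Then the largest normal nilpotent Hall subgroup M_F of M is nontrivial and contained in M_σ, M_σ is contained in the derived subgroup M', M' is proper in M, and the image of M' in M/M_F is nilpotent. -/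
theorem result {G : Type*} [Group G] [Finite G] (hG : Cfsg.IsMinSimpleOddOrder G)
    (M : Subgroup G) (hM : IsCoatom M) :
    Cfsg.fittingHallOf M ≠ ⊥ ∧ Cfsg.fittingHallOf M ≤ Cfsg.sigmaCore M ∧ Cfsg.sigmaCore M ≤ ⁅M, M⁆ ∧ ⁅M, M⁆ < M ∧
      Group.IsNilpotent ↥((commutator ↥M).map (QuotientGroup.mk' (Cfsg.fittingHall ↥M))) := by
  have hU : Cfsg.Agent.Helper34.BG.UniqHyp G :=
    fun K hK h1 h2 => Cfsg.Agent.S1403.result hG K hK h1 h2
  have hHall := (Cfsg.Agent.S1350.result hG M hM).1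
  have h2 : Cfsg.fittingHallOf M ≤ Cfsg.sigmaCore M :=
    Cfsg.Agent.Helper60.BG144.fittingHallOf_le_sigmaCore hG hM
  have h3 : Cfsg.sigmaCore M ≤ ⁅M, M⁆ :=
    Cfsg.Agent.Helper34.BG.sigmaCore_le_commutator hG hU hM
  have h4 : ⁅M, M⁆ < M :=
    Cfsg.Agent.Helper83.BG152.commutator_lt_of_solvable
      (Cfsg.Agent.Helper34.BG.solvable_of_ne_top hG hM.1)
      (Cfsg.Agent.Helper34.BG.coatom_ne_bot hG hM)
  by_cases hne : Cfsg.fittingHallOf M = Cfsg.sigmaCore M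
  · -- `M_F = M_σ`
    have h1 : Cfsg.fittingHallOf M ≠ ⊥ := by
      rw [hne]
      exact Cfsg.Agent.Helper95.BG15.FitSigma.sigmaCore_ne_bot hG hU hM hHall
    obtain ⟨E, hE⟩ := Cfsg.Agent.Helper55.BGB.exists_compl_sigmaCore hHall
    have hEnil := (Cfsg.Agent.S1415.result hG M hM E hE).1
    exact ⟨h1, h2, h3, h4,
      Cfsg.Agent.Helper83.BG152.nilpotent_image_caseA M E hE hne hEnil⟩
  · -- `M_F ≠ M_σ`: B-G 15.2
    obtain ⟨⟨K, hK⟩, hKc⟩ := Cfsg.Agent.S1351.result hG M hM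
    obtain ⟨⟨U, hKU⟩, -⟩ := Cfsg.Agent.S1352.result hG M hM K (hKc K hK) hK
    obtain ⟨-, hσM', -, hqprime, -, -, Q, hQF, hQn, hQp, hQidx, hQD⟩ :=
      Cfsg.Agent.S1437.result hG M hM K U hKU hne
    have hSM : Cfsg.sigmaCore M ≤ M := hHall.1
    obtain ⟨h1, h5⟩ := Cfsg.Agent.Helper83.BG152.caseB M Q (Cfsg.sigmaCore M) _ hqprime hσM' hSM
      hQF h2 hQn hQp hQidx (fun D hD => ⟨(hQD D hD).1, (hQD D hD).2.2.1⟩)
    exact ⟨h1, h2, h3, h4, h5⟩

end Cfsg.Agent.S1355
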