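import Cfsg.Statements.S1421
import Cfsg.Agent.S1350
import Cfsg.Agent.S1405
import Cfsg.Agent.S1408
import Cfsg.Agent.S1411
import Cfsg.Agent.S1417
import Cfsg.Agent.S1418
import Cfsg.Agent.S1419
import Cfsg.Agent.S1420
import Cfsg.Agent.Lib.Helper38.BG1213c
import Cfsg.Agent.Lib.Helper38.BG1213g
import Cfsg.Agent.Lib.Helper29.BG1212c
import Cfsg.Agent.Lib.Helper69.BG1213f
import Cfsg.Agent.Lib.Helper33.BG1211e

set_option autoImplicit false
open Cfsg Subgroup

namespace Cfsg.Agent.S1421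

/-- If one Sylow `s`-subgroup is abelian, all are. -/
theorem sylow_comm_of_exists {G : Type*} [Group G] [Finite G] {s : ℕ} [Fact s.Prime]
    (h : ∃ S : Sylow s G, IsMulCommutative (S : Subgroup G)) :
    ∀ S : Sylow s G, IsMulCommutative (S : Subgroup G) := by
  obtain ⟨S₀, hS₀⟩ := h
  intro S
  obtain ⟨g, hg⟩ := MulAction.exists_smul_eq G S₀ S
  refine ⟨⟨fun x y => ?_⟩⟩
  have hx : (x : G) ∈ ((g • S₀ : Sylow s G) : Subgroup G) := by rw [hg]; exact x.2
  have hy : (y : G) ∈ ((g • S₀ : Sylow s G) : Subgroup G) := by rw [hg]; exact y.2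
  rw [Sylow.coe_subgroup_smul, Cfsg.Agent.Helper33.mem_conj_smul] at hx hy
  have hc := hS₀.is_comm.comm ⟨_, hx⟩ ⟨_, hy⟩
  have hc' : g⁻¹ * (x : G) * g * (g⁻¹ * (y : G) * g) = g⁻¹ * (y : G) * g * (g⁻¹ * (x : G) * g) :=
    congrArg Subtype.val hc
  apply Subtype.ext
  show (x : G) * y = y * x
  have h1 : g⁻¹ * ((x : G) * y) * g = g⁻¹ * ((y : G) * x) * g := by
    calc g⁻¹ * ((x : G) * y) * g = g⁻¹ * (x : G) * g * (g⁻¹ * (y : G) * g) := by group
      _ = g⁻¹ * (y : G) * g * (g⁻¹ * (x : G) * g) := hc'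
      _ = g⁻¹ * ((y : G) * x) * g := by group
  exact mul_left_cancel (mul_right_cancel h1)


/-- Let G be a minimal simple group of odd order, M a maximal subgroup and E a complement to M_σ in M. Suppose that every non-identity element e of E all of whose order's prime divisors lie in τ₁(M) ∪ τ₃(M) has M_σ ∩ C_G(e) = 1. Then E has an abelian normal subgroup A₀ with E ∩ C_G(x) ≤ A₀ for every non-identity x ∈ M_σ, and E has a subgroup E₀ of the same exponent as E such that no non-identity element of E₀ centralizes a non-identity element of M_σ. -/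
theorem result {G : Type*} [Group G] [Finite G] (hG : Cfsg.IsMinSimpleOddOrder G)
    (M : Subgroup G) (hM : IsCoatom M) (E : Subgroup G) (hE : Cfsg.IsComplIn E (Cfsg.sigmaCore M) M)
    (h : ∀ e ∈ E, e ≠ 1 → (∀ p : ℕ, p.Prime → p ∣ orderOf e → p ∈ Cfsg.tau1 M ∪ Cfsg.tau3 M) →
      Cfsg.sigmaCore M ⊓ Subgroup.centralizer ({e} : Set G) = ⊥) :
    (∃ A₀ : Subgroup G, A₀ ≤ E ∧ E ≤ Subgroup.normalizer (A₀ : Set G) ∧ IsMulCommutative A₀ ∧
        ∀ x ∈ Cfsg.sigmaCore M, x ≠ 1 → E ⊓ Subgroup.centralizer ({x} : Set G) ≤ A₀) ∧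
      ∃ E₀ : Subgroup G, E₀ ≤ E ∧ Monoid.exponent E₀ = Monoid.exponent E ∧
        ∀ e ∈ E₀, e ≠ 1 → Cfsg.sigmaCore M ⊓ Subgroup.centralizer ({e} : Set G) = ⊥ := by
  classical
  have hσ := (Cfsg.Agent.S1350.result hG M hM).1
  have h05 := Cfsg.Agent.S1405.result hG M hM
  have hα := h05.1
  have hασ := h05.2.2.1
  by_cases hab : ∀ r : ℕ, r ∈ tau2 M → ∀ S : Sylow r G, IsMulCommutative (S : Subgroup G)
  · refine ⟨Cfsg.Agent.Helper29.BG1212.part_a hG M hM E hE h, ?_⟩
    by_cases hK : sigmaCore M = ⊥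
    · refine ⟨E, le_rfl, rfl, ?_⟩
      intro e _ _
      rw [hK]
      exact bot_inf_eq _
    · have h11 : Cfsg.Agent.Helper38.BG1213.H11 G := fun p _ P V hV =>
        Cfsg.Agent.S1411.result hG p P V hV
      have h17 : Cfsg.Agent.Helper38.BG128.H17 M := fun p _ hp A hA =>
        Cfsg.Agent.S1417.result hG M hM p hp A hA
      have h18 : Cfsg.Agent.Helper38.BG1213.H18 M E := fun p _ hp A hA =>
        Cfsg.Agent.S1418.result hG M hM E hE p hp A hA
      have h20 := (Cfsg.Agent.S1420.result hG M hM E hE).2.1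
      apply Cfsg.Agent.Helper38.BG1213.exists_E0_of_cyclic hG hM hE hσ hα hασ h
      intro p hp hpp
      haveI : Fact p.Prime := ⟨hpp⟩
      exact Cfsg.Agent.Helper38.BG1213.exists_cyclic_AB_of_line hG hM hE hσ hα hασ h11 h17 h18
        h20 hp (hab p hp)
        (Cfsg.Agent.Helper33.BG1211.hline_AB hG hM hE h hK hab hp)
  · push Not at hab
    obtain ⟨p, hp, S₀, hS₀⟩ := hab
    haveI : Fact p.Prime := ⟨hp.1⟩
    have hS : ∀ S : Sylow p G, ¬ IsMulCommutative (S : Subgroup G) := fun S hS =>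
      hS₀ (sylow_comm_of_exists ⟨S, hS⟩ S₀)
    exact Cfsg.Agent.Helper69.BG1213f.case_nonabelian hG M E hE hσ hα hασ h p hp hS
      (Cfsg.Agent.S1408.result hG M hM p hp.2.1 hp.2.2.1 hp.2.2.2)
      (fun A hA => Cfsg.Agent.S1417.result hG M hM p hp A hA)
      (fun A hA => Cfsg.Agent.S1418.result hG M hM E hE p hp A hA)
      (fun A hA => Cfsg.Agent.S1419.result hG M hM E hE p hp hS A hA)


end Cfsg.Agent.S1421
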