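import Cfsg.Statements.S1438
import Cfsg.Agent.S1350
import Cfsg.Agent.S1351
import Cfsg.Agent.S1352
import Cfsg.Agent.S1374
import Cfsg.Agent.S1417
import Cfsg.Agent.S1421
import Cfsg.Agent.S1430
import Cfsg.Agent.S1431
import Cfsg.Agent.S1432
import Cfsg.Agent.S1437
import Cfsg.Agent.Lib.Helper75.BG153b
import Cfsg.Agent.Lib.Helper75.BG153c
import Cfsg.Agent.Lib.Helper55.BGFit
import Cfsg.Agent.Lib.Helper45.FittingHall
import Cfsg.Agent.Lib.Helper60.BG144b

set_option autoImplicit false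
open Cfsg

namespace Cfsg.Agent.S1438

/-- Let G be a minimal simple group of odd order, M a maximal subgroup and H a nontrivial subgroup of M_σ whose order is coprime to its index in M_σ. Then M ∩ C_G(H) is generated by M_σ ∩ C_G(H) together with a cyclic subgroup X all of whose prime divisors lie in τ₂(M); and if x ∈ H and gxg⁻¹ ∈ H then nxn⁻¹ = gxg⁻¹ for some n ∈ M ∩ N_G(H). -/
theorem result {G : Type*} [Group G] [Finite G] (hG : Cfsg.IsMinSimpleOddOrder G)
    (M : Subgroup G) (hM : IsCoatom M) (H : Subgroup G) (hH : H ≤ Cfsg.sigmaCore M) (hH1 : H ≠ ⊥)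
    (hHall : (Nat.card H).Coprime (H.relIndex (Cfsg.sigmaCore M))) :
    (∃ X : Subgroup G, IsCyclic X ∧ (∀ p : ℕ, p.Prime → p ∣ Nat.card X → p ∈ Cfsg.tau2 M) ∧
        M ⊓ Subgroup.centralizer (H : Set G) = (Cfsg.sigmaCore M ⊓ Subgroup.centralizer (H : Set G)) ⊔ X) ∧
      ∀ x ∈ H, ∀ g : G, g * x * g⁻¹ ∈ H → ∃ n ∈ M ⊓ Subgroup.normalizer (H : Set G), n * x * n⁻¹ = g * x * g⁻¹ := by
  classical
  have hsimple : IsSimpleGroup G := hG.2.1
  have hsolv : Group.IsSolvable M := hG.2.2.2 M hM.1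
  have hMS : M ≤ Subgroup.normalizer (Cfsg.sigmaCore M : Set G) :=
    Cfsg.Agent.Helper55.BGB.le_normalizer_sigmaCore M
  have h1350 := (Cfsg.Agent.S1350.result hG M hM).1
  have h1351 := Cfsg.Agent.S1351.result hG M hM
  refine ⟨?_, ?_⟩
  · -- part (a)
    refine Cfsg.Agent.Helper75.BG153.part_a hG.1 M hsolv hMS h1350 ?_ h1351.1 ?_ ?_ ?_ ?_ ?_ H hH hH1 hHall
    · intro x hx hx1 x' hx' hx'1 hσ
      exact (Cfsg.Agent.S1432.result hG M hM x hx hx1 x' hx' hx'1 hσ).imp (fun h => h.1) (fun h => h.1)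
    · intro K hK hK1
      exact (Cfsg.Agent.S1430.result hG M hM K hK hK1).1
    · intro K hK hK1
      obtain ⟨U, hUc, hU, -, -⟩ := (Cfsg.Agent.S1430.result hG M hM K hK hK1).2.1
      exact ⟨U, hUc, hU⟩
    · intro K hK hK1 p hp hpd S
      exact ((Cfsg.Agent.S1431.result hG M hM K hK hK1).2.2.1 p hp hpd S).2.2
    · intro p hp hpτ A hAM hAe hAc
      have : Fact p.Prime := ⟨hp⟩
      exact (Cfsg.Agent.S1417.result hG M hM p hpτ A ⟨hAM, hAe, hAc⟩).2.2.2.1
    · intro E hE hhyp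
      obtain ⟨A₀, -, -, hA₀c, hA₀⟩ := (Cfsg.Agent.S1421.result hG M hM E hE hhyp).1
      exact ⟨A₀, hA₀c, hA₀⟩
  · -- part (b)
    refine Cfsg.Agent.Helper75.BG153.part_b M hM hsolv hMS
      (fun x hx hx1 => Cfsg.Agent.S1374.result hG M hM x hx hx1) ?_ H hH hHall
    by_cases hnil : Group.IsNilpotent (Cfsg.sigmaCore M)
    · exact Or.inl hnil
    · right
      have hFnil : Group.IsNilpotent (Cfsg.fittingHallOf M) := by
        have h := Cfsg.Agent.Helper45.FH.fittingHall_nilpotent (G := ↥M)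
        exact Group.nilpotent_of_mulEquiv
          (Subgroup.equivMapOfInjective (Cfsg.fittingHall ↥M) M.subtype M.subtype_injective)
      have hne : Cfsg.fittingHallOf M ≠ Cfsg.sigmaCore M := by
        intro h
        rw [h] at hFnil
        exact hnil hFnil
      obtain ⟨K, hK⟩ := h1351.1
      have hKc : IsCyclic K := h1351.2 K hK
      obtain ⟨U, hKU⟩ := (Cfsg.Agent.S1352.result hG M hM K hKc hK).1
      obtain ⟨-, -, -, hq, -, -, Q, hQF, hMQ, hQp, hqidx, hD⟩ :=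
        Cfsg.Agent.S1437.result hG M hM K U hKU hne
      refine ⟨_, Q, hq, hQF.trans (Cfsg.Agent.Helper60.BG144.fittingHallOf_le_sigmaCore hG hM),
        hMQ, hQp, hqidx, fun D hDc => (hD D hDc).1⟩

end Cfsg.Agent.S1438
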