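import Cfsg.Statements.S1356
import Mathlib
import Cfsg.Agent.S1350
import Cfsg.Agent.S1351
import Cfsg.Agent.S1352
import Cfsg.Agent.S1355
import Cfsg.Agent.S1365
import Cfsg.Agent.S1403
import Cfsg.Agent.S1420
import Cfsg.Agent.S1430
import Cfsg.Agent.S1437
import Cfsg.Agent.S1438
import Cfsg.Agent.S1439
import Cfsg.Agent.Lib.Helper86.BG153B
import Cfsg.Agent.Lib.Helper11.BG153C
import Cfsg.Agent.Lib.Helper23.BG153D
import Cfsg.Agent.Lib.Helper1.BG153E
import Cfsg.Agent.Lib.Helper35.BG153F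

set_option autoImplicit false
open Cfsg

namespace Cfsg.Agent.S1356

/-- Let G be a minimal simple group of odd order and M a maximal subgroup. Then the second derived subgroup M'' lies in the Fitting subgroup F(M), F(M) is generated by M_F together with C_M(M_F), and if κ(M) is nonempty then F(M) ≤ M'. -/
theorem result {G : Type*} [Group G] [Finite G] (hG : Cfsg.IsMinSimpleOddOrder G)
    (M : Subgroup G) (hM : IsCoatom M) :
    ⁅⁅M, M⁆, ⁅M, M⁆⁆ ≤ Cfsg.fittingOf M ∧
      Cfsg.fittingOf M = (M ⊓ Subgroup.centralizer (Cfsg.fittingHallOf M : Set G)) ⊔ Cfsg.fittingHallOf M ∧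
      ((Cfsg.kappa M).Nonempty → Cfsg.fittingOf M ≤ ⁅M, M⁆) := by
  have hU : Cfsg.Agent.Helper34.BG.UniqHyp G :=
    fun K hK h1 h2 => Cfsg.Agent.S1403.result hG K hK h1 h2
  have h1350 : Cfsg.Agent.Helper73.BG161.T1350 G := fun M hM => Cfsg.Agent.S1350.result hG M hM
  have h1351 : Cfsg.Agent.Helper35.BG153.T1351 G := fun M hM => Cfsg.Agent.S1351.result hG M hM
  have h1352 : Cfsg.Agent.Helper73.BG161.T1352 G :=
    fun M hM K hKc hK => Cfsg.Agent.S1352.result hG M hM K hKc hK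
  have h1355 : Cfsg.Agent.Helper35.BG153.T1355 G := fun M hM => Cfsg.Agent.S1355.result hG M hM
  have h1365 : Cfsg.Agent.Helper73.BG161.T1365 G :=
    fun M hM K U hKU hK1 => Cfsg.Agent.S1365.result hG M hM K U hKU hK1
  have h1420 : Cfsg.Agent.Helper73.BG161.T1420 G :=
    fun M hM E hE => Cfsg.Agent.S1420.result hG M hM E hE
  have h1430 : Cfsg.Agent.Helper73.BG161.T1430 G :=
    fun M hM K hK hK1 => Cfsg.Agent.S1430.result hG M hM K hK hK1
  have h1437 : Cfsg.Agent.Helper73.BG161.T1437 G :=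
    fun M hM K U hKU hne => Cfsg.Agent.S1437.result hG M hM K U hKU hne
  have h1438 : Cfsg.Agent.Helper35.BG153.T1438 G :=
    fun M hM H hH hH1 hHall => Cfsg.Agent.S1438.result hG M hM H hH hH1 hHall
  have h1439 : Cfsg.Agent.Helper35.BG153.T1439 G := fun M hM => Cfsg.Agent.S1439.result hG M hM
  refine ⟨?_, ?_, ?_⟩
  · by_cases heq : Cfsg.fittingHallOf M = Cfsg.sigmaCore M
    · exact (Cfsg.Agent.Helper23.BG153.case_eq hG hU h1350 h1420 h1438 M hM heq).1
    · exact Cfsg.Agent.Helper35.BG153.case_ne_der hG h1350 h1351 h1352 h1430 h1437 M hM heq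
  · apply le_antisymm (Cfsg.Agent.Helper11.BG153.fittingOf_le_cent_sup M)
    apply sup_le _ (Cfsg.Agent.Helper35.BG153.fittingHallOf_le_fittingOf M)
    by_cases heq : Cfsg.fittingHallOf M = Cfsg.sigmaCore M
    · exact (Cfsg.Agent.Helper23.BG153.case_eq hG hU h1350 h1420 h1438 M hM heq).2
    · exact Cfsg.Agent.Helper1.BG153.case_ne_cent hG h1350 h1351 h1352 h1355 h1437 h1438 M hM heq
  · exact Cfsg.Agent.Helper86.BG153.fittingOf_le_commutator hG h1350 h1351 h1352 h1365 h1439 M hM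

end Cfsg.Agent.S1356
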