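import Cfsg.Statements.S1360
import Cfsg.Agent.Lib.Helper3.BG15D
import Cfsg.Agent.S1421

set_option autoImplicit false
open Cfsg

namespace Cfsg.Agent.S1360

/-- Let G be a minimal simple group of odd order and M a maximal subgroup with standard factorisation M = K U M_σ. Then U contains a subgroup U₀ with the same exponent as U such that no non-identity element of U₀ centralizes a non-identity element of M_σ. -/
theorem result {G : Type*} [Group G] [Finite G] (hG : Cfsg.IsMinSimpleOddOrder G)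
    (M : Subgroup G) (hM : IsCoatom M) (K U : Subgroup G) (hKU : Cfsg.IsSigmaDecomposition M K U) :
    ∃ U₀ : Subgroup G, U₀ ≤ U ∧ Monoid.exponent U₀ = Monoid.exponent U ∧ ∀ u ∈ U₀, u ∈ Cfsg.sigmaHat M → u = 1 := by
  have hfin : ∀ U₀ : Subgroup G,
      (∀ w ∈ U₀, w ≠ 1 → Cfsg.sigmaCore M ⊓ Subgroup.centralizer ({w} : Set G) = ⊥) →
      ∀ u ∈ U₀, u ∈ Cfsg.sigmaHat M → u = 1 := by
    rintro U₀ h u hu ⟨-, y, hy, hy1, huy⟩
    by_contra hu1
    have hb := h u hu hu1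
    have hmem : y ∈ Cfsg.sigmaCore M ⊓ Subgroup.centralizer ({u} : Set G) := by
      refine Subgroup.mem_inf.mpr ⟨hy, ?_⟩
      rw [Subgroup.mem_centralizer_iff]
      intro h hh
      rw [Set.mem_singleton_iff] at hh
      rw [hh]; exact huy
    rw [hb, Subgroup.mem_bot] at hmem
    exact hy1 hmem
  by_cases hK : K = ⊥
  · have hE : Cfsg.IsComplIn U (Cfsg.sigmaCore M) M := by
      have := hKU.compl
      rwa [hK, bot_sup_eq] at this
    obtain ⟨-, E₀, hE₀E, hE₀exp, hE₀⟩ :=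
      Cfsg.Agent.S1421.result hG M hM U hE (Cfsg.Agent.H3BG15.hyp_of_K_eq_bot hG hKU hK)
    exact ⟨E₀, hE₀E, hE₀exp, hfin E₀ hE₀⟩
  · have hUc := Cfsg.Agent.H3BG15.isMulCommutative_U_of_K_ne_bot hG hM hKU hK
    obtain ⟨U₀, hU₀U, hexp, hgood⟩ := Cfsg.Agent.H3BG15.exists_U0 (Cfsg.sigmaCore M) U hUc
      (fun r hr hrn => Cfsg.Agent.H3BG15.exists_good hG hM hKU hUc hr hrn)
    exact ⟨U₀, hU₀U, hexp, hfin U₀ hgood⟩

end Cfsg.Agent.S1360
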