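import Cfsg.Statements.S0658
import Cfsg.Agent.Lib.Helper11.ZJ9

set_option autoImplicit false
set_option linter.style.haveILetI false
open Cfsg

namespace Cfsg.Agent.S0658

open Cfsg.Agent.Helper11.ZJ

/-- Under an induction hypothesis on pairs with larger normalizers, Sylow subgroups with large
intersection have the same `Z(J)`. -/
theorem ZJ_eq_of_inf {G : Type*} [Group G] [Finite G] {p : ℕ} [Fact p.Prime] (d : ℕ)
    (ih : ∀ m < d, ∀ (P' : Sylow p G) (Q' : Subgroup G), Q' ≤ (P' : Subgroup G) → Q' ≠ ⊥ →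
      Nat.card (P' : Subgroup G) - Nat.card ↥((P' : Subgroup G) ⊓ Subgroup.normalizer (Q' : Set G)) = m →
      Subgroup.normalizer (Q' : Set G) ≤ Subgroup.normalizer (ZJ (P' : Subgroup G) : Set G)) :
    ∀ k : ℕ, ∀ (P' P'' : Sylow p G), ((P' : Subgroup G) ⊓ (P'' : Subgroup G)) ≠ ⊥ →
      Nat.card (P' : Subgroup G) - Nat.card ↥((P' : Subgroup G) ⊓ (P'' : Subgroup G)) ≤ d →
      Nat.card (P' : Subgroup G) - Nat.card ↥((P' : Subgroup G) ⊓ (P'' : Subgroup G)) = k →
      ZJ (P' : Subgroup G) = ZJ (P'' : Subgroup G) := by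
  intro k
  induction k using Nat.strong_induction_on with
  | _ k ihk =>
  intro P' P'' hIne hId hIk
  have hcard : Nat.card (P' : Subgroup G) = Nat.card (P'' : Subgroup G) := by
    rw [Sylow.card_eq_multiplicity, Sylow.card_eq_multiplicity]
  by_cases hI : (P' : Subgroup G) ⊓ (P'' : Subgroup G) = (P' : Subgroup G)
  · have hle : (P' : Subgroup G) ≤ (P'' : Subgroup G) := inf_eq_left.mp hI
    have heq : (P' : Subgroup G) = (P'' : Subgroup G) :=
      Subgroup.eq_of_le_of_card_ge hle (le_of_eq hcard.symm)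
    rw [heq]
  · have hlt' : (P' : Subgroup G) ⊓ (P'' : Subgroup G) < (P' : Subgroup G) :=
      lt_of_le_of_ne inf_le_left hI
    have hlt'' : (P' : Subgroup G) ⊓ (P'' : Subgroup G) < (P'' : Subgroup G) := by
      refine lt_of_le_of_ne inf_le_right ?_
      intro h
      have hle : (P'' : Subgroup G) ≤ (P' : Subgroup G) := inf_eq_right.mp h
      have heq : (P'' : Subgroup G) = (P' : Subgroup G) :=
        Subgroup.eq_of_le_of_card_ge hle (le_of_eq hcard)
      apply hI
      rw [heq, inf_idem]
    have hn'' := lt_inf_normalizer P''.isPGroup' hlt''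
    have hn' := lt_inf_normalizer P'.isPGroup' hlt'
    have hc'' := card_lt_of_lt' hn''
    have hc' := card_lt_of_lt' hn'
    have hb'' : Nat.card ↥((P'' : Subgroup G) ⊓ Subgroup.normalizer
        (((P' : Subgroup G) ⊓ (P'' : Subgroup G) : Subgroup G) : Set G)) ≤ Nat.card (P'' : Subgroup G) :=
      Subgroup.card_le_of_le inf_le_left
    have h1 := ih _ (by omega) P'' ((P' : Subgroup G) ⊓ (P'' : Subgroup G)) inf_le_right hIne rfl
    -- `T₁ = N_{P'}(I)` lies in `N_G(Z(J(P'')))`
    have hT₁M : (P' : Subgroup G) ⊓ Subgroup.normalizer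
        (((P' : Subgroup G) ⊓ (P'' : Subgroup G) : Subgroup G) : Set G) ≤
        Subgroup.normalizer (ZJ (P'' : Subgroup G) : Set G) := inf_le_right.trans h1
    have hP''M : (P'' : Subgroup G) ≤ Subgroup.normalizer (ZJ (P'' : Subgroup G) : Set G) :=
      le_normalizer_W goodAx_comm _
    obtain ⟨m, hmM, hT₁⟩ := exists_smul_le P'' _ _ hP''M (P'.isPGroup'.to_le inf_le_left) hT₁M
    have hZ := ZJ_smul_eq P'' hmM
    have hle2 : (P' : Subgroup G) ⊓ Subgroup.normalizer
        (((P' : Subgroup G) ⊓ (P'' : Subgroup G) : Subgroup G) : Set G) ≤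
        (P' : Subgroup G) ⊓ ((m • P'' : Sylow p G) : Subgroup G) := le_inf inf_le_left hT₁
    have hc2 := Subgroup.card_le_of_le hle2
    have hb2 : Nat.card ↥((P' : Subgroup G) ⊓ ((m • P'' : Sylow p G) : Subgroup G)) ≤
        Nat.card (P' : Subgroup G) := Subgroup.card_le_of_le inf_le_left
    have hne2 : (P' : Subgroup G) ⊓ ((m • P'' : Sylow p G) : Subgroup G) ≠ ⊥ := by
      intro h
      apply hIne
      rw [eq_bot_iff, ← h]
      exact (le_of_lt hn').trans hle2
    have h3 := ihk _ (by omega) P' (m • P'') hne2 (by omega) rfl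
    rw [h3, hZ]

/-- In a group of characteristic p type all of whose p-locals are p-stable (p odd), the normalizer of Z(J(P)) contains the normalizer of every nontrivial subgroup of the Sylow p-subgroup P. -/
theorem result {G : Type*} [Group G] [Finite G] {p : ℕ} [Fact p.Prime] (hp : p ≠ 2) (hloc : ∀ Q : Subgroup G, IsPGroup p Q → Q ≠ ⊥ → Cfsg.pPrimeCore p ↥(Subgroup.normalizer (Q : Set G)) = ⊥ ∧ Cfsg.IsPConstrained p ↥(Subgroup.normalizer (Q : Set G)) ∧ Cfsg.IsPStable p ↥(Subgroup.normalizer (Q : Set G))) (P : Sylow p G) (Q : Subgroup G) (hQP : Q ≤ (P : Subgroup G)) (hQ1 : Q ≠ ⊥) : Subgroup.normalizer (Q : Set G) ≤ Subgroup.normalizer (Cfsg.centerThompsonAOf ((P : Subgroup G)) : Set G) := by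
  rw [centerThompsonAOf_eq_W]
  have key : ∀ d : ℕ, ∀ (P' : Sylow p G) (Q' : Subgroup G), Q' ≤ (P' : Subgroup G) → Q' ≠ ⊥ →
      Nat.card (P' : Subgroup G) -
        Nat.card ↥((P' : Subgroup G) ⊓ Subgroup.normalizer (Q' : Set G)) = d →
      Subgroup.normalizer (Q' : Set G) ≤ Subgroup.normalizer (ZJ (P' : Subgroup G) : Set G) := by
    intro d
    induction d using Nat.strong_induction_on with
    | _ d ih =>
    intro P' Q' hQP' hQne hd
    have lemA := ZJ_eq_of_inf d ih
    obtain ⟨hK, hc, hs⟩ := hloc Q' (P'.isPGroup'.to_le hQP') hQne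
    -- a Sylow subgroup of the normalizer containing `N_{P'}(Q')`
    have hTp : IsPGroup p (((P' : Subgroup G) ⊓ Subgroup.normalizer (Q' : Set G)).subgroupOf
        (Subgroup.normalizer (Q' : Set G))) :=
      (P'.isPGroup'.to_le inf_le_left).comap_subtype
    obtain ⟨R, hR⟩ := hTp.exists_le_sylow
    have hTR : (P' : Subgroup G) ⊓ Subgroup.normalizer (Q' : Set G) ≤
        (R : Subgroup ↥(Subgroup.normalizer (Q' : Set G))).map
          (Subgroup.normalizer (Q' : Set G)).subtype := by
      intro t ht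
      exact ⟨⟨t, ht.2⟩, hR (Subgroup.mem_subgroupOf.mpr ht), rfl⟩
    have hN_le := le_normalizer_ZJ_of_local hp _ hK hc hs R
    have hRp : IsPGroup p ((R : Subgroup ↥(Subgroup.normalizer (Q' : Set G))).map
        (Subgroup.normalizer (Q' : Set G)).subtype) := R.isPGroup'.map _
    obtain ⟨P'', hP''⟩ := hRp.exists_le_sylow
    have hcard : Nat.card (P' : Subgroup G) = Nat.card (P'' : Subgroup G) := by
      rw [Sylow.card_eq_multiplicity, Sylow.card_eq_multiplicity]
    have hQT : Q' ≤ (P' : Subgroup G) ⊓ Subgroup.normalizer (Q' : Set G) :=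
      le_inf hQP' Subgroup.le_normalizer
    have hcT := Subgroup.card_le_of_le hTR
    have hbT : Nat.card ↥((P' : Subgroup G) ⊓ Subgroup.normalizer (Q' : Set G)) ≤
        Nat.card (P' : Subgroup G) := Subgroup.card_le_of_le inf_le_left
    have hNM : Subgroup.normalizer (Q' : Set G) ≤
        Subgroup.normalizer (ZJ (P'' : Subgroup G) : Set G) := by
      by_cases hRP : (R : Subgroup ↥(Subgroup.normalizer (Q' : Set G))).map
          (Subgroup.normalizer (Q' : Set G)).subtype = (P'' : Subgroup G)
      · rw [← hRP]; exact hN_le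
      · have hlt : (R : Subgroup ↥(Subgroup.normalizer (Q' : Set G))).map
            (Subgroup.normalizer (Q' : Set G)).subtype < (P'' : Subgroup G) :=
          lt_of_le_of_ne hP'' hRP
        have hRne : (R : Subgroup ↥(Subgroup.normalizer (Q' : Set G))).map
            (Subgroup.normalizer (Q' : Set G)).subtype ≠ ⊥ := by
          intro h
          apply hQne
          rw [eq_bot_iff, ← h]
          exact hQT.trans hTR
        have hQ₁ne := ZJ_ne_bot hRp hRne
        have hQ₁le : ZJ ((R : Subgroup ↥(Subgroup.normalizer (Q' : Set G))).map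
            (Subgroup.normalizer (Q' : Set G)).subtype) ≤ (P'' : Subgroup G) :=
          (W_le goodAx_comm _).trans hP''
        have hn := lt_inf_normalizer P''.isPGroup' hlt
        have hcn := card_lt_of_lt' hn
        have hle3 : (P'' : Subgroup G) ⊓ Subgroup.normalizer
            (((R : Subgroup ↥(Subgroup.normalizer (Q' : Set G))).map
              (Subgroup.normalizer (Q' : Set G)).subtype : Subgroup G) : Set G) ≤
            (P'' : Subgroup G) ⊓ Subgroup.normalizer
              ((ZJ ((R : Subgroup ↥(Subgroup.normalizer (Q' : Set G))).map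
                (Subgroup.normalizer (Q' : Set G)).subtype) : Subgroup G) : Set G) :=
          inf_le_inf_left _ (normalizer_le_normalizer_W goodAx_comm _)
        have hc3 := Subgroup.card_le_of_le hle3
        have hb3 : Nat.card ↥((P'' : Subgroup G) ⊓ Subgroup.normalizer
              ((ZJ ((R : Subgroup ↥(Subgroup.normalizer (Q' : Set G))).map
                (Subgroup.normalizer (Q' : Set G)).subtype) : Subgroup G) : Set G)) ≤
            Nat.card (P'' : Subgroup G) := Subgroup.card_le_of_le inf_le_left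
        have h4 := ih _ (by omega) P'' _ hQ₁le hQ₁ne rfl
        exact hN_le.trans h4
    have hIle : (P' : Subgroup G) ⊓ Subgroup.normalizer (Q' : Set G) ≤
        (P' : Subgroup G) ⊓ (P'' : Subgroup G) := le_inf inf_le_left (hTR.trans hP'')
    have hIne : (P' : Subgroup G) ⊓ (P'' : Subgroup G) ≠ ⊥ := by
      intro h
      apply hQne
      rw [eq_bot_iff, ← h]
      exact hQT.trans hIle
    have hcI := Subgroup.card_le_of_le hIle
    have hZ := lemA _ P' P'' hIne (by omega) rfl
    show _ ≤ Subgroup.normalizer ((ZJ (P' : Subgroup G) : Subgroup G) : Set G)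
    rw [hZ]
    exact hNM
  exact key _ P Q hQP hQ1 rfl

end Cfsg.Agent.S0658
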