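import Cfsg.Statements.S0132
import Mathlib
import Cfsg.Agent.S0071
import Cfsg.Agent.Lib.Helper2.Frobenius
import Cfsg.Agent.Lib.Helper2.PComplement
import Cfsg.Agent.Lib.Helper31.Cores
import Cfsg.Agent.Lib.Helper70.Fitting

set_option autoImplicit false
open Cfsg

namespace Cfsg.Agent.S0132

open scoped commutatorElement
open Cfsg.Agent.Helper2 Cfsg.Agent.Helper31 Cfsg.Agent.Helper70

/-- A finite nilpotent group has a normal `p`-complement. -/
theorem hasNormalPComplement_of_isNilpotent {G : Type*} [Group G] [Finite G] (p : ℕ)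
    [hp : Fact p.Prime] (h : Group.IsNilpotent G) : Cfsg.HasNormalPComplement p G := by
  set K : Subgroup G := cardCore (coprimeClass p) G with hK
  have hKn : K.Normal := cardCore_normal (coprimeClass p) G
  have hKc : (Nat.card K).Coprime p := cardCore_mem (coprimeClass_cardClass p) G
  have hsyl : ∀ (q : ℕ) (_hq : Fact q.Prime) (Q : Sylow q G), (Q : Subgroup G).Normal :=
    ((Group.isNilpotent_of_finite_tfae (G := G)).out 0 3).mp h
  have hidx : K.index = p ^ K.index.primeFactorsList.length := by
    apply Nat.eq_prime_pow_of_unique_prime_dvd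
    · exact Subgroup.index_ne_zero_of_finite
    · intro q hq hqd
      by_contra hne
      have : Fact q.Prime := ⟨hq⟩
      let Q : Sylow q G := default
      have hQn := hsyl q ⟨hq⟩ Q
      have hQc : (Nat.card (Q : Subgroup G)).Coprime p := by
        obtain ⟨m, hm⟩ := IsPGroup.iff_card.mp Q.isPGroup'
        rw [hm]
        exact Nat.Coprime.pow_left m ((Nat.coprime_primes hq hp.out).mpr hne)
      have hQK : (Q : Subgroup G) ≤ K := le_cardCore (𝒞 := coprimeClass p) _ hQn hQc
      have h1 : K.index ∣ (Q : Subgroup G).index := Subgroup.index_dvd_of_le hQK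
      exact Q.not_dvd_index (hqd.trans h1)
  exact hasNormalPComplement_of_card_coprime_of_index_pow K hKn hKc _ hidx

theorem result {G : Type*} [Group G] [Finite G] {p : ℕ} [Fact p.Prime] (h1 : ¬ Cfsg.HasNormalPComplement p G) (h2 : ∀ H : Subgroup G, H ≠ ⊤ → Cfsg.HasNormalPComplement p H) : (∀ H : Subgroup G, H ≠ ⊤ → Group.IsNilpotent H) ∧ ¬ Group.IsNilpotent G ∧ ∀ P : Sylow p G, (P : Subgroup G).Normal := by
  have hp : p.Prime := Fact.out
  -- Step 1: Frobenius' condition fails
  have hF : ¬ FrobCond p G := fun hF => h1 (frobenius p hF)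
  unfold FrobCond at hF
  push Not at hF
  obtain ⟨X, hX, g, hgN, hgo, hgC⟩ := hF
  -- Step 2: X ⊔ ⟨g⟩ = ⊤
  have hL : X ⊔ Subgroup.zpowers g = ⊤ := by
    by_contra hne
    set L := X ⊔ Subgroup.zpowers g with hLdef
    have hLc := h2 L hne
    have hgL : g ∈ L := (le_sup_right : Subgroup.zpowers g ≤ L) (Subgroup.mem_zpowers g)
    have hXL : IsPGroup p (X.subgroupOf L) := hX.comap_subtype
    obtain ⟨P', hP'⟩ := hXL.exists_le_sylow
    have hex := (hasNormalPComplement_iff P').mp hLc
    have key := (Cfsg.Agent.S0071.result P').mp hex (X.subgroupOf L) hP' ⟨g, hgL⟩ ?_ ?_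
    · apply hgC
      rw [Subgroup.mem_centralizer_iff]
      intro x hx
      rw [Subgroup.mem_centralizer_iff] at key
      have hxL : x ∈ L := (le_sup_left : X ≤ L) hx
      have := key ⟨x, hxL⟩ (Subgroup.mem_subgroupOf.mpr hx)
      exact congrArg Subtype.val this
    · rw [Subgroup.mem_normalizer_iff]
      intro y
      rw [Subgroup.mem_normalizer_iff] at hgN
      have := hgN (y : G)
      simpa [Subgroup.mem_subgroupOf] using this
    · have : orderOf (⟨g, hgL⟩ : ↥L) = orderOf g := by
        rw [← Subgroup.orderOf_coe]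
      rw [this]; exact hgo
  -- Step 3: X is normal, and it is the unique Sylow p-subgroup
  have hXn : X.Normal := by
    rw [← Subgroup.normalizer_eq_top_iff, eq_top_iff, ← hL, sup_le_iff]
    exact ⟨Subgroup.le_normalizer, (Subgroup.zpowers_le).mpr hgN⟩
  have hcard : Nat.card G ∣ Nat.card X * orderOf g := by
    have h := card_sup_dvd_of_le_normalizer (Subgroup.zpowers g) X ((Subgroup.zpowers_le).mpr hgN)
    rw [sup_comm, hL, Subgroup.card_top, Nat.card_zpowers, mul_comm] at h
    exact h
  have hSyl : ∀ P : Sylow p G, (P : Subgroup G) = X := by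
    intro P
    have hXP : X ≤ P := le_sylow_of_normal_isPGroup X hX P
    symm
    apply Subgroup.eq_of_le_of_card_ge hXP
    have h3 : Nat.card (P : Subgroup G) ∣ Nat.card X * orderOf g :=
      (Subgroup.card_subgroup_dvd_card _).trans hcard
    have h4 : (Nat.card (P : Subgroup G)).Coprime (orderOf g) := by
      obtain ⟨m, hm⟩ := IsPGroup.iff_card.mp P.isPGroup'
      rw [hm]
      exact Nat.Coprime.pow_left m hgo.symm
    exact Nat.le_of_dvd Nat.card_pos (h4.dvd_of_dvd_mul_right h3)
  have hP3 : ∀ P : Sylow p G, (P : Subgroup G).Normal := fun P => by rw [hSyl P]; exact hXn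
  -- G / X is commutative
  have hcomm : commutator G ≤ X :=
    Subgroup.Normal.commutator_le_of_self_sup_commutative_eq_top hL inferInstance
  refine ⟨?_, fun h => h1 (hasNormalPComplement_of_isNilpotent p h), hP3⟩
  intro H hne
  obtain ⟨PH, KH, hKHn, hKHc⟩ := h2 H hne
  -- the Sylow p-subgroup of H is X ∩ H
  have hPH : (PH : Subgroup H) = X.subgroupOf H := by
    symm
    apply PH.is_maximal' hX.comap_subtype
    intro y hy
    show (y : G) ∈ X
    have hPHp : IsPGroup p ((PH : Subgroup H).map H.subtype) := PH.isPGroup'.map _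
    obtain ⟨P, hPle⟩ := hPHp.exists_le_sylow
    rw [← hSyl P]
    exact hPle ⟨y, hy, rfl⟩
  have hPHn : (PH : Subgroup H).Normal := by rw [hPH]; exact hXn.subgroupOf H
  have hPHnil : Group.IsNilpotent (PH : Subgroup H) := PH.isPGroup'.isNilpotent
  -- the complement is commutative
  have hdisj : (PH : Subgroup H) ⊓ KH = ⊥ := by
    rw [inf_comm]; exact hKHc.disjoint.eq_bot
  have hKcomm : ∀ a b : ↥KH, a * b = b * a := by
    intro a b
    have h3 : (a : H) * b * (a : H)⁻¹ * (b : H)⁻¹ ∈ (PH : Subgroup H) ⊓ KH := by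
      refine ⟨?_, ?_⟩
      · rw [hPH]
        show ((((a : H) * b * (a : H)⁻¹ * (b : H)⁻¹ : H)) : G) ∈ X
        apply hcomm
        have : ((((a : H) * b * (a : H)⁻¹ * (b : H)⁻¹ : H)) : G) = ⁅((a : H) : G), ((b : H) : G)⁆ := by
          simp [commutatorElement_def]
        rw [this]
        exact Subgroup.commutator_mem_commutator (Subgroup.mem_top _) (Subgroup.mem_top _)
      · exact KH.mul_mem (KH.mul_mem (KH.mul_mem a.2 b.2) (KH.inv_mem a.2)) (KH.inv_mem b.2)
    rw [hdisj, Subgroup.mem_bot] at h3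
    apply Subtype.ext
    have : (a : H) * b = (a : H) * b * (a : H)⁻¹ * (b : H)⁻¹ * (b * a) := by group
    show (a : H) * b = b * a
    rw [this, h3, one_mul]
  have hKnil : Group.IsNilpotent ↥KH := by
    let _ : CommGroup ↥KH := { (inferInstance : Group ↥KH) with mul_comm := hKcomm }
    exact CommGroup.isNilpotent
  have hFtop : Cfsg.fittingSubgroup ↥H = ⊤ := by
    rw [eq_top_iff, ← hKHc.sup_eq_top]
    apply sup_le
    · exact le_sSup ⟨hKHn, hKnil⟩
    · exact le_sSup ⟨hPHn, hPHnil⟩
  have hFn := fittingSubgroup_isNilpotent ↥H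
  rw [hFtop] at hFn
  exact @Group.nilpotent_of_mulEquiv _ _ _ _ hFn Subgroup.topEquiv

end Cfsg.Agent.S0132
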