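import Cfsg.Statements.S1364
import Cfsg.Agent.S1366
import Cfsg.Agent.S1368
import Cfsg.Agent.S1431
import Cfsg.Agent.S1434
import Cfsg.Agent.S1437
import Cfsg.Agent.Lib.Helper19.BGZhat
import Cfsg.Agent.Lib.Helper45.CNMax
import Cfsg.Agent.Lib.Helper24.Omega1

set_option autoImplicit false
open Cfsg

namespace Cfsg.Agent.S1364

/-- Let G be a minimal simple group of odd order, M a maximal subgroup with standard factorisation M = K U M_σ and K ≠ 1, and put K* = M_σ ∩ C_G(K). Then K* is cyclic, nontrivial and contained in M_F, while M_F itself is not cyclic. -/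
theorem result {G : Type*} [Group G] [Finite G] (hG : Cfsg.IsMinSimpleOddOrder G)
    (M : Subgroup G) (hM : IsCoatom M) (K U : Subgroup G) (hKU : Cfsg.IsSigmaDecomposition M K U) (hK1 : K ≠ ⊥) :
    IsCyclic ↥(Cfsg.sigmaCore M ⊓ Subgroup.centralizer (K : Set G)) ∧ (Cfsg.sigmaCore M ⊓ Subgroup.centralizer (K : Set G)) ≠ ⊥ ∧ (Cfsg.sigmaCore M ⊓ Subgroup.centralizer (K : Set G)) ≤ Cfsg.fittingHallOf M ∧ ¬ IsCyclic (Cfsg.fittingHallOf M) := by
  classical
  obtain ⟨Mstar, ⟨hMstar, hKst, hKstH⟩, -⟩ := Cfsg.Agent.S1366.result hG M hM K U hKU hK1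
  obtain ⟨-, hZcyc⟩ := Cfsg.Agent.S1368.result hG M hM K U hKU hK1 Mstar hMstar hKst hKstH
  have h34 := (Cfsg.Agent.S1434.result hG M hM K U hKU hK1 Mstar hMstar hKst hKstH).2.2.2.2.2
  have h31 := (Cfsg.Agent.S1431.result hG M hM K hKU.hall hK1).2.2.1
  have hSM : Cfsg.sigmaCore M ≤ M := Cfsg.Agent.Helper55.BGB.sigmaCore_le M
  -- (1) cyclic
  have h1 : IsCyclic ↥(Cfsg.sigmaCore M ⊓ Subgroup.centralizer (K : Set G)) := by
    have := hZcyc
    exact Subgroup.isCyclic_of_le (le_sup_right (a := K))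
  -- (2) nontrivial
  have h2 : (Cfsg.sigmaCore M ⊓ Subgroup.centralizer (K : Set G)) ≠ ⊥ := by
    intro h
    have hempty : {a : G | ∃ g : G, ∃ z ∈ ((↑(K ⊔ (Cfsg.sigmaCore M ⊓ Subgroup.centralizer (K : Set G))) : Set G) \ ((K : Set G) ∪ ↑(Cfsg.sigmaCore M ⊓ Subgroup.centralizer (K : Set G)))), a = g * z * g⁻¹} = ∅ := by
      rw [Set.eq_empty_iff_forall_notMem]
      rintro a ⟨g, z, ⟨hz1, hz2⟩, -⟩
      apply hz2
      left
      rw [h, sup_bot_eq] at hz1
      exact hz1
    rw [hempty, Set.ncard_empty] at h34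
    omega
  -- (3) inside M_F
  have h3 : (Cfsg.sigmaCore M ⊓ Subgroup.centralizer (K : Set G)) ≤ Cfsg.fittingHallOf M := by
    by_cases hne : Cfsg.fittingHallOf M = Cfsg.sigmaCore M
    · rw [hne]; exact inf_le_left
    · obtain ⟨-, -, -, hq, hqF, -⟩ := Cfsg.Agent.S1437.result hG M hM K U hKU hne
      have : Fact (Nat.card ↥(Cfsg.sigmaCore M ⊓ Subgroup.centralizer (K : Set G))).Prime := ⟨hq⟩
      intro x hx
      have hxM : x ∈ M := hSM (Subgroup.mem_inf.mp hx).1
      have hord : orderOf x ∣ Nat.card ↥(Cfsg.sigmaCore M ⊓ Subgroup.centralizer (K : Set G)) :=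
        Subgroup.orderOf_dvd_natCard _ hx
      rcases (Nat.dvd_prime hq).mp hord with h | h
      · exact Cfsg.Agent.Helper45.CNMax.mem_fittingHallOf_of_dvd hqF hxM (k := 0) (by rw [h, pow_zero])
      · exact Cfsg.Agent.Helper45.CNMax.mem_fittingHallOf_of_dvd hqF hxM (k := 1) (by rw [h, pow_one])
  refine ⟨h1, h2, h3, ?_⟩
  -- (4) M_F is not cyclic
  intro hFcyc
  obtain ⟨r, hr, hrdvd⟩ := Nat.exists_prime_and_dvd (n := Nat.card ↥(Cfsg.sigmaCore M ⊓ Subgroup.centralizer (K : Set G)))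
    (by
      intro hc
      apply h2
      exact Subgroup.eq_bot_of_card_eq _ hc)
  have : Fact r.Prime := ⟨hr⟩
  have S : Sylow r ↥(Cfsg.sigmaCore M) := default
  obtain ⟨-, hSGM, hSGnot⟩ := h31 r hr hrdvd S
  apply hSGnot
  set SG : Subgroup G := (S : Subgroup ↥(Cfsg.sigmaCore M)).map (Cfsg.sigmaCore M).subtype with hSG
  have hSGσ : SG ≤ Cfsg.sigmaCore M := Subgroup.map_subtype_le _
  have hSGp : IsPGroup r SG := S.2.map _
  have hrF : r ∣ Nat.card (Cfsg.fittingHallOf M) :=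
    hrdvd.trans (Subgroup.card_dvd_of_le h3)
  have hSGF : SG ≤ Cfsg.fittingHallOf M := by
    intro x hx
    obtain ⟨k, hk⟩ := hSGp ⟨x, hx⟩
    have hxo : orderOf x ∣ r ^ k := by
      apply orderOf_dvd_of_pow_eq_one
      exact congrArg Subtype.val hk
    obtain ⟨j, -, hj⟩ := (Nat.dvd_prime_pow hr).mp hxo
    exact Cfsg.Agent.Helper45.CNMax.mem_fittingHallOf_of_dvd hrF (hSGM hx) hj
  have hMF := Cfsg.Agent.Helper55.BGB.le_normalizer_fittingHallOf M
  have hKnSG : K ≤ Subgroup.normalizer (SG : Set G) := by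
    intro k hk
    apply Cfsg.Agent.Helper55.BGB.mem_normalizer_of_map_conj_eq
    apply Cfsg.Agent.Helper55.BGB.map_conj_eq_of_le_cyclic hFcyc hSGF
    calc SG.map (MulAut.conj k).toMonoidHom ≤ (Cfsg.fittingHallOf M).map (MulAut.conj k).toMonoidHom :=
          Subgroup.map_mono hSGF
      _ = Cfsg.fittingHallOf M :=
          Cfsg.Agent.Helper19.BGZhat.map_conj_eq_of_mem_normalizer (hMF (hKU.hall.1 hk))
  have hcopK : (Nat.card K).Coprime r := by
    have h := Cfsg.Agent.Helper19.BGZhat.coprime_card_sigmaCore_K hKU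
    have hrσ : r ∣ Nat.card (Cfsg.sigmaCore M) :=
      hrdvd.trans (Subgroup.card_dvd_of_le inf_le_left)
    exact (Nat.Coprime.coprime_dvd_left hrσ h).symm
  have hr2 : r ≠ 2 := by
    rintro rfl
    have h2G : 2 ∣ Nat.card G := hrdvd.trans (Subgroup.card_subgroup_dvd_card _)
    have hodd : Odd (Nat.card G) := hG.1
    rcases hodd with ⟨t, ht⟩
    omega
  -- an element of order r in K*
  obtain ⟨y, hy⟩ := exists_prime_orderOf_dvd_card' (G := ↥(Cfsg.sigmaCore M ⊓ Subgroup.centralizer (K : Set G))) r hrdvd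
  have hyo : orderOf (y : G) = r := by rw [Subgroup.orderOf_coe]; exact hy
  have hfix : ∀ x ∈ SG, x ^ r = 1 → ∀ a ∈ K, a * x = x * a := by
    intro x hx hxr a ha
    have hxKs : x ∈ Cfsg.sigmaCore M ⊓ Subgroup.centralizer (K : Set G) := by
      by_cases hx1 : x = 1
      · rw [hx1]; exact one_mem _
      · have hxo : orderOf x = r := by
          have := orderOf_dvd_of_pow_eq_one hxr
          rcases (Nat.dvd_prime hr).mp this with h | h
          · exact absurd (orderOf_eq_one_iff.mp h) hx1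
          · exact h
        have := hFcyc
        have heq : Subgroup.zpowers x = Subgroup.zpowers (y : G) := by
          apply Cfsg.Agent.Helper76.EqOrd.eq_of_card_eq_of_le_isCyclic (Cfsg.fittingHallOf M)
          · rw [Subgroup.zpowers_le]; exact hSGF hx
          · rw [Subgroup.zpowers_le]; exact h3 y.2
          · rw [Nat.card_zpowers, Nat.card_zpowers, hxo, hyo]
        have hxy : x ∈ Subgroup.zpowers (y : G) := heq ▸ Subgroup.mem_zpowers x
        exact (Subgroup.zpowers_le.mpr y.2) hxy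
    exact (Subgroup.mem_centralizer_iff.mp (Subgroup.mem_inf.mp hxKs).2) a ha
  have hKc : K ≤ Subgroup.centralizer (SG : Set G) :=
    Cfsg.Agent.Helper24.le_centralizer_of_centralizes_omega_one r hr2 K hcopK (Nat.card SG) SG rfl
      hSGp hKnSG hfix
  exact le_inf hSGσ (Subgroup.le_centralizer_iff.mp hKc)

end Cfsg.Agent.S1364
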