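import Cfsg.Statements.S1435
-- import your own Cfsg.Agent.* helpers here
import Cfsg.Agent.S1350
import Cfsg.Agent.S1352
import Cfsg.Agent.S1353
import Cfsg.Agent.S1364
import Cfsg.Agent.S1365
import Cfsg.Agent.S1367
import Cfsg.Agent.S1368
import Cfsg.Agent.S1369
import Cfsg.Agent.S1375
import Cfsg.Agent.S1378
import Cfsg.Agent.S1403
import Cfsg.Agent.S1408
import Cfsg.Agent.S1416
import Cfsg.Agent.S1417
import Cfsg.Agent.S1418
import Cfsg.Agent.S1420
import Cfsg.Agent.S1429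
import Cfsg.Agent.S1430
import Cfsg.Agent.S1431
import Cfsg.Agent.S1432
import Cfsg.Agent.S1434
import Cfsg.Agent.S1437
import Cfsg.Agent.Lib.Helper73.BG161Base
import Cfsg.Agent.Lib.Helper73.BG161Main
import Cfsg.Agent.Lib.Helper22.BG161B8
import Cfsg.Agent.Lib.Helper22.BG161B9
import Cfsg.Agent.Lib.Helper57.BG161B11
import Cfsg.Agent.Lib.Helper98.BG161C0
import Cfsg.Agent.Lib.Helper47.BG161C1
import Cfsg.Agent.Lib.Helper60.BG161C2w
import Cfsg.Agent.Lib.Helper22.BG161C3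

set_option autoImplicit false
open Cfsg

namespace Cfsg.Agent.S1435

open Cfsg.Agent.Helper73.BG161 in
/-- the earlier rows used in the proof of B–G 16.1, from the proved statements -/
theorem facts {G : Type*} [Group G] [Finite G] (hG : Cfsg.IsMinSimpleOddOrder G) : Facts G where
  t1350 := Cfsg.Agent.S1350.result hG
  t1352 := Cfsg.Agent.S1352.result hG
  t1353 := Cfsg.Agent.S1353.result hG
  t1364 := Cfsg.Agent.S1364.result hG
  t1365 := Cfsg.Agent.S1365.result hG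
  t1367 := Cfsg.Agent.S1367.result hG
  t1368 := Cfsg.Agent.S1368.result hG
  t1369 := Cfsg.Agent.S1369.result hG
  t1375 := Cfsg.Agent.S1375.result hG
  t1378 := Cfsg.Agent.S1378.result hG
  t1408 := Cfsg.Agent.S1408.result hG
  t1416 := Cfsg.Agent.S1416.result hG
  t1417 := Cfsg.Agent.S1417.result hG
  t1418 := Cfsg.Agent.S1418.result hG
  t1420 := Cfsg.Agent.S1420.result hG
  t1429 := Cfsg.Agent.S1429.result hG
  t1430 := Cfsg.Agent.S1430.result hG
  t1431 := Cfsg.Agent.S1431.result hG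
  t1432 := Cfsg.Agent.S1432.result hG
  t1434 := Cfsg.Agent.S1434.result hG
  t1437 := Cfsg.Agent.S1437.result hG

/-- Let G be a minimal simple group of odd order, M a maximal subgroup with standard factorisation M = K U M_σ, K ≠ 1, U ≠ 1, K* = M_σ ∩ C_G(K), M* a maximal subgroup with K = M*_σ ∩ C_G(K*) and K* a Hall κ(M*)-subgroup of M*, r a prime dividing the order of U, R a Sylow r-subgroup of U, and H a maximal subgroup containing N_G(R). Then κ(H) is empty, U ≤ H_σ, M ∩ H = U ⊔ K, H ∩ N_G(U) ⊄ M, K ≤ F(H ∩ M*), and H ∩ M* is a complement to H_σ in H. -/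
theorem result {G : Type*} [Group G] [Finite G] (hG : Cfsg.IsMinSimpleOddOrder G)
    (M : Subgroup G) (hM : IsCoatom M) (K U : Subgroup G) (hKU : Cfsg.IsSigmaDecomposition M K U) (hK1 : K ≠ ⊥) (hU1 : U ≠ ⊥) (Mstar : Subgroup G) (hMstar : IsCoatom Mstar)
    (hKst : K = Cfsg.sigmaCore Mstar ⊓ Subgroup.centralizer ((Cfsg.sigmaCore M ⊓ Subgroup.centralizer (K : Set G)) : Set G))
    (hKstH : Cfsg.IsPiHallOf (Cfsg.kappa Mstar) (Cfsg.sigmaCore M ⊓ Subgroup.centralizer (K : Set G)) Mstar)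
    (r : ℕ) [Fact r.Prime] (hr : r ∣ Nat.card U) (R : Sylow r U) (H : Subgroup G) (hH : IsCoatom H)
    (hNR : Subgroup.normalizer (((R : Subgroup U).map U.subtype : Subgroup G) : Set G) ≤ H) :
    Cfsg.kappa H = ∅ ∧ U ≤ Cfsg.sigmaCore H ∧ M ⊓ H = U ⊔ K ∧ ¬ H ⊓ Subgroup.normalizer (U : Set G) ≤ M ∧
      K ≤ Cfsg.fittingOf (H ⊓ Mstar) ∧ Cfsg.IsComplIn (H ⊓ Mstar) (Cfsg.sigmaCore H) H := by
  have f : Cfsg.Agent.Helper73.BG161.Facts G := facts hG
  have hUq : Cfsg.Agent.Helper34.BG.UniqHyp G :=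
    fun K hK h1 h2 => Cfsg.Agent.S1403.result hG K hK h1 h2
  have pp : Cfsg.Agent.Helper73.BG161.PP M K U Mstar :=
    ⟨hG, hM, hKU, hK1, hU1, hMstar, hKst, hKstH⟩
  have b : Cfsg.Agent.Helper73.BG161.Base M K U Mstar H :=
    Cfsg.Agent.Helper73.BG161.base f hUq pp r hr R H hH hNR
  have hreg : ∀ Y : Subgroup G, Y ≤ K → (Nat.card Y).Prime →
      Cfsg.sigmaCore H ⊓ Subgroup.centralizer (Y : Set G) = ⊥ :=
    fun Y hYK hY =>
      Cfsg.Agent.Helper22.BG161.reg f pp H hH b.hHMs b.hkH Y hYK (hYK.trans b.hKH) hY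
  have hU : U ≤ Cfsg.sigmaCore H := Cfsg.Agent.Helper22.BG161.U_le_sigmaCore f b
  have hMH : M ⊓ H = U ⊔ K := Cfsg.Agent.Helper57.BG161.inf_eq_sup f b hU
  have hN : ¬ H ⊓ Subgroup.normalizer (U : Set G) ≤ M :=
    Cfsg.Agent.Helper57.BG161.not_normalizer_le f b hU hMH
  have hKF : K ≤ Cfsg.fittingOf (H ⊓ Mstar) := Cfsg.Agent.Helper47.BG161.K_le_fitting f b
  have hC0 : Cfsg.sigmaCore H ⊓ Mstar = ⊥ :=
    Cfsg.Agent.Helper98.BG161.sigmaCore_inf_Mstar f b hreg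
  have hc : Cfsg.IsComplIn (H ⊓ Mstar) (Cfsg.sigmaCore H) H :=
    Cfsg.Agent.Helper73.BG161.compl f b hC0
      (fun e heH he1 heσ hfix =>
        Cfsg.Agent.Helper60.BG161.compl_of_fixed f b hU e heH he1 heσ hfix)
      (fun E hE hKE hfpf => Cfsg.Agent.Helper22.BG161.le_Mstar_of_fpf f b E hE hKE hfpf)
  exact ⟨b.hkH, hU, hMH, hN, hKF, hc⟩

end Cfsg.Agent.S1435
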