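import Cfsg.Statements.S1363
import Cfsg.Agent.S1350
import Cfsg.Agent.S1366
import Cfsg.Agent.S1430
import Cfsg.Agent.S1435
import Cfsg.Agent.Lib.Helper55.BGDecomp

set_option autoImplicit false
open Cfsg

namespace Cfsg.Agent.S1363

/-- Let G be a minimal simple group of odd order and M a maximal subgroup with standard factorisation M = K U M_σ and K ≠ 1. Then U is abelian and the normalizer of U in G is not contained in M. -/
theorem result {G : Type*} [Group G] [Finite G] (hG : Cfsg.IsMinSimpleOddOrder G)
    (M : Subgroup G) (hM : IsCoatom M) (K U : Subgroup G) (hKU : Cfsg.IsSigmaDecomposition M K U) (hK1 : K ≠ ⊥) :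
    IsMulCommutative U ∧ ¬ Subgroup.normalizer (U : Set G) ≤ M := by
  haveI : IsSimpleGroup G := hG.2.1
  have hsol : Group.IsSolvable M := hG.2.2.2 M hM.1
  obtain ⟨hHallσ, -, -⟩ := Cfsg.Agent.S1350.result hG M hM
  obtain ⟨-, ⟨U', hU'c, hU'H, -, -⟩, -⟩ := Cfsg.Agent.S1430.result hG M hM K hKU.hall hK1
  obtain ⟨l, hlM, hl⟩ := Cfsg.Agent.Helper55.BGB.exists_conj_of_hall hsol hKU hHallσ hU'H
  constructor
  · -- U is a conjugate of the abelian group U'
    refine ⟨⟨?_⟩⟩
    intro a b
    have ha : (a : G) ∈ U'.map (MulAut.conj l).toMonoidHom := hl ▸ a.2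
    have hb : (b : G) ∈ U'.map (MulAut.conj l).toMonoidHom := hl ▸ b.2
    obtain ⟨a', ha', haa⟩ := ha
    obtain ⟨b', hb', hbb⟩ := hb
    have hc := hU'c.is_comm.comm ⟨a', ha'⟩ ⟨b', hb'⟩
    have hc' : a' * b' = b' * a' := congrArg Subtype.val hc
    apply Subtype.ext
    show (a : G) * (b : G) = (b : G) * (a : G)
    rw [← haa, ← hbb, ← map_mul, ← map_mul, hc']
  · by_cases hU1 : U = ⊥
    · intro h
      have htop : Subgroup.normalizer ((U : Subgroup G) : Set G) = ⊤ := by
        rw [hU1]
        exact Subgroup.normalizer_eq_top_iff.mpr inferInstance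
      rw [htop] at h
      exact hM.1 (top_le_iff.mp h)
    · obtain ⟨Mstar, ⟨hMstar, hKst, hKstH⟩, -⟩ := Cfsg.Agent.S1366.result hG M hM K U hKU hK1
      have hcard : Nat.card U ≠ 1 := fun h => hU1 (Subgroup.card_eq_one.mp h)
      obtain ⟨r, hr, hrU⟩ := Nat.exists_prime_and_dvd hcard
      haveI := Fact.mk hr
      obtain ⟨R⟩ : Nonempty (Sylow r U) := inferInstance
      have hRne : (R : Subgroup U) ≠ ⊥ := by
        intro h
        have h1 : Nat.card (R : Subgroup U) = 1 := by rw [h]; exact Subgroup.card_bot
        have h2 := R.card_eq_multiplicity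
        rw [h1] at h2
        have hpos : 0 < (Nat.card U).factorization r :=
          Nat.Prime.factorization_pos_of_dvd hr Nat.card_pos.ne' hrU
        have : r ^ (Nat.card U).factorization r ≠ 1 := by
          intro h3
          have := Nat.pow_eq_one.mp h3
          rcases this with h4 | h4
          · exact hr.one_lt.ne' h4
          · omega
        exact this h2.symm
      have hR'ne : (R : Subgroup U).map U.subtype ≠ ⊥ := by
        intro h
        exact hRne ((Subgroup.map_eq_bot_iff_of_injective _ U.subtype_injective).mp h)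
      have hR'top : (R : Subgroup U).map U.subtype ≠ ⊤ := by
        intro h
        have h1 : (R : Subgroup U).map U.subtype ≤ M := (Subgroup.map_subtype_le _).trans hKU.compl.1
        rw [h] at h1
        exact hM.1 (top_le_iff.mp h1)
      have hN : Subgroup.normalizer ((((R : Subgroup U).map U.subtype : Subgroup G)) : Set G) ≠ ⊤ :=
        Cfsg.Agent.Helper54.normalizer_ne_top_of_isSimpleGroup _ hR'ne hR'top
      rcases eq_top_or_exists_le_coatom
        (Subgroup.normalizer ((((R : Subgroup U).map U.subtype : Subgroup G)) : Set G)) with h | ⟨H, hH, hNH⟩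
      · exact absurd h hN
      · obtain ⟨-, -, -, hnot, -, -⟩ := Cfsg.Agent.S1435.result hG M hM K U hKU hK1 hU1 Mstar hMstar
          hKst hKstH r hrU R H hH hNH
        intro h
        exact hnot (inf_le_right.trans h)

end Cfsg.Agent.S1363
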