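import Cfsg.Statements.S1370
import Cfsg.Agent.S1364
import Cfsg.Agent.S1366
import Cfsg.Agent.S1367
import Cfsg.Agent.S1368
import Cfsg.Agent.Lib.Helper55.BGCyclic

set_option autoImplicit false
open Cfsg

namespace Cfsg.Agent.S1370

open Subgroup Cfsg.Agent.Helper55.BGB

/-- The core step: if `z` and `g z g⁻¹` both lie in `Ẑ`, then `g ∈ Z`. -/
theorem mem_of_conj_mem {G : Type*} [Group G] [Finite G] (hG : Cfsg.IsMinSimpleOddOrder G)
    (M : Subgroup G) (hM : IsCoatom M) (K U : Subgroup G) (hKU : Cfsg.IsSigmaDecomposition M K U)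
    (hK1 : K ≠ ⊥) (g z : G)
    (hz : z ∈ (↑(K ⊔ (Cfsg.sigmaCore M ⊓ Subgroup.centralizer (K : Set G))) : Set G) \
      ((K : Set G) ∪ ↑(Cfsg.sigmaCore M ⊓ Subgroup.centralizer (K : Set G))))
    (hgz : g * z * g⁻¹ ∈ (↑(K ⊔ (Cfsg.sigmaCore M ⊓ Subgroup.centralizer (K : Set G))) : Set G) \
      ((K : Set G) ∪ ↑(Cfsg.sigmaCore M ⊓ Subgroup.centralizer (K : Set G)))) :
    g ∈ K ⊔ (Cfsg.sigmaCore M ⊓ Subgroup.centralizer (K : Set G)) := by
  haveI : IsSimpleGroup G := hG.2.1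
  set Ks := Cfsg.sigmaCore M ⊓ Subgroup.centralizer (K : Set G) with hKs
  obtain ⟨Mstar, ⟨hMstar, hKst, hKstH⟩, -⟩ := Cfsg.Agent.S1366.result hG M hM K U hKU hK1
  obtain ⟨h67a, h67b⟩ := Cfsg.Agent.S1367.result hG M hM K U hKU hK1 Mstar hMstar hKst hKstH
  obtain ⟨h68a, h68b⟩ := Cfsg.Agent.S1368.result hG M hM K U hKU hK1 Mstar hMstar hKst hKstH
  have hzZ : z ∈ K ⊔ Ks := hz.1
  have hzK : z ∉ K := fun h => hz.2 (Or.inl h)
  have hzKs : z ∉ Ks := fun h => hz.2 (Or.inr h)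
  have hgzZ : g * z * g⁻¹ ∈ K ⊔ Ks := hgz.1
  have hZM : K ⊔ Ks ≤ M := by rw [← h68a]; exact inf_le_left
  have hZMs : K ⊔ Ks ≤ Mstar := by rw [← h68a]; exact inf_le_right
  have hMtop : M ≠ ⊤ := hM.1
  have hMstop : Mstar ≠ ⊤ := hMstar.1
  -- a prime-order subgroup X ≤ Ks inside ⟨z⟩
  obtain ⟨X, hXKs, hXz, hXp⟩ := exists_prime_sub h68b hzZ hzK
  -- a prime-order subgroup Y ≤ K inside ⟨z⟩
  have hcyc' : IsCyclic ↥(Ks ⊔ K) := by rw [sup_comm]; exact h68b
  have hzZ' : z ∈ Ks ⊔ K := by rw [sup_comm]; exact hzZ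
  obtain ⟨Y, hYK, hYz, hYp⟩ := exists_prime_sub hcyc' hzZ' hzKs
  have hgzle : zpowers (g * z * g⁻¹) ≤ K ⊔ Ks := by rw [zpowers_le]; exact hgzZ
  -- g normalizes X and Y
  have hXn : g ∈ normalizer (X : Set G) := by
    apply mem_normalizer_of_map_conj_eq
    exact map_conj_eq_of_le_cyclic h68b (hXKs.trans le_sup_right) g
      ((map_conj_le_zpowers hXz g).trans hgzle)
  have hYn : g ∈ normalizer (Y : Set G) := by
    apply mem_normalizer_of_map_conj_eq
    exact map_conj_eq_of_le_cyclic h68b (hYK.trans le_sup_left) g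
      ((map_conj_le_zpowers hYz g).trans hgzle)
  have hXbot : X ≠ ⊥ := by
    intro h; rw [h, Subgroup.card_bot] at hXp; exact Nat.not_prime_one hXp
  have hYbot : Y ≠ ⊥ := by
    intro h; rw [h, Subgroup.card_bot] at hYp; exact Nat.not_prime_one hYp
  have hXtop : X ≠ ⊤ := by
    intro h
    exact hMtop (top_le_iff.mp (h ▸ (hXKs.trans (le_sup_right.trans hZM))))
  have hYtop : Y ≠ ⊤ := by
    intro h
    exact hMtop (top_le_iff.mp (h ▸ (hYK.trans (le_sup_left.trans hZM))))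
  have hNX : normalizer (X : Set G) ≤ M :=
    normalizer_le_of_unique hXbot hXtop (h67a X hXKs hXp).2
  have hNY : normalizer (Y : Set G) ≤ Mstar :=
    normalizer_le_of_unique hYbot hYtop (h67b Y hYK hYp).2
  rw [← h68a]
  exact ⟨hNX hXn, hNY hYn⟩

/-- Let G be a minimal simple group of odd order, M a maximal subgroup with standard factorisation M = K U M_σ, K ≠ 1, K* = M_σ ∩ C_G(K) and Z the subgroup generated by K and K*. Then the set of elements of Z lying in neither K nor K* is a TI-subset of G, and its set-normalizer in G is exactly Z. -/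
theorem result {G : Type*} [Group G] [Finite G] (hG : Cfsg.IsMinSimpleOddOrder G)
    (M : Subgroup G) (hM : IsCoatom M) (K U : Subgroup G) (hKU : Cfsg.IsSigmaDecomposition M K U) (hK1 : K ≠ ⊥) :
    Cfsg.IsTISubset ((↑(K ⊔ (Cfsg.sigmaCore M ⊓ Subgroup.centralizer (K : Set G))) : Set G) \ ((K : Set G) ∪ ↑(Cfsg.sigmaCore M ⊓ Subgroup.centralizer (K : Set G)))) ∧ Subgroup.normalizer ((↑(K ⊔ (Cfsg.sigmaCore M ⊓ Subgroup.centralizer (K : Set G))) : Set G) \ ((K : Set G) ∪ ↑(Cfsg.sigmaCore M ⊓ Subgroup.centralizer (K : Set G)))) = K ⊔ (Cfsg.sigmaCore M ⊓ Subgroup.centralizer (K : Set G)) := by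
  have : IsSimpleGroup G := hG.2.1
  set Ks := Cfsg.sigmaCore M ⊓ Subgroup.centralizer (K : Set G) with hKs
  obtain ⟨Mstar, ⟨hMstar, hKst, hKstH⟩, -⟩ := Cfsg.Agent.S1366.result hG M hM K U hKU hK1
  obtain ⟨h68a, h68b⟩ := Cfsg.Agent.S1368.result hG M hM K U hKU hK1 Mstar hMstar hKst hKstH
  obtain ⟨-, hKs1, -, -⟩ := Cfsg.Agent.S1364.result hG M hM K U hKU hK1
  have hkey := mem_of_conj_mem hG M hM K U hKU hK1
  -- Z normalizes Ẑ
  have hZN : K ⊔ Ks ≤ Subgroup.normalizer ((↑(K ⊔ Ks) : Set G) \ ((K : Set G) ∪ ↑Ks)) := by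
    intro c hc
    rw [mem_set_normalizer_iff]
    intro h
    constructor
    · intro hh
      have : c * h * c⁻¹ = h := by
        have hcomm := commute_of_isCyclic h68b hc hh.1
        rw [hcomm]; group
      rw [this]; exact hh
    · intro hh
      have hhZ : h ∈ K ⊔ Ks := by
        have h1 : c⁻¹ * (c * h * c⁻¹) * c ∈ K ⊔ Ks :=
          mul_mem (mul_mem (inv_mem hc) hh.1) hc
        have h2 : c⁻¹ * (c * h * c⁻¹) * c = h := by group
        rwa [h2] at h1
      have : c * h * c⁻¹ = h := by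
        have hcomm := commute_of_isCyclic h68b hc hhZ
        rw [hcomm]; group
      rw [this] at hh; exact hh
  constructor
  · intro g hg z hz hgz
    exact absurd (hZN (hkey g z hz hgz)) hg
  · apply le_antisymm
    · intro g hg
      -- Ẑ is nonempty
      obtain ⟨k, hk1⟩ := (Subgroup.ne_bot_iff_exists_ne_one).mp hK1
      obtain ⟨s, hs1⟩ := (Subgroup.ne_bot_iff_exists_ne_one).mp hKs1
      have hdisj : K ⊓ Ks = ⊥ := by
        refine inf_eq_bot_of_kappa_sigma (M := M) hKU.hall.2.1 ?_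
        intro p hp hpd
        exact isPi_sigmaCore M p hp (hpd.trans (Subgroup.card_dvd_of_le inf_le_left))
      have hk1' : (k : G) ≠ 1 := fun h => hk1 (Subtype.ext h)
      have hs1' : (s : G) ≠ 1 := fun h => hs1 (Subtype.ext h)
      have hzZ : (k : G) * (s : G) ∈ K ⊔ Ks :=
        mul_mem (le_sup_left (a := K) (b := Ks) k.2) (le_sup_right (a := K) (b := Ks) s.2)
      have hzK : (k : G) * (s : G) ∉ K := by
        intro h
        have : (s : G) ∈ K := by
          have := mul_mem (inv_mem k.2) h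
          rwa [inv_mul_cancel_left] at this
        have hmem : (s : G) ∈ K ⊓ Ks := ⟨this, s.2⟩
        rw [hdisj] at hmem
        exact hs1' ((Subgroup.mem_bot).mp hmem)
      have hzKs : (k : G) * (s : G) ∉ Ks := by
        intro h
        have : (k : G) ∈ Ks := by
          have := mul_mem h (inv_mem s.2)
          rwa [mul_inv_cancel_right] at this
        have hmem : (k : G) ∈ K ⊓ Ks := ⟨k.2, this⟩
        rw [hdisj] at hmem
        exact hk1' ((Subgroup.mem_bot).mp hmem)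
      have hz : (k : G) * (s : G) ∈ (↑(K ⊔ Ks) : Set G) \ ((K : Set G) ∪ ↑Ks) :=
        ⟨hzZ, fun h => h.elim hzK hzKs⟩
      have hgz := (mem_set_normalizer_iff.mp hg ((k : G) * (s : G))).mp hz
      exact hkey g _ hz hgz
    · exact hZN

end Cfsg.Agent.S1370
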