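import Cfsg.Statements.S4500
import Cfsg.Agent.Lib.Helper74.PrimeDeg
import Cfsg.Agent.Lib.Helper74.LinChar
import Cfsg.Agent.S0144

set_option autoImplicit false
open Cfsg

namespace Cfsg.Agent.S4500

/-- A nonprincipal linear character of a nontrivial solvable group. -/
theorem exists_linear {G : Type*} [Group G] [Finite G] [Nontrivial G] [Group.IsSolvable G] :
    ∃ χ : Cfsg.IrrCharacter G, (χ : G → ℂ) ≠ (fun _ => 1) ∧
      Cfsg.charDegree (χ : G → ℂ) = 1 := by
  classical
  have hlt : commutator G < ⊤ := IsSolvable.commutator_lt_top_of_nontrivial G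
  have hidx : 1 < (commutator G).index := by
    have h1 : (commutator G).index ≠ 1 := fun h => hlt.ne (Subgroup.index_eq_one.1 h)
    have h0 : (commutator G).index ≠ 0 := Subgroup.index_ne_zero_of_finite
    omega
  rw [← Cfsg.Agent.Helper74.Lin.card_hom] at hidx
  haveI : Nontrivial (G →* ℂˣ) := (Finite.one_lt_card_iff_nontrivial).1 hidx
  obtain ⟨φ, hφ⟩ := exists_ne (1 : G →* ℂˣ)
  refine ⟨Cfsg.Agent.Helper74.Lin.ofHom φ, ?_, ?_⟩
  · intro h
    apply hφ
    ext g
    have := congrFun h g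
    simpa using this
  · have h1 := (Cfsg.Agent.Helper79.irr_one_eq (Cfsg.Agent.Helper74.Lin.ofHom φ)).1
    rw [Cfsg.Agent.Helper74.Lin.ofHom_one_eq] at h1
    exact_mod_cast h1.symm

/-- The key step: a nonprincipal character of `t`-power degree. -/
theorem key {G : Type*} [Group G] [Finite G] [Nontrivial G] (p s t a β γ : ℕ) (hp : p.Prime)
    (hs : s.Prime) (ht : t.Prime) (hps : p ≠ s) (hpt : p ≠ t) (ha : a ≤ 2)
    (hG : Nat.card G = p ^ a * s ^ β * t ^ γ) :
    ∃ χ : Cfsg.IrrCharacter G, (χ : G → ℂ) ≠ (fun _ => 1) ∧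
      ∃ k : ℕ, Cfsg.charDegree (χ : G → ℂ) = t ^ k := by
  classical
  have hfin : Fintype G := Fintype.ofFinite G
  by_cases hpG : p ∣ Nat.card G
  · haveI : Fact p.Prime := ⟨hp⟩
    haveI : Fact s.Prime := ⟨hs⟩
    have hfac : (Nat.card G).factorization p = a := by
      have hps' : ¬ p ∣ s ^ β := fun h => hps ((Nat.prime_dvd_prime_iff_eq hp hs).1
        (hp.dvd_of_dvd_pow h))
      have hpt' : ¬ p ∣ t ^ γ := fun h => hpt ((Nat.prime_dvd_prime_iff_eq hp ht).1
        (hp.dvd_of_dvd_pow h))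
      rw [hG, Nat.factorization_mul (mul_ne_zero (pow_ne_zero _ hp.ne_zero)
        (pow_ne_zero _ hs.ne_zero)) (pow_ne_zero _ ht.ne_zero),
        Nat.factorization_mul (pow_ne_zero _ hp.ne_zero) (pow_ne_zero _ hs.ne_zero)]
      simp only [Finsupp.coe_add, Pi.add_apply]
      rw [Nat.factorization_eq_zero_of_not_dvd hps', Nat.factorization_eq_zero_of_not_dvd hpt',
        hp.factorization_pow, Finsupp.single_eq_same, add_zero, add_zero]
    obtain ⟨χ, hχ1, hχp, hχs⟩ := Cfsg.Agent.Helper74.PrimeDeg.exists_nonprincipal_coprime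
      (G := G) p s hps hpG (by rw [hfac]; exact ha)
    refine ⟨χ, hχ1, ?_⟩
    have hdvd := Cfsg.Agent.Helper79.irr_degree_dvd_card χ
    rw [hG] at hdvd
    have hc1 : Nat.Coprime (Cfsg.charDegree (χ : G → ℂ)) (p ^ a) :=
      Nat.Coprime.pow_right _ ((Nat.Prime.coprime_iff_not_dvd hp).2 hχp).symm
    have hc2 : Nat.Coprime (Cfsg.charDegree (χ : G → ℂ)) (s ^ β) :=
      Nat.Coprime.pow_right _ ((Nat.Prime.coprime_iff_not_dvd hs).2 hχs).symm
    have hd2 : Cfsg.charDegree (χ : G → ℂ) ∣ t ^ γ := by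
      rw [mul_assoc] at hdvd
      have := hc1.dvd_of_dvd_mul_left hdvd
      exact hc2.dvd_of_dvd_mul_left this
    obtain ⟨k, _, hk⟩ := (Nat.dvd_prime_pow ht).1 hd2
    exact ⟨k, hk⟩
  · haveI : Group.IsSolvable G := by
      apply Cfsg.Agent.S0144.aux s t hs ht (Nat.card G) G rfl
      intro r' hr' hdvd
      rw [hG] at hdvd
      rcases (Nat.Prime.dvd_mul hr').1 hdvd with h | h
      · rcases (Nat.Prime.dvd_mul hr').1 h with h | h
        · exfalso
          have h1 := (Nat.prime_dvd_prime_iff_eq hr' hp).1 (hr'.dvd_of_dvd_pow h)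
          subst h1
          apply hpG
          rw [hG]
          exact Dvd.dvd.mul_right (Dvd.dvd.mul_right h _) _
        · left
          exact (Nat.prime_dvd_prime_iff_eq hr' hs).1 (hr'.dvd_of_dvd_pow h)
      · right
        exact (Nat.prime_dvd_prime_iff_eq hr' ht).1 (hr'.dvd_of_dvd_pow h)
    obtain ⟨χ, hχ1, hχd⟩ := exists_linear (G := G)
    exact ⟨χ, hχ1, 0, by rw [hχd, pow_zero]⟩

/-- Let G be a non-trivial finite group of order p^a · q^b · r^c with p, q, r distinct primes and a ≤ 2. Then G has a non-principal irreducible character whose degree is a power of q, and a non-principal irreducible character whose degree is a power of r; the power may be the zeroth, so a non-principal linear character serves for both. -/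
theorem result {G : Type*} [Group G] [Finite G] [Nontrivial G] (p q r a b c : ℕ) (hp : p.Prime) (hq : q.Prime) (hr : r.Prime) (hpq : p ≠ q) (hpr : p ≠ r) (hqr : q ≠ r) (ha : a ≤ 2) (hG : Nat.card G = p ^ a * q ^ b * r ^ c) : (∃ χ : Cfsg.IrrCharacter G, (χ : G → ℂ) ≠ (fun _ => 1) ∧ ∃ k : ℕ, Cfsg.charDegree (χ : G → ℂ) = q ^ k) ∧ ∃ χ : Cfsg.IrrCharacter G, (χ : G → ℂ) ≠ (fun _ => 1) ∧ ∃ k : ℕ, Cfsg.charDegree (χ : G → ℂ) = r ^ k := by
  refine ⟨?_, ?_⟩
  · exact key p r q a c b hp hr hq hpr hpq ha (by rw [hG]; ring)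
  · exact key p q r a b c hp hq hr hpq hpr ha hG

end Cfsg.Agent.S4500
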