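import Cfsg.Statements.S1486
import Mathlib
import Cfsg.Agent.Lib.Helper81.CharClifford

set_option autoImplicit false
open Cfsg

namespace Cfsg.Agent.S1486

open Cfsg.Agent.Helper81

universe u

theorem extendByZero_conj {G : Type u} [Group G] (H : Subgroup G) (hN : H.Normal) (θ : H → ℂ)
    (g z : G) :
    extendByZero H (Helper81.conjFun H hN θ g) z = extendByZero H θ (g * z * g⁻¹) := by
  by_cases hz : z ∈ H
  · rw [extendByZero_apply_mem H _ hz, extendByZero_apply_mem H θ (hN.conj_mem z hz g)]
    rfl
  · have hz' : g * z * g⁻¹ ∉ H := by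
      intro h
      apply hz
      have := hN.conj_mem _ h g⁻¹
      have e : g⁻¹ * (g * z * g⁻¹) * g⁻¹⁻¹ = z := by group
      rwa [e] at this
    rw [extendByZero_apply_not_mem H _ hz, extendByZero_apply_not_mem H θ hz']

theorem indFun_conjFun {G : Type u} [Group G] [Fintype G] (H : Subgroup G) (hN : H.Normal)
    (θ : H → ℂ) (g : G) : indFun H (Helper81.conjFun H hN θ g) = indFun H θ := by
  funext y
  rw [indFun_apply, indFun_apply]
  congr 1
  simp only [extendByZero_conj]
  rw [← Equiv.sum_comp (Equiv.mulRight g⁻¹) (fun x => extendByZero H θ (x⁻¹ * y * x))]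
  apply Finset.sum_congr rfl
  intro x _
  congr 1
  simp only [Equiv.coe_mulRight]
  group

/-- Let H be a normal subgroup of the finite group G and θ, φ irreducible characters of H. If φ is a G-conjugate of θ then the functions induced from θ and φ coincide; if φ is not a G-conjugate of θ then the induced functions are orthogonal. -/
theorem result {G : Type*} [Group G] [Fintype G] (H : Subgroup G) [hN : H.Normal] (θ φ : H → ℂ) (hθ : Cfsg.IsIrrCharacter H θ) (hφ : Cfsg.IsIrrCharacter H φ) : ((∃ g : G, φ = fun h : H => θ ⟨g * h * g⁻¹, hN.conj_mem h h.2 g⟩) → Cfsg.indFun H φ = Cfsg.indFun H θ) ∧ ((¬ ∃ g : G, φ = fun h : H => θ ⟨g * h * g⁻¹, hN.conj_mem h h.2 g⟩) → Cfsg.classInner (Cfsg.indFun H φ) (Cfsg.indFun H θ) = 0) := by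
  classical
  have : Fintype H := Fintype.ofFinite H
  constructor
  · rintro ⟨g, rfl⟩
    exact indFun_conjFun H hN θ g
  · intro hnc
    rw [frobenius_reciprocity H φ (indFun_isClassFunction H θ), indFun_restrict_normal H hN θ,
      classInner_smul_right, classInner_sum_right]
    rw [Finset.sum_eq_zero, mul_zero]
    intro x _
    rw [irr_orthonormal hφ (conjFun_isIrrCharacter H hN hθ x), if_neg]
    intro h
    exact hnc ⟨x, h⟩

end Cfsg.Agent.S1486
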