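import Cfsg.Statements.S1487
import Mathlib
import Cfsg.Agent.Lib.Helper81.CharClifford
import Cfsg.Agent.Lib.Helper79.CharBasic

set_option autoImplicit false
open Cfsg

namespace Cfsg.Agent.S1487

theorem eq_of_re_eq_of_norm_le (z : ℂ) (n : ℝ) (h1 : z.re = n) (h2 : ‖z‖ ≤ n) : z = (n : ℂ) := by
  have hn : 0 ≤ n := le_trans (norm_nonneg z) h2
  have h3 : ‖z‖ ^ 2 ≤ n ^ 2 := by
    apply pow_le_pow_left₀ (norm_nonneg z) h2
  have h4 : ‖z‖ ^ 2 = z.re ^ 2 + z.im ^ 2 := by
    rw [← Complex.normSq_eq_norm_sq, Complex.normSq_apply]; ring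
  have h5 : z.im ^ 2 ≤ 0 := by
    rw [h4, h1] at h3; linarith
  have h6 : z.im = 0 := by
    have := sq_nonneg z.im
    have h7 : z.im ^ 2 = 0 := le_antisymm h5 this
    exact pow_eq_zero_iff (by norm_num) |>.mp h7
  apply Complex.ext
  · simpa using h1
  · simpa using h6

/-- Let A ≤ H be normal subgroups of the finite group G and θ an irreducible character of H. Then θ takes the value θ 1 on all of A if and only if the function induced from θ to G takes its value at 1 on all of A. -/
theorem result {G : Type*} [Group G] [Fintype G] (A H : Subgroup G) [A.Normal] [H.Normal] (hAH : A ≤ H) (θ : H → ℂ) (hθ : Cfsg.IsIrrCharacter H θ) : (∀ a : H, (a : G) ∈ A → θ a = θ 1) ↔ (∀ a : G, a ∈ A → Cfsg.indFun H θ a = Cfsg.indFun H θ 1) := by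
  classical
  have hN : H.Normal := inferInstance
  have hAn : A.Normal := inferInstance
  have hcardH : (Nat.card H : ℂ) ≠ 0 := by exact_mod_cast (Nat.card_pos (α := H)).ne'
  have hone : ∀ x : G, Cfsg.Agent.Helper81.conjFun H hN θ x 1 = θ 1 := by
    intro x
    rw [Cfsg.Agent.Helper81.conjFun_apply]
    congr 1
    apply Subtype.ext
    simp
  constructor
  · intro h a ha
    have e1 := Cfsg.Agent.Helper81.indFun_apply_normal H hN θ ⟨a, hAH ha⟩
    have e2 := Cfsg.Agent.Helper81.indFun_apply_normal H hN θ 1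
    simp only [Subgroup.coe_one] at e1 e2
    rw [e1, e2]
    congr 1
    apply Finset.sum_congr rfl
    intro x _
    rw [hone x, Cfsg.Agent.Helper81.conjFun_apply]
    apply h
    exact hAn.conj_mem a ha x
  · intro h a ha
    obtain ⟨n, ρ, hρ, rfl⟩ := hθ
    have hdeg : ρ.character 1 = (n : ℂ) := by
      rw [Representation.char_one]; simp
    have hbound : ∀ y : H, ‖ρ.character y‖ ≤ (n : ℝ) := by
      intro y
      have := Cfsg.Agent.Helper79.norm_char_le ρ y
      simpa using this
    have e0 := h (a : G) ha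
    have e1 := Cfsg.Agent.Helper81.indFun_apply_normal H hN ρ.character a
    have e2 := Cfsg.Agent.Helper81.indFun_apply_normal H hN ρ.character 1
    simp only [Subgroup.coe_one] at e2
    rw [e1, e2] at e0
    have e3 : ∑ x : G, Cfsg.Agent.Helper81.conjFun H hN ρ.character x a
        = ∑ x : G, Cfsg.Agent.Helper81.conjFun H hN ρ.character x 1 :=
      mul_left_cancel₀ (inv_ne_zero hcardH) e0
    simp only [hone, hdeg] at e3
    have e4 := congrArg Complex.re e3
    simp only [Complex.re_sum, Complex.natCast_re] at e4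
    have hle : ∀ x ∈ (Finset.univ : Finset G),
        (Cfsg.Agent.Helper81.conjFun H hN ρ.character x a).re ≤ (n : ℝ) := by
      intro x _
      rw [Cfsg.Agent.Helper81.conjFun_apply]
      exact le_trans (Complex.re_le_norm _) (hbound _)
    have heq := (Finset.sum_eq_sum_iff_of_le hle).mp e4 1 (Finset.mem_univ _)
    have hval : Cfsg.Agent.Helper81.conjFun H hN ρ.character 1 a = ρ.character a := by
      rw [Cfsg.Agent.Helper81.conjFun_one]
    rw [hval] at heq
    rw [hdeg]
    have := eq_of_re_eq_of_norm_le (ρ.character a) n heq (hbound a)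
    simpa using this

end Cfsg.Agent.S1487
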