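import Cfsg.Statements.S1496
import Mathlib

set_option autoImplicit false
open Cfsg

namespace Cfsg.Agent.S1496

variable {G : Type*} [Group G]

theorem conj_mem_of_normalizer {H : Subgroup G} {g : G} (hg : g ∈ Subgroup.normalizer (H : Set G))
    {x : G} (hx : x ∈ H) : g * x * g⁻¹ ∈ H :=
  (Subgroup.mem_set_normalizer_iff.mp hg x).mp hx

theorem conj_mem_of_normalizer' {H : Subgroup G} {g : G} (hg : g ∈ Subgroup.normalizer (H : Set G))
    {x : G} (hx : x ∈ H) : g⁻¹ * x * g ∈ H := by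
  have := conj_mem_of_normalizer (Subgroup.inv_mem _ hg) hx
  simpa using this

theorem pow_coset {H : Subgroup G} {g : G} (hg : g ∈ Subgroup.normalizer (H : Set G))
    {h : G} (hh : h ∈ H) (k : ℕ) : ∃ u ∈ H, (h * g) ^ k = u * g ^ k := by
  induction k with
  | zero => exact ⟨1, H.one_mem, by simp⟩
  | succ k ih =>
    obtain ⟨u, hu, he⟩ := ih
    refine ⟨u * (g ^ k * h * (g ^ k)⁻¹), H.mul_mem hu
      (conj_mem_of_normalizer (Subgroup.pow_mem _ hg k) hh), ?_⟩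
    rw [pow_succ, he, pow_succ]
    group

/-- prime power case, by a fixed point argument -/
theorem pp_case [Finite G] (H : Subgroup G) (g : G)
    (hg : g ∈ Subgroup.normalizer (H : Set G)) (p e : ℕ) [hpp : Fact p.Prime] (hord : g ^ (p ^ e) = 1)
    (hp : ¬ p ∣ Nat.card H) (h : G) (hh : h ∈ H) :
    ∃ x ∈ H, ∃ c ∈ H, c * g = g * c ∧ x * (h * g) * x⁻¹ = c * g := by
  classical
  let inst : MulAction H G := MulAction.compHom G (MulAut.conj.comp H.subtype)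
  have smul_def : ∀ (x : H) (z : G), x • z = (x : G) * z * (x : G)⁻¹ := fun x z => rfl
  set O := MulAction.orbit H (h * g) with hO
  have hOcard : O.ncard ∣ Nat.card H := by
    rw [← MulAction.index_stabilizer]; exact Subgroup.index_dvd_card _
  have hgO : ∀ z ∈ O, g * z * g⁻¹ ∈ O := by
    rintro z ⟨x, rfl⟩
    refine ⟨⟨g * x * g⁻¹ * h⁻¹, H.mul_mem (conj_mem_of_normalizer hg x.2) (H.inv_mem hh)⟩, ?_⟩
    simp only [smul_def]
    group
  have instF : Fintype O := Fintype.ofFinite O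
  let f : Function.End O := fun z => ⟨g * z.1 * g⁻¹, hgO z.1 z.2⟩
  have hfpow : ∀ (k : ℕ) (z : O), (((f ^ k) z : O) : G) = g ^ k * z.1 * (g ^ k)⁻¹ := by
    intro k
    induction k with
    | zero => intro z; rw [pow_zero]; change (z : G) = _; simp
    | succ k ih =>
      intro z
      rw [pow_succ]
      change (((f ^ k) (f z) : O) : G) = _
      rw [ih]
      change g ^ k * (g * z.1 * g⁻¹) * (g ^ k)⁻¹ = _
      rw [pow_succ]
      group
  have hf1 : f ^ (p ^ e) = 1 := by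
    funext z
    apply Subtype.ext
    change (((f ^ (p ^ e)) z : O) : G) = (z : G)
    rw [hfpow, hord]
    simp
  have hmod := Equiv.Perm.card_fixedPoints_modEq (p := p) (n := e) hf1
  have hcardO : Fintype.card O = O.ncard := by
    rw [← Nat.card_eq_fintype_card]; exact Nat.card_coe_set_eq O
  have hpO : ¬ p ∣ Fintype.card O := by
    rw [hcardO]
    intro hdiv
    exact hp (hdiv.trans hOcard)
  have hfix : 0 < Fintype.card (Function.fixedPoints f) := by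
    by_contra h0
    have h0' : Fintype.card (Function.fixedPoints f) = 0 := by omega
    rw [h0'] at hmod
    exact hpO ((Nat.modEq_zero_iff_dvd).mp hmod)
  obtain ⟨⟨z, hz⟩⟩ := Fintype.card_pos_iff.mp hfix
  obtain ⟨zv, hzO⟩ := z
  obtain ⟨x, hx⟩ := hzO
  have hzfix : g * zv * g⁻¹ = zv := by
    have := congrArg Subtype.val hz
    exact this
  have hzv : zv = (x : G) * (h * g) * (x : G)⁻¹ := by rw [← hx]; rfl
  refine ⟨x, x.2, zv * g⁻¹, ?_, ?_, ?_⟩
  · have e1 : zv * g⁻¹ = (x : G) * h * (g * (x : G)⁻¹ * g⁻¹) := by rw [hzv]; group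
    rw [e1]
    exact H.mul_mem (H.mul_mem x.2 hh) (conj_mem_of_normalizer hg (H.inv_mem x.2))
  · calc zv * g⁻¹ * g = zv := by group
      _ = g * zv * g⁻¹ := hzfix.symm
      _ = g * (zv * g⁻¹) := by group
  · rw [← hzv]; group

theorem extract {c g : G} (hcg : c * g = g * c) {a b : ℕ} (hg : g ^ a = 1) (hc : c ^ b = 1)
    (hab : Nat.Coprime a b) : ∃ j : ℕ, (c * g) ^ j = g := by
  obtain ⟨j, hj1, hj2⟩ := Nat.chineseRemainder hab 1 0
  refine ⟨j, ?_⟩
  have hcomm : Commute c g := hcg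
  rw [hcomm.mul_pow]
  have h1 : c ^ j = 1 := by
    have : b ∣ j := (Nat.modEq_zero_iff_dvd).mp hj2
    obtain ⟨t, rfl⟩ := this
    rw [pow_mul, hc, one_pow]
  have h2 : g ^ j = g := by
    have : g ^ j = g ^ 1 := by
      rw [pow_eq_pow_iff_modEq]
      exact hj1.of_dvd (orderOf_dvd_of_pow_eq_one hg)
    simpa using this
  rw [h1, h2, one_mul]

theorem comm_conj {a b w : G} (hab : a * b = b * a) (hw : w * a = a * w) :
    (b * w * b⁻¹) * a = a * (b * w * b⁻¹) := by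
  calc b * w * b⁻¹ * a = b * w * (b⁻¹ * (a * b) * b⁻¹) := by group
    _ = b * w * (b⁻¹ * (b * a) * b⁻¹) := by rw [hab]
    _ = b * (w * a) * b⁻¹ := by group
    _ = b * (a * w) * b⁻¹ := by rw [hw]
    _ = (b * a) * w * b⁻¹ := by group
    _ = (a * b) * w * b⁻¹ := by rw [hab]
    _ = a * (b * w * b⁻¹) := by group

theorem comm_inv {a b : G} (hab : a * b = b * a) : a * b⁻¹ = b⁻¹ * a := by
  calc a * b⁻¹ = b⁻¹ * (b * a) * b⁻¹ := by group
    _ = b⁻¹ * (a * b) * b⁻¹ := by rw [hab]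
    _ = b⁻¹ * a := by group

theorem combine [Finite G] (H : Subgroup G) (g1 g2 : G) (hg12comm : g1 * g2 = g2 * g1)
    (hg1N : g1 ∈ Subgroup.normalizer (H : Set G)) (hg2N : g2 ∈ Subgroup.normalizer (H : Set G))
    (n1 n2 : ℕ) (hg1pow : g1 ^ n1 = 1) (hg2pow : g2 ^ n2 = 1)
    (hcop1 : Nat.Coprime n1 (Nat.card H)) (hcop2 : Nat.Coprime n2 (Nat.card H))
    (P1 : ∀ h ∈ H, ∃ x ∈ H, ∃ c ∈ H, c * g1 = g1 * c ∧ x * (h * g1) * x⁻¹ = c * g1)
    (P2 : ∀ h ∈ H ⊓ Subgroup.centralizer ({g1} : Set G),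
      ∃ x ∈ H ⊓ Subgroup.centralizer ({g1} : Set G), ∃ c ∈ H ⊓ Subgroup.centralizer ({g1} : Set G),
        c * g2 = g2 * c ∧ x * (h * g2) * x⁻¹ = c * g2)
    (y1 y2 h1 h2 : G) (hh1 : h1 ∈ H) (hh2 : h2 ∈ H) (hy1 : y1 = h1 * g1) (hy2 : y2 = h2 * g2)
    (hycomm : y1 * y2 = y2 * y1) :
    ∃ x ∈ H, ∃ c ∈ H, c * (g1 * g2) = (g1 * g2) * c ∧ x * (y1 * y2) * x⁻¹ = c * (g1 * g2) := by
  have hpowH : ∀ c ∈ H, c ^ (Nat.card H) = 1 := by
    intro c hc
    have := Subgroup.orderOf_dvd_natCard H hc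
    exact orderOf_dvd_iff_pow_eq_one.mp this
  obtain ⟨x1, hx1, c1, hc1, hc1g1, hx1y1⟩ := P1 h1 hh1
  rw [← hy1] at hx1y1
  -- y2' := x1 y2 x1⁻¹
  have hcomm' : (c1 * g1) * (x1 * y2 * x1⁻¹) = (x1 * y2 * x1⁻¹) * (c1 * g1) := by
    rw [← hx1y1]
    calc x1 * y1 * x1⁻¹ * (x1 * y2 * x1⁻¹) = x1 * (y1 * y2) * x1⁻¹ := by group
      _ = x1 * (y2 * y1) * x1⁻¹ := by rw [hycomm]
      _ = x1 * y2 * x1⁻¹ * (x1 * y1 * x1⁻¹) := by group
  have hh2' : x1 * h2 * (g2 * x1⁻¹ * g2⁻¹) ∈ H :=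
    H.mul_mem (H.mul_mem hx1 hh2) (conj_mem_of_normalizer hg2N (H.inv_mem hx1))
  have hy2'eq : x1 * y2 * x1⁻¹ = (x1 * h2 * (g2 * x1⁻¹ * g2⁻¹)) * g2 := by
    rw [hy2]; group
  obtain ⟨j, hj⟩ := extract hc1g1 hg1pow (hpowH c1 hc1) hcop1
  have hg1y2' : g1 * (x1 * y2 * x1⁻¹) = (x1 * y2 * x1⁻¹) * g1 := by
    have hc : Commute (c1 * g1) (x1 * y2 * x1⁻¹) := hcomm'
    have := (hc.pow_left j).eq
    rw [hj] at this
    exact this
  obtain ⟨y2', hy2'def⟩ : ∃ y2', y2' = x1 * y2 * x1⁻¹ := ⟨_, rfl⟩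
  obtain ⟨h2', hh2'def⟩ : ∃ h2', h2' = x1 * h2 * (g2 * x1⁻¹ * g2⁻¹) := ⟨_, rfl⟩
  rw [← hy2'def] at hcomm' hy2'eq hg1y2'
  rw [← hh2'def] at hh2' hy2'eq
  have hg1h2' : h2' * g1 = g1 * h2' := by
    have e1 : h2' = y2' * g2⁻¹ := by rw [hy2'eq]; group
    rw [e1]
    calc y2' * g2⁻¹ * g1 = y2' * (g2⁻¹ * g1) := by group
      _ = y2' * (g1 * g2⁻¹) := by rw [comm_inv hg12comm]
      _ = (y2' * g1) * g2⁻¹ := by group
      _ = (g1 * y2') * g2⁻¹ := by rw [hg1y2']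
      _ = g1 * (y2' * g2⁻¹) := by group
  have hh2'H' : h2' ∈ H ⊓ Subgroup.centralizer ({g1} : Set G) :=
    ⟨hh2', Subgroup.mem_centralizer_singleton_iff.mpr hg1h2'⟩
  obtain ⟨x2, hx2, c2, hc2, hc2g2, hx2y2⟩ := P2 h2' hh2'H'
  rw [← hy2'eq] at hx2y2
  have hx2g1 : x2 * g1 = g1 * x2 := Subgroup.mem_centralizer_singleton_iff.mp hx2.2
  have hc2g1 : c2 * g1 = g1 * c2 := Subgroup.mem_centralizer_singleton_iff.mp hc2.2
  have hc1'H : x2 * c1 * x2⁻¹ ∈ H := H.mul_mem (H.mul_mem hx2.1 hc1) (H.inv_mem hx2.1)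
  have hc1'g1 : (x2 * c1 * x2⁻¹) * g1 = g1 * (x2 * c1 * x2⁻¹) :=
    comm_conj hx2g1.symm hc1g1
  have hy1'' : x2 * (c1 * g1) * x2⁻¹ = (x2 * c1 * x2⁻¹) * g1 := by
    calc x2 * (c1 * g1) * x2⁻¹ = x2 * c1 * (g1 * x2⁻¹) := by group
      _ = x2 * c1 * (x2⁻¹ * g1) := by rw [comm_inv hx2g1.symm]
      _ = x2 * c1 * x2⁻¹ * g1 := by group
  obtain ⟨c1', hc1'def⟩ : ∃ c1', c1' = x2 * c1 * x2⁻¹ := ⟨_, rfl⟩
  rw [← hc1'def] at hc1'H hc1'g1 hy1''
  have hcomm'' : (c1' * g1) * (c2 * g2) = (c2 * g2) * (c1' * g1) := by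
    rw [← hy1'', ← hx2y2]
    calc x2 * (c1 * g1) * x2⁻¹ * (x2 * y2' * x2⁻¹) = x2 * ((c1 * g1) * y2') * x2⁻¹ := by group
      _ = x2 * (y2' * (c1 * g1)) * x2⁻¹ := by rw [hcomm']
      _ = x2 * y2' * x2⁻¹ * (x2 * (c1 * g1) * x2⁻¹) := by group
  obtain ⟨j2, hj2⟩ := extract hc2g2 hg2pow (hpowH c2 hc2.1) hcop2
  have hy1''g2 : (c1' * g1) * g2 = g2 * (c1' * g1) := by
    have hc : Commute (c2 * g2) (c1' * g1) := hcomm''.symm
    have := (hc.pow_left j2).eq
    rw [hj2] at this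
    exact this.symm
  have hc1'g2 : c1' * g2 = g2 * c1' := by
    calc c1' * g2 = (c1' * g1) * (g1⁻¹ * g2) := by group
      _ = (c1' * g1) * (g2 * g1⁻¹) := by rw [comm_inv hg12comm.symm]
      _ = ((c1' * g1) * g2) * g1⁻¹ := by group
      _ = (g2 * (c1' * g1)) * g1⁻¹ := by rw [hy1''g2]
      _ = g2 * c1' := by group
  refine ⟨x2 * x1, H.mul_mem hx2.1 hx1, c1' * c2, H.mul_mem hc1'H hc2.1, ?_, ?_⟩
  · calc c1' * c2 * (g1 * g2) = c1' * (c2 * g1) * g2 := by group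
      _ = c1' * (g1 * c2) * g2 := by rw [hc2g1]
      _ = (c1' * g1) * (c2 * g2) := by group
      _ = (g1 * c1') * (g2 * c2) := by rw [hc1'g1, hc2g2]
      _ = g1 * (c1' * g2) * c2 := by group
      _ = g1 * (g2 * c1') * c2 := by rw [hc1'g2]
      _ = g1 * g2 * (c1' * c2) := by group
  · calc x2 * x1 * (y1 * y2) * (x2 * x1)⁻¹
          = x2 * ((x1 * y1 * x1⁻¹) * (x1 * y2 * x1⁻¹)) * x2⁻¹ := by group
      _ = x2 * ((c1 * g1) * y2') * x2⁻¹ := by rw [hx1y1, hy2'def]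
      _ = (x2 * (c1 * g1) * x2⁻¹) * (x2 * y2' * x2⁻¹) := by group
      _ = (c1' * g1) * (c2 * g2) := by rw [hy1'', hx2y2]
      _ = c1' * (g1 * c2) * g2 := by group
      _ = c1' * (c2 * g1) * g2 := by rw [hc2g1]
      _ = c1' * c2 * (g1 * g2) := by group

theorem normalizer_inf_centralizer {H : Subgroup G} {g1 g2 : G} (hg12comm : g1 * g2 = g2 * g1)
    (hg2N : g2 ∈ Subgroup.normalizer (H : Set G)) :
    g2 ∈ Subgroup.normalizer ((H ⊓ Subgroup.centralizer ({g1} : Set G) : Subgroup G) : Set G) := by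
  rw [Subgroup.mem_set_normalizer_iff]
  intro z
  simp only [SetLike.mem_coe, Subgroup.mem_inf, Subgroup.mem_centralizer_singleton_iff]
  constructor
  · rintro ⟨hz1, hz2⟩
    exact ⟨conj_mem_of_normalizer hg2N hz1, comm_conj hg12comm hz2⟩
  · rintro ⟨hz1, hz2⟩
    have e1 : z = g2⁻¹ * (g2 * z * g2⁻¹) * g2 := by group
    rw [e1]
    refine ⟨conj_mem_of_normalizer' hg2N hz1, ?_⟩
    have := comm_conj (a := g1) (b := g2⁻¹) (w := g2 * z * g2⁻¹) (comm_inv hg12comm) hz2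
    simpa using this

theorem main [Finite G] : ∀ (n : ℕ) (H : Subgroup G) (g : G), orderOf g = n →
    g ∈ Subgroup.normalizer (H : Set G) → Nat.Coprime n (Nat.card H) → ∀ h ∈ H,
    ∃ x ∈ H, ∃ c ∈ H, c * g = g * c ∧ x * (h * g) * x⁻¹ = c * g := by
  intro n
  induction n using Nat.strong_induction_on with
  | _ n ih =>
  intro H g hgn hgN hcop h hh
  have hnpos : 0 < n := hgn ▸ orderOf_pos g
  rcases Nat.eq_or_lt_of_le (Nat.succ_le_of_lt hnpos) with h1 | hn1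
  · -- n = 1
    have hg1 : g = 1 := by
      apply orderOf_eq_one_iff.mp; rw [hgn]; exact h1.symm
    subst hg1
    exact ⟨1, H.one_mem, h, hh, by simp, by simp⟩
  · -- n > 1
    have hn1' : 1 < n := hn1
    obtain ⟨p, hp⟩ : ∃ p, p = n.minFac := ⟨_, rfl⟩
    have hpprime : p.Prime := hp ▸ Nat.minFac_prime (by omega)
    have hpn : p ∣ n := hp ▸ Nat.minFac_dvd n
    have instp : Fact p.Prime := ⟨hpprime⟩
    obtain ⟨e, he⟩ : ∃ e, e = n.factorization p := ⟨_, rfl⟩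
    obtain ⟨n2, hn2def⟩ : ∃ n2, n2 = n / p ^ e := ⟨_, rfl⟩
    have hn12 : p ^ e * n2 = n := by
      rw [hn2def, he]; exact Nat.ordProj_mul_ordCompl_eq_self n p
    have hcop12 : Nat.Coprime (p ^ e) n2 := by
      apply Nat.Coprime.pow_left
      rw [hn2def, he]
      exact Nat.coprime_ordCompl hpprime (by omega)
    have hepos : 0 < e := by
      rw [he]
      exact hpprime.factorization_pos_of_dvd (by omega) hpn
    have hn1gt : 1 < p ^ e := Nat.one_lt_pow (by omega) hpprime.one_lt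
    have hn2pos : 0 < n2 := by
      rcases Nat.eq_zero_or_pos n2 with h0 | h0
      · rw [h0, mul_zero] at hn12; omega
      · exact h0
    have hn2lt : n2 < n := by
      calc n2 = 1 * n2 := (one_mul _).symm
        _ < p ^ e * n2 := Nat.mul_lt_mul_of_pos_right hn1gt hn2pos
        _ = n := hn12
    obtain ⟨m, hm⟩ : ∃ m, m = Nat.card H := ⟨_, rfl⟩
    rw [← hm] at hcop
    have hmpos : 0 < m := hm ▸ Nat.card_pos
    have hk1lt' := Nat.chineseRemainder_lt_mul hcop12 1 0 (by omega) (by omega)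
    rw [hn12] at hk1lt'
    obtain ⟨k1, hk1def⟩ : ∃ k1 : ℕ, k1 = (Nat.chineseRemainder hcop12 1 0 : ℕ) := ⟨_, rfl⟩
    have hk11 : k1 ≡ 1 [MOD p ^ e] := hk1def ▸ (Nat.chineseRemainder hcop12 1 0).2.1
    have hk12 : k1 ≡ 0 [MOD n2] := hk1def ▸ (Nat.chineseRemainder hcop12 1 0).2.2
    have hk1lt : k1 < n := hk1def ▸ hk1lt'
    obtain ⟨k2, hk2⟩ : ∃ k2, k2 = n * m + 1 - k1 := ⟨_, rfl⟩
    have hk12sum : k1 + k2 = n * m + 1 := by
      have : k1 ≤ n * m + 1 := by nlinarith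
      omega
    have hgpow : g ^ n = 1 := hgn ▸ pow_orderOf_eq_one g
    have hg12 : g ^ k1 * g ^ k2 = g := by
      rw [← pow_add, hk12sum, pow_succ, pow_mul, hgpow, one_pow, one_mul]
    have hg12comm : g ^ k1 * g ^ k2 = g ^ k2 * g ^ k1 := by
      rw [← pow_add, ← pow_add, add_comm]
    have hn2k1 : n2 ∣ k1 := (Nat.modEq_zero_iff_dvd).mp hk12
    have hn1k2 : p ^ e ∣ k2 := by
      have h1 : k1 + k2 ≡ 1 [MOD p ^ e] := by
        rw [hk12sum, ← hn12]
        have : p ^ e * n2 * m + 1 ≡ 0 + 1 [MOD p ^ e] := by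
          apply Nat.ModEq.add_right
          apply (Nat.modEq_zero_iff_dvd).mpr
          exact Dvd.dvd.mul_right (Dvd.intro _ rfl) _
        simpa using this
      have h2 : k1 + k2 ≡ k1 + 0 [MOD p ^ e] := by
        simpa using h1.trans hk11.symm
      exact (Nat.modEq_zero_iff_dvd).mp (Nat.ModEq.add_left_cancel' k1 h2)
    have hg1pow : (g ^ k1) ^ (p ^ e) = 1 := by
      obtain ⟨t, ht⟩ := hn2k1
      rw [← pow_mul, ht]
      have : n2 * t * p ^ e = n * t := by rw [← hn12]; ring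
      rw [this, pow_mul, hgpow, one_pow]
    have hg2pow : (g ^ k2) ^ n2 = 1 := by
      obtain ⟨t, ht⟩ := hn1k2
      rw [← pow_mul, ht]
      have : p ^ e * t * n2 = n * t := by rw [← hn12]; ring
      rw [this, pow_mul, hgpow, one_pow]
    have hg1N : g ^ k1 ∈ Subgroup.normalizer (H : Set G) := Subgroup.pow_mem _ hgN k1
    have hg2N : g ^ k2 ∈ Subgroup.normalizer (H : Set G) := Subgroup.pow_mem _ hgN k2
    have hpm : ¬ p ∣ m := by
      intro hdiv
      have : p ∣ Nat.gcd n m := Nat.dvd_gcd hpn hdiv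
      rw [hcop] at this
      exact hpprime.one_lt.ne' (Nat.dvd_one.mp this)
    obtain ⟨h1, hh1, hy1⟩ := pow_coset hgN hh k1
    obtain ⟨h2, hh2, hy2⟩ := pow_coset hgN hh k2
    have hy12 : (h * g) ^ k1 * (h * g) ^ k2 = h * g := by
      rw [← pow_add, hk12sum, pow_succ, pow_mul]
      obtain ⟨u, hu, hyu⟩ := pow_coset hgN hh n
      rw [hyu, hgpow, mul_one]
      have : u ^ m = 1 := by
        have := Subgroup.orderOf_dvd_natCard H hu
        rw [← hm] at this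
        exact orderOf_dvd_iff_pow_eq_one.mp this
      rw [this, one_mul]
    have hycomm : (h * g) ^ k1 * (h * g) ^ k2 = (h * g) ^ k2 * (h * g) ^ k1 := by
      rw [← pow_add, ← pow_add, add_comm]
    have hcopn1m : Nat.Coprime (p ^ e) (Nat.card H) := by
      rw [← hm]
      exact Nat.Coprime.coprime_dvd_left (Dvd.intro _ hn12) hcop
    have hcopn2m : Nat.Coprime n2 (Nat.card H) := by
      rw [← hm]
      exact Nat.Coprime.coprime_dvd_left (Dvd.intro_left _ hn12) hcop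
    have P1 : ∀ h ∈ H, ∃ x ∈ H, ∃ c ∈ H, c * g ^ k1 = g ^ k1 * c ∧
        x * (h * g ^ k1) * x⁻¹ = c * g ^ k1 := by
      intro h' hh'
      exact pp_case H (g ^ k1) hg1N p e hg1pow (hm ▸ hpm) h' hh'
    have hord2 : orderOf (g ^ k2) ∣ n2 := orderOf_dvd_of_pow_eq_one hg2pow
    have hord2lt : orderOf (g ^ k2) < n := lt_of_le_of_lt (Nat.le_of_dvd hn2pos hord2) hn2lt
    have hH'card : Nat.card (H ⊓ Subgroup.centralizer ({g ^ k1} : Set G) : Subgroup G) ∣ Nat.card H :=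
      Subgroup.card_dvd_of_le inf_le_left
    have hcop2 : Nat.Coprime (orderOf (g ^ k2))
        (Nat.card (H ⊓ Subgroup.centralizer ({g ^ k1} : Set G) : Subgroup G)) := by
      apply Nat.Coprime.coprime_dvd_left hord2
      exact Nat.Coprime.coprime_dvd_right hH'card hcopn2m
    have P2 := ih (orderOf (g ^ k2)) hord2lt (H ⊓ Subgroup.centralizer ({g ^ k1} : Set G)) (g ^ k2) rfl
      (normalizer_inf_centralizer hg12comm hg2N) hcop2
    obtain ⟨x, hx, c, hc, hcg, hxy⟩ := combine H (g ^ k1) (g ^ k2) hg12comm hg1N hg2N (p ^ e) n2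
      hg1pow hg2pow hcopn1m hcopn2m P1 P2 ((h * g) ^ k1) ((h * g) ^ k2) h1 h2 hh1 hh2 hy1 hy2 hycomm
    rw [hg12, hy12] at hxy
    rw [hg12] at hcg
    exact ⟨x, hx, c, hc, hcg, hxy⟩

/-- Let H be a subgroup of the finite group G and g an element normalising H whose order is coprime to the order of H. Then for every h ∈ H there are x ∈ H and c ∈ H commuting with g such that x * (h * g) * x⁻¹ = c * g. -/
theorem result {G : Type*} [Group G] [Finite G] (H : Subgroup G) (g : G) (hg : g ∈ Subgroup.normalizer (H : Set G)) (hcop : Nat.Coprime (orderOf g) (Nat.card H)) (h : G) (hh : h ∈ H) : ∃ x ∈ H, ∃ c ∈ H, c * g = g * c ∧ x * (h * g) * x⁻¹ = c * g := by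
  exact main (orderOf g) H g rfl hg hcop h hh

end Cfsg.Agent.S1496
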