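import Cfsg.Statements.S1504
import Mathlib

set_option autoImplicit false
open Cfsg

namespace Cfsg.Agent.S1504

variable {G : Type*} [Group G]

theorem mem_sup_comm (W₁ W₂ : Subgroup G) (hcomm : ∀ a ∈ W₁, ∀ b ∈ W₂, a * b = b * a)
    (x : G) (hx : x ∈ W₁ ⊔ W₂) : ∃ a ∈ W₁, ∃ b ∈ W₂, x = a * b := by
  rw [Subgroup.sup_eq_closure] at hx
  induction hx using Subgroup.closure_induction with
  | mem y hy =>
    rcases hy with hy | hy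
    · exact ⟨y, hy, 1, W₂.one_mem, by simp⟩
    · exact ⟨1, W₁.one_mem, y, hy, by simp⟩
  | one => exact ⟨1, W₁.one_mem, 1, W₂.one_mem, by simp⟩
  | mul y z _ _ ihy ihz =>
    obtain ⟨a, ha, b, hb, rfl⟩ := ihy
    obtain ⟨a', ha', b', hb', rfl⟩ := ihz
    refine ⟨a * a', W₁.mul_mem ha ha', b * b', W₂.mul_mem hb hb', ?_⟩
    have := hcomm a' ha' b hb
    calc a * b * (a' * b') = a * (b * a') * b' := by group
      _ = a * (a' * b) * b' := by rw [this]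
      _ = a * a' * (b * b') := by group
  | inv y _ ihy =>
    obtain ⟨a, ha, b, hb, rfl⟩ := ihy
    refine ⟨a⁻¹, W₁.inv_mem ha, b⁻¹, W₂.inv_mem hb, ?_⟩
    have := hcomm a⁻¹ (W₁.inv_mem ha) b⁻¹ (W₂.inv_mem hb)
    rw [mul_inv_rev, this]

/-- a pair of characters, the first trivial on `W₂` and the second on `W₁`, is determined by its
product -/
theorem pair_injective (W₁ W₂ : Subgroup G) (hcomm : ∀ a ∈ W₁, ∀ b ∈ W₂, a * b = b * a)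
    (φ ψ φ' ψ' : ↥(W₁ ⊔ W₂) →* ℂˣ)
    (hφ : ∀ w : ↥(W₁ ⊔ W₂), (w : G) ∈ W₂ → φ w = 1) (hψ : ∀ w : ↥(W₁ ⊔ W₂), (w : G) ∈ W₁ → ψ w = 1)
    (hφ' : ∀ w : ↥(W₁ ⊔ W₂), (w : G) ∈ W₂ → φ' w = 1) (hψ' : ∀ w : ↥(W₁ ⊔ W₂), (w : G) ∈ W₁ → ψ' w = 1)
    (h : φ * ψ = φ' * ψ') : φ = φ' ∧ ψ = ψ' := by
  have key : ∀ w : ↥(W₁ ⊔ W₂), φ w = φ' w ∧ ψ w = ψ' w := by
    intro w
    obtain ⟨a, ha, b, hb, hw⟩ := mem_sup_comm W₁ W₂ hcomm w w.2
    set a' : ↥(W₁ ⊔ W₂) := ⟨a, Subgroup.mem_sup_left ha⟩ with ha'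
    set b' : ↥(W₁ ⊔ W₂) := ⟨b, Subgroup.mem_sup_right hb⟩ with hb'
    have hw' : w = a' * b' := Subtype.ext hw
    have h1 := DFunLike.congr_fun h a'
    have h2 := DFunLike.congr_fun h b'
    simp only [MonoidHom.mul_apply] at h1 h2
    rw [hψ a' ha, hψ' a' ha, mul_one, mul_one] at h1
    rw [hφ b' hb, hφ' b' hb, one_mul, one_mul] at h2
    rw [hw', map_mul, map_mul, map_mul, map_mul, hφ b' hb, hφ' b' hb, hψ a' ha, hψ' a' ha, h1, h2]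
    exact ⟨rfl, rfl⟩
  exact ⟨MonoidHom.ext fun w => (key w).1, MonoidHom.ext fun w => (key w).2⟩

/-- the linearly independent family of all linear characters, as complex functions -/
theorem linearIndependent_chars (W : Type*) [Group W] :
    LinearIndependent ℂ (fun ω : W →* ℂˣ => fun w : W => ((ω w : ℂˣ) : ℂ)) := by
  have h := linearIndependent_monoidHom W ℂ
  have hinj : Function.Injective (fun ω : W →* ℂˣ => (Units.coeHom ℂ).comp ω) := by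
    intro ω ω' hω
    ext w
    have := DFunLike.congr_fun hω w
    simpa using this
  have e : (fun ω : W →* ℂˣ => fun w : W => ((ω w : ℂˣ) : ℂ)) =
      (fun f : W →* ℂ => (f : W → ℂ)) ∘ (fun ω : W →* ℂˣ => (Units.coeHom ℂ).comp ω) := by
    funext ω w
    rfl
  rw [e]
  exact h.comp _ hinj


abbrev Wt (W₁ W₂ : Subgroup G) := ↥(W₁ ⊔ W₂)

abbrev It (W₁ W₂ : Subgroup G) := {p : (Wt W₁ W₂ →* ℂˣ) × (Wt W₁ W₂ →* ℂˣ) // p.1 ≠ 1 ∧ p.2 ≠ 1 ∧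
      (∀ w : Wt W₁ W₂, (w : G) ∈ W₂ → p.1 w = 1) ∧ (∀ w : Wt W₁ W₂, (w : G) ∈ W₁ → p.2 w = 1)}

theorem li (W₁ W₂ : Subgroup G) (hcomm : ∀ a ∈ W₁, ∀ b ∈ W₂, a * b = b * a) :
    LinearIndependent ℂ (fun p : It W₁ W₂ => fun w : Wt W₁ W₂ =>
      1 - (p.1.1 w : ℂ) - (p.1.2 w : ℂ) + (p.1.1 w : ℂ) * (p.1.2 w : ℂ)) := by
  classical
  -- the Finsupp vectors
  let v : It W₁ W₂ → ((Wt W₁ W₂ →* ℂˣ) →₀ ℂ) := fun p =>
    Finsupp.single 1 1 - Finsupp.single p.1.1 1 - Finsupp.single p.1.2 1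
      + Finsupp.single (p.1.1 * p.1.2) 1
  have hb := linearIndependent_chars (Wt W₁ W₂)
  have hv : LinearIndependent ℂ v := by
    rw [linearIndependent_iff']
    intro s c hc p₀ hp₀
    have h1 := DFunLike.congr_fun hc (p₀.1.1 * p₀.1.2)
    rw [Finsupp.finsetSum_apply] at h1
    have h2 : ∀ p ∈ s, (c p • v p) (p₀.1.1 * p₀.1.2) = if p = p₀ then c p else 0 := by
      intro p _
      have hone : ∀ (φ ψ : Wt W₁ W₂ →* ℂˣ), (∀ w : Wt W₁ W₂, (w : G) ∈ W₂ → φ w = 1) →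
          (∀ w : Wt W₁ W₂, (w : G) ∈ W₁ → ψ w = 1) → φ * ψ = p₀.1.1 * p₀.1.2 → φ = p₀.1.1 ∧ ψ = p₀.1.2 :=
        fun φ ψ hφ hψ h => pair_injective W₁ W₂ hcomm φ ψ _ _ hφ hψ p₀.2.2.2.1 p₀.2.2.2.2 h
      have triv : ∀ w : Wt W₁ W₂, (1 : Wt W₁ W₂ →* ℂˣ) w = 1 := fun w => rfl
      have e1 : (1 : Wt W₁ W₂ →* ℂˣ) ≠ p₀.1.1 * p₀.1.2 := by
        intro h
        have := hone 1 1 (fun w _ => triv w) (fun w _ => triv w) ((one_mul _).trans h)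
        exact p₀.2.1 this.1.symm
      have e2 : p.1.1 ≠ p₀.1.1 * p₀.1.2 := by
        intro h
        have := hone p.1.1 1 p.2.2.2.1 (fun w _ => triv w) ((mul_one _).trans h)
        exact p₀.2.2.1 this.2.symm
      have e3 : p.1.2 ≠ p₀.1.1 * p₀.1.2 := by
        intro h
        have := hone 1 p.1.2 (fun w _ => triv w) p.2.2.2.2 ((one_mul _).trans h)
        exact p₀.2.1 this.1.symm
      have e4 : p.1.1 * p.1.2 = p₀.1.1 * p₀.1.2 ↔ p = p₀ := by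
        constructor
        · intro h
          have := hone p.1.1 p.1.2 p.2.2.2.1 p.2.2.2.2 h
          apply Subtype.ext
          exact Prod.ext this.1 this.2
        · intro h; rw [h]
      simp only [v, Finsupp.smul_apply, Finsupp.add_apply, Finsupp.sub_apply, Finsupp.single_apply,
        if_neg e1, if_neg e2, if_neg e3, smul_eq_mul]
      by_cases hpp : p = p₀
      · rw [if_pos (e4.mpr hpp), if_pos hpp]; ring
      · rw [if_neg (fun h => hpp (e4.mp h)), if_neg hpp]; ring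
    rw [Finset.sum_congr rfl h2, Finset.sum_ite_eq' s p₀ c, if_pos hp₀] at h1
    simpa using h1
  have hker : LinearMap.ker (Finsupp.linearCombination ℂ
      (fun ω : Wt W₁ W₂ →* ℂˣ => fun w : Wt W₁ W₂ => ((ω w : ℂˣ) : ℂ))) = ⊥ :=
    LinearMap.ker_eq_bot.mpr hb
  have hfinal := hv.map' _ hker
  have e : (fun p : It W₁ W₂ => fun w : Wt W₁ W₂ =>
      1 - (p.1.1 w : ℂ) - (p.1.2 w : ℂ) + (p.1.1 w : ℂ) * (p.1.2 w : ℂ)) =
      ⇑(Finsupp.linearCombination ℂ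
        (fun ω : Wt W₁ W₂ →* ℂˣ => fun w : Wt W₁ W₂ => ((ω w : ℂˣ) : ℂ))) ∘ v := by
    funext p
    funext w
    simp only [v, Function.comp_apply, map_add, map_sub, Finsupp.linearCombination_single, one_smul,
      Pi.add_apply, Pi.sub_apply, MonoidHom.mul_apply, Units.val_mul, MonoidHom.one_apply,
      Units.val_one]
  rw [e]
  exact hfinal

/-- Let W₁, W₂ be subgroups of a finite group with W₁ ⊓ W₂ = ⊥ whose elements commute, and W = W₁ ⊔ W₂. For linear characters φ, ψ of W with φ trivial on W₂ and ψ trivial on W₁, the function (1 − φ)(1 − ψ) vanishes on W₁ ∪ W₂; and the family of these functions, indexed by pairs (φ, ψ) with φ ≠ 1 ≠ ψ, is linearly independent over ℂ. -/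
theorem result {G : Type*} [Group G] [Finite G] (W₁ W₂ : Subgroup G) (hdisj : W₁ ⊓ W₂ = ⊥) (hcomm : ∀ a ∈ W₁, ∀ b ∈ W₂, a * b = b * a) : (∀ φ ψ : ↥(W₁ ⊔ W₂) →* ℂˣ, (∀ w : ↥(W₁ ⊔ W₂), (w : G) ∈ W₂ → φ w = 1) → (∀ w : ↥(W₁ ⊔ W₂), (w : G) ∈ W₁ → ψ w = 1) → ∀ w : ↥(W₁ ⊔ W₂), ((w : G) ∈ W₁ ∨ (w : G) ∈ W₂) → (1 - (φ w : ℂ) - (ψ w : ℂ) + (φ w : ℂ) * (ψ w : ℂ)) = 0) ∧ LinearIndependent ℂ (fun p : {p : (↥(W₁ ⊔ W₂) →* ℂˣ) × (↥(W₁ ⊔ W₂) →* ℂˣ) // p.1 ≠ 1 ∧ p.2 ≠ 1 ∧ (∀ w : ↥(W₁ ⊔ W₂), (w : G) ∈ W₂ → p.1 w = 1) ∧ (∀ w : ↥(W₁ ⊔ W₂), (w : G) ∈ W₁ → p.2 w = 1)} => fun w : ↥(W₁ ⊔ W₂) => 1 - (p.1.1 w : ℂ) - (p.1.2 w : ℂ) + (p.1.1 w : ℂ) * (p.1.2 w : ℂ)) := by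
  classical
  constructor
  · intro φ ψ hφ hψ w hw
    rcases hw with hw | hw
    · rw [hψ w hw]; simp
    · rw [hφ w hw]; simp
  · exact li W₁ W₂ hcomm
end Cfsg.Agent.S1504
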