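import Cfsg.Statements.S0198
import Cfsg.Agent.Lib.Helper78.CharOrtho

set_option autoImplicit false
open Cfsg

namespace Cfsg.Agent.S0198

open Cfsg.Agent.Helper78
open scoped ComplexConjugate

/-- integers whose squares sum to two: exactly two of them are `±1`, the rest vanish -/
theorem sq_sum_two {ι : Type*} [Fintype ι] [DecidableEq ι] (c : ι → ℤ)
    (h : ∑ i, c i ^ 2 = 2) :
    ∃ a b, a ≠ b ∧ c a ^ 2 = 1 ∧ c b ^ 2 = 1 ∧ ∀ i, i ≠ a → i ≠ b → c i = 0 := by
  have hex : ∃ a, c a ≠ 0 := by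
    by_contra hcon
    push Not at hcon
    simp [hcon] at h
  obtain ⟨a, ha⟩ := hex
  have hsplit := Finset.add_sum_erase Finset.univ (fun i => c i ^ 2) (Finset.mem_univ a)
  rw [h] at hsplit
  have hnn : ∀ s : Finset ι, 0 ≤ ∑ i ∈ s, c i ^ 2 := fun s =>
    Finset.sum_nonneg (fun i _ => sq_nonneg (c i))
  have ha1 : c a ^ 2 = 1 := by
    have h1 : 1 ≤ c a ^ 2 := by
      have : 0 < c a ^ 2 := by positivity
      omega
    have h2 : c a ^ 2 ≤ 2 := by have := hnn (Finset.univ.erase a); omega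
    by_contra hne
    have h3 : c a ^ 2 = 2 := by omega
    have h4 : |c a| < 2 := by
      by_contra h5
      push Not at h5
      have : 2 ^ 2 ≤ |c a| ^ 2 := by gcongr
      rw [sq_abs] at this
      omega
    have h5 : |c a| ≤ 1 := by omega
    have h6 : |c a| ^ 2 ≤ 1 ^ 2 := by
      have := abs_nonneg (c a)
      gcongr
    rw [sq_abs] at h6
    omega
  have hrest : ∑ i ∈ Finset.univ.erase a, c i ^ 2 = 1 := by omega
  have hex2 : ∃ b ∈ Finset.univ.erase a, c b ≠ 0 := by
    by_contra hcon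
    push Not at hcon
    rw [Finset.sum_eq_zero (fun i hi => by rw [hcon i hi]; ring)] at hrest
    omega
  obtain ⟨b, hb, hb0⟩ := hex2
  have hsplit2 := Finset.add_sum_erase (Finset.univ.erase a) (fun i => c i ^ 2) hb
  rw [hrest] at hsplit2
  have hb1 : c b ^ 2 = 1 := by
    have : 0 < c b ^ 2 := by positivity
    have := hnn ((Finset.univ.erase a).erase b)
    omega
  have hrest2 : ∑ i ∈ (Finset.univ.erase a).erase b, c i ^ 2 = 0 := by omega
  refine ⟨a, b, (Finset.ne_of_mem_erase hb).symm, ha1, hb1, ?_⟩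
  intro i hia hib
  have hi : i ∈ (Finset.univ.erase a).erase b :=
    Finset.mem_erase.2 ⟨hib, Finset.mem_erase.2 ⟨hia, Finset.mem_univ i⟩⟩
  have := (Finset.sum_eq_zero_iff_of_nonneg (fun i _ => sq_nonneg (c i))).1 hrest2 i hi
  exact pow_eq_zero_iff (two_ne_zero) |>.1 this

section

variable {G : Type*} [Group G] [Fintype G]

theorem exists_int_decomp {θ : G → ℂ} (h : IsGeneralizedCharacter G θ) :
    ∃ c : IrrCharacter G → ℤ, θ = ∑ χ : IrrCharacter G, ((c χ : ℤ) : ℂ) • (χ : G → ℂ) := by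
  obtain ⟨χ, ψ, hχ, hψ, rfl⟩ := h
  obtain ⟨m1, h1⟩ := IsCharacter.exists_irr_decomp hχ
  obtain ⟨m2, h2⟩ := IsCharacter.exists_irr_decomp hψ
  refine ⟨fun χ => (m1 χ : ℤ) - m2 χ, ?_⟩
  conv_lhs => rw [h1, h2]
  rw [← Finset.sum_sub_distrib]
  apply Finset.sum_congr rfl
  intro χ _
  push_cast
  rw [sub_smul]

theorem classInner_int_decomp (c d : IrrCharacter G → ℤ) :
    classInner (∑ χ : IrrCharacter G, ((c χ : ℤ) : ℂ) • (χ : G → ℂ))
      (∑ χ : IrrCharacter G, ((d χ : ℤ) : ℂ) • (χ : G → ℂ)) = ((∑ χ, c χ * d χ : ℤ) : ℂ) := by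
  rw [classInner_sum_right]
  push_cast
  apply Finset.sum_congr rfl
  intro χ _
  rw [classInner_smul_right, classInner_decomp (fun χ => ((c χ : ℤ) : ℂ)) χ]
  simp [mul_comm]

theorem eq_sub_of_norm_two {θ : G → ℂ} (h : IsGeneralizedCharacter G θ)
    (h2 : classInner θ θ = 2) (h1 : θ 1 = 0) :
    ∃ a b : IrrCharacter G, a ≠ b ∧ θ = (a : G → ℂ) - (b : G → ℂ) := by
  classical
  obtain ⟨c, hc⟩ := exists_int_decomp h
  have hsum : ∑ χ, c χ ^ 2 = 2 := by
    have h3 := classInner_int_decomp c c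
    rw [← hc, h2] at h3
    have h4 : ((2 : ℤ) : ℂ) = ((∑ χ, c χ * c χ : ℤ) : ℂ) := by
      rw [← h3]; norm_num
    have h5 : (2 : ℤ) = ∑ χ, c χ * c χ := by exact_mod_cast h4
    rw [h5]
    apply Finset.sum_congr rfl
    intro χ _
    ring
  obtain ⟨a, b, hab, ha, hb, hrest⟩ := sq_sum_two c hsum
  have hθ : θ = ((c a : ℤ) : ℂ) • (a : G → ℂ) + ((c b : ℤ) : ℂ) • (b : G → ℂ) := by
    conv_lhs => rw [hc]
    rw [← Finset.add_sum_erase Finset.univ _ (Finset.mem_univ a),
      ← Finset.add_sum_erase (Finset.univ.erase a) _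
        (Finset.mem_erase.2 ⟨hab.symm, Finset.mem_univ b⟩)]
    rw [Finset.sum_eq_zero, add_zero]
    intro i hi
    have hib := Finset.ne_of_mem_erase hi
    have hia := Finset.ne_of_mem_erase (Finset.mem_of_mem_erase hi)
    rw [hrest i hia hib]
    simp
  obtain ⟨na, hna, ha1⟩ := irr_apply_one a.2
  obtain ⟨nb, hnb, hb1⟩ := irr_apply_one b.2
  have hval : ((c a : ℤ) : ℂ) * (na : ℂ) + ((c b : ℤ) : ℂ) * (nb : ℂ) = 0 := by
    have h3 := congrFun hθ 1
    rw [h1] at h3
    simp only [Pi.add_apply, Pi.smul_apply, smul_eq_mul, ha1, hb1] at h3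
    exact h3.symm
  have hval' : c a * (na : ℤ) + c b * (nb : ℤ) = 0 := by exact_mod_cast hval
  have hca : c a = 1 ∨ c a = -1 := by
    have h3 : (c a - 1) * (c a + 1) = 0 := by ring_nf; omega
    rcases mul_eq_zero.1 h3 with h4 | h4
    · left; omega
    · right; omega
  have hcb : c b = 1 ∨ c b = -1 := by
    have h3 : (c b - 1) * (c b + 1) = 0 := by ring_nf; omega
    rcases mul_eq_zero.1 h3 with h4 | h4
    · left; omega
    · right; omega
  rcases hca with hca | hca <;> rcases hcb with hcb | hcb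
  · rw [hca, hcb] at hval'; omega
  · refine ⟨a, b, hab, ?_⟩
    rw [hθ, hca, hcb]
    ext g
    simp [sub_eq_add_neg]
  · refine ⟨b, a, hab.symm, ?_⟩
    rw [hθ, hca, hcb]
    ext g
    simp [sub_eq_add_neg, add_comm]
  · rw [hca, hcb] at hval'; omega

open scoped Classical in
theorem classInner_sub_sub (a b a' b' : IrrCharacter G) :
    classInner ((a : G → ℂ) - (b : G → ℂ)) ((a' : G → ℂ) - (b' : G → ℂ)) =
      (if a = a' then 1 else 0) - (if a = b' then 1 else 0) - (if b = a' then 1 else 0)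
        + (if b = b' then 1 else 0) := by
  have e1 : ((a : G → ℂ) - (b : G → ℂ)) = (a : G → ℂ) + (-1 : ℂ) • (b : G → ℂ) := by
    ext g; simp [sub_eq_add_neg]
  have e2 : ((a' : G → ℂ) - (b' : G → ℂ)) = (a' : G → ℂ) + (-1 : ℂ) • (b' : G → ℂ) := by
    ext g; simp [sub_eq_add_neg]
  rw [e1, e2]
  simp only [classInner_add_left, classInner_add_right, classInner_smul_left,
    classInner_smul_right, classInner_irr]
  simp only [map_neg, map_one]
  ring

open scoped Classical in
theorem pair_cases (a b a' b' : IrrCharacter G) (hab : a ≠ b)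
    (h : classInner ((a : G → ℂ) - (b : G → ℂ)) ((a' : G → ℂ) - (b' : G → ℂ)) = 1) :
    (a = a' ∧ b ≠ b') ∨ (a ≠ a' ∧ b = b') := by
  rw [classInner_sub_sub] at h
  split_ifs at h with e1 e2 e3 e4 e4 e3 e4 e4 e2 e3 e4 e4 e3 e4 e4 <;>
    first
    | (exfalso; norm_num at h; done)
    | (exfalso; exact hab (e1.trans e3.symm))
    | (exfalso; exact hab (e2.trans e4.symm))
    | (left; exact ⟨e1, e4⟩)
    | (right; exact ⟨e1, e4⟩)

end

/-- If virtual characters τ_i of G vanish at 1 and have the Gram matrix of the differences χ_i − χ_0 of distinct equal-degree irreducibles, then τ_i = ε(μ_i − μ_0). -/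
theorem result {G : Type*} [Group G] [Fintype G] (n : ℕ) (i₀ : Fin n) (τ : Fin n → (G → ℂ)) (h0 : τ i₀ = 0) (hgen : ∀ i, Cfsg.IsGeneralizedCharacter G (τ i)) (hone : ∀ i, τ i 1 = 0) (hgram : ∀ i j, i ≠ i₀ → j ≠ i₀ → Cfsg.classInner (τ i) (τ j) = if i = j then 2 else 1) : ∃ ε : ℂ, (ε = 1 ∨ ε = -1) ∧ ∃ μ : Fin n → (G → ℂ), (∀ i, Cfsg.IsIrrCharacter G (μ i)) ∧ Function.Injective μ ∧ ∀ i, τ i = ε • (μ i - μ i₀) := by
  classical
  -- a fixed irreducible character
  obtain ⟨χ0⟩ : Nonempty (IrrCharacter G) := by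
    by_contra hne
    rw [not_nonempty_iff] at hne
    have h := sum_irr_one_mul (1 : G)
    rw [if_pos rfl, Finset.univ_eq_empty, Finset.sum_empty] at h
    exact natCard_ne_zero_complex h.symm
  have hdec : ∀ i, ∃ ab : IrrCharacter G × IrrCharacter G, i ≠ i₀ →
      (ab.1 ≠ ab.2 ∧ τ i = (ab.1 : G → ℂ) - (ab.2 : G → ℂ)) := by
    intro i
    by_cases hi : i = i₀
    · exact ⟨(χ0, χ0), fun h => absurd hi h⟩
    · have h2 := hgram i i hi hi
      rw [if_pos rfl] at h2
      obtain ⟨a, b, hab, hτ⟩ := eq_sub_of_norm_two (hgen i) h2 (hone i)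
      exact ⟨(a, b), fun _ => ⟨hab, hτ⟩⟩
  choose ab hab using hdec
  have hpair : ∀ i j, i ≠ i₀ → j ≠ i₀ → i ≠ j →
      ((ab i).1 = (ab j).1 ∧ (ab i).2 ≠ (ab j).2) ∨ ((ab i).1 ≠ (ab j).1 ∧ (ab i).2 = (ab j).2) := by
    intro i j hi hj hij
    have h1 := hgram i j hi hj
    rw [if_neg hij, (hab i hi).2, (hab j hj).2] at h1
    exact pair_cases _ _ _ _ (hab i hi).1 h1
  -- a reference index
  obtain ⟨i1, hi1⟩ : ∃ i1 : Fin n, ∀ i, i ≠ i₀ → i1 ≠ i₀ := by
    by_cases h : ∃ i, i ≠ i₀
    · obtain ⟨i1, h1⟩ := h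
      exact ⟨i1, fun _ _ => h1⟩
    · push Not at h
      exact ⟨i₀, fun i hi => absurd (h i) hi⟩
  by_cases htail : ∃ i j, i ≠ i₀ ∧ j ≠ i₀ ∧ i ≠ j ∧ (ab i).2 = (ab j).2
  · -- all tails agree
    obtain ⟨i, j, hi, hj, hij, hbij⟩ := htail
    have haij : (ab i).1 ≠ (ab j).1 := by
      rcases hpair i j hi hj hij with h | h
      · exact absurd hbij h.2
      · exact h.1
    have hall : ∀ m, m ≠ i₀ → (ab m).2 = (ab i).2 := by
      intro m hm
      by_cases hmi : m = i
      · rw [hmi]
      by_cases hmj : m = j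
      · rw [hmj, hbij]
      rcases hpair m i hm hi hmi with h | h
      · exfalso
        rcases hpair m j hm hj hmj with h' | h'
        · exact haij (h.1.symm.trans h'.1)
        · exact h.2 (h'.2.trans hbij.symm)
      · exact h.2
    refine ⟨1, Or.inl rfl, fun m => if m = i₀ then ((ab i).2 : G → ℂ) else ((ab m).1 : G → ℂ),
      ?_, ?_, ?_⟩
    · intro m
      by_cases hm : m = i₀
      · simp only [hm, if_true]; exact (ab i).2.2
      · simp only [hm, if_false]; exact (ab m).1.2
    · intro m m' hmm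
      by_contra hne
      by_cases hm : m = i₀ <;> by_cases hm' : m' = i₀
      · exact hne (hm.trans hm'.symm)
      · simp only [hm, hm', if_true, if_false] at hmm
        have h1 := (hab m' hm').1
        rw [hall m' hm'] at h1
        exact h1 (Subtype.ext hmm.symm)
      · simp only [hm, hm', if_true, if_false] at hmm
        have h1 := (hab m hm).1
        rw [hall m hm] at h1
        exact h1 (Subtype.ext hmm)
      · simp only [hm, hm', if_false] at hmm
        rcases hpair m m' hm hm' hne with h | h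
        · exact h.2 ((hall m hm).trans (hall m' hm').symm)
        · exact h.1 (Subtype.ext hmm)
    · intro m
      by_cases hm : m = i₀
      · simp only [hm, if_true, sub_self, smul_zero]; exact h0
      · simp only [hm, if_true, if_false, one_smul]
        rw [(hab m hm).2, hall m hm]
  · -- all heads agree
    push Not at htail
    have hall : ∀ m, m ≠ i₀ → (ab m).1 = (ab i1).1 := by
      intro m hm
      have hi1' := hi1 m hm
      by_cases hmi : m = i1
      · rw [hmi]
      rcases hpair m i1 hm hi1' hmi with h | h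
      · exact h.1
      · exact absurd h.2 (htail m i1 hm hi1' hmi)
    refine ⟨-1, Or.inr rfl, fun m => if m = i₀ then ((ab i1).1 : G → ℂ) else ((ab m).2 : G → ℂ),
      ?_, ?_, ?_⟩
    · intro m
      by_cases hm : m = i₀
      · simp only [hm, if_true]; exact (ab i1).1.2
      · simp only [hm, if_false]; exact (ab m).2.2
    · intro m m' hmm
      by_contra hne
      by_cases hm : m = i₀ <;> by_cases hm' : m' = i₀
      · exact hne (hm.trans hm'.symm)
      · simp only [hm, hm', if_true, if_false] at hmm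
        have h1 := (hab m' hm').1
        rw [hall m' hm'] at h1
        exact h1 (Subtype.ext hmm)
      · simp only [hm, hm', if_true, if_false] at hmm
        have h1 := (hab m hm).1
        rw [hall m hm] at h1
        exact h1 (Subtype.ext hmm.symm)
      · simp only [hm, hm', if_false] at hmm
        exact htail m m' hm hm' hne (Subtype.ext hmm)
    · intro m
      by_cases hm : m = i₀
      · simp only [hm, if_true, sub_self, smul_zero]; exact h0
      · simp only [hm, if_true, if_false]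
        rw [(hab m hm).2, hall m hm]
        ext g
        simp

end Cfsg.Agent.S0198
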