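import Cfsg.Statements.S1505
import Mathlib
import Cfsg.Agent.Lib.Helper25.CyclicTI2

set_option autoImplicit false
open Cfsg

namespace Cfsg.Agent.S1505

open Classical in
/-- Let W₁, W₂ ≤ G form a self-normalising cyclic subgroup W = W₁ ⊔ W₂. For nontrivial linear characters φ, φ' of W trivial on W₂ and ψ, ψ' trivial on W₁, put α = (1 − φ)(1 − ψ) and α' = (1 − φ')(1 − ψ'). Then the function induced from α to G has inner product 1 with the principal character, and the inner product of the functions induced from α and α' is 1 + a + b + ab where a = 1 if φ = φ' (else 0) and b = 1 if ψ = ψ' (else 0). -/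
theorem result {G : Type*} [Group G] [Fintype G] (W₁ W₂ : Subgroup G) (hW : Cfsg.IsSelfNormalizingCyclic W₁ W₂) (φ φ' ψ ψ' : ↥(W₁ ⊔ W₂) →* ℂˣ) (hφ : φ ≠ 1) (hφ' : φ' ≠ 1) (hψ : ψ ≠ 1) (hψ' : ψ' ≠ 1) (hφ₂ : ∀ w : ↥(W₁ ⊔ W₂), (w : G) ∈ W₂ → φ w = 1 ∧ φ' w = 1) (hψ₁ : ∀ w : ↥(W₁ ⊔ W₂), (w : G) ∈ W₁ → ψ w = 1 ∧ ψ' w = 1) : Cfsg.classInner (Cfsg.indFun (W₁ ⊔ W₂) (fun w => 1 - (φ w : ℂ) - (ψ w : ℂ) + (φ w : ℂ) * (ψ w : ℂ))) (fun _ => 1) = 1 ∧ Cfsg.classInner (Cfsg.indFun (W₁ ⊔ W₂) (fun w => 1 - (φ w : ℂ) - (ψ w : ℂ) + (φ w : ℂ) * (ψ w : ℂ))) (Cfsg.indFun (W₁ ⊔ W₂) (fun w => 1 - (φ' w : ℂ) - (ψ' w : ℂ) + (φ' w : ℂ) * (ψ' w : ℂ))) = 1 + (if φ = φ' then 1 else 0) + (if ψ = ψ' then 1 else 0) + (if φ = φ' then 1 else 0) * (if ψ = ψ' then 1 else 0) := by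
  classical
  have hcomm := hW.2.2.2.1
  have hφa : ∀ w : ↥(W₁ ⊔ W₂), (w : G) ∈ W₂ → φ w = 1 := fun w h => (hφ₂ w h).1
  have hφ'a : ∀ w : ↥(W₁ ⊔ W₂), (w : G) ∈ W₂ → φ' w = 1 := fun w h => (hφ₂ w h).2
  have hψa : ∀ w : ↥(W₁ ⊔ W₂), (w : G) ∈ W₁ → ψ w = 1 := fun w h => (hψ₁ w h).1
  have hψ'a : ∀ w : ↥(W₁ ⊔ W₂), (w : G) ∈ W₁ → ψ' w = 1 := fun w h => (hψ₁ w h).2
  have hz : ∀ w : ↥(W₁ ⊔ W₂), ((w : G) ∈ W₁ ∨ (w : G) ∈ W₂) →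
      Helper25.alphaFun W₁ W₂ φ ψ w = 0 := Helper25.alphaFun_eq_zero W₁ W₂ φ ψ hφa hψa
  have hz' : ∀ w : ↥(W₁ ⊔ W₂), ((w : G) ∈ W₁ ∨ (w : G) ∈ W₂) →
      Helper25.alphaFun W₁ W₂ φ' ψ' w = 0 := Helper25.alphaFun_eq_zero W₁ W₂ φ' ψ' hφ'a hψ'a
  constructor
  · have hcl : IsClassFunction G (fun _ : G => (1 : ℂ)) := fun _ _ => rfl
    have h1 := Helper81.frobenius_reciprocity (W₁ ⊔ W₂) (Helper25.alphaFun W₁ W₂ φ ψ) hcl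
    have h2 : (fun _ : ↥(W₁ ⊔ W₂) => (1 : ℂ)) = Helper25.cf 1 := by
      funext w; simp [Helper25.cf]
    have one1 : ∀ w : ↥(W₁ ⊔ W₂), (w : G) ∈ W₂ → (1 : ↥(W₁ ⊔ W₂) →* ℂˣ) w = 1 := fun _ _ => rfl
    have one2 : ∀ w : ↥(W₁ ⊔ W₂), (w : G) ∈ W₁ → (1 : ↥(W₁ ⊔ W₂) →* ℂˣ) w = 1 := fun _ _ => rfl
    have n10 : φ * ψ ≠ 1 := fun h =>
      hφ (Cfsg.Agent.S1504.pair_injective W₁ W₂ hcomm φ ψ 1 1 hφa hψa one1 one2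
        (by rw [h]; exact (mul_one (1 : ↥(W₁ ⊔ W₂) →* ℂˣ)).symm)).1
    show classInner (indFun (W₁ ⊔ W₂) (Helper25.alphaFun W₁ W₂ φ ψ)) (fun _ => 1) = 1
    rw [h1, h2, Helper25.alphaFun_eq_cf]
    simp only [Helper81.classInner_add_left, Helper81.classInner_sub_left, Helper25.classInner_cf]
    rw [if_neg hφ, if_neg hψ, if_neg n10]
    simp
  · have := Helper25.classInner_indFun_indFun_of_TI W₁ W₂ hW _ _ hz hz'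
    show classInner (indFun (W₁ ⊔ W₂) (Helper25.alphaFun W₁ W₂ φ ψ))
      (indFun (W₁ ⊔ W₂) (Helper25.alphaFun W₁ W₂ φ' ψ')) = _
    rw [this]
    exact Helper25.classInner_alphaFun W₁ W₂ hcomm φ ψ φ' ψ' hφa hψa hφ'a hψ'a hφ hψ hφ' hψ'

end Cfsg.Agent.S1505
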