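import Cfsg.Statements.S1498
import Mathlib

set_option autoImplicit false
open Cfsg

namespace Cfsg.Agent.S1498

theorem mem_of_coprime {C : Type*} [Group C] [Finite C] (N K : Subgroup C) [N.Normal]
    (hsup : N ⊔ K = ⊤) (w : C) (hw : (orderOf w).Coprime (Nat.card K)) : w ∈ N := by
  have hmem : w ∈ N ⊔ K := by rw [hsup]; trivial
  rw [Subgroup.mem_sup_of_normal_left] at hmem
  obtain ⟨n, hn, k, hk, rfl⟩ := hmem
  set q := QuotientGroup.mk' N with hq
  have h1 : q (n * k) = q k := by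
    rw [map_mul]
    have : q n = 1 := (QuotientGroup.eq_one_iff n).mpr hn
    rw [this, one_mul]
  have h2 : (q (n * k)) ^ (Nat.card K) = 1 := by
    rw [h1, ← map_pow]
    have : k ^ Nat.card K = 1 := by
      have := Subgroup.orderOf_dvd_natCard K hk
      exact orderOf_dvd_iff_pow_eq_one.mp this
    rw [this, map_one]
  have h3 : orderOf (q (n * k)) ∣ Nat.card K := orderOf_dvd_of_pow_eq_one h2
  have h4 : orderOf (q (n * k)) ∣ orderOf (n * k) := orderOf_map_dvd q (n * k)
  have h5 : orderOf (q (n * k)) ∣ 1 := by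
    have := Nat.dvd_gcd h4 h3
    rwa [hw] at this
  have h6 : q (n * k) = 1 := orderOf_eq_one_iff.mp (Nat.dvd_one.mp h5)
  exact (QuotientGroup.eq_one_iff (n * k)).mp h6

theorem map_le {G : Type*} [Group G] [Finite G] (A : Set G) (L : Subgroup G) (H : G → Subgroup G)
    (hD : Cfsg.DadeHypothesis A L H) (a : G) (ha : a ∈ A) (x : G) (hx : x ∈ L) :
    (H a).map (MulAut.conj x).toMonoidHom ≤ H (x * a * x⁻¹) := by
  have ha' : x * a * x⁻¹ ∈ A := hD.conj_mem x hx a ha
  set a' := x * a * x⁻¹ with ha'def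
  set C := Subgroup.centralizer ({a'} : Set G) with hC
  have hHC : H a' ≤ C := hD.le_centralizer a' ha'
  have : ((H a').subgroupOf C).Normal := by
    constructor
    intro n hn g
    rw [Subgroup.mem_subgroupOf] at hn ⊢
    exact hD.conj_mem_H a' ha' g g.2 n hn
  have hsup : (H a').subgroupOf C ⊔ (L ⊓ C).subgroupOf C = ⊤ := by
    rw [← Subgroup.subgroupOf_sup hHC inf_le_right, hD.sup_eq a' ha']
    exact Subgroup.subgroupOf_self C
  rintro w ⟨u, hu, rfl⟩
  have hwC : (MulAut.conj x).toMonoidHom u ∈ C := by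
    have huC := hD.le_centralizer a ha hu
    rw [Subgroup.mem_centralizer_singleton_iff] at huC
    rw [hC, Subgroup.mem_centralizer_singleton_iff]
    simp only [MulEquiv.toMonoidHom_eq_coe, MonoidHom.coe_coe, MulAut.conj_apply, ha'def]
    calc x * u * x⁻¹ * (x * a * x⁻¹) = x * (u * a) * x⁻¹ := by group
      _ = x * (a * u) * x⁻¹ := by rw [huC]
      _ = x * a * x⁻¹ * (x * u * x⁻¹) := by group
  have hord : (orderOf (⟨_, hwC⟩ : C)).Coprime (Nat.card ((L ⊓ C).subgroupOf C)) := by
    have e1 : orderOf (⟨_, hwC⟩ : C) = orderOf u := by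
      rw [← Subgroup.orderOf_coe]
      simp only [MulEquiv.toMonoidHom_eq_coe, MonoidHom.coe_coe]
      exact MulEquiv.orderOf_eq _ u
    have e2 : Nat.card ((L ⊓ C).subgroupOf C) = Nat.card (L ⊓ C : Subgroup G) :=
      Nat.card_congr (Subgroup.subgroupOfEquivOfLe inf_le_right).toEquiv
    rw [e1, e2]
    exact Nat.Coprime.coprime_dvd_left (Subgroup.orderOf_dvd_natCard _ hu) (hD.coprime a ha a' ha')
  have := mem_of_coprime ((H a').subgroupOf C) ((L ⊓ C).subgroupOf C) hsup ⟨_, hwC⟩ hord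
  rw [Subgroup.mem_subgroupOf] at this
  exact this

/-- Under the Dade hypothesis for (A, L, H): for a ∈ A and x ∈ L, the subgroup attached to x * a * x⁻¹ is the conjugate of H a by x. -/
theorem result {G : Type*} [Group G] [Finite G] (A : Set G) (L : Subgroup G) (H : G → Subgroup G) (hD : Cfsg.DadeHypothesis A L H) (a : G) (ha : a ∈ A) (x : G) (hx : x ∈ L) : H (x * a * x⁻¹) = (H a).map (MulAut.conj x).toMonoidHom := by
  apply le_antisymm
  · have ha' : x * a * x⁻¹ ∈ A := hD.conj_mem x hx a ha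
    have h1 := map_le A L H hD (x * a * x⁻¹) ha' x⁻¹ (L.inv_mem hx)
    have e : x⁻¹ * (x * a * x⁻¹) * x⁻¹⁻¹ = a := by group
    rw [e] at h1
    intro w hw
    refine ⟨x⁻¹ * w * x, ?_, ?_⟩
    · apply h1
      refine ⟨w, hw, ?_⟩
      simp
    · simp only [MulEquiv.toMonoidHom_eq_coe, MonoidHom.coe_coe, MulAut.conj_apply]
      group
  · exact map_le A L H hD a ha x hx

end Cfsg.Agent.S1498
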