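import Cfsg.Statements.S1499
import Mathlib

set_option autoImplicit false
open Cfsg

namespace Cfsg.Agent.S1499

variable {G : Type*} [Group G] [Finite G]

theorem exists_pow (A : Set G) (L : Subgroup G) (H : G → Subgroup G)
    (hD : Cfsg.DadeHypothesis A L H) (a b : G) (ha : a ∈ A) (hb : b ∈ A)
    (u v : G) (hu : u ∈ H a) (hv : v ∈ H b) :
    ∃ k : ℕ, (a * u) ^ k = a ∧ (b * v) ^ k = b := by
  classical
  set Ca := L ⊓ Subgroup.centralizer ({a} : Set G) with hCa
  set Cb := L ⊓ Subgroup.centralizer ({b} : Set G) with hCb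
  have haC : a ∈ Ca := ⟨hD.subset ha, Subgroup.mem_centralizer_singleton_iff.mpr rfl⟩
  have hbC : b ∈ Cb := ⟨hD.subset hb, Subgroup.mem_centralizer_singleton_iff.mpr rfl⟩
  have hoa : orderOf a ∣ Nat.card Ca := by
    have := Subgroup.orderOf_dvd_natCard Ca haC
    exact this
  have hob : orderOf b ∣ Nat.card Cb := Subgroup.orderOf_dvd_natCard Cb hbC
  have hou : orderOf u ∣ Nat.card (H a) := Subgroup.orderOf_dvd_natCard _ hu
  have hov : orderOf v ∣ Nat.card (H b) := Subgroup.orderOf_dvd_natCard _ hv
  set N1 := Nat.card Ca * Nat.card Cb with hN1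
  set N2 := Nat.card (H a) * Nat.card (H b) with hN2
  have hcop : Nat.Coprime N2 N1 := by
    apply Nat.Coprime.mul_left
    · apply Nat.Coprime.mul_right
      · exact hD.coprime a ha a ha
      · exact hD.coprime a ha b hb
    · apply Nat.Coprime.mul_right
      · exact hD.coprime b hb a ha
      · exact hD.coprime b hb b hb
  have ha1 : a ≠ 1 := fun h => hD.one_not_mem (h ▸ ha)
  have hN1gt : 1 < N1 := by
    have h1 : 1 < orderOf a := by
      have hpos : 0 < orderOf a := orderOf_pos a
      have hne : orderOf a ≠ 1 := by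
        intro h; exact ha1 (orderOf_eq_one_iff.mp h)
      omega
    have h2 : orderOf a ∣ N1 := Dvd.dvd.mul_right hoa _
    have hN1pos : 0 < N1 := Nat.mul_pos Nat.card_pos Nat.card_pos
    have := Nat.le_of_dvd hN1pos h2
    omega
  obtain ⟨m, -, hm⟩ := Nat.exists_mul_mod_eq_one_of_coprime hcop hN1gt
  refine ⟨N2 * m, ?_, ?_⟩
  · have hcomm : Commute a u := by
      have := hD.le_centralizer a ha hu
      rw [Subgroup.mem_centralizer_singleton_iff] at this
      exact this.symm
    rw [hcomm.mul_pow]
    have h1 : u ^ (N2 * m) = 1 := by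
      apply orderOf_dvd_iff_pow_eq_one.mp
      exact Dvd.dvd.mul_right (Dvd.dvd.mul_right hou _) _
    have h2 : a ^ (N2 * m) = a := by
      have : a ^ (N2 * m) = a ^ 1 := by
        rw [pow_eq_pow_iff_modEq]
        have : N2 * m ≡ 1 [MOD N1] := by
          unfold Nat.ModEq
          rw [hm]
          exact (Nat.mod_eq_of_lt hN1gt).symm
        exact this.of_dvd (Dvd.dvd.mul_right hoa _)
      simpa using this
    rw [h1, h2, mul_one]
  · have hcomm : Commute b v := by
      have := hD.le_centralizer b hb hv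
      rw [Subgroup.mem_centralizer_singleton_iff] at this
      exact this.symm
    rw [hcomm.mul_pow]
    have h1 : v ^ (N2 * m) = 1 := by
      apply orderOf_dvd_iff_pow_eq_one.mp
      exact Dvd.dvd.mul_right (Dvd.dvd.mul_left hov _) _
    have h2 : b ^ (N2 * m) = b := by
      have : b ^ (N2 * m) = b ^ 1 := by
        rw [pow_eq_pow_iff_modEq]
        have : N2 * m ≡ 1 [MOD N1] := by
          unfold Nat.ModEq
          rw [hm]
          exact (Nat.mod_eq_of_lt hN1gt).symm
        exact this.of_dvd (Dvd.dvd.mul_left hob _)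
      simpa using this
    rw [h1, h2, mul_one]

theorem conj_eq (A : Set G) (L : Subgroup G) (H : G → Subgroup G)
    (hD : Cfsg.DadeHypothesis A L H) (a b : G) (ha : a ∈ A) (hb : b ∈ A)
    (u v : G) (hu : u ∈ H a) (hv : v ∈ H b) (g : G) (hg : g * (a * u) * g⁻¹ = b * v) :
    g * a * g⁻¹ = b := by
  obtain ⟨k, hk1, hk2⟩ := exists_pow A L H hD a b ha hb u v hu hv
  have := congrArg (· ^ k) hg
  simp only [conj_pow, hk1, hk2] at this
  exact this

/-- Under the Dade hypothesis for (A, L, H), let a, b ∈ A. If an element of the coset a·H(a) is conjugate in G to an element of b·H(b), then a and b are conjugate by an element of L. Moreover the set normaliser of the coset a·H(a) is the centraliser of a. -/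
theorem result {G : Type*} [Group G] [Finite G] (A : Set G) (L : Subgroup G) (H : G → Subgroup G) (hD : Cfsg.DadeHypothesis A L H) (a b : G) (ha : a ∈ A) (hb : b ∈ A) : ((∃ u ∈ H a, ∃ v ∈ H b, ∃ g : G, g * (a * u) * g⁻¹ = b * v) → ∃ x ∈ L, x * a * x⁻¹ = b) ∧ Subgroup.normalizer ((fun u : G => a * u) '' (H a : Set G)) = Subgroup.centralizer ({a} : Set G) := by
  constructor
  · rintro ⟨u, hu, v, hv, g, hg⟩
    have h1 := conj_eq A L H hD a b ha hb u v hu hv g hg
    have h2 : g * a * g⁻¹ ∈ A := h1 ▸ hb
    obtain ⟨x, hx, hx2⟩ := hD.fusion a ha g h2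
    exact ⟨x, hx, hx2.trans h1⟩
  · have hsub : ∀ g ∈ Subgroup.centralizer ({a} : Set G), ∀ n ∈ (fun u : G => a * u) '' (H a : Set G),
        g * n * g⁻¹ ∈ (fun u : G => a * u) '' (H a : Set G) := by
      rintro g hg n ⟨u, hu, rfl⟩
      refine ⟨g * u * g⁻¹, hD.conj_mem_H a ha g hg u hu, ?_⟩
      rw [Subgroup.mem_centralizer_singleton_iff] at hg
      show a * (g * u * g⁻¹) = g * (a * u) * g⁻¹
      calc a * (g * u * g⁻¹) = (a * g) * u * g⁻¹ := by group
        _ = (g * a) * u * g⁻¹ := by rw [hg]
        _ = g * (a * u) * g⁻¹ := by group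
    apply le_antisymm
    · intro g hg
      rw [Subgroup.mem_set_normalizer_iff] at hg
      have h1 : a ∈ (fun u : G => a * u) '' (H a : Set G) := ⟨1, (H a).one_mem, mul_one a⟩
      obtain ⟨u', hu', hu'2⟩ := (hg a).mp h1
      have h3 : g * (a * 1) * g⁻¹ = a * u' := by rw [mul_one]; exact hu'2.symm
      have := conj_eq A L H hD a a ha ha 1 u' (H a).one_mem hu' g h3
      rw [Subgroup.mem_centralizer_singleton_iff]
      calc g * a = g * a * g⁻¹ * g := by group
        _ = a * g := by rw [this]
    · intro g hg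
      rw [Subgroup.mem_set_normalizer_iff]
      intro n
      constructor
      · exact hsub g hg n
      · intro hn
        have := hsub g⁻¹ (Subgroup.inv_mem _ hg) _ hn
        have e : g⁻¹ * (g * n * g⁻¹) * g⁻¹⁻¹ = n := by group
        rw [e] at this
        exact this

end Cfsg.Agent.S1499
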