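import Cfsg.Statements.S1512
import Mathlib
import Cfsg.Agent.S1496

set_option autoImplicit false
open Cfsg

namespace Cfsg.Agent.S1512

theorem exists_rep {L : Type*} [Group L] [Finite L] (K W₂ : Subgroup L) [hK : K.Normal] (x : L)
    (hx : Nat.Coprime (orderOf x) (Nat.card K))
    (hCx : K ⊓ Subgroup.centralizer ({x} : Set L) = W₂)
    (C : ConjClasses K)
    (hC : ConjClasses.map (MulEquiv.toMonoidHom ((MulAut.conjNormal x : MulAut K))) C = C) :
    ∃ w : W₂, ∃ hw : (w : L) ∈ K, ConjClasses.mk (⟨w, hw⟩ : K) = C := by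
  obtain ⟨k, rfl⟩ := ConjClasses.exists_rep C
  have hmap : ConjClasses.map (MulEquiv.toMonoidHom ((MulAut.conjNormal x : MulAut K))) (ConjClasses.mk k)
      = ConjClasses.mk ((MulAut.conjNormal x : MulAut K) k) := rfl
  rw [hmap, ConjClasses.mk_eq_mk_iff_isConj, isConj_comm, isConj_iff] at hC
  obtain ⟨u, hu⟩ := hC
  have hu' : (u : L) * k * (u : L)⁻¹ = x * k * x⁻¹ := by
    have := congrArg Subtype.val hu
    simpa using this
  have hxN : x ∈ Subgroup.normalizer (K : Set L) := by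
    have : Subgroup.normalizer (K : Set L) = ⊤ := Subgroup.normalizer_eq_top K
    rw [this]; trivial
  obtain ⟨y, hy, c, hc, hcx, hyc⟩ := Cfsg.Agent.S1496.result K x hxN hx (u : L)⁻¹ (K.inv_mem u.2)
  -- u⁻¹ x commutes with k
  have hcomm1 : ((u : L)⁻¹ * x) * k = k * ((u : L)⁻¹ * x) := by
    calc (u : L)⁻¹ * x * k = (u : L)⁻¹ * (x * k * x⁻¹) * x := by group
      _ = (u : L)⁻¹ * ((u : L) * k * (u : L)⁻¹) * x := by rw [hu']
      _ = k * ((u : L)⁻¹ * x) := by group
  -- c x commutes with y k y⁻¹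
  have hcomm2 : (c * x) * (y * k * y⁻¹) = (y * k * y⁻¹) * (c * x) := by
    rw [← hyc]
    calc y * ((u : L)⁻¹ * x) * y⁻¹ * (y * k * y⁻¹) = y * (((u : L)⁻¹ * x) * k) * y⁻¹ := by group
      _ = y * (k * ((u : L)⁻¹ * x)) * y⁻¹ := by rw [hcomm1]
      _ = y * k * y⁻¹ * (y * ((u : L)⁻¹ * x) * y⁻¹) := by group
  have hcpow : c ^ (Nat.card K) = 1 := by
    have := Subgroup.orderOf_dvd_natCard K hc
    exact orderOf_dvd_iff_pow_eq_one.mp this
  obtain ⟨j, hj⟩ := Cfsg.Agent.S1496.extract hcx (pow_orderOf_eq_one x) hcpow hx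
  have hcomm3 : x * (y * k * y⁻¹) = (y * k * y⁻¹) * x := by
    have hc' : Commute (c * x) (y * k * y⁻¹) := hcomm2
    have := (hc'.pow_left j).eq
    rw [hj] at this
    exact this
  have hk'K : y * k * y⁻¹ ∈ K := K.mul_mem (K.mul_mem hy k.2) (K.inv_mem hy)
  have hk'W : y * k * y⁻¹ ∈ W₂ := by
    rw [← hCx]
    exact ⟨hk'K, Subgroup.mem_centralizer_singleton_iff.mpr hcomm3.symm⟩
  refine ⟨⟨y * k * y⁻¹, hk'W⟩, hk'K, ?_⟩
  rw [ConjClasses.mk_eq_mk_iff_isConj, isConj_comm, isConj_iff]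
  exact ⟨⟨y, hy⟩, by apply Subtype.ext; simp⟩

/-- Let K be a normal subgroup of the finite group L and x a non-identity element whose order is coprime to the order of K, such that K ⊓ C_L(y) = W₂ for every non-identity element y of the cyclic group generated by x. Then the number of conjugacy classes of K mapped to themselves by conjugation by x is at most Nat.card W₂. -/
theorem result {L : Type*} [Group L] [Finite L] (K W₂ : Subgroup L) [hK : K.Normal] (x : L) (hx1 : x ≠ 1) (hx : Nat.Coprime (orderOf x) (Nat.card K)) (hC : ∀ y ∈ Subgroup.zpowers x, y ≠ 1 → K ⊓ Subgroup.centralizer ({y} : Set L) = W₂) : Nat.card {C : ConjClasses K // ConjClasses.map (MulEquiv.toMonoidHom ((MulAut.conjNormal x : MulAut K))) C = C} ≤ Nat.card W₂ := by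
  classical
  have hCx : K ⊓ Subgroup.centralizer ({x} : Set L) = W₂ := hC x (Subgroup.mem_zpowers x) hx1
  have hex := fun (C : {C : ConjClasses K // ConjClasses.map (MulEquiv.toMonoidHom ((MulAut.conjNormal x : MulAut K))) C = C}) =>
    exists_rep K W₂ x hx hCx C.1 C.2
  choose f hfK hf using hex
  apply Nat.card_le_card_of_injective f
  intro C C' hCC'
  apply Subtype.ext
  rw [← hf C, ← hf C']
  congr 1
  apply Subtype.ext
  simp only
  rw [hCC']

end Cfsg.Agent.S1512
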