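import Mathlib
import Cfsg.Statements.S1575
import Cfsg.Agent.Lib.Helper26.LO1575P0
import Cfsg.Agent.Lib.Helper26.LO1575P1
import Cfsg.Agent.Lib.Helper26.LO1575P2
import Cfsg.Agent.Lib.Helper26.LO1575P3
import Cfsg.Agent.Lib.Helper26.LO1575P4

set_option autoImplicit false
open Cfsg

namespace Cfsg.Agent.S1575

open Cfsg.Agent.Helper7 Cfsg.Agent.Helper26 Cfsg.Agent.Helper26.LOP Cfsg.Agent.Helper26.LO1575

/-- all parts -/
def allParts : List (List ℕ) := [keys0, keys1, keys2, keys3, keys4, keys5, keys6, keys7, keys8, keys9]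

theorem hparts : ∀ S ∈ allParts, ∀ k ∈ S, RK (fixH [v0]) x0 k := by
  intro S hS
  simp only [allParts, List.mem_cons, List.not_mem_nil, or_false] at hS
  rcases hS with rfl | rfl | rfl | rfl | rfl | rfl | rfl | rfl | rfl | rfl
  · exact rk0
  · exact rk1
  · exact rk2
  · exact rk3
  · exact rk4
  · exact rk5
  · exact rk6
  · exact rk7
  · exact rk8
  · exact rk9

set_option maxRecDepth 100000 in
theorem final : finalOK allParts 47104 47105 4 = true := by decide +kernel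

theorem key : ∀ y ∈ {w : GolayPt → ℤ | w ∈ leechLattice ∧ sqNorm w = 32 ∧ dotInt v0.1 w = -8},
    ∃ g ∈ fixH [v0], (g x0).1 = y := by
  refine final_trans (fixH [v0]) x0 _ 47104 (census32 v0.1 v0.2 v0_norm).2.1 (by norm_num) ?_ allParts hparts
    47105 4 final
  intro g hg
  refine ⟨(g x0).2, ?_, ?_⟩
  · rw [fixH_norm hg, x0_norm]
  · rw [fixH_dot hg List.mem_cons_self, x0_dot]

/-- The stabiliser of a minimal vector is transitive on the minimal vectors of customary inner product −1 with it. -/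
theorem result (v w w' : ↥Cfsg.leechLattice) (hv : Cfsg.sqNorm (v : Cfsg.GolayPt → ℤ) = 32) (hw : Cfsg.sqNorm (w : Cfsg.GolayPt → ℤ) = 32) (hw' : Cfsg.sqNorm (w' : Cfsg.GolayPt → ℤ) = 32) (hd : Cfsg.dotInt (v : Cfsg.GolayPt → ℤ) (w : Cfsg.GolayPt → ℤ) = -8) (hd' : Cfsg.dotInt (v : Cfsg.GolayPt → ℤ) (w' : Cfsg.GolayPt → ℤ) = -8) : ∃ g : ↥Cfsg.Co0, g • v = v ∧ g • w = w' := by
  obtain ⟨g0, hg0, hgv⟩ := co0_trans32 v v0 hv v0_norm
  have hw1 : (g0 w).1 ∈ {y : GolayPt → ℤ | y ∈ leechLattice ∧ sqNorm y = 32 ∧ dotInt v0.1 y = -8} :=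
    ⟨(g0 w).2, by rw [hg0.2]; exact hw, by rw [← hgv, co0_dot g0 hg0]; exact hd⟩
  have hw2 : (g0 w').1 ∈ {y : GolayPt → ℤ | y ∈ leechLattice ∧ sqNorm y = 32 ∧ dotInt v0.1 y = -8} :=
    ⟨(g0 w').2, by rw [hg0.2]; exact hw', by rw [← hgv, co0_dot g0 hg0]; exact hd'⟩
  obtain ⟨h, hh, hhw⟩ := trans_of_key key hw1 hw2
  have hhv : h v0 = v0 := hh.2 v0 List.mem_cons_self
  refine ⟨⟨g0⁻¹ * h * g0, Co0.mul_mem (Co0.mul_mem (Co0.inv_mem hg0) hh.1) hg0⟩, ?_, ?_⟩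
  · show (g0⁻¹ * h * g0) v = v
    simp only [Equiv.Perm.mul_apply]
    rw [hgv, hhv, ← hgv]
    simp
  · show (g0⁻¹ * h * g0) w = w'
    simp only [Equiv.Perm.mul_apply]
    rw [hhw]
    simp

end Cfsg.Agent.S1575
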