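import Mathlib
import Cfsg.Statements.S1579
import Cfsg.Agent.S1575

set_option autoImplicit false
open Cfsg

namespace Cfsg.Agent.S1579

/-- The stabiliser of a vector of customary norm 6 is transitive on the 552 minimal vectors that complete it to a sum of two minimal vectors. -/
theorem result (u v v' : ↥Cfsg.leechLattice) (hu : Cfsg.sqNorm (u : Cfsg.GolayPt → ℤ) = 48) (hv : Cfsg.sqNorm (v : Cfsg.GolayPt → ℤ) = 32 ∧ Cfsg.sqNorm ((u - v) : Cfsg.GolayPt → ℤ) = 32) (hv' : Cfsg.sqNorm (v' : Cfsg.GolayPt → ℤ) = 32 ∧ Cfsg.sqNorm ((u - v') : Cfsg.GolayPt → ℤ) = 32) : ∃ g : ↥Cfsg.Co0, g • u = u ∧ g • v = v' := by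
  open Cfsg.Agent.Helper7 in
  obtain ⟨hv1, hv2⟩ := hv
  obtain ⟨hv1', hv2'⟩ := hv'
  -- the complementary summands
  have key : ∀ a : ↥Cfsg.leechLattice, Cfsg.sqNorm (a : Cfsg.GolayPt → ℤ) = 32 →
      Cfsg.sqNorm ((u - a : ↥Cfsg.leechLattice) : Cfsg.GolayPt → ℤ) = 32 →
      Cfsg.dotInt (a : Cfsg.GolayPt → ℤ) ((u - a : ↥Cfsg.leechLattice) : Cfsg.GolayPt → ℤ) = -8 := by
    intro a ha1 ha2
    have h1 : (u : Cfsg.GolayPt → ℤ) = (a : Cfsg.GolayPt → ℤ) + ((u - a : ↥Cfsg.leechLattice) : Cfsg.GolayPt → ℤ) := by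
      rw [AddSubgroup.coe_sub]; abel
    have h2 := Cfsg.Agent.Helper7.sqNorm_add (a : Cfsg.GolayPt → ℤ) ((u - a : ↥Cfsg.leechLattice) : Cfsg.GolayPt → ℤ)
    rw [← h1, hu, ha1, ha2] at h2
    omega
  have d1 := key v hv1 hv2
  have d2 := key v' hv1' hv2'
  obtain ⟨h, hh, hhv⟩ := Cfsg.Agent.Helper7.co0_trans32 v v' hv1 hv1'
  have d3 : Cfsg.dotInt (v' : Cfsg.GolayPt → ℤ) ((h (u - v) : ↥Cfsg.leechLattice) : Cfsg.GolayPt → ℤ) = -8 := by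
    rw [← hhv, Cfsg.Agent.Helper7.co0_dot h hh]; exact d1
  have n3 : Cfsg.sqNorm ((h (u - v) : ↥Cfsg.leechLattice) : Cfsg.GolayPt → ℤ) = 32 := by
    rw [hh.2]; exact hv2
  obtain ⟨g1, hg1v, hg1w⟩ := Cfsg.Agent.S1575.result v' (h (u - v)) (u - v') hv1' n3 hv2' d3 d2
  refine ⟨g1 * ⟨h, hh⟩, ?_, ?_⟩
  · have e1 : (g1 * ⟨h, hh⟩ : ↥Cfsg.Co0) • v = v' := by
      rw [mul_smul]
      show g1 • (h v) = v'
      rw [hhv]; exact hg1v
    have e2 : (g1 * ⟨h, hh⟩ : ↥Cfsg.Co0) • (u - v) = u - v' := by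
      rw [mul_smul]
      exact hg1w
    have hadd : ∀ (g : ↥Cfsg.Co0) (a b : ↥Cfsg.leechLattice), g • (a + b) = g • a + g • b :=
      fun g a b => g.2.1 a b
    have : u = v + (u - v) := by abel
    rw [this, hadd, e1, e2]
    abel
  · rw [mul_smul]
    show g1 • (h v) = v'
    rw [hhv]; exact hg1v

end Cfsg.Agent.S1579
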