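import Cfsg.Statements.S0379
import Mathlib
import Cfsg.Agent.Lib.Helper12.Jordan
import Cfsg.Agent.Lib.Helper95.NormCent
import Cfsg.Agent.Lib.Helper95.SharpSimple
import Cfsg.Agent.S0378
import Cfsg.Agent.S0366

set_option autoImplicit false
open Cfsg

namespace Cfsg.Agent.S0379

open MulAction Cfsg.Agent.Helper95

section abstract

variable {H : Type*} [Group H] {α : Type*} [Fintype α] [DecidableEq α] [MulAction H α]
  [FaithfulSMul H α]

/-- point stabilizers have order 20160. -/
theorem card_stab1 (hn : Fintype.card α = 22) [IsPretransitive H α]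
    (hH : Nat.card H = 443520) (x : α) : Nat.card (stabilizer H x) = 20160 := by
  have h1 := MulAction.index_stabilizer_of_transitive (G := H) (x := x)
  rw [Nat.card_eq_fintype_card, hn] at h1
  have h2 := Subgroup.card_mul_index (stabilizer H x)
  rw [h1, hH] at h2
  omega

/-- stabilizers of triples have order 48. -/
theorem card_stab3 (hn : Fintype.card α = 22) [IsMultiplyPretransitive H α 3]
    (hH : Nat.card H = 443520) (e : Fin 3 ↪ α) : Nat.card (stabilizer H e) = 48 := by
  have h1 := MulAction.index_stabilizer_of_transitive (G := H) (x := e)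
  rw [Nat.card_eq_fintype_card, Fintype.card_embedding_eq, Fintype.card_fin, hn] at h1
  have h2 := Subgroup.card_mul_index (stabilizer H e)
  rw [h1, hH, show Nat.descFactorial 22 3 = 9240 from by decide] at h2
  omega

/-- an element of order 7 fixes at most two points. -/
theorem fix_le_two (hn : Fintype.card α = 22) [IsMultiplyPretransitive H α 3]
    (hH : Nat.card H = 443520) (c : H) (hc : orderOf c = 7) :
    ((MulAction.toPermHom H α c).support)ᶜ.card ≤ 2 := by
  by_contra hcon
  rw [not_le] at hcon
  obtain ⟨x, hx, y, hy, z, hz, hxy, hxz, hyz⟩ := Finset.two_lt_card.mp hcon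
  rw [Finset.mem_compl, Equiv.Perm.notMem_support] at hx hy hz
  let e : Fin 3 ↪ α := ⟨![x, y, z], by
    intro i j hij
    fin_cases i <;> fin_cases j <;> simp_all⟩
  have hce : c ∈ stabilizer H e := by
    rw [mem_stabilizer_iff]
    ext i
    fin_cases i
    · exact hx
    · exact hy
    · exact hz
  have h1 := Subgroup.orderOf_dvd_natCard _ hce
  rw [hc, card_stab3 hn hH e] at h1
  omega

/-- a generator of a subgroup of prime order. -/
theorem exists_gen {p : ℕ} (hp : p.Prime) (P : Subgroup H) (hP : Nat.card P = p) :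
    ∃ c ∈ P, orderOf c = p := by
  have hPne : P ≠ ⊥ := by
    intro h
    rw [h, Subgroup.card_bot] at hP
    exact hp.one_lt.ne hP
  obtain ⟨⟨c, hcP⟩, hc1'⟩ := (Subgroup.ne_bot_iff_exists_ne_one).mp hPne
  have hc1 : c ≠ 1 := fun h => hc1' (Subtype.ext h)
  refine ⟨c, hcP, ?_⟩
  have h1 : orderOf (⟨c, hcP⟩ : P) ∣ p := hP ▸ orderOf_dvd_natCard _
  rw [← Subgroup.orderOf_coe] at h1
  have h2 : orderOf c ≠ 1 := fun h => hc1 (orderOf_eq_one_iff.mp h)
  rcases (Nat.dvd_prime hp).mp h1 with h | h
  · exact absurd h h2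
  · exact h

theorem card_normalizer_seven [Finite H] (hn : Fintype.card α = 22)
    [IsMultiplyPretransitive H α 3] (hH : Nat.card H = 443520) (P : Subgroup H)
    (hP : Nat.card P = 7) : Nat.card (Subgroup.normalizer (P : Set H)) ∣ 12348 := by
  obtain ⟨c, hcP, hc⟩ := exists_gen (by norm_num : Nat.Prime 7) P hP
  have hfix := fix_le_two hn hH c hc
  have hinj : Function.Injective (MulAction.toPermHom H α) := MulAction.toPerm_injective
  have hσ : orderOf (MulAction.toPermHom H α c) = 7 := by
    rw [orderOf_injective (MulAction.toPermHom H α) hinj c, hc]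
  obtain ⟨n, hnc⟩ := Equiv.Perm.cycleType_prime_order (σ := MulAction.toPermHom H α c)
    (by rw [hσ]; norm_num)
  rw [hσ] at hnc
  have hsum : (MulAction.toPermHom H α c).support.card = (n + 1) * 7 := by
    rw [← Equiv.Perm.sum_cycleType, hnc, Multiset.sum_replicate, smul_eq_mul]
  have hle : (MulAction.toPermHom H α c).support.card ≤ 22 := by
    rw [← hn]; exact Finset.card_le_univ _
  have hcompl := Finset.card_compl (MulAction.toPermHom H α c).support
  rw [hn] at hcompl
  have hn2 : n + 1 = 3 := by omega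
  rw [hn2] at hsum
  have := card_normalizer_dvd (α := α) 7 (by norm_num) P hP c hcP hc 3 hsum
  rw [hn] at this
  exact this

theorem card_normalizer_eleven [Finite H] (hn : Fintype.card α = 22)
    [IsMultiplyPretransitive H α 3] (hH : Nat.card H = 443520) (P : Sylow 11 H)
    (hP : Nat.card (P : Subgroup H) = 11) :
    Nat.card (Subgroup.normalizer ((P : Subgroup H) : Set H)) = 55 := by
  have hp11 : Fact (Nat.Prime 11) := ⟨by norm_num⟩
  have hnc : Nat.card α = 22 := by rw [Nat.card_eq_fintype_card, hn]
  have h1 : IsMultiplyPretransitive H α 1 :=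
    isMultiplyPretransitive_of_le (n := 3) (by norm_num) (by rw [hnc]; norm_num)
  have ht : IsPretransitive H α := is_one_pretransitive_iff.mp h1
  obtain ⟨c, hcP, hc⟩ := exists_gen (by norm_num : Nat.Prime 11) (P : Subgroup H) hP
  have hmove : ∀ x : α, c • x ≠ x := by
    intro x hx
    have hcx : c ∈ stabilizer H x := mem_stabilizer_iff.mpr hx
    have h2 := Subgroup.orderOf_dvd_natCard _ hcx
    rw [hc, card_stab1 hn hH x] at h2
    omega
  have hsupp : (MulAction.toPermHom H α c).support.card = 2 * 11 := by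
    have : (MulAction.toPermHom H α c).support = Finset.univ := by
      rw [Finset.eq_univ_iff_forall]
      intro x
      rw [Equiv.Perm.mem_support]
      exact hmove x
    rw [this, Finset.card_univ, hn]
  have hdvd := card_normalizer_dvd (α := α) 11 (by norm_num) (P : Subgroup H) hP c hcP hc 2 hsupp
  rw [hn] at hdvd
  have hdvd2 : Nat.card (Subgroup.normalizer ((P : Subgroup H) : Set H)) ∣ 443520 := by
    rw [← hH]; exact Subgroup.card_subgroup_dvd_card _
  have h220 : Nat.card (Subgroup.normalizer ((P : Subgroup H) : Set H)) ∣ 220 := by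
    have := Nat.dvd_gcd hdvd hdvd2
    norm_num at this
    exact this
  have hpn : 11 ∣ Nat.card (Subgroup.normalizer ((P : Subgroup H) : Set H)) := by
    have h0 := Subgroup.card_dvd_of_le (Subgroup.le_normalizer (H := (P : Subgroup H)))
    rw [hP] at h0
    exact h0
  obtain ⟨f, hf⟩ := hpn
  have hsyl : Nat.card (Sylow 11 H) =
      (Subgroup.normalizer ((P : Subgroup H) : Set H)).index := Sylow.card_eq_index_normalizer P
  have hmod := card_sylow_modEq_one 11 H
  have hmul := Subgroup.card_mul_index (Subgroup.normalizer ((P : Subgroup H) : Set H))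
  rw [← hsyl, hH] at hmul
  have hmod' : Nat.card (Sylow 11 H) % 11 = 1 := hmod
  rw [hf] at h220 hmul ⊢
  have hfle : f ≤ 20 := by
    have := Nat.le_of_dvd (by norm_num) h220
    omega
  generalize Nat.card (Sylow 11 H) = idx at hmul hmod'
  interval_cases f <;> omega

/-- a group of order 443520 acting faithfully and 3-transitively on 22 points is simple. -/
theorem simple22 (hn : Fintype.card α = 22) [h3 : IsMultiplyPretransitive H α 3]
    (hH : Nat.card H = 443520) : IsSimpleGroup H := by
  have hfin : Finite H := Nat.finite_of_card_ne_zero (by rw [hH]; norm_num)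
  have hnt : Nontrivial H := by
    rw [← Finite.one_lt_card_iff_nontrivial, hH]; norm_num
  have hnc : Nat.card α = 22 := by rw [Nat.card_eq_fintype_card, hn]
  have h2 : IsMultiplyPretransitive H α 2 :=
    isMultiplyPretransitive_of_le (n := 3) (by norm_num) (by rw [hnc]; norm_num)
  refine { toNontrivial := hnt, eq_bot_or_eq_top_of_normal := fun N hN => ?_ }
  by_cases hNbot : N = ⊥
  · exact Or.inl hNbot
  right
  have h711 : 7 ∣ Nat.card N ∧ 11 ∣ Nat.card N := by
    have hj := Cfsg.Agent.Helper12.Jordan.jordan 3 (by norm_num) H α (by rw [hnc]; norm_num) h3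
      N hN hNbot
    rcases hj with hNt | ⟨-, -, hsq⟩
    · have hdN : (Fintype.card α).descFactorial 2 ∣ Nat.card N :=
        descFactorial_dvd_card (H := N) 2 (by rw [hn]; norm_num)
      rw [hn, show Nat.descFactorial 22 2 = 462 from by decide] at hdN
      exact ⟨dvd_trans (by norm_num) hdN, dvd_trans (by norm_num) hdN⟩
    · exfalso
      have hNt : IsPretransitive N α := Cfsg.Agent.Helper12.Jordan.normal_transitive h2 N hNbot
      obtain ⟨x⟩ : Nonempty α := by
        rw [← Fintype.card_pos_iff, hn]; norm_num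
      have h22 : 22 ∣ Nat.card N := by
        have h0 := MulAction.index_stabilizer_of_transitive (G := N) (x := x)
        rw [hnc] at h0
        rw [← h0]
        exact Subgroup.index_dvd_card _
      have hp11 : Fact (Nat.Prime 11) := ⟨by norm_num⟩
      obtain ⟨y, hy⟩ := exists_prime_orderOf_dvd_card' (G := N) 11 (dvd_trans (by norm_num) h22)
      have hy2 : (y : H) ^ 2 = 1 := hsq y y.2
      have h0 : orderOf (y : H) ∣ 2 := orderOf_dvd_of_pow_eq_one hy2
      rw [Subgroup.orderOf_coe, hy] at h0
      have := Nat.le_of_dvd (by norm_num) h0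
      omega
  obtain ⟨h7, h11⟩ := h711
  have hp11 : Fact (Nat.Prime 11) := ⟨by norm_num⟩
  have hp7 : Fact (Nat.Prime 7) := ⟨by norm_num⟩
  obtain ⟨P11, hP11c, -, hi11⟩ := exists_sylow_index_dvd 11 N h11 (by rw [hH]; norm_num)
  obtain ⟨P7, hP7c, -, hi7⟩ := exists_sylow_index_dvd 7 N h7 (by rw [hH]; norm_num)
  rw [card_normalizer_eleven hn hH P11 hP11c] at hi11
  have hi7' := hi7.trans (card_normalizer_seven hn hH (P7 : Subgroup H) hP7c)
  have hgcd : N.index ∣ Nat.gcd 55 12348 := Nat.dvd_gcd hi11 hi7'
  have hi1 : N.index = 1 := by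
    have h0 : Nat.gcd 55 12348 = 1 := by norm_num
    rw [h0] at hgcd
    exact Nat.dvd_one.mp hgcd
  exact Subgroup.index_eq_one.mp hi1

end abstract

theorem faithful_ofFixingSubgroup {G : Type*} [Group G] {β : Type*} [MulAction G β]
    [FaithfulSMul G β] (s : Set β) :
    FaithfulSMul (fixingSubgroup G s) (SubMulAction.ofFixingSubgroup G s) := by
  constructor
  intro g h hgh
  apply Subtype.ext
  apply FaithfulSMul.eq_of_smul_eq_smul (α := β)
  intro x
  by_cases hx : x ∈ s
  · have hg := (mem_fixingSubgroup_iff G).mp g.2 x hx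
    have hh := (mem_fixingSubgroup_iff G).mp h.2 x hx
    rw [hg, hh]
  · have := hgh ⟨x, hx⟩
    exact congrArg Subtype.val this

/-- A two-point stabiliser in the group of the length-24 code is simple. -/
theorem result (p q : Cfsg.GolayPt) (hpq : p ≠ q) : IsSimpleGroup ↥(MulAction.stabilizer Cfsg.M24 p ⊓ MulAction.stabilizer Cfsg.M24 q) := by
  classical
  have heq : fixingSubgroup Cfsg.M24 ({p, q} : Set Cfsg.GolayPt) =
      stabilizer Cfsg.M24 p ⊓ stabilizer Cfsg.M24 q := by
    ext g
    simp [mem_fixingSubgroup_iff, mem_stabilizer_iff]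
  rw [← heq]
  have h5 : IsMultiplyPretransitive Cfsg.M24 Cfsg.GolayPt 5 := Cfsg.Agent.S0366.result
  have hs : ({p, q} : Set Cfsg.GolayPt).ncard = 2 := Set.ncard_pair hpq
  have h3 : IsMultiplyPretransitive (fixingSubgroup Cfsg.M24 ({p, q} : Set Cfsg.GolayPt))
      (SubMulAction.ofFixingSubgroup Cfsg.M24 ({p, q} : Set Cfsg.GolayPt)) 3 :=
    SubMulAction.ofFixingSubgroup.isMultiplyPretransitive (n := 5) Cfsg.M24
      ({p, q} : Set Cfsg.GolayPt) (by rw [hs])
  have : Fintype (SubMulAction.ofFixingSubgroup Cfsg.M24 ({p, q} : Set Cfsg.GolayPt)) :=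
    Fintype.ofFinite _
  have hn : Fintype.card (SubMulAction.ofFixingSubgroup Cfsg.M24 ({p, q} : Set Cfsg.GolayPt))
      = 22 := by
    rw [← Nat.card_eq_fintype_card]
    have h0 : Nat.card (SubMulAction.ofFixingSubgroup Cfsg.M24 ({p, q} : Set Cfsg.GolayPt)) =
        Nat.card (({p, q} : Set Cfsg.GolayPt)ᶜ : Set Cfsg.GolayPt) := rfl
    have h24 : Nat.card Cfsg.GolayPt = 24 := by rw [Nat.card_eq_fintype_card]; decide
    rw [h0, Nat.card_coe_set_eq, Set.ncard_compl, hs, h24]
  have hfaith := faithful_ofFixingSubgroup (G := Cfsg.M24) ({p, q} : Set Cfsg.GolayPt)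
  have hcard : Nat.card (fixingSubgroup Cfsg.M24 ({p, q} : Set Cfsg.GolayPt)) = 443520 := by
    rw [heq]; exact Cfsg.Agent.S0378.result p q hpq
  exact simple22 hn hcard

end Cfsg.Agent.S0379
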