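import Mathlib
import Cfsg.Statements.S1634
import Cfsg.Agent.Lib.Helper26.LO1634Facts
-- import your own Cfsg.Agent.* helpers here

set_option autoImplicit false
open Cfsg

namespace Cfsg.Agent.S1634

open Cfsg.Agent.Helper7 Cfsg.Agent.Helper26 Cfsg.Agent.Helper26.LOX Cfsg.Agent.Helper26.LO1634 in open Cfsg.Agent.Helper26.LO1580 (v0 w0 H2) in
/-- the orbit of a point under the stabiliser of the configuration, transported to the base -/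
theorem orbit_ncard {v w x : ↥Cfsg.leechLattice} {g1 : Equiv.Perm ↥Cfsg.leechLattice}
    (hg1 : g1 ∈ Cfsg.Co0) (ev : g1 v = v0) (ew : g1 w = w0) (ex : g1 x = a0) (c : ℤ)
    (yb : ↥Cfsg.leechLattice) (hyb : yb.1 ∈ Yf c) (hne : yb ≠ a0) :
    (MulAction.orbit ↥(MulAction.stabilizer ↥Cfsg.Co0 v ⊓ MulAction.stabilizer ↥Cfsg.Co0 w ⊓
      MulAction.stabilizer ↥Cfsg.Co0 x) (g1.symm yb)).ncard = (Yf c).ncard := by
  have e1 : (g1 '' (MulAction.orbit ↥(MulAction.stabilizer ↥Cfsg.Co0 v ⊓ MulAction.stabilizer ↥Cfsg.Co0 w ⊓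
      MulAction.stabilizer ↥Cfsg.Co0 x) (g1.symm yb))) =
      {y : ↥Cfsg.leechLattice | (fun z => (Cfsg.sqNorm z = 32 ∧ Cfsg.dotInt v0.1 z = 0 ∧ Cfsg.dotInt w0.1 z = 16) ∧
        Cfsg.dotInt a0.1 z = c) y.1} := by
    ext y
    simp only [Set.mem_image, Set.mem_ofPred_eq, MulAction.mem_orbit_iff]
    constructor
    · rintro ⟨z, ⟨h, rfl⟩, rfl⟩
      have hv : (h.1.1 : Equiv.Perm ↥Cfsg.leechLattice) v = v := h.2.1.1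
      have hw : (h.1.1 : Equiv.Perm ↥Cfsg.leechLattice) w = w := h.2.1.2
      have hx : (h.1.1 : Equiv.Perm ↥Cfsg.leechLattice) x = x := h.2.2
      have hk : g1 * h.1.1 * g1⁻¹ ∈ H3 := by
        refine ⟨Cfsg.Co0.mul_mem (Cfsg.Co0.mul_mem hg1 h.1.2) (Cfsg.Co0.inv_mem hg1), ?_⟩
        intro b hb
        simp only [List.mem_cons, List.not_mem_nil, or_false] at hb
        rcases hb with rfl | rfl | rfl
        · simp only [Equiv.Perm.mul_apply]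
          rw [← ev]; simp [hv]
        · simp only [Equiv.Perm.mul_apply]
          rw [← ew]; simp [hw]
        · simp only [Equiv.Perm.mul_apply]
          rw [← ex]; simp [hx]
      have e : g1 (h • g1.symm yb) = (g1 * h.1.1 * g1⁻¹) yb := by
        simp only [Equiv.Perm.mul_apply]
        rfl
      rw [e]
      obtain ⟨_, ⟨a1, a2, a3⟩, a4⟩ := hyb
      refine ⟨⟨?_, ?_, ?_⟩, ?_⟩
      · rw [fixH_norm hk]; exact a1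
      · rw [fixH_dot hk (by simp)]; exact a2
      · rw [fixH_dot hk (by simp)]; exact a3
      · rw [fixH_dot hk (by simp)]; exact a4
    · rintro ⟨⟨b1, b2, b3⟩, b4⟩
      obtain ⟨_, ⟨a1, a2, a3⟩, a4⟩ := hyb
      obtain ⟨k, hk, e⟩ := base_trans (a := yb) (b := y) ⟨yb.2, a1, a2, a3⟩ ⟨y.2, b1, b2, b3⟩ hne
        (by rw [a4, b4])
      have hk2 := H3_le hk
      have hmem : (⟨g1⁻¹ * k * g1, Cfsg.Co0.mul_mem (Cfsg.Co0.mul_mem (Cfsg.Co0.inv_mem hg1) hk.1) hg1⟩ : ↥Cfsg.Co0) ∈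
          MulAction.stabilizer ↥Cfsg.Co0 v ⊓ MulAction.stabilizer ↥Cfsg.Co0 w ⊓
            MulAction.stabilizer ↥Cfsg.Co0 x := by
        refine ⟨⟨?_, ?_⟩, ?_⟩
        · show (g1⁻¹ * k * g1) v = v
          simp only [Equiv.Perm.mul_apply]
          rw [ev, hk2.2 v0 (by simp), ← ev]
          simp
        · show (g1⁻¹ * k * g1) w = w
          simp only [Equiv.Perm.mul_apply]
          rw [ew, hk2.2 w0 (by simp), ← ew]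
          simp
        · show (g1⁻¹ * k * g1) x = x
          simp only [Equiv.Perm.mul_apply]
          rw [ex, H3_a0 hk, ← ex]
          simp
      refine ⟨g1.symm y, ⟨⟨_, hmem⟩, ?_⟩, by simp⟩
      show (g1⁻¹ * k * g1) (g1.symm yb) = g1.symm y
      simp only [Equiv.Perm.mul_apply, Equiv.apply_symm_apply]
      rw [e]
      rfl
  rw [← Set.ncard_image_of_injective _ g1.injective, e1,
    ncard_subtype (fun z => (Cfsg.sqNorm z = 32 ∧ Cfsg.dotInt v0.1 z = 0 ∧ Cfsg.dotInt w0.1 z = 16) ∧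
        Cfsg.dotInt a0.1 z = c)]
  rfl

/-- The McLaughlin group acts on 2025 points (minimal vectors orthogonal to v with customary inner product 2 with w) transitively with rank 4 and subdegrees 1, 330, 462, 1232. -/
theorem result (v w : ↥Cfsg.leechLattice) (hv : Cfsg.sqNorm (v : Cfsg.GolayPt → ℤ) = 32) (hw : Cfsg.sqNorm (w : Cfsg.GolayPt → ℤ) = 32) (hvw : Cfsg.dotInt (v : Cfsg.GolayPt → ℤ) (w : Cfsg.GolayPt → ℤ) = -8) : {x : ↥Cfsg.leechLattice | Cfsg.sqNorm (x : Cfsg.GolayPt → ℤ) = 32 ∧ Cfsg.dotInt (v : Cfsg.GolayPt → ℤ) (x : Cfsg.GolayPt → ℤ) = 0 ∧ Cfsg.dotInt (w : Cfsg.GolayPt → ℤ) (x : Cfsg.GolayPt → ℤ) = 16}.ncard = 2025 ∧ (∀ x ∈ {x : ↥Cfsg.leechLattice | Cfsg.sqNorm (x : Cfsg.GolayPt → ℤ) = 32 ∧ Cfsg.dotInt (v : Cfsg.GolayPt → ℤ) (x : Cfsg.GolayPt → ℤ) = 0 ∧ Cfsg.dotInt (w : Cfsg.GolayPt → ℤ) (x : Cfsg.GolayPt → ℤ) = 16},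 ∀ x' ∈ {x : ↥Cfsg.leechLattice | Cfsg.sqNorm (x : Cfsg.GolayPt → ℤ) = 32 ∧ Cfsg.dotInt (v : Cfsg.GolayPt → ℤ) (x : Cfsg.GolayPt → ℤ) = 0 ∧ Cfsg.dotInt (w : Cfsg.GolayPt → ℤ) (x : Cfsg.GolayPt → ℤ) = 16}, ∃ g : ↥Cfsg.Co0, g • v = v ∧ g • w = w ∧ g • x = x') ∧ ∀ x ∈ {x : ↥Cfsg.leechLattice | Cfsg.sqNorm (x : Cfsg.GolayPt → ℤ) = 32 ∧ Cfsg.dotInt (v : Cfsg.GolayPt → ℤ) (x : Cfsg.GolayPt → ℤ) = 0 ∧ Cfsg.dotInt (w : Cfsg.GolayPt → ℤ) (x : Cfsg.GolayPt → ℤ) = 16}, ∃ y₁ ∈ {x : ↥Cfsg.leechLattice | Cfsg.sqNorm (x : Cfsg.GolayPt → ℤ) = 32 ∧ Cfsg.dotInt (v : Cfsg.GolayPt → ℤ) (x : Cfsg.GolayPt → ℤ) = 0 ∧ Cfsg.dotInt (w : Cfsg.GolayPt → ℤ) (x : Cfsg.GolayPt → ℤ) = 16}, ∃ y₂ ∈ {x : ↥Cfsg.leechLattice | Cfsg.sqNorm (x : Cfsg.GolayPt → ℤ) = 32 ∧ Cfsg.dotInt (v : Cfsg.GolayPt → ℤ) (x : Cfsg.GolayPt → ℤ) = 0 ∧ Cfsg.dotInt (w : Cfsg.GolayPt → ℤ) (x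 : Cfsg.GolayPt → ℤ) = 16}, ∃ y₃ ∈ {x : ↥Cfsg.leechLattice | Cfsg.sqNorm (x : Cfsg.GolayPt → ℤ) = 32 ∧ Cfsg.dotInt (v : Cfsg.GolayPt → ℤ) (x : Cfsg.GolayPt → ℤ) = 0 ∧ Cfsg.dotInt (w : Cfsg.GolayPt → ℤ) (x : Cfsg.GolayPt → ℤ) = 16}, (MulAction.orbit ↥(MulAction.stabilizer ↥Cfsg.Co0 v ⊓ MulAction.stabilizer ↥Cfsg.Co0 w ⊓ MulAction.stabilizer ↥Cfsg.Co0 x) y₁).ncard = 330 ∧ (MulAction.orbit ↥(MulAction.stabilizer ↥Cfsg.Co0 v ⊓ MulAction.stabilizer ↥Cfsg.Co0 w ⊓ MulAction.stabilizer ↥Cfsg.Co0 x) y₂).ncard = 462 ∧ (MulAction.orbit ↥(MulAction.stabilizer ↥Cfsg.Co0 v ⊓ MulAction.stabilizer ↥Cfsg.Co0 w ⊓ MulAction.stabilizer ↥Cfsg.Co0 x) y₃).ncard = 1232 := by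
  open Cfsg.Agent.Helper7 Cfsg.Agent.Helper26 Cfsg.Agent.Helper26.LOX Cfsg.Agent.Helper26.LO1634 in open Cfsg.Agent.Helper26.LO1580 (v0 w0 H2) in
  obtain ⟨g0, hg0, ev, ew⟩ := move2 v w hv hw hvw
  open Cfsg.Agent.Helper7 Cfsg.Agent.Helper26 Cfsg.Agent.Helper26.LOX Cfsg.Agent.Helper26.LO1634 in open Cfsg.Agent.Helper26.LO1580 (v0 w0 H2) in
  have hA : ∀ z : ↥Cfsg.leechLattice,
      (Cfsg.sqNorm (z : Cfsg.GolayPt → ℤ) = 32 ∧ Cfsg.dotInt (v : Cfsg.GolayPt → ℤ) (z : Cfsg.GolayPt → ℤ) = 0 ∧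
        Cfsg.dotInt (w : Cfsg.GolayPt → ℤ) (z : Cfsg.GolayPt → ℤ) = 16) ↔ (g0 z).1 ∈ Xf :=
    fun z => X_transport hg0 ev ew z
  open Cfsg.Agent.Helper7 Cfsg.Agent.Helper26 Cfsg.Agent.Helper26.LOX Cfsg.Agent.Helper26.LO1634 in open Cfsg.Agent.Helper26.LO1580 (v0 w0 H2) in
  refine ⟨?_, ?_, ?_⟩
  · have e1 : (g0 '' {x : ↥Cfsg.leechLattice | Cfsg.sqNorm (x : Cfsg.GolayPt → ℤ) = 32 ∧ Cfsg.dotInt (v : Cfsg.GolayPt → ℤ) (x : Cfsg.GolayPt → ℤ) = 0 ∧ Cfsg.dotInt (w : Cfsg.GolayPt → ℤ) (x : Cfsg.GolayPt → ℤ) = 16}) =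
        {x : ↥Cfsg.leechLattice | (fun y => Cfsg.sqNorm y = 32 ∧ Cfsg.dotInt v0.1 y = 0 ∧ Cfsg.dotInt w0.1 y = 16) x.1} := by
      ext y
      simp only [Set.mem_image, Set.mem_ofPred_eq]
      constructor
      · rintro ⟨x, hx, rfl⟩
        exact ((hA x).mp hx).2
      · intro hy
        refine ⟨g0.symm y, (hA _).mpr ?_, by simp⟩
        rw [Equiv.apply_symm_apply]
        exact ⟨y.2, hy⟩
    rw [← Set.ncard_image_of_injective _ g0.injective, e1,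
      ncard_subtype (fun y => Cfsg.sqNorm y = 32 ∧ Cfsg.dotInt v0.1 y = 0 ∧ Cfsg.dotInt w0.1 y = 16)]
    exact Xf_ncard
  · intro x hx x' hx'
    obtain ⟨h, hh, e⟩ := Xf_trans ((hA x).mp hx) ((hA x').mp hx')
    refine ⟨⟨g0⁻¹ * h * g0, Cfsg.Co0.mul_mem (Cfsg.Co0.mul_mem (Cfsg.Co0.inv_mem hg0) hh.1) hg0⟩, ?_, ?_, ?_⟩
    · show (g0⁻¹ * h * g0) v = v
      simp only [Equiv.Perm.mul_apply]
      rw [ev, hh.2 v0 (by simp), ← ev]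
      simp
    · show (g0⁻¹ * h * g0) w = w
      simp only [Equiv.Perm.mul_apply]
      rw [ew, hh.2 w0 (by simp), ← ew]
      simp
    · show (g0⁻¹ * h * g0) x = x'
      simp only [Equiv.Perm.mul_apply]
      rw [e]
      simp
  · intro x hx
    obtain ⟨g1, hg1, ev1, ew1, ex1⟩ := move3 v w x hv hw hvw hx
    have hY := y_mem
    have hmemX : ∀ (c : ℤ) (yb : ↥Cfsg.leechLattice), yb.1 ∈ Yf c →
        g1.symm yb ∈ {x : ↥Cfsg.leechLattice | Cfsg.sqNorm (x : Cfsg.GolayPt → ℤ) = 32 ∧ Cfsg.dotInt (v : Cfsg.GolayPt → ℤ) (x : Cfsg.GolayPt → ℤ) = 0 ∧ Cfsg.dotInt (w : Cfsg.GolayPt → ℤ) (x : Cfsg.GolayPt → ℤ) = 16} := by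
      intro c yb hyb
      refine (X_transport hg1 ev1 ew1 _).mpr ?_
      rw [Equiv.apply_symm_apply]
      exact ⟨hyb.1, hyb.2.1⟩
    have hne : ∀ (c : ℤ) (yb : ↥Cfsg.leechLattice), yb.1 ∈ Yf c → c ≠ 32 → yb ≠ a0 := by
      intro c yb hyb hc e
      apply hc
      have h32 : Cfsg.dotInt a0.1 a0.1 = 32 := by
        show Cfsg.dotInt (vecK ka0) (vecK ka0) = 32
        rw [dotInt_vecK]
        exact of_decide_eq_true ka0_dot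
      rw [← hyb.2.2, e, h32]
    refine ⟨g1.symm y0, hmemX 0 y0 hY.1, g1.symm y16, hmemX 16 y16 hY.2.1, g1.symm y8, hmemX 8 y8 hY.2.2, ?_, ?_, ?_⟩
    · rw [orbit_ncard hg1 ev1 ew1 ex1 0 y0 hY.1 (hne 0 y0 hY.1 (by norm_num))]
      exact Y0_ncard
    · rw [orbit_ncard hg1 ev1 ew1 ex1 16 y16 hY.2.1 (hne 16 y16 hY.2.1 (by norm_num))]
      exact Y16_ncard
    · rw [orbit_ncard hg1 ev1 ew1 ex1 8 y8 hY.2.2 (hne 8 y8 hY.2.2 (by norm_num))]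
      exact Y8_ncard

end Cfsg.Agent.S1634
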