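import Cfsg.Statements.S1067
import Cfsg.Agent.Lib.Helper59.TwD4C
import Cfsg.Agent.Lib.Helper6.TwistTorusD4

set_option autoImplicit false
open Cfsg

namespace Cfsg.Agent.S1067

/-- `|³D₄(q)| = q¹² (q² - 1)(q⁶ - 1)(q⁸ + q⁴ + 1)`, the group being realised inside D₄ over the field with `q³` elements. -/
theorem result {K : Type*} [Field K] [Fintype K] {q : ℕ} (hq : IsPrimePow q) (hK : Fintype.card K = q ^ 3) :
    Nat.card ↥(Cfsg.Lie.twistedD4 K q) = q ^ 12 * (q ^ 2 - 1) * (q ^ 6 - 1) * (q ^ 8 + q ^ 4 + 1) := by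
  obtain ⟨p, k, hp, hk, rfl⟩ := (isPrimePow_nat_iff q).1 hq
  obtain ⟨p', hchar⟩ := CharP.exists K
  have := hchar
  obtain ⟨n, hp', hn⟩ := FiniteField.card K p'
  have hpp : p' = p := by
    have h1 : p' ∣ (p ^ k) ^ 3 := by
      rw [← hK, hn]
      exact dvd_pow_self p' n.ne_zero
    exact (Nat.prime_dvd_prime_iff_eq hp' hp).1 (hp'.dvd_of_dvd_pow (hp'.dvd_of_dvd_pow h1))
  subst hpp
  have : ExpChar K p' := ExpChar.prime hp
  have hq1 : 1 < p' ^ k := Nat.one_lt_pow hk.ne' hp.one_lt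
  rw [Cfsg.Agent.Helper59.TwD4.card_twistedD4' p' k hK hq1,
    Cfsg.Agent.Helper6.Twist.D4.card_H1 p' k hk hp hK]
  generalize p' ^ k = q at hq1
  obtain ⟨r, rfl⟩ : ∃ r, q = r + 1 := ⟨q - 1, by omega⟩
  have e1 : r + 1 - 1 = r := by omega
  have e2 : (r + 1) ^ 2 - 1 = r * (r + 2) := by
    have : (r + 1) ^ 2 = r * (r + 2) + 1 := by ring
    omega
  have e3 : (r + 1) ^ 6 - 1 = r * (r + 2) * ((r + 1) ^ 2 + (r + 1) + 1) * ((r + 1) ^ 2 - r) := by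
    have h0 : r ≤ (r + 1) ^ 2 := by nlinarith
    have : (r + 1) ^ 6 = r * (r + 2) * ((r + 1) ^ 2 + (r + 1) + 1) * ((r + 1) ^ 2 - r) + 1 := by
      zify [h0]
      ring
    omega
  rw [e1, e2, e3]
  have h0 : r ≤ (r + 1) ^ 2 := by nlinarith
  zify [h0]
  ring

end Cfsg.Agent.S1067
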