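import Cfsg.Statements.S3370
import Cfsg.Agent.Lib.Helper73.QuatRecog

set_option autoImplicit false
set_option linter.unusedSectionVars false
open Cfsg

namespace Cfsg.Agent.S3370

/-! ### number theory -/

/-- geometric sum of odd integers: parity -/
lemma odd_geom_sum_iff (x : ℤ) (hx : Odd x) (n : ℕ) : Odd (∑ i ∈ Finset.range n, x ^ i) ↔ Odd n := by
  induction n with
  | zero => simp
  | succ n ih =>
    rw [Finset.sum_range_succ, Int.odd_add, ih]
    have h1 : ¬ Even (x ^ n) := Int.not_even_iff_odd.mpr hx.pow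
    rw [Nat.odd_add_one]
    tauto

/-- an odd integer dividing a power of two is `±1` -/
lemma natAbs_eq_one_of_odd_dvd_two_pow (s : ℤ) (hs : Odd s) (k : ℕ) (h : s ∣ 2 ^ k) : s.natAbs = 1 := by
  have h1 : s.natAbs ∣ 2 ^ k := by
    have := Int.natAbs_dvd_natAbs.mpr h
    simpa [Int.natAbs_pow] using this
  obtain ⟨j, _, hj⟩ := (Nat.dvd_prime_pow Nat.prime_two).mp h1
  have hodd : Odd s.natAbs := Int.natAbs_odd.mpr hs
  rw [hj] at hodd ⊢
  rcases j with _ | j
  · rfl
  · exfalso
    rw [pow_succ] at hodd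
    exact (Nat.not_odd_iff_even.mpr (even_two.mul_left _)) hodd

/-- Lemma A: `q` odd, `q^n - 1 = 2^a`, `n ≥ 1`: then `n = 1` or `q = 3, n = 2`. -/
lemma lemmaA (q n a : ℕ) (hq : Odd q) (hq1 : 1 < q) (hn : 1 ≤ n) (h : q ^ n = 2 ^ a + 1) :
    n = 1 ∨ (q = 3 ∧ n = 2) := by
  rcases Nat.even_or_odd n with he | ho
  · right
    obtain ⟨m, rfl⟩ := he
    have hm : 1 ≤ m := by omega
    -- (q^m - 1)(q^m + 1) = 2^a
    have hqm : 1 < q ^ m := Nat.one_lt_pow (by omega) hq1
    have hfac : (q ^ m - 1) * (q ^ m + 1) = 2 ^ a := by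
      have : q ^ (m + m) = q ^ m * q ^ m := pow_add q m m
      rw [this] at h
      have h2 : (q ^ m - 1) * (q ^ m + 1) + 1 = q ^ m * q ^ m := by
        obtain ⟨t, ht⟩ : ∃ t, q ^ m = t + 1 := ⟨q ^ m - 1, by omega⟩
        rw [ht]; simp; ring
      omega
    have hd1 : (q ^ m - 1) ∣ 2 ^ a := ⟨_, hfac.symm⟩
    have hd2 : (q ^ m + 1) ∣ 2 ^ a := ⟨_, by rw [mul_comm]; exact hfac.symm⟩
    obtain ⟨i, _, hi⟩ := (Nat.dvd_prime_pow Nat.prime_two).mp hd1
    obtain ⟨j, _, hj⟩ := (Nat.dvd_prime_pow Nat.prime_two).mp hd2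
    -- 2^j = 2^i + 2
    have hij : 2 ^ j = 2 ^ i + 2 := by omega
    have hi1 : i = 1 := by
      rcases i with _ | _ | i
      · -- 2^j = 3
        exfalso
        rcases j with _ | _ | j
        · simp at hij
        · simp at hij
        · have : 4 ∣ 2 ^ (j + 2) := ⟨2 ^ j, by ring⟩
          rw [hij] at this
          omega
      · rfl
      · exfalso
        have h4 : 4 ∣ 2 ^ (i + 2) := ⟨2 ^ i, by ring⟩
        rcases j with _ | _ | j
        · have : 0 < 2 ^ (i + 2) := by positivity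
          simp at hij
        · have : 0 < 2 ^ (i + 2) := by positivity
          simp at hij
        · have : 4 ∣ 2 ^ (j + 2) := ⟨2 ^ j, by ring⟩
          rw [hij] at this
          omega
    rw [hi1] at hi
    have hqm3 : q ^ m = 3 := by omega
    -- q ^ m = 3 → q = 3, m = 1
    have hq3 : q ∣ 3 := by
      rw [← hqm3]; exact dvd_pow_self q (by omega)
    have : q = 3 := by
      rcases (Nat.dvd_prime Nat.prime_three).mp hq3 with h1 | h3
      · omega
      · exact h3
    subst this
    refine ⟨rfl, ?_⟩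
    have : m = 1 := by
      rcases m with _ | _ | m
      · omega
      · rfl
      · exfalso
        have : 3 ^ (m + 2) = 9 * 3 ^ m := by ring
        have : 0 < 3 ^ m := by positivity
        omega
    omega
  · left
    -- q^n - 1 = (q - 1) * S
    have hgs : (∑ i ∈ Finset.range n, (q : ℤ) ^ i) * ((q : ℤ) - 1) = (q : ℤ) ^ n - 1 := geom_sum_mul _ _
    have hS : Odd (∑ i ∈ Finset.range n, (q : ℤ) ^ i) := (odd_geom_sum_iff q (by exact_mod_cast hq) n).mpr ho
    have hh : ((q : ℤ) ^ n - 1) = 2 ^ a := by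
      have : ((q ^ n : ℕ) : ℤ) = ((2 ^ a + 1 : ℕ) : ℤ) := by rw [h]
      push_cast at this
      linarith
    have hdvd : (∑ i ∈ Finset.range n, (q : ℤ) ^ i) ∣ 2 ^ a := ⟨(q : ℤ) - 1, by rw [hgs, hh]⟩
    have habs := natAbs_eq_one_of_odd_dvd_two_pow _ hS a hdvd
    -- the sum is ≥ 1 + q if n ≥ 2
    by_contra hn1
    have hn2 : 2 ≤ n := by omega
    have : (1 : ℤ) + q ≤ ∑ i ∈ Finset.range n, (q : ℤ) ^ i := by
      have hsub : Finset.range 2 ⊆ Finset.range n := Finset.range_subset_range.mpr hn2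
      have := Finset.sum_le_sum_of_subset_of_nonneg hsub (f := fun i => (q : ℤ) ^ i)
        (fun i _ _ => by positivity)
      simpa [Finset.sum_range_succ] using this
    have h2 : (2 : ℤ) ≤ ∑ i ∈ Finset.range n, (q : ℤ) ^ i := by
      have : (1 : ℤ) ≤ q := by exact_mod_cast hq1.le
      linarith
    have := Int.natAbs_of_nonneg (by linarith : (0 : ℤ) ≤ ∑ i ∈ Finset.range n, (q : ℤ) ^ i)
    rw [habs] at this
    simp at this
    linarith

/-- Lemma B: `p` odd, `p ≥ 3`, `a ≥ 1`, `p^a + 1 = 2^n`: then `a = 1`. -/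
lemma lemmaB (p a n : ℕ) (hp : Odd p) (hp1 : 1 < p) (ha : 1 ≤ a) (h : p ^ a + 1 = 2 ^ n) : a = 1 := by
  rcases Nat.even_or_odd a with he | ho
  · exfalso
    obtain ⟨b, rfl⟩ := he
    -- p^(2b) ≡ 1 mod 4
    have h1 : p ^ (b + b) % 4 = 1 := by
      rw [pow_add, ← sq]
      have hodd : Odd (p ^ b) := hp.pow
      have := Nat.odd_iff.mp hodd
      have h4 : (p ^ b) % 4 = 1 ∨ (p ^ b) % 4 = 3 := by omega
      rcases h4 with h4 | h4 <;> simp [sq, Nat.mul_mod, h4]
    have hpb : 1 < p ^ (b + b) := Nat.one_lt_pow (by omega) hp1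
    rcases n with _ | _ | n
    · simp at h; omega
    · simp at h; omega
    · have : 4 ∣ 2 ^ (n + 2) := ⟨2 ^ n, by ring⟩
      rw [← h] at this
      omega
  · -- (p + 1) * S = p^a + 1 with S odd
    have hgs : (∑ i ∈ Finset.range a, (-(p : ℤ)) ^ i) * (-(p : ℤ) - 1) = (-(p : ℤ)) ^ a - 1 := geom_sum_mul _ _
    have hS : Odd (∑ i ∈ Finset.range a, (-(p : ℤ)) ^ i) :=
      (odd_geom_sum_iff (-(p : ℤ)) (by simpa using (by exact_mod_cast hp : Odd (p : ℤ))) a).mpr ho
    have hneg : (-(p : ℤ)) ^ a = -((p : ℤ) ^ a) := ho.neg_pow _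
    have hh : ((p : ℤ) ^ a + 1) = 2 ^ n := by exact_mod_cast h
    have hprod : (∑ i ∈ Finset.range a, (-(p : ℤ)) ^ i) * ((p : ℤ) + 1) = 2 ^ n := by
      rw [← hh]
      have : (∑ i ∈ Finset.range a, (-(p : ℤ)) ^ i) * ((p : ℤ) + 1) =
          -((∑ i ∈ Finset.range a, (-(p : ℤ)) ^ i) * (-(p : ℤ) - 1)) := by ring
      rw [this, hgs, hneg]; ring
    have hdvd : (∑ i ∈ Finset.range a, (-(p : ℤ)) ^ i) ∣ 2 ^ n := ⟨(p : ℤ) + 1, hprod.symm⟩
    have habs := natAbs_eq_one_of_odd_dvd_two_pow _ hS n hdvd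
    -- S > 0 since product positive
    have hpos : 0 < ∑ i ∈ Finset.range a, (-(p : ℤ)) ^ i := by
      have h2 : (0 : ℤ) < 2 ^ n := by positivity
      rw [← hprod] at h2
      have hp0 : (0 : ℤ) < (p : ℤ) + 1 := by positivity
      exact (mul_pos_iff_of_pos_right hp0).mp h2
    have hS1 : ∑ i ∈ Finset.range a, (-(p : ℤ)) ^ i = 1 := by
      have := Int.natAbs_of_nonneg hpos.le
      rw [habs] at this
      simpa using this.symm
    rw [hS1, one_mul] at hprod
    -- p + 1 = 2^n = p^a + 1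
    have : (p : ℤ) ^ a = p := by linarith
    have hpa : p ^ a = p ^ 1 := by
      have : ((p ^ a : ℕ) : ℤ) = (p : ℤ) := by push_cast; exact this
      rw [pow_one]; exact_mod_cast this
    exact Nat.pow_right_injective hp1 hpa


lemma three_le_card {α : Type*} [Finite α] (a b c : α) (hab : a ≠ b) (hac : a ≠ c) (hbc : b ≠ c) :
    3 ≤ Nat.card α := by
  classical
  have := Fintype.ofFinite α
  have h : ({a, b, c} : Finset α).card = 3 := by
    rw [Finset.card_insert_of_notMem, Finset.card_insert_of_notMem, Finset.card_singleton]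
    · simpa using hbc
    · simp [hab, hac]
  rw [Nat.card_eq_fintype_card, ← h]
  exact Finset.card_le_univ _

/-! ### groups of order eight with a unique involution -/

lemma exists_not_mem_of_card_lt {G : Type*} [Group G] [Finite G] (H : Subgroup G)
    (h : Nat.card H < Nat.card G) : ∃ g : G, g ∉ H := by
  by_contra hcon
  push Not at hcon
  have : H = ⊤ := by
    rw [eq_top_iff]; intro g _; exact hcon g
  rw [this, Subgroup.card_top] at h
  exact lt_irrefl _ h

lemma order8 {G : Type*} [Group G] [Finite G] (hcard : Nat.card G = 8)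
    (hz' : ∀ t s : G, t ≠ 1 → t * t = 1 → s ≠ 1 → s * s = 1 → t = s) :
    IsCyclic G ∨ Nonempty (G ≃* QuaternionGroup 2) := by
  by_cases hcyc : ∃ g : G, orderOf g = 8
  · left
    obtain ⟨g, hg⟩ := hcyc
    exact isCyclic_of_orderOf_eq_card g (by rw [hcard]; exact hg)
  right
  push Not at hcyc
  have hpow4 : ∀ g : G, g ^ 4 = 1 := by
    intro g
    have hd : orderOf g ∣ 2 ^ 3 := by
      have := orderOf_dvd_natCard g
      rwa [hcard] at this
    obtain ⟨j, hj, hje⟩ := (Nat.dvd_prime_pow Nat.prime_two).mp hd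
    have hj3 : j ≠ 3 := by
      rintro rfl
      exact hcyc g (by rw [hje]; norm_num)
    have hj2 : j ≤ 2 := by omega
    have : orderOf g ∣ 4 := by
      rw [hje]
      exact pow_dvd_pow 2 hj2
    exact orderOf_dvd_iff_pow_eq_one.mp this
  -- z is an involution
  have _ : Fact (Nat.Prime 2) := ⟨Nat.prime_two⟩
  obtain ⟨t, ht⟩ := exists_prime_orderOf_dvd_card' (G := G) 2 (by rw [hcard]; norm_num)
  have ht1 : t ≠ 1 := by
    intro h; rw [h, orderOf_one] at ht; norm_num at ht
  have htt : t * t = 1 := by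
    rw [← pow_two, ← ht]; exact pow_orderOf_eq_one t
  have hz : ∀ s : G, s ≠ 1 → s * s = 1 → s = t := fun s h1 h2 => hz' s t h1 h2 ht1 htt
  have hsq : ∀ g : G, g * g = 1 ∨ g * g = t := by
    intro g
    by_cases h : g * g = 1
    · left; exact h
    · right
      apply hz _ h
      have := hpow4 g
      calc g * g * (g * g) = g ^ 4 := by simp [pow_succ, mul_assoc]
        _ = 1 := this
  -- z central
  have hzc : ∀ g : G, g * t = t * g := by
    intro g
    have h1 : g * t * g⁻¹ ≠ 1 := by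
      intro h
      apply ht1
      have : t = g⁻¹ * (g * t * g⁻¹) * g := by group
      rw [this, h]; group
    have h2 : g * t * g⁻¹ * (g * t * g⁻¹) = 1 := by
      calc g * t * g⁻¹ * (g * t * g⁻¹) = g * (t * t) * g⁻¹ := by group
        _ = 1 := by rw [htt]; group
    have h3 := hz _ h1 h2
    calc g * t = g * t * g⁻¹ * g := by group
      _ = t * g := by rw [h3]
  -- pick a
  have hzcard : Nat.card (Subgroup.zpowers t) = 2 := by rw [Nat.card_zpowers, ht]
  obtain ⟨a, ha⟩ := exists_not_mem_of_card_lt (Subgroup.zpowers t) (by rw [hzcard, hcard]; norm_num)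
  have ha1 : a ≠ 1 := by
    rintro rfl; exact ha (one_mem _)
  have haz : a ≠ t := by
    rintro rfl; exact ha (Subgroup.mem_zpowers _)
  have haa : a * a = t := by
    rcases hsq a with h | h
    · exact absurd (hz a ha1 h) haz
    · exact h
  have hoa : orderOf a = 2 ^ (1 + 1) := by
    apply orderOf_eq_prime_pow
    · rw [pow_one, pow_two, haa]; exact ht1
    · exact hpow4 a
  have hacard : Nat.card (Subgroup.zpowers a) = 4 := by rw [Nat.card_zpowers, hoa]; norm_num
  obtain ⟨b, hb⟩ := exists_not_mem_of_card_lt (Subgroup.zpowers a) (by rw [hacard, hcard]; norm_num)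
  have hta : t ∈ Subgroup.zpowers a := by
    rw [← haa, ← pow_two]; exact Subgroup.npow_mem_zpowers a 2
  have hb1 : b ≠ 1 := by
    rintro rfl; exact hb (one_mem _)
  have hbz : b ≠ t := by
    rintro rfl; exact hb hta
  have hbb : b * b = t := by
    rcases hsq b with h | h
    · exact absurd (hz b hb1 h) hbz
    · exact h
  have hab : a * b ∉ Subgroup.zpowers a := by
    intro h
    apply hb
    have : b = a⁻¹ * (a * b) := by group
    rw [this]
    exact mul_mem (inv_mem (Subgroup.mem_zpowers a)) h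
  have hab1 : a * b ≠ 1 := by
    intro h; rw [h] at hab; exact hab (one_mem _)
  have habz : a * b ≠ t := by
    intro h; rw [h] at hab; exact hab hta
  have habab : a * b * (a * b) = t := by
    rcases hsq (a * b) with h | h
    · exact absurd (hz _ hab1 h) habz
    · exact h
  have hbab : b * a * b = a := by
    have : a * (b * a * b) = a * a := by
      rw [haa, ← habab]; group
    exact mul_left_cancel this
  have htinv : t⁻¹ = t := inv_eq_of_mul_eq_one_right htt
  have hainv : a⁻¹ = a * t := by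
    apply inv_eq_of_mul_eq_one_right
    rw [← haa]
    calc a * (a * (a * a)) = a ^ 4 := by simp [pow_succ, mul_assoc]
      _ = 1 := hpow4 a
  have hconj : b * a * b⁻¹ = a⁻¹ := by
    calc b * a * b⁻¹ = (b * a * b) * (b * b)⁻¹ := by group
      _ = a⁻¹ := by rw [hbab, hbb, htinv, hainv]
  exact Cfsg.Agent.Helper73.quat_equiv (N := 2) (by rw [hoa]; norm_num) (by rw [pow_two, pow_two, hbb, haa])
    hconj hb (by rw [hcard])

/-! ### a Sylow 2-subgroup of `GL(2,3)` -/

abbrev GL23 := Matrix.GeneralLinearGroup (Fin 2) (ZMod 3)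

def gA : GL23 := ⟨!![0, 1; 1, 1], !![2, 1; 1, 0], by decide, by decide⟩
def gB : GL23 := ⟨!![1, 0; 1, 2], !![1, 0; 1, 2], by decide, by decide⟩

lemma gA8 : gA ^ 8 = 1 := by decide +kernel
lemma gA4 : gA ^ 4 ≠ 1 := by decide +kernel
lemma gB2 : gB * gB = 1 := by decide +kernel
lemma gB1 : gB ≠ 1 := by decide +kernel
lemma gBA : gB * gA * gB⁻¹ = gA ^ 3 := by decide +kernel

lemma orderOf_gA : orderOf gA = 8 := by
  have := orderOf_eq_prime_pow (p := 2) (n := 2) (x := gA) (by norm_num; exact gA4)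
    (by norm_num; exact gA8)
  rw [this]; norm_num

lemma orderOf_gB : orderOf gB = 2 :=
  orderOf_eq_prime (by rw [pow_two]; exact gB2) gB1

lemma card_GL23 : Nat.card GL23 = 48 := by
  rw [Matrix.card_GL_field, Fin.prod_univ_two]
  simp [ZMod.card]

lemma gB_conj_mem (h : GL23) (hh : h ∈ Subgroup.zpowers gA) :
    gB * h * gB⁻¹ ∈ Subgroup.zpowers gA := by
  obtain ⟨k, rfl⟩ := Subgroup.mem_zpowers_iff.mp hh
  rw [← conj_zpow, gBA]
  exact zpow_mem (pow_mem (Subgroup.mem_zpowers gA) 3) k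

lemma gB_mem_normalizer : gB ∈ Subgroup.normalizer (Subgroup.zpowers gA : Set GL23) := by
  rw [Subgroup.mem_normalizer_iff]
  intro h
  constructor
  · exact gB_conj_mem h
  · intro hh
    have := gB_conj_mem _ hh
    have e : gB * (gB * h * gB⁻¹) * gB⁻¹ = (gB * gB) * h * (gB * gB)⁻¹ := by group
    rw [e, gB2] at this
    simpa using this

lemma isPGroup_S0 : IsPGroup 2 (Subgroup.zpowers gB ⊔ Subgroup.zpowers gA : Subgroup GL23) := by
  have _ : Fact (Nat.Prime 2) := ⟨Nat.prime_two⟩
  apply IsPGroup.to_sup_of_normal_right'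
  · apply IsPGroup.of_card (n := 1)
    rw [Nat.card_zpowers, orderOf_gB]; norm_num
  · apply IsPGroup.of_card (n := 3)
    rw [Nat.card_zpowers, orderOf_gA]; norm_num
  · rw [Subgroup.zpowers_le]
    exact gB_mem_normalizer

section nine

/-- `GL(V) ≅ GL(2,3)` when `|V| = 9` -/
lemma exists_equiv {V : Type*} [AddCommGroup V] [Module (ZMod 3) V] [Finite V]
    (hV : Nat.card V = 9) : Nonempty (GL23 ≃* (V ≃ₗ[ZMod 3] V)) := by
  have hfr : Module.finrank (ZMod 3) V = 2 := by
    have h1 : Nat.card V = 3 ^ Module.finrank (ZMod 3) V := by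
      rw [Module.natCard_eq_pow_finrank (K := ZMod 3), Nat.card_zmod]
    rw [hV] at h1
    have : 3 ^ 2 = 3 ^ Module.finrank (ZMod 3) V := by rw [← h1]; norm_num
    exact (Nat.pow_right_injective (by norm_num : 2 ≤ 3) this).symm
  let b := Module.finBasisOfFinrankEq (ZMod 3) V hfr
  exact ⟨(Units.mapEquiv (MulEquivClass.toMulEquiv (LinearMap.toMatrixAlgEquiv b).symm)).trans
    (LinearMap.GeneralLinearGroup.generalLinearEquiv (ZMod 3) V)⟩

/-- a subgroup of order `16` of a copy of `GL(2,3)` is quasidihedral -/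
lemma exists_QD {E : Type*} [Group E] (φ : GL23 ≃* E) {G : Type*} [Group G] [Finite G]
    (ρ : G →* E) (hρ : Function.Injective ρ) (hcard : Nat.card G = 16) : IsQuasiDihedral G := by
  have _ : Fact (Nat.Prime 2) := ⟨Nat.prime_two⟩
  have hE : Nat.card E = 48 := by rw [← Nat.card_congr φ.toEquiv, card_GL23]
  have _ : Finite E := Nat.finite_of_card_ne_zero (by rw [hE]; norm_num)
  have hS0 : IsPGroup 2 ((Subgroup.zpowers gB ⊔ Subgroup.zpowers gA : Subgroup GL23).map φ.toMonoidHom) :=
    isPGroup_S0.map _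
  obtain ⟨Q, hQ⟩ := hS0.exists_le_sylow
  have hRcard : Nat.card ρ.range = 16 := by
    rw [← hcard]; exact (Nat.card_congr (MonoidHom.ofInjective hρ).toEquiv).symm
  have hR : IsPGroup 2 ρ.range := IsPGroup.of_card (n := 4) (by rw [hRcard]; norm_num)
  obtain ⟨Q', hQ'⟩ := hR.exists_le_sylow
  have hQ'card : Nat.card (Q' : Subgroup E) = 16 := by
    obtain ⟨j, hj⟩ := IsPGroup.iff_card.mp Q'.isPGroup'
    have hdvd : Nat.card (Q' : Subgroup E) ∣ 48 := by
      rw [← hE]; exact Subgroup.card_subgroup_dvd_card _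
    have hle : 16 ≤ Nat.card (Q' : Subgroup E) := by
      rw [← hRcard]; exact Subgroup.card_le_of_le hQ'
    rw [hj] at hdvd hle ⊢
    have hj4 : j ≤ 4 := by
      by_contra hcon
      have h5 : 5 ≤ j := by omega
      have : 2 ^ 5 ∣ 48 := (pow_dvd_pow 2 h5).trans hdvd
      norm_num at this
    have hj4' : 4 ≤ j := by
      by_contra hcon
      have h3 : j ≤ 3 := by omega
      have : 2 ^ j ≤ 2 ^ 3 := Nat.pow_le_pow_right (by norm_num) h3
      omega
    have : j = 4 := by omega
    rw [this]; norm_num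
  have hRQ' : ρ.range = (Q' : Subgroup E) :=
    Subgroup.eq_of_le_of_card_ge hQ' (by rw [hQ'card, hRcard])
  obtain ⟨c, hc⟩ := MulAction.exists_smul_eq E Q' Q
  -- every element of `S0` is conjugate into the range
  have hkey : ∀ g : GL23, g ∈ (Subgroup.zpowers gB ⊔ Subgroup.zpowers gA : Subgroup GL23) →
      ∃ x : G, c * ρ x * c⁻¹ = φ g := by
    intro g hg
    have h1 : φ g ∈ (Q : Subgroup E) := hQ (Subgroup.mem_map_of_mem φ.toMonoidHom hg)
    rw [← hc, Sylow.coe_subgroup_smul, Subgroup.mem_smul_pointwise_iff_exists] at h1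
    obtain ⟨s, hs, hs'⟩ := h1
    rw [← hRQ'] at hs
    obtain ⟨x, rfl⟩ := hs
    exact ⟨x, hs'⟩
  obtain ⟨x, hx⟩ := hkey gA (Subgroup.mem_sup_right (Subgroup.mem_zpowers gA))
  obtain ⟨y, hy⟩ := hkey gB (Subgroup.mem_sup_left (Subgroup.mem_zpowers gB))
  -- the injective homomorphism `g ↦ c ρ(g) c⁻¹`
  let θ : G →* E := (MulAut.conj c).toMonoidHom.comp ρ
  have hθ : Function.Injective θ := (MulAut.conj c).injective.comp hρ
  have hθx : θ x = φ gA := hx
  have hθy : θ y = φ gB := hy
  refine ⟨3, le_refl _, by rw [hcard]; norm_num, x, y, ?_, ?_, ?_⟩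
  · rw [← orderOf_injective θ hθ x, hθx, MulEquiv.orderOf_eq, orderOf_gA]; norm_num
  · rw [← orderOf_injective θ hθ y, hθy, MulEquiv.orderOf_eq, orderOf_gB]
  · apply hθ
    rw [map_mul, map_mul, map_inv, map_pow, hθx, hθy, ← map_inv, ← map_mul, ← map_mul, gBA, map_pow]
    norm_num

end nine

/-! ### the action -/

section action
variable {q : ℕ} [Fact q.Prime] {V : Type*} [AddCommGroup V] [Module (ZMod q) V]
  {G : Type*} [Group G] (ρ : G →* (V ≃ₗ[ZMod q] V))

lemma rho_mul (g h : G) (v : V) : ρ (g * h) v = ρ g (ρ h v) := by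
  rw [map_mul]; rfl

lemma rho_one (v : V) : ρ 1 v = v := by
  rw [map_one]; rfl

lemma rho_inv_apply (g : G) (v : V) : ρ g⁻¹ (ρ g v) = v := by
  rw [← rho_mul, inv_mul_cancel, rho_one]

lemma rho_apply_inv (g : G) (v : V) : ρ g (ρ g⁻¹ v) = v := by
  rw [← rho_mul, mul_inv_cancel, rho_one]

/-- the stabilizer subgroup -/
def Stab (v : V) : Subgroup G where
  carrier := {g | ρ g v = v}
  mul_mem' := by
    intro a b ha hb
    simp only [Set.mem_ofPred_eq] at *
    rw [rho_mul, hb, ha]
  one_mem' := rho_one ρ v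
  inv_mem' := by
    intro a ha
    simp only [Set.mem_ofPred_eq] at *
    have := rho_inv_apply ρ a v
    rw [ha] at this
    exact this

lemma mem_Stab (g : G) (v : V) : g ∈ Stab ρ v ↔ ρ g v = v := Iff.rfl

/-- the action of `G` on `V` through `ρ` -/
@[reducible] def act : MulAction G V := MulAction.compHom V ρ

lemma card_ne_zero_subtype {α : Type*} [Zero α] [Finite α] :
    Nat.card {a : α // a ≠ 0} + 1 = Nat.card α := by
  classical
  have := Fintype.ofFinite α
  have e := Equiv.optionSubtypeNe (0 : α)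
  rw [← Nat.card_congr e, Nat.card_eq_fintype_card, Nat.card_eq_fintype_card, Fintype.card_option]

/-- orbit-stabilizer for a group transitive on the nonzero vectors -/
lemma card_eq_stab_mul [Finite V] [Finite G]
    (htrans : ∀ v w : V, v ≠ 0 → w ≠ 0 → ∃ g : G, ρ g v = w) (v : V) (hv : v ≠ 0) :
    Nat.card G = (Nat.card V - 1) * Nat.card (Stab ρ v) := by
  let _ : MulAction G V := act ρ
  have h1 := Nat.card_congr (MulAction.orbitEquivQuotientStabilizer G v)
  have hst : MulAction.stabilizer G v = Stab ρ v := by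
    ext g; exact Iff.rfl
  have horb : MulAction.orbit G v = {w : V | w ≠ 0} := by
    ext w
    constructor
    · rintro ⟨g, rfl⟩
      show ρ g v ≠ 0
      intro h
      apply hv
      have := rho_inv_apply ρ g v
      rw [h, map_zero] at this
      exact this.symm
    · intro hw
      obtain ⟨g, hg⟩ := htrans v w hv hw
      exact ⟨g, hg⟩
  have h2 : Nat.card (MulAction.orbit G v) = Nat.card V - 1 := by
    rw [horb]
    have := card_ne_zero_subtype (α := V)
    have h3 : Nat.card ({w : V | w ≠ 0} : Set V) = Nat.card {a : V // a ≠ 0} := rfl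
    omega
  rw [Subgroup.card_eq_card_quotient_mul_card_subgroup (Stab ρ v), ← hst, ← h1, h2]


/-- if the stabilizer of a nonzero vector is normal, it is trivial -/
lemma stab_eq_bot_of_normal (hρ : Function.Injective ρ)
    (htrans : ∀ v w : V, v ≠ 0 → w ≠ 0 → ∃ g : G, ρ g v = w) (v : V) (hv : v ≠ 0)
    (hn : (Stab ρ v).Normal) : Stab ρ v = ⊥ := by
  rw [Subgroup.eq_bot_iff_forall]
  intro g hg
  apply hρ
  rw [map_one]
  ext w
  show ρ g w = w
  by_cases hw : w = 0
  · rw [hw, map_zero]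
  · obtain ⟨h, rfl⟩ := htrans v w hv hw
    have hc : h⁻¹ * g * h ∈ Stab ρ v := by
      have := hn.conj_mem g hg h⁻¹
      rwa [inv_inv] at this
    rw [mem_Stab, rho_mul, rho_mul] at hc
    have := congrArg (ρ h) hc
    rw [rho_apply_inv] at this
    exact this

end action

section main

variable (q : ℕ) [Fact q.Prime] {V : Type*} [AddCommGroup V] [Module (ZMod q) V] [Finite V] [Nontrivial V]
    {G : Type*} [Group G] [Finite G] [Nontrivial G] (p : ℕ) [Fact p.Prime] (hG : IsPGroup p G)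
    (ρ : G →* (V ≃ₗ[ZMod q] V)) (hρ : Function.Injective ρ)
    (htrans : ∀ v w : V, v ≠ 0 → w ≠ 0 → ∃ g : G, ρ g v = w)

include hG hρ htrans

/-- case `q = 2` -/
lemma case_two (hq : q = 2) : p = Nat.card V - 1 ∧ Nat.card G = p := by
  subst hq
  obtain ⟨v, hv⟩ := exists_ne (0 : V)
  have hcard := card_eq_stab_mul ρ htrans v hv
  obtain ⟨k, hk⟩ := IsPGroup.iff_card.mp hG
  have hk0 : k ≠ 0 := by
    rintro rfl
    have h1 : 1 < Nat.card G := Finite.one_lt_card
    rw [hk] at h1; simp at h1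
  have hp := (Fact.out : p.Prime)
  have hV : Nat.card V = 2 ^ Module.finrank (ZMod 2) V := by
    rw [Module.natCard_eq_pow_finrank (K := ZMod 2), Nat.card_zmod]
  set n := Module.finrank (ZMod 2) V with hn
  have hn1 : 1 ≤ n := Module.finrank_pos
  have hVge : 2 ≤ Nat.card V := by
    rw [hV]; calc 2 = 2 ^ 1 := rfl
      _ ≤ 2 ^ n := Nat.pow_le_pow_right (by norm_num) hn1
  have hdvd : (Nat.card V - 1) ∣ p ^ k := by
    rw [← hk, hcard]; exact dvd_mul_right _ _
  obtain ⟨a, _, ha⟩ := (Nat.dvd_prime_pow hp).mp hdvd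
  -- a ≥ 1
  have ha1 : 1 ≤ a := by
    by_contra h0
    have : a = 0 := by omega
    rw [this, pow_zero] at ha
    -- |V| = 2, G trivial
    obtain ⟨g, hg⟩ := exists_ne (1 : G)
    apply hg
    apply hρ
    rw [map_one]
    ext w
    show ρ g w = w
    have hV2 : Nat.card V = 2 := by omega
    by_cases hw : w = 0
    · rw [hw, map_zero]
    · -- the only nonzero vector is w
      have hgw : ρ g w ≠ 0 := by
        intro h
        apply hw
        have := rho_inv_apply ρ g w
        rw [h, map_zero] at this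
        exact this.symm
      by_contra hne
      have h3 := three_le_card (0 : V) w (ρ g w) (Ne.symm hw) (Ne.symm hgw) (Ne.symm hne)
      omega
  -- p odd
  have hpodd : Odd p := by
    rcases hp.eq_two_or_odd' with h2 | ho
    · exfalso
      subst h2
      have : Even (2 ^ a) := (Nat.even_pow' (by omega)).mpr even_two
      have h2n : Even (2 ^ n) := (Nat.even_pow' (by omega)).mpr even_two
      rw [← ha] at this
      rw [hV] at this
      have h1 : 1 ≤ 2 ^ n := Nat.one_le_two_pow
      rcases this with ⟨r, hr⟩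
      rcases h2n with ⟨s, hs⟩
      omega
    · exact ho
  have ha_eq : a = 1 := by
    apply lemmaB p a n hpodd hp.one_lt ha1
    rw [← ha, hV]
    have h1 : 1 ≤ 2 ^ n := Nat.one_le_two_pow
    omega
  rw [ha_eq, pow_one] at ha
  refine ⟨ha.symm, ?_⟩
  -- stabilizer normal
  have hidx : (Stab ρ v).index = p := by
    have h1 := Subgroup.index_mul_card (Stab ρ v)
    rw [hcard, ha] at h1
    have hpos : 0 < Nat.card (Stab ρ v) := Nat.card_pos
    exact Nat.eq_of_mul_eq_mul_right hpos h1
  have hnorm : (Stab ρ v).Normal := by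
    apply Subgroup.normal_of_index_eq_minFac_card
    rw [hidx, hk, hp.pow_minFac hk0]
  have hbot := stab_eq_bot_of_normal ρ hρ htrans v hv hnorm
  rw [hcard, hbot, Subgroup.card_bot, mul_one, ha]

omit [Nontrivial G] hG in
/-- case of a line: `|V| = q` -/
lemma case_line (hV : Nat.card V = q) (a : ℕ) (ha : Nat.card V - 1 = 2 ^ a) :
    Nat.card G = 2 ^ a ∧ IsCyclic G := by
  obtain ⟨v, hv⟩ := exists_ne (0 : V)
  have hcard := card_eq_stab_mul ρ htrans v hv
  have hq := (Fact.out : q.Prime)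
  have hfr : Module.finrank (ZMod q) V = 1 := by
    have h1 : Nat.card V = q ^ Module.finrank (ZMod q) V := by
      rw [Module.natCard_eq_pow_finrank (K := ZMod q), Nat.card_zmod]
    rw [hV] at h1
    have : q ^ 1 = q ^ Module.finrank (ZMod q) V := by rw [pow_one]; exact h1
    exact (Nat.pow_right_injective hq.two_le this).symm
  have hspan : ∀ w : V, ∃ c : ZMod q, c • v = w := (finrank_eq_one_iff_of_nonzero' v hv).mp hfr
  -- stabilizer trivial
  have hfix : ∀ g : G, ρ g v = v → g = 1 := by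
    intro g hg
    apply hρ
    rw [map_one]
    ext w
    obtain ⟨c, rfl⟩ := hspan w
    show ρ g (c • v) = c • v
    rw [map_smul, hg]
  have hbot : Stab ρ v = ⊥ := by
    rw [Subgroup.eq_bot_iff_forall]
    intro g hg
    exact hfix g hg
  refine ⟨by rw [hcard, hbot, Subgroup.card_bot, mul_one, ha], ?_⟩
  -- scalar homomorphism
  choose c hc using fun g : G => hspan (ρ g v)
  have hinjv : Function.Injective (fun x : ZMod q => x • v) := smul_left_injective (ZMod q) hv
  let f : G →* ZMod q :=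
    { toFun := c
      map_one' := by
        apply hinjv
        show c 1 • v = (1 : ZMod q) • v
        rw [hc, rho_one, one_smul]
      map_mul' := by
        intro g h
        apply hinjv
        show c (g * h) • v = (c g * c h) • v
        rw [hc, rho_mul, ← hc h, map_smul, ← hc g, smul_smul, mul_comm] }
  have hf : Function.Injective f := by
    intro g h hgh
    have h1 : ρ g v = ρ h v := by
      rw [← hc g, ← hc h]
      show f g • v = f h • v
      rw [hgh]
    have h2 : ρ (h⁻¹ * g) v = v := by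
      rw [rho_mul, h1, rho_inv_apply]
    have := hfix _ h2
    exact (inv_mul_eq_one.mp this).symm
  exact isCyclic_of_injective_ringHom f hf

omit [Nontrivial G] in
/-- case `|V| = 9` -/
lemma case_nine (hq : q = 3) (hV : Nat.card V = 9) (hp : p = 2) :
    (IsCyclic G ∧ Nat.card G = 8) ∨ Nonempty (G ≃* QuaternionGroup 2) ∨
      (Cfsg.IsQuasiDihedral G ∧ Nat.card G = 16) := by
  subst hq hp
  obtain ⟨φ⟩ := exists_equiv (V := V) hV
  obtain ⟨v, hv⟩ := exists_ne (0 : V)
  have hcard := card_eq_stab_mul ρ htrans v hv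
  obtain ⟨k, hk⟩ := IsPGroup.iff_card.mp hG
  have hE : Nat.card (V ≃ₗ[ZMod 3] V) = 48 := by rw [← Nat.card_congr φ.toEquiv, card_GL23]
  have _ : Finite (V ≃ₗ[ZMod 3] V) := Nat.finite_of_card_ne_zero (by rw [hE]; norm_num)
  have hdvd : Nat.card G ∣ 48 := by
    rw [← hE, Nat.card_congr (MonoidHom.ofInjective hρ).toEquiv]
    exact Subgroup.card_subgroup_dvd_card _
  have h8 : 8 ∣ Nat.card G := by rw [hcard, hV]; exact dvd_mul_right _ _
  have hk34 : k = 3 ∨ k = 4 := by
    rw [hk] at hdvd h8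
    have hk4 : k ≤ 4 := by
      by_contra hcon
      have h5 : 5 ≤ k := by omega
      have : 2 ^ 5 ∣ 48 := (pow_dvd_pow 2 h5).trans hdvd
      norm_num at this
    have hk3 : 3 ≤ k := by
      by_contra hcon
      have h2 : k ≤ 2 := by omega
      have : 2 ^ k ≤ 2 ^ 2 := Nat.pow_le_pow_right (by norm_num) h2
      have := Nat.le_of_dvd (by positivity) h8
      omega
    omega
  rcases hk34 with rfl | rfl
  · -- order 8: regular
    have hG8 : Nat.card G = 8 := by rw [hk]; norm_num
    have hstab : ∀ w : V, w ≠ 0 → ∀ g : G, ρ g w = w → g = 1 := by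
      intro w hw g hg
      have h1 := card_eq_stab_mul ρ htrans w hw
      rw [hG8, hV] at h1
      have h2 : Nat.card (Stab ρ w) = 1 := by omega
      have h3 := Subgroup.card_eq_one.mp h2
      have : g ∈ Stab ρ w := hg
      rw [h3] at this
      exact Subgroup.mem_bot.mp this
    have hneg : ∀ t : G, t ≠ 1 → t * t = 1 → ∀ w : V, ρ t w = -w := by
      intro t ht1 htt w
      have hfix : ρ t (ρ t w + w) = ρ t w + w := by
        rw [map_add, ← rho_mul, htt, rho_one, add_comm]
      by_cases hu : ρ t w + w = 0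
      · exact eq_neg_of_add_eq_zero_left hu
      · exact absurd (hstab _ hu t hfix) ht1
    have huniq : ∀ t s : G, t ≠ 1 → t * t = 1 → s ≠ 1 → s * s = 1 → t = s := by
      intro t s ht1 htt hs1 hss
      apply hρ
      ext w
      rw [hneg t ht1 htt, hneg s hs1 hss]
    rcases order8 hG8 huniq with h | h
    · left; exact ⟨h, hG8⟩
    · right; left; exact h
  · right; right
    have hG16 : Nat.card G = 16 := by rw [hk]; norm_num
    exact ⟨exists_QD φ ρ hρ hG16, hG16⟩

end main

theorem result (q : ℕ) [Fact q.Prime] {V : Type*} [AddCommGroup V] [Module (ZMod q) V] [Finite V] [Nontrivial V]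
    {G : Type*} [Group G] [Finite G] [Nontrivial G] (p : ℕ) [Fact p.Prime] (hG : IsPGroup p G)
    (ρ : G →* (V ≃ₗ[ZMod q] V)) (hρ : Function.Injective ρ)
    (htrans : ∀ v w : V, v ≠ 0 → w ≠ 0 → ∃ g : G, ρ g v = w) :
    (q = 2 ∧ p = Nat.card V - 1 ∧ Nat.card G = p) ∨
    (p = 2 ∧ Nat.card V = q ∧ (∃ m : ℕ, q = 2 ^ m + 1 ∧ Nat.card G = 2 ^ m) ∧ IsCyclic G) ∨
    (p = 2 ∧ q = 3 ∧ Nat.card V = 9 ∧
      ((IsCyclic G ∧ Nat.card G = 8) ∨ Nonempty (G ≃* QuaternionGroup 2) ∨ (Cfsg.IsQuasiDihedral G ∧ Nat.card G = 16))) := by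
  by_cases hq2 : q = 2
  · left
    exact ⟨hq2, case_two q p hG ρ hρ htrans hq2⟩
  right
  have hq := (Fact.out : q.Prime)
  have hp := (Fact.out : p.Prime)
  have hqodd : Odd q := hq.eq_two_or_odd'.resolve_left hq2
  obtain ⟨v, hv⟩ := exists_ne (0 : V)
  have hcard := card_eq_stab_mul ρ htrans v hv
  obtain ⟨k, hk⟩ := IsPGroup.iff_card.mp hG
  have hV : Nat.card V = q ^ Module.finrank (ZMod q) V := by
    rw [Module.natCard_eq_pow_finrank (K := ZMod q), Nat.card_zmod]
  set n := Module.finrank (ZMod q) V with hn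
  have hn1 : 1 ≤ n := Module.finrank_pos
  have hVodd : Odd (Nat.card V) := by rw [hV]; exact hqodd.pow
  have hVge : 3 ≤ Nat.card V := by
    rw [hV]
    have h3 : 3 ≤ q := by
      rcases hqodd with ⟨r, hr⟩
      have := hq.two_le
      omega
    calc 3 ≤ q := h3
      _ = q ^ 1 := (pow_one q).symm
      _ ≤ q ^ n := Nat.pow_le_pow_right (by omega) hn1
  have hdvd : (Nat.card V - 1) ∣ p ^ k := by
    rw [← hk, hcard]; exact dvd_mul_right _ _
  obtain ⟨a, _, ha⟩ := (Nat.dvd_prime_pow hp).mp hdvd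
  have ha1 : 1 ≤ a := by
    by_contra h0
    have : a = 0 := by omega
    rw [this, pow_zero] at ha
    omega
  have hp2 : p = 2 := by
    have hev : Even (p ^ a) := by
      rw [← ha]
      rcases hVodd with ⟨r, hr⟩
      exact ⟨r, by omega⟩
    have : Even p := (Nat.even_pow.mp hev).1
    exact (Nat.Prime.even_iff hp).mp this
  rw [hp2] at ha
  have hqn : q ^ n = 2 ^ a + 1 := by
    rw [← hV]; omega
  rcases lemmaA q n a hqodd hq.one_lt hn1 hqn with h1 | ⟨h3, h2⟩
  · left
    have hVq : Nat.card V = q := by rw [hV, h1, pow_one]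
    obtain ⟨hc1, hc2⟩ := case_line q ρ hρ htrans hVq a ha
    exact ⟨hp2, hVq, ⟨a, by rw [← hVq]; omega, hc1⟩, hc2⟩
  · right
    have hV9 : Nat.card V = 9 := by rw [hV, h3, h2]; norm_num
    exact ⟨hp2, h3, hV9, case_nine q p hG ρ hρ htrans h3 hV9 hp2⟩

end Cfsg.Agent.S3370
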