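import Cfsg.Statements.S1592
import Mathlib
import Cfsg.Agent.Lib.Helper27.TGMask

set_option autoImplicit false
set_option maxRecDepth 1000000
open scoped Pointwise
open Cfsg

namespace Cfsg.Agent.S1592

open Cfsg.Agent.Helper27.TG

/-- The support masks of the weight-6 words. -/
def hexL : List ℕ :=
  [63, 222, 237, 243, 347, 366, 373, 413, 427, 438, 455, 504, 591, 630, 633, 667, 679, 700, 725,
   746, 791, 813, 826, 860, 867, 910, 945, 969, 978, 996, 1117, 1127, 1146, 1175, 1198, 1209, 1227,
   1268, 1295, 1331, 1340, 1366, 1385, 1434, 1445, 1484, 1489, 1506, 1566, 1579, 1589, 1619, 1644,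
   1677, 1714, 1734, 1752, 1761, 1817, 1830, 1861, 1866, 1904, 1923, 1940, 1960, 2135, 2155, 2172,
   2191, 2229, 2234, 2265, 2278, 2334, 2343, 2361, 2381, 2418, 2451, 2476, 2506, 2516, 2529, 2589,
   2606, 2611, 2650, 2661, 2710, 2729, 2755, 2764, 2800, 2827, 2868, 2886, 2897, 2920, 2949, 2968,
   2978, 3099, 3117, 3126, 3150, 3185, 3228, 3235, 3269, 3282, 3304, 3349, 3370, 3395, 3416, 3428,
   3462, 3465, 3504, 3591, 3640, 3657, 3668, 3682, 3722, 3729, 3748, 3852, 3858, 3873, 4032]

theorem hexL_complete :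
    (List.range 729).all (fun n => wtN n != 6 || hexL.contains (suppN n)) = true := by
  decide +kernel

theorem hexL_sound :
    hexL.all (fun m => (List.range 729).any (fun n => wtN n == 6 && suppN n == m)) = true := by
  decide +kernel

theorem hexL_nodup : hexL.Nodup := by decide +kernel

theorem hexL_lt : hexL.all (fun m => decide (m < 4096)) = true := by decide +kernel

theorem hexL_length : hexL.length = 132 := by decide

theorem steiner_check :
    (List.range 4096).all (fun m => pop12 m != 5 ||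
      (hexL.filter (fun h => h &&& m == m)).length == 1) = true := by
  decide +kernel

theorem hexL_lt' {m : ℕ} (hm : m ∈ hexL) : m < 2 ^ 12 := by
  have := List.all_eq_true.mp hexL_lt m hm
  simpa using this

theorem mem_H {h : Finset ArrayPt} :
    (∃ x ∈ ternaryGolayCode, ternarySupport x = h ∧ h.card = 6) ↔ ∃ m ∈ hexL, h = toFS m := by
  constructor
  · rintro ⟨x, hx, rfl, hc⟩
    obtain ⟨n, hn, rfl⟩ := exists_wordN hx
    rw [card_support_wordN] at hc
    have h1 := List.all_eq_true.mp hexL_complete n (List.mem_range.mpr hn)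
    simp only [hc, bne_self_eq_false, Bool.false_or, List.contains_iff_mem] at h1
    exact ⟨suppN n, h1, support_wordN hn⟩
  · rintro ⟨m, hm, rfl⟩
    have h1 := List.all_eq_true.mp hexL_sound m hm
    rw [List.any_eq_true] at h1
    obtain ⟨n, hn, h2⟩ := h1
    simp only [Bool.and_eq_true, beq_iff_eq] at h2
    rw [List.mem_range] at hn
    refine ⟨wordN n, wordN_mem n, ?_, ?_⟩
    · rw [support_wordN hn, h2.2]
    · rw [← h2.2, ← support_wordN hn, card_support_wordN, h2.1]

/-- The supports of the weight-6 words of the length-12 ternary code form a Steiner system S(5, 6, 12) with 132 blocks. -/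
theorem result : Cfsg.IsSteinerSystem 5 6 {h : Finset Cfsg.ArrayPt | ∃ x ∈ Cfsg.ternaryGolayCode, Cfsg.ternarySupport x = h ∧ h.card = 6} ∧ {h : Finset Cfsg.ArrayPt | ∃ x ∈ Cfsg.ternaryGolayCode, Cfsg.ternarySupport x = h ∧ h.card = 6}.ncard = 132 := by
  refine ⟨⟨?_, ?_⟩, ?_⟩
  · rintro b ⟨x, _, _, hc⟩
    exact hc
  · intro s hs
    have hm := maskOf_lt s
    have hpop : pop12 (maskOf s) = 5 := by rw [card_maskOf, hs]
    have h1 := List.all_eq_true.mp steiner_check (maskOf s) (List.mem_range.mpr hm)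
    simp only [hpop, bne_self_eq_false, Bool.false_or, beq_iff_eq] at h1
    obtain ⟨h0, hh0⟩ := List.length_eq_one_iff.mp h1
    have hmem : h0 ∈ hexL.filter (fun h => h &&& maskOf s == maskOf s) := by rw [hh0]; simp
    rw [List.mem_filter, beq_iff_eq] at hmem
    refine ⟨toFS h0, ⟨mem_H.mpr ⟨h0, hmem.1, rfl⟩, ?_⟩, ?_⟩
    · rw [← toFS_maskOf s] 
      exact (toFS_subset_iff hm).mpr hmem.2
    · rintro b ⟨hb, hsb⟩
      obtain ⟨m, hm', rfl⟩ := mem_H.mp hb
      rw [← toFS_maskOf s, toFS_subset_iff hm] at hsb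
      have : m ∈ hexL.filter (fun h => h &&& maskOf s == maskOf s) := by
        rw [List.mem_filter, beq_iff_eq]; exact ⟨hm', hsb⟩
      rw [hh0, List.mem_singleton] at this
      rw [this]
  · have h1 : {h : Finset ArrayPt | ∃ x ∈ ternaryGolayCode, ternarySupport x = h ∧ h.card = 6} =
        toFS '' (↑hexL.toFinset : Set ℕ) := by
      ext h
      simp only [Set.mem_ofPred_eq, Set.mem_image, Finset.mem_coe, List.mem_toFinset]
      rw [mem_H]
      constructor
      · rintro ⟨m, hm, rfl⟩; exact ⟨m, hm, rfl⟩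
      · rintro ⟨m, hm, rfl⟩; exact ⟨m, hm, rfl⟩
    rw [h1, Set.InjOn.ncard_image, Set.ncard_coe_finset, List.toFinset_card_of_nodup hexL_nodup,
      hexL_length]
    intro a ha b hb hab
    simp only [Finset.mem_coe, List.mem_toFinset] at ha hb
    exact toFS_inj (hexL_lt' ha) (hexL_lt' hb) hab

end Cfsg.Agent.S1592
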