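import Cfsg.Statements.S1590
import Mathlib
import Cfsg.Agent.Lib.Helper27.TGEnum

set_option autoImplicit false
set_option maxRecDepth 1000000
open scoped Pointwise
open Cfsg

namespace Cfsg.Agent.S1590

open Cfsg.Agent.Helper27.TG

theorem wt_table :
    (List.range 729).all (fun n => wtN n == 0 || wtN n == 6 || wtN n == 9 || wtN n == 12) = true := by
  decide +kernel

theorem count6 : ((List.range 729).filter (fun n => wtN n == 6)).length = 264 := by decide +kernel
theorem count9 : ((List.range 729).filter (fun n => wtN n == 9)).length = 440 := by decide +kernel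
theorem count12 : ((List.range 729).filter (fun n => wtN n == 12)).length = 24 := by decide +kernel

theorem count_wt (w : ℕ) :
    {x : ArrayPt → ZMod 3 | x ∈ ternaryGolayCode ∧ (ternarySupport x).card = w}.ncard =
      ((List.range 729).filter (fun n => wtN n == w)).length := by
  apply ncard_code_filter (fun x => (ternarySupport x).card = w) (fun n => wtN n == w)
  intro n _
  rw [card_support_wordN, beq_iff_eq]

/-- The ternary code of length 12 has 729 words; nonzero words have weight 6, 9 or 12, with 264, 440, 24 words of these weights. -/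
theorem result : Nat.card ↥Cfsg.ternaryGolayCode = 729 ∧ (∀ x ∈ Cfsg.ternaryGolayCode, x ≠ 0 → (Cfsg.ternarySupport x).card = 6 ∨ (Cfsg.ternarySupport x).card = 9 ∨ (Cfsg.ternarySupport x).card = 12) ∧ {x : Cfsg.ArrayPt → ZMod 3 | x ∈ Cfsg.ternaryGolayCode ∧ (Cfsg.ternarySupport x).card = 6}.ncard = 264 ∧ {x : Cfsg.ArrayPt → ZMod 3 | x ∈ Cfsg.ternaryGolayCode ∧ (Cfsg.ternarySupport x).card = 9}.ncard = 440 ∧ {x : Cfsg.ArrayPt → ZMod 3 | x ∈ Cfsg.ternaryGolayCode ∧ (Cfsg.ternarySupport x).card = 12}.ncard = 24 := by
  refine ⟨?_, ?_, ?_, ?_, ?_⟩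
  · have h := ncard_code_filter (fun _ => True) (fun _ => true) (fun n _ => by simp)
    have h2 : {x : ArrayPt → ZMod 3 | x ∈ ternaryGolayCode ∧ True} =
        (ternaryGolayCode : Set (ArrayPt → ZMod 3)) := by
      ext x; simp
    rw [h2] at h
    rw [← SetLike.coe_sort_coe, Nat.card_coe_set_eq, h]
    simp
  · intro x hx hx0
    obtain ⟨n, hn, rfl⟩ := exists_wordN hx
    rw [card_support_wordN]
    have h := List.all_eq_true.mp wt_table n (List.mem_range.mpr hn)
    simp only [Bool.or_eq_true, beq_iff_eq] at h
    rcases h with ((h | h) | h) | h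
    · exfalso
      apply hx0
      have hc : (ternarySupport (wordN n)).card = 0 := by rw [card_support_wordN, h]
      rw [Finset.card_eq_zero] at hc
      funext p
      by_contra hp
      have : p ∈ ternarySupport (wordN n) := by
        unfold ternarySupport
        simp only [Finset.mem_filter, Finset.mem_univ, true_and]
        exact hp
      rw [hc] at this
      exact absurd this (Finset.notMem_empty p)
    · exact Or.inl h
    · exact Or.inr (Or.inl h)
    · exact Or.inr (Or.inr h)
  · rw [count_wt, count6]
  · rw [count_wt, count9]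
  · rw [count_wt, count12]

end Cfsg.Agent.S1590
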