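import Cfsg.Statements.S1593
import Mathlib
import Cfsg.Agent.Lib.Helper27.TGEnum
import Cfsg.Agent.S1590

set_option autoImplicit false
set_option maxRecDepth 1000000
open scoped Pointwise
open Cfsg

namespace Cfsg.Agent.S1593

open Cfsg.Agent.Helper27.TG

theorem card_support_mem {z : ArrayPt → ZMod 3} (hz : z ∈ ternaryGolayCode) :
    (ternarySupport z).card = 0 ∨ (ternarySupport z).card = 6 ∨ (ternarySupport z).card = 9 ∨
      (ternarySupport z).card = 12 := by
  obtain ⟨n, hn, rfl⟩ := exists_wordN hz
  rw [card_support_wordN]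
  have h := List.all_eq_true.mp Cfsg.Agent.S1590.wt_table n (List.mem_range.mpr hn)
  simp only [Bool.or_eq_true, beq_iff_eq] at h
  tauto

/-- Any two positions lie in the support of a common word of weight 6. -/
theorem pair_cover :
    (List.range 144).all (fun t => (List.range 729).any
      (fun n => wtN n == 6 && coordN n (t / 12) != 0 && coordN n (t % 12) != 0)) = true := by
  decide +kernel

theorem exists_hexad_word (p q : ArrayPt) :
    ∃ x ∈ ternaryGolayCode, (ternarySupport x).card = 6 ∧ x p ≠ 0 ∧ x q ≠ 0 := by
  have hp := aidx_lt p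
  have hq := aidx_lt q
  have h := List.all_eq_true.mp pair_cover (12 * aidx p + aidx q) (List.mem_range.mpr (by omega))
  rw [List.any_eq_true] at h
  obtain ⟨n, _, hn⟩ := h
  simp only [Bool.and_eq_true, beq_iff_eq, bne_iff_ne, ne_eq] at hn
  have e1 : (12 * aidx p + aidx q) / 12 = aidx p := by omega
  have e2 : (12 * aidx p + aidx q) % 12 = aidx q := by omega
  rw [e1, e2] at hn
  refine ⟨wordN n, wordN_mem n, ?_, ?_, ?_⟩
  · rw [card_support_wordN]; exact hn.1.1
  · exact (wordN_ne_zero_iff n p).mpr hn.1.2
  · exact (wordN_ne_zero_iff n q).mpr hn.2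

theorem unit_cases : ∀ u : (ZMod 3)ˣ, u = 1 ∨ u = -1 := by decide

theorem mem_support {x : ArrayPt → ZMod 3} {p : ArrayPt} : p ∈ ternarySupport x ↔ x p ≠ 0 := by
  unfold ternarySupport
  simp

/-- A diagonal automorphism is constant on the support of every word of weight 6. -/
theorem const_on_hexad (c : ArrayPt → (ZMod 3)ˣ)
    (h : ∀ x ∈ ternaryGolayCode, monomialMap 1 c x ∈ ternaryGolayCode)
    {x : ArrayPt → ZMod 3} (hx : x ∈ ternaryGolayCode) (hw : (ternarySupport x).card = 6) :
    (∀ p, x p ≠ 0 → c p = 1) ∨ (∀ p, x p ≠ 0 → c p = -1) := by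
  have hy := h x hx
  have hy' : monomialMap 1 c x = fun p => (c p : ZMod 3) * x p := by
    funext p
    rfl
  rw [hy'] at hy
  have hz1 := Submodule.sub_mem _ hy hx
  have hz2 := Submodule.add_mem _ hy hx
  -- the two supports partition the support of `x`
  have hs1 : ternarySupport ((fun p => (c p : ZMod 3) * x p) - x) =
      (ternarySupport x).filter (fun p => c p = -1) := by
    ext p
    simp only [mem_support, Finset.mem_filter, Pi.sub_apply]
    rcases unit_cases (c p) with e | e
    · rw [e]
      have : ((1 : (ZMod 3)ˣ) : ZMod 3) * x p - x p = 0 := by simp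
      rw [this]
      simp
      intro _
      decide
    · rw [e]
      have : (((-1 : (ZMod 3)ˣ)) : ZMod 3) * x p - x p = x p := by
        simp only [Units.val_neg, Units.val_one, neg_mul, one_mul]
        have h3 : ∀ a : ZMod 3, -a - a = a := by decide
        exact h3 _
      rw [this]
      simp
  have hs2 : ternarySupport ((fun p => (c p : ZMod 3) * x p) + x) =
      (ternarySupport x).filter (fun p => ¬ c p = -1) := by
    ext p
    simp only [mem_support, Finset.mem_filter, Pi.add_apply]
    rcases unit_cases (c p) with e | e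
    · rw [e]
      have : ((1 : (ZMod 3)ˣ) : ZMod 3) * x p + x p = - x p := by
        simp only [Units.val_one, one_mul]
        have h3 : ∀ a : ZMod 3, a + a = -a := by decide
        exact h3 _
      rw [this]
      simp
      intro _
      decide
    · rw [e]
      have : (((-1 : (ZMod 3)ˣ)) : ZMod 3) * x p + x p = 0 := by simp
      rw [this]
      simp
  have hsum := Finset.card_filter_add_card_filter_not (s := ternarySupport x)
    (fun p => c p = -1)
  rw [← hs1, ← hs2, hw] at hsum
  have c1 := card_support_mem hz1
  have c2 := card_support_mem hz2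
  have hcase : (ternarySupport ((fun p => (c p : ZMod 3) * x p) - x)).card = 0 ∨
      (ternarySupport ((fun p => (c p : ZMod 3) * x p) + x)).card = 0 := by omega
  rcases hcase with h0 | h0
  · left
    intro p hp
    rw [hs1, Finset.card_eq_zero] at h0
    have : p ∉ (ternarySupport x).filter (fun p => c p = -1) := by rw [h0]; simp
    rw [Finset.mem_filter, mem_support] at this
    rcases unit_cases (c p) with e | e
    · exact e
    · exact absurd ⟨hp, e⟩ this
  · right
    intro p hp
    rw [hs2, Finset.card_eq_zero] at h0
    have : p ∉ (ternarySupport x).filter (fun p => ¬ c p = -1) := by rw [h0]; simp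
    rw [Finset.mem_filter, mem_support] at this
    by_contra hne
    exact this ⟨hp, hne⟩

/-- The only diagonal automorphisms of the length-12 ternary code are ±1. -/
theorem result (c : Cfsg.ArrayPt → (ZMod 3)ˣ) (h : (∀ x ∈ Cfsg.ternaryGolayCode, Cfsg.monomialMap 1 c x ∈ Cfsg.ternaryGolayCode)) : (∀ p, c p = 1) ∨ (∀ p, c p = -1) := by
  have hconst : ∀ p q : ArrayPt, c p = c q := by
    intro p q
    obtain ⟨x, hx, hw, hp, hq⟩ := exists_hexad_word p q
    rcases const_on_hexad c h hx hw with h1 | h1
    · rw [h1 p hp, h1 q hq]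
    · rw [h1 p hp, h1 q hq]
  rcases unit_cases (c (0, 0)) with e | e
  · left; intro p; rw [hconst p (0, 0), e]
  · right; intro p; rw [hconst p (0, 0), e]

end Cfsg.Agent.S1593
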