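import Cfsg.Statements.S1594
import Mathlib
import Cfsg.Agent.Lib.Helper27.Mask
import Cfsg.Agent.Lib.Helper27.TGMask
import Cfsg.Agent.Lib.Helper27.Monomial
import Cfsg.Agent.Lib.Helper7.Chain2
import Cfsg.Agent.S1592
import Cfsg.Agent.S1593

set_option autoImplicit false
set_option maxRecDepth 1000000
open scoped Pointwise
open Cfsg

namespace Cfsg.Agent.S1594

open Cfsg.Agent.Helper27.TG
open Cfsg.Agent.Helper27.Mono
open Cfsg.Agent.Helper27 (lk pmAux testBit_pmAux)

/-! ### Permutations of the twelve positions from tables -/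

/-- `T` and `T'` are tables (5 bits per entry) of mutually inverse permutations of `0..11`. -/
def checkInv12 (T T' : ℕ) : Bool :=
  (List.range 12).all fun i =>
    decide (lk T i < 12) && decide (lk T' i < 12) && (lk T' (lk T i) == i) && (lk T (lk T' i) == i)

theorem checkInv12_spec {T T' : ℕ} (h : checkInv12 T T' = true) {i : ℕ} (hi : i < 12) :
    lk T i < 12 ∧ lk T' i < 12 ∧ lk T' (lk T i) = i ∧ lk T (lk T' i) = i := by
  unfold checkInv12 at h
  rw [List.all_eq_true] at h
  have := h i (List.mem_range.mpr hi)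
  simp only [Bool.and_eq_true, decide_eq_true_eq, beq_iff_eq] at this
  tauto

/-- The permutation of the positions with table `T` (and inverse table `T'`). -/
def mkPerm12 (T T' : ℕ) (h : checkInv12 T T' = true) : Equiv.Perm ArrayPt where
  toFun p := apt (lk T (aidx p))
  invFun p := apt (lk T' (aidx p))
  left_inv p := by
    have := checkInv12_spec h (aidx_lt p)
    show apt (lk T' (aidx (apt (lk T (aidx p))))) = p
    rw [aidx_apt _ this.1, this.2.2.1, apt_aidx]
  right_inv p := by
    have := checkInv12_spec h (aidx_lt p)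
    show apt (lk T (aidx (apt (lk T' (aidx p))))) = p
    rw [aidx_apt _ this.2.1, this.2.2.2, apt_aidx]

theorem mkPerm12_apt (T T' : ℕ) (h : checkInv12 T T' = true) {i : ℕ} (hi : i < 12) :
    mkPerm12 T T' h (apt i) = apt (lk T i) := by
  show apt (lk T (aidx (apt i))) = apt (lk T i)
  rw [aidx_apt i hi]

/-- The vector of signs coded by a mask. -/
def cOf (cm : ℕ) : ArrayPt → (ZMod 3)ˣ := fun p => if cm.testBit (aidx p) then -1 else 1

/-- Coordinate `j` of the image of the `k`-th basis word. -/
def imgCoord (T' cm k j : ℕ) : ℕ := ((if cm.testBit j then 2 else 1) * bent k (lk T' j)) % 3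

/-- The index of the image of the `k`-th basis word. -/
def imgIdx (T' cm k : ℕ) : ℕ :=
  imgCoord T' cm k 0 + 3 * imgCoord T' cm k 1 + 9 * imgCoord T' cm k 2 + 27 * imgCoord T' cm k 3 +
    81 * imgCoord T' cm k 4 + 243 * imgCoord T' cm k 6

/-- The monomial map maps the basis words into the code. -/
def presOK (T' cm : ℕ) : Bool :=
  (List.range 6).all fun k => (List.range 12).all fun j =>
    coordN (imgIdx T' cm k) j == imgCoord T' cm k j

theorem neg_one_eq : ((-1 : (ZMod 3)ˣ) : ZMod 3) = ((2 : ℕ) : ZMod 3) := by decide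

theorem monomialMap_bvec {T T' cm : ℕ} (h : checkInv12 T T' = true) (hp : presOK T' cm = true)
    {k : ℕ} (hk : k < 6) :
    Cfsg.monomialMap (mkPerm12 T T' h) (cOf cm) (bvec k) = wordN (imgIdx T' cm k) := by
  funext p
  have h1 := List.all_eq_true.mp (List.all_eq_true.mp hp k (List.mem_range.mpr hk)) (aidx p)
    (List.mem_range.mpr (aidx_lt p))
  rw [beq_iff_eq] at h1
  have h2 := (checkInv12_spec h (aidx_lt p)).2.1
  show (cOf cm p : ZMod 3) * bvec k (apt (lk T' (aidx p))) = wordN (imgIdx T' cm k) p
  unfold wordN bvec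
  rw [h1, aidx_apt _ h2]
  unfold imgCoord cOf
  rw [ZMod.natCast_mod]
  split_ifs with hb
  · rw [neg_one_eq]; push_cast; rfl
  · push_cast; simp

/-- The code, as a subspace. -/
abbrev C : Submodule (ZMod 3) (ArrayPt → ZMod 3) := ternaryGolayCode

theorem pres_of_tables {T T' cm : ℕ} (h : checkInv12 T T' = true) (hp : presOK T' cm = true) :
    Pres C (mkPerm12 T T' h) (cOf cm) := by
  intro x hx
  obtain ⟨a, rfl⟩ := mem_iff.mp hx
  have : Cfsg.monomialMap (mkPerm12 T T' h) (cOf cm) (∑ k : Fin 6, a k • bvec k.val) =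
      ∑ k : Fin 6, a k • Cfsg.monomialMap (mkPerm12 T T' h) (cOf cm) (bvec k.val) := by
    rw [← monoLin_apply, map_sum]
    simp only [map_smul, monoLin_apply]
  rw [this]
  refine Submodule.sum_mem _ fun k _ => Submodule.smul_mem _ _ ?_
  rw [monomialMap_bvec h hp k.isLt]
  exact wordN_mem _

/-! ### Fifty monomial automorphisms: transitivity along a base -/

/-- Row `12 * lvl + q`: a monomial automorphism fixing the positions `0, …, lvl - 1` and mapping
position `lvl` to `q` (tables of the permutation and its inverse, mask of the signs). -/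
def certL : List (ℕ × ℕ × ℕ) :=
  [(407901468851537952, 407901468851537952, 0),
   (225437588310296577, 225437588310296577, 0),
   (337003827368657922, 370814977080131649, 0),
   (406738189844284419, 403434155255270465, 2764),
   (296510014559945732, 333525107865685057, 1940),
   (372928171822089221, 372893088249678913, 3428),
   (405683649878492166, 406637058433616961, 2514),
   (221953200728638471, 187188568250256449, 3102),
   (190492974347518984, 258183138587577409, 1224),
   (263754324103988233, 299499654391925825, 3746),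
   (151192997024826378, 216495190556412993, 2824),
   (328945644153668619, 8275105211878465, 430),
   (0, 0, 0),
   (407901468851537952, 407901468851537952, 0),
   (296335229793174592, 296335229793174592, 0),
   (367299842701067360, 228847172794223680, 2764),
   (227756523830445184, 263784121477762112, 1940),
   (333489824678872224, 295384049022798912, 3428),
   (188175173737841856, 224239144464944192, 2514),
   (370708186139788512, 192890664473726016, 3102),
   (257102314323641600, 330171632878488640, 1224),
   (156687286626485536, 369338262238661696, 3746),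
   (402199468221465920, 397694773447756864, 2824),
   (295342199060628832, 46385279820500032, 430),
   (0, 0, 0),
   (0, 0, 0),
   (407901468851537952, 407901468851537952, 0),
   (333664609481329696, 333664609481329696, 2764),
   (264874903586541600, 368390658091781152, 1940),
   (404560087339832352, 406739388040612896, 3428),
   (299882145989597216, 335706431667964960, 2514),
   (184870004270898208, 189404150786821152, 3102),
   (331198340642447392, 222191794689018912, 1224),
   (369546241625891872, 264668156784675872, 3746),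
   (226458892978169888, 290839735458466848, 2824),
   (150070360185842720, 79138628582902816, 430),
   (0, 0, 0),
   (0, 0, 0),
   (0, 0, 0),
   (407901468851537952, 407901468851537952, 0),
   (295244480971409440, 295244480971409440, 0),
   (370816008911489056, 337002795436738592, 0),
   (402238882096285728, 405509993651111968, 6),
   (227612386003224608, 191621902178060320, 4090),
   (188348923452327968, 258151389113485344, 4092),
   (257066002388650016, 226420614055987232, 6),
   (156721335047096352, 363952892839856160, 4092),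
   (333412957750134816, 116365892133193760, 4090),
   (0, 0, 0),
   (0, 0, 0),
   (0, 0, 0),
   (0, 0, 0),
   (407901468851537952, 407901468851537952, 0),
   (261431267496658976, 261431267496658976, 0),
   (368322382208796704, 300799241672034336, 6),
   (154536542196566048, 187261270136817696, 4090),
   (221069224490141728, 330139579604633632, 4092),
   (300799241672034336, 368322382208796704, 6),
   (330139579604633632, 221069224490141728, 4092),
   (187261270136817696, 154536542196566048, 4090)]

def rowOK (lvl q : ℕ) (r : ℕ × ℕ × ℕ) : Bool :=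
  checkInv12 r.1 r.2.1 && presOK r.2.1 r.2.2 && (List.range lvl).all (fun b => lk r.1 b == b) &&
    (lk r.1 lvl == q)

theorem certOK : (List.range 5).all (fun lvl => (List.range 12).all (fun q =>
    decide (q < lvl) || rowOK lvl q (certL.getD (12 * lvl + q) (0, 0, 0)))) = true := by
  decide +kernel

/-- The base. -/
def bs : List ArrayPt := (List.range 5).map apt

theorem take_bs {i : ℕ} (hi : i ≤ 5) : bs.take i = (List.range i).map apt := by
  unfold bs
  rw [← List.map_take, List.take_range, min_eq_left hi]

theorem chain_T : Cfsg.Agent.Helper7.ChainTrans (T C) bs := by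
  intro i hi q hq
  have hi5 : i < 5 := by simpa [bs] using hi
  rw [take_bs hi5.le] at hq
  have hj := aidx_lt q
  have hji : ¬ aidx q < i := by
    intro h
    apply hq
    rw [List.mem_map]
    exact ⟨aidx q, List.mem_range.mpr h, apt_aidx q⟩
  have h1 := List.all_eq_true.mp (List.all_eq_true.mp certOK i (List.mem_range.mpr hi5)) (aidx q)
    (List.mem_range.mpr hj)
  simp only [hji, decide_false, Bool.false_or] at h1
  generalize certL.getD (12 * i + aidx q) (0, 0, 0) = r at h1
  obtain ⟨T1, T2, cm⟩ := r
  unfold rowOK at h1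
  simp only [Bool.and_eq_true, beq_iff_eq] at h1
  obtain ⟨⟨⟨h2, h3⟩, h4⟩, h5⟩ := h1
  refine ⟨mkPerm12 T1 T2 h2, ?_, ?_⟩
  · rw [Cfsg.Agent.Helper7.mem_stabL, take_bs hi5.le]
    refine ⟨⟨cOf cm, pres_of_tables h2 h3⟩, ?_⟩
    intro b hb
    rw [List.mem_map] at hb
    obtain ⟨b', hb', rfl⟩ := hb
    have hb'' := List.mem_range.mp hb'
    rw [mkPerm12_apt _ _ _ (by omega)]
    have := List.all_eq_true.mp h4 b' hb'
    rw [beq_iff_eq] at this
    rw [this]
  · simp only [bs, List.getElem_map, List.getElem_range]
    rw [mkPerm12_apt _ _ _ (by omega), h5, apt_aidx]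

/-! ### The hexad system and its automorphisms -/

open Cfsg.Agent.S1592 (hexL)

/-- The hexads. -/
def Hx : Set (Finset ArrayPt) :=
  {h : Finset ArrayPt | ∃ x ∈ ternaryGolayCode, ternarySupport x = h ∧ h.card = 6}

/-- The automorphism group of the hexad system. -/
abbrev Aut : Subgroup (Equiv.Perm ArrayPt) := setSystemAut Hx

theorem mem_Hx {h : Finset ArrayPt} : h ∈ Hx ↔ ∃ m ∈ hexL, h = toFS m := Cfsg.Agent.S1592.mem_H

theorem support_monomialMap (σ : Equiv.Perm ArrayPt) (c : ArrayPt → (ZMod 3)ˣ)
    (x : ArrayPt → ZMod 3) :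
    ternarySupport (Cfsg.monomialMap σ c x) = σ • ternarySupport x := by
  ext p
  rw [← Finset.inv_smul_mem_iff]
  unfold ternarySupport
  rw [Finset.mem_filter, Finset.mem_filter]
  simp only [Finset.mem_univ, true_and]
  show (c p : ZMod 3) * x (σ.symm p) ≠ 0 ↔ x (σ.symm p) ≠ 0
  rw [mul_ne_zero_iff]
  constructor
  · intro h; exact h.2
  · intro h; exact ⟨(c p).ne_zero, h⟩

theorem T_le_Aut : T C ≤ Aut := by
  rintro σ ⟨c, hc⟩
  rw [MulAction.mem_stabilizer_iff]
  have hsub : σ • Hx ⊆ Hx := by
    rintro _ ⟨h, ⟨x, hx, rfl, hcard⟩, rfl⟩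
    refine ⟨Cfsg.monomialMap σ c x, hc x hx, support_monomialMap σ c x, ?_⟩
    rw [Finset.card_smul_finset]
    exact hcard
  have hfin : Hx.Finite := Set.toFinite _
  apply Set.eq_of_subset_of_ncard_le hsub _ hfin
  rw [← Set.image_smul, Set.ncard_image_of_injective _ (MulAction.injective σ)]

theorem smul_mem_Hx {g : Equiv.Perm ArrayPt} (hg : g ∈ Aut) {h : Finset ArrayPt} (hh : h ∈ Hx) :
    g • h ∈ Hx := by
  have := MulAction.mem_stabilizer_iff.mp hg
  rw [← this]
  exact Set.smul_mem_smul_set hh

/-! ### Images of masks under a permutation -/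

/-- The mask whose bit `j` (for `j < n`) is bit `f j` of `m`. -/
def pfAux (f : ℕ → ℕ) (m n : ℕ) : ℕ :=
  Nat.rec (motive := fun _ => ℕ) 0
    (fun j ih => Nat.lor ih (Nat.shiftLeft (Nat.land (Nat.shiftRight m (f j)) 1) j)) n

theorem pfAux_zero (f : ℕ → ℕ) (m : ℕ) : pfAux f m 0 = 0 := rfl

theorem pfAux_succ (f : ℕ → ℕ) (m j : ℕ) :
    pfAux f m (j + 1) = pfAux f m j ||| (((m >>> f j) &&& 1) <<< j) := rfl

theorem testBit_pfAux (f : ℕ → ℕ) (m n j : ℕ) :
    (pfAux f m n).testBit j = (decide (j < n) && m.testBit (f j)) := by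
  induction n with
  | zero => simp [pfAux_zero]
  | succ n ih =>
    rw [pfAux_succ, Nat.testBit_or, ih, Nat.testBit_shiftLeft, Nat.testBit_and,
      Nat.testBit_shiftRight]
    by_cases h1 : j < n
    · have h2 : ¬ j ≥ n := by omega
      have h3 : j < n + 1 := by omega
      simp [h1, h2, h3]
    · by_cases h2 : j = n
      · subst h2
        simp
      · have h3 : ¬ j < n + 1 := by omega
        have h4 : j - n ≠ 0 := by omega
        have : Nat.testBit 1 (j - n) = false := by
          rw [show (1 : ℕ) = 2 ^ 0 by norm_num, Nat.testBit_two_pow]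
          simp; omega
        simp [h1, h3, this]

/-- The mask of the image of `m` under the permutation whose inverse has index function `f`. -/
def pullF (f : ℕ → ℕ) (m : ℕ) : ℕ := pfAux f m 12

theorem testBit_pullF (f : ℕ → ℕ) (m j : ℕ) :
    (pullF f m).testBit j = (decide (j < 12) && m.testBit (f j)) := testBit_pfAux f m 12 j

theorem pullF_lt (f : ℕ → ℕ) (m : ℕ) : pullF f m < 2 ^ 12 := by
  apply Nat.lt_pow_two_of_testBit
  intro i hi
  rw [testBit_pullF]
  have : ¬ i < 12 := by omega
  simp [this]

theorem pullF_congr {f f' : ℕ → ℕ} (h : ∀ j < 12, f j = f' j) (m : ℕ) : pullF f m = pullF f' m := by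
  apply Nat.eq_of_testBit_eq
  intro j
  rw [testBit_pullF, testBit_pullF]
  by_cases hj : j < 12
  · rw [h j hj]
  · simp [hj]

/-- Index function of the inverse of a permutation. -/
def gi (g : Equiv.Perm ArrayPt) (j : ℕ) : ℕ := aidx (g⁻¹ (apt j))

theorem smul_toFS (g : Equiv.Perm ArrayPt) (m : ℕ) : g • toFS m = toFS (pullF (gi g) m) := by
  ext p
  rw [← Finset.inv_smul_mem_iff]
  simp only [mem_toFS, testBit_pullF, aidx_lt, decide_true, Bool.true_and]
  unfold gi
  rw [apt_aidx]
  rfl

theorem gi_lt (g : Equiv.Perm ArrayPt) (j : ℕ) : gi g j < 12 := aidx_lt _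

theorem gi_injective (g : Equiv.Perm ArrayPt) {j j' : ℕ} (hj : j < 12) (hj' : j' < 12)
    (h : gi g j = gi g j') : j = j' := by
  unfold gi at h
  have h1 := g⁻¹.injective (aidx_injective h)
  rw [← aidx_apt j hj, ← aidx_apt j' hj', h1]

theorem gi_of_fix {g : Equiv.Perm ArrayPt} {j : ℕ} (hj : j < 12) (h : g (apt j) = apt j) :
    gi g j = j := by
  unfold gi
  have : g⁻¹ (apt j) = apt j := by
    rw [Equiv.Perm.inv_eq_iff_eq]; exact h.symm
  rw [this, aidx_apt j hj]

theorem eq_one_of_gi {g : Equiv.Perm ArrayPt} (h : ∀ j < 12, gi g j = j) : g = 1 := by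
  have : g⁻¹ = 1 := by
    apply Equiv.ext
    intro p
    have := h (aidx p) (aidx_lt p)
    unfold gi at this
    rw [apt_aidx] at this
    rw [aidx_injective this]
    rfl
  rw [inv_eq_one] at this
  exact this

/-- The image of a hexad mask under an automorphism is a hexad mask. -/
theorem pullF_mem {g : Equiv.Perm ArrayPt} (hg : g ∈ Aut) {m : ℕ} (hm : m ∈ hexL) :
    pullF (gi g) m ∈ hexL := by
  have h1 : g • toFS m ∈ Hx := smul_mem_Hx hg (mem_Hx.mpr ⟨m, hm, rfl⟩)
  obtain ⟨m', hm', e⟩ := mem_Hx.mp h1
  rw [smul_toFS] at e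
  have := toFS_inj (pullF_lt _ _) (Cfsg.Agent.S1592.hexL_lt' hm') e
  rw [this]
  exact hm'

/-! ### The pointwise stabiliser of five positions in the automorphism group is trivial -/

def R : List ℕ := [6, 7, 8, 9, 10, 11]

/-- Index function fixing `0, …, 5` and given by the list `L` on `6, …, 11`. -/
def fL (L : List ℕ) (j : ℕ) : ℕ := if j < 6 then j else L.getD (j - 6) 0

/-- The list is the identity, or the corresponding permutation does not preserve the hexads. -/
def chk (L : List ℕ) : Bool :=
  L == [6, 7, 8, 9, 10, 11] || hexL.any (fun m => !hexL.contains (pullF (fL L) m))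

theorem K720 : R.all (fun a => R.all (fun b => b == a || R.all (fun c => c == a || c == b ||
    R.all (fun d => d == a || d == b || d == c || R.all (fun e => e == a || e == b || e == c ||
      e == d || R.all (fun f => f == a || f == b || f == c || f == d || f == e ||
        chk [a, b, c, d, e, f])))))) = true := by decide +kernel

theorem hex31 : hexL.filter (fun h => h &&& 31 == 31) = [63] := by decide +kernel

theorem hex63 : 63 ∈ hexL := by decide +kernel

theorem testBit_31 : ∀ j < 12, Nat.testBit 31 j = decide (j < 5) := by decide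

theorem testBit_63 : ∀ j < 12, Nat.testBit 63 j = decide (j < 6) := by decide

theorem bs_mem {j : ℕ} (hj : j < 5) : apt j ∈ bs := by
  unfold bs
  exact List.mem_map.mpr ⟨j, List.mem_range.mpr hj, rfl⟩

theorem fix5 {g : Equiv.Perm ArrayPt} (hg : g ∈ Aut) (hfix : ∀ b ∈ bs, g b = b) : g = 1 := by
  have hgi : ∀ j < 5, gi g j = j := fun j hj => gi_of_fix (by omega) (hfix _ (bs_mem hj))
  have hinj : ∀ j < 12, ∀ j' < 12, j ≠ j' → gi g j ≠ gi g j' := fun j hj j' hj' hne h =>
    hne (gi_injective g hj hj' h)
  -- the hexad through the first five positions is fixed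
  have hm := pullF_mem hg hex63
  have hsub : pullF (gi g) 63 &&& 31 = 31 := by
    apply Nat.eq_of_testBit_eq
    intro j
    rw [Nat.testBit_and, testBit_pullF]
    by_cases hj12 : j < 12
    · rw [testBit_31 j hj12]
      by_cases hj : j < 5
      · rw [hgi j hj, testBit_63 j hj12]
        have : j < 6 := by omega
        simp [hj12, hj, this]
      · simp [hj]
    · have : Nat.testBit 31 j = false :=
        Nat.testBit_lt_two_pow (lt_of_lt_of_le (by norm_num : 31 < 2 ^ 12)
          (Nat.pow_le_pow_right (by norm_num) (by omega)))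
      simp [this]
  have h63 : pullF (gi g) 63 = 63 := by
    have : pullF (gi g) 63 ∈ hexL.filter (fun h => h &&& 31 == 31) :=
      List.mem_filter.mpr ⟨hm, by simp [hsub]⟩
    rw [hex31, List.mem_singleton] at this
    exact this
  have h5 : gi g 5 = 5 := by
    have hb := congrArg (fun m => Nat.testBit m 5) h63
    simp only [testBit_pullF] at hb
    rw [testBit_63 _ (gi_lt g 5), testBit_63 5 (by norm_num)] at hb
    simp only [Nat.reduceLT, decide_true, Bool.true_and, decide_eq_true_eq] at hb
    by_contra hne
    have hk : gi g 5 < 5 := by omega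
    exact hinj (gi g 5) (gi_lt g 5) 5 (by norm_num) hne (hgi _ hk)
  have hgi6 : ∀ j < 6, gi g j = j := by
    intro j hj
    rcases Nat.lt_succ_iff_lt_or_eq.mp hj with h | h
    · exact hgi j h
    · rw [h]; exact h5
  -- the remaining six positions
  have hR : ∀ j, 6 ≤ j → j < 12 → gi g j ∈ R := by
    intro j h6 h12
    have h1 := gi_lt g j
    have h2 : 6 ≤ gi g j := by
      by_contra hcon
      have hk : gi g j < 6 := by omega
      exact hinj (gi g j) (gi_lt g j) j h12 (by omega) (hgi6 _ hk)
    unfold R
    simp only [List.mem_cons, List.not_mem_nil, or_false]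
    omega
  have s1 := List.all_eq_true.mp K720 _ (hR 6 (by norm_num) (by norm_num))
  have s2 := List.all_eq_true.mp s1 _ (hR 7 (by norm_num) (by norm_num))
  simp only [Bool.or_eq_true, beq_iff_eq] at s2
  rcases s2 with s2 | s2
  · exact absurd s2 (hinj _ (by norm_num) _ (by norm_num) (by norm_num))
  have s3 := List.all_eq_true.mp s2 _ (hR 8 (by norm_num) (by norm_num))
  simp only [Bool.or_eq_true, beq_iff_eq] at s3
  rcases s3 with (s3 | s3) | s3
  · exact absurd s3 (hinj _ (by norm_num) _ (by norm_num) (by norm_num))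
  · exact absurd s3 (hinj _ (by norm_num) _ (by norm_num) (by norm_num))
  have s4 := List.all_eq_true.mp s3 _ (hR 9 (by norm_num) (by norm_num))
  simp only [Bool.or_eq_true, beq_iff_eq] at s4
  rcases s4 with ((s4 | s4) | s4) | s4
  · exact absurd s4 (hinj _ (by norm_num) _ (by norm_num) (by norm_num))
  · exact absurd s4 (hinj _ (by norm_num) _ (by norm_num) (by norm_num))
  · exact absurd s4 (hinj _ (by norm_num) _ (by norm_num) (by norm_num))
  have s5 := List.all_eq_true.mp s4 _ (hR 10 (by norm_num) (by norm_num))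
  simp only [Bool.or_eq_true, beq_iff_eq] at s5
  rcases s5 with (((s5 | s5) | s5) | s5) | s5
  · exact absurd s5 (hinj _ (by norm_num) _ (by norm_num) (by norm_num))
  · exact absurd s5 (hinj _ (by norm_num) _ (by norm_num) (by norm_num))
  · exact absurd s5 (hinj _ (by norm_num) _ (by norm_num) (by norm_num))
  · exact absurd s5 (hinj _ (by norm_num) _ (by norm_num) (by norm_num))
  have s6 := List.all_eq_true.mp s5 _ (hR 11 (by norm_num) (by norm_num))
  simp only [Bool.or_eq_true, beq_iff_eq] at s6
  rcases s6 with ((((s6 | s6) | s6) | s6) | s6) | s6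
  · exact absurd s6 (hinj _ (by norm_num) _ (by norm_num) (by norm_num))
  · exact absurd s6 (hinj _ (by norm_num) _ (by norm_num) (by norm_num))
  · exact absurd s6 (hinj _ (by norm_num) _ (by norm_num) (by norm_num))
  · exact absurd s6 (hinj _ (by norm_num) _ (by norm_num) (by norm_num))
  · exact absurd s6 (hinj _ (by norm_num) _ (by norm_num) (by norm_num))
  -- the final check
  have hcongr : ∀ j < 12, fL [gi g 6, gi g 7, gi g 8, gi g 9, gi g 10, gi g 11] j = gi g j := by
    intro j hj
    by_cases h6 : j < 6
    · unfold fL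
      rw [if_pos h6, hgi6 j h6]
    · have h6' : 6 ≤ j := by omega
      interval_cases j <;> rfl
  unfold chk at s6
  rw [Bool.or_eq_true, beq_iff_eq, List.any_eq_true] at s6
  rcases s6 with s6 | ⟨m, hm, hm'⟩
  · simp only [List.cons.injEq, and_true] at s6
    obtain ⟨e6, e7, e8, e9, e10, e11⟩ := s6
    apply eq_one_of_gi
    intro j hj
    by_cases h6 : j < 6
    · exact hgi6 j h6
    · have h6' : 6 ≤ j := by omega
      interval_cases j <;> assumption
  · exfalso
    rw [pullF_congr hcongr m] at hm'
    have := pullF_mem hg hm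
    simp only [Bool.not_eq_eq_eq_not, Bool.not_true, List.contains_eq_mem, decide_eq_false_iff_not] at hm'
    exact hm' this

/-! ### The orders -/

theorem bs_nodup : bs.Nodup := by
  unfold bs
  apply List.Nodup.map_on _ List.nodup_range
  intro x hx y hy h
  rw [← aidx_apt x (by have := List.mem_range.mp hx; omega),
    ← aidx_apt y (by have := List.mem_range.mp hy; omega), h]

theorem card_of_chain (G : Subgroup (Equiv.Perm ArrayPt)) (hG : Cfsg.Agent.Helper7.ChainTrans G bs) :
    Nat.card G = 95040 * Nat.card ↥(Cfsg.Agent.Helper7.stabL G bs) := by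
  have h := Cfsg.Agent.Helper7.card_stabL_of_trans G Finset.univ (fun _ _ _ _ => Finset.mem_univ _) 5
    (fun xs ys h1 h2 _ _ h5 h6 => hG.exists_map_map xs ys h1 h2 h5 (by simpa [bs] using h6))
    bs bs_nodup (fun _ _ => Finset.mem_univ _) (by simp [bs])
  have hc : (Finset.univ : Finset ArrayPt).card = 12 := by
    rw [Finset.card_univ, Fintype.card_prod, Fintype.card_fin, ZMod.card]
  have hl : bs.length = 5 := by simp [bs]
  rw [hc, hl] at h
  have : Nat.descFactorial 12 5 = 95040 := by decide
  rw [this] at h
  exact h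

theorem chain_Aut : Cfsg.Agent.Helper7.ChainTrans Aut bs := fun i hi q hq => by
  obtain ⟨g, hg, e⟩ := chain_T i hi q hq
  exact ⟨g, Cfsg.Agent.Helper7.stabL_mono T_le_Aut _ hg, e⟩

theorem stabL_Aut : Cfsg.Agent.Helper7.stabL Aut bs = ⊥ := by
  ext g
  rw [Cfsg.Agent.Helper7.mem_stabL, Subgroup.mem_bot]
  constructor
  · rintro ⟨h1, h2⟩
    exact fix5 h1 h2
  · rintro rfl
    exact ⟨one_mem _, fun _ _ => rfl⟩

theorem card_Aut : Nat.card ↥Aut = 95040 := by
  rw [card_of_chain Aut chain_Aut, stabL_Aut, Subgroup.card_bot]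

theorem card_T : Nat.card ↥(T C) = 95040 := by
  have : Cfsg.Agent.Helper7.stabL (T C) bs = ⊥ := by
    rw [← le_bot_iff, ← stabL_Aut]
    exact Cfsg.Agent.Helper7.stabL_mono T_le_Aut _
  rw [card_of_chain (T C) chain_T, this, Subgroup.card_bot]

theorem T_eq : T C = Aut :=
  Subgroup.eq_of_le_of_card_ge T_le_Aut (by rw [card_T, card_Aut])

theorem hdiag (c : ArrayPt → (ZMod 3)ˣ) (h : Pres C 1 c) : ∀ i j, c i = c j := by
  rcases Cfsg.Agent.S1593.result c h with h1 | h1
  · intro i j; rw [h1 i, h1 j]
  · intro i j; rw [h1 i, h1 j]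

/-- The monomial automorphism group of the length-12 ternary code has order 190080 and its permutation parts are exactly the automorphisms of its hexad system. -/
theorem result : Nat.card {f : Equiv.Perm Cfsg.ArrayPt × (Cfsg.ArrayPt → (ZMod 3)ˣ) // (∀ x ∈ Cfsg.ternaryGolayCode, Cfsg.monomialMap f.1 f.2 x ∈ Cfsg.ternaryGolayCode)} = 190080 ∧ {σ : Equiv.Perm Cfsg.ArrayPt | ∃ c : Cfsg.ArrayPt → (ZMod 3)ˣ, (∀ x ∈ Cfsg.ternaryGolayCode, Cfsg.monomialMap σ c x ∈ Cfsg.ternaryGolayCode)} = (Cfsg.setSystemAut {h : Finset Cfsg.ArrayPt | ∃ x ∈ Cfsg.ternaryGolayCode, Cfsg.ternarySupport x = h ∧ h.card = 6} : Set (Equiv.Perm Cfsg.ArrayPt)) := by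
  refine ⟨?_, ?_⟩
  · rw [Nat.card_congr (autEquiv C hdiag (apt 0)), Nat.card_prod, card_T, Nat.card_units,
      Nat.card_eq_fintype_card, ZMod.card]
  · ext σ
    have h : σ ∈ T C ↔ σ ∈ Aut := by rw [T_eq]
    exact h

end Cfsg.Agent.S1594
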