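import Cfsg.Statements.S2014

set_option autoImplicit false
open Cfsg

namespace Cfsg.Agent.S2014

variable {N : Type*} [Group N]

theorem pResidual_normal (p : ℕ) : (Cfsg.pResidual p N).Normal := by
  constructor
  intro k hk n
  have hmap : (Cfsg.pResidual p N).map (MulAut.conj n).toMonoidHom ≤ Cfsg.pResidual p N := by
    unfold Cfsg.pResidual
    rw [MonoidHom.map_closure, Subgroup.closure_le]
    rintro _ ⟨g, hg, rfl⟩
    apply Subgroup.subset_closure
    have hg' : Nat.Coprime (orderOf g) p := hg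
    show Nat.Coprime (orderOf ((MulAut.conj n) g)) p
    rwa [MulEquiv.orderOf_eq]
  have := hmap (Subgroup.mem_map_of_mem _ hk)
  simpa [MulAut.conj_apply] using this

theorem quotient_pResidual_isPGroup [Finite N] (p : ℕ) [hp : Fact p.Prime]
    [(Cfsg.pResidual p N).Normal] : IsPGroup p (N ⧸ Cfsg.pResidual p N) := by
  intro x
  induction x using QuotientGroup.induction_on with
  | H n =>
    obtain ⟨a, m, hm, hnm⟩ : ∃ a m : ℕ, ¬ p ∣ m ∧ orderOf n = p ^ a * m :=
      Nat.exists_eq_pow_mul_and_not_dvd (orderOf_pos n).ne' p hp.out.ne_one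
    refine ⟨a, ?_⟩
    rw [← QuotientGroup.mk_pow, QuotientGroup.eq_one_iff]
    apply Subgroup.subset_closure
    show Nat.Coprime (orderOf (n ^ p ^ a)) p
    have : orderOf (n ^ p ^ a) = m := by
      rw [orderOf_pow' n (pow_ne_zero a hp.out.ne_zero), hnm, Nat.gcd_eq_right (dvd_mul_right _ _),
        Nat.mul_div_cancel_left _ (pow_pos hp.out.pos a)]
    rw [this]
    exact ((Nat.Prime.coprime_iff_not_dvd hp.out).mpr hm).symm

theorem sup_pResidual_eq_top [Finite N] (p : ℕ) [hp : Fact p.Prime] (S : Subgroup N)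
    (hS : ¬ p ∣ S.index) : S ⊔ Cfsg.pResidual p N = ⊤ := by
  have := pResidual_normal (N := N) p
  rw [← Subgroup.index_eq_one]
  have h1 : (S ⊔ Cfsg.pResidual p N).index ∣ S.index := Subgroup.index_dvd_of_le le_sup_left
  have h2 : (S ⊔ Cfsg.pResidual p N).index ∣ (Cfsg.pResidual p N).index :=
    Subgroup.index_dvd_of_le le_sup_right
  obtain ⟨k, hk⟩ := (quotient_pResidual_isPGroup (N := N) p).exists_card_eq
  rw [Subgroup.index_eq_card (Cfsg.pResidual p N), hk] at h2
  obtain ⟨j, -, hj⟩ := (Nat.dvd_prime_pow hp.out).mp h2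
  rcases j with _ | j
  · simpa using hj
  · exfalso
    apply hS
    rw [hj] at h1
    exact dvd_trans (dvd_pow_self p (Nat.succ_ne_zero j)) h1

/-- In a finite group `N` with a `p`-subgroup `S` of index prime to `p`, every `p`-subgroup `R` is conjugate
into `S` by an element of `O^p(N)`. -/
theorem exists_mem_pResidual_conj_le [Finite N] (p : ℕ) [hp : Fact p.Prime] (S R : Subgroup N)
    (hSp : IsPGroup p S) (hS : ¬ p ∣ S.index) (hR : IsPGroup p R) :
    ∃ m ∈ Cfsg.pResidual p N, R.map (MulAut.conj m).toMonoidHom ≤ S := by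
  have := pResidual_normal (N := N) p
  let S' : Sylow p N := hSp.toSylow hS
  obtain ⟨Q, hQ⟩ := hR.exists_le_sylow
  obtain ⟨n, hn⟩ := MulAction.exists_smul_eq N Q S'
  have hn' : ∀ r ∈ R, n * r * n⁻¹ ∈ S := by
    intro r hr
    have h1 : r ∈ Q := hQ hr
    have h2 : n * r * n⁻¹ ∈ (n • Q : Sylow p N) := by
      show n * r * n⁻¹ ∈ ((n • Q : Sylow p N) : Subgroup N)
      rw [Sylow.coe_subgroup_smul]
      exact ⟨r, h1, by simp [MulAut.conj_apply]⟩
    rw [hn] at h2
    exact h2
  have htop : n ∈ S ⊔ Cfsg.pResidual p N := by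
    rw [sup_pResidual_eq_top p S hS]; trivial
  rw [← SetLike.mem_coe, Subgroup.mul_normal] at htop
  obtain ⟨s, hs, m, hm, rfl⟩ := htop
  refine ⟨m, hm, ?_⟩
  rintro _ ⟨r, hr, rfl⟩
  have := hn' r hr
  simp only [MulEquiv.coe_toMonoidHom, MulAut.conj_apply]
  have h3 : m * r * m⁻¹ = s⁻¹ * ((s * m) * r * (s * m)⁻¹) * s := by group
  rw [h3]
  exact S.mul_mem (S.mul_mem (S.inv_mem hs) this) hs

/-- Let P be a Sylow p-subgroup of a finite group G and A, C ≤ P subgroups conjugate in G, with C extremal: N_P(C) is a Sylow p-subgroup of N_G(C). Then there is g with gAg⁻¹ = C and g N_P(A) g⁻¹ ≤ N_P(C); moreover, given any h with hAh⁻¹ = C, g can be chosen so that h g⁻¹ lies in O^p(N_G(C)), the subgroup of N_G(C) generated by its elements of order prime to p. -/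
theorem result {G : Type*} [Group G] [Finite G] (p : ℕ) [Fact p.Prime] (P : Sylow p G) (A C : Subgroup G) (hA : A ≤ P) (hC : C ≤ P) (hext : ¬ p ∣ ((P : Subgroup G) ⊓ Subgroup.normalizer ((C : Subgroup G) : Set G)).relIndex (Subgroup.normalizer ((C : Subgroup G) : Set G))) (h : G) (hh : A.map (MulAut.conj h).toMonoidHom = C) : ∃ g : G, A.map (MulAut.conj g).toMonoidHom = C ∧ ((P : Subgroup G) ⊓ Subgroup.normalizer ((A : Subgroup G) : Set G)).map (MulAut.conj g).toMonoidHom ≤ (P : Subgroup G) ⊓ Subgroup.normalizer ((C : Subgroup G) : Set G) ∧ h * g⁻¹ ∈ (Cfsg.pResidual p ↥(Subgroup.normalizer ((C : Subgroup G) : Set G))).map (Subgroup.normalizer ((C : Subgroup G) : Set G)).subtype := by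
  classical
  set N : Subgroup G := Subgroup.normalizer ((C : Subgroup G) : Set G) with hN
  -- conjugation by `h` maps `N_G(A)` into `N_G(C)`
  have hnorm : ∀ x ∈ Subgroup.normalizer ((A : Subgroup G) : Set G), h * x * h⁻¹ ∈ N := by
    intro x hx
    rw [hN, Subgroup.mem_normalizer_iff]
    intro c
    have hcA : ∀ c : G, c ∈ C ↔ h⁻¹ * c * h ∈ A := by
      intro c
      rw [← hh]
      constructor
      · rintro ⟨a, ha, rfl⟩
        simpa [MulAut.conj_apply, mul_assoc] using ha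
      · intro hc
        exact ⟨h⁻¹ * c * h, hc, by simp [MulAut.conj_apply, mul_assoc]⟩
    rw [hcA, hcA]
    have := (Subgroup.mem_normalizer_iff.mp hx) (h⁻¹ * c * h)
    have e : h⁻¹ * (h * x * h⁻¹ * c * (h * x * h⁻¹)⁻¹) * h = x * (h⁻¹ * c * h) * x⁻¹ := by group
    rw [e]
    exact this
  let S : Subgroup N := ((P : Subgroup G) ⊓ N).subgroupOf N
  let R : Subgroup N :=
    (((P : Subgroup G) ⊓ Subgroup.normalizer ((A : Subgroup G) : Set G)).map
      (MulAut.conj h).toMonoidHom).subgroupOf N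
  have hSp : IsPGroup p S := (P.isPGroup'.to_le inf_le_left).comap_subtype
  have hRp : IsPGroup p R := ((P.isPGroup'.to_le inf_le_left).map _).comap_subtype
  have hSi : ¬ p ∣ S.index := hext
  obtain ⟨m, hm, hmR⟩ := exists_mem_pResidual_conj_le p S R hSp hSi hRp
  have hmC : ∀ c : G, c ∈ C ↔ (m : G) * c * (m : G)⁻¹ ∈ C := by
    intro c
    have := Subgroup.mem_normalizer_iff.mp m.2 c
    simpa using this
  refine ⟨(m : G) * h, ?_, ?_, ?_⟩
  · ext c
    constructor
    · rintro ⟨a, ha, rfl⟩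
      have : h * a * h⁻¹ ∈ C := by
        rw [← hh]; exact ⟨a, ha, by simp [MulAut.conj_apply]⟩
      have h2 := (hmC _).mp this
      simpa [MulAut.conj_apply, mul_assoc] using h2
    · intro hc
      have h1 : (m : G)⁻¹ * c * (m : G) ∈ C := by
        rw [hmC]; simpa [mul_assoc] using hc
      rw [← hh] at h1
      obtain ⟨a, ha, hac⟩ := h1
      refine ⟨a, ha, ?_⟩
      simp only [MulEquiv.coe_toMonoidHom, MulAut.conj_apply] at hac ⊢
      have : c = (m : G) * (h * a * h⁻¹) * (m : G)⁻¹ := by rw [hac]; group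
      rw [this]; group
  · rintro _ ⟨x, hx, rfl⟩
    have hxN : h * x * h⁻¹ ∈ N := hnorm x hx.2
    have hxR : (⟨h * x * h⁻¹, hxN⟩ : N) ∈ R := by
      rw [Subgroup.mem_subgroupOf]
      exact ⟨x, hx, by simp [MulAut.conj_apply]⟩
    have := hmR (Subgroup.mem_map_of_mem _ hxR)
    have h3 : ((m * ⟨h * x * h⁻¹, hxN⟩ * m⁻¹ : N) : G) ∈ (P : Subgroup G) ⊓ N := this
    simp only [MulEquiv.coe_toMonoidHom, MulAut.conj_apply]
    have e : (m : G) * h * x * ((m : G) * h)⁻¹ = ((m * ⟨h * x * h⁻¹, hxN⟩ * m⁻¹ : N) : G) := by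
      push_cast; group
    rw [e]; exact h3
  · refine ⟨m⁻¹, Subgroup.inv_mem _ hm, ?_⟩
    simp [mul_inv_rev]

end Cfsg.Agent.S2014
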