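import Cfsg.Statements.S3076
import Cfsg.Agent.Lib.Helper54.PSolv
import Cfsg.Agent.Lib.Helper50.SylowLemmas

set_option autoImplicit false
set_option linter.unusedSectionVars false
open Cfsg

namespace Cfsg.Agent.S3076

open Subgroup

section Key

variable {X : Type*} [Group X] [Finite X] {p : ℕ} [Fact p.Prime]

/-- every element of `O_{p',p}` has a `p`-power power in `O_{p'}`. -/
theorem exists_pow_mem_pPrimeCore' {x : X} (hx : x ∈ pPrimePCore p X) :
    ∃ k : ℕ, x ^ (p ^ k) ∈ pPrimeCore p X := by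
  have hx' : (QuotientGroup.mk' (pPrimeCore p X)) x ∈ pCore p (X ⧸ pPrimeCore p X) := hx
  obtain ⟨k, hk⟩ := (Cfsg.Agent.Helper54.isPGroup_pCore (p := p) (G := X ⧸ pPrimeCore p X))
    ⟨_, hx'⟩
  refine ⟨k, ?_⟩
  have hk' := congrArg Subtype.val hk
  simp only [Subgroup.coe_pow, Subgroup.coe_one] at hk'
  rw [← map_pow] at hk'
  exact (QuotientGroup.eq_one_iff _).mp hk'

/-- a normal subgroup whose elements have `p`-power order modulo a normal subgroup `M` maps to
a normal `p`-subgroup of the quotient. -/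
theorem map_le_pCore_of_pow_mem (M : Subgroup X) [M.Normal] (K : Subgroup X) [K.Normal]
    (h : ∀ k ∈ K, ∃ m : ℕ, k ^ (p ^ m) ∈ M) :
    K ≤ (pCore p (X ⧸ M)).comap (QuotientGroup.mk' M) := by
  intro k hk
  rw [Subgroup.mem_comap]
  have hn : (K.map (QuotientGroup.mk' M)).Normal :=
    Subgroup.Normal.map inferInstance _ (QuotientGroup.mk'_surjective _)
  have hpg : IsPGroup p (K.map (QuotientGroup.mk' M)) := by
    rintro ⟨y, hy⟩
    obtain ⟨x, hx, rfl⟩ := hy
    obtain ⟨m, hm⟩ := h x hx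
    refine ⟨m, ?_⟩
    apply Subtype.ext
    simp only [Subgroup.coe_pow, Subgroup.coe_one]
    rw [← map_pow]
    exact (QuotientGroup.eq_one_iff _).mpr hm
  exact Cfsg.Agent.Helper54.le_pCore hn hpg (Subgroup.mem_map_of_mem _ hk)

theorem le_pPrimePCore_of_pow_mem' (K : Subgroup X) [K.Normal]
    (h : ∀ k ∈ K, ∃ m : ℕ, k ^ (p ^ m) ∈ pPrimeCore p X) : K ≤ pPrimePCore p X :=
  map_le_pCore_of_pow_mem (pPrimeCore p X) K h

/-- elements of the preimage of `O_p(X/M)` have `p`-power order modulo `M`. -/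
theorem exists_pow_mem_of_mem_comap_pCore (M : Subgroup X) [M.Normal] {x : X}
    (hx : x ∈ (pCore p (X ⧸ M)).comap (QuotientGroup.mk' M)) :
    ∃ k : ℕ, x ^ (p ^ k) ∈ M := by
  have hx' : (QuotientGroup.mk' M) x ∈ pCore p (X ⧸ M) := hx
  obtain ⟨k, hk⟩ := (Cfsg.Agent.Helper54.isPGroup_pCore (p := p) (G := X ⧸ M)) ⟨_, hx'⟩
  refine ⟨k, ?_⟩
  have hk' := congrArg Subtype.val hk
  simp only [Subgroup.coe_pow, Subgroup.coe_one] at hk'
  rw [← map_pow] at hk'
  exact (QuotientGroup.eq_one_iff _).mp hk'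

/-- `O_{p'}(X)` centralizes every normal `p`-subgroup. -/
theorem pPrimeCore_le_centralizer (A : Subgroup X) [A.Normal] (hA : IsPGroup p A) :
    pPrimeCore p X ≤ centralizer (A : Set X) := by
  intro w hw
  rw [Subgroup.mem_centralizer_iff]
  intro a ha
  -- the commutator lies in W ⊓ A = ⊥
  have hWn : (pPrimeCore p X).Normal := inferInstance
  have h1 : a * w * a⁻¹ * w⁻¹ ∈ pPrimeCore p X :=
    (pPrimeCore p X).mul_mem (hWn.conj_mem w hw a) ((pPrimeCore p X).inv_mem hw)
  have h2 : a * w * a⁻¹ * w⁻¹ ∈ A := by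
    have : a * w * a⁻¹ * w⁻¹ = a * (w * a⁻¹ * w⁻¹) := by group
    rw [this]
    exact A.mul_mem ha (‹A.Normal›.conj_mem a⁻¹ (A.inv_mem ha) w)
  have hbot : pPrimeCore p X ⊓ A = ⊥ := by
    have hcop : (Nat.card (pPrimeCore p X)).Coprime (Nat.card A) := by
      obtain ⟨n, hn⟩ := IsPGroup.iff_card.mp hA
      rw [hn]
      exact Nat.Coprime.pow_right n (Cfsg.Agent.Helper54.pPrimeCore_coprime p)
    exact (Subgroup.disjoint_of_coprime_natCard hcop).eq_bot
  have h3 : a * w * a⁻¹ * w⁻¹ ∈ pPrimeCore p X ⊓ A := ⟨h1, h2⟩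
  rw [hbot, Subgroup.mem_bot] at h3
  have : a * w = w * a := by
    have h4 : a * w * a⁻¹ * w⁻¹ * (w * a) = w * a := by rw [h3, one_mul]
    rw [← h4]; group
  exact this

/-- a normal `p`-subgroup lies in `O_{p',p}`. -/
theorem normal_pGroup_le_pPrimePCore (A : Subgroup X) [A.Normal] (hA : IsPGroup p A) :
    A ≤ pPrimePCore p X := by
  apply le_pPrimePCore_of_pow_mem'
  intro a ha
  obtain ⟨k, hk⟩ := hA ⟨a, ha⟩
  refine ⟨k, ?_⟩
  have hk' := congrArg Subtype.val hk
  simp only [Subgroup.coe_pow, Subgroup.coe_one] at hk'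
  rw [hk']; exact one_mem _

theorem pPrimeCore_le_pPrimePCore'' : pPrimeCore p X ≤ pPrimePCore p X := by
  apply le_pPrimePCore_of_pow_mem'
  intro a ha
  exact ⟨0, by simpa using ha⟩

/-- index of `K` in the preimage of `O_p(X/K)` is a power of `p` -/
theorem relIndex_comap_pCore_eq_pow (M : Subgroup X) [M.Normal] :
    ∃ n : ℕ, M.relIndex ((pCore p (X ⧸ M)).comap (QuotientGroup.mk' M)) = p ^ n := by
  have h1 : (⊥ : Subgroup (X ⧸ M)).comap (QuotientGroup.mk' M) = M := by
    rw [MonoidHom.comap_bot, QuotientGroup.ker_mk']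
  have h2 : M.relIndex ((pCore p (X ⧸ M)).comap (QuotientGroup.mk' M)) =
      (⊥ : Subgroup (X ⧸ M)).relIndex (pCore p (X ⧸ M)) := by
    have h3 := Subgroup.relIndex_comap (H := (⊥ : Subgroup (X ⧸ M))) (QuotientGroup.mk' M)
      ((pCore p (X ⧸ M)).comap (QuotientGroup.mk' M))
    rw [Subgroup.map_comap_eq_self_of_surjective (QuotientGroup.mk'_surjective M)] at h3
    rw [← h3]
    exact congrArg (fun Z : Subgroup X => Z.relIndex ((pCore p (X ⧸ M)).comap (QuotientGroup.mk' M)))
      h1.symm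
  rw [h2, Subgroup.relIndex_bot_left]
  exact IsPGroup.iff_card.mp (Cfsg.Agent.Helper54.isPGroup_pCore (p := p) (G := X ⧸ M))

/-- the intersection of a Sylow `p`-subgroup with a normal subgroup is Sylow there -/
theorem not_dvd_inf_relIndex_normal (Pn Cn : Subgroup X) [Cn.Normal] (hidx : ¬ p ∣ Pn.index) :
    ¬ p ∣ (Pn ⊓ Cn).relIndex Cn := by
  rw [Subgroup.inf_relIndex_right]
  intro h
  exact hidx (h.trans (Cfsg.Agent.Helper50.relIndex_normal_dvd_index Pn Cn))

/-- Burnside: if a Sylow `p`-subgroup `Z` of `K` is central in `K` then `K = O_{p'}(K) Z`. -/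
theorem le_pPrimeCore_sup_of_central_sylow (K Z : Subgroup X) (hZK : Z ≤ K) (hZp : IsPGroup p Z)
    (hZidx : ¬ p ∣ Z.relIndex K) (hcent : ∀ z ∈ Z, ∀ k ∈ K, z * k = k * z) :
    K ≤ (pPrimeCore p ↥K).map K.subtype ⊔ Z := by
  have hZp' : IsPGroup p (Z.subgroupOf K) := hZp.comap_subtype
  have hidx' : ¬ p ∣ (Z.subgroupOf K).index := hZidx
  set S : Sylow p ↥K := hZp'.toSylow hidx' with hS
  have hScoe : (S : Subgroup ↥K) = Z.subgroupOf K := IsPGroup.toSylow_coe hZp' hidx'
  have hNC : normalizer ((S : Subgroup ↥K) : Set ↥K) ≤ centralizer ((S : Subgroup ↥K) : Set ↥K) := by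
    intro g _
    rw [Subgroup.mem_centralizer_iff]
    intro z hz
    have hz' : z ∈ Z.subgroupOf K := by rw [← hScoe]; exact hz
    apply Subtype.ext
    simp only [Subgroup.coe_mul]
    exact hcent z hz' g g.2
  have hcompl := MonoidHom.ker_transferSylow_isComplement' S hNC
  have hnd := MonoidHom.not_dvd_card_ker_transferSylow S hNC
  set Kp := (MonoidHom.transferSylow S hNC).ker with hKp
  have hKpn : Kp.Normal := by rw [hKp]; infer_instance
  have hcop : (Nat.card Kp).Coprime p :=
    ((Nat.Prime.coprime_iff_not_dvd (Fact.out : p.Prime)).mpr hnd).symm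
  have hKpW : Kp ≤ pPrimeCore p ↥K := Cfsg.Agent.Helper54.le_pPrimeCore hKpn hcop
  have htop : Kp ⊔ (S : Subgroup ↥K) = ⊤ := hcompl.sup_eq_top
  intro k hk
  have hmem : (⟨k, hk⟩ : ↥K) ∈ pPrimeCore p ↥K ⊔ Z.subgroupOf K := by
    have : (⟨k, hk⟩ : ↥K) ∈ Kp ⊔ (S : Subgroup ↥K) := by rw [htop]; exact Subgroup.mem_top _
    rw [hScoe] at this
    exact (sup_le_sup_right hKpW _) this
  have h2 : k ∈ (pPrimeCore p ↥K ⊔ Z.subgroupOf K).map K.subtype := ⟨⟨k, hk⟩, hmem, rfl⟩
  rw [Subgroup.map_sup, Subgroup.map_subgroupOf_eq_of_le hZK] at h2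
  exact h2

theorem key (A : Subgroup X) [A.Normal] (hA : IsPGroup p A)
    (Cn : Subgroup X) [Cn.Normal] (hCn : Cn = centralizer (A : Set X))
    (Pn : Subgroup X) (hPn : IsPGroup p Pn) (hidx : ¬ p ∣ Pn.index) (hAP : A ≤ Pn) :
    (¬ p ∣ A.relIndex ((pCore p (X ⧸ Cn)).comap (QuotientGroup.mk' Cn))) ↔
      (Pn ⊓ Cn ≤ A ∧ pPrimePCore p X = A ⊔ Cn) := by
  set L' := (pCore p (X ⧸ Cn)).comap (QuotientGroup.mk' Cn) with hL'
  -- basic facts
  have hCL : Cn ≤ L' := by
    intro c hc
    rw [hL', Subgroup.mem_comap]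
    have : (QuotientGroup.mk' Cn) c = 1 := (QuotientGroup.eq_one_iff c).mpr hc
    rw [this]; exact one_mem _
  have hAL : A ≤ L' := by
    apply map_le_pCore_of_pow_mem Cn A
    intro a ha
    obtain ⟨k, hk⟩ := hA ⟨a, ha⟩
    refine ⟨k, ?_⟩
    have hk' := congrArg Subtype.val hk
    simp only [Subgroup.coe_pow, Subgroup.coe_one] at hk'
    rw [hk']; exact one_mem _
  have hACL : A ⊔ Cn ≤ L' := sup_le hAL hCL
  have hWC : pPrimeCore p X ≤ Cn := hCn ▸ pPrimeCore_le_centralizer A hA
  have hAV : A ≤ pPrimePCore p X := normal_pGroup_le_pPrimePCore A hA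
  have hWV : pPrimeCore p X ≤ pPrimePCore p X := pPrimeCore_le_pPrimePCore''
  have hVn : (pPrimePCore p X).Normal := by
    unfold pPrimePCore; infer_instance
  have hVL : pPrimePCore p X ≤ L' := by
    apply map_le_pCore_of_pow_mem Cn (pPrimePCore p X)
    intro v hv
    obtain ⟨k, hk⟩ := exists_pow_mem_pPrimeCore' hv
    exact ⟨k, hWC hk⟩
  have hSylC : ¬ p ∣ (Pn ⊓ Cn).relIndex Cn := not_dvd_inf_relIndex_normal Pn Cn hidx
  constructor
  · intro hS
    -- (a) Pn ⊓ Cn ≤ A
    have ha : Pn ⊓ Cn ≤ A := by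
      set B := A ⊔ (Pn ⊓ Cn) with hB
      have hBP : B ≤ Pn := sup_le hAP inf_le_left
      have hBL : B ≤ L' := sup_le hAL (inf_le_right.trans hCL)
      have hBp : IsPGroup p B := hPn.to_le hBP
      have hAB : A ≤ B := le_sup_left
      have hdvd : A.relIndex B ∣ A.relIndex L' := by
        have := Subgroup.relIndex_mul_relIndex A B L' hAB hBL
        exact Dvd.intro _ this
      have hdvd2 : A.relIndex B ∣ Nat.card B := by
        unfold Subgroup.relIndex; exact Subgroup.index_dvd_card _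
      obtain ⟨n, hn⟩ := IsPGroup.iff_card.mp hBp
      rw [hn] at hdvd2
      obtain ⟨j, hj, hj'⟩ := (Nat.dvd_prime_pow (Fact.out)).mp hdvd2
      have hj0 : j = 0 := by
        by_contra hne
        apply hS
        refine dvd_trans ?_ hdvd
        rw [hj']
        exact dvd_pow_self p hne
      rw [hj0, pow_zero] at hj'
      have : B ≤ A := Subgroup.relIndex_eq_one.mp hj'
      exact le_sup_right.trans this
    refine ⟨ha, ?_⟩
    -- (b) L' = A ⊔ Cn
    have hLeq : L' ≤ A ⊔ Cn := by
      have h1 : (A ⊔ Cn).relIndex L' ∣ A.relIndex L' :=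
        Subgroup.relIndex_dvd_of_le_left L' le_sup_left
      have h2 : (A ⊔ Cn).relIndex L' ∣ Cn.relIndex L' :=
        Subgroup.relIndex_dvd_of_le_left L' le_sup_right
      obtain ⟨n, hn⟩ := relIndex_comap_pCore_eq_pow (p := p) Cn
      rw [← hL'] at hn
      rw [hn] at h2
      obtain ⟨j, hj, hj'⟩ := (Nat.dvd_prime_pow (Fact.out)).mp h2
      have hj0 : j = 0 := by
        by_contra hne
        apply hS
        refine dvd_trans ?_ h1
        rw [hj']
        exact dvd_pow_self p hne
      rw [hj0, pow_zero] at hj'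
      exact Subgroup.relIndex_eq_one.mp hj'
    -- (c) Cn ≤ V by Burnside
    have hCV : Cn ≤ pPrimePCore p X := by
      have hZeq : A ⊓ Cn = Pn ⊓ Cn := le_antisymm (inf_le_inf_right _ hAP) (le_inf ha inf_le_right)
      have hB := le_pPrimeCore_sup_of_central_sylow (p := p) Cn (A ⊓ Cn) inf_le_right
        (hA.to_le inf_le_left) (by rw [hZeq]; exact hSylC)
        (by
          intro z hz k hk
          rw [hCn, Subgroup.mem_centralizer_iff] at hk
          exact hk z hz.1)
      refine hB.trans (sup_le ?_ (inf_le_left.trans hAV))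
      exact (Cfsg.Agent.Helper54.pPrimeCore_map_le p Cn).trans hWV
    exact le_antisymm (hVL.trans hLeq) (sup_le hAV hCV)
  · rintro ⟨hPC, hV⟩
    have hLn : L'.Normal := by rw [hL']; infer_instance
    have hLV : L' ≤ pPrimePCore p X := by
      apply le_pPrimePCore_of_pow_mem'
      intro x hx
      obtain ⟨k, hk⟩ := exists_pow_mem_of_mem_comap_pCore Cn hx
      have hkV : x ^ p ^ k ∈ pPrimePCore p X := by
        rw [hV]; exact (le_sup_right : Cn ≤ A ⊔ Cn) hk
      obtain ⟨j, hj⟩ := exists_pow_mem_pPrimeCore' hkV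
      refine ⟨k + j, ?_⟩
      rw [pow_add, pow_mul]; exact hj
    have hLeq : L' = A ⊔ Cn := le_antisymm (hV ▸ hLV) hACL
    rw [hLeq, Cfsg.Agent.Helper50.relIndex_sup_normal_eq A Cn, ← Subgroup.inf_relIndex_right]
    have : A ⊓ Cn = Pn ⊓ Cn := le_antisymm (inf_le_inf_right _ hAP) (le_inf hPC inf_le_right)
    rw [this]; exact hSylC

end Key

/-- Let P be a Sylow p-subgroup of the finite group G and H ≤ P a subgroup with N_P(H) a Sylow p-subgroup of N_G(H). Let N be the preimage in N_G(H) of O_p(N_G(H)/C_G(H)). Then H is a Sylow p-subgroup of N if and only if C_P(H) ≤ H and O_{p',p}(N_G(H)) = H·C_G(H). -/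
theorem result {G : Type*} [Group G] [Finite G] {p : ℕ} [Fact p.Prime]
    (P : Sylow p G) (H : Subgroup G) (hHP : H ≤ (P : Subgroup G))
    (hSyl : ¬ p ∣ ((P : Subgroup G) ⊓ Subgroup.normalizer (H : Set G)).relIndex (Subgroup.normalizer (H : Set G)))
    [hC : ((Subgroup.centralizer (H : Set G)).subgroupOf (Subgroup.normalizer (H : Set G))).Normal] :
    (H ≤ ((Cfsg.pCore p (↥(Subgroup.normalizer (H : Set G)) ⧸
              (Subgroup.centralizer (H : Set G)).subgroupOf (Subgroup.normalizer (H : Set G)))).comap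
            (QuotientGroup.mk' _)).map (Subgroup.normalizer (H : Set G)).subtype ∧
      ¬ p ∣ H.relIndex (((Cfsg.pCore p (↥(Subgroup.normalizer (H : Set G)) ⧸
              (Subgroup.centralizer (H : Set G)).subgroupOf (Subgroup.normalizer (H : Set G)))).comap
            (QuotientGroup.mk' _)).map (Subgroup.normalizer (H : Set G)).subtype)) ↔
    ((P : Subgroup G) ⊓ Subgroup.centralizer (H : Set G) ≤ H ∧
      (Cfsg.pPrimePCore p ↥(Subgroup.normalizer (H : Set G))).map (Subgroup.normalizer (H : Set G)).subtype =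
        H ⊔ Subgroup.centralizer (H : Set G)) := by
  have hHN : H ≤ normalizer (H : Set G) := Subgroup.le_normalizer
  have hCN : centralizer (H : Set G) ≤ normalizer (H : Set G) :=
    Subgroup.centralizer_le_normalizer (s := (H : Set G))
  have hA : IsPGroup p (H.subgroupOf (normalizer (H : Set G))) :=
    (P.2.to_le hHP).comap_subtype
  have hPn : IsPGroup p ((P : Subgroup G).subgroupOf (normalizer (H : Set G))) :=
    P.2.comap_subtype
  have hidx : ¬ p ∣ ((P : Subgroup G).subgroupOf (normalizer (H : Set G))).index := by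
    rw [Subgroup.inf_relIndex_right] at hSyl
    exact hSyl
  have hAP : H.subgroupOf (normalizer (H : Set G)) ≤
      (P : Subgroup G).subgroupOf (normalizer (H : Set G)) := fun x hx => hHP hx
  have hCn : (centralizer (H : Set G)).subgroupOf (normalizer (H : Set G)) =
      centralizer ((H.subgroupOf (normalizer (H : Set G)) : Subgroup ↥(normalizer (H : Set G))) :
        Set ↥(normalizer (H : Set G))) := by
    ext x
    rw [Subgroup.mem_subgroupOf, Subgroup.mem_centralizer_iff, Subgroup.mem_centralizer_iff]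
    constructor
    · intro h a ha
      apply Subtype.ext
      simp only [Subgroup.coe_mul]
      exact h a ha
    · intro h a ha
      have := h ⟨a, hHN ha⟩ ha
      have h2 := congrArg Subtype.val this
      simpa using h2
  have hkey := key (p := p) (H.subgroupOf (normalizer (H : Set G))) hA
    ((centralizer (H : Set G)).subgroupOf (normalizer (H : Set G))) hCn
    ((P : Subgroup G).subgroupOf (normalizer (H : Set G))) hPn hidx hAP
  have eH : (H.subgroupOf (normalizer (H : Set G))).map (normalizer (H : Set G)).subtype = H :=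
    Subgroup.map_subgroupOf_eq_of_le hHN
  have eC : ((centralizer (H : Set G)).subgroupOf (normalizer (H : Set G))).map
      (normalizer (H : Set G)).subtype = centralizer (H : Set G) :=
    Subgroup.map_subgroupOf_eq_of_le hCN
  -- H ≤ L always
  have hAL : H.subgroupOf (normalizer (H : Set G)) ≤
      (Cfsg.pCore p (↥(normalizer (H : Set G)) ⧸
        (centralizer (H : Set G)).subgroupOf (normalizer (H : Set G)))).comap
          (QuotientGroup.mk' _) := by
    apply map_le_pCore_of_pow_mem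
    intro a ha
    obtain ⟨k, hk⟩ := hA ⟨a, ha⟩
    refine ⟨k, ?_⟩
    have hk' := congrArg Subtype.val hk
    simp only [Subgroup.coe_pow, Subgroup.coe_one] at hk'
    rw [hk']; exact one_mem _
  have hL : H ≤ ((Cfsg.pCore p (↥(normalizer (H : Set G)) ⧸
        (centralizer (H : Set G)).subgroupOf (normalizer (H : Set G)))).comap
          (QuotientGroup.mk' _)).map (normalizer (H : Set G)).subtype := by
    intro h hh
    exact ⟨⟨h, hHN hh⟩, hAL hh, rfl⟩
  have hrel : H.relIndex (((Cfsg.pCore p (↥(normalizer (H : Set G)) ⧸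
        (centralizer (H : Set G)).subgroupOf (normalizer (H : Set G)))).comap
          (QuotientGroup.mk' _)).map (normalizer (H : Set G)).subtype) =
      (H.subgroupOf (normalizer (H : Set G))).relIndex
        ((Cfsg.pCore p (↥(normalizer (H : Set G)) ⧸
        (centralizer (H : Set G)).subgroupOf (normalizer (H : Set G)))).comap
          (QuotientGroup.mk' _)) := by
    rw [← Subgroup.relIndex_map_map_of_injective _ _
      (Subgroup.subtype_injective (normalizer (H : Set G))), eH]
  have T1 : ((P : Subgroup G).subgroupOf (normalizer (H : Set G)) ⊓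
      (centralizer (H : Set G)).subgroupOf (normalizer (H : Set G)) ≤
        H.subgroupOf (normalizer (H : Set G))) ↔
      ((P : Subgroup G) ⊓ centralizer (H : Set G) ≤ H) := by
    constructor
    · intro h g hg
      exact h (show (⟨g, hCN hg.2⟩ : ↥(normalizer (H : Set G))) ∈ _ from ⟨hg.1, hg.2⟩)
    · intro h x hx
      exact h ⟨hx.1, hx.2⟩
  have T2 : (Cfsg.pPrimePCore p ↥(normalizer (H : Set G)) =
      H.subgroupOf (normalizer (H : Set G)) ⊔
        (centralizer (H : Set G)).subgroupOf (normalizer (H : Set G))) ↔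
      ((Cfsg.pPrimePCore p ↥(normalizer (H : Set G))).map (normalizer (H : Set G)).subtype =
        H ⊔ centralizer (H : Set G)) := by
    constructor
    · intro h
      rw [h, Subgroup.map_sup, eH, eC]
    · intro h
      apply Subgroup.map_injective (Subgroup.subtype_injective (normalizer (H : Set G)))
      rw [h, Subgroup.map_sup, eH, eC]
  constructor
  · rintro ⟨_, h2⟩
    rw [hrel] at h2
    obtain ⟨h3, h4⟩ := hkey.mp h2
    exact ⟨T1.mp h3, T2.mp h4⟩
  · rintro ⟨h1, h2⟩
    refine ⟨hL, ?_⟩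
    rw [hrel]
    exact hkey.mpr ⟨T1.mpr h1, T2.mpr h2⟩

end Cfsg.Agent.S3076
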