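import Cfsg.Statements.S0042
import Cfsg.Agent.S0659
import Cfsg.Agent.S0035
import Cfsg.Agent.Lib.Helper52.Thompson
import Cfsg.Agent.Lib.Helper71.FrobConj

set_option autoImplicit false
open Cfsg

namespace Cfsg.Agent.S0042

/-- In a finite Frobenius group, the Frobenius kernel is (the carrier of) a normal subgroup which is nilpotent. -/
theorem result {G : Type*} [Group G] [Finite G] (H : Subgroup G) (hH : Cfsg.IsFrobeniusComplement H) :
    ∃ N : Subgroup G, (N : Set G) = Cfsg.frobeniusKernel H ∧ N.Normal ∧ Group.IsNilpotent N := by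
  obtain ⟨N, hNset, hNn, hNc⟩ := Cfsg.Agent.S0035.result H hH
  refine ⟨N, hNset, hNn, ?_⟩
  haveI := hNn
  have hdisj : N ⊓ H = ⊥ := hNc.disjoint.eq_bot
  have hcard : Nat.card H ≠ 1 := fun h => hH.1 (Subgroup.card_eq_one.mp h)
  obtain ⟨p, hp, hpdvd⟩ := Nat.exists_prime_and_dvd hcard
  haveI : Fact p.Prime := ⟨hp⟩
  obtain ⟨h, hh⟩ := exists_prime_orderOf_dvd_card' p hpdvd
  have hh1 : h ≠ 1 := by
    intro e
    rw [e, orderOf_one] at hh
    exact hp.one_lt.ne hh
  let φ : N ≃* N := Cfsg.Agent.Helper71.conjHom H N h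
  have hφ : MonoidHom.FixedPointFree (φ : N →* N) :=
    fun x hx => Cfsg.Agent.Helper71.conjHom_fpf hH hdisj h hh1 x hx
  have hφp : (⇑φ)^[p] = id := by
    funext x
    rw [← Cfsg.Agent.Helper52.mulAut_pow_apply]
    have h1 : φ ^ p = 1 := by
      show (Cfsg.Agent.Helper71.conjHom H N h) ^ p = 1
      rw [← map_pow, ← hh, pow_orderOf_eq_one, map_one]
    rw [h1]
    rfl
  refine Cfsg.Agent.Helper52.thompson_aux ?_ p hp _ N φ rfl hφ hφp
  intro H' _ _ q _ hq P hN
  exact Cfsg.Agent.S0659.result hq P hN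

end Cfsg.Agent.S0042
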