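import Cfsg.Statements.S0857
import Cfsg.Agent.Lib.Helper81.CharAbel
import Cfsg.Agent.Lib.Helper81.CharRam

set_option autoImplicit false
set_option linter.style.haveILetI false
set_option linter.unusedSectionVars false
open Cfsg

namespace Cfsg.Agent.S0857

open scoped ComplexConjugate
open Cfsg.Agent.Helper81

universe u v

section core
variable {K : Type u} [Group K] [Fintype K]

/-- the inertia subgroup of a function on a normal subgroup -/
def inertia (N : Subgroup K) (hN : N.Normal) (φ : N → ℂ) : Subgroup K where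
  carrier := {g | conjFun N hN φ g = φ}
  one_mem' := conjFun_one N hN φ
  mul_mem' := by
    intro a b ha hb
    simp only [Set.mem_ofPred_eq] at ha hb ⊢
    rw [← conjFun_mul, ha, hb]
  inv_mem' := by
    intro a ha
    simp only [Set.mem_ofPred_eq] at ha ⊢
    have h1 := conjFun_mul N hN φ a a⁻¹
    rw [ha, mul_inv_cancel, conjFun_one] at h1
    exact h1

theorem mem_inertia (N : Subgroup K) (hN : N.Normal) (φ : N → ℂ) (g : K) :
    g ∈ inertia N hN φ ↔ conjFun N hN φ g = φ := Iff.rfl

/-- class functions on `N` are fixed by conjugation with elements of `N` -/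
theorem conjFun_of_mem (N : Subgroup K) (hN : N.Normal) {ψ : N → ℂ} (hψ : IsClassFunction N ψ)
    {c : K} (hc : c ∈ N) : conjFun N hN ψ c = ψ := by
  ext n
  rw [conjFun_apply]
  exact hψ n ⟨c, hc⟩

variable {A : Type v} [Group A]

/-- the automorphism of `N` induced by an acting element -/
def resAut (N : Subgroup K) (f : A →* MulAut K) (hfN : ∀ (a : A) (n : K), n ∈ N → f a n ∈ N)
    (a : A) : N ≃* N where
  toFun n := ⟨f a n, hfN a n n.2⟩
  invFun n := ⟨f a⁻¹ n, hfN a⁻¹ n n.2⟩
  left_inv n := by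
    apply Subtype.ext
    simp
  right_inv n := by
    apply Subtype.ext
    simp
  map_mul' x y := by
    apply Subtype.ext
    simp

theorem resAut_coe (N : Subgroup K) (f : A →* MulAut K)
    (hfN : ∀ (a : A) (n : K), n ∈ N → f a n ∈ N) (a : A) (n : N) :
    ((resAut N f hfN a n : N) : K) = f a n := rfl

/-- conjugating a twisted function -/
theorem conjFun_twist (N : Subgroup K) (hN : N.Normal) (f : A →* MulAut K)
    (hfN : ∀ (a : A) (n : K), n ∈ N → f a n ∈ N) (a : A) (φ : N → ℂ) (k : K) (n : N) :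
    conjFun N hN (fun m => φ (resAut N f hfN a m)) k n =
      conjFun N hN φ (f a k) (resAut N f hfN a n) := by
  simp only [conjFun_apply]
  congr 1
  apply Subtype.ext
  simp [resAut_coe]

/-- the inertia group of a constituent of an invariant character is invariant -/
theorem inertia_invariant (N : Subgroup K) [Fintype N] (hN : N.Normal)
    (hab : ∀ a b : K, a * b * a⁻¹ * b⁻¹ ∈ N) (f : A →* MulAut K)
    (hfN : ∀ (a : A) (n : K), n ∈ N → f a n ∈ N)
    {ϑ : K → ℂ} (hϑ : IsIrrCharacter K ϑ) (hinv : ∀ (a : A) (k : K), ϑ (f a k) = ϑ k)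
    {φ : N → ℂ} (hφ : IsIrrCharacter N φ) (hne : classInner (fun n : N => ϑ n) φ ≠ 0)
    (a : A) (t : K) (ht : t ∈ inertia N hN φ) : f a t ∈ inertia N hN φ := by
  classical
  rw [mem_inertia] at ht ⊢
  set φ' : N → ℂ := fun n => φ (resAut N f hfN a n) with hφ'def
  have hφ' : IsIrrCharacter N φ' := isIrrCharacter_comp_equiv (resAut N f hfN a) hφ
  have hne' : classInner (fun n : N => ϑ n) φ' ≠ 0 := by
    have h1 := classInner_comp_equiv (resAut N f hfN a) (fun n : N => ϑ n) φ
    have h2 : (fun x : N => (fun n : N => ϑ n) (resAut N f hfN a x)) = fun n : N => ϑ n := by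
      funext x
      simp only [resAut_coe]
      exact hinv a x
    rw [h2] at h1
    rw [hφ'def, h1]
    exact hne
  obtain ⟨k₀, hk₀⟩ : ∃ g : K, φ' = conjFun N hN φ g := by
    by_contra hnc
    exact hne' (clifford_not_conj N hN hϑ hφ hφ' hne hnc)
  have hcf : IsClassFunction N (conjFun N hN φ k₀) :=
    isClassFunction_of_isCharacter (IsIrrCharacter.isCharacter (conjFun_isIrrCharacter N hN hφ k₀))
  have hkey : conjFun N hN φ (k₀ * t) = conjFun N hN φ k₀ := by
    have hc : k₀⁻¹ * t⁻¹ * k₀ * t ∈ N := by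
      have := hab k₀⁻¹ t⁻¹
      simpa using this
    have h3 : k₀ * t = t * k₀ * (k₀⁻¹ * t⁻¹ * k₀ * t) := by group
    rw [h3, ← conjFun_mul N hN φ (t * k₀), ← conjFun_mul N hN φ t k₀, ht]
    exact conjFun_of_mem N hN hcf hc
  ext n
  obtain ⟨m, rfl⟩ := (resAut N f hfN a).surjective n
  rw [← conjFun_twist N hN f hfN a φ t m]
  change conjFun N hN φ' t m = φ' m
  rw [hk₀, conjFun_mul, hkey]

/-- the case where the inertia group is `N` -/
theorem case_bot (N : Subgroup K) [Fintype N] (hN : N.Normal)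
    {ϑ : K → ℂ} (hϑ : IsIrrCharacter K ϑ)
    {φ : N → ℂ} (hφ : IsIrrCharacter N φ) (hne : classInner (fun n : N => ϑ n) φ ≠ 0)
    (hT : inertia N hN φ = N) :
    ∃ F : Finset (N → ℂ), (∀ ψ ∈ F, IsIrrCharacter N ψ) ∧ F.card = N.index ∧
      (fun n : N => ϑ n) = ∑ ψ ∈ F, ψ := by
  classical
  have hT' : ∀ g : K, g ∈ N ↔ conjFun N hN φ g = φ := by
    intro g
    rw [← mem_inertia, hT]
  obtain ⟨ψ, hψ, hind, hmult⟩ := clifford_corr_surj N N hN le_rfl hφ hT' hϑ hne
  have hres : resTo (le_refl N) ψ = ψ := rfl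
  rw [hres] at hmult
  have hψφ : ψ = φ := eq_of_classInner_ne_zero hψ hφ (by rw [hmult]; exact hne)
  have hone : classInner (fun n : N => ϑ n) φ = 1 := by
    rw [← hmult, hψφ, irr_orthonormal hφ hφ, if_pos rfl]
  have hcl := clifford N hN hϑ hφ hne
  rw [hone, one_smul] at hcl
  have hS := conjSet_finite N hN φ
  rw [finsum_mem_eq_finite_toFinset_sum _ hS] at hcl
  refine ⟨hS.toFinset, ?_, ?_, hcl⟩
  · intro ψ' hψ'
    rw [Set.Finite.mem_toFinset] at hψ'
    obtain ⟨g, rfl⟩ := hψ'
    exact conjFun_isIrrCharacter N hN hφ g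
  · -- compare degrees
    have h1 : ϑ 1 = (N.index : ℂ) * φ 1 := by
      rw [← hind, hψφ, indFun_one]
    have h2 : ϑ 1 = (hS.toFinset.card : ℂ) * φ 1 := by
      have := congrFun hcl 1
      simp only [OneMemClass.coe_one] at this
      rw [this, Finset.sum_apply]
      rw [Finset.sum_congr rfl (g := fun _ => φ 1)]
      · simp
      · intro ψ' hψ'
        rw [Set.Finite.mem_toFinset] at hψ'
        obtain ⟨g, rfl⟩ := hψ'
        rw [conjFun_apply]
        congr 1
        apply Subtype.ext
        simp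
    obtain ⟨d, hd0, hd⟩ := irr_one_pos hφ
    have hd0' : (d : ℂ) ≠ 0 := by exact_mod_cast hd0.ne'
    rw [h1, hd] at h2
    have h3 := mul_right_cancel₀ hd0' h2
    exact_mod_cast h3.symm

/-- sum over `K` of a function supported on a subgroup -/
theorem sum_ite_mem (Z : Subgroup K) [Fintype Z] [DecidablePred (· ∈ Z)] (F : K → ℂ) :
    ∑ h : K, (if h ∈ Z then F h else 0) = ∑ z : Z, F z := by
  classical
  rw [← Finset.sum_filter]
  rw [Finset.sum_subtype (Finset.univ.filter (· ∈ Z)) (p := (· ∈ Z)) (by simp) F]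

/-- the case where the constituent is invariant -/
theorem case_top (N : Subgroup K) [Fintype N] (hN : N.Normal)
    (hab : ∀ a b : K, a * b * a⁻¹ * b⁻¹ ∈ N) (f : A →* MulAut K)
    (hfN : ∀ (a : A) (n : K), n ∈ N → f a n ∈ N)
    (hchief : ∀ M : Subgroup K, N ≤ M → (∀ (a : A) (m : K), m ∈ M → f a m ∈ M) → M = N ∨ M = ⊤)
    {ϑ : K → ℂ} (hϑ : IsIrrCharacter K ϑ) (hinv : ∀ (a : A) (k : K), ϑ (f a k) = ϑ k)
    {φ : N → ℂ} (hφ : IsIrrCharacter N φ) (hne : classInner (fun n : N => ϑ n) φ ≠ 0)
    (hφinv : ∀ k : K, conjFun N hN φ k = φ) :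
    IsIrrCharacter N (fun n : N => ϑ n) ∨
      ∃ e : ℕ, (fun n : N => ϑ n) = (e : ℂ) • φ ∧ e ^ 2 = N.index := by
  classical
  haveI := hN
  have hres := restrict_eq_smul_of_invariant N hN hϑ hφ hne hφinv
  obtain ⟨e, he⟩ :=
    exists_nat_classInner (isCharacter_restrict N (IsIrrCharacter.isCharacter hϑ)) hφ
  rw [he] at hres hne
  have hnorm : classInner (fun n : N => ϑ n) (fun n : N => ϑ n) = (e : ℂ) ^ 2 := by
    rw [hres, classInner_smul_left, classInner_smul_right, irr_orthonormal hφ hφ, if_pos rfl]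
    simp; ring
  have hself := classInner_restrict_self N hϑ
  rw [hnorm] at hself
  -- the subgroup generated by `N` and the support of `ϑ`
  set S : Set K := {k | ϑ k ≠ 0} with hS
  set M : Subgroup K := N ⊔ Subgroup.closure S with hM
  have hNM : N ≤ M := le_sup_left
  have hSM : S ⊆ M := fun k hk =>
    (le_sup_right : Subgroup.closure S ≤ M) (Subgroup.subset_closure hk)
  have hMinv : ∀ (a : A) (m : K), m ∈ M → f a m ∈ M := by
    intro a
    have : M ≤ M.comap (f a).toMonoidHom := by
      rw [hM]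
      apply sup_le
      · intro n hn
        exact hNM (hfN a n hn)
      · rw [Subgroup.closure_le]
        intro k hk
        apply hSM
        show ϑ (f a k) ≠ 0
        rw [hinv]; exact hk
    intro m hm
    exact this hm
  rcases hchief M hNM hMinv with hMN | hMtop
  · right
    refine ⟨e, hres, ?_⟩
    have hvan : ∀ g : K, g ∉ N → ϑ g = 0 := by
      intro g hg
      by_contra h0
      apply hg
      rw [← hMN]
      exact hSM h0
    rw [(vanish_off_iff N).mpr hvan, sub_zero] at hself
    have h3 : Nat.card N * e ^ 2 = Nat.card N * N.index := by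
      rw [Subgroup.card_mul_index]
      exact_mod_cast hself
    exact Nat.eq_of_mul_eq_mul_left Nat.card_pos h3
  · left
    -- abelian quotient
    letI : CommGroup (K ⧸ N) :=
      { (inferInstance : Group (K ⧸ N)) with
        mul_comm := by
          intro a b
          induction a using QuotientGroup.induction_on with
          | H x =>
            induction b using QuotientGroup.induction_on with
            | H y =>
              rw [← QuotientGroup.mk_mul, ← QuotientGroup.mk_mul, QuotientGroup.eq]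
              have := hab y⁻¹ x⁻¹
              simpa [mul_assoc] using this }
    set π : K →* K ⧸ N := QuotientGroup.mk' N with hπ
    have hπker : ∀ k : K, π k = 1 ↔ k ∈ N := fun k => QuotientGroup.eq_one_iff k
    have hdist : ∀ ψ : AddChar (Additive (K ⧸ N)) ℂ, linChar π ψ * ϑ = ϑ → ψ = 1 := by
      intro ψ hψ
      let E : Subgroup K :=
        { carrier := {k | linChar π ψ k = 1}
          one_mem' := linChar_one π ψ
          mul_mem' := by
            intro a b ha hb
            simp only [Set.mem_ofPred_eq] at ha hb ⊢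
            rw [linChar_mul, ha, hb, mul_one]
          inv_mem' := by
            intro a ha
            simp only [Set.mem_ofPred_eq] at ha ⊢
            have h1 := linChar_mul π ψ a a⁻¹
            rw [mul_inv_cancel, linChar_one, ha, one_mul] at h1
            exact h1.symm }
      have hE : ∀ k, k ∈ E ↔ linChar π ψ k = 1 := fun k => Iff.rfl
      have hME : M ≤ E := by
        rw [hM]
        apply sup_le
        · intro n hn
          rw [hE]
          exact linChar_ker π ψ ((hπker n).mpr hn)
        · rw [Subgroup.closure_le]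
          intro k hk
          show linChar π ψ k = 1
          have h1 := congrFun hψ k
          simp only [Pi.mul_apply] at h1
          exact mul_right_cancel₀ hk (by rw [h1, one_mul])
      rw [hMtop] at hME
      ext x
      obtain ⟨k, hk⟩ := QuotientGroup.mk'_surjective N (Additive.toMul x)
      have h1 : linChar π ψ k = 1 := (hE k).mp (hME (Subgroup.mem_top k))
      rw [linChar_apply, hπ, hk] at h1
      simpa using h1
    have hone : ∀ ψ : AddChar (Additive (K ⧸ N)) ℂ,
        classInner (linChar π ψ * ϑ) ϑ = if ψ = 1 then 1 else 0 := by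
      intro ψ
      rw [irr_orthonormal (isIrrCharacter_linChar_mul π ψ hϑ) hϑ]
      by_cases h : ψ = 1
      · rw [if_pos h, if_pos]
        rw [h]
        funext k
        simp [linChar_apply]
      · rw [if_neg h, if_neg]
        intro h'
        exact h (hdist ψ h')
    have hsum1 : ∑ ψ : AddChar (Additive (K ⧸ N)) ℂ, classInner (linChar π ψ * ϑ) ϑ = 1 := by
      simp only [hone]
      simp
    have hsum2 : ∑ ψ : AddChar (Additive (K ⧸ N)) ℂ, classInner (linChar π ψ * ϑ) ϑ =
        (e : ℂ) ^ 2 := by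
      unfold classInner
      rw [← Finset.mul_sum, Finset.sum_comm]
      have h1 : ∀ k : K, ∑ ψ : AddChar (Additive (K ⧸ N)) ℂ,
          (linChar π ψ * ϑ) k * conj (ϑ k) =
          if k ∈ N then (Nat.card (K ⧸ N) : ℂ) * (ϑ k * conj (ϑ k)) else 0 := by
        intro k
        simp only [Pi.mul_apply, mul_assoc]
        rw [← Finset.sum_mul, sum_linChar π k]
        by_cases hk : k ∈ N
        · rw [if_pos ((hπker k).mpr hk), if_pos hk]
        · rw [if_neg (fun h => hk ((hπker k).mp h)), if_neg hk, zero_mul]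
      simp only [h1]
      rw [sum_ite_mem N (fun k => (Nat.card (K ⧸ N) : ℂ) * (ϑ k * conj (ϑ k)))]
      rw [← Finset.mul_sum]
      unfold classInner at hnorm
      have hN0 : (Nat.card N : ℂ) ≠ 0 := by exact_mod_cast (Nat.card_pos (α := N)).ne'
      have hK0 : (Nat.card K : ℂ) ≠ 0 := by exact_mod_cast (Nat.card_pos (α := K)).ne'
      have h2 : ∑ n : N, ϑ n * conj (ϑ n) = (Nat.card N : ℂ) * (e : ℂ) ^ 2 := by
        rw [← hnorm]
        field_simp
      rw [h2]
      have h3 : (Nat.card K : ℂ) = (Nat.card N : ℂ) * (Nat.card (K ⧸ N) : ℂ) := by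
        rw [← Subgroup.index_eq_card, ← Subgroup.card_mul_index N]
        push_cast; rfl
      rw [h3]
      have hA0 : (Nat.card (K ⧸ N) : ℂ) ≠ 0 := by
        intro h0
        rw [h0, mul_zero] at h3
        exact hK0 h3
      field_simp
    rw [hsum1] at hsum2
    have he1 : e = 1 := by
      have h1 : e ^ 2 = 1 := by exact_mod_cast hsum2.symm
      exact (Nat.pow_eq_one.mp h1).resolve_right (by norm_num)
    rw [he1] at hres
    simp only [Nat.cast_one, one_smul] at hres
    rw [hres]
    exact hφ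

/-- Isaacs 6.18 for a group `K` with an acting group `A` -/
theorem core (N : Subgroup K) [Fintype N] (hN : N.Normal)
    (hab : ∀ a b : K, a * b * a⁻¹ * b⁻¹ ∈ N) (f : A →* MulAut K)
    (hfN : ∀ (a : A) (n : K), n ∈ N → f a n ∈ N)
    (hchief : ∀ M : Subgroup K, N ≤ M → (∀ (a : A) (m : K), m ∈ M → f a m ∈ M) → M = N ∨ M = ⊤)
    {ϑ : K → ℂ} (hϑ : IsIrrCharacter K ϑ) (hinv : ∀ (a : A) (k : K), ϑ (f a k) = ϑ k) :
    IsIrrCharacter N (fun n : N => ϑ n) ∨
    (∃ (φ : N → ℂ) (e : ℕ), IsIrrCharacter N φ ∧ (fun n : N => ϑ n) = (e : ℂ) • φ ∧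
      e ^ 2 = N.index) ∨
    (∃ F : Finset (N → ℂ), (∀ φ ∈ F, IsIrrCharacter N φ) ∧ F.card = N.index ∧
      (fun n : N => ϑ n) = ∑ φ ∈ F, φ) := by
  classical
  have hres : IsCharacter N (fun n : N => ϑ n) :=
    isCharacter_restrict N (IsIrrCharacter.isCharacter hϑ)
  have hres0 : (fun n : N => ϑ n) ≠ 0 := by
    intro h0
    have h1 := congrFun h0 1
    obtain ⟨d, hd0, hd⟩ := irr_one_pos hϑ
    simp only [OneMemClass.coe_one, Pi.zero_apply, hd] at h1
    have : d = 0 := by exact_mod_cast h1
    omega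
  obtain ⟨φ, hφ, hne⟩ := exists_irr_constituent hres hres0
  have hNT : N ≤ inertia N hN φ := fun n hn =>
    (mem_inertia N hN φ n).mpr
      (conjFun_of_mem N hN (isClassFunction_of_isCharacter (IsIrrCharacter.isCharacter hφ)) hn)
  rcases hchief (inertia N hN φ) hNT
    (fun a t ht => inertia_invariant N hN hab f hfN hϑ hinv hφ hne a t ht) with h | h
  · right; right
    exact case_bot N hN hϑ hφ hne h
  · have hφinv : ∀ k : K, conjFun N hN φ k = φ := by
      intro k
      rw [← mem_inertia, h]
      exact Subgroup.mem_top k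
    rcases case_top N hN hab f hfN hchief hϑ hinv hφ hne hφinv with h1 | ⟨e, h1, h2⟩
    · left; exact h1
    · right; left
      exact ⟨φ, e, hφ, h1, h2⟩

end core

/-- **Isaacs 6.18** -/
theorem result {G : Type*} [Group G] [Fintype G] (K L : Subgroup G) [hK : K.Normal] [L.Normal] (hLK : L < K) (hchief : ∀ M : Subgroup G, M.Normal → L ≤ M → M ≤ K → M = L ∨ M = K) (hab : ⁅K, K⁆ ≤ L) (ϑ : K → ℂ) (hϑ : Cfsg.IsIrrCharacter K ϑ) (hinv : ∀ (g : G) (n : K), ϑ ⟨g * n * g⁻¹, hK.conj_mem (n : G) n.2 g⟩ = ϑ n) : Cfsg.IsIrrCharacter L (fun x : L => ϑ ⟨(x : G), hLK.le x.2⟩) ∨ (∃ (φ : L → ℂ) (e : ℕ), Cfsg.IsIrrCharacter L φ ∧ (fun x : L => ϑ ⟨(x : G), hLK.le x.2⟩) = (e : ℂ) • φ ∧ e ^ 2 = L.relIndex K) ∨ (∃ F : Finset (L → ℂ), (∀ φ ∈ F, Cfsg.IsIrrCharacter L φ) ∧ F.card = L.relIndex K ∧ (fun x : L => ϑ ⟨(x : G), hLK.le x.2⟩) = ∑ φ ∈ F, φ) := by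
  classical
  haveI : Fintype K := Fintype.ofFinite K
  have hL : L.Normal := inferInstance
  set N : Subgroup K := L.subgroupOf K with hNdef
  haveI : Fintype N := Fintype.ofFinite N
  have hN : N.Normal := hL.subgroupOf K
  let f : G →* MulAut K := MulAut.conjNormal
  have hf : ∀ (g : G) (k : K), ((f g k : K) : G) = g * k * g⁻¹ := fun g k =>
    MulAut.conjNormal_apply g k
  have hab' : ∀ a b : K, a * b * a⁻¹ * b⁻¹ ∈ N := by
    intro a b
    rw [hNdef, Subgroup.mem_subgroupOf]
    apply hab
    have := Subgroup.commutator_mem_commutator a.2 b.2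
    rw [commutatorElement_def] at this
    simpa using this
  have hfN : ∀ (g : G) (n : K), n ∈ N → f g n ∈ N := by
    intro g n hn
    rw [hNdef, Subgroup.mem_subgroupOf] at hn ⊢
    rw [hf]
    exact hL.conj_mem _ hn g
  have hchief' : ∀ M : Subgroup K, N ≤ M → (∀ (g : G) (m : K), m ∈ M → f g m ∈ M) →
      M = N ∨ M = ⊤ := by
    intro M hNM hMinv
    have hnorm : (M.map K.subtype).Normal := by
      constructor
      intro x hx g
      obtain ⟨m, hm, rfl⟩ := hx
      refine ⟨f g m, hMinv g m hm, ?_⟩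
      exact hf g m
    have hLM : L ≤ M.map K.subtype := by
      intro l hl
      refine ⟨⟨l, hLK.le hl⟩, hNM ?_, rfl⟩
      rw [hNdef, Subgroup.mem_subgroupOf]
      exact hl
    have hMK : M.map K.subtype ≤ K := Subgroup.map_subtype_le M
    have hcomap : M = (M.map K.subtype).comap K.subtype :=
      (Subgroup.comap_map_eq_self_of_injective K.subtype_injective M).symm
    rcases hchief _ hnorm hLM hMK with h | h
    · left
      rw [hcomap, h]
      rfl
    · right
      rw [hcomap, h]
      exact Subgroup.subgroupOf_self K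
  have hinv' : ∀ (g : G) (k : K), ϑ (f g k) = ϑ k := by
    intro g k
    rw [← hinv g k]
    congr 1
  have hcore := core N hN hab' f hfN hchief' hϑ hinv'
  let ι : N ≃* L := Subgroup.subgroupOfEquivOfLe hLK.le
  have hι : ∀ x : L, ((ι.symm x : N) : K) = ⟨(x : G), hLK.le x.2⟩ := fun x => rfl
  have hidx : N.index = L.relIndex K := rfl
  have htr : ∀ a : N → ℂ, IsIrrCharacter N a → IsIrrCharacter L (fun x => a (ι.symm x)) :=
    fun a ha => isIrrCharacter_comp_equiv ι.symm ha
  rcases hcore with h | ⟨φ, e, hφ, h1, h2⟩ | ⟨F, hF, hcard, hsum⟩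
  · left
    exact htr _ h
  · right; left
    refine ⟨fun x => φ (ι.symm x), e, htr φ hφ, ?_, by rw [h2, hidx]⟩
    funext x
    have := congrFun h1 (ι.symm x)
    simp only [Pi.smul_apply] at this ⊢
    rw [← this, hι]
  · right; right
    have hinj : Function.Injective (fun (a : N → ℂ) (x : L) => a (ι.symm x)) := by
      intro a b hab2
      funext n
      have := congrFun hab2 (ι n)
      simpa using this
    refine ⟨F.image (fun (a : N → ℂ) (x : L) => a (ι.symm x)), ?_, ?_, ?_⟩
    · intro φ hφ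
      obtain ⟨a, ha, rfl⟩ := Finset.mem_image.mp hφ
      exact htr a (hF a ha)
    · rw [Finset.card_image_of_injective _ hinj, hcard, hidx]
    · rw [Finset.sum_image (fun a _ b _ h => hinj h)]
      funext x
      have := congrFun hsum (ι.symm x)
      rw [Finset.sum_apply] at this ⊢
      rw [hι] at this
      exact this

end Cfsg.Agent.S0857
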