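import Cfsg.Statements.S0858
import Cfsg.Agent.S0857
import Cfsg.Agent.Lib.Helper75.IndTransport
import Cfsg.Agent.Lib.Helper81.CharDetSolv

set_option autoImplicit false
set_option linter.style.haveILetI false
set_option linter.unusedSectionVars false
open Cfsg

namespace Cfsg.Agent.S0858

open scoped ComplexConjugate
open Cfsg.Agent.Helper81 Cfsg.Agent.Helper75 Cfsg.Agent.S0857

universe u

/-- the hypothesis on chief factors -/
def ChiefHyp (G : Type u) [Group G] (N : Subgroup G) : Prop :=
  ∀ (H K L : Subgroup G), N ≤ L → L < K → K ≤ H → (∀ h ∈ H, ∀ k ∈ K, h * k * h⁻¹ ∈ K) →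
    (∀ h ∈ H, ∀ l ∈ L, h * l * h⁻¹ ∈ L) →
    (∀ M : Subgroup G, L ≤ M → M ≤ K → (∀ h ∈ H, ∀ m ∈ M, h * m * h⁻¹ ∈ M) → M = L ∨ M = K) →
    ¬ IsSquare (L.relIndex K)

/-- the conclusion: `χ` is induced from a character restricting irreducibly to `N` -/
def Concl (G : Type u) [Group G] [Fintype G] (N : Subgroup G) (χ : G → ℂ) : Prop :=
  ∃ (H : Subgroup G) (hNH : N ≤ H) (ψ : H → ℂ), IsIrrCharacter H ψ ∧ indFun H ψ = χ ∧
    IsIrrCharacter N (fun n : N => ψ ⟨(n : G), hNH n.2⟩)

theorem chiefHyp_subgroupOf {G : Type u} [Group G] {N : Subgroup G} (h : ChiefHyp G N)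
    (T : Subgroup G) (hNT : N ≤ T) : ChiefHyp T (N.subgroupOf T) := by
  intro H K L hNL hLK hKH hHK hHL hmin
  have inj := T.subtype_injective
  have key := h (H.map T.subtype) (K.map T.subtype) (L.map T.subtype) ?_ ?_ ?_ ?_ ?_ ?_
  · rwa [Subgroup.relIndex_map_map_of_injective L K inj] at key
  · intro n hn
    exact ⟨⟨n, hNT hn⟩, hNL (Subgroup.mem_subgroupOf.mpr hn), rfl⟩
  · exact (Subgroup.map_lt_map_iff_of_injective inj).mpr hLK
  · exact Subgroup.map_mono hKH
  · rintro _ ⟨h', hh', rfl⟩ _ ⟨k', hk', rfl⟩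
    exact ⟨h' * k' * h'⁻¹, hHK h' hh' k' hk', by simp⟩
  · rintro _ ⟨h', hh', rfl⟩ _ ⟨l', hl', rfl⟩
    exact ⟨h' * l' * h'⁻¹, hHL h' hh' l' hl', by simp⟩
  · intro M hLM hMK hHM
    have hMT : M ≤ T := hMK.trans (Subgroup.map_subtype_le K)
    have h1 : L ≤ M.subgroupOf T := by
      intro x hx
      exact Subgroup.mem_subgroupOf.mpr (hLM ⟨x, hx, rfl⟩)
    have h2 : M.subgroupOf T ≤ K := by
      intro x hx
      obtain ⟨k, hk, hkx⟩ := hMK (Subgroup.mem_subgroupOf.mp hx)
      have : k = x := Subtype.ext hkx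
      rwa [← this]
    have h3 : ∀ h' ∈ H, ∀ m ∈ M.subgroupOf T, h' * m * h'⁻¹ ∈ M.subgroupOf T := by
      intro h' hh' m hm
      rw [Subgroup.mem_subgroupOf] at hm ⊢
      have := hHM h' ⟨h', hh', rfl⟩ m hm
      simpa using this
    rcases hmin (M.subgroupOf T) h1 h2 h3 with h4 | h4
    · left; rw [← h4, Subgroup.map_subgroupOf_eq_of_le hMT]
    · right; rw [← h4, Subgroup.map_subgroupOf_eq_of_le hMT]

theorem concl_of_subgroup {G : Type u} [Group G] [Fintype G] (N T : Subgroup G) [Fintype T]
    (hNT : N ≤ T) {η : T → ℂ} {χ : G → ℂ} (hind : indFun T η = χ)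
    (h : Concl T (N.subgroupOf T) η) : Concl G N χ := by
  obtain ⟨H', hNH', ψ', hψ', hindψ, hres⟩ := h
  set e := H'.equivMapOfInjective T.subtype T.subtype_injective with he
  have hNH : N ≤ H'.map T.subtype := by
    intro n hn
    exact ⟨⟨n, hNT hn⟩, hNH' (Subgroup.mem_subgroupOf.mpr hn), rfl⟩
  refine ⟨H'.map T.subtype, hNH, fun x => ψ' (e.symm x), isIrrCharacter_comp_equiv e.symm hψ', ?_, ?_⟩
  · rw [indFun_map_subtype, hindψ, hind]
  · let ι : N ≃* N.subgroupOf T := (Subgroup.subgroupOfEquivOfLe hNT).symm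
    have h1 := isIrrCharacter_comp_equiv ι hres
    have h2 : (fun n : N => ψ' (e.symm ⟨(n : G), hNH n.2⟩)) =
        fun x : N => (fun n : N.subgroupOf T => ψ' ⟨(n : T), hNH' n.2⟩) (ι x) := by
      funext n
      show ψ' (e.symm ⟨(n : G), hNH n.2⟩) = ψ' ⟨(ι n : T), hNH' (ι n).2⟩
      congr 1
      apply e.injective
      rw [MulEquiv.apply_symm_apply]
      apply Subtype.ext
      rfl
    rw [h2]
    exact h1

theorem concl_top {G : Type u} [Group G] [Fintype G] (N : Subgroup G) {χ : G → ℂ}
    (hχ : IsIrrCharacter G χ) (hirr : IsIrrCharacter N (fun n : N => χ n)) : Concl G N χ :=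
  ⟨⊤, le_top, fun x => χ x,
    isIrrCharacter_comp_equiv (Subgroup.topEquiv : (⊤ : Subgroup G) ≃* G) hχ,
    indFun_top (isClassFunction_of_isCharacter (IsIrrCharacter.isCharacter hχ)), hirr⟩

theorem chiefHyp_mono {G : Type u} [Group G] {N K : Subgroup G} (h : ChiefHyp G N) (hNK : N ≤ K) :
    ChiefHyp G K := fun H K' L hKL => h H K' L (hNK.trans hKL)

/-- a chief factor at the bottom of a solvable quotient is abelian -/
theorem exists_chief {G : Type u} [Group G] [Finite G] (N : Subgroup G) [hN : N.Normal]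
    (hNtop : N ≠ ⊤) (hsolv : Group.IsSolvable (G ⧸ N)) :
    ∃ K : Subgroup G, K.Normal ∧ N < K ∧ ⁅K, K⁆ ≤ N ∧
      ∀ M : Subgroup G, M.Normal → N ≤ M → M ≤ K → M = N ∨ M = K := by
  classical
  let S : Set (Subgroup G) := {M | M.Normal ∧ N < M}
  have hS : S.Nonempty := ⟨⊤, inferInstance, lt_top_iff_ne_top.mpr hNtop⟩
  obtain ⟨K, ⟨hK, hNK⟩, hKmin⟩ := wellFounded_lt.has_min S hS
  have hmin : ∀ M : Subgroup G, M.Normal → N ≤ M → M ≤ K → M = N ∨ M = K := by
    intro M hM hNM hMK
    by_cases h : M = N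
    · left; exact h
    · right
      have hlt : N < M := lt_of_le_of_ne hNM (Ne.symm h)
      have := hKmin M ⟨hM, hlt⟩
      exact le_antisymm hMK (by
        by_contra hcon
        exact this (lt_of_le_of_ne hMK (fun heq => hcon (heq ▸ le_rfl))))
  refine ⟨K, hK, hNK, ?_, hmin⟩
  haveI := hK
  haveI := hsolv
  set π := QuotientGroup.mk' N with hπ
  have hKbar : K.map π ≠ ⊥ := by
    intro h0
    rw [Subgroup.map_eq_bot_iff, QuotientGroup.ker_mk'] at h0
    exact (not_le_of_gt hNK) h0
  have hlt := Group.IsSolvable.commutator_lt_of_ne_bot hKbar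
  have hMn : (⁅K, K⁆ ⊔ N).Normal := inferInstance
  rcases hmin (⁅K, K⁆ ⊔ N) hMn le_sup_right
    (sup_le (Subgroup.commutator_le_left K K) hNK.le) with h | h
  · rw [← h]; exact le_sup_left
  · exfalso
    have h1 : K.map π = ⁅K.map π, K.map π⁆ := by
      conv_lhs => rw [← h]
      rw [Subgroup.map_sup, Subgroup.map_commutator, hπ, QuotientGroup.map_mk'_self, sup_bot_eq]
    rw [← h1] at hlt
    exact lt_irrefl _ hlt

theorem restrict_ne_zero {G : Type u} [Group G] (K : Subgroup G) {χ : G → ℂ}
    (hχ : IsIrrCharacter G χ) : (fun k : K => χ k) ≠ 0 := by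
  intro h0
  have h1 := congrFun h0 1
  obtain ⟨d, hd0, hd⟩ := irr_one_pos hχ
  simp only [OneMemClass.coe_one, Pi.zero_apply, hd] at h1
  have : d = 0 := by exact_mod_cast h1
  omega

theorem aux : ∀ (m : ℕ) (G : Type u) [Group G] [Fintype G] (N : Subgroup G) [N.Normal],
    N.index = m → Group.IsSolvable (G ⧸ N) → ChiefHyp G N →
    ∀ χ : G → ℂ, IsIrrCharacter G χ → Concl G N χ := by
  intro m
  induction m using Nat.strong_induction_on with
  | _ m ih =>
    intro G _ _ N hN hm hsolv hch χ hχ
    classical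
    have hχc := IsIrrCharacter.isCharacter hχ
    have hχcf := isClassFunction_of_isCharacter hχc
    by_cases hirr : IsIrrCharacter N (fun n : N => χ n)
    · exact concl_top N hχ hirr
    have hNtop : N ≠ ⊤ := by
      rintro rfl
      apply hirr
      exact isIrrCharacter_comp_equiv (Subgroup.topEquiv : (⊤ : Subgroup G) ≃* G) hχ
    have hidx0 : N.index ≠ 0 := Subgroup.index_ne_zero_of_finite
    -- the Clifford step
    have hstep : ∀ (M : Subgroup G) (hM : M.Normal) (_ : N ≤ M) (ϑ : M → ℂ),
        IsIrrCharacter M ϑ → classInner (fun x : M => χ x) ϑ ≠ 0 → inertia M hM ϑ ≠ ⊤ →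
        Concl G N χ := by
      intro M hM hNM ϑ hϑ hne hT
      have hMT : M ≤ inertia M hM ϑ := fun x hx =>
        (mem_inertia M hM ϑ x).mpr (conjFun_of_mem M hM
          (isClassFunction_of_isCharacter (IsIrrCharacter.isCharacter hϑ)) hx)
      obtain ⟨η, hη, hind, _⟩ := clifford_corr_surj M (inertia M hM ϑ) hM hMT hϑ
        (fun g => mem_inertia M hM ϑ g) hχ hne
      have hNT := hNM.trans hMT
      haveI : (N.subgroupOf (inertia M hM ϑ)).Normal := hN.subgroupOf _
      have hidx : (N.subgroupOf (inertia M hM ϑ)).index < m := by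
        have h1 := Subgroup.relIndex_mul_index hNT
        rw [hm] at h1
        have h2 : (inertia M hM ϑ).index ≠ 1 := fun h => hT (Subgroup.index_eq_one.mp h)
        have h3 : (inertia M hM ϑ).index ≠ 0 := Subgroup.index_ne_zero_of_finite
        have h4 : 2 ≤ (inertia M hM ϑ).index := by omega
        have h5 : N.relIndex (inertia M hM ϑ) ≠ 0 := by
          intro h0; rw [h0, zero_mul] at h1; exact hidx0 (hm.trans h1.symm)
        show N.relIndex (inertia M hM ϑ) < m
        nlinarith [Nat.pos_of_ne_zero h5]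
      exact concl_of_subgroup N _ hNT hind
        (ih _ hidx (inertia M hM ϑ) (N.subgroupOf (inertia M hM ϑ)) rfl
          (isSolvable_quotient_subgroupOf N _ hsolv) (chiefHyp_subgroupOf hch _ hNT) η hη)
    obtain ⟨K, hK, hNK, hab, hmin⟩ := exists_chief N hNtop hsolv
    haveI := hK
    obtain ⟨ϑ, hϑ, hne⟩ := exists_irr_constituent (isCharacter_restrict K hχc) (restrict_ne_zero K hχ)
    by_cases hT : inertia K hK ϑ = ⊤
    swap
    · exact hstep K hK hNK.le ϑ hϑ hne hT
    have hϑinv : ∀ g : G, conjFun K hK ϑ g = ϑ := by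
      intro g
      rw [← mem_inertia, hT]
      exact Subgroup.mem_top g
    have hinv : ∀ (g : G) (k : K), ϑ ⟨g * k * g⁻¹, hK.conj_mem (k : G) k.2 g⟩ = ϑ k := by
      intro g k
      have := congrFun (hϑinv g) k
      rwa [conjFun_apply] at this
    have hresK := restrict_eq_smul_of_invariant K hK hχ hϑ hne hϑinv
    set c := classInner (fun n : K => χ n) ϑ with hc
    have hrel2 : 2 ≤ N.relIndex K := by
      have h1 : N.relIndex K ≠ 1 := fun h => (not_le_of_gt hNK) (Subgroup.relIndex_eq_one.mp h)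
      have h2 : N.relIndex K ≠ 0 := by
        have h3 := Subgroup.relIndex_mul_index hNK.le
        intro h0; rw [h0, zero_mul] at h3; exact hidx0 h3.symm
      omega
    rcases Cfsg.Agent.S0857.result K N hNK hmin hab ϑ hϑ hinv with
      ha | ⟨φ, e, hφ, he, hsq⟩ | ⟨F, hF, hcard, hsum⟩
    · -- (a): induction over `K`
      have hlt : K.index < m := by
        have h1 := Subgroup.relIndex_mul_index hNK.le
        rw [hm] at h1
        have h3 : K.index ≠ 0 := Subgroup.index_ne_zero_of_finite
        nlinarith [Nat.pos_of_ne_zero h3]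
      have hsolvK : Group.IsSolvable (G ⧸ K) := by
        haveI := hsolv
        exact Group.isSolvable_of_surjective
          (f := QuotientGroup.map N K (MonoidHom.id G) (fun x hx => hNK.le hx))
          (by
            intro q
            induction q using QuotientGroup.induction_on with
            | H g => exact ⟨(g : G ⧸ N), rfl⟩)
      obtain ⟨H, hKH, ψ, hψ, hind, hψK⟩ := ih _ hlt G K rfl hsolvK (chiefHyp_mono hch hNK.le) χ hχ
      have hψK' : IsIrrCharacter K (resTo hKH ψ) := hψK
      refine ⟨H, hNK.le.trans hKH, ψ, hψ, hind, ?_⟩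
      -- `ψ` restricted to `K` is `ϑ`
      have h1 : classInner (fun h : H => χ h) ψ ≠ 0 := by
        have h2 := frobenius_reciprocity H ψ hχcf
        rw [hind, irr_orthonormal hχ hχ, if_pos rfl] at h2
        rw [classInner_conj_symm, ← h2]
        simp
      obtain ⟨Δ, hΔ, hsplit⟩ := exists_add_of_classInner_ne_zero (isCharacter_restrict H hχc) hψ h1
      have h3 : (fun k : K => χ k) = resTo hKH ψ + resTo hKH Δ := by
        rw [← resTo_add, ← hsplit]
        rfl
      have h4 : classInner (fun k : K => χ k) (resTo hKH ψ) ≠ 0 := by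
        rw [h3, classInner_add_left, irr_orthonormal hψK' hψK', if_pos rfl]
        obtain ⟨k, hk⟩ := exists_nat_classInner (isCharacter_resTo hKH hΔ) hψK'
        rw [hk]
        have : (1 : ℂ) + (k : ℂ) = ((1 + k : ℕ) : ℂ) := by push_cast; ring
        rw [this]
        exact_mod_cast (Nat.succ_ne_zero k ∘ (by omega : 1 + k = 0 → k.succ = 0))
      rw [hresK, classInner_smul_left] at h4
      have h5 : classInner ϑ (resTo hKH ψ) ≠ 0 := fun h0 => h4 (by rw [h0, mul_zero])
      have h6 : ϑ = resTo hKH ψ := eq_of_classInner_ne_zero hϑ hψK' h5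
      have h7 : (fun n : N => ψ ⟨(n : G), (hNK.le.trans hKH) n.2⟩) =
          fun x : N => ϑ ⟨(x : G), hNK.le x.2⟩ := by
        funext n
        rw [h6]
        rfl
      rw [h7]
      exact ha
    · -- (b): excluded
      exfalso
      refine hch ⊤ K N le_rfl hNK le_top (fun h _ k hk => hK.conj_mem k hk h)
        (fun h _ l hl => hN.conj_mem l hl h) ?_ ⟨e, by rw [← hsq, sq]⟩
      intro M hNM hMK hMn
      exact hmin M ⟨fun x hx g => hMn g (Subgroup.mem_top g) x hx⟩ hNM hMK
    · -- (c)
      have hc0 : c ≠ 0 := hne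
      have hχN : (fun n : N => χ n) = c • ∑ φ ∈ F, φ := by
        rw [← hsum]
        funext n
        have := congrFun hresK ⟨(n : G), hNK.le n.2⟩
        simpa using this
      have hFne : ∀ φ ∈ F, classInner (fun n : N => χ n) φ ≠ 0 := by
        intro φ hφ
        rw [hχN, classInner_smul_left, classInner_sum_left]
        have h1 : ∑ φ' ∈ F, classInner φ' φ = 1 := by
          rw [Finset.sum_eq_single φ]
          · rw [irr_orthonormal (hF φ hφ) (hF φ hφ), if_pos rfl]
          · intro φ' hφ' hne'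
            rw [irr_orthonormal (hF φ' hφ') (hF φ hφ), if_neg hne']
          · intro h; exact absurd hφ h
        rw [h1, mul_one]
        exact hc0
      have hFnonempty : F.Nonempty := by
        rw [← Finset.card_pos, hcard]; omega
      obtain ⟨φ, hφF⟩ := hFnonempty
      have hT' : inertia N hN φ ≠ ⊤ := by
        intro htop
        have hall : ∀ φ' ∈ F, φ' = φ := by
          intro φ' hφ'
          by_contra hne'
          have h0 := clifford_not_conj N hN hχ (hF φ hφF) (hF φ' hφ') (hFne φ hφF) (by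
            rintro ⟨g, hg⟩
            apply hne'
            rw [hg]
            rw [← mem_inertia, htop]
            exact Subgroup.mem_top g)
          exact hFne φ' hφ' h0
        have hle : F.card ≤ 1 := Finset.card_le_one.mpr (fun a ha b hb => (hall a ha).trans (hall b hb).symm)
        rw [hcard] at hle
        omega
      exact hstep N hN le_rfl φ (hF φ hφF) (hFne φ hφF) hT'

/-- Let N be a normal subgroup of the finite group G with G / N solvable, and suppose that for every subgroup H containing N and all subgroups L < K between N and H that are normal in H with no subgroup normal in H strictly between them, the index of L in K is not a perfect square. Then every irreducible character χ of G is induced from an irreducible character ψ of some subgroup H containing N such that the restriction of ψ to N is irreducible. -/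
theorem result {G : Type*} [Group G] [Fintype G] (N : Subgroup G) [N.Normal] (hsolv : Group.IsSolvable (G ⧸ N)) (hchief : ∀ (H K L : Subgroup G), N ≤ L → L < K → K ≤ H → (∀ h ∈ H, ∀ k ∈ K, h * k * h⁻¹ ∈ K) → (∀ h ∈ H, ∀ l ∈ L, h * l * h⁻¹ ∈ L) → (∀ M : Subgroup G, L ≤ M → M ≤ K → (∀ h ∈ H, ∀ m ∈ M, h * m * h⁻¹ ∈ M) → M = L ∨ M = K) → ¬ IsSquare (L.relIndex K)) (χ : G → ℂ) (hχ : Cfsg.IsIrrCharacter G χ) : ∃ (H : Subgroup G) (hNH : N ≤ H) (ψ : H → ℂ), Cfsg.IsIrrCharacter H ψ ∧ Cfsg.indFun H ψ = χ ∧ Cfsg.IsIrrCharacter N (fun n : N => ψ ⟨(n : G), hNH n.2⟩) :=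
  aux N.index G N rfl hsolv hchief χ hχ

end Cfsg.Agent.S0858
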