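import Cfsg.Statements.S0890
import Cfsg.Agent.Lib.Helper3.QuasiPrim
import Cfsg.Agent.S0858

set_option autoImplicit false
set_option linter.unusedSectionVars false
open Cfsg

namespace Cfsg.Agent.S0890

open Cfsg.Agent.Helper3
open Module
open scoped ComplexConjugate

section

universe u
variable {G : Type u} [Group G] [Fintype G]

theorem nn_of_smul {M : Type u} [Group M] [Fintype M] {α φ : M → ℂ} (e : ℕ)
    (hφ : IsIrrCharacter M φ) (h : α = (e : ℂ) • φ) :
    classInner α α = ((e ^ 2 : ℕ) : ℂ) := by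
  rw [h, classInner_smul_left, classInner_smul_right, classInner_irr_self hφ,
    Complex.conj_natCast]
  push_cast; ring

theorem classInner_top (χ : G → ℂ) [Fintype (⊤ : Subgroup G)] :
    classInner (fun m : (⊤ : Subgroup G) => χ m) (fun m : (⊤ : Subgroup G) => χ m) =
      classInner χ χ := by
  unfold classInner
  rw [Subgroup.card_top]
  congr 1
  exact Fintype.sum_equiv Subgroup.topEquiv.toEquiv _ _ (fun x => rfl)

theorem finrank_commSub_subtype {n : ℕ} (ρ : Representation ℂ G (Fin n → ℂ)) {χ : G → ℂ}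
    (hρχ : ρ.character = χ) (M : Subgroup G) [Fintype M] :
    (finrank ℂ (commSub ρ M.subtype) : ℂ) =
      classInner (fun m : M => χ m) (fun m : M => χ m) := by
  rw [finrank_commSub]
  subst hρχ
  rfl

theorem index_eq_relIndex_of_sup (H K : Subgroup G) [hK : K.Normal] (hsup : K ⊔ H = ⊤) :
    H.index = (K ⊓ H).relIndex K := by
  have h1 := card_mul_card_inf_of_sup_eq_top H K hsup
  have h2 : Nat.card H * H.index = Nat.card G := Subgroup.card_mul_index H
  have h3 : Nat.card (K ⊓ H : Subgroup G) * (K ⊓ H).relIndex K = Nat.card K := by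
    have := Subgroup.relIndex_mul_relIndex (H := (⊥ : Subgroup G)) (K := K ⊓ H) (L := K)
      bot_le inf_le_left
    rwa [Subgroup.relIndex_bot_left, Subgroup.relIndex_bot_left] at this
  have hH0 : 0 < Nat.card H := Nat.card_pos
  have hD0 : 0 < Nat.card (K ⊓ H : Subgroup G) := Nat.card_pos
  have h4 : Nat.card H * Nat.card (K ⊓ H : Subgroup G) * H.index =
      Nat.card H * Nat.card (K ⊓ H : Subgroup G) * (K ⊓ H).relIndex K := by
    calc Nat.card H * Nat.card (K ⊓ H : Subgroup G) * H.index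
        = (Nat.card H * H.index) * Nat.card (K ⊓ H : Subgroup G) := by ring
      _ = Nat.card G * Nat.card (K ⊓ H : Subgroup G) := by rw [h2]
      _ = Nat.card K * Nat.card H := h1
      _ = (Nat.card (K ⊓ H : Subgroup G) * (K ⊓ H).relIndex K) * Nat.card H := by rw [h3]
      _ = _ := by ring
  exact Nat.eq_of_mul_eq_mul_left (Nat.mul_pos hH0 hD0) h4

theorem core (L H : Subgroup G) [hL : L.Normal] (hLH : L ≤ H) (hmax : IsCoatom H)
    (hsolv : Group.IsSolvable (G ⧸ L)) (ϑ : H → ℂ) (hϑ : IsIrrCharacter H ϑ)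
    (hϑL : IsIrrCharacter L (fun x : L => ϑ ⟨(x : G), hLH x.2⟩))
    (hind : IsIrrCharacter G (indFun H ϑ))
    (hqp : ∀ M : Subgroup G, M.Normal → L ≤ M → ∃ (φ : M → ℂ) (e : ℕ),
      IsIrrCharacter M φ ∧ (fun m : M => indFun H ϑ m) = (e : ℂ) • φ) : False := by
  classical
  obtain ⟨n, ρ, hρirr, hρχ⟩ := hind
  set χ := indFun H ϑ with hχdef
  have hχchar : IsCharacter G χ := ⟨n, ρ, hρχ⟩
  have hχcf : IsClassFunction G χ := isClassFunction_indFun H ϑ
  have hϑchar : IsCharacter H ϑ := isCharacter_of_isIrrCharacter hϑ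
  obtain ⟨dϑ, hdϑ0, hdϑ⟩ := irr_one_pos ⟨ϑ, hϑ⟩
  have hdϑ' : ϑ 1 = (dϑ : ℂ) := hdϑ
  have hϑ1 : ϑ 1 ≠ 0 := by rw [hdϑ']; exact_mod_cast hdϑ0.ne'
  have hχ1 : χ 1 = (H.index : ℂ) * ϑ 1 := Helper81.indFun_one H ϑ
  have hidx0 : H.index ≠ 0 := Subgroup.index_ne_zero_of_finite
  have hidx1 : H.index ≠ 1 := fun h => hmax.1 (Subgroup.index_eq_one.mp h)
  have hχ10 : χ 1 ≠ 0 := by
    rw [hχ1]; exact mul_ne_zero (by exact_mod_cast hidx0) hϑ1
  -- the core
  set C := H.normalCore with hCdef
  have hCH : C ≤ H := Subgroup.normalCore_le H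
  have hLC : L ≤ C := Subgroup.normal_le_normalCore.mpr hLH
  have hCtop : C ≠ ⊤ := fun h => hmax.1 (top_unique (h ▸ hCH))
  have hsolvC : Group.IsSolvable (G ⧸ C) := qp_isSolvable_quotient_of_le L C hLC hsolv
  obtain ⟨K, hKn, hCK, habK, hchiefK⟩ := S0858.exists_chief C hCtop hsolvC
  have := hKn
  have hKH : ¬ K ≤ H := fun h => hCK.not_ge (Subgroup.normal_le_normalCore.mpr h)
  obtain ⟨hsupK, hinfK⟩ := qp_inf_eq_core H K hKH hmax habK hCK.le
  have hϑC : IsIrrCharacter C (fun x : C => ϑ ⟨(x : G), hCH x.2⟩) :=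
    isIrrCharacter_comp_of_comp (Subgroup.inclusion hCH) (Subgroup.inclusion hLC) hϑchar hϑL
  -- quasi-primitivity at C and K
  obtain ⟨φC, eC, hφC, hresC⟩ := hqp C inferInstance hLC
  obtain ⟨φK, eK, hφK, hresK⟩ := hqp K hKn (hLC.trans hCK.le)
  have hnnC := nn_of_smul eC hφC hresC
  have hnnK := nn_of_smul eK hφK hresK
  have heK0 : eK ≠ 0 := by
    intro h0
    have := congrFun hresK 1
    simp only [Pi.smul_apply, smul_eq_mul, h0, Nat.cast_zero, zero_mul] at this
    exact hχ10 this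
  have hstarK := classInner_restrict_indFun_eq H K C hsupK hinfK.symm hCH ϑ
  rw [← hχdef, hnnK, hresC, classInner_smul_right, Complex.conj_natCast] at hstarK
  have hφeq : (fun x : C => ϑ ⟨(x : G), hCH x.2⟩) = φC := by
    by_contra hne
    rw [classInner_irr_ne hϑC hφC hne, mul_zero] at hstarK
    have : eK ^ 2 = 0 := by exact_mod_cast hstarK
    exact heK0 (pow_eq_zero_iff (two_ne_zero) |>.mp this)
  rw [← hφeq, classInner_irr_self hϑC, mul_one] at hstarK
  have heCK : eC = eK ^ 2 := by exact_mod_cast hstarK.symm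
  have heC : eC = H.index := by
    have h1 : χ 1 = (eC : ℂ) * φC 1 := by
      have := congrFun hresC 1
      simpa using this
    have h4 : φC 1 = ϑ 1 := by rw [← hφeq]; rfl
    rw [h4, hχ1] at h1
    have := mul_right_cancel₀ hϑ1 h1
    exact_mod_cast this.symm
  set m := H.index with hmdef
  have hmK : eK ^ 2 = m := by rw [← heCK, heC]
  -- K is proper
  have hKtop : K ≠ ⊤ := by
    intro h
    subst h
    rw [classInner_top, classInner_irr_self ⟨n, ρ, hρirr, hρχ⟩] at hnnK
    have : eK ^ 2 = 1 := by exact_mod_cast hnnK.symm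
    rw [hmK] at this
    exact hidx1 this
  have hsolvK : Group.IsSolvable (G ⧸ K) :=
    qp_isSolvable_quotient_of_le L K (hLC.trans hCK.le) hsolv
  obtain ⟨N, hNn, hKN, habN, hchiefN⟩ := S0858.exists_chief K hKtop hsolvK
  have := hNn
  have hsupN : N ⊔ H = ⊤ := top_unique (hsupK ▸ sup_le_sup_right hKN.le H)
  obtain ⟨ψ, c, hψ, hresN⟩ := hqp N hNn (hLC.trans (hCK.le.trans hKN.le))
  have hnnN := nn_of_smul c hψ hresN
  have hc0 : c ≠ 0 := by
    intro h0
    have := congrFun hresN 1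
    simp only [Pi.smul_apply, smul_eq_mul, h0, Nat.cast_zero, zero_mul] at this
    exact hχ10 this
  have hcC : (c : ℂ) ≠ 0 := by exact_mod_cast hc0
  have hinv : ∀ (g : G) (x : N), ψ ⟨g * x * g⁻¹, hNn.conj_mem (x : G) x.2 g⟩ = ψ x := by
    intro g x
    have h1 := congrFun hresN ⟨g * x * g⁻¹, hNn.conj_mem (x : G) x.2 g⟩
    have h2 := congrFun hresN x
    simp only [Pi.smul_apply, smul_eq_mul] at h1 h2
    have h3 : χ (g * x * g⁻¹) = χ x := hχcf x g
    rw [h1, h2] at h3
    exact mul_left_cancel₀ hcC h3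
  have htri := S0857.result N K hKN hchiefN habN ψ hψ hinv
  -- the restriction of ψ to K
  set ψK : K → ℂ := fun x : K => ψ ⟨(x : G), hKN.le x.2⟩ with hψKdef
  have hχK : (fun x : K => χ x) = (c : ℂ) • ψK := by
    funext x
    have := congrFun hresN ⟨(x : G), hKN.le x.2⟩
    simpa using this
  have hnnK2 : ((eK ^ 2 : ℕ) : ℂ) = (c : ℂ) * (c : ℂ) * classInner ψK ψK := by
    rw [← hnnK, hχK, classInner_smul_left, classInner_smul_right, Complex.conj_natCast]
    ring
  have hcases : classInner ψK ψK = 1 ∨ classInner ψK ψK = ((K.relIndex N : ℕ) : ℂ) := by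
    rcases htri with h | ⟨φ', e', hφ', hres', he'⟩ | ⟨F, hF, hFcard, hFsum⟩
    · left
      exact classInner_irr_self h
    · right
      have := nn_of_smul e' hφ' hres'
      rw [he'] at this
      exact this
    · right
      have hψKF : ψK = ∑ φ ∈ F, φ := hFsum
      rw [hψKF, classInner_sum_left]
      have : ∀ φ ∈ F, classInner φ (∑ φ' ∈ F, φ') = 1 := by
        intro φ hφF
        rw [classInner_sum_right, Finset.sum_eq_single φ]
        · exact classInner_irr_self (hF φ hφF)
        · intro φ' hφ'F hne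
          exact classInner_irr_ne (hF φ hφF) (hF φ' hφ'F) (Ne.symm hne)
        · intro h; exact absurd hφF h
      rw [Finset.sum_congr rfl this]
      simp [hFcard]
  -- the group theoretic contradiction in the ramified case
  have hbad : ¬ (m = c ^ 2 * K.relIndex N) := by
    intro hm
    have hmrel : m = C.relIndex K := by
      rw [hmdef, index_eq_relIndex_of_sup H K hsupK, hinfK]
    obtain ⟨p, a, hp, ha, hpa⟩ := qp_chief_relIndex C K hCK hsolvC hchiefK
    obtain ⟨q, b, hq, hb, hqb⟩ := qp_chief_relIndex K N hKN hsolvK hchiefN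
    have hqp' : q = p := by
      have h1 : q ∣ K.relIndex N := by rw [hqb]; exact dvd_pow_self q hb.ne'
      have h2 : q ∣ p ^ a := by
        rw [← hpa, ← hmrel, hm]; exact Dvd.dvd.mul_left h1 _
      exact (Nat.prime_dvd_prime_iff_eq hq hp).mp (hq.dvd_of_dvd_pow h2)
    subst hqp'
    have : Fact q.Prime := ⟨hq⟩
    have hcard : C.relIndex N = q ^ (a + b) := by
      have h := Subgroup.relIndex_mul_relIndex C K N hCK.le hKN.le
      rw [hpa, hqb] at h
      rw [← h, pow_add]
    have hcomm := qp_comm_mem_of_pgroup C K N hCK hKN.le q (a + b) hcard hchiefK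
    exact qp_not_comm H K N hsupK hCK.le hKN (fun k hk r hr => hcomm k hk r hr.1)
  have hgood : m = c ^ 2 := by
    rcases hcases with h | h
    · rw [h, mul_one] at hnnK2
      rw [← hmK]
      have : ((eK ^ 2 : ℕ) : ℂ) = ((c ^ 2 : ℕ) : ℂ) := by rw [hnnK2]; push_cast; ring
      exact_mod_cast this
    · exfalso
      apply hbad
      rw [h] at hnnK2
      rw [← hmK]
      have : ((eK ^ 2 : ℕ) : ℂ) = ((c ^ 2 * K.relIndex N : ℕ) : ℂ) := by
        rw [hnnK2]; push_cast; ring
      exact_mod_cast this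
  -- the good case
  have hCR : C ≤ N ⊓ H := le_inf (hCK.le.trans hKN.le) hCH
  have hstarN := classInner_restrict_indFun_eq H N (N ⊓ H) hsupN rfl inf_le_right ϑ
  rw [← hχdef, hnnN, ← hgood] at hstarN
  set ϑR : (N ⊓ H : Subgroup G) → ℂ := fun x => ϑ ⟨(x : G), (inf_le_right : N ⊓ H ≤ H) x.2⟩
    with hϑRdef
  have hϑR : IsIrrCharacter (N ⊓ H : Subgroup G) ϑR :=
    isIrrCharacter_comp_of_comp (Subgroup.inclusion (inf_le_right : N ⊓ H ≤ H))
      (Subgroup.inclusion hCR) hϑchar hϑC
  have hχRchar : IsCharacter (N ⊓ H : Subgroup G) (fun x : (N ⊓ H : Subgroup G) => χ x) :=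
    isCharacter_restrict (N ⊓ H) hχchar
  have hinner : classInner (fun x : (N ⊓ H : Subgroup G) => χ x) ϑR = (m : ℂ) := by
    rw [← classInner_conj_symm, ← hstarN, Complex.conj_natCast]
  have hdeg : (fun x : (N ⊓ H : Subgroup G) => χ x) 1 = (m : ℂ) * ϑR 1 := by
    show χ ((1 : (N ⊓ H : Subgroup G)) : G) = (m : ℂ) * ϑ ⟨((1 : (N ⊓ H : Subgroup G)) : G), _⟩
    exact hχ1
  have hχR := eq_nsmul_of_classInner_eq hχRchar hϑR m hinner hdeg
  have hnnR := nn_of_smul m hϑR hχR
  -- dimensions of commutants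
  have hfR : finrank ℂ (commSub ρ (N ⊓ H).subtype) = m ^ 2 := by
    have := finrank_commSub_subtype ρ hρχ (N ⊓ H)
    rw [hnnR] at this
    exact_mod_cast this
  have hfC : finrank ℂ (commSub ρ C.subtype) = m ^ 2 := by
    have := finrank_commSub_subtype ρ hρχ C
    rw [hnnC, heC] at this
    exact_mod_cast this
  have hfK : finrank ℂ (commSub ρ K.subtype) = m := by
    have := finrank_commSub_subtype ρ hρχ K
    rw [hnnK, hmK] at this
    exact_mod_cast this
  have hle : commSub ρ (N ⊓ H).subtype ≤ commSub ρ C.subtype := commSub_subtype_anti ρ hCR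
  have heq : commSub ρ (N ⊓ H).subtype = commSub ρ C.subtype :=
    Submodule.eq_of_le_of_finrank_eq hle (by rw [hfR, hfC])
  have hRS : N ⊓ H ≤ commStab ρ C := le_commStab_of_commSub_le ρ C (N ⊓ H) heq.ge
  have hSn : (commStab ρ C).Normal := commStab_normal ρ C
  have hKS : K ≤ commStab ρ C := by
    have hn : (commStab ρ C ⊓ K).Normal := Subgroup.normal_inf_normal _ _
    rcases hchiefK (commStab ρ C ⊓ K) hn (le_inf (hCR.trans hRS) hCK.le) inf_le_right with h | h
    · exfalso
      apply qp_not_comm H K N hsupK hCK.le hKN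
      intro k hk r hr
      have hrS : r ∈ commStab ρ C := hRS hr
      have h1 : k * r * k⁻¹ * r⁻¹ ∈ commStab ρ C :=
        (commStab ρ C).mul_mem (hSn.conj_mem r hrS k) ((commStab ρ C).inv_mem hrS)
      have h2 : k * r * k⁻¹ * r⁻¹ ∈ K := by
        have : k * r * k⁻¹ * r⁻¹ = k * (r * k⁻¹ * r⁻¹) := by group
        rw [this]
        exact K.mul_mem hk (hKn.conj_mem k⁻¹ (K.inv_mem hk) r)
      have h3 : k * r * k⁻¹ * r⁻¹ ∈ commStab ρ C ⊓ K := ⟨h1, h2⟩
      rw [h] at h3
      exact h3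
    · rw [← h]; exact inf_le_left
  have hle2 : commSub ρ C.subtype ≤ commSub ρ K.subtype := commSub_le_of_le_commStab ρ C K hKS
  have hfin := Submodule.finrank_mono hle2
  rw [hfC, hfK] at hfin
  -- m ^ 2 ≤ m with m ≥ 2
  have hm2 : 2 ≤ m := by omega
  nlinarith

end

/-- Let L ≤ H < G with L normal in G, H a maximal subgroup and G / L solvable. Let ϑ be an irreducible character of H whose restriction to L is irreducible and whose induction χ to G is irreducible. Then there is a normal subgroup M of G containing L such that the restriction of χ to M is not a natural-number multiple of a single irreducible character of M. -/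
theorem result {G : Type*} [Group G] [Fintype G] (L H : Subgroup G) [L.Normal] (hLH : L ≤ H) (hmax : IsCoatom H) (hsolv : Group.IsSolvable (G ⧸ L)) (ϑ : H → ℂ) (hϑ : Cfsg.IsIrrCharacter H ϑ) (hϑL : Cfsg.IsIrrCharacter L (fun x : L => ϑ ⟨(x : G), hLH x.2⟩)) (hind : Cfsg.IsIrrCharacter G (Cfsg.indFun H ϑ)) : ∃ M : Subgroup G, M.Normal ∧ L ≤ M ∧ ¬ ∃ (φ : M → ℂ) (e : ℕ), Cfsg.IsIrrCharacter M φ ∧ (fun m : M => Cfsg.indFun H ϑ m) = (e : ℂ) • φ := by
  by_contra hcon
  push Not at hcon
  exact core L H hLH hmax hsolv ϑ hϑ hϑL hind (fun M hM hLM => hcon M hM hLM)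

end Cfsg.Agent.S0890
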