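import Cfsg.Statements.S1479
import Mathlib
import Cfsg.Agent.Lib.Helper45.CNMax

set_option autoImplicit false
open Cfsg

namespace Cfsg.Agent.S1479

open Cfsg.Agent.Helper45.MaxNilp Cfsg.Agent.Helper45.CNMax Cfsg.Agent.Helper45.CNSimple

/-- Let G be a minimal simple group of odd order in which every non-identity element has nilpotent centralizer, and H a nilpotent subgroup contained in no larger nilpotent subgroup. Then the order of H is coprime to its index, H ∩ gHg⁻¹ = 1 whenever gHg⁻¹ ≠ H, N_G(H) is a maximal subgroup, and N_G(H) has a complement E to H acting on H without non-identity fixed points. Conversely, every maximal subgroup M of G has a normal nilpotent subgroup H, maximal among nilpotent subgroups of G, with a complement in M acting on H without non-identity fixed points. -/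
theorem result {G : Type*} [Group G] [Finite G] (hG : Cfsg.IsMinSimpleOddOrder G) (hCN : Cfsg.IsCNGroup G)  :
    (∀ H : Subgroup G, Group.IsNilpotent H → (∀ L : Subgroup G, Group.IsNilpotent L → H ≤ L → L = H) →
        (Nat.card H).Coprime H.index ∧ (∀ g : G, H.map (MulAut.conj g).toMonoidHom ≠ H → H ⊓ H.map (MulAut.conj g).toMonoidHom = ⊥) ∧
        IsCoatom (Subgroup.normalizer (H : Set G)) ∧
        ∃ E : Subgroup G, Cfsg.IsComplIn H E (Subgroup.normalizer (H : Set G)) ∧ E ≠ ⊥ ∧
          ∀ e ∈ E, e ≠ 1 → H ⊓ Subgroup.centralizer ({e} : Set G) = ⊥) ∧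
      ∀ M : Subgroup G, IsCoatom M → ∃ H E : Subgroup G, Group.IsNilpotent H ∧ (∀ L : Subgroup G, Group.IsNilpotent L → H ≤ L → L = H) ∧
        M ≤ Subgroup.normalizer (H : Set G) ∧ Cfsg.IsComplIn H E M ∧ H ≠ ⊥ ∧ E ≠ ⊥ ∧
        ∀ e ∈ E, e ≠ 1 → H ⊓ Subgroup.centralizer ({e} : Set G) = ⊥ := by
  constructor
  · intro H hHnil hHmax
    have hH : IsMaxNilp H := ⟨hHnil, hHmax⟩
    obtain ⟨M, hM, hHM⟩ := maxNilp_eq_fittingHallOf hG hCN hH
    obtain ⟨E, -, hle, hcompl, hF1, hE1, hfpf⟩ := coatom_structure hG hCN hM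
    rw [← hHM] at hle hcompl hF1 hfpf
    have hHtop : H ≠ ⊤ := by
      intro h
      rw [h] at hHnil
      have : Group.IsNilpotent G := Group.nilpotent_of_mulEquiv Subgroup.topEquiv
      exact not_solvable hG inferInstance
    have hN : Subgroup.normalizer (H : Set G) = M := normalizer_eq_of_coatom hG hM hF1 hHtop hle
    refine ⟨(Cfsg.Agent.S1477.result hCN H hHnil hHmax).1, maxNilp_ti hG hCN hH, ?_, E, ?_, hE1, hfpf⟩
    · rw [hN]
      exact hM
    · rw [hN]
      exact hcompl
  · intro M hM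
    obtain ⟨E, hmax, hle, hcompl, hF1, hE1, hfpf⟩ := coatom_structure hG hCN hM
    exact ⟨Cfsg.fittingHallOf M, E, hmax.1, hmax.2, hle, hcompl, hF1, hE1, hfpf⟩

end Cfsg.Agent.S1479
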