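import Cfsg.Statements.S1483
import Mathlib
import Cfsg.Agent.Lib.Helper45.CNMaxNilp

set_option autoImplicit false
open Cfsg

namespace Cfsg.Agent.S1483

open Cfsg.Agent.Helper45.MaxNilp Cfsg.Agent.Helper45.Nilp

/-- Let G be a minimal simple group of odd order in which every non-identity element has nilpotent centralizer. Then any two nilpotent subgroups each contained in no larger nilpotent subgroup are either conjugate or of coprime orders; and for primes p, q, r: if some elements x, y ≠ 1 of p-power and q-power order commute, and some elements y', z ≠ 1 of q-power and r-power order commute, then some elements of p-power and r-power order, both ≠ 1, commute. -/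
theorem result {G : Type*} [Group G] [Finite G] (hG : Cfsg.IsMinSimpleOddOrder G) (hCN : Cfsg.IsCNGroup G) :
    (∀ H₁ H₂ : Subgroup G, (Group.IsNilpotent ↥H₁ ∧ ∀ L : Subgroup G, Group.IsNilpotent L → H₁ ≤ L → L = H₁) → (Group.IsNilpotent ↥H₂ ∧ ∀ L : Subgroup G, Group.IsNilpotent L → H₂ ≤ L → L = H₂) → (∃ g : G, H₂ = H₁.map (MulAut.conj g).toMonoidHom) ∨ (Nat.card H₁).Coprime (Nat.card H₂)) ∧
      ∀ (p q r : ℕ), p.Prime → q.Prime → r.Prime → ∀ (x y y' z : G), x ≠ 1 → y ≠ 1 → y' ≠ 1 → z ≠ 1 →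
        IsPGroup p (Subgroup.zpowers x) → IsPGroup q (Subgroup.zpowers y) → IsPGroup q (Subgroup.zpowers y') → IsPGroup r (Subgroup.zpowers z) →
        x * y = y * x → y' * z = z * y' →
        ∃ x' z' : G, x' ≠ 1 ∧ z' ≠ 1 ∧ IsPGroup p (Subgroup.zpowers x') ∧ IsPGroup r (Subgroup.zpowers z') ∧ x' * z' = z' * x' := by
  have part1 : ∀ H₁ H₂ : Subgroup G, IsMaxNilp H₁ → IsMaxNilp H₂ →
      (∃ g : G, H₂ = H₁.map (MulAut.conj g).toMonoidHom) ∨
        (Nat.card H₁).Coprime (Nat.card H₂) := by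
    intro H₁ H₂ h₁ h₂
    by_cases hc : (Nat.card H₁).Coprime (Nat.card H₂)
    · exact Or.inr hc
    · left
      obtain ⟨r, hr, hr₁, hr₂⟩ := Nat.Prime.not_coprime_iff_dvd.mp hc
      exact conj_of_common_prime hCN h₁ h₂ hr hr₁ hr₂
  refine ⟨part1, ?_⟩
  intro p q r hp hq hr x y y' z hx1 hy1 hy'1 hz1 hxp hyq hy'q hzr hxy hy'z
  have hpF : Fact p.Prime := ⟨hp⟩
  have hqF : Fact q.Prime := ⟨hq⟩
  have hrF : Fact r.Prime := ⟨hr⟩
  by_cases hpr : p = r
  · exact ⟨x, x, hx1, hx1, hxp, hpr ▸ hxp, rfl⟩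
  obtain ⟨i, hi⟩ := orderOf_of_isPGroup_zpowers hxp
  obtain ⟨j, hj⟩ := orderOf_of_isPGroup_zpowers hyq
  obtain ⟨j', hj'⟩ := orderOf_of_isPGroup_zpowers hy'q
  obtain ⟨k, hk⟩ := orderOf_of_isPGroup_zpowers hzr
  obtain ⟨H₁, h₁, hxH, hyH⟩ := exists_maxNilp_of_commute hCN hx1 hxy
  obtain ⟨H₂, h₂, hy'H, hzH⟩ := exists_maxNilp_of_commute hCN hy'1 hy'z
  obtain ⟨g, hg⟩ := conj_of_common_prime hCN h₁ h₂ hq (dvd_card_of_mem hyH hy1 hj)
    (dvd_card_of_mem hy'H hy'1 hj')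
  rw [hg] at hzH
  obtain ⟨z₀, hz₀H, hz₀⟩ := Subgroup.mem_map.mp hzH
  have hz₀' : g * z₀ * g⁻¹ = z := hz₀
  have hz₀1 : z₀ ≠ 1 := by
    intro h
    apply hz1
    rw [← hz₀', h]
    group
  have hz₀o : orderOf z₀ = r ^ k := by
    rw [← hk, ← hz₀', ← MulAut.conj_apply]
    exact (MulEquiv.orderOf_eq _ _).symm
  have hnil := h₁.1
  have hc : Commute (⟨x, hxH⟩ : H₁) ⟨z₀, hz₀H⟩ :=
    commute_of_pp hp hr hpr (by rw [Subgroup.orderOf_mk, hi]) (by rw [Subgroup.orderOf_mk, hz₀o])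
  refine ⟨x, z₀, hx1, hz₀1, hxp, ?_, congrArg Subtype.val hc.eq⟩
  apply IsPGroup.of_card (n := k)
  rw [Nat.card_zpowers, hz₀o]

end Cfsg.Agent.S1483
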