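import Cfsg.Statements.S4127
import Mathlib
-- import your own Cfsg.Agent.* helpers here

set_option autoImplicit false
open Cfsg

namespace Cfsg.Agent.S4127

variable {G : Type*} [Group G]

/-- Uniform exponents extracting the `p`-part and the `p'`-part. -/
theorem exists_exponents (N p : ℕ) (hp : p.Prime) (hN : N ≠ 0) :
    ∃ e f : ℕ, (N / p ^ N.factorization p) ∣ e ∧ p ^ N.factorization p ∣ f ∧
      (e + f) ≡ 1 [MOD N] := by
  have hcop : (p ^ N.factorization p).Coprime (N / p ^ N.factorization p) :=
    Nat.Coprime.pow_left _ (Nat.coprime_ordCompl hp hN)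
  obtain ⟨e, he1, he0⟩ := Nat.chineseRemainder hcop 1 0
  obtain ⟨f, hf0, hf1⟩ := Nat.chineseRemainder hcop 0 1
  refine ⟨e, f, (Nat.modEq_zero_iff_dvd).mp he0, (Nat.modEq_zero_iff_dvd).mp hf0, ?_⟩
  have h1 : (e + f) ≡ 1 [MOD p ^ N.factorization p] := by
    have := Nat.ModEq.add he1 hf0
    simpa using this
  have h2 : (e + f) ≡ 1 [MOD N / p ^ N.factorization p] := by
    have := Nat.ModEq.add he0 hf1
    simpa using this
  have := (Nat.modEq_and_modEq_iff_modEq_mul hcop).mp ⟨h1, h2⟩
  rwa [Nat.ordProj_mul_ordCompl_eq_self] at this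

open Classical in
/-- A finite group is not the union of the conjugates of a proper subgroup. -/
theorem eq_top_of_conj_cover [Finite G] (H : Subgroup G)
    (hcover : ∀ g : G, ∃ c : G, c⁻¹ * g * c ∈ H) : H = ⊤ := by
  have := Fintype.ofFinite G
  have := Fintype.ofFinite (G ⧸ H)
  have := Fintype.ofFinite H
  rw [← Subgroup.index_eq_one]
  -- surjection from (G/H × (H \ {1})) ⊕ Unit
  let φ : (G ⧸ H) × H → G := fun w => (Quotient.out w.1) * (w.2 : G) * (Quotient.out w.1)⁻¹
  set T : Finset ((G ⧸ H) × H) := Finset.univ ×ˢ (Finset.univ.erase (1 : H)) with hT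
  have hsurj : (Finset.univ : Finset G) ⊆ insert 1 (T.image φ) := by
    intro g _
    by_cases hg1 : g = 1
    · rw [hg1]; exact Finset.mem_insert_self _ _
    · apply Finset.mem_insert_of_mem
      obtain ⟨c, hc⟩ := hcover g
      have hout : (Quotient.out (QuotientGroup.mk c : G ⧸ H))⁻¹ * c ∈ H := by
        rw [← QuotientGroup.eq]
        exact Quotient.out_eq' _
      set o := Quotient.out (QuotientGroup.mk c : G ⧸ H) with ho
      have hmem : o⁻¹ * g * o ∈ H := by
        have h1 := H.mul_mem (H.mul_mem hout hc) (H.inv_mem hout)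
        have e : o⁻¹ * c * (c⁻¹ * g * c) * (o⁻¹ * c)⁻¹ = o⁻¹ * g * o := by group
        rwa [e] at h1
      rw [Finset.mem_image]
      refine ⟨((QuotientGroup.mk c : G ⧸ H), ⟨o⁻¹ * g * o, hmem⟩), ?_, ?_⟩
      · rw [hT, Finset.mem_product]
        refine ⟨Finset.mem_univ _, ?_⟩
        rw [Finset.mem_erase]
        refine ⟨?_, Finset.mem_univ _⟩
        intro h1
        apply hg1
        have h2 : o⁻¹ * g * o = 1 := congrArg Subtype.val h1
        have e : g = o * (o⁻¹ * g * o) * o⁻¹ := by group
        rw [e, h2]; group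
      · show o * (o⁻¹ * g * o) * o⁻¹ = g
        group
  have hcard := Finset.card_le_card hsurj
  have h2 : (insert 1 (T.image φ)).card ≤ T.card + 1 :=
    (Finset.card_insert_le _ _).trans (Nat.add_le_add_right Finset.card_image_le 1)
  have h3 : T.card = H.index * (Nat.card H - 1) := by
    rw [hT, Finset.card_product, Finset.card_univ, Finset.card_erase_of_mem (Finset.mem_univ _),
      Finset.card_univ, ← Nat.card_eq_fintype_card, ← Nat.card_eq_fintype_card]
    rfl
  rw [Finset.card_univ, ← Nat.card_eq_fintype_card] at hcard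
  have h4 : Nat.card G = H.index * Nat.card H := by
    rw [mul_comm]; exact (Subgroup.card_mul_index H).symm
  have hHpos : 1 ≤ Nat.card H := Nat.card_pos
  have hipos : 1 ≤ H.index := Nat.pos_of_ne_zero Subgroup.index_ne_zero_of_finite
  obtain ⟨m, hm⟩ : ∃ m, Nat.card H = m + 1 := ⟨Nat.card H - 1, by omega⟩
  rw [hm] at h3 h4
  have e : m + 1 - 1 = m := by omega
  rw [e] at h3
  have h5 : H.index * (m + 1) ≤ H.index * m + 1 := by
    calc H.index * (m + 1) = Nat.card G := h4.symm
      _ ≤ (insert 1 (T.image φ)).card := hcard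
      _ ≤ T.card + 1 := h2
      _ = H.index * m + 1 := by rw [h3]
  nlinarith

open Classical in
/-- If `|P| * |C| = |G| * |P ⊓ C|`, then `G = P * C`. -/
theorem exists_mul_of_card [Finite G] (P C : Subgroup G)
    (h : Nat.card P * Nat.card C = Nat.card G * Nat.card ↥(P ⊓ C)) :
    ∀ g : G, ∃ u ∈ P, ∃ c ∈ C, g = u * c := by
  have := Fintype.ofFinite G
  set PF : Finset G := Finset.univ.filter (fun k => k ∈ P) with hPF
  set CF : Finset G := Finset.univ.filter (fun d => d ∈ C) with hCF
  set DF : Finset G := Finset.univ.filter (fun d => d ∈ P ⊓ C) with hDF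
  set T : Finset (G × G) := PF ×ˢ CF with hT
  set f : G × G → G := fun x => x.1 * x.2 with hf
  have hPFcard : PF.card = Nat.card P := by
    rw [Nat.card_eq_fintype_card, Fintype.card_subtype]
  have hCFcard : CF.card = Nat.card C := by
    rw [Nat.card_eq_fintype_card, Fintype.card_subtype]
  have hDFcard : DF.card = Nat.card ↥(P ⊓ C) := by
    rw [Nat.card_eq_fintype_card, Fintype.card_subtype]
  have hfib : ∀ b ∈ T.image f, (T.filter (fun a => f a = b)).card ≤ DF.card := by
    intro b hb
    obtain ⟨⟨u0, c0⟩, hu0, rfl⟩ := Finset.mem_image.mp hb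
    simp only [hT, hPF, hCF, Finset.mem_product, Finset.mem_filter, Finset.mem_univ,
      true_and] at hu0
    apply Finset.card_le_card_of_injOn (fun x => u0⁻¹ * x.1)
    · intro x hx
      simp only [Finset.coe_filter, hT, hPF, hCF, Finset.mem_product, Finset.mem_filter,
        Finset.mem_univ, true_and, Set.mem_ofPred_eq] at hx
      obtain ⟨⟨hxP, hxC⟩, hfx⟩ := hx
      simp only [hDF, Finset.coe_filter, Finset.mem_univ, true_and, Set.mem_ofPred_eq]
      refine ⟨P.mul_mem (P.inv_mem hu0.1) hxP, ?_⟩
      have hfx' : x.1 * x.2 = u0 * c0 := hfx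
      have e : u0⁻¹ * x.1 = c0 * x.2⁻¹ := by
        have : u0⁻¹ * (x.1 * x.2) * x.2⁻¹ = u0⁻¹ * (u0 * c0) * x.2⁻¹ := by rw [hfx']
        have e1 : u0⁻¹ * (x.1 * x.2) * x.2⁻¹ = u0⁻¹ * x.1 := by group
        have e2 : u0⁻¹ * (u0 * c0) * x.2⁻¹ = c0 * x.2⁻¹ := by group
        rw [e1, e2] at this
        exact this
      rw [e]
      exact C.mul_mem hu0.2 (C.inv_mem hxC)
    · intro x hx y hy hxy
      simp only [Finset.coe_filter, Set.mem_ofPred_eq] at hx hy
      have h1 : x.1 = y.1 := mul_left_cancel hxy
      have hfx : x.1 * x.2 = u0 * c0 := hx.2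
      have hfy : y.1 * y.2 = u0 * c0 := hy.2
      have h2 : x.2 = y.2 := by
        rw [← hfy, h1] at hfx
        exact mul_left_cancel hfx
      exact Prod.ext h1 h2
  have h1 := Finset.card_le_mul_card_image T DF.card hfib
  rw [hT, Finset.card_product, hPFcard, hCFcard, hDFcard, h, mul_comm (Nat.card G)] at h1
  have h2 : Nat.card G ≤ (Finset.image f (PF ×ˢ CF)).card :=
    Nat.le_of_mul_le_mul_left h1 Nat.card_pos
  have h3 : Finset.image f (PF ×ˢ CF) = Finset.univ := by
    apply Finset.eq_univ_of_card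
    apply le_antisymm (Finset.card_le_univ _)
    rw [← Nat.card_eq_fintype_card]
    exact h2
  intro g
  have hg : g ∈ Finset.image f (PF ×ˢ CF) := by rw [h3]; exact Finset.mem_univ _
  obtain ⟨⟨u, c⟩, huc, rfl⟩ := Finset.mem_image.mp hg
  simp only [hPF, hCF, Finset.mem_product, Finset.mem_filter, Finset.mem_univ, true_and] at huc
  exact ⟨u, huc.1, c, huc.2, rfl⟩

/-- Lemma A: a `p`-element `u` commuting with `y`, where the class of `y` has size prime to `p`,
lies in a Sylow `p`-subgroup of `L` that is centralized by `y`. -/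
theorem exists_sylow_mem_le_centralizer {L : Type*} [Group L] [Finite L] (p : ℕ) [Fact p.Prime]
    (y u : L) (h : ¬ p ∣ (Subgroup.centralizer ({y} : Set L)).index)
    (hu : u ∈ Subgroup.centralizer ({y} : Set L)) (hup : ∃ n : ℕ, u ^ (p ^ n) = 1) :
    ∃ T : Sylow p L, (T : Subgroup L) ≤ Subgroup.centralizer ({y} : Set L) ∧ u ∈ T := by
  set Cy := Subgroup.centralizer ({y} : Set L) with hCy
  obtain ⟨n, hn⟩ := hup
  have hZ : IsPGroup p (Subgroup.zpowers (⟨u, hu⟩ : ↥Cy)) := by
    have h1 : (⟨u, hu⟩ : ↥Cy) ^ (p ^ n) = 1 := Subtype.ext (by simpa using hn)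
    obtain ⟨k, -, hk⟩ := (Nat.dvd_prime_pow Fact.out).mp (orderOf_dvd_of_pow_eq_one h1)
    exact IsPGroup.of_card (n := k) (by rw [Nat.card_zpowers, hk])
  obtain ⟨Q, hQ⟩ := hZ.exists_le_sylow
  have hmapP : IsPGroup p ((Q : Subgroup ↥Cy).map Cy.subtype) := Q.isPGroup'.map _
  have hidx : ¬ p ∣ ((Q : Subgroup ↥Cy).map Cy.subtype).index := by
    rw [Subgroup.index_map_subtype]
    intro hd
    rcases (Nat.Prime.dvd_mul Fact.out).mp hd with h1 | h1
    · exact Q.not_dvd_index h1
    · exact h h1
  refine ⟨hmapP.toSylow hidx, ?_, ?_⟩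
  · rw [IsPGroup.toSylow_coe]
    exact Subgroup.map_subtype_le _
  · show u ∈ ((Q : Subgroup ↥Cy).map Cy.subtype)
    rw [Subgroup.mem_map]
    exact ⟨⟨u, hu⟩, hQ (Subgroup.mem_zpowers _), rfl⟩

/-- An element commuting with every element of `H` normalizes `H`. -/
theorem mem_normalizer_of_commute {L : Type*} [Group L] (H : Subgroup L) (g : L)
    (hg : ∀ t ∈ H, g * t = t * g) : g ∈ Subgroup.normalizer (H : Set L) := by
  rw [Subgroup.mem_set_normalizer_iff]
  intro t
  constructor
  · intro ht
    have e1 : g * t * g⁻¹ = t := by rw [hg t ht]; group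
    rw [e1]; exact ht
  · intro ht
    have h1 := hg _ ht
    have e1 : t = g⁻¹ * ((g * t * g⁻¹) * g) := by group
    rw [e1, ← h1]
    have e2 : g⁻¹ * (g * (g * t * g⁻¹)) = g * t * g⁻¹ := by group
    rw [e2]; exact ht

/-- Camina-type lemma: if all `p'`-elements have class size prime to `p`, then the group is
`S × K` with `S` a Sylow `p`-subgroup. -/
theorem camina {L : Type*} [Group L] [Finite L] (p : ℕ) [Fact p.Prime]
    (h : ∀ y : L, (orderOf y).Coprime p → ¬ p ∣ (Subgroup.centralizer ({y} : Set L)).index) :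
    ∃ K : Subgroup L, K.Normal ∧ (Nat.card K).Coprime p ∧ (∃ n : ℕ, K.index = p ^ n) ∧
      ∀ (S : Sylow p L), ∀ s ∈ S, ∀ k ∈ K, s * k = k * s := by
  have hp : p.Prime := Fact.out
  obtain ⟨S⟩ : Nonempty (Sylow p L) := inferInstance
  have hN0 : Nat.card L ≠ 0 := Nat.card_pos.ne'
  -- Step 1 : the normalizer of `S` is everything
  have hNtop : Subgroup.normalizer (S : Set L) = ⊤ := by
    apply eq_top_of_conj_cover
    intro g
    obtain ⟨e, f, he, hf, hef⟩ := exists_exponents (Nat.card L) p hp hN0
    set v := (Nat.card L).factorization p with hv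
    have hgef : g ^ e * g ^ f = g := by
      rw [← pow_add]
      have h1 : (e + f) ≡ 1 [MOD orderOf g] := hef.of_dvd (orderOf_dvd_natCard g)
      have h2 := (pow_eq_pow_iff_modEq).mpr h1
      rwa [pow_one] at h2
    have hu : (g ^ e) ^ (p ^ v) = 1 := by
      rw [← pow_mul]
      apply orderOf_dvd_iff_pow_eq_one.mp
      apply (orderOf_dvd_natCard g).trans
      calc Nat.card L = (Nat.card L / p ^ v) * p ^ v :=
            (Nat.div_mul_cancel (Nat.ordProj_dvd _ _)).symm
        _ ∣ e * p ^ v := Nat.mul_dvd_mul_right he _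
    have hy : (orderOf (g ^ f)).Coprime p := by
      have h1 : (g ^ f) ^ (Nat.card L / p ^ v) = 1 := by
        rw [← pow_mul]
        apply orderOf_dvd_iff_pow_eq_one.mp
        apply (orderOf_dvd_natCard g).trans
        calc Nat.card L = p ^ v * (Nat.card L / p ^ v) :=
              (Nat.mul_div_cancel' (Nat.ordProj_dvd _ _)).symm
          _ ∣ f * (Nat.card L / p ^ v) := Nat.mul_dvd_mul_right hf _
      have h2 := orderOf_dvd_of_pow_eq_one h1
      exact Nat.Coprime.coprime_dvd_left h2 (Nat.coprime_ordCompl hp hN0).symm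
    have hcomm : g ^ e ∈ Subgroup.centralizer ({g ^ f} : Set L) := by
      rw [Subgroup.mem_centralizer_singleton_iff, ← pow_add, ← pow_add, add_comm]
    obtain ⟨T, hT1, hT2⟩ :=
      exists_sylow_mem_le_centralizer p (g ^ f) (g ^ e) (h _ hy) hcomm ⟨v, hu⟩
    have hgT : g ∈ Subgroup.normalizer (T : Set L) := by
      rw [← hgef]
      apply Subgroup.mul_mem
      · exact Subgroup.le_normalizer hT2
      · apply mem_normalizer_of_commute
        intro t ht
        exact (Subgroup.mem_centralizer_singleton_iff.mp (hT1 ht)).symm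
    obtain ⟨c, hc⟩ := MulAction.exists_smul_eq L S T
    refine ⟨c, ?_⟩
    rw [← Sylow.smul_eq_iff_mem_normalizer] at hgT ⊢
    rw [← hc] at hgT
    rw [mul_smul, mul_smul, hgT, inv_smul_smul]
  have hSn : (S : Subgroup L).Normal := Subgroup.normalizer_eq_top_iff.mp hNtop
  have huniq : ∀ T : Sylow p L, T = S := by
    intro T
    obtain ⟨c, hc⟩ := MulAction.exists_smul_eq L S T
    rw [← hc]
    exact Sylow.smul_eq_of_normal
  -- Step 2 : a complement
  obtain ⟨K, hK⟩ := Subgroup.exists_right_complement'_of_coprime (N := (S : Subgroup L))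
    S.card_coprime_index
  have hKcard : Nat.card K = (S : Subgroup L).index := by
    have h1 := hK.card_mul_card
    have h2 := (S : Subgroup L).card_mul_index
    rw [← h2] at h1
    exact Nat.eq_of_mul_eq_mul_left Nat.card_pos h1
  have hKcop : (Nat.card K).Coprime p := by
    rw [hKcard]
    exact ((Nat.Prime.coprime_iff_not_dvd hp).mpr S.not_dvd_index).symm
  have hKidx : K.index = Nat.card (S : Subgroup L) := by
    have h1 := hK.card_mul_card
    have h2 := K.card_mul_index
    rw [← h2, mul_comm] at h1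
    exact (Nat.eq_of_mul_eq_mul_left Nat.card_pos h1).symm
  -- Step 3 : `K` centralizes `S`
  have hcent : ∀ s ∈ S, ∀ k ∈ K, s * k = k * s := by
    intro s hs k hk
    have hord : (orderOf k).Coprime p := by
      apply Nat.Coprime.coprime_dvd_left _ hKcop
      have := orderOf_dvd_natCard (⟨k, hk⟩ : ↥K)
      rwa [Subgroup.orderOf_mk] at this
    obtain ⟨T, hT1, -⟩ := exists_sylow_mem_le_centralizer p k 1 (h _ hord)
      (Subgroup.one_mem _) ⟨0, by simp⟩
    rw [huniq T] at hT1
    exact Subgroup.mem_centralizer_singleton_iff.mp (hT1 hs)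
  refine ⟨K, ?_, hKcop, ⟨(Nat.card L).factorization p, ?_⟩, ?_⟩
  · rw [← Subgroup.normalizer_eq_top_iff, eq_top_iff, ← hK.sup_eq_top]
    apply sup_le
    · intro s hs
      apply mem_normalizer_of_commute
      intro k hk
      exact hcent s hs k hk
    · exact Subgroup.le_normalizer
  · rw [hKidx]; exact S.card_eq_multiplicity
  · intro T s hs k hk
    rw [huniq T] at hs
    exact hcent s hs k hk

open scoped commutatorElement

/-- In a nilpotent subgroup `P`, iterated commutation with `x ∈ P` kills every `v ∈ P`. -/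
theorem exists_iterate_eq_one (P : Subgroup G) [hP : Group.IsNilpotent P] (x v : G) (hx : x ∈ P)
    (hv : v ∈ P) : ∃ m : ℕ, (fun w : G => ⁅w, x⁆)^[m] v = 1 := by
  obtain ⟨n, hn⟩ := (Subgroup.isNilpotent_iff_lowerCentralSeries P).mp hP
  refine ⟨n, ?_⟩
  have key : ∀ m : ℕ, (fun w : G => ⁅w, x⁆)^[m] v ∈ P.lowerCentralSeries m := by
    intro m
    induction m with
    | zero => exact hv
    | succ m ih =>
      rw [Function.iterate_succ_apply', Subgroup.lowerCentralSeries_succ]
      exact Subgroup.commutator_mem_commutator ih hx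
  have h1 := key n
  rw [hn, Subgroup.mem_bot] at h1
  exact h1

/-- Thompson-type lemma (element version). -/
theorem commute_of_iterate (x y : G) (N : Subgroup G) [hN : N.Normal] (hxy : x * y = y * x)
    (hD : ∀ d ∈ N, d * x = x * d → d * y = y * d)
    (hcop : ∀ d ∈ N, (orderOf d).Coprime (orderOf y)) :
    ∀ m : ℕ, ∀ v ∈ N, (fun w : G => ⁅w, x⁆)^[m] v = 1 → v * y = y * v := by
  intro m
  induction m with
  | zero =>
    intro v _ hv1
    have : v = 1 := hv1
    rw [this, one_mul, mul_one]
  | succ m ih =>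
    intro v hv hv1
    rw [Function.iterate_succ_apply] at hv1
    set w : G := ⁅v, x⁆ with hw
    have hwN : w ∈ N := by
      have e : w = v * (x * v⁻¹ * x⁻¹) := by rw [hw, commutatorElement_def]; group
      rw [e]
      exact N.mul_mem hv (hN.conj_mem _ (N.inv_mem hv) x)
    have hwy : w * y = y * w := ih w hwN hv1
    set v' : G := y * v * y⁻¹ with hv'
    have hv'N : v' ∈ N := hN.conj_mem _ hv y
    have hcomm' : ⁅v', x⁆ = w := by
      have h1 : MulAut.conj y x = x := by
        rw [MulAut.conj_apply, ← hxy]; group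
      have h2 : MulAut.conj y v = v' := by rw [MulAut.conj_apply]
      have h3 : MulAut.conj y w = w := by
        rw [MulAut.conj_apply, ← hwy]; group
      rw [← h2, ← h3, hw, map_commutatorElement, h1]
    have h3 : v' * x * v'⁻¹ = v * x * v⁻¹ := by
      have h4 : v' * x * v'⁻¹ * x⁻¹ = v * x * v⁻¹ * x⁻¹ := by
        rw [← commutatorElement_def, ← commutatorElement_def, hcomm']
      exact mul_right_cancel h4
    set d : G := v⁻¹ * v' with hd
    have hdN : d ∈ N := N.mul_mem (N.inv_mem hv) hv'N
    have hdx : d * x = x * d := by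
      calc d * x = v⁻¹ * (v' * x * v'⁻¹) * v' := by rw [hd]; group
        _ = v⁻¹ * (v * x * v⁻¹) * v' := by rw [h3]
        _ = x * d := by rw [hd]; group
    have hdy : d * y = y * d := hD d hdN hdx
    have hyv : y * v = v * d * y := by
      rw [hd, hv']; group
    have hpow : ∀ j : ℕ, y ^ j * v = v * d ^ j * y ^ j := by
      intro j
      induction j with
      | zero => simp
      | succ j ihj =>
        have hc : y * d ^ j = d ^ j * y := by
          have : Commute d y := hdy
          exact (this.pow_left j).eq.symm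
        rw [pow_succ' y j, pow_succ' d j]
        generalize d ^ j = dj at ihj hc ⊢
        generalize y ^ j = yj at ihj ⊢
        calc y * yj * v = y * (yj * v) := by group
          _ = y * (v * dj * yj) := by rw [ihj]
          _ = (y * v) * dj * yj := by group
          _ = (v * d * y) * dj * yj := by rw [hyv]
          _ = v * d * (y * dj) * yj := by group
          _ = v * d * (dj * y) * yj := by rw [hc]
          _ = v * (d * dj) * (y * yj) := by group
    have h5 := hpow (orderOf y)
    rw [pow_orderOf_eq_one, one_mul, mul_one] at h5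
    have h6 : d ^ orderOf y = 1 := by
      have : v * 1 = v * d ^ orderOf y := by rw [mul_one]; exact h5
      exact (mul_left_cancel this).symm
    have h7 : orderOf d = 1 :=
      Nat.Coprime.eq_one_of_dvd (hcop d hdN) (orderOf_dvd_of_pow_eq_one h6)
    have h8 : d = 1 := orderOf_eq_one_iff.mp h7
    rw [h8, mul_one] at hyv
    exact hyv.symm

/-- Let G be a finite group, p a prime and p^a the largest power of p dividing the size of any conjugacy class of G. If some element of p-power order has a conjugacy class of size exactly p^a, then G has a normal p-complement. -/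
theorem result {G : Type*} [Group G] [Finite G] (p : ℕ) [Fact p.Prime]
    (a : ℕ) (hmax : ∀ y : G, ¬ p ^ (a + 1) ∣ (Subgroup.centralizer ({y} : Set G)).index)
    (hx : ∃ x : G, (∃ k : ℕ, orderOf x = p ^ k) ∧ (Subgroup.centralizer ({x} : Set G)).index = p ^ a) :
    Cfsg.HasNormalPComplement p G := by
  have hp : p.Prime := Fact.out
  obtain ⟨x, ⟨k, hk⟩, hidx⟩ := hx
  set C := Subgroup.centralizer ({x} : Set G) with hC
  have hxC : x ∈ C := Subgroup.mem_centralizer_singleton_iff.mpr rfl
  -- Step A : `p'`-elements of `C` have class size prime to `p` in `C`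
  have hA : ∀ y : ↥C, (orderOf y).Coprime p →
      ¬ p ∣ (Subgroup.centralizer ({y} : Set ↥C)).index := by
    intro y hy hdvd
    have hcent : Subgroup.centralizer ({x * (y : G)} : Set G) =
        C ⊓ Subgroup.centralizer ({(y : G)} : Set G) := by
      ext g
      have hgC : g ∈ C ↔ g * x = x * g := Subgroup.mem_centralizer_singleton_iff
      rw [Subgroup.mem_inf, hgC, Subgroup.mem_centralizer_singleton_iff,
        Subgroup.mem_centralizer_singleton_iff]
      constructor
      · intro hz
        have hz' : Commute g (x * (y : G)) := hz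
        have hxy : Commute x (y : G) := (Subgroup.mem_centralizer_singleton_iff.mp y.2).symm
        have hcop : (orderOf (y : G)).Coprime (orderOf x) := by
          rw [Subgroup.orderOf_coe, hk]
          exact Nat.Coprime.pow_right k hy
        obtain ⟨j, hj⟩ := exists_pow_eq_self_of_coprime hcop
        have h1 : (x * (y : G)) ^ orderOf (y : G) = x ^ orderOf (y : G) := by
          rw [hxy.mul_pow, pow_orderOf_eq_one, mul_one]
        have hgx : Commute g x := by
          rw [← hj, ← h1]
          exact (hz'.pow_right _).pow_right _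
        have hgy : Commute g (y : G) := by
          have e : (y : G) = x⁻¹ * (x * (y : G)) := by group
          rw [e]
          exact hgx.inv_right.mul_right hz'
        exact ⟨hgx.eq, hgy.eq⟩
      · rintro ⟨h1, h2⟩
        rw [← mul_assoc, h1, mul_assoc, h2, mul_assoc]
    have hsub : Subgroup.centralizer ({y} : Set ↥C) =
        (Subgroup.centralizer ({(y : G)} : Set G)).subgroupOf C := by
      ext z
      rw [Subgroup.mem_subgroupOf, Subgroup.mem_centralizer_singleton_iff,
        Subgroup.mem_centralizer_singleton_iff]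
      constructor
      · intro h; exact congrArg Subtype.val h
      · intro h; exact Subtype.ext h
    rw [hsub] at hdvd
    have hdvd' : p ∣ (Subgroup.centralizer ({(y : G)} : Set G)).relIndex C := hdvd
    have h1 : (Subgroup.centralizer ({(y : G)} : Set G)).relIndex C * C.index =
        (C ⊓ Subgroup.centralizer {(y : G)}).index := by
      rw [← Subgroup.inf_relIndex_left]
      exact Subgroup.relIndex_mul_index inf_le_left
    apply hmax (x * y)
    rw [hcent, ← h1, hidx, pow_succ, mul_comm (p ^ a) p]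
    exact Nat.mul_dvd_mul_right hdvd' _
  -- Step B : Camina's lemma inside `C`
  obtain ⟨K0, hK0n, hK0cop, ⟨n, hK0idx⟩, hK0cent⟩ := camina p hA
  -- Step C
  set K := K0.map C.subtype with hK
  have hKcard : Nat.card K = Nat.card K0 := Subgroup.card_map_of_injective C.subtype_injective
  have hKidx : K.index = p ^ (n + a) := by
    rw [hK, Subgroup.index_map_subtype, hK0idx, hidx, pow_add]
  -- Step D : Sylow subgroups
  have hZ : IsPGroup p (Subgroup.zpowers (⟨x, hxC⟩ : ↥C)) :=
    IsPGroup.of_card (n := k) (by rw [Nat.card_zpowers, Subgroup.orderOf_mk, hk])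
  obtain ⟨P0, hP0⟩ := hZ.exists_le_sylow
  obtain ⟨P, hP⟩ := (P0.isPGroup'.map C.subtype).exists_le_sylow
  have hxP : x ∈ P :=
    hP (Subgroup.mem_map.mpr ⟨⟨x, hxC⟩, hP0 (Subgroup.mem_zpowers _), rfl⟩)
  have hPC : (P : Subgroup G) ⊓ C = (P0 : Subgroup ↥C).map C.subtype := by
    apply le_antisymm
    · have hQ : IsPGroup p (((P : Subgroup G) ⊓ C).subgroupOf C) :=
        (P.isPGroup'.to_le inf_le_left).comap_subtype
      have hle : (P0 : Subgroup ↥C) ≤ ((P : Subgroup G) ⊓ C).subgroupOf C := by
        intro z hz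
        rw [Subgroup.mem_subgroupOf, Subgroup.mem_inf]
        exact ⟨hP (Subgroup.mem_map_of_mem _ hz), z.2⟩
      have heq := P0.is_maximal' hQ hle
      intro g hg
      have hgC : g ∈ C := hg.2
      have h1 : (⟨g, hgC⟩ : ↥C) ∈ ((P : Subgroup G) ⊓ C).subgroupOf C := by
        rw [Subgroup.mem_subgroupOf]; exact hg
      rw [heq] at h1
      exact Subgroup.mem_map.mpr ⟨⟨g, hgC⟩, h1, rfl⟩
    · exact le_inf hP (Subgroup.map_subtype_le _)
  have hcardG : Nat.card G = Nat.card C * p ^ a := by
    rw [← hidx]; exact (Subgroup.card_mul_index C).symm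
  have hfac : (Nat.card G).factorization p = (Nat.card C).factorization p + a := by
    rw [hcardG, Nat.factorization_mul Nat.card_pos.ne' (pow_ne_zero _ hp.ne_zero),
      Nat.Prime.factorization_pow hp]
    simp
  have hPcard : Nat.card P = p ^ ((Nat.card C).factorization p + a) := by
    rw [← hfac]; exact P.card_eq_multiplicity
  have hP0card : Nat.card P0 = p ^ ((Nat.card C).factorization p) := P0.card_eq_multiplicity
  have hPCcard : Nat.card ↥((P : Subgroup G) ⊓ C) = Nat.card P0 := by
    rw [hPC]; exact Subgroup.card_map_of_injective C.subtype_injective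
  have hmul := exists_mul_of_card (P : Subgroup G) C (by
    rw [hPCcard, hP0card, hPcard, hcardG, pow_add]; ring)
  -- Step E : the normal closure of `x` lies in `P`
  set N := Subgroup.normalClosure ({x} : Set G) with hN
  have hNn : N.Normal := Subgroup.normalClosure_normal
  have hxN : x ∈ N := Subgroup.subset_normalClosure (Set.mem_singleton x)
  have hNP : N ≤ P := by
    rw [hN, Subgroup.normalClosure, Subgroup.closure_le]
    intro z hz
    rw [Group.mem_conjugatesOfSet_iff] at hz
    obtain ⟨b, hb, hconj⟩ := hz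
    rw [Set.mem_singleton_iff] at hb
    rw [hb] at hconj
    obtain ⟨c, hc⟩ := isConj_iff.mp hconj
    obtain ⟨u, hu, c', hc', rfl⟩ := hmul c
    have hcx : c' * x = x * c' := Subgroup.mem_centralizer_singleton_iff.mp hc'
    have hzu : z = u * x * u⁻¹ := by
      rw [← hc]
      calc u * c' * x * (u * c')⁻¹ = u * (c' * x) * c'⁻¹ * u⁻¹ := by group
        _ = u * (x * c') * c'⁻¹ * u⁻¹ := by rw [hcx]
        _ = u * x * u⁻¹ := by group
    rw [hzu]
    exact Subgroup.mul_mem _ (Subgroup.mul_mem _ hu hxP) (Subgroup.inv_mem _ hu)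
  -- Step F : `K` centralizes `N`
  have hKN : ∀ y ∈ K, ∀ v ∈ N, v * y = y * v := by
    intro y hy v hv
    obtain ⟨y0, hy0, rfl⟩ := Subgroup.mem_map.mp hy
    have hxy : x * (y0 : G) = y0 * x := (Subgroup.mem_centralizer_singleton_iff.mp y0.2).symm
    have hPnil : Group.IsNilpotent (P : Subgroup G) := P.isPGroup'.isNilpotent
    obtain ⟨m, hm⟩ := exists_iterate_eq_one (P : Subgroup G) x v hxP (hNP hv)
    refine commute_of_iterate x (y0 : G) N hxy ?_ ?_ m v hv hm
    · intro d hdN hdx
      have hdC : d ∈ C := Subgroup.mem_centralizer_singleton_iff.mpr hdx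
      have hdPC : d ∈ (P : Subgroup G) ⊓ C := ⟨hNP hdN, hdC⟩
      rw [hPC] at hdPC
      obtain ⟨d0, hd0, rfl⟩ := Subgroup.mem_map.mp hdPC
      have := hK0cent P0 d0 hd0 y0 hy0
      exact congrArg Subtype.val this
    · intro d hdN
      have h1 : (orderOf (y0 : G)).Coprime p := by
        rw [Subgroup.orderOf_coe]
        apply Nat.Coprime.coprime_dvd_left _ hK0cop
        have := orderOf_dvd_natCard (⟨y0, hy0⟩ : ↥K0)
        rwa [Subgroup.orderOf_mk] at this
      obtain ⟨j, hj⟩ := (IsPGroup.iff_orderOf.mp P.isPGroup') ⟨d, hNP hdN⟩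
      rw [Subgroup.orderOf_mk] at hj
      rw [hj]
      exact (Nat.Coprime.pow_right j h1).symm
  -- Step G : `K` is normal in `G`
  have hKnormal : K.Normal := by
    constructor
    intro k1 hk1 g
    have hkx : (g * k1 * g⁻¹) * x = x * (g * k1 * g⁻¹) := by
      have h1 : g⁻¹ * x * g ∈ N := by
        have := hNn.conj_mem x hxN g⁻¹
        simpa using this
      have h2 := hKN k1 hk1 _ h1
      calc g * k1 * g⁻¹ * x = g * (k1 * (g⁻¹ * x * g)) * g⁻¹ := by group
        _ = g * ((g⁻¹ * x * g) * k1) * g⁻¹ := by rw [h2]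
        _ = x * (g * k1 * g⁻¹) := by group
    have hkC : g * k1 * g⁻¹ ∈ C := Subgroup.mem_centralizer_singleton_iff.mpr hkx
    obtain ⟨k0, hk0, rfl⟩ := Subgroup.mem_map.mp hk1
    set z : ↥C := ⟨g * (k0 : G) * g⁻¹, hkC⟩ with hz
    have hzord : orderOf z = orderOf k0 := by
      rw [← Subgroup.orderOf_coe z, ← Subgroup.orderOf_coe k0]
      exact (MulAut.conj g).orderOf_eq (k0 : G)
    have hzK0 : z ∈ K0 := by
      have h1 : z ^ (p ^ n) ∈ K0 := by rw [← hK0idx]; exact K0.pow_index_mem z
      have hcop : (p ^ n).Coprime (orderOf z) := by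
        rw [hzord]
        apply Nat.Coprime.pow_left
        apply Nat.Coprime.symm
        apply Nat.Coprime.coprime_dvd_left _ hK0cop
        have := orderOf_dvd_natCard (⟨k0, hk0⟩ : ↥K0)
        rwa [Subgroup.orderOf_mk] at this
      obtain ⟨j, hj⟩ := exists_pow_eq_self_of_coprime hcop
      rw [← hj]
      exact K0.pow_mem h1 j
    exact Subgroup.mem_map.mpr ⟨z, hzK0, rfl⟩
  -- Conclusion
  refine ⟨P, K, hKnormal, ?_⟩
  have hKcop : (Nat.card K).Coprime p := by rw [hKcard]; exact hK0cop
  have hPeq : Nat.card P = p ^ (n + a) := by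
    have h1 : Nat.card K * p ^ (n + a) = Nat.card G := by
      rw [← hKidx]; exact Subgroup.card_mul_index K
    have h2 : Nat.card P * (P : Subgroup G).index = Nat.card G :=
      Subgroup.card_mul_index (P : Subgroup G)
    apply Nat.dvd_antisymm
    · have h3 : Nat.card P ∣ Nat.card K * p ^ (n + a) := by
        rw [h1, ← h2]; exact dvd_mul_right _ _
      have h4 : (Nat.card P).Coprime (Nat.card K) := by
        rw [hPcard]
        exact (Nat.Coprime.pow_right _ hKcop).symm
      exact h4.dvd_of_dvd_mul_left h3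
    · have h3 : p ^ (n + a) ∣ Nat.card P * (P : Subgroup G).index := by
        rw [h2, ← h1]; exact dvd_mul_left _ _
      have h4 : (p ^ (n + a)).Coprime (P : Subgroup G).index := by
        apply Nat.Coprime.pow_left
        exact (Nat.Prime.coprime_iff_not_dvd hp).mpr P.not_dvd_index
      exact h4.dvd_of_dvd_mul_right h3
  apply Subgroup.isComplement'_of_coprime
  · rw [hPeq, ← hKidx]; exact Subgroup.card_mul_index K
  · rw [hPeq]; exact Nat.Coprime.pow_right _ hKcop

end Cfsg.Agent.S4127
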