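-- Statement S5246
import Mathlib
import Cfsg.Statements.S5246
import Cfsg.Agent.Lib.Helper84.GrpFus
import Cfsg.Agent.Lib.Helper87.FusionRadical

set_option autoImplicit false
open Cfsg

namespace Cfsg.Agent.S5246

open Cfsg.FusionSystem
open scoped commutatorElement

variable {G : Type*} [Group G]

/-- quadratic action, elementwise -/
def Quad (Q : Subgroup G) (g : G) : Prop := ∀ a ∈ Q, ⁅a, g⁆ * g = g * ⁅a, g⁆

theorem quad_of_comm_eq_bot {Q : Subgroup G} {g : G}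
    (h : ⁅⁅Q, Subgroup.zpowers g⁆, Subgroup.zpowers g⁆ = ⊥) : Quad Q g := by
  intro a ha
  have h1 : ⁅⁅a, g⁆, g⁆ ∈ ⁅⁅Q, Subgroup.zpowers g⁆, Subgroup.zpowers g⁆ :=
    Subgroup.commutator_mem_commutator
      (Subgroup.commutator_mem_commutator ha (Subgroup.mem_zpowers g)) (Subgroup.mem_zpowers g)
  rw [h, Subgroup.mem_bot] at h1
  exact commutatorElement_eq_one_iff_mul_comm.mp h1

theorem quad_inv {Q : Subgroup G} {g : G} (h : Quad Q g) : Quad Q g⁻¹ := by
  intro a ha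
  have h1 := h a ha
  have e : ⁅a, g⁻¹⁆ = g⁻¹ * ⁅a, g⁆⁻¹ * g := by
    simp only [commutatorElement_def]; group
  have h2 : ⁅a, g⁆⁻¹ * g = g * ⁅a, g⁆⁻¹ := by
    have : g = ⁅a, g⁆ * g * ⁅a, g⁆⁻¹ := by rw [h1]; group
    calc ⁅a, g⁆⁻¹ * g = ⁅a, g⁆⁻¹ * (⁅a, g⁆ * g * ⁅a, g⁆⁻¹) := by rw [← this]
      _ = g * ⁅a, g⁆⁻¹ := by group
  rw [e]
  calc g⁻¹ * ⁅a, g⁆⁻¹ * g * g⁻¹ = g⁻¹ * (g⁻¹ * (g * ⁅a, g⁆⁻¹)) := by group
    _ = g⁻¹ * (g⁻¹ * (⁅a, g⁆⁻¹ * g)) := by rw [h2]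
    _ = g⁻¹ * (g⁻¹ * ⁅a, g⁆⁻¹ * g) := by group

theorem quad_pow {Q : Subgroup G} {g : G} (h : Quad Q g) (n : ℕ) :
    ∀ a ∈ Q, Commute ⁅a, g ^ n⁆ g := by
  induction n with
  | zero =>
    intro a _
    rw [pow_zero, commutatorElement_one_right]
    exact Commute.one_left g
  | succ n ih =>
    intro a ha
    have e : ⁅a, g ^ (n + 1)⁆ = ⁅a, g⁆ * (g * ⁅a, g ^ n⁆ * g⁻¹) := by
      rw [pow_succ']
      simp only [commutatorElement_def]; group
    have h1 : Commute ⁅a, g⁆ g := h a ha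
    have h2 : Commute ⁅a, g ^ n⁆ g := ih a ha
    have h3 : g * ⁅a, g ^ n⁆ * g⁻¹ = ⁅a, g ^ n⁆ := by
      rw [← h2.eq]; group
    rw [e, h3]
    exact h1.mul_left h2

theorem comm_eq_bot_of_quad {Q : Subgroup G} {g : G} (h : Quad Q g) :
    ⁅⁅Q, Subgroup.zpowers g⁆, Subgroup.zpowers g⁆ = ⊥ := by
  rw [Subgroup.commutator_eq_bot_iff_le_centralizer, Subgroup.commutator_le]
  intro a ha k hk
  obtain ⟨n, rfl⟩ := hk
  rw [Subgroup.mem_centralizer_iff]
  rintro _ ⟨m, rfl⟩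
  have key : Commute ⁅a, g ^ n⁆ g := by
    obtain ⟨k, rfl | rfl⟩ := n.eq_nat_or_neg
    · rw [zpow_natCast]
      exact quad_pow h k a ha
    · rw [zpow_neg, zpow_natCast, ← inv_pow]
      have := quad_pow (quad_inv h) k a ha
      exact (Commute.inv_right_iff.mp this)
  exact ((key.zpow_right m).eq).symm

theorem quad_conj {Q : Subgroup G} {g : G} (h : Quad Q g) (x : G) :
    Quad (Q.map (MulAut.conj x).toMonoidHom) (x * g * x⁻¹) := by
  rintro _ ⟨a, ha, rfl⟩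
  have h1 := h a ha
  have e : ⁅(MulAut.conj x).toMonoidHom a, x * g * x⁻¹⁆ = x * ⁅a, g⁆ * x⁻¹ := by
    simp only [commutatorElement_def, MulEquiv.coe_toMonoidHom, MulAut.conj_apply]; group
  rw [e]
  calc x * ⁅a, g⁆ * x⁻¹ * (x * g * x⁻¹) = x * (⁅a, g⁆ * g) * x⁻¹ := by group
    _ = x * (g * ⁅a, g⁆) * x⁻¹ := by rw [h1]
    _ = x * g * x⁻¹ * (x * ⁅a, g⁆ * x⁻¹) := by group

/-- the quadratic condition in terms of the automorphism -/
theorem quad_iff_aut {Q : Subgroup G} {g : G} (α : MulAut Q)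
    (hα : ∀ x : Q, ((α x : Q) : G) = g * (x : G) * g⁻¹) :
    (∀ a : Q, (α a⁻¹) * a * (α a⁻¹) * (α (α a)) = 1) ↔ Quad Q g := by
  constructor
  · intro h a ha
    have h1 := congrArg (Subtype.val) (h ⟨a, ha⟩⁻¹)
    simp only [Subgroup.coe_mul, hα, Subgroup.coe_inv, inv_inv, Subgroup.coe_one] at h1
    simp only [commutatorElement_def]
    have hW : g * a * g⁻¹ * a⁻¹ * (g * a * g⁻¹) * (g * (g * a⁻¹ * g⁻¹) * g⁻¹) = 1 := by
      simpa using h1
    calc a * g * a⁻¹ * g⁻¹ * g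
        = (g * a * g⁻¹ * a⁻¹)⁻¹ * 1 * (g * a * g⁻¹ * a⁻¹ * (a * g * a⁻¹)) := by group
      _ = (g * a * g⁻¹ * a⁻¹)⁻¹ * (g * a * g⁻¹ * a⁻¹ * (g * a * g⁻¹) * (g * (g * a⁻¹ * g⁻¹) * g⁻¹)) *
            (g * a * g⁻¹ * a⁻¹ * (a * g * a⁻¹)) := by rw [hW]
      _ = g * (a * g * a⁻¹ * g⁻¹) := by group
  · intro h a
    apply Subtype.ext
    have hq := h (a : G)⁻¹ (Q.inv_mem a.2)
    simp only [commutatorElement_def, inv_inv] at hq
    simp only [Subgroup.coe_mul, hα, Subgroup.coe_inv, Subgroup.coe_one]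
    calc g * (a : G)⁻¹ * g⁻¹ * a * (g * (a : G)⁻¹ * g⁻¹) * (g * (g * a * g⁻¹) * g⁻¹)
        = g * (a : G)⁻¹ * g⁻¹ * a * (g * ((a : G)⁻¹ * g * a * g⁻¹)) * g⁻¹ := by group
      _ = g * (a : G)⁻¹ * g⁻¹ * a * ((a : G)⁻¹ * g * a * g⁻¹ * g) * g⁻¹ := by rw [hq]
      _ = 1 := by group


/-- transport of membership in `O_p` along `N ⧸ ker f ≃ range f` -/
theorem mk_mem_pCore_iff {p : ℕ} [Fact p.Prime] {N M : Type*} [Group N] [Finite N] [Group M]
    (f : N →* M) (K : Subgroup N) [hK : K.Normal] (hker : f.ker = K) (x : N) :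
    ((QuotientGroup.mk (s := K) x : N ⧸ K) ∈ pCore p (N ⧸ K)) ↔
      f x ∈ (pCore p f.range).map f.range.subtype := by
  subst hker
  have he : (pCore p (N ⧸ f.ker)).map (QuotientGroup.quotientKerEquivRange f).toMonoidHom
      = pCore p f.range := Cfsg.Agent.Helper87.pCore_map_equiv _
  constructor
  · intro h
    refine ⟨QuotientGroup.quotientKerEquivRange f (QuotientGroup.mk x), ?_, rfl⟩
    rw [← he]
    exact ⟨_, h, rfl⟩
  · rintro ⟨y, hy, hyx⟩
    rw [← he] at hy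
    obtain ⟨z, hz, rfl⟩ := hy
    have : z = QuotientGroup.mk x := by
      apply (QuotientGroup.quotientKerEquivRange f).injective
      apply Subtype.ext
      exact hyx
    rwa [this] at hz


open Cfsg.Agent.Helper84 in
theorem mk_mem_pCore_iff_conj {p : ℕ} [Fact p.Prime] [Finite G] (Q : Subgroup G) (h : G) (Q' : Subgroup G)
    (hQ' : Q' = Q.map (MulAut.conj h).toMonoidHom) (g : G)
    (hg : g ∈ Subgroup.normalizer (Q : Set G)) :
    ((QuotientGroup.mk (s := (Subgroup.centralizer (Q : Set G)).subgroupOf (Subgroup.normalizer (Q : Set G)))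
          (⟨g, hg⟩ : ↥(Subgroup.normalizer (Q : Set G)))) ∈
        pCore p (↥(Subgroup.normalizer (Q : Set G)) ⧸
          (Subgroup.centralizer (Q : Set G)).subgroupOf (Subgroup.normalizer (Q : Set G)))) ↔
    ∃ α ∈ (pCore p (autInducedBy ⊤ Q')).map (autInducedBy ⊤ Q').subtype,
       ∀ x : Q', ((α x : Q') : G) = (h * g * h⁻¹) * x * (h * g * h⁻¹)⁻¹ := by
  subst hQ'
  have hnorm : ∀ n : Subgroup.normalizer (Q : Set G),
      ((MulAut.conj h).toMonoidHom.comp (Subgroup.normalizer (Q : Set G)).subtype) n ∈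
        Subgroup.normalizer ((Q.map (MulAut.conj h).toMonoidHom : Subgroup G) : Set G) := by
    intro n
    rw [normalizer_map_conj]
    exact ⟨n, n.2, rfl⟩
  let φ : Subgroup.normalizer (Q : Set G) →*
      Subgroup.normalizer ((Q.map (MulAut.conj h).toMonoidHom : Subgroup G) : Set G) :=
    ((MulAut.conj h).toMonoidHom.comp (Subgroup.normalizer (Q : Set G)).subtype).codRestrict _ hnorm
  let f : Subgroup.normalizer (Q : Set G) →* MulAut (Q.map (MulAut.conj h).toMonoidHom) :=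
    (Q.map (MulAut.conj h).toMonoidHom).normalizerMonoidHom.comp φ
  have hf : ∀ n x, ((f n x : Q.map (MulAut.conj h).toMonoidHom) : G)
      = (h * n * h⁻¹) * x * (h * n * h⁻¹)⁻¹ := fun n x => rfl
  have hker : f.ker =
      (Subgroup.centralizer (Q : Set G)).subgroupOf (Subgroup.normalizer (Q : Set G)) := by
    ext n
    rw [MonoidHom.mem_ker, Subgroup.mem_subgroupOf]
    have : f n = 1 ↔ φ n ∈ (Q.map (MulAut.conj h).toMonoidHom).normalizerMonoidHom.ker := Iff.rfl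
    rw [this, Subgroup.normalizerMonoidHom_ker, Subgroup.mem_subgroupOf, centralizer_map_conj]
    exact Subgroup.mem_map_iff_mem (MulAut.conj h).injective
  have hrange : f.range = autInducedBy ⊤ (Q.map (MulAut.conj h).toMonoidHom) := by
    ext α
    rw [Cfsg.Agent.Helper84.mem_autInducedBy_iff]
    constructor
    · rintro ⟨n, rfl⟩
      exact ⟨h * n * h⁻¹, Subgroup.mem_top _, fun x => rfl⟩
    · rintro ⟨k, -, hk⟩
      have hkN := Cfsg.Agent.Helper84.mem_normalizer_of_autInduced hk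
      rw [normalizer_map_conj] at hkN
      obtain ⟨n, hn, rfl⟩ := hkN
      refine ⟨⟨n, hn⟩, ?_⟩
      ext x
      rw [hk x]; rfl
  rw [mk_mem_pCore_iff f _ hker, ← hrange]
  constructor
  · intro hmem
    exact ⟨f ⟨g, hg⟩, hmem, fun x => rfl⟩
  · rintro ⟨α, hα, hαg⟩
    have : α = f ⟨g, hg⟩ := by ext x; rw [hαg x]; rfl
    rwa [this] at hα


theorem map_conj_one (Q : Subgroup G) : Q = Q.map (MulAut.conj (1 : G)).toMonoidHom := by
  ext x
  simp

open Cfsg.Agent.Helper84 in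
/-- every `p`-subgroup has a fully normalized conjugate inside `P` -/
theorem exists_conj_fullyNormalized [Finite G] {p : ℕ} [Fact p.Prime] (P : Sylow p G) (Q : Subgroup G)
    (hQ : IsPGroup p Q) :
    ∃ h : G, (groupFusionSystem (P : Subgroup G)).IsFullyNormalized
      (Q.map (MulAut.conj h).toMonoidHom) := by
  obtain ⟨k, -, hk⟩ := (sylow_isSylIn_top P).exists_conj_ge (le_top : Q ≤ ⊤) hQ
  have hQ₁ : Q.map (MulAut.conj k⁻¹).toMonoidHom ≤ P := by
    have := Subgroup.map_mono (f := (MulAut.conj k⁻¹).toMonoidHom) hk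
    rwa [map_conj_map_conj_inv] at this
  obtain ⟨g, hgP, hg⟩ := exists_conj_normalizer_sylow P _ hQ₁
  have e : (Q.map (MulAut.conj k⁻¹).toMonoidHom).map (MulAut.conj g).toMonoidHom
      = Q.map (MulAut.conj (g * k⁻¹)).toMonoidHom := by
    rw [Subgroup.map_map]
    congr 1
    ext x
    simp [MulAut.conj_apply, mul_assoc]
  refine ⟨g * k⁻¹, ?_⟩
  rw [← e]
  exact (gfs_fullyNormalized_iff P _ hgP).mpr hg


open Cfsg.Agent.Helper84 in
/-- Let p be an odd prime, G a finite group and P a Sylow p-subgroup. Call a fusion system F p-stable when, for every fully normalized subgroup Q and every χ ∈ Aut_F(Q) acting quadratically on Q (that is, χ fixes a⁻¹χ(a) for every a ∈ Q; equivalently χ(a⁻¹)·a·χ(a⁻¹)·χ(χ(a)) = 1), χ lies in O_p(Aut_F(Q)). Then G is p-stable in the normalizer form (for every p-subgroup Q and x ∈ N_G(Q) with [Q, x, x] = 1, the image of x lies in O_p(N_G(Q)/C_G(Q))) if and only if the fusion system of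 G on P is p-stable. -/
theorem result {Ω : Type*} [Group Ω] [Finite Ω] {p : ℕ} [Fact p.Prime] (hp : p ≠ 2) (P : Sylow p Ω) : Cfsg.IsNormalizerPStable p Ω ↔ (∀ Q : Subgroup Ω, (Cfsg.groupFusionSystem (P : Subgroup Ω)).IsFullyNormalized Q → ∀ χ : MulAut ↥Q, χ ∈ (Cfsg.groupFusionSystem (P : Subgroup Ω)).autGroup Q → (∀ a : ↥Q, (χ a⁻¹) * a * (χ a⁻¹) * (χ (χ a)) = 1) → χ ∈ ((Cfsg.pCore p ↥((Cfsg.groupFusionSystem (P : Subgroup Ω)).autGroup Q)).map ((Cfsg.groupFusionSystem (P : Subgroup Ω)).autGroup Q).subtype : Subgroup (MulAut ↥Q))) := by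
  constructor
  · intro hG Q hfn χ hχ hquad
    have hQP : Q ≤ P := hfn.1
    rw [gfs_autGroup_eq _ Q hQP] at hχ ⊢
    obtain ⟨g, -, hg⟩ := (Cfsg.Agent.Helper84.mem_autInducedBy_iff _ _ _).mp hχ
    have hgN : g ∈ Subgroup.normalizer (Q : Set Ω) := mem_normalizer_of_autInduced hg
    have hq : Quad Q g := (quad_iff_aut χ hg).mp hquad
    have h1 := hG Q (P.isPGroup'.to_le hQP) g hgN (comm_eq_bot_of_quad hq)
    rw [mk_mem_pCore_iff_conj Q 1 Q (map_conj_one Q) g hgN] at h1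
    obtain ⟨α, hα, hαg⟩ := h1
    have : α = χ := by
      ext x
      rw [hαg x, hg x]
      simp
    rwa [this] at hα
  · intro hF Q hQ g hgN hcomm
    obtain ⟨h, hfn⟩ := exists_conj_fullyNormalized P Q hQ
    have hQP : Q.map (MulAut.conj h).toMonoidHom ≤ P := hfn.1
    rw [mk_mem_pCore_iff_conj Q h _ rfl g hgN]
    have hq : Quad (Q.map (MulAut.conj h).toMonoidHom) (h * g * h⁻¹) :=
      quad_conj (quad_of_comm_eq_bot hcomm) h
    have hgN' : h * g * h⁻¹ ∈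
        Subgroup.normalizer ((Q.map (MulAut.conj h).toMonoidHom : Subgroup Ω) : Set Ω) := by
      rw [normalizer_map_conj]
      exact ⟨g, hgN, rfl⟩
    let α : MulAut (Q.map (MulAut.conj h).toMonoidHom) :=
      (Q.map (MulAut.conj h).toMonoidHom).normalizerMonoidHom ⟨h * g * h⁻¹, hgN'⟩
    have hα : ∀ x : Q.map (MulAut.conj h).toMonoidHom,
        ((α x : Q.map (MulAut.conj h).toMonoidHom) : Ω) = (h * g * h⁻¹) * x * (h * g * h⁻¹)⁻¹ :=
      fun x => rfl
    have hmem : α ∈ (groupFusionSystem (P : Subgroup Ω)).autGroup (Q.map (MulAut.conj h).toMonoidHom) := by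
      rw [gfs_autGroup_eq _ _ hQP, Cfsg.Agent.Helper84.mem_autInducedBy_iff]
      exact ⟨_, Subgroup.mem_top _, hα⟩
    have h2 := hF _ hfn α hmem ((quad_iff_aut α hα).mpr hq)
    rw [gfs_autGroup_eq _ _ hQP] at h2
    exact ⟨α, h2, hα⟩

end Cfsg.Agent.S5246
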