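import Cfsg.Statements.S1782
import Mathlib

set_option autoImplicit false
open Cfsg
open scoped commutatorElement

namespace Cfsg.Agent.S1782

section frat

/-- A finite group of exponent 2 has trivial Frattini subgroup. -/
theorem exists_sq_ne_one_of_frattini_ne_bot {R : Type*} [Group R] [Finite R] (h : frattini R ≠ ⊥) :
    ∃ x : R, x ^ 2 ≠ 1 := by
  by_contra hcon
  push Not at hcon
  apply h
  have hinv : ∀ x : R, x⁻¹ = x := fun x => by
    have := hcon x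
    rw [pow_two] at this
    exact inv_eq_of_mul_eq_one_left this
  have hcomm : ∀ a b : R, a * b = b * a := by
    intro a b
    have h1 := hcon (a * b)
    rw [pow_two] at h1
    have h2 : a * b = (a * b)⁻¹ := (hinv (a * b)).symm
    rw [h2, mul_inv_rev, hinv, hinv]
  letI : CommGroup R := { (inferInstance : Group R) with mul_comm := hcomm }
  rw [eq_bot_iff]
  intro z hz
  rw [Subgroup.mem_bot]
  by_contra hz1
  -- a subgroup maximal with respect to not containing z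
  have hfin : {K : Subgroup R | z ∉ K}.Finite := Set.toFinite _
  have hne : {K : Subgroup R | z ∉ K}.Nonempty := ⟨⊥, by simpa [Subgroup.mem_bot] using hz1⟩
  obtain ⟨K, hK⟩ := hfin.exists_maximal hne
  have hzK : z ∉ K := hK.1
  have hmax : ∀ L : Subgroup R, K < L → z ∈ L := by
    intro L hL
    by_contra hzL
    exact (not_le_of_gt hL) (hK.2 hzL hL.le)
  have hcoatom : IsCoatom K := by
    constructor
    · intro htop
      apply hzK
      rw [htop]; trivial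
    · intro L hL
      rw [eq_top_iff]
      intro y _
      by_cases hy : y ∈ K
      · exact hL.le hy
      · have hlt : K < K ⊔ Subgroup.zpowers y := by
          apply lt_of_le_of_ne le_sup_left
          intro heq
          apply hy
          rw [heq]
          exact Subgroup.mem_sup_right (Subgroup.mem_zpowers y)
        have hzmem := hmax _ hlt
        rw [Subgroup.mem_sup] at hzmem
        obtain ⟨k, hk, w, hw, hkw⟩ := hzmem
        rw [Subgroup.mem_zpowers_iff] at hw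
        obtain ⟨n, rfl⟩ := hw
        have hy2 : y ^ (2 : ℤ) = 1 := by
          have := hcon y
          exact_mod_cast this
        rw [zpow_eq_zpow_emod n hy2] at hkw
        rcases Int.emod_two_eq_zero_or_one n with h0 | h1
        · rw [h0, zpow_zero, mul_one] at hkw
          exact absurd (hkw ▸ hk) hzK
        · rw [h1, zpow_one] at hkw
          have : y = k⁻¹ * z := by rw [← hkw]; group
          rw [this]
          exact L.mul_mem (L.inv_mem (hL.le hk)) (hmax L hL)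
  exact hzK (frattini_le_coatom hcoatom hz)

end frat

section core

variable {S : Type*} [Group S]

/-- Either `t` normalizes `R`, or `R` and its conjugate by `t` meet trivially and commute. -/
def Alt (R : Subgroup S) (t : S) : Prop :=
  t ∈ Subgroup.normalizer (R : Set S) ∨
    ((∀ r ∈ R, t * r * t⁻¹ ∈ R → r = 1) ∧
      ∀ r ∈ R, ∀ r' ∈ R, r * (t * r' * t⁻¹) = (t * r' * t⁻¹) * r)

theorem case2 [Finite S] (R T : Subgroup S) (hcard : Nat.card ↥T ≤ Nat.card ↥R)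
    (hAR : ∀ t ∈ T, Alt R t) (hRN : R ≤ Subgroup.normalizer (T : Set S)) :
    T ≤ Subgroup.normalizer (R : Set S) := by
  intro t₀ ht₀
  by_contra hnot
  rcases hAR t₀ ht₀ with h | ⟨hTI, hC⟩
  · exact hnot h
  let θ : ↥R → ↥T := fun r => ⟨r * t₀ * (r : S)⁻¹ * t₀⁻¹,
    T.mul_mem ((Subgroup.mem_normalizer_iff.mp (hRN r.2) t₀).mp ht₀) (T.inv_mem ht₀)⟩
  have hinj : Function.Injective θ := by
    intro r r' h
    have h' : (r : S) * t₀ * (r : S)⁻¹ * t₀⁻¹ = r' * t₀ * (r' : S)⁻¹ * t₀⁻¹ := congrArg Subtype.val h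
    have h2 : (r : S) * t₀ * (r : S)⁻¹ = r' * t₀ * (r' : S)⁻¹ := mul_right_cancel h'
    have h1 : t₀ * ((r' : S)⁻¹ * r) * t₀⁻¹ = (r' : S)⁻¹ * r := by
      calc t₀ * ((r' : S)⁻¹ * r) * t₀⁻¹ = (r' : S)⁻¹ * (r' * t₀ * (r' : S)⁻¹) * r * t₀⁻¹ := by group
        _ = (r' : S)⁻¹ * (r * t₀ * (r : S)⁻¹) * r * t₀⁻¹ := by rw [h2]
        _ = (r' : S)⁻¹ * r := by group
    have hmem : (r' : S)⁻¹ * r ∈ R := R.mul_mem (R.inv_mem r'.2) r.2
    have h3 := hTI ((r' : S)⁻¹ * r) hmem (by rw [h1]; exact hmem)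
    apply Subtype.ext
    exact (inv_mul_eq_one.mp h3).symm
  have hbij := hinj.bijective_of_nat_card_le hcard
  obtain ⟨r, hr⟩ := hbij.2 ⟨t₀, ht₀⟩
  have hr' : (r : S) * t₀ * (r : S)⁻¹ * t₀⁻¹ = t₀ := congrArg Subtype.val hr
  apply hnot
  rw [← hr']
  apply Subgroup.mem_normalizer_fintype
  intro n hn
  have hs : (t₀ * (r : S)⁻¹ * t₀⁻¹) * n * (t₀ * (r : S)⁻¹ * t₀⁻¹)⁻¹ = n := by
    have := hC n hn (r : S)⁻¹ (R.inv_mem r.2)
    rw [← this]; group
  have : (r : S) * t₀ * (r : S)⁻¹ * t₀⁻¹ * n * ((r : S) * t₀ * (r : S)⁻¹ * t₀⁻¹)⁻¹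
      = r * ((t₀ * (r : S)⁻¹ * t₀⁻¹) * n * (t₀ * (r : S)⁻¹ * t₀⁻¹)⁻¹) * (r : S)⁻¹ := by group
  rw [this, hs]
  exact R.mul_mem (R.mul_mem r.2 hn) (R.inv_mem r.2)

theorem exists_sq_mem {H : Subgroup S} {t : S} (k : ℕ) (htk : t ^ (2 ^ k) = 1) (ht : t ∉ H) :
    ∃ i : ℕ, t ^ (2 ^ i) ∉ H ∧ (t ^ (2 ^ i)) ^ 2 ∈ H := by
  classical
  have hex : ∃ m, t ^ (2 ^ m) ∈ H := ⟨k, by rw [htk]; exact H.one_mem⟩
  have hm0 : Nat.find hex ≠ 0 := by
    intro h0
    have := Nat.find_spec hex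
    rw [h0, pow_zero, pow_one] at this
    exact ht this
  obtain ⟨i, hi⟩ := Nat.exists_eq_succ_of_ne_zero hm0
  refine ⟨i, ?_, ?_⟩
  · exact Nat.find_min hex (by omega)
  · have := Nat.find_spec hex
    rw [hi, pow_succ, pow_mul] at this
    exact this

theorem sq_one (R T : Subgroup S) (t : S) (htT : t ∈ T)
    (ht2 : t ^ 2 ∈ Subgroup.normalizer (R : Set S))
    (hTIt : ∀ r ∈ R, t * r * t⁻¹ ∈ R → r = 1)
    (hCt : ∀ r ∈ R, ∀ r' ∈ R, r * (t * r' * t⁻¹) = (t * r' * t⁻¹) * r)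
    (r : S) (hrR : r ∈ R)
    (hCr : ∀ u ∈ T, ∀ u' ∈ T, u * (r * u' * r⁻¹) = (r * u' * r⁻¹) * u) : r ^ 2 = 1 := by
  have hc1 : Commute r (t * r⁻¹ * t⁻¹) := hCt r hrR r⁻¹ (R.inv_mem hrR)
  have hc2 : Commute (r * t * r⁻¹) t⁻¹ := (hCr t⁻¹ (T.inv_mem htT) t htT).symm
  have e1 : r * t * r⁻¹ * t⁻¹ = r * (t * r⁻¹ * t⁻¹) := by group
  have h1 : (r * t * r⁻¹ * t⁻¹) ^ 2 = r ^ 2 * (t * (r⁻¹) ^ 2 * t⁻¹) := by
    rw [e1, hc1.mul_pow, conj_pow]
  have h2 : (r * t * r⁻¹ * t⁻¹) ^ 2 = (r * t ^ 2 * r⁻¹) * (t⁻¹) ^ 2 := by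
    rw [hc2.mul_pow, conj_pow]
  have h3 : t * (r⁻¹) ^ 2 * t⁻¹ = r⁻¹ * (t ^ 2 * r⁻¹ * (t ^ 2)⁻¹) := by
    have : r ^ 2 * (t * (r⁻¹) ^ 2 * t⁻¹) = (r * t ^ 2 * r⁻¹) * (t⁻¹) ^ 2 := by rw [← h1, h2]
    calc t * (r⁻¹) ^ 2 * t⁻¹ = (r ^ 2)⁻¹ * (r ^ 2 * (t * (r⁻¹) ^ 2 * t⁻¹)) := by group
      _ = (r ^ 2)⁻¹ * ((r * t ^ 2 * r⁻¹) * (t⁻¹) ^ 2) := by rw [this]
      _ = r⁻¹ * (t ^ 2 * r⁻¹ * (t ^ 2)⁻¹) := by group
  have hmem : t * (r⁻¹) ^ 2 * t⁻¹ ∈ R := by
    rw [h3]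
    exact R.mul_mem (R.inv_mem hrR)
      ((Subgroup.mem_normalizer_iff.mp ht2 r⁻¹).mp (R.inv_mem hrR))
  have := hTIt ((r⁻¹) ^ 2) (R.pow_mem (R.inv_mem hrR) 2) hmem
  rw [inv_pow, inv_eq_one] at this
  exact this

theorem case3 [Finite S] (hS : IsPGroup 2 S) (R T : Subgroup S)
    (hAR : ∀ t ∈ T, Alt R t) (hAT : ∀ r ∈ R, Alt T r)
    (hΦ : ∃ x ∈ R, x ^ 2 ≠ 1)
    (r₀ : S) (hr₀ : r₀ ∈ R) (hr₀N : r₀ ∉ Subgroup.normalizer (T : Set S))
    (t₀ : S) (ht₀ : t₀ ∈ T) (ht₀N : t₀ ∉ Subgroup.normalizer (R : Set S)) : False := by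
  -- an element t' of T outside N(R) whose square normalizes R
  obtain ⟨k, hk⟩ := hS t₀
  obtain ⟨i, hi1, hi2⟩ := exists_sq_mem k hk ht₀N
  set t' := t₀ ^ (2 ^ i) with ht'
  have ht'T : t' ∈ T := T.pow_mem ht₀ _
  rcases hAR t' ht'T with h | ⟨hTIt', hCt'⟩
  · exact hi1 h
  -- every element of R outside N(T) is an involution
  have hsq : ∀ r ∈ R, r ∉ Subgroup.normalizer (T : Set S) → r ^ 2 = 1 := by
    intro r hr hrN
    rcases hAT r hr with h | ⟨_, hCr⟩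
    · exact absurd h hrN
    · exact sq_one R T t' ht'T hi2 hTIt' hCt' r hr hCr
  -- an element of order 4 in R ⊓ N(T)
  obtain ⟨x, hxR, hx2⟩ := hΦ
  have hxN : x ∈ Subgroup.normalizer (T : Set S) := by
    by_contra h
    exact hx2 (hsq x hxR h)
  obtain ⟨m, hm⟩ := (IsPGroup.iff_orderOf.mp hS) x
  have hm2 : 2 ≤ m := by
    by_contra hlt
    push Not at hlt
    apply hx2
    have : orderOf x ∣ 2 := by
      rw [hm]
      interval_cases m
      · simp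
      · simp
    exact orderOf_dvd_iff_pow_eq_one.mp this
  obtain ⟨j, rfl⟩ : ∃ j, m = j + 2 := ⟨m - 2, by omega⟩
  set y := x ^ (2 ^ j) with hy
  have hyR : y ∈ R := R.pow_mem hxR _
  have hyN : y ∈ Subgroup.normalizer (T : Set S) := (Subgroup.normalizer (T : Set S)).pow_mem hxN _
  have hy4 : y ^ 4 = 1 := by
    rw [hy, ← pow_mul]
    have : 2 ^ j * 4 = 2 ^ (j + 2) := by ring
    rw [this, ← hm, pow_orderOf_eq_one]
  have hy2 : y ^ 2 ≠ 1 := by
    intro h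
    rw [hy, ← pow_mul] at h
    have hdvd := orderOf_dvd_of_pow_eq_one h
    rw [hm] at hdvd
    have : 2 ^ j * 2 = 2 ^ (j + 1) := by ring
    rw [this] at hdvd
    have := (Nat.pow_dvd_pow_iff_le_right (by norm_num : 1 < 2)).mp hdvd
    omega
  have hyinv2 : (y⁻¹) ^ 2 = y ^ 2 := by
    have : y ^ 2 * y ^ 2 = 1 := by rw [← pow_add]; exact hy4
    rw [inv_pow]
    exact inv_eq_of_mul_eq_one_left this
  -- r₀ inverts y
  have hr₀2 : r₀ ^ 2 = 1 := hsq r₀ hr₀ hr₀N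
  have hr₀y : r₀ * y ∉ Subgroup.normalizer (T : Set S) := by
    intro h
    apply hr₀N
    have := (Subgroup.normalizer (T : Set S)).mul_mem h ((Subgroup.normalizer (T : Set S)).inv_mem hyN)
    simpa using this
  have hr₀y2 : (r₀ * y) ^ 2 = 1 := hsq (r₀ * y) (R.mul_mem hr₀ hyR) hr₀y
  have hr₀inv : r₀⁻¹ = r₀ := by
    rw [pow_two] at hr₀2
    exact inv_eq_of_mul_eq_one_left hr₀2
  have hinvert : r₀ * y * r₀⁻¹ = y⁻¹ := by
    rw [pow_two] at hr₀y2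
    rw [hr₀inv]
    have : r₀ * y * r₀ * y = 1 := by rw [← hr₀y2]; group
    exact eq_inv_of_mul_eq_one_left this
  -- data for t₀ and r₀
  rcases hAR t₀ ht₀ with h | ⟨hTIt, hCt⟩
  · exact ht₀N h
  rcases hAT r₀ hr₀ with h | ⟨hTIr, _⟩
  · exact hr₀N h
  -- u = [y, t₀]
  have hyinvR : y⁻¹ ∈ R := R.inv_mem hyR
  have hcs : Commute y (t₀ * y⁻¹ * t₀⁻¹) := hCt y hyR y⁻¹ hyinvR
  have hcs' : Commute y⁻¹ (t₀ * y⁻¹ * t₀⁻¹) := hCt y⁻¹ hyinvR y⁻¹ hyinvR
  have hcr : Commute r₀ (t₀ * y⁻¹ * t₀⁻¹) := hCt r₀ hr₀ y⁻¹ hyinvR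
  have huT : y * t₀ * y⁻¹ * t₀⁻¹ ∈ T :=
    T.mul_mem ((Subgroup.mem_normalizer_iff.mp hyN t₀).mp ht₀) (T.inv_mem ht₀)
  have eu : y * t₀ * y⁻¹ * t₀⁻¹ = y * (t₀ * y⁻¹ * t₀⁻¹) := by group
  have hu2 : (y * t₀ * y⁻¹ * t₀⁻¹) ^ 2 = y ^ 2 * (t₀ * y⁻¹ * t₀⁻¹) ^ 2 := by
    rw [eu, hcs.mul_pow]
  have hu2ne : (y * t₀ * y⁻¹ * t₀⁻¹) ^ 2 ≠ 1 := by
    intro h
    rw [hu2, conj_pow] at h
    have h1 : t₀ * (y⁻¹) ^ 2 * t₀⁻¹ = (y ^ 2)⁻¹ := eq_inv_of_mul_eq_one_right h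
    have hmem : t₀ * (y⁻¹) ^ 2 * t₀⁻¹ ∈ R := by
      rw [h1]; exact R.inv_mem (R.pow_mem hyR 2)
    have := hTIt ((y⁻¹) ^ 2) (R.pow_mem hyinvR 2) hmem
    rw [hyinv2] at this
    exact hy2 this
  have hconj : r₀ * (y * t₀ * y⁻¹ * t₀⁻¹) * r₀⁻¹ = y⁻¹ * (t₀ * y⁻¹ * t₀⁻¹) := by
    have h1 : r₀ * (t₀ * y⁻¹ * t₀⁻¹) * r₀⁻¹ = t₀ * y⁻¹ * t₀⁻¹ := by
      rw [hcr.eq]; group
    calc r₀ * (y * t₀ * y⁻¹ * t₀⁻¹) * r₀⁻¹
        = (r₀ * y * r₀⁻¹) * (r₀ * (t₀ * y⁻¹ * t₀⁻¹) * r₀⁻¹) := by group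
      _ = y⁻¹ * (t₀ * y⁻¹ * t₀⁻¹) := by rw [hinvert, h1]
  have hconj2 : r₀ * (y * t₀ * y⁻¹ * t₀⁻¹) ^ 2 * r₀⁻¹ = (y * t₀ * y⁻¹ * t₀⁻¹) ^ 2 := by
    rw [← conj_pow, hconj, hcs'.mul_pow, hyinv2, hu2]
  have := hTIr _ (T.pow_mem huT 2) (by rw [hconj2]; exact T.pow_mem huT 2)
  exact hu2ne this

theorem core [Finite S] (hS : IsPGroup 2 S) (R T : Subgroup S) (hRT : R ⊓ T = ⊥)
    (hcard : Nat.card ↥R = Nat.card ↥T)
    (hAR : ∀ t ∈ T, Alt R t) (hAT : ∀ r ∈ R, Alt T r) (hΦ : ∃ x ∈ R, x ^ 2 ≠ 1) :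
    ⁅R, T⁆ = ⊥ := by
  by_cases h1 : R ≤ Subgroup.normalizer (T : Set S)
  · have h2 : T ≤ Subgroup.normalizer (R : Set S) := case2 R T hcard.symm.le hAR h1
    rw [eq_bot_iff, Subgroup.commutator_le]
    intro r hr t ht
    have hc : ⁅r, t⁆ ∈ R ⊓ T := by
      rw [commutatorElement_def]
      refine Subgroup.mem_inf.mpr ⟨?_, ?_⟩
      · have : t * r⁻¹ * t⁻¹ ∈ R :=
          (Subgroup.mem_normalizer_iff.mp (h2 ht) r⁻¹).mp (R.inv_mem hr)
        have := R.mul_mem hr this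
        simpa [mul_assoc] using this
      · exact T.mul_mem ((Subgroup.mem_normalizer_iff.mp (h1 hr) t).mp ht) (T.inv_mem ht)
    rw [hRT] at hc
    exact hc
  · by_cases h2 : T ≤ Subgroup.normalizer (R : Set S)
    · exact absurd (case2 T R hcard.le hAT h2) h1
    · obtain ⟨r₀, hr₀, hr₀N⟩ := SetLike.not_le_iff_exists.mp h1
      obtain ⟨t₀, ht₀, ht₀N⟩ := SetLike.not_le_iff_exists.mp h2
      exact (case3 hS R T hAR hAT hΦ r₀ hr₀ hr₀N t₀ ht₀ ht₀N).elim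

theorem mem_cj {A : Subgroup S} {g x : S} :
    x ∈ A.map (MulAut.conj g).toMonoidHom ↔ g⁻¹ * x * g ∈ A := by
  constructor
  · rintro ⟨a, ha, rfl⟩
    simpa [MulAut.conj_apply, mul_assoc] using ha
  · intro h
    exact ⟨g⁻¹ * x * g, h, by simp [MulAut.conj_apply, mul_assoc]⟩

theorem conj_mem_cj {A : Subgroup S} {g a : S} (ha : a ∈ A) :
    g * a * g⁻¹ ∈ A.map (MulAut.conj g).toMonoidHom := by
  rw [mem_cj]
  have : g⁻¹ * (g * a * g⁻¹) * g = a := by group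
  rw [this]; exact ha

theorem map_conj_eq_iff (A : Subgroup S) (b : S) :
    A.map (MulAut.conj b).toMonoidHom = A ↔ b ∈ Subgroup.normalizer (A : Set S) := by
  rw [Subgroup.mem_normalizer_iff_map_conj_eq]
  rfl

/-- In a finite 2-group, a proper subgroup `R` of `P` lies in a proper subgroup of `P` normalized by `P`. -/
theorem exists_normal_proper [Finite S] (hS : IsPGroup 2 S) (P R : Subgroup S) (hRP : R ≤ P)
    (hne : R ≠ P) :
    ∃ M : Subgroup S, M ≤ P ∧ M ≠ P ∧ R ≤ M ∧ ∀ g ∈ P, ∀ m ∈ M, g * m * g⁻¹ ∈ M := by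
  haveI : Fact (Nat.Prime 2) := ⟨Nat.prime_two⟩
  have hP : IsPGroup 2 ↥P := hS.to_subgroup P
  haveI : Group.IsNilpotent ↥P := hP.isNilpotent
  have hnc : NormalizerCondition ↥P := Group.normalizerCondition_of_isNilpotent
  have hR' : R.subgroupOf P ≠ ⊤ := by
    intro h
    apply hne
    apply le_antisymm hRP
    intro x hx
    have : (⟨x, hx⟩ : ↥P) ∈ R.subgroupOf P := by rw [h]; trivial
    exact Subgroup.mem_subgroupOf.mp this
  obtain ⟨M', hM'co, hRM'⟩ := (eq_top_or_exists_le_coatom (R.subgroupOf P)).resolve_left hR'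
  have hM'n : M'.Normal := Subgroup.NormalizerCondition.normal_of_coatom M' hnc hM'co
  refine ⟨M'.map P.subtype, ?_, ?_, ?_, ?_⟩
  · rintro x ⟨y, _, rfl⟩
    exact y.2
  · intro h
    apply hM'co.1
    rw [eq_top_iff]
    intro y _
    have hy : (y : S) ∈ M'.map P.subtype := by rw [h]; exact y.2
    obtain ⟨z, hz, hzy⟩ := hy
    have : z = y := Subtype.ext hzy
    rw [← this]; exact hz
  · intro r hr
    exact ⟨⟨r, hRP hr⟩, hRM' (Subgroup.mem_subgroupOf.mpr hr), rfl⟩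
  · rintro g hg m ⟨m', hm', rfl⟩
    exact ⟨⟨g, hg⟩ * m' * ⟨g, hg⟩⁻¹, hM'n.conj_mem m' hm' ⟨g, hg⟩, rfl⟩

end core

theorem result {S : Type*} [Group S] [Finite S] (hS : IsPGroup 2 S)
    (Δ : Set (Subgroup S)) (hinv : ∀ s : S, ∀ R ∈ Δ, R.map (MulAut.conj s).toMonoidHom ∈ Δ)
    (hΦ : ∀ R ∈ Δ, frattini ↥R ≠ ⊥) (hord : ∀ R ∈ Δ, ∀ T ∈ Δ, Nat.card ↥R = Nat.card ↥T)
    (hti : ∀ R ∈ Δ, ∀ T ∈ Δ, R = T ∨ R ⊓ T = ⊥) :
    ∀ R ∈ Δ, ∀ T ∈ Δ, R ≠ T → ⁅R, T⁆ = ⊥ := by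
  have hΦ' : ∀ R ∈ Δ, ∃ x ∈ R, x ^ 2 ≠ 1 := by
    intro R hR
    obtain ⟨x, hx⟩ := exists_sq_ne_one_of_frattini_ne_bot (hΦ R hR)
    refine ⟨x, x.2, ?_⟩
    intro h
    apply hx
    apply Subtype.ext
    rw [Subgroup.coe_pow, h, Subgroup.coe_one]
  have main : ∀ n : ℕ, ∀ P : Subgroup S, Nat.card ↥P ≤ n →
      ∀ R ∈ Δ, ∀ T ∈ Δ, R ≤ P → T ≤ P → R ≠ T → ⁅R, T⁆ = ⊥ := by
    intro n
    induction n with
    | zero =>
      intro P hP
      have := Nat.card_pos (α := ↥P)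
      omega
    | succ n ih =>
      intro P hP R hR T hT hRP hTP hne
      by_cases hlt : Nat.card ↥(R ⊔ T) ≤ n
      · exact ih (R ⊔ T) hlt R hR T hT le_sup_left le_sup_right hne
      · push Not at hlt
        have hAlt : ∀ (R T : Subgroup S), R ∈ Δ → T ∈ Δ → R ≠ T → n < Nat.card ↥(R ⊔ T) →
            Nat.card ↥(R ⊔ T) ≤ n + 1 → ∀ t ∈ T, Alt R t := by
          intro R T hR hT hne hlt hle t ht
          by_cases hRt : R.map (MulAut.conj t).toMonoidHom = R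
          · left
            exact (map_conj_eq_iff R t).mp hRt
          · right
            have hRtΔ := hinv t R hR
            have hinf : R.map (MulAut.conj t).toMonoidHom ⊓ R = ⊥ :=
              (hti _ hRtΔ R hR).resolve_left hRt
            refine ⟨?_, ?_⟩
            · intro r hr hmem
              have h1 : t * r * t⁻¹ ∈ R.map (MulAut.conj t).toMonoidHom ⊓ R :=
                Subgroup.mem_inf.mpr ⟨conj_mem_cj hr, hmem⟩
              rw [hinf, Subgroup.mem_bot] at h1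
              have : r = t⁻¹ * (t * r * t⁻¹) * t := by group
              rw [this, h1]; group
            · -- commuting, via the induction hypothesis inside a proper normal subgroup
              have hRne : R ≠ R ⊔ T := by
                intro h
                apply hne
                have hTR : T ≤ R := by rw [h]; exact le_sup_right
                exact (Subgroup.eq_of_le_of_card_ge hTR (hord R hR T hT).le).symm
              obtain ⟨M, hMP, hMne, hRM, hMn⟩ :=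
                exists_normal_proper hS (R ⊔ T) R le_sup_left hRne
              have hMcard : Nat.card ↥M ≤ n := by
                have h1 : Nat.card ↥M ≤ Nat.card ↥(R ⊔ T) := Subgroup.card_le_of_le hMP
                have h2 : Nat.card ↥M ≠ Nat.card ↥(R ⊔ T) := by
                  intro h
                  exact hMne (Subgroup.eq_of_le_of_card_ge hMP h.ge)
                omega
              have hRtM : R.map (MulAut.conj t).toMonoidHom ≤ M := by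
                rintro x ⟨r, hr, rfl⟩
                exact hMn t (Subgroup.mem_sup_right ht) r (hRM hr)
              have hcomm := ih M hMcard R hR _ hRtΔ hRM hRtM (Ne.symm hRt)
              rw [Subgroup.commutator_eq_bot_iff_le_centralizer] at hcomm
              intro r hr r' hr'
              have := (Subgroup.mem_centralizer_iff.mp (hcomm hr)) (t * r' * t⁻¹) (conj_mem_cj hr')
              exact this.symm
        have hle : Nat.card ↥(R ⊔ T) ≤ n + 1 :=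
          (Subgroup.card_le_of_le (sup_le hRP hTP)).trans hP
        have hle' : Nat.card ↥(T ⊔ R) ≤ n + 1 := by rw [sup_comm]; exact hle
        have hlt' : n < Nat.card ↥(T ⊔ R) := by rw [sup_comm]; exact hlt
        exact core hS R T ((hti R hR T hT).resolve_left hne) (hord R hR T hT)
          (hAlt R T hR hT hne hlt hle) (hAlt T R hT hR (Ne.symm hne) hlt' hle') (hΦ' R hR)
  intro R hR T hT hne
  exact main (Nat.card S) ⊤ (by rw [Subgroup.card_top]) R hR T hT le_top le_top hne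

end Cfsg.Agent.S1782
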