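import Cfsg.Statements.S1587
import Mathlib

set_option autoImplicit false
open Matrix
open Cfsg

namespace Cfsg.Agent.S1587

theorem norm_sub (B : Matrix (Fin 24) (Fin 24) ℤ) (hsymm : B.IsSymm) (x y : Fin 24 → ℤ) :
    (x - y) ⬝ᵥ (B *ᵥ (x - y)) = x ⬝ᵥ (B *ᵥ x) + y ⬝ᵥ (B *ᵥ y) - 2 * (x ⬝ᵥ (B *ᵥ y)) := by
  have h : y ⬝ᵥ (B *ᵥ x) = x ⬝ᵥ (B *ᵥ y) := by
    rw [dotProduct_mulVec, ← mulVec_transpose, hsymm.eq, dotProduct_comm]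
  simp only [mulVec_sub, dotProduct_sub, sub_dotProduct, h]
  ring

theorem norm_add (B : Matrix (Fin 24) (Fin 24) ℤ) (hsymm : B.IsSymm) (x y : Fin 24 → ℤ) :
    (x + y) ⬝ᵥ (B *ᵥ (x + y)) = x ⬝ᵥ (B *ᵥ x) + y ⬝ᵥ (B *ᵥ y) + 2 * (x ⬝ᵥ (B *ᵥ y)) := by
  have h : y ⬝ᵥ (B *ᵥ x) = x ⬝ᵥ (B *ᵥ y) := by
    rw [dotProduct_mulVec, ← mulVec_transpose, hsymm.eq, dotProduct_comm]
  simp only [mulVec_add, dotProduct_add, add_dotProduct, h]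
  ring

theorem norm_two_smul (B : Matrix (Fin 24) (Fin 24) ℤ) (z : Fin 24 → ℤ) :
    ((2 : ℤ) • z) ⬝ᵥ (B *ᵥ ((2 : ℤ) • z)) = 4 * (z ⬝ᵥ (B *ᵥ z)) := by
  simp only [mulVec_smul, dotProduct_smul, smul_dotProduct, smul_eq_mul]
  ring

theorem norm_ge_four (B : Matrix (Fin 24) (Fin 24) ℤ)
    (hpos : ∀ x : Fin 24 → ℤ, x ≠ 0 → 0 < x ⬝ᵥ (B *ᵥ x))
    (heven : ∀ x : Fin 24 → ℤ, (2 : ℤ) ∣ x ⬝ᵥ (B *ᵥ x))
    (h2 : ∀ x : Fin 24 → ℤ, x ⬝ᵥ (B *ᵥ x) ≠ 2) (z : Fin 24 → ℤ) (hz : z ≠ 0) :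
    4 ≤ z ⬝ᵥ (B *ᵥ z) := by
  have h1 := hpos z hz
  have h3 := heven z
  have h4 := h2 z
  omega

/-- First step of the characterisation of the rank-24 lattice: in an even lattice without roots, norm-8 vectors congruent modulo 2 are equal, opposite or orthogonal. -/
theorem result (B : Matrix (Fin 24) (Fin 24) ℤ) (hsymm : B.IsSymm) (hpos : ∀ x : Fin 24 → ℤ, x ≠ 0 → 0 < x ⬝ᵥ (B *ᵥ x)) (heven : ∀ x : Fin 24 → ℤ, (2 : ℤ) ∣ x ⬝ᵥ (B *ᵥ x)) (h2 : ∀ x : Fin 24 → ℤ, x ⬝ᵥ (B *ᵥ x) ≠ 2) (x y : Fin 24 → ℤ) (hx : x ⬝ᵥ (B *ᵥ x) = 8) (hy : y ⬝ᵥ (B *ᵥ y) = 8) (hc : ∀ i, (2 : ℤ) ∣ (x - y) i) : y = x ∨ y = -x ∨ x ⬝ᵥ (B *ᵥ y) = 0 := by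
  by_cases h1 : y = x
  · exact Or.inl h1
  by_cases h2' : y = -x
  · exact Or.inr (Or.inl h2')
  right; right
  -- z with x - y = 2 z
  choose z hz using hc
  have hxy : x - y = (2 : ℤ) • z := by
    funext i; simp [hz i]
  have hz0 : z ≠ 0 := by
    intro h0
    apply h1
    rw [h0, smul_zero] at hxy
    exact (sub_eq_zero.mp hxy).symm
  have hxy' : x + y = (2 : ℤ) • (z + y) := by
    have : x = y + (2 : ℤ) • z := by rw [← hxy]; abel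
    rw [this, smul_add]; simp only [two_smul]; abel
  have hz0' : z + y ≠ 0 := by
    intro h0
    apply h2'
    rw [h0, smul_zero] at hxy'
    have := eq_neg_of_add_eq_zero_left hxy'
    rw [this, neg_neg]
  have e1 := norm_sub B hsymm x y
  have e2 := norm_add B hsymm x y
  rw [hxy, norm_two_smul] at e1
  rw [hxy', norm_two_smul] at e2
  have g1 := norm_ge_four B hpos heven h2 z hz0
  have g2 := norm_ge_four B hpos heven h2 (z + y) hz0'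
  omega

end Cfsg.Agent.S1587
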