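import Cfsg.Statements.S1588
import Mathlib
import Cfsg.Agent.S1587

set_option autoImplicit false
open Matrix
open Cfsg

namespace Cfsg.Agent.S1588

open Cfsg.Agent.S1587 (norm_sub norm_add norm_two_smul norm_ge_four)

/-- reduction mod 2 -/
def red (x : Fin 24 → ℤ) : Fin 24 → ZMod 2 := fun i => (x i : ZMod 2)

theorem red_eq_iff (x y : Fin 24 → ℤ) : red x = red y ↔ ∀ i, (2 : ℤ) ∣ (x - y) i := by
  unfold red
  rw [funext_iff]
  refine forall_congr' fun i => ?_
  rw [ZMod.intCast_eq_intCast_iff_dvd_sub]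
  simp only [Pi.sub_apply, Nat.cast_ofNat]
  exact dvd_sub_comm

theorem norm_neg' (B : Matrix (Fin 24) (Fin 24) ℤ) (x : Fin 24 → ℤ) :
    (-x) ⬝ᵥ (B *ᵥ (-x)) = x ⬝ᵥ (B *ᵥ x) := by
  simp [mulVec_neg, dotProduct_neg, neg_dotProduct]

/-- two short vectors congruent mod 2: equal, opposite, or both of norm 8 and orthogonal -/
theorem key (B : Matrix (Fin 24) (Fin 24) ℤ) (hsymm : B.IsSymm)
    (hpos : ∀ x : Fin 24 → ℤ, x ≠ 0 → 0 < x ⬝ᵥ (B *ᵥ x))
    (heven : ∀ x : Fin 24 → ℤ, (2 : ℤ) ∣ x ⬝ᵥ (B *ᵥ x))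
    (h2 : ∀ x : Fin 24 → ℤ, x ⬝ᵥ (B *ᵥ x) ≠ 2) (x y : Fin 24 → ℤ)
    (hx : x ⬝ᵥ (B *ᵥ x) ≤ 8) (hy : y ⬝ᵥ (B *ᵥ y) ≤ 8) (hc : red x = red y) :
    y = x ∨ y = -x ∨ (x ⬝ᵥ (B *ᵥ y) = 0 ∧ x ⬝ᵥ (B *ᵥ x) = 8 ∧ y ⬝ᵥ (B *ᵥ y) = 8) := by
  rw [red_eq_iff] at hc
  by_cases h1 : y = x
  · exact Or.inl h1
  by_cases h2' : y = -x
  · exact Or.inr (Or.inl h2')
  right; right
  choose z hz using hc
  have hxy : x - y = (2 : ℤ) • z := by
    funext i; simp [hz i]
  have hz0 : z ≠ 0 := by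
    intro h0
    apply h1
    rw [h0, smul_zero] at hxy
    exact (sub_eq_zero.mp hxy).symm
  have hxy' : x + y = (2 : ℤ) • (z + y) := by
    have : x = y + (2 : ℤ) • z := by rw [← hxy]; abel
    rw [this, smul_add]; simp only [two_smul]; abel
  have hz0' : z + y ≠ 0 := by
    intro h0
    apply h2'
    rw [h0, smul_zero] at hxy'
    have := eq_neg_of_add_eq_zero_left hxy'
    rw [this, neg_neg]
  have e1 := norm_sub B hsymm x y
  have e2 := norm_add B hsymm x y
  rw [hxy, norm_two_smul] at e1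
  rw [hxy', norm_two_smul] at e2
  have g1 := norm_ge_four B hpos heven h2 z hz0
  have g2 := norm_ge_four B hpos heven h2 (z + y) hz0'
  refine ⟨?_, ?_, ?_⟩ <;> omega

/-- congruent short vectors have the same norm -/
theorem excl (B : Matrix (Fin 24) (Fin 24) ℤ) (hsymm : B.IsSymm)
    (hpos : ∀ x : Fin 24 → ℤ, x ≠ 0 → 0 < x ⬝ᵥ (B *ᵥ x))
    (heven : ∀ x : Fin 24 → ℤ, (2 : ℤ) ∣ x ⬝ᵥ (B *ᵥ x))
    (h2 : ∀ x : Fin 24 → ℤ, x ⬝ᵥ (B *ᵥ x) ≠ 2) (x y : Fin 24 → ℤ)
    (hx : x ⬝ᵥ (B *ᵥ x) ≤ 8) (hy : y ⬝ᵥ (B *ᵥ y) ≤ 8) (hc : red x = red y) :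
    x ⬝ᵥ (B *ᵥ x) = y ⬝ᵥ (B *ᵥ y) := by
  rcases key B hsymm hpos heven h2 x y hx hy hc with h | h | ⟨_, h1, h2⟩
  · rw [h]
  · rw [h, norm_neg']
  · rw [h1, h2]

/-- pairwise orthogonal nonzero vectors: at most 24 -/
theorem orth_card_le (B : Matrix (Fin 24) (Fin 24) ℤ)
    (hpos : ∀ x : Fin 24 → ℤ, x ≠ 0 → 0 < x ⬝ᵥ (B *ᵥ x))
    (R : Finset (Fin 24 → ℤ)) (hR0 : ∀ r ∈ R, r ≠ 0)
    (hR : ∀ r ∈ R, ∀ r' ∈ R, r ≠ r' → r ⬝ᵥ (B *ᵥ r') = 0) : R.card ≤ 24 := by
  have hli : LinearIndependent ℤ (fun r : R => (r : Fin 24 → ℤ)) := by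
    rw [linearIndependent_iff']
    intro s g hsum j hj
    have h0 : (∑ i ∈ s, g i • (i : Fin 24 → ℤ)) ⬝ᵥ (B *ᵥ (j : Fin 24 → ℤ)) = 0 := by
      rw [hsum, zero_dotProduct]
    rw [sum_dotProduct] at h0
    rw [Finset.sum_eq_single j] at h0
    · rw [smul_dotProduct, smul_eq_mul] at h0
      have hp := hpos j (hR0 j j.2)
      rcases mul_eq_zero.mp h0 with h | h
      · exact h
      · omega
    · intro i _ hij
      rw [smul_dotProduct, hR i i.2 j j.2 (fun h => hij (Subtype.ext h)), smul_zero]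
    · intro h; exact absurd hj h
  have := hli.fintype_card_le_finrank
  simpa using this

/-- a finite set of nonzero vectors, pairwise equal, opposite or orthogonal: at most 48 -/
theorem card_le_48 (B : Matrix (Fin 24) (Fin 24) ℤ)
    (hpos : ∀ x : Fin 24 → ℤ, x ≠ 0 → 0 < x ⬝ᵥ (B *ᵥ x))
    (A : Finset (Fin 24 → ℤ)) (hA0 : ∀ y ∈ A, y ≠ 0)
    (hA : ∀ y ∈ A, ∀ y' ∈ A, y' = y ∨ y' = -y ∨ y ⬝ᵥ (B *ᵥ y') = 0) : A.card ≤ 48 := by
  classical
  let p : Finset (Fin 24 → ℤ) → Prop :=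
    fun R => ∀ r ∈ R, ∀ r' ∈ R, r ≠ r' → r ⬝ᵥ (B *ᵥ r') = 0
  haveI : DecidablePred p := Classical.decPred p
  let P := A.powerset.filter p
  have hPne : P.Nonempty := ⟨∅, by simp [P, p]⟩
  obtain ⟨R, hRP, hmax⟩ := Finset.exists_max_image P Finset.card hPne
  have hRA : R ⊆ A := by
    have := (Finset.mem_filter.mp hRP).1
    exact Finset.mem_powerset.mp this
  have hRorth := (Finset.mem_filter.mp hRP).2
  have hsub : A ⊆ R ∪ R.image (fun r => -r) := by
    intro y hy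
    by_contra hcon
    rw [Finset.mem_union, not_or] at hcon
    obtain ⟨hyR, hyR'⟩ := hcon
    have hins : insert y R ∈ P := by
      rw [Finset.mem_filter, Finset.mem_powerset]
      refine ⟨Finset.insert_subset hy hRA, ?_⟩
      intro r hr r' hr' hne
      rw [Finset.mem_insert] at hr hr'
      rcases hr with rfl | hr
      · rcases hr' with rfl | hr'
        · exact absurd rfl hne
        · -- r = y, r' ∈ R
          rcases hA r hy r' (hRA hr') with h | h | h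
          · exact absurd (h ▸ hr') hyR
          · exfalso; apply hyR'
            rw [Finset.mem_image]
            exact ⟨r', hr', by rw [h, neg_neg]⟩
          · exact h
      · rcases hr' with rfl | hr'
        · -- r ∈ R, r' = y
          rcases hA r (hRA hr) r' hy with h | h | h
          · exact absurd (h ▸ hr) hyR
          · exfalso; apply hyR'
            rw [Finset.mem_image]
            exact ⟨r, hr, h.symm⟩
          · exact h
        · exact hRorth r hr r' hr' hne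
    have := hmax _ hins
    rw [Finset.card_insert_of_notMem hyR] at this
    omega
  have h1 : A.card ≤ (R ∪ R.image (fun r => -r)).card := Finset.card_le_card hsub
  have h2 : (R ∪ R.image (fun r => -r)).card ≤ R.card + (R.image (fun r => -r)).card :=
    Finset.card_union_le _ _
  have h3 : (R.image (fun r => -r)).card ≤ R.card := Finset.card_image_le
  have h4 : R.card ≤ 24 := orth_card_le B hpos R (fun r hr => hA0 r (hRA hr)) hRorth
  omega

theorem result (B : Matrix (Fin 24) (Fin 24) ℤ) (hsymm : B.IsSymm) (hpos : ∀ x : Fin 24 → ℤ, x ≠ 0 → 0 < x ⬝ᵥ (B *ᵥ x)) (heven : ∀ x : Fin 24 → ℤ, (2 : ℤ) ∣ x ⬝ᵥ (B *ᵥ x)) (h2 : ∀ x : Fin 24 → ℤ, x ⬝ᵥ (B *ᵥ x) ≠ 2) (h4 : {x : Fin 24 → ℤ | x ⬝ᵥ (B *ᵥ x) = 4}.ncard = 196560) (h6 : {x : Fin 24 → ℤ | x ⬝ᵥ (B *ᵥ x) = 6}.ncard = 16773120) (h8 : {x : Fin 24 → ℤ | x ⬝ᵥ (B *ᵥ x) = 8}.ncard = 398034000) (x : Fin 24 → ℤ) (hx : x ⬝ᵥ (B *ᵥ x) = 8) : {y : Fin 24 → ℤ | y ⬝ᵥ (B *ᵥ y) = 8 ∧ ∀ i,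 (2 : ℤ) ∣ (x - y) i}.ncard = 48 := by
  classical
  have hf4 : {x : Fin 24 → ℤ | x ⬝ᵥ (B *ᵥ x) = 4}.Finite :=
    Set.finite_of_ncard_ne_zero (by rw [h4]; norm_num)
  have hf6 : {x : Fin 24 → ℤ | x ⬝ᵥ (B *ᵥ x) = 6}.Finite :=
    Set.finite_of_ncard_ne_zero (by rw [h6]; norm_num)
  have hf8 : {x : Fin 24 → ℤ | x ⬝ᵥ (B *ᵥ x) = 8}.Finite :=
    Set.finite_of_ncard_ne_zero (by rw [h8]; norm_num)
  set F4 := hf4.toFinset with hF4
  set F6 := hf6.toFinset with hF6
  set F8 := hf8.toFinset with hF8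
  have c4 : F4.card = 196560 := by rw [← h4, Set.ncard_eq_toFinset_card _ hf4]
  have c6 : F6.card = 16773120 := by rw [← h6, Set.ncard_eq_toFinset_card _ hf6]
  have c8 : F8.card = 398034000 := by rw [← h8, Set.ncard_eq_toFinset_card _ hf8]
  have m4 : ∀ y, y ∈ F4 ↔ y ⬝ᵥ (B *ᵥ y) = 4 := fun y => by simp [hF4]
  have m6 : ∀ y, y ∈ F6 ↔ y ⬝ᵥ (B *ᵥ y) = 6 := fun y => by simp [hF6]
  have m8 : ∀ y, y ∈ F8 ↔ y ⬝ᵥ (B *ᵥ y) = 8 := fun y => by simp [hF8]
  let F0 : Finset (Fin 24 → ℤ) := {0}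
  let fib : Finset (Fin 24 → ℤ) → (Fin 24 → ZMod 2) → Finset (Fin 24 → ℤ) :=
    fun F c => F.filter (fun y => red y = c)
  -- fibre bounds
  have b0 : ∀ c, (fib F0 c).card ≤ 1 := by
    intro c
    calc (fib F0 c).card ≤ F0.card := Finset.card_filter_le _ _
      _ = 1 := by simp [F0]
  have bsmall : ∀ (F : Finset (Fin 24 → ℤ)) (n : ℤ), n < 8 →
      (∀ y ∈ F, y ⬝ᵥ (B *ᵥ y) = n) → ∀ c, (fib F c).card ≤ 2 := by
    intro F n hn hF c
    rcases (fib F c).eq_empty_or_nonempty with h | ⟨y, hy⟩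
    · rw [h]; simp
    · have hyF := (Finset.mem_filter.mp hy).1
      have hyc := (Finset.mem_filter.mp hy).2
      have hsub : fib F c ⊆ {y, -y} := by
        intro z hz
        have hzF := (Finset.mem_filter.mp hz).1
        have hzc := (Finset.mem_filter.mp hz).2
        have hQy := hF y hyF
        have hQz := hF z hzF
        rcases key B hsymm hpos heven h2 y z (by omega) (by omega) (hyc.trans hzc.symm)
          with h | h | ⟨_, h1, _⟩
        · simp [h]
        · simp [h]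
        · omega
      calc (fib F c).card ≤ ({y, -y} : Finset (Fin 24 → ℤ)).card := Finset.card_le_card hsub
        _ ≤ 2 := Finset.card_le_two
  have b4 := bsmall F4 4 (by norm_num) (fun y hy => (m4 y).mp hy)
  have b6 := bsmall F6 6 (by norm_num) (fun y hy => (m6 y).mp hy)
  have b8 : ∀ c, (fib F8 c).card ≤ 48 := by
    intro c
    apply card_le_48 B hpos
    · intro y hy h0
      have := (m8 y).mp (Finset.mem_filter.mp hy).1
      rw [h0] at this
      simp at this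
    · intro y hy y' hy'
      have hyQ := (m8 y).mp (Finset.mem_filter.mp hy).1
      have hyQ' := (m8 y').mp (Finset.mem_filter.mp hy').1
      have hyc := (Finset.mem_filter.mp hy).2
      have hyc' := (Finset.mem_filter.mp hy').2
      rcases key B hsymm hpos heven h2 y y' (by omega) (by omega) (hyc.trans hyc'.symm)
        with h | h | ⟨h, _, _⟩
      · exact Or.inl h
      · exact Or.inr (Or.inl h)
      · exact Or.inr (Or.inr h)
  -- exclusivity: two nonempty fibres over the same class have the same norm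
  have hex : ∀ (F F' : Finset (Fin 24 → ℤ)) (n n' : ℤ), n ≤ 8 → n' ≤ 8 → n ≠ n' →
      (∀ y ∈ F, y ⬝ᵥ (B *ᵥ y) = n) → (∀ y ∈ F', y ⬝ᵥ (B *ᵥ y) = n') →
      ∀ c, (fib F c).Nonempty → fib F' c = ∅ := by
    intro F F' n n' hn hn' hne hF hF' c ⟨y, hy⟩
    apply Finset.eq_empty_of_forall_notMem
    intro z hz
    have hyF := (Finset.mem_filter.mp hy).1
    have hyc := (Finset.mem_filter.mp hy).2
    have hzF := (Finset.mem_filter.mp hz).1
    have hzc := (Finset.mem_filter.mp hz).2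
    have hQy := hF y hyF
    have hQz := hF' z hzF
    have := excl B hsymm hpos heven h2 y z (by omega) (by omega) (hyc.trans hzc.symm)
    omega
  have n0 : ∀ y ∈ F0, y ⬝ᵥ (B *ᵥ y) = 0 := by
    intro y hy
    have : y = 0 := by simpa [F0] using hy
    rw [this]; simp
  have n4 : ∀ y ∈ F4, y ⬝ᵥ (B *ᵥ y) = 4 := fun y hy => (m4 y).mp hy
  have n6 : ∀ y ∈ F6, y ⬝ᵥ (B *ᵥ y) = 6 := fun y hy => (m6 y).mp hy
  have n8 : ∀ y ∈ F8, y ⬝ᵥ (B *ᵥ y) = 8 := fun y hy => (m8 y).mp hy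
  -- per-class inequality
  have hcls : ∀ c, 24 * (fib F4 c).card + 24 * (fib F6 c).card + (fib F8 c).card
      + 48 * (fib F0 c).card ≤ 48 := by
    intro c
    rcases (fib F8 c).eq_empty_or_nonempty with h8e | h8n
    · rcases (fib F4 c).eq_empty_or_nonempty with h4e | h4n
      · rcases (fib F6 c).eq_empty_or_nonempty with h6e | h6n
        · rw [h8e, h4e, h6e]
          have := b0 c
          simp only [Finset.card_empty]
          omega
        · have e0 := hex F6 F0 6 0 (by norm_num) (by norm_num) (by norm_num) n6 n0 c h6n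
          rw [h8e, h4e, e0]
          have := b6 c
          simp only [Finset.card_empty]
          omega
      · have e0 := hex F4 F0 4 0 (by norm_num) (by norm_num) (by norm_num) n4 n0 c h4n
        have e6 := hex F4 F6 4 6 (by norm_num) (by norm_num) (by norm_num) n4 n6 c h4n
        rw [h8e, e0, e6]
        have := b4 c
        simp only [Finset.card_empty]
        omega
    · have e0 := hex F8 F0 8 0 (by norm_num) (by norm_num) (by norm_num) n8 n0 c h8n
      have e4 := hex F8 F4 8 4 (by norm_num) (by norm_num) (by norm_num) n8 n4 c h8n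
      have e6 := hex F8 F6 8 6 (by norm_num) (by norm_num) (by norm_num) n8 n6 c h8n
      rw [e0, e4, e6]
      have := b8 c
      simp only [Finset.card_empty]
      omega
  -- global sums
  have hsumF : ∀ F : Finset (Fin 24 → ℤ),
      F.card = ∑ c : Fin 24 → ZMod 2, (fib F c).card := by
    intro F
    exact Finset.card_eq_sum_card_fiberwise (fun _ _ => Finset.mem_univ _)
  have hT : (Finset.univ : Finset (Fin 24 → ZMod 2)).card = 16777216 := by
    rw [Finset.card_univ, Fintype.card_fun, ZMod.card, Fintype.card_fin]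
    norm_num
  have htot : ∑ c : Fin 24 → ZMod 2, (24 * (fib F4 c).card + 24 * (fib F6 c).card
      + (fib F8 c).card + 48 * (fib F0 c).card) = ∑ _c : Fin 24 → ZMod 2, 48 := by
    rw [Finset.sum_add_distrib, Finset.sum_add_distrib, Finset.sum_add_distrib,
      ← Finset.mul_sum, ← Finset.mul_sum, ← Finset.mul_sum, ← hsumF, ← hsumF, ← hsumF, ← hsumF,
      c4, c6, c8, Finset.sum_const, hT]
    simp [F0]
  have hpt := (Finset.sum_eq_sum_iff_of_le (fun c _ => hcls c)).mp htot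
  -- the class of x
  have hx8 : x ∈ F8 := (m8 x).mpr hx
  have hxfib : (fib F8 (red x)).Nonempty := ⟨x, Finset.mem_filter.mpr ⟨hx8, rfl⟩⟩
  have e0 := hex F8 F0 8 0 (by norm_num) (by norm_num) (by norm_num) n8 n0 _ hxfib
  have e4 := hex F8 F4 8 4 (by norm_num) (by norm_num) (by norm_num) n8 n4 _ hxfib
  have e6 := hex F8 F6 8 6 (by norm_num) (by norm_num) (by norm_num) n8 n6 _ hxfib
  have hfin := hpt (red x) (Finset.mem_univ _)
  rw [e0, e4, e6] at hfin
  simp only [Finset.card_empty, mul_zero, zero_add, add_zero] at hfin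
  -- translate back to the set
  have hset : {y : Fin 24 → ℤ | y ⬝ᵥ (B *ᵥ y) = 8 ∧ ∀ i, (2 : ℤ) ∣ (x - y) i}
      = ((fib F8 (red x) : Finset (Fin 24 → ℤ)) : Set (Fin 24 → ℤ)) := by
    ext y
    simp only [Set.mem_setOf_eq, Finset.coe_filter, fib, m8]
    rw [← red_eq_iff]
    constructor
    · rintro ⟨h1, h2⟩; exact ⟨h1, h2.symm⟩
    · rintro ⟨h1, h2⟩; exact ⟨h1, h2.symm⟩
  rw [hset, Set.ncard_coe_finset]
  exact hfin

end Cfsg.Agent.S1588
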