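import Cfsg.Statements.S1904
import Cfsg.Agent.S0119
import Cfsg.Agent.Lib.Helper32.N5Defs
import Cfsg.Agent.Lib.Helper12.N5InvolMemCenter
import Cfsg.Agent.Lib.Helper12.N5SpDataOfSpecial
import Cfsg.Agent.Lib.Helper16.N5CardInvol32
import Cfsg.Agent.Lib.Helper19.N5CardLe64
import Cfsg.Agent.Lib.Helper20.N5CardLeFour
import Cfsg.Agent.Lib.Helper20.N5NoNE8
import Cfsg.Agent.Lib.Helper24.N5AlphaThreeFalse
import Cfsg.Agent.Lib.Helper26.N5CardInvol3
import Cfsg.Agent.Lib.Helper26.N5Q8
import Cfsg.Agent.Lib.Helper30.N5AlphaTwo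
import Cfsg.Agent.Lib.Helper33.N5InvolMem
import Cfsg.Agent.Lib.Helper33.N5IsSpecial
import Cfsg.Agent.Lib.Helper4.N5CardLe32
import Cfsg.Agent.Lib.Helper42.N5BetaExistsN
import Cfsg.Agent.Lib.Helper46.N5AutTrivOmega
import Cfsg.Agent.Lib.Helper46.N5ExistsMinInv
import Cfsg.Agent.Lib.Helper47.N5CardNe16
import Cfsg.Agent.Lib.Helper49.N5AlphaThreePure
import Cfsg.Agent.Lib.Helper65.N5CaseTwoSetup
import Cfsg.Agent.Lib.Helper65.N5FalseOfCharIndexTwo
import Cfsg.Agent.Lib.Helper81.N5Sc
import Cfsg.Agent.Lib.Helper81.N5Sd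
import Cfsg.Agent.Lib.Helper94.N5SigmaData
import Cfsg.Agent.Lib.Helper94.N5TrivialOnV
import Cfsg.Agent.Lib.Helper96.N5CentralizerEqSelf
import Cfsg.Agent.Lib.Helper99.N5BetaFinish

set_option autoImplicit false
open Cfsg

namespace Cfsg.Agent.S1904

open Cfsg.Agent.Helper32.N5
open Cfsg.Agent.Helper12.N5
open Cfsg.Agent.Helper16.N5
open Cfsg.Agent.Helper19.N5
open Cfsg.Agent.Helper20.N5
open Cfsg.Agent.Helper24.N5
open Cfsg.Agent.Helper26.N5
open Cfsg.Agent.Helper30.N5
open Cfsg.Agent.Helper33.N5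
open Cfsg.Agent.Helper4.N5
open Cfsg.Agent.Helper42.N5
open Cfsg.Agent.Helper46.N5
open Cfsg.Agent.Helper47.N5
open Cfsg.Agent.Helper49.N5
open Cfsg.Agent.Helper65.N5
open Cfsg.Agent.Helper81.N5
open Cfsg.Agent.Helper94.N5
open Cfsg.Agent.Helper96.N5
open Cfsg.Agent.Helper99.N5
open scoped commutatorElement

/-- Arithmetic: a power of two between 32 and 64 is 32 or 64. -/
theorem pow_two_32_64 (n : ℕ) (h1 : 32 ≤ 2 ^ n) (h2 : 2 ^ n ≤ 64) : 2 ^ n = 32 ∨ 2 ^ n = 64 := by
  have hn5 : 5 ≤ n := by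
    by_contra h
    have : n ≤ 4 := by omega
    have := Nat.pow_le_pow_right (show 0 < 2 by norm_num) this
    omega
  have hn6 : n ≤ 6 := by
    by_contra h
    have : 7 ≤ n := by omega
    have := Nat.pow_le_pow_right (show 0 < 2 by norm_num) this
    omega
  interval_cases n <;> simp

/-- Arithmetic: a power of two that is at most 32, at least 5 and not 16 is 8 or 32. -/
theorem pow_two_8_32 (n : ℕ) (h1 : 5 ≤ 2 ^ n) (h2 : 2 ^ n ≤ 32) (h3 : 2 ^ n ≠ 16) :
    2 ^ n = 8 ∨ 2 ^ n = 32 := by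
  have hn6 : n ≤ 5 := by
    by_contra h
    have : 6 ≤ n := by omega
    have := Nat.pow_le_pow_right (show 0 < 2 by norm_num) this
    omega
  interval_cases n <;> simp_all

/-- Arithmetic: a power of two that is at most 4 and not 1 is 2 or 4. -/
theorem pow_two_2_4 (n : ℕ) (h1 : 2 ^ n ≠ 1) (h2 : 2 ^ n ≤ 4) : 2 ^ n = 2 ∨ 2 ^ n = 4 := by
  have hn6 : n ≤ 2 := by
    by_contra h
    have : 3 ≤ n := by omega
    have := Nat.pow_le_pow_right (show 0 < 2 by norm_num) this
    omega
  interval_cases n <;> simp_all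

section
variable {X : Type*} [Group X] [Finite X]

/-- Existence of a maximal `A`-invariant normal abelian subgroup above `V`. -/
theorem exists_max_inv (A : Subgroup (MulAut X)) (V : Subgroup X) (hVn : V.Normal) (hVi : AInv A V)
    (hVab : Ab V) :
    ∃ B : Subgroup X, B.Normal ∧ AInv A B ∧ Ab B ∧ V ≤ B ∧
      ∀ B' : Subgroup X, B'.Normal → AInv A B' → Ab B' → B ≤ B' → B' = B := by
  classical
  let S : Set (Subgroup X) := {B | B.Normal ∧ AInv A B ∧ Ab B ∧ V ≤ B}
  have hSf : S.Finite := Set.toFinite S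
  have hSne : S.Nonempty := ⟨V, hVn, hVi, hVab, le_refl V⟩
  obtain ⟨B, hB, hBmax⟩ := hSf.exists_maximal hSne
  refine ⟨B, hB.1, hB.2.1, hB.2.2.1, hB.2.2.2, ?_⟩
  intro B' hn hi hab hle
  have hB' : B' ∈ S := ⟨hn, hi, hab, le_trans hB.2.2.2 hle⟩
  exact le_antisymm (hBmax hB' hle) hle

end

section
variable {X : Type*} [Group X] [Finite X]

/-- The `|Z| = 4` end game: special data with `|Z| = 4` and `X' = Z` give the second alternative. -/
theorem concl_of_spData_four (hX : IsPGroup 2 X) (h8 : NoNE8 X) (A : Subgroup (MulAut X))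
    (hXA : ComGen A) (Z : Subgroup X) (hd : SpData Z) (hZ4 : Nat.card Z = 4)
    (hcomm : commutator X = Z) : Concl X := by
  have hinv := invol_mem_center_of_center_four h8 Z hd hZ4
  have h64 := card_le_64_of_center_four Z hd hZ4 hinv
  have h32 := card_ge_32_of_commutator_four Z hd hZ4 hcomm
  have hsp := isSpecial_of_spData hX Z hd hcomm
  obtain ⟨n, hn⟩ := IsPGroup.iff_card.mp hX
  have hcases : Nat.card X = 32 ∨ Nat.card X = 64 := by
    rw [hn] at h32 h64 ⊢
    exact pow_two_32_64 n h32 h64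
  rcases hcases with h | h
  · exfalso
    obtain ⟨M, ⟨hMi, hMab⟩, huniq⟩ := existsUnique_abelian_index_two Z hd hZ4 h
    have hMc : M.Characteristic := by
      rw [Subgroup.characteristic_iff_map_eq]
      intro φ
      apply huniq
      refine ⟨?_, ?_⟩
      · rw [← hMi]
        exact Subgroup.index_map_equiv M φ
      · rintro a ⟨a', ha', rfl⟩ b ⟨b', hb', rfl⟩
        have := hMab a' ha' b' hb'
        simp only [MulEquiv.coe_toMonoidHom, ← map_mul, this]
    exact false_of_char_index_two M hMc hMi A hXA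
  · right; left
    refine ⟨hsp, h, card_invol_eq_three Z hd.el hZ4 hinv, ?_⟩
    intro x hx
    rw [← hd.eqc]
    apply hinv
    rw [← hx]
    exact pow_orderOf_eq_one x

end

section
variable {X : Type*} [Group X] [Finite X]

/-- CASE 1: `A` centralizes every characteristic abelian subgroup. -/
theorem concl_case_one (hX : IsPGroup 2 X) (hna : ¬ ∀ a b : X, a * b = b * a) (h8 : NoNE8 X)
    (hP1 : ∀ E : Subgroup X, E.Normal → Cfsg.IsElementaryAbelian 2 E → Nat.card E ≤ 4)
    (A : Subgroup (MulAut X)) (hA : Odd (Nat.card A)) (hXA : ComGen A)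
    (hchar : ∀ H : Subgroup X, H.Characteristic → IsMulCommutative H →
      ∀ a ∈ A, ∀ h ∈ H, a h = h) : Concl X := by
  have : Fact (Nat.Prime 2) := ⟨Nat.prime_two⟩
  have hAc : Nat.Coprime (Nat.card A) 2 := Nat.coprime_two_right.mpr hA
  have hGA : Subgroup.closure {x : X | ∃ g : X, ∃ a ∈ A, x = g⁻¹ * a g} = ⊤ := by
    have hset : {x : X | ∃ g : X, ∃ a ∈ A, x = g⁻¹ * a g} =
        {g : X | ∃ φ ∈ A, ∃ x : X, g = x⁻¹ * φ x} := by
      ext x
      constructor
      · rintro ⟨g, a, ha, rfl⟩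
        exact ⟨a, ha, g, rfl⟩
      · rintro ⟨a, ha, g, rfl⟩
        exact ⟨g, a, ha, rfl⟩
    rw [hset]
    exact hXA
  obtain ⟨hsp, -⟩ := Cfsg.Agent.S0119.result (p := 2) hX A hAc hGA hchar
  have hd := spData_of_special hsp
  have hZle : Nat.card (Subgroup.center X) ≤ 4 :=
    hP1 _ inferInstance ⟨inferInstance, hd.el⟩
  obtain ⟨m, hm⟩ := IsPGroup.iff_card.mp (hX.to_subgroup (Subgroup.center X))
  have hZne : Nat.card (Subgroup.center X) ≠ 1 := by
    intro h1
    have : Nontrivial X := by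
      by_contra hnt
      rw [not_nontrivial_iff_subsingleton] at hnt
      exact hna (fun a b => Subsingleton.elim _ _)
    have hbot : Subgroup.center X = ⊥ := Subgroup.card_eq_one.mp h1
    exact (ne_of_gt (IsPGroup.bot_lt_center hX)) hbot
  have hcases : Nat.card (Subgroup.center X) = 2 ∨ Nat.card (Subgroup.center X) = 4 := by
    rw [hm] at hZle hZne ⊢
    exact pow_two_2_4 m hZne hZle
  rcases hcases with h2 | h4
  · have hes : Cfsg.IsExtraspecial 2 X := ⟨hsp, h2⟩
    have h32 := card_le_32_of_center_two hP1 hX _ hd h2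
    have h16 := card_ne_16_of_center_two _ hd h2
    obtain ⟨n, hn⟩ := IsPGroup.iff_card.mp hX
    have h5 : 5 ≤ Nat.card X := by
      by_contra hlt
      push Not at hlt
      -- `|X / Z| ≤ 2`, so `X / Z` is cyclic and `X` is abelian
      have hidx : (Subgroup.center X).index * Nat.card (Subgroup.center X) = Nat.card X :=
        Subgroup.index_mul_card _
      rw [h2] at hidx
      have hidx2 : (Subgroup.center X).index ≤ 2 := by omega
      have hcyc : IsCyclic (X ⧸ Subgroup.center X) := by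
        have hc : Nat.card (X ⧸ Subgroup.center X) ≤ 2 := hidx2
        have hpos : 0 < Nat.card (X ⧸ Subgroup.center X) := Nat.card_pos
        rcases (by omega : Nat.card (X ⧸ Subgroup.center X) = 1 ∨
            Nat.card (X ⧸ Subgroup.center X) = 2) with h | h
        · have : Subsingleton (X ⧸ Subgroup.center X) :=
            (Nat.card_eq_one_iff_unique.mp h).1
          infer_instance
        · have : Fact (Nat.Prime 2) := ⟨Nat.prime_two⟩
          exact isCyclic_of_prime_card h
      have hcomm : IsMulCommutative X :=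
        MonoidHom.isMulCommutative_of_isCyclic_of_ker_le_center
          (QuotientGroup.mk' (Subgroup.center X)) (by simp)
      exact hna (fun a b => hcomm.is_comm.comm a b)
    have hcases : Nat.card X = 8 ∨ Nat.card X = 32 := by
      rw [hn] at h32 h16 h5 ⊢
      exact pow_two_8_32 n h5 h32 h16
    rcases hcases with h | h
    · left
      exact q8_of_card_eight h hna A hXA
    · right; right
      exact ⟨hes, h, card_invol_of_card_32 h8 _ hd h2 h⟩
  · exact concl_of_spData_four hX h8 A hXA _ hd h4 hsp.2.2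

end

section
variable {X : Type*} [Group X] [Finite X]

/-- CASE 2: some element of `A` moves an element of a characteristic abelian subgroup. -/
theorem concl_case_two (hX : IsPGroup 2 X) (hna : ¬ ∀ a b : X, a * b = b * a) (h8 : NoNE8 X)
    (hP1 : ∀ E : Subgroup X, E.Normal → Cfsg.IsElementaryAbelian 2 E → Nat.card E ≤ 4)
    (A : Subgroup (MulAut X)) (hA : Odd (Nat.card A)) (hXA : ComGen A)
    (H : Subgroup X) (hHc : H.Characteristic) (hHab : IsMulCommutative H)
    (a : MulAut X) (ha : a ∈ A) (h : X) (hh : h ∈ H) (hne : a h ≠ h) : Concl X := by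
  have hSe : ∀ M : Subgroup X, M.Characteristic → M.index = 2 → False :=
    fun M hM hi => false_of_char_index_two M hM hi A hXA
  have hT1a : ∀ (H : Subgroup X), Ab H → ∀ a : MulAut X, (∀ x ∈ H, a x ∈ H) → Odd (orderOf a) →
      (∀ x ∈ H, x ^ 2 = 1 → a x = x) → ∀ x ∈ H, a x = x :=
    fun H hHab a haH hodd htriv => aut_trivial_of_trivial_on_omega hX H hHab a haH hodd htriv
  obtain ⟨V, hVc, σ, hσA, hV⟩ := case_two_setup hX hP1 hT1a A hA hSe H hHc hHab a ha h hh hne
  have hVn : V.Normal := inferInstance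
  have hVi : AInv A V := by
    intro φ _ x hx
    have := (Subgroup.characteristic_iff_map_le.mp hVc) φ
    exact this ⟨x, hx, rfl⟩
  have hVab : Ab V := by
    intro a ha b _
    exact ((Subgroup.mem_center_iff.mp (hV.cen ha)) b).symm
  have hKV : ∀ N : Subgroup X, N.Normal → Ab N → V ≤ N → ∀ x ∈ N, x ^ 2 = 1 → x ∈ V :=
    fun N hN hNab hVN x hx hx2 =>
      invol_mem_of_normal_abelian hP1 V hV.el hV.card N hN hNab hVN x hx hx2
  have hmin : ∀ B C : Subgroup X, B.Normal → AInv A B → C.Normal → AInv A C → B < C →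
      ∃ N : Subgroup X, N.Normal ∧ AInv A N ∧ B < N ∧ N ≤ C ∧ (∀ n ∈ N, ∀ x : X, ⁅n, x⁆ ∈ B) ∧
        (∀ n ∈ N, n ^ 2 ∈ B) ∧
        ∀ M : Subgroup X, M.Normal → AInv A M → B ≤ M → M ≤ N → M = B ∨ M = N :=
    fun B C hBn hBi hCn hCi hBC => exists_min_invariant hX A B C hBn hBi hCn hCi hBC
  obtain ⟨B, hBn, hBi, hBab, hVB, hmax⟩ := exists_max_inv A V hVn hVi hVab
  have hneB : ∃ x : X, x ∉ B := by
    by_contra hcon
    push Not at hcon
    exact hna (fun a b => hBab a (hcon a) b (hcon b))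
  have hfin : (∀ x : X, x ^ 2 ∈ V) ∧ Subgroup.center X = V ∧ commutator X = V := by
    by_cases hBV : B = V
    · rw [hBV] at hmax hneB
      obtain ⟨N, hN⟩ := beta_exists_N hX A V σ hσA hV hVi hVn hKV hmin
        (fun Y _ _ Z hd h4 hinv => card_le_64_of_center_four Z hd h4 hinv)
        (fun Y _ _ Z hd h4 h32 => existsUnique_abelian_index_two Z hd h4 h32) hmax hneB
      exact beta_finish hX A V σ hσA hV hVi hVn hKV hmin hmax N hN
    · have hBc := centralizer_eq_self hX A V σ hσA hV hKV hmin B hBn hBi hBab hVB hBV hmax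
      have hVΩ : ∀ b ∈ B, b ^ 2 = 1 → b ∈ V := fun b hb hb2 => hKV B hBn hBab hVB b hb hb2
      have htriv : ∀ φ ∈ A, (∀ v ∈ V, φ v = v) → ∀ x : X, φ x = x :=
        fun φ hφ hφV =>
          trivial_of_trivial_on_V hX hT1a A hA B hBn hBi hBab hBc V hVB hVΩ φ hφ hφV
      obtain ⟨hσ3, hgen⟩ := sigma_data A hA hXA V σ hσA hV hVi htriv
      have hBσ : ∀ b ∈ B, σ b ∈ B := hBi σ hσA
      by_cases hB4 : ∀ b ∈ B, b ^ 4 = 1
      · exact alpha_two hX σ hσ3 hgen V hV B hBn hBσ hBab hBc hVB hVΩ hB4 hneB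
      · exfalso
        push Not at hB4
        obtain ⟨b₀, hb₀, hb₀4⟩ := hB4
        obtain ⟨l, hl, hlV, hlp⟩ := alpha_three_pure hX σ hσ3 hgen V hV B hBn hBσ hBab hBc hVB hVΩ
          b₀ hb₀ hb₀4 hneB
        exact alpha_three_false hX hP1 σ hσ3 V hV B hBn hBσ hBab hBc hVB hVΩ b₀ hb₀ hb₀4 l hl
          hlV hlp
  obtain ⟨hsq, hcen, hcomm⟩ := hfin
  have hd : SpData V := by
    refine ⟨hcen.symm, hsq, ?_, hV.el⟩
    intro x y
    rw [← hcomm]
    exact Subgroup.commutator_mem_commutator (Subgroup.mem_top x) (Subgroup.mem_top y)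
  exact concl_of_spData_four hX h8 A hXA V hd hV.card hcomm

end

/-- Let X be a finite nonabelian 2-group with no normal abelian subgroup that is self-centralizing and contains an elementary abelian subgroup of order 8. Suppose a group A of automorphisms of X of odd order satisfies [X, A] = X. Then X is the quaternion group of order 8, or X is special of order 64 with exactly three involutions, all central, or X is extraspecial of order 32 with exactly eleven involutions (the central product of a quaternion group and a dihedral group of order 8). -/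
theorem result {X : Type*} [Group X] [Finite X] (hX : IsPGroup 2 X) (hna : ¬ IsMulCommutative X)
    (hscn : ¬ ∃ A : Subgroup X, A.Normal ∧ Subgroup.centralizer (A : Set X) = A ∧
      ∃ E : Subgroup X, E ≤ A ∧ Cfsg.IsElementaryAbelian 2 E ∧ Nat.card E = 8)
    (A : Subgroup (MulAut X)) (hA : Odd (Nat.card A))
    (hXA : Subgroup.closure {g : X | ∃ φ ∈ A, ∃ x : X, g = x⁻¹ * φ x} = ⊤) :
    Nonempty (X ≃* QuaternionGroup 2) ∨
      (Cfsg.IsSpecial 2 X ∧ Nat.card X = 64 ∧ Nat.card {x : X // orderOf x = 2} = 3 ∧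
        ∀ x : X, orderOf x = 2 → x ∈ Subgroup.center X) ∨
      (Cfsg.IsExtraspecial 2 X ∧ Nat.card X = 32 ∧ Nat.card {x : X // orderOf x = 2} = 11) := by
  have h8 : NoNE8 X := noNE8_of_noSCN3 hX hscn
  have hP1 : ∀ E : Subgroup X, E.Normal → Cfsg.IsElementaryAbelian 2 E → Nat.card E ≤ 4 :=
    fun E hE hEe => card_le_four_of_normal_elementary hX h8 E hE hEe
  have hna' : ¬ ∀ a b : X, a * b = b * a := fun hc => hna ⟨⟨hc⟩⟩
  have hXA' : ComGen A := hXA
  by_cases hchar : ∀ H : Subgroup X, H.Characteristic → IsMulCommutative H →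
      ∀ a ∈ A, ∀ h ∈ H, a h = h
  · exact concl_case_one hX hna' h8 hP1 A hA hXA' hchar
  · push Not at hchar
    obtain ⟨H, hHc, hHab, a, ha, h, hh, hne⟩ := hchar
    exact concl_case_two hX hna' h8 hP1 A hA hXA' H hHc hHab a ha h hh hne

end Cfsg.Agent.S1904
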