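import Cfsg.Statements.S5096
import Cfsg.Agent.Lib.Helper84.FusBasic

set_option autoImplicit false
open Cfsg

namespace Cfsg.Agent.S5096

open Cfsg.Agent.Helper84 Cfsg.FusionSystem

/-- For any fusion system over a subgroup S and any Q ≤ S, the maps of the normalizer system N_F(Q) — those maps between subgroups of N_S(Q) that extend to the subgroup generated with Q carrying Q onto Q — form a fusion system over N_S(Q). -/
theorem result {Ω : Type*} [Group Ω] {S : Subgroup Ω} (F : Cfsg.FusionSystem S) (Q : Subgroup Ω) (hQ : Q ≤ S) : ∃ E : Cfsg.FusionSystem (Cfsg.FusionSystem.normalizerIn S Q), F.IsNormalizerSystem Q E := by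
  refine ⟨{
    Hom := fun P => F.normalizerHom Q P
    le_of_mem := fun h => ⟨h.2.1, h.2.2.1⟩
    injective_of_mem := fun h => F.injective_of_mem h.1
    conj_mem := ?_
    comp_mem := ?_
    inv_mem := ?_ }, fun P => rfl⟩
  · -- conj_mem
    intro P g hP hg
    have hPS : P ≤ S := hP.trans inf_le_left
    have hgS : g ∈ S := hg.1
    have hgN : g ∈ Subgroup.normalizer (Q : Set Ω) := hg.2
    refine ⟨F.conj_mem hPS hgS, hP, ?_, conjHom (P ⊔ Q) g, F.conj_mem (sup_le hPS hQ) hgS, ?_, ?_⟩
    · intro x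
      exact (normalizerIn S Q).mul_mem ((normalizerIn S Q).mul_mem hg (hP x.2))
        ((normalizerIn S Q).inv_mem hg)
    · intro x
      rfl
    · rw [map_subgroupOf_sup_right_eq]
      constructor
      · intro y
        show g * y * g⁻¹ ∈ Q
        exact ((Subgroup.mem_normalizer_iff.mp hgN) y).mp y.2
      · intro y' hy'
        have : g⁻¹ * y' * g ∈ Q := by
          have := ((Subgroup.mem_normalizer_iff.mp hgN) (g⁻¹ * y' * g)).mpr (by
            have : g * (g⁻¹ * y' * g) * g⁻¹ = y' := by group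
            rw [this]; exact hy')
          exact this
        refine ⟨⟨g⁻¹ * y' * g, this⟩, ?_⟩
        show g * (g⁻¹ * y' * g) * g⁻¹ = y'
        group
  · -- comp_mem
    rintro P P' φ ψ ⟨hφ, hPN, hφN, φh, hφh, hφext, hφQ⟩ ⟨hψ, hP'N, hψN, ψh, hψh, hψext, hψQ⟩ h
    rw [map_subgroupOf_sup_right_eq] at hφQ hψQ
    have hval : ∀ z : ↥(P ⊔ Q), φh z ∈ P' ⊔ Q :=
      sup_map_mem φh (fun x => by rw [hφext]; exact h x) hφQ.1
    refine ⟨F.comp_mem hφ hψ h, hPN, fun x => hψN _, ψh.comp (φh.codRestrict (P' ⊔ Q) hval),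
      F.comp_mem hφh hψh hval, ?_, ?_⟩
    · intro x
      show ψh (φh.codRestrict (P' ⊔ Q) hval (Subgroup.inclusion le_sup_left x)) = ψ (φ.codRestrict P' h x)
      rw [← hψext]
      congr 1
      apply Subtype.ext
      exact hφext x
    · rw [map_subgroupOf_sup_right_eq]
      constructor
      · intro y
        have h1 := hφQ.1 y
        have h2 := hψQ.1 ⟨_, h1⟩
        exact h2
      · intro y' hy'
        obtain ⟨y1, hy1⟩ := hψQ.2 y' hy'
        obtain ⟨y, hy⟩ := hφQ.2 y1 y1.2
        refine ⟨y, ?_⟩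
        rw [← hy1]
        show ψh (φh.codRestrict (P' ⊔ Q) hval (Subgroup.inclusion le_sup_right y)) = _
        congr 1
        apply Subtype.ext
        exact hy
  · -- inv_mem
    rintro P φ ⟨hφ, hPN, hφN, φh, hφh, hφext, hφQ⟩
    rw [map_subgroupOf_sup_right_eq] at hφQ
    obtain ⟨ψ, hψ, hψφ⟩ := F.inv_mem hφ
    have hrange : φh.range = φ.range ⊔ Q := by
      apply le_antisymm
      · rintro _ ⟨z, rfl⟩
        exact sup_map_mem φh (fun x => by rw [hφext]; exact ⟨x, rfl⟩) hφQ.1 z
      · apply sup_le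
        · rintro _ ⟨x, rfl⟩
          exact ⟨_, hφext x⟩
        · intro y' hy'
          obtain ⟨y, hy⟩ := hφQ.2 y' hy'
          exact ⟨_, hy⟩
    obtain ⟨ψh, hψh, -, hψh1, hψh2⟩ := inv_exists F hφh hrange
    refine ⟨ψ, ⟨hψ, ?_, ?_, ψh, hψh, ?_, ?_⟩, hψφ⟩
    · rintro _ ⟨x, rfl⟩
      exact hφN x
    · rintro ⟨_, x, rfl⟩
      rw [hψφ]
      exact hPN x.2
    · rintro ⟨_, x, rfl⟩
      rw [hψφ]
      have := hψh1 (Subgroup.inclusion le_sup_left x) (by rw [hφext]; exact (le_sup_left : φ.range ≤ _) ⟨x, rfl⟩)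
      refine Eq.trans ?_ this
      congr 1
      apply Subtype.ext
      exact (hφext x).symm
    · rw [map_subgroupOf_sup_right_eq]
      constructor
      · intro y'
        obtain ⟨y, hy⟩ := hφQ.2 y' y'.2
        have := hψh1 (Subgroup.inclusion le_sup_right y) (by rw [hy]; exact (le_sup_right : Q ≤ _) y'.2)
        have h2 : ψh (Subgroup.inclusion le_sup_right y') = y := by
          refine Eq.trans ?_ this
          congr 1
          apply Subtype.ext
          exact hy.symm
        rw [h2]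
        exact y.2
      · intro y hy
        have hy1 := hφQ.1 ⟨y, hy⟩
        refine ⟨⟨_, hy1⟩, ?_⟩
        exact hψh1 (Subgroup.inclusion le_sup_right ⟨y, hy⟩) ((le_sup_right : Q ≤ _) hy1)

end Cfsg.Agent.S5096
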