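import Cfsg.Statements.S5104
import Cfsg.Agent.Lib.Helper84.FusBasic

set_option autoImplicit false
open Cfsg

namespace Cfsg.Agent.S5104

open Cfsg.Agent.Helper84 Cfsg.FusionSystem

/-- In a saturated fusion system over a finite p-group S, a fully centralized subgroup U with C_S(U) ≤ U is centric. -/
theorem result {Ω : Type*} [Group Ω] {S : Subgroup Ω} [Finite S] (p : ℕ) [Fact p.Prime] (hS : IsPGroup p S) (F : Cfsg.FusionSystem S) (hF : F.IsSaturated p) (U : Subgroup Ω) (hU : F.IsFullyCentralized U) (hC : Cfsg.FusionSystem.centralizerIn S U ≤ U) : F.IsCentric U := by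
  refine ⟨hU.1, ?_⟩
  intro Q hUQ
  have hcard := hU.2 Q hUQ
  obtain ⟨φ, hφ, hr⟩ := hUQ
  have hQS : Q ≤ S := (conj_le F ⟨φ, hφ, hr⟩).2
  have hinj := F.injective_of_mem hφ
  -- Z(Q) ≤ C_S(Q)
  have hZle : Q ⊓ Subgroup.centralizer (Q : Set Ω) ≤ centralizerIn S Q :=
    inf_le_inf_right _ hQS
  have hCU : centralizerIn S U = U ⊓ Subgroup.centralizer (U : Set Ω) := by
    apply le_antisymm
    · exact le_inf hC inf_le_right
    · exact inf_le_inf_right _ hU.1
  have hfin : Finite (centralizerIn S Q) :=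
    Finite.of_injective (Subgroup.inclusion (inf_le_left : centralizerIn S Q ≤ S))
      (Subgroup.inclusion_injective _)
  have hfin2 : Finite ↥(Q ⊓ Subgroup.centralizer (Q : Set Ω)) :=
    Finite.of_injective (Subgroup.inclusion hZle) (Subgroup.inclusion_injective _)
  -- injection Z(U) → Z(Q)
  have hmap : ∀ z : ↥(U ⊓ Subgroup.centralizer (U : Set Ω)),
      φ ⟨z, z.2.1⟩ ∈ Q ⊓ Subgroup.centralizer (Q : Set Ω) := by
    intro z
    refine Subgroup.mem_inf.mpr ⟨hr ▸ ⟨_, rfl⟩, ?_⟩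
    rw [Subgroup.mem_centralizer_iff]
    intro y hy
    have hy' : y ∈ φ.range := hr ▸ hy
    obtain ⟨x, rfl⟩ := hy'
    rw [← map_mul, ← map_mul]
    congr 1
    apply Subtype.ext
    have hz : (z : Ω) ∈ Subgroup.centralizer (U : Set Ω) := z.2.2
    exact hz x x.2
  have hle2 : Nat.card ↥(U ⊓ Subgroup.centralizer (U : Set Ω)) ≤
      Nat.card ↥(Q ⊓ Subgroup.centralizer (Q : Set Ω)) := by
    apply Nat.card_le_card_of_injective
      (fun z : ↥(U ⊓ Subgroup.centralizer (U : Set Ω)) =>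
        (⟨φ ⟨z, z.2.1⟩, hmap z⟩ : ↥(Q ⊓ Subgroup.centralizer (Q : Set Ω))))
    intro z z' h
    have h1 : φ ⟨z, z.2.1⟩ = φ ⟨z', z'.2.1⟩ := congrArg Subtype.val h
    have h2 := hinj h1
    have h3 : (z : Ω) = z' := congrArg (fun w : U => (w : Ω)) h2
    exact Subtype.ext h3
  rw [hCU] at hcard
  have heq : Q ⊓ Subgroup.centralizer (Q : Set Ω) = centralizerIn S Q := by
    apply Subgroup.eq_of_le_of_card_ge hZle
    exact hcard.trans hle2
  rw [← heq]
  exact inf_le_left

end Cfsg.Agent.S5104
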