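import Cfsg.Statements.S5080
import Cfsg.Agent.Lib.Helper84.FusBasic
import Cfsg.Agent.Lib.Helper84.GrpBasic

set_option autoImplicit false
open Cfsg

namespace Cfsg.Agent.S5080

open Cfsg.Agent.Helper84 Cfsg.FusionSystem

/-- In a saturated fusion system over a finite p-group, every essential subgroup is radical (it is centric and fully normalized by definition, so it is centric-radical and fully normalized). -/
theorem result {Ω : Type*} [Group Ω] {S : Subgroup Ω} [Finite S] (p : ℕ) [Fact p.Prime] (hS : IsPGroup p S) (F : Cfsg.FusionSystem S) (hF : F.IsSaturated p) (P : Subgroup Ω) (hP : F.IsEssential p P) : F.IsRadical p P := by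
  obtain ⟨hcen, hfn, hnorm, E, hE⟩ := hP
  have hPS : P ≤ S := hcen.1
  refine ⟨hPS, ?_⟩
  have hInn : Inn P ≤ F.autGroup P := inn_le_autGroup F hPS
  have hPp : IsPGroup p P := hS.to_le hPS
  have hInnp : IsPGroup p (Inn P) :=
    hPp.of_surjective (MulAut.conj : P →* MulAut P).rangeRestrict
      (MonoidHom.rangeRestrict_surjective _)
  have hIp : IsPGroup p ((Inn P).subgroupOf (F.autGroup P)) :=
    hInnp.comap_of_injective _ (Subgroup.subtype_injective _)
  have hcore : pCore p (F.autGroup P) = (Inn P).subgroupOf (F.autGroup P) := by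
    apply le_antisymm
    · apply sSup_le
      rintro N ⟨hNn, hNp⟩
      have hNbar : (N.map (QuotientGroup.mk' ((Inn P).subgroupOf (F.autGroup P)))).Normal :=
        hNn.map _ (QuotientGroup.mk'_surjective _)
      have hNbarp : IsPGroup p (N.map (QuotientGroup.mk' ((Inn P).subgroupOf (F.autGroup P)))) :=
        hNp.map _
      have := normal_pSubgroup_eq_bot_of_stronglyPEmbedded hE _ hNbarp
      rw [Subgroup.map_eq_bot_iff, QuotientGroup.ker_mk'] at this
      exact this
    · exact le_sSup ⟨hnorm, hIp⟩
  rw [hcore]
  exact Subgroup.map_subgroupOf_eq_of_le hInn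

end Cfsg.Agent.S5080
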