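import Cfsg.Statements.S5144
import Mathlib
import Cfsg.Agent.Lib.Helper85.FusionBasic

set_option autoImplicit false
open Cfsg

namespace Cfsg.Agent.S5144

open Cfsg.Agent.Helper85

variable {Ω : Type*} [Group Ω] {S : Subgroup Ω}

theorem bot_central (F : FusionSystem S) : F.IsCentral ⊥ := by
  refine ⟨bot_le, fun P φ hφ => ?_⟩
  have hle : P ⊔ ⊥ ≤ P := by simp
  refine ⟨φ.comp (Subgroup.inclusion hle), restrict_mem F hφ hle, fun x => ?_, ?_⟩
  · simp only [MonoidHom.comp_apply]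
    congr 1
  · intro x
    have hx : (x : Ω) = 1 := Subgroup.mem_bot.1 x.2
    have : Subgroup.inclusion (le_sup_right : (⊥ : Subgroup Ω) ≤ P ⊔ ⊥) x = 1 := Subtype.ext hx
    rw [this, map_one, hx]

theorem sup_central (F : FusionSystem S) {Q₁ Q₂ : Subgroup Ω} (h₁ : F.IsCentral Q₁) (h₂ : F.IsCentral Q₂) :
    F.IsCentral (Q₁ ⊔ Q₂) := by
  refine ⟨sup_le h₁.1 h₂.1, fun P φ hφ => ?_⟩
  obtain ⟨ψ₁, hψ₁, hext₁, hfix₁⟩ := h₁.2 P φ hφ
  obtain ⟨ψ₂, hψ₂, hext₂, hfix₂⟩ := h₂.2 (P ⊔ Q₁) ψ₁ hψ₁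
  have hle : P ⊔ (Q₁ ⊔ Q₂) ≤ (P ⊔ Q₁) ⊔ Q₂ := by
    rw [sup_assoc]
  refine ⟨ψ₂.comp (Subgroup.inclusion hle), restrict_mem F hψ₂ hle, fun x => ?_, ?_⟩
  · simp only [MonoidHom.comp_apply]
    rw [← hext₁ x, ← hext₂]
    congr 1
  · have hQle : Q₁ ⊔ Q₂ ≤ (P ⊔ Q₁) ⊔ Q₂ := sup_le (le_sup_right.trans le_sup_left) le_sup_right
    -- the fixed-point subgroup
    have key : Q₁ ⊔ Q₂ ≤ (Subgroup.map ((P ⊔ Q₁) ⊔ Q₂).subtype
        (MonoidHom.eqLocus ψ₂ ((P ⊔ Q₁) ⊔ Q₂).subtype)) := by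
      apply sup_le
      · intro x hx
        have hx1 : x ∈ P ⊔ Q₁ := (le_sup_right : Q₁ ≤ P ⊔ Q₁) hx
        refine ⟨⟨x, hQle (le_sup_left (a := Q₁) (b := Q₂) hx)⟩, ?_, rfl⟩
        show ψ₂ _ = _
        have h := hext₂ ⟨x, hx1⟩
        have e : (Subgroup.inclusion (le_sup_left : P ⊔ Q₁ ≤ (P ⊔ Q₁) ⊔ Q₂) ⟨x, hx1⟩) =
            ⟨x, hQle (le_sup_left (a := Q₁) (b := Q₂) hx)⟩ := rfl
        rw [e] at h
        rw [h]
        exact hfix₁ ⟨x, hx⟩
      · intro x hx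
        refine ⟨⟨x, hQle (le_sup_right (a := Q₁) (b := Q₂) hx)⟩, ?_, rfl⟩
        show ψ₂ _ = _
        exact hfix₂ ⟨x, hx⟩
    intro x
    obtain ⟨y, hy, hyx⟩ := key x.2
    have hy' : ψ₂ y = (y : Ω) := hy
    simp only [MonoidHom.comp_apply]
    have e : Subgroup.inclusion hle (Subgroup.inclusion (le_sup_right : Q₁ ⊔ Q₂ ≤ P ⊔ (Q₁ ⊔ Q₂)) x) = y := by
      apply Subtype.ext
      exact hyx.symm
    rw [e, hy']
    exact hyx

/-- For a fusion system over a finite subgroup S, the centre of the system (the join of all subgroups central in it) is itself central in the system, hence its largest central subgroup. -/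
theorem result {Ω : Type*} [Group Ω] {S : Subgroup Ω} [Finite S] (F : Cfsg.FusionSystem S) : F.IsCentral F.center := by
  have hsc : SupClosed {Q : Subgroup Ω | F.IsCentral Q} := fun a ha b hb => sup_central F ha hb
  have hfin : {Q : Subgroup Ω | F.IsCentral Q}.Finite :=
    Set.Finite.subset finite_le (fun Q hQ => hQ.1)
  exact hsc.sSup_mem hfin (bot_central F) subset_rfl

end Cfsg.Agent.S5144
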