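import Cfsg.Statements.S5128
import Mathlib
import Cfsg.Agent.Lib.Helper85.QuotLift3

set_option autoImplicit false
open Cfsg

namespace Cfsg.Agent.S5128

open Cfsg.Agent.Helper85 Cfsg.Agent.Helper87

/-- In a saturated fusion system over a finite p-group S, the product of two strongly closed subgroups is strongly closed. -/
theorem result {Ω : Type*} [Group Ω] {S : Subgroup Ω} [Finite S] (p : ℕ) [Fact p.Prime] (hS : IsPGroup p S) (F : Cfsg.FusionSystem S) (hF : F.IsSaturated p) (T₁ T₂ : Subgroup Ω) (h₁ : F.StronglyClosed T₁) (h₂ : F.StronglyClosed T₂) : F.StronglyClosed (T₁ ⊔ T₂) := by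
  refine ⟨sup_le h₁.1 h₂.1, fun R hR φ hφ x => ?_⟩
  have hf : Mor F R (extFun φ) := mor_of_mem hφ
  obtain ⟨f', hf', e⟩ := exists_liftMod hS hF h₁ R _ hf
  have hT₁n : T₁ ≤ Subgroup.normalizer (T₂ : Set Ω) := h₁.1.trans (stronglyClosed_le_normalizer h₂)
  obtain ⟨t₁, ht₁, t₂, ht₂, hx⟩ := (mem_sup_iff_of_le_normalizer hT₁n).1 (hR x.2)
  have ht₁' : t₁ ∈ R ⊔ T₁ := (le_sup_right : T₁ ≤ R ⊔ T₁) ht₁
  have ht₂' : t₂ ∈ R ⊔ T₁ := by
    have : t₂ = t₁⁻¹ * (x : Ω) := by rw [hx]; group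
    rw [this]
    exact Subgroup.mul_mem _ (Subgroup.inv_mem _ ht₁') ((le_sup_left : R ≤ R ⊔ T₁) x.2)
  have h3 : f' (x : Ω) ∈ T₁ ⊔ T₂ := by
    rw [hx, hf'.map_mul ht₁' ht₂']
    exact Subgroup.mul_mem _ ((le_sup_left : T₁ ≤ T₁ ⊔ T₂) (Mor.map_stronglyClosed h₁ hf' ht₁' ht₁))
      ((le_sup_right : T₂ ≤ T₁ ⊔ T₂) (Mor.map_stronglyClosed h₂ hf' ht₂' ht₂))
  have h4 := e x x.2
  rw [extFun_apply] at h4
  have h5 : φ x = f' (x : Ω) * ((φ x)⁻¹ * f' (x : Ω))⁻¹ := by group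
  rw [h5]
  exact Subgroup.mul_mem _ h3 (Subgroup.inv_mem _ ((le_sup_left : T₁ ≤ T₁ ⊔ T₂) h4))

end Cfsg.Agent.S5128
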