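import Cfsg.Statements.S5134
import Mathlib
import Cfsg.Agent.Lib.Helper85.QuotLift3
import Cfsg.Agent.Lib.Helper85.Induced

set_option autoImplicit false
open Cfsg

namespace Cfsg.Agent.S5134

open Cfsg.Agent.Helper85 Cfsg.Agent.Helper87 Cfsg.FusionSystem

/-- Let F be a saturated fusion system over a finite p-group S, S₀ a subgroup strongly closed in F, and E the factor system of F modulo S₀ read through θ (a homomorphism on S with kernel S₀ and image the group of E). Then θ is a surjective morphism of fusion systems from F onto E: in particular every map of F, and not only the maps whose source contains S₀, induces along θ a map of E. -/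
theorem result {Ω : Type*} [Group Ω] {S : Subgroup Ω} [Finite S] (p : ℕ) [Fact p.Prime] (hS : IsPGroup p S) (F : Cfsg.FusionSystem S) (hF : F.IsSaturated p) (S₀ : Subgroup Ω) (hS₀ : F.StronglyClosed S₀) {Ω' : Type*} [Group Ω'] {S' : Subgroup Ω'} (θ : S →* Ω') (E : Cfsg.FusionSystem S') (hE : F.IsFactorSystem S₀ θ E) : F.IsSurjectiveMorphism E θ := by
  obtain ⟨hS₀S, hker, hrange, hiff⟩ := hE
  have hθS' : ∀ s : S, θ s ∈ S' := fun s => hrange ▸ ⟨s, rfl⟩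
  refine ⟨⟨hθS', fun P φ hφ => ?_⟩, hrange, fun P' hP' φ' hφ' => ((hiff P' φ').1 hφ').2⟩
  have hPS : P ≤ S := (F.le_of_mem hφ).1
  have hφS : ∀ x : P, φ x ∈ S := (F.le_of_mem hφ).2
  have hf : Mor F P (extFun φ) := mor_of_mem hφ
  obtain ⟨f', hf', e⟩ := exists_liftMod hS hF hS₀ P _ hf
  set P' := imageAlong θ P with hP'def
  set A := preimageAlong θ P' with hAdef
  have hPA : P ≤ A := by
    intro x hx
    exact mem_preimageAlong.2 ⟨hPS hx, mem_imageAlong.2 ⟨x, hPS hx, hx, rfl⟩⟩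
  have hA : A ≤ P ⊔ S₀ := by
    intro x hx
    obtain ⟨hxS, hx'⟩ := mem_preimageAlong.1 hx
    obtain ⟨y, hyS, hyP, hy⟩ := mem_imageAlong.1 hx'
    have h1 : θ (⟨y, hyS⟩⁻¹ * ⟨x, hxS⟩) = 1 := by
      rw [map_mul, map_inv, hy, inv_mul_cancel]
    have h2 : y⁻¹ * x ∈ S₀ := (hker _).1 h1
    have : x = y * (y⁻¹ * x) := by group
    rw [this]
    exact Subgroup.mul_mem _ ((le_sup_left : P ≤ P ⊔ S₀) hyP) ((le_sup_right : S₀ ≤ P ⊔ S₀) h2)
  obtain ⟨ψ, hψ, eψ⟩ := hf'.restrict hA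
  obtain ⟨φ'', hφ''⟩ := exists_inducedAlong F θ hker hS₀ hψ
  have hAS : A ≤ S := preimageAlong_le θ P'
  have hψS : ∀ x : A, ψ x ∈ S := (F.le_of_mem hψ).2
  have hP'le : P' ≤ imageAlong θ A := by
    intro y hy
    obtain ⟨x, hxS, hxP, rfl⟩ := mem_imageAlong.1 hy
    exact mem_imageAlong.2 ⟨x, hxS, hPA hxP, rfl⟩
  have hP'S' : P' ≤ S' := by
    intro y hy
    obtain ⟨x, hxS, hxP, rfl⟩ := mem_imageAlong.1 hy
    exact hθS' _
  let φ' : P' →* Ω' := φ''.comp (Subgroup.inclusion hP'le)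
  have hAP' : ∀ x : A, θ ⟨x, hAS x.2⟩ ∈ P' := fun x => (mem_preimageAlong.1 x.2).2
  have key : ∀ x : A, φ' ⟨θ ⟨x, hAS x.2⟩, hAP' x⟩ = θ ⟨ψ x, hψS x⟩ := by
    intro x
    exact hφ'' x (hAS x.2) (hP'le (hAP' x)) (hψS x)
  refine ⟨φ', (hiff P' φ').2 ⟨hP'S', ψ, hψ, hAS, hψS, hAP', key⟩, hPS, hφS,
    fun x => mem_imageAlong.2 ⟨x, hPS x.2, x.2, rfl⟩, fun x => ?_⟩
  have h1 := key ⟨x, hPA x.2⟩
  have h2 : ψ ⟨x, hPA x.2⟩ = f' x := eψ ⟨x, hPA x.2⟩
  have h3 := e x x.2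
  rw [extFun_apply] at h3
  have h4 : θ (⟨φ x, hφS x⟩⁻¹ * ⟨ψ ⟨x, hPA x.2⟩, hψS _⟩) = 1 := by
    apply (hker _).2
    show (φ x)⁻¹ * ψ ⟨x, hPA x.2⟩ ∈ S₀
    rw [h2]
    exact h3
  rw [map_mul, map_inv, inv_mul_eq_one] at h4
  rw [h4]
  exact h1

end Cfsg.Agent.S5134
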