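import Cfsg.Statements.S5125
import Mathlib
import Cfsg.Agent.Lib.Helper87.FusionNormalCrit
import Cfsg.Agent.Lib.Helper86.ChainStabilizer

set_option autoImplicit false
open Cfsg

namespace Cfsg.Agent.S5125

open Cfsg.Agent.Helper87 Cfsg.FusionSystem
open scoped commutatorElement

variable {Ω : Type*} [Group Ω] {S : Subgroup Ω}

/-- the automorphisms of `R` in the system moving every element of `R ∩ U` only by an element of `T` -/
def trivSub (F : FusionSystem S) (T U R : Subgroup Ω) (hT : F.StronglyClosed T) (hU : F.StronglyClosed U)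
    (hR : R ≤ S) : Subgroup (F.autGroup R) where
  carrier := {β | ∀ x : R, (x : Ω) ∈ U → (x : Ω)⁻¹ * (((β : MulAut R) x : R) : Ω) ∈ T}
  mul_mem' := by
    intro β₁ β₂ h₁ h₂ x hx
    have ht : ((x⁻¹ * (β₂ : MulAut R) x : R) : Ω) ∈ T := h₂ x hx
    have e : ((β₁ * β₂ : F.autGroup R) : MulAut R) x =
        (β₁ : MulAut R) x * (β₁ : MulAut R) (x⁻¹ * (β₂ : MulAut R) x) := by
      rw [← map_mul]
      show (β₁ : MulAut R) ((β₂ : MulAut R) x) = _
      congr 1
      group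
    rw [e]
    have h3 := aut_mem_of_stronglyClosed hT hR β₁.2 ht
    have h4 := h₁ x hx
    show (x : Ω)⁻¹ * ((((β₁ : MulAut R) x : R) : Ω) * (((β₁ : MulAut R) (x⁻¹ * (β₂ : MulAut R) x) : R) : Ω)) ∈ T
    rw [← mul_assoc]
    exact T.mul_mem h4 h3
  one_mem' := by
    intro x _
    show (x : Ω)⁻¹ * (x : Ω) ∈ T
    rw [inv_mul_cancel]
    exact T.one_mem
  inv_mem' := by
    intro β h x hx
    have hz : ((((β⁻¹ : F.autGroup R) : MulAut R) x : R) : Ω) ∈ U :=
      aut_mem_of_stronglyClosed hU hR (β⁻¹).2 hx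
    have h1 := h (((β⁻¹ : F.autGroup R) : MulAut R) x) hz
    have e : (β : MulAut R) (((β⁻¹ : F.autGroup R) : MulAut R) x) = x := by simp
    rw [e] at h1
    have h2 := T.inv_mem h1
    rw [mul_inv_rev, inv_inv] at h2
    exact h2

instance trivSub_normal (F : FusionSystem S) (T U R : Subgroup Ω) (hT : F.StronglyClosed T)
    (hU : F.StronglyClosed U) (hR : R ≤ S) : (trivSub F T U R hT hU hR).Normal where
  conj_mem := by
    intro n hn g x hx
    have hy : ((((g⁻¹ : F.autGroup R) : MulAut R) x : R) : Ω) ∈ U :=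
      aut_mem_of_stronglyClosed hU hR (g⁻¹).2 hx
    have ht : (((((g⁻¹ : F.autGroup R) : MulAut R) x)⁻¹ * (n : MulAut R) (((g⁻¹ : F.autGroup R) : MulAut R) x) : R) : Ω) ∈ T :=
      hn _ hy
    have e : ((g * n * g⁻¹ : F.autGroup R) : MulAut R) x =
        x * (g : MulAut R) ((((g⁻¹ : F.autGroup R) : MulAut R) x)⁻¹ * (n : MulAut R) (((g⁻¹ : F.autGroup R) : MulAut R) x)) := by
      rw [map_mul, map_inv]
      have e2 : (g : MulAut R) (((g⁻¹ : F.autGroup R) : MulAut R) x) = x := by simp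
      rw [e2]
      show (g : MulAut R) ((n : MulAut R) (((g⁻¹ : F.autGroup R) : MulAut R) x)) = _
      group
    rw [e]
    have h3 := aut_mem_of_stronglyClosed hT hR g.2 ht
    show (x : Ω)⁻¹ * ((x : Ω) * _) ∈ T
    rw [inv_mul_cancel_left]
    exact h3

theorem stronglyClosed_top (F : FusionSystem S) : F.StronglyClosed S :=
  ⟨le_rfl, fun _ _ _ hφ x => (F.le_of_mem hφ).2 x⟩


/-- the chain `R ≥ R ∩ Q ≥ Q₁ ≥ 1` -/
def chain (Q Q₁ R : Subgroup Ω) : ℕ → Subgroup R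
  | 0 => ⊤
  | 1 => Q.subgroupOf R
  | 2 => Q₁.subgroupOf R
  | _ => ⊥

theorem le_of_centric_radical' {p : ℕ} [Fact p.Prime] [Finite S] (hS : IsPGroup p S) {F : FusionSystem S}
    {Q Q₁ R : Subgroup Ω} (hQ : F.StronglyClosed Q) (hQ₁ : F.StronglyClosed Q₁) (hQ₁R : Q₁ ≤ R)
    (hab : ⁅Q, Q⁆ ≤ Q₁) (hAut : IsPGroup p (F.autGroup Q₁))
    (hcen : F.IsCentric R) (hrad : F.IsRadical p R) : Q ≤ R := by
  classical
  have hR : R ≤ S := hcen.1
  have hfinR : Finite R := finite_of_le hR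
  have hRp : IsPGroup p R := hS.to_le hR
  let B₁ := trivSub F Q S R hQ (stronglyClosed_top F) hR
  let B₂ := trivSub F Q₁ Q R hQ₁ hQ hR
  let B := B₁ ⊓ B₂
  have hBn : B.Normal := Subgroup.normal_inf_normal B₁ B₂
  -- elements of B fixing Q₁ pointwise and of order prime to p are trivial
  have key : ∀ δ : F.autGroup R, δ ∈ B → (∀ x : R, (x : Ω) ∈ Q₁ → (δ : MulAut R) x = x) →
      (orderOf (δ : MulAut R)).Coprime p → (δ : MulAut R) = 1 := by
    intro δ hδ hfix hcop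
    apply Helper86.coprime_aut_eq_one_of_chain hRp (chain Q Q₁ R) 3 rfl rfl (δ : MulAut R) _ hcop
    intro k hk x hx
    match k, hk, hx with
    | 0, _, _ =>
      exact Subgroup.mem_subgroupOf.2 (hδ.1 x (hR x.2))
    | 1, _, hx =>
      exact Subgroup.mem_subgroupOf.2 (hδ.2 x (Subgroup.mem_subgroupOf.1 hx))
    | 2, _, hx =>
      show x⁻¹ * (δ : MulAut R) x ∈ (⊥ : Subgroup R)
      rw [hfix x (Subgroup.mem_subgroupOf.1 hx), inv_mul_cancel]
      exact Subgroup.one_mem _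
  have hBp : IsPGroup p B := by
    rintro ⟨β, hβ⟩
    have hmorβ : Mor F R (extAut (β : MulAut R)) := (mem_autGroup_iff hR).1 β.2
    have hiso : Iso F Q₁ Q₁ (extAut (β : MulAut R)) :=
      iso_of_card_le (hmorβ.restrict hQ₁R) hQ₁.1
        (fun x hx => (stronglyClosed_iff.1 hQ₁).2 Q₁ _ le_rfl (hmorβ.restrict hQ₁R) x hx) le_rfl
    obtain ⟨k, hk⟩ := hAut ⟨hiso.equiv, hiso.equiv_mem_autGroup⟩
    have hk' : hiso.equiv ^ p ^ k = (1 : MulAut Q₁) := by
      have := congrArg Subtype.val hk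
      simpa using this
    have hpow : ∀ n : ℕ, ∀ (x : Ω) (hx : x ∈ Q₁),
        (((hiso.equiv ^ n : MulAut Q₁) ⟨x, hx⟩ : Q₁) : Ω) = ((((β : MulAut R) ^ n) ⟨x, hQ₁R hx⟩ : R) : Ω) := by
      intro n
      induction n with
      | zero => intro x hx; rfl
      | succ n ih =>
        intro x hx
        rw [pow_succ, pow_succ]
        show (((hiso.equiv ^ n : MulAut Q₁) (hiso.equiv ⟨x, hx⟩) : Q₁) : Ω) =
          ((((β : MulAut R) ^ n) ((β : MulAut R) ⟨x, hQ₁R hx⟩) : R) : Ω)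
        have e1 : ((hiso.equiv ⟨x, hx⟩ : Q₁) : Ω) = (((β : MulAut R) ⟨x, hQ₁R hx⟩ : R) : Ω) := by
          rw [hiso.equiv_apply]
          exact extAut_mem _ (hQ₁R hx)
        have := ih _ (hiso.equiv ⟨x, hx⟩).2
        rw [this]
        congr 2
        exact Subtype.ext e1
    let γ : F.autGroup R := β ^ p ^ k
    have hγB : γ ∈ B := B.pow_mem hβ _
    have hγfix : ∀ x : R, (x : Ω) ∈ Q₁ → (γ : MulAut R) x = x := by
      intro x hx
      apply Subtype.ext
      have := hpow (p ^ k) x hx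
      rw [hk'] at this
      show ((((β ^ p ^ k : F.autGroup R) : MulAut R) x : R) : Ω) = x
      rw [Subgroup.coe_pow]
      exact this.symm
    have hpos : orderOf (γ : MulAut R) ≠ 0 := (orderOf_pos (γ : MulAut R)).ne'
    obtain ⟨e, n, hn, hen⟩ := Nat.exists_eq_pow_mul_and_not_dvd hpos p (Fact.out : p.Prime).ne_one
    let δ : F.autGroup R := γ ^ p ^ e
    have hδB : δ ∈ B := B.pow_mem hγB _
    have hδfix : ∀ x : R, (x : Ω) ∈ Q₁ → (δ : MulAut R) x = x := by
      intro x hx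
      show ((γ ^ p ^ e : F.autGroup R) : MulAut R) x = x
      rw [Subgroup.coe_pow]
      have : ∀ m : ℕ, ((γ : MulAut R) ^ m) x = x := by
        intro m
        induction m with
        | zero => rfl
        | succ m ih =>
          rw [pow_succ]
          show ((γ : MulAut R) ^ m) ((γ : MulAut R) x) = x
          rw [hγfix x hx, ih]
      exact this _
    have hcop : (orderOf (δ : MulAut R)).Coprime p := by
      show (orderOf ((γ ^ p ^ e : F.autGroup R) : MulAut R)).Coprime p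
      rw [Subgroup.coe_pow]
      exact Helper86.coprime_orderOf_pow_of_not_dvd (γ : MulAut R) hn hen
    have hδ1 := key δ hδB hδfix hcop
    refine ⟨k + e, ?_⟩
    apply Subtype.ext
    apply Subtype.ext
    show ((β ^ p ^ (k + e) : F.autGroup R) : MulAut R) = 1
    rw [pow_add, pow_mul]
    exact hδ1
  have hle := le_pCore hBn hBp
  have hNQ : ∀ q ∈ Q, q ∈ Subgroup.normalizer (R : Set Ω) → q ∈ R := by
    intro q hq hqN
    apply mem_of_conjAut_mem_inn hcen (hQ.1 hq) hqN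
    rw [← hrad.2]
    have hA : conjAut R q hqN ∈ F.autGroup R :=
      autInducedBy_le_autGroup F hR (conjAut_mem_autInducedBy (hQ.1 hq) hqN)
    refine ⟨⟨conjAut R q hqN, hA⟩, hle ⟨?_, ?_⟩, rfl⟩
    · intro x _
      show (x : Ω)⁻¹ * ((conjAut R q hqN x : R) : Ω) ∈ Q
      rw [conjAut_apply]
      have h1 : (x : Ω)⁻¹ * (q * x * q⁻¹) = ((x : Ω)⁻¹ * q * (x : Ω)⁻¹⁻¹) * q⁻¹ := by group
      rw [h1]
      exact Q.mul_mem (StronglyClosed.conj_mem hQ (S.inv_mem (hR x.2)) hq) (Q.inv_mem hq)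
    · intro x hx
      show (x : Ω)⁻¹ * ((conjAut R q hqN x : R) : Ω) ∈ Q₁
      rw [conjAut_apply]
      apply hab
      have h1 : (x : Ω)⁻¹ * (q * x * q⁻¹) = ⁅(x : Ω)⁻¹, q⁆ := by
        rw [commutatorElement_def]; group
      rw [h1]
      exact Subgroup.commutator_mem_commutator (Q.inv_mem hx) hq
  by_contra hne
  have hT : Q ⊔ R ≤ S := sup_le hQ.1 hR
  have hTp : IsPGroup p (Q ⊔ R : Subgroup Ω) := hS.to_le hT
  have hTfin : Finite (Q ⊔ R : Subgroup Ω) := finite_of_le hT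
  have hRT : R ≠ Q ⊔ R := fun h => hne (h ▸ le_sup_left)
  obtain ⟨n, hn, hnR⟩ := exists_normalizer_not_mem (S := Q ⊔ R) hTp le_sup_right hRT
  have hRN : R ≤ Subgroup.normalizer (Q : Set Ω) := hR.trans (StronglyClosed.le_normalizer hQ)
  have hcoe := Subgroup.coe_mul_of_right_le_normalizer_left Q R hRN
  have hnT : n ∈ (↑(Q ⊔ R) : Set Ω) := hn.1
  rw [hcoe] at hnT
  obtain ⟨q, hq, r, hr, rfl⟩ := hnT
  apply hnR
  have hqN : q ∈ Subgroup.normalizer (R : Set Ω) := by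
    have h2 : q = (q * r) * r⁻¹ := by group
    rw [h2]
    exact Subgroup.mul_mem _ hn.2 (Subgroup.inv_mem _ (Subgroup.le_normalizer hr))
  exact R.mul_mem (hNQ q hq hqN) hr

/-- Let F be a saturated fusion system over a finite p-group S and Q a subgroup strongly closed in F. If Q has a subgroup Q₁ that is normal in F, with Q/Q₁ abelian and Aut_F(Q₁) a p-group, then Q is normal in F. -/
theorem result {Ω : Type*} [Group Ω] {S : Subgroup Ω} [Finite S] (p : ℕ) [Fact p.Prime] (hS : IsPGroup p S) (F : Cfsg.FusionSystem S) (hF : F.IsSaturated p) (Q Q₁ : Subgroup Ω) (hQ : F.StronglyClosed Q) (hQ₁Q : Q₁ ≤ Q) (hQ₁ : F.IsNormal Q₁) (hab : ⁅Q, Q⁆ ≤ Q₁) (hAut : IsPGroup p ↥(F.autGroup Q₁)) : F.IsNormal Q := by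
  have hQ₁sc : F.StronglyClosed Q₁ := stronglyClosed_of_isNormal hQ₁
  have hFrat : ∀ (P : Subgroup Ω) (f : Ω → Ω), P ≤ Q₁ → Mor F P f →
      ∃ γ, Iso F Q₁ Q₁ γ ∧ ∀ x ∈ P, γ x = f x := by
    intro P f hP hf
    obtain ⟨g, hg, e, hgQ⟩ := (isNormal_iff.1 hQ₁).2 P f hf
    have hPQ : P ⊔ Q₁ = Q₁ := sup_eq_right.2 hP
    rw [hPQ] at hg
    exact ⟨g, ⟨hg, hgQ⟩, e⟩
  apply isNormal_of_stronglyClosed_of_le hS hF hQ
  intro R _ hcen hrad
  have hQ₁R : Q₁ ≤ R := le_of_centric_radical hS hQ₁sc hFrat hcen hrad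
  exact le_of_centric_radical' hS hQ hQ₁sc hQ₁R hab hAut hcen hrad

end Cfsg.Agent.S5125
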