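-- Statement S5119
import Mathlib
import Cfsg.Statements.S5119
import Cfsg.Agent.Lib.Helper87.FusionPuig

set_option autoImplicit false
open Cfsg

namespace Cfsg.Agent.S5119

open Cfsg.FusionSystem Cfsg.Agent.Helper87

/-- Frattini argument in elementwise form -/
theorem frattini_split {G : Type*} [Group G] [Finite G] {p : ℕ} [Fact p.Prime] (P₀ : Sylow p G)
    (D : Subgroup G) [hD : D.Normal] (a : G) :
    ∃ b d : G, a = b * d ∧ d ∈ D ∧ ∀ x ∈ (P₀ : Subgroup G) ⊓ D, b * x * b⁻¹ ∈ (P₀ : Subgroup G) ⊓ D := by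
  obtain ⟨P', hP'⟩ := exists_sylow_inf_normal P₀ D
  have h1 := Sylow.normalizer_sup_eq_top P'
  have h2 : (P'.map D.subtype : Subgroup G) = (P₀ : Subgroup G) ⊓ D := by
    show (P' : Subgroup D).map D.subtype = _
    rw [hP', Subgroup.subgroupOf_map_subtype]
  have ha : a ∈ (Subgroup.normalizer ((P'.map D.subtype : Subgroup G) : Set G) ⊔ D : Subgroup G) := by
    rw [h1]; exact Subgroup.mem_top a
  rw [← SetLike.mem_coe, Subgroup.mul_normal] at ha
  obtain ⟨b, hb, d, hd, rfl⟩ := Set.mem_mul.mp ha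
  refine ⟨b, d, rfl, hd, fun x hx => ?_⟩
  rw [← h2] at hx ⊢
  exact (Subgroup.mem_normalizer_iff.mp hb x).mp hx


variable {Ω : Type*} [Group Ω] {S T : Subgroup Ω}

/-- the strong invariance condition, as in the statement -/
def SIhyp (E : FusionSystem T) (F : FusionSystem S) : Prop :=
  ∀ (P Q : Subgroup Ω) (hPQ : P ≤ Q) (_ : Q ≤ T) (φ : P →* Ω) (_ : φ ∈ E.Hom P)
    (hφQ : ∀ x : P, φ x ∈ Q) (ψ : Q →* Ω) (_ : ψ ∈ F.Hom Q),
    ∃ χ ∈ E.Hom ((P.subgroupOf Q).map ψ),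
      ∀ (x : P) (hx : ψ (Subgroup.inclusion hPQ x) ∈ (P.subgroupOf Q).map ψ),
        χ ⟨ψ (Subgroup.inclusion hPQ x), hx⟩ = ψ ⟨φ x, hφQ x⟩

/-- the strong invariance condition, at function level -/
def SIfun (E : FusionSystem T) (F : FusionSystem S) : Prop :=
  ∀ (P Q R : Subgroup Ω) (f g g' : Ω → Ω), P ≤ Q → Q ≤ T → Mor E P f → (∀ x ∈ P, f x ∈ Q) →
    Mor F Q g → (∀ y, y ∈ R ↔ ∃ x ∈ P, g x = y) → (∀ x ∈ P, g' (g x) = x) →
    Mor E R (fun y => g (f (g' y)))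

theorem siFun_of_siHyp {E : FusionSystem T} {F : FusionSystem S} (h : SIhyp E F) : SIfun E F := by
  intro P Q R f g g' hPQ hQT hf hfQ hg hR hg'
  obtain ⟨φ, hφ, eφ⟩ := hf
  obtain ⟨ψ, hψ, eψ⟩ := hg
  have hφQ : ∀ x : P, φ x ∈ Q := fun x => by rw [eφ]; exact hfQ x x.2
  obtain ⟨χ, hχ, eχ⟩ := h P Q hPQ hQT φ hφ hφQ ψ hψ
  have hRe : R = (P.subgroupOf Q).map ψ := by
    ext y
    rw [hR]
    constructor
    · rintro ⟨x, hx, rfl⟩
      exact ⟨⟨x, hPQ hx⟩, Subgroup.mem_subgroupOf.2 hx, eψ _⟩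
    · rintro ⟨q, hq, rfl⟩
      exact ⟨q, Subgroup.mem_subgroupOf.1 hq, (eψ q).symm⟩
  subst hRe
  refine ⟨χ, hχ, ?_⟩
  rintro ⟨_, ⟨q, hq, rfl⟩⟩
  have hqP : (q : Ω) ∈ P := Subgroup.mem_subgroupOf.1 hq
  have h1 := eχ ⟨q, hqP⟩ ⟨q, hq, rfl⟩
  have h2 : Subgroup.inclusion hPQ ⟨(q : Ω), hqP⟩ = q := Subtype.ext rfl
  simp only [h2] at h1
  rw [h1]
  show ψ ⟨φ ⟨q, hqP⟩, _⟩ = g (f (g' (ψ q)))
  rw [eψ q, hg' q hqP, eψ]
  show g (φ ⟨q, hqP⟩) = _
  rw [eφ]

theorem siHyp_of_siFun {E : FusionSystem T} {F : FusionSystem S} (h : SIfun E F) : SIhyp E F := by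
  intro P Q hPQ hQT φ hφ hφQ ψ hψ
  have hg : Mor F Q (extFun ψ) := mor_of_mem hψ
  have hiso : Iso F P (hg.restrict hPQ).image (extFun ψ) := Iso.of_mor _
  obtain ⟨g', -, hg', -⟩ := hiso.symm
  have hR : ∀ y, y ∈ (P.subgroupOf Q).map ψ ↔ ∃ x ∈ P, extFun ψ x = y := by
    intro y
    constructor
    · rintro ⟨q, hq, rfl⟩
      exact ⟨q, Subgroup.mem_subgroupOf.1 hq, extFun_apply ψ q⟩
    · rintro ⟨x, hx, rfl⟩
      exact ⟨⟨x, hPQ hx⟩, Subgroup.mem_subgroupOf.2 hx, (extFun_mem ψ (hPQ hx)).symm⟩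
  have hfQ : ∀ x ∈ P, extFun φ x ∈ Q := fun x hx => by rw [extFun_mem φ hx]; exact hφQ _
  obtain ⟨χ, hχ, eχ⟩ := h P Q _ (extFun φ) (extFun ψ) g' hPQ hQT (mor_of_mem hφ) hfQ hg hR hg'
  refine ⟨χ, hχ, fun x hx => ?_⟩
  rw [eχ]
  show extFun ψ (extFun φ (g' (ψ (Subgroup.inclusion hPQ x)))) = _
  have h1 : ψ (Subgroup.inclusion hPQ x) = extFun ψ (x : Ω) := (extFun_mem ψ (hPQ x.2)).symm
  rw [h1, hg' x x.2, extFun_apply φ x, extFun_mem ψ (hφQ x)]


theorem siFun_of_invariant {E : FusionSystem T} {F : FusionSystem S} (hinv : E.IsInvariantIn F) :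
    SIfun E F := by
  intro P Q R f g g' hPQ hQT hf hfQ hg hR hg'
  obtain ⟨α, hα, g₀, hg₀, eg⟩ := frattini_fun hinv hQT hg
  -- the image of `P` under `g₀`
  have hiso₀ : Iso E P (hg₀.restrict hPQ).image g₀ := Iso.of_mor _
  obtain ⟨g₀', hg₀', e1, e2⟩ := hiso₀.symm
  have hR₀T : (hg₀.restrict hPQ).image ≤ T := hiso₀.le_right
  have hk₀ : Mor E (hg₀.restrict hPQ).image (fun y => g₀ (f (g₀' y))) :=
    (hg₀'.1.comp hf (fun y hy => hg₀'.map_mem hy)).comp hg₀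
      (fun y hy => hfQ _ (hg₀'.map_mem hy))
  have h1 := invariance_fun hinv hR₀T hk₀ hα
  have hRe : imgAut α (hg₀.restrict hPQ).image = R := by
    ext y
    rw [mem_imgAut hR₀T, hR]
    constructor
    · rintro ⟨z, ⟨x, hx, rfl⟩, rfl⟩
      exact ⟨x, hx, eg x (hPQ hx)⟩
    · rintro ⟨x, hx, rfl⟩
      exact ⟨g₀ x, ⟨x, hx, rfl⟩, (eg x (hPQ hx)).symm⟩
  rw [hRe] at h1
  refine h1.congr (fun y hy => ?_)
  obtain ⟨x, hx, rfl⟩ := (hR y).1 hy
  show extAut α (g₀ (f (g₀' (extAut α⁻¹ (g x))))) = g (f (g' (g x)))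
  have hg₀xT : g₀ x ∈ T := hR₀T ⟨x, hx, rfl⟩
  rw [hg' x hx, eg x (hPQ hx), extAut_inv_left α hg₀xT, e1 x hx, eg (f x) (hfQ x hx)]


/-- `f` on `P` is an element of `Aut_F(T)` after a map of `E` -/
def Dec (E : FusionSystem T) (F : FusionSystem S) (P : Subgroup Ω) (f : Ω → Ω) : Prop :=
  ∃ α ∈ F.autGroup T, ∃ f₀, Mor E P f₀ ∧ ∀ x ∈ P, f x = extAut α (f₀ x)

theorem Dec.congr {E : FusionSystem T} {F : FusionSystem S} {P : Subgroup Ω} {f f' : Ω → Ω}
    (h : Dec E F P f) (hff : ∀ x ∈ P, f x = f' x) : Dec E F P f' := by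
  obtain ⟨α, hα, f₀, hf₀, e⟩ := h
  exact ⟨α, hα, f₀, hf₀, fun x hx => (hff x hx).symm.trans (e x hx)⟩

theorem Dec.restrict {E : FusionSystem T} {F : FusionSystem S} {P Q : Subgroup Ω} {f : Ω → Ω}
    (h : Dec E F P f) (hQP : Q ≤ P) : Dec E F Q f := by
  obtain ⟨α, hα, f₀, hf₀, e⟩ := h
  exact ⟨α, hα, f₀, hf₀.restrict hQP, fun x hx => e x (hQP hx)⟩

theorem Dec.of_mor {E : FusionSystem T} {F : FusionSystem S} {P : Subgroup Ω} {f : Ω → Ω}
    (h : Mor E P f) : Dec E F P f := by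
  refine ⟨1, Subgroup.one_mem _, f, h, fun x hx => ?_⟩
  rw [extAut_one (h.mem hx)]

theorem Dec.of_aut {E : FusionSystem T} {F : FusionSystem S} {α : MulAut T} (hα : α ∈ F.autGroup T)
    {P : Subgroup Ω} (hP : P ≤ T) : Dec E F P (extAut α) :=
  ⟨α, hα, fun x => x, Mor.id hP, fun _ _ => rfl⟩

theorem Dec.comp {E : FusionSystem T} {F : FusionSystem S} (hTS : T ≤ S) (hSI : SIfun E F)
    {P Q : Subgroup Ω} {f g : Ω → Ω} (hQT : Q ≤ T) (hfQ : ∀ x ∈ P, f x ∈ Q)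
    (hf : Dec E F P f) (hg : Dec E F Q g) : Dec E F P (fun x => g (f x)) := by
  obtain ⟨α, hα, f₀, hf₀, ef⟩ := hf
  obtain ⟨β, hβ, g₀, hg₀, eg⟩ := hg
  have hαF : Mor F T (extAut α⁻¹) := (mem_autGroup_iff hTS).1 (Subgroup.inv_mem _ hα)
  -- `P₁ = f(P)`, `P₀ = f₀(P)`
  have hP₀T : hf₀.image ≤ T := hf₀.image_le
  let P₁ : Subgroup Ω := imgAut α hf₀.image
  have hP₁ : ∀ y, y ∈ P₁ ↔ ∃ x ∈ P, f x = y := by
    intro y
    rw [mem_imgAut hP₀T]
    constructor
    · rintro ⟨z, ⟨x, hx, rfl⟩, rfl⟩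
      exact ⟨x, hx, ef x hx⟩
    · rintro ⟨x, hx, rfl⟩
      exact ⟨f₀ x, ⟨x, hx, rfl⟩, (ef x hx).symm⟩
  have hP₁Q : P₁ ≤ Q := by
    intro y hy
    obtain ⟨x, hx, rfl⟩ := (hP₁ y).1 hy
    exact hfQ x hx
  have hP₁T : P₁ ≤ T := hP₁Q.trans hQT
  have hR : ∀ y, y ∈ hf₀.image ↔ ∃ x ∈ P₁, extAut α⁻¹ x = y := by
    intro y
    constructor
    · rintro ⟨x, hx, rfl⟩
      refine ⟨f x, (hP₁ _).2 ⟨x, hx, rfl⟩, ?_⟩
      rw [ef x hx, extAut_inv_left α (hf₀.mem hx)]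
    · rintro ⟨z, hz, rfl⟩
      obtain ⟨x, hx, rfl⟩ := (hP₁ z).1 hz
      rw [ef x hx, extAut_inv_left α (hf₀.mem hx)]
      exact ⟨x, hx, rfl⟩
  have hinv : ∀ x ∈ P₁, extAut α (extAut α⁻¹ x) = x := fun x hx => extAut_inv_right α (hP₁T hx)
  have h0 := hSI P₁ T hf₀.image g₀ (extAut α⁻¹) (extAut α) hP₁T le_rfl (hg₀.restrict hP₁Q)
    (fun x hx => hg₀.mem (hP₁Q hx)) hαF hR hinv
  refine ⟨β * α, Subgroup.mul_mem _ hβ hα, fun x => extAut α⁻¹ (g₀ (extAut α (f₀ x))),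
    hf₀.comp h0 (fun x hx => ⟨x, hx, rfl⟩), fun x hx => ?_⟩
  show g (f x) = _
  have hfx : f x ∈ Q := hfQ x hx
  have hT1 : g₀ (f x) ∈ T := hg₀.mem hfx
  rw [eg _ hfx, ef x hx] at *
  rw [extAut_mul β α (extAut_mem_self _ hT1), extAut_inv_right α hT1]


theorem autE_normal {E : FusionSystem T} {F : FusionSystem S} (hTS : T ≤ S) (hSI : SIfun E F)
    {U : Subgroup Ω} (hU : U ≤ T) : ((E.autGroup U).subgroupOf (F.autGroup U)).Normal := by
  constructor
  intro ν hν b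
  rw [Subgroup.mem_subgroupOf] at hν ⊢
  rw [mem_autGroup_iff hU] at hν ⊢
  have hb : Mor F U (extAut (b : MulAut U)) := (mem_autGroup_iff (hU.trans hTS)).1 b.2
  have h0 := hSI U U U (extAut (ν : MulAut U)) (extAut (b : MulAut U)) (extAut (b : MulAut U)⁻¹)
    le_rfl hU hν (fun x hx => extAut_mem_self _ hx) hb
    (fun y => ⟨fun hy => extAut_surj _ hy, by rintro ⟨x, hx, rfl⟩; exact extAut_mem_self _ hx⟩)
    (fun x hx => extAut_inv_left _ hx)
  refine h0.congr (fun y hy => ?_)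
  show _ = extAut ((b : MulAut U) * (ν : MulAut U) * (b : MulAut U)⁻¹) y
  rw [extAut_mul _ _ hy, extAut_mul _ _ (extAut_mem_self _ hy)]


theorem dec_aut {p : ℕ} [Fact p.Prime] [Finite S] (hS : IsPGroup p S) {E : FusionSystem T}
    {F : FusionSystem S} (hF : F.IsSaturated p) (hTS : T ≤ S) (hSI : SIfun E F) {U : Subgroup Ω}
    (hfn : F.IsFullyNormalized U) (hUT : U ≤ T) (hne : U ≠ T)
    (IH : ∀ (P' : Subgroup Ω) (f' : Ω → Ω), P' ≤ T → Mor F P' f' → Nat.card U < Nat.card P' →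
      Dec E F P' f')
    {α : Ω → Ω} (hα : Iso F U U α) : Dec E F U α := by
  classical
  have hUS : U ≤ S := hUT.trans hTS
  have hfinU : Finite U := finite_of_le hUS
  have hfinT : Finite T := finite_of_le hTS
  have hrec := receptive_of_fullyNormalized hS hF hfn
  obtain ⟨-, R₀, hR₀⟩ := fullyAutomized_of_fullyNormalized hS hF hfn
  have hnorm := autE_normal hTS hSI hUT
  let a : F.autGroup U := ⟨hα.equiv, hα.equiv_mem_autGroup⟩
  obtain ⟨b, d, hab, hd, hb⟩ := frattini_split R₀ ((E.autGroup U).subgroupOf (F.autGroup U)) a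
  -- the `E`-part
  have hdE : Mor E U (extAut (d : MulAut U)) := (mem_autGroup_iff hUT).1 (Subgroup.mem_subgroupOf.1 hd)
  have hdDec : Dec E F U (extAut (d : MulAut U)) := Dec.of_mor hdE
  -- the part normalizing the Sylow subgroup
  have hbF : Mor F U (extAut (b : MulAut U)) := (mem_autGroup_iff hUS).1 b.2
  have hbI : Iso F U U (extAut (b : MulAut U)) := iso_of_mor_extAut hbF
  have hNle : normalizerIn T U ≤ hbI.ext := by
    intro g hg
    have hg' : g ∈ T ⊓ Subgroup.normalizer (U : Set Ω) := hg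
    obtain ⟨hgT, hgN⟩ := Subgroup.mem_inf.1 hg'
    have hgS : g ∈ S := hTS hgT
    refine ⟨hgS, hgN, ?_⟩
    -- conjugation by `g` as an element of `Aut_F(U)`
    have hγF : conjAut U g hgN ∈ F.autGroup U :=
      autInducedBy_le_autGroup F hUS (conjAut_mem_autInducedBy hgS hgN)
    have hγE : conjAut U g hgN ∈ E.autGroup U := by
      rw [mem_autGroup_iff hUT]
      refine (Mor.conj (F := E) hUT hgT).congr (fun x hx => ?_)
      rw [extAut_mem _ hx]; rfl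
    have hγmem : (⟨conjAut U g hgN, hγF⟩ : F.autGroup U) ∈
        (R₀ : Subgroup (F.autGroup U)) ⊓ (E.autGroup U).subgroupOf (F.autGroup U) := by
      refine Subgroup.mem_inf.2 ⟨?_, Subgroup.mem_subgroupOf.2 hγE⟩
      rw [hR₀, Subgroup.mem_subgroupOf]
      exact conjAut_mem_autInducedBy hgS hgN
    have h1 := (Subgroup.mem_inf.1 (hb _ hγmem)).1
    rw [hR₀, Subgroup.mem_subgroupOf] at h1
    obtain ⟨k, hk, ek⟩ := mem_autInducedBy_iff.1 h1
    refine ⟨k, hk, fun x hx => ?_⟩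
    have hx' : g * x * g⁻¹ ∈ U := (Subgroup.mem_normalizer_iff.1 hgN x).1 hx
    have h2 := ek ((b : MulAut U) ⟨x, hx⟩)
    have h3 : ((b * ⟨conjAut U g hgN, hγF⟩ * b⁻¹ : F.autGroup U) : MulAut U) ((b : MulAut U) ⟨x, hx⟩)
        = (b : MulAut U) ⟨g * x * g⁻¹, hx'⟩ := by
      show (b : MulAut U) (conjAut U g hgN ((b : MulAut U)⁻¹ ((b : MulAut U) ⟨x, hx⟩))) = _
      rw [MulAut.inv_apply_self]
      rfl
    rw [h3] at h2
    rw [extAut_mem _ hx', extAut_mem _ hx]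
    exact h2
  obtain ⟨b', hb', eb'⟩ := (isReceptive_iff.1 hrec).2 U _ hbI
  have hNT : normalizerIn T U ≤ T := inf_le_left
  obtain ⟨n, hn, hnU⟩ := exists_normalizer_not_mem (hS.to_le hTS) hUT hne
  have hlt : Nat.card U < Nat.card (normalizerIn T U) :=
    card_lt_of_not_mem (le_normalizerIn hUT) hNT hn hnU
  have hbDec : Dec E F U (extAut (b : MulAut U)) :=
    ((IH _ _ hNT (hb'.restrict hNle) hlt).restrict (le_normalizerIn hUT)).congr eb'
  have hcomp := Dec.comp hTS hSI hUT (fun x hx => extAut_mem_self _ hx) hdDec hbDec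
  refine hcomp.congr (fun x hx => ?_)
  show extAut (b : MulAut U) (extAut (d : MulAut U) x) = α x
  rw [← extAut_mul _ _ hx, ← extAut_equiv hα hx]
  have : ((b : MulAut U) * (d : MulAut U)) = (hα.equiv : MulAut U) := by
    have := congrArg (Subtype.val) hab
    exact this.symm
  rw [this]


theorem dec_all {p : ℕ} [Fact p.Prime] [Finite S] (hS : IsPGroup p S) {E : FusionSystem T}
    {F : FusionSystem S} (hF : F.IsSaturated p) (hT : F.StronglyClosed T) (hSI : SIfun E F) :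
    ∀ (P : Subgroup Ω) (f : Ω → Ω), P ≤ T → Mor F P f → Dec E F P f := by
  classical
  have hTS : T ≤ S := hT.1
  have hfinT : Finite T := finite_of_le hTS
  have hTp : IsPGroup p T := hS.to_le hTS
  have hsc := (stronglyClosed_iff.1 hT).2
  suffices H : ∀ n : ℕ, ∀ (P : Subgroup Ω) (f : Ω → Ω), P ≤ T → Mor F P f →
      Nat.card T - Nat.card P = n → Dec E F P f from fun P f hP h => H _ P f hP h rfl
  intro n
  induction n using Nat.strong_induction_on with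
  | _ n ih =>
  intro P f hPT hf hn
  have hPle := Subgroup.card_le_of_le hPT
  have IH : ∀ (P' : Subgroup Ω) (f' : Ω → Ω), P' ≤ T → Mor F P' f' → Nat.card P < Nat.card P' →
      Dec E F P' f' := by
    intro P' f' hP' hf' hlt
    have hle := Subgroup.card_le_of_le hP'
    exact ih (Nat.card T - Nat.card P') (by omega) P' f' hP' hf' rfl
  by_cases hPeq : P = T
  · subst hPeq
    have hiso : Iso F P P f := iso_of_card_le hf hTS (fun n hn => hsc P f le_rfl hf n hn) le_rfl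
    exact (Dec.of_aut (E := E) hiso.equiv_mem_autGroup le_rfl).congr (fun x hx => extAut_equiv hiso hx)
  · obtain ⟨Pst, hconj, hfn⟩ := exists_fullyNormalized_conj F hf.le
    have hQ : Iso F P hf.image f := Iso.of_mor hf
    have hQT : hf.image ≤ T := by
      rintro _ ⟨x, hx, rfl⟩
      exact hsc P f hPT hf x hx
    obtain ⟨ψ1, hψ1, hψ1i⟩ := exists_map_normalizer_to_fullyNormalized hS hF hfn hconj
    have hPstT : Pst ≤ T := by
      intro y hy
      obtain ⟨x, hx, rfl⟩ := hψ1i.surj hy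
      exact hsc P ψ1 hPT hψ1i.1 x hx
    have hconj2 : F.IsConj hf.image Pst :=
      isConj_trans (isConj_symm (isConj_iff.2 ⟨f, hQ⟩)) hconj
    obtain ⟨ψ2, hψ2, hψ2i⟩ := exists_map_normalizer_to_fullyNormalized hS hF hfn hconj2
    -- strict growth of normalizers inside `T`
    obtain ⟨n1, hn1, hn1P⟩ := exists_normalizer_not_mem hTp hPT hPeq
    have hNT1 : normalizerIn T P ≤ T := inf_le_left
    have hNS1 : normalizerIn T P ≤ normalizerIn S P := inf_le_inf_right _ hTS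
    have hlt1 : Nat.card P < Nat.card (normalizerIn T P) :=
      card_lt_of_not_mem (le_normalizerIn hPT) hNT1 hn1 hn1P
    have hcardQ : Nat.card P = Nat.card hf.image := hQ.card_eq
    have hQne : hf.image ≠ T := by
      intro h
      have h1 : Nat.card P = Nat.card T := by rw [hcardQ, h]
      exact hPeq (Subgroup.eq_of_le_of_card_ge hPT (le_of_eq h1.symm))
    obtain ⟨n2, hn2, hn2Q⟩ := exists_normalizer_not_mem hTp hQT hQne
    have hNT2 : normalizerIn T hf.image ≤ T := inf_le_left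
    have hNS2 : normalizerIn T hf.image ≤ normalizerIn S hf.image := inf_le_inf_right _ hTS
    have hlt2 : Nat.card P < Nat.card (normalizerIn T hf.image) := by
      rw [hcardQ]
      exact card_lt_of_not_mem (le_normalizerIn hQT) hNT2 hn2 hn2Q
    have C1 : Dec E F (normalizerIn T P) ψ1 := IH _ _ hNT1 (hψ1.restrict hNS1) hlt1
    -- the inverse of ψ2 on the image of `N_T(f(P))`
    have hψ2T : Mor F (normalizerIn T hf.image) ψ2 := hψ2.restrict hNS2
    have hM : Iso F (normalizerIn T hf.image) hψ2T.image ψ2 := Iso.of_mor hψ2T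
    have hMT : hψ2T.image ≤ T := by
      rintro _ ⟨x, hx, rfl⟩
      exact hsc _ ψ2 hNT2 hψ2T x hx
    obtain ⟨ψ2', hψ2', e1, e2⟩ := hM.symm
    have hlt3 : Nat.card P < Nat.card hψ2T.image := by
      rw [← hM.card_eq]; exact hlt2
    have C3 : Dec E F hψ2T.image ψ2' := IH _ _ hMT hψ2'.1 hlt3
    obtain ⟨ψ1', hψ1', d1, d2⟩ := hψ1i.symm
    have hα : Iso F Pst Pst (fun x => ψ2 (f (ψ1' x))) := (hψ1'.comp hQ).comp hψ2i
    have hcardPst : Nat.card Pst = Nat.card P := hψ1i.card_eq.symm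
    have hPstne : Pst ≠ T := by
      intro h
      have h1 : Nat.card P = Nat.card T := by rw [← hcardPst, h]
      exact hPeq (Subgroup.eq_of_le_of_card_ge hPT (le_of_eq h1.symm))
    have Cα : Dec E F Pst (fun x => ψ2 (f (ψ1' x))) :=
      dec_aut hS hF hTS hSI hfn hPstT hPstne
        (fun P' f' hP' hf' hlt => IH P' f' hP' hf' (hcardPst ▸ hlt)) hα
    have hPstM : Pst ≤ hψ2T.image := by
      intro y hy
      obtain ⟨x, hx, rfl⟩ := hψ2i.surj hy
      exact ⟨x, le_normalizerIn hQT hx, rfl⟩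
    have CP1 : Dec E F P ψ1 := C1.restrict (le_normalizerIn hPT)
    have CPst3 : Dec E F Pst ψ2' := C3.restrict hPstM
    have step1 := Dec.comp hTS hSI hPstT (fun x hx => hψ1i.map_mem hx) CP1 Cα
    have step2 := Dec.comp hTS hSI hPstT
      (fun x hx => hα.map_mem (hψ1i.map_mem hx)) step1 CPst3
    refine step2.congr (fun x hx => ?_)
    show ψ2' (ψ2 (f (ψ1' (ψ1 x)))) = f x
    rw [d1 x hx]
    exact e1 _ (le_normalizerIn hQT (hQ.map_mem hx))


/-- strong invariance implies invariance (`F` saturated, `T` strongly closed) -/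
theorem invariant_of_siFun {p : ℕ} [Fact p.Prime] [Finite S] (hS : IsPGroup p S) {E : FusionSystem T}
    {F : FusionSystem S} (hF : F.IsSaturated p) (hE : E.IsSubsystemOf F) (hT : F.StronglyClosed T)
    (hSI : SIfun E F) : E.IsInvariantIn F := by
  have hTS : T ≤ S := hT.1
  refine ⟨hE, hT, ?_, ?_⟩
  · intro P hPT φ hφ α hα
    have hαF : Mor F T (extAut α) := (mem_autGroup_iff hTS).1 hα
    have hR : ∀ y, y ∈ (P.subgroupOf T).map (T.subtype.comp α.toMonoidHom) ↔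
        ∃ x ∈ P, extAut α x = y := fun y => mem_imgAut hPT
    have h0 := hSI P T _ (extFun φ) (extAut α) (extAut α⁻¹) hPT le_rfl (mor_of_mem hφ)
      (fun x hx => (mor_of_mem hφ).mem hx) hαF hR (fun x hx => extAut_inv_left α (hPT hx))
    obtain ⟨χ, hχ, eχ⟩ := h0
    refine ⟨χ, hχ, fun x hφx hαx => ?_⟩
    rw [eχ]
    show extAut α (extFun φ (extAut α⁻¹ ((α ⟨x, hPT x.2⟩ : T) : Ω))) = _
    have h1 : ((α ⟨x, hPT x.2⟩ : T) : Ω) = extAut α (x : Ω) := (extAut_mem α (hPT x.2)).symm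
    rw [h1, extAut_inv_left α (hPT x.2), extFun_apply φ x, extAut_mem α hφx]
  · intro P hPT φ hφ
    obtain ⟨α, hα, f₀, ⟨φ₀, hφ₀, e0⟩, e⟩ := dec_all hS hF hT hSI P (extFun φ) hPT (mor_of_mem hφ)
    refine ⟨α, hα, φ₀, hφ₀, fun x hx => ?_⟩
    have := e x x.2
    rw [extFun_apply φ x, ← e0 x, extAut_mem α hx] at this
    exact this

/-- Let F be a saturated fusion system over a finite p-group S and E a subsystem of F over a subgroup T that is strongly closed in F. Then E is invariant in F (invariance under Aut_F(T) plus the Frattini condition) if and only if the strong invariance condition holds: for P ≤ Q ≤ T, every map φ of E from P into Q and every map ψ of F with source Q, the transported map ψ φ ψ⁻¹ on ψ(P) is a map of E. -/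
theorem result {Ω : Type*} [Group Ω] {S : Subgroup Ω} [Finite S] (p : ℕ) [Fact p.Prime] (hS : IsPGroup p S) (F : Cfsg.FusionSystem S) (hF : F.IsSaturated p) {T : Subgroup Ω} (E : Cfsg.FusionSystem T) (hE : E.IsSubsystemOf F) (hT : F.StronglyClosed T) : E.IsInvariantIn F ↔ ∀ (P Q : Subgroup Ω) (hPQ : P ≤ Q) (_ : Q ≤ T) (φ : P →* Ω) (_ : φ ∈ E.Hom P) (hφQ : ∀ x : P, φ x ∈ Q) (ψ : Q →* Ω) (_ : ψ ∈ F.Hom Q), ∃ χ ∈ E.Hom ((P.subgroupOf Q).map ψ), ∀ (x : P) (hx : ψ (Subgroup.inclusion hPQ x) ∈ (P.subgroupOf Q).map ψ), χ ⟨ψ (Subgroup.inclusion hPQ x), hx⟩ = ψ ⟨φ x, hφQ x⟩ := by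
  constructor
  · intro hinv
    exact siHyp_of_siFun (siFun_of_invariant hinv)
  · intro h
    exact invariant_of_siFun hS hF hE hT (siFun_of_siHyp h)

end Cfsg.Agent.S5119
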