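-- Statement S5118
import Mathlib
import Cfsg.Statements.S5118
import Cfsg.Agent.Lib.Helper86.RelGrpFus
import Cfsg.Agent.S5119

set_option autoImplicit false
open Cfsg

namespace Cfsg.Agent.S5118

open Cfsg.FusionSystem Cfsg.Agent.Helper87 Cfsg.Agent.Helper84 Cfsg.Agent.Helper86 Cfsg.Agent.S5119
open scoped Pointwise

variable {G : Type*} [Group G]

theorem conj_mem_normal {H : Subgroup G} [hH : H.Normal] {x : G} (hx : x ∈ H) (g : G) :
    g * x * g⁻¹ ∈ H := hH.conj_mem x hx g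

theorem isSubsystem (S H : Subgroup G) :
    (fusionSystemOfSubgroup H (S ⊓ H) inf_le_right).IsSubsystemOf (groupFusionSystem S) := by
  rintro P φ ⟨hPT, hφT, g, -, eg⟩
  exact ⟨hPT.trans inf_le_left, fun x => (hφT x).1, g, eg⟩

theorem stronglyClosed (S H : Subgroup G) [H.Normal] :
    (groupFusionSystem S).StronglyClosed (S ⊓ H) := by
  refine ⟨inf_le_left, ?_⟩
  rintro R hR φ ⟨-, hφS, g, eg⟩ x
  refine ⟨hφS x, ?_⟩
  rw [eg]
  exact conj_mem_normal (hR x.2).2 g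

theorem siFun (S H : Subgroup G) [H.Normal] :
    SIfun (fusionSystemOfSubgroup H (S ⊓ H) inf_le_right) (groupFusionSystem S) := by
  intro P Q R f g g' hPQ hQT hf hfQ hg hR hg'
  obtain ⟨φ, ⟨hPT, hφT, h, hhH, eh⟩, eφ⟩ := hf
  obtain ⟨ψ, ⟨hQS, hψS, k, ek⟩, eψ⟩ := hg
  have hf' : ∀ x ∈ P, f x = h * x * h⁻¹ := fun x hx => by rw [← eφ ⟨x, hx⟩, eh]
  have hg'' : ∀ q ∈ Q, g q = k * q * k⁻¹ := fun q hq => by rw [← eψ ⟨q, hq⟩, ek]
  have hgS : ∀ q ∈ Q, g q ∈ S := fun q hq => by rw [← eψ ⟨q, hq⟩]; exact hψS _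
  have hRT : R ≤ S ⊓ H := by
    intro y hy
    obtain ⟨x, hx, rfl⟩ := (hR y).1 hy
    refine ⟨hgS x (hPQ hx), ?_⟩
    rw [hg'' x (hPQ hx)]
    exact conj_mem_normal (hPT hx).2 k
  have key : ∀ y ∈ R, (k * h * k⁻¹) * y * (k * h * k⁻¹)⁻¹ = g (f (g' y)) := by
    intro y hy
    obtain ⟨x, hx, rfl⟩ := (hR y).1 hy
    rw [hg' x hx, hg'' _ (hfQ x hx), hf' x hx, hg'' x (hPQ hx)]
    group
  refine ⟨conjHom R (k * h * k⁻¹), ⟨hRT, ?_, k * h * k⁻¹, conj_mem_normal hhH k, fun _ => rfl⟩,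
    fun y => key y y.2⟩
  intro y
  show (k * h * k⁻¹) * (y : G) * (k * h * k⁻¹)⁻¹ ∈ S ⊓ H
  rw [key y y.2]
  obtain ⟨x, hx, e⟩ := (hR y).1 y.2
  rw [← e, hg' x hx]
  refine ⟨hgS _ (hfQ x hx), ?_⟩
  rw [hg'' _ (hfQ x hx)]
  exact conj_mem_normal (hQT (hfQ x hx)).2 k


section sylow

variable [Finite G] {p : ℕ} [Fact p.Prime]

/-- if `P₀` is a `p`-group normalizing `C` and `P₀ ⊓ C` is Sylow in `C`, then `P₀` is Sylow in `P₀ ⊔ C` -/
theorem isSylIn_sup {P₀ C : Subgroup G} (hP₀ : IsPGroup p P₀)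
    (hn : P₀ ≤ Subgroup.normalizer (C : Set G)) (h : IsSylIn p (P₀ ⊓ C) C) :
    IsSylIn p P₀ (P₀ ⊔ C) := by
  obtain ⟨Y, hPY, hY⟩ := exists_isSylIn_ge (le_sup_left : P₀ ≤ P₀ ⊔ C) hP₀
  have hnM : P₀ ⊔ C ≤ Subgroup.normalizer (C : Set G) := sup_le hn Subgroup.le_normalizer
  have hYC : IsSylIn p (Y ⊓ C) C := hY.inf_normal le_sup_right hnM
  have hle : P₀ ⊓ C ≤ Y ⊓ C := inf_le_inf_right _ hPY
  have hcard : Nat.card (Y ⊓ C : Subgroup G) ≤ Nat.card (P₀ ⊓ C : Subgroup G) :=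
    h.card_le inf_le_right hYC.2.1
  have heq : P₀ ⊓ C = Y ⊓ C := Subgroup.eq_of_le_of_card_ge hle hcard
  have hYP : Y ≤ P₀ := by
    intro y hy
    have hyM : y ∈ ((P₀ ⊔ C : Subgroup G) : Set G) := hY.1 hy
    rw [Subgroup.coe_mul_of_left_le_normalizer_right _ _ hn] at hyM
    obtain ⟨a, ha, c, hc, rfl⟩ := hyM
    have hcY : c ∈ Y := by
      have : c = a⁻¹ * (a * c) := by group
      rw [this]
      exact Y.mul_mem (Y.inv_mem (hPY ha)) hy
    have hcP : c ∈ P₀ ⊓ C := by rw [heq]; exact ⟨hcY, hc⟩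
    exact P₀.mul_mem ha hcP.1
  have : Y = P₀ := le_antisymm hYP hPY
  rw [this] at hY
  exact hY

omit [Finite G] in
theorem mem_normalizer_of_map_conj_eq {P₀ : Subgroup G} {k : G}
    (h : P₀.map (MulAut.conj k).toMonoidHom = P₀) : k ∈ Subgroup.normalizer (P₀ : Set G) := by
  rw [Subgroup.mem_normalizer_iff]
  intro x
  constructor
  · intro hx
    rw [← h]
    exact ⟨x, hx, rfl⟩
  · intro hx
    rw [← h] at hx
    obtain ⟨y, hy, e⟩ := hx
    have : y = x := by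
      have e' : k * y * k⁻¹ = k * x * k⁻¹ := e
      exact mul_left_cancel (mul_right_cancel e')
    rwa [← this]


omit [Finite G] in
theorem map_conj_mul (Q : Subgroup G) (g k : G) :
    (Q.map (MulAut.conj k).toMonoidHom).map (MulAut.conj g).toMonoidHom =
      Q.map (MulAut.conj (g * k)).toMonoidHom := by
  rw [Subgroup.map_map]
  congr 1
  ext x
  simp [MulAut.conj_apply, mul_assoc]

omit [Finite G] in
theorem normalizer_le_normalizer_centralizerIn_of_normal (H T : Subgroup G) [hH : H.Normal] :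
    Subgroup.normalizer (T : Set G) ≤ Subgroup.normalizer ((centralizerIn H T : Subgroup G) : Set G) := by
  intro n hn
  have hnN : n ∈ Subgroup.normalizer ((Subgroup.centralizer (T : Set G) : Subgroup G) : Set G) :=
    normalizer_le_normalizer_centralizer T hn
  rw [Subgroup.mem_normalizer_iff] at hnN ⊢
  intro x
  constructor
  · rintro ⟨hxK, hxC⟩
    exact ⟨hH.conj_mem x hxK n, (hnN x).1 hxC⟩
  · rintro ⟨hxK, hxC⟩
    refine ⟨?_, (hnN x).2 hxC⟩
    have : x = n⁻¹ * (n * x * n⁻¹) * n⁻¹⁻¹ := by group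
    rw [this]
    exact hH.conj_mem _ hxK n⁻¹

theorem exists_adjust (S : Sylow p G) (H : Subgroup G) [hH : H.Normal] {h : G} (hhH : h ∈ H)
    (hhN : h ∈ Subgroup.normalizer ((((S : Subgroup G) ⊓ H : Subgroup G)) : Set G)) :
    ∃ z ∈ centralizerIn H ((S : Subgroup G) ⊓ H),
      z⁻¹ * h ∈ Subgroup.normalizer
        ((((S : Subgroup G) ⊓ H) ⊔ centralizerIn (S : Subgroup G) ((S : Subgroup G) ⊓ H) :
          Subgroup G) : Set G) := by
  set T : Subgroup G := (S : Subgroup G) ⊓ H with hTdef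
  set CS : Subgroup G := centralizerIn (S : Subgroup G) T with hCSdef
  set C : Subgroup G := centralizerIn H T with hCdef
  set P₀ : Subgroup G := T ⊔ CS with hP₀def
  have hTsyl : IsSylIn p T H :=
    (sylow_isSylIn_top S).inf_normal le_top (by rw [Subgroup.normalizer_eq_top])
  have hTN : IsSylIn p T (normalizerIn H T) :=
    hTsyl.of_le (le_inf inf_le_right Subgroup.le_normalizer) inf_le_left
  have hCle : C ≤ normalizerIn H T :=
    le_inf inf_le_left (inf_le_right.trans (Subgroup.centralizer_le_normalizer _))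
  have hTC : IsSylIn p (T ⊓ C) C := hTN.inf_normal hCle (le_normalizer_centralizerIn H T)
  have hP₀S : P₀ ≤ S := sup_le inf_le_left inf_le_left
  have hP₀p : IsPGroup p P₀ := S.isPGroup'.to_le hP₀S
  have hP₀NT : P₀ ≤ Subgroup.normalizer (T : Set G) :=
    sup_le Subgroup.le_normalizer (inf_le_right.trans (Subgroup.centralizer_le_normalizer _))
  have hNC := normalizer_le_normalizer_centralizerIn_of_normal H T
  have hP₀C : IsSylIn p (P₀ ⊓ C) C :=
    hTC.of_card_ge inf_le_right (hP₀p.to_le inf_le_left)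
      (Subgroup.card_le_of_le (inf_le_inf_right _ le_sup_left))
  have hsyl : IsSylIn p P₀ (P₀ ⊔ C) := isSylIn_sup hP₀p (hP₀NT.trans hNC) hP₀C
  have hconjle : P₀.map (MulAut.conj h).toMonoidHom ≤ P₀ ⊔ C := by
    rw [Subgroup.map_sup]
    apply sup_le
    · rintro _ ⟨x, hx, rfl⟩
      exact le_sup_left (a := P₀) (le_sup_left (a := T) ((Subgroup.mem_normalizer_iff.1 hhN x).1 hx))
    · rintro _ ⟨c, hc, rfl⟩
      show h * c * h⁻¹ ∈ P₀ ⊔ C
      have e : h * c * h⁻¹ = (h * c * h⁻¹ * c⁻¹) * c := by group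
      rw [e]
      refine Subgroup.mul_mem _ (le_sup_right (a := P₀) ⟨?_, ?_⟩)
        (le_sup_left (a := P₀) (le_sup_right (a := T) hc))
      · have e2 : h * c * h⁻¹ * c⁻¹ = h * (c * h⁻¹ * c⁻¹) := by group
        rw [e2]
        exact H.mul_mem hhH (hH.conj_mem _ (H.inv_mem hhH) c)
      · have hcC : c ∈ Subgroup.centralizer (T : Set G) := hc.2
        have h1 := (Subgroup.mem_normalizer_iff.1 (normalizer_le_normalizer_centralizer T hhN) c).1 hcC
        exact Subgroup.mul_mem _ h1 (Subgroup.inv_mem _ hcC)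
  have hsyl' : IsSylIn p (P₀.map (MulAut.conj h).toMonoidHom) (P₀ ⊔ C) :=
    hsyl.of_card_ge hconjle (hP₀p.map _) (by rw [card_map_conj])
  obtain ⟨m, hm, e⟩ := hsyl.exists_conj hsyl'
  have hmM : m ∈ ((C ⊔ P₀ : Subgroup G) : Set G) := by rw [sup_comm]; exact hm
  rw [Subgroup.coe_mul_of_right_le_normalizer_left C P₀ (hP₀NT.trans hNC)] at hmM
  obtain ⟨z, hz, a, ha, rfl⟩ := hmM
  refine ⟨z, hz, mem_normalizer_of_map_conj_eq ?_⟩
  rw [← map_conj_mul, e, ← map_conj_mul P₀ z a, map_conj_map_conj_inv, map_conj_eq_self_of_mem ha]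

end sylow


/-- For a finite group G with Sylow p-subgroup S and a normal subgroup H, the fusion system of H on S ∩ H is a normal subsystem of the fusion system of G on S. -/
theorem result {G : Type*} [Group G] [Finite G] (p : ℕ) [Fact p.Prime] (S : Sylow p G) (H : Subgroup G) [H.Normal] : (Cfsg.fusionSystemOfSubgroup H ((S : Subgroup G) ⊓ H) inf_le_right).IsNormalIn (Cfsg.groupFusionSystem (S : Subgroup G)) p := by
  have hHn : H.Normal := inferInstance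
  have hTsyl : IsSylIn p ((S : Subgroup G) ⊓ H) H :=
    (sylow_isSylIn_top S).inf_normal le_top (by rw [Subgroup.normalizer_eq_top])
  have hEsat := fsos_saturated (inf_le_right : (S : Subgroup G) ⊓ H ≤ H) hTsyl
  have hFsat := gfs_saturated S
  have hinv := invariant_of_siFun S.isPGroup' hFsat (isSubsystem (S : Subgroup G) H)
    (stronglyClosed (S : Subgroup G) H) (siFun (S : Subgroup G) H)
  refine ⟨⟨hEsat, hFsat, hinv⟩, ?_⟩
  intro α hα
  rw [fsos_autGroup_eq _ _ _ _ le_rfl, Cfsg.Agent.Helper84.mem_autInducedBy_iff] at hα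
  obtain ⟨h, hhH, eh⟩ := hα
  have hhN : h ∈ Subgroup.normalizer ((((S : Subgroup G) ⊓ H : Subgroup G)) : Set G) :=
    mem_normalizer_of_autInduced eh
  obtain ⟨z, hz, hk⟩ := exists_adjust S H hhH hhN
  have hP₀S : ((S : Subgroup G) ⊓ H) ⊔ centralizerIn (S : Subgroup G) ((S : Subgroup G) ⊓ H) ≤ S :=
    sup_le inf_le_left inf_le_left
  have hkH : z⁻¹ * h ∈ H := H.mul_mem (H.inv_mem hz.1) hhH
  have hzC : ∀ t ∈ (S : Subgroup G) ⊓ H, z⁻¹ * t * z = t := by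
    intro t ht
    have := hz.2 t ht
    calc z⁻¹ * t * z = z⁻¹ * (t * z) := by group
      _ = z⁻¹ * (z * t) := by rw [this]
      _ = t := by group
  have hkT : ∀ t ∈ (S : Subgroup G) ⊓ H, (z⁻¹ * h) * t * (z⁻¹ * h)⁻¹ = h * t * h⁻¹ := by
    intro t ht
    have h1 : h * t * h⁻¹ ∈ (S : Subgroup G) ⊓ H := (Subgroup.mem_normalizer_iff.1 hhN t).1 ht
    calc (z⁻¹ * h) * t * (z⁻¹ * h)⁻¹ = z⁻¹ * (h * t * h⁻¹) * z := by group
      _ = h * t * h⁻¹ := hzC _ h1
  have hkNT : z⁻¹ * h ∈ Subgroup.normalizer ((((S : Subgroup G) ⊓ H : Subgroup G)) : Set G) := by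
    apply Subgroup.mul_mem _ _ hhN
    apply Subgroup.inv_mem
    exact Subgroup.centralizer_le_normalizer _ hz.2
  refine ⟨Cfsg.Agent.Helper87.conjAut _ (z⁻¹ * h) hk, ?_, ?_, ?_⟩
  · rw [gfs_autGroup_eq _ _ hP₀S, Cfsg.Agent.Helper84.mem_autInducedBy_iff]
    exact ⟨z⁻¹ * h, Subgroup.mem_top _, fun x => rfl⟩
  · intro x
    show (z⁻¹ * h) * (x : G) * (z⁻¹ * h)⁻¹ = _
    rw [hkT x x.2, eh]
  · intro c hc
    show (c : G)⁻¹ * ((z⁻¹ * h) * (c : G) * (z⁻¹ * h)⁻¹) ∈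
      ((S : Subgroup G) ⊓ H) ⊓ Subgroup.centralizer ((((S : Subgroup G) ⊓ H : Subgroup G)) : Set G)
    have hcS : (c : G) ∈ (S : Subgroup G) := hc.1
    have hcC : (c : G) ∈ Subgroup.centralizer ((((S : Subgroup G) ⊓ H : Subgroup G)) : Set G) := hc.2
    have hβc : (z⁻¹ * h) * (c : G) * (z⁻¹ * h)⁻¹ ∈
        ((S : Subgroup G) ⊓ H) ⊔ centralizerIn (S : Subgroup G) ((S : Subgroup G) ⊓ H) :=
      (Subgroup.mem_normalizer_iff.1 hk c).1 c.2
    refine ⟨⟨?_, ?_⟩, ?_⟩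
    · exact Subgroup.mul_mem _ (Subgroup.inv_mem _ hcS) (hP₀S hβc)
    · have e : (c : G)⁻¹ * ((z⁻¹ * h) * (c : G) * (z⁻¹ * h)⁻¹) =
          ((c : G)⁻¹ * (z⁻¹ * h) * (c : G)⁻¹⁻¹) * (z⁻¹ * h)⁻¹ := by group
      rw [e]
      exact H.mul_mem (hHn.conj_mem _ hkH _) (H.inv_mem hkH)
    · have h1 := (Subgroup.mem_normalizer_iff.1
        (normalizer_le_normalizer_centralizer _ hkNT) c).1 hcC
      exact Subgroup.mul_mem _ (Subgroup.inv_mem _ hcC) h1

end Cfsg.Agent.S5118
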