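import Cfsg.Statements.S5124
import Mathlib
import Cfsg.Agent.Lib.Helper87.FusionNormal
import Cfsg.Agent.Lib.Helper86.GroupLemmas

set_option autoImplicit false
open Cfsg

namespace Cfsg.Agent.S5124

open Cfsg.FusionSystem Cfsg.Agent.Helper87 Cfsg.Agent.Helper86

variable {Ω : Type*} [Group Ω] {S : Subgroup Ω}

theorem gen_mem (F : FusionSystem S) (p : ℕ) {P : Subgroup Ω} (hP : P ≤ S) (a : F.autGroup P)
    (ha : a ∈ pResidual p (F.autGroup P)) (x : P) :
    (x : Ω)⁻¹ * ((a : MulAut P) x : P) ∈ F.hyperfocalSubgroup p :=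
  Subgroup.subset_closure ⟨P, a, x, hP, ha, rfl⟩

theorem hyperfocal_le (F : FusionSystem S) (p : ℕ) : F.hyperfocalSubgroup p ≤ S := by
  unfold FusionSystem.hyperfocalSubgroup
  rw [Subgroup.closure_le]
  rintro y ⟨P, α, x, hP, -, rfl⟩
  exact S.mul_mem (S.inv_mem (hP x.2)) (hP ((α : MulAut P) x).2)

/-- conjugating a generator of the hyperfocal subgroup by an element of `S` -/
theorem conj_gen_mem (F : FusionSystem S) (p : ℕ) {P : Subgroup Ω} (hP : P ≤ S) {s : Ω} (hs : s ∈ S)
    (a : F.autGroup P) (ha : a ∈ pResidual p (F.autGroup P)) :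
    ∀ x : P, s * ((x : Ω)⁻¹ * ((a : MulAut P) x : P)) * s⁻¹ ∈ F.hyperfocalSubgroup p := by
  unfold pResidual at ha
  induction ha using Subgroup.closure_induction with
  | mem a ha =>
    intro x
    have hmor : Mor F P (fun x => s * x * s⁻¹) := Mor.conj hP hs
    have hiso : Iso F P hmor.image (fun x => s * x * s⁻¹) := Iso.of_mor hmor
    have hP' : hmor.image ≤ S := hiso.le_right
    have hα' : MulAut.congr hiso.equiv (a : MulAut P) ∈ F.autGroup hmor.image :=
      congr_mem_autGroup hiso a.2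
    have hord : orderOf (⟨_, hα'⟩ : F.autGroup hmor.image) = orderOf a := by
      rw [Subgroup.orderOf_mk, MulEquiv.orderOf_eq, Subgroup.orderOf_coe]
    have hmem : (⟨_, hα'⟩ : F.autGroup hmor.image) ∈ pResidual p (F.autGroup hmor.image) := by
      apply Subgroup.subset_closure
      show Nat.Coprime (orderOf (⟨_, hα'⟩ : F.autGroup hmor.image)) p
      rw [hord]
      exact ha
    have := gen_mem F p hP' _ hmem (hiso.equiv x)
    convert this using 1
    have h1 : ((MulAut.congr hiso.equiv (a : MulAut P)) (hiso.equiv x)) =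
        hiso.equiv ((a : MulAut P) x) := by
      rw [congr_apply, MulEquiv.symm_apply_apply]
    show _ = ((hiso.equiv x : hmor.image) : Ω)⁻¹ * ((MulAut.congr hiso.equiv (a : MulAut P)) (hiso.equiv x) : hmor.image)
    rw [h1, hiso.equiv_apply, hiso.equiv_apply]
    group
  | one =>
    intro x
    simp
  | mul a b _ _ iha ihb =>
    intro x
    have h1 := ihb x
    have h2 := iha ((b : MulAut P) x)
    have h3 := Subgroup.mul_mem _ h1 h2
    convert h3 using 1
    show s * ((x : Ω)⁻¹ * (((a : MulAut P) ((b : MulAut P) x) : P) : Ω)) * s⁻¹ = _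
    group
  | inv a _ iha =>
    intro x
    have h1 := iha (((a : MulAut P)⁻¹) x)
    have h2 := Subgroup.inv_mem _ h1
    convert h2 using 1
    have h3 : (a : MulAut P) (((a : MulAut P)⁻¹) x) = x := by simp
    show s * ((x : Ω)⁻¹ * ((((a : MulAut P)⁻¹) x : P) : Ω)) * s⁻¹ = _
    rw [h3]
    group

theorem conj_mem (F : FusionSystem S) (p : ℕ) {s : Ω} (hs : s ∈ S) {y : Ω}
    (hy : y ∈ F.hyperfocalSubgroup p) : s * y * s⁻¹ ∈ F.hyperfocalSubgroup p := by
  unfold FusionSystem.hyperfocalSubgroup at hy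
  induction hy using Subgroup.closure_induction with
  | mem y hy =>
    obtain ⟨P, a, x, hP, ha, rfl⟩ := hy
    exact conj_gen_mem F p hP hs a ha x
  | one => simp
  | mul y z _ _ ihy ihz =>
    have := Subgroup.mul_mem _ ihy ihz
    convert this using 1
    group
  | inv y _ ihy =>
    have := Subgroup.inv_mem _ ihy
    convert this using 1
    group

/-- In a saturated fusion system over a finite p-group S the hyperfocal subgroup is strongly closed in the system. -/
theorem result {Ω : Type*} [Group Ω] {S : Subgroup Ω} [Finite S] (p : ℕ) [Fact p.Prime] (hS : IsPGroup p S) (F : Cfsg.FusionSystem S) (hF : F.IsSaturated p) : F.StronglyClosed (F.hyperfocalSubgroup p) := by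
  have hclosed : AlperinClosed F (fun P f => ∀ x ∈ P, x ∈ F.hyperfocalSubgroup p → f x ∈ F.hyperfocalSubgroup p) := by
    constructor
    · intro P f f' h hff x hx hxH
      rw [← hff x hx]
      exact h x hx hxH
    · intro P Q f _ h hQP x hx hxH
      exact h x (hQP hx) hxH
    · intro P Q f g _ _ hPQ hf hg x hx hxH
      exact hg _ (hPQ x hx) (hf x hx hxH)
  have hall := alperin hS hF _ hclosed (by
    intro R hfn _ _ α hα x hx hxH
    have hRS : R ≤ S := hfn.1
    have hfinR : Finite R := Helper87.finite_of_le hRS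
    obtain ⟨-, T₀, hT₀⟩ := fullyAutomized_of_fullyNormalized hS hF hfn
    obtain ⟨ρ, hρ, τ, hτ, hρτ⟩ := exists_mul_of_sylow T₀ ⟨α, hα⟩
    rw [hT₀, Subgroup.mem_subgroupOf] at hτ
    obtain ⟨s, hs, hsτ⟩ := Helper87.mem_autInducedBy_iff.1 hτ
    have hα_eq : α = (ρ : MulAut R) * (τ : MulAut R) := congrArg Subtype.val hρτ
    rw [extAut_mem α hx, hα_eq]
    show (((ρ : MulAut R) ((τ : MulAut R) ⟨x, hx⟩) : R) : Ω) ∈ F.hyperfocalSubgroup p
    set z : R := (τ : MulAut R) ⟨x, hx⟩ with hz
    have hzH : (z : Ω) ∈ F.hyperfocalSubgroup p := by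
      rw [hz, hsτ]
      exact conj_mem F p hs hxH
    have h1 := gen_mem F p hRS ρ hρ z
    have h2 := Subgroup.mul_mem _ hzH h1
    convert h2 using 1
    group)
  refine ⟨hyperfocal_le F p, fun R hR φ hφ x => ?_⟩
  have := hall R (extFun φ) (mor_of_mem hφ) x x.2 (hR x.2)
  rwa [extFun_apply] at this

end Cfsg.Agent.S5124
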