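import Cfsg.Statements.S5092
import Cfsg.Agent.Lib.Helper87.FusionOmega
import Cfsg.Agent.Lib.Helper86.GroupLemmas

set_option autoImplicit false
open Cfsg

namespace Cfsg.Agent.S5092

open Cfsg.FusionSystem Cfsg.Agent.Helper87
open scoped commutatorElement

/-- For a saturated fusion system over a finite p-group S, the focal subgroup is the product of the hyperfocal subgroup and the derived subgroup of S. -/
theorem result {Ω : Type*} [Group Ω] {S : Subgroup Ω} [Finite S] (p : ℕ) [Fact p.Prime] (hS : IsPGroup p S) (F : Cfsg.FusionSystem S) (hF : F.IsSaturated p) : F.focalSubgroup = F.hyperfocalSubgroup p ⊔ ⁅(S : Subgroup Ω), (S : Subgroup Ω)⁆ := by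
  apply le_antisymm
  · -- focal ≤ hyperfocal ⊔ derived, by Alperin's theorem
    set H : Subgroup Ω := F.hyperfocalSubgroup p ⊔ ⁅(S : Subgroup Ω), (S : Subgroup Ω)⁆ with hH
    have hclosed : AlperinClosed F (fun P f => ∀ x ∈ P, x⁻¹ * f x ∈ H) := by
      refine ⟨?_, ?_, ?_⟩
      · intro P f f' h hff x hx
        rw [← hff x hx]
        exact h x hx
      · intro P Q f _ h hQP x hx
        exact h x (hQP hx)
      · intro P Q f g _ _ hPQ hf hg x hx
        have h1 := hf x hx
        have h2 := hg (f x) (hPQ x hx)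
        have := H.mul_mem h1 h2
        rwa [mul_assoc, mul_inv_cancel_left] at this
    have key := alperin hS hF _ hclosed (by
      intro R hfn _ _ α hα x hx
      have hR : R ≤ S := hfn.1
      have hfinR : Finite R := finite_of_le hR
      obtain ⟨-, Syl, hSyl⟩ := fullyAutomized_of_fullyNormalized hS hF hfn
      obtain ⟨ρ, hρ, τ, hτ, hατ⟩ := Helper86.exists_mul_of_sylow Syl ⟨α, hα⟩
      have hτ' : (τ : MulAut R) ∈ autInducedBy S R := by
        have : τ ∈ (Syl : Subgroup (F.autGroup R)) := hτ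
        rw [hSyl] at this
        exact Subgroup.mem_subgroupOf.1 this
      obtain ⟨s, hs, es⟩ := mem_autInducedBy_iff.1 hτ'
      have hα' : α = (ρ : MulAut R) * (τ : MulAut R) := by
        have := congrArg Subtype.val hατ
        exact this
      rw [extAut_mem α hx, hα']
      show x⁻¹ * (((ρ : MulAut R) ((τ : MulAut R) ⟨x, hx⟩) : R) : Ω) ∈ H
      have h1 : x⁻¹ * (((τ : MulAut R) ⟨x, hx⟩ : R) : Ω) ∈ H := by
        apply (le_sup_right : ⁅(S : Subgroup Ω), (S : Subgroup Ω)⁆ ≤ H)
        rw [es ⟨x, hx⟩]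
        have h2 : x⁻¹ * (s * x * s⁻¹) = ⁅x⁻¹, s⁆ := by
          rw [commutatorElement_def]; group
        show x⁻¹ * (s * x * s⁻¹) ∈ _
        rw [h2]
        exact Subgroup.commutator_mem_commutator (S.inv_mem (hR hx)) hs
      have h2 : ((((τ : MulAut R) ⟨x, hx⟩ : R) : Ω))⁻¹ *
          (((ρ : MulAut R) ((τ : MulAut R) ⟨x, hx⟩) : R) : Ω) ∈ H := by
        apply (le_sup_left : F.hyperfocalSubgroup p ≤ H)
        apply Subgroup.subset_closure
        exact ⟨R, ρ, (τ : MulAut R) ⟨x, hx⟩, hR, hρ, rfl⟩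
      have := H.mul_mem h1 h2
      rwa [mul_assoc, mul_inv_cancel_left] at this)
    unfold focalSubgroup
    rw [Subgroup.closure_le]
    rintro y ⟨P, φ, x, hφ, rfl⟩
    have := key P _ (mor_of_mem hφ) x x.2
    rwa [extFun_apply] at this
  · apply sup_le
    · unfold hyperfocalSubgroup
      rw [Subgroup.closure_le]
      rintro y ⟨P, α, x, hP, -, rfl⟩
      exact comm_mem_focal hP α.2 x
    · rw [Subgroup.commutator_le]
      intro a ha b hb
      apply Subgroup.subset_closure
      refine ⟨S, conjHom S b, ⟨a⁻¹, S.inv_mem ha⟩, F.conj_mem le_rfl hb, ?_⟩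
      show ⁅a, b⁆ = (a⁻¹)⁻¹ * (b * a⁻¹ * b⁻¹)
      rw [commutatorElement_def]; group

end Cfsg.Agent.S5092
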