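-- Statement S5203
import Mathlib
import Cfsg.Statements.S5203
import Cfsg.Agent.Lib.Helper86.FusionWeakAlperin
import Cfsg.Agent.Lib.Helper86.GroupLemmas
import Cfsg.Agent.Lib.Helper86.CoprimeAut
import Cfsg.Agent.Lib.Helper87.FusionNormalCrit
import Cfsg.Agent.S5124

set_option autoImplicit false
open Cfsg

namespace Cfsg.Agent.S5203

open Cfsg.FusionSystem Cfsg.Agent.Helper86

universe u

variable {Ω : Type u} [Group Ω]

/-- two fusion systems (possibly over different subgroups) with the same maps -/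
def Same {S S' : Subgroup Ω} (F : FusionSystem S) (F' : FusionSystem S') : Prop :=
  ∀ P : Subgroup Ω, F.Hom P = F'.Hom P

theorem id_mem {S : Subgroup Ω} (F : FusionSystem S) {P : Subgroup Ω} (hP : P ≤ S) :
    P.subtype ∈ F.Hom P := by
  have h := F.conj_mem hP S.one_mem
  have e : conjHom P 1 = P.subtype := by
    ext x
    show (1 : Ω) * x * 1⁻¹ = x
    simp
  rwa [e] at h

theorem le_of_sub {S S' : Subgroup Ω} {F : FusionSystem S} {F' : FusionSystem S'}
    (h : F.IsSubsystemOf F') : S ≤ S' :=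
  (F'.le_of_mem (h S (id_mem F le_rfl))).1

theorem Same.base_eq {S S' : Subgroup Ω} {F : FusionSystem S} {F' : FusionSystem S'}
    (h : Same F F') : S = S' :=
  le_antisymm (le_of_sub (fun P => (h P).le)) (le_of_sub (fun P => (h P).ge))

theorem eq_of_same {S : Subgroup Ω} {F F' : FusionSystem S} (h : Same F F') : F = F' := by
  cases F
  cases F'
  congr
  funext P
  exact h P

theorem Same.symm {S S' : Subgroup Ω} {F : FusionSystem S} {F' : FusionSystem S'}
    (h : Same F F') : Same F' F := fun P => (h P).symm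

theorem Same.trans {S S' S'' : Subgroup Ω} {F : FusionSystem S} {F' : FusionSystem S'}
    {F'' : FusionSystem S''} (h : Same F F') (h' : Same F' F'') : Same F F'' :=
  fun P => (h P).trans (h' P)

theorem same_of_sub {S S' : Subgroup Ω} {F : FusionSystem S} {F' : FusionSystem S'}
    (h : F.IsSubsystemOf F') (h' : F'.IsSubsystemOf F) : Same F F' :=
  fun P => Set.Subset.antisymm (h P) (h' P)


/-- a saturated subsystem of `F` over `H₁` lies in every subsystem of `p`-power index over `H₂ ≥ H₁` -/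
theorem sub_of_ppower {p : ℕ} [Fact p.Prime] {S H₁ H₂ : Subgroup Ω} [Finite H₁] (hH₁ : IsPGroup p H₁)
    {F : FusionSystem S} {D₁ : FusionSystem H₁} {D₂ : FusionSystem H₂}
    (hsat : D₁.IsSaturated p) (hsub : D₁.IsSubsystemOf F) (hidx : D₂.HasPPowerIndexIn F p)
    (hH : H₁ ≤ H₂) : D₁.IsSubsystemOf D₂ := by
  have hH₁S : H₁ ≤ S := le_of_sub hsub
  apply weak_alperin hH₁ D₁ hsat D₂
  intro P hfa _ α hα
  obtain ⟨hPT, R, hR⟩ := hfa
  have hPU : P ≤ H₂ := hPT.trans hH
  have hPS : P ≤ S := hPT.trans hH₁S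
  have hfinP : Finite P := finite_of_le hPT
  have hαA : α ∈ D₁.autGroup P := mem_autGroup_of_isIso D₁ hα
  obtain ⟨ρ, hρ, τ, hτ, hρτ⟩ := exists_mul_of_sylow R ⟨α, hαA⟩
  have hle : D₁.autGroup P ≤ F.autGroup P := by
    intro β hβ
    have h1 : IsIso D₁ β := (mem_autGroup_iff D₁ hPT β).mp hβ
    exact mem_autGroup_of_isIso F (hsub P h1)
  have hρ' : (ρ : MulAut P) ∈ D₂.autGroup P := by
    apply hidx.2.2 P hPU
    apply pResidual_map_subtype_mono p hle
    exact ⟨ρ, hρ, rfl⟩
  have hτ' : (τ : MulAut P) ∈ D₂.autGroup P := by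
    rw [hR, Subgroup.mem_subgroupOf] at hτ
    obtain ⟨g, hg, hgτ⟩ := (mem_autInducedBy_iff H₁ P _).mp hτ
    apply autInducedBy_le_autGroup D₂ hPU
    exact (mem_autInducedBy_iff H₂ P _).mpr ⟨g, hH hg, hgτ⟩
  have hα' : α ∈ D₂.autGroup P := by
    have : α = (ρ : MulAut P) * (τ : MulAut P) := congrArg Subtype.val hρτ
    rw [this]
    exact (D₂.autGroup P).mul_mem hρ' hτ'
  exact (mem_autGroup_iff D₂ hPU α).mp hα'

/-- the `p'`-residual subsystem is unique -/
theorem same_of_pPrimeResidual {p : ℕ} {S : Subgroup Ω} {F : FusionSystem S} {E₁ E₂ : FusionSystem S}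
    (h₁ : F.IsPPrimeResidual p E₁) (h₂ : F.IsPPrimeResidual p E₂) : Same E₁ E₂ :=
  same_of_sub (h₁.2.2 E₂ h₂.1 h₂.2.1) (h₂.2.2 E₁ h₁.1 h₁.2.1)


theorem autGroup_le_of_sub {S T : Subgroup Ω} {F : FusionSystem S} {E : FusionSystem T}
    (h : E.IsSubsystemOf F) {P : Subgroup Ω} (hP : P ≤ T) : E.autGroup P ≤ F.autGroup P := by
  intro β hβ
  have h1 : IsIso E β := (mem_autGroup_iff E hP β).mp hβ
  exact mem_autGroup_of_isIso F (h P h1)

/-- the hyperfocal subgroup is monotone in the system -/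
theorem hyperfocal_mono {p : ℕ} {S T : Subgroup Ω} {F : FusionSystem S} {E : FusionSystem T}
    (h : E.IsSubsystemOf F) : E.hyperfocalSubgroup p ≤ F.hyperfocalSubgroup p := by
  have hTS : T ≤ S := le_of_sub h
  unfold FusionSystem.hyperfocalSubgroup
  rw [Subgroup.closure_le]
  rintro y ⟨P, α, x, hP, hα, rfl⟩
  have hle := autGroup_le_of_sub h hP
  have h1 : (α : MulAut P) ∈ (pResidual p (F.autGroup P)).map (F.autGroup P).subtype :=
    pResidual_map_subtype_mono p hle ⟨α, hα, rfl⟩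
  obtain ⟨α', hα', e⟩ := h1
  apply Subgroup.subset_closure
  refine ⟨P, α', x, hP.trans hTS, hα', ?_⟩
  have e' : (α' : MulAut P) = (α : MulAut P) := e
  rw [e']


open Cfsg.Agent.Helper87 in
/-- restriction of an automorphism in the system to an invariant subgroup -/
theorem restrict_aut_inv {S : Subgroup Ω} [Finite S] {F : FusionSystem S} {P P₀ : Subgroup Ω}
    (hP : P ≤ S) (hP₀ : P₀ ≤ P) (τ : MulAut P) (hτ : τ ∈ F.autGroup P)
    (hinv : ∀ t : P₀, ((τ ⟨t, hP₀ t.2⟩ : P) : Ω) ∈ P₀) :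
    ∃ β : MulAut P₀, β ∈ F.autGroup P₀ ∧ (∀ t : P₀, ((β t : P₀) : Ω) = ((τ ⟨t, hP₀ t.2⟩ : P) : Ω)) ∧
      orderOf β ∣ orderOf τ := by
  have hmor : Mor F P (extAut τ) := (Helper87.mem_autGroup_iff hP).1 hτ
  have hmorT : Mor F P₀ (extAut τ) := hmor.restrict hP₀
  have hmaps : ∀ t ∈ P₀, extAut τ t ∈ P₀ := by
    intro t ht
    rw [extAut_mem τ (hP₀ ht)]
    exact hinv ⟨t, ht⟩
  have hiso : Iso F P₀ P₀ (extAut τ) := iso_of_card_le hmorT (hP₀.trans hP) hmaps le_rfl
  have hβ : ∀ t : P₀, ((hiso.equiv t : P₀) : Ω) = ((τ ⟨t, hP₀ t.2⟩ : P) : Ω) := by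
    intro t
    rw [hiso.equiv_apply, extAut_mem τ (hP₀ t.2)]
  have hpow : ∀ i : ℕ, ∀ t : P₀, ((((hiso.equiv : MulAut P₀) ^ i) t : P₀) : Ω) =
      (((τ ^ i) ⟨t, hP₀ t.2⟩ : P) : Ω) := by
    intro i
    induction i with
    | zero => intro t; simp
    | succ i ih =>
      intro t
      rw [pow_succ', pow_succ', MulAut.mul_apply, MulAut.mul_apply]
      have h1 := hβ (((hiso.equiv : MulAut P₀) ^ i) t)
      have h2 : (⟨((((hiso.equiv : MulAut P₀) ^ i) t : P₀) : Ω),
          hP₀ (((hiso.equiv : MulAut P₀) ^ i) t).2⟩ : P) = (τ ^ i) ⟨t, hP₀ t.2⟩ := Subtype.ext (ih t)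
      rw [h2] at h1
      exact h1
  refine ⟨hiso.equiv, hiso.equiv_mem_autGroup, hβ, ?_⟩
  apply orderOf_dvd_of_pow_eq_one
  ext t
  have := hpow (orderOf τ) t
  rw [pow_orderOf_eq_one] at this
  simpa using this


/-- core step: commutators with automorphisms of prime power order `q^k`, `q ≠ p` -/
theorem comm_mem_hyperfocal_of_primePow {p : ℕ} [hp : Fact p.Prime] {S T : Subgroup Ω} [Finite S]
    (hS : IsPGroup p S) {F : FusionSystem S} {E : FusionSystem T} (hidx : E.HasPPowerIndexIn F p)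
    (hT : F.StronglyClosed T) {P : Subgroup Ω} (hP : P ≤ S) (h : F.autGroup P) {q k : ℕ}
    (hq : q.Prime) (hqp : q ≠ p) (hh : h ^ (q ^ k) = 1) (x : P) :
    (x : Ω)⁻¹ * (((h : MulAut P) x : P) : Ω) ∈ E.hyperfocalSubgroup p := by
  classical
  have : Fact q.Prime := ⟨hq⟩
  have hfinP : Finite P := finite_of_le hP
  have hPp : IsPGroup p P := hS.to_le hP
  have hcopq : (q ^ k).Coprime p := Nat.Coprime.pow_left k ((Nat.coprime_primes hq hp.out).2 hqp)
  have hordh : (orderOf h).Coprime p :=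
    Nat.Coprime.coprime_dvd_left (orderOf_dvd_of_pow_eq_one hh) hcopq
  have hβpow : (h : MulAut P) ^ (q ^ k) = 1 := by
    have := congrArg Subtype.val hh
    simpa using this
  -- `h` acts trivially modulo `T`
  have hres : h ∈ pResidual p (F.autGroup P) := Subgroup.subset_closure hordh
  have hcomm : (h : MulAut P) ∈ commStab (T.subgroupOf P) := by
    intro y
    rw [Subgroup.mem_subgroupOf]
    have := Cfsg.Agent.S5124.gen_mem F p hP h hres y
    exact hidx.2.1 (by simpa using this)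
  have hM : (Nat.card (T.subgroupOf P)).Coprime q := by
    obtain ⟨a, ha⟩ := IsPGroup.iff_card.1 (hPp.to_subgroup (T.subgroupOf P))
    rw [ha]
    exact Nat.Coprime.pow_left a ((Nat.coprime_primes hp.out hq).2 hqp.symm)
  obtain ⟨m, hm, hfix⟩ := exists_fixed_mul (h : MulAut P) k hβpow (T.subgroupOf P) hM hcomm x
  -- `x⁻¹ h(x) = y⁻¹ h(y)` with `y = m⁻¹ ∈ P ∩ T`
  have hxy : x⁻¹ * (h : MulAut P) x = (m⁻¹)⁻¹ * (h : MulAut P) m⁻¹ := by
    rw [map_mul] at hfix
    have h1 : (h : MulAut P) x = x * m * ((h : MulAut P) m)⁻¹ := by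
      rw [← hfix]; group
    rw [h1, map_inv]; group
  have hmT : (m : Ω) ∈ T := Subgroup.mem_subgroupOf.1 hm
  -- restrict to `P ⊓ T`
  have hinv : ∀ t : (P ⊓ T : Subgroup Ω),
      (((h : MulAut P) ⟨t, (inf_le_left : P ⊓ T ≤ P) t.2⟩ : P) : Ω) ∈ P ⊓ T := by
    intro t
    exact ⟨((h : MulAut P) _).2, Cfsg.Agent.Helper87.aut_mem_of_stronglyClosed hT hP h.2 t.2.2⟩
  obtain ⟨β₀, hβ₀F, hβ₀, hβ₀ord⟩ := restrict_aut_inv hP inf_le_left (h : MulAut P) h.2 hinv
  have hord0 : (orderOf β₀).Coprime p := by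
    have h1 : orderOf (h : MulAut P) = orderOf h := Subgroup.orderOf_coe h
    exact Nat.Coprime.coprime_dvd_left (hβ₀ord.trans (h1 ▸ dvd_rfl)) hordh
  have hP₀T : (P ⊓ T : Subgroup Ω) ≤ T := inf_le_right
  have hβ₀E : β₀ ∈ E.autGroup (P ⊓ T) := by
    apply hidx.2.2 (P ⊓ T) hP₀T
    refine ⟨⟨β₀, hβ₀F⟩, Subgroup.subset_closure ?_, rfl⟩
    show (orderOf (⟨β₀, hβ₀F⟩ : F.autGroup (P ⊓ T))).Coprime p
    rw [← Subgroup.orderOf_coe]
    exact hord0
  have hβ₀res : (⟨β₀, hβ₀E⟩ : E.autGroup (P ⊓ T)) ∈ pResidual p (E.autGroup (P ⊓ T)) := by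
    apply Subgroup.subset_closure
    show (orderOf (⟨β₀, hβ₀E⟩ : E.autGroup (P ⊓ T))).Coprime p
    rw [← Subgroup.orderOf_coe]
    exact hord0
  have hy : ((m⁻¹ : P) : Ω) ∈ P ⊓ T := ⟨(m⁻¹ : P).2, by
    rw [Subgroup.coe_inv]; exact T.inv_mem hmT⟩
  have hgen := Cfsg.Agent.S5124.gen_mem E p hP₀T ⟨β₀, hβ₀E⟩ hβ₀res ⟨((m⁻¹ : P) : Ω), hy⟩
  have e1 : (x : Ω)⁻¹ * (((h : MulAut P) x : P) : Ω) =
      ((m⁻¹ : P) : Ω)⁻¹ * (((h : MulAut P) m⁻¹ : P) : Ω) := by
    have := congrArg (Subtype.val) hxy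
    simpa using this
  rw [e1]
  have e2 := hβ₀ ⟨((m⁻¹ : P) : Ω), hy⟩
  have e3 : (⟨(((m⁻¹ : P) : Ω)), (inf_le_left : P ⊓ T ≤ P) hy⟩ : P) = m⁻¹ := Subtype.ext rfl
  rw [e3] at e2
  rw [← e2]
  exact hgen


/-- a subsystem of `p`-power index over a strongly closed subgroup has the same hyperfocal subgroup -/
theorem hyperfocal_le_of_ppower {p : ℕ} [hp : Fact p.Prime] {S T : Subgroup Ω} [Finite S]
    (hS : IsPGroup p S) {F : FusionSystem S} {E : FusionSystem T} (hidx : E.HasPPowerIndexIn F p)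
    (hT : F.StronglyClosed T) : F.hyperfocalSubgroup p ≤ E.hyperfocalSubgroup p := by
  classical
  have h0 : ∀ y ∈ {y : Ω | ∃ (P : Subgroup Ω) (α : F.autGroup P) (x : P), P ≤ S ∧
      α ∈ pResidual p (F.autGroup P) ∧ y = (x : Ω)⁻¹ * ((α : MulAut P) x : P)},
      y ∈ E.hyperfocalSubgroup p := by
    rintro y ⟨P, α, x, hP, hα, rfl⟩
    have hfinP : Finite P := finite_of_le hP
    have key : pResidual p (F.autGroup P) ≤
        (commStab ((E.hyperfocalSubgroup p).subgroupOf P)).comap (F.autGroup P).subtype := by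
      unfold pResidual
      rw [Subgroup.closure_le]
      intro g hg
      have h1 := mem_closure_primePow (p := p) g hg
      refine (Subgroup.closure_le _).2 ?_ h1
      rintro h ⟨q, k, hq, hqp, hh⟩
      show (h : MulAut P) ∈ commStab ((E.hyperfocalSubgroup p).subgroupOf P)
      intro z
      rw [Subgroup.mem_subgroupOf]
      have := comm_mem_hyperfocal_of_primePow hS hidx hT hP h hq hqp hh z
      simpa using this
    have h2 := key hα x
    rw [Subgroup.mem_subgroupOf] at h2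
    simpa using h2
  unfold FusionSystem.hyperfocalSubgroup
  rw [Subgroup.closure_le]
  exact h0


/-- the `p'`-residual subsystems of two systems with the same maps have the same maps -/
theorem pPrimeResidual_congr {p : ℕ} {H H₂ : Subgroup Ω} {D D' : FusionSystem H}
    {D₂ D₂' : FusionSystem H₂} (hs : Same D D₂) (h : D.IsPPrimeResidual p D')
    (h₂ : D₂.IsPPrimeResidual p D₂') : Same D' D₂' := by
  obtain rfl : H = H₂ := hs.base_eq
  obtain rfl : D = D₂ := eq_of_same hs
  exact same_of_pPrimeResidual h h₂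

/-- a saturated subsystem of `p`-power index over the whole of `S` is everything -/
theorem same_of_ppower_top {p : ℕ} [Fact p.Prime] {S H : Subgroup Ω} [Finite S] (hS : IsPGroup p S)
    {F : FusionSystem S} (hF : F.IsSaturated p) {D : FusionSystem H} (hD : D.HasPPowerIndexIn F p)
    (hH : S ≤ H) : Same D F :=
  same_of_sub hD.1 (sub_of_ppower hS hF (fun _ => subset_rfl) hD hH)

/-- residual limits of a stable system -/
theorem rl_of_stable {p : ℕ} [Fact p.Prime] {S : Subgroup Ω} [Finite S] (hS : IsPGroup p S)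
    (F : FusionSystem S) (hhyp : F.hyperfocalSubgroup p = S) (hres : F.IsPPrimeResidual p F) :
    ∀ {T' S' : Subgroup Ω} (E' : FusionSystem T') (F' : FusionSystem S') (q : ℕ),
      IsResidualLimitOf E' F' q → q = p → Same F' F → Same E' F := by
  intro T' S' E' F' q h
  induction h with
  | stable F' q h1 h2 =>
    intro _ hs
    exact hs
  | step F' q D D' hD hD' hrl ih =>
    intro hq hs
    subst hq
    apply ih rfl
    obtain rfl := hs.base_eq
    obtain rfl : F' = F := eq_of_same hs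
    have hDF : Same D F' := same_of_ppower_top hS hres.1 hD.2 hhyp.ge
    exact pPrimeResidual_congr hDF hD' hres

theorem same_refl {S : Subgroup Ω} (F : FusionSystem S) : Same F F := fun _ => rfl

/-- residual limits of systems with the same maps have the same maps -/
theorem rl_unique {p : ℕ} [Fact p.Prime] :
    ∀ {T S : Subgroup Ω} (E : FusionSystem T) (F : FusionSystem S) (q : ℕ),
      IsResidualLimitOf E F q → q = p → Finite S → IsPGroup p S →
      ∀ {T' S' : Subgroup Ω} (E' : FusionSystem T') (F' : FusionSystem S'),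
        IsResidualLimitOf E' F' p → Same F F' → Same E E' := by
  intro T S E F q h
  induction h with
  | stable F q h1 h2 =>
    intro hq hfin hS T' S' E' F' h' hs
    subst hq
    exact (rl_of_stable hS F h1 h2 E' F' q h' rfl hs.symm).symm
  | step F q D D' hD hD' hrl ih =>
    intro hq hfin hS T' S' E' F' h' hs
    subst hq
    obtain rfl := hs.base_eq
    obtain rfl : F = F' := eq_of_same hs
    have hfirst := IsResidualLimitOf.step F q D D' hD hD' hrl
    have hle := Cfsg.Agent.S5124.hyperfocal_le F q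
    have hfinH : Finite (F.hyperfocalSubgroup q) := finite_of_le hle
    have hHp : IsPGroup q (F.hyperfocalSubgroup q) := hS.to_le hle
    cases h' with
    | stable _ _ h1' h2' =>
      exact rl_of_stable hS F h1' h2' _ F q hfirst rfl (same_refl F)
    | step _ _ D₂ D₂' hD₂ hD₂' hrl₂ =>
      have h12 : Same D D₂ :=
        same_of_sub (sub_of_ppower hHp hD.1 hD.2.1 hD₂.2 le_rfl)
          (sub_of_ppower hHp hD₂.1 hD₂.2.1 hD.2 le_rfl)
      have h12' : Same D' D₂' := pPrimeResidual_congr h12 hD' hD₂'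
      exact ih rfl hfinH hHp E' D₂' hrl₂ h12'

theorem result {Ω : Type*} [Group Ω] {S : Subgroup Ω} [Finite S] (p : ℕ) [Fact p.Prime] (hS : IsPGroup p S) (F : Cfsg.FusionSystem S) (hF : F.IsSaturated p) {T : Subgroup Ω} (E : Cfsg.FusionSystem T) (hE : E.IsNormalIn F p) (hidx : E.HasPPowerIndexIn F p) {U V : Subgroup Ω} (Finf : Cfsg.FusionSystem U) (hFinf : Finf.IsResidualLimitOf F p) (Einf : Cfsg.FusionSystem V) (hEinf : Einf.IsResidualLimitOf E p) : ∀ P : Subgroup Ω, Finf.Hom P = Einf.Hom P := by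
  have hEsat : E.IsSaturated p := hE.1.1
  have hEF : E.IsSubsystemOf F := hE.1.2.2.1
  have hTsc : F.StronglyClosed T := hE.1.2.2.2.1
  have hTS : T ≤ S := le_of_sub hEF
  have hfinT : Finite T := finite_of_le hTS
  have hTp : IsPGroup p T := hS.to_le hTS
  have hhypEF : E.hyperfocalSubgroup p ≤ F.hyperfocalSubgroup p := hyperfocal_mono hEF
  have hhypFE : F.hyperfocalSubgroup p ≤ E.hyperfocalSubgroup p :=
    hyperfocal_le_of_ppower hS hidx hTsc
  have hhypFS := Cfsg.Agent.S5124.hyperfocal_le F p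
  have hhypET := Cfsg.Agent.S5124.hyperfocal_le E p
  have hfinHF : Finite (F.hyperfocalSubgroup p) := finite_of_le hhypFS
  have hHFp : IsPGroup p (F.hyperfocalSubgroup p) := hS.to_le hhypFS
  have hfinHE : Finite (E.hyperfocalSubgroup p) := finite_of_le hhypET
  have hHEp : IsPGroup p (E.hyperfocalSubgroup p) := hTp.to_le hhypET
  suffices h : Same Finf Einf from h
  cases hFinf with
  | stable _ _ h1 h2 =>
    -- `F` stable: `T = S` and `E = F`
    have hST : S ≤ T := h1 ▸ hidx.2.1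
    have hsame : Same E F := same_of_sub hEF (sub_of_ppower hS hF (fun _ => subset_rfl) hidx hST)
    exact (rl_unique Einf E p hEinf rfl hfinT hTp F F (IsResidualLimitOf.stable F p h1 h2) hsame).symm
  | step _ _ D D' hD hD' hrl =>
    cases hEinf with
    | stable _ _ h1 h2 =>
      -- `E` stable: `T = hyp E = hyp F`, `D = E`
      have hTle : T ≤ F.hyperfocalSubgroup p := by
        have : T ≤ E.hyperfocalSubgroup p := h1.ge
        exact this.trans hhypEF
      have hsame : Same D E :=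
        same_of_sub (sub_of_ppower hHFp hD.1 hD.2.1 hidx hidx.2.1)
          (sub_of_ppower hTp hEsat hEF hD.2 hTle)
      have hsame' : Same D' E := pPrimeResidual_congr hsame hD' h2
      exact rl_unique Finf D' p hrl rfl hfinHF hHFp E E (IsResidualLimitOf.stable E p h1 h2) hsame'
    | step _ _ DE DE' hDE hDE' hrlE =>
      have hDsubE : D.IsSubsystemOf E := sub_of_ppower hHFp hD.1 hD.2.1 hidx hidx.2.1
      have hsame : Same D DE :=
        same_of_sub (sub_of_ppower hHFp hD.1 hDsubE hDE.2 hhypFE)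
          (sub_of_ppower hHEp hDE.1 (fun P => (hDE.2.1 P).trans (hEF P)) hD.2 hhypEF)
      have hsame' : Same D' DE' := pPrimeResidual_congr hsame hD' hDE'
      exact rl_unique Finf D' p hrl rfl hfinHF hHFp Einf DE' hrlE hsame'

end Cfsg.Agent.S5203
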