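-- Statement S5120
import Mathlib
import Cfsg.Statements.S5120
import Cfsg.Agent.S5119
import Cfsg.Agent.S5203
import Cfsg.Agent.Lib.Helper87.FusionAlperin
import Cfsg.Agent.Lib.Helper87.FusionNormalCrit
import Cfsg.Agent.Lib.Helper87.FusionMore
import Cfsg.Agent.Lib.Helper87.FusionInvariant

set_option autoImplicit false
open Cfsg

namespace Cfsg.Agent.S5120

open Cfsg.FusionSystem Cfsg.Agent.Helper87

variable {Ω : Type*} [Group Ω] {S T : Subgroup Ω}

/-- a subgroup normal in `S` containing the hyperfocal subgroup is strongly closed -/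
theorem stronglyClosed_of_hyperfocal_le {p : ℕ} [Fact p.Prime] [Finite S] (hS : IsPGroup p S)
    {F : FusionSystem S} (hF : F.IsSaturated p) (hTS : T ≤ S) (hTn : (T.subgroupOf S).Normal)
    (hT : F.hyperfocalSubgroup p ≤ T) : F.StronglyClosed T := by
  have hconj : ∀ s ∈ S, ∀ x ∈ T, s * x * s⁻¹ ∈ T := by
    intro s hs x hx
    have := hTn.conj_mem ⟨x, hTS hx⟩ (Subgroup.mem_subgroupOf.2 hx) ⟨s, hs⟩
    exact Subgroup.mem_subgroupOf.1 this
  have hclosed : AlperinClosed F (fun P f => ∀ x ∈ P, x ∈ T → f x ∈ T) := by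
    constructor
    · intro P f f' h hff x hx hxH
      rw [← hff x hx]
      exact h x hx hxH
    · intro P Q f _ h hQP x hx hxH
      exact h x (hQP hx) hxH
    · intro P Q f g _ _ hPQ hf hg x hx hxH
      exact hg _ (hPQ x hx) (hf x hx hxH)
  have hall := alperin hS hF _ hclosed (by
    intro R hfn _ _ α hα x hx hxH
    have hRS : R ≤ S := hfn.1
    have hfinR : Finite R := Helper87.finite_of_le hRS
    obtain ⟨-, T₀, hT₀⟩ := fullyAutomized_of_fullyNormalized hS hF hfn
    obtain ⟨ρ, hρ, τ, hτ, hρτ⟩ := Helper86.exists_mul_of_sylow T₀ ⟨α, hα⟩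
    rw [hT₀, Subgroup.mem_subgroupOf] at hτ
    obtain ⟨s, hs, hsτ⟩ := Helper87.mem_autInducedBy_iff.1 hτ
    have hα_eq : α = (ρ : MulAut R) * (τ : MulAut R) := congrArg Subtype.val hρτ
    rw [extAut_mem α hx, hα_eq]
    show (((ρ : MulAut R) ((τ : MulAut R) ⟨x, hx⟩) : R) : Ω) ∈ T
    set z : R := (τ : MulAut R) ⟨x, hx⟩ with hz
    have hzH : (z : Ω) ∈ T := by
      rw [hz, hsτ]
      exact hconj s hs x hxH
    have h1 := hT (S5124.gen_mem F p hRS ρ hρ z)
    have h2 := Subgroup.mul_mem _ hzH h1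
    convert h2 using 1
    group)
  refine ⟨hTS, fun R hR φ hφ x => ?_⟩
  have := hall R (extFun φ) (mor_of_mem hφ) x x.2 (hR x.2)
  rwa [extFun_apply] at this

/-- transport of `O^p(Aut_F(P))` along an isomorphism of the system -/
theorem congr_mem_pResidual {F : FusionSystem S} {p : ℕ} {P Q : Subgroup Ω} {f : Ω → Ω}
    (h : Iso F P Q f) (a : F.autGroup P) (ha : a ∈ pResidual p (F.autGroup P)) :
    (⟨MulAut.congr h.equiv (a : MulAut P), congr_mem_autGroup h a.2⟩ : F.autGroup Q) ∈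
      pResidual p (F.autGroup Q) := by
  unfold pResidual at ha ⊢
  induction ha using Subgroup.closure_induction with
  | mem a ha =>
    apply Subgroup.subset_closure
    show Nat.Coprime (orderOf _) p
    rw [Subgroup.orderOf_mk, MulEquiv.orderOf_eq, Subgroup.orderOf_coe]
    exact ha
  | one =>
    convert Subgroup.one_mem _ using 1
    apply Subtype.ext
    show MulAut.congr h.equiv (1 : MulAut P) = 1
    exact map_one _
  | mul a b _ _ iha ihb =>
    convert Subgroup.mul_mem _ iha ihb using 1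
    apply Subtype.ext
    show MulAut.congr h.equiv ((a : MulAut P) * (b : MulAut P)) =
      MulAut.congr h.equiv (a : MulAut P) * MulAut.congr h.equiv (b : MulAut P)
    exact map_mul _ _ _
  | inv a _ iha =>
    convert Subgroup.inv_mem _ iha using 1
    apply Subtype.ext
    show MulAut.congr h.equiv ((a : MulAut P)⁻¹) = (MulAut.congr h.equiv (a : MulAut P))⁻¹
    exact map_inv _ _

/-- invariance of `E` under `Aut_F(T)`, at function level -/
def AInv (E : FusionSystem T) (F : FusionSystem S) : Prop :=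
  ∀ α ∈ F.autGroup T, ∀ (P : Subgroup Ω) (f : Ω → Ω), Mor E P f →
    Mor E (imgAut α P) (fun y => extAut α (f (extAut α⁻¹ y)))

theorem ainv_of_ppower {p : ℕ} [Fact p.Prime] [Finite S] (hS : IsPGroup p S)
    {F : FusionSystem S} {E : FusionSystem T} (hTS : T ≤ S) (hEs : E.IsSaturated p)
    (hEi : E.HasPPowerIndexIn F p) : AInv E F := by
  intro α hα
  have hfinT : Finite T := finite_of_le hTS
  have hTp : IsPGroup p T := hS.to_le hTS
  have hαF : Mor F T (extAut α) := (mem_autGroup_iff hTS).1 hα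
  have hclosed : AlperinClosed E
      (fun P f => P ≤ T → Mor E (imgAut α P) (fun y => extAut α (f (extAut α⁻¹ y)))) := by
    constructor
    · intro P f f' h hff hP
      refine (h hP).congr (fun y hy => ?_)
      obtain ⟨x, hx, rfl⟩ := (mem_imgAut hP).1 hy
      show extAut α (f (extAut α⁻¹ (extAut α x))) = extAut α (f' (extAut α⁻¹ (extAut α x)))
      rw [extAut_inv_left α (hP hx), hff x hx]
    · intro P Q f hf h hQP _
      exact (h hf.le).restrict (imgAut_mono α hQP)
    · intro P Q f g hf hg hPQ hCf hCg hP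
      have hQ : Q ≤ T := hg.le
      have h1 := hCf hP
      have h2 := hCg hQ
      refine (h1.comp h2 ?_).congr ?_
      · intro y hy
        obtain ⟨x, hx, rfl⟩ := (mem_imgAut hP).1 hy
        show extAut α (f (extAut α⁻¹ (extAut α x))) ∈ imgAut α Q
        rw [extAut_inv_left α (hP hx)]
        exact (mem_imgAut hQ).2 ⟨f x, hPQ x hx, rfl⟩
      · intro y hy
        obtain ⟨x, hx, rfl⟩ := (mem_imgAut hP).1 hy
        show extAut α (g (extAut α⁻¹ (extAut α (f (extAut α⁻¹ (extAut α x)))))) =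
          extAut α (g (f (extAut α⁻¹ (extAut α x))))
        rw [extAut_inv_left α (hP hx), extAut_inv_left α (hQ (hPQ x hx))]
  have hall := alperin hTp hEs _ hclosed (by
    intro R hfn _ _ β hβ hR
    have hfinR : Finite R := finite_of_le (hR.trans hTS)
    obtain ⟨-, T₀, hT₀⟩ := fullyAutomized_of_fullyNormalized hTp hEs hfn
    obtain ⟨ρ, hρ, τ, hτ, hρτ⟩ := Helper86.exists_mul_of_sylow T₀ ⟨β, hβ⟩
    rw [hT₀, Subgroup.mem_subgroupOf] at hτ
    obtain ⟨t, ht, htτ⟩ := mem_autInducedBy_iff.1 hτ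
    have hβ_eq : β = (ρ : MulAut R) * (τ : MulAut R) := congrArg Subtype.val hρτ
    have hR'T : imgAut α R ≤ T := imgAut_le α R
    have hiso : Iso F R (imgAut α R) (extAut α) := ⟨hαF.restrict hR, fun y => mem_imgAut hR⟩
    have hginv : ∀ x ∈ R, extAut α⁻¹ (extAut α x) = x := fun x hx => extAut_inv_left α (hR hx)
    have hle : E.autGroup R ≤ F.autGroup R := S5203.autGroup_le_of_sub hEi.1 hR
    obtain ⟨ρ', hρ', eρ⟩ := Helper86.pResidual_map_subtype_mono p hle ⟨ρ, hρ, rfl⟩
    have h1 := congr_mem_pResidual hiso ρ' hρ'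
    have h2 : MulAut.congr hiso.equiv (ρ' : MulAut R) ∈ E.autGroup (imgAut α R) :=
      hEi.2.2 _ hR'T ⟨_, h1, rfl⟩
    have eρ' : (ρ' : MulAut R) = (ρ : MulAut R) := eρ
    rw [eρ'] at h2
    have h3 : MulAut.congr hiso.equiv (τ : MulAut R) ∈ E.autGroup (imgAut α R) := by
      apply autInducedBy_le_autGroup E hR'T
      rw [mem_autInducedBy_iff]
      refine ⟨extAut α t, extAut_mem_self α ht, fun y => ?_⟩
      rw [congr_apply, hiso.equiv_apply, htτ, hiso.equiv_symm_apply hginv]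
      have hyT : (y : Ω) ∈ T := hR'T y.2
      have hxT : extAut α⁻¹ (y : Ω) ∈ T := extAut_mem_self _ hyT
      rw [hαF.map_mul (T.mul_mem ht hxT) (T.inv_mem ht), hαF.map_mul ht hxT, hαF.map_inv ht,
        extAut_inv_right α hyT]
    have h4 : MulAut.congr hiso.equiv β ∈ E.autGroup (imgAut α R) := by
      rw [hβ_eq, map_mul]
      exact Subgroup.mul_mem _ h2 h3
    have h5 : Mor E (imgAut α R) (extAut (MulAut.congr hiso.equiv β)) :=
      (mem_autGroup_iff hR'T).1 h4
    refine h5.congr (fun y hy => ?_)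
    rw [extAut_mem _ hy, congr_apply, hiso.equiv_apply, ← extAut_apply β,
      hiso.equiv_symm_apply hginv])
  intro P f hf
  exact hall P f hf hf.le

theorem imgAut_inv_imgAut' (α : MulAut T) {P : Subgroup Ω} (hP : P ≤ T) :
    imgAut α⁻¹ (imgAut α P) = P := by
  have := imgAut_inv_imgAut α⁻¹ hP
  rwa [inv_inv] at this

/-- composition of decomposable maps, using only invariance under `Aut_F(T)` -/
theorem dec_comp {E : FusionSystem T} {F : FusionSystem S} (hA : AInv E F)
    {P Q : Subgroup Ω} {f g : Ω → Ω} (_hQT : Q ≤ T) (hfQ : ∀ x ∈ P, f x ∈ Q)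
    (hf : S5119.Dec E F P f) (hg : S5119.Dec E F Q g) : S5119.Dec E F P (fun x => g (f x)) := by
  obtain ⟨α, hα, f₀, hf₀, ef⟩ := hf
  obtain ⟨β, hβ, g₀, hg₀, eg⟩ := hg
  have hP₀T : hf₀.image ≤ T := hf₀.image_le
  have hP₁ : ∀ y, y ∈ imgAut α hf₀.image ↔ ∃ x ∈ P, f x = y := by
    intro y
    rw [mem_imgAut hP₀T]
    constructor
    · rintro ⟨z, ⟨x, hx, rfl⟩, rfl⟩
      exact ⟨x, hx, ef x hx⟩
    · rintro ⟨x, hx, rfl⟩
      exact ⟨f₀ x, ⟨x, hx, rfl⟩, (ef x hx).symm⟩
  have hP₁Q : imgAut α hf₀.image ≤ Q := by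
    intro y hy
    obtain ⟨x, hx, rfl⟩ := (hP₁ y).1 hy
    exact hfQ x hx
  have h0 := hA α⁻¹ (Subgroup.inv_mem _ hα) _ g₀ (hg₀.restrict hP₁Q)
  rw [imgAut_inv_imgAut' α hP₀T, inv_inv] at h0
  refine ⟨β * α, Subgroup.mul_mem _ hβ hα, fun x => extAut α⁻¹ (g₀ (extAut α (f₀ x))),
    hf₀.comp h0 (fun x hx => ⟨x, hx, rfl⟩), fun x hx => ?_⟩
  show g (f x) = _
  have hfx : f x ∈ Q := hfQ x hx
  have hT1 : g₀ (f x) ∈ T := hg₀.mem hfx
  rw [eg _ hfx, ef x hx] at *
  rw [extAut_mul β α (extAut_mem_self _ hT1), extAut_inv_right α hT1]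

/-- elements of `O^p(Aut_F(R))` restrict to maps of `E` on `R ∩ T` -/
theorem mor_of_mem_pResidual {p : ℕ} [Fact p.Prime] [Finite S] {F : FusionSystem S}
    {E : FusionSystem T} (hEi : E.HasPPowerIndexIn F p) (hTsc : F.StronglyClosed T)
    {R : Subgroup Ω} (hR : R ≤ S) (ρ : F.autGroup R) (hρ : ρ ∈ pResidual p (F.autGroup R)) :
    Mor E (R ⊓ T) (extAut (ρ : MulAut R)) := by
  have hTS : T ≤ S := hTsc.1
  have hinv : ∀ (a : F.autGroup R) (x : Ω), x ∈ R ⊓ T → extAut (a : MulAut R) x ∈ R ⊓ T := by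
    intro a x hx
    refine ⟨extAut_mem_self _ hx.1, ?_⟩
    rw [extAut_mem _ hx.1]
    exact aut_mem_of_stronglyClosed hTsc hR a.2 hx.2
  have hRT : R ⊓ T ≤ T := inf_le_right
  unfold pResidual at hρ
  induction hρ using Subgroup.closure_induction with
  | mem a ha =>
    have hinv' : ∀ t : (R ⊓ T : Subgroup Ω), (((a : MulAut R) ⟨t, t.2.1⟩ : R) : Ω) ∈ R ⊓ T := by
      intro t
      have := hinv a t t.2
      rwa [extAut_mem _ t.2.1] at this
    obtain ⟨β, hβ, e, hdvd⟩ := S5203.restrict_aut_inv hR inf_le_left (a : MulAut R) a.2 hinv'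
    have hcop : (orderOf (⟨β, hβ⟩ : F.autGroup (R ⊓ T))).Coprime p := by
      rw [Subgroup.orderOf_mk]
      refine Nat.Coprime.coprime_dvd_left hdvd ?_
      rw [Subgroup.orderOf_coe]
      exact ha
    have hmem : (⟨β, hβ⟩ : F.autGroup (R ⊓ T)) ∈ pResidual p (F.autGroup (R ⊓ T)) :=
      Subgroup.subset_closure hcop
    have hE : β ∈ E.autGroup (R ⊓ T) := hEi.2.2 _ hRT ⟨_, hmem, rfl⟩
    have hmor := (mem_autGroup_iff hRT).1 hE
    refine hmor.congr (fun x hx => ?_)
    rw [extAut_mem β hx, e ⟨x, hx⟩, extAut_mem _ hx.1]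
  | one =>
    refine (Mor.id hRT).congr (fun x hx => ?_)
    exact (extAut_one hx.1).symm
  | mul a b _ _ iha ihb =>
    refine (ihb.comp iha (hinv b)).congr (fun x hx => ?_)
    exact (extAut_mul (a : MulAut R) (b : MulAut R) hx.1).symm
  | inv a _ iha =>
    have hiso : Iso E (R ⊓ T) (R ⊓ T) (extAut (a : MulAut R)) := by
      refine ⟨iha, fun y => ⟨fun hy => ?_, ?_⟩⟩
      · refine ⟨extAut ((a⁻¹ : F.autGroup R) : MulAut R) y, hinv a⁻¹ y hy, ?_⟩
        exact extAut_inv_right (a : MulAut R) hy.1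
      · rintro ⟨x, hx, rfl⟩
        exact hinv a x hx
    obtain ⟨g, hg, h1, -⟩ := hiso.symm
    refine hg.1.congr (fun y hy => ?_)
    obtain ⟨x, hx, rfl⟩ := hiso.surj hy
    rw [h1 x hx]
    exact (extAut_inv_left (a : MulAut R) hx.1).symm

/-- the Frattini condition: every map of `F` between subgroups of `T` is an element of `Aut_F(T)` after a map
of `E` -/
theorem dec_all' {p : ℕ} [Fact p.Prime] [Finite S] (hS : IsPGroup p S) {E : FusionSystem T}
    {F : FusionSystem S} (hF : F.IsSaturated p) (hTsc : F.StronglyClosed T)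
    (hEi : E.HasPPowerIndexIn F p) (hA : AInv E F) :
    ∀ (P : Subgroup Ω) (f : Ω → Ω), P ≤ T → Mor F P f → S5119.Dec E F P f := by
  have hTS : T ≤ S := hTsc.1
  have hclosed : AlperinClosed F (fun P f => S5119.Dec E F (P ⊓ T) f) := by
    constructor
    · intro P f f' h hff
      exact h.congr (fun x hx => hff x hx.1)
    · intro P Q f _ h hQP
      exact h.restrict (inf_le_inf_right T hQP)
    · intro P Q f g hf hg hPQ hCf hCg
      exact dec_comp hA inf_le_right (fun x hx => ⟨hPQ x hx.1,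
        (stronglyClosed_iff.1 hTsc).2 (P ⊓ T) f inf_le_right (hf.restrict inf_le_left) x hx⟩) hCf hCg
  have hall := alperin hS hF _ hclosed (by
    intro R hfn _ _ α hα
    have hRS : R ≤ S := hfn.1
    have hfinR : Finite R := finite_of_le hRS
    obtain ⟨-, T₀, hT₀⟩ := fullyAutomized_of_fullyNormalized hS hF hfn
    obtain ⟨ρ, hρ, τ, hτ, hρτ⟩ := Helper86.exists_mul_of_sylow T₀ ⟨α, hα⟩
    rw [hT₀, Subgroup.mem_subgroupOf] at hτ
    obtain ⟨s, hs, hsτ⟩ := mem_autInducedBy_iff.1 hτ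
    have hα_eq : α = (ρ : MulAut R) * (τ : MulAut R) := congrArg Subtype.val hρτ
    have hsN : s ∈ Subgroup.normalizer (T : Set Ω) := Helper87.StronglyClosed.le_normalizer hTsc hs
    have hcs : S5119.Dec E F (R ⊓ T) (fun x => s * x * s⁻¹) := by
      have h1 : conjAut T s hsN ∈ F.autGroup T :=
        autInducedBy_le_autGroup F hTS (conjAut_mem_autInducedBy hs hsN)
      refine (S5119.Dec.of_aut h1 (inf_le_right : R ⊓ T ≤ T)).congr (fun x hx => ?_)
      rw [extAut_mem _ hx.2]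
      rfl
    have hmaps : ∀ x ∈ R ⊓ T, s * x * s⁻¹ ∈ R ⊓ T := by
      intro x hx
      refine ⟨?_, Helper87.StronglyClosed.conj_mem hTsc hs hx.2⟩
      rw [← hsτ ⟨x, hx.1⟩]
      exact ((τ : MulAut R) ⟨x, hx.1⟩).2
    have hρE : S5119.Dec E F (R ⊓ T) (extAut (ρ : MulAut R)) :=
      S5119.Dec.of_mor (mor_of_mem_pResidual hEi hTsc hRS ρ hρ)
    refine (dec_comp hA inf_le_right hmaps hcs hρE).congr (fun x hx => ?_)
    show extAut (ρ : MulAut R) (s * x * s⁻¹) = extAut α x
    rw [extAut_mem α hx.1, hα_eq, ← hsτ ⟨x, hx.1⟩, extAut_apply]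
    rfl)
  intro P f hP hf
  have := hall P f hf
  rwa [inf_eq_left.2 hP] at this

/-- a saturated subsystem of `p`-power index over a strongly closed `T` is invariant -/
theorem invariant_of_ppower {p : ℕ} [Fact p.Prime] [Finite S] (hS : IsPGroup p S) {E : FusionSystem T}
    {F : FusionSystem S} (hF : F.IsSaturated p) (hTsc : F.StronglyClosed T) (hEs : E.IsSaturated p)
    (hEi : E.HasPPowerIndexIn F p) : E.IsInvariantIn F := by
  have hTS : T ≤ S := hTsc.1
  have hA := ainv_of_ppower hS hTS hEs hEi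
  refine ⟨hEi.1, hTsc, ?_, ?_⟩
  · intro P hPT φ hφ α hα
    have h0 : Mor E ((P.subgroupOf T).map (T.subtype.comp α.toMonoidHom))
        (fun y => extAut α (extFun φ (extAut α⁻¹ y))) := hA α hα P (extFun φ) (mor_of_mem hφ)
    obtain ⟨χ, hχ, eχ⟩ := h0
    refine ⟨χ, hχ, fun x hφx hαx => ?_⟩
    rw [eχ]
    show extAut α (extFun φ (extAut α⁻¹ ((α ⟨x, hPT x.2⟩ : T) : Ω))) = _
    have h1 : ((α ⟨x, hPT x.2⟩ : T) : Ω) = extAut α (x : Ω) := (extAut_mem α (hPT x.2)).symm
    rw [h1, extAut_inv_left α (hPT x.2), extFun_apply φ x, extAut_mem α hφx]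
  · intro P hPT φ hφ
    obtain ⟨α, hα, f₀, ⟨φ₀, hφ₀, e0⟩, e⟩ :=
      dec_all' hS hF hTsc hEi hA P (extFun φ) hPT (mor_of_mem hφ)
    refine ⟨α, hα, φ₀, hφ₀, fun x hx => ?_⟩
    have := e x x.2
    rw [extFun_apply φ x, ← e0 x, extAut_mem α hx] at this
    exact this

/-! ### the extension condition -/

/-- an automorphism of `K ≥ T` extending an automorphism of `T` preserves the centralizer of `T` -/
theorem cent_of_ext {K : Subgroup Ω} (hTK : T ≤ K) (β : MulAut K) (α : MulAut T)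
    (hext : ∀ x : T, β (Subgroup.inclusion hTK x) = Subgroup.inclusion hTK (α x)) (c : K)
    (hc : (c : Ω) ∈ Subgroup.centralizer (T : Set Ω)) :
    ((β c : K) : Ω) ∈ Subgroup.centralizer (T : Set Ω) := by
  rw [Subgroup.mem_centralizer_iff]
  intro x hx
  set x' : T := α⁻¹ ⟨x, hx⟩ with hx'
  have h0 : α x' = ⟨x, hx⟩ := by rw [hx']; simp
  have h1 : β (Subgroup.inclusion hTK x') = Subgroup.inclusion hTK ⟨x, hx⟩ := by rw [hext, h0]
  have h2 : Subgroup.inclusion hTK x' * c = c * Subgroup.inclusion hTK x' := by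
    apply Subtype.ext
    exact (Subgroup.mem_centralizer_iff.1 hc) x' x'.2
  have h3 := congrArg β h2
  rw [map_mul, map_mul, h1] at h3
  exact congrArg Subtype.val h3

/-- automorphisms of `T` with a good extension to `T C_S(T)` -/
def goodExt (F : FusionSystem S) (T : Subgroup Ω) (hTS : T ≤ S) : Subgroup (MulAut T) where
  carrier := {α | ∃ β ∈ F.autGroup (T ⊔ centralizerIn S T),
      (∀ x : T, β (Subgroup.inclusion le_sup_left x) = Subgroup.inclusion le_sup_left (α x)) ∧
      ∀ c : ↥(T ⊔ centralizerIn S T), (c : Ω) ∈ centralizerIn S T →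
        (c : Ω)⁻¹ * ((β c : ↥(T ⊔ centralizerIn S T)) : Ω) ∈ T ⊓ Subgroup.centralizer (T : Set Ω)}
  one_mem' := ⟨1, Subgroup.one_mem _, fun x => rfl, fun c _ => by
    show (c : Ω)⁻¹ * (c : Ω) ∈ _
    rw [inv_mul_cancel]; exact Subgroup.one_mem _⟩
  mul_mem' := by
    rintro α₁ α₂ ⟨β₁, hβ₁, e₁, c₁⟩ ⟨β₂, hβ₂, e₂, c₂⟩
    refine ⟨β₁ * β₂, Subgroup.mul_mem _ hβ₁ hβ₂, fun x => ?_, fun c hc => ?_⟩
    · show β₁ (β₂ _) = Subgroup.inclusion le_sup_left (α₁ (α₂ x))
      rw [e₂, e₁]
    · have hz := c₂ c hc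
      have hc' : ((β₂ c : ↥(T ⊔ centralizerIn S T)) : Ω) ∈ centralizerIn S T := by
        have h1 : ((β₂ c : ↥(T ⊔ centralizerIn S T)) : Ω) =
            (c : Ω) * ((c : Ω)⁻¹ * ((β₂ c : ↥(T ⊔ centralizerIn S T)) : Ω)) := by group
        rw [h1]
        exact Subgroup.mul_mem _ hc ⟨hTS hz.1, hz.2⟩
      have hz' := c₁ (β₂ c) hc'
      have := Subgroup.mul_mem _ hz hz'
      convert this using 1
      show (c : Ω)⁻¹ * ((β₁ (β₂ c) : ↥(T ⊔ centralizerIn S T)) : Ω) = _
      group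
  inv_mem' := by
    rintro α ⟨β, hβ, e, hc⟩
    have hext : ∀ x : T, β⁻¹ (Subgroup.inclusion le_sup_left x) =
        Subgroup.inclusion le_sup_left (α⁻¹ x) := by
      intro x
      have h1 := e (α⁻¹ x)
      have h2 : α (α⁻¹ x) = x := by simp
      rw [h2] at h1
      rw [← h1]
      simp
    refine ⟨β⁻¹, Subgroup.inv_mem _ hβ, hext, fun c hcc => ?_⟩
    have hKS : T ⊔ centralizerIn S T ≤ S := sup_le hTS inf_le_left
    have hc'' : ((β⁻¹ c : ↥(T ⊔ centralizerIn S T)) : Ω) ∈ centralizerIn S T :=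
      ⟨hKS (β⁻¹ c).2, cent_of_ext le_sup_left β⁻¹ α⁻¹ hext c hcc.2⟩
    have h3 := hc (β⁻¹ c) hc''
    have h4 : β (β⁻¹ c) = c := by simp
    rw [h4] at h3
    have := Subgroup.inv_mem _ h3
    convert this using 1
    group

theorem mem_goodExt_iff {F : FusionSystem S} {hTS : T ≤ S} {α : MulAut T} :
    α ∈ goodExt F T hTS ↔ ∃ β ∈ F.autGroup (T ⊔ centralizerIn S T),
      (∀ x : T, β (Subgroup.inclusion le_sup_left x) = Subgroup.inclusion le_sup_left (α x)) ∧
      ∀ c : ↥(T ⊔ centralizerIn S T), (c : Ω) ∈ centralizerIn S T →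
        (c : Ω)⁻¹ * ((β c : ↥(T ⊔ centralizerIn S T)) : Ω) ∈ T ⊓ Subgroup.centralizer (T : Set Ω) :=
  Iff.rfl

/-- a `p'`-automorphism of `T` in `F` has a good extension -/
theorem mem_goodExt_of_coprime {p : ℕ} [Fact p.Prime] [Finite S] (hS : IsPGroup p S)
    {F : FusionSystem S} (hF : F.IsSaturated p) (hTsc : F.StronglyClosed T)
    (hT : F.hyperfocalSubgroup p ≤ T) (g : MulAut T) (hg : g ∈ F.autGroup T)
    (hcop : (orderOf g).Coprime p) : g ∈ goodExt F T hTsc.1 := by
  classical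
  have hp : p.Prime := Fact.out
  have hTS : T ≤ S := hTsc.1
  have hKS : T ⊔ centralizerIn S T ≤ S := sup_le hTS inf_le_left
  have hfinK : Finite (T ⊔ centralizerIn S T : Subgroup Ω) := finite_of_le hKS
  have hfinT : Finite T := finite_of_le hTS
  have hfn : F.IsFullyNormalized T := by
    refine ⟨hTS, fun Q _ => ?_⟩
    have h1 : normalizerIn S T = S := by
      apply le_antisymm inf_le_left
      exact le_inf le_rfl (Helper87.StronglyClosed.le_normalizer hTsc)
    rw [h1]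
    exact card_normalizerIn_le Q
  have hrec := receptive_of_fullyNormalized hS hF hfn
  have hgm : Mor F T (extAut g) := (mem_autGroup_iff hTS).1 hg
  have hiso : Iso F T T (extAut g) := iso_of_mor_extAut hgm
  obtain ⟨g', hg', eg'⟩ := (isReceptive_iff.1 hrec).2 T (extAut g) hiso
  have hKext : T ⊔ centralizerIn S T ≤ hiso.ext := sup_le hiso.le_ext hiso.centralizerIn_le_ext
  have hgK : Mor F (T ⊔ centralizerIn S T) g' := hg'.restrict hKext
  have hisoT : Iso F T T g' := hiso.congr (fun x hx => (eg' x hx).symm)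
  have hmapK : ∀ x ∈ T ⊔ centralizerIn S T, g' x ∈ T ⊔ centralizerIn S T := by
    apply hgK.map_sup_mem le_sup_left le_sup_right
    · intro a ha
      rw [eg' a ha]
      exact (le_sup_left : T ≤ T ⊔ centralizerIn S T) (extAut_mem_self g ha)
    · intro b hb
      exact (le_sup_right : centralizerIn S T ≤ T ⊔ centralizerIn S T)
        (map_centralizerIn hgK le_sup_left hisoT
          ((le_sup_right : centralizerIn S T ≤ T ⊔ centralizerIn S T) hb) hb)
  have hisoK : Iso F (T ⊔ centralizerIn S T) (T ⊔ centralizerIn S T) g' :=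
    iso_of_card_le hgK hKS hmapK le_rfl
  have hβ₀mem : (hisoK.equiv : MulAut ↥(T ⊔ centralizerIn S T)) ∈ F.autGroup (T ⊔ centralizerIn S T) :=
    hisoK.equiv_mem_autGroup
  have hext₀ : ∀ x : T, (hisoK.equiv : MulAut ↥(T ⊔ centralizerIn S T)) (Subgroup.inclusion le_sup_left x) =
      Subgroup.inclusion le_sup_left (g x) := by
    intro x
    apply Subtype.ext
    show g' (x : Ω) = ((g x : T) : Ω)
    rw [eg' x x.2, extAut_apply]
  generalize (hisoK.equiv : MulAut ↥(T ⊔ centralizerIn S T)) = β₀ at hβ₀mem hext₀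
  have hN0 : orderOf β₀ ≠ 0 := (orderOf_pos β₀).ne'
  obtain ⟨a, m, hm, hN⟩ := Nat.exists_eq_pow_mul_and_not_dvd hN0 p hp.ne_one
  have hnpos : 0 < orderOf g := orderOf_pos g
  have hk1 : (p ^ a) ^ (Nat.totient (orderOf g)) ≡ 1 [MOD orderOf g] :=
    Nat.ModEq.pow_totient (Nat.Coprime.pow_left a hcop.symm)
  have hk2 : p ^ a ∣ (p ^ a) ^ (Nat.totient (orderOf g)) :=
    dvd_pow_self _ (Nat.totient_pos.2 hnpos).ne'
  generalize (p ^ a) ^ (Nat.totient (orderOf g)) = k at hk1 hk2
  have hgk : g ^ k = g := by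
    have := (pow_eq_pow_iff_modEq (x := g) (n := k) (m := 1)).2 hk1
    rwa [pow_one] at this
  have hextk : ∀ j : ℕ, ∀ x : T, (β₀ ^ j) (Subgroup.inclusion le_sup_left x) =
      Subgroup.inclusion le_sup_left ((g ^ j) x) := by
    intro j
    induction j with
    | zero => intro x; simp
    | succ j ih =>
      intro x
      rw [pow_succ', pow_succ', MulAut.mul_apply, ih, hext₀, MulAut.mul_apply]
  have hβmem : β₀ ^ k ∈ F.autGroup (T ⊔ centralizerIn S T) := Subgroup.pow_mem _ hβ₀mem k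
  have hβext : ∀ x : T, (β₀ ^ k) (Subgroup.inclusion le_sup_left x) =
      Subgroup.inclusion le_sup_left (g x) := by
    intro x
    rw [hextk k x, hgk]
  have hβm : (β₀ ^ k) ^ m = 1 := by
    rw [← pow_mul]
    apply orderOf_dvd_iff_pow_eq_one.1
    rw [hN]
    exact Nat.mul_dvd_mul_right hk2 m
  have hβcop : (orderOf (β₀ ^ k)).Coprime p := by
    have h1 : orderOf (β₀ ^ k) ∣ m := orderOf_dvd_of_pow_eq_one hβm
    have h2 : m.Coprime p := ((Nat.Prime.coprime_iff_not_dvd hp).2 hm).symm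
    exact Nat.Coprime.coprime_dvd_left h1 h2
  have hmem : (⟨β₀ ^ k, hβmem⟩ : F.autGroup (T ⊔ centralizerIn S T)) ∈
      pResidual p (F.autGroup (T ⊔ centralizerIn S T)) := by
    apply Subgroup.subset_closure
    show (orderOf (⟨β₀ ^ k, hβmem⟩ : F.autGroup (T ⊔ centralizerIn S T))).Coprime p
    rw [Subgroup.orderOf_mk]
    exact hβcop
  refine ⟨β₀ ^ k, hβmem, hβext, fun c hc => ⟨?_, ?_⟩⟩
  · exact hT (S5124.gen_mem F p hKS ⟨β₀ ^ k, hβmem⟩ hmem c)
  · exact Subgroup.mul_mem _ (Subgroup.inv_mem _ hc.2)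
      (cent_of_ext le_sup_left (β₀ ^ k) g hβext c hc.2)

/-- Let F be a saturated fusion system over a finite p-group S and T a subgroup of S containing the hyperfocal subgroup of F and normal in S. Then every saturated subsystem of F over T of p-power index is a normal subsystem of F. -/
theorem result {Ω : Type*} [Group Ω] {S : Subgroup Ω} [Finite S] (p : ℕ) [Fact p.Prime] (hS : IsPGroup p S) (F : Cfsg.FusionSystem S) (hF : F.IsSaturated p) (T : Subgroup Ω) (hTS : T ≤ S) (hTn : (T.subgroupOf S).Normal) (hT : F.hyperfocalSubgroup p ≤ T) (E : Cfsg.FusionSystem T) (hEs : E.IsSaturated p) (hEi : E.HasPPowerIndexIn F p) : E.IsNormalIn F p := by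
  have hTsc := stronglyClosed_of_hyperfocal_le hS hF hTS hTn hT
  have hinv := invariant_of_ppower hS hF hTsc hEs hEi
  refine ⟨⟨hEs, hF, hinv⟩, fun α hα => ?_⟩
  have hfinT : Finite T := finite_of_le hTS
  have hTp : IsPGroup p T := hS.to_le hTS
  have key : α ∈ goodExt F T hTsc.1 := by
    have hfnE : E.IsFullyNormalized T := by
      refine ⟨le_rfl, fun Q _ => ?_⟩
      have h1 : normalizerIn T T = T :=
        le_antisymm inf_le_left (le_inf le_rfl Subgroup.le_normalizer)
      rw [h1]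
      exact card_normalizerIn_le Q
    obtain ⟨-, T₀, hT₀⟩ := fullyAutomized_of_fullyNormalized hTp hEs hfnE
    obtain ⟨ρ, hρ, τ, hτ, hρτ⟩ := Helper86.exists_mul_of_sylow T₀ ⟨α, hα⟩
    rw [hT₀, Subgroup.mem_subgroupOf] at hτ
    obtain ⟨t, ht, htτ⟩ := mem_autInducedBy_iff.1 hτ
    have hα_eq : α = (ρ : MulAut T) * (τ : MulAut T) := congrArg Subtype.val hρτ
    rw [hα_eq]
    apply Subgroup.mul_mem
    · have hle : E.autGroup T ≤ F.autGroup T := S5203.autGroup_le_of_sub hEi.1 le_rfl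
      have hres : (pResidual p (E.autGroup T)).map (E.autGroup T).subtype ≤ goodExt F T hTsc.1 := by
        rw [Subgroup.map_le_iff_le_comap]
        unfold pResidual
        rw [Subgroup.closure_le]
        intro g hg
        show (g : MulAut T) ∈ goodExt F T hTsc.1
        apply mem_goodExt_of_coprime hS hF hTsc hT _ (hle g.2)
        rw [Subgroup.orderOf_coe]
        exact hg
      exact hres ⟨ρ, hρ, rfl⟩
    · have htK : t ∈ T ⊔ centralizerIn S T := (le_sup_left : T ≤ T ⊔ centralizerIn S T) ht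
      have htN : t ∈ Subgroup.normalizer ((T ⊔ centralizerIn S T : Subgroup Ω) : Set Ω) :=
        Subgroup.le_normalizer htK
      refine ⟨conjAut _ t htN, ?_, fun x => ?_, fun c hc => ?_⟩
      · exact autInducedBy_le_autGroup F (sup_le hTS inf_le_left)
          (conjAut_mem_autInducedBy (hTS ht) htN)
      · apply Subtype.ext
        show t * (x : Ω) * t⁻¹ = (((τ : MulAut T) x : T) : Ω)
        rw [htτ]
      · have h1 : t * (c : Ω) * t⁻¹ = c := by
          have := (Subgroup.mem_centralizer_iff.1 hc.2) t ht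
          rw [this]
          group
        show (c : Ω)⁻¹ * (t * (c : Ω) * t⁻¹) ∈ _
        rw [h1, inv_mul_cancel]
        exact Subgroup.one_mem _
  obtain ⟨β, hβ, e, hc⟩ := key
  exact ⟨β, hβ, fun x => congrArg Subtype.val (e x), hc⟩

end Cfsg.Agent.S5120
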