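import Cfsg.Statements.S5198
import Mathlib
import Cfsg.Agent.Lib.Helper87.FusionNormal
import Cfsg.Agent.Lib.Helper85.QuotLift3
import Cfsg.Agent.Lib.Helper86.GroupLemmas
import Cfsg.Agent.Lib.Helper86.FusionNormalCrit

set_option autoImplicit false
open Cfsg

namespace Cfsg.Agent.S5198

open Cfsg.FusionSystem Cfsg.Agent.Helper87 Cfsg.Agent.Helper86

variable {Ω : Type*} [Group Ω] {S : Subgroup Ω}

/-- restriction of an automorphism in the system to a strongly closed subgroup -/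
theorem restrict_aut [Finite S] {F : FusionSystem S} {T R : Subgroup Ω} (hT : F.StronglyClosed T)
    (hTR : T ≤ R) (hRS : R ≤ S) (τ : MulAut R) (hτ : τ ∈ F.autGroup R) :
    ∃ β : MulAut T, β ∈ F.autGroup T ∧ (∀ t : T, ((β t : T) : Ω) = ((τ ⟨t, hTR t.2⟩ : R) : Ω)) ∧
      orderOf β ∣ orderOf τ := by
  have hmor : Mor F R (extAut τ) := (Helper87.mem_autGroup_iff hRS).1 hτ
  have hmorT : Mor F T (extAut τ) := hmor.restrict hTR
  have hmaps : ∀ t ∈ T, extAut τ t ∈ T := stronglyClosed_mor hT le_rfl hmorT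
  have hiso : Iso F T T (extAut τ) := iso_of_card_le hmorT hT.1 hmaps le_rfl
  have hβ : ∀ t : T, ((hiso.equiv t : T) : Ω) = ((τ ⟨t, hTR t.2⟩ : R) : Ω) := by
    intro t
    rw [hiso.equiv_apply, extAut_mem τ (hTR t.2)]
  have hpow : ∀ i : ℕ, ∀ t : T, ((((hiso.equiv : MulAut T) ^ i) t : T) : Ω) = (((τ ^ i) ⟨t, hTR t.2⟩ : R) : Ω) := by
    intro i
    induction i with
    | zero => intro t; simp
    | succ i ih =>
      intro t
      rw [pow_succ', pow_succ', MulAut.mul_apply, MulAut.mul_apply]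
      have h1 := hβ (((hiso.equiv : MulAut T) ^ i) t)
      have h2 : (⟨((((hiso.equiv : MulAut T) ^ i) t : T) : Ω), hTR (((hiso.equiv : MulAut T) ^ i) t).2⟩ : R) =
          (τ ^ i) ⟨t, hTR t.2⟩ := Subtype.ext (ih t)
      rw [h2] at h1
      exact h1
  refine ⟨hiso.equiv, hiso.equiv_mem_autGroup, hβ, ?_⟩
  apply orderOf_dvd_of_pow_eq_one
  ext t
  have := hpow (orderOf τ) t
  rw [pow_orderOf_eq_one] at this
  simpa using this

/-- Let F be a saturated fusion system over a finite p-group S and T a subgroup of S strongly closed in F (so T is normal in S). Then every element x of the hyperfocal subgroup of F acts on T by conjugation as an element of O^p(Aut_F(T))·Inn(T): there is an automorphism of T in the subgroup generated by the elements of Aut_F(T) of order prime to p together with the inner automorphisms of T that agrees with conjugation by x. -/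
theorem result {Ω : Type*} [Group Ω] {S : Subgroup Ω} [Finite S] (p : ℕ) [Fact p.Prime] (hS : IsPGroup p S) (F : Cfsg.FusionSystem S) (hF : F.IsSaturated p) (T : Subgroup Ω) (hT : F.StronglyClosed T) : ∀ x ∈ F.hyperfocalSubgroup p, ∃ α ∈ ((Cfsg.pResidual p ↥(F.autGroup T)).map (F.autGroup T).subtype ⊔ Cfsg.Inn ↥T : Subgroup (MulAut ↥T)), ∀ t : ↥T, ((α t : ↥T) : Ω) = x * (t : Ω) * x⁻¹ := by
  have hTS : T ≤ S := hT.1
  have hfinT : Finite T := Helper87.finite_of_le hTS
  set K : Subgroup (MulAut T) := (Cfsg.pResidual p ↥(F.autGroup T)).map (F.autGroup T).subtype ⊔ Cfsg.Inn ↥T with hK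
  -- the subgroup of elements acting through K
  let X : Subgroup Ω :=
    { carrier := {x | ∃ α ∈ K, ∀ t : T, ((α t : T) : Ω) = x * (t : Ω) * x⁻¹}
      one_mem' := ⟨1, K.one_mem, fun t => by simp⟩
      mul_mem' := by
        rintro x y ⟨α, hα, hαx⟩ ⟨β, hβ, hβy⟩
        refine ⟨α * β, K.mul_mem hα hβ, fun t => ?_⟩
        rw [MulAut.mul_apply, hαx, hβy]
        group
      inv_mem' := by
        rintro x ⟨α, hα, hαx⟩
        refine ⟨α⁻¹, K.inv_mem hα, fun t => ?_⟩
        have h1 := hαx (α⁻¹ t)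
        rw [MulAut.apply_inv_self] at h1
        rw [h1]
        group }
  suffices h : F.hyperfocalSubgroup p ≤ X from fun x hx => h hx
  unfold FusionSystem.hyperfocalSubgroup
  rw [Subgroup.closure_le]
  rintro y ⟨P, a, u, hP, ha, rfl⟩
  have hfinP : Finite P := Helper87.finite_of_le hP
  -- reduce to generators of the p-residual
  revert u
  unfold pResidual at ha
  induction ha using Subgroup.closure_induction with
  | one =>
    intro u
    have : (u : Ω)⁻¹ * (((1 : F.autGroup P) : MulAut P) u : P) = 1 := by simp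
    rw [this]
    exact X.one_mem
  | mul a b _ _ iha ihb =>
    intro u
    have h1 := ihb u
    have h2 := iha ((b : MulAut P) u)
    have h3 : _ ∈ X := X.mul_mem h1 h2
    have h4 : (u : Ω)⁻¹ * ((((a * b : F.autGroup P) : MulAut P) u : P) : Ω) =
        (u : Ω)⁻¹ * (((b : MulAut P) u : P) : Ω) *
          ((((b : MulAut P) u : P) : Ω)⁻¹ * (((a : MulAut P) ((b : MulAut P) u) : P) : Ω)) := by
      show (u : Ω)⁻¹ * (((a : MulAut P) ((b : MulAut P) u) : P) : Ω) = _
      group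
    show _ ∈ X
    rw [h4]
    exact h3
  | inv a _ iha =>
    intro u
    have h1 := iha (((a : MulAut P)⁻¹) u)
    have h2 : _ ∈ X := X.inv_mem h1
    have h3 : (a : MulAut P) (((a : MulAut P)⁻¹) u) = u := by simp
    rw [h3] at h2
    have h4 : (u : Ω)⁻¹ * ((((a⁻¹ : F.autGroup P) : MulAut P) u : P) : Ω) =
        (((((a : MulAut P)⁻¹) u : P) : Ω)⁻¹ * (u : Ω))⁻¹ := by
      show (u : Ω)⁻¹ * ((((a : MulAut P)⁻¹) u : P) : Ω) = _
      group
    show _ ∈ X
    rw [h4]
    exact h2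
  | mem a ha =>
    intro u
    have hcop : Nat.Coprime (orderOf (a : MulAut P)) p := by
      rw [Subgroup.orderOf_coe]; exact ha
    have hf : Mor F P (extAut (a : MulAut P)) := (Helper87.mem_autGroup_iff hP).1 a.2
    obtain ⟨f', hf', hlift⟩ := Helper85.exists_liftMod hS hF hT P _ hf
    have hRS : P ⊔ T ≤ S := sup_le hP hTS
    have hfinR : Finite (P ⊔ T : Subgroup Ω) := Helper87.finite_of_le hRS
    have hPR : P ≤ P ⊔ T := le_sup_left
    have hTR : T ≤ P ⊔ T := le_sup_right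
    have hf'T : ∀ t ∈ T, f' t ∈ T := stronglyClosed_mor hT le_rfl (hf'.restrict hTR)
    have hmaps : ∀ x ∈ P ⊔ T, f' x ∈ P ⊔ T := by
      apply mor_maps_sup hf'
      · intro x hx
        have h1 := hlift x hx
        have h2 : extAut (a : MulAut P) x ∈ P := extAut_mem_self _ hx
        have h3 : f' x = extAut (a : MulAut P) x * ((extAut (a : MulAut P) x)⁻¹ * f' x) := by group
        rw [h3]
        exact Subgroup.mul_mem _ (hPR h2) (hTR h1)
      · intro x hx
        exact hTR (hf'T x hx)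
    have hiso : Iso F (P ⊔ T) (P ⊔ T) f' := iso_of_card_le hf' hRS hmaps le_rfl
    let σ : MulAut (P ⊔ T : Subgroup Ω) := hiso.equiv
    have hσ : σ ∈ F.autGroup (P ⊔ T) := hiso.equiv_mem_autGroup
    have hσval : ∀ x : (P ⊔ T : Subgroup Ω), ((σ x : (P ⊔ T : Subgroup Ω)) : Ω) = f' x := fun x => hiso.equiv_apply x
    -- powers of σ lift powers of a
    have hpow : ∀ i : ℕ, ∀ v : P, ((((a : MulAut P) ^ i) v : P) : Ω)⁻¹ *
        (((σ ^ i) ⟨v, hPR v.2⟩ : (P ⊔ T : Subgroup Ω)) : Ω) ∈ T := by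
      intro i
      induction i with
      | zero => intro v; simp
      | succ i ih =>
        intro v
        rw [pow_succ', pow_succ', MulAut.mul_apply, MulAut.mul_apply]
        set w : P := ((a : MulAut P) ^ i) v with hw
        set z : (P ⊔ T : Subgroup Ω) := (σ ^ i) ⟨v, hPR v.2⟩ with hz
        have h1 : (w : Ω)⁻¹ * (z : Ω) ∈ T := ih v
        have h2 : (z : Ω) = (w : Ω) * ((w : Ω)⁻¹ * (z : Ω)) := by group
        have h3 : f' (z : Ω) = f' (w : Ω) * f' ((w : Ω)⁻¹ * (z : Ω)) := by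
          conv_lhs => rw [h2]
          exact hf'.map_mul (hPR w.2) (hTR h1)
        rw [hσval, h3]
        have h4 := hlift w w.2
        rw [extAut_apply] at h4
        have h5 := hf'T _ h1
        have h6 := T.mul_mem h4 h5
        convert h6 using 1
        group
    -- choose the exponent
    have hpos : orderOf σ ≠ 0 := (orderOf_pos σ).ne'
    obtain ⟨e, m, hm, hem⟩ := Nat.exists_eq_pow_mul_and_not_dvd hpos p (Fact.out : p.Prime).ne_one
    have hcop' : Nat.Coprime (orderOf (a : MulAut P)) (p ^ e) := hcop.pow_right e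
    obtain ⟨k, hk1, hk0⟩ := Nat.chineseRemainder hcop' 1 0
    have hak : (a : MulAut P) ^ k = (a : MulAut P) := by
      have : (a : MulAut P) ^ k = (a : MulAut P) ^ 1 := pow_eq_pow_iff_modEq.mpr hk1
      rwa [pow_one] at this
    have hpk : p ^ e ∣ k := (Nat.modEq_zero_iff_dvd).mp hk0
    have hτmem : σ ^ k ∈ F.autGroup (P ⊔ T) := (F.autGroup (P ⊔ T)).pow_mem hσ k
    have hτord : Nat.Coprime (orderOf (σ ^ k)) p := by
      obtain ⟨q, hq⟩ := hpk
      have h1 : (σ ^ k) ^ m = 1 := by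
        rw [← pow_mul, hq, mul_assoc, mul_comm q m, ← mul_assoc, ← hem, pow_mul, pow_orderOf_eq_one, one_pow]
      have hd : orderOf (σ ^ k) ∣ m := orderOf_dvd_of_pow_eq_one h1
      have hmc : m.Coprime p := ((Fact.out : p.Prime).coprime_iff_not_dvd.mpr hm).symm
      exact hmc.coprime_dvd_left hd
    obtain ⟨β, hβA, hβval, hβord⟩ := restrict_aut hT hTR hRS (σ ^ k) hτmem
    have hβcop : Nat.Coprime (orderOf β) p := hτord.coprime_dvd_left hβord
    have hβres : (⟨β, hβA⟩ : F.autGroup T) ∈ pResidual p (F.autGroup T) := by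
      apply Subgroup.subset_closure
      show Nat.Coprime (orderOf (⟨β, hβA⟩ : F.autGroup T)) p
      rw [Subgroup.orderOf_mk]
      exact hβcop
    -- the element w = τ(u) = a(u) * t_u
    set w : (P ⊔ T : Subgroup Ω) := (σ ^ k) ⟨u, hPR u.2⟩ with hw
    have htu : (((a : MulAut P) u : P) : Ω)⁻¹ * (w : Ω) ∈ T := by
      have := hpow k u
      rwa [hak] at this
    set tu : T := ⟨(((a : MulAut P) u : P) : Ω)⁻¹ * (w : Ω), htu⟩ with htudef
    -- u normalizes T
    have huN : (u : Ω) ∈ Subgroup.normalizer (T : Set Ω) :=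
      (Helper85.stronglyClosed_le_normalizer hT) (hP u.2)
    have hcuA : Helper87.conjAut T u huN ∈ F.autGroup T :=
      Helper87.autInducedBy_le_autGroup F hTS (Helper87.conjAut_mem_autInducedBy (hP u.2) huN)
    have hN : (pResidual p (F.autGroup T)).Normal := pResidual_normal p _
    let cu : F.autGroup T := ⟨Helper87.conjAut T u huN, hcuA⟩
    let β' : F.autGroup T := ⟨β, hβA⟩
    have hmem1 : cu⁻¹ * β' * cu * β'⁻¹ ∈ pResidual p (F.autGroup T) := by
      have h1 : cu⁻¹ * β' * cu⁻¹⁻¹ ∈ pResidual p (F.autGroup T) := hN.conj_mem β' hβres cu⁻¹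
      rw [inv_inv] at h1
      exact Subgroup.mul_mem _ h1 (Subgroup.inv_mem _ hβres)
    have hmem2 : ((cu⁻¹ * β' * cu * β'⁻¹ : F.autGroup T) : MulAut T) ∈ K :=
      (le_sup_left : _ ≤ K) ⟨_, hmem1, rfl⟩
    have hmem3 : (MulAut.conj tu)⁻¹ ∈ K :=
      (le_sup_right : _ ≤ K) (Subgroup.inv_mem _ ⟨tu, rfl⟩)
    refine ⟨((cu⁻¹ * β' * cu * β'⁻¹ : F.autGroup T) : MulAut T) * (MulAut.conj tu)⁻¹, K.mul_mem hmem2 hmem3, fun t => ?_⟩
    -- compute
    show (((Helper87.conjAut T u huN)⁻¹ (β ((Helper87.conjAut T u huN) (β⁻¹ ((MulAut.conj tu)⁻¹ t)))) : T) : Ω) = _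
    set t₁ : T := (MulAut.conj tu)⁻¹ t with ht₁
    set t₂ : T := β⁻¹ t₁ with ht₂
    set t₃ : T := (Helper87.conjAut T u huN) t₂ with ht₃
    have hβt₂ : β t₂ = t₁ := by rw [ht₂]; simp
    have ht₁val : (t₁ : Ω) = (tu : Ω)⁻¹ * t * tu := by
      rw [ht₁, MulAut.conj_inv_apply]; rfl
    have ht₃val : (t₃ : Ω) = (u : Ω) * t₂ * (u : Ω)⁻¹ := by rw [ht₃, Helper87.conjAut_apply]
    -- β t₃ = w * t₁ * w⁻¹
    have hβt₃ : ((β t₃ : T) : Ω) = (w : Ω) * t₁ * (w : Ω)⁻¹ := by
      rw [hβval]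
      have h1 : (⟨(t₃ : Ω), hTR t₃.2⟩ : (P ⊔ T : Subgroup Ω)) =
          ⟨u, hPR u.2⟩ * ⟨t₂, hTR t₂.2⟩ * (⟨u, hPR u.2⟩ : (P ⊔ T : Subgroup Ω))⁻¹ := by
        apply Subtype.ext
        rw [ht₃val]; rfl
      rw [h1, map_mul, map_mul, map_inv]
      have h2 : (σ ^ k) ⟨t₂, hTR t₂.2⟩ = ⟨t₁, hTR t₁.2⟩ := by
        apply Subtype.ext
        rw [← hβval t₂, hβt₂]
      rw [h2]
      rfl
    have hinv : ∀ s : T, (((Helper87.conjAut T u huN)⁻¹ s : T) : Ω) = (u : Ω)⁻¹ * s * u := by
      intro s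
      have h1 := Helper87.conjAut_apply T u huN ((Helper87.conjAut T u huN)⁻¹ s)
      rw [MulAut.apply_inv_self] at h1
      rw [h1]
      group
    rw [hinv, hβt₃, ht₁val]
    have hw' : (w : Ω) = (((a : MulAut P) u : P) : Ω) * (tu : Ω) := by
      rw [htudef]; group
    rw [hw']
    group

end Cfsg.Agent.S5198
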