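import Mathlib
import Cfsg.Statements.S5337
import Cfsg.Agent.Lib.Helper88.FusionInnerAbelian

set_option autoImplicit false
open Cfsg

namespace Cfsg.Agent.S5337

open Cfsg.FusionSystem Cfsg.Agent.Helper87 Cfsg.Agent.Helper88

/-- Let F be a saturated fusion system over a finite abelian p-group S. Then F is simple if and only if S has order p and F is the inner system of S (whose only maps are the inclusions, S being abelian). -/
theorem result {Ω : Type*} [Group Ω] {S : Subgroup Ω} [Finite S] (p : ℕ) [Fact p.Prime] (hS : IsPGroup p S) (F : Cfsg.FusionSystem S) (hF : F.IsSaturated p) (hab : ∀ x ∈ S, ∀ y ∈ S, x * y = y * x) : F.IsSimple p ↔ (Nat.card S = p ∧ ∀ P : Subgroup Ω, F.Hom P = (Cfsg.innerFusionSystem S).Hom P) := by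
  have hp : p.Prime := Fact.out
  constructor
  · rintro ⟨-, hS1, hsimple⟩
    -- F is the inner system
    have hinner : ∀ P : Subgroup Ω, F.Hom P = (innerFusionSystem S).Hom P := by
      have hScl : F.StronglyClosed S :=
        ⟨le_rfl, fun R _ φ hφ x => (F.le_of_mem hφ).2 x⟩
      rcases hsimple S (innerFusionSystem S) (inner_isNormalIn hS hF hab hScl) with h | h
      · exact absurd h hS1
      · intro P; exact (h.2 P).symm
    refine ⟨?_, hinner⟩
    -- every subgroup is strongly closed
    have hsub : ∀ T : Subgroup Ω, T ≤ S → T = ⊥ ∨ T = S := by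
      intro T hTS
      have hTcl : F.StronglyClosed T := by
        refine ⟨hTS, fun R hR φ hφ x => ?_⟩
        rw [hinner R] at hφ
        rw [inner_hom_apply hab le_rfl hφ x]
        exact hR x.2
      rcases hsimple T (innerFusionSystem T) (inner_isNormalIn hS hF hab hTcl) with h | h
      · left; exact h
      · right; exact h.1
    have hcard : p ∣ Nat.card S := by
      rcases hS.card_eq_or_dvd with h | h
      · exfalso
        apply hS1
        exact (Subgroup.card_eq_one).mp h
      · exact h
    obtain ⟨x, hx⟩ := exists_prime_orderOf_dvd_card' p hcard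
    have hxo : orderOf (x : Ω) = p := by rw [Subgroup.orderOf_coe]; exact hx
    have hle : Subgroup.zpowers (x : Ω) ≤ S := by
      rw [Subgroup.zpowers_le]; exact x.2
    rcases hsub _ hle with h | h
    · exfalso
      have h1 : (x : Ω) = 1 := by
        rw [← Subgroup.zpowers_eq_bot]; exact h
      rw [h1, orderOf_one] at hxo
      exact hp.one_lt.ne hxo
    · rw [← h, Nat.card_zpowers, hxo]
  · rintro ⟨hcard, hinner⟩
    have hS1 : S ≠ ⊥ := by
      intro h
      rw [h, Subgroup.card_bot] at hcard
      exact hp.one_lt.ne hcard
    refine ⟨hF, hS1, fun T E hE => ?_⟩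
    have hTS : T ≤ S := hE.1.2.2.2.1.1
    have hdvd : Nat.card T ∣ p := by
      rw [← hcard]; exact Subgroup.card_dvd_of_le hTS
    rcases (Nat.dvd_prime hp).mp hdvd with h | h
    · left; exact (Subgroup.card_eq_one).mp h
    · right
      have hTeq : T = S := by
        haveI : Finite S := inferInstance
        apply Subgroup.eq_of_le_of_card_ge hTS
        rw [h, hcard]
      subst hTeq
      refine ⟨rfl, fun P => ?_⟩
      apply Set.Subset.antisymm (hE.1.2.2.1 P)
      intro φ hφ
      rw [hinner P] at hφ
      obtain ⟨hP, g, hg, h⟩ := hφ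
      have : φ = conjHom P g := by
        ext x; exact h x
      rw [this]
      exact E.conj_mem hP hg

end Cfsg.Agent.S5337
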