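import Cfsg.Statements.S5148
import Mathlib
import Cfsg.Agent.S5144
import Cfsg.Agent.S5337
import Cfsg.Agent.Lib.Helper85.Induced
import Cfsg.Agent.Lib.Helper87.FusionNormalCrit

set_option autoImplicit false
open Cfsg

namespace Cfsg.Agent.S5148

open Cfsg.Agent.Helper85 Cfsg.Agent.Helper87 Cfsg.FusionSystem

variable {Ω : Type*} [Group Ω] {S : Subgroup Ω}

/-- function-level form of centrality -/
theorem central_ext {F : FusionSystem S} {Z : Subgroup Ω} (hZ : F.IsCentral Z) {P : Subgroup Ω} {f : Ω → Ω}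
    (hf : Mor F P f) : ∃ g, Mor F (P ⊔ Z) g ∧ (∀ x ∈ P, g x = f x) ∧ ∀ z ∈ Z, g z = z := by
  obtain ⟨φ, hφ, e⟩ := hf
  obtain ⟨ψ, hψ, e1, e2⟩ := hZ.2 P φ hφ
  refine ⟨extFun ψ, mor_of_mem hψ, fun x hx => ?_, fun z hz => ?_⟩
  · have hx' : x ∈ P ⊔ Z := (le_sup_left : P ≤ P ⊔ Z) hx
    rw [extFun_mem ψ hx', ← e ⟨x, hx⟩, ← e1 ⟨x, hx⟩]
    rfl
  · have hz' : z ∈ P ⊔ Z := (le_sup_right : Z ≤ P ⊔ Z) hz
    rw [extFun_mem ψ hz']
    exact e2 ⟨z, hz⟩

theorem central_stronglyClosed {F : FusionSystem S} {Z : Subgroup Ω} (hZ : F.IsCentral Z) :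
    F.StronglyClosed Z := by
  rw [stronglyClosed_iff]
  refine ⟨hZ.1, fun R f hR hf x hx => ?_⟩
  obtain ⟨g, -, e1, e2⟩ := central_ext hZ hf
  rw [← e1 x hx, e2 x (hR hx)]
  exact hR hx


/-- A quasisimple fusion system over a finite p-group S (saturated, equal to its p-residual subsystem, with simple — in particular nontrivial — factor system modulo its centre) has S nonabelian. -/
theorem result {Ω : Type*} [Group Ω] {S : Subgroup Ω} [Finite S] (p : ℕ) [Fact p.Prime] (hS : IsPGroup p S) (F : Cfsg.FusionSystem S) (hq : F.Quasisimple p) : ¬ IsMulCommutative S := by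
  intro hcomm
  obtain ⟨hF, hhyp, hsimple⟩ := hq
  have hab : ∀ x ∈ S, ∀ y ∈ S, x * y = y * x := by
    intro x hx y hy
    have := mul_comm' (⟨x, hx⟩ : S) ⟨y, hy⟩
    exact congrArg Subtype.val this
  have hZc : F.IsCentral F.center := Cfsg.Agent.S5144.result F
  have hZsc := central_stronglyClosed hZc
  have hker : ∀ s : S, QuotientGroup.mk' ((F.center).subgroupOf S) s = 1 ↔ (s : Ω) ∈ F.center := by
    intro s
    rw [QuotientGroup.mk'_apply, QuotientGroup.eq_one_iff, Subgroup.mem_subgroupOf]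
  have hrange : (QuotientGroup.mk' ((F.center).subgroupOf S)).range = ⊤ :=
    MonoidHom.range_eq_top.2 (QuotientGroup.mk'_surjective _)
  have hE := factorSystem_isFactorSystem F F.center _ ⊤ hker hrange hZsc
  have hEs := hsimple _ hE
  have hab' : ∀ x ∈ (⊤ : Subgroup (S ⧸ (F.center).subgroupOf S)),
      ∀ y ∈ (⊤ : Subgroup (S ⧸ (F.center).subgroupOf S)), x * y = y * x := by
    intro x _ y _
    obtain ⟨a, rfl⟩ := QuotientGroup.mk_surjective x
    obtain ⟨b, rfl⟩ := QuotientGroup.mk_surjective y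
    rw [← QuotientGroup.mk_mul, ← QuotientGroup.mk_mul]
    congr 1
    exact Subtype.ext (hab a a.2 b b.2)
  have hpS' : IsPGroup p (⊤ : Subgroup (S ⧸ (F.center).subgroupOf S)) :=
    (hS.to_quotient _).to_subgroup ⊤
  have hinner := ((Cfsg.Agent.S5337.result p hpS' _ hEs.1 hab').1 hEs).2
  set θ := QuotientGroup.mk' ((F.center).subgroupOf S) with hθ
  -- every automorphism in the system acts trivially modulo the centre and fixes the centre
  have key : ∀ (P : Subgroup Ω), P ≤ S → ∀ α : MulAut P, α ∈ F.autGroup P →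
      ∀ x : P, (x : Ω)⁻¹ * ((α x : P) : Ω) ∈ F.center ∧ ((x : Ω) ∈ F.center → α x = x) := by
    intro P hP α hα x
    have hmor : Mor F P (extAut α) := (mem_autGroup_iff hP).1 hα
    obtain ⟨g, hg, e1, e2⟩ := central_ext hZc hmor
    obtain ⟨ψ, hψ, eψ⟩ := hg
    obtain ⟨φ'', hφ''⟩ := exists_inducedAlong F θ hker hZsc hψ
    have hAS : P ⊔ F.center ≤ S := (F.le_of_mem hψ).1
    have hψS : ∀ y : ↥(P ⊔ F.center), ψ y ∈ S := (F.le_of_mem hψ).2
    have hle : preimageAlong θ (imageAlong θ (P ⊔ F.center)) ≤ P ⊔ F.center := by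
      intro y hy
      obtain ⟨hyS, hy'⟩ := mem_preimageAlong.1 hy
      obtain ⟨a, haS, haA, ha⟩ := mem_imageAlong.1 hy'
      have h1 : θ (⟨a, haS⟩⁻¹ * ⟨y, hyS⟩) = 1 := by
        rw [map_mul, map_inv, ha, inv_mul_cancel]
      have h2 : a⁻¹ * y ∈ F.center := (hker _).1 h1
      have : y = a * (a⁻¹ * y) := by group
      rw [this]
      exact Subgroup.mul_mem _ haA ((le_sup_right : F.center ≤ P ⊔ F.center) h2)
    have hmem : φ'' ∈ (factorSystem F F.center θ ⊤ hker hrange hZsc).Hom (imageAlong θ (P ⊔ F.center)) := by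
      refine ⟨le_top, ψ.comp (Subgroup.inclusion hle), restrict_mem F hψ hle, preimageAlong_le θ _,
        fun y => hψS _, fun y => (mem_preimageAlong.1 y.2).2, fun y => ?_⟩
      exact hφ'' (Subgroup.inclusion hle y) _ _ _
    rw [hinner] at hmem
    have hid := Helper88.inner_hom_apply hab' le_rfl hmem
    have hx' : (x : Ω) ∈ P ⊔ F.center := (le_sup_left : P ≤ P ⊔ F.center) x.2
    have hxim : θ ⟨x, hAS hx'⟩ ∈ imageAlong θ (P ⊔ F.center) := mem_imageAlong.2 ⟨x, hAS hx', hx', rfl⟩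
    have h3 := hφ'' ⟨x, hx'⟩ (hAS hx') hxim (hψS _)
    rw [hid ⟨_, hxim⟩] at h3
    have hψx : ψ ⟨x, hx'⟩ = ((α x : P) : Ω) := by
      rw [eψ ⟨x, hx'⟩]
      show g x = _
      rw [e1 x x.2, extAut_apply]
    constructor
    · have h4 : θ (⟨x, hAS hx'⟩⁻¹ * ⟨ψ ⟨x, hx'⟩, hψS _⟩) = 1 := by
        rw [map_mul, map_inv, ← h3, inv_mul_cancel]
      have h5 := (hker _).1 h4
      rw [← hψx]
      exact h5
    · intro hxZ
      apply Subtype.ext
      rw [← hψx, eψ ⟨x, hx'⟩]
      exact e2 x hxZ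
  -- hence automorphisms of order prime to p are trivial
  have key2 : ∀ (P : Subgroup Ω), P ≤ S → ∀ α : F.autGroup P, (orderOf α).Coprime p → α = 1 := by
    intro P hP α hcop
    haveI : Finite P := finite_of_le hP
    have h1 := pow_card_eq_one_of_stabilizes (α : MulAut P) ((F.center).subgroupOf P)
      (fun x hx => (key P hP α α.2 x).2 (Subgroup.mem_subgroupOf.1 hx))
      (fun x => Subgroup.mem_subgroupOf.2 (key P hP α α.2 x).1)
    have hpz : IsPGroup p ((F.center).subgroupOf P) := (hS.to_le hP).to_subgroup _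
    obtain ⟨n, hn⟩ := IsPGroup.iff_card.1 hpz
    rw [hn] at h1
    have hd : orderOf (α : MulAut P) ∣ p ^ n := orderOf_dvd_of_pow_eq_one h1
    rw [Subgroup.orderOf_coe] at hd
    have h2 : orderOf α = 1 := Nat.Coprime.eq_one_of_dvd (hcop.pow_right n) hd
    exact orderOf_eq_one_iff.1 h2
  have hres : ∀ (P : Subgroup Ω), P ≤ S → pResidual p (F.autGroup P) = ⊥ := by
    intro P hP
    unfold pResidual
    rw [Subgroup.closure_eq_bot_iff]
    intro g hg
    exact key2 P hP g hg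
  have hhyp0 : F.hyperfocalSubgroup p = ⊥ := by
    unfold hyperfocalSubgroup
    rw [Subgroup.closure_eq_bot_iff]
    rintro y ⟨P, α, x, hP, hα, rfl⟩
    rw [hres P hP, Subgroup.mem_bot] at hα
    rw [hα]
    show (x : Ω)⁻¹ * (x : Ω) = 1
    exact inv_mul_cancel _
  rw [hhyp0] at hhyp
  apply hEs.2.1
  rw [eq_bot_iff]
  intro y _
  obtain ⟨a, rfl⟩ := QuotientGroup.mk_surjective y
  have ha : (a : Ω) ∈ (⊥ : Subgroup Ω) := hhyp ▸ a.2
  rw [Subgroup.mem_bot] at ha
  have : a = 1 := Subtype.ext ha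
  rw [this]
  exact Subgroup.one_mem _

end Cfsg.Agent.S5148
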