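import Cfsg.Statements.S4106
import Mathlib
-- import your own Cfsg.Agent.* helpers here

set_option autoImplicit false
open Cfsg

namespace Cfsg.Agent.S4106

open scoped BigOperators

/-- Uniform exponents extracting the `p`-part and the `p'`-part. -/
theorem exists_exponents (N p : ℕ) (hp : p.Prime) (hN : N ≠ 0) :
    ∃ e f : ℕ, (N / p ^ N.factorization p) ∣ e ∧ p ^ N.factorization p ∣ f ∧
      (e + f) ≡ 1 [MOD N] := by
  have hcop : (p ^ N.factorization p).Coprime (N / p ^ N.factorization p) :=
    Nat.Coprime.pow_left _ (Nat.coprime_ordCompl hp hN)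
  obtain ⟨e, he1, he0⟩ := Nat.chineseRemainder hcop 1 0
  obtain ⟨f, hf0, hf1⟩ := Nat.chineseRemainder hcop 0 1
  refine ⟨e, f, (Nat.modEq_zero_iff_dvd).mp he0, (Nat.modEq_zero_iff_dvd).mp hf0, ?_⟩
  have h1 : (e + f) ≡ 1 [MOD p ^ N.factorization p] := by
    have := Nat.ModEq.add he1 hf0
    simpa using this
  have h2 : (e + f) ≡ 1 [MOD N / p ^ N.factorization p] := by
    have := Nat.ModEq.add he0 hf1
    simpa using this
  have := (Nat.modEq_and_modEq_iff_modEq_mul hcop).mp ⟨h1, h2⟩
  rwa [Nat.ordProj_mul_ordCompl_eq_self] at this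

/-- commuting pairs whose first component is an `S`-element -/
abbrev A (S : Finset ℕ) (G : Type*) [Group G] : Type _ :=
  {z : G × G // z.1 * z.2 = z.2 * z.1 ∧ ∀ q : ℕ, q.Prime → q ∣ orderOf z.1 → q ∈ S}

/-- the `p`-elements -/
abbrev Pel (p : ℕ) (G : Type*) [Group G] : Type _ :=
  {x : G // x ^ (p ^ (Nat.card G).factorization p) = 1}

/-- the bound function -/
def B (S : Finset ℕ) (n : ℕ) : ℕ := ∏ q ∈ S, q ^ n.factorization q

theorem B_mono (S : Finset ℕ) {n' n : ℕ} (hn : n ≠ 0) (h : n' ∣ n) : B S n' ≤ B S n := by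
  unfold B
  apply Nat.le_of_dvd
  · apply Finset.prod_pos
    intro q _
    rcases Nat.eq_zero_or_pos q with h0 | h0
    · subst h0; simp
    · exact Nat.pow_pos h0
  · apply Finset.prod_dvd_prod_of_dvd
    intro q _
    exact Nat.ordProj_dvd_ordProj_of_dvd hn h q

theorem claimB (p : ℕ) [Fact p.Prime] (G : Type*) [Group G] [Finite G] :
    Nat.card (Σ x : Pel p G, ↥(Subgroup.centralizer ({x.1} : Set G))) ≤
      p ^ (Nat.card G).factorization p * Nat.card G := by
  obtain ⟨P⟩ : Nonempty (Sylow p G) := inferInstance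
  have hex : ∀ x : Pel p G, ∃ (l : G) (u : P), l * (u : G) * l⁻¹ = x.1 := by
    intro x
    have hpg : IsPGroup p (Subgroup.zpowers x.1) := by
      rintro ⟨y, hy⟩
      obtain ⟨n, rfl⟩ := Subgroup.mem_zpowers_iff.mp hy
      refine ⟨(Nat.card G).factorization p, ?_⟩
      apply Subtype.ext
      simp only [SubmonoidClass.mk_pow, Subgroup.coe_one]
      rw [← zpow_natCast, ← zpow_mul, mul_comm, zpow_mul, zpow_natCast, x.2, one_zpow]
    obtain ⟨Q, hQ⟩ := hpg.exists_le_sylow
    obtain ⟨g, hg⟩ := MulAction.exists_smul_eq G P Q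
    have hx : x.1 ∈ (Q : Subgroup G) := hQ (Subgroup.mem_zpowers x.1)
    rw [← hg, Sylow.coe_subgroup_smul, Subgroup.mem_pointwise_smul_iff_inv_smul_mem] at hx
    have h3 : (MulAut.conj g)⁻¹ • x.1 = g⁻¹ * x.1 * g := by
      simp [MulAut.smul_def]
    rw [h3] at hx
    refine ⟨g, ⟨_, hx⟩, ?_⟩
    simp only
    group
  choose l u hlu using hex
  let φ : (Σ x : Pel p G, ↥(Subgroup.centralizer ({x.1} : Set G))) → G × P :=
    fun z => ((z.2 : G) * l z.1, u z.1)
  have hφ : Function.Injective φ := by
    rintro ⟨x, h⟩ ⟨x', h'⟩ heq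
    have h1 : (h : G) * l x = (h' : G) * l x' := congrArg Prod.fst heq
    have h2 : u x = u x' := congrArg Prod.snd heq
    have key : ∀ (y : Pel p G) (k : ↥(Subgroup.centralizer ({y.1} : Set G))),
        ((k : G) * l y) * (u y : G) * ((k : G) * l y)⁻¹ = y.1 := by
      intro y k
      have hk := (Subgroup.mem_centralizer_iff.mp k.2) y.1 (Set.mem_singleton _)
      have e : ((k : G) * l y) * (u y : G) * ((k : G) * l y)⁻¹ =
          (k : G) * (l y * (u y : G) * (l y)⁻¹) * (k : G)⁻¹ := by group
      rw [e, hlu y, ← hk]; group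
    have hxx : x = x' := by
      apply Subtype.ext
      rw [← key x h, ← key x' h', h1, h2]
    subst hxx
    have hh : h = h' := by
      apply Subtype.ext
      exact mul_right_cancel h1
    rw [hh]
  have := Nat.card_le_card_of_injective φ hφ
  rw [Nat.card_prod, Sylow.card_eq_multiplicity, mul_comm] at this
  exact this

theorem step (p : ℕ) [hp : Fact p.Prime] (S : Finset ℕ) (G : Type*) [Group G] [Finite G] :
    Nat.card (A (insert p S) G) ≤
      Nat.card (Σ x : Pel p G, A S ↥(Subgroup.centralizer ({x.1} : Set G))) := by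
  obtain ⟨e, f, he, hf, hef⟩ := exists_exponents (Nat.card G) p hp.out Nat.card_pos.ne'
  have hmul : p ^ (Nat.card G).factorization p * (Nat.card G / p ^ (Nat.card G).factorization p)
      = Nat.card G := Nat.ordProj_mul_ordCompl_eq_self _ _
  have hsum : ∀ g : G, g ^ e * g ^ f = g := by
    intro g
    rw [← pow_add]
    have : e + f ≡ 1 [MOD orderOf g] := hef.of_dvd (orderOf_dvd_natCard g)
    have := pow_eq_pow_iff_modEq.mpr this
    simpa using this
  have hpe : ∀ g : G, (g ^ e) ^ (p ^ (Nat.card G).factorization p) = 1 := by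
    intro g
    rw [← pow_mul]
    apply orderOf_dvd_iff_pow_eq_one.mp
    apply (orderOf_dvd_natCard g).trans
    exact (dvd_of_eq hmul.symm).trans (by rw [mul_comm e]; exact Nat.mul_dvd_mul_left _ he)
  have hpf : ∀ g : G, (g ^ f) ^ (Nat.card G / p ^ (Nat.card G).factorization p) = 1 := by
    intro g
    rw [← pow_mul]
    apply orderOf_dvd_iff_pow_eq_one.mp
    apply (orderOf_dvd_natCard g).trans
    exact (dvd_of_eq hmul.symm).trans (Nat.mul_dvd_mul_right hf _)
  let φ : A (insert p S) G → (Σ x : Pel p G, A S ↥(Subgroup.centralizer ({x.1} : Set G))) :=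
    fun z => ⟨⟨z.1.1 ^ e, hpe z.1.1⟩,
      ⟨(⟨z.1.1 ^ f, by
          rw [Subgroup.mem_centralizer_iff]
          intro y hy
          rw [Set.mem_singleton_iff] at hy
          subst hy
          rw [← pow_add, ← pow_add, add_comm]⟩,
        ⟨z.1.2, by
          rw [Subgroup.mem_centralizer_iff]
          intro y hy
          rw [Set.mem_singleton_iff] at hy
          subst hy
          exact ((Commute.pow_left (show Commute z.1.1 z.1.2 from z.2.1) e).eq)⟩), by
        constructor
        · apply Subtype.ext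
          simp only [Subgroup.coe_mul]
          exact ((Commute.pow_left (show Commute z.1.1 z.1.2 from z.2.1) f).eq)
        · intro q hq hqo
          simp only at hqo
          rw [Subgroup.orderOf_mk] at hqo
          have h1 : q ∣ orderOf z.1.1 := hqo.trans (orderOf_pow_dvd f)
          have h2 := z.2.2 q hq h1
          rw [Finset.mem_insert] at h2
          rcases h2 with rfl | h2
          · exfalso
            have h3 : orderOf (z.1.1 ^ f) ∣ Nat.card G / q ^ (Nat.card G).factorization q :=
              orderOf_dvd_of_pow_eq_one (hpf z.1.1)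
            have h4 := Nat.coprime_ordCompl hq Nat.card_pos.ne' (n := Nat.card G)
            exact (Nat.Prime.coprime_iff_not_dvd hq).mp h4 (hqo.trans h3)
          · exact h2⟩⟩
  let ψ : (Σ x : Pel p G, A S ↥(Subgroup.centralizer ({x.1} : Set G))) → G × G :=
    fun w => ((w.1.1 : G) * (w.2.1.1 : G), (w.2.1.2 : G))
  have hφ : Function.Injective φ := by
    apply Function.Injective.of_comp (f := ψ)
    have : ψ ∘ φ = Subtype.val := by
      funext z
      exact Prod.ext (hsum z.1.1) rfl
    rw [this]
    exact Subtype.val_injective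
  exact Nat.card_le_card_of_injective φ hφ

universe u

theorem main (S : Finset ℕ) (hS : ∀ q ∈ S, q.Prime) :
    ∀ (G : Type u) [Group G] [Finite G], Nat.card (A S G) ≤ B S (Nat.card G) * Nat.card G := by
  induction S using Finset.induction_on with
  | empty =>
    intro G _ _
    have : B ∅ (Nat.card G) = 1 := by simp [B]
    rw [this, one_mul]
    let φ : A ∅ G → G := fun z => z.1.2
    apply Nat.card_le_card_of_injective φ
    intro z z' h
    have h1 : ∀ w : A ∅ G, w.1.1 = 1 := by
      intro w
      rw [← orderOf_eq_one_iff]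
      by_contra hne
      obtain ⟨q, hq, hqd⟩ := Nat.exists_prime_and_dvd hne
      exact absurd (w.2.2 q hq hqd) (Finset.notMem_empty q)
    apply Subtype.ext
    exact Prod.ext ((h1 z).trans (h1 z').symm) h
  | insert p S hpS ih =>
    intro G _ _
    have hp : p.Prime := hS p (Finset.mem_insert_self p S)
    have : Fact p.Prime := ⟨hp⟩
    have ih' := ih (fun q hq => hS q (Finset.mem_insert_of_mem hq))
    have := Fintype.ofFinite (Pel p G)
    calc Nat.card (A (insert p S) G)
        ≤ Nat.card (Σ x : Pel p G, A S ↥(Subgroup.centralizer ({x.1} : Set G))) := step p S G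
      _ = ∑ x : Pel p G, Nat.card (A S ↥(Subgroup.centralizer ({x.1} : Set G))) := Nat.card_sigma
      _ ≤ ∑ x : Pel p G, B S (Nat.card G) *
            Nat.card ↥(Subgroup.centralizer ({x.1} : Set G)) := by
          apply Finset.sum_le_sum
          intro x _
          refine (ih' ↥(Subgroup.centralizer ({x.1} : Set G))).trans ?_
          apply Nat.mul_le_mul_right
          exact B_mono S Nat.card_pos.ne' (Subgroup.card_subgroup_dvd_card _)
      _ = B S (Nat.card G) * ∑ x : Pel p G, Nat.card ↥(Subgroup.centralizer ({x.1} : Set G)) := by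
          rw [Finset.mul_sum]
      _ = B S (Nat.card G) *
            Nat.card (Σ x : Pel p G, ↥(Subgroup.centralizer ({x.1} : Set G))) := by
          rw [Nat.card_sigma]
      _ ≤ B S (Nat.card G) * (p ^ (Nat.card G).factorization p * Nat.card G) :=
          Nat.mul_le_mul_left _ (claimB p G)
      _ = B (insert p S) (Nat.card G) * Nat.card G := by
          unfold B
          rw [Finset.prod_insert hpS]
          ring

theorem comm_aux {G : Type*} [Group G] (k rC lx x : G) (hx : x = k * rC * k⁻¹)
    (e1 : lx * rC * lx⁻¹ = x) : x * (k * lx⁻¹) = k * lx⁻¹ * x := by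
  subst hx
  calc k * rC * k⁻¹ * (k * lx⁻¹) = k * rC * lx⁻¹ := by group
    _ = k * lx⁻¹ * (lx * rC * lx⁻¹) := by group
    _ = k * lx⁻¹ * (k * rC * k⁻¹) := by rw [e1]

theorem classes_le (S : Finset ℕ) (G : Type*) [Group G] [Finite G] :
    Nat.card {C : ConjClasses G // ∀ q : ℕ, q.Prime →
      (∃ g : G, ConjClasses.mk g = C ∧ q ∣ orderOf g) → q ∈ S} * Nat.card G ≤ Nat.card (A S G) := by
  have hrep : ∀ C : ConjClasses G, ∃ r : G, ConjClasses.mk r = C := ConjClasses.exists_rep
  choose r hr using hrep
  have hl : ∀ x : G, ∃ l : G, l * r (ConjClasses.mk x) * l⁻¹ = x := by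
    intro x
    have : IsConj (r (ConjClasses.mk x)) x := ConjClasses.mk_eq_mk_iff_isConj.mp (hr _)
    exact isConj_iff.mp this
  choose l hl using hl
  rw [← Nat.card_prod]
  have hmk : ∀ (C : ConjClasses G) (k : G), ConjClasses.mk (k * r C * k⁻¹) = C := by
    intro C k
    have h1 : ConjClasses.mk (k * r C * k⁻¹) = ConjClasses.mk (r C) :=
      ConjClasses.mk_eq_mk_iff_isConj.mpr (isConj_iff.mpr ⟨k, rfl⟩).symm
    rw [h1, hr C]
  let φ : {C : ConjClasses G // ∀ q : ℕ, q.Prime →
      (∃ g : G, ConjClasses.mk g = C ∧ q ∣ orderOf g) → q ∈ S} × G → A S G :=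
    fun w => ⟨(w.2 * r w.1.1 * w.2⁻¹, w.2 * (l (w.2 * r w.1.1 * w.2⁻¹))⁻¹), by
      constructor
      · simp only
        have h1 := hl (w.2 * r w.1.1 * w.2⁻¹)
        rw [hmk] at h1
        exact comm_aux w.2 (r w.1.1) _ _ rfl h1
      · intro q hq hqo
        exact w.1.2 q hq ⟨_, hmk _ _, hqo⟩⟩
  apply Nat.card_le_card_of_injective φ
  rintro ⟨⟨C, hC⟩, k⟩ ⟨⟨C', hC'⟩, k'⟩ heq
  have h1 : k * r C * k⁻¹ = k' * r C' * k'⁻¹ := congrArg (fun z => z.1.1) heq
  have h2 : k * (l (k * r C * k⁻¹))⁻¹ = k' * (l (k' * r C' * k'⁻¹))⁻¹ :=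
    congrArg (fun z => z.1.2) heq
  have hCC : C = C' := by
    rw [← hmk C k, ← hmk C' k', h1]
  subst hCC
  rw [← h1] at h2
  have hkk : k = k' := mul_right_cancel h2
  subst hkk
  rfl

/-- Let G be a finite group, π a set of primes and m the π-part of the order of G. Then the number of conjugacy classes of G consisting of π-elements (elements whose order is divisible only by primes in π) is at most m. -/
theorem result {G : Type*} [Group G] [Finite G]
    (π : Set ℕ) (hπ : ∀ q ∈ π, q.Prime)
    (m : ℕ) (hm : m ∣ Nat.card G) (hmπ : ∀ q : ℕ, q.Prime → q ∣ m → q ∈ π)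
    (hm' : ∀ q ∈ π, ¬ q ∣ Nat.card G / m) :
    Nat.card {C : ConjClasses G // ∀ q : ℕ, q.Prime → (∃ g : G, ConjClasses.mk g = C ∧ q ∣ orderOf g) → q ∈ π} ≤ m := by
  classical
  set S : Finset ℕ := (Nat.card G).primeFactors.filter (fun q => q ∈ π) with hS
  have hSprime : ∀ q ∈ S, q.Prime := by
    intro q hq
    exact Nat.prime_of_mem_primeFactors (Finset.mem_filter.mp hq).1
  -- the two class predicates agree
  have hsub : Nat.card {C : ConjClasses G // ∀ q : ℕ, q.Prime →
      (∃ g : G, ConjClasses.mk g = C ∧ q ∣ orderOf g) → q ∈ π} ≤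
      Nat.card {C : ConjClasses G // ∀ q : ℕ, q.Prime →
      (∃ g : G, ConjClasses.mk g = C ∧ q ∣ orderOf g) → q ∈ S} := by
    apply Nat.card_le_card_of_injective (fun C => ⟨C.1, fun q hq hex => by
      obtain ⟨g, hg, hqg⟩ := hex
      rw [hS, Finset.mem_filter]
      refine ⟨?_, C.2 q hq ⟨g, hg, hqg⟩⟩
      exact Nat.mem_primeFactors.mpr ⟨hq, hqg.trans (orderOf_dvd_natCard g), Nat.card_pos.ne'⟩⟩)
    intro C C' h
    apply Subtype.ext
    exact congrArg (fun z => z.1) h
  refine hsub.trans ?_
  have h1 := classes_le S G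
  have h2 := main S hSprime G
  have h3 : Nat.card {C : ConjClasses G // ∀ q : ℕ, q.Prime →
      (∃ g : G, ConjClasses.mk g = C ∧ q ∣ orderOf g) → q ∈ S} ≤ B S (Nat.card G) :=
    Nat.le_of_mul_le_mul_right (h1.trans h2) Nat.card_pos
  refine h3.trans ?_
  -- B S |G| ∣ m
  have hfac : ∀ q ∈ S, (Nat.card G).factorization q = m.factorization q := by
    intro q hq
    have hqπ : q ∈ π := (Finset.mem_filter.mp hq).2
    have hqp := hSprime q hq
    have hm0 : m ≠ 0 := by
      rintro rfl
      rw [zero_dvd_iff] at hm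
      exact Nat.card_pos.ne' hm
    have hdiv0 : Nat.card G / m ≠ 0 := by
      intro h0
      have := Nat.div_mul_cancel hm
      rw [h0, zero_mul] at this
      exact Nat.card_pos.ne' this.symm
    have := Nat.div_mul_cancel hm
    rw [← this, Nat.factorization_mul hdiv0 hm0, Finsupp.add_apply,
      Nat.factorization_eq_zero_of_not_dvd (hm' q hqπ), zero_add]
  have hB : B S (Nat.card G) = ∏ q ∈ S, q ^ m.factorization q := by
    unfold B
    exact Finset.prod_congr rfl (fun q hq => by rw [hfac q hq])
  rw [hB]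
  have hm0 : m ≠ 0 := by
    rintro rfl
    rw [zero_dvd_iff] at hm
    exact Nat.card_pos.ne' hm
  apply Nat.le_of_dvd (Nat.pos_of_ne_zero hm0)
  -- product of prime powers over a set of primes divides m
  have gen : ∀ T : Finset ℕ, (∀ q ∈ T, q.Prime) → ∏ q ∈ T, q ^ m.factorization q ∣ m := by
    intro T
    induction T using Finset.induction_on with
    | empty => intro _; simp
    | insert p T hpT ih =>
      intro hT
      rw [Finset.prod_insert hpT]
      have hp := hT p (Finset.mem_insert_self p T)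
      apply Nat.Coprime.mul_dvd_of_dvd_of_dvd
      · apply Nat.Coprime.prod_right
        intro q hq
        have hqp := hT q (Finset.mem_insert_of_mem hq)
        apply Nat.Coprime.pow
        rw [Nat.coprime_primes hp hqp]
        rintro rfl
        exact hpT hq
      · exact Nat.ordProj_dvd m p
      · exact ih (fun q hq => hT q (Finset.mem_insert_of_mem hq))
  exact gen S hSprime

end Cfsg.Agent.S4106
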