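import Cfsg.Statements.S1042
import Cfsg.Agent.Lib.Helper18.UiAll
import Cfsg.Agent.Lib.Helper18.TorusAll
import Cfsg.Agent.Lib.Helper18.ConjAll
import Cfsg.Agent.Lib.Helper18.ChevBNPair2
import Cfsg.Agent.Lib.Helper18.ChevPara1
import Cfsg.Agent.S1038

set_option autoImplicit false
open Cfsg

namespace Cfsg.Agent.S1042

/-- The Chevalley group has a (B,N)-pair with `B = UH`, `N` the monomial subgroup and the `n_p`, `p` fundamental, as representatives of the distinguished involutions of `W = N/H`. -/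
theorem result {F : Type*} [Field F] (D : Cfsg.Lie.ChevalleyDatum) (hD : D ∈ [Cfsg.Lie.chevG2, Cfsg.Lie.chevB2, Cfsg.Lie.chevD4, Cfsg.Lie.chevF4, Cfsg.Lie.chevE6, Cfsg.Lie.chevE7, Cfsg.Lie.chevE8]) :
    ∃ P : Cfsg.BNPair ↥(D.group F),
      P.B = (D.borelSubgroup F).subgroupOf (D.group F) ∧ P.N = (D.monomialSubgroup F).subgroupOf (D.group F) ∧
      P.S = {n : ↥(D.group F) | ∃ i < D.rank, ((n : GL D.Idx F) : Matrix D.Idx D.Idx F) = D.nMat F (D.simple i) 1} := by
  obtain ⟨tbl, hT⟩ := Cfsg.Agent.Helper18.torusData_all D hD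
  have hHN : D.diagonalSubgroup F ≤ D.monomialSubgroup F := le_sup_left
  have hNH := (Subgroup.normal_subgroupOf_iff_le_normalizer hHN).mp (Cfsg.Agent.S1038.result (F := F) D hD)
  have hB := Cfsg.Agent.Helper18.bnFacts_all D hD
  have hU := Cfsg.Agent.Helper18.uiFacts_all D hD
  have hconj : ∀ i < D.rank, ∀ s < D.nroots, Cfsg.Agent.Helper18.ConjGoal' F D i s :=
    fun i hi s hs => Cfsg.Agent.Helper18.conjGoal_all D hD i s hi hs
  have hS : ∀ i < D.rank, Cfsg.Agent.Helper18.ConjGoalS' F D i :=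
    fun i hi => Cfsg.Agent.Helper18.conjGoalS_all D hD i hi
  exact Cfsg.Agent.Helper18.bnPair_exists D hD hB hU hT (Cfsg.Agent.Helper17.triOK_of_mem D hD)
    (Cfsg.Agent.Helper18.negTriOK_of_mem D hD) hconj hS hNH

end Cfsg.Agent.S1042
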