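import Cfsg.Statements.S2168
import Mathlib
import Cfsg.Agent.Lib.Helper36.OrthChar2

set_option autoImplicit false
open Cfsg

namespace Cfsg.Agent.S2168

open Matrix Module Cfsg.Agent.Helper36

universe u

section form

variable {F : Type u} [Field F] {m : ℕ}

/-- the polar form of the hyperbolic quadratic form -/
noncomputable def Bp (m : ℕ) (F : Type u) [Field F] :
    (Fin m ⊕ Fin m → F) →ₗ[F] (Fin m ⊕ Fin m → F) →ₗ[F] F :=
  LinearMap.mk₂ F
    (fun u v => ∑ i : Fin m, (u (Sum.inl i) * v (Sum.inr i) + u (Sum.inr i) * v (Sum.inl i)))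
    (by intro u u' v; simp only [Pi.add_apply, ← Finset.sum_add_distrib]; apply Finset.sum_congr rfl; intro i _; ring)
    (by intro c u v; simp only [Pi.smul_apply, smul_eq_mul, Finset.mul_sum]; apply Finset.sum_congr rfl; intro i _; ring)
    (by intro u v v'; simp only [Pi.add_apply, ← Finset.sum_add_distrib]; apply Finset.sum_congr rfl; intro i _; ring)
    (by intro c u v; simp only [Pi.smul_apply, smul_eq_mul, Finset.mul_sum]; apply Finset.sum_congr rfl; intro i _; ring)

theorem Bp_apply (u v : Fin m ⊕ Fin m → F) :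
    Bp m F u v = ∑ i : Fin m, (u (Sum.inl i) * v (Sum.inr i) + u (Sum.inr i) * v (Sum.inl i)) := rfl

theorem isQuad_plus [CharP F 2] : IsQuad (Cfsg.quadFormPlus m F) (Bp m F) where
  add u v := by
    rw [Bp_apply]
    unfold Cfsg.quadFormPlus
    simp only [Pi.add_apply, ← Finset.sum_add_distrib]
    apply Finset.sum_congr rfl
    intro i _
    ring
  smul c v := by
    unfold Cfsg.quadFormPlus
    simp only [Pi.smul_apply, smul_eq_mul, Finset.mul_sum]
    apply Finset.sum_congr rfl
    intro i _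
    ring

theorem Bp_nondeg (u : Fin m ⊕ Fin m → F) (hu : ∀ v, Bp m F u v = 0) : u = 0 := by
  funext a
  rcases a with i | i
  · have := hu (Pi.single (Sum.inr i) 1)
    rw [Bp_apply, Finset.sum_eq_single i] at this
    · simpa using this
    · intro j _ hj
      simp [hj]
    · simp
  · have := hu (Pi.single (Sum.inl i) 1)
    rw [Bp_apply, Finset.sum_eq_single i] at this
    · simpa using this
    · intro j _ hj
      simp [hj]
    · simp

end form

section count

variable {F : Type u} [Field F] [Fintype F] {m : ℕ}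

/-- the kernel of a nonzero dot-product functional -/
theorem card_ker_dot (x : Fin m → F) (hx : x ≠ 0) :
    Nat.card {y : Fin m → F // x ⬝ᵥ y = 0} * Nat.card F = Nat.card F ^ m := by
  let f : (Fin m → F) →ₗ[F] F :=
    { toFun := fun y => x ⬝ᵥ y
      map_add' := fun y z => dotProduct_add x y z
      map_smul' := fun c y => by simp [dotProduct_smul] }
  have hsurj : Function.Surjective f := by
    obtain ⟨i, hi⟩ : ∃ i, x i ≠ 0 := by
      by_contra h
      push Not at h
      exact hx (funext h)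
    intro c
    refine ⟨Pi.single i (c / x i), ?_⟩
    show x ⬝ᵥ Pi.single i (c / x i) = c
    rw [dotProduct_single, mul_div_cancel₀ _ hi]
  have h1 := Submodule.card_eq_card_quotient_mul_card (LinearMap.ker f)
  have h2 : Nat.card ((Fin m → F) ⧸ LinearMap.ker f) = Nat.card F :=
    Nat.card_congr (f.quotKerEquivOfSurjective hsurj).toEquiv
  have h3 : Nat.card {y : Fin m → F // x ⬝ᵥ y = 0} = Nat.card (LinearMap.ker f) :=
    Nat.card_congr (Equiv.subtypeEquivRight (fun y => by rw [LinearMap.mem_ker]; rfl))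
  rw [h2] at h1
  rw [h3, ← h1, Nat.card_fun, Nat.card_eq_fintype_card (α := Fin m), Fintype.card_fin]

theorem card_zero_plus (m : ℕ) :
    Nat.card {v : Fin m ⊕ Fin m → F // Cfsg.quadFormPlus m F v = 0} * Nat.card F =
      Nat.card F ^ m * Nat.card F + (Nat.card F ^ m - 1) * Nat.card F ^ m := by
  classical
  have e : {v : Fin m ⊕ Fin m → F // Cfsg.quadFormPlus m F v = 0} ≃
      Σ x : Fin m → F, {y : Fin m → F // x ⬝ᵥ y = 0} :=
    (Equiv.subtypeEquiv (Equiv.sumArrowEquivProdArrow (Fin m) (Fin m) F)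
      (p := fun v => Cfsg.quadFormPlus m F v = 0) (q := fun p => p.1 ⬝ᵥ p.2 = 0)
      (fun v => by rfl)).trans
      (Equiv.subtypeProdEquivSigmaSubtype (fun (x y : Fin m → F) => x ⬝ᵥ y = 0))
  rw [Nat.card_congr e, Nat.card_sigma, Finset.sum_mul]
  have hterm : ∀ x : Fin m → F, Nat.card {y : Fin m → F // x ⬝ᵥ y = 0} * Nat.card F =
      if x = 0 then Nat.card F ^ m * Nat.card F else Nat.card F ^ m := by
    intro x
    by_cases hx : x = 0
    · rw [if_pos hx, hx]
      have : Nat.card {y : Fin m → F // (0 : Fin m → F) ⬝ᵥ y = 0} = Nat.card (Fin m → F) :=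
        Nat.card_congr (Equiv.subtypeUnivEquiv (fun y => zero_dotProduct y))
      rw [this, Nat.card_fun, Nat.card_eq_fintype_card (α := Fin m), Fintype.card_fin]
    · rw [if_neg hx]
      exact card_ker_dot x hx
  simp only [hterm]
  rw [← Finset.add_sum_erase Finset.univ _ (Finset.mem_univ (0 : Fin m → F)), if_pos rfl]
  congr 1
  rw [Finset.sum_congr rfl (fun x hx => if_neg (Finset.ne_of_mem_erase hx)), Finset.sum_const,
    Finset.card_erase_of_mem (Finset.mem_univ _), Finset.card_univ, smul_eq_mul,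
    ← Nat.card_eq_fintype_card, Nat.card_fun, Nat.card_eq_fintype_card (α := Fin m), Fintype.card_fin]

theorem count_ne_plus (hm : 1 ≤ m) :
    Nat.card {v : Fin m ⊕ Fin m → F // Cfsg.quadFormPlus m F v = 0} * Nat.card F ≠
      Nat.card (Fin m ⊕ Fin m → F) := by
  rw [card_zero_plus, Nat.card_fun, Nat.card_eq_fintype_card (α := Fin m ⊕ Fin m), Fintype.card_sum,
    Fintype.card_fin, pow_add]
  have hq : 2 ≤ Nat.card F := by
    rw [Nat.card_eq_fintype_card]
    exact Fintype.one_lt_card
  set q := Nat.card F with hqdef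
  have hA : 2 ≤ q ^ m := by
    calc 2 ≤ q := hq
      _ = q ^ 1 := (pow_one q).symm
      _ ≤ q ^ m := Nat.pow_le_pow_right (by omega) hm
  obtain ⟨A', hA'⟩ : ∃ A', q ^ m = A' + 1 := ⟨q ^ m - 1, by omega⟩
  rw [hA', Nat.add_sub_cancel]
  intro h
  have : (A' + 1) * q + A' * (A' + 1) = (A' + 1) * (q + A') := by ring
  rw [this] at h
  have h2 := Nat.eq_of_mul_eq_mul_left (by omega) h
  omega

end count

/-- Involutions in the full isometry group O of the hyperbolic quadratic form Σ x_i y_i in dimension 2m over a finite field F of characteristic two, m ≥ 4 (plus type): two elements of order 2 of O are conjugate in O exactly when they are conjugate under the group of all invertible matrices preserving the polar bilinear form (u, v) ↦ Q(u + v) − Q(u) − Q(v) (the symplectic group of that form). -/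
theorem result {F : Type*} [Field F] [Fintype F] [CharP F 2] {m : ℕ} (hm : 4 ≤ m) (t s : ↥(Cfsg.isometryGroup F (Cfsg.quadFormPlus m F))) (ht : orderOf t = 2) (hs : orderOf s = 2) :
    IsConj t s ↔ ∃ g ∈ Cfsg.preserving (Units.coeHom (Matrix (Fin m ⊕ Fin m) (Fin m ⊕ Fin m) F)) (fun u v => Cfsg.quadFormPlus m F (u + v) - Cfsg.quadFormPlus m F u - Cfsg.quadFormPlus m F v), g * ((t : ↥(Cfsg.isometryGroup F (Cfsg.quadFormPlus m F))) : GL (Fin m ⊕ Fin m) F) * g⁻¹ = ((s : ↥(Cfsg.isometryGroup F (Cfsg.quadFormPlus m F))) : GL (Fin m ⊕ Fin m) F) := by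
  have hQ := isQuad_plus (F := F) (m := m)
  have hpolar : ∀ u v : Fin m ⊕ Fin m → F, Cfsg.quadFormPlus m F (u + v) - Cfsg.quadFormPlus m F u -
      Cfsg.quadFormPlus m F v = Bp m F u v := by
    intro u v
    rw [hQ.add]
    ring
  have hmemO : ∀ c : GL (Fin m ⊕ Fin m) F, c ∈ Cfsg.isometryGroup F (Cfsg.quadFormPlus m F) ↔
      ∀ v, Cfsg.quadFormPlus m F ((c : Matrix (Fin m ⊕ Fin m) (Fin m ⊕ Fin m) F).mulVec v) =
        Cfsg.quadFormPlus m F v := by
    intro c
    constructor
    · intro h v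
      exact h v v
    · intro h u _
      exact h u
  constructor
  · intro hconj
    obtain ⟨c, hc⟩ := isConj_iff.mp hconj
    refine ⟨(c : GL (Fin m ⊕ Fin m) F), ?_, ?_⟩
    · intro u v
      have h1 := (hmemO _).mp c.2
      show Cfsg.quadFormPlus m F
          (((c : GL (Fin m ⊕ Fin m) F) : Matrix (Fin m ⊕ Fin m) (Fin m ⊕ Fin m) F).mulVec u +
            ((c : GL (Fin m ⊕ Fin m) F) : Matrix (Fin m ⊕ Fin m) (Fin m ⊕ Fin m) F).mulVec v) -
          Cfsg.quadFormPlus m F
            (((c : GL (Fin m ⊕ Fin m) F) : Matrix (Fin m ⊕ Fin m) (Fin m ⊕ Fin m) F).mulVec u) -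
          Cfsg.quadFormPlus m F
            (((c : GL (Fin m ⊕ Fin m) F) : Matrix (Fin m ⊕ Fin m) (Fin m ⊕ Fin m) F).mulVec v) =
        Cfsg.quadFormPlus m F (u + v) - Cfsg.quadFormPlus m F u - Cfsg.quadFormPlus m F v
      rw [← Matrix.mulVec_add, h1, h1, h1]
    · have h' := congrArg (fun x : ↥(Cfsg.isometryGroup F (Cfsg.quadFormPlus m F)) =>
        (x : GL (Fin m ⊕ Fin m) F)) hc
      simpa using h'
  · rintro ⟨g, hg, hgts⟩
    have htt : (t : GL (Fin m ⊕ Fin m) F) * (t : GL (Fin m ⊕ Fin m) F) = 1 := by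
      have h := pow_orderOf_eq_one t
      rw [ht, pow_two] at h
      have h' := congrArg (fun x : ↥(Cfsg.isometryGroup F (Cfsg.quadFormPlus m F)) =>
        (x : GL (Fin m ⊕ Fin m) F)) h
      simpa using h'
    have hg' : ∀ u v, Bp m F ((g : Matrix (Fin m ⊕ Fin m) (Fin m ⊕ Fin m) F).mulVec u)
        ((g : Matrix (Fin m ⊕ Fin m) (Fin m ⊕ Fin m) F).mulVec v) = Bp m F u v := by
      intro u v
      rw [← hpolar, ← hpolar]
      exact hg u v
    have hs' : ∀ v, Cfsg.quadFormPlus m F
        (((g * (t : GL (Fin m ⊕ Fin m) F) * g⁻¹ : GL (Fin m ⊕ Fin m) F) :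
          Matrix (Fin m ⊕ Fin m) (Fin m ⊕ Fin m) F).mulVec v) = Cfsg.quadFormPlus m F v := by
      rw [hgts]
      exact (hmemO _).mp s.2
    obtain ⟨k, hk1, hk2⟩ := exists_isometry_conj_GL hQ Bp_nondeg (count_ne_plus (by omega))
      (t : GL (Fin m ⊕ Fin m) F) g ((hmemO _).mp t.2) htt hg' hs'
    apply isConj_iff.mpr
    refine ⟨⟨k, (hmemO _).mpr hk1⟩, ?_⟩
    apply Subtype.ext
    rw [← hgts, ← hk2]
    rfl

end Cfsg.Agent.S2168
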