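import Cfsg.Statements.S0831
import Mathlib
import Cfsg.Agent.S2168
import Cfsg.Agent.Lib.Helper36.TotSing

set_option autoImplicit false
open Cfsg

namespace Cfsg.Agent.S0831

open Module Cfsg.Agent.Helper36.TotSing Cfsg.Agent.S2168

universe u

variable {F : Type u} [Field F] {m : ℕ}

theorem isQF_plus : IsQF (Cfsg.quadFormPlus m F) (Bp m F) where
  add u v := by
    rw [Bp_apply]
    unfold Cfsg.quadFormPlus
    simp only [Pi.add_apply, ← Finset.sum_add_distrib]
    apply Finset.sum_congr rfl
    intro i _
    ring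
  smul c v := by
    unfold Cfsg.quadFormPlus
    simp only [Pi.smul_apply, smul_eq_mul, Finset.mul_sum]
    apply Finset.sum_congr rfl
    intro i _
    ring

theorem Bp_nondegenerate : (Bp m F).Nondegenerate := by
  constructor
  · intro u hu
    exact Bp_nondeg u hu
  · intro v hv
    apply Bp_nondeg v
    intro u
    rw [isQF_plus.symm]
    exact hv u

theorem finrank_V : finrank F (Fin m ⊕ Fin m → F) = 2 * m := by
  rw [Module.finrank_fintype_fun_eq_card, Fintype.card_sum, Fintype.card_fin]
  omega

/-- the standard maximal totally singular subspace `⟨e_i⟩` -/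
def stdL (m : ℕ) (F : Type u) [Field F] : Submodule F (Fin m ⊕ Fin m → F) :=
  LinearMap.ker (LinearMap.funLeft F F (Sum.inr : Fin m → Fin m ⊕ Fin m))

theorem mem_stdL (v : Fin m ⊕ Fin m → F) : v ∈ stdL m F ↔ ∀ j, v (Sum.inr j) = 0 := by
  unfold stdL
  rw [LinearMap.mem_ker]
  constructor
  · intro h j
    exact congrFun h j
  · intro h
    funext j
    exact h j

theorem stdL_mts : IsMTS (Cfsg.quadFormPlus m F) m (stdL m F) := by
  constructor
  · have h1 := LinearMap.finrank_range_add_finrank_ker
      (LinearMap.funLeft F F (Sum.inr : Fin m → Fin m ⊕ Fin m))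
    rw [LinearMap.range_eq_top.mpr
      (LinearMap.funLeft_surjective_of_injective _ _ _ Sum.inr_injective), finrank_top,
      Module.finrank_fintype_fun_eq_card, Fintype.card_fin, finrank_V] at h1
    unfold stdL
    omega
  · intro w hw
    unfold Cfsg.quadFormPlus
    apply Finset.sum_eq_zero
    intro i _
    rw [(mem_stdL w).mp hw i, mul_zero]

/-- The two families of maximal totally singular subspaces of the hyperbolic quadric: for the form Σ x_i y_i on F^(2m), m ≥ 1, and m-dimensional subspaces U, W, X on which it vanishes, the parities of m − dim(U ∩ W), m − dim(W ∩ X) and m − dim(U ∩ X) sum to an even number (so 'even codimension of the intersection' is an equivalence relation), and there exist two such subspaces meeting in codimension 1 (so there are exactly two classes). -/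
theorem result {F : Type*} [Field F] (m : ℕ) (hm : 1 ≤ m) : (∀ U W X : Submodule F (Fin m ⊕ Fin m → F), (Module.finrank F U = m ∧ ∀ w ∈ U, Cfsg.quadFormPlus m F w = 0) → (Module.finrank F W = m ∧ ∀ w ∈ W, Cfsg.quadFormPlus m F w = 0) → (Module.finrank F X = m ∧ ∀ w ∈ X, Cfsg.quadFormPlus m F w = 0) → Even ((m - Module.finrank F ↥(U ⊓ W)) + (m - Module.finrank F ↥(W ⊓ X)) + (m - Module.finrank F ↥(U ⊓ X)))) ∧ ∃ U W : Submodule F (Fin m ⊕ Fin m → F), (Module.finrank F U = m ∧ ∀ w ∈ U, Cfsg.quadFormPlus m F w = 0) ∧ (Module.finrank F W = m ∧ ∀ w ∈ W, Cfsg.quadFormPlus m F w = 0) ∧ Module.finrank F ↥(U ⊓ W) + 1 = m := by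
  constructor
  · intro U W X hU hW hX
    exact isQF_plus.parity' Bp_nondegenerate finrank_V hU hW hX
  · let w : Fin m ⊕ Fin m → F := Pi.single (Sum.inr ⟨0, hm⟩) 1
    have hw : Cfsg.quadFormPlus m F w = 0 := by
      unfold Cfsg.quadFormPlus
      apply Finset.sum_eq_zero
      intro i _
      simp [w]
    have hwL : w ∉ stdL m F := by
      intro hc
      have := (mem_stdL w).mp hc ⟨0, hm⟩
      simp [w] at this
    obtain ⟨h1, h2, _, _⟩ := isQF_plus.nbr_spec Bp_nondegenerate finrank_V stdL_mts hw hwL
    exact ⟨stdL m F, IsQF.nbr (Bp m F) (stdL m F) w, stdL_mts, h1, h2⟩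

end Cfsg.Agent.S0831
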