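import Cfsg.Statements.S2166
import Mathlib
import Cfsg.Agent.Lib.Helper36.Frame
import Cfsg.Agent.S2167

set_option autoImplicit false
open Cfsg

namespace Cfsg.Agent.S2166

open Matrix Module Cfsg.Agent.Helper36

universe u

section setup

variable {F : Type u} [Field F] [Fintype F] [CharP F 2] {m : ℕ}

/-- the symplectic form, bundled -/
noncomputable def Hs (m : ℕ) (F : Type u) [Field F] :
    (Fin m ⊕ Fin m → F) →ₗ[F] (Fin m ⊕ Fin m → F) →ₗ[F] F :=
  Matrix.toLinearMap₂' F (Matrix.J (Fin m) F)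

omit [Fintype F] [CharP F 2] in
theorem Hs_apply (u v : Fin m ⊕ Fin m → F) : Hs m F u v = u ⬝ᵥ (Matrix.J (Fin m) F *ᵥ v) :=
  Matrix.toLinearMap₂'_apply' _ _ _

omit [Fintype F] [CharP F 2] in
theorem Hs_eq_sympForm (u v : Fin m ⊕ Fin m → F) : Hs m F u v = Cfsg.sympForm m F u v :=
  Hs_apply u v

theorem Hs_self (v : Fin m ⊕ Fin m → F) : Hs m F v v = 0 := by
  rw [Hs_apply]; exact Cfsg.Agent.S2167.J_self v

theorem Hs_isHerm : IsHerm (σ := RingHom.id F) (Hs m F) := by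
  intro u v
  rw [RingHom.id_apply, Hs_apply, Hs_apply, Matrix.dotProduct_mulVec, ← Matrix.mulVec_transpose,
    Matrix.J_transpose, Matrix.neg_mulVec, neg_dotProduct, dotProduct_comm, Cfsg.Agent.S2167.neg_eq_self]

omit [Fintype F] [CharP F 2] in
theorem Hs_ker : LinearMap.ker (Hs m F) = ⊥ := by
  have h : (Matrix.toLinearMap₂' F (Matrix.J (Fin m) F)).SeparatingLeft :=
    LinearMap.separatingLeft_toLinearMap₂'_iff_det_ne_zero.mpr (Matrix.isUnit_det_J (Fin m) F).ne_zero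
  exact LinearMap.separatingLeft_iff_ker_eq_bot.mp h

/-- the square-zero map of an involution -/
noncomputable def Nmap (A : Matrix (Fin m ⊕ Fin m) (Fin m ⊕ Fin m) F) :
    (Fin m ⊕ Fin m → F) →ₗ[F] (Fin m ⊕ Fin m → F) := Matrix.toLin' (A - 1)

omit [Fintype F] in
theorem Nmap_sq (A : Matrix (Fin m ⊕ Fin m) (Fin m ⊕ Fin m) F) (hAA : A * A = 1) (x : Fin m ⊕ Fin m → F) :
    Nmap A (Nmap A x) = 0 := by
  have h2F : (2 : F) = 0 := CharP.cast_eq_zero F 2
  have h0 : (A - 1) * (A - 1) = 0 := by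
    rw [Matrix.sub_mul, Matrix.mul_sub, Matrix.mul_sub, hAA, Matrix.one_mul, Matrix.mul_one, Matrix.mul_one]
    have : (1 : Matrix (Fin m ⊕ Fin m) (Fin m ⊕ Fin m) F) - A - (A - 1) = (2 : F) • (1 - A) := by
      rw [two_smul]; abel
    rw [this, h2F, zero_smul]
  unfold Nmap
  rw [← LinearMap.comp_apply, ← Matrix.toLin'_mul, h0]
  simp

omit [Fintype F] [CharP F 2] in
theorem Nmap_apply (A : Matrix (Fin m ⊕ Fin m) (Fin m ⊕ Fin m) F) (x : Fin m ⊕ Fin m → F) :
    Nmap A x = A *ᵥ x - x := by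
  unfold Nmap
  rw [Matrix.toLin'_apply, Matrix.sub_mulVec, Matrix.one_mulVec]

/-- elements of the symplectic group preserve the form -/
theorem Hs_preserved (A : Matrix (Fin m ⊕ Fin m) (Fin m ⊕ Fin m) F)
    (hA : A ∈ Matrix.symplecticGroup (Fin m) F) (u v : Fin m ⊕ Fin m → F) :
    Hs m F (A *ᵥ u) (A *ᵥ v) = Hs m F u v := by
  have h1 : Aᵀ * Matrix.J (Fin m) F * A = Matrix.J (Fin m) F := SymplecticGroup.mem_iff'.mp hA
  rw [Hs_apply, Hs_apply, Matrix.mulVec_mulVec, ← Matrix.vecMul_transpose, ← Matrix.dotProduct_mulVec,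
    Matrix.mulVec_mulVec, ← Matrix.mul_assoc, h1]

theorem Nmap_adj (A : Matrix (Fin m ⊕ Fin m) (Fin m ⊕ Fin m) F)
    (hA : A ∈ Matrix.symplecticGroup (Fin m) F) (hAA : A * A = 1) (u v : Fin m ⊕ Fin m → F) :
    Hs m F (Nmap A u) v = Hs m F u (Nmap A v) := by
  have h1 : Hs m F (A *ᵥ u) v = Hs m F u (A *ᵥ v) := by
    have := Hs_preserved A hA (A *ᵥ u) v
    rw [Matrix.mulVec_mulVec, hAA, Matrix.one_mulVec] at this
    exact this.symm
  rw [Nmap_apply, Nmap_apply, map_sub, LinearMap.sub_apply, map_sub, h1]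

end setup


section frames

variable {F : Type u} [Field F] [Fintype F] [CharP F 2] {m : ℕ}

omit [Fintype F] [CharP F 2] in
/-- from symplectic relations to a standard family -/
theorem isStd_of_symplectic {V : Type*} [AddCommGroup V] [Module F V] {B : V →ₗ[F] V →ₗ[F] F}
    (hB : IsHerm (σ := RingHom.id F) B) {r : ℕ} (e f : Fin r → V)
    (h1 : ∀ i j, B (e i) (f j) = if i = j then 1 else 0) (h2 : ∀ i j, B (e i) (e j) = 0)
    (h3 : ∀ i j, B (f i) (f j) = 0) :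
    IsStd (σ := RingHom.id F) B Sum.swap (Sum.elim e f) := by
  rintro (i | i) (j | j)
  · simp [h2]
  · simp [h1, eq_comm]
  · have : B (f i) (e j) = B (e j) (f i) := hB (e j) (f i)
    simp [this, h1]
  · simp [h3]

theorem sp_frame_of_std (A : Matrix (Fin m ⊕ Fin m) (Fin m ⊕ Fin m) F)
    (hA : A ∈ Matrix.symplecticGroup (Fin m) F) (hAA : A * A = 1)
    {ι : Type} [Fintype ι] [DecidableEq ι] (ρ : ι → ℕ) (hρ : Function.Injective ρ) {τ : ι → ι}
    (hτ : ∀ i, τ (τ i) = i)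
    {x : ι → (Fin m ⊕ Fin m → F)} (hx : IsStd (kForm (Hs m F) (Nmap A)) τ x)
    (hcard : Fintype.card ι + finrank F (LinearMap.ker (Nmap A)) = finrank F (Fin m ⊕ Fin m → F)) :
    ∃ (r' : ℕ) (Z : ι ⊕ ((Fin r' ⊕ Fin r') ⊕ ι) → (Fin m ⊕ Fin m → F)),
      IsFrame (Hs m F) (Nmap A) τ (Sum.swap : Fin r' ⊕ Fin r' → Fin r' ⊕ Fin r') Z := by
  have hH := Hs_isHerm (F := F) (m := m)
  have hN2 := Nmap_sq A hAA
  have hadj := Nmap_adj A hA hAA
  have hT : ∀ v : Fin m ⊕ Fin m → F, ∃ β, β + (RingHom.id F) β = Hs m F v v := by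
    intro v
    exact ⟨0, by rw [Hs_self]; simp⟩
  obtain ⟨y, hy0, hyk⟩ := exists_isotropic_lift ρ hρ hH hN2 hadj hτ hx hT
  have hstd := pair_isStd hN2 hadj hy0 hyk
  set W := orthFam (Hs m F) (Sum.elim y (fun i => Nmap A (y i))) with hW
  have hker : finrank F (LinearMap.ker ((Hs m F).domRestrict₁₂ W W)) = 0 := by
    rw [hstd.finrank_ker_restrict (pairInv_invol hτ), Hs_ker, finrank_bot]
  obtain ⟨r', e', f', h1', h2', h3', hdim'⟩ := exists_symplectic_of_alt (finrank F W) W rfl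
    ((Hs m F).domRestrict₁₂ W W) (hH.restrict W) (fun w => Hs_self (w : Fin m ⊕ Fin m → F))
  have hw := isStd_of_symplectic (hH.restrict W) e' f' h1' h2' h3'
  have hwcard : Fintype.card (Fin r' ⊕ Fin r') = finrank F W := by
    rw [Fintype.card_sum, Fintype.card_fin]
    omega
  exact ⟨r', _, isFrame_of_families hH Hs_ker hN2 hadj hτ hy0 hyk hcard (Sum.elim e' f') hw hwcard⟩

end frames


section conj

variable {F : Type u} [Field F] [Fintype F] [CharP F 2] {m : ℕ}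

omit [Fintype F] [CharP F 2] in
theorem matrix_ext_bilin {n : Type} [Fintype n] [DecidableEq n] (M₁ M₂ : Matrix n n F)
    (h : ∀ u v : n → F, u ⬝ᵥ (M₁ *ᵥ v) = u ⬝ᵥ (M₂ *ᵥ v)) : M₁ = M₂ := by
  ext i j
  have := h (Pi.single i 1) (Pi.single j 1)
  simpa using this

/-- frames of the same shape give a conjugating symplectic matrix -/
theorem sp_conj_of_frames (A B : Matrix (Fin m ⊕ Fin m) (Fin m ⊕ Fin m) F)
    {ι : Type} [Fintype ι] [DecidableEq ι] {ι' : Type} [Fintype ι'] [DecidableEq ι']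
    {τ : ι → ι} (hτ : ∀ i, τ (τ i) = i) {τ' : ι' → ι'} (hτ' : ∀ i, τ' (τ' i) = i)
    {Z₁ Z₂ : ι ⊕ (ι' ⊕ ι) → (Fin m ⊕ Fin m → F)}
    (h₁ : IsFrame (Hs m F) (Nmap A) τ τ' Z₁) (h₂ : IsFrame (Hs m F) (Nmap B) τ τ' Z₂) :
    ∃ G : Matrix (Fin m ⊕ Fin m) (Fin m ⊕ Fin m) F, G ∈ Matrix.symplecticGroup (Fin m) F ∧
      G * A = B * G := by
  obtain ⟨g, hg1, hg2⟩ := exists_isometry_of_frames hτ hτ' h₁ h₂
  set G := LinearMap.toMatrix' g.toLinearMap with hG
  have hGv : ∀ v, G *ᵥ v = g v := by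
    intro v
    rw [hG, LinearMap.toMatrix'_mulVec]; rfl
  refine ⟨G, ?_, ?_⟩
  · rw [SymplecticGroup.mem_iff']
    apply matrix_ext_bilin
    intro u v
    have := hg1 u v
    rw [Hs_apply, Hs_apply, ← hGv, ← hGv] at this
    rw [← this, Matrix.mul_assoc, ← Matrix.mulVec_mulVec, ← Matrix.mulVec_mulVec, Matrix.dotProduct_mulVec,
      Matrix.vecMul_transpose]
  · have h1 : G * (A - 1) = (B - 1) * G := by
      apply Matrix.toLin'.injective
      rw [Matrix.toLin'_mul, Matrix.toLin'_mul, hG, Matrix.toLin'_toMatrix']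
      apply LinearMap.ext
      intro x
      simp only [LinearMap.comp_apply, LinearEquiv.coe_coe]
      exact hg2 x
    rw [Matrix.mul_sub, Matrix.sub_mul, Matrix.mul_one, Matrix.one_mul] at h1
    exact sub_left_injective h1

end conj


section main

variable {F : Type u} [Field F] [Fintype F] [CharP F 2] {m : ℕ}

theorem kForm_self (A : Matrix (Fin m ⊕ Fin m) (Fin m ⊕ Fin m) F)
    (hA : A ∈ Matrix.symplecticGroup (Fin m) F) (hAA : A * A = 1) (v : Fin m ⊕ Fin m → F) :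
    kForm (Hs m F) (Nmap A) v v = Cfsg.sympForm m F v (A *ᵥ v) := by
  rw [kForm_apply, Nmap_adj A hA hAA, Nmap_apply, map_sub, Hs_self, sub_zero, Hs_eq_sympForm]

omit [Fintype F] [CharP F 2] in
theorem rank_add_ker (A : Matrix (Fin m ⊕ Fin m) (Fin m ⊕ Fin m) F) :
    (A - 1).rank + finrank F (LinearMap.ker (Nmap A)) = finrank F (Fin m ⊕ Fin m → F) :=
  LinearMap.finrank_range_add_finrank_ker (Nmap A)

theorem frame_alt (A : Matrix (Fin m ⊕ Fin m) (Fin m ⊕ Fin m) F)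
    (hA : A ∈ Matrix.symplecticGroup (Fin m) F) (hAA : A * A = 1)
    (halt : ∀ v, Cfsg.sympForm m F v (A *ᵥ v) = 0) :
    ∃ (r r' : ℕ) (Z : (Fin r ⊕ Fin r) ⊕ ((Fin r' ⊕ Fin r') ⊕ (Fin r ⊕ Fin r)) → (Fin m ⊕ Fin m → F)),
      r + r = (A - 1).rank ∧
      IsFrame (Hs m F) (Nmap A) (Sum.swap : Fin r ⊕ Fin r → Fin r ⊕ Fin r)
        (Sum.swap : Fin r' ⊕ Fin r' → Fin r' ⊕ Fin r') Z := by
  have hkH := kForm_isHerm (Hs_isHerm (F := F) (m := m)) (Nmap_adj A hA hAA)
  have hkalt : ∀ v, kForm (Hs m F) (Nmap A) v v = 0 := fun v => by rw [kForm_self A hA hAA, halt]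
  obtain ⟨r, e, f, h1, h2, h3, hdim⟩ := exists_symplectic_of_alt (finrank F (Fin m ⊕ Fin m → F))
    (Fin m ⊕ Fin m → F) rfl (kForm (Hs m F) (Nmap A)) hkH hkalt
  rw [kForm_ker Hs_ker] at hdim
  have hx := isStd_of_symplectic hkH e f h1 h2 h3
  have hrk := rank_add_ker A
  have hcard : Fintype.card (Fin r ⊕ Fin r) + finrank F (LinearMap.ker (Nmap A)) =
      finrank F (Fin m ⊕ Fin m → F) := by
    rw [Fintype.card_sum, Fintype.card_fin]; exact hdim
  have hρ : Function.Injective (Sum.elim (fun i : Fin r => i.val) (fun i : Fin r => r + i.val)) := by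
    rintro (i | i) (j | j) h
    · simp only [Sum.elim_inl] at h
      rw [Fin.ext h]
    · simp only [Sum.elim_inl, Sum.elim_inr] at h
      have := i.isLt; omega
    · simp only [Sum.elim_inl, Sum.elim_inr] at h
      have := j.isLt; omega
    · simp only [Sum.elim_inr] at h
      have : i.val = j.val := by omega
      rw [Fin.ext this]
  obtain ⟨r', Z, hZ⟩ := sp_frame_of_std A hA hAA _ hρ Sum.swap_swap hx hcard
  exact ⟨r, r', Z, by omega, hZ⟩

theorem frame_nonalt (A : Matrix (Fin m ⊕ Fin m) (Fin m ⊕ Fin m) F)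
    (hA : A ∈ Matrix.symplecticGroup (Fin m) F) (hAA : A * A = 1)
    (hna : ∃ v, Cfsg.sympForm m F v (A *ᵥ v) ≠ 0) :
    ∃ (ℓ r' : ℕ) (Z : Fin ℓ ⊕ ((Fin r' ⊕ Fin r') ⊕ Fin ℓ) → (Fin m ⊕ Fin m → F)),
      ℓ = (A - 1).rank ∧
      IsFrame (Hs m F) (Nmap A) (id : Fin ℓ → Fin ℓ)
        (Sum.swap : Fin r' ⊕ Fin r' → Fin r' ⊕ Fin r') Z := by
  have hkH := kForm_isHerm (Hs_isHerm (F := F) (m := m)) (Nmap_adj A hA hAA)
  have hkna : ∃ v, kForm (Hs m F) (Nmap A) v v ≠ 0 := by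
    obtain ⟨v, hv⟩ := hna
    exact ⟨v, by rw [kForm_self A hA hAA]; exact hv⟩
  have hperf : ∀ a : F, ∃ s, s * s = a := by
    intro a
    obtain ⟨s, hs⟩ := surjective_frobenius F 2 a
    exact ⟨s, by rw [← hs, frobenius_def, pow_two]⟩
  obtain ⟨ℓ, x, hx, hdim⟩ := exists_orthonormal_of_symm hperf (finrank F (Fin m ⊕ Fin m → F))
    (Fin m ⊕ Fin m → F) rfl (kForm (Hs m F) (Nmap A)) hkH hkna
  rw [kForm_ker Hs_ker] at hdim
  have hrk := rank_add_ker A
  have hcard : Fintype.card (Fin ℓ) + finrank F (LinearMap.ker (Nmap A)) =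
      finrank F (Fin m ⊕ Fin m → F) := by
    rw [Fintype.card_fin]; exact hdim
  obtain ⟨r', Z, hZ⟩ := sp_frame_of_std A hA hAA (fun i : Fin ℓ => i.val) Fin.val_injective
    (fun _ => rfl) hx hcard
  exact ⟨ℓ, r', Z, by omega, hZ⟩


/-- the conjugacy criterion at the level of matrices -/
theorem conj_of_data (A B : Matrix (Fin m ⊕ Fin m) (Fin m ⊕ Fin m) F)
    (hA : A ∈ Matrix.symplecticGroup (Fin m) F) (hAA : A * A = 1)
    (hB : B ∈ Matrix.symplecticGroup (Fin m) F) (hBB : B * B = 1)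
    (hrank : (A - 1).rank = (B - 1).rank)
    (htype : (∀ v, Cfsg.sympForm m F v (A *ᵥ v) = 0) ↔ (∀ v, Cfsg.sympForm m F v (B *ᵥ v) = 0)) :
    ∃ G : Matrix (Fin m ⊕ Fin m) (Fin m ⊕ Fin m) F, G ∈ Matrix.symplecticGroup (Fin m) F ∧
      G * A = B * G := by
  by_cases hPA : ∀ v, Cfsg.sympForm m F v (A *ᵥ v) = 0
  · have hPB := htype.mp hPA
    obtain ⟨ra, ra', Za, ha1, hfa⟩ := frame_alt A hA hAA hPA
    obtain ⟨rb, rb', Zb, hb1, hfb⟩ := frame_alt B hB hBB hPB
    have e1 : ra = rb := by omega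
    subst e1
    have e2 : ra' = rb' := by
      have c1 := hfa.card
      have c2 := hfb.card
      simp only [Fintype.card_sum, Fintype.card_fin] at c1 c2
      omega
    subst e2
    exact sp_conj_of_frames A B Sum.swap_swap Sum.swap_swap hfa hfb
  · have hPB : ¬ ∀ v, Cfsg.sympForm m F v (B *ᵥ v) = 0 := fun h => hPA (htype.mpr h)
    push Not at hPA hPB
    obtain ⟨ra, ra', Za, ha1, hfa⟩ := frame_nonalt A hA hAA hPA
    obtain ⟨rb, rb', Zb, hb1, hfb⟩ := frame_nonalt B hB hBB hPB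
    have e1 : ra = rb := by omega
    subst e1
    have e2 : ra' = rb' := by
      have c1 := hfa.card
      have c2 := hfb.card
      simp only [Fintype.card_sum, Fintype.card_fin] at c1 c2
      omega
    subst e2
    exact sp_conj_of_frames A B (fun _ => rfl) Sum.swap_swap hfa hfb

/-- alternating type forces even rank -/
theorem even_rank_of_alt (A : Matrix (Fin m ⊕ Fin m) (Fin m ⊕ Fin m) F)
    (hA : A ∈ Matrix.symplecticGroup (Fin m) F) (hAA : A * A = 1)
    (halt : ∀ v, Cfsg.sympForm m F v (A *ᵥ v) = 0) : Even (A - 1).rank := by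
  obtain ⟨r, r', Z, h1, _⟩ := frame_alt A hA hAA halt
  exact ⟨r, h1.symm⟩

theorem card_eq_iff (A : Matrix (Fin m ⊕ Fin m) (Fin m ⊕ Fin m) F) :
    Nat.card {v : Fin m ⊕ Fin m → F // Cfsg.sympForm m F v (A *ᵥ v) = 0} =
      Nat.card (Fin m ⊕ Fin m → F) ↔ ∀ v, Cfsg.sympForm m F v (A *ᵥ v) = 0 := by
  classical
  constructor
  · intro h
    by_contra hne
    push Not at hne
    obtain ⟨v, hv⟩ := hne
    have := Fintype.card_subtype_lt (p := fun v : Fin m ⊕ Fin m → F => Cfsg.sympForm m F v (A *ᵥ v) = 0) hv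
    rw [Nat.card_eq_fintype_card, Nat.card_eq_fintype_card] at h
    omega
  · intro h
    exact Nat.card_congr (Equiv.subtypeUnivEquiv h)

end main

/-- Conjugacy of involutions in the symplectic group Sp_{2m}(F), F a finite field of characteristic two, m ≥ 2 (Sp taken as the matrices A with A J Aᵀ = J, acting on column vectors, with the alternating form f(u, v) = u ⬝ (J v)). For an involution t write V(t) for the set of vectors v with f(v, t v) = 0 (a subspace). Two involutions a, b are conjugate in Sp_{2m}(F) exactly when a − 1 and b − 1 have the same rank and, in case that rank is even, V(a) and V(b) have the same number of elements. -/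
theorem result {F : Type*} [Field F] [Fintype F] [CharP F 2] {m : ℕ} (hm : 2 ≤ m) (a b : ↥(Matrix.symplecticGroup (Fin m) F)) (ha : orderOf a = 2) (hb : orderOf b = 2) :
    IsConj a b ↔ ((((a : ↥(Matrix.symplecticGroup (Fin m) F)) : Matrix (Fin m ⊕ Fin m) (Fin m ⊕ Fin m) F) - 1).rank = (((b : ↥(Matrix.symplecticGroup (Fin m) F)) : Matrix (Fin m ⊕ Fin m) (Fin m ⊕ Fin m) F) - 1).rank ∧
      (Even (((a : ↥(Matrix.symplecticGroup (Fin m) F)) : Matrix (Fin m ⊕ Fin m) (Fin m ⊕ Fin m) F) - 1).rank → Nat.card {v : Fin m ⊕ Fin m → F // Cfsg.sympForm m F v (Matrix.mulVec ((a : ↥(Matrix.symplecticGroup (Fin m) F)) : Matrix (Fin m ⊕ Fin m) (Fin m ⊕ Fin m) F) v) = 0} = Nat.card {v : Fin m ⊕ Fin m → F // Cfsg.sympForm m F v (Matrix.mulVec ((b : ↥(Matrix.symplecticGroup (Fin m) F)) : Matrix (Fin m ⊕ Fin m) (Fin m ⊕ Fin m) F) v) = 0})) := by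
  set A : Matrix (Fin m ⊕ Fin m) (Fin m ⊕ Fin m) F := (a : Matrix (Fin m ⊕ Fin m) (Fin m ⊕ Fin m) F) with hAdef
  set B : Matrix (Fin m ⊕ Fin m) (Fin m ⊕ Fin m) F := (b : Matrix (Fin m ⊕ Fin m) (Fin m ⊕ Fin m) F) with hBdef
  have hA : A ∈ Matrix.symplecticGroup (Fin m) F := a.2
  have hB : B ∈ Matrix.symplecticGroup (Fin m) F := b.2
  have hsq : ∀ c : ↥(Matrix.symplecticGroup (Fin m) F), orderOf c = 2 →
      (c : Matrix (Fin m ⊕ Fin m) (Fin m ⊕ Fin m) F) * (c : Matrix (Fin m ⊕ Fin m) (Fin m ⊕ Fin m) F) = 1 := by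
    intro c hc
    have h := pow_orderOf_eq_one c
    rw [hc, pow_two] at h
    have h' := congrArg (fun x : ↥(Matrix.symplecticGroup (Fin m) F) => (x : Matrix (Fin m ⊕ Fin m) (Fin m ⊕ Fin m) F)) h
    simpa using h'
  have hAA : A * A = 1 := hsq a ha
  have hBB : B * B = 1 := hsq b hb
  constructor
  · intro hconj
    obtain ⟨c, hc⟩ := isConj_iff.mp hconj
    set C : Matrix (Fin m ⊕ Fin m) (Fin m ⊕ Fin m) F := (c : Matrix (Fin m ⊕ Fin m) (Fin m ⊕ Fin m) F) with hCdef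
    set C' : Matrix (Fin m ⊕ Fin m) (Fin m ⊕ Fin m) F := ((c⁻¹ : ↥(Matrix.symplecticGroup (Fin m) F)) : Matrix (Fin m ⊕ Fin m) (Fin m ⊕ Fin m) F) with hC'def
    have hCC' : C * C' = 1 := by
      have h : ((c * c⁻¹ : ↥(Matrix.symplecticGroup (Fin m) F)) : Matrix (Fin m ⊕ Fin m) (Fin m ⊕ Fin m) F) = ((1 : ↥(Matrix.symplecticGroup (Fin m) F)) : Matrix (Fin m ⊕ Fin m) (Fin m ⊕ Fin m) F) := by
        rw [mul_inv_cancel]
      simpa only [Submonoid.coe_mul, Submonoid.coe_one] using h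
    have hC'C : C' * C = 1 := by
      have h : ((c⁻¹ * c : ↥(Matrix.symplecticGroup (Fin m) F)) : Matrix (Fin m ⊕ Fin m) (Fin m ⊕ Fin m) F) = ((1 : ↥(Matrix.symplecticGroup (Fin m) F)) : Matrix (Fin m ⊕ Fin m) (Fin m ⊕ Fin m) F) := by
        rw [inv_mul_cancel]
      simpa only [Submonoid.coe_mul, Submonoid.coe_one] using h
    have hcab : C * A * C' = B := by
      have h := congrArg (fun x : ↥(Matrix.symplecticGroup (Fin m) F) => (x : Matrix (Fin m ⊕ Fin m) (Fin m ⊕ Fin m) F)) hc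
      simpa using h
    have hCA : C * A = B * C := by
      rw [← hcab, Matrix.mul_assoc, Matrix.mul_assoc, hC'C, Matrix.mul_one]
    have hdC : IsUnit C.det := by
      apply IsUnit.of_mul_eq_one (C'.det)
      rw [← Matrix.det_mul, hCC', Matrix.det_one]
    have hdC' : IsUnit C'.det := by
      apply IsUnit.of_mul_eq_one (C.det)
      rw [← Matrix.det_mul, hC'C, Matrix.det_one]
    constructor
    · have hb1 : B - 1 = C * (A - 1) * C' := by
        rw [Matrix.mul_sub, Matrix.sub_mul, Matrix.mul_one, hCC', hcab]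
      rw [hb1, Matrix.rank_mul_eq_left_of_isUnit_det _ _ hdC', Matrix.rank_mul_eq_right_of_isUnit_det _ _ hdC]
    · intro _
      apply Nat.card_congr
      refine Equiv.subtypeEquiv ⟨fun v => C *ᵥ v, fun v => C' *ᵥ v, fun v => ?_, fun v => ?_⟩ (fun v => ?_)
      · show C' *ᵥ (C *ᵥ v) = v
        rw [Matrix.mulVec_mulVec, hC'C, Matrix.one_mulVec]
      · show C *ᵥ (C' *ᵥ v) = v
        rw [Matrix.mulVec_mulVec, hCC', Matrix.one_mulVec]
      · show _ ↔ Cfsg.sympForm m F (C *ᵥ v) (B *ᵥ (C *ᵥ v)) = 0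
        rw [Matrix.mulVec_mulVec, ← hCA, ← Matrix.mulVec_mulVec, ← Hs_eq_sympForm, ← Hs_eq_sympForm,
          Hs_preserved C c.2]
  · rintro ⟨hrank, hcard⟩
    have htype : (∀ v, Cfsg.sympForm m F v (A *ᵥ v) = 0) ↔ (∀ v, Cfsg.sympForm m F v (B *ᵥ v) = 0) := by
      constructor
      · intro hPA
        have hev := even_rank_of_alt A hA hAA hPA
        have hc := hcard hev
        rw [← card_eq_iff, ← hc, card_eq_iff]
        exact hPA
      · intro hPB
        have hev := even_rank_of_alt B hB hBB hPB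
        rw [← hrank] at hev
        have hc := hcard hev
        rw [← card_eq_iff, hc, card_eq_iff]
        exact hPB
    obtain ⟨G, hG, hGA⟩ := conj_of_data A B hA hAA hB hBB hrank htype
    apply isConj_iff.mpr
    refine ⟨⟨G, hG⟩, ?_⟩
    rw [mul_inv_eq_iff_eq_mul]
    apply Subtype.ext
    exact hGA

end Cfsg.Agent.S2166
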