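import Cfsg.Statements.S2593
import Mathlib
import Cfsg.Agent.S2166
import Cfsg.Agent.Lib.Helper36.PlusOrth

set_option autoImplicit false
open Cfsg

namespace Cfsg.Agent.S2593

open Matrix Module Cfsg.Agent.Helper36 Cfsg.Agent.Helper36.PlusOrth Cfsg.Agent.S2168

universe u

variable {F : Type u} [Field F] [Fintype F] [CharP F 2] {m : ℕ}

omit [Fintype F] [CharP F 2] in
theorem uSp_mem (S : Matrix (Fin m) (Fin m) F) (hS : Sᵀ = S) :
    fromBlocks (1 : Matrix (Fin m) (Fin m) F) S 0 1 ∈ Matrix.symplecticGroup (Fin m) F := by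
  rw [SymplecticGroup.mem_iff, Matrix.J, fromBlocks_multiply, fromBlocks_transpose,
    fromBlocks_multiply]
  simp [hS]

/-- the symplectic unipotent element attached to a symmetric matrix -/
noncomputable def uSp (S : Matrix (Fin m) (Fin m) F) (hS : Sᵀ = S) :
    ↥(Matrix.symplecticGroup (Fin m) F) :=
  ⟨fromBlocks 1 S 0 1, uSp_mem S hS⟩

omit [Fintype F] in
theorem uSp_sq (S : Matrix (Fin m) (Fin m) F) (hS : Sᵀ = S) : uSp S hS * uSp S hS = 1 := by
  apply Subtype.ext
  exact uS_sq S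

omit [Fintype F] [CharP F 2] in
theorem rank_uSp (S : Matrix (Fin m) (Fin m) F) (hS : Sᵀ = S) :
    (((uSp S hS : ↥(Matrix.symplecticGroup (Fin m) F)) :
      Matrix (Fin m ⊕ Fin m) (Fin m ⊕ Fin m) F) - 1).rank = S.rank := by
  have : ((uSp S hS : ↥(Matrix.symplecticGroup (Fin m) F)) :
      Matrix (Fin m ⊕ Fin m) (Fin m ⊕ Fin m) F) - 1 = fromBlocks 0 S 0 0 := by
    show fromBlocks (1 : Matrix (Fin m) (Fin m) F) S 0 1 - 1 = fromBlocks 0 S 0 0
    rw [← fromBlocks_one, sub_eq_add_neg, fromBlocks_neg, fromBlocks_add]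
    simp
  rw [this, rank_fromBlocks_12]

omit [Fintype F] in
theorem type_uSp (S : Matrix (Fin m) (Fin m) F) (hS : Sᵀ = S) (v : Fin m ⊕ Fin m → F) :
    Cfsg.sympForm m F v (((uSp S hS : ↥(Matrix.symplecticGroup (Fin m) F)) :
      Matrix (Fin m ⊕ Fin m) (Fin m ⊕ Fin m) F) *ᵥ v) =
      (v ∘ Sum.inr) ⬝ᵥ (S *ᵥ (v ∘ Sum.inr)) := by
  rw [← Cfsg.Agent.S2166.Hs_eq_sympForm, Hs_eq_Bp]
  show Bp m F v (fromBlocks (1 : Matrix (Fin m) (Fin m) F) S 0 1 *ᵥ v) = _
  rw [fromBlocks_mulVec, Bp_eq_dot]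
  simp only [Sum.elim_comp_inl, Sum.elim_comp_inr, one_mulVec, zero_mulVec, zero_add,
    dotProduct_add]
  rw [dotProduct_comm (v ∘ Sum.inr) (v ∘ Sum.inl), ← add_assoc, char_two_add_self, zero_add]

/-- the diagonal 0/1 matrix with `i + 1` ones -/
def dmat (F : Type u) [Field F] (m : ℕ) (i : Fin m) : Matrix (Fin m) (Fin m) F :=
  Matrix.diagonal (fun j => if j ≤ i then 1 else 0)

omit [Fintype F] [CharP F 2] in
theorem dmat_symm (i : Fin m) : (dmat F m i)ᵀ = dmat F m i := Matrix.diagonal_transpose _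

omit [Fintype F] [CharP F 2] in
theorem dmat_rank (i : Fin m) : (dmat F m i).rank = i.val + 1 := by
  classical
  unfold dmat
  rw [Matrix.rank_diagonal, Fintype.card_subtype]
  have : (Finset.univ.filter (fun j : Fin m => (if j ≤ i then (1 : F) else 0) ≠ 0)) =
      Finset.Iic i := by
    ext j
    simp
  rw [this, Fin.card_Iic]

/-- the symmetric matrices used for the alternating classes -/
noncomputable def amat (F : Type u) [Field F] (m : ℕ) (j : Fin (m / 2)) :
    Matrix (Fin m) (Fin m) F :=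
  (exists_alt_rank (F := F) (m := m) (j.val + 1) (by have := j.isLt; omega)).choose

omit [Fintype F] [CharP F 2] in
theorem amat_rank (j : Fin (m / 2)) :
    (amat F m j + (amat F m j)ᵀ).rank = 2 * (j.val + 1) :=
  (exists_alt_rank (F := F) (m := m) (j.val + 1) (by have := j.isLt; omega)).choose_spec

omit [Fintype F] [CharP F 2] in
theorem amat_symm (j : Fin (m / 2)) :
    (amat F m j + (amat F m j)ᵀ)ᵀ = amat F m j + (amat F m j)ᵀ := by
  rw [transpose_add, transpose_transpose, add_comm]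

/-- the representatives of the classes of involutions -/
noncomputable def rep : Fin m ⊕ Fin (m / 2) → ↥(Matrix.symplecticGroup (Fin m) F)
  | Sum.inl i => uSp (dmat F m i) (dmat_symm i)
  | Sum.inr j => uSp (amat F m j + (amat F m j)ᵀ) (amat_symm j)

/-- the rank attached to an index -/
def rk : Fin m ⊕ Fin (m / 2) → ℕ
  | Sum.inl i => i.val + 1
  | Sum.inr j => 2 * (j.val + 1)

omit [Fintype F] [CharP F 2] in
theorem rank_rep (x : Fin m ⊕ Fin (m / 2)) :
    (((rep x : ↥(Matrix.symplecticGroup (Fin m) F)) :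
      Matrix (Fin m ⊕ Fin m) (Fin m ⊕ Fin m) F) - 1).rank = rk x := by
  rcases x with i | j
  · show (((uSp (dmat F m i) (dmat_symm i) : ↥(Matrix.symplecticGroup (Fin m) F)) :
      Matrix (Fin m ⊕ Fin m) (Fin m ⊕ Fin m) F) - 1).rank = i.val + 1
    rw [rank_uSp, dmat_rank]
  · show (((uSp (amat F m j + (amat F m j)ᵀ) (amat_symm j) :
      ↥(Matrix.symplecticGroup (Fin m) F)) :
      Matrix (Fin m ⊕ Fin m) (Fin m ⊕ Fin m) F) - 1).rank = 2 * (j.val + 1)
    rw [rank_uSp, amat_rank]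

omit [Fintype F] in
/-- the type of a representative -/
theorem type_rep (x : Fin m ⊕ Fin (m / 2)) :
    (∀ v, Cfsg.sympForm m F v (((rep x : ↥(Matrix.symplecticGroup (Fin m) F)) :
      Matrix (Fin m ⊕ Fin m) (Fin m ⊕ Fin m) F) *ᵥ v) = 0) ↔ ∃ j, x = Sum.inr j := by
  rcases x with i | j
  · constructor
    · intro h
      exfalso
      have h1 := h (Sum.elim 0 (Pi.single ⟨0, by have := i.isLt; omega⟩ 1))
      have h2 := type_uSp (dmat F m i) (dmat_symm i)
        (Sum.elim 0 (Pi.single ⟨0, by have := i.isLt; omega⟩ 1))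
      have h3 : (Cfsg.sympForm m F (Sum.elim 0 (Pi.single ⟨0, by have := i.isLt; omega⟩ 1))
          (((rep (Sum.inl i) : ↥(Matrix.symplecticGroup (Fin m) F)) :
            Matrix (Fin m ⊕ Fin m) (Fin m ⊕ Fin m) F) *ᵥ
            (Sum.elim 0 (Pi.single ⟨0, by have := i.isLt; omega⟩ 1)))) = 0 := h1
      have h4 : Cfsg.sympForm m F (Sum.elim 0 (Pi.single ⟨0, by have := i.isLt; omega⟩ 1))
          (((uSp (dmat F m i) (dmat_symm i) : ↥(Matrix.symplecticGroup (Fin m) F)) :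
            Matrix (Fin m ⊕ Fin m) (Fin m ⊕ Fin m) F) *ᵥ
            (Sum.elim 0 (Pi.single ⟨0, by have := i.isLt; omega⟩ 1))) = 0 := h3
      rw [h2] at h4
      simp only [Sum.elim_comp_inr, dmat] at h4
      rw [dotProduct_comm, dotProduct_single] at h4
      simp at h4
      exact Nat.not_lt_zero _ (Fin.lt_def.mp h4)
    · rintro ⟨j, hj⟩
      exact absurd hj (by simp)
  · constructor
    · intro _
      exact ⟨j, rfl⟩
    · intro _ v
      show Cfsg.sympForm m F v (((uSp (amat F m j + (amat F m j)ᵀ) (amat_symm j) :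
        ↥(Matrix.symplecticGroup (Fin m) F)) :
        Matrix (Fin m ⊕ Fin m) (Fin m ⊕ Fin m) F) *ᵥ v) = 0
      rw [type_uSp]
      exact isAlt_sym (amat F m j) _

theorem sq_of_order (g : ↥(Matrix.symplecticGroup (Fin m) F)) (hg : orderOf g = 2) :
    (g : Matrix (Fin m ⊕ Fin m) (Fin m ⊕ Fin m) F) *
      (g : Matrix (Fin m ⊕ Fin m) (Fin m ⊕ Fin m) F) = 1 := by
  have h := pow_orderOf_eq_one g
  rw [hg, pow_two] at h
  have h' := congrArg (fun x : ↥(Matrix.symplecticGroup (Fin m) F) =>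
    (x : Matrix (Fin m ⊕ Fin m) (Fin m ⊕ Fin m) F)) h
  simpa using h'

omit [Fintype F] in
theorem rank_le_of_sq (A : Matrix (Fin m ⊕ Fin m) (Fin m ⊕ Fin m) F) (hAA : A * A = 1) :
    (A - 1).rank ≤ m := by
  have h0 : (A - 1) * (A - 1) = 0 := by
    rw [sub_mul, mul_sub, hAA, mul_one, one_mul]
    ext i j
    have := char_two_add_self ((1 : Matrix (Fin m ⊕ Fin m) (Fin m ⊕ Fin m) F) i j - A i j)
    simp only [Matrix.sub_apply, Matrix.zero_apply]
    linear_combination this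
  have := rank_add_rank_le_card_of_mul_eq_zero h0
  rw [Fintype.card_sum, Fintype.card_fin] at this
  omega

omit [Fintype F] [CharP F 2] in
theorem rank_pos_of_order (g : ↥(Matrix.symplecticGroup (Fin m) F)) (hg : orderOf g = 2) :
    1 ≤ ((g : Matrix (Fin m ⊕ Fin m) (Fin m ⊕ Fin m) F) - 1).rank := by
  by_contra hcon
  have h0 : ((g : Matrix (Fin m ⊕ Fin m) (Fin m ⊕ Fin m) F) - 1).rank = 0 := by omega
  have h1 : (g : Matrix (Fin m ⊕ Fin m) (Fin m ⊕ Fin m) F) - 1 = 0 := by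
    have h2 : LinearMap.range ((g : Matrix (Fin m ⊕ Fin m) (Fin m ⊕ Fin m) F) - 1).mulVecLin = ⊥ :=
      Submodule.finrank_eq_zero.mp h0
    rw [LinearMap.range_eq_bot] at h2
    have h3 : Matrix.toLin' ((g : Matrix (Fin m ⊕ Fin m) (Fin m ⊕ Fin m) F) - 1) = 0 := h2
    have h4 := congrArg LinearMap.toMatrix' h3
    simpa using h4
  have h2 : g = 1 := by
    apply Subtype.ext
    exact sub_eq_zero.mp h1
  rw [h2, orderOf_one] at hg
  omega

/-- conjugate elements have the same rank and type -/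
theorem invariants_of_conj (a b : ↥(Matrix.symplecticGroup (Fin m) F)) (hconj : IsConj a b) :
    ((a : Matrix (Fin m ⊕ Fin m) (Fin m ⊕ Fin m) F) - 1).rank =
      ((b : Matrix (Fin m ⊕ Fin m) (Fin m ⊕ Fin m) F) - 1).rank ∧
    ((∀ v, Cfsg.sympForm m F v ((a : Matrix (Fin m ⊕ Fin m) (Fin m ⊕ Fin m) F) *ᵥ v) = 0) ↔
      (∀ v, Cfsg.sympForm m F v ((b : Matrix (Fin m ⊕ Fin m) (Fin m ⊕ Fin m) F) *ᵥ v) = 0)) := by
  obtain ⟨c, hc⟩ := isConj_iff.mp hconj
  set A : Matrix (Fin m ⊕ Fin m) (Fin m ⊕ Fin m) F := (a : Matrix (Fin m ⊕ Fin m) (Fin m ⊕ Fin m) F)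
  set B : Matrix (Fin m ⊕ Fin m) (Fin m ⊕ Fin m) F := (b : Matrix (Fin m ⊕ Fin m) (Fin m ⊕ Fin m) F)
  set C : Matrix (Fin m ⊕ Fin m) (Fin m ⊕ Fin m) F := (c : Matrix (Fin m ⊕ Fin m) (Fin m ⊕ Fin m) F)
  set C' : Matrix (Fin m ⊕ Fin m) (Fin m ⊕ Fin m) F :=
    ((c⁻¹ : ↥(Matrix.symplecticGroup (Fin m) F)) : Matrix (Fin m ⊕ Fin m) (Fin m ⊕ Fin m) F)
  have hCC' : C * C' = 1 := by
    have h : ((c * c⁻¹ : ↥(Matrix.symplecticGroup (Fin m) F)) :
        Matrix (Fin m ⊕ Fin m) (Fin m ⊕ Fin m) F) =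
        ((1 : ↥(Matrix.symplecticGroup (Fin m) F)) : Matrix (Fin m ⊕ Fin m) (Fin m ⊕ Fin m) F) := by
      rw [mul_inv_cancel]
    simpa only [Submonoid.coe_mul, Submonoid.coe_one] using h
  have hC'C : C' * C = 1 := by
    have h : ((c⁻¹ * c : ↥(Matrix.symplecticGroup (Fin m) F)) :
        Matrix (Fin m ⊕ Fin m) (Fin m ⊕ Fin m) F) =
        ((1 : ↥(Matrix.symplecticGroup (Fin m) F)) : Matrix (Fin m ⊕ Fin m) (Fin m ⊕ Fin m) F) := by
      rw [inv_mul_cancel]
    simpa only [Submonoid.coe_mul, Submonoid.coe_one] using h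
  have hcab : C * A * C' = B := by
    have h := congrArg (fun x : ↥(Matrix.symplecticGroup (Fin m) F) =>
      (x : Matrix (Fin m ⊕ Fin m) (Fin m ⊕ Fin m) F)) hc
    simpa using h
  have hCA : C * A = B * C := by
    rw [← hcab, Matrix.mul_assoc, Matrix.mul_assoc, hC'C, Matrix.mul_one]
  have hC'B : C' * B = A * C' := by
    rw [← hcab, ← Matrix.mul_assoc, ← Matrix.mul_assoc, hC'C, Matrix.one_mul]
  have hdC : IsUnit C.det := by
    apply IsUnit.of_mul_eq_one (C'.det)
    rw [← Matrix.det_mul, hCC', Matrix.det_one]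
  have hdC' : IsUnit C'.det := by
    apply IsUnit.of_mul_eq_one (C.det)
    rw [← Matrix.det_mul, hC'C, Matrix.det_one]
  constructor
  · have hb1 : B - 1 = C * (A - 1) * C' := by
      rw [Matrix.mul_sub, Matrix.sub_mul, Matrix.mul_one, hCC', hcab]
    rw [hb1, Matrix.rank_mul_eq_left_of_isUnit_det _ _ hdC',
      Matrix.rank_mul_eq_right_of_isUnit_det _ _ hdC]
  · constructor
    · intro h v
      have h1 := h (C' *ᵥ v)
      rw [Matrix.mulVec_mulVec, ← hC'B, ← Matrix.mulVec_mulVec,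
        ← Cfsg.Agent.S2166.Hs_eq_sympForm, Cfsg.Agent.S2166.Hs_preserved C' (c⁻¹).2] at h1
      rw [← Cfsg.Agent.S2166.Hs_eq_sympForm]
      exact h1
    · intro h v
      have h1 := h (C *ᵥ v)
      rw [Matrix.mulVec_mulVec, ← hCA, ← Matrix.mulVec_mulVec,
        ← Cfsg.Agent.S2166.Hs_eq_sympForm, Cfsg.Agent.S2166.Hs_preserved C c.2] at h1
      rw [← Cfsg.Agent.S2166.Hs_eq_sympForm]
      exact h1

omit [Fintype F] in
theorem rep_order (hm : 1 ≤ m) (x : Fin m ⊕ Fin (m / 2)) : orderOf (rep (F := F) x) = 2 := by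
  apply orderOf_eq_prime
  · rw [pow_two]
    rcases x with i | j
    · exact uSp_sq (dmat F m i) (dmat_symm i)
    · exact uSp_sq (amat F m j + (amat F m j)ᵀ) (amat_symm j)
  · intro h
    have h1 := rank_rep (F := F) x
    rw [h] at h1
    have h2 : rk x ≠ 0 := by
      rcases x with i | j <;> simp [rk]
    apply h2
    rw [← h1]
    simp

/-- every involution is conjugate to a representative -/
theorem exists_rep (g : ↥(Matrix.symplecticGroup (Fin m) F)) (hg : orderOf g = 2) :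
    ∃ x : Fin m ⊕ Fin (m / 2), IsConj (rep x) g := by
  have hAA := sq_of_order g hg
  have hle := rank_le_of_sq _ hAA
  have hpos := rank_pos_of_order g hg
  have key : ∀ x : Fin m ⊕ Fin (m / 2),
      rk x = ((g : Matrix (Fin m ⊕ Fin m) (Fin m ⊕ Fin m) F) - 1).rank →
      ((∃ j, x = Sum.inr j) ↔
        (∀ v, Cfsg.sympForm m F v ((g : Matrix (Fin m ⊕ Fin m) (Fin m ⊕ Fin m) F) *ᵥ v) = 0)) →
      IsConj (rep x) g := by
    intro x hx1 hx2
    have hxx : ((rep (F := F) x : ↥(Matrix.symplecticGroup (Fin m) F)) :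
        Matrix (Fin m ⊕ Fin m) (Fin m ⊕ Fin m) F) *
        ((rep (F := F) x : ↥(Matrix.symplecticGroup (Fin m) F)) :
        Matrix (Fin m ⊕ Fin m) (Fin m ⊕ Fin m) F) = 1 := by
      rcases x with i | j
      · exact uS_sq _
      · exact uS_sq _
    obtain ⟨G, hG, hGA⟩ := Cfsg.Agent.S2166.conj_of_data _ _ (rep x).2 hxx g.2 hAA
      (by rw [rank_rep, hx1]) ((type_rep x).trans hx2)
    apply isConj_iff.mpr
    refine ⟨⟨G, hG⟩, ?_⟩
    rw [mul_inv_eq_iff_eq_mul]
    apply Subtype.ext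
    exact hGA
  by_cases halt : ∀ v, Cfsg.sympForm m F v
      ((g : Matrix (Fin m ⊕ Fin m) (Fin m ⊕ Fin m) F) *ᵥ v) = 0
  · obtain ⟨k, hk⟩ := Cfsg.Agent.S2166.even_rank_of_alt _ g.2 hAA halt
    have hk1 : 1 ≤ k := by omega
    refine ⟨Sum.inr ⟨k - 1, by omega⟩, key _ ?_ ?_⟩
    · show 2 * (k - 1 + 1) = _
      omega
    · exact ⟨fun _ => halt, fun _ => ⟨_, rfl⟩⟩
  · refine ⟨Sum.inl ⟨((g : Matrix (Fin m ⊕ Fin m) (Fin m ⊕ Fin m) F) - 1).rank - 1, by omega⟩,
      key _ ?_ ?_⟩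
    · show ((g : Matrix (Fin m ⊕ Fin m) (Fin m ⊕ Fin m) F) - 1).rank - 1 + 1 = _
      omega
    · constructor
      · rintro ⟨j, hj⟩
        exact absurd hj (by simp)
      · intro h
        exact absurd h halt

theorem rep_injective (x y : Fin m ⊕ Fin (m / 2)) (h : IsConj (rep (F := F) x) (rep y)) :
    x = y := by
  obtain ⟨h1, h2⟩ := invariants_of_conj _ _ h
  rw [rank_rep, rank_rep] at h1
  rw [type_rep, type_rep] at h2
  rcases x with i | j <;> rcases y with i' | j'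
  · simp only [rk] at h1
    congr 1
    exact Fin.ext (by omega)
  · exfalso
    have := h2.mpr ⟨j', rfl⟩
    obtain ⟨j, hj⟩ := this
    exact absurd hj (by simp)
  · exfalso
    have := h2.mp ⟨j, rfl⟩
    obtain ⟨j', hj'⟩ := this
    exact absurd hj' (by simp)
  · simp only [rk] at h1
    congr 1
    exact Fin.ext (by omega)

/-- Number of conjugacy classes of involutions in the symplectic group Sp_2m(F) over a finite field of characteristic two (m ≥ 1): for each s with 1 ≤ s ≤ m there is one class with rank(t − 1) = s if s is odd and two if s is even (according as v ↦ f(v, tv), f the symplectic form, vanishes identically or not), so m + ⌊m/2⌋ classes in all. -/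
theorem result {F : Type*} [Field F] [Fintype F] [CharP F 2] {m : ℕ} (hm : 1 ≤ m) : Nat.card {C : ConjClasses ↥(Matrix.symplecticGroup (Fin m) F) // ∃ g : Matrix.symplecticGroup (Fin m) F, ConjClasses.mk g = C ∧ orderOf g = 2} = m + m / 2 := by
  let Φ : Fin m ⊕ Fin (m / 2) → {C : ConjClasses ↥(Matrix.symplecticGroup (Fin m) F) //
      ∃ g : Matrix.symplecticGroup (Fin m) F, ConjClasses.mk g = C ∧ orderOf g = 2} :=
    fun x => ⟨ConjClasses.mk (rep x), rep x, rfl, rep_order hm x⟩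
  have hbij : Function.Bijective Φ := by
    constructor
    · intro x y hxy
      have h1 : ConjClasses.mk (rep (F := F) x) = ConjClasses.mk (rep y) :=
        congrArg Subtype.val hxy
      exact rep_injective x y (ConjClasses.mk_eq_mk_iff_isConj.mp h1)
    · rintro ⟨C, g, rfl, hg⟩
      obtain ⟨x, hx⟩ := exists_rep g hg
      refine ⟨x, ?_⟩
      apply Subtype.ext
      exact ConjClasses.mk_eq_mk_iff_isConj.mpr hx
  rw [← Nat.card_congr (Equiv.ofBijective Φ hbij), Nat.card_eq_fintype_card, Fintype.card_sum,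
    Fintype.card_fin, Fintype.card_fin]

end Cfsg.Agent.S2593
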