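import Cfsg.Statements.S2595
import Mathlib
import Cfsg.Agent.S2593
import Cfsg.Agent.Lib.Helper36.PlusOrth

set_option autoImplicit false
open Cfsg

namespace Cfsg.Agent.S2595

open Matrix Module Cfsg.Agent.Helper36 Cfsg.Agent.Helper36.PlusOrth Cfsg.Agent.S2168
  Cfsg.Agent.S2593

universe u

variable {F : Type u} [Field F] [Fintype F] [CharP F 2] {m : ℕ}

omit [Fintype F] in
theorem symp_eq_Bp (x : OPlus m F) (v : Fin m ⊕ Fin m → F) :
    Cfsg.sympForm m F v ((x.1 : Matrix (Fin m ⊕ Fin m) (Fin m ⊕ Fin m) F) *ᵥ v) =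
      Bp m F v (actHom m F x v) := by
  rw [← Cfsg.Agent.S2166.Hs_eq_sympForm, Hs_eq_Bp, actHom_apply]

/-- involutions of the same rank and type are conjugate in `O⁺`, any `m ≥ 1` -/
theorem conjO1 (hm : 1 ≤ m) (s t : OPlus m F) (hs : s * s = 1) (ht : t * t = 1)
    (hrank : ((s.1 : Matrix (Fin m ⊕ Fin m) (Fin m ⊕ Fin m) F) - 1).rank =
      ((t.1 : Matrix (Fin m ⊕ Fin m) (Fin m ⊕ Fin m) F) - 1).rank)
    (htype : (∀ v, Bp m F v (actHom m F s v) = 0) ↔ (∀ v, Bp m F v (actHom m F t v) = 0)) :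
    IsConj s t := by
  have htype' : (∀ v, Cfsg.sympForm m F v
        ((s.1 : Matrix (Fin m ⊕ Fin m) (Fin m ⊕ Fin m) F) *ᵥ v) = 0) ↔
      (∀ v, Cfsg.sympForm m F v
        ((t.1 : Matrix (Fin m ⊕ Fin m) (Fin m ⊕ Fin m) F) *ᵥ v) = 0) := by
    simp only [symp_eq_Bp]
    exact htype
  obtain ⟨G, hG, hGAB⟩ := Cfsg.Agent.S2166.conj_of_data _ _ (mem_sp s) (coe_mul_self s hs)
    (mem_sp t) (coe_mul_self t ht) hrank htype'
  have hdet : IsUnit G.det := SymplecticGroup.symplectic_det hG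
  have hGu : IsUnit G := (Matrix.isUnit_iff_isUnit_det G).mpr hdet
  set g : GL (Fin m ⊕ Fin m) F := hGu.unit with hg
  have hgG : (g : Matrix (Fin m ⊕ Fin m) (Fin m ⊕ Fin m) F) = G := IsUnit.unit_spec hGu
  have hconj : g * (s : GL (Fin m ⊕ Fin m) F) * g⁻¹ = (t : GL (Fin m ⊕ Fin m) F) := by
    rw [mul_inv_eq_iff_eq_mul]
    apply Units.ext
    rw [Units.val_mul, Units.val_mul, hgG]
    exact hGAB
  have hg' : ∀ u v, Bp m F ((g : Matrix (Fin m ⊕ Fin m) (Fin m ⊕ Fin m) F).mulVec u)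
      ((g : Matrix (Fin m ⊕ Fin m) (Fin m ⊕ Fin m) F).mulVec v) = Bp m F u v := by
    intro u v
    rw [hgG, ← Hs_eq_Bp, ← Hs_eq_Bp]
    exact Cfsg.Agent.S2166.Hs_preserved G hG u v
  have hss : (s : GL (Fin m ⊕ Fin m) F) * (s : GL (Fin m ⊕ Fin m) F) = 1 := by
    have h' := congrArg (fun x : OPlus m F => (x : GL (Fin m ⊕ Fin m) F)) hs
    simpa using h'
  have hs' : ∀ v, Cfsg.quadFormPlus m F
      (((g * (s : GL (Fin m ⊕ Fin m) F) * g⁻¹ : GL (Fin m ⊕ Fin m) F) :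
        Matrix (Fin m ⊕ Fin m) (Fin m ⊕ Fin m) F).mulVec v) = Cfsg.quadFormPlus m F v := by
    rw [hconj]
    exact (mem_O_iff _).mp t.2
  obtain ⟨k, hk1, hk2⟩ := exists_isometry_conj_GL isQuad_plus Bp_nondeg (count_ne_plus hm)
    (s : GL (Fin m ⊕ Fin m) F) g ((mem_O_iff _).mp s.2) hss hg' hs'
  apply isConj_iff.mpr
  refine ⟨⟨k, (mem_O_iff _).mpr hk1⟩, ?_⟩
  apply Subtype.ext
  rw [← hconj, ← hk2]
  rfl

/-- the matrix of the partial swap -/
def pM (D : Matrix (Fin m) (Fin m) F) : Matrix (Fin m ⊕ Fin m) (Fin m ⊕ Fin m) F :=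
  fromBlocks (1 + D) D D (1 + D)

omit [Fintype F] in
theorem pM_sq (D : Matrix (Fin m) (Fin m) F) : pM D * pM D = 1 := by
  unfold pM
  rw [fromBlocks_multiply, ← fromBlocks_one]
  have h1 := mat_add_self D
  have h2 := mat_add_self (D * D)
  have e1 : (1 + D) * (1 + D) + D * D = 1 := by
    rw [add_mul, mul_add, mul_add, one_mul, mul_one, one_mul]
    calc 1 + D + (D + D * D) + D * D = 1 + (D + D) + (D * D + D * D) := by abel
      _ = 1 := by rw [h1, h2]; simp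
  have e2 : (1 + D) * D + D * (1 + D) = 0 := by
    rw [add_mul, mul_add, one_mul, mul_one]
    calc D + D * D + (D + D * D) = (D + D) + (D * D + D * D) := by abel
      _ = 0 := by rw [h1, h2]; simp
  have e3 : D * (1 + D) + (1 + D) * D = 0 := by rw [add_comm]; exact e2
  have e4 : D * D + (1 + D) * (1 + D) = 1 := by rw [add_comm]; exact e1
  rw [e1, e2, e3, e4]

omit [Fintype F] [CharP F 2] in
theorem sym_dot (D : Matrix (Fin m) (Fin m) F) (hDs : Dᵀ = D) (a b : Fin m → F) :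
    (D *ᵥ a) ⬝ᵥ b = a ⬝ᵥ (D *ᵥ b) := by
  rw [Matrix.dotProduct_mulVec, ← Matrix.vecMul_transpose, hDs]

omit [Fintype F] in
theorem pM_Q (D : Matrix (Fin m) (Fin m) F) (hDs : Dᵀ = D) (hDD : D * D = D)
    (v : Fin m ⊕ Fin m → F) :
    Cfsg.quadFormPlus m F (pM D *ᵥ v) = Cfsg.quadFormPlus m F v := by
  unfold pM
  rw [fromBlocks_mulVec, Q_eq_dot, Q_eq_dot]
  simp only [Sum.elim_comp_inl, Sum.elim_comp_inr, add_mulVec, one_mulVec]
  set x := v ∘ Sum.inl with hx
  set y := v ∘ Sum.inr with hy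
  have hpp : (D *ᵥ x) ⬝ᵥ (D *ᵥ x) = x ⬝ᵥ (D *ᵥ x) := by
    rw [sym_dot D hDs, Matrix.mulVec_mulVec, hDD]
  have hqq : (D *ᵥ y) ⬝ᵥ (D *ᵥ y) = y ⬝ᵥ (D *ᵥ y) := by
    rw [sym_dot D hDs, Matrix.mulVec_mulVec, hDD]
  have hpy : (D *ᵥ x) ⬝ᵥ y = x ⬝ᵥ (D *ᵥ y) := sym_dot D hDs x y
  have hqp : (D *ᵥ y) ⬝ᵥ (D *ᵥ x) = (D *ᵥ x) ⬝ᵥ (D *ᵥ y) := dotProduct_comm _ _
  have hqy : (D *ᵥ y) ⬝ᵥ y = y ⬝ᵥ (D *ᵥ y) := dotProduct_comm _ _
  simp only [add_dotProduct, dotProduct_add]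
  linear_combination hpp + hqq + hpy + hqp + hqy +
    char_two_add_self (x ⬝ᵥ (D *ᵥ x) + x ⬝ᵥ (D *ᵥ y) + (D *ᵥ x) ⬝ᵥ (D *ᵥ y) + y ⬝ᵥ (D *ᵥ y))

/-- the partial swap isometry attached to a symmetric idempotent matrix -/
noncomputable def pO (D : Matrix (Fin m) (Fin m) F) (hDs : Dᵀ = D) (hDD : D * D = D) :
    OPlus m F :=
  mkOM (pM D) (pM D) (pM_sq D) (pM_sq D) (pM_Q D hDs hDD)

omit [Fintype F] in
theorem pO_sq (D : Matrix (Fin m) (Fin m) F) (hDs : Dᵀ = D) (hDD : D * D = D) :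
    pO D hDs hDD * pO D hDs hDD = 1 := by
  apply Subtype.ext
  apply Units.ext
  exact pM_sq D

omit [Fintype F] [CharP F 2] in
theorem rank_fromBlocks_all (D : Matrix (Fin m) (Fin m) F) :
    (fromBlocks D D D D).rank = D.rank := by
  have h : fromBlocks D D D D = fromBlocks (1 : Matrix (Fin m) (Fin m) F) 0 1 1 *
      fromBlocks D 0 0 0 * fromBlocks (1 : Matrix (Fin m) (Fin m) F) 1 0 1 := by
    rw [fromBlocks_multiply, fromBlocks_multiply]
    simp
  rw [h, rank_mul_eq_left_of_isUnit_det, rank_mul_eq_right_of_isUnit_det, rank_fromBlocks_11]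
  · rw [det_fromBlocks_zero₁₂]
    simp
  · rw [det_fromBlocks_zero₂₁]
    simp

omit [Fintype F] in
theorem rank_pO (D : Matrix (Fin m) (Fin m) F) (hDs : Dᵀ = D) (hDD : D * D = D) :
    (((pO D hDs hDD).1 : Matrix (Fin m ⊕ Fin m) (Fin m ⊕ Fin m) F) - 1).rank = D.rank := by
  have : ((pO D hDs hDD).1 : Matrix (Fin m ⊕ Fin m) (Fin m ⊕ Fin m) F) - 1 =
      fromBlocks D D D D := by
    show fromBlocks (1 + D) D D (1 + D) - 1 = fromBlocks D D D D
    rw [← fromBlocks_one, sub_eq_add_neg, fromBlocks_neg, fromBlocks_add]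
    simp
  rw [this, rank_fromBlocks_all]

omit [Fintype F] in
theorem type_pO (D : Matrix (Fin m) (Fin m) F) (hDs : Dᵀ = D) (hDD : D * D = D)
    (x : Fin m → F) :
    Bp m F (Sum.elim x 0) (actHom m F (pO D hDs hDD) (Sum.elim x 0)) = x ⬝ᵥ (D *ᵥ x) := by
  unfold pO
  rw [act_mkOM]
  unfold pM
  rw [fromBlocks_mulVec, Bp_eq_dot]
  simp

omit [Fintype F] [CharP F 2] in
theorem dmat_idem (i : Fin m) : dmat F m i * dmat F m i = dmat F m i := by
  unfold dmat
  rw [Matrix.diagonal_mul_diagonal]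
  congr 1
  funext j
  split_ifs <;> simp

/-- the representatives of the classes of involutions -/
noncomputable def rep : Fin m ⊕ Fin (m / 2) → OPlus m F
  | Sum.inl i => pO (dmat F m i) (dmat_symm i) (dmat_idem i)
  | Sum.inr j => uSym (amat F m j)

omit [Fintype F] in
theorem rank_rep (x : Fin m ⊕ Fin (m / 2)) :
    (((rep (F := F) x).1 : Matrix (Fin m ⊕ Fin m) (Fin m ⊕ Fin m) F) - 1).rank = rk x := by
  rcases x with i | j
  · show (((pO (dmat F m i) (dmat_symm i) (dmat_idem i)).1 :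
      Matrix (Fin m ⊕ Fin m) (Fin m ⊕ Fin m) F) - 1).rank = i.val + 1
    rw [rank_pO, dmat_rank]
  · show (((uS (amat F m j + (amat F m j)ᵀ) (isAlt_sym (amat F m j))).1 :
      Matrix (Fin m ⊕ Fin m) (Fin m ⊕ Fin m) F) - 1).rank = 2 * (j.val + 1)
    rw [rank_uS, amat_rank]

omit [Fintype F] in
theorem type_rep (x : Fin m ⊕ Fin (m / 2)) :
    (∀ v, Bp m F v (actHom m F (rep (F := F) x) v) = 0) ↔ ∃ j, x = Sum.inr j := by
  rcases x with i | j
  · constructor
    · intro h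
      exfalso
      have h1 := h (Sum.elim (Pi.single ⟨0, by have := i.isLt; omega⟩ 1) 0)
      have h2 := type_pO (dmat F m i) (dmat_symm i) (dmat_idem i)
        (Pi.single ⟨0, by have := i.isLt; omega⟩ 1)
      have h3 : Bp m F (Sum.elim (Pi.single ⟨0, by have := i.isLt; omega⟩ 1) 0)
          (actHom m F (pO (dmat F m i) (dmat_symm i) (dmat_idem i))
            (Sum.elim (Pi.single ⟨0, by have := i.isLt; omega⟩ 1) 0)) = 0 := h1
      rw [h2] at h3
      simp only [dmat] at h3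
      rw [dotProduct_comm, dotProduct_single] at h3
      simp at h3
      exact Nat.not_lt_zero _ (Fin.lt_def.mp h3)
    · rintro ⟨j, hj⟩
      exact absurd hj (by simp)
  · constructor
    · intro _
      exact ⟨j, rfl⟩
    · intro _ v
      exact alt_uS (amat F m j + (amat F m j)ᵀ) (isAlt_sym (amat F m j)) v

omit [Fintype F] in
theorem rep_sq (x : Fin m ⊕ Fin (m / 2)) : rep (F := F) x * rep x = 1 := by
  rcases x with i | j
  · exact pO_sq (dmat F m i) (dmat_symm i) (dmat_idem i)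
  · exact uS_mul_self (amat F m j + (amat F m j)ᵀ) (isAlt_sym (amat F m j))

omit [Fintype F] [CharP F 2] in
theorem eq_one_of_rank_zero {n : Type} [Fintype n] [DecidableEq n] (A : Matrix n n F)
    (h0 : (A - 1).rank = 0) : A = 1 := by
  have h2 : LinearMap.range (A - 1).mulVecLin = ⊥ := Submodule.finrank_eq_zero.mp h0
  rw [LinearMap.range_eq_bot] at h2
  have h3 : Matrix.toLin' (A - 1) = 0 := h2
  have h4 := congrArg LinearMap.toMatrix' h3
  have h5 : A - 1 = 0 := by simpa using h4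
  exact sub_eq_zero.mp h5

omit [Fintype F] in
theorem rep_order (x : Fin m ⊕ Fin (m / 2)) : orderOf (rep (F := F) x) = 2 := by
  apply orderOf_eq_prime
  · rw [pow_two]
    exact rep_sq x
  · intro h
    have h1 := rank_rep (F := F) x
    rw [h] at h1
    have h2 : rk x ≠ 0 := by
      rcases x with i | j <;> simp [rk]
    apply h2
    rw [← h1]
    simp

theorem exists_rep (hm : 1 ≤ m) (g : OPlus m F) (hg : orderOf g = 2) :
    ∃ x : Fin m ⊕ Fin (m / 2), IsConj (rep x) g := by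
  have hgg : g * g = 1 := by
    have h := pow_orderOf_eq_one g
    rw [hg, pow_two] at h
    exact h
  have hle := rank_le g hgg
  have hpos : 1 ≤ ((g.1 : Matrix (Fin m ⊕ Fin m) (Fin m ⊕ Fin m) F) - 1).rank := by
    by_contra hcon
    have h0 : ((g.1 : Matrix (Fin m ⊕ Fin m) (Fin m ⊕ Fin m) F) - 1).rank = 0 := by omega
    have h1 := eq_one_of_rank_zero _ h0
    have h2 : g = 1 := by
      apply Subtype.ext
      apply Units.ext
      exact h1
    rw [h2, orderOf_one] at hg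
    omega
  have key : ∀ x : Fin m ⊕ Fin (m / 2),
      rk x = ((g.1 : Matrix (Fin m ⊕ Fin m) (Fin m ⊕ Fin m) F) - 1).rank →
      ((∃ j, x = Sum.inr j) ↔ (∀ v, Bp m F v (actHom m F g v) = 0)) →
      IsConj (rep x) g := by
    intro x hx1 hx2
    exact conjO1 hm (rep x) g (rep_sq x) hgg (by rw [rank_rep, hx1]) ((type_rep x).trans hx2)
  by_cases halt : ∀ v, Bp m F v (actHom m F g v) = 0
  · obtain ⟨k, hk⟩ := even_rank_of_alt' g hgg halt
    have hk1 : 1 ≤ k := by omega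
    refine ⟨Sum.inr ⟨k - 1, by omega⟩, key _ ?_ ?_⟩
    · show 2 * (k - 1 + 1) = _
      omega
    · exact ⟨fun _ => halt, fun _ => ⟨_, rfl⟩⟩
  · refine ⟨Sum.inl ⟨((g.1 : Matrix (Fin m ⊕ Fin m) (Fin m ⊕ Fin m) F) - 1).rank - 1, by omega⟩,
      key _ ?_ ?_⟩
    · show ((g.1 : Matrix (Fin m ⊕ Fin m) (Fin m ⊕ Fin m) F) - 1).rank - 1 + 1 = _
      omega
    · constructor
      · rintro ⟨j, hj⟩
        exact absurd hj (by simp)
      · intro h
        exact absurd h halt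

/-- conjugate elements have the same rank and type -/
theorem invariants_of_conjO (a b : OPlus m F) (hconj : IsConj a b) :
    ((a.1 : Matrix (Fin m ⊕ Fin m) (Fin m ⊕ Fin m) F) - 1).rank =
      ((b.1 : Matrix (Fin m ⊕ Fin m) (Fin m ⊕ Fin m) F) - 1).rank ∧
    ((∀ v, Bp m F v (actHom m F a v) = 0) ↔ (∀ v, Bp m F v (actHom m F b v) = 0)) := by
  obtain ⟨c, hc⟩ := isConj_iff.mp hconj
  have hconj' : IsConj (⟨a.1, mem_sp a⟩ : ↥(Matrix.symplecticGroup (Fin m) F))
      ⟨b.1, mem_sp b⟩ := by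
    apply isConj_iff.mpr
    refine ⟨⟨c.1, mem_sp c⟩, ?_⟩
    rw [mul_inv_eq_iff_eq_mul]
    apply Subtype.ext
    have h1 : c * a = b * c := by rw [← hc]; group
    have h2 := congrArg (fun x : OPlus m F =>
      ((x : GL (Fin m ⊕ Fin m) F) : Matrix (Fin m ⊕ Fin m) (Fin m ⊕ Fin m) F)) h1
    simpa using h2
  obtain ⟨h1, h2⟩ := Cfsg.Agent.S2593.invariants_of_conj _ _ hconj'
  refine ⟨h1, ?_⟩
  have h3 : (∀ v, Cfsg.sympForm m F v
        ((a.1 : Matrix (Fin m ⊕ Fin m) (Fin m ⊕ Fin m) F) *ᵥ v) = 0) ↔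
      (∀ v, Cfsg.sympForm m F v
        ((b.1 : Matrix (Fin m ⊕ Fin m) (Fin m ⊕ Fin m) F) *ᵥ v) = 0) := h2
  simp only [symp_eq_Bp] at h3
  exact h3

theorem rep_injective (x y : Fin m ⊕ Fin (m / 2)) (h : IsConj (rep (F := F) x) (rep y)) :
    x = y := by
  obtain ⟨h1, h2⟩ := invariants_of_conjO _ _ h
  rw [rank_rep, rank_rep] at h1
  rw [type_rep, type_rep] at h2
  rcases x with i | j <;> rcases y with i' | j'
  · simp only [rk] at h1
    congr 1
    exact Fin.ext (by omega)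
  · exfalso
    have := h2.mpr ⟨j', rfl⟩
    obtain ⟨j, hj⟩ := this
    exact absurd hj (by simp)
  · exfalso
    have := h2.mp ⟨j, rfl⟩
    obtain ⟨j', hj'⟩ := this
    exact absurd hj' (by simp)
  · simp only [rk] at h1
    congr 1
    exact Fin.ext (by omega)

/-- Number of conjugacy classes of involutions in the full orthogonal group O⁺_2m(F) of the hyperbolic quadratic form Σ x_i y_i over a finite field of characteristic two (m ≥ 1): one class for each odd s ≤ m and two for each even s with 2 ≤ s ≤ m, where s = rank(t − 1); in all m + ⌊m/2⌋. -/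
theorem result {F : Type*} [Field F] [Fintype F] [CharP F 2] {m : ℕ} (hm : 1 ≤ m) : Nat.card {C : ConjClasses ↥(Cfsg.isometryGroup F (Cfsg.quadFormPlus m F)) // ∃ g : ↥(Cfsg.isometryGroup F (Cfsg.quadFormPlus m F)), ConjClasses.mk g = C ∧ orderOf g = 2} = m + m / 2 := by
  let Φ : Fin m ⊕ Fin (m / 2) → {C : ConjClasses ↥(Cfsg.isometryGroup F (Cfsg.quadFormPlus m F)) //
      ∃ g : ↥(Cfsg.isometryGroup F (Cfsg.quadFormPlus m F)),
        ConjClasses.mk g = C ∧ orderOf g = 2} :=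
    fun x => ⟨ConjClasses.mk (rep x), rep x, rfl, rep_order x⟩
  have hbij : Function.Bijective Φ := by
    constructor
    · intro x y hxy
      have h1 : ConjClasses.mk (rep (F := F) x) = ConjClasses.mk (rep y) :=
        congrArg Subtype.val hxy
      exact rep_injective x y (ConjClasses.mk_eq_mk_iff_isConj.mp h1)
    · rintro ⟨C, g, rfl, hg⟩
      obtain ⟨x, hx⟩ := exists_rep hm g hg
      refine ⟨x, ?_⟩
      apply Subtype.ext
      exact ConjClasses.mk_eq_mk_iff_isConj.mpr hx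
  rw [← Nat.card_congr (Equiv.ofBijective Φ hbij), Nat.card_eq_fintype_card, Fintype.card_sum,
    Fintype.card_fin, Fintype.card_fin]

end Cfsg.Agent.S2595
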