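import Cfsg.Statements.S2630
import Mathlib
import Cfsg.Agent.Lib.Helper36.PlusOrth
import Cfsg.Agent.Lib.Helper36.OmegaChar2

set_option autoImplicit false
open Cfsg

namespace Cfsg.Agent.S2630

open Matrix Module Cfsg.Agent.Helper36 Cfsg.Agent.S2168 Cfsg.Agent.S0831

universe u

variable {F : Type u} [Field F] [Fintype F] [CharP F 2] {m : ℕ}

omit [Fintype F] in
/-- the two reflections agree -/
theorem refl_eq (a : Fin m ⊕ Fin m → F) (ha : Cfsg.quadFormPlus m F a ≠ 0) :
    QuadInv.refl isQuad_plus a ha = PlusOrth.refl a ha := by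
  apply PlusOrth.act_ext
  intro v
  rw [PlusOrth.act_refl]
  exact QuadInv.act_refl isQuad_plus a ha v

/-- membership in `Ω⁺` is detected by the Dickson-type invariant -/
theorem mem_Omega_iff_dnat (hm : 1 ≤ m) (h : Fintype.card F ≠ 2 ∨ m ≠ 2)
    (g : PlusOrth.OPlus m F) :
    g ∈ Cfsg.Omega F (Cfsg.quadFormPlus m F) ↔ Even (PlusOrth.dnat g) := by
  obtain ⟨a₀, ha₀⟩ : ∃ a₀ : Fin m ⊕ Fin m → F,
      a₀ = Pi.single (Sum.inl (⟨0, hm⟩ : Fin m)) 1 + Pi.single (Sum.inr (⟨0, hm⟩ : Fin m)) 1 :=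
    ⟨_, rfl⟩
  have h₀ : Cfsg.quadFormPlus m F a₀ ≠ 0 := by
    have : Cfsg.quadFormPlus m F a₀ = 1 := by
      rw [ha₀]
      unfold Cfsg.quadFormPlus
      rw [Finset.sum_eq_single (⟨0, hm⟩ : Fin m)]
      · simp
      · intro b _ hb
        simp [hb]
      · intro hcon
        exact absurd (Finset.mem_univ _) hcon
    rw [this]
    exact one_ne_zero
  have hexc : Fintype.card F ≠ 2 ∨ Fintype.card (Fin m ⊕ Fin m) ≠ 4 := by
    rcases h with h | h
    · left; exact h
    · right
      simp only [Fintype.card_sum, Fintype.card_fin]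
      omega
  have hδ : PlusOrth.delta m F (QuadInv.refl isQuad_plus a₀ h₀) = Multiplicative.ofAdd 1 := by
    rw [refl_eq, PlusOrth.delta_apply, PlusOrth.dnat_refl]
    simp
  rw [OmegaChar2.mem_Omega_iff_delta isQuad_plus Bp_nondeg (count_ne_plus hm) hexc a₀ h₀
    (PlusOrth.delta m F) hδ g, PlusOrth.delta_apply]
  constructor
  · intro h1
    have h2 : ((PlusOrth.dnat g : ℕ) : ZMod 2) = 0 := by
      have := congrArg Multiplicative.toAdd h1
      simpa using this
    exact ZMod.natCast_eq_zero_iff_even.mp h2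
  · intro h1
    rw [ZMod.natCast_eq_zero_iff_even.mpr h1]
    rfl

/-- For the hyperbolic form Σ x_i y_i on F^(2m) over a finite field of characteristic two (m ≥ 1, excluding m = 2 over the field of two elements), an isometry g preserves the class of the maximal totally singular subspace U₀ = {y = 0} (m − dim(U₀ ∩ gU₀) even) if and only if g lies in Ω (the commutator subgroup of the orthogonal group): the stabiliser of each class is Ω. -/
theorem result {F : Type*} [Field F] [Fintype F] [CharP F 2] {m : ℕ} (hm : 1 ≤ m) (h : Fintype.card F ≠ 2 ∨ m ≠ 2) (g : ↥(Cfsg.isometryGroup F (Cfsg.quadFormPlus m F))) : Even (m - Module.finrank F ↥(LinearMap.ker (LinearMap.funLeft F F (Sum.inr : Fin m → Fin m ⊕ Fin m)) ⊓ (LinearMap.ker (LinearMap.funLeft F F (Sum.inr : Fin m → Fin m ⊕ Fin m))).map (Matrix.mulVecLin ((g : Matrix.GeneralLinearGroup (Fin m ⊕ Fin m) F) : Matrix (Fin m ⊕ Fin m) (Fin m ⊕ Fin m) F)))) ↔ g ∈ Cfsg.Omega F (Cfsg.quadFormPlus m F) := by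
  rw [mem_Omega_iff_dnat hm h g]
  rfl

end Cfsg.Agent.S2630
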