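import Cfsg.Statements.S0331
import Cfsg.Agent.Lib.Helper37.SzAniso

set_option autoImplicit false
open Cfsg

namespace Cfsg.Agent.S0331

open Cfsg.Agent.Helper37 Cfsg.Agent.Helper6

/-- For every odd prime `p` the Sylow `p`-subgroups of the Suzuki group are cyclic. -/
theorem result {F : Type*} [Field F] [Fintype F] {m : ℕ} (hm : 1 ≤ m)
    (hF : Fintype.card F = 2 ^ (2 * m + 1)) {p : ℕ} [Fact p.Prime] (hp : p ≠ 2)
    (P : Sylow p (Cfsg.Sz F m)) : IsCyclic P := by
  have h : SzHyp F (2 ^ (m + 1)) := szHyp_of_card hF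
  have hpp : p.Prime := Fact.out
  by_cases htriv : Subsingleton ↥P
  · exact isCyclic_of_subsingleton
  · have hnt : Nontrivial ↥P := not_subsingleton_iff_nontrivial.mp htriv
    have hPp : IsPGroup p ↥P := P.isPGroup'
    have hZ : Nontrivial ↥(Subgroup.center ↥P) := hPp.center_nontrivial
    obtain ⟨⟨z, hzZ⟩, hz1⟩ := exists_ne (1 : ↥(Subgroup.center ↥P))
    have hz1' : z ≠ 1 := fun h0 => hz1 (Subtype.ext h0)
    have hz1'' : (z : ↥(Cfsg.Sz F m)) ≠ 1 := fun h0 => hz1' (Subtype.ext h0)
    -- every element of `P` commutes with `z`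
    have hcomm : ∀ c : ↥P, (c : ↥(Cfsg.Sz F m)) * z = z * c := by
      intro c
      rw [Subgroup.mem_center_iff] at hzZ
      have := hzZ c
      have := congrArg Subtype.val this
      exact this
    obtain ⟨k, hk⟩ := hPp z
    have hzpk : (z : ↥(Cfsg.Sz F m)) ^ p ^ k = 1 := by
      have := congrArg Subtype.val hk
      simpa using this
    have hconj : ∀ (x w : ↥(Cfsg.Sz F m)), (z : ↥(Cfsg.Sz F m)) = x * w * x⁻¹ → ∀ c : ↥P,
        (x⁻¹ * c * x) * w = w * (x⁻¹ * c * x) := by
      intro x w hx c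
      have hw : w = x⁻¹ * z * x := by rw [hx]; group
      rw [hw]
      have e1 : x⁻¹ * c * x * (x⁻¹ * z * x) = x⁻¹ * (c * z) * x := by group
      have e2 : x⁻¹ * z * x * (x⁻¹ * c * x) = x⁻¹ * (z * c) * x := by group
      rw [e1, e2, hcomm c]
    rcases classify hm hF h (z : ↥(Cfsg.Sz F m)) hz1'' with ⟨x, a, b, hne, hx⟩ | ⟨x, s, hs, hx⟩ | hX
    · -- unipotent: impossible for an element of odd order
      exfalso
      have h4 : (z : ↥(Cfsg.Sz F m)) ^ 4 = 1 := by
        have e : (x * qG h a b * x⁻¹) ^ 4 = x * (qG h a b) ^ 4 * x⁻¹ := by rw [← conj_pow]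
        rw [hx, e, qG_pow_four]
        group
      have d1 := orderOf_dvd_of_pow_eq_one h4
      have d2 := orderOf_dvd_of_pow_eq_one hzpk
      have hcop : Nat.Coprime 4 (p ^ k) := by
        apply Nat.Coprime.pow_right
        have h22 : (4 : ℕ) = 2 ^ 2 := by norm_num
        rw [h22]
        apply Nat.Coprime.pow_left
        exact (Nat.coprime_primes Nat.prime_two hpp).mpr (Ne.symm hp)
      have := Nat.eq_one_of_dvd_coprimes hcop d1 d2
      exact hz1'' (orderOf_eq_one_iff.mp this)
    · -- torus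
      have hK : IsCyclic ↥((hGhom (m := m) h).range) :=
        isCyclic_of_surjective (hGhom (m := m) h).rangeRestrict
          (hGhom (m := m) h).rangeRestrict_surjective
      have hmem : ∀ c : ↥P, x⁻¹ * (c : ↥(Cfsg.Sz F m)) * x ∈ (hGhom (m := m) h).range := by
        intro c
        obtain ⟨t, ht⟩ := comm_hG hm hF h hs _ (hconj x _ hx c)
        exact ⟨t, by rw [hGhom_apply, ht]⟩
      let f : ↥P →* ↥((hGhom (m := m) h).range) :=
        { toFun := fun c => ⟨x⁻¹ * (c : ↥(Cfsg.Sz F m)) * x, hmem c⟩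
          map_one' := by
            apply Subtype.ext
            show x⁻¹ * ((1 : ↥P) : ↥(Cfsg.Sz F m)) * x = 1
            rw [Subgroup.coe_one]; group
          map_mul' := by
            intro c c'
            apply Subtype.ext
            show x⁻¹ * ((c * c' : ↥P) : ↥(Cfsg.Sz F m)) * x = (x⁻¹ * c * x) * (x⁻¹ * c' * x)
            rw [Subgroup.coe_mul]; group }
      have hf : Function.Injective f := by
        intro c c' hcc
        have h1 : x⁻¹ * (c : ↥(Cfsg.Sz F m)) * x = x⁻¹ * c' * x := congrArg Subtype.val hcc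
        have h2 : (c : ↥(Cfsg.Sz F m)) = c' := by
          have := congrArg (fun w => x * w * x⁻¹) h1
          simpa [mul_assoc] using this
        exact Subtype.ext h2
      exact isCyclic_of_injective f hf
    · -- anisotropic
      haveI := X_centralizer_cyclic hm hF h (z : ↥(Cfsg.Sz F m)) hX
      have hmem : ∀ c : ↥P, (c : ↥(Cfsg.Sz F m)) ∈
          Subgroup.centralizer ({(z : ↥(Cfsg.Sz F m))} : Set ↥(Cfsg.Sz F m)) := by
        intro c
        rw [Subgroup.mem_centralizer_iff]
        intro w hw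
        rw [Set.mem_singleton_iff] at hw
        rw [hw]
        exact (hcomm c).symm
      let f : ↥P →* ↥(Subgroup.centralizer ({(z : ↥(Cfsg.Sz F m))} : Set ↥(Cfsg.Sz F m))) :=
        { toFun := fun c => ⟨c, hmem c⟩
          map_one' := rfl
          map_mul' := fun _ _ => rfl }
      have hf : Function.Injective f := by
        intro c c' hcc
        have h1 : (c : ↥(Cfsg.Sz F m)) = c' :=
          congrArg (fun w : ↥(Subgroup.centralizer
            ({(z : ↥(Cfsg.Sz F m))} : Set ↥(Cfsg.Sz F m))) => (w : ↥(Cfsg.Sz F m))) hcc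
        exact Subtype.ext h1
      exact isCyclic_of_injective f hf

end Cfsg.Agent.S0331
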