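import Cfsg.Statements.S2428
import Cfsg.Agent.Lib.Helper40.SL2

set_option autoImplicit false
open Cfsg

namespace Cfsg.Agent.S2428

open Cfsg.Agent.Helper40

variable {F : Type*} [Field F]

local notation "SL2F" => Matrix.SpecialLinearGroup (Fin 2) F
local notation "M2F" => Matrix (Fin 2) (Fin 2) F

theorem eq_iff2 (g h : SL2F) : g = h ↔
    (g : M2F) 0 0 = (h : M2F) 0 0 ∧ (g : M2F) 0 1 = (h : M2F) 0 1 ∧
    (g : M2F) 1 0 = (h : M2F) 1 0 ∧ (g : M2F) 1 1 = (h : M2F) 1 1 := by
  constructor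
  · rintro rfl; exact ⟨rfl, rfl, rfl, rfl⟩
  · rintro ⟨h1, h2, h3, h4⟩; exact ext2 h1 h2 h3 h4

theorem cj_01 (g h : SL2F) : ((g * h * g⁻¹ : SL2F) : M2F) 0 1
    = (g : M2F) 0 0 ^ 2 * (h : M2F) 0 1 - (g : M2F) 0 1 ^ 2 * (h : M2F) 1 0
      + (g : M2F) 0 0 * (g : M2F) 0 1 * ((h : M2F) 1 1 - (h : M2F) 0 0) := by
  rw [mul_01, mul_00, mul_01, inv_01, inv_11]; ring

theorem cj_10 (g h : SL2F) : ((g * h * g⁻¹ : SL2F) : M2F) 1 0
    = (g : M2F) 1 1 ^ 2 * (h : M2F) 1 0 - (g : M2F) 1 0 ^ 2 * (h : M2F) 0 1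
      + (g : M2F) 1 0 * (g : M2F) 1 1 * ((h : M2F) 0 0 - (h : M2F) 1 1) := by
  rw [mul_10, mul_10, mul_11, inv_00, inv_10]; ring

theorem d_sub_ne (d : SL2F) (hd01 : (d : M2F) 0 1 = 0) (hda : (d : M2F) 0 0 ^ 2 ≠ 1) :
    (d : M2F) 1 1 - (d : M2F) 0 0 ≠ 0 := by
  intro h
  apply hda
  have hdet := det2 d
  rw [hd01, zero_mul, sub_zero] at hdet
  rw [sub_eq_zero] at h
  rw [sq]
  rw [h] at hdet
  exact hdet

theorem mem_cent (d : SL2F) (hd01 : (d : M2F) 0 1 = 0) (hd10 : (d : M2F) 1 0 = 0)
    (hda : (d : M2F) 0 0 ^ 2 ≠ 1) (g : SL2F) :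
    g ∈ Subgroup.centralizer ({d} : Set SL2F) ↔ ((g : M2F) 0 1 = 0 ∧ (g : M2F) 1 0 = 0) := by
  have hne := d_sub_ne d hd01 hda
  rw [Subgroup.mem_centralizer_iff]
  simp only [Set.mem_singleton_iff, forall_eq]
  rw [eq_iff2, mul_00, mul_01, mul_10, mul_11, mul_00, mul_01, mul_10, mul_11, hd01, hd10]
  constructor
  · rintro ⟨-, h2, h3, -⟩
    constructor
    · have : (g : M2F) 0 1 * ((d : M2F) 1 1 - (d : M2F) 0 0) = 0 := by linear_combination -h2
      exact (mul_eq_zero.mp this).resolve_right hne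
    · have : (g : M2F) 1 0 * ((d : M2F) 1 1 - (d : M2F) 0 0) = 0 := by linear_combination h3
      exact (mul_eq_zero.mp this).resolve_right hne
  · rintro ⟨h1, h2⟩
    rw [h1, h2]
    refine ⟨by ring, by ring, by ring, by ring⟩

theorem mem_norm (d : SL2F) (hd01 : (d : M2F) 0 1 = 0) (hd10 : (d : M2F) 1 0 = 0)
    (hda : (d : M2F) 0 0 ^ 2 ≠ 1) (g : SL2F) :
    g ∈ Subgroup.normalizer ((Subgroup.centralizer ({d} : Set SL2F)) : Set SL2F) ↔
      (((g : M2F) 0 1 = 0 ∧ (g : M2F) 1 0 = 0) ∨ ((g : M2F) 0 0 = 0 ∧ (g : M2F) 1 1 = 0)) := by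
  have hne := d_sub_ne d hd01 hda
  have hdet := det2 g
  rw [Subgroup.mem_normalizer_iff]
  simp only [mem_cent d hd01 hd10 hda]
  constructor
  · intro h
    have hd := (h d).mp ⟨hd01, hd10⟩
    rw [cj_01, cj_10, hd01, hd10] at hd
    obtain ⟨h1, h2⟩ := hd
    have h1' : (g : M2F) 0 0 * (g : M2F) 0 1 = 0 := by
      have : (g : M2F) 0 0 * (g : M2F) 0 1 * ((d : M2F) 1 1 - (d : M2F) 0 0) = 0 := by
        linear_combination h1
      exact (mul_eq_zero.mp this).resolve_right hne
    have h2' : (g : M2F) 1 0 * (g : M2F) 1 1 = 0 := by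
      have : (g : M2F) 1 0 * (g : M2F) 1 1 * ((d : M2F) 1 1 - (d : M2F) 0 0) = 0 := by
        linear_combination -h2
      exact (mul_eq_zero.mp this).resolve_right hne
    rcases mul_eq_zero.mp h1' with h00 | h01
    · right
      refine ⟨h00, ?_⟩
      rcases mul_eq_zero.mp h2' with h10 | h11
      · rw [h00, h10] at hdet; simp at hdet
      · exact h11
    · left
      refine ⟨h01, ?_⟩
      rcases mul_eq_zero.mp h2' with h10 | h11
      · exact h10
      · rw [h01, h11] at hdet; simp at hdet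
  · rintro (⟨h01, h10⟩ | ⟨h00, h11⟩)
    · intro h
      rw [cj_01, cj_10, h01, h10]
      rw [h01, h10] at hdet
      have h00 : (g : M2F) 0 0 ≠ 0 := by rintro h0; rw [h0] at hdet; simp at hdet
      have h11 : (g : M2F) 1 1 ≠ 0 := by rintro h0; rw [h0] at hdet; simp at hdet
      constructor
      · rintro ⟨a, b⟩; rw [a, b]; constructor <;> ring
      · rintro ⟨a, b⟩
        constructor
        · have : (g : M2F) 0 0 ^ 2 * (h : M2F) 0 1 = 0 := by linear_combination a
          exact (mul_eq_zero.mp this).resolve_left (pow_ne_zero 2 h00)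
        · have : (g : M2F) 1 1 ^ 2 * (h : M2F) 1 0 = 0 := by linear_combination b
          exact (mul_eq_zero.mp this).resolve_left (pow_ne_zero 2 h11)
    · intro h
      rw [cj_01, cj_10, h00, h11]
      rw [h00, h11] at hdet
      have h01 : (g : M2F) 0 1 ≠ 0 := by rintro h0; rw [h0] at hdet; simp at hdet
      have h10 : (g : M2F) 1 0 ≠ 0 := by rintro h0; rw [h0] at hdet; simp at hdet
      constructor
      · rintro ⟨a, b⟩; rw [a, b]; constructor <;> ring
      · rintro ⟨a, b⟩
        constructor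
        · have : (g : M2F) 1 0 ^ 2 * (h : M2F) 0 1 = 0 := by linear_combination -b
          exact (mul_eq_zero.mp this).resolve_left (pow_ne_zero 2 h10)
        · have : (g : M2F) 0 1 ^ 2 * (h : M2F) 1 0 = 0 := by linear_combination -a
          exact (mul_eq_zero.mp this).resolve_left (pow_ne_zero 2 h01)

/-- diagonal element -/
def dg (a : Fˣ) : SL2F := mk2 (a : F) 0 0 ((a : F)⁻¹) (by simp)
/-- antidiagonal element -/
def ad (b : Fˣ) : SL2F := mk2 0 (b : F) (-(b : F)⁻¹) 0 (by simp)

/-- parametrization of the monomial group -/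
def psi : Bool × Fˣ → SL2F
  | (false, a) => dg a
  | (true, b) => ad b

theorem psi_inj : Function.Injective (psi (F := F)) := by
  rintro ⟨e, a⟩ ⟨e', c⟩ h
  rw [eq_iff2] at h
  cases e <;> cases e' <;> simp only [psi, dg, ad, mk2_00, mk2_01, mk2_10, mk2_11] at h
  · obtain ⟨h1, -⟩ := h
    rw [Units.ext h1]
  · exact absurd h.1 a.ne_zero
  · exact absurd h.1.symm c.ne_zero
  · obtain ⟨-, h1, -⟩ := h
    rw [Units.ext h1]

theorem psi_range (g : SL2F) :
    (∃ x, psi x = g) ↔ (((g : M2F) 0 1 = 0 ∧ (g : M2F) 1 0 = 0) ∨ ((g : M2F) 0 0 = 0 ∧ (g : M2F) 1 1 = 0)) := by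
  have hdet := det2 g
  constructor
  · rintro ⟨⟨e, a⟩, rfl⟩
    cases e
    · left; simp [psi, dg]
    · right; simp [psi, ad]
  · rintro (⟨h01, h10⟩ | ⟨h00, h11⟩)
    · rw [h01, h10] at hdet
      have h00 : (g : M2F) 0 0 ≠ 0 := by rintro h0; rw [h0] at hdet; simp at hdet
      refine ⟨(false, Units.mk0 _ h00), ?_⟩
      apply ext2 <;> simp only [psi, dg, mk2_00, mk2_01, mk2_10, mk2_11, Units.val_mk0]
      · exact h01.symm
      · exact h10.symm
      · field_simp; linear_combination -hdet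
    · rw [h00, h11] at hdet
      have h01 : (g : M2F) 0 1 ≠ 0 := by rintro h0; rw [h0] at hdet; simp at hdet
      refine ⟨(true, Units.mk0 _ h01), ?_⟩
      apply ext2 <;> simp only [psi, ad, mk2_00, mk2_01, mk2_10, mk2_11, Units.val_mk0]
      · exact h00.symm
      · field_simp; linear_combination hdet
      · exact h11.symm

/-- the commuting relation in coordinates -/
def CC : Bool × Fˣ → Bool × Fˣ → Prop
  | (false, _), (false, _) => True
  | (false, a), (true, _) => (a : F) ^ 2 = 1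
  | (true, _), (false, c) => (c : F) ^ 2 = 1
  | (true, b), (true, c) => (b : F) ^ 2 = (c : F) ^ 2

theorem psi_commute (x y : Bool × Fˣ) : psi x * psi y = psi y * psi x ↔ CC x y := by
  obtain ⟨e, a⟩ := x
  obtain ⟨e', c⟩ := y
  have ha := a.ne_zero
  have hc := c.ne_zero
  rw [eq_iff2, mul_00, mul_01, mul_10, mul_11, mul_00, mul_01, mul_10, mul_11]
  cases e <;> cases e' <;> simp only [psi, dg, ad, CC, mk2_00, mk2_01, mk2_10, mk2_11]
  · simp only [iff_true]
    refine ⟨by ring, by ring, by ring, by ring⟩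
  · constructor
    · rintro ⟨-, h, -, -⟩
      field_simp at h
      have : (c : F) * ((a : F) ^ 2 - 1) = 0 := by linear_combination h
      have := (mul_eq_zero.mp this).resolve_left hc
      linear_combination this
    · intro h
      have h' : (a : F)⁻¹ = a := by
        field_simp; exact h.symm
      rw [h']
      refine ⟨by ring, by ring, by ring, by ring⟩
  · constructor
    · rintro ⟨-, h, -, -⟩
      field_simp at h
      have : (a : F) * ((c : F) ^ 2 - 1) = 0 := by linear_combination -h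
      have := (mul_eq_zero.mp this).resolve_left ha
      linear_combination this
    · intro h
      have h' : (c : F)⁻¹ = c := by
        field_simp; exact h.symm
      rw [h']
      refine ⟨by ring, by ring, by ring, by ring⟩
  · constructor
    · rintro ⟨h, -, -, -⟩
      field_simp at h
      linear_combination -h
    · intro h
      refine ⟨?_, by ring, by ring, ?_⟩
      · field_simp; linear_combination -h
      · field_simp; linear_combination h

/-- splitting off the two signs -/
def splitEquiv (P : Bool × Fˣ → Bool × Fˣ → Prop) :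
    {p : (Bool × Fˣ) × (Bool × Fˣ) // P p.1 p.2} ≃
      Σ (e : Bool × Bool), {r : Fˣ × Fˣ // P (e.1, r.1) (e.2, r.2)} where
  toFun p := ⟨(p.1.1.1, p.1.2.1), ⟨(p.1.1.2, p.1.2.2), p.2⟩⟩
  invFun s := ⟨((s.1.1, s.2.1.1), (s.1.2, s.2.1.2)), s.2.2⟩
  left_inv := by rintro ⟨⟨⟨e, a⟩, ⟨e', c⟩⟩, h⟩; rfl
  right_inv := by rintro ⟨⟨e, e'⟩, ⟨⟨a, c⟩, h⟩⟩; rfl

variable [Fintype F]

theorem card_sq_one [DecidableEq F] (h2 : (2 : F) ≠ 0) :
    (Finset.univ.filter fun a : Fˣ => (a : F) ^ 2 = 1).card = 2 := by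
  have : (Finset.univ.filter fun a : Fˣ => (a : F) ^ 2 = 1) = {1, -1} := by
    ext a
    simp only [Finset.mem_filter, Finset.mem_univ, true_and, Finset.mem_insert, Finset.mem_singleton]
    rw [sq_eq_one_iff]
    constructor
    · rintro (h | h)
      · left; exact Units.ext h
      · right; exact Units.ext (by simpa using h)
    · rintro (h | h)
      · left; rw [h]; rfl
      · right; rw [h]; simp
  rw [this, Finset.card_pair]
  intro h
  have := congrArg (fun u : Fˣ => (u : F)) h
  simp only [Units.val_one, Units.val_neg] at this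
  apply h2
  linear_combination this

theorem card_sq_eq [DecidableEq F] (h2 : (2 : F) ≠ 0) (b : Fˣ) :
    (Finset.univ.filter fun c : Fˣ => (b : F) ^ 2 = (c : F) ^ 2).card = 2 := by
  have : (Finset.univ.filter fun c : Fˣ => (b : F) ^ 2 = (c : F) ^ 2) = {b, -b} := by
    ext c
    simp only [Finset.mem_filter, Finset.mem_univ, true_and, Finset.mem_insert, Finset.mem_singleton]
    rw [sq_eq_sq_iff_eq_or_eq_neg]
    constructor
    · rintro (h | h)
      · left; exact (Units.ext h).symm
      · right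
        apply Units.ext
        rw [Units.val_neg, h]; ring
    · rintro (h | h)
      · left; rw [h]
      · right; rw [h]; simp
  rw [this, Finset.card_pair]
  intro h
  have := congrArg (fun u : Fˣ => (u : F)) h
  simp only [Units.val_neg] at this
  have hb := b.ne_zero
  have : (2 : F) * b = 0 := by linear_combination this
  rcases mul_eq_zero.mp this with h | h
  · exact h2 h
  · exact hb h

theorem card_ff : Nat.card {r : Fˣ × Fˣ // CC (false, r.1) (false, r.2)}
    = (Fintype.card F - 1) * (Fintype.card F - 1) := by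
  classical
  have e : {r : Fˣ × Fˣ // CC (false, r.1) (false, r.2)} ≃ Fˣ × Fˣ :=
    Equiv.subtypeUnivEquiv (fun _ => trivial)
  rw [Nat.card_congr e, Nat.card_prod, Nat.card_units, Nat.card_eq_fintype_card]

theorem card_ft (h2 : (2 : F) ≠ 0) : Nat.card {r : Fˣ × Fˣ // CC (false, r.1) (true, r.2)}
    = 2 * (Fintype.card F - 1) := by
  classical
  have e : {r : Fˣ × Fˣ // CC (false, r.1) (true, r.2)} ≃ {r : Fˣ × Fˣ // (r.1 : F) ^ 2 = 1} :=
    Equiv.subtypeEquivRight (fun _ => Iff.rfl)
  rw [Nat.card_congr e, Nat.card_eq_fintype_card, Fintype.card_subtype, ← Finset.univ_product_univ,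
    Finset.filter_product_left (fun a : Fˣ => (a : F) ^ 2 = 1), Finset.card_product, card_sq_one h2, Finset.card_univ, Fintype.card_units]

theorem card_tf (h2 : (2 : F) ≠ 0) : Nat.card {r : Fˣ × Fˣ // CC (true, r.1) (false, r.2)}
    = 2 * (Fintype.card F - 1) := by
  classical
  have e : {r : Fˣ × Fˣ // CC (true, r.1) (false, r.2)} ≃ {r : Fˣ × Fˣ // (r.2 : F) ^ 2 = 1} :=
    Equiv.subtypeEquivRight (fun _ => Iff.rfl)
  rw [Nat.card_congr e, Nat.card_eq_fintype_card, Fintype.card_subtype, ← Finset.univ_product_univ,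
    Finset.filter_product_right (fun a : Fˣ => (a : F) ^ 2 = 1), Finset.card_product, card_sq_one h2, Finset.card_univ, Fintype.card_units,
    mul_comm]

theorem card_tt (h2 : (2 : F) ≠ 0) : Nat.card {r : Fˣ × Fˣ // CC (true, r.1) (true, r.2)}
    = 2 * (Fintype.card F - 1) := by
  classical
  have e : {r : Fˣ × Fˣ // CC (true, r.1) (true, r.2)} ≃ {r : Fˣ × Fˣ // (r.1 : F) ^ 2 = (r.2 : F) ^ 2} :=
    Equiv.subtypeEquivRight (fun _ => Iff.rfl)
  rw [Nat.card_congr e, Nat.card_eq_fintype_card, Fintype.card_subtype, Finset.card_filter,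
    Fintype.sum_prod_type]
  have e1 : ∀ a : Fˣ, (∑ c : Fˣ, if (a : F) ^ 2 = (c : F) ^ 2 then 1 else 0) = 2 := by
    intro a; rw [← Finset.card_filter]; exact card_sq_eq h2 a
  simp only [e1, Finset.sum_const, Finset.card_univ, Fintype.card_units, smul_eq_mul]
  ring

theorem card_CC (h2 : (2 : F) ≠ 0) :
    Nat.card {p : (Bool × Fˣ) × (Bool × Fˣ) // CC p.1 p.2} = (Fintype.card F - 1) * (Fintype.card F - 1 + 6) := by
  classical
  rw [Nat.card_congr (splitEquiv CC), Nat.card_sigma, Fintype.sum_prod_type]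
  simp only [Fintype.sum_bool]
  rw [card_ff, card_ft h2, card_tf h2, card_tt h2]
  ring

/-- Let F be a finite field with q elements, q odd, and let d be a diagonal element of SL₂ over F whose diagonal entry a has a² ≠ 1 (such d exist exactly when q > 3). Then the centraliser of d is precisely the diagonal subgroup T; the normaliser of T has order 2(q − 1) and exactly (q + 5)/2 conjugacy classes; and every element of that normaliser outside T has square equal to −1. -/
theorem result {F : Type*} [Field F] [Fintype F] (hodd : Odd (Fintype.card F))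
    (d : Matrix.SpecialLinearGroup (Fin 2) F) (hd01 : (d : Matrix (Fin 2) (Fin 2) F) 0 1 = 0) (hd10 : (d : Matrix (Fin 2) (Fin 2) F) 1 0 = 0) (hda : (d : Matrix (Fin 2) (Fin 2) F) 0 0 ^ 2 ≠ 1) :
    (∀ g : Matrix.SpecialLinearGroup (Fin 2) F, g ∈ Subgroup.centralizer ({d} : Set (Matrix.SpecialLinearGroup (Fin 2) F)) ↔ ((g : Matrix (Fin 2) (Fin 2) F) 0 1 = 0 ∧ (g : Matrix (Fin 2) (Fin 2) F) 1 0 = 0)) ∧
    Nat.card (Subgroup.normalizer ((Subgroup.centralizer ({d} : Set (Matrix.SpecialLinearGroup (Fin 2) F))) : Set (Matrix.SpecialLinearGroup (Fin 2) F))) = 2 * (Fintype.card F - 1) ∧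
    Nat.card (ConjClasses (Subgroup.normalizer ((Subgroup.centralizer ({d} : Set (Matrix.SpecialLinearGroup (Fin 2) F))) : Set (Matrix.SpecialLinearGroup (Fin 2) F)))) = (Fintype.card F + 5) / 2 ∧
    ∀ g : Matrix.SpecialLinearGroup (Fin 2) F, g ∈ Subgroup.normalizer ((Subgroup.centralizer ({d} : Set (Matrix.SpecialLinearGroup (Fin 2) F))) : Set (Matrix.SpecialLinearGroup (Fin 2) F)) →
      g ∉ Subgroup.centralizer ({d} : Set (Matrix.SpecialLinearGroup (Fin 2) F)) → ((g * g) : Matrix (Fin 2) (Fin 2) F) = -1 := by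
  classical
  have hF : ringChar F ≠ 2 := by
    intro h
    have := FiniteField.even_card_of_char_two h
    rcases hodd with ⟨k, hk⟩
    omega
  have h2 : (2 : F) ≠ 0 := Ring.two_ne_zero hF
  have hq : 1 < Fintype.card F := Fintype.one_lt_card
  -- the parametrization of the normalizer
  let N := Subgroup.normalizer ((Subgroup.centralizer ({d} : Set (Matrix.SpecialLinearGroup (Fin 2) F))) : Set (Matrix.SpecialLinearGroup (Fin 2) F))
  have hmemN : ∀ x : Bool × Fˣ, psi x ∈ N := fun x =>
    (mem_norm d hd01 hd10 hda _).mpr ((psi_range _).mp ⟨x, rfl⟩)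
  let E : Bool × Fˣ ≃ N := Equiv.ofBijective (fun x => ⟨psi x, hmemN x⟩) (by
    constructor
    · intro x y h
      exact psi_inj (congrArg Subtype.val h)
    · rintro ⟨g, hg⟩
      obtain ⟨x, hx⟩ := (psi_range g).mpr ((mem_norm d hd01 hd10 hda g).mp hg)
      exact ⟨x, Subtype.ext hx⟩)
  have hcardN : Nat.card N = 2 * (Fintype.card F - 1) := by
    rw [← Nat.card_congr E, Nat.card_prod, Nat.card_units, Nat.card_eq_fintype_card, Nat.card_eq_fintype_card,
      Fintype.card_bool]
  refine ⟨mem_cent d hd01 hd10 hda, hcardN, ?_, ?_⟩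
  · -- class number
    have hcomm := card_comm_eq_card_conjClasses_mul_card N
    have hP : Nat.card {p : N × N // Commute p.1 p.2} = (Fintype.card F - 1) * (Fintype.card F - 1 + 6) := by
      rw [← card_CC h2]
      apply Nat.card_congr
      refine (Equiv.subtypeEquiv (Equiv.prodCongr E E) ?_).symm
      rintro ⟨x, y⟩
      rw [← psi_commute]
      simp only [Equiv.prodCongr_apply, Prod.map_fst, Prod.map_snd]
      rw [commute_iff_eq, Subtype.ext_iff]
      rfl
    rw [hP, hcardN] at hcomm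
    obtain ⟨m, hm⟩ : ∃ m, Fintype.card F = m + 2 := ⟨Fintype.card F - 2, by omega⟩
    rw [hm] at hcomm ⊢
    have hm1 : m + 2 - 1 = m + 1 := by omega
    rw [hm1] at hcomm
    have : Nat.card (ConjClasses N) * 2 = m + 1 + 6 := by
      apply Nat.eq_of_mul_eq_mul_left (Nat.succ_pos m)
      rw [Nat.succ_eq_add_one]
      linarith [hcomm]
    have hk : Nat.card (ConjClasses N) = (m + 2 + 5) / 2 := by omega
    exact hk
  · intro g hgN hgT
    rw [mem_norm d hd01 hd10 hda] at hgN
    rw [mem_cent d hd01 hd10 hda] at hgT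
    rcases hgN with h | ⟨h00, h11⟩
    · exact absurd h hgT
    · have hdet := det2 g
      rw [h00, h11] at hdet
      ext i j
      fin_cases i <;> fin_cases j
      · change ((g * g : Matrix.SpecialLinearGroup (Fin 2) F) : Matrix (Fin 2) (Fin 2) F) 0 0 = _
        rw [mul_00, h00]; simp only [Matrix.neg_apply, Matrix.one_apply_eq]; linear_combination -hdet
      · change ((g * g : Matrix.SpecialLinearGroup (Fin 2) F) : Matrix (Fin 2) (Fin 2) F) 0 1 = _
        rw [mul_01, h00, h11]; simp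
      · change ((g * g : Matrix.SpecialLinearGroup (Fin 2) F) : Matrix (Fin 2) (Fin 2) F) 1 0 = _
        rw [mul_10, h00, h11]; simp
      · change ((g * g : Matrix.SpecialLinearGroup (Fin 2) F) : Matrix (Fin 2) (Fin 2) F) 1 1 = _
        rw [mul_11, h11]; simp only [Matrix.neg_apply, Matrix.one_apply_eq]; linear_combination -hdet

end Cfsg.Agent.S2428
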