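import Cfsg.Statements.S2429
import Cfsg.Agent.Lib.Helper40.NonsplitConj
import Cfsg.Agent.Lib.Helper40.IndexTwo

set_option autoImplicit false
open Cfsg

namespace Cfsg.Agent.S2429

open Cfsg.Agent.Helper40

variable {F : Type*} [Field F]

local notation "SL2F" => Matrix.SpecialLinearGroup (Fin 2) F
local notation "M2F" => Matrix (Fin 2) (Fin 2) F

/-- minus the identity -/
def negOne : SL2F := mk2 (-1) 0 0 (-1) (by ring)

theorem sq_eq_one_of_mem (h2 : (2 : F) ≠ 0) {δ : F} (hδ : ¬ IsSquare δ) (g : SL2F) (hg : g ∈ nsTorus δ)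
    (hsq : g * g = 1) : g = 1 ∨ g = negOne := by
  have hδ0 := nonsquare_ne_zero hδ
  have hn := nsTorus_norm δ g hg
  obtain ⟨e1, e2⟩ := hg
  have h00 := congrArg (fun m : SL2F => (m : M2F) 0 0) hsq
  simp only [mul_00, one_00, e2] at h00
  have hb : (g : M2F) 1 0 = 0 := by
    have : (2 : F) * δ * (g : M2F) 1 0 ^ 2 = 0 := by linear_combination h00 - hn
    rcases mul_eq_zero.mp this with h | h
    · exact absurd h (mul_ne_zero h2 hδ0)
    · exact pow_eq_zero_iff (two_ne_zero) |>.mp h
  rw [hb] at hn e2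
  have hsq' : (g : M2F) 0 0 ^ 2 = 1 := by linear_combination hn
  rcases sq_eq_one_iff.mp hsq' with ha | ha
  · left
    apply ext2
    · rw [ha, one_00]
    · rw [e2, one_01]; ring
    · rw [hb, one_10]
    · rw [← e1, ha, one_11]
  · right
    apply ext2
    · rw [ha]; rfl
    · rw [e2]; simp [negOne]
    · rw [hb]; rfl
    · rw [← e1, ha]; rfl

theorem negOne_mem (δ : F) : (negOne : SL2F) ∈ nsTorus δ := by
  rw [mem_nsTorus]; simp [negOne]

theorem negOne_sq : (negOne : SL2F) * negOne = 1 := by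
  apply ext2 <;> simp [mul_00, mul_01, mul_10, mul_11, negOne]

theorem negOne_ne_one (h2 : (2 : F) ≠ 0) : (negOne : SL2F) ≠ 1 := by
  intro h
  have h00 := congrArg (fun m : SL2F => (m : M2F) 0 0) h
  simp only [negOne, mk2_00, one_00] at h00
  apply h2
  linear_combination -h00

theorem twist_sq (δ : F) (g : SL2F) (hg : g ∈ nsTwist δ) : ((g * g : SL2F) : M2F) = -1 := by
  obtain ⟨e1, e2⟩ := hg
  have hdet := det2 g
  rw [e1, e2] at hdet
  ext i j
  fin_cases i <;> fin_cases j
  · change ((g * g : SL2F) : M2F) 0 0 = _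
    rw [mul_00, e2]; simp only [Matrix.neg_apply, Matrix.one_apply_eq]; linear_combination -hdet
  · change ((g * g : SL2F) : M2F) 0 1 = _
    rw [mul_01, e1, e2]; simp; ring
  · change ((g * g : SL2F) : M2F) 1 0 = _
    rw [mul_10, e1]; simp; ring
  · change ((g * g : SL2F) : M2F) 1 1 = _
    rw [mul_11, e1, e2]; simp only [Matrix.neg_apply, Matrix.one_apply_eq]; linear_combination -hdet

/-- Let F be a finite field with q elements, q odd. Then SL₂ over F contains a cyclic subgroup T′ of order q + 1 (a non-split torus) with the following properties: T′ is its own centraliser, and indeed the centraliser of each element of T′ other than 1 and −1 is exactly T′; every element of SL₂ having no eigenvector in F² is conjugate to an element of T′; the normaliser of T′ has order 2(q + 1) and exactly (q + 7)/2 conjugacy classes; and every element of that normaliser outside T′ has square −1. -/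
theorem result {F : Type*} [Field F] [Fintype F] (hodd : Odd (Fintype.card F)) :
    ∃ T' : Subgroup (Matrix.SpecialLinearGroup (Fin 2) F), IsCyclic T' ∧ Nat.card T' = Fintype.card F + 1 ∧
      Subgroup.centralizer ((T' : Set (Matrix.SpecialLinearGroup (Fin 2) F))) = T' ∧
      (∀ g : Matrix.SpecialLinearGroup (Fin 2) F, g ∈ T' → (g : Matrix (Fin 2) (Fin 2) F) ≠ 1 → (g : Matrix (Fin 2) (Fin 2) F) ≠ -1 → Subgroup.centralizer ({g} : Set (Matrix.SpecialLinearGroup (Fin 2) F)) = T') ∧
      (∀ g : Matrix.SpecialLinearGroup (Fin 2) F, (∀ (c : F) (v : Fin 2 → F), v ≠ 0 → (g : Matrix (Fin 2) (Fin 2) F).mulVec v ≠ c • v) → ∃ h : Matrix.SpecialLinearGroup (Fin 2) F, h * g * h⁻¹ ∈ T') ∧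
      Nat.card (Subgroup.normalizer (T' : Set (Matrix.SpecialLinearGroup (Fin 2) F))) = 2 * (Fintype.card F + 1) ∧
      Nat.card (ConjClasses (Subgroup.normalizer (T' : Set (Matrix.SpecialLinearGroup (Fin 2) F)))) = (Fintype.card F + 7) / 2 ∧
      ∀ g : Matrix.SpecialLinearGroup (Fin 2) F, g ∈ Subgroup.normalizer (T' : Set (Matrix.SpecialLinearGroup (Fin 2) F)) → g ∉ T' → ((g * g) : Matrix (Fin 2) (Fin 2) F) = -1 := by
  classical
  have hF : ringChar F ≠ 2 := by
    intro h
    have := FiniteField.even_card_of_char_two h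
    rcases hodd with ⟨k, hk⟩
    omega
  have h2 : (2 : F) ≠ 0 := Ring.two_ne_zero hF
  have hodd' : Fintype.card F % 2 = 1 := Nat.odd_iff.mp hodd
  obtain ⟨δ, hδ⟩ := FiniteField.exists_nonsquare hF
  have hδ0 := nonsquare_ne_zero hδ
  obtain ⟨s₀, hs₀⟩ := exists_nsTwist δ hδ0 hodd'
  -- the normalizer as a group
  have hmemN := mem_normalizer_nsTorus hδ h2
  have hs₀N : s₀ ∈ Subgroup.normalizer ((nsTorus δ : Subgroup (Matrix.SpecialLinearGroup (Fin 2) F)) : Set (Matrix.SpecialLinearGroup (Fin 2) F)) :=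
    (hmemN s₀).mpr (Or.inr hs₀)
  let N := Subgroup.normalizer ((nsTorus δ : Subgroup (Matrix.SpecialLinearGroup (Fin 2) F)) : Set (Matrix.SpecialLinearGroup (Fin 2) F))
  let A : Subgroup N := (nsTorus δ).subgroupOf N
  let s : N := ⟨s₀, hs₀N⟩
  have hA : ∀ a : N, a ∈ A ↔ (a : Matrix.SpecialLinearGroup (Fin 2) F) ∈ nsTorus δ := fun a => Subgroup.mem_subgroupOf
  have hcommA : ∀ a ∈ A, ∀ b ∈ A, a * b = b * a := by
    intro a ha b hb
    apply Subtype.ext
    exact nsTorus_comm δ a b ((hA a).mp ha) ((hA b).mp hb)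
  have hsA : s ∉ A := by
    intro h
    exact nsTwist_not_mem δ h2 s₀ hs₀ ((hA s).mp h)
  have hcover : ∀ g : N, g ∈ A ∨ s⁻¹ * g ∈ A := by
    intro g
    rcases (hmemN g).mp g.2 with h | h
    · left; exact (hA g).mpr h
    · right
      rw [hA]
      exact nsTwist_mul δ _ _ (nsTwist_inv δ s₀ hs₀) h
  have hinvA : ∀ a ∈ A, s * a * s⁻¹ = a⁻¹ := by
    intro a ha
    apply Subtype.ext
    exact nsTwist_conj δ s₀ a hs₀ ((hA a).mp ha)
  have hcardA : Nat.card A = Fintype.card F + 1 := by
    rw [Nat.card_congr (Subgroup.subgroupOfEquivOfLe (Subgroup.le_normalizer (H := nsTorus δ))).toEquiv]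
    exact card_nsTorus hδ h2
  have h2A : Nat.card {a : A // a * a = 1} = 2 := by
    rw [Nat.card_eq_two_iff]
    have hone : ((1 : A) * 1 = 1) := one_mul 1
    have hnegN : (negOne : Matrix.SpecialLinearGroup (Fin 2) F) ∈ N := Subgroup.le_normalizer (negOne_mem δ)
    let m1 : A := ⟨⟨negOne, hnegN⟩, (hA _).mpr (negOne_mem δ)⟩
    have hm1 : m1 * m1 = 1 := by
      apply Subtype.ext
      apply Subtype.ext
      exact negOne_sq
    refine ⟨⟨1, hone⟩, ⟨m1, hm1⟩, ?_, ?_⟩
    · intro h
      have h' := congrArg (fun z : {a : A // a * a = 1} => ((z.1 : N) : Matrix.SpecialLinearGroup (Fin 2) F)) h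
      exact negOne_ne_one h2 h'.symm
    · ext ⟨a, ha⟩
      simp only [Set.mem_insert_iff, Set.mem_singleton_iff, Set.mem_univ, iff_true]
      have ha' : ((a : N) : Matrix.SpecialLinearGroup (Fin 2) F) * ((a : N) : Matrix.SpecialLinearGroup (Fin 2) F) = 1 := by
        have := congrArg (fun z : A => ((z : N) : Matrix.SpecialLinearGroup (Fin 2) F)) ha
        simpa using this
      rcases sq_eq_one_of_mem h2 hδ _ ((hA a).mp a.2) ha' with h | h
      · left
        apply Subtype.ext
        apply Subtype.ext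
        apply Subtype.ext
        exact h
      · right
        apply Subtype.ext
        apply Subtype.ext
        apply Subtype.ext
        exact h
  have hcardN : Nat.card N = 2 * (Fintype.card F + 1) := by
    rw [card_index_two A s hsA hcover, hcardA]
  have hclasses := card_conjClasses_index_two A s hcommA hsA hcover hinvA h2A
  rw [hcardA] at hclasses
  refine ⟨nsTorus δ, isCyclic_nsTorus hδ, card_nsTorus hδ h2, centralizer_nsTorus hδ h2, ?_, ?_, hcardN, ?_, ?_⟩
  · intro g hg h1 hm1
    exact centralizer_nsTorus_elt hδ g hg (nsTorus_b_ne_zero δ g hg h1 hm1)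
  · intro g hg
    exact exists_conj_mem_nsTorus hδ hodd' h2 g hg
  · have hk : Nat.card (ConjClasses N) = (Fintype.card F + 7) / 2 := by omega
    exact hk
  · intro g hgN hgT
    rcases (hmemN g).mp hgN with h | h
    · exact absurd h hgT
    · exact twist_sq δ g h

end Cfsg.Agent.S2429
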