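import Cfsg.Statements.S2430
import Mathlib
import Cfsg.Agent.Lib.Helper40.SL2
import Cfsg.Agent.Lib.Helper40.IndexTwo
import Cfsg.Agent.Lib.Helper40.NonsplitTorus
import Cfsg.Agent.Lib.Helper40.SylowTorus
import Cfsg.Agent.S2428

set_option autoImplicit false

namespace Cfsg.Agent.S2430

open Cfsg.Agent.Helper40 Matrix

variable {F : Type*} [Field F]

local notation "SL2F" => Matrix.SpecialLinearGroup (Fin 2) F
local notation "M2F" => Matrix (Fin 2) (Fin 2) F

theorem val_sub (q ℓ : ℕ) (hq1 : 1 < q) (hℓ : ℓ.Prime) (hℓ2 : ℓ ≠ 2) (h : ℓ ∣ q - 1) :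
    (q * (q - 1) * (q + 1)).factorization ℓ = (q - 1).factorization ℓ := by
  have h1 : ¬ ℓ ∣ q := by
    intro h'
    have := Nat.dvd_sub h' h
    have e : q - (q - 1) = 1 := by omega
    rw [e] at this
    exact hℓ.one_lt.ne' (Nat.dvd_one.mp this)
  have h2 : ¬ ℓ ∣ q + 1 := by
    intro h'
    have := Nat.dvd_sub h' h
    have e : q + 1 - (q - 1) = 2 := by omega
    rw [e] at this
    exact hℓ2 ((Nat.prime_dvd_prime_iff_eq hℓ Nat.prime_two).mp this)
  have hq0 : q ≠ 0 := by omega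
  have hq10 : q - 1 ≠ 0 := by omega
  rw [Nat.factorization_mul (Nat.mul_ne_zero hq0 hq10) (by omega), Nat.factorization_mul hq0 hq10]
  simp only [Finsupp.add_apply]
  rw [Nat.factorization_eq_zero_of_not_dvd h1, Nat.factorization_eq_zero_of_not_dvd h2]
  omega

theorem val_add (q ℓ : ℕ) (hq1 : 1 < q) (hℓ : ℓ.Prime) (hℓ2 : ℓ ≠ 2) (h : ℓ ∣ q + 1) :
    (q * (q - 1) * (q + 1)).factorization ℓ = (q + 1).factorization ℓ := by
  have h1 : ¬ ℓ ∣ q := by
    intro h'
    have := Nat.dvd_sub h h'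
    have e : q + 1 - q = 1 := by omega
    rw [e] at this
    exact hℓ.one_lt.ne' (Nat.dvd_one.mp this)
  have h2 : ¬ ℓ ∣ q - 1 := by
    intro h'
    have := Nat.dvd_sub h h'
    have e : q + 1 - (q - 1) = 2 := by omega
    rw [e] at this
    exact hℓ2 ((Nat.prime_dvd_prime_iff_eq hℓ Nat.prime_two).mp this)
  have hq0 : q ≠ 0 := by omega
  have hq10 : q - 1 ≠ 0 := by omega
  rw [Nat.factorization_mul (Nat.mul_ne_zero hq0 hq10) (by omega), Nat.factorization_mul hq0 hq10]
  simp only [Finsupp.add_apply]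
  rw [Nat.factorization_eq_zero_of_not_dvd h1, Nat.factorization_eq_zero_of_not_dvd h2]
  omega

/-- an element whose matrix is `-1` has order dividing two -/
theorem orderOf_dvd_two_of_neg_one (g : SL2F) (h : (g : M2F) = -1) : orderOf g ∣ 2 := by
  apply orderOf_dvd_of_pow_eq_one
  rw [pow_two]
  apply Subtype.ext
  rw [Matrix.SpecialLinearGroup.coe_mul, h]
  simp

theorem ne_of_orderOf_prime (ℓ : ℕ) (hℓ : ℓ.Prime) (hℓ2 : ℓ ≠ 2) (g : SL2F) (hg : orderOf g = ℓ) :
    (g : M2F) ≠ 1 ∧ (g : M2F) ≠ -1 := by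
  constructor
  · intro h
    have : g = 1 := Subtype.ext h
    rw [this, orderOf_one] at hg
    exact hℓ.one_lt.ne hg
  · intro h
    have := orderOf_dvd_two_of_neg_one g h
    rw [hg] at this
    exact hℓ2 ((Nat.prime_dvd_prime_iff_eq hℓ Nat.prime_two).mp this)

theorem ns_card_normalizer [Fintype F] (hodd : Odd (Fintype.card F)) {δ : F} (hδ : ¬ IsSquare δ)
    (h2 : (2 : F) ≠ 0) :
    Nat.card (Subgroup.normalizer ((nsTorus δ : Subgroup SL2F) : Set SL2F)) = 2 * (Fintype.card F + 1) := by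
  classical
  have hodd' : Fintype.card F % 2 = 1 := Nat.odd_iff.mp hodd
  have hδ0 := nonsquare_ne_zero hδ
  obtain ⟨s₀, hs₀⟩ := exists_nsTwist δ hδ0 hodd'
  have hmemN := mem_normalizer_nsTorus hδ h2
  have hs₀N : s₀ ∈ Subgroup.normalizer ((nsTorus δ : Subgroup SL2F) : Set SL2F) :=
    (hmemN s₀).mpr (Or.inr hs₀)
  let N := Subgroup.normalizer ((nsTorus δ : Subgroup SL2F) : Set SL2F)
  let A : Subgroup N := (nsTorus δ).subgroupOf N
  let s : N := ⟨s₀, hs₀N⟩
  have hA : ∀ a : N, a ∈ A ↔ (a : SL2F) ∈ nsTorus δ := fun a => Subgroup.mem_subgroupOf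
  have hsA : s ∉ A := by
    intro h
    exact nsTwist_not_mem δ h2 s₀ hs₀ ((hA s).mp h)
  have hcover : ∀ g : N, g ∈ A ∨ s⁻¹ * g ∈ A := by
    intro g
    rcases (hmemN g).mp g.2 with h | h
    · left; exact (hA g).mpr h
    · right
      rw [hA]
      exact nsTwist_mul δ _ _ (nsTwist_inv δ s₀ hs₀) h
  have hcardA : Nat.card A = Fintype.card F + 1 := by
    rw [Nat.card_congr (Subgroup.subgroupOfEquivOfLe (Subgroup.le_normalizer (H := nsTorus δ))).toEquiv]
    exact card_nsTorus hδ h2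
  change Nat.card N = _
  rw [card_index_two A s hsA hcover, hcardA]

theorem ns_case [Fintype F] (hodd : Odd (Fintype.card F)) (ℓ : ℕ) [Fact ℓ.Prime] (hℓ : ℓ ≠ 2)
    (P : Sylow ℓ SL2F) (hdvd : ℓ ∣ Fintype.card F + 1) :
    Nat.card (Subgroup.centralizer ((P : Subgroup SL2F) : Set SL2F)) = Fintype.card F + 1 ∧
    IsCyclic (Subgroup.centralizer ((P : Subgroup SL2F) : Set SL2F)) ∧
    Nat.card (Subgroup.normalizer ((P : Subgroup SL2F) : Set SL2F)) = 2 * (Fintype.card F + 1) := by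
  classical
  have hℓp : ℓ.Prime := Fact.out
  have hF : ringChar F ≠ 2 := by
    intro h
    have := FiniteField.even_card_of_char_two h
    rcases hodd with ⟨k, hk⟩
    omega
  have h2 : (2 : F) ≠ 0 := Ring.two_ne_zero hF
  have hq : 1 < Fintype.card F := Fintype.one_lt_card
  obtain ⟨δ, hδ⟩ := FiniteField.exists_nonsquare hF
  have hcardT := card_nsTorus hδ h2
  have hcyc := isCyclic_nsTorus hδ
  have hmemN := mem_normalizer_nsTorus hδ h2
  obtain ⟨x, hC, hN⟩ := sylow_cent_norm ℓ (nsTorus δ)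
    (fun a ha b hb => nsTorus_comm δ a b ha hb)
    (by
      intro n hn t ht
      rcases (hmemN n).mp hn with h | h
      · left
        rw [nsTorus_comm δ n t h ht, mul_inv_cancel_right]
      · right
        exact nsTwist_conj δ n t h ht)
    (by
      intro g hg hord y hy
      obtain ⟨h1, hm1⟩ := ne_of_orderOf_prime ℓ hℓp hℓ g hord
      have hb := nsTorus_b_ne_zero δ g hg h1 hm1
      rw [← centralizer_nsTorus_elt hδ g hg hb, Subgroup.mem_centralizer_iff]
      intro z hz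
      rw [Set.mem_singleton_iff] at hz
      rw [hz, hy])
    (by rw [hcardT]; exact hdvd)
    (by rw [hcardT, card_SL2]; exact val_add _ ℓ hq hℓp hℓ hdvd)
    P
  rw [hC, hN]
  refine ⟨?_, ?_, ?_⟩
  · rw [card_conj_map, hcardT]
  · exact isCyclic_conj_map x (nsTorus δ)
  · rw [card_conj_map]
    exact ns_card_normalizer hodd hδ h2

/-- the split torus -/
def spTorus : Subgroup SL2F where
  carrier := {g | (g : M2F) 0 1 = 0 ∧ (g : M2F) 1 0 = 0}
  mul_mem' := by
    rintro g h ⟨hg1, hg2⟩ ⟨hh1, hh2⟩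
    refine ⟨?_, ?_⟩
    · rw [mul_01, hg1, hh1]; ring
    · rw [mul_10, hg2, hh2]; ring
  one_mem' := ⟨one_01, one_10⟩
  inv_mem' := by
    rintro g ⟨hg1, hg2⟩
    refine ⟨?_, ?_⟩
    · rw [inv_01, hg1, neg_zero]
    · rw [inv_10, hg2, neg_zero]

theorem mem_spTorus (g : SL2F) : g ∈ spTorus ↔ ((g : M2F) 0 1 = 0 ∧ (g : M2F) 1 0 = 0) := Iff.rfl

theorem spTorus_comm (g h : SL2F) (hg : g ∈ spTorus) (hh : h ∈ spTorus) : g * h = h * g := by
  obtain ⟨hg1, hg2⟩ := hg
  obtain ⟨hh1, hh2⟩ := hh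
  rw [eq_iff2', mul_00, mul_01, mul_10, mul_11, mul_00, mul_01, mul_10, mul_11, hg1, hg2, hh1, hh2]
  refine ⟨by ring, by ring, by ring, by ring⟩

/-- the split torus is the multiplicative group of the field -/
def spHom : Fˣ →* SL2F where
  toFun a := S2428.dg a
  map_one' := by
    apply ext2 <;> simp [S2428.dg, one_00, one_01, one_10, one_11]
  map_mul' a b := by
    apply ext2 <;> simp [S2428.dg, mul_00, mul_01, mul_10, mul_11, mul_comm]

theorem spHom_inj : Function.Injective (spHom (F := F)) := by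
  intro a b h
  have := congrArg (fun g : SL2F => (g : M2F) 0 0) h
  simp only [spHom, S2428.dg, MonoidHom.coe_mk, OneHom.coe_mk, mk2_00] at this
  exact Units.ext this

theorem spHom_range : (spHom (F := F)).range = spTorus := by
  ext g
  rw [MonoidHom.mem_range, mem_spTorus]
  constructor
  · rintro ⟨a, rfl⟩
    simp [spHom, S2428.dg]
  · rintro ⟨h01, h10⟩
    refine ⟨Units.mk0 _ (g00_ne_zero_of_g10 g h10), ?_⟩
    apply ext2 <;> simp only [spHom, S2428.dg, MonoidHom.coe_mk, OneHom.coe_mk, mk2_00, mk2_01, mk2_10,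
      mk2_11, Units.val_mk0]
    · exact h01.symm
    · exact h10.symm
    · exact (g11_eq_inv_of_g10 g h10).symm

theorem card_spTorus [Fintype F] : Nat.card (spTorus (F := F)) = Fintype.card F - 1 := by
  rw [← spHom_range, ← Nat.card_congr (MonoidHom.ofInjective spHom_inj).toEquiv, Nat.card_units,
    Nat.card_eq_fintype_card]

theorem isCyclic_spTorus [Finite F] : IsCyclic (spTorus (F := F)) := by
  rw [← spHom_range]
  exact (MonoidHom.ofInjective spHom_inj).isCyclic.mp inferInstance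

theorem sq_ne_one_of_orderOf (ℓ : ℕ) (hℓ : ℓ.Prime) (hℓ2 : ℓ ≠ 2) (g : SL2F) (hg : g ∈ spTorus)
    (hord : orderOf g = ℓ) : (g : M2F) 0 0 ^ 2 ≠ 1 := by
  intro hsq
  obtain ⟨h01, h10⟩ := hg
  have hdet := det2 g
  rw [h01, zero_mul, sub_zero] at hdet
  have h11 : (g : M2F) 1 1 = (g : M2F) 0 0 := by
    have : (g : M2F) 1 1 = (g : M2F) 0 0 ^ 2 * (g : M2F) 1 1 := by rw [hsq, one_mul]
    rw [this]; linear_combination (g : M2F) 0 0 * hdet
  have hgg : g ^ 2 = 1 := by
    rw [pow_two, eq_iff2', mul_00, mul_01, mul_10, mul_11, h01, h10, h11, one_00, one_01, one_10, one_11]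
    refine ⟨by linear_combination hsq, by ring, by ring, by linear_combination hsq⟩
  have := orderOf_dvd_of_pow_eq_one hgg
  rw [hord] at this
  exact hℓ2 ((Nat.prime_dvd_prime_iff_eq hℓ Nat.prime_two).mp this)

theorem sp_case [Fintype F] (hodd : Odd (Fintype.card F)) (ℓ : ℕ) [Fact ℓ.Prime] (hℓ : ℓ ≠ 2)
    (P : Sylow ℓ SL2F) (hdvd : ℓ ∣ Fintype.card F - 1) :
    Nat.card (Subgroup.centralizer ((P : Subgroup SL2F) : Set SL2F)) = Fintype.card F - 1 ∧
    IsCyclic (Subgroup.centralizer ((P : Subgroup SL2F) : Set SL2F)) ∧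
    Nat.card (Subgroup.normalizer ((P : Subgroup SL2F) : Set SL2F)) = 2 * (Fintype.card F - 1) := by
  classical
  have hℓp : ℓ.Prime := Fact.out
  have hq : 1 < Fintype.card F := Fintype.one_lt_card
  have hcardT := card_spTorus (F := F)
  have hcyc := isCyclic_spTorus (F := F)
  -- an element of order ℓ
  have hdvdT : ℓ ∣ Nat.card (spTorus (F := F)) := by rw [hcardT]; exact hdvd
  obtain ⟨d₀, hd₀⟩ := exists_prime_orderOf_dvd_card' (G := spTorus (F := F)) ℓ hdvdT
  have hd₀' : orderOf (d₀ : SL2F) = ℓ := by rw [Subgroup.orderOf_coe]; exact hd₀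
  have hd₀T : (d₀ : SL2F) ∈ spTorus := d₀.2
  have hda : ((d₀ : SL2F) : M2F) 0 0 ^ 2 ≠ 1 := sq_ne_one_of_orderOf ℓ hℓp hℓ (d₀ : SL2F) hd₀T hd₀'
  obtain ⟨hd01, hd10⟩ := (mem_spTorus _).mp hd₀T
  have hTeq : Subgroup.centralizer ({(d₀ : SL2F)} : Set SL2F) = spTorus := by
    ext g
    rw [S2428.mem_cent _ hd01 hd10 hda, mem_spTorus]
  have hmemN := S2428.mem_norm _ hd01 hd10 hda
  rw [hTeq] at hmemN
  have hcardN := (S2428.result hodd _ hd01 hd10 hda).2.1
  rw [hTeq] at hcardN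
  obtain ⟨x, hC, hN⟩ := sylow_cent_norm ℓ (spTorus (F := F))
    (fun a ha b hb => spTorus_comm a b ha hb)
    (by
      intro n hn t ht
      rcases (hmemN n).mp hn with h | h
      · left
        rw [spTorus_comm n t h ht, mul_inv_cancel_right]
      · right
        obtain ⟨h00, h11⟩ := h
        obtain ⟨t01, t10⟩ := ht
        have hdet := det2 n
        rw [h00, h11] at hdet
        rw [eq_iff2']
        simp only [mul_00, mul_01, mul_10, mul_11, inv_00, inv_01, inv_10, inv_11, h00, h11, t01, t10]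
        refine ⟨?_, by ring, by ring, ?_⟩
        · linear_combination (t : M2F) 1 1 * hdet
        · linear_combination (t : M2F) 0 0 * hdet)
    (by
      intro g hg hord y hy
      have hga := sq_ne_one_of_orderOf ℓ hℓp hℓ g hg hord
      obtain ⟨g01, g10⟩ := hg
      rw [mem_spTorus, ← S2428.mem_cent g g01 g10 hga, Subgroup.mem_centralizer_iff]
      intro z hz
      rw [Set.mem_singleton_iff] at hz
      rw [hz, hy])
    hdvdT
    (by rw [hcardT, card_SL2]; exact val_sub _ ℓ hq hℓp hℓ hdvd)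
    P
  rw [hC, hN]
  refine ⟨?_, ?_, ?_⟩
  · rw [card_conj_map, hcardT]
  · exact isCyclic_conj_map x spTorus
  · rw [card_conj_map]
    exact hcardN

theorem result {F : Type*} [Field F] [Fintype F] (hodd : Odd (Fintype.card F)) (ℓ : ℕ) [Fact ℓ.Prime] (hℓ : ℓ ≠ 2)
    (P : Sylow ℓ (Matrix.SpecialLinearGroup (Fin 2) F)) :
    (ℓ ∣ Fintype.card F - 1 →
      Nat.card (Subgroup.centralizer ((P : Subgroup (Matrix.SpecialLinearGroup (Fin 2) F)) : Set (Matrix.SpecialLinearGroup (Fin 2) F))) = Fintype.card F - 1 ∧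
      IsCyclic (Subgroup.centralizer ((P : Subgroup (Matrix.SpecialLinearGroup (Fin 2) F)) : Set (Matrix.SpecialLinearGroup (Fin 2) F))) ∧
      Nat.card (Subgroup.normalizer ((P : Subgroup (Matrix.SpecialLinearGroup (Fin 2) F)) : Set (Matrix.SpecialLinearGroup (Fin 2) F))) = 2 * (Fintype.card F - 1)) ∧
    (ℓ ∣ Fintype.card F + 1 →
      Nat.card (Subgroup.centralizer ((P : Subgroup (Matrix.SpecialLinearGroup (Fin 2) F)) : Set (Matrix.SpecialLinearGroup (Fin 2) F))) = Fintype.card F + 1 ∧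
      IsCyclic (Subgroup.centralizer ((P : Subgroup (Matrix.SpecialLinearGroup (Fin 2) F)) : Set (Matrix.SpecialLinearGroup (Fin 2) F))) ∧
      Nat.card (Subgroup.normalizer ((P : Subgroup (Matrix.SpecialLinearGroup (Fin 2) F)) : Set (Matrix.SpecialLinearGroup (Fin 2) F))) = 2 * (Fintype.card F + 1)) :=
  ⟨sp_case hodd ℓ hℓ P, ns_case hodd ℓ hℓ P⟩

end Cfsg.Agent.S2430
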