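import Cfsg.Statements.S2431
import Mathlib
import Cfsg.Agent.Lib.Helper40.SL2
import Cfsg.Agent.Lib.Helper40.NonsplitTorus
import Cfsg.Agent.Lib.Helper40.SylowTwo
import Cfsg.Agent.S2428
import Cfsg.Agent.S2429
import Cfsg.Agent.S2430

set_option autoImplicit false

namespace Cfsg.Agent.S2431

open Cfsg.Agent.Helper40 Matrix

variable {F : Type*} [Field F]

local notation "SL2F" => Matrix.SpecialLinearGroup (Fin 2) F
local notation "M2F" => Matrix (Fin 2) (Fin 2) F

/-! ### arithmetic -/

theorem fact_two_zero (n : ℕ) (h : n % 2 = 1) : n.factorization 2 = 0 :=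
  Nat.factorization_eq_zero_of_not_dvd (by omega)

theorem fact_two_one (n : ℕ) (h : n % 4 = 2) : n.factorization 2 = 1 := by
  have hn : n ≠ 0 := by omega
  have h1 : 1 ≤ n.factorization 2 :=
    (Nat.prime_two.pow_dvd_iff_le_factorization hn).mp (by norm_num; omega)
  have h2 : ¬ 2 ≤ n.factorization 2 := fun h' => by
    have := (Nat.prime_two.pow_dvd_iff_le_factorization hn).mpr h'
    norm_num at this; omega
  omega

theorem two_le_fact (n : ℕ) (hn : n ≠ 0) (h : n % 4 = 0) : 2 ≤ n.factorization 2 :=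
  (Nat.prime_two.pow_dvd_iff_le_factorization hn).mp (by norm_num; omega)

theorem three_le_fact (n : ℕ) (hn : n ≠ 0) (h : n % 8 = 0) : 3 ≤ n.factorization 2 :=
  (Nat.prime_two.pow_dvd_iff_le_factorization hn).mp (by norm_num; omega)

theorem fact_eq_two (n : ℕ) (h : n % 8 = 4) : n.factorization 2 = 2 := by
  have hn : n ≠ 0 := by omega
  have h1 : 2 ≤ n.factorization 2 :=
    (Nat.prime_two.pow_dvd_iff_le_factorization hn).mp (by norm_num; omega)
  have h2 : ¬ 3 ≤ n.factorization 2 := fun h' => by
    have := (Nat.prime_two.pow_dvd_iff_le_factorization hn).mpr h'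
    norm_num at this; omega
  omega

theorem odd_ordCompl (n : ℕ) (hn : n ≠ 0) : Odd (n / 2 ^ n.factorization 2) := by
  have := Nat.not_dvd_ordCompl Nat.prime_two hn
  rw [Nat.odd_iff]
  omega

theorem val_card (q k : ℕ) (hq : 1 < q) (h : (q - 1).factorization 2 + (q + 1).factorization 2 = k + 1)
    (hodd : q % 2 = 1) : (q * (q - 1) * (q + 1)).factorization 2 = k + 1 := by
  have hq0 : q ≠ 0 := by omega
  have hq10 : q - 1 ≠ 0 := by omega
  rw [Nat.factorization_mul (Nat.mul_ne_zero hq0 hq10) (by omega), Nat.factorization_mul hq0 hq10]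
  simp only [Finsupp.add_apply]
  rw [fact_two_zero q hodd]
  omega

/-! ### general facts on `SL₂` -/

theorem negOne_coe : ((S2429.negOne : SL2F) : M2F) = -1 := by
  ext i j
  fin_cases i <;> fin_cases j <;> simp [S2429.negOne, mk2]

theorem negOne_central (g : SL2F) : g * S2429.negOne = S2429.negOne * g := by
  rw [eq_iff2']
  simp [mul_00, mul_01, mul_10, mul_11, S2429.negOne]

theorem mem_center_iff' (c : SL2F) :
    c ∈ Subgroup.center SL2F ↔ (c = 1 ∨ c = S2429.negOne) := by
  constructor
  · intro hc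
    rw [Subgroup.mem_center_iff] at hc
    have hu := hc (mk2 1 1 0 1 (by ring))
    have hl := hc (mk2 1 0 1 1 (by ring))
    rw [eq_iff2'] at hu hl
    simp only [mul_00, mul_01, mul_10, mul_11, mk2_00, mk2_01, mk2_10, mk2_11] at hu hl
    obtain ⟨u1, u2, -, -⟩ := hu
    obtain ⟨l1, -, -, -⟩ := hl
    have h10 : (c : M2F) 1 0 = 0 := by linear_combination u1
    have h01 : (c : M2F) 0 1 = 0 := by linear_combination -l1
    have h11 : (c : M2F) 1 1 = (c : M2F) 0 0 := by linear_combination u2
    have hdet := det2 c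
    rw [h10, h11, mul_zero, sub_zero] at hdet
    have hsq : (c : M2F) 0 0 ^ 2 = 1 := by rw [pow_two]; exact hdet
    rcases sq_eq_one_iff.mp hsq with ha | ha
    · left
      apply ext2
      · rw [ha, one_00]
      · rw [h01, one_01]
      · rw [h10, one_10]
      · rw [h11, ha, one_11]
    · right
      apply ext2 <;> simp only [S2429.negOne, mk2_00, mk2_01, mk2_10, mk2_11]
      · exact ha
      · exact h01
      · exact h10
      · rw [h11, ha]
  · rintro (rfl | rfl)
    · exact Subgroup.one_mem _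
    · rw [Subgroup.mem_center_iff]
      intro g
      exact negOne_central g

theorem trace_zero_of_sq (i : SL2F) (hi : i * i = S2429.negOne) : (i : M2F) 1 1 = -(i : M2F) 0 0 := by
  have hdet := det2 i
  have h00 := congrArg (fun m : SL2F => (m : M2F) 0 0) hi
  have h01 := congrArg (fun m : SL2F => (m : M2F) 0 1) hi
  simp only [mul_00, mul_01, S2429.negOne, mk2_00, mk2_01] at h00 h01
  by_contra hne
  have hne' : (i : M2F) 0 0 + (i : M2F) 1 1 ≠ 0 := by
    intro h; apply hne; linear_combination h
  have ha : (i : M2F) 0 0 = 0 := by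
    have : ((i : M2F) 0 0 + (i : M2F) 1 1) * (i : M2F) 0 0 = 0 := by linear_combination h00 + hdet
    exact (mul_eq_zero.mp this).resolve_left hne'
  have hb : (i : M2F) 0 1 = 0 := by
    have : ((i : M2F) 0 0 + (i : M2F) 1 1) * (i : M2F) 0 1 = 0 := by linear_combination h01
    exact (mul_eq_zero.mp this).resolve_left hne'
  rw [ha, hb] at hdet
  simp at hdet

/-- an element of order three normalizing a quaternion subgroup `⟨i, j⟩` -/
theorem exists_witness (h2 : (2 : F) ≠ 0) (i j : SL2F) (hi : i * i = S2429.negOne)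
    (hj : j * j = S2429.negOne) (hij : j * i * j⁻¹ = i⁻¹) :
    ∃ g : SL2F, g * j * g⁻¹ = i ∧ g * i * g⁻¹ = i * j := by
  have hdi := det2 i
  have hdj := det2 j
  have hti := trace_zero_of_sq i hi
  have htj := trace_zero_of_sq j hj
  have hij' : j * i = i⁻¹ * j := by rw [← hij]; group
  have R3 := congrArg (fun m : SL2F => (m : M2F) 0 0) hij'
  simp only [mul_00, inv_00, inv_01] at R3
  set a := (i : M2F) 0 0 with ha
  set b := (i : M2F) 0 1 with hb
  set c := (i : M2F) 1 0 with hc
  set d := (i : M2F) 1 1 with hd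
  set e := (j : M2F) 0 0 with he
  set f := (j : M2F) 0 1 with hf
  set g' := (j : M2F) 1 0 with hg'
  set h' := (j : M2F) 1 1 with hh'
  have hdet : ((-1 + a + e + (a * e + b * g')) / 2) * ((-1 + d + h' + (c * f + d * h')) / 2)
      - ((b + f + (a * f + b * h')) / 2) * ((c + g' + (c * e + d * g')) / 2) = 1 := by
    field_simp
    grind
  refine ⟨mk2 _ _ _ _ hdet, ?_, ?_⟩
  · rw [mul_inv_eq_iff_eq_mul, eq_iff2']
    simp only [mul_00, mul_01, mul_10, mul_11, mk2_00, mk2_01, mk2_10, mk2_11]
    simp only [← ha, ← hb, ← hc, ← hd, ← he, ← hf, ← hg', ← hh']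
    refine ⟨?_, ?_, ?_, ?_⟩ <;> · field_simp; grind
  · rw [mul_inv_eq_iff_eq_mul, eq_iff2']
    simp only [mul_00, mul_01, mul_10, mul_11, mk2_00, mk2_01, mk2_10, mk2_11]
    simp only [← ha, ← hb, ← hc, ← hd, ← he, ← hf, ← hg', ← hh']
    refine ⟨?_, ?_, ?_, ?_⟩ <;> · field_simp; grind

theorem char_ne_two [Fintype F] (hodd : Fintype.card F % 2 = 1) : (2 : F) ≠ 0 := by
  have hF : ringChar F ≠ 2 := by
    intro h
    have := FiniteField.even_card_of_char_two h
    omega
  exact Ring.two_ne_zero hF

/-! ### the non-split case -/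

theorem ns_dicData [Fintype F] (hq4 : Fintype.card F % 4 = 3) {δ : F} (hδ : ¬ IsSquare δ)
    (h2 : (2 : F) ≠ 0) (s₀ : SL2F) (hs₀ : s₀ ∈ nsTwist δ) :
    DicData (nsTorus δ) s₀ S2429.negOne ((Fintype.card F + 1).factorization 2)
      ((Fintype.card F + 1) / 2 ^ (Fintype.card F + 1).factorization 2) where
  comm := fun a ha b hb => nsTorus_comm δ a b ha hb
  card := by
    rw [card_nsTorus hδ h2]
    exact (Nat.ordProj_mul_ordCompl_eq_self (Fintype.card F + 1) 2).symm
  odd := odd_ordCompl _ (by omega)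
  two_le := two_le_fact _ (by omega) (by omega)
  z_mem := S2429.negOne_mem δ
  z_ne := S2429.negOne_ne_one h2
  z_sq := S2429.negOne_sq
  z_central := negOne_central
  sq_one := fun t ht htt => S2429.sq_eq_one_of_mem h2 hδ t ht htt
  s_not_mem := nsTwist_not_mem δ h2 s₀ hs₀
  inv := fun t ht => nsTwist_conj δ s₀ t hs₀ ht
  norm := by
    intro n
    rw [mem_normalizer_nsTorus hδ h2]
    constructor
    · rintro (h | h)
      · exact Or.inl h
      · exact Or.inr (nsTwist_mul δ _ _ (nsTwist_inv δ s₀ hs₀) h)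
    · rintro (h | h)
      · exact Or.inl h
      · have hN : n ∈ Subgroup.normalizer ((nsTorus δ : Subgroup SL2F) : Set SL2F) := by
          have e : n = s₀ * (s₀⁻¹ * n) := by group
          rw [e]
          exact Subgroup.mul_mem _ ((mem_normalizer_nsTorus hδ h2 s₀).mpr (Or.inr hs₀))
            (Subgroup.le_normalizer h)
        exact (mem_normalizer_nsTorus hδ h2 n).mp hN
  sq := by
    intro x hx hxT
    rcases (mem_normalizer_nsTorus hδ h2 x).mp hx with h | h
    · exact absurd h hxT
    · apply Subtype.ext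
      rw [S2429.twist_sq δ x h, negOne_coe]
  cent := by
    intro t ht ht1 htz x hx
    have h1 : (t : M2F) ≠ 1 := fun h => ht1 (Subtype.ext h)
    have hm1 : (t : M2F) ≠ -1 := fun h => htz (Subtype.ext (by rw [h, negOne_coe]))
    have hb := nsTorus_b_ne_zero δ t ht h1 hm1
    rw [← centralizer_nsTorus_elt hδ t ht hb, Subgroup.mem_centralizer_iff]
    intro y hy
    rw [Set.mem_singleton_iff] at hy
    rw [hy, hx]

theorem main_nonsplit [Fintype F] (hq4 : Fintype.card F % 4 = 3) (S : Sylow 2 SL2F) :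
    Subgroup.centralizer ((S : Subgroup SL2F) : Set SL2F) = Subgroup.center SL2F ∧
    (Fintype.card F % 8 = 7 →
      Subgroup.normalizer ((S : Subgroup SL2F) : Set SL2F) = (S : Subgroup SL2F)) ∧
    (Fintype.card F % 8 = 3 →
      Nat.card (Subgroup.normalizer ((S : Subgroup SL2F) : Set SL2F)) = 3 * Nat.card S) := by
  classical
  have hodd : Fintype.card F % 2 = 1 := by omega
  have h2 : (2 : F) ≠ 0 := char_ne_two hodd
  have hF : ringChar F ≠ 2 := fun h => by
    have := FiniteField.even_card_of_char_two h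
    omega
  have hq : 1 < Fintype.card F := Fintype.one_lt_card
  obtain ⟨δ, hδ⟩ := FiniteField.exists_nonsquare hF
  obtain ⟨s₀, hs₀⟩ := exists_nsTwist δ (nonsquare_ne_zero hδ) hodd
  have D := ns_dicData hq4 hδ h2 s₀ hs₀
  haveI := isCyclic_nsTorus hδ
  have hval : (Nat.card SL2F).factorization 2 = (Fintype.card F + 1).factorization 2 + 1 := by
    rw [card_SL2]
    apply val_card _ _ hq _ hodd
    rw [fact_two_one (Fintype.card F - 1) (by omega)]
    omega
  obtain ⟨h1, h3, h4⟩ := sylow_two_main D hval mem_center_iff' S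
  refine ⟨h1, fun h8 => h3 (three_le_fact _ (by omega) (by omega)), fun h8 => h4 (fact_eq_two _ (by omega)) ?_⟩
  intro i hi hii
  exact exists_witness h2 i s₀ hii D.s_sq (D.inv i hi)

/-! ### the split case -/

/-- the Weyl element -/
def sW : SL2F := mk2 0 1 (-1) 0 (by ring)

theorem sq_eq_one_of_diag (g : SL2F) (hg : g ∈ S2430.spTorus) (hsq : (g : M2F) 0 0 ^ 2 = 1) :
    g = 1 ∨ g = S2429.negOne := by
  obtain ⟨h01, h10⟩ := (S2430.mem_spTorus g).mp hg
  have h11 := g11_eq_inv_of_g10 g h10
  rcases sq_eq_one_iff.mp hsq with ha | ha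
  · left
    apply ext2
    · rw [ha, one_00]
    · rw [h01, one_01]
    · rw [h10, one_10]
    · rw [h11, ha, one_11, inv_one]
  · right
    apply ext2 <;> simp only [S2429.negOne, mk2_00, mk2_01, mk2_10, mk2_11]
    · exact ha
    · exact h01
    · exact h10
    · rw [h11, ha]; norm_num

theorem sp_dicData [Fintype F] (hq4 : Fintype.card F % 4 = 1) (h2 : (2 : F) ≠ 0) :
    DicData (S2430.spTorus (F := F)) sW S2429.negOne ((Fintype.card F - 1).factorization 2)
      ((Fintype.card F - 1) / 2 ^ (Fintype.card F - 1).factorization 2) := by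
  classical
  have hq : 1 < Fintype.card F := Fintype.one_lt_card
  have hq5 : 5 ≤ Fintype.card F := by omega
  have hcardT := S2430.card_spTorus (F := F)
  haveI := S2430.isCyclic_spTorus (F := F)
  -- a generator
  obtain ⟨d₀, hd₀⟩ := IsCyclic.exists_ofOrder_eq_natCard (α := S2430.spTorus (F := F))
  have hd₀T : (d₀ : SL2F) ∈ S2430.spTorus := d₀.2
  obtain ⟨hd01, hd10⟩ := (S2430.mem_spTorus _).mp hd₀T
  have hord : orderOf (d₀ : SL2F) = Fintype.card F - 1 := by
    rw [Subgroup.orderOf_coe, hd₀, hcardT]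
  have hda : ((d₀ : SL2F) : M2F) 0 0 ^ 2 ≠ 1 := by
    intro hsq
    rcases sq_eq_one_of_diag _ hd₀T hsq with h | h
    · rw [h, orderOf_one] at hord; omega
    · have : orderOf (S2429.negOne : SL2F) ∣ 2 :=
        orderOf_dvd_of_pow_eq_one (by rw [pow_two]; exact S2429.negOne_sq)
      rw [← h, hord] at this
      have := Nat.le_of_dvd (by norm_num) this
      omega
  have hTeq : Subgroup.centralizer ({(d₀ : SL2F)} : Set SL2F) = S2430.spTorus := by
    ext g
    rw [S2428.mem_cent _ hd01 hd10 hda, S2430.mem_spTorus]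
  have hmemN := S2428.mem_norm _ hd01 hd10 hda
  rw [hTeq] at hmemN
  have hsW_inv : ∀ n : SL2F, (sW⁻¹ * n ∈ S2430.spTorus ↔ ((n : M2F) 0 0 = 0 ∧ (n : M2F) 1 1 = 0)) := by
    intro n
    rw [S2430.mem_spTorus, mul_01, mul_10, inv_00, inv_01, inv_10, inv_11]
    simp only [sW, mk2_00, mk2_01, mk2_10, mk2_11]
    constructor
    · rintro ⟨a, b⟩
      exact ⟨by linear_combination b, by linear_combination -a⟩
    · rintro ⟨a, b⟩
      rw [a, b]; constructor <;> ring
  exact
  { comm := fun a ha b hb => S2430.spTorus_comm a b ha hb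
    card := by
      rw [hcardT]
      exact (Nat.ordProj_mul_ordCompl_eq_self (Fintype.card F - 1) 2).symm
    odd := odd_ordCompl _ (by omega)
    two_le := two_le_fact _ (by omega) (by omega)
    z_mem := by rw [S2430.mem_spTorus]; simp [S2429.negOne]
    z_ne := S2429.negOne_ne_one h2
    z_sq := S2429.negOne_sq
    z_central := negOne_central
    sq_one := by
      intro t ht htt
      obtain ⟨h01, h10⟩ := (S2430.mem_spTorus t).mp ht
      have h00 := congrArg (fun m : SL2F => (m : M2F) 0 0) htt
      simp only [mul_00, one_00, h01, zero_mul, add_zero] at h00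
      exact sq_eq_one_of_diag t ht (by rw [pow_two]; exact h00)
    s_not_mem := by
      rw [S2430.mem_spTorus]; simp [sW]
    inv := by
      intro t ht
      obtain ⟨h01, h10⟩ := (S2430.mem_spTorus t).mp ht
      rw [eq_iff2']
      simp only [mul_00, mul_01, mul_10, mul_11, inv_00, inv_01, inv_10, inv_11, sW, mk2_00, mk2_01,
        mk2_10, mk2_11, h01, h10]
      refine ⟨by ring, by ring, by ring, by ring⟩
    norm := by
      intro n
      rw [hmemN, hsW_inv]
      rfl
    sq := by
      intro x hx hxT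
      rcases (hmemN x).mp hx with h | h
      · exact absurd ((S2430.mem_spTorus x).mpr h) hxT
      · obtain ⟨h00, h11⟩ := h
        have hdet := det2 x
        rw [h00, h11] at hdet
        rw [eq_iff2']
        simp only [mul_00, mul_01, mul_10, mul_11, S2429.negOne, mk2_00, mk2_01, mk2_10, mk2_11, h00, h11]
        refine ⟨by linear_combination -hdet, by ring, by ring, by linear_combination -hdet⟩
    cent := by
      intro t ht ht1 htz x hx
      obtain ⟨h01, h10⟩ := (S2430.mem_spTorus t).mp ht
      have hta : (t : M2F) 0 0 ^ 2 ≠ 1 := by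
        intro hsq
        rcases sq_eq_one_of_diag t ht hsq with h | h
        · exact ht1 h
        · exact htz h
      rw [S2430.mem_spTorus, ← S2428.mem_cent t h01 h10 hta, Subgroup.mem_centralizer_iff]
      intro y hy
      rw [Set.mem_singleton_iff] at hy
      rw [hy, hx] }

theorem sW_sq : (sW : SL2F) * sW = S2429.negOne := by
  rw [eq_iff2']
  simp [mul_00, mul_01, mul_10, mul_11, sW, S2429.negOne]

theorem main_split [Fintype F] (hq4 : Fintype.card F % 4 = 1) (S : Sylow 2 SL2F) :
    Subgroup.centralizer ((S : Subgroup SL2F) : Set SL2F) = Subgroup.center SL2F ∧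
    (Fintype.card F % 8 = 1 →
      Subgroup.normalizer ((S : Subgroup SL2F) : Set SL2F) = (S : Subgroup SL2F)) ∧
    (Fintype.card F % 8 = 5 →
      Nat.card (Subgroup.normalizer ((S : Subgroup SL2F) : Set SL2F)) = 3 * Nat.card S) := by
  classical
  have hodd : Fintype.card F % 2 = 1 := by omega
  have h2 : (2 : F) ≠ 0 := char_ne_two hodd
  have hq : 1 < Fintype.card F := Fintype.one_lt_card
  have D := sp_dicData hq4 h2
  haveI := S2430.isCyclic_spTorus (F := F)
  have hval : (Nat.card SL2F).factorization 2 = (Fintype.card F - 1).factorization 2 + 1 := by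
    rw [card_SL2]
    apply val_card _ _ hq _ hodd
    rw [fact_two_one (Fintype.card F + 1) (by omega)]
  obtain ⟨h1, h3, h4⟩ := sylow_two_main D hval mem_center_iff' S
  refine ⟨h1, fun h8 => h3 (three_le_fact _ (by omega) (by omega)), fun h8 => h4 (fact_eq_two _ (by omega)) ?_⟩
  intro i hi hii
  exact exists_witness h2 i sW hii sW_sq (D.inv i hi)

theorem result {F : Type*} [Field F] [Fintype F] (hodd : Odd (Fintype.card F)) (S : Sylow 2 (Matrix.SpecialLinearGroup (Fin 2) F)) :
    Subgroup.centralizer ((S : Subgroup (Matrix.SpecialLinearGroup (Fin 2) F)) : Set (Matrix.SpecialLinearGroup (Fin 2) F)) = Subgroup.center (Matrix.SpecialLinearGroup (Fin 2) F) ∧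
    ((Fintype.card F % 8 = 1 ∨ Fintype.card F % 8 = 7) →
      Subgroup.normalizer ((S : Subgroup (Matrix.SpecialLinearGroup (Fin 2) F)) : Set (Matrix.SpecialLinearGroup (Fin 2) F)) = (S : Subgroup (Matrix.SpecialLinearGroup (Fin 2) F))) ∧
    ((Fintype.card F % 8 = 3 ∨ Fintype.card F % 8 = 5) →
      Nat.card (Subgroup.normalizer ((S : Subgroup (Matrix.SpecialLinearGroup (Fin 2) F)) : Set (Matrix.SpecialLinearGroup (Fin 2) F))) = 3 * Nat.card S) := by
  have hodd' : Fintype.card F % 2 = 1 := Nat.odd_iff.mp hodd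
  have h4 : Fintype.card F % 4 = 1 ∨ Fintype.card F % 4 = 3 := by omega
  rcases h4 with h4 | h4
  · obtain ⟨a, b, c⟩ := main_split h4 S
    refine ⟨a, ?_, ?_⟩
    · rintro (h | h)
      · exact b h
      · omega
    · rintro (h | h)
      · omega
      · exact c h
  · obtain ⟨a, b, c⟩ := main_nonsplit h4 S
    refine ⟨a, ?_, ?_⟩
    · rintro (h | h)
      · omega
      · exact b h
    · rintro (h | h)
      · exact c h
      · omega

end Cfsg.Agent.S2431
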