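import Cfsg.Statements.S0809
import Mathlib
import Cfsg.Agent.S2431

set_option autoImplicit false
set_option linter.style.haveILetI false
open Cfsg

namespace Cfsg.Agent.S0809

open Cfsg.Agent.Helper40 Matrix

variable {F : Type*} [Field F]

local notation "SL2F" => Matrix.SpecialLinearGroup (Fin 2) F
local notation "M2F" => Matrix (Fin 2) (Fin 2) F
local notation "negOne" => (S2429.negOne : Matrix.SpecialLinearGroup (Fin 2) F)
local notation "J" => (S2431.sW : Matrix.SpecialLinearGroup (Fin 2) F)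

theorem sq_eq_one (h2 : (2 : F) ≠ 0) (g : SL2F) (hg : g * g = 1) : g = 1 ∨ g = negOne := by
  have hinv : g⁻¹ = g := inv_eq_of_mul_eq_one_left hg
  have h01 := inv_01 g
  have h10 := inv_10 g
  have h00 := inv_00 g
  rw [hinv] at h01 h10 h00
  have e01 : (g : M2F) 0 1 = 0 := by
    have : (2 : F) * (g : M2F) 0 1 = 0 := by linear_combination h01
    exact (mul_eq_zero.mp this).resolve_left h2
  have e10 : (g : M2F) 1 0 = 0 := by
    have : (2 : F) * (g : M2F) 1 0 = 0 := by linear_combination h10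
    exact (mul_eq_zero.mp this).resolve_left h2
  have hdet := det2 g
  rw [e01, e10, ← h00] at hdet
  have hsq : (g : M2F) 0 0 ^ 2 = 1 := by linear_combination hdet
  rcases sq_eq_one_iff.mp hsq with ha | ha
  · left
    apply ext2
    · rw [ha, one_00]
    · rw [e01, one_01]
    · rw [e10, one_10]
    · rw [← h00, ha, one_11]
  · right
    apply ext2 <;> simp only [S2429.negOne, mk2_00, mk2_01, mk2_10, mk2_11]
    · exact ha
    · exact e01
    · exact e10
    · rw [← h00, ha]

theorem exists_sq_add_sq [Fintype F] (hodd : Fintype.card F % 2 = 1) (t : F) :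
    ∃ X Y : F, X ^ 2 + Y ^ 2 = t := by
  open Polynomial in
  obtain ⟨a, b, hab⟩ : ∃ a b, (X ^ 2 : F[X]).eval a + (X ^ 2 - C t : F[X]).eval b = 0 :=
    FiniteField.exists_root_sum_quadratic (degree_X_pow 2) (degree_X_pow_sub_C (by decide) _) hodd
  refine ⟨a, b, ?_⟩
  rw [← sub_eq_zero]
  simpa only [Polynomial.eval_C, Polynomial.eval_X, Polynomial.eval_pow, Polynomial.eval_sub,
    ← add_sub_assoc] using hab

/-- every square root of `-1` in `SL₂` is conjugate to the Weyl element -/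
theorem conj_J [Fintype F] (hodd : Fintype.card F % 2 = 1) (h2 : (2 : F) ≠ 0) (i : SL2F)
    (hi : i * i = negOne) : ∃ g : SL2F, g * J * g⁻¹ = i := by
  have htr := S2431.trace_zero_of_sq i hi
  have hdet := det2 i
  set a := (i : M2F) 0 0 with ha
  set b := (i : M2F) 0 1 with hb
  set c := (i : M2F) 1 0 with hc
  rw [htr] at hdet
  -- find x y with -c x² + 2 a x y + b y² = 1
  have key : ∃ x y : F, -c * x ^ 2 + 2 * a * x * y + b * y ^ 2 = 1 := by
    by_cases hc0 : c = 0
    · have ha2 : a ^ 2 = -1 := by rw [hc0] at hdet; linear_combination -hdet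
      have ha0 : a ≠ 0 := by
        rintro h0
        rw [h0] at ha2
        norm_num at ha2
      refine ⟨(1 - b) / (2 * a), 1, ?_⟩
      rw [hc0]
      field_simp
      ring
    · obtain ⟨X, Y, hXY⟩ := exists_sq_add_sq hodd (-c)
      refine ⟨(X + a * Y) / c, Y, ?_⟩
      field_simp
      linear_combination (-1 : F) * hXY + (-Y ^ 2) * hdet
  obtain ⟨x, y, hxy⟩ := key
  have hdetg : x * (-c * x + a * y) - (-a * x - b * y) * y = 1 := by linear_combination hxy
  refine ⟨mk2 x (-a * x - b * y) y (-c * x + a * y) hdetg, ?_⟩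
  rw [mul_inv_eq_iff_eq_mul, eq_iff2']
  simp only [mul_00, mul_01, mul_10, mul_11, mk2_00, mk2_01, mk2_10, mk2_11, S2431.sW]
  simp only [← ha, ← hb, ← hc, htr]
  refine ⟨?_, ?_, ?_, ?_⟩
  · ring
  · linear_combination (-x) * hdet
  · ring
  · linear_combination (-y) * hdet

theorem conj_of_sq [Fintype F] (hodd : Fintype.card F % 2 = 1) (h2 : (2 : F) ≠ 0) (i j : SL2F)
    (hi : i * i = negOne) (hj : j * j = negOne) : ∃ g : SL2F, g * i * g⁻¹ = j := by
  obtain ⟨g1, hg1⟩ := conj_J hodd h2 i hi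
  obtain ⟨g2, hg2⟩ := conj_J hodd h2 j hj
  refine ⟨g2 * g1⁻¹, ?_⟩
  rw [← hg1, ← hg2]
  group


theorem pow_four_eq (x : SL2F) : x ^ 4 = (x * x) * (x * x) := by
  rw [show 4 = 2 + 2 from rfl, pow_add, pow_two]

theorem orderOf_eq_four (h2 : (2 : F) ≠ 0) (a : SL2F) (ha : a * a = negOne) : orderOf a = 4 := by
  have h1 : ¬ a ^ 2 ^ 1 = 1 := by
    rw [pow_one, pow_two, ha]
    exact S2429.negOne_ne_one h2
  have h4 : a ^ 2 ^ (1 + 1) = 1 := by
    change a ^ 4 = 1
    rw [pow_four_eq, ha, S2429.negOne_sq]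
  exact orderOf_eq_prime_pow h1 h4

theorem order_four [Finite F] (h2 : (2 : F) ≠ 0) (A : Subgroup SL2F) (hA : Nat.card A = 4) :
    ∃ a : SL2F, a * a = negOne ∧ A = Subgroup.zpowers a := by
  obtain ⟨a, haA, ha1, haz⟩ : ∃ a ∈ A, a ≠ 1 ∧ a ≠ negOne := by
    by_contra hcon
    push Not at hcon
    have hsub : (A : Set SL2F) ⊆ {1, negOne} := by
      intro a ha
      by_cases h1 : a = 1
      · exact Or.inl h1
      · exact Or.inr (hcon a ha h1)
    have h1 : Nat.card A = (A : Set SL2F).ncard := Nat.card_coe_set_eq _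
    have h2 : (A : Set SL2F).ncard ≤ ({1, negOne} : Set SL2F).ncard :=
      Set.ncard_le_ncard hsub (Set.toFinite _)
    have h3 : ({1, negOne} : Set SL2F).ncard ≤ 2 := by
      have := Set.ncard_insert_le (1 : SL2F) {negOne}
      rw [Set.ncard_singleton] at this
      exact this
    omega
  have hord : orderOf a ∣ 4 := hA ▸ Subgroup.orderOf_dvd_natCard A haA
  have h4 : (a * a) * (a * a) = 1 := by
    rw [← pow_four_eq]
    exact orderOf_dvd_iff_pow_eq_one.mp hord
  have hsq : a * a = negOne := by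
    rcases sq_eq_one h2 _ h4 with h | h
    · rcases sq_eq_one h2 _ h with h' | h'
      · exact absurd h' ha1
      · exact absurd h' haz
    · exact h
  refine ⟨a, hsq, ?_⟩
  symm
  apply Subgroup.eq_of_le_of_card_ge
  · rw [Subgroup.zpowers_le]; exact haA
  · rw [Nat.card_zpowers, orderOf_eq_four h2 a hsq, hA]


theorem normalizer_zpowers_eq {G : Type*} [Group G] [Finite G] (i z : G) (hi : i * i = z)
    (hzc : ∀ g : G, g * z = z * g)
    (huniq : ∀ e, e * i = i * e → e * e = z → e = i ∨ e = i⁻¹) :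
    Subgroup.normalizer (Subgroup.zpowers i : Set G)
      = Subgroup.normalizer (Subgroup.centralizer ({i} : Set G) : Set G) := by
  have hjj : ∀ g : G, (g * i * g⁻¹) * (g * i * g⁻¹) = z := by
    intro g
    calc (g * i * g⁻¹) * (g * i * g⁻¹) = g * (i * i) * g⁻¹ := by group
      _ = z := by rw [hi, hzc g]; group
  have hcent : ∀ x : G, x ∈ Subgroup.centralizer ({i} : Set G) ↔ i * x = x * i := by
    intro x
    rw [Subgroup.mem_centralizer_iff]
    simp
  ext g
  constructor
  · intro hg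
    have hj : g * i * g⁻¹ ∈ Subgroup.zpowers i :=
      (Subgroup.mem_normalizer_iff.mp hg i).mp (Subgroup.mem_zpowers i)
    obtain ⟨n, hn⟩ := Subgroup.mem_zpowers_iff.mp hj
    have hcomm : (g * i * g⁻¹) * i = i * (g * i * g⁻¹) := by
      rw [← hn]
      exact ((Commute.refl i).zpow_left n).eq
    have hcase := huniq _ hcomm (hjj g)
    apply mem_normalizer_of_conj_mem
    intro x hx
    rw [hcent] at hx ⊢
    -- g x g⁻¹ commutes with g i g⁻¹ = i^{±1}
    have h1 : (g * i * g⁻¹) * (g * x * g⁻¹) = (g * x * g⁻¹) * (g * i * g⁻¹) := by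
      calc (g * i * g⁻¹) * (g * x * g⁻¹) = g * (i * x) * g⁻¹ := by group
        _ = g * (x * i) * g⁻¹ := by rw [hx]
        _ = (g * x * g⁻¹) * (g * i * g⁻¹) := by group
    rcases hcase with h | h
    · rw [h] at h1; exact h1
    · rw [h] at h1
      have h3 : Commute i⁻¹ (g * x * g⁻¹) := h1
      exact (Commute.inv_left_iff.mp h3).eq
  · intro hg
    have hiC : i ∈ Subgroup.centralizer ({i} : Set G) := (hcent i).mpr rfl
    have hj : g * i * g⁻¹ ∈ Subgroup.centralizer ({i} : Set G) :=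
      (Subgroup.mem_normalizer_iff.mp hg i).mp hiC
    rw [hcent] at hj
    have hcase := huniq _ hj.symm (hjj g)
    have hjz : g * i * g⁻¹ ∈ Subgroup.zpowers i := by
      rcases hcase with h | h
      · rw [h]; exact Subgroup.mem_zpowers i
      · rw [h]; exact Subgroup.inv_mem _ (Subgroup.mem_zpowers i)
    apply mem_normalizer_of_conj_mem
    intro x hx
    obtain ⟨n, rfl⟩ := Subgroup.mem_zpowers_iff.mp hx
    have : g * i ^ n * g⁻¹ = (g * i * g⁻¹) ^ n := by
      rw [conj_zpow]
    rw [this]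
    exact Subgroup.zpow_mem _ hjz n


theorem exists_split [Fintype F] (hq4 : Fintype.card F % 4 = 1) (h2 : (2 : F) ≠ 0) :
    ∃ i₀ : SL2F, i₀ * i₀ = negOne ∧
      Nat.card (Subgroup.normalizer (Subgroup.zpowers i₀ : Set SL2F)) = 2 * (Fintype.card F - 1) := by
  have hodd : Odd (Fintype.card F) := Nat.odd_iff.mpr (by omega)
  obtain ⟨ι, hι⟩ : IsSquare (-1 : F) := FiniteField.isSquare_neg_one_iff.mpr (by omega)
  have hι2 : ι * ι = -1 := hι.symm
  set d : SL2F := mk2 ι 0 0 (-ι) (by linear_combination -hι2) with hd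
  have hdd : d * d = negOne := by
    rw [eq_iff2']
    simp only [mul_00, mul_01, mul_10, mul_11, hd, mk2_00, mk2_01, mk2_10, mk2_11, S2429.negOne]
    refine ⟨?_, ?_, ?_, ?_⟩
    · linear_combination hι2
    · ring
    · ring
    · linear_combination hι2
  have hda : (d : M2F) 0 0 ^ 2 ≠ 1 := by
    simp only [hd, mk2_00]
    rw [pow_two, hι2]
    intro h
    apply h2
    linear_combination -h
  obtain ⟨hC, hN, -, -⟩ := S2428.result hodd d rfl rfl hda
  refine ⟨d, hdd, ?_⟩
  rw [normalizer_zpowers_eq d negOne hdd S2431.negOne_central, hN]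
  intro e hed hee
  have heC : e ∈ Subgroup.centralizer ({d} : Set SL2F) := by
    rw [Subgroup.mem_centralizer_iff]
    intro x hx
    rw [Set.mem_singleton_iff] at hx
    rw [hx, hed]
  obtain ⟨e01, e10⟩ := (hC e).mp heC
  have h00 := congrArg (fun m : SL2F => (m : M2F) 0 0) hee
  simp only [mul_00, e01, S2429.negOne, mk2_00, zero_mul, add_zero] at h00
  have hdet := det2 e
  rw [e01, zero_mul, sub_zero] at hdet
  have hfac : ((e : M2F) 0 0 - ι) * ((e : M2F) 0 0 + ι) = 0 := by linear_combination h00 - hι2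
  rcases mul_eq_zero.mp hfac with h | h
  · left
    have h0 : (e : M2F) 0 0 = ι := by linear_combination h
    apply ext2
    · rw [h0]; rfl
    · rw [e01]; rfl
    · rw [e10]; rfl
    · simp only [hd, mk2_11]
      rw [h0] at hdet
      have hι0 : ι ≠ 0 := by
        rintro rfl
        norm_num at hι2
      apply mul_left_cancel₀ hι0
      linear_combination hdet + hι2
  · right
    have h0 : (e : M2F) 0 0 = -ι := by linear_combination h
    apply ext2
    · rw [h0, inv_00]; rfl
    · rw [e01, inv_01]; simp [hd]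
    · rw [e10, inv_10]; simp [hd]
    · rw [inv_11]
      simp only [hd, mk2_00]
      rw [h0] at hdet
      have hι0 : ι ≠ 0 := by
        rintro rfl
        norm_num at hι2
      apply mul_left_cancel₀ hι0
      linear_combination -hdet - hι2


/-- in a cyclic subgroup, the elements with `e * e = z` (where `i * i = z`, `i` of order 4) are
`i` and `i⁻¹` -/
theorem uniq_of_cyclic {G : Type*} [Group G] [Finite G] (T : Subgroup G) [IsCyclic T]
    (hcomm : ∀ a ∈ T, ∀ b ∈ T, a * b = b * a) (i z : G) (hiT : i ∈ T) (hi : i * i = z)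
    (hz1 : z ≠ 1) (hzz : z * z = 1) (e : G) (heT : e ∈ T) (he : e * e = z) :
    e = i ∨ e = i⁻¹ := by
  have hi4 : i ^ 4 = 1 := by
    rw [show 4 = 2 + 2 from rfl, pow_add, pow_two, hi, hzz]
  have he4 : e ^ 4 = 1 := by
    rw [show 4 = 2 + 2 from rfl, pow_add, pow_two, he, hzz]
  have hord : orderOf i = 4 := by
    have h1 : ¬ i ^ 2 ^ 1 = 1 := by rw [pow_one, pow_two, hi]; exact hz1
    have h4 : i ^ 2 ^ (1 + 1) = 1 := hi4
    exact orderOf_eq_prime_pow h1 h4
  have h4dvd : 4 ∣ Nat.card T := by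
    rw [← hord]
    exact Subgroup.orderOf_dvd_natCard T hiT
  have hcardP := card_powTorsion T hcomm 4 h4dvd
  have hle : Subgroup.zpowers i ≤ powTorsion T hcomm 4 := by
    rw [Subgroup.zpowers_le]
    exact ⟨hiT, hi4⟩
  have heq : Subgroup.zpowers i = powTorsion T hcomm 4 :=
    Subgroup.eq_of_le_of_card_ge hle (by rw [hcardP, Nat.card_zpowers, hord])
  have hez : e ∈ Subgroup.zpowers i := by rw [heq]; exact ⟨heT, he4⟩
  obtain ⟨n, hn⟩ := Subgroup.mem_zpowers_iff.mp hez
  have hn' : i ^ (n % 4) = e := by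
    have := zpow_mod_orderOf i n
    rw [hord] at this
    rw [← hn]
    exact_mod_cast this
  have h0 : 0 ≤ n % 4 := Int.emod_nonneg _ (by norm_num)
  have h3 : n % 4 < 4 := Int.emod_lt_of_pos _ (by norm_num)
  obtain ⟨k, hk⟩ : ∃ k : ℕ, n % 4 = (k : ℤ) := ⟨(n % 4).toNat, (Int.toNat_of_nonneg h0).symm⟩
  rw [hk, zpow_natCast] at hn'
  have hk4 : k < 4 := by omega
  interval_cases k
  · exfalso
    rw [pow_zero] at hn'
    rw [← hn', one_mul] at he
    exact hz1 he.symm
  · left; rw [← hn', pow_one]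
  · exfalso
    rw [pow_two, hi] at hn'
    rw [← hn', hzz] at he
    exact hz1 he.symm
  · right
    rw [← hn']
    apply eq_inv_of_mul_eq_one_left
    rw [← pow_succ]
    exact hi4

theorem exists_nonsplit [Fintype F] (hq4 : Fintype.card F % 4 = 3) (h2 : (2 : F) ≠ 0) :
    ∃ i₀ : SL2F, i₀ * i₀ = negOne ∧
      Nat.card (Subgroup.normalizer (Subgroup.zpowers i₀ : Set SL2F)) = 2 * (Fintype.card F + 1) := by
  have hodd : Odd (Fintype.card F) := Nat.odd_iff.mpr (by omega)
  obtain ⟨T', hcyc, hcard, hself, hcent, -, hN, -, -⟩ := S2429.result (F := F) hodd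
  have hcomm : ∀ a ∈ T', ∀ b ∈ T', a * b = b * a := by
    intro a ha b hb
    rw [← hself] at ha
    exact (Subgroup.mem_centralizer_iff.mp ha b hb).symm
  -- an element of order 4
  obtain ⟨t, ht⟩ := IsCyclic.exists_ofOrder_eq_natCard (α := T')
  have h4 : 4 ∣ orderOf t := by rw [ht, hcard]; omega
  obtain ⟨m, hm⟩ := h4
  have hm0 : m ≠ 0 := by
    rintro rfl
    rw [mul_zero] at hm
    have := orderOf_pos t
    omega
  have ho : orderOf (t ^ m) = 4 := by
    rw [orderOf_pow_of_dvd hm0 ⟨4, by rw [hm, mul_comm]⟩, hm]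
    exact Nat.mul_div_cancel _ (Nat.pos_of_ne_zero hm0)
  set i₀ : SL2F := ((t ^ m : T') : SL2F) with hi₀
  have hoi : orderOf i₀ = 4 := by rw [hi₀, Subgroup.orderOf_coe, ho]
  have hi₀T : i₀ ∈ T' := (t ^ m).2
  have hi4 : (i₀ * i₀) * (i₀ * i₀) = 1 := by
    rw [← pow_four_eq, ← hoi, pow_orderOf_eq_one]
  have hii : i₀ * i₀ = negOne := by
    rcases sq_eq_one h2 _ hi4 with h | h
    · exfalso
      have : orderOf i₀ ∣ 2 := orderOf_dvd_of_pow_eq_one (by rw [pow_two, h])
      rw [hoi] at this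
      norm_num at this
    · exact h
  have hne1 : (i₀ : M2F) ≠ 1 := by
    intro h
    have : i₀ = 1 := Subtype.ext h
    rw [this, orderOf_one] at hoi
    norm_num at hoi
  have hnem1 : (i₀ : M2F) ≠ -1 := by
    intro h
    have : i₀ = negOne := Subtype.ext (by rw [h, S2431.negOne_coe])
    rw [this, S2429.negOne_sq] at hii
    exact S2429.negOne_ne_one h2 hii.symm
  have hC := hcent i₀ hi₀T hne1 hnem1
  refine ⟨i₀, hii, ?_⟩
  rw [normalizer_zpowers_eq i₀ negOne hii S2431.negOne_central, hC, hN]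
  intro e hei hee
  have heT : e ∈ T' := by
    rw [← hC, Subgroup.mem_centralizer_iff]
    intro x hx
    rw [Set.mem_singleton_iff] at hx
    rw [hx, hei]
  exact uniq_of_cyclic T' hcomm i₀ negOne hi₀T hii (S2429.negOne_ne_one h2) S2429.negOne_sq e heT hee


theorem zpowers_conj (g a b : SL2F) (h : g * a * g⁻¹ = b) :
    Subgroup.zpowers b = (Subgroup.zpowers a).map (MulAut.conj g).toMonoidHom := by
  rw [MonoidHom.map_zpowers]
  congr 1
  simp [MulAut.conj_apply, h]

theorem psl_part [Fintype F] (hodd : Fintype.card F % 2 = 1) (h2 : (2 : F) ≠ 0)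
    (x y : Matrix.ProjectiveSpecialLinearGroup (Fin 2) F) (hx : orderOf x = 2) (hy : orderOf y = 2) :
    IsConj x y := by
  have key : ∀ x : Matrix.ProjectiveSpecialLinearGroup (Fin 2) F, orderOf x = 2 →
      ∃ g : SL2F, (QuotientGroup.mk g : Matrix.ProjectiveSpecialLinearGroup (Fin 2) F) = x ∧
        g * g = negOne := by
    intro x hx
    obtain ⟨g, rfl⟩ := QuotientGroup.mk_surjective x
    refine ⟨g, rfl, ?_⟩
    have hx2 : (QuotientGroup.mk g : Matrix.ProjectiveSpecialLinearGroup (Fin 2) F) ^ 2 = 1 := by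
      have := pow_orderOf_eq_one (QuotientGroup.mk g : Matrix.ProjectiveSpecialLinearGroup (Fin 2) F)
      rwa [hx] at this
    have hx1 : (QuotientGroup.mk g : Matrix.ProjectiveSpecialLinearGroup (Fin 2) F) ≠ 1 := by
      intro h
      rw [h, orderOf_one] at hx
      norm_num at hx
    rw [← QuotientGroup.mk_pow, QuotientGroup.eq_one_iff, pow_two, S2431.mem_center_iff'] at hx2
    rw [Ne, QuotientGroup.eq_one_iff, S2431.mem_center_iff'] at hx1
    rcases hx2 with h | h
    · exact absurd (sq_eq_one h2 g h) hx1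
    · exact h
  obtain ⟨g, rfl, hg⟩ := key x hx
  obtain ⟨h, rfl, hh⟩ := key y hy
  obtain ⟨c, hc⟩ := conj_of_sq hodd h2 g h hg hh
  rw [isConj_iff]
  refine ⟨QuotientGroup.mk c, ?_⟩
  rw [← hc]
  rfl


theorem card_normalizer_conj (g a i₀ : SL2F) (h : g * i₀ * g⁻¹ = a) :
    Nat.card (Subgroup.normalizer (Subgroup.zpowers a : Set SL2F))
      = Nat.card (Subgroup.normalizer (Subgroup.zpowers i₀ : Set SL2F)) := by
  have hz := zpowers_conj g i₀ a h
  rw [normalizer_eq_of_conj (Subgroup.zpowers a) (Subgroup.zpowers i₀) g, card_conj_map]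
  intro y
  rw [hz, mem_conj_map]

end Cfsg.Agent.S0809

namespace Cfsg.Agent.S0809

open Cfsg.Agent.Helper40 in
/-- In SL_2(q), q odd: any two subgroups of order 4 are conjugate, and the normaliser of a subgroup of order 4 has order 2(q − 1) if q ≡ 1 (mod 4) and 2(q + 1) if q ≡ 3 (mod 4); consequently all involutions of PSL_2(q) are conjugate. -/
theorem result {F : Type*} [Field F] [Fintype F] {q : ℕ} (hF : Fintype.card F = q) (hodd : Odd q) (A : Subgroup (Matrix.SpecialLinearGroup (Fin 2) F)) (hA : Nat.card A = 4) : (∀ B : Subgroup (Matrix.SpecialLinearGroup (Fin 2) F), Nat.card B = 4 → ∃ g : Matrix.SpecialLinearGroup (Fin 2) F, B = A.map (MulAut.conj g).toMonoidHom) ∧ (q % 4 = 1 → Nat.card ↥(Subgroup.normalizer (A : Set (Matrix.SpecialLinearGroup (Fin 2) F))) = 2 * (q - 1)) ∧ (q % 4 = 3 → Nat.card ↥(Subgroup.normalizer (A : Set (Matrix.SpecialLinearGroup (Fin 2) F))) = 2 * (q + 1)) ∧ (∀ x y : Matrix.ProjectiveSpecialLinearGroup (Fin 2) F, orderOf x = 2 → orderOf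 y = 2 → IsConj x y) := by
  subst hF
  have hodd' : Fintype.card F % 2 = 1 := Nat.odd_iff.mp hodd
  have h2 : (2 : F) ≠ 0 := S2431.char_ne_two hodd'
  obtain ⟨a, haa, rfl⟩ := order_four h2 A hA
  refine ⟨?_, ?_, ?_, ?_⟩
  · intro B hB
    obtain ⟨b, hbb, rfl⟩ := order_four h2 B hB
    obtain ⟨g, hg⟩ := conj_of_sq hodd' h2 a b haa hbb
    exact ⟨g, zpowers_conj g a b hg⟩
  · intro hq4
    obtain ⟨i₀, hii, hN⟩ := exists_split hq4 h2
    obtain ⟨g, hg⟩ := conj_of_sq hodd' h2 i₀ a hii haa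
    rw [card_normalizer_conj g a i₀ hg, hN]
  · intro hq4
    obtain ⟨i₀, hii, hN⟩ := exists_nonsplit hq4 h2
    obtain ⟨g, hg⟩ := conj_of_sq hodd' h2 i₀ a hii haa
    rw [card_normalizer_conj g a i₀ hg, hN]
  · intro x y hx hy
    exact psl_part hodd' h2 x y hx hy

end Cfsg.Agent.S0809
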