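import Cfsg.Statements.S4473
import Cfsg.Agent.Lib.Helper75.PrimDeg2Lin
import Cfsg.Agent.Lib.Helper81.CharInd
import Cfsg.Agent.Lib.Helper79.CharBasic

set_option autoImplicit false
open Cfsg

namespace Cfsg.Agent.S4473

open Cfsg.Agent.Helper81 Cfsg.Agent.Helper75.PD2
open scoped ComplexConjugate

/-- An irreducible representation of a commutative group is one-dimensional. -/
theorem finrank_eq_one_of_comm' {A : Type*} [Group A] (hA : ∀ a b : A, a * b = b * a)
    {V : Type*} [AddCommGroup V] [Module ℂ V] [FiniteDimensional ℂ V]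
    (ρ : Representation ℂ A V) [hρ : ρ.IsIrreducible] : Module.finrank ℂ V = 1 := by
  haveI := nontrivial_of_isIrreducible ρ
  obtain ⟨v, hv⟩ := exists_ne (0 : V)
  have hsc : ∀ a : A, ∃ c : ℂ, ρ a = c • LinearMap.id := by
    intro a
    apply schur_scalar ρ (ρ a)
    intro g
    have h1 : ρ a ∘ₗ ρ g = ρ (a * g) := by rw [map_mul]; rfl
    have h2 : ρ g ∘ₗ ρ a = ρ (g * a) := by rw [map_mul]; rfl
    rw [h1, h2, hA a g]
  let U : Subrepresentation ρ :=
    { toSubmodule := Submodule.span ℂ {v}
      apply_mem_toSubmodule := by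
        intro g w hw
        obtain ⟨c, hc⟩ := hsc g
        rw [hc]
        simp only [LinearMap.smul_apply, LinearMap.id_coe, id_eq]
        exact Submodule.smul_mem _ c hw }
  have hU : U ≠ ⊥ := by
    intro h
    have hvU : v ∈ U := Submodule.mem_span_singleton_self v
    rw [h] at hvU
    exact hv hvU
  have htop : U = ⊤ := (hρ.eq_bot_or_eq_top U).resolve_left hU
  have h1 : Submodule.span ℂ {v} = ⊤ := by
    have := congrArg Subrepresentation.toSubmodule htop
    exact this
  rw [← finrank_top ℂ V, ← h1]
  exact finrank_span_singleton hv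

/-- Irreducible characters of commutative groups are linear. -/
theorem irr_one_eq_one_of_comm' {A : Type*} [Group A] (hA : ∀ a b : A, a * b = b * a)
    {φ : A → ℂ} (hφ : IsIrrCharacter A φ) : φ 1 = 1 := by
  obtain ⟨n, ρ, hρ, rfl⟩ := hφ
  haveI := hρ
  rw [Representation.char_one, finrank_eq_one_of_comm' hA ρ]
  simp

/-- A character of degree zero vanishes. -/
theorem eq_zero_of_isCharacter_of_one_eq_zero {G : Type*} [Group G] {f : G → ℂ}
    (hf : IsCharacter G f) (h0 : f 1 = 0) : f = 0 := by
  obtain ⟨n, ρ, rfl⟩ := hf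
  rw [Representation.char_one] at h0
  have hn : Module.finrank ℂ (Fin n → ℂ) = 0 := by exact_mod_cast h0
  ext g
  exact character_eq_zero_of_finrank_eq_zero ρ hn g

theorem indFun_one_eq {G : Type*} [Group G] [Fintype G] (A : Subgroup G) (θ : A → ℂ) :
    indFun A θ 1 = (A.index : ℂ) * θ 1 := by
  rw [indFun_apply]
  have : ∀ x : G, extendByZero A θ (x⁻¹ * 1 * x) = θ 1 := by
    intro x
    have e : x⁻¹ * 1 * x = 1 := by group
    rw [e, extendByZero_apply_mem A θ A.one_mem]
    rfl
  rw [Finset.sum_congr rfl (fun x _ => this x), Finset.sum_const, Finset.card_univ,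
    nsmul_eq_mul, ← Nat.card_eq_fintype_card, ← Subgroup.card_mul_index A]
  have hA : (Nat.card A : ℂ) ≠ 0 := by
    exact_mod_cast (Nat.card_pos (α := A)).ne'
  push_cast
  field_simp

/-- an irreducible character of degree 2 is induced from any abelian subgroup of index 2. -/
theorem induced_of_abelian_index_two {G : Type*} [Group G] [Fintype G] {χ : G → ℂ}
    (hχ : IsIrrCharacter G χ) (hdeg : χ 1 = 2) (A : Subgroup G)
    (hA : ∀ x ∈ A, ∀ y ∈ A, x * y = y * x) (hidx : A.index = 2) :
    ∃ θ : A → ℂ, IsCharacter A θ ∧ χ = indFun A θ := by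
  classical
  haveI : Fintype A := Fintype.ofFinite A
  have hχc : IsCharacter G χ := IsIrrCharacter.isCharacter hχ
  have hχcf : IsClassFunction G χ := isClassFunction_of_isCharacter hχc
  set χA : A → ℂ := fun a => χ a with hχA
  have hχAc : IsCharacter A χA := isCharacter_restrict A hχc
  have hAcomm : ∀ a b : A, a * b = b * a := fun a b => Subtype.ext (hA a a.2 b b.2)
  -- an irreducible constituent of the restriction
  obtain ⟨θ, hθ, hne⟩ : ∃ θ : A → ℂ, IsIrrCharacter A θ ∧ classInner χA θ ≠ 0 := by
    by_contra hcon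
    push Not at hcon
    have := eq_zero_of_classInner_irr_eq_zero (isClassFunction_of_isCharacter hχAc) hcon
    have h1 : χA 1 = 0 := by rw [this]; rfl
    have h2 : χA 1 = 2 := hdeg
    rw [h2] at h1
    norm_num at h1
  obtain ⟨k, hk⟩ := exists_nat_classInner hχAc hθ
  have hk0 : k ≠ 0 := by
    rintro rfl
    exact hne (by simpa using hk)
  have hθc : IsCharacter A θ := IsIrrCharacter.isCharacter hθ
  refine ⟨θ, hθc, ?_⟩
  set ψ := indFun A θ with hψ
  have hψc : IsCharacter G ψ := isCharacter_indFun A hθc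
  have hinner : classInner ψ χ = (k : ℂ) := by
    rw [hψ, frobenius_reciprocity A θ hχcf, classInner_conj_symm χA θ, hk]
    simp
  have hψ1 : ψ 1 = 2 := by
    rw [hψ, indFun_one_eq, hidx, irr_one_eq_one_of_comm' hAcomm hθ]
    norm_num
  -- ψ - χ is a character of degree 0
  have hdiff : IsCharacter G (ψ - χ) := by
    apply isCharacter_of_nat_classInner
    · intro g h
      simp only [Pi.sub_apply]
      rw [isClassFunction_of_isCharacter hψc g h, hχcf g h]
    · intro χ' hχ'
      rw [classInner_sub_left]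
      obtain ⟨k', hk'⟩ := exists_nat_classInner hψc hχ'
      rw [irr_orthonormal hχ hχ']
      by_cases e : χ = χ'
      · subst e
        rw [if_pos rfl, hinner]
        refine ⟨k - 1, ?_⟩
        have : 1 ≤ k := Nat.one_le_iff_ne_zero.mpr hk0
        push_cast [this]
        ring
      · rw [if_neg e, hk', sub_zero]
        exact ⟨k', rfl⟩
  have hzero : ψ - χ = 0 := by
    apply eq_zero_of_isCharacter_of_one_eq_zero hdiff
    simp only [Pi.sub_apply, hψ1, hdeg, sub_self]
  exact (sub_eq_zero.mp hzero).symm

/-- Let the finite group G have a faithful irreducible character χ of degree 2 that is primitive: χ is not induced from a character of any proper subgroup. Then the centre of G has index 12, 24 or 60. -/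
theorem result {G : Type*} [Group G] [Fintype G] (χ : Cfsg.IrrCharacter G) (hfaith : ∀ g : G, (χ : G → ℂ) g = (χ : G → ℂ) 1 → g = 1) (h2 : Cfsg.charDegree (χ : G → ℂ) = 2) (hprim : ∀ H : Subgroup G, H ≠ ⊤ → ∀ θ : H → ℂ, Cfsg.IsCharacter H θ → (χ : G → ℂ) ≠ Cfsg.indFun H θ) : (Subgroup.center G).index = 12 ∨ (Subgroup.center G).index = 24 ∨ (Subgroup.center G).index = 60 := by
  obtain ⟨χ, hχ⟩ := χ
  simp only at hfaith h2 hprim
  have hχ' := hχ
  obtain ⟨n, ρ, hirr, rfl⟩ := hχ
  have h1 : ρ.character 1 = (n : ℂ) := by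
    simp [Representation.character]
  have hn : n = 2 := by
    rw [← h2, Cfsg.charDegree, h1]
    simp
  subst hn
  have hdeg : ρ.character 1 = 2 := by rw [h1]; norm_num
  have hinj : Function.Injective ρ := by
    intro g h hgh
    have h2 : ρ (g * h⁻¹) = 1 := by
      rw [map_mul, hgh, ← map_mul, mul_inv_cancel, map_one]
    have h3 : ρ.character (g * h⁻¹) = ρ.character 1 := by
      rw [h1]
      have := (Helper79.char_eq_finrank_iff ρ (g * h⁻¹)).mpr h2
      simpa using this
    have := hfaith _ h3
    exact mul_inv_eq_one.mp this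
  apply index_center_of_partition (H1_of_rep ρ hinj) (H2_of_rep ρ hinj)
  intro A hA
  constructor
  · intro hidx
    have hAtop : A = ⊤ := Subgroup.index_eq_one.mp hidx
    have hcomm : ∀ a b : G, a * b = b * a := by
      intro a b
      exact hA a (hAtop ▸ Subgroup.mem_top a) b (hAtop ▸ Subgroup.mem_top b)
    have := irr_one_eq_one_of_comm' hcomm hχ'
    rw [hdeg] at this
    norm_num at this
  · intro hidx
    have hAtop : A ≠ ⊤ := by
      intro h
      rw [h, Subgroup.index_top] at hidx
      norm_num at hidx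
    obtain ⟨θ, hθ, e⟩ := induced_of_abelian_index_two hχ' hdeg A hA hidx
    exact hprim A hAtop θ hθ e

end Cfsg.Agent.S4473
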