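import Cfsg.Statements.S4566
import Mathlib

set_option autoImplicit false
open Cfsg

namespace Cfsg.Agent.S4566

open scoped ComplexConjugate

/-- Schur: a central element acts as a scalar in an irreducible representation. -/
theorem schur_central {G : Type*} [Group G] {V : Type*} [AddCommGroup V] [Module ℂ V]
    [FiniteDimensional ℂ V] (ρ : Representation ℂ G V) [ρ.IsIrreducible] (c : G)
    (hc : c ∈ Subgroup.center G) : ∃ a : ℂ, ρ c = a • (1 : Module.End ℂ V) := by
  have hc' : c ∈ Submonoid.center G := hc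
  obtain ⟨a, ha⟩ :=
    (Representation.IsIrreducible.algebraMap_intertwiningMap_bijective_of_isAlgClosed
      (ρ := ρ)).2 (Representation.IntertwiningMap.centralMul ρ c hc')
  refine ⟨a, ?_⟩
  have := congrArg Representation.IntertwiningMap.toLinearMap ha
  simp only [Representation.IntertwiningMap.algebraMap_apply] at this
  rw [Representation.IntertwiningMap.toLinearMap_smul] at this
  exact this.symm

theorem nontrivial_of_irr {G : Type*} [Group G] {V : Type*} [AddCommGroup V] [Module ℂ V]
    (ρ : Representation ℂ G V) [ρ.IsIrreducible] : Nontrivial V := by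
  have h : IsSimpleModule (MonoidAlgebra ℂ G) ρ.asModule := inferInstance
  exact IsSimpleModule.nontrivial (MonoidAlgebra ℂ G) ρ.asModule

/-- The scalar by which central elements act: existence with all the needed properties. -/
theorem exists_central_scalar {G : Type*} [Group G] [Finite G] {V : Type*} [AddCommGroup V]
    [Module ℂ V] [FiniteDimensional ℂ V] (ρ : Representation ℂ G V) [ρ.IsIrreducible] :
    ∃ a : G → ℂ, (∀ c ∈ Subgroup.center G, ρ c = a c • (1 : Module.End ℂ V)) ∧ a 1 = 1 ∧
      (∀ c ∈ Subgroup.center G, ∀ c' ∈ Subgroup.center G, a (c * c') = a c * a c') ∧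
      (∀ c ∈ Subgroup.center G, ‖a c‖ = 1) ∧
      (∀ c ∈ Subgroup.center G, ∀ g : G, ρ.character (g * c) = a c * ρ.character g) ∧
      (∀ c ∈ Subgroup.center G, ρ.character c = a c * ρ.character 1) := by
  classical
  have := nontrivial_of_irr ρ
  have hex : ∀ c : G, ∃ a : ℂ, c ∈ Subgroup.center G → ρ c = a • (1 : Module.End ℂ V) := by
    intro c
    by_cases hc : c ∈ Subgroup.center G
    · obtain ⟨a, ha⟩ := schur_central ρ c hc
      exact ⟨a, fun _ => ha⟩
    · exact ⟨0, fun h => absurd h hc⟩
  choose a ha using hex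
  have hinj : ∀ x y : ℂ, x • (1 : Module.End ℂ V) = y • (1 : Module.End ℂ V) → x = y := by
    intro x y hxy
    obtain ⟨v, hv⟩ := exists_ne (0 : V)
    have := congrArg (fun f : Module.End ℂ V => f v) hxy
    simp only [LinearMap.smul_apply, Module.End.one_apply] at this
    exact smul_left_injective ℂ hv this
  have h1 : a 1 = 1 := by
    apply hinj
    rw [← ha 1 (Subgroup.one_mem _), map_one, one_smul]
  have hmul : ∀ c ∈ Subgroup.center G, ∀ c' ∈ Subgroup.center G, a (c * c') = a c * a c' := by
    intro c hc c' hc'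
    apply hinj
    rw [← ha _ (Subgroup.mul_mem _ hc hc'), map_mul, ha c hc, ha c' hc']
    rw [smul_mul_smul_comm, mul_one]
  have hpow : ∀ c ∈ Subgroup.center G, ∀ k : ℕ, a (c ^ k) = a c ^ k := by
    intro c hc k
    induction k with
    | zero => simpa using h1
    | succ k ih =>
      rw [pow_succ, hmul _ (Subgroup.pow_mem _ hc k) _ hc, ih, pow_succ]
  refine ⟨a, ha, h1, hmul, ?_, ?_, ?_⟩
  · intro c hc
    have hk : 0 < orderOf c := orderOf_pos c
    have : a c ^ orderOf c = 1 := by rw [← hpow c hc, pow_orderOf_eq_one, h1]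
    have h2 : ‖a c‖ ^ orderOf c = 1 := by rw [← norm_pow, this, norm_one]
    exact (pow_eq_one_iff_of_nonneg (norm_nonneg _) hk.ne').mp h2
  · intro c hc g
    unfold Representation.character
    rw [map_mul, ha c hc]
    simp
  · intro c hc
    unfold Representation.character
    rw [ha c hc]
    simp

theorem sum_mul_char {H : Type*} [Group H] [Fintype H] (F : H → ℂ)
    (hF : ∀ c c', F (c * c') = F c * F c') (hsum : ∑ c, F c ≠ 0) : ∀ c, F c = 1 := by
  intro c₀
  have h1 : ∑ c, F (c₀ * c) = ∑ c, F c :=
    Fintype.sum_equiv (Equiv.mulLeft c₀) _ _ (fun c => rfl)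
  have h2 : ∑ c, F (c₀ * c) = F c₀ * ∑ c, F c := by
    rw [Finset.mul_sum]
    exact Finset.sum_congr rfl (fun c _ => hF c₀ c)
  have h3 : (F c₀ - 1) * ∑ c, F c = 0 := by
    rw [sub_mul, ← h2, h1, one_mul, sub_self]
  rcases mul_eq_zero.mp h3 with h | h
  · exact sub_eq_zero.mp h
  · exact absurd h hsum

/-- Let N be a central subgroup of the finite group G, ψ a faithful irreducible (hence degree-one) character of N, and χ an irreducible character of G whose restriction to N contains ψ. If g ∈ G and some x ∈ G has commutator x⁻¹ g⁻¹ x g in N but different from 1, then χ g = 0. -/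
theorem result {G : Type*} [Group G] [Fintype G] (N : Subgroup G) [Fintype N] (hN : N ≤ Subgroup.center G) (ψ : Cfsg.IrrCharacter ↥N) (hfaith : ∀ n : ↥N, (ψ : ↥N → ℂ) n = (ψ : ↥N → ℂ) 1 → n = 1) (χ : Cfsg.IrrCharacter G) (hover : Cfsg.classInner (fun n : ↥N => (χ : G → ℂ) n) (ψ : ↥N → ℂ) ≠ 0) (g x : G) (hcomm : x⁻¹ * g⁻¹ * x * g ∈ N) (hne : x⁻¹ * g⁻¹ * x * g ≠ 1) : (χ : G → ℂ) g = 0 := by
  obtain ⟨χf, n, ρ, hρ, rfl⟩ := χ
  obtain ⟨ψf, m, σ, hσ, rfl⟩ := ψ
  have := hρ
  have := hσ
  obtain ⟨a, ha, ha1, hamul, hanorm, hachar, hachar1⟩ := exists_central_scalar ρ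
  obtain ⟨b, hb, hb1, hbmul, hbnorm, hbchar, hbchar1⟩ := exists_central_scalar σ
  have hcenN : ∀ c : N, c ∈ Subgroup.center N := by
    intro c
    rw [Subgroup.mem_center_iff]
    intro d
    apply Subtype.ext
    simp only [Subgroup.coe_mul]
    exact (Subgroup.mem_center_iff.mp (hN c.2) d)
  simp only at hover hfaith ⊢
  set z := x⁻¹ * g⁻¹ * x * g with hz
  -- the multiplicative function
  let F : N → ℂ := fun c => a (c : G) * conj (b c)
  have hFmul : ∀ c c', F (c * c') = F c * F c' := by
    intro c c'
    simp only [F, Subgroup.coe_mul]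
    rw [hamul _ (hN c.2) _ (hN c'.2), hbmul _ (hcenN c) _ (hcenN c'), map_mul]
    ring
  have hsum : ∑ c, F c ≠ 0 := by
    intro h0
    apply hover
    unfold Cfsg.classInner
    have : ∀ c : N, ρ.character (c : G) * conj (σ.character c) =
        (ρ.character 1 * conj (σ.character 1)) * F c := by
      intro c
      rw [hachar1 _ (hN c.2), hbchar1 _ (hcenN c), map_mul]
      simp only [F]
      ring
    simp only [this]
    rw [← Finset.mul_sum, h0, mul_zero, mul_zero]
  have hF1 := sum_mul_char F hFmul hsum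
  have hab : ∀ c : N, a (c : G) = b c := by
    intro c
    have h1 := hF1 c
    simp only [F] at h1
    have h2 : b c * conj (b c) = 1 := by
      rw [Complex.mul_conj, Complex.normSq_eq_norm_sq, hbnorm c (hcenN c)]
      simp
    calc a (c : G) = a (c : G) * (b c * conj (b c)) := by rw [h2, mul_one]
      _ = (a (c : G) * conj (b c)) * b c := by ring
      _ = b c := by rw [h1, one_mul]
  -- a z ≠ 1
  have hσ1 : σ.character 1 ≠ 0 := by
    intro h0
    apply hsum
    exfalso
    apply hover
    unfold Cfsg.classInner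
    have : ∀ c : N, ρ.character (c : G) * conj (σ.character c) = 0 := by
      intro c
      rw [hbchar1 _ (hcenN c), h0]
      simp
    simp only [this]
    simp
  have haz : a z ≠ 1 := by
    intro h1
    apply hne
    have := hfaith ⟨z, hcomm⟩ (by
      rw [hbchar1 _ (hcenN _), ← hab ⟨z, hcomm⟩]
      simp only [h1, one_mul])
    exact congrArg Subtype.val this
  -- conjugation
  have hconj : x * g * x⁻¹ = g * z := by
    rw [hz]
    have hzc := Subgroup.mem_center_iff.mp (hN hcomm)
    -- z central: x * z = z * x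
    have : x * z = g⁻¹ * x * g := by rw [hz]; group
    calc x * g * x⁻¹ = g * (g⁻¹ * x * g) * x⁻¹ := by group
      _ = g * (x * z) * x⁻¹ := by rw [this]
      _ = g * (z * x) * x⁻¹ := by rw [hzc x]
      _ = g * z := by group
  have h1 : ρ.character g = a z * ρ.character g := by
    rw [← hachar z (hN hcomm) g, ← hconj, Representation.char_conj]
  have h2 : (1 - a z) * ρ.character g = 0 := by
    rw [sub_mul, one_mul, ← h1, sub_self]
  rcases mul_eq_zero.mp h2 with h | h
  · exact absurd (sub_eq_zero.mp h).symm haz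
  · exact h

end Cfsg.Agent.S4566
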