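import Cfsg.Statements.S2305
import Mathlib

set_option autoImplicit false
open Cfsg

namespace Cfsg.Agent.S2305

open Matrix

variable {F : Type*} [Field F]

lemma mem_B_iff (x : GL (Fin 2) F) :
    x ∈ upperTriangularGL 2 F ↔ (x : Matrix (Fin 2) (Fin 2) F) 1 0 = 0 := by
  change (x : Matrix (Fin 2) (Fin 2) F).BlockTriangular id ↔ _
  constructor
  · intro h
    exact h (by decide : (id (0 : Fin 2)) < id 1)
  · intro h i j hij
    fin_cases i <;> fin_cases j <;> simp_all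

/-- the extension by zero of the character `(α, β)` of the Borel subgroup -/
noncomputable def e [DecidableEq F] (α β : MulChar F ℂ) (y : GL (Fin 2) F) : ℂ :=
  if (y : Matrix (Fin 2) (Fin 2) F) 1 0 = 0 then
    α ((y : Matrix (Fin 2) (Fin 2) F) 0 0) * β ((y : Matrix (Fin 2) (Fin 2) F) 1 1) else 0

lemma ext_eq [DecidableEq F] (α β : MulChar F ℂ) :
    extendByZero (upperTriangularGL 2 F)
      (fun b => α (((b : GL (Fin 2) F) : Matrix (Fin 2) (Fin 2) F) 0 0) *
        β (((b : GL (Fin 2) F) : Matrix (Fin 2) (Fin 2) F) 1 1)) = e α β := by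
  funext y
  unfold extendByZero e
  by_cases h : (y : Matrix (Fin 2) (Fin 2) F) 1 0 = 0
  · rw [if_pos h]
    have hy : y ∈ upperTriangularGL 2 F := (mem_B_iff y).mpr h
    have := Function.Injective.extend_apply (Subtype.val_injective (p := fun z => z ∈ upperTriangularGL 2 F))
      (fun b : upperTriangularGL 2 F => α (((b : GL (Fin 2) F) : Matrix (Fin 2) (Fin 2) F) 0 0) *
        β (((b : GL (Fin 2) F) : Matrix (Fin 2) (Fin 2) F) 1 1)) 0 ⟨y, hy⟩
    exact this
  · rw [if_neg h]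
    apply Function.extend_apply'
    rintro ⟨b, hb⟩
    apply h
    rw [← hb]
    exact (mem_B_iff b.1).mp b.2

lemma ind_eq [Fintype F] [DecidableEq F] (α β : MulChar F ℂ) (g : GL (Fin 2) F) :
    indFun (upperTriangularGL 2 F)
      (fun b => α (((b : GL (Fin 2) F) : Matrix (Fin 2) (Fin 2) F) 0 0) *
        β (((b : GL (Fin 2) F) : Matrix (Fin 2) (Fin 2) F) 1 1)) g =
    (Nat.card (upperTriangularGL 2 F) : ℂ)⁻¹ * ∑ x : GL (Fin 2) F, e α β (x⁻¹ * g * x) := by
  unfold indFun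
  rw [ext_eq]

/-- entries of a conjugate -/
lemma conj_entries (x g : GL (Fin 2) F) :
    ((x⁻¹ * g * x : GL (Fin 2) F) : Matrix (Fin 2) (Fin 2) F) =
      ((x : Matrix (Fin 2) (Fin 2) F).det)⁻¹ •
        ((x : Matrix (Fin 2) (Fin 2) F).adjugate * (g : Matrix (Fin 2) (Fin 2) F) *
          (x : Matrix (Fin 2) (Fin 2) F)) := by
  rw [Units.val_mul, Units.val_mul, Matrix.coe_units_inv, Matrix.inv_def]
  simp


lemma coe_mk (A : Matrix (Fin 2) (Fin 2) F) (h : A.det ≠ 0) :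
    ((Matrix.GeneralLinearGroup.mkOfDetNeZero A h : GL (Fin 2) F) : Matrix (Fin 2) (Fin 2) F) = A := rfl

/-- diagonal elements -/
noncomputable def dg (a d : Fˣ) : GL (Fin 2) F :=
  Matrix.GeneralLinearGroup.mkOfDetNeZero !![(a : F), 0; 0, (d : F)] (by simp [Matrix.det_fin_two])

lemma det_ne (x : GL (Fin 2) F) : (x : Matrix (Fin 2) (Fin 2) F).det ≠ 0 :=
  Matrix.GeneralLinearGroup.det_ne_zero x

lemma adj_mul_mul (X G : Matrix (Fin 2) (Fin 2) F) :
    (X.adjugate * G * X) 0 0 = X 1 1 * (G 0 0 * X 0 0 + G 0 1 * X 1 0) - X 0 1 * (G 1 0 * X 0 0 + G 1 1 * X 1 0) ∧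
    (X.adjugate * G * X) 0 1 = X 1 1 * (G 0 0 * X 0 1 + G 0 1 * X 1 1) - X 0 1 * (G 1 0 * X 0 1 + G 1 1 * X 1 1) ∧
    (X.adjugate * G * X) 1 0 = X 0 0 * (G 1 0 * X 0 0 + G 1 1 * X 1 0) - X 1 0 * (G 0 0 * X 0 0 + G 0 1 * X 1 0) ∧
    (X.adjugate * G * X) 1 1 = X 0 0 * (G 1 0 * X 0 1 + G 1 1 * X 1 1) - X 1 0 * (G 0 0 * X 0 1 + G 0 1 * X 1 1) := by
  rw [Matrix.adjugate_fin_two]
  refine ⟨?_, ?_, ?_, ?_⟩ <;>
  · rw [Matrix.mul_apply, Fin.sum_univ_two, Matrix.mul_apply, Matrix.mul_apply, Fin.sum_univ_two,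
      Fin.sum_univ_two]
    simp only [Matrix.of_apply, Matrix.cons_val', Matrix.cons_val_zero, Matrix.cons_val_one,
      Matrix.empty_val', Matrix.cons_val_fin_one]
    ring

/-- entries of `x⁻¹ g x` -/
lemma conj_entries' (x g : GL (Fin 2) F) :
    ((x⁻¹ * g * x : GL (Fin 2) F) : Matrix (Fin 2) (Fin 2) F) 0 0 =
      ((x : Matrix (Fin 2) (Fin 2) F).det)⁻¹ * ((x : Matrix (Fin 2) (Fin 2) F) 1 1 * ((g : Matrix (Fin 2) (Fin 2) F) 0 0 * (x : Matrix (Fin 2) (Fin 2) F) 0 0 + (g : Matrix (Fin 2) (Fin 2) F) 0 1 * (x : Matrix (Fin 2) (Fin 2) F) 1 0) - (x : Matrix (Fin 2) (Fin 2) F) 0 1 * ((g : Matrix (Fin 2) (Fin 2) F) 1 0 * (x : Matrix (Fin 2) (Fin 2) F) 0 0 + (g : Matrix (Fin 2) (Fin 2) F) 1 1 * (x : Matrix (Fin 2) (Fin 2) F) 1 0)) ∧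
    ((x⁻¹ * g * x : GL (Fin 2) F) : Matrix (Fin 2) (Fin 2) F) 1 0 =
      ((x : Matrix (Fin 2) (Fin 2) F).det)⁻¹ * ((x : Matrix (Fin 2) (Fin 2) F) 0 0 * ((g : Matrix (Fin 2) (Fin 2) F) 1 0 * (x : Matrix (Fin 2) (Fin 2) F) 0 0 + (g : Matrix (Fin 2) (Fin 2) F) 1 1 * (x : Matrix (Fin 2) (Fin 2) F) 1 0) - (x : Matrix (Fin 2) (Fin 2) F) 1 0 * ((g : Matrix (Fin 2) (Fin 2) F) 0 0 * (x : Matrix (Fin 2) (Fin 2) F) 0 0 + (g : Matrix (Fin 2) (Fin 2) F) 0 1 * (x : Matrix (Fin 2) (Fin 2) F) 1 0)) ∧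
    ((x⁻¹ * g * x : GL (Fin 2) F) : Matrix (Fin 2) (Fin 2) F) 1 1 =
      ((x : Matrix (Fin 2) (Fin 2) F).det)⁻¹ * ((x : Matrix (Fin 2) (Fin 2) F) 0 0 * ((g : Matrix (Fin 2) (Fin 2) F) 1 0 * (x : Matrix (Fin 2) (Fin 2) F) 0 1 + (g : Matrix (Fin 2) (Fin 2) F) 1 1 * (x : Matrix (Fin 2) (Fin 2) F) 1 1) - (x : Matrix (Fin 2) (Fin 2) F) 1 0 * ((g : Matrix (Fin 2) (Fin 2) F) 0 0 * (x : Matrix (Fin 2) (Fin 2) F) 0 1 + (g : Matrix (Fin 2) (Fin 2) F) 0 1 * (x : Matrix (Fin 2) (Fin 2) F) 1 1)) := by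
  obtain ⟨h00, -, h10, h11⟩ := adj_mul_mul (x : Matrix (Fin 2) (Fin 2) F) (g : Matrix (Fin 2) (Fin 2) F)
  rw [conj_entries]
  simp only [Matrix.smul_apply, smul_eq_mul]
  rw [h00, h10, h11]
  exact ⟨rfl, rfl, rfl⟩

@[simp] lemma dg00 (a d : Fˣ) : ((dg a d : GL (Fin 2) F) : Matrix (Fin 2) (Fin 2) F) 0 0 = a := by
  simp [dg]
@[simp] lemma dg01 (a d : Fˣ) : ((dg a d : GL (Fin 2) F) : Matrix (Fin 2) (Fin 2) F) 0 1 = 0 := by
  simp [dg]
@[simp] lemma dg10 (a d : Fˣ) : ((dg a d : GL (Fin 2) F) : Matrix (Fin 2) (Fin 2) F) 1 0 = 0 := by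
  simp [dg]
@[simp] lemma dg11 (a d : Fˣ) : ((dg a d : GL (Fin 2) F) : Matrix (Fin 2) (Fin 2) F) 1 1 = d := by
  simp [dg]

lemma e_conj_diag [DecidableEq F] (α β : MulChar F ℂ) (a d : Fˣ) (had : a ≠ d) (x : GL (Fin 2) F) :
    e α β (x⁻¹ * dg a d * x) =
      if (x : Matrix (Fin 2) (Fin 2) F) 1 0 = 0 then α a * β d
      else if (x : Matrix (Fin 2) (Fin 2) F) 0 0 = 0 then α d * β a else 0 := by
  have hD := det_ne x
  have hD' := hD
  rw [Matrix.det_fin_two] at hD'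
  have had' : (a : F) ≠ d := fun h => had (Units.ext h)
  obtain ⟨h00, h10, h11⟩ := conj_entries' x (dg a d)
  simp only [dg00, dg01, dg10, dg11, zero_mul, add_zero, zero_add] at h00 h10 h11
  rw [Matrix.det_fin_two] at h00 h10 h11
  by_cases hs : (x : Matrix (Fin 2) (Fin 2) F) 1 0 = 0
  · rw [if_pos hs]
    rw [hs] at hD' h00 h10 h11
    simp only [mul_zero, sub_zero, zero_mul] at hD' h00 h10 h11
    have n00 : (x : Matrix (Fin 2) (Fin 2) F) 0 0 ≠ 0 := left_ne_zero_of_mul hD'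
    have n11 : (x : Matrix (Fin 2) (Fin 2) F) 1 1 ≠ 0 := right_ne_zero_of_mul hD'
    have z00 : ((x⁻¹ * dg a d * x : GL (Fin 2) F) : Matrix (Fin 2) (Fin 2) F) 0 0 = a := by
      rw [h00]; field_simp
    have z11 : ((x⁻¹ * dg a d * x : GL (Fin 2) F) : Matrix (Fin 2) (Fin 2) F) 1 1 = d := by
      rw [h11]; field_simp
    unfold e
    rw [if_pos h10, z00, z11]
  · rw [if_neg hs]
    by_cases hp : (x : Matrix (Fin 2) (Fin 2) F) 0 0 = 0
    · rw [if_pos hp]
      rw [hp] at hD' h00 h10 h11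
      simp only [mul_zero, zero_mul, zero_sub, sub_self] at hD' h00 h10 h11
      have n01 : (x : Matrix (Fin 2) (Fin 2) F) 0 1 ≠ 0 := by
        intro h; apply hD'; rw [h]; ring
      have z00 : ((x⁻¹ * dg a d * x : GL (Fin 2) F) : Matrix (Fin 2) (Fin 2) F) 0 0 = d := by
        rw [h00]; field_simp
      have z11 : ((x⁻¹ * dg a d * x : GL (Fin 2) F) : Matrix (Fin 2) (Fin 2) F) 1 1 = a := by
        rw [h11]; field_simp
      unfold e
      rw [if_pos h10, z00, z11]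
    · rw [if_neg hp]
      unfold e
      rw [if_neg]
      rw [h10]
      intro h
      rcases mul_eq_zero.mp h with h | h
      · exact (inv_ne_zero hD') h
      · have : ((d : F) - a) * ((x : Matrix (Fin 2) (Fin 2) F) 0 0 * (x : Matrix (Fin 2) (Fin 2) F) 1 0) = 0 := by
          linear_combination h
        rcases mul_eq_zero.mp this with h | h
        · exact had' (sub_eq_zero.mp h).symm
        · rcases mul_eq_zero.mp h with h | h
          · exact hp h
          · exact hs h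


/-- the Weyl element -/
noncomputable def w : GL (Fin 2) F :=
  Matrix.GeneralLinearGroup.mkOfDetNeZero !![0, 1; 1, 0] (by simp [Matrix.det_fin_two])

lemma w_mul (x : GL (Fin 2) F) :
    ((w * x : GL (Fin 2) F) : Matrix (Fin 2) (Fin 2) F) 0 0 = (x : Matrix (Fin 2) (Fin 2) F) 1 0 ∧
    ((w * x : GL (Fin 2) F) : Matrix (Fin 2) (Fin 2) F) 1 0 = (x : Matrix (Fin 2) (Fin 2) F) 0 0 := by
  rw [Units.val_mul, w, coe_mk]
  constructor <;> simp [Matrix.mul_apply, Fin.sum_univ_two]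

lemma card_B [Fintype F] [DecidableEq F] :
    Nat.card (upperTriangularGL 2 F) =
      (Finset.univ.filter (fun x : GL (Fin 2) F => (x : Matrix (Fin 2) (Fin 2) F) 1 0 = 0)).card := by
  rw [← Fintype.card_subtype, ← Nat.card_eq_fintype_card]
  exact Nat.card_congr (Equiv.subtypeEquivRight (fun x => mem_B_iff x))

lemma card_wB [Fintype F] [DecidableEq F] :
    (Finset.univ.filter (fun x : GL (Fin 2) F => (x : Matrix (Fin 2) (Fin 2) F) 0 0 = 0)).card =
      (Finset.univ.filter (fun x : GL (Fin 2) F => (x : Matrix (Fin 2) (Fin 2) F) 1 0 = 0)).card := by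
  apply Finset.card_equiv (Equiv.mulLeft (w : GL (Fin 2) F))
  intro x
  simp only [Finset.mem_filter, Finset.mem_univ, true_and, Equiv.coe_mulLeft]
  rw [(w_mul x).2]

lemma sum_diag [Fintype F] [DecidableEq F] (α β : MulChar F ℂ) (a d : Fˣ) (had : a ≠ d) :
    ∑ x : GL (Fin 2) F, e α β (x⁻¹ * dg a d * x) =
      (Nat.card (upperTriangularGL 2 F) : ℂ) * (α a * β d + α d * β a) := by
  have h1 : ∀ x : GL (Fin 2) F, e α β (x⁻¹ * dg a d * x) =
      (if (x : Matrix (Fin 2) (Fin 2) F) 1 0 = 0 then α a * β d else 0) +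
      (if (x : Matrix (Fin 2) (Fin 2) F) 0 0 = 0 then α d * β a else 0) := by
    intro x
    rw [e_conj_diag α β a d had x]
    by_cases hs : (x : Matrix (Fin 2) (Fin 2) F) 1 0 = 0
    · have hp : (x : Matrix (Fin 2) (Fin 2) F) 0 0 ≠ 0 := by
        intro hp
        apply det_ne x
        rw [Matrix.det_fin_two, hs, hp]; ring
      rw [if_pos hs, if_pos hs, if_neg hp, add_zero]
    · rw [if_neg hs, if_neg hs, zero_add]
  simp_rw [h1]
  rw [Finset.sum_add_distrib, ← Finset.sum_filter, ← Finset.sum_filter, Finset.sum_const,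
    Finset.sum_const, card_wB, ← card_B, nsmul_eq_mul, nsmul_eq_mul]
  ring


lemma sum_scalar [Fintype F] [DecidableEq F] (α β : MulChar F ℂ) (a : Fˣ) :
    ∑ x : GL (Fin 2) F, e α β (x⁻¹ * Matrix.GeneralLinearGroup.scalar (Fin 2) a * x) =
      (Fintype.card (GL (Fin 2) F) : ℂ) * (α a * β a) := by
  have h1 : ∀ x : GL (Fin 2) F,
      x⁻¹ * Matrix.GeneralLinearGroup.scalar (Fin 2) a * x = Matrix.GeneralLinearGroup.scalar (Fin 2) a := by
    intro x
    rw [mul_assoc, Matrix.GeneralLinearGroup.scalar_commute, ← mul_assoc, inv_mul_cancel, one_mul]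
  simp_rw [h1]
  rw [Finset.sum_const, Finset.card_univ, nsmul_eq_mul]
  congr 1
  unfold e
  simp [Matrix.GeneralLinearGroup.coe_scalar]

/-- the flip `[[a,b],[c,d]] ↦ [[d,b],[c,a]]` -/
noncomputable def flipT (y : GL (Fin 2) F) : GL (Fin 2) F :=
  Matrix.GeneralLinearGroup.mkOfDetNeZero
    !![(y : Matrix (Fin 2) (Fin 2) F) 1 1, (y : Matrix (Fin 2) (Fin 2) F) 0 1;
       (y : Matrix (Fin 2) (Fin 2) F) 1 0, (y : Matrix (Fin 2) (Fin 2) F) 0 0] (by
    have := det_ne y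
    rw [Matrix.det_fin_two] at this
    rw [Matrix.det_fin_two_of]
    intro h; apply this; linear_combination h)

@[simp] lemma flipT00 (y : GL (Fin 2) F) : ((flipT y : GL (Fin 2) F) : Matrix (Fin 2) (Fin 2) F) 0 0 = (y : Matrix (Fin 2) (Fin 2) F) 1 1 := by
  simp [flipT]
@[simp] lemma flipT01 (y : GL (Fin 2) F) : ((flipT y : GL (Fin 2) F) : Matrix (Fin 2) (Fin 2) F) 0 1 = (y : Matrix (Fin 2) (Fin 2) F) 0 1 := by
  simp [flipT]
@[simp] lemma flipT10 (y : GL (Fin 2) F) : ((flipT y : GL (Fin 2) F) : Matrix (Fin 2) (Fin 2) F) 1 0 = (y : Matrix (Fin 2) (Fin 2) F) 1 0 := by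
  simp [flipT]
@[simp] lemma flipT11 (y : GL (Fin 2) F) : ((flipT y : GL (Fin 2) F) : Matrix (Fin 2) (Fin 2) F) 1 1 = (y : Matrix (Fin 2) (Fin 2) F) 0 0 := by
  simp [flipT]

lemma flipT_invol : Function.Involutive (flipT : GL (Fin 2) F → GL (Fin 2) F) := by
  intro y
  apply Matrix.GeneralLinearGroup.ext
  intro i j
  fin_cases i <;> fin_cases j <;> simp

lemma e_flip [DecidableEq F] (α β : MulChar F ℂ) (y : GL (Fin 2) F) :
    e α β y = e β α (flipT y) := by
  unfold e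
  simp [mul_comm]

/-- an upper triangular element is conjugate to its flip -/
lemma flip_conj (y : GL (Fin 2) F) (hy : (y : Matrix (Fin 2) (Fin 2) F) 1 0 = 0) :
    ∃ c : GL (Fin 2) F, c * y * c⁻¹ = flipT y := by
  by_cases h01 : (y : Matrix (Fin 2) (Fin 2) F) 0 1 = 0
  · refine ⟨w, ?_⟩
    rw [mul_inv_eq_iff_eq_mul]
    apply Matrix.GeneralLinearGroup.ext
    intro i j
    rw [Units.val_mul, Units.val_mul, w, coe_mk]
    fin_cases i <;> fin_cases j <;> simp [Matrix.mul_apply, Fin.sum_univ_two, hy, h01]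
  · let c : GL (Fin 2) F := Matrix.GeneralLinearGroup.mkOfDetNeZero
      !![1, 0; ((y : Matrix (Fin 2) (Fin 2) F) 0 0 - (y : Matrix (Fin 2) (Fin 2) F) 1 1) /
        (y : Matrix (Fin 2) (Fin 2) F) 0 1, 1] (by simp [Matrix.det_fin_two])
    refine ⟨c, ?_⟩
    rw [mul_inv_eq_iff_eq_mul]
    apply Matrix.GeneralLinearGroup.ext
    intro i j
    rw [Units.val_mul, Units.val_mul]
    simp only [c, coe_mk]
    fin_cases i <;> fin_cases j <;> simp [Matrix.mul_apply, Fin.sum_univ_two, hy]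
    all_goals (try field_simp)
    all_goals (try ring)

/-- number of `x` conjugating `g` to `y` -/
noncomputable def N [Fintype F] [DecidableEq F] (g y : GL (Fin 2) F) : ℂ :=
  ∑ x : GL (Fin 2) F, if x⁻¹ * g * x = y then 1 else 0

lemma N_conj [Fintype F] [DecidableEq F] (g y c : GL (Fin 2) F) : N g (c * y * c⁻¹) = N g y := by
  unfold N
  apply Fintype.sum_equiv (Equiv.mulRight c)
  intro x
  simp only [Equiv.coe_mulRight]
  have : x⁻¹ * g * x = c * y * c⁻¹ ↔ (x * c)⁻¹ * g * (x * c) = y := by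
    constructor
    · intro h
      calc (x * c)⁻¹ * g * (x * c) = c⁻¹ * (x⁻¹ * g * x) * c := by group
        _ = c⁻¹ * (c * y * c⁻¹) * c := by rw [h]
        _ = y := by group
    · intro h
      calc x⁻¹ * g * x = c * ((x * c)⁻¹ * g * (x * c)) * c⁻¹ := by group
        _ = c * y * c⁻¹ := by rw [h]
  exact if_congr this rfl rfl

lemma sum_eq_N [Fintype F] [DecidableEq F] (f : GL (Fin 2) F → ℂ) (g : GL (Fin 2) F) :
    ∑ x : GL (Fin 2) F, f (x⁻¹ * g * x) = ∑ y : GL (Fin 2) F, f y * N g y := by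
  unfold N
  simp_rw [Finset.mul_sum, mul_ite, mul_one, mul_zero]
  rw [Finset.sum_comm]
  apply Finset.sum_congr rfl
  intro x _
  rw [Finset.sum_ite_eq]
  simp

lemma sum_symm [Fintype F] [DecidableEq F] (α β : MulChar F ℂ) (g : GL (Fin 2) F) :
    ∑ x : GL (Fin 2) F, e α β (x⁻¹ * g * x) = ∑ x : GL (Fin 2) F, e β α (x⁻¹ * g * x) := by
  rw [sum_eq_N, sum_eq_N]
  rw [← Equiv.sum_comp (Function.Involutive.toPerm flipT flipT_invol)
    (fun y => e β α y * N g y)]
  apply Finset.sum_congr rfl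
  intro y _
  simp only [Function.Involutive.coe_toPerm]
  rw [← e_flip]
  by_cases hy : (y : Matrix (Fin 2) (Fin 2) F) 1 0 = 0
  · obtain ⟨c, hc⟩ := flip_conj y hy
    rw [← hc, N_conj]
  · unfold e
    rw [if_neg hy, zero_mul, zero_mul]


/-- character sums -/
noncomputable def S [Fintype F] (χ : MulChar F ℂ) : ℂ := ∑ a : F, χ a

lemma S_one [Fintype F] [DecidableEq F] : S (1 : MulChar F ℂ) = (Fintype.card Fˣ : ℂ) := by
  unfold S
  rw [MulChar.sum_one_eq_card_units]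

lemma S_ne [Fintype F] (χ : MulChar F ℂ) (h : χ ≠ 1) : S χ = 0 := by
  unfold S
  exact MulChar.sum_eq_zero_of_ne_one h

lemma double_sum [Fintype F] (χ1 χ2 χ3 χ4 γ δ : MulChar F ℂ) :
    ∑ a : F, ∑ d : F, (χ1 a * χ2 d + χ3 a * χ4 d) * (γ a * δ d) =
      S (χ1 * γ) * S (χ2 * δ) + S (χ3 * γ) * S (χ4 * δ) := by
  unfold S
  rw [Finset.sum_mul_sum, Finset.sum_mul_sum, ← Finset.sum_add_distrib]
  apply Finset.sum_congr rfl
  intro a _
  rw [← Finset.sum_add_distrib]
  apply Finset.sum_congr rfl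
  intro d _
  simp only [MulChar.mul_apply]
  ring

theorem result {F : Type*} [Field F] [Fintype F] [DecidableEq F] (α β α' β' : MulChar F ℂ) :
    Cfsg.indFun (Cfsg.upperTriangularGL 2 F) (fun b => α (((b : Matrix.GeneralLinearGroup (Fin 2) F) : Matrix (Fin 2) (Fin 2) F) 0 0) * β (((b : Matrix.GeneralLinearGroup (Fin 2) F) : Matrix (Fin 2) (Fin 2) F) 1 1)) = Cfsg.indFun (Cfsg.upperTriangularGL 2 F) (fun b => α' (((b : Matrix.GeneralLinearGroup (Fin 2) F) : Matrix (Fin 2) (Fin 2) F) 0 0) * β' (((b : Matrix.GeneralLinearGroup (Fin 2) F) : Matrix (Fin 2) (Fin 2) F) 1 1)) ↔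
      (α = α' ∧ β = β') ∨ (α = β' ∧ β = α') := by
  constructor
  · intro H
    have hB : (Nat.card (upperTriangularGL 2 F) : ℂ) ≠ 0 := by
      have : Nat.card (upperTriangularGL 2 F) ≠ 0 := Nat.card_pos.ne'
      exact_mod_cast this
    have hG : (Fintype.card (GL (Fin 2) F) : ℂ) ≠ 0 := by
      have : Fintype.card (GL (Fin 2) F) ≠ 0 := Fintype.card_pos.ne'
      exact_mod_cast this
    have hscal : ∀ a : Fˣ, α a * β a = α' a * β' a := by
      intro a
      have h := congrFun H (Matrix.GeneralLinearGroup.scalar (Fin 2) a)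
      rw [ind_eq, ind_eq, sum_scalar, sum_scalar] at h
      have h' := mul_left_cancel₀ (inv_ne_zero hB) h
      exact mul_left_cancel₀ hG h'
    have hdiag : ∀ a d : Fˣ, a ≠ d → α a * β d + α d * β a = α' a * β' d + α' d * β' a := by
      intro a d had
      have h := congrFun H (dg a d)
      rw [ind_eq, ind_eq, sum_diag α β a d had, sum_diag α' β' a d had] at h
      have h' := mul_left_cancel₀ (inv_ne_zero hB) h
      exact mul_left_cancel₀ hB h'
    have hall : ∀ a d : F, α a * β d + α d * β a = α' a * β' d + α' d * β' a := by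
      intro a d
      by_cases ha : a = 0
      · subst ha; simp [MulChar.map_zero]
      by_cases hd : d = 0
      · subst hd; simp [MulChar.map_zero]
      by_cases had : a = d
      · subst had
        have := hscal (Units.mk0 a ha)
        simp only [Units.val_mk0] at this
        rw [this]
      · have := hdiag (Units.mk0 a ha) (Units.mk0 d hd) (fun h => had (by
          have := congrArg Units.val h
          simpa using this))
        simpa using this
    have hsum : S (α * α⁻¹) * S (β * β⁻¹) + S (β * α⁻¹) * S (α * β⁻¹) =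
        S (α' * α⁻¹) * S (β' * β⁻¹) + S (β' * α⁻¹) * S (α' * β⁻¹) := by
      rw [← double_sum, ← double_sum]
      apply Finset.sum_congr rfl
      intro a _
      apply Finset.sum_congr rfl
      intro d _
      have h1 := hall a d
      have : α d * β a = β a * α d := mul_comm _ _
      have : α' d * β' a = β' a * α' d := mul_comm _ _
      rw [show α a * β d + β a * α d = α a * β d + α d * β a by ring, h1]
      ring
    rw [mul_inv_cancel, mul_inv_cancel, S_one] at hsum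
    have hn : (Fintype.card Fˣ : ℂ) ≠ 0 := by
      have : Fintype.card Fˣ ≠ 0 := Fintype.card_pos.ne'
      exact_mod_cast this
    by_contra hcon
    obtain ⟨h1, h2⟩ := not_or.mp hcon
    have t1 : S (α' * α⁻¹) * S (β' * β⁻¹) = 0 := by
      by_cases ha : α = α'
      · have hb : β ≠ β' := fun hb => h1 ⟨ha, hb⟩
        rw [S_ne (β' * β⁻¹) (fun h => hb (mul_inv_eq_one.mp h).symm), mul_zero]
      · rw [S_ne (α' * α⁻¹) (fun h => ha (mul_inv_eq_one.mp h).symm), zero_mul]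
    have t2 : S (β' * α⁻¹) * S (α' * β⁻¹) = 0 := by
      by_cases ha : α = β'
      · have hb : β ≠ α' := fun hb => h2 ⟨ha, hb⟩
        rw [S_ne (α' * β⁻¹) (fun h => hb (mul_inv_eq_one.mp h).symm), mul_zero]
      · rw [S_ne (β' * α⁻¹) (fun h => ha (mul_inv_eq_one.mp h).symm), zero_mul]
    rw [t1, t2, add_zero] at hsum
    by_cases hab : α = β
    · subst hab
      rw [mul_inv_cancel, S_one] at hsum
      have : (Fintype.card Fˣ : ℂ) * (Fintype.card Fˣ : ℂ) = 0 := by linear_combination hsum / 2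
      rcases mul_eq_zero.mp this with h | h <;> exact hn h
    · rw [S_ne (β * α⁻¹) (fun h => hab (mul_inv_eq_one.mp h).symm), zero_mul, add_zero] at hsum
      rcases mul_eq_zero.mp hsum with h | h <;> exact hn h
  · rintro (⟨rfl, rfl⟩ | ⟨rfl, rfl⟩)
    · rfl
    · funext g
      rw [ind_eq, ind_eq, sum_symm]

end Cfsg.Agent.S2305
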