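import Cfsg.Statements.S2308
import Mathlib

set_option autoImplicit false
open Cfsg

namespace Cfsg.Agent.S2308

open Matrix

variable {F : Type*} [Field F]

lemma mem_B_iff (x : GL (Fin 2) F) :
    x ∈ upperTriangularGL 2 F ↔ (x : Matrix (Fin 2) (Fin 2) F) 1 0 = 0 := by
  change (x : Matrix (Fin 2) (Fin 2) F).BlockTriangular id ↔ _
  constructor
  · intro h
    exact h (by decide : (id (0 : Fin 2)) < id 1)
  · intro h i j hij
    fin_cases i <;> fin_cases j <;> simp_all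

lemma inv_mul_10 (x y : GL (Fin 2) F) :
    ((x⁻¹ * y : GL (Fin 2) F) : Matrix (Fin 2) (Fin 2) F) 1 0 =
      ((x : Matrix (Fin 2) (Fin 2) F).det)⁻¹ *
        ((x : Matrix (Fin 2) (Fin 2) F) 0 0 * (y : Matrix (Fin 2) (Fin 2) F) 1 0 -
          (x : Matrix (Fin 2) (Fin 2) F) 1 0 * (y : Matrix (Fin 2) (Fin 2) F) 0 0) := by
  rw [Units.val_mul, Matrix.coe_units_inv, Matrix.inv_def, Matrix.adjugate_fin_two]
  simp [Matrix.mul_apply, Fin.sum_univ_two]
  ring

lemma mk_eq_iff (x y : GL (Fin 2) F) :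
    (QuotientGroup.mk x : GL (Fin 2) F ⧸ upperTriangularGL 2 F) = QuotientGroup.mk y ↔
      (x : Matrix (Fin 2) (Fin 2) F) 0 0 * (y : Matrix (Fin 2) (Fin 2) F) 1 0 =
        (x : Matrix (Fin 2) (Fin 2) F) 1 0 * (y : Matrix (Fin 2) (Fin 2) F) 0 0 := by
  rw [QuotientGroup.eq, mem_B_iff, inv_mul_10]
  have hdet : (x : Matrix (Fin 2) (Fin 2) F).det ≠ 0 := Matrix.GeneralLinearGroup.det_ne_zero x
  constructor
  · intro h
    rcases mul_eq_zero.mp h with h | h
    · exact absurd (inv_eq_zero.mp h) hdet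
    · exact sub_eq_zero.mp h
  · intro h
    rw [h, sub_self, mul_zero]

lemma fixed_iff (g x : GL (Fin 2) F) :
    (QuotientGroup.mk x : GL (Fin 2) F ⧸ upperTriangularGL 2 F) ∈
        MulAction.fixedBy (GL (Fin 2) F ⧸ upperTriangularGL 2 F) g ↔
      ((g : Matrix (Fin 2) (Fin 2) F) 0 0 * (x : Matrix (Fin 2) (Fin 2) F) 0 0 +
          (g : Matrix (Fin 2) (Fin 2) F) 0 1 * (x : Matrix (Fin 2) (Fin 2) F) 1 0) *
          (x : Matrix (Fin 2) (Fin 2) F) 1 0 =
        ((g : Matrix (Fin 2) (Fin 2) F) 1 0 * (x : Matrix (Fin 2) (Fin 2) F) 0 0 +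
          (g : Matrix (Fin 2) (Fin 2) F) 1 1 * (x : Matrix (Fin 2) (Fin 2) F) 1 0) *
          (x : Matrix (Fin 2) (Fin 2) F) 0 0 := by
  rw [MulAction.mem_fixedBy, MulAction.Quotient.smul_mk, smul_eq_mul, mk_eq_iff]
  simp [Matrix.mul_apply, Fin.sum_univ_two]


lemma coe_mk (A : Matrix (Fin 2) (Fin 2) F) (h : A.det ≠ 0) :
    ((Matrix.GeneralLinearGroup.mkOfDetNeZero A h : GL (Fin 2) F) : Matrix (Fin 2) (Fin 2) F) = A := rfl

/-- the matrices with first column `(t, 1)` -/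
noncomputable def m (t : F) : GL (Fin 2) F :=
  Matrix.GeneralLinearGroup.mkOfDetNeZero !![t, 1; 1, 0] (by simp [Matrix.det_fin_two])

lemma m00 (t : F) : ((m t : GL (Fin 2) F) : Matrix (Fin 2) (Fin 2) F) 0 0 = t := by
  simp [m]

lemma m10 (t : F) : ((m t : GL (Fin 2) F) : Matrix (Fin 2) (Fin 2) F) 1 0 = 1 := by
  simp [m]

lemma one00 : ((1 : GL (Fin 2) F) : Matrix (Fin 2) (Fin 2) F) 0 0 = 1 := by simp
lemma one10 : ((1 : GL (Fin 2) F) : Matrix (Fin 2) (Fin 2) F) 1 0 = 0 := by simp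

lemma mk_eq_one_iff (x : GL (Fin 2) F) :
    (QuotientGroup.mk x : GL (Fin 2) F ⧸ upperTriangularGL 2 F) = QuotientGroup.mk 1 ↔
      (x : Matrix (Fin 2) (Fin 2) F) 1 0 = 0 := by
  rw [eq_comm, mk_eq_iff, one00, one10]
  simp

lemma mk_eq_m_iff (x : GL (Fin 2) F) (t : F) :
    (QuotientGroup.mk x : GL (Fin 2) F ⧸ upperTriangularGL 2 F) = QuotientGroup.mk (m t) ↔
      (x : Matrix (Fin 2) (Fin 2) F) 0 0 = t * (x : Matrix (Fin 2) (Fin 2) F) 1 0 := by
  rw [mk_eq_iff, m00, m10]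
  simp [mul_comm]

lemma card_quot [Fintype F] :
    Nat.card (GL (Fin 2) F ⧸ upperTriangularGL 2 F) = Fintype.card F + 1 := by
  classical
  let f : Option F → GL (Fin 2) F ⧸ upperTriangularGL 2 F := fun o =>
    match o with
    | none => QuotientGroup.mk 1
    | some t => QuotientGroup.mk (m t)
  have hinj : Function.Injective f := by
    intro o o' h
    cases o with
    | none =>
      cases o' with
      | none => rfl
      | some t' =>
        exfalso
        simp only [f] at h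
        have := (mk_eq_one_iff (m t')).mp h.symm
        rw [m10] at this
        exact one_ne_zero this
    | some t =>
      cases o' with
      | none =>
        exfalso
        simp only [f] at h
        have := (mk_eq_one_iff (m t)).mp h
        rw [m10] at this
        exact one_ne_zero this
      | some t' =>
        simp only [f] at h
        have := (mk_eq_m_iff (m t) t').mp h
        rw [m00, m10, mul_one] at this
        rw [this]
  have hsurj : Function.Surjective f := by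
    intro y
    obtain ⟨x, rfl⟩ := QuotientGroup.mk_surjective y
    by_cases h : (x : Matrix (Fin 2) (Fin 2) F) 1 0 = 0
    · exact ⟨none, ((mk_eq_one_iff x).mpr h).symm⟩
    · refine ⟨some ((x : Matrix (Fin 2) (Fin 2) F) 0 0 / (x : Matrix (Fin 2) (Fin 2) F) 1 0), ?_⟩
      simp only [f]
      symm
      rw [mk_eq_m_iff]
      field_simp
  rw [← Nat.card_congr (Equiv.ofBijective f ⟨hinj, hsurj⟩), Nat.card_eq_fintype_card,
    Fintype.card_option]

lemma eig_contra (g : Matrix (Fin 2) (Fin 2) F)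
    (hE : ∀ (c : F) (v : Fin 2 → F), v ≠ 0 → g.mulVec v ≠ c • v) (c v0 v1 : F)
    (hv : v0 ≠ 0 ∨ v1 ≠ 0) (e0 : g 0 0 * v0 + g 0 1 * v1 = c * v0)
    (e1 : g 1 0 * v0 + g 1 1 * v1 = c * v1) : False := by
  apply hE c ![v0, v1]
  · intro h
    have h0 := congrFun h 0
    have h1 := congrFun h 1
    simp at h0 h1
    rcases hv with hv | hv
    · exact hv h0
    · exact hv h1
  · funext i
    fin_cases i
    · simpa [Matrix.mulVec, dotProduct, Fin.sum_univ_two] using e0
    · simpa [Matrix.mulVec, dotProduct, Fin.sum_univ_two] using e1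

lemma col_ne (x : GL (Fin 2) F) :
    (x : Matrix (Fin 2) (Fin 2) F) 0 0 ≠ 0 ∨ (x : Matrix (Fin 2) (Fin 2) F) 1 0 ≠ 0 := by
  by_contra h
  obtain ⟨h1, h2⟩ := not_or.mp h
  have hdet : (x : Matrix (Fin 2) (Fin 2) F).det ≠ 0 := Matrix.GeneralLinearGroup.det_ne_zero x
  apply hdet
  rw [Matrix.det_fin_two, not_not.mp h1, not_not.mp h2]
  ring

theorem case1 [Fintype F] (g : GL (Fin 2) F)
    (h : ∃ a : F, (g : Matrix (Fin 2) (Fin 2) F) = a • (1 : Matrix (Fin 2) (Fin 2) F)) :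
    Cfsg.fixedPointCharacter (Cfsg.upperTriangularGL 2 F) g = Fintype.card F + 1 := by
  obtain ⟨a, ha⟩ := h
  have huniv : MulAction.fixedBy (GL (Fin 2) F ⧸ upperTriangularGL 2 F) g = Set.univ := by
    apply Set.eq_univ_of_forall
    intro y
    obtain ⟨x, rfl⟩ := QuotientGroup.mk_surjective y
    rw [fixed_iff, ha]
    simp
    ring
  unfold fixedPointCharacter
  rw [huniv, Nat.card_congr (Equiv.Set.univ _), card_quot]
  push_cast
  rfl

theorem case2 (g : GL (Fin 2) F)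
    (h01 : (g : Matrix (Fin 2) (Fin 2) F) 0 1 = 0) (h10 : (g : Matrix (Fin 2) (Fin 2) F) 1 0 = 0)
    (hne : (g : Matrix (Fin 2) (Fin 2) F) 0 0 ≠ (g : Matrix (Fin 2) (Fin 2) F) 1 1) :
    Cfsg.fixedPointCharacter (Cfsg.upperTriangularGL 2 F) g = 2 := by
  have hset : MulAction.fixedBy (GL (Fin 2) F ⧸ upperTriangularGL 2 F) g =
      {QuotientGroup.mk 1, QuotientGroup.mk (m 0)} := by
    ext y
    obtain ⟨x, rfl⟩ := QuotientGroup.mk_surjective y
    rw [fixed_iff, h01, h10, Set.mem_insert_iff, Set.mem_singleton_iff, mk_eq_one_iff, mk_eq_m_iff]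
    simp only [zero_mul, add_zero, zero_add]
    constructor
    · intro e
      have : ((g : Matrix (Fin 2) (Fin 2) F) 0 0 - (g : Matrix (Fin 2) (Fin 2) F) 1 1) *
          ((x : Matrix (Fin 2) (Fin 2) F) 0 0 * (x : Matrix (Fin 2) (Fin 2) F) 1 0) = 0 := by
        linear_combination e
      rcases mul_eq_zero.mp this with h' | h'
      · exact absurd (sub_eq_zero.mp h') hne
      · rcases mul_eq_zero.mp h' with h'' | h''
        · exact Or.inr h''
        · exact Or.inl h''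
    · rintro (e | e) <;> rw [e] <;> ring
  have hne' : (QuotientGroup.mk 1 : GL (Fin 2) F ⧸ upperTriangularGL 2 F) ≠ QuotientGroup.mk (m 0) := by
    intro e
    have := (mk_eq_one_iff (m (0 : F))).mp e.symm
    rw [m10] at this
    exact one_ne_zero this
  unfold fixedPointCharacter
  rw [hset, Nat.card_coe_set_eq, Set.ncard_pair hne']
  norm_num

theorem case3 (g : GL (Fin 2) F)
    (hE : ∀ (c : F) (v : Fin 2 → F), v ≠ 0 → (g : Matrix (Fin 2) (Fin 2) F).mulVec v ≠ c • v) :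
    Cfsg.fixedPointCharacter (Cfsg.upperTriangularGL 2 F) g = 0 := by
  have hset : MulAction.fixedBy (GL (Fin 2) F ⧸ upperTriangularGL 2 F) g = ∅ := by
    apply Set.eq_empty_of_forall_notMem
    intro y hy
    obtain ⟨x, rfl⟩ := QuotientGroup.mk_surjective y
    rw [fixed_iff] at hy
    rcases col_ne x with hx | hx
    · apply eig_contra _ hE
        (((g : Matrix (Fin 2) (Fin 2) F) 0 0 * (x : Matrix (Fin 2) (Fin 2) F) 0 0 +
          (g : Matrix (Fin 2) (Fin 2) F) 0 1 * (x : Matrix (Fin 2) (Fin 2) F) 1 0) /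
          (x : Matrix (Fin 2) (Fin 2) F) 0 0)
        ((x : Matrix (Fin 2) (Fin 2) F) 0 0) ((x : Matrix (Fin 2) (Fin 2) F) 1 0) (Or.inl hx)
      · field_simp
      · field_simp
        linear_combination -hy
    · apply eig_contra _ hE
        (((g : Matrix (Fin 2) (Fin 2) F) 1 0 * (x : Matrix (Fin 2) (Fin 2) F) 0 0 +
          (g : Matrix (Fin 2) (Fin 2) F) 1 1 * (x : Matrix (Fin 2) (Fin 2) F) 1 0) /
          (x : Matrix (Fin 2) (Fin 2) F) 1 0)
        ((x : Matrix (Fin 2) (Fin 2) F) 0 0) ((x : Matrix (Fin 2) (Fin 2) F) 1 0) (Or.inr hx)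
      · field_simp
        linear_combination hy
      · field_simp
  unfold fixedPointCharacter
  rw [hset, Nat.card_coe_set_eq, Set.ncard_empty]
  simp

theorem case4 (g : GL (Fin 2) F)
    (h10 : (g : Matrix (Fin 2) (Fin 2) F) 1 0 = 0)
    (heq : (g : Matrix (Fin 2) (Fin 2) F) 0 0 = (g : Matrix (Fin 2) (Fin 2) F) 1 1)
    (hne : (g : Matrix (Fin 2) (Fin 2) F) 0 1 ≠ 0) :
    Cfsg.fixedPointCharacter (Cfsg.upperTriangularGL 2 F) g = 1 := by
  have hset : MulAction.fixedBy (GL (Fin 2) F ⧸ upperTriangularGL 2 F) g =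
      {QuotientGroup.mk 1} := by
    ext y
    obtain ⟨x, rfl⟩ := QuotientGroup.mk_surjective y
    rw [fixed_iff, h10, heq, Set.mem_singleton_iff, mk_eq_one_iff]
    constructor
    · intro e
      have : (g : Matrix (Fin 2) (Fin 2) F) 0 1 *
          ((x : Matrix (Fin 2) (Fin 2) F) 1 0 * (x : Matrix (Fin 2) (Fin 2) F) 1 0) = 0 := by
        linear_combination e
      rcases mul_eq_zero.mp this with h' | h'
      · exact absurd h' hne
      · rcases mul_eq_zero.mp h' with h'' | h'' <;> exact h''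
    · intro e
      rw [e]; ring
  unfold fixedPointCharacter
  rw [hset, Nat.card_coe_set_eq, Set.ncard_singleton]
  simp

theorem result {F : Type*} [Field F] [Fintype F] (g : Matrix.GeneralLinearGroup (Fin 2) F) :
    ((∃ a : F, (g : Matrix (Fin 2) (Fin 2) F) = a • (1 : Matrix (Fin 2) (Fin 2) F)) → Cfsg.fixedPointCharacter (Cfsg.upperTriangularGL 2 F) g = Fintype.card F + 1) ∧
    ((g : Matrix (Fin 2) (Fin 2) F) 0 1 = 0 → (g : Matrix (Fin 2) (Fin 2) F) 1 0 = 0 → (g : Matrix (Fin 2) (Fin 2) F) 0 0 ≠ (g : Matrix (Fin 2) (Fin 2) F) 1 1 →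
      Cfsg.fixedPointCharacter (Cfsg.upperTriangularGL 2 F) g = 2) ∧
    ((∀ (c : F) (v : Fin 2 → F), v ≠ 0 → (g : Matrix (Fin 2) (Fin 2) F).mulVec v ≠ c • v) → Cfsg.fixedPointCharacter (Cfsg.upperTriangularGL 2 F) g = 0) ∧
    ((g : Matrix (Fin 2) (Fin 2) F) 1 0 = 0 → (g : Matrix (Fin 2) (Fin 2) F) 0 0 = (g : Matrix (Fin 2) (Fin 2) F) 1 1 → (g : Matrix (Fin 2) (Fin 2) F) 0 1 ≠ 0 →
      Cfsg.fixedPointCharacter (Cfsg.upperTriangularGL 2 F) g = 1) :=
  ⟨case1 g, case2 g, case3 g, case4 g⟩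

end Cfsg.Agent.S2308
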