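import Cfsg.Statements.S2304
import Mathlib
import Cfsg.Agent.Lib.Helper38.GL2Borel
import Cfsg.Agent.Lib.Helper15.NormOne

set_option autoImplicit false
open Cfsg

namespace Cfsg.Agent.S2304

open Matrix Cfsg.Agent.Helper38
open scoped ComplexConjugate

variable {F : Type*} [Field F] [Fintype F] [DecidableEq F]

/-- inner sum over the unipotent parameter -/
lemma T_eq (α β : MulChar F ℂ) (a d : Fˣ) :
    ∑ c : F, θ α β (toB (a, d, c)) *
        conj (indFun (upperTriangularGL 2 F) (θ α β) (toB (a, d, c) : GL (Fin 2) F)) =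
      (Fintype.card F : ℂ) * (1 + (α * β⁻¹) a * (β * α⁻¹) d) := by
  have hθ : ∀ c : F, θ α β (toB (a, d, c)) = α a * β d := by
    intro c
    simp [θ, toB]
  simp_rw [hθ]
  have hcoe : ∀ c : F, ((toB (a, d, c) : upperTriangularGL 2 F) : GL (Fin 2) F) = bmat a d c := fun c => rfl
  simp_rw [hcoe]
  by_cases had : a = d
  · subst had
    simp_rw [I_bmat_eq]
    have h1 : ∀ c : F, α a * β a * conj ((1 + if c = 0 then (Fintype.card F : ℂ) else 0) * (α a * β a))
        = 1 + if c = 0 then (Fintype.card F : ℂ) else 0 := by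
      intro c
      rw [map_mul, map_mul, conj_mulChar, conj_mulChar]
      have e1 := mulChar_mul_inv_unit α a
      have e2 := mulChar_mul_inv_unit β a
      have e3 : conj (1 + if c = 0 then (Fintype.card F : ℂ) else 0) =
          1 + if c = 0 then (Fintype.card F : ℂ) else 0 := by
        split_ifs <;> simp
      rw [e3]
      calc α a * β a * ((1 + if c = 0 then (Fintype.card F : ℂ) else 0) * (α⁻¹ a * β⁻¹ a))
          = (1 + if c = 0 then (Fintype.card F : ℂ) else 0) * ((α a * α⁻¹ a) * (β a * β⁻¹ a)) := by ring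
        _ = _ := by rw [e1, e2]; ring
    simp_rw [h1]
    rw [Finset.sum_add_distrib, Finset.sum_const, Finset.sum_ite_eq', Finset.card_univ, nsmul_eq_mul]
    simp only [Finset.mem_univ, if_true, MulChar.mul_apply]
    have e1 := mulChar_mul_inv_unit α a
    have e2 := mulChar_mul_inv_unit β a
    calc (Fintype.card F : ℂ) * 1 + (Fintype.card F : ℂ)
        = (Fintype.card F : ℂ) * (1 + (α a * α⁻¹ a) * (β a * β⁻¹ a)) := by rw [e1, e2]; ring
      _ = _ := by ring
  · simp_rw [I_split α β a d _ had]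
    rw [Finset.sum_const, Finset.card_univ, nsmul_eq_mul]
    congr 1
    rw [map_add, map_mul, map_mul, conj_mulChar, conj_mulChar, conj_mulChar, conj_mulChar]
    simp only [MulChar.mul_apply]
    have e1 := mulChar_mul_inv_unit α a
    have e2 := mulChar_mul_inv_unit β d
    calc α a * β d * (α⁻¹ a * β⁻¹ d + α⁻¹ d * β⁻¹ a)
        = (α a * α⁻¹ a) * (β d * β⁻¹ d) + α a * β⁻¹ a * (β d * α⁻¹ d) := by ring
      _ = _ := by rw [e1, e2]; ring

theorem result {F : Type*} [Field F] [Fintype F] [DecidableEq F] (α β : MulChar F ℂ) (hαβ : α ≠ β) :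
    Cfsg.IsIrrCharacter (Matrix.GeneralLinearGroup (Fin 2) F) (Cfsg.indFun (Cfsg.upperTriangularGL 2 F) (fun b => α (((b : Matrix.GeneralLinearGroup (Fin 2) F) : Matrix (Fin 2) (Fin 2) F) 0 0) * β (((b : Matrix.GeneralLinearGroup (Fin 2) F) : Matrix (Fin 2) (Fin 2) F) 1 1))) := by
  change IsIrrCharacter _ (indFun (upperTriangularGL 2 F) (θ α β))
  haveI : Fintype (upperTriangularGL 2 F) := Fintype.ofFinite _
  apply Cfsg.Agent.Helper15.isIrrCharacter_of_classInner_eq_one
    (Cfsg.Agent.Helper81.isCharacter_indFun _ (θ_isCharacter α β))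
  rw [Cfsg.Agent.Helper81.frobenius_reciprocity _ _ (Cfsg.Agent.Helper81.indFun_isClassFunction _ _)]
  unfold classInner
  rw [← Function.Bijective.sum_comp toB_bijective, Fintype.sum_prod_type]
  simp_rw [Fintype.sum_prod_type, T_eq]
  have hγ : α * β⁻¹ ≠ 1 := fun h => hαβ (mul_inv_eq_one.mp h)
  have hsum : ∑ a : Fˣ, ∑ d : Fˣ, (Fintype.card F : ℂ) * (1 + (α * β⁻¹) a * (β * α⁻¹) d) =
      (Fintype.card F : ℂ) * ((Fintype.card Fˣ : ℂ) * (Fintype.card Fˣ : ℂ)) := by
    simp_rw [← Finset.mul_sum, Finset.sum_add_distrib, Finset.sum_const, Finset.card_univ,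
      nsmul_eq_mul, mul_one, ← Finset.sum_mul_sum]
    rw [sum_units_mulChar _ hγ, zero_mul, add_zero]
  rw [hsum, card_B_eq']
  have hn : (Fintype.card Fˣ : ℂ) ≠ 0 := by
    have : Fintype.card Fˣ ≠ 0 := Fintype.card_pos.ne'
    exact_mod_cast this
  have hq : (Fintype.card F : ℂ) ≠ 0 := by
    have : Fintype.card F ≠ 0 := Fintype.card_pos.ne'
    exact_mod_cast this
  push_cast
  field_simp

end Cfsg.Agent.S2304
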