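import Cfsg.Statements.S2298
import Mathlib
import Cfsg.Agent.Lib.Helper38.GL2Irr

set_option autoImplicit false
open Cfsg

namespace Cfsg.Agent.S2298

open Matrix Cfsg.Agent.Helper38
open Cfsg.Agent.Helper3 (fintypeIrr)

section

variable {F : Type*} [Field F] [Fintype F] [DecidableEq F]

lemma deg_cases (χ : IrrCharacter (GL (Fin 2) F)) :
    (χ ∈ SA F ∧ deg χ = 1) ∨ (χ ∈ SS F ∧ deg χ = Fintype.card Fˣ + 1) ∨
      (χ ∈ SP F ∧ deg χ = Fintype.card Fˣ + 2) ∨ (χ ∈ SC F ∧ deg χ = Fintype.card Fˣ) := by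
  rcases mem_families χ with h | h | h | h
  · exact Or.inl ⟨h, deg_SA χ h⟩
  · exact Or.inr (Or.inl ⟨h, deg_SS χ h⟩)
  · exact Or.inr (Or.inr (Or.inl ⟨h, deg_SP χ h⟩))
  · exact Or.inr (Or.inr (Or.inr ⟨h, deg_SC χ h⟩))

lemma val_one_eq_iff (χ : IrrCharacter (GL (Fin 2) F)) (k : ℕ) :
    (χ : GL (Fin 2) F → ℂ) 1 = (k : ℂ) ↔ deg χ = k := by
  rw [deg_spec]
  exact Nat.cast_inj

lemma card_filter_eq (k : ℕ) (S : Finset (IrrCharacter (GL (Fin 2) F)))
    (h : ∀ χ : IrrCharacter (GL (Fin 2) F), deg χ = k ↔ χ ∈ S) (z : ℂ) (hz : z = (k : ℂ)) :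
    Nat.card {χ : IrrCharacter (GL (Fin 2) F) // (χ : GL (Fin 2) F → ℂ) 1 = z} = S.card := by
  classical
  subst hz
  rw [Nat.card_eq_fintype_card, Fintype.card_subtype]
  congr 1
  ext χ
  rw [Finset.mem_filter, val_one_eq_iff, h]
  simp

end

/-- Over a finite field F with q elements, every irreducible complex character of GL₂ has degree 1, q − 1, q or q + 1; and when q ≥ 3 (so that these four numbers are distinct) there are exactly q − 1 irreducible characters of degree 1, exactly q − 1 of degree q, exactly (q − 1)(q − 2)/2 of degree q + 1 and exactly q(q − 1)/2 of degree q − 1. -/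
theorem result {F : Type*} [Field F] [Fintype F] :
    (∀ χ : Matrix.GeneralLinearGroup (Fin 2) F → ℂ, Cfsg.IsIrrCharacter (Matrix.GeneralLinearGroup (Fin 2) F) χ →
      χ 1 = 1 ∨ χ 1 = (Fintype.card F : ℂ) - 1 ∨ χ 1 = (Fintype.card F : ℂ) ∨ χ 1 = (Fintype.card F : ℂ) + 1) ∧
    (3 ≤ Fintype.card F →
      Nat.card {χ : Cfsg.IrrCharacter (Matrix.GeneralLinearGroup (Fin 2) F) // (χ : Matrix.GeneralLinearGroup (Fin 2) F → ℂ) 1 = 1} = Fintype.card F - 1 ∧
      Nat.card {χ : Cfsg.IrrCharacter (Matrix.GeneralLinearGroup (Fin 2) F) // (χ : Matrix.GeneralLinearGroup (Fin 2) F → ℂ) 1 = (Fintype.card F : ℂ)} = Fintype.card F - 1 ∧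
      Nat.card {χ : Cfsg.IrrCharacter (Matrix.GeneralLinearGroup (Fin 2) F) // (χ : Matrix.GeneralLinearGroup (Fin 2) F → ℂ) 1 = (Fintype.card F : ℂ) + 1} = (Fintype.card F - 1) * (Fintype.card F - 2) / 2 ∧
      Nat.card {χ : Cfsg.IrrCharacter (Matrix.GeneralLinearGroup (Fin 2) F) // (χ : Matrix.GeneralLinearGroup (Fin 2) F → ℂ) 1 = (Fintype.card F : ℂ) - 1} = Fintype.card F * (Fintype.card F - 1) / 2) := by
  classical
  have hq := card_F_eq (F := F)
  have hn := card_units_pos (F := F)
  constructor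
  · intro χ hχ
    have hd := deg_spec (⟨χ, hχ⟩ : IrrCharacter (GL (Fin 2) F))
    simp only at hd
    rw [hd, hq]
    rcases deg_cases (⟨χ, hχ⟩ : IrrCharacter (GL (Fin 2) F)) with ⟨-, h⟩ | ⟨-, h⟩ | ⟨-, h⟩ | ⟨-, h⟩
    · left; rw [h]; simp
    · right; right; left; rw [h]
    · right; right; right; rw [h]; push_cast; ring
    · right; left; rw [h]; push_cast; ring
  · intro h3
    have hn2 : 2 ≤ Fintype.card Fˣ := by omega
    refine ⟨?_, ?_, ?_, ?_⟩
    · rw [card_filter_eq 1 (SA F) _ 1 (by simp), card_SA]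
      · omega
      · intro χ
        constructor
        · intro hd
          rcases deg_cases χ with ⟨hm, h⟩ | ⟨hm, h⟩ | ⟨hm, h⟩ | ⟨hm, h⟩
          · exact hm
          · omega
          · omega
          · omega
        · exact deg_SA χ
    · rw [card_filter_eq (Fintype.card Fˣ + 1) (SS F) _ _ (by rw [hq]), card_SS]
      · omega
      · intro χ
        constructor
        · intro hd
          rcases deg_cases χ with ⟨hm, h⟩ | ⟨hm, h⟩ | ⟨hm, h⟩ | ⟨hm, h⟩
          · omega
          · exact hm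
          · omega
          · omega
        · exact deg_SS χ
    · rw [card_filter_eq (Fintype.card Fˣ + 2) (SP F) _ _ (by rw [hq]; push_cast; ring)]
      · have h2 := card_SP (F := F)
        rw [hq]
        have e1 : Fintype.card Fˣ + 1 - 1 = Fintype.card Fˣ := by omega
        have e2 : Fintype.card Fˣ + 1 - 2 = Fintype.card Fˣ - 1 := by omega
        rw [e1, e2]
        have e3 : Fintype.card Fˣ * (Fintype.card Fˣ - 1) = 2 * (SP F).card := by
          rw [Nat.mul_sub, mul_one]; omega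
        rw [e3]; omega
      · intro χ
        constructor
        · intro hd
          rcases deg_cases χ with ⟨hm, h⟩ | ⟨hm, h⟩ | ⟨hm, h⟩ | ⟨hm, h⟩
          · omega
          · omega
          · exact hm
          · omega
        · exact deg_SP χ
    · rw [card_filter_eq (Fintype.card Fˣ) (SC F) _ _ (by rw [hq]; push_cast; ring)]
      · have h2 := card_SC (F := F)
        rw [hq]
        have e1 : Fintype.card Fˣ + 1 - 1 = Fintype.card Fˣ := by omega
        rw [e1]
        have e3 : (Fintype.card Fˣ + 1) * Fintype.card Fˣ = 2 * (SC F).card := by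
          rw [h2]; ring
        rw [e3]; omega
      · intro χ
        constructor
        · intro hd
          rcases deg_cases χ with ⟨hm, h⟩ | ⟨hm, h⟩ | ⟨hm, h⟩ | ⟨hm, h⟩
          · omega
          · omega
          · omega
          · exact hm
        · exact deg_SC χ

end Cfsg.Agent.S2298
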