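import Cfsg.Statements.S2300
import Mathlib
import Cfsg.Agent.Lib.Helper38.CentralProd
import Cfsg.Agent.Lib.Helper38.SL2inGL2
import Cfsg.Agent.Lib.Helper38.GL2Classes
import Cfsg.Agent.Lib.Helper81.CharCorr
import Cfsg.Agent.S2298

set_option autoImplicit false
set_option linter.unusedSectionVars false
open Cfsg

namespace Cfsg.Agent.S2300

open Matrix Cfsg.Agent.Helper38 Cfsg.Agent.Helper81

section

variable {F : Type*} [Field F] [Fintype F] [CharP F 2]

lemma sc_mem_center (z : Fˣ) : sc z ∈ Subgroup.center (GL (Fin 2) F) := by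
  rw [Subgroup.mem_center_iff]
  intro g
  exact sc_comm z g

lemma det_sc (z : Fˣ) : Matrix.GeneralLinearGroup.det (sc z : GL (Fin 2) F) = z * z := by
  apply Units.ext
  rw [det_coe, sc_coe]
  simp

omit [Fintype F] in
lemma sq_inj (z z' : Fˣ) (h : z * z = z' * z') : z = z' := by
  apply Units.ext
  have h1 := congrArg Units.val h
  simp only [Units.val_mul] at h1
  apply frobenius_inj F 2
  simp only [frobenius_def, pow_two]
  exact h1

lemma Ψ_bijective :
    Function.Bijective (fun p : Fˣ × N F => sc p.1 * ((p.2 : N F) : GL (Fin 2) F)) := by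
  constructor
  · rintro ⟨z, n⟩ ⟨z', n'⟩ h
    simp only at h
    have hd := congrArg Matrix.GeneralLinearGroup.det h
    rw [map_mul, map_mul, det_sc, det_sc, MonoidHom.mem_ker.mp n.2, MonoidHom.mem_ker.mp n'.2,
      mul_one, mul_one] at hd
    have hz := sq_inj z z' hd
    subst hz
    have := mul_left_cancel h
    rw [Subtype.ext this]
  · intro g
    have hF : ringChar F = 2 := ringChar.eq F 2
    obtain ⟨r, hr⟩ := FiniteField.isSquare_of_char_two hF ((Matrix.GeneralLinearGroup.det g : Fˣ) : F)
    have hr0 : r ≠ 0 := by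
      intro h0
      rw [h0, mul_zero] at hr
      exact (Matrix.GeneralLinearGroup.det g).ne_zero hr
    let s : Fˣ := Units.mk0 r hr0
    have hs : s * s = Matrix.GeneralLinearGroup.det g := by
      apply Units.ext
      simp only [Units.val_mul, s, Units.val_mk0]
      exact hr.symm
    have hmem : (sc s)⁻¹ * g ∈ N F := by
      rw [MonoidHom.mem_ker, map_mul, map_inv, det_sc, hs, inv_mul_cancel]
    refine ⟨(s, ⟨(sc s)⁻¹ * g, hmem⟩), ?_⟩
    simp

/-- transport of irreducible characters between `SL₂` and the kernel of the determinant -/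
noncomputable def irrEquiv :
    IrrCharacter (N F) ≃ IrrCharacter (Matrix.SpecialLinearGroup (Fin 2) F) where
  toFun ψ := ⟨fun s => (ψ : N F → ℂ) (ι s), isIrrCharacter_comp_equiv ι ψ.2⟩
  invFun ψ := ⟨fun n => (ψ : Matrix.SpecialLinearGroup (Fin 2) F → ℂ) (ι.symm n),
    isIrrCharacter_comp_equiv ι.symm ψ.2⟩
  left_inv ψ := by
    apply Subtype.ext
    funext n
    simp
  right_inv ψ := by
    apply Subtype.ext
    funext n
    simp

lemma card_SL2_degree (k : ℂ) :
    Nat.card {ψ : IrrCharacter (N F) // (ψ : N F → ℂ) 1 = k} =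
      Nat.card {ψ : IrrCharacter (Matrix.SpecialLinearGroup (Fin 2) F) //
        (ψ : Matrix.SpecialLinearGroup (Fin 2) F → ℂ) 1 = k} := by
  apply Nat.card_congr
  refine Equiv.subtypeEquiv irrEquiv ?_
  intro ψ
  simp only [irrEquiv, Equiv.coe_fn_mk, map_one]

end

/-- Over a finite field F with q elements, q even, every irreducible complex character of SL₂ has degree 1, q − 1, q or q + 1; and when q ≥ 4 (so that these four numbers are distinct) there are exactly one irreducible character of degree 1, one of degree q, (q − 2)/2 of degree q + 1 and q/2 of degree q − 1. -/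
theorem result {F : Type*} [Field F] [Fintype F] [CharP F 2] :
    (∀ χ : Matrix.SpecialLinearGroup (Fin 2) F → ℂ, Cfsg.IsIrrCharacter (Matrix.SpecialLinearGroup (Fin 2) F) χ →
      χ 1 = 1 ∨ χ 1 = (Fintype.card F : ℂ) - 1 ∨ χ 1 = (Fintype.card F : ℂ) ∨ χ 1 = (Fintype.card F : ℂ) + 1) ∧
    (4 ≤ Fintype.card F →
      Nat.card {χ : Cfsg.IrrCharacter (Matrix.SpecialLinearGroup (Fin 2) F) // (χ : Matrix.SpecialLinearGroup (Fin 2) F → ℂ) 1 = 1} = 1 ∧
      Nat.card {χ : Cfsg.IrrCharacter (Matrix.SpecialLinearGroup (Fin 2) F) // (χ : Matrix.SpecialLinearGroup (Fin 2) F → ℂ) 1 = (Fintype.card F : ℂ)} = 1 ∧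
      Nat.card {χ : Cfsg.IrrCharacter (Matrix.SpecialLinearGroup (Fin 2) F) // (χ : Matrix.SpecialLinearGroup (Fin 2) F → ℂ) 1 = (Fintype.card F : ℂ) + 1} = (Fintype.card F - 2) / 2 ∧
      Nat.card {χ : Cfsg.IrrCharacter (Matrix.SpecialLinearGroup (Fin 2) F) // (χ : Matrix.SpecialLinearGroup (Fin 2) F → ℂ) 1 = (Fintype.card F : ℂ) - 1} = Fintype.card F / 2) := by
  classical
  have : Fintype (N F) := Fintype.ofFinite _
  have hG := Cfsg.Agent.S2298.result (F := F)
  have hq1 : Fintype.card Fˣ = Fintype.card F - 1 := Fintype.card_units F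
  have hqpos := Fintype.card_pos (α := F)
  have heven : Even (Fintype.card F) := by
    have h2 : (2 : ℕ) ∣ Fintype.card F := by
      have := CharP.cast_eq_zero_iff F 2 (Fintype.card F)
      rw [← this]
      exact Nat.cast_card_eq_zero F
    exact even_iff_two_dvd.mpr h2
  obtain ⟨m, hm⟩ := heven
  constructor
  · intro χ hχ
    have hψ : IsIrrCharacter (N F) (fun n => χ (ι.symm n)) := isIrrCharacter_comp_equiv ι.symm hχ
    obtain ⟨χ', hχ', hres⟩ := exists_restrict_of_central_prod (N F) sc sc_mem_center Ψ_bijective hψ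
    have h1 : χ 1 = χ' 1 := by
      have := congrFun hres 1
      simp only [map_one, OneMemClass.coe_one] at this
      exact this.symm
    rw [h1]
    exact hG.1 χ' hχ'
  · intro h4
    obtain ⟨c1, c2, c3, c4⟩ := hG.2 (by omega)
    rw [card_degree_of_central_prod (N F) sc sc_mem_center Ψ_bijective, card_SL2_degree, hq1] at c1 c2 c3 c4
    refine ⟨?_, ?_, ?_, ?_⟩
    · have : (Fintype.card F - 1) * Nat.card {ψ : IrrCharacter (Matrix.SpecialLinearGroup (Fin 2) F) //
        (ψ : Matrix.SpecialLinearGroup (Fin 2) F → ℂ) 1 = 1} = (Fintype.card F - 1) * 1 := by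
        rw [c1, mul_one]
      exact Nat.eq_of_mul_eq_mul_left (by omega) this
    · have : (Fintype.card F - 1) * Nat.card {ψ : IrrCharacter (Matrix.SpecialLinearGroup (Fin 2) F) //
        (ψ : Matrix.SpecialLinearGroup (Fin 2) F → ℂ) 1 = (Fintype.card F : ℂ)} = (Fintype.card F - 1) * 1 := by
        rw [c2, mul_one]
      exact Nat.eq_of_mul_eq_mul_left (by omega) this
    · have e : (Fintype.card F - 1) * (Fintype.card F - 2) / 2 =
          (Fintype.card F - 1) * ((Fintype.card F - 2) / 2) := by
        have h2 : Fintype.card F - 2 = 2 * (m - 1) := by omega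
        rw [h2, Nat.mul_div_cancel_left _ (by norm_num : 0 < 2), ← mul_assoc,
          mul_comm (Fintype.card F - 1) 2, mul_assoc, Nat.mul_div_cancel_left _ (by norm_num : 0 < 2)]
      rw [e] at c3
      exact Nat.eq_of_mul_eq_mul_left (by omega) c3
    · have e : Fintype.card F * (Fintype.card F - 1) / 2 =
          (Fintype.card F - 1) * (Fintype.card F / 2) := by
        have h2 : Fintype.card F = 2 * m := by omega
        rw [h2, Nat.mul_div_cancel_left _ (by norm_num : 0 < 2), mul_assoc,
          Nat.mul_div_cancel_left _ (by norm_num : 0 < 2), mul_comm]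
      rw [e] at c4
      exact Nat.eq_of_mul_eq_mul_left (by omega) c4

end Cfsg.Agent.S2300
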