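import Mathlib
import Cfsg.Statements.S0800

set_option autoImplicit false
open Cfsg

namespace Cfsg.Agent.S0800

open Polynomial

theorem mem_range_of_pow_card_eq {F L : Type*} [Field F] [Fintype F] [Field L] [Algebra F L] (x : L)
    (hx : x ^ Fintype.card F = x) : ∃ c : F, algebraMap F L c = x := by
  classical
  set q := Fintype.card F with hq
  have hq1 : 1 < q := Fintype.one_lt_card
  have hroots : (X ^ q - X : F[X]).roots = Finset.univ.val := FiniteField.roots_X_pow_card_sub_X F
  have hcard : Multiset.card (X ^ q - X : F[X]).roots = (X ^ q - X : F[X]).natDegree := by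
    rw [hroots, FiniteField.X_pow_card_sub_X_natDegree_eq F hq1]
    simp [hq]
  have hmap := roots_map_of_injective_of_card_eq_natDegree (algebraMap F L).injective hcard
  have hpm : (X ^ q - X : F[X]).map (algebraMap F L) = X ^ q - X := by simp
  have hne : (X ^ q - X : L[X]) ≠ 0 := FiniteField.X_pow_card_sub_X_ne_zero L hq1
  have hxroot : x ∈ ((X ^ q - X : F[X]).map (algebraMap F L)).roots := by
    rw [hpm, mem_roots hne]
    simp [hx]
  rw [← hmap, Multiset.mem_map] at hxroot
  obtain ⟨c, -, hc⟩ := hxroot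
  exact ⟨c, hc⟩

theorem dvd_of_no_root {F : Type*} [Field F] [Fintype F] (p : ℕ) [Fact p.Prime] [CharP F p] (t : F)
    (hno : ∀ c : F, c ^ 2 - t * c + 1 ≠ 0) :
    (X ^ 2 - C t * X + 1 : F[X]) ∣ X ^ (Fintype.card F + 1) - 1 := by
  classical
  set f : F[X] := X ^ 2 - C t * X + 1 with hf
  have hmonic : f.Monic := by
    rw [hf]
    monicity!
  have hdeg : f.natDegree = 2 := by
    rw [hf]
    compute_degree!
  have hroots : f.roots = 0 := by
    rw [Multiset.eq_zero_iff_forall_notMem]
    intro c hc
    rw [mem_roots hmonic.ne_zero] at hc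
    apply hno c
    simpa [hf] using hc
  have hirr : Irreducible f :=
    (hmonic.irreducible_iff_roots_eq_zero_of_degree_le_three (by omega) (by omega)).mpr hroots
  have : Fact (Irreducible f) := ⟨hirr⟩
  set L := AdjoinRoot f
  set α : L := AdjoinRoot.root f with hα
  set q := Fintype.card F with hq
  obtain ⟨k, hpk, hqk'⟩ := FiniteField.card F p
  have hqk : q = p ^ (k : ℕ) := hqk'
  have : CharP L p := charP_of_injective_algebraMap (algebraMap F L).injective p
  -- α is a root
  have hroot : α ^ 2 - algebraMap F L t * α + 1 = 0 := by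
    have := AdjoinRoot.eval₂_root f
    rw [AdjoinRoot.algebraMap_eq]
    simpa [hf, eval₂_sub, eval₂_add, eval₂_mul, eval₂_pow] using this
  have htq : (algebraMap F L t) ^ q = algebraMap F L t := by
    rw [← map_pow, FiniteField.pow_card]
  -- β = α^q is also a root
  have hroot' : (α ^ q) ^ 2 - algebraMap F L t * α ^ q + 1 = 0 := by
    have h1 : (α ^ 2 - algebraMap F L t * α + 1) ^ q = 0 := by
      rw [hroot, zero_pow (Fintype.card_pos).ne']
    rw [hqk, add_pow_char_pow, sub_pow_char_pow, mul_pow, one_pow, ← hqk, htq, ← pow_mul,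
      mul_comm 2 q, pow_mul] at h1
    exact h1
  have hprod : (α ^ q - α) * (α ^ q - (algebraMap F L t - α)) = 0 := by
    linear_combination hroot' - hroot
  rw [← AdjoinRoot.mk_eq_zero (f := f)]
  rcases mul_eq_zero.mp hprod with h | h
  · exfalso
    obtain ⟨c, hc⟩ := mem_range_of_pow_card_eq (F := F) α (sub_eq_zero.mp h)
    apply hno c
    apply (algebraMap F L).injective
    rw [map_add, map_sub, map_mul, map_pow, map_one, map_zero, hc]
    exact hroot
  · have hαq : α ^ q = algebraMap F L t - α := sub_eq_zero.mp h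
    have : α ^ (q + 1) = 1 := by
      rw [pow_succ, hαq]
      linear_combination -hroot
    simp only [map_sub, map_pow, AdjoinRoot.mk_X, map_one]
    rw [this, sub_self]

theorem dvd_of_distinct_roots {F : Type*} [Field F] [Fintype F] (lam : F) (h0 : lam ≠ 0)
    (h1 : lam ^ 2 ≠ 1) :
    (X ^ 2 - C (lam + lam⁻¹) * X + 1 : F[X]) ∣ X ^ (Fintype.card F - 1) - 1 := by
  have hfac : (X ^ 2 - C (lam + lam⁻¹) * X + 1 : F[X]) = (X - C lam) * (X - C lam⁻¹) := by
    have : (C lam * C lam⁻¹ : F[X]) = 1 := by
      rw [← C_mul, mul_inv_cancel₀ h0, C_1]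
    rw [C_add]
    linear_combination -this
  rw [hfac]
  have hinv0 : lam⁻¹ ≠ 0 := inv_ne_zero h0
  apply IsCoprime.mul_dvd
  · apply isCoprime_X_sub_C_of_isUnit_sub
    rw [isUnit_iff_ne_zero]
    intro h
    apply h1
    have : lam = lam⁻¹ := sub_eq_zero.mp h
    calc lam ^ 2 = lam * lam := sq lam
      _ = lam * lam⁻¹ := by rw [← this]
      _ = 1 := mul_inv_cancel₀ h0
  · rw [dvd_iff_isRoot]
    simp [FiniteField.pow_card_sub_one_eq_one lam h0]
  · rw [dvd_iff_isRoot]
    simp [FiniteField.pow_card_sub_one_eq_one lam⁻¹ hinv0]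

theorem dvd_of_double_root {F : Type*} [Field F] (p : ℕ) [Fact p.Prime] [CharP F p] (lam : F)
    (h1 : lam ^ 2 = 1) :
    (X ^ 2 - C (lam + lam) * X + 1 : F[X]) ∣ X ^ (2 * p) - 1 := by
  have hfac : (X ^ 2 - C (lam + lam) * X + 1 : F[X]) = (X - C lam) ^ 2 := by
    have : (C lam ^ 2 : F[X]) = 1 := by
      rw [← C_pow, h1, C_1]
    rw [C_add]
    linear_combination -this
  have hfac2 : (X ^ (2 * p) - 1 : F[X]) = ((X - C lam) * (X + C lam)) ^ p := by
    have : (C lam ^ 2 : F[X]) = 1 := by
      rw [← C_pow, h1, C_1]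
    have h2 : ((X - C lam) * (X + C lam) : F[X]) = X ^ 2 - 1 := by
      linear_combination -this
    rw [h2, sub_pow_char, one_pow, ← pow_mul]
  rw [hfac, hfac2, mul_pow]
  apply Dvd.dvd.mul_right
  exact pow_dvd_pow _ (Fact.out : p.Prime).two_le

theorem pow_eq_one_of_charpoly_dvd {F : Type*} [Field F] (M : Matrix (Fin 2) (Fin 2) F) (n : ℕ)
    (h : M.charpoly ∣ X ^ n - 1) : M ^ n = 1 := by
  obtain ⟨r, hr⟩ := h
  have := congrArg (aeval M) hr
  rw [map_mul, Matrix.aeval_self_charpoly, zero_mul] at this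
  simpa [sub_eq_zero] using this

/-- Tori of SL_2(q): if g ∈ SL_2(q) has order coprime to the characteristic p, then the order of g divides q − 1 or q + 1. -/
theorem result {F : Type*} [Field F] [Fintype F] {q : ℕ} (hF : Fintype.card F = q) (p : ℕ) [Fact p.Prime] [CharP F p] (g : Matrix.SpecialLinearGroup (Fin 2) F) (hg : Nat.Coprime (orderOf g) p) : orderOf g ∣ q - 1 ∨ orderOf g ∣ q + 1 := by
  subst hF
  set M : Matrix (Fin 2) (Fin 2) F := (g : Matrix (Fin 2) (Fin 2) F) with hM
  set t : F := M.trace with ht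
  have hchar : M.charpoly = X ^ 2 - C t * X + 1 := by
    rw [Matrix.charpoly_fin_two, hM, g.det_coe, C_1]
  have hpow : ∀ n : ℕ, M.charpoly ∣ X ^ n - 1 → orderOf g ∣ n := by
    intro n hn
    apply orderOf_dvd_of_pow_eq_one
    apply Subtype.ext
    have := pow_eq_one_of_charpoly_dvd M n hn
    rw [Matrix.SpecialLinearGroup.coe_pow, Matrix.SpecialLinearGroup.coe_one]
    exact this
  by_cases hroot : ∃ c : F, c ^ 2 - t * c + 1 = 0
  · left
    obtain ⟨lam, hlam⟩ := hroot
    have h0 : lam ≠ 0 := by
      rintro rfl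
      simp at hlam
    have htl : t = lam + lam⁻¹ := by
      field_simp
      linear_combination -hlam
    by_cases h1 : lam ^ 2 = 1
    · have hinv : lam⁻¹ = lam := by
        apply inv_eq_of_mul_eq_one_left
        rw [← sq, h1]
      have hdvd : orderOf g ∣ 2 * p := by
        apply hpow
        rw [hchar, htl, hinv]
        exact dvd_of_double_root p lam h1
      have h2 : orderOf g ∣ 2 := Nat.Coprime.dvd_of_dvd_mul_right hg hdvd
      rcases (Nat.dvd_prime Nat.prime_two).mp h2 with h | h
      · rw [h]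
        exact one_dvd _
      · rw [h] at hg ⊢
        obtain ⟨k, hpk, hqk⟩ := FiniteField.card F p
        have hp2 : p ≠ 2 := by
          rintro rfl
          norm_num at hg
        have hodd : Odd (Fintype.card F) := by
          rw [hqk]
          exact (hpk.odd_of_ne_two hp2).pow
        obtain ⟨m, hm⟩ := hodd
        exact ⟨m, by omega⟩
    · apply hpow
      rw [hchar, htl]
      exact dvd_of_distinct_roots lam h0 h1
  · right
    push Not at hroot
    apply hpow
    rw [hchar]
    exact dvd_of_no_root p t hroot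

end Cfsg.Agent.S0800
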