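import Cfsg.Statements.S2299
import Mathlib
import Cfsg.Agent.Lib.Helper38.SL2OddMain

set_option autoImplicit false
set_option linter.unusedSectionVars false
open Cfsg

namespace Cfsg.Agent.S2299

open Matrix Cfsg.Agent.Helper38 Cfsg.Agent.Helper81
open Cfsg.Agent.Helper3 (fintypeIrr)

section

variable {F : Type*} [Field F] [Fintype F] [DecidableEq F] [Fintype (N F)]

/-- transport of irreducible characters between `SL₂` and the kernel of the determinant -/
noncomputable def irrEquiv :
    IrrCharacter (N F) ≃ IrrCharacter (Matrix.SpecialLinearGroup (Fin 2) F) where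
  toFun ψ := ⟨fun s => (ψ : N F → ℂ) (ι s), isIrrCharacter_comp_equiv ι ψ.2⟩
  invFun ψ := ⟨fun n => (ψ : Matrix.SpecialLinearGroup (Fin 2) F → ℂ) (ι.symm n),
    isIrrCharacter_comp_equiv ι.symm ψ.2⟩
  left_inv ψ := by
    apply Subtype.ext
    funext n
    simp
  right_inv ψ := by
    apply Subtype.ext
    funext n
    simp

open scoped Classical in
lemma card_SL2_degree (k : ℂ) :
    Nat.card {ψ : IrrCharacter (Matrix.SpecialLinearGroup (Fin 2) F) //
        (ψ : Matrix.SpecialLinearGroup (Fin 2) F → ℂ) 1 = k} =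
      (Finset.univ.filter (fun ψ : IrrCharacter (N F) => (ψ : N F → ℂ) 1 = k)).card := by
  rw [← Fintype.card_subtype, ← Nat.card_eq_fintype_card]
  apply Nat.card_congr
  symm
  refine Equiv.subtypeEquiv irrEquiv ?_
  intro ψ
  simp only [irrEquiv, Equiv.coe_fn_mk, map_one]

variable {ε : MulChar F ℂ}

/-- the degree of an irreducible character of `ker det` -/
theorem degree_cases (hε : QuadData ε) (ψ : IrrCharacter (N F)) :
    ∃ k : ℕ, (ψ : N F → ℂ) 1 = (k : ℂ) ∧
      (k = 1 ∨ k = Fintype.card Fˣ + 1 ∨ k = Fintype.card Fˣ + 2 ∨ k = Fintype.card Fˣ ∨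
        2 * k = Fintype.card Fˣ + 2 ∨ 2 * k = Fintype.card Fˣ) := by
  classical
  have hsum := sum_cnum_over hε ψ
  have hn := card_units_pos (F := F)
  have hex : ∃ χ : IrrCharacter (GL (Fin 2) F), ψ ∈ cons χ := by
    by_contra hcon
    push Not at hcon
    rw [Finset.sum_eq_zero (fun χ _ => if_neg (hcon χ))] at hsum
    omega
  obtain ⟨χ, hχ⟩ := hex
  obtain ⟨-, -, hs3⟩ := cons_spec hε χ
  have h1 := hs3 ψ hχ
  rw [deg_spec] at h1
  obtain ⟨k, -, hk⟩ := irr_one_pos ψ.2
  refine ⟨k, hk, ?_⟩
  rw [hk] at h1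
  have h2 : cnum ε χ * k = deg χ := by exact_mod_cast h1
  by_cases hs : Split ε χ
  · have hc : cnum ε χ = 2 := by unfold cnum; exact if_pos hs
    rw [hc] at h2
    rcases mem_families χ with h | h | h | h
    · exact absurd hs (not_split_SA hε.ne_one χ h)
    · exact absurd hs (not_split_SS hε.ne_one χ h)
    · have := deg_SP χ h
      right; right; right; right; left
      omega
    · have := deg_SC χ h
      right; right; right; right; right
      omega
  · have hc : cnum ε χ = 1 := by unfold cnum; exact if_neg hs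
    rw [hc, one_mul] at h2
    rcases mem_families χ with h | h | h | h
    · have := deg_SA χ h
      left; omega
    · have := deg_SS χ h
      right; left; omega
    · have := deg_SP χ h
      right; right; left; omega
    · have := deg_SC χ h
      right; right; right; left; omega

end

/-- Over a finite field F with q elements, q odd, every irreducible complex character of SL₂ has degree 1, q, q + 1, q − 1, (q + 1)/2 or (q − 1)/2; and when q ≥ 5 (so that these six numbers are distinct) there are exactly one irreducible character of degree 1, one of degree q, (q − 3)/2 of degree q + 1, (q − 1)/2 of degree q − 1, two of degree (q + 1)/2 and two of degree (q − 1)/2. -/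
theorem result {F : Type*} [Field F] [Fintype F] (hodd : Odd (Fintype.card F)) :
    (∀ χ : Matrix.SpecialLinearGroup (Fin 2) F → ℂ, Cfsg.IsIrrCharacter (Matrix.SpecialLinearGroup (Fin 2) F) χ →
      χ 1 = 1 ∨ χ 1 = (Fintype.card F : ℂ) ∨ χ 1 = (Fintype.card F : ℂ) + 1 ∨ χ 1 = (Fintype.card F : ℂ) - 1 ∨
        χ 1 = (((Fintype.card F + 1) / 2 : ℕ) : ℂ) ∨ χ 1 = (((Fintype.card F - 1) / 2 : ℕ) : ℂ)) ∧
    (5 ≤ Fintype.card F →
      Nat.card {χ : Cfsg.IrrCharacter (Matrix.SpecialLinearGroup (Fin 2) F) // (χ : Matrix.SpecialLinearGroup (Fin 2) F → ℂ) 1 = 1} = 1 ∧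
      Nat.card {χ : Cfsg.IrrCharacter (Matrix.SpecialLinearGroup (Fin 2) F) // (χ : Matrix.SpecialLinearGroup (Fin 2) F → ℂ) 1 = (Fintype.card F : ℂ)} = 1 ∧
      Nat.card {χ : Cfsg.IrrCharacter (Matrix.SpecialLinearGroup (Fin 2) F) // (χ : Matrix.SpecialLinearGroup (Fin 2) F → ℂ) 1 = (Fintype.card F : ℂ) + 1} = (Fintype.card F - 3) / 2 ∧
      Nat.card {χ : Cfsg.IrrCharacter (Matrix.SpecialLinearGroup (Fin 2) F) // (χ : Matrix.SpecialLinearGroup (Fin 2) F → ℂ) 1 = (Fintype.card F : ℂ) - 1} = (Fintype.card F - 1) / 2 ∧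
      Nat.card {χ : Cfsg.IrrCharacter (Matrix.SpecialLinearGroup (Fin 2) F) // (χ : Matrix.SpecialLinearGroup (Fin 2) F → ℂ) 1 = (((Fintype.card F + 1) / 2 : ℕ) : ℂ)} = 2 ∧
      Nat.card {χ : Cfsg.IrrCharacter (Matrix.SpecialLinearGroup (Fin 2) F) // (χ : Matrix.SpecialLinearGroup (Fin 2) F → ℂ) 1 = (((Fintype.card F - 1) / 2 : ℕ) : ℂ)} = 2) := by
  classical
  have : Fintype (N F) := Fintype.ofFinite _
  obtain ⟨ε, hε1, hε2, hε3⟩ := exists_quadratic hodd
  have hε : QuadData ε := ⟨hε1, hε2, hε3⟩
  have hF := card_F_eq (F := F)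
  have hn := card_units_pos (F := F)
  obtain ⟨m, hm⟩ := hodd
  have hnm : Fintype.card Fˣ = 2 * m := by omega
  constructor
  · intro χ hχ
    obtain ⟨k, hk, hcases⟩ := degree_cases hε (irrEquiv.symm ⟨χ, hχ⟩)
    have h1 : χ 1 = (k : ℂ) := by
      rw [← hk]
      simp [irrEquiv]
    rw [h1, hF]
    rcases hcases with h | h | h | h | h | h
    · left; rw [h]; simp
    · right; left; rw [h]
    · right; right; left; rw [h]; push_cast; ring
    · right; right; right; left; rw [h]; push_cast; ring
    · right; right; right; right; left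
      congr 1
      omega
    · right; right; right; right; right
      congr 1
      omega
  · intro h5
    have hm2 : 2 ≤ m := by omega
    have hSP := card_SP (F := F)
    have hSC := card_SC (F := F)
    refine ⟨?_, ?_, ?_, ?_, ?_, ?_⟩
    · obtain ⟨sP, uP, sC, uC, e1, e2, e3, e4, hform⟩ := card_degree_formula hε 1
      rw [show ((1 : ℂ) = ((1 : ℕ) : ℂ)) by simp, card_SL2_degree]
      rw [if_pos rfl, if_neg (by omega), if_neg (by omega), if_neg (by omega), if_neg (by omega),
        if_neg (by omega)] at hform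
      have : Fintype.card Fˣ * (Finset.univ.filter (fun ψ : IrrCharacter (N F) => (ψ : N F → ℂ) 1 = ((1 : ℕ) : ℂ))).card =
          Fintype.card Fˣ * 1 := by rw [hform]; ring
      exact Nat.eq_of_mul_eq_mul_left hn this
    · obtain ⟨sP, uP, sC, uC, e1, e2, e3, e4, hform⟩ := card_degree_formula hε (Fintype.card Fˣ + 1)
      rw [show ((Fintype.card F : ℂ) = ((Fintype.card Fˣ + 1 : ℕ) : ℂ)) by rw [hF], card_SL2_degree]
      rw [if_neg (by omega), if_pos rfl, if_neg (by omega), if_neg (by omega), if_neg (by omega),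
        if_neg (by omega)] at hform
      have : Fintype.card Fˣ * (Finset.univ.filter (fun ψ : IrrCharacter (N F) =>
          (ψ : N F → ℂ) 1 = ((Fintype.card Fˣ + 1 : ℕ) : ℂ))).card = Fintype.card Fˣ * 1 := by
        rw [hform]; ring
      exact Nat.eq_of_mul_eq_mul_left hn this
    · obtain ⟨sP, uP, sC, uC, e1, e2, e3, e4, hform⟩ := card_degree_formula hε (Fintype.card Fˣ + 2)
      rw [show ((Fintype.card F : ℂ) + 1 = ((Fintype.card Fˣ + 2 : ℕ) : ℂ)) by rw [hF]; push_cast; ring,
        card_SL2_degree]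
      rw [if_neg (by omega), if_neg (by omega), if_neg (by omega), if_pos rfl, if_neg (by omega),
        if_neg (by omega)] at hform
      have : Fintype.card Fˣ * (2 * (Finset.univ.filter (fun ψ : IrrCharacter (N F) =>
          (ψ : N F → ℂ) 1 = ((Fintype.card Fˣ + 2 : ℕ) : ℂ))).card + 2) =
            Fintype.card Fˣ * Fintype.card Fˣ := by
        nlinarith
      have h2 := Nat.eq_of_mul_eq_mul_left hn this
      omega
    · obtain ⟨sP, uP, sC, uC, e1, e2, e3, e4, hform⟩ := card_degree_formula hε (Fintype.card Fˣ)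
      rw [show ((Fintype.card F : ℂ) - 1 = ((Fintype.card Fˣ : ℕ) : ℂ)) by rw [hF]; push_cast; ring,
        card_SL2_degree]
      rw [if_neg (by omega), if_neg (by omega), if_neg (by omega), if_neg (by omega), if_neg (by omega),
        if_pos rfl] at hform
      have : Fintype.card Fˣ * (2 * (Finset.univ.filter (fun ψ : IrrCharacter (N F) =>
          (ψ : N F → ℂ) 1 = ((Fintype.card Fˣ : ℕ) : ℂ))).card) =
            Fintype.card Fˣ * Fintype.card Fˣ := by
        nlinarith
      have h2 := Nat.eq_of_mul_eq_mul_left hn this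
      omega
    · obtain ⟨sP, uP, sC, uC, e1, e2, e3, e4, hform⟩ := card_degree_formula hε ((Fintype.card F + 1) / 2)
      rw [card_SL2_degree]
      have hk : (Fintype.card F + 1) / 2 = m + 1 := by omega
      rw [hk] at hform ⊢
      rw [if_neg (by omega), if_neg (by omega), if_pos (by omega), if_neg (by omega), if_neg (by omega),
        if_neg (by omega)] at hform
      have : Fintype.card Fˣ * (Finset.univ.filter (fun ψ : IrrCharacter (N F) =>
          (ψ : N F → ℂ) 1 = ((m + 1 : ℕ) : ℂ))).card = Fintype.card Fˣ * 2 := by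
        rw [hform]; omega
      exact Nat.eq_of_mul_eq_mul_left hn this
    · obtain ⟨sP, uP, sC, uC, e1, e2, e3, e4, hform⟩ := card_degree_formula hε ((Fintype.card F - 1) / 2)
      rw [card_SL2_degree]
      have hk : (Fintype.card F - 1) / 2 = m := by omega
      rw [hk] at hform ⊢
      rw [if_neg (by omega), if_neg (by omega), if_neg (by omega), if_neg (by omega), if_pos (by omega),
        if_neg (by omega)] at hform
      have : Fintype.card Fˣ * (Finset.univ.filter (fun ψ : IrrCharacter (N F) =>
          (ψ : N F → ℂ) 1 = ((m : ℕ) : ℂ))).card = Fintype.card Fˣ * 2 := by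
        rw [hform]; omega
      exact Nat.eq_of_mul_eq_mul_left hn this

end Cfsg.Agent.S2299
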