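import Cfsg.Statements.S2309
import Mathlib
import Cfsg.Agent.Lib.Helper38.GL2Split

set_option autoImplicit false
open Cfsg

namespace Cfsg.Agent.S2309

open Matrix Cfsg.Agent.Helper38
open Cfsg.Agent.Helper3 (fintypeIrr)
open Cfsg.Agent.S2305 (dg e)

section

variable {F : Type*} [Field F] [Fintype F] [DecidableEq F]

/-- the principal series vanishes at elements without eigenvectors -/
lemma ind_no_eigen (α β : MulChar F ℂ) (g : GL (Fin 2) F)
    (hg : ∀ (c : F) (v : Fin 2 → F), v ≠ 0 → (g : Matrix (Fin 2) (Fin 2) F).mulVec v ≠ c • v) :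
    indFun (upperTriangularGL 2 F) (θ α β) g = 0 := by
  unfold θ
  rw [Cfsg.Agent.S2305.ind_eq]
  have h0 : ∀ x : GL (Fin 2) F, e α β (x⁻¹ * g * x) = 0 := by
    intro x
    unfold e
    rw [if_neg]
    intro h10
    set y := x⁻¹ * g * x with hy
    have hxy : x * y = g * x := by rw [hy]; simp [mul_assoc]
    have hm : (x : Matrix (Fin 2) (Fin 2) F) * (y : Matrix (Fin 2) (Fin 2) F) =
        (g : Matrix (Fin 2) (Fin 2) F) * (x : Matrix (Fin 2) (Fin 2) F) := by
      rw [← Matrix.GeneralLinearGroup.coe_mul, ← Matrix.GeneralLinearGroup.coe_mul, hxy]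
    let v : Fin 2 → F := fun i => (x : Matrix (Fin 2) (Fin 2) F) i 0
    have hv : v ≠ 0 := by
      intro hv0
      have h0 : (x : Matrix (Fin 2) (Fin 2) F) 0 0 = 0 := congrFun hv0 0
      have h1 : (x : Matrix (Fin 2) (Fin 2) F) 1 0 = 0 := congrFun hv0 1
      have hdet := (Matrix.GeneralLinearGroup.det x).ne_zero
      rw [det_coe, h0, h1] at hdet
      simp at hdet
    apply hg ((y : Matrix (Fin 2) (Fin 2) F) 0 0) v hv
    funext i
    have := congrFun (congrFun hm i) 0
    simp only [Matrix.mul_apply, Fin.sum_univ_two, h10, mul_zero, add_zero] at this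
    simp only [Matrix.mulVec, dotProduct, Fin.sum_univ_two, Pi.smul_apply, smul_eq_mul]
    rw [← this]
    ring
  simp_rw [h0]
  simp

end

/-- Over a finite field F with q elements: every irreducible complex character of GL₂ of degree q − 1 vanishes at every diagonal matrix with two distinct entries, and every irreducible complex character of degree q + 1 vanishes at every element with no eigenvector in F². -/
theorem result {F : Type*} [Field F] [Fintype F] (χ : Matrix.GeneralLinearGroup (Fin 2) F → ℂ) (hχ : Cfsg.IsIrrCharacter (Matrix.GeneralLinearGroup (Fin 2) F) χ) (g : Matrix.GeneralLinearGroup (Fin 2) F) :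
    (χ 1 = (Fintype.card F : ℂ) - 1 → (g : Matrix (Fin 2) (Fin 2) F) 0 1 = 0 → (g : Matrix (Fin 2) (Fin 2) F) 1 0 = 0 → (g : Matrix (Fin 2) (Fin 2) F) 0 0 ≠ (g : Matrix (Fin 2) (Fin 2) F) 1 1 → χ g = 0) ∧
    (χ 1 = (Fintype.card F : ℂ) + 1 → (∀ (c : F) (v : Fin 2 → F), v ≠ 0 → (g : Matrix (Fin 2) (Fin 2) F).mulVec v ≠ c • v) → χ g = 0) := by
  classical
  have hF := card_F_eq (F := F)
  have hd := deg_spec (⟨χ, hχ⟩ : IrrCharacter (GL (Fin 2) F))
  simp only at hd
  have key : ∀ k : ℕ, χ 1 = (k : ℂ) → deg (⟨χ, hχ⟩ : IrrCharacter (GL (Fin 2) F)) = k := by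
    intro k hk
    rw [hd] at hk
    exact_mod_cast hk
  constructor
  · intro h1 h01 h10 hne
    have hk := key (Fintype.card Fˣ) (by rw [h1, hF]; push_cast; ring)
    have hdet := (Matrix.GeneralLinearGroup.det g).ne_zero
    rw [det_coe, h01, zero_mul, sub_zero] at hdet
    have h00 : (g : Matrix (Fin 2) (Fin 2) F) 0 0 ≠ 0 := left_ne_zero_of_mul hdet
    have h11 : (g : Matrix (Fin 2) (Fin 2) F) 1 1 ≠ 0 := right_ne_zero_of_mul hdet
    have hg : g = dg (Units.mk0 _ h00) (Units.mk0 _ h11) := by
      apply Matrix.GeneralLinearGroup.ext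
      intro i j
      rw [dg_coe]
      fin_cases i <;> fin_cases j <;> simp [h01, h10]
    have hne' : Units.mk0 _ h00 ≠ Units.mk0 _ h11 := by
      intro h
      apply hne
      have := congrArg Units.val h
      simpa using this
    rcases mem_families (⟨χ, hχ⟩ : IrrCharacter (GL (Fin 2) F)) with h | h | h | h
    · exfalso
      have h2 := deg_SA _ h
      rw [hk] at h2
      have : Subsingleton Fˣ := Fintype.card_le_one_iff_subsingleton.mp (by omega)
      exact hne' (Subsingleton.elim _ _)
    · exfalso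
      have h2 := deg_SS _ h
      omega
    · exfalso
      have h2 := deg_SP _ h
      omega
    · rw [hg]
      exact SC_dg _ h _ _ hne'
  · intro h1 hg
    have hk := key (Fintype.card Fˣ + 2) (by rw [h1, hF]; push_cast; ring)
    rcases mem_families (⟨χ, hχ⟩ : IrrCharacter (GL (Fin 2) F)) with h | h | h | h
    · exfalso
      have h2 := deg_SA _ h
      omega
    · exfalso
      have h2 := deg_SS _ h
      omega
    · unfold SP at h
      obtain ⟨x, hx, hx2⟩ := Finset.mem_image.mp h
      have hx' : x.1 ≠ x.2 := (Finset.mem_offDiag.mp hx).2.2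
      have h3 : χ = indFun (upperTriangularGL 2 F) (θ x.1 x.2) := by
        rw [← irrPS_val x hx', hx2]
      rw [h3]
      exact ind_no_eigen _ _ g hg
    · exfalso
      have h2 := deg_SC _ h
      omega

end Cfsg.Agent.S2309
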