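import Cfsg.Statements.S2320
import Mathlib
import Cfsg.Agent.S2309

set_option autoImplicit false
open Cfsg

namespace Cfsg.Agent.S2320

open Matrix Cfsg.Agent.Helper38
open Cfsg.Agent.Helper3 (fintypeIrr)
open Cfsg.Agent.S2305 (dg e)
open scoped ComplexConjugate

section

variable {F : Type*} [Field F] [Fintype F] [DecidableEq F]

lemma norm_mulChar_unit (α : MulChar F ℂ) (a : Fˣ) : ‖α (a : F)‖ = 1 := by
  have h := unit_norm α a
  have h2 : ‖α (a : F)‖ ^ 2 = 1 := by
    have := Complex.mul_conj (α (a : F))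
    rw [h] at this
    have h3 : ((Complex.normSq (α (a : F)) : ℝ) : ℂ) = 1 := this.symm
    have h4 : Complex.normSq (α (a : F)) = 1 := by exact_mod_cast h3
    rw [← Complex.normSq_eq_norm_sq]
    exact h4
  have h0 : 0 ≤ ‖α (a : F)‖ := norm_nonneg _
  nlinarith [h2, h0]

/-- a degree-`q` irreducible character of `GL₂` is a Steinberg twist -/
lemma exists_stein_of_degree {χ : GL (Fin 2) F → ℂ} (hχ : IsIrrCharacter (GL (Fin 2) F) χ)
    (hdeg : χ 1 = (Fintype.card F : ℂ)) : ∃ α : MulChar F ℂ, χ = stein α := by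
  have hF := card_F_eq (F := F)
  have hd := deg_spec (⟨χ, hχ⟩ : IrrCharacter (GL (Fin 2) F))
  simp only at hd
  have hk : deg (⟨χ, hχ⟩ : IrrCharacter (GL (Fin 2) F)) = Fintype.card Fˣ + 1 := by
    rw [hd, hF] at hdeg
    exact_mod_cast hdeg
  have hpos := card_units_pos (F := F)
  rcases mem_families (⟨χ, hχ⟩ : IrrCharacter (GL (Fin 2) F)) with h | h | h | h
  · exfalso
    have h2 := deg_SA _ h
    omega
  · unfold SS at h
    obtain ⟨α, -, hα⟩ := Finset.mem_image.mp h
    refine ⟨α, ?_⟩
    have := congrArg Subtype.val hα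
    exact this.symm
  · exfalso
    have h2 := deg_SP _ h
    omega
  · exfalso
    have h2 := deg_SC _ h
    omega

lemma stein_no_eigen (α : MulChar F ℂ) (g : GL (Fin 2) F)
    (hg : ∀ (c : F) (v : Fin 2 → F), v ≠ 0 → (g : Matrix (Fin 2) (Fin 2) F).mulVec v ≠ c • v) :
    stein α g = - lin α g := by
  unfold stein
  rw [Pi.sub_apply, Cfsg.Agent.S2309.ind_no_eigen α α g hg]
  ring

end

/-- Over a finite field F with q elements, every irreducible complex character of GL₂ of degree q takes a value of absolute value 1 at every diagonal matrix with two different diagonal entries and at every element with no eigenvector in F². -/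
theorem result {F : Type*} [Field F] [Fintype F] (χ : Matrix.GeneralLinearGroup (Fin 2) F → ℂ) (hχ : Cfsg.IsIrrCharacter (Matrix.GeneralLinearGroup (Fin 2) F) χ) (hdeg : χ 1 = (Fintype.card F : ℂ)) (g : Matrix.GeneralLinearGroup (Fin 2) F) :
    ((g : Matrix (Fin 2) (Fin 2) F) 0 1 = 0 → (g : Matrix (Fin 2) (Fin 2) F) 1 0 = 0 → (g : Matrix (Fin 2) (Fin 2) F) 0 0 ≠ (g : Matrix (Fin 2) (Fin 2) F) 1 1 → ‖χ g‖ = 1) ∧
    ((∀ (c : F) (v : Fin 2 → F), v ≠ 0 → (g : Matrix (Fin 2) (Fin 2) F).mulVec v ≠ c • v) → ‖χ g‖ = 1) := by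
  classical
  obtain ⟨α, rfl⟩ := exists_stein_of_degree hχ hdeg
  constructor
  · intro h01 h10 hne
    have hdet := (Matrix.GeneralLinearGroup.det g).ne_zero
    rw [det_coe, h01, zero_mul, sub_zero] at hdet
    have h00 : (g : Matrix (Fin 2) (Fin 2) F) 0 0 ≠ 0 := left_ne_zero_of_mul hdet
    have h11 : (g : Matrix (Fin 2) (Fin 2) F) 1 1 ≠ 0 := right_ne_zero_of_mul hdet
    have hg : g = dg (Units.mk0 _ h00) (Units.mk0 _ h11) := by
      apply Matrix.GeneralLinearGroup.ext
      intro i j
      rw [dg_coe]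
      fin_cases i <;> fin_cases j <;> simp [h01, h10]
    have hne' : Units.mk0 _ h00 ≠ Units.mk0 _ h11 := by
      intro h
      apply hne
      have := congrArg Units.val h
      simpa using this
    rw [hg, stein_dg α _ _ hne', norm_mul, norm_mulChar_unit, norm_mulChar_unit, one_mul]
  · intro hg
    rw [stein_no_eigen α g hg, norm_neg]
    unfold lin
    exact norm_mulChar_unit α _

end Cfsg.Agent.S2320
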