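import Cfsg.Statements.S2321
import Mathlib
import Cfsg.Agent.S2320
import Cfsg.Agent.Lib.Helper38.SL2Over

set_option autoImplicit false
set_option linter.unusedSectionVars false
open Cfsg

namespace Cfsg.Agent.S2321

open Matrix Cfsg.Agent.Helper38
open Cfsg.Agent.Helper3 (fintypeIrr)
open Cfsg.Agent.S2305 (dg e)

section

variable {F : Type*} [Field F] [Fintype F] [DecidableEq F]

lemma lin_bmat (α : MulChar F ℂ) (a d : Fˣ) (c : F) : lin α (bmat a d c) = α a * α d := by
  unfold lin
  rw [det_coe]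
  simp

lemma stein_bmat (α : MulChar F ℂ) (a : Fˣ) (c : F) (hc : c ≠ 0) : stein α (bmat a a c) = 0 := by
  unfold stein
  rw [Pi.sub_apply, I_unip α α a c hc, lin_bmat]
  ring

lemma toGL_coe (s : Matrix.SpecialLinearGroup (Fin 2) F) :
    ((Matrix.SpecialLinearGroup.toGL s : GL (Fin 2) F) : Matrix (Fin 2) (Fin 2) F) =
      (s : Matrix (Fin 2) (Fin 2) F) := rfl

lemma det_toGL (s : Matrix.SpecialLinearGroup (Fin 2) F) :
    Matrix.GeneralLinearGroup.det (Matrix.SpecialLinearGroup.toGL s : GL (Fin 2) F) = 1 :=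
  Matrix.SpecialLinearGroup.coeToGL_det s

lemma lin_toGL (α : MulChar F ℂ) (s : Matrix.SpecialLinearGroup (Fin 2) F) :
    lin α (Matrix.SpecialLinearGroup.toGL s) = 1 := by
  unfold lin
  rw [det_toGL]
  simp

/-- a degree-`2q` character does not exist -/
lemma no_degree_two_q {X : GL (Fin 2) F → ℂ} (hX : IsIrrCharacter (GL (Fin 2) F) X)
    (h : X 1 = 2 * (Fintype.card F : ℂ)) : False := by
  have hF := card_F_eq (F := F)
  have hd := deg_spec (⟨X, hX⟩ : IrrCharacter (GL (Fin 2) F))
  simp only at hd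
  have hk : deg (⟨X, hX⟩ : IrrCharacter (GL (Fin 2) F)) = 2 * (Fintype.card Fˣ + 1) := by
    rw [hd, hF] at h
    exact_mod_cast h
  have hpos := card_units_pos (F := F)
  rcases mem_families (⟨X, hX⟩ : IrrCharacter (GL (Fin 2) F)) with h | h | h | h
  · have h2 := deg_SA _ h
    omega
  · have h2 := deg_SS _ h
    omega
  · have h2 := deg_SP _ h
    omega
  · have h2 := deg_SC _ h
    omega

end

/-- Over a finite field F with q elements, an irreducible complex character of SL₂ of degree q (the Steinberg character) takes the value 1 at every diagonal matrix whose diagonal entry a has a² ≠ 1, the value −1 at every element with no eigenvector in F², and the value 0 at every upper triangular matrix with equal diagonal entries and non-zero upper right entry. -/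
theorem result {F : Type*} [Field F] [Fintype F] (χ : Matrix.SpecialLinearGroup (Fin 2) F → ℂ) (hχ : Cfsg.IsIrrCharacter (Matrix.SpecialLinearGroup (Fin 2) F) χ) (hdeg : χ 1 = (Fintype.card F : ℂ)) (g : Matrix.SpecialLinearGroup (Fin 2) F) :
    ((g : Matrix (Fin 2) (Fin 2) F) 0 1 = 0 → (g : Matrix (Fin 2) (Fin 2) F) 1 0 = 0 → (g : Matrix (Fin 2) (Fin 2) F) 0 0 ^ 2 ≠ 1 → χ g = 1) ∧
    ((∀ (c : F) (v : Fin 2 → F), v ≠ 0 → (g : Matrix (Fin 2) (Fin 2) F).mulVec v ≠ c • v) → χ g = -1) ∧
    ((g : Matrix (Fin 2) (Fin 2) F) 1 0 = 0 → (g : Matrix (Fin 2) (Fin 2) F) 0 0 = (g : Matrix (Fin 2) (Fin 2) F) 1 1 → (g : Matrix (Fin 2) (Fin 2) F) 0 1 ≠ 0 → χ g = 0) := by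
  classical
  have : Fintype (N F) := Fintype.ofFinite _
  obtain ⟨X, hX, h⟩ := over_SL2 hχ
  rcases h with h | ⟨-, ε, -, -, χ', -, -, hsum, t, ht⟩
  · have hX1 : X 1 = (Fintype.card F : ℂ) := by
      have := h 1
      rw [map_one] at this
      rw [this, hdeg]
    obtain ⟨α, rfl⟩ := Cfsg.Agent.S2320.exists_stein_of_degree hX hX1
    have hdet : (g : Matrix (Fin 2) (Fin 2) F) 0 0 * (g : Matrix (Fin 2) (Fin 2) F) 1 1 -
        (g : Matrix (Fin 2) (Fin 2) F) 0 1 * (g : Matrix (Fin 2) (Fin 2) F) 1 0 = 1 := by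
      have := g.2
      rw [Matrix.det_fin_two] at this
      exact this
    refine ⟨?_, ?_, ?_⟩
    · intro h01 h10 hsq
      rw [h01, zero_mul, sub_zero] at hdet
      have h00 : (g : Matrix (Fin 2) (Fin 2) F) 0 0 ≠ 0 := by
        intro h0; rw [h0, zero_mul] at hdet; exact zero_ne_one hdet
      have h11 : (g : Matrix (Fin 2) (Fin 2) F) 1 1 ≠ 0 := by
        intro h0; rw [h0, mul_zero] at hdet; exact zero_ne_one hdet
      have hg : Matrix.SpecialLinearGroup.toGL g = dg (Units.mk0 _ h00) (Units.mk0 _ h11) := by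
        apply Matrix.GeneralLinearGroup.ext
        intro i j
        rw [dg_coe, toGL_coe]
        fin_cases i <;> fin_cases j <;> simp [h01, h10]
      have hne' : Units.mk0 _ h00 ≠ Units.mk0 _ h11 := by
        intro he
        apply hsq
        have := congrArg Units.val he
        simp only [Units.val_mk0] at this
        rw [pow_two]
        nth_rewrite 2 [this]
        exact hdet
      rw [← h g, hg, stein_dg α _ _ hne']
      simp only [Units.val_mk0]
      rw [← map_mul, hdet, map_one]
    · intro hE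
      rw [← h g, Cfsg.Agent.S2320.stein_no_eigen α _ hE, lin_toGL]
    · intro h10 heq hne
      rw [h10, mul_zero, sub_zero, ← heq] at hdet
      have h00 : (g : Matrix (Fin 2) (Fin 2) F) 0 0 ≠ 0 := by
        intro h0; rw [h0, zero_mul] at hdet; exact zero_ne_one hdet
      have hg : Matrix.SpecialLinearGroup.toGL g =
          bmat (Units.mk0 _ h00) (Units.mk0 _ h00) ((g : Matrix (Fin 2) (Fin 2) F) 0 1) := by
        apply Matrix.GeneralLinearGroup.ext
        intro i j
        rw [toGL_coe]
        fin_cases i <;> fin_cases j <;> simp [h10, heq]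
      rw [← h g, hg, stein_bmat α _ _ hne]
  · exfalso
    have h1 := hsum 1
    have h2 := ht 1 1 (by simp)
    rw [map_one] at h1
    rw [h2, hdeg] at h1
    apply no_degree_two_q hX
    rw [h1]
    ring

end Cfsg.Agent.S2321
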