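import Cfsg.Statements.S2310
import Mathlib
import Cfsg.Agent.Lib.Helper38.GL2Irr

set_option autoImplicit false
open Cfsg

namespace Cfsg.Agent.S2310

open Matrix Cfsg.Agent.Helper38
open Cfsg.Agent.Helper3 (fintypeIrr)

section

variable {F : Type*} [Field F] [Fintype F] [DecidableEq F]

/-- the value at `un 1` on each family -/
lemma un_cases (χ : IrrCharacter (GL (Fin 2) F)) :
    (deg χ = 1 ∧ (χ : GL (Fin 2) F → ℂ) (un 1) = 1) ∨
    (deg χ = Fintype.card Fˣ + 1 ∧ (χ : GL (Fin 2) F → ℂ) (un 1) = 0) ∨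
    (deg χ = Fintype.card Fˣ + 2 ∧ (χ : GL (Fin 2) F → ℂ) (un 1) = 1) ∨
    (deg χ = Fintype.card Fˣ ∧ (χ : GL (Fin 2) F → ℂ) (un 1) = -1) := by
  rcases mem_families χ with h | h | h | h
  · left
    refine ⟨deg_SA χ h, ?_⟩
    unfold SA at h
    obtain ⟨α, -, rfl⟩ := Finset.mem_image.mp h
    exact lin_un α
  · right; left
    refine ⟨deg_SS χ h, ?_⟩
    unfold SS at h
    obtain ⟨α, -, rfl⟩ := Finset.mem_image.mp h
    exact stein_un α
  · right; right; left
    refine ⟨deg_SP χ h, ?_⟩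
    unfold SP at h
    obtain ⟨x, hx, rfl⟩ := Finset.mem_image.mp h
    have hx' : x.1 ≠ x.2 := (Finset.mem_offDiag.mp hx).2.2
    rw [irrPS_val x hx']
    exact ind_un _ _
  · right; right; right
    exact ⟨deg_SC χ h, un_SC χ h⟩

end

/-- Over a finite field F with q ≥ 3 elements, let u be the upper unitriangular matrix of GL₂ with off-diagonal entry 1. An irreducible complex character χ of GL₂ takes at u the value 1 if χ has degree 1 or q + 1, the value −1 if χ has degree q − 1, and the value 0 if χ has degree q. -/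
theorem result {F : Type*} [Field F] [Fintype F] (hq : 3 ≤ Fintype.card F) (χ : Matrix.GeneralLinearGroup (Fin 2) F → ℂ) (hχ : Cfsg.IsIrrCharacter (Matrix.GeneralLinearGroup (Fin 2) F) χ)
    (u : Matrix.GeneralLinearGroup (Fin 2) F) (hu : (u : Matrix (Fin 2) (Fin 2) F) = !![1, 1; 0, 1]) :
    (χ 1 = 1 → χ u = 1) ∧ (χ 1 = (Fintype.card F : ℂ) + 1 → χ u = 1) ∧
    (χ 1 = (Fintype.card F : ℂ) - 1 → χ u = -1) ∧ (χ 1 = (Fintype.card F : ℂ) → χ u = 0) := by
  classical
  have hF := card_F_eq (F := F)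
  have hu' : u = un 1 := by
    apply Matrix.GeneralLinearGroup.ext
    intro i j
    rw [hu, un_coe]
  subst hu'
  have hd := deg_spec (⟨χ, hχ⟩ : IrrCharacter (GL (Fin 2) F))
  simp only at hd
  have hc := un_cases (⟨χ, hχ⟩ : IrrCharacter (GL (Fin 2) F))
  simp only at hc
  have key : ∀ k : ℕ, χ 1 = (k : ℂ) → deg (⟨χ, hχ⟩ : IrrCharacter (GL (Fin 2) F)) = k := by
    intro k hk
    rw [hd] at hk
    exact_mod_cast hk
  refine ⟨?_, ?_, ?_, ?_⟩
  · intro h
    have := key 1 (by rw [h]; simp)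
    rcases hc with ⟨h1, h2⟩ | ⟨h1, h2⟩ | ⟨h1, h2⟩ | ⟨h1, h2⟩
    · exact h2
    · omega
    · omega
    · omega
  · intro h
    have := key (Fintype.card Fˣ + 2) (by rw [h, hF]; push_cast; ring)
    rcases hc with ⟨h1, h2⟩ | ⟨h1, h2⟩ | ⟨h1, h2⟩ | ⟨h1, h2⟩
    · omega
    · omega
    · exact h2
    · omega
  · intro h
    have := key (Fintype.card Fˣ) (by rw [h, hF]; push_cast; ring)
    rcases hc with ⟨h1, h2⟩ | ⟨h1, h2⟩ | ⟨h1, h2⟩ | ⟨h1, h2⟩
    · omega
    · omega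
    · omega
    · exact h2
  · intro h
    have := key (Fintype.card Fˣ + 1) (by rw [h, hF])
    rcases hc with ⟨h1, h2⟩ | ⟨h1, h2⟩ | ⟨h1, h2⟩ | ⟨h1, h2⟩
    · omega
    · exact h2
    · omega
    · omega

end Cfsg.Agent.S2310
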