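import Cfsg.Statements.S2323
import Mathlib
import Cfsg.Agent.S2321
import Cfsg.Agent.S2310

set_option autoImplicit false
set_option linter.unusedSectionVars false
open Cfsg

namespace Cfsg.Agent.S2323

open Matrix Cfsg.Agent.Helper38
open Cfsg.Agent.Helper3 (fintypeIrr)
open Cfsg.Agent.S2305 (dg e)

section

variable {F : Type*} [Field F] [Fintype F] [DecidableEq F]

/-- degree of a character of `GL₂` as a natural number -/
lemma deg_of_eq {X : GL (Fin 2) F → ℂ} (hX : IsIrrCharacter (GL (Fin 2) F) X) (k : ℕ)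
    (h : X 1 = (k : ℂ)) : deg (⟨X, hX⟩ : IrrCharacter (GL (Fin 2) F)) = k := by
  have hd := deg_spec (⟨X, hX⟩ : IrrCharacter (GL (Fin 2) F))
  simp only at hd
  rw [hd] at h
  exact_mod_cast h

end

/-- Over a finite field F with q ≥ 4 elements, let u be the upper unitriangular matrix of SL₂ with off-diagonal entry 1. An irreducible complex character of SL₂ takes at u the value 1 if its degree is q + 1 and the value −1 if its degree is q − 1. -/
theorem result {F : Type*} [Field F] [Fintype F] (hq : 4 ≤ Fintype.card F) (χ : Matrix.SpecialLinearGroup (Fin 2) F → ℂ) (hχ : Cfsg.IsIrrCharacter (Matrix.SpecialLinearGroup (Fin 2) F) χ)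
    (u : Matrix.SpecialLinearGroup (Fin 2) F) (hu : (u : Matrix (Fin 2) (Fin 2) F) = !![1, 1; 0, 1]) :
    (χ 1 = (Fintype.card F : ℂ) + 1 → χ u = 1) ∧ (χ 1 = (Fintype.card F : ℂ) - 1 → χ u = -1) := by
  classical
  have : Fintype (N F) := Fintype.ofFinite _
  have hF := card_F_eq (F := F)
  have hu' : Matrix.SpecialLinearGroup.toGL u = un 1 := by
    apply Matrix.GeneralLinearGroup.ext
    intro i j
    rw [Cfsg.Agent.S2321.toGL_coe, hu, un_coe]
  obtain ⟨X, hX, h⟩ := over_SL2 hχ
  have hc := Cfsg.Agent.S2310.un_cases (⟨X, hX⟩ : IrrCharacter (GL (Fin 2) F))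
  simp only at hc
  rcases h with h | ⟨-, ε, -, -, χ', -, -, hsum, t, ht⟩
  · have hX1 : X 1 = χ 1 := by
      have := h 1
      rw [map_one] at this
      exact this
    rw [← h u, hu']
    constructor
    · intro h1
      have hk := deg_of_eq hX (Fintype.card Fˣ + 2) (by rw [hX1, h1, hF]; push_cast; ring)
      rcases hc with ⟨h2, h3⟩ | ⟨h2, h3⟩ | ⟨h2, h3⟩ | ⟨h2, h3⟩
      · omega
      · omega
      · exact h3
      · omega
    · intro h1
      have hk := deg_of_eq hX (Fintype.card Fˣ) (by rw [hX1, h1, hF]; push_cast; ring)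
      rcases hc with ⟨h2, h3⟩ | ⟨h2, h3⟩ | ⟨h2, h3⟩ | ⟨h2, h3⟩
      · omega
      · omega
      · omega
      · exact h3
  · have h1 := hsum 1
    have h2 := ht 1 1 (by simp)
    rw [map_one] at h1
    rw [h2] at h1
    have hfam : ∀ k : ℕ, X 1 = (k : ℂ) → k = 1 ∨ k = Fintype.card Fˣ + 1 ∨ k = Fintype.card Fˣ + 2 ∨
        k = Fintype.card Fˣ := by
      intro k hk
      have hdk := deg_of_eq hX k hk
      rcases hc with ⟨h2, -⟩ | ⟨h2, -⟩ | ⟨h2, -⟩ | ⟨h2, -⟩ <;> omega
    constructor
    · intro h3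
      exfalso
      have := hfam (2 * (Fintype.card Fˣ + 2)) (by rw [h1, h3, hF]; push_cast; ring)
      omega
    · intro h3
      exfalso
      have := hfam (2 * Fintype.card Fˣ) (by rw [h1, h3, hF]; push_cast; ring)
      omega

end Cfsg.Agent.S2323
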