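import Cfsg.Statements.S2322
import Mathlib
import Cfsg.Agent.S2323
import Cfsg.Agent.Lib.Helper38.SL2Sum

set_option autoImplicit false
set_option linter.unusedSectionVars false
open Cfsg

namespace Cfsg.Agent.S2322

open Matrix Cfsg.Agent.Helper38 Cfsg.Agent.Helper81
open Cfsg.Agent.Helper3 (fintypeIrr)
open Cfsg.Agent.S2305 (dg e dg00 dg01 dg10 dg11)
open Cfsg.Agent.S2323 (deg_of_eq)
open Cfsg.Agent.S2321 (toGL_coe)

section

variable {F : Type*} [Field F] [Fintype F] [DecidableEq F] [Fintype (N F)]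

/-- membership in the families by degree -/
lemma fam_of_deg {X : GL (Fin 2) F → ℂ} (hX : IsIrrCharacter (GL (Fin 2) F) X) (k : ℕ)
    (h : X 1 = (k : ℂ)) :
    (k = 1 ∧ (⟨X, hX⟩ : IrrCharacter (GL (Fin 2) F)) ∈ SA F) ∨
    (k = Fintype.card Fˣ + 1 ∧ (⟨X, hX⟩ : IrrCharacter (GL (Fin 2) F)) ∈ SS F) ∨
    (k = Fintype.card Fˣ + 2 ∧ (⟨X, hX⟩ : IrrCharacter (GL (Fin 2) F)) ∈ SP F) ∨
    (k = Fintype.card Fˣ ∧ (⟨X, hX⟩ : IrrCharacter (GL (Fin 2) F)) ∈ SC F) := by
  have hk := deg_of_eq hX k h
  rcases mem_families (⟨X, hX⟩ : IrrCharacter (GL (Fin 2) F)) with h | h | h | h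
  · left; exact ⟨by rw [← hk, deg_SA _ h], h⟩
  · right; left; exact ⟨by rw [← hk, deg_SS _ h], h⟩
  · right; right; left; exact ⟨by rw [← hk, deg_SP _ h], h⟩
  · right; right; right; exact ⟨by rw [← hk, deg_SC _ h], h⟩

/-- value of a conjugate at an element commuting with the conjugating element -/
lemma conjFun_comm (ψ : N F → ℂ) (t : GL (Fin 2) F) (n : N F) (h : t * (n : GL (Fin 2) F) = n * t) :
    conjFun (N F) normal_N ψ t n = ψ n := by
  rw [conjFun_apply]
  congr 1
  apply Subtype.ext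
  simp only
  rw [h, mul_inv_cancel_right]

lemma SP_no_eigen {X : GL (Fin 2) F → ℂ} (hX : IsIrrCharacter (GL (Fin 2) F) X)
    (h : (⟨X, hX⟩ : IrrCharacter (GL (Fin 2) F)) ∈ SP F) (g : GL (Fin 2) F)
    (hg : ∀ (c : F) (v : Fin 2 → F), v ≠ 0 → (g : Matrix (Fin 2) (Fin 2) F).mulVec v ≠ c • v) :
    X g = 0 := by
  unfold SP at h
  obtain ⟨x, hx, hx2⟩ := Finset.mem_image.mp h
  have hx' : x.1 ≠ x.2 := (Finset.mem_offDiag.mp hx).2.2
  have h3 : X = indFun (upperTriangularGL 2 F) (θ x.1 x.2) := by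
    have := congrArg Subtype.val hx2
    rw [irrPS_val x hx'] at this
    exact this.symm
  rw [h3]
  exact Cfsg.Agent.S2309.ind_no_eigen _ _ g hg

/-- the exceptional case `q = 3`: cuspidal characters with irreducible restriction vanish at
elements of `SL₂` without eigenvectors -/
lemma cusp_elliptic_q3 (hodd : Odd (Fintype.card F)) (hcard : Fintype.card Fˣ = 2)
    {X : GL (Fin 2) F → ℂ}
    (hX : IsIrrCharacter (GL (Fin 2) F) X)
    (h : (⟨X, hX⟩ : IrrCharacter (GL (Fin 2) F)) ∈ SC F)
    (hres : IsIrrCharacter (N F) (fun n : N F => X n)) (g : GL (Fin 2) F)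
    (hdet : Matrix.GeneralLinearGroup.det g = 1)
    (hg : ∀ (c : F) (v : Fin 2 → F), v ≠ 0 → (g : Matrix (Fin 2) (Fin 2) F).mulVec v ≠ c • v) :
    X g = 0 := by
  classical
  have hXc : IsClassFunction (GL (Fin 2) F) X :=
    isClassFunction_of_isCharacter (IsIrrCharacter.isCharacter hX)
  -- the two real valued functions
  let A : GL (Fin 2) F → ℝ := fun x =>
    if Matrix.GeneralLinearGroup.det x = 1 then Complex.normSq (X x) else 0
  let B : GL (Fin 2) F → ℝ := fun x =>
    if Matrix.GeneralLinearGroup.det x = 1 ∧ ∃ l : F, l ^ 2 - tr2 x * l + 1 = 0 then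
      Complex.normSq (X x) else 0
  have hAB : ∀ x, 0 ≤ A x - B x := by
    intro x
    simp only [A, B]
    by_cases h1 : Matrix.GeneralLinearGroup.det x = 1
    · by_cases h2 : ∃ l : F, l ^ 2 - tr2 x * l + 1 = 0
      · rw [if_pos h1, if_pos ⟨h1, h2⟩, sub_self]
      · rw [if_pos h1, if_neg (fun h => h2 h.2), sub_zero]
        exact Complex.normSq_nonneg _
    · rw [if_neg h1, if_neg (fun h => h1 h.1), sub_self]
  -- the total sum
  have hsumA : ∑ x, ((A x : ℝ) : ℂ) = (Nat.card (N F) : ℂ) := by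
    have h1 := irr_orthonormal hres hres
    rw [if_pos rfl] at h1
    unfold classInner at h1
    rw [sum_N_eq (fun x => X x * (starRingEnd ℂ) (X x))] at h1
    have hN : (Nat.card (N F) : ℂ) ≠ 0 := by
      have : Nat.card (N F) ≠ 0 := Nat.card_pos.ne'
      exact_mod_cast this
    have h2 : ∑ x : GL (Fin 2) F, (if Matrix.GeneralLinearGroup.det x = 1 then
        X x * (starRingEnd ℂ) (X x) else 0) = (Nat.card (N F) : ℂ) := by
      field_simp at h1
      exact h1
    rw [← h2]
    apply Finset.sum_congr rfl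
    intro x _
    simp only [A]
    split_ifs
    · rw [Complex.mul_conj]
    · simp
  -- the sum over the elements with eigenvectors
  have hΦ : IsClassFunction (GL (Fin 2) F) (fun x => ((B x : ℝ) : ℂ)) := by
    intro x c
    simp only [B]
    rw [Cfsg.Agent.Helper38.det_conj, tr2_conj, hXc]
  have hsumB := sum_det_one hodd (fun x => ((B x : ℝ) : ℂ)) hΦ
    (by
      intro x hx
      simp only [B]
      rw [if_neg (fun h => hx h.1)]
      simp)
    (by
      intro a d had had1
      simp only [B]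
      have hz : X (dg a d) = 0 := SC_dg _ h a d had
      rw [hz]
      simp)
    (by
      intro x hx hE
      simp only [B]
      rw [if_neg]
      · simp
      · rintro ⟨-, l, hl⟩
        apply (elliptic_iff x).mp hE l
        rw [hx]
        simpa using hl)
  have hX1 : X 1 = 2 := by
    have := deg_spec (⟨X, hX⟩ : IrrCharacter (GL (Fin 2) F))
    rw [deg_SC _ h, hcard] at this
    simpa using this
  have hXu : X (un 1) = -1 := un_SC _ h
  have tr_one : tr2 (1 : GL (Fin 2) F) = 2 := by
    unfold tr2; simp; norm_num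
  have tr_un : tr2 (un 1 : GL (Fin 2) F) = 2 := by
    unfold tr2; rw [un_coe]; simp; norm_num
  have tr_sc : tr2 (sc (-1) : GL (Fin 2) F) = -2 := by
    unfold tr2; rw [sc_coe]; simp; norm_num
  have tr_scun : tr2 (sc (-1) * un 1 : GL (Fin 2) F) = -2 := by
    rw [tr2_sc_un]; simp
  have det_un : Matrix.GeneralLinearGroup.det (un 1 : GL (Fin 2) F) = 1 := by
    apply Units.ext
    rw [det_coe, un_coe]
    simp
  have hB1 : B 1 = 4 := by
    simp only [B]
    rw [if_pos ⟨map_one _, 1, by rw [tr_one]; ring⟩, hX1]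
    simp
    norm_num
  have hBz : B (sc (-1)) = 4 := by
    simp only [B]
    rw [if_pos ⟨by rw [det_sc']; simp, -1, by rw [tr_sc]; ring⟩]
    have := normSq_sc_mul hX (-1) 1
    rw [mul_one] at this
    rw [this, hX1]
    simp
    norm_num
  have hBu : B (un 1) = 1 := by
    simp only [B]
    rw [if_pos ⟨det_un, 1, by rw [tr_un]; ring⟩, hXu]
    simp
  have hBzu : B (sc (-1) * un 1) = 1 := by
    simp only [B]
    rw [if_pos ⟨by rw [det_sc_un]; simp, -1, by rw [tr_scun]; ring⟩, normSq_sc_mul hX, hXu]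
    simp
  rw [hB1, hBz, hBu, hBzu, hcard] at hsumB
  have hNcard : Nat.card (N F) = 24 := by
    have h1 := card_G_eq_mul_card_N (F := F)
    rw [card_GL2, hcard] at h1
    omega
  rw [hNcard] at hsumA
  have hdiff : ∑ x, (A x - B x) = 0 := by
    have : ((∑ x, (A x - B x) : ℝ) : ℂ) = 0 := by
      rw [Finset.sum_sub_distrib]
      push_cast
      rw [hsumA, hsumB]
      push_cast
      norm_num
    exact_mod_cast this
  have hzero := (Finset.sum_eq_zero_iff_of_nonneg (fun x _ => hAB x)).mp hdiff g (Finset.mem_univ _)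
  simp only [A, B] at hzero
  rw [if_pos hdet, if_neg, sub_zero] at hzero
  · exact Complex.normSq_eq_zero.mp hzero
  · rintro ⟨-, l, hl⟩
    apply (elliptic_iff g).mp hg l
    rw [hdet]
    simpa using hl

end

/-- Over a finite field F with q elements, q odd: every irreducible complex character of SL₂ of degree q − 1 or (q − 1)/2 vanishes at every diagonal matrix whose diagonal entry a has a² ≠ 1, and every irreducible complex character of degree q + 1 or (q + 1)/2 vanishes at every element with no eigenvector in F². -/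
theorem result {F : Type*} [Field F] [Fintype F] (hodd : Odd (Fintype.card F)) (χ : Matrix.SpecialLinearGroup (Fin 2) F → ℂ) (hχ : Cfsg.IsIrrCharacter (Matrix.SpecialLinearGroup (Fin 2) F) χ) (g : Matrix.SpecialLinearGroup (Fin 2) F) :
    ((χ 1 = (Fintype.card F : ℂ) - 1 ∨ χ 1 = (((Fintype.card F - 1) / 2 : ℕ) : ℂ)) →
      (g : Matrix (Fin 2) (Fin 2) F) 0 1 = 0 → (g : Matrix (Fin 2) (Fin 2) F) 1 0 = 0 → (g : Matrix (Fin 2) (Fin 2) F) 0 0 ^ 2 ≠ 1 → χ g = 0) ∧
    ((χ 1 = (Fintype.card F : ℂ) + 1 ∨ χ 1 = (((Fintype.card F + 1) / 2 : ℕ) : ℂ)) →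
      (∀ (c : F) (v : Fin 2 → F), v ≠ 0 → (g : Matrix (Fin 2) (Fin 2) F).mulVec v ≠ c • v) → χ g = 0) := by
  classical
  have : Fintype (N F) := Fintype.ofFinite _
  have hF := card_F_eq (F := F)
  have hn := card_units_pos (F := F)
  obtain ⟨m, hm⟩ := hodd
  have hnm : Fintype.card Fˣ = 2 * m := by omega
  have hodd : Odd (Fintype.card F) := ⟨m, hm⟩
  have hψ : IsIrrCharacter (N F) (fun n => χ (ι.symm n)) := isIrrCharacter_comp_equiv ι.symm hχ
  have hχg : χ g = (fun n => χ (ι.symm n)) (ι g) := by simp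
  have hχ1 : χ 1 = (fun n => χ (ι.symm n)) 1 := by simp
  have hιg : ((ι g : N F) : GL (Fin 2) F) = Matrix.SpecialLinearGroup.toGL g := ι_coe g
  generalize (fun n => χ (ι.symm n)) = ψ at hψ hχg hχ1
  rw [hχg, hχ1]
  have hdetg : Matrix.GeneralLinearGroup.det (Matrix.SpecialLinearGroup.toGL g : GL (Fin 2) F) = 1 :=
    Cfsg.Agent.S2321.det_toGL g
  have hdet : (g : Matrix (Fin 2) (Fin 2) F) 0 0 * (g : Matrix (Fin 2) (Fin 2) F) 1 1 -
      (g : Matrix (Fin 2) (Fin 2) F) 0 1 * (g : Matrix (Fin 2) (Fin 2) F) 1 0 = 1 := by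
    have := g.2
    rw [Matrix.det_fin_two] at this
    exact this
  -- when `Fˣ` has two elements all squares are one
  have hsq : Fintype.card Fˣ = 2 → ∀ a : F, a ≠ 0 → a ^ 2 = 1 := by
    intro h2 a ha
    have := pow_card_eq_one (x := Units.mk0 a ha)
    rw [h2] at this
    have := congrArg Units.val this
    simpa using this
  obtain ⟨X, hX, hcase⟩ := over_cases hψ
  constructor
  · intro hdeg h01 h10 hne
    rw [h01, zero_mul, sub_zero] at hdet
    have h00 : (g : Matrix (Fin 2) (Fin 2) F) 0 0 ≠ 0 := by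
      intro h0; rw [h0, zero_mul] at hdet; exact zero_ne_one hdet
    have h11 : (g : Matrix (Fin 2) (Fin 2) F) 1 1 ≠ 0 := by
      intro h0; rw [h0, mul_zero] at hdet; exact zero_ne_one hdet
    have hn2 : Fintype.card Fˣ ≠ 2 := fun h2 => hne (hsq h2 _ h00)
    have hg : ((ι g : N F) : GL (Fin 2) F) = dg (Units.mk0 _ h00) (Units.mk0 _ h11) := by
      rw [hιg]
      apply Matrix.GeneralLinearGroup.ext
      intro i j
      rw [dg_coe, Matrix.SpecialLinearGroup.coe_GL_coe_matrix]
      fin_cases i <;> fin_cases j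
      · rfl
      · exact h01
      · exact h10
      · rfl
    have hne' : Units.mk0 _ h00 ≠ Units.mk0 _ h11 := by
      intro he
      apply hne
      have := congrArg Units.val he
      simp only [Units.val_mk0] at this
      rw [pow_two]
      nth_rewrite 2 [this]
      exact hdet
    rcases hcase with hres | ⟨-, ε, hε, hs, ψ', hψ', hneψ, hsum, t, ht⟩
    · have hX1 : X 1 = ψ 1 := by
        have := congrFun hres 1
        simpa using this
      have hXg : X (dg (Units.mk0 _ h00) (Units.mk0 _ h11)) = ψ (ι g) := by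
        have := congrFun hres (ι g)
        rw [hg] at this
        exact this
      rw [← hXg]
      rcases hdeg with hd | hd
      · rcases fam_of_deg hX (Fintype.card Fˣ) (by rw [hX1, hd, hF]; push_cast; ring) with
          ⟨h1, -⟩ | ⟨h1, -⟩ | ⟨h1, -⟩ | ⟨-, h2⟩
        · omega
        · omega
        · omega
        · exact SC_dg _ h2 _ _ hne'
      · have hk : (Fintype.card F - 1) / 2 = m := by omega
        rw [hk] at hd
        rcases fam_of_deg hX m (by rw [hX1, hd]) with ⟨h1, -⟩ | ⟨h1, -⟩ | ⟨h1, -⟩ | ⟨h1, -⟩ <;> omega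
    · obtain ⟨c, hc⟩ := exists_nonsquare hε
      have hlin : lin ε (dg c 1) = -1 := by
        rw [lin_dg, hc]; simp
      obtain ⟨hsw, -⟩ := conj_swap hodd hε (isClassFunction_of_isCharacter (IsIrrCharacter.isCharacter hψ))
        (isClassFunction_of_isCharacter (IsIrrCharacter.isCharacter hψ')) hneψ t ht (dg c 1) hlin
      have hX1 : X 1 = 2 * ψ 1 := by
        have := congrFun hsum 1
        simp only [OneMemClass.coe_one, Pi.add_apply] at this
        rw [this, ← hsw, conjFun_comm ψ (dg c 1) 1 (by simp)]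
        ring
      have hcomm : dg c 1 * ((ι g : N F) : GL (Fin 2) F) = ((ι g : N F) : GL (Fin 2) F) * dg c 1 := by
        rw [hg]
        apply Matrix.GeneralLinearGroup.ext
        intro i j
        rw [Matrix.GeneralLinearGroup.coe_mul, Matrix.GeneralLinearGroup.coe_mul, dg_coe, dg_coe]
        fin_cases i <;> fin_cases j <;> simp [Matrix.mul_apply, Fin.sum_univ_two, mul_comm]
      have hXg : X (dg (Units.mk0 _ h00) (Units.mk0 _ h11)) = 2 * ψ (ι g) := by
        have := congrFun hsum (ι g)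
        simp only [Pi.add_apply] at this
        rw [hg] at this
        rw [this, ← hsw, conjFun_comm ψ (dg c 1) (ι g) hcomm]
        ring
      have hzero : X (dg (Units.mk0 _ h00) (Units.mk0 _ h11)) = 0 := by
        rcases hdeg with hd | hd
        · rcases fam_of_deg hX (2 * Fintype.card Fˣ) (by rw [hX1, hd, hF]; push_cast; ring) with
            ⟨h1, -⟩ | ⟨h1, -⟩ | ⟨h1, -⟩ | ⟨h1, -⟩ <;> omega
        · have hk : (Fintype.card F - 1) / 2 = m := by omega
          rw [hk] at hd
          rcases fam_of_deg hX (Fintype.card Fˣ) (by rw [hX1, hd, hnm]; push_cast; ring) with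
            ⟨h1, -⟩ | ⟨h1, -⟩ | ⟨h1, -⟩ | ⟨-, h2⟩
          · omega
          · omega
          · omega
          · exact SC_dg _ h2 _ _ hne'
      rw [hXg] at hzero
      have h2 : (2 : ℂ) ≠ 0 := two_ne_zero
      exact (mul_eq_zero.mp hzero).resolve_left h2
  · intro hdeg hE
    have hE' : ∀ (c : F) (v : Fin 2 → F), v ≠ 0 →
        (((ι g : N F) : GL (Fin 2) F) : Matrix (Fin 2) (Fin 2) F).mulVec v ≠ c • v := by
      rw [hιg, toGL_coe]; exact hE
    rcases hcase with hres | ⟨-, ε, hε, hs, ψ', hψ', hneψ, hsum, t, ht⟩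
    · have hX1 : X 1 = ψ 1 := by
        have := congrFun hres 1
        simpa using this
      have hXg : X ((ι g : N F) : GL (Fin 2) F) = ψ (ι g) := congrFun hres (ι g)
      rw [← hXg]
      rcases hdeg with hd | hd
      · rcases fam_of_deg hX (Fintype.card Fˣ + 2) (by rw [hX1, hd, hF]; push_cast; ring) with
          ⟨h1, -⟩ | ⟨h1, -⟩ | ⟨-, h2⟩ | ⟨h1, -⟩
        · omega
        · omega
        · exact SP_no_eigen hX h2 _ hE'
        · omega
      · have hk : (Fintype.card F + 1) / 2 = m + 1 := by omega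
        rw [hk] at hd
        rcases fam_of_deg hX (m + 1) (by rw [hX1, hd]) with ⟨h1, -⟩ | ⟨h1, -⟩ | ⟨h1, -⟩ | ⟨h1, h2⟩
        · omega
        · omega
        · omega
        · have hres' : IsIrrCharacter (N F) (fun n : N F => X n) := by rw [hres]; exact hψ
          refine cusp_elliptic_q3 hodd (by omega) hX h2 hres' _ ?_ hE'
          rw [hιg]; exact hdetg
    · obtain ⟨c, hc⟩ := exists_nonsquare hε
      obtain ⟨t', ht'1, ht'2⟩ := exists_comm_det hodd ((ι g : N F) : GL (Fin 2) F)
        (by rw [hιg]; exact hdetg) hE' c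
      have hlin : lin ε t' = -1 := by
        unfold lin
        rw [ht'2, hc]
      obtain ⟨hsw, -⟩ := conj_swap hodd hε (isClassFunction_of_isCharacter (IsIrrCharacter.isCharacter hψ))
        (isClassFunction_of_isCharacter (IsIrrCharacter.isCharacter hψ')) hneψ t ht t' hlin
      have hX1 : X 1 = 2 * ψ 1 := by
        have := congrFun hsum 1
        simp only [OneMemClass.coe_one, Pi.add_apply] at this
        rw [this, ← hsw, conjFun_comm ψ t' 1 (by simp)]
        ring
      have hXg : X ((ι g : N F) : GL (Fin 2) F) = 2 * ψ (ι g) := by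
        have := congrFun hsum (ι g)
        simp only [Pi.add_apply] at this
        rw [this, ← hsw, conjFun_comm ψ t' (ι g) ht'1]
        ring
      have hzero : X ((ι g : N F) : GL (Fin 2) F) = 0 := by
        rcases hdeg with hd | hd
        · rcases fam_of_deg hX (2 * (Fintype.card Fˣ + 2)) (by rw [hX1, hd, hF]; push_cast; ring) with
            ⟨h1, -⟩ | ⟨h1, -⟩ | ⟨h1, -⟩ | ⟨h1, -⟩ <;> omega
        · have hk : (Fintype.card F + 1) / 2 = m + 1 := by omega
          rw [hk] at hd
          rcases fam_of_deg hX (Fintype.card Fˣ + 2) (by rw [hX1, hd, hnm]; push_cast; ring) with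
            ⟨h1, -⟩ | ⟨h1, -⟩ | ⟨-, h2⟩ | ⟨h1, -⟩
          · omega
          · omega
          · exact SP_no_eigen hX h2 _ hE'
          · omega
      rw [hXg] at hzero
      have h2 : (2 : ℂ) ≠ 0 := two_ne_zero
      exact (mul_eq_zero.mp hzero).resolve_left h2

end Cfsg.Agent.S2322
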