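import Cfsg.Statements.S2239
import Mathlib
import Cfsg.Agent.Lib.Helper39.SzEmb
import Cfsg.Agent.Lib.Helper39.SzModels
import Cfsg.Agent.Lib.Helper39.SzSylow

set_option autoImplicit false
open Cfsg

namespace Cfsg.Agent.S2239

open Cfsg.Agent.Helper39

theorem pow_iter {F : Type*} [Field F] {y : F} {N : ℕ} (hy : y ^ N = y) (j : ℕ) :
    y ^ (N ^ j) = y := by
  induction j with
  | zero => simp
  | succ j ih => rw [pow_succ, pow_mul, ih, hy]

theorem compat {K F : Type*} [Field K] [Fintype K] [Field F] {k m : ℕ}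
    (hK : Fintype.card K = 2 ^ (2 * k + 1)) (hdiv : 2 * k + 1 ∣ 2 * m + 1) (ι : K →+* F) (x : K) :
    ι x ^ (2 ^ (m + 1)) = ι (x ^ (2 ^ (k + 1))) := by
  rw [map_pow]
  have hy : ι x ^ (2 ^ (2 * k + 1)) = ι x := by
    rw [← hK, ← map_pow, FiniteField.pow_card]
  generalize ι x = y at hy ⊢
  obtain ⟨c, hc⟩ := hdiv
  have hodd : Odd c := by
    have h1 : Odd ((2 * k + 1) * c) := by rw [← hc]; exact odd_two_mul_add_one m
    exact (Nat.odd_mul.mp h1).2
  obtain ⟨j, rfl⟩ := hodd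
  have hm : m + 1 = (2 * k + 1) * j + (k + 1) := by
    have h1 : 2 * m + 1 = 2 * ((2 * k + 1) * j) + (2 * k + 1) := by rw [hc]; ring
    omega
  rw [hm, pow_add, pow_mul y, pow_mul 2, pow_iter hy j]

theorem finrank_of_card {F : Type*} [Field F] [Fintype F] [Algebra (ZMod 2) F] {d : ℕ}
    (hF : Fintype.card F = 2 ^ d) : Module.finrank (ZMod 2) F = d := by
  have h3 := Module.card_eq_pow_finrank (K := ZMod 2) (V := F)
  rw [hF, ZMod.card] at h3
  exact (Nat.pow_right_injective (le_refl 2) h3).symm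

theorem exists_ringHom {K F : Type*} [Field K] [Fintype K] [Field F] [Fintype F] {k m : ℕ}
    (hK : Fintype.card K = 2 ^ (2 * k + 1)) (hF : Fintype.card F = 2 ^ (2 * m + 1))
    (hdiv : 2 * k + 1 ∣ 2 * m + 1) : Nonempty (K →+* F) := by
  have h2K : (2 : K) = 0 := (titsHyp_of_card k hK).two
  have h2F : (2 : F) = 0 := (titsHyp_of_card m hF).two
  have : CharP K 2 := CharTwo.of_one_ne_zero_of_two_eq_zero one_ne_zero h2K
  have : CharP F 2 := CharTwo.of_one_ne_zero_of_two_eq_zero one_ne_zero h2F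
  let _ : Algebra (ZMod 2) K := ZMod.algebra K 2
  let _ : Algebra (ZMod 2) F := ZMod.algebra F 2
  obtain ⟨f⟩ := FiniteField.nonempty_algHom_of_finrank_dvd (F := ZMod 2) (K := K) (L := F)
    (by rw [finrank_of_card hK, finrank_of_card hF]; exact hdiv)
  exact ⟨f.toRingHom⟩

open Polynomial in
theorem range_eq {K F : Type*} [Field K] [Fintype K] [Field F] (ι₁ ι₂ : K →+* F) :
    Set.range ι₁ = Set.range ι₂ := by
  classical
  have key : ∀ ι : K →+* F, Set.range ι =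
      ((X ^ Fintype.card K - X : F[X]).roots.toFinset : Set F) := by
    intro ι
    have hne : (X ^ Fintype.card K - X : F[X]) ≠ 0 :=
      FiniteField.X_pow_card_sub_X_ne_zero F Fintype.one_lt_card
    have hsub : Set.range ι ⊆ ((X ^ Fintype.card K - X : F[X]).roots.toFinset : Set F) := by
      rintro _ ⟨x, rfl⟩
      rw [Finset.mem_coe, Multiset.mem_toFinset, mem_roots hne]
      simp only [IsRoot, eval_sub, eval_pow, eval_X]
      rw [← map_pow, FiniteField.pow_card, sub_self]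
    apply Set.eq_of_subset_of_ncard_le hsub _ (Finset.finite_toSet _)
    rw [Set.ncard_coe_finset]
    calc (X ^ Fintype.card K - X : F[X]).roots.toFinset.card
        ≤ Multiset.card (X ^ Fintype.card K - X : F[X]).roots := Multiset.toFinset_card_le _
      _ ≤ (X ^ Fintype.card K - X : F[X]).natDegree := card_roots' _
      _ = Fintype.card K := FiniteField.X_pow_card_sub_X_natDegree_eq F Fintype.one_lt_card
      _ = (Set.range ι).ncard := by
          rw [← Set.image_univ, Set.ncard_image_of_injective _ ι.injective, Set.ncard_univ,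
            Nat.card_eq_fintype_card]
  rw [key ι₁, key ι₂]


/-- Subfield subgroups of the Suzuki group: let q = 2^(2m+1) and s = 2^(2k+1) with m, k ≥ 1 and 2k+1 dividing 2m+1 (so q is a power of s), both groups realised as stabilisers in SL₄ of the Suzuki–Tits ovoid. Then Sz(q) has a subgroup isomorphic to Sz(s), and any two subgroups of Sz(q) isomorphic to Sz(s) are conjugate. -/
theorem result {F : Type*} [Field F] [Fintype F] {m : ℕ} (hm : 1 ≤ m) (hF : Fintype.card F = 2 ^ (2 * m + 1)) {K : Type*} [Field K] [Fintype K] {k : ℕ} (hk : 1 ≤ k) (hK : Fintype.card K = 2 ^ (2 * k + 1)) (hdiv : 2 * k + 1 ∣ 2 * m + 1) :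
    (∃ S : Subgroup ↥(Cfsg.Sz F m), Nonempty (↥S ≃* ↥(Cfsg.Sz K k))) ∧
    ∀ S₁ S₂ : Subgroup ↥(Cfsg.Sz F m), Nonempty (↥S₁ ≃* ↥(Cfsg.Sz K k)) → Nonempty (↥S₂ ≃* ↥(Cfsg.Sz K k)) →
      ∃ g : ↥(Cfsg.Sz F m), S₂ = S₁.map (MulAut.conj g).toMonoidHom := by
  have hKt := titsHyp_of_card k hK
  have hFt := titsHyp_of_card m hF
  have hcardK : 2 < Fintype.card K := by
    rw [hK]
    calc 2 < 2 ^ 2 := by norm_num
      _ ≤ 2 ^ (2 * k + 1) := Nat.pow_le_pow_right (by norm_num) (by omega)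
  have hwK := exists_ne_zero_one hcardK
  have hcompat : ∀ (ι : K →+* F) (x : K), ι x ^ (2 ^ (m + 1)) = ι (x ^ (2 ^ (k + 1))) :=
    compat hK hdiv
  obtain ⟨ι₀⟩ := exists_ringHom hK hF hdiv
  constructor
  · exact ⟨((cfsgSzModel k hk hK).emb (cfsgSzModel m hm hF) ι₀ (hcompat ι₀)).range,
      ⟨(MonoidHom.ofInjective ((cfsgSzModel k hk hK).emb_injective (cfsgSzModel m hm hF) ι₀
        (hcompat ι₀))).symm⟩⟩
  · rintro S₁ S₂ ⟨e₁⟩ ⟨e₂⟩
    have hn : 1 ≤ 2 * m + 1 := by omega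
    have key : ∀ (S : Subgroup ↥(Cfsg.Sz F m)) (e : ↥S ≃* ↥(Cfsg.Sz K k)),
        ∃ (g : ↥(Cfsg.Sz F m)) (ι : K →+* F), ∀ y, y ∈ S ↔
          g * y * g⁻¹ ∈ ((cfsgSzModel k hk hK).emb (cfsgSzModel m hm hF) ι (hcompat ι)).range := by
      intro S e
      have hinj : Function.Injective (S.subtype.comp e.symm.toMonoidHom) :=
        Subtype.val_injective.comp e.symm.injective
      obtain ⟨g, ι, hg⟩ := (cfsgSzModel k hk hK).exists_conj_emb (cfsgSzModel m hm hF) hKt hFt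
        hF hn hwK hcompat _ hinj
      refine ⟨g, ι, fun y => ⟨fun hy => ?_, fun hy => ?_⟩⟩
      · refine ⟨e ⟨y, hy⟩, ?_⟩
        rw [← hg]
        simp
      · obtain ⟨x, hx⟩ := hy
        rw [← hg] at hx
        have : y = (S.subtype.comp e.symm.toMonoidHom) x := by
          have := congrArg (fun z => g⁻¹ * z * g) hx
          simp only [mul_assoc, inv_mul_cancel_left, inv_mul_cancel, mul_one] at this
          exact this.symm
        rw [this]
        exact (e.symm x).2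
    obtain ⟨g₁, ι₁, h₁⟩ := key S₁ e₁
    obtain ⟨g₂, ι₂, h₂⟩ := key S₂ e₂
    have hrange : ((cfsgSzModel k hk hK).emb (cfsgSzModel m hm hF) ι₁ (hcompat ι₁)).range =
        ((cfsgSzModel k hk hK).emb (cfsgSzModel m hm hF) ι₂ (hcompat ι₂)).range := by
      ext g
      rw [SzModel.mem_range_emb_iff, SzModel.mem_range_emb_iff, range_eq ι₁ ι₂]
    refine ⟨g₂⁻¹ * g₁, ?_⟩
    ext y
    rw [Subgroup.mem_map]
    constructor
    · intro hy
      refine ⟨g₁⁻¹ * g₂ * y * g₂⁻¹ * g₁, ?_, ?_⟩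
      · rw [h₁, hrange]
        have := (h₂ y).mp hy
        have e : g₁ * (g₁⁻¹ * g₂ * y * g₂⁻¹ * g₁) * g₁⁻¹ = g₂ * y * g₂⁻¹ := by group
        rw [e]
        exact this
      · change g₂⁻¹ * g₁ * (g₁⁻¹ * g₂ * y * g₂⁻¹ * g₁) * (g₂⁻¹ * g₁)⁻¹ = y
        group
    · rintro ⟨x, hx, rfl⟩
      rw [h₂, ← hrange]
      change g₂ * (g₂⁻¹ * g₁ * x * (g₂⁻¹ * g₁)⁻¹) * g₂⁻¹ ∈ _
      have e : g₂ * (g₂⁻¹ * g₁ * x * (g₂⁻¹ * g₁)⁻¹) * g₂⁻¹ = g₁ * x * g₁⁻¹ := by group
      rw [e]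
      exact (h₁ x).mp hx

end Cfsg.Agent.S2239
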