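import Cfsg.Statements.S0102
import Cfsg.Agent.S0088

set_option autoImplicit false
open Cfsg

namespace Cfsg.Agent.S0102

/-- A finite perfect group with cyclic Sylow p-subgroups has no perfect central extension whose kernel has order divisible by p. -/
theorem result {G : Type*} {H : Type*} [Group G] [Group H] [Finite G] [Finite H] (hG : commutator G = ⊤) {p : ℕ} [Fact p.Prime] (hcyc : ∀ P : Sylow p G, IsCyclic P) (σ : H →* G) (hσ : Function.Surjective σ) (hz : σ.ker ≤ Subgroup.center H) (hH : commutator H = ⊤) : ¬ p ∣ Nat.card σ.ker := by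
  have hp : p.Prime := Fact.out
  intro hdvd
  obtain ⟨⟨z, hzk⟩, hzo⟩ := exists_prime_orderOf_dvd_card' p hdvd
  have hzo' : orderOf z = p := by
    rw [← hzo, ← Subgroup.orderOf_coe]
  have hz1 : z ≠ 1 := by
    intro h1
    rw [h1, orderOf_one] at hzo'
    exact hp.one_lt.ne hzo'
  have hpg : IsPGroup p (Subgroup.zpowers z) := by
    apply IsPGroup.of_card (n := 1)
    rw [Nat.card_zpowers, pow_one]
    exact hzo'
  obtain ⟨P, hP⟩ := hpg.exists_le_sylow
  have hzP : z ∈ (P : Subgroup H) := hP (Subgroup.mem_zpowers z)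
  -- the restriction of σ to P
  let f : (P : Subgroup H) →* G := σ.comp (P : Subgroup H).subtype
  have hfp : IsPGroup p f.range := by
    have : IsPGroup p (P : Subgroup H) := P.isPGroup'
    exact this.of_surjective f.rangeRestrict f.rangeRestrict_surjective
  obtain ⟨Q, hQ⟩ := hfp.exists_le_sylow
  have hQc : IsCyclic Q := hcyc Q
  have hfc : IsCyclic f.range :=
    isCyclic_of_injective (Subgroup.inclusion hQ) (Subgroup.inclusion_injective hQ)
  have hker : f.rangeRestrict.ker ≤ Subgroup.center (P : Subgroup H) := by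
    intro x hx
    rw [MonoidHom.mem_ker] at hx
    have hx' : σ (x : H) = 1 := by
      have := congrArg Subtype.val hx
      simpa [f] using this
    have hxZ : (x : H) ∈ Subgroup.center H := hz (MonoidHom.mem_ker.mpr hx')
    rw [Subgroup.mem_center_iff]
    intro y
    apply Subtype.ext
    rw [Subgroup.mem_center_iff] at hxZ
    simpa using hxZ (y : H)
  have hPc : IsMulCommutative (P : Subgroup H) :=
    f.rangeRestrict.isMulCommutative_of_isCyclic_of_ker_le_center hker
  have hHall : Nat.Coprime (Nat.card (P : Subgroup H)) (P : Subgroup H).index := by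
    obtain ⟨k, hk⟩ := (IsPGroup.iff_card.mp P.isPGroup')
    rw [hk]
    apply Nat.Coprime.pow_left
    exact (Nat.Prime.coprime_iff_not_dvd hp).mpr P.not_dvd_index
  have hbot := Cfsg.Agent.S0088.result (P : Subgroup H) hPc hHall
  have hmem : z ∈ (P : Subgroup H) ⊓ commutator H ⊓ Subgroup.center H := by
    refine ⟨⟨hzP, ?_⟩, hz hzk⟩
    rw [hH]; exact Subgroup.mem_top z
  rw [hbot, Subgroup.mem_bot] at hmem
  exact hz1 hmem
end Cfsg.Agent.S0102
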