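import Cfsg.Statements.S2503
import Cfsg.Agent.Lib.Helper41.SL2ABA

set_option autoImplicit false
open Cfsg

namespace Cfsg.Agent.S2503

open Matrix Cfsg.Agent.Helper41

theorem exists_no_root {F : Type*} [Field F] [Fintype F] : ∃ s : F, ∀ a : F, a * (s - a) - 1 ≠ 0 := by
  classical
  by_contra hcon
  push Not at hcon
  have hsurj : Function.Surjective (fun t : Fˣ => (t : F) + (t : F)⁻¹) := by
    intro s
    obtain ⟨a, ha⟩ := hcon s
    have ha0 : a ≠ 0 := by
      rintro rfl
      simp at ha
    refine ⟨Units.mk0 a ha0, ?_⟩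
    simp only [Units.val_mk0]
    field_simp
    linear_combination -ha
  have h1 := Fintype.card_le_of_surjective _ hsurj
  rw [Fintype.card_units] at h1
  have : 0 < Fintype.card F := Fintype.card_pos
  omega

/-- Let F be a finite field with q = 2^t ≥ 4 elements and L = PSL(2,F). Then L has a cyclic subgroup A of order q + 1 and an elementary abelian 2-subgroup B of order q such that L = ABA: every element of L is a product a·b·a' with a, a' ∈ A and b ∈ B. -/
theorem result {F : Type*} [Field F] [Fintype F]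
    (h2 : 2 ∣ Fintype.card F) (h4 : 4 ≤ Fintype.card F) :
    ∃ A B : Subgroup (Matrix.ProjectiveSpecialLinearGroup (Fin 2) F),
      IsCyclic A ∧ Nat.card A = Fintype.card F + 1 ∧ IsMulCommutative B ∧ (∀ b ∈ B, b * b = 1) ∧
        Nat.card B = Fintype.card F ∧
        ∀ g : Matrix.ProjectiveSpecialLinearGroup (Fin 2) F, ∃ a ∈ A, ∃ b ∈ B, ∃ c ∈ A, g = a * b * c := by
  classical
  have hchar : ringChar F = 2 :=
    FiniteField.even_card_iff_char_two.mpr (Nat.mod_eq_zero_of_dvd h2)
  have h2F : (2 : F) = 0 := by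
    have := ringChar.Nat.cast_ringChar (R := F)
    rw [hchar] at this
    exact_mod_cast this
  obtain ⟨s, hs⟩ := exists_no_root (F := F)
  let π : SpecialLinearGroup (Fin 2) F →* ProjectiveSpecialLinearGroup (Fin 2) F :=
    QuotientGroup.mk' (Subgroup.center (SpecialLinearGroup (Fin 2) F))
  have hinj : Function.Injective π := by
    rw [← MonoidHom.ker_eq_bot_iff, QuotientGroup.ker_mk', sl2_center_eq_bot_char_two h2F]
  have hsurj : Function.Surjective π := QuotientGroup.mk'_surjective _
  refine ⟨(Subgroup.centralizer ({compSL s} : Set (SpecialLinearGroup (Fin 2) F))).map π,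
    (upperUni F).map π, ?_, ?_, ?_, ?_, ?_, ?_⟩
  · haveI := isCyclic_centralizer_compSL s hs
    exact isCyclic_of_surjective (π.subgroupMap _) (π.subgroupMap_surjective _)
  · rw [Subgroup.card_map_of_injective hinj, card_centralizer_compSL_char_two h2F s hs]
  · rw [isMulCommutative_iff]
    rintro ⟨a, ha⟩ ⟨b, hb⟩
    obtain ⟨u, hu, rfl⟩ := ha
    obtain ⟨v, hv, rfl⟩ := hb
    apply Subtype.ext
    change π u * π v = π v * π u
    rw [upperUni_eq u hu, upperUni_eq v hv, ← map_mul, ← map_mul, upperSL_mul, upperSL_mul, add_comm]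
  · rintro b ⟨u, hu, rfl⟩
    rw [upperUni_eq u hu, ← map_mul, upperSL_mul]
    have : (u : Matrix (Fin 2) (Fin 2) F) 0 1 + (u : Matrix (Fin 2) (Fin 2) F) 0 1 = 0 := by
      linear_combination (u : Matrix (Fin 2) (Fin 2) F) 0 1 * h2F
    rw [this]
    have h1 : upperSL (0 : F) = 1 := by
      apply Subtype.ext
      ext i j
      fin_cases i <;> fin_cases j <;> simp [upperSL]
    rw [h1, map_one]
  · rw [Subgroup.card_map_of_injective hinj, ← Nat.card_congr (upperUniEquiv F),
      Nat.card_eq_fintype_card]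
  · intro g
    obtain ⟨G, rfl⟩ := hsurj g
    obtain ⟨a, ha, u, hu, c, hc, hG⟩ := exists_aba_char_two h2F s hs G
    refine ⟨π a, Subgroup.mem_map_of_mem π ha, π u, Subgroup.mem_map_of_mem π hu, π c,
      Subgroup.mem_map_of_mem π hc, ?_⟩
    rw [hG, map_mul, map_mul]

end Cfsg.Agent.S2503
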