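import Mathlib
import Cfsg.Statements.S3660

set_option autoImplicit false
open Cfsg

namespace Cfsg.Agent.S3660

/-- Abstract transfer of the prime graph along a split extension with elementary abelian
2-kernel on which elements with fixed points have order at most 2. -/
theorem primeGraph_transfer {S H : Type*} [Group S] [Group H] [Finite S] [Finite H]
    (ι : S →* H) (π : H →* S) (hι : Function.Injective ι)
    (h1 : ∀ u : H, π u = 1 → u ^ 2 = 1)
    (h2 : ∀ h u : H, π u = 1 → u ≠ 1 → h * u = u * h → (π h) ^ 2 = 1)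
    (h3 : 2 ∣ Nat.card S) :
    (∀ p : ℕ, p.Prime → (p ∣ Nat.card S ↔ p ∣ Nat.card H)) ∧
    (∀ p q : ℕ, p.Prime → q.Prime → p ≠ q →
      ((∃ g : S, orderOf g = p * q) ↔ (∃ g : H, orderOf g = p * q))) := by
  have hcardSH : Nat.card S ∣ Nat.card H := Subgroup.card_dvd_of_injective ι hι
  -- key: the case `2 * q`
  have key2 : ∀ q : ℕ, q.Prime → q ≠ 2 → (∃ g : H, orderOf g = 2 * q) →
      ∃ g : S, orderOf g = 2 * q := by
    rintro q hq hq2 ⟨h, hh⟩
    set m := orderOf (π h) with hm
    have hmdvd : m ∣ 2 * q := hh ▸ orderOf_map_dvd π h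
    have hker : π (h ^ m) = 1 := by rw [map_pow, hm, pow_orderOf_eq_one]
    have h2m : (h ^ m) ^ 2 = 1 := h1 _ hker
    rw [← pow_mul] at h2m
    have hdvd2 : 2 * q ∣ m * 2 := hh ▸ orderOf_dvd_of_pow_eq_one h2m
    have hqm : q ∣ m := by
      have : q ∣ m * 2 := dvd_trans (dvd_mul_left q 2) hdvd2
      rcases (Nat.Prime.dvd_mul hq).mp this with h | h
      · exact h
      · exact absurd ((Nat.prime_dvd_prime_iff_eq hq Nat.prime_two).mp h) hq2
    by_cases hm2q : m = 2 * q
    · exact ⟨π h, hm2q⟩
    · exfalso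
      obtain ⟨d, hd⟩ := hqm
      have hq0 : 0 < q := hq.pos
      have hd2 : d ∣ 2 := by
        rw [hd, mul_comm 2 q] at hmdvd
        exact Nat.dvd_of_mul_dvd_mul_left hq0 hmdvd
      have hd1 : d = 1 := by
        rcases (Nat.dvd_prime Nat.prime_two).mp hd2 with h | h
        · exact h
        · exfalso; apply hm2q; rw [hd, h, mul_comm]
      rw [hd1, mul_one] at hd
      -- m = q
      have hu : π (h ^ q) = 1 := by rw [← hd]; exact hker
      have hune : h ^ q ≠ 1 := by
        apply pow_ne_one_of_lt_orderOf hq.ne_zero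
        rw [hh]; omega
      have hcomm : h * h ^ q = h ^ q * h := by rw [← pow_succ', ← pow_succ]
      have hs2 : (π h) ^ 2 = 1 := h2 h (h ^ q) hu hune hcomm
      have : m ∣ 2 := orderOf_dvd_of_pow_eq_one hs2
      rw [hd] at this
      exact hq2 ((Nat.prime_dvd_prime_iff_eq hq Nat.prime_two).mp this)
  constructor
  · intro p hp
    constructor
    · intro h; exact dvd_trans h hcardSH
    · intro h
      by_cases hp2 : p = 2
      · rw [hp2]; exact h3
      · have := Fact.mk hp
        obtain ⟨g, hg⟩ := exists_prime_orderOf_dvd_card' p h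
        have hdvd : orderOf (π g) ∣ p := hg ▸ orderOf_map_dvd π g
        rcases (Nat.dvd_prime hp).mp hdvd with h1' | hp'
        · exfalso
          have : π g = 1 := orderOf_eq_one_iff.mp h1'
          have hg2 : g ^ 2 = 1 := h1 g this
          have : p ∣ 2 := hg ▸ orderOf_dvd_of_pow_eq_one hg2
          exact hp2 ((Nat.prime_dvd_prime_iff_eq hp Nat.prime_two).mp this)
        · rw [← hp']; exact orderOf_dvd_natCard _
  · intro p q hp hq hpq
    constructor
    · rintro ⟨g, hg⟩
      exact ⟨ι g, by rw [orderOf_injective ι hι, hg]⟩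
    · intro hex
      by_cases hp2 : p = 2
      · subst hp2
        exact key2 q hq (Ne.symm hpq) hex
      by_cases hq2 : q = 2
      · subst hq2
        obtain ⟨g, hg⟩ := hex
        obtain ⟨g', hg'⟩ := key2 p hp hpq ⟨g, by rw [hg, mul_comm]⟩
        exact ⟨g', by rw [hg', mul_comm]⟩
      · obtain ⟨h, hh⟩ := hex
        refine ⟨π h, ?_⟩
        set m := orderOf (π h) with hm
        have hmdvd : m ∣ p * q := hh ▸ orderOf_map_dvd π h
        have hker : π (h ^ m) = 1 := by rw [map_pow, hm, pow_orderOf_eq_one]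
        have h2m : (h ^ m) ^ 2 = 1 := h1 _ hker
        rw [← pow_mul] at h2m
        have hdvd2 : p * q ∣ m * 2 := hh ▸ orderOf_dvd_of_pow_eq_one h2m
        have hcop : Nat.Coprime (p * q) 2 := by
          apply Nat.Coprime.mul_left
          · exact (Nat.coprime_primes hp Nat.prime_two).mpr hp2
          · exact (Nat.coprime_primes hq Nat.prime_two).mpr hq2
        exact Nat.dvd_antisymm hmdvd (hcop.dvd_of_dvd_mul_right hdvd2)


open Matrix

/-- The split extension `(F²)ᵏ ⋊ SL(2,F)` as pairs. -/
structure Ext (F : Type*) [Field F] (k : ℕ) where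
  s : Matrix.SpecialLinearGroup (Fin 2) F
  v : Matrix (Fin 2) (Fin k) F

namespace Ext

variable {F : Type*} [Field F] {k : ℕ}

@[ext] theorem ext' {a b : Ext F k} (h1 : a.s = b.s) (h2 : a.v = b.v) : a = b := by
  cases a; cases b; simp_all

instance : Mul (Ext F k) := ⟨fun a b => ⟨a.s * b.s, a.v + (a.s : Matrix (Fin 2) (Fin 2) F) * b.v⟩⟩
instance : One (Ext F k) := ⟨⟨1, 0⟩⟩
instance : Inv (Ext F k) := ⟨fun a => ⟨a.s⁻¹, -((a.s⁻¹ : Matrix.SpecialLinearGroup (Fin 2) F) : Matrix (Fin 2) (Fin 2) F) * a.v⟩⟩

@[simp] theorem mul_s (a b : Ext F k) : (a * b).s = a.s * b.s := rfl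
@[simp] theorem mul_v (a b : Ext F k) :
    (a * b).v = a.v + (a.s : Matrix (Fin 2) (Fin 2) F) * b.v := rfl
@[simp] theorem one_s : (1 : Ext F k).s = 1 := rfl
@[simp] theorem one_v : (1 : Ext F k).v = 0 := rfl
@[simp] theorem inv_s (a : Ext F k) : (a⁻¹).s = a.s⁻¹ := rfl
@[simp] theorem inv_v (a : Ext F k) :
    (a⁻¹).v = -((a.s⁻¹ : Matrix.SpecialLinearGroup (Fin 2) F) : Matrix (Fin 2) (Fin 2) F) * a.v := rfl

instance : Group (Ext F k) where
  mul_assoc a b c := by
    ext1
    · simp [mul_assoc]
    · simp [Matrix.mul_add, Matrix.mul_assoc, add_assoc]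
  one_mul a := by
    ext1 <;> simp
  mul_one a := by
    ext1 <;> simp
  inv_mul_cancel a := by
    ext1
    · simp
    · simp


/-- the projection -/
def proj (F : Type*) [Field F] (k : ℕ) : Ext F k →* Matrix.SpecialLinearGroup (Fin 2) F where
  toFun a := a.s
  map_one' := rfl
  map_mul' _ _ := rfl

/-- the section -/
def sect (F : Type*) [Field F] (k : ℕ) : Matrix.SpecialLinearGroup (Fin 2) F →* Ext F k where
  toFun s := ⟨s, 0⟩
  map_one' := rfl
  map_mul' a b := by ext1 <;> simp

theorem sect_injective : Function.Injective (sect F k) := by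
  intro a b h
  exact congrArg Ext.s h

/-- as a type, `Ext F k` is a product -/
def equivProd (F : Type*) [Field F] (k : ℕ) :
    Ext F k ≃ Matrix.SpecialLinearGroup (Fin 2) F × Matrix (Fin 2) (Fin k) F where
  toFun a := (a.s, a.v)
  invFun b := ⟨b.1, b.2⟩
  left_inv _ := rfl
  right_inv _ := rfl

instance [Finite F] : Finite (Ext F k) := Finite.of_equiv _ (equivProd F k).symm

end Ext

/-- In characteristic 2, an element of `SL(2,F)` fixing a nonzero vector squares to one. -/
theorem sq_eq_one_of_fixed {F : Type*} [Field F] [CharP F 2]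
    (s : Matrix.SpecialLinearGroup (Fin 2) F) (x : Fin 2 → F) (hx : x ≠ 0)
    (hfix : (s : Matrix (Fin 2) (Fin 2) F) *ᵥ x = x) : s ^ 2 = 1 := by
  have T : (2 : F) = 0 := CharTwo.two_eq_zero
  have D : (s : Matrix (Fin 2) (Fin 2) F) 0 0 * (s : Matrix (Fin 2) (Fin 2) F) 1 1 -
      (s : Matrix (Fin 2) (Fin 2) F) 0 1 * (s : Matrix (Fin 2) (Fin 2) F) 1 0 = 1 := by
    rw [← Matrix.det_fin_two]; exact s.2
  have E1 := congrFun hfix 0
  have E2 := congrFun hfix 1
  simp only [Matrix.mulVec, dotProduct, Fin.sum_univ_two] at E1 E2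
  set a := (s : Matrix (Fin 2) (Fin 2) F) 0 0
  set b := (s : Matrix (Fin 2) (Fin 2) F) 0 1
  set c := (s : Matrix (Fin 2) (Fin 2) F) 1 0
  set d := (s : Matrix (Fin 2) (Fin 2) F) 1 1
  have htr : a + d = 0 := by
    have hx' : x 0 ≠ 0 ∨ x 1 ≠ 0 := by
      by_contra h
      push Not at h
      apply hx
      ext i
      fin_cases i
      · exact h.1
      · exact h.2
    rcases hx' with h0 | h1
    · have : (a + d) * x 0 = 0 := by
        linear_combination x 0 * D + x 0 * T - (d - 1) * E1 + b * E2
      rcases mul_eq_zero.mp this with h | h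
      · exact h
      · exact absurd h h0
    · have : (a + d) * x 1 = 0 := by
        linear_combination x 1 * D + x 1 * T - (a - 1) * E2 + c * E1
      rcases mul_eq_zero.mp this with h | h
      · exact h
      · exact absurd h h1
  apply Subtype.ext
  rw [pow_two]
  ext i j
  fin_cases i <;> fin_cases j
  · simp only [Matrix.SpecialLinearGroup.coe_mul, Matrix.mul_apply, Fin.sum_univ_two,
      Matrix.SpecialLinearGroup.coe_one, Fin.zero_eta, Fin.isValue, Matrix.one_apply_eq]
    change a * a + b * c = 1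
    linear_combination a * htr - D - T
  · simp only [Matrix.SpecialLinearGroup.coe_mul, Matrix.mul_apply, Fin.sum_univ_two,
      Matrix.SpecialLinearGroup.coe_one, Fin.zero_eta, Fin.mk_one, Fin.isValue, ne_eq,
      zero_ne_one, not_false_eq_true, Matrix.one_apply_ne]
    change a * b + b * d = 0
    linear_combination b * htr
  · simp only [Matrix.SpecialLinearGroup.coe_mul, Matrix.mul_apply, Fin.sum_univ_two,
      Matrix.SpecialLinearGroup.coe_one, Fin.zero_eta, Fin.mk_one, Fin.isValue, ne_eq,
      one_ne_zero, not_false_eq_true, Matrix.one_apply_ne]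
    change c * a + d * c = 0
    linear_combination c * htr
  · simp only [Matrix.SpecialLinearGroup.coe_mul, Matrix.mul_apply, Fin.sum_univ_two,
      Matrix.SpecialLinearGroup.coe_one, Fin.mk_one, Fin.isValue, Matrix.one_apply_eq]
    change c * b + d * d = 1
    linear_combination d * htr - D - T


section props

variable {F : Type*} [Field F] [CharP F 2] {k : ℕ}

theorem ker_sq (u : Ext F k) (hu : Ext.proj F k u = 1) : u ^ 2 = 1 := by
  have hs : u.s = 1 := hu
  rw [pow_two]
  ext1
  · simp [hs]
  · simp only [Ext.mul_v, hs, Matrix.SpecialLinearGroup.coe_one, Matrix.one_mul, Ext.one_v]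
    ext i j
    simp only [Matrix.add_apply, Matrix.zero_apply]
    exact CharTwo.add_self_eq_zero _

theorem fixed_sq (h u : Ext F k) (hu : Ext.proj F k u = 1) (hne : u ≠ 1)
    (hcomm : h * u = u * h) : (Ext.proj F k h) ^ 2 = 1 := by
  have hs : u.s = 1 := hu
  have hv : u.v ≠ 0 := by
    intro hv
    apply hne
    ext1
    · exact hs
    · exact hv
  have hfix : (h.s : Matrix (Fin 2) (Fin 2) F) * u.v = u.v := by
    have := congrArg Ext.v hcomm
    simp only [Ext.mul_v, hs, Matrix.SpecialLinearGroup.coe_one, Matrix.one_mul] at this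
    have h2 : h.v + (h.s : Matrix (Fin 2) (Fin 2) F) * u.v = h.v + u.v := by
      rw [this, add_comm]
    exact add_left_cancel h2
  obtain ⟨j, hj⟩ : ∃ j, (fun i => u.v i j) ≠ 0 := by
    by_contra hcon
    push Not at hcon
    apply hv
    ext i j
    exact congrFun (hcon j) i
  apply sq_eq_one_of_fixed h.s (fun i => u.v i j) hj
  ext i
  have := congrFun (congrFun hfix i) j
  simpa [Matrix.mul_apply, Matrix.mulVec, dotProduct] using this

omit [CharP F 2] in
theorem sect_proj (s : Matrix.SpecialLinearGroup (Fin 2) F) :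
    Ext.proj F k (Ext.sect F k s) = s := rfl

theorem two_dvd_card_SL [Finite F] : 2 ∣ Nat.card (Matrix.SpecialLinearGroup (Fin 2) F) := by
  have T : (2 : F) = 0 := CharTwo.two_eq_zero
  let t : Matrix.SpecialLinearGroup (Fin 2) F := ⟨!![1, 1; 0, 1], by simp [Matrix.det_fin_two]⟩
  have ht2 : t ^ 2 = 1 := by
    apply Subtype.ext
    rw [pow_two]
    change (!![1, 1; 0, 1] : Matrix (Fin 2) (Fin 2) F) * !![1, 1; 0, 1] = 1
    rw [Matrix.mul_fin_two, Matrix.one_fin_two]
    simp only [mul_one, mul_zero, add_zero, zero_add, one_add_one_eq_two, T]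
  have htne : t ≠ 1 := by
    intro h
    have := congrArg (fun m : Matrix.SpecialLinearGroup (Fin 2) F =>
      (m : Matrix (Fin 2) (Fin 2) F) 0 1) h
    simp [t] at this
  have : orderOf t = 2 := orderOf_eq_prime ht2 htne
  have h := orderOf_dvd_natCard t
  rw [this] at h
  exact h

theorem center_SL_eq_bot :
    Subgroup.center (Matrix.SpecialLinearGroup (Fin 2) F) = ⊥ := by
  rw [Subgroup.eq_bot_iff_forall]
  intro A hA
  obtain ⟨r, hr, hrA⟩ := Matrix.SpecialLinearGroup.mem_center_iff.mp hA
  have T : (2 : F) = 0 := CharTwo.two_eq_zero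
  simp only [Fintype.card_fin] at hr
  have hr1 : r = 1 := by
    have : (r - 1) ^ 2 = 0 := by linear_combination hr + (1 - r) * T
    have := pow_eq_zero_iff (two_ne_zero) |>.mp this
    linear_combination this
  apply Subtype.ext
  rw [← hrA, hr1]
  simp

/-- `PSL(2,F) ≃* SL(2,F)` in characteristic 2 -/
noncomputable def pslEquiv :
    Matrix.ProjectiveSpecialLinearGroup (Fin 2) F ≃* Matrix.SpecialLinearGroup (Fin 2) F :=
  (QuotientGroup.quotientMulEquivOfEq center_SL_eq_bot).trans QuotientGroup.quotientBot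

end props

theorem exists_small_model (H₀ : Type*) [Group H₀] [Finite H₀] :
    ∃ (H : Type) (_ : Group H) (_ : Finite H), Nonempty (H ≃* H₀) := by
  let f : H₀ ≃ Fin (Nat.card H₀) := Finite.equivFin H₀
  let _ : Group (Fin (Nat.card H₀)) := f.symm.group
  exact ⟨Fin (Nat.card H₀), f.symm.group, inferInstance, ⟨f.symm.mulEquiv⟩⟩


/-- The prime graph of a finite group has the prime divisors of its order as vertices, two distinct primes p, q being joined when the group has an element of order pq; two groups have the same prime graph when they have the same prime divisors and the same joined pairs. Let F be a finite field of characteristic 2 with at least 4 elements. Then there are finite groups of arbitrarily large order with the same prime graph as PSL(2,F); in particular PSL(2,F) is not determined by its prime graph. -/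
theorem result {F : Type*} [Field F] [Fintype F] [CharP F 2] (hF : 4 ≤ Fintype.card F) (N : ℕ) :
    ∃ (H : Type) (_ : Group H) (_ : Finite H), N < Nat.card H ∧
      ((∀ p : ℕ, p.Prime → (p ∣ Nat.card (Matrix.ProjectiveSpecialLinearGroup (Fin 2) F) ↔ p ∣ Nat.card H)) ∧
      (∀ p q : ℕ, p.Prime → q.Prime → p ≠ q → ((∃ g : (Matrix.ProjectiveSpecialLinearGroup (Fin 2) F), orderOf g = p * q) ↔ (∃ g : H, orderOf g = p * q)))) := by
  obtain ⟨H, hG, hfin, ⟨m⟩⟩ := exists_small_model (Ext F N)
  refine ⟨H, hG, hfin, ?_, ?_⟩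
  · rw [Nat.card_congr m.toEquiv, Nat.card_congr (Ext.equivProd F N), Nat.card_prod]
    have h1 : 0 < Nat.card (Matrix.SpecialLinearGroup (Fin 2) F) := Nat.card_pos
    have h2 : Nat.card (Matrix (Fin 2) (Fin N) F) = Fintype.card F ^ (2 * N) := by
      change Nat.card (Fin 2 → Fin N → F) = _
      rw [Nat.card_fun, Nat.card_fun, Nat.card_eq_fintype_card, Nat.card_eq_fintype_card,
        Nat.card_eq_fintype_card, Fintype.card_fin, Fintype.card_fin, ← pow_mul, mul_comm]
    have h3 : N < Fintype.card F ^ (2 * N) := by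
      calc N < 2 ^ N := Nat.lt_two_pow_self
        _ ≤ 2 ^ (2 * N) := Nat.pow_le_pow_right (by norm_num) (by omega)
        _ ≤ Fintype.card F ^ (2 * N) := Nat.pow_le_pow_left (by omega) _
    rw [h2]
    nlinarith
  · let e := pslEquiv (F := F)
    have hcard : Nat.card (Matrix.ProjectiveSpecialLinearGroup (Fin 2) F) =
        Nat.card (Matrix.SpecialLinearGroup (Fin 2) F) := Nat.card_congr e.toEquiv
    refine primeGraph_transfer (S := Matrix.ProjectiveSpecialLinearGroup (Fin 2) F) (H := H)
      (m.symm.toMonoidHom.comp ((Ext.sect F N).comp e.toMonoidHom))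
      (e.symm.toMonoidHom.comp ((Ext.proj F N).comp m.toMonoidHom)) ?_ ?_ ?_ ?_
    · exact m.symm.injective.comp (Ext.sect_injective.comp e.injective)
    · intro u hu
      have hu' : Ext.proj F N (m u) = 1 := by
        have : e.symm (Ext.proj F N (m u)) = 1 := hu
        simpa using this
      have := ker_sq (m u) hu'
      rw [← map_pow] at this
      exact (MulEquiv.map_eq_one_iff m).mp this
    · intro h u hu hne hcomm
      have hu' : Ext.proj F N (m u) = 1 := by
        have : e.symm (Ext.proj F N (m u)) = 1 := hu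
        simpa using this
      have hne' : m u ≠ 1 := fun h' => hne ((MulEquiv.map_eq_one_iff m).mp h')
      have hcomm' : m h * m u = m u * m h := by rw [← map_mul, ← map_mul, hcomm]
      have := fixed_sq (m h) (m u) hu' hne' hcomm'
      change (e.symm (Ext.proj F N (m h))) ^ 2 = 1
      rw [← map_pow, this, map_one]
    · rw [hcard]; exact two_dvd_card_SL

end Cfsg.Agent.S3660
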