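import Cfsg.Statements.S1230
import Cfsg.Agent.S1229
import Cfsg.Agent.Lib.Helper19.Zass2Final


set_option autoImplicit false
set_option linter.style.haveILetI false
open Cfsg

namespace Cfsg.Agent.S1230

/-- Let G be a finite group with a Sylow 2-subgroup T that is neither cyclic nor normal, such that the centralizer of every involution is an elementary abelian 2-group. Then G ≅ PSL(2,F) for a finite field F with |F| = |T|. -/
theorem result {G : Type*} [Group G] [Finite G] (T : Sylow 2 G) (hnc : ¬ IsCyclic (T : Subgroup G)) (hnn : ¬ (T : Subgroup G).Normal) (hC : ∀ t : G, orderOf t = 2 → IsMulCommutative (Subgroup.centralizer ({t} : Set G)) ∧ ∀ c ∈ Subgroup.centralizer ({t} : Set G), c ^ 2 = 1) : ∃ (F : Type) (_ : Field F) (_ : Fintype F), Fintype.card F = Nat.card T ∧ Nonempty (G ≃* Matrix.ProjectiveSpecialLinearGroup (Fin 2) F) := by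
  classical
  obtain ⟨h3t, hsh, hreg⟩ := Cfsg.Agent.S1229.result T hnc hnn hC
  set X := G ⧸ Subgroup.normalizer ((T : Subgroup G) : Set G) with hX
  haveI : Fintype X := Fintype.ofFinite X
  let pt0 : X := QuotientGroup.mk 1
  -- T is not normal, so there is a second point
  have hex1 : ∃ a : X, a ≠ pt0 := by
    by_contra hcon
    push Not at hcon
    apply hnn
    have htop : Subgroup.normalizer ((T : Subgroup G) : Set G) = ⊤ := by
      rw [eq_top_iff]
      intro g _
      have := hcon (QuotientGroup.mk g)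
      have h2 : (QuotientGroup.mk g : X) = QuotientGroup.mk 1 := this
      rw [QuotientGroup.eq] at h2
      have h3 := Subgroup.inv_mem _ h2
      simpa using h3
    exact Subgroup.normalizer_eq_top_iff.mp htop
  obtain ⟨a1, ha1⟩ := hex1
  have hTfix : ∀ t : G, t ∈ T → t • pt0 = pt0 := by
    intro t ht
    change (QuotientGroup.mk (t * 1) : X) = QuotientGroup.mk 1
    rw [QuotientGroup.eq]
    have : t ∈ Subgroup.normalizer ((T : Subgroup G) : Set G) := Subgroup.le_normalizer ht
    simpa using Subgroup.inv_mem _ this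
  -- card X = card T + 1
  have hcardX : Fintype.card X = Nat.card T + 1 := by
    have hne : ∀ t : (T : Subgroup G), (t : G) • a1 ≠ pt0 := by
      intro t h
      apply ha1
      have h2 : a1 = (t : G)⁻¹ • pt0 := by rw [← h, inv_smul_smul]
      rw [h2, hTfix _ ((T : Subgroup G).inv_mem t.2)]
    have hbij : Function.Bijective
        (fun t : (T : Subgroup G) => (⟨(t : G) • a1, hne t⟩ : {x : X // x ≠ pt0})) := by
      constructor
      · intro t t' htt'
        have h1 : (t : G) • a1 = (t' : G) • a1 := congrArg Subtype.val htt'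
        obtain ⟨u, _, hu⟩ := hreg a1 ((t' : G) • a1) ha1 (hne t')
        have e1 := hu t ⟨t.2, h1⟩
        have e2 := hu t' ⟨t'.2, rfl⟩
        exact Subtype.ext (e1.trans e2.symm)
      · rintro ⟨y, hy⟩
        obtain ⟨u, ⟨hu1, hu2⟩, _⟩ := hreg a1 y ha1 hy
        exact ⟨⟨u, hu1⟩, Subtype.ext hu2⟩
    have h1 : Fintype.card X = Fintype.card {x : X // x ≠ pt0} + 1 := by
      rw [← Fintype.card_option, Fintype.card_congr (Equiv.optionSubtypeNe pt0)]
    rw [h1, ← Nat.card_eq_fintype_card (α := {x : X // x ≠ pt0}),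
      ← Nat.card_eq_of_bijective _ hbij]
  -- |T| is a power of two, at least 4
  obtain ⟨n, hn⟩ := (T.2).exists_card_eq
  have hn' : Nat.card T = 2 ^ n := hn
  have hn2 : 2 ≤ n := by
    by_contra hlt
    apply hnc
    have hn01 : n = 0 ∨ n = 1 := by omega
    rcases hn01 with rfl | rfl
    · have : Nat.card (T : Subgroup G) = 1 := by simpa using hn'
      have hsub : Subsingleton (T : Subgroup G) := (Nat.card_eq_one_iff_unique.mp this).1
      exact isCyclic_of_subsingleton
    · have hc2 : Nat.card (T : Subgroup G) = 2 := by simpa using hn'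
      haveI : Fact (Nat.Prime 2) := ⟨Nat.prime_two⟩
      exact isCyclic_of_prime_card hc2
  have hq4 : 4 ≤ Nat.card T := by
    rw [hn']
    calc 4 = 2 ^ 2 := by norm_num
      _ ≤ 2 ^ n := Nat.pow_le_pow_right (by norm_num) hn2
  have hodd : Odd (Fintype.card X) := by
    rw [hcardX, hn']
    refine ⟨2 ^ (n - 1), ?_⟩
    obtain ⟨k, rfl⟩ : ∃ k, n = k + 1 := ⟨n - 1, by omega⟩
    rw [Nat.add_sub_cancel, pow_succ]
    ring
  have hcard3 : 3 ≤ Fintype.card X := by omega
  -- three distinct points
  obtain ⟨p1, p2, p3, h12, h13, h23⟩ := Fintype.two_lt_card_iff.mp (by omega : 2 < Fintype.card X)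
  -- the permutation representation
  let ρ : G →* Equiv.Perm X := MulAction.toPermHom G X
  have hρ : ∀ (g : G) (x : X), ρ g x = g • x := fun g x => rfl
  have hinj : Function.Injective ρ := by
    rw [injective_iff_map_eq_one]
    intro g hg
    apply hsh g p1 p2 p3 h12 h13 h23
    · rw [← hρ, hg]; rfl
    · rw [← hρ, hg]; rfl
    · rw [← hρ, hg]; rfl
  let Gb : Subgroup (Equiv.Perm X) := ρ.range
  have h3 : MulAction.IsMultiplyPretransitive Gb X 3 := by
    refine ⟨fun x y => ?_⟩
    obtain ⟨g, hg0, hg1, hg2⟩ := h3t (x 0) (x 1) (x 2) (y 0) (y 1) (y 2)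
      (fun e => by simpa using x.injective e) (fun e => by simpa using x.injective e)
      (fun e => by simpa using x.injective e) (fun e => by simpa using y.injective e)
      (fun e => by simpa using y.injective e) (fun e => by simpa using y.injective e)
    refine ⟨⟨ρ g, g, rfl⟩, ?_⟩
    ext i
    change ρ g (x i) = y i
    rw [hρ]
    fin_cases i
    · exact hg0
    · exact hg1
    · exact hg2
  have hsharp : ∀ x : Fin 3 ↪ X, MulAction.stabilizer Gb x = ⊥ := by
    intro x
    rw [eq_bot_iff]
    rintro ⟨σ, g, rfl⟩ hσ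
    rw [MulAction.mem_stabilizer_iff] at hσ
    have hfix : ∀ i, g • x i = x i := fun i => by
      have := congrArg (fun e : Fin 3 ↪ X => e i) hσ
      exact this
    have hg1 : g = 1 := hsh g (x 0) (x 1) (x 2)
      (fun e => by simpa using x.injective e) (fun e => by simpa using x.injective e)
      (fun e => by simpa using x.injective e) (hfix 0) (hfix 1) (hfix 2)
    rw [Subgroup.mem_bot]
    apply Subtype.ext
    change ρ g = 1
    rw [hg1, map_one]
  obtain ⟨a, ha1', hcard2, F, hF, hFin, hFcard, _, ⟨esl⟩⟩ :=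
    Cfsg.Agent.Helper19.Zass2.zassenhaus_char_two Gb h3 hsharp hodd hcard3
  have hFT : Fintype.card F = Nat.card T := by
    rw [hFcard]
    omega
  -- characteristic two, so the centre of SL₂ is trivial
  obtain ⟨p, hchar, m, hp, hpm⟩ := FiniteField.card' F
  have hp2 : p = 2 := by
    rw [hFcard] at hpm
    have hdvd : p ∣ 2 ^ a := by
      rw [hpm]
      exact dvd_pow_self p m.ne_zero
    exact (Nat.prime_dvd_prime_iff_eq hp Nat.prime_two).mp (hp.dvd_of_dvd_pow hdvd)
  subst hp2
  haveI : Fact (Nat.Prime 2) := ⟨Nat.prime_two⟩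
  have hcenter : Subgroup.center (Matrix.SpecialLinearGroup (Fin 2) F) = ⊥ := by
    rw [eq_bot_iff]
    intro A hA
    rw [Matrix.SpecialLinearGroup.mem_center_iff] at hA
    obtain ⟨r, hr, hrA⟩ := hA
    rw [Fintype.card_fin] at hr
    have h1 : (r - 1) ^ 2 = 0 := by
      rw [sub_pow_char r 1, hr, one_pow, sub_self]
    have h2 : r = 1 := by
      have := pow_eq_zero_iff (two_ne_zero) |>.mp h1
      exact sub_eq_zero.mp this
    rw [Subgroup.mem_bot]
    apply Subtype.ext
    rw [← hrA, h2]
    simp
  have epsl : Matrix.ProjectiveSpecialLinearGroup (Fin 2) F ≃* Matrix.SpecialLinearGroup (Fin 2) F :=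
    (QuotientGroup.quotientMulEquivOfEq hcenter).trans QuotientGroup.quotientBot
  exact ⟨F, hF, hFin, hFT, ⟨((MonoidHom.ofInjective hinj).trans esl).trans epsl.symm⟩⟩

end Cfsg.Agent.S1230
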