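import Cfsg.Statements.S5057

set_option autoImplicit false
open Cfsg

namespace Cfsg.Agent.S5057

open Equiv

set_option maxRecDepth 100000 in
theorem a6_orders : ∀ g : Perm (Fin 6), Perm.sign g = 1 → (g ^ 3 = 1 ∨ g ^ 4 = 1 ∨ g ^ 5 = 1) := by
  decide +kernel

theorem a6_orders' (x : ↥(alternatingGroup (Fin 6))) : x ^ 3 = 1 ∨ x ^ 4 = 1 ∨ x ^ 5 = 1 := by
  have := a6_orders x.1 (Perm.mem_alternatingGroup.1 x.2)
  rcases this with h | h | h
  · left; exact Subtype.ext (by simpa using h)
  · right; left; exact Subtype.ext (by simpa using h)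
  · right; right; exact Subtype.ext (by simpa using h)

theorem orderOf_le_five (x : ↥(alternatingGroup (Fin 6))) : orderOf x ≤ 5 := by
  rcases a6_orders' x with h | h | h
  · exact (Nat.le_of_dvd (by norm_num) (orderOf_dvd_of_pow_eq_one h)).trans (by norm_num)
  · exact (Nat.le_of_dvd (by norm_num) (orderOf_dvd_of_pow_eq_one h)).trans (by norm_num)
  · exact Nat.le_of_dvd (by norm_num) (orderOf_dvd_of_pow_eq_one h)

theorem cycleType_of_involution (g : ↥(alternatingGroup (Fin 6))) (hg : orderOf g = 2) :
    (g : Perm (Fin 6)).cycleType = {2, 2} := by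
  have h2 : orderOf (g : Perm (Fin 6)) = 2 := by rw [Subgroup.orderOf_coe, hg]
  obtain ⟨n, hn⟩ := Perm.cycleType_prime_order (σ := (g : Perm (Fin 6))) (by rw [h2]; exact Nat.prime_two)
  rw [h2] at hn
  have hsum : (g : Perm (Fin 6)).cycleType.sum ≤ 6 := by
    have := Perm.sum_cycleType_le (g : Perm (Fin 6))
    simpa using this
  rw [hn, Multiset.sum_replicate, smul_eq_mul] at hsum
  have hsign : Perm.sign (g : Perm (Fin 6)) = 1 := Perm.mem_alternatingGroup.1 g.2
  rw [Perm.sign_of_cycleType, hn, Multiset.sum_replicate, Multiset.card_replicate, smul_eq_mul] at hsign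
  have hn' : n = 0 ∨ n = 1 ∨ n = 2 := by omega
  rcases hn' with rfl | rfl | rfl
  · exact absurd hsign (by decide)
  · rw [hn]; rfl
  · exact absurd hsign (by decide)

theorem orderOf_of_cycleType (g : ↥(alternatingGroup (Fin 6)))
    (hg : (g : Perm (Fin 6)).cycleType = {2, 2}) : orderOf g = 2 := by
  rw [← Subgroup.orderOf_coe, ← Perm.lcm_cycleType, hg]
  rfl

/-- The involutions of the alternating group of degree 6 form a class of root involutions (a single conjugacy class of involutions generating the group, any two of which commute, have product of odd order, or have product of order 4 whose square is again an involution of the class), and the product of any two of them has order at most 5. -/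
theorem result :
    Cfsg.IsRootInvolutionClass {g : ↥(alternatingGroup (Fin 6)) | orderOf g = 2} ∧
    ∀ d ∈ {g : ↥(alternatingGroup (Fin 6)) | orderOf g = 2}, ∀ e ∈ {g : ↥(alternatingGroup (Fin 6)) | orderOf g = 2},
      orderOf (d * e) ≤ 5 := by
  have hgen : Subgroup.closure {g : ↥(alternatingGroup (Fin 6)) | orderOf g = 2} = ⊤ := by
    rw [eq_top_iff, ← alternatingGroup.closure_cycleType_eq_two_two_eq_top (α := Fin 6) (by simp)]
    apply Subgroup.closure_mono
    intro g hg
    exact orderOf_of_cycleType g hg
  refine ⟨⟨⟨fun d hd => hd, hgen, ?_, ?_⟩, ?_, ?_⟩, fun d _ e _ => orderOf_le_five _⟩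
  · intro d hd g
    have := MulEquiv.orderOf_eq (MulAut.conj g) d
    rw [MulAut.conj_apply] at this
    exact this.trans hd
  · intro a ha b hb
    have ha2 : a ^ 2 = 1 := by rw [← ha]; exact pow_orderOf_eq_one a
    have hb2 : b ^ 2 = 1 := by rw [← hb]; exact pow_orderOf_eq_one b
    have hcomm : (a * b) ^ 2 = 1 → a * b = b * a := by
      intro h
      have h1 : a * b * (a * b) = 1 := by rw [← sq]; exact h
      have ha' : a⁻¹ = a := by rw [inv_eq_iff_mul_eq_one, ← sq]; exact ha2
      have hb' : b⁻¹ = b := by rw [inv_eq_iff_mul_eq_one, ← sq]; exact hb2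
      have h2 : a * b = (a * b)⁻¹ := (mul_eq_one_iff_eq_inv.1 h1)
      rw [h2, mul_inv_rev, ha', hb']
    have hdvd : ∀ n : ℕ, (a * b) ^ n = 1 → orderOf (a * b) ∣ n := fun n => orderOf_dvd_of_pow_eq_one
    rcases a6_orders' (a * b) with h | h | h
    · have h3 := hdvd 3 h
      right; left
      rcases (Nat.dvd_prime Nat.prime_three).1 h3 with h4 | h4 <;> rw [h4] <;> decide
    · have h4 := hdvd 4 h
      have hle : orderOf (a * b) ≤ 4 := Nat.le_of_dvd (by norm_num) h4
      have hpos : 0 < orderOf (a * b) := Nat.pos_of_dvd_of_pos h4 (by norm_num)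
      have : orderOf (a * b) = 1 ∨ orderOf (a * b) = 2 ∨ orderOf (a * b) = 4 := by
        interval_cases hk : orderOf (a * b)
        · left; rfl
        · right; left; rfl
        · exact absurd h4 (by decide)
        · right; right; rfl
      rcases this with h1 | h1 | h1
      · right; left; rw [h1]; decide
      · left; apply hcomm; rw [← h1]; exact pow_orderOf_eq_one _
      · right; right
        refine ⟨h1, ?_⟩
        show orderOf ((a * b) ^ 2) = 2
        rw [orderOf_pow' _ (by norm_num), h1]
        rfl
    · have h5 := hdvd 5 h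
      right; left
      rcases (Nat.dvd_prime Nat.prime_five).1 h5 with h4 | h4 <;> rw [h4] <;> decide
  · by_contra hne
    rw [Set.not_nonempty_iff_eq_empty] at hne
    rw [hne, Subgroup.closure_empty] at hgen
    exact bot_ne_top hgen
  · intro a ha b hb
    have hca := cycleType_of_involution a ha
    have hcb := cycleType_of_involution b hb
    have hconj : IsConj (a : Perm (Fin 6)) (b : Perm (Fin 6)) := by
      rw [Perm.isConj_iff_cycleType_eq, hca, hcb]
    have hsupp : (a : Perm (Fin 6)).support.card + 2 ≤ Fintype.card (Fin 6) := by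
      rw [← Perm.sum_cycleType, hca]
      simp
    obtain ⟨c, hc⟩ := isConj_iff.1 (alternatingGroup.isConj_of hconj hsupp)
    exact ⟨c, hc.symm⟩

end Cfsg.Agent.S5057
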