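import Cfsg.Statements.S2611
import Cfsg.Agent.S2630
import Cfsg.Agent.Lib.Helper43.SpinorSum
import Cfsg.Agent.Lib.Helper43.OrthPlus

set_option autoImplicit false
open Cfsg

namespace Cfsg.Agent.S2611
open Matrix Module QuadraticMap Cfsg.Agent.Helper36 Cfsg.Agent.Helper36.PlusOrth Cfsg.Agent.Helper43
open Cfsg.Agent.S0831
open scoped commutatorElement

section General

variable {F : Type*} [Field F] {m : ℕ}

/-- the Levi embedding `A ↦ diag(A, A⁻ᵀ)` -/
noncomputable def lev (A : GL (Fin m) F) : OPlus m F :=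
  lA (A : Matrix (Fin m) (Fin m) F) ((A⁻¹ : GL (Fin m) F) : Matrix (Fin m) (Fin m) F)
    (by rw [← Units.val_mul, mul_inv_cancel, Units.val_one])
    (by rw [← Units.val_mul, inv_mul_cancel, Units.val_one])

theorem lev_coe (A : GL (Fin m) F) :
    (((lev A).1 : GL (Fin m ⊕ Fin m) F) : Matrix (Fin m ⊕ Fin m) (Fin m ⊕ Fin m) F) =
      fromBlocks (A : Matrix (Fin m) (Fin m) F) 0 0
        ((A⁻¹ : GL (Fin m) F) : Matrix (Fin m) (Fin m) F)ᵀ := rfl

theorem lev_coe' (A : GL (Fin m) F) :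
    (((lev A).1 : GL (Fin m ⊕ Fin m) F) : Matrix (Fin m ⊕ Fin m) (Fin m ⊕ Fin m) F) =
      fromBlocks (A : Matrix (Fin m) (Fin m) F) 0 0
        ((A : Matrix (Fin m) (Fin m) F)⁻¹)ᵀ := by
  rw [lev_coe, Matrix.coe_units_inv]

theorem lev_mul (A B : GL (Fin m) F) : lev (A * B) = lev A * lev B := by
  apply Subtype.ext
  apply Units.ext
  show (((lev (A * B)).1 : GL (Fin m ⊕ Fin m) F) : Matrix (Fin m ⊕ Fin m) (Fin m ⊕ Fin m) F) =
    (((lev A).1 : GL (Fin m ⊕ Fin m) F) : Matrix (Fin m ⊕ Fin m) (Fin m ⊕ Fin m) F) *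
    (((lev B).1 : GL (Fin m ⊕ Fin m) F) : Matrix (Fin m ⊕ Fin m) (Fin m ⊕ Fin m) F)
  rw [lev_coe, lev_coe, lev_coe, fromBlocks_multiply]
  simp only [mul_zero, add_zero, zero_mul, zero_add]
  rw [_root_.mul_inv_rev, Units.val_mul, Units.val_mul, transpose_mul]

theorem lev_one : lev (1 : GL (Fin m) F) = 1 := by
  apply Subtype.ext
  apply Units.ext
  show (((lev 1).1 : GL (Fin m ⊕ Fin m) F) : Matrix (Fin m ⊕ Fin m) (Fin m ⊕ Fin m) F) = 1
  rw [lev_coe, inv_one, Units.val_one, transpose_one, fromBlocks_one]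

/-- the Levi embedding as a homomorphism -/
noncomputable def levHom : GL (Fin m) F →* OPlus m F where
  toFun := lev
  map_one' := lev_one
  map_mul' := lev_mul

theorem levHom_apply (A : GL (Fin m) F) : levHom A = lev A := rfl

theorem exists_iff_lev_mem (A : GL (Fin m) F) :
    (∃ g : ↥(Cfsg.isometryGroup F (Cfsg.quadFormPlus m F)),
      g ∈ Cfsg.Omega F (Cfsg.quadFormPlus m F) ∧
      ((g : Matrix.GeneralLinearGroup (Fin m ⊕ Fin m) F) :
        Matrix (Fin m ⊕ Fin m) (Fin m ⊕ Fin m) F) =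
        Matrix.fromBlocks (A : Matrix (Fin m) (Fin m) F) 0 0
          ((A : Matrix (Fin m) (Fin m) F)⁻¹).transpose) ↔
      lev A ∈ Cfsg.Omega F (Cfsg.quadFormPlus m F) := by
  constructor
  · rintro ⟨g, hg, hgA⟩
    have : g = lev A := by
      apply Subtype.ext
      apply Units.ext
      rw [hgA]
      exact (lev_coe' A).symm
    rw [← this]
    exact hg
  · intro h
    exact ⟨lev A, h, lev_coe' A⟩

theorem act_lev (A : GL (Fin m) F) (v : Fin m ⊕ Fin m → F) :
    actHom m F (lev A) v = fromBlocks (A : Matrix (Fin m) (Fin m) F) 0 0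
        ((A⁻¹ : GL (Fin m) F) : Matrix (Fin m) (Fin m) F)ᵀ *ᵥ v := rfl

theorem imgL_lev (A : GL (Fin m) F) : imgL (lev A) = stdL m F := by
  have hle : ∀ B : GL (Fin m) F, imgL (lev B) ≤ stdL m F := by
    intro B
    rintro w ⟨v, hv, rfl⟩
    rw [SetLike.mem_coe, mem_stdL] at hv
    rw [mem_stdL]
    intro j
    rw [LinearEquiv.coe_coe, act_lev, fromBlocks_mulVec]
    simp only [Sum.elim_inr, zero_mulVec, zero_add]
    have : v ∘ Sum.inr = 0 := by
      funext k
      exact hv k
    rw [this, mulVec_zero]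
    rfl
  apply le_antisymm (hle A)
  intro v hv
  refine ⟨actHom m F (lev A⁻¹) v, ?_, ?_⟩
  · apply hle A⁻¹
    exact ⟨v, hv, rfl⟩
  · rw [LinearEquiv.coe_coe, ← act_mul, ← lev_mul, mul_inv_cancel, lev_one, act_one]

theorem dnat_lev (A : GL (Fin m) F) : dnat (lev A) = 0 := by
  unfold dnat
  rw [imgL_lev, inf_idem, stdL_mts.1, Nat.sub_self]

end General

section Diag

variable {F : Type*} [Field F] {m : ℕ}

/-- invertible diagonal matrices -/
noncomputable def dg (D : Fin m → Fˣ) : GL (Fin m) F :=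
  ⟨diagonal (fun k => (D k : F)), diagonal (fun k => ((D k)⁻¹ : Fˣ)),
    by
      rw [diagonal_mul_diagonal]
      simp,
    by
      rw [diagonal_mul_diagonal]
      simp⟩

theorem dg_coe (D : Fin m → Fˣ) :
    ((dg D : GL (Fin m) F) : Matrix (Fin m) (Fin m) F) = diagonal (fun k => (D k : F)) := rfl

theorem dg_inv_coe (D : Fin m → Fˣ) :
    (((dg D)⁻¹ : GL (Fin m) F) : Matrix (Fin m) (Fin m) F) =
      diagonal (fun k => (((D k)⁻¹ : Fˣ) : F)) := rfl

noncomputable def dgHom : (Fin m → Fˣ) →* GL (Fin m) F where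
  toFun := dg
  map_one' := by
    apply Units.ext
    rw [dg_coe]
    simp
  map_mul' D E := by
    apply Units.ext
    rw [Units.val_mul, dg_coe, dg_coe, dg_coe, diagonal_mul_diagonal]
    simp

theorem dgHom_apply (D : Fin m → Fˣ) : dgHom D = dg D := rfl

theorem det_dg (D : Fin m → Fˣ) : Matrix.GeneralLinearGroup.det (dg D) = ∏ k, D k := by
  apply Units.ext
  rw [Matrix.GeneralLinearGroup.val_det_apply, dg_coe, det_diagonal, Units.coe_prod]

/-- transvections as invertible matrices -/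
noncomputable def tv (i j : Fin m) (hij : i ≠ j) (s : F) : GL (Fin m) F :=
  ⟨transvection i j s, transvection i j (-s),
    by rw [transvection_mul_transvection_same i j hij, add_neg_cancel, transvection_zero],
    by rw [transvection_mul_transvection_same i j hij, neg_add_cancel, transvection_zero]⟩

theorem tv_coe (i j : Fin m) (hij : i ≠ j) (s : F) :
    ((tv i j hij s : GL (Fin m) F) : Matrix (Fin m) (Fin m) F) = transvection i j s := rfl

theorem tv_inv (i j : Fin m) (hij : i ≠ j) (s : F) : (tv i j hij s)⁻¹ = tv i j hij (-s) := by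
  apply Units.ext
  rfl

theorem tv_mul (i j : Fin m) (hij : i ≠ j) (s t : F) :
    tv i j hij s * tv i j hij t = tv i j hij (s + t) := by
  apply Units.ext
  rw [Units.val_mul, tv_coe, tv_coe, tv_coe, transvection_mul_transvection_same i j hij]

theorem dg_mul_tv (i j : Fin m) (hij : i ≠ j) (a : Fˣ) (s : F) :
    dg (Pi.mulSingle i a) * tv i j hij s = tv i j hij ((a : F) * s) * dg (Pi.mulSingle i a) := by
  apply Units.ext
  rw [Units.val_mul, Units.val_mul, tv_coe, tv_coe, dg_coe]
  ext x y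
  rw [diagonal_mul, mul_diagonal]
  simp only [transvection, Matrix.add_apply, Matrix.one_apply, Matrix.single_apply,
    Pi.mulSingle_apply]
  by_cases hxy : x = y
  · subst hxy
    have : ¬ (i = x ∧ j = x) := fun h => hij (h.1.trans h.2.symm)
    simp only [if_neg this, if_true, add_zero, mul_one, one_mul]
  · rw [if_neg hxy, zero_add, zero_add]
    by_cases h : i = x ∧ j = y
    · obtain ⟨rfl, rfl⟩ := h
      have h1 : (i = i ∧ j = j) := ⟨rfl, rfl⟩
      have h2 : ¬ (j = i) := fun h' => hij h'.symm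
      simp only [and_self, if_true, if_neg h2, Units.val_one, mul_one]
    · simp only [if_neg h, mul_zero, zero_mul]

theorem tv_eq_commutator (i j : Fin m) (hij : i ≠ j) (a : Fˣ) (s : F) :
    ⁅dg (Pi.mulSingle i a), tv i j hij s⁆ = tv i j hij (((a : F) - 1) * s) := by
  rw [commutatorElement_def, dg_mul_tv, mul_assoc (tv i j hij _), mul_inv_cancel, mul_one, tv_inv,
    tv_mul]
  congr 1
  ring

end Diag

section Pair

variable {F : Type*} [Field F] {m : ℕ}

/-- the vector `e_i - u f_i` -/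
noncomputable def wv (i : Fin m) (u : F) : Fin m ⊕ Fin m → F :=
  Pi.single (Sum.inl i) 1 - u • Pi.single (Sum.inr i) 1

theorem wv_inl (i k : Fin m) (u : F) : wv i u (Sum.inl k) = if k = i then 1 else 0 := by
  simp [wv, Pi.single_apply]

theorem wv_inr (i k : Fin m) (u : F) : wv i u (Sum.inr k) = if k = i then -u else 0 := by
  by_cases hk : k = i <;> simp [wv, hk]

theorem Q_wv (i : Fin m) (u : F) : stdPlus F m (wv i u) = -u := by
  rw [stdPlus_apply]
  unfold Cfsg.quadFormPlus
  rw [Finset.sum_eq_single i]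
  · rw [wv_inl, wv_inr, if_pos rfl, if_pos rfl, one_mul]
  · intro b _ hb
    rw [wv_inl, if_neg hb, zero_mul]
  · intro h
    exact absurd (Finset.mem_univ _) h

theorem polar_wv (i : Fin m) (u : F) (x : Fin m ⊕ Fin m → F) :
    polar (stdPlus F m) (wv i u) x = x (Sum.inr i) - u * x (Sum.inl i) := by
  rw [polar_stdPlus]
  simp only [wv_inl, wv_inr]
  rw [Finset.sum_eq_single i]
  · rw [if_pos rfl, if_pos rfl]
    ring
  · intro b _ hb
    rw [if_neg hb, if_neg hb]
    ring
  · intro h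
    exact absurd (Finset.mem_univ _) h

theorem refl_wv (i : Fin m) (u : F) (hu : u ≠ 0) (x : Fin m ⊕ Fin m → F) (k : Fin m ⊕ Fin m) :
    (Cfsg.reflectionMatrix (⇑(stdPlus F m)) (wv i u) *ᵥ x) k =
      Sum.elim (fun j => if j = i then u⁻¹ * x (Sum.inr i) else x (Sum.inl j))
        (fun j => if j = i then u * x (Sum.inl i) else x (Sum.inr j)) k := by
  rw [reflectionMatrix_mulVec_eq, reflLin_apply, Q_wv, polar_wv]
  rcases k with k | k
  · simp only [Pi.sub_apply, Pi.smul_apply, smul_eq_mul, wv_inl, Sum.elim_inl]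
    by_cases hk : k = i
    · rw [if_pos hk, if_pos hk, hk]
      field_simp
      ring
    · rw [if_neg hk, if_neg hk]
      ring
  · simp only [Pi.sub_apply, Pi.smul_apply, smul_eq_mul, wv_inr, Sum.elim_inr]
    by_cases hk : k = i
    · rw [if_pos hk, if_pos hk, hk]
      field_simp
      ring
    · rw [if_neg hk, if_neg hk]
      ring

theorem pair_matrix (i : Fin m) (u : Fˣ) :
    Cfsg.reflectionMatrix (⇑(stdPlus F m)) (wv i 1) *
      Cfsg.reflectionMatrix (⇑(stdPlus F m)) (wv i (u : F)) =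
    fromBlocks (diagonal (fun k => ((Pi.mulSingle i u : Fin m → Fˣ) k : F))) 0 0
      (diagonal (fun k => (((Pi.mulSingle i u : Fin m → Fˣ) k)⁻¹ : Fˣ)))ᵀ := by
  apply matrix_ext_mulVec
  intro x
  funext k
  rw [← mulVec_mulVec, refl_wv i 1 one_ne_zero, diagonal_transpose, fromBlocks_diagonal,
    mulVec_diagonal]
  rcases k with k | k
  · simp only [Sum.elim_inl, Pi.mulSingle_apply]
    by_cases hk : k = i
    · rw [if_pos hk, if_pos hk, refl_wv i _ u.ne_zero, Sum.elim_inr, if_pos rfl, hk]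
      simp
    · rw [if_neg hk, if_neg hk, refl_wv i _ u.ne_zero, Sum.elim_inl, if_neg hk]
      simp
  · simp only [Sum.elim_inr, Pi.mulSingle_apply]
    by_cases hk : k = i
    · rw [if_pos hk, if_pos hk, refl_wv i _ u.ne_zero, Sum.elim_inl, if_pos rfl, hk]
      simp
    · rw [if_neg hk, if_neg hk, refl_wv i _ u.ne_zero, Sum.elim_inr, if_neg hk]
      simp

end Pair

section Odd

variable {F : Type*} [Field F] [Fintype F] [DecidableEq F] {m : ℕ}

/-- the Levi embedding with values in the isometry group of `stdPlus` -/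
noncomputable def levS : GL (Fin m) F →* ↥(Cfsg.isometryGroup F ⇑(stdPlus F m)) := levHom

omit [Fintype F] [DecidableEq F] in
theorem levS_coe (A : GL (Fin m) F) :
    (((levS A).1 : GL (Fin m ⊕ Fin m) F) : Matrix (Fin m ⊕ Fin m) (Fin m ⊕ Fin m) F) =
      fromBlocks (A : Matrix (Fin m) (Fin m) F) 0 0
        ((A⁻¹ : GL (Fin m) F) : Matrix (Fin m) (Fin m) F)ᵀ := rfl

/-- the class of the Levi element in the abelianisation -/
noncomputable def Psi : GL (Fin m) F →* Abelianization ↥(Cfsg.isometryGroup F ⇑(stdPlus F m)) :=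
  Abelianization.of.comp levS

omit [Fintype F] [DecidableEq F] in
theorem Q_wv_ne (i : Fin m) (u : Fˣ) : stdPlus F m (wv i (u : F)) ≠ 0 := by
  rw [Q_wv]
  exact neg_ne_zero.2 u.ne_zero

omit [Fintype F] [DecidableEq F] in
theorem Q_wv_one_ne (i : Fin m) : stdPlus F m (wv i (1 : F)) ≠ 0 := by
  rw [Q_wv]
  exact neg_ne_zero.2 one_ne_zero

omit [Fintype F] [DecidableEq F] in
theorem levS_pair (i : Fin m) (u : Fˣ) :
    levS (dg (Pi.mulSingle i u)) =
      reflIso (stdPlus F m) (Q_wv_one_ne i) * reflIso (stdPlus F m) (Q_wv_ne i u) := by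
  apply isoGroup_ext
  rw [Subgroup.coe_mul, Units.val_mul, reflIso_coe, reflIso_coe, pair_matrix, levS_coe, dg_coe,
    dg_inv_coe]

theorem Psi_pair (i : Fin m) (u : Fˣ) :
    Psi (dg (Pi.mulSingle i u)) =
      rho (stdPlus F m) (wv i 1) * rho (stdPlus F m) (wv i (u : F)) := by
  unfold Psi rho
  rw [MonoidHom.comp_apply, levS_pair, map_mul, reflIso'_of_ne _ (Q_wv_one_ne i),
    reflIso'_of_ne _ (Q_wv_ne i u)]

theorem Psi_pair_eq (h2 : (2 : F) ≠ 0) (i j : Fin m) (u : Fˣ) :
    (Psi (dg (Pi.mulSingle i u)) : Abelianization ↥(Cfsg.isometryGroup F ⇑(stdPlus F m))) =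
      Psi (dg (Pi.mulSingle j u)) := by
  rw [Psi_pair, Psi_pair,
    rho_eq_of_char_eq (stdPlus F m) h2 (Q_wv_one_ne i) (Q_wv_one_ne j) (by rw [Q_wv, Q_wv]),
    rho_eq_of_char_eq (stdPlus F m) h2 (Q_wv_ne i u) (Q_wv_ne j u) (by rw [Q_wv, Q_wv])]

/-- the class of a diagonal Levi element, as a homomorphism of commutative groups -/
noncomputable def PsiD :
    (Fin m → Fˣ) →* Abelianization ↥(Cfsg.isometryGroup F ⇑(stdPlus F m)) :=
  Psi.comp dgHom

omit [Fintype F] [DecidableEq F] in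
theorem PsiD_apply (D : Fin m → Fˣ) : PsiD D = Psi (dg D) := rfl

theorem Psi_dg (h2 : (2 : F) ≠ 0) (i0 : Fin m) (D : Fin m → Fˣ) :
    (Psi (dg D) : Abelianization ↥(Cfsg.isometryGroup F ⇑(stdPlus F m))) =
      Psi (dg (Pi.mulSingle i0 (∏ k, D k))) := by
  have h1 : D = ∏ k, Pi.mulSingle k (D k) := (Finset.univ_prod_mulSingle D).symm
  have h3 : (Psi (dg D) : Abelianization ↥(Cfsg.isometryGroup F ⇑(stdPlus F m))) =
      ∏ k, Psi (dg (Pi.mulSingle k (D k))) := by
    conv_lhs => rw [h1]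
    rw [← PsiD_apply, map_prod]
    rfl
  have h4 : (Pi.mulSingle i0 (∏ k, D k) : Fin m → Fˣ) = ∏ k, Pi.mulSingle i0 (D k) := by
    have := map_prod (MonoidHom.mulSingle (fun _ : Fin m => Fˣ) i0) D Finset.univ
    exact this
  rw [h3, h4, ← PsiD_apply, map_prod]
  apply Finset.prod_congr rfl
  intro k _
  exact Psi_pair_eq h2 k i0 (D k)

omit [Fintype F] [DecidableEq F] in
theorem Psi_tv (h2 : (2 : F) ≠ 0) (i j : Fin m) (hij : i ≠ j) (s : F) :
    (Psi (tv i j hij s) : Abelianization ↥(Cfsg.isometryGroup F ⇑(stdPlus F m))) = 1 := by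
  have h : tv i j hij s = ⁅dg (Pi.mulSingle i (-1 : Fˣ)), tv i j hij (s / (-2))⁆ := by
    rw [tv_eq_commutator]
    congr 1
    rw [Units.val_neg, Units.val_one]
    field_simp
    ring
  rw [h, map_commutatorElement]
  exact commutatorElement_eq_one_iff_commute.2 (Commute.all _ _)

theorem Psi_eq (h2 : (2 : F) ≠ 0) (i0 : Fin m) (A : GL (Fin m) F) :
    (Psi A : Abelianization ↥(Cfsg.isometryGroup F ⇑(stdPlus F m))) =
      Psi (dg (Pi.mulSingle i0 (Matrix.GeneralLinearGroup.det A))) := by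
  have key : ∀ N : Matrix (Fin m) (Fin m) F, N.det ≠ 0 → ∀ A : GL (Fin m) F,
      (A : Matrix (Fin m) (Fin m) F) = N →
      (Psi A : Abelianization ↥(Cfsg.isometryGroup F ⇑(stdPlus F m))) =
        Psi (dg (Pi.mulSingle i0 (Matrix.GeneralLinearGroup.det A))) := by
    intro N hN
    refine Matrix.diagonal_transvection_induction_of_det_ne_zero
      (fun N => ∀ A : GL (Fin m) F, (A : Matrix (Fin m) (Fin m) F) = N →
        (Psi A : Abelianization ↥(Cfsg.isometryGroup F ⇑(stdPlus F m))) =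
          Psi (dg (Pi.mulSingle i0 (Matrix.GeneralLinearGroup.det A)))) N hN ?_ ?_ ?_
    · intro D hD A hA
      rw [det_diagonal] at hD
      have hDk : ∀ k, D k ≠ 0 := fun k => (Finset.prod_ne_zero_iff.1 hD) k (Finset.mem_univ k)
      have hAD : A = dg (fun k => Units.mk0 (D k) (hDk k)) := by
        apply Units.ext
        rw [hA, dg_coe]
        rfl
      rw [hAD, det_dg]
      exact Psi_dg h2 i0 _
    · intro t A hA
      have hAt : A = tv t.i t.j t.hij t.c := by
        apply Units.ext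
        rw [hA, tv_coe]
        rfl
      have hdet : Matrix.GeneralLinearGroup.det A = 1 := by
        apply Units.ext
        rw [Matrix.GeneralLinearGroup.val_det_apply, hA, t.det, Units.val_one]
      rw [hdet, hAt, Psi_tv h2]
      have : dg (Pi.mulSingle i0 (1 : Fˣ)) = (1 : GL (Fin m) F) := by
        rw [Pi.mulSingle_one, ← dgHom_apply, map_one]
      rw [this, map_one]
    · intro A B hA hB PA PB C hC
      have hC' : C = Matrix.GeneralLinearGroup.mkOfDetNeZero A hA *
          Matrix.GeneralLinearGroup.mkOfDetNeZero B hB := by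
        apply Units.ext
        rw [hC]
        rfl
      rw [hC', map_mul, map_mul, PA (Matrix.GeneralLinearGroup.mkOfDetNeZero A hA) rfl,
        PB (Matrix.GeneralLinearGroup.mkOfDetNeZero B hB) rfl, ← map_mul, ← dgHom_apply, ← dgHom_apply,
        ← dgHom_apply, ← map_mul]
      congr 2
      exact (map_mul (MonoidHom.mulSingle (fun _ : Fin m => Fˣ) i0) _ _).symm
  have hdet : (A : Matrix (Fin m) (Fin m) F).det ≠ 0 := by
    rw [← Matrix.GeneralLinearGroup.val_det_apply]
    exact (Matrix.GeneralLinearGroup.det A).ne_zero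
  exact key _ hdet A rfl

omit [DecidableEq F] in
theorem Psi_single_eq_one_iff (h2 : (2 : F) ≠ 0) (i0 : Fin m) (u : Fˣ) :
    (Psi (dg (Pi.mulSingle i0 u)) : Abelianization ↥(Cfsg.isometryGroup F ⇑(stdPlus F m))) = 1 ↔
      IsSquare (u : F) := by
  have hmem : (Psi (dg (Pi.mulSingle i0 u)) :
      Abelianization ↥(Cfsg.isometryGroup F ⇑(stdPlus F m))) = 1 ↔
      levS (dg (Pi.mulSingle i0 u)) ∈ Cfsg.Omega F ⇑(stdPlus F m) := by
    unfold Psi
    rw [MonoidHom.comp_apply, ← MonoidHom.mem_ker, Abelianization.ker_of]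
  rw [hmem, mem_Omega_iff_of_list_all (stdPlus F m) h2 (stdPlus_nondegenerate F m) _
    [wv i0 1, wv i0 (u : F)]
    (by
      intro v hv
      simp only [List.mem_cons, List.not_mem_nil, or_false] at hv
      rcases hv with rfl | rfl
      · exact Q_wv_one_ne i0
      · exact Q_wv_ne i0 u)
    (by
      rw [levS_pair]
      simp only [List.map_cons, List.map_nil, List.prod_cons, List.prod_nil, mul_one]
      rw [Subgroup.coe_mul, Units.val_mul, reflIso_coe, reflIso_coe])]
  simp only [List.length_cons, List.length_nil, List.map_cons, List.map_nil, List.prod_cons,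
    List.prod_nil, mul_one, Q_wv]
  constructor
  · rintro ⟨_, hs⟩
    simpa using hs
  · intro hs
    refine ⟨⟨1, rfl⟩, ?_⟩
    simpa using hs

theorem lev_mem_iff_odd (h2 : (2 : F) ≠ 0) (hm : 1 ≤ m) (A : GL (Fin m) F) :
    lev A ∈ Cfsg.Omega F (Cfsg.quadFormPlus m F) ↔
      IsSquare (A : Matrix (Fin m) (Fin m) F).det := by
  have hmem : lev A ∈ Cfsg.Omega F (Cfsg.quadFormPlus m F) ↔
      (Psi A : Abelianization ↥(Cfsg.isometryGroup F ⇑(stdPlus F m))) = 1 := by
    unfold Psi
    rw [MonoidHom.comp_apply, ← MonoidHom.mem_ker, Abelianization.ker_of]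
    rfl
  rw [hmem, Psi_eq h2 ⟨0, hm⟩ A, Psi_single_eq_one_iff h2, Matrix.GeneralLinearGroup.val_det_apply]

end Odd

/-- For the hyperbolic quadratic form Σ x_i y_i on F^(2m) (F finite, m ≥ 1, excluding m = 2 over the field of two elements) and an invertible m × m matrix A, the block-diagonal isometry diag(A, (A⁻¹)ᵀ), which stabilises the two maximal totally singular subspaces x = 0 and y = 0, lies in Ω⁺_2m(F) (the commutator subgroup of the orthogonal group) if and only if det A is a square in F. -/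
theorem result {F : Type*} [Field F] [Fintype F] {m : ℕ} (hm : 1 ≤ m) (h : Fintype.card F ≠ 2 ∨ m ≠ 2) (A : GL (Fin m) F) : (∃ g : ↥(Cfsg.isometryGroup F (Cfsg.quadFormPlus m F)), g ∈ Cfsg.Omega F (Cfsg.quadFormPlus m F) ∧ ((g : Matrix.GeneralLinearGroup (Fin m ⊕ Fin m) F) : Matrix (Fin m ⊕ Fin m) (Fin m ⊕ Fin m) F) = Matrix.fromBlocks (A : Matrix (Fin m) (Fin m) F) 0 0 ((A : Matrix (Fin m) (Fin m) F)⁻¹).transpose) ↔ IsSquare (A : Matrix (Fin m) (Fin m) F).det := by
  classical
  rw [exists_iff_lev_mem]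
  by_cases h2 : (2 : F) = 0
  · have : CharP F 2 := CharTwo.of_one_ne_zero_of_two_eq_zero one_ne_zero h2
    have hsq : IsSquare (A : Matrix (Fin m) (Fin m) F).det :=
      FiniteField.isSquare_of_char_two (ringChar.eq F 2) _
    have hmem : lev A ∈ Cfsg.Omega F (Cfsg.quadFormPlus m F) := by
      rw [Cfsg.Agent.S2630.mem_Omega_iff_dnat hm h (lev A), dnat_lev]
      exact Even.zero
    exact ⟨fun _ => hsq, fun _ => hmem⟩
  · exact lev_mem_iff_odd h2 hm A

end Cfsg.Agent.S2611
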