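import Cfsg.Statements.S2437
import Cfsg.Agent.Lib.Helper40.SL2

set_option autoImplicit false
open Cfsg

namespace Cfsg.Agent.S2437

open Cfsg.Agent.Helper40

theorem card_conjClasses_of_invariant {G T : Type*} [Group G] (f : G → T)
    (hinv : ∀ g h : G, IsConj g h → f g = f h) (hcomplete : ∀ g h : G, f g = f h → IsConj g h)
    (hsurj : Function.Surjective f) : Nat.card (ConjClasses G) = Nat.card T := by
  let F' : ConjClasses G → T := Quotient.lift f (fun a b hab => hinv a b hab)
  apply Nat.card_congr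
  apply Equiv.ofBijective F'
  constructor
  · intro x y
    induction x using ConjClasses.forall_isConj.mpr with
    | _ a =>
    induction y using ConjClasses.forall_isConj.mpr with
    | _ b =>
    intro h
    exact ConjClasses.mk_eq_mk_iff_isConj.mpr (hcomplete a b h)
  · intro t
    obtain ⟨g, hg⟩ := hsurj t
    exact ⟨ConjClasses.mk g, hg⟩

variable {F : Type*} [Field F]

theorem borel_10 (g : borel F) : ((g : Matrix.SpecialLinearGroup (Fin 2) F) : Matrix (Fin 2) (Fin 2) F) 1 0 = 0 :=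
  (mem_borel _).mp g.2

theorem borel_00_ne (g : borel F) : ((g : Matrix.SpecialLinearGroup (Fin 2) F) : Matrix (Fin 2) (Fin 2) F) 0 0 ≠ 0 :=
  g00_ne_zero_of_g10 _ (borel_10 g)

theorem borel_11 (g : borel F) : ((g : Matrix.SpecialLinearGroup (Fin 2) F) : Matrix (Fin 2) (Fin 2) F) 1 1
    = (((g : Matrix.SpecialLinearGroup (Fin 2) F) : Matrix (Fin 2) (Fin 2) F) 0 0)⁻¹ :=
  g11_eq_inv_of_g10 _ (borel_10 g)

theorem borel_ext {g h : borel F}
    (h00 : ((g : Matrix.SpecialLinearGroup (Fin 2) F) : Matrix (Fin 2) (Fin 2) F) 0 0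
      = ((h : Matrix.SpecialLinearGroup (Fin 2) F) : Matrix (Fin 2) (Fin 2) F) 0 0)
    (h01 : ((g : Matrix.SpecialLinearGroup (Fin 2) F) : Matrix (Fin 2) (Fin 2) F) 0 1
      = ((h : Matrix.SpecialLinearGroup (Fin 2) F) : Matrix (Fin 2) (Fin 2) F) 0 1) : g = h := by
  apply Subtype.ext
  apply ext2 h00 h01
  · rw [borel_10, borel_10]
  · rw [borel_11, borel_11, h00]

/-- constructor for upper triangular elements -/
def mkB (a : F) (ha : a ≠ 0) (b : F) : borel F :=
  ⟨mk2 a b 0 a⁻¹ (by simp [ha]), (mem_borel _).mpr (by simp)⟩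

@[simp] theorem mkB_00 (a : F) (ha : a ≠ 0) (b : F) :
    ((mkB a ha b : Matrix.SpecialLinearGroup (Fin 2) F) : Matrix (Fin 2) (Fin 2) F) 0 0 = a := rfl
@[simp] theorem mkB_01 (a : F) (ha : a ≠ 0) (b : F) :
    ((mkB a ha b : Matrix.SpecialLinearGroup (Fin 2) F) : Matrix (Fin 2) (Fin 2) F) 0 1 = b := rfl

theorem conjB_00 (x g : borel F) :
    ((x * g * x⁻¹ : borel F) : Matrix.SpecialLinearGroup (Fin 2) F).1 0 0
      = ((g : Matrix.SpecialLinearGroup (Fin 2) F) : Matrix (Fin 2) (Fin 2) F) 0 0 := by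
  have hx := det2 (x : Matrix.SpecialLinearGroup (Fin 2) F)
  have hx10 := borel_10 x
  have hg10 := borel_10 g
  simp only [Subgroup.coe_mul, Subgroup.coe_inv]
  rw [mul_00, mul_00, mul_01, inv_00, inv_10, hx10, hg10]
  rw [hx10] at hx
  linear_combination (((g : Matrix.SpecialLinearGroup (Fin 2) F) : Matrix (Fin 2) (Fin 2) F) 0 0) * hx

theorem conjB_01 (x g : borel F) :
    ((x * g * x⁻¹ : borel F) : Matrix.SpecialLinearGroup (Fin 2) F).1 0 1
      = ((x : Matrix.SpecialLinearGroup (Fin 2) F) : Matrix (Fin 2) (Fin 2) F) 0 0 ^ 2 *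
          ((g : Matrix.SpecialLinearGroup (Fin 2) F) : Matrix (Fin 2) (Fin 2) F) 0 1
        + ((x : Matrix.SpecialLinearGroup (Fin 2) F) : Matrix (Fin 2) (Fin 2) F) 0 0 *
          ((x : Matrix.SpecialLinearGroup (Fin 2) F) : Matrix (Fin 2) (Fin 2) F) 0 1 *
          (((g : Matrix.SpecialLinearGroup (Fin 2) F) : Matrix (Fin 2) (Fin 2) F) 1 1
            - ((g : Matrix.SpecialLinearGroup (Fin 2) F) : Matrix (Fin 2) (Fin 2) F) 0 0) := by
  have hx10 := borel_10 x
  have hg10 := borel_10 g
  simp only [Subgroup.coe_mul, Subgroup.coe_inv]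
  rw [mul_01, mul_00, mul_01, inv_01, inv_11, hg10]
  ring

/-- the target type of the complete invariant -/
abbrev Tgt (F : Type*) [Field F] := {a : Fˣ // (a : F) ^ 2 ≠ 1} ⊕ (Bool × SignType)

variable [Fintype F] [DecidableEq F]

/-- the complete invariant -/
noncomputable def inv (g : borel F) : Tgt F :=
  if h : ((g : Matrix.SpecialLinearGroup (Fin 2) F) : Matrix (Fin 2) (Fin 2) F) 0 0 ^ 2 ≠ 1 then
    Sum.inl ⟨Units.mk0 _ (borel_00_ne g), h⟩
  else
    Sum.inr (decide (((g : Matrix.SpecialLinearGroup (Fin 2) F) : Matrix (Fin 2) (Fin 2) F) 0 0 = 1),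
      SignType.sign (quadraticChar F (((g : Matrix.SpecialLinearGroup (Fin 2) F) : Matrix (Fin 2) (Fin 2) F) 0 1)))

theorem inv_of_ne (g : borel F)
    (h : ((g : Matrix.SpecialLinearGroup (Fin 2) F) : Matrix (Fin 2) (Fin 2) F) 0 0 ^ 2 ≠ 1) :
    inv g = Sum.inl ⟨Units.mk0 _ (borel_00_ne g), h⟩ := by
  unfold inv; rw [dif_pos h]

theorem inv_of_eq (g : borel F)
    (h : ((g : Matrix.SpecialLinearGroup (Fin 2) F) : Matrix (Fin 2) (Fin 2) F) 0 0 ^ 2 = 1) :
    inv g = Sum.inr (decide (((g : Matrix.SpecialLinearGroup (Fin 2) F) : Matrix (Fin 2) (Fin 2) F) 0 0 = 1),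
      SignType.sign (quadraticChar F (((g : Matrix.SpecialLinearGroup (Fin 2) F) : Matrix (Fin 2) (Fin 2) F) 0 1))) := by
  unfold inv; rw [dif_neg (not_not.mpr h)]

theorem inv_eq_of_entries (g h : borel F)
    (h00 : ((g : Matrix.SpecialLinearGroup (Fin 2) F) : Matrix (Fin 2) (Fin 2) F) 0 0
      = ((h : Matrix.SpecialLinearGroup (Fin 2) F) : Matrix (Fin 2) (Fin 2) F) 0 0)
    (h01 : ((g : Matrix.SpecialLinearGroup (Fin 2) F) : Matrix (Fin 2) (Fin 2) F) 0 0 ^ 2 = 1 →
      SignType.sign (quadraticChar F (((g : Matrix.SpecialLinearGroup (Fin 2) F) : Matrix (Fin 2) (Fin 2) F) 0 1))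
      = SignType.sign (quadraticChar F (((h : Matrix.SpecialLinearGroup (Fin 2) F) : Matrix (Fin 2) (Fin 2) F) 0 1))) :
    inv g = inv h := by
  by_cases hsq : ((g : Matrix.SpecialLinearGroup (Fin 2) F) : Matrix (Fin 2) (Fin 2) F) 0 0 ^ 2 = 1
  · rw [inv_of_eq g hsq, inv_of_eq h (h00 ▸ hsq), h01 hsq]
    simp only [h00]
  · rw [inv_of_ne g hsq, inv_of_ne h (h00 ▸ hsq)]
    simp only [h00]

theorem inv_invariant (g h : borel F) (hgh : IsConj g h) : inv g = inv h := by
  rw [isConj_iff] at hgh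
  obtain ⟨x, rfl⟩ := hgh
  apply inv_eq_of_entries
  · exact (conjB_00 x g).symm
  · intro hsq
    have h11 : ((g : Matrix.SpecialLinearGroup (Fin 2) F) : Matrix (Fin 2) (Fin 2) F) 1 1
        = ((g : Matrix.SpecialLinearGroup (Fin 2) F) : Matrix (Fin 2) (Fin 2) F) 0 0 := by
      rw [borel_11]
      have h0 := borel_00_ne g
      field_simp
      exact hsq.symm
    have := conjB_01 x g
    change ((x * g * x⁻¹ : borel F) : Matrix.SpecialLinearGroup (Fin 2) F).1 0 1 = _ at this
    rw [h11, sub_self, mul_zero, add_zero] at this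
    rw [show ((↑(x * g * x⁻¹) : Matrix.SpecialLinearGroup (Fin 2) F) : Matrix (Fin 2) (Fin 2) F) 0 1
      = ((x * g * x⁻¹ : borel F) : Matrix.SpecialLinearGroup (Fin 2) F).1 0 1 from rfl, this, map_mul,
      quadraticChar_sq_one' (borel_00_ne x), one_mul]

theorem inv_complete (hF : ringChar F ≠ 2) (g h : borel F) (hgh : inv g = inv h) : IsConj g h := by
  rw [isConj_iff]
  have h2 : (2 : F) ≠ 0 := Ring.two_ne_zero hF
  by_cases hsq : ((g : Matrix.SpecialLinearGroup (Fin 2) F) : Matrix (Fin 2) (Fin 2) F) 0 0 ^ 2 = 1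
  · -- a = ±1
    have hsq' : ((h : Matrix.SpecialLinearGroup (Fin 2) F) : Matrix (Fin 2) (Fin 2) F) 0 0 ^ 2 = 1 := by
      by_contra hne
      rw [inv_of_eq g hsq, inv_of_ne h hne] at hgh
      exact Sum.inr_ne_inl hgh
    rw [inv_of_eq g hsq, inv_of_eq h hsq'] at hgh
    have hgh' := Sum.inr_injective hgh
    rw [Prod.mk.injEq] at hgh'
    obtain ⟨hd, hs⟩ := hgh'
    have h00 : ((g : Matrix.SpecialLinearGroup (Fin 2) F) : Matrix (Fin 2) (Fin 2) F) 0 0
        = ((h : Matrix.SpecialLinearGroup (Fin 2) F) : Matrix (Fin 2) (Fin 2) F) 0 0 := by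
      rw [decide_eq_decide] at hd
      rcases sq_eq_one_iff.mp hsq with h1 | h1
      · rw [h1, hd.mp h1]
      · rcases sq_eq_one_iff.mp hsq' with h1' | h1'
        · rw [hd.mpr h1'] at h1
          exfalso
          have : (2 : F) = 0 := by linear_combination h1
          exact h2 this
        · rw [h1, h1']
    have hg11 : ((g : Matrix.SpecialLinearGroup (Fin 2) F) : Matrix (Fin 2) (Fin 2) F) 1 1
        = ((g : Matrix.SpecialLinearGroup (Fin 2) F) : Matrix (Fin 2) (Fin 2) F) 0 0 := by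
      rw [borel_11]
      have h0 := borel_00_ne g
      field_simp
      exact hsq.symm
    -- find t with t^2 * g01 = h01
    obtain ⟨t, ht0, ht⟩ : ∃ t : F, t ≠ 0 ∧ t ^ 2 * ((g : Matrix.SpecialLinearGroup (Fin 2) F) : Matrix (Fin 2) (Fin 2) F) 0 1
        = ((h : Matrix.SpecialLinearGroup (Fin 2) F) : Matrix (Fin 2) (Fin 2) F) 0 1 := by
      by_cases hg0 : ((g : Matrix.SpecialLinearGroup (Fin 2) F) : Matrix (Fin 2) (Fin 2) F) 0 1 = 0
      · refine ⟨1, one_ne_zero, ?_⟩
        rw [hg0, quadraticChar_zero, sign_zero, eq_comm, sign_eq_zero_iff, quadraticChar_eq_zero_iff] at hs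
        rw [hg0, hs, mul_zero]
      · have hh0 : ((h : Matrix.SpecialLinearGroup (Fin 2) F) : Matrix (Fin 2) (Fin 2) F) 0 1 ≠ 0 := by
          intro hh0
          rw [hh0, quadraticChar_zero, sign_zero, sign_eq_zero_iff, quadraticChar_eq_zero_iff] at hs
          exact hg0 hs
        have hq : quadraticChar F (((h : Matrix.SpecialLinearGroup (Fin 2) F) : Matrix (Fin 2) (Fin 2) F) 0 1 /
            ((g : Matrix.SpecialLinearGroup (Fin 2) F) : Matrix (Fin 2) (Fin 2) F) 0 1) = 1 := by
          rw [div_eq_mul_inv, map_mul]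
          have hinv : quadraticChar F (((g : Matrix.SpecialLinearGroup (Fin 2) F) : Matrix (Fin 2) (Fin 2) F) 0 1)⁻¹
              = quadraticChar F (((g : Matrix.SpecialLinearGroup (Fin 2) F) : Matrix (Fin 2) (Fin 2) F) 0 1) := by
            rcases quadraticChar_dichotomy hg0 with h1 | h1
            · have : quadraticChar F ((((g : Matrix.SpecialLinearGroup (Fin 2) F) : Matrix (Fin 2) (Fin 2) F) 0 1)⁻¹ *
                  ((g : Matrix.SpecialLinearGroup (Fin 2) F) : Matrix (Fin 2) (Fin 2) F) 0 1) = 1 := by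
                rw [inv_mul_cancel₀ hg0, map_one]
              rw [map_mul, h1, mul_one] at this
              rw [this, h1]
            · have : quadraticChar F ((((g : Matrix.SpecialLinearGroup (Fin 2) F) : Matrix (Fin 2) (Fin 2) F) 0 1)⁻¹ *
                  ((g : Matrix.SpecialLinearGroup (Fin 2) F) : Matrix (Fin 2) (Fin 2) F) 0 1) = 1 := by
                rw [inv_mul_cancel₀ hg0, map_one]
              rw [map_mul, h1] at this
              rw [h1]; linarith
          rw [hinv]
          rcases quadraticChar_dichotomy hg0 with h1 | h1 <;> rcases quadraticChar_dichotomy hh0 with h1' | h1'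
          · rw [h1, h1']; rfl
          · rw [h1, h1'] at hs; exact absurd hs (by decide)
          · rw [h1, h1'] at hs; exact absurd hs (by decide)
          · rw [h1, h1']; rfl
        have hne : ((h : Matrix.SpecialLinearGroup (Fin 2) F) : Matrix (Fin 2) (Fin 2) F) 0 1 /
            ((g : Matrix.SpecialLinearGroup (Fin 2) F) : Matrix (Fin 2) (Fin 2) F) 0 1 ≠ 0 := div_ne_zero hh0 hg0
        obtain ⟨t, ht⟩ := (quadraticChar_one_iff_isSquare hne).mp hq
        have ht0 : t ≠ 0 := by
          rintro rfl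
          rw [mul_zero] at ht
          exact hne ht
        refine ⟨t, ht0, ?_⟩
        rw [sq, ← ht]
        field_simp
    refine ⟨mkB t ht0 0, ?_⟩
    apply borel_ext
    · rw [conjB_00, h00]
    · rw [conjB_01, hg11, sub_self, mul_zero, add_zero, mkB_00, ht]
  · -- a^2 ≠ 1
    have hsq' : ((h : Matrix.SpecialLinearGroup (Fin 2) F) : Matrix (Fin 2) (Fin 2) F) 0 0 ^ 2 ≠ 1 := by
      intro hne
      rw [inv_of_ne g hsq, inv_of_eq h hne] at hgh
      exact Sum.inl_ne_inr hgh
    rw [inv_of_ne g hsq, inv_of_ne h hsq'] at hgh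
    have hgh' := Sum.inl_injective hgh
    have h00 : ((g : Matrix.SpecialLinearGroup (Fin 2) F) : Matrix (Fin 2) (Fin 2) F) 0 0
        = ((h : Matrix.SpecialLinearGroup (Fin 2) F) : Matrix (Fin 2) (Fin 2) F) 0 0 := by
      have := congrArg (fun z : {a : Fˣ // (a : F) ^ 2 ≠ 1} => ((z : Fˣ) : F)) hgh'
      simpa using this
    have hne : ((g : Matrix.SpecialLinearGroup (Fin 2) F) : Matrix (Fin 2) (Fin 2) F) 1 1
        - ((g : Matrix.SpecialLinearGroup (Fin 2) F) : Matrix (Fin 2) (Fin 2) F) 0 0 ≠ 0 := by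
      rw [borel_11]
      have h0 := borel_00_ne g
      intro hh
      apply hsq
      have hinv := sub_eq_zero.mp hh
      rw [sq]
      nth_rewrite 1 [← hinv]
      exact inv_mul_cancel₀ h0
    refine ⟨mkB 1 one_ne_zero ((((h : Matrix.SpecialLinearGroup (Fin 2) F) : Matrix (Fin 2) (Fin 2) F) 0 1
      - ((g : Matrix.SpecialLinearGroup (Fin 2) F) : Matrix (Fin 2) (Fin 2) F) 0 1) /
      (((g : Matrix.SpecialLinearGroup (Fin 2) F) : Matrix (Fin 2) (Fin 2) F) 1 1
        - ((g : Matrix.SpecialLinearGroup (Fin 2) F) : Matrix (Fin 2) (Fin 2) F) 0 0)), ?_⟩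
    apply borel_ext
    · rw [conjB_00, h00]
    · rw [conjB_01, mkB_00, mkB_01]
      field_simp
      ring

theorem inv_surjective (hF : ringChar F ≠ 2) : Function.Surjective (inv (F := F)) := by
  have h2 : (2 : F) ≠ 0 := Ring.two_ne_zero hF
  rintro (⟨a, ha⟩ | ⟨ε, s⟩)
  · refine ⟨mkB (a : F) a.ne_zero 0, ?_⟩
    rw [inv_of_ne _ (by simpa using ha)]
    congr 1
    apply Subtype.ext
    apply Units.ext
    simp
  · obtain ⟨n, hn⟩ := quadraticChar_exists_neg_one hF
    have hsq : ∀ (e : F) (he : e ≠ 0) (b : F), e ^ 2 = 1 →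
        inv (mkB e he b) = Sum.inr (decide (e = 1), SignType.sign (quadraticChar F b)) := by
      intro e he b hsq
      rw [inv_of_eq _ (by simpa using hsq)]
      rfl
    have hb : ∃ b : F, SignType.sign (quadraticChar F b) = s := by
      cases s
      · exact ⟨0, by simp⟩
      · exact ⟨n, by rw [hn]; rfl⟩
      · exact ⟨1, by simp⟩
    obtain ⟨b, hb⟩ := hb
    cases ε
    · refine ⟨mkB (-1) (by simp) b, ?_⟩
      rw [hsq _ _ _ (by ring), hb]
      congr 2
      rw [decide_eq_false_iff_not]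
      intro h
      apply h2
      linear_combination -h
    · refine ⟨mkB 1 one_ne_zero b, ?_⟩
      rw [hsq _ _ _ (by ring), hb]
      simp

theorem card_Tgt (hF : ringChar F ≠ 2) (h3 : 3 ≤ Fintype.card F) : Nat.card (Tgt F) = Fintype.card F + 3 := by
  have h2 : (2 : F) ≠ 0 := Ring.two_ne_zero hF
  have hc : Nat.card {a : Fˣ // (a : F) ^ 2 ≠ 1} = Fintype.card F - 3 := by
    rw [Nat.card_eq_fintype_card, Fintype.card_subtype_compl, Fintype.card_units]
    have : Fintype.card {a : Fˣ // (a : F) ^ 2 = 1} = 2 := by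
      rw [Fintype.card_subtype]
      have : (Finset.univ.filter fun a : Fˣ => (a : F) ^ 2 = 1) = {1, -1} := by
        ext a
        simp only [Finset.mem_filter, Finset.mem_univ, true_and, Finset.mem_insert, Finset.mem_singleton]
        rw [sq_eq_one_iff]
        constructor
        · rintro (h | h)
          · left; exact Units.ext h
          · right; exact Units.ext (by simpa using h)
        · rintro (h | h)
          · left; rw [h]; rfl
          · right; rw [h]; simp
      rw [this, Finset.card_pair]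
      intro h
      have := congrArg (fun u : Fˣ => (u : F)) h
      simp only [Units.val_one, Units.val_neg] at this
      apply h2
      linear_combination this
    rw [this]
    omega
  rw [Nat.card_sum, Nat.card_prod, hc]
  have hS : Fintype.card SignType = 3 := by decide
  simp only [Nat.card_eq_fintype_card, Fintype.card_bool, hS]
  omega

theorem result {F : Type*} [Field F] [Fintype F] (hodd : Odd (Fintype.card F)) :
    Nat.card (ConjClasses ((Cfsg.upperTriangularGL 2 F).comap Matrix.SpecialLinearGroup.toGL)) = Fintype.card F + 3 := by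
  classical
  have hF : ringChar F ≠ 2 := by
    intro h
    have := FiniteField.even_card_of_char_two h
    rcases hodd with ⟨k, hk⟩
    omega
  have h3 : 3 ≤ Fintype.card F := by
    have h1 : 1 < Fintype.card F := Fintype.one_lt_card
    rcases hodd with ⟨k, hk⟩
    omega
  rw [card_conjClasses_of_invariant (inv (F := F)) inv_invariant (inv_complete hF) (inv_surjective hF)]
  exact card_Tgt hF h3

end Cfsg.Agent.S2437
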