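import Cfsg.Statements.S0992
import Mathlib
import Cfsg.Agent.Lib.Helper17.Burnside

set_option autoImplicit false
open Cfsg

namespace Cfsg.Agent.S0992

open Cfsg.Agent.Helper17

/-- The automorphism group of a group with `4` elements embeds into the symmetric group on its `3` nonidentity
elements. -/
theorem card_mulAut_dvd_six {T : Type*} [Group T] [Finite T] (hT : Nat.card T = 4) :
    Nat.card (MulAut T) ∣ 6 := by
  classical
  have := Fintype.ofFinite T
  let act : MulAction (MulAut T) {t : T // t ≠ 1} :=
    { smul := fun f t => ⟨f t.1, fun h => t.2 (by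
        have : f t.1 = f 1 := by rw [h, map_one]
        exact f.injective this)⟩
      one_smul := fun t => Subtype.ext rfl
      mul_smul := fun f g t => Subtype.ext rfl }
  let φ : MulAut T →* Equiv.Perm {t : T // t ≠ 1} := MulAction.toPermHom (MulAut T) {t : T // t ≠ 1}
  have hφ : Function.Injective φ := by
    intro f g hfg
    ext t
    by_cases ht : t = 1
    · rw [ht, map_one, map_one]
    · have := congrArg (fun σ : Equiv.Perm {t : T // t ≠ 1} => (σ ⟨t, ht⟩).1) hfg
      exact this
  have h1 := Subgroup.card_dvd_of_injective φ hφ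
  have h2 : Nat.card (Equiv.Perm {t : T // t ≠ 1}) = 6 := by
    rw [Nat.card_eq_fintype_card, Fintype.card_perm]
    have : Fintype.card {t : T // t ≠ 1} = 3 := by
      rw [Fintype.card_subtype_compl, Fintype.card_subtype_eq, ← Nat.card_eq_fintype_card, hT]
    rw [this]; rfl
  rwa [h2] at h1

/-- Let G be a non-abelian finite simple group of even order not divisible by 8, and T a Sylow 2-subgroup. Then T is a Klein four-group and the centralizer of T has index 3 in the normalizer of T. -/
theorem result {G : Type*} [Group G] [Finite G] [IsSimpleGroup G] (hG : ¬ IsMulCommutative G) (h2 : Even (Nat.card G)) (h8 : ¬ 8 ∣ Nat.card G) (T : Sylow 2 G) : IsKleinFour ↥(T : Subgroup G) ∧ (Subgroup.centralizer ((T : Subgroup G) : Set G)).relIndex (Subgroup.normalizer ((T : Subgroup G) : Set G)) = 3 := by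
  classical
  have hp2 : Nat.Prime 2 := Nat.prime_two
  -- order of T
  obtain ⟨k, hk⟩ := IsPGroup.iff_card.1 T.2
  have hTdvd : Nat.card (T : Subgroup G) ∣ Nat.card G := Subgroup.card_subgroup_dvd_card _
  have hk2 : k ≤ 2 := by
    by_contra hcon
    have h3 : 3 ≤ k := by omega
    apply h8
    have : (2 : ℕ) ^ 3 ∣ 2 ^ k := pow_dvd_pow 2 h3
    exact (this.trans (hk ▸ hTdvd))
  have hk1 : 1 ≤ k := by
    by_contra hcon
    have hk0 : k = 0 := by omega
    have h2dvd : 2 ∣ Nat.card G := h2.two_dvd
    have hidx := T.not_dvd_index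
    have hmul := (T : Subgroup G).card_mul_index
    rw [hk, hk0, pow_zero, one_mul] at hmul
    rw [hmul] at hidx
    exact hidx h2dvd
  -- T is commutative
  have hTcomm : IsMulCommutative ↥(T : Subgroup G) := by
    rcases (show k = 1 ∨ k = 2 by omega) with h | h
    · rw [h, pow_one] at hk
      have : Fact (Nat.Prime 2) := ⟨hp2⟩
      have : IsCyclic ↥(T : Subgroup G) := isCyclic_of_prime_card hk
      exact ⟨⟨(IsCyclic.commGroup (α := ↥(T : Subgroup G))).mul_comm⟩⟩
    · rw [h] at hk
      exact IsPGroup.isMulCommutative_of_card_eq_prime_sq hk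
  -- T is a proper nontrivial subgroup
  have hT1 : Nat.card (T : Subgroup G) ≠ 1 := by
    rw [hk]
    exact (Nat.one_lt_pow (by omega) (by norm_num)).ne'
  have hTG : Nat.card (T : Subgroup G) ≠ Nat.card G := by
    intro h
    apply hG
    have htop : (T : Subgroup G) = ⊤ := Subgroup.eq_top_of_card_eq _ h
    have e : ↥(T : Subgroup G) ≃* G := (MulEquiv.subgroupCongr htop).trans Subgroup.topEquiv
    exact ⟨⟨fun a b => by
      have := hTcomm.is_comm.comm (e.symm a) (e.symm b)
      have h2 := congrArg e this
      simpa using h2⟩⟩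
  have hNC := not_normalizer_le_centralizer T hT1 hTG
  -- T is not cyclic
  have hminFac : (Nat.card G).minFac = 2 := by
    rw [Nat.minFac_eq_two_iff]; exact h2.two_dvd
  have hncyc : ¬ IsCyclic ↥(T : Subgroup G) := fun hc =>
    hNC (IsCyclic.normalizer_le_centralizer hminFac hc)
  have hk2' : k = 2 := by
    rcases (show k = 1 ∨ k = 2 by omega) with h | h
    · exfalso
      rw [h, pow_one] at hk
      have : Fact (Nat.Prime 2) := ⟨hp2⟩
      exact hncyc (isCyclic_of_prime_card hk)
    · exact h
  rw [hk2'] at hk
  have hK4 : IsKleinFour ↥(T : Subgroup G) :=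
    ⟨by rw [hk]; norm_num, (not_isCyclic_iff_exponent_eq_prime hp2 hk).1 hncyc⟩
  refine ⟨hK4, ?_⟩
  -- the index of the centralizer in the normalizer
  set N : Subgroup G := Subgroup.normalizer ((T : Subgroup G) : Set G) with hN
  set C : Subgroup G := Subgroup.centralizer ((T : Subgroup G) : Set G) with hC
  have key := Subgroup.card_dvd_of_injective _
    (QuotientGroup.kerLift_injective (T : Subgroup G).normalizerMonoidHom)
  rw [Subgroup.normalizerMonoidHom_ker, ← Subgroup.index, ← Subgroup.relIndex] at key
  have h6 : C.relIndex N ∣ 6 := key.trans (card_mulAut_dvd_six (by rw [hk]; norm_num))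
  have hTC : (T : Subgroup G) ≤ C := Subgroup.le_centralizer _
  have hTN : (T : Subgroup G) ≤ N := Subgroup.le_normalizer
  have hodd : ¬ 2 ∣ C.relIndex N := by
    intro h
    have h1 : C.relIndex N ∣ (T : Subgroup G).relIndex N := Subgroup.relIndex_dvd_of_le_left _ hTC
    have h3 : (T : Subgroup G).relIndex N ∣ (T : Subgroup G).index :=
      Subgroup.relIndex_dvd_index_of_le hTN
    exact T.not_dvd_index (h.trans (h1.trans h3))
  have hne1 : C.relIndex N ≠ 1 := by
    intro h
    rw [Subgroup.relIndex_eq_one] at h
    exact hNC h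
  have hle : C.relIndex N ≤ 6 := Nat.le_of_dvd (by norm_num) h6
  generalize C.relIndex N = n at *
  interval_cases n <;> omega

end Cfsg.Agent.S0992
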