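import Cfsg.Statements.S2420
import Cfsg.Agent.Lib.Helper40.ParCard
import Cfsg.Agent.Lib.Helper40.ParArith

set_option autoImplicit false
open scoped MatrixGroups
open Cfsg

namespace Cfsg.Agent.S2420

open Cfsg.Agent.Helper40.Par

/-- The number of partial flags of a given type: for a composition `μ` of `n` (with `n` parts, zeros allowed) and a field with `q` elements, the index of the standard parabolic subgroup `P_μ` in `GL_n(q)` times `∏_i {μ_i}` equals `{n}`, where `{r}` denotes the product over `k = 1, …, r` of the q-integers `1 + q + ⋯ + q^(k−1)`. -/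
theorem result {F : Type*} [Field F] [Fintype F] {q : ℕ} (hq : Fintype.card F = q) {n : ℕ} (μ : Fin n → ℕ) (hμ : ∑ i, μ i = n) :
    Nat.card (GL (Fin n) F ⧸ Cfsg.parabolicGL n F μ) * ∏ i : Fin n, ∏ j ∈ Finset.range (μ i), ∑ l ∈ Finset.range (j + 1), q ^ l =
      ∏ j ∈ Finset.range n, ∑ l ∈ Finset.range (j + 1), q ^ l := by
  classical
  have hq2 : 2 ≤ q := hq ▸ Fintype.one_lt_card
  have hq1 : 1 ≤ q := by omega
  have hlag : Nat.card (GL (Fin n) F) =
      Nat.card (GL (Fin n) F ⧸ Cfsg.parabolicGL n F μ) * Nat.card ↥(Cfsg.parabolicGL n F μ) :=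
    Subgroup.card_eq_card_quotient_mul_card_subgroup _
  rw [Matrix.card_GL_field, card_parabolic hμ, hq] at hlag
  have hG : ∏ j : Fin n, (q ^ n - q ^ (j : ℕ)) =
      (∏ j : Fin n, q ^ (j : ℕ) * (q - 1)) * ∏ j ∈ Finset.range n, Qn q j := by
    rw [Finset.prod_congr rfl (fun j _ => pow_sub_pow_eq q hq1 j.isLt), Finset.prod_mul_distrib]
    congr 1
    rw [Fin.prod_univ_eq_prod_range (fun j => Qn q (n - j - 1)) n,
      ← Finset.prod_range_reflect (fun j => Qn q j) n]
    apply Finset.prod_congr rfl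
    intro j _
    congr 1
    omega
  have hP : ∏ j : Fin n, (q ^ pS μ (compLabel μ j + 1) - q ^ (j : ℕ)) =
      (∏ j : Fin n, q ^ (j : ℕ) * (q - 1)) *
        ∏ t : Fin n, ∏ c ∈ Finset.range (μ t), Qn q c := by
    rw [Finset.prod_congr rfl (fun j _ => pow_sub_pow_eq q hq1 (label_spec hμ j).2.2),
      Finset.prod_mul_distrib, prod_blocks hμ q]
  rw [hG, hP] at hlag
  have hC : 0 < ∏ j : Fin n, q ^ (j : ℕ) * (q - 1) := by
    apply Finset.prod_pos
    intro j _
    exact Nat.mul_pos (Nat.pow_pos (by omega)) (by omega)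
  have hfin : (∏ j : Fin n, q ^ (j : ℕ) * (q - 1)) * ∏ j ∈ Finset.range n, Qn q j =
      (∏ j : Fin n, q ^ (j : ℕ) * (q - 1)) *
        (Nat.card (GL (Fin n) F ⧸ Cfsg.parabolicGL n F μ) *
          ∏ t : Fin n, ∏ c ∈ Finset.range (μ t), Qn q c) := by
    rw [hlag]
    ring
  exact (Nat.eq_of_mul_eq_mul_left hC hfin).symm

end Cfsg.Agent.S2420
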