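import Cfsg.Statements.S2424
import Cfsg.Agent.S2420

set_option autoImplicit false
open scoped MatrixGroups
open Cfsg

namespace Cfsg.Agent.S2424

open Cfsg.Agent.Helper40.Par Polynomial

/-- the `q`-integer `1 + q + ⋯ + q^(r-1)` -/
def qn (q r : ℕ) : ℕ := ∑ l ∈ Finset.range r, q ^ l

/-- the `q`-factorial -/
def qfac (q r : ℕ) : ℕ := ∏ j ∈ Finset.range r, qn q (j + 1)

/-- triangular numbers -/
def tri (k : ℕ) : ℕ := ∑ t ∈ Finset.range k, t

theorem qn_split (q : ℕ) {t l : ℕ} (h : t ≤ l) : qn q l = qn q t + q ^ t * qn q (l - t) := by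
  unfold qn
  have : l = t + (l - t) := by omega
  conv_lhs => rw [this]
  rw [Finset.sum_range_add, Finset.mul_sum]
  congr 1
  apply Finset.sum_congr rfl
  intro x _
  rw [pow_add]

theorem qfac_split (q : ℕ) (k l : ℕ) (h : k ≤ l) :
    qfac q l = qfac q (l - k) * ∏ t ∈ Finset.range k, qn q (l - t) := by
  induction k with
  | zero => simp
  | succ k ih =>
    rw [ih (by omega), Finset.prod_range_succ]
    have e : l - k = (l - (k + 1)) + 1 := by omega
    have : qfac q (l - k) = qfac q (l - (k + 1)) * qn q (l - k) := by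
      conv_lhs => rw [e]
      unfold qfac
      rw [Finset.prod_range_succ, ← e]
    rw [this]
    ring

/-- the monic polynomial `∏_{t<k} (X - Q(t))` -/
noncomputable def pk (q k : ℕ) : ℂ[X] := ∏ t ∈ Finset.range k, (X - C ((qn q t : ℕ) : ℂ))

theorem pk_monic (q k : ℕ) : (pk q k).Monic :=
  monic_prod_of_monic _ _ (fun _ _ => monic_X_sub_C _)

theorem pk_natDegree (q k : ℕ) : (pk q k).natDegree = k := by
  unfold pk
  rw [natDegree_prod_of_monic _ _ (fun _ _ => monic_X_sub_C _),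
    Finset.sum_congr rfl (fun _ _ => natDegree_X_sub_C _)]
  simp

theorem eval_pk_valid (q : ℕ) {k l : ℕ} (h : k ≤ l) :
    eval ((qn q l : ℕ) : ℂ) (pk q k) * ((qfac q (l - k) : ℕ) : ℂ) =
      (q : ℂ) ^ tri k * ((qfac q l : ℕ) : ℂ) := by
  unfold pk
  rw [eval_prod]
  have h1 : ∀ t ∈ Finset.range k, eval ((qn q l : ℕ) : ℂ) (X - C ((qn q t : ℕ) : ℂ)) =
      (q : ℂ) ^ t * ((qn q (l - t) : ℕ) : ℂ) := by
    intro t ht
    rw [Finset.mem_range] at ht
    rw [eval_sub, eval_X, eval_C, qn_split q (show t ≤ l by omega)]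
    push_cast
    ring
  rw [Finset.prod_congr rfl h1, Finset.prod_mul_distrib, Finset.prod_pow_eq_pow_sum,
    qfac_split q k l h]
  unfold tri
  push_cast
  ring

theorem eval_pk_invalid (q : ℕ) {k l : ℕ} (h : l < k) :
    eval ((qn q l : ℕ) : ℂ) (pk q k) = 0 := by
  unfold pk
  rw [eval_prod]
  apply Finset.prod_eq_zero (Finset.mem_range.mpr h)
  simp

theorem two_mul_tri (k : ℕ) : 2 * tri k = k * (k - 1) := by
  unfold tri
  rw [mul_comm, Finset.sum_range_id_mul_two]

theorem six_mul_sum_tri (n : ℕ) :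
    6 * ∑ k ∈ Finset.range n, tri k = n * (n - 1) * (n - 2) := by
  induction n with
  | zero => simp
  | succ n ih =>
    rw [Finset.sum_range_succ, mul_add, ih]
    have h2 := two_mul_tri n
    have : 6 * tri n = 3 * (n * (n - 1)) := by rw [← h2]; ring
    rw [this]
    rcases n with _ | n
    · simp
    rcases n with _ | n
    · simp
    have e1 : n + 1 + 1 - 1 = n + 1 := by omega
    have e2 : n + 1 + 1 - 2 = n := by omega
    have e3 : n + 1 + 1 + 1 - 2 = n + 1 := by omega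
    have e4 : n + 1 + 1 + 1 - 1 = n + 1 + 1 := by omega
    simp only [e1, e2, e3, e4]
    ring

theorem sum_tri_perm {n : ℕ} (κ : Equiv.Perm (Fin n)) :
    ∑ i : Fin n, tri (κ i).val = n * (n - 1) * (n - 2) / 6 := by
  rw [Equiv.sum_comp κ (fun i : Fin n => tri i.val), Fin.sum_univ_eq_sum_range (fun k => tri k) n]
  have := six_mul_sum_tri n
  omega

theorem fixedPointCharacter_one {G : Type*} [Group G] (H : Subgroup G) :
    Cfsg.fixedPointCharacter H 1 = (Nat.card (G ⧸ H) : ℂ) := by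
  unfold Cfsg.fixedPointCharacter
  congr 1
  have : MulAction.fixedBy (G ⧸ H) (1 : G) = Set.univ := by
    ext x
    simp
  rw [this]
  exact Nat.card_congr (Equiv.Set.univ _)

theorem sum_comp_sub {n : ℕ} (ν : Fin n → ℕ) (hsum : ∑ i, ν i = n) (κ : Equiv.Perm (Fin n))
    (hv : ∀ i : Fin n, (κ i).val ≤ ν i + i.val) :
    ∑ i : Fin n, (ν i + i.val - (κ i).val) = n := by
  have h1 : ∑ i : Fin n, (ν i + i.val - (κ i).val) + ∑ i : Fin n, (κ i).val =
      ∑ i : Fin n, (ν i + i.val) := by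
    rw [← Finset.sum_add_distrib]
    apply Finset.sum_congr rfl
    intro i _
    have := hv i
    omega
  rw [Finset.sum_add_distrib, hsum, Equiv.sum_comp κ (fun i : Fin n => i.val)] at h1
  omega

/-- Degrees of the partition-indexed irreducible characters of `GL_n(q)`: for `ν` a partition of `n` with `n` non-decreasing parts `ν_0 ≤ ⋯ ≤ ν_{n−1}` (zeros allowed; positions counted from 0) and `λ_i = ν_i + i`, write `Q(r)` for the q-integer `1 + q + ⋯ + q^(r−1)` and `Q!(r)` for `Q(1)Q(2)⋯Q(r)`; then the degree `γ(ν)` of the character satisfies `γ(ν) · q^(n(n−1)(n−2)/6) · ∏_i Q!(λ_i) = Q!(n) · ∏_{i<j} (Q(λ_j) − Q(λ_i))`. For `ν = (1,…,1)` this gives the Steinberg degree `q^(n(n−1)/2)`, for `ν = (0,…,0,n)` degree 1. -/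
theorem result {F : Type*} [Field F] [Fintype F] {q : ℕ} (hq : Fintype.card F = q) {n : ℕ} (ν : Fin n → ℕ) (hmono : Monotone ν) (hsum : ∑ i, ν i = n) :
    Cfsg.unipotentCharacterGL n F ν 1 * (q : ℂ) ^ (n * (n - 1) * (n - 2) / 6) *
        ∏ i : Fin n, ∏ j ∈ Finset.range (ν i + i.val), ((∑ l ∈ Finset.range (j + 1), q ^ l : ℕ) : ℂ) =
      (∏ j ∈ Finset.range n, ((∑ l ∈ Finset.range (j + 1), q ^ l : ℕ) : ℂ)) *
        ∏ i : Fin n, ∏ j ∈ Finset.univ.filter (fun j : Fin n => i < j),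
          (((∑ l ∈ Finset.range (ν j + j.val), q ^ l : ℕ) : ℂ) - ((∑ l ∈ Finset.range (ν i + i.val), q ^ l : ℕ) : ℂ)) := by
  classical
  have hq2 : 2 ≤ q := hq ▸ Fintype.one_lt_card
  -- notation
  set x : Fin n → ℂ := fun i => ((qn q (ν i + i.val) : ℕ) : ℂ) with hx
  have hL : ∏ i : Fin n, ∏ j ∈ Finset.range (ν i + i.val),
      ((∑ l ∈ Finset.range (j + 1), q ^ l : ℕ) : ℂ) =
      ∏ i : Fin n, ((qfac q (ν i + i.val) : ℕ) : ℂ) := by
    apply Finset.prod_congr rfl
    intro i _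
    unfold qfac qn
    push_cast
    rfl
  have hN : (∏ j ∈ Finset.range n, ((∑ l ∈ Finset.range (j + 1), q ^ l : ℕ) : ℂ)) =
      ((qfac q n : ℕ) : ℂ) := by
    unfold qfac qn
    push_cast
    rfl
  have hV : ∏ i : Fin n, ∏ j ∈ Finset.univ.filter (fun j : Fin n => i < j),
      (((∑ l ∈ Finset.range (ν j + j.val), q ^ l : ℕ) : ℂ) -
        ((∑ l ∈ Finset.range (ν i + i.val), q ^ l : ℕ) : ℂ)) =
      (Matrix.vandermonde x).det := by
    rw [Matrix.det_vandermonde]
    apply Finset.prod_congr rfl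
    intro i _
    have : Finset.univ.filter (fun j : Fin n => i < j) = Finset.Ioi i := by
      ext j
      simp
    rw [this]
    rfl
  rw [hL, hN, hV,
    Matrix.det_eval_matrixOfPolynomials_eq_det_vandermonde x (fun j : Fin n => pk q j.val)
      (fun j => pk_natDegree q j.val) (fun j => pk_monic q j.val),
    ← Matrix.det_transpose, Matrix.det_apply', Finset.mul_sum]
  unfold Cfsg.unipotentCharacterGL
  rw [Finset.sum_mul, Finset.sum_mul]
  apply Finset.sum_congr rfl
  intro κ _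
  simp only [Matrix.transpose_apply, Matrix.of_apply]
  by_cases hv : ∀ i : Fin n, (κ i).val ≤ ν i + i.val
  · rw [if_pos hv, fixedPointCharacter_one]
    have hμ := sum_comp_sub ν hsum κ hv
    have h2420 := Cfsg.Agent.S2420.result hq (fun i : Fin n => ν i + i.val - (κ i).val) hμ
    have h2420' : (Nat.card (GL (Fin n) F ⧸ Cfsg.parabolicGL n F
        (fun i : Fin n => ν i + i.val - (κ i).val)) : ℂ) *
        ∏ i : Fin n, ((qfac q (ν i + i.val - (κ i).val) : ℕ) : ℂ) = ((qfac q n : ℕ) : ℂ) := by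
      have := congrArg (fun m : ℕ => (m : ℂ)) h2420
      unfold qfac qn
      push_cast at this ⊢
      exact this
    have hD : ∏ i : Fin n, ((qfac q (ν i + i.val - (κ i).val) : ℕ) : ℂ) ≠ 0 := by
      apply Finset.prod_ne_zero_iff.mpr
      intro i _
      rw [Nat.cast_ne_zero]
      unfold qfac
      apply Finset.prod_ne_zero_iff.mpr
      intro j _
      unfold qn
      rw [Finset.sum_range_succ']
      simp
    have hE : (∏ i : Fin n, eval (x i) (pk q (κ i).val)) *
        ∏ i : Fin n, ((qfac q (ν i + i.val - (κ i).val) : ℕ) : ℂ) =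
        (q : ℂ) ^ (n * (n - 1) * (n - 2) / 6) * ∏ i : Fin n, ((qfac q (ν i + i.val) : ℕ) : ℂ) := by
      rw [← Finset.prod_mul_distrib,
        Finset.prod_congr rfl (fun i _ => eval_pk_valid q (hv i)), Finset.prod_mul_distrib,
        Finset.prod_pow_eq_pow_sum, sum_tri_perm κ]
    apply mul_right_cancel₀ hD
    calc ((Equiv.Perm.sign κ : ℤ) : ℂ) * (Nat.card (GL (Fin n) F ⧸ Cfsg.parabolicGL n F
          (fun i : Fin n => ν i + i.val - (κ i).val)) : ℂ) *
          (q : ℂ) ^ (n * (n - 1) * (n - 2) / 6) *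
          (∏ i : Fin n, ((qfac q (ν i + i.val) : ℕ) : ℂ)) *
          ∏ i : Fin n, ((qfac q (ν i + i.val - (κ i).val) : ℕ) : ℂ)
        = ((Equiv.Perm.sign κ : ℤ) : ℂ) * ((Nat.card (GL (Fin n) F ⧸ Cfsg.parabolicGL n F
          (fun i : Fin n => ν i + i.val - (κ i).val)) : ℂ) *
          ∏ i : Fin n, ((qfac q (ν i + i.val - (κ i).val) : ℕ) : ℂ)) *
          ((q : ℂ) ^ (n * (n - 1) * (n - 2) / 6) *
          (∏ i : Fin n, ((qfac q (ν i + i.val) : ℕ) : ℂ))) := by ring
      _ = ((Equiv.Perm.sign κ : ℤ) : ℂ) * ((qfac q n : ℕ) : ℂ) *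
          ((∏ i : Fin n, eval (x i) (pk q (κ i).val)) *
            ∏ i : Fin n, ((qfac q (ν i + i.val - (κ i).val) : ℕ) : ℂ)) := by
        rw [h2420', hE]
      _ = _ := by ring
  · rw [if_neg hv]
    push Not at hv
    obtain ⟨i, hi⟩ := hv
    have h0 : ∏ i : Fin n, eval (x i) (pk q (κ i).val) = 0 := by
      apply Finset.prod_eq_zero (Finset.mem_univ i)
      exact eval_pk_invalid q hi
    rw [h0]
    ring

end Cfsg.Agent.S2424
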