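import Cfsg.Statements.S3377

set_option autoImplicit false
open Cfsg
open scoped Pointwise

namespace Cfsg.Agent.S3377

/-- A finite list of points of a coset space closed under a generating set is everything. -/
lemma surj_of_closed {G : Type*} [Group G] (H : Subgroup G) (A : Set G)
    (hA : Subgroup.closure A = ⊤) {n : ℕ} (pts : Fin (n + 1) → G ⧸ H)
    (hclosed : ∀ a ∈ A, ∀ i, ∃ j, a • pts i = pts j) : Function.Surjective pts := by
  have hfin : (Set.range pts).Finite := Set.finite_range pts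
  have hstab : ∀ g : G, g ∈ MulAction.stabilizer G (Set.range pts) := by
    intro g
    have hle : Subgroup.closure A ≤ MulAction.stabilizer G (Set.range pts) := by
      rw [Subgroup.closure_le]
      intro a ha
      rw [SetLike.mem_coe, MulAction.mem_stabilizer_set' hfin]
      rintro _ ⟨i, rfl⟩
      obtain ⟨j, hj⟩ := hclosed a ha i
      exact ⟨j, hj.symm⟩
    rw [hA] at hle
    exact hle (Subgroup.mem_top g)
  intro q
  obtain ⟨g, hg⟩ := MulAction.exists_smul_eq G (pts 0) q
  have := hstab g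
  rw [MulAction.mem_stabilizer_iff] at this
  have hmem : g • pts 0 ∈ g • Set.range pts := Set.smul_mem_smul_set ⟨0, rfl⟩
  rw [this, hg] at hmem
  exact hmem

/-- the relators -/
abbrev rels : Set (FreeGroup (Fin 2)) :=
  {FreeGroup.of (0 : Fin 2) ^ 3, FreeGroup.of (1 : Fin 2) ^ 5,
    (FreeGroup.of (0 : Fin 2) * FreeGroup.of 1) ^ 2}

abbrev P := PresentedGroup rels

def x : P := PresentedGroup.of 0
def y : P := PresentedGroup.of 1

lemma x3 : x ^ 3 = 1 := by
  have : PresentedGroup.mk rels (FreeGroup.of (0 : Fin 2) ^ 3) = 1 :=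
    PresentedGroup.one_of_mem (by simp [rels])
  simpa [x, PresentedGroup.of] using this

lemma y5 : y ^ 5 = 1 := by
  have : PresentedGroup.mk rels (FreeGroup.of (1 : Fin 2) ^ 5) = 1 :=
    PresentedGroup.one_of_mem (by simp [rels])
  simpa [y, PresentedGroup.of] using this

lemma xy2 : (x * y) ^ 2 = 1 := by
  have : PresentedGroup.mk rels ((FreeGroup.of (0 : Fin 2) * FreeGroup.of 1) ^ 2) = 1 :=
    PresentedGroup.one_of_mem (by simp [rels])
  simpa [x, y, PresentedGroup.of] using this

abbrev X := P ⧸ Subgroup.zpowers y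

lemma smul3 {G Y : Type*} [Group G] [MulAction G Y] (g : G) (h : g ^ 3 = 1) (p : Y) :
    g • g • g • p = p := by
  have : g • g • g • p = (g ^ 3) • p := by simp [pow_succ, mul_smul]
  rw [this, h, one_smul]

lemma smul5 {G Y : Type*} [Group G] [MulAction G Y] (g : G) (h : g ^ 5 = 1) (p : Y) :
    g • g • g • g • g • p = p := by
  have : g • g • g • g • g • p = (g ^ 5) • p := by simp [pow_succ, mul_smul]
  rw [this, h, one_smul]

lemma smul22 {G Y : Type*} [Group G] [MulAction G Y] (g k : G) (h : (g * k) ^ 2 = 1) (p : Y) :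
    g • k • g • k • p = p := by
  have : g • k • g • k • p = ((g * k) ^ 2) • p := by simp [pow_succ, mul_smul]
  rw [this, h, one_smul]

lemma rx (p : X) : x • x • x • p = p := smul3 x x3 p

lemma ry (p : X) : y • y • y • y • y • p = p := smul5 y y5 p

lemma rxy (p : X) : x • y • x • y • p = p := smul22 x y xy2 p

-- points
def p0 : X := ((1 : P) : P ⧸ Subgroup.zpowers y)
def p1 : X := x • p0
def p2 : X := x • p1
def p3 : X := y • p2
def p4 : X := x • p3
def p5 : X := y • p3
def p6 : X := x • p4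
def p7 : X := x • p5
def p8 : X := y • p6
def p9 : X := y • p8
def p10 : X := x • p9
def p11 : X := x • p10

lemma e_x_0 : x • p0 = p1 := rfl
lemma e_x_1 : x • p1 = p2 := rfl
lemma e_y_2 : y • p2 = p3 := rfl
lemma e_x_3 : x • p3 = p4 := rfl
lemma e_y_3 : y • p3 = p5 := rfl
lemma e_x_4 : x • p4 = p6 := rfl
lemma e_x_5 : x • p5 = p7 := rfl
lemma e_y_6 : y • p6 = p8 := rfl
lemma e_y_8 : y • p8 = p9 := rfl
lemma e_x_9 : x • p9 = p10 := rfl
lemma e_x_10 : x • p10 = p11 := rfl

lemma e_y_0 : y • p0 = p0 := by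
  show y • ((1 : P) : P ⧸ Subgroup.zpowers y) = ((1 : P) : P ⧸ Subgroup.zpowers y)
  rw [MulAction.Quotient.smul_mk, QuotientGroup.eq]
  simp

lemma e_x_2 : x • p2 = p0 := by
  have h := rx p0
  rw [e_x_0, e_x_1] at h
  exact h

lemma e_x_6 : x • p6 = p3 := by
  have h := rx p3
  rw [e_x_3, e_x_4] at h
  exact h

lemma e_x_11 : x • p11 = p9 := by
  have h := rx p9
  rw [e_x_9, e_x_10] at h
  exact h

lemma e_y_1 : y • p1 = p2 := by
  have h := rxy p0
  rw [e_y_0, e_x_0] at h
  have h0 := smul_left_cancel x (h.trans e_x_2.symm)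
  exact h0

lemma e_y_4 : y • p4 = p1 := by
  have h := rxy p2
  rw [e_y_2, e_x_3] at h
  have h0 := smul_left_cancel x (h.trans e_x_1.symm)
  exact h0

lemma e_y_7 : y • p7 = p6 := by
  have h := rxy p3
  rw [e_y_3, e_x_5] at h
  have h0 := smul_left_cancel x (h.trans e_x_6.symm)
  exact h0

lemma e_y_5 : y • p5 = p4 := by
  have h := ry p1
  rw [e_y_1, e_y_2, e_y_3] at h
  have h0 := smul_left_cancel y (h.trans e_y_4.symm)
  exact h0

lemma e_x_8 : x • p8 = p5 := by
  have h := rxy p5
  rw [e_y_5, e_x_4, e_y_6] at h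
  exact h

lemma e_x_7 : x • p7 = p8 := by
  have h := rx p5
  rw [e_x_5] at h
  have h0 := smul_left_cancel x (h.trans e_x_8.symm)
  exact h0

lemma e_y_10 : y • p10 = p7 := by
  have h := rxy p8
  rw [e_y_8, e_x_9] at h
  have h0 := smul_left_cancel x (h.trans e_x_7.symm)
  exact h0

lemma e_y_9 : y • p9 = p10 := by
  have h := ry p6
  rw [e_y_6, e_y_8] at h
  have h0 := smul_left_cancel y (h.trans e_y_7.symm)
  have h1 := smul_left_cancel y (h0.trans e_y_10.symm)
  exact h1

lemma e_y_11 : y • p11 = p11 := by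
  have h := rxy p9
  rw [e_y_9, e_x_10] at h
  have h0 := smul_left_cancel x (h.trans e_x_11.symm)
  exact h0

def tx : Fin 12 → Fin 12 := ![1, 2, 0, 4, 6, 7, 3, 8, 5, 10, 11, 9]
def ty : Fin 12 → Fin 12 := ![0, 2, 3, 5, 1, 4, 8, 6, 9, 10, 7, 11]
def pts : Fin 12 → X := ![p0, p1, p2, p3, p4, p5, p6, p7, p8, p9, p10, p11]
lemma closed_x : ∀ i, x • pts i = pts (tx i) := by
  intro i
  fin_cases i
  exacts [e_x_0, e_x_1, e_x_2, e_x_3, e_x_4, e_x_5, e_x_6, e_x_7, e_x_8, e_x_9, e_x_10, e_x_11]
lemma closed_y : ∀ i, y • pts i = pts (ty i) := by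
  intro i
  fin_cases i
  exacts [e_y_0, e_y_1, e_y_2, e_y_3, e_y_4, e_y_5, e_y_6, e_y_7, e_y_8, e_y_9, e_y_10, e_y_11]

lemma closure_xy : Subgroup.closure ({x, y} : Set P) = ⊤ := by
  have h := PresentedGroup.closure_range_of rels
  have hr : Set.range (PresentedGroup.of : Fin 2 → P) = {x, y} := by
    ext g
    simp only [Set.mem_range, Set.mem_insert_iff, Set.mem_singleton_iff]
    constructor
    · rintro ⟨i, rfl⟩
      fin_cases i
      · left; rfl
      · right; rfl
    · rintro (rfl | rfl)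
      · exact ⟨0, rfl⟩
      · exact ⟨1, rfl⟩
  rw [hr] at h
  exact h

lemma pts_surj : Function.Surjective pts := by
  apply surj_of_closed (Subgroup.zpowers y) {x, y} closure_xy pts
  intro a ha i
  rcases ha with rfl | rfl
  · exact ⟨tx i, closed_x i⟩
  · exact ⟨ty i, closed_y i⟩

lemma finite_and_card : Finite P ∧ Nat.card P ≤ 60 := by
  have hX : Finite X := Finite.of_surjective pts pts_surj
  have hXc : Nat.card X ≤ 12 := by
    have := Nat.card_le_card_of_surjective pts pts_surj
    simpa using this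
  have hyo : orderOf y ∣ 5 := orderOf_dvd_of_pow_eq_one y5
  have hyo' : orderOf y ≤ 5 := Nat.le_of_dvd (by norm_num) hyo
  have hyo0 : orderOf y ≠ 0 := fun h => by rw [h] at hyo; omega
  have hHc : Nat.card (Subgroup.zpowers y) = orderOf y := Nat.card_zpowers y
  have hcard : Nat.card P = Nat.card X * Nat.card (Subgroup.zpowers y) :=
    Subgroup.card_eq_card_quotient_mul_card_subgroup (Subgroup.zpowers y)
  have hXpos : Nat.card X ≠ 0 := Nat.card_pos.ne'
  have hne : Nat.card P ≠ 0 := by
    rw [hcard, hHc]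
    exact Nat.mul_ne_zero hXpos hyo0
  refine ⟨Nat.finite_of_card_ne_zero hne, ?_⟩
  rw [hcard, hHc]
  calc Nat.card X * orderOf y ≤ 12 * 5 := Nat.mul_le_mul hXc hyo'
    _ = 60 := by norm_num

/-- the images in the alternating group -/
def a : alternatingGroup (Fin 5) := ⟨c[0, 3, 1], Equiv.Perm.mem_alternatingGroup.mpr (by decide)⟩
def b : alternatingGroup (Fin 5) := ⟨c[0, 1, 2, 3, 4], Equiv.Perm.mem_alternatingGroup.mpr (by decide)⟩

def gen : Fin 2 → alternatingGroup (Fin 5) := ![a, b]

set_option maxRecDepth 10000 in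
lemma gen_rels : ∀ r ∈ rels, FreeGroup.lift gen r = 1 := by
  intro r hr
  simp only [rels, Set.mem_insert_iff, Set.mem_singleton_iff] at hr
  rcases hr with rfl | rfl | rfl
  · simp only [map_pow, FreeGroup.lift_apply_of]
    exact Subtype.ext (by decide)
  · simp only [map_pow, FreeGroup.lift_apply_of]
    exact Subtype.ext (by decide)
  · simp only [map_pow, map_mul, FreeGroup.lift_apply_of]
    exact Subtype.ext (by decide)

def φ : P →* alternatingGroup (Fin 5) := PresentedGroup.toGroup gen_rels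

lemma φ_x : φ x = a := PresentedGroup.toGroup.of gen_rels
lemma φ_y : φ y = b := PresentedGroup.toGroup.of gen_rels

lemma card_A5 : Nat.card (alternatingGroup (Fin 5)) = 60 := by
  rw [Nat.card_eq_fintype_card, card_alternatingGroup]
  simp
  decide

set_option maxRecDepth 10000 in
lemma φ_surj : Function.Surjective φ := by
  rw [← MonoidHom.range_eq_top]
  have ha : a ∈ φ.range := ⟨x, φ_x⟩
  have hb : b ∈ φ.range := ⟨y, φ_y⟩
  have hab : a * b ∈ φ.range := mul_mem ha hb
  have _ : Fact (Nat.Prime 3) := ⟨by norm_num⟩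
  have _ : Fact (Nat.Prime 5) := ⟨by norm_num⟩
  have hne : ∀ g : alternatingGroup (Fin 5), (g : Equiv.Perm (Fin 5)) ≠ 1 → g ≠ 1 :=
    fun g hg h => hg (by rw [h]; rfl)
  have o3 : orderOf a = 3 := orderOf_eq_prime (Subtype.ext (by decide)) (hne _ (by decide))
  have o5 : orderOf b = 5 := orderOf_eq_prime (Subtype.ext (by decide)) (hne _ (by decide))
  have o2 : orderOf (a * b) = 2 := orderOf_eq_prime (Subtype.ext (by decide)) (hne _ (by decide))
  have d3 : 3 ∣ Nat.card φ.range := by
    have := Subgroup.orderOf_dvd_natCard φ.range ha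
    rwa [o3] at this
  have d5 : 5 ∣ Nat.card φ.range := by
    have := Subgroup.orderOf_dvd_natCard φ.range hb
    rwa [o5] at this
  have d2 : 2 ∣ Nat.card φ.range := by
    have := Subgroup.orderOf_dvd_natCard φ.range hab
    rwa [o2] at this
  have hmul : φ.range.index * Nat.card φ.range = 60 := by
    rw [Subgroup.index_mul_card, card_A5]
  have d30 : 30 ∣ Nat.card φ.range := by omega
  obtain ⟨m, hm⟩ := d30
  have hidx : φ.range.index = 1 ∨ φ.range.index = 2 := by
    rw [hm] at hmul
    have : φ.range.index * m = 2 := by nlinarith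
    have h1 : φ.range.index ∣ 2 := ⟨m, this.symm⟩
    have := (Nat.dvd_prime Nat.prime_two).mp h1
    exact this
  rcases hidx with h | h
  · exact Subgroup.index_eq_one.mp h
  · have hn : φ.range.Normal := Subgroup.normal_of_index_eq_two h
    have hs : IsSimpleGroup (alternatingGroup (Fin 5)) := alternatingGroup.isSimpleGroup (by simp)
    rcases hs.eq_bot_or_eq_top_of_normal φ.range hn with h' | h'
    · exfalso
      rw [h'] at ha
      have : a = 1 := Subgroup.mem_bot.mp ha
      exact hne a (by decide) this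
    · exact h'

theorem result :
    Nonempty (PresentedGroup ({FreeGroup.of (0 : Fin 2) ^ 3, FreeGroup.of (1 : Fin 2) ^ 5,
        (FreeGroup.of (0 : Fin 2) * FreeGroup.of 1) ^ 2} : Set (FreeGroup (Fin 2))) ≃* alternatingGroup (Fin 5)) := by
  obtain ⟨hfin, hcard⟩ := finite_and_card
  have hbij : Function.Bijective φ :=
    φ_surj.bijective_of_nat_card_le (by rw [card_A5]; exact hcard)
  exact ⟨MulEquiv.ofBijective φ hbij⟩

end Cfsg.Agent.S3377
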