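import Cfsg.Statements.S0805
import Mathlib
import Cfsg.Agent.Lib.Helper5.SLCard

set_option autoImplicit false
set_option linter.style.haveILetI false
set_option linter.unusedSimpArgs false
open Cfsg

namespace Cfsg.Agent.S0805


open Matrix

section embed
variable {K F : Type*} [Field K] [Field F] (φ : K →+* F)

theorem scalar_of_map_scalar (M : Matrix (Fin 2) (Fin 2) K)
    (h : φ.mapMatrix M ∈ Set.range (Matrix.scalar (Fin 2) : F →+* Matrix (Fin 2) (Fin 2) F)) :
    M = Matrix.scalar (Fin 2) (M 0 0) := by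
  obtain ⟨b, hb⟩ := h
  have hinj := φ.injective
  have h01 := congrFun (congrFun hb 0) 1
  have h10 := congrFun (congrFun hb 1) 0
  have h00 := congrFun (congrFun hb 0) 0
  have h11 := congrFun (congrFun hb 1) 1
  simp [Matrix.scalar_apply, Matrix.diagonal_apply] at h01 h10 h00 h11
  ext i j
  fin_cases i <;> fin_cases j
  · simp
  · simp
    apply hinj
    rw [← h01, map_zero]
  · simp
    apply hinj
    rw [← h10, map_zero]
  · simp
    apply hinj
    rw [← h11, ← h00]


theorem sl_mem_center_of_map (g : Matrix.SpecialLinearGroup (Fin 2) K)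
    (h : Matrix.SpecialLinearGroup.map φ g ∈ Subgroup.center (Matrix.SpecialLinearGroup (Fin 2) F)) :
    g ∈ Subgroup.center (Matrix.SpecialLinearGroup (Fin 2) K) := by
  rw [Matrix.SpecialLinearGroup.mem_center_iff] at h ⊢
  obtain ⟨r, -, hr⟩ := h
  have hsc := scalar_of_map_scalar φ (g : Matrix (Fin 2) (Fin 2) K) ⟨r, hr⟩
  refine ⟨(g : Matrix (Fin 2) (Fin 2) K) 0 0, ?_, hsc.symm⟩
  have hdet := g.2
  rw [hsc] at hdet
  simpa using hdet

theorem sl_map_mem_center (g : Matrix.SpecialLinearGroup (Fin 2) K)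
    (h : g ∈ Subgroup.center (Matrix.SpecialLinearGroup (Fin 2) K)) :
    Matrix.SpecialLinearGroup.map φ g ∈ Subgroup.center (Matrix.SpecialLinearGroup (Fin 2) F) := by
  rw [Matrix.SpecialLinearGroup.mem_center_iff] at h ⊢
  obtain ⟨r, hr1, hr⟩ := h
  refine ⟨φ r, by rw [← map_pow, hr1, map_one], ?_⟩
  change Matrix.scalar (Fin 2) (φ r) = φ.mapMatrix (g : Matrix (Fin 2) (Fin 2) K)
  rw [← hr]
  ext i j
  simp only [Matrix.scalar_apply, Matrix.diagonal_apply, RingHom.mapMatrix_apply, Matrix.map_apply]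
  split_ifs <;> simp

/-- the induced map `PSL₂(K) → PSL₂(F)` -/
noncomputable def pslMap : ProjectiveSpecialLinearGroup (Fin 2) K →* ProjectiveSpecialLinearGroup (Fin 2) F :=
  QuotientGroup.map _ _ (Matrix.SpecialLinearGroup.map φ) (fun g hg => sl_map_mem_center φ g hg)

theorem pslMap_injective : Function.Injective (pslMap φ) := by
  rw [injective_iff_map_eq_one]
  intro x hx
  obtain ⟨g, rfl⟩ := QuotientGroup.mk_surjective x
  change (QuotientGroup.mk (Matrix.SpecialLinearGroup.map φ g) : ProjectiveSpecialLinearGroup (Fin 2) F) = 1 at hx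
  rw [QuotientGroup.eq_one_iff] at hx ⊢
  exact sl_mem_center_of_map φ g hx


theorem gl_map_val (g : GL (Fin 2) K) :
    ((Matrix.GeneralLinearGroup.map φ g : GL (Fin 2) F) : Matrix (Fin 2) (Fin 2) F)
      = φ.mapMatrix (g : Matrix (Fin 2) (Fin 2) K) := rfl

theorem gl_mem_center_of_map (g : GL (Fin 2) K)
    (h : Matrix.GeneralLinearGroup.map φ g ∈ Subgroup.center (GL (Fin 2) F)) :
    g ∈ Subgroup.center (GL (Fin 2) K) := by
  rw [Matrix.GeneralLinearGroup.mem_center_iff_val_mem_range_scalar] at h ⊢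
  rw [gl_map_val] at h
  exact ⟨_, (scalar_of_map_scalar φ _ h).symm⟩

theorem gl_map_mem_center (g : GL (Fin 2) K) (h : g ∈ Subgroup.center (GL (Fin 2) K)) :
    Matrix.GeneralLinearGroup.map φ g ∈ Subgroup.center (GL (Fin 2) F) := by
  rw [Matrix.GeneralLinearGroup.mem_center_iff_val_mem_range_scalar] at h ⊢
  obtain ⟨a, ha⟩ := h
  refine ⟨φ a, ?_⟩
  rw [gl_map_val, ← ha]
  ext i j
  simp only [Matrix.scalar_apply, Matrix.diagonal_apply, RingHom.mapMatrix_apply, Matrix.map_apply]
  split_ifs <;> simp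

/-- the induced map `PGL₂(K) → PGL₂(F)` -/
noncomputable def pglMap : Matrix.ProjGenLinGroup (Fin 2) K →* Matrix.ProjGenLinGroup (Fin 2) F :=
  QuotientGroup.map _ _ (Matrix.GeneralLinearGroup.map φ) (fun g hg => gl_map_mem_center φ g hg)

theorem pglMap_mk (g : GL (Fin 2) K) :
    pglMap φ (Matrix.ProjGenLinGroup.mk g)
      = Matrix.ProjGenLinGroup.mk (Matrix.GeneralLinearGroup.map φ g) := rfl

theorem pglMap_injective : Function.Injective (pglMap φ) := by
  rw [injective_iff_map_eq_one]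
  intro x hx
  induction x using Matrix.ProjGenLinGroup.induction_on with | mk g =>
  rw [pglMap_mk, Matrix.ProjGenLinGroup.mk_eq_one] at hx
  rw [Matrix.ProjGenLinGroup.mk_eq_one]
  exact gl_mem_center_of_map φ g hx


end embed

open Matrix.ProjGenLinGroup in
set_option backward.isDefEq.respectTransparency.types false in
theorem mk_mem_range_toPGL {R : Type*} [CommRing R] (g : GL (Fin 2) R) (r : Rˣ)
    (hr : r ^ 2 * g.det = 1) :
    Matrix.ProjGenLinGroup.mk g ∈
      (Matrix.ProjectiveSpecialLinearGroup.toPGL (n := Fin 2) (R := R)).range := by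
  have hr' : r ^ Fintype.card (Fin 2) * g.det = 1 := by simpa using hr
  simp only [Units.ext_iff, Units.val_mul, Units.val_pow_eq_pow_val,
    GeneralLinearGroup.val_det_apply, ← Matrix.det_smul g.1 r.1, Units.val_one] at hr'
  refine ⟨QuotientGroup.mk ⟨r.1 • g.1, hr'⟩, ?_⟩
  simp only [ProjectiveSpecialLinearGroup.toPGL_mk, mk_eq_mk_iff]
  refine ⟨r⁻¹, Units.ext ?_⟩
  simp only [Units.val_mul, Matrix.SpecialLinearGroup.coe_GL_coe_matrix, GeneralLinearGroup.coe_scalar]
  simp [← Matrix.mul_smul, ← Matrix.diagonal_smul, Pi.smul_def, smul_eq_mul]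


theorem range_pglMap_le {K F : Type*} [Field K] [Field F] (φ : K →+* F)
    (hsq : ∀ x : K, x ≠ 0 → IsSquare (φ x)) :
    (pglMap φ).range ≤ (Matrix.ProjectiveSpecialLinearGroup.toPGL (n := Fin 2) (R := F)).range := by
  rintro _ ⟨x, rfl⟩
  induction x using Matrix.ProjGenLinGroup.induction_on with | mk g =>
  rw [pglMap_mk]
  have hdet : ((Matrix.GeneralLinearGroup.map φ g).det : F) = φ ((g.det : Kˣ) : K) := by
    rw [GeneralLinearGroup.val_det_apply, gl_map_val, ← RingHom.map_det,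
      GeneralLinearGroup.val_det_apply]
  obtain ⟨s, hs⟩ := hsq ((g.det : Kˣ) : K) (Units.ne_zero _)
  have hs0 : s ≠ 0 := by
    rintro rfl
    rw [mul_zero] at hs
    exact (map_ne_zero φ).mpr (Units.ne_zero (g.det : Kˣ)) hs
  apply mk_mem_range_toPGL _ (Units.mk0 s hs0)⁻¹
  apply Units.ext
  rw [Units.val_mul, hdet, hs]
  simp only [Units.val_pow_eq_pow_val, Units.val_inv_eq_inv_val, Units.val_mk0, Units.val_one]
  field_simp



theorem exists_ringHom {K F : Type*} [Field K] [Fintype K] [Field F] [Fintype F] (m : ℕ)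
    (h : Fintype.card K ^ m = Fintype.card F) : Nonempty (K →+* F) := by
  obtain ⟨p, hpK⟩ := CharP.exists K
  obtain ⟨p', hpF⟩ := CharP.exists F
  obtain ⟨n, hp, hn⟩ := FiniteField.card K p
  obtain ⟨n', hp', hn'⟩ := FiniteField.card F p'
  have hm : m ≠ 0 := by
    rintro rfl
    rw [pow_zero] at h
    have := Fintype.one_lt_card (α := F)
    omega
  have hpp : p = p' := by
    have h1 : p ∣ p' ^ (n' : ℕ) := by
      rw [← hn', ← h, hn, ← pow_mul]
      exact dvd_pow_self p (Nat.mul_ne_zero n.pos.ne' hm)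
    exact (Nat.prime_dvd_prime_iff_eq hp hp').mp (hp.dvd_of_dvd_pow h1)
  subst hpp
  haveI : Fact p.Prime := ⟨hp⟩
  letI := ZMod.algebra K p
  letI := ZMod.algebra F p
  have h1 := FiniteField.pow_finrank_eq_card p K
  have h2 := FiniteField.pow_finrank_eq_card p F
  have h3 : p ^ (Module.finrank (ZMod p) K * m) = p ^ Module.finrank (ZMod p) F := by
    rw [pow_mul, h1, h, h2]
  have h4 := Nat.pow_right_injective hp.two_le h3
  obtain ⟨f⟩ := FiniteField.nonempty_algHom_of_finrank_dvd (F := ZMod p) (K := K) (L := F)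
    ⟨m, h4.symm⟩
  exact ⟨f.toRingHom⟩


theorem isSquare_of_even {K F : Type*} [Field K] [Fintype K] [Field F] [Fintype F] (φ : K →+* F)
    (m : ℕ) (hm : Even m) (h : Fintype.card K ^ m = Fintype.card F) (hodd : Odd (Fintype.card F))
    (x : K) (hx : x ≠ 0) : IsSquare (φ x) := by
  have hF : ringChar F ≠ 2 := by
    intro h2
    have := FiniteField.even_card_of_char_two h2
    rw [Nat.odd_iff] at hodd
    omega
  have hφx : φ x ≠ 0 := (map_ne_zero φ).mpr hx
  rw [FiniteField.isSquare_iff hF hφx]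
  obtain ⟨j, rfl⟩ := hm
  set k := Fintype.card K with hk
  have hkodd : Odd k := by
    by_contra hne
    rw [Nat.not_odd_iff_even] at hne
    have hj : j + j ≠ 0 := by
      intro h0
      rw [h0, pow_zero] at h
      have := Fintype.one_lt_card (α := F)
      omega
    have : Even (k ^ (j + j)) := (Nat.even_pow.mpr ⟨hne, hj⟩)
    rw [h] at this
    exact (Nat.not_even_iff_odd.mpr hodd) this
  obtain ⟨u, hu⟩ : ∃ u, k + 1 = 2 * u := by
    obtain ⟨t, ht⟩ := hkodd
    exact ⟨t + 1, by omega⟩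
  have hk1 : 1 ≤ k := Fintype.card_pos
  have hdvd : k ^ 2 - 1 ∣ (k ^ 2) ^ j - 1 := by
    have := Nat.sub_dvd_pow_sub_pow (x := k ^ 2) (y := 1) (n := j)
    simpa using this
  obtain ⟨G, hG⟩ := hdvd
  have hk2 : k ^ 2 - 1 = 2 * u * (k - 1) := by
    have : k ^ 2 - 1 = (k + 1) * (k - 1) := by
      have := Nat.sq_sub_sq k 1
      simpa using this
    rw [this, hu]
  have hq : Fintype.card F = 2 * (u * (k - 1) * G) + 1 := by
    rw [← h, ← two_mul, pow_mul]
    have h1 : 1 ≤ (k ^ 2) ^ j := Nat.one_le_pow _ _ (by positivity)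
    have : (k ^ 2) ^ j = (k ^ 2) ^ j - 1 + 1 := by omega
    rw [this, hG, hk2]
    ring
  have hhalf : Fintype.card F / 2 = (k - 1) * (u * G) := by
    rw [hq]
    have : (2 * (u * (k - 1) * G) + 1) / 2 = u * (k - 1) * G := by omega
    rw [this]
    ring
  rw [hhalf, ← map_pow, pow_mul, FiniteField.pow_card_sub_one_eq_one x hx, one_pow, map_one]



theorem odd_geom_sum (x : ℤ) (hx : Odd x) (m : ℕ) (hm : Odd m) :
    Odd (∑ i ∈ Finset.range m, x ^ i) := by
  have key : ∀ n : ℕ, (Odd (∑ i ∈ Finset.range n, x ^ i) ↔ Odd n) := by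
    intro n
    induction n with
    | zero => simp
    | succ n ih =>
      rw [Finset.sum_range_succ, Int.odd_add, ih, Nat.odd_add_one]
      have : Odd (x ^ n) := hx.pow
      rw [← Int.not_odd_iff_even]
      tauto
  exact (key m).mpr hm

theorem arith (k m a b : ℕ) (hk : 2 ≤ k) (hkodd : Odd k) (hmodd : Odd m)
    (ha : a * (k - 1) = (k ^ 2 - 1) * (k ^ 2 - k))
    (hb : b * 2 * (k ^ m - 1) = ((k ^ m) ^ 2 - 1) * ((k ^ m) ^ 2 - k ^ m)) (hab : a ∣ b) : False := by
  have hq : 2 ≤ k ^ m := by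
    have hm0 : m ≠ 0 := by
      rintro rfl
      simp at hmodd
    calc 2 ≤ k := hk
      _ = k ^ 1 := (pow_one k).symm
      _ ≤ k ^ m := Nat.pow_le_pow_right (by omega) (by omega)
  have h1 : 1 ≤ k := by omega
  have h2 : 1 ≤ k ^ 2 := Nat.one_le_pow _ _ (by omega)
  have h3 : k ≤ k ^ 2 := by nlinarith
  have h4 : 1 ≤ k ^ m := by omega
  have h5 : 1 ≤ (k ^ m) ^ 2 := Nat.one_le_pow _ _ (by omega)
  have h6 : k ^ m ≤ (k ^ m) ^ 2 := by nlinarith
  zify [h1, h2, h3, h4, h5, h6] at ha hb
  obtain ⟨t, rfl⟩ := hab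
  push_cast at hb
  have hK2 : (2 : ℤ) ≤ (k : ℤ) := by exact_mod_cast hk
  have hKm : (2 : ℤ) ≤ (k : ℤ) ^ m := by exact_mod_cast hq
  have hKodd : Odd (k : ℤ) := by exact_mod_cast hkodd
  set K : ℤ := (k : ℤ) with hK
  set A : ℤ := (a : ℤ) with hA
  set T : ℤ := (t : ℤ) with hT
  have hA' : A = (K ^ 2 - 1) * K := by
    have hne : K - 1 ≠ 0 := by omega
    apply mul_right_cancel₀ hne
    rw [ha]; ring
  have hB' : 2 * (A * T) = ((K ^ m) ^ 2 - 1) * K ^ m := by
    have hne : K ^ m - 1 ≠ 0 := by omega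
    apply mul_right_cancel₀ hne
    linear_combination hb
  have hgeom : (K ^ 2 - 1) * ∑ i ∈ Finset.range m, (K ^ 2) ^ i = (K ^ m) ^ 2 - 1 := by
    rw [mul_geom_sum, ← pow_mul, ← pow_mul, mul_comm]
  set S : ℤ := ∑ i ∈ Finset.range m, (K ^ 2) ^ i with hS
  have hSodd : Odd S := odd_geom_sum (K ^ 2) hKodd.pow m hmodd
  have hfin : 2 * (K * T) = S * K ^ m := by
    have hne : K ^ 2 - 1 ≠ 0 := by nlinarith
    apply mul_left_cancel₀ hne
    rw [hA'] at hB'
    linear_combination hB' - (K ^ m) * hgeom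
  have hodd : Odd (S * K ^ m) := hSodd.mul hKodd.pow
  rw [← hfin] at hodd
  exact (Int.not_odd_iff_even.mpr (even_two_mul _)) hodd



theorem card_PGL2 {K : Type*} [Field K] [Fintype K] :
    Nat.card (Matrix.ProjGenLinGroup (Fin 2) K) * (Fintype.card K - 1)
      = (Fintype.card K ^ 2 - 1) * (Fintype.card K ^ 2 - Fintype.card K) := by
  have h1 : Nat.card (GL (Fin 2) K) = (Fintype.card K ^ 2 - 1) * (Fintype.card K ^ 2 - Fintype.card K) := by
    rw [Matrix.card_GL_field, Fin.prod_univ_two]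
    simp
  have h2 := Subgroup.card_eq_card_quotient_mul_card_subgroup (Subgroup.center (GL (Fin 2) K))
  have hinj : Function.Injective (Matrix.GeneralLinearGroup.scalar (Fin 2) : Kˣ →* GL (Fin 2) K) := by
    intro u v huv
    have := congrArg (fun g : GL (Fin 2) K => (g : Matrix (Fin 2) (Fin 2) K) 0 0) huv
    simp at this
    exact Units.ext this
  have h3 : Nat.card (Subgroup.center (GL (Fin 2) K)) = Fintype.card K - 1 := by
    rw [Matrix.GeneralLinearGroup.center_eq_range_scalar,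
      ← Nat.card_congr (MonoidHom.ofInjective hinj).toEquiv, Nat.card_units,
      Nat.card_eq_fintype_card]
  rw [← h1, h2, h3]
  rfl


end Cfsg.Agent.S0805

namespace Cfsg.Agent.S0805

/-- Subfield subgroups: let F be a finite field of odd order q and K a finite field with |K|^m = q, m ≥ 1. Then PSL_2(F) has a subgroup isomorphic to PSL_2(K), and has a subgroup isomorphic to PGL_2(K) if and only if m is even. -/
theorem result {F K : Type*} [Field F] [Fintype F] [Field K] [Fintype K] {q : ℕ} (hF : Fintype.card F = q) (hodd : Odd q) (m : ℕ) (hm : 1 ≤ m) (hK : Fintype.card K ^ m = q) : (∃ H : Subgroup (Matrix.ProjectiveSpecialLinearGroup (Fin 2) F), Nonempty (H ≃* Matrix.ProjectiveSpecialLinearGroup (Fin 2) K)) ∧ ((∃ H : Subgroup (Matrix.ProjectiveSpecialLinearGroup (Fin 2) F), Nonempty (H ≃* Matrix.ProjGenLinGroup (Fin 2) K)) ↔ Even m) := by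
  subst hF
  obtain ⟨φ⟩ := exists_ringHom m hK
  refine ⟨⟨(pslMap φ).range, ⟨(MonoidHom.ofInjective (pslMap_injective φ)).symm⟩⟩, ?_, ?_⟩
  · rintro ⟨H, ⟨e⟩⟩
    by_contra hne
    rw [Nat.not_even_iff_odd] at hne
    have hk2 : 2 ≤ Fintype.card K := Fintype.one_lt_card
    have hkodd : Odd (Fintype.card K) := by
      by_contra hk
      rw [Nat.not_odd_iff_even] at hk
      have : Even (Fintype.card K ^ m) := Nat.even_pow.mpr ⟨hk, by omega⟩
      rw [hK] at this
      exact (Nat.not_even_iff_odd.mpr hodd) this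
    have ha := card_PGL2 (K := K)
    have hb := Cfsg.Agent.Helper5.card_PSL_mul (F := F) rfl 2 (by norm_num)
    have hgcd : Nat.gcd 2 (Fintype.card F - 1) = 2 := by
      obtain ⟨t, ht⟩ := hodd
      rw [ht]
      simp
    rw [hgcd, Fin.prod_univ_two] at hb
    simp only [Fin.val_zero, pow_zero, Fin.val_one, pow_one] at hb
    rw [← hK] at hb
    have hab : Nat.card (Matrix.ProjGenLinGroup (Fin 2) K)
        ∣ Nat.card (Matrix.ProjectiveSpecialLinearGroup (Fin 2) F) := by
      rw [← Nat.card_congr e.toEquiv]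
      exact Subgroup.card_subgroup_dvd_card H
    exact arith _ m _ _ hk2 hkodd hne ha hb hab
  · intro hme
    have hsq := isSquare_of_even φ m hme hK hodd
    have hle := range_pglMap_le φ hsq
    let T := Matrix.ProjectiveSpecialLinearGroup.toPGL (n := Fin 2) (R := F)
    have hTinj : Function.Injective T := Matrix.ProjectiveSpecialLinearGroup.toPGL_injective
    refine ⟨(pglMap φ).range.comap T, ⟨?_⟩⟩
    have e1 := Subgroup.equivMapOfInjective ((pglMap φ).range.comap T) T hTinj
    have hmap : ((pglMap φ).range.comap T).map T = (pglMap φ).range := by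
      rw [Subgroup.map_comap_eq, inf_eq_right]
      exact hle
    exact (e1.trans (MulEquiv.subgroupCongr hmap)).trans
      (MonoidHom.ofInjective (pglMap_injective φ)).symm

end Cfsg.Agent.S0805
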