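import Cfsg.Statements.S0799
import Cfsg.Agent.Lib.Helper98.DicksonFull

set_option autoImplicit false
open Cfsg

namespace Cfsg.Agent.S0799

open Cfsg.Agent.Helper98.Dickson Cfsg.Agent.Helper41

theorem dvd_of_order {F : Type*} [Field F] [Fintype F] (p : ℕ) [Fact p.Prime] [CharP F p]
    (g : Matrix.ProjectiveSpecialLinearGroup (Fin 2) F) (hpn : ¬ p ∣ orderOf g) :
    orderOf g ∣ (Fintype.card F + 1) / Nat.gcd 2 (Fintype.card F - 1) ∨
      orderOf g ∣ (Fintype.card F - 1) / Nat.gcd 2 (Fintype.card F - 1) := by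
  rcases psl2_orderOf_dvd p g with h | h | h
  · rcases (Nat.dvd_prime (Fact.out : p.Prime)).mp h with h1 | h1
    · left
      rw [h1]
      exact one_dvd _
    · exact absurd (h1 ▸ dvd_rfl) hpn
  · exact Or.inr h
  · exact Or.inl h

/-- Dickson's classification of the subgroups of PSL_2(q), q a power of the prime p, d = gcd(2, q − 1): every subgroup H is (a) cyclic or dihedral with k dividing (q+1)/d or (q−1)/d (cyclic of order k, or dihedral of order 2k), (b) isomorphic to a subgroup of the normaliser of a Sylow p-subgroup, (c) isomorphic to A_4, S_4 or A_5, or (d) isomorphic to PSL_2(K) or PGL_2(K) for a finite field K with |K|^m = q. -/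
theorem result {F : Type*} [Field F] [Fintype F] {q : ℕ} (hF : Fintype.card F = q) (p : ℕ) [Fact p.Prime] [CharP F p] (H : Subgroup (Matrix.ProjectiveSpecialLinearGroup (Fin 2) F)) : (∃ k : ℕ, (k ∣ (q + 1) / Nat.gcd 2 (q - 1) ∨ k ∣ (q - 1) / Nat.gcd 2 (q - 1)) ∧ ((IsCyclic H ∧ Nat.card H = k) ∨ Nonempty (H ≃* DihedralGroup k))) ∨ (∃ (P : Sylow p (Matrix.ProjectiveSpecialLinearGroup (Fin 2) F)) (K : Subgroup (Matrix.ProjectiveSpecialLinearGroup (Fin 2) F)), K ≤ Subgroup.normalizer ((P : Subgroup (Matrix.ProjectiveSpecialLinearGroup (Fin 2) F)) : Set (Matrix.ProjectiveSpecialLinearGroup (Fin 2) F)) ∧ Nonempty (H ≃* K)) ∨ Nonempty (H ≃* alternatingGroup (Fin 4)) ∨ Nonempty (H ≃* Equiv.Perm (Fin 4)) ∨ Nonempty (H ≃* alternatingGroup (Fin 5)) ∨ (∃ (K : Type) (_ : Field K) (_ : Fintype K) (m : ℕ), Fintype.card K ^ m = q ∧ (Nonempty (H ≃* Matrix.ProjectiveSpecialLinearGroup (Fin 2) K) ∨ Nonempty (H ≃* Matrix.ProjGenLinGroup (Fin 2) K)))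 := by
  subst hF
  rcases dickson_full p H with ⟨hc, hp⟩ | ⟨n, hn, hpn, ⟨e⟩⟩ | h | h | h | ⟨-, H1, ⟨e⟩, hB⟩ | h
  · left
    obtain ⟨g, hg⟩ := hc.exists_generator
    have ho : orderOf g = Nat.card H := orderOf_eq_card_of_forall_mem_zpowers hg
    refine ⟨Nat.card H, ?_, Or.inl ⟨hc, rfl⟩⟩
    have h1 := dvd_of_order p (g : Matrix.ProjectiveSpecialLinearGroup (Fin 2) F)
      (by rw [Subgroup.orderOf_coe, ho]; exact hp)
    rw [Subgroup.orderOf_coe, ho] at h1
    exact h1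
  · left
    refine ⟨n, ?_, Or.inr ⟨e⟩⟩
    have ho : orderOf (e.symm (DihedralGroup.r 1)) = n := by
      rw [MulEquiv.orderOf_eq, DihedralGroup.orderOf_r_one]
    have h1 := dvd_of_order p
      ((e.symm (DihedralGroup.r 1) : H) : Matrix.ProjectiveSpecialLinearGroup (Fin 2) F)
      (by rw [Subgroup.orderOf_coe, ho]; exact hpn)
    rw [Subgroup.orderOf_coe, ho] at h1
    exact h1
  · exact Or.inr (Or.inr (Or.inl h))
  · exact Or.inr (Or.inr (Or.inr (Or.inl h)))
  · exact Or.inr (Or.inr (Or.inr (Or.inr (Or.inl h))))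
  · right; left
    obtain ⟨P, hP⟩ := borel_case p H1 hB
    exact ⟨P, H1, hP, ⟨e⟩⟩
  · exact Or.inr (Or.inr (Or.inr (Or.inr (Or.inr h))))

end Cfsg.Agent.S0799
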