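import Cfsg.Statements.S1349
import Cfsg.Agent.Lib.Helper32.ThompsonDihedral
import Cfsg.Agent.S0206

set_option autoImplicit false
open Cfsg

namespace Cfsg.Agent.S1349

open Cfsg.Agent.Helper32

/-- An involution inverting an element `l` with `l ^ 2 ≠ 1` generates with it a dihedral group. -/
theorem dihedral_of_inverts {G : Type*} [Group G] [Finite G] {b l : G} (hb : b ^ 2 = 1)
    (hl2 : l ^ 2 ≠ 1) (hinv : b * l * b⁻¹ = l⁻¹) :
    Nonempty (↥(Subgroup.zpowers b ⊔ Subgroup.zpowers l) ≃* DihedralGroup (orderOf l)) := by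
  have hbi : b⁻¹ = b := TD.inv_eq_self_of_sq hb
  have hbb : b * b = 1 := by rw [← sq, hb]
  have hl1 : l ≠ 1 := by
    intro h; apply hl2; rw [h, one_pow]
  have hb1 : b ≠ 1 := by
    intro h
    rw [h, one_mul, inv_one, mul_one] at hinv
    apply hl2
    rw [sq]
    nth_rewrite 1 [hinv]
    exact inv_mul_cancel l
  have hob : orderOf b = 2 := orderOf_eq_prime hb hb1
  have hblb : b * l * b = l⁻¹ := by rw [← hinv, hbi]
  have hbl2 : (b * l) ^ 2 = 1 := by
    rw [sq]
    calc b * l * (b * l) = (b * l * b) * l := by group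
      _ = 1 := by rw [hblb, inv_mul_cancel]
  have hbl1 : b * l ≠ 1 := by
    intro h
    have hlb : l = b := by
      have := eq_inv_of_mul_eq_one_right h
      rw [this, hbi]
    apply hl2
    rw [hlb, hb]
  have hobl : orderOf (b * l) = 2 := orderOf_eq_prime hbl2 hbl1
  have hne : b ≠ b * l := by
    intro h
    apply hl1
    have := mul_left_cancel (a := b) (b := 1) (c := l) (by rw [mul_one]; exact h)
    exact this.symm
  obtain ⟨e⟩ := Cfsg.Agent.S0206.result b (b * l) hob hobl hne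
  have hprod : b * (b * l) = l := by rw [← mul_assoc, hbb, one_mul]
  rw [hprod] at e
  have hcl : Subgroup.closure ({b, b * l} : Set G) = Subgroup.zpowers b ⊔ Subgroup.zpowers l := by
    apply le_antisymm
    · rw [Subgroup.closure_le]
      intro x hx
      rcases hx with hx | hx
      · rw [hx]
        exact (le_sup_left : Subgroup.zpowers b ≤ _) (Subgroup.mem_zpowers b)
      · rw [Set.mem_singleton_iff] at hx
        rw [hx]
        exact mul_mem ((le_sup_left : Subgroup.zpowers b ≤ _) (Subgroup.mem_zpowers b))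
          ((le_sup_right : Subgroup.zpowers l ≤ _) (Subgroup.mem_zpowers l))
    · apply sup_le
      · rw [Subgroup.zpowers_le]
        exact Subgroup.subset_closure (by simp)
      · rw [Subgroup.zpowers_le]
        have h1 : b ∈ Subgroup.closure ({b, b * l} : Set G) := Subgroup.subset_closure (by simp)
        have h2 : b * l ∈ Subgroup.closure ({b, b * l} : Set G) := Subgroup.subset_closure (by simp)
        have h3 : b⁻¹ * (b * l) ∈ Subgroup.closure ({b, b * l} : Set G) := mul_mem (inv_mem h1) h2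
        have : b⁻¹ * (b * l) = l := by group
        rw [this] at h3
        exact h3
  exact ⟨(MulEquiv.subgroupCongr hcl.symm).trans e⟩

theorem commute_of_mem_sup_zpowers {G : Type*} [Group G] {a b c d : G} (h1 : a * c = c * a)
    (h2 : a * d = d * a) (h3 : b * c = c * b) (h4 : b * d = d * b) :
    ∀ x ∈ Subgroup.zpowers a ⊔ Subgroup.zpowers b, ∀ y ∈ Subgroup.zpowers c ⊔ Subgroup.zpowers d,
      x * y = y * x := by
  have hc : ∀ g, a * g = g * a → b * g = g * b →
      g ∈ Subgroup.centralizer ((Subgroup.zpowers a ⊔ Subgroup.zpowers b : Subgroup G) : Set G) := by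
    intro g hag hbg
    rw [Subgroup.mem_centralizer_iff]
    intro h hh
    have hle : Subgroup.zpowers a ⊔ Subgroup.zpowers b ≤ Subgroup.centralizer ({g} : Set G) :=
      sup_le (Subgroup.zpowers_le.mpr (Subgroup.mem_centralizer_singleton_iff.mpr hag))
        (Subgroup.zpowers_le.mpr (Subgroup.mem_centralizer_singleton_iff.mpr hbg))
    exact Subgroup.mem_centralizer_singleton_iff.mp (hle hh)
  have hle : Subgroup.zpowers c ⊔ Subgroup.zpowers d ≤
      Subgroup.centralizer ((Subgroup.zpowers a ⊔ Subgroup.zpowers b : Subgroup G) : Set G) :=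
    sup_le (Subgroup.zpowers_le.mpr (hc c h1 h3)) (Subgroup.zpowers_le.mpr (hc d h2 h4))
  intro x hx y hy
  exact Subgroup.mem_centralizer_iff.mp (hle hy) x hx

/-- Let G be finite, L ≤ G solvable of odd order, and A an elementary abelian 2-subgroup of order 2^d (d ≥ 1) normalizing L with C_A(L) = 1. Then there are subgroups A_1, …, A_d of A of order 2 generating A and subgroups L_1, …, L_d of L such that each A_i ⊔ L_i is dihedral of order 2 n_i with n_i odd and at least 3, and A_i ⊔ L_i commutes elementwise with A_j ⊔ L_j for i ≠ j. -/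
theorem result {G : Type*} [Group G] [Finite G] (L A : Subgroup G) (hLs : Group.IsSolvable ↥L) (hLodd : Odd (Nat.card ↥L)) (hA : Cfsg.IsElementaryAbelian 2 A) (d : ℕ) (hd : 1 ≤ d) (hAd : Nat.card ↥A = 2 ^ d) (hAL : A ≤ Subgroup.normalizer (L : Set G)) (hfaith : A ⊓ Subgroup.centralizer (L : Set G) = ⊥) : ∃ (Ai : Fin d → Subgroup G) (Li : Fin d → Subgroup G) (n : Fin d → ℕ), (∀ i, Ai i ≤ A ∧ Nat.card ↥(Ai i) = 2 ∧ Li i ≤ L ∧ Odd (n i) ∧ 3 ≤ n i ∧ Nonempty (↥(Ai i ⊔ Li i) ≃* DihedralGroup (n i))) ∧ (⨆ i, Ai i) = A ∧ ∀ i j, i ≠ j → ∀ x ∈ Ai i ⊔ Li i, ∀ y ∈ Ai j ⊔ Li j, x * y = y * x := by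
  classical
  obtain ⟨hAcomm, hA2⟩ := hA
  have hAc : ∀ x ∈ A, ∀ y ∈ A, x * y = y * x := fun x hx y hy =>
    congrArg Subtype.val (hAcomm.is_comm.comm ⟨x, hx⟩ ⟨y, hy⟩)
  obtain ⟨b, l, hP1, hP2, hP3, -⟩ :=
    TD.exists_frame hAc hA2 d L A hLs hLodd hAL le_rfl hAd hfaith
  refine ⟨fun i => Subgroup.zpowers (b i), fun i => Subgroup.zpowers (l i),
    fun i => orderOf (l i), ?_, ?_, ?_⟩
  · intro i
    obtain ⟨hbA, hlL, hprime, hEV, hinv⟩ := hP1 i i.2
    have hoddl : Odd (orderOf (l (i : ℕ))) :=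
      Odd.of_dvd_nat hLodd (Subgroup.orderOf_dvd_natCard L hlL)
    have hl1 : l (i : ℕ) ≠ 1 := by
      intro h
      rw [h, orderOf_one] at hprime
      exact Nat.not_prime_one hprime
    have hl2 : l (i : ℕ) ^ 2 ≠ 1 := fun h => hl1 (TD.eq_one_of_sq_of_mem hLodd hlL h)
    have hb1 : b (i : ℕ) ≠ 1 := by
      intro h
      rw [h, one_mul, inv_one, mul_one] at hinv
      exact hl1 (TD.eq_one_of_inv_eq_self hLodd hlL hinv)
    refine ⟨Subgroup.zpowers_le.mpr hbA, ?_, Subgroup.zpowers_le.mpr hlL, hoddl, ?_, ?_⟩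
    · rw [Nat.card_zpowers]
      exact orderOf_eq_prime (hA2 _ hbA) hb1
    · show 3 ≤ orderOf (l (i : ℕ))
      have h2 := hprime.two_le
      rcases hoddl with ⟨k, hk⟩
      omega
    · exact dihedral_of_inverts (hA2 _ hbA) hl2 hinv
  · apply le_antisymm
    · apply iSup_le
      intro i
      exact Subgroup.zpowers_le.mpr (hP1 i i.2).1
    · intro x hx
      refine (Subgroup.closure_le _).mpr ?_ (hP3 x hx)
      rintro _ ⟨i, hi, rfl⟩
      exact (le_iSup (fun i : Fin d => Subgroup.zpowers (b i)) ⟨i, hi⟩) (Subgroup.mem_zpowers (b i))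
  · intro i j hij
    have hij' : (i : ℕ) ≠ (j : ℕ) := fun h => hij (Fin.ext h)
    have h1 := hP2 i i.2 j j.2 hij'
    have h2 := hP2 j j.2 i i.2 hij'.symm
    exact commute_of_mem_sup_zpowers (hAc _ (hP1 i i.2).1 _ (hP1 j j.2).1) h1.1 h2.1.symm h1.2

end Cfsg.Agent.S1349
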