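import Cfsg.Statements.S0228
import Mathlib

set_option autoImplicit false
open Cfsg

namespace Cfsg.Agent.S0228

theorem fact12_3 : (12 : ℕ).factorization 3 = 1 := by
  have : (12 : ℕ) = 3 * 4 := by norm_num
  rw [this, Nat.factorization_mul (by norm_num) (by norm_num), Finsupp.add_apply,
    Nat.Prime.factorization_self (by norm_num), Nat.factorization_eq_zero_of_not_dvd (by norm_num)]

theorem fact12_2 : (12 : ℕ).factorization 2 = 2 := by
  have : (12 : ℕ) = 2 ^ 2 * 3 := by norm_num
  rw [this, Nat.factorization_mul (by norm_num) (by norm_num), Finsupp.add_apply,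
    Nat.Prime.factorization_pow (by norm_num), Nat.factorization_eq_zero_of_not_dvd (by norm_num)]
  simp

section
variable {G : Type*} [Group G] [Finite G] (hG : Nat.card G = 12)
include hG

theorem card_sylow3 (P : Sylow 3 G) : Nat.card (P : Subgroup G) = 3 := by
  rw [Sylow.card_eq_multiplicity, hG, fact12_3, pow_one]

theorem card_sylow2 (Q : Sylow 2 G) : Nat.card (Q : Subgroup G) = 4 := by
  rw [Sylow.card_eq_multiplicity, hG, fact12_2]; norm_num

theorem card_sylow_cases : Nat.card (Sylow 3 G) = 1 ∨ Nat.card (Sylow 3 G) = 4 := by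
  obtain ⟨P⟩ : Nonempty (Sylow 3 G) := inferInstance
  have h1 : Nat.card (Sylow 3 G) ≡ 1 [MOD 3] := card_sylow_modEq_one 3 G
  have h2 : Nat.card (Sylow 3 G) ∣ (P : Subgroup G).index := Sylow.card_dvd_index P
  have h3 : (P : Subgroup G).index = 4 := by
    have := Subgroup.card_mul_index (P : Subgroup G)
    rw [card_sylow3 hG P, hG] at this
    omega
  rw [h3] at h2
  have hle : Nat.card (Sylow 3 G) ≤ 4 := Nat.le_of_dvd (by norm_num) h2
  unfold Nat.ModEq at h1
  generalize Nat.card (Sylow 3 G) = n at *
  interval_cases n <;> simp_all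

theorem case_four (h4 : Nat.card (Sylow 3 G) = 4) : Nonempty (G ≃* alternatingGroup (Fin 4)) := by
  classical
  haveI : Fintype (Sylow 3 G) := Fintype.ofFinite _
  have hinj : Function.Injective (MulAction.toPermHom G (Sylow 3 G)) := by
    rw [injective_iff_map_eq_one]
    intro g hg
    have hfix : ∀ P : Sylow 3 G, g • P = P := by
      intro P
      have := congrArg (fun σ => σ P) hg
      simpa using this
    have hmem : ∀ P : Sylow 3 G, g ∈ (P : Subgroup G) := by
      intro P
      have hn : g ∈ Subgroup.normalizer ((P : Subgroup G) : Set G) :=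
        Sylow.smul_eq_iff_mem_normalizer.mp (hfix P)
      have hidx : (Subgroup.normalizer ((P : Subgroup G) : Set G)).index = 4 := by
        have := Sylow.card_eq_index_normalizer P
        rw [h4] at this
        exact this.symm
      have hcn : Nat.card (Subgroup.normalizer ((P : Subgroup G) : Set G)) = 3 := by
        have := Subgroup.card_mul_index (Subgroup.normalizer ((P : Subgroup G) : Set G))
        rw [hidx, hG] at this
        omega
      have hle : (P : Subgroup G) ≤ Subgroup.normalizer ((P : Subgroup G) : Set G) :=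
        Subgroup.le_normalizer
      have heq : (P : Subgroup G) = Subgroup.normalizer ((P : Subgroup G) : Set G) :=
        Subgroup.eq_of_le_of_card_ge hle (by rw [hcn, card_sylow3 hG P])
      rw [heq]; exact hn
    obtain ⟨P, P', hne⟩ : ∃ P P' : Sylow 3 G, P ≠ P' := by
      have : 1 < Fintype.card (Sylow 3 G) := by
        rw [← Nat.card_eq_fintype_card, h4]; norm_num
      exact Fintype.exists_pair_of_one_lt_card this
    by_contra hg1
    apply hne
    have hz : ∀ Q : Sylow 3 G, Subgroup.zpowers g = (Q : Subgroup G) := by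
      intro Q
      apply Subgroup.eq_of_le_of_card_ge (Subgroup.zpowers_le.mpr (hmem Q))
      rw [card_sylow3 hG Q, Nat.card_zpowers]
      have hd : orderOf g ∣ 3 := by
        have := Subgroup.orderOf_dvd_natCard _ (hmem Q)
        rwa [card_sylow3 hG Q] at this
      rcases (Nat.dvd_prime (by norm_num)).mp hd with h | h
      · exact absurd (orderOf_eq_one_iff.mp h) hg1
      · omega
    exact Sylow.ext ((hz P).symm.trans (hz P'))
  have hcr : Nat.card (MulAction.toPermHom G (Sylow 3 G)).range = 12 := by
    rw [← hG]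
    exact (Nat.card_congr (MonoidHom.ofInjective hinj).toEquiv).symm
  have hcp : Nat.card (Equiv.Perm (Sylow 3 G)) = 24 := by
    rw [Nat.card_perm, h4]; rfl
  have hidx2 : (MulAction.toPermHom G (Sylow 3 G)).range.index = 2 := by
    have := Subgroup.card_mul_index (MulAction.toPermHom G (Sylow 3 G)).range
    rw [hcr, hcp] at this
    omega
  have hr := Equiv.Perm.eq_alternatingGroup_of_index_eq_two hidx2
  have e1 : G ≃* (MulAction.toPermHom G (Sylow 3 G)).range := MonoidHom.ofInjective hinj
  have e2 : (MulAction.toPermHom G (Sylow 3 G)).range ≃* alternatingGroup (Sylow 3 G) :=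
    MulEquiv.subgroupCongr hr
  have e : Sylow 3 G ≃ Fin 4 := by
    have : Fintype.card (Sylow 3 G) = 4 := by rw [← Nat.card_eq_fintype_card, h4]
    exact Fintype.equivFinOfCardEq this
  exact ⟨e1.trans (e2.trans (Equiv.altCongrHom e))⟩

theorem case_one (hz : ∀ z : G, orderOf z = 2 → z ∉ Subgroup.center G)
    (h1 : Nat.card (Sylow 3 G) = 1) : False := by
  classical
  haveI : Subsingleton (Sylow 3 G) := (Nat.card_eq_one_iff_unique.mp h1).1
  obtain ⟨P⟩ : Nonempty (Sylow 3 G) := inferInstance
  haveI hPn : (P : Subgroup G).Normal := Sylow.normal_of_subsingleton P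
  obtain ⟨Q⟩ : Nonempty (Sylow 2 G) := inferInstance
  have hP3 := card_sylow3 hG P
  have hQ4 := card_sylow2 hG Q
  haveI : IsCyclic (P : Subgroup G) := isCyclic_of_prime_card (p := 3) hP3
  have haut : Nat.card (MulAut (P : Subgroup G)) = 2 := by
    rw [IsCyclic.card_mulAut, hP3]; rfl
  let f : (Q : Subgroup G) →* MulAut (P : Subgroup G) :=
    (MulAut.conjNormal).comp (Q : Subgroup G).subtype
  have hker : 2 ∣ Nat.card f.ker := by
    have h1 := Subgroup.card_mul_index f.ker
    have h2 : f.ker.index = Nat.card f.range := Subgroup.index_ker f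
    have h3 : Nat.card f.range ∣ 2 := by
      have := Subgroup.card_subgroup_dvd_card f.range
      rwa [haut] at this
    rw [h2, hQ4] at h1
    have : Nat.card f.range = 1 ∨ Nat.card f.range = 2 := (Nat.dvd_prime Nat.prime_two).mp h3
    rcases this with h | h
    · rw [h] at h1; exact ⟨2, by omega⟩
    · rw [h] at h1; exact ⟨1, by omega⟩
  obtain ⟨z, hzo⟩ := exists_prime_orderOf_dvd_card' (G := f.ker) 2 hker
  have hz'o : orderOf (((z : (Q : Subgroup G)) : G)) = 2 := by
    rw [Subgroup.orderOf_coe, Subgroup.orderOf_coe]; exact hzo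
  apply hz _ hz'o
  rw [Subgroup.mem_center_iff]
  intro g
  have hcompl : Subgroup.IsComplement' (P : Subgroup G) (Q : Subgroup G) := by
    apply Subgroup.isComplement'_of_coprime
    · rw [hP3, hQ4, hG]
    · rw [hP3, hQ4]; decide
  obtain ⟨⟨p, q⟩, hpq, -⟩ := (Subgroup.isComplement'_def.mp hcompl).existsUnique g
  simp only at hpq
  have hzp : ((z : (Q : Subgroup G)) : G) * p = p * ((z : (Q : Subgroup G)) : G) := by
    have hk : f (z : (Q : Subgroup G)) = 1 := MonoidHom.mem_ker.mp z.2
    have := congrArg (fun σ => ((σ p : (P : Subgroup G)) : G)) hk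
    simp only [f, MonoidHom.comp_apply, Subgroup.subtype_apply, MulAut.conjNormal_apply,
      MulAut.one_apply] at this
    calc ((z : (Q : Subgroup G)) : G) * p
        = ((z : (Q : Subgroup G)) : G) * p * ((z : (Q : Subgroup G)) : G)⁻¹ *
          ((z : (Q : Subgroup G)) : G) := by group
      _ = p * ((z : (Q : Subgroup G)) : G) := by rw [this]
  have hzq : ((z : (Q : Subgroup G)) : G) * q = q * ((z : (Q : Subgroup G)) : G) := by
    have hc := IsPGroup.isMulCommutative_of_card_eq_prime_sq (p := 2) (G := (Q : Subgroup G))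
      (by rw [hQ4]; norm_num)
    have := hc.is_comm.comm (z : (Q : Subgroup G)) q
    exact congrArg Subtype.val this
  rw [← hpq, mul_assoc, ← hzq, ← mul_assoc, ← hzp, mul_assoc]

end

/-- A group of order 12 in which no involution is central is isomorphic to the alternating group on four letters. -/
theorem result {G : Type*} [Group G] [Finite G] (hG : Nat.card G = 12) (hz : ∀ z : G, orderOf z = 2 → z ∉ Subgroup.center G) : Nonempty (G ≃* alternatingGroup (Fin 4)) := by
  rcases card_sylow_cases hG with h | h
  · exact (case_one hG hz h).elim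
  · exact case_four hG h

end Cfsg.Agent.S0228
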