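import Cfsg.Statements.S0803
import Cfsg.Agent.Lib.Helper98.KleinNorm
import Cfsg.Agent.Lib.Helper98.PSL2Klein
import Cfsg.Agent.Lib.Helper98.PSL2Card
import Cfsg.Agent.S0807
import Cfsg.Agent.S1012

set_option autoImplicit false
set_option linter.style.haveILetI false
open Cfsg

namespace Cfsg.Agent.S0803

open Matrix Cfsg.Agent.Helper98

theorem finRotate_pow_four : (finRotate 4) ^ 4 = 1 := by decide
theorem finRotate_sq_ne : (finRotate 4) ^ 2 ≠ 1 := by decide

/-- no element of order four in `PSL₂(F)` in characteristic two -/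
theorem sq_eq_one_of_pow_four {F : Type*} [Field F] (h2 : (2 : F) = 0)
    (g : ProjectiveSpecialLinearGroup (Fin 2) F) (h4 : g ^ 4 = 1) : g ^ 2 = 1 := by
  obtain ⟨X, rfl⟩ := QuotientGroup.mk_surjective g
  rw [← QuotientGroup.mk_pow, Cfsg.Agent.Helper41.psl2_mk_eq_one_iff] at h4 ⊢
  have hneg : (-1 : Matrix (Fin 2) (Fin 2) F) = 1 := by
    rw [neg_eq_iff_add_eq_zero, ← two_smul F (1 : Matrix (Fin 2) (Fin 2) F), h2, zero_smul]
  rw [hneg, or_self, Matrix.SpecialLinearGroup.coe_pow] at h4
  left
  rw [Matrix.SpecialLinearGroup.coe_pow]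
  exact PSL2Card.sq_eq_one_of_pow_four h2 _ X.2 h4

/-- PSL_2(q) has a subgroup isomorphic to S_4 iff q² ≡ 1 (mod 16). -/
theorem result {F : Type*} [Field F] [Fintype F] {q : ℕ} (hF : Fintype.card F = q) : (∃ H : Subgroup (Matrix.ProjectiveSpecialLinearGroup (Fin 2) F), Nonempty (H ≃* Equiv.Perm (Fin 4))) ↔ q ^ 2 % 16 = 1 := by
  classical
  constructor
  · rintro ⟨H, ⟨e⟩⟩
    have hHcard : Nat.card H = 24 := by
      rw [Nat.card_congr e.toEquiv, Nat.card_perm]
      simp [Nat.factorial]
    have h24 : 24 ∣ Nat.card (Matrix.ProjectiveSpecialLinearGroup (Fin 2) F) := by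
      rw [← hHcard]; exact Subgroup.card_subgroup_dvd_card H
    rcases Nat.even_or_odd q with heven | hodd
    · exfalso
      have h2 : (2 : F) = 0 := PSL2Card.two_eq_zero_of_even_card (hF ▸ heven)
      have h4 : ((e.symm (finRotate 4) : H) : Matrix.ProjectiveSpecialLinearGroup (Fin 2) F) ^ 4
          = 1 := by
        rw [← Subgroup.coe_pow, ← map_pow, finRotate_pow_four, map_one, Subgroup.coe_one]
      have h5 := sq_eq_one_of_pow_four h2 _ h4
      rw [← Subgroup.coe_pow, ← map_pow, OneMemClass.coe_eq_one,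
        EmbeddingLike.map_eq_one_iff] at h5
      exact finRotate_sq_ne h5
    · have hcard := PSL2Card.card_psl2_odd hF hodd
      have h16 : 16 ∣ (q ^ 2 - 1) * q := by
        rw [← hcard]
        obtain ⟨k, hk⟩ := h24
        exact ⟨3 * k, by rw [hk]; ring⟩
      have hcop : Nat.Coprime 16 q := by
        have : Nat.Coprime (2 ^ 4) q := Nat.Coprime.pow_left 4 (Nat.coprime_two_left.mpr hodd)
        simpa using this
      have h16' : 16 ∣ q ^ 2 - 1 := hcop.dvd_of_dvd_mul_right h16
      have hpos : 1 ≤ q ^ 2 := Nat.one_le_pow _ _ (by obtain ⟨m, rfl⟩ := hodd; omega)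
      omega
  · intro hq
    have hodd : Odd q := by
      rcases Nat.even_or_odd q with heven | hodd
      · exfalso
        obtain ⟨m, rfl⟩ := heven
        have : (m + m) ^ 2 = 4 * m ^ 2 := by ring
        omega
      · exact hodd
    have h2 : (2 : F) ≠ 0 := Cfsg.Agent.Helper41.two_ne_zero_of_odd_card (hF ▸ hodd)
    have hcount := Cfsg.Agent.S0807.result hF hodd
    have hcard := PSL2Card.card_psl2_odd hF hodd
    have h8 : 8 ∣ Nat.card (Matrix.ProjectiveSpecialLinearGroup (Fin 2) F) := by
      have h16 : 16 ∣ q ^ 2 - 1 := by omega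
      obtain ⟨k, hk⟩ := h16
      rw [hk] at hcard
      exact ⟨k * q, by linarith⟩
    have hne : Nonempty {V : Subgroup (Matrix.ProjectiveSpecialLinearGroup (Fin 2) F) //
        IsKleinFour V} := by
      by_contra hemp
      rw [not_nonempty_iff] at hemp
      rw [Nat.card_of_isEmpty, mul_zero] at hcount
      exact Nat.card_pos.ne hcount
    obtain ⟨V, hV⟩ := hne
    have hC := PSL2Klein.centralizer_eq h2 V hV
    have hdvd := KleinNorm.card_normalizer_dvd V hV hC
    have h8N := KleinNorm.eight_dvd_card_normalizer V hV h8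
    have h12 := KleinNorm.twelve_le_card_normalizer V hV hcount
    have hN24 : Nat.card (Subgroup.normalizer
        (V : Set (Matrix.ProjectiveSpecialLinearGroup (Fin 2) F))) = 24 := by
      have hle : Nat.card (Subgroup.normalizer
          (V : Set (Matrix.ProjectiveSpecialLinearGroup (Fin 2) F))) ≤ 24 :=
        Nat.le_of_dvd (by norm_num) hdvd
      obtain ⟨k, hk⟩ := h8N
      rw [hk] at hdvd hle h12 ⊢
      have hk3 : k ≤ 3 := by omega
      have hk2 : 2 ≤ k := by omega
      interval_cases k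
      · norm_num at hdvd
      · rfl
    exact ⟨Subgroup.normalizer (V : Set (Matrix.ProjectiveSpecialLinearGroup (Fin 2) F)),
      Cfsg.Agent.S1012.result hN24 (KleinNorm.orderOf_ne_six V hV hC)⟩

end Cfsg.Agent.S0803
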