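import Cfsg.Statements.S0802
import Cfsg.Agent.Lib.Helper98.KleinNorm
import Cfsg.Agent.Lib.Helper98.PSL2Klein
import Cfsg.Agent.Lib.Helper98.PSL2Card
import Cfsg.Agent.S0807
import Cfsg.Agent.S1012
import Cfsg.Agent.S0228
import Cfsg.Agent.S0252
import Cfsg.Agent.S0805

set_option autoImplicit false
set_option linter.style.haveILetI false
open Cfsg

namespace Cfsg.Agent.S0802

open Matrix Cfsg.Agent.Helper98

/-! ### `A₄ ≤ A₅` and `A₄ ≤ S₄` -/

/-- the embedding `A₄ → A₅` -/
noncomputable def altEmb : alternatingGroup (Fin 4) →* alternatingGroup (Fin 5) :=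
  ((Equiv.Perm.viaEmbeddingHom (Fin.castSuccEmb (n := 4))).comp
    (alternatingGroup (Fin 4)).subtype).codRestrict (alternatingGroup (Fin 5)) (by
      intro g
      classical
      rw [Equiv.Perm.mem_alternatingGroup]
      simp only [MonoidHom.coe_comp, Subgroup.coe_subtype, Function.comp_apply,
        Equiv.Perm.viaEmbeddingHom_apply]
      unfold Equiv.Perm.viaEmbedding
      rw [Equiv.Perm.sign_extendDomain]
      exact Equiv.Perm.mem_alternatingGroup.mp g.2)

theorem altEmb_injective : Function.Injective altEmb := by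
  intro a b hab
  have h1 := congrArg Subtype.val hab
  simp only [altEmb, MonoidHom.codRestrict_apply, MonoidHom.coe_comp, Subgroup.coe_subtype,
    Function.comp_apply] at h1
  exact Subtype.ext (Equiv.Perm.viaEmbeddingHom_injective _ h1)

/-- a subgroup isomorphic to `A₄` from an injective hom -/
theorem exists_of_injective {G : Type*} [Group G] (f : alternatingGroup (Fin 4) →* G)
    (hf : Function.Injective f) :
    ∃ H : Subgroup G, Nonempty (H ≃* alternatingGroup (Fin 4)) :=
  ⟨f.range, ⟨(MonoidHom.ofInjective hf).symm⟩⟩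

/-! ### characteristic two, `n` odd -/

theorem two_pow_odd (n : ℕ) (hn : Odd n) : ∃ k, 2 ^ n - 1 = 3 * k + 1 := by
  obtain ⟨m, rfl⟩ := hn
  have h : ∀ m : ℕ, ∃ k, 2 ^ (2 * m + 1) = 3 * k + 2 := by
    intro m
    induction m with
    | zero => exact ⟨0, by norm_num⟩
    | succ m ih =>
      obtain ⟨k, hk⟩ := ih
      refine ⟨4 * k + 2, ?_⟩
      have : 2 ^ (2 * (m + 1) + 1) = 4 * 2 ^ (2 * m + 1) := by ring
      rw [this, hk]; ring
  obtain ⟨k, hk⟩ := h m
  refine ⟨k, ?_⟩
  generalize 2 ^ (2 * m + 1) = x at hk ⊢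
  omega

theorem cube_root_trivial {F : Type*} [Field F] [Fintype F] (n : ℕ) (hn : Odd n)
    (hF : Fintype.card F = 2 ^ n) (β : F) (hβ : β ^ 3 = 1) : β = 1 := by
  have hβ0 : β ≠ 0 := by
    rintro rfl
    simp at hβ
  have h1 := FiniteField.pow_card_sub_one_eq_one β hβ0
  obtain ⟨k, hk⟩ := two_pow_odd n hn
  rw [hF, hk, pow_succ, pow_mul, hβ, one_pow, one_mul] at h1
  exact h1

theorem neg_one_eq_one {F : Type*} [Field F] (h2 : (2 : F) = 0) :
    (-1 : Matrix (Fin 2) (Fin 2) F) = 1 := by
  rw [neg_eq_iff_add_eq_zero, ← two_smul F (1 : Matrix (Fin 2) (Fin 2) F), h2, zero_smul]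

theorem mk_inj_char2 {F : Type*} [Field F] (h2 : (2 : F) = 0)
    (X Y : SpecialLinearGroup (Fin 2) F)
    (h : (QuotientGroup.mk X : ProjectiveSpecialLinearGroup (Fin 2) F) = QuotientGroup.mk Y) :
    X = Y := by
  rw [Cfsg.Agent.Helper41.psl2_mk_eq_mk_iff] at h
  rcases h with h | h
  · exact h.symm
  · rw [h]
    apply Subtype.ext
    rw [Matrix.SpecialLinearGroup.coe_neg]
    have : -(X : Matrix (Fin 2) (Fin 2) F) = (-1 : Matrix (Fin 2) (Fin 2) F) * X := by simp
    rw [this, neg_one_eq_one h2, one_mul]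

/-- the matrix argument: an involution `A` and an element `G` of order three with `G A G⁻¹`
commuting with `A`, in characteristic two over a field with no cube roots of unity -/
theorem matrix_arg {F : Type*} [Field F] [Fintype F] (n : ℕ) (hn : Odd n)
    (hF : Fintype.card F = 2 ^ n) (h2 : (2 : F) = 0)
    (A B G : Matrix (Fin 2) (Fin 2) F) (hA1 : A ≠ 1) (hAA : A * A = 1) (hBB : B * B = 1)
    (hG3 : G * G * G = 1) (hBG : B * G = G * A) (hcomm : A * B = B * A) : B = A := by
  have hchar : ∀ M : Matrix (Fin 2) (Fin 2) F, M + M = 0 := by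
    intro M
    rw [← two_smul F M, h2, zero_smul]
  set NA := A + 1 with hNA
  set NB := B + 1 with hNB
  have hNA0 : NA ≠ 0 := by
    intro h
    apply hA1
    have : A = -1 := eq_neg_of_add_eq_zero_left h
    rw [this, neg_one_eq_one h2]
  have hNA2 : NA * NA = 0 := by
    rw [hNA, add_mul, mul_add, mul_add, hAA, mul_one, one_mul, mul_one]
    have := hchar A
    have h1 := hchar (1 : Matrix (Fin 2) (Fin 2) F)
    calc 1 + A + (A + 1) = (A + A) + (1 + 1) := by abel
      _ = 0 := by rw [this, h1, add_zero]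
  have hNB2 : NB * NB = 0 := by
    rw [hNB, add_mul, mul_add, mul_add, hBB, mul_one, one_mul, mul_one]
    have := hchar B
    have h1 := hchar (1 : Matrix (Fin 2) (Fin 2) F)
    calc 1 + B + (B + 1) = (B + B) + (1 + 1) := by abel
      _ = 0 := by rw [this, h1, add_zero]
  have hcommN : NA * NB = NB * NA := by
    rw [hNA, hNB, add_mul, mul_add, mul_add, add_mul, mul_add, mul_add, hcomm]
    simp only [mul_one, one_mul]
    abel
  have hNAns : ¬ (NA 0 1 = 0 ∧ NA 1 0 = 0 ∧ NA 0 0 = NA 1 1) := by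
    rintro ⟨h01, h10, h00⟩
    apply hNA0
    have e00 := congrFun (congrFun hNA2 0) 0
    simp only [Matrix.mul_apply, Fin.sum_univ_two, h01, h10, Matrix.zero_apply] at e00
    have hz : NA 0 0 = 0 := by
      have : NA 0 0 * NA 0 0 = 0 := by linear_combination e00
      exact mul_self_eq_zero.mp this
    ext i j
    fin_cases i <;> fin_cases j <;> simp [h01, h10, hz, ← h00]
  obtain ⟨α, β, hαβ⟩ := Cfsg.Agent.Helper41.exists_eq_smul_add_smul_of_commute NA NB hNAns hcommN
  have hα : α = 0 := by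
    have h3 := hNB2
    rw [hαβ] at h3
    have e : (α • (1 : Matrix (Fin 2) (Fin 2) F) + β • NA) * (α • 1 + β • NA) =
        (α * α) • (1 : Matrix (Fin 2) (Fin 2) F) + (α * β) • (NA + NA) + (β * β) • (NA * NA) := by
      simp only [add_mul, mul_add, smul_mul_assoc, mul_smul_comm, one_mul, mul_one]
      module
    rw [e, hchar NA, hNA2, smul_zero, smul_zero, add_zero, add_zero] at h3
    have e00 := congrFun (congrFun h3 0) 0
    simp only [Matrix.smul_apply, Matrix.one_apply_eq, smul_eq_mul, mul_one,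
      Matrix.zero_apply] at e00
    exact mul_self_eq_zero.mp e00
  rw [hα, zero_smul, zero_add] at hαβ
  -- `G * NA = NB * G`
  have hGN : G * NA = β • (NA * G) := by
    rw [← smul_mul_assoc, ← hαβ, hNA, hNB, mul_add, add_mul, hBG, mul_one, one_mul]
  have hG3N : G * G * G * NA = (β ^ 3) • (NA * (G * G * G)) := by
    calc G * G * G * NA = G * (G * (G * NA)) := by simp only [mul_assoc]
      _ = G * (G * (β • (NA * G))) := by rw [hGN]
      _ = β • (G * ((G * NA) * G)) := by simp only [mul_smul_comm, mul_assoc]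
      _ = β • (G * ((β • (NA * G)) * G)) := by rw [hGN]
      _ = (β * β) • ((G * NA) * G * G) := by
        simp only [mul_smul_comm, smul_mul_assoc, mul_assoc, smul_smul]
      _ = (β * β) • ((β • (NA * G)) * G * G) := by rw [hGN]
      _ = (β ^ 3) • (NA * (G * G * G)) := by
        simp only [smul_mul_assoc, mul_assoc, smul_smul]
        congr 1
        ring
  rw [hG3, one_mul, mul_one] at hG3N
  have hβ3 : β ^ 3 = 1 := by
    by_contra hne
    apply hNA0
    have h5 : (β ^ 3 - 1) • NA = 0 := by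
      rw [sub_smul, one_smul, ← hG3N, sub_self]
    rcases smul_eq_zero.mp h5 with h | h
    · exact absurd (sub_eq_zero.mp h) hne
    · exact h
  have hβ1 := cube_root_trivial n hn hF β hβ3
  rw [hβ1, one_smul] at hαβ
  exact add_right_cancel hαβ

theorem exists_elts : ∃ a g : alternatingGroup (Fin 4), a ≠ 1 ∧ a * a = 1 ∧ g * g * g = 1 ∧
    g * a * g⁻¹ ≠ a ∧ a * (g * a * g⁻¹) = (g * a * g⁻¹) * a := by decide

theorem no_A4_char2 {F : Type*} [Field F] [Fintype F] (n : ℕ) (hn : Odd n)
    (hF : Fintype.card F = 2 ^ n) (h2 : (2 : F) = 0)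
    (a g : ProjectiveSpecialLinearGroup (Fin 2) F) (ha1 : a ≠ 1) (haa : a * a = 1)
    (hg3 : g * g * g = 1) (hne : g * a * g⁻¹ ≠ a)
    (hcomm : a * (g * a * g⁻¹) = (g * a * g⁻¹) * a) : False := by
  obtain ⟨A, rfl⟩ := QuotientGroup.mk_surjective a
  obtain ⟨G, rfl⟩ := QuotientGroup.mk_surjective g
  have hA1 : A ≠ 1 := by
    rintro rfl
    exact ha1 rfl
  have hAA : A * A = 1 := mk_inj_char2 h2 _ _ (by rw [QuotientGroup.mk_mul, haa]; rfl)
  have hG3 : G * G * G = 1 :=
    mk_inj_char2 h2 _ _ (by rw [QuotientGroup.mk_mul, QuotientGroup.mk_mul, hg3]; rfl)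
  have hcomm' : A * (G * A * G⁻¹) = (G * A * G⁻¹) * A :=
    mk_inj_char2 h2 _ _ (by
      simp only [QuotientGroup.mk_mul, QuotientGroup.mk_inv]
      exact hcomm)
  apply hne
  have key : G * A * G⁻¹ = A := by
    apply Subtype.ext
    apply matrix_arg n hn hF h2 (A : Matrix (Fin 2) (Fin 2) F) _ G
    · intro h
      exact hA1 (Subtype.ext h)
    · rw [← Matrix.SpecialLinearGroup.coe_mul, hAA]; rfl
    · rw [← Matrix.SpecialLinearGroup.coe_mul]
      have : G * A * G⁻¹ * (G * A * G⁻¹) = 1 := by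
        calc G * A * G⁻¹ * (G * A * G⁻¹) = G * (A * A) * G⁻¹ := by group
          _ = 1 := by rw [hAA]; group
      rw [this]; rfl
    · rw [← Matrix.SpecialLinearGroup.coe_mul, ← Matrix.SpecialLinearGroup.coe_mul, hG3]; rfl
    · have : G * A * G⁻¹ * G = G * A := by group
      rw [← Matrix.SpecialLinearGroup.coe_mul, ← Matrix.SpecialLinearGroup.coe_mul, this]
    · rw [← Matrix.SpecialLinearGroup.coe_mul, ← Matrix.SpecialLinearGroup.coe_mul, hcomm']
  rw [← QuotientGroup.mk_inv, ← QuotientGroup.mk_mul, ← QuotientGroup.mk_mul, key]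

/-! ### odd characteristic -/

theorem exists_A4_odd {F : Type*} [Field F] [Fintype F] {q : ℕ} (hF : Fintype.card F = q)
    (hodd : Odd q) :
    ∃ H : Subgroup (Matrix.ProjectiveSpecialLinearGroup (Fin 2) F),
      Nonempty (H ≃* alternatingGroup (Fin 4)) := by
  classical
  have h2 : (2 : F) ≠ 0 := Cfsg.Agent.Helper41.two_ne_zero_of_odd_card (hF ▸ hodd)
  have hcount := Cfsg.Agent.S0807.result hF hodd
  have hne : Nonempty {V : Subgroup (Matrix.ProjectiveSpecialLinearGroup (Fin 2) F) //
      IsKleinFour V} := by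
    by_contra hemp
    rw [not_nonempty_iff] at hemp
    rw [Nat.card_of_isEmpty, mul_zero] at hcount
    exact Nat.card_pos.ne hcount
  obtain ⟨V, hV⟩ := hne
  have hC := PSL2Klein.centralizer_eq h2 V hV
  have hdvd := KleinNorm.card_normalizer_dvd V hV hC
  have h12 := KleinNorm.twelve_le_card_normalizer V hV hcount
  have hcases : Nat.card (Subgroup.normalizer
      (V : Set (Matrix.ProjectiveSpecialLinearGroup (Fin 2) F))) = 12 ∨
      Nat.card (Subgroup.normalizer
      (V : Set (Matrix.ProjectiveSpecialLinearGroup (Fin 2) F))) = 24 := by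
    have hle : Nat.card (Subgroup.normalizer
        (V : Set (Matrix.ProjectiveSpecialLinearGroup (Fin 2) F))) ≤ 24 :=
      Nat.le_of_dvd (by norm_num) hdvd
    generalize Nat.card (Subgroup.normalizer
      (V : Set (Matrix.ProjectiveSpecialLinearGroup (Fin 2) F))) = m at *
    interval_cases m <;> omega
  rcases hcases with h | h
  · exact ⟨_, Cfsg.Agent.S0228.result h (KleinNorm.no_central_involution V hV hC h)⟩
  · obtain ⟨e⟩ := Cfsg.Agent.S1012.result h (KleinNorm.orderOf_ne_six V hV hC)
    apply exists_of_injective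
      (((Subgroup.normalizer (V : Set (Matrix.ProjectiveSpecialLinearGroup (Fin 2) F))).subtype.comp
        e.symm.toMonoidHom).comp (alternatingGroup (Fin 4)).subtype)
    intro a b hab
    simp only [MonoidHom.coe_comp, Subgroup.coe_subtype, MulEquiv.coe_toMonoidHom,
      Function.comp_apply] at hab
    exact Subtype.ext (e.symm.injective (Subtype.ext hab))

/-! ### characteristic two, `n` even -/

theorem exists_A4_even {F : Type*} [Field F] [Fintype F] (n : ℕ) (hn : Even n)
    (hF : Fintype.card F = 2 ^ n) :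
    ∃ H : Subgroup (Matrix.ProjectiveSpecialLinearGroup (Fin 2) F),
      Nonempty (H ≃* alternatingGroup (Fin 4)) := by
  classical
  haveI : Fact (Nat.Prime 2) := ⟨Nat.prime_two⟩
  letI : Fintype (GaloisField 2 2) := Fintype.ofFinite _
  have hK : Fintype.card (GaloisField 2 2) = 4 := by
    rw [← Nat.card_eq_fintype_card, GaloisField.card 2 2 (by norm_num)]; norm_num
  obtain ⟨m, rfl⟩ := hn
  have hKF : Fintype.card (GaloisField 2 2) ^ m = Fintype.card F := by
    rw [hK, hF, show (4 : ℕ) = 2 ^ 2 by norm_num, ← pow_mul]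
    congr 1
    omega
  obtain ⟨φ⟩ := Cfsg.Agent.S0805.exists_ringHom m hKF
  obtain ⟨e⟩ := Cfsg.Agent.S0252.result (F := GaloisField 2 2) hK
  apply exists_of_injective (((Cfsg.Agent.S0805.pslMap φ).comp e.symm.toMonoidHom).comp altEmb)
  intro a b hab
  simp only [MonoidHom.coe_comp, MulEquiv.coe_toMonoidHom, Function.comp_apply] at hab
  exact altEmb_injective (e.symm.injective (Cfsg.Agent.S0805.pslMap_injective φ hab))

/-- PSL_2(p^n) contains A_4 unless p = 2 and n is odd. -/
theorem result {F : Type*} [Field F] [Fintype F] (p n : ℕ) [Fact p.Prime] [CharP F p] (hF : Fintype.card F = p ^ n) : (∃ H : Subgroup (Matrix.ProjectiveSpecialLinearGroup (Fin 2) F), Nonempty (H ≃* alternatingGroup (Fin 4))) ↔ ¬ (p = 2 ∧ Odd n) := by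
  constructor
  · rintro ⟨H, ⟨e⟩⟩ ⟨rfl, hn⟩
    have h2 : (2 : F) = 0 := by
      have := CharP.cast_eq_zero F 2
      exact_mod_cast this
    obtain ⟨a, g, ha1, haa, hg3, hne, hcomm⟩ := exists_elts
    apply no_A4_char2 n hn hF h2 ((e.symm a : H) : Matrix.ProjectiveSpecialLinearGroup (Fin 2) F)
      ((e.symm g : H) : Matrix.ProjectiveSpecialLinearGroup (Fin 2) F)
    · intro h
      rw [OneMemClass.coe_eq_one, EmbeddingLike.map_eq_one_iff] at h
      exact ha1 h
    · rw [← Subgroup.coe_mul, ← map_mul, haa, map_one, Subgroup.coe_one]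
    · rw [← Subgroup.coe_mul, ← Subgroup.coe_mul, ← map_mul, ← map_mul, hg3, map_one,
        Subgroup.coe_one]
    · intro h
      apply hne
      rw [← Subgroup.coe_inv, ← Subgroup.coe_mul, ← Subgroup.coe_mul, ← map_inv, ← map_mul,
        ← map_mul] at h
      exact e.symm.injective (Subtype.ext h)
    · rw [← Subgroup.coe_inv, ← Subgroup.coe_mul, ← Subgroup.coe_mul, ← Subgroup.coe_mul,
        ← Subgroup.coe_mul, ← map_inv, ← map_mul, ← map_mul, ← map_mul, ← map_mul, hcomm]
  · intro h
    by_cases hp : p = 2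
    · subst hp
      have hn : Even n := by
        rw [← Nat.not_odd_iff_even]
        intro hodd
        exact h ⟨rfl, hodd⟩
      exact exists_A4_even n hn hF
    · have hodd : Odd (p ^ n) := (Nat.Prime.odd_of_ne_two (Fact.out) hp).pow
      exact exists_A4_odd hF hodd

end Cfsg.Agent.S0802
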