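import Cfsg.Statements.S5887

set_option autoImplicit false
open Cfsg Cfsg.Geo Matrix

namespace Cfsg.Agent.S5887

section aux

set_option linter.unusedSectionVars false
set_option linter.unusedVariables false
set_option linter.style.haveILetI false

variable {F : Type*} [Field F] [Fintype F] {n : ℕ}

theorem isField_of (K : Subalgebra F (Matrix (Fin n) (Fin n) F)) {r : ℕ}
    (hK : IsFieldSubalgebra r K) (hn : 0 < n) : IsField K := by
  have : Nonempty (Fin n) := ⟨⟨0, hn⟩⟩
  refine ⟨⟨0, 1, ?_⟩, fun x y => Subtype.ext (hK.comm x x.2 y y.2), ?_⟩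
  · intro h
    have := congrArg Subtype.val h
    simp only [ZeroMemClass.coe_zero, OneMemClass.coe_one] at this
    exact zero_ne_one this
  · intro a ha
    obtain ⟨y, hy, hxy⟩ := hK.inv a a.2 (fun h => ha (Subtype.ext h))
    exact ⟨⟨y, hy⟩, Subtype.ext hxy⟩

/-- The subalgebra is a field. -/
class FieldSub (K : Subalgebra F (Matrix (Fin n) (Fin n) F)) : Prop where
  isField : IsField K

open Classical in
/-- The field structure on a field subalgebra. -/
noncomputable instance fieldInst (K : Subalgebra F (Matrix (Fin n) (Fin n) F)) [hK : FieldSub K] :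
    Field K :=
  { (inferInstance : Ring K) with
    mul_comm := hK.isField.mul_comm
    inv := fun a => if ha : a = 0 then 0 else Classical.choose (hK.isField.mul_inv_cancel ha)
    exists_pair_ne := hK.isField.exists_pair_ne
    mul_inv_cancel := fun a ha => by
      show a * (if ha : a = 0 then 0 else Classical.choose (hK.isField.mul_inv_cancel ha)) = 1
      rw [dif_neg ha]
      exact Classical.choose_spec (hK.isField.mul_inv_cancel ha)
    inv_zero := dif_pos rfl
    nnqsmul := _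
    nnqsmul_def := fun _ _ => rfl
    qsmul := _
    qsmul_def := fun _ _ => rfl }

/-- A subalgebra of the matrix algebra acts on column vectors. -/
noncomputable instance modInst (K : Subalgebra F (Matrix (Fin n) (Fin n) F)) :
    Module K (Fin n → F) :=
  Module.compHom (Fin n → F)
    ((Matrix.toLinAlgEquiv' (R := F) (n := Fin n)).toAlgHom.toRingHom.comp K.val.toRingHom)

theorem smul_def' (K : Subalgebra F (Matrix (Fin n) (Fin n) F)) (k : K) (v : Fin n → F) :
    k • v = (k : Matrix (Fin n) (Fin n) F).mulVec v := rfl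

theorem card_K (K : Subalgebra F (Matrix (Fin n) (Fin n) F)) {r : ℕ}
    (hK : IsFieldSubalgebra r K) : Nat.card K = Fintype.card F ^ r := by
  rw [Module.natCard_eq_pow_finrank (K := F), hK.finrank_eq, Nat.card_eq_fintype_card]

theorem pow_sub_one_dvd (q s r : ℕ) (hsr : s ∣ r) : q ^ s - 1 ∣ q ^ r - 1 := by
  obtain ⟨t, rfl⟩ := hsr
  rw [pow_mul]
  have := Nat.sub_dvd_pow_sub_pow (q ^ s) 1 t
  rwa [one_pow] at this

theorem exists_elements (K : Subalgebra F (Matrix (Fin n) (Fin n) F)) {r : ℕ}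
    (hK : IsFieldSubalgebra r K) (hn : 0 < n) (s : ℕ) (hs1 : 1 < s) (hsr : s ∣ r) (hlt : s < r) :
    (∃ k ∈ K, k ^ (Fintype.card F ^ s) ≠ k) ∧
      (∃ x ∈ K, x ^ (Fintype.card F ^ s) = x ∧ ∀ c : F, x ≠ algebraMap F _ c) := by
  obtain ⟨q, hq⟩ : ∃ q, q = Fintype.card F := ⟨_, rfl⟩
  rw [← hq]
  have hq2 : 2 ≤ q := by rw [hq]; exact Fintype.one_lt_card
  have hcard := card_K K hK
  rw [← hq] at hcard
  have hqs : q ^ s < q ^ r := Nat.pow_lt_pow_right (by omega) hlt
  have hqs1 : q ^ 1 < q ^ s := Nat.pow_lt_pow_right (by omega) hs1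
  rw [pow_one] at hqs1
  have hdvd := pow_sub_one_dvd q s r hsr
  haveI : FieldSub K := ⟨isField_of K hK hn⟩
  have hfin : Finite K := inferInstance
  have hcardU : Nat.card Kˣ = q ^ r - 1 := by
    rw [Nat.card_units, hcard]
  obtain ⟨ζ, hζ⟩ := IsCyclic.exists_generator (α := Kˣ)
  have hord : orderOf ζ = q ^ r - 1 := by
    rw [orderOf_eq_card_of_forall_mem_zpowers hζ, hcardU]
  constructor
  · refine ⟨((ζ : K) : Matrix (Fin n) (Fin n) F), (ζ : K).2, ?_⟩
    intro h
    have h1 : (ζ : K) ^ (q ^ s) = (ζ : K) := by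
      apply Subtype.ext
      rw [SubmonoidClass.coe_pow]
      exact h
    have h2 : ζ ^ (q ^ s - 1) = 1 := by
      apply Units.ext
      rw [Units.val_pow_eq_pow_val, Units.val_one]
      have h3 : (ζ : K) ^ (q ^ s - 1) * (ζ : K) = 1 * (ζ : K) := by
        rw [← pow_succ, one_mul, show q ^ s - 1 + 1 = q ^ s by omega, h1]
      exact mul_right_cancel₀ (Units.ne_zero ζ) h3
    have h4 := orderOf_dvd_of_pow_eq_one h2
    rw [hord] at h4
    have := Nat.le_of_dvd (by omega) h4
    omega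
  · obtain ⟨m, hm⟩ := hdvd
    have hx : (ζ ^ m) ^ (q ^ s - 1) = 1 := by
      rw [← pow_mul, mul_comm, ← hm, ← hord]
      exact pow_orderOf_eq_one ζ
    refine ⟨(((ζ ^ m : Kˣ) : K) : Matrix (Fin n) (Fin n) F), ((ζ ^ m : Kˣ) : K).2, ?_, ?_⟩
    · have h1 : ((ζ ^ m : Kˣ) : K) ^ (q ^ s) = ((ζ ^ m : Kˣ) : K) := by
        have : ((ζ ^ m : Kˣ) : K) ^ (q ^ s - 1) = 1 := by
          rw [← Units.val_pow_eq_pow_val, hx, Units.val_one]
        calc ((ζ ^ m : Kˣ) : K) ^ (q ^ s) = ((ζ ^ m : Kˣ) : K) ^ (q ^ s - 1 + 1) := by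
              rw [show q ^ s - 1 + 1 = q ^ s by omega]
          _ = ((ζ ^ m : Kˣ) : K) := by rw [pow_succ, this, one_mul]
      have := congrArg Subtype.val h1
      rw [SubmonoidClass.coe_pow] at this
      exact this
    · intro c hc
      -- x is scalar c, so x^(q-1) = 1
      have hc0 : c ≠ 0 := by
        rintro rfl
        rw [map_zero] at hc
        have : ((ζ ^ m : Kˣ) : K) = 0 := Subtype.ext hc
        exact Units.ne_zero _ this
      have h1 : (((ζ ^ m : Kˣ) : K) : Matrix (Fin n) (Fin n) F) ^ (q - 1) = 1 := by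
        rw [hc, ← map_pow, hq, FiniteField.pow_card_sub_one_eq_one c hc0, map_one]
      have h2 : (ζ ^ m) ^ (q - 1) = 1 := by
        apply Units.ext
        apply Subtype.ext
        rw [Units.val_pow_eq_pow_val, SubmonoidClass.coe_pow, h1]
        rfl
      rw [← pow_mul] at h2
      have h3 := orderOf_dvd_of_pow_eq_one h2
      rw [hord, hm] at h3
      have hmpos : 0 < m := by
        rcases Nat.eq_zero_or_pos m with h | h
        · rw [h, mul_zero] at hm
          omega
        · exact h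
      have h4 : q ^ s - 1 ∣ q - 1 := by
        rw [mul_comm (q ^ s - 1) m] at h3
        exact Nat.dvd_of_mul_dvd_mul_left hmpos h3
      have := Nat.le_of_dvd (by omega) h4
      omega


theorem exists_functional (K : Subalgebra F (Matrix (Fin n) (Fin n) F)) {r : ℕ}
    (hK : IsFieldSubalgebra r K) (hn : 0 < n) (hrn : r < n) :
    ∃ (π : (Fin n → F) → Matrix (Fin n) (Fin n) F) (v₁ w : Fin n → F),
      (∀ v, π v ∈ K) ∧ (∀ v v', π (v + v') = π v + π v') ∧
      (∀ k ∈ K, ∀ v, π (k.mulVec v) = k * π v) ∧ π v₁ = 1 ∧ π w = 0 ∧ w ≠ 0 := by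
  -- the vector v₁ and the F-linear orbit map
  obtain ⟨v₁, hv₁⟩ : ∃ v₁ : Fin n → F, v₁ ≠ 0 := by
    refine ⟨Pi.single ⟨0, hn⟩ 1, ?_⟩
    intro h
    have := congrFun h ⟨0, hn⟩
    simp at this
  let orb : K →ₗ[F] (Fin n → F) :=
    { toFun := fun k => (k : Matrix (Fin n) (Fin n) F).mulVec v₁
      map_add' := fun a b => by simp [Matrix.add_mulVec]
      map_smul' := fun c a => by simp [Matrix.smul_mulVec] }
  have hrange : LinearMap.range orb ≠ ⊤ := by
    intro h
    have h1 := LinearMap.finrank_range_le orb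
    rw [h, finrank_top, hK.finrank_eq, Module.finrank_fin_fun] at h1
    omega
  obtain ⟨w, hw⟩ : ∃ w, w ∉ LinearMap.range orb := by
    by_contra hcon
    simp only [not_exists, not_not] at hcon
    exact hrange (eq_top_iff.mpr fun x _ => hcon x)
  have hw0 : w ≠ 0 := by
    rintro rfl
    exact hw (Submodule.zero_mem _)
  haveI : FieldSub K := ⟨isField_of K hK hn⟩
  have hsmul : ∀ (k : K) (v : Fin n → F), k • v = (k : Matrix (Fin n) (Fin n) F).mulVec v :=
    fun k v => rfl
  -- v₁ is not in the K-span of w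
  have hv₁w : v₁ ∉ Submodule.span K {w} := by
    intro h
    rw [Submodule.mem_span_singleton] at h
    obtain ⟨c, hc⟩ := h
    have hc0 : c ≠ 0 := fun h0 => hv₁ (by
      rw [← hc, h0]
      exact zero_smul K w)
    apply hw
    refine ⟨c⁻¹, ?_⟩
    show (c⁻¹ : K).1.mulVec v₁ = w
    rw [← hsmul, ← hc]
    calc c⁻¹ • c • w = (c⁻¹ * c) • w := smul_smul _ _ _
      _ = (1 : K) • w := congrArg (· • w) (inv_mul_cancel₀ hc0)
      _ = w := one_smul K w
  obtain ⟨f, hf1, hf2⟩ := Submodule.exists_dual_map_eq_bot_of_notMem hv₁w inferInstance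
  have hfw : f w = 0 := by
    have : f w ∈ (Submodule.span K {w}).map f := ⟨w, Submodule.mem_span_singleton_self w, rfl⟩
    rw [hf2] at this
    exact this
  refine ⟨fun v => (((f v₁)⁻¹ * f v : K) : Matrix (Fin n) (Fin n) F), v₁, w, ?_, ?_, ?_, ?_, ?_, hw0⟩
  · intro v
    exact ((f v₁)⁻¹ * f v : K).2
  · intro v v'
    simp only
    rw [map_add, mul_add]
    rfl
  · intro k hk v
    simp only
    have : k.mulVec v = (⟨k, hk⟩ : K) • v := (hsmul ⟨k, hk⟩ v).symm
    rw [this, map_smul, smul_eq_mul]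
    have : (f v₁)⁻¹ * ((⟨k, hk⟩ : K) * f v) = (⟨k, hk⟩ : K) * ((f v₁)⁻¹ * f v) := by ring
    rw [this]
    rfl
  · simp only
    rw [inv_mul_cancel₀ hf1]
    rfl
  · simp only
    rw [hfw, mul_zero]
    rfl


section tools

open Polynomial in
theorem det_one_add_of_isNilpotent {m : Type*} [Fintype m] [DecidableEq m]
    (M : Matrix m m F) (hM : IsNilpotent M) : (1 + M).det = 1 := by
  have hu := Matrix.isUnit_charpolyRev_of_isNilpotent hM
  obtain ⟨c, hc, hcC⟩ := Polynomial.isUnit_iff.mp hu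
  have h0 : c = 1 := by
    have := Matrix.eval_charpolyRev (M := M)
    rw [← hcC, eval_C] at this
    exact this
  have h1 : eval (-1) M.charpolyRev = (1 + M).det := by
    rw [Matrix.charpolyRev, ← coe_evalRingHom, RingHom.map_det]
    congr 1
    ext i j
    simp [Matrix.one_apply, Matrix.map_apply, Matrix.sub_apply, Matrix.add_apply]
    split_ifs <;> simp
  rw [← h1, ← hcC, eval_C, h0]

/-- The unipotent element `1 + E` for `E * E = 0`. -/
def unip (E : Matrix (Fin n) (Fin n) F) (hE : E * E = 0) : GL (Fin n) F :=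
  ⟨1 + E, 1 - E, by
    rw [mul_sub, mul_one, add_mul, one_mul, hE]; abel, by
    rw [sub_mul, one_mul, mul_add, mul_one, hE]; abel⟩

theorem unip_val (E : Matrix (Fin n) (Fin n) F) (hE : E * E = 0) :
    ((unip E hE : GL (Fin n) F) : Matrix (Fin n) (Fin n) F) = 1 + E := rfl

theorem unip_inv_val (E : Matrix (Fin n) (Fin n) F) (hE : E * E = 0) :
    (((unip E hE)⁻¹ : GL (Fin n) F) : Matrix (Fin n) (Fin n) F) = 1 - E := rfl

theorem unip_mem_sl (E : Matrix (Fin n) (Fin n) F) (hE : E * E = 0) :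
    unip E hE ∈ specialLinear (Fin n) F := by
  unfold specialLinear
  rw [MonoidHom.mem_ker]
  apply Units.ext
  rw [Matrix.GeneralLinearGroup.val_det_apply, unip_val, Units.val_one]
  exact det_one_add_of_isNilpotent E ⟨2, by rw [pow_two, hE]⟩

end tools


section subfield

theorem frob_add (hn : 0 < n) (s : ℕ) {x y : Matrix (Fin n) (Fin n) F} (hxy : x * y = y * x) :
    (x + y) ^ (Fintype.card F ^ s) = x ^ (Fintype.card F ^ s) + y ^ (Fintype.card F ^ s) := by
  have : Nonempty (Fin n) := ⟨⟨0, hn⟩⟩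
  have hchar := ringChar.charP F
  have hp : Fact (ringChar F).Prime := ⟨CharP.char_is_prime F (ringChar F)⟩
  obtain ⟨e, _, he⟩ := FiniteField.card F (ringChar F)
  rw [he, ← pow_mul]
  exact add_pow_char_pow_of_commute (ringChar F) (e * s) (show Commute x y from hxy)

/-- The subfield of `K` fixed by `x ↦ x ^ (q ^ s)`. -/
def subfield (K : Subalgebra F (Matrix (Fin n) (Fin n) F))
    (hcomm : ∀ x ∈ K, ∀ y ∈ K, x * y = y * x) (hn : 0 < n) (s : ℕ) :
    Subalgebra F (Matrix (Fin n) (Fin n) F) where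
  carrier := {x | x ∈ K ∧ x ^ (Fintype.card F ^ s) = x}
  mul_mem' := by
    rintro a b ⟨ha, ha'⟩ ⟨hb, hb'⟩
    refine ⟨K.mul_mem ha hb, ?_⟩
    rw [(show Commute a b from hcomm a ha b hb).mul_pow, ha', hb']
  one_mem' := ⟨K.one_mem, one_pow _⟩
  add_mem' := by
    rintro a b ⟨ha, ha'⟩ ⟨hb, hb'⟩
    refine ⟨K.add_mem ha hb, ?_⟩
    rw [frob_add hn s (hcomm a ha b hb), ha', hb']
  zero_mem' := ⟨K.zero_mem, zero_pow (by positivity)⟩
  algebraMap_mem' := by
    intro c
    refine ⟨K.algebraMap_mem c, ?_⟩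
    rw [← map_pow, FiniteField.pow_card_pow]

theorem mem_subfield (K : Subalgebra F (Matrix (Fin n) (Fin n) F))
    (hcomm : ∀ x ∈ K, ∀ y ∈ K, x * y = y * x) (hn : 0 < n) (s : ℕ) (x : Matrix (Fin n) (Fin n) F) :
    x ∈ subfield K hcomm hn s ↔ x ∈ K ∧ x ^ (Fintype.card F ^ s) = x := Iff.rfl

theorem normalizer_le (K : Subalgebra F (Matrix (Fin n) (Fin n) F))
    (hcomm : ∀ x ∈ K, ∀ y ∈ K, x * y = y * x) (hn : 0 < n) (s : ℕ) :
    subalgebraNormalizer K ≤ subalgebraNormalizer (subfield K hcomm hn s) := by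
  intro g hg k
  rw [mem_subfield, mem_subfield, ← hg k, Units.conj_pow]
  constructor
  · rintro ⟨h1, h2⟩
    exact ⟨h1, by rw [h2]⟩
  · rintro ⟨h1, h2⟩
    refine ⟨h1, ?_⟩
    have h3 : ((g⁻¹ : GL (Fin n) F) : Matrix (Fin n) (Fin n) F) *
        ((g : Matrix (Fin n) (Fin n) F) * k ^ (Fintype.card F ^ s) * ((g⁻¹ : GL (Fin n) F) : Matrix (Fin n) (Fin n) F)) *
        (g : Matrix (Fin n) (Fin n) F) =
        ((g⁻¹ : GL (Fin n) F) : Matrix (Fin n) (Fin n) F) *
        ((g : Matrix (Fin n) (Fin n) F) * k * ((g⁻¹ : GL (Fin n) F) : Matrix (Fin n) (Fin n) F)) *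
        (g : Matrix (Fin n) (Fin n) F) := by rw [h2]
    simpa [mul_assoc] using h3

end subfield


section vectors

theorem mat_ext_mulVec {M N : Matrix (Fin n) (Fin n) F} (h : ∀ v, M *ᵥ v = N *ᵥ v) : M = N := by
  apply Matrix.toLin'.injective
  apply LinearMap.ext
  intro v
  rw [Matrix.toLin'_apply, Matrix.toLin'_apply, h]

theorem vmv_mulVec (u φ v : Fin n → F) : Matrix.vecMulVec u φ *ᵥ v = (φ ⬝ᵥ v) • u := by
  ext i
  simp [Matrix.mulVec, dotProduct, Matrix.vecMulVec_apply, Finset.mul_sum, mul_comm, mul_left_comm]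

theorem exists_vec (x : Matrix (Fin n) (Fin n) F) (hx : ∀ c : F, x ≠ algebraMap F _ c) :
    ∃ u φ : Fin n → F, φ ⬝ᵥ u = 0 ∧ φ ⬝ᵥ (x *ᵥ u) = 1 := by
  by_cases h : ∃ i j, i ≠ j ∧ x i j ≠ 0
  · obtain ⟨i, j, hij, hxij⟩ := h
    refine ⟨Pi.single j 1, Pi.single i (x i j)⁻¹, ?_, ?_⟩
    · rw [single_dotProduct, Pi.single_eq_of_ne hij, mul_zero]
    · rw [single_dotProduct, Matrix.mulVec_single_one, Matrix.col_apply, inv_mul_cancel₀ hxij]
  · simp only [not_exists, not_and, not_not] at h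
    have hdiag : ∃ i j, x i i ≠ x j j := by
      by_contra hcon
      simp only [not_exists, not_not] at hcon
      rcases Nat.eq_zero_or_pos n with hn | hn
      · subst hn
        exact hx 0 (Subsingleton.elim _ _)
      · apply hx (x ⟨0, hn⟩ ⟨0, hn⟩)
        ext i j
        rw [Matrix.algebraMap_matrix_apply]
        by_cases hij : i = j
        · subst hij
          rw [if_pos rfl]
          exact hcon i ⟨0, hn⟩
        · rw [if_neg hij]
          exact h i j hij
    obtain ⟨i, j, hij⟩ := hdiag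
    have hne : i ≠ j := fun h' => hij (by rw [h'])
    refine ⟨Pi.single i 1 + Pi.single j 1,
      (x i i - x j j)⁻¹ • (Pi.single i 1 - Pi.single j 1), ?_, ?_⟩
    · rw [smul_dotProduct, sub_dotProduct, single_dotProduct, single_dotProduct]
      simp [Pi.single_eq_of_ne hne, Pi.single_eq_of_ne hne.symm]
    · rw [smul_dotProduct, sub_dotProduct, single_dotProduct, single_dotProduct,
        Matrix.mulVec_add, Matrix.mulVec_single_one, Matrix.mulVec_single_one]
      simp only [one_mul, Pi.add_apply, Matrix.col_apply, smul_eq_mul]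
      rw [h i j hne, h j i hne.symm]
      have : x i i - x j j ≠ 0 := sub_ne_zero.mpr hij
      field_simp
      ring

theorem exists_ker_vec (hn3 : 3 ≤ n) (φ ψ : Fin n → F) :
    ∃ v : Fin n → F, v ≠ 0 ∧ φ ⬝ᵥ v = 0 ∧ ψ ⬝ᵥ v = 0 := by
  let f : (Fin n → F) →ₗ[F] (Fin 2 → F) :=
    { toFun := fun v => ![φ ⬝ᵥ v, ψ ⬝ᵥ v]
      map_add' := fun a b => by
        ext i
        fin_cases i <;> simp [dotProduct_add]
      map_smul' := fun c a => by
        ext i
        fin_cases i <;> simp [dotProduct_smul] }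
  have hker : LinearMap.ker f ≠ ⊥ := by
    apply LinearMap.ker_ne_bot_of_finrank_lt
    rw [Module.finrank_fin_fun, Module.finrank_fin_fun]
    omega
  obtain ⟨v, hv, hv0⟩ := Submodule.exists_mem_ne_zero_of_ne_bot hker
  rw [LinearMap.mem_ker] at hv
  refine ⟨v, hv0, ?_, ?_⟩
  · have := congrFun hv 0
    simpa [f] using this
  · have := congrFun hv 1
    simpa [f] using this

end vectors


section witnesses

theorem inj_of (K : Subalgebra F (Matrix (Fin n) (Fin n) F)) {r : ℕ} (hK : IsFieldSubalgebra r K) :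
    ∀ d ∈ K, d ≠ 0 → ∀ u : Fin n → F, d *ᵥ u = 0 → u = 0 := by
  intro d hd hd0 u hu
  obtain ⟨y, hy, hdy⟩ := hK.inv d hd hd0
  have hyd : y * d = 1 := by rw [hK.comm y hy d hd, hdy]
  have : (y * d) *ᵥ u = 0 := by rw [← Matrix.mulVec_mulVec, hu, Matrix.mulVec_zero]
  rw [hyd, Matrix.one_mulVec] at this
  exact this

/-- A transvection not normalising a subalgebra that contains a non-scalar matrix. -/
theorem transvection_not_mem (L : Subalgebra F (Matrix (Fin n) (Fin n) F))
    (hinj : ∀ d ∈ L, d ≠ 0 → ∀ u : Fin n → F, d *ᵥ u = 0 → u = 0) (hn3 : 3 ≤ n)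
    (x : Matrix (Fin n) (Fin n) F) (hxL : x ∈ L) (hx : ∀ c : F, x ≠ algebraMap F _ c) :
    ∃ g : GL (Fin n) F, g ∈ specialLinear (Fin n) F ∧ g ∉ subalgebraNormalizer L := by
  obtain ⟨u, φ, hφu, hφxu⟩ := exists_vec x hx
  have hu0 : u ≠ 0 := by
    rintro rfl
    rw [Matrix.mulVec_zero, dotProduct_zero] at hφxu
    exact zero_ne_one hφxu
  obtain ⟨E, hEdef⟩ : ∃ E, E = Matrix.vecMulVec u φ := ⟨_, rfl⟩
  have hEv : ∀ v, E *ᵥ v = (φ ⬝ᵥ v) • u := fun v => by rw [hEdef, vmv_mulVec]
  have hE : E * E = 0 := by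
    apply mat_ext_mulVec
    intro v
    rw [← Matrix.mulVec_mulVec, hEv v, Matrix.mulVec_smul, hEv u, hφu, zero_smul, smul_zero,
      Matrix.zero_mulVec]
  refine ⟨unip E hE, unip_mem_sl E hE, ?_⟩
  intro hg
  have hk' := (hg x).mp hxL
  rw [unip_val, unip_inv_val] at hk'
  obtain ⟨k', hk'def⟩ : ∃ k', k' = (1 + E) * x * (1 - E) := ⟨_, rfl⟩
  rw [← hk'def] at hk'
  have hinv : (1 - E) * (1 + E) = 1 := by
    rw [sub_mul, one_mul, mul_add, mul_one, hE]; abel
  have hrel : k' * (1 + E) = (1 + E) * x := by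
    rw [hk'def, mul_assoc, hinv, mul_one]
  -- apply to u
  have h1 : (1 + E) *ᵥ u = u := by
    rw [Matrix.add_mulVec, Matrix.one_mulVec, hEv, hφu, zero_smul, add_zero]
  have h2 : k' *ᵥ u = x *ᵥ u + u := by
    have := congrArg (fun M => M *ᵥ u) hrel
    beta_reduce at this
    rw [← Matrix.mulVec_mulVec, h1, ← Matrix.mulVec_mulVec, Matrix.add_mulVec, Matrix.one_mulVec, hEv,
      hφxu, one_smul] at this
    exact this
  have hd : k' - x - 1 = 0 := by
    by_contra hne
    apply hu0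
    apply hinj (k' - x - 1) (L.sub_mem (L.sub_mem hk' hxL) L.one_mem) hne u
    rw [Matrix.sub_mulVec, Matrix.sub_mulVec, h2, Matrix.one_mulVec]
    abel
  have hk'x : k' = x + 1 := by
    have := sub_eq_zero.mp hd
    rw [sub_eq_iff_eq_add] at this
    rw [this]
    abel
  -- the matrix identity
  rw [hk'x] at hrel
  obtain ⟨v, hv0, hφv, hφxv⟩ := exists_ker_vec hn3 φ (Matrix.vecMul φ x)
  have hφxv' : φ ⬝ᵥ (x *ᵥ v) = 0 := by
    rw [Matrix.dotProduct_mulVec]
    exact hφxv
  have h1v : (1 + E) *ᵥ v = v := by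
    rw [Matrix.add_mulVec, Matrix.one_mulVec, hEv v, hφv, zero_smul, add_zero]
  have h2v : ((1 + E) * x) *ᵥ v = x *ᵥ v := by
    rw [← Matrix.mulVec_mulVec, Matrix.add_mulVec, Matrix.one_mulVec, hEv (x *ᵥ v), hφxv', zero_smul,
      add_zero]
  have h3v : ((x + 1) * (1 + E)) *ᵥ v = x *ᵥ v + v := by
    rw [← Matrix.mulVec_mulVec, h1v, Matrix.add_mulVec, Matrix.one_mulVec]
  have := congrArg (fun M => M *ᵥ v) hrel
  beta_reduce at this
  rw [h2v, h3v] at this
  exact hv0 (by
    have h3 : x *ᵥ v + v = x *ᵥ v + 0 := by rw [add_zero]; exact this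
    exact add_left_cancel h3)

/-- A unipotent element built from the Frobenius of `K` over the subfield: it centralises the
subfield but does not normalise `K`. -/
theorem frob_not_mem (K : Subalgebra F (Matrix (Fin n) (Fin n) F)) {r : ℕ}
    (hK : IsFieldSubalgebra r K) (hn : 0 < n) (hrn : r < n) (s : ℕ)
    (k : Matrix (Fin n) (Fin n) F) (hkK : k ∈ K) (hk : k ^ (Fintype.card F ^ s) ≠ k) :
    ∃ g : GL (Fin n) F, g ∈ specialLinear (Fin n) F ∧
      g ∈ subalgebraNormalizer (subfield K hK.comm hn s) ∧ g ∉ subalgebraNormalizer K := by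
  obtain ⟨π, v₁, w, hπK, hπadd, hπlin, hπv₁, hπw, hw0⟩ := exists_functional K hK hn hrn
  obtain ⟨N, hN⟩ : ∃ N, N = Fintype.card F ^ s := ⟨_, rfl⟩
  rw [← hN] at hk
  have hNpos : 0 < N := by rw [hN]; positivity
  have hinj := inj_of K hK
  have hπsmul : ∀ (c : F) (v : Fin n → F), π (c • v) = algebraMap F _ c * π v := by
    intro c v
    rw [← hπlin _ (K.algebraMap_mem c) v, Algebra.algebraMap_eq_smul_one, Matrix.smul_mulVec,
      Matrix.one_mulVec]
  let Elin : (Fin n → F) →ₗ[F] (Fin n → F) :=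
    { toFun := fun v => ((π v) ^ N) *ᵥ w
      map_add' := fun a b => by
        rw [hπadd, hN, frob_add hn s (hK.comm _ (hπK a) _ (hπK b)), Matrix.add_mulVec]
      map_smul' := fun c a => by
        rw [hπsmul, (show Commute (algebraMap F _ c) (π a) from Algebra.commutes c (π a)).mul_pow, ← map_pow, hN, FiniteField.pow_card_pow,
          ← Algebra.smul_def, Matrix.smul_mulVec]
        rfl }
  obtain ⟨E, hEdef⟩ : ∃ E, E = LinearMap.toMatrix' Elin := ⟨_, rfl⟩
  have hEv : ∀ v, E *ᵥ v = ((π v) ^ N) *ᵥ w := fun v => by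
    rw [hEdef, LinearMap.toMatrix'_mulVec]
    rfl
  have hEw : E *ᵥ w = 0 := by
    rw [hEv, hπw, zero_pow hNpos.ne', Matrix.zero_mulVec]
  have hEK : ∀ k' ∈ K, ∀ v, E *ᵥ (k' *ᵥ v) = (k' ^ N * (π v) ^ N) *ᵥ w := by
    intro k' hk' v
    rw [hEv, hπlin k' hk', (show Commute k' (π v) from hK.comm _ hk' _ (hπK v)).mul_pow]
  have hE : E * E = 0 := by
    apply mat_ext_mulVec
    intro v
    rw [← Matrix.mulVec_mulVec, hEv v, hEv, hπlin _ (K.pow_mem (hπK v) N), hπw, mul_zero,
      zero_pow hNpos.ne', Matrix.zero_mulVec, Matrix.zero_mulVec]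
  have hinv : (1 - E) * (1 + E) = 1 := by
    rw [sub_mul, one_mul, mul_add, mul_one, hE]; abel
  have hinv' : (1 + E) * (1 - E) = 1 := by
    rw [mul_sub, mul_one, add_mul, one_mul, hE]; abel
  refine ⟨unip E hE, unip_mem_sl E hE, ?_, ?_⟩
  · -- `E` commutes with the subfield
    have hcomm : ∀ k', k' ∈ subfield K hK.comm hn s → E * k' = k' * E := by
      intro k' hk'
      rw [mem_subfield, ← hN] at hk'
      apply mat_ext_mulVec
      intro v
      rw [← Matrix.mulVec_mulVec, hEK k' hk'.1, hk'.2, ← Matrix.mulVec_mulVec,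
        ← Matrix.mulVec_mulVec, hEv v]
    have hconj : ∀ k', k' ∈ subfield K hK.comm hn s → (1 + E) * k' * (1 - E) = k' := by
      intro k' hk'
      rw [add_mul, one_mul, hcomm k' hk', ← mul_one_add, mul_assoc, hinv', mul_one]
    have hconj' : ∀ k', k' ∈ subfield K hK.comm hn s → (1 - E) * k' * (1 + E) = k' := by
      intro k' hk'
      rw [sub_mul, one_mul, hcomm k' hk', ← mul_one_sub, mul_assoc, hinv, mul_one]
    intro k'
    rw [unip_val, unip_inv_val]
    constructor
    · intro hk'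
      rw [hconj k' hk']
      exact hk'
    · intro hm
      have h1 := hconj' _ hm
      have h2 : (1 - E) * ((1 + E) * k' * (1 - E)) * (1 + E) = k' := by
        calc (1 - E) * ((1 + E) * k' * (1 - E)) * (1 + E)
            = ((1 - E) * (1 + E)) * k' * ((1 - E) * (1 + E)) := by simp only [mul_assoc]
          _ = k' := by rw [hinv, one_mul, mul_one]
      rw [h2] at h1
      rw [h1]
      exact hm
  · intro hg
    have hk'' := (hg k).mp hkK
    rw [unip_val, unip_inv_val] at hk''
    obtain ⟨k'', hk''def⟩ : ∃ k'', k'' = (1 + E) * k * (1 - E) := ⟨_, rfl⟩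
    rw [← hk''def] at hk''
    have hrel : k'' * (1 + E) = (1 + E) * k := by
      rw [hk''def, mul_assoc, hinv, mul_one]
    have h1 : (1 + E) *ᵥ w = w := by
      rw [Matrix.add_mulVec, Matrix.one_mulVec, hEw, add_zero]
    have h2 : ((1 + E) * k) *ᵥ w = k *ᵥ w := by
      rw [← Matrix.mulVec_mulVec, Matrix.add_mulVec, Matrix.one_mulVec, hEK k hkK, hπw,
        zero_pow hNpos.ne', mul_zero, Matrix.zero_mulVec, add_zero]
    have h3 : k'' *ᵥ w = k *ᵥ w := by
      have := congrArg (fun M => M *ᵥ w) hrel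
      beta_reduce at this
      rw [← Matrix.mulVec_mulVec, h1, h2] at this
      exact this
    have hkk : k'' = k := by
      by_contra hne
      apply hw0
      apply hinj (k'' - k) (K.sub_mem hk'' hkK) (sub_ne_zero.mpr hne) w
      rw [Matrix.sub_mulVec, h3, sub_self]
    rw [hkk] at hrel
    have hkE : k * E = E * k := by
      rw [mul_add, mul_one, add_mul, one_mul] at hrel
      exact add_left_cancel hrel
    have h4 : (k * E) *ᵥ v₁ = k *ᵥ w := by
      rw [← Matrix.mulVec_mulVec, hEv v₁, hπv₁, one_pow, Matrix.one_mulVec]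
    have h5 : (E * k) *ᵥ v₁ = (k ^ N) *ᵥ w := by
      rw [← Matrix.mulVec_mulVec, hEK k hkK, hπv₁, one_pow, mul_one]
    rw [hkE, h5] at h4
    apply hk
    by_contra hne
    apply hw0
    apply hinj (k ^ N - k) (K.sub_mem (K.pow_mem hkK N) hkK) (sub_ne_zero.mpr hne) w
    rw [Matrix.sub_mulVec, h4, sub_self]

end witnesses

end aux

/-- Let F be a finite field, n a positive integer and r a composite number (r > 1, not prime) that divides n with r < n. Let K be a subalgebra of the algebra of n × n matrices over F which is a field of degree r over F (commutative, every non-zero element invertible, of dimension r over F). Then the normaliser N of K in GL_n(F) (a group of type ΓL_{n/r}(F_{q^r})) is not a maximal subgroup of GL_n(F), and N ∩ SL_n(F) is not a maximal subgroup of SL_n(F): both lie properly inside the normaliser of an intermediate subfield of prime degree over F. -/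
theorem result {F : Type*} [Field F]
    [Fintype F] (n r : ℕ) (hr1 : 1 < r) (hrp : ¬ r.Prime) (hrn : r ∣ n) (hlt : r < n)
    (K : Subalgebra F (Matrix (Fin n) (Fin n) F)) (hK : Cfsg.Geo.IsFieldSubalgebra r K) :
    ¬ IsCoatom (Cfsg.Geo.subalgebraNormalizer K) ∧
      ¬ Cfsg.Geo.IsMaximalIn (Cfsg.Geo.specialLinear (Fin n) F)
        (Cfsg.Geo.subalgebraNormalizer K ⊓ Cfsg.Geo.specialLinear (Fin n) F) := by
  have hn : 0 < n := by omega
  obtain ⟨s, hsr, hs2, hslt⟩ := Nat.exists_dvd_of_not_prime2 hr1 hrp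
  have hn3 : 3 ≤ n := by omega
  obtain ⟨⟨k, hkK, hk⟩, ⟨x, hxK, hxs, hx⟩⟩ := exists_elements K hK hn s (by omega) hsr hslt
  obtain ⟨g₂, hg₂sl, hg₂mem, hg₂not⟩ := frob_not_mem K hK hn hlt s k hkK hk
  have hxL : x ∈ subfield K hK.comm hn s := (mem_subfield K hK.comm hn s x).mpr ⟨hxK, hxs⟩
  have hinjL : ∀ d ∈ subfield K hK.comm hn s, d ≠ 0 → ∀ u : Fin n → F, d *ᵥ u = 0 → u = 0 :=
    fun d hd => inj_of K hK d hd.1
  obtain ⟨g₃, hg₃sl, hg₃not⟩ := transvection_not_mem (subfield K hK.comm hn s) hinjL hn3 x hxL hx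
  have hle := normalizer_le K hK.comm hn s
  constructor
  · intro hco
    have hlt' : subalgebraNormalizer K < subalgebraNormalizer (subfield K hK.comm hn s) :=
      lt_of_le_of_ne hle (fun h => hg₂not (h ▸ hg₂mem))
    have htop := hco.2 _ hlt'
    exact hg₃not (htop ▸ Subgroup.mem_top g₃)
  · intro hmax
    rcases hmax.2 (subalgebraNormalizer (subfield K hK.comm hn s) ⊓ specialLinear (Fin n) F)
      (inf_le_inf_right _ hle) inf_le_right with h | h
    · have : g₂ ∈ subalgebraNormalizer K ⊓ specialLinear (Fin n) F := by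
        rw [← h]
        exact ⟨hg₂mem, hg₂sl⟩
      exact hg₂not this.1
    · have : g₃ ∈ subalgebraNormalizer (subfield K hK.comm hn s) ⊓ specialLinear (Fin n) F := by
        rw [h]
        exact hg₃sl
      exact hg₃not this.1

end Cfsg.Agent.S5887
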