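import Cfsg.Statements.S0242
import Mathlib

set_option autoImplicit false
open Cfsg

namespace Cfsg.Agent.S0242

open Matrix

theorem card_GL_eq {F : Type*} [Field F] [Fintype F] (n : ℕ) (hn : 1 ≤ n) :
    Nat.card (GL (Fin n) F) = (Fintype.card F - 1) * Nat.card (Matrix.SpecialLinearGroup (Fin n) F) := by
  classical
  haveI : Nonempty (Fin n) := ⟨⟨0, hn⟩⟩
  have hsurj : Function.Surjective (GeneralLinearGroup.det : GL (Fin n) F →* Fˣ) :=
    GeneralLinearGroup.det_surjective
  have h1 : Nat.card (GL (Fin n) F) =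
      Nat.card (GL (Fin n) F ⧸ (GeneralLinearGroup.det : GL (Fin n) F →* Fˣ).ker) *
        Nat.card (GeneralLinearGroup.det : GL (Fin n) F →* Fˣ).ker :=
    Subgroup.card_eq_card_quotient_mul_card_subgroup _
  have h2 : Nat.card (GL (Fin n) F ⧸ (GeneralLinearGroup.det : GL (Fin n) F →* Fˣ).ker) =
      Nat.card Fˣ :=
    Nat.card_congr (QuotientGroup.quotientKerEquivOfSurjective _ hsurj).toEquiv
  have h3 : Nat.card Fˣ = Fintype.card F - 1 := by
    rw [Nat.card_eq_fintype_card, Fintype.card_units]
  have h4 : Nat.card (GeneralLinearGroup.det : GL (Fin n) F →* Fˣ).ker =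
      Nat.card (Matrix.SpecialLinearGroup (Fin n) F) := by
    have hr : (SpecialLinearGroup.toGL : SpecialLinearGroup (Fin n) F →* GL (Fin n) F).range =
        (GeneralLinearGroup.det : GL (Fin n) F →* Fˣ).ker := by
      ext g
      rw [MonoidHom.mem_range, MonoidHom.mem_ker]
      constructor
      · rintro ⟨A, rfl⟩
        ext
        simp [SpecialLinearGroup.toGL]
      · intro hg
        have hd : (g : Matrix (Fin n) (Fin n) F).det = 1 := by
          have := congrArg Units.val hg
          simpa using this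
        refine ⟨⟨g.1, hd⟩, ?_⟩
        ext i j
        simp [SpecialLinearGroup.toGL]
    rw [← hr]
    exact (Nat.card_congr (MonoidHom.ofInjective SpecialLinearGroup.toGL_injective).toEquiv).symm
  rw [h1, h2, h3, h4]

/-- Order of the special linear group: (q - 1) |SL_n(q)| = prod_{i<n} (q^n - q^i) = |GL_n(q)|, for n at least 1. -/
theorem result {F : Type*} [Field F] [Fintype F] {q : ℕ} (hF : Fintype.card F = q) (n : ℕ) (hn : 1 ≤ n) : (q - 1) * Nat.card (Matrix.SpecialLinearGroup (Fin n) F) = ∏ i : Fin n, (q ^ n - q ^ (i : ℕ)) := by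
  subst hF
  rw [← card_GL_eq n hn, Matrix.card_GL_field]

end Cfsg.Agent.S0242
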