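import Cfsg.Statements.S2170
import Mathlib
import Cfsg.Agent.Lib.Helper36.OrthChar2
import Cfsg.Agent.S2168

set_option autoImplicit false
open Cfsg

namespace Cfsg.Agent.S2170

open Matrix Module Cfsg.Agent.Helper36

universe u

section form

variable {F : Type u} [Field F] {k : ℕ}

/-- the binary part -/
def Rb (c d : F) (z : Fin 2 → F) : F := z 0 ^ 2 + c * z 0 * z 1 + d * z 1 ^ 2

theorem minus_eq (c d : F) (v : (Fin k ⊕ Fin k) ⊕ Fin 2 → F) :
    Cfsg.quadFormMinus k F c d v =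
      Cfsg.quadFormPlus k F (v ∘ Sum.inl) + Rb c d (v ∘ Sum.inr) := rfl

/-- the polar form of the minus-type quadratic form -/
noncomputable def Bm (k : ℕ) (F : Type u) [Field F] (c : F) :
    ((Fin k ⊕ Fin k) ⊕ Fin 2 → F) →ₗ[F] ((Fin k ⊕ Fin k) ⊕ Fin 2 → F) →ₗ[F] F :=
  LinearMap.mk₂ F
    (fun u v => Cfsg.Agent.S2168.Bp k F (u ∘ Sum.inl) (v ∘ Sum.inl) +
      c * (u (Sum.inr 0) * v (Sum.inr 1) + u (Sum.inr 1) * v (Sum.inr 0)))
    (by
      intro u u' v
      have : (u + u') ∘ Sum.inl = u ∘ Sum.inl + u' ∘ (Sum.inl : Fin k ⊕ Fin k → (Fin k ⊕ Fin k) ⊕ Fin 2) := rfl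
      rw [this, map_add, LinearMap.add_apply]
      simp only [Pi.add_apply]
      ring)
    (by
      intro a u v
      have : (a • u) ∘ Sum.inl = a • (u ∘ (Sum.inl : Fin k ⊕ Fin k → (Fin k ⊕ Fin k) ⊕ Fin 2)) := rfl
      rw [this, map_smul, LinearMap.smul_apply]
      simp only [Pi.smul_apply, smul_eq_mul]
      ring)
    (by
      intro u v v'
      have : (v + v') ∘ Sum.inl = v ∘ Sum.inl + v' ∘ (Sum.inl : Fin k ⊕ Fin k → (Fin k ⊕ Fin k) ⊕ Fin 2) := rfl
      rw [this, map_add]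
      simp only [Pi.add_apply]
      ring)
    (by
      intro a u v
      have : (a • v) ∘ Sum.inl = a • (v ∘ (Sum.inl : Fin k ⊕ Fin k → (Fin k ⊕ Fin k) ⊕ Fin 2)) := rfl
      rw [this, map_smul]
      simp only [Pi.smul_apply, smul_eq_mul]
      ring)

theorem Bm_apply (c : F) (u v : (Fin k ⊕ Fin k) ⊕ Fin 2 → F) :
    Bm k F c u v = Cfsg.Agent.S2168.Bp k F (u ∘ Sum.inl) (v ∘ Sum.inl) +
      c * (u (Sum.inr 0) * v (Sum.inr 1) + u (Sum.inr 1) * v (Sum.inr 0)) := rfl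

theorem isQuad_minus [CharP F 2] (c d : F) : IsQuad (Cfsg.quadFormMinus k F c d) (Bm k F c) where
  add u v := by
    have hp := (Cfsg.Agent.S2168.isQuad_plus (F := F) (m := k)).add (u ∘ Sum.inl) (v ∘ Sum.inl)
    have : (u + v) ∘ Sum.inl = u ∘ Sum.inl + v ∘ (Sum.inl : Fin k ⊕ Fin k → (Fin k ⊕ Fin k) ⊕ Fin 2) := rfl
    rw [minus_eq, minus_eq, minus_eq, Bm_apply, this, hp]
    unfold Rb
    simp only [Function.comp_apply, Pi.add_apply]
    have h2 := char_two_add_self (u (Sum.inr 0) * v (Sum.inr 0))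
    have h3 := char_two_add_self (d * (u (Sum.inr 1) * v (Sum.inr 1)))
    linear_combination h2 + h3
  smul a v := by
    have hp := (Cfsg.Agent.S2168.isQuad_plus (F := F) (m := k)).smul a (v ∘ Sum.inl)
    have : (a • v) ∘ Sum.inl = a • (v ∘ (Sum.inl : Fin k ⊕ Fin k → (Fin k ⊕ Fin k) ⊕ Fin 2)) := rfl
    rw [minus_eq, minus_eq, this, hp]
    unfold Rb
    simp only [Function.comp_apply, Pi.smul_apply, smul_eq_mul]
    ring

theorem Bm_nondeg (c : F) (hc : c ≠ 0) (u : (Fin k ⊕ Fin k) ⊕ Fin 2 → F)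
    (hu : ∀ v, Bm k F c u v = 0) : u = 0 := by
  have h1 : u ∘ Sum.inl = 0 := by
    apply Cfsg.Agent.S2168.Bp_nondeg
    intro w
    have := hu (Sum.elim w 0)
    rw [Bm_apply] at this
    simpa using this
  have h2 : u (Sum.inr 0) = 0 := by
    have := hu (Sum.elim 0 (Pi.single 1 1))
    rw [Bm_apply, h1, map_zero, LinearMap.zero_apply, zero_add] at this
    simpa [hc] using this
  have h3 : u (Sum.inr 1) = 0 := by
    have := hu (Sum.elim 0 (Pi.single 0 1))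
    rw [Bm_apply, h1, map_zero, LinearMap.zero_apply, zero_add] at this
    simpa [hc] using this
  funext a
  rcases a with a | a
  · exact congrFun h1 a
  · fin_cases a
    · exact h2
    · exact h3

end form

section count

variable {F : Type u} [Field F] [Fintype F] {k : ℕ}

/-- number of solutions of `P w = r` for the hyperbolic form `P` -/
noncomputable def Zr (k : ℕ) (F : Type u) [Field F] (r : F) : ℕ :=
  Nat.card {w : Fin k ⊕ Fin k → F // Cfsg.quadFormPlus k F w = r}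

theorem Zr_scale (r : F) (hr : r ≠ 0) : Zr k F r = Zr k F 1 := by
  let sc : Fin k ⊕ Fin k → F := Sum.elim (fun _ => r⁻¹) (fun _ => 1)
  have hsc : ∀ a, sc a ≠ 0 := by
    rintro (a | a)
    · exact inv_ne_zero hr
    · exact one_ne_zero
  let e : (Fin k ⊕ Fin k → F) ≃ (Fin k ⊕ Fin k → F) :=
    Equiv.piCongrRight (fun a => Equiv.mulLeft₀ (sc a) (hsc a))
  have he : ∀ w a, e w a = sc a * w a := fun w a => rfl
  unfold Zr
  apply Nat.card_congr
  refine Equiv.subtypeEquiv e (fun w => ?_)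
  have : Cfsg.quadFormPlus k F (e w) = r⁻¹ * Cfsg.quadFormPlus k F w := by
    unfold Cfsg.quadFormPlus
    rw [Finset.mul_sum]
    apply Finset.sum_congr rfl
    intro i _
    rw [he, he]
    simp only [sc, Sum.elim_inl, Sum.elim_inr]
    ring
  rw [this]
  constructor
  · intro h
    rw [h, inv_mul_cancel₀ hr]
  · intro h
    have := congrArg (fun x => r * x) h
    simp only [mul_one] at this
    rw [← this, ← mul_assoc, mul_inv_cancel₀ hr, one_mul]

theorem Zr_sum : ∑ r : F, Zr k F r = Nat.card (Fin k ⊕ Fin k → F) := by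
  unfold Zr
  rw [← Nat.card_sigma]
  exact Nat.card_congr (Equiv.sigmaFiberEquiv (Cfsg.quadFormPlus k F))

theorem Zr_sum' : Zr k F 0 + (Fintype.card F - 1) * Zr k F 1 = Nat.card (Fin k ⊕ Fin k → F) := by
  classical
  rw [← Zr_sum, ← Finset.add_sum_erase Finset.univ _ (Finset.mem_univ (0 : F))]
  congr 1
  rw [Finset.sum_congr rfl (fun r hr => Zr_scale r (Finset.ne_of_mem_erase hr)), Finset.sum_const,
    Finset.card_erase_of_mem (Finset.mem_univ _), Finset.card_univ, smul_eq_mul]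

theorem minus_card [CharP F 2] (c d : F)
    (hcd : ∀ z₁ z₂ : F, z₁ ^ 2 + c * z₁ * z₂ + d * z₂ ^ 2 = 0 → z₁ = 0 ∧ z₂ = 0) :
    Nat.card {v : (Fin k ⊕ Fin k) ⊕ Fin 2 → F // Cfsg.quadFormMinus k F c d v = 0} =
      Zr k F 0 + (Fintype.card (Fin 2 → F) - 1) * Zr k F 1 := by
  classical
  have e : {v : (Fin k ⊕ Fin k) ⊕ Fin 2 → F // Cfsg.quadFormMinus k F c d v = 0} ≃
      Σ z : Fin 2 → F, {w : Fin k ⊕ Fin k → F // Cfsg.quadFormPlus k F w = Rb c d z} :=
    (Equiv.subtypeEquiv ((Equiv.sumArrowEquivProdArrow (Fin k ⊕ Fin k) (Fin 2) F).trans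
        (Equiv.prodComm _ _))
      (p := fun v => Cfsg.quadFormMinus k F c d v = 0)
      (q := fun p => Cfsg.quadFormPlus k F p.2 = Rb c d p.1)
      (fun v => by
        show _ ↔ Cfsg.quadFormPlus k F (v ∘ Sum.inl) = Rb c d (v ∘ Sum.inr)
        rw [minus_eq]
        have h2 := char_two_add_self (Rb c d (v ∘ Sum.inr))
        constructor
        · intro h
          linear_combination h - h2
        · intro h
          rw [h, h2])).trans
      (Equiv.subtypeProdEquivSigmaSubtype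
        (fun (z : Fin 2 → F) (w : Fin k ⊕ Fin k → F) => Cfsg.quadFormPlus k F w = Rb c d z))
  rw [Nat.card_congr e, Nat.card_sigma]
  have hR0 : Rb c d (0 : Fin 2 → F) = 0 := by
    unfold Rb
    simp
  have hRne : ∀ z : Fin 2 → F, z ≠ 0 → Rb c d z ≠ 0 := by
    intro z hz h0
    apply hz
    obtain ⟨h1, h2⟩ := hcd (z 0) (z 1) h0
    funext a
    fin_cases a
    · exact h1
    · exact h2
  show ∑ z : Fin 2 → F, Zr k F (Rb c d z) = _
  rw [← Finset.add_sum_erase Finset.univ _ (Finset.mem_univ (0 : Fin 2 → F)), hR0]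
  congr 1
  rw [Finset.sum_congr rfl (fun z hz => Zr_scale _ (hRne z (Finset.ne_of_mem_erase hz))),
    Finset.sum_const, Finset.card_erase_of_mem (Finset.mem_univ _), Finset.card_univ, smul_eq_mul]

theorem count_ne_minus [CharP F 2] (hk : 1 ≤ k) (c d : F)
    (hcd : ∀ z₁ z₂ : F, z₁ ^ 2 + c * z₁ * z₂ + d * z₂ ^ 2 = 0 → z₁ = 0 ∧ z₂ = 0) :
    Nat.card {v : (Fin k ⊕ Fin k) ⊕ Fin 2 → F // Cfsg.quadFormMinus k F c d v = 0} * Nat.card F ≠
      Nat.card ((Fin k ⊕ Fin k) ⊕ Fin 2 → F) := by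
  have h0 := Cfsg.Agent.S2168.count_ne_plus (F := F) (m := k) hk
  have h1 := Zr_sum' (F := F) (k := k)
  rw [minus_card c d hcd]
  have hZ0 : Nat.card {v : Fin k ⊕ Fin k → F // Cfsg.quadFormPlus k F v = 0} = Zr k F 0 := rfl
  rw [hZ0] at h0
  have hq : 2 ≤ Fintype.card F := Fintype.one_lt_card
  obtain ⟨a, ha⟩ : ∃ a, Fintype.card F = a + 1 := ⟨Fintype.card F - 1, by omega⟩
  have hq2 : Fintype.card (Fin 2 → F) = (a + 1) * (a + 1) := by
    rw [Fintype.card_fun, Fintype.card_fin, ha, pow_two]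
  have hV : Nat.card ((Fin k ⊕ Fin k) ⊕ Fin 2 → F) =
      Nat.card (Fin k ⊕ Fin k → F) * ((a + 1) * (a + 1)) := by
    rw [Nat.card_fun, Nat.card_fun, Nat.card_eq_fintype_card (α := (Fin k ⊕ Fin k) ⊕ Fin 2),
      Fintype.card_sum, Fintype.card_fin, pow_add, Nat.card_eq_fintype_card (α := F), ha, pow_two,
      Nat.card_eq_fintype_card (α := Fin k ⊕ Fin k)]
  rw [hV, ← h1, hq2, Nat.card_eq_fintype_card (α := F), ha]
  rw [← h1, Nat.card_eq_fintype_card (α := F), ha] at h0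
  have e1 : (a + 1) * (a + 1) - 1 = a * (a + 2) := by
    have : (a + 1) * (a + 1) = a * (a + 2) + 1 := by ring
    omega
  rw [e1]
  simp only [Nat.add_sub_cancel] at h0 ⊢
  intro h
  apply h0
  have ha1 : 1 ≤ a := by omega
  set X := Zr k F 0 with hX
  set Y := Zr k F 1 with hY
  have h' : (a + 1) * (X + a * (a + 2) * Y) = (a + 1) * ((X + a * Y) * (a + 1)) := by
    rw [mul_comm (a + 1) (X + a * (a + 2) * Y), h]; ring
  have h2 := Nat.eq_of_mul_eq_mul_left (by omega) h'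
  have h3 : a * Y = a * X := by nlinarith [h2]
  have h4 : Y = X := Nat.eq_of_mul_eq_mul_left (by omega) h3
  rw [h4]
  ring

end count

/-- Involutions in the full isometry group O of the quadratic form Σ x_i y_i + (z₁² + c z₁ z₂ + d z₂²) in dimension 2m with anisotropic binary part over a finite field F of characteristic two, m ≥ 4 (minus type): two elements of order 2 of O are conjugate in O exactly when they are conjugate under the group of all invertible matrices preserving the polar bilinear form (u, v) ↦ Q(u + v) − Q(u) − Q(v) (the symplectic group of that form). -/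
theorem result {F : Type*} [Field F] [Fintype F] [CharP F 2] {m : ℕ} (hm : 4 ≤ m) (c d : F) (hcd : ∀ z₁ z₂ : F, z₁ ^ 2 + c * z₁ * z₂ + d * z₂ ^ 2 = 0 → z₁ = 0 ∧ z₂ = 0) (t s : ↥(Cfsg.isometryGroup F (Cfsg.quadFormMinus (m - 1) F c d))) (ht : orderOf t = 2) (hs : orderOf s = 2) :
    IsConj t s ↔ ∃ g ∈ Cfsg.preserving (Units.coeHom (Matrix ((Fin (m - 1) ⊕ Fin (m - 1)) ⊕ Fin 2) ((Fin (m - 1) ⊕ Fin (m - 1)) ⊕ Fin 2) F)) (fun u v => Cfsg.quadFormMinus (m - 1) F c d (u + v) - Cfsg.quadFormMinus (m - 1) F c d u - Cfsg.quadFormMinus (m - 1) F c d v), g * ((t : ↥(Cfsg.isometryGroup F (Cfsg.quadFormMinus (m - 1) F c d))) : GL ((Fin (m - 1) ⊕ Fin (m - 1)) ⊕ Fin 2) F) * g⁻¹ = ((s : ↥(Cfsg.isometryGroup F (Cfsg.quadFormMinus (m - 1) F c d))) : GL ((Fin (m - 1) ⊕ Fin (m - 1)) ⊕ Fin 2) F) := by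
  have hc0 : c ≠ 0 := by
    intro hc0
    obtain ⟨y, hy⟩ := exists_sqrt_char_two d
    have := hcd y 1 (by
      rw [hc0, ← hy]
      have h2 := char_two_add_self (y * y)
      linear_combination h2)
    exact one_ne_zero this.2
  have hQ := isQuad_minus (F := F) (k := m - 1) c d
  have hpolar : ∀ u v : (Fin (m - 1) ⊕ Fin (m - 1)) ⊕ Fin 2 → F,
      Cfsg.quadFormMinus (m - 1) F c d (u + v) - Cfsg.quadFormMinus (m - 1) F c d u -
      Cfsg.quadFormMinus (m - 1) F c d v = Bm (m - 1) F c u v := by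
    intro u v
    rw [hQ.add]
    ring
  have hmemO : ∀ x : GL ((Fin (m - 1) ⊕ Fin (m - 1)) ⊕ Fin 2) F,
      x ∈ Cfsg.isometryGroup F (Cfsg.quadFormMinus (m - 1) F c d) ↔
      ∀ v, Cfsg.quadFormMinus (m - 1) F c d ((x : Matrix ((Fin (m - 1) ⊕ Fin (m - 1)) ⊕ Fin 2)
        ((Fin (m - 1) ⊕ Fin (m - 1)) ⊕ Fin 2) F).mulVec v) = Cfsg.quadFormMinus (m - 1) F c d v := by
    intro x
    constructor
    · intro h v
      exact h v v
    · intro h u _
      exact h u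
  constructor
  · intro hconj
    obtain ⟨x, hx⟩ := isConj_iff.mp hconj
    refine ⟨(x : GL ((Fin (m - 1) ⊕ Fin (m - 1)) ⊕ Fin 2) F), ?_, ?_⟩
    · intro u v
      have h1 := (hmemO _).mp x.2
      show Cfsg.quadFormMinus (m - 1) F c d
          (((x : GL ((Fin (m - 1) ⊕ Fin (m - 1)) ⊕ Fin 2) F) : Matrix ((Fin (m - 1) ⊕ Fin (m - 1)) ⊕ Fin 2)
            ((Fin (m - 1) ⊕ Fin (m - 1)) ⊕ Fin 2) F).mulVec u +
            ((x : GL ((Fin (m - 1) ⊕ Fin (m - 1)) ⊕ Fin 2) F) : Matrix ((Fin (m - 1) ⊕ Fin (m - 1)) ⊕ Fin 2)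
            ((Fin (m - 1) ⊕ Fin (m - 1)) ⊕ Fin 2) F).mulVec v) -
          Cfsg.quadFormMinus (m - 1) F c d
            (((x : GL ((Fin (m - 1) ⊕ Fin (m - 1)) ⊕ Fin 2) F) : Matrix ((Fin (m - 1) ⊕ Fin (m - 1)) ⊕ Fin 2)
            ((Fin (m - 1) ⊕ Fin (m - 1)) ⊕ Fin 2) F).mulVec u) -
          Cfsg.quadFormMinus (m - 1) F c d
            (((x : GL ((Fin (m - 1) ⊕ Fin (m - 1)) ⊕ Fin 2) F) : Matrix ((Fin (m - 1) ⊕ Fin (m - 1)) ⊕ Fin 2)
            ((Fin (m - 1) ⊕ Fin (m - 1)) ⊕ Fin 2) F).mulVec v) =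
        Cfsg.quadFormMinus (m - 1) F c d (u + v) - Cfsg.quadFormMinus (m - 1) F c d u -
          Cfsg.quadFormMinus (m - 1) F c d v
      rw [← Matrix.mulVec_add, h1, h1, h1]
    · have h' := congrArg (fun y : ↥(Cfsg.isometryGroup F (Cfsg.quadFormMinus (m - 1) F c d)) =>
        (y : GL ((Fin (m - 1) ⊕ Fin (m - 1)) ⊕ Fin 2) F)) hx
      simpa using h'
  · rintro ⟨g, hg, hgts⟩
    have htt : (t : GL ((Fin (m - 1) ⊕ Fin (m - 1)) ⊕ Fin 2) F) *
        (t : GL ((Fin (m - 1) ⊕ Fin (m - 1)) ⊕ Fin 2) F) = 1 := by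
      have h := pow_orderOf_eq_one t
      rw [ht, pow_two] at h
      have h' := congrArg (fun y : ↥(Cfsg.isometryGroup F (Cfsg.quadFormMinus (m - 1) F c d)) =>
        (y : GL ((Fin (m - 1) ⊕ Fin (m - 1)) ⊕ Fin 2) F)) h
      simpa using h'
    have hg' : ∀ u v, Bm (m - 1) F c
        ((g : Matrix ((Fin (m - 1) ⊕ Fin (m - 1)) ⊕ Fin 2) ((Fin (m - 1) ⊕ Fin (m - 1)) ⊕ Fin 2) F).mulVec u)
        ((g : Matrix ((Fin (m - 1) ⊕ Fin (m - 1)) ⊕ Fin 2) ((Fin (m - 1) ⊕ Fin (m - 1)) ⊕ Fin 2) F).mulVec v) =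
        Bm (m - 1) F c u v := by
      intro u v
      rw [← hpolar, ← hpolar]
      exact hg u v
    have hs' : ∀ v, Cfsg.quadFormMinus (m - 1) F c d
        (((g * (t : GL ((Fin (m - 1) ⊕ Fin (m - 1)) ⊕ Fin 2) F) * g⁻¹ :
          GL ((Fin (m - 1) ⊕ Fin (m - 1)) ⊕ Fin 2) F) :
          Matrix ((Fin (m - 1) ⊕ Fin (m - 1)) ⊕ Fin 2) ((Fin (m - 1) ⊕ Fin (m - 1)) ⊕ Fin 2) F).mulVec v) =
        Cfsg.quadFormMinus (m - 1) F c d v := by
      rw [hgts]
      exact (hmemO _).mp s.2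
    obtain ⟨k, hk1, hk2⟩ := exists_isometry_conj_GL hQ (Bm_nondeg c hc0)
      (count_ne_minus (by omega) c d hcd)
      (t : GL ((Fin (m - 1) ⊕ Fin (m - 1)) ⊕ Fin 2) F) g ((hmemO _).mp t.2) htt hg' hs'
    apply isConj_iff.mpr
    refine ⟨⟨k, (hmemO _).mpr hk1⟩, ?_⟩
    apply Subtype.ext
    rw [← hgts, ← hk2]
    rfl

end Cfsg.Agent.S2170
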