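import Cfsg.Statements.S2171
import Mathlib
import Cfsg.Agent.S2170
import Cfsg.Agent.Lib.Helper36.QuadInv

set_option autoImplicit false
open Cfsg

namespace Cfsg.Agent.S2171

open Matrix Module Cfsg.Agent.Helper36 Cfsg.Agent.Helper36.TotSing Cfsg.Agent.Helper36.QuadInv
open Cfsg.Agent.S2170

universe u

section ext

variable {F : Type u} [Field F] {k : ℕ}

/-- polar form of the binary part -/
noncomputable def Bb (F : Type u) [Field F] (c : F) : (Fin 2 → F) →ₗ[F] (Fin 2 → F) →ₗ[F] F :=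
  LinearMap.mk₂ F (fun w w' => c * (w 0 * w' 1 + w 1 * w' 0))
    (by intro u u' v; simp only [Pi.add_apply]; ring)
    (by intro a u v; simp only [Pi.smul_apply, smul_eq_mul]; ring)
    (by intro u v v'; simp only [Pi.add_apply]; ring)
    (by intro a u v; simp only [Pi.smul_apply, smul_eq_mul]; ring)

/-- the polar form on the extended space -/
noncomputable def Bt (k : ℕ) (F : Type u) [Field F] (c : F) :
    LinearMap.BilinForm F (((Fin k ⊕ Fin k) ⊕ Fin 2 → F) × (Fin 2 → F)) :=
  (Bm k F c).compl₁₂ (LinearMap.fst F _ _) (LinearMap.fst F _ _) +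
    (Bb F c).compl₁₂ (LinearMap.snd F _ _) (LinearMap.snd F _ _)

theorem Bt_apply (c : F) (x y : ((Fin k ⊕ Fin k) ⊕ Fin 2 → F) × (Fin 2 → F)) :
    Bt k F c x y = Bm k F c x.1 y.1 + c * (x.2 0 * y.2 1 + x.2 1 * y.2 0) := rfl

/-- the quadratic form on the extended space -/
def Qt (k : ℕ) (F : Type u) [Field F] (c d : F)
    (x : ((Fin k ⊕ Fin k) ⊕ Fin 2 → F) × (Fin 2 → F)) : F :=
  Cfsg.quadFormMinus k F c d x.1 + Rb c d x.2

theorem isQF_t [CharP F 2] (c d : F) : IsQF (Qt k F c d) (Bt k F c) where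
  add x y := by
    rw [Bt_apply]
    unfold Qt
    rw [Prod.fst_add, Prod.snd_add, (isQuad_minus (F := F) (k := k) c d).add]
    unfold Rb
    simp only [Pi.add_apply]
    have h2 := char_two_add_self (x.2 0 * y.2 0)
    have h3 := char_two_add_self (d * (x.2 1 * y.2 1))
    linear_combination h2 + h3
  smul a x := by
    unfold Qt
    rw [Prod.smul_fst, Prod.smul_snd, (isQuad_minus (F := F) (k := k) c d).smul]
    unfold Rb
    simp only [Pi.smul_apply, smul_eq_mul]
    ring

theorem Bt_nondeg [CharP F 2] (c d : F) (hc : c ≠ 0) : (Bt k F c).Nondegenerate := by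
  have key : ∀ x, (∀ y, Bt k F c x y = 0) → x = 0 := by
    intro x hx
    have h1 : x.1 = 0 := by
      apply Bm_nondeg c hc
      intro v
      have := hx (v, 0)
      rw [Bt_apply] at this
      simpa using this
    have h2 : x.2 0 = 0 := by
      have := hx (0, Pi.single 1 1)
      rw [Bt_apply] at this
      simpa [hc] using this
    have h3 : x.2 1 = 0 := by
      have := hx (0, Pi.single 0 1)
      rw [Bt_apply] at this
      simpa [hc] using this
    apply Prod.ext h1
    funext a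
    fin_cases a
    · exact h2
    · exact h3
  constructor
  · exact key
  · intro y hy
    apply key
    intro x
    rw [(isQF_t (k := k) c d).symm]
    exact hy x

theorem finrank_t : finrank F (((Fin k ⊕ Fin k) ⊕ Fin 2 → F) × (Fin 2 → F)) = 2 * (k + 2) := by
  rw [Module.finrank_prod, Module.finrank_fintype_fun_eq_card, Module.finrank_fintype_fun_eq_card]
  simp only [Fintype.card_sum, Fintype.card_fin]
  omega

/-- parametrisation of the reference maximal totally singular subspace -/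
noncomputable def Jmap (k : ℕ) (F : Type u) [Field F] :
    ((Fin k → F) × (Fin 2 → F)) →ₗ[F] (((Fin k ⊕ Fin k) ⊕ Fin 2 → F) × (Fin 2 → F)) where
  toFun p := (Sum.elim (Sum.elim p.1 0) p.2, p.2)
  map_add' p q := by
    apply Prod.ext
    · funext a
      rcases a with (a | a) | a <;> simp
    · rfl
  map_smul' a p := by
    apply Prod.ext
    · funext b
      rcases b with (b | b) | b <;> simp
    · rfl

theorem Jmap_injective : Function.Injective (Jmap k F) := by
  intro p q h
  have h1 : (Jmap k F p).1 = (Jmap k F q).1 := congrArg Prod.fst h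
  have h2' : (Jmap k F p).2 = (Jmap k F q).2 := congrArg Prod.snd h
  have h2 : p.2 = q.2 := h2'
  apply Prod.ext _ h2
  funext i
  exact congrFun h1 (Sum.inl (Sum.inl i))

theorem Lt_mts [CharP F 2] (c d : F) :
    IsMTS (Qt k F c d) (k + 2) (LinearMap.range (Jmap k F)) := by
  constructor
  · rw [LinearMap.finrank_range_of_inj Jmap_injective, Module.finrank_prod,
      Module.finrank_fintype_fun_eq_card, Module.finrank_fintype_fun_eq_card]
    simp
  · rintro _ ⟨p, rfl⟩
    show Cfsg.quadFormMinus k F c d (Sum.elim (Sum.elim p.1 0) p.2) + Rb c d p.2 = 0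
    rw [minus_eq]
    have h1 : Cfsg.quadFormPlus k F
        ((Sum.elim (Sum.elim p.1 0) p.2 : (Fin k ⊕ Fin k) ⊕ Fin 2 → F) ∘ Sum.inl) = 0 := by
      unfold Cfsg.quadFormPlus
      apply Finset.sum_eq_zero
      intro i _
      simp
    rw [h1, zero_add]
    have h2 : ((Sum.elim (Sum.elim p.1 0) p.2 : (Fin k ⊕ Fin k) ⊕ Fin 2 → F) ∘ Sum.inr) = p.2 := rfl
    rw [h2]
    exact char_two_add_self _

end ext

section group

variable {F : Type u} [Field F] [Fintype F] [CharP F 2] {k : ℕ}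

/-- the extension of isometries to the extended space -/
noncomputable def eps (k : ℕ) (c d : F) : OG F (Cfsg.quadFormMinus k F c d) →*
    ((((Fin k ⊕ Fin k) ⊕ Fin 2 → F) × (Fin 2 → F)) ≃ₗ[F]
      (((Fin k ⊕ Fin k) ⊕ Fin 2 → F) × (Fin 2 → F))) :=
  MonoidHom.mk' (fun g => (actHom (Cfsg.quadFormMinus k F c d) g).prodCongr
      (LinearEquiv.refl F (Fin 2 → F))) (by
    intro g h
    apply LinearEquiv.ext
    intro x
    rw [LinearEquiv.mul_apply, LinearEquiv.prodCongr_apply, LinearEquiv.prodCongr_apply,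
      LinearEquiv.prodCongr_apply, act_mul]
    rfl)

omit [Fintype F] [CharP F 2] in
theorem eps_apply (c d : F) (g : OG F (Cfsg.quadFormMinus k F c d))
    (x : ((Fin k ⊕ Fin k) ⊕ Fin 2 → F) × (Fin 2 → F)) :
    eps k c d g x = (actHom (Cfsg.quadFormMinus k F c d) g x.1, x.2) := rfl

omit [Fintype F] [CharP F 2] in
theorem eps_Q (c d : F) (g : OG F (Cfsg.quadFormMinus k F c d))
    (x : ((Fin k ⊕ Fin k) ⊕ Fin 2 → F) × (Fin 2 → F)) :
    Qt k F c d (eps k c d g x) = Qt k F c d x := by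
  rw [eps_apply]
  unfold Qt
  rw [Q_act g x.1]

omit [Fintype F] in
/-- the Witt index of the minus-type form is less than half the dimension -/
theorem noTS (c d : F)
    (hcd : ∀ z₁ z₂ : F, z₁ ^ 2 + c * z₁ * z₂ + d * z₂ ^ 2 = 0 → z₁ = 0 ∧ z₂ = 0) (hc : c ≠ 0)
    (U : Submodule F ((Fin k ⊕ Fin k) ⊕ Fin 2 → F))
    (hU : ∀ u ∈ U, Cfsg.quadFormMinus k F c d u = 0) :
    2 * finrank F U < Fintype.card ((Fin k ⊕ Fin k) ⊕ Fin 2) := by
  have hQ := isQuad_minus (F := F) (k := k) c d
  have hQF : IsQF (Cfsg.quadFormMinus k F c d) (Bm k F c) := ⟨hQ.add, hQ.smul⟩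
  have hndB : LinearMap.BilinForm.Nondegenerate (Bm k F c) :=
    nondegenerate_of hQ (Bm_nondeg c hc)
  have hle := hQF.le_orthogonal hU
  have hfr := LinearMap.BilinForm.finrank_orthogonal hndB U
  rw [Module.finrank_fintype_fun_eq_card] at hfr
  have h1 := Submodule.finrank_mono hle
  have hcard : Fintype.card ((Fin k ⊕ Fin k) ⊕ Fin 2) = 2 * k + 2 := by
    simp only [Fintype.card_sum, Fintype.card_fin]
    omega
  rw [hcard] at hfr ⊢
  by_contra hcon
  have hdim : finrank F U = k + 1 := by omega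
  have hUo : LinearMap.BilinForm.orthogonal (Bm k F c) U = U :=
    (Submodule.eq_of_le_of_finrank_eq hle (by omega)).symm
  obtain ⟨Ut, hUt⟩ : ∃ Ut : Submodule F (((Fin k ⊕ Fin k) ⊕ Fin 2 → F) × (Fin 2 → F)),
      Ut = U.map (LinearMap.inl F _ _) := ⟨_, rfl⟩
  have hUt_dim : finrank F Ut + 1 = k + 2 := by
    rw [hUt, ← (Submodule.equivMapOfInjective _ LinearMap.inl_injective U).finrank_eq, hdim]
  have hX := Lt_mts (F := F) (k := k) c d
  have hQt := isQF_t (F := F) (k := k) c d
  have hndt := Bt_nondeg (F := F) (k := k) c d hc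
  have h_i : LinearMap.range (Jmap k F) ⊓ (Bt k F c).orthogonal Ut ≤ Ut := by
    rintro x ⟨hxX, hxo⟩
    have hv : x.1 ∈ U := by
      rw [← hUo]
      intro u hu
      have := hxo (u, 0) (by rw [hUt]; exact ⟨u, hu, rfl⟩)
      have h2 : Bt k F c (u, 0) x = 0 := this
      rw [Bt_apply] at h2
      simpa using h2
    have hQx := hX.2 x hxX
    unfold Qt at hQx
    rw [hU _ hv, zero_add] at hQx
    have hw := hcd (x.2 0) (x.2 1) hQx
    have hx2 : x.2 = 0 := by
      funext a
      fin_cases a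
      · exact hw.1
      · exact hw.2
    rw [hUt]
    refine ⟨x.1, hv, ?_⟩
    apply Prod.ext
    · rfl
    · exact hx2.symm
  have h_ii := finrank_inf_orthogonal hQt hndt finrank_t hX Ut hUt_dim
  have hUt_ts : ∀ x ∈ Ut, Qt k F c d x = 0 := by
    rw [hUt]
    rintro _ ⟨u, hu, rfl⟩
    show Cfsg.quadFormMinus k F c d u + Rb c d 0 = 0
    rw [hU u hu]
    simp [Rb]
  have h_iii := Submodule.finrank_mono
    (le_inf inf_le_left h_i : LinearMap.range (Jmap k F) ⊓ (Bt k F c).orthogonal Ut ≤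
      LinearMap.range (Jmap k F) ⊓ Ut)
  omega

end group

/-- For the quadratic form Σ x_i y_i + (z₁² + c z₁ z₂ + d z₂²) in dimension 2m with anisotropic binary part over a finite field F of characteristic two, m ≥ 4 (minus type): an element of order 2 of the full isometry group O lies in the commutator subgroup Ω of O exactly when t − 1 has even rank. -/
theorem result {F : Type*} [Field F] [Fintype F] [CharP F 2] {m : ℕ} (hm : 4 ≤ m) (c d : F) (hcd : ∀ z₁ z₂ : F, z₁ ^ 2 + c * z₁ * z₂ + d * z₂ ^ 2 = 0 → z₁ = 0 ∧ z₂ = 0) (t : ↥(Cfsg.isometryGroup F (Cfsg.quadFormMinus (m - 1) F c d))) (ht : orderOf t = 2) :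
    t ∈ Cfsg.Omega F (Cfsg.quadFormMinus (m - 1) F c d) ↔ Even ((((t : ↥(Cfsg.isometryGroup F (Cfsg.quadFormMinus (m - 1) F c d))) : GL ((Fin (m - 1) ⊕ Fin (m - 1)) ⊕ Fin 2) F) : Matrix ((Fin (m - 1) ⊕ Fin (m - 1)) ⊕ Fin 2) ((Fin (m - 1) ⊕ Fin (m - 1)) ⊕ Fin 2) F) - 1).rank := by
  have hc0 : c ≠ 0 := by
    intro hc0
    obtain ⟨y, hy⟩ := exists_sqrt_char_two d
    have := hcd y 1 (by
      rw [hc0, ← hy]
      have h2 := char_two_add_self (y * y)
      linear_combination h2)
    exact one_ne_zero this.2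
  have htt : t * t = 1 := by
    have := pow_orderOf_eq_one t
    rw [ht, pow_two] at this
    exact this
  have hQ := isQuad_minus (F := F) (k := m - 1) c d
  have hnd := Bm_nondeg (F := F) (k := m - 1) c hc0
  have hcount := count_ne_minus (F := F) (k := m - 1) (by omega) c d hcd
  have hno := noTS (F := F) (k := m - 1) c d hcd hc0
  -- a non-singular vector
  obtain ⟨a₀, ha₀⟩ : ∃ a₀ : (Fin (m - 1) ⊕ Fin (m - 1)) ⊕ Fin 2 → F,
      a₀ = Sum.elim (0 : Fin (m - 1) ⊕ Fin (m - 1) → F) (Pi.single (0 : Fin 2) (1 : F)) := ⟨_, rfl⟩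
  have h₀ : Cfsg.quadFormMinus (m - 1) F c d a₀ ≠ 0 := by
    rw [ha₀, minus_eq]
    have h1 : Cfsg.quadFormPlus (m - 1) F
        ((Sum.elim (0 : Fin (m - 1) ⊕ Fin (m - 1) → F) (Pi.single (0 : Fin 2) (1 : F)) :
          (Fin (m - 1) ⊕ Fin (m - 1)) ⊕ Fin 2 → F) ∘ Sum.inl) = 0 := by
      unfold Cfsg.quadFormPlus
      apply Finset.sum_eq_zero
      intro i _
      simp
    rw [h1, zero_add]
    simp [Rb]
  -- the invariant
  have hQt := isQF_t (F := F) (k := m - 1) c d
  have hndt := Bt_nondeg (F := F) (k := m - 1) c d hc0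
  have hLt := Lt_mts (F := F) (k := m - 1) c d
  have hδ : deltaG hQt hndt finrank_t hLt (eps (m - 1) c d) (eps_Q c d) (refl hQ a₀ h₀) =
      Multiplicative.ofAdd 1 := by
    rw [deltaG_apply]
    congr 1
    have h1 := dnatG_refl hQt hndt finrank_t hLt (eps (m - 1) c d) (refl hQ a₀ h₀)
      (refl_mul_self hQ a₀ h₀) ((a₀, 0) : ((Fin (m - 1) ⊕ Fin (m - 1)) ⊕ Fin 2 → F) × (Fin 2 → F))
      (by
        show Cfsg.quadFormMinus (m - 1) F c d a₀ + Rb c d 0 ≠ 0
        simpa [Rb] using h₀)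
      (by
        intro x
        have hq : Qt (m - 1) F c d ((a₀, 0) : ((Fin (m - 1) ⊕ Fin (m - 1)) ⊕ Fin 2 → F) × (Fin 2 → F)) =
            Cfsg.quadFormMinus (m - 1) F c d a₀ := by
          show Cfsg.quadFormMinus (m - 1) F c d a₀ + Rb c d 0 = _
          simp [Rb]
        have hb : Bt (m - 1) F c ((a₀, 0) : ((Fin (m - 1) ⊕ Fin (m - 1)) ⊕ Fin 2 → F) × (Fin 2 → F)) x =
            Bm (m - 1) F c a₀ x.1 := by
          rw [Bt_apply]
          simp
        rw [eps_apply, act_refl, hq, hb]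
        apply Prod.ext
        · simp
        · simp)
    rw [h1]
    simp
  exact mem_Omega_iff_even hQ hnd hcount hno a₀ h₀ _ hδ t htt

end Cfsg.Agent.S2171
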