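import Cfsg.Statements.S2700
import Mathlib
import Cfsg.Agent.Lib.Helper13.GraphAutClasses

set_option autoImplicit false
open Cfsg

namespace Cfsg.Agent.S2700

/-- Let T = PSL_n(F) over a finite field of odd order with n = 2m ≥ 4 even, and G = Inndiag(T) the image of PGL_n(F). The involutory graph automorphisms of T fall into exactly three G-classes, with representatives γ₁, γ₂, γ₃ whose centralizers in G are isomorphic respectively to the projective conformal symplectic group PGSp_n(F), the projective conformal orthogonal group of the plus-type form Σ xᵢ yᵢ, and that of a minus-type form Σ xᵢ yᵢ + z₁² + a z₁ z₂ + b z₂² (anisotropic binary part) in dimension n. -/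
theorem result {F : Type*} [Field F] [Fintype F] (hodd : Odd (Fintype.card F)) {n m : ℕ} (hm : 2 ≤ m) (hnm : n = 2 * m) :
    ∃ (γ₁ γ₂ γ₃ : MulAut (Matrix.ProjectiveSpecialLinearGroup (Fin n) F)) (a b : F), (∀ z₁ z₂ : F, z₁ ^ 2 + a * z₁ * z₂ + b * z₂ ^ 2 = 0 → z₁ = 0 ∧ z₂ = 0) ∧ Cfsg.IsGraphAutClassPSL γ₁ ∧ orderOf γ₁ = 2 ∧ Cfsg.IsGraphAutClassPSL γ₂ ∧ orderOf γ₂ = 2 ∧ Cfsg.IsGraphAutClassPSL γ₃ ∧ orderOf γ₃ = 2 ∧ ¬ Cfsg.IsConjUnder (Cfsg.inndiagPSL n F) γ₁ γ₂ ∧ ¬ Cfsg.IsConjUnder (Cfsg.inndiagPSL n F) γ₁ γ₃ ∧ ¬ Cfsg.IsConjUnder (Cfsg.inndiagPSL n F) γ₂ γ₃ ∧ (∀ γ : MulAut (Matrix.ProjectiveSpecialLinearGroup (Fin n) F), Cfsg.IsGraphAutClassPSL γ → orderOf γ = 2 → Cfsg.IsConjUnder (Cfsg.inndiagPSL n F) γ₁ γ ∨ Cfsg.IsConjUnder (Cfsg.inndiagPSL n F) γ₂ γ ∨ Cfsg.IsConjUnder (Cfsg.inndiagPSL n F) γ₃ γ) ∧ Nonempty (↥(Cfsg.inndiagPSL n F ⊓ Subgroup.centralizer {γ₁}) ≃* Cfsg.PGSp m F) ∧ Nonempty (↥(Cfsg.inndiagPSL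 n F ⊓ Subgroup.centralizer {γ₂}) ≃* Cfsg.PGO F (Cfsg.quadFormPlus m F)) ∧ Nonempty (↥(Cfsg.inndiagPSL n F ⊓ Subgroup.centralizer {γ₃}) ≃* Cfsg.PGO F (Cfsg.quadFormMinus (m - 1) F a b)) := by
  classical
  open Matrix Cfsg.Agent.Helper13.PSLAut Cfsg.Agent.Helper13.GraphAutPSL
    Cfsg.Agent.Helper13.SymCong Cfsg.Agent.Helper13.SimForms Cfsg.Agent.Helper13.DotForm
    Cfsg.Agent.Helper13.GraphAutClasses in
  have h2 : (2 : F) ≠ 0 := by
    intro h
    have h1 : ringChar F = 2 :=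
      CharP.ringChar_of_prime_eq_zero Nat.prime_two (by exact_mod_cast h)
    have h3 := FiniteField.even_card_of_char_two h1
    rcases hodd with ⟨k, hk⟩
    omega
  have hchar : ringChar F ≠ 2 := by
    intro h
    apply h2
    have : CharP F 2 := by rw [← h]; exact ringChar.charP F
    exact CharTwo.two_eq_zero
  obtain ⟨k, rfl⟩ : ∃ k, n = k + 1 := ⟨n - 1, by omega⟩
  have hn0 : 0 < k + 1 := Nat.succ_pos k
  have hn3 : 3 ≤ k + 1 := by omega
  obtain ⟨ν, hν⟩ := FiniteField.exists_nonsquare hchar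
  have hν0 : ν ≠ 0 := by
    rintro rfl
    exact hν ⟨0, by simp⟩
  have σ₁ : Fin (k + 1) ≃ Fin m ⊕ Fin m :=
    Fintype.equivOfCardEq (by simp only [Fintype.card_sum, Fintype.card_fin]; omega)
  have σ₃ : Fin (k + 1) ≃ (Fin (m - 1) ⊕ Fin (m - 1)) ⊕ Fin 2 :=
    Fintype.equivOfCardEq (by simp only [Fintype.card_sum, Fintype.card_fin]; omega)
  set b : F := -ν with hb
  have hb0 : b ≠ 0 := neg_ne_zero.mpr hν0
  set w₂ : Fin (k + 1) → F := fun i => pmW (Fin m) (σ₁ i) with hw₂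
  set w₃ : Fin (k + 1) → F := fun i => pmbW (Fin (m - 1)) b (σ₃ i) with hw₃
  set Jm : Matrix (Fin (k + 1)) (Fin (k + 1)) F := (Matrix.J (Fin m) F).submatrix σ₁ σ₁ with hJm
  have hdet₂ : (Matrix.diagonal w₂).det = (-1) ^ m := by
    rw [Matrix.det_diagonal]
    have := Equiv.prod_comp σ₁ (pmW (F := F) (Fin m))
    rw [hw₂, this, prod_pmW, Fintype.card_fin]
  have hdet₃ : (Matrix.diagonal w₃).det = (-1) ^ (m - 1) * b := by
    rw [Matrix.det_diagonal]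
    have := Equiv.prod_comp σ₃ (pmbW (F := F) (Fin (m - 1)) b)
    rw [hw₃, this, prod_pmbW, Fintype.card_fin]
  have hdetJ : Jm.det ≠ 0 := by
    rw [hJm, Matrix.det_submatrix_equiv_self]
    intro h0
    have := Matrix.J_det_mul_J_det (Fin m) F
    rw [h0, zero_mul] at this
    exact zero_ne_one this
  have hone : ((-1 : F)) ^ m ≠ 0 := pow_ne_zero _ (neg_ne_zero.mpr one_ne_zero)
  have hd₂ : (Matrix.diagonal w₂).det ≠ 0 := by rw [hdet₂]; exact hone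
  have hrel : (Matrix.diagonal w₃).det = (Matrix.diagonal w₂).det * ν := by
    rw [hdet₂, hdet₃, hb]
    obtain ⟨m', rfl⟩ : ∃ m', m = m' + 1 := ⟨m - 1, by omega⟩
    rw [Nat.add_sub_cancel, pow_succ]
    ring
  have hd₃ : (Matrix.diagonal w₃).det ≠ 0 := by rw [hrel]; exact mul_ne_zero hd₂ hν0
  set N₂ : GL (Fin (k + 1)) F := Matrix.GeneralLinearGroup.mkOfDetNeZero (Matrix.diagonal w₂) hd₂
    with hN₂
  set N₃ : GL (Fin (k + 1)) F := Matrix.GeneralLinearGroup.mkOfDetNeZero (Matrix.diagonal w₃) hd₃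
    with hN₃
  set Jn : GL (Fin (k + 1)) F := Matrix.GeneralLinearGroup.mkOfDetNeZero Jm hdetJ with hJn
  have hN₂v : (N₂ : Matrix (Fin (k + 1)) (Fin (k + 1)) F) = Matrix.diagonal w₂ := rfl
  have hN₃v : (N₃ : Matrix (Fin (k + 1)) (Fin (k + 1)) F) = Matrix.diagonal w₃ := rfl
  have hJnv : (Jn : Matrix (Fin (k + 1)) (Fin (k + 1)) F) = Jm := rfl
  have hsym₂ : (N₂ : Matrix (Fin (k + 1)) (Fin (k + 1)) F)ᵀ = N₂ := by
    rw [hN₂v]; exact Matrix.diagonal_transpose w₂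
  have hsym₃ : (N₃ : Matrix (Fin (k + 1)) (Fin (k + 1)) F)ᵀ = N₃ := by
    rw [hN₃v]; exact Matrix.diagonal_transpose w₃
  have hskew : (Jn : Matrix (Fin (k + 1)) (Fin (k + 1)) F)ᵀ = -Jn := by
    rw [hJnv, hJm, Matrix.transpose_submatrix, Matrix.J_transpose]
    rfl
  have hN₂ne : (N₂ : Matrix (Fin (k + 1)) (Fin (k + 1)) F) ≠ 0 := by
    intro h0
    apply hd₂
    rw [← hN₂v, h0, Matrix.det_zero]
  have hN₃ne : (N₃ : Matrix (Fin (k + 1)) (Fin (k + 1)) F) ≠ 0 := by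
    intro h0
    apply hd₃
    rw [← hN₃v, h0, Matrix.det_zero]
  refine ⟨gam Jn, gam N₂, gam N₃, 0, b, ?_, (isGraph_iff _).2 ⟨hn3, Jn, rfl⟩,
    orderOf_gam hn3 Jn (Or.inr hskew), (isGraph_iff _).2 ⟨hn3, N₂, rfl⟩,
    orderOf_gam hn3 N₂ (Or.inl hsym₂), (isGraph_iff _).2 ⟨hn3, N₃, rfl⟩,
    orderOf_gam hn3 N₃ (Or.inl hsym₃), ?_, ?_, ?_, ?_, ?_, ?_, ?_⟩
  · -- anisotropy
    intro z₁ z₂ hz
    have hz2 : z₂ = 0 := by
      by_contra hne
      apply hν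
      refine ⟨z₁ / z₂, ?_⟩
      field_simp
      rw [hb] at hz
      linear_combination -hz
    subst hz2
    refine ⟨?_, rfl⟩
    have : z₁ ^ 2 = 0 := by linear_combination hz
    exact pow_eq_zero_iff (two_ne_zero) |>.mp this
  · intro hc
    obtain ⟨h, c, e⟩ := (isConj_gam_iff hn0 Jn N₂).1 hc
    exact hN₂ne (not_cong_skew_sym h2 hskew hsym₂ c.ne_zero e)
  · intro hc
    obtain ⟨h, c, e⟩ := (isConj_gam_iff hn0 Jn N₃).1 hc
    exact hN₃ne (not_cong_skew_sym h2 hskew hsym₃ c.ne_zero e)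
  · intro hc
    obtain ⟨h, c, e⟩ := (isConj_gam_iff hn0 N₂ N₃).1 hc
    have e' := congrArg Matrix.det e
    rw [Matrix.det_mul, Matrix.det_mul, Matrix.det_transpose, Matrix.det_smul, Fintype.card_fin,
      hN₂v, hN₃v, hrel] at e'
    have hpow : (c : F) ^ (k + 1) = ((c : F) ^ m) ^ 2 := by rw [hnm, mul_comm, pow_mul]
    rw [hpow] at e'
    apply hν
    have hc0 : (c : F) ^ m ≠ 0 := pow_ne_zero _ c.ne_zero
    have e'' : ((h : Matrix (Fin (k + 1)) (Fin (k + 1)) F).det ^ 2 - ν * ((c : F) ^ m) ^ 2) *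
        (Matrix.diagonal w₂).det = 0 := by
      linear_combination e'
    have h6 : (h : Matrix (Fin (k + 1)) (Fin (k + 1)) F).det ^ 2 = ν * ((c : F) ^ m) ^ 2 := by
      rcases mul_eq_zero.mp e'' with h5 | h5
      · linear_combination h5
      · exact absurd h5 hd₂
    refine ⟨(h : Matrix (Fin (k + 1)) (Fin (k + 1)) F).det / (c : F) ^ m, ?_⟩
    field_simp
    linear_combination -h6
  · intro γ hγ hγ2
    obtain ⟨A, rfl, hA⟩ := graph_invol γ hγ hγ2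
    have hdA : (A : Matrix (Fin (k + 1)) (Fin (k + 1)) F).det ≠ 0 :=
      Matrix.GeneralLinearGroup.det_ne_zero A
    rcases hA with hA | hA
    · by_cases hsq : IsSquare ((A : Matrix (Fin (k + 1)) (Fin (k + 1)) F).det *
          (Matrix.diagonal w₂).det)
      · obtain ⟨h, hh, e⟩ := sym_cong hodd h2 k _ _ hA (Matrix.diagonal_transpose w₂) hdA hd₂ hsq
        right; left
        exact conj_of_cong' hn0 N₂ A h hh e
      · have hsq' : IsSquare ((A : Matrix (Fin (k + 1)) (Fin (k + 1)) F).det *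
            (Matrix.diagonal w₃).det) := by
          rw [hrel, ← mul_assoc]
          exact isSquare_mul_of_not hsq hν
        obtain ⟨h, hh, e⟩ := sym_cong hodd h2 k _ _ hA (Matrix.diagonal_transpose w₃) hdA hd₃ hsq'
        right; right
        exact conj_of_cong' hn0 N₃ A h hh e
    · obtain ⟨h, hh, e⟩ := skew_normal_form h2 σ₁ _ hA hdA
      left
      exact conj_of_cong' hn0 Jn A h hh e
  · obtain ⟨e1⟩ := cent_gam_equiv hn0 Jn (Cfsg.Geo.similarityGroup (F := F) (bform Jm))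
      (fun g => mem_bsim_iff Jm g)
    obtain ⟨e2⟩ := bsim_congr (LinearEquiv.funCongrLeft F F σ₁) (bform Jm) (Cfsg.sympForm m F)
      (fun u v => bform_submatrix σ₁ _ u v)
    exact ⟨e1.trans e2⟩
  · obtain ⟨e1⟩ := cent_gam_equiv hn0 N₂
      (Cfsg.Geo.quadSimilarityGroup (F := F) (formQ (Matrix.diagonal w₂)))
      (fun g => mem_sim_formQ_iff h2 (Matrix.diagonal w₂) (Matrix.diagonal_transpose w₂) g)
    have hq : QIso (formQ (Matrix.diagonal w₂)) (plusQ (F := F) (Fin m)) := by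
      have h1 : formQ (Matrix.diagonal w₂) = wQ (Fin (k + 1)) w₂ := funext (formQ_diagonal w₂)
      rw [h1]
      exact (wQ_reindex σ₁ (pmW (Fin m))).trans (wQ_pm_iso_plus h2 (Fin m))
    obtain ⟨e2⟩ := hq.pgo
    exact ⟨e1.trans e2⟩
  · obtain ⟨e1⟩ := cent_gam_equiv hn0 N₃
      (Cfsg.Geo.quadSimilarityGroup (F := F) (formQ (Matrix.diagonal w₃)))
      (fun g => mem_sim_formQ_iff h2 (Matrix.diagonal w₃) (Matrix.diagonal_transpose w₃) g)
    have hq : QIso (formQ (Matrix.diagonal w₃)) (minusQb (F := F) (Fin (m - 1)) b) := by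
      have h1 : formQ (Matrix.diagonal w₃) = wQ (Fin (k + 1)) w₃ := funext (formQ_diagonal w₃)
      rw [h1]
      exact (wQ_reindex σ₃ (pmbW (Fin (m - 1)) b)).trans (wQ_pmb_iso_minus h2 (Fin (m - 1)) hb0)
    obtain ⟨e2⟩ := hq.pgo
    exact ⟨e1.trans e2⟩

end Cfsg.Agent.S2700
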