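import Cfsg.Statements.S2707
import Cfsg.Agent.Lib.Helper5.PSUGr11
import Cfsg.Agent.Lib.Helper13.GraphAutClasses

set_option autoImplicit false
open Cfsg

namespace Cfsg.Agent.S2707

/-- Let T = PSU_n(q) with n = 2m ≥ 4 even and q odd, realised over the field F with q² elements, and G = Inndiag(T) the image of PGU_n(q). The involutory graph automorphisms of T fall into exactly three G-classes, with representatives whose centralizers in G are isomorphic respectively to the projective conformal symplectic group PGSp_n(F₀), the projective conformal orthogonal group of the plus-type form Σ xᵢ yᵢ, and that of a minus-type form Σ xᵢ yᵢ + z₁² + a z₁ z₂ + b z₂² (anisotropic binary part) in dimension n, all over a field F₀ with q elements. -/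
theorem result {F : Type*} [Field F] [Fintype F] {q : ℕ} (hodd : Odd q) (hF : Fintype.card F = q ^ 2) {n m : ℕ} (hm : 2 ≤ m) (hnm : n = 2 * m) (F₀ : Type*) [Field F₀] [Fintype F₀] (hF₀ : Fintype.card F₀ = q) :
    ∃ (γ₁ γ₂ γ₃ : MulAut (Cfsg.PSU n F q)) (a b : F₀), (∀ z₁ z₂ : F₀, z₁ ^ 2 + a * z₁ * z₂ + b * z₂ ^ 2 = 0 → z₁ = 0 ∧ z₂ = 0) ∧ Cfsg.IsGraphAutClassPSU γ₁ ∧ orderOf γ₁ = 2 ∧ Cfsg.IsGraphAutClassPSU γ₂ ∧ orderOf γ₂ = 2 ∧ Cfsg.IsGraphAutClassPSU γ₃ ∧ orderOf γ₃ = 2 ∧ ¬ Cfsg.IsConjUnder (Cfsg.inndiagPSU n F q) γ₁ γ₂ ∧ ¬ Cfsg.IsConjUnder (Cfsg.inndiagPSU n F q) γ₁ γ₃ ∧ ¬ Cfsg.IsConjUnder (Cfsg.inndiagPSU n F q) γ₂ γ₃ ∧ (∀ γ : MulAut (Cfsg.PSU n F q), Cfsg.IsGraphAutClassPSU γ → orderOf γ = 2 → Cfsg.IsConjUnder (Cfsg.inndiagPSU n F q) γ₁ γ ∨ Cfsg.IsConjUnder (Cfsg.inndiagPSU n F q) γ₂ γ ∨ Cfsg.IsConjUnder (Cfsg.inndiagPSU n F q) γ₃ γ) ∧ Nonempty (↥(Cfsg.inndiagPSU n F q ⊓ Subgroup.centralizer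 {γ₁}) ≃* Cfsg.PGSp m F₀) ∧ Nonempty (↥(Cfsg.inndiagPSU n F q ⊓ Subgroup.centralizer {γ₂}) ≃* Cfsg.PGO F₀ (Cfsg.quadFormPlus m F₀)) ∧ Nonempty (↥(Cfsg.inndiagPSU n F q ⊓ Subgroup.centralizer {γ₃}) ≃* Cfsg.PGO F₀ (Cfsg.quadFormMinus (m - 1) F₀ a b)) := by
  classical
  open Matrix Cfsg.Agent.Helper13.PSLAut Cfsg.Agent.Helper13.SymCong
    Cfsg.Agent.Helper13.SimForms Cfsg.Agent.Helper13.DotForm
    Cfsg.Agent.Helper13.GraphAutClasses Cfsg.Agent.Helper5.PSUAut Cfsg.Agent.Helper5.PSUGr in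
  have hoddF₀ : Odd (Fintype.card F₀) := by rw [hF₀]; exact hodd
  have h2 : (2 : F₀) ≠ 0 := by
    intro h
    have h1 : ringChar F₀ = 2 :=
      CharP.ringChar_of_prime_eq_zero Nat.prime_two (by exact_mod_cast h)
    have h3 := FiniteField.even_card_of_char_two h1
    rcases hoddF₀ with ⟨k, hk⟩
    omega
  have hchar : ringChar F₀ ≠ 2 := by
    intro h
    apply h2
    have : CharP F₀ 2 := by rw [← h]; exact ringChar.charP F₀
    exact CharTwo.two_eq_zero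
  obtain ⟨ι₀⟩ := exists_ringHom_of_card hF hF₀
  obtain ⟨k, rfl⟩ : ∃ k, n = k + 1 := ⟨n - 1, by omega⟩
  have hn3 : 3 ≤ k + 1 := by omega
  have h32 : ¬ (k + 1 = 3 ∧ q = 2) := by omega
  obtain ⟨ν, hν⟩ := FiniteField.exists_nonsquare hchar
  have hν0 : ν ≠ 0 := by
    rintro rfl
    exact hν ⟨0, by simp⟩
  have σ₁ : Fin (k + 1) ≃ Fin m ⊕ Fin m :=
    Fintype.equivOfCardEq (by simp only [Fintype.card_sum, Fintype.card_fin]; omega)
  have σ₃ : Fin (k + 1) ≃ (Fin (m - 1) ⊕ Fin (m - 1)) ⊕ Fin 2 :=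
    Fintype.equivOfCardEq (by simp only [Fintype.card_sum, Fintype.card_fin]; omega)
  set b : F₀ := -ν with hb
  have hb0 : b ≠ 0 := neg_ne_zero.mpr hν0
  set w₂ : Fin (k + 1) → F₀ := fun i => pmW (Fin m) (σ₁ i) with hw₂
  set w₃ : Fin (k + 1) → F₀ := fun i => pmbW (Fin (m - 1)) b (σ₃ i) with hw₃
  set Jm : Matrix (Fin (k + 1)) (Fin (k + 1)) F₀ := (Matrix.J (Fin m) F₀).submatrix σ₁ σ₁ with hJm
  have hdet₂ : (Matrix.diagonal w₂).det = (-1) ^ m := by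
    rw [Matrix.det_diagonal]
    have := Equiv.prod_comp σ₁ (pmW (F := F₀) (Fin m))
    rw [hw₂, this, prod_pmW, Fintype.card_fin]
  have hdet₃ : (Matrix.diagonal w₃).det = (-1) ^ (m - 1) * b := by
    rw [Matrix.det_diagonal]
    have := Equiv.prod_comp σ₃ (pmbW (F := F₀) (Fin (m - 1)) b)
    rw [hw₃, this, prod_pmbW, Fintype.card_fin]
  have hdetJ : Jm.det ≠ 0 := by
    rw [hJm, Matrix.det_submatrix_equiv_self]
    intro h0
    have := Matrix.J_det_mul_J_det (Fin m) F₀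
    rw [h0, zero_mul] at this
    exact zero_ne_one this
  have hone : ((-1 : F₀)) ^ m ≠ 0 := pow_ne_zero _ (neg_ne_zero.mpr one_ne_zero)
  have hd₂ : (Matrix.diagonal w₂).det ≠ 0 := by rw [hdet₂]; exact hone
  have hrel : (Matrix.diagonal w₃).det = (Matrix.diagonal w₂).det * ν := by
    rw [hdet₂, hdet₃, hb]
    obtain ⟨m', rfl⟩ : ∃ m', m = m' + 1 := ⟨m - 1, by omega⟩
    rw [Nat.add_sub_cancel, pow_succ]
    ring
  have hd₃ : (Matrix.diagonal w₃).det ≠ 0 := by rw [hrel]; exact mul_ne_zero hd₂ hν0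
  have hskew : Jmᵀ = -Jm := by
    rw [hJm, Matrix.transpose_submatrix, Matrix.J_transpose]
    rfl
  have hN₂ne : (Matrix.diagonal w₂ : Matrix (Fin (k + 1)) (Fin (k + 1)) F₀) ≠ 0 := by
    intro h0
    apply hd₂
    rw [h0, Matrix.det_zero]
  have hN₃ne : (Matrix.diagonal w₃ : Matrix (Fin (k + 1)) (Fin (k + 1)) F₀) ≠ 0 := by
    intro h0
    apply hd₃
    rw [h0, Matrix.det_zero]
  have hJne : Jm ≠ 0 := by
    intro h0
    apply hdetJ
    rw [h0, Matrix.det_zero]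
  -- the element `η₀` with `σ η₀ = -η₀`
  obtain ⟨e, he⟩ := exists_sigmaQ_ne hF
  set η₀ : F := e - sigmaQ hF e with hη₀def
  have hη₀0 : η₀ ≠ 0 := fun h => he (sub_eq_zero.1 h).symm
  have hη₀ : sigmaQ hF η₀ = -η₀ := by
    rw [hη₀def, map_sub, sigmaQ_sigmaQ]; ring
  -- the three data
  obtain ⟨D₁, hD₁⟩ := exists_datum hF hF₀ ι₀ Jm hdetJ η₀ hη₀0 (Or.inr ⟨hη₀, hskew⟩)
  obtain ⟨D₂, hD₂⟩ := exists_datum hF hF₀ ι₀ (Matrix.diagonal w₂) hd₂ 1 one_ne_zero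
    (Or.inl ⟨map_one _, Matrix.diagonal_transpose w₂⟩)
  obtain ⟨D₃, hD₃⟩ := exists_datum hF hF₀ ι₀ (Matrix.diagonal w₃) hd₃ 1 one_ne_zero
    (Or.inl ⟨map_one _, Matrix.diagonal_transpose w₃⟩)
  set a₁ : ↥(CU (k + 1) F q) := ⟨aOf hF D₁, aOf_mem_CU hF hF₀ ι₀ hη₀0 hD₁⟩ with ha₁
  set a₂ : ↥(CU (k + 1) F q) := ⟨aOf hF D₂, aOf_mem_CU hF hF₀ ι₀ one_ne_zero hD₂⟩ with ha₂
  set a₃ : ↥(CU (k + 1) F q) := ⟨aOf hF D₃, aOf_mem_CU hF hF₀ ι₀ one_ne_zero hD₃⟩ with ha₃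
  have hord : ∀ (D : GL (Fin (k + 1)) F) (a : ↥(CU (k + 1) F q)), a.1 = aOf hF D →
      orderOf (gamU hF a) = 2 := by
    intro D a ha
    apply orderOf_gamU hF hn3 h32
    rw [sigmaCU_val', ha, aOf_mul_sG]
    exact Subgroup.one_mem _
  refine ⟨gamU hF a₁, gamU hF a₂, gamU hF a₃, 0, b, ?_, isGraph_gamU hF hn3 h32 a₁,
    hord D₁ a₁ rfl, isGraph_gamU hF hn3 h32 a₂, hord D₂ a₂ rfl, isGraph_gamU hF hn3 h32 a₃,
    hord D₃ a₃ rfl, ?_, ?_, ?_, ?_, ?_, ?_, ?_⟩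
  · -- anisotropy
    intro z₁ z₂ hz
    have hz2 : z₂ = 0 := by
      by_contra hne
      apply hν
      refine ⟨z₁ / z₂, ?_⟩
      field_simp
      rw [hb] at hz
      linear_combination -hz
    subst hz2
    refine ⟨?_, rfl⟩
    have : z₁ ^ 2 = 0 := by linear_combination hz
    exact pow_eq_zero_iff (two_ne_zero) |>.mp this
  · intro hc
    obtain ⟨kk, c, _, hc0, e⟩ := cong_of_conj hF hF₀ ι₀ hn3 h32 hη₀0 one_ne_zero hN₂ne hD₁ hD₂
      a₁ a₂ rfl rfl hc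
    exact hN₂ne (not_cong_skew_sym h2 hskew (Matrix.diagonal_transpose w₂) hc0
      (by rw [Matrix.transpose_transpose]; exact e))
  · intro hc
    obtain ⟨kk, c, _, hc0, e⟩ := cong_of_conj hF hF₀ ι₀ hn3 h32 hη₀0 one_ne_zero hN₃ne hD₁ hD₃
      a₁ a₃ rfl rfl hc
    exact hN₃ne (not_cong_skew_sym h2 hskew (Matrix.diagonal_transpose w₃) hc0
      (by rw [Matrix.transpose_transpose]; exact e))
  · intro hc
    obtain ⟨kk, c, _, hc0, e⟩ := cong_of_conj hF hF₀ ι₀ hn3 h32 one_ne_zero one_ne_zero hN₃ne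
      hD₂ hD₃ a₂ a₃ rfl rfl hc
    have e' := congrArg Matrix.det e
    rw [Matrix.det_mul, Matrix.det_mul, Matrix.det_transpose, Matrix.det_smul, Fintype.card_fin,
      hrel] at e'
    have hpow : c ^ (k + 1) = (c ^ m) ^ 2 := by rw [hnm, mul_comm, pow_mul]
    rw [hpow] at e'
    apply hν
    have hcm0 : c ^ m ≠ 0 := pow_ne_zero _ hc0
    have e'' : (kk.det ^ 2 - ν * (c ^ m) ^ 2) * (Matrix.diagonal w₂).det = 0 := by
      linear_combination e'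
    have h6 : kk.det ^ 2 = ν * (c ^ m) ^ 2 := by
      rcases mul_eq_zero.mp e'' with h5 | h5
      · linear_combination h5
      · exact absurd h5 hd₂
    refine ⟨kk.det / c ^ m, ?_⟩
    field_simp
    linear_combination -h6
  · intro γ hγ hγ2
    obtain ⟨D, S₀, a, ha, rfl, hdetS, hcase⟩ :=
      graph_invol_datum hF hF₀ ι₀ hn3 h32 η₀ hη₀0 hη₀ γ hγ hγ2
    rcases hcase with ⟨hsym, hdat⟩ | ⟨hsk, hdat⟩
    · by_cases hsq : IsSquare ((Matrix.diagonal w₂).det * S₀.det)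
      · obtain ⟨h, hh, e⟩ := sym_cong hoddF₀ h2 k _ _ (Matrix.diagonal_transpose w₂) hsym hd₂
          hdetS hsq
        right; left
        exact conj_of_cong hF hF₀ ι₀ hn3 h32 one_ne_zero hD₂ hdat a₂ a rfl ha hᵀ
          (by rw [Matrix.det_transpose]; exact hh) 1 one_ne_zero
          (by rw [Matrix.transpose_transpose, one_smul]; exact e)
      · have hsq' : IsSquare ((Matrix.diagonal w₃).det * S₀.det) := by
          have : (Matrix.diagonal w₃).det * S₀.det = (Matrix.diagonal w₂).det * S₀.det * ν := by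
            rw [hrel]; ring
          rw [this]
          exact isSquare_mul_of_not hsq hν
        obtain ⟨h, hh, e⟩ := sym_cong hoddF₀ h2 k _ _ (Matrix.diagonal_transpose w₃) hsym hd₃
          hdetS hsq'
        right; right
        exact conj_of_cong hF hF₀ ι₀ hn3 h32 one_ne_zero hD₃ hdat a₃ a rfl ha hᵀ
          (by rw [Matrix.det_transpose]; exact hh) 1 one_ne_zero
          (by rw [Matrix.transpose_transpose, one_smul]; exact e)
    · obtain ⟨h, hh, e⟩ := skew_normal_form h2 σ₁ S₀ hsk hdetS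
      left
      apply isConjUnder_symm
      exact conj_of_cong hF hF₀ ι₀ hn3 h32 hη₀0 hdat hD₁ a a₁ ha rfl hᵀ
        (by rw [Matrix.det_transpose]; exact hh) 1 one_ne_zero
        (by rw [Matrix.transpose_transpose, one_smul]; exact e)
  · obtain ⟨e1⟩ := cent_gamU_equiv hF hF₀ ι₀ hn3 h32 hη₀0 hJne hD₁ a₁ rfl
      (Cfsg.Geo.similarityGroup (F := F₀) (bform Jm)) (fun g => mem_bsim_iff Jm g)
    obtain ⟨e2⟩ := bsim_congr (LinearEquiv.funCongrLeft F₀ F₀ σ₁) (bform Jm) (Cfsg.sympForm m F₀)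
      (fun u v => bform_submatrix σ₁ _ u v)
    exact ⟨e1.trans e2⟩
  · obtain ⟨e1⟩ := cent_gamU_equiv hF hF₀ ι₀ hn3 h32 one_ne_zero hN₂ne hD₂ a₂ rfl
      (Cfsg.Geo.quadSimilarityGroup (F := F₀) (formQ (Matrix.diagonal w₂)))
      (fun g => mem_sim_formQ_iff h2 (Matrix.diagonal w₂) (Matrix.diagonal_transpose w₂) g)
    have hq : QIso (formQ (Matrix.diagonal w₂)) (plusQ (F := F₀) (Fin m)) := by
      have h1 : formQ (Matrix.diagonal w₂) = wQ (Fin (k + 1)) w₂ := funext (formQ_diagonal w₂)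
      rw [h1]
      exact (wQ_reindex σ₁ (pmW (Fin m))).trans (wQ_pm_iso_plus h2 (Fin m))
    obtain ⟨e2⟩ := hq.pgo
    exact ⟨e1.trans e2⟩
  · obtain ⟨e1⟩ := cent_gamU_equiv hF hF₀ ι₀ hn3 h32 one_ne_zero hN₃ne hD₃ a₃ rfl
      (Cfsg.Geo.quadSimilarityGroup (F := F₀) (formQ (Matrix.diagonal w₃)))
      (fun g => mem_sim_formQ_iff h2 (Matrix.diagonal w₃) (Matrix.diagonal_transpose w₃) g)
    have hq : QIso (formQ (Matrix.diagonal w₃)) (minusQb (F := F₀) (Fin (m - 1)) b) := by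
      have h1 : formQ (Matrix.diagonal w₃) = wQ (Fin (k + 1)) w₃ := funext (formQ_diagonal w₃)
      rw [h1]
      exact (wQ_reindex σ₃ (pmbW (Fin (m - 1)) b)).trans (wQ_pmb_iso_minus h2 (Fin (m - 1)) hb0)
    obtain ⟨e2⟩ := hq.pgo
    exact ⟨e1.trans e2⟩

end Cfsg.Agent.S2707
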