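import Cfsg.Statements.S2631
-- import your own Cfsg.Agent.* helpers here
import Mathlib
import Cfsg.Agent.Lib.Helper36.DicksonDet
import Cfsg.Agent.Lib.Helper36.OmegaChar2
import Cfsg.Agent.Lib.Helper43.OrthPlus
import Cfsg.Agent.S0831

set_option autoImplicit false
open Cfsg

namespace Cfsg.Agent.S2631

open Matrix Module QuadraticMap Cfsg.Agent.Helper36 Cfsg.Agent.Helper36.QuadInv
  Cfsg.Agent.Helper36.OmegaTrans Cfsg.Agent.Helper36.DicksonDet Cfsg.Agent.Helper36.TotSing
  Cfsg.Agent.Helper43 Cfsg.Agent.S2168 Cfsg.Agent.S0831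

/-- odd characteristic: an isometry of determinant one can be moved into `Ω` by a product of two
reflections of non-square spinor norm -/
theorem adjust_odd_det {F : Type*} [Field F] [Fintype F] {ι : Type} [Fintype ι] [DecidableEq ι]
    (Q : QuadraticForm F (ι → F)) (h2 : (2 : F) ≠ 0) (hQ : (polarBilin Q).Nondegenerate)
    (P : OG F ⇑Q → Prop) (hP1 : P 1)
    {b c : ι → F} (hb : Q b ≠ 0) (hc : Q c ≠ 0)
    (hPbc : P (reflIso Q hb * reflIso Q hc))
    (hns : ¬ IsSquare (Q b * Q c)) (g₀ : OG F ⇑Q)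
    (hdet : ((g₀ : GL ι F) : Matrix ι ι F).det = 1) :
    ∃ s, P s ∧ s * g₀ ∈ Cfsg.Omega F ⇑Q := by
  classical
  have hexc : Fintype.card F ≠ 2 ∨ Fintype.card ι ≠ 4 := by
    left
    intro h
    have : ringChar F = 2 := FiniteField.even_card_iff_char_two.2 (by rw [h])
    apply h2
    have hc := ringChar.Nat.cast_ringChar (R := F)
    rw [this] at hc
    exact_mod_cast hc
  obtain ⟨l, hl, hMl⟩ := Cfsg.Agent.S0786.matrix_cd_all Q hQ hexc
    ((g₀ : GL ι F) : Matrix ι ι F) (fun u => g₀.2 u u)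
  have hMl' : ((g₀ : GL ι F) : Matrix ι ι F) =
      (l.map (fun v => Cfsg.reflectionMatrix (⇑Q) v)).prod := hMl
  have hneg : (-1 : F) ≠ 1 := by
    intro h
    apply h2
    have : (1 : F) + 1 = 0 := by
      nth_rewrite 1 [← h]
      exact neg_add_cancel 1
    rw [← one_add_one_eq_two]
    exact this
  have hev : Even l.length := by
    rw [hMl', det_list_reflection Q l hl] at hdet
    exact (neg_one_pow_eq_one_iff_even hneg).mp hdet
  have key : ∀ (s : OG F ⇑Q) (ls : List (ι → F)), (∀ v ∈ ls, Q v ≠ 0) →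
      ((s : GL ι F) : Matrix ι ι F) = (ls.map (fun v => Cfsg.reflectionMatrix (⇑Q) v)).prod →
      Even (ls ++ l).length → IsSquare ((ls ++ l).map (fun v => Q v)).prod →
      s * g₀ ∈ Cfsg.Omega F ⇑Q := by
    intro s ls hls hs hev hsq
    refine (mem_Omega_iff_of_list_all Q h2 hQ (s * g₀) (ls ++ l) ?_
      (coe_mul_list Q s g₀ ls l hs hMl')).mpr ⟨hev, hsq⟩
    intro v hv
    rcases List.mem_append.mp hv with hv | hv
    · exact hls v hv
    · exact hl v hv
  by_cases hsq : IsSquare (l.map (fun v => Q v)).prod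
  · refine ⟨1, hP1, key 1 [] (by simp) (by simp) (by simpa using hev) (by simpa using hsq)⟩
  · refine ⟨reflIso Q hb * reflIso Q hc, hPbc, key _ [b, c] ?_ ?_ ?_ ?_⟩
    · intro v hv
      simp only [List.mem_cons, List.not_mem_nil, or_false] at hv
      rcases hv with rfl | rfl
      · exact hb
      · exact hc
    · rw [Subgroup.coe_mul, Units.val_mul]
      simp [reflIso_coe]
    · simp only [List.cons_append, List.nil_append, List.length_cons]
      rw [Nat.even_add_one, Nat.even_add_one, not_not]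
      exact hev
    · simp only [List.cons_append, List.nil_append, List.map_cons, List.prod_cons]
      rw [← mul_assoc]
      exact isSquare_mul_of_not hns hsq

/-- For the hyperbolic form Σ x_i y_i on F^(2m) over a finite field (m ≥ 1, excluding m = 2 over the field of two elements), Ω (the commutator subgroup of the orthogonal group) acts transitively on each of the two classes of maximal totally singular subspaces: if U and W are m-dimensional totally singular subspaces with m − dim(U ∩ W) even, some element of Ω carries U to W. -/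
theorem result {F : Type*} [Field F] [Fintype F] {m : ℕ} (hm : 1 ≤ m) (h : Fintype.card F ≠ 2 ∨ m ≠ 2) (U W : Submodule F (Fin m ⊕ Fin m → F)) (hU : Module.finrank F U = m) (hW : Module.finrank F W = m) (hU0 : ∀ u ∈ U, Cfsg.quadFormPlus m F u = 0) (hW0 : ∀ w ∈ W, Cfsg.quadFormPlus m F w = 0) (he : Even (m - Module.finrank F ↥(U ⊓ W))) : ∃ g : ↥(Cfsg.isometryGroup F (Cfsg.quadFormPlus m F)), g ∈ Cfsg.Omega F (Cfsg.quadFormPlus m F) ∧ U.map (Matrix.mulVecLin ((g : Matrix.GeneralLinearGroup (Fin m ⊕ Fin m) F) : Matrix (Fin m ⊕ Fin m) (Fin m ⊕ Fin m) F)) = W := by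
  classical
  set Q := Cfsg.Agent.Helper43.stdPlus F m with hQdef
  have hQ : (polarBilin Q).Nondegenerate := stdPlus_nondegenerate F m
  have hUm : IsMTS (⇑Q) m U := ⟨hU, hU0⟩
  have hWm : IsMTS (⇑Q) m W := ⟨hW, hW0⟩
  have e : U ≃ₗ[F] W := LinearEquiv.ofFinrankEq U W (hU.trans hW.symm)
  obtain ⟨g₀, hg₀⟩ := exists_iso_map_eq Q hQ U W e (fun u => by
    rw [hWm.2 _ (e u).2, hUm.2 _ u.2])
  by_cases h2 : (2 : F) = 0
  · -- characteristic two
    have : CharP F 2 := CharTwo.of_one_ne_zero_of_two_eq_zero one_ne_zero h2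
    have hδ₀ : dickson Q hQ finrank_V hUm g₀ = 1 := by
      rw [dickson_apply, hg₀, ZMod.natCast_eq_zero_iff_even.mpr he]
      rfl
    refine ⟨g₀, ?_, hg₀⟩
    obtain ⟨a₀, ha₀⟩ : ∃ a₀ : Fin m ⊕ Fin m → F,
        a₀ = Pi.single (Sum.inl (⟨0, hm⟩ : Fin m)) 1 + Pi.single (Sum.inr (⟨0, hm⟩ : Fin m)) 1 :=
      ⟨_, rfl⟩
    have h₀ : Cfsg.quadFormPlus m F a₀ ≠ 0 := by
      have : Cfsg.quadFormPlus m F a₀ = 1 := by
        rw [ha₀]
        unfold Cfsg.quadFormPlus
        rw [Finset.sum_eq_single (⟨0, hm⟩ : Fin m)]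
        · simp
        · intro b _ hb
          simp [hb]
        · intro hcon
          exact absurd (Finset.mem_univ _) hcon
      rw [this]
      exact one_ne_zero
    have hexc : Fintype.card F ≠ 2 ∨ Fintype.card (Fin m ⊕ Fin m) ≠ 4 := by
      rcases h with h | h
      · left; exact h
      · right
        simp only [Fintype.card_sum, Fintype.card_fin]
        omega
    have hrefl : QuadInv.refl isQuad_plus a₀ h₀ = reflIso Q (v := a₀) h₀ :=
      Subtype.ext (Units.ext (OmegaChar2.refl_coe isQuad_plus a₀ h₀))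
    have hδ : dickson Q hQ finrank_V hUm (QuadInv.refl isQuad_plus a₀ h₀) =
        Multiplicative.ofAdd 1 :=
      (congrArg (dickson Q hQ finrank_V hUm) hrefl).trans
        (dickson_reflIso Q hQ finrank_V hUm h₀)
    exact (OmegaChar2.mem_Omega_iff_delta isQuad_plus Bp_nondeg (count_ne_plus hm) hexc a₀ h₀
      (dickson Q hQ finrank_V hUm) hδ g₀).mpr hδ₀
  · -- odd characteristic
    have hdet : ((g₀ : GL (Fin m ⊕ Fin m) F) : Matrix (Fin m ⊕ Fin m) (Fin m ⊕ Fin m) F).det = 1 := by
      apply (even_dnat_iff_det Q h2 hQ finrank_V hUm g₀).mp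
      rw [hg₀]
      exact he
    have hpos : 0 < Module.finrank F W := by omega
    obtain ⟨w, hwW, hw0⟩ := Cfsg.Agent.Helper43.exists_ne_zero_of_finrank_pos W hpos
    obtain ⟨w', hw', hp⟩ := Cfsg.Agent.Helper43.exists_hyperbolic_partner Q hQ w hw0
      (hWm.2 w hwW)
    have hchar : ringChar F ≠ 2 := by
      intro hc
      apply h2
      have h3 := ringChar.Nat.cast_ringChar (R := F)
      rw [hc] at h3
      exact_mod_cast h3
    obtain ⟨lam, hlam⟩ := FiniteField.exists_nonsquare hchar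
    have hlam0 : lam ≠ 0 := by
      rintro rfl
      exact hlam ⟨0, by ring⟩
    have hQb : Q (w - lam • w') = -lam := Q_hyp Q (hWm.2 w hwW) hw' hp lam
    have hQc : Q (w - (1 : F) • w') = -1 := Q_hyp Q (hWm.2 w hwW) hw' hp 1
    have hb : Q (w - lam • w') ≠ 0 := by rw [hQb]; exact neg_ne_zero.mpr hlam0
    have hc : Q (w - (1 : F) • w') ≠ 0 := by rw [hQc]; exact neg_ne_zero.mpr one_ne_zero
    obtain ⟨s, hs, hmem⟩ := adjust_odd_det Q h2 hQ (Stab Q W) (stab_one Q W) hb hc
      (stab_hyp Q W hWm.2 hwW hw' hp hlam0 hb hc) (by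
        rw [hQb, hQc]
        simpa using hlam) g₀ hdet
    refine ⟨s * g₀, hmem, ?_⟩
    rw [map_mul_eq, hg₀]
    exact hs

end Cfsg.Agent.S2631
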