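import Cfsg.Statements.S0817
import Cfsg.Agent.Lib.Helper43.Tri.Main2
import Cfsg.Agent.Lib.Helper5.OrthAut7
import Cfsg.Agent.Lib.Helper41.RingAutFin
import Cfsg.Agent.Lib.Helper14.AutCount

set_option autoImplicit false
open Cfsg

namespace Cfsg.Agent.S0817

open QuadraticMap Cfsg.Agent.Helper13 Cfsg.Agent.Helper43 Cfsg.Agent.Helper5.OrthAut
  Cfsg.Agent.Helper14.AutCount

section aux

variable {F : Type*} [Field F] [Fintype F]

theorem center_eq_bot (m : ℕ) (hm : 4 ≤ m) :
    Subgroup.center (Cfsg.POmega F (Cfsg.quadFormPlus m F)) = ⊥ := by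
  classical
  have hfam := stdPlus_isHypFamily F m
  have hnd := stdPlus_nondegenerate F m
  have hcard : Fintype.card (Fin m ⊕ Fin m) = 2 * m := by simp; ring
  have hperf := hperf_of_hyp (stdPlus F m) hnd _ _ hfam (by omega) (by rw [hcard]; omega)
  have hsimple := pomega_simple (stdPlus F m) hnd _ _ hfam (by omega) (by rw [hcard]; omega)
  exact center_eq_bot_of_simple_perfect hsimple (commutator_quotient_eq_top _ hperf)

theorem card_of_surjective_ker {G D : Type*} [Group G] [Group D] (H K : Subgroup G) (hKH : K ≤ H)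
    (φ : ↥H →* D) (hφ : Function.Surjective φ) (hker : φ.ker = K.subgroupOf H) :
    Nat.card H = Nat.card D * Nat.card K := by
  rw [Subgroup.card_eq_card_quotient_mul_card_subgroup φ.ker,
    Nat.card_congr (QuotientGroup.quotientKerEquivOfSurjective φ hφ).toEquiv, hker,
    Nat.card_congr (Subgroup.subgroupOfEquivOfLe hKH).toEquiv]

theorem inn_le_pgoAut_plus (m : ℕ) :
    Cfsg.Inn (Cfsg.POmega F (Cfsg.quadFormPlus m F)) ≤ Cfsg.pgoAut F (Cfsg.quadFormPlus m F) := by
  classical
  exact (inn_le_psoAut (stdPlus F m)).trans (psoAut_le_pgoAut (stdPlus F m))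

theorem semisim_plus (m : ℕ) (σ : F ≃+* F) :
    ∃ g : GL (Fin m ⊕ Fin m) F, Cfsg.IsSemisimilarityPair (Cfsg.quadFormPlus m F) g σ := by
  classical
  refine ⟨1, 1, fun v => ?_⟩
  rw [Units.val_one, Matrix.one_mulVec, Units.val_one, one_mul]
  unfold Cfsg.quadFormPlus
  simp [map_sum, map_mul]

/-- `|PΓO| = f · |PGO-image|` -/
theorem card_gamma_plus (m : ℕ) (hm : 4 ≤ m) :
    Nat.card ↥(Cfsg.gammaPOmega F (Cfsg.quadFormPlus m F)) =
      Nat.card (RingAut F) * Nat.card ↥(Cfsg.pgoAut F (Cfsg.quadFormPlus m F)) := by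
  have hcard : Fintype.card (Fin m ⊕ Fin m) = 2 * m := by simp; ring
  exact Cfsg.Agent.Helper43.TriSigs.card_gamma (stdPlus F m) (stdPlus_nondegenerate F m) _ _
    (stdPlus_isHypFamily F m) (by omega) (by rw [hcard]; omega) (semisim_plus m)

/-- the index of `PΓO` in `Aut` -/
theorem index_gamma_plus (m : ℕ) (hm : 4 ≤ m) :
    (Cfsg.gammaPOmega F (Cfsg.quadFormPlus m F)).index = if m = 4 then 3 else 1 := by
  by_cases h4 : m = 4
  · subst h4
    rw [if_pos rfl]
    exact Cfsg.Agent.Helper43.Tri.index_gamma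
  · rw [if_neg h4, Cfsg.Agent.Helper5.OAut.gamma_plus (by omega), Subgroup.index_top]

end aux

/-- |Aut(PΩ⁺_2m(q))| for q = p^f, m ≥ 4: |PΩ⁺_2m(q)| times f, times 3 when m = 4, times 2 if p = 2, and times 8 or 4 if p is odd according as m(q−1)/2 is even or odd. -/
theorem result {F : Type*} [Field F] [Fintype F] (p f : ℕ) [Fact p.Prime] (hf : 1 ≤ f) (hF : Fintype.card F = p ^ f) (m : ℕ) (hm : 4 ≤ m) : Nat.card (MulAut (Cfsg.POmega F (Cfsg.quadFormPlus m F))) = (if m = 4 then 3 else 1) * (if p = 2 then 2 else (if Even (m * (p ^ f - 1) / 2) then 8 else 4)) * f * Nat.card (Cfsg.POmega F (Cfsg.quadFormPlus m F)) := by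
  classical
  have hp : p.Prime := Fact.out
  have hchar : CharP F p := charP_of_card_eq_prime_pow hF
  have hcen := center_eq_bot (F := F) m hm
  have h1 := Subgroup.index_mul_card (Cfsg.gammaPOmega F (Cfsg.quadFormPlus m F))
  rw [index_gamma_plus m hm, card_gamma_plus m hm,
    (Cfsg.Agent.Helper41.ringAut_cyclic_card p f hF).2] at h1
  rw [← h1]
  by_cases hp2 : p = 2
  · subst hp2
    rw [if_pos rfl]
    have h2 : (2 : F) = 0 := by
      have := CharP.cast_eq_zero F 2
      exact_mod_cast this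
    rw [Cfsg.Agent.Helper43.TriSigs.card_pgoAut_plus_even h2 hm]
    ring
  · rw [if_neg hp2]
    have hoddp : Odd p := hp.odd_of_ne_two hp2
    have hoddq : Odd (Fintype.card F) := by
      rw [hF]
      exact hoddp.pow
    have hinn := inn_le_pgoAut_plus (F := F) m
    obtain ⟨h4, h8⟩ := pgo_mod_inn_plus hoddq hm
    have hq4 : ∀ k : ℕ, Fintype.card F = 2 * k + 1 → (Fintype.card F % 4 = 3 ↔ Odd k) := by
      intro k hk
      rw [hk]
      constructor
      · intro h
        rw [Nat.odd_iff]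
        omega
      · intro h
        rw [Nat.odd_iff] at h
        omega
    obtain ⟨k, hk⟩ := hoddq
    have hk' : p ^ f - 1 = 2 * k := by
      rw [← hF, hk]
      omega
    have hexp : m * (p ^ f - 1) / 2 = m * k := by
      rw [hk', ← mul_assoc, mul_comm m 2, mul_assoc, Nat.mul_div_cancel_left _ (by norm_num)]
    rw [hexp]
    by_cases hcase : Odd m ∧ Fintype.card F % 4 = 3
    · obtain ⟨φ, hφ, hker⟩ := h4 hcase
      have hkodd : Odd k := (hq4 k hk).mp hcase.2
      have hnot : ¬ Even (m * k) := by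
        rw [Nat.not_even_iff_odd]
        exact hcase.1.mul hkodd
      rw [if_neg hnot, card_of_surjective_ker _ _ hinn φ hφ hker, card_mul_zmod, card_inn hcen]
      ring
    · obtain ⟨φ, hφ, hker⟩ := h8 hcase
      have heven : Even (m * k) := by
        by_contra hne
        rw [Nat.not_even_iff_odd, Nat.odd_mul] at hne
        exact hcase ⟨hne.1, (hq4 k hk).mpr hne.2⟩
      rw [if_pos heven, card_of_surjective_ker _ _ hinn φ hφ hker, DihedralGroup.nat_card,
        card_inn hcen]
      ring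

end Cfsg.Agent.S0817
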