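import Cfsg.Statements.S2642
import Mathlib
import Cfsg.Agent.Lib.Helper42.Jordan6
import Cfsg.Agent.S2587
import Cfsg.Agent.S2588

set_option autoImplicit false
open Cfsg

namespace Cfsg.Agent.S2642

section ranks

open Matrix Module Cfsg.Agent.Helper42.Jordan

universe u

variable {K : Type u} [Field K] {n : ℕ}

theorem mrk_eq_rank (N : Matrix (Fin n) (Fin n) K) (k : ℕ) : mrk N k = (N ^ k).rank := by
  unfold mrk rk
  rw [← Matrix.toLin'_pow]
  rfl

/-- rank is invariant under a bijective ring endomorphism of a finite field -/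
theorem rank_map_bij [Fintype K] (σ : K →+* K) (hσ : Function.Bijective σ)
    (A : Matrix (Fin n) (Fin n) K) : (A.map σ).rank = A.rank := by
  classical
  have hcardK : 2 ≤ Fintype.card K := Fintype.one_lt_card
  apply Nat.pow_right_injective hcardK
  show Fintype.card K ^ finrank K (LinearMap.range (A.map σ).mulVecLin) =
    Fintype.card K ^ finrank K (LinearMap.range A.mulVecLin)
  rw [← Module.card_eq_pow_finrank (K := K) (V := LinearMap.range (A.map σ).mulVecLin),
    ← Module.card_eq_pow_finrank (K := K) (V := LinearMap.range A.mulVecLin)]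
  symm
  apply Fintype.card_congr
  refine Equiv.ofBijective (fun w => ⟨fun i => σ (w.1 i), ?_⟩) ⟨?_, ?_⟩
  · obtain ⟨v, hv⟩ := w.2
    refine ⟨fun i => σ (v i), ?_⟩
    funext i
    have := RingHom.map_mulVec σ A v i
    rw [Matrix.mulVecLin_apply] at hv ⊢
    rw [← hv]
    exact this.symm
  · intro w w' h
    apply Subtype.ext
    funext i
    have := congrFun (congrArg Subtype.val h) i
    exact hσ.1 this
  · rintro ⟨w, u, hu⟩
    obtain ⟨v, hv⟩ : ∃ v : Fin n → K, (fun i => σ (v i)) = u :=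
      ⟨fun i => (Function.surjInv hσ.2) (u i), by funext i; exact Function.surjInv_eq hσ.2 (u i)⟩
    refine ⟨⟨A.mulVecLin v, v, rfl⟩, ?_⟩
    apply Subtype.ext
    funext i
    show σ ((A *ᵥ v) i) = w i
    rw [RingHom.map_mulVec σ A v i, ← hu, Matrix.mulVecLin_apply, ← hv]
    rfl

theorem mrk_map [Fintype K] (σ : K →+* K) (hσ : Function.Bijective σ)
    (N : Matrix (Fin n) (Fin n) K) (k : ℕ) : mrk (N.map σ) k = mrk N k := by
  rw [mrk_eq_rank, mrk_eq_rank]
  have : (N.map σ) ^ k = (N ^ k).map σ := by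
    have := map_pow σ.mapMatrix N k
    simpa [RingHom.mapMatrix_apply] using this.symm
  rw [this, rank_map_bij σ hσ]

theorem mrk_transpose (N : Matrix (Fin n) (Fin n) K) (k : ℕ) : mrk Nᵀ k = mrk N k := by
  rw [mrk_eq_rank, mrk_eq_rank, ← Matrix.transpose_pow, Matrix.rank_transpose]

/-- the inverse of a unipotent element has the same rank sequence -/
theorem mrk_inv (G : GL (Fin n) K) (k : ℕ) : mrk (G⁻¹.val - 1) k = mrk (G.val - 1) k := by
  rw [mrk_eq_rank, mrk_eq_rank]
  have h1 : G⁻¹.val * G.val = 1 := by rw [← Units.val_mul]; simp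
  have hcomm : Commute G⁻¹.val (1 - G.val) := by
    have : Commute G⁻¹.val G.val := by
      show G⁻¹.val * G.val = G.val * G⁻¹.val
      rw [← Units.val_mul, ← Units.val_mul]; simp
    exact (Commute.one_right _).sub_right this
  have h2 : G⁻¹.val - 1 = G⁻¹.val * (1 - G.val) := by
    rw [mul_sub, mul_one, h1]
  rw [h2, hcomm.mul_pow]
  have hdet : IsUnit ((G⁻¹.val) ^ k).det := by
    rw [← Units.val_pow_eq_pow_val]
    exact (Matrix.isUnit_iff_isUnit_det _).1 (Units.isUnit _)
  rw [Matrix.rank_mul_eq_right_of_isUnit_det _ _ hdet]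
  have h3 : (1 - G.val) ^ k = ((-1 : Matrix (Fin n) (Fin n) K)) ^ k * (G.val - 1) ^ k := by
    rw [← (Commute.neg_one_left _).mul_pow]
    congr 1
    rw [neg_one_mul, neg_sub]
  have hdet2 : IsUnit (((-1 : Matrix (Fin n) (Fin n) K)) ^ k).det := by
    apply (Matrix.isUnit_iff_isUnit_det _).1
    exact IsUnit.pow k (isUnit_one.neg)
  rw [h3, Matrix.rank_mul_eq_right_of_isUnit_det _ _ hdet2]

end ranks

section main

open Matrix Module Cfsg.Agent.Helper42.Jordan

universe u

variable {K : Type u} [Field K] [Fintype K] {q n : ℕ}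

theorem exists_frob (p : ℕ) [Fact p.Prime] [CharP K p] (hK : Fintype.card K = q ^ 2) :
    ∃ σ : K →+* K, Function.Bijective σ ∧ ∀ x, σ x = x ^ q := by
  have hp : p.Prime := Fact.out
  obtain ⟨k, _, hk⟩ := FiniteField.card K p
  have hdvd : q ∣ p ^ (k : ℕ) := by
    rw [← hk, hK, pow_two]
    exact Dvd.intro _ rfl
  obtain ⟨a, _, ha⟩ := (Nat.dvd_prime_pow hp).1 hdvd
  refine ⟨iterateFrobenius K p a, ?_, ?_⟩
  · exact Finite.injective_iff_bijective.1 (RingHom.injective _)
  · intro x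
    rw [iterateFrobenius_def, ha]

theorem exists_GU_of_partition (p : ℕ) [Fact p.Prime] [CharP K p] (hK : Fintype.card K = q ^ 2)
    (μ : Nat.Partition n) :
    ∃ B : ↥(Cfsg.GU n K q),
      IsNilpotent (((B : GL (Fin n) K) : Matrix (Fin n) (Fin n) K) - 1) ∧
      jt (((B : GL (Fin n) K) : Matrix (Fin n) (Fin n) K) - 1) = μ := by
  obtain ⟨N, hN, hjt⟩ := exists_jt_eq (F := K) μ
  obtain ⟨σ, hσb, hσ⟩ := exists_frob (K := K) p hK
  have hfun : (fun x : K => x ^ q) = ⇑σ := by
    funext x; exact (hσ x).symm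
  have hN₁ : IsNilpotent (N.map σ)ᵀ := by
    obtain ⟨k, hk⟩ := hN
    refine ⟨k, (mrk_eq_zero_iff _ _).1 ?_⟩
    rw [mrk_transpose, mrk_map σ hσb, (mrk_eq_zero_iff _ _).2 hk]
  have hval : ((unipOf N hN).val.map (fun x : K => x ^ q))ᵀ = (unipOf (N.map σ)ᵀ hN₁).val := by
    rw [unipOf_val, unipOf_val, hfun, Matrix.map_add _ (map_add σ), Matrix.map_one _ (map_zero σ) (map_one σ),
      Matrix.transpose_add, Matrix.transpose_one]
  have hM : (((unipOf N hN).val.map (fun x : K => x ^ q))ᵀ)⁻¹ = (unipOf (N.map σ)ᵀ hN₁)⁻¹.val := by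
    rw [hval, Matrix.coe_units_inv]
  have hmrk : ∀ k, mrk N k = mrk ((unipOf (N.map σ)ᵀ hN₁)⁻¹.val - 1) k := by
    intro k
    rw [mrk_inv, unipOf_val, add_sub_cancel_left, mrk_transpose, mrk_map σ hσb]
  obtain ⟨P, hP⟩ := exists_conj_of_mrk_eq N _ hN hmrk
  have hconj : IsConj ((unipOf N hN : GL (Fin n) K) : Matrix (Fin n) (Fin n) K)
      (((unipOf N hN).val.map (fun x : K => x ^ q))ᵀ)⁻¹ := by
    refine ⟨P, ?_⟩
    show P.val * (unipOf N hN).val = _ * P.val
    rw [hM, unipOf_val, mul_add, mul_one]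
    have h1 : P.val * N = ((unipOf (N.map σ)ᵀ hN₁)⁻¹.val - 1) * P.val := by
      rw [← hP, Matrix.mul_assoc, Matrix.mul_assoc]
      have : P⁻¹.val * P.val = 1 := by rw [← Units.val_mul]; simp
      rw [this, Matrix.mul_one]
    rw [h1, sub_mul, one_mul]
    abel
  obtain ⟨B, hB⟩ := (Cfsg.Agent.S2588.result hK (unipOf N hN)).2 hconj
  obtain ⟨c, hc⟩ := isConj_iff.1 hB
  have h4 : ((B : GL (Fin n) K) : Matrix (Fin n) (Fin n) K) - 1 = c.val * ((unipOf N hN).val - 1) * c⁻¹.val := by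
    rw [← conj_sub_one, hc]
  have hN' : (unipOf N hN).val - 1 = N := by rw [unipOf_val, add_sub_cancel_left]
  rw [hN'] at h4
  refine ⟨B, ?_, ?_⟩
  · rw [h4]; exact isNilpotent_conj c N hN
  · rw [h4, jt_conj c N hN, hjt]

end main

/-- Number of conjugacy classes of elements of order p in the general unitary group GU_n(q), q a power of p: every unipotent Jordan type occurs and the classes correspond to the partitions of n with all parts at most p other than the all-ones partition, exactly as in GL_n; so there are (number of partitions of n with parts ≤ p) − 1 classes. -/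
theorem result {K : Type*} [Field K] [Fintype K] {p q n : ℕ} [Fact p.Prime] [CharP K p] (hK : Fintype.card K = q ^ 2) : Nat.card {C : ConjClasses ↥(Cfsg.GU n K q) // ∃ g : ↥(Cfsg.GU n K q), ConjClasses.mk g = C ∧ orderOf g = p} = (Finset.univ.filter (fun μ : Nat.Partition n => ∀ a ∈ μ.parts, a ≤ p)).card - 1 := by
  classical
  have hp : p.Prime := Fact.out
  rw [← Cfsg.Agent.Helper42.Jordan.card_partitions_le p hp.one_lt.le]
  have key : ∀ g : ↥(Cfsg.GU n K q), orderOf g = p ↔
      IsNilpotent (((g : GL (Fin n) K) : Matrix (Fin n) (Fin n) K) - 1) ∧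
      ((∀ a ∈ (Cfsg.Agent.Helper42.Jordan.jt
          (((g : GL (Fin n) K) : Matrix (Fin n) (Fin n) K) - 1)).parts, a ≤ p) ∧
        ¬ ∀ a ∈ (Cfsg.Agent.Helper42.Jordan.jt
          (((g : GL (Fin n) K) : Matrix (Fin n) (Fin n) K) - 1)).parts, a ≤ 1) := by
    intro g
    rw [← Subgroup.orderOf_coe]
    exact Cfsg.Agent.Helper42.Jordan.orderOf_eq_prime_iff_jt p (g : GL (Fin n) K)
  let f : {C : ConjClasses ↥(Cfsg.GU n K q) // ∃ g : ↥(Cfsg.GU n K q),
      ConjClasses.mk g = C ∧ orderOf g = p} →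
      {μ : Nat.Partition n // (∀ a ∈ μ.parts, a ≤ p) ∧ ¬ ∀ a ∈ μ.parts, a ≤ 1} :=
    fun C => ⟨Cfsg.Agent.Helper42.Jordan.jt
      ((((Classical.choose C.2 : ↥(Cfsg.GU n K q)) : GL (Fin n) K) :
        Matrix (Fin n) (Fin n) K) - 1), ((key _).1 (Classical.choose_spec C.2).2).2⟩
  apply Nat.card_eq_of_bijective f
  constructor
  · intro C C' h
    have h1 := Classical.choose_spec C.2
    have h2 := Classical.choose_spec C'.2
    have h3 : Cfsg.Agent.Helper42.Jordan.jt
        ((((Classical.choose C.2 : ↥(Cfsg.GU n K q)) : GL (Fin n) K) :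
          Matrix (Fin n) (Fin n) K) - 1) =
        Cfsg.Agent.Helper42.Jordan.jt
        ((((Classical.choose C'.2 : ↥(Cfsg.GU n K q)) : GL (Fin n) K) :
          Matrix (Fin n) (Fin n) K) - 1) := congrArg Subtype.val h
    have n1 := ((key _).1 h1.2).1
    have n2 := ((key _).1 h2.2).1
    obtain ⟨P, hP⟩ := Cfsg.Agent.Helper42.Jordan.exists_conj_of_jt_eq _ _ n1 n2 h3
    apply Subtype.ext
    rw [← h1.1, ← h2.1, ConjClasses.mk_eq_mk_iff_isConj, Cfsg.Agent.S2587.result hK, isConj_iff]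
    refine ⟨P, ?_⟩
    apply Units.ext
    have := Cfsg.Agent.Helper42.Jordan.conj_sub_one P
      ((Classical.choose C.2 : ↥(Cfsg.GU n K q)) : GL (Fin n) K)
    rw [hP] at this
    exact sub_left_injective this
  · rintro ⟨μ, hμ⟩
    obtain ⟨B, hBn, hBjt⟩ := exists_GU_of_partition (K := K) (q := q) p hK μ
    have hBo : orderOf B = p := (key B).2 ⟨hBn, by rw [hBjt]; exact hμ⟩
    have hmem : ∃ g : ↥(Cfsg.GU n K q), ConjClasses.mk g = ConjClasses.mk B ∧ orderOf g = p :=
      ⟨B, rfl, hBo⟩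
    refine ⟨⟨ConjClasses.mk B, hmem⟩, ?_⟩
    apply Subtype.ext
    change Cfsg.Agent.Helper42.Jordan.jt
      ((((Classical.choose hmem : ↥(Cfsg.GU n K q)) : GL (Fin n) K) :
        Matrix (Fin n) (Fin n) K) - 1) = μ
    have h1 := Classical.choose_spec hmem
    have n1 := ((key _).1 h1.2).1
    have h5 := h1.1
    rw [ConjClasses.mk_eq_mk_iff_isConj, Cfsg.Agent.S2587.result hK, isConj_iff] at h5
    obtain ⟨P, hP⟩ := h5
    have h4 : ((B : GL (Fin n) K) : Matrix (Fin n) (Fin n) K) - 1 =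
        P.val * ((((Classical.choose hmem : ↥(Cfsg.GU n K q)) : GL (Fin n) K) :
          Matrix (Fin n) (Fin n) K) - 1) * P⁻¹.val := by
      rw [← Cfsg.Agent.Helper42.Jordan.conj_sub_one, hP]
    rw [← hBjt, h4, Cfsg.Agent.Helper42.Jordan.jt_conj _ _ n1]

end Cfsg.Agent.S2642
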