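import Cfsg.Statements.S0783
import Mathlib
import Cfsg.Agent.Lib.Lead.UnitaryGroupCard
import Cfsg.Agent.Lib.Helper13.Herm

set_option autoImplicit false
open Cfsg

namespace Cfsg.Agent.S0783

open Matrix Cfsg.Agent.Lead Cfsg.Agent.Helper19 Cfsg.Agent.Helper13

variable {F : Type*} [Field F] [Fintype F] {q : ℕ} {n : ℕ}

/-! ### scalar elements -/

/-- the scalar matrix `a • 1` as an element of `GL` -/
noncomputable def scalarGL (n : ℕ) (a : Fˣ) : Matrix.GeneralLinearGroup (Fin n) F :=
  Units.map (Matrix.scalar (Fin n) : F →+* Matrix (Fin n) (Fin n) F).toMonoidHom a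

theorem scalarGL_val (a : Fˣ) :
    (scalarGL n a : Matrix (Fin n) (Fin n) F) = Matrix.diagonal fun _ => (a : F) := by
  simp [scalarGL, Matrix.scalar_apply]

theorem scalarGL_mem (a : Fˣ) (ha : a ^ (q + 1) = 1) : scalarGL n a ∈ Cfsg.GU n F q := by
  apply diag_mem_GU (fun _ => (a : F)) _ _ (scalarGL_val a)
  intro _
  rw [← Units.val_pow_eq_pow_val, ha]
  rfl

theorem scalarGL_comm (a : Fˣ) (g : Matrix.GeneralLinearGroup (Fin n) F) :
    g * scalarGL n a = scalarGL n a * g := by
  apply Units.ext
  rw [Units.val_mul, Units.val_mul, scalarGL_val]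
  ext i j
  rw [Matrix.mul_diagonal, Matrix.diagonal_mul, mul_comm]

theorem scalarGL_det (a : Fˣ) :
    Matrix.GeneralLinearGroup.det (scalarGL n a) = a ^ n := by
  apply Units.ext
  rw [Matrix.GeneralLinearGroup.val_det_apply, scalarGL_val, Matrix.det_diagonal,
    Finset.prod_const, Finset.card_univ, Fintype.card_fin, Units.val_pow_eq_pow_val]

/-! ### the centre consists of scalars -/

theorem exists_norm_one_ne_one (hF : Fintype.card F = q ^ 2) :
    ∃ a : Fˣ, a ^ (q + 1) = 1 ∧ a ≠ 1 := by
  have hcard := card_norm_one_units hF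
  have hq : 2 ≤ q := herm_two_le hF
  have : Nontrivial {l : Fˣ // l ^ (q + 1) = 1} := by
    rw [← Finite.one_lt_card_iff_nontrivial, hcard]
    omega
  obtain ⟨x, hx⟩ := exists_ne (⟨1, one_pow _⟩ : {l : Fˣ // l ^ (q + 1) = 1})
  exact ⟨x.1, x.2, fun h => hx (Subtype.ext h)⟩

/-- diagonal matrix with one entry `a` -/
noncomputable def diagOne (i : Fin n) (a : Fˣ) : Matrix.GeneralLinearGroup (Fin n) F :=
  Matrix.GeneralLinearGroup.mkOfDetNeZero
    (Matrix.diagonal (Function.update (fun _ => (1 : F)) i (a : F))) (by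
      rw [Matrix.det_diagonal, Finset.prod_ne_zero_iff]
      intro j _
      by_cases hj : j = i
      · subst hj; simp
      · simp [Function.update_of_ne hj])

theorem diagOne_mem (i : Fin n) (a : Fˣ) (ha : a ^ (q + 1) = 1) :
    diagOne i a ∈ Cfsg.GU n F q := by
  apply diag_mem_GU (Function.update (fun _ => (1 : F)) i (a : F)) _ _ rfl
  intro j
  by_cases hj : j = i
  · subst hj
    simp only [Function.update_self]
    rw [← Units.val_pow_eq_pow_val, ha]
    rfl
  · simp [Function.update_of_ne hj]

/-- permutation matrix of a transposition -/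
noncomputable def swapGL (i j : Fin n) : Matrix.GeneralLinearGroup (Fin n) F :=
  Matrix.GeneralLinearGroup.mkOfDetNeZero ((Equiv.swap i j).toPEquiv.toMatrix) (by
    have := Matrix.det_permutation (R := F) (Equiv.swap i j)
    unfold Equiv.Perm.permMatrix at this
    rw [this]
    rcases Int.units_eq_one_or (Equiv.Perm.sign (Equiv.swap i j)) with h | h <;> simp [h])

theorem swapGL_mem (i j : Fin n) : swapGL (F := F) i j ∈ Cfsg.GU n F q := by
  rw [mem_GU_iff]
  intro u v
  change Cfsg.hermForm n F q ((Equiv.swap i j).toPEquiv.toMatrix *ᵥ u)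
    ((Equiv.swap i j).toPEquiv.toMatrix *ᵥ v) = _
  rw [PEquiv.toMatrix_toPEquiv_mulVec, PEquiv.toMatrix_toPEquiv_mulVec]
  unfold Cfsg.hermForm
  exact Equiv.sum_comp (Equiv.swap i j) (fun k => u k * v k ^ q)

theorem center_scalar (hF : Fintype.card F = q ^ 2) (hn : 1 ≤ n) (z : ↥(Cfsg.GU n F q))
    (hz : z ∈ Subgroup.center ↥(Cfsg.GU n F q)) :
    ∃ a : Fˣ, a ^ (q + 1) = 1 ∧ z.val = scalarGL n a := by
  rw [Subgroup.mem_center_iff] at hz
  obtain ⟨a, ha, ha1⟩ := exists_norm_one_ne_one hF
  have ha1' : (a : F) ≠ 1 := fun h => ha1 (Units.ext h)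
  -- off-diagonal entries vanish
  have hoff : ∀ i j : Fin n, i ≠ j → z.val.val i j = 0 := by
    intro i j hij
    have h1 := hz ⟨diagOne i a, diagOne_mem i a ha⟩
    have h2 := congrArg (fun g : ↥(Cfsg.GU n F q) => g.val.val i j) h1
    simp only [Subgroup.coe_mul, Units.val_mul] at h2
    change (Matrix.diagonal (Function.update (fun _ => (1 : F)) i (a : F)) * z.val.val :
        Matrix (Fin n) (Fin n) F) i j =
      (z.val.val * Matrix.diagonal (Function.update (fun _ => (1 : F)) i (a : F)) :
        Matrix (Fin n) (Fin n) F) i j at h2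
    rw [Matrix.diagonal_mul, Matrix.mul_diagonal, Function.update_self,
      Function.update_of_ne (Ne.symm hij), mul_one] at h2
    have h3 : ((a : F) - 1) * z.val.val i j = 0 := by rw [sub_mul, h2]; ring
    rcases mul_eq_zero.mp h3 with h | h
    · exact absurd (sub_eq_zero.mp h) ha1'
    · exact h
  -- diagonal entries agree
  have hdiag : ∀ i j : Fin n, z.val.val i i = z.val.val j j := by
    intro i j
    have h1 := hz ⟨swapGL i j, swapGL_mem i j⟩
    have h2 := congrArg (fun g : ↥(Cfsg.GU n F q) => g.val.val i j) h1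
    simp only [Subgroup.coe_mul, Units.val_mul] at h2
    change ((Equiv.swap i j).toPEquiv.toMatrix * z.val.val : Matrix (Fin n) (Fin n) F) i j =
      (z.val.val * (Equiv.swap i j).toPEquiv.toMatrix : Matrix (Fin n) (Fin n) F) i j at h2
    rw [PEquiv.toMatrix_toPEquiv_mul, PEquiv.mul_toMatrix_toPEquiv] at h2
    simp only [Matrix.submatrix_apply, id, Equiv.swap_apply_left, Equiv.symm_swap,
      Equiv.swap_apply_right] at h2
    exact h2.symm
  let i0 : Fin n := ⟨0, hn⟩
  have hz0 : z.val.val i0 i0 ≠ 0 := by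
    intro h0
    have hdet : z.val.val.det = 0 := by
      apply Matrix.det_eq_zero_of_row_eq_zero i0
      intro j
      by_cases hj : i0 = j
      · rw [← hj]; exact h0
      · exact hoff i0 j hj
    exact (Matrix.GeneralLinearGroup.det_ne_zero z.val) hdet
  have hval : ∃ c : F, c ≠ 0 ∧ z.val.val = Matrix.diagonal fun _ => c := by
    refine ⟨z.val.val i0 i0, hz0, ?_⟩
    ext i j
    by_cases hij : i = j
    · subst hij
      rw [Matrix.diagonal_apply_eq]
      exact hdiag i i0
    · rw [Matrix.diagonal_apply_ne _ hij]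
      exact hoff i j hij
  obtain ⟨c, hc0, hval⟩ := hval
  refine ⟨Units.mk0 c hc0, ?_, ?_⟩
  · have h1 := (mem_GU_iff z.val).mp z.2 (Pi.single i0 1) (Pi.single i0 1)
    have hcol : z.val.val *ᵥ (Pi.single i0 1 : Fin n → F) = c • Pi.single i0 1 := by
      rw [hval]
      ext k
      rw [Matrix.mulVec_diagonal]
      simp
    have hq : q ≠ 0 := by have := herm_two_le hF; omega
    rw [hcol, hermForm_smul_left, hermForm_smul_right, hermForm_single_single hq, if_pos rfl,
      mul_one] at h1
    apply Units.ext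
    rw [Units.val_pow_eq_pow_val, Units.val_mk0, pow_succ', h1]
    rfl
  · apply Units.ext
    rw [scalarGL_val, Units.val_mk0]
    exact hval

/-! ### the cyclic group of norm one elements -/

theorem card_range (hF : Fintype.card F = q ^ 2) (hn : 1 ≤ n) :
    Nat.card ↥(guDet n F q).range = q + 1 := by
  rw [← card_norm_one_units hF]
  exact Nat.card_congr (Equiv.subtypeEquivRight (guDet_range hF hn))

theorem exists_root (hF : Fintype.card F = q ^ 2) (hn : 1 ≤ n)
    (x : ↥(guDet n F q).range) (hx : x ^ ((q + 1) / Nat.gcd n (q + 1)) = 1) :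
    ∃ y : ↥(guDet n F q).range, y ^ n = x := by
  classical
  have hcard : Nat.card ↥(guDet n F q).range = q + 1 := card_range hF hn
  have hdq : Nat.gcd n (q + 1) ∣ q + 1 := Nat.gcd_dvd_right _ _
  have hdn : Nat.gcd n (q + 1) ∣ n := Nat.gcd_dvd_left _ _
  have hde : Nat.gcd n (q + 1) * ((q + 1) / Nat.gcd n (q + 1)) = q + 1 := Nat.mul_div_cancel' hdq
  have hdpos : 0 < Nat.gcd n (q + 1) := Nat.gcd_pos_of_pos_right _ (Nat.succ_pos q)
  generalize hd : Nat.gcd n (q + 1) = d at *
  generalize he : (q + 1) / d = e at *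
  have hepos : 0 < e := by
    rcases Nat.eq_zero_or_pos e with h | h
    · rw [h, mul_zero] at hde; omega
    · exact h
  have hle : (powMonoidHom n : ↥(guDet n F q).range →* ↥(guDet n F q).range).range ≤
      (powMonoidHom e : ↥(guDet n F q).range →* ↥(guDet n F q).range).ker := by
    rintro _ ⟨y, rfl⟩
    rw [MonoidHom.mem_ker, powMonoidHom_apply, powMonoidHom_apply, ← pow_mul]
    obtain ⟨n', hn'⟩ := hdn
    have : n * e = (q + 1) * n' := by rw [hn', ← hde]; ring
    rw [this, pow_mul, ← hcard, pow_card_eq_one', one_pow]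
  have hc1 : Nat.card (powMonoidHom e :
      ↥(guDet n F q).range →* ↥(guDet n F q).range).ker = e := by
    rw [IsCyclic.card_powMonoidHom_ker, hcard, ← hde]
    exact Nat.gcd_eq_right (Dvd.intro_left d rfl)
  have hc2 : Nat.card (powMonoidHom n :
      ↥(guDet n F q).range →* ↥(guDet n F q).range).range = e := by
    rw [IsCyclic.card_powMonoidHom_range, hcard, Nat.gcd_comm, hd, he]
  have heq := Subgroup.eq_of_le_of_card_ge hle (by rw [hc1, hc2])
  have hxk : x ∈ (powMonoidHom e : ↥(guDet n F q).range →* ↥(guDet n F q).range).ker := by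
    rw [MonoidHom.mem_ker, powMonoidHom_apply]; exact hx
  rw [← heq] at hxk
  obtain ⟨y, hy⟩ := hxk
  exact ⟨y, by rw [← hy, powMonoidHom_apply]⟩

/-- PGU_n(q)/PSU_n(q) is cyclic of order (n, q+1): for n ≥ 2 and |F| = q² there is a surjective homomorphism from GU_n(q) onto the cyclic group of order gcd(n, q + 1) whose kernel is generated by the determinant-one elements together with the centre. -/
theorem result {F : Type*} [Field F] [Fintype F] {q : ℕ} (hF : Fintype.card F = q ^ 2) (n : ℕ) (hn : 2 ≤ n) : ∃ φ : ↥(Cfsg.GU n F q) →* Multiplicative (ZMod (Nat.gcd n (q + 1))), Function.Surjective φ ∧ φ.ker = (Matrix.GeneralLinearGroup.det : Matrix.GeneralLinearGroup (Fin n) F →* Fˣ).ker.subgroupOf (Cfsg.GU n F q) ⊔ Subgroup.center ↥(Cfsg.GU n F q) := by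
  classical
  have hn1 : 1 ≤ n := by omega
  set M := (guDet n F q).range with hM
  have hcard : Nat.card M = q + 1 := card_range hF hn1
  set d := Nat.gcd n (q + 1) with hd
  set e := (q + 1) / d with he
  have hdq : d ∣ q + 1 := Nat.gcd_dvd_right _ _
  have hdn : d ∣ n := Nat.gcd_dvd_left _ _
  have hde : d * e = q + 1 := Nat.mul_div_cancel' hdq
  have hdpos : 0 < d := Nat.gcd_pos_of_pos_right _ (Nat.succ_pos q)
  have hepos : 0 < e := by
    rcases Nat.eq_zero_or_pos e with h | h
    · rw [h, mul_zero] at hde; omega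
    · exact h
  have : NeZero d := ⟨hdpos.ne'⟩
  let f : M →* M := powMonoidHom e
  have hRcard : Nat.card f.range = Nat.card (Multiplicative (ZMod d)) := by
    rw [IsCyclic.card_powMonoidHom_range, hcard, (Nat.card_congr Multiplicative.toAdd).trans
      (Nat.card_zmod d), ← hde, Nat.gcd_eq_right (Dvd.intro_left d rfl),
      Nat.mul_div_cancel _ hepos]
  let iso : f.range ≃* Multiplicative (ZMod d) := mulEquivOfCyclicCardEq hRcard
  let φ : ↥(Cfsg.GU n F q) →* Multiplicative (ZMod d) :=
    iso.toMonoidHom.comp (f.rangeRestrict.comp (guDet n F q).rangeRestrict)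
  have hker : ∀ g : ↥(Cfsg.GU n F q), g ∈ φ.ker ↔ (guDet n F q g) ^ e = 1 := by
    intro g
    rw [MonoidHom.mem_ker]
    simp only [φ, MonoidHom.comp_apply, MulEquiv.coe_toMonoidHom, MulEquiv.map_eq_one_iff]
    rw [Subtype.ext_iff, MonoidHom.coe_rangeRestrict, Subtype.ext_iff]
    simp only [f, powMonoidHom_apply, SubmonoidClass.coe_pow, OneMemClass.coe_one]
    rfl
  refine ⟨φ, ?_, ?_⟩
  · exact iso.surjective.comp ((MonoidHom.rangeRestrict_surjective f).comp
      (MonoidHom.rangeRestrict_surjective (guDet n F q)))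
  · apply le_antisymm
    · intro g hg
      rw [hker] at hg
      obtain ⟨y, hy⟩ := exists_root hF hn1 ((guDet n F q).rangeRestrict g) (by
        apply Subtype.ext
        simp only [SubmonoidClass.coe_pow, MonoidHom.coe_rangeRestrict, OneMemClass.coe_one]
        exact hg)
      have hy1 : (y : Fˣ) ^ (q + 1) = 1 := (guDet_range hF hn1 _).mp y.2
      have hyn : (y : Fˣ) ^ n = guDet n F q g := by
        have := congrArg Subtype.val hy
        simpa using this
      let s : ↥(Cfsg.GU n F q) := ⟨scalarGL n (y : Fˣ), scalarGL_mem _ hy1⟩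
      have hs : s ∈ Subgroup.center ↥(Cfsg.GU n F q) := by
        rw [Subgroup.mem_center_iff]
        intro g'
        apply Subtype.ext
        exact scalarGL_comm _ _
      have hgs : g * s⁻¹ ∈ (Matrix.GeneralLinearGroup.det :
          Matrix.GeneralLinearGroup (Fin n) F →* Fˣ).ker.subgroupOf (Cfsg.GU n F q) := by
        rw [Subgroup.mem_subgroupOf, MonoidHom.mem_ker]
        have h1 : Matrix.GeneralLinearGroup.det ((g * s⁻¹ : ↥(Cfsg.GU n F q)) :
            Matrix.GeneralLinearGroup (Fin n) F) = guDet n F q g * (guDet n F q s)⁻¹ := by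
          simp [guDet]
        rw [h1]
        have h2 : guDet n F q s = (y : Fˣ) ^ n := scalarGL_det _
        rw [h2, hyn, mul_inv_cancel]
      have : g = (g * s⁻¹) * s := by group
      rw [this]
      exact Subgroup.mul_mem_sup hgs hs
    · apply sup_le
      · intro g hg
        rw [Subgroup.mem_subgroupOf, MonoidHom.mem_ker] at hg
        rw [hker]
        have : guDet n F q g = 1 := hg
        rw [this, one_pow]
      · intro z hz
        rw [hker]
        obtain ⟨a, ha, hza⟩ := center_scalar hF hn1 z hz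
        have h1 : guDet n F q z = a ^ n := by
          change Matrix.GeneralLinearGroup.det z.val = a ^ n
          rw [hza, scalarGL_det]
        obtain ⟨n', hn'⟩ := hdn
        have h2 : n * e = (q + 1) * n' := by rw [hn', ← hde]; ring
        rw [h1, ← pow_mul, h2, pow_mul, ha, one_pow]

end Cfsg.Agent.S0783
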