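import Mathlib
import Cfsg.Statements.S2582
import Cfsg.Agent.Lib.Helper14.UnipConj
import Cfsg.Agent.Lib.Helper14.UnipParity
import Cfsg.Agent.Lib.Helper14.UnipAlt
import Cfsg.Agent.Lib.Lead.SpCard
-- import your own Cfsg.Agent.* helpers here

set_option autoImplicit false
open Cfsg

namespace Cfsg.Agent.S2582

open Module Matrix Cfsg.Agent.Helper42.Jordan Cfsg.Agent.Helper14.JordanRk
  Cfsg.Agent.Helper14.UnipConj Cfsg.Agent.Helper14.UnipParity Cfsg.Agent.Helper14.UnipAlt
  Cfsg.Agent.Lead

universe u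

variable {F : Type u} [Field F] {m : ℕ}

/-- a matrix preserves the standard alternating form iff it is symplectic -/
lemma mem_symp_iff_isom (M : Matrix (Fin m ⊕ Fin m) (Fin m ⊕ Fin m) F) :
    M ∈ Matrix.symplecticGroup (Fin m) F ↔
      ∀ x y, stdForm (Fin m) F (Matrix.toLin' M x) (Matrix.toLin' M y) = stdForm (Fin m) F x y := by
  rw [SymplecticGroup.mem_iff']
  constructor
  · intro h x y
    have := Matrix.toBilin'_comp (Matrix.J (Fin m) F) M M
    rw [h] at this
    have h2 := congrArg (fun B : LinearMap.BilinForm F (Fin m ⊕ Fin m → F) => B x y) this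
    exact h2
  · intro h
    have := Matrix.toBilin'_comp (Matrix.J (Fin m) F) M M
    apply Matrix.toBilin'.injective
    rw [← this]
    apply LinearMap.ext; intro x
    apply LinearMap.ext; intro y
    exact h x y

lemma toLin'_sub_one {J : Type*} [Fintype J] [DecidableEq J] (M : Matrix J J F) :
    Matrix.toLin' M - 1 = Matrix.toLin' (M - 1) := by
  rw [map_sub, Matrix.toLin'_one]; rfl

/-- the form of a linear combination -/
lemma form_linComb {V : Type*} [AddCommGroup V] [Module F V] (B : LinearMap.BilinForm F V)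
    {J : Type*} [Fintype J] [DecidableEq J] (g : J → V) (M : Matrix J J F)
    (hg : ∀ a b, B (g a) (g b) = M a b) (x y : J → F) :
    B (Fintype.linearCombination F g x) (Fintype.linearCombination F g y) =
      Matrix.toBilin' M x y := by
  rw [Fintype.linearCombination_apply, Fintype.linearCombination_apply, Matrix.toBilin'_apply]
  simp only [map_sum, LinearMap.sum_apply, map_smul, LinearMap.smul_apply, smul_eq_mul, hg]
  rw [Finset.sum_comm]
  apply Finset.sum_congr rfl
  intro a _
  rw [Finset.mul_sum]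
  apply Finset.sum_congr rfl
  intro b _
  ring

theorem only_if [Fintype F] {t : ℕ} (d : Fin t → ℕ)
    (e : ((k : Fin t) × Fin (d k)) ≃ (Fin m ⊕ Fin m)) (A : Matrix.symplecticGroup (Fin m) F)
    (hconj : IsConj (Matrix.reindex e e (Cfsg.jordanTypeMatrix d F))
      (A : Matrix (Fin m ⊕ Fin m) (Fin m ⊕ Fin m) F)) (j : ℕ) (hj : Odd j) :
    Even (Finset.univ.filter (fun k : Fin t => d k = j)).card := by
  obtain ⟨c, hc⟩ := hconj
  have hrk : ∀ i, rk (Matrix.toLin' (A : Matrix (Fin m ⊕ Fin m) (Fin m ⊕ Fin m) F) - 1) i =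
      ∑ k, (d k - i) := by
    intro i
    rw [toLin'_sub_one, ← rk_of_semiconj c _ _ hc i, rk_jordan_reindex]
  have heven : ∀ k, Even (∑ l, (d l - 2 * k)) := by
    intro k
    rw [← hrk]
    exact even_rk_even (stdForm (Fin m) F) stdForm_nondegenerate stdForm_isAlt _
      ((mem_symp_iff_isom _).mp A.2) k
  obtain ⟨r, hr⟩ := hj
  have h1 := card_filter_add d j (by omega)
  have h2 := heven r
  have h3 := heven (r + 1)
  rw [show j - 1 = 2 * r by omega, show j + 1 = 2 * (r + 1) by omega] at h1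
  obtain ⟨a, ha⟩ := h2
  obtain ⟨b, hb⟩ := h3
  exact ⟨a + b - ∑ k, (d k - j), by omega⟩

/-- existence of a symplectic basis, as a linear equivalence with the standard form -/
theorem exists_std_equiv [Finite F] (V : Type u) [AddCommGroup V] [Module F V]
    [FiniteDimensional F V] (B : LinearMap.BilinForm F V) (hB : B.Nondegenerate) (halt : B.IsAlt)
    (hdim : finrank F V = 2 * m) :
    ∃ φ : (Fin m ⊕ Fin m → F) ≃ₗ[F] V, ∀ x y, B (φ x) (φ y) = stdForm (Fin m) F x y := by
  have hcard := card_sympFam m V B hB halt hdim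
  have hq : 1 < Nat.card F := Finite.one_lt_card
  have hpos : 0 < Nat.card {p : (Fin m → V) × (Fin m → V) // IsSympFam B m p} := by
    rw [hcard]
    apply Nat.mul_pos (pow_pos (by omega) _)
    apply Finset.prod_pos
    intro i _
    have : 1 < Nat.card F ^ (2 * (i + 1)) := Nat.one_lt_pow (by omega) hq
    omega
  obtain ⟨⟨p, hp1, hp2, hp3⟩⟩ := (Nat.card_pos_iff.mp hpos).1
  let g : Fin m ⊕ Fin m → V := Sum.elim p.2 p.1
  have hg : ∀ a b, B (g a) (g b) = Matrix.J (Fin m) F a b := by
    rintro (a | a) (b | b)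
    · rw [J_apply_inl_inl]; exact hp2 a b
    · rw [J_apply_inl_inr]
      show B (p.2 a) (p.1 b) = _
      rw [← LinearMap.IsAlt.neg halt, hp3 b a]
      by_cases h : a = b
      · rw [if_pos h, if_pos h.symm]
      · rw [if_neg h, if_neg (Ne.symm h), neg_zero]
    · rw [J_apply_inr_inl]; exact hp3 a b
    · rw [J_apply_inr_inr]; exact hp1 a b
  have hform : ∀ x y, B (Fintype.linearCombination F g x) (Fintype.linearCombination F g y) =
      stdForm (Fin m) F x y := form_linComb B g _ hg
  have hinj : Function.Injective (Fintype.linearCombination F g) := by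
    rw [← LinearMap.ker_eq_bot, LinearMap.ker_eq_bot']
    intro x hx
    apply (stdForm_nondegenerate (l := Fin m) (F := F)).1
    intro y
    rw [← hform, hx]; simp
  have hdim' : finrank F (Fin m ⊕ Fin m → F) = finrank F V := by
    rw [hdim, Module.finrank_fintype_fun_eq_card]; simp; ring
  exact ⟨LinearEquiv.ofInjectiveOfFinrankEq _ hinj hdim', hform⟩

theorem if_dir [Fintype F] {t : ℕ} (d : Fin t → ℕ) (hsum : ∑ k, d k = 2 * m)
    (hpar : ∀ j : ℕ, Odd j → Even (Finset.univ.filter (fun k : Fin t => d k = j)).card) :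
    ∃ e : ((k : Fin t) × Fin (d k)) ≃ (Fin m ⊕ Fin m), ∃ A : Matrix.symplecticGroup (Fin m) F,
      IsConj (Matrix.reindex e e (Cfsg.jordanTypeMatrix d F))
        (A : Matrix (Fin m ⊕ Fin m) (Fin m ⊕ Fin m) F) := by
  obtain ⟨M, hM⟩ := altReal_of_parity (F := F) (Finset.univ.val.map d)
    (fun j hj => by rw [count_map_eq]; exact hpar j hj)
  have hdim : finrank F M.V = 2 * m := by
    rw [← rk_zero (M.A - 1), hM 0, sum_map_sub, ← hsum]; simp
  obtain ⟨φ, hφ⟩ := exists_std_equiv M.V M.B M.nondeg M.alt hdim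
  have e : ((k : Fin t) × Fin (d k)) ≃ (Fin m ⊕ Fin m) := by
    apply Fintype.equivOfCardEq
    rw [Fintype.card_sigma, Fintype.card_sum]
    simp only [Fintype.card_fin]
    rw [hsum]; ring
  let A' : Module.End F (Fin m ⊕ Fin m → F) :=
    (φ.symm : M.V →ₗ[F] (Fin m ⊕ Fin m → F)) ∘ₗ M.A ∘ₗ (φ : (Fin m ⊕ Fin m → F) →ₗ[F] M.V)
  have hA'φ : ∀ x, φ (A' x) = M.A (φ x) := fun x => by simp [A']
  have hmem : LinearMap.toMatrix' A' ∈ Matrix.symplecticGroup (Fin m) F := by
    rw [mem_symp_iff_isom]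
    intro x y
    rw [Matrix.toLin'_toMatrix', ← hφ, hA'φ, hA'φ, M.isom, hφ]
  refine ⟨e, ⟨LinearMap.toMatrix' A', hmem⟩, ?_⟩
  apply isConj_of_rk_eq _ _ (isNilpotent_jordan_reindex d e)
  intro i
  rw [rk_jordan_reindex, ← toLin'_sub_one]
  show _ = rk (Matrix.toLin' (LinearMap.toMatrix' A') - 1) i
  rw [Matrix.toLin'_toMatrix', rk_conj (A' - 1) (M.A - 1) φ (fun x => by
    rw [LinearMap.sub_apply, LinearMap.sub_apply, map_sub, hA'φ]; rfl) i, hM i, sum_map_sub]

/-- Which unipotent Jordan types occur in the finite symplectic group: over a finite field, a unipotent matrix with Jordan block sizes d_1, …, d_t (sum 2m, all at least 1) is similar to an element of Sp_2m(F) if and only if every odd block size occurs an even number of times. -/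
theorem result {F : Type*} [Field F] [Fintype F] {m t : ℕ} (d : Fin t → ℕ) (hd : ∀ k, 1 ≤ d k) (hsum : ∑ k, d k = 2 * m) : (∃ e : ((k : Fin t) × Fin (d k)) ≃ (Fin m ⊕ Fin m), ∃ A : Matrix.symplecticGroup (Fin m) F, IsConj (Matrix.reindex e e (Cfsg.jordanTypeMatrix d F)) (A : Matrix (Fin m ⊕ Fin m) (Fin m ⊕ Fin m) F)) ↔ ∀ j : ℕ, Odd j → Even (Finset.univ.filter (fun k : Fin t => d k = j)).card := by
  constructor
  · rintro ⟨e, A, hconj⟩ j hj
    exact only_if d e A hconj j hj
  · intro hpar
    exact if_dir d hsum hpar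

end Cfsg.Agent.S2582
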