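import Cfsg.Statements.S2758
import Mathlib
import Cfsg.Agent.Lib.Helper46.Involves
import Cfsg.Agent.S0206

set_option autoImplicit false
open Cfsg

namespace Cfsg.Agent.S2758

open Cfsg.Agent.Helper46

section

variable {G : Type*} [Group G]

/-- inversion gives the conjugation relation the other way -/
theorem inv_conj_of_conj {x y : G} (h : x * y * x⁻¹ = y⁻¹) : x⁻¹ * y * x = y⁻¹ := by
  have h1 : y = x⁻¹ * y⁻¹ * x := by rw [← h]; group
  have h2 : y⁻¹ = (x⁻¹ * y⁻¹ * x)⁻¹ := by rw [← h1]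
  rw [h2]; group

theorem eq_one_of_commute_of_invert {p : ℕ} [Fact p.Prime] (hp : p ≠ 2) {x y : G}
    (hy : ∃ k : ℕ, orderOf y = p ^ k) (h : x * y * x⁻¹ = y⁻¹) (hc : x * y = y * x) : y = 1 := by
  have h1 : y = y⁻¹ := by rw [← h, hc, mul_inv_cancel_right]
  have h2 : y ^ 2 = 1 := by rw [pow_two]; nth_rewrite 2 [h1]; exact mul_inv_cancel y
  obtain ⟨k, hk⟩ := hy
  have h3 : orderOf y ∣ 2 := orderOf_dvd_of_pow_eq_one h2
  rw [hk] at h3
  have hcop : Nat.Coprime (p ^ k) 2 := by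
    apply Nat.Coprime.pow_left
    rw [Nat.coprime_primes (Fact.out : p.Prime) Nat.prime_two]
    exact hp
  have h4 : p ^ k = 1 := Nat.Coprime.eq_one_of_dvd hcop h3
  rw [← orderOf_eq_one_iff, hk, h4]

/-- (C) ⇒ (B) -/
theorem normalizes_of_inverts {p : ℕ} [Fact p.Prime] (hp : p ≠ 2) {x y : G}
    (hy : ∃ k : ℕ, orderOf y = p ^ k) (hy1 : y ≠ 1) (h : x * y * x⁻¹ = y⁻¹) :
    IsPGroup p ↥(Subgroup.zpowers y) ∧ x ∈ Subgroup.normalizer ((Subgroup.zpowers y : Subgroup G) : Set G) ∧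
      x ∉ Subgroup.centralizer ((Subgroup.zpowers y : Subgroup G) : Set G) := by
  refine ⟨?_, ?_, ?_⟩
  · obtain ⟨k, hk⟩ := hy
    apply IsPGroup.of_card (n := k)
    rw [Nat.card_zpowers, hk]
  · have key : ∀ x' : G, x' * y * x'⁻¹ = y⁻¹ → ∀ h' ∈ Subgroup.zpowers y, x' * h' * x'⁻¹ ∈ Subgroup.zpowers y := by
      intro x' hx' h' hh'
      obtain ⟨i, rfl⟩ := Subgroup.mem_zpowers_iff.mp hh'
      have : x' * y ^ i * x'⁻¹ = (y⁻¹) ^ i := by
        rw [← hx', conj_zpow]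
      rw [this]
      exact Subgroup.zpow_mem _ (Subgroup.inv_mem _ (Subgroup.mem_zpowers y)) i
    rw [Subgroup.mem_normalizer_iff]
    intro h'
    constructor
    · exact key x h h'
    · intro hh
      have h2 : x⁻¹ * y * x⁻¹⁻¹ = y⁻¹ := by rw [inv_inv]; exact inv_conj_of_conj h
      have := key x⁻¹ h2 _ hh
      have e : x⁻¹ * (x * h' * x⁻¹) * x⁻¹⁻¹ = h' := by group
      rwa [e] at this
  · intro hc
    rw [Subgroup.mem_centralizer_iff] at hc
    have := hc y (Subgroup.mem_zpowers y)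
    exact hy1 (eq_one_of_commute_of_invert hp hy h this.symm)

/-- (B) ⇒ (C) -/
theorem inverts_of_normalizes {p : ℕ} [Fact p.Prime] {x : G} {P : Subgroup G}
    (hx : ∃ k : ℕ, orderOf x = 2 ^ k) (hP : IsPGroup p ↥P) (hxN : x ∈ Subgroup.normalizer (P : Set G))
    (hxC : x ∉ Subgroup.centralizer (P : Set G)) :
    ∃ x' y : G, (∃ k : ℕ, orderOf x' = 2 ^ k) ∧ (∃ k : ℕ, orderOf y = p ^ k) ∧ y ≠ 1 ∧ x' * y * x'⁻¹ = y⁻¹ := by
  classical
  obtain ⟨k, hk⟩ := hx
  have hex : ∃ j : ℕ, x ^ (2 ^ j) ∈ Subgroup.centralizer (P : Set G) :=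
    ⟨k, by rw [← hk, pow_orderOf_eq_one]; exact Subgroup.one_mem _⟩
  set j := Nat.find hex with hj
  have hjspec : x ^ (2 ^ j) ∈ Subgroup.centralizer (P : Set G) := Nat.find_spec hex
  have hj0 : j ≠ 0 := by
    intro h0
    rw [h0, pow_zero, pow_one] at hjspec
    exact hxC hjspec
  obtain ⟨j', hj'⟩ := Nat.exists_eq_succ_of_ne_zero hj0
  set x' := x ^ (2 ^ j') with hx'
  have hx'C : x' ∉ Subgroup.centralizer (P : Set G) := by
    have : j' < j := by omega
    exact Nat.find_min hex this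
  have hx'2 : x' * x' ∈ Subgroup.centralizer (P : Set G) := by
    have : x' * x' = x ^ (2 ^ j) := by
      rw [hx', ← pow_add, hj', pow_succ, mul_two]
    rw [this]; exact hjspec
  have hx'N : x' ∈ Subgroup.normalizer (P : Set G) := Subgroup.pow_mem _ hxN _
  have hx'ord : ∃ k' : ℕ, orderOf x' = 2 ^ k' := by
    have hdvd : orderOf x' ∣ 2 ^ k := by
      rw [← hk]; exact orderOf_pow_dvd _
    obtain ⟨k', -, hk'⟩ := (Nat.dvd_prime_pow Nat.prime_two).mp hdvd
    exact ⟨k', hk'⟩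
  -- an element of P moved by x'
  have hmove : ∃ y₀ ∈ P, x' * y₀ * x'⁻¹ ≠ y₀ := by
    by_contra hcon
    push Not at hcon
    apply hx'C
    rw [Subgroup.mem_centralizer_iff]
    intro h' hh'
    have := hcon h' hh'
    have e : x' * h' = (x' * h' * x'⁻¹) * x' := by group
    rw [e, this]
  obtain ⟨y₀, hy₀, hy₀ne⟩ := hmove
  have hconjmem : x' * y₀ * x'⁻¹ ∈ P := (Subgroup.mem_normalizer_iff.mp hx'N y₀).mp hy₀
  refine ⟨x', y₀⁻¹ * (x' * y₀ * x'⁻¹), hx'ord, ?_, ?_, ?_⟩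
  · have hmem : y₀⁻¹ * (x' * y₀ * x'⁻¹) ∈ P := P.mul_mem (P.inv_mem hy₀) hconjmem
    obtain ⟨k', hk'⟩ := hP ⟨_, hmem⟩
    have hk'' : (y₀⁻¹ * (x' * y₀ * x'⁻¹)) ^ p ^ k' = 1 := by
      have := congrArg Subtype.val hk'
      simpa using this
    obtain ⟨k'', -, hk3⟩ := (Nat.dvd_prime_pow (Fact.out : p.Prime)).mp (orderOf_dvd_of_pow_eq_one hk'')
    exact ⟨k'', hk3⟩
  · intro h1
    apply hy₀ne
    have := congrArg (fun z => y₀ * z) h1
    simpa using this
  · have hcomm : x' * x' * y₀ = y₀ * (x' * x') := by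
      have := (Subgroup.mem_centralizer_iff.mp hx'2) y₀ hy₀
      exact this.symm
    have e1 : x' * (y₀⁻¹ * (x' * y₀ * x'⁻¹)) * x'⁻¹ = (x' * y₀ * x'⁻¹)⁻¹ * ((x' * x' * y₀) * (x' * x')⁻¹) := by group
    rw [e1, hcomm]
    group

end

section CtoA

variable {G : Type*} [Group G] [Finite G]

/-- (C) ⇒ (A), for an inverted element of order exactly `p` -/
theorem involves_of_inverts_prime {p : ℕ} [Fact p.Prime] (hp : p ≠ 2) {x y : G}
    (hy : orderOf y = p) (h : x * y * x⁻¹ = y⁻¹) : Cfsg.Involves (DihedralGroup p) G := by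
  have hpp : p.Prime := Fact.out
  have hy' : ∃ k : ℕ, orderOf y = p ^ k := ⟨1, by rw [hy, pow_one]⟩
  have hy1 : y ≠ 1 := by
    intro h1
    rw [h1, orderOf_one] at hy
    exact hpp.one_lt.ne hy
  set c := x * x with hc
  have hcy : c * y = y * c := by
    have h2 := inv_conj_of_conj h
    have e : c * y = x * (x * y * x⁻¹) * x := by rw [hc]; group
    rw [e, h]
    have e2 : y * c = x * (x⁻¹ * y * x) * x := by rw [hc]; group
    rw [e2, h2]
  have hcx : c * x = x * c := by rw [hc]; group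
  -- elements of zpowers c commute with x and y
  have hcomm : ∀ z ∈ Subgroup.zpowers c, z * x = x * z ∧ z * y = y * z := by
    intro z hz
    obtain ⟨i, rfl⟩ := Subgroup.mem_zpowers_iff.mp hz
    exact ⟨(Commute.zpow_left hcx i), (Commute.zpow_left hcy i)⟩
  have hxnot : x ∉ Subgroup.zpowers c := by
    intro hx
    have := (hcomm x hx).2
    exact hy1 (eq_one_of_commute_of_invert hp hy' h this)
  have hynot : y ∉ Subgroup.zpowers c := by
    intro hyz
    have := (hcomm y hyz).1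
    exact hy1 (eq_one_of_commute_of_invert hp hy' h this.symm)
  have hxynot : x * y ∉ Subgroup.zpowers c := by
    intro hxy
    have h1 := (hcomm _ hxy).1
    have h2 : y * x = x * y := by
      have := congrArg (fun z => x⁻¹ * z) h1
      simpa [mul_assoc] using this
    exact hy1 (eq_one_of_commute_of_invert hp hy' h h2.symm)
  set K : Subgroup G := Subgroup.centralizer ({c} : Set G) with hK
  have hxK : x ∈ K := by rw [hK, Subgroup.mem_centralizer_singleton_iff]; exact hcx.symm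
  have hyK : y ∈ K := by rw [hK, Subgroup.mem_centralizer_singleton_iff]; exact hcy.symm
  have hcK : c ∈ K := by rw [hK, Subgroup.mem_centralizer_singleton_iff]
  set N : Subgroup ↥K := Subgroup.zpowers (⟨c, hcK⟩ : ↥K) with hN
  have hNmem : ∀ k : ↥K, k ∈ N ↔ (k : G) ∈ Subgroup.zpowers c := by
    intro k
    rw [hN, Subgroup.mem_zpowers_iff, Subgroup.mem_zpowers_iff]
    constructor
    · rintro ⟨i, hi⟩
      exact ⟨i, by rw [← hi]; simp⟩
    · rintro ⟨i, hi⟩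
      exact ⟨i, Subtype.ext (by rw [← hi]; simp)⟩
  have hNnormal : N.Normal := by
    constructor
    intro n hn g
    have hn' := (hNmem n).mp hn
    obtain ⟨i, hi⟩ := Subgroup.mem_zpowers_iff.mp hn'
    have hg : (g : G) * c = c * (g : G) := by
      have hg2 : (g : G) ∈ Subgroup.centralizer ({c} : Set G) := g.2
      rw [Subgroup.mem_centralizer_singleton_iff] at hg2
      exact hg2
    have : g * n * g⁻¹ = n := by
      apply Subtype.ext
      push_cast
      rw [← hi]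
      have : (g : G) * c ^ i = c ^ i * (g : G) := (Commute.zpow_right hg i)
      rw [this, mul_inv_cancel_right]
    rw [this]; exact hn
  let f : ↥K →* ↥K ⧸ N := QuotientGroup.mk' N
  have hf1 : ∀ k : ↥K, f k = 1 ↔ (k : G) ∈ Subgroup.zpowers c := by
    intro k
    rw [← hNmem]
    exact QuotientGroup.eq_one_iff k
  set a : ↥K ⧸ N := f ⟨x, hxK⟩ with ha
  set b : ↥K ⧸ N := f ⟨x * y, K.mul_mem hxK hyK⟩ with hb
  have ha1 : a ≠ 1 := fun h1 => hxnot ((hf1 _).mp h1)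
  have hb1 : b ≠ 1 := fun h1 => hxynot ((hf1 _).mp h1)
  have ha2 : a ^ 2 = 1 := by
    rw [ha, ← map_pow, hf1]
    change (x ^ 2) ∈ _
    rw [pow_two]
    exact Subgroup.mem_zpowers c
  have hb2 : b ^ 2 = 1 := by
    rw [hb, ← map_pow, hf1]
    change ((x * y) ^ 2) ∈ _
    have : (x * y) ^ 2 = c := by
      rw [pow_two]
      have e : x * y * (x * y) = (x * y * x⁻¹) * (c * y) := by rw [hc]; group
      rw [e, h, hcy]; group
    rw [this]
    exact Subgroup.mem_zpowers c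
  have hoa : orderOf a = 2 := orderOf_eq_prime ha2 ha1
  have hob : orderOf b = 2 := orderOf_eq_prime hb2 hb1
  have hab : a * b = f ⟨y, hyK⟩ := by
    rw [ha, hb, ← map_mul]
    have e : (⟨x, hxK⟩ : ↥K) * ⟨x * y, K.mul_mem hxK hyK⟩ = ⟨c, hcK⟩ * ⟨y, hyK⟩ := by
      apply Subtype.ext
      change x * (x * y) = c * y
      rw [hc]; group
    rw [e, map_mul]
    have : f ⟨c, hcK⟩ = 1 := (hf1 _).mpr (Subgroup.mem_zpowers c)
    rw [this, one_mul]
  have hne : a ≠ b := by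
    intro hab'
    have h1 : a * b = 1 := by
      rw [hab', ← pow_two, hb2]
    rw [hab] at h1
    exact hynot ((hf1 _).mp h1)
  have hoab : orderOf (a * b) = p := by
    rw [hab]
    apply orderOf_eq_prime
    · rw [← map_pow, hf1]
      change y ^ p ∈ _
      rw [← hy, pow_orderOf_eq_one]
      exact Subgroup.one_mem _
    · intro h1
      exact hynot ((hf1 _).mp h1)
  obtain ⟨e⟩ := Cfsg.Agent.S0206.result a b hoa hob hne
  rw [hoab] at e
  exact involves_of_surjective_subgroup K f (QuotientGroup.mk'_surjective N) _ e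

/-- (C) ⇒ (A) -/
theorem involves_of_inverts {p : ℕ} [Fact p.Prime] (hp : p ≠ 2) {x y : G}
    (hy : ∃ k : ℕ, orderOf y = p ^ k) (hy1 : y ≠ 1) (h : x * y * x⁻¹ = y⁻¹) :
    Cfsg.Involves (DihedralGroup p) G := by
  have hpp : p.Prime := Fact.out
  obtain ⟨k, hk⟩ := hy
  have hk0 : k ≠ 0 := by
    intro h0
    rw [h0, pow_zero, orderOf_eq_one_iff] at hk
    exact hy1 hk
  obtain ⟨k', rfl⟩ := Nat.exists_eq_succ_of_ne_zero hk0
  have hord : orderOf (y ^ (p ^ k')) = p := by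
    rw [orderOf_pow_of_dvd (pow_ne_zero _ hpp.ne_zero) (by rw [hk]; exact pow_dvd_pow p (Nat.le_succ k')), hk,
      pow_succ, Nat.mul_div_cancel_left _ (pow_pos hpp.pos k')]
  have hinv : x * (y ^ (p ^ k')) * x⁻¹ = (y ^ (p ^ k'))⁻¹ := by
    rw [← conj_pow, h, inv_pow]
  exact involves_of_inverts_prime hp hord hinv

end CtoA


section AtoB

open DihedralGroup

variable {G : Type*} [Group G] [Finite G]

theorem sr_pow_odd {n : ℕ} (j : ZMod n) {m : ℕ} (hm : Odd m) : (sr j : DihedralGroup n) ^ m = sr j := by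
  obtain ⟨l, rfl⟩ := hm
  rw [pow_succ, pow_mul, pow_two, sr_mul_self, one_pow, one_mul]

/-- (A) ⇒ (B) -/
theorem normalizes_of_involves {p : ℕ} [Fact p.Prime] (hp : p ≠ 2)
    (h : Cfsg.Involves (DihedralGroup p) G) :
    ∃ (x : G) (P : Subgroup G), (∃ k : ℕ, orderOf x = 2 ^ k) ∧ IsPGroup p ↥P ∧
      x ∈ Subgroup.normalizer (P : Set G) ∧ x ∉ Subgroup.centralizer (P : Set G) := by
  have hpp : p.Prime := Fact.out
  obtain ⟨K, f, hf⟩ := exists_surjective_of_involves h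
  -- the preimage of the rotation subgroup
  let B₀ : Subgroup ↥K :=
    { carrier := {k | ∃ i : ZMod p, f k = r i}
      one_mem' := ⟨0, by rw [map_one, r_zero]⟩
      mul_mem' := by
        rintro a b ⟨i, hi⟩ ⟨j, hj⟩
        exact ⟨i + j, by rw [map_mul, hi, hj, r_mul_r]⟩
      inv_mem' := by
        rintro a ⟨i, hi⟩
        exact ⟨-i, by rw [map_inv, hi, inv_r]⟩ }
  have hB₀mem : ∀ k : ↥K, k ∈ B₀ ↔ ∃ i : ZMod p, f k = r i := fun k => Iff.rfl
  have hB₀normal : B₀.Normal := by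
    constructor
    rintro n ⟨i, hi⟩ g
    rw [hB₀mem, map_mul, map_mul, map_inv, hi]
    rcases hfg : f g with j | j
    · exact ⟨i, by rw [inv_r, r_mul_r, r_mul_r]; congr 1; ring⟩
    · exact ⟨-i, by rw [inv_sr, sr_mul_r, sr_mul_sr]; congr 1; ring⟩
  -- a p-element mapping to a nontrivial rotation
  obtain ⟨g₀, hg₀⟩ := hf (r 1)
  have hord0 : orderOf g₀ ≠ 0 := (orderOf_pos g₀).ne'
  obtain ⟨a', m', hm', hnm⟩ := Nat.exists_eq_pow_mul_and_not_dvd hord0 p hpp.ne_one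
  set g' := g₀ ^ m' with hg'
  have hfg' : f g' = r (m' : ZMod p) := by
    rw [hg', map_pow, hg₀, r_one_pow]
  have hm'0 : (m' : ZMod p) ≠ 0 := by
    rw [Ne, ZMod.natCast_eq_zero_iff]
    exact hm'
  have hg'B : g' ∈ B₀ := ⟨_, hfg'⟩
  have hg'ord : orderOf g' = p ^ a' := by
    have hm'pos : m' ≠ 0 := by
      intro h0
      rw [h0, mul_zero] at hnm
      exact hord0 hnm
    rw [hg', orderOf_pow_of_dvd hm'pos (by rw [hnm]; exact dvd_mul_left _ _), hnm,
      Nat.mul_div_cancel _ (Nat.pos_of_ne_zero hm'pos)]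
  -- a Sylow p-subgroup of B₀ containing g'
  have hZ : IsPGroup p ↥(Subgroup.zpowers (⟨g', hg'B⟩ : ↥B₀)) := by
    apply IsPGroup.of_card (n := a')
    rw [Nat.card_zpowers, ← hg'ord]
    exact Subgroup.orderOf_mk g' hg'B
  obtain ⟨Q, hQ⟩ := hZ.exists_le_sylow
  have hFr := Sylow.normalizer_sup_eq_top Q
  set Q' : Subgroup ↥K := (Q : Subgroup ↥B₀).map B₀.subtype with hQ'
  have hg'Q : g' ∈ Q' := by
    rw [hQ']
    exact ⟨⟨g', hg'B⟩, hQ (Subgroup.mem_zpowers _), rfl⟩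
  -- an element of the normalizer mapping to a reflection
  obtain ⟨k₀, hk₀⟩ := hf (sr 0)
  have hk₀top : k₀ ∈ Subgroup.normalizer (Q' : Set ↥K) ⊔ B₀ := by rw [hFr]; exact Subgroup.mem_top _
  obtain ⟨n, hn, b, hb, hnb⟩ := Subgroup.mem_sup_of_normal_right.mp hk₀top
  obtain ⟨i, hi⟩ := hb
  have hfn : f n = sr (-i) := by
    have : f n = f k₀ * (f b)⁻¹ := by rw [← hnb, map_mul, mul_inv_cancel_right]
    rw [this, hk₀, hi, inv_r, sr_mul_r, zero_add]
  -- the 2-part of n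
  have hordn : orderOf n ≠ 0 := (orderOf_pos n).ne'
  obtain ⟨a, m, hm, hnm2⟩ := Nat.exists_eq_pow_mul_and_not_dvd hordn 2 (by norm_num)
  have hmodd : Odd m := by
    rw [← Nat.not_even_iff_odd, even_iff_two_dvd]; exact hm
  have hmpos : m ≠ 0 := by
    intro h0
    rw [h0, mul_zero] at hnm2
    exact hordn hnm2
  set x₁ := n ^ m with hx₁
  have hfx₁ : f x₁ = sr (-i) := by rw [hx₁, map_pow, hfn, sr_pow_odd _ hmodd]
  have hx₁ord : orderOf x₁ = 2 ^ a := by
    rw [hx₁, orderOf_pow_of_dvd hmpos (by rw [hnm2]; exact dvd_mul_left _ _), hnm2,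
      Nat.mul_div_cancel _ (Nat.pos_of_ne_zero hmpos)]
  have hx₁N : x₁ ∈ Subgroup.normalizer (Q' : Set ↥K) := Subgroup.pow_mem _ hn _
  refine ⟨(x₁ : G), Q'.map K.subtype, ⟨a, by rw [Subgroup.orderOf_coe, hx₁ord]⟩, ?_, ?_, ?_⟩
  · exact (Q.isPGroup'.map _).map _
  · exact Subgroup.le_normalizer_map K.subtype ⟨x₁, hx₁N, rfl⟩
  · intro hc
    rw [Subgroup.mem_centralizer_iff] at hc
    have h1 := hc (g' : G) ⟨g', hg'Q, rfl⟩
    have h2 : g' * x₁ = x₁ * g' := Subtype.ext h1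
    have h3 := congrArg f h2
    rw [map_mul, map_mul, hfx₁, hfg', r_mul_sr, sr_mul_r] at h3
    have h4 : -i - (m' : ZMod p) = -i + (m' : ZMod p) := by
      injection h3
    have h5 : (2 : ZMod p) * (m' : ZMod p) = 0 := by linear_combination -h4
    rcases mul_eq_zero.mp h5 with h6 | h6
    · have : ((2 : ℕ) : ZMod p) = 0 := by exact_mod_cast h6
      rw [ZMod.natCast_eq_zero_iff] at this
      exact hp ((Nat.prime_dvd_prime_iff_eq hpp Nat.prime_two).mp this)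
    · exact hm'0 h6

end AtoB

/-- For an odd prime p and a finite group G the following are equivalent: the dihedral group of order 2p is involved in G; some element of 2-power order normalizes but does not centralize some p-subgroup of G; some element of 2-power order inverts some nonidentity element of p-power order. -/
theorem result {G : Type*} [Group G] [Finite G] {p : ℕ} [Fact p.Prime] (hp : p ≠ 2) : (Cfsg.Involves (DihedralGroup p) G ↔ ∃ (x : G) (P : Subgroup G), (∃ k : ℕ, orderOf x = 2 ^ k) ∧ IsPGroup p ↥P ∧ x ∈ Subgroup.normalizer (P : Set G) ∧ x ∉ Subgroup.centralizer (P : Set G)) ∧ (Cfsg.Involves (DihedralGroup p) G ↔ ∃ x y : G, (∃ k : ℕ, orderOf x = 2 ^ k) ∧ (∃ k : ℕ, orderOf y = p ^ k) ∧ y ≠ 1 ∧ x * y * x⁻¹ = y⁻¹) := by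
  have hAB : Cfsg.Involves (DihedralGroup p) G → ∃ (x : G) (P : Subgroup G), (∃ k : ℕ, orderOf x = 2 ^ k) ∧ IsPGroup p ↥P ∧ x ∈ Subgroup.normalizer (P : Set G) ∧ x ∉ Subgroup.centralizer (P : Set G) :=
    normalizes_of_involves hp
  have hBC : (∃ (x : G) (P : Subgroup G), (∃ k : ℕ, orderOf x = 2 ^ k) ∧ IsPGroup p ↥P ∧ x ∈ Subgroup.normalizer (P : Set G) ∧ x ∉ Subgroup.centralizer (P : Set G)) → ∃ x y : G, (∃ k : ℕ, orderOf x = 2 ^ k) ∧ (∃ k : ℕ, orderOf y = p ^ k) ∧ y ≠ 1 ∧ x * y * x⁻¹ = y⁻¹ := by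
    rintro ⟨x, P, hx, hP, hxN, hxC⟩
    exact inverts_of_normalizes hx hP hxN hxC
  have hCA : (∃ x y : G, (∃ k : ℕ, orderOf x = 2 ^ k) ∧ (∃ k : ℕ, orderOf y = p ^ k) ∧ y ≠ 1 ∧ x * y * x⁻¹ = y⁻¹) → Cfsg.Involves (DihedralGroup p) G := by
    rintro ⟨x, y, -, hy, hy1, h⟩
    exact involves_of_inverts hp hy hy1 h
  have hCB : (∃ x y : G, (∃ k : ℕ, orderOf x = 2 ^ k) ∧ (∃ k : ℕ, orderOf y = p ^ k) ∧ y ≠ 1 ∧ x * y * x⁻¹ = y⁻¹) → ∃ (x : G) (P : Subgroup G), (∃ k : ℕ, orderOf x = 2 ^ k) ∧ IsPGroup p ↥P ∧ x ∈ Subgroup.normalizer (P : Set G) ∧ x ∉ Subgroup.centralizer (P : Set G) := by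
    rintro ⟨x, y, hx, hy, hy1, h⟩
    obtain ⟨h1, h2, h3⟩ := normalizes_of_inverts hp hy hy1 h
    exact ⟨x, Subgroup.zpowers y, hx, h1, h2, h3⟩
  exact ⟨⟨hAB, fun hB => hCA (hBC hB)⟩, ⟨fun hA => hBC (hAB hA), hCA⟩⟩

end Cfsg.Agent.S2758
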