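import Cfsg.Statements.S2801
import Cfsg.Agent.Lib.Helper46.PCore

set_option autoImplicit false
open Cfsg

namespace Cfsg.Agent.S2801

open Cfsg.Agent.Helper46

/-- Let L be a finite group and p a prime with C_L(O_p(L)) ≤ O_p(L). Then L has a unique largest p-reduced normal subgroup: some normal elementary abelian p-subgroup Y with O_p(L/C_L(Y)) = 1 contains every other such subgroup. -/
theorem result {L : Type*} [Group L] [Finite L] {p : ℕ} [Fact p.Prime] (hchar : Subgroup.centralizer (Cfsg.pCore p L : Set L) ≤ Cfsg.pCore p L) : ∃ Y : Subgroup L, (Cfsg.IsPReducedNormal p Y ∧ ∀ V : Subgroup L, Cfsg.IsPReducedNormal p V → V ≤ Y) := by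
  refine ⟨sSup {V : Subgroup L | IsPReducedNormal p V}, ?_, fun V hV => le_sSup hV⟩
  set Y := sSup {V : Subgroup L | IsPReducedNormal p V} with hY
  have hYE : Y ≤ omegaZCore p L := sSup_le (fun V hV => le_omegaZCore_of_reduced hchar hV)
  have hYn : Y.Normal := Subgroup.sSup_normal _ (fun _ h => h.1)
  have hCn : (Subgroup.centralizer (Y : Set L)).Normal := Subgroup.normal_centralizer
  refine ⟨hYn, isElementaryAbelian_of_le_omegaZCore hYE, hCn, ?_⟩
  apply pCore_quotient_eq_bot_of
  intro D hD hpow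
  rw [Subgroup.le_centralizer_iff]
  apply sSup_le
  intro V hV
  rw [← Subgroup.le_centralizer_iff]
  obtain ⟨hVn, hVe, hVc, hVO⟩ := hV
  refine le_of_pCore_quotient_eq_bot hVO hD (fun d hd => ?_)
  obtain ⟨k, hk⟩ := hpow d hd
  have hVY : V ≤ Y := le_sSup (show V ∈ {V : Subgroup L | IsPReducedNormal p V} from ⟨hVn, hVe, hVc, hVO⟩)
  exact ⟨k, Subgroup.centralizer_le (SetLike.coe_subset_coe.mpr hVY) hk⟩

end Cfsg.Agent.S2801
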