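import Cfsg.Statements.S2802
import Cfsg.Agent.Lib.Helper46.PCore
import Cfsg.Agent.Lib.Helper46.SylowLemmas

set_option autoImplicit false
open Cfsg

namespace Cfsg.Agent.S2802

open Cfsg.Agent.Helper46

/-- Let L be a finite group and p a prime with C_L(O_p(L)) ≤ O_p(L), T a Sylow p-subgroup of L and R a subgroup with T ≤ R. If X is a p-reduced normal subgroup of R (normal in R, elementary abelian, O_p(R/C_R(X)) = 1), then the normal closure of X in L is a p-reduced normal subgroup of L. -/
theorem result {L : Type*} [Group L] [Finite L] {p : ℕ} [Fact p.Prime] (hchar : Subgroup.centralizer (Cfsg.pCore p L : Set L) ≤ Cfsg.pCore p L) (T : Sylow p L) (R : Subgroup L) (hTR : (T : Subgroup L) ≤ R) (X : Subgroup ↥R) (hX : Cfsg.IsPReducedNormal p X) : Cfsg.IsPReducedNormal p (Subgroup.normalClosure ((X.map R.subtype : Subgroup L) : Set L)) := by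
  obtain ⟨hXn, hXe, hXc, hXO⟩ := hX
  set X' := X.map R.subtype with hX'
  set V := Subgroup.normalClosure (X' : Set L) with hV
  have hQR : pCore p L ≤ R := (pCore_le_sylow T).trans hTR
  -- Step 1: `O_p(L)` centralizes `X'`
  have h1 : (pCore p L).subgroupOf R ≤ Subgroup.centralizer (X : Set R) := by
    apply le_of_pCore_quotient_eq_bot hXO ((pCore_normal p L).subgroupOf R)
    intro d hd
    obtain ⟨k, hk⟩ := pCore_pow_eq_one (Subgroup.mem_subgroupOf.mp hd)
    refine ⟨k, ?_⟩
    have : d ^ p ^ k = 1 := Subtype.ext (by simpa using hk)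
    rw [this]; exact one_mem _
  have h2 : pCore p L ≤ Subgroup.centralizer (X' : Set L) := by
    intro q hq
    rw [Subgroup.mem_centralizer_iff]
    rintro x ⟨x0, hx0, rfl⟩
    have := Subgroup.mem_centralizer_iff.mp
      (h1 (show (⟨q, hQR hq⟩ : R) ∈ (pCore p L).subgroupOf R from hq)) x0 hx0
    exact congrArg Subtype.val this
  have h3 : X' ≤ omegaZCore p L := by
    have h4 : X' ≤ Subgroup.centralizer (pCore p L : Set L) := Subgroup.le_centralizer_iff.mp h2
    intro x hx
    refine ⟨hchar (h4 hx), h4 hx, ?_⟩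
    obtain ⟨x0, hx0, rfl⟩ := hx
    have := hXe.2 x0 hx0
    simpa using congrArg Subtype.val this
  have hVE : V ≤ omegaZCore p L := Subgroup.normalClosure_le_normal h3
  have hVn : V.Normal := Subgroup.normalClosure_normal
  have hCn : (Subgroup.centralizer (V : Set L)).Normal := Subgroup.normal_centralizer
  refine ⟨hVn, isElementaryAbelian_of_le_omegaZCore hVE, hCn, ?_⟩
  -- Step 2
  apply pCore_quotient_eq_bot_of
  intro D hD hpow
  have hX'V : X' ≤ V := Subgroup.subset_normalClosure
  have hCVX : Subgroup.centralizer (V : Set L) ≤ Subgroup.centralizer (X' : Set L) :=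
    Subgroup.centralizer_le (SetLike.coe_subset_coe.mpr hX'V)
  -- `D ∩ R` centralizes `X'`
  have h5 : D.subgroupOf R ≤ Subgroup.centralizer (X : Set R) := by
    apply le_of_pCore_quotient_eq_bot hXO (hD.subgroupOf R)
    intro d hd
    obtain ⟨k, hk⟩ := hpow d (Subgroup.mem_subgroupOf.mp hd)
    refine ⟨k, ?_⟩
    rw [Subgroup.mem_centralizer_iff]
    intro x hx
    apply Subtype.ext
    have := Subgroup.mem_centralizer_iff.mp (hCVX hk) (x : L) ⟨x, hx, rfl⟩
    simpa using this
  have h6 : D ⊓ R ≤ Subgroup.centralizer (X' : Set L) := by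
    rintro d ⟨hdD, hdR⟩
    rw [Subgroup.mem_centralizer_iff]
    rintro x ⟨x0, hx0, rfl⟩
    have := Subgroup.mem_centralizer_iff.mp
      (h5 (show (⟨d, hdR⟩ : R) ∈ D.subgroupOf R from hdD)) x0 hx0
    exact congrArg Subtype.val this
  -- covering
  have hDX : D ≤ Subgroup.centralizer (X' : Set L) := by
    have hNn : (D ⊓ Subgroup.centralizer (V : Set L)).Normal := inferInstance
    intro d hd
    obtain ⟨c, hc, t, ht, rfl⟩ := exists_mul_of_pow_mem (N := D ⊓ Subgroup.centralizer (V : Set L))
      hD (fun d hd => by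
        obtain ⟨k, hk⟩ := hpow d hd
        exact ⟨k, Subgroup.mem_inf.mpr ⟨D.pow_mem hd _, hk⟩⟩) T d hd
    obtain ⟨hcD, hcC⟩ := Subgroup.mem_inf.mp hc
    have htD : t ∈ D := by
      have := D.mul_mem (D.inv_mem hcD) hd
      simpa using this
    exact Subgroup.mul_mem _ (hCVX hcC) (h6 (Subgroup.mem_inf.mpr ⟨htD, hTR ht⟩))
  have hXD : X' ≤ Subgroup.centralizer (D : Set L) := Subgroup.le_centralizer_iff.mp hDX
  have hVD : V ≤ Subgroup.centralizer (D : Set L) := Subgroup.normalClosure_le_normal hXD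
  exact Subgroup.le_centralizer_iff.mp hVD

end Cfsg.Agent.S2802
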