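import Cfsg.Statements.S2803
import Cfsg.Agent.Lib.Helper46.PCore
import Cfsg.Agent.Lib.Helper46.SylowLemmas
import Cfsg.Agent.Lib.Helper46.Omega
import Cfsg.Agent.S2802

set_option autoImplicit false
open Cfsg

namespace Cfsg.Agent.S2803

open Cfsg.Agent.Helper46

/-- Let L be a finite group and p a prime with C_L(O_p(L)) ≤ O_p(L), T a Sylow p-subgroup, and Y the largest p-reduced normal subgroup of L. Put T_L = C_T(Y) and L_T = N_L(T_L). Then L = L_T · C_L(Y) (elementwise), T_L = O_p(L_T), and Y = Ω₁(Z(T_L)). -/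
theorem result {L : Type*} [Group L] [Finite L] {p : ℕ} [Fact p.Prime] (hchar : Subgroup.centralizer (Cfsg.pCore p L : Set L) ≤ Cfsg.pCore p L) (T : Sylow p L) (Y : Subgroup L) (hY : (Cfsg.IsPReducedNormal p Y ∧ ∀ V : Subgroup L, Cfsg.IsPReducedNormal p V → V ≤ Y)) (TL : Subgroup L) (hTL : TL = (T : Subgroup L) ⊓ Subgroup.centralizer (Y : Set L)) : (∀ g : L, ∃ a ∈ Subgroup.normalizer (TL : Set L), ∃ c ∈ Subgroup.centralizer (Y : Set L), g = a * c) ∧ (Cfsg.pCore p ↥(Subgroup.normalizer (TL : Set L))).map (Subgroup.normalizer (TL : Set L)).subtype = TL ∧ Y = Cfsg.omegaOne p (TL ⊓ Subgroup.centralizer (TL : Set L)) := by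
  obtain ⟨⟨hYn, hYe, hCn, hYO⟩, hYmax⟩ := hY
  subst hTL
  set C := Subgroup.centralizer (Y : Set L) with hC
  set TL := (T : Subgroup L) ⊓ C with hTL
  set NT := Subgroup.normalizer (TL : Set L) with hNT
  have hfr : NT ⊔ C = ⊤ := frattini_inf T C
  have hTLT : TL ≤ T := inf_le_left
  have hTLC : TL ≤ C := inf_le_right
  have hTLNT : TL ≤ NT := Subgroup.le_normalizer
  have hTNT : (T : Subgroup L) ≤ NT := by
    intro t ht
    rw [hNT, Subgroup.mem_normalizer_iff]
    intro x
    constructor
    · intro hx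
      obtain ⟨hxT, hxC⟩ := Subgroup.mem_inf.mp hx
      exact Subgroup.mem_inf.mpr ⟨Subgroup.mul_mem _ (Subgroup.mul_mem _ ht hxT) (Subgroup.inv_mem _ ht),
        hCn.conj_mem x hxC t⟩
    · intro hx
      obtain ⟨hxT, hxC⟩ := Subgroup.mem_inf.mp hx
      refine Subgroup.mem_inf.mpr ⟨?_, ?_⟩
      · have := Subgroup.mul_mem _ (Subgroup.mul_mem _ (Subgroup.inv_mem _ ht) hxT) ht
        have h4 : t⁻¹ * (t * x * t⁻¹) * t = x := by group
        rw [h4] at this; exact this
      · have := hCn.conj_mem _ hxC t⁻¹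
        have h4 : t⁻¹ * (t * x * t⁻¹) * t⁻¹⁻¹ = x := by group
        rw [h4] at this; exact this
  have hYE : Y ≤ omegaZCore p L := le_omegaZCore_of_reduced hchar ⟨hYn, hYe, hCn, hYO⟩
  have hYT : Y ≤ T := fun y hy => pCore_le_sylow T (hYE hy).1
  have hYC : Y ≤ C := Subgroup.le_centralizer_iff_isMulCommutative.mpr hYe.1
  have hYTL : Y ≤ TL := le_inf hYT hYC
  have hYZ : Y ≤ TL ⊓ Subgroup.centralizer (TL : Set L) :=
    le_inf hYTL (Subgroup.le_centralizer_iff.mp hTLC)
  refine ⟨fun g => exists_mul_of_sup_eq_top hfr g, ?_, ?_⟩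
  · -- (b)
    apply le_antisymm
    · set Q := (pCore p ↥NT).map NT.subtype with hQ
      have hQT : Q ≤ T := by
        have h := pCore_le_sylow (T.subtype hTNT)
        rintro q ⟨q0, hq0, rfl⟩
        exact h hq0
      have hQC : Q ≤ C := by
        apply le_of_reduced_of_sup hYO hfr
        · rintro a ha q ⟨q0, hq0, rfl⟩
          exact ⟨⟨a, ha⟩ * q0 * ⟨a, ha⟩⁻¹, (pCore_normal p NT).conj_mem q0 hq0 ⟨a, ha⟩, rfl⟩
        · intro q hq
          obtain ⟨k, hk⟩ := (isPGroup_subgroup_iff.mp T.isPGroup') q (hQT hq)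
          exact ⟨k, hk ▸ one_mem _⟩
      exact le_inf hQT hQC
    · have hn : (TL.subgroupOf NT).Normal := Subgroup.normal_in_normalizer
      have hp : IsPGroup p (TL.subgroupOf NT) := (T.isPGroup'.to_le hTLT).comap_subtype
      have := le_pCore hn hp
      intro x hx
      exact ⟨⟨x, hTLNT hx⟩, this hx, rfl⟩
  · -- (c)
    set Z := TL ⊓ Subgroup.centralizer (TL : Set L) with hZ
    have hZcomm : ∀ a ∈ Z, ∀ b ∈ Z, a * b = b * a :=
      fun a ha b hb => (Subgroup.mem_centralizer_iff.mp (Subgroup.mem_inf.mp hb).2 a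
        (Subgroup.mem_inf.mp ha).1)
    apply le_antisymm
    · exact le_omegaOne hYZ (hYe.2)
    · set V' := omegaOne p Z with hV'
      have hV'Z : V' ≤ Z := omegaOne_le Z
      have hV'pow : ∀ x ∈ V', x ^ p = 1 := omegaOne_pow_eq_one_of_comm hZcomm
      have hYV' : Y ≤ V' := le_omegaOne hYZ hYe.2
      have hV'NT : V' ≤ NT := hV'Z.trans (inf_le_left.trans hTLNT)
      have hconj : ∀ a ∈ NT, ∀ x ∈ V', a * x * a⁻¹ ∈ V' := by
        intro a ha
        apply conj_mem_omegaOne
        intro x hx
        obtain ⟨hx1, hx2⟩ := Subgroup.mem_inf.mp hx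
        have ha' := Subgroup.mem_normalizer_iff.mp ha
        refine Subgroup.mem_inf.mpr ⟨(ha' x).mp hx1, ?_⟩
        rw [Subgroup.mem_centralizer_iff]
        intro h hh
        have h1 : a⁻¹ * h * a ∈ TL := by
          apply (ha' (a⁻¹ * h * a)).mpr
          have : a * (a⁻¹ * h * a) * a⁻¹ = h := by group
          rw [this]; exact hh
        have h2 := Subgroup.mem_centralizer_iff.mp hx2 _ h1
        calc h * (a * x * a⁻¹) = a * ((a⁻¹ * h * a) * x) * a⁻¹ := by group
          _ = a * (x * (a⁻¹ * h * a)) * a⁻¹ := by rw [h2]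
          _ = a * x * a⁻¹ * h := by group
      set X : Subgroup NT := V'.subgroupOf NT with hX
      have hXn : X.Normal := ⟨fun x hx a => hconj a a.2 x hx⟩
      have hXe : IsElementaryAbelian p X := by
        refine ⟨?_, ?_⟩
        · rw [← Subgroup.le_centralizer_iff_isMulCommutative]
          intro a ha
          rw [Subgroup.mem_centralizer_iff]
          intro b hb
          apply Subtype.ext
          exact hZcomm _ (hV'Z hb) _ (hV'Z ha)
        · intro a ha
          apply Subtype.ext
          have := hV'pow _ ha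
          simpa using this
      have hXc : (Subgroup.centralizer (X : Set NT)).Normal := Subgroup.normal_centralizer
      have hXO : pCore p (↥NT ⧸ Subgroup.centralizer (X : Set NT)) = ⊥ := by
        apply pCore_quotient_eq_bot_of
        intro D hD hpow
        set D' := D.map NT.subtype with hD'
        have hcentX : ∀ d : NT, d ∈ Subgroup.centralizer (X : Set NT) →
            (d : L) ∈ Subgroup.centralizer (V' : Set L) := by
          intro d hd
          rw [Subgroup.mem_centralizer_iff]
          intro v hv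
          have := Subgroup.mem_centralizer_iff.mp hd ⟨v, hV'NT hv⟩ hv
          exact congrArg Subtype.val this
        have hD'C : D' ≤ C := by
          apply le_of_reduced_of_sup hYO hfr
          · rintro a ha q ⟨q0, hq0, rfl⟩
            exact ⟨⟨a, ha⟩ * q0 * ⟨a, ha⟩⁻¹, hD.conj_mem q0 hq0 ⟨a, ha⟩, rfl⟩
          · rintro q ⟨q0, hq0, rfl⟩
            obtain ⟨k, hk⟩ := hpow q0 hq0
            refine ⟨k, ?_⟩
            have := hcentX _ hk
            exact Subgroup.centralizer_le (SetLike.coe_subset_coe.mpr hYV') (by simpa using this)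
        intro d hd
        obtain ⟨c, hc, t, ht, rfl⟩ := exists_mul_of_pow_mem
          (N := D ⊓ Subgroup.centralizer (X : Set NT)) hD (fun d hd => by
            obtain ⟨k, hk⟩ := hpow d hd
            exact ⟨k, Subgroup.mem_inf.mpr ⟨D.pow_mem hd _, hk⟩⟩) (T.subtype hTNT) d hd
        obtain ⟨hcD, hcC⟩ := Subgroup.mem_inf.mp hc
        have htD : t ∈ D := by
          have := D.mul_mem (D.inv_mem hcD) hd
          simpa using this
        have htTL : (t : L) ∈ TL := Subgroup.mem_inf.mpr ⟨ht, hD'C ⟨t, htD, rfl⟩⟩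
        have htX : t ∈ Subgroup.centralizer (X : Set NT) := by
          rw [Subgroup.mem_centralizer_iff]
          intro x hx
          apply Subtype.ext
          have hxZ : (x : L) ∈ Z := hV'Z hx
          exact (Subgroup.mem_centralizer_iff.mp (Subgroup.mem_inf.mp hxZ).2 _ htTL).symm
        exact Subgroup.mul_mem _ hcC htX
      have hred := Cfsg.Agent.S2802.result hchar T NT hTNT X ⟨hXn, hXe, hXc, hXO⟩
      have hle := hYmax _ hred
      have hXmap : X.map NT.subtype = V' := by
        rw [hX, Subgroup.subgroupOf_map_subtype, inf_of_le_left hV'NT]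
      rw [hXmap] at hle
      exact Subgroup.subset_normalClosure.trans hle

end Cfsg.Agent.S2803
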