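import Cfsg.Statements.S2845
import Mathlib
import Cfsg.Agent.Lib.Helper23.Large2

set_option autoImplicit false
open Cfsg

namespace Cfsg.Agent.S2845

open Cfsg.Agent.Helper23

variable {H : Type*} [Group H]

theorem pCoreOf_ne_bot {p : ℕ} {L : Subgroup H} (h : Cfsg.pCore p ↥L ≠ ⊥) :
    Cfsg.pCoreOf p L ≠ ⊥ := by
  unfold Cfsg.pCoreOf
  intro h'
  apply h
  exact (Subgroup.map_eq_bot_iff_of_injective _ L.subtype_injective).mp h'

/-- characteristic `p` from a large subgroup -/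
theorem charP_of_large [Finite H] {p : ℕ} [Fact p.Prime] {Q : Subgroup H}
    (hQp : IsPGroup p Q) (hQ1 : Q ≠ ⊥) (hL : Cfsg.IsLarge Q) {L : Subgroup H} (hQL : Q ≤ L)
    (hP1 : Cfsg.pCore p ↥L ≠ ⊥) :
    Subgroup.centralizer (Cfsg.pCore p ↥L : Set ↥L) ≤ Cfsg.pCore p ↥L := by
  have hD := centralizer_pCoreOf_isPGroup hQp hQ1 hL hQL (pCoreOf_ne_bot hP1)
  have hn : (Cfsg.pCore p ↥L).Normal := pCore_normal' p _
  have hmem : Subgroup.centralizer (Cfsg.pCore p ↥L : Set ↥L) ∈
      {N : Subgroup ↥L | N.Normal ∧ IsPGroup p N} := by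
    refine ⟨inferInstance, ?_⟩
    have h1 := hD.comap_of_injective L.subtype L.subtype_injective
    refine h1.to_le ?_
    intro x hx
    rw [Subgroup.mem_comap, Subgroup.mem_centralizer_iff]
    rw [Subgroup.mem_centralizer_iff] at hx
    rintro _ ⟨y, hy, rfl⟩
    have := hx y hy
    exact congrArg Subtype.val this
  exact le_sSup hmem

/-- a conjugate of `Q` inside a given Sylow subgroup -/
theorem exists_cj_le_sylow [Finite H] {p : ℕ} [Fact p.Prime] {Q : Subgroup H}
    (hQp : IsPGroup p Q) (T : Sylow p H) : ∃ h : H, cj Q h ≤ (T : Subgroup H) := by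
  obtain ⟨T', hT'⟩ := hQp.exists_le_sylow
  obtain ⟨h, hh⟩ := MulAction.exists_smul_eq H T T'
  refine ⟨h⁻¹, ?_⟩
  intro x hx
  have h1 := hT' (mem_cj.mp hx)
  rw [← hh, mem_smul_sylow_iff] at h1
  have e : h⁻¹ * (h⁻¹⁻¹ * x * h⁻¹) * h = x := by group
  rwa [e] at h1

/-- Let Q be a nontrivial large p-subgroup of the finite group H. Then for every subgroup L ≥ Q with O_p(L) ≠ 1, C_H(O_p(L)) is a p-group and L has characteristic p, and either the weak closure L° of Q in L equals Q or C_H(L°) = 1; for every subgroup R of H containing a Sylow p-subgroup of H with O_p(R) ≠ 1, C_H(O_p(R)) ≤ O_p(R); and H has parabolic characteristic p. -/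
theorem result {H : Type*} [Group H] [Finite H] {p : ℕ} [Fact p.Prime] (Q : Subgroup H) (hQp : IsPGroup p ↥Q) (hQ1 : Q ≠ ⊥) (hL : Cfsg.IsLarge Q) : (∀ L : Subgroup H, Q ≤ L → Cfsg.pCore p ↥L ≠ ⊥ → IsPGroup p ↥(Subgroup.centralizer (((Cfsg.pCoreOf p L) : Subgroup H) : Set H)) ∧ Subgroup.centralizer (Cfsg.pCore p ↥L : Set ↥L) ≤ Cfsg.pCore p ↥L ∧ (Cfsg.weakClosure Q L = Q ∨ Subgroup.centralizer (((Cfsg.weakClosure Q L) : Subgroup H) : Set H) = ⊥)) ∧ (∀ R : Subgroup H, Cfsg.IsParabolic p R → Cfsg.pCore p ↥R ≠ ⊥ → Subgroup.centralizer (((Cfsg.pCoreOf p R) : Subgroup H) : Set H) ≤ (Cfsg.pCoreOf p R)) ∧ Cfsg.IsOfParabolicCharacteristic p H := by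
  refine ⟨?_, ?_, ?_⟩
  · intro L hQL hP1
    refine ⟨centralizer_pCoreOf_isPGroup hQp hQ1 hL hQL (pCoreOf_ne_bot hP1),
      charP_of_large hQp hQ1 hL hQL hP1, ?_⟩
    by_cases hall : ∀ g : H, cj Q g ≤ L → cj Q g = Q
    · left
      apply le_antisymm _ (le_weakClosure hQL)
      unfold Cfsg.weakClosure
      apply iSup_le
      rintro ⟨g, hg⟩
      exact (hall g hg).le
    · right
      push Not at hall
      obtain ⟨g, hg, hne⟩ := hall
      have hgN : g ∉ Subgroup.normalizer (Q : Set H) := fun h => hne (cj_eq_of_mem_normalizer h)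
      rw [eq_bot_iff]
      have h1 : cj Q g ≤ Cfsg.weakClosure Q L := by
        unfold Cfsg.weakClosure
        exact le_iSup (fun g : {g : H // Q.map (MulAut.conj g).toMonoidHom ≤ L} =>
          Q.map (MulAut.conj (g : H)).toMonoidHom) ⟨g, hg⟩
      have h2 : Subgroup.centralizer ((Cfsg.weakClosure Q L : Subgroup H) : Set H) ≤
          Subgroup.centralizer (Q : Set H) ⊓ Subgroup.centralizer (cj Q g : Set H) :=
        le_inf (Subgroup.centralizer_le (le_weakClosure hQL)) (Subgroup.centralizer_le h1)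
      refine h2.trans ?_
      by_contra hbot
      exact hgN (mem_normalizer_of_large hQp hQ1 hL g _ (fun h => hbot (by rw [h])) inf_le_left inf_le_right)
  · rintro R ⟨T, hTR⟩ hP1
    obtain ⟨h, hh⟩ := exists_cj_le_sylow hQp T
    have hQ'R : cj Q h ≤ R := hh.trans hTR
    have hD := centralizer_pCoreOf_isPGroup (isPGroup_cj hQp h) (cj_ne_bot hQ1 h) (isLarge_cj hL h)
      hQ'R (pCoreOf_ne_bot hP1)
    set D := Subgroup.centralizer (((Cfsg.pCoreOf p R) : Subgroup H) : Set H) with hDdef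
    have hRD : R ≤ Subgroup.normalizer (D : Set H) :=
      (le_normalizer_pCoreOf R).trans (normalizer_le_normalizer_centralizer' _)
    have hDT : IsPGroup p ↥(D ⊔ (T : Subgroup H)) :=
      IsPGroup.to_sup_of_normal_left' hD T.2 (hTR.trans hRD)
    have heq : D ⊔ (T : Subgroup H) = T := T.is_maximal' hDT le_sup_right
    have hDR : D ≤ R := by
      refine le_trans ?_ hTR
      rw [← heq]; exact le_sup_left
    exact le_pCoreOf_of_normal_pgroup hDR hD hRD
  · intro R hRp hR1 hpar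
    obtain ⟨T, hTN⟩ := hpar
    obtain ⟨h, hh⟩ := exists_cj_le_sylow hQp T
    apply charP_of_large (isPGroup_cj hQp h) (cj_ne_bot hQ1 h) (isLarge_cj hL h) (hh.trans hTN)
    -- O_p(N(R)) ≠ 1
    intro hbot
    apply hR1
    have hle : R ≤ Subgroup.normalizer (R : Set H) := Subgroup.le_normalizer
    have hmem : R.subgroupOf (Subgroup.normalizer (R : Set H)) ∈
        {N : Subgroup ↥(Subgroup.normalizer (R : Set H)) | N.Normal ∧ IsPGroup p N} :=
      ⟨Subgroup.normal_in_normalizer, hRp.comap_subtype⟩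
    have h1 : R.subgroupOf (Subgroup.normalizer (R : Set H)) ≤
        Cfsg.pCore p ↥(Subgroup.normalizer (R : Set H)) := le_sSup hmem
    rw [hbot, le_bot_iff, Subgroup.subgroupOf_eq_bot] at h1
    rw [eq_bot_iff]
    intro x hx
    have : x ∈ R ⊓ Subgroup.normalizer (R : Set H) := ⟨hx, hle hx⟩
    rw [disjoint_iff.mp h1] at this
    exact this

end Cfsg.Agent.S2845
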