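import Mathlib
import Cfsg.Statements.S2824
import Cfsg.Agent.Lib.Helper47.PRed3

set_option autoImplicit false
open Cfsg

namespace Cfsg.Agent.S2824

/-- Let H be a finite group, p a prime, T a Sylow p-subgroup, L and M subgroups of characteristic p containing T, Y_L the largest p-reduced normal subgroup of L and T₀ = C_T(Y_L). If M·C_H(Y_L) = L·C_H(Y_L), then L* := N_M(T₀) has Y_{L*} = Y_L and L·C_H(Y_L) = L*·C_H(Y_L). -/
theorem result {H : Type*} [Group H] [Finite H] {p : ℕ} [Fact p.Prime] (T : Sylow p H) (L M : Subgroup H) (hTL : (T : Subgroup H) ≤ L) (hTM : (T : Subgroup H) ≤ M) (hL : Subgroup.centralizer (Cfsg.pCore p ↥L : Set ↥L) ≤ Cfsg.pCore p ↥L) (hM : Subgroup.centralizer (Cfsg.pCore p ↥M : Set ↥M) ≤ Cfsg.pCore p ↥M) (T₀ : Subgroup H) (hT₀ : T₀ = (T : Subgroup H) ⊓ Subgroup.centralizer (((Cfsg.largestPReducedOf p L) : Subgroup H) : Set H)) (hfac : M ⊔ Subgroup.centralizer (((Cfsg.largestPReducedOf p L) : Subgroup H) : Set H) = L ⊔ Subgroup.centralizer (((Cfsg.largestPReducedOf p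 L) : Subgroup H) : Set H)) (Ls : Subgroup H) (hLs : Ls = M ⊓ Subgroup.normalizer ((T₀ : Subgroup H) : Set H)) : (Cfsg.largestPReducedOf p Ls) = (Cfsg.largestPReducedOf p L) ∧ L ⊔ Subgroup.centralizer (((Cfsg.largestPReducedOf p L) : Subgroup H) : Set H) = Ls ⊔ Subgroup.centralizer (((Cfsg.largestPReducedOf p L) : Subgroup H) : Set H) := by
  subst hT₀ hLs
  have hLN : L ≤ Subgroup.normalizer ((Cfsg.largestPReducedOf p L : Subgroup H) : Set H) :=
    Helper48.le_normalizer_largestPReducedOf L
  have hNC := Helper47.normalizer_le_normalizer_centralizer (Cfsg.largestPReducedOf p L)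
  have hCN : Subgroup.centralizer ((Cfsg.largestPReducedOf p L : Subgroup H) : Set H) ≤
      Subgroup.normalizer ((Cfsg.largestPReducedOf p L : Subgroup H) : Set H) :=
    Subgroup.centralizer_le_normalizer _
  have hMN : M ≤ Subgroup.normalizer ((Cfsg.largestPReducedOf p L : Subgroup H) : Set H) :=
    le_sup_left.trans (hfac.le.trans (sup_le hLN hCN))
  have hTT₀ : (T : Subgroup H) ≤ Subgroup.normalizer ((((T : Subgroup H) ⊓
      Subgroup.centralizer ((Cfsg.largestPReducedOf p L : Subgroup H) : Set H) : Subgroup H)) : Set H) :=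
    (le_inf Subgroup.le_normalizer ((hTL.trans hLN).trans hNC)).trans
      Subgroup.inf_normalizer_le_normalizer_inf
  have hTLs : (T : Subgroup H) ≤ M ⊓ Subgroup.normalizer ((((T : Subgroup H) ⊓
      Subgroup.centralizer ((Cfsg.largestPReducedOf p L : Subgroup H) : Set H) : Subgroup H)) : Set H) :=
    le_inf hTM hTT₀
  have hsup : L ⊔ Subgroup.centralizer ((Cfsg.largestPReducedOf p L : Subgroup H) : Set H) =
      (M ⊓ Subgroup.normalizer ((((T : Subgroup H) ⊓
      Subgroup.centralizer ((Cfsg.largestPReducedOf p L : Subgroup H) : Set H) : Subgroup H)) : Set H)) ⊔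
      Subgroup.centralizer ((Cfsg.largestPReducedOf p L : Subgroup H) : Set H) := by
    rw [← hfac]
    apply le_antisymm
    · exact sup_le (Helper47.le_inf_normalizer_sup T hTM (hMN.trans hNC)) le_sup_right
    · exact sup_le_sup_right inf_le_left _
  refine ⟨?_, hsup⟩
  have hLs := Helper47.charP_of_sylow_le T hTLs inf_le_left hM
  have hYT : Cfsg.largestPReducedOf p L ≤ (T : Subgroup H) :=
    (Helper47.largestPReducedOf_le_pCoreOf L).trans (Helper47.pCoreOf_le_sylow T L hTL)
  have h1 := Helper47.largestPReducedOf_le_of_sup_eq _ L hL (hYT.trans hTLs) hsup.symm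
  apply le_antisymm _ h1
  intro x hx
  have hab := Helper48.isElementaryAbelian_largestPReducedOf (p := p) (M ⊓ Subgroup.normalizer
    ((((T : Subgroup H) ⊓ Subgroup.centralizer ((Cfsg.largestPReducedOf p L : Subgroup H) : Set H) :
      Subgroup H)) : Set H))
  have hxT : x ∈ (T : Subgroup H) :=
    Helper47.pCoreOf_le_sylow T _ hTLs (Helper47.largestPReducedOf_le_pCoreOf _ hx)
  have hxC : x ∈ Subgroup.centralizer ((Cfsg.largestPReducedOf p L : Subgroup H) : Set H) :=
    Subgroup.centralizer_le h1 (Subgroup.le_centralizer_iff_isMulCommutative.mpr hab.1 hx)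
  have hT₀Q := Helper47.le_pCoreOf (p := p) (inf_le_left.trans hTLs) inf_le_right
    (T.isPGroup'.to_le (inf_le_left : (T : Subgroup H) ⊓
      Subgroup.centralizer ((Cfsg.largestPReducedOf p L : Subgroup H) : Set H) ≤ T))
  have hxZ : x ∈ Subgroup.centralizer ((((T : Subgroup H) ⊓
      Subgroup.centralizer ((Cfsg.largestPReducedOf p L : Subgroup H) : Set H) : Subgroup H)) : Set H) := by
    rw [Subgroup.mem_centralizer_iff]
    intro t ht
    have := Helper48.pCoreOf_le_centralizer_largestPReducedOf _ (hT₀Q ht)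
    exact (Subgroup.mem_centralizer_iff.mp this x hx).symm
  exact Helper47.mem_largestPReducedOf_of_mem_center T hTL hL ⟨hxT, hxC⟩ hxZ (hab.2 x hx)

end Cfsg.Agent.S2824
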