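import Cfsg.Statements.S0053
import Mathlib

set_option autoImplicit false
open Cfsg

namespace Cfsg.Agent.S0053

open Subgroup
open scoped Pointwise

/-- An abelian minimal normal subgroup N of a finite group is complemented exactly when N is not inside the Frattini subgroup. -/
theorem result {G : Type*} [Group G] [Finite G]
    (N : Subgroup G) [N.Normal] [IsMulCommutative N] (hN : N ≠ ⊥)
    (hmin : ∀ M : Subgroup G, M.Normal → M ≤ N → M = ⊥ ∨ M = N) :
    (∃ H : Subgroup G, Subgroup.IsComplement' N H) ↔ ¬ N ≤ frattini G := by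
  constructor
  · rintro ⟨H, hH⟩ hle
    have hsup : H ⊔ frattini G = ⊤ := by
      have := hH.sup_eq_top
      rw [eq_top_iff, ← this]
      exact sup_le (le_sup_of_le_right hle) le_sup_left
    have hHtop : H = ⊤ := frattini_nongenerating hsup
    have hd := hH.disjoint
    rw [hHtop, disjoint_top] at hd
    exact hN hd
  · intro hnle
    have : ∃ M : Subgroup G, IsCoatom M ∧ ¬ N ≤ M := by
      by_contra h
      push Not at h
      apply hnle
      unfold frattini Order.radical
      exact le_iInf₂ (fun M hM => h M hM)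
    obtain ⟨M, hM, hNM⟩ := this
    have hsup : N ⊔ M = ⊤ := by
      have : M < N ⊔ M := by
        apply lt_of_le_of_ne le_sup_right
        intro h
        apply hNM
        rw [h]
        exact le_sup_left
      exact (hM.lt_iff).mp this
    have hmul : (N : Set G) * (M : Set G) = Set.univ := by
      rw [← Subgroup.normal_mul, hsup, Subgroup.coe_top]
    have hcomm : ∀ a ∈ N, ∀ b ∈ N, a * b = b * a := by
      intro a ha b hb
      have := (IsMulCommutative.is_comm (M := N)).comm (⟨a, ha⟩ : N) ⟨b, hb⟩
      exact congrArg Subtype.val this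
    have hnorm : (N ⊓ M).Normal := by
      refine ⟨fun x hx g => ?_⟩
      have hg : g ∈ (N : Set G) * (M : Set G) := by rw [hmul]; exact Set.mem_univ g
      obtain ⟨n, hn, m, hm, rfl⟩ := hg
      obtain ⟨hxN, hxM⟩ := hx
      have hyN : m * x * m⁻¹ ∈ N := ‹N.Normal›.conj_mem x hxN m
      have hyM : m * x * m⁻¹ ∈ M := M.mul_mem (M.mul_mem hm hxM) (M.inv_mem hm)
      have e : n * m * x * (n * m)⁻¹ = n * (m * x * m⁻¹) * n⁻¹ := by group
      have e2 : n * (m * x * m⁻¹) * n⁻¹ = m * x * m⁻¹ := by
        rw [hcomm n hn _ hyN, mul_assoc, mul_inv_cancel, mul_one]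
      rw [e, e2]
      exact ⟨hyN, hyM⟩
    rcases hmin (N ⊓ M) hnorm inf_le_left with h | h
    · exact ⟨M, isComplement'_of_disjoint_and_mul_eq_univ (disjoint_iff.mpr h) hmul⟩
    · exact absurd (h ▸ inf_le_right : N ≤ M) hNM

end Cfsg.Agent.S0053
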