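import Cfsg.Statements.S2829
import Mathlib
import Cfsg.Agent.Lib.Helper47.Basic

set_option autoImplicit false
open Cfsg

namespace Cfsg.Agent.S2829

open scoped commutatorElement

/-- Every strongly p-irreducible finite group is p-irreducible. -/
theorem result {H : Type*} [Group H] [Finite H] {p : ℕ} [Fact p.Prime] (hH : Cfsg.IsStronglyPIrreducible p H) : Cfsg.IsPIrreducible p H := by
  obtain ⟨h1, h2⟩ := hH
  refine ⟨h1, fun N hN hNc => h2 N hN ?_⟩
  intro hle
  apply hNc
  intro P
  have hDn : ((pCore p H).subgroupOf N).Normal := Subgroup.Normal.subgroupOf inferInstance N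
  have hDp : IsPGroup p ((pCore p H).subgroupOf N) :=
    (Cfsg.Agent.Helper47.pCore_isPGroup (G := H) (p := p)).comap_subtype
  have hDP : (pCore p H).subgroupOf N ≤ P := hDp.le_sylow_of_normal P
  apply Cfsg.Agent.Helper47.normal_of_commutator_le
  refine le_trans ?_ hDP
  rw [commutator_def, Subgroup.commutator_le]
  intro a _ b _
  rw [Subgroup.mem_subgroupOf]
  apply hle
  have : ((⁅a, b⁆ : N) : H) = ⁅(a : H), (b : H)⁆ := by simp [commutatorElement_def]
  rw [this]
  exact Subgroup.commutator_mem_commutator a.2 (Subgroup.mem_top _)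

end Cfsg.Agent.S2829
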