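import Cfsg.Statements.S5347

set_option autoImplicit false
open Cfsg

namespace Cfsg.Agent.S5347

/-- Let D be a conjugation-invariant generating set of 3-transpositions of a finite group G, p a prime bigger than 3, and P a p-subgroup of G. If a member d of D normalizes P then d centralizes P. -/
theorem result {G : Type*} [Group G] [Finite G] {D : Set G} (hD : Cfsg.IsThreeTranspositionGroup D) {p : ℕ} (hp : p.Prime) (hp3 : 3 < p) (P : Subgroup G) (hP : IsPGroup p P) {d : G} (hd : d ∈ D) (hnorm : d ∈ Subgroup.normalizer (P : Set G)) : ∀ x ∈ P, Commute d x := by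
  intro x hx
  obtain ⟨⟨hord, hprod⟩, hconj, -⟩ := hD
  have hd2 : d ^ 2 = 1 := by
    have := hord d hd
    rw [← this]; exact pow_orderOf_eq_one d
  have hdinv : d⁻¹ = d := by
    rw [inv_eq_iff_mul_eq_one]; rw [← hd2, pow_two]
  have he : x * d * x⁻¹ ∈ D := hconj x d hd
  have hy : d * x * d⁻¹ ∈ P := by
    have := (Subgroup.mem_normalizer_iff (H := P)).mp hnorm x
    exact this.mp hx
  set y : G := d * x * d⁻¹ * x⁻¹ with hydef
  have hyP : y ∈ P := P.mul_mem hy (P.inv_mem hx)
  have hyeq : y = d * (x * d * x⁻¹) := by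
    rw [hydef, hdinv]; group
  have h6 : y ^ 6 = 1 := by
    rcases hprod d hd _ he with h | h
    · rw [← hyeq] at h
      calc y ^ 6 = (y ^ 2) ^ 3 := by rw [← pow_mul]
        _ = 1 := by rw [h, one_pow]
    · rw [← hyeq] at h
      calc y ^ 6 = (y ^ 3) ^ 2 := by rw [← pow_mul]
        _ = 1 := by rw [h, one_pow]
  obtain ⟨k, hk⟩ := hP ⟨y, hyP⟩
  have hk' : y ^ (p ^ k) = 1 := by
    have := congrArg Subtype.val hk
    simpa using this
  have hcop : Nat.Coprime (p ^ k) 6 := by
    apply Nat.Coprime.pow_left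
    have h2 : Nat.Coprime p 2 := by
      rw [Nat.coprime_primes hp Nat.prime_two]; omega
    have h3 : Nat.Coprime p 3 := by
      rw [Nat.coprime_primes hp Nat.prime_three]; omega
    exact Nat.Coprime.mul_right h2 h3
  have hy1 : y = 1 := by
    have h1 : orderOf y ∣ p ^ k := orderOf_dvd_of_pow_eq_one hk'
    have h2 : orderOf y ∣ 6 := orderOf_dvd_of_pow_eq_one h6
    have : orderOf y ∣ Nat.gcd (p ^ k) 6 := Nat.dvd_gcd h1 h2
    rw [hcop] at this
    exact orderOf_eq_one_iff.mp (Nat.dvd_one.mp this)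
  show d * x = x * d
  have : d * x * d⁻¹ * x⁻¹ = 1 := hy1
  calc d * x = (d * x * d⁻¹ * x⁻¹) * (x * d) := by group
    _ = x * d := by rw [this, one_mul]

end Cfsg.Agent.S5347
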