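import Mathlib
import Cfsg.Statements.S5349
import Cfsg.Agent.Lib.Helper88.ThreeTrans

set_option autoImplicit false
open Cfsg

namespace Cfsg.Agent.S5349

open Cfsg.Agent.Helper88

variable {G : Type*} [Group G]

/-- if `u⁻¹ w ∈ O_2(G)` then everything in `D` commuting with `u` commutes with `w` -/
theorem commute_of_mem_pCore [Finite G] {D : Set G} (hT : TT D) {u w e : G} (hu : u ∈ D) (hw : w ∈ D)
    (he : e ∈ D) (hn : u⁻¹ * w ∈ pCore 2 G) (hue : Commute u e) : Commute w e := by
  have hO := pCore_normal 2 G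
  have hOp := pCore_isPGroup 2 G
  set n := u⁻¹ * w with hndef
  have hw_eq : w = u * n := by rw [hndef]; group
  have huinv := hT.inv_eq hu
  have heinv := hT.inv_eq he
  -- z = (e w)^2 ∈ O
  have hz : (e * w) ^ 2 = (u * (e * n * e⁻¹) * u⁻¹) * n := by
    rw [pow_two, hw_eq]
    have h1 : e * u = u * e := hue.symm.eq
    calc e * (u * n) * (e * (u * n)) = (e * u) * (n * e * u * n) := by group
      _ = (u * e) * (n * e * u * n) := by rw [h1]
      _ = u * (e * n * e) * (u * n) := by group
      _ = u * (e * n * e⁻¹) * u⁻¹ * n := by rw [heinv, huinv]; group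
  have hzO : (e * w) ^ 2 ∈ pCore 2 G := by
    rw [hz]
    exact (pCore 2 G).mul_mem (hO.conj_mem _ (hO.conj_mem _ hn e) u) hn
  have h2 : (e * w) ^ 2 = 1 := by
    rcases hT.prod e he w hw with h | h
    · exact h
    · obtain ⟨k, hk⟩ := hOp ⟨(e * w) ^ 2, hzO⟩
      have hk' : ((e * w) ^ 2) ^ (2 ^ k) = 1 := by
        have := congrArg Subtype.val hk
        simpa using this
      have h3 : ((e * w) ^ 2) ^ 3 = 1 := by
        rw [← pow_mul, mul_comm, pow_mul, h, one_pow]
      have hd1 : orderOf ((e * w) ^ 2) ∣ 2 ^ k := orderOf_dvd_of_pow_eq_one hk'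
      have hd2 : orderOf ((e * w) ^ 2) ∣ 3 := orderOf_dvd_of_pow_eq_one h3
      have hcop : Nat.Coprime (2 ^ k) 3 := Nat.Coprime.pow_left _ (by decide)
      have : orderOf ((e * w) ^ 2) ∣ Nat.gcd (2 ^ k) 3 := Nat.dvd_gcd hd1 hd2
      rw [hcop] at this
      exact orderOf_eq_one_iff.mp (Nat.dvd_one.mp this)
  exact (commute_of_sq_eq_one (hT.sq e he) (hT.sq w hw) h2).symm

theorem sim_of_mem_pCore [Finite G] {D : Set G} (hT : TT D) {u w : G} (hu : u ∈ D) (hw : w ∈ D)
    (hn : u⁻¹ * w ∈ pCore 2 G) : Sim D u w := by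
  intro e he
  constructor
  · exact commute_of_mem_pCore hT hu hw he hn
  · apply commute_of_mem_pCore hT hw hu he
    have : w⁻¹ * u = (u⁻¹ * w)⁻¹ := by group
    rw [this]
    exact (pCore 2 G).inv_mem hn

/-- in a class with at least two members, no member commutes with all others -/
theorem exists_not_commute {D : Set G} (hD : IsThreeTranspositionClass D)
    (hD2 : ∃ a ∈ D, ∃ b ∈ D, a ≠ b) {d : G} (hd : d ∈ D) : ∃ e ∈ D, ¬ Commute d e := by
  by_contra hall
  push Not at hall
  obtain ⟨-, ⟨d0, -, hDd⟩, hgen⟩ := hD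
  have hcent : ∀ g : G, g * d * g⁻¹ = d := by
    intro g
    have hg : g ∈ Subgroup.centralizer ({d} : Set G) := by
      have hle : Subgroup.closure D ≤ Subgroup.centralizer ({d} : Set G) := by
        rw [Subgroup.closure_le]
        intro e he
        rw [SetLike.mem_coe, Subgroup.mem_centralizer_iff]
        intro y hy
        rw [Set.mem_singleton_iff] at hy
        rw [hy]
        exact (hall e he).eq
      rw [hgen] at hle
      exact hle (Subgroup.mem_top g)
    rw [Subgroup.mem_centralizer_iff] at hg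
    have := hg d rfl
    rw [← this]; group
  have hall_eq : ∀ a ∈ D, a = d := by
    intro a ha
    rw [hDd] at ha hd
    have h1 : IsConj d0 a := ha
    have h2 : IsConj d0 d := hd
    obtain ⟨g, hg⟩ := isConj_iff.mp (h2.symm.trans h1)
    rw [← hg, hcent g]
  obtain ⟨a, ha, b, hb, hab⟩ := hD2
  exact hab ((hall_eq a ha).trans (hall_eq b hb).symm)

/-- Let D be a conjugacy class of 3-transpositions generating the finite group G, with at least two members, and d a member of D. Then the set of members of D commuting with exactly the same members of D as d coincides with the set of members of D lying in the coset of d modulo the largest normal 2-subgroup of G, and also with the orbit of d under conjugation by that normal 2-subgroup. -/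
theorem result {G : Type*} [Group G] [Finite G] {D : Set G} (hD : Cfsg.IsThreeTranspositionClass D) (hD2 : ∃ a ∈ D, ∃ b ∈ D, a ≠ b) {d : G} (hd : d ∈ D) : {v : G | v ∈ D ∧ ∀ e ∈ D, Commute v e ↔ Commute d e} = {v : G | v ∈ D ∧ d⁻¹ * v ∈ Cfsg.pCore 2 G} ∧ {v : G | v ∈ D ∧ ∀ e ∈ D, Commute v e ↔ Commute d e} = {v : G | ∃ g ∈ Cfsg.pCore 2 G, v = g * d * g⁻¹} := by
  have hT : TT D := TT.of_class hD
  have hO := pCore_normal 2 G
  have hdinv := hT.inv_eq hd
  have hdd := hT.sq d hd
  have part1 : ∀ v : G, (v ∈ D ∧ ∀ e ∈ D, Commute v e ↔ Commute d e) ↔ (v ∈ D ∧ d⁻¹ * v ∈ Cfsg.pCore 2 G) := by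
    intro v
    constructor
    · rintro ⟨hv, hs⟩
      refine ⟨hv, ?_⟩
      rw [hdinv]
      exact mul_mem_pCore_two hT hd hv (Sim.symm hs)
    · rintro ⟨hv, hn⟩
      exact ⟨hv, (sim_of_mem_pCore hT hd hv hn).symm⟩
  constructor
  · ext v
    exact part1 v
  · ext v
    constructor
    · rintro ⟨hv, hs⟩
      by_cases hvd : v = d
      · exact ⟨1, (pCore 2 G).one_mem, by rw [hvd]; simp⟩
      · obtain ⟨e, he, hde⟩ := exists_not_commute hD hD2 hd
        have hve : ¬ Commute v e := fun h => hde ((hs e he).mp h)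
        have hx : d * v ∈ pCore 2 G := mul_mem_pCore_two hT hd hv (Sim.symm hs)
        have hvv := hT.sq v hv
        have hee := hT.sq e he
        have heinv := hT.inv_eq he
        have hdv : d * v = v * d := ((Sim.symm hs).commute hv).eq
        refine ⟨e * (d * v) * e⁻¹, hO.conj_mem _ hx e, ?_⟩
        have hbr1 : e * d * e = d * e * d := hT.braid he hd (fun h => hde h.symm)
        have hbr2 : v * e * v = e * v * e := hT.braid hv he hve
        have hdvd : d * v * d = v := by rw [hdv, mul_assoc, hdd, mul_one]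
        have hxinv : (d * v)⁻¹ = d * v := by
          rw [mul_inv_rev, hT.inv_eq hv, hdinv, hdv]
        have hginv : (e * (d * v) * e⁻¹)⁻¹ = e * (d * v) * e := by
          rw [heinv, mul_inv_rev, mul_inv_rev, hxinv, heinv]; group
        rw [hginv, heinv]
        symm
        calc e * (d * v) * e * d * (e * (d * v) * e)
            = e * d * v * (e * d * e) * d * v * e := by group
          _ = e * d * v * (d * e * d) * d * v * e := by rw [hbr1]
          _ = e * (d * v * d) * e * (d * d) * v * e := by group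
          _ = e * (v * e * v) * e := by rw [hdvd, hdd]; group
          _ = e * (e * v * e) * e := by rw [hbr2]
          _ = (e * e) * v * (e * e) := by group
          _ = v := by rw [hee, one_mul, mul_one]
    · rintro ⟨g, hg, rfl⟩
      have hv : g * d * g⁻¹ ∈ D := hT.conj g d hd
      refine (part1 _).mpr ⟨hv, ?_⟩
      have : d⁻¹ * (g * d * g⁻¹) = (d⁻¹ * g * d⁻¹⁻¹) * g⁻¹ := by group
      rw [this]
      exact (pCore 2 G).mul_mem (hO.conj_mem g hg d⁻¹) ((pCore 2 G).inv_mem hg)

end Cfsg.Agent.S5349
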