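import Cfsg.Statements.S4337
import Mathlib

set_option autoImplicit false
open Cfsg

namespace Cfsg.Agent.S4337

open Equiv Equiv.Perm

set_option maxRecDepth 1000000 in
theorem V4_mul : ∀ a b : Perm (Fin 4), (a = 1 ∨ (a * a = 1 ∧ ∀ i, a i ≠ i)) →
    (b = 1 ∨ (b * b = 1 ∧ ∀ i, b i ≠ i)) → (a * b = 1 ∨ ((a * b) * (a * b) = 1 ∧ ∀ i, (a * b) i ≠ i)) := by
  decide

set_option maxRecDepth 1000000 in
theorem V4_inv : ∀ a : Perm (Fin 4), (a = 1 ∨ (a * a = 1 ∧ ∀ i, a i ≠ i)) →
    (a⁻¹ = 1 ∨ (a⁻¹ * a⁻¹ = 1 ∧ ∀ i, a⁻¹ i ≠ i)) := by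
  decide

/-- The Klein four subgroup of `Perm (Fin 4)` (identity and fixed-point-free involutions). -/
def V4 : Subgroup (Perm (Fin 4)) where
  carrier := {g | g = 1 ∨ (g * g = 1 ∧ ∀ i, g i ≠ i)}
  mul_mem' := fun {a b} ha hb => V4_mul a b ha hb
  one_mem' := Or.inl rfl
  inv_mem' := fun {a} ha => V4_inv a ha

set_option maxRecDepth 1000000 in
theorem comm_mem_V4 : ∀ g₁ g₂ : Perm (Fin 4), sign g₁ = 1 → sign g₂ = 1 →
    (g₁ * g₂ * g₁⁻¹ * g₂⁻¹ = 1 ∨ ((g₁ * g₂ * g₁⁻¹ * g₂⁻¹) * (g₁ * g₂ * g₁⁻¹ * g₂⁻¹) = 1 ∧ ∀ i, (g₁ * g₂ * g₁⁻¹ * g₂⁻¹) i ≠ i)) := by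
  decide

set_option maxRecDepth 1000000 in
theorem comm_V4 : ∀ g₁ g₂ : Perm (Fin 4), (g₁ = 1 ∨ (g₁ * g₁ = 1 ∧ ∀ i, g₁ i ≠ i)) →
    (g₂ = 1 ∨ (g₂ * g₂ = 1 ∧ ∀ i, g₂ i ≠ i)) → g₁ * g₂ * g₁⁻¹ * g₂⁻¹ = 1 := by
  decide

theorem derivedSeries_three : derivedSeries (Perm (Fin 4)) 3 = ⊥ := by
  have h1 : derivedSeries (Perm (Fin 4)) 1 ≤ alternatingGroup (Fin 4) := by
    rw [derivedSeries_succ, Subgroup.commutator_le]
    intro g₁ _ g₂ _
    rw [mem_alternatingGroup, commutatorElement_def]
    simp only [map_mul, map_inv]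
    rw [mul_comm (sign g₁) (sign g₂), mul_assoc, mul_assoc, mul_inv_cancel_left, mul_inv_cancel]
  have h2 : derivedSeries (Perm (Fin 4)) 2 ≤ V4 := by
    rw [derivedSeries_succ, Subgroup.commutator_le]
    intro g₁ hg₁ g₂ hg₂
    rw [commutatorElement_def]
    exact comm_mem_V4 g₁ g₂ (mem_alternatingGroup.mp (h1 hg₁)) (mem_alternatingGroup.mp (h1 hg₂))
  rw [derivedSeries_succ, eq_bot_iff, Subgroup.commutator_le]
  intro g₁ hg₁ g₂ hg₂
  rw [Subgroup.mem_bot, commutatorElement_def]
  exact comm_V4 g₁ g₂ (h2 hg₁) (h2 hg₂)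

theorem isSolvable_perm_fin4 : Group.IsSolvable (Perm (Fin 4)) :=
  ⟨⟨3, derivedSeries_three⟩⟩

theorem isSolvable_perm_of_card_le {β : Type*} [Fintype β] [DecidableEq β] (h : Fintype.card β ≤ 4) :
    Group.IsSolvable (Perm β) := by
  have : Nonempty (β ↪ Fin 4) := Function.Embedding.nonempty_of_card_le (by simpa using h)
  obtain ⟨ι⟩ := this
  have := isSolvable_perm_fin4
  exact Group.isSolvable_of_isSolvable_injective (Equiv.Perm.viaEmbeddingHom_injective ι)

variable {α : Type*} [Fintype α] [DecidableEq α]

/-- A group of permutations generated by elements supported on a set of at most 4 points is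
solvable. -/
theorem isSolvable_closure_of_support (S : Set (Perm α)) (T : Finset α) (hT : T.card ≤ 4)
    (hS : ∀ g ∈ S, g.support ⊆ T) : Group.IsSolvable (Subgroup.closure S) := by
  have hsol : Group.IsSolvable (Perm {x // x ∈ T}) :=
    isSolvable_perm_of_card_le (by simpa using hT)
  let φ : Perm {x // x ∈ T} →* Perm α := ofSubtype
  have hrange : Group.IsSolvable φ.range :=
    Group.isSolvable_of_surjective φ.rangeRestrict_surjective
  have hle : Subgroup.closure S ≤ φ.range := by
    rw [Subgroup.closure_le]
    intro g hg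
    have hgT := hS g hg
    have h₁ : ∀ x, g x ∈ T ↔ x ∈ T := by
      intro x
      by_cases hx : g x = x
      · rw [hx]
      · have h1 : x ∈ g.support := mem_support.mpr hx
        have h2 : g x ∈ g.support := apply_mem_support.mpr h1
        exact ⟨fun _ => hgT h1, fun _ => hgT h2⟩
    have h₂ : ∀ x, g x ≠ x → x ∈ T := fun x hx => hgT (mem_support.mpr hx)
    exact ⟨subtypePerm g h₁, ofSubtype_subtypePerm h₁ h₂⟩
  exact Group.isSolvable_of_isSolvable_injective (Subgroup.inclusion_injective hle)

/-- Adjoining an element that commutes with all generators preserves solvability. -/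
theorem isSolvable_closure_insert {G : Type*} [Group G] (S : Set G) (z : G)
    (hz : ∀ s ∈ S, s * z = z * s) (hS : Group.IsSolvable (Subgroup.closure S)) :
    Group.IsSolvable (Subgroup.closure (insert z S)) := by
  have hcent : Subgroup.closure S ≤ Subgroup.centralizer {z} := by
    rw [Subgroup.closure_le]
    intro s hs
    rw [SetLike.mem_coe, Subgroup.mem_centralizer_iff]
    intro h hh
    rw [Set.mem_singleton_iff] at hh
    rw [hh]
    exact (hz s hs).symm
  have comm : ∀ (m : Subgroup.closure S) (n : Subgroup.zpowers z),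
      Commute ((Subgroup.closure S).subtype m) ((Subgroup.zpowers z).subtype n) := by
    intro m n
    obtain ⟨i, hi⟩ := Subgroup.mem_zpowers_iff.mp n.2
    have h1 := hcent m.2
    rw [Subgroup.mem_centralizer_iff] at h1
    have h2 : Commute (m : G) z := (h1 z rfl).symm
    change Commute (m : G) (n : G)
    rw [← hi]
    exact h2.zpow_right i
  let f : Subgroup.closure S × Subgroup.zpowers z →* G :=
    MonoidHom.noncommCoprod (Subgroup.closure S).subtype (Subgroup.zpowers z).subtype comm
  have hZ : Group.IsSolvable (Subgroup.zpowers z) :=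
    Group.isSolvable_of_comm (fun a b => mul_comm' a b)
  have hrange : Group.IsSolvable f.range :=
    Group.isSolvable_of_surjective f.rangeRestrict_surjective
  have hle : Subgroup.closure (insert z S) ≤ f.range := by
    rw [Subgroup.closure_le]
    intro g hg
    rcases hg with rfl | hg
    · exact ⟨(1, ⟨g, Subgroup.mem_zpowers g⟩), by simp [f]⟩
    · exact ⟨(⟨g, Subgroup.subset_closure hg⟩, 1), by simp [f]⟩
  exact Group.isSolvable_of_isSolvable_injective (Subgroup.inclusion_injective hle)

theorem card_union3 (s t u : Finset α) (hs : s.card = 2) (ht : t.card = 2) (hu : u.card = 2)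
    (h1 : ¬ Disjoint s t) (h2 : ¬ Disjoint s u ∨ ¬ Disjoint t u) : (s ∪ t ∪ u).card ≤ 4 := by
  have e1 := Finset.card_union_add_card_inter s t
  have e2 := Finset.card_union_add_card_inter (s ∪ t) u
  have p1 : 1 ≤ (s ∩ t).card := Finset.card_pos.mpr (Finset.not_disjoint_iff_nonempty_inter.mp h1)
  have p2 : 1 ≤ ((s ∪ t) ∩ u).card := by
    rcases h2 with h | h
    · have h3 : 1 ≤ (s ∩ u).card := Finset.card_pos.mpr (Finset.not_disjoint_iff_nonempty_inter.mp h)
      exact h3.trans (Finset.card_le_card (Finset.inter_subset_inter_right Finset.subset_union_left))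
    · have h3 : 1 ≤ (t ∩ u).card := Finset.card_pos.mpr (Finset.not_disjoint_iff_nonempty_inter.mp h)
      exact h3.trans (Finset.card_le_card (Finset.inter_subset_inter_right Finset.subset_union_right))
  omega


omit [Fintype α] [DecidableEq α] in
theorem insert_eq1 (a b c : α) : ({a, b, c} : Set α) = insert b {a, c} := Set.insert_comm a b {c}

omit [Fintype α] [DecidableEq α] in
theorem insert_eq2 (a b c : α) : ({a, b, c} : Set α) = insert c {a, b} := by
  ext x
  simp only [Set.mem_insert_iff, Set.mem_singleton_iff]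
  tauto

/-- In a finite symmetric group, any three transpositions generate a solvable subgroup. -/
theorem result (n : ℕ) (a b c : Equiv.Perm (Fin n))
    (ha : a.IsSwap) (hb : b.IsSwap) (hc : c.IsSwap) :
    Group.IsSolvable (Subgroup.closure ({a, b, c} : Set (Equiv.Perm (Fin n)))) := by
  have ca : a.support.card = 2 := card_support_eq_two.mpr ha
  have cb : b.support.card = 2 := card_support_eq_two.mpr hb
  have cc : c.support.card = 2 := card_support_eq_two.mpr hc
  have comm_of_disj : ∀ x y : Perm (Fin n), Disjoint x.support y.support → x * y = y * x :=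
    fun x y h => (disjoint_iff_disjoint_support.mpr h).commute.eq
  have two : ∀ x y : Perm (Fin n), x.support.card = 2 → y.support.card = 2 →
      Group.IsSolvable (Subgroup.closure ({x, y} : Set (Perm (Fin n)))) := by
    intro x y hx hy
    apply isSolvable_closure_of_support _ (x.support ∪ y.support)
    · have := Finset.card_union_le x.support y.support
      omega
    · rintro g (rfl | rfl)
      · exact Finset.subset_union_left
      · exact Finset.subset_union_right
  by_cases h1 : Disjoint a.support b.support ∧ Disjoint a.support c.support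
  · apply isSolvable_closure_insert {b, c} a _ (two b c cb cc)
    rintro s (rfl | rfl)
    · exact (comm_of_disj _ _ h1.1).symm
    · exact (comm_of_disj _ _ h1.2).symm
  by_cases h2 : Disjoint b.support a.support ∧ Disjoint b.support c.support
  · rw [insert_eq1]
    apply isSolvable_closure_insert {a, c} b _ (two a c ca cc)
    rintro s (rfl | rfl)
    · exact (comm_of_disj _ _ h2.1).symm
    · exact (comm_of_disj _ _ h2.2).symm
  by_cases h3 : Disjoint c.support a.support ∧ Disjoint c.support b.support
  · rw [insert_eq2]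
    apply isSolvable_closure_insert {a, b} c _ (two a b ca cb)
    rintro s (rfl | rfl)
    · exact (comm_of_disj _ _ h3.1).symm
    · exact (comm_of_disj _ _ h3.2).symm
  · apply isSolvable_closure_of_support _ (a.support ∪ b.support ∪ c.support)
    · by_cases hab : Disjoint a.support b.support
      · have hac : ¬ Disjoint a.support c.support := fun h => h1 ⟨hab, h⟩
        have hbc : ¬ Disjoint b.support c.support := fun h => h2 ⟨hab.symm, h⟩
        have := card_union3 a.support c.support b.support ca cc cb hac
          (Or.inr (fun h => hbc h.symm))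
        have e : a.support ∪ b.support ∪ c.support = a.support ∪ c.support ∪ b.support := by
          rw [Finset.union_right_comm]
        rw [e]; exact this
      · have h' : ¬ Disjoint a.support c.support ∨ ¬ Disjoint b.support c.support := by
          by_contra hcon
          push Not at hcon
          exact h3 ⟨hcon.1.symm, hcon.2.symm⟩
        exact card_union3 a.support b.support c.support ca cb cc hab h'
    · rintro g (rfl | rfl | rfl)
      · exact Finset.subset_union_left.trans Finset.subset_union_left
      · exact Finset.subset_union_right.trans Finset.subset_union_left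
      · exact Finset.subset_union_right

end Cfsg.Agent.S4337
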