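import Cfsg.Statements.S0265
import Mathlib

set_option autoImplicit false
open Cfsg

namespace Cfsg.Agent.S0265

open Matrix

lemma scalar_injective {F : Type*} [Field F] (n : ℕ) (hn : 0 < n) :
    Function.Injective (GeneralLinearGroup.scalar (Fin n) : Fˣ →* GL (Fin n) F) := by
  intro a b hab
  have h1 := congrArg (fun g : GL (Fin n) F => (g : Matrix (Fin n) (Fin n) F) ⟨0, hn⟩ ⟨0, hn⟩) hab
  simp [GeneralLinearGroup.coe_scalar] at h1
  exact Units.ext h1

lemma range_toGL {F : Type*} [Field F] (n : ℕ) :
    (SpecialLinearGroup.toGL : SpecialLinearGroup (Fin n) F →* GL (Fin n) F).range =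
      (GeneralLinearGroup.det : GL (Fin n) F →* Fˣ).ker := by
  ext g
  constructor
  · rintro ⟨s, rfl⟩
    simp
  · intro hg
    rw [MonoidHom.mem_ker] at hg
    have hdet : (g : Matrix (Fin n) (Fin n) F).det = 1 := by
      have := congrArg Units.val hg
      simpa using this
    exact ⟨⟨g.val, hdet⟩, Units.ext rfl⟩

/-- |PGL_n(q)| = |SL_n(q)|: GL_n modulo its centre (the q-1 non-zero scalars) has the same order as the kernel of det. -/
theorem result {F : Type*} [Field F] [Fintype F] (n : ℕ) : Nat.card (Matrix.ProjGenLinGroup (Fin n) F) = Nat.card (Matrix.SpecialLinearGroup (Fin n) F) := by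
  rcases Nat.eq_zero_or_pos n with rfl | hn
  · have : Subsingleton (GL (Fin 0) F) := by
      constructor
      intro a b
      apply Units.ext
      ext i j
      exact Fin.elim0 i
    have : Subsingleton (Matrix.ProjGenLinGroup (Fin 0) F) := by
      constructor
      intro a b
      induction a using Matrix.ProjGenLinGroup.induction_on with | mk a =>
      induction b using Matrix.ProjGenLinGroup.induction_on with | mk b =>
      rw [Subsingleton.elim a b]
    rw [Nat.card_of_subsingleton (1 : Matrix.ProjGenLinGroup (Fin 0) F),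
      Nat.card_of_subsingleton (1 : SpecialLinearGroup (Fin 0) F)]
  · have : Nonempty (Fin n) := ⟨⟨0, hn⟩⟩
    have h1 : Nat.card (GL (Fin n) F) =
        Nat.card (Matrix.ProjGenLinGroup (Fin n) F) * Nat.card (Subgroup.center (GL (Fin n) F)) :=
      Subgroup.card_eq_card_quotient_mul_card_subgroup _
    have h2 : Nat.card (Subgroup.center (GL (Fin n) F)) = Nat.card Fˣ := by
      rw [GeneralLinearGroup.center_eq_range_scalar]
      exact (Nat.card_congr (MonoidHom.ofInjective (scalar_injective n hn)).toEquiv).symm
    have h3 : Nat.card (GL (Fin n) F) =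
        Nat.card (SpecialLinearGroup (Fin n) F) * Nat.card Fˣ := by
      have h4 := Subgroup.card_mul_index (GeneralLinearGroup.det : GL (Fin n) F →* Fˣ).ker
      rw [Subgroup.index_ker, MonoidHom.range_eq_top.2 GeneralLinearGroup.det_surjective] at h4
      rw [← h4, ← range_toGL]
      congr 1
      · exact (Nat.card_congr (MonoidHom.ofInjective
          (SpecialLinearGroup.toGL_injective (n := Fin n) (R := F))).toEquiv).symm
      · exact Nat.card_congr Subgroup.topEquiv.toEquiv
    have hpos : 0 < Nat.card Fˣ := Nat.card_pos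
    rw [h2] at h1
    rw [h1] at h3
    exact Nat.eq_of_mul_eq_mul_right hpos h3

end Cfsg.Agent.S0265
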