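import Cfsg.Statements.S3754
import Mathlib
import Cfsg.Agent.Lib.Helper54.PSolv
import Cfsg.Agent.Lib.Helper46.PCore
import Cfsg.Agent.Lib.Helper47.PRes
import Cfsg.Agent.Lib.Helper2.PGroup
import Cfsg.Agent.Lib.Helper30.IndexP
import Cfsg.Agent.S3734

set_option autoImplicit false
open Cfsg

namespace Cfsg.Agent.S3754

open Subgroup
open scoped commutatorElement

section general

variable {G : Type*} [Group G]

/-- Dual Hall–Higman lemma: in a `p`-solvable group with `O_p(G) = 1`, `C_G(O_{p'}(G)) ≤ O_{p'}(G)`. -/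
theorem centralizer_pPrimeCore_le [Finite G] {p : ℕ} [Fact p.Prime] (hG : IsPSolvable p G)
    (hcore : pCore p G = ⊥) :
    Subgroup.centralizer (pPrimeCore p G : Set G) ≤ pPrimeCore p G := by
  have hp : p.Prime := Fact.out
  set H := pPrimeCore p G with hH
  have hHn : H.Normal := inferInstance
  have hHc : (Nat.card H).Coprime p := Cfsg.Agent.Helper54.pPrimeCore_coprime p
  set C := Subgroup.centralizer (H : Set G) with hC
  have hCn : C.Normal := inferInstance
  by_contra hCH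
  have hlt : H < C ⊔ H :=
    lt_of_le_of_ne le_sup_right (fun h => hCH (by rw [h]; exact le_sup_left))
  obtain ⟨L, hLn, hHL, hLM, hfac⟩ := Cfsg.Agent.Helper54.IsPSolvable.exists_step hG H (C ⊔ H) hlt
  rcases hfac with ⟨m, hm⟩ | hcop
  · -- Schur–Zassenhaus
    set N : Subgroup L := H.subgroupOf L with hN
    have hNn : N.Normal := Subgroup.Normal.subgroupOf hHn L
    have hNcard : Nat.card N = Nat.card H :=
      Nat.card_congr (Subgroup.subgroupOfEquivOfLe hHL.le).toEquiv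
    have hNidx : N.index = H.relIndex L := rfl
    have hcoprime : (Nat.card N).Coprime N.index := by
      rw [hNcard, hNidx, hm]
      exact Nat.Coprime.pow_right m hHc
    obtain ⟨K₀, hK₀⟩ := Subgroup.exists_right_complement'_of_coprime hcoprime
    set Kc : Subgroup G := K₀.map L.subtype with hKc
    have hKcL : Kc ≤ L := Subgroup.map_subtype_le K₀
    have hKccard : Nat.card Kc = p ^ m := by
      rw [← hm, ← hNidx, hK₀.symm.index_eq_card]
      exact (Nat.card_congr
        (Subgroup.equivMapOfInjective K₀ L.subtype L.subtype_injective).toEquiv).symm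
    have hKcp : IsPGroup p Kc := IsPGroup.of_card hKccard
    -- Claim 1: `Kc ≤ C`
    have hKcC : Kc ≤ C := by
      have h1 : Kc.map (QuotientGroup.mk' C) ≤ H.map (QuotientGroup.mk' C) := by
        calc Kc.map (QuotientGroup.mk' C) ≤ (C ⊔ H).map (QuotientGroup.mk' C) :=
              Subgroup.map_mono (hKcL.trans hLM)
          _ = H.map (QuotientGroup.mk' C) := by
              rw [Subgroup.map_sup]
              have : C.map (QuotientGroup.mk' C) = ⊥ := by
                rw [Subgroup.map_eq_bot_iff, QuotientGroup.ker_mk']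
              rw [this, bot_sup_eq]
      have h2 : IsPGroup p (Kc.map (QuotientGroup.mk' C)) := hKcp.map _
      have h3 : (Nat.card (Kc.map (QuotientGroup.mk' C))).Coprime p :=
        Nat.Coprime.coprime_dvd_left
          ((Subgroup.card_dvd_of_le h1).trans (Subgroup.card_map_dvd _ _)) hHc
      have h4 := Cfsg.Agent.Helper54.card_eq_one_of_isPGroup_of_coprime h2 h3
      rw [Subgroup.card_eq_one, Subgroup.map_eq_bot_iff, QuotientGroup.ker_mk'] at h4
      exact h4
    -- decomposition of elements of `L`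
    have hdec : ∀ y ∈ L, ∃ h ∈ H, ∃ k ∈ Kc, y = h * k := by
      intro y hy
      have hsurj := (Subgroup.isComplement'_def.mp hK₀).2
      obtain ⟨⟨n, k⟩, hnk⟩ := hsurj ⟨y, hy⟩
      refine ⟨(n : L), ?_, (k : L), ⟨(k : L), k.2, rfl⟩, ?_⟩
      · have hn2 : (n : L) ∈ H.subgroupOf L := n.2
        exact Subgroup.mem_subgroupOf.mp hn2
      · have := congrArg Subtype.val hnk
        simpa using this.symm
    -- Claim 2: `Kc` is normal in `G`
    have hKcn : Kc.Normal := by
      constructor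
      intro k hk g
      have hyL : g * k * g⁻¹ ∈ L := hLn.conj_mem k (hKcL hk) g
      obtain ⟨h, hh, k', hk', hy⟩ := hdec _ hyL
      have hkpow : k ^ Nat.card Kc = 1 := by
        have h5 : (⟨k, hk⟩ : Kc) ^ Nat.card Kc = 1 := pow_card_eq_one'
        have h6 := congrArg Subtype.val h5
        rw [Subgroup.coe_pow, Subgroup.coe_one] at h6
        exact h6
      have hk'pow : k' ^ Nat.card Kc = 1 := by
        have h5 : (⟨k', hk'⟩ : Kc) ^ Nat.card Kc = 1 := pow_card_eq_one'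
        have h6 := congrArg Subtype.val h5
        rw [Subgroup.coe_pow, Subgroup.coe_one] at h6
        exact h6
      have hypow : (g * k * g⁻¹) ^ Nat.card Kc = 1 := by
        rw [conj_pow, hkpow, mul_one, mul_inv_cancel]
      have hcomm : Commute h k' := by
        have := hKcC hk'
        rw [hC, Subgroup.mem_centralizer_iff] at this
        exact this h hh
      rw [hy, hcomm.mul_pow, hk'pow, mul_one, hKccard] at hypow
      have h1 : h = 1 := by
        have ho1 : orderOf h ∣ p ^ m := orderOf_dvd_of_pow_eq_one hypow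
        have ho2 : orderOf h ∣ Nat.card H := by
          have : orderOf (⟨h, hh⟩ : H) ∣ Nat.card H := orderOf_dvd_natCard _
          rwa [Subgroup.orderOf_mk] at this
        have : orderOf h ∣ Nat.gcd (p ^ m) (Nat.card H) := Nat.dvd_gcd ho1 ho2
        rw [(Nat.Coprime.pow_left m hHc.symm)] at this
        exact orderOf_eq_one_iff.mp (Nat.dvd_one.mp this)
      rw [hy, h1, one_mul]
      exact hk'
    have hKcbot : Kc ≤ ⊥ := by
      rw [← hcore]
      exact Cfsg.Agent.Helper54.le_pCore hKcn hKcp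
    have hKc1 : Nat.card Kc = 1 := by
      rw [Subgroup.card_eq_one]; exact le_bot_iff.mp hKcbot
    have : H.relIndex L = 1 := by rw [hm, ← hKccard, hKc1]
    rw [Subgroup.relIndex_eq_one] at this
    exact hHL.not_ge this
  · -- `L` is a normal `p'`-subgroup
    have hLc : (Nat.card L).Coprime p := by
      rw [Cfsg.Agent.Helper54.card_eq_card_mul_relIndex H L hHL.le]
      exact Nat.Coprime.mul_left hHc hcop
    exact hHL.not_ge (Cfsg.Agent.Helper54.le_pPrimeCore hLn hLc)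

/-- A `p'`-element of `R ⊔ A` lies in `R`, when the `p`-group `A` normalizes `R`. -/
theorem mem_of_coprime_of_mem_sup {p : ℕ} [Fact p.Prime] {R A : Subgroup G} (hA : IsPGroup p A)
    (hAR : A ≤ normalizer (R : Set G)) {g : G} (hg : g ∈ R ⊔ A) (hco : (orderOf g).Coprime p) :
    g ∈ R := by
  set Nm := normalizer (R : Set G) with hNm
  have hRN : R ≤ Nm := le_normalizer
  have hle : R ⊔ A ≤ Nm := sup_le hRN hAR
  have hn : (R.subgroupOf Nm).Normal := Subgroup.normal_in_normalizer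
  let φ := QuotientGroup.mk' (R.subgroupOf Nm)
  let g' : Nm := ⟨g, hle hg⟩
  have h1 : g' ∈ R.subgroupOf Nm ⊔ A.subgroupOf Nm := by
    rw [← Subgroup.subgroupOf_sup hRN hAR]
    exact Subgroup.mem_subgroupOf.mpr hg
  have h2 : φ g' ∈ (A.subgroupOf Nm).map φ := by
    have : φ g' ∈ (R.subgroupOf Nm ⊔ A.subgroupOf Nm).map φ := ⟨g', h1, rfl⟩
    rw [Subgroup.map_sup] at this
    have hb : (R.subgroupOf Nm).map φ = ⊥ := by
      rw [Subgroup.map_eq_bot_iff, QuotientGroup.ker_mk']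
    rwa [hb, bot_sup_eq] at this
  have hAp : IsPGroup p ((A.subgroupOf Nm).map φ) := by
    apply IsPGroup.map
    exact hA.comap_of_injective _ (Subgroup.subtype_injective _)
  obtain ⟨k, hk⟩ := hAp ⟨φ g', h2⟩
  have hk' : (φ g') ^ p ^ k = 1 := by
    have := congrArg Subtype.val hk
    simpa using this
  have ho : (φ g') ^ orderOf g = 1 := by
    rw [← map_pow]
    have : g' ^ orderOf g = 1 := by
      apply Subtype.ext
      rw [Subgroup.coe_pow, Subgroup.coe_one]
      exact pow_orderOf_eq_one g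
    rw [this, map_one]
  have h3 : φ g' = 1 := by
    have hd1 : orderOf (φ g') ∣ p ^ k := orderOf_dvd_of_pow_eq_one hk'
    have hd2 : orderOf (φ g') ∣ orderOf g := orderOf_dvd_of_pow_eq_one ho
    have : orderOf (φ g') ∣ Nat.gcd (p ^ k) (orderOf g) := Nat.dvd_gcd hd1 hd2
    rw [Nat.Coprime.pow_left k hco.symm] at this
    exact orderOf_eq_one_iff.mp (Nat.dvd_one.mp this)
  have h4 : g' ∈ R.subgroupOf Nm := by
    rw [← QuotientGroup.ker_mk' (R.subgroupOf Nm)]
    exact h3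
  exact Subgroup.mem_subgroupOf.mp h4

/-- Elements of `H ⊔ ⟨a⟩` when `a` centralizes `H`. -/
theorem mem_sup_zpowers_of_comm (H : Subgroup G) (a : G) (hc : ∀ h ∈ H, a * h = h * a) {y : G}
    (hy : y ∈ H ⊔ zpowers a) : ∃ h ∈ H, ∃ i : ℤ, y = h * a ^ i := by
  rw [Subgroup.sup_eq_closure] at hy
  induction hy using Subgroup.closure_induction with
  | mem z hz =>
    rcases hz with hz | hz
    · exact ⟨z, hz, 0, by simp⟩
    · obtain ⟨i, rfl⟩ := Subgroup.mem_zpowers_iff.mp hz
      exact ⟨1, one_mem _, i, by simp⟩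
  | one => exact ⟨1, one_mem _, 0, by simp⟩
  | mul u v _ _ hu hv =>
    obtain ⟨h, hh, i, rfl⟩ := hu
    obtain ⟨h', hh', j, rfl⟩ := hv
    refine ⟨h * h', mul_mem hh hh', i + j, ?_⟩
    have hcm : Commute (a ^ i) h' := Commute.zpow_left (hc h' hh') i
    rw [zpow_add, mul_assoc, ← mul_assoc (a ^ i), hcm.eq]
    group
  | inv u _ hu =>
    obtain ⟨h, hh, i, rfl⟩ := hu
    refine ⟨h⁻¹, inv_mem hh, -i, ?_⟩
    have hcm : Commute (a ^ i) h := Commute.zpow_left (hc h hh) i
    rw [mul_inv_rev, zpow_neg]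
    exact (hcm.inv_inv).eq

/-- Conjugation by elements of `H` preserves `⁅H, K⁆`. -/
theorem conj_mem_commutator_left (H K : Subgroup G) {g : G} (hg : g ∈ H) {y : G}
    (hy : y ∈ ⁅H, K⁆) : g * y * g⁻¹ ∈ ⁅H, K⁆ := by
  rw [Subgroup.commutator_def] at hy ⊢
  induction hy using Subgroup.closure_induction with
  | mem z hz =>
    obtain ⟨h, hh, k, hk, rfl⟩ := hz
    have e : g * ⁅h, k⁆ * g⁻¹ = ⁅g * h, k⁆ * ⁅g, k⁆⁻¹ := by
      simp only [commutatorElement_def]; group
    rw [e]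
    exact mul_mem (Subgroup.subset_closure ⟨g * h, mul_mem hg hh, k, hk, rfl⟩)
      (inv_mem (Subgroup.subset_closure ⟨g, hg, k, hk, rfl⟩))
  | one => simp
  | mul u v _ _ hu hv =>
    have : g * (u * v) * g⁻¹ = (g * u * g⁻¹) * (g * v * g⁻¹) := by group
    rw [this]; exact mul_mem hu hv
  | inv u _ hu =>
    have : g * u⁻¹ * g⁻¹ = (g * u * g⁻¹)⁻¹ := by group
    rw [this]; exact inv_mem hu

/-- Conjugation by elements of `K` preserves `⁅H, K⁆`. -/
theorem conj_mem_commutator_right (H K : Subgroup G) {g : G} (hg : g ∈ K) {y : G}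
    (hy : y ∈ ⁅H, K⁆) : g * y * g⁻¹ ∈ ⁅H, K⁆ := by
  rw [Subgroup.commutator_def] at hy ⊢
  induction hy using Subgroup.closure_induction with
  | mem z hz =>
    obtain ⟨h, hh, k, hk, rfl⟩ := hz
    have e : g * ⁅h, k⁆ * g⁻¹ = ⁅h, g⁆⁻¹ * ⁅h, g * k⁆ := by
      simp only [commutatorElement_def]; group
    rw [e]
    exact mul_mem (inv_mem (Subgroup.subset_closure ⟨h, hh, g, hg, rfl⟩))
      (Subgroup.subset_closure ⟨h, hh, g * k, mul_mem hg hk, rfl⟩)
  | one => simp
  | mul u v _ _ hu hv =>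
    have : g * (u * v) * g⁻¹ = (g * u * g⁻¹) * (g * v * g⁻¹) := by group
    rw [this]; exact mul_mem hu hv
  | inv u _ hu =>
    have : g * u⁻¹ * g⁻¹ = (g * u * g⁻¹)⁻¹ := by group
    rw [this]; exact inv_mem hu

theorem le_normalizer_commutator_right (H K : Subgroup G) :
    K ≤ normalizer ((⁅H, K⁆ : Subgroup G) : Set G) := by
  intro g hg
  rw [Subgroup.mem_normalizer_iff]
  intro y
  constructor
  · exact fun hy => conj_mem_commutator_right H K hg hy
  · intro hy
    have := conj_mem_commutator_right H K (inv_mem hg) hy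
    have e : g⁻¹ * (g * y * g⁻¹) * g⁻¹⁻¹ = y := by group
    rwa [e] at this

/-- A normal subgroup `B` of `A` with `A = B⟨a⟩`, `a ∉ B`, `a ^ p ∈ B` has index `p`. -/
theorem relIndex_eq_prime {p : ℕ} [Fact p.Prime] {B A : Subgroup G} (hBA : B ≤ A)
    (hn : ∀ g ∈ A, ∀ b ∈ B, g * b * g⁻¹ ∈ B) {a : G} (haA : a ∈ A) (haB : a ∉ B)
    (hap : a ^ p ∈ B) (hgen : ∀ g ∈ A, ∃ b ∈ B, ∃ i : ℤ, g = b * a ^ i) :
    B.relIndex A = p := by
  have hp : p.Prime := Fact.out
  have hN : (B.subgroupOf A).Normal := by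
    constructor
    intro n hn' g
    rw [Subgroup.mem_subgroupOf] at hn' ⊢
    exact hn g g.2 n hn'
  let φ := QuotientGroup.mk' (B.subgroupOf A)
  let a' : A := ⟨a, haA⟩
  have hall : ∀ y : A ⧸ B.subgroupOf A, y ∈ zpowers (φ a') := by
    intro y
    obtain ⟨g, rfl⟩ := QuotientGroup.mk'_surjective _ y
    obtain ⟨b, hb, i, hgi⟩ := hgen g g.2
    have hg' : g = (⟨b, hBA hb⟩ : A) * a' ^ i := by
      apply Subtype.ext
      rw [Subgroup.coe_mul, Subgroup.coe_zpow]
      exact hgi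
    have hb1 : φ (⟨b, hBA hb⟩ : A) = 1 := by
      have : (⟨b, hBA hb⟩ : A) ∈ (φ).ker := by
        rw [QuotientGroup.ker_mk']
        exact Subgroup.mem_subgroupOf.mpr hb
      exact this
    rw [hg', map_mul, hb1, one_mul, map_zpow]
    exact Subgroup.zpow_mem_zpowers _ i
  have hcard : orderOf (φ a') = Nat.card (A ⧸ B.subgroupOf A) :=
    orderOf_eq_card_of_forall_mem_zpowers hall
  have hpow : (φ a') ^ p = 1 := by
    rw [← map_pow]
    have : a' ^ p ∈ (φ).ker := by
      rw [QuotientGroup.ker_mk']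
      rw [Subgroup.mem_subgroupOf, Subgroup.coe_pow]
      exact hap
    exact this
  have hne : φ a' ≠ 1 := by
    intro h
    have : a' ∈ (φ).ker := h
    rw [QuotientGroup.ker_mk', Subgroup.mem_subgroupOf] at this
    exact haB this
  have ho : orderOf (φ a') = p := by
    have hd : orderOf (φ a') ∣ p := orderOf_dvd_of_pow_eq_one hpow
    rcases (Nat.dvd_prime hp).mp hd with h | h
    · exact absurd (orderOf_eq_one_iff.mp h) hne
    · exact h
  show (B.subgroupOf A).index = p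
  rw [Subgroup.index_eq_card, ← hcard, ho]

end general

section main

variable {M : Type*} [Group M] [Finite M] {p : ℕ} [Fact p.Prime]

theorem map_comm (A : Subgroup M) (hA : IsPGroup p A)
    (hΦ : (frattini ↥A).map A.subtype ≤ pCore p M) :
    ∀ y ∈ A.map (QuotientGroup.mk' (pCore p M)), ∀ z ∈ A.map (QuotientGroup.mk' (pCore p M)),
      y * z = z * y := by
  rintro _ ⟨u, hu, rfl⟩ _ ⟨v, hv, rfl⟩
  have h1 : (⁅(⟨u, hu⟩ : A), ⟨v, hv⟩⁆ : A) ∈ frattini A :=
    Cfsg.Agent.Helper2.commutatorElement_mem_frattini hA _ _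
  have h2 : ⁅u, v⁆ ∈ pCore p M := hΦ ⟨_, h1, by simp [commutatorElement_def]⟩
  have h3 : QuotientGroup.mk' (pCore p M) ⁅u, v⁆ = 1 := by
    rw [← MonoidHom.mem_ker, QuotientGroup.ker_mk']; exact h2
  rw [map_commutatorElement, commutatorElement_eq_one_iff_mul_comm] at h3
  exact h3

theorem map_pow_p (A : Subgroup M) (hA : IsPGroup p A)
    (hΦ : (frattini ↥A).map A.subtype ≤ pCore p M) :
    ∀ y ∈ A.map (QuotientGroup.mk' (pCore p M)), y ^ p = 1 := by
  rintro _ ⟨u, hu, rfl⟩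
  have h1 : (⟨u, hu⟩ : A) ^ p ∈ frattini A := Cfsg.Agent.Helper2.pow_mem_frattini hA _
  have h2 : u ^ p ∈ pCore p M := hΦ ⟨_, h1, by simp⟩
  rw [← map_pow, ← MonoidHom.mem_ker, QuotientGroup.ker_mk']
  exact h2


theorem normal_normalizer_top {G : Type*} [Group G] (K : Subgroup G) [hK : K.Normal]
    (H : Subgroup G) : H ≤ normalizer (K : Set G) := by
  intro y _
  rw [Subgroup.mem_normalizer_iff]
  intro h
  constructor
  · intro hh; exact hK.conj_mem h hh y
  · intro hh
    have := hK.conj_mem _ hh y⁻¹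
    have e : y⁻¹ * (y * h * y⁻¹) * y⁻¹⁻¹ = h := by group
    rwa [e] at this

omit [Finite M] [Fact p.Prime] in
theorem conj_mem_N {L : Subgroup M} {l : M} (hl : l ∈ L) {n : M}
    (hn : n ∈ (pResidual p L).map L.subtype) : l * n * l⁻¹ ∈ (pResidual p L).map L.subtype := by
  obtain ⟨n', hn', rfl⟩ := hn
  have hnorm : (pResidual p L).Normal := Cfsg.Agent.Helper47.pResidual_normal
  refine ⟨⟨l, hl⟩ * n' * ⟨l, hl⟩⁻¹, hnorm.conj_mem n' hn' _, ?_⟩
  simp

omit [Finite M] [Fact p.Prime] in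
theorem conj_mem_P {L : Subgroup M} {l : M} (hl : l ∈ L) {n : M}
    (hn : n ∈ (pCore p L).map L.subtype) : l * n * l⁻¹ ∈ (pCore p L).map L.subtype := by
  obtain ⟨n', hn', rfl⟩ := hn
  have hnorm : (pCore p L).Normal := inferInstance
  refine ⟨⟨l, hl⟩ * n' * ⟨l, hl⟩⁻¹, hnorm.conj_mem n' hn' _, ?_⟩
  simp

theorem concl (A : Subgroup M) (hA : IsPGroup p A)
    (hΦ : (frattini ↥A).map A.subtype ≤ pCore p M)
    (Bb : Subgroup (M ⧸ pCore p M)) (hBb : Bb ≤ A.map (QuotientGroup.mk' (pCore p M)))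
    (a : M) (ha : a ∈ A)
    (hgen : Bb ⊔ zpowers (QuotientGroup.mk' (pCore p M) a) = A.map (QuotientGroup.mk' (pCore p M)))
    (x : M) (hxK : QuotientGroup.mk' (pCore p M) x ∈ pPrimeCore p (M ⧸ pCore p M))
    (hxB : ∀ b ∈ Bb, QuotientGroup.mk' (pCore p M) x * b = b * QuotientGroup.mk' (pCore p M) x)
    (hxa : QuotientGroup.mk' (pCore p M) x * QuotientGroup.mk' (pCore p M) a ≠
      QuotientGroup.mk' (pCore p M) a * QuotientGroup.mk' (pCore p M) x)
    (L : Subgroup M) (hL : L = A ⊔ A.map (MulAut.conj x).toMonoidHom)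
    (hxN : x ∈ (pResidual p L).map L.subtype) :
    (pResidual p L).map L.subtype ≤
        (pPrimeCore p (M ⧸ pCore p M)).comap (QuotientGroup.mk' (pCore p M)) ∧
      ⁅(pResidual p L).map L.subtype, A⁆ = (pResidual p L).map L.subtype ∧
      (A ⊓ (pCore p L).map L.subtype).relIndex A = p ∧
      ⁅A ⊓ (pCore p L).map L.subtype, L⁆ ≤ pCore p M := by
  have hp : p.Prime := Fact.out
  set O := pCore p M with hO
  set π := QuotientGroup.mk' O with hπ
  set Kb := pPrimeCore p (M ⧸ O) with hKb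
  set Ab := A.map π with hAb
  set N := (pResidual p L).map L.subtype with hN
  set P := (pCore p L).map L.subtype with hP
  have hcomm := map_comm A hA hΦ
  have hpow := map_pow_p A hA hΦ
  have hAbp : IsPGroup p Ab := hA.map π
  have hKn : Kb.Normal := inferInstance
  have hKc : (Nat.card Kb).Coprime p := Cfsg.Agent.Helper54.pPrimeCore_coprime p
  have hAL : A ≤ L := hL ▸ le_sup_left
  have hNL : N ≤ L := Cfsg.Agent.Helper47.map_pResidual_le L
  have hxL : x ∈ L := hNL hxN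
  have hπA : ∀ g ∈ A, π g ∈ Ab := fun g hg => ⟨g, hg, rfl⟩
  have hkerπ : ∀ g : M, π g = 1 ↔ g ∈ O := by
    intro g
    rw [← MonoidHom.mem_ker, QuotientGroup.ker_mk']
  -- an element of `Kb` of `p`-power order is trivial
  have hKtriv : ∀ y ∈ Kb, ∀ k : ℕ, y ^ p ^ k = 1 → y = 1 := by
    intro y hy k hk
    have ho1 : orderOf y ∣ p ^ k := orderOf_dvd_of_pow_eq_one hk
    have ho2 : orderOf y ∣ Nat.card Kb := by
      have : orderOf (⟨y, hy⟩ : Kb) ∣ Nat.card Kb := orderOf_dvd_natCard _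
      rwa [Subgroup.orderOf_mk] at this
    have : orderOf y ∣ Nat.gcd (p ^ k) (Nat.card Kb) := Nat.dvd_gcd ho1 ho2
    rw [(Nat.Coprime.pow_left k hKc.symm)] at this
    exact orderOf_eq_one_iff.mp (Nat.dvd_one.mp this)
  -- generating-set principle for `L`
  have hLle : ∀ T : Subgroup M, A ≤ T → (∀ a' ∈ A, x * a' * x⁻¹ ∈ T) → L ≤ T := by
    intro T h1 h2
    rw [hL]
    refine sup_le h1 ?_
    rintro _ ⟨a', ha', rfl⟩
    simpa using h2 a' ha'
  -- `Cb`: the elements of `Ab` commuting with `π x`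
  set Cb : Subgroup (M ⧸ O) := Ab ⊓ centralizer ({π x} : Set (M ⧸ O)) with hCb
  have hCbmem : ∀ y, y ∈ Cb ↔ y ∈ Ab ∧ π x * y = y * π x := by
    intro y
    rw [hCb, Subgroup.mem_inf, Subgroup.mem_centralizer_iff]
    constructor
    · rintro ⟨h1, h2⟩; exact ⟨h1, h2 _ rfl⟩
    · rintro ⟨h1, h2⟩
      refine ⟨h1, ?_⟩
      intro h hh
      rw [Set.mem_singleton_iff] at hh
      rw [hh]; exact h2
  -- `π L` centralizes `Cb`
  have hL1 : ∀ y ∈ Cb, ∀ l ∈ L, π l * y = y * π l := by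
    intro y hy
    obtain ⟨hyA, hyx⟩ := (hCbmem y).mp hy
    have : L ≤ (centralizer ({y} : Set (M ⧸ O))).comap π := by
      apply hLle
      · intro a' ha'
        rw [Subgroup.mem_comap, Subgroup.mem_centralizer_iff]
        intro h hh
        rw [Set.mem_singleton_iff] at hh
        rw [hh]
        exact hcomm y hyA (π a') (hπA a' ha')
      · intro a' ha'
        rw [Subgroup.mem_comap, Subgroup.mem_centralizer_iff]
        intro h hh
        rw [Set.mem_singleton_iff] at hh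
        rw [hh]
        have e1 : y * π a' = π a' * y := hcomm y hyA (π a') (hπA a' ha')
        have e2 : y * π x = π x * y := hyx.symm
        have e3 : y * (π x)⁻¹ = (π x)⁻¹ * y := by
          have := (Commute.inv_right (show Commute y (π x) from e2)).eq
          exact this
        rw [map_mul, map_mul, map_inv]
        calc y * (π x * π a' * (π x)⁻¹) = (y * π x) * π a' * (π x)⁻¹ := by group
          _ = π x * (y * π a') * (π x)⁻¹ := by rw [e2]; group
          _ = π x * π a' * (y * (π x)⁻¹) := by rw [e1]; group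
          _ = π x * π a' * (π x)⁻¹ * y := by rw [e3]; group
    intro l hl
    have h := this hl
    rw [Subgroup.mem_comap, Subgroup.mem_centralizer_iff] at h
    exact (h y rfl).symm
  -- `π L ≤ Kb ⊔ Ab`
  have hL2 : L ≤ (Kb ⊔ Ab).comap π := by
    apply hLle
    · intro a' ha'
      exact (le_sup_right : Ab ≤ Kb ⊔ Ab) (hπA a' ha')
    · intro a' ha'
      rw [Subgroup.mem_comap]
      have e : π (x * a' * x⁻¹) = (π x * (π a' * (π x)⁻¹ * (π a')⁻¹)) * π a' := by
        rw [map_mul, map_mul, map_inv]; group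
      rw [e]
      refine mul_mem ((le_sup_left : Kb ≤ Kb ⊔ Ab) ?_) ((le_sup_right : Ab ≤ Kb ⊔ Ab) (hπA a' ha'))
      exact mul_mem hxK (hKn.conj_mem _ (inv_mem hxK) _)
  -- (3)
  have h3 : N ≤ Kb.comap π := by
    rw [hN, Cfsg.Agent.Helper47.map_pResidual_eq_closure, Subgroup.closure_le]
    rintro g ⟨hgL, hgco⟩
    have h1 : π g ∈ Kb ⊔ Ab := hL2 hgL
    have h2 : (orderOf (π g)).Coprime p :=
      Nat.Coprime.coprime_dvd_left (orderOf_map_dvd π g) hgco
    exact mem_of_coprime_of_mem_sup hAbp (normal_normalizer_top Kb Ab) h1 h2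
  -- (4)
  have h4 : ⁅N, A⁆ = N := by
    apply le_antisymm
    · rw [Subgroup.commutator_le]
      intro n hn a' ha'
      have e : ⁅n, a'⁆ = n * (a' * n⁻¹ * a'⁻¹) := by
        simp only [commutatorElement_def]; group
      rw [e]
      exact mul_mem hn (conj_mem_N (hAL ha') (inv_mem hn))
    · set R := ⁅N, A⁆ with hR
      have hLR : L ≤ R ⊔ A := by
        apply hLle
        · exact le_sup_right
        · intro a' ha'
          have e : x * a' * x⁻¹ = ⁅x, a'⁆ * a' := by
            simp only [commutatorElement_def]; group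
          rw [e]
          exact mul_mem ((le_sup_left : R ≤ R ⊔ A) (Subgroup.commutator_mem_commutator hxN ha'))
            ((le_sup_right : A ≤ R ⊔ A) ha')
      rw [hN, Cfsg.Agent.Helper47.map_pResidual_eq_closure, Subgroup.closure_le]
      rintro g ⟨hgL, hgco⟩
      exact mem_of_coprime_of_mem_sup hA (le_normalizer_commutator_right N A) (hLR hgL) hgco
  -- `P` facts
  have hPp : IsPGroup p P := by
    have h1 : IsPGroup p (pCore p L) := Cfsg.Agent.Helper54.isPGroup_pCore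
    exact h1.map _
  have hPpow : ∀ y ∈ P, ∃ k : ℕ, y ^ p ^ k = 1 := by
    intro y hy
    obtain ⟨k, hk⟩ := hPp ⟨y, hy⟩
    refine ⟨k, ?_⟩
    have := congrArg Subtype.val hk
    simpa using this
  -- the subgroup `Bs`
  set Bs : Subgroup M := A ⊓ Cb.comap π with hBs
  have hBsmem : ∀ g, g ∈ Bs ↔ g ∈ A ∧ π x * π g = π g * π x := by
    intro g
    rw [hBs, Subgroup.mem_inf, Subgroup.mem_comap, hCbmem]
    constructor
    · rintro ⟨h1, _, h2⟩; exact ⟨h1, h2⟩
    · rintro ⟨h1, h2⟩; exact ⟨h1, hπA g h1, h2⟩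
  have hAP : A ⊓ P = Bs := by
    apply le_antisymm
    · intro g hg
      obtain ⟨hgA, hgP⟩ := Subgroup.mem_inf.mp hg
      rw [hBsmem]
      refine ⟨hgA, ?_⟩
      -- the commutator `⁅x, g⁆` lies in `P` and maps into `Kb`
      have hc1 : x * g * x⁻¹ * g⁻¹ ∈ P := mul_mem (conj_mem_P hxL hgP) (inv_mem hgP)
      obtain ⟨k, hk⟩ := hPpow _ hc1
      have hc2 : π (x * g * x⁻¹ * g⁻¹) ∈ Kb := by
        have e : π (x * g * x⁻¹ * g⁻¹) = π x * (π g * (π x)⁻¹ * (π g)⁻¹) := by
          simp only [map_mul, map_inv]; group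
        rw [e]
        exact mul_mem hxK (hKn.conj_mem _ (inv_mem hxK) _)
      have hc3 : π (x * g * x⁻¹ * g⁻¹) = 1 := by
        apply hKtriv _ hc2 k
        rw [← map_pow, hk, map_one]
      have e : π (x * g * x⁻¹ * g⁻¹) = π x * π g * (π x)⁻¹ * (π g)⁻¹ := by
        simp only [map_mul, map_inv]
      rw [e] at hc3
      have h5 := mul_inv_eq_one.mp hc3
      exact mul_inv_eq_iff_eq_mul.mp h5
    · intro g hg
      obtain ⟨hgA, hgx⟩ := (hBsmem g).mp hg
      refine Subgroup.mem_inf.mpr ⟨hgA, ?_⟩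
      -- `P₀ = L ⊓ Cb.comap π` is a normal `p`-subgroup of `L`
      set P₀ : Subgroup M := L ⊓ Cb.comap π with hP₀
      have hP₀p : IsPGroup p P₀ := by
        rw [Cfsg.Agent.Helper46.isPGroup_subgroup_iff]
        intro y hy
        obtain ⟨_, hyC⟩ := Subgroup.mem_inf.mp hy
        rw [Subgroup.mem_comap, hCbmem] at hyC
        have h1 : (π y) ^ p = 1 := hpow _ hyC.1
        rw [← map_pow, hkerπ] at h1
        obtain ⟨k, hk⟩ := (Cfsg.Agent.Helper46.isPGroup_subgroup_iff.mp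
          (Cfsg.Agent.Helper54.isPGroup_pCore (p := p) (G := M))) _ h1
        refine ⟨k + 1, ?_⟩
        rw [pow_succ', pow_mul]
        exact hk
      have hP₀n : (P₀.subgroupOf L).Normal := by
        constructor
        intro n hn l
        rw [Subgroup.mem_subgroupOf] at hn ⊢
        obtain ⟨hnL, hnC⟩ := Subgroup.mem_inf.mp hn
        rw [Subgroup.mem_comap] at hnC
        refine Subgroup.mem_inf.mpr ⟨?_, ?_⟩
        · exact (l * n * l⁻¹).2
        · rw [Subgroup.mem_comap]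
          have h1 := hL1 _ hnC (l : M) l.2
          have e : π ((l * n * l⁻¹ : L) : M) = π (l : M) * π (n : M) * (π (l : M))⁻¹ := by
            simp only [Subgroup.coe_mul, Subgroup.coe_inv, map_mul, map_inv]
          rw [e, h1]
          have e2 : π (n : M) * π (l : M) * (π (l : M))⁻¹ = π (n : M) := by group
          rw [e2]
          exact hnC
      have hle : P₀.subgroupOf L ≤ pCore p L :=
        Cfsg.Agent.Helper54.le_pCore hP₀n
          (hP₀p.comap_of_injective L.subtype (Subgroup.subtype_injective L))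
      have hgL : g ∈ L := hAL hgA
      have hgP₀ : g ∈ P₀ := by
        refine Subgroup.mem_inf.mpr ⟨hgL, ?_⟩
        rw [Subgroup.mem_comap, hCbmem]
        exact ⟨hπA g hgA, hgx⟩
      exact ⟨⟨g, hgL⟩, hle (Subgroup.mem_subgroupOf.mpr hgP₀), rfl⟩
  refine ⟨h3, h4, ?_, ?_⟩
  · -- (5)
    rw [hAP]
    have haAb : π a ∈ Ab := hπA a ha
    apply relIndex_eq_prime (a := a) inf_le_left
    · intro g hg b hb
      obtain ⟨hbA, hbx⟩ := (hBsmem b).mp hb
      rw [hBsmem]
      refine ⟨mul_mem (mul_mem hg hbA) (inv_mem hg), ?_⟩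
      have e : π (g * b * g⁻¹) = π b := by
        rw [map_mul, map_mul, map_inv, hcomm _ (hπA g hg) _ (hπA b hbA)]
        group
      rw [e]; exact hbx
    · exact ha
    · intro h
      exact hxa ((hBsmem a).mp h).2
    · rw [hBsmem]
      refine ⟨pow_mem ha p, ?_⟩
      rw [map_pow, hpow _ haAb, mul_one, one_mul]
    · intro g hg
      have hg' : π g ∈ Bb ⊔ zpowers (π a) := by rw [hgen]; exact hπA g hg
      obtain ⟨bq, hbq, i, hi⟩ := mem_sup_zpowers_of_comm Bb (π a)
        (fun h hh => hcomm _ haAb _ (hBb hh)) hg'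
      refine ⟨g * a ^ (-i), ?_, i, by group⟩
      rw [hBsmem]
      refine ⟨mul_mem hg (zpow_mem ha _), ?_⟩
      have e : π (g * a ^ (-i)) = bq := by
        rw [map_mul, map_zpow, hi]; group
      rw [e]
      exact hxB bq hbq
  · -- (6)
    rw [hAP, Subgroup.commutator_le]
    intro b hb l hl
    obtain ⟨hbA, hbx⟩ := (hBsmem b).mp hb
    rw [← hkerπ, map_commutatorElement, commutatorElement_eq_one_iff_mul_comm]
    have hbC : π b ∈ Cb := (hCbmem _).mpr ⟨hπA b hbA, hbx⟩
    exact (hL1 _ hbC l hl).symm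


theorem exists_good (hM : Cfsg.IsPSolvable p M) (A : Subgroup M) (hA : IsPGroup p A)
    (hΦ : (frattini ↥A).map A.subtype ≤ pCore p M) (hnot : ¬ A ≤ pCore p M) :
    ∃ (Bb : Subgroup (M ⧸ pCore p M)) (a x : M),
      Bb ≤ A.map (QuotientGroup.mk' (pCore p M)) ∧ a ∈ A ∧
      Bb ⊔ zpowers (QuotientGroup.mk' (pCore p M) a) = A.map (QuotientGroup.mk' (pCore p M)) ∧
      QuotientGroup.mk' (pCore p M) x ∈ pPrimeCore p (M ⧸ pCore p M) ∧
      (∀ b ∈ Bb, QuotientGroup.mk' (pCore p M) x * b = b * QuotientGroup.mk' (pCore p M) x) ∧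
      QuotientGroup.mk' (pCore p M) x * QuotientGroup.mk' (pCore p M) a ≠
        QuotientGroup.mk' (pCore p M) a * QuotientGroup.mk' (pCore p M) x := by
  have hp : p.Prime := Fact.out
  set O := pCore p M with hO
  set π := QuotientGroup.mk' O with hπ
  set Kb := pPrimeCore p (M ⧸ O) with hKb
  set Ab := A.map π with hAb
  have hcomm := map_comm A hA hΦ
  have hAbp : IsPGroup p Ab := hA.map π
  have hKn : Kb.Normal := inferInstance
  have hKc : (Nat.card Kb).Coprime p := Cfsg.Agent.Helper54.pPrimeCore_coprime p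
  have hQsolv : Cfsg.IsPSolvable p (M ⧸ O) := Cfsg.Agent.Helper54.IsPSolvable.quotient hM O
  have hOp : IsPGroup p O := Cfsg.Agent.Helper54.isPGroup_pCore
  have hQcore : pCore p (M ⧸ O) = ⊥ := by
    apply Cfsg.Agent.Helper46.pCore_quotient_eq_bot_of
    intro D hD hpow
    apply Cfsg.Agent.Helper54.le_pCore hD
    rw [Cfsg.Agent.Helper46.isPGroup_subgroup_iff]
    intro d hd
    obtain ⟨k, hk⟩ := hpow d hd
    obtain ⟨j, hj⟩ := (Cfsg.Agent.Helper46.isPGroup_subgroup_iff.mp hOp) _ hk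
    refine ⟨k + j, ?_⟩
    rw [pow_add, pow_mul]; exact hj
  have hHH := centralizer_pPrimeCore_le hQsolv hQcore
  have hAab : IsMulCommutative Ab :=
    ⟨⟨fun u v => Subtype.ext (hcomm u u.2 v v.2)⟩⟩
  have hcop : (Nat.card Ab).Coprime (Nat.card Kb) := by
    obtain ⟨k, hk⟩ := IsPGroup.iff_card.mp hAbp
    rw [hk]
    exact Nat.Coprime.pow_left k hKc.symm
  obtain ⟨-, h2⟩ := Cfsg.Agent.S3734.result Ab Kb hAab (normal_normalizer_top Kb Ab) hcop
  have hne : ⁅Kb, Ab⁆ ≠ ⊥ := by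
    intro h
    rw [Subgroup.commutator_comm, Subgroup.commutator_eq_bot_iff_le_centralizer] at h
    have h1 : Ab ≤ Kb := h.trans hHH
    apply hnot
    intro g hg
    have h3 : π g ∈ Kb := h1 ⟨g, hg, rfl⟩
    obtain ⟨k, hk⟩ := hA ⟨g, hg⟩
    have hk' : g ^ p ^ k = 1 := by
      have := congrArg Subtype.val hk
      simpa using this
    have h4 : π g = 1 := by
      have ho1 : orderOf (π g) ∣ p ^ k := by
        apply orderOf_dvd_of_pow_eq_one
        rw [← map_pow, hk', map_one]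
      have ho2 : orderOf (π g) ∣ Nat.card Kb := by
        have : orderOf (⟨π g, h3⟩ : Kb) ∣ Nat.card Kb := orderOf_dvd_natCard _
        rwa [Subgroup.orderOf_mk] at this
      have : orderOf (π g) ∣ Nat.gcd (p ^ k) (Nat.card Kb) := Nat.dvd_gcd ho1 ho2
      rw [(Nat.Coprime.pow_left k hKc.symm)] at this
      exact orderOf_eq_one_iff.mp (Nat.dvd_one.mp this)
    rw [← MonoidHom.mem_ker, QuotientGroup.ker_mk'] at h4
    exact h4
  have hex : ∃ B ∈ {B : Subgroup (M ⧸ O) | B ≤ Ab ∧ ∃ a ∈ Ab, B ⊔ Subgroup.zpowers a = Ab},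
      ⁅Kb ⊓ Subgroup.centralizer (B : Set (M ⧸ O)), Ab⁆ ≠ ⊥ := by
    by_contra h
    push Not at h
    apply hne
    rw [← h2]
    simp only [iSup_eq_bot]
    exact h
  obtain ⟨B, ⟨hBA, ab, hab, hBgen⟩, hBne⟩ := hex
  obtain ⟨a, ha, rfl⟩ := hab
  -- `π a` does not centralize `Kb ⊓ C(B)`
  have h5 : ¬ Ab ≤ centralizer ((Kb ⊓ centralizer (B : Set (M ⧸ O)) : Subgroup (M ⧸ O)) : Set (M ⧸ O)) := by
    intro h
    apply hBne
    rw [Subgroup.commutator_comm, Subgroup.commutator_eq_bot_iff_le_centralizer]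
    exact h
  have h6 : π a ∉ centralizer ((Kb ⊓ centralizer (B : Set (M ⧸ O)) : Subgroup (M ⧸ O)) : Set (M ⧸ O)) := by
    intro h
    apply h5
    rw [← hBgen]
    refine sup_le ?_ ?_
    · intro b hb
      rw [Subgroup.mem_centralizer_iff]
      intro k hk
      have hk2 : k ∈ centralizer (B : Set (M ⧸ O)) := (Subgroup.mem_inf.mp hk).2
      rw [Subgroup.mem_centralizer_iff] at hk2
      exact (hk2 b hb).symm
    · rw [Subgroup.zpowers_le]
      exact h
  rw [Subgroup.mem_centralizer_iff] at h6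
  push Not at h6
  obtain ⟨k, hk, hka⟩ := h6
  obtain ⟨x, rfl⟩ := QuotientGroup.mk'_surjective O k
  obtain ⟨hkK, hkB⟩ := Subgroup.mem_inf.mp hk
  rw [Subgroup.mem_centralizer_iff] at hkB
  refine ⟨B, a, x, hBA, ha, hBgen, hkK, ?_, hka⟩
  intro b hb
  exact (hkB b hb).symm

theorem improve (A : Subgroup M) (hA : IsPGroup p A)
    (hΦ : (frattini ↥A).map A.subtype ≤ pCore p M)
    (Bb : Subgroup (M ⧸ pCore p M)) (hBb : Bb ≤ A.map (QuotientGroup.mk' (pCore p M)))
    (a : M) (ha : a ∈ A)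
    (x : M) (hxK : QuotientGroup.mk' (pCore p M) x ∈ pPrimeCore p (M ⧸ pCore p M))
    (hxB : ∀ b ∈ Bb, QuotientGroup.mk' (pCore p M) x * b = b * QuotientGroup.mk' (pCore p M) x)
    (hxa : QuotientGroup.mk' (pCore p M) x * QuotientGroup.mk' (pCore p M) a ≠
      QuotientGroup.mk' (pCore p M) a * QuotientGroup.mk' (pCore p M) x) :
    ∃ x' : M, QuotientGroup.mk' (pCore p M) x' ∈ pPrimeCore p (M ⧸ pCore p M) ∧
      (∀ b ∈ Bb, QuotientGroup.mk' (pCore p M) x' * b = b * QuotientGroup.mk' (pCore p M) x') ∧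
      QuotientGroup.mk' (pCore p M) x' * QuotientGroup.mk' (pCore p M) a ≠
        QuotientGroup.mk' (pCore p M) a * QuotientGroup.mk' (pCore p M) x' ∧
      x' ∈ (pResidual p ↥(A ⊔ A.map (MulAut.conj x).toMonoidHom)).map
        (A ⊔ A.map (MulAut.conj x).toMonoidHom).subtype := by
  have hp : p.Prime := Fact.out
  set O := pCore p M with hO
  set π := QuotientGroup.mk' O with hπ
  set Kb := pPrimeCore p (M ⧸ O) with hKb
  set Ab := A.map π with hAb
  set L := A ⊔ A.map (MulAut.conj x).toMonoidHom with hL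
  have hcomm := map_comm A hA hΦ
  have hpow := map_pow_p A hA hΦ
  have hKn : Kb.Normal := inferInstance
  have hKc : (Nat.card Kb).Coprime p := Cfsg.Agent.Helper54.pPrimeCore_coprime p
  have haAb : π a ∈ Ab := ⟨a, ha, rfl⟩
  set c := x * a * x⁻¹ * a⁻¹ with hc
  have hcL : c ∈ L := by
    refine mul_mem ((le_sup_right : A.map (MulAut.conj x).toMonoidHom ≤ L) ⟨a, ha, by simp⟩)
      ((le_sup_left : A ≤ L) (inv_mem ha))
  have hπc : π c = π x * (π a * (π x)⁻¹ * (π a)⁻¹) := by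
    rw [hc]; simp only [map_mul, map_inv]; group
  have hcK : π c ∈ Kb := by
    rw [hπc]
    exact mul_mem hxK (hKn.conj_mem _ (inv_mem hxK) _)
  have hco : (orderOf (π c)).Coprime p := by
    have : orderOf (⟨π c, hcK⟩ : Kb) ∣ Nat.card Kb := orderOf_dvd_natCard _
    rw [Subgroup.orderOf_mk] at this
    exact Nat.Coprime.coprime_dvd_left this hKc
  obtain ⟨k, hk1, hk2⟩ := Cfsg.Agent.Helper30.exists_pow_lift_coprime (p := p) π c hco
  refine ⟨c ^ k, ?_, ?_, ?_, ?_⟩
  · rw [hk1]; exact hcK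
  · intro b hb
    rw [hk1, hπc]
    have e1 : π x * b = b * π x := hxB b hb
    have e2 : π a * b = b * π a := hcomm _ haAb _ (hBb hb)
    have e3 : (π x)⁻¹ * b = b * (π x)⁻¹ := (Commute.inv_left (show Commute (π x) b from e1)).eq
    have e4 : (π a)⁻¹ * b = b * (π a)⁻¹ := (Commute.inv_left (show Commute (π a) b from e2)).eq
    calc π x * (π a * (π x)⁻¹ * (π a)⁻¹) * b
        = π x * (π a * (π x)⁻¹ * ((π a)⁻¹ * b)) := by group
      _ = π x * (π a * ((π x)⁻¹ * b) * (π a)⁻¹) := by rw [e4]; group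
      _ = π x * ((π a * b) * (π x)⁻¹ * (π a)⁻¹) := by rw [e3]; group
      _ = (π x * b) * (π a * (π x)⁻¹ * (π a)⁻¹) := by rw [e2]; group
      _ = b * (π x * (π a * (π x)⁻¹ * (π a)⁻¹)) := by rw [e1]; group
  · rw [hk1]
    intro hcm
    -- `π c` commutes with `π a`, so `(π c)^p = 1`
    have h1 : π c * π a = π x * π a * (π x)⁻¹ := by rw [hπc]; group
    have h2 : (π c * π a) ^ p = 1 := by
      rw [h1, conj_pow, hpow _ haAb, mul_one, mul_inv_cancel]
    have h3 : (π c) ^ p = 1 := by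
      have := (show Commute (π c) (π a) from hcm).mul_pow p
      rw [h2, hpow _ haAb, mul_one] at this
      exact this.symm
    have h4 : π c = 1 := by
      have ho1 : orderOf (π c) ∣ p := orderOf_dvd_of_pow_eq_one h3
      have : orderOf (π c) ∣ Nat.gcd p (orderOf (π c)) := Nat.dvd_gcd ho1 dvd_rfl
      rw [Nat.Coprime.gcd_eq_one hco.symm] at this
      exact orderOf_eq_one_iff.mp (Nat.dvd_one.mp this)
    rw [h4, one_mul] at h1
    exact hxa (eq_mul_inv_iff_mul_eq.mp h1).symm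
  · rw [Cfsg.Agent.Helper47.map_pResidual_eq_closure]
    exact Subgroup.subset_closure ⟨pow_mem hcL k, hk2⟩

end main

/-- Let M be a finite p-soluble group and A a p-subgroup of M with Φ(A) ≤ O_p(M) but A ≰ O_p(M). Then there is x ∈ O_{p,p'}(M) such that L = ⟨A, xAx⁻¹⟩ satisfies: x ∈ O^p(L) and O^p(L) ≤ O_{p,p'}(M); [O^p(L), A] = O^p(L); A ∩ O_p(L) has index p in A; and [A ∩ O_p(L), L] ≤ O_p(M). Here O^p(L) is the subgroup generated by the p'-elements of L and O_{p,p'}(M) the preimage of O_{p'}(M/O_p(M)). -/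
theorem result {M : Type*} [Group M] [Finite M] {p : ℕ} [Fact p.Prime] (hM : Cfsg.IsPSolvable p M) (A : Subgroup M) (hA : IsPGroup p A) (hΦ : (frattini ↥A).map A.subtype ≤ Cfsg.pCore p M) (hnot : ¬ A ≤ Cfsg.pCore p M) : ∃ x ∈ (Cfsg.pPrimeCore p (M ⧸ Cfsg.pCore p M)).comap (QuotientGroup.mk' (Cfsg.pCore p M)), x ∈ (Cfsg.pResidual p ↥(A ⊔ A.map (MulAut.conj x).toMonoidHom)).map (A ⊔ A.map (MulAut.conj x).toMonoidHom).subtype ∧ (Cfsg.pResidual p ↥(A ⊔ A.map (MulAut.conj x).toMonoidHom)).map (A ⊔ A.map (MulAut.conj x).toMonoidHom).subtype ≤ (Cfsg.pPrimeCore p (M ⧸ Cfsg.pCore p M)).comap (QuotientGroup.mk' (Cfsg.pCore p M)) ∧ ⁅(Cfsg.pResidual p ↥(A ⊔ A.map (MulAut.conj x).toMonoidHom)).map (A ⊔ A.map (MulAut.conj x).toMonoidHom).subtype, A⁆ = (Cfsg.pResidual p ↥(A ⊔ A.map (MulAut.conj x).toMonoidHom)).map (A ⊔ A.map (MulAut.conj x).toMonoidHom).subtype ∧ (A ⊓ (Cfsg.pCore p ↥(A ⊔ A.map (MulAut.conj x).toMonoidHom)).map (A ⊔ A.map (MulAut.conj x).toMonoidHom).subtype).relIndex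 A = p ∧ ⁅A ⊓ (Cfsg.pCore p ↥(A ⊔ A.map (MulAut.conj x).toMonoidHom)).map (A ⊔ A.map (MulAut.conj x).toMonoidHom).subtype, A ⊔ A.map (MulAut.conj x).toMonoidHom⁆ ≤ Cfsg.pCore p M := by
  classical
  obtain ⟨Bb, a, x₀, hBb, ha, hgen, hx₀K, hx₀B, hx₀a⟩ := exists_good hM A hA hΦ hnot
  -- minimal choice of `x`
  have hex : ∃ n : ℕ, ∃ x : M, QuotientGroup.mk' (pCore p M) x ∈ pPrimeCore p (M ⧸ pCore p M) ∧
      (∀ b ∈ Bb, QuotientGroup.mk' (pCore p M) x * b = b * QuotientGroup.mk' (pCore p M) x) ∧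
      QuotientGroup.mk' (pCore p M) x * QuotientGroup.mk' (pCore p M) a ≠
        QuotientGroup.mk' (pCore p M) a * QuotientGroup.mk' (pCore p M) x ∧
      Nat.card ↥(A ⊔ A.map (MulAut.conj x).toMonoidHom) = n :=
    ⟨_, x₀, hx₀K, hx₀B, hx₀a, rfl⟩
  obtain ⟨x, hxK, hxB, hxa, hxn⟩ := Nat.find_spec hex
  obtain ⟨x', hx'K, hx'B, hx'a, hx'N⟩ := improve A hA hΦ Bb hBb a ha x hxK hxB hxa
  have hx'L : x' ∈ A ⊔ A.map (MulAut.conj x).toMonoidHom :=
    Cfsg.Agent.Helper47.map_pResidual_le _ hx'N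
  have hle : A ⊔ A.map (MulAut.conj x').toMonoidHom ≤ A ⊔ A.map (MulAut.conj x).toMonoidHom := by
    refine sup_le le_sup_left ?_
    rintro _ ⟨a', ha', rfl⟩
    have ha'L : a' ∈ A ⊔ A.map (MulAut.conj x).toMonoidHom := (le_sup_left : A ≤ _) ha'
    have : (MulAut.conj x').toMonoidHom a' = x' * a' * x'⁻¹ := by simp
    rw [this]
    exact mul_mem (mul_mem hx'L ha'L) (inv_mem hx'L)
  have hmin : Nat.find hex ≤ Nat.card ↥(A ⊔ A.map (MulAut.conj x').toMonoidHom) :=
    Nat.find_min' hex ⟨x', hx'K, hx'B, hx'a, rfl⟩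
  have heq : A ⊔ A.map (MulAut.conj x').toMonoidHom = A ⊔ A.map (MulAut.conj x).toMonoidHom := by
    apply Subgroup.eq_of_le_of_card_ge hle
    rw [hxn]; exact hmin
  have key : ∀ L' : Subgroup M, L' = A ⊔ A.map (MulAut.conj x).toMonoidHom →
      x' ∈ (pResidual p ↥L').map L'.subtype := by
    rintro _ rfl; exact hx'N
  have hx'N' := key _ heq
  obtain ⟨h3, h4, h5, h6⟩ := concl A hA hΦ Bb hBb a ha hgen x' hx'K hx'B hx'a
    (A ⊔ A.map (MulAut.conj x').toMonoidHom) rfl hx'N'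
  exact ⟨x', hx'K, hx'N', h3, h4, h5, h6⟩

end Cfsg.Agent.S3754
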