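import Cfsg.Statements.S3012
import Cfsg.Agent.Lib.Helper50.Sidki
import Mathlib.Data.Nat.Factorization.Basic

set_option autoImplicit false
open Cfsg

namespace Cfsg.Agent.S3012

/-- Let G be a finite group, V a nontrivial elementary abelian 2-subgroup of G satisfying the Sidki pair condition (every odd-order element inverted by an element of V commutes with a nontrivial element of V), and K a normal subgroup of G with V ∩ K = 1. Then the image of V in G/K satisfies the Sidki pair condition in G/K. -/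
theorem result {G : Type*} [Group G] [Finite G] (V K : Subgroup G) [K.Normal] (hV : Cfsg.IsElementaryAbelian 2 V) (hV1 : V ≠ ⊥) (hS : Cfsg.IsSidkiPair V) (hVK : V ⊓ K = ⊥) : Cfsg.IsSidkiPair (V.map (QuotientGroup.mk' K)) := by
  intro hbar vbar hvbar hodd hinv
  obtain ⟨v, hv, rfl⟩ := hvbar
  obtain ⟨h, rfl⟩ := QuotientGroup.mk'_surjective K hbar
  have hv2 : v * v = 1 := by have := hV.2 v hv; rwa [pow_two] at this
  have hvinv : v⁻¹ = v := by
    rw [inv_eq_iff_mul_eq_one]; exact hv2
  set y := v * h⁻¹ * v * h with hy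
  have hyinv : v * y * v⁻¹ = y⁻¹ := by
    rw [hvinv, hy]
    have e1 : (v * h⁻¹ * v * h)⁻¹ = h⁻¹ * v⁻¹ * h * v⁻¹ := by group
    rw [e1, hvinv]
    calc v * (v * h⁻¹ * v * h) * v = (v * v) * h⁻¹ * v * h * v := by group
      _ = h⁻¹ * v * h * v := by rw [hv2, one_mul]
  have hmky : (QuotientGroup.mk' K) y = (QuotientGroup.mk' K h) ^ 2 := by
    have e2 : (QuotientGroup.mk' K) y =
        ((QuotientGroup.mk' K) v * (QuotientGroup.mk' K) h * ((QuotientGroup.mk' K) v)⁻¹)⁻¹ *
          (QuotientGroup.mk' K) h := by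
      have hvbar : ((QuotientGroup.mk' K) v)⁻¹ = (QuotientGroup.mk' K) v := by
        rw [← map_inv, hvinv]
      rw [hy]
      simp only [map_mul, map_inv]
      rw [hvbar]
      have : ((QuotientGroup.mk' K) v * (QuotientGroup.mk' K) h * (QuotientGroup.mk' K) v)⁻¹ =
          ((QuotientGroup.mk' K) v)⁻¹ * ((QuotientGroup.mk' K) h)⁻¹ * ((QuotientGroup.mk' K) v)⁻¹ := by
        group
      rw [this, hvbar]
    rw [e2, hinv, inv_inv, pow_two]
  -- odd part
  have hn0 : orderOf y ≠ 0 := (orderOf_pos y).ne'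
  obtain ⟨a, m, hm, hn⟩ := Nat.exists_eq_two_pow_mul_odd hn0
  set y' := y ^ (2 ^ a) with hy'
  have hy'odd : Odd (orderOf y') := by
    apply Odd.of_dvd_nat hm
    apply orderOf_dvd_of_pow_eq_one
    rw [hy', ← pow_mul, ← hn, pow_orderOf_eq_one]
  have hy'inv : v * y' * v⁻¹ = y'⁻¹ := by
    rw [hy', ← inv_pow, ← hyinv]
    exact (conj_pow (a := v) (b := y) (i := 2 ^ a)).symm
  obtain ⟨w, hwV, hw1, hwy⟩ := hS y' v hv hy'odd hy'inv
  refine ⟨(QuotientGroup.mk' K) w, ⟨w, hwV, rfl⟩, ?_, ?_⟩
  · intro h1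
    have hwK : w ∈ K := by
      have := (QuotientGroup.eq_one_iff (N := K) w).mp h1
      exact this
    have : w ∈ V ⊓ K := ⟨hwV, hwK⟩
    rw [hVK, Subgroup.mem_bot] at this
    exact hw1 this
  · have hc : Commute ((QuotientGroup.mk' K) w) ((QuotientGroup.mk' K) y') := by
      have := congrArg (QuotientGroup.mk' K) hwy
      simp only [map_mul] at this
      exact this
    have hmky' : (QuotientGroup.mk' K) y' = (QuotientGroup.mk' K h) ^ (2 ^ (a + 1)) := by
      rw [hy', map_pow, hmky, ← pow_mul, pow_succ, mul_comm]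
    rw [hmky'] at hc
    have hcop : (2 ^ (a + 1)).Coprime (orderOf ((QuotientGroup.mk' K) h)) := by
      apply Nat.Coprime.pow_left
      exact (Nat.coprime_two_left.mpr hodd)
    obtain ⟨j, hj⟩ := exists_pow_eq_self_of_coprime hcop
    have := hc.pow_right j
    rw [hj] at this
    exact this.eq

end Cfsg.Agent.S3012
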