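-- Statement S3765: prime order action on a q-group has module fixed points (coprime Hall–Higman type).
import Cfsg.Statements.S3765
import Cfsg.Agent.Lib.Helper48.SympRep2Group

set_option autoImplicit false
open Cfsg

namespace Cfsg.Agent.S3765

open Subgroup Cfsg.Agent.Helper48.SympRep
open scoped commutatorElement

/-- arithmetic end game -/
lemma arith {q r n : ℕ} (hq : q.Prime) (hr : r.Prime) (hqr : q ≠ r) (hn : 1 ≤ n)
    (h1 : q ^ (2 * n + 1) ≤ q * (r - 1) ^ 2) (h2 : q ^ (2 * n + 1) ≡ q [MOD r]) :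
    q = 2 ∧ r = 2 ^ n + 1 := by
  have hq2 : 2 ≤ q := hq.two_le
  have hr2 : 2 ≤ r := hr.two_le
  have h3 : (q ^ n) ^ 2 ≤ (r - 1) ^ 2 := by
    have : q ^ (2 * n + 1) = q * (q ^ n) ^ 2 := by ring
    rw [this] at h1
    exact Nat.le_of_mul_le_mul_left h1 hq.pos
  have h4 : q ^ n ≤ r - 1 := (Nat.pow_le_pow_iff_left (by norm_num)).mp h3
  have hqn : 2 ≤ q ^ n := by
    calc 2 ≤ q := hq2
      _ = q ^ 1 := (pow_one q).symm
      _ ≤ q ^ n := Nat.pow_le_pow_right hq.pos hn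
  have h5 : r ∣ q ^ (2 * n + 1) - q := (Nat.modEq_iff_dvd' (by
    calc q = q ^ 1 := (pow_one q).symm
      _ ≤ q ^ (2 * n + 1) := Nat.pow_le_pow_right hq.pos (by omega))).mp h2.symm
  have h6 : q ^ (2 * n + 1) - q = q * ((q ^ n - 1) * (q ^ n + 1)) := by
    have h7 : (q ^ n - 1) * (q ^ n + 1) = (q ^ n) ^ 2 - 1 := by
      obtain ⟨m, hm⟩ : ∃ m, q ^ n = m + 1 := ⟨q ^ n - 1, by omega⟩
      rw [hm]
      simp only [Nat.add_sub_cancel]
      have : (m + 1) ^ 2 = m * (m + 1 + 1) + 1 := by ring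
      rw [this, Nat.add_sub_cancel]
    rw [h7, Nat.mul_sub, mul_one]
    congr 1
    ring
  rw [h6] at h5
  have h8 : r ∣ (q ^ n - 1) * (q ^ n + 1) := by
    rcases (Nat.Prime.dvd_mul hr).mp h5 with h | h
    · exact absurd ((Nat.prime_dvd_prime_iff_eq hr hq).mp h).symm hqr
    · exact h
  have h9 : r ∣ q ^ n + 1 := by
    rcases (Nat.Prime.dvd_mul hr).mp h8 with h | h
    · exfalso
      have := Nat.le_of_dvd (by omega) h
      omega
    · exact h
  have h10 : r = q ^ n + 1 := by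
    have := Nat.le_of_dvd (by omega) h9
    omega
  have hq2' : q = 2 := by
    by_contra hne
    have hqodd : Odd q := hq.odd_of_ne_two hne
    have : Odd (q ^ n) := hqodd.pow
    have hreven : Even r := by
      rw [h10]
      exact this.add_one
    have : r = 2 := (Nat.Prime.even_iff hr).mp hreven
    omega
  exact ⟨hq2', by rw [h10, hq2']⟩

/-- the commutator subgroup of a nontrivial finite `q`-subgroup is proper -/
lemma commutator_lt {G : Type*} [Group G] {q : ℕ} [Fact q.Prime] (H : Subgroup G) [Finite H]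
    (hH : IsPGroup q H) (hne : H ≠ ⊥) : ⁅H, H⁆ < H := by
  have : Group.IsNilpotent H := hH.isNilpotent
  have : Nontrivial H := (Subgroup.nontrivial_iff_ne_bot H).mpr hne
  have h := Group.IsSolvable.commutator_lt_top_of_nontrivial H
  rw [← H.range_subtype, MonoidHom.range_eq_map, ← Subgroup.map_commutator,
    Subgroup.map_subtype_lt_map_subtype]
  exact h


/-- the main argument, for a generator `x` of `X` -/
theorem key {G : Type*} [Group G] [Finite G] {p q r : ℕ} (hp : p.Prime) (hq : q.Prime)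
    (hr : r.Prime) (hpq : p ≠ q) (hpr : p ≠ r) (hqr : q ≠ r) (x : G) (Q V : Subgroup G)
    (hxr : x ^ r = 1) (hQ : IsPGroup q Q) (hxQ : ∀ u ∈ Q, x * u * x⁻¹ ∈ Q)
    (hxnc : ∃ u ∈ Q, x * u ≠ u * x)
    (hV : Cfsg.IsElementaryAbelian p V) (hxV : x ∈ normalizer (V : Set G))
    (hQV : Q ≤ normalizer (V : Set G))
    (hfaith : Q ⊓ centralizer (V : Set G) = ⊥)
    (hexc : q = 2 → (∃ n : ℕ, r = 2 ^ n + 1) → ∀ u ∈ Q, ∀ w ∈ Q, u * w = w * u)
    (hxfix : V ⊓ centralizer ({x} : Set G) = ⊥) : False := by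
  classical
  have : Fact p.Prime := ⟨hp⟩
  have : Fact q.Prime := ⟨hq⟩
  have : Fact r.Prime := ⟨hr⟩
  -- minimal x-invariant subgroup not centralised by x
  let P : Subgroup G → Prop := fun Y =>
    Y ≤ Q ∧ (∀ u ∈ Y, x * u * x⁻¹ ∈ Y) ∧ ∃ u ∈ Y, x * u ≠ u * x
  have hex : ∃ n, ∃ Y, P Y ∧ Nat.card Y = n := ⟨_, Q, ⟨le_rfl, hxQ, hxnc⟩, rfl⟩
  obtain ⟨Q₁, ⟨hQ₁Q, hxQ₁, hQ₁nc⟩, hQ₁n⟩ := Nat.find_spec hex
  have hminP : ∀ Y, P Y → Y ≤ Q₁ → Y = Q₁ := by
    intro Y hY hle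
    have h1 : Nat.find hex ≤ Nat.card Y := Nat.find_min' hex ⟨Y, hY, rfl⟩
    exact Subgroup.eq_of_le_of_card_ge hle (by rw [hQ₁n]; exact h1)
  set U : Subgroup G := Q₁ ⊓ centralizer ({x} : Set G) with hU
  have hUmem : ∀ u, u ∈ U ↔ u ∈ Q₁ ∧ u * x = x * u := by
    intro u
    rw [hU, Subgroup.mem_inf, Subgroup.mem_centralizer_singleton_iff]
  have hUQ₁ : U ≤ Q₁ := inf_le_left
  have hUx : ∀ c ∈ U, x * c = c * x := fun c hc => ((hUmem c).mp hc).2.symm
  have hmin : ∀ Y : Subgroup G, Y ≤ Q₁ → (∀ u ∈ Y, x * u * x⁻¹ ∈ Y) → Y ≠ Q₁ → Y ≤ U := by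
    intro Y hYQ hYx hYne
    by_contra hnot
    obtain ⟨u, huY, huU⟩ := SetLike.not_le_iff_exists.mp hnot
    apply hYne
    apply hminP Y ⟨hYQ.trans hQ₁Q, hYx, u, huY, ?_⟩ hYQ
    intro hxu
    apply huU
    rw [hUmem]
    exact ⟨hYQ huY, hxu.symm⟩
  have hQ₁q : IsPGroup q Q₁ := hQ.to_le hQ₁Q
  -- (F2)
  have hfpf : ∀ u ∈ Q₁, x * u * x⁻¹ * u⁻¹ ∈ U → u ∈ U := by
    intro u hu hmem
    obtain ⟨c, hc⟩ : ∃ c, c = x * u * x⁻¹ * u⁻¹ := ⟨_, rfl⟩
    rw [← hc] at hmem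
    obtain ⟨hcQ, hcx⟩ := (hUmem c).mp hmem
    have hconj : x * u * x⁻¹ = c * u := by rw [hc]; group
    have hxck : ∀ j : ℕ, x * c ^ j = c ^ j * x := by
      intro j
      induction j with
      | zero => simp
      | succ j ih => rw [pow_succ, ← mul_assoc, ih, mul_assoc, ← hcx, ← mul_assoc]
    have hiter : ∀ i : ℕ, x ^ i * u * (x ^ i)⁻¹ = c ^ i * u := by
      intro i
      induction i with
      | zero => simp
      | succ i ih =>
        have e1 : x ^ (i + 1) * u * (x ^ (i + 1))⁻¹ = x * (x ^ i * u * (x ^ i)⁻¹) * x⁻¹ := by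
          rw [pow_succ']; group
        rw [e1, ih]
        have e2 : x * (c ^ i * u) * x⁻¹ = (x * c ^ i) * x⁻¹ * (x * u * x⁻¹) := by group
        rw [e2, hxck, hconj, pow_succ]
        group
    have h1 := hiter r
    rw [hxr] at h1
    have h2 : c ^ r = 1 := by
      have : (1 : G) * u * (1 : G)⁻¹ = u := by group
      rw [this] at h1
      exact (mul_eq_right (a := c ^ r) (b := u)).mp h1.symm
    obtain ⟨k, hk⟩ := hQ₁q ⟨c, hcQ⟩
    have hk' : c ^ (q ^ k) = 1 := by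
      have := congrArg Subtype.val hk
      simpa using this
    have hc1 : c = 1 := by
      have hd1 : orderOf c ∣ r := orderOf_dvd_of_pow_eq_one h2
      have hd2 : orderOf c ∣ q ^ k := orderOf_dvd_of_pow_eq_one hk'
      have hcop : Nat.Coprime r (q ^ k) :=
        Nat.Coprime.pow_right k ((Nat.coprime_primes hr hq).mpr hqr.symm)
      have h3 : orderOf c ∣ Nat.gcd r (q ^ k) := Nat.dvd_gcd hd1 hd2
      rw [Nat.Coprime.gcd_eq_one hcop] at h3
      exact orderOf_eq_one_iff.mp (Nat.dvd_one.mp h3)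
    rw [hc1, one_mul] at hconj
    rw [hUmem]
    refine ⟨hu, ?_⟩
    calc u * x = (x * u * x⁻¹) * x := by rw [hconj]
      _ = x * u := by group
  -- (F3)
  have hQ₁ne : Q₁ ≠ ⊥ := by
    intro h
    obtain ⟨u, hu, hne⟩ := hQ₁nc
    rw [h, Subgroup.mem_bot] at hu
    apply hne
    rw [hu]
    simp
  have hcomm : ∀ u ∈ Q₁, ∀ w ∈ Q₁, u * w * u⁻¹ * w⁻¹ ∈ U := by
    have hD := commutator_lt Q₁ hQ₁q hQ₁ne
    have hDU : ⁅Q₁, Q₁⁆ ≤ U := by
      apply hmin _ hD.le _ hD.ne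
      have hle : ⁅Q₁, Q₁⁆ ≤ (⁅Q₁, Q₁⁆).comap (MulAut.conj x).toMonoidHom := by
        rw [Subgroup.commutator_le]
        intro g₁ h₁ g₂ h₂
        rw [Subgroup.mem_comap]
        have e1 : (MulAut.conj x).toMonoidHom ⁅g₁, g₂⁆ = ⁅x * g₁ * x⁻¹, x * g₂ * x⁻¹⁆ := by
          rw [commutatorElement_def, commutatorElement_def]
          simp only [MulEquiv.coe_toMonoidHom, MulAut.conj_apply]
          group
        rw [e1]
        exact Subgroup.commutator_mem_commutator (hxQ₁ _ h₁) (hxQ₁ _ h₂)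
      intro d hd
      have := hle hd
      simpa [MulAut.conj_apply] using this
    intro u hu w hw
    have := hDU (Subgroup.commutator_mem_commutator hu hw)
    rwa [commutatorElement_def] at this
  -- (F4)
  have hUnorm : ∀ c ∈ U, ∀ u ∈ Q₁, u * c * u⁻¹ ∈ U := by
    intro c hc u hu
    have h1 := hcomm u hu c (hUQ₁ hc)
    have : u * c * u⁻¹ = (u * c * u⁻¹ * c⁻¹) * c := by group
    rw [this]
    exact U.mul_mem h1 hc
  have hUZ : ∀ c ∈ U, ∀ u ∈ Q₁, u * c = c * u := by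
    let Y : Subgroup G := Q₁ ⊓ centralizer (U : Set G)
    have hYmem : ∀ y, y ∈ Y ↔ y ∈ Q₁ ∧ ∀ c ∈ U, c * y = y * c := by
      intro y
      show y ∈ Q₁ ⊓ centralizer (U : Set G) ↔ _
      rw [Subgroup.mem_inf, Subgroup.mem_centralizer_iff]
      rfl
    have hYx : ∀ y ∈ Y, x * y * x⁻¹ ∈ Y := by
      intro y hy
      rw [hYmem] at hy ⊢
      refine ⟨hxQ₁ y hy.1, ?_⟩
      intro c hc
      have hcx := ((hUmem c).mp hc).2
      have hcy := hy.2 c hc
      have hcx' : c * x⁻¹ = x⁻¹ * c := by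
        calc c * x⁻¹ = x⁻¹ * (x * c) * x⁻¹ := by group
          _ = x⁻¹ * (c * x) * x⁻¹ := by rw [hcx]
          _ = x⁻¹ * c := by group
      calc c * (x * y * x⁻¹) = (c * x) * y * x⁻¹ := by group
        _ = x * (c * y) * x⁻¹ := by rw [hcx]; group
        _ = x * y * (c * x⁻¹) := by rw [hcy]; group
        _ = x * y * x⁻¹ * c := by rw [hcx']; group
    by_cases hY : Y = Q₁
    · intro c hc u hu
      have : u ∈ Y := by rw [hY]; exact hu
      exact (((hYmem u).mp this).2 c hc).symm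
    · exfalso
      have hYU : Y ≤ U := hmin Y inf_le_left hYx hY
      obtain ⟨u, hu, hne⟩ := hQ₁nc
      apply hne
      have huU : u ∈ U := by
        apply hfpf u hu
        have hz : u⁻¹ * (x * u * x⁻¹) ∈ Y := by
          rw [hYmem]
          refine ⟨Q₁.mul_mem (Q₁.inv_mem hu) (hxQ₁ u hu), ?_⟩
          intro c hc
          have hcx := ((hUmem c).mp hc).2
          have hc' := hUnorm c hc u hu
          have hc'x := ((hUmem _).mp hc').2
          have hcx' : c * x⁻¹ = x⁻¹ * c := by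
            calc c * x⁻¹ = x⁻¹ * (x * c) * x⁻¹ := by group
              _ = x⁻¹ * (c * x) * x⁻¹ := by rw [hcx]
              _ = x⁻¹ * c := by group
          calc c * (u⁻¹ * (x * u * x⁻¹)) = u⁻¹ * (u * c * u⁻¹ * x) * u * x⁻¹ := by group
            _ = u⁻¹ * (x * (u * c * u⁻¹)) * u * x⁻¹ := by rw [hc'x]
            _ = u⁻¹ * x * u * (c * x⁻¹) := by group
            _ = u⁻¹ * x * u * (x⁻¹ * c) := by rw [hcx']
            _ = u⁻¹ * (x * u * x⁻¹) * c := by group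
        have hzU := hYU hz
        have h3 := hUnorm _ hzU u hu
        have e : u * (u⁻¹ * (x * u * x⁻¹)) * u⁻¹ = x * u * x⁻¹ * u⁻¹ := by group
        rwa [e] at h3
      exact (((hUmem u).mp huU).2).symm
  by_cases hab : ∀ u ∈ Q₁, ∀ w ∈ Q₁, u * w = w * u
  · -- abelian case
    have h1 := frob_group hq hr hpq V Q₁ x hV (hQ₁Q.trans hQV) hxV hQ₁q hxr hxQ₁ hab hxfix
    obtain ⟨u, hu, hne⟩ := hQ₁nc
    apply hne
    have h2 := h1 u hu
    have h3 : u * x * u⁻¹ * x⁻¹ ∈ Q := by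
      have : u * x * u⁻¹ * x⁻¹ = u * (x * u⁻¹ * x⁻¹) := by group
      rw [this]
      exact Q.mul_mem (hQ₁Q hu) (hxQ _ (Q.inv_mem (hQ₁Q hu)))
    have h4 : u * x * u⁻¹ * x⁻¹ ∈ Q ⊓ centralizer (V : Set G) := ⟨h3, h2⟩
    rw [hfaith, Subgroup.mem_bot] at h4
    calc x * u = (u * x * u⁻¹ * x⁻¹)⁻¹ * (u * x) := by group
      _ = u * x := by rw [h4, inv_one, one_mul]
  · push Not at hab
    obtain ⟨u₁, hu₁, w₁, hw₁, hne⟩ := hab
    have htQ₁ : u₁ * w₁ * u₁⁻¹ * w₁⁻¹ ∈ Q₁ :=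
      Q₁.mul_mem (Q₁.mul_mem (Q₁.mul_mem hu₁ hw₁) (Q₁.inv_mem hu₁)) (Q₁.inv_mem hw₁)
    have ht : u₁ * w₁ * u₁⁻¹ * w₁⁻¹ ∉ centralizer (V : Set G) := by
      intro h
      have h3 : u₁ * w₁ * u₁⁻¹ * w₁⁻¹ ∈ Q ⊓ centralizer (V : Set G) := ⟨hQ₁Q htQ₁, h⟩
      rw [hfaith, Subgroup.mem_bot] at h3
      apply hne
      calc u₁ * w₁ = (u₁ * w₁ * u₁⁻¹ * w₁⁻¹) * (w₁ * u₁) := by group
        _ = w₁ * u₁ := by rw [h3, one_mul]
    obtain ⟨m, hm1, hm2⟩ := core2_group hq hr hpq hpr V Q₁ x hV (hQ₁Q.trans hQV) hxV hQ₁q hxr hxQ₁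
      U hUQ₁ hUZ hUx hcomm hmin hfpf u₁ w₁ hu₁ hw₁ ht hxfix
    -- arithmetic
    have hxN : x ∈ normalizer (Q₁ : Set G) :=
      Subgroup.mem_normalizer_fintype (fun n hn => hxQ₁ n hn)
    have hmod : Nat.card Q₁ ≡ Nat.card U [MOD r] := card_modEq_card_centralizer Q₁ x hxr hxN
    obtain ⟨i, hi⟩ := IsPGroup.iff_card.mp hQ₁q
    have hUq : IsPGroup q U := hQ₁q.to_le hUQ₁
    obtain ⟨j, hj⟩ := IsPGroup.iff_card.mp hUq
    have hm_dvd : m ∣ q ^ i := by
      rw [← hi, hm1]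
      exact Dvd.dvd.mul_left (dvd_pow_self m two_ne_zero) _
    obtain ⟨n, -, hmn⟩ := (Nat.dvd_prime_pow hq).mp hm_dvd
    have hn1 : 1 ≤ n := by
      by_contra h
      have hn0 : n = 0 := by omega
      rw [hn0, pow_zero] at hmn
      rw [hmn, one_pow, mul_one] at hm1
      have hUeq : U = Q₁ := Subgroup.eq_of_le_of_card_ge hUQ₁ (le_of_eq hm1)
      obtain ⟨u, hu, hne'⟩ := hQ₁nc
      apply hne'
      have : u ∈ U := by rw [hUeq]; exact hu
      exact (((hUmem u).mp this).2).symm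
    have hcopU : Nat.gcd r (Nat.card U) = 1 := by
      rw [hj]
      exact Nat.Coprime.pow_right j ((Nat.coprime_primes hr hq).mpr hqr.symm)
    have hmod2 : m ^ 2 ≡ 1 [MOD r] := by
      have h : Nat.card U * m ^ 2 ≡ Nat.card U * 1 [MOD r] := by
        rw [mul_one, ← hm1]
        exact hmod
      exact Nat.ModEq.cancel_left_of_coprime hcopU h
    have h1 : q ^ (2 * n + 1) ≤ q * (r - 1) ^ 2 := by
      have : q ^ (2 * n + 1) = q * (q ^ n) ^ 2 := by ring
      rw [this, ← hmn]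
      exact Nat.mul_le_mul_left _ hm2
    have h2 : q ^ (2 * n + 1) ≡ q [MOD r] := by
      have e : q ^ (2 * n + 1) = q * (q ^ n) ^ 2 := by ring
      rw [e, ← hmn]
      have := Nat.ModEq.mul_left q hmod2
      rwa [mul_one] at this
    obtain ⟨hq2, hr2⟩ := arith hq hr hqr hn1 h1 h2
    exact hne (hexc hq2 ⟨n, hr2⟩ u₁ (hQ₁Q hu₁) w₁ (hQ₁Q hw₁))

/-- Let p, q, r be distinct primes and let X, Q, V be subgroups of a finite group with X of order r normalizing the q-group Q and acting faithfully on it (X ∩ C(Q) = 1), and V a nontrivial elementary abelian p-group normalized by X and Q on which XQ acts faithfully. If q = 2 and r has the form 2^n + 1, assume in addition that Q is abelian. Then C_V(X) ≠ 1. -/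
theorem result {G : Type*} [Group G] [Finite G] {p q r : ℕ} (hp : p.Prime) (hq : q.Prime) (hr : r.Prime) (hpq : p ≠ q) (hpr : p ≠ r) (hqr : q ≠ r) (X Q V : Subgroup G) (hX : Nat.card X = r) (hQ : IsPGroup q Q) (hXQ : X ≤ Subgroup.normalizer (Q : Set G)) (hXfaith : X ⊓ Subgroup.centralizer (Q : Set G) = ⊥) (hV : Cfsg.IsElementaryAbelian p V) (hV1 : V ≠ ⊥) (hXV : X ≤ Subgroup.normalizer (V : Set G)) (hQV : Q ≤ Subgroup.normalizer (V : Set G)) (hfaith : (X ⊔ Q) ⊓ Subgroup.centralizer (V : Set G) = ⊥) (hexc : q = 2 → (∃ n : ℕ, r = 2 ^ n + 1) → IsMulCommutative Q) : V ⊓ Subgroup.centralizer (X : Set G) ≠ ⊥ := by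
  intro hCV
  have : Fact r.Prime := ⟨hr⟩
  -- generator of X
  have hXcyc : IsCyclic X := isCyclic_of_prime_card hX
  obtain ⟨⟨x, hxX⟩, hxgen⟩ := hXcyc.exists_generator
  have hXz : X = zpowers x := by
    ext y
    constructor
    · intro hy
      obtain ⟨k, hk⟩ := Subgroup.mem_zpowers_iff.mp (hxgen ⟨y, hy⟩)
      refine Subgroup.mem_zpowers_iff.mpr ⟨k, ?_⟩
      have := congrArg Subtype.val hk
      simpa using this
    · intro hy
      exact (Subgroup.zpowers_le.mpr hxX) hy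
  have hcentX : centralizer (X : Set G) = centralizer ({x} : Set G) := by
    rw [hXz, Subgroup.zpowers_eq_closure, Subgroup.centralizer_closure]
  have hxr : x ^ r = 1 := by
    have : (⟨x, hxX⟩ : X) ^ r = 1 := by rw [← hX]; exact pow_card_eq_one'
    exact congrArg Subtype.val this
  have hxQ : ∀ u ∈ Q, x * u * x⁻¹ ∈ Q := fun u hu =>
    (Subgroup.mem_normalizer_iff.mp (hXQ hxX) u).mp hu
  have hxnc : ∃ u ∈ Q, x * u ≠ u * x := by
    by_contra hall
    push Not at hall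
    have hxC : x ∈ X ⊓ centralizer (Q : Set G) := by
      refine ⟨hxX, ?_⟩
      show x ∈ centralizer (Q : Set G)
      rw [Subgroup.mem_centralizer_iff]
      intro u hu
      exact (hall u hu).symm
    rw [hXfaith, Subgroup.mem_bot] at hxC
    rw [hXz, hxC, Subgroup.zpowers_one_eq_bot, Subgroup.card_bot] at hX
    exact hr.one_lt.ne hX
  have hfaith' : Q ⊓ centralizer (V : Set G) = ⊥ := by
    rw [eq_bot_iff, ← hfaith]
    exact inf_le_inf_right _ le_sup_right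
  have hxfix : V ⊓ centralizer ({x} : Set G) = ⊥ := by rw [← hcentX]; exact hCV
  refine key hp hq hr hpq hpr hqr x Q V hxr hQ hxQ hxnc hV (hXV hxX) hQV hfaith' ?_ hxfix
  intro hq2 hn u hu w hw
  have hc := hexc hq2 hn
  have := hc.is_comm.comm (⟨u, hu⟩ : Q) ⟨w, hw⟩
  exact congrArg Subtype.val this

end Cfsg.Agent.S3765
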