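import Cfsg.Statements.S3939
import Mathlib

set_option autoImplicit false
open Cfsg

namespace Cfsg.Agent.S3939

open Subgroup
open scoped commutatorElement

universe u

/-- In a nilpotent group, elements of coprime order commute. -/
theorem commute_of_coprime (H : Type*) [Group H] [Group.IsNilpotent H] :
    ∀ a b : H, (orderOf a).Coprime (orderOf b) → a * b = b * a := by
  refine Group.nilpotent_center_quotient_ind
    (P := fun H _ _ => ∀ a b : H, (orderOf a).Coprime (orderOf b) → a * b = b * a) H ?_ ?_
  · intro H _ _ a b _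
    exact Subsingleton.elim _ _
  · intro H _ _ ih a b hab
    have h1 : ((a : H ⧸ center H)) * (b : H ⧸ center H) = b * a := by
      apply ih
      have ha : orderOf (a : H ⧸ center H) ∣ orderOf a := orderOf_map_dvd (QuotientGroup.mk' (center H)) a
      have hb : orderOf (b : H ⧸ center H) ∣ orderOf b := orderOf_map_dvd (QuotientGroup.mk' (center H)) b
      exact Nat.Coprime.coprime_dvd_left ha (Nat.Coprime.coprime_dvd_right hb hab)
    set z := (b * a)⁻¹ * (a * b) with hz
    have hzc : z ∈ center H := by
      rw [← QuotientGroup.eq_one_iff]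
      rw [hz, QuotientGroup.mk_mul, QuotientGroup.mk_inv, QuotientGroup.mk_mul, QuotientGroup.mk_mul, h1,
        inv_mul_cancel]
    have hcz : ∀ x : H, x * z = z * x := fun x => (mem_center_iff.1 hzc x)
    have e1 : a * b * a⁻¹ = b * z := by
      have : a * b = b * a * z := by rw [hz]; group
      rw [this, mul_assoc b a z, hcz a, ← mul_assoc, mul_assoc (b * z), mul_inv_cancel, mul_one]
    have e2 : b * a * b⁻¹ = a * z⁻¹ := by
      have : b * a = a * b * z⁻¹ := by rw [hz]; group
      have hcz' : ∀ x : H, x * z⁻¹ = z⁻¹ * x := fun x => by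
        have := hcz x
        calc x * z⁻¹ = z⁻¹ * (z * x) * z⁻¹ := by group
          _ = z⁻¹ * (x * z) * z⁻¹ := by rw [this]
          _ = z⁻¹ * x := by group
      rw [this, mul_assoc a b, hcz' b, ← mul_assoc, mul_assoc (a * z⁻¹), mul_inv_cancel, mul_one]
    have h2 : z ^ orderOf b = 1 := by
      have h := congrArg (· ^ orderOf b) e1
      simp only [conj_pow, pow_orderOf_eq_one, mul_one, mul_inv_cancel] at h
      have hc : Commute b z := hcz b
      rw [hc.mul_pow, pow_orderOf_eq_one, one_mul] at h
      exact h.symm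
    have h3 : z⁻¹ ^ orderOf a = 1 := by
      have h := congrArg (· ^ orderOf a) e2
      simp only [conj_pow, pow_orderOf_eq_one, mul_one, mul_inv_cancel] at h
      have hc : Commute a z⁻¹ := (Commute.inv_right (hcz a))
      rw [hc.mul_pow, pow_orderOf_eq_one, one_mul] at h
      exact h.symm
    have d2 : orderOf z ∣ orderOf b := orderOf_dvd_of_pow_eq_one h2
    have d3 : orderOf z ∣ orderOf a := by
      rw [← orderOf_inv]; exact orderOf_dvd_of_pow_eq_one h3
    have : orderOf z = 1 := Nat.eq_one_of_dvd_coprimes hab d3 d2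
    have hz1 : z = 1 := orderOf_eq_one_iff.1 this
    have : a * b = b * a * z := by rw [hz]; group
    rw [this, hz1, mul_one]

/-- From the hypercenter to nilpotency of two-generated subgroups. -/
theorem nilp_of_mem : ∀ (n : ℕ) (G : Type u) [Group G] (g x : G), g ∈ Subgroup.upperCentralSeries G n →
    Group.IsNilpotent ↥(closure ({x, g} : Set G)) := by
  intro n
  induction n with
  | zero =>
    intro G _ g x hg
    rw [Subgroup.upperCentralSeries_zero, mem_bot] at hg
    subst hg
    have hc : IsMulCommutative ↥(closure ({x, 1} : Set G)) := by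
      apply Subgroup.isMulCommutative_closure
      intro a ha b hb
      rcases ha with rfl | rfl <;> rcases hb with rfl | rfl <;> simp
    refine ⟨⟨1, ?_⟩⟩
    rw [Subgroup.upperCentralSeries_one, eq_top_iff]
    intro h _
    rw [mem_center_iff]
    intro k
    exact mul_comm' k h
  | succ n ih =>
    intro G _ g x hg
    have hg' : (QuotientGroup.mk' (center G)) g ∈ Subgroup.upperCentralSeries (G ⧸ center G) n := by
      rw [← Subgroup.comap_upperCentralSeries_quotient_center] at hg
      exact hg
    have hnil := ih (G ⧸ center G) ((QuotientGroup.mk' (center G)) g) ((QuotientGroup.mk' (center G)) x) hg'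
    have hmap : (closure ({x, g} : Set G)).map (QuotientGroup.mk' (center G)) =
        closure ({(QuotientGroup.mk' (center G)) x, (QuotientGroup.mk' (center G)) g} : Set (G ⧸ center G)) := by
      rw [MonoidHom.map_closure, Set.image_pair]
    let f : ↥(closure ({x, g} : Set G)) →* ↥(closure ({(QuotientGroup.mk' (center G)) x,
        (QuotientGroup.mk' (center G)) g} : Set (G ⧸ center G))) :=
      ((QuotientGroup.mk' (center G)).comp (closure ({x, g} : Set G)).subtype).codRestrict _ (by
        intro y
        rw [← hmap]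
        exact ⟨y.1, y.2, rfl⟩)
    have hker : f.ker ≤ center ↥(closure ({x, g} : Set G)) := by
      intro y hy
      rw [MonoidHom.mem_ker] at hy
      have hy' : (QuotientGroup.mk' (center G)) (y : G) = 1 := congrArg Subtype.val hy
      have hyc : (y : G) ∈ center G := by
        rw [← QuotientGroup.eq_one_iff]; exact hy'
      rw [mem_center_iff]
      intro k
      apply Subtype.ext
      exact mem_center_iff.1 hyc k
    exact Subgroup.isNilpotent_of_ker_le_center f hker

section

variable {G : Type*} [Group G]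

theorem cond_pow (g : G) (hC : ∀ x : G, Group.IsNilpotent ↥(closure ({x, g} : Set G))) (j : ℕ) :
    ∀ x : G, Group.IsNilpotent ↥(closure ({x, g ^ j} : Set G)) := by
  intro x
  have hle : closure ({x, g ^ j} : Set G) ≤ closure ({x, g} : Set G) := by
    rw [closure_le]
    intro y hy
    rcases hy with rfl | rfl
    · exact subset_closure (by simp)
    · exact pow_mem (subset_closure (by simp)) j
  have := hC x
  have hker : (Subgroup.inclusion hle).ker ≤ center _ := by
    rw [(MonoidHom.ker_eq_bot_iff _).2 (Subgroup.inclusion_injective hle)]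
    exact bot_le
  exact Subgroup.isNilpotent_of_ker_le_center (Subgroup.inclusion hle) hker

variable [Finite G]

theorem key_p (p : ℕ) [Fact p.Prime] (g : G) (k : ℕ) (hg : orderOf g = p ^ k)
    (hC : ∀ x : G, Group.IsNilpotent ↥(closure ({x, g} : Set G))) :
    g ∈ ⨆ n : ℕ, Subgroup.upperCentralSeries G n := by
  have hp : p.Prime := Fact.out
  -- step 1: g commutes with p'-elements
  have hcomm : ∀ y : G, (orderOf y).Coprime p → y * g = g * y := by
    intro y hy
    have := hC y
    have hyH : y ∈ closure ({y, g} : Set G) := subset_closure (by simp)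
    have hgH : g ∈ closure ({y, g} : Set G) := subset_closure (by simp)
    have h := commute_of_coprime ↥(closure ({y, g} : Set G)) ⟨y, hyH⟩ ⟨g, hgH⟩ (by
      rw [Subgroup.orderOf_mk, Subgroup.orderOf_mk, hg]
      exact Nat.Coprime.pow_right k hy)
    exact congrArg Subtype.val h
  -- step 2: K
  set S : Set G := {y | (orderOf y).Coprime p} with hS
  set K : Subgroup G := normalClosure S with hK
  have hKle : K ≤ centralizer ({g} : Set G) := by
    rw [hK]
    show closure (Group.conjugatesOfSet S) ≤ _
    rw [closure_le]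
    intro c hc
    rw [Group.mem_conjugatesOfSet_iff] at hc
    obtain ⟨b, hb, hbc⟩ := hc
    rw [isConj_iff] at hbc
    obtain ⟨d, rfl⟩ := hbc
    have hord : orderOf (d * b * d⁻¹) = orderOf b := by
      have := orderOf_injective (MulAut.conj d).toMonoidHom (MulAut.conj d).injective b
      simpa [MulAut.conj_apply] using this
    have hcS : (orderOf (d * b * d⁻¹)).Coprime p := by rw [hord]; exact hb
    rw [SetLike.mem_coe, mem_centralizer_iff]
    intro h hh
    rw [Set.mem_singleton_iff] at hh
    subst hh
    exact (hcomm _ hcS).symm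
  have hgK : ∀ h ∈ K, h * g = g * h := by
    intro h hh
    have := hKle hh
    rw [mem_centralizer_iff] at this
    exact (this g rfl).symm
  -- step 3: G/K is a p-group
  have hpq : IsPGroup p (G ⧸ K) := by
    intro q
    induction q using QuotientGroup.induction_on with
    | H y =>
      have hy0 : orderOf y ≠ 0 := (orderOf_pos y).ne'
      obtain ⟨e, m, hm, hem⟩ := Nat.exists_eq_pow_mul_and_not_dvd hy0 p hp.ne_one
      refine ⟨e, ?_⟩
      have hyS : y ^ (p ^ e) ∈ S := by
        show (orderOf (y ^ (p ^ e))).Coprime p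
        have hd : orderOf (y ^ (p ^ e)) ∣ m := by
          apply orderOf_dvd_of_pow_eq_one
          rw [← pow_mul, ← hem, pow_orderOf_eq_one]
        have hmc : m.Coprime p := ((Nat.Prime.coprime_iff_not_dvd hp).2 hm).symm
        exact Nat.Coprime.coprime_dvd_left hd hmc
      have hyK : y ^ (p ^ e) ∈ K := subset_normalClosure hyS
      rw [← QuotientGroup.mk_pow]
      exact (QuotientGroup.eq_one_iff _).2 hyK
  -- step 4: Sylow containing g
  have hzp : IsPGroup p ↥(zpowers g) := IsPGroup.of_card (n := k) (by rw [Nat.card_zpowers, hg])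
  obtain ⟨P, hP⟩ := hzp.exists_le_sylow
  have hgP : g ∈ (P : Subgroup G) := hP (mem_zpowers g)
  -- step 5: G = P K
  have hPK : ∀ y : G, ∃ q ∈ (P : Subgroup G), q⁻¹ * y ∈ K := by
    intro y
    have hsurj : Function.Surjective (QuotientGroup.mk' K) := QuotientGroup.mk'_surjective K
    have htop : (⊤ : Subgroup (G ⧸ K)) = (P.mapSurjective hsurj : Subgroup (G ⧸ K)) :=
      (P.mapSurjective hsurj).is_maximal' (hpq.to_subgroup ⊤) le_top
    have hy : (QuotientGroup.mk' K) y ∈ (P.mapSurjective hsurj : Subgroup (G ⧸ K)) := by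
      rw [← htop]; exact mem_top _
    rw [Sylow.coe_mapSurjective] at hy
    obtain ⟨q, hq, hqy⟩ := hy
    refine ⟨q, hq, ?_⟩
    exact QuotientGroup.eq.1 hqy
  -- step 6: induction
  have hind : ∀ i : ℕ, ∀ z : ↥(P : Subgroup G), z ∈ Subgroup.upperCentralSeries ↥(P : Subgroup G) i →
      (z : G) ∈ centralizer (K : Set G) → (z : G) ∈ Subgroup.upperCentralSeries G i := by
    intro i
    induction i with
    | zero =>
      intro z hz _
      rw [Subgroup.upperCentralSeries_zero, mem_bot] at hz ⊢
      rw [hz]; rfl
    | succ i ih =>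
      intro z hz hzK
      rw [Subgroup.mem_upperCentralSeries_succ_iff] at hz ⊢
      intro y
      obtain ⟨q, hq, hqy⟩ := hPK y
      have hzk : (q⁻¹ * y) * (z : G) = (z : G) * (q⁻¹ * y) := (mem_centralizer_iff.1 hzK) _ hqy
      have hw := hz ⟨q, hq⟩
      have hwK : ((⁅z, (⟨q, hq⟩ : ↥(P : Subgroup G))⁆ : ↥(P : Subgroup G)) : G) ∈ centralizer (K : Set G) := by
        rw [commutatorElement_def]
        push_cast
        have hn : (centralizer (K : Set G)).Normal := inferInstance
        have h1 : q * (z : G)⁻¹ * q⁻¹ ∈ centralizer (K : Set G) := hn.conj_mem _ (inv_mem hzK) q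
        have : (z : G) * q * (z : G)⁻¹ * q⁻¹ = (z : G) * (q * (z : G)⁻¹ * q⁻¹) := by group
        rw [this]
        exact mul_mem hzK h1
      have := ih _ hw hwK
      have heq : ⁅(z : G), y⁆ = ((⁅z, (⟨q, hq⟩ : ↥(P : Subgroup G))⁆ : ↥(P : Subgroup G)) : G) := by
        rw [commutatorElement_def, commutatorElement_def]
        push_cast
        -- y = q * (q⁻¹ * y)
        set c := q⁻¹ * y with hc
        have hy : y = q * c := by rw [hc]; group
        have hcz : c * (z : G)⁻¹ = (z : G)⁻¹ * c := by
          calc c * (z : G)⁻¹ = (z : G)⁻¹ * ((z : G) * c) * (z : G)⁻¹ := by group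
            _ = (z : G)⁻¹ * (c * (z : G)) * (z : G)⁻¹ := by rw [hzk]
            _ = (z : G)⁻¹ * c := by group
        rw [hy]
        calc (z : G) * (q * c) * (z : G)⁻¹ * (q * c)⁻¹
            = (z : G) * q * (c * (z : G)⁻¹) * c⁻¹ * q⁻¹ := by group
          _ = (z : G) * q * ((z : G)⁻¹ * c) * c⁻¹ * q⁻¹ := by rw [hcz]
          _ = (z : G) * q * (z : G)⁻¹ * q⁻¹ := by group
      rw [heq]
      exact this
  -- step 7
  have hPnil : Group.IsNilpotent ↥(P : Subgroup G) := P.isPGroup'.isNilpotent
  obtain ⟨c, hc⟩ := hPnil.nilpotent'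
  have hgc : (⟨g, hgP⟩ : ↥(P : Subgroup G)) ∈ Subgroup.upperCentralSeries ↥(P : Subgroup G) c := by
    rw [hc]; exact mem_top _
  have hgcent : g ∈ centralizer (K : Set G) := by
    rw [mem_centralizer_iff]
    intro h hh
    exact hgK h hh
  have := hind c ⟨g, hgP⟩ hgc hgcent
  exact (le_iSup (fun n => Subgroup.upperCentralSeries G n) c) this

theorem key : ∀ (n : ℕ) (g : G), orderOf g = n →
    (∀ x : G, Group.IsNilpotent ↥(closure ({x, g} : Set G))) → g ∈ ⨆ n : ℕ, Subgroup.upperCentralSeries G n := by
  intro n
  induction n using Nat.strong_induction_on with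
  | _ n ih =>
    intro g hgn hC
    have hn0 : n ≠ 0 := by rw [← hgn]; exact (orderOf_pos g).ne'
    by_cases hn1 : n = 1
    · rw [hn1, orderOf_eq_one_iff] at hgn
      rw [hgn]; exact one_mem _
    obtain ⟨p, hpp, hpn⟩ : ∃ p : ℕ, p.Prime ∧ p ∣ n := ⟨n.minFac, Nat.minFac_prime hn1, Nat.minFac_dvd n⟩
    have : Fact p.Prime := ⟨hpp⟩
    obtain ⟨e, m, hm, hem⟩ := Nat.exists_eq_pow_mul_and_not_dvd hn0 p hpp.ne_one
    have hm0 : m ≠ 0 := by
      rintro rfl
      rw [mul_zero] at hem
      exact hn0 hem
    by_cases hm1 : m = 1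
    · rw [hm1, mul_one] at hem
      exact key_p p g e (by rw [hgn, hem]) hC
    have he : e ≠ 0 := by
      rintro rfl
      rw [pow_zero, one_mul] at hem
      apply hm
      rw [← hem]
      exact hpn
    have hpe1 : 1 < p ^ e := Nat.one_lt_pow he hpp.one_lt
    have hpe0 : 0 < p ^ e := by omega
    have hm_lt : m < n := by
      rw [hem]
      nlinarith [Nat.pos_of_ne_zero hm0]
    have hpe_lt : p ^ e < n := by
      rw [hem]
      have : 1 < m := by omega
      nlinarith
    have ho1 : orderOf (g ^ (p ^ e)) = m := by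
      rw [orderOf_pow_of_dvd (pow_ne_zero e hpp.ne_zero) (by rw [hgn, hem]; exact dvd_mul_right _ _), hgn, hem,
        Nat.mul_div_cancel_left _ hpe0]
    have ho2 : orderOf (g ^ m) = p ^ e := by
      rw [orderOf_pow_of_dvd hm0 (by rw [hgn, hem]; exact dvd_mul_left _ _), hgn, hem,
        Nat.mul_div_cancel _ (Nat.pos_of_ne_zero hm0)]
    have h1 := ih m hm_lt (g ^ (p ^ e)) ho1 (cond_pow g hC _)
    have h2 := ih (p ^ e) hpe_lt (g ^ m) ho2 (cond_pow g hC _)
    have hcop : Nat.Coprime (p ^ e) m :=
      Nat.Coprime.pow_left e ((Nat.Prime.coprime_iff_not_dvd hpp).2 hm)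
    have hb := Nat.gcd_eq_gcd_ab (p ^ e) m
    rw [hcop, Nat.cast_one] at hb
    have hg : g = (g ^ (p ^ e)) ^ (Nat.gcdA (p ^ e) m) * (g ^ m) ^ (Nat.gcdB (p ^ e) m) := by
      rw [← zpow_natCast, ← zpow_natCast, ← zpow_mul, ← zpow_mul, ← zpow_add, ← hb, zpow_one]
    rw [hg]
    exact mul_mem (zpow_mem h1 _) (zpow_mem h2 _)

end

/-- In a finite group G the set of elements g such that the subgroup generated by g and x is nilpotent for every x ∈ G is exactly the hypercenter of G (the last term of the upper central series). -/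
theorem result {G : Type*} [Group G] [Finite G] (g : G) :
    (∀ x : G, Group.IsNilpotent ↥(Subgroup.closure ({x, g} : Set G))) ↔ g ∈ ⨆ n : ℕ, Subgroup.upperCentralSeries G n := by
  constructor
  · intro h
    exact key _ g rfl h
  · intro h x
    obtain ⟨n, hn⟩ := (Subgroup.mem_iSup_of_directed (Subgroup.upperCentralSeries_mono (G := G)).directed_le).1 h
    exact nilp_of_mem n G g x hn

end Cfsg.Agent.S3939
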