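import Cfsg.Statements.S4464
import Cfsg.Agent.Lib.Helper81.CharRam
import Cfsg.Agent.Lib.Helper81.CharProd
import Cfsg.Agent.Lib.Helper81.CharCorr
import Cfsg.Agent.Lib.Helper79.Inflation
import Cfsg.Agent.Lib.Helper3.CharDecomp
import Cfsg.Agent.S0855

set_option autoImplicit false
set_option linter.style.haveILetI false
open Cfsg

namespace Cfsg.Agent.S4464

open Cfsg.Agent.Helper81 Cfsg.Agent.Helper79
open scoped ComplexConjugate

universe u

section bound

variable {G : Type u} [Group G] [Fintype G]

/-- a character whose norm is small compared with its degree forces a large irreducible degree -/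
theorem deg_eq_zero_of_norm_le {Ψ : G → ℂ} (hΨ : IsCharacter G Ψ) (q d k : ℕ)
    (hsmall : ∀ χ : IrrCharacter G, charDegree (χ : G → ℂ) < q)
    (hd : Ψ 1 = (d : ℂ))
    (hk : classInner Ψ Ψ = (k : ℂ))
    (hle : q * k ≤ d) : d = 0 := by
  classical
  haveI : Fintype (IrrCharacter G) := @Fintype.ofFinite _ Helper81.irr_finite
  obtain ⟨m, hm⟩ := exists_nat_decomp hΨ
  have hk' : (k : ℂ) = ∑ χ : IrrCharacter G, ((m χ) ^ 2 : ℕ) := by
    rw [← hk]
    conv_lhs => rw [hm]
    rw [classInner_sum_right]
    push_cast
    apply Finset.sum_congr rfl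
    intro χ _
    rw [classInner_smul_right]
    have := classInner_nat_decomp (fun χ' => (m χ' : ℂ)) χ
    rw [this]
    simp [sq]
  have hd' : (d : ℂ) = ∑ χ : IrrCharacter G, ((m χ * charDegree (χ : G → ℂ) : ℕ) : ℂ) := by
    rw [← hd]
    conv_lhs => rw [hm]
    simp only [Finset.sum_apply, Pi.smul_apply, smul_eq_mul]
    apply Finset.sum_congr rfl
    intro χ _
    rw [(irr_one_eq χ).1]
    push_cast
    rfl
  have hkN : k = ∑ χ : IrrCharacter G, (m χ) ^ 2 := by exact_mod_cast hk'
  have hdN : d = ∑ χ : IrrCharacter G, m χ * charDegree (χ : G → ℂ) := by exact_mod_cast hd'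
  have h1 : ∑ χ : IrrCharacter G, m χ * (charDegree (χ : G → ℂ) + 1) ≤
      q * ∑ χ : IrrCharacter G, (m χ) ^ 2 := by
    rw [Finset.mul_sum]
    apply Finset.sum_le_sum
    intro χ _
    have h2 := hsmall χ
    have h3 : m χ ≤ (m χ) ^ 2 := by
      rcases Nat.eq_zero_or_pos (m χ) with h0 | hpos
      · rw [h0]; simp
      · nlinarith
    calc m χ * (charDegree (χ : G → ℂ) + 1) ≤ m χ * q := Nat.mul_le_mul_left _ h2
      _ = q * m χ := Nat.mul_comm _ _
      _ ≤ q * (m χ) ^ 2 := Nat.mul_le_mul_left _ h3
  have h4 : ∑ χ : IrrCharacter G, m χ * (charDegree (χ : G → ℂ) + 1) =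
      d + ∑ χ : IrrCharacter G, m χ := by
    rw [hdN, ← Finset.sum_add_distrib]
    apply Finset.sum_congr rfl
    intro χ _
    ring
  rw [← hkN, h4] at h1
  have h5 : ∑ χ : IrrCharacter G, m χ = 0 := by omega
  rw [hdN]
  apply Finset.sum_eq_zero
  intro χ _
  have := (Finset.sum_eq_zero_iff.mp h5) χ (Finset.mem_univ χ)
  rw [this, zero_mul]

theorem classInner_one_one (H : Type u) [Group H] [Fintype H] :
    classInner (fun _ : H => (1 : ℂ)) (fun _ : H => (1 : ℂ)) = 1 := by
  have h := irr_orthonormal (Cfsg.Agent.Helper3.isIrrCharacter_one (G := H))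
    (Cfsg.Agent.Helper3.isIrrCharacter_one (G := H))
  rw [if_pos rfl] at h
  exact h

/-- value of the permutation character `1_N^G` on an element all of whose conjugates in `N`
come from `N` -/
theorem indOne_eq_one (N : Subgroup G) (x : G) (hxN : x ∈ N)
    (h : ∀ g : G, g⁻¹ * x * g ∈ N → g ∈ N) :
    indFun N (fun _ : N => (1 : ℂ)) x = 1 := by
  classical
  rw [indFun_apply]
  have hterm : ∀ g : G, extendByZero N (fun _ : N => (1 : ℂ)) (g⁻¹ * x * g) =
      if g ∈ N then 1 else 0 := by
    intro g
    by_cases hg : g ∈ N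
    · rw [if_pos hg, extendByZero_apply_mem N _ (N.mul_mem (N.mul_mem (N.inv_mem hg) hxN) hg)]
    · rw [if_neg hg, extendByZero_apply_not_mem N _ (fun h' => hg (h g h'))]
  simp only [hterm]
  rw [Finset.sum_boole]
  have hc : (Finset.univ.filter (fun g : G => g ∈ N)).card = Nat.card N := by
    rw [@Nat.card_eq_fintype_card _ (Subtype.fintype _), Fintype.card_subtype]
  rw [hc]
  have : (Nat.card N : ℂ) ≠ 0 := by exact_mod_cast (Nat.card_pos (α := N)).ne'
  field_simp

/-- the norm estimate for the permutation character on the cosets of `N` -/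
theorem norm_estimate (P N : Subgroup G) (hPN : P ≤ N)
    (hTI : ∀ x ∈ P, x ≠ 1 → ∀ g : G, g⁻¹ * x * g ∈ N → g ∈ N) (k₁ : ℕ)
    (hk₁ : classInner (indFun N (fun _ : N => (1 : ℂ))) (indFun N (fun _ : N => (1 : ℂ))) =
      (k₁ : ℂ)) :
    Nat.card P * k₁ + 1 ≤ Nat.card P + N.index := by
  classical
  haveI : Fintype N := Fintype.ofFinite N
  set oneN : N → ℂ := fun _ => 1 with honeN
  obtain ⟨π, hπdef⟩ : ∃ π : G → ℂ, π = indFun N oneN := ⟨_, rfl⟩
  rw [← hπdef] at hk₁
  have hπ : IsCharacter G π := by
    rw [hπdef]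
    exact isCharacter_indFun N (Cfsg.Agent.Helper3.isCharacter_one (G := N))
  have hπcf : IsClassFunction G π := by rw [hπdef]; exact indFun_isClassFunction N oneN
  have hπ1 : π 1 = (N.index : ℂ) := by
    rw [hπdef, indFun_one]; simp [honeN]
  set α : N → ℂ := fun n => π n with hαdef
  have hα : IsCharacter N α := isCharacter_restrict N hπ
  have hfrob1 : classInner π π = classInner oneN α := by
    have h := frobenius_reciprocity N oneN hπcf
    rw [← hπdef] at h
    exact h
  set P' : Subgroup N := P.subgroupOf N with hP'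
  haveI : Fintype P' := Fintype.ofFinite P'
  set oneP : P' → ℂ := fun _ => 1 with honeP
  obtain ⟨τ, hτdef⟩ : ∃ τ : N → ℂ, τ = indFun P' oneP := ⟨_, rfl⟩
  have hτ : IsCharacter N τ := by
    rw [hτdef]
    exact isCharacter_indFun P' (Cfsg.Agent.Helper3.isCharacter_one (G := P'))
  have hτ1 : classInner τ (fun _ : N => (1 : ℂ)) = 1 := by
    rw [hτdef, frobenius_reciprocity P' oneP (χ := fun _ : N => (1 : ℂ)) (fun _ _ => rfl)]
    exact classInner_one_one P'
  obtain ⟨γ, hγ, hτadd⟩ := exists_add_of_classInner_ne_zero hτ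
    (Cfsg.Agent.Helper3.isIrrCharacter_one (G := N)) (by rw [hτ1]; exact one_ne_zero)
  have hfrob2 : classInner τ α = classInner oneP (fun x : P' => α x) := by
    rw [hτdef]
    exact frobenius_reciprocity P' oneP (isClassFunction_of_isCharacter hα)
  obtain ⟨k₃, hk₃⟩ := exists_nat_classInner_char hγ hα
  have hsplit : classInner τ α = (k₁ : ℂ) + (k₃ : ℂ) := by
    rw [hτadd, classInner_add_left, hk₃, ← hk₁, hfrob1]
  -- values of `α` on `P'`
  have hval : ∀ x : P', α x = 1 + (if x = 1 then ((N.index : ℂ) - 1) else 0) := by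
    intro x
    by_cases hx : x = 1
    · rw [if_pos hx, hx]
      simp only [hαdef, OneMemClass.coe_one]
      rw [hπ1]; ring
    · rw [if_neg hx, add_zero]
      simp only [hαdef]
      rw [hπdef]
      apply indOne_eq_one N _ (x : N).2
      have hxP : ((x : N) : G) ∈ P := Subgroup.mem_subgroupOf.mp x.2
      apply hTI _ hxP
      intro h1
      apply hx
      apply Subtype.ext
      apply Subtype.ext
      simpa using h1
  have hrhs : classInner oneP (fun x : P' => α x) =
      (Nat.card P' : ℂ)⁻¹ * ((Nat.card P' : ℂ) + ((N.index : ℂ) - 1)) := by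
    unfold classInner
    congr 1
    have : ∀ x : P', oneP x * conj (α x) =
        1 + (if x = 1 then ((N.index : ℂ) - 1) else 0) := by
      intro x
      rw [hval x, honeP]
      by_cases hx : x = 1
      · simp [hx]
      · simp [hx]
    simp only [this]
    rw [Finset.sum_add_distrib, Finset.sum_const, Finset.card_univ, Finset.sum_ite_eq']
    simp [Nat.card_eq_fintype_card]
  have hcard : Nat.card P' = Nat.card P :=
    Nat.card_congr (Subgroup.subgroupOfEquivOfLe hPN).toEquiv
  rw [hfrob2, hrhs, hcard] at hsplit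
  have hPne : (Nat.card P : ℂ) ≠ 0 := by exact_mod_cast (Nat.card_pos (α := P)).ne'
  have hfin : ((Nat.card P * (k₁ + k₃) + 1 : ℕ) : ℂ) = ((Nat.card P + N.index : ℕ) : ℂ) := by
    push_cast
    rw [← hsplit]
    field_simp
    ring
  have hfinN : Nat.card P * (k₁ + k₃) + 1 = Nat.card P + N.index := by exact_mod_cast hfin
  nlinarith

/-- a proper subgroup `N` controlling fusion of the nonidentity elements of `P ≤ N` forces an
irreducible character of degree at least `|P|` -/
theorem ti_bound (P N : Subgroup G) (hPN : P ≤ N) (hN : N ≠ ⊤)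
    (hTI : ∀ x ∈ P, x ≠ 1 → ∀ g : G, g⁻¹ * x * g ∈ N → g ∈ N) :
    ∃ χ : IrrCharacter G, Nat.card P ≤ charDegree (χ : G → ℂ) := by
  classical
  by_contra hcon
  push Not at hcon
  haveI : Fintype N := Fintype.ofFinite N
  obtain ⟨π, hπdef⟩ : ∃ π : G → ℂ, π = indFun N (fun _ : N => (1 : ℂ)) := ⟨_, rfl⟩
  have hπ : IsCharacter G π := by
    rw [hπdef]
    exact isCharacter_indFun N (Cfsg.Agent.Helper3.isCharacter_one (G := N))
  have hπ1 : π 1 = (N.index : ℂ) := by
    rw [hπdef, indFun_one]; simp
  have hπ_1 : classInner π (fun _ : G => (1 : ℂ)) = 1 := by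
    rw [hπdef, frobenius_reciprocity N _ (χ := fun _ : G => (1 : ℂ)) (fun _ _ => rfl)]
    exact classInner_one_one N
  obtain ⟨Ψ, hΨ, hadd⟩ := exists_add_of_classInner_ne_zero hπ
    (Cfsg.Agent.Helper3.isIrrCharacter_one (G := G)) (by rw [hπ_1]; exact one_ne_zero)
  obtain ⟨k₁, hk₁⟩ := exists_nat_classInner_char hπ hπ
  obtain ⟨k₂, hk₂⟩ := exists_nat_classInner_char hΨ hΨ
  obtain ⟨d, hd⟩ := char_one_nat hΨ
  have hΨ1 : classInner Ψ (fun _ : G => (1 : ℂ)) = 0 := by
    have h := hπ_1
    rw [hadd, classInner_add_left, classInner_one_one G] at h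
    linear_combination h
  have h1Ψ : classInner (fun _ : G => (1 : ℂ)) Ψ = 0 := by
    rw [classInner_conj_symm, hΨ1]; simp
  have hk12 : k₁ = 1 + k₂ := by
    have h := hk₁
    rw [hadd, classInner_add_left, classInner_add_right, classInner_add_right,
      classInner_one_one G, h1Ψ, hΨ1, hk₂] at h
    have : ((1 + k₂ : ℕ) : ℂ) = (k₁ : ℂ) := by push_cast; linear_combination h
    exact_mod_cast this.symm
  have hidx : N.index = 1 + d := by
    have h := congrFun hadd 1
    simp only [Pi.add_apply] at h
    rw [hπ1, hd] at h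
    exact_mod_cast h
  have hest := norm_estimate P N hPN hTI k₁ (by rw [← hπdef]; exact hk₁)
  have hle : Nat.card P * k₂ ≤ d := by
    rw [hk12, hidx] at hest
    nlinarith
  have hd0 := deg_eq_zero_of_norm_le hΨ (Nat.card P) d k₂ hcon hd hk₂ hle
  apply hN
  rw [← Subgroup.index_eq_one, hidx, hd0]

end bound

section main

open scoped Pointwise

/-- all irreducible character degrees are below `p` -/
def Small (p : ℕ) (G : Type u) [Group G] : Prop :=
  ∀ χ : IrrCharacter G, charDegree (χ : G → ℂ) < p

variable {G : Type u} [Group G] [Finite G]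

theorem small_subgroup {p : ℕ} (H : Subgroup G) (h : Small p G) : Small p H := by
  classical
  haveI : Fintype G := Fintype.ofFinite G
  haveI : Fintype H := Fintype.ofFinite H
  intro ψ
  obtain ⟨χ, hχ, hne⟩ := Cfsg.Agent.S0855.exists_over H ψ.2
  obtain ⟨η, hη, hadd⟩ := exists_add_of_classInner_ne_zero
    (isCharacter_restrict H (IsIrrCharacter.isCharacter hχ)) ψ.2 hne
  obtain ⟨k, hk⟩ := char_one_nat hη
  have h1 := congrFun hadd 1
  simp only [Pi.add_apply, OneMemClass.coe_one] at h1
  have hχ1 := (irr_one_eq ⟨χ, hχ⟩).1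
  have hψ1 := (irr_one_eq ψ).1
  simp only at hχ1
  rw [hχ1, hψ1, hk] at h1
  have h2 : charDegree χ = charDegree (ψ : H → ℂ) + k := by exact_mod_cast h1
  have h3 := h ⟨χ, hχ⟩
  simp only at h3
  omega

theorem small_quotient {p : ℕ} (N : Subgroup G) [N.Normal] (h : Small p G) :
    Small p (G ⧸ N) := by
  intro ψ
  rw [← charDegree_inflate N ψ]
  exact h _

theorem comm_of_small_pgroup {p : ℕ} (hp : p.Prime) (X : Type u) [Group X] [Finite X]
    (hX : IsPGroup p X) (h : Small p X) (a b : X) : a * b = b * a := by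
  haveI : Fact p.Prime := ⟨hp⟩
  apply Cfsg.Agent.S0855.comm_of_all_linear
  intro ψ
  obtain ⟨n, hn⟩ := IsPGroup.iff_card.mp hX
  have hdvd := irr_degree_dvd_card ψ
  rw [hn] at hdvd
  obtain ⟨j, _, hj⟩ := (Nat.dvd_prime_pow hp).mp hdvd
  have hlt := h ψ
  rcases Nat.eq_zero_or_pos j with h0 | hpos
  · rw [hj, h0, pow_zero]
  · exfalso
    rw [hj] at hlt
    have : p ≤ p ^ j := Nat.le_self_pow hpos.ne' p
    omega

theorem mem_conj_smul (H : Subgroup G) (g x : G) :
    x ∈ MulAut.conj g • H ↔ g⁻¹ * x * g ∈ H := by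
  rw [Subgroup.mem_pointwise_smul_iff_inv_smul_mem]
  simp [MulAut.smul_def]

theorem main (p : ℕ) (hp : p.Prime) : ∀ (n : ℕ) (G : Type u) [Group G] [Finite G],
    Nat.card G = n → Small p G →
    ∃ P : Subgroup G, P.Normal ∧ IsPGroup p P ∧ ¬ p ∣ P.index := by
  haveI : Fact p.Prime := ⟨hp⟩
  intro n
  induction n using Nat.strong_induction_on with
  | _ n ih =>
    intro G _ _ hn hsmall
    classical
    by_cases hA : ∃ D : Subgroup G, D.Normal ∧ IsPGroup p D ∧ D ≠ ⊥
    · obtain ⟨D, hDn, hDp, hD1⟩ := hA
      haveI := hDn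
      have hlt : Nat.card (G ⧸ D) < n := by
        rw [← hn, Subgroup.card_eq_card_quotient_mul_card_subgroup D]
        have h1 : 1 < Nat.card D := by
          rw [Subgroup.one_lt_card_iff_ne_bot]; exact hD1
        have h2 : 0 < Nat.card (G ⧸ D) := Nat.card_pos
        nlinarith
      obtain ⟨R, hRn, hRp, hRi⟩ := ih _ hlt (G ⧸ D) rfl (small_quotient D hsmall)
      refine ⟨R.comap (QuotientGroup.mk' D), hRn.comap _, ?_, ?_⟩
      · apply hRp.comap_of_ker_isPGroup
        rw [QuotientGroup.ker_mk']; exact hDp
      · rw [Subgroup.index_comap_of_surjective _ (QuotientGroup.mk'_surjective D)]; exact hRi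
    · push Not at hA
      let P : Sylow p G := default
      by_cases hP : (P : Subgroup G) = ⊥
      · refine ⟨⊥, inferInstance, IsPGroup.of_bot, ?_⟩
        rw [← hP]; exact P.not_dvd_index
      · exfalso
        have hab : ∀ Q : Sylow p G, ∀ a ∈ (Q : Subgroup G), ∀ b ∈ (Q : Subgroup G),
            a * b = b * a := by
          intro Q a ha b hb
          have := comm_of_small_pgroup hp ↥(Q : Subgroup G) Q.isPGroup'
            (small_subgroup _ hsmall) ⟨a, ha⟩ ⟨b, hb⟩
          exact congrArg Subtype.val this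
        have hsub : ∀ H : Subgroup G, H ≠ ⊤ → Subsingleton (Sylow p H) := by
          intro H hH
          have hlt : Nat.card H < n := by
            rw [← hn]
            exact lt_of_le_of_ne (Subgroup.card_le_card_group H)
              (fun h => hH (Subgroup.eq_top_of_card_eq H h))
          obtain ⟨R, hRn, hRp, hRi⟩ := ih _ hlt ↥H rfl (small_subgroup H hsmall)
          have hRSn : ((hRp.toSylow hRi : Sylow p H) : Subgroup H).Normal := by
            rw [IsPGroup.toSylow_coe]; exact hRn
          exact (Sylow.unique_of_normal (hRp.toSylow hRi) hRSn).instSubsingleton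
        have hTI : ∀ g : G, g • P = P ∨
            (P : Subgroup G) ⊓ ((g • P : Sylow p G) : Subgroup G) = ⊥ := by
          intro g
          by_contra hcon
          push Not at hcon
          obtain ⟨hne, hD⟩ := hcon
          set D := (P : Subgroup G) ⊓ ((g • P : Sylow p G) : Subgroup G) with hDdef
          set H := Subgroup.normalizer (D : Set G) with hHdef
          have hPH : (P : Subgroup G) ≤ H := by
            intro x hx
            apply Subgroup.centralizer_le_normalizer
            rw [Subgroup.mem_centralizer_iff]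
            intro d hd
            exact hab P d hd.1 x hx
          have hgPH : ((g • P : Sylow p G) : Subgroup G) ≤ H := by
            intro x hx
            apply Subgroup.centralizer_le_normalizer
            rw [Subgroup.mem_centralizer_iff]
            intro d hd
            exact hab (g • P) d hd.2 x hx
          by_cases hHtop : H = ⊤
          · have hDn : D.Normal := Subgroup.normalizer_eq_top_iff.mp hHtop
            exact hD (hA D hDn (P.isPGroup'.to_le inf_le_left))
          · haveI := hsub H hHtop
            have heq : P.subtype hPH = (g • P).subtype hgPH := Subsingleton.elim _ _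
            apply hne
            have h1 : ((P.subtype hPH : Sylow p H) : Subgroup H) =
                (((g • P).subtype hgPH : Sylow p H) : Subgroup H) := by rw [heq]
            rw [Sylow.coe_subtype, Sylow.coe_subtype] at h1
            apply Sylow.ext
            have h2 := congrArg (Subgroup.map H.subtype) h1
            rw [Subgroup.subgroupOf_map_subtype, Subgroup.subgroupOf_map_subtype,
              inf_of_le_left hPH, inf_of_le_left hgPH] at h2
            exact h2.symm
        set N := Subgroup.normalizer ((P : Subgroup G) : Set G) with hNdef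
        have hNtop : N ≠ ⊤ := by
          intro h
          have hPn : (P : Subgroup G).Normal := Subgroup.normalizer_eq_top_iff.mp h
          exact hP (hA _ hPn P.isPGroup')
        have hPN : (P : Subgroup G) ≤ N := Subgroup.le_normalizer
        have hfus : ∀ x ∈ (P : Subgroup G), x ≠ 1 → ∀ g : G, g⁻¹ * x * g ∈ N → g ∈ N := by
          intro x hx hx1 g hy
          have hyP : g⁻¹ * x * g ∈ (P : Subgroup G) := by
            obtain ⟨k, hk⟩ := P.isPGroup' ⟨x, hx⟩
            have hk' : x ^ (p ^ k) = 1 := by
              have := congrArg Subtype.val hk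
              simpa using this
            have hyk : (g⁻¹ * x * g) ^ (p ^ k) = 1 := by
              have h3 : g⁻¹ * x * g = g⁻¹ * x * g⁻¹⁻¹ := by rw [inv_inv]
              rw [h3, conj_pow, hk']; simp
            have hzp : IsPGroup p (Subgroup.zpowers (⟨g⁻¹ * x * g, hy⟩ : N)) := by
              rintro ⟨z, hz⟩
              obtain ⟨m, rfl⟩ := Subgroup.mem_zpowers_iff.mp hz
              refine ⟨k, ?_⟩
              apply Subtype.ext
              apply Subtype.ext
              simp only [Subgroup.coe_pow, Subgroup.coe_zpow, Subgroup.coe_one]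
              rw [← zpow_natCast, ← zpow_mul, mul_comm, zpow_mul, zpow_natCast, hyk, one_zpow]
            obtain ⟨Q, hQ⟩ := hzp.exists_le_sylow
            have hPNn : ((P.subtype hPN : Sylow p N) : Subgroup N).Normal := by
              rw [Sylow.coe_subtype]
              exact Subgroup.normal_in_normalizer
            haveI := (Sylow.unique_of_normal (P.subtype hPN) hPNn).instSubsingleton
            have hQP : Q = P.subtype hPN := Subsingleton.elim _ _
            have hmem : (⟨g⁻¹ * x * g, hy⟩ : N) ∈ (Q : Subgroup N) :=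
              hQ (Subgroup.mem_zpowers _)
            rw [hQP] at hmem
            have : (⟨g⁻¹ * x * g, hy⟩ : N) ∈ ((P.subtype hPN : Sylow p N) : Subgroup N) := hmem
            rw [Sylow.coe_subtype, Subgroup.mem_subgroupOf] at this
            exact this
          have hxg : x ∈ ((g • P : Sylow p G) : Subgroup G) := by
            rw [Sylow.coe_subgroup_smul]
            exact (mem_conj_smul _ g x).mpr hyP
          rcases hTI g with h1 | h1
          · exact Sylow.smul_eq_iff_mem_normalizer.mp h1
          · exfalso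
            have hmem : x ∈ (P : Subgroup G) ⊓ ((g • P : Sylow p G) : Subgroup G) := ⟨hx, hxg⟩
            rw [h1] at hmem
            exact hx1 (Subgroup.mem_bot.mp hmem)
        haveI : Fintype G := Fintype.ofFinite G
        obtain ⟨χ, hχ⟩ := ti_bound (P : Subgroup G) N hPN hNtop hfus
        have h1 := hsmall χ
        have hcard : p ≤ Nat.card (P : Subgroup G) := by
          obtain ⟨k, hk⟩ := IsPGroup.iff_card.mp P.isPGroup'
          rw [hk]
          have hk0 : k ≠ 0 := by
            intro h0
            rw [h0, pow_zero] at hk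
            exact hP (Subgroup.card_eq_one.mp hk)
          exact Nat.le_self_pow hk0 p
        omega

end main

/-- Let p be a prime and G a finite group all of whose irreducible character degrees are less than p. Then G has a normal abelian Sylow p-subgroup. -/
theorem result {G : Type*} [Group G] [Finite G] (p : ℕ) (hp : p.Prime) (hb : ∀ χ : Cfsg.IrrCharacter G, Cfsg.charDegree (χ : G → ℂ) < p) : ∃ P : Subgroup G, P.Normal ∧ (∀ x ∈ P, ∀ y ∈ P, x * y = y * x) ∧ IsPGroup p P ∧ ¬ p ∣ P.index := by
  obtain ⟨P, hPn, hPp, hPi⟩ := main p hp (Nat.card G) G rfl hb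
  refine ⟨P, hPn, ?_, hPp, hPi⟩
  intro x hx y hy
  have := comm_of_small_pgroup hp ↥P hPp (small_subgroup P hb) ⟨x, hx⟩ ⟨y, hy⟩
  exact congrArg Subtype.val this

end Cfsg.Agent.S4464
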