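import Cfsg.Statements.S1978
import Cfsg.Agent.Lib.Helper33.KMax

set_option autoImplicit false
open Cfsg Cfsg.Agent.Helper33 Pointwise

namespace Cfsg.Agent.S1978

/-- Let P be a finite p-group. Each of the two K-infinity subgroups of P contains its own centralizer in P, which in turn contains Z(P); in particular both are nontrivial when P is. -/
theorem result {P : Type*} [Group P] [Finite P] {p : ℕ} [Fact p.Prime] (hP : IsPGroup p P) : Subgroup.centralizer (Cfsg.kInfLower P : Set P) ≤ Cfsg.kInfLower P ∧ Subgroup.center P ≤ Subgroup.centralizer (Cfsg.kInfLower P : Set P) ∧ Subgroup.centralizer (Cfsg.kInfUpper P : Set P) ≤ Cfsg.kInfUpper P ∧ Subgroup.center P ≤ Subgroup.centralizer (Cfsg.kInfUpper P : Set P) := by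
  obtain ⟨n₀, hn₀⟩ := kSeq_stabilize (P := P)
  have key : ∀ 𝒦 : Set (Subgroup P), (𝒦 = Cfsg.classTwoSubgroups P ∨
      (∃ Q, 𝒦 = Cfsg.kLowerStarFamily Q) ∨ ∃ Q, 𝒦 = Cfsg.kUpperStarFamily Q) →
      (⊥ : Subgroup P) ∈ 𝒦 → Subgroup.centralizer ((sSup 𝒦 : Subgroup P) : Set P) ≤ sSup 𝒦 := by
    intro 𝒦 h𝒦 hbot
    obtain ⟨B, -, hB⟩ := (Set.toFinite 𝒦).exists_le_maximal hbot
    have hBmem : B ∈ 𝒦 := hB.1
    have hmax : ∀ C ∈ 𝒦, B ≤ C → C = B := fun C hC hBC => le_antisymm (hB.2 hC hBC) hBC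
    have h1 := centralizer_le_of_maximal hP B 𝒦 h𝒦 hBmem hmax
    have hBle : B ≤ sSup 𝒦 := le_sSup hBmem
    exact (Subgroup.centralizer_le (by exact_mod_cast hBle)).trans (h1.trans hBle)
  have hbotc : IsMulCommutative ↥(⊥ : Subgroup P) := by
    refine ⟨⟨fun a b => ?_⟩⟩
    have ha : a = 1 := Subsingleton.elim _ _
    have hb : b = 1 := Subsingleton.elim _ _
    rw [ha, hb]
  refine ⟨?_, ?_, ?_, ?_⟩
  · rw [← (hn₀ n₀ le_rfl).1]
    exact key _ (Or.inr (Or.inl ⟨_, rfl⟩)) (abelian_normal_mem_lower ⊥ hbotc _)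
  · exact Subgroup.center_le_centralizer _
  · rw [← (hn₀ (n₀ + 1) (Nat.le_succ _)).2, kSeqOdd_succ']
    exact key _ (Or.inr (Or.inr ⟨_, rfl⟩)) (abelian_normal_mem_upper ⊥ hbotc _)
  · exact Subgroup.center_le_centralizer _

end Cfsg.Agent.S1978
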