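import Cfsg.Statements.S1972
import Cfsg.Agent.Lib.Helper33.EngelE

set_option autoImplicit false
universe u
open Cfsg Cfsg.Agent.Helper33 Pointwise

namespace Cfsg.Agent.S1972

/-- Let p be a prime, G a finite group and W an isomorphism-invariant p-group functor (W assigns to every group Q a subgroup W(Q), nontrivial whenever Q is a nontrivial finite p-group, and every isomorphism from a finite p-group Q onto a group R carries W(Q) onto W(R)). Suppose that whenever G* = K/R is a section of G with C_{G*}(O_p(G*)) ≤ O_p(G*) and S* is a Sylow p-subgroup of G* with W(S*) not normal in G*, there is an element g of S* outside O_p(G*) such that [X, g, …, g] ≤ Y with p − 1 entries g, for every chief factor X/Y of G* with X ≤ O_p(G*). Then W controls transfer in every section of G. -/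
theorem result {G : Type u} [Group G] [Finite G] {p : ℕ} [Fact p.Prime] (W : ∀ (Q : Type u) [Group Q], Subgroup Q) (hW : Cfsg.IsCharPFunctor.{u} p W) (hloc : ∀ (K R : Subgroup G) [hR : (R.subgroupOf K).Normal], Subgroup.centralizer ((Cfsg.pCore p (↥K ⧸ R.subgroupOf K) : Subgroup (↥K ⧸ R.subgroupOf K)) : Set (↥K ⧸ R.subgroupOf K)) ≤ Cfsg.pCore p (↥K ⧸ R.subgroupOf K) → ∀ T : Sylow p (↥K ⧸ R.subgroupOf K), ¬ (Cfsg.inducedFunctor (G := (↥K ⧸ R.subgroupOf K)) W ((T : Subgroup (↥K ⧸ R.subgroupOf K)))).Normal → ∃ g : (↥K ⧸ R.subgroupOf K), g ∈ (T : Subgroup (↥K ⧸ R.subgroupOf K)) ∧ g ∉ Cfsg.pCore p (↥K ⧸ R.subgroupOf K) ∧ ∀ U V : Subgroup (↥K ⧸ R.subgroupOf K), Cfsg.IsChiefFactor U V → U ≤ Cfsg.pCore p (↥K ⧸ R.subgroupOf K) → Cfsg.iterCommutator U (Subgroup.zpowers g) (p - 1) ≤ V) : ∀ (K R : Subgroup G) [hR : (R.subgroupOf K).Normal], Cfsg.ControlsTransferIn p (Cfsg.inducedFunctor (G := (↥K ⧸ R.subgroupOf K)) W) ⊤ := by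
  classical
  have h𝓦 := singleton_charP (p := p) hW
  have hiso : ∀ n : ℕ, IsoInvFin (fun (H : Type u) [Group H] =>
      Nat.card H < n → FamilyControlsTransferIn p (indFam {W} H) ⊤) := by
    intro n Q R _ _ _ φ hQ hlt
    exact fct_isoInv h𝓦 Q R φ (hQ (by rwa [Nat.card_congr φ.toEquiv]))
  have key : ∀ n : ℕ, SecHave (fun (H : Type u) [Group H] =>
      Nat.card H < n → FamilyControlsTransferIn p (indFam {W} H) ⊤) G := by
    intro n
    induction n with
    | zero => intro K R _ h; exact absurd h (Nat.not_lt_zero _)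
    | succ n ih =>
      intro K R hR hlt
      by_cases hlt' : Nat.card (↥K ⧸ R.subgroupOf K) < n
      · exact ih K R hlt'
      have hcard : Nat.card (↥K ⧸ R.subgroupOf K) = n := by omega
      by_contra hfail
      have hsecH := (ih.subgroup (hiso n) K).quotient (hiso n) (R.subgroupOf K)
      have hmf : Engel.MinFail p {W} (↥K ⧸ R.subgroupOf K) := by
        apply Engel.minFail_of_sections h𝓦 ⟨W, rfl⟩ _ hfail
        intro K' R' hR' hKR
        apply hsecH K' R'
        rw [← hcard]
        by_cases hK' : K' = ⊤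
        · subst hK'
          have hR'ne := hKR rfl
          have hne : R'.subgroupOf ⊤ ≠ ⊥ := by
            intro h0
            apply hR'ne
            rw [eq_bot_iff]
            intro x hx
            have : (⟨x, Subgroup.mem_top x⟩ : ↥(⊤ : Subgroup (↥K ⧸ R.subgroupOf K))) ∈
                R'.subgroupOf ⊤ := hx
            rw [h0, Subgroup.mem_bot] at this
            rw [Subgroup.mem_bot]
            exact congrArg Subtype.val this
          calc Nat.card (↥(⊤ : Subgroup (↥K ⧸ R.subgroupOf K)) ⧸ R'.subgroupOf ⊤)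
              < Nat.card ↥(⊤ : Subgroup (↥K ⧸ R.subgroupOf K)) := card_quotient_lt _ hne
            _ = Nat.card (↥K ⧸ R.subgroupOf K) := Subgroup.card_top
        · exact lt_of_le_of_lt (card_quotient_le _) (card_subgroup_lt K' hK')
      obtain ⟨S'⟩ : Nonempty (Sylow p (↥K ⧸ R.subgroupOf K)) := inferInstance
      have hnn := hmf.not_normal S' W rfl
      obtain ⟨g, hgS, hgP, hg⟩ := hloc K R hmf.constr S' hnn
      obtain ⟨U, V, hUV, hUP, hbad⟩ := hmf.engel S' g hgS hgP
      exact hbad (hg U V hUV hUP)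
  intro K R hR
  exact controlsTransferIn_of_fct
    (key (Nat.card (↥K ⧸ R.subgroupOf K) + 1) K R (Nat.lt_succ_self _))

end Cfsg.Agent.S1972
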