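import Cfsg.Statements.S4108
-- import your own Cfsg.Agent.* helpers here

set_option autoImplicit false
open Cfsg

namespace Cfsg.Agent.S4108

open scoped Pointwise

theorem mem_conj_smul_iff {L : Type*} [Group L] (K : Subgroup L) (g x : L) :
    x ∈ MulAut.conj g • K ↔ g⁻¹ * x * g ∈ K := by
  rw [Subgroup.mem_pointwise_smul_iff_inv_smul_mem]
  simp [MulAut.smul_def]

theorem frob_aux {L : Type*} [Group L] [Finite L] (N' H' : Subgroup L) [hNn : N'.Normal]
    (hdec : ∀ x : L, ∃ n ∈ N', ∃ h ∈ H', x = n * h)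
    (hint : ∀ y : L, y ∈ N' → y ∈ H' → y = 1)
    (hfpf : ∀ h ∈ H', h ≠ 1 → ∀ n ∈ N', n * h = h * n → n = 1)
    (hN : N' ≠ ⊥) (hH : H' ≠ ⊥) :
    Cfsg.IsFrobeniusComplement H' ∧ Cfsg.frobeniusKernel H' = (N' : Set L) := by
  constructor
  · refine ⟨hH, ?_, ?_⟩
    · rintro rfl
      apply hN
      rw [eq_bot_iff]
      intro y hy
      exact Subgroup.mem_bot.mpr (hint y hy trivial)
    · intro g hg
      rw [eq_bot_iff]
      rintro y ⟨hyH, hyg⟩
      rw [Subgroup.mem_bot]
      have hyg' : g⁻¹ * y * g ∈ H' := (mem_conj_smul_iff H' g y).mp hyg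
      obtain ⟨n, hn, h, hh, rfl⟩ := hdec g
      have hn1 : n ≠ 1 := by
        rintro rfl
        apply hg
        simpa using hh
      have h1 : n⁻¹ * y * n ∈ H' := by
        have : h * ((n * h)⁻¹ * y * (n * h)) * h⁻¹ ∈ H' :=
          H'.mul_mem (H'.mul_mem hh hyg') (H'.inv_mem hh)
        have e : h * ((n * h)⁻¹ * y * (n * h)) * h⁻¹ = n⁻¹ * y * n := by group
        rwa [e] at this
      have h2 : y⁻¹ * (n⁻¹ * y * n) = 1 := by
        apply hint
        · have : y⁻¹ * n⁻¹ * y⁻¹⁻¹ ∈ N' := hNn.conj_mem _ (N'.inv_mem hn) y⁻¹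
          have h3 := N'.mul_mem this hn
          have e : y⁻¹ * n⁻¹ * y⁻¹⁻¹ * n = y⁻¹ * (n⁻¹ * y * n) := by group
          rwa [e] at h3
        · exact H'.mul_mem (H'.inv_mem hyH) h1
      by_contra hy1
      apply hn1
      apply hfpf y hyH hy1 n hn
      have h4 : n⁻¹ * y * n = y := by
        have := inv_mul_eq_one.mp h2
        exact this.symm
      calc n * y = n * (n⁻¹ * y * n) := by rw [h4]
        _ = y * n := by group
  · ext x
    constructor
    · rintro (rfl | hx)
      · exact N'.one_mem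
      · by_contra hxN
        obtain ⟨n, hn, h, hh, rfl⟩ := hdec x
        have hh1 : h ≠ 1 := by
          rintro rfl
          apply hxN
          simpa using hn
        let f : N' → N' := fun u => ⟨(u : L) * h * (u : L)⁻¹ * h⁻¹, by
          have : h * (u : L)⁻¹ * h⁻¹ ∈ N' := hNn.conj_mem _ (N'.inv_mem u.2) h
          have h3 : (u : L) * (h * (u : L)⁻¹ * h⁻¹) ∈ N' := N'.mul_mem u.2 this
          have h4 : (u : L) * h * (u : L)⁻¹ * h⁻¹ = (u : L) * (h * (u : L)⁻¹ * h⁻¹) := by group
          rw [h4]; exact h3⟩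
        have finj : Function.Injective f := by
          intro u v huv
          have h1 : (u : L) * h * (u : L)⁻¹ * h⁻¹ = (v : L) * h * (v : L)⁻¹ * h⁻¹ :=
            congrArg Subtype.val huv
          have h2 : (u : L) * h * (u : L)⁻¹ = (v : L) * h * (v : L)⁻¹ := mul_right_cancel h1
          have h3 : ((v : L)⁻¹ * (u : L)) * h = h * ((v : L)⁻¹ * (u : L)) := by
            have : (v : L)⁻¹ * ((u : L) * h * (u : L)⁻¹) * (u : L) =
                (v : L)⁻¹ * ((v : L) * h * (v : L)⁻¹) * (u : L) := by rw [h2]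
            have e1 : (v : L)⁻¹ * ((u : L) * h * (u : L)⁻¹) * (u : L) =
                ((v : L)⁻¹ * (u : L)) * h := by group
            have e2 : (v : L)⁻¹ * ((v : L) * h * (v : L)⁻¹) * (u : L) =
                h * ((v : L)⁻¹ * (u : L)) := by group
            rw [e1, e2] at this
            exact this
          have h4 := hfpf h hh hh1 _ (N'.mul_mem (N'.inv_mem v.2) u.2) h3
          apply Subtype.ext
          have := inv_mul_eq_one.mp h4
          exact this.symm
        have fsurj : Function.Surjective f := Finite.injective_iff_surjective.mp finj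
        obtain ⟨u, hu⟩ := fsurj ⟨n, hn⟩
        have hu' : (u : L) * h * (u : L)⁻¹ * h⁻¹ = n := congrArg Subtype.val hu
        apply hx (u : L)
        rw [mem_conj_smul_iff]
        have e : (u : L)⁻¹ * (n * h) * (u : L) = h := by
          rw [← hu']; group
        rw [e]; exact hh
    · intro hxN
      by_cases hx1 : x = 1
      · exact Or.inl hx1
      · right
        intro g hg
        rw [mem_conj_smul_iff] at hg
        apply hx1
        have h1 : g⁻¹ * x * g ∈ N' := by
          have := hNn.conj_mem x hxN g⁻¹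
          simpa using this
        have h2 := hint _ h1 hg
        have e : x = g * (g⁻¹ * x * g) * g⁻¹ := by group
        rw [e, h2]; group

/-- Let G be a finite group, p a prime and N a proper non-trivial normal p-subgroup such that for every x outside N all elements of the coset xN have the same order as x. Then every non-trivial subgroup H of G of order prime to p acts fixed-point-freely on N: NH is a Frobenius group with complement H and kernel N. -/
theorem result {G : Type*} [Group G] [Finite G] (N : Subgroup G) [N.Normal] (hN1 : N ≠ ⊥) (hN2 : N ≠ ⊤)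
    (heq : ∀ x : G, x ∉ N → ∀ n ∈ N, orderOf (x * n) = orderOf x)
    (p : ℕ) [Fact p.Prime] (hNp : IsPGroup p N) :
    ∀ H : Subgroup G, H ≠ ⊥ → (Nat.card H).Coprime p →
      Cfsg.IsFrobeniusComplement (H.subgroupOf (N ⊔ H)) ∧ Cfsg.frobeniusKernel (H.subgroupOf (N ⊔ H)) = (N.subgroupOf (N ⊔ H) : Set ↥(N ⊔ H)) := by
  intro H hH1 hHp
  have hNn : N.Normal := inferInstance
  -- elements of `N ⊓ H` are trivial
  have hint : ∀ y : G, y ∈ N → y ∈ H → y = 1 := by
    intro y hyN hyH
    obtain ⟨a, ha⟩ := (IsPGroup.iff_orderOf.mp hNp) ⟨y, hyN⟩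
    rw [Subgroup.orderOf_mk] at ha
    have h1 : orderOf y ∣ Nat.card H := by
      have := orderOf_dvd_natCard (⟨y, hyH⟩ : H)
      rwa [Subgroup.orderOf_mk] at this
    have h2 : (orderOf y).Coprime (orderOf y) := by
      have h3 : (orderOf y).Coprime (p ^ a) :=
        Nat.Coprime.pow_right _ (Nat.Coprime.coprime_dvd_left h1 hHp)
      rw [← ha] at h3
      exact h3
    rw [Nat.coprime_self] at h2
    exact orderOf_eq_one_iff.mp h2
  have hfpf : ∀ h ∈ H, h ≠ 1 → ∀ n ∈ N, n * h = h * n → n = 1 := by
    intro h hh hh1 n hn hcomm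
    have hhN : h ∉ N := fun hhN => hh1 (hint h hhN hh)
    have h1 : orderOf (h * n) = orderOf h := heq h hhN n hn
    obtain ⟨a, ha⟩ := (IsPGroup.iff_orderOf.mp hNp) ⟨n, hn⟩
    rw [Subgroup.orderOf_mk] at ha
    have h2 : orderOf h ∣ Nat.card H := by
      have := orderOf_dvd_natCard (⟨h, hh⟩ : H)
      rwa [Subgroup.orderOf_mk] at this
    have hcop : (orderOf h).Coprime (orderOf n) := by
      rw [ha]
      exact Nat.Coprime.pow_right _ (Nat.Coprime.coprime_dvd_left h2 hHp)
    have hc : Commute h n := hcomm.symm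
    have h3 := hc.orderOf_mul_eq_mul_orderOf_of_coprime hcop
    rw [h1] at h3
    have hpos : 0 < orderOf h := orderOf_pos h
    have h4 : orderOf n = 1 := by
      have : orderOf h * 1 = orderOf h * orderOf n := by rw [mul_one]; exact h3
      exact (Nat.eq_of_mul_eq_mul_left hpos this).symm
    exact orderOf_eq_one_iff.mp h4
  have hnorm : (N.subgroupOf (N ⊔ H)).Normal := inferInstance
  apply frob_aux (N.subgroupOf (N ⊔ H)) (H.subgroupOf (N ⊔ H))
  · intro x
    have hx : (x : G) ∈ ((N ⊔ H : Subgroup G) : Set G) := x.2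
    rw [Subgroup.normal_mul] at hx
    obtain ⟨n, hn, h, hh, hnh⟩ := hx
    refine ⟨⟨n, le_sup_left (a := N) (b := H) hn⟩, ?_, ⟨h, le_sup_right (a := N) (b := H) hh⟩, ?_, ?_⟩
    · rw [Subgroup.mem_subgroupOf]; exact hn
    · rw [Subgroup.mem_subgroupOf]; exact hh
    · apply Subtype.ext
      simpa using hnh.symm
  · intro y hyN hyH
    rw [Subgroup.mem_subgroupOf] at hyN hyH
    apply Subtype.ext
    simpa using hint _ hyN hyH
  · intro h hh hh1 n hn hcomm
    rw [Subgroup.mem_subgroupOf] at hh hn
    apply Subtype.ext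
    have hh1' : (h : G) ≠ 1 := by
      intro h0
      apply hh1
      apply Subtype.ext
      simpa using h0
    have hcomm' : (n : G) * (h : G) = (h : G) * (n : G) := by
      have := congrArg Subtype.val hcomm
      simpa using this
    simpa using hfpf _ hh hh1' _ hn hcomm'
  · intro hbot
    apply hN1
    rw [eq_bot_iff]
    intro n hn
    have : (⟨n, le_sup_left (a := N) (b := H) hn⟩ : ↥(N ⊔ H)) ∈ N.subgroupOf (N ⊔ H) := by
      rw [Subgroup.mem_subgroupOf]; exact hn
    rw [hbot, Subgroup.mem_bot] at this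
    have := congrArg Subtype.val this
    simpa using this
  · intro hbot
    apply hH1
    rw [eq_bot_iff]
    intro h hh
    have : (⟨h, le_sup_right (a := N) (b := H) hh⟩ : ↥(N ⊔ H)) ∈ H.subgroupOf (N ⊔ H) := by
      rw [Subgroup.mem_subgroupOf]; exact hh
    rw [hbot, Subgroup.mem_bot] at this
    have := congrArg Subtype.val this
    simpa using this

end Cfsg.Agent.S4108
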