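import Cfsg.Statements.S2530
import Mathlib

set_option autoImplicit false
open Cfsg

namespace Cfsg.Agent.S2530

section abstract

variable {W : Type*} [Group W] (u : ℕ → W) (n : ℕ)

/-- ascending products `u 0 * u 1 * ... * u (t-1)` -/
def d : ℕ → W
  | 0 => 1
  | t + 1 => d t * u t

variable (h1 : ∀ i, i ≤ n → u i * u i = 1)
  (h2 : ∀ i j, i + 2 ≤ j → j ≤ n → u i * u j = u j * u i)
  (h3 : ∀ i, i + 1 ≤ n → u i * u (i + 1) * u i = u (i + 1) * u i * u (i + 1))

include h2 in
theorem d_comm (t k : ℕ) (htk : t < k) (hk : k ≤ n) : d u t * u k = u k * d u t := by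
  induction t with
  | zero => simp [d]
  | succ t ih =>
    have := ih (by omega)
    calc d u (t + 1) * u k = d u t * (u t * u k) := by simp [d, mul_assoc]
      _ = d u t * (u k * u t) := by rw [h2 t k (by omega) hk]
      _ = (d u t * u k) * u t := by rw [mul_assoc]
      _ = u k * d u t * u t := by rw [this]
      _ = u k * d u (t + 1) := by simp [d, mul_assoc]

include h2 h3 in
theorem d_shift (t k : ℕ) (hkt : k + 2 ≤ t) (ht : t ≤ n + 1) :
    d u t * u k = u (k + 1) * d u t := by
  induction t with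
  | zero => omega
  | succ s ih =>
    by_cases hs : k + 2 ≤ s
    · have := ih hs (by omega)
      calc d u (s + 1) * u k = d u s * (u s * u k) := by simp [d, mul_assoc]
        _ = d u s * (u k * u s) := by rw [h2 k s hs (by omega)]
        _ = (d u s * u k) * u s := by rw [mul_assoc]
        _ = u (k + 1) * d u s * u s := by rw [this]
        _ = u (k + 1) * d u (s + 1) := by simp [d, mul_assoc]
    · have hsk : s = k + 1 := by omega
      subst hsk
      have hc := d_comm u n h2 k (k + 1) (by omega) (by omega)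
      calc d u (k + 1 + 1) * u k = d u k * (u k * u (k + 1) * u k) := by simp [d, mul_assoc]
        _ = d u k * (u (k + 1) * u k * u (k + 1)) := by rw [h3 k (by omega)]
        _ = (d u k * u (k + 1)) * (u k * u (k + 1)) := by simp [mul_assoc]
        _ = u (k + 1) * d u k * (u k * u (k + 1)) := by rw [hc]
        _ = u (k + 1) * d u (k + 1 + 1) := by simp [d, mul_assoc]

include h1 h2 h3 in
theorem coset_closed (H : Subgroup W) (hH : ∀ k, 1 ≤ k → k ≤ n → u k ∈ H)
    (w : W) (hw : ∃ t, t ≤ n + 1 ∧ ∃ h ∈ H, w = h * d u t) (k : ℕ) (hk : k ≤ n) :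
    ∃ t, t ≤ n + 1 ∧ ∃ h ∈ H, w * u k = h * d u t := by
  obtain ⟨t, ht, h, hh, rfl⟩ := hw
  rcases lt_trichotomy t k with hlt | heq | hgt
  · refine ⟨t, ht, h * u k, H.mul_mem hh (hH k (by omega) hk), ?_⟩
    rw [mul_assoc, d_comm u n h2 t k hlt hk, mul_assoc]
  · subst heq
    exact ⟨t + 1, by omega, h, hh, by simp [d, mul_assoc]⟩
  · by_cases hkt : k + 2 ≤ t
    · refine ⟨t, ht, h * u (k + 1), H.mul_mem hh (hH (k + 1) (by omega) (by omega)), ?_⟩
      rw [mul_assoc, d_shift u n h2 h3 t k hkt ht, mul_assoc]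
    · have : t = k + 1 := by omega
      subst this
      refine ⟨k, by omega, h, hh, ?_⟩
      simp [d, mul_assoc, h1 k hk]

end abstract


section grouplemmas

variable {W : Type*} [Group W]

theorem comm_of_sq {a b : W} (ha : a * a = 1) (hb : b * b = 1) (h : (a * b) ^ 2 = 1) :
    a * b = b * a := by
  have ha' : a⁻¹ = a := inv_eq_of_mul_eq_one_right ha
  have hb' : b⁻¹ = b := inv_eq_of_mul_eq_one_right hb
  have h2 : (a * b) * (a * b) = 1 := by rw [← pow_two]; exact h
  have h3 : a * b = (a * b)⁻¹ := eq_inv_of_mul_eq_one_left h2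
  rw [h3, mul_inv_rev, ha', hb']

theorem braid_of_cube {a b : W} (ha : a * a = 1) (hb : b * b = 1) (h : (a * b) ^ 3 = 1) :
    a * b * a = b * a * b := by
  have ha' : a⁻¹ = a := inv_eq_of_mul_eq_one_right ha
  have hb' : b⁻¹ = b := inv_eq_of_mul_eq_one_right hb
  have h2 : (a * b * a) * (b * a * b) = 1 := by
    rw [← h]; simp [pow_succ, mul_assoc]
  have h3 : a * b * a = (b * a * b)⁻¹ := eq_inv_of_mul_eq_one_left h2
  rw [h3, mul_inv_rev, mul_inv_rev, ha', hb', mul_assoc]

end grouplemmas

section coxeter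

open CoxeterMatrix CoxeterSystem

theorem A_apply (n : ℕ) (i j : Fin n) : CoxeterMatrix.A n i j =
    if i = j then 1 else (if (j : ℕ) + 1 = i ∨ (i : ℕ) + 1 = j then 3 else 2) := rfl

/-- the canonical Coxeter system -/
noncomputable abbrev cs (n : ℕ) : CoxeterSystem (CoxeterMatrix.A n) (CoxeterMatrix.A n).Group :=
  (CoxeterMatrix.A n).toCoxeterSystem

/-- reversed generators -/
noncomputable def uu (n : ℕ) (i : ℕ) : (CoxeterMatrix.A (n + 1)).Group :=
  if h : i ≤ n then (cs (n + 1)).simple ⟨n - i, by omega⟩ else 1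

theorem uu_h1 (n : ℕ) : ∀ i, i ≤ n → uu n i * uu n i = 1 := by
  intro i hi
  simp only [uu, hi, dif_pos]
  exact (cs (n + 1)).simple_mul_simple_self _

theorem uu_h2 (n : ℕ) : ∀ i j, i + 2 ≤ j → j ≤ n → uu n i * uu n j = uu n j * uu n i := by
  intro i j hij hj
  have hi : i ≤ n := by omega
  simp only [uu, hi, hj, dif_pos]
  apply comm_of_sq ((cs (n + 1)).simple_mul_simple_self _) ((cs (n + 1)).simple_mul_simple_self _)
  have := (cs (n + 1)).simple_mul_simple_pow ⟨n - i, by omega⟩ ⟨n - j, by omega⟩
  have hM : CoxeterMatrix.A (n + 1) ⟨n - i, by omega⟩ ⟨n - j, by omega⟩ = 2 := by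
    rw [A_apply]
    simp only [Fin.mk.injEq]
    rw [if_neg (by omega), if_neg (by omega)]
  rw [hM] at this
  exact this

theorem uu_h3 (n : ℕ) : ∀ i, i + 1 ≤ n →
    uu n i * uu n (i + 1) * uu n i = uu n (i + 1) * uu n i * uu n (i + 1) := by
  intro i hi1
  have hi : i ≤ n := by omega
  simp only [uu, hi, hi1, dif_pos]
  apply braid_of_cube ((cs (n + 1)).simple_mul_simple_self _) ((cs (n + 1)).simple_mul_simple_self _)
  have := (cs (n + 1)).simple_mul_simple_pow ⟨n - i, by omega⟩ ⟨n - (i + 1), by omega⟩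
  have hM : CoxeterMatrix.A (n + 1) ⟨n - i, by omega⟩ ⟨n - (i + 1), by omega⟩ = 3 := by
    rw [A_apply]
    simp only [Fin.mk.injEq]
    rw [if_neg (by omega), if_pos (by omega)]
  rw [hM] at this
  exact this

theorem iota_liftable (n : ℕ) :
    (CoxeterMatrix.A n).IsLiftable (fun i : Fin n => (cs (n + 1)).simple i.castSucc) := by
  intro i i'
  have := (cs (n + 1)).simple_mul_simple_pow i.castSucc i'.castSucc
  have hM : CoxeterMatrix.A (n + 1) i.castSucc i'.castSucc = CoxeterMatrix.A n i i' := by
    rw [A_apply, A_apply]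
    simp [Fin.ext_iff]
  rw [hM] at this
  exact this

/-- the inclusion of the smaller Coxeter group -/
noncomputable def iota (n : ℕ) : (CoxeterMatrix.A n).Group →* (CoxeterMatrix.A (n + 1)).Group :=
  (cs n).lift ⟨_, iota_liftable n⟩

theorem iota_simple (n : ℕ) (i : Fin n) : iota n ((cs n).simple i) = (cs (n + 1)).simple i.castSucc :=
  lift_apply_simple (cs n) (iota_liftable n) i

theorem uu_mem_range (n : ℕ) : ∀ k, 1 ≤ k → k ≤ n → uu n k ∈ (iota n).range := by
  intro k hk1 hkn
  refine ⟨(cs n).simple ⟨n - k, by omega⟩, ?_⟩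
  rw [iota_simple]
  simp only [uu, hkn, dif_pos]
  rfl

theorem cover (n : ℕ) (w : (CoxeterMatrix.A (n + 1)).Group) :
    ∃ t, t ≤ n + 1 ∧ ∃ h ∈ (iota n).range, w = h * d (uu n) t := by
  refine (cs (n + 1)).simple_induction_right
    (p := fun w => ∃ t, t ≤ n + 1 ∧ ∃ h ∈ (iota n).range, w = h * d (uu n) t) w
    ⟨0, by omega, 1, Subgroup.one_mem _, by simp [d]⟩ ?_
  intro w i hw
  have hi : (cs (n + 1)).simple i = uu n (n - i) := by
    have h1 : n - (i : ℕ) ≤ n := by omega
    simp only [uu, h1, dif_pos]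
    congr 1
    apply Fin.ext
    show (i : ℕ) = n - (n - i)
    have := i.2
    omega
  rw [hi]
  exact coset_closed (uu n) n (uu_h1 n) (uu_h2 n) (uu_h3 n) _ (uu_mem_range n) w hw (n - i) (by omega)

theorem card_bound : ∀ n : ℕ, Finite (CoxeterMatrix.A n).Group ∧
    Nat.card (CoxeterMatrix.A n).Group ≤ (n + 1).factorial := by
  intro n
  induction n with
  | zero =>
    have hsub : ∀ w : (CoxeterMatrix.A 0).Group, w = 1 := by
      intro w
      exact (cs 0).simple_induction_right (p := fun w => w = 1) w rfl (fun w i _ => i.elim0)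
    have : Subsingleton (CoxeterMatrix.A 0).Group := ⟨fun a b => by rw [hsub a, hsub b]⟩
    refine ⟨inferInstance, ?_⟩
    rw [Nat.card_unique]
    simp
  | succ n ih =>
    obtain ⟨hfin, hcard⟩ := ih
    have hHfin : Finite (iota n).range :=
      Finite.of_surjective (iota n).rangeRestrict (iota n).rangeRestrict_surjective
    have hHcard : Nat.card (iota n).range ≤ (n + 1).factorial :=
      (Nat.card_le_card_of_surjective (iota n).rangeRestrict (iota n).rangeRestrict_surjective).trans hcard
    let g : Fin (n + 2) × (iota n).range → (CoxeterMatrix.A (n + 1)).Group :=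
      fun p => (p.2 : (CoxeterMatrix.A (n + 1)).Group) * d (uu n) p.1
    have hg : Function.Surjective g := by
      intro w
      obtain ⟨t, ht, h, hh, rfl⟩ := cover n w
      exact ⟨(⟨t, by omega⟩, ⟨h, hh⟩), rfl⟩
    have hfin' : Finite (CoxeterMatrix.A (n + 1)).Group := Finite.of_surjective g hg
    refine ⟨hfin', ?_⟩
    calc Nat.card (CoxeterMatrix.A (n + 1)).Group ≤ Nat.card (Fin (n + 2) × (iota n).range) :=
          Nat.card_le_card_of_surjective g hg
      _ = (n + 2) * Nat.card (iota n).range := by rw [Nat.card_prod, Nat.card_fin]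
      _ ≤ (n + 2) * (n + 1).factorial := Nat.mul_le_mul_left _ hHcard
      _ = (n + 1 + 1).factorial := by rw [Nat.factorial_succ (n + 1)]

theorem fin_ne {m : ℕ} {a b : Fin m} (h : (a : ℕ) ≠ b) : a ≠ b := fun h' => h (congrArg Fin.val h')

theorem phi_liftable (n : ℕ) :
    (CoxeterMatrix.A n).IsLiftable (fun i : Fin n => Equiv.swap i.castSucc i.succ) := by
  intro i i'
  rw [A_apply]
  by_cases h : i = i'
  · subst h
    simp
  · rw [if_neg h]
    have hne : (i : ℕ) ≠ i' := fun h' => h (Fin.ext h')
    have a1 : i.castSucc ≠ i.succ := fin_ne (by simp)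
    have a6 : i'.castSucc ≠ i'.succ := fin_ne (by simp)
    have a2 : i.castSucc ≠ i'.castSucc := fin_ne (by simpa using hne)
    have a5 : i.succ ≠ i'.succ := fin_ne (by simpa using hne)
    by_cases hadj : (i' : ℕ) + 1 = i ∨ (i : ℕ) + 1 = i'
    · rw [if_pos hadj]
      have h3 : (Equiv.swap i.castSucc i.succ * Equiv.swap i'.castSucc i'.succ).IsThreeCycle := by
        rcases hadj with hadj | hadj
        · have e1 : i.castSucc = i'.succ := by
            apply Fin.ext; simp; omega
          have a3 : i'.succ ≠ i.succ := fun h' => a5 h'.symm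
          have a4 : i'.succ ≠ i'.castSucc := fun h' => a6 h'.symm
          have a7 : i.succ ≠ i'.castSucc := fin_ne (by simp; omega)
          rw [e1, Equiv.swap_comm i'.castSucc i'.succ]
          exact Equiv.Perm.isThreeCycle_swap_mul_swap_same a3 a4 a7
        · have e1 : i.succ = i'.castSucc := by
            apply Fin.ext; simp; omega
          have a3 : i'.castSucc ≠ i.castSucc := fun h' => a2 h'.symm
          have a7 : i.castSucc ≠ i'.succ := fin_ne (by simp; omega)
          rw [e1, Equiv.swap_comm i.castSucc i'.castSucc]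
          exact Equiv.Perm.isThreeCycle_swap_mul_swap_same a3 a6 a7
      have := h3.orderOf
      show (Equiv.swap i.castSucc i.succ * Equiv.swap i'.castSucc i'.succ) ^ 3 = 1
      rw [← this]
      exact pow_orderOf_eq_one _
    · rw [if_neg hadj]
      push Not at hadj
      have a3 : i.castSucc ≠ i'.succ := fin_ne (by simp; omega)
      have a4 : i.succ ≠ i'.castSucc := fin_ne (by simp; omega)
      have hdisj : Equiv.Perm.Disjoint (Equiv.swap i.castSucc i.succ) (Equiv.swap i'.castSucc i'.succ) := by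
        apply Equiv.Perm.disjoint_swap_swap
        simp [a1, a2, a3, a4, a5, a6]
      show (Equiv.swap i.castSucc i.succ * Equiv.swap i'.castSucc i'.succ) ^ 2 = 1
      rw [pow_two, hdisj.commute.symm.mul_mul_mul_comm]
      simp [Equiv.swap_mul_self]

/-- the map to the symmetric group -/
noncomputable def phi (n : ℕ) : (CoxeterMatrix.A n).Group →* Equiv.Perm (Fin (n + 1)) :=
  (cs n).lift ⟨_, phi_liftable n⟩

theorem phi_simple (n : ℕ) (i : Fin n) : phi n ((cs n).simple i) = Equiv.swap i.castSucc i.succ :=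
  lift_apply_simple (cs n) (phi_liftable n) i

theorem phi_surjective (n : ℕ) : Function.Surjective (phi n) := by
  intro σ
  have h1 : Submonoid.closure (Set.range fun i : Fin n ↦ Equiv.swap i.castSucc i.succ)
      ≤ (phi n).range.toSubmonoid := by
    rw [Submonoid.closure_le]
    rintro _ ⟨i, rfl⟩
    exact ⟨(cs n).simple i, phi_simple n i⟩
  rw [Equiv.Perm.mclosure_swap_castSucc_succ] at h1
  exact h1 (Submonoid.mem_top σ)

theorem phi_bijective (n : ℕ) : Function.Bijective (phi n) := by
  obtain ⟨hfin, hcard⟩ := card_bound n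
  apply (phi_surjective n).bijective_of_nat_card_le
  rw [Nat.card_perm, Nat.card_fin]
  exact hcard

end coxeter

/-- The Coxeter presentation of the symmetric group: for every n, the symmetric group on n+1 letters is the Coxeter group of type A_n with the adjacent transpositions (i, i+1) as simple reflections; that is, it is presented by generators r_1, …, r_n subject to r_i² = 1, (r_i r_j)² = 1 for |i − j| > 1 and (r_i r_{i+1})³ = 1, with r_i mapping to (i, i+1). -/
theorem result (n : ℕ) :
    ∃ cs : CoxeterSystem (CoxeterMatrix.A n) (Equiv.Perm (Fin (n + 1))), ∀ i : Fin n, cs.simple i = Equiv.swap i.castSucc i.succ := by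
  refine ⟨⟨(MulEquiv.ofBijective (phi n) (phi_bijective n)).symm⟩, ?_⟩
  intro i
  show (MulEquiv.ofBijective (phi n) (phi_bijective n)).symm.symm (PresentedGroup.of i) = _
  rw [MulEquiv.symm_symm]
  exact phi_simple n i

end Cfsg.Agent.S2530
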