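import Cfsg.Statements.S3379

set_option autoImplicit false
open Cfsg

namespace Cfsg.Agent.S3379

variable {G : Type*} [Group G]

lemma conj_pow' (x y : G) (n : ℕ) : x⁻¹ * y ^ n * x = (x⁻¹ * y * x) ^ n := by
  induction n with
  | zero => simp
  | succ n ih => rw [pow_succ, pow_succ, ← ih]; group

/-- iterated conjugation -/
lemma conj_pow_eq (x y : G) (r : ℕ) (h : x⁻¹ * y * x = y ^ r) (k : ℕ) :
    (x ^ k)⁻¹ * y * x ^ k = y ^ (r ^ k) := by
  induction k with
  | zero => simp
  | succ k ih =>
    have h1 : (x ^ (k + 1))⁻¹ * y * x ^ (k + 1) = x⁻¹ * ((x ^ k)⁻¹ * y * x ^ k) * x := by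
      rw [pow_succ]; group
    rw [h1, ih]
    rw [conj_pow', h, ← pow_mul, pow_succ, mul_comm]

/-- conjugation of powers of `y` by anything normalising `zpowers y` stays in any `zpowers (y^j)` -/
lemma zpowers_pow_normal (y : G) (hn : (Subgroup.zpowers y).Normal) (j : ℕ) :
    (Subgroup.zpowers (y ^ j)).Normal := by
  constructor
  intro t ht g
  obtain ⟨k, rfl⟩ := Subgroup.mem_zpowers_iff.mp ht
  have h1 : g * y * g⁻¹ ∈ Subgroup.zpowers y := hn.conj_mem y (Subgroup.mem_zpowers y) g
  obtain ⟨s, hs⟩ := Subgroup.mem_zpowers_iff.mp h1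
  have h2 : g * (y ^ j) ^ k * g⁻¹ = ((y ^ j) ^ s) ^ k := by
    have h3 : g * (y ^ j) ^ k * g⁻¹ = ((g * y * g⁻¹) ^ j) ^ k := by
      rw [conj_pow, conj_zpow]
    rw [h3, ← hs]
    rw [← zpow_natCast, ← zpow_natCast, ← zpow_mul, ← zpow_mul, ← zpow_mul, ← zpow_mul]
    congr 1
    ring
  rw [h2]
  exact Subgroup.zpow_mem _ (Subgroup.zpow_mem _ (Subgroup.mem_zpowers _) s) k

theorem result {G : Type*} [Group G] [Finite G]
    (hZ : ∀ (p : ℕ) [Fact p.Prime] (P : Sylow p G), IsCyclic (P : Subgroup G)) :
    ∃ (x y : G) (n m r : ℕ), Subgroup.closure {x, y} = ⊤ ∧ orderOf x = n ∧ orderOf y = m ∧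
      x⁻¹ * y * x = y ^ r ∧ Nat.Coprime (r - 1) m ∧ Nat.Coprime n m ∧ 1 ≤ r ∧ r ^ n % m = 1 % m := by
  classical
  have hZG : IsZGroup G := ⟨fun p hp P => by
    have := Fact.mk hp
    exact hZ p P⟩
  have hNc : IsCyclic (commutator G) := IsZGroup.isCyclic_commutator G
  obtain ⟨y₀, hy₀⟩ := IsCyclic.exists_generator (α := commutator G)
  have hcop := IsZGroup.coprime_commutator_index G
  obtain ⟨H, hH⟩ := Subgroup.exists_right_complement'_of_coprime hcop
  have e : Abelianization G ≃* H := hH.symm.QuotientMulEquiv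
  have hHc : IsCyclic H := isCyclic_of_surjective _ e.surjective
  obtain ⟨x₀, hx₀⟩ := IsCyclic.exists_generator (α := H)
  -- the subgroups
  have hY : Subgroup.zpowers (y₀ : G) = commutator G := by
    ext g
    constructor
    · intro hg
      obtain ⟨k, rfl⟩ := Subgroup.mem_zpowers_iff.mp hg
      exact Subgroup.zpow_mem _ y₀.2 k
    · intro hg
      obtain ⟨k, hk⟩ := Subgroup.mem_zpowers_iff.mp (hy₀ ⟨g, hg⟩)
      refine Subgroup.mem_zpowers_iff.mpr ⟨k, ?_⟩
      have := congrArg Subtype.val hk
      simpa using this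
  have hX : Subgroup.zpowers (x₀ : G) = H := by
    ext g
    constructor
    · intro hg
      obtain ⟨k, rfl⟩ := Subgroup.mem_zpowers_iff.mp hg
      exact Subgroup.zpow_mem _ x₀.2 k
    · intro hg
      obtain ⟨k, hk⟩ := Subgroup.mem_zpowers_iff.mp (hx₀ ⟨g, hg⟩)
      refine Subgroup.mem_zpowers_iff.mpr ⟨k, ?_⟩
      have := congrArg Subtype.val hk
      simpa using this
  set x : G := (x₀ : G) with hxdef
  set y : G := (y₀ : G) with hydef
  have hm : orderOf y = Nat.card (commutator G) := by
    rw [← Nat.card_zpowers, hY]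
  have hn : orderOf x = Nat.card H := by
    rw [← Nat.card_zpowers, hX]
  have hmpos : 0 < orderOf y := orderOf_pos y
  -- closure
  have hcl : Subgroup.closure {x, y} = ⊤ := by
    have h1 : H ≤ Subgroup.closure {x, y} := by
      rw [← hX, Subgroup.zpowers_le]
      exact Subgroup.subset_closure (by simp)
    have h2 : commutator G ≤ Subgroup.closure {x, y} := by
      rw [← hY, Subgroup.zpowers_le]
      exact Subgroup.subset_closure (by simp)
    have h3 : commutator G ⊔ H = ⊤ := hH.sup_eq_top
    rw [eq_top_iff, ← h3]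
    exact sup_le h2 h1
  -- the exponent r
  have hYn : (Subgroup.zpowers y).Normal := by rw [hY]; infer_instance
  have hconj : x⁻¹ * y * x ∈ Subgroup.zpowers y := by
    have := hYn.conj_mem y (Subgroup.mem_zpowers y) x⁻¹
    simpa using this
  obtain ⟨k, hk⟩ := Subgroup.mem_zpowers_iff.mp hconj
  -- natural exponent
  set r' : ℕ := (k % (orderOf y : ℤ)).toNat with hr'
  have hr'eq : y ^ r' = y ^ k := by
    have hnonneg : 0 ≤ k % (orderOf y : ℤ) := Int.emod_nonneg _ (by exact_mod_cast hmpos.ne')
    rw [← zpow_natCast, hr', Int.toNat_of_nonneg hnonneg, zpow_mod_orderOf]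
  set r : ℕ := r' + orderOf y with hr
  have hrel : x⁻¹ * y * x = y ^ r := by
    rw [hr, pow_add, pow_orderOf_eq_one, mul_one, hr'eq, hk]
  have hr1 : 1 ≤ r := by omega
  refine ⟨x, y, orderOf x, orderOf y, r, hcl, rfl, rfl, hrel, ?_, ?_, hr1, ?_⟩
  · -- coprime (r - 1) m
    set C : Subgroup G := Subgroup.zpowers (y ^ (r - 1)) with hC
    have hCn : C.Normal := zpowers_pow_normal y hYn (r - 1)
    -- the quotient is commutative
    have hcomm : ∀ a b : G ⧸ C, a * b = b * a := by
      have hgen : Subgroup.closure ({(QuotientGroup.mk' C) x, (QuotientGroup.mk' C) y} : Set (G ⧸ C)) = ⊤ := by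
        have := congrArg (Subgroup.map (QuotientGroup.mk' C)) hcl
        rw [MonoidHom.map_closure, Subgroup.map_top_of_surjective _ (QuotientGroup.mk'_surjective C)] at this
        rw [← this]
        congr 1
        ext t
        simp [Set.image_insert_eq, Set.image_singleton]
      have hxy : (QuotientGroup.mk' C) x * (QuotientGroup.mk' C) y =
          (QuotientGroup.mk' C) y * (QuotientGroup.mk' C) x := by
        rw [← map_mul, ← map_mul]
        apply (QuotientGroup.eq).mpr
        -- (x*y)⁻¹ * (y * x) ∈ C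
        have h1 : (x * y)⁻¹ * (y * x) = y⁻¹ * (x⁻¹ * y * x) := by group
        rw [h1, hrel]
        have h2 : y⁻¹ * y ^ r = y ^ (r - 1) := by
          have : r = (r - 1) + 1 := by omega
          conv_lhs => rw [this, pow_succ']
          group
        rw [h2]
        exact Subgroup.mem_zpowers _
      have hcs : ∀ a ∈ ({(QuotientGroup.mk' C) x, (QuotientGroup.mk' C) y} : Set (G ⧸ C)),
          ∀ b ∈ ({(QuotientGroup.mk' C) x, (QuotientGroup.mk' C) y} : Set (G ⧸ C)), a * b = b * a := by
        intro a ha b hb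
        simp only [Set.mem_insert_iff, Set.mem_singleton_iff] at ha hb
        rcases ha with rfl | rfl <;> rcases hb with rfl | rfl
        · rfl
        · exact hxy
        · exact hxy.symm
        · rfl
      have hmc := Subgroup.isMulCommutative_closure hcs
      intro a b
      have ha : a ∈ Subgroup.closure ({(QuotientGroup.mk' C) x, (QuotientGroup.mk' C) y} : Set (G ⧸ C)) := by
        rw [hgen]; trivial
      have hb : b ∈ Subgroup.closure ({(QuotientGroup.mk' C) x, (QuotientGroup.mk' C) y} : Set (G ⧸ C)) := by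
        rw [hgen]; trivial
      have := mul_comm' (⟨a, ha⟩ : Subgroup.closure ({(QuotientGroup.mk' C) x, (QuotientGroup.mk' C) y} : Set (G ⧸ C))) ⟨b, hb⟩
      exact congrArg Subtype.val this
    have hle : commutator G ≤ C := by
      rw [commutator_def, Subgroup.commutator_le]
      intro a _ b _
      rw [← QuotientGroup.eq_one_iff, commutatorElement_def]
      simp only [QuotientGroup.mk_mul, QuotientGroup.mk_inv]
      rw [hcomm (a : G ⧸ C) (b : G ⧸ C)]
      group
    -- so zpowers y ≤ zpowers (y^(r-1))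
    have hyC : y ∈ C := hle (by rw [← hY]; exact Subgroup.mem_zpowers y)
    have hord : orderOf (y ^ (r - 1)) = orderOf y := by
      apply Nat.dvd_antisymm
      · exact orderOf_pow_dvd _
      · have h1 : Subgroup.zpowers y ≤ C := by rw [Subgroup.zpowers_le]; exact hyC
        have h2 := Subgroup.card_dvd_of_le h1
        rwa [hC, Nat.card_zpowers, Nat.card_zpowers] at h2
    rw [orderOf_pow y] at hord
    have hg : Nat.gcd (orderOf y) (r - 1) = 1 := by
      rcases (Nat.div_eq_self.mp hord) with h | h
      · omega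
      · exact h
    exact (Nat.coprime_comm.mp hg)
  · rw [hn, hm]
    have h1 := hH.symm.card_mul_card
    have h2 := (commutator G).index_mul_card
    have h3 : (commutator G).index = Nat.card H := by
      have hpos : 0 < Nat.card (commutator G) := Nat.card_pos
      have : (commutator G).index * Nat.card (commutator G) = Nat.card H * Nat.card (commutator G) := by
        rw [h2, h1]
      exact Nat.eq_of_mul_eq_mul_right hpos this
    rw [← h3]
    exact hcop.symm
  · have h1 := conj_pow_eq x y r hrel (orderOf x)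
    rw [pow_orderOf_eq_one] at h1
    simp only [inv_one, one_mul, mul_one] at h1
    have h2 : y ^ (r ^ orderOf x) = y ^ 1 := by rw [← h1, pow_one]
    exact (pow_eq_pow_iff_modEq.mp h2)

end Cfsg.Agent.S3379
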