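import Cfsg.Statements.S3276

set_option autoImplicit false
open Cfsg

namespace Cfsg.Agent.S3276

variable {G : Type*} [Group G]

/-- Two involutions whose product has odd order are conjugate. -/
theorem isConj_of_odd_orderOf_mul (a b : G) (ha : a * a = 1) (hb : b * b = 1)
    (k : ℕ) (hk : orderOf (a * b) = 2 * k + 1) : IsConj a b := by
  have hr : (a * b) ^ (2 * k + 1) = 1 := by rw [← hk]; exact pow_orderOf_eq_one _
  have hainv : a⁻¹ = a := inv_eq_of_mul_eq_one_right ha
  have hbinv : b⁻¹ = b := inv_eq_of_mul_eq_one_right hb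
  have hara : a * (a * b) * a⁻¹ = (a * b)⁻¹ := by
    rw [mul_inv_rev, hainv, hbinv, ← mul_assoc, ha, one_mul]
  have hconj : a * (a * b) ^ k * a⁻¹ = ((a * b)⁻¹) ^ k := by
    rw [← conj_pow, hara]
  rw [isConj_iff]
  refine ⟨(a * b) ^ k, ?_⟩
  have h2 : a * ((a * b) ^ k)⁻¹ = (a * b) ^ k * a := by
    have h3 : (a * (a * b) ^ k * a⁻¹)⁻¹ = (((a * b)⁻¹) ^ k)⁻¹ := by rw [hconj]
    rw [inv_pow, inv_inv, mul_inv_rev, mul_inv_rev, inv_inv, ← mul_assoc] at h3
    exact mul_inv_eq_iff_eq_mul.mp h3
  calc (a * b) ^ k * a * ((a * b) ^ k)⁻¹ = (a * b) ^ k * (a * ((a * b) ^ k)⁻¹) := by rw [mul_assoc]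
    _ = (a * b) ^ k * ((a * b) ^ k * a) := by rw [h2]
    _ = (a * b) ^ (2 * k) * a := by rw [← mul_assoc, ← pow_add, two_mul]
    _ = (a * b)⁻¹ * a := by
        congr 1
        rw [eq_inv_iff_mul_eq_one, ← pow_succ, hr]
    _ = b := by rw [mul_inv_rev, hainv, hbinv, mul_assoc, ha, mul_one]

/-- Non-conjugate involutions commute with a common involution (Brauer--Fowler). -/
theorem exists_commuting_involution [Finite G] (x y' : G) (hx2 : x * x = 1) (hy'2 : y' * y' = 1)
    (hncy' : ¬ IsConj x y') :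
    ∃ u : G, orderOf u = 2 ∧ Commute u x ∧ Commute y' u := by
  have hpos : 0 < orderOf (x * y') := orderOf_pos _
  obtain ⟨k, hk | hk⟩ := Nat.even_or_odd' (orderOf (x * y'))
  · have hk0 : k ≠ 0 := by rintro rfl; omega
    have hxinv : x⁻¹ = x := inv_eq_of_mul_eq_one_right hx2
    have hyinv : y'⁻¹ = y' := inv_eq_of_mul_eq_one_right hy'2
    have hu2 : orderOf ((x * y') ^ k) = 2 := by
      rw [orderOf_pow' _ hk0, hk, Nat.gcd_eq_right (dvd_mul_left k 2)]
      exact Nat.mul_div_cancel _ (Nat.pos_of_ne_zero hk0)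
    have hrk : ((x * y') ^ k)⁻¹ = (x * y') ^ k := by
      rw [inv_eq_iff_mul_eq_one, ← pow_add, ← two_mul, ← hk]; exact pow_orderOf_eq_one _
    have hcx : Commute ((x * y') ^ k) x := by
      have h1 : x * (x * y') * x⁻¹ = (x * y')⁻¹ := by
        rw [mul_inv_rev, hxinv, hyinv, ← mul_assoc, hx2, one_mul]
      have h2 : x * (x * y') ^ k * x⁻¹ = (x * y') ^ k := by
        rw [← conj_pow, h1, inv_pow, hrk]
      have h3 : x * (x * y') ^ k = (x * y') ^ k * x := mul_inv_eq_iff_eq_mul.mp h2
      exact h3.symm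
    have hcy : Commute y' ((x * y') ^ k) := by
      have h1 : y' * (x * y') * y'⁻¹ = (x * y')⁻¹ := by
        rw [mul_inv_rev, hxinv, hyinv, mul_assoc, mul_assoc, hy'2, mul_one]
      have h2 : y' * (x * y') ^ k * y'⁻¹ = (x * y') ^ k := by
        rw [← conj_pow, h1, inv_pow, hrk]
      exact mul_inv_eq_iff_eq_mul.mp h2
    exact ⟨_, hu2, hcx, hcy⟩
  · exact absurd (isConj_of_odd_orderOf_mul x y' hx2 hy'2 k hk) hncy'

theorem conj_commute_of_star [Finite G] (x y : G) (hx2 : x * x = 1) (hy2 : y * y = 1)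
    (hnc : ¬ IsConj x y)
    (hstar : ∀ u : G, orderOf u = 2 → Commute u x → ∀ g : G, Commute (g * y * g⁻¹) u →
      Commute (g * y * g⁻¹) y)
    (g : G) : Commute (g * y * g⁻¹) y := by
  have hy'2 : (g * y * g⁻¹) * (g * y * g⁻¹) = 1 := by
    simp only [mul_assoc, inv_mul_cancel_left]; rw [← mul_assoc y y, hy2, one_mul, mul_inv_cancel]
  have hncy' : ¬ IsConj x (g * y * g⁻¹) := fun h =>
    hnc (h.trans (isConj_iff.mpr ⟨g⁻¹, by simp [mul_assoc]⟩))
  obtain ⟨u, hu2, hcx, hcy⟩ := exists_commuting_involution x _ hx2 hy'2 hncy'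
  exact hstar u hu2 hcx g hcy

theorem sq_eq_one_of_orderOf_two (a : G) (h : orderOf a = 2) : a * a = 1 := by
  rw [← pow_two, ← h]; exact pow_orderOf_eq_one a

/-- Let x and y be commuting, non-conjugate involutions of a finite group G, and suppose that for every involution u commuting with x, each conjugate of y that commutes with u also commutes with y. Then the normal closure of y is a proper, normal, elementary abelian 2-subgroup of G; and if y is the only involution of that normal closure commuting with x, it has order at most 4. -/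
theorem result {G : Type*} [Group G] [Finite G] (x y : G) (hx : orderOf x = 2) (hy : orderOf y = 2)
    (hxy : Commute x y) (hnc : ¬ IsConj x y)
    (hstar : ∀ u : G, orderOf u = 2 → Commute u x → ∀ g : G, Commute (g * y * g⁻¹) u → Commute (g * y * g⁻¹) y) :
    Subgroup.normalClosure ({y} : Set G) ≠ ⊤ ∧ Cfsg.IsElementaryAbelian 2 (Subgroup.normalClosure ({y} : Set G)) ∧
      ((∀ u ∈ Subgroup.normalClosure ({y} : Set G), orderOf u = 2 → Commute u x → u = y) →
        Nat.card ↥(Subgroup.normalClosure ({y} : Set G)) ≤ 4) := by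
  have hx2 := sq_eq_one_of_orderOf_two x hx
  have hy2 := sq_eq_one_of_orderOf_two y hy
  have step1 := conj_commute_of_star x y hx2 hy2 hnc hstar
  -- description of the generators
  have hgen : ∀ a ∈ Group.conjugatesOfSet ({y} : Set G), ∃ g : G, a = g * y * g⁻¹ := by
    intro a ha
    rw [Group.mem_conjugatesOfSet_iff] at ha
    obtain ⟨b, hb, hba⟩ := ha
    rw [Set.mem_singleton_iff] at hb
    subst hb
    obtain ⟨c, hc⟩ := isConj_iff.mp hba
    exact ⟨c, hc.symm⟩
  have hcomm : ∀ a ∈ Group.conjugatesOfSet ({y} : Set G), ∀ b ∈ Group.conjugatesOfSet ({y} : Set G),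
      a * b = b * a := by
    intro a ha b hb
    obtain ⟨g, rfl⟩ := hgen a ha
    obtain ⟨h, rfl⟩ := hgen b hb
    have h1 := step1 (h⁻¹ * g)
    have h2 : h * ((h⁻¹ * g) * y * (h⁻¹ * g)⁻¹ * y) * h⁻¹ = h * (y * ((h⁻¹ * g) * y * (h⁻¹ * g)⁻¹)) * h⁻¹ := by
      rw [h1.eq]
    simp only [mul_inv_rev, inv_inv, mul_assoc, mul_inv_cancel_left] at h2
    simp only [mul_assoc]
    rw [h2]
    simp
  have hN : IsMulCommutative (Subgroup.normalClosure ({y} : Set G)) :=
    Subgroup.isMulCommutative_closure hcomm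
  have hexp : ∀ a ∈ Subgroup.normalClosure ({y} : Set G), a ^ 2 = 1 := by
    intro a ha
    unfold Subgroup.normalClosure at ha
    induction ha using Subgroup.closure_induction with
    | mem a ha =>
      obtain ⟨g, rfl⟩ := hgen a ha
      rw [pow_two]
      simp only [mul_assoc, inv_mul_cancel_left]; rw [← mul_assoc y y, hy2, one_mul, mul_inv_cancel]
    | one => simp
    | mul a b ha hb iha ihb =>
      have hab : Commute a b := by
        have hN' : IsMulCommutative (Subgroup.closure (Group.conjugatesOfSet ({y} : Set G))) := hN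
        exact setLike_mul_comm ha hb
      rw [hab.mul_pow, iha, ihb, one_mul]
    | inv a ha iha => rw [inv_pow, iha, inv_one]
  have hyN : y ∈ Subgroup.normalClosure ({y} : Set G) :=
    Subgroup.subset_normalClosure (Set.mem_singleton y)
  have hone_or : ∀ m ∈ Subgroup.normalClosure ({y} : Set G), m ≠ 1 → orderOf m = 2 := by
    intro m hm hm1
    exact orderOf_eq_prime (hexp m hm) hm1
  refine ⟨?_, ⟨hN, hexp⟩, ?_⟩
  · intro htop
    have hcommG : ∀ a b : G, a * b = b * a := by
      intro a b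
      have ha : a ∈ Subgroup.normalClosure ({y} : Set G) := by rw [htop]; trivial
      have hb : b ∈ Subgroup.normalClosure ({y} : Set G) := by rw [htop]; trivial
      exact setLike_mul_comm ha hb
    have hle : Subgroup.normalClosure ({y} : Set G) ≤ Subgroup.zpowers y := by
      unfold Subgroup.normalClosure
      rw [Subgroup.closure_le]
      intro a ha
      obtain ⟨g, rfl⟩ := hgen a ha
      rw [hcommG g y, mul_assoc, mul_inv_cancel, mul_one]
      exact Subgroup.mem_zpowers y
    have hxz : x ∈ Subgroup.zpowers y := hle (by rw [htop]; trivial)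
    obtain ⟨k, hk⟩ := Subgroup.mem_zpowers_iff.mp hxz
    rw [← zpow_mod_orderOf, hy] at hk
    have hk2 : k % ((2 : ℕ) : ℤ) = 0 ∨ k % ((2 : ℕ) : ℤ) = 1 := by omega
    rcases hk2 with h0 | h1
    · rw [h0, zpow_zero] at hk
      rw [← hk, orderOf_one] at hx
      omega
    · rw [h1, zpow_one] at hk
      exact hnc (hk ▸ IsConj.refl y)
  · intro hu
    -- the homomorphism n ↦ n * (x n x⁻¹) on N
    have hxinv : x⁻¹ = x := inv_eq_of_mul_eq_one_right hx2
    let N := Subgroup.normalClosure ({y} : Set G)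
    have hNn : N.Normal := Subgroup.normalClosure_normal
    let f : N → N := fun n => ⟨(n : G) * (x * n * x⁻¹), N.mul_mem n.2 (hNn.conj_mem _ n.2 x)⟩
    have hf : ∀ a b : N, f (a * b) = f a * f b := by
      intro a b
      apply Subtype.ext
      show (a : G) * b * (x * (a * b) * x⁻¹) = (a : G) * (x * a * x⁻¹) * (b * (x * b * x⁻¹))
      have h1 : x * ((a : G) * b) * x⁻¹ = (x * a * x⁻¹) * (x * b * x⁻¹) := by
        simp [mul_assoc]
      have h2 : (b : G) * (x * a * x⁻¹) = (x * a * x⁻¹) * b :=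
        setLike_mul_comm b.2 (hNn.conj_mem _ a.2 x)
      rw [h1]
      calc (a : G) * b * ((x * a * x⁻¹) * (x * b * x⁻¹))
          = (a : G) * ((b : G) * (x * a * x⁻¹)) * (x * b * x⁻¹) := by simp only [mul_assoc]
        _ = (a : G) * ((x * a * x⁻¹) * b) * (x * b * x⁻¹) := by rw [h2]
        _ = (a : G) * (x * a * x⁻¹) * (b * (x * b * x⁻¹)) := by simp only [mul_assoc]
    let φ : N →* N := MonoidHom.mk' f hf
    have hsub : ∀ K : Subgroup N, (∀ n ∈ K, (n : G) = 1 ∨ (n : G) = y) → Nat.card K ≤ 2 := by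
      intro K hK
      have hKs : (K : Set N) ⊆ {1, ⟨y, hyN⟩} := by
        intro n hn
        rcases hK n hn with h | h
        · left; exact Subtype.ext h
        · right; exact Subtype.ext h
      calc Nat.card K = (K : Set N).ncard := (Nat.card_coe_set_eq _)
        _ ≤ ({1, ⟨y, hyN⟩} : Set N).ncard := Set.ncard_le_ncard hKs (Set.toFinite _)
        _ ≤ ({⟨y, hyN⟩} : Set N).ncard + 1 := Set.ncard_insert_le _ _
        _ = 2 := by rw [Set.ncard_singleton]
    -- elements commuting with x in N are 1 or y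
    have hfix : ∀ m ∈ N, Commute m x → m = 1 ∨ m = y := by
      intro m hm hc
      by_cases h1 : m = 1
      · exact Or.inl h1
      · exact Or.inr (hu m hm (hone_or m hm h1) hc)
    have hker : Nat.card φ.ker ≤ 2 := by
      apply hsub
      intro n hn
      apply hfix _ n.2
      have h1 : f n = 1 := hn
      have h2 : (n : G) * (x * n * x⁻¹) = 1 := congrArg Subtype.val h1
      have h3 : (n : G) * n = 1 := by rw [← pow_two]; exact hexp _ n.2
      have h4 : x * n * x⁻¹ = n := by
        have := mul_left_cancel (h2.trans h3.symm)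
        exact this
      exact (mul_inv_eq_iff_eq_mul.mp h4).symm
    have hrange : Nat.card φ.range ≤ 2 := by
      apply hsub
      rintro m ⟨n, rfl⟩
      apply hfix _ (f n).2
      show Commute ((n : G) * (x * n * x⁻¹)) x
      have h2 : (n : G) * (x * n * x⁻¹) = (x * n * x⁻¹) * n :=
        setLike_mul_comm n.2 (hNn.conj_mem _ n.2 x)
      have h3 : x * ((n : G) * (x * n * x⁻¹)) * x⁻¹ = (n : G) * (x * n * x⁻¹) := by
        rw [hxinv] at h2 ⊢
        calc x * (↑n * (x * ↑n * x)) * x = x * (x * ↑n * x * ↑n) * x := by rw [h2]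
          _ = (x * x) * ↑n * (x * ↑n * x) := by simp only [mul_assoc]
          _ = ↑n * (x * ↑n * x) := by rw [hx2, one_mul]
      exact (mul_inv_eq_iff_eq_mul.mp h3).symm
    calc Nat.card N = Nat.card φ.ker * φ.ker.index := (Subgroup.card_mul_index _).symm
      _ = Nat.card φ.ker * Nat.card φ.range := by rw [Subgroup.index_ker]
      _ ≤ 2 * 2 := Nat.mul_le_mul hker hrange

end Cfsg.Agent.S3276
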