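import Cfsg.Statements.S3277
import Cfsg.Agent.S3276
import Cfsg.Agent.Lib.Helper19.CIT

set_option linter.style.haveILetI false
set_option linter.unusedVariables false

set_option autoImplicit false
open Cfsg

namespace Cfsg.Agent.S3277


/-- A subgroup of order 4 containing two distinct involutions consists of `1, x, y, xy`. -/
theorem four_elems {G : Type*} [Group G] (V : Subgroup G) (hV4 : Nat.card V = 4) {x y : G}
    (hx : x ∈ V) (hy : y ∈ V) (hx1 : x ≠ 1) (hy1 : y ≠ 1) (hxy : x ≠ y) (hxx : x * x = 1) :
    ∀ v ∈ V, v = 1 ∨ v = x ∨ v = y ∨ v = x * y := by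
  classical
  haveI : Finite V := Nat.finite_of_card_ne_zero (by rw [hV4]; norm_num)
  haveI : Fintype V := Fintype.ofFinite V
  have hxy1 : x * y ≠ 1 := by
    intro h
    apply hxy
    have : y = x⁻¹ := eq_inv_of_mul_eq_one_right h
    rw [this]
    exact (inv_eq_of_mul_eq_one_right hxx).symm
  have hxyx : x * y ≠ x := by
    intro h
    apply hy1
    have := mul_left_cancel (a := x) (b := y) (c := 1) (by rw [h, mul_one])
    exact this
  have hxyy : x * y ≠ y := by
    intro h
    apply hx1
    have := mul_right_cancel (a := x) (b := y) (c := 1) (by rw [h, one_mul])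
    exact this
  let a1 : V := 1
  let a2 : V := ⟨x, hx⟩
  let a3 : V := ⟨y, hy⟩
  let a4 : V := ⟨x * y, V.mul_mem hx hy⟩
  have n12 : a1 ≠ a2 := fun h => hx1 (congrArg Subtype.val h).symm
  have n13 : a1 ≠ a3 := fun h => hy1 (congrArg Subtype.val h).symm
  have n14 : a1 ≠ a4 := fun h => hxy1 (congrArg Subtype.val h).symm
  have n23 : a2 ≠ a3 := fun h => hxy (congrArg Subtype.val h)
  have n24 : a2 ≠ a4 := fun h => hxyx (congrArg Subtype.val h).symm
  have n34 : a3 ≠ a4 := fun h => hxyy (congrArg Subtype.val h).symm
  let S : Finset V := {a1, a2, a3, a4}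
  have hS : S.card = 4 := by
    simp only [S]
    rw [Finset.card_insert_of_notMem, Finset.card_insert_of_notMem, Finset.card_insert_of_notMem,
      Finset.card_singleton]
    · simp only [Finset.mem_singleton]; exact n34
    · simp only [Finset.mem_insert, Finset.mem_singleton, not_or]; exact ⟨n23, n24⟩
    · simp only [Finset.mem_insert, Finset.mem_singleton, not_or]; exact ⟨n12, n13, n14⟩
  have hSuniv : S = Finset.univ := by
    apply Finset.eq_univ_of_card
    rw [hS, ← Nat.card_eq_fintype_card, hV4]
  intro v hv
  have hvS : (⟨v, hv⟩ : V) ∈ S := by rw [hSuniv]; exact Finset.mem_univ _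
  simp only [S, Finset.mem_insert, Finset.mem_singleton] at hvS
  rcases hvS with h | h | h | h
  · left; exact congrArg Subtype.val h
  · right; left; exact congrArg Subtype.val h
  · right; right; left; exact congrArg Subtype.val h
  · right; right; right; exact congrArg Subtype.val h

/-- Let G be a finite group containing an involution whose centralizer is elementary abelian of order 4. If G has no normal 2-complement and no normal elementary abelian 2-subgroup of order 2 or 4, then G is isomorphic to the alternating group of degree 5 (that is, to PSL(2, 5)). -/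
theorem result {G : Type*} [Group G] [Finite G] (x : G) (hx : orderOf x = 2)
    (hC4 : Nat.card ↥(Subgroup.centralizer ({x} : Set G)) = 4) (hCe : ∀ c ∈ Subgroup.centralizer ({x} : Set G), c ^ 2 = 1)
    (hnc : ¬ Cfsg.HasNormalPComplement 2 G)
    (hne : ∀ E : Subgroup G, E.Normal → Cfsg.IsElementaryAbelian 2 E → Nat.card ↥E ≠ 2 ∧ Nat.card ↥E ≠ 4) :
    Nonempty (G ≃* ↥(alternatingGroup (Fin 5))) := by
  classical
  haveI : Fact (Nat.Prime 2) := ⟨Nat.prime_two⟩
  set V := Subgroup.centralizer ({x} : Set G) with hVdef
  have hmemV : ∀ g : G, g ∈ V ↔ x * g = g * x := by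
    intro g
    rw [hVdef, Subgroup.mem_centralizer_iff]
    simp
  have hxx : x * x = 1 := by
    have := pow_orderOf_eq_one x
    rwa [hx, pow_two] at this
  have hx1 : x ≠ 1 := by
    intro h
    rw [h, orderOf_one] at hx
    norm_num at hx
  have hxV : x ∈ V := (hmemV x).mpr rfl
  have hsq : ∀ c ∈ V, c * c = 1 := fun c hc => by rw [← pow_two]; exact hCe c hc
  have hinvV : ∀ c ∈ V, c⁻¹ = c := fun c hc => inv_eq_of_mul_eq_one_right (hsq c hc)
  have hcomm : ∀ a ∈ V, ∀ b ∈ V, a * b = b * a := by
    intro a ha b hb
    have hab := hsq (a * b) (V.mul_mem ha hb)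
    have := inv_eq_of_mul_eq_one_right hab
    rw [mul_inv_rev, hinvV a ha, hinvV b hb] at this
    exact this.symm
  have hVp : IsPGroup 2 V := by
    intro g
    refine ⟨1, ?_⟩
    rw [pow_one]
    exact Subtype.ext (hCe g g.2)
  obtain ⟨T, hVT⟩ := hVp.exists_le_sylow
  -- conjugates of x have conjugate centralisers
  have hconjC : ∀ k c : G, (k * x * k⁻¹) * c = c * (k * x * k⁻¹) → k⁻¹ * c * k ∈ V := by
    intro k c h
    rw [hmemV]
    have : x = k⁻¹ * (k * x * k⁻¹) * k := by group
    calc x * (k⁻¹ * c * k) = k⁻¹ * ((k * x * k⁻¹) * c) * k := by group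
      _ = k⁻¹ * (c * (k * x * k⁻¹)) * k := by rw [h]
      _ = k⁻¹ * c * k * x := by group
  have hinvol : ∀ v ∈ V, v ≠ 1 → orderOf v = 2 := by
    intro v hv hv1
    exact orderOf_eq_prime (by rw [pow_two]; exact hsq v hv) hv1
  have hVea : Cfsg.IsElementaryAbelian 2 V :=
    ⟨⟨⟨fun a b => Subtype.ext (hcomm a a.2 b b.2)⟩⟩, hCe⟩
  by_cases hlt : V < (T : Subgroup G)
  · -- Case V < T: contradiction via S3276
    exfalso
    haveI : Finite (T : Subgroup G) := inferInstance
    obtain ⟨g0, hg0T, hg0V⟩ := Set.exists_of_ssubset hlt
    haveI : Nontrivial (T : Subgroup G) := ⟨⟨⟨x, hVT hxV⟩, 1, fun h => hx1 (congrArg Subtype.val h)⟩⟩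
    -- a central involution z of T
    haveI := (T.2).center_nontrivial
    obtain ⟨c, hc⟩ := exists_ne (1 : Subgroup.center (T : Subgroup G))
    let z : G := ((c : (T : Subgroup G)) : G)
    have hzT : z ∈ (T : Subgroup G) := (c : (T : Subgroup G)).2
    have hz1 : z ≠ 1 := by
      intro h
      apply hc
      apply Subtype.ext
      apply Subtype.ext
      exact h
    have hzcomm : ∀ t ∈ (T : Subgroup G), t * z = z * t := by
      intro t ht
      have := Subgroup.mem_center_iff.mp c.2 ⟨t, ht⟩
      exact congrArg Subtype.val this
    have hzV : z ∈ V := (hmemV z).mpr (hzcomm x (hVT hxV))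
    have hzz : z * z = 1 := hsq z hzV
    have hz : orderOf z = 2 := hinvol z hzV hz1
    have hzx : x ≠ z := by
      intro h
      apply hg0V
      change g0 ∈ V
      rw [hmemV, h]
      exact (hzcomm g0 hg0T).symm
    have h4 := four_elems V hC4 hxV hzV hx1 hz1 hzx hxx
    -- x and z are not conjugate
    have hnconj : ¬ IsConj x z := by
      intro hcj
      obtain ⟨k, hk⟩ := isConj_iff.mp hcj
      have hmap : ∀ t : (T : Subgroup G), k⁻¹ * (t : G) * k ∈ V := by
        intro t
        apply hconjC
        rw [hk]
        exact (hzcomm t t.2).symm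
      have hinj : Function.Injective (fun t : (T : Subgroup G) => (⟨k⁻¹ * (t : G) * k, hmap t⟩ : V)) := by
        intro t t' h
        have h' : k⁻¹ * (t : G) * k = k⁻¹ * (t' : G) * k := congrArg Subtype.val h
        apply Subtype.ext
        have := mul_left_cancel (mul_right_cancel h')
        exact this
      haveI : Finite V := Nat.finite_of_card_ne_zero (by rw [hC4]; norm_num)
      have h1 := Nat.card_le_card_of_injective _ hinj
      have h2 : V = (T : Subgroup G) := Subgroup.eq_of_le_of_card_ge hVT h1
      exact hlt.ne h2
    -- an element of T normalising V outside V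
    haveI : Group.IsNilpotent (T : Subgroup G) := (T.2).isNilpotent
    have hNC := Group.normalizerCondition_of_isNilpotent (G := (T : Subgroup G))
    have hHlt : V.subgroupOf (T : Subgroup G) < ⊤ := by
      rw [lt_top_iff_ne_top]
      intro h
      apply hg0V
      have : (⟨g0, hg0T⟩ : (T : Subgroup G)) ∈ V.subgroupOf (T : Subgroup G) := by rw [h]; trivial
      exact Subgroup.mem_subgroupOf.mp this
    obtain ⟨g, hgN, hgH⟩ := Set.exists_of_ssubset (hNC _ hHlt)
    have hgV : (g : G) ∉ V := fun h => hgH (Subgroup.mem_subgroupOf.mpr h)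
    have hnormmem : ∀ n : (T : Subgroup G), n ∈ Subgroup.normalizer
        ((V.subgroupOf (T : Subgroup G) : Subgroup (T : Subgroup G)) : Set (T : Subgroup G)) →
        ∀ v ∈ V, (n : G) * v * (n : G)⁻¹ ∈ V := by
      intro n hn v hv
      have hvH : (⟨v, hVT hv⟩ : (T : Subgroup G)) ∈ V.subgroupOf (T : Subgroup G) :=
        Subgroup.mem_subgroupOf.mpr hv
      have := (Subgroup.mem_normalizer_iff.mp hn _).mp hvH
      exact Subgroup.mem_subgroupOf.mp this
    have hgnorm : ∀ v ∈ V, (g : G) * v * (g : G)⁻¹ ∈ V := hnormmem g hgN
    have hgnorm' : ∀ v ∈ V, (g : G)⁻¹ * v * (g : G) ∈ V := by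
      intro v hv
      have := hnormmem g⁻¹ (Subgroup.inv_mem _ hgN) v hv
      simpa using this
    -- g x g⁻¹ = x z
    have hgz : (g : G) * z * (g : G)⁻¹ = z := by
      rw [hzcomm g g.2, mul_assoc, mul_inv_cancel, mul_one]
    have hgx : (g : G) * x * (g : G)⁻¹ = x * z := by
      rcases h4 _ (hgnorm x hxV) with h | h | h | h
      · exfalso
        apply hx1
        have : x = (g : G)⁻¹ * ((g : G) * x * (g : G)⁻¹) * g := by group
        rw [this, h]; group
      · exfalso
        apply hgV
        rw [hmemV]
        calc x * (g : G) = ((g : G) * x * (g : G)⁻¹)⁻¹⁻¹ * g := by rw [inv_inv, h]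
          _ = (g : G) * x := by group
      · exfalso
        apply hzx
        have h' : (g : G) * x * (g : G)⁻¹ = (g : G) * z * (g : G)⁻¹ := h.trans hgz.symm
        exact mul_left_cancel (mul_right_cancel h')
      · exact h
    -- the centraliser of x z is V
    have hCw : ∀ c : G, (x * z) * c = c * (x * z) → c ∈ V := by
      intro c hcw
      rw [← hgx] at hcw
      have h1 := hconjC g c hcw
      have h2 := hgnorm _ h1
      have : (g : G) * ((g : G)⁻¹ * c * g) * (g : G)⁻¹ = c := by group
      rwa [this] at h2
    have hxz : Commute x z := (hmemV z).mp hzV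
    have hstar : ∀ u : G, orderOf u = 2 → Commute u x → ∀ k : G, Commute (k * z * k⁻¹) u →
        Commute (k * z * k⁻¹) z := by
      intro u hu hux k hku
      have huV : u ∈ V := (hmemV u).mpr hux.symm.eq
      have hu1 : u ≠ 1 := by
        intro h
        rw [h, orderOf_one] at hu
        norm_num at hu
      have key : k * z * k⁻¹ ∈ V → Commute (k * z * k⁻¹) z := fun h => hcomm _ h z hzV
      rcases h4 u huV with h | h | h | h
      · exact absurd h hu1
      · apply key
        rw [hmemV]
        rw [h] at hku
        exact hku.symm.eq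
      · rw [h] at hku
        exact hku
      · apply key
        apply hCw
        rw [h] at hku
        exact hku.symm.eq
    obtain ⟨hE1, hE2, hE3⟩ := Cfsg.Agent.S3276.result x z hx hz hxz hnconj hstar
    set E := Subgroup.normalClosure ({z} : Set G) with hE
    have hEn : E.Normal := Subgroup.normalClosure_normal
    have hzE : z ∈ E := Subgroup.subset_normalClosure (Set.mem_singleton z)
    have hEp : IsPGroup 2 E := by
      intro e
      refine ⟨1, ?_⟩
      rw [pow_one]
      exact Subtype.ext (hE2.2 e e.2)
    obtain ⟨m, hm⟩ := hEp.exists_card_eq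
    have hm1 : 1 ≤ m := by
      by_contra h0
      have : m = 0 := by omega
      rw [this, pow_zero] at hm
      have hsub := (Nat.card_eq_one_iff_unique.mp hm).1
      apply hz1
      have := @Subsingleton.elim _ hsub (⟨z, hzE⟩ : E) 1
      exact congrArg Subtype.val this
    have hcardle : Nat.card E ≤ 4 := by
      by_cases hxE : x ∈ E
      · have hEV : E ≤ V := by
          intro e he
          rw [hmemV]
          have := hE2.1.is_comm.comm (⟨x, hxE⟩ : E) ⟨e, he⟩
          exact congrArg Subtype.val this
        haveI : Finite V := Nat.finite_of_card_ne_zero (by rw [hC4]; norm_num)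
        have := Subgroup.card_le_of_le hEV
        omega
      · apply hE3
        intro u huE hu hux
        have huV : u ∈ V := (hmemV u).mpr hux.symm.eq
        have hu1 : u ≠ 1 := by
          intro h
          rw [h, orderOf_one] at hu
          norm_num at hu
        rcases h4 u huV with h | h | h | h
        · exact absurd h hu1
        · exact absurd (h ▸ huE) hxE
        · exact h
        · exfalso
          apply hxE
          have : x = u * z := by rw [h, mul_assoc, hzz, mul_one]
          rw [this]
          exact E.mul_mem huE hzE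
    have hcases : Nat.card E = 2 ∨ Nat.card E = 4 := by
      rw [hm] at hcardle ⊢
      have hm2 : m ≤ 2 := by
        by_contra h3
        have : 2 ^ 3 ≤ 2 ^ m := Nat.pow_le_pow_right (by norm_num) (by omega)
        omega
      interval_cases m <;> simp
    have := hne E hEn hE2
    rcases hcases with h | h
    · exact this.1 h
    · exact this.2 h
  · have hTV : (T : Subgroup G) = V := (eq_of_le_of_not_lt hVT hlt).symm
    have hmemT : ∀ g : G, g ∈ T ↔ g ∈ V := fun g => by
      change g ∈ (T : Subgroup G) ↔ _
      rw [hTV]
    by_cases hA : ∀ v ∈ V, v ≠ 1 → IsConj x v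
    · -- all involutions of V are conjugate: S1229 gives the action on 5 points
      have hcT : Nat.card (T : Subgroup G) = 4 := by rw [hTV]; exact hC4
      have hTnc : ¬ IsCyclic (T : Subgroup G) := by
        intro hcyc
        obtain ⟨g, hg⟩ := IsCyclic.exists_ofOrder_eq_natCard (α := (T : Subgroup G))
        have h2 : g ^ 2 = 1 := Subtype.ext (hCe g ((hmemT g).mp g.2))
        have h3 := orderOf_le_of_pow_eq_one (by norm_num) h2
        omega
      have hTnn : ¬ (T : Subgroup G).Normal := by
        intro hn
        rw [hTV] at hn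
        exact (hne V hn hVea).2 hC4
      have hC : ∀ t : G, orderOf t = 2 →
          IsMulCommutative (Subgroup.centralizer ({t} : Set G)) ∧
          ∀ c ∈ Subgroup.centralizer ({t} : Set G), c ^ 2 = 1 := by
        intro t ht
        have htt : t ^ 2 = 1 := by rw [← ht]; exact pow_orderOf_eq_one t
        have ht1 : t ≠ 1 := by
          intro h
          rw [h, orderOf_one] at ht
          norm_num at ht
        have hconj : ∃ k : G, t = k * x * k⁻¹ := by
          have hzp : IsPGroup 2 (Subgroup.zpowers t) := by
            rintro ⟨g, hg⟩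
            obtain ⟨k, rfl⟩ := Subgroup.mem_zpowers_iff.mp hg
            refine ⟨1, ?_⟩
            apply Subtype.ext
            change (t ^ k) ^ (2 ^ 1) = 1
            rw [pow_one, ← zpow_natCast, ← zpow_mul, mul_comm, zpow_mul, zpow_natCast, htt,
              one_zpow]
          obtain ⟨Q, hQ⟩ := hzp.exists_le_sylow
          obtain ⟨g, hg⟩ := MulAction.exists_smul_eq G Q T
          have htQ : t ∈ (Q : Subgroup G) := hQ (Subgroup.mem_zpowers t)
          have hgt : g * t * g⁻¹ ∈ (T : Subgroup G) := by
            rw [← hg, Sylow.coe_subgroup_smul]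
            have := Subgroup.smul_mem_pointwise_smul t (MulAut.conj g) (Q : Subgroup G) htQ
            simpa [MulAut.smul_def] using this
          have hv1 : g * t * g⁻¹ ≠ 1 := by
            intro h
            apply ht1
            have : t = g⁻¹ * (g * t * g⁻¹) * g := by group
            rw [this, h]; group
          obtain ⟨h, hh⟩ := isConj_iff.mp (hA _ ((hmemT _).mp hgt) hv1)
          refine ⟨g⁻¹ * h, ?_⟩
          have : t = g⁻¹ * (g * t * g⁻¹) * g := by group
          rw [this, ← hh]; group
        obtain ⟨k, rfl⟩ := hconj
        have hmem : ∀ c ∈ Subgroup.centralizer ({k * x * k⁻¹} : Set G), k⁻¹ * c * k ∈ V := by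
          intro c hc
          apply hconjC k c
          rw [Subgroup.mem_centralizer_iff] at hc
          exact hc _ (Set.mem_singleton _)
        refine ⟨⟨⟨fun a b => Subtype.ext ?_⟩⟩, fun c hc => ?_⟩
        · have h1 := hcomm _ (hmem a a.2) _ (hmem b b.2)
          change (a : G) * b = b * a
          calc (a : G) * b = k * ((k⁻¹ * a * k) * (k⁻¹ * b * k)) * k⁻¹ := by group
            _ = k * ((k⁻¹ * b * k) * (k⁻¹ * a * k)) * k⁻¹ := by rw [h1]
            _ = b * a := by group
        · have h1 := hsq _ (hmem c hc)
          rw [pow_two]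
          calc c * c = k * ((k⁻¹ * c * k) * (k⁻¹ * c * k)) * k⁻¹ := by group
            _ = 1 := by rw [h1]; group
      obtain ⟨X, hXf, hXd, ρ, hinj, hcardX, _, _, h3, hsharp⟩ :=
        Cfsg.Agent.Helper19.CIT.perm_rep T hTnc hTnn hC
      have hcardG := Cfsg.Agent.Helper19.CIT.card_eq T hTnc hTnn hC
      rw [hcT] at hcardX hcardG
      have hG60 : Nat.card G = 60 := by rw [hcardG]
      have hX5 : Fintype.card X = 5 := by rw [hcardX]
      have hrange : Nat.card ρ.range = 60 := by
        rw [← Nat.card_congr (MonoidHom.ofInjective hinj).toEquiv, hG60]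
      have hperm : Nat.card (Equiv.Perm X) = 120 := by
        rw [Nat.card_eq_fintype_card, Fintype.card_perm, hX5]
        rfl
      have hindex : ρ.range.index = 2 := by
        have := Subgroup.index_mul_card ρ.range
        rw [hrange, hperm] at this
        omega
      have halt : ρ.range = alternatingGroup X := Equiv.Perm.eq_alternatingGroup_of_index_eq_two hindex
      have e1 : G ≃* ρ.range := MonoidHom.ofInjective hinj
      have e2 : ρ.range ≃* alternatingGroup X := MulEquiv.subgroupCongr halt
      have e3 : alternatingGroup X ≃* alternatingGroup (Fin 5) :=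
        Equiv.altCongrHom (Fintype.equivFinOfCardEq hX5)
      exact ⟨(e1.trans e2).trans e3⟩
    · -- not all involutions of V are conjugate: Burnside's transfer theorem
      exfalso
      push Not at hA
      obtain ⟨y, hyV, hy1, hxy⟩ := hA
      have hyx : x ≠ y := fun h => hxy (h ▸ IsConj.refl x)
      have h4 := four_elems V hC4 hxV hyV hx1 hy1 hyx hxx
      have hxy1 : x * y ≠ 1 := by
        intro h
        apply hyx
        have : y = x⁻¹ := eq_inv_of_mul_eq_one_right h
        rw [this]
        exact (inv_eq_of_mul_eq_one_right hxx).symm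
      have hNC : Subgroup.normalizer ((T : Subgroup G) : Set G) ≤
          Subgroup.centralizer ((T : Subgroup G) : Set G) := by
        intro n hn
        suffices hnV : n ∈ V by
          rw [Subgroup.mem_centralizer_iff]
          intro t ht
          exact hcomm t ((hmemT t).mp ht) n hnV
        by_contra hnV
        have hnorm : ∀ v ∈ V, n * v * n⁻¹ ∈ V := by
          intro v hv
          have := (Subgroup.mem_normalizer_iff.mp hn v).mp ((hmemT v).mpr hv)
          exact (hmemT _).mp this
        have hconj2 : ∀ a b : G, n * a * n⁻¹ = b → IsConj a b := fun a b h => isConj_iff.mpr ⟨n, h⟩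
        -- n x n⁻¹ = x y
        have h1 : n * x * n⁻¹ = x * y := by
          rcases h4 _ (hnorm x hxV) with h | h | h | h
          · exfalso
            apply hx1
            have : x = n⁻¹ * (n * x * n⁻¹) * n := by group
            rw [this, h]; group
          · exfalso
            apply hnV
            rw [hmemV]
            calc x * n = (n * x * n⁻¹)⁻¹⁻¹ * n := by rw [inv_inv, h]
              _ = n * x := by group
          · exact absurd (hconj2 _ _ h) hxy
          · exact h
        -- n (x y) n⁻¹ = x
        have h2 : n * (x * y) * n⁻¹ = x := by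
          rcases h4 _ (hnorm _ (V.mul_mem hxV hyV)) with h | h | h | h
          · exfalso
            apply hxy1
            have : x * y = n⁻¹ * (n * (x * y) * n⁻¹) * n := by group
            rw [this, h]; group
          · exact h
          · exfalso
            apply hxy
            rw [← h1] at h
            exact isConj_iff.mpr ⟨n * n, by rw [← h]; group⟩
          · exfalso
            apply hy1
            have h' : n * (x * y) * n⁻¹ = n * x * n⁻¹ := h.trans h1.symm
            have h'' : x * y = x := mul_left_cancel (mul_right_cancel h')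
            exact mul_left_cancel (a := x) (by rw [h'', mul_one])
        have hn2V : n * n ∈ V := by
          rw [hmemV]
          have : (n * n) * x * (n * n)⁻¹ = x := by
            calc (n * n) * x * (n * n)⁻¹ = n * (n * x * n⁻¹) * n⁻¹ := by group
              _ = x := by rw [h1, h2]
          calc x * (n * n) = ((n * n) * x * (n * n)⁻¹) * (n * n) := by rw [this]
            _ = n * n * x := by group
        have hn4 : n ^ 4 = 1 := by
          have := hsq _ hn2V
          calc n ^ 4 = (n * n) * (n * n) := by
                rw [pow_succ, pow_succ, pow_succ, pow_one, mul_assoc]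
            _ = 1 := this
        have hzp : IsPGroup 2 (Subgroup.zpowers n) := by
          rintro ⟨g, hg⟩
          obtain ⟨k, rfl⟩ := Subgroup.mem_zpowers_iff.mp hg
          refine ⟨2, ?_⟩
          apply Subtype.ext
          change (n ^ k) ^ (2 ^ 2) = 1
          have e : (2 : ℕ) ^ 2 = 4 := by norm_num
          rw [e, ← zpow_natCast, ← zpow_mul, mul_comm, zpow_mul, zpow_natCast, hn4, one_zpow]
        have hinf := hzp.inf_normalizer_sylow T
        have hnmem : n ∈ Subgroup.zpowers n ⊓ (T : Subgroup G) := by
          rw [← hinf]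
          exact ⟨Subgroup.mem_zpowers n, hn⟩
        exact hnV ((hmemT n).mp hnmem.2)
      have hcompl := MonoidHom.ker_transferSylow_isComplement' T hNC
      exact hnc ⟨T, _, inferInstance, hcompl⟩

end Cfsg.Agent.S3277
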