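import Cfsg.Statements.S3378
import Cfsg.Agent.Lib.Helper56.SL25Mat
import Cfsg.Agent.S0144
import Cfsg.Agent.S0494
import Cfsg.Agent.S0035

set_option autoImplicit false
set_option linter.unusedSectionVars false
open Cfsg

namespace Cfsg.Agent.S3378

open Cfsg.Agent.Helper56
open scoped Pointwise

/-! ### small solvable groups -/

lemma sol30 {H : Type*} [Group H] [Finite H] (h : Nat.card H = 30) : Group.IsSolvable H := by
  have : IsZGroup H := IsZGroup.of_squarefree (by rw [h]; decide +kernel)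
  infer_instance

lemma sol_of_card {H : Type*} [Group H] [Finite H] (h : Nat.card H ∣ 120) (h60 : Nat.card H ≠ 60)
    (h120 : Nat.card H ≠ 120) : Group.IsSolvable H := by
  have hmem : Nat.card H ∈ Nat.divisors 120 := Nat.mem_divisors.mpr ⟨h, by norm_num⟩
  have hd : Nat.divisors 120 = {1, 2, 3, 4, 5, 6, 8, 10, 12, 15, 20, 24, 30, 40, 60, 120} := by decide
  rw [hd] at hmem
  simp only [Finset.mem_insert, Finset.mem_singleton] at hmem
  rcases hmem with h | h | h | h | h | h | h | h | h | h | h | h | h | h | h | h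
  · exact Cfsg.Agent.S0144.result 2 3 0 0 Nat.prime_two Nat.prime_three (by rw [h]; norm_num)
  · exact Cfsg.Agent.S0144.result 2 3 1 0 Nat.prime_two Nat.prime_three (by rw [h]; norm_num)
  · exact Cfsg.Agent.S0144.result 2 3 0 1 Nat.prime_two Nat.prime_three (by rw [h]; norm_num)
  · exact Cfsg.Agent.S0144.result 2 3 2 0 Nat.prime_two Nat.prime_three (by rw [h]; norm_num)
  · exact Cfsg.Agent.S0144.result 2 5 0 1 Nat.prime_two Nat.prime_five (by rw [h]; norm_num)
  · exact Cfsg.Agent.S0144.result 2 3 1 1 Nat.prime_two Nat.prime_three (by rw [h]; norm_num)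
  · exact Cfsg.Agent.S0144.result 2 3 3 0 Nat.prime_two Nat.prime_three (by rw [h]; norm_num)
  · exact Cfsg.Agent.S0144.result 2 5 1 1 Nat.prime_two Nat.prime_five (by rw [h]; norm_num)
  · exact Cfsg.Agent.S0144.result 2 3 2 1 Nat.prime_two Nat.prime_three (by rw [h]; norm_num)
  · exact Cfsg.Agent.S0144.result 3 5 1 1 Nat.prime_three Nat.prime_five (by rw [h]; norm_num)
  · exact Cfsg.Agent.S0144.result 2 5 2 1 Nat.prime_two Nat.prime_five (by rw [h]; norm_num)
  · exact Cfsg.Agent.S0144.result 2 3 3 1 Nat.prime_two Nat.prime_three (by rw [h]; norm_num)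
  · exact sol30 h
  · exact Cfsg.Agent.S0144.result 2 5 3 1 Nat.prime_two Nat.prime_five (by rw [h]; norm_num)
  · exact absurd h h60
  · exact absurd h h120

lemma sol_of_normal {H : Type*} [Group H] (K : Subgroup H) [K.Normal] (h1 : Group.IsSolvable K)
    (h2 : Group.IsSolvable (H ⧸ K)) : Group.IsSolvable H := by
  apply Group.isSolvable_of_ker_le_range K.subtype (QuotientGroup.mk' K)
  rw [QuotientGroup.ker_mk', Subgroup.range_subtype]

/-- a nonsolvable group of order `60` is `A₅` -/
lemma iso_A5 {H : Type*} [Group H] [Finite H] (h : Nat.card H = 60) (hns : ¬ Group.IsSolvable H) :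
    Nonempty (H ≃* alternatingGroup (Fin 5)) := by
  have hnt : Nontrivial H := by
    rw [← Finite.one_lt_card_iff_nontrivial, h]; norm_num
  have hs : IsSimpleGroup H := by
    refine ⟨fun K hK => ?_⟩
    by_contra hcon
    push Not at hcon
    obtain ⟨hbot, htop⟩ := hcon
    apply hns
    have hmul : Nat.card (H ⧸ K) * Nat.card K = 60 := by
      rw [← h]; exact (Subgroup.card_eq_card_quotient_mul_card_subgroup K).symm
    have hK1 : Nat.card K ≠ 1 := fun h1 => hbot (Subgroup.card_eq_one.mp h1)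
    have hK60 : Nat.card K ≠ 60 := by
      intro h60
      apply htop
      exact Subgroup.card_eq_iff_eq_top K |>.mp (by rw [h60, h])
    have hKd : Nat.card K ∣ 60 := ⟨_, by rw [mul_comm]; exact hmul.symm⟩
    have hQd : Nat.card (H ⧸ K) ∣ 60 := ⟨_, hmul.symm⟩
    have hQ60 : Nat.card (H ⧸ K) ≠ 60 := by
      intro h60
      rw [h60] at hmul
      omega
    have hKle : Nat.card K ≤ 60 := Nat.le_of_dvd (by norm_num) hKd
    have hQle : Nat.card (H ⧸ K) ≤ 60 := Nat.le_of_dvd (by norm_num) hQd
    exact sol_of_normal K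
      (sol_of_card (hKd.trans (by norm_num)) hK60 (by omega))
      (sol_of_card (hQd.trans (by norm_num)) hQ60 (by omega))
  exact Cfsg.Agent.S0494.result h

/-! ### facts about `Q₈` -/

lemma q8_cases : ∀ g : QuaternionGroup 2, g = 1 ∨ g = QuaternionGroup.a 2 ∨ g * g = QuaternionGroup.a 2 := by
  decide

lemma q8_invol : ∀ g : QuaternionGroup 2, g ≠ 1 → g * g = 1 → g = QuaternionGroup.a 2 := by
  decide

lemma q8_a2_ne : (QuaternionGroup.a 2 : QuaternionGroup 2) ≠ 1 := by decide

lemma q8_a2_sq : (QuaternionGroup.a 2 : QuaternionGroup 2) * QuaternionGroup.a 2 = 1 := by decide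

lemma q8_a2_comm : ∀ g : QuaternionGroup 2, g * QuaternionGroup.a 2 = QuaternionGroup.a 2 * g := by
  decide

set_option maxRecDepth 100000 in
lemma A5_no4 : ∀ g : alternatingGroup (Fin 5), g ^ 4 = 1 → g * g = 1 := by decide +kernel

section sylow

variable {G : Type*} [Group G] [Finite G]
  (hQ8 : ∀ P : Sylow 2 G, Nonempty ((P : Subgroup G) ≃* QuaternionGroup 2))

include hQ8

/-- the involution of a Sylow 2-subgroup -/
lemma exists_invol (P : Sylow 2 G) : ∃ z : G, z ∈ (P : Subgroup G) ∧ z ≠ 1 ∧ z * z = 1 ∧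
    (∀ t ∈ (P : Subgroup G), t ≠ 1 → t * t = 1 → t = z) ∧
    (∀ t ∈ (P : Subgroup G), t * z = z * t) ∧
    (∀ t ∈ (P : Subgroup G), t ≠ 1 → t = z ∨ t * t = z) ∧ Nat.card (P : Subgroup G) = 8 := by
  obtain ⟨e⟩ := hQ8 P
  set z' : (P : Subgroup G) := e.symm (QuaternionGroup.a 2) with hz'
  have hez : e z' = QuaternionGroup.a 2 := by rw [hz', MulEquiv.apply_symm_apply]
  refine ⟨z'.1, z'.2, ?_, ?_, ?_, ?_, ?_, ?_⟩
  · intro h
    have : z' = 1 := Subtype.ext h
    rw [this, map_one] at hez
    exact q8_a2_ne hez.symm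
  · have : z' * z' = 1 := by
      apply e.injective
      rw [map_mul, hez, map_one, q8_a2_sq]
    exact congrArg Subtype.val this
  · intro t ht ht1 htt
    have h1 : e ⟨t, ht⟩ ≠ 1 := by
      intro h
      apply ht1
      have := e.injective (h.trans (map_one e).symm)
      exact congrArg Subtype.val this
    have h2 : e ⟨t, ht⟩ * e ⟨t, ht⟩ = 1 := by
      rw [← map_mul]
      have : (⟨t, ht⟩ : (P : Subgroup G)) * ⟨t, ht⟩ = 1 := Subtype.ext htt
      rw [this, map_one]
    have h3 := q8_invol _ h1 h2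
    have : (⟨t, ht⟩ : (P : Subgroup G)) = z' := e.injective (h3.trans hez.symm)
    exact congrArg Subtype.val this
  · intro t ht
    have : (⟨t, ht⟩ : (P : Subgroup G)) * z' = z' * ⟨t, ht⟩ := by
      apply e.injective
      rw [map_mul, map_mul, hez, q8_a2_comm]
    exact congrArg Subtype.val this
  · intro t ht ht1
    rcases q8_cases (e ⟨t, ht⟩) with h | h | h
    · exfalso
      apply ht1
      have := e.injective (h.trans (map_one e).symm)
      exact congrArg Subtype.val this
    · left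
      have : (⟨t, ht⟩ : (P : Subgroup G)) = z' := e.injective (h.trans hez.symm)
      exact congrArg Subtype.val this
    · right
      have : (⟨t, ht⟩ : (P : Subgroup G)) * ⟨t, ht⟩ = z' := by
        apply e.injective
        rw [map_mul, h, hez]
      exact congrArg Subtype.val this
  · rw [Nat.card_congr e.toEquiv, Nat.card_eq_fintype_card, QuaternionGroup.card]

/-- every involution is conjugate to the involution of a given Sylow 2-subgroup -/
lemma invol_conj (P : Sylow 2 G) (z : G) (hzP : z ∈ (P : Subgroup G)) (hz1 : z ≠ 1) (hzz : z * z = 1)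
    (t : G) (ht1 : t ≠ 1) (htt : t * t = 1) : ∃ g : G, t = g * z * g⁻¹ := by
  have _ : Fact (Nat.Prime 2) := ⟨Nat.prime_two⟩
  have hot : orderOf t = 2 := orderOf_eq_prime (by rw [pow_two]; exact htt) ht1
  have hp : IsPGroup 2 (Subgroup.zpowers t) :=
    IsPGroup.of_card (n := 1) (by rw [Nat.card_zpowers, hot]; norm_num)
  obtain ⟨P₁, hP₁⟩ := hp.exists_le_sylow
  obtain ⟨g, hg⟩ := MulAction.exists_smul_eq G P P₁
  refine ⟨g, ?_⟩
  obtain ⟨z₁, _, _, _, huniq, _⟩ := exists_invol hQ8 P₁
  have htP : t ∈ (P₁ : Subgroup G) := hP₁ (Subgroup.mem_zpowers t)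
  have hgz : g * z * g⁻¹ ∈ (P₁ : Subgroup G) := by
    rw [← hg, Sylow.coe_subgroup_smul, Subgroup.mem_smul_pointwise_iff_exists]
    exact ⟨z, hzP, rfl⟩
  have h1 : g * z * g⁻¹ ≠ 1 := by
    intro h
    apply hz1
    have : z = g⁻¹ * (g * z * g⁻¹) * g := by group
    rw [this, h]; group
  have h2 : g * z * g⁻¹ * (g * z * g⁻¹) = 1 := by
    calc g * z * g⁻¹ * (g * z * g⁻¹) = g * (z * z) * g⁻¹ := by group
      _ = 1 := by rw [hzz]; group
  rw [huniq t htP ht1 htt, huniq _ hgz h1 h2]

/-- there is no normal subgroup of order `60` -/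
lemma no_index_two (hcard : Nat.card G = 120) (hns : ¬ Group.IsSolvable G) (D : Subgroup G)
    [D.Normal] (hD : Nat.card D = 60) : False := by
  have hquot : Nat.card (G ⧸ D) = 2 := by
    have := Subgroup.card_eq_card_quotient_mul_card_subgroup D
    rw [hcard, hD] at this
    omega
  have hDns : ¬ Group.IsSolvable D := by
    intro hsol
    apply hns
    exact sol_of_normal D hsol (sol_of_card (by rw [hquot]; norm_num) (by rw [hquot]; norm_num)
      (by rw [hquot]; norm_num))
  obtain ⟨f⟩ := iso_A5 hD hDns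
  have P : Sylow 2 G := Classical.arbitrary _
  obtain ⟨z, hzP, hz1, hzz, huniq, _, hsq, hP8⟩ := exists_invol hQ8 P
  -- the intersection with `D`
  have hidx : (D.subgroupOf (P : Subgroup G)).index ∣ 2 := by
    have h1 : D.relIndex (P : Subgroup G) ∣ D.index := Subgroup.relIndex_dvd_index_of_normal D _
    have h2 : D.index = 2 := by rw [Subgroup.index_eq_card, hquot]
    rw [h2] at h1
    exact h1
  have hmul := Subgroup.card_mul_index (D.subgroupOf (P : Subgroup G))
  rw [hP8] at hmul
  have hge : 4 ≤ Nat.card (D.subgroupOf (P : Subgroup G)) := by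
    have hle : (D.subgroupOf (P : Subgroup G)).index ≤ 2 := Nat.le_of_dvd (by norm_num) hidx
    nlinarith
  -- some element of the intersection has `s * s ≠ 1`
  have hex : ∃ s : (P : Subgroup G), s ∈ D.subgroupOf (P : Subgroup G) ∧ s.1 * s.1 ≠ 1 := by
    by_contra hcon
    push Not at hcon
    have hall : ∀ s : D.subgroupOf (P : Subgroup G), s.1.1 = 1 ∨ s.1.1 = z := by
      intro s
      by_cases h1 : s.1.1 = 1
      · left; exact h1
      · right; exact huniq _ s.1.2 h1 (hcon s.1 s.2)
    classical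
    let φ : D.subgroupOf (P : Subgroup G) → Fin 2 := fun s => if s.1.1 = 1 then 0 else 1
    have hφ : Function.Injective φ := by
      intro s t hst
      apply Subtype.ext
      apply Subtype.ext
      by_cases hs : s.1.1 = 1
      · by_cases ht : t.1.1 = 1
        · rw [hs, ht]
        · exfalso
          have h1 : φ s = 0 := if_pos hs
          have h2 : φ t = 1 := if_neg ht
          rw [h1, h2] at hst
          exact absurd hst (by decide)
      · by_cases ht : t.1.1 = 1
        · exfalso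
          have h1 : φ s = 1 := if_neg hs
          have h2 : φ t = 0 := if_pos ht
          rw [h1, h2] at hst
          exact absurd hst (by decide)
        · rw [(hall s).resolve_left hs, (hall t).resolve_left ht]
    have := Nat.card_le_card_of_injective φ hφ
    simp at this
    omega
  obtain ⟨s, hsD, hss⟩ := hex
  have hs1 : s.1 ≠ 1 := by
    intro h; apply hss; rw [h, one_mul]
  have hsz : s.1 ≠ z := by
    intro h; apply hss; rw [h, hzz]
  have hs2 : s.1 * s.1 = z := (hsq s.1 s.2 hs1).resolve_left hsz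
  have hsD' : s.1 ∈ D := hsD
  have h4 : (f ⟨s.1, hsD'⟩) ^ 4 = 1 := by
    rw [← map_pow]
    have : (⟨s.1, hsD'⟩ : D) ^ 4 = 1 := by
      apply Subtype.ext
      show s.1 ^ 4 = 1
      calc s.1 ^ 4 = (s.1 * s.1) * (s.1 * s.1) := by simp [pow_succ, mul_assoc]
        _ = 1 := by rw [hs2, hzz]
    rw [this, map_one]
  have h2 := A5_no4 _ h4
  rw [← map_mul] at h2
  have := f.injective (h2.trans (map_one f).symm)
  exact hss (congrArg Subtype.val this)

/-- the centralizer of the involution is not a Sylow 2-subgroup -/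
lemma frob_case (hcard : Nat.card G = 120) (hns : ¬ Group.IsSolvable G) (P : Sylow 2 G) (z : G)
    (hzP : z ∈ (P : Subgroup G)) (hz1 : z ≠ 1) (hzz : z * z = 1)
    (huniq : ∀ t ∈ (P : Subgroup G), t ≠ 1 → t * t = 1 → t = z)
    (hcomm : ∀ t ∈ (P : Subgroup G), t * z = z * t)
    (hsq : ∀ t ∈ (P : Subgroup G), t ≠ 1 → t = z ∨ t * t = z) (hP8 : Nat.card (P : Subgroup G) = 8)
    (hC : Nat.card (Subgroup.centralizer ({z} : Set G)) = 8) : False := by
  have hPC : (P : Subgroup G) ≤ Subgroup.centralizer ({z} : Set G) := by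
    intro t ht
    rw [Subgroup.mem_centralizer_singleton_iff]
    exact (hcomm t ht)
  have hPeq : (P : Subgroup G) = Subgroup.centralizer ({z} : Set G) :=
    Subgroup.eq_of_le_of_card_ge hPC (by rw [hC, hP8])
  have hF : Cfsg.IsFrobeniusComplement (P : Subgroup G) := by
    refine ⟨?_, ?_, ?_⟩
    · intro h
      rw [h, Subgroup.card_bot] at hP8
      norm_num at hP8
    · intro h
      rw [h, Subgroup.card_top, hcard] at hP8
      norm_num at hP8
    · intro g hg
      rw [Subgroup.eq_bot_iff_forall]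
      rintro x ⟨hx1, hx2⟩
      by_contra hx
      -- z lies in both
      have hzboth : z ∈ MulAut.conj g • (P : Subgroup G) := by
        rcases hsq x hx1 hx with h | h
        · rw [← h]; exact hx2
        · rw [← h]; exact mul_mem hx2 hx2
      rw [Subgroup.mem_smul_pointwise_iff_exists] at hzboth
      obtain ⟨y, hy, hyz⟩ := hzboth
      have hyz' : g * y * g⁻¹ = z := hyz
      have hy1 : y ≠ 1 := by
        rintro rfl
        apply hz1
        rw [← hyz']; group
      have hyy : y * y = 1 := by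
        have : g * (y * y) * g⁻¹ = 1 := by
          calc g * (y * y) * g⁻¹ = (g * y * g⁻¹) * (g * y * g⁻¹) := by group
            _ = 1 := by rw [hyz', hzz]
        have h2 : y * y = g⁻¹ * (g * (y * y) * g⁻¹) * g := by group
        rw [h2, this]; group
      have hyeq := huniq y hy hy1 hyy
      rw [hyeq] at hyz'
      apply hg
      rw [hPeq, Subgroup.mem_centralizer_singleton_iff]
      calc g * z = g * z * g⁻¹ * g := by group
        _ = z * g := by rw [hyz']
  obtain ⟨N, _, hNn, hNc⟩ := Cfsg.Agent.S0035.result (P : Subgroup G) hF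
  have hmul := hNc.card_mul_card
  rw [hP8, hcard] at hmul
  have hN15 : Nat.card N = 15 := by omega
  have hquot : Nat.card (G ⧸ N) = 8 := by
    have := Subgroup.card_eq_card_quotient_mul_card_subgroup N
    rw [hcard, hN15] at this
    omega
  apply hns
  exact sol_of_normal N (sol_of_card (by rw [hN15]; norm_num) (by rw [hN15]; norm_num)
    (by rw [hN15]; norm_num)) (sol_of_card (by rw [hquot]; norm_num) (by rw [hquot]; norm_num)
    (by rw [hquot]; norm_num))

/-- the centralizer of the involution has index neither `5` nor `3` -/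
lemma core_case (hcard : Nat.card G = 120) (hns : ¬ Group.IsSolvable G) (P : Sylow 2 G) (z : G)
    (hzP : z ∈ (P : Subgroup G)) (hz1 : z ≠ 1) (hzz : z * z = 1)
    (hnc : ¬ ∀ g : G, g * z = z * g)
    (hC : Nat.card (Subgroup.centralizer ({z} : Set G)) = 24 ∨
      Nat.card (Subgroup.centralizer ({z} : Set G)) = 40) : False := by
  classical
  set C := Subgroup.centralizer ({z} : Set G) with hCdef
  set K := C.normalCore with hKdef
  have hKC : K ≤ C := Subgroup.normalCore_le C
  have hKdvd : Nat.card K ∣ Nat.card C := Subgroup.card_dvd_of_le hKC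
  have hKle : Nat.card K ≤ 40 := by
    have := Nat.le_of_dvd (by rcases hC with h | h <;> rw [h] <;> norm_num) hKdvd
    rcases hC with h | h <;> omega
  have hKd120 : Nat.card K ∣ 120 := by
    rcases hC with h | h
    · exact hKdvd.trans (by rw [h]; norm_num)
    · exact hKdvd.trans (by rw [h]; norm_num)
  have hKsol : Group.IsSolvable K := sol_of_card hKd120 (by omega) (by omega)
  have hQns : ¬ Group.IsSolvable (G ⧸ K) := fun h => hns (sol_of_normal K hKsol h)
  have hmul : Nat.card (G ⧸ K) * Nat.card K = 120 := by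
    rw [← hcard]; exact (Subgroup.card_eq_card_quotient_mul_card_subgroup K).symm
  have hQd : Nat.card (G ⧸ K) ∣ 120 := ⟨_, hmul.symm⟩
  have hQ : Nat.card (G ⧸ K) = 60 ∨ Nat.card (G ⧸ K) = 120 := by
    by_contra hcon
    push Not at hcon
    exact hQns (sol_of_card hQd hcon.1 hcon.2)
  -- the permutation representation
  let φ : G →* Equiv.Perm (G ⧸ C) := MulAction.toPermHom G (G ⧸ C)
  have hker : φ.ker = K := (Subgroup.normalCore_eq_ker C).symm
  have hidxC : Nat.card (G ⧸ C) * Nat.card C = 120 := by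
    rw [← hcard]; exact (Subgroup.card_eq_card_quotient_mul_card_subgroup C).symm
  have hrange : Nat.card φ.range = Nat.card (G ⧸ K) := by
    rw [← hker]
    exact (Nat.card_congr (QuotientGroup.quotientKerEquivRange φ).toEquiv).symm
  have hdvdperm : Nat.card (G ⧸ K) ∣ (Nat.card (G ⧸ C)).factorial := by
    rw [← hrange, ← Nat.card_perm]
    exact Subgroup.card_subgroup_dvd_card _
  rcases hC with h24 | h40
  swap
  · -- index 3
    have h3 : Nat.card (G ⧸ C) = 3 := by rw [h40] at hidxC; omega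
    rw [h3] at hdvdperm
    have : Nat.card (G ⧸ K) ≤ 6 := Nat.le_of_dvd (by norm_num) hdvdperm
    rcases hQ with h | h <;> omega
  -- index 5
  have h5 : Nat.card (G ⧸ C) = 5 := by rw [h24] at hidxC; omega
  rcases hQ with h60 | h120
  · -- |K| = 2
    have hK2 : Nat.card K = 2 := by rw [h60] at hmul; omega
    obtain ⟨k, hk1, hkuniq⟩ := (Nat.card_eq_two_iff' (1 : K)).mp hK2
    have hkk : k.1 * k.1 = 1 := by
      have : k ^ 2 = 1 := by rw [← hK2]; exact pow_card_eq_one'
      rw [pow_two] at this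
      exact congrArg Subtype.val this
    have hk1' : k.1 ≠ 1 := fun h => hk1 (Subtype.ext h)
    have hkc : ∀ g : G, g * k.1 = k.1 * g := by
      intro g
      have hmem : g * k.1 * g⁻¹ ∈ K := (inferInstance : K.Normal).conj_mem k.1 k.2 g
      have hne : (⟨g * k.1 * g⁻¹, hmem⟩ : K) ≠ 1 := by
        intro h
        apply hk1'
        have h' : g * k.1 * g⁻¹ = 1 := congrArg Subtype.val h
        have : k.1 = g⁻¹ * (g * k.1 * g⁻¹) * g := by group
        rw [this, h']; group
      have := hkuniq _ hne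
      have h' : g * k.1 * g⁻¹ = k.1 := congrArg Subtype.val this
      calc g * k.1 = g * k.1 * g⁻¹ * g := by group
        _ = k.1 * g := by rw [h']
    obtain ⟨g, hg⟩ := invol_conj hQ8 P z hzP hz1 hzz k.1 hk1' hkk
    have hzk : z = k.1 := by
      have : z = g⁻¹ * (g * z * g⁻¹) * g := by group
      rw [this, ← hg, mul_assoc, ← hkc g]; group
    apply hnc
    rw [hzk]; exact hkc
  · -- K trivial: G ≅ S₅
    have hK1 : Nat.card K = 1 := by rw [h120] at hmul; omega
    have hKbot : K = ⊥ := Subgroup.card_eq_one.mp hK1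
    have hφinj : Function.Injective φ := by
      rw [← MonoidHom.ker_eq_bot_iff, hker, hKbot]
    have hfinQ : Finite (G ⧸ C) := Nat.finite_of_card_ne_zero (by rw [h5]; norm_num)
    have hperm : Nat.card (Equiv.Perm (G ⧸ C)) = 120 := by
      rw [Nat.card_perm, h5]; rfl
    have hφbij : Function.Bijective φ :=
      hφinj.bijective_of_nat_card_le (by rw [hperm, hcard])
    have _ := Fintype.ofFinite (G ⧸ C)
    have hnt : Nontrivial (G ⧸ C) := by
      rw [← Finite.one_lt_card_iff_nontrivial, h5]; norm_num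
    let ψ : G →* ℤˣ := (Equiv.Perm.sign).comp φ
    have hψ : Function.Surjective ψ := (Equiv.Perm.sign_surjective (G ⧸ C)).comp hφbij.2
    have hidx : ψ.ker.index = 2 := by
      rw [Subgroup.index_ker, MonoidHom.range_eq_top.mpr hψ, Subgroup.card_top]
      simp
    have hD : Nat.card ψ.ker = 60 := by
      have := Subgroup.card_mul_index ψ.ker
      rw [hidx, hcard] at this
      omega
    exact no_index_two hQ8 hcard hns ψ.ker hD

/-- the involution of a Sylow 2-subgroup is central -/
lemma z_central (hcard : Nat.card G = 120) (hns : ¬ Group.IsSolvable G) (P : Sylow 2 G) (z : G)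
    (hzP : z ∈ (P : Subgroup G)) (hz1 : z ≠ 1) (hzz : z * z = 1)
    (huniq : ∀ t ∈ (P : Subgroup G), t ≠ 1 → t * t = 1 → t = z)
    (hcomm : ∀ t ∈ (P : Subgroup G), t * z = z * t)
    (hsq : ∀ t ∈ (P : Subgroup G), t ≠ 1 → t = z ∨ t * t = z) (hP8 : Nat.card (P : Subgroup G) = 8) :
    ∀ g : G, g * z = z * g := by
  by_contra hnc
  have hPC : (P : Subgroup G) ≤ Subgroup.centralizer ({z} : Set G) := by
    intro t ht
    rw [Subgroup.mem_centralizer_singleton_iff]
    exact (hcomm t ht)
  have h8 : 8 ∣ Nat.card (Subgroup.centralizer ({z} : Set G)) := by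
    rw [← hP8]; exact Subgroup.card_dvd_of_le hPC
  have h120 : Nat.card (Subgroup.centralizer ({z} : Set G)) ∣ 120 := by
    rw [← hcard]; exact Subgroup.card_subgroup_dvd_card _
  have hne : Nat.card (Subgroup.centralizer ({z} : Set G)) ≠ 120 := by
    intro h
    apply hnc
    have htop : Subgroup.centralizer ({z} : Set G) = ⊤ :=
      (Subgroup.card_eq_iff_eq_top _).mp (by rw [h, hcard])
    intro g
    have : g ∈ Subgroup.centralizer ({z} : Set G) := by rw [htop]; trivial
    exact Subgroup.mem_centralizer_singleton_iff.mp this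
  obtain ⟨k, hk⟩ := h8
  have hk15 : k ∣ 15 := by
    rw [hk] at h120
    exact Nat.dvd_of_mul_dvd_mul_left (by norm_num : 0 < 8) (by simpa using h120)
  have hmem : k ∈ Nat.divisors 15 := Nat.mem_divisors.mpr ⟨hk15, by norm_num⟩
  have hd : Nat.divisors 15 = {1, 3, 5, 15} := by decide
  rw [hd] at hmem
  simp only [Finset.mem_insert, Finset.mem_singleton] at hmem
  rcases hmem with rfl | rfl | rfl | rfl
  · exact frob_case hQ8 hcard hns P z hzP hz1 hzz huniq hcomm hsq hP8 (by rw [hk])
  · exact core_case hQ8 hcard hns P z hzP hz1 hzz hnc (Or.inl (by rw [hk]))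
  · exact core_case hQ8 hcard hns P z hzP hz1 hzz hnc (Or.inr (by rw [hk]))
  · exact hne (by rw [hk])

/-- the first half -/
lemma iso_SL25 (hcard : Nat.card G = 120) (hns : ¬ Group.IsSolvable G) :
    Nonempty (G ≃* Matrix.SpecialLinearGroup (Fin 2) (ZMod 5)) := by
  have P : Sylow 2 G := Classical.arbitrary _
  obtain ⟨z, hzP, hz1, hzz, huniq, hcomm, hsq, hP8⟩ := exists_invol hQ8 P
  have hzc := z_central hQ8 hcard hns P z hzP hz1 hzz huniq hcomm hsq hP8
  -- all involutions equal z
  have hinv : ∀ t : G, t ≠ 1 → t * t = 1 → t = z := by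
    intro t ht1 htt
    obtain ⟨g, hg⟩ := invol_conj hQ8 P z hzP hz1 hzz t ht1 htt
    rw [hg, hzc g, mul_inv_cancel_right]
  have _ : Fact (Nat.Prime 2) := ⟨Nat.prime_two⟩
  have hoz : orderOf z = 2 := orderOf_eq_prime (by rw [pow_two]; exact hzz) hz1
  set N := Subgroup.zpowers z with hNdef
  have hN2 : Nat.card N = 2 := by rw [Nat.card_zpowers, hoz]
  have hNmem : ∀ g : G, g ∈ N ↔ g = 1 ∨ g = z := by
    intro g
    constructor
    · intro hg
      obtain ⟨k, rfl⟩ := Subgroup.mem_zpowers_iff.mp hg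
      rcases Int.even_or_odd k with ⟨m, rfl⟩ | ⟨m, rfl⟩
      · left
        rw [← two_mul, zpow_mul, zpow_ofNat, pow_two, hzz, one_zpow]
      · right
        rw [zpow_add, zpow_mul, zpow_ofNat, pow_two, hzz, one_zpow, one_mul, zpow_one]
    · rintro (h | h)
      · rw [h]; exact one_mem _
      · rw [h]; exact Subgroup.mem_zpowers z
  have hNn : N.Normal := by
    refine ⟨fun n hn g => ?_⟩
    rcases (hNmem n).mp hn with h | h
    · rw [h]; simp
    · rw [h, hzc g, mul_inv_cancel_right, ← h]; exact hn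
  have hquot : Nat.card (G ⧸ N) = 60 := by
    have := Subgroup.card_eq_card_quotient_mul_card_subgroup N
    rw [hcard, hN2] at this
    omega
  have hNsol : Group.IsSolvable N :=
    sol_of_card (by rw [hN2]; norm_num) (by rw [hN2]; norm_num) (by rw [hN2]; norm_num)
  have hQns : ¬ Group.IsSolvable (G ⧸ N) := fun h => hns (sol_of_normal N hNsol h)
  obtain ⟨f⟩ := iso_A5 hquot hQns
  let π : G →* alternatingGroup (Fin 5) := f.toMonoidHom.comp (QuotientGroup.mk' N)
  have hπs : Function.Surjective π := f.surjective.comp (QuotientGroup.mk'_surjective N)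
  have hπk : ∀ g : G, π g = 1 ↔ g = 1 ∨ g = z := by
    intro g
    rw [← hNmem]
    show f (QuotientGroup.mk' N g) = 1 ↔ g ∈ N
    rw [← QuotientGroup.eq_one_iff (N := N) g]
    constructor
    · intro h; exact f.injective (h.trans (map_one f).symm)
    · intro h; rw [QuotientGroup.mk'_apply, h, map_one]
  -- relations in A5
  have ha3 : Cfsg.Agent.S3377.a ^ 3 = 1 := by
    rw [← Cfsg.Agent.S3377.φ_x, ← map_pow, Cfsg.Agent.S3377.x3, map_one]
  have hb5 : Cfsg.Agent.S3377.b ^ 5 = 1 := by
    rw [← Cfsg.Agent.S3377.φ_y, ← map_pow, Cfsg.Agent.S3377.y5, map_one]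
  have hab2 : (Cfsg.Agent.S3377.a * Cfsg.Agent.S3377.b) ^ 2 = 1 := by
    rw [← Cfsg.Agent.S3377.φ_x, ← Cfsg.Agent.S3377.φ_y, ← map_mul, ← map_pow,
      Cfsg.Agent.S3377.xy2, map_one]
  have hab1 : Cfsg.Agent.S3377.a * Cfsg.Agent.S3377.b ≠ 1 := by
    intro h
    have := congrArg Subtype.val h
    revert this
    decide
  -- lifts
  obtain ⟨x₀, hx₀⟩ := hπs Cfsg.Agent.S3377.a
  obtain ⟨y₀, hy₀⟩ := hπs Cfsg.Agent.S3377.b
  have hzpow : ∀ n : ℕ, Odd n → z ^ n = z := by
    rintro n ⟨m, rfl⟩
    rw [pow_add, pow_mul, pow_two, hzz, one_pow, one_mul, pow_one]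
  have hπz : π z = 1 := (hπk z).mpr (Or.inr rfl)
  obtain ⟨x, hx, hx3⟩ : ∃ x : G, π x = Cfsg.Agent.S3377.a ∧ x ^ 3 = 1 := by
    have h1 : π (x₀ ^ 3) = 1 := by rw [map_pow, hx₀, ha3]
    rcases (hπk _).mp h1 with h | h
    · exact ⟨x₀, hx₀, h⟩
    · refine ⟨x₀ * z, by rw [map_mul, hx₀, hπz, mul_one], ?_⟩
      have hc : Commute x₀ z := hzc x₀
      rw [hc.mul_pow, h, hzpow 3 (by decide), hzz]
  obtain ⟨y, hy, hy5⟩ : ∃ y : G, π y = Cfsg.Agent.S3377.b ∧ y ^ 5 = 1 := by
    have h1 : π (y₀ ^ 5) = 1 := by rw [map_pow, hy₀, hb5]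
    rcases (hπk _).mp h1 with h | h
    · exact ⟨y₀, hy₀, h⟩
    · refine ⟨y₀ * z, by rw [map_mul, hy₀, hπz, mul_one], ?_⟩
      have hc : Commute y₀ z := hzc y₀
      rw [hc.mul_pow, h, hzpow 5 (by decide), hzz]
  have hxy2 : (x * y) ^ 2 = z := by
    have h1 : π ((x * y) ^ 2) = 1 := by rw [map_pow, map_mul, hx, hy, hab2]
    rcases (hπk _).mp h1 with h | h
    · exfalso
      have hne : x * y ≠ 1 := by
        intro h'
        apply hab1
        rw [← hx, ← hy, ← map_mul, h', map_one]
      have := hinv (x * y) hne (by rw [← pow_two]; exact h)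
      apply hab1
      rw [← hx, ← hy, ← map_mul, this, hπz]
    · exact h
  -- the homomorphism from the presented group
  let θ : P120 →* G := homOf x y z hx3 hy5 (by rw [pow_two]; exact hzz) (hzc x) (hzc y) hxy2
  have hθx : θ gx = x := homOf_gx _ _ _ _ _ _ _ _ _
  have hθy : θ gy = y := homOf_gy _ _ _ _ _ _ _ _ _
  have hθz : θ gz = z := homOf_gz _ _ _ _ _ _ _ _ _
  have hθs : Function.Surjective θ := by
    -- image of the range in A5 is everything
    have hmap : θ.range.map π = ⊤ := by
      rw [eq_top_iff]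
      have h1 : (⊤ : Subgroup (alternatingGroup (Fin 5))) =
          Subgroup.closure {Cfsg.Agent.S3377.a, Cfsg.Agent.S3377.b} := by
        rw [← MonoidHom.range_eq_top.mpr Cfsg.Agent.S3377.φ_surj, MonoidHom.range_eq_map,
          ← Cfsg.Agent.S3377.closure_xy, MonoidHom.map_closure]
        congr 1
        rw [Set.image_pair, Cfsg.Agent.S3377.φ_x, Cfsg.Agent.S3377.φ_y]
      rw [h1, Subgroup.closure_le]
      rintro c (rfl | rfl)
      · exact ⟨x, ⟨gx, hθx⟩, hx⟩
      · exact ⟨y, ⟨gy, hθy⟩, hy⟩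
    intro g
    have : π g ∈ θ.range.map π := by rw [hmap]; trivial
    obtain ⟨r, hr, hrg⟩ := this
    have hk : π (g * r⁻¹) = 1 := by rw [map_mul, map_inv, hrg, mul_inv_cancel]
    have hgr : g * r⁻¹ ∈ θ.range := by
      rcases (hπk _).mp hk with h | h
      · rw [h]; exact one_mem _
      · rw [h]; exact ⟨gz, hθz⟩
    have : g = (g * r⁻¹) * r := by group
    rw [← MonoidHom.mem_range, this]
    exact mul_mem hgr hr
  have _ : Finite P120 := finite_card_P120.1
  have hθb : Function.Bijective θ :=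
    hθs.bijective_of_nat_card_le (by rw [card_P120, hcard])
  exact ⟨(MulEquiv.ofBijective θ hθb).symm.trans presEquiv⟩

end sylow

theorem result :
    (∀ (G : Type*) [Group G] [Finite G], Nat.card G = 120 → ¬ Group.IsSolvable G →
      (∀ P : Sylow 2 G, Nonempty ((P : Subgroup G) ≃* QuaternionGroup 2)) →
      Nonempty (G ≃* Matrix.SpecialLinearGroup (Fin 2) (ZMod 5))) ∧
    Nonempty (PresentedGroup ({FreeGroup.of (0 : Fin 3) ^ 3, FreeGroup.of (1 : Fin 3) ^ 5, FreeGroup.of (2 : Fin 3) ^ 2,
        (FreeGroup.of (2 : Fin 3))⁻¹ * FreeGroup.of 0 * FreeGroup.of 2 * (FreeGroup.of (0 : Fin 3))⁻¹,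
        (FreeGroup.of (2 : Fin 3))⁻¹ * FreeGroup.of 1 * FreeGroup.of 2 * (FreeGroup.of (1 : Fin 3))⁻¹,
        (FreeGroup.of (0 : Fin 3) * FreeGroup.of 1) ^ 2 * (FreeGroup.of (2 : Fin 3))⁻¹} : Set (FreeGroup (Fin 3)))
      ≃* Matrix.SpecialLinearGroup (Fin 2) (ZMod 5)) := by
  refine ⟨?_, ⟨presEquiv⟩⟩
  intro G _ _ hcard hns hQ8
  exact iso_SL25 hQ8 hcard hns

end Cfsg.Agent.S3378
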