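import Cfsg.Statements.S3634
import Cfsg.Agent.Lib.Helper60.Chain

set_option autoImplicit false
open Cfsg

namespace Cfsg.Agent.S3634

open Cfsg.Agent.Helper60

theorem aux {G : Type*} [Group G] [Finite G] (K M : Subgroup G) [K.Normal] [M.Normal] (hKM : K ≤ M)
    (p q r : ℕ) (hp : p.Prime) (hq : q.Prime) (hr : r.Prime) (hpq : p ≠ q) (hpr : p ≠ r) (hqr : q ≠ r)
    (hpK : p ∣ Nat.card ↥K) (hqM : q ∣ K.relIndex M) (hrG : r ∣ M.index)
    (hnpq : ¬ ∃ z : G, orderOf z = p * q) (hnpr : ¬ ∃ z : G, orderOf z = p * r)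
    (hnqr : ¬ ∃ z : G, orderOf z = q * r) : False := by
  have := Fact.mk hp
  let P : Sylow p K := default
  have hPne : (P : Subgroup K) ≠ ⊥ := P.ne_bot_of_dvd_card hpK
  set P' : Subgroup G := (P : Subgroup K).map K.subtype with hP'
  have hP'ne : P' ≠ ⊥ := by
    rw [hP', Ne, Subgroup.map_eq_bot_iff_of_injective _ K.subtype_injective]; exact hPne
  have hP'p : IsPGroup p P' := P.2.map K.subtype
  have hP'K : P' ≤ K := Subgroup.map_subtype_le _
  set N1 : Subgroup G := Subgroup.normalizer (P' : Set G) with hN1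
  have hFr : N1 ⊔ K = ⊤ := Sylow.normalizer_sup_eq_top P
  have hFrM : N1 ⊔ M = ⊤ := by
    rw [eq_top_iff, ← hFr]; exact sup_le_sup_left hKM N1
  have hP'N1 : P' ≤ N1 := Subgroup.le_normalizer
  -- objects in N1
  have hP1n : (P'.subgroupOf N1).Normal := Subgroup.normal_in_normalizer
  have hP1p : IsPGroup p (P'.subgroupOf N1) := hP'p.comap_subtype
  have hP1ne : P'.subgroupOf N1 ≠ ⊥ := by
    rw [Ne, Subgroup.subgroupOf_eq_bot, disjoint_iff, inf_of_le_left hP'N1]; exact hP'ne
  have hrM1 : r ∣ (M.subgroupOf N1).index := by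
    change r ∣ M.relIndex N1
    rw [← Subgroup.relIndex_sup_right, hFrM, Subgroup.relIndex_top_right]; exact hrG
  -- modular law
  have hmod : (M ⊓ N1) ⊔ K = M := by
    apply le_antisymm (sup_le inf_le_left hKM)
    intro m hm
    have hm' : m ∈ N1 ⊔ K := by rw [hFr]; trivial
    rw [← SetLike.mem_coe, Subgroup.mul_normal] at hm'
    obtain ⟨n, hn, k, hk, rfl⟩ := hm'
    have hnM : n ∈ M := by
      have : n = n * k * k⁻¹ := by group
      rw [this]; exact M.mul_mem hm (M.inv_mem (hKM hk))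
    exact Subgroup.mul_mem_sup (Subgroup.mem_inf.mpr ⟨hnM, hn⟩) hk
  have hqM1 : q ∣ Nat.card (M.subgroupOf N1) := by
    have h1 : K.relIndex M = K.relIndex (M ⊓ N1) := by
      conv_lhs => rw [← hmod]
      rw [Subgroup.relIndex_sup_right]
    have h2 : q ∣ Nat.card ↥(M ⊓ N1) := dvd_trans (h1 ▸ hqM) (Subgroup.relIndex_dvd_card _ _)
    have h3 : Nat.card (M.subgroupOf N1) = Nat.card ↥(M ⊓ N1) := by
      rw [← Subgroup.subgroupOf_map_subtype,
        Subgroup.card_map_of_injective N1.subtype_injective]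
    rw [h3]; exact h2
  have hord : ∀ (m : ℕ), (¬ ∃ z : G, orderOf z = m) → ¬ ∃ z : N1, orderOf z = m := by
    rintro m h ⟨z, hz⟩
    exact h ⟨z, by rw [Subgroup.orderOf_coe, hz]⟩
  exact normal_case hp hq hr hpq hpr hqr (hord _ hnpq) (hord _ hnpr) (hord _ hnqr)
    (P'.subgroupOf N1) (M.subgroupOf N1) hP1p hP1ne hqM1 hrM1

/-- Let G be a finite group with normal subgroups K ≤ M, and let p, q, r be distinct primes with p dividing the order of K, q dividing the order of M/K and r dividing the order of G/M. Then p, q, r are not pairwise non-adjacent in the prime graph of G: G has an element of order pq, pr or qr. -/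
theorem result {G : Type*} [Group G] [Finite G] (K M : Subgroup G) [K.Normal] [M.Normal] (hKM : K ≤ M)
    (p q r : ℕ) (hp : p.Prime) (hq : q.Prime) (hr : r.Prime) (hpq : p ≠ q) (hpr : p ≠ r) (hqr : q ≠ r)
    (hpK : p ∣ Nat.card ↥K) (hqM : q ∣ Nat.card ↥M / Nat.card ↥K) (hrG : r ∣ Nat.card G / Nat.card ↥M) :
    (∃ x : G, orderOf x = p * q) ∨ (∃ x : G, orderOf x = p * r) ∨ (∃ x : G, orderOf x = q * r) := by
  by_contra hcon
  rw [not_or, not_or] at hcon
  obtain ⟨h1, h2, h3⟩ := hcon
  have hidx : Nat.card G / Nat.card ↥M = M.index := by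
    rw [← M.card_mul_index, Nat.mul_div_cancel_left _ Nat.card_pos]
  have hrel : Nat.card ↥M / Nat.card ↥K = K.relIndex M := by
    have h4 : Nat.card (K.subgroupOf M) = Nat.card K := by
      rw [← Subgroup.card_map_of_injective M.subtype_injective, Subgroup.subgroupOf_map_subtype,
        inf_of_le_left hKM]
    have h5 := (K.subgroupOf M).card_mul_index
    rw [h4] at h5
    rw [← h5, Nat.mul_div_cancel_left _ Nat.card_pos]; rfl
  rw [hidx] at hrG
  rw [hrel] at hqM
  exact aux K M hKM p q r hp hq hr hpq hpr hqr hpK hqM hrG h1 h2 h3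

end Cfsg.Agent.S3634
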