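import Cfsg.Statements.S3633
import Cfsg.Agent.Lib.Helper60.Solvable
import Cfsg.Agent.S3634

set_option autoImplicit false
open Cfsg

namespace Cfsg.Agent.S3633

open Cfsg.Agent.Helper60

/-- relative index divisibility from cardinalities -/
theorem dvd_relIndex_of {G : Type*} [Group G] [Finite G] {K M : Subgroup G} (hKM : K ≤ M) {q : ℕ}
    (hq : q.Prime) (hqM : q ∣ Nat.card M) (hqK : ¬ q ∣ Nat.card K) : q ∣ K.relIndex M := by
  have h4 : Nat.card (K.subgroupOf M) = Nat.card K := by
    rw [← Subgroup.card_map_of_injective M.subtype_injective, Subgroup.subgroupOf_map_subtype,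
      inf_of_le_left hKM]
  have h5 := (K.subgroupOf M).card_mul_index
  rw [h4] at h5
  rw [← h5] at hqM
  rcases (Nat.Prime.dvd_mul hq).mp hqM with h | h
  · exact absurd h hqK
  · exact h

theorem dvd_index_of {G : Type*} [Group G] [Finite G] {M : Subgroup G} {r : ℕ}
    (hr : r.Prime) (hrG : r ∣ Nat.card G) (hrM : ¬ r ∣ Nat.card M) : r ∣ M.index := by
  rw [← M.card_mul_index] at hrG
  rcases (Nat.Prime.dvd_mul hr).mp hrG with h | h
  · exact absurd h hrM
  · exact h

theorem core {G : Type*} [Group G] [Finite G] [Group.IsSolvable G] {p q r : ℕ}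
    (hp : p.Prime) (hq : q.Prime) (hr : r.Prime) (hpq : p ≠ q) (hpr : p ≠ r) (hqr : q ≠ r)
    (hqG : q ∣ Nat.card G) (hrG : r ∣ Nat.card G)
    (hno : ∀ a ∈ ({p, q, r} : Finset ℕ), ∀ b ∈ ({p, q, r} : Finset ℕ), a ≠ b →
      ¬ ∃ x : G, orderOf x = a * b)
    (K : Subgroup G) [hKn : K.Normal] (hpK : p ∣ Nat.card K) (hqK : ¬ q ∣ Nat.card K)
    (hrK : ¬ r ∣ Nat.card K) : False := by
  obtain ⟨M, hMn, hKM, s, hsS, hsp, hsM, hsuniq⟩ :=
    exists_one_prime (G := G) ({q, r} : Set ℕ) ⟨q, by simp, hq, hqG⟩ _ K hKn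
      (by
        intro t ht htp
        rcases ht with rfl | rfl
        · exact hqK
        · exact hrK) rfl
  have hmp : p ∈ ({p, q, r} : Finset ℕ) := by simp
  have hmq : q ∈ ({p, q, r} : Finset ℕ) := by simp
  have hmr : r ∈ ({p, q, r} : Finset ℕ) := by simp
  rcases hsS with rfl | hsr
  · -- s = q
    have hrM : ¬ s ∣ Nat.card M → True := fun _ => trivial
    have hrM' : ¬ r ∣ Nat.card M := fun h => hqr (hsuniq r (by simp) hr h).symm
    exact Cfsg.Agent.S3634.aux K M hKM p s r hp hq hr hpq hpr hqr hpK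
      (dvd_relIndex_of hKM hq hsM hqK) (dvd_index_of hr hrG hrM')
      (hno p hmp s hmq hpq) (hno p hmp r hmr hpr) (hno s hmq r hmr hqr)
  · -- s = r
    have hsr' : s = r := hsr
    subst hsr'
    have hqM' : ¬ q ∣ Nat.card M := fun h => hqr (hsuniq q (by simp) hq h)
    exact Cfsg.Agent.S3634.aux K M hKM p s q hp hr hq hpr hpq hqr.symm hpK
      (dvd_relIndex_of hKM hr hsM hrK) (dvd_index_of hq hqG hqM')
      (hno p hmp s hmr hpr) (hno p hmp q hmq hpq) (hno s hmr q hmq hqr.symm)

/-- A finite solvable group has no three pairwise non-adjacent primes. -/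
theorem solvable_false {G : Type*} [Group G] [Finite G] [Group.IsSolvable G] {p q r : ℕ}
    (hp : p.Prime) (hq : q.Prime) (hr : r.Prime) (hpq : p ≠ q) (hpr : p ≠ r) (hqr : q ≠ r)
    (hpG : p ∣ Nat.card G) (hqG : q ∣ Nat.card G) (hrG : r ∣ Nat.card G)
    (hno : ∀ a ∈ ({p, q, r} : Finset ℕ), ∀ b ∈ ({p, q, r} : Finset ℕ), a ≠ b →
      ¬ ∃ x : G, orderOf x = a * b) : False := by
  obtain ⟨K, hKn, -, s, hsS, hsp, hsK, hsuniq⟩ :=
    exists_one_prime (G := G) ({p, q, r} : Set ℕ) ⟨p, by simp, hp, hpG⟩ _ ⊥ inferInstance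
      (by
        intro t ht htp htd
        rw [Subgroup.card_bot] at htd
        exact htp.one_lt.ne' (Nat.dvd_one.mp htd)) rfl
  rcases hsS with rfl | rfl | hsr
  · exact core hp hq hr hpq hpr hqr hqG hrG hno K hsK
      (fun h => hpq (hsuniq q (by simp) hq h).symm) (fun h => hpr (hsuniq r (by simp) hr h).symm)
  · refine core hq hp hr hpq.symm hqr hpr hpG hrG ?_ K hsK
      (fun h => hpq (hsuniq p (by simp) hp h)) (fun h => hqr (hsuniq r (by simp) hr h).symm)
    intro a ha b hb hab
    apply hno a _ b _ hab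
    · simp only [Finset.mem_insert, Finset.mem_singleton] at ha ⊢; tauto
    · simp only [Finset.mem_insert, Finset.mem_singleton] at hb ⊢; tauto
  · have hsr' : s = r := hsr
    subst hsr'
    refine core hr hp hq hpr.symm hqr.symm hpq hpG hqG ?_ K hsK
      (fun h => hpr (hsuniq p (by simp) hp h)) (fun h => hqr (hsuniq q (by simp) hq h))
    intro a ha b hb hab
    apply hno a _ b _ hab
    · simp only [Finset.mem_insert, Finset.mem_singleton] at ha ⊢; tauto
    · simp only [Finset.mem_insert, Finset.mem_singleton] at hb ⊢; tauto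

/-- `K ⊔ ⟨x⟩` is solvable when `K` is a solvable normal subgroup. -/
theorem isSolvable_sup_zpowers {G : Type*} [Group G] (K : Subgroup G) [K.Normal]
    [hK : Group.IsSolvable ↥K] (x : G) : Group.IsSolvable ↥(K ⊔ Subgroup.zpowers x) := by
  set H := K ⊔ Subgroup.zpowers x with hH
  have hKH : K ≤ H := le_sup_left
  let Z : Subgroup (G ⧸ K) := Subgroup.zpowers (QuotientGroup.mk' K x)
  have hmem : ∀ h : H, ((QuotientGroup.mk' K).comp H.subtype) h ∈ Z := by
    intro h
    have hh : (h : G) ∈ K ⊔ Subgroup.zpowers x := h.2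
    rw [sup_comm, ← SetLike.mem_coe, Subgroup.mul_normal] at hh
    obtain ⟨z, hz, k, hk, hzk⟩ := hh
    obtain ⟨n, rfl⟩ := Subgroup.mem_zpowers_iff.mp hz
    change QuotientGroup.mk' K (h : G) ∈ Z
    have hk1 : QuotientGroup.mk' K k = 1 := (QuotientGroup.eq_one_iff k).mpr hk
    rw [← hzk, map_mul, hk1, mul_one, map_zpow]
    exact Subgroup.zpow_mem_zpowers _ n
  let g : H →* Z := ((QuotientGroup.mk' K).comp H.subtype).codRestrict Z hmem
  have hZ : Group.IsSolvable Z := Group.isSolvable_of_comm (fun a b => mul_comm' a b)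
  refine Group.isSolvable_of_ker_le_range (Subgroup.inclusion hKH) g ?_
  intro h hh
  rw [MonoidHom.mem_ker] at hh
  have h1 : QuotientGroup.mk' K (h : G) = 1 := congrArg Subtype.val hh
  have h2 : (h : G) ∈ K := (QuotientGroup.eq_one_iff _).mp h1
  exact ⟨⟨h, h2⟩, rfl⟩

/-- Let G be a finite group and ρ a set of at least three prime divisors of the order of G that are pairwise non-adjacent in the prime graph (no element of order rs for distinct r, s ∈ ρ). Then at most one prime of ρ divides the order of any given solvable normal subgroup of G; in particular G is not solvable. -/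
theorem result {G : Type*} [Group G] [Finite G] (ρ : Finset ℕ) (hρ : 3 ≤ ρ.card) (hc : ((∀ r ∈ ρ, r.Prime ∧ r ∣ Nat.card G) ∧ (∀ r ∈ ρ, ∀ s ∈ ρ, r ≠ s → ¬ ∃ x : G, orderOf x = r * s)))
    (K : Subgroup G) [K.Normal] (hK : Group.IsSolvable ↥K) :
    (∀ r ∈ ρ, ∀ s ∈ ρ, r ∣ Nat.card ↥K → s ∣ Nat.card ↥K → r = s) ∧ ¬ Group.IsSolvable G := by
  obtain ⟨hc1, hc2⟩ := hc
  constructor
  · intro r hr s hs hrK hsK
    by_contra hrs
    -- a third prime
    have hcard : 1 ≤ ((ρ.erase r).erase s).card := by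
      have h1 : (ρ.erase r).card = ρ.card - 1 := Finset.card_erase_of_mem hr
      have h2 : ((ρ.erase r).erase s).card = (ρ.erase r).card - 1 :=
        Finset.card_erase_of_mem (Finset.mem_erase.mpr ⟨fun h => hrs h.symm, hs⟩)
      omega
    obtain ⟨t, ht⟩ := Finset.card_pos.mp hcard
    rw [Finset.mem_erase, Finset.mem_erase] at ht
    obtain ⟨hts, htr, htρ⟩ := ht
    have htp := (hc1 t htρ).1
    have := Fact.mk htp
    obtain ⟨x, hx⟩ := exists_prime_orderOf_dvd_card' t (hc1 t htρ).2
    have hsolv := isSolvable_sup_zpowers K x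
    set H := K ⊔ Subgroup.zpowers x with hH
    have hKH : K ≤ H := le_sup_left
    have hxH : x ∈ H := (le_sup_right : Subgroup.zpowers x ≤ H) (Subgroup.mem_zpowers x)
    have htH : t ∣ Nat.card H := by
      have := orderOf_dvd_natCard (⟨x, hxH⟩ : H)
      rwa [Subgroup.orderOf_mk, hx] at this
    refine solvable_false (G := H) (hc1 r hr).1 (hc1 s hs).1 htp hrs (Ne.symm htr) (Ne.symm hts)
      (dvd_trans hrK (Subgroup.card_dvd_of_le hKH)) (dvd_trans hsK (Subgroup.card_dvd_of_le hKH))
      htH ?_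
    rintro a ha b hb hab ⟨z, hz⟩
    have haρ : a ∈ ρ := by
      simp only [Finset.mem_insert, Finset.mem_singleton] at ha
      rcases ha with rfl | rfl | rfl <;> assumption
    have hbρ : b ∈ ρ := by
      simp only [Finset.mem_insert, Finset.mem_singleton] at hb
      rcases hb with rfl | rfl | rfl <;> assumption
    exact hc2 a haρ b hbρ hab ⟨(z : G), by rw [Subgroup.orderOf_coe, hz]⟩
  · intro hsol
    obtain ⟨p, hp, q, hq, r, hr, hpq, hpr, hqr⟩ := Finset.two_lt_card.mp (by omega : 2 < ρ.card)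
    refine solvable_false (G := G) (hc1 p hp).1 (hc1 q hq).1 (hc1 r hr).1 hpq hpr hqr
      (hc1 p hp).2 (hc1 q hq).2 (hc1 r hr).2 ?_
    intro a ha b hb hab
    have haρ : a ∈ ρ := by
      simp only [Finset.mem_insert, Finset.mem_singleton] at ha
      rcases ha with rfl | rfl | rfl <;> assumption
    have hbρ : b ∈ ρ := by
      simp only [Finset.mem_insert, Finset.mem_singleton] at hb
      rcases hb with rfl | rfl | rfl <;> assumption
    exact hc2 a haρ b hbρ hab

end Cfsg.Agent.S3633
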