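import Cfsg.Statements.S1024
import Mathlib

set_option autoImplicit false
open Cfsg

namespace Cfsg.Agent.S1024

open Cfsg.Lie

/-- The table property needed: `-r` is a root different from `r`. -/
def NegOK (D : ChevalleyDatum) : Prop :=
  ∀ r < D.nroots, D.negIdx.getD r 0 < D.nroots ∧ D.negIdx.getD r 0 ≠ r

instance (D : ChevalleyDatum) : Decidable (NegOK D) := by unfold NegOK; infer_instance

theorem negOK_G2 : NegOK chevG2 := by decide +kernel
theorem negOK_B2 : NegOK chevB2 := by decide +kernel
theorem negOK_D4 : NegOK chevD4 := by decide +kernel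
theorem negOK_F4 : NegOK chevF4 := by decide +kernel
theorem negOK_E6 : NegOK chevE6 := by decide +kernel
theorem negOK_E7 : NegOK chevE7 := by decide +kernel
theorem negOK_E8 : NegOK chevE8 := by decide +kernel

theorem chainCoeff_fst_ne_zero (D : ChevalleyDatum) (r s u : ℕ) :
    ∀ km ∈ D.chainCoeff r s u, km.1 ≠ 0 := by
  intro km hkm
  unfold ChevalleyDatum.chainCoeff at hkm
  simp only [List.mem_flatMap, List.mem_map] at hkm
  obtain ⟨e, _, q, _, rfl⟩ := hkm
  simp

theorem xMat_zero {F : Type*} [Field F] (D : ChevalleyDatum) (r : Fin D.nroots) :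
    D.xMat F r 0 = 1 := by
  ext row col
  rw [Matrix.one_apply]
  unfold ChevalleyDatum.xMat
  simp only [Matrix.of_apply]
  rcases col with i | s
  · rcases row with i' | u
    · simp
    · simp
  · by_cases hsr : s = r
    · subst hsr
      rcases row with i' | u
      · simp
      · simp
    · simp only [hsr, if_false]
      by_cases hneg : s.val = D.negIdx.getD r.val 0
      · simp only [hneg, if_true]
        rcases row with i' | u
        · simp
        · by_cases hus : u = s
          · subst hus; simp
          · have : (Sum.inr u : D.Idx) ≠ Sum.inr s := fun h => hus (Sum.inr.inj h)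
            simp [hus, this]
      · simp only [hneg, if_false]
        rcases row with i' | u
        · simp
        · have hsum : ((D.chainCoeff r.val s.val u.val).map
              fun km => ((km.2 : ℤ) : F) * (0 : F) ^ km.1).sum = 0 := by
            apply List.sum_eq_zero
            intro x hx
            simp only [List.mem_map] at hx
            obtain ⟨km, hkm, rfl⟩ := hx
            rw [zero_pow (chainCoeff_fst_ne_zero D _ _ _ km hkm), mul_zero]
          simp only [hsum, add_zero]
          by_cases hus : u = s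
          · subst hus; simp
          · have : (Sum.inr u : D.Idx) ≠ Sum.inr s := fun h => hus (Sum.inr.inj h)
            simp [hus, this]

theorem main {F : Type*} [Field F] (D : ChevalleyDatum) (hD : NegOK D) (r : ℕ) (hr : r < D.nroots)
    (t : F) : D.x F r t = 1 ↔ t = 0 := by
  unfold ChevalleyDatum.x
  rw [dif_pos hr]
  constructor
  · intro h
    obtain ⟨hlt, hne⟩ := hD r hr
    have hentry := congrFun (congrFun h (Sum.inr ⟨r, hr⟩)) (Sum.inr ⟨D.negIdx.getD r 0, hlt⟩)
    unfold ChevalleyDatum.xMat at hentry
    have h1 : (⟨D.negIdx.getD r 0, hlt⟩ : Fin D.nroots) ≠ ⟨r, hr⟩ := by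
      intro h; exact hne (Fin.mk.inj h)
    have h2 : (Sum.inr ⟨r, hr⟩ : D.Idx) ≠ Sum.inr ⟨D.negIdx.getD r 0, hlt⟩ := by
      intro h; exact h1 (Sum.inr.inj h).symm
    simp only [Matrix.of_apply, h1, if_false, if_true, Matrix.one_apply, h2, h1.symm] at hentry
    have : t ^ 2 = 0 := by
      have := neg_eq_zero.1 hentry
      exact this
    exact pow_eq_zero_iff (two_ne_zero) |>.1 this
  · rintro rfl
    exact xMat_zero D ⟨r, hr⟩

/-- `x_r(0) = 1`, and `x_r(t) = 1` forces `t = 0`: the map `t ↦ x_r(t)` is injective. -/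
theorem result {F : Type*} [Field F] (D : Cfsg.Lie.ChevalleyDatum) (hD : D ∈ [Cfsg.Lie.chevG2, Cfsg.Lie.chevB2, Cfsg.Lie.chevD4, Cfsg.Lie.chevF4, Cfsg.Lie.chevE6, Cfsg.Lie.chevE7, Cfsg.Lie.chevE8]) (r : ℕ) (hr : r < D.nroots) (t : F) :
    D.x F r t = 1 ↔ t = 0 := by
  have hOK : NegOK D := by
    simp only [List.mem_cons, List.not_mem_nil, or_false] at hD
    rcases hD with rfl | rfl | rfl | rfl | rfl | rfl | rfl
    · exact negOK_G2
    · exact negOK_B2
    · exact negOK_D4
    · exact negOK_F4
    · exact negOK_E6
    · exact negOK_E7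
    · exact negOK_E8
  exact main D hOK r hr t

end Cfsg.Agent.S1024
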