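import Cfsg.Statements.S1040
import Cfsg.Agent.Lib.Helper18.BNData
import Cfsg.Agent.Lib.Helper18.TorusAll
import Cfsg.Agent.Lib.Helper18.ConjAll
import Cfsg.Agent.S1038

set_option autoImplicit false
open Cfsg

namespace Cfsg.Agent.S1040

/-- `U ∩ N = 1` and `B ∩ N = UH ∩ N = H`. -/
theorem result {F : Type*} [Field F] (D : Cfsg.Lie.ChevalleyDatum) (hD : D ∈ [Cfsg.Lie.chevG2, Cfsg.Lie.chevB2, Cfsg.Lie.chevD4, Cfsg.Lie.chevF4, Cfsg.Lie.chevE6, Cfsg.Lie.chevE7, Cfsg.Lie.chevE8]) :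
    D.posUnipotent F ⊓ D.monomialSubgroup F = ⊥ ∧ D.borelSubgroup F ⊓ D.monomialSubgroup F = D.diagonalSubgroup F := by
  obtain ⟨tbl, hT⟩ := Cfsg.Agent.Helper18.torusData_all D hD
  have hHN : D.diagonalSubgroup F ≤ D.monomialSubgroup F := le_sup_left
  have hNH := (Subgroup.normal_subgroupOf_iff_le_normalizer hHN).mp (Cfsg.Agent.S1038.result (F := F) D hD)
  exact Cfsg.Agent.Helper18.borel_inf_monomial D hD (Cfsg.Agent.Helper18.bnFacts_all D hD) hT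
    (Cfsg.Agent.Helper17.triOK_of_mem D hD) (Cfsg.Agent.Helper18.negTriOK_of_mem D hD)
    (fun i hi s hs => Cfsg.Agent.Helper18.conjGoal_all D hD i s hi hs)
    (fun i hi => Cfsg.Agent.Helper18.conjGoalS_all D hD i hi) hNH

end Cfsg.Agent.S1040
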