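import Cfsg.Statements.S1063
import Cfsg.Agent.Lib.Helper59.ChevOrder
import Cfsg.Agent.Lib.Helper59.PoincDataE6
import Cfsg.Agent.Lib.Helper18.UiAll
import Cfsg.Agent.Lib.Helper18.TorusAll
import Cfsg.Agent.Lib.Helper18.ConjAll
import Cfsg.Agent.S1024
import Cfsg.Agent.S1027
import Cfsg.Agent.S1035
import Cfsg.Agent.S1036
import Cfsg.Agent.S1038
import Cfsg.Agent.S1039
import Cfsg.Agent.S1040
import Cfsg.Agent.S1042

set_option autoImplicit false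
open Cfsg

namespace Cfsg.Agent.S1063

/-- `gcd(3, q-1) · |E₆(q)| = q³⁶ (q² - 1)(q⁵ - 1)(q⁶ - 1)(q⁸ - 1)(q⁹ - 1)(q¹² - 1)`. -/
theorem result {F : Type*} [Field F] [Fintype F] {q : ℕ} (hq : Fintype.card F = q) : Nat.gcd 3 (q - 1) * Nat.card ↥(Cfsg.Lie.chevE6.group F) = q ^ 36 * (q ^ 2 - 1) * (q ^ 5 - 1) * (q ^ 6 - 1) * (q ^ 8 - 1) * (q ^ 9 - 1) * (q ^ 12 - 1) := by
  have hD : Cfsg.Lie.chevE6 ∈ [Cfsg.Lie.chevG2, Cfsg.Lie.chevB2, Cfsg.Lie.chevD4, Cfsg.Lie.chevF4,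
      Cfsg.Lie.chevE6, Cfsg.Lie.chevE7, Cfsg.Lie.chevE8] := by simp
  obtain ⟨tbl, hT⟩ := Cfsg.Agent.Helper18.torusData_all Cfsg.Lie.chevE6 hD
  have hHN : Cfsg.Lie.chevE6.diagonalSubgroup F ≤ Cfsg.Lie.chevE6.monomialSubgroup F := le_sup_left
  have hNH := (Subgroup.normal_subgroupOf_iff_le_normalizer hHN).mp
    (Cfsg.Agent.S1038.result (F := F) Cfsg.Lie.chevE6 hD)
  have hB := Cfsg.Agent.Helper18.bnFacts_all Cfsg.Lie.chevE6 hD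
  have hU := Cfsg.Agent.Helper18.uiFacts_all Cfsg.Lie.chevE6 hD
  have hconj : ∀ i < Cfsg.Lie.chevE6.rank, ∀ s < Cfsg.Lie.chevE6.nroots,
      Cfsg.Agent.Helper18.ConjGoal' F Cfsg.Lie.chevE6 i s :=
    fun i hi s hs => Cfsg.Agent.Helper18.conjGoal_all Cfsg.Lie.chevE6 hD i s hi hs
  have hTri := Cfsg.Agent.Helper17.triOK_of_mem Cfsg.Lie.chevE6 hD
  have hNeg := Cfsg.Agent.Helper18.negTriOK_of_mem Cfsg.Lie.chevE6 hD
  have hUcard : Nat.card (Cfsg.Lie.chevE6.posUnipotent F) = q ^ 36 := by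
    rw [Cfsg.Agent.S1027.result Cfsg.Lie.chevE6 hD, hq]
    rfl
  have h := Cfsg.Agent.Helper59.ChevOrder.card_formula (F := F) Cfsg.Lie.chevE6 hD (l := 6) rfl
    CoxeterMatrix.E₆ Cfsg.Agent.Helper6.Weyl.E6.vd
    (Cfsg.Agent.Helper6.Weyl.ordersOK_spec Cfsg.Agent.Helper6.Weyl.E6.vd _
      Cfsg.Agent.Helper6.Weyl.E6.orders_ok)
    (Cfsg.Agent.S1042.result Cfsg.Lie.chevE6 hD)
    (Cfsg.Agent.S1039.result (F := F) (Cfsg.Lie.chevE6, ⟨6, CoxeterMatrix.E₆⟩) (by simp))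
    hB hU hT hTri hNeg hconj hNH
    (fun r hr t => (Cfsg.Agent.S1024.result Cfsg.Lie.chevE6 hD r hr t).1)
    (Cfsg.Agent.S1040.result Cfsg.Lie.chevE6 hD).2
    (Cfsg.Agent.S1036.result Cfsg.Lie.chevE6 hD).2
    [2, 5, 6, 8, 9, 12] rfl Cfsg.Agent.Helper59.Poincare.E6.poinc_eq hq hUcard
    (Cfsg.Agent.S1035.result hq (Cfsg.Lie.chevE6, Nat.gcd 3 (q - 1)) (by simp))
  refine (show Nat.gcd 3 (q - 1) * Nat.card ↥(Cfsg.Lie.chevE6.group F) = _ from h).trans ?_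
  simp only [List.map, List.prod_cons, List.prod_nil]
  ring

end Cfsg.Agent.S1063
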