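import Cfsg.Statements.S1066
import Cfsg.Agent.Lib.Helper59.TwE6C
import Cfsg.Agent.Lib.Helper6.TwistTorusE6

set_option autoImplicit false
open Cfsg

namespace Cfsg.Agent.S1066

/-- `gcd(3, q+1) · |²E₆(q)| = q³⁶ (q² - 1)(q⁵ + 1)(q⁶ - 1)(q⁸ - 1)(q⁹ + 1)(q¹² - 1)`, the group being realised inside E₆ over the field with `q²` elements. -/
theorem result {K : Type*} [Field K] [Fintype K] {q : ℕ} (hq : IsPrimePow q) (hK : Fintype.card K = q ^ 2) :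
    Nat.gcd 3 (q + 1) * Nat.card ↥(Cfsg.Lie.twistedE6 K q) =
      q ^ 36 * (q ^ 2 - 1) * (q ^ 5 + 1) * (q ^ 6 - 1) * (q ^ 8 - 1) * (q ^ 9 + 1) * (q ^ 12 - 1) := by
  obtain ⟨p, k, hexp, rfl, hq1, hk, hp⟩ := Cfsg.Agent.Helper59.TwE6.exists_char hq hK
  have hH := Cfsg.Agent.Helper6.Twist.E6.card_H1 p k hk hp hK
  rw [Cfsg.Agent.Helper59.TwE6.card_twistedE6' p k hK hq1]
  have e : Nat.gcd 3 (p ^ k + 1) *
      ((p ^ k) ^ 36 * Nat.card ↥(Cfsg.Lie.chevE6.diagonalSubgroup K ⊓ Cfsg.Lie.twistedE6 K (p ^ k)) *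
        Cfsg.Agent.Helper59.TwE6.polyE6 (p ^ k)) =
      (p ^ k) ^ 36 * (Nat.gcd 3 (p ^ k + 1) *
        Nat.card ↥(Cfsg.Lie.chevE6.diagonalSubgroup K ⊓ Cfsg.Lie.twistedE6 K (p ^ k))) *
        Cfsg.Agent.Helper59.TwE6.polyE6 (p ^ k) := by ring
  rw [e, hH]
  generalize p ^ k = q at hq1
  have hq0 : 0 < q := by omega
  have h1 : 1 ≤ q := hq0
  have h2 : 1 ≤ q ^ 2 := Nat.one_le_pow _ _ hq0
  have h6 : 1 ≤ q ^ 6 := Nat.one_le_pow _ _ hq0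
  have h8 : 1 ≤ q ^ 8 := Nat.one_le_pow _ _ hq0
  have h12 : 1 ≤ q ^ 12 := Nat.one_le_pow _ _ hq0
  unfold Cfsg.Agent.Helper59.TwE6.polyE6
  zify [h1, h2, h6, h8, h12]
  ring

end Cfsg.Agent.S1066
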