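import Mathlib
import Cfsg.Statements.S5344

set_option autoImplicit false
open Cfsg

namespace Cfsg.Agent.S5344

section
variable {G : Type*} [Group G]

/-- Coxeter relations of type `A₃` -/
structure Rel (a b c : G) : Prop where
  aa : a * a = 1
  bb : b * b = 1
  cc : c * c = 1
  ca : c * a = a * c
  bab : b * (a * b) = a * (b * a)
  cbc : c * (b * c) = b * (c * b)

/-- the 24 normal forms -/
def W (a b c : G) : Fin 24 → G :=
  ![1, c, c * (b), c * (b * (a)), b, b * (c), b * (c * (b)), b * (c * (b * (a))), b * (a), b * (a * (c)), b * (a * (c * (b))), b * (a * (c * (b * (a)))), a, a * (c), a * (c * (b)), a * (c * (b * (a))), a * (b), a * (b * (c)), a * (b * (c * (b))), a * (b * (c * (b * (a)))), a * (b * (a)), a * (b * (a * (c))), a * (b * (a * (c * (b)))), a * (b * (a * (c * (b * (a)))))]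

def gen (a b c : G) : Fin 3 → G := ![a, b, c]

/-- left multiplication table on the normal forms -/
def tbl : Fin 3 → Fin 24 → Fin 24 :=
  ![![12, 13, 14, 15, 16, 17, 18, 19, 20, 21, 22, 23, 0, 1, 2, 3, 4, 5, 6, 7, 8, 9, 10, 11], ![4, 5, 6, 7, 0, 1, 2, 3, 12, 13, 14, 15, 8, 9, 10, 11, 20, 21, 22, 23, 16, 17, 18, 19], ![1, 0, 4, 8, 2, 6, 5, 9, 3, 7, 11, 10, 13, 12, 16, 20, 14, 18, 17, 21, 15, 19, 23, 22]]

theorem step {a b c : G} (h : Rel a b c) (i : Fin 3) (j : Fin 24) :
    gen a b c i * W a b c j = W a b c (tbl i j) := by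
  have aa := h.aa
  have bb := h.bb
  have cc := h.cc
  have ca := h.ca
  have bab := h.bab
  have cbc := h.cbc
  have aa' : ∀ x, a * (a * x) = x := fun x => by rw [← mul_assoc, aa, one_mul]
  have bb' : ∀ x, b * (b * x) = x := fun x => by rw [← mul_assoc, bb, one_mul]
  have cc' : ∀ x, c * (c * x) = x := fun x => by rw [← mul_assoc, cc, one_mul]
  have ca' : ∀ x, c * (a * x) = a * (c * x) := fun x => by rw [← mul_assoc, ca, mul_assoc]
  have bab' : ∀ x, b * (a * (b * x)) = a * (b * (a * x)) := fun x => by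
    rw [← mul_assoc a b x, ← mul_assoc b (a * b) x, bab]; simp only [mul_assoc]
  have cbc' : ∀ x, c * (b * (c * x)) = b * (c * (b * x)) := fun x => by
    rw [← mul_assoc b c x, ← mul_assoc c (b * c) x, cbc]; simp only [mul_assoc]
  have cbac : c * (b * (a * c)) = b * (c * (b * a)) := by
    rw [← ca, cbc']
  have cbac' : ∀ x, c * (b * (a * (c * x))) = b * (c * (b * (a * x))) := fun x => by
    rw [← ca', cbc']
  fin_cases i <;> fin_cases j <;>
    simp only [gen, W, tbl, Fin.reduceFinMk, Fin.isValue, Matrix.cons_val, mul_one, aa, bb, cc, ca, bab, cbc,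
      aa', bb', cc', ca', bab', cbc', cbac, cbac']


open Equiv

theorem relS : Rel (swap (0 : Fin 4) 1) (swap (1 : Fin 4) 2) (swap (2 : Fin 4) 3) := by
  constructor <;> decide

theorem W_inj : Function.Injective (W (swap (0 : Fin 4) 1) (swap (1 : Fin 4) 2) (swap (2 : Fin 4) 3)) := by
  decide

theorem W_bij : Function.Bijective (W (swap (0 : Fin 4) 1) (swap (1 : Fin 4) 2) (swap (2 : Fin 4) 3)) := by
  rw [Fintype.bijective_iff_injective_and_card]
  refine ⟨W_inj, ?_⟩
  rw [Fintype.card_fin, Fintype.card_perm, Fintype.card_fin]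
  rfl

theorem normal_closure_aux : ∀ σ : Perm (Fin 4), σ ≠ 1 → ∃ τ ρ : Perm (Fin 4),
    τ * σ * τ⁻¹ * (ρ * σ * ρ⁻¹) = swap 0 1 * swap 2 3 := by
  decide +kernel

theorem gen_eq (i : Fin 3) : swap (i.castSucc : Fin 4) i.succ =
    gen (swap (0 : Fin 4) 1) (swap (1 : Fin 4) 2) (swap (2 : Fin 4) 3) i := by
  fin_cases i <;> rfl

theorem main {a b c : G} (h : Rel a b c) (hac : a ≠ c) :
    ∃ φ : Perm (Fin 4) →* G, Function.Injective φ ∧ φ (swap 0 1) = a ∧ φ (swap 1 2) = b ∧
      φ (swap 2 3) = c := by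
  classical
  set s0 : Perm (Fin 4) := swap 0 1 with hs0
  set s1 : Perm (Fin 4) := swap 1 2 with hs1
  set s2 : Perm (Fin 4) := swap 2 3 with hs2
  let E : Fin 24 ≃ Perm (Fin 4) := Equiv.ofBijective (W s0 s1 s2) W_bij
  have hE : ∀ j, E j = W s0 s1 s2 j := fun _ => rfl
  let f : Perm (Fin 4) → G := fun σ => W a b c (E.symm σ)
  have hf : ∀ i σ, f (gen s0 s1 s2 i * σ) = gen a b c i * f σ := by
    intro i σ
    have h1 : gen s0 s1 s2 i * σ = E (tbl i (E.symm σ)) := by
      rw [hE, ← step relS, ← hE, Equiv.apply_symm_apply]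
    show W a b c (E.symm (gen s0 s1 s2 i * σ)) = gen a b c i * W a b c (E.symm σ)
    rw [h1, Equiv.symm_apply_apply, step h]
  have hE0 : E 0 = 1 := by
    rw [hE]; simp [W]
  have hf1 : f 1 = 1 := by
    show W a b c (E.symm 1) = 1
    rw [← hE0, Equiv.symm_apply_apply]
    simp [W]
  have hfgen : ∀ i, f (gen s0 s1 s2 i) = gen a b c i := by
    intro i
    have := hf i 1
    rwa [mul_one, hf1, mul_one] at this
  have hmul : ∀ τ σ : Perm (Fin 4), f (τ * σ) = f τ * f σ := by
    intro τ
    have hτ : τ ∈ Submonoid.closure (Set.range fun i : Fin 3 => swap (i.castSucc : Fin 4) i.succ) := by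
      rw [Equiv.Perm.mclosure_swap_castSucc_succ]; trivial
    induction hτ using Submonoid.closure_induction with
    | mem x hx =>
      obtain ⟨i, rfl⟩ := hx
      intro σ
      simp only [gen_eq]
      rw [hf, hfgen]
    | one => intro σ; rw [one_mul, hf1, one_mul]
    | mul x y _ _ hx hy =>
      intro σ
      rw [mul_assoc, hx, hy, hx, mul_assoc]
  let φ : Perm (Fin 4) →* G := MonoidHom.mk' f hmul
  have hφ0 : φ s0 = a := hfgen 0
  have hφ1 : φ s1 = b := hfgen 1
  have hφ2 : φ s2 = c := hfgen 2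
  refine ⟨φ, ?_, hφ0, hφ1, hφ2⟩
  rw [injective_iff_map_eq_one]
  intro σ hσ
  by_contra hne
  obtain ⟨τ, ρ, hτρ⟩ := normal_closure_aux σ hne
  have h1 : φ (τ * σ * τ⁻¹ * (ρ * σ * ρ⁻¹)) = 1 := by
    simp only [map_mul, hσ, mul_one, map_inv, mul_inv_cancel]
  rw [hτρ, map_mul, hφ0, hφ2] at h1
  apply hac
  have h2 : a = c⁻¹ := eq_inv_of_mul_eq_one_left h1
  rw [h2]
  exact inv_eq_of_mul_eq_one_left h.cc


theorem braid_of_cube {a b : G} (ha : a * a = 1) (hb : b * b = 1) (h3 : (a * b) ^ 3 = 1) :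
    b * (a * b) = a * (b * a) := by
  have hainv : a⁻¹ = a := inv_eq_of_mul_eq_one_left ha
  have hbinv : b⁻¹ = b := inv_eq_of_mul_eq_one_left hb
  have h3' : a * b * (a * b) * (a * b) = 1 := by
    rw [← h3, pow_succ, pow_two]
  have : a * b * a = b * a * b := by
    calc a * b * a = (a * b * (a * b) * (a * b)) * (b⁻¹ * a⁻¹ * b⁻¹) := by group
      _ = b * a * b := by rw [h3', one_mul, hainv, hbinv]
  rw [← mul_assoc, ← mul_assoc]
  exact this.symm

theorem comm_of_sq {a b : G} (ha : a * a = 1) (hb : b * b = 1) (h : (a * b) ^ 2 = 1) :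
    Commute a b := by
  have hainv : a⁻¹ = a := inv_eq_of_mul_eq_one_left ha
  have hbinv : b⁻¹ = b := inv_eq_of_mul_eq_one_left hb
  have h2 : a * b * (a * b) = 1 := by rw [← pow_two]; exact h
  show a * b = b * a
  calc a * b = (a * b * (a * b)) * (b⁻¹ * a⁻¹) := by group
    _ = b * a := by rw [h2, one_mul, hainv, hbinv]

end

/-- In a set of 3-transpositions, let a, b, c be members with a and c different and commuting, while neither a nor c commutes with b (a 3-string). Then there is an injective homomorphism from the symmetric group of degree 4 into the ambient group sending the transpositions (0 1), (1 2), (2 3) to a, b, c; so a, b, c generate a copy of the symmetric group of degree 4 in which they are transpositions. -/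
theorem result {G : Type*} [Group G] {D : Set G} (hD : Cfsg.IsThreeTranspositionSet D) {a b c : G} (ha : a ∈ D) (hb : b ∈ D) (hc : c ∈ D) (hac : a ≠ c) (hac' : Commute a c) (hab : ¬ Commute a b) (hbc : ¬ Commute b c) : ∃ φ : Equiv.Perm (Fin 4) →* G, Function.Injective φ ∧ φ (Equiv.swap 0 1) = a ∧ φ (Equiv.swap 1 2) = b ∧ φ (Equiv.swap 2 3) = c := by
  have sq : ∀ d ∈ D, d * d = 1 := by
    intro d hd
    have := hD.1 d hd
    rw [← pow_two, ← this]
    exact pow_orderOf_eq_one d
  have haa := sq a ha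
  have hbb := sq b hb
  have hcc := sq c hc
  have h1 : (a * b) ^ 3 = 1 := by
    rcases hD.2 a ha b hb with h | h
    · exact absurd (comm_of_sq haa hbb h) hab
    · exact h
  have h2 : (b * c) ^ 3 = 1 := by
    rcases hD.2 b hb c hc with h | h
    · exact absurd (comm_of_sq hbb hcc h) hbc
    · exact h
  have hrel : Rel a b c :=
    { aa := haa
      bb := hbb
      cc := hcc
      ca := hac'.eq.symm
      bab := braid_of_cube haa hbb h1
      cbc := braid_of_cube hbb hcc h2 }
  exact main hrel hac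

end Cfsg.Agent.S5344
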