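import Cfsg.Statements.S0666
import Mathlib
import Cfsg.Agent.Lib.Helper96.FrobeniusAct

set_option autoImplicit false
open Cfsg

namespace Cfsg.Agent.S0666

open Cfsg.Agent.Helper96
open scoped IsMulCommutative

/-- A Frobenius group acting on a nontrivial abelian group of order prime to that of its kernel, with the kernel acting without nontrivial fixed points, has a complement with a nontrivial fixed point. -/
theorem result {G : Type*} [Group G] [Finite G] (V F : Subgroup G) (hVab : IsMulCommutative V) (hV1 : V ≠ ⊥) (hFV : F ≤ Subgroup.normalizer (V : Set G)) (H : Subgroup ↥F) (hH : Cfsg.IsFrobeniusComplement H) (hcop : (Nat.card V).Coprime (Nat.card (Cfsg.frobeniusKernel H))) (hCK : V ⊓ Subgroup.centralizer (Subtype.val '' Cfsg.frobeniusKernel H : Set G) = ⊥) : V ⊓ Subgroup.centralizer ((H.map F.subtype : Subgroup G) : Set G) ≠ ⊥ := by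
  classical
  intro hcontra
  haveI := hVab
  letI act : MulDistribMulAction F V := normalizerConjAction F V hFV
  have hsmul : ∀ (a : F) (v : V), ((a • v : V) : G) = (a : G) * (v : G) * (a : G)⁻¹ :=
    fun _ _ => rfl
  have := Fintype.ofFinite F
  have hcomm : ∀ (a : F) (v : V), a • v = v → (a : G) * (v : G) = (v : G) * (a : G) := by
    intro a v hv
    have h1 : (a : G) * (v : G) * (a : G)⁻¹ = (v : G) := by rw [← hsmul, hv]
    calc (a : G) * (v : G) = ((a : G) * (v : G) * (a : G)⁻¹) * (a : G) := by group
      _ = (v : G) * (a : G) := by rw [h1]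
  have key : ∀ v : V, v = 1 := by
    refine frob_action_trivial hH (V := V) (by rw [← card_frobeniusKernel hH]; exact hcop) ?_ ?_
    · intro v hv
      have hmem : (v : G) ∈ V ⊓ Subgroup.centralizer
          (Subtype.val '' Cfsg.frobeniusKernel H : Set G) := by
        refine Subgroup.mem_inf.mpr ⟨v.2, ?_⟩
        rw [Subgroup.mem_centralizer_iff]
        rintro _ ⟨k, hk, rfl⟩
        exact hcomm k v (hv k hk)
      rw [hCK, Subgroup.mem_bot] at hmem
      exact Subtype.ext hmem
    · intro v hv
      have hmem : (v : G) ∈ V ⊓ Subgroup.centralizer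
          ((H.map F.subtype : Subgroup G) : Set G) := by
        refine Subgroup.mem_inf.mpr ⟨v.2, ?_⟩
        rw [Subgroup.mem_centralizer_iff]
        rintro _ ⟨k, hk, rfl⟩
        exact hcomm k v (hv k hk)
      rw [hcontra, Subgroup.mem_bot] at hmem
      exact Subtype.ext hmem
  apply hV1
  rw [Subgroup.eq_bot_iff_forall]
  intro x hx
  exact congrArg Subtype.val (key ⟨x, hx⟩)

end Cfsg.Agent.S0666
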