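import Cfsg.Statements.S0496
import Cfsg.Agent.Lib.Helper17.SieveTable1092
import Cfsg.Agent.Lib.Helper17.Small1092A
import Cfsg.Agent.Lib.Helper17.Small1092C

set_option autoImplicit false
open Cfsg

namespace Cfsg.Agent.S0496

open Cfsg.Agent.Helper17.Sieve

/-- A non-abelian finite simple group of order at most 1092 has order 60, 168, 360, 504, 660 or 1092. -/
theorem result {G : Type*} [Group G] [Finite G] [IsSimpleGroup G]
    (hG : ¬ IsMulCommutative G) (h : Nat.card G ≤ 1092) :
    Nat.card G = 60 ∨ Nat.card G = 168 ∨ Nat.card G = 360 ∨ Nat.card G = 504 ∨ Nat.card G = 660 ∨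
      Nat.card G = 1092 := by
  by_contra hcon
  push Not at hcon
  obtain ⟨h60, h168, h360, h504, h660, h1092⟩ := hcon
  have hpos : 0 < Nat.card G := Nat.card_pos
  have hskip : ¬ Skip (Nat.card G) := by
    unfold Skip
    simp only [List.mem_cons, List.not_mem_nil, or_false, not_or]
    refine ⟨by omega, ⟨h60, h168, h360, h504, h660, h1092⟩, ?_, no_612, no_720, no_756, ?_,
      no_1008, no_1040, no_1080⟩
    · exact no_two_pow_mul_fifteen 5 (Or.inl rfl)
    · exact no_two_pow_mul_fifteen 6 (Or.inr rfl)
  exact noSimple_of_le_1092 (Nat.card G) h hskip G hG rfl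

end Cfsg.Agent.S0496
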