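import Cfsg.Statements.S1016
import Cfsg.Agent.S1017

set_option autoImplicit false
open Cfsg

namespace Cfsg.Agent.S1016

open MulAction Subgroup

open scoped Pointwise

open Cfsg.Agent.S1017

variable {G : Type*} [Group G] [Finite G]

section

open MulAction Subgroup

open scoped Pointwise

open Cfsg.Agent.S1017

variable {G : Type*} [Group G] [Finite G]

instance fact5 : Fact (Nat.Prime 5) := ⟨by norm_num⟩

theorem numerics1440 (n k c : ℕ) (h : n * (k * (5 * c)) = 1440) (hk : k ∣ 5 - 1) (hk1 : k ≠ 1)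
    (hn : n % 5 = 1) (hn1 : n ≠ 1) :
    (n = 6 ∧ 2 ∣ c) ∨ (n = 16 ∧ k = 2 ∧ c = 9) ∨ (n = 36 ∧ 2 ∣ c ∧ k * c = 8) := by
  have h' : k * (n * c) = 288 := by
    have : 5 * (k * (n * c)) = 5 * 288 := by
      rw [show (5 : ℕ) * 288 = 1440 by norm_num, ← h]; ring
    exact Nat.eq_of_mul_eq_mul_left (by norm_num) this
  have hkle : k ≤ 4 := Nat.le_of_dvd (by norm_num) hk
  have hk0 : 0 < k := Nat.pos_of_dvd_of_pos hk (by norm_num)
  have hnpos : 0 < n := by
    rcases Nat.eq_zero_or_pos n with h0 | h0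
    · subst h0; simp at hn
    · exact h0
  have hcpos : 0 < c := by
    rcases Nat.eq_zero_or_pos c with h0 | h0
    · subst h0; simp at h'
    · exact h0
  have hk2 : 2 ≤ k := by omega
  have hnle : n ≤ 144 := by
    have h1 : n ≤ n * c := Nat.le_mul_of_pos_right n hcpos
    have h2 : 2 * n ≤ k * (n * c) := Nat.mul_le_mul hk2 h1
    omega
  interval_cases k <;> first | omega | (exfalso; revert hk; decide) |
    (interval_cases n <;> omega)

theorem case6_1440 [IsSimpleGroup G] (P : Sylow 5 G)
    (hP : Nat.card (P : Subgroup G) = 5) (hn : Nat.card (Sylow 5 G) = 6) (c : ℕ)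
    (hC : Nat.card (Subgroup.centralizer ((P : Subgroup G) : Set G)) = 5 * c) (hc : 2 ∣ c) :
    False := by
  obtain ⟨u', hu'⟩ := exists_prime_orderOf_dvd_card'
    (G := ↥(Subgroup.centralizer ((P : Subgroup G) : Set G))) 2 (by rw [hC]; exact Dvd.dvd.mul_left hc 5)
  have hu : orderOf (u' : G) = 2 := by rw [Subgroup.orderOf_coe]; exact hu'
  have h1 := card_fixedBy_sylow_modEq P hP (u' : G) u'.2
  have h2 := card_modEq_card_fixedBy (α := Sylow 5 G) (u' : G) hu
  have hle := card_fixedBy_le (α := Sylow 5 G) (u' : G)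
  have hne := card_fixedBy_ne (α := Sylow 5 G) (sylow_action_nontrivial (by rw [hn]; norm_num))
    (u' : G) (ne_one_of_orderOf_prime _ Nat.prime_two hu)
  rw [hn] at h2 hle hne
  unfold Nat.ModEq at h1 h2
  omega

/-- Endgame: a subgroup of index 9 containing commuting elements of orders 5 and 2. -/
theorem endgame1440 [IsSimpleGroup G] (h2 : 2 < Nat.card G) (H : Subgroup G)
    (hidx : Nat.card (G ⧸ H) = 9) (g u : G)
    (hg : orderOf g = 5) (hu : orderOf u = 2) (hc : Commute g u) (hgH : g ∈ H) (huH : u ∈ H) :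
    False := by
  have hHtop : H ≠ ⊤ := by
    intro h
    rw [h] at hidx
    have : Nat.card (G ⧸ (⊤ : Subgroup G)) = 1 := by
      rw [← Subgroup.index_eq_card, Subgroup.index_top]
    omega
  have hnt := coset_action_nontrivial H hHtop
  have ha1 := card_modEq_card_fixedBy (α := G ⧸ H) g hg
  have hale := card_fixedBy_le (α := G ⧸ H) g
  have hane := card_fixedBy_ne hnt g (ne_one_of_orderOf_prime _ (by norm_num) hg)
  have hb1 := card_modEq_card_fixedBy (α := G ⧸ H) u hu
  have hble := card_fixedBy_le (α := G ⧸ H) u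
  have hbne := card_fixedBy_ne hnt u (ne_one_of_orderOf_prime _ Nat.prime_two hu)
  have hb4 := card_fixedBy_mod_four h2 (α := G ⧸ H) u hu
  have hj1 := card_fixedBy_modEq_inter (α := G ⧸ H) u g hc.symm hu
  have hj2 := card_fixedBy_modEq_inter (α := G ⧸ H) g u hc hg
  rw [card_inter_comm] at hj1
  have hjle2 : Nat.card ↥(fixedBy (G ⧸ H) u ∩ fixedBy (G ⧸ H) g) ≤ Nat.card ↥(fixedBy (G ⧸ H) g) := by
    rw [card_inter_comm]; exact card_inter_le_left _ _
  have hjpos := card_inter_pos (fixedBy (G ⧸ H) u) (fixedBy (G ⧸ H) g) _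
    (coset_fixed H u huH) (coset_fixed H g hgH)
  rw [hidx] at ha1 hale hane hb1 hble hbne hb4
  unfold Nat.ModEq at ha1 hb1 hj1 hj2 hb4
  have ha4 : Nat.card ↥(fixedBy (G ⧸ H) g) = 4 := by omega
  rw [ha4] at hj1 hjle2
  have hb15 : Nat.card ↥(fixedBy (G ⧸ H) u) = 1 ∨ Nat.card ↥(fixedBy (G ⧸ H) u) = 5 := by omega
  rcases hb15 with hb | hb <;> rw [hb] at hj2 <;> omega

theorem case36_1440 [IsSimpleGroup G] (hG : Nat.card G = 1440) (P : Sylow 5 G)
    (hP : Nat.card (P : Subgroup G) = 5) (hn : Nat.card (Sylow 5 G) = 36) (c : ℕ)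
    (hC : Nat.card (Subgroup.centralizer ((P : Subgroup G) : Set G)) = 5 * c) (hc : 2 ∣ c)
    (hN : Nat.card (Subgroup.normalizer ((P : Subgroup G) : Set G)) = 40) : False := by
  obtain ⟨u', hu'⟩ := exists_prime_orderOf_dvd_card'
    (G := ↥(Subgroup.centralizer ((P : Subgroup G) : Set G))) 2 (by rw [hC]; exact Dvd.dvd.mul_left hc 5)
  obtain ⟨u, hudef⟩ : ∃ u : G, u = (u' : G) := ⟨_, rfl⟩
  have hu : orderOf u = 2 := by rw [hudef, Subgroup.orderOf_coe]; exact hu'
  have huK : u ∈ Subgroup.centralizer ((P : Subgroup G) : Set G) := by rw [hudef]; exact u'.2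
  have huH : u ∈ Subgroup.centralizer ({u} : Set G) := by
    rw [Subgroup.mem_centralizer_iff]
    intro z hz
    rw [Set.mem_singleton_iff] at hz
    subst hz
    rfl
  have hPM : (P : Subgroup G) ≤ Subgroup.normalizer ((P : Subgroup G) : Set G) ⊓
      Subgroup.centralizer ({u} : Set G) :=
    le_inf Subgroup.le_normalizer ((le_centralizer_singleton_iff _ u).2 huK)
  have huM : Subgroup.zpowers u ≤ Subgroup.normalizer ((P : Subgroup G) : Set G) ⊓
      Subgroup.centralizer ({u} : Set G) := by
    rw [Subgroup.zpowers_le]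
    exact ⟨Subgroup.centralizer_le_normalizer _ huK, huH⟩
  have h5M := Subgroup.card_dvd_of_le hPM
  have h2M := Subgroup.card_dvd_of_le huM
  have hM40 := Subgroup.card_dvd_of_le (inf_le_left :
    Subgroup.normalizer ((P : Subgroup G) : Set G) ⊓ Subgroup.centralizer ({u} : Set G) ≤
      Subgroup.normalizer ((P : Subgroup G) : Set G))
  rw [hP] at h5M
  rw [Nat.card_zpowers, hu] at h2M
  rw [hN] at hM40
  have hu1 : u ≠ 1 := ne_one_of_orderOf_prime _ Nat.prime_two hu
  have h1 := card_fixedBy_sylow_modEq P hP u huK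
  have h4 := card_fixedBy_mod_four (by rw [hG]; norm_num) (α := Sylow 5 G) u hu
  have hle := card_fixedBy_le (α := Sylow 5 G) u
  have hne := card_fixedBy_ne (α := Sylow 5 G) (sylow_action_nontrivial (by rw [hn]; norm_num)) u hu1
  rw [hn] at h4 hle hne
  have h16 : Nat.card (fixedBy (Sylow 5 G) u) = 16 := by
    unfold Nat.ModEq at h1 h4
    omega
  have hcard := card_centralizer_eq P hP u huK (by rw [hn, h16]; norm_num)
  rw [h16] at hcard
  have hHdvd : Nat.card (Subgroup.centralizer ({u} : Set G)) ∣ 1440 := by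
    rw [← hG]; exact Subgroup.card_subgroup_dvd_card _
  have hM10 : Nat.card ↥(Subgroup.normalizer ((P : Subgroup G) : Set G) ⊓
      Subgroup.centralizer ({u} : Set G)) = 10 := by
    have h10 : 10 ∣ Nat.card ↥(Subgroup.normalizer ((P : Subgroup G) : Set G) ⊓
        Subgroup.centralizer ({u} : Set G)) :=
      Nat.Coprime.mul_dvd_of_dvd_of_dvd (by norm_num : Nat.Coprime 5 2) h5M h2M
    obtain ⟨e, he⟩ := h10
    obtain ⟨f, hf⟩ := hM40
    rw [he] at hf hcard
    have he124 : e = 1 ∨ e = 2 ∨ e = 4 := by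
      have : e * f = 4 := by nlinarith
      have he2 : e ∣ 4 := Dvd.intro _ this
      have hele := Nat.le_of_dvd (by norm_num) he2
      interval_cases e <;> first | omega | (exfalso; revert he2; decide)
    rcases he124 with h | h | h
    · rw [he, h]
    · exfalso
      rw [h] at hcard
      rw [hcard] at hHdvd
      revert hHdvd
      decide
    · exfalso
      rw [h] at hcard
      rw [hcard] at hHdvd
      revert hHdvd
      decide
  rw [hM10] at hcard
  have hidx : Nat.card (G ⧸ Subgroup.centralizer ({u} : Set G)) = 9 := by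
    have := Subgroup.card_eq_card_quotient_mul_card_subgroup (Subgroup.centralizer ({u} : Set G))
    rw [hG, hcard] at this
    omega
  obtain ⟨g', hg'⟩ := exists_prime_orderOf_dvd_card' (G := ↥(P : Subgroup G)) 5 (by rw [hP])
  have hg : orderOf (g' : G) = 5 := by rw [Subgroup.orderOf_coe]; exact hg'
  have hcomm : Commute (g' : G) u := Subgroup.mem_centralizer_iff.mp huK g' g'.2
  have hgH : (g' : G) ∈ Subgroup.centralizer ({u} : Set G) := (hPM g'.2).2
  exact endgame1440 (by rw [hG]; norm_num) _ hidx (g' : G) u hg hu hcomm hgH huH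

end

section

open MulAction Subgroup

open scoped Pointwise

open Cfsg.Agent.S1017

variable {G : Type*} [Group G] [Finite G]

theorem card_fixedBy_eq_one_of_prime [IsSimpleGroup G] (P : Sylow 5 G)
    (hP : Nat.card (P : Subgroup G) = 5) (hn : Nat.card (Sylow 5 G) = 16) (b : G)
    (hbC : b ∈ Subgroup.centralizer ((P : Subgroup G) : Set G)) (r : ℕ) (hr : r = 3 ∨ r = 5)
    (hb : orderOf b = r) : Nat.card (fixedBy (Sylow 5 G) b) = 1 := by
  rcases hr with rfl | rfl
  · have h1 := card_fixedBy_sylow_modEq P hP b hbC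
    have h2 := card_modEq_card_fixedBy (α := Sylow 5 G) b hb
    have hle := card_fixedBy_le (α := Sylow 5 G) b
    have hne := card_fixedBy_ne (α := Sylow 5 G) (sylow_action_nontrivial (by rw [hn]; norm_num))
      b (ne_one_of_orderOf_prime _ Nat.prime_three hb)
    rw [hn] at h2 hle hne
    unfold Nat.ModEq at h1 h2
    omega
  · have hbP : b ∈ (P : Subgroup G) :=
      mem_sylow_of_mem_normalizer P b hb (Subgroup.centralizer_le_normalizer _ hbC)
    have hb1 : b ≠ 1 := ne_one_of_orderOf_prime _ (by norm_num) hb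
    have hset : fixedBy (Sylow 5 G) b = {P} := by
      ext Q
      simp only [Set.mem_singleton_iff, mem_fixedBy]
      constructor
      · intro h
        by_contra hne
        exact hb1 (eq_one_of_smul_eq P Q hP hne b hbP h)
      · rintro rfl
        exact smul_self_of_mem Q b hbP
    rw [hset]
    simp

theorem card_fixedBy_eq_one [IsSimpleGroup G] (P : Sylow 5 G)
    (hP : Nat.card (P : Subgroup G) = 5) (hn : Nat.card (Sylow 5 G) = 16)
    (hC : Nat.card (Subgroup.centralizer ((P : Subgroup G) : Set G)) = 45) (a : G)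
    (haC : a ∈ Subgroup.centralizer ((P : Subgroup G) : Set G)) (ha1 : a ≠ 1) :
    Nat.card (fixedBy (Sylow 5 G) a) = 1 := by
  have hd : orderOf a ∣ 45 := by
    have := orderOf_dvd_natCard (⟨a, haC⟩ : ↥(Subgroup.centralizer ((P : Subgroup G) : Set G)))
    rwa [Subgroup.orderOf_mk, hC] at this
  have hd1 : orderOf a ≠ 1 := fun h => ha1 (orderOf_eq_one_iff.1 h)
  obtain ⟨r, hr, hrd⟩ := Nat.exists_prime_and_dvd hd1
  have hr45 : r ∣ 3 ^ 2 * 5 := by
    have := dvd_trans hrd hd
    norm_num
    exact this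
  have hr35 : r = 3 ∨ r = 5 := by
    rcases (Nat.Prime.dvd_mul hr).1 hr45 with h | h
    · left
      exact (Nat.prime_dvd_prime_iff_eq hr Nat.prime_three).1 (hr.dvd_of_dvd_pow h)
    · right
      exact (Nat.prime_dvd_prime_iff_eq hr (by norm_num)).1 h
  have hd0 : orderOf a ≠ 0 := by
    intro h
    rw [h] at hd
    norm_num at hd
  have hb : orderOf (a ^ (orderOf a / r)) = r := orderOf_pow_orderOf_div hd0 hrd
  have hbC : a ^ (orderOf a / r) ∈ Subgroup.centralizer ((P : Subgroup G) : Set G) := pow_mem haC _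
  have h1 := card_fixedBy_eq_one_of_prime P hP hn _ hbC r hr35 hb
  have hsub : fixedBy (Sylow 5 G) a ⊆ fixedBy (Sylow 5 G) (a ^ (orderOf a / r)) := by
    intro Q hQ
    have : a ∈ stabilizer G Q := hQ
    exact pow_mem this _
  have hle : Nat.card (fixedBy (Sylow 5 G) a) ≤ 1 := by
    rw [← h1]
    exact Nat.card_mono (Set.toFinite _) hsub
  have hpos : 0 < Nat.card (fixedBy (Sylow 5 G) a) := by
    haveI : Nonempty (fixedBy (Sylow 5 G) a) :=
      ⟨⟨P, Sylow.smul_eq_iff_mem_normalizer.mpr (Subgroup.centralizer_le_normalizer _ haC)⟩⟩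
    exact Nat.card_pos
  omega

theorem case16_1440 [IsSimpleGroup G] (P : Sylow 5 G)
    (hP : Nat.card (P : Subgroup G) = 5) (hn : Nat.card (Sylow 5 G) = 16)
    (hC : Nat.card (Subgroup.centralizer ((P : Subgroup G) : Set G)) = 45) : False := by
  classical
  haveI := Fintype.ofFinite ↥(Subgroup.centralizer ((P : Subgroup G) : Set G))
  haveI := Fintype.ofFinite (Sylow 5 G)
  haveI := fun g : ↥(Subgroup.centralizer ((P : Subgroup G) : Set G)) =>
    Fintype.ofFinite (fixedBy (Sylow 5 G) g)
  haveI := Fintype.ofFinite (Quotient (orbitRel ↥(Subgroup.centralizer ((P : Subgroup G) : Set G))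
    (Sylow 5 G)))
  have hB := MulAction.sum_card_fixedBy_eq_card_orbits_mul_card_group
    ↥(Subgroup.centralizer ((P : Subgroup G) : Set G)) (Sylow 5 G)
  have hcard : Fintype.card ↥(Subgroup.centralizer ((P : Subgroup G) : Set G)) = 45 := by
    rw [← Nat.card_eq_fintype_card]; exact hC
  have hval : ∀ a : ↥(Subgroup.centralizer ((P : Subgroup G) : Set G)),
      Fintype.card (fixedBy (Sylow 5 G) a) = 1 + (if a = 1 then 15 else 0) := by
    intro a
    rw [← Nat.card_eq_fintype_card]
    split_ifs with h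
    · subst h
      have : fixedBy (Sylow 5 G) (1 : ↥(Subgroup.centralizer ((P : Subgroup G) : Set G))) =
          Set.univ := by
        ext Q; simp
      rw [this, _root_.Nat.card_coe_set_eq, Set.ncard_univ, hn]
    · have ha1 : (a : G) ≠ 1 := by
        intro h'
        apply h
        exact Subtype.ext h'
      exact card_fixedBy_eq_one P hP hn hC (a : G) a.2 ha1
  rw [Finset.sum_congr rfl (fun a _ => hval a), Finset.sum_add_distrib, Finset.sum_const,
    Finset.sum_ite_eq', hcard] at hB
  rw [Finset.card_univ, hcard, if_pos (Finset.mem_univ _), smul_eq_mul, mul_one] at hB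
  omega

end

section

open MulAction Subgroup

open scoped Pointwise

open Cfsg.Agent.S1017

variable {G : Type*} [Group G] [Finite G]

theorem main1440 [IsSimpleGroup G] (hG : Nat.card G = 1440) : False := by
  obtain ⟨P⟩ : Nonempty (Sylow 5 G) := inferInstance
  have hP : Nat.card (P : Subgroup G) = 5 := by
    have := sylow_card_eq P 1 288 (by rw [hG]; norm_num) (by norm_num)
    simpa using this
  obtain ⟨k, c, hk, hk1, hC, hN⟩ := normalizer_structure P hP (by rw [hG]; norm_num)
  have hmul := card_sylow_mul_card_normalizer P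
  have hmod := card_sylow_mod (G := G) (p := 5)
  have hn1 := sylow_count_ne_one P (by rw [hP]; norm_num) (by rw [hP, hG]; norm_num)
  rw [hN, hG] at hmul
  rcases numerics1440 _ k c hmul hk hk1 hmod hn1 with ⟨h6, hc⟩ | ⟨h16, hk2, hc9⟩ | ⟨h36, hc, hkc⟩
  · exact case6_1440 P hP h6 c hC hc
  · subst hc9
    exact case16_1440 P hP h16 (by rw [hC])
  · exact case36_1440 hG P hP h36 c hC hc (by
      have h5 : k * (5 * c) = 5 * (k * c) := by ring
      rw [hN, h5, hkc])

end

/-- No finite simple group has order 1440 = 2^5 * 3^2 * 5. -/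
theorem result {G : Type*} [Group G] [Finite G] [IsSimpleGroup G] : Nat.card G ≠ 1440 :=
  fun hG => main1440 hG

end Cfsg.Agent.S1016
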