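import Cfsg.Statements.S0497
import Cfsg.Agent.Lib.Helper17.Order360D

set_option autoImplicit false
open Cfsg

namespace Cfsg.Agent.S0497

/-- A simple group of order 360 is isomorphic to the alternating group of degree 6. -/
theorem result {G : Type*} [Group G] [Finite G] [IsSimpleGroup G]
    (h : Nat.card G = 360) : Nonempty (G ≃* alternatingGroup (Fin 6)) := by
  have hs : IsSimpleGroup (alternatingGroup (Fin 6)) :=
    alternatingGroup.isSimpleGroup (by simp)
  have hc : Nat.card (alternatingGroup (Fin 6)) = 360 := by
    have h1 := nat_card_alternatingGroup (α := Fin 6)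
    rw [h1, Nat.card_eq_fintype_card, Fintype.card_fin]
    decide
  exact Cfsg.Agent.Helper17.O360.iso_of_simple360 h hc

end Cfsg.Agent.S0497
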