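import Cfsg.Statements.S1610
import Mathlib
-- import your own Cfsg.Agent.* helpers here

set_option autoImplicit false
open Cfsg

namespace Cfsg.Agent.S1610

/-- addition table of the field of order four on `Fin 4` (`2 = ω`, `3 = ω²`). -/
def add4 : Fin 4 → Fin 4 → Fin 4 :=
  ![![0, 1, 2, 3], ![1, 0, 3, 2], ![2, 3, 0, 1], ![3, 2, 1, 0]]

/-- multiplication table of the field of order four on `Fin 4`. -/
def mul4 : Fin 4 → Fin 4 → Fin 4 :=
  ![![0, 0, 0, 0], ![0, 1, 2, 3], ![0, 2, 3, 1], ![0, 3, 1, 2]]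

def v1c : Fin 6 → Fin 4 := ![2, 3, 3, 2, 3, 2]
def v2c : Fin 6 → Fin 4 := ![3, 2, 2, 3, 3, 2]
def v3c : Fin 6 → Fin 4 := ![3, 2, 3, 2, 2, 3]

/-- the concrete hexacode word with coefficients `t`. -/
def wc (t : Fin 4 × Fin 4 × Fin 4) : Fin 6 → Fin 4 := fun i =>
  add4 (add4 (mul4 t.1 (v1c i)) (mul4 t.2.1 (v2c i))) (mul4 t.2.2 (v3c i))

/-- the concrete weight. -/
def wtc (t : Fin 4 × Fin 4 × Fin 4) : ℕ := (Finset.univ.filter fun i => wc t i ≠ 0).card

theorem wc_inj : ∀ t t' : Fin 4 × Fin 4 × Fin 4, wc t = wc t' → t = t' := by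
  decide +kernel

theorem wtc_cases : ∀ t : Fin 4 × Fin 4 × Fin 4, t ≠ (0, 0, 0) → wtc t = 4 ∨ wtc t = 6 := by
  decide +kernel

theorem count4 : (Finset.univ.filter fun t : Fin 4 × Fin 4 × Fin 4 => wtc t = 4).card = 45 := by
  decide +kernel

theorem count6 : (Finset.univ.filter fun t : Fin 4 × Fin 4 × Fin 4 => wtc t = 6).card = 18 := by
  decide +kernel

section abstract

variable {F : Type*} [Field F] [Fintype F]

theorem two_eq_zero (hF : Fintype.card F = 4) : (2 : F) = 0 := by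
  have h := card_nsmul_eq_zero (G := F) (x := (1 : F))
  rw [hF] at h
  have h4 : (2 : F) * 2 = 0 := by
    have : ((4 : ℕ) • (1 : F)) = 2 * 2 := by
      simp only [nsmul_eq_mul, mul_one]; norm_num
    rw [← this]; exact h
  rcases mul_eq_zero.mp h4 with h | h <;> exact h

/-- the map from the table model to the field. -/
def phi (ω : F) : Fin 4 → F := ![0, 1, ω, ω ^ 2]

theorem phi_add (hF : Fintype.card F = 4) (ω : F) (hω : ω ^ 2 + ω + 1 = 0) (i j : Fin 4) :
    phi ω (add4 i j) = phi ω i + phi ω j := by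
  have h2 := two_eq_zero hF
  fin_cases i <;> fin_cases j <;> simp [phi, add4] <;>
    first
      | linear_combination (-1 : F) * h2
      | linear_combination hω - (ω + 1) * h2
      | linear_combination (-1 : F) * hω + ω * h2
      | linear_combination (-ω) * h2
      | linear_combination (-1 : F) * hω + h2
      | linear_combination (-(ω ^ 2)) * h2

theorem phi_mul (ω : F) (hω : ω ^ 2 + ω + 1 = 0) (i j : Fin 4) :
    phi ω (mul4 i j) = phi ω i * phi ω j := by
  fin_cases i <;> fin_cases j <;> simp [phi, mul4] <;>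
    first
      | ring1
      | linear_combination (1 - ω) * hω
      | linear_combination (ω * (1 - ω)) * hω

omit [Fintype F] in
theorem phi_zero (ω : F) : phi ω 0 = 0 := by simp [phi]

theorem add4_eq_zero : ∀ i j : Fin 4, add4 i j = 0 → i = j := by decide

omit [Fintype F] in
theorem phi_eq_zero (ω : F) (hω : ω ^ 2 + ω + 1 = 0) (k : Fin 4) (h : phi ω k = 0) : k = 0 := by
  have hω0 : ω ≠ 0 := by
    rintro rfl
    simp at hω
  fin_cases k
  · rfl
  · simp [phi] at h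
  · simp [phi] at h; exact absurd h hω0
  · simp [phi] at h; exact absurd h hω0

theorem phi_inj (hF : Fintype.card F = 4) (ω : F) (hω : ω ^ 2 + ω + 1 = 0) :
    Function.Injective (phi ω) := by
  intro i j hij
  apply add4_eq_zero
  apply phi_eq_zero ω hω
  rw [phi_add hF ω hω, hij]
  have h2 := two_eq_zero hF
  linear_combination (phi ω j) * h2

theorem phi_surj (hF : Fintype.card F = 4) (ω : F) (hω : ω ^ 2 + ω + 1 = 0) :
    Function.Surjective (phi ω) := by
  have := (Fintype.bijective_iff_injective_and_card (phi ω)).mpr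
    ⟨phi_inj hF ω hω, by simp [hF]⟩
  exact this.2

/-- the abstract word with coefficients `t`. -/
def W (ω : F) (t : Fin 4 × Fin 4 × Fin 4) : Fin 6 → F := fun i => phi ω (wc t i)

theorem W_eq (hF : Fintype.card F = 4) (ω : F) (hω : ω ^ 2 + ω + 1 = 0)
    (t : Fin 4 × Fin 4 × Fin 4) :
    W ω t = phi ω t.1 • ![ω, ω ^ 2, ω ^ 2, ω, ω ^ 2, ω] +
      phi ω t.2.1 • ![ω ^ 2, ω, ω, ω ^ 2, ω ^ 2, ω] +
      phi ω t.2.2 • ![ω ^ 2, ω, ω ^ 2, ω, ω, ω ^ 2] := by
  funext i
  have h1 : phi ω (v1c i) = ![ω, ω ^ 2, ω ^ 2, ω, ω ^ 2, ω] i := by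
    fin_cases i <;> simp [v1c, phi]
  have h2 : phi ω (v2c i) = ![ω ^ 2, ω, ω, ω ^ 2, ω ^ 2, ω] i := by
    fin_cases i <;> simp [v2c, phi]
  have h3 : phi ω (v3c i) = ![ω ^ 2, ω, ω ^ 2, ω, ω, ω ^ 2] i := by
    fin_cases i <;> simp [v3c, phi]
  simp only [W, wc, phi_add hF ω hω, phi_mul ω hω, Pi.add_apply, Pi.smul_apply, smul_eq_mul,
    h1, h2, h3]

theorem mem_hexacode_iff (hF : Fintype.card F = 4) (ω : F) (hω : ω ^ 2 + ω + 1 = 0)
    (x : Fin 6 → F) : x ∈ Cfsg.hexacode F ω ↔ ∃ t, W ω t = x := by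
  unfold Cfsg.hexacode
  rw [Submodule.mem_span_triple]
  constructor
  · rintro ⟨a, b, c, rfl⟩
    obtain ⟨a', rfl⟩ := phi_surj hF ω hω a
    obtain ⟨b', rfl⟩ := phi_surj hF ω hω b
    obtain ⟨c', rfl⟩ := phi_surj hF ω hω c
    exact ⟨(a', b', c'), W_eq hF ω hω _⟩
  · rintro ⟨t, rfl⟩
    exact ⟨phi ω t.1, phi ω t.2.1, phi ω t.2.2, (W_eq hF ω hω t).symm⟩

theorem W_inj (hF : Fintype.card F = 4) (ω : F) (hω : ω ^ 2 + ω + 1 = 0) :
    Function.Injective (W (F := F) ω) := by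
  intro t t' h
  apply wc_inj
  funext i
  exact phi_inj hF ω hω (congrFun h i)

theorem W_weight [DecidableEq F] (hF : Fintype.card F = 4) (ω : F) (hω : ω ^ 2 + ω + 1 = 0)
    (t : Fin 4 × Fin 4 × Fin 4) :
    (Finset.univ.filter fun i => W ω t i ≠ 0).card = wtc t := by
  unfold wtc
  congr 1
  apply Finset.filter_congr
  intro i _
  constructor
  · intro h h'
    apply h
    simp only [W, h', phi_zero]
  · intro h h'
    apply h
    exact phi_eq_zero ω hω _ h'

theorem W_zero (ω : F) : W ω (0, 0, 0) = 0 := by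
  funext i
  have : wc (0, 0, 0) i = 0 := by
    revert i; decide
  simp only [W, this, phi_zero, Pi.zero_apply]

theorem set_eq [DecidableEq F] (hF : Fintype.card F = 4) (ω : F) (hω : ω ^ 2 + ω + 1 = 0) (n : ℕ) :
    {x : Fin 6 → F | x ∈ Cfsg.hexacode F ω ∧ (Finset.univ.filter fun i => x i ≠ 0).card = n} =
      W ω '' (↑(Finset.univ.filter fun t : Fin 4 × Fin 4 × Fin 4 => wtc t = n) : Set _) := by
  ext x
  simp only [Set.mem_ofPred_eq, Set.mem_image, Finset.coe_filter, Finset.mem_univ, true_and]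
  rw [mem_hexacode_iff hF ω hω]
  constructor
  · rintro ⟨⟨t, rfl⟩, h⟩
    rw [W_weight hF ω hω] at h
    exact ⟨t, h, rfl⟩
  · rintro ⟨t, h, rfl⟩
    exact ⟨⟨t, rfl⟩, by rw [W_weight hF ω hω]; exact h⟩

end abstract

/-- The hexacode has 64 words, minimum weight 4, and weight distribution 0^1 4^45 6^18. -/
theorem result (F : Type*) [Field F] [Fintype F] [DecidableEq F] (hF : Fintype.card F = 4) (ω : F) (hω : ω ^ 2 + ω + 1 = 0) : Nat.card ↥(Cfsg.hexacode F ω) = 64 ∧ (∀ x ∈ Cfsg.hexacode F ω, x ≠ 0 → (Finset.univ.filter fun i => x i ≠ 0).card = 4 ∨ (Finset.univ.filter fun i => x i ≠ 0).card = 6) ∧ {x : Fin 6 → F | x ∈ Cfsg.hexacode F ω ∧ (Finset.univ.filter fun i => x i ≠ 0).card = 4}.ncard = 45 ∧ {x : Fin 6 → F | x ∈ Cfsg.hexacode F ω ∧ (Finset.univ.filter fun i => x i ≠ 0).card = 6}.ncard = 18 := by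
  refine ⟨?_, ?_, ?_, ?_⟩
  · have : ((Cfsg.hexacode F ω : Submodule F (Fin 6 → F)) : Set (Fin 6 → F)) = Set.range (W ω) := by
      ext x
      simp only [SetLike.mem_coe, Set.mem_range]
      exact mem_hexacode_iff hF ω hω x
    have h1 : Nat.card ↥(Cfsg.hexacode F ω) = Nat.card ↑(Set.range (W (F := F) ω)) := by
      rw [← this]; rfl
    rw [h1, Nat.card_range_of_injective (W_inj hF ω hω)]
    simp
  · intro x hx hx0
    obtain ⟨t, rfl⟩ := (mem_hexacode_iff hF ω hω x).mp hx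
    rw [W_weight hF ω hω]
    apply wtc_cases
    rintro rfl
    exact hx0 (W_zero ω)
  · rw [set_eq hF ω hω, Set.ncard_image_of_injective _ (W_inj hF ω hω), Set.ncard_coe_finset, count4]
  · rw [set_eq hF ω hω, Set.ncard_image_of_injective _ (W_inj hF ω hω), Set.ncard_coe_finset, count6]

end Cfsg.Agent.S1610
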