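import Cfsg.Statements.S1611
import Mathlib
import Cfsg.Agent.S1610

set_option autoImplicit false
open Cfsg

namespace Cfsg.Agent.S1611

open Cfsg.Agent.S1610

/-! ### The table model -/

/-- A linear form in the first three coordinates. -/
def lin3 (p q r : Fin 4) (v : Fin 6 → Fin 4) : Fin 4 :=
  add4 (add4 (mul4 (v 0) p) (mul4 (v 1) q)) (mul4 (v 2) r)

/-- Decoder: the coefficients of a model word, read off its first three coordinates. -/
def dec (v : Fin 6 → Fin 4) : Fin 4 × Fin 4 × Fin 4 :=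
  (lin3 2 3 0 v, lin3 3 3 1 v, lin3 0 1 1 v)

theorem dec_wc : ∀ t : Fin 4 × Fin 4 × Fin 4, dec (wc t) = t := by decide +kernel

/-- Membership in the model hexacode. -/
def inC (v : Fin 6 → Fin 4) : Bool := decide (∀ i : Fin 6, wc (dec v) i = v i)

/-- The model monomial map. -/
def monoT (σ : Equiv.Perm (Fin 6)) (cT v : Fin 6 → Fin 4) : Fin 6 → Fin 4 :=
  fun i => mul4 (cT i) (v (σ.symm i))

/-- The model monomial map preserves the model hexacode. -/
def presT (σ : Equiv.Perm (Fin 6)) (cT : Fin 6 → Fin 4) : Bool :=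
  inC (monoT σ cT v1c) && inC (monoT σ cT v2c) && inC (monoT σ cT v3c)

/-- The nonzero elements. -/
def u3 : Fin 3 → Fin 4 := ![1, 2, 3]

/-- A vector of nonzero elements. -/
def cvec (a0 a1 a2 a3 a4 a5 : Fin 3) : Fin 6 → Fin 4 := ![u3 a0, u3 a1, u3 a2, u3 a3, u3 a4, u3 a5]

theorem K1 : ∀ a0 a1 a2 a3 a4 a5 : Fin 3, presT 1 (cvec a0 a1 a2 a3 a4 a5) = true →
    a0 = a1 ∧ a0 = a2 ∧ a0 = a3 ∧ a0 = a4 ∧ a0 = a5 := by decide +kernel

theorem K3 : ∀ a0 a1 a2 a3 a4 a5 : Fin 3,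
    presT (Equiv.swap 0 1) (cvec a0 a1 a2 a3 a4 a5) = false := by decide +kernel

/-- Certificates for the products `swap a b * swap 0 1`. -/
def certTab : Fin 6 → Fin 6 → ℕ :=
  ![![0, 0, 405, 567, 45, 63], ![0, 0, 567, 405, 63, 45], ![405, 567, 0, 0, 366, 723],
    ![567, 405, 0, 0, 723, 366], ![45, 63, 366, 723, 0, 0], ![63, 45, 723, 366, 0, 0]]

/-- The vector of nonzero elements coded by a number in base 3. -/
def cOfNat (n : ℕ) : Fin 6 → Fin 4 := fun i =>
  u3 ⟨(n / 3 ^ i.val) % 3, Nat.mod_lt _ (by norm_num)⟩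

theorem K2 : ∀ a b : Fin 6, a ≠ b →
    presT (Equiv.swap a b * Equiv.swap 0 1) (cOfNat (certTab a b)) = true := by decide +kernel

theorem u3_ne_zero : ∀ a : Fin 3, u3 a ≠ 0 := by decide

theorem exists_u3 : ∀ k : Fin 4, k ≠ 0 → ∃ a : Fin 3, u3 a = k := by decide

theorem cvec_eq (cT : Fin 6 → Fin 4) (a : Fin 6 → Fin 3) (h : ∀ i, u3 (a i) = cT i) :
    cvec (a 0) (a 1) (a 2) (a 3) (a 4) (a 5) = cT := by
  funext i
  fin_cases i <;> simp [cvec, h]

section abstract

variable {F : Type*} [Field F] [Fintype F]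

/-- The word of `F ^ 6` attached to a model word. -/
def lift (ω : F) (v : Fin 6 → Fin 4) : Fin 6 → F := fun i => phi ω (v i)

omit [Fintype F] in
theorem lift_v1c (ω : F) : lift ω v1c = ![ω, ω ^ 2, ω ^ 2, ω, ω ^ 2, ω] := by
  funext i
  fin_cases i <;> simp [lift, v1c, phi]

omit [Fintype F] in
theorem lift_v2c (ω : F) : lift ω v2c = ![ω ^ 2, ω, ω, ω ^ 2, ω ^ 2, ω] := by
  funext i
  fin_cases i <;> simp [lift, v2c, phi]

omit [Fintype F] in
theorem lift_v3c (ω : F) : lift ω v3c = ![ω ^ 2, ω, ω ^ 2, ω, ω, ω ^ 2] := by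
  funext i
  fin_cases i <;> simp [lift, v3c, phi]

theorem lift_mem_iff (hF : Fintype.card F = 4) (ω : F) (hω : ω ^ 2 + ω + 1 = 0)
    (v : Fin 6 → Fin 4) : lift ω v ∈ Cfsg.hexacode F ω ↔ inC v = true := by
  rw [mem_hexacode_iff hF ω hω]
  constructor
  · rintro ⟨t, ht⟩
    have : wc t = v := funext fun i => phi_inj hF ω hω (congrFun ht i)
    subst this
    unfold inC
    rw [dec_wc]
    simp
  · intro h
    unfold inC at h
    rw [decide_eq_true_eq] at h
    exact ⟨dec v, funext fun i => by unfold W lift; rw [h i]⟩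

/-- The monomial map preserves the hexacode. -/
def Pres (F : Type*) [Field F] (ω : F) (σ : Equiv.Perm (Fin 6)) (c : Fin 6 → Fˣ) : Prop :=
  ∀ x ∈ Cfsg.hexacode F ω, Cfsg.monomialMap σ c x ∈ Cfsg.hexacode F ω

/-- The monomial map as a linear map. -/
def monoLin (σ : Equiv.Perm (Fin 6)) (c : Fin 6 → Fˣ) : (Fin 6 → F) →ₗ[F] (Fin 6 → F) where
  toFun := Cfsg.monomialMap σ c
  map_add' x y := by
    funext i
    simp [Cfsg.monomialMap, mul_add]
  map_smul' a x := by
    funext i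
    simp [Cfsg.monomialMap, mul_left_comm]

omit [Fintype F] in
theorem pres_iff_gens (ω : F) (σ : Equiv.Perm (Fin 6)) (c : Fin 6 → Fˣ) :
    Pres F ω σ c ↔
      Cfsg.monomialMap σ c ![ω, ω ^ 2, ω ^ 2, ω, ω ^ 2, ω] ∈ Cfsg.hexacode F ω ∧
      Cfsg.monomialMap σ c ![ω ^ 2, ω, ω, ω ^ 2, ω ^ 2, ω] ∈ Cfsg.hexacode F ω ∧
      Cfsg.monomialMap σ c ![ω ^ 2, ω, ω ^ 2, ω, ω, ω ^ 2] ∈ Cfsg.hexacode F ω := by
  constructor
  · intro h
    refine ⟨h _ ?_, h _ ?_, h _ ?_⟩ <;>
    · unfold Cfsg.hexacode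
      apply Submodule.subset_span
      simp
  · rintro ⟨h1, h2, h3⟩
    have hle : Cfsg.hexacode F ω ≤ (Cfsg.hexacode F ω).comap (monoLin σ c) := by
      conv_lhs => unfold Cfsg.hexacode
      rw [Submodule.span_le]
      intro x hx
      simp only [Set.mem_insert_iff, Set.mem_singleton_iff] at hx
      rcases hx with rfl | rfl | rfl
      · exact h1
      · exact h2
      · exact h3
    intro x hx
    exact hle hx

theorem monomialMap_lift (ω : F) (hω : ω ^ 2 + ω + 1 = 0) (σ : Equiv.Perm (Fin 6))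
    (c : Fin 6 → Fˣ) (cT : Fin 6 → Fin 4) (hc : ∀ i, (c i : F) = phi ω (cT i))
    (v : Fin 6 → Fin 4) :
    Cfsg.monomialMap σ c (lift ω v) = lift ω (monoT σ cT v) := by
  funext i
  simp only [Cfsg.monomialMap, lift, monoT, phi_mul ω hω, hc]

theorem pres_iff (hF : Fintype.card F = 4) (ω : F) (hω : ω ^ 2 + ω + 1 = 0)
    (σ : Equiv.Perm (Fin 6)) (c : Fin 6 → Fˣ) (cT : Fin 6 → Fin 4)
    (hc : ∀ i, (c i : F) = phi ω (cT i)) : Pres F ω σ c ↔ presT σ cT = true := by
  rw [pres_iff_gens, ← lift_v1c, ← lift_v2c, ← lift_v3c,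
    monomialMap_lift ω hω σ c cT hc, monomialMap_lift ω hω σ c cT hc,
    monomialMap_lift ω hω σ c cT hc, lift_mem_iff hF ω hω, lift_mem_iff hF ω hω,
    lift_mem_iff hF ω hω]
  unfold presT
  simp only [Bool.and_eq_true, and_assoc]

/-- Every vector of units comes from a model vector of nonzero elements. -/
theorem exists_model (hF : Fintype.card F = 4) (ω : F) (hω : ω ^ 2 + ω + 1 = 0)
    (c : Fin 6 → Fˣ) : ∃ a : Fin 6 → Fin 3, ∀ i, (c i : F) = phi ω (u3 (a i)) := by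
  have h : ∀ i, ∃ a : Fin 3, (c i : F) = phi ω (u3 a) := by
    intro i
    obtain ⟨k, hk⟩ := phi_surj hF ω hω (c i : F)
    have hk0 : k ≠ 0 := by
      rintro rfl
      rw [phi_zero] at hk
      exact (c i).ne_zero hk.symm
    obtain ⟨a, rfl⟩ := exists_u3 k hk0
    exact ⟨a, hk.symm⟩
  choose a ha using h
  exact ⟨a, ha⟩

/-- The vector of units attached to a model vector of nonzero elements. -/
noncomputable def unitsOf (ω : F) (hω : ω ^ 2 + ω + 1 = 0) (cT : Fin 6 → Fin 4)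
    (h0 : ∀ i, cT i ≠ 0) : Fin 6 → Fˣ :=
  fun i => Units.mk0 (phi ω (cT i)) (fun h => h0 i (phi_eq_zero ω hω _ h))

end abstract

/-! ### The group of permutation parts -/

section group

variable {F : Type*} [Field F] [Fintype F]

omit [Fintype F] in
theorem monomialMap_comp (σ τ : Equiv.Perm (Fin 6)) (c e : Fin 6 → Fˣ) (x : Fin 6 → F) :
    Cfsg.monomialMap σ c (Cfsg.monomialMap τ e x) =
      Cfsg.monomialMap (σ * τ) (fun i => c i * e (σ.symm i)) x := by
  funext i
  simp [Cfsg.monomialMap, mul_assoc, Equiv.Perm.mul_def]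

omit [Fintype F] in
theorem monomialMap_one (x : Fin 6 → F) : Cfsg.monomialMap 1 (fun _ => (1 : Fˣ)) x = x := by
  funext i
  simp only [Cfsg.monomialMap, Units.val_one, one_mul]
  rfl

/-- The permutation parts of the monomial automorphisms, as a submonoid. -/
def Tm (F : Type*) [Field F] (ω : F) : Submonoid (Equiv.Perm (Fin 6)) where
  carrier := {σ | ∃ c, Pres F ω σ c}
  mul_mem' := by
    rintro σ τ ⟨c, hc⟩ ⟨e, he⟩
    refine ⟨fun i => c i * e (σ.symm i), fun x hx => ?_⟩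
    rw [← monomialMap_comp]
    exact hc _ (he x hx)
  one_mem' := ⟨fun _ => 1, fun x hx => by rw [monomialMap_one]; exact hx⟩

/-- The permutation parts of the monomial automorphisms, as a subgroup. -/
def T (F : Type*) [Field F] (ω : F) : Subgroup (Equiv.Perm (Fin 6)) :=
  { Tm F ω with
    inv_mem' := by
      intro σ hσ
      have h1 : σ⁻¹ = σ ^ (orderOf σ - 1) := by
        apply inv_eq_of_mul_eq_one_left
        rw [← pow_succ, Nat.sub_add_cancel (orderOf_pos σ), pow_orderOf_eq_one]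
      rw [h1]
      exact (Tm F ω).pow_mem hσ _ }

omit [Fintype F] in
theorem mem_T_iff (ω : F) (σ : Equiv.Perm (Fin 6)) : σ ∈ T F ω ↔ ∃ c, Pres F ω σ c := Iff.rfl

theorem swap_mul_swap01_mem (hF : Fintype.card F = 4) (ω : F) (hω : ω ^ 2 + ω + 1 = 0)
    (a b : Fin 6) (hab : a ≠ b) : Equiv.swap a b * Equiv.swap 0 1 ∈ T F ω := by
  have h0 : ∀ i, cOfNat (certTab a b) i ≠ 0 := fun i => u3_ne_zero _
  refine ⟨unitsOf ω hω _ h0, ?_⟩
  rw [pres_iff hF ω hω _ _ (cOfNat (certTab a b)) (fun i => rfl)]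
  exact K2 a b hab

theorem two_swaps_mem (hF : Fintype.card F = 4) (ω : F) (hω : ω ^ 2 + ω + 1 = 0)
    {s t : Equiv.Perm (Fin 6)} (hs : s.IsSwap) (ht : t.IsSwap) : s * t ∈ T F ω := by
  obtain ⟨a, b, hab, rfl⟩ := hs
  obtain ⟨c, d, hcd, rfl⟩ := ht
  have h1 := swap_mul_swap01_mem hF ω hω a b hab
  have h2 := (T F ω).inv_mem (swap_mul_swap01_mem hF ω hω c d hcd)
  have : Equiv.swap a b * Equiv.swap c d =
      (Equiv.swap a b * Equiv.swap 0 1) * (Equiv.swap c d * Equiv.swap 0 1)⁻¹ := by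
    rw [mul_inv_rev, Equiv.swap_inv, Equiv.swap_inv, mul_assoc, ← mul_assoc (Equiv.swap 0 1),
      Equiv.swap_mul_self, one_mul]
  rw [this]
  exact mul_mem h1 h2

theorem alternating_le (hF : Fintype.card F = 4) (ω : F) (hω : ω ^ 2 + ω + 1 = 0) :
    alternatingGroup (Fin 6) ≤ T F ω := by
  intro σ hσ
  suffices hind : ∀ (n : ℕ) (l : List (Equiv.Perm (Fin 6))) (_ : ∀ g, g ∈ l → g.IsSwap)
      (_ : l.length = 2 * n), l.prod ∈ T F ω by
    obtain ⟨l, rfl, hl⟩ := Equiv.Perm.truncSwapFactors σ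
    obtain ⟨n, hn⟩ := (Equiv.Perm.prod_list_swap_mem_alternatingGroup_iff_even_length hl).1 hσ
    rw [← two_mul] at hn
    exact hind n l hl hn
  intro n
  induction n with
  | zero =>
    intro l _ hn
    simp [List.length_eq_zero_iff.1 hn, one_mem]
  | succ n ih =>
    intro l hl hn
    rw [Nat.mul_succ] at hn
    obtain ⟨a, l, rfl⟩ := l.exists_of_length_succ hn
    rw [List.length_cons, Nat.succ_inj] at hn
    obtain ⟨b, l, rfl⟩ := l.exists_of_length_succ hn
    rw [List.prod_cons, List.prod_cons, ← mul_assoc]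
    apply mul_mem
    · exact two_swaps_mem hF ω hω (hl a (by simp)) (hl b (by simp))
    · apply ih
      · intro g hg
        exact hl g (by simp [hg])
      · simpa using hn

theorem swap01_not_mem (hF : Fintype.card F = 4) (ω : F) (hω : ω ^ 2 + ω + 1 = 0) :
    Equiv.swap (0 : Fin 6) 1 ∉ T F ω := by
  rintro ⟨c, hc⟩
  obtain ⟨a, ha⟩ := exists_model hF ω hω c
  rw [pres_iff hF ω hω _ c (fun i => u3 (a i)) ha,
    ← cvec_eq (fun i => u3 (a i)) a (fun _ => rfl), K3] at hc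
  exact Bool.false_ne_true hc

theorem T_eq (hF : Fintype.card F = 4) (ω : F) (hω : ω ^ 2 + ω + 1 = 0) :
    T F ω = alternatingGroup (Fin 6) := by
  apply le_antisymm
  · intro σ hσ
    rw [Equiv.Perm.mem_alternatingGroup]
    by_contra hs
    have hs' : Equiv.Perm.sign σ = -1 := (Int.units_eq_one_or _).resolve_left hs
    have h1 : Equiv.swap (0 : Fin 6) 1 * σ⁻¹ ∈ T F ω := alternating_le hF ω hω (by
      rw [Equiv.Perm.mem_alternatingGroup, map_mul, Equiv.Perm.sign_swap (by decide), map_inv, hs']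
      decide)
    have := mul_mem h1 hσ
    rw [inv_mul_cancel_right] at this
    exact swap01_not_mem hF ω hω this
  · exact alternating_le hF ω hω

theorem diag_const (hF : Fintype.card F = 4) (ω : F) (hω : ω ^ 2 + ω + 1 = 0)
    (c : Fin 6 → Fˣ) (hc : Pres F ω 1 c) : ∀ i j, c i = c j := by
  obtain ⟨a, ha⟩ := exists_model hF ω hω c
  rw [pres_iff hF ω hω _ c (fun i => u3 (a i)) ha,
    ← cvec_eq (fun i => u3 (a i)) a (fun _ => rfl)] at hc
  obtain ⟨h1, h2, h3, h4, h5⟩ := K1 _ _ _ _ _ _ hc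
  have hall : ∀ i, a i = a 0 := by
    intro i
    fin_cases i
    · rfl
    · exact h1.symm
    · exact h2.symm
    · exact h3.symm
    · exact h4.symm
    · exact h5.symm
  intro i j
  apply Units.ext
  rw [ha i, ha j, hall i, hall j]

omit [Fintype F] in
theorem pres_smul (ω : F) (σ : Equiv.Perm (Fin 6)) (c : Fin 6 → Fˣ) (u : Fˣ)
    (h : Pres F ω σ c) : Pres F ω σ (fun i => u * c i) := by
  intro x hx
  have : Cfsg.monomialMap σ (fun i => u * c i) x = (u : F) • Cfsg.monomialMap σ c x := by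
    funext i
    simp [Cfsg.monomialMap, mul_assoc]
  rw [this]
  exact Submodule.smul_mem _ _ (h x hx)

omit [Fintype F] in
theorem monomialMap_injective (σ : Equiv.Perm (Fin 6)) (c : Fin 6 → Fˣ) :
    Function.Injective (Cfsg.monomialMap (F := F) σ c) := by
  intro x y h
  funext i
  have := congrFun h (σ i)
  simp only [Cfsg.monomialMap, Equiv.symm_apply_apply] at this
  exact (c (σ i)).isUnit.mul_left_cancel this

theorem pres_div (ω : F) (σ : Equiv.Perm (Fin 6)) (c c' : Fin 6 → Fˣ)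
    (h : Pres F ω σ c) (h' : Pres F ω σ c') : Pres F ω 1 (fun i => c' i / c i) := by
  let f : ↥(Cfsg.hexacode F ω) → ↥(Cfsg.hexacode F ω) :=
    fun x => ⟨Cfsg.monomialMap σ c x.1, h x.1 x.2⟩
  have hinj : Function.Injective f := by
    intro x y hxy
    apply Subtype.ext
    exact monomialMap_injective σ c (congrArg Subtype.val hxy)
  have hsurj := Finite.injective_iff_surjective.mp hinj
  intro y hy
  obtain ⟨x, hx⟩ := hsurj ⟨y, hy⟩
  have hx' : Cfsg.monomialMap σ c x.1 = y := congrArg Subtype.val hx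
  have : Cfsg.monomialMap 1 (fun i => c' i / c i) y = Cfsg.monomialMap σ c' x.1 := by
    rw [← hx']
    funext i
    have e : (Equiv.symm (1 : Equiv.Perm (Fin 6))) i = i := rfl
    simp only [Cfsg.monomialMap]
    rw [e, div_eq_mul_inv, Units.val_mul, mul_assoc, ← mul_assoc (((c i)⁻¹ : Fˣ) : F),
      Units.inv_mul, one_mul]
  rw [this]
  exact h' x.1 x.2

/-- A chosen vector of scalars for a permutation part. -/
noncomputable def chosen (ω : F) (σ : ↥(T F ω)) : Fin 6 → Fˣ := Classical.choose σ.2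

omit [Fintype F] in
theorem chosen_spec (ω : F) (σ : ↥(T F ω)) : Pres F ω σ.1 (chosen ω σ) := Classical.choose_spec σ.2

/-- The monomial automorphisms are the pairs of a permutation part and a scalar. -/
noncomputable def autEquiv (hF : Fintype.card F = 4) (ω : F) (hω : ω ^ 2 + ω + 1 = 0) :
    {f : Equiv.Perm (Fin 6) × (Fin 6 → Fˣ) //
      ∀ x ∈ Cfsg.hexacode F ω, Cfsg.monomialMap f.1 f.2 x ∈ Cfsg.hexacode F ω} ≃
    ↥(T F ω) × Fˣ where
  toFun f := (⟨f.1.1, ⟨f.1.2, f.2⟩⟩, f.1.2 0 / chosen ω ⟨f.1.1, ⟨f.1.2, f.2⟩⟩ 0)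
  invFun p := ⟨(p.1.1, fun i => p.2 * chosen ω p.1 i), pres_smul ω _ _ _ (chosen_spec ω p.1)⟩
  left_inv := by
    rintro ⟨⟨σ, c⟩, h⟩
    apply Subtype.ext
    refine Prod.ext rfl ?_
    funext i
    have hd := diag_const hF ω hω _
      (pres_div ω σ (chosen ω ⟨σ, ⟨c, h⟩⟩) c (chosen_spec ω ⟨σ, ⟨c, h⟩⟩) h) 0 i
    simp only at hd ⊢
    rw [hd, div_mul_cancel]
  right_inv := by
    rintro ⟨σ, u⟩
    refine Prod.ext rfl ?_
    simp only
    rw [mul_div_assoc, div_self', mul_one]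

end group

/-- The monomial automorphism group of the hexacode has order 1080: its diagonal part is the scalars and its permutation parts form the alternating group of degree 6. -/
theorem result (F : Type*) [Field F] [Fintype F] [DecidableEq F] (hF : Fintype.card F = 4) (ω : F) (hω : ω ^ 2 + ω + 1 = 0) : Nat.card {f : Equiv.Perm (Fin 6) × (Fin 6 → Fˣ) // (∀ x ∈ Cfsg.hexacode F ω, Cfsg.monomialMap f.1 f.2 x ∈ Cfsg.hexacode F ω)} = 1080 ∧ (∀ c : Fin 6 → Fˣ, (∀ x ∈ Cfsg.hexacode F ω, Cfsg.monomialMap 1 c x ∈ Cfsg.hexacode F ω) → ∀ i j, c i = c j) ∧ {σ : Equiv.Perm (Fin 6) | ∃ c : Fin 6 → Fˣ, (∀ x ∈ Cfsg.hexacode F ω, Cfsg.monomialMap σ c x ∈ Cfsg.hexacode F ω)} = (alternatingGroup (Fin 6) : Set (Equiv.Perm (Fin 6))) := by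
  refine ⟨?_, ?_, ?_⟩
  · rw [Nat.card_congr (autEquiv hF ω hω), Nat.card_prod, T_eq hF ω hω, nat_card_alternatingGroup,
      Nat.card_units, Nat.card_eq_fintype_card, Nat.card_eq_fintype_card, hF, Fintype.card_fin]
    decide
  · intro c hc
    exact diag_const hF ω hω c hc
  · ext σ
    rw [SetLike.mem_coe, ← T_eq hF ω hω]
    rfl

end Cfsg.Agent.S1611
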