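import Cfsg.Statements.S0254
import Cfsg.Agent.Lib.Helper5.PSL2Small
import Cfsg.Agent.Lib.Helper5.Order60
import Cfsg.Agent.Lib.Helper41.IcosaPSL2

set_option autoImplicit false
open Cfsg

namespace Cfsg.Agent.S0254

/-- PSL_2(9) is isomorphic to A_6. -/
theorem result {F : Type*} [Field F] [Fintype F] (hF : Fintype.card F = 9) : Nonempty (Matrix.ProjectiveSpecialLinearGroup (Fin 2) F ≃* alternatingGroup (Fin 6)) := by
  classical
  have hsimple : IsSimpleGroup (Matrix.ProjectiveSpecialLinearGroup (Fin 2) F) :=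
    Matrix.ProjectiveSpecialLinearGroup.rank_two_simple
      (by rw [Nat.card_eq_fintype_card, hF]; norm_num)
  have hcard : Nat.card (Matrix.ProjectiveSpecialLinearGroup (Fin 2) F) = 360 := by
    have h1 := Cfsg.Agent.Helper5.card_PSL2_mul hF
    have h2 : Nat.gcd 2 (9 - 1) = 2 := by decide
    rw [h2] at h1
    omega
  have : Finite (Matrix.ProjectiveSpecialLinearGroup (Fin 2) F) :=
    Nat.finite_of_card_ne_zero (by rw [hcard]; norm_num)
  obtain ⟨H, ⟨e⟩⟩ := (Cfsg.Agent.Helper41.alt5_le_psl2_iff hF).mpr (by norm_num)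
  have hH60 : Nat.card H = 60 := by
    rw [Nat.card_congr e.toEquiv, Nat.card_eq_fintype_card, Fintype.card_eq_nat_card,
      nat_card_alternatingGroup, Nat.card_eq_fintype_card, Fintype.card_fin]
    rfl
  have hidx : H.index = 6 := by
    have h1 := Subgroup.card_mul_index H
    rw [hH60, hcard] at h1
    omega
  have hne : H ≠ ⊤ := by
    intro h
    rw [h, Subgroup.index_top] at hidx
    norm_num at hidx
  have hinj := Cfsg.Agent.Helper5.injective_toPermHom_quotient H hne
  exact Cfsg.Agent.Helper5.equiv_alternating_of_injective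
    (MulAction.toPermHom (Matrix.ProjectiveSpecialLinearGroup (Fin 2) F)
      (Matrix.ProjectiveSpecialLinearGroup (Fin 2) F ⧸ H)) hinj 6
    (by rw [← Subgroup.index_eq_card, hidx]) (by rw [hcard]; rfl)

end Cfsg.Agent.S0254
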