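import Cfsg.Statements.S3967
import Mathlib
import Cfsg.Agent.Lib.Helper65.MultPres
import Cfsg.Agent.Lib.Helper65.MetaRel2
import Cfsg.Agent.Lib.Helper65.MetaNum2
import Cfsg.Agent.Lib.Helper65.MetaModel
import Cfsg.Agent.Lib.Helper65.MetaFin

set_option autoImplicit false
open Cfsg

namespace Cfsg.Agent.S3967

open Cfsg.Agent.Helper65

/-- elements of the closure of three central elements -/
theorem mem_closure_three {E : Type*} [Group E] (z1 z2 z3 : E)
    (h1 : z1 ∈ Subgroup.center E) (h2 : z2 ∈ Subgroup.center E) (h3 : z3 ∈ Subgroup.center E)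
    (x : E) (hx : x ∈ Subgroup.closure ({z1, z2, z3} : Set E)) :
    ∃ α β γ : ℤ, x = z1 ^ α * z2 ^ β * z3 ^ γ := by
  have hc : ∀ (c : E), c ∈ Subgroup.center E → ∀ y : E, y * c = c * y :=
    fun c hc y => (Subgroup.mem_center_iff.1 hc) y
  induction hx using Subgroup.closure_induction with
  | mem y hy =>
    rcases hy with rfl | rfl | hy
    · exact ⟨1, 0, 0, by simp⟩
    · exact ⟨0, 1, 0, by simp⟩
    · rw [Set.mem_singleton_iff] at hy; subst hy
      exact ⟨0, 0, 1, by simp⟩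
  | one => exact ⟨0, 0, 0, by simp⟩
  | mul y y' _ _ ihy ihy' =>
    obtain ⟨α, β, γ, rfl⟩ := ihy
    obtain ⟨α', β', γ', rfl⟩ := ihy'
    refine ⟨α + α', β + β', γ + γ', ?_⟩
    have c1 := hc _ (Subgroup.zpow_mem _ h1 α')
    have c2 := hc _ (Subgroup.zpow_mem _ h2 β')
    have c2' := hc _ (Subgroup.zpow_mem _ h2 β)
    have c3 := hc _ (Subgroup.zpow_mem _ h3 γ)
    rw [zpow_add, zpow_add, zpow_add]
    calc z1 ^ α * z2 ^ β * z3 ^ γ * (z1 ^ α' * z2 ^ β' * z3 ^ γ')
        = z1 ^ α * z2 ^ β * (z3 ^ γ * z1 ^ α') * z2 ^ β' * z3 ^ γ' := by group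
      _ = z1 ^ α * z2 ^ β * (z1 ^ α' * z3 ^ γ) * z2 ^ β' * z3 ^ γ' := by rw [c1]
      _ = z1 ^ α * (z2 ^ β * z1 ^ α') * (z3 ^ γ * z2 ^ β') * z3 ^ γ' := by group
      _ = z1 ^ α * (z1 ^ α' * z2 ^ β) * (z2 ^ β' * z3 ^ γ) * z3 ^ γ' := by rw [c1, c2]
      _ = z1 ^ α * z1 ^ α' * (z2 ^ β * z2 ^ β') * (z3 ^ γ * z3 ^ γ') := by group
  | inv y _ ihy =>
    obtain ⟨α, β, γ, rfl⟩ := ihy
    refine ⟨-α, -β, -γ, ?_⟩
    have c1 := hc _ (Subgroup.zpow_mem _ h1 (-α))
    have c2 := hc _ (Subgroup.zpow_mem _ h2 (-β))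
    rw [mul_inv_rev, mul_inv_rev, ← zpow_neg, ← zpow_neg, ← zpow_neg]
    calc z3 ^ (-γ) * (z2 ^ (-β) * z1 ^ (-α)) = z3 ^ (-γ) * z2 ^ (-β) * z1 ^ (-α) := by group
      _ = z1 ^ (-α) * (z3 ^ (-γ) * z2 ^ (-β)) := by rw [c1]
      _ = z1 ^ (-α) * (z2 ^ (-β) * z3 ^ (-γ)) := by rw [c2]
      _ = z1 ^ (-α) * z2 ^ (-β) * z3 ^ (-γ) := by group

theorem comm_word {C : Type*} [CommGroup C] (x y : C) (m r d m' ρ' : ℕ) (hmd : m = d * m')
    (hr : r = 1 + d * ρ') : (x ^ m) ^ ρ' * (y * x * y⁻¹ * (x ^ r)⁻¹) ^ m' = 1 := by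
  have h1 : y * x * y⁻¹ = x := by rw [mul_comm y x, mul_inv_cancel_right]
  rw [h1, mul_pow, inv_pow, ← pow_mul, ← pow_mul, ← mul_assoc, mul_inv_eq_one, ← pow_add]
  congr 1
  rw [hmd, hr]; ring

theorem core (m n r l d m' ρ' e u : ℕ) (hm : 0 < m) (hn : 0 < n) (hdpos : 0 < d)
    (hmd : m = d * m') (hr : r = 1 + d * ρ') (hcop : Nat.Coprime ρ' m')
    (hS : ∑ j ∈ Finset.range n, r ^ j = m' * e) (hu : r ^ n = 1 + m * u) (hue : u = ρ' * e)
    (hrn : r ^ n ≡ 1 [MOD m]) :
    Cfsg.HasSchurMultiplier (PresentedGroup ({FreeGroup.of true ^ m,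
      (FreeGroup.of false) ^ n * (FreeGroup.of true ^ (m' * l))⁻¹,
      FreeGroup.of false * FreeGroup.of true * (FreeGroup.of false)⁻¹ * (FreeGroup.of true ^ r)⁻¹} :
        Set (FreeGroup Bool)))
      (Multiplicative (ZMod (Nat.gcd l (Nat.gcd d e)))) := by
  set a : FreeGroup Bool := FreeGroup.of true with ha
  set b : FreeGroup Bool := FreeGroup.of false with hb
  set t := m' * l with ht
  set rels : Set (FreeGroup Bool) := {a ^ m, b ^ n * (a ^ t)⁻¹, b * a * b⁻¹ * (a ^ r)⁻¹} with hrels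
  set p : FreeGroup Bool →* PresentedGroup rels := PresentedGroup.mk rels with hpdef
  have hp : Function.Surjective p := PresentedGroup.mk_surjective _
  have hker : p.ker = Subgroup.normalClosure rels := by
    ext x
    rw [MonoidHom.mem_ker]
    exact PresentedGroup.mk_eq_one_iff
  have hr1 : a ^ m ∈ rels := Set.mem_insert _ _
  have hr2 : b ^ n * (a ^ t)⁻¹ ∈ rels := Set.mem_insert_of_mem _ (Set.mem_insert _ _)
  have hr3 : b * a * b⁻¹ * (a ^ r)⁻¹ ∈ rels :=
    Set.mem_insert_of_mem _ (Set.mem_insert_of_mem _ (Set.mem_singleton _))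
  set g := Nat.gcd l (Nat.gcd d e) with hgdef
  have hg : 0 < g := Nat.gcd_pos_of_pos_right _ (Nat.gcd_pos_of_pos_left _ hdpos)
  have hgl : g ∣ l := Nat.gcd_dvd_left _ _
  have hgd : g ∣ d := (Nat.gcd_dvd_right _ _).trans (Nat.gcd_dvd_left _ _)
  have hge : g ∣ e := (Nat.gcd_dvd_right _ _).trans (Nat.gcd_dvd_right _ _)
  -- finiteness
  have hfin : Finite (PresentedGroup rels) := by
    apply MetaFin.finite_of_metacyclic (p a) (p b) m n r t hm hn hrn
    · rw [← map_pow]; exact PresentedGroup.one_of_mem hr1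
    · have := PresentedGroup.one_of_mem hr2
      rw [map_mul, map_inv, mul_inv_eq_one] at this
      rw [← map_pow, ← map_pow]; exact this
    · have := PresentedGroup.one_of_mem hr3
      rw [map_mul, map_inv, mul_inv_eq_one] at this
      rw [← map_pow, ← map_inv, ← map_mul, ← map_mul]; exact this
    · have := PresentedGroup.closure_range_of rels
      rw [← this]
      congr 1
      ext x
      constructor
      · rintro (rfl | hx)
        · exact ⟨true, rfl⟩
        · rw [Set.mem_singleton_iff] at hx; subst hx; exact ⟨false, rfl⟩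
      · rintro ⟨c, rfl⟩
        cases c
        · right; rfl
        · left; rfl
  -- the central extension
  set π : FreeGroup Bool →* CE p := QuotientGroup.mk' (relC p) with hπ
  set A : CE p := π a with hA
  set B : CE p := π b with hB
  have hkerπ : ∀ x : FreeGroup Bool, x ∈ rels → π x ∈ (cProj p).ker := by
    intro x hx
    rw [MonoidHom.mem_ker]
    show p x = 1
    exact PresentedGroup.one_of_mem hx
  have hcen : ∀ x : FreeGroup Bool, x ∈ rels → π x ∈ Subgroup.center (CE p) :=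
    fun x hx => ker_cProj_le_center p (hkerπ x hx)
  have e1 : π (a ^ m) = A ^ m := map_pow _ _ _
  have e2 : π (b ^ n * (a ^ t)⁻¹) = B ^ n * (A ^ t)⁻¹ := by
    rw [map_mul, map_inv, map_pow, map_pow]
  have e3 : π (b * a * b⁻¹ * (a ^ r)⁻¹) = B * A * B⁻¹ * (A ^ r)⁻¹ := by
    rw [map_mul, map_mul, map_mul, map_inv, map_inv, map_pow]
  have hc1 : A ^ m ∈ Subgroup.center (CE p) := e1 ▸ hcen _ hr1
  have hc2 : B ^ n * (A ^ t)⁻¹ ∈ Subgroup.center (CE p) := e2 ▸ hcen _ hr2
  have hc3 : B * A * B⁻¹ * (A ^ r)⁻¹ ∈ Subgroup.center (CE p) := e3 ▸ hcen _ hr3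
  have hk1 : A ^ m ∈ (cProj p).ker := e1 ▸ hkerπ _ hr1
  have hk2 : B ^ n * (A ^ t)⁻¹ ∈ (cProj p).ker := e2 ▸ hkerπ _ hr2
  have hk3 : B * A * B⁻¹ * (A ^ r)⁻¹ ∈ (cProj p).ker := e3 ▸ hkerπ _ hr3
  set z1 := A ^ m with hz1
  set z2 := B ^ n * (A ^ t)⁻¹ with hz2
  set z3 := B * A * B⁻¹ * (A ^ r)⁻¹ with hz3
  set w := z1 ^ ρ' * z3 ^ m' with hw
  obtain ⟨hwd, hwl, hwe⟩ := MetaRel.w_pows A B m n r t d m' ρ' e u l hmd hr hS hu hue rfl hc1 hc2 hc3
  have hwg : w ^ g = 1 := by
    rw [← orderOf_dvd_iff_pow_eq_one]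
    exact Nat.dvd_gcd (orderOf_dvd_iff_pow_eq_one.2 hwl)
      (Nat.dvd_gcd (orderOf_dvd_iff_pow_eq_one.2 hwd) (orderOf_dvd_iff_pow_eq_one.2 hwe))
  -- w lies in the multiplier
  have hwker : w ∈ (cProj p).ker :=
    Subgroup.mul_mem _ (Subgroup.pow_mem _ hk1 _) (Subgroup.pow_mem _ hk3 _)
  have hwcomm : w ∈ commutator (CE p) := by
    apply mem_commutator_of_toAb_eq_one p
    have : w = π ((a ^ m) ^ ρ' * (b * a * b⁻¹ * (a ^ r)⁻¹) ^ m') := by
      rw [map_mul, map_pow π (a ^ m) ρ', map_pow π (b * a * b⁻¹ * (a ^ r)⁻¹) m', e1, e3]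
    rw [this]
    show Abelianization.of ((a ^ m) ^ ρ' * (b * a * b⁻¹ * (a ^ r)⁻¹) ^ m') = 1
    rw [map_mul, map_pow, map_pow, map_pow, map_mul, map_mul, map_mul, map_inv, map_inv, map_pow]
    exact comm_word _ _ m r d m' ρ' hmd hr
  have hwmult : w ∈ mult p := ⟨hwker, hwcomm⟩
  -- lower bound: the affine model
  have hordw : orderOf w = g := by
    apply Nat.dvd_antisymm (orderOf_dvd_iff_pow_eq_one.2 hwg)
    obtain ⟨ρ, P1, P2, P3, P4, P5⟩ :=
      MetaNum.model m n r d m' ρ' e l g hm hg hmd hr hcop hS hgd hge hgl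
    set R := ZMod (m * g) with hR
    set ρu : Rˣ := Units.ofPowEqOne (ρ : R) n P1 hn.ne' with hρu
    have hρval : (ρu : R) = (ρ : R) := rfl
    have hρn : ρu ^ n = 1 := Units.pow_ofPowEqOne P1 hn.ne'
    let f : Bool → Equiv.Perm R := fun c => cond c (MetaModel.tr 1) (MetaModel.sc ρu)
    have f1 : FreeGroup.lift f (a ^ m) = MetaModel.tr (m : R) := by
      rw [map_pow, ha, FreeGroup.lift_apply_of]
      show MetaModel.tr 1 ^ m = _
      rw [MetaModel.tr_pow, mul_one]
    have f2 : FreeGroup.lift f (b ^ n * (a ^ t)⁻¹) = MetaModel.tr (-(t : R)) := by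
      rw [map_mul, map_inv, map_pow, map_pow, ha, hb, FreeGroup.lift_apply_of,
        FreeGroup.lift_apply_of]
      show MetaModel.sc ρu ^ n * (MetaModel.tr 1 ^ t)⁻¹ = _
      rw [MetaModel.sc_pow, hρn, MetaModel.sc_one, one_mul, MetaModel.tr_pow, mul_one,
        MetaModel.tr_inv]
    have f3 : FreeGroup.lift f (b * a * b⁻¹ * (a ^ r)⁻¹) = MetaModel.tr ((ρ : R) - (r : R)) := by
      rw [map_mul, map_mul, map_mul, map_inv, map_inv, map_pow, ha, hb, FreeGroup.lift_apply_of,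
        FreeGroup.lift_apply_of]
      show MetaModel.sc ρu * MetaModel.tr 1 * (MetaModel.sc ρu)⁻¹ * (MetaModel.tr 1 ^ r)⁻¹ = _
      rw [MetaModel.sc_conj, MetaModel.tr_pow, mul_one, MetaModel.tr_inv, MetaModel.tr_mul, mul_one,
        hρval, sub_eq_add_neg]
    have hcomm : ∀ x ∈ rels, ∀ c : Bool, Commute (FreeGroup.lift f x) (f c) := by
      intro x hx c
      have key : ∀ y : R, (ρ : R) * y = y → Commute (MetaModel.tr y) (f c) := by
        intro y hy
        cases c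
        · exact MetaModel.commute_tr_sc ρu y (by rw [hρval]; exact hy)
        · exact MetaModel.commute_tr_tr y 1
      rcases hx with rfl | rfl | hx
      · rw [f1]; exact key _ P2
      · rw [f2]; apply key
        rw [mul_neg, ht]; congr 1
      · rw [Set.mem_singleton_iff] at hx; subst hx
        rw [f3]; exact key _ P3
    obtain ⟨Φ, hΦ⟩ := exists_ce_hom p rels hker f hcomm
    have hΦw : Φ w = MetaModel.tr ((m : R) * (ρ' : R) + ((ρ : R) - (r : R)) * (m' : R)) := by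
      have h1' : Φ z1 = MetaModel.tr (m : R) := by
        rw [← e1]; show Φ (QuotientGroup.mk (a ^ m)) = _; rw [hΦ, f1]
      have h3' : Φ z3 = MetaModel.tr ((ρ : R) - (r : R)) := by
        rw [← e3]; show Φ (QuotientGroup.mk (b * a * b⁻¹ * (a ^ r)⁻¹)) = _; rw [hΦ, f3]
      rw [hw, map_mul, map_pow Φ z1 ρ', map_pow Φ z3 m', h1', h3', MetaModel.tr_pow,
        MetaModel.tr_pow, MetaModel.tr_mul]
      congr 1; ring
    have hord : orderOf (Φ w) = g := by
      rw [hΦw, MetaModel.orderOf_tr]; exact P5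
    rw [← hord]
    exact orderOf_map_dvd Φ w
  -- upper bound
  have hle : mult p ≤ Subgroup.zpowers w := by
    intro x hx
    obtain ⟨hx1, hx2⟩ := Subgroup.mem_inf.1 hx
    set Z : Subgroup (CE p) := Subgroup.closure ({z1, z2, z3} : Set (CE p)) with hZ
    have hZker : Z ≤ (cProj p).ker := by
      rw [hZ, Subgroup.closure_le]
      rintro y (rfl | rfl | hy)
      · exact hk1
      · exact hk2
      · rw [Set.mem_singleton_iff] at hy; subst hy; exact hk3
    have hZn : Z.Normal := normal_of_le_ker p Z hZker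
    have hxZ : x ∈ Z := by
      obtain ⟨y, rfl⟩ := QuotientGroup.mk_surjective x
      have hy : y ∈ p.ker := by
        rw [MonoidHom.mem_ker] at hx1 ⊢
        exact hx1
      rw [hker] at hy
      have hN : (Z.comap π).Normal := inferInstance
      have hsub : rels ⊆ (Z.comap π : Subgroup (FreeGroup Bool)) := by
        rintro y (rfl | rfl | hy)
        · show π (a ^ m) ∈ Z
          rw [e1]; exact Subgroup.subset_closure (Set.mem_insert _ _)
        · show π (b ^ n * (a ^ t)⁻¹) ∈ Z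
          rw [e2]; exact Subgroup.subset_closure (Set.mem_insert_of_mem _ (Set.mem_insert _ _))
        · rw [Set.mem_singleton_iff] at hy; subst hy
          show π (b * a * b⁻¹ * (a ^ r)⁻¹) ∈ Z
          rw [e3]
          exact Subgroup.subset_closure
            (Set.mem_insert_of_mem _ (Set.mem_insert_of_mem _ (Set.mem_singleton _)))
      exact Subgroup.normalClosure_le_normal hsub hy
    obtain ⟨α, β, γ, rfl⟩ := mem_closure_three z1 z2 z3 hc1 hc2 hc3 x hxZ
    -- the two coordinate maps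
    let f₁ : Bool → Multiplicative ℤ := fun c => cond c (Multiplicative.ofAdd 1) 1
    let f₂ : Bool → Multiplicative ℤ := fun c => cond c 1 (Multiplicative.ofAdd 1)
    obtain ⟨Θ₁, hΘ₁⟩ := exists_ce_hom p rels hker f₁ (fun _ _ _ => Commute.all _ _)
    obtain ⟨Θ₂, hΘ₂⟩ := exists_ce_hom p rels hker f₂ (fun _ _ _ => Commute.all _ _)
    have hΘ₁A : Θ₁ A = Multiplicative.ofAdd 1 := by
      show Θ₁ (QuotientGroup.mk a) = _
      rw [hΘ₁, ha, FreeGroup.lift_apply_of]; rfl
    have hΘ₁B : Θ₁ B = 1 := by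
      show Θ₁ (QuotientGroup.mk b) = _
      rw [hΘ₁, hb, FreeGroup.lift_apply_of]; rfl
    have hΘ₂A : Θ₂ A = 1 := by
      show Θ₂ (QuotientGroup.mk a) = _
      rw [hΘ₂, ha, FreeGroup.lift_apply_of]; rfl
    have hΘ₂B : Θ₂ B = Multiplicative.ofAdd 1 := by
      show Θ₂ (QuotientGroup.mk b) = _
      rw [hΘ₂, hb, FreeGroup.lift_apply_of]; rfl
    have hk₁ := Abelianization.commutator_subset_ker Θ₁ hx2
    have hk₂ := Abelianization.commutator_subset_ker Θ₂ hx2
    rw [MonoidHom.mem_ker] at hk₁ hk₂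
    -- β = 0
    have hβ : β = 0 := by
      have h := congrArg Multiplicative.toAdd hk₂
      rw [hz1, hz2, hz3] at h
      simp only [map_mul, map_zpow, map_pow, map_inv, hΘ₂A, hΘ₂B, one_pow, inv_one, mul_one,
        one_mul, one_zpow, mul_inv_cancel, toAdd_zpow, toAdd_pow, toAdd_ofAdd, toAdd_one,
        smul_eq_mul, nsmul_eq_mul, mul_one] at h
      have hn' : (n : ℤ) ≠ 0 := by exact_mod_cast hn.ne'
      rcases mul_eq_zero.1 h with h | h
      · exact h
      · exact absurd h hn'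
    have hαγ : α * m = γ * ((r : ℤ) - 1) := by
      have h := congrArg Multiplicative.toAdd hk₁
      rw [hz1, hz2, hz3, hβ] at h
      simp only [map_mul, map_zpow, map_pow, map_inv, hΘ₁A, hΘ₁B, one_pow, inv_one, mul_one,
        one_mul, one_zpow, zpow_zero, toAdd_zpow, toAdd_pow, toAdd_ofAdd, toAdd_one, toAdd_mul,
        toAdd_inv, smul_eq_mul, nsmul_eq_mul, mul_one] at h
      linarith
    -- solve the linear equation
    have hd' : (d : ℤ) ≠ 0 := by exact_mod_cast hdpos.ne'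
    have h4 : α * m' = γ * ρ' := by
      have : (d : ℤ) * (α * m') = d * (γ * ρ') := by
        have hm' : (m : ℤ) = d * m' := by exact_mod_cast hmd
        have hr' : (r : ℤ) - 1 = d * ρ' := by rw [hr]; push_cast; ring
        rw [hm', hr'] at hαγ
        linarith
      exact mul_left_cancel₀ hd' this
    have hm'pos : 0 < m' := by
      rcases Nat.eq_zero_or_pos m' with h | h
      · rw [h, mul_zero] at hmd; omega
      · exact h
    have hcopZ : IsCoprime (m' : ℤ) (ρ' : ℤ) := by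
      rw [Int.isCoprime_iff_gcd_eq_one, Int.gcd_natCast_natCast]
      exact hcop.symm
    have hdvd : (m' : ℤ) ∣ γ := by
      have : (m' : ℤ) ∣ γ * ρ' := ⟨α, by rw [← h4]; ring⟩
      exact hcopZ.dvd_of_dvd_mul_right this
    obtain ⟨k, hk⟩ := hdvd
    have hα : α = ρ' * k := by
      have hm'' : (m' : ℤ) ≠ 0 := by exact_mod_cast hm'pos.ne'
      have : (m' : ℤ) * α = m' * (ρ' * k) := by rw [hk] at h4; linarith
      exact mul_left_cancel₀ hm'' this
    rw [Subgroup.mem_zpowers_iff]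
    refine ⟨k, ?_⟩
    have hcz : Commute (z1 ^ ρ') (z3 ^ m') :=
      (Subgroup.mem_center_iff.1 (Subgroup.pow_mem _ hc3 _)) _
    rw [hw, hcz.mul_zpow, hβ, zpow_zero, mul_one, hα, hk, ← zpow_natCast z1 ρ', ← zpow_natCast z3 m',
      ← zpow_mul, ← zpow_mul]
  have heq : mult p = Subgroup.zpowers w :=
    le_antisymm hle ((Subgroup.zpowers_le).2 hwmult)
  have hcard : Nat.card (Subgroup.zpowers w) = g := by rw [Nat.card_zpowers, hordw]
  have e0 : Multiplicative (ZMod (Nat.card (Subgroup.zpowers w))) ≃* Subgroup.zpowers w :=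
    zmodCyclicMulEquiv inferInstance
  have e1' : Multiplicative (ZMod g) ≃* Subgroup.zpowers w := hcard ▸ e0
  exact hasSchurMultiplier_of_mult_equiv p hp ((MulEquiv.subgroupCongr heq).trans e1'.symm)

/-- Let `m, n ≥ 1`, `r ≥ 1` with `r ^ n ≡ 1 (mod m)`, and `l` a natural number; put `d = gcd(m, r - 1)`, `t = m l / d` and `h = d · gcd(m, 1 + r + ⋯ + r^(n-1)) / m`. The group presented by generators `a, b` and relations `a ^ m = 1`, `b ^ n = a ^ t`, `b a b⁻¹ = a ^ r` (a metacyclic group of order `m n`) has Schur multiplier cyclic of order `gcd(l, h)`. -/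
theorem result (m n r l : ℕ) (hm : 0 < m) (hn : 0 < n) (hr : 0 < r) (hrn : r ^ n ≡ 1 [MOD m]) : Cfsg.HasCyclicSchurMultiplier (PresentedGroup ({FreeGroup.of true ^ m, (FreeGroup.of false) ^ n * (FreeGroup.of true ^ (m * l / Nat.gcd m (r - 1)))⁻¹, FreeGroup.of false * FreeGroup.of true * (FreeGroup.of false)⁻¹ * (FreeGroup.of true ^ r)⁻¹} : Set (FreeGroup Bool))) (Nat.gcd l (Nat.gcd m (r - 1) * Nat.gcd m (∑ i ∈ Finset.range n, r ^ i) / m)) := by
  obtain ⟨d, m', ρ', e, u, hdpos, hmd, hr', hcop, hS, hu, hue, hd, hform⟩ :=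
    MetaNum.params m n r hm hr hrn
  have ht : m * l / Nat.gcd m (r - 1) = m' * l := by
    rw [← hd, hmd, mul_assoc]
    exact Nat.mul_div_cancel_left _ hdpos
  rw [hform, ht]
  exact core m n r l d m' ρ' e u hm hn hdpos hmd hr' hcop hS hu hue hrn

end Cfsg.Agent.S3967
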