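import Cfsg.Statements.S3951
import Mathlib
import Cfsg.Agent.Lib.Helper65.StemAb

set_option autoImplicit false
open Cfsg

namespace Cfsg.Agent.S3951

open scoped commutatorElement

/-- Heisenberg-type group on `ZMod m × ZMod n × ZMod n` for `n ∣ m`. -/
@[ext]
structure Heis (m n : ℕ) (h : n ∣ m) where
  a : ZMod m
  b : ZMod n
  c : ZMod n

namespace Heis

variable {m n : ℕ} {h : n ∣ m}

/-- reduction hom -/
noncomputable def red (h : n ∣ m) : ZMod m →+* ZMod n := ZMod.castHom h (ZMod n)

noncomputable instance : Mul (Heis m n h) :=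
  ⟨fun x y => ⟨x.a + y.a, x.b + y.b, x.c + y.c + red h x.a * y.b⟩⟩

noncomputable instance : One (Heis m n h) := ⟨⟨0, 0, 0⟩⟩

noncomputable instance : Inv (Heis m n h) :=
  ⟨fun x => ⟨-x.a, -x.b, -x.c + red h x.a * x.b⟩⟩

@[simp] theorem mul_a (x y : Heis m n h) : (x * y).a = x.a + y.a := rfl
@[simp] theorem mul_b (x y : Heis m n h) : (x * y).b = x.b + y.b := rfl
@[simp] theorem mul_c (x y : Heis m n h) : (x * y).c = x.c + y.c + red h x.a * y.b := rfl
@[simp] theorem one_a : (1 : Heis m n h).a = 0 := rfl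
@[simp] theorem one_b : (1 : Heis m n h).b = 0 := rfl
@[simp] theorem one_c : (1 : Heis m n h).c = 0 := rfl
@[simp] theorem inv_a (x : Heis m n h) : (x⁻¹).a = -x.a := rfl
@[simp] theorem inv_b (x : Heis m n h) : (x⁻¹).b = -x.b := rfl
@[simp] theorem inv_c (x : Heis m n h) : (x⁻¹).c = -x.c + red h x.a * x.b := rfl

noncomputable instance : Group (Heis m n h) where
  mul_assoc x y z := by
    ext
    · simp [add_assoc]
    · simp [add_assoc]
    · simp; ring
  one_mul x := by ext <;> simp
  mul_one x := by ext <;> simp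
  inv_mul_cancel x := by
    ext
    · simp
    · simp
    · simp

/-- equivalence with the product, for finiteness -/
def equivProd : Heis m n h ≃ ZMod m × ZMod n × ZMod n where
  toFun x := (x.a, x.b, x.c)
  invFun p := ⟨p.1, p.2.1, p.2.2⟩
  left_inv _ := rfl
  right_inv _ := rfl

instance [NeZero m] [NeZero n] : Finite (Heis m n h) := Finite.of_equiv _ equivProd.symm

/-- projection to `ZMod m × ZMod n` -/
noncomputable def proj : Heis m n h →* Multiplicative (ZMod m × ZMod n) where
  toFun x := Multiplicative.ofAdd (x.a, x.b)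
  map_one' := rfl
  map_mul' _ _ := rfl

theorem mem_ker_proj (x : Heis m n h) : x ∈ (proj (h := h)).ker ↔ x.a = 0 ∧ x.b = 0 := by
  rw [MonoidHom.mem_ker]
  show Multiplicative.ofAdd (x.a, x.b) = 1 ↔ _
  rw [ofAdd_eq_one, Prod.mk_eq_zero]

theorem proj_stem : Cfsg.IsStemExtension (proj (m := m) (n := n) (h := h)) := by
  refine ⟨?_, ?_, ?_⟩
  · intro g
    exact ⟨⟨(Multiplicative.toAdd g).1, (Multiplicative.toAdd g).2, 0⟩, rfl⟩
  · intro x hx
    rw [mem_ker_proj] at hx
    rw [Subgroup.mem_center_iff]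
    intro y
    ext
    · simp [hx.1]
    · simp [hx.2]
    · simp [hx.1, hx.2]; ring
  · intro x hx
    rw [mem_ker_proj] at hx
    have : x = ⁅(⟨1, 0, 0⟩ : Heis m n h), (⟨0, x.c, 0⟩ : Heis m n h)⁆ := by
      rw [commutatorElement_def]
      ext
      · simp [hx.1]
      · simp [hx.2]
      · simp
    rw [this, commutator_eq_closure]
    exact Subgroup.subset_closure (commutator_mem_commutatorSet _ _)

/-- the kernel is `ZMod n` -/
noncomputable def kerEquiv : (proj (m := m) (n := n) (h := h)).ker ≃* Multiplicative (ZMod n) where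
  toFun x := Multiplicative.ofAdd x.1.c
  invFun c := ⟨⟨0, 0, Multiplicative.toAdd c⟩, (mem_ker_proj _).2 ⟨rfl, rfl⟩⟩
  left_inv x := by
    have hx := (mem_ker_proj _).1 x.2
    apply Subtype.ext
    ext
    · exact hx.1.symm
    · exact hx.2.symm
    · rfl
  right_inv c := rfl
  map_mul' x y := by
    have hy := (mem_ker_proj _).1 y.2
    show Multiplicative.ofAdd ((x.1 * y.1).c) = Multiplicative.ofAdd x.1.c * Multiplicative.ofAdd y.1.c
    rw [mul_c, hy.2, mul_zero, add_zero, ofAdd_add]

end Heis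

theorem closure_gens (m n : ℕ) :
    Subgroup.closure ({Multiplicative.ofAdd ((1 : ZMod m), (0 : ZMod n)),
      Multiplicative.ofAdd ((0 : ZMod m), (1 : ZMod n))} : Set (Multiplicative (ZMod m × ZMod n))) = ⊤ := by
  rw [eq_top_iff]
  intro g _
  set S := Subgroup.closure ({Multiplicative.ofAdd ((1 : ZMod m), (0 : ZMod n)),
      Multiplicative.ofAdd ((0 : ZMod m), (1 : ZMod n))} : Set (Multiplicative (ZMod m × ZMod n)))
  have h1 : Multiplicative.ofAdd ((1 : ZMod m), (0 : ZMod n)) ∈ S := Subgroup.subset_closure (by simp)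
  have h2 : Multiplicative.ofAdd ((0 : ZMod m), (1 : ZMod n)) ∈ S := Subgroup.subset_closure (by simp)
  obtain ⟨u, v⟩ := Multiplicative.toAdd g
  have : g = Multiplicative.ofAdd ((1 : ZMod m), (0 : ZMod n)) ^ (ZMod.cast (Multiplicative.toAdd g).1 : ℤ) *
      Multiplicative.ofAdd ((0 : ZMod m), (1 : ZMod n)) ^ (ZMod.cast (Multiplicative.toAdd g).2 : ℤ) := by
    rw [← ofAdd_zsmul, ← ofAdd_zsmul, ← ofAdd_add]
    apply Multiplicative.toAdd.injective
    rw [toAdd_ofAdd]
    ext <;> simp
  rw [this]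
  exact Subgroup.mul_mem _ (Subgroup.zpow_mem _ h1 _) (Subgroup.zpow_mem _ h2 _)

/-- For positive integers `m` and `n` with `n` dividing `m`, the Schur multiplier of the abelian group `ZMod m × ZMod n` (written multiplicatively) is cyclic of order `n`. In particular the elementary abelian group of order `p ^ 2` has multiplier of order `p`. -/
theorem result (m n : ℕ) [NeZero m] [NeZero n] (hnm : n ∣ m) : Cfsg.HasCyclicSchurMultiplier (Multiplicative (ZMod m × ZMod n)) n := by
  constructor
  · exact ⟨Heis m n hnm, inferInstance, inferInstance, Heis.proj, Heis.proj_stem, ⟨Heis.kerEquiv⟩⟩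
  · intro Γ _ _ σ hσ
    apply Cfsg.Agent.Helper65.stem_ab2 σ hσ _ _ (closure_gens m n) n
    rw [← ofAdd_nsmul]
    simp

end Cfsg.Agent.S3951
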