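import Cfsg.Statements.S3963
import Mathlib
import Cfsg.Agent.Lib.Helper65.Stem

set_option autoImplicit false
open Cfsg

namespace Cfsg.Agent.S3963

open QuaternionGroup

theorem two_n_zero (n : ℕ) : ((n : ZMod (2 * n)) + (n : ZMod (2 * n))) = 0 := by
  have : ((2 * n : ℕ) : ZMod (2 * n)) = 0 := ZMod.natCast_self _
  rw [← this]; push_cast; ring

theorem closure_gens (n : ℕ) [NeZero n] :
    Subgroup.closure ({a 1, xa 0} : Set (QuaternionGroup n)) = ⊤ := by
  rw [eq_top_iff]
  intro g _
  have hr : (a 1 : QuaternionGroup n) ∈ Subgroup.closure ({a 1, xa 0} : Set (QuaternionGroup n)) :=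
    Subgroup.subset_closure (by simp)
  have hs : (xa 0 : QuaternionGroup n) ∈ Subgroup.closure ({a 1, xa 0} : Set (QuaternionGroup n)) :=
    Subgroup.subset_closure (by simp)
  have hri : ∀ i : ZMod (2 * n), (a i : QuaternionGroup n) ∈
      Subgroup.closure ({a 1, xa 0} : Set (QuaternionGroup n)) := by
    intro i
    have : (a i : QuaternionGroup n) = (a 1) ^ (i.val) := by
      rw [a_one_pow]; simp
    rw [this]
    exact Subgroup.pow_mem _ hr _
  cases g with
  | a i => exact hri i
  | xa i =>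
    have : (xa i : QuaternionGroup n) = xa 0 * a i := by rw [xa_mul_a, zero_add]
    rw [this]
    exact Subgroup.mul_mem _ hs (hri i)

theorem inv_a' (n : ℕ) (i : ZMod (2 * n)) : (a i : QuaternionGroup n)⁻¹ = a (-i) := rfl

theorem inv_xa' (n : ℕ) (i : ZMod (2 * n)) : (xa i : QuaternionGroup n)⁻¹ = xa ((n : ZMod (2 * n)) + i) := rfl

/-- For every `n ≥ 1` the dicyclic (generalized quaternion) group of order `4 n` has trivial Schur multiplier. -/
theorem result (n : ℕ) [NeZero n] : Cfsg.HasCyclicSchurMultiplier (QuaternionGroup n) 1 := by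
  apply Cfsg.Agent.Helper65.trivial_multiplier_of
  intro Γ _ _ σ hσ
  have hconj : (xa 0 * a 1 * (xa 0)⁻¹ : QuaternionGroup n) = (a 1)⁻¹ := by
    rw [inv_xa', inv_a', xa_mul_a, xa_mul_xa]
    congr 1
    have := two_n_zero n
    linear_combination this
  apply Cfsg.Agent.Helper65.stem_dt_ker_eq_bot σ hσ (a 1) (xa 0) (closure_gens n) hconj n 2 ?_ ?_
  · rw [xa_sq, a_one_pow]
  · intro i hi
    rw [hconj] at hi
    have hb : ((a 1)⁻¹ * (a 1)⁻¹ : QuaternionGroup n) = (a 1) ^ (-2 : ℤ) := by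
      group
    rw [hb, ← zpow_mul, ← orderOf_dvd_iff_zpow_eq_one, orderOf_a_one] at hi
    have h2 : ((2 * n : ℕ) : ℤ) ∣ 2 * i := by
      have := (Int.dvd_neg).2 hi
      rw [show -(-2 * i) = 2 * i by ring] at this
      exact this
    push_cast at h2
    exact (mul_dvd_mul_iff_left (by norm_num : (2 : ℤ) ≠ 0)).1 h2

end Cfsg.Agent.S3963
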