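import Cfsg.Statements.S3909
import Mathlib

set_option autoImplicit false
open Cfsg

namespace Cfsg.Agent.S3909

section

variable {G : Type*} [Group G] [Finite G]

omit [Finite G] in
theorem zpowers_comm (a : G) : IsMulCommutative ↥(Subgroup.zpowers a) := inferInstance

omit [Finite G] in
theorem part_a (hB : ∀ A B : Subgroup G, IsMulCommutative ↥A → IsMulCommutative ↥B → Nat.card ↥A = Nat.card ↥B → ∃ g : G, B = A.map (MulAut.conj g).toMonoidHom) (M : Subgroup G) [M.Normal]
    (a : G) (h : ∃ m ∈ M, orderOf m = orderOf a) : a ∈ M := by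
  obtain ⟨m, hm, hma⟩ := h
  obtain ⟨g, hg⟩ := hB (Subgroup.zpowers m) (Subgroup.zpowers a) (zpowers_comm m) (zpowers_comm a)
    (by rw [Nat.card_zpowers, Nat.card_zpowers, hma])
  have ha : a ∈ (Subgroup.zpowers m).map (MulAut.conj g).toMonoidHom := by
    rw [← hg]; exact Subgroup.mem_zpowers a
  obtain ⟨x, hx, rfl⟩ := ha
  have hxM : x ∈ M := (Subgroup.zpowers_le.2 hm) hx
  show (MulAut.conj g) x ∈ M
  rw [MulAut.conj_apply]
  exact ‹M.Normal›.conj_mem x hxM g

end

/-- Let G be a finite group in which any two abelian subgroups of the same order are conjugate. Let M be a normal subgroup of G. If M contains an element of the same order as a ∈ G, then a ∈ M; and if M is elementary abelian of order p^t with p prime and t ≥ 2, then M is the unique Sylow p-subgroup of G. -/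
theorem result {G : Type*} [Group G] [Finite G] (hB : ∀ A B : Subgroup G, IsMulCommutative ↥A → IsMulCommutative ↥B → Nat.card ↥A = Nat.card ↥B → ∃ g : G, B = A.map (MulAut.conj g).toMonoidHom) (M : Subgroup G) [M.Normal] :
    (∀ a : G, (∃ m ∈ M, orderOf m = orderOf a) → a ∈ M) ∧
    ∀ (p t : ℕ) [Fact p.Prime], 2 ≤ t → Nat.card ↥M = p ^ t → Cfsg.IsElementaryAbelian p M → ∀ P : Sylow p G, (P : Subgroup G) = M := by
  refine ⟨part_a hB M, ?_⟩
  intro p t _ ht hcard hel P
  have hp : p.Prime := Fact.out
  have hMp : IsPGroup p M := IsPGroup.of_card hcard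
  apply le_antisymm
  · -- P ≤ M
    intro x hx
    -- order of x is a power of p
    obtain ⟨k, hk⟩ := (IsPGroup.iff_orderOf.1 P.isPGroup') ⟨x, hx⟩
    have hk' : orderOf x = p ^ k := by
      rw [← hk]; exact (Subgroup.orderOf_mk x hx).symm
    -- M has a subgroup of order p^2
    have hk1 : k ≤ 1 := by
      by_contra hk2
      push Not at hk2
      -- y of order p^2
      set y := x ^ (p ^ (k - 2)) with hy
      have hyo : orderOf y = p ^ 2 := by
        rw [hy, orderOf_pow' _ (pow_ne_zero _ hp.ne_zero), hk', Nat.gcd_eq_right (pow_dvd_pow p (by omega)),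
          Nat.pow_div (by omega) hp.pos]
        congr 1; omega
      have hdvd : p ^ 2 ∣ Nat.card M := by rw [hcard]; exact pow_dvd_pow p ht
      obtain ⟨V, hV⟩ := Sylow.exists_subgroup_card_pow_prime p hdvd
      have hVc : IsMulCommutative ↥(V.map M.subtype) := by
        have := hel.1
        refine ⟨⟨?_⟩⟩
        rintro ⟨_, a, ha, rfl⟩ ⟨_, b, hb, rfl⟩
        apply Subtype.ext
        show M.subtype a * M.subtype b = M.subtype b * M.subtype a
        rw [← map_mul, ← map_mul, mul_comm' a b]
      have hVcard : Nat.card ↥(V.map M.subtype) = p ^ 2 := by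
        rw [Subgroup.card_map_of_injective M.subtype_injective, hV]
      obtain ⟨g, hg⟩ := hB (Subgroup.zpowers y) (V.map M.subtype) (zpowers_comm y) hVc
        (by rw [Nat.card_zpowers, hyo, hVcard])
      -- conjugate of y is in M, so has order dividing p
      have hmem : (MulAut.conj g) y ∈ V.map M.subtype := by
        rw [hg]; exact ⟨y, Subgroup.mem_zpowers y, rfl⟩
      have hmemM : (MulAut.conj g) y ∈ M := (Subgroup.map_subtype_le V) hmem
      have h1 := hel.2 _ hmemM
      have h2 : orderOf ((MulAut.conj g) y) = orderOf y := by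
        exact orderOf_injective (MulAut.conj g).toMonoidHom (MulAut.conj g).injective y
      have h3 : orderOf ((MulAut.conj g) y) ∣ p := orderOf_dvd_of_pow_eq_one h1
      rw [h2, hyo] at h3
      have := Nat.le_of_dvd hp.pos h3
      have : 1 < p := hp.one_lt
      nlinarith
    interval_cases k
    · rw [pow_zero, orderOf_eq_one_iff] at hk'
      rw [hk']; exact Subgroup.one_mem M
    · rw [pow_one] at hk'
      have hdvd : p ∣ Nat.card M := by rw [hcard]; exact dvd_pow_self p (by omega)
      obtain ⟨m, hm⟩ := exists_prime_orderOf_dvd_card' p hdvd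
      apply part_a hB M x
      refine ⟨m.1, m.2, ?_⟩
      rw [hk', ← hm]
      exact (Subgroup.orderOf_coe m)
  · exact hMp.le_sylow_of_normal P

end Cfsg.Agent.S3909
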