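import Cfsg.Statements.S3911
import Cfsg.Agent.Lib.Helper66.AbelianConjC

set_option autoImplicit false
open Cfsg

namespace Cfsg.Agent.S3911

open Cfsg.Agent.Helper66.BGrp

/-- Let G be a finite group in which any two abelian subgroups of the same order are conjugate. If M is a normal subgroup of G of odd order, then any two abelian subgroups of G/M of the same order are conjugate in G/M. -/
theorem result {G : Type*} [Group G] [Finite G] (hB : ∀ A B : Subgroup G, IsMulCommutative ↥A → IsMulCommutative ↥B → Nat.card ↥A = Nat.card ↥B → ∃ g : G, B = A.map (MulAut.conj g).toMonoidHom) (M : Subgroup G) [M.Normal] (hM : Odd (Nat.card ↥M)) :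
    ∀ A B : Subgroup (G ⧸ M), IsMulCommutative ↥A → IsMulCommutative ↥B → Nat.card ↥A = Nat.card ↥B →
      ∃ g : G ⧸ M, B = A.map (MulAut.conj g).toMonoidHom := by
  intro A B hA hB' hcard
  have hsurj : Function.Surjective (QuotientGroup.mk' M) := QuotientGroup.mk'_surjective M
  have hle : ∀ C : Subgroup (G ⧸ M), M ≤ C.comap (QuotientGroup.mk' M) := by
    intro C m hm
    rw [Subgroup.mem_comap]
    have : QuotientGroup.mk' M m = 1 := by
      rw [QuotientGroup.mk'_apply, QuotientGroup.eq_one_iff]
      exact hm
    rw [this]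
    exact C.one_mem
  have hcomm : ∀ C : Subgroup (G ⧸ M), IsMulCommutative ↥C →
      ∀ x ∈ C.comap (QuotientGroup.mk' M), ∀ y ∈ C.comap (QuotientGroup.mk' M),
        x * y * x⁻¹ * y⁻¹ ∈ M := by
    intro C hC x hx y hy
    rw [Subgroup.mem_comap] at hx hy
    have h1 := congrArg Subtype.val (hC.is_comm.comm ⟨_, hx⟩ ⟨_, hy⟩)
    simp only [Subgroup.coe_mul] at h1
    rw [← QuotientGroup.eq_one_iff, ← QuotientGroup.mk'_apply, map_mul, map_mul, map_mul, map_inv,
      map_inv, h1]
    group
  have hidx : ∀ C : Subgroup (G ⧸ M),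
      Nat.card (C.comap (QuotientGroup.mk' M)) * C.index = Nat.card G := by
    intro C
    rw [← Subgroup.index_comap_of_surjective C hsurj]
    exact Subgroup.card_mul_index _
  have hAB : A.index = B.index := by
    have h1 := A.card_mul_index
    have h2 := B.card_mul_index
    rw [hcard, ← h2] at h1
    exact Nat.eq_of_mul_eq_mul_left Nat.card_pos h1
  have hcard' : Nat.card (A.comap (QuotientGroup.mk' M)) = Nat.card (B.comap (QuotientGroup.mk' M)) := by
    have h1 := hidx A
    have h2 := hidx B
    rw [hAB, ← h2] at h1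
    have hpos : 0 < B.index := Nat.pos_of_ne_zero (Subgroup.index_ne_zero_of_finite)
    exact Nat.eq_of_mul_eq_mul_right hpos h1
  obtain ⟨g, hg⟩ := conj_of_abelian_mod hB M hM _ _ (hle A) (hle B) (hcomm A hA) (hcomm B hB') hcard'
  refine ⟨QuotientGroup.mk' M g, ?_⟩
  have hhom : (QuotientGroup.mk' M).comp (MulAut.conj g).toMonoidHom =
      (MulAut.conj (QuotientGroup.mk' M g)).toMonoidHom.comp (QuotientGroup.mk' M) := by
    ext x
    simp [MulAut.conj_apply]
  calc B = (B.comap (QuotientGroup.mk' M)).map (QuotientGroup.mk' M) :=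
        (Subgroup.map_comap_eq_self_of_surjective hsurj B).symm
    _ = ((A.comap (QuotientGroup.mk' M)).map (MulAut.conj g).toMonoidHom).map
          (QuotientGroup.mk' M) := by rw [hg]
    _ = ((A.comap (QuotientGroup.mk' M)).map (QuotientGroup.mk' M)).map
          (MulAut.conj (QuotientGroup.mk' M g)).toMonoidHom := by
        rw [Subgroup.map_map, Subgroup.map_map, hhom]
    _ = A.map (MulAut.conj (QuotientGroup.mk' M g)).toMonoidHom := by
        rw [Subgroup.map_comap_eq_self_of_surjective hsurj A]

end Cfsg.Agent.S3911
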