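import Cfsg.Statements.S4163
import Mathlib

set_option autoImplicit false
open Cfsg

namespace Cfsg.Agent.S4163

open scoped commutatorElement

section lemmas

variable {G : Type*} [Group G]

/-- a function whose fibres are the right cosets of `D` has `D.index` values -/
theorem card_range_eq_index'' {G X : Type*} [Group G] (f : G → X) (D : Subgroup G)
    (hf : ∀ g h : G, f g = f h ↔ h * g⁻¹ ∈ D) : Nat.card (Set.range f) = D.index := by
  have hker : Setoid.ker f = QuotientGroup.rightRel D := by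
    ext g h
    rw [Setoid.ker_def, QuotientGroup.rightRel_apply]
    exact hf g h
  rw [← Nat.card_congr (Setoid.quotientKerEquivRange f), hker,
    Nat.card_congr (QuotientGroup.quotientRightRelEquivQuotientLeftRel D)]
  rfl

theorem mem_cent_singleton (x g : G) :
    g ∈ Subgroup.centralizer ({x} : Set G) ↔ x * g = g * x := by
  rw [Subgroup.mem_centralizer_iff]
  constructor
  · intro h; exact h x rfl
  · intro h y hy
    rw [Set.mem_singleton_iff] at hy
    rw [hy]; exact h

/-- number of conjugates of `y` under a subgroup `K` -/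
theorem card_conj_eq_relIndex (K : Subgroup G) (y : G) :
    Nat.card (Set.range (fun d : ↥K => (d : G)⁻¹ * y * d)) =
      (Subgroup.centralizer ({y} : Set G)).relIndex K := by
  apply card_range_eq_index''
  intro g h
  rw [Subgroup.mem_subgroupOf, mem_cent_singleton]
  simp only [Subgroup.coe_mul, Subgroup.coe_inv]
  constructor
  · intro e
    calc y * ((h : G) * (g : G)⁻¹) = (h : G) * ((h : G)⁻¹ * y * h) * (g : G)⁻¹ := by group
      _ = (h : G) * ((g : G)⁻¹ * y * g) * (g : G)⁻¹ := by rw [e]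
      _ = (h : G) * (g : G)⁻¹ * y := by group
  · intro e
    calc (g : G)⁻¹ * y * g = (h : G)⁻¹ * ((h : G) * (g : G)⁻¹ * y) * g := by group
      _ = (h : G)⁻¹ * (y * ((h : G) * (g : G)⁻¹)) * g := by rw [e]
      _ = (h : G)⁻¹ * y * h := by group

end lemmas

section key

variable {G : Type*} [Group G] [Finite G]

/-- Isaacs' lemma: if `x` has minimal noncentral class size and `A` is a normal abelian subgroup
then `[x, A]` is central. -/
theorem comm_mem_center (A : Subgroup G) [A.Normal] (hA : ∀ a ∈ A, ∀ b ∈ A, a * b = b * a)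
    (m : ℕ) (hmin : ∀ y : G, 1 < (Subgroup.centralizer ({y} : Set G)).index →
      m ≤ (Subgroup.centralizer ({y} : Set G)).index)
    (x : G) (hx : (Subgroup.centralizer ({x} : Set G)).index = m) (k : G) (hk : k ∈ A) :
    x⁻¹ * (k⁻¹ * x * k) ∈ Subgroup.center G := by
  by_contra hb
  set x' := k⁻¹ * x * k with hx'
  set b := x⁻¹ * x' with hbdef
  have hbA : b ∈ A := by
    have h1 : x⁻¹ * k⁻¹ * x⁻¹⁻¹ ∈ A := Subgroup.Normal.conj_mem inferInstance k⁻¹ (A.inv_mem hk) x⁻¹
    have h2 : b = x⁻¹ * k⁻¹ * x⁻¹⁻¹ * k := by rw [hbdef, hx']; group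
    rw [h2]
    exact A.mul_mem h1 hk
  have hne : x' ≠ x := by
    intro e
    apply hb
    rw [hbdef, e, inv_mul_cancel]
    exact Subgroup.one_mem _
  set Cb := Subgroup.centralizer ({b} : Set G) with hCb
  set D := Subgroup.centralizer ({x} : Set G) with hD
  set D' := Subgroup.centralizer ({x'} : Set G) with hD'
  have hCbidx : m ≤ Cb.index := by
    apply hmin
    show 1 < Cb.index
    have h0 : Cb.index ≠ 0 := Subgroup.index_ne_zero_of_finite
    have h1 : Cb.index ≠ 1 := by
      intro h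
      apply hb
      rw [Subgroup.index_eq_one] at h
      rw [Subgroup.mem_center_iff]
      intro g
      have : g ∈ Cb := by rw [h]; trivial
      rw [hCb, mem_cent_singleton] at this
      exact this.symm
    omega
  have hECb : D ⊓ D' ≤ Cb := by
    intro g hg
    rw [Subgroup.mem_inf, hD, hD', mem_cent_singleton, mem_cent_singleton] at hg
    rw [hCb, mem_cent_singleton, hbdef]
    have h1 : x⁻¹ * g = g * x⁻¹ := by
      have := hg.1
      calc x⁻¹ * g = x⁻¹ * (g * x) * x⁻¹ := by group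
        _ = x⁻¹ * (x * g) * x⁻¹ := by rw [this]
        _ = g * x⁻¹ := by group
    rw [mul_assoc, hg.2, ← mul_assoc, h1, mul_assoc]
  have hACb : A ≤ Cb := by
    intro a ha
    rw [hCb, mem_cent_singleton]
    exact hA b hbA a ha
  have hinf : (D ⊓ D') ⊓ A = D ⊓ A := by
    ext a
    simp only [Subgroup.mem_inf]
    constructor
    · rintro ⟨⟨h1, _⟩, h3⟩
      exact ⟨h1, h3⟩
    · rintro ⟨h1, h3⟩
      refine ⟨⟨h1, ?_⟩, h3⟩
      rw [hD, mem_cent_singleton] at h1
      rw [hD', mem_cent_singleton, hx']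
      have hka : k * a = a * k := hA k hk a h3
      have hka' : k⁻¹ * a = a * k⁻¹ := hA k⁻¹ (A.inv_mem hk) a h3
      calc k⁻¹ * x * k * a = k⁻¹ * x * (k * a) := by group
        _ = k⁻¹ * x * (a * k) := by rw [hka]
        _ = k⁻¹ * (x * a) * k := by group
        _ = k⁻¹ * (a * x) * k := by rw [h1]
        _ = (k⁻¹ * a) * x * k := by group
        _ = a * k⁻¹ * x * k := by rw [hka']
        _ = a * (k⁻¹ * x * k) := by group
  -- index arithmetic
  have i1 : (D ⊓ D').relIndex D * D.index = (D ⊓ D').index := Subgroup.relIndex_mul_index inf_le_left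
  have i2 : (D ⊓ D').relIndex Cb * Cb.index = (D ⊓ D').index := Subgroup.relIndex_mul_index hECb
  have i3 : (D ⊓ D').relIndex A ≤ (D ⊓ D').relIndex Cb :=
    Subgroup.relIndex_le_of_le_right hACb (by unfold Subgroup.relIndex; exact Subgroup.index_ne_zero_of_finite)
  have i4 : (D ⊓ D').relIndex A = D.relIndex A := by
    rw [← Subgroup.inf_relIndex_right, hinf, Subgroup.inf_relIndex_right]
  have i5 : (D ⊓ D').relIndex D = D'.relIndex D := by
    rw [inf_comm, Subgroup.inf_relIndex_right]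
  -- orbit counting
  have o1 := card_conj_eq_relIndex D x'
  have o2 := card_conj_eq_relIndex A x
  have hsub : Set.range (fun d : ↥D => (d : G)⁻¹ * x' * d) ⊆
      Set.range (fun a : ↥A => (a : G)⁻¹ * x * a) \ {x} := by
    rintro _ ⟨d, rfl⟩
    have hd : x * (d : G) = d * x := (mem_cent_singleton x d).mp d.2
    constructor
    · refine ⟨⟨(d : G)⁻¹ * k * d, ?_⟩, ?_⟩
      · have := Subgroup.Normal.conj_mem (inferInstance : A.Normal) k hk (d : G)⁻¹
        simpa using this
      · simp only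
        rw [hx']
        have hd' : (d : G)⁻¹ * x * d = x := by rw [mul_assoc, hd]; group
        calc ((d : G)⁻¹ * k * d)⁻¹ * x * ((d : G)⁻¹ * k * d)
            = (d : G)⁻¹ * k⁻¹ * (d * x * (d : G)⁻¹) * k * d := by group
          _ = (d : G)⁻¹ * k⁻¹ * x * k * d := by
              have : (d : G) * x * (d : G)⁻¹ = x := by rw [← hd]; group
              rw [this]
          _ = (d : G)⁻¹ * (k⁻¹ * x * k) * d := by group
    · intro hmem
      rw [Set.mem_singleton_iff] at hmem
      apply hne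
      have : x' = (d : G) * x * (d : G)⁻¹ := by rw [← hmem]; group
      rw [this, ← hd]
      group
  have hfin : (Set.range (fun a : ↥A => (a : G)⁻¹ * x * a)).Finite := Set.toFinite _
  have hxmem : x ∈ Set.range (fun a : ↥A => (a : G)⁻¹ * x * a) := ⟨1, by simp⟩
  have o3 : D'.relIndex D + 1 ≤ D.relIndex A := by
    rw [← o1, ← o2, Nat.card_coe_set_eq, Nat.card_coe_set_eq]
    have h1 := Set.ncard_le_ncard hsub (hfin.subset Set.sdiff_subset)
    have h2 := Set.ncard_sdiff_singleton_add_one hxmem hfin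
    omega
  have hmpos : 0 < m := by
    rw [← hx]
    exact Nat.pos_of_ne_zero Subgroup.index_ne_zero_of_finite
  -- final contradiction
  have f1 : D'.relIndex D * m = (D ⊓ D').relIndex Cb * Cb.index := by
    rw [← i5, ← hx, i1, i2]
  have f2 : D.relIndex A * m ≤ (D ⊓ D').relIndex Cb * Cb.index := by
    calc D.relIndex A * m ≤ (D ⊓ D').relIndex Cb * m := by
          rw [← i4]; exact Nat.mul_le_mul_right m i3
      _ ≤ (D ⊓ D').relIndex Cb * Cb.index := Nat.mul_le_mul_left _ hCbidx
  have f3 : (D'.relIndex D + 1) * m ≤ D'.relIndex D * m := by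
    calc (D'.relIndex D + 1) * m ≤ D.relIndex A * m := Nat.mul_le_mul_right m o3
      _ ≤ _ := f2
      _ = _ := f1.symm
  nlinarith

end key

section main

variable {G : Type*} [Group G]

/-- elements acting trivially on `A` modulo the centre -/
def Tsub (A : Subgroup G) : Subgroup G where
  carrier := {g | ∀ a ∈ A, ∃ z ∈ Subgroup.center G, g * a * g⁻¹ = z * a}
  one_mem' := by
    intro a _
    exact ⟨1, Subgroup.one_mem _, by simp⟩
  mul_mem' := by
    intro g h hg hh a ha
    obtain ⟨z1, hz1, e1⟩ := hh a ha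
    obtain ⟨z2, hz2, e2⟩ := hg a ha
    refine ⟨z1 * z2, Subgroup.mul_mem _ hz1 hz2, ?_⟩
    have hc : ∀ w : G, w * z1 = z1 * w := Subgroup.mem_center_iff.mp hz1
    calc g * h * a * (g * h)⁻¹ = g * (h * a * h⁻¹) * g⁻¹ := by group
      _ = g * (z1 * a) * g⁻¹ := by rw [e1]
      _ = (g * z1) * a * g⁻¹ := by group
      _ = (z1 * g) * a * g⁻¹ := by rw [hc g]
      _ = z1 * (g * a * g⁻¹) := by group
      _ = z1 * (z2 * a) := by rw [e2]
      _ = z1 * z2 * a := by group
  inv_mem' := by
    intro g hg a ha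
    obtain ⟨z, hz, e⟩ := hg a ha
    refine ⟨z⁻¹, Subgroup.inv_mem _ hz, ?_⟩
    have hc : ∀ w : G, w * z = z * w := Subgroup.mem_center_iff.mp hz
    have h1 : a = g⁻¹ * (z * a) * g := by rw [← e]; group
    have h2 : g⁻¹ * (z * a) * g = z * (g⁻¹ * a * g) := by
      calc g⁻¹ * (z * a) * g = (g⁻¹ * z) * a * g := by group
        _ = (z * g⁻¹) * a * g := by rw [hc g⁻¹]
        _ = z * (g⁻¹ * a * g) := by group
    rw [h2] at h1
    calc g⁻¹ * a * g⁻¹⁻¹ = z⁻¹ * (z * (g⁻¹ * a * g)) := by group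
      _ = z⁻¹ * a := by rw [← h1]

theorem mem_Tsub (A : Subgroup G) (g : G) :
    g ∈ Tsub A ↔ ∀ a ∈ A, ∃ z ∈ Subgroup.center G, g * a * g⁻¹ = z * a := Iff.rfl

/-- commutators of elements of `T` centralize `A` -/
theorem comm_mem_centralizer (A : Subgroup G) [A.Normal] (g h : G) (hg : g ∈ Tsub A)
    (hh : h ∈ Tsub A) : g * h * g⁻¹ * h⁻¹ ∈ Subgroup.centralizer (A : Set G) := by
  have key : ∀ a' ∈ A, g * (h * a' * h⁻¹) * g⁻¹ = h * (g * a' * g⁻¹) * h⁻¹ := by
    intro a' ha'
    obtain ⟨z1, hz1, e1⟩ := hh a' ha'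
    obtain ⟨z2, hz2, e2⟩ := hg a' ha'
    have hc1 : ∀ w : G, w * z1 = z1 * w := Subgroup.mem_center_iff.mp hz1
    have hc2 : ∀ w : G, w * z2 = z2 * w := Subgroup.mem_center_iff.mp hz2
    rw [e1, e2]
    calc g * (z1 * a') * g⁻¹ = (g * z1) * a' * g⁻¹ := by group
      _ = (z1 * g) * a' * g⁻¹ := by rw [hc1 g]
      _ = z1 * (g * a' * g⁻¹) := by group
      _ = z1 * (z2 * a') := by rw [e2]
      _ = z2 * (z1 * a') := by rw [← mul_assoc, hc2 z1, mul_assoc]
      _ = z2 * (h * a' * h⁻¹) := by rw [e1]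
      _ = (z2 * h) * a' * h⁻¹ := by group
      _ = (h * z2) * a' * h⁻¹ := by rw [hc2 h]
      _ = h * (z2 * a') * h⁻¹ := by group
  rw [Subgroup.mem_centralizer_iff]
  intro a ha
  have ha' : g⁻¹ * h⁻¹ * a * h * g ∈ A := by
    have h1 : h⁻¹ * a * h⁻¹⁻¹ ∈ A := Subgroup.Normal.conj_mem inferInstance a ha h⁻¹
    have h2 := Subgroup.Normal.conj_mem (inferInstance : A.Normal) _ h1 g⁻¹
    have : g⁻¹ * h⁻¹ * a * h * g = g⁻¹ * (h⁻¹ * a * h⁻¹⁻¹) * g⁻¹⁻¹ := by group
    rw [this]
    exact h2
  have k := key _ ha'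
  have k1 : g * (h * (g⁻¹ * h⁻¹ * a * h * g) * h⁻¹) * g⁻¹ =
      (g * h * g⁻¹ * h⁻¹) * a * (g * h * g⁻¹ * h⁻¹)⁻¹ := by group
  have k2 : h * (g * (g⁻¹ * h⁻¹ * a * h * g) * g⁻¹) * h⁻¹ = a := by group
  rw [k1, k2] at k
  calc a * (g * h * g⁻¹ * h⁻¹) = (g * h * g⁻¹ * h⁻¹ * a * (g * h * g⁻¹ * h⁻¹)⁻¹) * (g * h * g⁻¹ * h⁻¹) := by
        rw [k]
    _ = g * h * g⁻¹ * h⁻¹ * a := by group

end main

/-- Let G be a finite group with a normal abelian subgroup A satisfying C_G(A) = A. Suppose some conjugacy class of G has size greater than 1, let m be the smallest such size, and let M be the subgroup generated by the elements whose class has size 1 or m. Then M is nilpotent of class at most 3. -/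
theorem result {G : Type*} [Group G] [Finite G]
    (A : Subgroup G) [A.Normal] (hA : IsMulCommutative A) (hCA : Subgroup.centralizer (A : Set G) = A)
    (m : ℕ) (hm1 : 1 < m) (hm : ∃ x : G, (Subgroup.centralizer ({x} : Set G)).index = m) (hmin : ∀ x : G, 1 < (Subgroup.centralizer ({x} : Set G)).index → m ≤ (Subgroup.centralizer ({x} : Set G)).index) :
    Subgroup.upperCentralSeries ↥(Subgroup.closure {x : G | (Subgroup.centralizer ({x} : Set G)).index = 1 ∨ (Subgroup.centralizer ({x} : Set G)).index = m}) 3 = ⊤ := by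
  have hAc : ∀ a ∈ A, ∀ b ∈ A, a * b = b * a := by
    intro a ha b hb
    have := hA.is_comm.comm (⟨a, ha⟩ : ↥A) ⟨b, hb⟩
    exact congrArg Subtype.val this
  set M := Subgroup.closure {x : G | (Subgroup.centralizer ({x} : Set G)).index = 1 ∨
    (Subgroup.centralizer ({x} : Set G)).index = m} with hM
  have hMT : M ≤ Tsub A := by
    rw [hM, Subgroup.closure_le]
    rintro x (hx | hx)
    · intro a _
      rw [Subgroup.index_eq_one] at hx
      refine ⟨1, Subgroup.one_mem _, ?_⟩
      have : a ∈ Subgroup.centralizer ({x} : Set G) := by rw [hx]; trivial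
      rw [mem_cent_singleton] at this
      rw [this]; group
    · intro a ha
      have hz := comm_mem_center A hAc m hmin x hx a ha
      refine ⟨x⁻¹ * (a⁻¹ * x * a), hz, ?_⟩
      have hc : ∀ w : G, w * (x⁻¹ * (a⁻¹ * x * a)) = (x⁻¹ * (a⁻¹ * x * a)) * w :=
        Subgroup.mem_center_iff.mp hz
      have h1 : x * a = a * x * (x⁻¹ * (a⁻¹ * x * a)) := by group
      calc x * a * x⁻¹ = a * x * (x⁻¹ * (a⁻¹ * x * a)) * x⁻¹ := by rw [← h1]
        _ = a * (x * (x⁻¹ * (a⁻¹ * x * a))) * x⁻¹ := by group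
        _ = a * ((x⁻¹ * (a⁻¹ * x * a)) * x) * x⁻¹ := by rw [hc x]
        _ = a * (x⁻¹ * (a⁻¹ * x * a)) := by group
        _ = (x⁻¹ * (a⁻¹ * x * a)) * a := hc a
  let H : ℕ → Subgroup ↥M := fun n =>
    match n with
    | 0 => ⊥
    | 1 => (Subgroup.center G).subgroupOf M
    | 2 => A.subgroupOf M
    | _ + 3 => ⊤
  have hH : Subgroup.IsAscendingCentralSeries H := by
    refine ⟨rfl, ?_⟩
    intro x n hx g
    rw [commutatorElement_def]
    match n, hx with
    | 0, hx =>
      have hx' : (x : G) ∈ Subgroup.center G := hx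
      have hc := Subgroup.mem_center_iff.mp hx' (g : G)
      show x * g * x⁻¹ * g⁻¹ ∈ (⊥ : Subgroup ↥M)
      rw [Subgroup.mem_bot]
      apply Subtype.ext
      simp only [Subgroup.coe_mul, Subgroup.coe_inv, Subgroup.coe_one]
      rw [← hc]; group
    | 1, hx =>
      have hx' : (x : G) ∈ A := hx
      show x * g * x⁻¹ * g⁻¹ ∈ (Subgroup.center G).subgroupOf M
      rw [Subgroup.mem_subgroupOf]
      simp only [Subgroup.coe_mul, Subgroup.coe_inv]
      obtain ⟨z, hz, e⟩ := hMT g.2 (x : G)⁻¹ (A.inv_mem hx')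
      have hcz : ∀ w : G, w * z = z * w := Subgroup.mem_center_iff.mp hz
      have : (x : G) * g * (x : G)⁻¹ * (g : G)⁻¹ = z := by
        calc (x : G) * g * (x : G)⁻¹ * (g : G)⁻¹ = x * ((g : G) * (x : G)⁻¹ * (g : G)⁻¹) := by group
          _ = x * (z * (x : G)⁻¹) := by rw [e]
          _ = (x * z) * (x : G)⁻¹ := by group
          _ = (z * x) * (x : G)⁻¹ := by rw [hcz]
          _ = z := by group
      rw [this]
      exact hz
    | 2, _ =>
      show x * g * x⁻¹ * g⁻¹ ∈ A.subgroupOf M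
      rw [Subgroup.mem_subgroupOf]
      simp only [Subgroup.coe_mul, Subgroup.coe_inv]
      have := comm_mem_centralizer A (x : G) (g : G) (hMT x.2) (hMT g.2)
      rwa [hCA] at this
    | k + 3, _ =>
      show x * g * x⁻¹ * g⁻¹ ∈ (⊤ : Subgroup ↥M)
      trivial
  have := Subgroup.ascending_central_series_le_upper H hH 3
  exact top_le_iff.mp this

end Cfsg.Agent.S4163
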