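import Cfsg.Statements.S4184
import Mathlib

set_option autoImplicit false
set_option linter.unusedSectionVars false
open Cfsg

namespace Cfsg.Agent.S4184

section basics

variable {K : Type*} [Group K] [Finite K]

/-- class size of an element -/
noncomputable abbrev cs (g : K) : ℕ := (Subgroup.centralizer ({g} : Set K)).index

lemma cs_mul_card (g : K) : cs g * Nat.card (Subgroup.centralizer ({g} : Set K)) = Nat.card K :=
  Subgroup.index_mul_card _

lemma cs_ne_zero (g : K) : cs g ≠ 0 := Subgroup.index_ne_zero_of_finite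

lemma cs_dvd_card (g : K) : cs g ∣ Nat.card K := Subgroup.index_dvd_card _

lemma self_mem_centralizer (g : K) : g ∈ Subgroup.centralizer ({g} : Set K) := by
  rw [Subgroup.mem_centralizer_iff]
  intro h hh
  rw [Set.mem_singleton_iff] at hh
  rw [hh]

lemma not_card_dvd_cs {x : K} (hx : x ≠ 1) : ¬ Nat.card K ∣ cs x := by
  intro hd
  have h1 : cs x = Nat.card K := Nat.dvd_antisymm (cs_dvd_card x) hd
  have h2 := cs_mul_card x
  rw [h1] at h2
  have hpos : 0 < Nat.card K := Nat.card_pos
  have h3 : Nat.card (Subgroup.centralizer ({x} : Set K)) = 1 := by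
    have : Nat.card K * Nat.card (Subgroup.centralizer ({x} : Set K)) = Nat.card K * 1 := by
      rw [h2, mul_one]
    exact Nat.eq_of_mul_eq_mul_left hpos this
  rw [Subgroup.card_eq_one] at h3
  have := self_mem_centralizer x
  rw [h3, Subgroup.mem_bot] at this
  exact hx this

lemma eq_one_of_cs_eq_one (hZ : Subgroup.center K = ⊥) {g : K} (h : cs g = 1) : g = 1 := by
  have h1 : Subgroup.centralizer ({g} : Set K) = ⊤ := Subgroup.index_eq_one.mp h
  have h2 : g ∈ Subgroup.center K := by
    rw [Subgroup.mem_center_iff]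
    intro y
    have hy : y ∈ Subgroup.centralizer ({g} : Set K) := by rw [h1]; exact Subgroup.mem_top y
    rw [Subgroup.mem_centralizer_iff] at hy
    exact (hy g rfl).symm
  rw [hZ, Subgroup.mem_bot] at h2
  exact h2

lemma cs_one : cs (1 : K) = 1 := by
  have : Subgroup.centralizer ({(1 : K)} : Set K) = ⊤ := by
    rw [eq_top_iff]
    intro y _
    rw [Subgroup.mem_centralizer_iff]
    intro h hh
    rw [Set.mem_singleton_iff] at hh
    rw [hh]; simp
  unfold cs
  rw [this, Subgroup.index_top]

/-- centralizer inclusion gives divisibility of class sizes -/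
lemma cs_dvd_of_le {g k : K}
    (h : Subgroup.centralizer ({k} : Set K) ≤ Subgroup.centralizer ({g} : Set K)) :
    cs g ∣ cs k := Subgroup.index_dvd_of_le h

end basics


section types

variable {M : Type*} [Group M] [Finite M]

/-- no element of order `a * b` with `a ∈ S`, `b ∉ S` primes dividing the order -/
def NoEdge (M : Type*) [Group M] (S : Set ℕ) : Prop :=
  ∀ a ∈ S, ∀ b ∉ S, a.Prime → b.Prime → a ∣ Nat.card M → b ∣ Nat.card M →
    ¬ ∃ x : M, orderOf x = a * b

/-- `n` has at least the full `S`-part of `N` -/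
def Full (S : Set ℕ) (N n : ℕ) : Prop :=
  ∀ b ∈ S, b.Prime → N.factorization b ≤ n.factorization b

lemma NoEdge.compl {S : Set ℕ} (hS : NoEdge M S) : NoEdge M Sᶜ := by
  intro a ha b hb hap hbp haM hbM hx
  obtain ⟨x, hx⟩ := hx
  have hb' : b ∈ S := not_not.mp hb
  exact hS b hb' a ha hbp hap hbM haM ⟨x, by rw [hx, mul_comm]⟩

lemma Full.mono {S : Set ℕ} {N n n' : ℕ} (h : Full S N n) (hd : n ∣ n') (hn' : n' ≠ 0) :
    Full S N n' := by
  intro b hb hbp
  exact (h b hb hbp).trans ((Nat.factorization_le_iff_dvd (fun h0 => hn' (by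
    rw [h0] at hd; exact Nat.eq_zero_of_zero_dvd hd)) hn').mpr hd b)

lemma full_compl {S : Set ℕ} (hS : NoEdge M S) (x : M) (r : ℕ) (hr : r.Prime) (hrS : r ∈ S)
    (hrx : r ∣ orderOf x) : Full Sᶜ (Nat.card M) (cs x) := by
  intro b hb hbp
  by_cases hbM : b ∣ Nat.card M
  · have hnd : ¬ b ∣ Nat.card (Subgroup.centralizer ({x} : Set M)) := by
      intro hdvd
      have : Fact b.Prime := ⟨hbp⟩
      obtain ⟨y, hy⟩ := exists_prime_orderOf_dvd_card' b hdvd
      have hx' : orderOf (x ^ (orderOf x / r)) = r :=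
        orderOf_pow_orderOf_div (orderOf_pos x).ne' hrx
      have hyc : (y : M) * x = x * (y : M) := by
        have := y.2
        rw [Subgroup.mem_centralizer_iff] at this
        exact (this x rfl).symm
      have hcomm : Commute (x ^ (orderOf x / r)) (y : M) :=
        (Commute.pow_left (show Commute x (y : M) from hyc.symm) _)
      have hyo : orderOf (y : M) = b := by rw [Subgroup.orderOf_coe, hy]
      have hrb : r ≠ b := fun h => hb (h ▸ hrS)
      have hord := hcomm.orderOf_mul_eq_mul_orderOf_of_coprime (by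
        rw [hx', hyo]; exact (Nat.coprime_primes hr hbp).mpr hrb)
      rw [hx', hyo] at hord
      have hrM : r ∣ Nat.card M := dvd_trans hrx (orderOf_dvd_natCard x)
      exact hS r hrS b hb hr hbp hrM hbM ⟨_, hord⟩
    have hfac : (Nat.card (Subgroup.centralizer ({x} : Set M))).factorization b = 0 :=
      Nat.factorization_eq_zero_of_not_dvd hnd
    have h2 := cs_mul_card x
    have h3 : (Nat.card M).factorization b
        = (cs x).factorization b
          + (Nat.card (Subgroup.centralizer ({x} : Set M))).factorization b := by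
      rw [← h2, Nat.factorization_mul (cs_ne_zero x) Nat.card_pos.ne']
      rfl
    rw [h3, hfac]
    simp
  · rw [Nat.factorization_eq_zero_of_not_dvd hbM]
    exact Nat.zero_le _

/-- every non-identity element is of one of the two types -/
lemma dichotomy {S : Set ℕ} (hS : NoEdge M S) {x : M} (hx : x ≠ 1) :
    Full Sᶜ (Nat.card M) (cs x) ∨ Full S (Nat.card M) (cs x) := by
  have hne : orderOf x ≠ 1 := by
    intro h
    exact hx (orderOf_eq_one_iff.mp h)
  obtain ⟨r, hr, hrx⟩ := Nat.exists_prime_and_dvd hne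
  by_cases hrS : r ∈ S
  · exact Or.inl (full_compl hS x r hr hrS hrx)
  · right
    have := full_compl hS.compl x r hr hrS hrx
    rwa [compl_compl] at this

/-- an element cannot be of both types -/
lemma not_both {S : Set ℕ} {x : M} (hx : x ≠ 1) (h1 : Full Sᶜ (Nat.card M) (cs x))
    (h2 : Full S (Nat.card M) (cs x)) : False := by
  apply not_card_dvd_cs hx
  rw [← Nat.factorization_le_iff_dvd Nat.card_pos.ne' (cs_ne_zero x)]
  intro b
  by_cases hbp : b.Prime
  · by_cases hb : b ∈ S
    · exact h2 b hb hbp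
    · exact h1 b hb hbp
  · rw [Nat.factorization_eq_zero_of_not_prime _ hbp]
    exact Nat.zero_le _

end types


section sylow

variable {G : Type*} [Group G] [Finite G]

/-- a subgroup of `p'`-index contains a conjugate of any Sylow `p`-subgroup -/
lemma exists_conj_le (p : ℕ) [Fact p.Prime] (P : Sylow p G) (H : Subgroup G)
    (hH : ¬ p ∣ H.index) : ∃ x : G, ∀ y ∈ P, x * y * x⁻¹ ∈ H := by
  have hp : p.Prime := Fact.out
  have hdvd : p ^ (Nat.card G).factorization p ∣ Nat.card H := by
    have h1 : p ^ (Nat.card G).factorization p ∣ H.index * Nat.card H := by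
      rw [Subgroup.index_mul_card]; exact Nat.ordProj_dvd _ p
    have hcop : (p ^ (Nat.card G).factorization p).Coprime H.index :=
      Nat.Coprime.pow_left _ ((Nat.Prime.coprime_iff_not_dvd hp).mpr hH)
    exact hcop.dvd_of_dvd_mul_left h1
  obtain ⟨K', hK'⟩ := Sylow.exists_subgroup_card_pow_prime p hdvd
  have hK : Nat.card (K'.map H.subtype) = p ^ (Nat.card G).factorization p := by
    rw [Subgroup.card_map_of_injective H.subtype_injective, hK']
  obtain ⟨x, hx⟩ := MulAction.exists_smul_eq G P (Sylow.ofCard _ hK)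
  refine ⟨x, fun y hy => ?_⟩
  have h1 : x * y * x⁻¹ ∈ ((x • P : Sylow p G) : Subgroup G) := by
    rw [Sylow.coe_subgroup_smul]
    exact ⟨y, hy, rfl⟩
  rw [hx, Sylow.coe_ofCard] at h1
  obtain ⟨z, _, hz⟩ := h1
  rw [← hz]
  exact z.2

/-- A finite group is not the union of the conjugates of a proper subgroup. -/
lemma eq_top_of_forall_conj_mem (H : Subgroup G) (h : ∀ g : G, ∃ x : G, x⁻¹ * g * x ∈ H) :
    H = ⊤ := by
  classical
  haveI := Fintype.ofFinite G
  haveI : Fintype (G ⧸ H) := Fintype.ofFinite _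
  have hB := MulAction.sum_card_fixedBy_eq_card_orbits_mul_card_group G (G ⧸ H)
  have hone : Fintype.card (Quotient (MulAction.orbitRel G (G ⧸ H))) = 1 := by
    rw [Fintype.card_eq_one_iff]
    refine ⟨Quotient.mk'' (QuotientGroup.mk 1), fun q => ?_⟩
    induction q using Quotient.inductionOn' with
    | h a =>
      apply Quotient.sound'
      exact MulAction.exists_smul_eq G _ _
  rw [hone, one_mul] at hB
  have hle : ∀ g ∈ (Finset.univ : Finset G), (fun _ => 1) g ≤ Fintype.card (MulAction.fixedBy (G ⧸ H) g) := by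
    intro g _
    obtain ⟨x, hx⟩ := h g
    apply Fintype.card_pos_iff.mpr
    refine ⟨⟨QuotientGroup.mk x, ?_⟩⟩
    rw [MulAction.mem_fixedBy]
    change (QuotientGroup.mk (g * x) : G ⧸ H) = QuotientGroup.mk x
    rw [QuotientGroup.eq]
    have : (g * x)⁻¹ * x = (x⁻¹ * g * x)⁻¹ := by group
    rw [this]
    exact H.inv_mem hx
  have hsum : ∑ g : G, (fun _ => 1) g = ∑ g : G, Fintype.card (MulAction.fixedBy (G ⧸ H) g) := by
    rw [hB]; simp
  have := (Finset.sum_eq_sum_iff_of_le hle).mp hsum 1 (Finset.mem_univ _)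
  have h1 : Fintype.card (MulAction.fixedBy (G ⧸ H) (1 : G)) = Fintype.card (G ⧸ H) := by
    apply Fintype.card_congr
    exact (Equiv.subtypeUnivEquiv (fun q => by simp [MulAction.mem_fixedBy]))
  rw [h1] at this
  have hidx : H.index = 1 := by
    rw [Subgroup.index, Nat.card_eq_fintype_card, ← this]
  exact Subgroup.index_eq_one.mp hidx

end sylow


section main

variable {G M : Type*} [Group G] [Finite G] [Group M] [Finite M]

/-- if the centre is trivial, every prime divisor of the order divides some class size -/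
lemma exists_dvd_cs (hZ : Subgroup.center G = ⊥) {p : ℕ} (hp : p.Prime) (hpG : p ∣ Nat.card G) :
    ∃ g : G, p ∣ cs g := by
  by_contra hne
  push Not at hne
  have : Fact p.Prime := ⟨hp⟩
  let P : Sylow p G := default
  have hC : Subgroup.centralizer ((P : Subgroup G) : Set G) = ⊤ := by
    apply eq_top_of_forall_conj_mem
    intro g
    obtain ⟨x, hx⟩ := exists_conj_le p P (Subgroup.centralizer {g}) (hne g)
    refine ⟨x, ?_⟩
    rw [Subgroup.mem_centralizer_iff]
    intro y hy
    have h1 := hx y hy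
    rw [Subgroup.mem_centralizer_iff] at h1
    have h2 := h1 g rfl
    calc y * (x⁻¹ * g * x) = x⁻¹ * (x * y * x⁻¹ * g) * x := by group
      _ = x⁻¹ * (g * (x * y * x⁻¹)) * x := by rw [h2]
      _ = x⁻¹ * g * x * y := by group
  have hP : (P : Subgroup G) ≤ Subgroup.center G := by
    intro y hy
    rw [Subgroup.mem_center_iff]
    intro g
    have hg : g ∈ Subgroup.centralizer ((P : Subgroup G) : Set G) := by rw [hC]; trivial
    rw [Subgroup.mem_centralizer_iff] at hg
    exact (hg y hy).symm
  rw [hZ] at hP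
  exact P.ne_bot_of_dvd_card hpG (le_bot_iff.mp hP)

variable (hZG : Subgroup.center G = ⊥) (hZM : Subgroup.center M = ⊥)
  (h : Set.range (fun g : G => (Subgroup.centralizer ({g} : Set G)).index)
    = Set.range (fun g : M => (Subgroup.centralizer ({g} : Set M)).index))

include h in
lemma exists_cs_eq (g : G) : ∃ x : M, cs x = cs g := by
  have : cs g ∈ Set.range (fun g : G => (Subgroup.centralizer ({g} : Set G)).index) := ⟨g, rfl⟩
  rw [h] at this
  exact this

include h in
lemma exists_cs_eq' (x : M) : ∃ g : G, cs g = cs x := by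
  have : cs x ∈ Set.range (fun g : M => (Subgroup.centralizer ({g} : Set M)).index) := ⟨x, rfl⟩
  rw [← h] at this
  exact this

include hZG h in
lemma exists_cs_eq_ne {g : G} (hg : g ≠ 1) : ∃ x : M, x ≠ 1 ∧ cs x = cs g := by
  obtain ⟨x, hx⟩ := exists_cs_eq h g
  refine ⟨x, ?_, hx⟩
  intro h1
  rw [h1, cs_one] at hx
  exact hg (eq_one_of_cs_eq_one hZG hx.symm)

include h in
lemma cs_dvd_cardM (g : G) : cs g ∣ Nat.card M := by
  obtain ⟨x, hx⟩ := exists_cs_eq h g
  rw [← hx]
  exact cs_dvd_card x

include hZG h in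
lemma dichotomyG {S : Set ℕ} (hS : NoEdge M S) {g : G} (hg : g ≠ 1) :
    Full Sᶜ (Nat.card M) (cs g) ∨ Full S (Nat.card M) (cs g) := by
  obtain ⟨x, hx1, hx⟩ := exists_cs_eq_ne hZG h hg
  rw [← hx]
  exact dichotomy hS hx1

include hZG h in
lemma not_bothG {S : Set ℕ} {g : G} (hg : g ≠ 1) (h1 : Full Sᶜ (Nat.card M) (cs g))
    (h2 : Full S (Nat.card M) (cs g)) : False := by
  obtain ⟨x, hx1, hx⟩ := exists_cs_eq_ne hZG h hg
  rw [← hx] at h1 h2
  exact not_both hx1 h1 h2

include hZG h in
/-- commuting elements of coprime orders have the same type -/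
lemma same_type {S : Set ℕ} (hS : NoEdge M S) {g k : G} (hg : g ≠ 1) (hk : k ≠ 1)
    (hcomm : Commute g k) (hco : (orderOf g).Coprime (orderOf k))
    (hgS : Full S (Nat.card M) (cs g)) : Full S (Nat.card M) (cs k) := by
  have hm : g * k ≠ 1 := by
    intro h1
    have := hcomm.orderOf_mul_eq_mul_orderOf_of_coprime hco
    rw [h1, orderOf_one] at this
    have h2 : orderOf g = 1 := Nat.eq_one_of_mul_eq_one_right this.symm
    exact hg (orderOf_eq_one_iff.mp h2)
  have hCg : Subgroup.centralizer ({g * k} : Set G) ≤ Subgroup.centralizer ({g} : Set G) := by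
    intro y hy
    rw [Subgroup.mem_centralizer_iff] at hy ⊢
    have hy' : Commute (g * k) y := hy (g * k) rfl
    obtain ⟨u, hu⟩ := exists_pow_eq_self_of_coprime hco.symm
    have h3 : (g * k) ^ (orderOf k) = g ^ (orderOf k) := by
      rw [hcomm.mul_pow, pow_orderOf_eq_one, mul_one]
    intro z hz
    rw [Set.mem_singleton_iff] at hz
    rw [hz]
    have : Commute (((g * k) ^ (orderOf k)) ^ u) y := (hy'.pow_left _).pow_left _
    rw [h3, hu] at this
    exact this
  have hCk : Subgroup.centralizer ({g * k} : Set G) ≤ Subgroup.centralizer ({k} : Set G) := by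
    intro y hy
    rw [Subgroup.mem_centralizer_iff] at hy ⊢
    have hy' : Commute (g * k) y := hy (g * k) rfl
    obtain ⟨u, hu⟩ := exists_pow_eq_self_of_coprime hco
    have h3 : (g * k) ^ (orderOf g) = k ^ (orderOf g) := by
      rw [hcomm.mul_pow, pow_orderOf_eq_one, one_mul]
    intro z hz
    rw [Set.mem_singleton_iff] at hz
    rw [hz]
    have : Commute (((g * k) ^ (orderOf g)) ^ u) y := (hy'.pow_left _).pow_left _
    rw [h3, hu] at this
    exact this
  have hgm : Full S (Nat.card M) (cs (g * k)) := hgS.mono (cs_dvd_of_le hCg) (cs_ne_zero _)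
  rcases dichotomyG hZG h hS hk with hk' | hk'
  · exfalso
    exact not_bothG hZG h hm (hk'.mono (cs_dvd_of_le hCk) (cs_ne_zero _)) hgm
  · exact hk'


include h in
lemma val_le_of_notMem {S : Set ℕ} (hS : NoEdge M S) (a : ℕ) (haS : a ∈ S) (hap : a.Prime)
    (haM : a ∣ Nat.card M) (p : ℕ) (hp : p.Prime) (hpS : p ∉ S) :
    (Nat.card M).factorization p ≤ (Nat.card G).factorization p := by
  have : Fact a.Prime := ⟨hap⟩
  obtain ⟨x, hx⟩ := exists_prime_orderOf_dvd_card' a haM
  have hfull := full_compl hS x a hap haS (by rw [hx])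
  obtain ⟨g, hg⟩ := exists_cs_eq' h x
  refine (hfull p hpS hp).trans ?_
  rw [← hg]
  exact (Nat.factorization_le_iff_dvd (cs_ne_zero g) Nat.card_pos.ne').mpr (cs_dvd_card g) p

include hZG h in
lemma val_le_of_mem {S : Set ℕ} (hS : NoEdge M S) (hMG : Nat.card M ∣ Nat.card G)
    (p : ℕ) (hp : p.Prime) (hpS : p ∈ S) (hpM : p ∣ Nat.card M)
    (q : ℕ) (hq : q.Prime) (hqS : q ∉ S) (hqM : q ∣ Nat.card M) :
    (Nat.card G).factorization p ≤ (Nat.card M).factorization p := by
  by_contra hlt
  push Not at hlt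
  have hpq : p ≠ q := fun hh => hqS (hh ▸ hpS)
  have hfp : Fact p.Prime := ⟨hp⟩
  have hfq : Fact q.Prime := ⟨hq⟩
  have hMp : 1 ≤ (Nat.card M).factorization p :=
    (hp.factorization_pos_of_dvd Nat.card_pos.ne' hpM)
  have hMq : 1 ≤ (Nat.card M).factorization q :=
    (hq.factorization_pos_of_dvd Nat.card_pos.ne' hqM)
  -- the key valuation computation
  have key : ∀ k : G, k ≠ 1 → Full S (Nat.card M) (cs k) →
      (Nat.card (Subgroup.centralizer ({k} : Set G))).factorization p + (Nat.card M).factorization p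
        = (Nat.card G).factorization p := by
    intro k _ hkS
    have h1 : (cs k).factorization p = (Nat.card M).factorization p := by
      apply le_antisymm
      · exact (Nat.factorization_le_iff_dvd (cs_ne_zero k) Nat.card_pos.ne').mpr
          (cs_dvd_cardM h k) p
      · exact hkS p hpS hp
    have h2 := cs_mul_card k
    have h3 : (Nat.card G).factorization p
        = (cs k).factorization p
          + (Nat.card (Subgroup.centralizer ({k} : Set G))).factorization p := by
      rw [← h2, Nat.factorization_mul (cs_ne_zero k) Nat.card_pos.ne']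
      rfl
    rw [h3, h1, add_comm]
  -- a `q`-central element `w`
  let Q : Sylow q G := default
  have hQne : (Q : Subgroup G) ≠ ⊥ := Q.ne_bot_of_dvd_card (dvd_trans hqM hMG)
  have hQnt : Nontrivial ↥(Q : Subgroup G) := (Subgroup.nontrivial_iff_ne_bot _).mpr hQne
  have hQc : Nontrivial (Subgroup.center ↥(Q : Subgroup G)) := Q.isPGroup'.center_nontrivial
  obtain ⟨z, hz⟩ := exists_ne (1 : Subgroup.center ↥(Q : Subgroup G))
  obtain ⟨w, hw⟩ : ∃ w : G, w = ((z : ↥(Q : Subgroup G)) : G) := ⟨_, rfl⟩
  have hw1 : w ≠ 1 := by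
    intro h1
    apply hz
    apply Subtype.ext
    apply Subtype.ext
    rw [← hw, h1]; rfl
  have hwQ : ∀ y ∈ (Q : Subgroup G), y * w = w * y := by
    intro y hy
    have hzc := z.2
    rw [Subgroup.mem_center_iff] at hzc
    have := hzc ⟨y, hy⟩
    have := congrArg (Subtype.val) this
    rw [hw]
    simpa using this
  have hQle : (Q : Subgroup G) ≤ Subgroup.centralizer ({w} : Set G) := by
    intro y hy
    rw [Subgroup.mem_centralizer_iff]
    intro u hu
    rw [Set.mem_singleton_iff] at hu
    rw [hu]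
    exact (hwQ y hy).symm
  have hqw : ¬ q ∣ cs w := fun hd => Q.not_dvd_index (dvd_trans hd (Subgroup.index_dvd_of_le hQle))
  obtain ⟨kw, hkw⟩ : ∃ kw : ℕ, orderOf w = q ^ kw := by
    obtain ⟨kw, hkw⟩ := (IsPGroup.iff_orderOf.mp Q.isPGroup') (z : ↥(Q : Subgroup G))
    refine ⟨kw, ?_⟩
    rw [hw, Subgroup.orderOf_coe, hkw]
  have hwS : Full S (Nat.card M) (cs w) := by
    rcases dichotomyG hZG h hS hw1 with h1 | h1
    · exfalso
      have := h1 q hqS hq
      rw [Nat.factorization_eq_zero_of_not_dvd hqw] at this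
      omega
    · exact h1
  have hwkey := key w hw1 hwS
  -- a `p`-subgroup `P₁` of `C(w)` of order `p ^ e`
  obtain ⟨e, he⟩ : ∃ e : ℕ, e = (Nat.card (Subgroup.centralizer ({w} : Set G))).factorization p :=
    ⟨_, rfl⟩
  have he1 : 1 ≤ e := by omega
  have hdvd : p ^ e ∣ Nat.card (Subgroup.centralizer ({w} : Set G)) := by
    rw [he]; exact Nat.ordProj_dvd _ p
  obtain ⟨K', hK'⟩ := Sylow.exists_subgroup_card_pow_prime p hdvd
  obtain ⟨P₁, hP₁⟩ : ∃ P₁ : Subgroup G, P₁ = K'.map (Subgroup.centralizer ({w} : Set G)).subtype :=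
    ⟨_, rfl⟩
  have hP₁card : Nat.card P₁ = p ^ e := by
    rw [hP₁, Subgroup.card_map_of_injective (Subgroup.subtype_injective _), hK']
  have hP₁w : P₁ ≤ Subgroup.centralizer ({w} : Set G) := by
    rw [hP₁]; exact Subgroup.map_subtype_le _
  have hP₁p : IsPGroup p ↥P₁ := IsPGroup.of_card hP₁card
  -- every non-identity element of `P₁` has type `S`
  have hP₁type : ∀ y ∈ P₁, y ≠ 1 →
      (Nat.card (Subgroup.centralizer ({y} : Set G))).factorization p = e := by
    intro y hy hy1
    have hyw : Commute w y := by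
      have := hP₁w hy
      rw [Subgroup.mem_centralizer_iff] at this
      exact this w rfl
    obtain ⟨ky, hky⟩ := (IsPGroup.iff_orderOf.mp hP₁p) ⟨y, hy⟩
    have hky' : orderOf y = p ^ ky := by
      rw [← hky, ← Subgroup.orderOf_coe]
    have hco : (orderOf w).Coprime (orderOf y) := by
      rw [hkw, hky']
      exact Nat.Coprime.pow _ _ ((Nat.coprime_primes hq hp).mpr (Ne.symm hpq))
    have := key y hy1 (same_type hZG h hS hw1 hy1 hyw hco hwS)
    omega
  obtain ⟨Q₂, hQ₂⟩ := hP₁p.exists_le_sylow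
  have hQ₂card : Nat.card (Q₂ : Subgroup G) = p ^ (Nat.card G).factorization p :=
    Q₂.card_eq_multiplicity
  have hpow : ∀ (R : Subgroup G) (y : G) (j : ℕ), R ≤ Subgroup.centralizer ({y} : Set G) →
      p ^ j ∣ Nat.card R → j ≤ (Nat.card (Subgroup.centralizer ({y} : Set G))).factorization p := by
    intro R y j hR hj
    exact (hp.pow_dvd_iff_le_factorization Nat.card_pos.ne').mp
      (dvd_trans hj (Subgroup.card_dvd_of_le hR))
  by_cases hcase : ∀ z₂ : ↥(Q₂ : Subgroup G), z₂ ∈ Subgroup.center ↥(Q₂ : Subgroup G) →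
      (z₂ : G) ∈ P₁
  · -- case B
    have hQ₂nt : Nontrivial ↥(Q₂ : Subgroup G) := by
      rw [← Finite.one_lt_card_iff_nontrivial, hQ₂card]
      exact Nat.one_lt_pow (by omega) hp.one_lt
    have hQ₂c : Nontrivial (Subgroup.center ↥(Q₂ : Subgroup G)) := Q₂.isPGroup'.center_nontrivial
    obtain ⟨z₂, hz₂⟩ := exists_ne (1 : Subgroup.center ↥(Q₂ : Subgroup G))
    have hy1 : ((z₂ : ↥(Q₂ : Subgroup G)) : G) ≠ 1 := by
      intro h1
      apply hz₂
      apply Subtype.ext
      apply Subtype.ext
      rw [h1]; rfl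
    have hyP := hcase z₂ z₂.2
    have hle : (Q₂ : Subgroup G) ≤ Subgroup.centralizer ({((z₂ : ↥(Q₂ : Subgroup G)) : G)} : Set G) := by
      intro y hy
      rw [Subgroup.mem_centralizer_iff]
      intro u hu
      rw [Set.mem_singleton_iff] at hu
      rw [hu]
      have hzc := z₂.2
      rw [Subgroup.mem_center_iff] at hzc
      have := congrArg (Subtype.val) (hzc ⟨y, hy⟩)
      simpa using this.symm
    have h1 := hpow _ _ _ hle (dvd_of_eq hQ₂card.symm)
    rw [hP₁type _ hyP hy1] at h1
    omega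
  · -- case A
    push Not at hcase
    obtain ⟨z₂, hz₂c, hz₂P⟩ := hcase
    have hP₁nt : Nontrivial ↥P₁ := by
      rw [← Finite.one_lt_card_iff_nontrivial, hP₁card]
      exact Nat.one_lt_pow (by omega) hp.one_lt
    have hP₁c : Nontrivial (Subgroup.center ↥P₁) := hP₁p.center_nontrivial
    obtain ⟨h₁, hh₁⟩ := exists_ne (1 : Subgroup.center ↥P₁)
    have hy1 : ((h₁ : ↥P₁) : G) ≠ 1 := by
      intro h1
      apply hh₁
      apply Subtype.ext
      apply Subtype.ext
      rw [h1]; rfl
    have hyP : ((h₁ : ↥P₁) : G) ∈ P₁ := (h₁ : ↥P₁).2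
    have hle1 : P₁ ≤ Subgroup.centralizer ({((h₁ : ↥P₁) : G)} : Set G) := by
      intro y hy
      rw [Subgroup.mem_centralizer_iff]
      intro u hu
      rw [Set.mem_singleton_iff] at hu
      rw [hu]
      have hzc := h₁.2
      rw [Subgroup.mem_center_iff] at hzc
      have := congrArg (Subtype.val) (hzc ⟨y, hy⟩)
      simpa using this.symm
    have hle2 : Subgroup.zpowers (z₂ : G) ≤ Subgroup.centralizer ({((h₁ : ↥P₁) : G)} : Set G) := by
      rw [Subgroup.zpowers_le]
      rw [Subgroup.mem_centralizer_iff]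
      intro u hu
      rw [Set.mem_singleton_iff] at hu
      rw [hu]
      rw [Subgroup.mem_center_iff] at hz₂c
      have := congrArg (Subtype.val) (hz₂c ⟨((h₁ : ↥P₁) : G), hQ₂ hyP⟩)
      simpa using this
    have hRle : P₁ ⊔ Subgroup.zpowers (z₂ : G) ≤ Subgroup.centralizer ({((h₁ : ↥P₁) : G)} : Set G) :=
      sup_le hle1 hle2
    have hRQ : P₁ ⊔ Subgroup.zpowers (z₂ : G) ≤ (Q₂ : Subgroup G) :=
      sup_le hQ₂ (by rw [Subgroup.zpowers_le]; exact z₂.2)
    have hRp : IsPGroup p ↥(P₁ ⊔ Subgroup.zpowers (z₂ : G)) := Q₂.isPGroup'.to_le hRQ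
    obtain ⟨j, hj⟩ := IsPGroup.iff_card.mp hRp
    have hPR : P₁ ≤ P₁ ⊔ Subgroup.zpowers (z₂ : G) := le_sup_left
    have hej : e < j := by
      have h1 : p ^ e ∣ p ^ j := by
        rw [← hP₁card, ← hj]; exact Subgroup.card_dvd_of_le hPR
      have h2 : e ≤ j := (Nat.pow_dvd_pow_iff_le_right hp.one_lt).mp h1
      rcases Nat.lt_or_ge e j with h3 | h3
      · exact h3
      · exfalso
        have hej : e = j := le_antisymm h2 h3
        have : P₁ = P₁ ⊔ Subgroup.zpowers (z₂ : G) :=
          Subgroup.eq_of_le_of_card_ge hPR (by rw [hP₁card, hj, hej])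
        apply hz₂P
        rw [this]
        exact (le_sup_right : Subgroup.zpowers (z₂ : G) ≤ _) (Subgroup.mem_zpowers _)
    have h1 := hpow _ _ _ hRle (dvd_of_eq hj.symm)
    rw [hP₁type _ hyP hy1] at h1
    omega


end main

/-- Let G and M be finite groups with trivial centres and the same set of conjugacy class sizes, and suppose the prime graph of M is disconnected: the prime divisors of #M split into two non-empty parts such that M has no element of order pq with p in one part and q in the other. Then #G = #M. -/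
theorem result {G M : Type*}
    [Group G] [Finite G] [Group M] [Finite M] (hZG : Subgroup.center G = ⊥) (hZM : Subgroup.center M = ⊥)
    (h : Set.range (fun g : G => (Subgroup.centralizer ({g} : Set G)).index) = Set.range (fun g : M => (Subgroup.centralizer ({g} : Set M)).index))
    (hdisc : ∃ A : Set ℕ, (∃ a ∈ A, a.Prime ∧ a ∣ Nat.card M) ∧ (∃ b ∉ A, b.Prime ∧ b ∣ Nat.card M) ∧
      ∀ a ∈ A, ∀ b ∉ A, a.Prime → b.Prime → a ∣ Nat.card M → b ∣ Nat.card M → ¬ ∃ x : M, orderOf x = a * b) :
    Nat.card G = Nat.card M := by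
  obtain ⟨A, ⟨a, haA, hap, haM⟩, ⟨b, hbA, hbp, hbM⟩, hA⟩ := hdisc
  have hS : NoEdge M A := hA
  have hS' : NoEdge M Aᶜ := hS.compl
  have hGpos : Nat.card G ≠ 0 := Nat.card_pos.ne'
  have hMpos : Nat.card M ≠ 0 := Nat.card_pos.ne'
  -- (a)
  have hle : ∀ p : ℕ, p.Prime → (Nat.card M).factorization p ≤ (Nat.card G).factorization p := by
    intro p hp
    by_cases hpA : p ∈ A
    · exact val_le_of_notMem h hS' b hbA hbp hbM p hp (fun hh => hh hpA)
    · exact val_le_of_notMem h hS a haA hap haM p hp hpA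
  have hMG : Nat.card M ∣ Nat.card G := by
    rw [← Nat.factorization_le_iff_dvd hMpos hGpos]
    intro p
    by_cases hp : p.Prime
    · exact hle p hp
    · rw [Nat.factorization_eq_zero_of_not_prime _ hp]; exact Nat.zero_le _
  apply Nat.eq_of_factorization_eq hGpos hMpos
  intro p
  by_cases hp : p.Prime
  · by_cases hpM : p ∣ Nat.card M
    · apply le_antisymm _ (hle p hp)
      by_cases hpA : p ∈ A
      · exact val_le_of_mem hZG h hS hMG p hp hpA hpM b hbp hbA hbM
      · exact val_le_of_mem hZG h hS' hMG p hp hpA hpM a hap (fun hh => hh haA) haM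
    · have hpG : ¬ p ∣ Nat.card G := by
        intro hpG
        obtain ⟨g, hg⟩ := exists_dvd_cs hZG hp hpG
        exact hpM (dvd_trans hg (cs_dvd_cardM h g))
      rw [Nat.factorization_eq_zero_of_not_dvd hpM, Nat.factorization_eq_zero_of_not_dvd hpG]
  · rw [Nat.factorization_eq_zero_of_not_prime _ hp, Nat.factorization_eq_zero_of_not_prime _ hp]

end Cfsg.Agent.S4184
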