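import Cfsg.Statements.S4169
import Mathlib
import Cfsg.Agent.S4163
import Cfsg.Agent.Lib.Helper10.Nilp

set_option autoImplicit false
open Cfsg

namespace Cfsg.Agent.S4169

open scoped commutatorElement
open Cfsg.Agent.S4163 (Tsub comm_mem_center comm_mem_centralizer mem_cent_singleton)

section selfcent

variable {P : Type*} [Group P]

/-- a finite nilpotent group has a self-centralizing normal abelian subgroup -/
theorem exists_self_centralizing [Finite P] [Group.IsNilpotent P] :
    ∃ A : Subgroup P, A.Normal ∧ (∀ a ∈ A, ∀ b ∈ A, a * b = b * a) ∧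
      Subgroup.centralizer (A : Set P) = A := by
  let 𝓐 : Subgroup P → Prop := fun A => A.Normal ∧ ∀ a ∈ A, ∀ b ∈ A, a * b = b * a
  have h0 : 𝓐 ⊥ := by
    refine ⟨inferInstance, ?_⟩
    intro a ha b hb
    rw [Subgroup.mem_bot] at ha hb
    rw [ha, hb]
  obtain ⟨A, -, hAmax⟩ := Finite.exists_le_maximal h0
  have hAn : A.Normal := hAmax.1.1
  have hAc := hAmax.1.2
  refine ⟨A, hAn, hAc, ?_⟩
  have hle : A ≤ Subgroup.centralizer (A : Set P) := by
    intro a ha
    rw [Subgroup.mem_centralizer_iff]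
    intro b hb
    exact hAc b hb a ha
  by_contra hne
  have hlt : A < Subgroup.centralizer (A : Set P) := lt_of_le_of_ne hle (Ne.symm hne)
  let Cbar := (Subgroup.centralizer (A : Set P)).map (QuotientGroup.mk' A)
  haveI : Cbar.Normal :=
    Subgroup.Normal.map inferInstance (QuotientGroup.mk' A) (QuotientGroup.mk'_surjective A)
  have hCbar : Cbar ≠ ⊥ := by
    intro h
    rw [Subgroup.map_eq_bot_iff, QuotientGroup.ker_mk'] at h
    exact hlt.not_ge h
  have hmeet := Cfsg.Agent.Helper10.normal_inf_center_ne_bot Cbar hCbar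
  rcases Subgroup.bot_or_exists_ne_one (Cbar ⊓ Subgroup.center (P ⧸ A)) with h | ⟨cb, hcb, hcb1⟩
  · exact hmeet h
  obtain ⟨c, hcC, hceq⟩ := hcb.1
  have hcA : c ∉ A := by
    intro h
    apply hcb1
    rw [← hceq]
    exact (QuotientGroup.eq_one_iff c).mpr h
  have hcz : (QuotientGroup.mk' A) c ∈ Subgroup.center (P ⧸ A) := by rw [hceq]; exact hcb.2
  let B := (Subgroup.zpowers ((QuotientGroup.mk' A) c)).comap (QuotientGroup.mk' A)
  have hZn : (Subgroup.zpowers ((QuotientGroup.mk' A) c)).Normal := by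
    constructor
    intro n hn g
    have hn' : n ∈ Subgroup.center (P ⧸ A) := by
      obtain ⟨k, rfl⟩ := Subgroup.mem_zpowers_iff.mp hn
      exact Subgroup.zpow_mem _ hcz k
    have := Subgroup.mem_center_iff.mp hn' g
    rw [this, mul_inv_cancel_right]
    exact hn
  have hBn : B.Normal := Subgroup.Normal.comap hZn _
  have hcomm : ∀ a ∈ A, Commute a c := by
    intro a ha
    exact (Subgroup.mem_centralizer_iff.mp hcC a ha)
  have hBc : ∀ x ∈ B, ∀ y ∈ B, x * y = y * x := by
    intro x hx y hy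
    obtain ⟨k, hk⟩ := Subgroup.mem_zpowers_iff.mp hx
    obtain ⟨l, hl⟩ := Subgroup.mem_zpowers_iff.mp hy
    have hxa : (c ^ k)⁻¹ * x ∈ A := by
      rw [← QuotientGroup.eq]
      have : ((c ^ k : P) : P ⧸ A) = (QuotientGroup.mk' A) c ^ k := by
        rw [← map_zpow]; rfl
      rw [this, hk]; rfl
    have hya : (c ^ l)⁻¹ * y ∈ A := by
      rw [← QuotientGroup.eq]
      have : ((c ^ l : P) : P ⧸ A) = (QuotientGroup.mk' A) c ^ l := by
        rw [← map_zpow]; rfl
      rw [this, hl]; rfl
    have ex : x = c ^ k * ((c ^ k)⁻¹ * x) := by group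
    have ey : y = c ^ l * ((c ^ l)⁻¹ * y) := by group
    have c1 : Commute (c ^ k) (c ^ l) := (Commute.refl c).zpow_zpow k l
    have c2 : Commute (c ^ k) ((c ^ l)⁻¹ * y) := ((hcomm _ hya).zpow_right k).symm
    have c3 : Commute ((c ^ k)⁻¹ * x) (c ^ l) := (hcomm _ hxa).zpow_right l
    have c4 : Commute ((c ^ k)⁻¹ * x) ((c ^ l)⁻¹ * y) := hAc _ hxa _ hya
    have : Commute (c ^ k * ((c ^ k)⁻¹ * x)) (c ^ l * ((c ^ l)⁻¹ * y)) :=
      Commute.mul_left (Commute.mul_right c1 c2) (Commute.mul_right c3 c4)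
    rw [ex, ey]
    exact this
  have hAB : A ≤ B := by
    intro a ha
    show (QuotientGroup.mk' A) a ∈ Subgroup.zpowers ((QuotientGroup.mk' A) c)
    have : (QuotientGroup.mk' A) a = 1 := (QuotientGroup.eq_one_iff a).mpr ha
    rw [this]
    exact Subgroup.one_mem _
  have hBA : B ≤ A := hAmax.2 ⟨hBn, hBc⟩ hAB
  exact hcA (hBA (show (QuotientGroup.mk' A) c ∈ Subgroup.zpowers ((QuotientGroup.mk' A) c) from
    Subgroup.mem_zpowers _))

end selfcent

section series

variable {G : Type*} [Group G]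

/-- if every element acts trivially on the self-centralizing normal subgroup `A` modulo the centre,
the group has class at most 3 -/
theorem class_le_three (A : Subgroup G) [A.Normal] (hCA : Subgroup.centralizer (A : Set G) = A)
    (hT : ∀ g : G, g ∈ Tsub A) : Subgroup.upperCentralSeries G 3 = ⊤ := by
  let H : ℕ → Subgroup G := fun n =>
    match n with
    | 0 => ⊥
    | 1 => Subgroup.center G
    | 2 => A
    | _ + 3 => ⊤
  have hH : Subgroup.IsAscendingCentralSeries H := by
    refine ⟨rfl, ?_⟩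
    intro x n hx g
    rw [commutatorElement_def]
    match n, hx with
    | 0, hx =>
      have hx' : x ∈ Subgroup.center G := hx
      have hc := Subgroup.mem_center_iff.mp hx' g
      show x * g * x⁻¹ * g⁻¹ ∈ (⊥ : Subgroup G)
      rw [Subgroup.mem_bot, ← hc]; group
    | 1, hx =>
      have hx' : x ∈ A := hx
      show x * g * x⁻¹ * g⁻¹ ∈ Subgroup.center G
      obtain ⟨z, hz, e⟩ := hT g x⁻¹ (A.inv_mem hx')
      have hcz : ∀ w : G, w * z = z * w := Subgroup.mem_center_iff.mp hz
      have : x * g * x⁻¹ * g⁻¹ = z := by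
        calc x * g * x⁻¹ * g⁻¹ = x * (g * x⁻¹ * g⁻¹) := by group
          _ = x * (z * x⁻¹) := by rw [e]
          _ = (x * z) * x⁻¹ := by group
          _ = (z * x) * x⁻¹ := by rw [hcz]
          _ = z := by group
      rw [this]
      exact hz
    | 2, _ =>
      show x * g * x⁻¹ * g⁻¹ ∈ A
      have := comm_mem_centralizer A x g (hT x) (hT g)
      rwa [hCA] at this
    | k + 3, _ =>
      show x * g * x⁻¹ * g⁻¹ ∈ (⊤ : Subgroup G)
      trivial
  have := Subgroup.ascending_central_series_le_upper H hH 3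
  exact top_le_iff.mp this

end series

/-- Let P be a finite p-group whose conjugacy classes have exactly two sizes (1 and one other value). Then P has nilpotency class at most 3. -/
theorem result {P : Type*} [Group P] [Finite P] {p : ℕ} [Fact p.Prime] (hP : IsPGroup p P)
    (m : ℕ) (hm : 1 < m) (h : ∀ x : P, (Subgroup.centralizer ({x} : Set P)).index = 1 ∨ (Subgroup.centralizer ({x} : Set P)).index = m) :
    upperCentralSeries P 3 = ⊤ := by
  haveI : Group.IsNilpotent P := hP.isNilpotent
  obtain ⟨A, hAn, hAc, hCA⟩ := exists_self_centralizing (P := P)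
  haveI := hAn
  have hmin : ∀ y : P, 1 < (Subgroup.centralizer ({y} : Set P)).index →
      m ≤ (Subgroup.centralizer ({y} : Set P)).index := by
    intro y hy
    rcases h y with h1 | h1
    · omega
    · omega
  apply class_le_three A hCA
  intro x
  rcases h x with hx | hx
  · intro a _
    rw [Subgroup.index_eq_one] at hx
    refine ⟨1, Subgroup.one_mem _, ?_⟩
    have : a ∈ Subgroup.centralizer ({x} : Set P) := by rw [hx]; trivial
    rw [mem_cent_singleton] at this
    rw [this]; group
  · intro a ha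
    have hz := comm_mem_center A hAc m hmin x hx a ha
    refine ⟨x⁻¹ * (a⁻¹ * x * a), hz, ?_⟩
    have hc : ∀ w : P, w * (x⁻¹ * (a⁻¹ * x * a)) = (x⁻¹ * (a⁻¹ * x * a)) * w :=
      Subgroup.mem_center_iff.mp hz
    have h1 : x * a = a * x * (x⁻¹ * (a⁻¹ * x * a)) := by group
    calc x * a * x⁻¹ = a * x * (x⁻¹ * (a⁻¹ * x * a)) * x⁻¹ := by rw [← h1]
      _ = a * (x * (x⁻¹ * (a⁻¹ * x * a))) * x⁻¹ := by group
      _ = a * ((x⁻¹ * (a⁻¹ * x * a)) * x) * x⁻¹ := by rw [hc x]
      _ = a * (x⁻¹ * (a⁻¹ * x * a)) := by group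
      _ = (x⁻¹ * (a⁻¹ * x * a)) * a := hc a

end Cfsg.Agent.S4169
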