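import Cfsg.Statements.S4365
import Mathlib
import Cfsg.Agent.S4163
import Cfsg.Agent.S4169

set_option autoImplicit false
open Cfsg

namespace Cfsg.Agent.S4365

open Cfsg.Agent.S4163 (comm_mem_center mem_cent_singleton)
open Cfsg.Agent.S4169 (exists_self_centralizing)

section aux

variable {P : Type*} [Group P]

/-- conjugating `x` by powers of `g` when `[x, g] = t` is central -/
theorem conj_pow_of_central (x g t : P) (ht : t ∈ Subgroup.center P)
    (e : g⁻¹ * x * g = x * t) (k : ℕ) : (g ^ k)⁻¹ * x * g ^ k = x * t ^ k := by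
  induction k with
  | zero => simp
  | succ k ih =>
    have hc : ∀ w : P, w * t ^ k = t ^ k * w :=
      Subgroup.mem_center_iff.mp (Subgroup.pow_mem _ ht k)
    calc (g ^ (k + 1))⁻¹ * x * g ^ (k + 1) = g⁻¹ * ((g ^ k)⁻¹ * x * g ^ k) * g := by
          rw [pow_succ]; group
      _ = g⁻¹ * (x * t ^ k) * g := by rw [ih]
      _ = g⁻¹ * x * (t ^ k * g) := by group
      _ = g⁻¹ * x * (g * t ^ k) := by rw [hc g]
      _ = (g⁻¹ * x * g) * t ^ k := by group
      _ = x * t * t ^ k := by rw [e]
      _ = x * t ^ (k + 1) := by rw [pow_succ', mul_assoc]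

end aux

/-- Let P be a finite p-group whose conjugacy class sizes are exactly 1 and pᵃ for some a ≥ 1. Then every element of P has its p-th power in the center of P (P/Z(P) has exponent p). -/
theorem result {P : Type*} [Group P] [Finite P] (p : ℕ) [Fact p.Prime]
    (hP : IsPGroup p P) (a : ℕ) (ha : 1 ≤ a)
    (hcs : {k : ℕ | ∃ x : P, (Subgroup.centralizer ({x} : Set P)).index = k} = {1, p ^ a}) (x : P) :
    x ^ p ∈ Subgroup.center P := by
  have hp : p.Prime := Fact.out
  haveI : Group.IsNilpotent P := hP.isNilpotent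
  have hidx : ∀ y : P, (Subgroup.centralizer ({y} : Set P)).index = 1 ∨
      (Subgroup.centralizer ({y} : Set P)).index = p ^ a := by
    intro y
    have : (Subgroup.centralizer ({y} : Set P)).index ∈
        {k : ℕ | ∃ x : P, (Subgroup.centralizer ({x} : Set P)).index = k} := ⟨y, rfl⟩
    rw [hcs] at this
    simpa using this
  have hm1 : 1 < p ^ a := Nat.one_lt_pow (by omega) hp.one_lt
  have hmin : ∀ y : P, 1 < (Subgroup.centralizer ({y} : Set P)).index →
      p ^ a ≤ (Subgroup.centralizer ({y} : Set P)).index := by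
    intro y hy
    rcases hidx y with h1 | h1 <;> omega
  have hcentral : ∀ y : P, (Subgroup.centralizer ({y} : Set P)).index = 1 →
      y ∈ Subgroup.center P := by
    intro y hy
    rw [Subgroup.index_eq_one] at hy
    rw [Subgroup.mem_center_iff]
    intro g
    have : g ∈ Subgroup.centralizer ({y} : Set P) := by rw [hy]; trivial
    rw [mem_cent_singleton] at this
    exact this.symm
  by_contra hxp
  have hxp' : (Subgroup.centralizer ({x ^ p} : Set P)).index = p ^ a := by
    rcases hidx (x ^ p) with h1 | h1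
    · exact absurd (hcentral _ h1) hxp
    · exact h1
  have hxnc : x ∉ Subgroup.center P := fun h => hxp (Subgroup.pow_mem _ h p)
  have hx' : (Subgroup.centralizer ({x} : Set P)).index = p ^ a := by
    rcases hidx x with h1 | h1
    · exact absurd (hcentral _ h1) hxnc
    · exact h1
  have hle : Subgroup.centralizer ({x} : Set P) ≤ Subgroup.centralizer ({x ^ p} : Set P) := by
    intro g hg
    rw [mem_cent_singleton] at hg ⊢
    exact ((Commute.pow_left (show Commute x g from hg) p)).eq
  have hge : Subgroup.centralizer ({x ^ p} : Set P) ≤ Subgroup.centralizer ({x} : Set P) := by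
    have h1 := Subgroup.relIndex_mul_index hle
    rw [hx', hxp'] at h1
    have h2 : (Subgroup.centralizer ({x} : Set P)).relIndex
        (Subgroup.centralizer ({x ^ p} : Set P)) = 1 := by
      have hpos : 0 < p ^ a := by omega
      exact Nat.eq_of_mul_eq_mul_right hpos (by rw [h1, one_mul])
    exact Subgroup.relIndex_eq_one.mp h2
  obtain ⟨A, hAn, hAc, hCA⟩ := exists_self_centralizing (P := P)
  haveI := hAn
  -- find g with central nontrivial commutator
  have hex : ∃ g t : P, t ∈ Subgroup.center P ∧ t ≠ 1 ∧ g⁻¹ * x * g = x * t := by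
    by_cases hxA : x ∈ A
    · have hnt : Subgroup.centralizer ({x} : Set P) ≠ ⊤ := by
        intro h
        rw [← Subgroup.index_eq_one, hx'] at h
        omega
      obtain ⟨g, hg⟩ : ∃ g : P, g ∉ Subgroup.centralizer ({x} : Set P) := by
        by_contra hall
        push Not at hall
        exact hnt (eq_top_iff.mpr fun g _ => hall g)
      have hgx : ¬ x * g = g * x := fun h => hg ((mem_cent_singleton x g).mpr h)
      have hgnc : g ∉ Subgroup.center P := by
        intro h
        exact hgx (Subgroup.mem_center_iff.mp h x)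
      have hg' : (Subgroup.centralizer ({g} : Set P)).index = p ^ a := by
        rcases hidx g with h1 | h1
        · exact absurd (hcentral _ h1) hgnc
        · exact h1
      have hs := comm_mem_center A hAc (p ^ a) hmin g hg' x hxA
      refine ⟨g, (g⁻¹ * (x⁻¹ * g * x))⁻¹, Subgroup.inv_mem _ hs, ?_, by group⟩
      intro h1
      rw [inv_eq_one] at h1
      apply hgx
      have : x⁻¹ * g * x = g := by
        calc x⁻¹ * g * x = g * (g⁻¹ * (x⁻¹ * g * x)) := by group
          _ = g := by rw [h1, mul_one]
      calc x * g = x * (x⁻¹ * g * x) := by rw [this]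
        _ = g * x := by group
    · obtain ⟨g, hgA, hg⟩ : ∃ g ∈ A, g ∉ Subgroup.centralizer ({x} : Set P) := by
        by_contra hall
        push Not at hall
        apply hxA
        rw [← hCA, Subgroup.mem_centralizer_iff]
        intro h hh
        have := hall h hh
        rw [mem_cent_singleton] at this
        exact this.symm
      have ht := comm_mem_center A hAc (p ^ a) hmin x hx' g hgA
      refine ⟨g, x⁻¹ * (g⁻¹ * x * g), ht, ?_, by group⟩
      intro h1
      apply hg
      rw [mem_cent_singleton]
      have : g⁻¹ * x * g = x := by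
        calc g⁻¹ * x * g = x * (x⁻¹ * (g⁻¹ * x * g)) := by group
          _ = x := by rw [h1, mul_one]
      calc x * g = g * (g⁻¹ * x * g) := by group
        _ = g * x := by rw [this]
  obtain ⟨g, t, htc, ht1, e⟩ := hex
  obtain ⟨k, hk⟩ := (IsPGroup.iff_orderOf.mp hP) t
  have hk0 : k ≠ 0 := by
    intro h
    rw [h, pow_zero, orderOf_eq_one_iff] at hk
    exact ht1 hk
  obtain ⟨j, rfl⟩ := Nat.exists_eq_succ_of_ne_zero hk0
  have htp : (t ^ p ^ j) ^ p = 1 := by
    rw [← pow_mul, ← pow_succ, ← hk]
    exact pow_orderOf_eq_one t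
  have ht' : t ^ p ^ j ≠ 1 := by
    apply pow_ne_one_of_lt_orderOf (pow_pos hp.pos j).ne'
    rw [hk]
    exact Nat.pow_lt_pow_right hp.one_lt (Nat.lt_succ_self j)
  have hconj := conj_pow_of_central x g t htc e (p ^ j)
  have hc' : ∀ w : P, w * t ^ p ^ j = t ^ p ^ j * w :=
    Subgroup.mem_center_iff.mp (Subgroup.pow_mem _ htc _)
  have hpow : (g ^ p ^ j)⁻¹ * x ^ p * g ^ p ^ j = x ^ p := by
    have h1 : (g ^ p ^ j)⁻¹ * x ^ p * g ^ p ^ j = ((g ^ p ^ j)⁻¹ * x * g ^ p ^ j) ^ p := by
      have := map_pow (MulAut.conj (g ^ p ^ j)⁻¹) x p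
      simp only [MulAut.conj_apply, inv_inv] at this
      exact this
    rw [h1, hconj, (show Commute x (t ^ p ^ j) from hc' x).mul_pow, htp, mul_one]
  have hmem : g ^ p ^ j ∈ Subgroup.centralizer ({x ^ p} : Set P) := by
    rw [mem_cent_singleton]
    calc x ^ p * g ^ p ^ j = g ^ p ^ j * ((g ^ p ^ j)⁻¹ * x ^ p * g ^ p ^ j) := by group
      _ = g ^ p ^ j * x ^ p := by rw [hpow]
  have hmem' := hge hmem
  rw [mem_cent_singleton] at hmem'
  apply ht'
  have : x * t ^ p ^ j = x := by
    rw [← hconj, mul_assoc, hmem']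
    group
  exact mul_left_cancel (this.trans (mul_one x).symm)

end Cfsg.Agent.S4365
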