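import Cfsg.Statements.S3761
import Mathlib
import Cfsg.Agent.Lib.Helper4.CyclicSC
import Cfsg.Agent.Lib.Helper4.CyclicSCp
import Cfsg.Agent.Lib.Helper35.CyclicMax
import Cfsg.Agent.Lib.Helper73.QuatRecog
import Cfsg.Agent.S0206

set_option autoImplicit false
open Cfsg

namespace Cfsg.Agent.S3761

open Cfsg.Agent.Helper4

/-- recognition of the dihedral / quaternion / semidihedral groups from the structure data -/
theorem dqsd_of_structure {P : Type*} [Group P] [Finite P] (a t : P) (n : ℕ) (hn2 : 2 ≤ n)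
    (hord : orderOf a = 2 ^ n) (ht : t ∉ Subgroup.zpowers a)
    (hF4 : ∀ g h : P, g ∉ Subgroup.zpowers a → h ∉ Subgroup.zpowers a →
      g * h ∈ Subgroup.zpowers a)
    (hact : t * a * t⁻¹ = a⁻¹ ∨ (3 ≤ n ∧ t * a * t⁻¹ = a ^ (2 ^ (n - 1) - 1)))
    (hsq : t * t = 1 ∨ t * t = a ^ (2 ^ (n - 1))) :
    Nat.card P = 2 ^ (n + 1) ∧ ((∃ m : ℕ, Nonempty (P ≃* DihedralGroup m)) ∨
      (∃ m : ℕ, Nonempty (P ≃* QuaternionGroup m)) ∨ Cfsg.IsQuasiDihedral P) := by
  have hidx : (Subgroup.zpowers a).index = 2 := by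
    rw [Subgroup.index_eq_two_iff]
    refine ⟨t, fun b => ?_⟩
    by_cases hb : b ∈ Subgroup.zpowers a
    · right
      refine ⟨hb, ?_⟩
      intro h
      apply ht
      have : t = b⁻¹ * (b * t) := by group
      rw [this]
      exact Subgroup.mul_mem _ (Subgroup.inv_mem _ hb) h
    · left
      exact ⟨hF4 b t hb ht, hb⟩
  have hcard : Nat.card P = 2 ^ (n + 1) := by
    have := (Subgroup.zpowers a).card_mul_index
    rw [hidx, Nat.card_zpowers, hord] at this
    rw [← this, pow_succ]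
  refine ⟨hcard, ?_⟩
  have ht1 : t ≠ 1 := fun h => ht (h ▸ Subgroup.one_mem _)
  have ha1 : a ≠ 1 := by
    intro h
    rw [h, orderOf_one] at hord
    have : 4 ≤ 2 ^ n := by
      calc 4 = 2 ^ 2 := by norm_num
        _ ≤ 2 ^ n := Nat.pow_le_pow_right (by norm_num) hn2
    omega
  have htaA : t * a ∉ Subgroup.zpowers a := by
    intro h
    apply ht
    have : t = (t * a) * a⁻¹ := by group
    rw [this]
    exact Subgroup.mul_mem _ h (Subgroup.inv_mem _ (Subgroup.mem_zpowers a))
  have hta1 : t * a ≠ 1 := fun h => htaA (h ▸ Subgroup.one_mem _)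
  have hn1 : n - 1 + 1 = n := by omega
  have h2n : 2 ^ n = 2 * 2 ^ (n - 1) := by
    conv_lhs => rw [← hn1]
    rw [pow_succ]; ring
  rcases hact with hinv | ⟨hn3, hsd⟩
  · -- `t` inverts `a`
    rcases hsq with htt | htt
    · -- dihedral
      left
      refine ⟨2 ^ n, ?_⟩
      have hot : orderOf t = 2 := orderOf_eq_prime (by rw [pow_two]; exact htt) ht1
      have hta2 : (t * a) * (t * a) = 1 := by
        calc (t * a) * (t * a) = (t * a * t⁻¹) * (t * t) * a := by group
          _ = 1 := by rw [hinv, htt, mul_one, inv_mul_cancel]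
      have hota : orderOf (t * a) = 2 := orderOf_eq_prime (by rw [pow_two]; exact hta2) hta1
      have hne : t ≠ t * a := by
        intro h
        apply ha1
        have : t * 1 = t * a := by rw [mul_one]; exact h
        exact (mul_left_cancel this).symm
      obtain ⟨e⟩ := Cfsg.Agent.S0206.result t (t * a) hot hota hne
      have hprod : t * (t * a) = a := by rw [← mul_assoc, htt, one_mul]
      rw [hprod, hord] at e
      have htop : Subgroup.closure ({t, t * a} : Set P) = ⊤ := by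
        rw [eq_top_iff]
        intro g _
        have htm : t ∈ Subgroup.closure ({t, t * a} : Set P) :=
          Subgroup.subset_closure (by simp)
        have htam : t * a ∈ Subgroup.closure ({t, t * a} : Set P) :=
          Subgroup.subset_closure (by simp)
        have ham : a ∈ Subgroup.closure ({t, t * a} : Set P) := by
          have h := Subgroup.mul_mem _ (Subgroup.inv_mem _ htm) htam
          rwa [inv_mul_cancel_left] at h
        have hAle : Subgroup.zpowers a ≤ Subgroup.closure ({t, t * a} : Set P) :=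
          Subgroup.zpowers_le.mpr ham
        by_cases hg : g ∈ Subgroup.zpowers a
        · exact hAle hg
        · have htinv : t⁻¹ ∉ Subgroup.zpowers a := fun h => ht (by simpa using Subgroup.inv_mem _ h)
          have := hF4 t⁻¹ g htinv hg
          have e2 : g = t * (t⁻¹ * g) := by group
          rw [e2]
          exact Subgroup.mul_mem _ htm (hAle this)
      exact ⟨(Subgroup.topEquiv.symm.trans (MulEquiv.subgroupCongr htop.symm)).trans e⟩
    · -- quaternion
      right; left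
      refine ⟨2 ^ (n - 1), ?_⟩
      haveI : NeZero (2 ^ (n - 1)) := ⟨by positivity⟩
      have ha : orderOf a = 2 * 2 ^ (n - 1) := by rw [hord, h2n]
      have ht2 : t ^ 2 = a ^ (2 ^ (n - 1)) := by rw [pow_two]; exact htt
      have hc : Nat.card P = 4 * 2 ^ (n - 1) := by rw [hcard, pow_succ, h2n]; ring
      exact Cfsg.Agent.Helper73.quat_equiv ha ht2 hinv ht hc
  · -- semidihedral action
    right; right
    rcases hsq with htt | htt
    · refine ⟨n, hn3, hcard, a, t, hord, ?_, hsd⟩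
      exact orderOf_eq_prime (by rw [pow_two]; exact htt) ht1
    · refine ⟨n, hn3, hcard, a, t * a, hord, ?_, ?_⟩
      · apply orderOf_eq_prime _ hta1
        rw [pow_two]
        have hpos : 1 ≤ 2 ^ (n - 1) := Nat.one_le_two_pow
        calc (t * a) * (t * a) = (t * a * t⁻¹) * (t * t) * a := by group
          _ = a ^ (2 ^ (n - 1) - 1) * a ^ (2 ^ (n - 1)) * a := by rw [hsd, htt]
          _ = a ^ (2 ^ (n - 1) - 1 + 2 ^ (n - 1) + 1) := by
            rw [pow_add, pow_add, pow_one]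
          _ = a ^ (2 ^ n) := by
            congr 1
            rw [h2n]; omega
          _ = 1 := by rw [← hord, pow_orderOf_eq_one]
      · rw [← hsd]; group

/-- the second alternative, from an element `t ∉ U` acting trivially on `U^p` -/
theorem second_alt {G : Type*} [Group G] [Finite G] {p : ℕ} [Fact p.Prime] (hG : IsPGroup p G)
    (U : Subgroup G) [hUn : U.Normal] (hU : IsCyclic U) (a : G) (n : ℕ) (hn2 : 2 ≤ n)
    (hn3 : p = 2 → 3 ≤ n) (hord : orderOf a = p ^ n) (hUeq : Subgroup.zpowers a = U)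
    (hC : Subgroup.centralizer (U : Set G) = U) (t : G) (htU : t ∉ U) (q₀ : ℤ)
    (hq₀ : t * a * t⁻¹ = a ^ q₀) (hq₀1 : (p ^ (n - 1) : ℤ) ∣ q₀ - 1) :
    U.relIndex (Subgroup.centralizer (Cfsg.powerClosure p 1 U : Set G)) = p ∧
    Cfsg.IsElementaryAbelian p
      (Cfsg.omegaOne p (Subgroup.centralizer (Cfsg.powerClosure p 1 U : Set G))) ∧
    Nat.card ↥(Cfsg.omegaOne p (Subgroup.centralizer (Cfsg.powerClosure p 1 U : Set G))) = p ^ 2 ∧
    (Cfsg.omegaOne p (Subgroup.centralizer (Cfsg.powerClosure p 1 U : Set G))).Characteristic := by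
  classical
  have hp : p.Prime := Fact.out
  have haU : a ∈ U := by rw [← hUeq]; exact Subgroup.mem_zpowers a
  have hUz : ∀ y ∈ U, ∃ j : ℤ, a ^ j = y := by
    intro y hy
    rw [← hUeq] at hy
    exact Subgroup.mem_zpowers_iff.mp hy
  have hdvd := zpow_eq_one_iff_of_orderOf_pow hord
  have hcent : ∀ h : G, h * a = a * h → h ∈ U := by
    intro h hh
    rw [← hC, Subgroup.mem_centralizer_iff]
    intro y hy
    obtain ⟨j, rfl⟩ := hUz y hy
    exact ((Commute.zpow_right (show Commute h a from hh) j).eq).symm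
  have hconj : ∀ h : G, ∃ q : ℤ, h * a * h⁻¹ = a ^ q := by
    intro h
    obtain ⟨q, hq⟩ := hUz _ (hUn.conj_mem a haU h)
    exact ⟨q, hq.symm⟩
  have hcomm_of : ∀ h : G, h * a * h⁻¹ = a → h ∈ U := by
    intro h hh
    apply hcent
    calc h * a = (h * a * h⁻¹) * h := by group
      _ = a * h := by rw [hh]
  have hUcomm : ∀ h ∈ U, h * a * h⁻¹ = a := by
    intro h hh
    obtain ⟨j, rfl⟩ := hUz h hh
    rw [← zpow_add_one, ← zpow_sub]
    simp
  -- the subgroup `M`
  obtain ⟨M, hMdef⟩ : ∃ M, M = Subgroup.centralizer (Cfsg.powerClosure p 1 U : Set G) := ⟨_, rfl⟩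
  rw [← hMdef]
  have hpc : Cfsg.powerClosure p 1 U ≤ Subgroup.zpowers (a ^ p) := by
    unfold Cfsg.powerClosure
    rw [Subgroup.closure_le]
    rintro y ⟨x, hx, rfl⟩
    obtain ⟨j, rfl⟩ := hUz x hx
    rw [pow_one, SetLike.mem_coe, Subgroup.mem_zpowers_iff]
    refine ⟨j, ?_⟩
    rw [← zpow_natCast, ← zpow_natCast, ← zpow_mul, ← zpow_mul, mul_comm]
  have hap : a ^ p ∈ Cfsg.powerClosure p 1 U :=
    Subgroup.subset_closure ⟨a, haU, by rw [pow_one]⟩
  have hMiff : ∀ h : G, h ∈ M ↔ h * a ^ p * h⁻¹ = a ^ p := by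
    intro h
    rw [hMdef, Subgroup.mem_centralizer_iff]
    constructor
    · intro hh
      have := hh (a ^ p) hap
      rw [← this]; group
    · intro hh y hy
      obtain ⟨j, rfl⟩ := Subgroup.mem_zpowers_iff.mp (hpc hy)
      have hc : Commute h (a ^ p) := by
        show h * a ^ p = a ^ p * h
        calc h * a ^ p = (h * a ^ p * h⁻¹) * h := by group
          _ = a ^ p * h := by rw [hh]
      exact ((hc.zpow_right j).eq).symm
  have e2 : (p ^ n : ℤ) = p ^ (n - 1) * p := by
    rw [← pow_succ]; congr 1; omega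
  have hp0 : (p : ℤ) ≠ 0 := by exact_mod_cast hp.ne_zero
  have hMq : ∀ (h : G) (q : ℤ), h * a * h⁻¹ = a ^ q → (h ∈ M ↔ (p ^ (n - 1) : ℤ) ∣ q - 1) := by
    intro h q hq
    rw [hMiff]
    have e1 : h * a ^ p * h⁻¹ = a ^ (q * p) := by
      rw [← zpow_natCast, conj_zpow_of_conj hq]
    rw [e1]
    have e3 : q * (p : ℤ) - p = (q - 1) * p := by ring
    constructor
    · intro h1
      have : a ^ (q * p - p) = 1 := by rw [zpow_sub, zpow_natCast, h1, mul_inv_cancel]
      rw [hdvd, e2, e3] at this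
      exact (mul_dvd_mul_iff_right hp0).mp this
    · intro h1
      rw [← zpow_natCast a p]
      apply zpow_eq_zpow_of_dvd_sub hord
      rw [e2, e3]
      exact mul_dvd_mul_right h1 _
  have htM : t ∈ M := (hMq t q₀ hq₀).mpr hq₀1
  have hM' : ∀ h : G, h ∈ M → ∃ q : ℤ, h * a * h⁻¹ = a ^ q ∧ (p ^ (n - 1) : ℤ) ∣ q - 1 := by
    intro h hh
    obtain ⟨q, hq⟩ := hconj h
    exact ⟨q, hq, (hMq h q hq).mp hh⟩
  have hA1 : U.relIndex M = p :=
    relIndex_eq_prime_of_modular U a n hn2 hord hcomm_of hUcomm M hM' t htM htU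
  refine ⟨hA1, ?_⟩
  have hUM : U ≤ M := by
    intro u hu
    have h1 := hUcomm u hu
    apply (hMq u 1 (by rw [zpow_one]; exact h1)).mpr
    simp
  have haM : a ∈ M := hUM haU
  -- `M` is normal
  have hMn : M.Normal := by
    refine ⟨fun h hh g => ?_⟩
    rw [hMiff] at hh ⊢
    obtain ⟨q', hq'⟩ := hconj g⁻¹
    have e1 : g⁻¹ * a ^ p * g = a ^ (q' * p) := by
      have := conj_zpow_of_conj hq' (p : ℤ)
      rw [inv_inv, zpow_natCast] at this
      exact this
    have e4 : h * a ^ (q' * (p : ℤ)) * h⁻¹ = a ^ (q' * (p : ℤ)) := by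
      have : a ^ (q' * (p : ℤ)) = (a ^ p) ^ q' := by rw [mul_comm, zpow_mul, zpow_natCast]
      rw [this, ← conj_zpow, hh]
    calc g * h * g⁻¹ * a ^ p * (g * h * g⁻¹)⁻¹
        = g * (h * (g⁻¹ * a ^ p * g) * h⁻¹) * g⁻¹ := by group
      _ = g * (g⁻¹ * a ^ p * g) * g⁻¹ := by rw [e1, e4]
      _ = a ^ p := by group
  -- the subgroup `W`
  have hW : ∃ W : Subgroup G, (∀ x : G, x ∈ W ↔ x ∈ M ∧ x ^ p = 1) ∧ Nat.card W = p ^ 2 := by
    by_cases hp2 : p = 2
    · subst hp2
      have hq2 : ¬ ((2 : ℤ) ^ n ∣ q₀ - 1) := by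
        intro h
        apply htU
        apply hcomm_of
        rw [hq₀]
        have := zpow_eq_zpow_of_dvd_sub hord q₀ 1 (by push_cast; exact h)
        rw [this, zpow_one]
      have hq3 : ((2 : ℤ) ^ n ∣ q₀ - 1 - 2 ^ (n - 1)) := by
        obtain ⟨k, rfl⟩ : ∃ k, n = k + 1 := ⟨n - 1, by omega⟩
        simp only [Nat.add_sub_cancel] at hq₀1 ⊢
        push_cast at hq₀1
        rcases split_lemma k _ hq₀1 with h | h
        · exact absurd h hq2
        · exact h
      obtain ⟨z, e, hzz, hee, hze, hz1, he1, hzne, hmem⟩ :=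
        modular_involutions U a n (hn3 rfl) hord hUeq hcent t htU q₀ hq₀ hq3
      refine ⟨fourSub z e hzz hee hze, ?_, ?_⟩
      · intro x
        rw [← hmem x, pow_two]
        constructor
        · rintro ⟨h1, q, hq, hq1⟩
          exact ⟨(hMq x q hq).mpr (by push_cast; exact hq1), h1⟩
        · rintro ⟨h1, h2⟩
          obtain ⟨q, hq⟩ := hconj x
          have := (hMq x q hq).mp h1
          push_cast at this
          exact ⟨h2, q, hq, this⟩
      · rw [card_fourSub hzz hee hze hz1 he1 hzne]; norm_num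
    · have hR : IsPGroup p ↥M := hG.to_subgroup M
      have hnc : ¬ IsCyclic ↥M := by
        intro hcyc
        obtain ⟨g, hg⟩ := hcyc.exists_generator
        obtain ⟨i, hi⟩ := Subgroup.mem_zpowers_iff.mp (hg ⟨t, htM⟩)
        obtain ⟨j, hj⟩ := Subgroup.mem_zpowers_iff.mp (hg ⟨a, haM⟩)
        have h1 : (⟨t, htM⟩ : ↥M) * ⟨a, haM⟩ = ⟨a, haM⟩ * ⟨t, htM⟩ := by
          rw [← hi, ← hj, ← zpow_add, ← zpow_add, add_comm]
        have h2 := congrArg Subtype.val h1
        exact htU (hcent t h2)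
      have hCcyc : IsCyclic ↥(U.subgroupOf M) :=
        (Subgroup.subgroupOfEquivOfLe hUM).isCyclic.mpr hU
      obtain ⟨K, hK, hKc⟩ := Cfsg.Agent.Helper35.omega_card_of_cyclic_index_p hp2 hR hnc
        (U.subgroupOf M) hCcyc hA1
      refine ⟨K.map M.subtype, ?_, ?_⟩
      · intro x
        rw [Subgroup.mem_map]
        constructor
        · rintro ⟨y, hy, rfl⟩
          refine ⟨y.2, ?_⟩
          have h1 := (hK y).mp hy
          have h2 := congrArg Subtype.val h1
          simpa using h2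
        · rintro ⟨hx, hxp⟩
          refine ⟨⟨x, hx⟩, (hK _).mpr (Subtype.ext ?_), rfl⟩
          simpa using hxp
      · rw [Subgroup.card_map_of_injective M.subtype_injective, hKc]
  obtain ⟨W, hWmem, hWcard⟩ := hW
  have hΩ : Cfsg.omegaOne p M = W := by
    unfold Cfsg.omegaOne
    have : {x : G | x ∈ M ∧ x ^ p = 1} = (W : Set G) := by
      ext x; exact (hWmem x).symm
    rw [this, Subgroup.closure_eq]
  rw [hΩ]
  have hcommW := IsPGroup.commutative_of_card_eq_prime_sq hWcard
  refine ⟨⟨⟨⟨fun x y => hcommW x y⟩⟩, fun x hx => ((hWmem x).mp hx).2⟩, hWcard, ?_⟩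
  -- characteristic
  have hWn : W.Normal := by
    refine ⟨fun x hx g => ?_⟩
    rw [hWmem] at hx ⊢
    exact ⟨hMn.conj_mem x hx.1 g, by rw [conj_pow, hx.2, mul_one, mul_inv_cancel]⟩
  rw [Subgroup.characteristic_iff_map_le]
  intro φ y hy
  obtain ⟨w, hw, rfl⟩ := Subgroup.mem_map.mp hy
  rw [hWmem]
  have hw' := (hWmem w).mp hw
  refine ⟨?_, ?_⟩
  · rw [hMiff]
    haveI : (W.map φ.toMonoidHom).Normal := hWn.map φ.toMonoidHom φ.surjective
    have hc : Nat.card (W.map φ.toMonoidHom) = p ^ 2 := by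
      rw [Subgroup.card_map_of_injective φ.injective, hWcard]
    have := pow_prime_comm_of_normal_card_sq hG (W.map φ.toMonoidHom) hc (φ.toMonoidHom w)
      (Subgroup.mem_map_of_mem _ hw) a
    calc φ.toMonoidHom w * a ^ p * (φ.toMonoidHom w)⁻¹
        = (a ^ p * φ.toMonoidHom w) * (φ.toMonoidHom w)⁻¹ := by rw [this]
      _ = a ^ p := by group
  · rw [← map_pow, hw'.2, map_one]

/-- Let G be a finite non-abelian p-group with a cyclic normal subgroup U of order p^n such that C_G(U) = U. Then either p = 2 and G is dihedral, generalized quaternion or semidihedral of order 2^(n+1); or, writing U₁ for the subgroup generated by the p-th powers of elements of U and M = C_G(U₁), the subgroup U has index p in M and the subgroup Ω₁(M) generated by the elements of M of order dividing p is elementary abelian of order p² and characteristic in G. -/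
theorem result {G : Type*} [Group G] [Finite G] {p : ℕ} [Fact p.Prime] (hG : IsPGroup p G) (hna : ¬ IsMulCommutative G) (U : Subgroup G) [U.Normal] (hU : IsCyclic U) (n : ℕ) (hUn : Nat.card U = p ^ n) (hC : Subgroup.centralizer (U : Set G) = U) : (p = 2 ∧ Nat.card G = 2 ^ (n + 1) ∧ ((∃ m : ℕ, Nonempty (G ≃* DihedralGroup m)) ∨ (∃ m : ℕ, Nonempty (G ≃* QuaternionGroup m)) ∨ Cfsg.IsQuasiDihedral G)) ∨ (U.relIndex (Subgroup.centralizer (Cfsg.powerClosure p 1 U : Set G)) = p ∧ Cfsg.IsElementaryAbelian p (Cfsg.omegaOne p (Subgroup.centralizer (Cfsg.powerClosure p 1 U : Set G))) ∧ Nat.card ↥(Cfsg.omegaOne p (Subgroup.centralizer (Cfsg.powerClosure p 1 U : Set G))) = p ^ 2 ∧ (Cfsg.omegaOne p (Subgroup.centralizer (Cfsg.powerClosure p 1 U : Set G))).Characteristic) := by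
  classical
  have hp : p.Prime := Fact.out
  have hUn' : U.Normal := inferInstance
  obtain ⟨a₀, ha₀⟩ := hU.exists_generator
  obtain ⟨a, haa₀⟩ : ∃ a : G, a = (a₀ : G) := ⟨_, rfl⟩
  have haU : a ∈ U := by rw [haa₀]; exact a₀.2
  have hUz' : ∀ y ∈ U, y ∈ Subgroup.zpowers a := by
    intro y hy
    obtain ⟨j, hj⟩ := Subgroup.mem_zpowers_iff.mp (ha₀ ⟨y, hy⟩)
    refine ⟨j, ?_⟩
    have := congrArg Subtype.val hj
    rw [haa₀]
    simpa using this
  have hUeq : Subgroup.zpowers a = U := le_antisymm (Subgroup.zpowers_le.mpr haU) hUz'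
  have hord : orderOf a = p ^ n := by rw [← Nat.card_zpowers, hUeq, hUn]
  have hUz : ∀ y ∈ U, ∃ j : ℤ, a ^ j = y := by
    intro y hy
    exact Subgroup.mem_zpowers_iff.mp (hUz' y hy)
  have hdvd := zpow_eq_one_iff_of_orderOf_pow hord
  have hcent : ∀ h : G, h * a = a * h → h ∈ U := by
    intro h hh
    rw [← hC, Subgroup.mem_centralizer_iff]
    intro y hy
    obtain ⟨j, rfl⟩ := hUz y hy
    exact ((Commute.zpow_right (show Commute h a from hh) j).eq).symm
  have hconj : ∀ h : G, ∃ q : ℤ, h * a * h⁻¹ = a ^ q := by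
    intro h
    obtain ⟨q, hq⟩ := hUz _ (hUn'.conj_mem a haU h)
    exact ⟨q, hq.symm⟩
  have hcomm_of : ∀ h : G, h * a * h⁻¹ = a → h ∈ U := by
    intro h hh
    apply hcent
    calc h * a = (h * a * h⁻¹) * h := by group
      _ = a * h := by rw [hh]
  have hUcomm : ∀ h ∈ U, h * a * h⁻¹ = a := by
    intro h hh
    obtain ⟨j, rfl⟩ := hUz h hh
    rw [← zpow_add_one, ← zpow_sub]
    simp
  -- an element outside `U`
  have hex : ∃ t : G, t ∉ U := by
    by_contra hall
    push Not at hall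
    apply hna
    refine ⟨⟨fun x y => ?_⟩⟩
    obtain ⟨i, rfl⟩ := hUz x (hall x)
    obtain ⟨j, rfl⟩ := hUz y (hall y)
    rw [← zpow_add, ← zpow_add, add_comm]
  obtain ⟨t₀, ht₀⟩ := hex
  by_cases hp2 : p = 2
  · subst hp2
    by_cases hmod : ∃ g : G, g ∉ U ∧ ∃ r : ℤ, g * a * g⁻¹ = a ^ r ∧ 3 ≤ n ∧
        (2 ^ n : ℤ) ∣ r - 1 - 2 ^ (n - 1)
    · obtain ⟨g, hg, r, hr, hn3, hr'⟩ := hmod
      right
      refine second_alt hG U hU a n (by omega) (fun _ => hn3) hord hUeq hC g hg r hr ?_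
      push_cast
      obtain ⟨c, hc⟩ := hr'
      refine ⟨1 + 2 * c, ?_⟩
      have h2n : (2 : ℤ) ^ n = 2 * 2 ^ (n - 1) := by
        obtain ⟨k, rfl⟩ : ∃ k, n = k + 1 := ⟨n - 1, by omega⟩
        simp only [Nat.add_sub_cancel]
        ring
      have : r - 1 = 2 ^ (n - 1) + 2 ^ n * c := by linarith
      rw [this, h2n]; ring
    · left
      have hnomod : ∀ g : G, g ∉ U → ∀ r : ℤ, g * a * g⁻¹ = a ^ r → 3 ≤ n →
          ¬ (2 ^ n : ℤ) ∣ r - 1 - 2 ^ (n - 1) :=
        fun g hg r hr hn3 h => hmod ⟨g, hg, r, hr, hn3, h⟩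
      obtain ⟨hn2, hF4, hact, hsq⟩ :=
        structure_of_cyclic_sc hG U a n hord hUeq hC.le t₀ ht₀ hnomod
      have := dqsd_of_structure a t₀ n hn2 hord (by rwa [hUeq]) (by rw [hUeq]; exact hF4) hact hsq
      exact ⟨rfl, this.1, this.2⟩
  · right
    -- an element `h'` outside `U` with `h'^p ∈ U`
    obtain ⟨k, hk⟩ := IsPGroup.iff_orderOf.mp hG t₀
    have hex : ∃ j : ℕ, t₀ ^ p ^ j ∈ U := ⟨k, by rw [← hk, pow_orderOf_eq_one]; exact one_mem _⟩
    have hj0 : Nat.find hex ≠ 0 := by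
      intro h0
      have := Nat.find_spec hex
      rw [h0, pow_zero, pow_one] at this
      exact ht₀ this
    obtain ⟨j, hj⟩ : ∃ j, Nat.find hex = j + 1 := ⟨Nat.find hex - 1, by omega⟩
    obtain ⟨h', hh'⟩ : ∃ h', h' = t₀ ^ p ^ j := ⟨_, rfl⟩
    have h'U : h' ∉ U := by
      rw [hh']
      exact Nat.find_min hex (m := j) (by omega)
    have h'p : h' ^ p ∈ U := by
      have := Nat.find_spec hex
      rw [hj, pow_succ, pow_mul, ← hh'] at this
      exact this
    obtain ⟨q, hq⟩ := hconj h'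
    have e1 : h' ^ p * a * (h' ^ p)⁻¹ = a ^ (q ^ p) :=
      Cfsg.Agent.Helper35.conj_pow_zpow a h' q hq p
    have e2 : h' ^ p * a * (h' ^ p)⁻¹ = a := hUcomm _ h'p
    have h1 : (p ^ n : ℤ) ∣ q ^ p - 1 := by
      rw [← hdvd, zpow_sub, zpow_one, ← e1, e2, mul_inv_cancel]
    have hn1 : 1 ≤ n := by
      by_contra hlt
      have hn0 : n = 0 := by omega
      rw [hn0, pow_zero, orderOf_eq_one_iff] at hord
      apply h'U
      apply hcomm_of
      rw [hord, mul_one, mul_inv_cancel]
    obtain ⟨h2, h3⟩ := Cfsg.Agent.Helper35.nt_key hp hp2 n hn1 q h1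
    have hn2 : 2 ≤ n := by
      by_contra hlt
      have hn' : n = 1 := by omega
      apply h'U
      apply hcomm_of
      rw [hq]
      have := zpow_eq_zpow_of_dvd_sub hord q 1 (by rw [hn', pow_one]; exact h2)
      rw [this, zpow_one]
    exact second_alt hG U hU a n hn2 (fun h => absurd h hp2) hord hUeq hC h' h'U q hq h3

end Cfsg.Agent.S3761
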