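import Cfsg.Statements.S3762
import Mathlib
import Cfsg.Agent.S3761
import Cfsg.Agent.Lib.Helper83.OrderP3
import Cfsg.Agent.Lib.Helper63.HeisES
import Cfsg.Agent.Lib.Helper63.Extraspecial
import Cfsg.Agent.Lib.Helper47.Frat
import Cfsg.Agent.Lib.Helper2.PGroup
import Cfsg.Agent.Lib.Helper87.Critical

set_option autoImplicit false
set_option linter.unusedSectionVars false
open Cfsg

namespace Cfsg.Agent.S3762

open scoped commutatorElement

/-! ### Part 1: counting commuting pairs -/

section pairing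

variable {X : Type*} [Group X]

theorem comm_mul_right_of_central {a b₁ b₂ : X} (h : ⁅a, b₂⁆ * b₁ = b₁ * ⁅a, b₂⁆) :
    ⁅a, b₁ * b₂⁆ = ⁅a, b₁⁆ * ⁅a, b₂⁆ := by
  have h1 : ⁅a, b₁ * b₂⁆ = ⁅a, b₁⁆ * (b₁ * ⁅a, b₂⁆ * b₁⁻¹) := by
    simp only [commutatorElement_def]; group
  rw [h1, ← h]; group

theorem comm_eq_one_iff {a b : X} : ⁅a, b⁆ = 1 ↔ a * b = b * a := by
  rw [commutatorElement_def]
  constructor
  · intro h
    have : a * b = (a * b * a⁻¹ * b⁻¹) * (b * a) := by group
    rw [this, h, one_mul]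
  · intro h
    have : a * b * a⁻¹ * b⁻¹ = (a * b) * (b * a)⁻¹ := by group
    rw [this, h, mul_inv_cancel]

/-- half of the count: for `a` centralizing `B`. -/
theorem half_count_central (B : Subgroup X) (a : X)
    (hc : a ∈ Subgroup.centralizer (B : Set X)) :
    Nat.card {b : B // a * (b : X) = (b : X) * a} = Nat.card B := by
  have hall : ∀ b : B, a * (b : X) = (b : X) * a := by
    intro b
    rw [Subgroup.mem_centralizer_iff] at hc
    exact (hc b b.2).symm
  exact Nat.card_congr (Equiv.subtypeUnivEquiv hall)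

/-- half of the count: for `a` not centralizing `B`. -/
theorem half_count_noncentral [Finite X] {p : ℕ} [hp : Fact p.Prime] (B T : Subgroup X)
    (hT : Nat.card T = p)
    (a : X) (hcomm : ∀ b ∈ B, ⁅a, b⁆ ∈ T) (hTB : ∀ t ∈ T, ∀ b ∈ B, t * b = b * t)
    (hc : a ∉ Subgroup.centralizer (B : Set X)) :
    p * Nat.card {b : B // a * (b : X) = (b : X) * a} = Nat.card B := by
  classical
  -- the homomorphism b ↦ ⁅a, b⁆
  let φ : B →* T :=
    { toFun := fun b => ⟨⁅a, (b : X)⁆, hcomm b b.2⟩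
      map_one' := by
        apply Subtype.ext
        simp [commutatorElement_def]
      map_mul' := by
        intro b₁ b₂
        apply Subtype.ext
        simp only [Subgroup.coe_mul]
        exact comm_mul_right_of_central (hTB _ (hcomm b₂ b₂.2) b₁ b₁.2) }
  have hker : ∀ b : B, b ∈ φ.ker ↔ a * (b : X) = (b : X) * a := by
    intro b
    rw [MonoidHom.mem_ker]
    constructor
    · intro h
      have := congrArg Subtype.val h
      exact comm_eq_one_iff.1 this
    · intro h
      apply Subtype.ext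
      exact comm_eq_one_iff.2 h
  have hrange : φ.range = ⊤ := by
    have hne : φ.range ≠ ⊥ := by
      intro h
      apply hc
      rw [Subgroup.mem_centralizer_iff]
      intro b hb
      have h1 : φ ⟨b, hb⟩ ∈ φ.range := ⟨_, rfl⟩
      rw [h, Subgroup.mem_bot] at h1
      have := (hker ⟨b, hb⟩).1 (MonoidHom.mem_ker.2 h1)
      exact this.symm
    have : Fact (Nat.card T).Prime := ⟨by rw [hT]; exact hp.out⟩
    rcases Subgroup.eq_bot_or_eq_top_of_prime_card φ.range with h | h
    · exact absurd h hne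
    · exact h
  have h1 := Subgroup.card_mul_index φ.ker
  rw [Subgroup.index_ker, hrange, Subgroup.card_top, hT] at h1
  have h2 : Nat.card {b : B // a * (b : X) = (b : X) * a} = Nat.card φ.ker := by
    apply Nat.card_congr
    exact (Equiv.subtypeEquivRight hker).symm
  rw [h2, ← h1]; ring

theorem card_subtype_mem_eq_card_inf (A K : Subgroup X) :
    Nat.card {a : A // (a : X) ∈ K} = Nat.card (A ⊓ K : Subgroup X) := by
  apply Nat.card_congr
  exact
    { toFun := fun a => ⟨a.1.1, a.1.2, a.2⟩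
      invFun := fun x => ⟨⟨x.1, x.2.1⟩, x.2.2⟩
      left_inv := fun a => rfl
      right_inv := fun x => rfl }

theorem sum_half [Finite X] {p : ℕ} [hp : Fact p.Prime] (A B T : Subgroup X) (hT : Nat.card T = p)
    (hcomm : ∀ a ∈ A, ∀ b ∈ B, ⁅a, b⁆ ∈ T) (hTB : ∀ t ∈ T, ∀ b ∈ B, t * b = b * t) :
    p * Nat.card {q : A × B // (q.1 : X) * (q.2 : X) = (q.2 : X) * (q.1 : X)} =
      Nat.card A * Nat.card B +
        (p - 1) * Nat.card B * Nat.card (A ⊓ Subgroup.centralizer (B : Set X) : Subgroup X) := by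
  classical
  have : Fintype A := Fintype.ofFinite A
  have : Fintype B := Fintype.ofFinite B
  have hp1 : 1 ≤ p := hp.out.one_lt.le
  have e : {q : A × B // (q.1 : X) * (q.2 : X) = (q.2 : X) * (q.1 : X)} ≃
      Σ a : A, {b : B // (a : X) * (b : X) = (b : X) * (a : X)} :=
    { toFun := fun q => ⟨q.1.1, ⟨q.1.2, q.2⟩⟩
      invFun := fun s => ⟨(s.1, s.2.1), s.2.2⟩
      left_inv := fun q => rfl
      right_inv := fun s => rfl }
  have h1 : Nat.card {q : A × B // (q.1 : X) * (q.2 : X) = (q.2 : X) * (q.1 : X)} =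
      ∑ a : A, Nat.card {b : B // (a : X) * (b : X) = (b : X) * (a : X)} := by
    rw [Nat.card_congr e, Nat.card_eq_fintype_card, Fintype.card_sigma]
    apply Finset.sum_congr rfl
    intro a _
    rw [Nat.card_eq_fintype_card]
  rw [h1, Finset.mul_sum]
  have h2 : ∀ a : A, p * Nat.card {b : B // (a : X) * (b : X) = (b : X) * (a : X)} =
      Nat.card B + (if (a : X) ∈ Subgroup.centralizer (B : Set X) then (p - 1) * Nat.card B else 0) := by
    intro a
    by_cases hc : (a : X) ∈ Subgroup.centralizer (B : Set X)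
    · rw [if_pos hc, half_count_central B a hc]
      have : p = (p - 1) + 1 := by omega
      nlinarith
    · rw [if_neg hc, add_zero]
      exact half_count_noncentral B T hT a (hcomm a a.2) hTB hc
  simp_rw [h2]
  rw [Finset.sum_add_distrib, Finset.sum_const, Finset.card_univ, smul_eq_mul,
    ← Finset.sum_filter, Finset.sum_const, smul_eq_mul, ← Nat.card_eq_fintype_card]
  have h3 : (Finset.univ.filter (fun a : A => (a : X) ∈ Subgroup.centralizer (B : Set X))).card =
      Nat.card (A ⊓ Subgroup.centralizer (B : Set X) : Subgroup X) := by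
    rw [← card_subtype_mem_eq_card_inf, Nat.card_eq_fintype_card, Fintype.card_subtype]
  rw [h3]; ring

/-- the pairing count -/
theorem pairing_count [Finite X] {p : ℕ} [hp : Fact p.Prime] (A B T : Subgroup X) (hT : Nat.card T = p)
    (hcomm : ∀ a ∈ A, ∀ b ∈ B, ⁅a, b⁆ ∈ T)
    (hTA : ∀ t ∈ T, ∀ a ∈ A, t * a = a * t) (hTB : ∀ t ∈ T, ∀ b ∈ B, t * b = b * t) :
    Nat.card (A ⊓ Subgroup.centralizer (B : Set X) : Subgroup X) * Nat.card B =
      Nat.card (B ⊓ Subgroup.centralizer (A : Set X) : Subgroup X) * Nat.card A := by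
  have h1 := sum_half A B T hT hcomm hTB
  have hcomm' : ∀ b ∈ B, ∀ a ∈ A, ⁅b, a⁆ ∈ T := by
    intro b hb a ha
    rw [← commutatorElement_inv]
    exact T.inv_mem (hcomm a ha b hb)
  have h2 := sum_half B A T hT hcomm' hTA
  have h3 : Nat.card {q : A × B // (q.1 : X) * (q.2 : X) = (q.2 : X) * (q.1 : X)} =
      Nat.card {q : B × A // (q.1 : X) * (q.2 : X) = (q.2 : X) * (q.1 : X)} := by
    apply Nat.card_congr
    exact
      { toFun := fun q => ⟨(q.1.2, q.1.1), q.2.symm⟩
        invFun := fun q => ⟨(q.1.2, q.1.1), q.2.symm⟩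
        left_inv := fun q => rfl
        right_inv := fun q => rfl }
  rw [h3, h2] at h1
  have hp2 : 2 ≤ p := hp.out.two_le
  obtain ⟨m, hm⟩ : ∃ m, p - 1 = m + 1 := ⟨p - 2, by omega⟩
  rw [hm] at h1
  have h4 : (m + 1) * (Nat.card (A ⊓ Subgroup.centralizer (B : Set X) : Subgroup X) * Nat.card B) =
      (m + 1) * (Nat.card (B ⊓ Subgroup.centralizer (A : Set X) : Subgroup X) * Nat.card A) := by
    nlinarith
  exact Nat.eq_of_mul_eq_mul_left (Nat.succ_pos m) h4

end pairing

/-! ### Part 2: a criterion for extraspecial groups, and small general facts -/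

section crit

theorem isExtraspecial_of_crit {E : Type*} [Group E] [Finite E] {p : ℕ} [hp : Fact p.Prime]
    (hE : IsPGroup p E) (T : Subgroup E) (hT : Nat.card T = p) (hTZ : T ≤ Subgroup.center E)
    (hZT : Subgroup.center E ≤ T) (hcomm : ∀ x y : E, ⁅x, y⁆ ∈ T) (hpow : ∀ x : E, x ^ p ∈ T)
    (hna : ∃ x y : E, x * y ≠ y * x) : Cfsg.IsExtraspecial p E := by
  have hcen : Subgroup.center E = T := le_antisymm hZT hTZ
  have hcomle : commutator E ≤ T := by
    rw [commutator_def, Subgroup.commutator_le]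
    intro x _ y _
    exact hcomm x y
  have hcomne : commutator E ≠ ⊥ := by
    intro h
    obtain ⟨x, y, hxy⟩ := hna
    apply hxy
    have h1 : ⁅x, y⁆ ∈ commutator E := by
      rw [commutator_def]
      exact Subgroup.commutator_mem_commutator (Subgroup.mem_top x) (Subgroup.mem_top y)
    rw [h, Subgroup.mem_bot] at h1
    exact comm_eq_one_iff.1 h1
  have hcomT : commutator E = T := by
    have hdvd : Nat.card (commutator E) ∣ p := by
      rw [← hT]; exact Subgroup.card_dvd_of_le hcomle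
    rcases (Nat.dvd_prime hp.out).1 hdvd with h | h
    · exact absurd (Subgroup.card_eq_one.1 h) hcomne
    · exact Subgroup.eq_of_le_of_card_ge hcomle (by rw [h, hT])
  have hTn : T.Normal := by
    rw [← hcen]; infer_instance
  have hfr1 : frattini E ≤ T := by
    have := Cfsg.Agent.Helper47.frattini_le_ker_of_elementary (p := p) (QuotientGroup.mk' T)
      (by
        intro x y
        have h1 : ((⁅x, y⁆ : E) : E ⧸ T) = 1 := (QuotientGroup.eq_one_iff _).2 (hcomm x y)
        rw [commutatorElement_def] at h1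
        simp only [QuotientGroup.mk'_apply]
        have h2 : (x : E ⧸ T) * (y : E ⧸ T) * (x : E ⧸ T)⁻¹ * (y : E ⧸ T)⁻¹ = 1 := by
          simpa using h1
        calc (x : E ⧸ T) * (y : E ⧸ T)
            = ((x : E ⧸ T) * (y : E ⧸ T) * (x : E ⧸ T)⁻¹ * (y : E ⧸ T)⁻¹) *
                ((y : E ⧸ T) * (x : E ⧸ T)) := by group
          _ = (y : E ⧸ T) * (x : E ⧸ T) := by rw [h2, one_mul])
      (by
        intro x
        simp only [QuotientGroup.mk'_apply]
        have := (QuotientGroup.eq_one_iff (N := T) (x ^ p)).2 (hpow x)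
        simpa using this)
    rwa [QuotientGroup.ker_mk'] at this
  have hfr2 : T ≤ frattini E := by
    rw [← hcomT]
    exact Cfsg.Agent.Helper2.commutator_le_frattini hE
  refine ⟨⟨hE, ?_, ?_⟩, ?_⟩
  · rw [hcen]; exact le_antisymm hfr1 hfr2
  · rw [hcen]; exact hcomT
  · rw [hcen]; exact hT

theorem characteristic_closure {G : Type*} [Group G] (S : Set G)
    (hS : ∀ φ : G ≃* G, ∀ x ∈ S, φ x ∈ S) : (Subgroup.closure S).Characteristic := by
  rw [Subgroup.characteristic_iff_map_le]
  intro φ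
  rw [MonoidHom.map_closure, Subgroup.closure_le]
  rintro _ ⟨x, hx, rfl⟩
  exact Subgroup.subset_closure (hS φ x hx)

theorem char_mem {G : Type*} [Group G] {K : Subgroup G} (hK : K.Characteristic) (φ : G ≃* G) {x : G}
    (hx : x ∈ K) : φ x ∈ K :=
  (Subgroup.characteristic_iff_map_le.1 hK φ) ⟨x, hx, rfl⟩

theorem omegaOne_characteristic {G : Type*} [Group G] (p : ℕ) {K : Subgroup G} (hK : K.Characteristic) :
    (Cfsg.omegaOne p K).Characteristic := by
  unfold Cfsg.omegaOne
  apply characteristic_closure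
  rintro φ x ⟨hx, hxp⟩
  exact ⟨char_mem hK φ hx, by rw [← map_pow, hxp, map_one]⟩

theorem powerClosure_characteristic {G : Type*} [Group G] (p n : ℕ) {K : Subgroup G}
    (hK : K.Characteristic) : (Cfsg.powerClosure p n K).Characteristic := by
  unfold Cfsg.powerClosure
  apply characteristic_closure
  rintro φ y ⟨x, hx, rfl⟩
  exact ⟨φ x, char_mem hK φ hx, by rw [map_pow]⟩

theorem map_omegaOne {G : Type*} [Group G] (p : ℕ) (R : Subgroup G) (K : Subgroup R) :
    (Cfsg.omegaOne p K).map R.subtype = Cfsg.omegaOne p (K.map R.subtype) := by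
  unfold Cfsg.omegaOne
  rw [MonoidHom.map_closure]
  congr 1
  ext y
  constructor
  · rintro ⟨x, ⟨hx, hxp⟩, rfl⟩
    refine ⟨⟨x, hx, rfl⟩, ?_⟩
    have := congrArg Subtype.val hxp
    simpa using this
  · rintro ⟨⟨x, hx, rfl⟩, hxp⟩
    refine ⟨x, ⟨hx, ?_⟩, rfl⟩
    apply Subtype.ext
    simpa using hxp

/-- a cyclic group of exponent `p` has at most `p` elements -/
theorem card_le_of_cyclic_of_exp {A : Type*} [Group A] [Finite A] [IsCyclic A] {p : ℕ}
    (hp : 0 < p) (h : ∀ a : A, a ^ p = 1) : Nat.card A ≤ p := by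
  have h1 : Monoid.exponent A ∣ p := Monoid.exponent_dvd_of_forall_pow_eq_one h
  rw [IsCyclic.exponent_eq_card] at h1
  exact Nat.le_of_dvd hp h1

end crit

/-! ### Part 3: the critical subgroup -/

/-- the data of a critical subgroup `C` with centre `Z` -/
structure Crit (p : ℕ) {G : Type*} [Group G] (C Z : Subgroup G) : Prop where
  le : Z ≤ C
  cent : ∀ z ∈ Z, ∀ c ∈ C, z * c = c * z
  comm : ∀ x ∈ C, ∀ g : G, ⁅x, g⁆ ∈ Z
  pow : ∀ x ∈ C, x ^ p ∈ Z
  self : Subgroup.centralizer (C : Set G) ≤ Z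

section critical

open Cfsg.Agent.Helper87

variable {G : Type*} [Group G] [Finite G] {p : ℕ} [hp : Fact p.Prime]

theorem exists_crit (hG : IsPGroup p G)
    (hsymp : ∀ A : Subgroup G, A.Characteristic → IsMulCommutative A → IsCyclic A) :
    ∃ C Z : Subgroup G, C.Characteristic ∧ Z.Characteristic ∧ IsCyclic Z ∧ Crit p C Z := by
  classical
  -- a maximal characteristic abelian subgroup
  let 𝒮 : Set (Subgroup G) := {M | M.Characteristic ∧ ∀ a ∈ M, ∀ b ∈ M, a * b = b * a}
  have h𝒮fin : 𝒮.Finite := Set.toFinite 𝒮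
  have h𝒮ne : 𝒮.Nonempty := ⟨⊥, Subgroup.botCharacteristic, fun a ha b hb => by
    rw [Subgroup.mem_bot.1 ha, Subgroup.mem_bot.1 hb]⟩
  obtain ⟨M, ⟨hMchar, hMab⟩, hMmax⟩ := Set.exists_max_image 𝒮 (fun M => Nat.card M) h𝒮fin h𝒮ne
  have hMmax' : ∀ M' : Subgroup G, M'.Characteristic → (∀ a ∈ M', ∀ b ∈ M', a * b = b * a) → M ≤ M' →
      M' = M := by
    intro M' h1 h2 h3
    exact (Subgroup.eq_of_le_of_card_ge h3 (hMmax M' ⟨h1, h2⟩)).symm
  have hMcyc : IsCyclic M := by
    apply hsymp M hMchar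
    exact ⟨⟨fun a b => Subtype.ext (hMab a a.2 b b.2)⟩⟩
  have hMn : M.Normal := Subgroup.normal_of_characteristic M
  have hHchar : (Subgroup.centralizer (M : Set G)).Characteristic := Subgroup.characteristic_centralizer
  have hHn : (Subgroup.centralizer (M : Set G)).Normal :=
    Subgroup.normal_of_characteristic _
  have hMH : M ≤ Subgroup.centralizer (M : Set G) := by
    intro a ha
    rw [Subgroup.mem_centralizer_iff]
    intro b hb
    exact hMab b hb a ha
  have hMcommG : ∀ m ∈ M, ∀ g : G, ⁅m, g⁆ ∈ M := by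
    intro m hm g
    rw [commutatorElement_def]
    have : m * g * m⁻¹ * g⁻¹ = m * (g * m⁻¹ * g⁻¹) := by group
    rw [this]
    exact M.mul_mem hm (hMn.conj_mem _ (M.inv_mem hm) g)
  by_cases hcase : Subgroup.centralizer (M : Set G) ≤ M
  · refine ⟨M, M, hMchar, hMchar, hMcyc, le_rfl, fun z hz c hc => hMab z hz c hc, hMcommG,
      fun x hx => M.pow_mem hx p, hcase⟩
  · have hlt : M < Subgroup.centralizer (M : Set G) := lt_of_le_of_ne hMH (fun h => hcase h.ge)
    -- the subgroup C
    let C : Subgroup G :=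
      { carrier := {x | x ∈ Subgroup.centralizer (M : Set G) ∧ x ^ p ∈ M ∧ ∀ g : G, ⁅x, g⁆ ∈ M}
        mul_mem' := by
          rintro x y ⟨hx1, hx2, hx3⟩ ⟨hy1, hy2, hy3⟩
          refine ⟨Subgroup.mul_mem _ hx1 hy1, ?_, fun g => ?_⟩
          · have hcomm : Commute ((x : G ⧸ M)) ((y : G ⧸ M)) := by
              have h1 : ⁅x, y⁆ ∈ M := hx3 y
              have h2 : ((⁅x, y⁆ : G) : G ⧸ M) = 1 := (QuotientGroup.eq_one_iff _).2 h1
              rw [commutatorElement_def] at h2
              have h3 : ((x : G ⧸ M)) * (y : G ⧸ M) * (x : G ⧸ M)⁻¹ * (y : G ⧸ M)⁻¹ = 1 := by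
                simpa using h2
              have h4 : ((x : G ⧸ M)) * (y : G ⧸ M) = (y : G ⧸ M) * (x : G ⧸ M) := by
                calc ((x : G ⧸ M)) * (y : G ⧸ M)
                    = ((x : G ⧸ M) * (y : G ⧸ M) * (x : G ⧸ M)⁻¹ * (y : G ⧸ M)⁻¹) *
                        ((y : G ⧸ M) * (x : G ⧸ M)) := by group
                  _ = (y : G ⧸ M) * (x : G ⧸ M) := by rw [h3, one_mul]
              exact h4
            have h5 : (((x * y) ^ p : G) : G ⧸ M) = 1 := by
              have : (((x * y) ^ p : G) : G ⧸ M) = ((x : G ⧸ M) * (y : G ⧸ M)) ^ p := by simp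
              rw [this, hcomm.mul_pow]
              have hx2' : ((x : G ⧸ M)) ^ p = 1 := by
                have := (QuotientGroup.eq_one_iff (N := M) (x ^ p)).2 hx2
                simpa using this
              have hy2' : ((y : G ⧸ M)) ^ p = 1 := by
                have := (QuotientGroup.eq_one_iff (N := M) (y ^ p)).2 hy2
                simpa using this
              rw [hx2', hy2', one_mul]
            exact (QuotientGroup.eq_one_iff _).1 h5
          · rw [commutatorElement_mul_left']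
            exact M.mul_mem (hMn.conj_mem _ (hy3 g) _) (hx3 g)
        one_mem' := ⟨Subgroup.one_mem _, by rw [one_pow]; exact M.one_mem, fun g => by
          simp [commutatorElement_def, M.one_mem]⟩
        inv_mem' := by
          rintro x ⟨hx1, hx2, hx3⟩
          refine ⟨Subgroup.inv_mem _ hx1, by rw [inv_pow]; exact M.inv_mem hx2, fun g => ?_⟩
          rw [commutatorElement_inv_left']
          have := hMn.conj_mem _ (M.inv_mem (hx3 g)) x⁻¹
          rwa [inv_inv] at this }
    have hCmem : ∀ {x : G}, x ∈ C ↔ x ∈ Subgroup.centralizer (M : Set G) ∧ x ^ p ∈ M ∧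
        ∀ g : G, ⁅x, g⁆ ∈ M := fun {x} => Iff.rfl
    have hMC : M ≤ C := by
      intro m hm
      exact hCmem.2 ⟨hMH hm, M.pow_mem hm p, hMcommG m hm⟩
    have hCchar : C.Characteristic := by
      rw [Subgroup.characteristic_iff_map_le]
      rintro φ _ ⟨x, hx, rfl⟩
      obtain ⟨hx1, hx2, hx3⟩ := hCmem.1 hx
      refine hCmem.2 ⟨char_mem hHchar φ hx1, ?_, fun g => ?_⟩
      · have := char_mem hMchar φ hx2
        rwa [map_pow] at this
      · have h1 := char_mem hMchar φ (hx3 (φ.symm g))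
        have h2 : φ ⁅x, φ.symm g⁆ = ⁅φ x, g⁆ := by
          rw [commutatorElement_def, commutatorElement_def]
          simp
        rw [h2] at h1
        exact h1
    -- M commutes with C
    have hMcomm : ∀ m ∈ M, ∀ z ∈ C, m * z = z * m := by
      intro m hm z hz
      have hz1 : z ∈ Subgroup.centralizer (M : Set G) := (hCmem.1 hz).1
      rw [Subgroup.mem_centralizer_iff] at hz1
      exact hz1 m hm
    have hQchar : (Subgroup.centralizer (C : Set G)).Characteristic :=
      @Subgroup.characteristic_centralizer _ _ C hCchar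
    have hQn : (Subgroup.centralizer (C : Set G)).Normal := Subgroup.normal_of_characteristic _
    have hMQ : M ≤ Subgroup.centralizer (C : Set G) := by
      intro m hm
      rw [Subgroup.mem_centralizer_iff]
      intro z hz
      exact (hMcomm m hm z hz).symm
    have hQH : Subgroup.centralizer (C : Set G) ≤ Subgroup.centralizer (M : Set G) :=
      Subgroup.centralizer_le hMC
    -- Z(C) is characteristic abelian containing M
    have hZchar : (C ⊓ Subgroup.centralizer (C : Set G)).Characteristic :=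
      @Subgroup.characteristic_inf _ _ _ _ hCchar hQchar
    have hZab : ∀ a ∈ C ⊓ Subgroup.centralizer (C : Set G), ∀ b ∈ C ⊓ Subgroup.centralizer (C : Set G),
        a * b = b * a := by
      intro a ha b hb
      have hb2 : b ∈ Subgroup.centralizer (C : Set G) := hb.2
      rw [Subgroup.mem_centralizer_iff] at hb2
      exact hb2 a ha.1
    have hZ := hMmax' _ hZchar hZab (le_inf hMC hMQ)
    have hQC : Subgroup.centralizer (C : Set G) ≤ C := by
      by_contra hQC
      have hMQlt : M < Subgroup.centralizer (C : Set G) :=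
        lt_of_le_of_ne hMQ (fun h => hQC (h ▸ hMC))
      obtain ⟨x, hxQ, hxM, hxp, hxc⟩ := exists_central_mod_pow hG hMn hQn hMQlt
      have hxC : x ∈ C := hCmem.2 ⟨hQH hxQ, hxp, hxc⟩
      exact hxM (hZ ▸ ⟨hxC, hxQ⟩)
    refine ⟨C, M, hCchar, hMchar, hMcyc, hMC, hMcomm, fun x hx => (hCmem.1 hx).2.2,
      fun x hx => (hCmem.1 hx).2.1, ?_⟩
    intro x hx
    rw [← hZ]
    exact ⟨hQC hx, hx⟩

end critical

/-! ### Part 4: computations in a critical subgroup -/

section compute

open Cfsg.Agent.Helper87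

variable {G : Type*} [Group G]

theorem pow_mul_of_central {a b d : G} (hd : b * a = a * b * d) (hdb : d * b = b * d) (n : ℕ) :
    b ^ n * a = a * b ^ n * d ^ n := by
  induction n with
  | zero => simp
  | succ n ih =>
    have hdbn : d ^ n * b = b * d ^ n := (Commute.pow_left (show Commute d b from hdb) n).eq
    calc b ^ (n + 1) * a = b ^ n * (b * a) := by rw [pow_succ, mul_assoc]
      _ = (b ^ n * a) * b * d := by rw [hd]; group
      _ = a * b ^ n * (d ^ n * b) * d := by rw [ih]; group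
      _ = a * b ^ n * (b * d ^ n) * d := by rw [hdbn]
      _ = a * b ^ (n + 1) * d ^ (n + 1) := by rw [pow_succ, pow_succ]; group

theorem mul_pow_of_central {a b d : G} (hd : b * a = a * b * d) (hda : d * a = a * d)
    (hdb : d * b = b * d) (n : ℕ) : ∃ m : ℕ, (a * b) ^ n = a ^ n * b ^ n * d ^ m := by
  induction n with
  | zero => exact ⟨0, by simp⟩
  | succ n ih =>
    obtain ⟨m, hm⟩ := ih
    refine ⟨n + m, ?_⟩
    have h1 := pow_mul_of_central hd hdb n
    have hdma : d ^ m * a = a * d ^ m := (Commute.pow_left (show Commute d a from hda) m).eq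
    have hdmb : d ^ m * b = b * d ^ m := (Commute.pow_left (show Commute d b from hdb) m).eq
    have hdnb : d ^ n * b = b * d ^ n := (Commute.pow_left (show Commute d b from hdb) n).eq
    calc (a * b) ^ (n + 1) = (a * b) ^ n * (a * b) := pow_succ _ _
      _ = a ^ n * b ^ n * (d ^ m * a) * b := by rw [hm]; group
      _ = a ^ n * (b ^ n * a) * (d ^ m * b) := by rw [hdma]; group
      _ = a ^ n * (a * b ^ n * d ^ n) * (b * d ^ m) := by rw [h1, hdmb]
      _ = a ^ n * a * b ^ n * (d ^ n * b) * d ^ m := by group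
      _ = a ^ n * a * b ^ n * (b * d ^ n) * d ^ m := by rw [hdnb]
      _ = a ^ (n + 1) * b ^ (n + 1) * d ^ (n + m) := by rw [pow_succ, pow_succ, pow_add]; group

variable {p : ℕ} {C Z : Subgroup G}

theorem Crit.Zab (h : Crit p C Z) : ∀ a ∈ Z, ∀ b ∈ Z, a * b = b * a :=
  fun a ha b hb => h.cent a ha b (h.le hb)

theorem Crit.comm_mul (h : Crit p C Z) {x y : G} (hx : x ∈ C) (hy : y ∈ C) (g : G) :
    ⁅x * y, g⁆ = ⁅x, g⁆ * ⁅y, g⁆ := by
  rw [commutatorElement_mul_left']
  have h1 : ⁅y, g⁆ * x = x * ⁅y, g⁆ := h.cent _ (h.comm y hy g) x hx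
  have h2 : x * ⁅y, g⁆ * x⁻¹ = ⁅y, g⁆ := by rw [← h1]; group
  rw [h2]
  exact h.Zab _ (h.comm y hy g) _ (h.comm x hx g)

theorem Crit.comm_pow (h : Crit p C Z) {x : G} (hx : x ∈ C) (g : G) (n : ℕ) :
    ⁅x ^ n, g⁆ = ⁅x, g⁆ ^ n := by
  induction n with
  | zero => simp [commutatorElement_def]
  | succ n ih =>
    rw [pow_succ, h.comm_mul (C.pow_mem hx n) hx, ih, pow_succ]

theorem Crit.comm_eq_one_of_mem (h : Crit p C Z) {z y : G} (hz : z ∈ Z) (hy : y ∈ C) :
    ⁅z, y⁆ = 1 :=
  comm_eq_one_iff.2 (h.cent z hz y hy)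

theorem Crit.comm_pow_p (h : Crit p C Z) {x y : G} (hx : x ∈ C) (hy : y ∈ C) :
    ⁅x, y⁆ ^ p = 1 := by
  rw [← h.comm_pow hx]
  exact h.comm_eq_one_of_mem (h.pow x hx) hy

/-- the power formula in `C` -/
theorem Crit.mul_pow (h : Crit p C Z) {a b : G} (ha : a ∈ C) (hb : b ∈ C) (n : ℕ) :
    ∃ m : ℕ, (a * b) ^ n = a ^ n * b ^ n * ⁅b⁻¹, a⁻¹⁆ ^ m := by
  have hd : b * a = a * b * ⁅b⁻¹, a⁻¹⁆ := by
    rw [commutatorElement_def]; group
  have hdZ : ⁅b⁻¹, a⁻¹⁆ ∈ Z := h.comm _ (C.inv_mem hb) _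
  exact mul_pow_of_central hd (h.cent _ hdZ a ha) (h.cent _ hdZ b hb) n

theorem mem_omegaOne_of_comm (hZab : ∀ a ∈ Z, ∀ b ∈ Z, a * b = b * a) {x : G} :
    x ∈ Cfsg.omegaOne p Z ↔ x ∈ Z ∧ x ^ p = 1 := by
  constructor
  · intro hx
    unfold Cfsg.omegaOne at hx
    induction hx using Subgroup.closure_induction with
    | mem y hy => exact hy
    | one => exact ⟨Z.one_mem, one_pow _⟩
    | mul a b _ _ iha ihb =>
      refine ⟨Z.mul_mem iha.1 ihb.1, ?_⟩
      rw [(show Commute a b from hZab a iha.1 b ihb.1).mul_pow, iha.2, ihb.2, one_mul]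
    | inv a _ iha => exact ⟨Z.inv_mem iha.1, by rw [inv_pow, iha.2, inv_one]⟩
  · intro hx
    exact Subgroup.subset_closure hx

end compute

/-! ### Part 5: the subgroup `Ω₁(Z)` of a cyclic characteristic subgroup -/

section omega

open Cfsg.Agent.Helper87

variable {G : Type*} [Group G] [Finite G] {p : ℕ} [hp : Fact p.Prime]

theorem card_omegaOne_cyclic (hG : IsPGroup p G) {Z : Subgroup G} (hZcyc : IsCyclic Z) (hZne : Z ≠ ⊥)
    (hZab : ∀ a ∈ Z, ∀ b ∈ Z, a * b = b * a) : Nat.card (Cfsg.omegaOne p Z) = p := by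
  classical
  have : Fintype Z := Fintype.ofFinite Z
  apply le_antisymm
  · have e : (Cfsg.omegaOne p Z) ≃ {a : Z // a ^ p = 1} :=
      { toFun := fun x => ⟨⟨x.1, ((mem_omegaOne_of_comm hZab).1 x.2).1⟩, by
          apply Subtype.ext
          simpa using ((mem_omegaOne_of_comm hZab).1 x.2).2⟩
        invFun := fun a => ⟨a.1.1, (mem_omegaOne_of_comm hZab).2 ⟨a.1.2, by
          have := congrArg Subtype.val a.2
          simpa using this⟩⟩
        left_inv := fun x => rfl
        right_inv := fun a => rfl }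
    rw [Nat.card_congr e, Nat.card_eq_fintype_card, Fintype.card_subtype]
    exact IsCyclic.card_pow_eq_one_le hp.out.pos
  · have hZp : IsPGroup p Z := hG.to_subgroup Z
    obtain ⟨k, hk⟩ := IsPGroup.iff_card.1 hZp
    have hk0 : k ≠ 0 := by
      rintro rfl
      rw [pow_zero] at hk
      exact hZne (Subgroup.card_eq_one.1 hk)
    have hdvd : p ∣ Nat.card Z := by
      rw [hk]; exact dvd_pow_self p hk0
    obtain ⟨x, hx⟩ := exists_prime_orderOf_dvd_card' p hdvd
    have hxmem : (x : G) ∈ Cfsg.omegaOne p Z := by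
      rw [mem_omegaOne_of_comm hZab]
      refine ⟨x.2, ?_⟩
      have h1 : x ^ p = 1 := by rw [← hx]; exact pow_orderOf_eq_one x
      have := congrArg Subtype.val h1
      simpa using this
    have hle : Subgroup.zpowers (x : G) ≤ Cfsg.omegaOne p Z := by
      rw [Subgroup.zpowers_le]; exact hxmem
    have hcard : Nat.card (Subgroup.zpowers (x : G)) = p := by
      rw [Nat.card_zpowers, Subgroup.orderOf_coe, hx]
    have := Subgroup.card_le_of_le hle
    rwa [hcard] at this

theorem omegaOne_le_center (hG : IsPGroup p G) {Z : Subgroup G} (hZchar : Z.Characteristic)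
    (hcard : Nat.card (Cfsg.omegaOne p Z) = p) : Cfsg.omegaOne p Z ≤ Subgroup.center G := by
  have hchar : (Cfsg.omegaOne p Z).Characteristic := omegaOne_characteristic p hZchar
  have hn : (Cfsg.omegaOne p Z).Normal := Subgroup.normal_of_characteristic _
  have hlt : (⊥ : Subgroup G) < Cfsg.omegaOne p Z := by
    rw [bot_lt_iff_ne_bot]
    intro h
    rw [h, Subgroup.card_bot] at hcard
    exact hp.out.one_lt.ne hcard
  obtain ⟨x, hx, hx1, hxc⟩ := exists_central_mod hG hn hlt
  have hx1' : x ≠ 1 := fun h => hx1 (by rw [h]; exact Subgroup.one_mem _)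
  have hxcen : x ∈ Subgroup.center G := by
    rw [Subgroup.mem_center_iff]
    intro g
    have := hxc g
    rw [Subgroup.mem_bot] at this
    exact (comm_eq_one_iff.1 this).symm
  have hle : Subgroup.zpowers x ≤ Cfsg.omegaOne p Z := by
    rw [Subgroup.zpowers_le]; exact hx
  have hcardx : Nat.card (Subgroup.zpowers x) = p := by
    have hdvd : Nat.card (Subgroup.zpowers x) ∣ p := by
      rw [← hcard]; exact Subgroup.card_dvd_of_le hle
    rcases (Nat.dvd_prime hp.out).1 hdvd with h | h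
    · exfalso
      apply hx1'
      have := Subgroup.card_eq_one.1 h
      rw [Subgroup.zpowers_eq_bot] at this
      exact this
    · exact h
  have heq : Subgroup.zpowers x = Cfsg.omegaOne p Z :=
    Subgroup.eq_of_le_of_card_ge hle (by rw [hcardx, hcard])
  rw [← heq, Subgroup.zpowers_le]
  exact hxcen

end omega

/-! ### Part 6: the conclusion, and the case of an abelian critical subgroup -/

section caseA

variable {G : Type*} [Group G] [Finite G] {p : ℕ} [hp : Fact p.Prime]

/-- the conclusion of the theorem -/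
def Concl (p : ℕ) (G : Type*) [Group G] : Prop :=
  ∃ E R : Subgroup G, (∀ e ∈ E, ∀ r ∈ R, e * r = r * e) ∧ E ⊔ R = ⊤ ∧
    (E = ⊥ ∨ Cfsg.IsExtraspecial p ↥E) ∧
    (IsCyclic R ∨ (p = 2 ∧ 16 ≤ Nat.card R ∧ ((∃ m : ℕ, Nonempty (↥R ≃* DihedralGroup m)) ∨
      (∃ m : ℕ, Nonempty (↥R ≃* QuaternionGroup m)) ∨ Cfsg.IsQuasiDihedral ↥R)))

theorem isQuasiDihedral_of_mulEquiv {A B : Type*} [Group A] [Group B] (e : A ≃* B)
    (h : Cfsg.IsQuasiDihedral A) : Cfsg.IsQuasiDihedral B := by
  obtain ⟨n, hn, hcard, x, y, hx, hy, hxy⟩ := h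
  refine ⟨n, hn, by rw [← hcard]; exact (Nat.card_congr e.toEquiv).symm, e x, e y, ?_, ?_, ?_⟩
  · rw [← hx]; exact MulEquiv.orderOf_eq e x
  · rw [← hy]; exact MulEquiv.orderOf_eq e y
  · rw [← map_inv, ← map_mul, ← map_mul, hxy, map_pow]

theorem concl_extraspecial (h : Cfsg.IsExtraspecial p G) : Concl p G := by
  refine ⟨⊤, ⊥, ?_, ?_, Or.inr ?_, Or.inl ?_⟩
  · intro e _ r hr
    rw [Subgroup.mem_bot.1 hr, mul_one, one_mul]
  · simp
  · exact Cfsg.Agent.Helper63.isExtraspecial_of_mulEquiv (Subgroup.topEquiv (G := G)).symm h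
  · infer_instance

theorem concl_top (h : IsCyclic G ∨ (p = 2 ∧ 16 ≤ Nat.card G ∧
    ((∃ m : ℕ, Nonempty (G ≃* DihedralGroup m)) ∨
      (∃ m : ℕ, Nonempty (G ≃* QuaternionGroup m)) ∨ Cfsg.IsQuasiDihedral G))) : Concl p G := by
  refine ⟨⊥, ⊤, ?_, ?_, Or.inl rfl, ?_⟩
  · intro e he r _
    rw [Subgroup.mem_bot.1 he, mul_one, one_mul]
  · simp
  · rcases h with h | ⟨h2, h16, hD⟩
    · left
      exact isCyclic_of_surjective (Subgroup.topEquiv (G := G)).symm
        (Subgroup.topEquiv (G := G)).symm.surjective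
    · right
      refine ⟨h2, by rw [Subgroup.card_top]; exact h16, ?_⟩
      rcases hD with ⟨m, ⟨e⟩⟩ | ⟨m, ⟨e⟩⟩ | hQ
      · exact Or.inl ⟨m, ⟨(Subgroup.topEquiv (G := G)).trans e⟩⟩
      · exact Or.inr (Or.inl ⟨m, ⟨(Subgroup.topEquiv (G := G)).trans e⟩⟩)
      · exact Or.inr (Or.inr (isQuasiDihedral_of_mulEquiv (Subgroup.topEquiv (G := G)).symm hQ))

theorem false_of_char_elem
    (hsymp : ∀ A : Subgroup G, A.Characteristic → IsMulCommutative A → IsCyclic A)
    (A : Subgroup G) (hchar : A.Characteristic) (hel : Cfsg.IsElementaryAbelian p A)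
    (hcard : Nat.card A = p ^ 2) : False := by
  have hcyc : IsCyclic A := hsymp A hchar hel.1
  have h1 : Nat.card A ≤ p := by
    apply card_le_of_cyclic_of_exp hp.out.pos
    intro a
    apply Subtype.ext
    simpa using hel.2 a a.2
  rw [hcard] at h1
  have := hp.out.one_lt
  nlinarith

/-- a nonabelian group of order `2 ^ (n+1) < 16` has order `2 ^ 3` -/
theorem card_eq_cube_of_lt (hna : ¬ IsMulCommutative G) {n : ℕ} (hcard : Nat.card G = 2 ^ (n + 1))
    (h16 : ¬ 16 ≤ Nat.card G) : Nat.card G = 2 ^ 3 := by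
  have hn : n + 1 < 4 := by
    by_contra h
    push Not at h
    apply h16
    rw [hcard]
    calc 16 = 2 ^ 4 := by norm_num
      _ ≤ 2 ^ (n + 1) := Nat.pow_le_pow_right (by norm_num) h
  have hn3 : n + 1 = 3 := by
    by_contra hne
    apply hna
    have : Fact (Nat.Prime 2) := ⟨Nat.prime_two⟩
    have h12 : n + 1 = 1 ∨ n + 1 = 2 := by omega
    rcases h12 with h | h
    · rw [h, pow_one] at hcard
      have hcyc : IsCyclic G := isCyclic_of_prime_card hcard
      exact ⟨⟨fun a b => (IsCyclic.commGroup (α := G)).mul_comm a b⟩⟩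
    · rw [h] at hcard
      exact IsPGroup.isMulCommutative_of_card_eq_prime_sq hcard
  rw [hcard, hn3]

theorem caseA (hG : IsPGroup p G)
    (hsymp : ∀ A : Subgroup G, A.Characteristic → IsMulCommutative A → IsCyclic A)
    (Z : Subgroup G) (hZchar : Z.Characteristic) (hZcyc : IsCyclic Z)
    (hZab : ∀ a ∈ Z, ∀ b ∈ Z, a * b = b * a)
    (hcent : Subgroup.centralizer (Z : Set G) ≤ Z) : Concl p G := by
  have hC : Subgroup.centralizer (Z : Set G) = Z := by
    apply le_antisymm hcent
    intro a ha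
    rw [Subgroup.mem_centralizer_iff]
    intro b hb
    exact hZab b hb a ha
  by_cases hab : IsMulCommutative G
  · apply concl_top
    left
    have htop : Z = ⊤ := by
      rw [eq_top_iff]
      intro g _
      rw [← hC, Subgroup.mem_centralizer_iff]
      intro z _
      exact hab.is_comm.comm z g
    subst htop
    exact isCyclic_of_surjective (Subgroup.topEquiv (G := G)) (Subgroup.topEquiv (G := G)).surjective
  · have hZn : Z.Normal := Subgroup.normal_of_characteristic Z
    obtain ⟨n, hn⟩ := IsPGroup.iff_card.1 (hG.to_subgroup Z)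
    rcases Cfsg.Agent.S3761.result hG hab Z hZcyc n hn hC with ⟨h2, hcard, hD⟩ | ⟨_, hel, hcard, hchar⟩
    · by_cases h16 : 16 ≤ Nat.card G
      · exact concl_top (Or.inr ⟨h2, h16, hD⟩)
      · subst h2
        have h3 := card_eq_cube_of_lt hab hcard h16
        apply concl_extraspecial
        apply Cfsg.Agent.Helper83.isExtraspecial_of_nonabelian_p3 h3
        by_contra hcon
        push Not at hcon
        exact hab ⟨⟨hcon⟩⟩
    · exact (false_of_char_elem hsymp _ hchar hel hcard).elim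

end caseA

/-! ### Part 7: a nonabelian critical subgroup: first facts, and the case `|Z| = p` -/

section caseB

variable {G : Type*} [Group G] [Finite G] {p : ℕ} [hp : Fact p.Prime] {C Z : Subgroup G}

theorem Crit.exists_noncomm (h : Crit p C Z) (hCZ : ¬ C ≤ Z) :
    ∃ x ∈ C, ∃ y ∈ C, x * y ≠ y * x := by
  by_contra hcon
  push Not at hcon
  apply hCZ
  intro x hx
  apply h.self
  rw [Subgroup.mem_centralizer_iff]
  intro y hy
  exact hcon y hy x hx

theorem Crit.Z_ne_bot (h : Crit p C Z) (hCZ : ¬ C ≤ Z) : Z ≠ ⊥ := by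
  obtain ⟨x, hx, y, hy, hxy⟩ := h.exists_noncomm hCZ
  intro hbot
  have h1 : ⁅x, y⁆ ∈ Z := h.comm x hx y
  rw [hbot, Subgroup.mem_bot] at h1
  exact hxy (comm_eq_one_iff.1 h1)

theorem Crit.comm_mem_omega (h : Crit p C Z) {x y : G} (hx : x ∈ C) (hy : y ∈ C) :
    ⁅x, y⁆ ∈ Cfsg.omegaOne p Z :=
  (mem_omegaOne_of_comm h.Zab).2 ⟨h.comm x hx y, h.comm_pow_p hx hy⟩

theorem eq_top_of_card_ge {H : Subgroup G} (h : Nat.card G ≤ Nat.card H) : H = ⊤ := by
  apply Subgroup.eq_top_of_card_eq
  exact le_antisymm (Subgroup.card_le_card_group H) h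

/-- the case where `Z` has exponent `p`: then `G = C` is extraspecial. -/
theorem caseB_small (hG : IsPGroup p G) (hZchar : Z.Characteristic) (hZcyc : IsCyclic Z)
    (h : Crit p C Z) (hCZ : ¬ C ≤ Z) (hexp : ∀ z ∈ Z, z ^ p = 1) : Cfsg.IsExtraspecial p G := by
  have hZne := h.Z_ne_bot hCZ
  have hZ1 : Cfsg.omegaOne p Z = Z := by
    apply le_antisymm
    · intro x hx
      exact ((mem_omegaOne_of_comm h.Zab).1 hx).1
    · intro x hx
      exact (mem_omegaOne_of_comm h.Zab).2 ⟨hx, hexp x hx⟩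
  have hcard : Nat.card Z = p := by
    have := card_omegaOne_cyclic hG hZcyc hZne h.Zab
    rwa [hZ1] at this
  have hcen : Z ≤ Subgroup.center G := by
    have := omegaOne_le_center hG hZchar (by rw [hZ1]; exact hcard)
    rwa [hZ1] at this
  have hcenZ : ∀ t ∈ Z, ∀ a : G, t * a = a * t := by
    intro t ht a
    exact ((Subgroup.mem_center_iff.1 (hcen ht)) a).symm
  -- C = ⊤
  have hcount := pairing_count (⊤ : Subgroup G) C Z hcard
    (by
      intro a _ b hb
      rw [← commutatorElement_inv]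
      exact Z.inv_mem (h.comm b hb a))
    (fun t ht a _ => hcenZ t ht a) (fun t ht b _ => hcenZ t ht b)
  have h1 : Nat.card ((⊤ : Subgroup G) ⊓ Subgroup.centralizer (C : Set G) : Subgroup G) ≤ p := by
    rw [← hcard]
    apply Subgroup.card_le_of_le
    exact inf_le_right.trans h.self
  have h2 : p ≤ Nat.card (C ⊓ Subgroup.centralizer ((⊤ : Subgroup G) : Set G) : Subgroup G) := by
    rw [← hcard]
    apply Subgroup.card_le_of_le
    intro z hz
    refine ⟨h.le hz, ?_⟩
    show z ∈ Subgroup.centralizer ((⊤ : Subgroup G) : Set G)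
    rw [Subgroup.mem_centralizer_iff]
    intro a _
    exact (hcenZ z hz a).symm
  have hCtop : C = ⊤ := by
    apply eq_top_of_card_ge
    rw [Subgroup.card_top] at hcount
    have hppos := hp.out.pos
    have hCpos : 0 < Nat.card C := Nat.card_pos
    nlinarith
  have hallC : ∀ x : G, x ∈ C := fun x => by rw [hCtop]; exact Subgroup.mem_top x
  obtain ⟨x, _, y, _, hxy⟩ := h.exists_noncomm hCZ
  apply isExtraspecial_of_crit hG Z hcard hcen
  · intro z hz
    apply h.self
    rw [Subgroup.mem_centralizer_iff]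
    intro c _
    exact ((Subgroup.mem_center_iff.1 hz) c)
  · exact fun a b => h.comm a (hallC a) b
  · exact fun a => h.pow a (hallC a)
  · exact ⟨x, y, hxy⟩

end caseB

/-! ### Part 8: cyclic subgroups of a `p`-group -/

section cyclic

variable {G : Type*} [Group G] [Finite G] {p : ℕ} [hp : Fact p.Prime]

theorem exists_gen {Z : Subgroup G} (hZcyc : IsCyclic Z) :
    ∃ g₀ ∈ Z, ∀ z ∈ Z, ∃ j : ℕ, z = g₀ ^ j := by
  obtain ⟨g, hg⟩ := IsCyclic.exists_generator (α := Z)
  refine ⟨g, g.2, fun z hz => ?_⟩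
  have h1 : (⟨z, hz⟩ : Z) ∈ Submonoid.powers g := by
    rw [mem_powers_iff_mem_zpowers]; exact hg _
  obtain ⟨n, hn⟩ := h1
  refine ⟨n, ?_⟩
  have := congrArg Subtype.val hn
  simpa using this.symm

theorem pth_power_of_omega (hG : IsPGroup p G) {Z : Subgroup G} (hZcyc : IsCyclic Z)
    (hk : ∃ z₀ ∈ Z, z₀ ^ p ≠ 1) {z : G} (hz : z ∈ Z) (hzp : z ^ p = 1) : ∃ w ∈ Z, z = w ^ p := by
  obtain ⟨g₀, hg₀, hgen⟩ := exists_gen hZcyc
  obtain ⟨k, hk'⟩ := IsPGroup.iff_orderOf.1 hG g₀
  have hg0p : g₀ ^ p ≠ 1 := by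
    intro h
    obtain ⟨z₀, hz₀, hz₀p⟩ := hk
    obtain ⟨i, rfl⟩ := hgen z₀ hz₀
    apply hz₀p
    rw [← pow_mul, mul_comm, pow_mul, h, one_pow]
  have hk2 : 2 ≤ k := by
    by_contra hlt
    apply hg0p
    rw [← orderOf_dvd_iff_pow_eq_one, hk']
    have : k = 0 ∨ k = 1 := by omega
    rcases this with rfl | rfl
    · simp
    · simp
  obtain ⟨j, rfl⟩ := hgen z hz
  have h1 : p ^ k ∣ j * p := by
    rw [← hk', orderOf_dvd_iff_pow_eq_one, pow_mul]; exact hzp
  have h2 : p ^ (k - 1) ∣ j := by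
    have : p ^ k = p ^ (k - 1) * p := by
      rw [← pow_succ]; congr 1; omega
    rw [this] at h1
    exact Nat.dvd_of_mul_dvd_mul_right hp.out.pos h1
  have h3 : p ∣ j := (dvd_pow_self p (by omega : k - 1 ≠ 0)).trans h2
  obtain ⟨j', rfl⟩ := h3
  exact ⟨g₀ ^ j', Z.pow_mem hg₀ j', by rw [← pow_mul, mul_comm]⟩

theorem gen_of_not_pth_power (hG : IsPGroup p G) {Z : Subgroup G} (hZcyc : IsCyclic Z) {x : G}
    (hx : x ∈ Z) (hnp : ∀ w ∈ Z, x ≠ w ^ p) : ∀ z ∈ Z, ∃ i : ℕ, z = x ^ i := by
  obtain ⟨g₀, hg₀, hgen⟩ := exists_gen hZcyc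
  obtain ⟨k, hk'⟩ := IsPGroup.iff_orderOf.1 hG g₀
  obtain ⟨j, rfl⟩ := hgen x hx
  have hpj : ¬ p ∣ j := by
    rintro ⟨j', rfl⟩
    exact hnp (g₀ ^ j') (Z.pow_mem hg₀ j') (by rw [← pow_mul, mul_comm])
  have hcop : j.Coprime (orderOf g₀) := by
    rw [hk']
    exact Nat.Coprime.pow_right k ((Nat.Prime.coprime_iff_not_dvd hp.out).2 hpj).symm
  obtain ⟨m, hm⟩ := exists_pow_eq_self_of_coprime hcop
  intro z hz
  obtain ⟨i, rfl⟩ := hgen z hz
  refine ⟨m * i, ?_⟩
  rw [pow_mul, hm]

end cyclic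

/-! ### Part 9: `Ω₁(C)` and the `p`-th powers in `C` -/

section main

open Cfsg.Agent.Helper87

variable {G : Type*} [Group G] [Finite G] {p : ℕ} [hp : Fact p.Prime] {C Z : Subgroup G}

theorem Crit.omega_le (_h : Crit p C Z) : Cfsg.omegaOne p C ≤ C := by
  unfold Cfsg.omegaOne
  rw [Subgroup.closure_le]
  intro x hx
  exact hx.1

theorem Crit.pow_mul_mem (h : Crit p C Z) {a b : G} (ha : a ∈ C) (hb : b ∈ C) :
    ∃ u ∈ Cfsg.omegaOne p Z, (a * b) ^ p = a ^ p * b ^ p * u := by
  obtain ⟨m, hm⟩ := h.mul_pow ha hb p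
  exact ⟨_, Subgroup.pow_mem _ (h.comm_mem_omega (C.inv_mem hb) (C.inv_mem ha)) m, hm⟩

theorem Crit.omega_props (h : Crit p C Z) {e : G} (he : e ∈ Cfsg.omegaOne p C) :
    e ∈ C ∧ (∀ g : G, ⁅e, g⁆ ∈ Cfsg.omegaOne p Z) ∧ e ^ p ∈ Cfsg.omegaOne p Z := by
  unfold Cfsg.omegaOne at he
  induction he using Subgroup.closure_induction with
  | mem x hx =>
    obtain ⟨hxC, hxp⟩ := hx
    refine ⟨hxC, fun g => ?_, by rw [hxp]; exact Subgroup.one_mem _⟩
    refine (mem_omegaOne_of_comm h.Zab).2 ⟨h.comm x hxC g, ?_⟩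
    rw [← h.comm_pow hxC, hxp]
    simp [commutatorElement_def]
  | one =>
    refine ⟨C.one_mem, fun g => ?_, by rw [one_pow]; exact Subgroup.one_mem _⟩
    have : ⁅(1 : G), g⁆ = 1 := by simp [commutatorElement_def]
    rw [this]; exact Subgroup.one_mem _
  | mul a b _ _ iha ihb =>
    refine ⟨C.mul_mem iha.1 ihb.1, fun g => ?_, ?_⟩
    · rw [h.comm_mul iha.1 ihb.1]
      exact Subgroup.mul_mem _ (iha.2.1 g) (ihb.2.1 g)
    · obtain ⟨u, hu, hab⟩ := h.pow_mul_mem iha.1 ihb.1
      rw [hab]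
      exact Subgroup.mul_mem _ (Subgroup.mul_mem _ iha.2.2 ihb.2.2) hu
  | inv a _ iha =>
    refine ⟨C.inv_mem iha.1, fun g => ?_, by rw [inv_pow]; exact Subgroup.inv_mem _ iha.2.2⟩
    rw [commutatorElement_inv_left']
    have ht : ⁅a, g⁆⁻¹ ∈ Cfsg.omegaOne p Z := Subgroup.inv_mem _ (iha.2.1 g)
    have htZ : ⁅a, g⁆⁻¹ ∈ Z := ((mem_omegaOne_of_comm h.Zab).1 ht).1
    have h1 : ⁅a, g⁆⁻¹ * a = a * ⁅a, g⁆⁻¹ := h.cent _ htZ a iha.1
    have h2 : a⁻¹ * ⁅a, g⁆⁻¹ * a = ⁅a, g⁆⁻¹ := by
      rw [mul_assoc, h1]; group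
    rw [h2]; exact ht

theorem Crit.mem_sup_of_good (h : Crit p C Z) {x : G} (hx : x ∈ C)
    (hgood : ∃ z ∈ Z, x ^ p = z ^ p) : ∃ e ∈ Cfsg.omegaOne p C, ∃ z ∈ Z, x = e * z := by
  obtain ⟨z, hz, hxz⟩ := hgood
  refine ⟨x * z⁻¹, ?_, z, hz, by group⟩
  apply Subgroup.subset_closure
  refine ⟨C.mul_mem hx (C.inv_mem (h.le hz)), ?_⟩
  have hc : Commute x z⁻¹ := (h.cent _ (Z.inv_mem hz) x hx).symm
  rw [hc.mul_pow, hxz, inv_pow, mul_inv_cancel]

theorem Crit.good_of_mul (h : Crit p C Z) (hG : IsPGroup p G) (hZcyc : IsCyclic Z)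
    (hk : ∃ z₀ ∈ Z, z₀ ^ p ≠ 1) {e z : G} (he : e ∈ Cfsg.omegaOne p C) (hz : z ∈ Z) :
    ∃ w ∈ Z, (e * z) ^ p = w ^ p := by
  obtain ⟨heC, _, hep⟩ := h.omega_props he
  obtain ⟨hepZ, hepp⟩ := (mem_omegaOne_of_comm h.Zab).1 hep
  obtain ⟨w', hw', hew⟩ := pth_power_of_omega hG hZcyc hk hepZ hepp
  refine ⟨w' * z, Z.mul_mem hw' hz, ?_⟩
  have hc : Commute e z := (h.cent z hz e heC).symm
  have hc' : Commute w' z := h.Zab w' hw' z hz
  rw [hc.mul_pow, hc'.mul_pow, hew]

theorem mem_sup_iff_of_normal {H Z : Subgroup G} (hZn : Z.Normal) {x : G} :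
    x ∈ H ⊔ Z ↔ ∃ e ∈ H, ∃ z ∈ Z, e * z = x := by
  have := hZn
  exact Subgroup.mem_sup_of_normal_right

theorem Crit.mem_of_not_good (h : Crit p C Z) (hG : IsPGroup p G) (hZcyc : IsCyclic Z)
    (hk : ∃ z₀ ∈ Z, z₀ ^ p ≠ 1) {x₀ : G} (hx₀ : x₀ ∈ C) (hng : ∀ z ∈ Z, x₀ ^ p ≠ z ^ p) {c : G}
    (hc : c ∈ C) : c ∈ (Cfsg.omegaOne p C ⊔ Z) ⊔ Subgroup.zpowers x₀ := by
  obtain ⟨i, hi⟩ := gen_of_not_pth_power hG hZcyc (h.pow x₀ hx₀) hng (c ^ p) (h.pow c hc)
  have hb : (x₀ ^ i)⁻¹ ∈ C := C.inv_mem (C.pow_mem hx₀ i)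
  obtain ⟨u, hu, hcb⟩ := h.pow_mul_mem hc hb
  have hbp : ((x₀ ^ i)⁻¹) ^ p = ((x₀ ^ p) ^ i)⁻¹ := by
    rw [inv_pow, ← pow_mul, mul_comm, pow_mul]
  rw [hbp, hi, mul_inv_cancel, one_mul] at hcb
  obtain ⟨huZ, hup⟩ := (mem_omegaOne_of_comm h.Zab).1 hu
  obtain ⟨w, hw, huw⟩ := pth_power_of_omega hG hZcyc hk huZ hup
  obtain ⟨e, he, z, hz, hez⟩ := h.mem_sup_of_good (C.mul_mem hc hb) ⟨w, hw, by rw [hcb, huw]⟩
  have : c = (e * z) * x₀ ^ i := by rw [← hez]; group
  rw [this]
  exact Subgroup.mul_mem_sup (Subgroup.mul_mem_sup he hz)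
    (Subgroup.pow_mem _ (Subgroup.mem_zpowers x₀) i)

theorem Crit.all_good (h : Crit p C Z) (hG : IsPGroup p G)
    (hsymp : ∀ A : Subgroup G, A.Characteristic → IsMulCommutative A → IsCyclic A)
    (hCchar : C.Characteristic) (hZchar : Z.Characteristic) (hZcyc : IsCyclic Z) (hCZ : ¬ C ≤ Z)
    (hk : ∃ z₀ ∈ Z, z₀ ^ p ≠ 1) : ∀ x ∈ C, ∃ z ∈ Z, x ^ p = z ^ p := by
  by_contra hcon
  push Not at hcon
  obtain ⟨x₀, hx₀, hng⟩ := hcon
  have hZn : Z.Normal := Subgroup.normal_of_characteristic Z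
  have hZne := h.Z_ne_bot hCZ
  have hZ1card := card_omegaOne_cyclic hG hZcyc hZne h.Zab
  have hZ1Z : Cfsg.omegaOne p Z ≤ Z := fun x hx => ((mem_omegaOne_of_comm h.Zab).1 hx).1
  set D : Subgroup G := Cfsg.omegaOne p C ⊔ Z with hD
  have hDC : D ≤ C := sup_le h.omega_le h.le
  have hgoodD : ∀ a ∈ D, ∃ w ∈ Z, a ^ p = w ^ p := by
    intro a ha
    obtain ⟨e, he, z, hz, rfl⟩ := (mem_sup_iff_of_normal hZn).1 ha
    exact h.good_of_mul hG hZcyc hk he hz
  have hx₀D : x₀ ∉ D := by
    intro hx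
    obtain ⟨w, hw, hxw⟩ := hgoodD x₀ hx
    exact hng w hw hxw
  have hcount := pairing_count C D (Cfsg.omegaOne p Z) hZ1card
    (fun a ha b hb => h.comm_mem_omega ha (hDC hb))
    (fun t ht a ha => h.cent t (hZ1Z ht) a ha)
    (fun t ht b hb => h.cent t (hZ1Z ht) b (hDC hb))
  have hDZ : D ⊓ Subgroup.centralizer (C : Set G) = Z := by
    apply le_antisymm
    · exact inf_le_right.trans h.self
    · refine le_inf le_sup_right ?_
      intro z hz
      rw [Subgroup.mem_centralizer_iff]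
      intro c hc
      exact (h.cent z hz c hc).symm
  rw [hDZ] at hcount
  have hcardlt : Nat.card D < Nat.card C := by
    by_contra hge
    push Not at hge
    have := Subgroup.eq_of_le_of_card_ge hDC hge
    exact hx₀D (this ▸ hx₀)
  have hex : ∃ y ∈ C ⊓ Subgroup.centralizer (D : Set G), y ∉ Z := by
    by_contra hcon
    push Not at hcon
    have hle : Nat.card (C ⊓ Subgroup.centralizer (D : Set G) : Subgroup G) ≤ Nat.card Z :=
      Subgroup.card_le_of_le hcon
    have hZpos : 0 < Nat.card Z := Nat.card_pos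
    have hDpos : 0 < Nat.card D := Nat.card_pos
    nlinarith
  obtain ⟨y, hy, hyZ⟩ := hex
  obtain ⟨hyC, hycD⟩ := Subgroup.mem_inf.1 hy
  have hygood : ∃ z ∈ Z, y ^ p = z ^ p := by
    by_contra hyng
    push Not at hyng
    apply hyZ
    apply h.self
    rw [Subgroup.mem_centralizer_iff]
    intro c hc
    have hcmem := h.mem_of_not_good hG hZcyc hk hyC hyng hc
    have hle : D ⊔ Subgroup.zpowers y ≤ Subgroup.centralizer ({y} : Set G) := by
      apply sup_le
      · intro d hd
        rw [Subgroup.mem_centralizer_iff]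
        intro t ht
        rw [Set.mem_singleton_iff] at ht
        subst ht
        rw [Subgroup.mem_centralizer_iff] at hycD
        exact (hycD d hd).symm
      · rw [Subgroup.zpowers_le]
        rw [Subgroup.mem_centralizer_iff]
        intro t ht
        rw [Set.mem_singleton_iff] at ht
        rw [ht]
    have := hle hcmem
    rw [Subgroup.mem_centralizer_iff] at this
    exact (this y rfl).symm
  obtain ⟨e, he, z, hz, hyez⟩ := h.mem_sup_of_good hyC hygood
  have hyD : y ∈ D := by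
    rw [hyez]; exact Subgroup.mul_mem_sup he hz
  -- the centre of D
  have hE₀char : (Cfsg.omegaOne p C).Characteristic := omegaOne_characteristic p hCchar
  have hDchar : D.Characteristic := by
    have := hE₀char
    have := hZchar
    exact Subgroup.characteristic_sup
  have hWchar : (D ⊓ Subgroup.centralizer (D : Set G)).Characteristic :=
    @Subgroup.characteristic_inf _ _ _ _ hDchar (@Subgroup.characteristic_centralizer _ _ D hDchar)
  have hWab : IsMulCommutative (D ⊓ Subgroup.centralizer (D : Set G) : Subgroup G) := by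
    refine ⟨⟨fun a b => ?_⟩⟩
    apply Subtype.ext
    have hb2 : (b : G) ∈ Subgroup.centralizer (D : Set G) := b.2.2
    rw [Subgroup.mem_centralizer_iff] at hb2
    exact hb2 a a.2.1
  have hWcyc := hsymp _ hWchar hWab
  have hZW : Z ≤ D ⊓ Subgroup.centralizer (D : Set G) := by
    refine le_inf le_sup_right ?_
    intro z hz
    rw [Subgroup.mem_centralizer_iff]
    intro d hd
    exact (h.cent z hz d (hDC hd)).symm
  have hgenW := gen_of_not_pth_power hG hWcyc (hZW (h.pow x₀ hx₀))
    (by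
      intro w hw hxw
      obtain ⟨z', hz', hwz⟩ := hgoodD w hw.1
      exact hng z' hz' (by rw [hxw, hwz]))
  obtain ⟨i, hi⟩ := hgenW y ⟨hyD, hycD⟩
  apply hyZ
  rw [hi]
  exact Z.pow_mem (h.pow x₀ hx₀) i

end main

/-! ### Part 10: the extraspecial subgroup -/

section extra

open Cfsg.Agent.Helper87

variable {G : Type*} [Group G] [Finite G] {p : ℕ} [hp : Fact p.Prime] {C Z : Subgroup G}

theorem Crit.omegaZ_le_omegaC (h : Crit p C Z) : Cfsg.omegaOne p Z ≤ Cfsg.omegaOne p C := by
  intro z hz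
  obtain ⟨hzZ, hzp⟩ := (mem_omegaOne_of_comm h.Zab).1 hz
  exact Subgroup.subset_closure ⟨h.le hzZ, hzp⟩

theorem Crit.normal_of_le (h : Crit p C Z) {X : Subgroup G} (h1 : Cfsg.omegaOne p Z ≤ X)
    (h2 : X ≤ Cfsg.omegaOne p C) : X.Normal := by
  refine ⟨fun n hn g => ?_⟩
  have h3 : ⁅n, g⁆ ∈ Cfsg.omegaOne p Z := (h.omega_props (h2 hn)).2.1 g
  have h4 : g * n * g⁻¹ = ⁅n, g⁆⁻¹ * n := by
    rw [commutatorElement_def]; group
  rw [h4]
  exact X.mul_mem (X.inv_mem (h1 h3)) hn

theorem Crit.exists_E1 (h : Crit p C Z) (hall : ∀ x ∈ C, ∃ z ∈ Z, x ^ p = z ^ p) :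
    ∃ X : Subgroup G, Cfsg.omegaOne p Z ≤ X ∧ X ≤ Cfsg.omegaOne p C ∧
      X ⊓ Z ≤ Cfsg.omegaOne p Z ∧ C ≤ X ⊔ Z := by
  classical
  let 𝒯 : Set (Subgroup G) := {X | Cfsg.omegaOne p Z ≤ X ∧ X ≤ Cfsg.omegaOne p C ∧
    X ⊓ Z ≤ Cfsg.omegaOne p Z}
  have h𝒯fin : 𝒯.Finite := Set.toFinite 𝒯
  have h𝒯ne : 𝒯.Nonempty := ⟨Cfsg.omegaOne p Z, le_rfl, h.omegaZ_le_omegaC, inf_le_left⟩
  obtain ⟨X, ⟨hX1, hX2, hX3⟩, hXmax⟩ := Set.exists_max_image 𝒯 (fun X => Nat.card X) h𝒯fin h𝒯ne
  refine ⟨X, hX1, hX2, hX3, ?_⟩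
  by_contra hCX
  have hE₀ : ¬ Cfsg.omegaOne p C ≤ X ⊔ Z := by
    intro hle
    apply hCX
    intro c hc
    obtain ⟨e, he, z, hz, rfl⟩ := h.mem_sup_of_good hc (hall c hc)
    exact Subgroup.mul_mem_sup (hle he) hz |> fun hh => by
      have : X ⊔ Z ⊔ Z = X ⊔ Z := by rw [sup_assoc, sup_idem]
      rwa [this] at hh
  have hex : ∃ x, (x ∈ C ∧ x ^ p = 1) ∧ x ∉ X ⊔ Z := by
    by_contra hcon
    push Not at hcon
    apply hE₀
    unfold Cfsg.omegaOne
    rw [Subgroup.closure_le]
    intro x hx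
    exact hcon x hx
  obtain ⟨x, ⟨hxC, hxp⟩, hxXZ⟩ := hex
  have hx1 : x ≠ 1 := by
    rintro rfl
    exact hxXZ (Subgroup.one_mem _)
  have hXn : X.Normal := h.normal_of_le hX1 hX2
  have hxE₀ : x ∈ Cfsg.omegaOne p C := Subgroup.subset_closure ⟨hxC, hxp⟩
  have hX' : X ⊔ Subgroup.zpowers x ∈ 𝒯 := by
    refine ⟨hX1.trans le_sup_left, sup_le hX2 (by rw [Subgroup.zpowers_le]; exact hxE₀), ?_⟩
    intro y hy
    obtain ⟨hy1, hy2⟩ := Subgroup.mem_inf.1 hy
    obtain ⟨a, ha, t, ht, rfl⟩ := (Subgroup.mem_sup_of_normal_left (s := X)).1 hy1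
    have htXZ : t ∈ X ⊔ Z := by
      have : t = a⁻¹ * (a * t) := by group
      rw [this]
      exact Subgroup.mul_mem_sup (X.inv_mem ha) hy2
    have ht1 : t = 1 := by
      by_contra ht1
      apply hxXZ
      have hord : orderOf x = p := orderOf_eq_prime hxp hx1
      have hle : Subgroup.zpowers t ≤ Subgroup.zpowers x := by
        rw [Subgroup.zpowers_le]; exact ht
      have hcx : Nat.card (Subgroup.zpowers x) = p := by rw [Nat.card_zpowers, hord]
      have hdvd : Nat.card (Subgroup.zpowers t) ∣ p := by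
        rw [← hcx]; exact Subgroup.card_dvd_of_le hle
      have hct : Nat.card (Subgroup.zpowers t) = p := by
        rcases (Nat.dvd_prime hp.out).1 hdvd with h1 | h1
        · exfalso
          apply ht1
          have := Subgroup.card_eq_one.1 h1
          rwa [Subgroup.zpowers_eq_bot] at this
        · exact h1
      have heq : Subgroup.zpowers t = Subgroup.zpowers x :=
        Subgroup.eq_of_le_of_card_ge hle (by rw [hcx, hct])
      have hxt : x ∈ Subgroup.zpowers t := by rw [heq]; exact Subgroup.mem_zpowers x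
      have hle2 : Subgroup.zpowers t ≤ X ⊔ Z := by rw [Subgroup.zpowers_le]; exact htXZ
      exact hle2 hxt
    rw [ht1, mul_one] at hy2 ⊢
    exact hX3 ⟨ha, hy2⟩
  have hcard := hXmax _ hX'
  have heq : X = X ⊔ Subgroup.zpowers x := Subgroup.eq_of_le_of_card_ge le_sup_left hcard
  apply hxXZ
  have : x ∈ X := by
    rw [heq]
    exact Subgroup.mem_sup_right (Subgroup.mem_zpowers x)
  exact Subgroup.mem_sup_left this

end extra

/-! ### Part 11: properties of the extraspecial subgroup -/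

section extra2

open Cfsg.Agent.Helper87

variable {G : Type*} [Group G] [Finite G] {p : ℕ} [hp : Fact p.Prime] {C Z E₁ : Subgroup G}

theorem card_sup_mul_card_inf' (H N : Subgroup G) [N.Normal] :
    Nat.card (H ⊔ N : Subgroup G) * Nat.card (H ⊓ N : Subgroup G) = Nat.card H * Nat.card N := by
  have h1 : Nat.card N * N.relIndex (H ⊔ N) = Nat.card (H ⊔ N : Subgroup G) :=
    Cfsg.Agent.Helper83.relIndex_mul_card_of_le le_sup_right
  have h2 : Nat.card (H ⊓ N : Subgroup G) * (H ⊓ N).relIndex H = Nat.card H :=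
    Cfsg.Agent.Helper83.relIndex_mul_card_of_le inf_le_left
  rw [Subgroup.relIndex_sup_right] at h1
  rw [inf_comm, Subgroup.inf_relIndex_right] at h2
  rw [inf_comm, ← h1, ← h2]
  ring

/-- the data of the subgroup `E₁` -/
structure IsE1 (p : ℕ) (C Z E₁ : Subgroup G) : Prop where
  h1 : Cfsg.omegaOne p Z ≤ E₁
  h2 : E₁ ≤ Cfsg.omegaOne p C
  h3 : E₁ ⊓ Z ≤ Cfsg.omegaOne p Z
  h4 : C ≤ E₁ ⊔ Z

theorem IsE1.le_C (hE : IsE1 p C Z E₁) (h : Crit p C Z) : E₁ ≤ C := hE.h2.trans h.omega_le

theorem IsE1.center (hE : IsE1 p C Z E₁) (h : Crit p C Z) {x : G} (hx : x ∈ E₁)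
    (hxc : ∀ e ∈ E₁, e * x = x * e) : x ∈ Cfsg.omegaOne p Z := by
  apply hE.h3
  refine ⟨hx, ?_⟩
  apply h.self
  rw [Subgroup.mem_centralizer_iff]
  intro c hc
  have hle : E₁ ⊔ Z ≤ Subgroup.centralizer ({x} : Set G) := by
    apply sup_le
    · intro e he
      rw [Subgroup.mem_centralizer_iff]
      intro t ht
      rw [Set.mem_singleton_iff] at ht
      subst ht
      exact (hxc e he).symm
    · intro z hz
      rw [Subgroup.mem_centralizer_iff]
      intro t ht
      rw [Set.mem_singleton_iff] at ht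
      subst ht
      exact (h.cent z hz t (hE.le_C h hx)).symm
  have := hle (hE.h4 hc)
  rw [Subgroup.mem_centralizer_iff] at this
  exact (this x rfl).symm

theorem IsE1.isExtraspecial (hE : IsE1 p C Z E₁) (h : Crit p C Z) (hG : IsPGroup p G)
    (hCZ : ¬ C ≤ Z) (hcard : Nat.card (Cfsg.omegaOne p Z) = p)
    (hcen : Cfsg.omegaOne p Z ≤ Subgroup.center G) : Cfsg.IsExtraspecial p ↥E₁ := by
  have hZ1Z : Cfsg.omegaOne p Z ≤ Z := fun x hx => ((mem_omegaOne_of_comm h.Zab).1 hx).1
  apply isExtraspecial_of_crit (hG.to_subgroup E₁) ((Cfsg.omegaOne p Z).subgroupOf E₁)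
  · rw [Nat.card_congr (Subgroup.subgroupOfEquivOfLe hE.h1).toEquiv, hcard]
  · intro x hx
    rw [Subgroup.mem_center_iff]
    intro g
    apply Subtype.ext
    have := Subgroup.mem_center_iff.1 (hcen (Subgroup.mem_subgroupOf.1 hx)) (g : G)
    simpa using this
  · intro x hx
    rw [Subgroup.mem_subgroupOf]
    apply hE.center h x.2
    intro e he
    have := Subgroup.mem_center_iff.1 hx ⟨e, he⟩
    have := congrArg Subtype.val this
    simpa using this
  · intro x y
    rw [Subgroup.mem_subgroupOf]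
    have : ((⁅x, y⁆ : E₁) : G) = ⁅(x : G), (y : G)⁆ := by
      simp [commutatorElement_def]
    rw [this]
    exact h.comm_mem_omega (hE.le_C h x.2) (hE.le_C h y.2)
  · intro x
    rw [Subgroup.mem_subgroupOf]
    have : ((x ^ p : E₁) : G) = (x : G) ^ p := by simp
    rw [this]
    exact (h.omega_props (hE.h2 x.2)).2.2
  · by_contra hcon
    push Not at hcon
    apply hCZ
    have hle : E₁ ≤ Z := by
      intro e he
      apply hZ1Z
      apply hE.center h he
      intro e' he'
      have := hcon ⟨e', he'⟩ ⟨e, he⟩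
      have := congrArg Subtype.val this
      simpa using this
    exact hE.h4.trans (sup_le hle le_rfl)

theorem IsE1.inf_centralizer (hE : IsE1 p C Z E₁) (h : Crit p C Z)
    (hcen : Cfsg.omegaOne p Z ≤ Subgroup.center G) :
    Subgroup.centralizer (E₁ : Set G) ⊓ E₁ = Cfsg.omegaOne p Z := by
  apply le_antisymm
  · intro x hx
    obtain ⟨hx1, hx2⟩ := Subgroup.mem_inf.1 hx
    apply hE.center h hx2
    intro e he
    rw [Subgroup.mem_centralizer_iff] at hx1
    exact hx1 e he
  · intro z hz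
    refine Subgroup.mem_inf.2 ⟨?_, hE.h1 hz⟩
    rw [Subgroup.mem_centralizer_iff]
    intro e _
    exact Subgroup.mem_center_iff.1 (hcen hz) e

theorem IsE1.sup_centralizer (hE : IsE1 p C Z E₁) (h : Crit p C Z)
    (hcard : Nat.card (Cfsg.omegaOne p Z) = p)
    (hcen : Cfsg.omegaOne p Z ≤ Subgroup.center G) :
    E₁ ⊔ Subgroup.centralizer (E₁ : Set G) = ⊤ := by
  have hcenZ : ∀ t ∈ Cfsg.omegaOne p Z, ∀ a : G, t * a = a * t := by
    intro t ht a
    exact ((Subgroup.mem_center_iff.1 (hcen ht)) a).symm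
  have hcount := pairing_count (⊤ : Subgroup G) E₁ (Cfsg.omegaOne p Z) hcard
    (by
      intro a _ b hb
      rw [← commutatorElement_inv]
      exact Subgroup.inv_mem _ ((h.omega_props (hE.h2 hb)).2.1 a))
    (fun t ht a _ => hcenZ t ht a) (fun t ht b _ => hcenZ t ht b)
  rw [top_inf_eq, Subgroup.card_top] at hcount
  have hB : E₁ ⊓ Subgroup.centralizer ((⊤ : Subgroup G) : Set G) = Cfsg.omegaOne p Z := by
    apply le_antisymm
    · intro x hx
      obtain ⟨hx1, hx2⟩ := Subgroup.mem_inf.1 hx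
      apply hE.center h hx1
      intro e _
      rw [Subgroup.mem_centralizer_iff] at hx2
      exact hx2 e (Subgroup.mem_top e)
    · intro z hz
      refine Subgroup.mem_inf.2 ⟨hE.h1 hz, ?_⟩
      rw [Subgroup.mem_centralizer_iff]
      intro a _
      exact (hcenZ z hz a).symm
  rw [hB, hcard] at hcount
  have hE1n : E₁.Normal := h.normal_of_le hE.h1 hE.h2
  have hprod := card_sup_mul_card_inf' (Subgroup.centralizer (E₁ : Set G)) E₁
  rw [hE.inf_centralizer h hcen, hcard, hcount] at hprod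
  have hppos := hp.out.pos
  have hcardeq : Nat.card (Subgroup.centralizer (E₁ : Set G) ⊔ E₁ : Subgroup G) = Nat.card G := by
    have : p * Nat.card (Subgroup.centralizer (E₁ : Set G) ⊔ E₁ : Subgroup G) = p * Nat.card G := by
      rw [mul_comm, hprod]
    exact Nat.eq_of_mul_eq_mul_left hppos this
  rw [sup_comm]
  exact eq_top_of_card_ge hcardeq.ge

theorem IsE1.Z_le_centralizer (hE : IsE1 p C Z E₁) (h : Crit p C Z) :
    Z ≤ Subgroup.centralizer (E₁ : Set G) := by
  intro z hz
  rw [Subgroup.mem_centralizer_iff]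
  intro e he
  exact (h.cent z hz e (hE.le_C h he)).symm

theorem IsE1.centralizer_inf_le (hE : IsE1 p C Z E₁) (h : Crit p C Z) :
    Subgroup.centralizer (E₁ : Set G) ⊓ Subgroup.centralizer (Z : Set G) ≤ Z := by
  intro g hg
  obtain ⟨hg1, hg2⟩ := Subgroup.mem_inf.1 hg
  apply h.self
  rw [Subgroup.mem_centralizer_iff]
  intro c hc
  have hle : E₁ ⊔ Z ≤ Subgroup.centralizer ({g} : Set G) := by
    apply sup_le
    · intro e he
      rw [Subgroup.mem_centralizer_iff]
      intro t ht
      rw [Set.mem_singleton_iff] at ht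
      subst ht
      rw [Subgroup.mem_centralizer_iff] at hg1
      exact (hg1 e he).symm
    · intro z hz
      rw [Subgroup.mem_centralizer_iff]
      intro t ht
      rw [Set.mem_singleton_iff] at ht
      subst ht
      rw [Subgroup.mem_centralizer_iff] at hg2
      exact (hg2 z hz).symm
  have := hle (hE.h4 hc)
  rw [Subgroup.mem_centralizer_iff] at this
  exact (this g rfl).symm

end extra2

/-! ### Part 12: merging a small nonabelian centralizer into the extraspecial part -/

section merge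

open Cfsg.Agent.Helper87

variable {G : Type*} [Group G] [Finite G] {p : ℕ} [hp : Fact p.Prime] {C Z E₁ : Subgroup G}

theorem IsE1.merge (hE : IsE1 p C Z E₁) (h : Crit p C Z) (hG : IsPGroup p G)
    (hCZ : ¬ C ≤ Z) (hcard : Nat.card (Cfsg.omegaOne p Z) = p)
    (hcen : Cfsg.omegaOne p Z ≤ Subgroup.center G)
    (hR3 : Nat.card (Subgroup.centralizer (E₁ : Set G)) = p ^ 3)
    (hRna : ∃ a b : Subgroup.centralizer (E₁ : Set G), a * b ≠ b * a) :
    Cfsg.IsExtraspecial p G := by
  set R : Subgroup G := Subgroup.centralizer (E₁ : Set G) with hRdef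
  have hZ1Z : Cfsg.omegaOne p Z ≤ Z := fun x hx => ((mem_omegaOne_of_comm h.Zab).1 hx).1
  have hZ1R : Cfsg.omegaOne p Z ≤ R := hZ1Z.trans (hE.Z_le_centralizer h)
  have hcenZ : ∀ t ∈ Cfsg.omegaOne p Z, ∀ a : G, t * a = a * t := by
    intro t ht a
    exact ((Subgroup.mem_center_iff.1 (hcen ht)) a).symm
  have hZ1n : (Cfsg.omegaOne p Z).Normal := by
    refine ⟨fun n hn g => ?_⟩
    have : g * n * g⁻¹ = n := by
      rw [← hcenZ n hn g]; group
    rw [this]; exact hn
  have hRes : Cfsg.IsExtraspecial p ↥R := Cfsg.Agent.Helper83.isExtraspecial_of_nonabelian_p3 hR3 hRna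
  obtain ⟨⟨_, _, hRcomm⟩, hRcencard⟩ := hRes
  have hcenR : Subgroup.center ↥R = (Cfsg.omegaOne p Z).subgroupOf R := by
    symm
    apply Subgroup.eq_of_le_of_card_ge
    · intro x hx
      rw [Subgroup.mem_center_iff]
      intro g
      apply Subtype.ext
      have := hcenZ _ (Subgroup.mem_subgroupOf.1 hx) (g : G)
      simpa using this.symm
    · rw [hRcencard, Nat.card_congr (Subgroup.subgroupOfEquivOfLe hZ1R).toEquiv, hcard]
  have hR1 : ∀ r ∈ R, ∀ r' ∈ R, ⁅r, r'⁆ ∈ Cfsg.omegaOne p Z := by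
    intro r hr r' hr'
    have h1 : ⁅(⟨r, hr⟩ : R), ⟨r', hr'⟩⁆ ∈ commutator ↥R := by
      rw [commutator_def]
      exact Subgroup.commutator_mem_commutator (Subgroup.mem_top _) (Subgroup.mem_top _)
    rw [hRcomm, hcenR, Subgroup.mem_subgroupOf] at h1
    have : ((⁅(⟨r, hr⟩ : R), ⟨r', hr'⟩⁆ : R) : G) = ⁅r, r'⁆ := by
      simp [commutatorElement_def]
    rwa [this] at h1
  have hR2 : ∀ r ∈ R, r ^ p ∈ Cfsg.omegaOne p Z := by
    intro r hr
    have h1 := Cfsg.Agent.Helper63.extraspecial_pow_mem_center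
      (⟨⟨hG.to_subgroup R, ‹_›, hRcomm⟩, hRcencard⟩ : Cfsg.IsExtraspecial p ↥R) ⟨r, hr⟩
    rw [hcenR, Subgroup.mem_subgroupOf] at h1
    simpa using h1
  have hR3' : ∀ r ∈ R, (∀ r' ∈ R, r' * r = r * r') → r ∈ Cfsg.omegaOne p Z := by
    intro r hr hc
    have h1 : (⟨r, hr⟩ : R) ∈ Subgroup.center ↥R := by
      rw [Subgroup.mem_center_iff]
      intro g
      apply Subtype.ext
      exact hc g g.2
    rw [hcenR, Subgroup.mem_subgroupOf] at h1
    exact h1
  have hE1n : E₁.Normal := h.normal_of_le hE.h1 hE.h2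
  have hsup := hE.sup_centralizer h hcard hcen
  have hdecomp : ∀ x : G, ∃ e ∈ E₁, ∃ r ∈ R, e * r = x := by
    intro x
    have hx : x ∈ E₁ ⊔ R := by rw [hsup]; exact Subgroup.mem_top x
    exact (Subgroup.mem_sup_of_normal_left (s := E₁)).1 hx
  have hRE : ∀ r ∈ R, ∀ e ∈ E₁, e * r = r * e := by
    intro r hr e he
    rw [hRdef, Subgroup.mem_centralizer_iff] at hr
    exact hr e he
  -- commutators with elements of R
  have hRG : ∀ r ∈ R, ∀ y : G, ⁅r, y⁆ ∈ Cfsg.omegaOne p Z := by
    intro r hr y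
    obtain ⟨e', he', r', hr', rfl⟩ := hdecomp y
    have h1 : ⁅r, e' * r'⁆ = ⁅r, e'⁆ * (e' * ⁅r, r'⁆ * e'⁻¹) := by
      simp only [commutatorElement_def]; group
    have h2 : ⁅r, e'⁆ = 1 := comm_eq_one_iff.2 (hRE r hr e' he').symm
    rw [h1, h2, one_mul]
    exact hZ1n.conj_mem _ (hR1 r hr r' hr') e'
  obtain ⟨x₁, hx₁, y₁, hy₁, hxy₁⟩ := h.exists_noncomm hCZ
  apply isExtraspecial_of_crit hG (Cfsg.omegaOne p Z) hcard hcen
  · intro x hx
    obtain ⟨e, he, r, hr, rfl⟩ := hdecomp x
    have hxc : ∀ g : G, g * (e * r) = (e * r) * g := Subgroup.mem_center_iff.1 hx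
    have heZ1 : e ∈ Cfsg.omegaOne p Z := by
      apply hE.center h he
      intro e' he'
      have h1 := hxc e'
      have h2 := hRE r hr e' he'
      have : e' * e = (e' * (e * r)) * r⁻¹ := by group
      rw [this, h1]
      have : e * r * e' * r⁻¹ = e * (r * e') * r⁻¹ := by group
      rw [this, ← h2]; group
    have hxR : e * r ∈ R := R.mul_mem (hZ1R heZ1) hr
    apply hR3' _ hxR
    intro r' _
    exact hxc r'
  · intro x y
    obtain ⟨e, he, r, hr, rfl⟩ := hdecomp x
    rw [commutatorElement_mul_left']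
    exact Subgroup.mul_mem _ (hZ1n.conj_mem _ (hRG r hr y) e) ((h.omega_props (hE.h2 he)).2.1 y)
  · intro x
    obtain ⟨e, he, r, hr, rfl⟩ := hdecomp x
    have hc : Commute e r := hRE r hr e he
    rw [hc.mul_pow]
    exact Subgroup.mul_mem _ (h.omega_props (hE.h2 he)).2.2 (hR2 r hr)
  · exact ⟨x₁, y₁, hxy₁⟩

end merge

/-! ### Part 13: the centralizer of the extraspecial part -/

section Rcases

open Cfsg.Agent.Helper87

variable {G : Type*} [Group G] [Finite G] {p : ℕ} [hp : Fact p.Prime] {C Z E₁ : Subgroup G}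

theorem mem_centralizer_closure {S : Set G} {g : G} (h : ∀ s ∈ S, s * g = g * s) :
    g ∈ Subgroup.centralizer ((Subgroup.closure S : Subgroup G) : Set G) := by
  rw [Subgroup.mem_centralizer_iff]
  intro y hy
  have hy' : y ∈ Subgroup.closure S := hy
  induction hy' using Subgroup.closure_induction with
  | mem s hs => exact h s hs
  | one => simp
  | mul a b _ _ iha ihb =>
    have ha := iha (by assumption)
    have hb := ihb (by assumption)
    calc a * b * g = a * (b * g) := by group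
      _ = a * (g * b) := by rw [hb]
      _ = (a * g) * b := by group
      _ = (g * a) * b := by rw [ha]
      _ = g * (a * b) := by group
  | inv a _ iha =>
    have ha := iha (by assumption)
    calc a⁻¹ * g = a⁻¹ * (g * a) * a⁻¹ := by group
      _ = a⁻¹ * (a * g) * a⁻¹ := by rw [ha]
      _ = g * a⁻¹ := by group

theorem mem_centralizer_powerClosure_iff {Z : Subgroup G} {g : G} :
    g ∈ Subgroup.centralizer ((Cfsg.powerClosure p 1 Z : Subgroup G) : Set G) ↔
      ∀ w ∈ Z, w ^ p * g = g * w ^ p := by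
  constructor
  · intro hg w hw
    rw [Subgroup.mem_centralizer_iff] at hg
    apply hg
    apply Subgroup.subset_closure
    exact ⟨w, hw, by rw [pow_one]⟩
  · intro hg
    unfold Cfsg.powerClosure
    apply mem_centralizer_closure
    rintro s ⟨w, hw, rfl⟩
    rw [pow_one]
    exact hg w hw

theorem mem_centralizer_powerClosure_subgroupOf_iff {R Z : Subgroup G} (hZR : Z ≤ R) {r : R} :
    r ∈ Subgroup.centralizer ((Cfsg.powerClosure p 1 (Z.subgroupOf R) : Subgroup R) : Set R) ↔
      ∀ w ∈ Z, w ^ p * (r : G) = (r : G) * w ^ p := by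
  rw [mem_centralizer_powerClosure_iff]
  constructor
  · intro hr w hw
    have := hr ⟨w, hZR hw⟩ (Subgroup.mem_subgroupOf.2 hw)
    have := congrArg Subtype.val this
    simpa using this
  · intro hr x hx
    apply Subtype.ext
    have := hr (x : G) (Subgroup.mem_subgroupOf.1 hx)
    simpa using this

theorem IsE1.R_cases (hE : IsE1 p C Z E₁) (h : Crit p C Z) (hG : IsPGroup p G)
    (hsymp : ∀ A : Subgroup G, A.Characteristic → IsMulCommutative A → IsCyclic A)
    (hCchar : C.Characteristic) (hZchar : Z.Characteristic) (hZcyc : IsCyclic Z)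
    (hk : ∃ z₀ ∈ Z, z₀ ^ p ≠ 1)
    (hcen : Cfsg.omegaOne p Z ≤ Subgroup.center G) :
    IsCyclic (Subgroup.centralizer (E₁ : Set G)) ∨
      (p = 2 ∧ 16 ≤ Nat.card (Subgroup.centralizer (E₁ : Set G)) ∧
        ((∃ m : ℕ, Nonempty (↥(Subgroup.centralizer (E₁ : Set G)) ≃* DihedralGroup m)) ∨
          (∃ m : ℕ, Nonempty (↥(Subgroup.centralizer (E₁ : Set G)) ≃* QuaternionGroup m)) ∨
          Cfsg.IsQuasiDihedral ↥(Subgroup.centralizer (E₁ : Set G)))) ∨
      (Nat.card (Subgroup.centralizer (E₁ : Set G)) = p ^ 3 ∧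
        ∃ a b : Subgroup.centralizer (E₁ : Set G), a * b ≠ b * a) := by
  set R : Subgroup G := Subgroup.centralizer (E₁ : Set G) with hRdef
  have hZR : Z ≤ R := hE.Z_le_centralizer h
  have hZn : Z.Normal := Subgroup.normal_of_characteristic Z
  by_cases hab : IsMulCommutative ↥R
  · left
    have hRZ : R = Z := by
      apply le_antisymm _ hZR
      intro r hr
      apply hE.centralizer_inf_le h
      refine Subgroup.mem_inf.2 ⟨hr, ?_⟩
      rw [Subgroup.mem_centralizer_iff]
      intro z hz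
      have := hab.is_comm.comm (⟨z, hZR hz⟩ : R) ⟨r, hr⟩
      exact congrArg Subtype.val this
    rw [hRZ]
    exact hZcyc
  · right
    have hna : ∃ a b : R, a * b ≠ b * a := by
      by_contra hcon
      push Not at hcon
      exact hab ⟨⟨hcon⟩⟩
    have hUn : (Z.subgroupOf R).Normal := hZn.subgroupOf R
    have hUcyc : IsCyclic (Z.subgroupOf R) :=
      isCyclic_of_surjective (Subgroup.subgroupOfEquivOfLe hZR).symm
        (Subgroup.subgroupOfEquivOfLe hZR).symm.surjective
    obtain ⟨n, hn⟩ := IsPGroup.iff_card.1 (hG.to_subgroup Z)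
    have hUcard : Nat.card (Z.subgroupOf R) = p ^ n := by
      rw [Nat.card_congr (Subgroup.subgroupOfEquivOfLe hZR).toEquiv, hn]
    have hCU : Subgroup.centralizer ((Z.subgroupOf R : Subgroup R) : Set R) = Z.subgroupOf R := by
      ext r
      constructor
      · intro hr
        rw [Subgroup.mem_subgroupOf]
        apply hE.centralizer_inf_le h
        refine Subgroup.mem_inf.2 ⟨r.2, ?_⟩
        rw [Subgroup.mem_centralizer_iff]
        intro z hz
        rw [Subgroup.mem_centralizer_iff] at hr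
        have := hr ⟨z, hZR hz⟩ (Subgroup.mem_subgroupOf.2 hz)
        exact congrArg Subtype.val this
      · intro hr
        rw [Subgroup.mem_centralizer_iff]
        intro x hx
        apply Subtype.ext
        exact h.Zab _ (Subgroup.mem_subgroupOf.1 hx) _ (Subgroup.mem_subgroupOf.1 hr)
    rcases Cfsg.Agent.S3761.result (hG.to_subgroup R) hab (Z.subgroupOf R) hUcyc n hUcard hCU with
      ⟨h2, hcR, hD⟩ | ⟨hrel, hel, hcΩ, hcharΩ⟩
    · by_cases h16 : 16 ≤ Nat.card ↥R
      · exact Or.inl ⟨h2, h16, hD⟩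
      · right
        subst h2
        exact ⟨card_eq_cube_of_lt hab hcR h16, hna⟩
    · by_cases hstar : ∀ e ∈ Cfsg.omegaOne p C, e ∈ Z → ∃ w ∈ Z, e = w ^ p
      · exfalso
        have hMG : (Subgroup.centralizer
            ((Cfsg.powerClosure p 1 (Z.subgroupOf R) : Subgroup R) : Set R)).map R.subtype =
            Subgroup.centralizer ((Cfsg.omegaOne p C : Subgroup G) : Set G) ⊓
              Subgroup.centralizer ((Cfsg.powerClosure p 1 Z : Subgroup G) : Set G) := by
          ext g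
          constructor
          · rintro ⟨r, hr, rfl⟩
            have hr' := (mem_centralizer_powerClosure_subgroupOf_iff hZR).1 hr
            refine Subgroup.mem_inf.2 ⟨?_, mem_centralizer_powerClosure_iff.2 hr'⟩
            rw [Subgroup.mem_centralizer_iff]
            intro e₀ he₀
            obtain ⟨e₁, he₁, z, hz, rfl⟩ :=
              (mem_sup_iff_of_normal hZn).1 (hE.h4 (h.omega_le he₀))
            have hzE₀ : z ∈ Cfsg.omegaOne p C := by
              have : z = e₁⁻¹ * (e₁ * z) := by group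
              rw [this]
              exact Subgroup.mul_mem _ (Subgroup.inv_mem _ (hE.h2 he₁)) he₀
            obtain ⟨w, hw, rfl⟩ := hstar z hzE₀ hz
            have h1 : e₁ * (r : G) = (r : G) * e₁ :=
              (Subgroup.mem_centralizer_iff.1 r.2) e₁ he₁
            have h2 := hr' w hw
            simp only [Subgroup.coe_subtype]
            calc e₁ * w ^ p * (r : G) = e₁ * (w ^ p * (r : G)) := by group
              _ = e₁ * ((r : G) * w ^ p) := by rw [h2]
              _ = (e₁ * (r : G)) * w ^ p := by group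
              _ = ((r : G) * e₁) * w ^ p := by rw [h1]
              _ = (r : G) * (e₁ * w ^ p) := by group
          · intro hg
            obtain ⟨hg1, hg2⟩ := Subgroup.mem_inf.1 hg
            have hgR : g ∈ R := Subgroup.centralizer_le hE.h2 hg1
            refine ⟨⟨g, hgR⟩, ?_, rfl⟩
            exact (mem_centralizer_powerClosure_subgroupOf_iff hZR).2
              (mem_centralizer_powerClosure_iff.1 hg2)
        have hE₀char : (Cfsg.omegaOne p C).Characteristic := omegaOne_characteristic p hCchar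
        have hZpchar : (Cfsg.powerClosure p 1 Z).Characteristic := powerClosure_characteristic p 1 hZchar
        have hMGchar : (Subgroup.centralizer ((Cfsg.omegaOne p C : Subgroup G) : Set G) ⊓
              Subgroup.centralizer ((Cfsg.powerClosure p 1 Z : Subgroup G) : Set G)).Characteristic :=
          @Subgroup.characteristic_inf _ _ _ _
            (@Subgroup.characteristic_centralizer _ _ _ hE₀char)
            (@Subgroup.characteristic_centralizer _ _ _ hZpchar)
        have hΩ := map_omegaOne p R (Subgroup.centralizer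
            ((Cfsg.powerClosure p 1 (Z.subgroupOf R) : Subgroup R) : Set R))
        rw [hMG] at hΩ
        have hchar := omegaOne_characteristic p hMGchar
        rw [← hΩ] at hchar
        apply false_of_char_elem (p := p) hsymp _ hchar
        · refine ⟨⟨⟨fun a b => ?_⟩⟩, ?_⟩
          · obtain ⟨x, hx, hxa⟩ := a.2
            obtain ⟨y, hy, hyb⟩ := b.2
            apply Subtype.ext
            have h1 := hel.1.is_comm.comm ⟨x, hx⟩ ⟨y, hy⟩
            have h2 : x * y = y * x := congrArg Subtype.val h1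
            have h3 : (x : G) * (y : G) = (y : G) * (x : G) := by
              have := congrArg Subtype.val h2
              simpa using this
            simp only [Subgroup.coe_subtype] at hxa hyb
            rw [Subgroup.coe_mul, Subgroup.coe_mul, ← hxa, ← hyb]
            exact h3
          · rintro a ⟨x, hx, rfl⟩
            have := hel.2 x hx
            have := congrArg Subtype.val this
            simpa using this
        · rw [Subgroup.card_map_of_injective R.subtype_injective, hcΩ]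
      · right
        push Not at hstar
        obtain ⟨e, he, heZ, hnp⟩ := hstar
        have hgen := gen_of_not_pth_power hG hZcyc heZ hnp
        have hep : e ^ p ∈ Cfsg.omegaOne p Z := (h.omega_props he).2.2
        have hepp : (e ^ p) ^ p = 1 := ((mem_omegaOne_of_comm h.Zab).1 hep).2
        have hZpow : ∀ w ∈ Z, w ^ p ∈ Cfsg.omegaOne p Z := by
          intro w hw
          obtain ⟨i, rfl⟩ := hgen w hw
          rw [← pow_mul, mul_comm, pow_mul]
          exact Subgroup.pow_mem _ hep i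
        have hMtop : Subgroup.centralizer
            ((Cfsg.powerClosure p 1 (Z.subgroupOf R) : Subgroup R) : Set R) = ⊤ := by
          rw [eq_top_iff]
          intro r _
          apply (mem_centralizer_powerClosure_subgroupOf_iff hZR).2
          intro w hw
          exact ((Subgroup.mem_center_iff.1 (hcen (hZpow w hw))) (r : G)).symm
        rw [hMtop, Subgroup.relIndex_top_right] at hrel
        have hZe : Z = Subgroup.zpowers e := by
          apply le_antisymm
          · intro z hz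
            obtain ⟨i, rfl⟩ := hgen z hz
            exact Subgroup.pow_mem _ (Subgroup.mem_zpowers e) i
          · rw [Subgroup.zpowers_le]; exact heZ
        have hord : orderOf e = p ^ 2 := by
          have hdvd : orderOf e ∣ p ^ 2 := by
            apply orderOf_dvd_of_pow_eq_one
            rw [pow_two, pow_mul]; exact hepp
          obtain ⟨m, hm, hme⟩ := (Nat.dvd_prime_pow hp.out).1 hdvd
          have hm2 : m = 2 := by
            by_contra hne
            have hm1 : m ≤ 1 := by omega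
            obtain ⟨z₀, hz₀, hz₀p⟩ := hk
            apply hz₀p
            obtain ⟨i, rfl⟩ := hgen z₀ hz₀
            have hep1 : e ^ p = 1 := by
              rw [← orderOf_dvd_iff_pow_eq_one, hme]
              calc p ^ m ∣ p ^ 1 := pow_dvd_pow p hm1
                _ = p := pow_one p
            rw [← pow_mul, mul_comm, pow_mul, hep1, one_pow]
          rw [hme, hm2]
        have hZcard : Nat.card Z = p ^ 2 := by
          rw [hZe, Nat.card_zpowers, hord]
        have hcardR : Nat.card ↥R = p ^ 3 := by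
          have h1 := Subgroup.card_mul_index (Z.subgroupOf R)
          rw [hrel, Nat.card_congr (Subgroup.subgroupOfEquivOfLe hZR).toEquiv, hZcard] at h1
          rw [← h1]; ring
        exact ⟨hcardR, hna⟩

end Rcases

/-! ### Part 14: the theorem -/

section final

variable {G : Type*} [Group G] [Finite G] {p : ℕ} [hp : Fact p.Prime]

theorem caseB_big (hG : IsPGroup p G)
    (hsymp : ∀ A : Subgroup G, A.Characteristic → IsMulCommutative A → IsCyclic A)
    {C Z : Subgroup G} (hCchar : C.Characteristic) (hZchar : Z.Characteristic) (hZcyc : IsCyclic Z)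
    (h : Crit p C Z) (hCZ : ¬ C ≤ Z) (hk : ∃ z₀ ∈ Z, z₀ ^ p ≠ 1) : Concl p G := by
  have hZne := h.Z_ne_bot hCZ
  have hcard := card_omegaOne_cyclic hG hZcyc hZne h.Zab
  have hcen := omegaOne_le_center hG hZchar hcard
  have hall := h.all_good hG hsymp hCchar hZchar hZcyc hCZ hk
  obtain ⟨E₁, h1, h2, h3, h4⟩ := h.exists_E1 hall
  have hE : IsE1 p C Z E₁ := ⟨h1, h2, h3, h4⟩
  have hes := hE.isExtraspecial h hG hCZ hcard hcen
  have hsup := hE.sup_centralizer h hcard hcen
  have hcomm : ∀ e ∈ E₁, ∀ r ∈ Subgroup.centralizer (E₁ : Set G), e * r = r * e :=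
    fun e he r hr => (Subgroup.mem_centralizer_iff.1 hr) e he
  rcases hE.R_cases h hG hsymp hCchar hZchar hZcyc hk hcen with hc | ⟨h2', h16, hD⟩ | ⟨h3', hna⟩
  · exact ⟨E₁, _, hcomm, hsup, Or.inr hes, Or.inl hc⟩
  · exact ⟨E₁, _, hcomm, hsup, Or.inr hes, Or.inr ⟨h2', h16, hD⟩⟩
  · exact concl_extraspecial (hE.merge h hG hCZ hcard hcen h3' hna)

theorem main (hG : IsPGroup p G)
    (hsymp : ∀ A : Subgroup G, A.Characteristic → IsMulCommutative A → IsCyclic A) : Concl p G := by
  obtain ⟨C, Z, hCchar, hZchar, hZcyc, h⟩ := exists_crit hG hsymp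
  by_cases hCZ : C ≤ Z
  · apply caseA hG hsymp Z hZchar hZcyc h.Zab
    exact (Subgroup.centralizer_le hCZ).trans h.self
  · by_cases hexp : ∀ z ∈ Z, z ^ p = 1
    · exact concl_extraspecial (caseB_small hG hZchar hZcyc h hCZ hexp)
    · push Not at hexp
      exact caseB_big hG hsymp hCchar hZchar hZcyc h hCZ hexp

end final

/-- Let G be a finite p-group of symplectic type: every characteristic abelian subgroup of G is cyclic. Then G = E ∗ R is a central product of subgroups E and R (they commute elementwise and generate G) where E is extraspecial or trivial, and R is cyclic, or p = 2 and R is dihedral, semidihedral or generalized quaternion of order at least 16. -/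
theorem result {G : Type*} [Group G] [Finite G] {p : ℕ} [Fact p.Prime] (hG : IsPGroup p G) (hsymp : ∀ A : Subgroup G, A.Characteristic → IsMulCommutative A → IsCyclic A) : ∃ E R : Subgroup G, (∀ e ∈ E, ∀ r ∈ R, e * r = r * e) ∧ E ⊔ R = ⊤ ∧ (E = ⊥ ∨ Cfsg.IsExtraspecial p ↥E) ∧ (IsCyclic R ∨ (p = 2 ∧ 16 ≤ Nat.card R ∧ ((∃ m : ℕ, Nonempty (↥R ≃* DihedralGroup m)) ∨ (∃ m : ℕ, Nonempty (↥R ≃* QuaternionGroup m)) ∨ Cfsg.IsQuasiDihedral ↥R))) := by
  exact main hG hsymp

end Cfsg.Agent.S3762
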