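import Cfsg.Statements.S3835
import Cfsg.Agent.Lib.Helper63.Heis
import Cfsg.Agent.Lib.Helper63.PGroup

set_option autoImplicit false
open Cfsg

namespace Cfsg.Agent.S3835

open Matrix
open scoped commutatorElement

/-- a `p`-group of permutations of fewer than `p²` points is commutative -/
lemma comm_of_pgroup_small {α : Type*} [Finite α] {p : ℕ} [Fact p.Prime]
    (P : Subgroup (Equiv.Perm α)) (hP : IsPGroup p P) (hn : Nat.card α < p ^ 2) (g h : P) :
    g * h = h * g := by
  have hp : p.Prime := Fact.out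
  have key : ∀ x : α, _root_.commutator P ≤ MulAction.stabilizer P x := by
    intro x
    obtain ⟨k, hk⟩ := hP.index (MulAction.stabilizer P x)
    have hle : (MulAction.stabilizer P x).index ≤ Nat.card α := by
      rw [MulAction.index_stabilizer]
      rw [← Set.ncard_univ]
      exact Set.ncard_le_ncard (Set.subset_univ _) Set.finite_univ
    have hk1 : k < 2 := by
      by_contra hk2
      push Not at hk2
      have : p ^ 2 ≤ p ^ k := Nat.pow_le_pow_right hp.pos hk2
      omega
    interval_cases k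
    · have : MulAction.stabilizer P x = ⊤ := Subgroup.index_eq_one.mp (by simpa using hk)
      rw [this]; exact le_top
    · have hidx : (MulAction.stabilizer P x).index = p := by simpa using hk
      have hN : (MulAction.stabilizer P x).Normal :=
        Cfsg.Agent.Helper63.normal_of_index_eq_prime hP _ hidx
      rw [← Subgroup.Normal.quotient_commutative_iff_commutator_le]
      have hc : Nat.card (↥P ⧸ MulAction.stabilizer P x) = p := by
        rw [← Subgroup.index_eq_card]; exact hidx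
      have := isCyclic_of_prime_card hc
      exact IsCyclic.isMulCommutative
  have h1 : ⁅g, h⁆ = 1 := by
    apply Subtype.ext
    ext x
    have hx : ⁅g, h⁆ ∈ MulAction.stabilizer P x := key x (Subgroup.commutator_mem_commutator (Subgroup.mem_top g) (Subgroup.mem_top h))
    rw [MulAction.mem_stabilizer_iff] at hx
    exact hx
  rw [commutatorElement_eq_one_iff_mul_comm] at h1
  exact h1


/-- the affine subgroup of `SL₃(ZMod p)`: matrices with last row `(0,0,1)` -/
def Aff (p : ℕ) [Fact p.Prime] : Subgroup (Matrix.SpecialLinearGroup (Fin 3) (ZMod p)) where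
  carrier := {M | M 2 0 = 0 ∧ M 2 1 = 0 ∧ M 2 2 = 1}
  mul_mem' := by
    rintro A B ⟨h0, h1, h2⟩ ⟨k0, k1, k2⟩
    simp only [Set.mem_ofPred_eq, Matrix.SpecialLinearGroup.coe_mul, Matrix.mul_apply,
      Fin.sum_univ_three, h0, h1, h2, k0, k1, k2]
    simp
  one_mem' := by
    simp
  inv_mem' := by
    rintro A ⟨h0, h1, h2⟩
    have h : (A * A⁻¹) = 1 := mul_inv_cancel A
    have e0 := congrArg (fun M : Matrix.SpecialLinearGroup (Fin 3) (ZMod p) => M 2 0) h
    have e1 := congrArg (fun M : Matrix.SpecialLinearGroup (Fin 3) (ZMod p) => M 2 1) h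
    have e2 := congrArg (fun M : Matrix.SpecialLinearGroup (Fin 3) (ZMod p) => M 2 2) h
    simp only [Matrix.SpecialLinearGroup.coe_mul, Matrix.mul_apply,
      Fin.sum_univ_three, h0, h1, h2] at e0 e1 e2
    simp at e0 e1 e2
    exact ⟨e0, e1, e2⟩

variable {p : ℕ} [Fact p.Prime]

lemma mem_Aff (M : Matrix.SpecialLinearGroup (Fin 3) (ZMod p)) :
    M ∈ Aff p ↔ M 2 0 = 0 ∧ M 2 1 = 0 ∧ M 2 2 = 1 := Iff.rfl

lemma qd_eq_Aff (p : ℕ) [Fact p.Prime] : Cfsg.qd p = Aff p := by
  unfold Cfsg.qd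
  exact Subgroup.closure_eq (Aff p)

/-- the affine plane `z = 1` -/
abbrev Plane (p : ℕ) : Type := {v : Fin 3 → ZMod p // v 2 = 1}

/-- coordinates on the plane -/
def planeEquiv (p : ℕ) : Plane p ≃ ZMod p × ZMod p where
  toFun v := (v.1 0, v.1 1)
  invFun t := ⟨![t.1, t.2, 1], by simp⟩
  left_inv v := by
    apply Subtype.ext
    funext i
    fin_cases i
    · simp
    · simp
    · simp [v.2]
  right_inv t := by simp

instance : Finite (Plane p) := Finite.of_equiv _ (planeEquiv p).symm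

omit [Fact p.Prime] in
lemma card_plane : Nat.card (Plane p) = p ^ 2 := by
  rw [Nat.card_congr (planeEquiv p), Nat.card_prod, Nat.card_zmod]
  ring

lemma mulVec_two (M : Aff p) (v : Plane p) :
    ((M : Matrix.SpecialLinearGroup (Fin 3) (ZMod p)).1 *ᵥ v.1) 2 = 1 := by
  obtain ⟨h0, h1, h2⟩ := M.2
  simp only [Matrix.mulVec, dotProduct, Fin.sum_univ_three]
  rw [h0, h1, h2, v.2]
  simp

instance : MulAction (Aff p) (Plane p) where
  smul M v := ⟨(M : Matrix.SpecialLinearGroup (Fin 3) (ZMod p)).1 *ᵥ v.1, mulVec_two M v⟩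
  one_smul v := by
    apply Subtype.ext
    show ((1 : Aff p) : Matrix.SpecialLinearGroup (Fin 3) (ZMod p)).1 *ᵥ v.1 = v.1
    simp
  mul_smul M N v := by
    apply Subtype.ext
    show ((M * N : Aff p) : Matrix.SpecialLinearGroup (Fin 3) (ZMod p)).1 *ᵥ v.1 =
      (M : Matrix.SpecialLinearGroup (Fin 3) (ZMod p)).1 *ᵥ
        ((N : Matrix.SpecialLinearGroup (Fin 3) (ZMod p)).1 *ᵥ v.1)
    simp [Matrix.mulVec_mulVec]

lemma smul_val (M : Aff p) (v : Plane p) :
    (M • v).1 = (M : Matrix.SpecialLinearGroup (Fin 3) (ZMod p)).1 *ᵥ v.1 := rfl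

/-- the permutation representation on the plane -/
def phi (p : ℕ) [Fact p.Prime] : Aff p →* Equiv.Perm (Plane p) := MulAction.toPermHom _ _

lemma phi_apply (M : Aff p) (v : Plane p) : phi p M v = M • v := rfl

lemma phi_injective : Function.Injective (phi p) := by
  rw [injective_iff_map_eq_one]
  intro M hM
  have h := fun v : Plane p => congrArg Subtype.val (DFunLike.congr_fun hM v)
  simp only [phi_apply, smul_val, Equiv.Perm.coe_one, id_eq] at h
  have h2 := h ⟨![0, 0, 1], by simp⟩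
  have h0 := h ⟨![1, 0, 1], by simp⟩
  have h1 := h ⟨![0, 1, 1], by simp⟩
  apply Subtype.ext
  apply Subtype.ext
  ext i j
  have a0 := congrFun h0 i
  have a1 := congrFun h1 i
  have a2 := congrFun h2 i
  simp only [Matrix.mulVec, dotProduct, Fin.sum_univ_three] at a0 a1 a2
  fin_cases i <;> fin_cases j <;> simp at a0 a1 a2 ⊢ <;> simp_all


open Cfsg.Agent.Helper63

/-- upper unitriangular matrix -/
def utMat (x : Heis 1 (ZMod p)) : Matrix (Fin 3) (Fin 3) (ZMod p) :=
  !![1, x.a 0, x.c; 0, 1, x.b 0; 0, 0, 1]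

lemma utMat_det (x : Heis 1 (ZMod p)) : (utMat x).det = 1 := by
  simp [utMat, Matrix.det_fin_three]

lemma utMat_mul (x y : Heis 1 (ZMod p)) : utMat (x * y) = utMat x * utMat y := by
  ext i j
  fin_cases i <;> fin_cases j <;>
    simp [utMat, Matrix.mul_apply, Fin.sum_univ_three, dotProduct] <;> ring

/-- the upper unitriangular subgroup, as a homomorphism from the Heisenberg group -/
def UT (p : ℕ) [Fact p.Prime] : Heis 1 (ZMod p) →* Aff p where
  toFun x := ⟨⟨utMat x, utMat_det x⟩,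
    (mem_Aff _).mpr ⟨by simp [utMat], by simp [utMat], by simp [utMat]⟩⟩
  map_one' := by
    apply Subtype.ext
    apply Subtype.ext
    ext i j
    fin_cases i <;> fin_cases j <;> simp [utMat]
  map_mul' x y := by
    apply Subtype.ext
    apply Subtype.ext
    exact utMat_mul x y

lemma UT_val (x : Heis 1 (ZMod p)) : ((UT p x : Aff p) : Matrix.SpecialLinearGroup (Fin 3) (ZMod p)).1 = utMat x := rfl

/-- lower elementary matrix -/
def ltMat (t : ZMod p) : Matrix (Fin 3) (Fin 3) (ZMod p) :=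
  !![1, 0, 0; t, 1, 0; 0, 0, 1]

lemma ltMat_det (t : ZMod p) : (ltMat t).det = 1 := by
  simp [ltMat, Matrix.det_fin_three]

lemma ltMat_add (s t : ZMod p) : ltMat (s + t) = ltMat s * ltMat t := by
  ext i j
  fin_cases i <;> fin_cases j <;>
    simp [ltMat, Matrix.mul_apply, Fin.sum_univ_three]

/-- the lower elementary subgroup -/
def LT (p : ℕ) [Fact p.Prime] : Multiplicative (ZMod p) →* Aff p where
  toFun t := ⟨⟨ltMat t.toAdd, ltMat_det _⟩,
    (mem_Aff _).mpr ⟨by simp [ltMat], by simp [ltMat], by simp [ltMat]⟩⟩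
  map_one' := by
    apply Subtype.ext
    apply Subtype.ext
    ext i j
    fin_cases i <;> fin_cases j <;> simp [ltMat]
  map_mul' x y := by
    apply Subtype.ext
    apply Subtype.ext
    exact ltMat_add _ _

lemma LT_val (t : Multiplicative (ZMod p)) : ((LT p t : Aff p) : Matrix.SpecialLinearGroup (Fin 3) (ZMod p)).1 = ltMat t.toAdd := rfl


lemma det_Aff (M : Aff p) :
    (M : Matrix.SpecialLinearGroup (Fin 3) (ZMod p)).1 0 0 * (M : Matrix.SpecialLinearGroup (Fin 3) (ZMod p)).1 1 1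
      - (M : Matrix.SpecialLinearGroup (Fin 3) (ZMod p)).1 0 1 * (M : Matrix.SpecialLinearGroup (Fin 3) (ZMod p)).1 1 0 = 1 := by
  obtain ⟨h0, h1, h2⟩ := M.2
  have hd := (M : Matrix.SpecialLinearGroup (Fin 3) (ZMod p)).2
  rw [Matrix.det_fin_three] at hd
  rw [h0, h1, h2] at hd
  linear_combination hd

lemma decomp (M : Aff p) (hc : (M : Matrix.SpecialLinearGroup (Fin 3) (ZMod p)).1 1 0 ≠ 0) :
    ∃ (x y : Heis 1 (ZMod p)) (t : Multiplicative (ZMod p)), M = UT p x * LT p t * UT p y := by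
  obtain ⟨h0, h1, h2⟩ := M.2
  have hd := det_Aff M
  set A := (M : Matrix.SpecialLinearGroup (Fin 3) (ZMod p)).1 with hA
  refine ⟨⟨![(A 0 0 - 1) / A 1 0], ![A 1 2], A 0 2⟩, ⟨![(A 1 1 - 1) / A 1 0], ![0], 0⟩,
    Multiplicative.ofAdd (A 1 0), ?_⟩
  apply Subtype.ext
  apply Subtype.ext
  show A = utMat _ * ltMat _ * utMat _
  ext i j
  fin_cases i <;> fin_cases j <;>
    simp [utMat, ltMat, Matrix.mul_apply, Fin.sum_univ_three, h0, h1, h2]
  · field_simp
    ring
  · field_simp
    linear_combination (-1 : ZMod p) * hd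
  · field_simp
    ring


lemma unit_eq_one_of_pow_odd (u : ℤˣ) {m : ℕ} (hm : Odd m) (h : u ^ m = 1) : u = 1 := by
  rcases Int.units_eq_one_or u with h1 | h1
  · exact h1
  · rw [h1, hm.neg_one_pow] at h
    exact absurd h (by decide)

noncomputable instance : Fintype (Plane p) := Fintype.ofFinite _

lemma sign_hom_odd {P : Type*} [Group P] [Finite P] (hodd : Odd (Nat.card P))
    (ψ : P →* Aff p) (x : P) : Equiv.Perm.sign (phi p (ψ x)) = 1 := by
  apply unit_eq_one_of_pow_odd _ hodd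
  rw [← map_pow, ← map_pow, ← map_pow, pow_card_eq_one', map_one, map_one, map_one]

lemma sign_UT (hp2 : p ≠ 2) (x : Heis 1 (ZMod p)) : Equiv.Perm.sign (phi p (UT p x)) = 1 := by
  apply sign_hom_odd
  rw [Heis.card_zmod]
  exact Odd.pow ((Fact.out : p.Prime).odd_of_ne_two hp2)

lemma sign_LT (hp2 : p ≠ 2) (t : Multiplicative (ZMod p)) :
    Equiv.Perm.sign (phi p (LT p t)) = 1 := by
  apply sign_hom_odd
  rw [Nat.card_eq_fintype_card, Fintype.card_multiplicative, ZMod.card]
  exact (Fact.out : p.Prime).odd_of_ne_two hp2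

lemma sign_phi (hp2 : p ≠ 2) (M : Aff p) : Equiv.Perm.sign (phi p M) = 1 := by
  have key : ∀ N : Aff p, (N : Matrix.SpecialLinearGroup (Fin 3) (ZMod p)).1 1 0 ≠ 0 →
      Equiv.Perm.sign (phi p N) = 1 := by
    intro N hN
    obtain ⟨x, y, t, h⟩ := decomp N hN
    rw [h, map_mul, map_mul, map_mul, map_mul, sign_UT hp2, sign_UT hp2, sign_LT hp2]
    simp
  by_cases hc : (M : Matrix.SpecialLinearGroup (Fin 3) (ZMod p)).1 1 0 = 0
  · have hd := det_Aff M
    have h00 : (M : Matrix.SpecialLinearGroup (Fin 3) (ZMod p)).1 0 0 ≠ 0 := by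
      intro h
      rw [h, hc] at hd
      simp at hd
    have h1 : Equiv.Perm.sign (phi p (LT p (Multiplicative.ofAdd 1) * M)) = 1 := by
      apply key
      show (ltMat (1 : ZMod p) * (M : Matrix.SpecialLinearGroup (Fin 3) (ZMod p)).1) 1 0 ≠ 0
      simp [ltMat, Matrix.mul_apply, Fin.sum_univ_three, hc, h00]
    rw [map_mul, map_mul, sign_LT hp2, one_mul] at h1
    exact h1
  · exact key M hc


lemma exists_embedding (hp2 : p ≠ 2) (n : ℕ) (hn : p ^ 2 ≤ n) :
    ∃ ψ : Aff p →* alternatingGroup (Fin n), Function.Injective ψ := by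
  classical
  have hcard : Fintype.card (Plane p) = p ^ 2 := by
    rw [← Nat.card_eq_fintype_card, card_plane]
  let ι : Plane p ↪ Fin n :=
    (Fintype.equivFinOfCardEq hcard).toEmbedding.trans (Fin.castLEEmb hn)
  let f : Plane p ≃ {x : Fin n // x ∈ Set.range ι} := Equiv.ofInjective ι ι.2
  let ψ0 : Aff p →* Equiv.Perm (Fin n) := (Equiv.Perm.extendDomainHom f).comp (phi p)
  have h0 : ∀ M, ψ0 M ∈ alternatingGroup (Fin n) := by
    intro M
    rw [Equiv.Perm.mem_alternatingGroup]
    show Equiv.Perm.sign (Equiv.Perm.extendDomain (phi p M) f) = 1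
    rw [Equiv.Perm.sign_extendDomain, sign_phi hp2]
  refine ⟨ψ0.codRestrict _ h0, ?_⟩
  intro M N h
  have h' : ψ0 M = ψ0 N := congrArg Subtype.val h
  exact phi_injective (Equiv.Perm.extendDomainHom_injective f h')

lemma UT_not_comm : ∃ x y : Heis 1 (ZMod p), UT p x * UT p y ≠ UT p y * UT p x := by
  refine ⟨⟨![1], ![0], 0⟩, ⟨![0], ![1], 0⟩, ?_⟩
  intro h
  have h1 := congrArg (fun N : Aff p => (N : Matrix.SpecialLinearGroup (Fin 3) (ZMod p)).1 0 2) h
  have : Nontrivial (ZMod p) := ZMod.nontrivial_iff.mpr (Fact.out : p.Prime).one_lt.ne'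
  simp [UT_val, utMat, Matrix.mul_apply, Fin.sum_univ_three] at h1


lemma not_involves (n : ℕ) (hn : n < p ^ 2) :
    ¬ Cfsg.Involves ↥(Cfsg.qd p) ↥(alternatingGroup (Fin n)) := by
  rintro ⟨K, R, hN, ⟨e⟩⟩
  let e' : ↥(Cfsg.qd p) ≃* Aff p := MulEquiv.subgroupCongr (qd_eq_Aff p)
  let f : ↥K →* Aff p := (e'.toMonoidHom.comp e.toMonoidHom).comp (QuotientGroup.mk' _)
  have hf : Function.Surjective f := by
    intro y
    obtain ⟨q, hq⟩ := QuotientGroup.mk'_surjective (R.subgroupOf K) (e.symm (e'.symm y))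
    refine ⟨q, ?_⟩
    show e' (e (QuotientGroup.mk' _ q)) = y
    rw [hq]
    simp
  have hU : IsPGroup p (UT p).range := by
    have h1 : IsPGroup p (Heis 1 (ZMod p)) := IsPGroup.of_card (n := 1 + 2 * 1) (Heis.card_zmod p)
    exact h1.of_surjective (UT p).rangeRestrict (UT p).rangeRestrict_surjective
  obtain ⟨Q, hQ⟩ := hU.exists_le_sylow
  obtain ⟨S, hS⟩ := Sylow.mapSurjective_surjective hf p Q
  -- `S` is commutative
  let ι : ↥K →* Equiv.Perm (Fin n) := (alternatingGroup (Fin n)).subtype.comp K.subtype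
  have hι : Function.Injective ι := by
    intro a b hab
    exact Subtype.ext (Subtype.ext hab)
  have hPg : IsPGroup p ((S : Subgroup K).map ι) := S.2.map ι
  have hScomm : ∀ a ∈ (S : Subgroup K), ∀ b ∈ (S : Subgroup K), a * b = b * a := by
    intro a ha b hb
    have := comm_of_pgroup_small ((S : Subgroup K).map ι) hPg (by simpa using hn)
      ⟨ι a, Subgroup.mem_map_of_mem ι ha⟩ ⟨ι b, Subgroup.mem_map_of_mem ι hb⟩
    have h2 : ι a * ι b = ι b * ι a := congrArg Subtype.val this
    rw [← map_mul, ← map_mul] at h2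
    exact hι h2
  obtain ⟨x, y, hxy⟩ := UT_not_comm (p := p)
  have hx : UT p x ∈ (Q : Subgroup (Aff p)) := hQ ⟨x, rfl⟩
  have hy : UT p y ∈ (Q : Subgroup (Aff p)) := hQ ⟨y, rfl⟩
  rw [← hS, Sylow.coe_mapSurjective] at hx hy
  obtain ⟨a, ha, hax⟩ := hx
  obtain ⟨b, hb, hby⟩ := hy
  apply hxy
  rw [← hax, ← hby, ← map_mul, ← map_mul, hScomm a ha b hb]


/-- Let p be an odd prime and n a natural number. The alternating group of degree n has a subgroup isomorphic to Qd(p) (the natural semidirect product of an elementary abelian group of order p² by SL₂(p)) if and only if n ≥ p²; and if n < p² then Qd(p) is not even involved in it. -/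
theorem result {p : ℕ} [Fact p.Prime] (hp : p ≠ 2) (n : ℕ) : ((∃ H : Subgroup (alternatingGroup (Fin n)), Nonempty (↥H ≃* ↥(Cfsg.qd p))) ↔ p ^ 2 ≤ n) ∧ (n < p ^ 2 → ¬ Cfsg.Involves ↥(Cfsg.qd p) ↥(alternatingGroup (Fin n))) := by
  refine ⟨⟨?_, ?_⟩, not_involves n⟩
  · rintro ⟨H, ⟨e⟩⟩
    by_contra hn
    push Not at hn
    apply not_involves (p := p) n hn
    have hb : (⊥ : Subgroup (alternatingGroup (Fin n))).subgroupOf H = ⊥ := Subgroup.bot_subgroupOf H
    have hN : ((⊥ : Subgroup (alternatingGroup (Fin n))).subgroupOf H).Normal := by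
      rw [hb]; infer_instance
    refine ⟨H, ⊥, hN, ⟨?_⟩⟩
    exact ((QuotientGroup.quotientMulEquivOfEq hb).trans QuotientGroup.quotientBot).trans e
  · intro hn
    obtain ⟨ψ, hψ⟩ := exists_embedding hp n hn
    refine ⟨ψ.range, ⟨?_⟩⟩
    exact ((MulEquiv.subgroupCongr (qd_eq_Aff p)).trans (MonoidHom.ofInjective hψ)).symm

end Cfsg.Agent.S3835
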