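import Mathlib
import Cfsg.Statements.S0563
import Cfsg.Agent.Lib.Helper90.KW.Main

set_option autoImplicit false
open Pointwise
open Cfsg

namespace Cfsg.Agent.S0563

/-- the image in `G` of a Sylow subgroup of a Hall subgroup `A` is a Hall subgroup of `G` -/
theorem hall_map_sylow {G : Type*} [Group G] [Finite G] (A : Subgroup G) (m : ℕ)
    (hG : Nat.card G = Nat.card A * m) (hcop : (Nat.card A).Coprime m) (p : ℕ)
    [hp : Fact p.Prime] (P : Sylow p A) :
    (Nat.card ((P : Subgroup A).map A.subtype)).Coprime
      ((P : Subgroup A).map A.subtype).index := by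
  have h1 := ((P : Subgroup A).map A.subtype).card_mul_index
  rw [Subgroup.card_map_of_injective A.subtype_injective, P.card_eq_multiplicity, hG] at h1
  rw [Subgroup.card_map_of_injective A.subtype_injective, P.card_eq_multiplicity]
  by_cases hpA : p ∣ Nat.card A
  · apply Nat.Coprime.pow_left
    rw [Nat.Prime.coprime_iff_not_dvd hp.out]
    intro hdvd
    obtain ⟨j, hj⟩ := hdvd
    rw [hj] at h1
    have hpm : ¬ p ∣ m := fun h => by
      have := Nat.dvd_gcd hpA h
      rw [hcop] at this
      exact hp.out.one_lt.ne' (Nat.dvd_one.mp this)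
    have h2 : p ^ ((Nat.card A).factorization p + 1) ∣ Nat.card A * m := by
      rw [← h1, pow_succ]
      exact ⟨j, by ring⟩
    have h3 := (Nat.Coprime.pow_left _
      ((Nat.Prime.coprime_iff_not_dvd hp.out).mpr hpm)).dvd_of_dvd_mul_right h2
    have h4 := (Nat.Prime.pow_dvd_iff_le_factorization hp.out Nat.card_pos.ne').mp h3
    omega
  · rw [Nat.factorization_eq_zero_of_not_dvd hpA, pow_zero]
    exact Nat.coprime_one_left _

/-- If a finite group G is the product AB of two nilpotent subgroups of coprime orders, then G is solvable, and for every Sylow p-subgroup P of A and Sylow q-subgroup Q of B the product set PQ is a subgroup. -/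
theorem result {G : Type*} [Group G] [Finite G] (A B : Subgroup G) (hA : Group.IsNilpotent A) (hB : Group.IsNilpotent B) (hcop : (Nat.card A).Coprime (Nat.card B)) (hAB : ∀ g : G, ∃ a ∈ A, ∃ b ∈ B, g = a * b) : Group.IsSolvable G ∧ ∀ (p q : ℕ) [Fact p.Prime] [Fact q.Prime] (P : Sylow p A) (Q : Sylow q B), ∃ S : Subgroup G, (S : Set G) = (((P : Subgroup A).map A.subtype : Subgroup G) : Set G) * (((Q : Subgroup B).map B.subtype : Subgroup G) : Set G) := by
  have hsol := Cfsg.Agent.Helper90.KW.solvable_of_coprime_nilpotent A B hA hB hcop hAB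
  refine ⟨hsol, ?_⟩
  intro p q _ _ P Q
  have hG := Cfsg.Agent.Helper90.KW.card_eq_of_prod hcop hAB
  have eP : ((P : Subgroup A).map A.subtype).subgroupOf A = P :=
    Subgroup.comap_map_eq_self_of_injective A.subtype_injective _
  have eQ : ((Q : Subgroup B).map B.subtype).subgroupOf B = Q :=
    Subgroup.comap_map_eq_self_of_injective B.subtype_injective _
  obtain ⟨S, hS⟩ := Cfsg.Agent.S0561.result A B ((P : Subgroup A).map A.subtype)
    ((Q : Subgroup B).map B.subtype) hAB (Subgroup.map_subtype_le _)
    (by rw [eP]; infer_instance) (Subgroup.map_subtype_le _) (by rw [eQ]; infer_instance)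
    (hall_map_sylow A _ hG hcop p P)
    (hall_map_sylow B _ (by rw [hG, mul_comm]) hcop.symm q Q) 1 1
  refine ⟨S, ?_⟩
  rw [hS, map_one, one_smul, one_smul]

end Cfsg.Agent.S0563
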