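-- Statement S0353: symmetric difference of two blocks of S(5,8,24) meeting in four points is a block.
import Cfsg.Statements.S0353
import Cfsg.Agent.Lib.Helper8.SteinerNumbers
import Mathlib

set_option autoImplicit false
open Cfsg

namespace Cfsg.Agent.S0353

open Cfsg.Agent.Helper8 Finset

theorem card_symmDiff_add_inter {α : Type*} [DecidableEq α] (A B : Finset α) :
    (symmDiff A B).card + 2 * (A ∩ B).card = A.card + B.card := by
  have h1 : (symmDiff A B).card = (A \ B).card + (B \ A).card := by
    rw [symmDiff_def, Finset.sup_eq_union, Finset.card_union_of_disjoint]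
    exact disjoint_sdiff_sdiff
  have h2 := Finset.card_sdiff_add_card_inter A B
  have h3 := Finset.card_sdiff_add_card_inter B A
  rw [Finset.inter_comm B A] at h3
  omega

/-- In an S(5, 8, 24), the symmetric difference of two blocks meeting in four points is a block. -/
theorem result {α : Type*} [Fintype α] [DecidableEq α] (hα : Fintype.card α = 24) {B : Set (Finset α)} (hB : Cfsg.IsSteinerSystem 5 8 B) {b c : Finset α} (hb : b ∈ B) (hc : c ∈ B) (h4 : (b ∩ c).card = 4) : symmDiff b c ∈ B := by
  classical
  have hkb : b.card = 8 := hB.1 b hb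
  have hkc : c.card = 8 := hB.1 c hc
  have hZcard : (symmDiff b c).card = 8 := by
    have := card_symmDiff_add_inter b c; omega
  -- parity of intersections with blocks
  have hev : ∀ x ∈ B, ∀ d ∈ B, Even (x ∩ d).card := by
    intro x hx d hd
    by_cases hxd : x = d
    · subst hxd
      rw [Finset.inter_self, hB.1 x hx]; decide
    · rcases inter_5_8_24 hα hB hx hd hxd with h | h | h <;> rw [h] <;> decide
  have hpar : ∀ d ∈ B, Even (symmDiff b c ∩ d).card := by
    intro d hd
    have h1 : symmDiff b c ∩ d = symmDiff (b ∩ d) (c ∩ d) := by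
      ext x; simp only [Finset.mem_inter, Finset.mem_symmDiff]; tauto
    have h2 := card_symmDiff_add_inter (b ∩ d) (c ∩ d)
    obtain ⟨m, hm⟩ := hev b hb d hd
    obtain ⟨n, hn⟩ := hev c hc d hd
    rw [h1]
    exact ⟨m + n - ((b ∩ d) ∩ (c ∩ d)).card, by omega⟩
  by_contra hZB
  have hle : ∀ d ∈ blocksF B, (symmDiff b c ∩ d).card ≤ 7 := by
    intro d hd
    rw [mem_blocksF] at hd
    by_contra h
    have h := not_le.mp h
    have hZd : symmDiff b c ∩ d = symmDiff b c :=
      Finset.eq_of_subset_of_card_le Finset.inter_subset_left (by omega)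
    have hdd : symmDiff b c ∩ d = d :=
      Finset.eq_of_subset_of_card_le Finset.inter_subset_right (by rw [hB.1 d hd]; omega)
    exact hZB (by rw [← hZd, hdd]; exact hd)
  have hm := moment_set hB (symmDiff b c) 5 le_rfl
  rw [hZcard, hα] at hm
  have h56 : Nat.choose 8 5 = 56 := by decide
  rw [h56] at hm
  simp only [Nat.sub_self, Nat.choose_zero_right, mul_one] at hm
  have hdiv : 6 ∣ ∑ d ∈ blocksF B, Nat.choose (symmDiff b c ∩ d).card 5 := by
    apply Finset.dvd_sum
    intro d hd
    have h1 := hle d hd
    obtain ⟨m, hm⟩ := hpar d (mem_blocksF.mp hd)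
    have hm3 : m ≤ 3 := by omega
    rw [hm]
    interval_cases m <;> decide
  rw [hm] at hdiv
  omega

end Cfsg.Agent.S0353
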