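-- Statement S0409: uniqueness of the Steiner system S(4,7,23).
import Cfsg.Statements.S0409
import Cfsg.Agent.Lib.Helper8.Ext23Design
import Mathlib

set_option autoImplicit false
open Cfsg

namespace Cfsg.Agent.S0409

open Cfsg.Agent.Helper8 Cfsg.Agent.S0410 Finset

/-- Uniqueness of the Steiner system S(4, 7, 23) up to isomorphism. -/
theorem result {α β : Type*} [Fintype α] [DecidableEq α] [Fintype β] [DecidableEq β] (hα : Fintype.card α = 23) (hβ : Fintype.card β = 23) {B : Set (Finset α)} {B' : Set (Finset β)} (hB : Cfsg.IsSteinerSystem 4 7 B) (hB' : Cfsg.IsSteinerSystem 4 7 B') : Cfsg.SetSystemIso B B' := by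
  classical
  obtain ⟨p⟩ : Nonempty α := Fintype.card_pos_iff.mp (by rw [hα]; norm_num)
  obtain ⟨p'⟩ : Nonempty β := Fintype.card_pos_iff.mp (by rw [hβ]; norm_num)
  have hX : Fintype.card {a : α // a ≠ p} = 22 := card_subtype_ne p 22 hα
  have hX' : Fintype.card {b : β // b ≠ p'} = 22 := card_subtype_ne p' 22 hβ
  have Ext := ext_of_steiner hα hB p
  have Ext' := ext_of_steiner hβ hB' p'
  obtain ⟨q⟩ : Nonempty {a : α // a ≠ p} := Fintype.card_pos_iff.mp (by rw [hX]; norm_num)
  obtain ⟨q'⟩ : Nonempty {b : β // b ≠ p'} := Fintype.card_pos_iff.mp (by rw [hX']; norm_num)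
  have hY := card_subtype_ne q 21 hX
  have hY' := card_subtype_ne q' 21 hX'
  have P := Ext.plane hX q
  have P' := Ext'.plane hX' q'
  obtain ⟨e, heL, he1, he2, heB⟩ := P.exists_iso hY hY' P'
  have hcX : Fintype.card {a : α // a ≠ p} = Fintype.card {b : β // b ≠ p'} :=
    hX.trans hX'.symm
  have hE : ∀ c ∈ dLines B p, c.image (extEquiv q q' e hcX) ∈ dLines B' p' := by
    apply lift_blocks q q' e
    · intro l hl; exact iso_mem e heL hl
    · intro O hO; rw [← he1]; exact mem_image_of_mem _ hO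
  have hH : ∀ h ∈ dOvals B p, h.image (extEquiv q q' e hcX) ∈ dOvals B' p' := by
    apply lift_hept q q' e
    · intro O hO; rw [← he2]; exact mem_image_of_mem _ hO
    · intro O hO; exact heB O hO
  have hc : Fintype.card α = Fintype.card β := hα.trans hβ.symm
  have hblock : ∀ b ∈ B, b.image (extEquiv p p' (extEquiv q q' e hcX) hc) ∈ B' :=
    lift_blocks p p' (extEquiv q q' e hcX) hE hH
  refine ⟨extEquiv p p' (extEquiv q q' e hcX) hc, ?_⟩
  have hsub : (fun b : Finset α => b.image (extEquiv p p' (extEquiv q q' e hcX) hc)) '' B ⊆ B' := by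
    rintro _ ⟨b, hb, rfl⟩
    exact hblock b hb
  apply Set.eq_of_subset_of_ncard_le hsub _ (Set.toFinite _)
  rw [Set.ncard_image_of_injective B
      (Finset.image_injective (extEquiv p p' (extEquiv q q' e hcX) hc).injective),
    ncard_eq_card_blocksF, ncard_eq_card_blocksF, card_blocks_4_7_23 hα hB,
    card_blocks_4_7_23 hβ hB']

end Cfsg.Agent.S0409
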