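-- Statement S0407: uniqueness of the Steiner system S(5,8,24).
import Cfsg.Statements.S0407
import Cfsg.Agent.S0409
import Cfsg.Agent.S0353
import Mathlib

set_option autoImplicit false
open Cfsg

namespace Cfsg.Agent.S0407

open Cfsg.Agent.Helper8 Cfsg.Agent.S0410 Finset

section

variable {α : Type*} [Fintype α] [DecidableEq α]

theorem sub_symmDiff (r : α) (b c : Finset α) :
    sub r (symmDiff b c) = symmDiff (sub r b) (sub r c) := by
  ext x
  simp only [Cfsg.Agent.Helper8.mem_sub, mem_symmDiff]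

variable (hα : Fintype.card α = 24) {B : Set (Finset α)} (hB : IsSteinerSystem 5 8 B) (r : α)

include hα hB in
theorem card_blocks_5_8_24 : (blocksF B).card = 759 := by
  have h := card_blocks hB
  rw [hα] at h
  norm_num [Nat.choose] at h
  omega

include hα hB in
/-- The blocks off `r` are the symmetric differences of two blocks through `r` that share four
points. -/
theorem mem_dOvals_iff {O : Finset {a : α // a ≠ r}} :
    O ∈ dOvals B r ↔ ∃ h1 ∈ dLines B r, ∃ h2 ∈ dLines B r, (h1 ∩ h2).card = 3 ∧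
      O = symmDiff h1 h2 := by
  constructor
  · intro hO
    obtain ⟨b, hb, hrb, rfl⟩ := (mem_dOvals r).mp hO
    have hb8 : b.card = 8 := hB.1 b hb
    obtain ⟨T0, hT0, hT04⟩ := exists_subset_card_eq (show 4 ≤ b.card by omega)
    have hrT : r ∉ T0 := fun h => hrb (hT0 h)
    obtain ⟨A, ⟨hA, hFA⟩, -⟩ := hB.2 (insert r T0) (by rw [card_insert_of_notMem hrT, hT04])
    have hrA : r ∈ A := hFA (mem_insert_self r T0)
    have hAb : A ≠ b := by rintro rfl; exact hrb hrA
    have h4 : (A ∩ b).card = 4 := by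
      have hge : 4 ≤ (A ∩ b).card := by
        rw [← hT04]
        exact card_le_card (subset_inter ((subset_insert r T0).trans hFA) hT0)
      rcases inter_5_8_24 hα hB hA hb hAb with h | h | h <;> omega
    have hC : symmDiff A b ∈ B := Cfsg.Agent.S0353.result hα hB hA hb h4
    have hrC : r ∈ symmDiff A b := by
      rw [mem_symmDiff]; exact Or.inl ⟨hrA, hrb⟩
    have hAC : A ∩ symmDiff A b = A \ b := by
      ext x
      simp only [mem_inter, mem_symmDiff, mem_sdiff]
      tauto
    have hAC4 : (A ∩ symmDiff A b).card = 4 := by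
      rw [hAC]
      have := card_sdiff_add_card_inter A b
      rw [h4, hB.1 A hA] at this
      omega
    refine ⟨sub r A, ⟨A, hA, hrA, rfl⟩, sub r (symmDiff A b), ⟨_, hC, hrC, rfl⟩, ?_, ?_⟩
    · rw [sub_inter]
      have := card_sub_of_mem r (mem_inter.mpr ⟨hrA, hrC⟩)
      omega
    · rw [← sub_symmDiff, symmDiff_symmDiff_cancel_left]
  · rintro ⟨h1, ⟨A, hA, hrA, rfl⟩, h2, ⟨C, hC, hrC, rfl⟩, h3, rfl⟩
    rw [sub_inter] at h3
    have h4 : (A ∩ C).card = 4 := by
      have := card_sub_of_mem r (mem_inter.mpr ⟨hrA, hrC⟩)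
      omega
    have hD : symmDiff A C ∈ B := Cfsg.Agent.S0353.result hα hB hA hC h4
    have hrD : r ∉ symmDiff A C := by
      rw [mem_symmDiff]; tauto
    rw [← sub_symmDiff]
    exact (mem_dOvals r).mpr ⟨_, hD, hrD, rfl⟩

end

/-- Uniqueness of the Steiner system S(5, 8, 24) up to isomorphism. -/
theorem result {α β : Type*} [Fintype α] [DecidableEq α] [Fintype β] [DecidableEq β] (hα : Fintype.card α = 24) (hβ : Fintype.card β = 24) {B : Set (Finset α)} {B' : Set (Finset β)} (hB : Cfsg.IsSteinerSystem 5 8 B) (hB' : Cfsg.IsSteinerSystem 5 8 B') : Cfsg.SetSystemIso B B' := by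
  classical
  obtain ⟨r⟩ : Nonempty α := Fintype.card_pos_iff.mp (by rw [hα]; norm_num)
  obtain ⟨r'⟩ : Nonempty β := Fintype.card_pos_iff.mp (by rw [hβ]; norm_num)
  have hX : Fintype.card {a : α // a ≠ r} = 23 := card_subtype_ne r 23 hα
  have hX' : Fintype.card {b : β // b ≠ r'} = 23 := card_subtype_ne r' 23 hβ
  have hE : IsSteinerSystem 4 7 (dLines B r) := Cfsg.Agent.S0351.result (t := 4) (k := 7) hB r
  have hE' : IsSteinerSystem 4 7 (dLines B' r') :=
    Cfsg.Agent.S0351.result (t := 4) (k := 7) hB' r'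
  obtain ⟨σ, hσ⟩ := Cfsg.Agent.S0409.result hX hX' hE hE'
  have h1 : ∀ l ∈ dLines B r, l.image σ ∈ dLines B' r' := fun l hl => iso_mem σ hσ hl
  have h2 : ∀ O ∈ dOvals B r, O.image σ ∈ dOvals B' r' := by
    intro O hO
    obtain ⟨k1, hk1, k2, hk2, h3, rfl⟩ := (mem_dOvals_iff hα hB r).mp hO
    rw [mem_dOvals_iff hβ hB' r']
    refine ⟨k1.image σ, h1 k1 hk1, k2.image σ, h1 k2 hk2, ?_, ?_⟩
    · rw [← image_inter _ _ σ.injective, card_image_of_injective _ σ.injective, h3]
    · exact image_symmDiff k1 k2 σ.injective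
  have hc : Fintype.card α = Fintype.card β := hα.trans hβ.symm
  have hblock : ∀ b ∈ B, b.image (extEquiv r r' σ hc) ∈ B' := lift_blocks r r' σ h1 h2
  refine ⟨extEquiv r r' σ hc, ?_⟩
  have hsub : (fun b : Finset α => b.image (extEquiv r r' σ hc)) '' B ⊆ B' := by
    rintro _ ⟨b, hb, rfl⟩
    exact hblock b hb
  apply Set.eq_of_subset_of_ncard_le hsub _ (Set.toFinite _)
  rw [Set.ncard_image_of_injective B (Finset.image_injective (extEquiv r r' σ hc).injective),
    ncard_eq_card_blocksF, ncard_eq_card_blocksF, card_blocks_5_8_24 hα hB,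
    card_blocks_5_8_24 hβ hB']

end Cfsg.Agent.S0407
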