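import Cfsg.Statements.S0375
import Cfsg.Agent.Lib.Helper8.GolayUnique
import Cfsg.Agent.S0407
import Cfsg.Agent.S0358
import Cfsg.Agent.S0359

set_option autoImplicit false
open Cfsg

namespace Cfsg.Agent.S0375

open Cfsg.Agent.Helper8.GolayUnique Finset

theorem funLeft_ind {α β : Type*} [Fintype α] [DecidableEq α] [Fintype β] [DecidableEq β]
    (e : α ≃ β) (O : Finset β) :
    (fun i => ind O (e i)) = ind (O.image e.symm) := by
  ext i
  unfold ind
  have : i ∈ O.image e.symm ↔ e i ∈ O := by
    rw [mem_image]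
    constructor
    · rintro ⟨a, ha, rfl⟩
      rwa [Equiv.apply_symm_apply]
    · intro h
      exact ⟨e i, h, e.symm_apply_apply i⟩
  by_cases h : e i ∈ O
  · rw [if_pos h, if_pos (this.mpr h)]
  · rw [if_neg h, if_neg (fun h' => h (this.mp h'))]

/-- A doubly even self-dual binary code of length 24 with no words of weight 4 is equivalent to the length-24 code built from the squares modulo 23. -/
theorem result (C : Submodule (ZMod 2) (Fin 24 → ZMod 2)) (hdim : Module.finrank (ZMod 2) C = 12) (horth : ∀ v ∈ C, ∀ w ∈ C, ∑ i, v i * w i = 0) (h4 : ∀ w ∈ C, 4 ∣ hammingNorm w) (hno4 : ∀ w ∈ C, hammingNorm w ≠ 4) : ∃ e : Fin 24 ≃ Cfsg.GolayPt, ∀ w : Cfsg.GolayPt → ZMod 2, w ∈ Cfsg.golayCode ↔ (fun i => w (e i)) ∈ C := by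
  have hC : IsGolayLike C := ⟨by rw [Fintype.card_fin], hdim, h4, hno4⟩
  have hG : IsGolayLike Cfsg.golayCode := by
    refine ⟨by decide, Cfsg.Agent.S0358.result, ?_, ?_⟩
    · intro w hw
      rcases Cfsg.Agent.S0359.result w hw with h | h | h | h | h <;> rw [h] <;> norm_num
    · intro w hw
      rcases Cfsg.Agent.S0359.result w hw with h | h | h | h | h <;> rw [h] <;> norm_num
  obtain ⟨e, he⟩ := Cfsg.Agent.S0407.result (by rw [Fintype.card_fin]) (by decide)
    (octads_steiner hC) (octads_steiner hG)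
  refine ⟨e, ?_⟩
  let Φ : (Cfsg.GolayPt → ZMod 2) →ₗ[ZMod 2] (Fin 24 → ZMod 2) :=
    LinearMap.funLeft (ZMod 2) (ZMod 2) e
  have hΦ : ∀ w, Φ w = fun i => w (e i) := fun w => rfl
  have hΦinj : Function.Injective Φ := by
    intro w w' h
    ext p
    have := congrFun h (e.symm p)
    rw [hΦ, hΦ] at this
    simpa using this
  have hmap : Submodule.map Φ Cfsg.golayCode = C := by
    rw [← span_octads hG, ← span_octads hC, Submodule.map_span]
    congr 1
    ext v
    constructor
    · rintro ⟨_, ⟨O, hO, rfl⟩, rfl⟩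
      rw [hΦ, funLeft_ind]
      refine ⟨O.image e.symm, ?_, rfl⟩
      rw [← he] at hO
      obtain ⟨b, hb, rfl⟩ := hO
      have : (b.image e).image e.symm = b := by
        rw [image_image]
        simp
      rw [this]
      exact hb
    · rintro ⟨b, hb, rfl⟩
      refine ⟨ind (b.image e), ⟨b.image e, ?_, rfl⟩, ?_⟩
      · rw [← he]
        exact ⟨b, hb, rfl⟩
      · rw [hΦ, funLeft_ind]
        congr 1
        rw [image_image]
        simp
  intro w
  constructor
  · intro hw
    rw [← hmap]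
    exact ⟨w, hw, rfl⟩
  · intro hw
    have : Φ w ∈ Submodule.map Φ Cfsg.golayCode := by rw [hmap]; exact hw
    obtain ⟨w', hw', hww⟩ := this
    rw [← hΦinj hww]
    exact hw'

end Cfsg.Agent.S0375
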