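import Cfsg.Statements.S0388
import Mathlib
import Cfsg.Agent.Lib.Helper95.SharpSimple
import Cfsg.Agent.Lib.Helper95.SubAct
import Cfsg.Agent.S0384

set_option autoImplicit false
open scoped Pointwise
open Cfsg

namespace Cfsg.Agent.S0388

open MulAction Cfsg.Agent.Helper95

theorem inv_erase (d : Finset Cfsg.GolayPt) (p : Cfsg.GolayPt) :
    ∀ g ∈ stabilizer Cfsg.M24 d ⊓ stabilizer Cfsg.M24 p,
      ∀ x ∈ ((d.erase p : Finset Cfsg.GolayPt) : Set Cfsg.GolayPt),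
        g • x ∈ ((d.erase p : Finset Cfsg.GolayPt) : Set Cfsg.GolayPt) := by
  intro g hg x hx
  rw [Subgroup.mem_inf] at hg
  obtain ⟨hgd, hgp⟩ := hg
  rw [mem_stabilizer_iff] at hgd hgp
  rw [Finset.mem_coe, Finset.mem_erase] at hx ⊢
  refine ⟨fun h => hx.1 ?_, ?_⟩
  · rw [← hgp] at h
    exact smul_left_cancel g h
  · have := Finset.smul_mem_smul_finset (a := g) hx.2
    rw [hgd] at this
    exact this

theorem sharp4 (d : Finset Cfsg.GolayPt) (hd : d ∈ Cfsg.dodecads) (p : Cfsg.GolayPt) (hp : p ∈ d)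
    (x y : Fin 4 ↪ Cfsg.GolayPt)
    (hx : ∀ i, x i ∈ ((d.erase p : Finset Cfsg.GolayPt) : Set Cfsg.GolayPt))
    (hy : ∀ i, y i ∈ ((d.erase p : Finset Cfsg.GolayPt) : Set Cfsg.GolayPt)) :
    ∃! g : ↥(stabilizer Cfsg.M24 d ⊓ stabilizer Cfsg.M24 p), ∀ i, (g : Cfsg.M24) • x i = y i := by
  have hx' : ∀ i, x i ≠ p ∧ x i ∈ d := fun i => by
    have := hx i
    rwa [Finset.mem_coe, Finset.mem_erase] at this
  have hy' : ∀ i, y i ≠ p ∧ y i ∈ d := fun i => by
    have := hy i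
    rwa [Finset.mem_coe, Finset.mem_erase] at this
  let x5 : Fin 5 ↪ Cfsg.GolayPt := ⟨Fin.cons p (x : Fin 4 → Cfsg.GolayPt), by
    rw [Fin.cons_injective_iff]
    refine ⟨?_, x.injective⟩
    rintro ⟨i, hi⟩
    exact (hx' i).1 hi⟩
  let y5 : Fin 5 ↪ Cfsg.GolayPt := ⟨Fin.cons p (y : Fin 4 → Cfsg.GolayPt), by
    rw [Fin.cons_injective_iff]
    refine ⟨?_, y.injective⟩
    rintro ⟨i, hi⟩
    exact (hy' i).1 hi⟩
  have hx5 : ∀ i, x5 i ∈ d := by
    intro i
    refine Fin.cases ?_ (fun j => ?_) i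
    · exact hp
    · exact (hx' j).2
  have hy5 : ∀ i, y5 i ∈ d := by
    intro i
    refine Fin.cases ?_ (fun j => ?_) i
    · exact hp
    · exact (hy' j).2
  obtain ⟨g0, hg0, hg0u⟩ := Cfsg.Agent.S0384.result d hd x5 y5 hx5 hy5
  have hg0p : (g0 : Cfsg.M24) • p = p := hg0 0
  have hg0s : ∀ j : Fin 4, (g0 : Cfsg.M24) • x j = y j := fun j => hg0 j.succ
  refine ⟨⟨g0.1, ⟨g0.2, hg0p⟩⟩, hg0s, ?_⟩
  intro g' hg'
  have h1 : (⟨g'.1, g'.2.1⟩ : stabilizer Cfsg.M24 d) = g0 := by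
    apply hg0u
    intro i
    refine Fin.cases ?_ (fun j => ?_) i
    · exact g'.2.2
    · exact hg' j
  apply Subtype.ext
  exact congrArg (fun z : stabilizer Cfsg.M24 d => (z : Cfsg.M24)) h1

/-- The stabiliser of a dodecad and a point on it is simple. -/
theorem result (d : Finset Cfsg.GolayPt) (hd : d ∈ Cfsg.dodecads) (p : Cfsg.GolayPt) (hp : p ∈ d) : IsSimpleGroup ↥(MulAction.stabilizer Cfsg.M24 d ⊓ MulAction.stabilizer Cfsg.M24 p) := by
  classical
  have hdcard : d.card = 12 := hd.2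
  have : Fintype (subAct (stabilizer Cfsg.M24 d ⊓ stabilizer Cfsg.M24 p)
      ((d.erase p : Finset Cfsg.GolayPt) : Set Cfsg.GolayPt) (inv_erase d p)) :=
    Fintype.ofFinite _
  have hn : Fintype.card (subAct (stabilizer Cfsg.M24 d ⊓ stabilizer Cfsg.M24 p)
      ((d.erase p : Finset Cfsg.GolayPt) : Set Cfsg.GolayPt) (inv_erase d p)) = 11 := by
    rw [← Nat.card_eq_fintype_card]
    have : Nat.card (subAct (stabilizer Cfsg.M24 d ⊓ stabilizer Cfsg.M24 p)
        ((d.erase p : Finset Cfsg.GolayPt) : Set Cfsg.GolayPt) (inv_erase d p)) =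
        Nat.card ((d.erase p : Finset Cfsg.GolayPt) : Set Cfsg.GolayPt) := rfl
    rw [this, Nat.card_coe_set_eq, Set.ncard_coe_finset, Finset.card_erase_of_mem hp, hdcard]
  have hne : Nonempty (Fin 4 ↪ subAct (stabilizer Cfsg.M24 d ⊓ stabilizer Cfsg.M24 p)
      ((d.erase p : Finset Cfsg.GolayPt) : Set Cfsg.GolayPt) (inv_erase d p)) :=
    Function.Embedding.nonempty_of_card_le (by rw [Fintype.card_fin, hn]; norm_num)
  obtain ⟨h4, hsharp, hfaith⟩ := sharp_of_existsUnique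
    (stabilizer Cfsg.M24 d ⊓ stabilizer Cfsg.M24 p)
    ((d.erase p : Finset Cfsg.GolayPt) : Set Cfsg.GolayPt) (inv_erase d p) 4 hne
    (fun x y hx hy => sharp4 d hd p hp x y hx hy)
  apply simple_of_sharp
    (H := ↥(stabilizer Cfsg.M24 d ⊓ stabilizer Cfsg.M24 p))
    (α := subAct (stabilizer Cfsg.M24 d ⊓ stabilizer Cfsg.M24 p)
      ((d.erase p : Finset Cfsg.GolayPt) : Set Cfsg.GolayPt) (inv_erase d p)) 4
    (by norm_num) (by norm_num) (by rw [hn]; norm_num) hsharp 720 (by rw [hn]; decide)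
    (by norm_num) (by rw [hn]; decide)
  intro f idx hf hfi hmod
  rw [hn] at hf
  interval_cases f <;> first | decide | (exfalso; omega)

end Cfsg.Agent.S0388
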