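import Cfsg.Statements.S0572
import Mathlib

set_option autoImplicit false
open Cfsg

namespace Cfsg.Agent.S0572

open scoped commutatorElement

variable {G : Type*} [Group G]

lemma comm_mul_right_of_comm {a b₂ a₂ : G} (h : a * a₂ = a₂ * a) : ⁅a, b₂ * a₂⁆ = ⁅a, b₂⁆ := by
  rw [commutatorElement_def, commutatorElement_def]
  have h' : a₂ * a⁻¹ = a⁻¹ * a₂ := by
    calc a₂ * a⁻¹ = a⁻¹ * (a * a₂) * a⁻¹ := by group
      _ = a⁻¹ * (a₂ * a) * a⁻¹ := by rw [h]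
      _ = a⁻¹ * a₂ := by group
  calc a * (b₂ * a₂) * a⁻¹ * (b₂ * a₂)⁻¹ = a * b₂ * (a₂ * a⁻¹) * a₂⁻¹ * b₂⁻¹ := by group
    _ = a * b₂ * (a⁻¹ * a₂) * a₂⁻¹ * b₂⁻¹ := by rw [h']
    _ = a * b₂ * a⁻¹ * b₂⁻¹ := by group

lemma comm_mul_left_of_comm {a₃ b₃ b₂ : G} (h : b₃ * b₂ = b₂ * b₃) : ⁅a₃ * b₃, b₂⁆ = ⁅a₃, b₂⁆ := by
  rw [commutatorElement_def, commutatorElement_def]
  calc a₃ * b₃ * b₂ * (a₃ * b₃)⁻¹ * b₂⁻¹ = a₃ * (b₃ * b₂) * b₃⁻¹ * a₃⁻¹ * b₂⁻¹ := by group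
    _ = a₃ * (b₂ * b₃) * b₃⁻¹ * a₃⁻¹ * b₂⁻¹ := by rw [h]
    _ = a₃ * b₂ * a₃⁻¹ * b₂⁻¹ := by group

lemma conj_comm (g x y : G) : g * ⁅x, y⁆ * g⁻¹ = ⁅g * x * g⁻¹, g * y * g⁻¹⁆ := by
  rw [commutatorElement_def, commutatorElement_def]; group

lemma conj_eq_of_comm {g x : G} (h : g * x = x * g) : g * x * g⁻¹ = x := by
  rw [h]; group

/-- The key identity of Itô's theorem. -/
lemma key (A B : Subgroup G) [IsMulCommutative A] [IsMulCommutative B]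
    (hAB : ∀ g : G, ∃ a ∈ A, ∃ b ∈ B, g = a * b) {a a₁ b b₁ : G}
    (ha : a ∈ A) (ha₁ : a₁ ∈ A) (hb : b ∈ B) (hb₁ : b₁ ∈ B) :
    b₁ * (a₁ * ⁅a, b⁆ * a₁⁻¹) * b₁⁻¹ = a₁ * (b₁ * ⁅a, b⁆ * b₁⁻¹) * a₁⁻¹ := by
  -- a₁ b a₁⁻¹ = b₂ a₂
  obtain ⟨a₂', ha₂', b₂', hb₂', h2⟩ := hAB (a₁ * b * a₁⁻¹)⁻¹
  have h2' : a₁ * b * a₁⁻¹ = b₂'⁻¹ * a₂'⁻¹ := by
    rw [← inv_inv (a₁ * b * a₁⁻¹), h2]; group
  set b₂ := b₂'⁻¹ with hb₂def
  set a₂ := a₂'⁻¹ with ha₂def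
  have hb₂ : b₂ ∈ B := B.inv_mem hb₂'
  have ha₂ : a₂ ∈ A := A.inv_mem ha₂'
  -- b₁ a b₁⁻¹ = a₃ b₃
  obtain ⟨a₃, ha₃, b₃, hb₃, h3⟩ := hAB (b₁ * a * b₁⁻¹)
  have cA : ∀ x ∈ A, ∀ y ∈ A, x * y = y * x := fun x hx y hy => setLike_mul_comm hx hy
  have cB : ∀ x ∈ B, ∀ y ∈ B, x * y = y * x := fun x hx y hy => setLike_mul_comm hx hy
  have X : b₁ * (a₁ * ⁅a, b⁆ * a₁⁻¹) * b₁⁻¹ = ⁅a₃, b₂⁆ := by
    rw [conj_comm a₁, conj_eq_of_comm (cA a₁ ha₁ a ha), h2', comm_mul_right_of_comm (cA a ha a₂ ha₂),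
      conj_comm b₁, h3, conj_eq_of_comm (cB b₁ hb₁ b₂ hb₂), comm_mul_left_of_comm (cB b₃ hb₃ b₂ hb₂)]
  have Y : a₁ * (b₁ * ⁅a, b⁆ * b₁⁻¹) * a₁⁻¹ = ⁅a₃, b₂⁆ := by
    rw [conj_comm b₁, h3, conj_eq_of_comm (cB b₁ hb₁ b hb), comm_mul_left_of_comm (cB b₃ hb₃ b hb),
      conj_comm a₁, conj_eq_of_comm (cA a₁ ha₁ a₃ ha₃), h2', comm_mul_right_of_comm (cA a₃ ha₃ a₂ ha₂)]
  rw [X, Y]

lemma comm_comm (A B : Subgroup G) [IsMulCommutative A] [IsMulCommutative B]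
    (hAB : ∀ g : G, ∃ a ∈ A, ∃ b ∈ B, g = a * b) {a a₁ b b₁ : G}
    (ha : a ∈ A) (ha₁ : a₁ ∈ A) (hb : b ∈ B) (hb₁ : b₁ ∈ B) :
    ⁅a, b⁆ * ⁅a₁, b₁⁆ = ⁅a₁, b₁⁆ * ⁅a, b⁆ := by
  have k := key A B hAB ha (A.inv_mem ha₁) hb (B.inv_mem hb₁)
  set c := ⁅a, b⁆ with hc
  -- k : b₁⁻¹ * (a₁⁻¹ * c * a₁⁻¹⁻¹) * b₁⁻¹⁻¹ = a₁⁻¹ * (b₁⁻¹ * c * b₁⁻¹⁻¹) * a₁⁻¹⁻¹
  rw [inv_inv, inv_inv] at k
  have h1 : c * ⁅b₁, a₁⁆ = ⁅b₁, a₁⁆ * c := by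
    rw [commutatorElement_def]
    calc c * (b₁ * a₁ * b₁⁻¹ * a₁⁻¹)
        = b₁ * a₁ * (a₁⁻¹ * (b₁⁻¹ * c * b₁) * a₁) * b₁⁻¹ * a₁⁻¹ := by group
      _ = b₁ * a₁ * (b₁⁻¹ * (a₁⁻¹ * c * a₁) * b₁) * b₁⁻¹ * a₁⁻¹ := by rw [k]
      _ = b₁ * a₁ * b₁⁻¹ * a₁⁻¹ * c := by group
  have h2 : ⁅a₁, b₁⁆ = ⁅b₁, a₁⁆⁻¹ := by
    rw [commutatorElement_def, commutatorElement_def]; group
  rw [h2]
  calc c * ⁅b₁, a₁⁆⁻¹ = ⁅b₁, a₁⁆⁻¹ * (⁅b₁, a₁⁆ * c) * ⁅b₁, a₁⁆⁻¹ := by group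
    _ = ⁅b₁, a₁⁆⁻¹ * (c * ⁅b₁, a₁⁆) * ⁅b₁, a₁⁆⁻¹ := by rw [h1]
    _ = ⁅b₁, a₁⁆⁻¹ * c := by group

/-- `[A, B]` is normal when `G = AB` with `A`, `B` abelian (in fact in general). -/
lemma commutator_normal_of_factorization (A B : Subgroup G)
    (hAB : ∀ g : G, ∃ a ∈ A, ∃ b ∈ B, g = a * b) : (⁅A, B⁆ : Subgroup G).Normal := by
  rw [← Subgroup.normalizer_eq_top_iff, eq_top_iff]
  have hA : A ≤ Subgroup.normalizer ((⁅A, B⁆ : Subgroup G) : Set G) := by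
    rw [Subgroup.commutator_def, Subgroup.le_normalizer_closure_iff]
    rintro x hx _ ⟨y, hy, z, hz, rfl⟩
    rw [← Subgroup.commutator_def]
    have : x * ⁅y, z⁆ * x⁻¹ = ⁅x * y, z⁆ * ⁅x, z⁆⁻¹ := by
      rw [commutatorElement_def, commutatorElement_def, commutatorElement_def]; group
    rw [this]
    exact Subgroup.mul_mem _ (Subgroup.commutator_mem_commutator (A.mul_mem hx hy) hz)
      (Subgroup.inv_mem _ (Subgroup.commutator_mem_commutator hx hz))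
  have hB : B ≤ Subgroup.normalizer ((⁅A, B⁆ : Subgroup G) : Set G) := by
    rw [Subgroup.commutator_def, Subgroup.le_normalizer_closure_iff]
    rintro y hy _ ⟨x, hx, z, hz, rfl⟩
    rw [← Subgroup.commutator_def]
    have : y * ⁅x, z⁆ * y⁻¹ = ⁅x, y⁆⁻¹ * ⁅x, y * z⁆ := by
      rw [commutatorElement_def, commutatorElement_def, commutatorElement_def]; group
    rw [this]
    exact Subgroup.mul_mem _ (Subgroup.inv_mem _ (Subgroup.commutator_mem_commutator hx hy))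
      (Subgroup.commutator_mem_commutator hx (B.mul_mem hy hz))
  intro g _
  obtain ⟨a, ha, b, hb, rfl⟩ := hAB g
  exact Subgroup.mul_mem _ (hA ha) (hB hb)

/-- Itô's Theorem: if a group G is the product AB of two abelian subgroups, then the commutator subgroup of G is abelian, i.e. the second term of the derived series is trivial. -/
theorem result {G : Type*} [Group G] (A B : Subgroup G) [IsMulCommutative A] [IsMulCommutative B] (hAB : ∀ g : G, ∃ a ∈ A, ∃ b ∈ B, g = a * b) : derivedSeries G 2 = ⊥ := by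
  have cA : ∀ x ∈ A, ∀ y ∈ A, x * y = y * x := fun x hx y hy => setLike_mul_comm hx hy
  have cB : ∀ x ∈ B, ∀ y ∈ B, x * y = y * x := fun x hx y hy => setLike_mul_comm hx hy
  haveI hN : (⁅A, B⁆ : Subgroup G).Normal := commutator_normal_of_factorization A B hAB
  -- G / [A,B] is commutative
  have hquot : IsMulCommutative (G ⧸ (⁅A, B⁆ : Subgroup G)) := by
    rw [isMulCommutative_iff]
    intro x y
    obtain ⟨g₁, rfl⟩ := QuotientGroup.mk_surjective x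
    obtain ⟨g₂, rfl⟩ := QuotientGroup.mk_surjective y
    obtain ⟨a₁, ha₁, b₁, hb₁, rfl⟩ := hAB g₁
    obtain ⟨a₂, ha₂, b₂, hb₂, rfl⟩ := hAB g₂
    have hab : ∀ a ∈ A, ∀ b ∈ B, (QuotientGroup.mk a : G ⧸ (⁅A, B⁆ : Subgroup G)) * QuotientGroup.mk b
        = QuotientGroup.mk b * QuotientGroup.mk a := by
      intro a ha b hb
      rw [← QuotientGroup.mk_mul, ← QuotientGroup.mk_mul, QuotientGroup.eq]
      have : (a * b)⁻¹ * (b * a) = ⁅b⁻¹, a⁻¹⁆ := by rw [commutatorElement_def]; group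
      rw [this, Subgroup.commutator_comm A B]
      exact Subgroup.commutator_mem_commutator (B.inv_mem hb) (A.inv_mem ha)
    have haa : (QuotientGroup.mk a₁ : G ⧸ (⁅A, B⁆ : Subgroup G)) * QuotientGroup.mk a₂
        = QuotientGroup.mk a₂ * QuotientGroup.mk a₁ := by
      rw [← QuotientGroup.mk_mul, ← QuotientGroup.mk_mul, cA a₁ ha₁ a₂ ha₂]
    have hbb : (QuotientGroup.mk b₁ : G ⧸ (⁅A, B⁆ : Subgroup G)) * QuotientGroup.mk b₂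
        = QuotientGroup.mk b₂ * QuotientGroup.mk b₁ := by
      rw [← QuotientGroup.mk_mul, ← QuotientGroup.mk_mul, cB b₁ hb₁ b₂ hb₂]
    rw [QuotientGroup.mk_mul, QuotientGroup.mk_mul]
    set α₁ : G ⧸ (⁅A, B⁆ : Subgroup G) := QuotientGroup.mk a₁
    set α₂ : G ⧸ (⁅A, B⁆ : Subgroup G) := QuotientGroup.mk a₂
    set β₁ : G ⧸ (⁅A, B⁆ : Subgroup G) := QuotientGroup.mk b₁
    set β₂ : G ⧸ (⁅A, B⁆ : Subgroup G) := QuotientGroup.mk b₂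
    calc α₁ * β₁ * (α₂ * β₂) = α₁ * (β₁ * α₂) * β₂ := by group
      _ = α₁ * (α₂ * β₁) * β₂ := by rw [hab a₂ ha₂ b₁ hb₁]
      _ = (α₁ * α₂) * (β₁ * β₂) := by group
      _ = (α₂ * α₁) * (β₂ * β₁) := by rw [haa, hbb]
      _ = α₂ * (α₁ * β₂) * β₁ := by group
      _ = α₂ * (β₂ * α₁) * β₁ := by rw [hab a₁ ha₁ b₂ hb₂]
      _ = α₂ * β₂ * (α₁ * β₁) := by group
  have hle : commutator G ≤ ⁅A, B⁆ := Subgroup.Normal.quotient_commutative_iff_commutator_le.mp hquot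
  have hNab : IsMulCommutative (⁅A, B⁆ : Subgroup G) := by
    rw [Subgroup.commutator_def]
    apply Subgroup.isMulCommutative_closure
    rintro _ ⟨a, ha, b, hb, rfl⟩ _ ⟨a₁, ha₁, b₁, hb₁, rfl⟩
    exact comm_comm A B hAB ha ha₁ hb hb₁
  have h2 : derivedSeries G 2 = ⁅commutator G, commutator G⁆ := by
    rw [derivedSeries_succ, derivedSeries_one]
  rw [h2, eq_bot_iff]
  calc ⁅commutator G, commutator G⁆ ≤ ⁅(⁅A, B⁆ : Subgroup G), ⁅A, B⁆⁆ := Subgroup.commutator_mono hle hle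
    _ = ⊥ := Subgroup.commutator_self_eq_bot_iff.mpr hNab

end Cfsg.Agent.S0572
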