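import Cfsg.Statements.S4216
import Cfsg.Agent.Lib.Helper70.Transfer

set_option autoImplicit false
set_option linter.style.haveILetI false
open Cfsg

namespace Cfsg.Agent.S4216

open scoped Pointwise commutatorElement
open Cfsg.Agent.Helper70

section core

variable {G : Type*} [Group G] [Finite G] {p : ℕ} [Fact p.Prime] (P : Sylow p G)

/-- Contribution of one `P`-orbit on `G ⧸ P` to the transfer of `u`. -/
theorem orbit_contribution {A : Type*} [CommGroup A] (ϕ : (P : Subgroup G) →* A)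
    (hb : ∀ (z g : G) (hg : g ∈ (P : Subgroup G)),
      g ∈ (⁅(P : Subgroup G), (P : Subgroup G)⁆).map (MulAut.conj z).toMonoidHom → ϕ ⟨g, hg⟩ = 1)
    (hc : ∀ (g : G) (hg : g ∈ (P : Subgroup G)),
      g ∈ ⁅Subgroup.normalizer ((P : Subgroup G) : Set G),
        Subgroup.normalizer ((P : Subgroup G) : Set G)⁆ → ϕ ⟨g, hg⟩ = 1)
    (u : G) (hu : u ∈ (P : Subgroup G)) (huG : u ∈ commutator G) (hu1 : u ≠ 1)
    (IH : ∀ (u' : G) (hu' : u' ∈ (P : Subgroup G)), u' ∈ commutator G →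
      orderOf u' < orderOf u → ϕ ⟨u', hu'⟩ = 1)
    [Fintype (G ⧸ (P : Subgroup G))] [DecidableEq (G ⧸ (P : Subgroup G))]
    (c₀ : G ⧸ (P : Subgroup G)) (s : Finset (G ⧸ (P : Subgroup G)))
    (hs : ∀ c, c ∈ s ↔ c ∈ MulAction.orbit (P : Subgroup G) c₀) :
    ∏ c ∈ s, extHom ϕ ((c.out)⁻¹ * u * (u⁻¹ • c).out) = ∏ _c ∈ s, ϕ ⟨u, hu⟩ := by
  classical
  have hp : p.Prime := Fact.out
  obtain ⟨x, hx⟩ : ∃ x : G, x = c₀.out := ⟨_, rfl⟩
  have hxc : ((x : G) : G ⧸ (P : Subgroup G)) = c₀ := by rw [hx]; exact QuotientGroup.out_eq' c₀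
  have hs1 : ∀ c ∈ s, ∃ y ∈ (P : Subgroup G), c = ((y * x : G) : G ⧸ (P : Subgroup G)) := by
    intro c hc
    obtain ⟨y, hy⟩ := (hs c).mp hc
    refine ⟨(y : G), y.2, ?_⟩
    rw [← hy, ← hxc]
    rfl
  have hs2 : ∀ c, u⁻¹ • c ∈ s ↔ c ∈ s := by
    intro c
    rw [hs, hs]
    constructor
    · rintro ⟨y, hy⟩
      refine ⟨⟨u, hu⟩ * y, ?_⟩
      change (⟨u, hu⟩ * y) • c₀ = c
      change y • c₀ = u⁻¹ • c at hy
      rw [mul_smul, hy]
      change u • u⁻¹ • c = c
      rw [smul_inv_smul]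
    · rintro ⟨y, hy⟩
      refine ⟨⟨u⁻¹, inv_mem hu⟩ * y, ?_⟩
      change (⟨u⁻¹, inv_mem hu⟩ * y) • c₀ = u⁻¹ • c
      change y • c₀ = c at hy
      rw [mul_smul, hy]
      rfl
  obtain ⟨w, hw, hw', hβ, hprod⟩ := prod_doubleCoset ϕ (Abelianization.of (G := (P : Subgroup G)))
    u hu x s hs1 hs2
  rw [hprod]
  obtain ⟨m, hm⟩ : ∃ m, m = s.card := ⟨_, rfl⟩
  rw [← hm] at hβ
  -- `|s|` is a power of `p`
  have hscard : s.card = Nat.card (MulAction.orbit (P : Subgroup G) c₀) := by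
    have : s = (MulAction.orbit (P : Subgroup G) c₀).toFinset := by
      ext c
      rw [hs, Set.mem_toFinset]
    rw [this, Set.toFinset_card, Nat.card_eq_fintype_card]
  obtain ⟨t, ht⟩ := P.2.card_orbit c₀
  have hmt : m = p ^ t := by rw [hm, hscard, ht]
  -- `u ^ m` fixes `c₀`
  have hfix : u ^ m • c₀ = c₀ := by
    rw [MulAction.pow_smul_eq_iff_minimalPeriod_dvd, MulAction.minimalPeriod_eq_card,
      ← Nat.card_eq_fintype_card]
    have hpz : IsPGroup p (Subgroup.zpowers u) := P.2.to_le (Subgroup.zpowers_le.mpr hu)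
    have hdvd : ∀ N : ℕ, (∃ k, N = p ^ k) → N ≤ p ^ t → N ∣ m := by
      rintro N ⟨k, rfl⟩ hle
      rw [hmt]
      exact pow_dvd_pow _ ((Nat.pow_le_pow_iff_right hp.one_lt).mp hle)
    refine hdvd _ (hpz.card_orbit c₀) ?_
    rw [← ht]
    have hsub : MulAction.orbit (Subgroup.zpowers u) c₀ ⊆ MulAction.orbit (P : Subgroup G) c₀ := by
      rintro _ ⟨⟨g, hg⟩, rfl⟩
      exact ⟨⟨g, Subgroup.zpowers_le.mpr hu hg⟩, rfl⟩
    exact Nat.card_le_card_of_injective (Set.inclusion hsub) (Set.inclusion_injective hsub)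
  have humP : x⁻¹ * u ^ m * x ∈ (P : Subgroup G) := by
    rw [← hxc] at hfix
    have h1 : ((u ^ m * x : G) : G ⧸ (P : Subgroup G)) = ((x : G) : G ⧸ (P : Subgroup G)) := hfix
    have h2 := QuotientGroup.eq.mp h1
    have h3 := inv_mem h2
    have h4 : ((u ^ m * x)⁻¹ * x)⁻¹ = x⁻¹ * u ^ m * x := by group
    rwa [h4] at h3
  have humP' : u ^ m ∈ (P : Subgroup G) := pow_mem hu m
  -- the correction term
  have hcP : (u ^ m)⁻¹ * w ∈ ⁅(P : Subgroup G), (P : Subgroup G)⁆ := by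
    rw [← Subgroup.map_subtype_commutator]
    refine ⟨⟨(u ^ m)⁻¹ * w, mul_mem (inv_mem humP') hw⟩, ?_, rfl⟩
    rw [SetLike.mem_coe, ← Abelianization.ker_of, MonoidHom.mem_ker]
    have : (⟨(u ^ m)⁻¹ * w, mul_mem (inv_mem humP') hw⟩ : (P : Subgroup G)) =
        (⟨u, hu⟩ ^ m)⁻¹ * ⟨w, hw⟩ := rfl
    rw [this, map_mul, map_inv, map_pow, hβ, inv_mul_cancel]
  have hcx : x⁻¹ * ((u ^ m)⁻¹ * w) * x ∈ (P : Subgroup G) := by
    have : x⁻¹ * ((u ^ m)⁻¹ * w) * x = (x⁻¹ * u ^ m * x)⁻¹ * (x⁻¹ * w * x) := by group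
    rw [this]
    exact mul_mem (inv_mem humP) hw'
  have hϕc : ϕ ⟨x⁻¹ * ((u ^ m)⁻¹ * w) * x, hcx⟩ = 1 := by
    apply hb x⁻¹
    refine ⟨_, hcP, ?_⟩
    simp
  have hϕw : ϕ ⟨x⁻¹ * w * x, hw'⟩ = ϕ ⟨x⁻¹ * u ^ m * x, humP⟩ := by
    have : (⟨x⁻¹ * w * x, hw'⟩ : (P : Subgroup G)) =
        ⟨x⁻¹ * u ^ m * x, humP⟩ * ⟨x⁻¹ * ((u ^ m)⁻¹ * w) * x, hcx⟩ := by
      apply Subtype.ext
      change x⁻¹ * w * x = (x⁻¹ * u ^ m * x) * (x⁻¹ * ((u ^ m)⁻¹ * w) * x)
      group
    rw [this, map_mul, hϕc, mul_one]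
  rw [hϕw, Finset.prod_const, ← hm]
  -- case distinction on `t`
  rcases Nat.eq_zero_or_pos t with h0 | hpos
  · -- `x` normalizes `P`
    have hm1 : m = 1 := by rw [hmt, h0, pow_zero]
    have hxN : x⁻¹ ∈ Subgroup.normalizer ((P : Subgroup G) : Set G) := by
      apply Subgroup.mem_normalizer_fintype
      intro g hg
      rw [inv_inv]
      have hgs : (⟨g, hg⟩ : (P : Subgroup G)) • c₀ ∈ s := (hs _).mpr ⟨⟨g, hg⟩, rfl⟩
      have hcs : c₀ ∈ s := (hs _).mpr (MulAction.mem_orbit_self c₀)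
      have heq : (⟨g, hg⟩ : (P : Subgroup G)) • c₀ = c₀ :=
        Finset.card_le_one.mp (by rw [← hm, hm1]) _ hgs _ hcs
      rw [← hxc] at heq
      have h1 : ((g * x : G) : G ⧸ (P : Subgroup G)) = ((x : G) : G ⧸ (P : Subgroup G)) := heq
      have h2 := QuotientGroup.eq.mp h1
      have h3 := inv_mem h2
      have h4 : ((g * x)⁻¹ * x)⁻¹ = x⁻¹ * g * x := by group
      rwa [h4] at h3
    have huN : u⁻¹ ∈ Subgroup.normalizer ((P : Subgroup G) : Set G) :=
      Subgroup.le_normalizer (inv_mem hu)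
    have hcomm : u⁻¹ * (x⁻¹ * u ^ m * x) ∈ (P : Subgroup G) := mul_mem (inv_mem hu) humP
    have hϕ1 : ϕ ⟨u⁻¹ * (x⁻¹ * u ^ m * x), hcomm⟩ = 1 := by
      apply hc
      have : u⁻¹ * (x⁻¹ * u ^ m * x) = ⁅u⁻¹, x⁻¹⁆ := by
        rw [hm1, pow_one, commutatorElement_def]
        group
      rw [this]
      exact Subgroup.commutator_mem_commutator huN hxN
    have : (⟨x⁻¹ * u ^ m * x, humP⟩ : (P : Subgroup G)) =
        ⟨u, hu⟩ * ⟨u⁻¹ * (x⁻¹ * u ^ m * x), hcomm⟩ := by
      apply Subtype.ext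
      change x⁻¹ * u ^ m * x = u * (u⁻¹ * (x⁻¹ * u ^ m * x))
      group
    rw [this, map_mul, hϕ1, mul_one, hm1, pow_one]
  · -- `p ∣ m`: both sides are trivial by minimality
    have hpm : p ∣ m := by rw [hmt]; exact dvd_pow_self p hpos.ne'
    have hm0 : m ≠ 0 := by rw [hmt]; exact pow_ne_zero _ hp.pos.ne'
    obtain ⟨e, he⟩ := (IsPGroup.iff_orderOf.mp P.2) ⟨u, hu⟩
    have he' : orderOf u = p ^ e := by
      rw [← he]
      exact (Subgroup.orderOf_mk u hu).symm
    have he0 : e ≠ 0 := by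
      rintro rfl
      rw [pow_zero, orderOf_eq_one_iff] at he'
      exact hu1 he'
    have hlt : orderOf (u ^ m) < orderOf u := by
      rw [orderOf_pow' u hm0]
      apply Nat.div_lt_self (orderOf_pos u)
      have hpd : p ∣ Nat.gcd (orderOf u) m :=
        Nat.dvd_gcd (by rw [he']; exact dvd_pow_self p he0) hpm
      exact lt_of_lt_of_le hp.one_lt (Nat.le_of_dvd (Nat.gcd_pos_of_pos_right _ (Nat.pos_of_ne_zero hm0)) hpd)
    have hGm : u ^ m ∈ commutator G := pow_mem huG m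
    have h1 : ϕ ⟨u ^ m, humP'⟩ = 1 := IH _ humP' hGm hlt
    have hGx : x⁻¹ * u ^ m * x ∈ commutator G := by
      have := (inferInstance : (commutator G).Normal).conj_mem _ hGm x⁻¹
      rwa [inv_inv] at this
    have hord : orderOf (x⁻¹ * u ^ m * x) = orderOf (u ^ m) := by
      have := (MulAut.conj x⁻¹).orderOf_eq (u ^ m)
      rwa [MulAut.conj_apply, inv_inv] at this
    have h2 : ϕ ⟨x⁻¹ * u ^ m * x, humP⟩ = 1 := IH _ humP hGx (by rw [hord]; exact hlt)
    rw [h2]
    have : (⟨u, hu⟩ : (P : Subgroup G)) ^ m = ⟨u ^ m, humP'⟩ := rfl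
    rw [← map_pow, this, h1]

/-- Abstract form of Grün's first theorem: a hom from `P` to an abelian group killing
`P ∩ N_G(P)'` and all `P ∩ z P' z⁻¹` kills `P ∩ G'`. -/
theorem gruen_core {A : Type*} [CommGroup A] (ϕ : (P : Subgroup G) →* A)
    (hb : ∀ (z g : G) (hg : g ∈ (P : Subgroup G)),
      g ∈ (⁅(P : Subgroup G), (P : Subgroup G)⁆).map (MulAut.conj z).toMonoidHom → ϕ ⟨g, hg⟩ = 1)
    (hc : ∀ (g : G) (hg : g ∈ (P : Subgroup G)),
      g ∈ ⁅Subgroup.normalizer ((P : Subgroup G) : Set G),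
        Subgroup.normalizer ((P : Subgroup G) : Set G)⁆ → ϕ ⟨g, hg⟩ = 1) :
    ∀ (u : G) (hu : u ∈ (P : Subgroup G)), u ∈ commutator G → ϕ ⟨u, hu⟩ = 1 := by
  classical
  have hp : p.Prime := Fact.out
  have key : ∀ n : ℕ, ∀ (u : G) (hu : u ∈ (P : Subgroup G)), u ∈ commutator G →
      orderOf u = n → ϕ ⟨u, hu⟩ = 1 := by
    intro n
    induction n using Nat.strong_induction_on with
    | _ n IH =>
    intro u hu huG hn
    by_cases hu1 : u = 1
    · subst hu1
      exact map_one ϕ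
    have IH' : ∀ (u' : G) (hu' : u' ∈ (P : Subgroup G)), u' ∈ commutator G →
        orderOf u' < orderOf u → ϕ ⟨u', hu'⟩ = 1 := by
      intro u' hu' hG' hlt
      exact IH (orderOf u') (by rw [← hn]; exact hlt) u' hu' hG' rfl
    haveI : Fintype (G ⧸ (P : Subgroup G)) := Fintype.ofFinite _
    haveI : Fintype (MulAction.orbitRel.Quotient (P : Subgroup G) (G ⧸ (P : Subgroup G))) :=
      Fintype.ofFinite _
    have htr : MonoidHom.transfer ϕ u = ϕ ⟨u, hu⟩ ^ Fintype.card (G ⧸ (P : Subgroup G)) := by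
      rw [transfer_eq_prod_out ϕ u]
      rw [← Finset.prod_fiberwise Finset.univ
        (fun c => (Quotient.mk'' c : MulAction.orbitRel.Quotient (P : Subgroup G)
          (G ⧸ (P : Subgroup G))))]
      have hO : ∀ O : MulAction.orbitRel.Quotient (P : Subgroup G) (G ⧸ (P : Subgroup G)),
          ∏ c ∈ Finset.univ.filter (fun c => (Quotient.mk'' c :
            MulAction.orbitRel.Quotient (P : Subgroup G) (G ⧸ (P : Subgroup G))) = O),
            extHom ϕ ((c.out)⁻¹ * u * (u⁻¹ • c).out) =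
          ∏ _c ∈ Finset.univ.filter (fun c => (Quotient.mk'' c :
            MulAction.orbitRel.Quotient (P : Subgroup G) (G ⧸ (P : Subgroup G))) = O),
            ϕ ⟨u, hu⟩ := by
        intro O
        refine orbit_contribution P ϕ hb hc u hu huG hu1 IH' O.out _ ?_
        intro c
        rw [Finset.mem_filter]
        simp only [Finset.mem_univ, true_and]
        rw [← MulAction.orbitRel_apply]
        constructor
        · intro h
          have h2 : (Quotient.mk'' c : MulAction.orbitRel.Quotient (P : Subgroup G)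
            (G ⧸ (P : Subgroup G))) = Quotient.mk'' O.out := by
            rw [h]; exact (Quotient.out_eq' O).symm
          exact Quotient.exact' h2
        · intro h
          have h2 : (Quotient.mk'' c : MulAction.orbitRel.Quotient (P : Subgroup G)
            (G ⧸ (P : Subgroup G))) = Quotient.mk'' O.out := Quotient.sound' h
          rw [h2]; exact Quotient.out_eq' O
      rw [Finset.prod_congr rfl (fun O _ => hO O)]
      rw [Finset.prod_fiberwise Finset.univ
        (fun c => (Quotient.mk'' c : MulAction.orbitRel.Quotient (P : Subgroup G)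
          (G ⧸ (P : Subgroup G)))) (fun _ => ϕ ⟨u, hu⟩)]
      rw [Finset.prod_const, Finset.card_univ]
    have h1 : MonoidHom.transfer ϕ u = 1 :=
      Abelianization.commutator_subset_ker (MonoidHom.transfer ϕ) huG
    rw [h1] at htr
    -- coprimality
    obtain ⟨k, hk⟩ := P.2 ⟨u, hu⟩
    have hk' : ϕ ⟨u, hu⟩ ^ p ^ k = 1 := by rw [← map_pow, hk, map_one]
    have hidx : Fintype.card (G ⧸ (P : Subgroup G)) = (P : Subgroup G).index := by
      rw [Subgroup.index_eq_card, Nat.card_eq_fintype_card]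
    have hcop : Nat.Coprime (p ^ k) (Fintype.card (G ⧸ (P : Subgroup G))) := by
      rw [hidx]
      exact Nat.Coprime.pow_left _ ((Nat.Prime.coprime_iff_not_dvd hp).mpr P.not_dvd_index)
    have h2 : orderOf (ϕ ⟨u, hu⟩) ∣ 1 := by
      rw [← Nat.Coprime.gcd_eq_one hcop]
      exact Nat.dvd_gcd (orderOf_dvd_of_pow_eq_one hk') (orderOf_dvd_of_pow_eq_one htr.symm)
    exact orderOf_eq_one_iff.mp (Nat.dvd_one.mp h2)
  intro u hu huG
  exact key _ u hu huG rfl

end core

open scoped IsMulCommutative in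
/-- Grün's first Theorem: if `P` is a Sylow `p`-subgroup of the finite group `G`, then `P ∩ G'` is the subgroup generated by `P ∩ N_G(P)'` together with the subgroups `P ∩ z P' z⁻¹` for all `z ∈ G`, where `'` denotes the derived subgroup and `N_G(P)` the normalizer of `P`. -/
theorem result {G : Type*} [Group G] [Finite G] {p : ℕ} [Fact p.Prime] (P : Sylow p G) : (P : Subgroup G) ⊓ commutator G = ((P : Subgroup G) ⊓ ⁅Subgroup.normalizer ((P : Subgroup G) : Set G), Subgroup.normalizer ((P : Subgroup G) : Set G)⁆) ⊔ ⨆ z : G, (P : Subgroup G) ⊓ (⁅(P : Subgroup G), (P : Subgroup G)⁆).map (MulAut.conj z).toMonoidHom := by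
  apply le_antisymm
  · obtain ⟨D, hD⟩ : ∃ D : Subgroup G, D = ((P : Subgroup G) ⊓ ⁅Subgroup.normalizer ((P : Subgroup G) : Set G), Subgroup.normalizer ((P : Subgroup G) : Set G)⁆) ⊔ ⨆ z : G, (P : Subgroup G) ⊓ (⁅(P : Subgroup G), (P : Subgroup G)⁆).map (MulAut.conj z).toMonoidHom := ⟨_, rfl⟩
    rw [← hD]
    have hzD : ∀ z : G, (P : Subgroup G) ⊓
        (⁅(P : Subgroup G), (P : Subgroup G)⁆).map (MulAut.conj z).toMonoidHom ≤ D := by
      intro z
      rw [hD]
      exact le_sup_of_le_right (le_iSup (fun z : G => (P : Subgroup G) ⊓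
        (⁅(P : Subgroup G), (P : Subgroup G)⁆).map (MulAut.conj z).toMonoidHom) z)
    have hND : (P : Subgroup G) ⊓ ⁅Subgroup.normalizer ((P : Subgroup G) : Set G),
        Subgroup.normalizer ((P : Subgroup G) : Set G)⁆ ≤ D := by
      rw [hD]; exact le_sup_left
    have hPP : ⁅(P : Subgroup G), (P : Subgroup G)⁆ ≤ (P : Subgroup G) :=
      Subgroup.commutator_le_self _
    have hPD : ⁅(P : Subgroup G), (P : Subgroup G)⁆ ≤ D := by
      refine le_trans ?_ (hzD 1)
      intro g hg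
      refine ⟨hPP hg, ⟨g, hg, ?_⟩⟩
      simp
    haveI hnorm : (D.subgroupOf (P : Subgroup G)).Normal := by
      constructor
      intro n hn g
      rw [Subgroup.mem_subgroupOf] at hn ⊢
      have h1 : ((g * n * g⁻¹ : (P : Subgroup G)) : G) = ⁅(g : G), (n : G)⁆ * (n : G) := by
        rw [commutatorElement_def]
        push_cast
        group
      rw [h1]
      exact mul_mem (hPD (Subgroup.commutator_mem_commutator g.2 n.2)) hn
    haveI hcomm : IsMulCommutative ((P : Subgroup G) ⧸ D.subgroupOf (P : Subgroup G)) := by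
      rw [Subgroup.Normal.quotient_commutative_iff_commutator_le]
      rw [Subgroup.subgroupOf, ← Subgroup.map_le_iff_le_comap, Subgroup.map_subtype_commutator]
      exact hPD
    rintro u ⟨hu, huG⟩
    have h := gruen_core P (QuotientGroup.mk' (D.subgroupOf (P : Subgroup G)))
      (fun z g hg hgm => by
        rw [QuotientGroup.mk'_apply, QuotientGroup.eq_one_iff, Subgroup.mem_subgroupOf]
        exact hzD z ⟨hg, hgm⟩)
      (fun g hg hgm => by
        rw [QuotientGroup.mk'_apply, QuotientGroup.eq_one_iff, Subgroup.mem_subgroupOf]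
        exact hND ⟨hg, hgm⟩) u hu huG
    rw [QuotientGroup.mk'_apply, QuotientGroup.eq_one_iff, Subgroup.mem_subgroupOf] at h
    exact h
  · refine sup_le ?_ (iSup_le fun z => ?_)
    · refine inf_le_inf_left _ ?_
      rw [commutator_def]
      exact Subgroup.commutator_mono le_top le_top
    · refine inf_le_inf_left _ ?_
      rintro g ⟨c, hc, rfl⟩
      have hcG : c ∈ commutator G := by
        rw [commutator_def]
        exact Subgroup.commutator_mono le_top le_top hc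
      exact (inferInstance : (commutator G).Normal).conj_mem c hcG z

end Cfsg.Agent.S4216
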