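import Cfsg.Statements.S1947
import Cfsg.Agent.S0071
import Cfsg.Agent.Lib.Helper24.Omega1

set_option autoImplicit false
open Cfsg

namespace Cfsg.Agent.S1947

open Subgroup Cfsg.Agent.Helper24
open scoped commutatorElement

/-- **Ω-lemma with general exponent.** Let `C` be a `p`-subgroup of the finite group `G`, `A` a subgroup
of order prime to `p` normalizing `C`, and `e` with `p ∣ e` and `p ∣ e.choose 2`. If `A` centralizes every
`x ∈ C` with `x ^ e = 1`, then `A` centralizes `C`. -/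
theorem le_centralizer_of_centralizes_omega {G : Type*} [Group G] [Finite G] (p : ℕ) [hp : Fact p.Prime]
    (e : ℕ) (hpe : p ∣ e) (hpch : p ∣ e.choose 2)
    (A : Subgroup G) (hcop : (Nat.card A).Coprime p) :
    ∀ (n : ℕ) (C : Subgroup G), Nat.card C = n → IsPGroup p C → A ≤ normalizer (C : Set G) →
      (∀ x ∈ C, x ^ e = 1 → ∀ a ∈ A, a * x = x * a) → A ≤ centralizer (C : Set G) := by
  intro n
  induction n using Nat.strong_induction_on with
  | _ n ih =>
  intro C hcard hC hAC hfix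
  have hcopC : ∀ C₁ : Subgroup G, C₁ ≤ C → (Nat.card A).Coprime (Nat.card C₁) := by
    intro C₁ h1
    obtain ⟨k, hk⟩ := IsPGroup.iff_card.mp (hC.to_le h1)
    rw [hk]; exact Nat.Coprime.pow_right k hcop
  -- (*) A centralizes proper A-invariant subgroups
  have hstar : ∀ C₁ : Subgroup G, C₁ ≤ C → C₁ ≠ C → A ≤ normalizer (C₁ : Set G) →
      A ≤ centralizer (C₁ : Set G) := by
    intro C₁ h1 h2 h3
    have hlt : Nat.card C₁ < n := by
      rw [← hcard]
      rcases lt_or_eq_of_le (card_le_of_le h1) with h | h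
      · exact h
      · exact absurd (eq_of_le_of_card_ge h1 (le_of_eq h.symm)) h2
    exact ih _ hlt C₁ rfl (hC.to_le h1) h3 (fun x hx => hfix x (h1 hx))
  have hCA : ⁅C, A⁆ ≤ C := commutator_le_of_le_normalizer C A hAC
  by_cases h1 : ⁅C, A⁆ = C
  swap
  · have h2 := hstar ⁅C, A⁆ hCA h1 (normalizer_commutator_ge_right C A)
    have h3 : ⁅⁅C, A⁆, A⁆ = ⊥ :=
      commutator_eq_bot_iff_le_centralizer.mpr (le_centralizer_iff.mp h2)
    exact le_centralizer_of_coprime C A hAC (hcopC C le_rfl) h3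
  -- now C = [C, A]
  by_cases hbot : C = ⊥
  · rw [hbot]
    intro a _
    rw [mem_centralizer_iff]
    intro h hh
    rw [SetLike.mem_coe, mem_bot] at hh
    rw [hh]; simp
  -- Step 2
  have hstep2 : ∀ N : Subgroup G, N ≤ C → N ≠ C → C ≤ normalizer (N : Set G) →
      A ≤ normalizer (N : Set G) → N ≤ centralizer (C : Set G) := by
    intro N hN1 hN2 hN3 hN4
    have hAN := hstar N hN1 hN2 hN4
    have hAN' : ⁅A, N⁆ = ⊥ := commutator_eq_bot_iff_le_centralizer.mpr hAN
    have hNA : ⁅N, A⁆ = ⊥ := by rw [commutator_comm]; exact hAN'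
    have h2 : ⁅⁅A, N⁆, C⁆ = ⊥ := by rw [hAN']; exact commutator_bot_left C
    have h3 : ⁅⁅N, C⁆, A⁆ = ⊥ := by
      rw [eq_bot_iff, ← hNA]
      exact commutator_mono (commutator_le_of_le_normalizer N C hN3) le_rfl
    have h4 : ⁅⁅C, A⁆, N⁆ = ⊥ := commutator_commutator_eq_bot_of_rotate h2 h3
    rw [h1] at h4
    exact le_centralizer_iff.mp (commutator_eq_bot_iff_le_centralizer.mp h4)
  -- Step 3
  obtain ⟨M, hMC, hMne, hMcomm, hMpow⟩ := exists_proper_frattini_like p C hC hbot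
  set S : Set G := {g | (∃ x ∈ C, x ^ p = g) ∨ ∃ x ∈ C, ∃ y ∈ C, ⁅x, y⁆ = g} with hS
  set Φ := closure S with hΦ
  have hΦM : Φ ≤ M := by
    rw [hΦ, closure_le]
    rintro g (⟨x, hx, rfl⟩ | ⟨x, hx, y, hy, rfl⟩)
    · exact hMpow x hx
    · exact hMcomm x hx y hy
  have hΦC : Φ ≤ C := hΦM.trans hMC
  have hΦne : Φ ≠ C := by
    intro h
    apply hMne
    exact le_antisymm hMC (h ▸ hΦM)
  -- invariance of Φ under anything normalizing C
  have hinv : ∀ B : Subgroup G, B ≤ normalizer (C : Set G) → B ≤ normalizer (Φ : Set G) := by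
    intro B hB
    rw [hΦ, le_normalizer_closure_iff]
    intro b hb g hg
    have hbC : ∀ x ∈ C, b * x * b⁻¹ ∈ C := fun x hx => (mem_normalizer_iff.mp (hB hb) x).mp hx
    rcases hg with ⟨x, hx, rfl⟩ | ⟨x, hx, y, hy, rfl⟩
    · apply Subgroup.subset_closure
      left
      refine ⟨b * x * b⁻¹, hbC x hx, ?_⟩
      rw [conj_pow]
    · apply Subgroup.subset_closure
      right
      refine ⟨b * x * b⁻¹, hbC x hx, b * y * b⁻¹, hbC y hy, ?_⟩
      rw [conjugate_commutatorElement]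
  have hΦcent : Φ ≤ centralizer (C : Set G) :=
    hstep2 Φ hΦC hΦne (hinv C le_normalizer) (hinv A hAC)
  have hAΦ : A ≤ centralizer (Φ : Set G) := hstar Φ hΦC hΦne (hinv A hAC)
  have hpowΦ : ∀ x ∈ C, x ^ p ∈ Φ := fun x hx => Subgroup.subset_closure (Or.inl ⟨x, hx, rfl⟩)
  have hpoweΦ : ∀ x ∈ C, x ^ e ∈ Φ := by
    intro x hx
    obtain ⟨k, hk⟩ := hpe
    rw [hk, pow_mul]
    exact Φ.pow_mem (hpowΦ x hx) k
  have hcommΦ : ∀ x ∈ C, ∀ y ∈ C, ⁅x, y⁆ ∈ Φ := fun x hx y hy =>
    Subgroup.subset_closure (Or.inr ⟨x, hx, y, hy, rfl⟩)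
  -- Step 4: for x ∈ C, a ∈ A, z = x⁻¹ a x a⁻¹ has z^e = 1
  have hz : ∀ x ∈ C, ∀ a ∈ A, (x⁻¹ * (a * x * a⁻¹)) ^ e = 1 := by
    intro x hx a ha
    set y := a * x * a⁻¹ with hy
    have hyC : y ∈ C := (mem_normalizer_iff.mp (hAC ha) x).mp hx
    set z := x⁻¹ * y with hzdef
    have hzC : z ∈ C := C.mul_mem (C.inv_mem hx) hyC
    set c := z * x * z⁻¹ * x⁻¹ with hc
    have hcΦ : c ∈ Φ := hcommΦ z hzC x hx
    have hcx : Commute c x := ((mem_centralizer_iff.mp (hΦcent hcΦ)) x hx).symm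
    have hcz : Commute c z := ((mem_centralizer_iff.mp (hΦcent hcΦ)) z hzC).symm
    -- c^p = 1
    have hcp : c ^ p = 1 := by
      rw [hc, ← commutator_pow_left_of_commute x z hcz p]
      have h3 : z ^ p ∈ Φ := hpowΦ z hzC
      have h4 := (mem_centralizer_iff.mp (hΦcent h3)) x hx
      rw [← h4]; group
    have hcch : c ^ (e.choose 2) = 1 := by
      obtain ⟨k, hk⟩ := hpch
      rw [hk, pow_mul, hcp, one_pow]
    have h5 : (x * z) ^ e = x ^ e * z ^ e * c ^ (e.choose 2) :=
      mul_pow_of_commutator_commute x z hcx hcz e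
    have h6 : x * z = y := by rw [hzdef]; group
    have h7 : y ^ e = x ^ e := by
      rw [hy, conj_pow]
      have h8 := (mem_centralizer_iff.mp (hAΦ ha)) (x ^ e) (hpoweΦ x hx)
      rw [← h8]; group
    rw [h6, h7, hcch, mul_one] at h5
    have : x ^ e * z ^ e = x ^ e * 1 := by rw [← h5, mul_one]
    exact mul_left_cancel this
  -- Step 5
  have h5 : ⁅C, A⁆ ≤ centralizer (A : Set G) := by
    rw [commutator_le]
    intro x hx a ha
    rw [mem_centralizer_iff]
    intro a' ha'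
    have h6 : ⁅x, a⁆ = x⁻¹⁻¹ * (a * x⁻¹ * a⁻¹) := by rw [commutatorElement_def]; group
    rw [h6]
    have h7 : x⁻¹⁻¹ * (a * x⁻¹ * a⁻¹) ∈ C := by
      apply C.mul_mem (C.inv_mem (C.inv_mem hx))
      exact (mem_normalizer_iff.mp (hAC ha) x⁻¹).mp (C.inv_mem hx)
    exact hfix _ h7 (hz x⁻¹ (C.inv_mem hx) a ha) a' ha'
  have h6 : ⁅⁅C, A⁆, A⁆ = ⊥ := commutator_eq_bot_iff_le_centralizer.mpr h5
  exact le_centralizer_of_coprime C A hAC (hcopC C le_rfl) h6

/-- A `p'`-subgroup `A` normalizing a `p`-subgroup `Q` centralizes `Q ⊓ Z_i(G)` for every `i`. -/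
theorem le_centralizer_inf_upperCentralSeries {G : Type*} [Group G] [Finite G] (p : ℕ)
    [hp : Fact p.Prime] (A Q : Subgroup G) (hcop : (Nat.card A).Coprime p) (hQ : IsPGroup p Q)
    (hAQ : A ≤ normalizer (Q : Set G)) :
    ∀ i : ℕ, A ≤ centralizer ((Q ⊓ Subgroup.upperCentralSeries G i : Subgroup G) : Set G) := by
  intro i
  induction i with
  | zero =>
    intro a _
    rw [mem_centralizer_iff]
    intro h hh
    have : h = 1 := by
      have h2 : h ∈ Q ⊓ Subgroup.upperCentralSeries G 0 := hh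
      rw [Subgroup.upperCentralSeries_zero, mem_inf, mem_bot] at h2
      exact h2.2
    rw [this]; simp
  | succ i ih =>
    set H : Subgroup G := Q ⊓ Subgroup.upperCentralSeries G (i + 1) with hH
    have hAH : A ≤ normalizer (H : Set G) := by
      intro a ha
      rw [mem_normalizer_iff]
      intro x
      have hn : (Subgroup.upperCentralSeries G (i + 1)).Normal := inferInstance
      rw [hH, mem_inf, mem_inf]
      constructor
      · rintro ⟨h1, h2⟩
        exact ⟨(mem_normalizer_iff.mp (hAQ ha) x).mp h1, hn.conj_mem x h2 a⟩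
      · rintro ⟨h1, h2⟩
        refine ⟨(mem_normalizer_iff.mp (hAQ ha) x).mpr h1, ?_⟩
        have := hn.conj_mem _ h2 a⁻¹
        simpa [mul_assoc] using this
    have hcopH : (Nat.card A).Coprime (Nat.card H) := by
      obtain ⟨k, hk⟩ := IsPGroup.iff_card.mp (hQ.to_le (inf_le_left : H ≤ Q))
      rw [hk]; exact Nat.Coprime.pow_right k hcop
    have h1 : ⁅H, A⁆ ≤ Q ⊓ Subgroup.upperCentralSeries G i := by
      rw [commutator_le]
      intro x hx a ha
      rw [hH, mem_inf] at hx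
      rw [mem_inf]
      constructor
      · rw [commutatorElement_def]
        have h3 : a * x⁻¹ * a⁻¹ ∈ Q := (mem_normalizer_iff.mp (hAQ ha) x⁻¹).mp (Q.inv_mem hx.1)
        have h4 : x * a * x⁻¹ * a⁻¹ = x * (a * x⁻¹ * a⁻¹) := by group
        rw [h4]
        exact Q.mul_mem hx.1 h3
      · have := (Subgroup.mem_upperCentralSeries_succ_iff.mp hx.2) a
        rw [commutatorElement_def]
        exact this
    have h2 : ⁅⁅H, A⁆, A⁆ = ⊥ := by
      rw [eq_bot_iff]
      calc ⁅⁅H, A⁆, A⁆ ≤ ⁅Q ⊓ Subgroup.upperCentralSeries G i, A⁆ := commutator_mono h1 le_rfl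
        _ = ⊥ := by
          rw [commutator_comm, commutator_eq_bot_iff_le_centralizer]
          exact ih
    exact le_centralizer_of_coprime H A hAH hcopH h2

/-- Let G be a finite group and p a prime. If every element of G of order dividing p (dividing 4 when p = 2) lies in some fixed term Z_n(G) of the upper central series, then G has a normal p-complement. -/
theorem result {G : Type*} [Group G] [Finite G] {p : ℕ} [Fact p.Prime] (n : ℕ)
    (h : ∀ a : G, (a ^ p = 1 ∨ (p = 2 ∧ a ^ 4 = 1)) → a ∈ Subgroup.upperCentralSeries G n) : Cfsg.HasNormalPComplement p G := by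
  have hp : p.Prime := Fact.out
  obtain ⟨P⟩ : Nonempty (Sylow p G) := inferInstance
  refine ⟨P, ?_⟩
  rw [Cfsg.Agent.S0071.result P]
  intro Q hQP g hg hgo
  set A : Subgroup G := zpowers g with hA
  have hcardA : Nat.card A = orderOf g := Nat.card_zpowers g
  have hcop : (Nat.card A).Coprime p := by rw [hcardA]; exact hgo
  have hAQ : A ≤ normalizer (Q : Set G) := by
    rw [hA, zpowers_le]; exact hg
  have hQ : IsPGroup p Q := P.2.to_le hQP
  -- the exponent
  obtain ⟨e, hpe, hpch, he⟩ : ∃ e : ℕ, p ∣ e ∧ p ∣ e.choose 2 ∧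
      ∀ a : G, a ^ e = 1 → (a ^ p = 1 ∨ (p = 2 ∧ a ^ 4 = 1)) := by
    by_cases h2 : p = 2
    · refine ⟨4, ?_, ?_, ?_⟩
      · rw [h2]; norm_num
      · rw [h2]; decide
      · intro a ha; exact Or.inr ⟨h2, ha⟩
    · refine ⟨p, dvd_rfl, ?_, ?_⟩
      · apply Nat.Prime.dvd_choose_self hp (by norm_num)
        have := hp.two_le
        omega
      · intro a ha; exact Or.inl ha
  have hcent := le_centralizer_inf_upperCentralSeries p A Q hcop hQ hAQ n
  have hfix : ∀ x ∈ Q, x ^ e = 1 → ∀ a ∈ A, a * x = x * a := by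
    intro x hx hxe a ha
    have hxZ : x ∈ Subgroup.upperCentralSeries G n := h x (he x hxe)
    have := (mem_centralizer_iff.mp (hcent ha)) x (mem_inf.mpr ⟨hx, hxZ⟩)
    exact this.symm
  have := le_centralizer_of_centralizes_omega p e hpe hpch A hcop (Nat.card Q) Q rfl hQ hAQ hfix
  exact this (mem_zpowers g)

end Cfsg.Agent.S1947
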