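import Cfsg.Statements.S4275
import Mathlib

set_option autoImplicit false
open Cfsg

namespace Cfsg.Agent.S4275

theorem result {Ω : Type*} [Fintype Ω] (G : Subgroup (Equiv.Perm Ω)) (htr : MulAction.IsPretransitive G Ω) (o : Ω) (α : G ≃* G) : (∃ σ : Equiv.Perm Ω, σ ∈ Subgroup.normalizer (G : Set (Equiv.Perm Ω)) ∧ ∀ g : G, ((α g : G) : Equiv.Perm Ω) = σ * (g : Equiv.Perm Ω) * σ⁻¹) ↔ ∃ ω : Ω, ∀ g ∈ (MulAction.stabilizer G o).map α.toMonoidHom, g • ω = ω := by
  classical
  constructor
  · rintro ⟨σ, -, hσ⟩
    refine ⟨σ o, ?_⟩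
    rintro _ ⟨h, hh, rfl⟩
    have hh' : (h : Equiv.Perm Ω) o = o := hh
    show ((α h : G) : Equiv.Perm Ω) (σ o) = σ o
    rw [hσ h]
    simp [hh']
  · rintro ⟨ω, hω⟩
    have hfin : Finite G := inferInstance
    -- α(G_o) = G_ω
    have hle : (MulAction.stabilizer G o).map α.toMonoidHom ≤ MulAction.stabilizer G ω := by
      intro g hg
      exact hω g hg
    have hcard : Nat.card (MulAction.stabilizer G ω) ≤
        Nat.card ((MulAction.stabilizer G o).map α.toMonoidHom) := by
      rw [Subgroup.card_map_of_injective (f := α.toMonoidHom) α.injective]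
      obtain ⟨g, hg⟩ := MulAction.exists_smul_eq G o ω
      exact (Nat.card_congr (MulAction.stabilizerEquivStabilizer (G := G) hg.symm).toEquiv).ge
    have heq := Subgroup.eq_of_le_of_card_ge hle hcard
    have hiff : ∀ g : G, g • o = o ↔ (α g) • ω = ω := by
      intro g
      constructor
      · intro hg
        exact hω _ ⟨g, hg, rfl⟩
      · intro hg
        have : α g ∈ (MulAction.stabilizer G o).map α.toMonoidHom := by
          rw [heq]; exact hg
        obtain ⟨h, hh, hhg⟩ := this
        have : h = g := α.injective hhg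
        rw [← this]; exact hh
    -- the map
    have hex : ∀ y : Ω, ∃ g : G, g • o = y := fun y => MulAction.exists_smul_eq G o y
    choose c hc using hex
    let f : Ω → Ω := fun y => α (c y) • ω
    have hf : ∀ g : G, f (g • o) = α g • ω := by
      intro g
      show α (c (g • o)) • ω = α g • ω
      have h1 : ((c (g • o))⁻¹ * g) • o = o := by
        rw [mul_smul, inv_smul_eq_iff, hc]
      have h2 := (hiff _).1 h1
      rw [map_mul, map_inv, mul_smul, inv_smul_eq_iff] at h2
      exact h2.symm
    have hinj : Function.Injective f := by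
      intro y z hyz
      have hy := hc y
      have hz := hc z
      rw [← hy, ← hz, hf, hf] at hyz
      have h1 : (α ((c y)⁻¹ * c z)) • ω = ω := by
        rw [map_mul, map_inv, mul_smul, ← hyz, inv_smul_smul]
      have h2 := (hiff _).2 h1
      rw [mul_smul, inv_smul_eq_iff] at h2
      rw [← hy, ← hz, h2]
    have hbij : Function.Bijective f := Finite.injective_iff_bijective.1 hinj
    let σ : Equiv.Perm Ω := Equiv.ofBijective f hbij
    have hσf : ∀ y, σ y = f y := fun y => rfl
    have hconj : ∀ g : G, ((α g : G) : Equiv.Perm Ω) = σ * (g : Equiv.Perm Ω) * σ⁻¹ := by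
      intro g
      rw [eq_mul_inv_iff_mul_eq]
      ext y
      show ((α g : G) : Equiv.Perm Ω) (σ y) = σ ((g : Equiv.Perm Ω) y)
      rw [hσf, hσf]
      obtain ⟨k, rfl⟩ : ∃ k : G, k • o = y := ⟨c y, hc y⟩
      have e1 : (g : Equiv.Perm Ω) (k • o) = (g * k) • o := by
        rw [mul_smul]; rfl
      rw [e1, hf, hf, map_mul, mul_smul]
      rfl
    refine ⟨σ, ?_, hconj⟩
    rw [Subgroup.mem_normalizer_iff]
    intro g
    constructor
    · intro hg
      have := hconj ⟨g, hg⟩
      rw [← this]
      exact (α ⟨g, hg⟩).2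
    · intro hg
      obtain ⟨h, hh⟩ := α.surjective ⟨_, hg⟩
      have h1 := hconj h
      rw [hh] at h1
      have h2 : g = (h : Equiv.Perm Ω) := by
        have : σ * g * σ⁻¹ = σ * (h : Equiv.Perm Ω) * σ⁻¹ := h1
        simpa using this
      rw [h2]; exact h.2

end Cfsg.Agent.S4275
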