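import Cfsg.Statements.S4276
import Cfsg.Agent.S4275
import Cfsg.Agent.Lib.Helper71.TwistedDesign
import Mathlib

set_option autoImplicit false
open Cfsg

namespace Cfsg.Agent.S4276

open Cfsg.Agent.Lib.Helper71.TwistedDesign in
theorem result {Ω : Type*} [Fintype Ω] (G : Subgroup (Equiv.Perm Ω)) (h2 : MulAction.IsMultiplyPretransitive G Ω 2) (o : Ω) (α : MulAut G) (hα : Odd (orderOf α)) (ω : Ω) (hk : (Nat.card (MulAction.orbit ((MulAction.stabilizer G o).map α.toMonoidHom) ω)).Coprime (Fintype.card Ω)) : (∃ σ : Equiv.Perm Ω, σ ∈ Subgroup.normalizer (G : Set (Equiv.Perm Ω)) ∧ ∀ g : G, ((α g : G) : Equiv.Perm Ω) = σ * (g : Equiv.Perm Ω) * σ⁻¹) ∧ (Nat.card (MulAction.orbit ((MulAction.stabilizer G o).map α.toMonoidHom) ω) = 1 ∨ Nat.card (MulAction.orbit ((MulAction.stabilizer G o).map α.toMonoidHom) ω) = Fintype.card Ω - 1) := by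
  classical
  have htr : MulAction.IsPretransitive G Ω := MulAction.isPretransitive_of_is_two_pretransitive
  set K : Subgroup G := (MulAction.stabilizer G o).map α.toMonoidHom with hK
  set S : Set Ω := MulAction.orbit K ω with hSdef
  -- invariance of S under K
  have hKS : ∀ g ∈ K, ∀ x, g • x ∈ S ↔ x ∈ S := by
    intro g hg x
    have e : g • x = (⟨g, hg⟩ : K) • x := rfl
    rw [e, hSdef]
    constructor
    · intro hx
      have := MulAction.mem_orbit_of_mem_orbit (⟨g, hg⟩ : K)⁻¹ hx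
      rwa [inv_smul_smul] at this
    · intro hx
      exact MulAction.mem_orbit_of_mem_orbit _ hx
  have hS : ∀ h ∈ MulAction.stabilizer G o, ∀ x, α h • x ∈ S ↔ x ∈ S := by
    intro h hh x
    exact hKS (α h) ⟨h, hh, rfl⟩ x
  have hne : S.Nonempty := ⟨ω, MulAction.mem_orbit_self ω⟩
  have hcard := card_eq_one_or α o S h2 hα hS hne hk
  refine ⟨?_, hcard⟩
  -- K fixes a point
  have hfix : ∃ ω' : Ω, ∀ g ∈ K, g • ω' = ω' := by
    by_cases h1 : Nat.card S = 1
    · refine ⟨ω, ?_⟩
      intro g hg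
      have hsub : Subsingleton S := (Nat.card_eq_one_iff_unique.mp h1).1
      have hmem : g • ω ∈ S := (hKS g hg ω).mpr (MulAction.mem_orbit_self ω)
      have := Subsingleton.elim (⟨g • ω, hmem⟩ : S) ⟨ω, MulAction.mem_orbit_self ω⟩
      exact congrArg Subtype.val this
    · have h3 : Nat.card S = Fintype.card Ω - 1 := hcard.resolve_left h1
      have hcompl : Nat.card (Sᶜ : Set Ω) = 1 := by
        have := Set.ncard_add_ncard_compl S
        rw [Nat.card_coe_set_eq] at h3 ⊢
        rw [Nat.card_eq_fintype_card] at this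
        have hpos : 0 < Fintype.card Ω := Fintype.card_pos_iff.mpr ⟨o⟩
        omega
      obtain ⟨hsub, ⟨⟨ω', hω'⟩⟩⟩ := Nat.card_eq_one_iff_unique.mp hcompl
      refine ⟨ω', ?_⟩
      intro g hg
      have hmem : g • ω' ∈ (Sᶜ : Set Ω) := by
        intro hcon
        exact hω' ((hKS g hg ω').mp hcon)
      have := Subsingleton.elim (⟨g • ω', hmem⟩ : (Sᶜ : Set Ω)) ⟨ω', hω'⟩
      exact congrArg Subtype.val this
  exact (Cfsg.Agent.S4275.result G htr o α).mpr hfix

end Cfsg.Agent.S4276
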