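import Mathlib
import Cfsg.Statements.S0839

set_option autoImplicit false
open Cfsg

namespace Cfsg.Agent.S0839

open Projectivization in
theorem exists_SL_mulVec {F : Type*} [Field F] {ι : Type*} [Fintype ι] [DecidableEq ι]
    (b e : ι → F) (hb : b ≠ 0) (he : e ≠ 0) :
    ∃ (h : Matrix.SpecialLinearGroup ι F) (μ : F), μ ≠ 0 ∧
      (h : Matrix ι ι F).mulVec b = μ • e := by
  obtain ⟨h, hh⟩ := MulAction.exists_smul_eq (Matrix.SpecialLinearGroup ι F)
    (Projectivization.mk F b hb) (Projectivization.mk F e he)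
  rw [matrixSpecialLinearGroup_smul_def, specialLinearGroup_smul_def, smul_mk,
    Projectivization.mk_eq_mk_iff] at hh
  obtain ⟨a, ha⟩ := hh
  refine ⟨h, a, a.ne_zero, ?_⟩
  have : (a : F) • e = a • e := rfl
  rw [this, ha]
  rfl

theorem exists_vecMulVec_of_rank_one {F : Type*} [Field F] {ι : Type*} [Fintype ι] [DecidableEq ι]
    (M : Matrix ι ι F) (h : M.rank = 1) : ∃ a b : ι → F, M = Matrix.vecMulVec a b := by
  unfold Matrix.rank at h
  rw [finrank_eq_one_iff'] at h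
  obtain ⟨⟨a, ha⟩, -, hspan⟩ := h
  have : ∀ j : ι, ∃ c : F, c • a = M.mulVec (Pi.single j 1) := by
    intro j
    obtain ⟨c, hc⟩ := hspan ⟨M.mulVec (Pi.single j 1), ⟨Pi.single j 1, rfl⟩⟩
    exact ⟨c, congrArg Subtype.val hc⟩
  choose b hb using this
  refine ⟨a, b, ?_⟩
  ext i j
  have := congrFun (hb j) i
  simp only [Matrix.mulVec_single_one, Pi.smul_apply, smul_eq_mul] at this
  rw [Matrix.vecMulVec_apply, mul_comm, this]
  rfl

/-- general form: a transvection `1 + a bᵀ` in `SL` is conjugate to `1 + v e₀ᵀ` with `v i₀ = 0` -/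
theorem conj_form {F : Type*} [Field F] {ι : Type*} [Fintype ι] [DecidableEq ι] (i₀ : ι)
    (t : Matrix.SpecialLinearGroup ι F) (a b : ι → F)
    (hab : (t : Matrix ι ι F) = 1 + Matrix.vecMulVec a b) (hb : b ≠ 0)
    (hdot : b ⬝ᵥ a = 0) :
    ∃ (g : Matrix.SpecialLinearGroup ι F) (v : ι → F), v i₀ = 0 ∧
      ((g⁻¹ * t * g : Matrix.SpecialLinearGroup ι F) : Matrix ι ι F) =
        1 + Matrix.vecMulVec v (Pi.single i₀ 1) := by
  have he : (Pi.single i₀ 1 : ι → F) ≠ 0 := by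
    intro h
    have := congrFun h i₀
    simp at this
  obtain ⟨h, μ, hμ, hh⟩ := exists_SL_mulVec b (Pi.single i₀ 1) hb he
  let g : Matrix.SpecialLinearGroup ι F := h.transpose
  have hg : (g : Matrix ι ι F) = (h : Matrix ι ι F).transpose := rfl
  have hbg : Matrix.vecMul b (g : Matrix ι ι F) = μ • Pi.single i₀ 1 := by
    rw [hg, Matrix.vecMul_transpose, hh]
  have hginv : ((g⁻¹ : Matrix.SpecialLinearGroup ι F) : Matrix ι ι F) * (g : Matrix ι ι F) = 1 := by
    rw [← Matrix.SpecialLinearGroup.coe_mul, inv_mul_cancel, Matrix.SpecialLinearGroup.coe_one]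
  have hginv' : (g : Matrix ι ι F) * ((g⁻¹ : Matrix.SpecialLinearGroup ι F) : Matrix ι ι F) = 1 := by
    rw [← Matrix.SpecialLinearGroup.coe_mul, mul_inv_cancel, Matrix.SpecialLinearGroup.coe_one]
  set w : ι → F := ((g⁻¹ : Matrix.SpecialLinearGroup ι F) : Matrix ι ι F).mulVec a with hw
  refine ⟨g, μ • w, ?_, ?_⟩
  · -- (μ • w) i₀ = (b ᵥ* g) ⬝ᵥ w = b ⬝ᵥ (g *ᵥ w) = b ⬝ᵥ a = 0
    have h1 : (μ • Pi.single i₀ (1 : F)) ⬝ᵥ w = μ * w i₀ := by
      rw [smul_dotProduct, single_dotProduct]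
      simp
    have h2 : (Matrix.vecMul b (g : Matrix ι ι F)) ⬝ᵥ w = b ⬝ᵥ a := by
      rw [← Matrix.dotProduct_mulVec, hw, Matrix.mulVec_mulVec, hginv', Matrix.one_mulVec]
    rw [hbg, h1, hdot] at h2
    simpa using h2
  · rw [Matrix.SpecialLinearGroup.coe_mul, Matrix.SpecialLinearGroup.coe_mul, hab, Matrix.mul_add,
      Matrix.add_mul, Matrix.mul_one, hginv, Matrix.mul_vecMulVec, Matrix.vecMulVec_mul, hbg,
      Matrix.vecMulVec_smul, Matrix.smul_vecMulVec]

/-- Every transvection t ∈ SL_(n+2)(F) (rank(t − 1) = 1, (t − 1)² = 0) is conjugate in SL_(n+2)(F) to 1 + v·e_0ᵀ for some column vector v with v_0 = 0 (the group A of matrices that are the identity except in the first column below the diagonal); the dimension is written n + 2 ≥ 2. -/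
theorem result {F : Type*} [Field F] (n : ℕ) (t : Matrix.SpecialLinearGroup (Fin (n + 2)) F) (ht : Cfsg.IsTransvection (t : Matrix (Fin (n + 2)) (Fin (n + 2)) F)) : ∃ (g : Matrix.SpecialLinearGroup (Fin (n + 2)) F) (v : Fin (n + 2) → F), v 0 = 0 ∧ ((g⁻¹ * t * g : Matrix.SpecialLinearGroup (Fin (n + 2)) F) : Matrix (Fin (n + 2)) (Fin (n + 2)) F) = 1 + Matrix.vecMulVec v (Pi.single 0 1) := by
  obtain ⟨hrank, hsq⟩ := ht
  obtain ⟨a, b, hab⟩ := exists_vecMulVec_of_rank_one _ hrank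
  have hne : Matrix.vecMulVec a b ≠ 0 := by
    intro h0
    rw [hab, h0, Matrix.rank_zero] at hrank
    exact zero_ne_one hrank
  have hb : b ≠ 0 := by
    intro h0
    apply hne
    rw [h0, Matrix.vecMulVec_zero]
  have ha : a ≠ 0 := by
    intro h0
    apply hne
    rw [h0, Matrix.zero_vecMulVec]
  have hdot : b ⬝ᵥ a = 0 := by
    rw [hab, Matrix.vecMulVec_mul_vecMulVec, Matrix.vecMulVec_smul] at hsq
    by_contra hne0
    apply hne
    have := congrArg (fun M => (b ⬝ᵥ a)⁻¹ • M) hsq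
    simpa [smul_smul, inv_mul_cancel₀ hne0] using this
  have hab' : (t : Matrix (Fin (n + 2)) (Fin (n + 2)) F) = 1 + Matrix.vecMulVec a b := by
    rw [← hab]
    abel
  exact conj_form 0 t a b hab' hb hdot

end Cfsg.Agent.S0839
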