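import Cfsg.Statements.S5421
import Cfsg.Agent.Lib.Helper89.Large

set_option autoImplicit false
open Cfsg

namespace Cfsg.Agent.S5421

open Cfsg.Agent.Helper89
open scoped commutatorElement

theorem card_two_cases {H : Type*} [Group H] (h2 : Nat.card H = 2) (c : H) (hc : c ≠ 1) :
    ∀ x : H, x = 1 ∨ x = c := by
  intro x
  obtain ⟨y, hy, hyu⟩ := (Nat.card_eq_two_iff' (1 : H)).mp h2
  by_cases hx : x = 1
  · exact Or.inl hx
  · right
    rw [hyu x hx, hyu c hc]

/-- Let Q be an extraspecial 2-subgroup of the finite group G whose centralizer in G is its centre Z and which is normal in the centralizer of Z. If some involution b of Q outside Z has Z inside the largest normal 2-subgroup of the centralizer of b, then Q is a large extraspecial 2-subgroup of G. -/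
theorem result {G : Type*} [Group G] [Finite G] (Q : Subgroup G) (hL1 : Cfsg.IsExtraspecial 2 ↥Q) (hL2 : Subgroup.centralizer (Q : Set G) = ((Subgroup.center ↥Q).map Q.subtype)) (hL3 : Subgroup.centralizer (((Subgroup.center ↥Q).map Q.subtype) : Set G) ≤ Subgroup.normalizer (Q : Set G)) (b : G) (hbQ : b ∈ Q) (hbZ : b ∉ ((Subgroup.center ↥Q).map Q.subtype)) (hb : orderOf b = 2) (hZ : ((Subgroup.center ↥Q).map Q.subtype) ≤ (Cfsg.pCore 2 ↥(Subgroup.centralizer ({b} : Set G))).map (Subgroup.centralizer ({b} : Set G)).subtype) : Cfsg.IsLargeExtraspecial Q := by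
  refine ⟨hL1, hL2, hL3, ?_⟩
  intro K hKodd hQK
  have : Fact (Nat.Prime 2) := ⟨Nat.prime_two⟩
  have hZQ : (Subgroup.center ↥Q).map Q.subtype ≤ Q := by
    rintro _ ⟨x, _, rfl⟩
    exact x.2
  -- Step 1: an element q of Q with nontrivial commutator with b
  have hb' : (⟨b, hbQ⟩ : Q) ∉ Subgroup.center Q := by
    intro h
    apply hbZ
    exact ⟨⟨b, hbQ⟩, h, rfl⟩
  rw [Subgroup.mem_center_iff] at hb'
  push Not at hb'
  obtain ⟨q, hq⟩ := hb'
  have hcomm : ⁅q, (⟨b, hbQ⟩ : Q)⁆ ∈ Subgroup.center Q := by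
    rw [← hL1.1.2.2, commutator_def]
    exact Subgroup.commutator_mem_commutator (Subgroup.mem_top _) (Subgroup.mem_top _)
  have hcne : ⁅q, (⟨b, hbQ⟩ : Q)⁆ ≠ 1 := by
    intro h
    apply hq
    rw [commutatorElement_eq_one_iff_mul_comm] at h
    exact h
  set c' : Subgroup.center Q := ⟨⁅q, (⟨b, hbQ⟩ : Q)⁆, hcomm⟩ with hc'def
  have hc'ne : c' ≠ 1 := by
    intro h
    apply hcne
    exact congrArg Subtype.val h
  have hcases := card_two_cases hL1.2 c' hc'ne
  have hc'sq : c' * c' = 1 := by
    rcases hcases (c' * c') with h | h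
    · exact h
    · exfalso
      apply hc'ne
      have := congrArg (fun x => c'⁻¹ * x) h
      simpa using this
  set c : G := (q : G) * b * (q : G)⁻¹ * b⁻¹ with hcdef
  have hcval : ((c' : Q) : G) = c := by
    simp [hc'def, hcdef, commutatorElement_def]
  have hcZ : c ∈ (Subgroup.center ↥Q).map Q.subtype := ⟨c', c'.2, hcval⟩
  have hcsq : c * c = 1 := by
    have := congrArg (fun x : Subgroup.center Q => ((x : Q) : G)) hc'sq
    simpa [hcval] using this
  have hZcases : ∀ x ∈ (Subgroup.center ↥Q).map Q.subtype, x = 1 ∨ x = c := by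
    rintro _ ⟨x, hx, rfl⟩
    rcases hcases ⟨x, hx⟩ with h | h
    · left
      have := congrArg (fun x : Subgroup.center Q => ((x : Q) : G)) h
      simpa using this
    · right
      have := congrArg (fun x : Subgroup.center Q => ((x : Q) : G)) h
      simpa [hcval] using this
  have hcQ : c ∈ Q := hZQ hcZ
  -- c is central in Q
  have hccent : ∀ x ∈ Q, x * c = c * x := by
    intro x hx
    have h := (Subgroup.mem_center_iff.mp c'.2) ⟨x, hx⟩
    have := congrArg (Subtype.val) h
    simpa [hcval] using this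
  -- centralizer of Z is centralizer of c
  have hcentZ : ∀ k : G, k * c = c * k →
      k ∈ Subgroup.centralizer (((Subgroup.center ↥Q).map Q.subtype : Subgroup G) : Set G) := by
    intro k hk
    rw [Subgroup.mem_centralizer_iff]
    intro z hz
    rcases hZcases z hz with h | h
    · rw [h]; simp
    · rw [h]; exact hk.symm
  -- normalizer facts
  have hnorm : ∀ x ∈ Q, ∀ k ∈ K, x * k * x⁻¹ ∈ K := by
    intro x hx k hk
    exact (Subgroup.mem_normalizer_iff.mp (hQK hx) k).mp hk
  have hnorm' : ∀ x ∈ Q, ∀ k ∈ K, x⁻¹ * k * x ∈ K := by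
    intro x hx k hk
    have := hnorm x⁻¹ (Q.inv_mem hx) k hk
    simpa using this
  -- Step 3: K_c = ⊥
  have hKc : K ⊓ Subgroup.centralizer (((Subgroup.center ↥Q).map Q.subtype : Subgroup G) : Set G) = ⊥ := by
    apply odd_normalized_centralizing_center_eq_bot Q hL1 hL2 hL3
    · exact Odd.of_dvd_nat hKodd (Subgroup.card_dvd_of_le inf_le_left)
    · intro x hx
      rw [Subgroup.mem_normalizer_iff]
      intro k
      constructor
      · rintro ⟨hk1, hk2⟩
        refine ⟨hnorm x hx k hk1, ?_⟩
        apply hcentZ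
        have hkc : k * c = c * k := by
          have := (Subgroup.mem_centralizer_iff.mp hk2) c hcZ
          exact this.symm
        have hxc := hccent x hx
        have hxc' : x⁻¹ * c = c * x⁻¹ := by
          have := hccent x⁻¹ (Q.inv_mem hx)
          exact this
        calc x * k * x⁻¹ * c = x * k * (x⁻¹ * c) := by group
          _ = x * k * (c * x⁻¹) := by rw [hxc']
          _ = x * (k * c) * x⁻¹ := by group
          _ = x * (c * k) * x⁻¹ := by rw [hkc]
          _ = (x * c) * k * x⁻¹ := by group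
          _ = (c * x) * k * x⁻¹ := by rw [hxc]
          _ = c * (x * k * x⁻¹) := by group
      · rintro ⟨hk1, hk2⟩
        have h1 : k ∈ K := by
          have := hnorm' x hx _ hk1
          simpa [mul_assoc] using this
        refine ⟨h1, ?_⟩
        apply hcentZ
        have hkc : (x * k * x⁻¹) * c = c * (x * k * x⁻¹) := by
          have := (Subgroup.mem_centralizer_iff.mp hk2) c hcZ
          exact this.symm
        have hxc := hccent x hx
        have hxc' : x⁻¹ * c = c * x⁻¹ := hccent x⁻¹ (Q.inv_mem hx)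
        calc k * c = x⁻¹ * ((x * k * x⁻¹) * (x * c)) := by group
          _ = x⁻¹ * ((x * k * x⁻¹) * (c * x)) := by rw [hxc]
          _ = x⁻¹ * (((x * k * x⁻¹) * c) * x) := by group
          _ = x⁻¹ * ((c * (x * k * x⁻¹)) * x) := by rw [hkc]
          _ = (x⁻¹ * c) * x * k := by group
          _ = (c * x⁻¹) * x * k := by rw [hxc']
          _ = c * k := by group
    · exact inf_le_right
  -- Step 4: K_b = ⊥
  have hbsq : b * b = 1 := by
    have := pow_orderOf_eq_one b
    rw [hb, pow_two] at this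
    exact this
  have hbinv : b⁻¹ = b := inv_eq_of_mul_eq_one_right hbsq
  have hcb : c * b = b * c := (hccent b hbQ).symm
  set O : Subgroup G := (Cfsg.pCore 2 ↥(Subgroup.centralizer ({b} : Set G))).map (Subgroup.centralizer ({b} : Set G)).subtype with hO
  have hO2 : IsPGroup 2 O := by
    have h := pCore_isPGroup (G := ↥(Subgroup.centralizer ({b} : Set G))) (p := 2)
    exact h.map _
  have hKb : ∀ k ∈ K, b * k = k * b → k = 1 := by
    intro k hk hkb
    have hmem : k ∈ K ⊓ Subgroup.centralizer (((Subgroup.center ↥Q).map Q.subtype : Subgroup G) : Set G) := by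
      refine ⟨hk, ?_⟩
      apply hcentZ
      -- use commute_of_inf_eq_bot with K_b and O
      have hKbO : (K ⊓ Subgroup.centralizer ({b} : Set G)) ⊓ O = ⊥ := by
        apply odd_inf_two_group _ hO2
        exact Odd.of_dvd_nat hKodd (Subgroup.card_dvd_of_le inf_le_left)
      have hkKb : k ∈ K ⊓ Subgroup.centralizer ({b} : Set G) := by
        refine Subgroup.mem_inf.mpr ⟨hk, ?_⟩
        rw [Subgroup.mem_centralizer_singleton_iff]
        exact hkb.symm
      have hcO : c ∈ O := hZ hcZ
      apply commute_of_inf_eq_bot hKbO hkKb hcO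
      · refine Subgroup.mem_inf.mpr ⟨?_, ?_⟩
        · exact hnorm c hcQ _ (K.inv_mem hk)
        · rw [Subgroup.mem_centralizer_singleton_iff]
          have hcinv : c⁻¹ * b = b * c⁻¹ := by
            have := congrArg (fun x => c⁻¹ * x * c⁻¹) hcb
            simp only [mul_assoc, inv_mul_cancel_left, mul_inv_cancel, mul_one] at this
            exact this.symm
          have hkinv : k⁻¹ * b = b * k⁻¹ := by
            have := congrArg (fun x => k⁻¹ * x * k⁻¹) hkb
            simp only [mul_assoc, inv_mul_cancel_left, mul_inv_cancel, mul_one] at this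
            exact this
          calc c * k⁻¹ * c⁻¹ * b = c * k⁻¹ * (c⁻¹ * b) := by group
            _ = c * k⁻¹ * (b * c⁻¹) := by rw [hcinv]
            _ = c * (k⁻¹ * b) * c⁻¹ := by group
            _ = c * (b * k⁻¹) * c⁻¹ := by rw [hkinv]
            _ = (c * b) * k⁻¹ * c⁻¹ := by group
            _ = (b * c) * k⁻¹ * c⁻¹ := by rw [hcb]
            _ = b * (c * k⁻¹ * c⁻¹) := by group
      · -- k c k⁻¹ ∈ O by normality in the centralizer of b
        obtain ⟨c₀, hc₀, hc₀c⟩ := hcO
        have hkC : k ∈ Subgroup.centralizer ({b} : Set G) := hkKb.2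
        have hn : (Cfsg.pCore 2 ↥(Subgroup.centralizer ({b} : Set G))).Normal := inferInstance
        have := hn.conj_mem c₀ hc₀ ⟨k, hkC⟩
        refine ⟨_, this, ?_⟩
        simp [← hc₀c]
    rw [hKc, Subgroup.mem_bot] at hmem
    exact hmem
  -- Step 5: c and b invert K
  have hfin : Finite K := inferInstance
  have hcinvK : ∀ k ∈ K, c * k * c⁻¹ = k⁻¹ := by
    apply inverts_of_fixed_point_free K c hcsq (hnorm c hcQ)
    intro k hk hkc
    have hmem : k ∈ K ⊓ Subgroup.centralizer (((Subgroup.center ↥Q).map Q.subtype : Subgroup G) : Set G) :=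
      ⟨hk, hcentZ k hkc.symm⟩
    rw [hKc, Subgroup.mem_bot] at hmem
    exact hmem
  have hbinvK : ∀ k ∈ K, b * k * b⁻¹ = k⁻¹ :=
    inverts_of_fixed_point_free K b hbsq (hnorm b hbQ) hKb
  -- Step 6
  rw [eq_bot_iff]
  intro k hk
  rw [Subgroup.mem_bot]
  have hqQ : (q : G) ∈ Q := q.2
  have hk' : (q : G)⁻¹ * k * q ∈ K := hnorm' q hqQ k hk
  have hqb : (q : G) * b * (q : G)⁻¹ = c * b := by
    rw [hcdef]; group
  have h1 : (c * b) * k * (c * b)⁻¹ = k := by
    calc (c * b) * k * (c * b)⁻¹ = c * (b * k * b⁻¹) * c⁻¹ := by group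
      _ = c * k⁻¹ * c⁻¹ := by rw [hbinvK k hk]
      _ = (k⁻¹)⁻¹ := hcinvK k⁻¹ (K.inv_mem hk)
      _ = k := inv_inv k
  have h2 : b * ((q : G)⁻¹ * k * q) = ((q : G)⁻¹ * k * q) * b := by
    rw [← hqb] at h1
    have h3 : (q : G) * b * (q : G)⁻¹ * k = k * ((q : G) * b * (q : G)⁻¹) := by
      have := congrArg (fun x => x * ((q : G) * b * (q : G)⁻¹)) h1
      simpa [mul_assoc] using this
    calc b * ((q : G)⁻¹ * k * q) = (q : G)⁻¹ * ((q : G) * b * (q : G)⁻¹ * k) * q := by group
      _ = (q : G)⁻¹ * (k * ((q : G) * b * (q : G)⁻¹)) * q := by rw [h3]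
      _ = ((q : G)⁻¹ * k * q) * b := by group
  have h4 := hKb _ hk' h2
  have := congrArg (fun x => (q : G) * x * (q : G)⁻¹) h4
  simpa [mul_assoc] using this

end Cfsg.Agent.S5421
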