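import Cfsg.Statements.S5422
import Cfsg.Agent.S5421
import Cfsg.Agent.Lib.Helper89.LargeKey
import Cfsg.Agent.Lib.Helper89.FourGroup

set_option autoImplicit false
open Cfsg

namespace Cfsg.Agent.S5422

open Cfsg.Agent.Helper89

/-- Let Q be an extraspecial 2-subgroup of the finite group G whose centralizer in G is its centre Z and which is normal in the centralizer of Z; suppose Q has width at least 2 (order 2^(2w+1) with w ≥ 2) and g is an element of G not normalizing Z with g Z g⁻¹ inside Q. Then Z lies inside g Q g⁻¹; writing V for the subgroup generated by Z and g Z g⁻¹ (a four-group), the normalizer of V induces on V its full automorphism group, that is, the centralizer of V has index 6 in the normalizer of V; and Q is a large extraspecial 2-subgroup of G. -/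
theorem result {G : Type*} [Group G] [Finite G] (Q : Subgroup G) (hL1 : Cfsg.IsExtraspecial 2 ↥Q) (hL2 : Subgroup.centralizer (Q : Set G) = ((Subgroup.center ↥Q).map Q.subtype)) (hL3 : Subgroup.centralizer (((Subgroup.center ↥Q).map Q.subtype) : Set G) ≤ Subgroup.normalizer (Q : Set G)) (w : ℕ) (hw : 2 ≤ w) (hcard : Nat.card ↥Q = 2 ^ (2 * w + 1)) (g : G) (hg : g ∉ Subgroup.normalizer (((Subgroup.center ↥Q).map Q.subtype) : Set G)) (hZg : (((Subgroup.center ↥Q).map Q.subtype)).map (MulAut.conj g).toMonoidHom ≤ Q) : ((Subgroup.center ↥Q).map Q.subtype) ≤ (Q).map (MulAut.conj g).toMonoidHom ∧ (Subgroup.centralizer ((((Subgroup.center ↥Q).map Q.subtype) ⊔ (((Subgroup.center ↥Q).map Q.subtype)).map (MulAut.conj g).toMonoidHom : Subgroup G) : Set G)).relIndex (Subgroup.normalizer ((((Subgroup.center ↥Q).map Q.subtype) ⊔ (((Subgroup.center ↥Q).map Q.subtype)).map (MulAut.conj g).toMonoidHom : Subgroup G) : Set G)) = 6 ∧ Cfsg.IsLargeExtraspecial Q := by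
  have : Fact (Nat.Prime 2) := ⟨Nat.prime_two⟩
  obtain ⟨z, hES, hZ⟩ := ES.of_extraspecial Q hL1
  set Z : Subgroup G := (Subgroup.center ↥Q).map Q.subtype with hZdef
  have hzZ : z ∈ Z := (hZ z).mpr (Or.inr rfl)
  -- C_G(Q) = {1, z}
  have hC : ∀ x : G, (∀ y ∈ Q, x * y = y * x) → x = 1 ∨ x = z := by
    intro x hx
    apply (hZ x).mp
    rw [← hL2, Subgroup.mem_centralizer_iff]
    intro y hy
    exact (hx y hy).symm
  -- C_G(z) ≤ N_G(Q)
  have hN : ∀ x : G, x * z = z * x → ∀ y ∈ Q, x * y * x⁻¹ ∈ Q := by
    intro x hx y hy
    have hxC : x ∈ Subgroup.centralizer ((Z : Subgroup G) : Set G) := by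
      rw [Subgroup.mem_centralizer_iff]
      intro v hv
      rcases (hZ v).mp hv with h | h
      · rw [h]; simp
      · rw [h]; exact hx.symm
    have hxN := hL3 hxC
    exact (Subgroup.mem_normalizer_iff.mp hxN y).mp hy
  set a : G := g * z * g⁻¹ with ha
  have haZg : a ∈ Z.map (MulAut.conj g).toMonoidHom := conj_mem_map_conj Z g hzZ
  have haQ : a ∈ Q := hZg haZg
  have memZg : ∀ x : G, x ∈ Z.map (MulAut.conj g).toMonoidHom ↔ x = 1 ∨ x = a := by
    intro x
    rw [mem_map_conj_iff, hZ]
    constructor
    · rintro (h | h)
      · left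
        have := congrArg (fun w => g * w * g⁻¹) h
        simpa [mul_assoc] using this
      · right
        have := congrArg (fun w => g * w * g⁻¹) h
        simpa [mul_assoc, ha] using this
    · rintro (h | h)
      · left; rw [h]; group
      · right; rw [h, ha]; group
  have hne : a ≠ z := by
    intro h
    apply hg
    apply mem_normalizer_of_conj_mem
    · intro v hv
      rcases (hZ v).mp hv with h1 | h1
      · rw [h1]; simp [Z.one_mem]
      · rw [h1, ← ha, h]; exact hzZ
    · intro v hv
      have h2 : g⁻¹ * z * g = z := by
        have : g⁻¹ * a * g = z := by rw [ha]; group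
        rw [h] at this; exact this
      rcases (hZ v).mp hv with h1 | h1
      · rw [h1]; simp [Z.one_mem]
      · rw [h1, h2]; exact hzZ
  have hP : ES (Q.map (MulAut.conj g).toMonoidHom) a := hES.conj g
  have ha1 : a ≠ 1 := hP.ne_one
  have hcard32 : 32 ≤ Nat.card Q := by
    rw [hcard]
    calc 32 = 2 ^ 5 := by norm_num
      _ ≤ 2 ^ (2 * w + 1) := Nat.pow_le_pow_right (by norm_num) (by omega)
  -- (1)
  have hzP : z ∈ Q.map (MulAut.conj g).toMonoidHom :=
    center_mem_conj Q z hES hC hN hcard32 g haQ hne
  have h1 : Z ≤ Q.map (MulAut.conj g).toMonoidHom := by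
    intro x hx
    rcases (hZ x).mp hx with h | h
    · rw [h]; exact Subgroup.one_mem _
    · rw [h]; exact hzP
  -- (3)
  have haZ : a ∉ Z := by
    intro h
    rcases (hZ a).mp h with h' | h'
    · exact ha1 h'
    · exact hne h'
  have haord : orderOf a = 2 := by
    apply orderOf_eq_prime
    · rw [pow_two]; exact hP.sq
    · exact ha1
  have h3 : Cfsg.IsLargeExtraspecial Q := by
    apply Cfsg.Agent.S5421.result Q hL1 hL2 hL3 a haQ haZ haord
    -- Z ≤ O_2(C_G(a))
    set P : Subgroup G := Q.map (MulAut.conj g).toMonoidHom with hPdef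
    have hPC : P ≤ Subgroup.centralizer ({a} : Set G) := by
      intro x hx
      rw [Subgroup.mem_centralizer_singleton_iff]
      exact hP.central x hx
    have hPn : (P.subgroupOf (Subgroup.centralizer ({a} : Set G))).Normal := by
      constructor
      intro n hn k
      rw [Subgroup.mem_subgroupOf] at hn ⊢
      have hk : (k : G) * a = a * k := Subgroup.mem_centralizer_singleton_iff.mp k.2
      have : (k : G) * n * (k : G)⁻¹ ∈ P := normalizes_conj Q z hN g k hk n hn
      simpa using this
    have hP2 : IsPGroup 2 (P.subgroupOf (Subgroup.centralizer ({a} : Set G))) :=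
      hP.pgroup.comap_subtype
    have hle : P.subgroupOf (Subgroup.centralizer ({a} : Set G)) ≤
        Cfsg.pCore 2 ↥(Subgroup.centralizer ({a} : Set G)) :=
      le_sSup ⟨hPn, hP2⟩
    intro x hx
    have hxP : x ∈ P := h1 hx
    exact ⟨⟨x, hPC hxP⟩, hle (Subgroup.mem_subgroupOf.mpr hxP), rfl⟩
  refine ⟨h1, ?_, h3⟩
  -- (2)
  have hza_comm : z * a = a * z := (hES.central a haQ).symm
  obtain ⟨q, hqQ, hqa⟩ := hES.exists_conj haQ ha1 hne
  have hqz : q * z * q⁻¹ = z := by
    rw [hES.central q hqQ]; group
  -- p in P moving z
  have hzP1 : z ≠ 1 := hES.ne_one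
  obtain ⟨p, hpP, hpz⟩ := hP.exists_conj hzP hzP1 (fun h => hne h.symm)
  have hpa : p * a * p⁻¹ = a := by
    rw [hP.central p hpP]; group
  have hpz' : p * z * p⁻¹ = z * a := by
    rw [hpz, hza_comm]
  apply relIndex_centralizer_normalizer_four _ z a _ hzP1 ha1 (fun h => hne h.symm) hES.sq hP.sq
    hza_comm q p hqz hqa hpa hpz'
  -- description of V
  intro x
  constructor
  · intro hx
    -- V ≤ the four element subgroup
    let W : Subgroup G :=
      { carrier := {x | x = 1 ∨ x = z ∨ x = a ∨ x = z * a}
        one_mem' := Or.inl rfl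
        mul_mem' := by
          have hzz := hES.sq
          have haa := hP.sq
          rintro u v (rfl | rfl | rfl | rfl) (rfl | rfl | rfl | rfl)
          · left; simp
          · right; left; simp
          · right; right; left; simp
          · right; right; right; simp
          · right; left; simp
          · left; exact hzz
          · right; right; right; rfl
          · right; right; left; rw [← mul_assoc, hzz, one_mul]
          · right; right; left; simp
          · right; right; right; exact hza_comm.symm
          · left; exact haa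
          · right; left; rw [← mul_assoc, ← hza_comm, mul_assoc, haa, mul_one]
          · right; right; right; simp
          · right; right; left
            rw [hza_comm, mul_assoc, hzz, mul_one]
          · right; left; rw [mul_assoc, haa, mul_one]
          · left
            calc z * a * (z * a) = z * (a * z) * a := by group
              _ = z * (z * a) * a := by rw [← hza_comm]
              _ = (z * z) * (a * a) := by group
              _ = 1 := by rw [hzz, haa, one_mul]
        inv_mem' := by
          have hzi := hES.inv_eq
          have hai := hP.inv_eq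
          rintro u (rfl | rfl | rfl | rfl)
          · left; simp
          · right; left; exact hzi
          · right; right; left; exact hai
          · right; right; right
            rw [mul_inv_rev, hzi, hai, hza_comm] }
    have hW : Z ⊔ Z.map (MulAut.conj g).toMonoidHom ≤ W := by
      apply sup_le
      · intro v hv
        rcases (hZ v).mp hv with h | h
        · exact Or.inl h
        · exact Or.inr (Or.inl h)
      · intro v hv
        rcases (memZg v).mp hv with h | h
        · exact Or.inl h
        · exact Or.inr (Or.inr (Or.inl h))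
    exact hW hx
  · rintro (h | h | h | h)
    · rw [h]; exact Subgroup.one_mem _
    · rw [h]; exact (le_sup_left : Z ≤ _) hzZ
    · rw [h]; exact (le_sup_right : Z.map (MulAut.conj g).toMonoidHom ≤ _) haZg
    · rw [h]
      exact Subgroup.mul_mem _ ((le_sup_left : Z ≤ _) hzZ)
        ((le_sup_right : Z.map (MulAut.conj g).toMonoidHom ≤ _) haZg)

end Cfsg.Agent.S5422
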