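import Cfsg.Statements.S0445
import Mathlib

set_option autoImplicit false
open Cfsg

namespace Cfsg.Agent.S0445

open Matrix

theorem units_zmod2 (u : (ZMod 2)ˣ) : u = 1 := by
  have : ∀ x : ZMod 2, IsUnit x → x = 1 := by decide
  exact Units.ext (this u u.isUnit)

theorem card_SL3 : Nat.card (Matrix.SpecialLinearGroup (Fin 3) (ZMod 2)) = 168 := by
  have e : Matrix.SpecialLinearGroup (Fin 3) (ZMod 2) ≃ GL (Fin 3) (ZMod 2) :=
    Equiv.ofBijective Matrix.SpecialLinearGroup.toGL
      ⟨Matrix.SpecialLinearGroup.toGL_injective, fun g => by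
        have hdet : Matrix.det (g : Matrix (Fin 3) (Fin 3) (ZMod 2)) = 1 := by
          have := units_zmod2 (Matrix.GeneralLinearGroup.det g)
          have := congrArg Units.val this
          simpa using this
        exact ⟨⟨g.1, hdet⟩, Units.ext rfl⟩⟩
  rw [Nat.card_congr e, Matrix.card_GL_field]
  simp [Fin.prod_univ_succ]

/-- The shape of the matrices commuting with the transvection. -/
def shape (u : Fin 4 → ZMod 2) (v : Fin 3 → ZMod 2) (B : Matrix (Fin 3) (Fin 3) (ZMod 2)) :
    Matrix (Fin 5) (Fin 5) (ZMod 2) :=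
  !![1, u 0, u 1, u 2, u 3;
     0, 1, 0, 0, 0;
     0, v 0, B 0 0, B 0 1, B 0 2;
     0, v 1, B 1 0, B 1 1, B 1 2;
     0, v 2, B 2 0, B 2 1, B 2 2]

theorem det_shape (u : Fin 4 → ZMod 2) (v : Fin 3 → ZMod 2) (B : Matrix (Fin 3) (Fin 3) (ZMod 2)) :
    (shape u v B).det = B.det := by
  rw [Matrix.det_succ_column_zero]
  simp [Fin.sum_univ_succ, shape, Matrix.det_succ_row_zero]

theorem shape_comm (u : Fin 4 → ZMod 2) (v : Fin 3 → ZMod 2) (B : Matrix (Fin 3) (Fin 3) (ZMod 2)) :
    shape u v B * Matrix.transvection 0 1 1 = Matrix.transvection 0 1 1 * shape u v B := by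
  rw [Matrix.transvection, mul_add, add_mul, mul_one, one_mul]
  congr 1
  ext i j
  fin_cases i <;> fin_cases j <;>
    simp [shape, Matrix.mul_apply, Matrix.single_apply]

/-- Entrywise form of commutation with the transvection. -/
theorem comm_entry (A : Matrix (Fin 5) (Fin 5) (ZMod 2))
    (h : A * Matrix.transvection 0 1 1 = Matrix.transvection 0 1 1 * A) (i j : Fin 5) :
    (if j = 1 then A i 0 else 0) = (if i = 0 then A 1 j else 0) := by
  rw [Matrix.transvection, mul_add, add_mul, mul_one, one_mul] at h
  have h' := add_left_cancel h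
  have := congrFun (congrFun h' i) j
  simp only [Matrix.mul_apply, Matrix.single_apply, Fin.sum_univ_succ] at this
  simpa [eq_comm] using this

theorem eq_shape (A : Matrix (Fin 5) (Fin 5) (ZMod 2))
    (h : A * Matrix.transvection 0 1 1 = Matrix.transvection 0 1 1 * A) (hdet : A.det = 1) :
    A = shape (fun k => A 0 k.succ) (fun k => A k.succ.succ 1)
      (A.submatrix (fun k => k.succ.succ) (fun k => k.succ.succ)) := by
  have c := comm_entry A h
  have h10 : A 1 0 = 0 := by simpa using c 1 1
  have h20 : A 2 0 = 0 := by simpa using c 2 1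
  have h30 : A 3 0 = 0 := by simpa using c 3 1
  have h40 : A 4 0 = 0 := by simpa using c 4 1
  have h12 : A 1 2 = 0 := by simpa using (c 0 2).symm
  have h13 : A 1 3 = 0 := by simpa using (c 0 3).symm
  have h14 : A 1 4 = 0 := by simpa using (c 0 4).symm
  have h0011 : A 0 0 = A 1 1 := by simpa using c 0 1
  have h00 : A 0 0 = 1 := by
    have hz : ∀ x : ZMod 2, x ≠ 0 → x = 1 := by decide
    apply hz
    intro h0
    have : A.det = 0 := by
      apply Matrix.det_eq_zero_of_column_eq_zero 0
      intro i
      fin_cases i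
      · exact h0
      · exact h10
      · exact h20
      · exact h30
      · exact h40
    rw [this] at hdet
    exact zero_ne_one hdet
  have h11 : A 1 1 = 1 := h0011 ▸ h00
  ext i j
  fin_cases i <;> fin_cases j <;>
    simp [shape, h10, h20, h30, h40, h12, h13, h14, h00, h11]

/-- The parameter space. -/
abbrev Param := (Fin 4 → ZMod 2) × (Fin 3 → ZMod 2) × Matrix.SpecialLinearGroup (Fin 3) (ZMod 2)

theorem card_param : Nat.card Param = 21504 := by
  rw [Nat.card_prod, Nat.card_prod, card_SL3]
  simp

/-- The centraliser condition in matrix form. -/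
theorem mem_centralizer_iff_mat (s g : Matrix.SpecialLinearGroup (Fin 5) (ZMod 2))
    (hs : (s : Matrix (Fin 5) (Fin 5) (ZMod 2)) = Matrix.transvection 0 1 1) :
    g ∈ Subgroup.centralizer ({s} : Set (Matrix.SpecialLinearGroup (Fin 5) (ZMod 2))) ↔
      (g : Matrix (Fin 5) (Fin 5) (ZMod 2)) * Matrix.transvection 0 1 1 =
        Matrix.transvection 0 1 1 * (g : Matrix (Fin 5) (Fin 5) (ZMod 2)) := by
  rw [Subgroup.mem_centralizer_iff]
  constructor
  · intro h
    have := h s rfl
    have := congrArg Subtype.val this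
    simp only [Matrix.SpecialLinearGroup.coe_mul, hs] at this
    exact this.symm
  · intro h x hx
    rw [Set.mem_singleton_iff] at hx
    subst hx
    apply Subtype.ext
    simp only [Matrix.SpecialLinearGroup.coe_mul, hs]
    exact h.symm

/-- From a centraliser element to parameters. -/
noncomputable def toParam (s : Matrix.SpecialLinearGroup (Fin 5) (ZMod 2))
    (hs : (s : Matrix (Fin 5) (Fin 5) (ZMod 2)) = Matrix.transvection 0 1 1)
    (g : Subgroup.centralizer ({s} : Set (Matrix.SpecialLinearGroup (Fin 5) (ZMod 2)))) : Param :=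
  let A : Matrix (Fin 5) (Fin 5) (ZMod 2) := ((g : Matrix.SpecialLinearGroup (Fin 5) (ZMod 2)) :
    Matrix (Fin 5) (Fin 5) (ZMod 2))
  ⟨fun k => A 0 k.succ, fun k => A k.succ.succ 1,
    ⟨A.submatrix (fun k => k.succ.succ) (fun k => k.succ.succ), by
      have h := (mem_centralizer_iff_mat s g.1 hs).mp g.2
      have hdet : A.det = 1 := (g : Matrix.SpecialLinearGroup (Fin 5) (ZMod 2)).det_coe
      have := eq_shape A h hdet
      have hd := congrArg Matrix.det this
      rw [det_shape, hdet] at hd
      exact hd.symm⟩⟩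

/-- From parameters to a centraliser element. -/
noncomputable def ofParam (s : Matrix.SpecialLinearGroup (Fin 5) (ZMod 2))
    (hs : (s : Matrix (Fin 5) (Fin 5) (ZMod 2)) = Matrix.transvection 0 1 1)
    (p : Param) : Subgroup.centralizer ({s} : Set (Matrix.SpecialLinearGroup (Fin 5) (ZMod 2))) :=
  ⟨⟨shape p.1 p.2.1 (p.2.2 : Matrix (Fin 3) (Fin 3) (ZMod 2)), by
      rw [det_shape]; exact p.2.2.det_coe⟩,
    (mem_centralizer_iff_mat s _ hs).mpr (shape_comm _ _ _)⟩

noncomputable def theEquiv (s : Matrix.SpecialLinearGroup (Fin 5) (ZMod 2))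
    (hs : (s : Matrix (Fin 5) (Fin 5) (ZMod 2)) = Matrix.transvection 0 1 1) :
    Subgroup.centralizer ({s} : Set (Matrix.SpecialLinearGroup (Fin 5) (ZMod 2))) ≃ Param where
  toFun := toParam s hs
  invFun := ofParam s hs
  left_inv g := by
    apply Subtype.ext
    apply Subtype.ext
    have h := (mem_centralizer_iff_mat s g.1 hs).mp g.2
    have hdet := (g : Matrix.SpecialLinearGroup (Fin 5) (ZMod 2)).det_coe
    exact (eq_shape _ h hdet).symm
  right_inv p := by
    obtain ⟨u, v, B⟩ := p
    refine Prod.ext ?_ (Prod.ext ?_ ?_)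
    · funext k
      fin_cases k <;> simp [toParam, ofParam, shape]
    · funext k
      fin_cases k <;> simp [toParam, ofParam, shape]
    · apply Subtype.ext
      ext i j
      fin_cases i <;> fin_cases j <;> simp [toParam, ofParam, shape]

/-- In the special linear group of dimension 5 over the field with two elements, the centraliser of a transvection has order 21504 = 2 ^ 7 · 168 (it is an extension of an extraspecial group of order 2 ^ 7 by the simple group of order 168). -/
theorem result (s : Matrix.SpecialLinearGroup (Fin 5) (ZMod 2)) (hs : (s : Matrix (Fin 5) (Fin 5) (ZMod 2)) = Matrix.transvection 0 1 1) : Nat.card (Subgroup.centralizer ({s} : Set (Matrix.SpecialLinearGroup (Fin 5) (ZMod 2)))) = 21504 := by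
  rw [Nat.card_congr (theEquiv s hs), card_param]

end Cfsg.Agent.S0445
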