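import Cfsg.Statements.S1217
import Mathlib
import Cfsg.Agent.Lib.Helper73.GL2Sylow

set_option autoImplicit false
open scoped MatrixGroups
open Cfsg

namespace Cfsg.Agent.S1217

open Cfsg.Agent.Helper73

lemma card_GL2 {F : Type*} [Field F] [Fintype F] :
    Nat.card (GL (Fin 2) F) = (Fintype.card F ^ 2 - 1) * (Fintype.card F ^ 2 - Fintype.card F) := by
  rw [Matrix.card_GL_field, Fin.prod_univ_two]
  simp

/-- Let F be a finite field with q elements, q odd, and P a Sylow 2-subgroup of GL(2,F). If q ≡ 3 (mod 4) then P is quasi-dihedral; if q ≡ 1 (mod 4) then P is wreathed. -/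
theorem result {F : Type*} [Field F] [Fintype F] (P : Sylow 2 (GL (Fin 2) F)) : (Fintype.card F % 4 = 3 → Cfsg.IsQuasiDihedral (P : Subgroup (GL (Fin 2) F))) ∧ (Fintype.card F % 4 = 1 → Cfsg.IsWreathed (P : Subgroup (GL (Fin 2) F))) := by
  have h2 : Fact (Nat.Prime 2) := ⟨Nat.prime_two⟩
  have hcard : Nat.card ↥(P : Subgroup (GL (Fin 2) F)) =
      2 ^ ((Fintype.card F ^ 2 - 1) * (Fintype.card F ^ 2 - Fintype.card F)).factorization 2 := by
    have := P.card_eq_multiplicity
    rwa [card_GL2] at this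
  constructor
  · intro hq
    obtain ⟨hv, hm⟩ := v2_card_GL2_three _ hq
    set m := (Fintype.card F + 1).factorization 2 with hmdef
    -- q + 1 = 2^m * odd
    have hne : Fintype.card F + 1 ≠ 0 := by omega
    have hdvd : 2 ^ m ∣ Fintype.card F + 1 := Nat.ordProj_dvd _ 2
    obtain ⟨u, hu⟩ := hdvd
    have huodd : u % 2 = 1 := by
      by_contra hcon
      have hu2 : 2 ∣ u := by omega
      obtain ⟨u', rfl⟩ := hu2
      have : 2 ^ (m + 1) ∣ Fintype.card F + 1 := ⟨u', by rw [hu, pow_succ]; ring⟩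
      have := (Nat.Prime.pow_dvd_iff_le_factorization Nat.prime_two hne).1 this
      omega
    obtain ⟨t, ht⟩ : ∃ t, u = 2 * t + 1 := ⟨u / 2, by omega⟩
    rw [ht] at hu
    obtain ⟨x, y, hx, hy, hxy⟩ := qd_elements (F := F) m t (by omega) hu
    obtain ⟨x', y', hx', hy', hxy'⟩ := exists_qd_in_sylow P x y (m + 1) (2 ^ m - 1) hx hy hxy
    refine ⟨m + 1, by omega, ?_, x', y', hx', hy', ?_⟩
    · rw [hcard, hv]
    · rw [Nat.add_sub_cancel]; exact hxy'
  · intro hq
    have hq1 : 1 < Fintype.card F := Fintype.one_lt_card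
    obtain ⟨hv, hn⟩ := v2_card_GL2_one _ hq hq1
    set n := (Fintype.card F - 1).factorization 2 with hndef
    have hdvd : 2 ^ n ∣ Nat.card F - 1 := by
      rw [Nat.card_eq_fintype_card]; exact Nat.ordProj_dvd _ 2
    obtain ⟨ω, hω⟩ := exists_unit_orderOf (K := F) (2 ^ n) hdvd
    obtain ⟨x, y, z, hx, hxy, hd, hz, hzx⟩ := wr_elements n ω hω
    obtain ⟨x', y', z', h1, h2, h3, h4, h5⟩ := exists_wr_in_sylow P x y z n hx hxy hd hz hzx
    refine ⟨n, hn, ?_, x', y', z', h1, h2, h3, h4, h5⟩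
    rw [hcard, hv]

end Cfsg.Agent.S1217
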