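import Cfsg.Statements.S5395
import Cfsg.Agent.Lib.Helper89.HomCard

set_option autoImplicit false
open Cfsg

namespace Cfsg.Agent.S5395

open Cfsg.Agent.Helper89
open scoped IsMulCommutative commutatorElement

variable {E : Type*} [Group E]

/-- The central-valued homomorphism `x ↦ ψ x * x⁻¹` attached to an automorphism that is trivial
modulo the centre. -/
def homOf (ψ : E ≃* E) (h : ∀ x : E, ψ x * x⁻¹ ∈ Subgroup.center E) : E →* Subgroup.center E where
  toFun x := ⟨ψ x * x⁻¹, h x⟩
  map_one' := by
    apply Subtype.ext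
    simp
  map_mul' x y := by
    apply Subtype.ext
    have hy := Subgroup.mem_center_iff.mp (h y)
    show ψ (x * y) * (x * y)⁻¹ = (ψ x * x⁻¹) * (ψ y * y⁻¹)
    rw [map_mul, mul_inv_rev]
    calc ψ x * ψ y * (y⁻¹ * x⁻¹) = ψ x * ((ψ y * y⁻¹) * x⁻¹) := by group
      _ = ψ x * (x⁻¹ * (ψ y * y⁻¹)) := by rw [hy x⁻¹]
      _ = (ψ x * x⁻¹) * (ψ y * y⁻¹) := by group

theorem homOf_apply (ψ : E ≃* E) (h : ∀ x : E, ψ x * x⁻¹ ∈ Subgroup.center E) (x : E) :
    ((homOf ψ h x : Subgroup.center E) : E) = ψ x * x⁻¹ := rfl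

theorem conj_mem_center (hc : commutator E = Subgroup.center E) (g x : E) :
    (MulAut.conj g) x * x⁻¹ ∈ Subgroup.center E := by
  rw [← hc, commutator_def]
  have : (MulAut.conj g) x * x⁻¹ = ⁅g, x⁆ := by
    simp [commutatorElement_def]
  rw [this]
  exact Subgroup.commutator_mem_commutator (Subgroup.mem_top _) (Subgroup.mem_top _)

/-- The homomorphism `g ↦ (x ↦ [g, x])` from `E` to `Hom(E, Z(E))`. -/
def commHom (hc : commutator E = Subgroup.center E) : E →* (E →* Subgroup.center E) where
  toFun g := homOf (MulAut.conj g) (conj_mem_center hc g)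
  map_one' := by
    ext x
    simp [homOf]
  map_mul' g h := by
    ext x
    have hz := Subgroup.mem_center_iff.mp (conj_mem_center hc h x)
    show (MulAut.conj (g * h)) x * x⁻¹ = ((MulAut.conj g) x * x⁻¹) * ((MulAut.conj h) x * x⁻¹)
    simp only [MulAut.conj_apply] at hz ⊢
    calc g * h * x * (g * h)⁻¹ * x⁻¹ = g * ((h * x * h⁻¹ * x⁻¹) * x) * g⁻¹ * x⁻¹ := by group
      _ = g * (x * (h * x * h⁻¹ * x⁻¹)) * g⁻¹ * x⁻¹ := by rw [hz x]
      _ = g * x * ((h * x * h⁻¹ * x⁻¹) * g⁻¹) * x⁻¹ := by group
      _ = g * x * (g⁻¹ * (h * x * h⁻¹ * x⁻¹)) * x⁻¹ := by rw [hz g⁻¹]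
      _ = g * x * g⁻¹ * ((h * x * h⁻¹ * x⁻¹) * x⁻¹) := by group
      _ = g * x * g⁻¹ * (x⁻¹ * (h * x * h⁻¹ * x⁻¹)) := by rw [hz x⁻¹]
      _ = g * x * g⁻¹ * x⁻¹ * (h * x * h⁻¹ * x⁻¹) := by group

theorem commHom_ker (hc : commutator E = Subgroup.center E) :
    (commHom hc).ker = Subgroup.center E := by
  ext g
  rw [MonoidHom.mem_ker, Subgroup.mem_center_iff]
  constructor
  · intro h x
    have := DFunLike.congr_fun h x
    have h2 : ((commHom hc g x : Subgroup.center E) : E) = 1 := by
      rw [this]; rfl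
    have h3 : g * x * g⁻¹ * x⁻¹ = 1 := h2
    have := congrArg (fun y => y * x * g) h3
    simp only [inv_mul_cancel_right, one_mul] at this
    exact this.symm
  · intro h
    ext x
    show (MulAut.conj g) x * x⁻¹ = 1
    simp only [MulAut.conj_apply]
    rw [← h x]
    group

/-- For a finite extraspecial 2-group E, an automorphism of E that induces the identity on E modulo its centre is inner (so these automorphisms form exactly the inner automorphism group, an elementary abelian 2-group of order |E|/2). -/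
theorem result {E : Type*} [Group E] [Finite E] (hE : Cfsg.IsExtraspecial 2 E) (φ : E ≃* E) (hφ : ∀ x : E, φ x * x⁻¹ ∈ Subgroup.center E) : ∃ g : E, ∀ x : E, φ x = g * x * g⁻¹ := by
  have hc : commutator E = Subgroup.center E := hE.1.2.2
  have h2 : Nat.card (Subgroup.center E) = 2 := hE.2
  -- count homs
  have hle : Nat.card (E →* Subgroup.center E) ≤ Nat.card (Abelianization E) := by
    rw [Nat.card_congr (Abelianization.lift (G := E) (A := Subgroup.center E))]
    exact card_monoidHom_le_of_card_two _ _ h2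
  have hab : Nat.card E = Nat.card (Abelianization E) * 2 := by
    have := Subgroup.card_eq_card_quotient_mul_card_subgroup (commutator E)
    have h2' : Nat.card (commutator E) = 2 := by rw [hc]; exact h2
    rw [h2'] at this
    rw [this]
    rfl
  have hrange : Nat.card E = Nat.card (commHom hc).range * 2 := by
    have h1 := Subgroup.card_mul_index (commHom hc).ker
    rw [Subgroup.index_ker, commHom_ker, h2] at h1
    omega
  have hfin : Finite (E →* Subgroup.center E) := by
    apply Finite.of_injective (fun f : E →* Subgroup.center E => (f : E → Subgroup.center E))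
    exact DFunLike.coe_injective
  have htop : (commHom hc).range = ⊤ := by
    apply Subgroup.eq_top_of_le_card
    omega
  have hmem : homOf φ hφ ∈ (commHom hc).range := by
    rw [htop]; exact Subgroup.mem_top _
  obtain ⟨g, hg⟩ := hmem
  refine ⟨g, fun x => ?_⟩
  have := DFunLike.congr_fun hg x
  have h3 : ((commHom hc g x : Subgroup.center E) : E) = ((homOf φ hφ x : Subgroup.center E) : E) := by
    rw [this]
  have h4 : g * x * g⁻¹ * x⁻¹ = φ x * x⁻¹ := h3
  have := congrArg (fun y => y * x) h4
  simp only [inv_mul_cancel_right] at this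
  exact this.symm

end Cfsg.Agent.S5395
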