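import Mathlib
import Cfsg.Statements.S4664
import Cfsg.Agent.Lib.Helper16.Osima
import Cfsg.Agent.Lib.Helper3.Spectral
import Cfsg.Agent.Lib.Helper78.CharCount

set_option autoImplicit false
set_option linter.style.haveILetI false
set_option linter.unusedSectionVars false
open Cfsg

namespace Cfsg.Agent.S4664

open scoped ComplexConjugate
open Cfsg.Agent.Helper77 Cfsg.Agent.Helper78 Cfsg.Agent.Helper16

section
variable {G : Type*} [Group G] [Finite G]

/-- The value of a character at an element of order dividing `m` lies in `ℚ(ζ_m)`. -/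
theorem char_mem_adjoin {χ : G → ℂ} (hχ : IsCharacter G χ) (g : G) (m : ℕ) (hm : m ≠ 0)
    (hgm : orderOf g ∣ m) :
    χ g ∈ IntermediateField.adjoin ℚ
      ({Complex.exp (2 * Real.pi * Complex.I / (m : ℂ))} : Set ℂ) := by
  classical
  obtain ⟨n, ρ, rfl⟩ := hχ
  set K := IntermediateField.adjoin ℚ
      ({Complex.exp (2 * Real.pi * Complex.I / (m : ℂ))} : Set ℂ) with hK
  have hζ : Complex.exp (2 * Real.pi * Complex.I / (m : ℂ)) ∈ K :=
    IntermediateField.subset_adjoin ℚ _ (Set.mem_singleton _)
  have hprim := Complex.isPrimitiveRoot_exp m hm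
  rw [Cfsg.Agent.Helper3.char_eq_finsum ρ g]
  rw [finsum_eq_sum_of_support_subset (s := (Cfsg.Agent.Helper3.finite_mult_support ρ g).toFinset)]
  · apply sum_mem
    intro μ hμ
    rw [Set.Finite.mem_toFinset, Function.mem_support] at hμ
    have h1 := Cfsg.Agent.Helper3.eigenvalue_pow_of_mult_ne_zero ρ g μ hμ
    have h2 : μ ^ m = 1 := by
      obtain ⟨k, hk⟩ := hgm
      rw [hk, pow_mul, h1, one_pow]
    haveI : NeZero m := ⟨hm⟩
    obtain ⟨i, _, hi⟩ := hprim.eq_pow_of_pow_eq_one h2
    apply mul_mem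
    · rw [← hi]
      exact pow_mem hζ i
    · exact natCast_mem K _
  · intro μ hμ
    rw [Function.mem_support] at hμ
    rw [Finset.mem_coe, Set.Finite.mem_toFinset, Function.mem_support]
    intro h0
    apply hμ
    rw [h0]
    simp

end

theorem result {G : Type*} [Group G] [Fintype G] (p : ℕ) [Fact p.Prime] (M : Ideal Cfsg.AlgInt) (hM : Cfsg.IsPModular p M) (B : Set (Cfsg.IrrCharacter G)) (hB : Cfsg.IsPBlock M B) (g : G) : Cfsg.blockCoeff B g ∈ IntermediateField.adjoin ℚ ({Complex.exp (2 * Real.pi * Complex.I / ((Nat.card G / p ^ (Nat.card G).factorization p : ℕ) : ℂ))} : Set ℂ) := by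
  classical
  have hp : p.Prime := Fact.out
  set m := Nat.card G / p ^ (Nat.card G).factorization p with hm
  set K := IntermediateField.adjoin ℚ
      ({Complex.exp (2 * Real.pi * Complex.I / (m : ℂ))} : Set ℂ) with hK
  by_cases hg : p ∣ orderOf g
  · rw [blockCoeff_eq_zero_of_singular hM hB g hg]
    exact zero_mem K
  have hcardpos : 0 < Nat.card G := Nat.card_pos
  have hfac : p ^ (Nat.card G).factorization p * m = Nat.card G :=
    Nat.ordProj_mul_ordCompl_eq_self (Nat.card G) p
  have hm0 : m ≠ 0 := by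
    intro h0
    rw [h0, mul_zero] at hfac
    exact hcardpos.ne' hfac.symm
  have hgm : orderOf g⁻¹ ∣ m := by
    rw [orderOf_inv]
    have h1 : orderOf g ∣ p ^ (Nat.card G).factorization p * m := by
      rw [hfac]
      exact orderOf_dvd_natCard g
    have hcop : Nat.Coprime (orderOf g) (p ^ (Nat.card G).factorization p) :=
      Nat.Coprime.pow_right _ ((Nat.Prime.coprime_iff_not_dvd hp).2 hg).symm
    exact hcop.dvd_of_dvd_mul_left h1
  rw [blockCoeff_eq_sum]
  apply mul_mem
  · apply inv_mem
    exact natCast_mem K _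
  · apply sum_mem
    intro χ _
    apply mul_mem
    · rw [(irr_charDegree χ.2).1]
      exact natCast_mem K _
    · rw [← IsIrrCharacter.inv χ.2 g]
      exact char_mem_adjoin (IsIrrCharacter.isCharacter χ.2) g⁻¹ m hm0 hgm

end Cfsg.Agent.S4664
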