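import Cfsg.Statements.S4517
import Cfsg.Agent.Lib.Helper74.RealBlock
import Cfsg.Agent.Lib.Helper74.DefectOrder

set_option autoImplicit false
open Cfsg

namespace Cfsg.Agent.S4517

open Cfsg.Agent.Helper77 Cfsg.Agent.Helper80
open scoped ComplexConjugate

/-- Let G be a finite group, M a maximal ideal of the algebraic integers containing 2, and k a natural number coprime to the order of G with g ^ k = g⁻¹ for every element g of odd order (so that g ↦ g ^ k induces a field automorphism of the character values inverting the roots of unity of odd order). If B is a 2-block of full defect (its defect equals the exponent of 2 in the order of G) that is stable under χ ↦ χ ∘ (· ^ k), then B is the principal 2-block. -/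
theorem result {G : Type*} [Group G] [Finite G] (M : Ideal Cfsg.AlgInt) (hM : Cfsg.IsPModular 2 M) (k : ℕ) (hk : Nat.Coprime k (Nat.card G)) (hk₂ : ∀ g : G, Odd (orderOf g) → g ^ k = g⁻¹) (B : Set (Cfsg.IrrCharacter G)) (hB : Cfsg.IsPBlock M B) (hdef : Cfsg.blockDefect 2 B = (Nat.card G).factorization 2) (hstab : ∀ χ ∈ B, ∃ ψ ∈ B, ∀ g : G, (ψ : G → ℂ) g = (χ : G → ℂ) (g ^ k)) : B = Cfsg.principalBlock M G := by
  classical
  haveI := Fintype.ofFinite G
  haveI hp := isPrime_of_isPModular hM
  haveI : Fact (Nat.Prime 2) := ⟨Nat.prime_two⟩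
  -- a Sylow 2-subgroup is a defect group
  obtain ⟨D, hD⟩ := exists_isDefectGroup (M := M) 2 hB
  have hcard : Nat.card D = 2 ^ (Nat.card G).factorization 2 := by
    rw [Cfsg.Agent.Helper74.DO.card_defectGroup hM hB D hD, hdef]
  have hDp : IsPGroup 2 D := IsPGroup.of_card hcard
  obtain ⟨P, hDP⟩ := hDp.exists_le_sylow
  have hPD : (P : Subgroup G) = D := by
    symm
    apply Subgroup.eq_of_le_of_card_ge hDP
    rw [hcard, P.card_eq_multiplicity]
  have hfull : IsDefectGroup 2 M B (P : Subgroup G) := by rw [hPD]; exact hD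
  -- the block is real
  have hbar : ∀ χ ∈ B, cconjIrr χ ∈ B := by
    intro χ hχ
    obtain ⟨ψ, hψB, hψ⟩ := hstab χ hχ
    have h1 : omega (ψ : G → ℂ) (blockCoeff B) = 1 := by rw [omega_blockCoeff, if_pos hψB]
    have h2 : omega (cconjIrr χ : G → ℂ) (blockCoeff B) = omega (ψ : G → ℂ) (blockCoeff B) := by
      unfold omega
      have e1 : (cconjIrr χ : G → ℂ) 1 = (ψ : G → ℂ) 1 := by
        rw [cconjIrr_apply, hψ, one_pow, ← Cfsg.Agent.Helper79.irr_inv χ 1, inv_one]
      rw [e1]
      congr 1
      refine Finset.sum_congr rfl fun g _ => ?_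
      by_cases h2 : 2 ∣ orderOf g
      · rw [Cfsg.Agent.Helper16.blockCoeff_eq_zero_of_singular hM hB g h2, zero_mul, zero_mul]
      · have hodd : Odd (orderOf g) := Nat.odd_iff.mpr (Nat.two_dvd_ne_zero.mp h2)
        rw [cconjIrr_apply, hψ, hk₂ g hodd, Cfsg.Agent.Helper79.irr_inv]
    by_contra hnot
    rw [omega_blockCoeff, if_neg hnot, h1] at h2
    exact zero_ne_one h2
  exact Cfsg.Agent.Helper74.RB.real_block_full_defect hM hB P hfull hbar

end Cfsg.Agent.S4517
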