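import Cfsg.Statements.S4602
import Cfsg.Agent.Lib.Helper76.PSolvable

set_option autoImplicit false
open Cfsg

namespace Cfsg.Agent.S4602

open Cfsg.Agent.Helper76
open Cfsg.Agent

variable {G : Type*} [Group G] [Finite G]

/-- If a Sylow `p`-subgroup normalizes a Sylow `q`-subgroup `Q` of a `p`-solvable group, then
`Q ≤ O_{p'}(G)`. -/
lemma sylow_le_pPrimeCore (p q : ℕ) [Fact p.Prime] [Fact q.Prime] (hpq : p ≠ q)
    (hsolv : IsPSolvable p G) (P : Sylow p G) (Q : Sylow q G)
    (hPQ : (P : Subgroup G) ≤ Subgroup.normalizer ((Q : Subgroup G) : Set G)) :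
    (Q : Subgroup G) ≤ pPrimeCore p G := by
  set K := pPrimeCore p G with hK
  set π := QuotientGroup.mk' K with hπ
  have hπs : Function.Surjective π := QuotientGroup.mk'_surjective K
  have hsolv' : IsPSolvable p (G ⧸ K) := IsPSolvable.quotient hsolv K
  have hcore' : pPrimeCore p (G ⧸ K) = ⊥ := Helper55.pPrimeCore_quotient_eq_bot p
  have HH := centralizer_pCore_le hsolv' hcore'
  set Hb := pCore p (G ⧸ K) with hHb
  have hHbn : Hb.Normal := inferInstance
  have hHbp : IsPGroup p Hb := Helper55.isPGroup_pCore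
  -- images of P and Q
  set Pb : Sylow p (G ⧸ K) := P.mapSurjective hπs with hPb
  set Qb : Subgroup (G ⧸ K) := (Q : Subgroup G).map π with hQb
  have hQbq : IsPGroup q Qb := Q.isPGroup'.map π
  have hHbP : Hb ≤ (Pb : Subgroup (G ⧸ K)) := Helper55.pCore_le_sylow Pb
  have hPbN : (Pb : Subgroup (G ⧸ K)) ≤ Subgroup.normalizer (Qb : Set (G ⧸ K)) := by
    rw [hPb, Sylow.coe_mapSurjective]
    calc (P : Subgroup G).map π ≤ (Subgroup.normalizer ((Q : Subgroup G) : Set G)).map π :=
          Subgroup.map_mono hPQ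
      _ ≤ Subgroup.normalizer (Qb : Set (G ⧸ K)) := Subgroup.le_normalizer_map π
  have hdisj : Hb ⊓ Qb = ⊥ := by
    have := IsPGroup.disjoint_of_ne p q hpq Hb Qb hHbp hQbq
    exact disjoint_iff.mp this
  -- Qb centralizes Hb
  have hQbC : Qb ≤ Subgroup.centralizer (Hb : Set (G ⧸ K)) := by
    intro x hx
    rw [Subgroup.mem_centralizer_iff]
    intro h hh
    have hh' : h ∈ Hb := hh
    have hN := hPbN (hHbP hh')
    rw [Subgroup.mem_normalizer_iff] at hN
    have h1 : h * x * h⁻¹ * x⁻¹ ∈ Qb := Qb.mul_mem ((hN x).mp hx) (Qb.inv_mem hx)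
    have h2 : h * x * h⁻¹ * x⁻¹ ∈ Hb := by
      have : h * x * h⁻¹ * x⁻¹ = h * (x * h⁻¹ * x⁻¹) := by group
      rw [this]
      exact Hb.mul_mem hh' (hHbn.conj_mem _ (Hb.inv_mem hh') x)
    have h3 : h * x * h⁻¹ * x⁻¹ ∈ Hb ⊓ Qb := Subgroup.mem_inf.mpr ⟨h2, h1⟩
    rw [hdisj, Subgroup.mem_bot] at h3
    have h4 : h * x * h⁻¹ = x := by
      rw [mul_inv_eq_one] at h3; exact h3
    rw [mul_inv_eq_iff_eq_mul] at h4
    exact h4
  have hQbbot : Qb = ⊥ := by
    rw [eq_bot_iff, ← hdisj]
    exact le_inf (hQbC.trans HH) le_rfl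
  rw [hQb, Subgroup.map_eq_bot_iff, hπ, QuotientGroup.ker_mk'] at hQbbot
  exact hQbbot

/-- Let G be a finite p-solvable group and q a prime different from p. Some Sylow p-subgroup of G normalizes some Sylow q-subgroup of G if and only if q does not divide the order of G/O_{p'}(G), the quotient by the largest normal subgroup of order prime to p. -/
theorem result {G : Type*} [Group G] [Finite G] (p q : ℕ) [Fact p.Prime] [Fact q.Prime] (hpq : p ≠ q) (hsolv : Cfsg.IsPSolvable p G) :
    (∃ (P : Sylow p G) (Q : Sylow q G), (P : Subgroup G) ≤ Subgroup.normalizer ((Q : Subgroup G) : Set G)) ↔ ¬ q ∣ (Cfsg.pPrimeCore p G).index := by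
  have hp : p.Prime := Fact.out
  have hq : q.Prime := Fact.out
  constructor
  · rintro ⟨P, Q, hPQ⟩
    have hQK := sylow_le_pPrimeCore p q hpq hsolv P Q hPQ
    intro hdvd
    exact Q.not_dvd_index (hdvd.trans (Subgroup.index_dvd_of_le hQK))
  · intro hndvd
    set K := pPrimeCore p G with hK
    have hKcop : (Nat.card K).Coprime p := Helper55.pPrimeCore_coprime p
    obtain ⟨Q⟩ : Nonempty (Sylow q G) := inferInstance
    -- Q ≤ K
    have hQK : (Q : Subgroup G) ≤ K := by
      have h1 : IsPGroup q ((Q : Subgroup G).map (QuotientGroup.mk' K)) := Q.isPGroup'.map _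
      have h2 : Nat.card ((Q : Subgroup G).map (QuotientGroup.mk' K)) ∣ K.index := by
        rw [Subgroup.index_eq_card]
        exact Subgroup.card_subgroup_dvd_card _
      have h3 : (Nat.card ((Q : Subgroup G).map (QuotientGroup.mk' K))).Coprime q := by
        apply Nat.Coprime.coprime_dvd_left h2
        exact (Nat.Prime.coprime_iff_not_dvd hq).mpr hndvd |>.symm
      have h4 := card_eq_one_of_isPGroup_of_coprime h1 h3
      rw [Subgroup.card_eq_one, Subgroup.map_eq_bot_iff, QuotientGroup.ker_mk'] at h4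
      exact h4
    -- Frattini
    have hfrat : Subgroup.normalizer ((Q : Subgroup G) : Set G) ⊔ K = ⊤ :=
      Sylow.normalizer_sup_eq_top' Q hQK
    set A := Subgroup.normalizer ((Q : Subgroup G) : Set G) with hA
    have hAidx : A.index ∣ Nat.card K := by
      have e1 := card_eq_card_mul_relIndex K (A ⊔ K) le_sup_right
      rw [Subgroup.relIndex_sup_right, hfrat, Subgroup.card_top] at e1
      have e2 := card_eq_card_mul_relIndex (K ⊓ A) A inf_le_right
      rw [Subgroup.inf_relIndex_right] at e2
      have e3 := Subgroup.card_mul_index A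
      have hr : 0 < K.relIndex A := by
        rcases Nat.eq_zero_or_pos (K.relIndex A) with h | h
        · rw [h, mul_zero] at e1
          exact absurd e1 Nat.card_pos.ne'
        · exact h
      refine ⟨Nat.card (K ⊓ A : Subgroup G), ?_⟩
      have : K.relIndex A * Nat.card K = K.relIndex A * (A.index * Nat.card (K ⊓ A : Subgroup G)) := by
        calc K.relIndex A * Nat.card K = Nat.card G := by rw [e1]; ring
          _ = Nat.card A * A.index := e3.symm
          _ = K.relIndex A * (A.index * Nat.card (K ⊓ A : Subgroup G)) := by rw [e2]; ring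
      exact Nat.eq_of_mul_eq_mul_left hr this
    have hpA : ¬ p ∣ A.index := by
      intro h
      have h2 : p ∣ Nat.card K := h.trans hAidx
      have h3 : p ∣ Nat.gcd (Nat.card K) p := Nat.dvd_gcd h2 dvd_rfl
      rw [Nat.Coprime.gcd_eq_one hKcop] at h3
      exact hp.one_lt.ne' (Nat.dvd_one.mp h3)
    obtain ⟨P₀⟩ : Nonempty (Sylow p A) := inferInstance
    set P₁ : Subgroup G := (P₀ : Subgroup A).map A.subtype with hP₁
    have hP₁A : P₁ ≤ A := Subgroup.map_subtype_le _
    have hfact : (Nat.card A).factorization p = (Nat.card G).factorization p := by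
      have e3 := Subgroup.card_mul_index A
      have hAi : A.index ≠ 0 := by
        intro h
        rw [h, mul_zero] at e3
        exact absurd e3.symm Nat.card_pos.ne'
      rw [← e3, Nat.factorization_mul Nat.card_pos.ne' hAi]
      simp [Nat.factorization_eq_zero_of_not_dvd hpA]
    have hP₁card : Nat.card P₁ = p ^ (Nat.card G).factorization p := by
      rw [← hfact, ← Sylow.card_eq_multiplicity P₀]
      exact (Nat.card_congr
        (Subgroup.equivMapOfInjective _ A.subtype A.subtype_injective).toEquiv).symm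
    exact ⟨Sylow.ofCard P₁ hP₁card, Q, hP₁A⟩

end Cfsg.Agent.S4602
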