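import Cfsg.Statements.S1225
import Mathlib
import Cfsg.Agent.Lib.Helper45.StronglyEmbedded

set_option autoImplicit false
open Cfsg

namespace Cfsg.Agent.S1225

open Cfsg.Agent.Helper45.SE

/-- Let H be a strongly embedded subgroup of the finite group G, u an involution outside H and D = H ∩ uHu⁻¹. Then any two involutions of H are conjugate by an element of D, and any two involutions of G are conjugate in G. -/
theorem result {G : Type*} [Group G] [Finite G] (H : Subgroup G) (hH : Cfsg.IsStronglyEmbedded H) (u : G) (hu : orderOf u = 2) (huH : u ∉ H) (s t : G) (hs : orderOf s = 2) (hsH : s ∈ H) (ht : orderOf t = 2) (htH : t ∈ H) : (∃ d ∈ (H ⊓ H.map (MulAut.conj u).toMonoidHom), d * s * d⁻¹ = t) ∧ ∀ a b : G, orderOf a = 2 → orderOf b = 2 → IsConj a b := by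
  refine ⟨?_, fun a b ha hb => isConj_invol hH ha hb⟩
  -- x = H, y = uH
  set x : G ⧸ H := QuotientGroup.mk 1 with hx
  set y : G ⧸ H := QuotientGroup.mk u with hy
  have hxy : x ≠ y := by
    intro h
    rw [hx, hy, QuotientGroup.eq] at h
    simp only [inv_one, one_mul] at h
    exact huH h
  have hux : u • x = y := by
    rw [hx, hy, MulAction.Quotient.smul_mk, smul_eq_mul, mul_one]
  have huy : u • y = x := by
    rw [← hux, ← mul_smul, mul_self' hu, one_smul]
  have hsx : s • x = x := (smul_mk_one_iff H s).mpr hsH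
  have htx : t • x = x := (smul_mk_one_iff H t).mpr htH
  -- u t u⁻¹ fixes y
  have hc : orderOf (u * t * u⁻¹) = 2 := by rw [orderOf_conj', ht]
  have hcy : (u * t * u⁻¹) • y = y := by
    rw [mul_smul, mul_smul, inv_self hu, huy, htx, hux]
  obtain ⟨i, hi, hist, hix, hiy⟩ := exists_swap hH hs hc hsx hcy hxy
  refine ⟨u⁻¹ * i, Subgroup.mem_inf.mpr ⟨?_, ?_⟩, ?_⟩
  · rw [← smul_mk_one_iff H, ← hx, mul_smul, hix, inv_self hu, huy]
  · rw [mem_conj_map, ← smul_mk_one_iff H, ← hx, mul_smul, mul_smul, mul_smul, hux, hiy,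
      inv_self hu, hux, huy]
  · calc u⁻¹ * i * s * (u⁻¹ * i)⁻¹ = u⁻¹ * (i * s * i⁻¹) * u := by group
      _ = u⁻¹ * (u * t * u⁻¹) * u := by rw [hist]
      _ = t := by group

end Cfsg.Agent.S1225
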