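import Cfsg.Statements.S4214
import Mathlib
import Cfsg.Agent.Lib.Helper55.HallCount
import Cfsg.Agent.S0003
import Cfsg.Agent.S0004

set_option autoImplicit false
open Cfsg
open Pointwise

namespace Cfsg.Agent.S4214

open Cfsg.Agent.Helper55.HallCount

/-- `x` divides the order of a chief factor of `G`. -/
def ChiefDiv (G : Type*) [Group G] (x : ℕ) : Prop :=
  ∃ K L : Subgroup G, K.Normal ∧ L.Normal ∧ K < L ∧
    (∀ M : Subgroup G, M.Normal → K ≤ M → M ≤ L → M = K ∨ M = L) ∧ x ∣ K.relIndex L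

theorem chiefDiv_of_quotient {G : Type*} [Group G] (K₀ : Subgroup G) [K₀.Normal] (x : ℕ)
    (h : ChiefDiv (G ⧸ K₀) x) : ChiefDiv G x := by
  obtain ⟨K, L, hK, hL, hlt, hmin, hx⟩ := h
  have hf : Function.Surjective (QuotientGroup.mk' K₀) := QuotientGroup.mk'_surjective K₀
  refine ⟨K.comap (QuotientGroup.mk' K₀), L.comap (QuotientGroup.mk' K₀), inferInstance,
    inferInstance, ?_, ?_, ?_⟩
  · exact (Subgroup.comap_lt_comap_of_surjective hf).mpr hlt
  · intro M hM hKM hML
    haveI := hM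
    have hMn : (M.map (QuotientGroup.mk' K₀)).Normal := Subgroup.Normal.map hM _ hf
    have h1 : K ≤ M.map (QuotientGroup.mk' K₀) := by
      rw [← Subgroup.map_comap_eq_self_of_surjective hf K]
      exact Subgroup.map_mono hKM
    have h2 : M.map (QuotientGroup.mk' K₀) ≤ L := by
      rw [Subgroup.map_le_iff_le_comap]; exact hML
    have hK₀M : K₀ ≤ M := by
      refine le_trans ?_ hKM
      intro k hk
      rw [Subgroup.mem_comap]
      have : QuotientGroup.mk' K₀ k = 1 := by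
        rw [← MonoidHom.mem_ker, QuotientGroup.ker_mk']; exact hk
      rw [this]; exact one_mem _
    have hcm : (M.map (QuotientGroup.mk' K₀)).comap (QuotientGroup.mk' K₀) = M := by
      rw [Subgroup.comap_map_eq, QuotientGroup.ker_mk', sup_eq_left.mpr hK₀M]
    rcases hmin _ hMn h1 h2 with h | h
    · left; rw [← hcm, h]
    · right; rw [← hcm, h]
  · rw [Subgroup.relIndex_comap, Subgroup.map_comap_eq_self_of_surjective hf]
    exact hx

theorem chiefDiv_of_minimal {G : Type*} [Group G] (K : Subgroup G) [K.Normal] (hK : K ≠ ⊥)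
    (hmin : ∀ M : Subgroup G, M.Normal → M ≤ K → M = ⊥ ∨ M = K) (x : ℕ)
    (hx : x ∣ Nat.card K) : ChiefDiv G x := by
  refine ⟨⊥, K, inferInstance, inferInstance, bot_lt_iff_ne_bot.mpr hK,
    fun M hM _ hMK => hmin M hM hMK, ?_⟩
  rw [Subgroup.relIndex_bot_left]; exact hx

/-- A nontrivial finite solvable group has a minimal normal subgroup, of prime power order. -/
theorem exists_minimal_normal {G : Type*} [Group G] [Finite G] [Group.IsSolvable G]
    [Nontrivial G] :
    ∃ (K : Subgroup G) (p i : ℕ), K.Normal ∧ K ≠ ⊥ ∧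
      (∀ M : Subgroup G, M.Normal → M ≤ K → M = ⊥ ∨ M = K) ∧
      p.Prime ∧ 1 ≤ i ∧ Nat.card K = p ^ i := by
  classical
  let P : Subgroup G → Prop := fun H => H.Normal ∧ H ≠ ⊥
  have htop : P ⊤ := ⟨inferInstance, top_ne_bot⟩
  obtain ⟨K, -, hK⟩ := Finite.exists_le_minimal htop
  obtain ⟨hKn, hK1⟩ := hK.prop
  haveI := hKn
  have hcomm : ⁅K, K⁆ = ⊥ := by
    by_contra hne
    have hP : P ⁅K, K⁆ := ⟨inferInstance, hne⟩
    have hle : ⁅K, K⁆ ≤ K := Subgroup.commutator_le_left K K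
    have h1 := hK.le_of_le hP hle
    exact not_le_of_gt (Group.IsSolvable.commutator_lt_of_ne_bot hK1) h1
  have hab : ∀ a ∈ K, ∀ b ∈ K, a * b = b * a := by
    intro a ha b hb
    have h1 := Subgroup.commutator_eq_bot_iff_le_centralizer.mp hcomm
    exact ((Subgroup.mem_centralizer_iff.mp (h1 ha)) b hb).symm
  have hcard1 : Nat.card K ≠ 1 := fun h => hK1 (Subgroup.card_eq_one.mp h)
  obtain ⟨p, hp, hpdvd⟩ := Nat.exists_prime_and_dvd hcard1
  haveI : Fact p.Prime := ⟨hp⟩
  obtain ⟨x, hx⟩ := exists_prime_orderOf_dvd_card' (G := ↥K) p hpdvd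
  let Kp : Subgroup G :=
    { carrier := {k | k ∈ K ∧ k ^ p = 1}
      mul_mem' := by
        rintro a b ⟨ha, ha'⟩ ⟨hb, hb'⟩
        exact ⟨K.mul_mem ha hb, by
          rw [Commute.mul_pow (show Commute a b from hab a ha b hb), ha', hb', one_mul]⟩
      one_mem' := ⟨K.one_mem, one_pow p⟩
      inv_mem' := by
        rintro a ⟨ha, ha'⟩
        exact ⟨K.inv_mem ha, by rw [inv_pow, ha', inv_one]⟩ }
  have hKpn : Kp.Normal := ⟨fun k hk g => ⟨hKn.conj_mem k hk.1 g, by
    rw [conj_pow, hk.2, mul_one, mul_inv_cancel]⟩⟩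
  have hKp1 : Kp ≠ ⊥ := by
    intro h
    have hxm : (x : G) ∈ Kp := ⟨x.2, by
      have h1 := pow_orderOf_eq_one x
      rw [hx] at h1
      exact_mod_cast congrArg Subtype.val h1⟩
    rw [h, Subgroup.mem_bot] at hxm
    have hx1 : x = 1 := Subtype.ext hxm
    rw [hx1, orderOf_one] at hx
    exact hp.one_lt.ne hx
  have hle : K ≤ Kp := hK.le_of_le ⟨hKpn, hKp1⟩ (fun k hk => hk.1)
  have hexp : ∀ k ∈ K, k ^ p = 1 := fun k hk => (hle hk).2
  have hpg : IsPGroup p K := fun k => ⟨1, by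
    rw [pow_one]
    exact Subtype.ext (by simpa using hexp k k.2)⟩
  obtain ⟨i, hi⟩ := IsPGroup.iff_card.mp hpg
  refine ⟨K, p, i, hKn, hK1, ?_, hp, ?_, hi⟩
  · intro M hM hMK
    by_cases hM1 : M = ⊥
    · left; exact hM1
    · right
      exact le_antisymm hMK (hK.le_of_le ⟨hM, hM1⟩ hMK)
  · by_contra h0
    have h00 : i = 0 := by omega
    rw [h00, pow_zero] at hi
    exact hcard1 hi

/-- Frattini argument for Hall subgroups: if `H₀` is a Hall subgroup of the solvable group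
`H₀ ⊔ K`, then `N(H₀ ⊔ K) ≤ N(H₀) ⊔ K`. -/
theorem frattini_hall {G : Type*} [Group G] [Finite G] [Group.IsSolvable G] (H₀ K : Subgroup G)
    [K.Normal] (m k : ℕ) (hH₀ : Nat.card H₀ = m) (hM : Nat.card ↥(H₀ ⊔ K) = m * k)
    (hmk : m.Coprime k) :
    Subgroup.normalizer ((H₀ ⊔ K : Subgroup G) : Set G) ≤
      Subgroup.normalizer (H₀ : Set G) ⊔ K := by
  intro g hg
  set M : Subgroup G := H₀ ⊔ K with hMdef
  have hgM : MulAut.conj g • M = M := (conj_smul_eq_self_iff M g).mpr hg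
  set H' : Subgroup G := MulAut.conj g • H₀ with hH'def
  have hH'M : H' ≤ M := by
    rw [← hgM]
    exact Subgroup.pointwise_smul_le_pointwise_smul_iff.mpr le_sup_left
  have hH'card : Nat.card H' = m := by
    rw [← hH₀]
    exact (Nat.card_congr (Subgroup.equivSMul (MulAut.conj g) H₀).toEquiv).symm
  have hH₀M : H₀ ≤ M := le_sup_left
  have hc1 : Nat.card (H₀.subgroupOf M) = m := by
    rw [← hH₀]
    exact Nat.card_congr (Subgroup.subgroupOfEquivOfLe hH₀M).toEquiv
  have hc2 : Nat.card (H'.subgroupOf M) = m := by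
    rw [← hH'card]
    exact Nat.card_congr (Subgroup.subgroupOfEquivOfLe hH'M).toEquiv
  obtain ⟨x, hx⟩ := Cfsg.Agent.S0004.result (G := ↥M) m k hM hmk _ _ hc1 hc2
  -- `H' ≤ conj x • H₀`
  have hle : H' ≤ MulAut.conj (x : G) • H₀ := by
    intro y hy
    have hyM : y ∈ M := hH'M hy
    have h1 : (⟨y, hyM⟩ : ↥M) ∈ H'.subgroupOf M := by
      rw [Subgroup.mem_subgroupOf]; exact hy
    rw [← hx, Subgroup.mem_pointwise_smul_iff_inv_smul_mem] at h1
    rw [Subgroup.mem_subgroupOf] at h1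
    rw [Subgroup.mem_pointwise_smul_iff_inv_smul_mem]
    have h2 : (MulAut.conj (x : G))⁻¹ • y = (x : G)⁻¹ * y * (x : G) := by
      rw [← map_inv]; simp
    have h3 : (((MulAut.conj x)⁻¹ • (⟨y, hyM⟩ : ↥M) : ↥M) : G) = (x : G)⁻¹ * y * (x : G) := by
      rw [← map_inv]; simp
    rw [h2, ← h3]
    exact h1
  have hcard3 : Nat.card ↥(MulAut.conj (x : G) • H₀) = m := by
    rw [← hH₀]
    exact (Nat.card_congr (Subgroup.equivSMul (MulAut.conj (x : G)) H₀).toEquiv).symm
  have heq : H' = MulAut.conj (x : G) • H₀ :=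
    Subgroup.eq_of_le_of_card_ge hle (by rw [hcard3, hH'card])
  -- `x⁻¹ g` normalises `H₀`
  have hn : (x : G)⁻¹ * g ∈ Subgroup.normalizer (H₀ : Set G) := by
    rw [← conj_smul_eq_self_iff, map_mul, mul_smul, ← hH'def, heq, ← mul_smul, ← map_mul,
      inv_mul_cancel, map_one, one_smul]
  have hxM : (x : G) ∈ Subgroup.normalizer (H₀ : Set G) ⊔ K := by
    have h1 : M ≤ Subgroup.normalizer (H₀ : Set G) ⊔ K :=
      sup_le_sup_right Subgroup.le_normalizer K
    exact h1 x.2
  have : g = (x : G) * ((x : G)⁻¹ * g) := by group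
  rw [this]
  exact Subgroup.mul_mem _ hxM (Subgroup.mem_sup_left hn)

/-- The property each factor must satisfy. -/
def Good (G : Type*) [Group G] (m x : ℕ) : Prop :=
  (∃ q e : ℕ, q.Prime ∧ x = q ^ e) ∧ ChiefDiv G x ∧ ∃ q : ℕ, q.Prime ∧ q ∣ m ∧ x ≡ 1 [MOD q]

theorem main.{u} (N : ℕ) : ∀ (G : Type u) [Group G] [Finite G] [Group.IsSolvable G],
    Nat.card G = N → ∀ m n : ℕ, Nat.card G = m * n → m.Coprime n →
    ∀ H₀ : Subgroup G, Nat.card H₀ = m →
    ∃ l : List ℕ, (Subgroup.normalizer (H₀ : Set G)).index = l.prod ∧ ∀ x ∈ l, Good G m x := by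
  induction N using Nat.strong_induction_on with
  | _ N ih =>
  intro G _ _ _ hN m n hG hmn H₀ hH₀
  by_cases hnt : Nontrivial G
  swap
  · rw [not_nontrivial_iff_subsingleton] at hnt
    refine ⟨[], ?_, by simp⟩
    rw [List.prod_nil, Subgroup.index_eq_one, eq_top_iff]
    intro g _
    rw [Subsingleton.elim g 1]; exact one_mem _
  obtain ⟨K, p, i, hKn, hK1, hKmin, hp, hi1, hKcard⟩ := exists_minimal_normal (G := G)
  haveI := hKn
  have hGK : Nat.card G = Nat.card (G ⧸ K) * p ^ i := by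
    rw [← hKcard]; exact Subgroup.card_eq_card_quotient_mul_card_subgroup K
  have hppos : 0 < p ^ i := pow_pos hp.pos i
  have hlt : Nat.card (G ⧸ K) < N := by
    rw [← hN, hGK]
    have hq : 0 < Nat.card (G ⧸ K) := Nat.card_pos
    have h2 : 2 ≤ p ^ i := by
      calc 2 ≤ p := hp.two_le
        _ = p ^ 1 := (pow_one p).symm
        _ ≤ p ^ i := Nat.pow_le_pow_right hp.pos hi1
    nlinarith
  set f : G →* G ⧸ K := QuotientGroup.mk' K with hf
  have hfs : Function.Surjective f := QuotientGroup.mk'_surjective K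
  set Hb : Subgroup (G ⧸ K) := H₀.map f with hHb
  have hcomap : Hb.comap f = H₀ ⊔ K := by
    rw [hHb, Subgroup.comap_map_eq, hf, QuotientGroup.ker_mk']
  have hcardM : Nat.card ↥(H₀ ⊔ K) = p ^ i * Nat.card Hb := by
    rw [← hcomap, ← hKcard]; exact Cfsg.Agent.Helper1.card_comap_mk' K Hb
  have hcardM' : Nat.card ↥(H₀ ⊔ K) = m * H₀.relIndex K := by
    have e1 := Subgroup.relIndex_mul_relIndex ⊥ H₀ (H₀ ⊔ K) bot_le le_sup_left
    rw [Subgroup.relIndex_bot_left, Subgroup.relIndex_bot_left, relIndex_sup_self_left, hH₀] at e1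
    exact e1.symm
  have hrdvd : H₀.relIndex K ∣ p ^ i := by
    rw [← hKcard]; exact Subgroup.relIndex_dvd_card H₀ K
  have hMdvd : Nat.card ↥(H₀ ⊔ K) ∣ m * n := by
    rw [← hG]; exact Subgroup.card_subgroup_dvd_card _
  have hmpos : 0 < m := by
    rw [← hH₀]; exact Nat.card_pos
  have hrn : H₀.relIndex K ∣ n := by
    rw [hcardM'] at hMdvd
    exact Nat.dvd_of_mul_dvd_mul_left hmpos hMdvd
  have hnormcomap : (Subgroup.normalizer (Hb : Set (G ⧸ K))).comap f =
      Subgroup.normalizer ((H₀ ⊔ K : Subgroup G) : Set G) := by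
    rw [Subgroup.comap_normalizer_eq_of_surjective Hb hfs, hcomap]
  have hidx : (Subgroup.normalizer ((H₀ ⊔ K : Subgroup G) : Set G)).index =
      (Subgroup.normalizer (Hb : Set (G ⧸ K))).index := by
    rw [← hnormcomap, Subgroup.index_comap_of_surjective _ hfs]
  by_cases hpm : p ∣ m
  · -- Case `p ∣ m`
    have hpn : ¬ p ∣ n := fun h => hp.one_lt.ne' (Nat.eq_one_of_dvd_coprimes hmn hpm h)
    have hr1 : H₀.relIndex K = 1 := by
      obtain ⟨e, he, hre⟩ := (Nat.dvd_prime_pow hp).mp hrdvd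
      rcases Nat.eq_zero_or_pos e with h0 | h0
      · rw [hre, h0, pow_zero]
      · exfalso; apply hpn
        refine dvd_trans ?_ hrn
        rw [hre]; exact dvd_pow_self p h0.ne'
    have hKH : K ≤ H₀ := Subgroup.relIndex_eq_one.mp hr1
    have hsup : H₀ ⊔ K = H₀ := sup_eq_left.mpr hKH
    rw [hsup] at hcardM hidx
    have hm' : m = p ^ i * Nat.card Hb := by rw [← hH₀]; exact hcardM
    have hGK' : Nat.card (G ⧸ K) = Nat.card Hb * n := by
      have : Nat.card (G ⧸ K) * p ^ i = (Nat.card Hb * n) * p ^ i := by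
        rw [← hGK, hG, hm']; ring
      exact Nat.eq_of_mul_eq_mul_right hppos this
    have hcop' : (Nat.card Hb).Coprime n := by
      apply Nat.Coprime.coprime_dvd_left _ hmn
      rw [hm']; exact Dvd.intro_left _ rfl
    obtain ⟨l, hl, hgood⟩ := ih _ hlt (G ⧸ K) rfl (Nat.card Hb) n hGK' hcop' Hb rfl
    refine ⟨l, by rw [hidx, hl], ?_⟩
    intro x hx
    obtain ⟨h1, h2, q, hq, hqm, hxq⟩ := hgood x hx
    refine ⟨h1, chiefDiv_of_quotient K x h2, q, hq, ?_, hxq⟩
    rw [hm']; exact dvd_mul_of_dvd_right hqm _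
  · -- Case `p ∤ m`
    have hcopm : (p ^ i).Coprime m :=
      Nat.Coprime.pow_left i ((Nat.Prime.coprime_iff_not_dvd hp).mpr hpm)
    have hKG : p ^ i ∣ m * n := by rw [← hG, hGK]; exact Dvd.intro_left _ rfl
    obtain ⟨n', hn'⟩ : p ^ i ∣ n := hcopm.dvd_of_dvd_mul_left hKG
    have hinf : H₀ ⊓ K = ⊥ := by
      apply disjoint_iff.mp
      apply Subgroup.disjoint_of_coprime_natCard
      rw [hH₀, hKcard]; exact hcopm.symm
    have hr : H₀.relIndex K = p ^ i := by
      rw [← Subgroup.inf_relIndex_right, hinf, Subgroup.relIndex_bot_left, hKcard]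
    have hHbcard : Nat.card Hb = m := by
      have : p ^ i * Nat.card Hb = p ^ i * m := by
        rw [← hcardM, hcardM', hr]; ring
      exact Nat.eq_of_mul_eq_mul_left hppos this
    have hGK' : Nat.card (G ⧸ K) = m * n' := by
      have : Nat.card (G ⧸ K) * p ^ i = (m * n') * p ^ i := by
        rw [← hGK, hG, hn']; ring
      exact Nat.eq_of_mul_eq_mul_right hppos this
    have hcop' : m.Coprime n' := by
      apply Nat.Coprime.coprime_dvd_right _ hmn
      rw [hn']; exact Dvd.intro_left _ rfl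
    obtain ⟨l₁, hl₁, hgood₁⟩ := ih _ hlt (G ⧸ K) rfl m n' hGK' hcop' Hb hHbcard
    set N₀ := Subgroup.normalizer (H₀ : Set G) with hN₀
    have hN₀le : N₀ ≤ Subgroup.normalizer ((H₀ ⊔ K : Subgroup G) : Set G) := by
      intro g hg
      rw [← conj_smul_eq_self_iff, Subgroup.smul_sup, (conj_smul_eq_self_iff H₀ g).mpr hg,
        Subgroup.Normal.conj_smul_eq_self]
    have hfr : Subgroup.normalizer ((H₀ ⊔ K : Subgroup G) : Set G) = N₀ ⊔ K := by
      apply le_antisymm
      · exact frattini_hall H₀ K m (p ^ i) hH₀ (by rw [hcardM', hr]) hcopm.symm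
      · exact sup_le hN₀le (le_trans le_sup_right Subgroup.le_normalizer)
    have hidx2 : N₀.index = N₀.relIndex K * l₁.prod := by
      rw [← hl₁, ← hidx, hfr, ← relIndex_sup_self_left N₀ K]
      exact (Subgroup.relIndex_mul_index le_sup_left).symm
    have hNK : N₀ ⊓ K = K ⊓ Subgroup.centralizer (H₀ : Set G) := by
      ext k
      simp only [Subgroup.mem_inf]
      constructor
      · rintro ⟨hkN, hkK⟩
        refine ⟨hkK, ?_⟩
        rw [Subgroup.mem_centralizer_iff]
        intro h hh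
        have h1 : k * h * k⁻¹ ∈ H₀ := (Subgroup.mem_normalizer_iff.mp hkN h).mp hh
        have h2 : k * h * k⁻¹ * h⁻¹ ∈ H₀ ⊓ K := by
          refine ⟨H₀.mul_mem h1 (H₀.inv_mem hh), ?_⟩
          have : k * h * k⁻¹ * h⁻¹ = k * (h * k⁻¹ * h⁻¹) := by group
          rw [this]
          exact K.mul_mem hkK (hKn.conj_mem _ (K.inv_mem hkK) h)
        rw [hinf, Subgroup.mem_bot] at h2
        have : k * h = h * k := by
          calc k * h = (k * h * k⁻¹ * h⁻¹) * (h * k) := by group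
            _ = h * k := by rw [h2, one_mul]
        exact this.symm
      · rintro ⟨hkK, hkC⟩
        exact ⟨Subgroup.centralizer_le_normalizer _ hkC, hkK⟩
    have hrel : N₀.relIndex K = (K ⊓ Subgroup.centralizer (H₀ : Set G)).relIndex K := by
      rw [← Subgroup.inf_relIndex_right, hNK]
    obtain ⟨l₂, hl₂, hgood₂⟩ := factor_centralizer_index K p i hp hKcard m H₀ hH₀ inferInstance
      (by rw [hH₀]; exact hpm)
    refine ⟨l₂ ++ l₁, by rw [List.prod_append, ← hl₂, ← hrel, hidx2], ?_⟩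
    intro x hx
    rcases List.mem_append.mp hx with hx | hx
    · obtain ⟨⟨e, he⟩, hxK, q, hq, hqH, hxq⟩ := hgood₂ x hx
      exact ⟨⟨p, e, hp, he⟩, chiefDiv_of_minimal K hK1 hKmin x hxK, q, hq,
        by rw [← hH₀]; exact hqH, hxq⟩
    · obtain ⟨h1, h2, h3⟩ := hgood₁ x hx
      exact ⟨h1, chiefDiv_of_quotient K x h2, h3⟩

/-- Let `G` be a finite solvable group of order `mn` with `gcd(m, n) = 1`. Then the number of subgroups of order `m` is a product of natural numbers each of which is a power of a prime, divides the order of some chief factor of `G` (a quotient `L/K` of normal subgroups `K < L` of `G` with no normal subgroup of `G` strictly between them), and is congruent to `1` modulo some prime divisor of `m`. -/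
theorem result {G : Type*} [Group G] [Finite G] [Group.IsSolvable G] (m n : ℕ) (hG : Nat.card G = m * n) (hmn : Nat.Coprime m n) : ∃ (k : ℕ) (f : Fin k → ℕ), Nat.card {H : Subgroup G // Nat.card H = m} = ∏ i, f i ∧ ∀ i, (∃ q e : ℕ, q.Prime ∧ f i = q ^ e) ∧ (∃ K L : Subgroup G, K.Normal ∧ L.Normal ∧ K < L ∧ (∀ M : Subgroup G, M.Normal → K ≤ M → M ≤ L → M = K ∨ M = L) ∧ f i ∣ K.relIndex L) ∧ (∃ q : ℕ, q.Prime ∧ q ∣ m ∧ f i ≡ 1 [MOD q]) := by
  obtain ⟨H₀, hH₀⟩ := Cfsg.Agent.S0003.result m n hG hmn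
  have hconj : ∀ H : Subgroup G, Nat.card H = m → ∃ g : G, MulAut.conj g • H₀ = H :=
    fun H hH => Cfsg.Agent.S0004.result m n hG hmn H₀ H hH₀ hH
  have hcount := card_subgroups_eq_index_normalizer H₀ m hH₀ hconj
  obtain ⟨l, hl, hgood⟩ := main (Nat.card G) G rfl m n hG hmn H₀ hH₀
  refine ⟨l.length, fun i => l.get i, ?_, ?_⟩
  · rw [hcount, hl, ← List.prod_ofFn, List.ofFn_get]
  · intro i
    obtain ⟨h1, ⟨K, L, hK, hL, hlt, hmin, hx⟩, h3⟩ := hgood (l.get i) (List.get_mem l i)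
    exact ⟨h1, ⟨K, L, hK, hL, hlt, hmin, hx⟩, h3⟩

end Cfsg.Agent.S4214
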