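-- Statement S5626: uniqueness of the projective plane of order 4.
import Cfsg.Statements.S5626
import Cfsg.Agent.Lib.Helper8.Plane4Iso
import Mathlib

set_option autoImplicit false
open Cfsg

namespace Cfsg.Agent.S5626

open Cfsg.Agent.Helper8 Finset

/-- Two finsets of equal cardinality in equinumerous finite types are matched by some bijection of
the ambient types. -/
theorem exists_equiv_image_eq {α β : Type*} [Fintype α] [DecidableEq α] [Fintype β]
    [DecidableEq β] (hαβ : Fintype.card α = Fintype.card β) (H : Finset α) (H' : Finset β)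
    (hc : H.card = H'.card) : ∃ f : α ≃ β, H.image f = H' := by
  classical
  let g0 : α ≃ β := Fintype.equivOfCardEq hαβ
  have hc' : Fintype.card {x // x ∈ H.image g0} = Fintype.card {x // x ∈ H'} := by
    rw [Fintype.card_coe, Fintype.card_coe, card_image_of_injective _ g0.injective, hc]
  let e1 : {x // x ∈ H.image g0} ≃ {x // x ∈ H'} := Fintype.equivOfCardEq hc'
  let τ : Equiv.Perm β := e1.extendSubtype
  refine ⟨g0.trans τ, ?_⟩
  apply eq_of_subset_of_card_le
  · intro y hy
    obtain ⟨x, hx, rfl⟩ := mem_image.mp hy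
    have hx' : g0 x ∈ H.image g0 := mem_image_of_mem _ hx
    show τ (g0 x) ∈ H'
    rw [Equiv.extendSubtype_apply_of_mem e1 _ hx']
    exact (e1 ⟨g0 x, hx'⟩).2
  · rw [card_image_of_injective _ (g0.trans τ).injective, hc]

/-- Uniqueness of the projective plane of order 4: any two Steiner systems S(2, 5, 21) (21 points, lines of 5 points, two points on exactly one line) are isomorphic. -/
theorem result {α β : Type*} [Fintype α] [DecidableEq α] [Fintype β] [DecidableEq β] (hα : Fintype.card α = 21) (hβ : Fintype.card β = 21) {L : Set (Finset α)} {L' : Set (Finset β)} (hL : Cfsg.IsSteinerSystem 2 5 L) (hL' : Cfsg.IsSteinerSystem 2 5 L') : Cfsg.SetSystemIso L L' := by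
  obtain ⟨H, hH⟩ : (arcsF L 6).Nonempty := by
    rw [← card_pos, card_arcsF_six hα hL]; norm_num
  obtain ⟨H', hH'⟩ : (arcsF L' 6).Nonempty := by
    rw [← card_pos, card_arcsF_six hβ hL']; norm_num
  obtain ⟨f, hf⟩ := exists_equiv_image_eq (hα.trans hβ.symm) H H'
    ((mem_arcsF.mp hH).1.trans (mem_arcsF.mp hH').1.symm)
  obtain ⟨e, -, he⟩ := exists_iso_extending hα hβ hL hL' hH hH' f hf
  exact ⟨e, he⟩

end Cfsg.Agent.S5626
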