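-- Statement S0410: uniqueness of the Steiner system S(3,6,22).
import Cfsg.Statements.S0410
import Cfsg.Agent.Lib.Helper8.Ext22
import Cfsg.Agent.S5626
import Mathlib

set_option autoImplicit false
open Cfsg

namespace Cfsg.Agent.S0410

open Cfsg.Agent.Helper8 Finset

section transport

variable {γ δ : Type*} [Fintype γ] [DecidableEq γ] [Fintype δ] [DecidableEq δ]

theorem image_arc {L : Set (Finset γ)} {L' : Set (Finset δ)} (e : γ ≃ δ)
    (he : (fun b : Finset γ => b.image e) '' L = L') {k : ℕ} {O : Finset γ}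
    (hO : O ∈ arcsF L k) : O.image e ∈ arcsF L' k := by
  obtain ⟨hc, ha⟩ := mem_arcsF.mp hO
  rw [mem_arcsF]
  refine ⟨by rw [card_image_of_injective _ e.injective, hc], ?_⟩
  intro l' hl'
  rw [← he] at hl'
  obtain ⟨l, hl, rfl⟩ := hl'
  show (l.image e ∩ O.image e).card ≤ 2
  rw [← image_inter _ _ e.injective, card_image_of_injective _ e.injective]
  exact ha l hl

theorem image_evenClass (hγ : Fintype.card γ = 21) (hδ : Fintype.card δ = 21)
    {L : Set (Finset γ)} {L' : Set (Finset δ)} (hL : IsSteinerSystem 2 5 L)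
    (hL' : IsSteinerSystem 2 5 L') (e : γ ≃ δ)
    (he : (fun b : Finset γ => b.image e) '' L = L') {O : Finset γ} (hO : O ∈ arcsF L 6) :
    (evenClass L O).image (fun b => b.image e) = evenClass L' (O.image e) := by
  apply eq_of_subset_of_card_le
  · intro Q hQ
    obtain ⟨O', hO', rfl⟩ := mem_image.mp hQ
    rw [mem_evenClass] at hO' ⊢
    rcases hO' with rfl | ⟨h1, h2⟩
    · exact Or.inl rfl
    · refine Or.inr ⟨image_arc e he h1, ?_⟩
      rw [← image_inter _ _ e.injective, card_image_of_injective _ e.injective]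
      exact h2
  · rw [card_evenClass hδ hL' (image_arc e he hO),
      card_image_of_injective _ (Finset.image_injective e.injective), card_evenClass hγ hL hO]

end transport

section extend

variable {α β : Type*} [Fintype α] [Fintype β] [DecidableEq α] [DecidableEq β] (p : α) (p' : β)
  (e₀ : {a : α // a ≠ p} ≃ {b : β // b ≠ p'})

/-- Extension of a bijection of the punctured sets by `p ↦ p'`. -/
def extFun (a : α) : β := if h : a = p then p' else (e₀ ⟨a, h⟩ : β)

theorem extFun_self : extFun p p' e₀ p = p' := dif_pos rfl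

theorem extFun_of_ne {a : α} (h : a ≠ p) : extFun p p' e₀ a = (e₀ ⟨a, h⟩ : β) := dif_neg h

theorem extFun_ne_of_ne {a : α} (h : a ≠ p) : extFun p p' e₀ a ≠ p' := by
  rw [extFun_of_ne p p' e₀ h]; exact (e₀ ⟨a, h⟩).2

theorem extFun_injective : Function.Injective (extFun p p' e₀) := by
  intro a a' h
  by_cases ha : a = p <;> by_cases ha' : a' = p
  · rw [ha, ha']
  · rw [ha, extFun_self] at h
    exact absurd h.symm (extFun_ne_of_ne p p' e₀ ha')
  · rw [ha', extFun_self] at h
    exact absurd h (extFun_ne_of_ne p p' e₀ ha)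
  · rw [extFun_of_ne p p' e₀ ha, extFun_of_ne p p' e₀ ha'] at h
    have := e₀.injective (Subtype.ext h)
    exact congrArg Subtype.val this

/-- If the restricted images correspond, so do the images. -/
theorem image_extFun_eq {b : Finset α} {b' : Finset β} (hp : p ∈ b ↔ p' ∈ b')
    (h : (sub p b).image e₀ = sub p' b') : b.image (extFun p p' e₀) = b' := by
  ext y
  rw [mem_image]
  by_cases hy : y = p'
  · rw [hy]
    constructor
    · rintro ⟨a, ha, hay⟩
      by_cases hap : a = p
      · rw [hap] at ha; exact hp.mp ha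
      · exact absurd hay (extFun_ne_of_ne p p' e₀ hap)
    · intro h'
      exact ⟨p, hp.mpr h', extFun_self p p' e₀⟩
  · have key : y ∈ b' ↔ (⟨y, hy⟩ : {b : β // b ≠ p'}) ∈ (sub p b).image e₀ := by
      rw [h, Cfsg.Agent.Helper8.mem_sub]
    rw [key, mem_image]
    constructor
    · rintro ⟨a, ha, hay⟩
      have hap : a ≠ p := by
        rintro rfl
        rw [extFun_self] at hay
        exact hy hay.symm
      refine ⟨⟨a, hap⟩, (Cfsg.Agent.Helper8.mem_sub p).mpr ha, ?_⟩
      apply Subtype.ext
      rw [← extFun_of_ne p p' e₀ hap]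
      exact hay
    · rintro ⟨a₀, ha₀, hay⟩
      refine ⟨a₀, (Cfsg.Agent.Helper8.mem_sub p).mp ha₀, ?_⟩
      rw [extFun_of_ne p p' e₀ a₀.2]
      exact congrArg Subtype.val hay

end extend

/-- Uniqueness of the Steiner system S(3, 6, 22). -/
theorem result {α β : Type*} [Fintype α] [DecidableEq α] [Fintype β] [DecidableEq β] (hα : Fintype.card α = 22) (hβ : Fintype.card β = 22) {B : Set (Finset α)} {B' : Set (Finset β)} (hB : Cfsg.IsSteinerSystem 3 6 B) (hB' : Cfsg.IsSteinerSystem 3 6 B') : Cfsg.SetSystemIso B B' := by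
  classical
  obtain ⟨p⟩ : Nonempty α := Fintype.card_pos_iff.mp (by rw [hα]; norm_num)
  obtain ⟨p'⟩ : Nonempty β := Fintype.card_pos_iff.mp (by rw [hβ]; norm_num)
  have hγ : Fintype.card {a : α // a ≠ p} = 21 := card_subtype_ne p 21 hα
  have hδ : Fintype.card {b : β // b ≠ p'} = 21 := card_subtype_ne p' 21 hβ
  have hL := dLines_steiner hB p
  have hL' := dLines_steiner hB' p'
  obtain ⟨O, hO⟩ : (dOvals B p).Nonempty := by
    rw [← card_pos, card_dOvals hα hB p]; norm_num
  obtain ⟨O', hO'⟩ : (dOvals B' p').Nonempty := by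
    rw [← card_pos, card_dOvals hβ hB' p']; norm_num
  have hOa := dOvals_arc hα hB p hO
  have hO'a := dOvals_arc hβ hB' p' hO'
  obtain ⟨f, hf⟩ := Cfsg.Agent.S5626.exists_equiv_image_eq (hγ.trans hδ.symm) O O'
    ((mem_arcsF.mp hOa).1.trans (mem_arcsF.mp hO'a).1.symm)
  obtain ⟨e₀, he₀O, he₀L⟩ := exists_iso_extending hγ hδ hL hL' hOa hO'a f hf
  have himO : O.image e₀ = O' := by
    rw [← hf]
    apply image_congr
    intro a ha
    exact he₀O a ha
  have hclass : (dOvals B p).image (fun b => b.image e₀) = dOvals B' p' := by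
    rw [dOvals_eq hα hB p hO, dOvals_eq hβ hB' p' hO',
      image_evenClass hγ hδ hL hL' e₀ he₀L hOa, himO]
  -- the extended bijection
  have hbij : Function.Bijective (extFun p p' e₀) :=
    (Fintype.bijective_iff_injective_and_card _).mpr
      ⟨extFun_injective p p' e₀, by rw [hα, hβ]⟩
  let e : α ≃ β := Equiv.ofBijective _ hbij
  have hblock : ∀ b ∈ B, b.image e ∈ B' := by
    intro b hb
    by_cases hpb : p ∈ b
    · have h1 : sub p b ∈ dLines B p := ⟨b, hb, hpb, rfl⟩
      have h2 : (sub p b).image e₀ ∈ dLines B' p' := by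
        rw [← he₀L]; exact ⟨_, h1, rfl⟩
      obtain ⟨b', hb', hpb', h3⟩ := h2
      have : b.image (extFun p p' e₀) = b' :=
        image_extFun_eq p p' e₀ (by simp only [hpb, hpb']) h3
      show b.image (extFun p p' e₀) ∈ B'
      rw [this]; exact hb'
    · have h1 : sub p b ∈ dOvals B p := (mem_dOvals p).mpr ⟨b, hb, hpb, rfl⟩
      have h2 : (sub p b).image e₀ ∈ dOvals B' p' := by
        rw [← hclass]; exact mem_image_of_mem _ h1
      obtain ⟨b', hb', hpb', h3⟩ := (mem_dOvals p').mp h2
      have : b.image (extFun p p' e₀) = b' :=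
        image_extFun_eq p p' e₀ (by simp only [hpb, hpb']) h3.symm
      show b.image (extFun p p' e₀) ∈ B'
      rw [this]; exact hb'
  refine ⟨e, ?_⟩
  have hsub : (fun b : Finset α => b.image e) '' B ⊆ B' := by
    rintro _ ⟨b, hb, rfl⟩
    exact hblock b hb
  apply Set.eq_of_subset_of_ncard_le hsub _ (Set.toFinite _)
  rw [Set.ncard_image_of_injective B (Finset.image_injective e.injective),
    ncard_eq_card_blocksF, ncard_eq_card_blocksF, card_blocks_3_6_22 hα hB,
    card_blocks_3_6_22 hβ hB']

end Cfsg.Agent.S0410
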