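import Mathlib
import Cfsg.Statements.S5160
import Cfsg.Agent.Lib.Helper88.FusionCentricUnique
import Cfsg.Agent.Lib.Helper84.GrpFus
import Cfsg.Agent.Lib.Helper87.FusionInvariant

set_option autoImplicit false
open Cfsg

namespace Cfsg.Agent.S5160

open Cfsg.FusionSystem Cfsg.Agent.Helper87

section general

variable {Ω : Type*} [Group Ω] {S : Subgroup Ω}

/-- For `E` invariant in `F` over the same `S`: `Aut_E(R)` is normalized by `Aut_F(R)`. -/
theorem conj_mor_of_invariant {E F : FusionSystem S} (h : E.IsInvariantIn F) {R : Subgroup Ω}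
    {f f' e : Ω → Ω} (hf : Iso F R R f) (hf'f : ∀ y ∈ R, f (f' y) = y)
    (hf'R : ∀ y ∈ R, f' y ∈ R) (he : Iso E R R e) : Mor E R (fun x => f (e (f' x))) := by
  have hRS : R ≤ S := hf.le_left
  obtain ⟨α, hα, f₀, hf₀, e0⟩ := frattini_fun h hRS hf.1
  have hI₀ : Iso E R hf₀.image f₀ := Iso.of_mor hf₀
  obtain ⟨g₀, hg₀, hg1, hg2⟩ := hI₀.symm
  have he₀ : Mor E hf₀.image (fun y => f₀ (e (g₀ y))) := by
    have h1 : Mor E hf₀.image (fun y => e (g₀ y)) :=
      hg₀.1.comp he.1 (fun y hy => hg₀.map_mem hy)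
    exact h1.comp hf₀ (fun y hy => he.map_mem (hg₀.map_mem hy))
  have hR₀S : hf₀.image ≤ S := hf₀.image_le
  have hinv := invariance_fun h hR₀S he₀ hα
  have himg : imgAut α hf₀.image = R := by
    ext y
    rw [mem_imgAut hR₀S]
    constructor
    · rintro ⟨x, hx, rfl⟩
      obtain ⟨r, hr, rfl⟩ := hx
      rw [← e0 r hr]
      exact hf.map_mem hr
    · intro hy
      refine ⟨f₀ (f' y), ⟨f' y, hf'R y hy, rfl⟩, ?_⟩
      rw [← e0 _ (hf'R y hy), hf'f y hy]
  rw [himg] at hinv
  refine hinv.congr (fun y hy => ?_)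
  have hy' : f' y ∈ R := hf'R y hy
  have hmem : f₀ (f' y) ∈ S := hf₀.mem hy'
  have h1 : extAut α⁻¹ y = f₀ (f' y) := by
    have h2 : y = extAut α (f₀ (f' y)) := by rw [← e0 _ hy', hf'f y hy]
    calc extAut α⁻¹ y = extAut α⁻¹ (extAut α (f₀ (f' y))) := by rw [← h2]
      _ = f₀ (f' y) := extAut_inv_left α hmem
  show extAut α (f₀ (e (g₀ (extAut α⁻¹ y)))) = f (e (f' y))
  rw [h1, hg1 _ hy', ← e0 _ (he.map_mem hy')]

theorem iso_of_mor_conj {F : FusionSystem S} {R : Subgroup Ω} {g : Ω}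
    (hg : g ∈ Subgroup.normalizer (R : Set Ω)) (h : Mor F R (fun x => g * x * g⁻¹)) :
    Iso F R R (fun x => g * x * g⁻¹) := by
  refine ⟨h, fun y => ⟨fun hy => ⟨g⁻¹ * y * g, ?_, by group⟩, ?_⟩⟩
  · have hg' : g⁻¹ ∈ Subgroup.normalizer (R : Set Ω) := Subgroup.inv_mem _ hg
    have := (Subgroup.mem_normalizer_iff.1 hg' y).1 hy
    simpa using this
  · rintro ⟨x, hx, rfl⟩
    exact (Subgroup.mem_normalizer_iff.1 hg x).1 hx

end general

section grp

variable {G : Type*} [Group G] [Finite G] {p : ℕ} [Fact p.Prime]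

theorem gfs_mor_conj (S : Subgroup G) {P : Subgroup G} (hP : P ≤ S) (g : G)
    (hg : ∀ x ∈ P, g * x * g⁻¹ ∈ S) :
    Mor (groupFusionSystem S) P (fun x => g * x * g⁻¹) :=
  ⟨conjHom P g, ⟨hP, fun x => hg x x.2, g, fun x => rfl⟩, fun x => rfl⟩

theorem mor_conj_of_mem_closure (S : Sylow p G) {E : FusionSystem (S : Subgroup G)}
    (hE : E.IsInvariantIn (groupFusionSystem (S : Subgroup G))) {R : Subgroup G}
    (hR : (groupFusionSystem (S : Subgroup G)).IsFullyNormalized R) {g : G}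
    (hg : g ∈ Subgroup.closure {g : G | g ∈ Subgroup.normalizer (R : Set G) ∧
      ∃ k : ℕ, orderOf g = p ^ k}) :
    g ∈ Subgroup.normalizer (R : Set G) ∧ Mor E R (fun x => g * x * g⁻¹) := by
  have hRS : R ≤ (S : Subgroup G) := hR.1
  have hsyl := (Cfsg.Agent.Helper84.gfs_fullyNormalized_iff S R hRS).1 hR
  induction hg using Subgroup.closure_induction with
  | mem g hg =>
    obtain ⟨hgN, k, hk⟩ := hg
    refine ⟨hgN, ?_⟩
    have hpow : g ^ p ^ k = 1 := by rw [← hk]; exact pow_orderOf_eq_one g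
    have hHp : IsPGroup p (Subgroup.zpowers g) :=
      Cfsg.Agent.Helper88.isPGroup_zpowers_of_pow g k hpow
    have hHN : Subgroup.zpowers g ≤ Subgroup.normalizer (R : Set G) := by
      rw [Subgroup.zpowers_le]; exact hgN
    obtain ⟨n, hn, hle⟩ := hsyl.exists_conj_ge hHN hHp
    obtain ⟨s, hs, hsg⟩ := hle (Subgroup.mem_zpowers g)
    have hsS : s ∈ (S : Subgroup G) := hs.1
    have hsN : s ∈ Subgroup.normalizer (R : Set G) := hs.2
    have hsg' : n * s * n⁻¹ = g := hsg
    have hfn : Iso (groupFusionSystem (S : Subgroup G)) R R (fun x => n * x * n⁻¹) :=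
      iso_of_mor_conj hn (gfs_mor_conj _ hRS n
        (fun x hx => hRS ((Subgroup.mem_normalizer_iff.1 hn x).1 hx)))
    have hes : Iso E R R (fun x => s * x * s⁻¹) := iso_of_mor_conj hsN (Mor.conj hRS hsS)
    have hn' : n⁻¹ ∈ Subgroup.normalizer (R : Set G) := Subgroup.inv_mem _ hn
    have := conj_mor_of_invariant hE (f' := fun y => n⁻¹ * y * n⁻¹⁻¹) hfn
      (fun y _ => by group) (fun y hy => (Subgroup.mem_normalizer_iff.1 hn' y).1 hy) hes
    refine this.congr (fun x _ => ?_)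
    show n * (s * (n⁻¹ * x * n⁻¹⁻¹) * s⁻¹) * n⁻¹ = g * x * g⁻¹
    rw [← hsg']; group
  | one =>
    refine ⟨Subgroup.one_mem _, (Mor.id hRS).congr (fun x _ => by simp)⟩
  | mul a b _ _ ha hb =>
    obtain ⟨haN, haE⟩ := ha
    obtain ⟨hbN, hbE⟩ := hb
    refine ⟨Subgroup.mul_mem _ haN hbN, ?_⟩
    have := hbE.comp haE (fun x hx => (Subgroup.mem_normalizer_iff.1 hbN x).1 hx)
    refine this.congr (fun x _ => ?_)
    show a * (b * x * b⁻¹) * a⁻¹ = a * b * x * (a * b)⁻¹
    group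
  | inv a _ ha =>
    obtain ⟨haN, haE⟩ := ha
    refine ⟨Subgroup.inv_mem _ haN, ?_⟩
    obtain ⟨g', hg', e1, e2⟩ := (iso_of_mor_conj haN haE).symm
    refine hg'.1.congr (fun y hy => ?_)
    have hy' : a⁻¹ * y * a⁻¹⁻¹ ∈ R :=
      (Subgroup.mem_normalizer_iff.1 (Subgroup.inv_mem _ haN) y).1 hy
    have := e1 _ hy'
    rw [← this]
    congr 1
    group

end grp

/-- Let G be a finite group with nontrivial Sylow p-subgroup S and F its fusion system on S. Suppose (a) no nontrivial proper subgroup of S is strongly closed in F, and (b) the automorphisms of S induced by G are generated by those induced, for R running over the fully normalized radical centric subgroups of F, by the subgroup of N_G(R) generated by its elements of p-power order. Then F is simple. -/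
theorem result {G : Type*} [Group G] [Finite G] (p : ℕ) [Fact p.Prime] (S : Sylow p G) (hS1 : (S : Subgroup G) ≠ ⊥) (ha : ∀ T : Subgroup G, (Cfsg.groupFusionSystem (S : Subgroup G)).StronglyClosed T → T = ⊥ ∨ T = (S : Subgroup G)) (hb : Cfsg.autInducedBy ⊤ (S : Subgroup G) = ⨆ (R : Subgroup G) (_ : (Cfsg.groupFusionSystem (S : Subgroup G)).IsFullyNormalized R ∧ (Cfsg.groupFusionSystem (S : Subgroup G)).IsRadical p R ∧ (Cfsg.groupFusionSystem (S : Subgroup G)).IsCentric R), Cfsg.autInducedBy (Subgroup.closure {g : G | g ∈ Subgroup.normalizer (R : Set G) ∧ ∃ k : ℕ, orderOf g = p ^ k}) (S : Subgroup G)) : (Cfsg.groupFusionSystem (S : Subgroup G)).IsSimple p := by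
  classical
  have hFsat : (groupFusionSystem (S : Subgroup G)).IsSaturated p :=
    Cfsg.Agent.Helper84.gfs_saturated S
  have hSp : IsPGroup p (S : Subgroup G) := S.isPGroup'
  refine ⟨hFsat, hS1, ?_⟩
  intro T E hE
  obtain ⟨⟨hEsat, -, hinv⟩, -⟩ := hE
  have hinv' := hinv
  obtain ⟨hsub, hTsc, -, hfrat⟩ := hinv
  rcases ha T hTsc with h | h
  · left; exact h
  · right
    subst h
    refine ⟨rfl, fun P => ?_⟩
    have key : (groupFusionSystem (S : Subgroup G)).autGroup (S : Subgroup G) ≤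
        E.autGroup (S : Subgroup G) := by
      rw [Cfsg.Agent.Helper84.gfs_autGroup_eq (S : Subgroup G) (S : Subgroup G) le_rfl, hb]
      apply iSup_le
      intro R
      apply iSup_le
      rintro ⟨hRfn, -, hRcen⟩
      intro α hα
      obtain ⟨g, hg, e⟩ := mem_autInducedBy_iff.1 hα
      rw [mem_autGroup_iff le_rfl]
      obtain ⟨hgN, hgE⟩ := mor_conj_of_mem_closure S hinv' hRfn hg
      have hψ : Mor (groupFusionSystem (S : Subgroup G)) (S : Subgroup G)
          (fun x => g * x * g⁻¹) :=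
        gfs_mor_conj _ le_rfl g (fun x hx => by
          have := e ⟨x, hx⟩
          rw [← this]
          exact (α ⟨x, hx⟩).2)
      have := Cfsg.Agent.Helper88.mor_sub_of_centric hSp hFsat hEsat hsub hψ R hRfn.1 hRcen hgE
      exact this.congr (fun x hx => by rw [extAut_mem α hx, e])
    apply Set.Subset.antisymm (hsub P)
    intro φ hφ
    have hPS : P ≤ (S : Subgroup G) := ((groupFusionSystem (S : Subgroup G)).le_of_mem hφ).1
    obtain ⟨α, hα, φ₀, hφ₀, hrel⟩ := hfrat P hPS φ hφ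
    have hαE : α ∈ E.autGroup (S : Subgroup G) := key hα
    rw [mem_autGroup_iff le_rfl] at hαE
    have hφ₀S : ∀ x : P, φ₀ x ∈ (S : Subgroup G) := (E.le_of_mem hφ₀).2
    have h1 : Mor E P (fun x => extAut α (extFun φ₀ x)) :=
      (mor_of_mem hφ₀).comp hαE (fun x hx => by rw [extFun_mem φ₀ hx]; exact hφ₀S _)
    rw [mem_hom_iff_mor]
    refine h1.congr (fun x hx => ?_)
    rw [extFun_mem φ hx, hrel ⟨x, hx⟩ (hφ₀S _), extFun_mem φ₀ hx, extAut_mem α (hφ₀S _)]

end Cfsg.Agent.S5160
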