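-- Statement S0427: the block graph of an S(3,6,22) is SRG(77,16,0,4).
import Cfsg.Statements.S0427
import Cfsg.Agent.Lib.Helper8.Steiner22
import Mathlib

set_option autoImplicit false
open Cfsg

namespace Cfsg.Agent.S0427

open Cfsg.Agent.Helper8 Finset

/-- Cardinality of a set of blocks (as a set in the subtype) as a filter-card. -/
theorem ncard_blocks_eq {α : Type*} [Fintype α] [DecidableEq α] {B : Set (Finset α)}
    (S : Set B) (P : Finset α → Prop) [DecidablePred P]
    (h : ∀ d (hd : d ∈ B), (⟨d, hd⟩ : B) ∈ S ↔ P d) :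
    S.ncard = ((blocksF B).filter P).card := by
  rw [← Set.ncard_image_of_injective S Subtype.val_injective, ← Set.ncard_coe_finset]
  congr 1
  ext d
  simp only [Set.mem_image, Subtype.exists, exists_and_right, exists_eq_right, coe_filter,
    mem_blocksF, Set.mem_ofPred_eq]
  constructor
  · rintro ⟨hd, hS⟩; exact ⟨hd, (h d hd).mp hS⟩
  · rintro ⟨hd, hP⟩; exact ⟨hd, (h d hd).mpr hP⟩

theorem fintype_card_eq_ncard {V : Type*} (S : Set V) [Fintype S] : Fintype.card S = S.ncard := by
  rw [← Nat.card_eq_fintype_card, _root_.Nat.card_coe_set_eq]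

theorem adj_iff {α : Type*} [Fintype α] {B : Set (Finset α)} (hB : Cfsg.IsSteinerSystem 3 6 B)
    (v w : B) : (Cfsg.blockGraph B).Adj v w ↔ Disjoint (v : Finset α) (w : Finset α) := by
  classical
  unfold Cfsg.blockGraph
  rw [SimpleGraph.fromRel_adj]
  constructor
  · rintro ⟨_, h | h⟩
    · exact h
    · exact h.symm
  · intro h
    refine ⟨?_, Or.inl h⟩
    rintro rfl
    exact (block_nonempty_3_6_22 hB v.2).ne_empty (disjoint_self.mp h)

/-- The block graph (adjacent = disjoint) of an S(3, 6, 22) is strongly regular with parameters (77, 16, 0, 4). -/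
theorem result {α : Type*} [Fintype α] (hα : Fintype.card α = 22) {B : Set (Finset α)} (hB : Cfsg.IsSteinerSystem 3 6 B) [Fintype B] [DecidableRel (Cfsg.blockGraph B).Adj] : (Cfsg.blockGraph B).IsSRGWith 77 16 0 4 := by
  classical
  refine ⟨?_, ?_, ?_, ?_⟩
  · -- number of vertices
    rw [← Nat.card_eq_fintype_card, _root_.Nat.card_coe_set_eq, ncard_eq_card_blocksF]
    exact card_blocks_3_6_22 hα hB
  · -- degree
    intro v
    rw [← SimpleGraph.card_neighborSet_eq_degree, fintype_card_eq_ncard,
      ncard_blocks_eq _ (fun d => Disjoint (v : Finset α) d)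
        (fun d hd => by rw [SimpleGraph.mem_neighborSet, adj_iff hB])]
    exact disjoint_count_3_6_22 hα hB v.2
  · -- adjacent: no common neighbours
    intro v w hvw
    rw [adj_iff hB] at hvw
    rw [fintype_card_eq_ncard,
      ncard_blocks_eq _ (fun d => Disjoint (v : Finset α) d ∧ Disjoint (w : Finset α) d)
        (fun d hd => by rw [SimpleGraph.mem_commonNeighbors, adj_iff hB, adj_iff hB])]
    exact disjoint_both_of_disjoint hα hB v.2 w.2 hvw
  · -- non-adjacent: four common neighbours
    intro v w hne hvw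
    rw [adj_iff hB] at hvw
    rw [fintype_card_eq_ncard,
      ncard_blocks_eq _ (fun d => Disjoint (v : Finset α) d ∧ Disjoint (w : Finset α) d)
        (fun d hd => by rw [SimpleGraph.mem_commonNeighbors, adj_iff hB, adj_iff hB])]
    have hne' : (v : Finset α) ≠ (w : Finset α) := fun h => hne (Subtype.ext h)
    exact (disjoint_both_of_not_disjoint hα hB v.2 w.2 hne' hvw).2

end Cfsg.Agent.S0427
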