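-- Statement S0428: the point-block graph of an S(3,6,22) is SRG(100,22,0,6).
import Cfsg.Statements.S0428
import Cfsg.Agent.Lib.Helper8.Steiner22
import Cfsg.Agent.S0427
import Mathlib

set_option autoImplicit false
open Cfsg

namespace Cfsg.Agent.S0428

open Cfsg.Agent.Helper8 Finset

section adj

variable {α : Type*} {B : Set (Finset α)}

theorem adj_iff (x y : Option (α ⊕ B)) :
    (Cfsg.pointBlockGraph B).Adj x y ↔
      x ≠ y ∧ (Cfsg.pointBlockRel B x y ∨ Cfsg.pointBlockRel B y x) := by
  unfold Cfsg.pointBlockGraph
  rw [SimpleGraph.fromRel_adj]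

@[simp] theorem adj_none_none : ¬ (Cfsg.pointBlockGraph B).Adj none none := by
  rw [adj_iff]; simp

@[simp] theorem adj_none_point (a : α) :
    (Cfsg.pointBlockGraph B).Adj none (some (Sum.inl a)) := by
  rw [adj_iff]; simp [Cfsg.pointBlockRel]

@[simp] theorem adj_point_none (a : α) :
    (Cfsg.pointBlockGraph B).Adj (some (Sum.inl a)) none := by
  rw [adj_iff]; simp [Cfsg.pointBlockRel]

@[simp] theorem adj_none_block (b : B) :
    ¬ (Cfsg.pointBlockGraph B).Adj none (some (Sum.inr b)) := by
  rw [adj_iff]; simp [Cfsg.pointBlockRel]

@[simp] theorem adj_block_none (b : B) :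
    ¬ (Cfsg.pointBlockGraph B).Adj (some (Sum.inr b)) none := by
  rw [adj_iff]; simp [Cfsg.pointBlockRel]

@[simp] theorem adj_point_point (a a' : α) :
    ¬ (Cfsg.pointBlockGraph B).Adj (some (Sum.inl a)) (some (Sum.inl a')) := by
  rw [adj_iff]; simp [Cfsg.pointBlockRel]

@[simp] theorem adj_point_block (a : α) (b : B) :
    (Cfsg.pointBlockGraph B).Adj (some (Sum.inl a)) (some (Sum.inr b)) ↔ a ∈ (b : Finset α) := by
  rw [adj_iff]; simp [Cfsg.pointBlockRel]

@[simp] theorem adj_block_point (a : α) (b : B) :
    (Cfsg.pointBlockGraph B).Adj (some (Sum.inr b)) (some (Sum.inl a)) ↔ a ∈ (b : Finset α) := by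
  rw [adj_iff]; simp [Cfsg.pointBlockRel]

theorem adj_block_block [Fintype α] (hB : Cfsg.IsSteinerSystem 3 6 B) (b c : B) :
    (Cfsg.pointBlockGraph B).Adj (some (Sum.inr b)) (some (Sum.inr c)) ↔
      Disjoint (b : Finset α) (c : Finset α) := by
  classical
  rw [adj_iff]
  simp only [Cfsg.pointBlockRel]
  constructor
  · rintro ⟨_, h | h⟩
    · exact h
    · exact h.symm
  · intro h
    refine ⟨?_, Or.inl h⟩
    intro heq
    have : b = c := Sum.inr_injective (Option.some_injective _ heq)
    subst this
    exact (block_nonempty_3_6_22 hB b.2).ne_empty (disjoint_self.mp h)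

end adj

/-- Counting a set of vertices of the point-block graph by its three layers. -/
theorem ncard_vertex_set {α : Type*} [Fintype α] [DecidableEq α] {B : Set (Finset α)}
    (S : Set (Option (α ⊕ B)))
    (p0 : Prop) [Decidable p0] (P : α → Prop) [DecidablePred P] (Q : Finset α → Prop)
    [DecidablePred Q]
    (h0 : none ∈ S ↔ p0) (hP : ∀ a, some (Sum.inl a) ∈ S ↔ P a)
    (hQ : ∀ d (hd : d ∈ B), some (Sum.inr ⟨d, hd⟩) ∈ S ↔ Q d) :
    S.ncard = (if p0 then 1 else 0) + (univ.filter P).card + ((blocksF B).filter Q).card := by
  classical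
  have : Fintype B := Fintype.ofFinite B
  have e : S.ncard = ∑ x : Option (α ⊕ B), if x ∈ S then 1 else 0 := by
    rw [← Finset.card_filter, ← Set.ncard_coe_finset]
    congr 1; ext x; simp
  have e3 : (∑ b : B, if some (Sum.inr b) ∈ S then 1 else 0) = ((blocksF B).filter Q).card := by
    rw [← Finset.card_filter,
      ← Cfsg.Agent.S0427.ncard_blocks_eq {b : B | some (Sum.inr b) ∈ S} Q (fun d hd => hQ d hd),
      ← Set.ncard_coe_finset]
    congr 1; ext b; simp
  rw [e, Fintype.sum_option, Fintype.sum_sum_type, e3, ← add_assoc]
  congr 1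
  congr 1
  · simp only [h0]
  · rw [Finset.card_filter]
    apply Finset.sum_congr rfl
    intro a _
    simp only [hP]

theorem card_vertex_set {α : Type*} [Fintype α] [DecidableEq α] {B : Set (Finset α)}
    (S : Set (Option (α ⊕ B))) [Fintype S]
    (p0 : Prop) [Decidable p0] (P : α → Prop) [DecidablePred P] (Q : Finset α → Prop)
    [DecidablePred Q]
    (h0 : none ∈ S ↔ p0) (hP : ∀ a, some (Sum.inl a) ∈ S ↔ P a)
    (hQ : ∀ d (hd : d ∈ B), some (Sum.inr ⟨d, hd⟩) ∈ S ↔ Q d) :
    Fintype.card S = (if p0 then 1 else 0) + (univ.filter P).card + ((blocksF B).filter Q).card := by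
  rw [Cfsg.Agent.S0427.fintype_card_eq_ncard]
  exact ncard_vertex_set S p0 P Q h0 hP hQ

/-- The point-block graph of an S(3, 6, 22) is strongly regular with parameters (100, 22, 0, 6). -/
theorem result {α : Type*} [Fintype α] (hα : Fintype.card α = 22) {B : Set (Finset α)} (hB : Cfsg.IsSteinerSystem 3 6 B) [Fintype B] [DecidableRel (Cfsg.pointBlockGraph B).Adj] : (Cfsg.pointBlockGraph B).IsSRGWith 100 22 0 6 := by
  classical
  have hBB := adj_block_block hB
  have hcardB : Fintype.card B = 77 := by
    rw [← Nat.card_eq_fintype_card, _root_.Nat.card_coe_set_eq, ncard_eq_card_blocksF]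
    exact card_blocks_3_6_22 hα hB
  refine ⟨?_, ?_, ?_, ?_⟩
  · -- number of vertices
    rw [Fintype.card_option, Fintype.card_sum, hα, hcardB]
  · -- degree
    intro v
    rw [← SimpleGraph.card_neighborSet_eq_degree]
    rcases v with _ | a | b
    · rw [card_vertex_set _ False (fun _ => True) (fun _ => False)
        (by simp) (by simp) (by simp)]
      simp [hα]
    · rw [card_vertex_set _ True (fun _ => False) (fun d => a ∈ d)
        (by simp) (by simp) (by simp)]
      simp [through_point_3_6_22 hα hB a]
    · rw [card_vertex_set _ False (fun a => a ∈ (b : Finset α)) (fun d => Disjoint (b : Finset α) d)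
        (by simp) (by simp) (by intro d hd; simp [hBB])]
      simp [disjoint_count_3_6_22 hα hB b.2, hB.1 b b.2]
  · -- adjacent: no common neighbours
    intro v w hvw
    rcases v with _ | a | b <;> rcases w with _ | a' | c
    · exact absurd hvw adj_none_none
    · rw [card_vertex_set _ False (fun _ => False) (fun _ => False)
        (by simp [SimpleGraph.mem_commonNeighbors]) (by simp [SimpleGraph.mem_commonNeighbors])
        (by simp [SimpleGraph.mem_commonNeighbors])]
      simp
    · exact absurd hvw (adj_none_block c)
    · rw [card_vertex_set _ False (fun _ => False) (fun _ => False)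
        (by simp [SimpleGraph.mem_commonNeighbors]) (by simp [SimpleGraph.mem_commonNeighbors])
        (by simp [SimpleGraph.mem_commonNeighbors])]
      simp
    · exact absurd hvw (adj_point_point a a')
    · rw [adj_point_block] at hvw
      rw [card_vertex_set _ False (fun _ => False) (fun _ => False)
        (by simp [SimpleGraph.mem_commonNeighbors]) (by simp [SimpleGraph.mem_commonNeighbors])
        (by
          intro d hd
          simp only [SimpleGraph.mem_commonNeighbors, adj_point_block, hBB, iff_false, not_and]
          intro had hdis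
          exact (Finset.disjoint_left.mp hdis hvw) had)]
      simp
    · exact absurd hvw (adj_block_none b)
    · rw [adj_block_point] at hvw
      rw [card_vertex_set _ False (fun _ => False) (fun _ => False)
        (by simp [SimpleGraph.mem_commonNeighbors]) (by simp [SimpleGraph.mem_commonNeighbors])
        (by
          intro d hd
          simp only [SimpleGraph.mem_commonNeighbors, adj_point_block, hBB, iff_false, not_and]
          intro hdis had
          exact (Finset.disjoint_left.mp hdis hvw) had)]
      simp
    · rw [hBB] at hvw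
      rw [card_vertex_set _ False (fun _ => False)
        (fun d => Disjoint (b : Finset α) d ∧ Disjoint (c : Finset α) d)
        (by simp [SimpleGraph.mem_commonNeighbors])
        (by
          intro a
          simp only [SimpleGraph.mem_commonNeighbors, adj_block_point, iff_false, not_and]
          intro hab hac
          exact (Finset.disjoint_left.mp hvw hab) hac)
        (by intro d hd; simp [SimpleGraph.mem_commonNeighbors, hBB])]
      simp [disjoint_both_of_disjoint hα hB b.2 c.2 hvw]
  · -- non-adjacent: six common neighbours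
    intro v w hne hvw
    rcases v with _ | a | b <;> rcases w with _ | a' | c
    · exact absurd rfl hne
    · exact absurd (adj_none_point a') hvw
    · rw [card_vertex_set _ False (fun a => a ∈ (c : Finset α)) (fun _ => False)
        (by simp [SimpleGraph.mem_commonNeighbors]) (by simp [SimpleGraph.mem_commonNeighbors])
        (by simp [SimpleGraph.mem_commonNeighbors])]
      simp [hB.1 c c.2]
    · exact absurd (adj_point_none a) hvw
    · have haa : a ≠ a' := fun h => hne (by rw [h])
      rw [card_vertex_set _ True (fun _ => False) (fun d => a ∈ d ∧ a' ∈ d)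
        (by simp [SimpleGraph.mem_commonNeighbors]) (by simp [SimpleGraph.mem_commonNeighbors])
        (by simp [SimpleGraph.mem_commonNeighbors])]
      simp [through_pair_3_6_22 hα hB haa]
    · rw [adj_point_block] at hvw
      rw [card_vertex_set _ False (fun _ => False) (fun d => a ∈ d ∧ Disjoint (c : Finset α) d)
        (by simp [SimpleGraph.mem_commonNeighbors]) (by simp [SimpleGraph.mem_commonNeighbors])
        (by intro d hd; simp [SimpleGraph.mem_commonNeighbors, hBB])]
      simp [through_point_disjoint_3_6_22 hα hB c.2 hvw]
    · rw [card_vertex_set _ False (fun a => a ∈ (b : Finset α)) (fun _ => False)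
        (by simp [SimpleGraph.mem_commonNeighbors]) (by simp [SimpleGraph.mem_commonNeighbors])
        (by simp [SimpleGraph.mem_commonNeighbors])]
      simp [hB.1 b b.2]
    · rw [adj_block_point] at hvw
      rw [card_vertex_set _ False (fun _ => False) (fun d => a' ∈ d ∧ Disjoint (b : Finset α) d)
        (by simp [SimpleGraph.mem_commonNeighbors]) (by simp [SimpleGraph.mem_commonNeighbors])
        (by intro d hd; simp [SimpleGraph.mem_commonNeighbors, hBB, and_comm])]
      simp [through_point_disjoint_3_6_22 hα hB b.2 hvw]
    · rw [hBB] at hvw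
      have hne' : (b : Finset α) ≠ (c : Finset α) := fun h => hne (by rw [Subtype.ext h])
      obtain ⟨h2, h4⟩ := disjoint_both_of_not_disjoint hα hB b.2 c.2 hne' hvw
      rw [card_vertex_set _ False (fun a => a ∈ (b : Finset α) ∩ (c : Finset α))
        (fun d => Disjoint (b : Finset α) d ∧ Disjoint (c : Finset α) d)
        (by simp [SimpleGraph.mem_commonNeighbors])
        (by simp [SimpleGraph.mem_commonNeighbors])
        (by intro d hd; simp [SimpleGraph.mem_commonNeighbors, hBB])]
      rw [Finset.filter_univ_mem, h2, h4]
      simp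

end Cfsg.Agent.S0428
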