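-- Statement S0414: the automorphism group of any S(3,6,22).
import Cfsg.Statements.S0414
import Cfsg.Agent.S0410
import Cfsg.Agent.S0363
import Cfsg.Agent.S0366
import Cfsg.Agent.S0369
import Cfsg.Agent.S0378
import Cfsg.Agent.S0379
import Cfsg.Agent.Lib.Helper8.Aut22Golay
import Mathlib

set_option autoImplicit false
open Cfsg

namespace Cfsg.Agent.S0414

open Cfsg.Agent.Helper8

/-- Aut of an S(3, 6, 22) has order 887040, is 3-transitive, and contains a simple subgroup of index 2. -/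
theorem result {α : Type*} [Fintype α] [DecidableEq α] (hα : Fintype.card α = 22) {B : Set (Finset α)} (hB : Cfsg.IsSteinerSystem 3 6 B) : Nat.card (Cfsg.setSystemAut B) = 887040 ∧ MulAction.IsMultiplyPretransitive (Cfsg.setSystemAut B) α 3 ∧ ∃ H : Subgroup (Cfsg.setSystemAut B), H.index = 2 ∧ Cfsg.IsM22 H := by
  have h24 : Fintype.card Cfsg.GolayPt = 24 := by decide
  have hOct := Cfsg.Agent.S0363.result
  have hne : (some 0 : Cfsg.GolayPt) ≠ none := by simp
  have hX₀ : Fintype.card {a : Cfsg.GolayPt // a ≠ none} = 23 := card_subtype_ne none 23 h24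
  have hY₀ : Fintype.card {x : {a : Cfsg.GolayPt // a ≠ none} // x ≠ ⟨some 0, hne⟩} = 22 :=
    card_subtype_ne _ 22 hX₀
  have hD₁ : IsSteinerSystem 4 7 (dLines Cfsg.octads (none : Cfsg.GolayPt)) :=
    Cfsg.Agent.S0351.result (t := 4) (k := 7) hOct none
  have hD₂ : IsSteinerSystem 3 6
      (dLines (dLines Cfsg.octads (none : Cfsg.GolayPt)) ⟨some 0, hne⟩) :=
    Cfsg.Agent.S0351.result (t := 3) (k := 6) hD₁ _
  obtain ⟨e, he⟩ := Cfsg.Agent.S0410.result hα hY₀ hB hD₂
  have key : ∀ (G : Subgroup (Equiv.Perm Cfsg.GolayPt)), G = Cfsg.setSystemAut Cfsg.octads →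
      Nat.card ↥(MulAction.stabilizer G (none : Cfsg.GolayPt) ⊓
        MulAction.stabilizer G (some 0 : Cfsg.GolayPt)) = 443520 →
      IsSimpleGroup ↥(MulAction.stabilizer G (none : Cfsg.GolayPt) ⊓
        MulAction.stabilizer G (some 0 : Cfsg.GolayPt)) →
      MulAction.IsMultiplyPretransitive G Cfsg.GolayPt 5 →
      (Nat.card (stab2 Cfsg.octads none ⟨some 0, hne⟩) = 443520 ∧
        IsSimpleGroup (stab2 Cfsg.octads none ⟨some 0, hne⟩) ∧
        MulAction.IsMultiplyPretransitive (Cfsg.setSystemAut Cfsg.octads) Cfsg.GolayPt 5) := by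
    rintro G rfl h1 h2 h3
    exact ⟨h1, h2, h3⟩
  obtain ⟨hc, hs, ht⟩ := key Cfsg.M24 Cfsg.Agent.S0369.result
    (Cfsg.Agent.S0378.result none (some 0) hne.symm)
    (Cfsg.Agent.S0379.result none (some 0) hne.symm) Cfsg.Agent.S0366.result
  obtain ⟨h1, h2, H, hH2, hHs, hHc⟩ := aut22_of_golay h24 hOct none ⟨some 0, hne⟩ hc hs ht
  refine ⟨?_, pretransitive_of_iso e he 3 h2, ?_⟩
  · rw [Nat.card_congr (autCongr e he).toEquiv, h1]
  · refine ⟨H.map ((autCongr e he).symm : _ →* _), ?_, ?_, ?_⟩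
    · rw [Subgroup.index_map_equiv, hH2]
    · exact ((autCongr e he).symm.subgroupMap H).symm.isSimpleGroup
    · rw [← Nat.card_congr ((autCongr e he).symm.subgroupMap H).toEquiv, hHc]

end Cfsg.Agent.S0414
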