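import Cfsg.Statements.S2550
import Mathlib
import Cfsg.Agent.Lib.Helper5.SLCard
import Cfsg.Agent.Lib.Helper42.GLTwoMore
import Cfsg.Agent.Lib.Helper42.PSL34

set_option autoImplicit false
open Cfsg

namespace Cfsg.Agent.S2550

open Cfsg.Agent.Helper42

theorem card_psl42 {F : Type*} [Field F] [Fintype F] (hF : Fintype.card F = 2) :
    Nat.card (Matrix.ProjectiveSpecialLinearGroup (Fin 4) F) = 20160 := by
  have h := Cfsg.Agent.Helper5.card_PSL_mul hF 4 (by norm_num)
  simp only [Fin.prod_univ_four] at h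
  norm_num at h
  exact h

theorem card_psl34 {K : Type*} [Field K] [Fintype K] (hK : Fintype.card K = 4) :
    Nat.card (Matrix.ProjectiveSpecialLinearGroup (Fin 3) K) = 20160 := by
  have h := Cfsg.Agent.Helper5.card_PSL_mul hK 3 (by norm_num)
  simp only [Fin.prod_univ_three] at h
  norm_num at h
  omega

/-- Let F be a field with 2 elements and K a field with 4 elements. PSL_4(F) and PSL_3(K) have the same order (20160) but are not isomorphic. -/
theorem result {F K : Type*} [Field F] [Fintype F] [Field K] [Fintype K] (hF : Fintype.card F = 2) (hK : Fintype.card K = 4) : Nat.card (Matrix.ProjectiveSpecialLinearGroup (Fin 4) F) = Nat.card (Matrix.ProjectiveSpecialLinearGroup (Fin 3) K) ∧ ¬ Nonempty (Matrix.ProjectiveSpecialLinearGroup (Fin 4) F ≃* Matrix.ProjectiveSpecialLinearGroup (Fin 3) K) := by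
  refine ⟨by rw [card_psl42 hF, card_psl34 hK], ?_⟩
  rintro ⟨e⟩
  obtain ⟨f, hf⟩ := exists_end_order_six hF
  obtain ⟨x, hx⟩ := exists_psl_orderOf_eq hF 4 (by norm_num) f (by rw [hf]; norm_num)
  exact psl34_orderOf_ne_six hK (e x) (by rw [MulEquiv.orderOf_eq, hx, hf])

end Cfsg.Agent.S2550
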