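import Cfsg.Statements.S4448
import Cfsg.Agent.Lib.Helper81.CharGoingUp

set_option autoImplicit false
set_option linter.style.haveILetI false
open Cfsg

namespace Cfsg.Agent.S4448

/-- Inside a finite group Γ let S normalise G and also normalise a normal subgroup N of G, with the order of S coprime to the index of N in G and G/N solvable. Then for every S-invariant irreducible character ϑ of N, the induced character ϑ^G has an S-invariant irreducible constituent. -/
theorem result {Γ : Type*} [Group Γ] [Fintype Γ] (G S N : Subgroup Γ) [Fintype G] [Fintype N] (hnorm : ∀ s ∈ S, ∀ g ∈ G, s * g * s⁻¹ ∈ G) (hNG : N ≤ G) [hNn : (N.subgroupOf G).Normal] (hNS : ∀ s ∈ S, ∀ n ∈ N, s * n * s⁻¹ ∈ N) (hcop : (N.relIndex G).Coprime (Nat.card S)) (hsolv : Group.IsSolvable (G ⧸ N.subgroupOf G)) (θ : Cfsg.IrrCharacter N) (hinv : (∀ s ∈ S, ∀ g g' : N, (g' : Γ) = s * g * s⁻¹ → (θ : N → ℂ) g' = (θ : N → ℂ) g)) : ∃ χ : Cfsg.IrrCharacter G, Cfsg.classInner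 (fun n : N => (χ : G → ℂ) ⟨n, hNG n.2⟩) (θ : N → ℂ) ≠ 0 ∧ (∀ s ∈ S, ∀ g g' : G, (g' : Γ) = s * g * s⁻¹ → (χ : G → ℂ) g' = (χ : G → ℂ) g) := by
  classical
  -- the action of `S` on `G` by conjugation
  have hnorm' : ∀ (s : S) (g : G), (s : Γ)⁻¹ * g * s ∈ G := by
    intro s g
    have := hnorm (s : Γ)⁻¹ (S.inv_mem s.2) g g.2
    rwa [inv_inv] at this
  let σ : S →* MulAut G :=
    { toFun := fun s =>
        { toFun := fun g => ⟨(s : Γ) * g * (s : Γ)⁻¹, hnorm s s.2 g g.2⟩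
          invFun := fun g => ⟨(s : Γ)⁻¹ * g * s, hnorm' s g⟩
          left_inv := fun g => Subtype.ext (by simp [mul_assoc])
          right_inv := fun g => Subtype.ext (by simp [mul_assoc])
          map_mul' := fun a b => Subtype.ext (by simp [mul_assoc]) }
      map_one' := by
        apply MulEquiv.ext
        intro g
        apply Subtype.ext
        simp
      map_mul' := by
        intro s t
        apply MulEquiv.ext
        intro g
        apply Subtype.ext
        simp [mul_assoc] }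
  have hσ : ∀ (s : S) (g : G), ((σ s g : G) : Γ) = (s : Γ) * g * (s : Γ)⁻¹ := fun _ _ => rfl
  set N' : Subgroup G := N.subgroupOf G with hN'
  haveI : Fintype N' := Fintype.ofFinite N'
  have hNσ : ∀ (s : S), ∀ n ∈ N', σ s n ∈ N' := by
    intro s n hn
    rw [hN', Subgroup.mem_subgroupOf] at hn ⊢
    rw [hσ]
    exact hNS s s.2 n hn
  have hcop' : N'.index.Coprime (Nat.card S) := hcop
  let ι : N' ≃* N := Subgroup.subgroupOfEquivOfLe hNG
  have hι : ∀ n' : N', ((ι n' : N) : Γ) = ((n' : G) : Γ) := fun _ => rfl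
  have hθ' : Cfsg.IsIrrCharacter N' (fun x : N' => (θ : N → ℂ) (ι x)) :=
    Cfsg.Agent.Helper81.isIrrCharacter_comp_equiv ι θ.2
  have hθ'inv : ∀ (s : S) (n : N') (h : σ s n ∈ N'),
      (fun x : N' => (θ : N → ℂ) (ι x)) ⟨σ s n, h⟩ = (fun x : N' => (θ : N → ℂ) (ι x)) n := by
    intro s n h
    show (θ : N → ℂ) (ι ⟨σ s n, h⟩) = (θ : N → ℂ) (ι n)
    apply hinv s s.2 (ι n) (ι ⟨σ s n, h⟩)
    rw [hι, hι]
    exact hσ s n
  obtain ⟨χ, hχ, hne, hχσ⟩ :=
    Cfsg.Agent.Helper81.exists_invariant_over_aux (S := S) _ G σ N' rfl hNσ hcop' hsolv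
      (fun x : N' => (θ : N → ℂ) (ι x)) hθ' hθ'inv
  refine ⟨⟨χ, hχ⟩, ?_, ?_⟩
  · have h1 := Cfsg.Agent.Helper81.classInner_comp_equiv ι
      (fun n : N => χ ⟨n, hNG n.2⟩) (θ : N → ℂ)
    have h3 : (fun x : N' => (fun n : N => χ ⟨n, hNG n.2⟩) (ι x)) =
        fun n' : N' => χ n' := by
      funext x
      rfl
    rw [h3] at h1
    show Cfsg.classInner (fun n : N => χ ⟨n, hNG n.2⟩) (θ : N → ℂ) ≠ 0
    rw [← h1]
    exact hne
  · intro s hs g g' hgg'
    show χ g' = χ g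
    rw [← hχσ ⟨s, hs⟩ g]
    congr 1
    apply Subtype.ext
    rw [hσ]
    exact hgg'

end Cfsg.Agent.S4448
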