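import Cfsg.Statements.S4718
-- import your own Cfsg.Agent.* helpers here
import Cfsg.Agent.S4494
import Cfsg.Agent.Lib.Helper76.Landau
import Cfsg.Agent.Lib.Helper80.CharBasic
import Cfsg.Agent.Lib.Helper80.FrobSchur
import Cfsg.Agent.Lib.Helper77.BlockIdem

set_option autoImplicit false
set_option linter.style.haveILetI false
universe u
open Cfsg

namespace Cfsg.Agent.S4718

/-- Let p be a prime and a a natural number. There is a bound N such that every finite group whose Sylow p-subgroups have order p^a and whose only p-block (relative to a maximal ideal of the algebraic integers containing p) is the principal block has order at most N. -/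
theorem result (p : ℕ) [Fact p.Prime] (a : ℕ) : ∃ N : ℕ, ∀ (G : Type u) [Group G] [Finite G] (M : Ideal Cfsg.AlgInt), Cfsg.IsPModular p M → (Nat.card G).factorization p = a → (∀ B : Set (Cfsg.IrrCharacter G), Cfsg.IsPBlock M B → B = Cfsg.principalBlock M G) → Nat.card G ≤ N := by
  classical
  obtain ⟨N, hN⟩ := Cfsg.Agent.Helper76.Landau.card_le_of_card_conjClasses.{u} (p ^ (2 * a) / 4 + 1)
  refine ⟨N, ?_⟩
  intro G _ _ M hM ha hone
  apply hN
  rw [← Cfsg.Agent.Helper80.card_irr]
  haveI hpr := Cfsg.Agent.Helper77.isPrime_of_isPModular hM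
  let χ₀ : Cfsg.IrrCharacter G := Cfsg.Agent.Helper80.trivialIrr G
  let B : Set (Cfsg.IrrCharacter G) := Cfsg.blockOf M (χ₀ : G → ℂ)
  have hB : Cfsg.IsPBlock M B := Cfsg.Agent.Helper77.isPBlock_blockOf χ₀
  have huniv : B = Set.univ := by
    apply Set.eq_univ_of_forall
    intro χ
    have h1 : Cfsg.blockOf M (χ : G → ℂ) = B := by
      rw [hone _ (Cfsg.Agent.Helper77.isPBlock_blockOf χ), hone B hB]
    rw [← h1]
    exact Cfsg.Agent.Helper77.mem_blockOf_self χ
  have hbf := Cfsg.Agent.S4494.result p M hM B hB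
  have hcard : Nat.card B = Nat.card (Cfsg.IrrCharacter G) := by
    rw [huniv]
    exact Nat.card_congr (Equiv.Set.univ _)
  have hd : Cfsg.blockDefect p B ≤ a := by
    unfold Cfsg.blockDefect
    rw [ha]
    exact Nat.sub_le _ _
  have hp : 0 < p := (Fact.out : p.Prime).pos
  have hpow : p ^ (2 * Cfsg.blockDefect p B) ≤ p ^ (2 * a) :=
    Nat.pow_le_pow_right hp (by omega)
  rw [hcard] at hbf
  omega

end Cfsg.Agent.S4718
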