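import Cfsg.Statements.S1902
import Cfsg.Agent.S1302
import Cfsg.Agent.Lib.Helper54.PSolv
import Cfsg.Agent.Lib.Helper54.Solv

set_option autoImplicit false
open Cfsg
open scoped Pointwise

namespace Cfsg.Agent.S1902

/-- a finite `p`-solvable group is `p`-constrained -/
theorem isPConstrained_of_isPSolvable {G : Type*} [Group G] [Finite G] {p : ℕ} [Fact p.Prime]
    (hG : Cfsg.IsPSolvable p G) : Cfsg.IsPConstrained p G := by
  haveI : (Cfsg.pPrimeCore p G).Normal := Cfsg.Agent.Helper54.pPrimeCore_normal' p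
  exact Cfsg.Agent.Helper54.isPConstrained_iff_isCharP_quotient.mpr
    (Cfsg.Agent.Helper54.centralizer_pCore_le_of_isPSolvable
      (Cfsg.Agent.Helper54.IsPSolvable.quotient hG _)
      (Cfsg.Agent.Helper54.pPrimeCore_quotient_eq_bot p))

/-- Let p be an odd prime, G a finite p-solvable group, and B an elementary abelian subgroup of order p² such that B is the subgroup generated by the elements of order p of some Sylow p-subgroup of C_G(b₀), for some nontrivial b₀ ∈ B. Then every B-invariant subgroup of G of order prime to p lies in O_{p'}(G). -/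
theorem result {G : Type*} [Group G] [Finite G] {p : ℕ} [Fact p.Prime] (hp : p ≠ 2)
    (hG : Cfsg.IsPSolvable p G) (B : Subgroup G) (hB : Cfsg.IsElementaryAbelian p B) (hBc : Nat.card B = p ^ 2)
    (b₀ : G) (hb₀ : b₀ ∈ B) (hb₁ : b₀ ≠ 1) (P : Sylow p ↥(Subgroup.centralizer ({b₀} : Set G)))
    (hBP : B = Subgroup.closure {x : G | x ∈ ((P : Subgroup ↥(Subgroup.centralizer ({b₀} : Set G))).map
      (Subgroup.centralizer ({b₀} : Set G)).subtype : Subgroup G) ∧ orderOf x = p})
    (Q : Subgroup G) (hQ : ¬ p ∣ Nat.card Q) (hinv : ∀ b ∈ B, ∀ x ∈ Q, b * x * b⁻¹ ∈ Q) :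
    Q ≤ Cfsg.pPrimeCore p G := by
  classical
  have hpp : p.Prime := Fact.out
  obtain ⟨hBcomm, hBexp⟩ := hB
  have hBp : IsPGroup p B := IsPGroup.of_card hBc
  have hcomm : ∀ a ∈ B, ∀ b ∈ B, a * b = b * a := by
    intro a ha b hb
    have := mul_comm' (⟨a, ha⟩ : ↥B) ⟨b, hb⟩
    exact congrArg Subtype.val this
  have hord : ∀ b ∈ B, b ≠ 1 → orderOf b = p := fun b hb hb1 => orderOf_eq_prime (hBexp b hb) hb1
  have hBQ : B ≤ Subgroup.normalizer (Q : Set G) := by
    intro b hb
    rw [Subgroup.mem_normalizer_iff]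
    intro x
    refine ⟨hinv b hb x, fun h => ?_⟩
    have := hinv b⁻¹ (B.inv_mem hb) _ h
    simpa [mul_assoc] using this
  apply Cfsg.Agent.S1302.result p hp (isPConstrained_of_isPSolvable hG) B hBcomm hBp ?_ Q hQ hBQ
  -- every element of order `p` centralizing `B` lies in `B`
  intro x hx hxord
  have hxC : x ∈ (Subgroup.centralizer ({b₀} : Set G)) := by
    rw [Subgroup.mem_centralizer_iff]
    intro y hy
    rw [Set.mem_singleton_iff] at hy
    rw [hy]
    exact (Subgroup.mem_centralizer_iff.mp hx) b₀ hb₀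
  have hBC : B ≤ (Subgroup.centralizer ({b₀} : Set G)) := by
    intro b hb
    rw [Subgroup.mem_centralizer_iff]
    intro y hy
    rw [Set.mem_singleton_iff] at hy
    rw [hy]
    exact hcomm b₀ hb₀ b hb
  have hxp : IsPGroup p (Subgroup.zpowers x) := by
    apply IsPGroup.of_card (n := 1)
    rw [Nat.card_zpowers, hxord, pow_one]
  have hxn : Subgroup.zpowers x ≤ Subgroup.normalizer (B : Set G) := by
    rw [Subgroup.zpowers_le]
    exact Subgroup.centralizer_le_normalizer _ hx
  have hTp : IsPGroup p (Subgroup.zpowers x ⊔ B : Subgroup G) := hxp.to_sup_of_normal_right' hBp hxn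
  have hTC : Subgroup.zpowers x ⊔ B ≤ (Subgroup.centralizer ({b₀} : Set G)) := sup_le (by rw [Subgroup.zpowers_le]; exact hxC) hBC
  have hT'p : IsPGroup p ((Subgroup.zpowers x ⊔ B).subgroupOf (Subgroup.centralizer ({b₀} : Set G))) := hTp.comap_subtype
  obtain ⟨S', hS'⟩ := hT'p.exists_le_sylow
  obtain ⟨g, hg⟩ := MulAction.exists_smul_eq ↥(Subgroup.centralizer ({b₀} : Set G)) P S'
  -- elements of order `p` of `T` lie in the conjugate of `B`
  have key : ∀ y ∈ (Subgroup.zpowers x ⊔ B : Subgroup G), orderOf y = p →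
      y ∈ B.map (MulAut.conj (g : G)).toMonoidHom := by
    intro y hy hyord
    have h1 : (⟨y, hTC hy⟩ : ↥(Subgroup.centralizer ({b₀} : Set G))) ∈ S' := hS' (by rw [Subgroup.mem_subgroupOf]; exact hy)
    rw [← hg] at h1
    have h1' : (⟨y, hTC hy⟩ : ↥(Subgroup.centralizer ({b₀} : Set G))) ∈ MulAut.conj g • (P : Subgroup ↥(Subgroup.centralizer ({b₀} : Set G))) := h1
    rw [Subgroup.mem_smul_pointwise_iff_exists] at h1'
    have h1 := h1'
    obtain ⟨s, hsP, hsy⟩ := h1
    rw [MulAut.smul_def, MulAut.conj_apply] at hsy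
    have hsy' : (g : G) * (s : G) * (g : G)⁻¹ = y := by
      have := congrArg Subtype.val hsy
      simpa using this
    have hsord : orderOf (s : G) = p := by
      rw [← hyord, ← hsy']
      have := (MulAut.conj (g : G)).orderOf_eq (s : G)
      rw [MulAut.conj_apply] at this
      exact this.symm
    have hsB : (s : G) ∈ B := by
      rw [hBP]
      apply Subgroup.subset_closure
      exact ⟨⟨s, SetLike.mem_coe.mp hsP, rfl⟩, hsord⟩
    exact ⟨(s : G), hsB, by simpa [MulAut.conj_apply] using hsy'⟩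
  have hle : B ≤ B.map (MulAut.conj (g : G)).toMonoidHom := by
    intro b hb
    by_cases hb1 : b = 1
    · rw [hb1]; exact Subgroup.one_mem _
    · exact key b (Subgroup.mem_sup_right hb) (hord b hb hb1)
  have hcard : Nat.card (B.map (MulAut.conj (g : G)).toMonoidHom) = Nat.card B :=
    Subgroup.card_map_of_injective (MulAut.conj (g : G)).injective
  have heq : B = B.map (MulAut.conj (g : G)).toMonoidHom :=
    Subgroup.eq_of_le_of_card_ge hle hcard.le
  rw [heq]
  exact key x (Subgroup.mem_sup_left (Subgroup.mem_zpowers x)) hxord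

end Cfsg.Agent.S1902
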