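import Mathlib
import Cfsg.Statements.S1529
import Cfsg.Agent.Lib.Helper82.GenChar

set_option autoImplicit false
open Cfsg

namespace Cfsg.Agent.S1529

open Cfsg.Agent.Helper81 Cfsg.Agent.Helper82

/-- Let N be a subgroup of the finite group G, S a set of irreducible characters of N with at least two members, and τ₁ a linear isometry on the integer combinations of S with virtual-character values such that τ₁ α vanishes at 1 whenever α ∈ ℤ[S] does. Then there is ε ∈ {1, −1} such that ε • τ₁ χ is an irreducible character of G for every χ ∈ S, and distinct members of S give distinct characters. -/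
theorem result {G : Type*} [Group G] [Fintype G] (N : Subgroup G) [Fintype N] (S : Set (N → ℂ)) (hirr : ∀ χ ∈ S, Cfsg.IsIrrCharacter N χ) (htwo : ∃ χ ∈ S, ∃ ψ ∈ S, χ ≠ ψ) (τ₁ : (N → ℂ) → (G → ℂ)) (hτ₁ : Cfsg.IsLinearIsometryOn (Cfsg.zspan S) τ₁) (h0 : ∀ α ∈ Cfsg.zspan S, α 1 = 0 → τ₁ α 1 = 0) : ∃ ε : ℂ, (ε = 1 ∨ ε = -1) ∧ (∀ χ ∈ S, Cfsg.IsIrrCharacter G (ε • τ₁ χ)) ∧ (∀ χ ∈ S, ∀ ψ ∈ S, τ₁ χ = τ₁ ψ → χ = ψ) := by
  classical
  obtain ⟨hadd, hsmul, hiso, hgen⟩ := hτ₁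
  have hmem : ∀ χ ∈ S, χ ∈ Cfsg.zspan S := fun χ hχ => Submodule.subset_span hχ
  have hsm : ∀ χ ∈ S, ∀ n : ℤ, n • χ ∈ Cfsg.zspan S := fun χ hχ n =>
    Submodule.smul_mem _ n (Submodule.subset_span hχ)
  -- each image is irreducible up to sign
  have hpm : ∀ χ ∈ S, IsIrrCharacter G (τ₁ χ) ∨ IsIrrCharacter G (-τ₁ χ) := by
    intro χ hχ
    apply genChar_norm_one (hgen χ (hmem χ hχ))
    rw [hiso χ (hmem χ hχ) χ (hmem χ hχ), irr_orthonormal (hirr χ hχ) (hirr χ hχ), if_pos rfl]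
  -- sign comparison
  have hkey : ∀ χ ∈ S, ∀ ψ ∈ S, IsIrrCharacter G (τ₁ χ) → IsIrrCharacter G (-τ₁ ψ) → False := by
    intro χ hχ ψ hψ h1 h2
    obtain ⟨nχ, hnχ, hχ1⟩ := irr_degree_pos (hirr χ hχ)
    obtain ⟨nψ, hnψ, hψ1⟩ := irr_degree_pos (hirr ψ hψ)
    obtain ⟨a, ha, ha1⟩ := irr_degree_pos h1
    obtain ⟨b, hb, hb1⟩ := irr_degree_pos h2
    have hα : ((nψ : ℤ) • χ + (-(nχ : ℤ)) • ψ) ∈ Cfsg.zspan S :=
      Submodule.add_mem _ (hsm χ hχ _) (hsm ψ hψ _)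
    have hα1 : ((nψ : ℤ) • χ + (-(nχ : ℤ)) • ψ) 1 = 0 := by
      rw [Pi.add_apply, Pi.smul_apply, Pi.smul_apply, hχ1, hψ1, zsmul_eq_mul, zsmul_eq_mul]
      push_cast
      ring
    have h3 := h0 _ hα hα1
    rw [hadd _ (hsm χ hχ _) _ (hsm ψ hψ _), hsmul χ (hmem χ hχ), hsmul ψ (hmem ψ hψ)] at h3
    have hb1' : τ₁ ψ 1 = -(b : ℂ) := by
      have : (-τ₁ ψ) 1 = (b : ℂ) := hb1
      rw [Pi.neg_apply] at this
      rw [← this]; ring
    rw [Pi.add_apply, Pi.smul_apply, Pi.smul_apply, ha1, hb1', zsmul_eq_mul, zsmul_eq_mul] at h3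
    push_cast at h3
    have h4 : ((nψ * a + nχ * b : ℕ) : ℂ) = 0 := by
      push_cast
      linear_combination h3
    have h5 : nψ * a + nχ * b = 0 := by exact_mod_cast h4
    have : 0 < nψ * a := Nat.mul_pos hnψ ha
    omega
  obtain ⟨χ₀, hχ₀, -, -, -⟩ := htwo
  have hinj : ∀ χ ∈ S, ∀ ψ ∈ S, τ₁ χ = τ₁ ψ → χ = ψ := by
    intro χ hχ ψ hψ h
    have h1 := hiso χ (hmem χ hχ) ψ (hmem ψ hψ)
    rw [← h, hiso χ (hmem χ hχ) χ (hmem χ hχ), irr_orthonormal (hirr χ hχ) (hirr χ hχ),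
      if_pos rfl, irr_orthonormal (hirr χ hχ) (hirr ψ hψ)] at h1
    by_contra hne
    rw [if_neg hne] at h1
    exact one_ne_zero h1
  rcases hpm χ₀ hχ₀ with h | h
  · refine ⟨1, Or.inl rfl, ?_, hinj⟩
    intro χ hχ
    rw [one_smul]
    rcases hpm χ hχ with h' | h'
    · exact h'
    · exact (hkey χ₀ hχ₀ χ hχ h h').elim
  · refine ⟨-1, Or.inr rfl, ?_, hinj⟩
    intro χ hχ
    have : (-1 : ℂ) • τ₁ χ = -τ₁ χ := by ext g; simp
    rw [this]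
    rcases hpm χ hχ with h' | h'
    · exact (hkey χ hχ χ₀ hχ₀ h' h).elim
    · exact h'

end Cfsg.Agent.S1529
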