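import Cfsg.Statements.S0013
import Mathlib

set_option autoImplicit false
open Cfsg
open scoped commutatorElement

namespace Cfsg.Agent.S0013

theorem mem_frattini_iff {P : Type*} [Group P] (x : P) :
    x ∈ frattini P ↔ ∀ M : Subgroup P, IsCoatom M → x ∈ M := by
  simp [frattini, Order.radical, Subgroup.mem_iInf]

/-- In a finite commutative group of prime exponent, a nontrivial element is avoided by some
maximal subgroup. -/
theorem exists_coatom_not_mem {Q : Type*} [CommGroup Q] [Finite Q] {p : ℕ} [Fact p.Prime]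
    (hexp : ∀ a : Q, a ^ p = 1) (x : Q) (hx : x ≠ 1) : ∃ M : Subgroup Q, IsCoatom M ∧ x ∉ M := by
  have hfin : {H : Subgroup Q | x ∉ H}.Finite := Set.toFinite _
  have hbot : (⊥ : Subgroup Q) ∈ {H : Subgroup Q | x ∉ H} := by
    simpa [Subgroup.mem_bot] using hx
  obtain ⟨M, -, hMmax⟩ := hfin.exists_le_maximal hbot
  have hxM : x ∉ M := hMmax.prop
  refine ⟨M, ⟨?_, ?_⟩, hxM⟩
  · intro h; exact hxM (h ▸ Subgroup.mem_top x)
  · intro K hK
    have hxK : x ∈ K := by
      by_contra hcon
      exact absurd (hMmax.le_of_ge (show K ∈ {H : Subgroup Q | x ∉ H} from hcon) hK.le) hK.not_ge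
    rw [eq_top_iff]
    intro y _
    by_cases hyM : y ∈ M
    · exact hK.le hyM
    · have hlt : M < M ⊔ Subgroup.zpowers y := by
        apply lt_of_le_of_ne le_sup_left
        intro h
        apply hyM
        rw [h]
        exact (le_sup_right : Subgroup.zpowers y ≤ _) (Subgroup.mem_zpowers y)
      have hx' : x ∈ M ⊔ Subgroup.zpowers y := by
        by_contra hcon
        exact absurd (hMmax.le_of_ge
          (show M ⊔ Subgroup.zpowers y ∈ {H : Subgroup Q | x ∉ H} from hcon) hlt.le) hlt.not_ge
      obtain ⟨m, hm, z, hz, hmz⟩ := Subgroup.mem_sup.mp hx'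
      obtain ⟨a, rfl⟩ := Subgroup.mem_zpowers_iff.mp hz
      have hya : y ^ a ∈ K := by
        have : y ^ a = m⁻¹ * x := by rw [← hmz]; group
        rw [this]
        exact K.mul_mem (K.inv_mem (hK.le hm)) hxK
      have hpa : ¬ (p : ℤ) ∣ a := by
        rintro ⟨c, rfl⟩
        apply hxM
        rw [← hmz, zpow_mul, zpow_natCast, hexp, one_zpow, mul_one]
        exact hm
      have hcop : IsCoprime a (p : ℤ) := by
        have hp : Prime (p : ℤ) := Nat.prime_iff_prime_int.mp (Fact.out : p.Prime)
        exact ((hp.coprime_iff_not_dvd).mpr hpa).symm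
      obtain ⟨u, v, huv⟩ := hcop
      have : y = (y ^ a) ^ u := by
        have h1 : y ^ (u * a + v * (p : ℤ)) = y := by rw [huv, zpow_one]
        rw [zpow_add, mul_comm v, zpow_mul y (p : ℤ), zpow_natCast, hexp, one_zpow, mul_one] at h1
        rw [← zpow_mul, mul_comm a u, h1]
      rw [this]
      exact K.zpow_mem hya u

/-- In a finite p-group the Frattini subgroup is the smallest normal subgroup with elementary abelian quotient: it lies below any normal subgroup containing all commutators and all p-th powers. -/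
theorem result {G : Type*} [Group G] [Finite G] (p : ℕ) [Fact p.Prime]
    (hG : IsPGroup p G) (N : Subgroup G) [N.Normal] (hcomm : commutator G ≤ N) (hpow : ∀ x : G, x ^ p ∈ N) :
    frattini G ≤ N := by
  have hc : ∀ a b : G ⧸ N, a * b = b * a := by
    intro a b
    induction a using QuotientGroup.induction_on with | _ x => ?_
    induction b using QuotientGroup.induction_on with | _ y => ?_
    rw [← QuotientGroup.mk_mul, ← QuotientGroup.mk_mul, QuotientGroup.eq]
    apply hcomm
    have h2 : (x * y)⁻¹ * (y * x) = ⁅y⁻¹, x⁻¹⁆ := by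
      simp [commutatorElement_def, mul_assoc]
    rw [h2]
    exact Subgroup.commutator_mem_commutator (Subgroup.mem_top _) (Subgroup.mem_top _)
  letI : CommGroup (G ⧸ N) := { (inferInstance : Group (G ⧸ N)) with mul_comm := hc }
  have hexp : ∀ a : G ⧸ N, a ^ p = 1 := by
    intro a
    induction a using QuotientGroup.induction_on with | _ x => ?_
    rw [← QuotientGroup.mk_pow, QuotientGroup.eq_one_iff]
    exact hpow x
  intro x hx
  by_contra hxN
  have hx1 : (x : G ⧸ N) ≠ 1 := by
    rwa [Ne, QuotientGroup.eq_one_iff]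
  obtain ⟨M, hM, hxM⟩ := exists_coatom_not_mem hexp (x : G ⧸ N) hx1
  have hM' : IsCoatom (M.comap (QuotientGroup.mk' N)) :=
    Subgroup.isCoatom_comap_of_surjective (QuotientGroup.mk'_surjective N) hM
  have := (mem_frattini_iff x).mp hx _ hM'
  exact hxM this

end Cfsg.Agent.S0013
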