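import Cfsg.Statements.S5299

set_option autoImplicit false
universe u
open Cfsg

namespace Cfsg.Agent.S5299

universe v w x

/-- A "span" `G ←i A f→ H` with `i` injective and `f` surjective shows that `H` is involved in `G`. -/
theorem involves_of_span {H : Type v} [Group H] {G : Type w} [Group G] {A : Type x} [Group A]
    (i : A →* G) (f : A →* H) (hi : Function.Injective i) (hf : Function.Surjective f) :
    Involves H G := by
  -- K = range i, R = image of ker f
  let K : Subgroup G := i.range
  let e : A ≃* K := MonoidHom.ofInjective hi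
  let f' : K →* H := f.comp e.symm.toMonoidHom
  have hf' : Function.Surjective f' := hf.comp e.symm.surjective
  let R : Subgroup G := f'.ker.map K.subtype
  have hR : R.subgroupOf K = f'.ker := by
    ext z
    rw [Subgroup.mem_subgroupOf]
    constructor
    · rintro ⟨y, hy, hyz⟩
      have : y = z := Subtype.ext hyz
      rwa [← this]
    · intro hz
      exact ⟨z, hz, rfl⟩
  have hn : (R.subgroupOf K).Normal := by rw [hR]; infer_instance
  refine ⟨K, R, hn, ⟨?_⟩⟩
  exact (QuotientGroup.quotientMulEquivOfEq hR).trans (QuotientGroup.quotientKerEquivOfSurjective f' hf')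

theorem span_of_involves {H : Type v} [Group H] {G : Type w} [Group G] (h : Involves H G) :
    ∃ (K : Subgroup G) (f : K →* H), Function.Surjective f := by
  obtain ⟨K, R, hn, ⟨e⟩⟩ := h
  refine ⟨K, e.toMonoidHom.comp (QuotientGroup.mk' (R.subgroupOf K)), ?_⟩
  exact e.surjective.comp (QuotientGroup.mk'_surjective _)

/-- a subgroup of an involved group is involved -/
theorem involves_subgroup {H : Type v} [Group H] {G : Type w} [Group G] (h : Involves H G)
    (Q : Subgroup H) : Involves Q G := by
  obtain ⟨K, f, hf⟩ := span_of_involves h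
  refine involves_of_span (K.subtype.comp (Q.comap f).subtype) (f.subgroupComap Q) ?_ ?_
  · exact K.subtype_injective.comp (Q.comap f).subtype_injective
  · exact f.subgroupComap_surjective_of_surjective Q hf

/-- involvement passes along injective homomorphisms -/
theorem involves_of_injective {H : Type v} [Group H] {G : Type w} [Group G] {G' : Type x} [Group G']
    (h : Involves H G) (j : G →* G') (hj : Function.Injective j) : Involves H G' := by
  obtain ⟨K, f, hf⟩ := span_of_involves h
  exact involves_of_span (j.comp K.subtype) f (hj.comp K.subtype_injective) hf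

/-- a `p`-group involved in a finite group is involved in each Sylow `p`-subgroup -/
theorem involves_sylow {p : ℕ} [Fact p.Prime] {Q : Type v} [Group Q] (hQ : IsPGroup p Q)
    {L : Type w} [Group L] [Finite L] (h : Involves Q L) (T : Sylow p L) :
    Involves Q (T : Subgroup L) := by
  obtain ⟨K, f, hf⟩ := span_of_involves h
  -- a Sylow subgroup of K maps onto Q
  obtain ⟨P₀⟩ : Nonempty (Sylow p K) := Sylow.nonempty
  have hP₀ : (P₀ : Subgroup K).map f = ⊤ := by
    have h1 : ((P₀.mapSurjective hf : Sylow p Q) : Subgroup Q) = (P₀ : Subgroup K).map f := rfl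
    rw [← h1]
    exact ((P₀.mapSurjective hf).is_maximal' (hQ.to_subgroup ⊤) le_top).symm
  -- the image of P₀ in L lies in a conjugate of T
  have hp₀ : IsPGroup p ((P₀ : Subgroup K).map K.subtype) := P₀.isPGroup'.map _
  obtain ⟨T', hT'⟩ := hp₀.exists_le_sylow
  obtain ⟨g, hg⟩ := MulAction.exists_smul_eq L T T'
  have hmem : ∀ x : (P₀ : Subgroup K), g⁻¹ * ((x : K) : L) * g ∈ (T : Subgroup L) := by
    intro x
    have hx : ((x : K) : L) ∈ (T' : Subgroup L) := hT' ⟨x, x.2, rfl⟩
    rw [← hg] at hx
    obtain ⟨t, ht, htx⟩ := hx
    have : ((x : K) : L) = g * t * g⁻¹ := htx.symm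
    rw [this]
    have : g⁻¹ * (g * t * g⁻¹) * g = t := by group
    rw [this]
    exact ht
  let i : (P₀ : Subgroup K) →* (T : Subgroup L) :=
    { toFun := fun x => ⟨g⁻¹ * ((x : K) : L) * g, hmem x⟩
      map_one' := by
        apply Subtype.ext
        simp
      map_mul' := by
        intro a b
        apply Subtype.ext
        simp only [Subgroup.coe_mul]
        group }
  have hi : Function.Injective i := by
    intro a b hab
    have h1 : g⁻¹ * ((a : K) : L) * g = g⁻¹ * ((b : K) : L) * g := congrArg Subtype.val hab
    have h2 : ((a : K) : L) = ((b : K) : L) := mul_left_cancel (mul_right_cancel h1)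
    exact Subtype.ext (Subtype.ext h2)
  refine involves_of_span i (f.comp (P₀ : Subgroup K).subtype) hi ?_
  intro q
  have hq : q ∈ (P₀ : Subgroup K).map f := by rw [hP₀]; trivial
  obtain ⟨y, hy, rfl⟩ := hq
  exact ⟨⟨y, hy⟩, rfl⟩

/-- Let F be a saturated fusion system over a finite p-group S, H a finite group and Q a p-subgroup of H. If Q is not involved in S (no section of S is isomorphic to Q), then F is H-free: H is involved in no model of the normalizer system of a fully normalized centric subgroup. -/
theorem result {Ω : Type u} [Group Ω] {S : Subgroup Ω} [Finite S] (p : ℕ) [Fact p.Prime] (hS : IsPGroup p S)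
    (F : Cfsg.FusionSystem S) (hF : F.IsSaturated p) (H : Type*) [Group H] [Finite H] (Q : Subgroup H) (hQ : IsPGroup p Q)
    (hfree : ¬ Cfsg.Involves (↥Q) (↥S)) : F.IsSectionFree p H := by
  intro Q' _ _ N _ L _ ι hmodel hinv
  obtain ⟨hfin, ⟨hinj, -⟩, ⟨T, hT⟩, -⟩ := hmodel
  apply hfree
  have h1 : Involves Q L := involves_subgroup hinv Q
  have h2 : Involves Q (T : Subgroup L) := involves_sylow hQ h1 T
  rw [hT] at h2
  -- ι.range ≃ N_S(Q') ≤ S
  let e : ↥(FusionSystem.normalizerIn S Q') ≃* ι.range := MonoidHom.ofInjective hinj
  have hle : FusionSystem.normalizerIn S Q' ≤ S := inf_le_left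
  let j : ι.range →* S := (Subgroup.inclusion hle).comp e.symm.toMonoidHom
  have hj : Function.Injective j := (Subgroup.inclusion_injective hle).comp e.symm.injective
  exact involves_of_injective h2 j hj

end Cfsg.Agent.S5299
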