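import Cfsg.Statements.S5085
import Cfsg.Agent.Lib.Helper84.FusBasic

set_option autoImplicit false
open Cfsg

namespace Cfsg.Agent.S5085

open Cfsg.Agent.Helper84 Cfsg.FusionSystem

/-- In any fusion system, a characteristic subgroup of a subgroup that is normal in the system is itself normal in the system. -/
theorem result {Ω : Type*} [Group Ω] {S : Subgroup Ω} (F : Cfsg.FusionSystem S) (Q U : Subgroup Ω) (hQ : F.IsNormal Q) (hUQ : U ≤ Q) (hU : (U.subgroupOf Q).Characteristic) : F.IsNormal U := by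
  obtain ⟨hQS, hQ⟩ := hQ
  refine ⟨hUQ.trans hQS, ?_⟩
  intro P φ hφ
  obtain ⟨ψ₀, hψ₀, hext, hmap⟩ := hQ P φ hφ
  have hle : P ⊔ U ≤ P ⊔ Q := sup_le_sup_left hUQ P
  have hinj := F.injective_of_mem hψ₀
  have hQQ : ∀ x : Q, ψ₀ (Subgroup.inclusion le_sup_right x) ∈ Q := by
    intro x
    have : ψ₀ (Subgroup.inclusion le_sup_right x) ∈ (Q.subgroupOf (P ⊔ Q)).map ψ₀ :=
      ⟨Subgroup.inclusion le_sup_right x, by simp [Subgroup.mem_subgroupOf], rfl⟩
    exact hmap.le this
  let α₀ : Q →* Q := (ψ₀.comp (Subgroup.inclusion le_sup_right)).codRestrict Q hQQ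
  have hα₀inj : Function.Injective α₀ := by
    intro a b hab
    have h1 : ψ₀ (Subgroup.inclusion le_sup_right a) = ψ₀ (Subgroup.inclusion le_sup_right b) :=
      congrArg Subtype.val hab
    exact Subgroup.inclusion_injective _ (hinj h1)
  have hα₀surj : Function.Surjective α₀ := by
    intro y
    have hy : (y : Ω) ∈ (Q.subgroupOf (P ⊔ Q)).map ψ₀ := hmap.ge y.2
    obtain ⟨z, hz, hzy⟩ := hy
    refine ⟨⟨z, hz⟩, Subtype.ext ?_⟩
    rw [← hzy]
    rfl
  let α : Q ≃* Q := MulEquiv.ofBijective α₀ ⟨hα₀inj, hα₀surj⟩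
  have hfix := hU.fixed α
  have hiff : ∀ u : Q, (α u : Ω) ∈ U ↔ (u : Ω) ∈ U := by
    intro u
    have := congrArg (fun H : Subgroup Q => u ∈ H) hfix
    simpa [Subgroup.mem_subgroupOf] using this
  refine ⟨ψ₀.comp (Subgroup.inclusion hle), restrict_mem F hψ₀ hle, ?_, ?_⟩
  · intro x
    exact hext x
  · ext y
    constructor
    · rintro ⟨z, hz, rfl⟩
      have hzU : (z : Ω) ∈ U := hz
      have := (hiff ⟨z, hUQ hzU⟩).mpr hzU
      exact this
    · intro hy
      obtain ⟨u, hu⟩ := hα₀surj ⟨y, hUQ hy⟩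
      have huU : (u : Ω) ∈ U := by
        apply (hiff u).mp
        have : α u = ⟨y, hUQ hy⟩ := hu
        rw [this]
        exact hy
      refine ⟨⟨u, (le_sup_right : U ≤ P ⊔ U) huU⟩, huU, ?_⟩
      have := congrArg Subtype.val hu
      exact this

end Cfsg.Agent.S5085
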