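import Cfsg.Statements.S0769
import Mathlib

set_option autoImplicit false
open Cfsg

namespace Cfsg.Agent.S0769

open Matrix

variable {F : Type*} [Field F] {n : ℕ}

theorem det_lower (M : Matrix (Fin n) (Fin n) F) (h : ∀ i j : Fin n, i < j → M i j = 0) :
    M.det = ∏ i, M i i := by
  apply Matrix.det_of_isLowerTriangular
  intro i j hij
  exact h i j (OrderDual.toDual_lt_toDual.mp hij)

/-- entrywise predicate -/
def P (n : ℕ) (F : Type*) [Field F] (ij : Fin n × Fin n) (x : F) : Prop :=
  (ij.1 < ij.2 → x = 0) ∧ (ij.1 = ij.2 → x ≠ 0)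

/-- lower triangular invertible matrices as a pi type with entrywise constraints -/
noncomputable def equivPi :
    {g : Matrix.GeneralLinearGroup (Fin n) F //
      ∀ i j : Fin n, i < j → (g : Matrix (Fin n) (Fin n) F) i j = 0} ≃
    {f : Fin n × Fin n → F // ∀ ij, P n F ij (f ij)} where
  toFun g := ⟨fun ij => g.1.val ij.1 ij.2, by
    rintro ⟨i, j⟩
    refine ⟨fun hij => g.2 i j hij, ?_⟩
    intro hij
    simp only at hij
    subst hij
    have hdet : IsUnit g.1.val.det := (Matrix.isUnit_iff_isUnit_det _).mp g.1.isUnit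
    rw [det_lower g.1.val g.2] at hdet
    have := hdet.ne_zero
    exact (Finset.prod_ne_zero_iff.mp this) i (Finset.mem_univ i)⟩
  invFun f := ⟨Matrix.GeneralLinearGroup.mk'' (Matrix.of fun i j => f.1 (i, j)) (by
      rw [det_lower (Matrix.of fun i j => f.1 (i, j)) (fun i j hij => (f.2 (i, j)).1 hij)]
      apply IsUnit.mk0
      rw [Finset.prod_ne_zero_iff]
      intro i _
      exact (f.2 (i, i)).2 rfl), fun i j hij => (f.2 (i, j)).1 hij⟩
  left_inv g := by
    apply Subtype.ext
    apply Units.ext
    ext i j
    rfl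
  right_inv f := by
    apply Subtype.ext
    funext ij
    rfl

variable [Fintype F]

theorem card_P (ij : Fin n × Fin n) :
    Nat.card {x : F // P n F ij x} =
      (if ij.2 = ij.1 then Fintype.card F - 1 else 1) * (if ij.2 < ij.1 then Fintype.card F else 1) := by
  classical
  obtain ⟨i, j⟩ := ij
  simp only [P]
  rcases lt_trichotomy i j with h | h | h
  · have h1 : ¬ j = i := fun e => by rw [e] at h; exact lt_irrefl _ h
    have h2 : ¬ j < i := fun e => lt_asymm h e
    rw [if_neg h1, if_neg h2, one_mul]
    have : {x : F // (i < j → x = 0) ∧ (i = j → x ≠ 0)} ≃ Unit :=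
      { toFun := fun _ => ()
        invFun := fun _ => ⟨0, fun _ => rfl, fun e => absurd e (ne_of_lt h)⟩
        left_inv := by
          rintro ⟨x, hx⟩
          apply Subtype.ext
          exact (hx.1 h).symm
        right_inv := fun _ => rfl }
    rw [Nat.card_congr this]; simp
  · subst h
    rw [if_pos rfl, if_neg (lt_irrefl _), mul_one]
    have : {x : F // (i < i → x = 0) ∧ (i = i → x ≠ 0)} ≃ {x : F // x ≠ 0} :=
      Equiv.subtypeEquivRight (fun x => by simp)
    rw [Nat.card_congr this, Nat.card_eq_fintype_card, Fintype.card_subtype_compl,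
      Fintype.card_subtype_eq]
  · have h1 : ¬ j = i := fun e => by rw [e] at h; exact lt_irrefl _ h
    rw [if_neg h1, if_pos h, one_mul]
    have : {x : F // (i < j → x = 0) ∧ (i = j → x ≠ 0)} ≃ F :=
      { toFun := fun x => x.1
        invFun := fun x => ⟨x, fun e => absurd e (lt_asymm h), fun e => absurd e (ne_of_gt h)⟩
        left_inv := fun _ => rfl
        right_inv := fun _ => rfl }
    rw [Nat.card_congr this, Nat.card_eq_fintype_card]

/-- Order of the Borel subgroup of GL_n(q): the invertible lower-triangular n × n matrices over a field with q elements number q^(n(n-1)/2) (q-1)^n (unitriangular part times the diagonal torus). -/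
theorem result {F : Type*} [Field F] [Fintype F] {q : ℕ} (hF : Fintype.card F = q) (n : ℕ) : Nat.card {g : Matrix.GeneralLinearGroup (Fin n) F // ∀ i j : Fin n, i < j → (g : Matrix (Fin n) (Fin n) F) i j = 0} = q ^ (n * (n - 1) / 2) * (q - 1) ^ n := by
  classical
  rw [Nat.card_congr equivPi, Nat.card_congr Equiv.subtypePiEquivPi, Nat.card_pi]
  simp only [card_P, hF]
  rw [Fintype.prod_prod_type]
  have hrow : ∀ i : Fin n, ∏ j : Fin n, ((if j = i then q - 1 else 1) * (if j < i then q else 1)) =
      (q - 1) * q ^ (i : ℕ) := by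
    intro i
    rw [Finset.prod_mul_distrib, Finset.prod_ite_eq' Finset.univ i, if_pos (Finset.mem_univ i),
      Finset.prod_ite, Finset.prod_const_one, mul_one, Finset.prod_const]
    congr 2
    have : (Finset.univ.filter fun j : Fin n => j < i) = Finset.Iio i := by
      ext j; simp
    rw [this, Fin.card_Iio]
  simp only [hrow]
  rw [Finset.prod_mul_distrib, Finset.prod_const, Finset.prod_pow_eq_pow_sum, Finset.card_univ,
    Fintype.card_fin, Fin.sum_univ_eq_sum_range (fun i => i) n, Finset.sum_range_id, mul_comm]

end Cfsg.Agent.S0769
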