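import Cfsg.Statements.S0774
import Mathlib
import Cfsg.Agent.Lib.Helper13.Parabolic
import Cfsg.Agent.S0769

set_option autoImplicit false
open Cfsg

namespace Cfsg.Agent.S0774

open Matrix Cfsg.Agent.Helper13

variable {F : Type*} [Field F] {m : ℕ}

/-- the isotropic flag subspaces -/
def flagSub (F : Type*) [Field F] (m : ℕ) (k : Fin m) : Submodule F (Fin m ⊕ Fin m → F) where
  carrier := {v | (∀ i : Fin m, (k : ℕ) < (i : ℕ) → v (Sum.inl i) = 0) ∧ ∀ i : Fin m, v (Sum.inr i) = 0}
  add_mem' := by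
    rintro a b ⟨ha1, ha2⟩ ⟨hb1, hb2⟩
    exact ⟨fun i hi => by simp [ha1 i hi, hb1 i hi], fun i => by simp [ha2 i, hb2 i]⟩
  zero_mem' := ⟨fun _ _ => rfl, fun _ => rfl⟩
  smul_mem' := by
    rintro c a ⟨ha1, ha2⟩
    exact ⟨fun i hi => by simp [ha1 i hi], fun i => by simp [ha2 i]⟩

theorem coe_flagSub (k : Fin m) : (flagSub F m k : Set (Fin m ⊕ Fin m → F)) =
    {v | (∀ i : Fin m, (k : ℕ) < (i : ℕ) → v (Sum.inl i) = 0) ∧ ∀ i : Fin m, v (Sum.inr i) = 0} := rfl

theorem mulVec_inl (M : Matrix (Fin m ⊕ Fin m) (Fin m ⊕ Fin m) F) (v : Fin m ⊕ Fin m → F)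
    (i : Fin m) : (M *ᵥ v) (Sum.inl i) =
      ∑ j, M (Sum.inl i) (Sum.inl j) * v (Sum.inl j) + ∑ j, M (Sum.inl i) (Sum.inr j) * v (Sum.inr j) := by
  rw [Matrix.mulVec, dotProduct, Fintype.sum_sum_type]

theorem mulVec_inr (M : Matrix (Fin m ⊕ Fin m) (Fin m ⊕ Fin m) F) (v : Fin m ⊕ Fin m → F)
    (i : Fin m) : (M *ᵥ v) (Sum.inr i) =
      ∑ j, M (Sum.inr i) (Sum.inl j) * v (Sum.inl j) + ∑ j, M (Sum.inr i) (Sum.inr j) * v (Sum.inr j) := by
  rw [Matrix.mulVec, dotProduct, Fintype.sum_sum_type]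

theorem mem_stab_flag_iff (A : Matrix.symplecticGroup (Fin m) F) (k : Fin m) :
    A ∈ Cfsg.stabilizing (Cfsg.spToMat m F) {v : Fin m ⊕ Fin m → F |
      (∀ i : Fin m, (k : ℕ) < (i : ℕ) → v (Sum.inl i) = 0) ∧ ∀ i : Fin m, v (Sum.inr i) = 0} ↔
    ∀ v ∈ flagSub F m k, A.val *ᵥ v ∈ flagSub F m k := by
  rw [← coe_flagSub]
  constructor
  · intro h v hv
    exact (h v).mp hv
  · intro h v
    refine ⟨fun hv => h v hv, fun hv => ?_⟩
    exact mem_of_mulVec_mem (flagSub F m k)
      (Matrix.GeneralLinearGroup.mk'' A.val (SymplecticGroup.symplectic_det A.2)) h v hv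

theorem mem_borel_iff (A : Matrix.symplecticGroup (Fin m) F) :
    A ∈ (⨅ k : Fin m, Cfsg.stabilizing (Cfsg.spToMat m F) {v : Fin m ⊕ Fin m → F |
      (∀ i : Fin m, (k : ℕ) < (i : ℕ) → v (Sum.inl i) = 0) ∧ ∀ i : Fin m, v (Sum.inr i) = 0}) ↔
    A.val.toBlocks₂₁ = 0 ∧ ∀ i j : Fin m, j < i → A.val.toBlocks₁₁ i j = 0 := by
  rw [Subgroup.mem_iInf]
  constructor
  · intro h
    have key : ∀ j : Fin m, A.val *ᵥ Pi.single (Sum.inl j) 1 ∈ flagSub F m j := by
      intro j
      apply (mem_stab_flag_iff A j).mp (h j)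
      refine ⟨fun i hi => ?_, fun i => ?_⟩
      · rw [Pi.single_apply, if_neg]
        intro e
        have := Sum.inl_injective e
        rw [this] at hi; exact lt_irrefl _ hi
      · rw [Pi.single_apply, if_neg]
        exact Sum.inr_ne_inl
    constructor
    · ext i j
      have := (key j).2 i
      rw [Matrix.mulVec_single_one] at this
      exact this
    · intro i j hji
      have := (key j).1 i hji
      rw [Matrix.mulVec_single_one] at this
      exact this
  · rintro ⟨hR, hP⟩ k
    rw [mem_stab_flag_iff]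
    rintro v ⟨hv1, hv2⟩
    have hR' : ∀ i j, A.val (Sum.inr i) (Sum.inl j) = 0 := fun i j => congrFun (congrFun hR i) j
    refine ⟨fun i hi => ?_, fun i => ?_⟩
    · rw [mulVec_inl]
      have h1 : ∑ j, A.val (Sum.inl i) (Sum.inl j) * v (Sum.inl j) = 0 := by
        apply Finset.sum_eq_zero
        intro j _
        by_cases hj : (k : ℕ) < (j : ℕ)
        · rw [hv1 j hj, mul_zero]
        · have : A.val (Sum.inl i) (Sum.inl j) = 0 := hP i j (by
            rw [Fin.lt_def]; omega)
          rw [this, zero_mul]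
      have h2 : ∑ j, A.val (Sum.inl i) (Sum.inr j) * v (Sum.inr j) = 0 := by
        apply Finset.sum_eq_zero
        intro j _
        rw [hv2 j, mul_zero]
      rw [h1, h2, add_zero]
    · rw [mulVec_inr]
      have h1 : ∑ j, A.val (Sum.inr i) (Sum.inl j) * v (Sum.inl j) = 0 := by
        apply Finset.sum_eq_zero
        intro j _
        rw [hR' i j, zero_mul]
      have h2 : ∑ j, A.val (Sum.inr i) (Sum.inr j) * v (Sum.inr j) = 0 := by
        apply Finset.sum_eq_zero
        intro j _
        rw [hv2 j, mul_zero]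
      rw [h1, h2, add_zero]

/-- invertible upper triangular matrices -/
def UT (F : Type*) [Field F] (m : ℕ) : Type _ :=
  {P : Matrix (Fin m) (Fin m) F // (∀ i j : Fin m, j < i → P i j = 0) ∧ ∀ i, P i i ≠ 0}

/-- symmetric matrices -/
def Sy (F : Type*) [Field F] (m : ℕ) : Type _ :=
  {Y : Matrix (Fin m) (Fin m) F // Yᵀ = Y}

theorem UT_det (P : UT F m) : IsUnit P.val.det := by
  have : P.val.det = ∏ i, P.val i i := by
    apply Matrix.det_of_isUpperTriangular
    intro i j hij
    exact P.2.1 i j hij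
  rw [this]
  apply IsUnit.mk0
  rw [Finset.prod_ne_zero_iff]
  intro i _
  exact P.2.2 i

theorem psi_symp (P : UT F m) (Y : Sy F m) :
    Matrix.fromBlocks P.val (P.val * Y.val) 0 (P.valᵀ)⁻¹ ∈ Matrix.symplecticGroup (Fin m) F := by
  rw [SymplecticGroup.fromBlocks_mem_iff]
  have hdet : IsUnit (P.valᵀ).det := by rw [Matrix.det_transpose]; exact UT_det P
  refine ⟨by simp, ?_, ?_⟩
  · rw [Matrix.transpose_mul, Matrix.mul_assoc, Matrix.mul_nonsing_inv _ hdet, Matrix.mul_one,
      Matrix.transpose_nonsing_inv, Matrix.transpose_transpose, ← Matrix.mul_assoc,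
      Matrix.nonsing_inv_mul _ (UT_det P), Matrix.one_mul, Y.2]
  · rw [Matrix.transpose_zero, Matrix.zero_mul, sub_zero, Matrix.mul_nonsing_inv _ hdet]

/-- the parametrisation of the Borel subgroup -/
noncomputable def psi (x : UT F m × Sy F m) :
    ↥(⨅ k : Fin m, Cfsg.stabilizing (Cfsg.spToMat m F) {v : Fin m ⊕ Fin m → F |
      (∀ i : Fin m, (k : ℕ) < (i : ℕ) → v (Sum.inl i) = 0) ∧ ∀ i : Fin m, v (Sum.inr i) = 0}) :=
  ⟨⟨Matrix.fromBlocks x.1.val (x.1.val * x.2.val) 0 (x.1.valᵀ)⁻¹, psi_symp x.1 x.2⟩, by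
    rw [mem_borel_iff]
    refine ⟨Matrix.toBlocks_fromBlocks₂₁ _ _ _ _, fun i j hji => ?_⟩
    rw [Matrix.toBlocks_fromBlocks₁₁]
    exact x.1.2.1 i j hji⟩

theorem psi_bijective : Function.Bijective (psi (F := F) (m := m)) := by
  constructor
  · rintro ⟨P, Y⟩ ⟨P', Y'⟩ h
    have h1 := congrArg (fun A => A.val.val) h
    simp only [psi] at h1
    rw [Matrix.fromBlocks_inj] at h1
    obtain ⟨hP, hPY, -, -⟩ := h1
    have hP' : P = P' := Subtype.ext hP
    subst hP'
    have hY : Y.val = Y'.val := by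
      have := congrArg (fun M => (P.val)⁻¹ * M) hPY
      simp only [← Matrix.mul_assoc, Matrix.nonsing_inv_mul _ (UT_det P), Matrix.one_mul] at this
      exact this
    rw [Prod.mk.injEq]
    exact ⟨rfl, Subtype.ext hY⟩
  · rintro ⟨A, hA⟩
    have hA' := (mem_borel_iff A).mp hA
    obtain ⟨hR, hP⟩ := hA'
    have hfb := Matrix.fromBlocks_toBlocks A.val
    rw [hR] at hfb
    have hsymp := A.2
    rw [← hfb, SymplecticGroup.fromBlocks_mem_iff] at hsymp
    obtain ⟨-, hsym, hone⟩ := hsymp
    rw [Matrix.transpose_zero, Matrix.zero_mul, sub_zero] at hone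
    set P := A.val.toBlocks₁₁ with hPdef
    set Q := A.val.toBlocks₁₂ with hQdef
    set S := A.val.toBlocks₂₂ with hSdef
    have hdetP : IsUnit P.det := by
      have := congrArg Matrix.det hone
      rw [Matrix.det_mul, Matrix.det_transpose, Matrix.det_one] at this
      exact IsUnit.of_mul_eq_one _ this
    have hdiag : ∀ i, P i i ≠ 0 := by
      have h1 : P.det = ∏ i, P i i := by
        apply Matrix.det_of_isUpperTriangular
        intro i j hij
        exact hP i j hij
      rw [h1] at hdetP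
      intro i
      exact (Finset.prod_ne_zero_iff.mp hdetP.ne_zero) i (Finset.mem_univ i)
    have hS : (Pᵀ)⁻¹ = S := Matrix.inv_eq_right_inv hone
    have hone' : Sᵀ * P = 1 := by
      have := congrArg Matrix.transpose hone
      rw [Matrix.transpose_mul, Matrix.transpose_transpose, Matrix.transpose_one] at this
      exact this
    have hone'' : P * Sᵀ = 1 := mul_eq_one_comm.mp hone'
    have hYsym : (Sᵀ * Q)ᵀ = Sᵀ * Q := by
      rw [Matrix.transpose_mul, Matrix.transpose_transpose]
      exact hsym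
    refine ⟨(⟨P, hP, hdiag⟩, ⟨Sᵀ * Q, hYsym⟩), ?_⟩
    apply Subtype.ext
    apply Subtype.ext
    simp only [psi]
    rw [← Matrix.mul_assoc, hone'', Matrix.one_mul, hS]
    exact hfb

/-- counting invertible upper triangular matrices -/
noncomputable def equivUT : UT F m ≃ {f : Fin m × Fin m → F // ∀ ij, S0769.P m F ij (f ij)} where
  toFun P := ⟨fun ij => P.val ij.2 ij.1, by
    rintro ⟨i, j⟩
    refine ⟨fun hij => P.2.1 j i hij, fun hij => ?_⟩
    simp only at hij
    subst hij
    exact P.2.2 i⟩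
  invFun f := ⟨Matrix.of fun i j => f.val (j, i), fun i j hji => (f.2 (j, i)).1 hji,
    fun i => (f.2 (i, i)).2 rfl⟩
  left_inv P := by
    apply Subtype.ext
    ext i j
    rfl
  right_inv f := by
    apply Subtype.ext
    funext ij
    rfl

/-- counting symmetric matrices -/
noncomputable def equivSy : Sy F m ≃ {f : Fin m × Fin m → F // ∀ ij : Fin m × Fin m, ij.1 < ij.2 → f ij = 0} where
  toFun Y := ⟨fun ij => if ij.1 < ij.2 then 0 else Y.val ij.1 ij.2, fun ij hij => if_pos hij⟩
  invFun f := ⟨Matrix.of fun i j => if j ≤ i then f.val (i, j) else f.val (j, i), by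
    ext i j
    simp only [Matrix.transpose_apply, Matrix.of_apply]
    rcases lt_trichotomy i j with h | h | h
    · rw [if_pos h.le, if_neg (not_le.mpr h)]
    · rw [h]
    · rw [if_neg (not_le.mpr h), if_pos h.le]⟩
  left_inv Y := by
    apply Subtype.ext
    ext i j
    simp only [Matrix.of_apply]
    by_cases h : j ≤ i
    · rw [if_pos h, if_neg (not_lt.mpr h)]
    · rw [if_neg h, if_neg (not_lt.mpr (le_of_lt (not_le.mp h)))]
      have := congrFun (congrFun Y.2 i) j
      rw [Matrix.transpose_apply] at this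
      exact this
  right_inv f := by
    apply Subtype.ext
    funext ij
    obtain ⟨i, j⟩ := ij
    simp only [Matrix.of_apply]
    by_cases h : i < j
    · rw [if_pos h]; exact (f.2 (i, j) h).symm
    · rw [if_neg h, if_pos (not_lt.mp h)]

theorem card_UT [Fintype F] {q : ℕ} (hF : Fintype.card F = q) :
    Nat.card (UT F m) = q ^ (m * (m - 1) / 2) * (q - 1) ^ m := by
  rw [Nat.card_congr equivUT, ← Nat.card_congr S0769.equivPi]
  exact S0769.result hF m

theorem card_Sy [Fintype F] {q : ℕ} (hF : Fintype.card F = q) :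
    Nat.card (Sy F m) = q ^ (m * (m - 1) / 2 + m) := by
  classical
  rw [Nat.card_congr equivSy, Nat.card_congr (Equiv.subtypePiEquivPi
    (β := fun _ : Fin m × Fin m => F) (p := fun ij x => ij.1 < ij.2 → x = 0)), Nat.card_pi]
  have hc : ∀ ij : Fin m × Fin m, Nat.card {x : F // ij.1 < ij.2 → x = 0} =
      if ij.1 < ij.2 then 1 else q := by
    intro ij
    by_cases h : ij.1 < ij.2
    · rw [if_pos h]
      have : {x : F // ij.1 < ij.2 → x = 0} ≃ Unit :=
        { toFun := fun _ => ()
          invFun := fun _ => ⟨0, fun _ => rfl⟩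
          left_inv := by
            rintro ⟨x, hx⟩
            apply Subtype.ext
            exact (hx h).symm
          right_inv := fun _ => rfl }
      rw [Nat.card_congr this]; simp
    · rw [if_neg h]
      have : {x : F // ij.1 < ij.2 → x = 0} ≃ F :=
        { toFun := fun x => x.1
          invFun := fun x => ⟨x, fun e => absurd e h⟩
          left_inv := fun _ => rfl
          right_inv := fun _ => rfl }
      rw [Nat.card_congr this, Nat.card_eq_fintype_card, hF]
  simp only [hc]
  rw [Fintype.prod_prod_type]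
  have hrow : ∀ i : Fin m, ∏ j : Fin m, (if i < j then 1 else q) = q ^ ((i : ℕ) + 1) := by
    intro i
    rw [Finset.prod_ite, Finset.prod_const_one, one_mul, Finset.prod_const]
    congr 1
    have : (Finset.univ.filter fun j : Fin m => ¬ i < j) = Finset.Iic i := by
      ext j; simp
    rw [this, Fin.card_Iic]
  simp only [hrow]
  rw [Finset.prod_pow_eq_pow_sum]
  congr 1
  rw [Finset.sum_add_distrib, Fin.sum_univ_eq_sum_range (fun i => i) m, Finset.sum_range_id]
  simp

/-- Borel subgroup of the symplectic group: the elements of Sp_2m(q) stabilising each of the totally isotropic coordinate subspaces ⟨e_0, ..., e_k⟩ (k < m) form a subgroup of order q^(m²) (q − 1)^m. -/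
theorem result {F : Type*} [Field F] [Fintype F] {q : ℕ} (hF : Fintype.card F = q) (m : ℕ) : Nat.card ↥(⨅ k : Fin m, Cfsg.stabilizing (Cfsg.spToMat m F) {v : Fin m ⊕ Fin m → F | (∀ i : Fin m, (k : ℕ) < (i : ℕ) → v (Sum.inl i) = 0) ∧ ∀ i : Fin m, v (Sum.inr i) = 0}) = q ^ (m ^ 2) * (q - 1) ^ m := by
  rw [← Nat.card_eq_of_bijective _ (psi_bijective (F := F) (m := m)), Nat.card_prod, card_UT hF,
    card_Sy hF]
  have h1 : m * (m - 1) / 2 + (m * (m - 1) / 2 + m) = m ^ 2 := by
    have h2 : m * (m - 1) / 2 * 2 = m * (m - 1) := by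
      rw [← Finset.sum_range_id, Finset.sum_range_id_mul_two]
    have h3 : m * (m - 1) + m = m ^ 2 := by
      cases m with
      | zero => rfl
      | succ k => simp only [Nat.add_sub_cancel]; ring
    omega
  rw [← h1, pow_add]
  ring

end Cfsg.Agent.S0774
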