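import Cfsg.Statements.S3751
import Mathlib
import Cfsg.Agent.Lib.Helper52.CoprimeSylow
import Cfsg.Agent.Lib.Helper62.PiCore
import Cfsg.Agent.Lib.Helper22.Radical
-- import your own Cfsg.Agent.* helpers here

set_option autoImplicit false
open Cfsg

namespace Cfsg.Agent.S3751

open Subgroup
open Cfsg.Agent.Helper22 (conjS conjS_mul conjS_one mem_normalizer_iff_conjS conjS_mono
  conjS_inv_conjS conjS_conjS_inv)
open Cfsg.Agent.Helper52 (sylCard)

variable {G : Type*} [Group G] {p : ℕ}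

/-- `p`-local subgroups -/
def IsPLoc (p : ℕ) (M : Subgroup G) : Prop :=
  ∃ T : Subgroup G, IsPGroup p T ∧ T ≠ ⊥ ∧ M = Subgroup.normalizer (T : Set G)

/-- maximal `p`-local subgroups -/
def IsMaxPLoc (p : ℕ) (M : Subgroup G) : Prop :=
  IsPLoc p M ∧ ∀ L : Subgroup G, IsPLoc p L → M ≤ L → L = M

theorem normalizer_conjS (g : G) (T : Subgroup G) :
    normalizer ((conjS g T : Subgroup G) : Set G) = conjS g (normalizer (T : Set G)) :=
  (Subgroup.map_equiv_normalizer_eq T (MulAut.conj g)).symm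

theorem conjS_ne_bot (g : G) {T : Subgroup G} (h : T ≠ ⊥) : conjS g T ≠ ⊥ := by
  intro h'
  exact h ((Subgroup.map_eq_bot_iff_of_injective T (MulAut.conj g).injective).1 h')

theorem isPGroup_conjS (g : G) {T : Subgroup G} (h : IsPGroup p T) : IsPGroup p (conjS g T) :=
  h.map _

theorem IsPLoc.conj {M : Subgroup G} (h : IsPLoc p M) (g : G) : IsPLoc p (conjS g M) := by
  obtain ⟨T, hT, hT1, rfl⟩ := h
  exact ⟨conjS g T, isPGroup_conjS g hT, conjS_ne_bot g hT1, (normalizer_conjS g T).symm⟩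

theorem conjS_le_iff (g : G) (A B : Subgroup G) : conjS g A ≤ B ↔ A ≤ conjS g⁻¹ B := by
  constructor
  · intro h
    have := conjS_mono g⁻¹ h
    rwa [conjS_inv_conjS] at this
  · intro h
    have := conjS_mono g h
    rwa [conjS_conjS_inv] at this

theorem IsMaxPLoc.conj {M : Subgroup G} (h : IsMaxPLoc p M) (g : G) : IsMaxPLoc p (conjS g M) := by
  refine ⟨h.1.conj g, ?_⟩
  intro L hL hML
  have h1 : M ≤ conjS g⁻¹ L := (conjS_le_iff g M L).1 hML
  have h2 := h.2 _ (hL.conj g⁻¹) h1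
  rw [← h2, conjS_conjS_inv]

theorem exists_isMaxPLoc_ge [Finite G] {L : Subgroup G} (hL : IsPLoc p L) :
    ∃ M : Subgroup G, IsMaxPLoc p M ∧ L ≤ M := by
  have wf : WellFounded ((· > ·) : Subgroup G → Subgroup G → Prop) := wellFounded_gt
  let S : Set (Subgroup G) := {X | IsPLoc p X ∧ L ≤ X}
  have hS : S.Nonempty := ⟨L, hL, le_rfl⟩
  have hmem := wf.min_mem S hS
  refine ⟨wf.min S hS, ⟨hmem.1, ?_⟩, hmem.2⟩
  intro K hK hle
  have hKS : K ∈ S := ⟨hK, hmem.2.trans hle⟩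
  have hnlt : ¬ K > wf.min S hS := wf.not_lt_min S hKS
  exact ((eq_or_lt_of_le hle).resolve_right hnlt).symm

/-- `O_p(M)` as a subgroup of `G` -/
def Q (p : ℕ) (M : Subgroup G) : Subgroup G := (Cfsg.pCore p ↥M).map M.subtype

theorem Q_le (M : Subgroup G) : Q p M ≤ M := Subgroup.map_subtype_le _

theorem isPGroup_Q [Finite G] [Fact p.Prime] (M : Subgroup G) : IsPGroup p (Q p M) :=
  (Cfsg.Agent.Helper62.isPGroup_pCore (G := ↥M) (p := p)).map _

theorem le_normalizer_Q (M : Subgroup G) : M ≤ normalizer ((Q p M : Subgroup G) : Set G) := by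
  have hn : (Cfsg.pCore p ↥M).Normal := Subgroup.sSup_normal _ (fun _ h => h.1)
  rw [← Subgroup.normal_subgroupOf_iff_le_normalizer (Q_le M)]
  have : (Q p M).subgroupOf M = Cfsg.pCore p ↥M :=
    Subgroup.comap_map_eq_self_of_injective M.subtype_injective _
  rw [this]
  exact hn

theorem le_Q {M R : Subgroup G} (hRM : R ≤ M) (hR : IsPGroup p R)
    (hn : M ≤ normalizer (R : Set G)) : R ≤ Q p M := by
  have h1 : (R.subgroupOf M).Normal := (Subgroup.normal_subgroupOf_iff_le_normalizer hRM).2 hn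
  have h2 : IsPGroup p (R.subgroupOf M) := hR.comap_subtype
  have h3 : R.subgroupOf M ≤ Cfsg.pCore p ↥M := le_sSup ⟨h1, h2⟩
  have h4 := Subgroup.map_mono (f := M.subtype) h3
  rwa [Subgroup.map_subgroupOf_eq_of_le hRM] at h4

theorem conjS_Q [Finite G] [Fact p.Prime] (g : G) (M : Subgroup G) :
    conjS g (Q p M) = Q p (conjS g M) := by
  apply le_antisymm
  · apply le_Q (conjS_mono g (Q_le M)) (isPGroup_conjS g (isPGroup_Q M))
    rw [normalizer_conjS]
    exact conjS_mono g (le_normalizer_Q M)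
  · rw [← conjS_conjS_inv g (Q p (conjS g M))]
    apply conjS_mono
    apply le_Q
    · have := conjS_mono g⁻¹ (Q_le (p := p) (conjS g M))
      rwa [conjS_inv_conjS] at this
    · exact isPGroup_conjS g⁻¹ (isPGroup_Q _)
    · rw [normalizer_conjS]
      have := conjS_mono g⁻¹ (le_normalizer_Q (p := p) (conjS g M))
      rwa [conjS_inv_conjS] at this

theorem normalizer_le_normalizer_Q [Finite G] [Fact p.Prime] (M : Subgroup G) :
    normalizer (M : Set G) ≤ normalizer ((Q p M : Subgroup G) : Set G) := by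
  intro g hg
  rw [mem_normalizer_iff_conjS] at hg ⊢
  rw [conjS_Q, hg]

theorem IsPLoc.le_Q_of_eq {T : Subgroup G} (hT : IsPGroup p T) :
    T ≤ Q p (normalizer (T : Set G)) :=
  le_Q le_normalizer hT le_rfl

theorem IsPLoc.Q_ne_bot {M : Subgroup G} (h : IsPLoc p M) : Q p M ≠ ⊥ := by
  obtain ⟨T, hT, hT1, rfl⟩ := h
  intro h0
  have := IsPLoc.le_Q_of_eq hT
  rw [h0, le_bot_iff] at this
  exact hT1 this

theorem IsMaxPLoc.normalizer_Q [Finite G] [Fact p.Prime] {M : Subgroup G} (h : IsMaxPLoc p M) :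
    normalizer ((Q p M : Subgroup G) : Set G) = M :=
  h.2 _ ⟨Q p M, isPGroup_Q M, h.1.Q_ne_bot, rfl⟩ (le_normalizer_Q M)

theorem IsMaxPLoc.normalizer_eq [Finite G] [Fact p.Prime] {M : Subgroup G} (h : IsMaxPLoc p M) :
    normalizer (M : Set G) = M :=
  le_antisymm ((normalizer_le_normalizer_Q M).trans h.normalizer_Q.le) le_normalizer

theorem IsPLoc.ne_top {M : Subgroup G} (h : IsPLoc p M) (hO : Cfsg.pCore p G = ⊥) : M ≠ ⊤ := by
  obtain ⟨T, hT, hT1, rfl⟩ := h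
  intro htop
  have hn : T.Normal := Subgroup.normalizer_eq_top_iff.1 htop
  have : T ≤ Cfsg.pCore p G := le_sSup ⟨hn, hT⟩
  rw [hO, le_bot_iff] at this
  exact hT1 this

/-! ### Sylow facts for subgroups of `G` -/

theorem exists_syl_ge [Finite G] [Fact p.Prime] {T H : Subgroup G} (hTH : T ≤ H)
    (hT : IsPGroup p T) :
    ∃ S : Subgroup G, T ≤ S ∧ S ≤ H ∧ IsPGroup p S ∧ Nat.card S = sylCard p H := by
  have h1 : IsPGroup p (T.subgroupOf H) := hT.comap_subtype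
  obtain ⟨P, hP⟩ := h1.exists_le_sylow
  refine ⟨(P : Subgroup ↥H).map H.subtype, ?_, Subgroup.map_subtype_le _, P.isPGroup'.map _,
    Cfsg.Agent.Helper52.card_sylow_map p H P⟩
  have := Subgroup.map_mono (f := H.subtype) hP
  rwa [Subgroup.map_subgroupOf_eq_of_le hTH] at this

theorem card_le_sylCard [Finite G] [Fact p.Prime] {T H : Subgroup G} (hTH : T ≤ H)
    (hT : IsPGroup p T) : Nat.card T ≤ sylCard p H := by
  obtain ⟨S, hTS, _, _, hc⟩ := exists_syl_ge hTH hT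
  rw [← hc]
  exact Subgroup.card_le_of_le hTS

theorem eq_of_card_sylCard [Finite G] [Fact p.Prime] {T T' H : Subgroup G}
    (hc : Nat.card T = sylCard p H) (hTT' : T ≤ T') (hT'H : T' ≤ H) (hT' : IsPGroup p T') :
    T' = T := by
  symm
  apply Subgroup.eq_of_le_of_card_ge hTT'
  rw [hc]
  exact card_le_sylCard hT'H hT'

theorem Q_le_syl [Finite G] [Fact p.Prime] {T H : Subgroup G} (hTH : T ≤ H)
    (hT : IsPGroup p T) (hc : Nat.card T = sylCard p H) : Q p H ≤ T := by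
  have h1 : IsPGroup p (T ⊔ Q p H : Subgroup G) :=
    hT.to_sup_of_normal_right' (isPGroup_Q H) (hTH.trans (le_normalizer_Q H))
  have h2 := eq_of_card_sylCard hc le_sup_left (sup_le hTH (Q_le H)) h1
  rw [← h2]
  exact le_sup_right

theorem exists_normalizer_mem [Finite G] [Fact p.Prime] {T S : Subgroup G} (hS : IsPGroup p S)
    (hlt : T < S) : ∃ t ∈ S, t ∉ T ∧ t ∈ normalizer (T : Set G) := by
  have hnil : Group.IsNilpotent ↥S := hS.isNilpotent
  have hlt' : T.subgroupOf S < ⊤ := by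
    rw [lt_top_iff_ne_top]
    intro h
    rw [Subgroup.subgroupOf_eq_top] at h
    exact hlt.not_ge h
  have hnc := Group.normalizerCondition_of_isNilpotent (G := ↥S) _ hlt'
  obtain ⟨t, htn, htnot⟩ := SetLike.exists_of_lt hnc
  refine ⟨t, t.2, ?_, ?_⟩
  · intro h
    exact htnot (Subgroup.mem_subgroupOf.2 h)
  · rw [← Subgroup.subgroupOf_normalizer_eq hlt.le] at htn
    exact Subgroup.mem_subgroupOf.1 htn

theorem sylCard_conjS (g : G) (H : Subgroup G) : sylCard p (conjS g H) = sylCard p H := by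
  unfold Cfsg.Agent.Helper52.sylCard
  rw [Cfsg.Agent.Helper52.card_map_conj]

theorem one_lt_sylCard [Finite G] [Fact p.Prime] {H : Subgroup G} (h : p ∣ Nat.card H) :
    1 < sylCard p H := by
  have hp : p.Prime := Fact.out
  unfold Cfsg.Agent.Helper52.sylCard
  have hpos : Nat.card H ≠ 0 := Nat.card_pos.ne'
  have hfac : 1 ≤ (Nat.card H).factorization p := (hp.dvd_iff_one_le_factorization hpos).1 h
  exact Nat.one_lt_pow (by omega) hp.one_lt

/-! ### Characteristic `p` and primitivity -/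

/-- `M` has characteristic `p` (in the form of the statement) -/
def CharP (p : ℕ) (M : Subgroup G) : Prop :=
  Subgroup.centralizer (Cfsg.pCore p ↥M : Set ↥M) ≤ Cfsg.pCore p ↥M

theorem CharP.inf_centralizer_le {M : Subgroup G} (h : CharP p M) :
    M ⊓ centralizer ((Q p M : Subgroup G) : Set G) ≤ Q p M := by
  rintro x ⟨hxM, hxc⟩
  have h1 : (⟨x, hxM⟩ : ↥M) ∈ centralizer (Cfsg.pCore p ↥M : Set ↥M) := by
    intro y hy
    apply Subtype.ext
    exact hxc y ⟨y, hy, rfl⟩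
  exact ⟨⟨x, hxM⟩, h h1, rfl⟩

theorem prim [Finite G] [Fact p.Prime] {M : Subgroup G} (hchar : CharP p M) (hM : IsMaxPLoc p M)
    {A : Subgroup G} (hA1 : A ≠ ⊥) (hAM : A ≤ M) (hMA : M ≤ normalizer (A : Set G)) :
    normalizer (A : Set G) = M := by
  have hQn := le_normalizer_Q (p := p) M
  have hA0 : A ⊓ Q p M ≠ ⊥ := by
    intro h0
    have hcomm : ∀ a ∈ A, ∀ q ∈ Q p M, q * a = a * q := by
      intro a ha q hq
      have h1 : a * q * a⁻¹ * q⁻¹ ∈ A ⊓ Q p M := by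
        constructor
        · have hqn : q ∈ normalizer (A : Set G) := hMA (Q_le M hq)
          have h2 : q * a⁻¹ * q⁻¹ ∈ A := (mem_normalizer_iff.1 hqn a⁻¹).1 (A.inv_mem ha)
          have e : a * q * a⁻¹ * q⁻¹ = a * (q * a⁻¹ * q⁻¹) := by group
          rw [e]; exact A.mul_mem ha h2
        · have han : a ∈ normalizer ((Q p M : Subgroup G) : Set G) := hQn (hAM ha)
          have h2 : a * q * a⁻¹ ∈ Q p M := (mem_normalizer_iff.1 han q).1 hq
          exact (Q p M).mul_mem h2 ((Q p M).inv_mem hq)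
      rw [h0, mem_bot] at h1
      calc q * a = (a * q * a⁻¹ * q⁻¹)⁻¹ * (a * q) := by group
        _ = a * q := by rw [h1]; group
    have hAQ : A ≤ Q p M := fun a ha =>
      hchar.inf_centralizer_le ⟨hAM ha, fun q hq => hcomm a ha q hq⟩
    apply hA1
    rw [eq_bot_iff, ← h0]
    exact le_inf le_rfl hAQ
  have hA0R : A ⊓ Q p M ≤ Q p A := by
    apply le_Q inf_le_left ((isPGroup_Q M).to_le inf_le_right)
    refine le_trans ?_ (Subgroup.inf_normalizer_le_normalizer_inf)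
    exact le_inf le_normalizer (hAM.trans hQn)
  have hR1 : Q p A ≠ ⊥ := by
    intro h0
    rw [h0, le_bot_iff] at hA0R
    exact hA0 hA0R
  have hNA : normalizer (A : Set G) ≤ normalizer ((Q p A : Subgroup G) : Set G) :=
    normalizer_le_normalizer_Q A
  have hloc : IsPLoc p (normalizer ((Q p A : Subgroup G) : Set G)) :=
    ⟨Q p A, isPGroup_Q A, hR1, rfl⟩
  have h3 := hM.2 _ hloc (hMA.trans hNA)
  exact le_antisymm (hNA.trans h3.le) hMA

/-! ### The extremal argument -/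

/-- the conclusion we are after: two distinct maximal `p`-locals with a common Sylow `p`-subgroup -/
def GoodPair (p : ℕ) (M₁ M₂ T : Subgroup G) : Prop :=
  IsMaxPLoc p M₁ ∧ IsMaxPLoc p M₂ ∧ M₁ ≠ M₂ ∧ T ≤ M₁ ∧ T ≤ M₂ ∧ IsPGroup p T ∧
    Nat.card T = sylCard p M₁ ∧ Nat.card T = sylCard p M₂

theorem lt_sup_zpowers {T : Subgroup G} {t : G} (ht : t ∉ T) : T < T ⊔ zpowers t := by
  refine lt_of_le_of_ne le_sup_left ?_
  intro h
  apply ht
  rw [h]
  exact (le_sup_right : zpowers t ≤ T ⊔ zpowers t) (mem_zpowers t)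

theorem conj_trick [Finite G] [Fact p.Prime] {Ma Mb T : Subgroup G} (hMa : IsMaxPLoc p Ma)
    (hTa : T ≤ Ma) (hT : IsPGroup p T) (hca : Nat.card T = sylCard p Ma) (hTb : T ≤ Mb)
    (hncb : Nat.card T ≠ sylCard p Mb) : ∃ M₁ M₂ T : Subgroup G, GoodPair p M₁ M₂ T := by
  obtain ⟨S, hTS, hSb, hS, hcS⟩ := exists_syl_ge hTb hT
  have hlt : T < S := by
    refine lt_of_le_of_ne hTS ?_
    intro h
    rw [h] at hncb
    exact hncb hcS
  obtain ⟨t, htS, htT, htn⟩ := exists_normalizer_mem hS hlt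
  have htMa : t ∉ Ma := by
    intro h
    have h1 : T ⊔ zpowers t ≤ Ma := sup_le hTa ((zpowers_le).2 h)
    have h2 : IsPGroup p (T ⊔ zpowers t : Subgroup G) :=
      hS.to_le (sup_le hTS ((zpowers_le).2 htS))
    have h3 := eq_of_card_sylCard hca le_sup_left h1 h2
    exact (lt_sup_zpowers htT).ne h3.symm
  have hne : Ma ≠ conjS t Ma := by
    intro h
    have : t ∈ normalizer (Ma : Set G) := mem_normalizer_iff_conjS.2 h.symm
    rw [hMa.normalizer_eq] at this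
    exact htMa this
  have hTt : conjS t T = T := mem_normalizer_iff_conjS.1 htn
  refine ⟨Ma, conjS t Ma, T, hMa, hMa.conj t, hne, hTa, ?_, hT, hca, ?_⟩
  · rw [← hTt]; exact conjS_mono t hTa
  · rw [sylCard_conjS]; exact hca

theorem exists_pair [Finite G] [Fact p.Prime] {M : Subgroup G} (hM : IsMaxPLoc p M) {g : G}
    (hg : g ∉ M) (hdvd : p ∣ Nat.card ↥(M ⊓ conjS g M)) :
    ∃ M₁ M₂ T : Subgroup G, GoodPair p M₁ M₂ T := by
  classical
  let P : Set (Subgroup G × Subgroup G) := {x | IsMaxPLoc p x.1 ∧ IsMaxPLoc p x.2 ∧ x.1 ≠ x.2}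
  have hMg : M ≠ conjS g M := by
    intro h
    have : g ∈ normalizer (M : Set G) := mem_normalizer_iff_conjS.2 h.symm
    rw [hM.normalizer_eq] at this
    exact hg this
  have hne : P.Nonempty := ⟨(M, conjS g M), hM, hM.conj g, hMg⟩
  obtain ⟨⟨M₁, M₂⟩, ⟨hM₁, hM₂, h12⟩, hmax⟩ :=
    Set.exists_max_image P (fun x => sylCard p (x.1 ⊓ x.2)) (Set.toFinite P) hne
  have hbig : 1 < sylCard p (M₁ ⊓ M₂) :=
    lt_of_lt_of_le (one_lt_sylCard hdvd) (hmax (M, conjS g M) ⟨hM, hM.conj g, hMg⟩)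
  obtain ⟨T, _, hTD, hT, hcT⟩ := exists_syl_ge (p := p) (T := ⊥) (H := M₁ ⊓ M₂) bot_le
    (IsPGroup.of_bot)
  have hT1 : T ≠ ⊥ := by
    intro h
    rw [h, Subgroup.card_bot] at hcT
    omega
  have hTM₁ : T ≤ M₁ := hTD.trans inf_le_left
  have hTM₂ : T ≤ M₂ := hTD.trans inf_le_right
  obtain ⟨L, hL, hNL⟩ := exists_isMaxPLoc_ge (p := p) (L := normalizer (T : Set G)) ⟨T, hT, hT1, rfl⟩
  have key : ∀ M' : Subgroup G, IsMaxPLoc p M' → T ≤ M' → Nat.card T ≠ sylCard p M' →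
      (M' ≠ L → sylCard p (M' ⊓ L) ≤ sylCard p (M₁ ⊓ M₂)) → M' = L := by
    intro M' hM' hTM' hns hle
    by_contra hML
    obtain ⟨S, hTS, hSM', hS, hcS⟩ := exists_syl_ge hTM' hT
    have hlt : T < S := by
      refine lt_of_le_of_ne hTS ?_
      intro h
      rw [h] at hns
      exact hns hcS
    obtain ⟨t, htS, htT, htn⟩ := exists_normalizer_mem hS hlt
    have h1 : T ⊔ zpowers t ≤ M' ⊓ L := by
      apply le_inf
      · exact sup_le hTM' ((zpowers_le).2 (hSM' htS))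
      · exact sup_le (le_normalizer.trans hNL) ((zpowers_le).2 (hNL htn))
    have h2 : IsPGroup p (T ⊔ zpowers t : Subgroup G) :=
      hS.to_le (sup_le hTS ((zpowers_le).2 htS))
    have h3 : Nat.card (T ⊔ zpowers t : Subgroup G) ≤ sylCard p (M' ⊓ L) := card_le_sylCard h1 h2
    have h4 : Nat.card T < Nat.card (T ⊔ zpowers t : Subgroup G) := by
      by_contra hnot
      push Not at hnot
      exact (lt_sup_zpowers htT).ne (Subgroup.eq_of_le_of_card_ge le_sup_left hnot)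
    have h5 := hle hML
    rw [hcT] at h4
    omega
  by_cases h1 : Nat.card T = sylCard p M₁
  · by_cases h2 : Nat.card T = sylCard p M₂
    · exact ⟨M₁, M₂, T, hM₁, hM₂, h12, hTM₁, hTM₂, hT, h1, h2⟩
    · exact conj_trick hM₁ hTM₁ hT h1 hTM₂ h2
  · by_cases h2 : Nat.card T = sylCard p M₂
    · exact conj_trick hM₂ hTM₂ hT h2 hTM₁ h1
    · exfalso
      have e1 : M₁ = L := key M₁ hM₁ hTM₁ h1 (fun hne' => hmax (M₁, L) ⟨hM₁, hL, hne'⟩)
      have e2 : M₂ = L := key M₂ hM₂ hTM₂ h2 (fun hne' => hmax (M₂, L) ⟨hM₂, hL, hne'⟩)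
      exact h12 (e1.trans e2.symm)

theorem GoodPair.final [Finite G] [Fact p.Prime] {M₁ M₂ T : Subgroup G} (h : GoodPair p M₁ M₂ T)
    (hc₁ : CharP p M₁) (hc₂ : CharP p M₂) :
    M₁ ≠ M₂ ∧ (∀ A : Subgroup G, A ≠ ⊥ → A ≤ M₁ ⊓ M₂ →
      (M₁ ≤ Subgroup.normalizer (A : Set G) → M₂ ⊓ Subgroup.normalizer (A : Set G) = M₁ ⊓ M₂) ∧
      (M₂ ≤ Subgroup.normalizer (A : Set G) → M₁ ⊓ Subgroup.normalizer (A : Set G) = M₁ ⊓ M₂)) ∧
      Q p M₁ ⊔ Q p M₂ ≤ M₁ ⊓ M₂ := by
  obtain ⟨hM₁, hM₂, hne, hT₁, hT₂, hT, hcT₁, hcT₂⟩ := h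
  refine ⟨hne, ?_, ?_⟩
  · intro A hA1 hA
    constructor
    · intro hle
      rw [prim hc₁ hM₁ hA1 (hA.trans inf_le_left) hle, inf_comm]
    · intro hle
      rw [prim hc₂ hM₂ hA1 (hA.trans inf_le_right) hle]
  · exact sup_le ((Q_le_syl hT₁ hT hcT₁).trans (le_inf hT₁ hT₂))
      ((Q_le_syl hT₂ hT hcT₂).trans (le_inf hT₁ hT₂))

theorem IsMaxPLoc.charP {M : Subgroup G} (hM : IsMaxPLoc p M)
    (hloc : Cfsg.IsOfLocalCharacteristic p G) : CharP p M := by
  obtain ⟨T, hT, hT1, rfl⟩ := hM.1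
  exact hloc.2 T hT hT1

theorem IsPLoc.dvd_card [Finite G] [Fact p.Prime] {M : Subgroup G} (h : IsPLoc p M) :
    p ∣ Nat.card M := by
  obtain ⟨T, hT, hT1, rfl⟩ := h
  have hp : p.Prime := Fact.out
  have h1 : 1 < Nat.card T := (Subgroup.one_lt_card_iff_ne_bot _).2 hT1
  obtain ⟨n, hn⟩ := IsPGroup.iff_card.1 hT
  have hn0 : n ≠ 0 := by
    rintro rfl
    rw [pow_zero] at hn
    omega
  have h2 : p ∣ Nat.card T := by
    rw [hn]
    exact dvd_pow_self p hn0
  exact h2.trans (Subgroup.card_dvd_of_le le_normalizer)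


/-- Two distinct subgroups M₁, M₂ of G form a primitive pair when, for {i, j} = {1, 2}, every non-trivial normal subgroup A of M_i contained in M₁ ∩ M₂ satisfies N_{M_j}(A) = M₁ ∩ M₂; the pair has characteristic p when moreover C_{M_i}(O_p(M_i)) ≤ O_p(M_i) for both i and O_p(M₁)O_p(M₂) ≤ M₁ ∩ M₂. Let G be a finite group, p a prime dividing its order, with O_p(G) = 1 and every p-local subgroup of characteristic p. Then either G has a primitive pair of characteristic p, or every maximal p-local subgroup M of G is strongly p-embedded in G: M is a proper subgroup, p divides its order, and for every g ∉ M the order of M ∩ gMg⁻¹ is prime to p. -/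
theorem result {G : Type*} [Group G] [Finite G] {p : ℕ} [Fact p.Prime] (hloc : Cfsg.IsOfLocalCharacteristic p G) (hOp : Cfsg.pCore p G = ⊥) : (∃ M₁ M₂ : Subgroup G, M₁ ≠ M₂ ∧ (∀ A : Subgroup G, A ≠ ⊥ → A ≤ M₁ ⊓ M₂ → (M₁ ≤ Subgroup.normalizer (A : Set G) → M₂ ⊓ Subgroup.normalizer (A : Set G) = M₁ ⊓ M₂) ∧ (M₂ ≤ Subgroup.normalizer (A : Set G) → M₁ ⊓ Subgroup.normalizer (A : Set G) = M₁ ⊓ M₂)) ∧ Subgroup.centralizer (Cfsg.pCore p ↥M₁ : Set ↥M₁) ≤ Cfsg.pCore p ↥M₁ ∧ Subgroup.centralizer (Cfsg.pCore p ↥M₂ : Set ↥M₂) ≤ Cfsg.pCore p ↥M₂ ∧ (Cfsg.pCore p ↥M₁).map M₁.subtype ⊔ (Cfsg.pCore p ↥M₂).map M₂.subtype ≤ M₁ ⊓ M₂) ∨ (∀ M : Subgroup G, (∃ T : Subgroup G, IsPGroup p T ∧ T ≠ ⊥ ∧ M = Subgroup.normalizer (T : Set G)) → (∀ L : Subgroup G, (∃ T : Subgroup G, IsPGroup p T ∧ T ≠ ⊥ ∧ L = Subgroup.normalizer (T : Set G)) → M ≤ L → L = M) → M ≠ ⊤ ∧ p ∣ Nat.card M ∧ ∀ g : G, g ∉ M → ¬ p ∣ Nat.card ↥(M ⊓ M.map (MulAut.conj g).toMonoidHom))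 := by
  classical
  by_cases hpair : ∃ M₁ M₂ T : Subgroup G, GoodPair p M₁ M₂ T
  · left
    obtain ⟨M₁, M₂, T, h⟩ := hpair
    have hc₁ : CharP p M₁ := h.1.charP hloc
    have hc₂ : CharP p M₂ := h.2.1.charP hloc
    obtain ⟨h1, h2, h3⟩ := h.final hc₁ hc₂
    exact ⟨M₁, M₂, h1, h2, hc₁, hc₂, h3⟩
  · right
    intro M hM1 hM2
    have hM : IsMaxPLoc p M := ⟨hM1, hM2⟩
    refine ⟨hM.1.ne_top hOp, hM.1.dvd_card, ?_⟩
    intro g hg hdvd
    exact hpair (exists_pair hM hg hdvd)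

end Cfsg.Agent.S3751
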