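import Cfsg.Statements.S1984
import Cfsg.Agent.S1972
import Cfsg.Agent.Lib.Helper54.KInfFunctor

set_option autoImplicit false
universe u
open Cfsg

namespace Cfsg.Agent.S1984

/-- Let p ≥ 5 be a prime and G a finite group. Then the lower K-infinity subgroup controls transfer in G: for some (equivalently, every) Sylow p-subgroup S of G, S ∩ G' = S ∩ (N_G(K))', where K is the lower K-infinity subgroup of S. -/
theorem result {G : Type u} [Group G] [Finite G] {p : ℕ} [Fact p.Prime] (hp : 5 ≤ p) : Cfsg.ControlsTransferIn p (Cfsg.inducedFunctor (G := G) Cfsg.kInfLower) ⊤ := by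
  have hW : Cfsg.IsCharPFunctor.{u} p Cfsg.kInfLower :=
    Cfsg.Agent.Helper54.KInf.isCharPFunctor_kInfLower p
  have hsec := Cfsg.Agent.S1972.result (G := G) (p := p) Cfsg.kInfLower hW (by
    intro K R hR _ T hT
    exact Cfsg.Agent.Helper54.KInf.local_engel hp T (Or.inl hT))
  have h1 : Cfsg.Agent.Helper33.SecHave (fun (H : Type u) [Group H] =>
      Cfsg.FamilyControlsTransferIn p (Cfsg.Agent.Helper33.indFam {Cfsg.kInfLower} H) ⊤) G := by
    intro K R hR
    exact Cfsg.Agent.Helper54.KInf.fct_of_controlsTransferIn (hsec K R)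
  exact Cfsg.Agent.Helper33.controlsTransferIn_of_fct
    (h1.self (Cfsg.Agent.Helper33.fct_isoInv (Cfsg.Agent.Helper33.singleton_charP hW)))

end Cfsg.Agent.S1984
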