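import Cfsg.Statements.S5197
import Cfsg.Agent.Lib.Helper87.TrfMain

set_option autoImplicit false
universe u
open Cfsg
open Cfsg.FusionSystem Cfsg.Agent.Helper87 Cfsg.Agent.Helper87.GlaubFunctor Cfsg.Agent.Helper87.CenFunctor Cfsg.Agent.Helper87.TrfFunctor

namespace Cfsg.Agent.S5197

/-- the focal subgroup of the normalizer system of `W(S)` is the focal subgroup of the system -/
theorem focal_eq {p : ℕ} [Fact p.Prime] {W : ∀ (Q : Type u) [Group Q], Subgroup Q}
    (hW : Cfsg.Agent.Helper87.CenFunctor.IsPos p W)
    (hT : ∀ (G : Type u) [Group G] [Finite G] (P : Sylow p G),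
      Subgroup.centralizer ((Cfsg.pCore p G : Subgroup G) : Set G) ≤ Cfsg.pCore p G →
      Cfsg.pCore p G ⊓ commutator G = Cfsg.pCore p G ⊓
        (commutator ↥(Subgroup.normalizer
          (((W ↥(P : Subgroup G)).map (P : Subgroup G).subtype : Subgroup G) : Set G))).map
          (Subgroup.normalizer
            (((W ↥(P : Subgroup G)).map (P : Subgroup G).subtype : Subgroup G) : Set G)).subtype)
    {Ω : Type u} [Group Ω] {S : Subgroup Ω} [Finite S] (hS : IsPGroup p S)
    (F : Cfsg.FusionSystem S) (hF : F.IsSaturated p)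
    (N : Cfsg.FusionSystem (Cfsg.FusionSystem.normalizerIn S (WW W S)))
    (hN : F.IsNormalizerSystem (WW W S) N) : N.focalSubgroup = F.focalSubgroup := by
  have hNS : Cfsg.FusionSystem.normalizerIn S (WW W S) = S := pos_normalizerIn_top hW hS
  have hXS : WW W S ≤ S := WW_le W S
  apply le_antisymm
  · rw [focal_le_iff]
    intro P f hf x hx
    exact mem_focal ((mor_normalizerSystem_iff hN).1 hf).1 hx
  · have hNT : NT W F N.focalSubgroup := by
      intro P f hf hXP hfX x hx
      have hI : Iso F (WW W S) (WW W S) f := iso_of_card_le (hf.restrict hXP) hXS hfX le_rfl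
      have hmorN : Mor N P f := by
        rw [mor_normalizerSystem_iff hN]
        refine ⟨hf, hNS.symm ▸ hf.le, fun x hx => hNS.symm ▸ hf.mem hx, f, ?_,
          fun _ _ => rfl, hI.2⟩
        rw [sup_eq_left.2 hXP]
        exact hf
      exact mem_focal hmorN hx
    exact Cfsg.Agent.Helper87.TrfMain.main hW hT (Cfsg.Agent.Helper87.CenMain.nu F) Ω S F rfl
      hS hF N.focalSubgroup hNT

/-- Let p be a prime and W a positive characteristic p-functor: W assigns to every finite p-group Q (in a fixed universe) a subgroup W(Q), nontrivial when Q is, carried to W(R) by every isomorphism Q ≅ R. Suppose W satisfies the local condition: for every finite group G with Sylow p-subgroup P such that C_G(O_p(G)) ≤ O_p(G), one has O_p(G) ∩ [G, G] = O_p(G) ∩ [N, N] for N = N_G(W(P)). Then W controls transfer in every saturated fusion system F over a finite p-group S: the focal subgroup of F equals the focal subgroup of the normalizer fusion system of W(S) in F. -/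
theorem result {p : ℕ} [Fact p.Prime] (W : ∀ (Q : Type u) [Group Q], Subgroup Q) (hW1 : ∀ (Q : Type u) [Group Q] [Finite Q], IsPGroup p Q → Nontrivial Q → W Q ≠ ⊥) (hW2 : ∀ (Q R : Type u) [Group Q] [Group R] [Finite Q], IsPGroup p Q → ∀ φ : Q ≃* R, (W Q).map φ.toMonoidHom = W R) (hT : ∀ (G : Type u) [Group G] [Finite G] (P : Sylow p G), Subgroup.centralizer ((Cfsg.pCore p G : Subgroup G) : Set G) ≤ Cfsg.pCore p G → Cfsg.pCore p G ⊓ commutator G = Cfsg.pCore p G ⊓ (commutator ↥(Subgroup.normalizer (((W ↥(P : Subgroup G)).map (P : Subgroup G).subtype : Subgroup G) : Set G))).map (Subgroup.normalizer (((W ↥(P : Subgroup G)).map (P : Subgroup G).subtype : Subgroup G) : Set G)).subtype) {Ω : Type u} [Group Ω] {S : Subgroup Ω} [Finite S] (hS : IsPGroup p S) (F : Cfsg.FusionSystem S) (hF : F.IsSaturated p) (N : Cfsg.FusionSystem (Cfsg.FusionSystem.normalizerIn S ((W ↥S).map S.subtype))) (hN : F.IsNormalizerSystem ((W ↥S).map S.subtype) N) : N.focalSubgroup = F.focalSubgroup := by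
  exact focal_eq ⟨hW1, hW2⟩ hT hS F hF N hN

end Cfsg.Agent.S5197
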