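-- Statement S5139
import Mathlib
import Cfsg.Statements.S5139
import Cfsg.Agent.S5093
import Cfsg.Agent.S5118
import Cfsg.Agent.S5203

set_option autoImplicit false
open Cfsg

namespace Cfsg.Agent.S5139

open Cfsg.FusionSystem

/-- a power of `g` congruent to the first power modulo `n` (prime to `p`) whose order is prime to `p` -/
theorem exists_pow_coprime {M : Type*} [Group M] [Finite M] (p : ℕ) [hp : Fact p.Prime] (g : M) {n : ℕ}
    (hn : 0 < n) (hcop : n.Coprime p) : ∃ k : ℕ, k ≡ 1 [MOD n] ∧ (orderOf (g ^ k)).Coprime p := by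
  have hN0 : orderOf g ≠ 0 := (orderOf_pos g).ne'
  obtain ⟨a, m, hm, hN⟩ := Nat.exists_eq_pow_mul_and_not_dvd hN0 p hp.out.ne_one
  have hk1 : (p ^ a) ^ (Nat.totient n) ≡ 1 [MOD n] :=
    Nat.ModEq.pow_totient (Nat.Coprime.pow_left a hcop.symm)
  have hk2 : p ^ a ∣ (p ^ a) ^ (Nat.totient n) := dvd_pow_self _ (Nat.totient_pos.2 hn).ne'
  refine ⟨_, hk1, ?_⟩
  generalize (p ^ a) ^ (Nat.totient n) = k at hk1 hk2
  have hβm : (g ^ k) ^ m = 1 := by
    rw [← pow_mul]
    apply orderOf_dvd_iff_pow_eq_one.1
    rw [hN]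
    exact Nat.mul_dvd_mul_right hk2 m
  have h1 : orderOf (g ^ k) ∣ m := orderOf_dvd_of_pow_eq_one hβm
  have h2 : m.Coprime p := ((Nat.Prime.coprime_iff_not_dvd hp.out).2 hm).symm
  exact Nat.Coprime.coprime_dvd_left h1 h2

/-- Let G be a finite group with Sylow p-subgroup S and O^p(G) the subgroup generated by the elements of order prime to p. Then the p-residual subsystem of the fusion system of G on S — the saturated subsystem of p-power index over the hyperfocal subgroup — is the fusion system of O^p(G) on S ∩ O^p(G): its maps are exactly the conjugation maps by elements of O^p(G) between subgroups of S ∩ O^p(G). -/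
theorem result {G : Type*} [Group G] [Finite G] (p : ℕ) [Fact p.Prime] (S : Sylow p G) (E : Cfsg.FusionSystem ((Cfsg.groupFusionSystem (S : Subgroup G)).hyperfocalSubgroup p)) (hE : (Cfsg.groupFusionSystem (S : Subgroup G)).IsPResidual p E) : ∃ h : (S : Subgroup G) ⊓ Cfsg.pResidual p G ≤ Cfsg.pResidual p G, ∀ P : Subgroup G, E.Hom P = (Cfsg.fusionSystemOfSubgroup (Cfsg.pResidual p G) ((S : Subgroup G) ⊓ Cfsg.pResidual p G) h).Hom P := by
  refine ⟨inf_le_right, ?_⟩
  have hKn : (pResidual p G).Normal := Helper86.pResidual_normal p G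
  have hN := S5118.result p S (pResidual p G)
  have hE'sat := hN.1.1
  have hE'F := hN.1.2.2.1
  have hhyp : (groupFusionSystem (S : Subgroup G)).hyperfocalSubgroup p =
      (S : Subgroup G) ⊓ pResidual p G := S5093.result p S
  have hSp : IsPGroup p (S : Subgroup G) := S.isPGroup'
  have hidx' : (fusionSystemOfSubgroup (pResidual p G) ((S : Subgroup G) ⊓ pResidual p G)
      inf_le_right).HasPPowerIndexIn (groupFusionSystem (S : Subgroup G)) p := by
    refine ⟨hE'F, hhyp.le, fun P hP => ?_⟩
    have hPS : P ≤ (S : Subgroup G) := hP.trans inf_le_left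
    have : Finite P := Finite.of_injective _ Subtype.val_injective
    rw [Subgroup.map_le_iff_le_comap]
    unfold pResidual
    rw [Subgroup.closure_le]
    intro a ha
    show (a : MulAut P) ∈ (fusionSystemOfSubgroup (pResidual p G) ((S : Subgroup G) ⊓ pResidual p G)
      inf_le_right).autGroup P
    rw [Helper86.fsos_autGroup_eq _ _ _ P hP, Helper84.mem_autInducedBy_iff]
    have ha2 : (a : MulAut P) ∈ autInducedBy ⊤ P := by
      rw [← Helper84.gfs_autGroup_eq _ P hPS]
      exact a.2
    rw [Helper84.mem_autInducedBy_iff] at ha2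
    obtain ⟨g, -, hg⟩ := ha2
    have hcop : (orderOf (a : MulAut P)).Coprime p := by
      rw [Subgroup.orderOf_coe]; exact ha
    obtain ⟨k, hk1, hk2⟩ := exists_pow_coprime p g (orderOf_pos (a : MulAut P)) hcop
    have hak : (a : MulAut P) ^ k = (a : MulAut P) := by
      have := (pow_eq_pow_iff_modEq (x := (a : MulAut P)) (n := k) (m := 1)).2 hk1
      rwa [pow_one] at this
    have hpow : ∀ j : ℕ, ∀ x : P, ((((a : MulAut P) ^ j) x : P) : G) = g ^ j * x * (g ^ j)⁻¹ := by
      intro j
      induction j with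
      | zero => intro x; simp
      | succ j ih =>
        intro x
        rw [pow_succ', MulAut.mul_apply, hg, ih, pow_succ']
        group
    refine ⟨g ^ k, Subgroup.subset_closure hk2, fun x => ?_⟩
    rw [← hpow k x, hak]
  have hfin1 : Finite ((groupFusionSystem (S : Subgroup G)).hyperfocalSubgroup p) :=
    Finite.of_injective _ Subtype.val_injective
  have hfin2 : Finite ((S : Subgroup G) ⊓ pResidual p G : Subgroup G) :=
    Finite.of_injective _ Subtype.val_injective
  have h1 := S5203.sub_of_ppower (hSp.to_le (hhyp.le.trans inf_le_left)) hE.1 hE.2.1 hidx' hhyp.le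
  have h2 := S5203.sub_of_ppower (hSp.to_le inf_le_left) hE'sat hE'F hE.2 hhyp.ge
  intro P
  exact Set.Subset.antisymm (h1 P) (h2 P)

end Cfsg.Agent.S5139
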