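import Cfsg.Statements.S5113
import Cfsg.Agent.Lib.Helper84.FusO9
import Cfsg.Agent.Lib.Helper84.FusAlp3
import Cfsg.Agent.S5203

set_option autoImplicit false
open Cfsg

namespace Cfsg.Agent.S5113

/-- Let F be a saturated fusion system over a finite p-group S and T a subgroup of S containing the hyperfocal subgroup of F. Then there is exactly one saturated fusion system over T that is a subsystem of F of p-power index. -/
theorem result {Ω : Type*} [Group Ω] {S : Subgroup Ω} [Finite S] (p : ℕ) [Fact p.Prime] (hS : IsPGroup p S) (F : Cfsg.FusionSystem S) (hF : F.IsSaturated p) (T : Subgroup Ω) (hTS : T ≤ S) (hT : F.hyperfocalSubgroup p ≤ T) : ∃ E : Cfsg.FusionSystem T, (E.IsSaturated p ∧ E.HasPPowerIndexIn F p) ∧ ∀ E' : Cfsg.FusionSystem T, E'.IsSaturated p → E'.HasPPowerIndexIn F p → E' = E := by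
  have hfinT : Finite T := Cfsg.Agent.Helper87.finite_of_le hTS
  have hTp : IsPGroup p T := hS.to_le hTS
  obtain ⟨E, hE, hEidx⟩ :=
    Cfsg.Agent.Helper84.exists_ppower_subsystem (p := p) (Nat.card S) S inferInstance hS le_rfl F hF T
      hTS hT
  refine ⟨E, ⟨hE, hEidx⟩, fun E' hE' hE'idx => ?_⟩
  have h1 : E'.IsSubsystemOf E := Cfsg.Agent.S5203.sub_of_ppower hTp hE' hE'idx.1 hEidx le_rfl
  have h2 : E.IsSubsystemOf E' := Cfsg.Agent.S5203.sub_of_ppower hTp hE hEidx.1 hE'idx le_rfl
  exact Cfsg.Agent.Helper84.fusionSystem_ext (fun P => Set.Subset.antisymm (h1 P) (h2 P))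

end Cfsg.Agent.S5113
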