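import Cfsg.Statements.S2799
import Cfsg.Agent.S1974
import Cfsg.Agent.Lib.Helper33.WC73b
import Cfsg.Agent.Lib.Helper34.WCJ7

set_option autoImplicit false
open Cfsg

namespace Cfsg.Agent.S2799

open Cfsg.Agent.Helper33 Cfsg.Agent.Helper34.WCJ in
/-- Let S be a Sylow p-subgroup of the finite group G, J(S) the subgroup generated by the abelian subgroups of S of largest order, and x an element of S lying in the centre of N_G(J(S)). Assume that p is odd, or that x is a p-th power of an element of Z(S), or that the symmetric group of degree 4 is not involved in G. Then x is weakly closed in S with respect to G: every G-conjugate of x that lies in S equals x. -/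
theorem result {G : Type*} [Group G] [Finite G] {p : ℕ} [Fact p.Prime] (S : Sylow p G) (x : G) (hxS : x ∈ (S : Subgroup G)) (hxZ : x ∈ (Subgroup.center ↥(Subgroup.normalizer ((Cfsg.thompsonSubgroupAOf (S : Subgroup G)) : Set G))).map (Subgroup.normalizer ((Cfsg.thompsonSubgroupAOf (S : Subgroup G)) : Set G)).subtype) (h : p ≠ 2 ∨ (∃ z ∈ (S : Subgroup G) ⊓ Subgroup.centralizer ((S : Subgroup G) : Set G), z ^ p = x) ∨ ¬ Cfsg.Involves (Equiv.Perm (Fin 4)) G) : ∀ g : G, g * x * g⁻¹ ∈ (S : Subgroup G) → g * x * g⁻¹ = x := by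
  classical
  set W : Subgroup G → Subgroup G := fun P => Cfsg.thompsonSubgroupAOf P with hWdef
  have hW : IsConjugacyFunctor p W := isConjugacyFunctor_jA
  have hWZ : ∀ P : Subgroup G, IsPGroup p ↥P → P ⊓ Subgroup.centralizer (P : Set G) ≤ W P :=
    fun P _ => zs_le_jA P
  -- `x` centralizes `N(J(S))`
  have hxN : ∀ n ∈ Subgroup.normalizer ((W (S : Subgroup G) : Subgroup G) : Set G), n * x = x * n := by
    intro n hn
    obtain ⟨y, hy, rfl⟩ := hxZ
    have := Subgroup.mem_center_iff.mp hy ⟨n, hn⟩
    exact congrArg Subtype.val this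
  have hSN : (S : Subgroup G) ≤ Subgroup.normalizer ((W (S : Subgroup G) : Subgroup G) : Set G) :=
    Subgroup.le_normalizer.trans (Cfsg.Agent.Helper34.TNC.normalizer_le_normalizer_jA _)
  have hxZS : x ∈ (S : Subgroup G) ⊓ Subgroup.centralizer ((S : Subgroup G) : Set G) := by
    refine Subgroup.mem_inf.mpr ⟨hxS, ?_⟩
    rw [Subgroup.mem_centralizer_iff]
    intro s hs
    exact hxN s (hSN hs)
  have hquad : ∀ (H T : Subgroup G), T ≤ H → IsPGroup p ↥T → ¬ p ∣ (T).relIndex (H) →
      ¬ H ≤ Subgroup.normalizer ((W T : Subgroup G) : Set G) → ∃ g : G, g ∈ T ∧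
        g ∉ Cfsg.pCoreOf p H ∧ ⁅⁅Cfsg.pCoreOf p H ⊓ Subgroup.centralizer
          ((Cfsg.pCoreOf p H : Subgroup G) : Set G), Subgroup.zpowers g⁆, Subgroup.zpowers g⁆ = ⊥ :=
    fun H T hTH hT hidx hnot => exists_quadratic H T hTH hT hidx hnot
  have hfin : ∀ g : G, rc g⁻¹ ({x} : Set G) = {g * x * g⁻¹} := by
    intro g
    unfold rc
    rw [Set.image_singleton, inv_inv]
  have hodd : p ≠ 2 → ∀ g : G, g * x * g⁻¹ ∈ (S : Subgroup G) → g * x * g⁻¹ = x := by
    intro h
    have hEng : EngLoc p G W := by
      intro H T hTH hT hidx hnot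
      obtain ⟨g, hgT, hgQ, hq⟩ := hquad H T hTH hT hidx hnot
      refine ⟨g, hgT, hgQ, fun U V _ hU => ?_⟩
      have h2 : iterCommutator (U.map H.subtype) (Subgroup.zpowers g) 2 = ⊥ := by
        rw [eq_bot_iff, ← hq]
        show ⁅⁅U.map H.subtype, Subgroup.zpowers g⁆, Subgroup.zpowers g⁆ ≤ _
        exact Subgroup.commutator_mono (Subgroup.commutator_mono hU le_rfl) le_rfl
      have hall : ∀ k : ℕ, iterCommutator (U.map H.subtype) (Subgroup.zpowers g) (2 + k) = ⊥ := by
        intro k
        induction k with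
        | zero => exact h2
        | succ k ih =>
          show ⁅iterCommutator (U.map H.subtype) (Subgroup.zpowers g) (2 + k), _⁆ = ⊥
          rw [ih, eq_bot_iff, Subgroup.commutator_le]
          intro a ha b _
          rw [Subgroup.mem_bot] at ha
          rw [ha, Subgroup.mem_bot, commutatorElement_one_left]
      have hp3 : 3 ≤ p := by
        have := (Fact.out : p.Prime).two_le
        omega
      obtain ⟨k, hk⟩ : ∃ k, p - 1 = 2 + k := ⟨p - 3, by omega⟩
      rw [hk, hall k]
      exact bot_le
    have hHyp : Hyp73 p G W := ⟨hW, hWZ, hEng⟩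
    intro g hg
    have h1 := wc73 G W hHyp S x hxZS (by
      intro n hn
      exact mem_normalizer_singleton.mpr (hxN n hn)) g⁻¹ (by
      rw [hfin]
      intro y hy
      rw [Set.mem_singleton_iff.mp hy]
      exact hg)
    rw [hfin] at h1
    exact Set.singleton_eq_singleton_iff.mp h1
  rcases h with h | h | h
  · -- `p` odd
    exact hodd h
  · -- `x` a `p`-th power in `Z(S)`
    obtain ⟨z, hz, rfl⟩ := h
    have h1 := (Cfsg.Agent.S1974.result S W hW hWZ hquad _ rfl).1 (z ^ p) (by
      refine Subgroup.mem_inf.mpr ⟨Subgroup.subset_closure ⟨z, hz, rfl⟩, ?_⟩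
      rw [Subgroup.mem_centralizer_iff]
      intro n hn
      exact hxN n hn)
    exact h1
  · -- `S₄`-free
    by_cases hp2 : p = 2
    · subst hp2
      intro g hg
      have h1 := wcJ G h S x hxZS (by
        intro n hn
        exact mem_normalizer_singleton.mpr (hxN n hn)) g⁻¹ (by
        rw [hfin]
        intro y hy
        rw [Set.mem_singleton_iff.mp hy]
        exact hg)
      rw [hfin] at h1
      exact Set.singleton_eq_singleton_iff.mp h1
    · exact hodd hp2

end Cfsg.Agent.S2799
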