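-- Statement S5236
import Mathlib
import Cfsg.Statements.S5236
import Cfsg.Agent.Lib.Helper87.FusionOmega
import Cfsg.Agent.Lib.Helper87.FusionNormalCrit
import Cfsg.Agent.Lib.Helper86.ChainStabilizer

set_option autoImplicit false
open Cfsg

namespace Cfsg.Agent.S5236

open Cfsg.FusionSystem Cfsg.Agent.Helper87 Cfsg.Agent.Helper86
open scoped commutatorElement

variable {Ω : Type*} [Group Ω] {S : Subgroup Ω}

/-- A characteristic subgroup of a subgroup normal in the system is strongly closed. -/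
theorem stronglyClosed_of_characteristic {F : FusionSystem S} {Q : Subgroup Ω} (hQ : F.IsNormal Q)
    (Z : Subgroup Q) [hZ : Z.Characteristic] : F.StronglyClosed (Z.map Q.subtype) := by
  have hZQ : Z.map Q.subtype ≤ Q := Subgroup.map_subtype_le Z
  rw [stronglyClosed_iff]
  refine ⟨hZQ.trans hQ.1, fun R f hR hf x hx => ?_⟩
  rw [isNormal_iff] at hQ
  obtain ⟨hQS, h⟩ := hQ
  obtain ⟨g, hg, e1, e2⟩ := h R f hf
  have hsup : R ⊔ Q = Q := sup_eq_right.mpr (hR.trans hZQ)
  rw [hsup] at hg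
  have hiso : Iso F Q Q g := ⟨hg, e2⟩
  let σ : MulAut Q := hiso.equiv
  have hchar : Z.map σ.toMonoidHom = Z := (Subgroup.characteristic_iff_map_eq.mp hZ) σ
  obtain ⟨z, hz, hzx⟩ := hR hx
  rw [← e1 x hx, ← hzx]
  have : σ z ∈ Z.map σ.toMonoidHom := ⟨z, hz, rfl⟩
  rw [hchar] at this
  exact ⟨σ z, this, rfl⟩

/-- `Ω₁` inside the subgroup, as a subgroup of the subgroup -/
def omegaIn (p : ℕ) (P : Subgroup Ω) : Subgroup P := Subgroup.closure {x : P | x ^ p = 1}

instance omegaIn_characteristic (p : ℕ) (P : Subgroup Ω) : (omegaIn p P).Characteristic := by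
  rw [Subgroup.characteristic_iff_map_le]
  intro σ
  unfold omegaIn
  rw [MonoidHom.map_closure, Subgroup.closure_le]
  rintro _ ⟨x, hx, rfl⟩
  apply Subgroup.subset_closure
  show (σ x) ^ p = 1
  have hx' : x ^ p = 1 := hx
  rw [← map_pow, hx', map_one]

theorem omegaOne_eq_map (p : ℕ) (P : Subgroup Ω) : omegaOne p P = (omegaIn p P).map P.subtype := by
  unfold omegaOne omegaIn
  rw [MonoidHom.map_closure]
  congr 1
  ext y
  constructor
  · rintro ⟨hy, hyp⟩
    exact ⟨⟨y, hy⟩, Subtype.ext hyp, rfl⟩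
  · rintro ⟨x, hx, rfl⟩
    exact ⟨x.2, congrArg Subtype.val hx⟩


/-- the subgroup of `Aut_F(R)` of automorphisms acting trivially on `R/(R ∩ P)` and stabilizing the chain -/
def chainSub (F : FusionSystem S) (P R : Subgroup Ω) (n : ℕ) (Q : Fin (n + 1) → Subgroup Ω)
    (hmono : Monotone Q) (hQ : ∀ i, F.StronglyClosed (Q i)) (hR : R ≤ S) : Subgroup (F.autGroup R) where
  carrier := {β | (∀ x : R, (x : Ω)⁻¹ * (((β : MulAut R) x : R) : Ω) ∈ P) ∧
    ∀ i : Fin n, ∀ x : R, (x : Ω) ∈ Q i.succ → (x : Ω)⁻¹ * (((β : MulAut R) x : R) : Ω) ∈ Q i.castSucc}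
  one_mem' := ⟨fun x => by simp, fun i x _ => by simp⟩
  mul_mem' := by
    rintro β₁ β₂ ⟨a1, b1⟩ ⟨a2, b2⟩
    have key : ∀ x : R, (x : Ω)⁻¹ * ((((β₁ * β₂ : F.autGroup R) : MulAut R) x : R) : Ω) =
        ((x : Ω)⁻¹ * (((β₂ : MulAut R) x : R) : Ω)) *
          ((((β₂ : MulAut R) x : R) : Ω)⁻¹ * (((β₁ : MulAut R) ((β₂ : MulAut R) x) : R) : Ω)) := by
      intro x
      show (x : Ω)⁻¹ * (((β₁ : MulAut R) ((β₂ : MulAut R) x) : R) : Ω) = _
      group
    refine ⟨fun x => ?_, fun i x hx => ?_⟩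
    · rw [key]
      exact P.mul_mem (a2 x) (a1 _)
    · rw [key]
      have h1 := b2 i x hx
      have hle : Q i.castSucc ≤ Q i.succ := hmono (Fin.castSucc_lt_succ).le
      have h2 : (((β₂ : MulAut R) x : R) : Ω) ∈ Q i.succ := by
        have := (Q i.succ).mul_mem hx (hle h1)
        rwa [mul_inv_cancel_left] at this
      exact (Q i.castSucc).mul_mem h1 (b1 i _ h2)
  inv_mem' := by
    rintro β ⟨a, b⟩
    have key : ∀ x : R, (x : Ω)⁻¹ * ((((β⁻¹ : F.autGroup R) : MulAut R) x : R) : Ω) =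
        (((((β : MulAut R)⁻¹ x : R) : Ω))⁻¹ *
          (((β : MulAut R) ((β : MulAut R)⁻¹ x) : R) : Ω))⁻¹ := by
      intro x
      show (x : Ω)⁻¹ * ((((β : MulAut R)⁻¹ x : R)) : Ω) = _
      rw [MulAut.apply_inv_self]
      group
    refine ⟨fun x => ?_, fun i x hx => ?_⟩
    · rw [key]
      exact P.inv_mem (a _)
    · rw [key]
      have hinv : (β : MulAut R)⁻¹ ∈ F.autGroup R := Subgroup.inv_mem _ β.2
      have h2 : ((((β : MulAut R)⁻¹ x : R)) : Ω) ∈ Q i.succ :=
        aut_mem_of_stronglyClosed (hQ i.succ) hR hinv hx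
      exact (Q i.castSucc).inv_mem (b i _ h2)


theorem chainSub_normal {F : FusionSystem S} {P R : Subgroup Ω} {n : ℕ} {Q : Fin (n + 1) → Subgroup Ω}
    (hmono : Monotone Q) (hQ : ∀ i, F.StronglyClosed (Q i)) (hR : R ≤ S) (hP : F.StronglyClosed P) :
    (chainSub F P R n Q hmono hQ hR).Normal := by
  constructor
  rintro β ⟨a, b⟩ γ
  have hγinv : (γ : MulAut R)⁻¹ ∈ F.autGroup R := Subgroup.inv_mem _ γ.2
  have key : ∀ x : R, (x : Ω)⁻¹ * ((((γ * β * γ⁻¹ : F.autGroup R) : MulAut R) x : R) : Ω) =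
      (((γ : MulAut R) (((γ : MulAut R)⁻¹ x)⁻¹ * (β : MulAut R) ((γ : MulAut R)⁻¹ x)) : R) : Ω) := by
    intro x
    show (x : Ω)⁻¹ * (((γ : MulAut R) ((β : MulAut R) ((γ : MulAut R)⁻¹ x)) : R) : Ω) = _
    rw [map_mul, map_inv, MulAut.apply_inv_self]
    rfl
  refine ⟨fun x => ?_, fun i x hx => ?_⟩
  · rw [key]
    exact aut_mem_of_stronglyClosed hP hR γ.2 (a _)
  · rw [key]
    have h2 : ((((γ : MulAut R)⁻¹ x : R)) : Ω) ∈ Q i.succ :=
      aut_mem_of_stronglyClosed (hQ i.succ) hR hγinv hx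
    exact aut_mem_of_stronglyClosed (hQ i.castSucc) hR γ.2 (b i _ h2)

theorem chainSub_isPGroup {p : ℕ} [Fact p.Prime] [Finite S] (hS : IsPGroup p S) (hp : p ≠ 2)
    {F : FusionSystem S} {P R : Subgroup Ω} {n : ℕ} {Q : Fin (n + 1) → Subgroup Ω}
    (hmono : Monotone Q) (hQ : ∀ i, F.StronglyClosed (Q i)) (hR : R ≤ S) (hP : F.StronglyClosed P)
    (hQ0 : Q 0 = ⊥) (hQn : Q (Fin.last n) = omegaOne p P) :
    IsPGroup p (chainSub F P R n Q hmono hQ hR) := by
  have hfinR : Finite R := finite_of_le hR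
  have hRp : IsPGroup p R := hS.to_le hR
  apply isPGroup_of_coprime_trivial
  rintro ⟨β, a, b⟩ hcop
  have hord : orderOf (⟨β, a, b⟩ : chainSub F P R n Q hmono hQ hR) = orderOf (β : MulAut R) := by
    rw [← Subgroup.orderOf_coe, ← Subgroup.orderOf_coe]
  rw [hord] at hcop
  -- `β` fixes every term of the chain pointwise
  have hfix : ∀ i : Fin (n + 1), ∀ x : R, (x : Ω) ∈ Q i → (β : MulAut R) x = x := by
    intro i
    induction i using Fin.induction with
    | zero =>
      intro x hx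
      rw [hQ0, Subgroup.mem_bot] at hx
      have : x = 1 := Subtype.ext hx
      rw [this, map_one]
    | succ i ih =>
      intro x hx
      set y : R := x⁻¹ * (β : MulAut R) x with hy
      have hyQ : (y : Ω) ∈ Q i.castSucc := b i x hx
      have hβy : (β : MulAut R) y = y := ih y hyQ
      have hβx : (β : MulAut R) x = x * y := by rw [hy]; group
      have hpow := aut_pow_apply_eq (β : MulAut R) x y hβx hβy (orderOf (β : MulAut R))
      rw [pow_orderOf_eq_one, MulAut.one_apply] at hpow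
      have hy1 : y ^ orderOf (β : MulAut R) = 1 := by
        have : x * y ^ orderOf (β : MulAut R) = x * 1 := by rw [mul_one]; exact hpow.symm
        exact mul_left_cancel this
      obtain ⟨k, hk⟩ := hRp y
      have hyone : y = 1 := by
        have h1 : orderOf y ∣ orderOf (β : MulAut R) := orderOf_dvd_of_pow_eq_one hy1
        have h2 : orderOf y ∣ p ^ k := orderOf_dvd_of_pow_eq_one hk
        have h3 : (orderOf (β : MulAut R)).Coprime (p ^ k) := Nat.Coprime.pow_right k hcop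
        have h4 : orderOf y = 1 := Nat.eq_one_of_dvd_coprimes h3 h1 h2
        exact orderOf_eq_one_iff.mp h4
      rw [hβx, hyone, mul_one]
  have h1 : (β : MulAut R) = 1 := by
    apply eq_one_of_fixes_omega hRp P (β : MulAut R) hcop
    · intro x hx
      exact aut_mem_of_stronglyClosed hP hR β.2 hx
    · exact a
    · intro x hxP hxp
      apply hfix (Fin.last n)
      rw [hQn]
      exact Subgroup.subset_closure ⟨hxP, hxp⟩
    · intro h2
      exact absurd h2 hp
  exact Subtype.ext (Subtype.ext h1)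


theorem le_of_chain {p : ℕ} [Fact p.Prime] [Finite S] (hS : IsPGroup p S) (hp : p ≠ 2)
    {F : FusionSystem S} {P R : Subgroup Ω} {n : ℕ} {Q : Fin (n + 1) → Subgroup Ω}
    (hmono : Monotone Q) (hQ : ∀ i, F.StronglyClosed (Q i)) (hP : F.StronglyClosed P)
    (hQ0 : Q 0 = ⊥) (hQn : Q (Fin.last n) = omegaOne p P)
    (hcomm : ∀ i : Fin n, ⁅Q i.succ, P⁆ ≤ Q i.castSucc)
    (hcen : F.IsCentric R) (hrad : F.IsRadical p R) : P ≤ R := by
  classical
  have hR : R ≤ S := hcen.1
  have hfinR : Finite R := finite_of_le hR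
  have hn := chainSub_normal hmono hQ hR hP
  have hpg := chainSub_isPGroup hS hp hmono hQ hR hP hQ0 hQn
  have hle := le_pCore hn hpg
  have hB : ∀ β : F.autGroup R, β ∈ chainSub F P R n Q hmono hQ hR → (β : MulAut R) ∈ Inn R := by
    intro β hβ
    rw [← hrad.2]
    exact ⟨β, hle hβ, rfl⟩
  have hNP : ∀ g ∈ P, g ∈ Subgroup.normalizer (R : Set Ω) → g ∈ R := by
    intro g hg hgN
    apply mem_of_conjAut_mem_inn hcen (hP.1 hg) hgN
    have hA : conjAut R g hgN ∈ F.autGroup R :=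
      autInducedBy_le_autGroup F hR (conjAut_mem_autInducedBy (hP.1 hg) hgN)
    apply hB ⟨conjAut R g hgN, hA⟩
    refine ⟨fun x => ?_, fun i x hx => ?_⟩
    · show (x : Ω)⁻¹ * (g * x * g⁻¹) ∈ P
      have h1 : (x : Ω)⁻¹ * (g * x * g⁻¹) = ((x : Ω)⁻¹ * g * (x : Ω)⁻¹⁻¹) * g⁻¹ := by group
      rw [h1]
      exact P.mul_mem (StronglyClosed.conj_mem hP (S.inv_mem (hR x.2)) hg) (P.inv_mem hg)
    · show (x : Ω)⁻¹ * (g * x * g⁻¹) ∈ Q i.castSucc
      apply hcomm i
      have h1 : (x : Ω)⁻¹ * (g * x * g⁻¹) = ⁅(x : Ω)⁻¹, g⁆ := by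
        rw [commutatorElement_def]; group
      rw [h1]
      exact Subgroup.commutator_mem_commutator ((Q i.succ).inv_mem hx) hg
  by_contra hne
  have hT : P ⊔ R ≤ S := sup_le hP.1 hR
  have hTp : IsPGroup p (P ⊔ R : Subgroup Ω) := hS.to_le hT
  have hTfin : Finite (P ⊔ R : Subgroup Ω) := finite_of_le hT
  have hRT : R ≠ P ⊔ R := fun h => hne (h ▸ le_sup_left)
  obtain ⟨m, hm, hmR⟩ := exists_normalizer_not_mem (S := P ⊔ R) hTp le_sup_right hRT
  have hRN : R ≤ Subgroup.normalizer (P : Set Ω) := hR.trans (StronglyClosed.le_normalizer hP)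
  have hcoe := Subgroup.coe_mul_of_right_le_normalizer_left P R hRN
  have hmT : m ∈ (↑(P ⊔ R) : Set Ω) := hm.1
  rw [hcoe] at hmT
  obtain ⟨q, hq, r, hr, rfl⟩ := hmT
  apply hmR
  have hqN : q ∈ Subgroup.normalizer (R : Set Ω) := by
    have h2 : q = (q * r) * r⁻¹ := by group
    rw [h2]
    exact Subgroup.mul_mem _ hm.2 (Subgroup.inv_mem _ (Subgroup.le_normalizer hr))
  exact R.mul_mem (hNP q hq hqN) hr


/-- Let p be an odd prime, F a saturated fusion system over a finite p-group S and P a subgroup of S strongly closed in F. Then P is normal in F if and only if Ω₁(P) (the subgroup generated by the elements of order p of P) has a chain of subgroups 1 = Q₀ ≤ Q₁ ≤ ⋯ ≤ Qₙ = Ω₁(P), each strongly closed in F, with [Qᵢ₊₁, P] ≤ Qᵢ for all i. -/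
theorem result {Ω : Type*} [Group Ω] {S : Subgroup Ω} [Finite S] (p : ℕ) [Fact p.Prime] (hS : IsPGroup p S) (F : Cfsg.FusionSystem S) (hF : F.IsSaturated p) (hp : p ≠ 2) (P : Subgroup Ω) (hP : F.StronglyClosed P) : F.IsNormal P ↔ ∃ (n : ℕ) (Q : Fin (n + 1) → Subgroup Ω), Q 0 = ⊥ ∧ Q (Fin.last n) = Cfsg.omegaOne p P ∧ Monotone Q ∧ (∀ i : Fin (n + 1), F.StronglyClosed (Q i)) ∧ ∀ i : Fin n, ⁅Q i.succ, P⁆ ≤ Q i.castSucc := by
  constructor
  · intro hN
    have hPS : P ≤ S := hN.1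
    have hfinP : Finite P := finite_of_le hPS
    have hPp : IsPGroup p P := hS.to_le hPS
    have hnil : Group.IsNilpotent P := hPp.isNilpotent
    have htop : P = (⊤ : Subgroup P).map P.subtype := by
      ext y
      constructor
      · intro hy
        exact ⟨⟨y, hy⟩, trivial, rfl⟩
      · rintro ⟨x, -, rfl⟩
        exact x.2
    refine ⟨Group.nilpotencyClass P,
      fun i => (omegaIn p P ⊓ Subgroup.upperCentralSeries P i).map P.subtype, ?_, ?_, ?_, ?_, ?_⟩
    · show (omegaIn p P ⊓ Subgroup.upperCentralSeries P 0).map P.subtype = ⊥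
      rw [Subgroup.upperCentralSeries_zero, inf_bot_eq, Subgroup.map_bot]
    · show (omegaIn p P ⊓ Subgroup.upperCentralSeries P (Group.nilpotencyClass P)).map P.subtype = _
      rw [Subgroup.upperCentralSeries_nilpotencyClass, inf_top_eq, omegaOne_eq_map]
    · intro i j hij
      exact Subgroup.map_mono (inf_le_inf_left _ (Subgroup.upperCentralSeries_mono P hij))
    · intro i
      exact stronglyClosed_of_characteristic hN _
    · intro i
      show ⁅(omegaIn p P ⊓ Subgroup.upperCentralSeries P ((i : ℕ) + 1)).map P.subtype, P⁆ ≤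
        (omegaIn p P ⊓ Subgroup.upperCentralSeries P (i : ℕ)).map P.subtype
      have h2 : ⁅(omegaIn p P ⊓ Subgroup.upperCentralSeries P ((i : ℕ) + 1)).map P.subtype, P⁆ =
          ⁅(omegaIn p P ⊓ Subgroup.upperCentralSeries P ((i : ℕ) + 1)).map P.subtype,
            (⊤ : Subgroup P).map P.subtype⁆ := by
        rw [← htop]
      rw [h2, ← Subgroup.map_commutator]
      apply Subgroup.map_mono
      apply le_inf
      · exact (Subgroup.commutator_mono inf_le_left le_rfl).trans (Subgroup.commutator_le_left _ _)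
      · exact (Subgroup.commutator_mono inf_le_right le_rfl).trans
          (Subgroup.commutator_upperCentralSeries_top_le P _)
  · rintro ⟨n, Q, hQ0, hQn, hmono, hQsc, hcomm⟩
    apply isNormal_of_stronglyClosed_of_le hS hF hP
    intro R _ hcen hrad
    exact le_of_chain hS hp hmono hQsc hP hQ0 hQn hcomm hcen hrad

end Cfsg.Agent.S5236
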