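import Mathlib
import Cfsg.Statements.S5332
import Cfsg.Agent.S5195
import Cfsg.Agent.S5096
import Cfsg.Agent.Lib.Helper84.FusNorm
import Cfsg.Agent.Lib.Helper85.NormalizerSys
import Cfsg.Agent.Lib.Helper87.FusionAlperin
import Cfsg.Agent.Lib.Helper87.FusionInner
import Cfsg.Agent.Lib.Helper87.FusionNormalizerSys
import Cfsg.Agent.Lib.Helper87.FusionMore
import Cfsg.Agent.Lib.Helper87.AbIdxFusion

set_option autoImplicit false
open Cfsg Cfsg.FusionSystem Cfsg.Agent.Helper87

namespace Cfsg.Agent.S5332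

section aux

variable {Ω : Type*} [Group Ω] {S : Subgroup Ω}

/-- transport of a system along an equality of the underlying subgroups -/
theorem transport_sys {T : Subgroup Ω} (h : T = S) (N : FusionSystem T) (p : ℕ) :
    ∃ E : FusionSystem S, (∀ P, E.Hom P = N.Hom P) ∧ (N.IsSaturated p → E.IsSaturated p) ∧
      (∀ Q, N.IsNormal Q → E.IsNormal Q) ∧ (∀ Q, N.IsCentric Q → E.IsCentric Q) := by
  subst h
  exact ⟨N, fun _ => rfl, id, fun _ => id, fun _ => id⟩

/-- a subgroup normalized by `S` is fully normalized -/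
theorem fullyNormalized_of_normal [Finite S] (F : FusionSystem S) {R : Subgroup Ω} (hR : R ≤ S)
    (hn : S ≤ Subgroup.normalizer (R : Set Ω)) : F.IsFullyNormalized R := by
  refine ⟨hR, fun Q _ => ?_⟩
  have h : normalizerIn S R = S := inf_eq_left.mpr hn
  rw [h]
  exact card_normalizerIn_le Q

/-- `Q C_S(Q)` is normalized by `S` when `Q` is -/
theorem sup_centralizerIn_normal {Q : Subgroup Ω} (hQS : Q ≤ S)
    (hn : S ≤ Subgroup.normalizer (Q : Set Ω)) [Finite S] :
    S ≤ Subgroup.normalizer ((Q ⊔ centralizerIn S Q : Subgroup Ω) : Set Ω) := by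
  intro s hs
  have hRS : Q ⊔ centralizerIn S Q ≤ S := sup_le hQS inf_le_left
  have : Finite (Q ⊔ centralizerIn S Q : Subgroup Ω) := finite_of_le hRS
  apply mem_normalizer_of_forall_of_finite
  have hle : Q ⊔ centralizerIn S Q ≤
      (Q ⊔ centralizerIn S Q).comap (MulAut.conj s).toMonoidHom := by
    apply sup_le
    · intro x hx
      rw [Subgroup.mem_comap]
      apply (le_sup_left : Q ≤ Q ⊔ centralizerIn S Q)
      have := (Subgroup.mem_normalizer_iff.1 (hn hs) x).1 hx
      simpa using this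
    · intro c hc
      rw [Subgroup.mem_comap]
      apply (le_sup_right : centralizerIn S Q ≤ Q ⊔ centralizerIn S Q)
      refine ⟨?_, ?_⟩
      · have : s * c * s⁻¹ ∈ S := S.mul_mem (S.mul_mem hs hc.1) (S.inv_mem hs)
        simpa using this
      · show (MulAut.conj s).toMonoidHom c ∈ Subgroup.centralizer (Q : Set Ω)
        rw [Subgroup.mem_centralizer_iff]
        intro y hy
        have hy' : s⁻¹ * y * s ∈ Q := by
          have := (Subgroup.mem_normalizer_iff.1 (Subgroup.inv_mem _ (hn hs)) y).1 hy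
          simpa using this
        have hcomm := (Subgroup.mem_centralizer_iff.1 hc.2) _ hy'
        show y * (MulAut.conj s).toMonoidHom c = (MulAut.conj s).toMonoidHom c * y
        have e : (MulAut.conj s).toMonoidHom c = s * c * s⁻¹ := rfl
        rw [e]
        have h1 : y * (s * c * s⁻¹) = s * ((s⁻¹ * y * s) * c) * s⁻¹ := by group
        have h2 : s * c * s⁻¹ * y = s * (c * (s⁻¹ * y * s)) * s⁻¹ := by group
        rw [h1, h2, hcomm]
  intro y hy
  have := hle hy
  rw [Subgroup.mem_comap] at this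
  exact this

/-- an `F`-automorphism of `Q` (normal in `S`) extends to an `F`-automorphism of `Q C_S(Q)` -/
theorem exists_aut_ext [Finite S] {p : ℕ} [Fact p.Prime] (hS : IsPGroup p S) {F : FusionSystem S}
    (hF : F.IsSaturated p) {Q : Subgroup Ω} (hQ : Q ≤ S)
    (hn : S ≤ Subgroup.normalizer (Q : Set Ω)) (α : MulAut Q) (hα : α ∈ F.autGroup Q) :
    ∃ g, Iso F (Q ⊔ centralizerIn S Q) (Q ⊔ centralizerIn S Q) g ∧ ∀ x ∈ Q, g x = extAut α x := by
  have hrec := receptive_of_fullyNormalized hS hF (fullyNormalized_of_normal F hQ hn)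
  have hiso : Iso F Q Q (extAut α) := iso_of_mor_extAut ((mem_autGroup_iff hQ).1 hα)
  obtain ⟨g, hg, hag⟩ := (isReceptive_iff.1 hrec).2 Q (extAut α) hiso
  have hRext : Q ⊔ centralizerIn S Q ≤ hiso.ext := sup_le hiso.le_ext hiso.centralizerIn_le_ext
  have hRS : Q ⊔ centralizerIn S Q ≤ S := sup_le hQ inf_le_left
  have hgR : Mor F (Q ⊔ centralizerIn S Q) g := hg.restrict hRext
  have hisog : Iso F Q Q g := hiso.congr (fun x hx => (hag x hx).symm)
  let K : Subgroup Ω :=
    { carrier := {n | n ∈ Q ⊔ centralizerIn S Q ∧ g n ∈ Q ⊔ centralizerIn S Q}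
      mul_mem' := by
        rintro a b ⟨ha, ha'⟩ ⟨hb, hb'⟩
        refine ⟨Subgroup.mul_mem _ ha hb, ?_⟩
        rw [hgR.map_mul ha hb]
        exact Subgroup.mul_mem _ ha' hb'
      one_mem' := ⟨Subgroup.one_mem _, by rw [hgR.map_one]; exact Subgroup.one_mem _⟩
      inv_mem' := by
        rintro a ⟨ha, ha'⟩
        refine ⟨Subgroup.inv_mem _ ha, ?_⟩
        rw [hgR.map_inv ha]
        exact Subgroup.inv_mem _ ha' }
  have hQK : Q ≤ K := by
    intro x hx
    refine ⟨(le_sup_left : Q ≤ Q ⊔ centralizerIn S Q) hx, ?_⟩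
    exact (le_sup_left : Q ≤ Q ⊔ centralizerIn S Q) (hisog.map_mem hx)
  have hCK : centralizerIn S Q ≤ K := by
    intro c hc
    refine ⟨(le_sup_right : centralizerIn S Q ≤ Q ⊔ centralizerIn S Q) hc, ?_⟩
    apply (le_sup_right : centralizerIn S Q ≤ Q ⊔ centralizerIn S Q)
    exact map_centralizerIn hg hiso.le_ext hisog (hiso.centralizerIn_le_ext hc) hc
  have hRK : Q ⊔ centralizerIn S Q ≤ K := sup_le hQK hCK
  have hmaps : ∀ n ∈ Q ⊔ centralizerIn S Q, g n ∈ Q ⊔ centralizerIn S Q := fun n hn' => (hRK hn').2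
  exact ⟨g, iso_of_card_le hgR hRS hmaps le_rfl, hag⟩

/-- if `Aut_F(Q C_S(Q))` is a `p`-group then so is `Aut_F(Q)` -/
theorem isPGroup_aut_of_sup [Finite S] {p : ℕ} [Fact p.Prime] (hS : IsPGroup p S)
    {F : FusionSystem S} (hF : F.IsSaturated p) {Q : Subgroup Ω} (hQ : Q ≤ S)
    (hn : S ≤ Subgroup.normalizer (Q : Set Ω))
    (hR : IsPGroup p (F.autGroup (Q ⊔ centralizerIn S Q))) : IsPGroup p (F.autGroup Q) := by
  rintro ⟨α, hα⟩
  obtain ⟨g, hiso, hag⟩ := exists_aut_ext hS hF hQ hn α hα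
  have hβmem := hiso.equiv_mem_autGroup
  obtain ⟨k, hk⟩ := hR ⟨hiso.equiv, hβmem⟩
  have hk' : (hiso.equiv : MulAut _) ^ p ^ k = 1 := by
    have := congrArg Subtype.val hk
    simpa using this
  have hQR : Q ≤ Q ⊔ centralizerIn S Q := le_sup_left
  have hβ : ∀ x : Q, (hiso.equiv : MulAut _) (Subgroup.inclusion hQR x) =
      Subgroup.inclusion hQR (α x) := by
    intro x
    apply Subtype.ext
    rw [hiso.equiv_apply]
    show g (x : Ω) = ((α x : Q) : Ω)
    rw [hag x x.2, extAut_apply]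
  have key : ∀ m : ℕ, ∀ x : Q, ((hiso.equiv : MulAut _) ^ m) (Subgroup.inclusion hQR x) =
      Subgroup.inclusion hQR ((α ^ m) x) := by
    intro m
    induction m with
    | zero => intro x; simp
    | succ m ih =>
      intro x
      rw [pow_succ', pow_succ', MulAut.mul_apply, MulAut.mul_apply, ih, hβ]
  refine ⟨k, Subtype.ext ?_⟩
  show (α ^ p ^ k : MulAut Q) = 1
  ext x
  have h1 := key (p ^ k) x
  rw [hk'] at h1
  have h2 : Subgroup.inclusion hQR x = Subgroup.inclusion hQR ((α ^ p ^ k) x) := by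
    simpa using h1
  have h3 := Subgroup.inclusion_injective hQR h2
  rw [← h3]
  simp

end aux

/-- Let p be odd and F a saturated fusion system over a finite p-group S that is not the inner system of S. Then F contains a saturated constrained subsystem over S that is itself not the inner system. -/
theorem result {Ω : Type*} [Group Ω] {S : Subgroup Ω} [Finite S] (p : ℕ) [Fact p.Prime] (hS : IsPGroup p S) (F : Cfsg.FusionSystem S) (hF : F.IsSaturated p) (hp : p ≠ 2) (hne : ∃ P : Subgroup Ω, F.Hom P ≠ (Cfsg.innerFusionSystem S).Hom P) : ∃ E : Cfsg.FusionSystem S, E ≤ F ∧ E.IsConstrained p ∧ ∃ P : Subgroup Ω, E.Hom P ≠ (Cfsg.innerFusionSystem S).Hom P := by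
  classical
  have h1 : ¬ ∀ Q : Subgroup Ω, Q ≤ S → Q ≠ ⊥ → (Q.subgroupOf S).Characteristic →
      IsPGroup p (F.autGroup Q) := by
    intro h
    obtain ⟨P, hP⟩ := hne
    exact hP (Cfsg.Agent.S5195.result p hS F hF (Or.inl hp) h P)
  push Not at h1
  obtain ⟨Q, hQS, _hQne, hQchar, hQp⟩ := h1
  have hQn : S ≤ Subgroup.normalizer (Q : Set Ω) := by
    have : (Q.subgroupOf S).Normal := Subgroup.normal_of_characteristic _
    exact Subgroup.le_normalizer_of_normal_subgroupOf hQS
  have hRS : Q ⊔ centralizerIn S Q ≤ S := sup_le hQS inf_le_left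
  have hRn := sup_centralizerIn_normal hQS hQn
  have hRp : ¬ IsPGroup p (F.autGroup (Q ⊔ centralizerIn S Q)) :=
    fun h => hQp (isPGroup_aut_of_sup hS hF hQS hQn h)
  have hRfn := fullyNormalized_of_normal F hRS hRn
  have hRrec := receptive_of_fullyNormalized hS hF hRfn
  have hRc : F.IsCentric (Q ⊔ centralizerIn S Q) := by
    by_contra hnc
    obtain ⟨c, hc, hcR⟩ := exists_centralizer_not_mem_of_not_centric hRrec hnc
    apply hcR
    apply (le_sup_right : centralizerIn S Q ≤ Q ⊔ centralizerIn S Q)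
    refine ⟨hc.1, ?_⟩
    exact Subgroup.centralizer_le (show (Q : Set Ω) ⊆ ((Q ⊔ centralizerIn S Q : Subgroup Ω) : Set Ω) from
      fun x hx => (le_sup_left : Q ≤ Q ⊔ centralizerIn S Q) hx) hc.2
  obtain ⟨N, hN⟩ := Cfsg.Agent.S5096.result F (Q ⊔ centralizerIn S Q) hRS
  have hNsat := Cfsg.Agent.Helper84.normalizerSystem_saturated F hS hF hRfn N hN
  have hNnor := Cfsg.Agent.Helper85.normalizerSystem_isNormal hRS hN
  have hNcen := Cfsg.Agent.Helper85.normalizerSystem_isCentric hRc hN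
  have hT : normalizerIn S (Q ⊔ centralizerIn S Q) = S := inf_eq_left.mpr hRn
  obtain ⟨E, hE, hEsat, hEnor, hEcen⟩ := transport_sys hT N p
  refine ⟨E, ?_, ⟨hEsat hNsat, Q ⊔ centralizerIn S Q, hEnor _ hNnor, hEcen _ hNcen⟩,
    Q ⊔ centralizerIn S Q, fun heq => ?_⟩
  · intro P φ hφ
    rw [hE P, hN P] at hφ
    exact hφ.1
  · apply hRp
    have e1 : E.autGroup (Q ⊔ centralizerIn S Q) =
        (innerFusionSystem S).autGroup (Q ⊔ centralizerIn S Q) := by
      unfold autGroup
      rw [heq]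
    have e2 : E.autGroup (Q ⊔ centralizerIn S Q) = N.autGroup (Q ⊔ centralizerIn S Q) := by
      unfold autGroup
      rw [hE]
    have e3 := autGroup_normalizerSystem_self hRS hN
    have e4 : (innerFusionSystem S).autGroup (Q ⊔ centralizerIn S Q) =
        autInducedBy S (Q ⊔ centralizerIn S Q) := autGroup_inner_eq hRS
    rw [← e3, ← e2, e1, e4]
    exact isPGroup_autInducedBy hS _

end Cfsg.Agent.S5332
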