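import Mathlib
import Cfsg.Statements.S5240
import Cfsg.Agent.S5090
import Cfsg.Agent.S5091
import Cfsg.Agent.Lib.Helper86.SecFreeNormF

set_option autoImplicit false
open Cfsg

namespace Cfsg.Agent.S5240

/-- If a saturated fusion system is Qd(p)-free, then so is the normalizer fusion system of every fully normalized subgroup. -/
theorem result {Ω : Type*} [Group Ω] {S : Subgroup Ω} [Finite S] (p : ℕ) [Fact p.Prime] (hS : IsPGroup p S) (F : Cfsg.FusionSystem S) (hF : F.IsSaturated p) (hfree : F.IsSectionFree p ↥(Cfsg.qd p)) (Q : Subgroup Ω) (hQ : F.IsFullyNormalized Q) (N : Cfsg.FusionSystem (Cfsg.FusionSystem.normalizerIn S Q)) (hN : F.IsNormalizerSystem Q N) : N.IsSectionFree p ↥(Cfsg.qd p) := by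
  exact Cfsg.Agent.Helper86.SecFreeNorm.sectionFree_normalizer hS hF
    (fun S₁ _ hS₁ E hE => Cfsg.Agent.S5090.result p hS₁ E hE)
    (fun S₁ _ hS₁ E hE G₁ G₂ _ _ ι₁ ι₂ h₁ h₂ => Cfsg.Agent.S5091.result p hS₁ E hE ι₁ ι₂ h₁ h₂)
    hfree hQ hN

end Cfsg.Agent.S5240
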