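import Mathlib
import Cfsg.Statements.S5357
import Cfsg.Agent.Lib.Helper13.QuadMat

set_option autoImplicit false
open Cfsg QuadraticMap

namespace Cfsg.Agent.S5357

variable {n : ℕ} (Q : QuadraticForm (ZMod 3) (Fin n → ZMod 3))

theorem two_smul_ne_zero {q : ZMod 3} (hq : q ≠ 0) : (2 • q : ZMod 3) ≠ 0 := by
  revert q; decide

theorem polar_sum_right {k : ℕ} (x : Fin n → ZMod 3) (c : Fin k → ZMod 3)
    (t : Fin k → (Fin n → ZMod 3)) :
    polar (⇑Q) x (∑ i, c i • t i) = ∑ i, c i * polar (⇑Q) x (t i) := by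
  have := map_sum (polarBilin Q x) (fun i => c i • t i) Finset.univ
  simp only [polarBilin_apply_apply, polar_smul_right, smul_eq_mul] at this
  exact this

/-- an anisotropic vector orthogonal to a given orthogonal system of anisotropic vectors -/
theorem exists_orth {k : ℕ} (hk : k < n) (hQ : (QuadraticMap.polarBilin Q).Nondegenerate)
    (t : Fin k → (Fin n → ZMod 3)) (horth : ∀ i j, i ≠ j → polar (⇑Q) (t i) (t j) = 0)
    (hani : ∀ i, Q (t i) ≠ 0) : ∃ w, (∀ i, polar (⇑Q) (t i) w = 0) ∧ Q w ≠ 0 := by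
  by_contra hcon
  push Not at hcon
  let φ : (Fin n → ZMod 3) →ₗ[ZMod 3] (Fin k → ZMod 3) :=
    LinearMap.pi (fun i => QuadraticMap.polarBilin Q (t i))
  have hker : LinearMap.ker φ ≠ ⊥ := by
    apply LinearMap.ker_ne_bot_of_finrank_lt
    rw [Module.finrank_fin_fun, Module.finrank_fin_fun]
    exact hk
  obtain ⟨w, hw, hw0⟩ := Submodule.exists_mem_ne_zero_of_ne_bot hker
  have hwt : ∀ i, polar (⇑Q) (t i) w = 0 := fun i => by
    have := congrFun (LinearMap.mem_ker.1 hw) i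
    simpa [φ] using this
  apply hw0
  apply hQ.1 w
  intro y
  let coef : Fin k → ZMod 3 := fun i => (polar (⇑Q) (t i) (t i))⁻¹ * polar (⇑Q) (t i) y
  have hy' : ∀ j, polar (⇑Q) (t j) (y - ∑ i, coef i • t i) = 0 := by
    intro j
    have h1 : polar (⇑Q) (t j) (y - ∑ i, coef i • t i) =
        polar (⇑Q) (t j) y - ∑ i, coef i * polar (⇑Q) (t j) (t i) := by
      rw [polar_sub_right, polar_sum_right]
    rw [h1, Finset.sum_eq_single j]
    · have hne : polar (⇑Q) (t j) (t j) ≠ 0 := by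
        rw [polar_self]; exact two_smul_ne_zero (hani j)
      simp only [coef]
      field_simp
      ring
    · intro i _ hij
      rw [horth j i hij.symm, mul_zero]
    · simp
  have h1 := hcon _ hy'
  have h2 := hcon w hwt
  have h3 := hcon (w + (y - ∑ i, coef i • t i)) (fun i => by rw [polar_add_right, hwt, hy', add_zero])
  have h4 : polar (⇑Q) w (y - ∑ i, coef i • t i) = 0 := by
    unfold polar; rw [h3, h1, h2]; simp
  have h5 : y = (y - ∑ i, coef i • t i) + ∑ i, coef i • t i := by abel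
  show polar (⇑Q) w y = 0
  rw [h5, polar_add_right, h4, zero_add, polar_sum_right]
  apply Finset.sum_eq_zero
  intro i _
  rw [polar_comm, hwt, mul_zero]

open Cfsg.Agent.Helper13 Matrix

theorem sq_eq_one_of_ne_zero {e : ZMod 3} (he : e ≠ 0) : e * e = 1 := by
  revert e; decide

theorem eq_of_ne_zero_of_ne_neg {c q : ZMod 3} (hc : c ≠ 0) (hq : q ≠ 0) (hqc : q ≠ -c) : q = c := by
  revert c q; decide

/-- matrix of an isometry -/
def mat (g : ↥(isometryGroup (ZMod 3) (⇑Q))) : Matrix (Fin n) (Fin n) (ZMod 3) :=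
  ((g : Matrix.GeneralLinearGroup (Fin n) (ZMod 3)) : Matrix (Fin n) (Fin n) (ZMod 3))

theorem mat_injective : Function.Injective (mat Q) := fun _ _ e => Subtype.ext (Units.ext e)

theorem mat_mul (g h : ↥(isometryGroup (ZMod 3) (⇑Q))) : mat Q (g * h) = mat Q g * mat Q h := rfl

theorem mat_one : mat Q 1 = 1 := rfl

theorem mat_mul_inv (g : ↥(isometryGroup (ZMod 3) (⇑Q))) : mat Q g * mat Q g⁻¹ = 1 := by
  rw [← mat_mul, mul_inv_cancel, mat_one]

theorem mat_preserves (g : ↥(isometryGroup (ZMod 3) (⇑Q))) (x : Fin n → ZMod 3) :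
    Q (mat Q g *ᵥ x) = Q x := g.2 x x

theorem polar_mat (g : ↥(isometryGroup (ZMod 3) (⇑Q))) (x y : Fin n → ZMod 3) :
    polar (⇑Q) (mat Q g *ᵥ x) (mat Q g *ᵥ y) = polar (⇑Q) x y := by
  unfold polar
  rw [← Matrix.mulVec_add, mat_preserves, mat_preserves, mat_preserves]

theorem refl_refl {x : Fin n → ZMod 3} (hx : Q x ≠ 0) (y : Fin n → ZMod 3) :
    reflectionMatrix (⇑Q) x *ᵥ (reflectionMatrix (⇑Q) x *ᵥ y) = y := by
  rw [reflectionMatrix_mulVec, reflectionMatrix_mulVec, polar_sub_right, polar_smul_right, polar_self]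
  have : (Q x)⁻¹ * (polar (⇑Q) x y - ((Q x)⁻¹ * polar (⇑Q) x y) • (2 • Q x)) =
      - ((Q x)⁻¹ * polar (⇑Q) x y) := by
    simp only [smul_eq_mul, nsmul_eq_mul]
    field_simp
    ring
  rw [this, neg_smul]
  abel

theorem refl_mul_self {x : Fin n → ZMod 3} (hx : Q x ≠ 0) :
    reflectionMatrix (⇑Q) x * reflectionMatrix (⇑Q) x = 1 := by
  apply Matrix.mulVec_injective
  funext y
  rw [← Matrix.mulVec_mulVec, refl_refl Q hx, Matrix.one_mulVec]

theorem refl_preserves {x : Fin n → ZMod 3} (hx : Q x ≠ 0) (y : Fin n → ZMod 3) :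
    Q (reflectionMatrix (⇑Q) x *ᵥ y) = Q y := by
  rw [reflectionMatrix_mulVec, sub_eq_add_neg, ← neg_smul, QuadraticMap.map_add Q, QuadraticMap.map_smul,
    polar_smul_right, polar_comm]
  simp only [smul_eq_mul]
  field_simp
  ring

/-- the reflection in an anisotropic vector, as an isometry -/
def reflG (x : Fin n → ZMod 3) (hx : Q x ≠ 0) : ↥(isometryGroup (ZMod 3) (⇑Q)) :=
  ⟨⟨reflectionMatrix (⇑Q) x, reflectionMatrix (⇑Q) x, refl_mul_self Q hx, refl_mul_self Q hx⟩,
    fun u _ => refl_preserves Q hx u⟩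

theorem mat_reflG (x : Fin n → ZMod 3) (hx : Q x ≠ 0) : mat Q (reflG Q x hx) = reflectionMatrix (⇑Q) x :=
  rfl

theorem mat_conj (g r : ↥(isometryGroup (ZMod 3) (⇑Q))) (v : Fin n → ZMod 3)
    (hr : mat Q r = reflectionMatrix (⇑Q) v) :
    mat Q (g * r * g⁻¹) = reflectionMatrix (⇑Q) (mat Q g *ᵥ v) := by
  apply Matrix.mulVec_injective
  funext y
  have h1 : polar (⇑Q) (mat Q g *ᵥ v) y = polar (⇑Q) v (mat Q g⁻¹ *ᵥ y) := by
    conv_lhs => rw [show y = mat Q g *ᵥ (mat Q g⁻¹ *ᵥ y) by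
      rw [Matrix.mulVec_mulVec, mat_mul_inv, Matrix.one_mulVec]]
    exact polar_mat Q g _ _
  rw [mat_mul, mat_mul, hr, ← Matrix.mulVec_mulVec, ← Matrix.mulVec_mulVec, reflectionMatrix_mulVec,
    reflectionMatrix_mulVec, Matrix.mulVec_sub, Matrix.mulVec_smul, Matrix.mulVec_mulVec, mat_mul_inv,
    Matrix.one_mulVec, mat_preserves, h1]

theorem refl_smul {l : ZMod 3} (hl : l * l = 1) (w : Fin n → ZMod 3) :
    reflectionMatrix (⇑Q) (l • w) = reflectionMatrix (⇑Q) w := by
  apply Matrix.mulVec_injective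
  funext y
  rw [reflectionMatrix_mulVec, reflectionMatrix_mulVec, QuadraticMap.map_smul, polar_smul_left, smul_smul, hl,
    one_smul]
  congr 2
  rw [smul_eq_mul]
  calc (Q w)⁻¹ * (l * polar (⇑Q) w y) * l = (Q w)⁻¹ * polar (⇑Q) w y * (l * l) := by ring
    _ = _ := by rw [hl, mul_one]

variable {Q}

theorem sq_eq_one {a : ↥(isometryGroup (ZMod 3) (⇑Q))} {u : Fin n → ZMod 3} (hu : Q u ≠ 0)
    (ha : mat Q a = reflectionMatrix (⇑Q) u) : a * a = 1 :=
  mat_injective Q (by rw [mat_mul, ha, refl_mul_self Q hu, mat_one])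

theorem ne_one {a : ↥(isometryGroup (ZMod 3) (⇑Q))} {u : Fin n → ZMod 3} (hu : Q u ≠ 0)
    (ha : mat Q a = reflectionMatrix (⇑Q) u) : a ≠ 1 := by
  intro h
  have h1 : reflectionMatrix (⇑Q) u *ᵥ u = u := by rw [← ha, h, mat_one, Matrix.one_mulVec]
  rw [reflectionMatrix_mulVec, polar_self] at h1
  have h2 : (Q u)⁻¹ * (2 • Q u) = 2 := by
    simp only [nsmul_eq_mul, Nat.cast_ofNat]
    field_simp
  rw [h2] at h1
  have h3 : (2 : ZMod 3) • u = 0 := by
    have := sub_eq_self.1 h1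
    exact this
  have h4 : u = 0 := by
    rcases smul_eq_zero.1 h3 with h | h
    · exact absurd h (by decide)
    · exact h
  apply hu
  rw [h4, QuadraticMap.map_zero]

theorem conj_eq_of_orth {a b : ↥(isometryGroup (ZMod 3) (⇑Q))} {u v : Fin n → ZMod 3}
    (ha : mat Q a = reflectionMatrix (⇑Q) u) (hb : mat Q b = reflectionMatrix (⇑Q) v)
    (hf : polar (⇑Q) u v = 0) : a * b * a⁻¹ = b := by
  apply mat_injective Q
  rw [mat_conj Q a b v hb, ha, reflectionMatrix_mulVec, hf, mul_zero, zero_smul, sub_zero, hb]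

theorem conj_eq_conj_of_not_orth {a b : ↥(isometryGroup (ZMod 3) (⇑Q))} {u v : Fin n → ZMod 3}
    (huv : Q u = Q v) (hu : Q u ≠ 0)
    (ha : mat Q a = reflectionMatrix (⇑Q) u) (hb : mat Q b = reflectionMatrix (⇑Q) v)
    (hf : polar (⇑Q) u v ≠ 0) : a * b * a⁻¹ = b * a * b⁻¹ := by
  apply mat_injective Q
  rw [mat_conj Q a b v hb, mat_conj Q b a u ha, ha, hb, reflectionMatrix_mulVec, reflectionMatrix_mulVec,
    polar_comm (⇑Q) v u, ← huv]
  set e : ZMod 3 := (Q u)⁻¹ * polar (⇑Q) u v with he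
  have he0 : e ≠ 0 := mul_ne_zero (inv_ne_zero hu) hf
  have hee : e * e = 1 := sq_eq_one_of_ne_zero he0
  have hee' : (-e) * (-e) = 1 := by rw [neg_mul_neg]; exact hee
  have : u - e • v = (-e) • (v - e • u) := by
    rw [smul_sub, smul_smul, neg_mul, hee]
    simp only [neg_smul, one_smul, sub_neg_eq_add]
    abel
  rw [this, refl_smul Q hee']

variable (Q)

theorem neg_add_neg_eq (q : ZMod 3) : -q + -q + 0 = q := by
  revert q; decide

theorem eq_neg_of_ne {q r : ZMod 3} (hr : r ≠ 0) (hrq : r ≠ q) (hq : q ≠ 0) : r = -q := by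
  revert q r; decide

/-- a vector of prescribed nonzero norm orthogonal to a given orthogonal system of anisotropic vectors -/
theorem exists_norm_orth {k : ℕ} (hk : k + 1 < n) (hQ : (QuadraticMap.polarBilin Q).Nondegenerate)
    (t : Fin k → (Fin n → ZMod 3)) (horth : ∀ i j, i ≠ j → polar (⇑Q) (t i) (t j) = 0)
    (hani : ∀ i, Q (t i) ≠ 0) {q : ZMod 3} (hq : q ≠ 0) :
    ∃ y, (∀ i, polar (⇑Q) (t i) y = 0) ∧ Q y = q := by
  obtain ⟨w₁, h1, h1'⟩ := exists_orth Q (by omega) hQ t horth hani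
  by_cases e1 : Q w₁ = q
  · exact ⟨w₁, h1, e1⟩
  have e1' : Q w₁ = -q := eq_neg_of_ne h1' e1 hq
  obtain ⟨w₂, h2, h2'⟩ := exists_orth Q hk hQ (Fin.cons w₁ t) (by
      intro i j hij
      induction i using Fin.cases with
      | zero =>
        induction j using Fin.cases with
        | zero => exact absurd rfl hij
        | succ j => simp only [Fin.cons_zero, Fin.cons_succ]; rw [polar_comm]; exact h1 j
      | succ i =>
        induction j using Fin.cases with
        | zero => simp only [Fin.cons_zero, Fin.cons_succ]; exact h1 i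
        | succ j =>
          simp only [Fin.cons_succ]
          exact horth i j (fun h => hij (by rw [h]))) (by
      intro i
      induction i using Fin.cases with
      | zero => simpa using h1'
      | succ i => simpa using hani i)
  have h2t : ∀ i, polar (⇑Q) (t i) w₂ = 0 := fun i => by simpa using h2 i.succ
  have h2w : polar (⇑Q) w₁ w₂ = 0 := by simpa using h2 0
  by_cases e2 : Q w₂ = q
  · exact ⟨w₂, h2t, e2⟩
  have e2' : Q w₂ = -q := eq_neg_of_ne h2' e2 hq
  refine ⟨w₁ + w₂, fun i => by rw [polar_add_right, h1, h2t, add_zero], ?_⟩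
  rw [QuadraticMap.map_add Q, e1', e2', h2w]
  exact neg_add_neg_eq q

theorem exists_norm (hn : 2 ≤ n) (hQ : (QuadraticMap.polarBilin Q).Nondegenerate) {c : ZMod 3}
    (hc : c ≠ 0) : ∃ v, Q v = c := by
  obtain ⟨y, -, hy⟩ := exists_norm_orth Q (k := 0) (by omega) hQ (fun i => i.elim0)
    (fun i => i.elim0) (fun i => i.elim0) hc
  exact ⟨y, hy⟩

theorem exists_common (hn : 4 ≤ n) (hQ : (QuadraticMap.polarBilin Q).Nondegenerate) {c : ZMod 3}
    (hc : c ≠ 0) {u v : Fin n → ZMod 3} (hu : Q u = c) (hv : Q v = c) (hf : polar (⇑Q) u v = 0) :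
    ∃ x, Q x = c ∧ polar (⇑Q) u x ≠ 0 ∧ polar (⇑Q) v x ≠ 0 := by
  have hnc : -c ≠ 0 := neg_ne_zero.2 hc
  obtain ⟨y, hy, hyq⟩ := exists_norm_orth Q (k := 2) (by omega) hQ ![u, v] (by
      intro i j hij
      fin_cases i <;> fin_cases j
      · exact absurd rfl hij
      · simpa using hf
      · simp only [Fin.mk_one, Fin.isValue, Matrix.cons_val_one, Matrix.cons_val_fin_one, Fin.zero_eta, Matrix.cons_val_zero]
        rw [polar_comm]; exact hf
      · exact absurd rfl hij) (by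
      intro i
      fin_cases i
      · simpa [hu] using hc
      · simpa [hv] using hc) hnc
  have hyu : polar (⇑Q) u y = 0 := by simpa using hy 0
  have hyv : polar (⇑Q) v y = 0 := by simpa using hy 1
  have h2c : (2 • c : ZMod 3) ≠ 0 := two_smul_ne_zero hc
  refine ⟨u + v + y, ?_, ?_, ?_⟩
  · rw [QuadraticMap.map_add Q, QuadraticMap.map_add Q, polar_add_left, hu, hv, hf, hyq, hyu, hyv]
    ring
  · rw [polar_add_right, polar_add_right, polar_self, hu, hf, hyu, add_zero, add_zero]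
    exact h2c
  · rw [polar_add_right, polar_add_right, polar_self, hv, polar_comm, hf, hyv, zero_add, add_zero]
    exact h2c

section grp

variable {G : Type*} [Group G] {a b : G}

theorem inv_eq_self_of_sq (ha : a * a = 1) : a⁻¹ = a := inv_eq_of_mul_eq_one_left ha

theorem sq_of_conj (ha : a * a = 1) (hb : b * b = 1) (h : a * b * a⁻¹ = b) : (a * b) ^ 2 = 1 := by
  rw [inv_eq_self_of_sq ha] at h
  calc (a * b) ^ 2 = (a * b * a) * b := by rw [pow_two]; simp only [mul_assoc]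
    _ = b * b := by rw [h]
    _ = 1 := hb

theorem braid_of_conj (ha : a * a = 1) (hb : b * b = 1) (h : a * b * a⁻¹ = b * a * b⁻¹) :
    a * b * a = b * a * b := by
  rwa [inv_eq_self_of_sq ha, inv_eq_self_of_sq hb] at h

theorem cube_of_braid (ha : a * a = 1) (hb : b * b = 1) (h : a * b * a = b * a * b) :
    (a * b) ^ 3 = 1 := by
  calc (a * b) ^ 3 = (a * b * a) * (b * a * b) := by rw [pow_succ, pow_two]; simp only [mul_assoc]
    _ = (b * a * b) * (b * a * b) := by rw [h]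
    _ = b * a * (b * b) * a * b := by group
    _ = 1 := by rw [hb, mul_one, mul_assoc b a a, ha, mul_one, hb]

theorem isConj_of_braid (ha : a * a = 1) (hb : b * b = 1) (h : a * b * a = b * a * b) :
    IsConj a b := by
  rw [isConj_iff]
  refine ⟨a * b * a, ?_⟩
  have hinv : (a * b * a)⁻¹ = a * b * a := by
    rw [_root_.mul_inv_rev, _root_.mul_inv_rev, inv_eq_self_of_sq ha, inv_eq_self_of_sq hb, mul_assoc]
  rw [hinv]
  calc a * b * a * a * (a * b * a) = a * b * (a * a) * (a * b * a) := by group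
    _ = a * b * (b * a * b) := by rw [ha, mul_one, h]
    _ = a * (b * b) * a * b := by group
    _ = b := by rw [hb, mul_one, ha, one_mul]

end grp

/-- Let Q be a non-degenerate quadratic form on the n-dimensional coordinate space over the field with three elements, n ≥ 5, and c a non-zero scalar. In the subgroup of the isometry group of Q generated by the reflections in vectors v with Q(v) = c, these reflections form a single conjugacy class of 3-transpositions generating that subgroup. -/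
theorem result (n : ℕ) (hn : 5 ≤ n) (Q : QuadraticForm (ZMod 3) (Fin n → ZMod 3)) (hQ : (QuadraticMap.polarBilin Q).Nondegenerate) (c : ZMod 3) (hc : c ≠ 0) : Cfsg.IsThreeTranspositionClass {g : ↥(Cfsg.reflectionSubgroup (⇑Q) c) | (g : ↥(Cfsg.isometryGroup (ZMod 3) (⇑Q))) ∈ Cfsg.reflectionsOfNorm (⇑Q) c} := by
  -- basic facts at the level of the reflection subgroup
  have hsq : ∀ d : ↥(Cfsg.reflectionSubgroup (⇑Q) c), ∀ u : Fin n → ZMod 3, Q u = c →
      mat Q (d : ↥(Cfsg.isometryGroup (ZMod 3) (⇑Q))) = reflectionMatrix (⇑Q) u → d * d = 1 := by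
    intro d u hu hdu
    exact Subtype.ext (sq_eq_one (hu ▸ hc) hdu)
  have hbraid : ∀ d e : ↥(Cfsg.reflectionSubgroup (⇑Q) c), ∀ u v : Fin n → ZMod 3, Q u = c → Q v = c →
      mat Q (d : ↥(Cfsg.isometryGroup (ZMod 3) (⇑Q))) = reflectionMatrix (⇑Q) u →
      mat Q (e : ↥(Cfsg.isometryGroup (ZMod 3) (⇑Q))) = reflectionMatrix (⇑Q) v →
      polar (⇑Q) u v ≠ 0 → d * e * d = e * d * e := by
    intro d e u v hu hv hdu hev hf
    apply braid_of_conj (hsq d u hu hdu) (hsq e v hv hev)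
    exact Subtype.ext (conj_eq_conj_of_not_orth (hu.trans hv.symm) (hu ▸ hc) hdu hev hf)
  refine ⟨⟨?_, ?_⟩, ?_, ?_⟩
  · -- order 2
    rintro d ⟨u, hu, hdu⟩
    apply orderOf_eq_prime
    · rw [pow_two]; exact hsq d u hu hdu
    · intro h
      exact ne_one (hu ▸ hc) hdu (congrArg Subtype.val h)
  · -- products
    rintro d ⟨u, hu, hdu⟩ e ⟨v, hv, hev⟩
    by_cases hf : polar (⇑Q) u v = 0
    · left
      apply sq_of_conj (hsq d u hu hdu) (hsq e v hv hev)
      exact Subtype.ext (conj_eq_of_orth hdu hev hf)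
    · right
      exact cube_of_braid (hsq d u hu hdu) (hsq e v hv hev) (hbraid d e u v hu hv hdu hev hf)
  · -- one class
    have key : ∀ a b : ↥(Cfsg.reflectionSubgroup (⇑Q) c),
        (a : ↥(Cfsg.isometryGroup (ZMod 3) (⇑Q))) ∈ Cfsg.reflectionsOfNorm (⇑Q) c →
        (b : ↥(Cfsg.isometryGroup (ZMod 3) (⇑Q))) ∈ Cfsg.reflectionsOfNorm (⇑Q) c → IsConj a b := by
      rintro a b ⟨u, hu, hau⟩ ⟨v, hv, hbv⟩
      by_cases hf : polar (⇑Q) u v = 0
      · obtain ⟨x, hx, hux, hvx⟩ := exists_common Q (by omega) hQ hc hu hv hf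
        have hx0 : Q x ≠ 0 := hx ▸ hc
        have hrmem : reflG Q x hx0 ∈ Cfsg.reflectionSubgroup (⇑Q) c :=
          Subgroup.subset_closure ⟨x, hx, rfl⟩
        have h1 : IsConj a ⟨reflG Q x hx0, hrmem⟩ :=
          isConj_of_braid (hsq a u hu hau) (hsq _ x hx rfl) (hbraid a _ u x hu hx hau rfl hux)
        have h2 : IsConj (⟨reflG Q x hx0, hrmem⟩ : ↥(Cfsg.reflectionSubgroup (⇑Q) c)) b :=
          isConj_of_braid (hsq _ x hx rfl) (hsq b v hv hbv)
            (hbraid _ b x v hx hv rfl hbv (by rw [polar_comm]; exact hvx))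
        exact h1.trans h2
      · exact isConj_of_braid (hsq a u hu hau) (hsq b v hv hbv) (hbraid a b u v hu hv hau hbv hf)
    obtain ⟨v₀, hv₀⟩ := exists_norm Q (by omega) hQ hc
    have hv₀0 : Q v₀ ≠ 0 := hv₀ ▸ hc
    have hmem₀ : reflG Q v₀ hv₀0 ∈ Cfsg.reflectionSubgroup (⇑Q) c :=
      Subgroup.subset_closure ⟨v₀, hv₀, rfl⟩
    refine ⟨⟨reflG Q v₀ hv₀0, hmem₀⟩, ⟨v₀, hv₀, rfl⟩, ?_⟩
    ext g
    show g ∈ _ ↔ IsConj _ g
    constructor
    · intro hg
      exact key _ g ⟨v₀, hv₀, rfl⟩ hg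
    · intro hg
      obtain ⟨k, hk⟩ := isConj_iff.1 hg
      rw [← hk]
      refine ⟨mat Q (k : ↥(Cfsg.isometryGroup (ZMod 3) (⇑Q))) *ᵥ v₀, ?_, ?_⟩
      · rw [mat_preserves]; exact hv₀
      · exact mat_conj Q (k : ↥(Cfsg.isometryGroup (ZMod 3) (⇑Q))) (reflG Q v₀ hv₀0) v₀ rfl
  · exact Subgroup.closure_closure_coe_preimage

end Cfsg.Agent.S5357
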