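import Cfsg.Statements.S4089
import Mathlib
import Cfsg.Agent.Lib.Helper22.Radical
-- import your own Cfsg.Agent.* helpers here

set_option autoImplicit false
open Cfsg

namespace Cfsg.Agent.S4089

open Subgroup

variable {G : Type*} [Group G]

/-- Relative subnormality `N ⊲⊲ K` for subgroups of a fixed ambient group
(same development as in Helper90's Zipper library, repeated here to stay self-contained). -/
inductive RSN : Subgroup G → Subgroup G → Prop
  | refl (K : Subgroup G) : RSN K K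
  | step (N M K : Subgroup G) : N ≤ M → M ≤ Subgroup.normalizer (N : Set G) → RSN M K → RSN N K

theorem RSN.le {N K : Subgroup G} (h : RSN N K) : N ≤ K := by
  induction h with
  | refl => exact le_rfl
  | step N M K hNM _ _ ih => exact hNM.trans ih

theorem RSN.of_normal {N K : Subgroup G} (h1 : N ≤ K) (h2 : K ≤ normalizer (N : Set G)) :
    RSN N K :=
  RSN.step N K K h1 h2 (RSN.refl K)

theorem RSN.trans {N M K : Subgroup G} (h1 : RSN N M) (h2 : RSN M K) : RSN N K := by
  induction h1 with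
  | refl => exact h2
  | step N M' M hNM hn _ ih => exact RSN.step N M' K hNM hn (ih h2)

theorem RSN.subgroupOf_isSubnormal {N K : Subgroup G} (h : RSN N K) :
    (N.subgroupOf K).IsSubnormal := by
  induction h with
  | refl K => rw [subgroupOf_self]; exact IsSubnormal.top
  | step N M K hNM hn hMK ih =>
    have hle : N.subgroupOf K ≤ M.subgroupOf K := fun x hx => hNM hx
    refine IsSubnormal.step _ (M.subgroupOf K) hle ih ?_
    rw [normal_subgroupOf_iff_le_normalizer hle]
    intro x hx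
    rw [mem_normalizer_iff]
    intro y
    rw [mem_subgroupOf, mem_subgroupOf]
    exact (mem_normalizer_iff.mp (hn hx)) y

theorem rsn_map_subtype_of_isSubnormal {K : Subgroup G} {N' : Subgroup K} (h : N'.IsSubnormal) :
    RSN (N'.map K.subtype) K := by
  induction h with
  | top => rw [← MonoidHom.range_eq_map, range_subtype]; exact RSN.refl K
  | step H' K' h_le hSubn hN ih =>
    refine RSN.step _ (K'.map K.subtype) K (map_mono h_le) ?_ ih
    rw [normal_subgroupOf_iff_le_normalizer h_le] at hN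
    exact le_trans (map_mono hN) (le_normalizer_map _)

theorem rsn_of_subgroupOf_isSubnormal {N K : Subgroup G} (hNK : N ≤ K)
    (h : (N.subgroupOf K).IsSubnormal) : RSN N K := by
  have := rsn_map_subtype_of_isSubnormal h
  rwa [map_subgroupOf_eq_of_le hNK] at this

theorem RSN.inf_right {M K : Subgroup G} (h : RSN M K) :
    ∀ H : Subgroup G, H ≤ K → RSN (M ⊓ H) H := by
  induction h with
  | refl K => intro H hH; rw [inf_eq_right.mpr hH]; exact RSN.refl H
  | step N M K hNM hn hMK ih =>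
    intro H hH
    refine RSN.step (N ⊓ H) (M ⊓ H) H (inf_le_inf_right H hNM) ?_ (ih H hH)
    intro x hx
    rw [mem_normalizer_iff]
    intro y
    have h1 := mem_normalizer_iff.mp (hn hx.1) y
    simp only [mem_inf]
    constructor
    · rintro ⟨a, b⟩
      exact ⟨h1.mp a, H.mul_mem (H.mul_mem hx.2 b) (H.inv_mem hx.2)⟩
    · rintro ⟨a, b⟩
      refine ⟨h1.mpr a, ?_⟩
      have : y = x⁻¹ * (x * y * x⁻¹) * x := by group
      rw [this]
      exact H.mul_mem (H.mul_mem (H.inv_mem hx.2) b) hx.2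

theorem RSN.restrict {S K H : Subgroup G} (h : RSN S K) (hSH : S ≤ H) (hHK : H ≤ K) :
    RSN S H := by
  have := h.inf_right H hHK
  rwa [inf_eq_left.mpr hSH] at this

/-- Normalizers grow in `p`-groups (relative version). -/
theorem exists_mem_normalizer_not_mem [Finite G] {p : ℕ} [Fact p.Prime] {A B : Subgroup G}
    (hAB : A < B) (hB : IsPGroup p B) :
    ∃ x ∈ B, x ∈ Subgroup.normalizer (A : Set G) ∧ x ∉ A := by
  have hnil : Group.IsNilpotent B := hB.isNilpotent
  have hnc : NormalizerCondition B := Group.normalizerCondition_of_isNilpotent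
  have hlt : A.subgroupOf B < ⊤ := by
    rw [lt_top_iff_ne_top]
    intro h
    rw [Subgroup.subgroupOf_eq_top] at h
    exact (not_le_of_gt hAB) h
  have h1 := hnc _ hlt
  rw [← Subgroup.subgroupOf_normalizer_eq hAB.le] at h1
  obtain ⟨x, hxN, hxA⟩ := SetLike.exists_of_lt h1
  exact ⟨(x : G), x.2, Subgroup.mem_subgroupOf.mp hxN, fun h => hxA (Subgroup.mem_subgroupOf.mpr h)⟩

/-- Every subgroup of a `p`-group is subnormal in it. -/
theorem rsn_of_isPGroup [Finite G] {p : ℕ} [Fact p.Prime] (B : Subgroup G) (hB : IsPGroup p B) :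
    ∀ A : Subgroup G, A ≤ B → RSN A B := by
  intro A
  induction A using WellFoundedGT.induction with
  | ind A ih =>
    intro hAB
    rcases eq_or_lt_of_le hAB with h | h
    · rw [h]; exact RSN.refl B
    · obtain ⟨x, hxB, hxN, hxA⟩ := exists_mem_normalizer_not_mem h hB
      set M := normalizer (A : Set G) ⊓ B with hM
      have hAM : A ≤ M := le_inf le_normalizer hAB
      have hlt : A < M := lt_of_le_of_ne hAM (fun heq => hxA (heq ▸ ⟨hxN, hxB⟩))
      exact RSN.step A M B hAM inf_le_left (ih M hlt inf_le_right)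

theorem pCore_normal' (p : ℕ) (L : Type*) [Group L] : (Cfsg.pCore p L).Normal :=
  Subgroup.sSup_normal _ fun _ h => h.1

section radical

set_option linter.unusedSectionVars false

variable [Finite G] {p : ℕ} [Fact p.Prime]

/-- `O_p(Y)` as a subgroup of `G` is a `p`-group. -/
theorem isPGroup_pcOf (Y : Subgroup G) :
    IsPGroup p ((Cfsg.pCore p ↥Y).map Y.subtype) :=
  (Cfsg.Agent.Helper22.isPGroup_pCore p).map _

/-- A `p`-subgroup of `Y` normalized by `Y` lies in `O_p(Y)`. -/
theorem le_pcOf {Y D : Subgroup G} (hDY : D ≤ Y) (hn : Y ≤ normalizer (D : Set G))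
    (hD : IsPGroup p D) : D ≤ (Cfsg.pCore p ↥Y).map Y.subtype := by
  have h1 : (D.subgroupOf Y).Normal := (normal_subgroupOf_iff_le_normalizer hDY).mpr hn
  have h2 : IsPGroup p (D.subgroupOf Y) := hD.comap_subtype
  have h3 : D.subgroupOf Y ≤ Cfsg.pCore p ↥Y := Cfsg.Agent.Helper22.le_pCore h1 h2
  have h4 := Subgroup.map_mono (f := Y.subtype) h3
  rwa [map_subgroupOf_eq_of_le hDY] at h4

/-- `Y` normalizes `O_p(Y)`. -/
theorem le_normalizer_pcOf (Y : Subgroup G) :
    Y ≤ normalizer (((Cfsg.pCore p ↥Y).map Y.subtype : Subgroup G) : Set G) := by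
  have h1 : (Cfsg.pCore p ↥Y).Normal := pCore_normal' p ↥Y
  have h2 := le_normalizer_map (H := Cfsg.pCore p ↥Y) Y.subtype
  rw [normalizer_eq_top_iff.mpr h1, ← MonoidHom.range_eq_map, range_subtype] at h2
  exact h2

theorem le_normalizer_inf {Y A B : Subgroup G} (hA : Y ≤ normalizer (A : Set G))
    (hB : Y ≤ normalizer (B : Set G)) : Y ≤ normalizer ((A ⊓ B : Subgroup G) : Set G) := by
  intro x hx
  rw [mem_normalizer_iff]
  intro y
  simp only [mem_inf]
  rw [← (mem_normalizer_iff.mp (hA hx)) y, ← (mem_normalizer_iff.mp (hB hx)) y]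

/-- (⊇): elements of the normalizer of a `p`-subgroup `R ≥ H` subnormalize `H`. -/
theorem rsn_of_mem_normalizer {H R : Subgroup G} (hHR : H ≤ R) (hR : IsPGroup p R) {g : G}
    (hg : g ∈ normalizer (R : Set G)) : RSN H (H ⊔ zpowers g) := by
  have hL : H ⊔ zpowers g ≤ normalizer (R : Set G) :=
    sup_le (hHR.trans le_normalizer) ((zpowers_le).mpr hg)
  have h1 : RSN H (R ⊓ (H ⊔ zpowers g)) :=
    rsn_of_isPGroup _ (hR.to_le inf_le_left) H (le_inf hHR le_sup_left)
  have h2 : RSN (R ⊓ (H ⊔ zpowers g)) (H ⊔ zpowers g) :=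
    (RSN.of_normal (le_normalizer (H := R)) le_rfl).inf_right _ hL
  exact h1.trans h2

/-- (⊆): a subnormalizing element normalizes some `p`-radical subgroup containing `H`. -/
theorem exists_radical {H : Subgroup G} (hH : IsPGroup p H) {g : G}
    (hg : (H.subgroupOf (H ⊔ zpowers g)).IsSubnormal) :
    ∃ R : Subgroup G, H ≤ R ∧
      (Cfsg.pCore p (normalizer (R : Set G))).map (normalizer (R : Set G)).subtype = R ∧
      g ∈ normalizer (R : Set G) := by
  set L := H ⊔ zpowers g with hL
  have hH' : IsPGroup p (H.subgroupOf L) := hH.comap_subtype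
  have h1 : H.subgroupOf L ≤ Cfsg.pCore p ↥L :=
    Cfsg.Agent.Helper22.subnormal_isPGroup_le_pCore hg hH'
  have hHU : H ≤ (Cfsg.pCore p ↥L).map L.subtype := by
    have h2 := Subgroup.map_mono (f := L.subtype) h1
    rwa [map_subgroupOf_eq_of_le (le_sup_left : H ≤ L)] at h2
  let 𝓡 : Subgroup G → Prop := fun R => IsPGroup p R ∧ H ≤ R ∧ L ≤ normalizer (R : Set G)
  have hU0 : 𝓡 ((Cfsg.pCore p ↥L).map L.subtype) :=
    ⟨isPGroup_pcOf L, hHU, le_normalizer_pcOf L⟩
  obtain ⟨R, -, hRmax⟩ := Finite.exists_le_maximal (p := 𝓡) hU0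
  obtain ⟨hRp, hHR, hLR⟩ := hRmax.prop
  have hRR1 : R ≤ (Cfsg.pCore p (normalizer (R : Set G))).map (normalizer (R : Set G)).subtype :=
    le_pcOf le_normalizer le_rfl hRp
  have hR1 : 𝓡 ((Cfsg.pCore p (normalizer (R : Set G))).map (normalizer (R : Set G)).subtype) :=
    ⟨isPGroup_pcOf _, hHR.trans hRR1, hLR.trans (le_normalizer_pcOf _)⟩
  refine ⟨R, hHR, le_antisymm (hRmax.le_of_ge hR1 hRR1) hRR1, hLR ?_⟩
  exact (le_sup_right : zpowers g ≤ L) (mem_zpowers g)

/-- A `p`-radical subgroup is the intersection of the Sylow `p`-subgroups containing it. -/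
theorem sInf_sylow_eq_of_radical {R : Subgroup G}
    (hR : (Cfsg.pCore p (normalizer (R : Set G))).map (normalizer (R : Set G)).subtype = R) :
    sInf {K : Subgroup G | ∃ Q : Sylow p G, R ≤ (Q : Subgroup G) ∧ K = (Q : Subgroup G)} = R := by
  have hRp : IsPGroup p R := by rw [← hR]; exact isPGroup_pcOf _
  set Rs := sInf {K : Subgroup G | ∃ Q : Sylow p G, R ≤ (Q : Subgroup G) ∧ K = (Q : Subgroup G)}
    with hRs
  have hRRs : R ≤ Rs := le_sInf (by rintro K ⟨Q, hQ, rfl⟩; exact hQ)
  have hRsp : IsPGroup p Rs := by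
    obtain ⟨Q, hQ⟩ := hRp.exists_le_sylow
    exact Q.isPGroup'.to_le (sInf_le ⟨Q, hQ, rfl⟩)
  have key : ∀ n ∈ normalizer (R : Set G), ∀ x ∈ Rs, n * x * n⁻¹ ∈ Rs := by
    intro n hn x hx
    rw [hRs, Subgroup.mem_sInf]
    rintro K ⟨Q, hQ, rfl⟩
    have hQ' : R ≤ ((n⁻¹ • Q : Sylow p G) : Subgroup G) := by
      intro r hr
      rw [Sylow.coe_subgroup_smul, Subgroup.mem_pointwise_smul_iff_inv_smul_mem]
      have h1 : n * r * n⁻¹ ∈ R := (mem_normalizer_iff.mp hn r).mp hr
      have h2 := hQ h1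
      simpa using h2
    have hmem : ((n⁻¹ • Q : Sylow p G) : Subgroup G) ∈
        {K : Subgroup G | ∃ Q : Sylow p G, R ≤ (Q : Subgroup G) ∧ K = (Q : Subgroup G)} :=
      ⟨n⁻¹ • Q, hQ', rfl⟩
    have h3 : x ∈ ((n⁻¹ • Q : Sylow p G) : Subgroup G) := (sInf_le hmem) hx
    rw [Sylow.coe_subgroup_smul, Subgroup.mem_pointwise_smul_iff_inv_smul_mem] at h3
    simpa using h3
  have hnorm : normalizer (R : Set G) ≤ normalizer (Rs : Set G) := by
    intro n hn
    rw [mem_normalizer_iff]
    intro x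
    constructor
    · exact key n hn x
    · intro h
      have h1 := key n⁻¹ (inv_mem hn) _ h
      have e : n⁻¹ * (n * x * n⁻¹) * n⁻¹⁻¹ = x := by group
      rwa [e] at h1
  have hD : Rs ⊓ normalizer (R : Set G) ≤ R := by
    have h1 : Rs ⊓ normalizer (R : Set G) ≤
        (Cfsg.pCore p (normalizer (R : Set G))).map (normalizer (R : Set G)).subtype :=
      le_pcOf inf_le_right (le_normalizer_inf hnorm le_normalizer) (hRsp.to_le inf_le_left)
    rwa [hR] at h1
  refine (eq_of_le_of_not_lt hRRs ?_).symm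
  intro hlt
  obtain ⟨x, hxRs, hxN, hxR⟩ := exists_mem_normalizer_not_mem hlt hRsp
  exact hxR (hD ⟨hxRs, hxN⟩)

end radical

/-- Let G be a finite group, p a prime and H a p-subgroup of G. Then the set of elements g of G such that H is subnormal in the subgroup generated by H and g is the union of the normalizers N_G(R) over the subgroups R of G containing H with R = O_p(N_G(R)); and this set does not change when H is replaced by the intersection of all Sylow p-subgroups of G containing H. -/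
theorem result {G : Type*} [Group G] [Finite G] (p : ℕ) [Fact p.Prime]
    (H : Subgroup G) (hH : IsPGroup p H) :
    {g : G | ((H).subgroupOf (H ⊔ Subgroup.zpowers g)).IsSubnormal} =
      {g : G | ∃ R : Subgroup G, H ≤ R ∧ (Cfsg.pCore p (Subgroup.normalizer (R : Set G))).map (Subgroup.normalizer (R : Set G)).subtype = R ∧ g ∈ Subgroup.normalizer (R : Set G)} ∧
    ∀ g : G, (((H).subgroupOf (H ⊔ Subgroup.zpowers g)).IsSubnormal ↔
      (((sInf {K : Subgroup G | ∃ Q : Sylow p G, H ≤ (Q : Subgroup G) ∧ K = (Q : Subgroup G)})).subgroupOf ((sInf {K : Subgroup G | ∃ Q : Sylow p G, H ≤ (Q : Subgroup G) ∧ K = (Q : Subgroup G)}) ⊔ Subgroup.zpowers g)).IsSubnormal) := by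
  have hHs : H ≤ sInf {K : Subgroup G | ∃ Q : Sylow p G, H ≤ (Q : Subgroup G) ∧
      K = (Q : Subgroup G)} := le_sInf (by rintro K ⟨Q, hQ, rfl⟩; exact hQ)
  have hHsp : IsPGroup p (sInf {K : Subgroup G | ∃ Q : Sylow p G, H ≤ (Q : Subgroup G) ∧
      K = (Q : Subgroup G)} : Subgroup G) := by
    obtain ⟨Q, hQ⟩ := hH.exists_le_sylow
    exact Q.isPGroup'.to_le (sInf_le ⟨Q, hQ, rfl⟩)
  refine ⟨Set.ext fun g => ⟨fun hg => exists_radical hH hg, fun hg => ?_⟩, fun g => ⟨fun hg => ?_, fun hg => ?_⟩⟩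
  · obtain ⟨R, hHR, hReq, hgR⟩ := hg
    have hRp : IsPGroup p R := by rw [← hReq]; exact isPGroup_pcOf _
    exact (rsn_of_mem_normalizer hHR hRp hgR).subgroupOf_isSubnormal
  · obtain ⟨R, hHR, hReq, hgR⟩ := exists_radical hH hg
    have hRp : IsPGroup p R := by rw [← hReq]; exact isPGroup_pcOf _
    have h1 : sInf {K : Subgroup G | ∃ Q : Sylow p G, H ≤ (Q : Subgroup G) ∧
        K = (Q : Subgroup G)} ≤ R := by
      rw [← sInf_sylow_eq_of_radical hReq]
      apply sInf_le_sInf
      rintro K ⟨Q, hQ, rfl⟩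
      exact ⟨Q, hHR.trans hQ, rfl⟩
    exact (rsn_of_mem_normalizer h1 hRp hgR).subgroupOf_isSubnormal
  · have h1 := rsn_of_subgroupOf_isSubnormal le_sup_left hg
    have h2 := rsn_of_isPGroup _ hHsp H hHs
    have h3 := (h2.trans h1).restrict (le_sup_left : H ≤ H ⊔ zpowers g)
      (sup_le_sup_right hHs _)
    exact h3.subgroupOf_isSubnormal

end Cfsg.Agent.S4089
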