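import Cfsg.Statements.S5420
import Cfsg.Agent.Lib.Helper89.Basic

set_option autoImplicit false
open Cfsg

namespace Cfsg.Agent.S5420

open Cfsg.Agent.Helper89

/-- Let Q be an extraspecial 2-subgroup of the finite group G whose centralizer in G is its centre Z and which is normal in the centralizer of Z. If Z lies in the largest normal 2-subgroup of G, then Q is a large extraspecial 2-subgroup of G: it normalizes no non-trivial subgroup of G of odd order. -/
theorem result {G : Type*} [Group G] [Finite G] (Q : Subgroup G) (hL1 : Cfsg.IsExtraspecial 2 ↥Q) (hL2 : Subgroup.centralizer (Q : Set G) = ((Subgroup.center ↥Q).map Q.subtype)) (hL3 : Subgroup.centralizer (((Subgroup.center ↥Q).map Q.subtype) : Set G) ≤ Subgroup.normalizer (Q : Set G)) (hZ : ((Subgroup.center ↥Q).map Q.subtype) ≤ Cfsg.pCore 2 G) : Cfsg.IsLargeExtraspecial Q := by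
  refine ⟨hL1, hL2, hL3, ?_⟩
  intro K hKodd hQK
  have : Fact (Nat.Prime 2) := ⟨Nat.prime_two⟩
  have hZQ : (Subgroup.center ↥Q).map Q.subtype ≤ Q := by
    rintro _ ⟨x, _, rfl⟩
    exact x.2
  -- Q is a 2-group
  have hQ2 : IsPGroup 2 Q := hL1.1.1
  -- coprimality facts
  have hKQ : K ⊓ Q = ⊥ := by
    apply disjoint_iff.mp; apply Subgroup.disjoint_of_coprime_natCard
    obtain ⟨n, hn⟩ := IsPGroup.iff_card.mp hQ2
    rw [hn]
    exact Nat.Coprime.pow_right n (Nat.coprime_two_right.mpr hKodd)
  have hKO : K ⊓ pCore 2 G = ⊥ := by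
    apply disjoint_iff.mp; apply Subgroup.disjoint_of_coprime_natCard
    obtain ⟨n, hn⟩ := IsPGroup.iff_card.mp (pCore_isPGroup (G := G) (p := 2))
    rw [hn]
    exact Nat.Coprime.pow_right n (Nat.coprime_two_right.mpr hKodd)
  have hOn : (pCore 2 G).Normal := inferInstance
  -- Step 1: K centralizes Z
  have h1 : K ≤ Subgroup.centralizer (((Subgroup.center ↥Q).map Q.subtype : Subgroup G) : Set G) := by
    intro k hk
    rw [Subgroup.mem_centralizer_iff]
    intro z hz
    have hzQ : z ∈ Q := hZQ hz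
    have hzN : z ∈ Subgroup.normalizer (K : Set G) := hQK hzQ
    have hzO : z ∈ pCore 2 G := hZ hz
    have hc1 : k * z * k⁻¹ * z⁻¹ ∈ K := by
      have : z * k⁻¹ * z⁻¹ ∈ K := by
        have := (Subgroup.mem_normalizer_iff.mp hzN k⁻¹).mp (K.inv_mem hk)
        exact this
      have h2 := K.mul_mem hk this
      simpa [mul_assoc] using h2
    have hc2 : k * z * k⁻¹ * z⁻¹ ∈ pCore 2 G := by
      have : k * z * k⁻¹ ∈ pCore 2 G := hOn.conj_mem z hzO k
      exact (pCore 2 G).mul_mem this ((pCore 2 G).inv_mem hzO)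
    have hc : k * z * k⁻¹ * z⁻¹ ∈ K ⊓ pCore 2 G := ⟨hc1, hc2⟩
    rw [hKO, Subgroup.mem_bot] at hc
    have : k * z = z * k := by
      have h3 : k * z * k⁻¹ = z := by
        have := congrArg (· * z) hc
        simpa using this
      have := congrArg (· * k) h3
      simpa using this
    exact this.symm
  -- Step 2: K normalizes Q
  have h2 : K ≤ Subgroup.normalizer (Q : Set G) := h1.trans hL3
  -- Step 3: K centralizes Q
  have h3 : K ≤ Subgroup.centralizer (Q : Set G) := by
    intro k hk
    rw [Subgroup.mem_centralizer_iff]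
    intro q hq
    have hqN : q ∈ Subgroup.normalizer (K : Set G) := hQK hq
    have hkN : k ∈ Subgroup.normalizer (Q : Set G) := h2 hk
    have hc1 : k * q * k⁻¹ * q⁻¹ ∈ K := by
      have : q * k⁻¹ * q⁻¹ ∈ K :=
        (Subgroup.mem_normalizer_iff.mp hqN k⁻¹).mp (K.inv_mem hk)
      have h2 := K.mul_mem hk this
      simpa [mul_assoc] using h2
    have hc2 : k * q * k⁻¹ * q⁻¹ ∈ Q := by
      have : k * q * k⁻¹ ∈ Q := (Subgroup.mem_normalizer_iff.mp hkN q).mp hq
      exact Q.mul_mem this (Q.inv_mem hq)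
    have hc : k * q * k⁻¹ * q⁻¹ ∈ K ⊓ Q := ⟨hc1, hc2⟩
    rw [hKQ, Subgroup.mem_bot] at hc
    have : k * q = q * k := by
      have h3 : k * q * k⁻¹ = q := by
        have := congrArg (· * q) hc
        simpa using this
      have := congrArg (· * k) h3
      simpa using this
    exact this.symm
  -- Step 4
  rw [hL2] at h3
  have h4 : K ≤ K ⊓ Q := le_inf le_rfl (h3.trans hZQ)
  rw [hKQ] at h4
  exact le_bot_iff.mp h4

end Cfsg.Agent.S5420
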