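import Cfsg.Statements.S3747
import Mathlib
import Cfsg.Agent.Lib.Helper21.Layer
import Cfsg.Agent.Lib.Helper22.Bender
import Cfsg.Agent.Lib.Helper34.Components
-- import your own Cfsg.Agent.* helpers here

set_option autoImplicit false
open Cfsg

namespace Cfsg.Agent.S3747

open scoped commutatorElement

variable {G : Type*} [Group G]

/-- conjugate of a subgroup -/
def cjs (g : G) (K : Subgroup G) : Subgroup G := K.map (MulAut.conj g).toMonoidHom

theorem mem_cjs {g x : G} {K : Subgroup G} : x ∈ cjs g K ↔ ∃ k ∈ K, g * k * g⁻¹ = x := by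
  unfold cjs
  rw [Subgroup.mem_map]
  rfl

theorem normalClosure_le_sSup_cjs (K : Subgroup G) :
    Subgroup.normalClosure (K : Set G) ≤ sSup (Set.range (fun g : G => cjs g K)) := by
  unfold Subgroup.normalClosure
  rw [Subgroup.closure_le]
  intro a ha
  rw [Group.mem_conjugatesOfSet_iff] at ha
  obtain ⟨b, hb, hba⟩ := ha
  rw [isConj_iff] at hba
  obtain ⟨c, rfl⟩ := hba
  have h1 : cjs c K ≤ sSup (Set.range (fun g : G => cjs g K)) := le_sSup ⟨c, rfl⟩
  exact h1 (mem_cjs.2 ⟨b, hb, rfl⟩)

theorem zOf_cjs_eq_bot (K : Subgroup G) (hZ : Subgroup.center ↥K = ⊥) (g : G) :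
    Cfsg.Agent.Helper21.zOf (cjs g K) = ⊥ := by
  rw [eq_bot_iff]
  intro x hx
  rw [Cfsg.Agent.Helper21.mem_zOf] at hx
  obtain ⟨hxK, hxc⟩ := hx
  obtain ⟨k, hk, rfl⟩ := mem_cjs.1 hxK
  have hkc : (⟨k, hk⟩ : ↥K) ∈ Subgroup.center ↥K := by
    rw [Subgroup.mem_center_iff]
    rintro ⟨k', hk'⟩
    apply Subtype.ext
    show k' * k = k * k'
    have := hxc (g * k' * g⁻¹) (mem_cjs.2 ⟨k', hk', rfl⟩)
    have h2 : g * (k' * k) * g⁻¹ = g * (k * k') * g⁻¹ := by
      calc g * (k' * k) * g⁻¹ = g * k' * g⁻¹ * (g * k * g⁻¹) := by group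
        _ = g * k * g⁻¹ * (g * k' * g⁻¹) := this
        _ = g * (k * k') * g⁻¹ := by group
    exact mul_left_cancel (mul_right_cancel h2)
  rw [hZ, Subgroup.mem_bot] at hkc
  have hk1 : k = 1 := congrArg Subtype.val hkc
  rw [Subgroup.mem_bot, hk1]
  group

theorem part_a [Finite G] (K : Subgroup G) (hK : Cfsg.IsComponent K)
    (hZ : Subgroup.center ↥K = ⊥) :
    Subgroup.normalClosure (K : Set G) ≠ ⊥ ∧ ∀ N : Subgroup G, N.Normal →
      N ≤ Subgroup.normalClosure (K : Set G) → N = ⊥ ∨ N = Subgroup.normalClosure (K : Set G) := by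
  have hKne : K ≠ ⊥ := Cfsg.Agent.Helper22.IsQuasisimple.ne_bot hK.2
  have hKle : K ≤ Subgroup.normalClosure (K : Set G) := Subgroup.le_normalClosure
  refine ⟨?_, ?_⟩
  · intro h
    rw [h, le_bot_iff] at hKle
    exact hKne hKle
  · intro N hN hNle
    rcases Cfsg.Agent.Helper34.component_le_or_commutator_eq_bot K N hK with h | h
    · right
      exact le_antisymm hNle (Subgroup.normalClosure_le_normal h)
    · left
      rw [Subgroup.commutator_eq_bot_iff_le_centralizer] at h
      rw [eq_bot_iff]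
      intro z hz
      have hz1 : z ∈ sSup (Set.range (fun g : G => cjs g K)) :=
        normalClosure_le_sSup_cjs K (hNle hz)
      have key := Cfsg.Agent.Helper21.mem_iSup_zOf_of_finite (Set.range (fun g : G => cjs g K))
        (Set.toFinite _) ?_ z hz1 ?_
      · have hbot : (⨆ L ∈ Set.range (fun g : G => cjs g K), Cfsg.Agent.Helper21.zOf L) = ⊥ := by
          rw [eq_bot_iff]
          apply iSup₂_le
          rintro L ⟨g, rfl⟩
          exact (zOf_cjs_eq_bot K hZ g).le
        rwa [hbot] at key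
      · rintro L ⟨g, rfl⟩
        exact Cfsg.Agent.Helper22.IsComponent.conj hK g
      · rintro L ⟨g, rfl⟩ y hy
        obtain ⟨k, hk, rfl⟩ := mem_cjs.1 hy
        have hn : g⁻¹ * z * g ∈ N := by
          have := hN.conj_mem z hz g⁻¹
          simpa using this
        have hc := h hk (g⁻¹ * z * g) hn
        -- hc : g⁻¹ * z * g * k = k * (g⁻¹ * z * g)
        calc g * k * g⁻¹ * z = g * (k * (g⁻¹ * z * g)) * g⁻¹ := by group
          _ = g * ((g⁻¹ * z * g) * k) * g⁻¹ := by rw [hc]
          _ = z * (g * k * g⁻¹) := by group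

theorem nilpotent_of_commutator_eq_bot {S : Type*} [Group S] (h : commutator S = ⊥) :
    Group.IsNilpotent S := by
  have hc : Subgroup.center S = ⊤ := (commutator_eq_bot_iff_center_eq_top S).1 h
  exact ⟨⟨1, by rw [Subgroup.upperCentralSeries_one]; exact hc⟩⟩

theorem minNormal_le_layer [Finite G] (hF : Cfsg.fittingSubgroup G = ⊥) (N : Subgroup G)
    (hN1 : N ≠ ⊥) (hNn : N.Normal)
    (hmin : ∀ N' : Subgroup G, N'.Normal → N' ≤ N → N' = ⊥ ∨ N' = N) : N ≤ Cfsg.layer G := by
  have wf : WellFounded ((· < ·) : Subgroup G → Subgroup G → Prop) := wellFounded_lt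
  let T : Set (Subgroup G) := {X | X.IsSubnormal ∧ X ≠ ⊥ ∧ X ≤ N}
  have hT : T.Nonempty := ⟨N, hNn.isSubnormal, hN1, le_rfl⟩
  obtain ⟨hSsn, hS1, hSN⟩ := wf.min_mem T hT
  have hSmin : ∀ X : Subgroup G, X.IsSubnormal → X ≤ wf.min T hT → X = ⊥ ∨ X = wf.min T hT := by
    intro X hX hle
    by_cases h : X = ⊥
    · exact Or.inl h
    · right
      have hXT : X ∈ T := ⟨hX, h, hle.trans hSN⟩
      have hnlt : ¬ X < wf.min T hT := wf.not_lt_min T hXT
      exact (eq_or_lt_of_le hle).resolve_right hnlt
  generalize wf.min T hT = S at hSsn hS1 hSN hSmin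
  have hnt : Nontrivial ↥S := (Subgroup.nontrivial_iff_ne_bot S).2 hS1
  have hnorm : ∀ M : Subgroup ↥S, M.Normal → M = ⊥ ∨ M = ⊤ := by
    intro M hM
    have h1 : (M.map S.subtype).IsSubnormal := Subgroup.IsSubnormal.trans' hM.isSubnormal hSsn
    rcases hSmin _ h1 (Subgroup.map_subtype_le M) with h | h
    · left; exact (Subgroup.map_eq_bot_iff_of_injective M S.subtype_injective).1 h
    · right
      apply Subgroup.map_injective S.subtype_injective
      rw [h, ← MonoidHom.range_eq_map, Subgroup.range_subtype]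
  have hcomm : commutator ↥S = ⊤ := by
    rcases hnorm (commutator ↥S) inferInstance with h | h
    · exfalso
      have hnil : Group.IsNilpotent ↥S := nilpotent_of_commutator_eq_bot h
      have := Cfsg.Agent.Helper22.subnormal_nilpotent_le_fittingSubgroup hSsn hnil
      rw [hF, le_bot_iff] at this
      exact hS1 this
    · exact h
  have hqs : Cfsg.IsQuasisimple ↥S := by
    apply Cfsg.Agent.Helper22.isQuasisimple_of_forall_normal hcomm
    intro M hM
    rcases hnorm M hM with h | h
    · right; rw [h]; exact bot_le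
    · left; exact h
  have hcomp : Cfsg.IsComponent S := ⟨hSsn, hqs⟩
  have hSL : S ≤ Cfsg.layer G := le_sSup hcomp
  have hNC : Subgroup.normalClosure (S : Set G) = N := by
    refine (hmin _ Subgroup.normalClosure_normal (Subgroup.normalClosure_le_normal hSN)).resolve_left ?_
    intro h
    have : S ≤ Subgroup.normalClosure (S : Set G) := Subgroup.le_normalClosure
    rw [h, le_bot_iff] at this
    exact hS1 this
  rw [← hNC]
  exact Subgroup.normalClosure_le_normal hSL

theorem center_component_eq_bot [Finite G] (hF : Cfsg.fittingSubgroup G = ⊥) (K : Subgroup G)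
    (hK : Cfsg.IsComponent K) : Subgroup.center ↥K = ⊥ := by
  have h1 : ((Subgroup.center ↥K).map K.subtype).IsSubnormal :=
    Subgroup.IsSubnormal.trans' (Subgroup.Normal.isSubnormal inferInstance) hK.1
  have hnil : Group.IsNilpotent ↥((Subgroup.center ↥K).map K.subtype) := by
    have e := (Subgroup.center ↥K).equivMapOfInjective K.subtype K.subtype_injective
    have hc : Group.IsNilpotent ↥(Subgroup.center ↥K) := by
      apply nilpotent_of_commutator_eq_bot
      rw [commutator_eq_bot_iff_center_eq_top, eq_top_iff]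
      intro x _
      rw [Subgroup.mem_center_iff]
      intro g
      exact mul_comm' g x
    exact (Group.isNilpotent_congr e).1 hc
  have := Cfsg.Agent.Helper22.subnormal_nilpotent_le_fittingSubgroup h1 hnil
  rw [hF, le_bot_iff] at this
  exact (Subgroup.map_eq_bot_iff_of_injective _ K.subtype_injective).1 this

/-- Let G be a finite group. (a) If K is a component of G with trivial centre, then the normal closure of K in G is a minimal normal subgroup of G. (b) If the Fitting subgroup of G is trivial, then the layer E(G) is generated by the minimal normal subgroups of G. -/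
theorem result {G : Type*} [Group G] [Finite G] : (∀ K : Subgroup G, Cfsg.IsComponent K → Subgroup.center ↥K = ⊥ → (Subgroup.normalClosure (K : Set G) ≠ ⊥ ∧ ∀ N : Subgroup G, N.Normal → N ≤ Subgroup.normalClosure (K : Set G) → N = ⊥ ∨ N = Subgroup.normalClosure (K : Set G))) ∧ (Cfsg.fittingSubgroup G = ⊥ → sSup {N : Subgroup G | N ≠ ⊥ ∧ N.Normal ∧ ∀ N' : Subgroup G, N'.Normal → N' ≤ N → N' = ⊥ ∨ N' = N} = Cfsg.layer G) := by
  refine ⟨fun K hK hZ => part_a K hK hZ, fun hF => ?_⟩
  apply le_antisymm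
  · apply sSup_le
    rintro N ⟨hN1, hNn, hmin⟩
    exact minNormal_le_layer hF N hN1 hNn hmin
  · apply sSup_le
    intro K hK
    have hZ := center_component_eq_bot hF K hK
    obtain ⟨h1, h2⟩ := part_a K hK hZ
    have hle : Subgroup.normalClosure (K : Set G) ≤
        sSup {N : Subgroup G | N ≠ ⊥ ∧ N.Normal ∧ ∀ N' : Subgroup G, N'.Normal → N' ≤ N → N' = ⊥ ∨ N' = N} :=
      le_sSup ⟨h1, Subgroup.normalClosure_normal, h2⟩
    exact Subgroup.le_normalClosure.trans hle

end Cfsg.Agent.S3747
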