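import Cfsg.Statements.S2925
import Cfsg.Agent.Lib.Helper22.Components
import Cfsg.Agent.Lib.Helper64.Basic

set_option autoImplicit false
open Cfsg
open scoped commutatorElement

namespace Cfsg.Agent.S2925

open Subgroup

/-- A Sylow subgroup meets a subnormal subgroup in a Sylow subgroup of the latter. -/
theorem not_dvd_relIndex_inf_of_subnormal {G : Type*} [Group G] [Finite G] {p : ℕ} [Fact p.Prime]
    (P : Sylow p G) {H : Subgroup G} (hH : H.IsSubnormal) :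
    ¬ p ∣ ((P : Subgroup G) ⊓ H).relIndex H := by
  induction hH with
  | top =>
    rw [inf_top_eq, relIndex_top_right]
    exact P.not_dvd_index
  | step H K hHK _ hN ih =>
    intro hdvd
    apply ih
    have h1 := Cfsg.Agent.Helper64.inf_relIndex_dvd_index
      (((P : Subgroup G) ⊓ K).subgroupOf K) (H.subgroupOf K)
    have e1 : ((P : Subgroup G) ⊓ K).subgroupOf K ⊓ H.subgroupOf K =
        ((P : Subgroup G) ⊓ H).subgroupOf K := by
      ext x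
      simp only [mem_inf, mem_subgroupOf]
      constructor
      · rintro ⟨⟨h1, -⟩, h2⟩
        exact ⟨h1, h2⟩
      · rintro ⟨h1, h2⟩
        exact ⟨⟨h1, x.2⟩, h2⟩
    rw [e1, relIndex_subgroupOf hHK] at h1
    have e2 : (((P : Subgroup G) ⊓ K).subgroupOf K).index = ((P : Subgroup G) ⊓ K).relIndex K := rfl
    rw [e2] at h1
    exact dvd_trans hdvd h1

/-- Let K be a component of the finite group X and T a Sylow 2-subgroup of X. If some abelian normal subgroup Y of T does not normalize K, then K ⧸ Z(K) has abelian Sylow 2-subgroups. -/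
theorem result {X : Type*} [Group X] [Finite X] (K : Subgroup X) (hK : Cfsg.IsComponent K) (T : Sylow 2 X) (Y : Subgroup X) (hYT : Y ≤ (T : Subgroup X)) (hYn : (Y.subgroupOf (T : Subgroup X)).Normal) (hYab : IsMulCommutative ↥Y) (hnot : ¬ Y ≤ Subgroup.normalizer (K : Set X)) (P : Sylow 2 (↥K ⧸ Subgroup.center ↥K)) : IsMulCommutative ↥(P : Subgroup (↥K ⧸ Subgroup.center ↥K)) := by
  haveI : Fact (Nat.Prime 2) := ⟨Nat.prime_two⟩
  -- an element of `Y` moving `K`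
  obtain ⟨y, hyY, hyN⟩ : ∃ y ∈ Y, y ∉ normalizer (K : Set X) := by
    by_contra hno
    push Not at hno
    exact hnot hno
  set K' := K.map (MulAut.conj y).toMonoidHom with hK'
  have hK'c : Cfsg.IsComponent K' := Cfsg.Agent.Helper22.IsComponent.conj hK y
  have hne : K ≠ K' := by
    intro h
    apply hyN
    rw [mem_normalizer_iff_map_conj_eq]
    exact h.symm
  have hcomm : ⁅K, K'⁆ = ⊥ := Cfsg.Agent.Helper22.component_commute hK hK'c hne
  have hKK' : ∀ a ∈ K, ∀ b ∈ K', a * b = b * a := by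
    intro a ha b hb
    have := Subgroup.commutator_eq_bot_iff_le_centralizer.mp hcomm ha
    exact (mem_centralizer_iff.mp this b hb).symm
  -- the key commutation relation modulo the centre
  have key : ∀ t₁ ∈ (T : Subgroup X) ⊓ K, ∀ t₂ ∈ (T : Subgroup X) ⊓ K,
      ∀ k ∈ K, (t₂ * t₁)⁻¹ * (t₁ * t₂) * k = k * ((t₂ * t₁)⁻¹ * (t₁ * t₂)) := by
    intro t₁ ht₁ t₂ ht₂ k hk
    have hc : ∀ t ∈ (T : Subgroup X) ⊓ K, t * y * t⁻¹ * y⁻¹ ∈ Y := by
      intro t ht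
      have h1 : (⟨t, ht.1⟩ : (T : Subgroup X)) * ⟨y, hYT hyY⟩ * (⟨t, ht.1⟩ : (T : Subgroup X))⁻¹ ∈
          Y.subgroupOf (T : Subgroup X) := hYn.conj_mem _ (mem_subgroupOf.mpr hyY) _
      rw [mem_subgroupOf] at h1
      exact Y.mul_mem h1 (Y.inv_mem hyY)
    have hs : ∀ t ∈ (T : Subgroup X) ⊓ K, y * t⁻¹ * y⁻¹ ∈ K' := by
      intro t ht
      exact ⟨t⁻¹, K.inv_mem ht.2, by simp⟩
    have hab : (t₁ * y * t₁⁻¹ * y⁻¹) * (t₂ * y * t₂⁻¹ * y⁻¹) =
        (t₂ * y * t₂⁻¹ * y⁻¹) * (t₁ * y * t₁⁻¹ * y⁻¹) :=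
      setLike_mul_comm (s := Y) (hc t₁ ht₁) (hc t₂ ht₂)
    set s₁ := y * t₁⁻¹ * y⁻¹ with hs₁
    set s₂ := y * t₂⁻¹ * y⁻¹ with hs₂
    have e₁ : t₁ * y * t₁⁻¹ * y⁻¹ = t₁ * s₁ := by rw [hs₁]; group
    have e₂ : t₂ * y * t₂⁻¹ * y⁻¹ = t₂ * s₂ := by rw [hs₂]; group
    rw [e₁, e₂] at hab
    have h12 : s₁ * t₂ = t₂ * s₁ := (hKK' t₂ ht₂.2 s₁ (hs t₁ ht₁)).symm
    have h21 : s₂ * t₁ = t₁ * s₂ := (hKK' t₁ ht₁.2 s₂ (hs t₂ ht₂)).symm
    -- `w = (t₂ t₁)⁻¹ t₁ t₂ = s₂ s₁ (s₁ s₂)⁻¹`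
    have hw : (t₂ * t₁)⁻¹ * (t₁ * t₂) = s₂ * s₁ * (s₁ * s₂)⁻¹ := by
      have h3 : t₁ * t₂ * (s₁ * s₂) = t₂ * t₁ * (s₂ * s₁) := by
        calc t₁ * t₂ * (s₁ * s₂) = t₁ * (t₂ * s₁) * s₂ := by group
          _ = t₁ * (s₁ * t₂) * s₂ := by rw [h12]
          _ = (t₁ * s₁) * (t₂ * s₂) := by group
          _ = (t₂ * s₂) * (t₁ * s₁) := hab
          _ = t₂ * (s₂ * t₁) * s₁ := by group
          _ = t₂ * (t₁ * s₂) * s₁ := by rw [h21]
          _ = t₂ * t₁ * (s₂ * s₁) := by group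
      calc (t₂ * t₁)⁻¹ * (t₁ * t₂) = (t₂ * t₁)⁻¹ * (t₁ * t₂ * (s₁ * s₂)) * (s₁ * s₂)⁻¹ := by group
        _ = (t₂ * t₁)⁻¹ * (t₂ * t₁ * (s₂ * s₁)) * (s₁ * s₂)⁻¹ := by rw [h3]
        _ = s₂ * s₁ * (s₁ * s₂)⁻¹ := by group
    have hwK' : (t₂ * t₁)⁻¹ * (t₁ * t₂) ∈ K' := by
      rw [hw]
      exact K'.mul_mem (K'.mul_mem (hs t₂ ht₂) (hs t₁ ht₁))
        (K'.inv_mem (K'.mul_mem (hs t₁ ht₁) (hs t₂ ht₂)))
    exact (hKK' k hk _ hwK').symm
  -- the Sylow 2-subgroup `T ∩ K` of `K`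
  have hTKp : IsPGroup 2 (((T : Subgroup X) ⊓ K).subgroupOf K) :=
    (T.isPGroup'.to_le inf_le_left).comap_subtype
  have hsub : K.IsSubnormal := hK.1
  have hnd : ¬ 2 ∣ (((T : Subgroup X) ⊓ K).subgroupOf K).index :=
    not_dvd_relIndex_inf_of_subnormal T hsub
  set Q : Sylow 2 ↥K := hTKp.toSylow hnd with hQ
  have hQmem : ∀ a : ↥K, a ∈ (Q : Subgroup ↥K) ↔ (a : X) ∈ (T : Subgroup X) ⊓ K := by
    intro a
    rw [hQ, IsPGroup.toSylow_coe, mem_subgroupOf]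
  -- commutation modulo the centre in `Q`
  have hQcomm : ∀ a ∈ (Q : Subgroup ↥K), ∀ b ∈ (Q : Subgroup ↥K),
      (QuotientGroup.mk a : ↥K ⧸ center ↥K) * QuotientGroup.mk b =
        QuotientGroup.mk b * QuotientGroup.mk a := by
    intro a ha b hb
    rw [← QuotientGroup.mk_mul, ← QuotientGroup.mk_mul, eq_comm, QuotientGroup.eq,
      Subgroup.mem_center_iff]
    intro k
    apply Subtype.ext
    have := key a ((hQmem a).mp ha) b ((hQmem b).mp hb) k k.2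
    simp only [Subgroup.coe_mul, Subgroup.coe_inv]
    exact this.symm
  -- every Sylow subgroup of the quotient is the image of a conjugate of `Q`
  obtain ⟨Q', hQ'⟩ := Sylow.mapSurjective_surjective (QuotientGroup.mk'_surjective (center ↥K)) 2 P
  obtain ⟨g, hg⟩ := MulAction.exists_smul_eq ↥K Q Q'
  rw [← Subgroup.le_centralizer_iff_isMulCommutative]
  intro a ha
  rw [mem_centralizer_iff]
  intro b hb
  have ha' : a ∈ ((Q'.mapSurjective (QuotientGroup.mk'_surjective (center ↥K)) : Sylow 2 _) :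
      Subgroup (↥K ⧸ center ↥K)) := by rw [hQ']; exact ha
  have hb' : b ∈ ((Q'.mapSurjective (QuotientGroup.mk'_surjective (center ↥K)) : Sylow 2 _) :
      Subgroup (↥K ⧸ center ↥K)) := by rw [hQ']; exact hb
  rw [Sylow.coe_mapSurjective] at ha' hb'
  obtain ⟨a₀, ha₀, rfl⟩ := ha'
  obtain ⟨b₀, hb₀, rfl⟩ := hb'
  rw [← hg] at ha₀ hb₀
  have hsm : ∀ x : ↥K, x ∈ ((g • Q : Sylow 2 ↥K) : Subgroup ↥K) → g⁻¹ * x * g ∈ (Q : Subgroup ↥K) := by
    intro x hx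
    rw [Sylow.coe_subgroup_smul, Subgroup.mem_pointwise_smul_iff_inv_smul_mem] at hx
    simpa [MulAut.smul_def] using hx
  have h1 := hQcomm _ (hsm a₀ ha₀) _ (hsm b₀ hb₀)
  simp only [QuotientGroup.mk'_apply]
  have ea : (QuotientGroup.mk a₀ : ↥K ⧸ center ↥K) =
      QuotientGroup.mk g * QuotientGroup.mk (g⁻¹ * a₀ * g) * (QuotientGroup.mk g)⁻¹ := by
    rw [← QuotientGroup.mk_mul, ← QuotientGroup.mk_inv, ← QuotientGroup.mk_mul]
    congr 1
    group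
  have eb : (QuotientGroup.mk b₀ : ↥K ⧸ center ↥K) =
      QuotientGroup.mk g * QuotientGroup.mk (g⁻¹ * b₀ * g) * (QuotientGroup.mk g)⁻¹ := by
    rw [← QuotientGroup.mk_mul, ← QuotientGroup.mk_inv, ← QuotientGroup.mk_mul]
    congr 1
    group
  rw [ea, eb]
  calc QuotientGroup.mk g * QuotientGroup.mk (g⁻¹ * b₀ * g) * (QuotientGroup.mk g)⁻¹ *
        (QuotientGroup.mk g * QuotientGroup.mk (g⁻¹ * a₀ * g) * (QuotientGroup.mk g)⁻¹)
      = (QuotientGroup.mk g : ↥K ⧸ center ↥K) *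
          (QuotientGroup.mk (g⁻¹ * b₀ * g) * QuotientGroup.mk (g⁻¹ * a₀ * g)) *
          (QuotientGroup.mk g)⁻¹ := by group
    _ = (QuotientGroup.mk g : ↥K ⧸ center ↥K) *
          (QuotientGroup.mk (g⁻¹ * a₀ * g) * QuotientGroup.mk (g⁻¹ * b₀ * g)) *
          (QuotientGroup.mk g)⁻¹ := by rw [h1]
    _ = _ := by group

end Cfsg.Agent.S2925
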