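import Cfsg.Statements.S0046
import Mathlib

set_option autoImplicit false
open Cfsg
open Pointwise

namespace Cfsg.Agent.S0046

lemma mem_conj_smul {G : Type*} [Group G] (g x : G) (H : Subgroup G) :
    x ∈ MulAut.conj g • H ↔ g⁻¹ * x * g ∈ H := by
  rw [Subgroup.mem_pointwise_smul_iff_inv_smul_mem, MulAut.smul_def, ← map_inv, MulAut.conj_apply, inv_inv]

/-- normalizer growth inside a nilpotent subgroup -/
lemma exists_normalizer_not_mem {G : Type*} [Group G] (M : Subgroup G) [hnil : Group.IsNilpotent M]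
    (D : Subgroup G) (hDP : D ≤ M) (hne : D ≠ M) :
    ∃ x ∈ M, x ∈ Subgroup.normalizer (D : Set G) ∧ x ∉ D := by
  have hnc := Group.normalizerCondition_of_isNilpotent (G := M)
  have hlt : D.subgroupOf M < ⊤ := by
    rw [lt_top_iff_ne_top, Ne, Subgroup.subgroupOf_eq_top]
    intro h
    exact hne (le_antisymm hDP h)
  have h2 := hnc _ hlt
  obtain ⟨y, hyN, hyD⟩ := SetLike.exists_of_lt h2
  refine ⟨y.1, y.2, ?_, ?_⟩
  · rw [Subgroup.mem_normalizer_iff]
    rw [Subgroup.mem_normalizer_iff] at hyN
    intro d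
    constructor
    · intro hd
      have := (hyN ⟨d, hDP hd⟩).mp (by rw [Subgroup.mem_subgroupOf]; exact hd)
      rw [Subgroup.mem_subgroupOf] at this
      simpa using this
    · intro hd
      have hdP : d ∈ M := by
        have h3 : (y : G)⁻¹ * ((y : G) * d * (y : G)⁻¹) * (y : G) ∈ M :=
          Subgroup.mul_mem _ (Subgroup.mul_mem _ (Subgroup.inv_mem _ y.2) (hDP hd)) y.2
        have e : (y : G)⁻¹ * ((y : G) * d * (y : G)⁻¹) * (y : G) = d := by group
        rwa [e] at h3
      have := (hyN ⟨d, hdP⟩).mpr (by rw [Subgroup.mem_subgroupOf]; simpa using hd)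
      rw [Subgroup.mem_subgroupOf] at this
      exact this
  · intro h
    apply hyD
    rw [Subgroup.mem_subgroupOf]; exact h

/-- the set of nonidentity elements lying in a conjugate of `M` -/
def conjUnion {G : Type*} [Group G] (M : Subgroup G) : Set G :=
  {z | z ≠ 1 ∧ ∃ g : G, g⁻¹ * z * g ∈ M}

lemma ncard_conjUnion {G : Type*} [Group G] [Finite G] (M : Subgroup G)
    (hTI : ∀ g : G, g ∉ M → M ⊓ MulAut.conj g • M = ⊥) :
    (conjUnion M).ncard = M.index * (Nat.card M - 1) := by
  let θ : (G ⧸ M) × {y : M // y ≠ 1} → G := fun s => s.1.out * (s.2.1 : G) * (s.1.out)⁻¹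
  have hinj : Function.Injective θ := by
    rintro ⟨c, y, hy⟩ ⟨c', y', hy'⟩ h
    simp only [θ] at h
    have hg : (c.out)⁻¹ * c'.out ∈ M := by
      by_contra hg
      have h1 := hTI _ hg
      have h2 : (y : G) ∈ M ⊓ MulAut.conj ((c.out)⁻¹ * c'.out) • M := by
        rw [Subgroup.mem_inf]
        refine ⟨y.2, ?_⟩
        rw [mem_conj_smul]
        have e : ((c.out)⁻¹ * c'.out)⁻¹ * (y : G) * ((c.out)⁻¹ * c'.out)
            = (c'.out)⁻¹ * (c.out * y * (c.out)⁻¹) * c'.out := by group
        rw [e, h]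
        have e2 : (c'.out)⁻¹ * (c'.out * (y' : G) * (c'.out)⁻¹) * c'.out = y' := by group
        rw [e2]; exact y'.2
      rw [h1, Subgroup.mem_bot] at h2
      exact hy (Subtype.ext h2)
    have hc : c = c' := by
      rw [← QuotientGroup.out_eq' c, ← QuotientGroup.out_eq' c']
      exact QuotientGroup.eq.mpr hg
    subst hc
    have : (y : G) = y' := by
      have e : (y : G) = (c.out)⁻¹ * (c.out * y * (c.out)⁻¹) * c.out := by group
      rw [e, h]; group
    have hyy : y = y' := Subtype.ext this
    subst hyy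
    rfl
  have hrange : Set.range θ = conjUnion M := by
    ext z
    constructor
    · rintro ⟨⟨c, y, hy⟩, rfl⟩
      simp only [θ]
      refine ⟨?_, c.out, ?_⟩
      · intro h1
        apply hy
        apply Subtype.ext
        have e : (y : G) = (c.out)⁻¹ * (c.out * y * (c.out)⁻¹) * c.out := by group
        rw [e, h1]; simp
      · have e : (c.out)⁻¹ * (c.out * (y : G) * (c.out)⁻¹) * c.out = y := by group
        rw [e]; exact y.2
    · rintro ⟨hz1, g, hg⟩
      set c : G ⧸ M := QuotientGroup.mk g with hc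
      have hag : (c.out)⁻¹ * g ∈ M := by
        rw [← QuotientGroup.eq, QuotientGroup.out_eq']
      have hy : (c.out)⁻¹ * z * c.out ∈ M := by
        have e : (c.out)⁻¹ * z * c.out = ((c.out)⁻¹ * g) * (g⁻¹ * z * g) * ((c.out)⁻¹ * g)⁻¹ := by group
        rw [e]
        exact M.mul_mem (M.mul_mem hag hg) (M.inv_mem hag)
      refine ⟨⟨c, ⟨⟨_, hy⟩, ?_⟩⟩, ?_⟩
      · intro h1
        apply hz1
        have h2 : (c.out)⁻¹ * z * c.out = 1 := congrArg Subtype.val h1
        have e : z = c.out * ((c.out)⁻¹ * z * c.out) * (c.out)⁻¹ := by group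
        rw [e, h2]; group
      · simp only [θ]; group
  rw [← hrange, Set.ncard_range_of_injective hinj, Nat.card_prod]
  congr 1
  have h1 : Nat.card {y : M // y ≠ 1} = ({y : M | y ≠ 1}).ncard := rfl
  have h2 : {y : M | y ≠ 1} = (Set.univ : Set M) \ {1} := by
    ext y; simp
  rw [h1, h2, Set.ncard_sdiff_singleton_of_mem (Set.mem_univ _), Set.ncard_univ]

lemma conj_coatom {G : Type*} [Group G] (M : Subgroup G) (hM : IsCoatom M) (g : G) :
    IsCoatom (MulAut.conj g • M) := by
  constructor
  · intro h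
    apply hM.1
    rw [eq_top_iff]
    intro x _
    have : g * x * g⁻¹ ∈ MulAut.conj g • M := by rw [h]; trivial
    rw [mem_conj_smul] at this
    have e : g⁻¹ * (g * x * g⁻¹) * g = x := by group
    rwa [e] at this
  · intro K hK
    have h1 : M < (MulAut.conj g)⁻¹ • K := by
      constructor
      · rw [← Subgroup.pointwise_smul_subset_iff]; exact hK.le
      · intro h
        apply hK.not_ge
        rw [← Subgroup.pointwise_smul_le_pointwise_smul_iff (a := (MulAut.conj g)⁻¹), inv_smul_smul]
        exact h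
    have h2 := hM.2 _ h1
    rw [eq_top_iff]
    intro x _
    have : g⁻¹ * x * g ∈ (MulAut.conj g)⁻¹ • K := by rw [h2]; trivial
    rw [← map_inv, mem_conj_smul, inv_inv] at this
    have e : g * (g⁻¹ * x * g) * g⁻¹ = x := by group
    rwa [e] at this


lemma simple_case {G : Type*} [Group G] [Finite G]
    (hsimple : ∀ N : Subgroup G, N.Normal → N = ⊥ ∨ N = ⊤)
    (hnil : ∀ M : Subgroup G, IsCoatom M → Group.IsNilpotent M)
    (hnc : ¬ ∀ a b : G, a * b = b * a) : False := by
  -- G is not cyclic: every cyclic subgroup is proper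
  have hzp : ∀ x : G, Subgroup.zpowers x ≠ ⊤ := by
    intro x hx
    apply hnc
    intro a b
    have ha : a ∈ Subgroup.zpowers x := by rw [hx]; trivial
    have hb : b ∈ Subgroup.zpowers x := by rw [hx]; trivial
    obtain ⟨i, rfl⟩ := Subgroup.mem_zpowers_iff.mp ha
    obtain ⟨j, rfl⟩ := Subgroup.mem_zpowers_iff.mp hb
    rw [← zpow_add, ← zpow_add, add_comm]
  -- coatoms are nontrivial
  have hcoatom_ne_bot : ∀ M : Subgroup G, IsCoatom M → M ≠ ⊥ := by
    intro M hM hbot
    subst hbot
    have : ∃ x : G, x ≠ 1 := by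
      by_contra h
      push Not at h
      apply hnc
      intro a b; rw [h a, h b]
    obtain ⟨x, hx⟩ := this
    have h1 : (⊥ : Subgroup G) < Subgroup.zpowers x := by
      rw [bot_lt_iff_ne_bot]
      intro h
      apply hx
      have : x ∈ Subgroup.zpowers x := Subgroup.mem_zpowers x
      rwa [h, Subgroup.mem_bot] at this
    exact hzp x (hM.2 _ h1)
  -- coatoms are self-normalizing
  have hselfnorm : ∀ M : Subgroup G, IsCoatom M → Subgroup.normalizer (M : Set G) = M := by
    intro M hM
    by_contra hne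
    have h1 : M < Subgroup.normalizer (M : Set G) := lt_of_le_of_ne Subgroup.le_normalizer (Ne.symm hne)
    have h2 := hM.2 _ h1
    have hn : M.Normal := Subgroup.normalizer_eq_top_iff.mp h2
    rcases hsimple M hn with h | h
    · exact hcoatom_ne_bot M hM h
    · exact hM.1 h
  -- TI property
  have hTI : ∀ M₁ M₂ : Subgroup G, IsCoatom M₁ → IsCoatom M₂ → M₁ ≠ M₂ → M₁ ⊓ M₂ = ⊥ := by
    by_contra hcon
    push Not at hcon
    obtain ⟨A₁, A₂, hA₁, hA₂, hA12, hAne⟩ := hcon
    let T := {x : Subgroup G × Subgroup G // IsCoatom x.1 ∧ IsCoatom x.2 ∧ x.1 ≠ x.2}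
    have hTne : Nonempty T := ⟨⟨(A₁, A₂), hA₁, hA₂, hA12⟩⟩
    obtain ⟨⟨⟨M₁, M₂⟩, hM₁, hM₂, hM12⟩, hmaxT⟩ := Finite.exists_max
      (fun x : T => Nat.card (x.1.1 ⊓ x.1.2 : Subgroup G))
    simp only at hM₁ hM₂ hM12
    have hmax : ∀ K₁ K₂ : Subgroup G, IsCoatom K₁ → IsCoatom K₂ → K₁ ≠ K₂ →
        Nat.card (K₁ ⊓ K₂ : Subgroup G) ≤ Nat.card (M₁ ⊓ M₂ : Subgroup G) :=
      fun K₁ K₂ h1 h2 h3 => hmaxT ⟨(K₁, K₂), h1, h2, h3⟩
    set D : Subgroup G := M₁ ⊓ M₂ with hD
    have hDbot : D ≠ ⊥ := by
      intro h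
      have h1 := hmax A₁ A₂ hA₁ hA₂ hA12
      rw [h, Subgroup.card_bot] at h1
      exact hAne (Subgroup.eq_bot_of_card_le _ h1)
    have hD1 : D ≠ M₁ := by
      intro h
      have hle : M₁ ≤ M₂ := by rw [← h]; exact inf_le_right
      rcases eq_or_lt_of_le hle with h1 | h1
      · exact hM12 h1
      · exact hM₂.1 (hM₁.2 _ h1)
    have hD2 : D ≠ M₂ := by
      intro h
      have hle : M₂ ≤ M₁ := by rw [← h]; exact inf_le_left
      rcases eq_or_lt_of_le hle with h1 | h1
      · exact hM12 h1.symm
      · exact hM₁.1 (hM₂.2 _ h1)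
    have := hnil M₁ hM₁
    have := hnil M₂ hM₂
    obtain ⟨x₁, hx₁M, hx₁N, hx₁D⟩ := exists_normalizer_not_mem M₁ D inf_le_left hD1
    obtain ⟨x₂, hx₂M, hx₂N, hx₂D⟩ := exists_normalizer_not_mem M₂ D inf_le_right hD2
    have hNtop : Subgroup.normalizer (D : Set G) ≠ ⊤ := by
      intro h
      have hn : D.Normal := Subgroup.normalizer_eq_top_iff.mp h
      rcases hsimple D hn with h1 | h1
      · exact hDbot h1
      · apply hM₁.1
        rw [eq_top_iff, ← h1]; exact inf_le_left
    obtain ⟨M₃, hM₃, hNM₃⟩ := (eq_top_or_exists_le_coatom _).resolve_left hNtop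
    have key : ∀ (Mi : Subgroup G) (x : G), IsCoatom Mi → x ∈ Mi → x ∈ Subgroup.normalizer (D : Set G) →
        x ∉ D → D ≤ Mi → M₃ = Mi := by
      intro Mi x hMi hxM hxN hxD hDMi
      by_contra hne3
      have h1 := hmax M₃ Mi hM₃ hMi hne3
      have hle : D ≤ M₃ ⊓ Mi := le_inf (Subgroup.le_normalizer.trans hNM₃) hDMi
      have := Subgroup.eq_of_le_of_card_ge hle h1
      apply hxD
      rw [this]
      exact ⟨hNM₃ hxN, hxM⟩
    have e1 := key M₁ x₁ hM₁ hx₁M hx₁N hx₁D inf_le_left
    have e2 := key M₂ x₂ hM₂ hx₂M hx₂N hx₂D inf_le_right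
    exact hM12 (e1.symm.trans e2)
  -- TI for conjugates
  have hTIconj : ∀ M : Subgroup G, IsCoatom M → ∀ g : G, g ∉ M → M ⊓ MulAut.conj g • M = ⊥ := by
    intro M hM g hg
    apply hTI M _ hM (conj_coatom M hM g)
    intro h
    apply hg
    rw [← hselfnorm M hM, Subgroup.mem_normalizer_iff]
    intro x
    have h1 : ∀ y, y ∈ M ↔ g⁻¹ * y * g ∈ M := by
      intro y
      rw [← mem_conj_smul, ← h]
    rw [h1 (g * x * g⁻¹)]
    have e : g⁻¹ * (g * x * g⁻¹) * g = x := by group
    rw [e]
  -- existence of a coatom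
  have hGnt : (⊥ : Subgroup G) ≠ ⊤ := by
    intro h
    apply hnc
    intro a b
    have ha : a ∈ (⊥ : Subgroup G) := by rw [h]; trivial
    have hb : b ∈ (⊥ : Subgroup G) := by rw [h]; trivial
    rw [Subgroup.mem_bot] at ha hb
    rw [ha, hb]
  obtain ⟨M, hM, -⟩ := (eq_top_or_exists_le_coatom (⊥ : Subgroup G)).resolve_left hGnt
  have hS₁ := ncard_conjUnion M (hTIconj M hM)
  -- sizes
  have hcardM : 2 ≤ Nat.card M := by
    have : Nontrivial M := (Subgroup.nontrivial_iff_ne_bot M).mpr (hcoatom_ne_bot M hM)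
    exact Finite.one_lt_card
  have hidxM : 2 ≤ M.index := by
    have h0 : M.index ≠ 0 := Subgroup.index_ne_zero_of_finite
    have h1 : M.index ≠ 1 := fun h => hM.1 (Subgroup.index_eq_one.mp h)
    omega
  have hmulM : Nat.card M * M.index = Nat.card G := M.card_mul_index
  -- an element outside the union of conjugates of M
  have hex : ∃ x : G, x ≠ 1 ∧ x ∉ conjUnion M := by
    by_contra h
    push Not at h
    have hsub : ({1}ᶜ : Set G) ⊆ conjUnion M := fun x hx => h x hx
    have h1 := Set.ncard_le_ncard hsub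
    have h2 : ({1}ᶜ : Set G).ncard = Nat.card G - 1 := by
      have := Set.ncard_add_ncard_compl ({1} : Set G)
      rw [Set.ncard_singleton] at this
      omega
    rw [h2, hS₁, ← hmulM] at h1
    -- m * i - 1 ≤ i * (m - 1)
    have : Nat.card M * M.index = M.index * (Nat.card M - 1) + M.index := by
      have hm : Nat.card M = (Nat.card M - 1) + 1 := by omega
      conv_lhs => rw [hm]
      ring
    omega
  obtain ⟨x, hx1, hxS⟩ := hex
  obtain ⟨L, hL, hxL⟩ := (eq_top_or_exists_le_coatom _).resolve_left (hzp x)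
  have hxL' : x ∈ L := hxL (Subgroup.mem_zpowers x)
  have hS₂ := ncard_conjUnion L (hTIconj L hL)
  have hcardL : 2 ≤ Nat.card L := by
    have : Nontrivial L := (Subgroup.nontrivial_iff_ne_bot L).mpr (hcoatom_ne_bot L hL)
    exact Finite.one_lt_card
  have hmulL : Nat.card L * L.index = Nat.card G := L.card_mul_index
  -- L is not conjugate to M
  have hLM : ∀ g : G, MulAut.conj g • M ≠ L := by
    intro g h
    apply hxS
    refine ⟨hx1, g, ?_⟩
    rw [← mem_conj_smul, h]; exact hxL'
  -- disjointness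
  have hdisj : Disjoint (conjUnion M) (conjUnion L) := by
    rw [Set.disjoint_left]
    rintro z ⟨hz1, g, hg⟩ ⟨-, k, hk⟩
    rw [← mem_conj_smul] at hg hk
    have hne : MulAut.conj g • M ≠ MulAut.conj k • L := by
      intro h
      apply hLM (k⁻¹ * g)
      rw [map_mul, mul_smul, h, map_inv, inv_smul_smul]
    have := hTI _ _ (conj_coatom M hM g) (conj_coatom L hL k) hne
    have hz : z ∈ MulAut.conj g • M ⊓ MulAut.conj k • L := ⟨hg, hk⟩
    rw [this, Subgroup.mem_bot] at hz
    exact hz1 hz
  have hunion : (conjUnion M ∪ conjUnion L).ncard = (conjUnion M).ncard + (conjUnion L).ncard :=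
    Set.ncard_union_eq hdisj
  have hsub : conjUnion M ∪ conjUnion L ⊆ ({1}ᶜ : Set G) := by
    rintro z (hz | hz)
    · exact hz.1
    · exact hz.1
  have h1 := Set.ncard_le_ncard hsub
  have h2 : ({1}ᶜ : Set G).ncard = Nat.card G - 1 := by
    have := Set.ncard_add_ncard_compl ({1} : Set G)
    rw [Set.ncard_singleton] at this
    omega
  rw [hunion, hS₁, hS₂, h2] at h1
  -- i₁ (m₁ - 1) + i₂ (m₂ - 1) ≥ n
  have e1 : Nat.card M * M.index = M.index * (Nat.card M - 1) + M.index := by
    have hm : Nat.card M = (Nat.card M - 1) + 1 := by omega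
    conv_lhs => rw [hm]
    ring
  have e2 : Nat.card L * L.index = L.index * (Nat.card L - 1) + L.index := by
    have hm : Nat.card L = (Nat.card L - 1) + 1 := by omega
    conv_lhs => rw [hm]
    ring
  have e3 : 2 * M.index ≤ Nat.card G := by rw [← hmulM]; nlinarith
  have e4 : 2 * L.index ≤ Nat.card G := by rw [← hmulL]; nlinarith
  have hpos : 0 < Nat.card G := Nat.card_pos
  omega

universe u

theorem main : ∀ (n : ℕ) (G : Type u) [Group G] [Finite G], Nat.card G = n →
    (∀ M : Subgroup G, IsCoatom M → Group.IsNilpotent M) → Group.IsSolvable G := by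
  intro n
  induction n using Nat.strong_induction_on with
  | _ n ih =>
  intro G _ _ hn h
  by_cases hs : ∃ N : Subgroup G, N.Normal ∧ N ≠ ⊥ ∧ N ≠ ⊤
  · obtain ⟨N, hNn, hNbot, hNtop⟩ := hs
    obtain ⟨M, hM, hNM⟩ := (eq_top_or_exists_le_coatom N).resolve_left hNtop
    have hMnil := h M hM
    have hNsolv : Group.IsSolvable N :=
      Group.isSolvable_of_isSolvable_injective (Subgroup.inclusion_injective hNM)
    have hsurj : Function.Surjective (QuotientGroup.mk' N) := QuotientGroup.mk'_surjective N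
    have hquot : ∀ M' : Subgroup (G ⧸ N), IsCoatom M' → Group.IsNilpotent M' := by
      intro M' hM'
      have hcoatom : IsCoatom (M'.comap (QuotientGroup.mk' N)) := by
        constructor
        · intro htop
          apply hM'.1
          rw [← Subgroup.map_comap_eq_self_of_surjective hsurj M', htop,
            Subgroup.map_top_of_surjective _ hsurj]
        · intro K hK
          have hNK : N ≤ K := by
            refine le_trans ?_ hK.le
            intro x hx
            rw [Subgroup.mem_comap]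
            have : (QuotientGroup.mk' N) x = 1 := (QuotientGroup.eq_one_iff x).mpr hx
            rw [this]; exact M'.one_mem
          have hKcomap : (K.map (QuotientGroup.mk' N)).comap (QuotientGroup.mk' N) = K := by
            rw [Subgroup.comap_map_eq_self]
            rw [QuotientGroup.ker_mk']; exact hNK
          have h1 : M' ≤ K.map (QuotientGroup.mk' N) := by
            rw [← Subgroup.map_comap_eq_self_of_surjective hsurj M']
            exact Subgroup.map_mono hK.le
          have h2 : M' ≠ K.map (QuotientGroup.mk' N) := by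
            intro h3
            apply hK.ne
            rw [h3, hKcomap]
          have h3 := hM'.2 _ (lt_of_le_of_ne h1 h2)
          rw [← hKcomap, h3, Subgroup.comap_top]
      have := h _ hcoatom
      exact Group.nilpotent_of_surjective ((QuotientGroup.mk' N).subgroupComap M')
        (MonoidHom.subgroupComap_surjective_of_surjective _ _ hsurj)
    have hcardlt : Nat.card (G ⧸ N) < n := by
      have h1 := Subgroup.card_eq_card_quotient_mul_card_subgroup N
      have h2 : 1 < Nat.card N := by
        have : Nontrivial N := (Subgroup.nontrivial_iff_ne_bot N).mpr hNbot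
        exact Finite.one_lt_card
      have h3 : 0 < Nat.card (G ⧸ N) := Nat.card_pos
      rw [← hn, h1]
      nlinarith
    have hQsolv : Group.IsSolvable (G ⧸ N) := ih _ hcardlt (G ⧸ N) rfl hquot
    exact Group.isSolvable_of_ker_le_range N.subtype (QuotientGroup.mk' N) (by simp)
  · push Not at hs
    by_cases hcomm : ∀ a b : G, a * b = b * a
    · exact Group.isSolvable_of_comm hcomm
    · exfalso
      apply simple_case _ h hcomm
      intro N hN
      by_contra hne
      push Not at hne
      exact hne.2 (hs N hN hne.1)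

/-- Schmidt's Theorem on minimal non-nilpotent groups: a finite group in which every maximal subgroup is nilpotent is solvable. -/
theorem result {G : Type*} [Group G] [Finite G]
    (h : ∀ M : Subgroup G, IsCoatom M → Group.IsNilpotent M) : Group.IsSolvable G :=
  main _ G rfl h

end Cfsg.Agent.S0046
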