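import Cfsg.Statements.S0558
import Cfsg.Agent.Lib.Helper66.NilpotentHall
import Cfsg.Agent.Lib.Helper66.SylowSub
import Cfsg.Agent.Lib.Helper64.TI

set_option autoImplicit false
open Cfsg

namespace Cfsg.Agent.S0558

theorem mem_normalizer_of_conj_mem3 {G : Type*} [Group G] [Finite G] (R : Subgroup G) (g : G)
    (h : ∀ r ∈ R, g * r * g⁻¹ ∈ R) : g ∈ Subgroup.normalizer (R : Set G) := by
  rw [Subgroup.mem_normalizer_iff_map_conj_eq]
  apply Subgroup.eq_of_le_of_card_ge
  · rintro _ ⟨r, hr, rfl⟩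
    exact h r hr
  · rw [Subgroup.card_map_of_injective (MulAut.conj g).injective]

section
variable {G : Type*} [Group G] [Finite G] (H : Subgroup G)
  (hnorm : ∀ p : ℕ, p.Prime → p ∣ Nat.card H → ∀ P : Sylow p H,
    Subgroup.normalizer (((P : Subgroup H).map H.subtype : Subgroup G) : Set G) = H)
include hnorm

/-- Sylow subgroups of `H` are normal in `H`. -/
theorem sylow_normal (p : ℕ) [Fact p.Prime] (P : Sylow p H) : (P : Subgroup H).Normal := by
  have hpp : p.Prime := Fact.out
  by_cases hp : p ∣ Nat.card H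
  · refine ⟨fun n hn g => ?_⟩
    have hg : (g : G) ∈ Subgroup.normalizer
        (((P : Subgroup H).map H.subtype : Subgroup G) : Set G) := by
      rw [hnorm p hpp hp P]; exact g.2
    have h1 : (g : G) * (n : G) * (g : G)⁻¹ ∈ (P : Subgroup H).map H.subtype :=
      (Subgroup.mem_normalizer_iff.mp hg _).mp ⟨n, hn, rfl⟩
    obtain ⟨b, hb, hb'⟩ := h1
    have : b = g * n * g⁻¹ := Subtype.ext (by simpa using hb')
    rw [← this]
    exact hb
  · have h1 : Nat.card (P : Subgroup H) = 1 := by
      rw [P.card_eq_multiplicity, Nat.factorization_eq_zero_of_not_dvd hp, pow_zero]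
    have h2 : (P : Subgroup H) = ⊥ := Subgroup.card_eq_one.mp h1
    rw [h2]
    infer_instance

theorem isNilpotent : Group.IsNilpotent H := by
  apply ((Group.isNilpotent_of_finite_tfae (G := H)).out 0 3).mpr
  intro p hp P
  exact sylow_normal H hnorm p P

/-- Sylow subgroups of `H` are Sylow subgroups of `G`. -/
theorem card_sylow (p : ℕ) [Fact p.Prime] (hp : p ∣ Nat.card H) (P : Sylow p H) :
    Nat.card ((P : Subgroup H).map H.subtype) = p ^ (Nat.card G).factorization p := by
  have hpp : p.Prime := Fact.out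
  have hP' : IsPGroup p ((P : Subgroup H).map H.subtype) := P.2.map _
  obtain ⟨S, hS⟩ := hP'.exists_le_sylow
  by_cases heq : (P : Subgroup H).map H.subtype = S
  · rw [heq]; exact S.card_eq_multiplicity
  exfalso
  obtain ⟨y, hyS, hyN, hyP⟩ := Cfsg.Agent.Helper64.exists_mem_normalizer_not_mem S _
    (lt_of_le_of_ne hS heq)
  rw [hnorm p hpp hp P] at hyN
  have : (P : Subgroup H).Normal := sylow_normal H hnorm p P
  have hz : IsPGroup p (Subgroup.zpowers (⟨y, hyN⟩ : H)) := by
    obtain ⟨k, hk⟩ := IsPGroup.iff_orderOf.mp S.2 ⟨y, hyS⟩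
    apply IsPGroup.of_card (n := k)
    rw [Nat.card_zpowers, Subgroup.orderOf_mk, ← hk, Subgroup.orderOf_mk]
  have h1 : IsPGroup p ((P : Subgroup H) ⊔ Subgroup.zpowers (⟨y, hyN⟩ : H) : Subgroup H) :=
    IsPGroup.to_sup_of_normal_left P.2 hz
  have h2 := P.is_maximal' h1 le_sup_left
  apply hyP
  refine ⟨⟨y, hyN⟩, ?_, rfl⟩
  show (⟨y, hyN⟩ : H) ∈ (P : Subgroup H)
  rw [← h2]
  exact Subgroup.mem_sup_right (Subgroup.mem_zpowers _)

theorem hall : Nat.Coprime (Nat.card H) H.index := by
  apply Nat.coprime_of_dvd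
  intro p hpp hp hpi
  have : Fact p.Prime := ⟨hpp⟩
  have P : Sylow p H := default
  have h1 := card_sylow H hnorm p hp P
  rw [Subgroup.card_map_of_injective H.subtype_injective, P.card_eq_multiplicity] at h1
  have h2 := Nat.pow_right_injective hpp.two_le h1
  rw [← Subgroup.card_mul_index H, Nat.factorization_mul Nat.card_pos.ne'
    Subgroup.index_ne_zero_of_finite] at h2
  simp only [Finsupp.coe_add, Pi.add_apply] at h2
  have h3 : (H.index).factorization p = 0 := by omega
  have h4 := (Nat.factorization_eq_zero_iff _ _).mp h3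
  rcases h4 with h4 | h4 | h4
  · exact h4 hpp
  · exact h4 hpi
  · exact Subgroup.index_ne_zero_of_finite h4

/-- control of fusion of `p`-elements, using a Sylow `q`-subgroup of `H` for a second prime -/
theorem fusion (p q : ℕ) [Fact p.Prime] [Fact q.Prime] (hpq : q ≠ p) (hq : q ∣ Nat.card H)
    (x : G) (hx : x ∈ H) (hxo : ∃ k : ℕ, orderOf x = p ^ k) (g : G) (hgx : g * x * g⁻¹ ∈ H) :
    ∃ h ∈ H, h * x * h⁻¹ = g * x * g⁻¹ := by
  have hpp : p.Prime := Fact.out
  have hqq : q.Prime := Fact.out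
  have hnil : Group.IsNilpotent H := isNilpotent H hnorm
  have Q : Sylow q H := default
  have hQcard := card_sylow H hnorm q hq Q
  -- `p`-elements of `H` centralize `Q`
  have hcent : ∀ z : G, ∀ hz : z ∈ H, (∃ k : ℕ, orderOf z = p ^ k) →
      ∀ b ∈ (Q : Subgroup H).map H.subtype, b * z = z * b := by
    rintro z hz ⟨k, hk⟩ _ ⟨b, hb, rfl⟩
    have hco : (orderOf (⟨z, hz⟩ : H)).Coprime q := by
      rw [Subgroup.orderOf_mk, hk]
      apply Nat.Coprime.pow_left
      exact (Nat.coprime_primes hpp hqq).mpr hpq.symm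
    have h1 := Cfsg.Agent.Helper90.mem_centralizer_of_coprime_of_isNilpotent q
      (Q : Subgroup H) Q.2 ⟨z, hz⟩ hco
    have h2 := Subgroup.mem_centralizer_iff.mp h1 b hb
    exact congrArg Subtype.val h2
  have hyo : ∃ k : ℕ, orderOf (g * x * g⁻¹) = p ^ k := by
    obtain ⟨k, hk⟩ := hxo
    refine ⟨k, ?_⟩
    rw [← hk]
    exact orderOf_injective (MulAut.conj g).toMonoidHom (MulAut.conj g).injective x
  -- both `Q` and its conjugate lie in the centralizer of `y = g x g⁻¹`
  have hQC : (Q : Subgroup H).map H.subtype ≤ Subgroup.centralizer ({g * x * g⁻¹} : Set G) := by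
    intro b hb
    rw [Subgroup.mem_centralizer_singleton_iff]
    exact hcent _ hgx hyo b hb
  have hQgC : ((Q : Subgroup H).map H.subtype).map (MulAut.conj g).toMonoidHom ≤
      Subgroup.centralizer ({g * x * g⁻¹} : Set G) := by
    rintro _ ⟨b, hb, rfl⟩
    rw [Subgroup.mem_centralizer_singleton_iff]
    have h1 := hcent x hx hxo b hb
    show g * b * g⁻¹ * (g * x * g⁻¹) = g * x * g⁻¹ * (g * b * g⁻¹)
    calc g * b * g⁻¹ * (g * x * g⁻¹) = g * (b * x) * g⁻¹ := by group
      _ = g * (x * b) * g⁻¹ := by rw [h1]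
      _ = g * x * g⁻¹ * (g * b * g⁻¹) := by group
  have hfac : (Nat.card (Subgroup.centralizer ({g * x * g⁻¹} : Set G))).factorization q =
      (Nat.card G).factorization q := by
    apply le_antisymm
    · exact (Nat.factorization_le_iff_dvd Nat.card_pos.ne' Nat.card_pos.ne').mpr
        (Subgroup.card_subgroup_dvd_card _) q
    · have h1 : q ^ (Nat.card G).factorization q ∣
          Nat.card (Subgroup.centralizer ({g * x * g⁻¹} : Set G)) := by
        rw [← hQcard]
        exact Subgroup.card_dvd_of_le hQC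
      exact (hqq.pow_dvd_iff_le_factorization Nat.card_pos.ne').mp h1
  have hc1 : Nat.card ((Q : Subgroup H).map H.subtype) =
      q ^ (Nat.card (Subgroup.centralizer ({g * x * g⁻¹} : Set G))).factorization q := by
    rw [hfac, hQcard]
  have hc2 : Nat.card (((Q : Subgroup H).map H.subtype).map (MulAut.conj g).toMonoidHom) =
      q ^ (Nat.card (Subgroup.centralizer ({g * x * g⁻¹} : Set G))).factorization q := by
    rw [Subgroup.card_map_of_injective (MulAut.conj g).injective, hc1]
  obtain ⟨c, hcC, hc⟩ := Cfsg.Agent.Helper66.exists_conj_of_card_eq q _ _ _ hQC hQgC hc1 hc2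
  have hcy : c * (g * x * g⁻¹) = g * x * g⁻¹ * c := Subgroup.mem_centralizer_singleton_iff.mp hcC
  refine ⟨c⁻¹ * g, ?_, ?_⟩
  · rw [← hnorm q hqq hq Q]
    apply mem_normalizer_of_conj_mem3
    intro b hb
    have h1 : g * b * g⁻¹ ∈ ((Q : Subgroup H).map H.subtype).map (MulAut.conj g).toMonoidHom :=
      ⟨b, hb, rfl⟩
    have h2 := (hc _).mp h1
    have e : c⁻¹ * g * b * (c⁻¹ * g)⁻¹ = c⁻¹ * (g * b * g⁻¹) * c := by group
    rw [e]
    exact h2
  · calc c⁻¹ * g * x * (c⁻¹ * g)⁻¹ = c⁻¹ * (g * x * g⁻¹ * c) := by group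
      _ = c⁻¹ * (c * (g * x * g⁻¹)) := by rw [hcy]
      _ = g * x * g⁻¹ := by group

end

/-- Let H be a subgroup of a finite group G that is not a Sylow subgroup of G for any prime, and suppose that for every prime p dividing the order of H and every Sylow p-subgroup P of H the normalizer of P in G is exactly H. Then some normal subgroup of G is a complement to H. -/
theorem result {G : Type*} [Group G] [Finite G] (H : Subgroup G) (hnot : ∀ p : ℕ, p.Prime → ∀ P : Sylow p G, (P : Subgroup G) ≠ H) (hnorm : ∀ p : ℕ, p.Prime → p ∣ Nat.card H → ∀ P : Sylow p H, Subgroup.normalizer (((P : Subgroup H).map H.subtype : Subgroup G) : Set G) = H) : ∃ N : Subgroup G, N.Normal ∧ Subgroup.IsComplement' N H := by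
  have hnil := isNilpotent H hnorm
  have hHall := hall H hnorm
  apply Cfsg.Agent.Helper66.exists_normal_complement_of_forall H hHall
  intro p hpp hp
  have : Fact p.Prime := ⟨hpp⟩
  -- a second prime
  obtain ⟨q, hqq, hqp, hq⟩ : ∃ q : ℕ, q.Prime ∧ q ≠ p ∧ q ∣ Nat.card H := by
    by_contra hno
    have hall' : ∀ {d : ℕ}, d.Prime → d ∣ Nat.card H → d = p := by
      intro d hd hdH
      by_contra hne
      exact hno ⟨d, hd, hne, hdH⟩
    have hpow := Nat.eq_prime_pow_of_unique_prime_dvd (Nat.card_pos (α := H)).ne' hall'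
    have P : Sylow p H := default
    have hPtop : (P : Subgroup H) = ⊤ := by
      apply Subgroup.eq_top_of_card_eq
      obtain ⟨k, hk⟩ : ∃ k : ℕ, Nat.card H = p ^ k := ⟨_, hpow⟩
      rw [P.card_eq_multiplicity, hk, Nat.Prime.factorization_pow hpp]
      simp
    have h1 := card_sylow H hnorm p hp P
    have h2 : (P : Subgroup H).map H.subtype = H := by
      rw [hPtop, ← MonoidHom.range_eq_map, Subgroup.range_subtype]
    rw [h2] at h1
    exact hnot p hpp (Sylow.ofCard H h1) (Sylow.coe_ofCard H h1)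
  have : Fact q.Prime := ⟨hqq⟩
  exact Cfsg.Agent.Helper66.hasNormalPComplement_of_fusion_p H hnil hHall p hp
    (fun x hx hxo g hgx => fusion H hnorm p q hqp hq x hx hxo g hgx)

end Cfsg.Agent.S0558
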