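import Cfsg.Statements.S0581
-- import your own Cfsg.Agent.* helpers here
import Mathlib
import Cfsg.Agent.S0536
import Cfsg.Agent.Lib.Helper90.MinNonNilp
import Cfsg.Agent.Lib.Helper1.Carter

set_option autoImplicit false
set_option linter.style.haveILetI false
open Pointwise
open Cfsg

namespace Cfsg.Agent.S0581


open Subgroup

theorem isNilpotent_of_injective' {A B : Type*} [Group A] [Group B] [hB : Group.IsNilpotent B]
    (f : A →* B) (hf : Function.Injective f) : Group.IsNilpotent A := by
  have h1 : Group.IsNilpotent f.range := inferInstance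
  exact Group.nilpotent_of_mulEquiv (MonoidHom.ofInjective hf).symm

theorem isNilpotent_conj_smul {G : Type*} [Group G] (H : Subgroup G) (hH : Group.IsNilpotent H)
    (x : G) : Group.IsNilpotent (MulAut.conj x • H : Subgroup G) :=
  Group.nilpotent_of_mulEquiv (Subgroup.equivSMul (MulAut.conj x) H)

theorem card_conj_smul {G : Type*} [Group G] (H : Subgroup G) (x : G) :
    Nat.card (MulAut.conj x • H : Subgroup G) = Nat.card H :=
  Nat.card_congr (Subgroup.equivSMul (MulAut.conj x) H).toEquiv.symm

theorem index_conj_smul {G : Type*} [Group G] [Finite G] (H : Subgroup G) (x : G) :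
    (MulAut.conj x • H : Subgroup G).index = H.index := by
  have h1 := (MulAut.conj x • H : Subgroup G).card_mul_index
  have h2 := H.card_mul_index
  rw [card_conj_smul] at h1
  have hpos : 0 < Nat.card H := Nat.card_pos
  exact Nat.eq_of_mul_eq_mul_left hpos (h1.trans h2.symm)

theorem mem_conj_smul_iff {G : Type*} [Group G] (H : Subgroup G) (x g : G) :
    g ∈ (MulAut.conj x • H : Subgroup G) ↔ x⁻¹ * g * x ∈ H := by
  rw [Subgroup.mem_pointwise_smul_iff_inv_smul_mem, MulAut.smul_def, ← map_inv,
    MulAut.conj_apply, inv_inv]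

/-- a nontrivial finite group all of whose proper subgroups are nilpotent has a proper normal
`p'`-subgroup of `p`-power index -/
theorem exists_normal_pprime_of_proper_nilpotent {K : Type*} [Group K] [Finite K] [Nontrivial K]
    (h : ∀ L : Subgroup K, L ≠ ⊤ → Group.IsNilpotent L) :
    ∃ p : ℕ, p.Prime ∧ p ∣ Nat.card K ∧ ∃ T : Subgroup K, T.Normal ∧ (Nat.card T).Coprime p ∧
      ∃ k : ℕ, T.index = p ^ k := by
  by_cases hn : Group.IsNilpotent K
  · have hc : Nat.card K ≠ 1 := by
      have := Finite.one_lt_card (α := K)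
      omega
    obtain ⟨p, hp, hpd⟩ := Nat.exists_prime_and_dvd hc
    haveI : Fact p.Prime := ⟨hp⟩
    obtain ⟨Q, hQn, hQc, k, hk⟩ := Cfsg.Agent.Helper1.Carter.exists_normal_hall_compl (G := K) p
    exact ⟨p, hp, hpd, Q, hQn, hQc, k, hk⟩
  · have hmin : Cfsg.IsMinimalNonNilpotent K := ⟨hn, h⟩
    obtain ⟨p, q, hp, hq, hpq, P, Q, -, hQn, hsup⟩ := Cfsg.Agent.S0536.result hmin
    haveI : Fact p.Prime := ⟨hp⟩
    haveI : Fact q.Prime := ⟨hq⟩
    have hQc : (Nat.card (Q : Subgroup K)).Coprime p := by
      obtain ⟨m, hm⟩ := IsPGroup.iff_card.mp Q.isPGroup'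
      rw [hm]
      exact Nat.Coprime.pow_left m ((Nat.coprime_primes hq hp).mpr hpq.symm)
    have hidx : (Q : Subgroup K).index ∣ Nat.card (P : Subgroup K) := by
      have h1 : (Q : Subgroup K).index = (Q : Subgroup K).relIndex (P : Subgroup K) := by
        rw [← Subgroup.relIndex_sup_right, hsup, Subgroup.relIndex_top_right]
      rw [h1]
      exact Subgroup.relIndex_dvd_card _ _
    obtain ⟨m, hm⟩ := IsPGroup.iff_card.mp P.isPGroup'
    rw [hm] at hidx
    obtain ⟨k, -, hk⟩ := (Nat.dvd_prime_pow hp).mp hidx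
    have hk0 : k ≠ 0 := by
      rintro rfl
      rw [pow_zero, Subgroup.index_eq_one] at hk
      apply hn
      have h1 : IsPGroup q K := by
        intro x
        obtain ⟨j, hj⟩ := Q.isPGroup' ⟨x, by rw [hk]; trivial⟩
        exact ⟨j, by simpa using congrArg Subtype.val hj⟩
      exact h1.isNilpotent
    refine ⟨p, hp, ?_, Q, hQn, hQc, k, hk⟩
    have h1 : p ∣ (Q : Subgroup K).index := by
      rw [hk]; exact dvd_pow_self p hk0
    exact h1.trans (Subgroup.index_dvd_card _)

/-- the conjugation step -/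
theorem core {G : Type*} [Group G] [Finite G] (H : Subgroup G) (hH : Group.IsNilpotent H)
    (hHall : (Nat.card H).Coprime H.index) (p : ℕ) [hp : Fact p.Prime] (hpH : p ∣ Nat.card H)
    (T R : Subgroup G) (hTH : T ≤ H) (hT : (Nat.card T).Coprime p) (hR : IsPGroup p R)
    (hRT : R ≤ normalizer (T : Set G)) :
    ∃ n : G, T ⊔ R ≤ MulAut.conj n • H := by
  classical
  have hpp : p.Prime := hp.out
  let S₀ : Sylow p H := default
  set S : Subgroup G := (S₀ : Subgroup H).map H.subtype with hS
  have hidx : ¬ p ∣ H.index := by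
    intro h
    have := Nat.dvd_gcd hpH h
    rw [hHall] at this
    exact hpp.one_lt.ne' (Nat.dvd_one.mp this)
  have hcard : Nat.card S = p ^ (Nat.card G).factorization p := by
    rw [hS, Subgroup.card_map_of_injective H.subtype_injective, S₀.card_eq_multiplicity,
      ← Subgroup.card_mul_index H,
      Nat.factorization_mul Nat.card_pos.ne' Subgroup.index_ne_zero_of_finite]
    simp [Nat.factorization_eq_zero_of_not_dvd hidx]
  -- `S` centralizes `T`
  have hcent : ∀ s ∈ S, ∀ t ∈ T, s * t = t * s := by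
    intro s hs t ht
    obtain ⟨s₀, hs₀, rfl⟩ := hs
    have htH : t ∈ H := hTH ht
    have hord : (orderOf (⟨t, htH⟩ : H)).Coprime p := by
      have h1 : orderOf (⟨t, htH⟩ : H) = orderOf (⟨t, ht⟩ : T) := by
        rw [← Subgroup.orderOf_coe, ← Subgroup.orderOf_coe (⟨t, ht⟩ : T)]
      rw [h1]
      exact Nat.Coprime.coprime_dvd_left (orderOf_dvd_natCard _) hT
    have h2 := Cfsg.Agent.Helper90.mem_centralizer_of_coprime_of_isNilpotent (N := H) p
      (S₀ : Subgroup H) S₀.isPGroup' ⟨t, htH⟩ hord
    have h3 := h2 s₀ hs₀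
    have h4 := congrArg Subtype.val h3
    simpa using h4
  have hSN : S ≤ normalizer (T : Set G) := by
    intro s hs
    rw [Subgroup.mem_normalizer_iff]
    intro g
    constructor
    · intro hg
      have := hcent s hs g hg
      rw [this, mul_inv_cancel_right]
      exact hg
    · intro hg
      have := hcent s hs _ hg
      have h5 : s * (s * g * s⁻¹) = s * g := by rw [this]; group
      have h6 : s * g * s⁻¹ = g := mul_left_cancel h5
      rw [← h6]; exact hg
  set N : Subgroup G := normalizer (T : Set G) with hN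
  let SG : Sylow p G := Sylow.ofCard S hcard
  have hSGN : (SG : Subgroup G) ≤ N := hSN
  let S' : Sylow p N := SG.subtype hSGN
  have hR' : IsPGroup p (R.subgroupOf N) := hR.comap_subtype
  obtain ⟨Q', hQ'⟩ := hR'.exists_le_sylow
  obtain ⟨n, hn⟩ := MulAction.exists_smul_eq N S' Q'
  refine ⟨(n : G), ?_⟩
  rw [sup_le_iff]
  constructor
  · intro t ht
    rw [mem_conj_smul_iff]
    apply hTH
    have hn' : ((n : G))⁻¹ ∈ normalizer (T : Set G) := inv_mem n.2
    have := (Subgroup.mem_normalizer_iff.mp hn' t).mp ht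
    simpa using this
  · intro r hr
    rw [mem_conj_smul_iff]
    have h1 : (⟨r, hRT hr⟩ : N) ∈ R.subgroupOf N := by
      rw [Subgroup.mem_subgroupOf]; exact hr
    have h2 : (⟨r, hRT hr⟩ : N) ∈ (Q' : Subgroup N) := hQ' h1
    rw [← hn, Sylow.smul_def] at h2
    have h3 : (⟨r, hRT hr⟩ : N) ∈ MulAut.conj n • (S' : Subgroup N) := h2
    rw [mem_conj_smul_iff] at h3
    have h4 : n⁻¹ * (⟨r, hRT hr⟩ : N) * n ∈ (SG : Subgroup G).subgroupOf N := by
      rw [← Sylow.coe_subtype]; exact h3
    rw [Subgroup.mem_subgroupOf] at h4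
    have h5' : ((n : G))⁻¹ * r * n ∈ (SG : Subgroup G) := by simpa using h4
    have h5 : ((n : G))⁻¹ * r * n ∈ S := h5'
    rw [hS] at h5
    obtain ⟨s₀, -, hs₀⟩ := h5
    rw [← hs₀]
    exact s₀.2

/-- Let H be a nilpotent subgroup of a finite group G whose order is coprime to its index, and K a subgroup every prime divisor of whose order divides the order of H. Then K lies in some conjugate of H. -/
theorem result {G : Type*} [Group G] [Finite G] (H K : Subgroup G) (hH : Group.IsNilpotent H) (hHall : (Nat.card H).Coprime H.index) (hK : ∀ p : ℕ, p.Prime → p ∣ Nat.card K → p ∣ Nat.card H) : ∃ x : G, K ≤ MulAut.conj x • H := by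
  classical
  suffices h : ∀ n : ℕ, ∀ K : Subgroup G, Nat.card K = n →
      (∀ p : ℕ, p.Prime → p ∣ Nat.card K → p ∣ Nat.card H) → ∃ x : G, K ≤ MulAut.conj x • H from
    h _ K rfl hK
  intro n
  induction n using Nat.strong_induction_on with
  | _ n ih =>
  intro K hKn hK
  by_cases hKbot : K = ⊥
  · exact ⟨1, by rw [hKbot]; exact bot_le⟩
  haveI : Nontrivial K := (Subgroup.nontrivial_iff_ne_bot K).mpr hKbot
  have hcardmap : ∀ L : Subgroup K, Nat.card (L.map K.subtype) = Nat.card L := fun L =>
    Subgroup.card_map_of_injective K.subtype_injective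
  have hlt : ∀ L : Subgroup K, L ≠ ⊤ → Nat.card (L.map K.subtype) < n := by
    intro L hL
    rw [hcardmap, ← hKn]
    have h1 : Nat.card L * L.index = Nat.card K := L.card_mul_index
    have h2 : L.index ≠ 1 := fun h => hL (Subgroup.index_eq_one.mp h)
    have h3 : L.index ≠ 0 := Subgroup.index_ne_zero_of_finite
    have h4 : 0 < Nat.card L := Nat.card_pos
    nlinarith [show 2 ≤ L.index by omega]
  have hdvd : ∀ L : Subgroup K, ∀ p : ℕ, p.Prime → p ∣ Nat.card (L.map K.subtype) →
      p ∣ Nat.card H := by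
    intro L p hp hpd
    rw [hcardmap] at hpd
    exact hK p hp (hpd.trans (Subgroup.card_subgroup_dvd_card L))
  have hprop : ∀ L : Subgroup K, L ≠ ⊤ → Group.IsNilpotent L := by
    intro L hL
    obtain ⟨x, hx⟩ := ih _ (hlt L hL) (L.map K.subtype) rfl (hdvd L)
    haveI := isNilpotent_conj_smul H hH x
    let f : L →* (MulAut.conj x • H : Subgroup G) :=
      (Subgroup.inclusion hx).comp (L.equivMapOfInjective K.subtype K.subtype_injective).toMonoidHom
    have hf : Function.Injective f := by
      apply Function.Injective.comp (Subgroup.inclusion_injective hx)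
      exact (L.equivMapOfInjective K.subtype K.subtype_injective).injective
    exact isNilpotent_of_injective' f hf
  obtain ⟨p, hp, hpd, T, hTn, hTc, k, hk⟩ := exists_normal_pprime_of_proper_nilpotent hprop
  haveI : Fact p.Prime := ⟨hp⟩
  have hTtop : T ≠ ⊤ := by
    rintro rfl
    rw [Subgroup.card_top] at hTc
    exact (Nat.Prime.coprime_iff_not_dvd hp).mp hTc.symm hpd
  obtain ⟨x, hx⟩ := ih _ (hlt T hTtop) (T.map K.subtype) rfl (hdvd T)
  set H' : Subgroup G := MulAut.conj x • H with hH'
  have hH'n : Group.IsNilpotent H' := isNilpotent_conj_smul H hH x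
  have hH'Hall : (Nat.card H').Coprime H'.index := by
    rw [hH', card_conj_smul, index_conj_smul]; exact hHall
  have hpH' : p ∣ Nat.card H' := by
    rw [hH', card_conj_smul]; exact hK p hp hpd
  let P' : Sylow p K := default
  have hKnorm : K ≤ normalizer ((T.map K.subtype : Subgroup G) : Set G) := by
    intro k₀ hk₀
    rw [Subgroup.mem_normalizer_iff]
    intro g
    constructor
    · rintro ⟨t, ht, rfl⟩
      exact ⟨⟨k₀, hk₀⟩ * t * ⟨k₀, hk₀⟩⁻¹, hTn.conj_mem t ht _, by simp⟩
    · rintro ⟨t, ht, hteq⟩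
      refine ⟨⟨k₀, hk₀⟩⁻¹ * t * ⟨k₀, hk₀⟩, ?_, ?_⟩
      · have := hTn.conj_mem t ht (⟨k₀, hk₀⟩⁻¹)
        simpa using this
      · simp only [Subgroup.subtype_apply, Subgroup.coe_mul, Subgroup.coe_inv] at hteq ⊢
        rw [hteq]; group
  have hRn : (P' : Subgroup K).map K.subtype ≤ normalizer ((T.map K.subtype : Subgroup G) : Set G) :=
    (Subgroup.map_subtype_le _).trans hKnorm
  have hTc' : (Nat.card (T.map K.subtype)).Coprime p := by rw [hcardmap]; exact hTc
  obtain ⟨m, hm⟩ := core H' hH'n hH'Hall p hpH' (T.map K.subtype) ((P' : Subgroup K).map K.subtype)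
    hx hTc' (P'.isPGroup'.map _) hRn
  have hsup : T ⊔ (P' : Subgroup K) = ⊤ := by
    rw [← Subgroup.index_eq_one]
    have h1 : (T ⊔ (P' : Subgroup K)).index ∣ T.index := Subgroup.index_dvd_of_le le_sup_left
    have h2 : (T ⊔ (P' : Subgroup K)).index ∣ (P' : Subgroup K).index :=
      Subgroup.index_dvd_of_le le_sup_right
    have h3 : Nat.Coprime (T.index) ((P' : Subgroup K).index) := by
      rw [hk]
      exact Nat.Coprime.pow_left k ((Nat.Prime.coprime_iff_not_dvd hp).mpr P'.not_dvd_index)
    have := Nat.dvd_gcd h1 h2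
    rw [h3] at this
    exact Nat.dvd_one.mp this
  refine ⟨m * x, ?_⟩
  have hKeq : K = T.map K.subtype ⊔ (P' : Subgroup K).map K.subtype := by
    rw [← Subgroup.map_sup, hsup, ← MonoidHom.range_eq_map, Subgroup.range_subtype]
  rw [map_mul, mul_smul, ← hH']
  calc K = T.map K.subtype ⊔ (P' : Subgroup K).map K.subtype := hKeq
    _ ≤ MulAut.conj m • H' := hm

end Cfsg.Agent.S0581
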