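import Cfsg.Statements.S0561
import Cfsg.Agent.Lib.Helper1.Hall
import Cfsg.Agent.Lib.Helper9.ComplementSystem
import Cfsg.Agent.S0559

set_option autoImplicit false
open Pointwise
open Cfsg

namespace Cfsg.Agent.S0561

open Cfsg.Agent.Helper1 Cfsg.Agent.Helper9

universe u

/-- A finite solvable group has a Hall complement system. -/
theorem exists_complementSystem {G : Type u} [Group G] [Finite G] [Group.IsSolvable G] :
    ∃ K : Nat.Primes → Subgroup G, Cfsg.IsComplementSystem K := by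
  have h : ∀ p : Nat.Primes, ∃ Q : Subgroup G,
      Q.index = (p : ℕ) ^ (Nat.card G).factorization p := by
    intro p
    have hp : (p : ℕ).Prime := p.2
    have hG0 : Nat.card G ≠ 0 := Nat.card_pos.ne'
    set v := (Nat.card G).factorization p with hv
    have h1 : Nat.card G = (Nat.card G / (p : ℕ) ^ v) * (p : ℕ) ^ v := by
      rw [mul_comm]; exact (Nat.ordProj_mul_ordCompl_eq_self (Nat.card G) p).symm
    have h2 : (Nat.card G / (p : ℕ) ^ v).Coprime ((p : ℕ) ^ v) :=
      ((Nat.coprime_ordCompl hp hG0).symm).pow_right v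
    obtain ⟨Q, hQ, -⟩ := hall_exists_dominant _ _ h1 h2
    refine ⟨Q, ?_⟩
    have h3 := Subgroup.card_mul_index Q
    rw [hQ] at h3
    have hpos : 0 < Nat.card G / (p : ℕ) ^ v := by
      rcases Nat.eq_zero_or_pos (Nat.card G / (p : ℕ) ^ v) with h0 | h0
      · rw [h0, zero_mul] at h1; exact absurd h1 hG0
      · exact h0
    apply Nat.eq_of_mul_eq_mul_left hpos
    rw [h3]; exact h1
  choose K hK using h
  exact ⟨K, hK⟩


section
variable {G : Type u} [Group G] [Finite G]

/-- the primes dividing `|G|` but not `a` -/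
noncomputable def sOf (G : Type u) [Group G] (a : ℕ) : Finset Nat.Primes :=
  Finset.subtype Nat.Prime ((Nat.card G).primeFactors.filter (fun q => ¬ q ∣ a))

theorem mem_sOf {a : ℕ} {p : Nat.Primes} :
    p ∈ sOf G a ↔ (p : ℕ) ∣ Nat.card G ∧ ¬ (p : ℕ) ∣ a := by
  have h : p ∈ sOf G a ↔ (p : ℕ) ∈ (Nat.card G).primeFactors.filter (fun q => ¬ q ∣ a) :=
    Finset.mem_subtype (p := Nat.Prime)
  rw [h, Finset.mem_filter, Nat.mem_primeFactors]
  constructor
  · rintro ⟨⟨-, h1, -⟩, h2⟩; exact ⟨h1, h2⟩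
  · rintro ⟨h1, h2⟩; exact ⟨⟨p.2, h1, Nat.card_pos.ne'⟩, h2⟩

/-- the Hall subgroup attached to `a` by a complement system -/
noncomputable def hallOf (K : Nat.Primes → Subgroup G) (a : ℕ) : Subgroup G :=
  ⨅ p ∈ sOf G a, K p

omit [Finite G] in
theorem hallOf_le (K : Nat.Primes → Subgroup G) {a : ℕ} {p : Nat.Primes} (hp : p ∈ sOf G a) :
    hallOf K a ≤ K p :=
  iInf₂_le p hp

theorem index_hallOf (K : Nat.Primes → Subgroup G) (hK : Cfsg.IsComplementSystem K) (a : ℕ) :
    (hallOf K a).index = ∏ p ∈ sOf G a, (p : ℕ) ^ (Nat.card G).factorization p :=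
  complementSystem_index_iInf K hK (sOf G a)

/-- a prime dividing the index of `hallOf K a` lies in `sOf G a` -/
theorem mem_sOf_of_dvd_index (K : Nat.Primes → Subgroup G) (hK : Cfsg.IsComplementSystem K)
    (a : ℕ) (q : ℕ) (hq : q.Prime) (hd : q ∣ (hallOf K a).index) : ⟨q, hq⟩ ∈ sOf G a := by
  rw [index_hallOf K hK, Prime.dvd_finsetProd_iff hq.prime] at hd
  obtain ⟨p, hp, hqp⟩ := hd
  have h1 : q ∣ (p : ℕ) := hq.dvd_of_dvd_pow hqp
  have h2 : q = p := (Nat.prime_dvd_prime_iff_eq hq p.2).mp h1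
  have : (⟨q, hq⟩ : Nat.Primes) = p := Subtype.ext h2
  rw [this]; exact hp

theorem card_hallOf (K : Nat.Primes → Subgroup G) (hK : Cfsg.IsComplementSystem K) (a n : ℕ)
    (hN : Nat.card G = a * n) (hc : a.Coprime n) : Nat.card (hallOf K a) = a := by
  set X := hallOf K a with hX
  have h1 := Subgroup.card_mul_index X
  -- `a ∣ |X|`
  have hcop : Nat.Coprime a X.index := by
    rw [index_hallOf K hK]
    apply Nat.Coprime.prod_right
    intro p hp
    apply Nat.Coprime.pow_right
    rw [Nat.coprime_comm, Nat.Prime.coprime_iff_not_dvd p.2]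
    exact (mem_sOf.mp hp).2
  have hd1 : a ∣ Nat.card X := by
    have : a ∣ Nat.card X * X.index := by rw [h1, hN]; exact dvd_mul_right _ _
    exact hcop.dvd_of_dvd_mul_right this
  -- `|X| ∣ a`
  have hcop2 : Nat.Coprime (Nat.card X) n := by
    rw [Nat.coprime_iff_gcd_eq_one]
    by_contra hne
    obtain ⟨q, hq, hqd⟩ := Nat.exists_prime_and_dvd hne
    have hq1 : q ∣ Nat.card X := hqd.trans (Nat.gcd_dvd_left _ _)
    have hq2 : q ∣ n := hqd.trans (Nat.gcd_dvd_right _ _)
    have hqa : ¬ q ∣ a := by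
      intro hqa
      have := Nat.Coprime.eq_one_of_dvd (Nat.Coprime.coprime_dvd_left hqa hc) hq2
      exact hq.one_lt.ne' this
    have hmem : (⟨q, hq⟩ : Nat.Primes) ∈ sOf G a :=
      mem_sOf.mpr ⟨by rw [hN]; exact hq2.trans (dvd_mul_left _ _), hqa⟩
    have h2 := Subgroup.card_dvd_of_le (hallOf_le K hmem)
    exact complementSystem_not_dvd_card K hK ⟨q, hq⟩ (hq1.trans h2)
  have hd2 : Nat.card X ∣ a := by
    have : Nat.card X ∣ a * n := by rw [← hN]; exact Subgroup.card_subgroup_dvd_card X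
    exact hcop2.dvd_of_dvd_mul_right this
  exact Nat.dvd_antisymm hd2 hd1

/-- The two Hall subgroups from a complement system permute. -/
theorem hallOf_mul_hallOf (K : Nat.Primes → Subgroup G) (hK : Cfsg.IsComplementSystem K)
    (a b : ℕ) :
    ((hallOf K a : Subgroup G) : Set G) * ((hallOf K b : Subgroup G) : Set G)
      = ((⨅ p ∈ sOf G a ∩ sOf G b, K p : Subgroup G) : Set G) := by
  classical
  set W : Subgroup G := ⨅ p ∈ sOf G a ∩ sOf G b, K p with hW
  have hXW : hallOf K a ≤ W := by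
    rw [hW]
    refine le_iInf₂ ?_
    intro p hp
    exact hallOf_le K (Finset.mem_inter.mp hp).1
  have hYW : hallOf K b ≤ W := by
    rw [hW]
    refine le_iInf₂ ?_
    intro p hp
    exact hallOf_le K (Finset.mem_inter.mp hp).2
  apply Set.Subset.antisymm
  · rintro _ ⟨x, hx, y, hy, rfl⟩
    exact W.mul_mem (hXW hx) (hYW hy)
  · intro w hw
    have hcop : ((hallOf K b).subgroupOf W).index.Coprime ((hallOf K a).subgroupOf W).index := by
      rw [Nat.coprime_iff_gcd_eq_one]
      by_contra hne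
      obtain ⟨q, hq, hqd⟩ := Nat.exists_prime_and_dvd hne
      have hq1 : q ∣ (hallOf K b).relIndex W := hqd.trans (Nat.gcd_dvd_left _ _)
      have hq2 : q ∣ (hallOf K a).relIndex W := hqd.trans (Nat.gcd_dvd_right _ _)
      have hb : (⟨q, hq⟩ : Nat.Primes) ∈ sOf G b :=
        mem_sOf_of_dvd_index K hK b q hq
          (hq1.trans ⟨W.index, (Subgroup.relIndex_mul_index hYW).symm⟩)
      have ha : (⟨q, hq⟩ : Nat.Primes) ∈ sOf G a :=
        mem_sOf_of_dvd_index K hK a q hq
          (hq2.trans ⟨W.index, (Subgroup.relIndex_mul_index hXW).symm⟩)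
      have hWK : W ≤ K ⟨q, hq⟩ := iInf₂_le _ (Finset.mem_inter.mpr ⟨ha, hb⟩)
      have h3 : q ∣ Nat.card W := hq2.trans (Subgroup.index_dvd_card _)
      exact complementSystem_not_dvd_card K hK ⟨q, hq⟩ (h3.trans (Subgroup.card_dvd_of_le hWK))
    obtain ⟨x, hx, y, hy, hxy⟩ := exists_mul_of_coprime_index _ _ hcop (⟨w, hw⟩ : W)
    refine ⟨(x : G), Subgroup.mem_subgroupOf.mp hx, (y : G), Subgroup.mem_subgroupOf.mp hy, ?_⟩
    have := congrArg (fun z : W => (z : G)) hxy
    exact this.symm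

end


theorem conj_smul_eq_of_conj_mem {G : Type u} [Group G] [Finite G] (A : Subgroup G) (h : G)
    (hA : ∀ a ∈ A, h * a * h⁻¹ ∈ A) : MulAut.conj h • A = A := by
  symm
  apply Subgroup.eq_of_le_of_card_ge
  · intro a ha
    rw [mem_conj_smul]
    -- `h⁻¹ a h ∈ A` by finiteness; use cardinality instead
    by_contra hcon
    -- the map `a ↦ h a h⁻¹` is an injection `A → A`, hence a bijection
    have hinj : Function.Injective (fun a : A => (⟨h * a * h⁻¹, hA a a.2⟩ : A)) := by
      intro x y hxy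
      have := congrArg (fun z : A => (z : G)) hxy
      simp only [mul_left_inj, mul_right_inj] at this
      exact Subtype.ext this
    have hsurj := Finite.surjective_of_injective hinj
    obtain ⟨a', ha'⟩ := hsurj ⟨a, ha⟩
    have h1 : h * (a' : G) * h⁻¹ = a := congrArg (fun z : A => (z : G)) ha'
    apply hcon
    rw [← h1]
    have : h⁻¹ * (h * (a' : G) * h⁻¹) * h = a' := by group
    rw [this]; exact a'.2
  · rw [card_conj_smul]

/-- core: the case `x = y = 1` with elementwise normality hypotheses -/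
theorem core {G : Type u} [Group G] [Finite G] [Group.IsSolvable G] (H K A B : Subgroup G)
    (hHK : ∀ g : G, ∃ h ∈ H, ∃ k ∈ K, g = h * k)
    (hAn : ∀ h ∈ H, ∀ a ∈ A, h * a * h⁻¹ ∈ A) (hBn : ∀ k ∈ K, ∀ b ∈ B, k * b * k⁻¹ ∈ B)
    (hAh : (Nat.card A).Coprime A.index) (hBh : (Nat.card B).Coprime B.index) :
    ∃ S : Subgroup G, (S : Set G) = (A : Set G) * (B : Set G) := by
  obtain ⟨L, hL⟩ := exists_complementSystem (G := G)
  set a := Nat.card A with ha
  set b := Nat.card B with hb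
  have hNa : Nat.card G = a * A.index := (Subgroup.card_mul_index A).symm
  have hNb : Nat.card G = b * B.index := (Subgroup.card_mul_index B).symm
  have hXc : Nat.card (hallOf L a) = a := card_hallOf L hL a _ hNa hAh
  have hYc : Nat.card (hallOf L b) = b := card_hallOf L hL b _ hNb hBh
  obtain ⟨u, hu⟩ := hall_conj a _ hNa hAh (hallOf L a) A hXc rfl
  obtain ⟨v, hv⟩ := hall_conj b _ hNb hBh (hallOf L b) B hYc rfl
  obtain ⟨h', hh', k', hk', huv⟩ := hHK (u * v⁻¹)
  set g : G := h'⁻¹ * u with hg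
  have hg' : g = k' * v := by
    rw [hg]
    have : u = h' * k' * v := by rw [← huv]; group
    rw [this]; group
  have hgA : MulAut.conj g • hallOf L a = A := by
    rw [hg, map_mul, mul_smul, hu]
    exact conj_smul_eq_of_conj_mem A h'⁻¹ (hAn _ (H.inv_mem hh'))
  have hgB : MulAut.conj g • hallOf L b = B := by
    rw [hg', map_mul, mul_smul, hv]
    exact conj_smul_eq_of_conj_mem B k' (hBn _ hk')
  refine ⟨MulAut.conj g • (⨅ p ∈ sOf G a ∩ sOf G b, L p), ?_⟩
  have hmul := hallOf_mul_hallOf L hL a b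
  ext x
  constructor
  · intro hx
    have hx' : g⁻¹ * x * g ∈ ((⨅ p ∈ sOf G a ∩ sOf G b, L p : Subgroup G) : Set G) :=
      mem_conj_smul.mp hx
    rw [← hmul] at hx'
    obtain ⟨s, hs, t, ht, hst⟩ := hx'
    refine ⟨g * s * g⁻¹, ?_, g * t * g⁻¹, ?_, ?_⟩
    · rw [← hgA]; exact conj_mem_conj_smul hs
    · rw [← hgB]; exact conj_mem_conj_smul ht
    · have h1 : s * t = g⁻¹ * x * g := hst
      have : g * s * g⁻¹ * (g * t * g⁻¹) = g * (s * t) * g⁻¹ := by group
      show g * s * g⁻¹ * (g * t * g⁻¹) = x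
      rw [this, h1]; group
  · rintro ⟨s, hs, t, ht, rfl⟩
    rw [SetLike.mem_coe, ← hgA] at hs
    rw [SetLike.mem_coe, ← hgB] at ht
    rw [SetLike.mem_coe, mem_conj_smul]
    have h1 : g⁻¹ * (s * t) * g = (g⁻¹ * s * g) * (g⁻¹ * t * g) := by group
    rw [h1, ← SetLike.mem_coe, ← hmul]
    exact ⟨_, mem_conj_smul.mp hs, _, mem_conj_smul.mp ht, rfl⟩

/-- Let the finite solvable group G be the product HK of subgroups, and let A be normal in H and B normal in K, where A and B are Hall subgroups of G (order coprime to index). Then for all x, y the product set of xAx⁻¹ and yBy⁻¹ is a subgroup of G. -/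
theorem result {G : Type*} [Group G] [Finite G] [Group.IsSolvable G] (H K A B : Subgroup G) (hHK : ∀ g : G, ∃ h ∈ H, ∃ k ∈ K, g = h * k) (hA : A ≤ H) (hAn : (A.subgroupOf H).Normal) (hB : B ≤ K) (hBn : (B.subgroupOf K).Normal) (hAh : (Nat.card A).Coprime A.index) (hBh : (Nat.card B).Coprime B.index) (x y : G) : ∃ S : Subgroup G, (S : Set G) = ((MulAut.conj x • A : Subgroup G) : Set G) * ((MulAut.conj y • B : Subgroup G) : Set G) := by
  have hHK' := (Cfsg.Agent.S0559.result H K (MulAut.conj x • H) (MulAut.conj y • K) hHK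
    ⟨x, rfl⟩ ⟨y, rfl⟩).1
  have key : ∀ (z : G) (H A : Subgroup G), A ≤ H → (A.subgroupOf H).Normal →
      ∀ h ∈ MulAut.conj z • H, ∀ a ∈ MulAut.conj z • A, h * a * h⁻¹ ∈ MulAut.conj z • A := by
    intro z H A hAH hn h hh a ha
    rw [mem_conj_smul] at hh ha ⊢
    have h1 := hn.conj_mem ⟨z⁻¹ * a * z, hAH ha⟩ (Subgroup.mem_subgroupOf.mpr ha)
      ⟨z⁻¹ * h * z, hh⟩
    have h2 := Subgroup.mem_subgroupOf.mp h1
    simp only [Subgroup.coe_mul, Subgroup.coe_inv] at h2
    have h3 : z⁻¹ * (h * a * h⁻¹) * z = z⁻¹ * h * z * (z⁻¹ * a * z) * (z⁻¹ * h * z)⁻¹ := by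
      group
    rw [h3]; exact h2
  exact core (MulAut.conj x • H) (MulAut.conj y • K) (MulAut.conj x • A) (MulAut.conj y • B)
    hHK' (key x H A hA hAn) (key y K B hB hBn)
    (by rw [card_conj_smul, index_conj_smul]; exact hAh)
    (by rw [card_conj_smul, index_conj_smul]; exact hBh)

end Cfsg.Agent.S0561
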