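import Cfsg.Statements.S0562
import Mathlib

set_option autoImplicit false
open Cfsg

namespace Cfsg.Agent.S0562

lemma map_conj_eq_of_normal_subgroupOf {G : Type*} [Group G] {B K : Subgroup G} (hB : B ≤ K)
    (hBn : (B.subgroupOf K).Normal) {k : G} (hk : k ∈ K) :
    B.map (MulAut.conj k : G →* G) = B := by
  rw [← Subgroup.mem_normalizer_iff_map_conj_eq]
  have := (Subgroup.normal_subgroupOf_iff_le_normalizer hB).mp hBn
  exact this hk

lemma card_map_conj {G : Type*} [Group G] (J : Subgroup G) (k : G) :
    Nat.card (J.map (MulAut.conj k : G →* G)) = Nat.card J := by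
  exact Subgroup.card_map_of_injective (MulAut.conj k).injective

/-- Let the finite group G be the product HK of subgroups, A normal in H, B normal in K, and L the normalizer of the subgroup generated by A and B. Then every element of L is a product of an element of L ∩ H and an element of L ∩ K. -/
theorem result {G : Type*} [Group G] [Finite G] (H K A B : Subgroup G) (hHK : ∀ g : G, ∃ h ∈ H, ∃ k ∈ K, g = h * k) (hA : A ≤ H) (hAn : (A.subgroupOf H).Normal) (hB : B ≤ K) (hBn : (B.subgroupOf K).Normal) : ∀ g ∈ Subgroup.normalizer ((A ⊔ B : Subgroup G) : Set G), ∃ h ∈ Subgroup.normalizer ((A ⊔ B : Subgroup G) : Set G) ⊓ H, ∃ k ∈ Subgroup.normalizer ((A ⊔ B : Subgroup G) : Set G) ⊓ K, g = h * k := by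
  intro g hg
  obtain ⟨h, hh, k, hk, rfl⟩ := hHK g
  set J := A ⊔ B with hJ
  rw [Subgroup.mem_normalizer_iff_map_conj_eq] at hg
  -- k J k⁻¹ = h⁻¹ J h
  have h1 : J.map (MulAut.conj k : G →* G) = J.map (MulAut.conj h⁻¹ : G →* G) := by
    have : (J.map (MulAut.conj k : G →* G)).map (MulAut.conj h : G →* G) = J := by
      rw [Subgroup.map_map]
      convert hg using 2
      ext x
      simp [MulAut.conj_apply, mul_assoc]
    conv_rhs => rw [← this]
    rw [Subgroup.map_map]
    symm
    convert Subgroup.map_id _ using 2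
    ext x
    simp [MulAut.conj_apply, mul_assoc]
  have hkJ : J ≤ J.map (MulAut.conj k : G →* G) := by
    apply sup_le
    · rw [h1, hJ, Subgroup.map_sup, map_conj_eq_of_normal_subgroupOf hA hAn (H.inv_mem hh)]
      exact le_sup_left
    · rw [hJ, Subgroup.map_sup, map_conj_eq_of_normal_subgroupOf hB hBn hk]
      exact le_sup_right
  have hk' : J.map (MulAut.conj k : G →* G) = J := by
    symm
    apply Subgroup.eq_of_le_of_card_ge hkJ
    rw [card_map_conj]
  have hh' : J.map (MulAut.conj h⁻¹ : G →* G) = J := by rw [← h1, hk']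
  have hkN : k ∈ Subgroup.normalizer (J : Set G) := Subgroup.mem_normalizer_iff_map_conj_eq.mpr hk'
  have hhN : h ∈ Subgroup.normalizer (J : Set G) := by
    have := Subgroup.mem_normalizer_iff_map_conj_eq.mpr hh'
    simpa using inv_mem this
  exact ⟨h, ⟨hhN, hh⟩, k, ⟨hkN, hk⟩, rfl⟩

end Cfsg.Agent.S0562
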