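import Cfsg.Statements.S0362
import Cfsg.Agent.Lib.Helper26.GolayFacts

set_option autoImplicit false
open Cfsg

namespace Cfsg.Agent.S0362

open Cfsg.Agent.Helper26

/-- The length-24 code is self-orthogonal: the dot product over ZMod 2 of any two of its words vanishes (with dimension 12 this makes it self-dual). -/
theorem result (v w : Cfsg.GolayPt → ZMod 2) (hv : v ∈ Cfsg.golayCode) (hw : w ∈ Cfsg.golayCode) : ∑ i, v i * w i = 0 := by
  have hs : support₂ v ∈ codeSets := (support₂_mem_codeSets_iff v).mpr hv
  have ht : support₂ w ∈ codeSets := (support₂_mem_codeSets_iff w).mpr hw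
  have heven := even_card_inter hs ht
  have key : ∀ i : GolayPt, v i * w i = if i ∈ support₂ v ∩ support₂ w then (1 : ZMod 2) else 0 := by
    intro i
    have hv' : ∀ a : ZMod 2, a = 0 ∨ a = 1 := by decide
    simp only [support₂, Finset.mem_inter, Finset.mem_filter, Finset.mem_univ, true_and]
    rcases hv' (v i) with h1 | h1 <;> rcases hv' (w i) with h2 | h2 <;> simp [h1, h2]
  simp only [key]
  rw [Finset.sum_ite_mem, Finset.univ_inter, Finset.sum_const, nsmul_eq_mul, mul_one]
  obtain ⟨k, hk⟩ := heven
  rw [hk]
  push_cast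
  have : (2 : ZMod 2) = 0 := by decide
  rw [← two_mul, this, zero_mul]

end Cfsg.Agent.S0362
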