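import Cfsg.Statements.S4219
import Mathlib

set_option autoImplicit false
open Cfsg
open scoped Pointwise

namespace Cfsg.Agent.S4219

theorem key {G : Type*} [Group G] [Finite G] {α : Type*} [MulAction G α] {t : ℕ}
    (hG : MulAction.IsMultiplyPretransitive G α t) (x : Fin t ↪ α) {p : ℕ} [Fact p.Prime]
    (S : Subgroup G) (hS : S = MulAction.stabilizer G x)
    (P : Sylow p S) (a : Fin t ↪ α)
    (ha : ∀ i, a i ∈ MulAction.fixedPoints ((P : Subgroup S).map S.subtype) α) :
    ∃ n ∈ Subgroup.normalizer ((((P : Subgroup S).map S.subtype) : Subgroup G) : Set G),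
      n • a = x := by
  have hpt : MulAction.IsPretransitive G (Fin t ↪ α) := hG
  obtain ⟨g, hg⟩ := MulAction.exists_smul_eq G x a
  have hfix : ∀ y ∈ (P : Subgroup S).map S.subtype, y • a = a := by
    intro y hy
    ext i
    rw [Function.Embedding.smul_apply]
    exact ha i ⟨y, hy⟩
  have hconj : ∀ y ∈ (P : Subgroup S).map S.subtype, g⁻¹ * y * g ∈ S := by
    intro y hy
    rw [hS, MulAction.mem_stabilizer_iff, mul_smul, mul_smul, hg, hfix y hy, ← hg, inv_smul_smul]
  have hP'p : IsPGroup p ((P : Subgroup S).map S.subtype) := P.isPGroup'.map _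
  have hQp : IsPGroup p
      ((((P : Subgroup S).map S.subtype).map (MulAut.conj g⁻¹).toMonoidHom).subgroupOf S) :=
    (hP'p.map _).comap_subtype
  obtain ⟨R, hR⟩ := hQp.exists_le_sylow
  obtain ⟨h, hh⟩ := MulAction.exists_smul_eq S R P
  have hstep : ∀ y ∈ (((P : Subgroup S).map S.subtype : Subgroup G) : Set G),
      ((h : G) * g⁻¹) * y * ((h : G) * g⁻¹)⁻¹ ∈
        (((P : Subgroup S).map S.subtype : Subgroup G) : Set G) := by
    intro y hy
    have hq : (⟨g⁻¹ * y * g, hconj y hy⟩ : S) ∈
        ((((P : Subgroup S).map S.subtype).map (MulAut.conj g⁻¹).toMonoidHom).subgroupOf S) := by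
      rw [Subgroup.mem_subgroupOf]
      refine ⟨y, hy, ?_⟩
      simp
    have hr : (⟨g⁻¹ * y * g, hconj y hy⟩ : S) ∈ (R : Subgroup S) := hR hq
    have hp : h * (⟨g⁻¹ * y * g, hconj y hy⟩ : S) * h⁻¹ ∈ (P : Subgroup S) := by
      rw [← hh, Sylow.coe_subgroup_smul, Subgroup.mem_pointwise_smul_iff_inv_smul_mem]
      simpa [MulAut.smul_def, mul_assoc] using hr
    have : S.subtype (h * (⟨g⁻¹ * y * g, hconj y hy⟩ : S) * h⁻¹) ∈
        (P : Subgroup S).map S.subtype :=
      Subgroup.mem_map_of_mem _ hp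
    have e : S.subtype (h * (⟨g⁻¹ * y * g, hconj y hy⟩ : S) * h⁻¹)
        = ((h : G) * g⁻¹) * y * ((h : G) * g⁻¹)⁻¹ := by
      simp [mul_assoc]
    rw [← e]; exact this
  refine ⟨(h : G) * g⁻¹, Subgroup.mem_normalizer_fintype hstep, ?_⟩
  rw [mul_smul, ← hg, inv_smul_smul]
  have h3 : ∀ z : G, z ∈ S → z • x = x := by
    intro z hz
    rw [hS, MulAction.mem_stabilizer_iff] at hz
    exact hz
  exact h3 _ h.2

/-- Let a finite group `G` act `t`-fold transitively on a finite set, let `H` be the stabilizer of `t` distinct points and `P` a Sylow `p`-subgroup of `H`. Then the normalizer of `P` in `G` is `t`-fold transitive on the fixed points of `P`: any `t` distinct fixed points of `P` can be carried to any other `t` distinct fixed points of `P` by an element normalizing `P`. -/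
theorem result {G : Type*} [Group G] [Finite G] {α : Type*} [Fintype α] [MulAction G α] {t : ℕ} (hG : MulAction.IsMultiplyPretransitive G α t) (x : Fin t ↪ α) {p : ℕ} [Fact p.Prime] (P : Sylow p (MulAction.stabilizer G x)) (a b : Fin t ↪ α) (ha : ∀ i, a i ∈ MulAction.fixedPoints ((P : Subgroup (MulAction.stabilizer G x)).map (MulAction.stabilizer G x).subtype) α) (hb : ∀ i, b i ∈ MulAction.fixedPoints ((P : Subgroup (MulAction.stabilizer G x)).map (MulAction.stabilizer G x).subtype) α) : ∃ g ∈ Subgroup.normalizer ((((P : Subgroup (MulAction.stabilizer G x)).map (MulAction.stabilizer G x).subtype) : Subgroup G) : Set G), g • a = b := by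
  obtain ⟨n1, hn1, h1⟩ := key hG x _ rfl P a ha
  obtain ⟨n2, hn2, h2⟩ := key hG x _ rfl P b hb
  refine ⟨n2⁻¹ * n1, Subgroup.mul_mem _ (Subgroup.inv_mem _ hn2) hn1, ?_⟩
  rw [mul_smul, h1, ← h2, inv_smul_smul]

end Cfsg.Agent.S4219
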