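import Cfsg.Statements.S0711
import Mathlib

set_option autoImplicit false
open Cfsg

namespace Cfsg.Agent.S0711

open MulAction Equiv

variable {α : Type*} [Fintype α] [DecidableEq α]

/-- in a `k`-transitive group one can prescribe the action on a `k`-set. -/
theorem exists_agree (G : Subgroup (Perm α)) (k : ℕ) (hk : IsMultiplyPretransitive G α k)
    (Δ : Finset α) (hΔ : Δ.card = k) (π : Perm α) : ∃ h ∈ G, ∀ x ∈ Δ, h x = π x := by
  let e0 : Δ ≃ Fin k := Fintype.equivFinOfCardEq (by simpa using hΔ)
  let e : Fin k ↪ α := e0.symm.toEmbedding.trans (Function.Embedding.subtype _)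
  let e' : Fin k ↪ α := e.trans π.toEmbedding
  obtain ⟨h, hh⟩ := MulAction.exists_smul_eq G e e'
  refine ⟨h.1, h.2, fun x hx => ?_⟩
  have := congrArg (fun f : Fin k ↪ α => f (e0 ⟨x, hx⟩)) hh
  simp only [Function.Embedding.smul_apply] at this
  have ex : e (e0 ⟨x, hx⟩) = x := by simp [e]
  have ex' : e' (e0 ⟨x, hx⟩) = π x := by simp [e', e]
  rw [ex, ex'] at this
  exact this

/-- in a `k`-transitive group, for `T` with `|T| + 1 ≤ k`, `ρ ∉ T`, `ε ∉ T` there is an element
fixing `T` pointwise and mapping `ρ` to `ε`. -/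
theorem exists_fix_move (G : Subgroup (Perm α)) {k : ℕ} (hkn : k ≤ Fintype.card α)
    (hG : IsMultiplyPretransitive G α k) (T : Finset α) (hT : T.card + 1 ≤ k) (ρ ε : α)
    (hρ : ρ ∉ T) (hε : ε ∉ T) : ∃ x ∈ G, (∀ a ∈ T, x a = a) ∧ x ρ = ε := by
  have h1 : IsMultiplyPretransitive G α (T.card + 1) :=
    isMultiplyPretransitive_of_le (n := k) hT (by rw [Nat.card_eq_fintype_card]; exact hkn)
  obtain ⟨x, hxG, hx⟩ := exists_agree G (T.card + 1) h1 (insert ρ T)
    (Finset.card_insert_of_notMem hρ) (Equiv.swap ρ ε)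
  refine ⟨x, hxG, fun a ha => ?_, ?_⟩
  · rw [hx a (Finset.mem_insert_of_mem ha)]
    apply Equiv.swap_apply_of_ne_of_ne
    · rintro rfl; exact hρ ha
    · rintro rfl; exact hε ha
  · rw [hx ρ (Finset.mem_insert_self _ _), Equiv.swap_apply_left]

/-- exits of `T` under `g`. -/
def exits (g : Perm α) (T : Finset α) : Finset α := T.filter (fun ω => g ω ∉ T)

theorem mem_exits (g : Perm α) (T : Finset α) (ω : α) : ω ∈ exits g T ↔ ω ∈ T ∧ g ω ∉ T := by
  simp [exits]

theorem exists_T (g : Perm α) (t : ℕ) (ht : t ≤ g.support.card) :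
    ∃ T : Finset α, T ⊆ g.support ∧ T.card = t ∧ (exits g T).card ≤ 1 := by
  induction t with
  | zero => exact ⟨∅, by simp, by simp, by simp [exits]⟩
  | succ t ih =>
    obtain ⟨T, hTs, hTc, hTe⟩ := ih (by omega)
    by_cases he : exits g T = ∅
    · have : ∃ ρ ∈ g.support, ρ ∉ T := by
        by_contra hcon
        have hsub : g.support ⊆ T := by
          intro a ha
          by_contra haT
          exact hcon ⟨a, ha, haT⟩
        have := Finset.card_le_card hsub
        omega
      obtain ⟨ρ, hρ, hρT⟩ := this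
      refine ⟨insert ρ T, Finset.insert_subset hρ hTs, ?_, ?_⟩
      · rw [Finset.card_insert_of_notMem hρT, hTc]
      · apply (Finset.card_le_card (?_ : exits g (insert ρ T) ⊆ {ρ})).trans (by simp)
        intro ω hω
        rw [mem_exits, Finset.mem_insert] at hω
        rcases hω.1 with rfl | hωT
        · simp
        · exfalso
          have hωe : ω ∈ exits g T := by
            rw [mem_exits]
            exact ⟨hωT, fun h => hω.2 (Finset.mem_insert_of_mem h)⟩
          rw [he] at hωe
          simp at hωe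
    · obtain ⟨β, hβ⟩ := Finset.nonempty_iff_ne_empty.mpr he
      have hβ' := (mem_exits g T β).mp hβ
      have hone : exits g T = {β} :=
        Finset.eq_singleton_iff_unique_mem.mpr
          ⟨hβ, fun x hx => Finset.card_le_one.mp hTe x hx β hβ⟩
      refine ⟨insert (g β) T, ?_, ?_, ?_⟩
      · apply Finset.insert_subset _ hTs
        exact Perm.apply_mem_support.mpr (hTs hβ'.1)
      · rw [Finset.card_insert_of_notMem hβ'.2, hTc]
      · apply (Finset.card_le_card (?_ : exits g (insert (g β) T) ⊆ {g β})).trans (by simp)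
        intro ω hω
        rw [mem_exits, Finset.mem_insert] at hω
        rcases hω.1 with rfl | hωT
        · simp
        · exfalso
          have hωe : ω ∈ exits g T := by
            rw [mem_exits]
            exact ⟨hωT, fun h => hω.2 (Finset.mem_insert_of_mem h)⟩
          rw [hone, Finset.mem_singleton] at hωe
          subst hωe
          exact hω.2 (Finset.mem_insert_self _ _)

theorem supp_comm_subset (g x : Perm α) (T : Finset α) (hx : ∀ a ∈ T, x a = a) :
    (g⁻¹ * x * g * x⁻¹).support ⊆ (g.support \ T) ∪ exits g T ∪ (g.support \ T).image x := by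
  intro ω hω
  by_contra hcon
  simp only [Finset.mem_union, not_or] at hcon
  obtain ⟨⟨h1, h2⟩, h3⟩ := hcon
  rw [Perm.mem_support] at hω
  apply hω
  have hxinv : ∀ a ∈ T, x⁻¹ a = a := fun a ha => by
    rw [Perm.inv_eq_iff_eq]; exact (hx a ha).symm
  by_cases hT : ω ∈ T
  · have hgω : g ω ∈ T := by
      by_contra hg
      exact h2 ((mem_exits g T ω).mpr ⟨hT, hg⟩)
    simp only [Perm.mul_apply]
    rw [hxinv ω hT, hx _ hgω]
    simp
  · have hωΔ : ω ∉ g.support := fun h => h1 (Finset.mem_sdiff.mpr ⟨h, hT⟩)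
    have hψ : x⁻¹ ω ∉ g.support := by
      intro hψ
      by_cases hψT : x⁻¹ ω ∈ T
      · have h4 := hx _ hψT
        have h5 : x (x⁻¹ ω) = ω := by simp
        rw [h5] at h4
        rw [← h4] at hψT
        exact hT hψT
      · apply h3
        rw [Finset.mem_image]
        exact ⟨x⁻¹ ω, Finset.mem_sdiff.mpr ⟨hψ, hψT⟩, by simp⟩
    rw [Perm.notMem_support] at hωΔ hψ
    simp only [Perm.mul_apply]
    have h5 : x (x⁻¹ ω) = ω := by simp
    rw [hψ, h5, Perm.inv_eq_iff_eq]
    exact hωΔ.symm

/-- a `k`-transitive group (`k ≥ 3`) contains a non-identity element fixing `k - 2` points. -/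
theorem caseA (G : Subgroup (Perm α)) {k : ℕ} (hk : 3 ≤ k) (hkn : k ≤ Fintype.card α)
    (hG : IsMultiplyPretransitive G α k) :
    ∃ x ∈ G, x ≠ 1 ∧ x.support.card + k ≤ Fintype.card α + 2 := by
  obtain ⟨S, -, hS⟩ := Finset.exists_subset_card_eq (s := (Finset.univ : Finset α)) (n := k - 2)
    (by rw [Finset.card_univ]; omega)
  have hc : (Finset.univ \ S).card = Fintype.card α - (k - 2) := by
    rw [Finset.card_sdiff_of_subset (Finset.subset_univ S), Finset.card_univ, hS]
  have h2 : 1 < (Finset.univ \ S).card := by rw [hc]; omega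
  obtain ⟨δ, hδ, ε, hε, hne⟩ := Finset.one_lt_card.mp h2
  rw [Finset.mem_sdiff] at hδ hε
  obtain ⟨x, hxG, hxS, hxδ⟩ := exists_fix_move G hkn hG S (by omega) δ ε hδ.2 hε.2
  refine ⟨x, hxG, ?_, ?_⟩
  · rintro rfl
    exact hne (by simpa using hxδ)
  · have hsub : x.support ⊆ Finset.univ \ S := by
      intro a ha
      rw [Finset.mem_sdiff]
      exact ⟨Finset.mem_univ _, fun haS => (Perm.mem_support.mp ha) (hxS a haS)⟩
    have := Finset.card_le_card hsub
    rw [hc] at this
    omega

theorem opt2 (G : Subgroup (Perm α)) {k : ℕ} (hkn : k ≤ Fintype.card α)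
    (hG : IsMultiplyPretransitive G α k) (g : Perm α) (hg : g ∈ G) (T : Finset α)
    (hTs : T ⊆ g.support) (hTk : T.card + 1 ≤ k) (hTlt : T.card < g.support.card)
    (ε : α) (hε : ε ∉ g.support) :
    ∃ c ∈ G, c ≠ 1 ∧
      c.support.card ≤ 2 * (g.support.card - T.card) + (exits g T).card := by
  have hρ : ∃ ρ ∈ g.support, ρ ∉ T := by
    by_contra hcon
    have hsub : g.support ⊆ T := by
      intro a ha
      by_contra haT
      exact hcon ⟨a, ha, haT⟩
    have := Finset.card_le_card hsub
    omega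
  obtain ⟨ρ, hρ, hρT⟩ := hρ
  obtain ⟨x, hxG, hxT, hxρ⟩ := exists_fix_move G hkn hG T hTk ρ ε hρT (fun h => hε (hTs h))
  refine ⟨g⁻¹ * x * g * x⁻¹, ?_, ?_, ?_⟩
  · exact G.mul_mem (G.mul_mem (G.mul_mem (G.inv_mem hg) hxG) hg) (G.inv_mem hxG)
  · intro h1
    have h2 := congrArg (fun f : Perm α => f ε) h1
    simp only [Perm.mul_apply, Perm.one_apply] at h2
    have h3 : x⁻¹ ε = ρ := by rw [Perm.inv_eq_iff_eq]; exact hxρ.symm
    rw [h3, Perm.inv_eq_iff_eq, Perm.notMem_support.mp hε, ← hxρ] at h2
    exact (Perm.mem_support.mp hρ) (x.injective h2)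
  · have hsd : (g.support \ T).card = g.support.card - T.card :=
      Finset.card_sdiff_of_subset hTs
    calc (g⁻¹ * x * g * x⁻¹).support.card
        ≤ ((g.support \ T) ∪ exits g T ∪ (g.support \ T).image x).card :=
          Finset.card_le_card (supp_comm_subset g x T hxT)
      _ ≤ ((g.support \ T) ∪ exits g T).card + ((g.support \ T).image x).card :=
          Finset.card_union_le _ _
      _ ≤ ((g.support \ T).card + (exits g T).card) + (g.support \ T).card :=
          Nat.add_le_add (Finset.card_union_le _ _) Finset.card_image_le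
      _ = 2 * (g.support.card - T.card) + (exits g T).card := by rw [hsd]; ring

theorem opt1 (G : Subgroup (Perm α)) {k : ℕ} (hkn : k ≤ Fintype.card α)
    (hG : IsMultiplyPretransitive G α k) (g : Perm α) (hg : g ∈ G) (T : Finset α)
    (hTs : T ⊆ g.support) (hTk : T.card + 1 ≤ k) (β : α) (hβ : β ∈ exits g T)
    (ε : α) (hε : ε ∈ g.support \ T) (hne : ε ≠ g β) :
    ∃ c ∈ G, c ≠ 1 ∧
      c.support.card + 1 ≤ 2 * (g.support.card - T.card) + (exits g T).card := by
  have hβ' := (mem_exits g T β).mp hβ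
  have hρΔ : g β ∈ g.support := Perm.apply_mem_support.mpr (hTs hβ'.1)
  have hεT : ε ∉ T := (Finset.mem_sdiff.mp hε).2
  obtain ⟨x, hxG, hxT, hxρ⟩ := exists_fix_move G hkn hG T hTk (g β) ε hβ'.2 hεT
  refine ⟨g⁻¹ * x * g * x⁻¹, ?_, ?_, ?_⟩
  · exact G.mul_mem (G.mul_mem (G.mul_mem (G.inv_mem hg) hxG) hg) (G.inv_mem hxG)
  · intro h1
    have h2 := congrArg (fun f : Perm α => f β) h1
    simp only [Perm.mul_apply, Perm.one_apply] at h2
    have h3 : x⁻¹ β = β := by rw [Perm.inv_eq_iff_eq]; exact (hxT β hβ'.1).symm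
    rw [h3, hxρ, Perm.inv_eq_iff_eq] at h2
    exact hne h2
  · have hsd : (g.support \ T).card = g.support.card - T.card :=
      Finset.card_sdiff_of_subset hTs
    have hρmem : g β ∈ g.support \ T := Finset.mem_sdiff.mpr ⟨hρΔ, hβ'.2⟩
    have hpos : 0 < (g.support \ T).card := Finset.card_pos.mpr ⟨_, hρmem⟩
    have hsub : (g.support \ T) ∪ exits g T ∪ (g.support \ T).image x ⊆
        (g.support \ T) ∪ exits g T ∪ ((g.support \ T).erase (g β)).image x := by
      intro ω hω
      rw [Finset.mem_union] at hω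
      rcases hω with hω | hω
      · exact Finset.mem_union_left _ hω
      · rw [Finset.mem_image] at hω
        obtain ⟨a, ha, rfl⟩ := hω
        by_cases hae : a = g β
        · rw [hae, hxρ]
          exact Finset.mem_union_left _ (Finset.mem_union_left _ hε)
        · exact Finset.mem_union_right _
            (Finset.mem_image.mpr ⟨a, Finset.mem_erase.mpr ⟨hae, ha⟩, rfl⟩)
    have hcard : (g⁻¹ * x * g * x⁻¹).support.card ≤
        ((g.support \ T).card + (exits g T).card) + ((g.support \ T).card - 1) :=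
      calc (g⁻¹ * x * g * x⁻¹).support.card
          ≤ ((g.support \ T) ∪ exits g T ∪ ((g.support \ T).erase (g β)).image x).card :=
            Finset.card_le_card ((supp_comm_subset g x T hxT).trans hsub)
        _ ≤ ((g.support \ T) ∪ exits g T).card + (((g.support \ T).erase (g β)).image x).card :=
            Finset.card_union_le _ _
        _ ≤ ((g.support \ T).card + (exits g T).card) + ((g.support \ T).erase (g β)).card :=
            Nat.add_le_add (Finset.card_union_le _ _) Finset.card_image_le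
        _ = ((g.support \ T).card + (exits g T).card) + ((g.support \ T).card - 1) := by
            rw [Finset.card_erase_of_mem hρmem]
    rw [hsd] at hcard hpos
    omega

theorem step (G : Subgroup (Perm α)) {k : ℕ} (hk : 3 ≤ k) (hkn : k ≤ Fintype.card α)
    (hG : IsMultiplyPretransitive G α k) (g : Perm α) (hg : g ∈ G)
    (hm4 : 4 ≤ g.support.card) (hm : g.support.card + 3 ≤ 2 * k) :
    ∃ c ∈ G, c ≠ 1 ∧ c.support.card < g.support.card := by
  by_cases hfull : ∀ a, a ∈ g.support
  · obtain ⟨x, hxG, hx1, hxc⟩ := caseA G hk hkn hG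
    refine ⟨x, hxG, hx1, ?_⟩
    have : g.support = Finset.univ := Finset.eq_univ_iff_forall.mpr hfull
    rw [this, Finset.card_univ]
    omega
  · rw [not_forall] at hfull
    obtain ⟨ε, hε⟩ := hfull
    by_cases hmk : g.support.card ≤ k
    · obtain ⟨T, hTs, hTc, hTe⟩ := exists_T g (g.support.card - 1) (by omega)
      obtain ⟨c, hcG, hc1, hcc⟩ := opt2 G hkn hG g hg T hTs (by omega) (by omega) ε hε
      exact ⟨c, hcG, hc1, by omega⟩
    · obtain ⟨T, hTs, hTc, hTe⟩ := exists_T g (k - 1) (by omega)
      by_cases he : exits g T = ∅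
      · obtain ⟨c, hcG, hc1, hcc⟩ := opt2 G hkn hG g hg T hTs (by omega) (by omega) ε hε
        rw [he, Finset.card_empty] at hcc
        exact ⟨c, hcG, hc1, by omega⟩
      · obtain ⟨β, hβ⟩ := Finset.nonempty_iff_ne_empty.mpr he
        have hβ' := (mem_exits g T β).mp hβ
        have hρmem : g β ∈ g.support \ T :=
          Finset.mem_sdiff.mpr ⟨Perm.apply_mem_support.mpr (hTs hβ'.1), hβ'.2⟩
        have hsd : (g.support \ T).card = g.support.card - T.card :=
          Finset.card_sdiff_of_subset hTs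
        have hpos : 0 < ((g.support \ T).erase (g β)).card := by
          rw [Finset.card_erase_of_mem hρmem, hsd]; omega
        obtain ⟨ε', hε'⟩ := Finset.card_pos.mp hpos
        rw [Finset.mem_erase] at hε'
        obtain ⟨c, hcG, hc1, hcc⟩ := opt1 G hkn hG g hg T hTs (by omega) β hβ ε' hε'.2 hε'.1
        exact ⟨c, hcG, hc1, by omega⟩

theorem descent (G : Subgroup (Perm α)) {k : ℕ} (hk : 3 ≤ k) (hkn : k ≤ Fintype.card α)
    (hG : IsMultiplyPretransitive G α k) :
    ∀ m : ℕ, ∀ g ∈ G, g ≠ 1 → g.support.card = m → m + 3 ≤ 2 * k →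
      ∃ h ∈ G, h ≠ 1 ∧ h.support.card ≤ 3 := by
  intro m
  induction m using Nat.strong_induction_on with
  | _ m ih =>
    intro g hg hg1 hgm hmk
    by_cases h3 : m ≤ 3
    · exact ⟨g, hg, hg1, by omega⟩
    · obtain ⟨c, hc, hc1, hclt⟩ := step G hk hkn hG g hg (by omega) (by omega)
      exact ih c.support.card (by omega) c hc hc1 rfl (by omega)

/-- A `k`-transitive permutation group (`k ≥ 3`) with a non-identity element of support smaller than `2k - 2` contains a non-identity element of support at most 3, and therefore contains the alternating group. -/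
theorem result {α : Type*} [Fintype α] [DecidableEq α] (G : Subgroup (Equiv.Perm α)) {k : ℕ} (hk : 3 ≤ k) (hkn : k ≤ Fintype.card α) (hG : MulAction.IsMultiplyPretransitive G α k) (g : Equiv.Perm α) (hg : g ∈ G) (hg1 : g ≠ 1) (hsupp : g.support.card < 2 * k - 2) : (∃ h : Equiv.Perm α, h ∈ G ∧ h ≠ 1 ∧ h.support.card ≤ 3) ∧ alternatingGroup α ≤ G := by
  obtain ⟨h, hhG, hh1, hh3⟩ := descent G hk hkn hG g.support.card g hg hg1 rfl (by omega)
  refine ⟨⟨h, hhG, hh1, hh3⟩, ?_⟩
  have h2 : IsMultiplyPretransitive G α 2 :=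
    isMultiplyPretransitive_of_le (n := k) (by omega) (by rw [Nat.card_eq_fintype_card]; exact hkn)
  have hprim : IsPreprimitive G α := isPreprimitive_of_is_two_pretransitive h2
  have h0 : h.support.card ≠ 0 := fun e => hh1 (Perm.card_support_eq_zero.mp e)
  have h1 : h.support.card ≠ 1 := Perm.card_support_ne_one h
  have hcases : h.support.card = 2 ∨ h.support.card = 3 := by omega
  rcases hcases with h2c | h3c
  · have := Equiv.Perm.subgroup_eq_top_of_isPreprimitive_of_isSwap_mem hprim h
      (Perm.card_support_eq_two.mp h2c) hhG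
    rw [this]
    exact le_top
  · exact Equiv.Perm.alternatingGroup_le_of_isPreprimitive_of_isThreeCycle_mem hprim
      (_root_.card_support_eq_three_iff.mp h3c) hhG

end Cfsg.Agent.S0711
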