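import Cfsg.Statements.S5638

set_option autoImplicit false
open Cfsg Cfsg.Geo Matrix
open scoped Kronecker

namespace Cfsg.Agent.S5638

section aux

set_option linter.unusedSectionVars false
set_option linter.unusedVariables false

variable {F : Type*} [Field F] [Fintype F]

theorem zero_or_one (hq : Fintype.card F = 2) (x : F) : x = 0 ∨ x = 1 := by
  classical
  by_contra h
  push Not at h
  have h3 : ({0, 1, x} : Finset F).card = 3 := by
    rw [Finset.card_insert_of_notMem, Finset.card_insert_of_notMem, Finset.card_singleton]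
    · simp only [Finset.mem_singleton]
      exact fun h' => h.2 h'.symm
    · simp only [Finset.mem_insert, Finset.mem_singleton, not_or]
      exact ⟨zero_ne_one, fun h' => h.1 h'.symm⟩
  have := Finset.card_le_univ ({0, 1, x} : Finset F)
  omega

theorem one_add_one (hq : Fintype.card F = 2) : (1 : F) + 1 = 0 := by
  rcases zero_or_one hq ((1 : F) + 1) with h | h
  · exact h
  · exfalso
    have : (1 : F) = 0 := by
      have h' : (1 : F) + 1 = 1 + 0 := by rw [h, add_zero]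
      exact add_left_cancel h'
    exact one_ne_zero this

/-- The order three matrix. -/
def aMat (F : Type*) [Field F] : Matrix (Fin 2) (Fin 2) F := !![0, 1; 1, 1]

theorem conj_a (hq : Fintype.card F = 2) (x : Matrix (Fin 2) (Fin 2) F) (hx : x.det ≠ 0) :
    ∃ c : F, x * aMat F = (aMat F + c • (1 : Matrix (Fin 2) (Fin 2) F)) * x := by
  have h01 := zero_or_one hq
  have h2 : (1 : F) + 1 = 0 := one_add_one hq
  rw [Matrix.det_fin_two] at hx
  have hx' : x = !![x 0 0, x 0 1; x 1 0, x 1 1] := by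
    ext i j; fin_cases i <;> fin_cases j <;> rfl
  rcases h01 (x 0 0) with h00 | h00 <;> rcases h01 (x 0 1) with h01' | h01' <;>
    rcases h01 (x 1 0) with h10 | h10 <;> rcases h01 (x 1 1) with h11 | h11 <;>
    rw [h00, h01', h10, h11] at hx
  all_goals first
    | (exfalso; simp at hx; done)
    | (refine ⟨0, ?_⟩; rw [hx', h00, h01', h10, h11]; ext i j
       fin_cases i <;> fin_cases j <;>
         simp [aMat, Matrix.mul_apply, Fin.sum_univ_two, h2]; done)
    | (refine ⟨1, ?_⟩; rw [hx', h00, h01', h10, h11]; ext i j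
       fin_cases i <;> fin_cases j <;>
         simp [aMat, Matrix.mul_apply, Fin.sum_univ_two, h2]; done)

variable {n₂ : ℕ}

/-- The matrix `a ⊗ 1`. -/
def jMat (F : Type*) [Field F] (n₂ : ℕ) : Matrix (Fin 2 × Fin n₂) (Fin 2 × Fin n₂) F :=
  aMat F ⊗ₖ (1 : Matrix (Fin n₂) (Fin n₂) F)

theorem jMat_add (c : F) :
    jMat F n₂ + c • (1 : Matrix (Fin 2 × Fin n₂) (Fin 2 × Fin n₂) F) =
      (aMat F + c • (1 : Matrix (Fin 2) (Fin 2) F)) ⊗ₖ (1 : Matrix (Fin n₂) (Fin n₂) F) := by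
  rw [jMat, Matrix.add_kronecker, Matrix.smul_kronecker, Matrix.one_kronecker_one]

/-- The overgroup: matrices conjugating `a ⊗ 1` to `a ⊗ 1 + c`. -/
def overK (F : Type*) [Field F] (n₂ : ℕ) : Subgroup (GL (Fin 2 × Fin n₂) F) where
  carrier := {g | ∃ c : F, (g : Matrix (Fin 2 × Fin n₂) (Fin 2 × Fin n₂) F) * jMat F n₂ =
    (jMat F n₂ + c • (1 : Matrix (Fin 2 × Fin n₂) (Fin 2 × Fin n₂) F)) * g}
  one_mem' := ⟨0, by simp⟩
  mul_mem' := by
    rintro g h ⟨c, hc⟩ ⟨d, hd⟩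
    refine ⟨c + d, ?_⟩
    rw [Units.val_mul, Matrix.mul_assoc, hd, ← Matrix.mul_assoc, Matrix.mul_add, hc,
      Matrix.mul_smul, Matrix.mul_one, ← Matrix.mul_assoc]
    congr 1
    rw [Matrix.add_mul, Matrix.add_mul, Matrix.smul_mul, Matrix.smul_mul, Matrix.one_mul,
      add_smul]
    abel
  inv_mem' := by
    rintro g ⟨c, hc⟩
    refine ⟨-c, ?_⟩
    have h1 : ((g⁻¹ : GL _ F) : Matrix (Fin 2 × Fin n₂) (Fin 2 × Fin n₂) F) * g = 1 := by
      rw [← Units.val_mul, inv_mul_cancel, Units.val_one]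
    have h2 : (g : Matrix (Fin 2 × Fin n₂) (Fin 2 × Fin n₂) F) * ((g⁻¹ : GL _ F) : Matrix _ _ F) = 1 := by
      rw [← Units.val_mul, mul_inv_cancel, Units.val_one]
    have h3 : jMat F n₂ * ((g⁻¹ : GL _ F) : Matrix (Fin 2 × Fin n₂) (Fin 2 × Fin n₂) F) =
        ((g⁻¹ : GL _ F) : Matrix _ _ F) *
          (jMat F n₂ + c • (1 : Matrix (Fin 2 × Fin n₂) (Fin 2 × Fin n₂) F)) := by
      calc jMat F n₂ * ((g⁻¹ : GL _ F) : Matrix (Fin 2 × Fin n₂) (Fin 2 × Fin n₂) F)
          = ((g⁻¹ : GL _ F) : Matrix _ _ F) * ((g : Matrix _ _ F) * jMat F n₂) *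
              ((g⁻¹ : GL _ F) : Matrix _ _ F) := by
            rw [← Matrix.mul_assoc, h1, Matrix.one_mul]
        _ = ((g⁻¹ : GL _ F) : Matrix _ _ F) *
              (jMat F n₂ + c • (1 : Matrix (Fin 2 × Fin n₂) (Fin 2 × Fin n₂) F)) := by
            rw [hc, Matrix.mul_assoc, Matrix.mul_assoc, h2, Matrix.mul_one]
    rw [Matrix.mul_add, Matrix.mul_smul, Matrix.mul_one] at h3
    rw [Matrix.add_mul, Matrix.smul_mul, Matrix.one_mul, h3, neg_smul]
    abel

theorem mem_overK (g : GL (Fin 2 × Fin n₂) F) :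
    g ∈ overK F n₂ ↔ ∃ c : F, (g : Matrix (Fin 2 × Fin n₂) (Fin 2 × Fin n₂) F) * jMat F n₂ =
      (jMat F n₂ + c • (1 : Matrix (Fin 2 × Fin n₂) (Fin 2 × Fin n₂) F)) * g := Iff.rfl

theorem kronecker_le (hq : Fintype.card F = 2) : kroneckerSubgroup 2 n₂ F ≤ overK F n₂ := by
  rintro g ⟨x, b, hg⟩
  obtain ⟨c, hc⟩ := conj_a hq (x : Matrix (Fin 2) (Fin 2) F) (Matrix.isUnits_det_units x).ne_zero
  refine ⟨c, ?_⟩
  rw [jMat_add, hg, ← Matrix.mul_kronecker_mul, ← hc, Matrix.one_mul, jMat,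
    ← Matrix.mul_kronecker_mul, Matrix.mul_one]

/-- `1 + N` for a square-zero matrix `N`, as an invertible matrix. -/
def unip {m : Type*} [Fintype m] [DecidableEq m] (N : Matrix m m F) (hN : N * N = 0) : GL m F :=
  ⟨1 + N, 1 - N, by rw [Matrix.add_mul, Matrix.mul_sub, Matrix.mul_sub, hN]; simp,
    by rw [Matrix.sub_mul, Matrix.mul_add, Matrix.mul_add, hN]; simp⟩

theorem unip_val {m : Type*} [Fintype m] [DecidableEq m] (N : Matrix m m F) (hN : N * N = 0) :
    ((unip N hN : GL m F) : Matrix m m F) = 1 + N := rfl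

/-- The first witness matrix: `a ⊗ E₀₁`. -/
def n1 (F : Type*) [Field F] (i0 i1 : Fin n₂) : Matrix (Fin 2 × Fin n₂) (Fin 2 × Fin n₂) F :=
  aMat F ⊗ₖ (Matrix.single i0 i1 (1 : F))

theorem n1_sq (i0 i1 : Fin n₂) (h : i0 ≠ i1) : n1 F i0 i1 * n1 F i0 i1 = 0 := by
  rw [n1, ← Matrix.mul_kronecker_mul, Matrix.single_mul_single_of_ne _ _ _ _ h.symm,
    Matrix.kronecker_zero]

theorem witness1_mem (i0 i1 : Fin n₂) (h : i0 ≠ i1) :
    unip (n1 F i0 i1) (n1_sq i0 i1 h) ∈ overK F n₂ := by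
  refine ⟨0, ?_⟩
  rw [unip_val, zero_smul, add_zero, Matrix.add_mul, Matrix.mul_add, Matrix.one_mul,
    Matrix.mul_one, n1, jMat, ← Matrix.mul_kronecker_mul, ← Matrix.mul_kronecker_mul,
    Matrix.one_mul, Matrix.mul_one]

theorem witness1_not_mem (i0 i1 : Fin n₂) (h : i0 ≠ i1) :
    unip (n1 F i0 i1) (n1_sq i0 i1 h) ∉ kroneckerSubgroup 2 n₂ F := by
  rintro ⟨x, b, hg⟩
  rw [unip_val, n1] at hg
  have e1 := congrFun (congrFun hg (0, i0)) (0, i0)
  have e2 := congrFun (congrFun hg (0, i0)) (1, i0)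
  have e3 := congrFun (congrFun hg (0, i0)) (1, i1)
  simp only [Matrix.add_apply, Matrix.kroneckerMap_apply, Matrix.one_apply, aMat,
    Matrix.single_apply] at e1 e2 e3
  simp [h, h.symm] at e1 e2 e3
  rcases e2 with e2 | e2
  · rw [e2] at e3
    simp at e3
  · rw [e2] at e1
    simp at e1

/-- The second witness matrix: `E₀₁ ⊗ E₀₀`. -/
def n2 (F : Type*) [Field F] (i0 : Fin n₂) : Matrix (Fin 2 × Fin n₂) (Fin 2 × Fin n₂) F :=
  (Matrix.single (0 : Fin 2) (1 : Fin 2) (1 : F)) ⊗ₖ (Matrix.single i0 i0 (1 : F))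

theorem n2_sq (i0 : Fin n₂) : n2 F i0 * n2 F i0 = 0 := by
  rw [n2, ← Matrix.mul_kronecker_mul,
    Matrix.single_mul_single_of_ne _ _ _ _ (by decide : (1 : Fin 2) ≠ 0),
    Matrix.zero_kronecker]

theorem witness2_not_mem (i0 i1 : Fin n₂) (h : i0 ≠ i1) :
    unip (n2 F i0) (n2_sq i0) ∉ overK F n₂ := by
  rintro ⟨c, hc⟩
  rw [unip_val, jMat_add, Matrix.add_mul, Matrix.mul_add, Matrix.one_mul, Matrix.mul_one, n2, jMat,
    ← Matrix.mul_kronecker_mul, ← Matrix.mul_kronecker_mul, Matrix.one_mul, Matrix.mul_one] at hc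
  have e1 := congrFun (congrFun hc (0, i0)) (0, i0)
  have e2 := congrFun (congrFun hc (0, i1)) (0, i1)
  simp only [Matrix.add_apply, Matrix.kroneckerMap_apply, Matrix.one_apply, aMat,
    Matrix.single_apply, Matrix.mul_apply, Fin.sum_univ_two, Matrix.smul_apply] at e1 e2
  simp [h, h.symm] at e1 e2
  rw [← e2] at e1
  exact one_ne_zero e1

theorem specialLinear_eq_top (hq : Fintype.card F = 2) (n : ℕ) :
    specialLinear (Fin n) F = ⊤ := by
  classical
  have hsub : Subsingleton Fˣ := by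
    rw [← Fintype.card_le_one_iff_subsingleton, Fintype.card_units, hq]
  rw [eq_top_iff]
  intro g _
  rw [specialLinear, MonoidHom.mem_ker]
  exact Subsingleton.elim _ _

end aux

theorem result {F : Type*} [Field F] [Fintype F] (n : ℕ) (hn : 13 ≤ n) (hq : Fintype.card F = 2) (n₂ : ℕ) (e : Fin n ≃ Fin 2 × Fin n₂) (P : Matrix.GeneralLinearGroup (Fin n) F) : ∃ K : Subgroup (Matrix.GeneralLinearGroup (Fin n) F), Cfsg.Geo.tensorProductSubgroup 2 n₂ e P ⊓ Cfsg.Geo.specialLinear (Fin n) F < K ∧ K < Cfsg.Geo.specialLinear (Fin n) F := by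
  have hcard : n = 2 * n₂ := by
    have := Fintype.card_congr e
    simpa using this
  have h2 : 2 ≤ n₂ := by omega
  set i0 : Fin n₂ := ⟨0, by omega⟩ with hi0
  set i1 : Fin n₂ := ⟨1, by omega⟩ with hi1
  have h01 : i0 ≠ i1 := by
    intro h
    have := congrArg Fin.val h
    simp [hi0, hi1] at this
  set φ : GL (Fin 2 × Fin n₂) F ≃* GL (Fin n) F :=
    (glReindex e.symm).trans (MulAut.conj P) with hφ
  have hT : tensorProductSubgroup 2 n₂ e P = (kroneckerSubgroup 2 n₂ F).map φ.toMonoidHom := by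
    rw [tensorProductSubgroup, Subgroup.map_map]
    rfl
  rw [specialLinear_eq_top hq, inf_top_eq, hT]
  refine ⟨(overK F n₂).map φ.toMonoidHom, ?_, ?_⟩
  · refine lt_of_le_of_ne (Subgroup.map_mono (kronecker_le hq)) ?_
    intro h
    have h1 : φ.toMonoidHom (unip (n1 F i0 i1) (n1_sq i0 i1 h01)) ∈
        (overK F n₂).map φ.toMonoidHom := Subgroup.mem_map_of_mem _ (witness1_mem i0 i1 h01)
    rw [← h, Subgroup.mem_map_iff_mem φ.injective] at h1
    exact witness1_not_mem i0 i1 h01 h1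
  · refine lt_of_le_of_ne le_top ?_
    intro h
    have h1 : φ.toMonoidHom (unip (n2 F i0) (n2_sq i0)) ∈ (overK F n₂).map φ.toMonoidHom := by
      rw [h]; exact Subgroup.mem_top _
    rw [Subgroup.mem_map_iff_mem φ.injective] at h1
    exact witness2_not_mem i0 i1 h01 h1

end Cfsg.Agent.S5638
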