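import Cfsg.Statements.S5635
import Cfsg.Agent.S5638

set_option autoImplicit false
open Cfsg Cfsg.Geo Matrix Module

namespace Cfsg.Agent.S5635

section aux

set_option linter.unusedSectionVars false
set_option linter.unusedVariables false

variable {F : Type*} [Field F] {n t m : ℕ}

/-- The standard block decomposition along `ε`: vectors vanishing off block `i`. -/
def stdD (F : Type*) [Field F] (ε : Fin t × Fin m ≃ Fin n) (i : Fin t) :
    Submodule F (Fin n → F) where
  carrier := {x | ∀ j k, j ≠ i → x (ε (j, k)) = 0}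
  add_mem' := by
    intro a b ha hb j k hj
    rw [Pi.add_apply, ha j k hj, hb j k hj, add_zero]
  zero_mem' := fun _ _ _ => rfl
  smul_mem' := by
    intro c a ha j k hj
    rw [Pi.smul_apply, ha j k hj, smul_zero]

theorem mem_stdD (ε : Fin t × Fin m ≃ Fin n) (i : Fin t) (x : Fin n → F) :
    x ∈ stdD F ε i ↔ ∀ j k, j ≠ i → x (ε (j, k)) = 0 := Iff.rfl

theorem single_mem_stdD (ε : Fin t × Fin m ≃ Fin n) (i : Fin t) (k : Fin m) (c : F) :
    (Pi.single (ε (i, k)) c : Fin n → F) ∈ stdD F ε i := by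
  intro j l hj
  rw [Pi.single_apply, if_neg]
  intro h
  have := ε.injective h
  exact hj (Prod.ext_iff.mp this).1

/-- Transport of decomposition stabilisers. -/
theorem stab_transport (D D₀ : Fin t → Submodule F (Fin n → F)) (P : GL (Fin n) F)
    (h : ∀ i, D i = (D₀ i).map (Matrix.toLin' (P : Matrix (Fin n) (Fin n) F))) :
    decompositionStabilizer D =
      (decompositionStabilizer D₀).comap (MulAut.conj P⁻¹).toMonoidHom := by
  have hPinv : (Matrix.toLin' ((P⁻¹ : GL (Fin n) F) : Matrix (Fin n) (Fin n) F)).comp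
      (Matrix.toLin' (P : Matrix (Fin n) (Fin n) F)) = LinearMap.id := by
    rw [← Matrix.toLin'_mul, ← Units.val_mul, inv_mul_cancel, Units.val_one, Matrix.toLin'_one]
  have hPinv' : (Matrix.toLin' (P : Matrix (Fin n) (Fin n) F)).comp
      (Matrix.toLin' ((P⁻¹ : GL (Fin n) F) : Matrix (Fin n) (Fin n) F)) = LinearMap.id := by
    rw [← Matrix.toLin'_mul, ← Units.val_mul, mul_inv_cancel, Units.val_one, Matrix.toLin'_one]
  ext g
  rw [Subgroup.mem_comap]
  show (∃ σ : Equiv.Perm (Fin t), ∀ i, (D i).map (Matrix.toLin' (g : Matrix _ _ F)) = D (σ i)) ↔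
    (∃ σ : Equiv.Perm (Fin t), ∀ i, (D₀ i).map
      (Matrix.toLin' (((MulAut.conj P⁻¹).toMonoidHom g : GL (Fin n) F) : Matrix _ _ F)) = D₀ (σ i))
  have hconj : (((MulAut.conj P⁻¹).toMonoidHom g : GL (Fin n) F) : Matrix (Fin n) (Fin n) F) =
      ((P⁻¹ : GL (Fin n) F) : Matrix _ _ F) * (g : Matrix _ _ F) * (P : Matrix _ _ F) := by
    simp [MulAut.conj_apply]
  rw [hconj]
  constructor
  · rintro ⟨σ, hσ⟩
    refine ⟨σ, fun i => ?_⟩
    have := hσ i
    rw [h i, h (σ i)] at this
    have h2 := congrArg (Submodule.map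
      (Matrix.toLin' ((P⁻¹ : GL (Fin n) F) : Matrix (Fin n) (Fin n) F))) this
    rw [← Submodule.map_comp, ← Submodule.map_comp, ← Submodule.map_comp, hPinv,
      Submodule.map_id] at h2
    rw [← h2, Matrix.toLin'_mul, Matrix.toLin'_mul, LinearMap.comp_assoc]
  · rintro ⟨σ, hσ⟩
    refine ⟨σ, fun i => ?_⟩
    rw [h i, h (σ i), ← hσ i, ← Submodule.map_comp, ← Submodule.map_comp, Matrix.toLin'_mul,
      Matrix.toLin'_mul, ← LinearMap.comp_assoc, ← LinearMap.comp_assoc, hPinv', LinearMap.id_comp]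

theorem sl_transport (P : GL (Fin n) F) :
    (specialLinear (Fin n) F).comap (MulAut.conj P⁻¹).toMonoidHom = specialLinear (Fin n) F := by
  ext g
  rw [Subgroup.mem_comap, specialLinear, MonoidHom.mem_ker, MonoidHom.mem_ker]
  simp [MulAut.conj_apply]

/-- Existence of an adapted basis, packaged as a change of basis matrix. -/
theorem exists_P {D : Fin t → Submodule F (Fin n → F)} (hD : IsMDecomposition m D) :
    ∃ (ε : Fin t × Fin m ≃ Fin n) (P : GL (Fin n) F),
      ∀ i, D i = (stdD F ε i).map (Matrix.toLin' (P : Matrix (Fin n) (Fin n) F)) := by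
  classical
  have hint : DirectSum.IsInternal D :=
    DirectSum.isInternal_submodule_of_iSupIndep_of_iSup_eq_top hD.indep hD.iSup_eq_top
  let bs : ∀ i, Basis (Fin m) F (D i) := fun i =>
    Module.finBasisOfFinrankEq F (D i) (hD.finrank_eq i)
  let B₀ : Basis (Σ _ : Fin t, Fin m) F (Fin n → F) := hint.collectedBasis bs
  have hcard : t * m = n := by
    have := Module.finrank_eq_card_basis B₀
    simpa using this.symm
  let ε₀ : (Σ _ : Fin t, Fin m) ≃ Fin n :=
    (Equiv.sigmaEquivProd (Fin t) (Fin m)).trans (finProdFinEquiv.trans (finCongr hcard))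
  let ε : Fin t × Fin m ≃ Fin n := finProdFinEquiv.trans (finCongr hcard)
  have hε : ∀ i k, ε (i, k) = ε₀ ⟨i, k⟩ := fun i k => rfl
  let B : Basis (Fin n) F (Fin n → F) := B₀.reindex ε₀
  have hB : ∀ i k, B (ε (i, k)) = ((bs i k : D i) : Fin n → F) := by
    intro i k
    rw [hε, Basis.reindex_apply, Equiv.symm_apply_apply, hint.collectedBasis_coe]
  let e := Pi.basisFun F (Fin n)
  let P : GL (Fin n) F := ⟨e.toMatrix B, B.toMatrix e, Basis.toMatrix_mul_toMatrix_flip e B,
    Basis.toMatrix_mul_toMatrix_flip B e⟩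
  have hPval : (P : Matrix (Fin n) (Fin n) F) = e.toMatrix B := rfl
  have hP : ∀ y : Fin n → F, (P : Matrix (Fin n) (Fin n) F) *ᵥ (fun a => B.repr y a) = y := by
    intro y
    have h1 : e.toMatrix B *ᵥ (B.repr y : Fin n → F) = (e.repr y : Fin n → F) :=
      Basis.toMatrix_mulVec_repr B e y
    rw [hPval]
    refine h1.trans ?_
    ext a
    simp [e]
  refine ⟨ε, P, fun i => ?_⟩
  apply le_antisymm
  · intro y hy
    rw [Submodule.mem_map]
    refine ⟨fun a => B.repr y a, ?_, ?_⟩
    · intro j k hj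
      show B.repr y (ε (j, k)) = 0
      rw [hε, Basis.repr_reindex_apply, Equiv.symm_apply_apply]
      exact hint.collectedBasis_repr_of_mem_ne bs (Ne.symm hj) hy
    · rw [Matrix.toLin'_apply]
      exact hP y
  · rintro _ ⟨x, hx, rfl⟩
    rw [Matrix.toLin'_apply]
    have hx2 : x = fun a => B.repr (∑ a, x a • B a) a := by
      ext a
      rw [map_sum]
      simp [Finsupp.single_apply]
    have hPx : (P : Matrix (Fin n) (Fin n) F) *ᵥ x = ∑ a, x a • B a := by
      conv_lhs => rw [hx2]
      exact hP _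
    rw [hPx, ← Equiv.sum_comp ε, Fintype.sum_prod_type]
    refine Submodule.sum_mem _ fun j _ => Submodule.sum_mem _ fun k _ => ?_
    by_cases hj : j = i
    · subst hj
      rw [hB]
      exact Submodule.smul_mem _ _ (bs j k).2
    · rw [hx j k hj, zero_smul]
      exact Submodule.zero_mem _

/-- The block `i` of a vector. -/
def blk (ε : Fin t × Fin m ≃ Fin n) (x : Fin n → F) (i : Fin t) : Fin m → F :=
  fun k => x (ε (i, k))

/-- The form obtained by summing a block function `c` over the blocks. -/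
def bform (ε : Fin t × Fin m ≃ Fin n) (c : (Fin m → F) → (Fin m → F) → F)
    (x y : Fin n → F) : F := ∑ i, c (blk ε x i) (blk ε y i)

/-- The group of invertible matrices preserving a two-variable function. -/
def isoGrp (h : (Fin n → F) → (Fin n → F) → F) : Subgroup (GL (Fin n) F) where
  carrier := {g | ∀ x y, h ((g : Matrix (Fin n) (Fin n) F) *ᵥ x)
    ((g : Matrix (Fin n) (Fin n) F) *ᵥ y) = h x y}
  mul_mem' := by
    intro a b ha hb x y
    rw [Units.val_mul, ← Matrix.mulVec_mulVec, ← Matrix.mulVec_mulVec, ha, hb]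
  one_mem' := by
    intro x y
    simp
  inv_mem' := by
    intro a ha x y
    have := ha (((a⁻¹ : GL (Fin n) F) : Matrix (Fin n) (Fin n) F) *ᵥ x)
      (((a⁻¹ : GL (Fin n) F) : Matrix (Fin n) (Fin n) F) *ᵥ y)
    rw [Matrix.mulVec_mulVec, Matrix.mulVec_mulVec, ← Units.val_mul, mul_inv_cancel,
      Units.val_one, Matrix.one_mulVec, Matrix.one_mulVec] at this
    exact this.symm

theorem mem_isoGrp (h : (Fin n → F) → (Fin n → F) → F) (g : GL (Fin n) F) :
    g ∈ isoGrp h ↔ ∀ x y, h ((g : Matrix (Fin n) (Fin n) F) *ᵥ x)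
      ((g : Matrix (Fin n) (Fin n) F) *ᵥ y) = h x y := Iff.rfl

theorem stab_col_mem (ε : Fin t × Fin m ≃ Fin n) (g : GL (Fin n) F) (π : Equiv.Perm (Fin t))
    (hπ : ∀ i, (stdD F ε i).map (Matrix.toLin' (g : Matrix (Fin n) (Fin n) F)) = stdD F ε (π i))
    (i : Fin t) (x : Fin n → F) (hx : x ∈ stdD F ε i) :
    (g : Matrix (Fin n) (Fin n) F) *ᵥ x ∈ stdD F ε (π i) := by
  rw [← hπ i, ← Matrix.toLin'_apply]
  exact Submodule.mem_map_of_mem hx

theorem stab_entry_zero (ε : Fin t × Fin m ≃ Fin n) (g : GL (Fin n) F) (π : Equiv.Perm (Fin t))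
    (hπ : ∀ i, (stdD F ε i).map (Matrix.toLin' (g : Matrix (Fin n) (Fin n) F)) = stdD F ε (π i))
    (i : Fin t) (k : Fin m) (j : Fin t) (r : Fin m) (hj : j ≠ π i) :
    (g : Matrix (Fin n) (Fin n) F) (ε (j, r)) (ε (i, k)) = 0 := by
  have h1 := stab_col_mem ε g π hπ i _ (single_mem_stdD ε i k (1 : F)) j r hj
  rw [Matrix.mulVec_single_one] at h1
  exact h1

theorem stab_blk (ε : Fin t × Fin m ≃ Fin n) (g : GL (Fin n) F) (π : Equiv.Perm (Fin t))
    (hπ : ∀ i, (stdD F ε i).map (Matrix.toLin' (g : Matrix (Fin n) (Fin n) F)) = stdD F ε (π i))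
    (i : Fin t) (x : Fin n → F) :
    blk ε ((g : Matrix (Fin n) (Fin n) F) *ᵥ x) (π i) =
      (Matrix.of fun r k => (g : Matrix (Fin n) (Fin n) F) (ε (π i, r)) (ε (i, k))) *ᵥ blk ε x i := by
  ext r
  show ((g : Matrix (Fin n) (Fin n) F) *ᵥ x) (ε (π i, r)) = _
  rw [Matrix.mulVec, dotProduct, ← Equiv.sum_comp ε, Fintype.sum_prod_type,
    Finset.sum_eq_single i]
  · rfl
  · intro j _ hj
    refine Finset.sum_eq_zero fun k _ => ?_
    rw [stab_entry_zero ε g π hπ j k (π i) r (fun h => hj (π.injective h).symm), zero_mul]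
  · intro h; exact absurd (Finset.mem_univ i) h

theorem stab_blk_isUnit (ε : Fin t × Fin m ≃ Fin n) (g : GL (Fin n) F) (π : Equiv.Perm (Fin t))
    (hπ : ∀ i, (stdD F ε i).map (Matrix.toLin' (g : Matrix (Fin n) (Fin n) F)) = stdD F ε (π i))
    (i : Fin t) :
    IsUnit (Matrix.of fun r k => (g : Matrix (Fin n) (Fin n) F) (ε (π i, r)) (ε (i, k))).det := by
  classical
  rw [← Matrix.isUnit_iff_isUnit_det, ← Matrix.mulVec_injective_iff_isUnit]
  intro u w huw
  have hz : (Matrix.of fun r k => (g : Matrix (Fin n) (Fin n) F) (ε (π i, r)) (ε (i, k))) *ᵥ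
      (u - w) = 0 := by
    rw [Matrix.mulVec_sub]
    exact sub_eq_zero.mpr huw
  set x : Fin n → F := fun a => if (ε.symm a).1 = i then (u - w) (ε.symm a).2 else 0 with hx
  have hxi : blk ε x i = u - w := by
    ext k
    simp [blk, hx]
  have hxj : ∀ j, j ≠ i → blk ε x j = 0 := by
    intro j hj
    ext k
    simp [blk, hx, hj]
  have hgx : (g : Matrix (Fin n) (Fin n) F) *ᵥ x = 0 := by
    ext a
    obtain ⟨⟨p, r⟩, rfl⟩ := ε.surjective a
    obtain ⟨j, rfl⟩ := π.surjective p
    have := congrFun (stab_blk ε g π hπ j x) r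
    rw [blk] at this
    rw [this]
    by_cases hj : j = i
    · subst hj
      rw [hxi, hz]
      rfl
    · rw [hxj j hj, Matrix.mulVec_zero]
      rfl
  have hx0 : x = 0 := by
    have := congrArg (fun v => ((g⁻¹ : GL (Fin n) F) : Matrix (Fin n) (Fin n) F) *ᵥ v) hgx
    simp only [Matrix.mulVec_mulVec, Matrix.mulVec_zero] at this
    rwa [← Units.val_mul, inv_mul_cancel, Units.val_one, Matrix.one_mulVec] at this
  have : u - w = 0 := by
    rw [← hxi, hx0]
    rfl
  exact sub_eq_zero.mp this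

theorem stab_le_isoGrp (ε : Fin t × Fin m ≃ Fin n) (c : (Fin m → F) → (Fin m → F) → F)
    (hc : ∀ A : Matrix (Fin m) (Fin m) F, IsUnit A.det → ∀ u w, c (A *ᵥ u) (A *ᵥ w) = c u w) :
    decompositionStabilizer (stdD F ε) ≤ isoGrp (bform ε c) := by
  rintro g ⟨π, hπ⟩ x y
  rw [bform, bform, ← Equiv.sum_comp π]
  refine Finset.sum_congr rfl fun i _ => ?_
  rw [stab_blk ε g π hπ i x, stab_blk ε g π hπ i y]
  exact hc _ (stab_blk_isUnit ε g π hπ i) _ _

/-- Sesquilinearity data for a two-variable function. -/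
structure Sesq {V : Type*} [AddCommGroup V] [Module F V] (σ : F → F) (h : V → V → F) : Prop where
  add_left : ∀ x x' y, h (x + x') y = h x y + h x' y
  add_right : ∀ x y y', h x (y + y') = h x y + h x y'
  smul_left : ∀ (a : F) x y, h (a • x) y = a * h x y
  smul_right : ∀ (a : F) x y, h x (a • y) = σ a * h x y
  symm : ∀ x y, h y x = σ (h x y)

theorem Sesq.zero_left {V : Type*} [AddCommGroup V] [Module F V] {σ : F → F} {h : V → V → F}
    (hs : Sesq σ h) (y : V) : h 0 y = 0 := by
  have := hs.smul_left 0 0 y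
  rwa [zero_smul, zero_mul] at this

theorem Sesq.zero_right {V : Type*} [AddCommGroup V] [Module F V] {σ : F → F} {h : V → V → F}
    (hs : Sesq σ h) (x : V) : h x 0 = 0 := by
  have := hs.add_right x 0 0
  rw [add_zero] at this
  have h2 : h x 0 + 0 = h x 0 + h x 0 := by rw [add_zero]; exact this
  exact (add_left_cancel h2).symm

theorem sesq_bform (ε : Fin t × Fin m ≃ Fin n) (σ : F → F) (hσ : ∀ a b, σ (a + b) = σ a + σ b)
    (c : (Fin m → F) → (Fin m → F) → F)
    (hc : Sesq σ c) : Sesq σ (bform ε c) where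
  add_left := by
    intro x x' y
    rw [bform, bform, bform, ← Finset.sum_add_distrib]
    refine Finset.sum_congr rfl fun i _ => ?_
    rw [← hc.add_left]
    rfl
  add_right := by
    intro x y y'
    rw [bform, bform, bform, ← Finset.sum_add_distrib]
    refine Finset.sum_congr rfl fun i _ => ?_
    rw [← hc.add_right]
    rfl
  smul_left := by
    intro a x y
    rw [bform, bform, Finset.mul_sum]
    refine Finset.sum_congr rfl fun i _ => ?_
    rw [← hc.smul_left]
    rfl
  smul_right := by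
    intro a x y
    rw [bform, bform, Finset.mul_sum]
    refine Finset.sum_congr rfl fun i _ => ?_
    rw [← hc.smul_right]
    rfl
  symm := by
    intro x y
    rw [bform, bform]
    have : σ (∑ i, c (blk ε x i) (blk ε y i)) = ∑ i, σ (c (blk ε x i) (blk ε y i)) :=
      map_sum (AddMonoidHom.mk' σ hσ) _ _
    rw [this]
    refine Finset.sum_congr rfl fun i _ => ?_
    exact hc.symm _ _

/-- The key computation: a "reflection" preserves a sesquilinear function. -/
theorem refl_preserves {V : Type*} [AddCommGroup V] [Module F V] {σ : F → F} {h : V → V → F}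
    (hs : Sesq σ h) (v : V) (hv : h v v = -2) (x y : V) :
    h (x + h x v • v) (y + h y v • v) = h x y := by
  rw [hs.add_left, hs.add_right, hs.add_right, hs.smul_left, hs.smul_left, hs.smul_right,
    hs.smul_right, hv, hs.symm y v]
  ring

theorem reflM_aux (v φ : Fin n → F) (hv : φ ⬝ᵥ v = -2) :
    (1 + Matrix.vecMulVec v φ) * (1 + Matrix.vecMulVec v φ) = (1 : Matrix (Fin n) (Fin n) F) := by
  rw [Matrix.add_mul, Matrix.mul_add, Matrix.mul_add, Matrix.one_mul, Matrix.mul_one,
    Matrix.one_mul, Matrix.vecMulVec_mul_vecMulVec, hv]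
  ext i j
  simp only [Matrix.add_apply, Matrix.vecMulVec_apply, Pi.smul_apply, smul_eq_mul]
  ring

/-- The reflection-like involution `1 + v φᵀ` with `φ ⬝ v = -2`. -/
def reflM (v φ : Fin n → F) (hv : φ ⬝ᵥ v = -2) : GL (Fin n) F :=
  ⟨1 + Matrix.vecMulVec v φ, 1 + Matrix.vecMulVec v φ, reflM_aux v φ hv, reflM_aux v φ hv⟩

theorem reflM_val (v φ : Fin n → F) (hv : φ ⬝ᵥ v = -2) :
    ((reflM v φ hv : GL (Fin n) F) : Matrix (Fin n) (Fin n) F) = 1 + Matrix.vecMulVec v φ := rfl

theorem reflM_mulVec (v φ : Fin n → F) (hv : φ ⬝ᵥ v = -2) (x : Fin n → F) :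
    ((reflM v φ hv : GL (Fin n) F) : Matrix (Fin n) (Fin n) F) *ᵥ x = x + (φ ⬝ᵥ x) • v := by
  rw [reflM_val, Matrix.add_mulVec, Matrix.one_mulVec, Matrix.vecMulVec_mulVec]
  ext i
  simp

theorem reflM_apply (v φ : Fin n → F) (hv : φ ⬝ᵥ v = -2) (b a : Fin n) :
    ((reflM v φ hv : GL (Fin n) F) : Matrix (Fin n) (Fin n) F) b a =
      (if b = a then 1 else 0) + v b * φ a := by
  rw [reflM_val, Matrix.add_apply, Matrix.vecMulVec_apply, Matrix.one_apply]

theorem reflM_det (v φ : Fin n → F) (hv : φ ⬝ᵥ v = -2) :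
    ((reflM v φ hv : GL (Fin n) F) : Matrix (Fin n) (Fin n) F).det = -1 := by
  rw [reflM_val, Matrix.vecMulVec_eq (ι := Unit), Matrix.det_one_add_replicateCol_mul_replicateRow,
    hv]
  ring

theorem reflM_mem {σ : F → F} {h : (Fin n → F) → (Fin n → F) → F} (hs : Sesq σ h)
    (v φ : Fin n → F) (hv : φ ⬝ᵥ v = -2) (hφ : ∀ x, φ ⬝ᵥ x = h x v) :
    reflM v φ hv ∈ isoGrp h := by
  intro x y
  rw [reflM_mulVec, reflM_mulVec, hφ, hφ]
  exact refl_preserves hs v (by rw [← hφ, hv]) x y

/-- A matrix with a column meeting two different blocks does not stabilise the standard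
decomposition. -/
theorem not_mem_stab (ε : Fin t × Fin m ≃ Fin n) (g : GL (Fin n) F) (a : Fin n)
    (j₁ j₂ : Fin t) (r₁ r₂ : Fin m) (hne : j₁ ≠ j₂)
    (h1 : (g : Matrix (Fin n) (Fin n) F) (ε (j₁, r₁)) a ≠ 0)
    (h2 : (g : Matrix (Fin n) (Fin n) F) (ε (j₂, r₂)) a ≠ 0) :
    g ∉ decompositionStabilizer (stdD F ε) := by
  rintro ⟨π, hπ⟩
  obtain ⟨⟨i, k⟩, rfl⟩ := ε.surjective a
  have e1 : j₁ = π i := by
    by_contra hj
    exact h1 (stab_entry_zero ε g π hπ i k j₁ r₁ hj)
  have e2 : j₂ = π i := by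
    by_contra hj
    exact h2 (stab_entry_zero ε g π hπ i k j₂ r₂ hj)
  exact hne (e1.trans e2.symm)

/-- Evaluating a block form at a basis vector on the right. -/
theorem bform_single_right (ε : Fin t × Fin m ≃ Fin n) (c : (Fin m → F) → (Fin m → F) → F)
    (hc0 : ∀ u, c u 0 = 0) (x : Fin n → F) (j : Fin t) (l : Fin m) (a : F) :
    bform ε c x (Pi.single (ε (j, l)) a) = c (blk ε x j) (Pi.single l a) := by
  rw [bform, Finset.sum_eq_single j]
  · congr 1
    ext k
    simp only [blk, Pi.single_apply, ε.injective.eq_iff, Prod.mk.injEq, true_and]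
  · intro i _ hi
    have : blk ε (Pi.single (ε (j, l)) a : Fin n → F) i = 0 := by
      ext k
      simp only [blk, Pi.single_apply, ε.injective.eq_iff, Prod.mk.injEq, hi, false_and,
        if_false, Pi.zero_apply]
    rw [this, hc0]
  · intro h; exact absurd (Finset.mem_univ j) h

/-- Evaluating a block form at a basis vector on the left. -/
theorem bform_single_left (ε : Fin t × Fin m ≃ Fin n) (c : (Fin m → F) → (Fin m → F) → F)
    (hc0 : ∀ u, c 0 u = 0) (y : Fin n → F) (j : Fin t) (l : Fin m) (a : F) :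
    bform ε c (Pi.single (ε (j, l)) a) y = c (Pi.single l a) (blk ε y j) := by
  rw [bform, Finset.sum_eq_single j]
  · congr 1
    ext k
    simp only [blk, Pi.single_apply, ε.injective.eq_iff, Prod.mk.injEq, true_and]
  · intro i _ hi
    have : blk ε (Pi.single (ε (j, l)) a : Fin n → F) i = 0 := by
      ext k
      simp only [blk, Pi.single_apply, ε.injective.eq_iff, Prod.mk.injEq, hi, false_and,
        if_false, Pi.zero_apply]
    rw [this, hc0]
  · intro h; exact absurd (Finset.mem_univ j) h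

theorem mem_sl_iff (g : GL (Fin n) F) :
    g ∈ specialLinear (Fin n) F ↔ (g : Matrix (Fin n) (Fin n) F).det = 1 := by
  unfold specialLinear
  rw [MonoidHom.mem_ker]
  constructor
  · intro h
    have := congrArg Units.val h
    rwa [Matrix.GeneralLinearGroup.val_det_apply, Units.val_one] at this
  · intro h
    apply Units.ext
    rw [Matrix.GeneralLinearGroup.val_det_apply, Units.val_one, h]

/-- The elementary transvection `1 + E_{ab}`. -/
def tauM (a b : Fin n) (hab : a ≠ b) : GL (Fin n) F :=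
  Cfsg.Agent.S5638.unip (Matrix.single a b (1 : F))
    (Matrix.single_mul_single_of_ne (1 : F) a b a hab.symm 1)

theorem tauM_val (a b : Fin n) (hab : a ≠ b) :
    ((tauM a b hab : GL (Fin n) F) : Matrix (Fin n) (Fin n) F) = 1 + Matrix.single a b (1 : F) :=
  rfl

theorem tauM_mem_sl (a b : Fin n) (hab : a ≠ b) :
    (tauM a b hab : GL (Fin n) F) ∈ specialLinear (Fin n) F := by
  rw [mem_sl_iff, tauM_val]
  exact Matrix.det_transvection_of_ne _ _ hab 1

theorem tauM_mulVec (a b : Fin n) (hab : a ≠ b) (x : Fin n → F) :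
    ((tauM a b hab : GL (Fin n) F) : Matrix (Fin n) (Fin n) F) *ᵥ x = x + Pi.single a (x b) := by
  rw [tauM_val, Matrix.add_mulVec, Matrix.one_mulVec, Matrix.single_mulVec, one_mul]
  rfl

end aux

section caseA

set_option linter.unusedSectionVars false
set_option linter.unusedVariables false

variable {F : Type*} [Field F] [Fintype F] {n t : ℕ}

theorem inv_formula (hq : Fintype.card F ≤ 4) :
    (∀ x : F, x⁻¹ = x) ∨ ((2 : F) = 0 ∧ ∀ x : F, x⁻¹ = x ^ 2) := by
  obtain ⟨q, hq'⟩ : ∃ q, Fintype.card F = q := ⟨_, rfl⟩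
  have h2 : 2 ≤ q := by rw [← hq']; exact Fintype.one_lt_card
  rw [hq'] at hq
  have hpow : ∀ x : F, x ^ q = x := fun x => by rw [← hq']; exact FiniteField.pow_card x
  have hcast : ((q : ℕ) : F) = 0 := by rw [← hq']; exact Nat.cast_card_eq_zero F
  interval_cases q
  · left
    intro x
    rcases Cfsg.Agent.S5638.zero_or_one hq' x with h | h
    · rw [h, _root_.inv_zero]
    · rw [h, inv_one]
  · left
    intro x
    by_cases hx : x = 0
    · rw [hx, _root_.inv_zero]
    · have h3 := hpow x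
      have : x * x = 1 := by
        have h4 : x * (x * x) = x * 1 := by
          rw [mul_one]
          calc x * (x * x) = x ^ 3 := by ring
            _ = x := h3
        exact mul_left_cancel₀ hx h4
      exact inv_eq_of_mul_eq_one_right this
  · right
    have h20 : (2 : F) = 0 := by
      have h4 : (2 : F) * 2 = 0 := by
        have : ((4 : ℕ) : F) = 0 := hcast
        rw [← this]; norm_num
      exact mul_self_eq_zero.mp h4
    refine ⟨h20, ?_⟩
    intro x
    by_cases hx : x = 0
    · rw [hx, _root_.inv_zero]; simp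
    · have h3 := hpow x
      have : x * x ^ 2 = 1 := by
        have h4 : x * (x * x ^ 2) = x * 1 := by
          rw [mul_one]
          calc x * (x * x ^ 2) = x ^ 4 := by ring
            _ = x := h3
        exact mul_left_cancel₀ hx h4
      exact inv_eq_of_mul_eq_one_right this

theorem inv_add' (hq : Fintype.card F ≤ 4) (a b : F) : (a + b)⁻¹ = a⁻¹ + b⁻¹ := by
  rcases inv_formula hq with h | ⟨h2, h⟩
  · rw [h, h, h]
  · rw [h, h, h]
    have : (a + b) ^ 2 = a ^ 2 + b ^ 2 + 2 * (a * b) := by ring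
    rw [this, h2, zero_mul, add_zero]

theorem six_eq_zero (hq : Fintype.card F ≤ 4) : (6 : F) = 0 := by
  obtain ⟨q, hq'⟩ : ∃ q, Fintype.card F = q := ⟨_, rfl⟩
  have h2 : 2 ≤ q := by rw [← hq']; exact Fintype.one_lt_card
  rw [hq'] at hq
  have hcast : ((q : ℕ) : F) = 0 := by rw [← hq']; exact Nat.cast_card_eq_zero F
  interval_cases q
  · have : (2 : F) = 0 := by exact_mod_cast hcast
    have h6 : (6 : F) = 2 * 3 := by norm_num
    rw [h6, this, zero_mul]
  · have : (3 : F) = 0 := by exact_mod_cast hcast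
    have h6 : (6 : F) = 3 * 2 := by norm_num
    rw [h6, this, zero_mul]
  · have h4 : (2 : F) * 2 = 0 := by
      have : ((4 : ℕ) : F) = 0 := hcast
      rw [← this]; norm_num
    have : (2 : F) = 0 := mul_self_eq_zero.mp h4
    have h6 : (6 : F) = 2 * 3 := by norm_num
    rw [h6, this, zero_mul]

/-- The block function for lines. -/
def c1 (u w : Fin 1 → F) : F := u 0 * (w 0)⁻¹

theorem sesq_c1 (hq : Fintype.card F ≤ 4) : Sesq (fun a : F => a⁻¹) (c1 (F := F)) where
  add_left := by intro x x' y; simp only [c1, Pi.add_apply]; ring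
  add_right := by intro x y y'; simp only [c1, Pi.add_apply]; rw [inv_add' hq]; ring
  smul_left := by intro a x y; simp only [c1, Pi.smul_apply, smul_eq_mul]; ring
  smul_right := by intro a x y; simp only [c1, Pi.smul_apply, smul_eq_mul]; rw [mul_inv]; ring
  symm := by intro x y; simp only [c1]; rw [mul_inv, inv_inv]; ring

theorem c1_inv (A : Matrix (Fin 1) (Fin 1) F) (hA : IsUnit A.det) (u w : Fin 1 → F) :
    c1 (A *ᵥ u) (A *ᵥ w) = c1 u w := by
  have hd : A 0 0 ≠ 0 := by
    have := hA.ne_zero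
    rwa [Matrix.det_fin_one] at this
  simp only [c1, Matrix.mulVec, dotProduct, Fin.sum_univ_one]
  rw [mul_inv]
  field_simp

theorem c1_zero_right (u : Fin 1 → F) : c1 u 0 = 0 := by simp [c1]

theorem c1_zero_left (u : Fin 1 → F) : c1 0 u = 0 := by simp [c1]

theorem hA_single_right (ε : Fin t × Fin 1 ≃ Fin n) (x : Fin n → F) (j : Fin t) :
    bform ε c1 x (Pi.single (ε (j, 0)) 1) = x (ε (j, 0)) := by
  rw [bform_single_right ε c1 c1_zero_right]
  simp [c1, blk]

/-- The diagonal involution with `-1` at `a`. -/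
def dM (a : Fin n) : GL (Fin n) F :=
  ⟨Matrix.diagonal (fun b => if b = a then (-1 : F) else 1),
    Matrix.diagonal (fun b => if b = a then (-1 : F) else 1),
    by
      rw [Matrix.diagonal_mul_diagonal, ← Matrix.diagonal_one]
      congr 1
      ext b
      by_cases hb : b = a <;> simp [hb],
    by
      rw [Matrix.diagonal_mul_diagonal, ← Matrix.diagonal_one]
      congr 1
      ext b
      by_cases hb : b = a <;> simp [hb]⟩

theorem dM_val (a : Fin n) : ((dM a : GL (Fin n) F) : Matrix (Fin n) (Fin n) F) =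
    Matrix.diagonal (fun b => if b = a then (-1 : F) else 1) := rfl

theorem dM_mem (ε : Fin t × Fin 1 ≃ Fin n) (a : Fin n) :
    (dM a : GL (Fin n) F) ∈ isoGrp (bform ε (c1 (F := F))) := by
  intro x y
  rw [bform, bform]
  refine Finset.sum_congr rfl fun i _ => ?_
  simp only [c1, blk, dM_val, Matrix.mulVec_diagonal]
  have hd : (if ε (i, 0) = a then (-1 : F) else 1) ≠ 0 := by
    by_cases hb : ε (i, 0) = a <;> simp [hb]
  rw [mul_inv]
  field_simp

theorem dM_det (a : Fin n) : ((dM a : GL (Fin n) F) : Matrix (Fin n) (Fin n) F).det = -1 := by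
  rw [dM_val, Matrix.det_diagonal, Finset.prod_ite_eq']
  simp

theorem std_caseA (hq : Fintype.card F ≤ 4) (ht : 5 ≤ t) (ε : Fin t × Fin 1 ≃ Fin n) :
    ∃ K : Subgroup (GL (Fin n) F),
      decompositionStabilizer (stdD F ε) ⊓ specialLinear (Fin n) F < K ∧
        K < specialLinear (Fin n) F := by
  set h := bform ε (c1 (F := F)) with hh
  have hs : Sesq (fun a : F => a⁻¹) h :=
    sesq_bform ε _ (fun a b => inv_add' hq a b) c1 (sesq_c1 hq)
  set i0 : Fin t := ⟨0, by omega⟩ with hi0
  set i1 : Fin t := ⟨1, by omega⟩ with hi1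
  set i2 : Fin t := ⟨2, by omega⟩ with hi2
  set i3 : Fin t := ⟨3, by omega⟩ with hi3
  set i4 : Fin t := ⟨4, by omega⟩ with hi4
  have hne : ∀ {p q : ℕ} (hp : p < t) (hq : q < t), p ≠ q →
      ε ((⟨p, hp⟩ : Fin t), 0) ≠ ε ((⟨q, hq⟩ : Fin t), 0) := by
    intro p q hp hq hpq heq
    have := ε.injective heq
    simp only [Prod.mk.injEq, Fin.mk.injEq] at this
    exact hpq this.1
  set a0 := ε (i0, 0) with ha0
  set a1 := ε (i1, 0) with ha1
  set a2 := ε (i2, 0) with ha2
  set a3 := ε (i3, 0) with ha3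
  set a4 := ε (i4, 0) with ha4
  have h01 : a0 ≠ a1 := hne _ _ (by norm_num)
  have h02 : a0 ≠ a2 := hne _ _ (by norm_num)
  have h03 : a0 ≠ a3 := hne _ _ (by norm_num)
  have h04 : a0 ≠ a4 := hne _ _ (by norm_num)
  have h12 : a1 ≠ a2 := hne _ _ (by norm_num)
  have h13 : a1 ≠ a3 := hne _ _ (by norm_num)
  have h23 : a2 ≠ a3 := hne _ _ (by norm_num)
  set v : Fin n → F := Pi.single a0 1 + Pi.single a1 1 + Pi.single a2 1 + Pi.single a3 1 with hvdef
  have hva0 : v a0 = 1 := by
    simp [hvdef, Pi.single_apply, h01, h02, h03]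
  have hva1 : v a1 = 1 := by
    simp [hvdef, Pi.single_apply, h01.symm, h12, h13]
  have hva2 : v a2 = 1 := by
    simp [hvdef, Pi.single_apply, h02.symm, h12.symm, h23]
  have hva3 : v a3 = 1 := by
    simp [hvdef, Pi.single_apply, h03.symm, h13.symm, h23.symm]
  have hdot : ∀ x : Fin n → F, v ⬝ᵥ x = x a0 + x a1 + x a2 + x a3 := by
    intro x
    simp [hvdef, add_dotProduct, single_dotProduct]
  have hv : v ⬝ᵥ v = -2 := by
    rw [hdot, hva0, hva1, hva2, hva3]
    have := six_eq_zero (F := F) hq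
    linear_combination this
  have hφ : ∀ x, v ⬝ᵥ x = h x v := by
    intro x
    rw [hdot, hvdef, hs.add_right, hs.add_right, hs.add_right, hh, hA_single_right,
      hA_single_right, hA_single_right, hA_single_right]
  set R := reflM v v hv with hR
  have hRmem : R ∈ isoGrp h := reflM_mem hs v v hv hφ
  set W := R * dM a4 with hW
  have hWmem : W ∈ isoGrp h := Subgroup.mul_mem _ hRmem (dM_mem ε a4)
  have hWsl : W ∈ specialLinear (Fin n) F := by
    rw [mem_sl_iff, hW, Units.val_mul, Matrix.det_mul, hR, reflM_det, dM_det]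
    ring
  have hWentry : ∀ b, (W : Matrix (Fin n) (Fin n) F) b a0 = (if b = a0 then 1 else 0) + v b := by
    intro b
    rw [hW, Units.val_mul, dM_val, Matrix.mul_diagonal, hR, reflM_apply, hva0, if_neg h04,
      mul_one, mul_one]
  have hWnot : W ∉ decompositionStabilizer (stdD F ε) := by
    apply not_mem_stab ε W a0 i1 i2 0 0
    · intro h'
      have := congrArg Fin.val h'
      simp [hi1, hi2] at this
    · rw [← ha1, hWentry, if_neg h01.symm, hva1, zero_add]
      exact one_ne_zero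
    · rw [← ha2, hWentry, if_neg h02.symm, hva2, zero_add]
      exact one_ne_zero
  have hτnot : (tauM a0 a1 h01 : GL (Fin n) F) ∉ isoGrp h := by
    intro hmem
    have h1 := hmem (Pi.single a1 1) (Pi.single a1 1)
    rw [tauM_mulVec, Pi.single_eq_same, hs.add_right, hh, hA_single_right, hA_single_right,
      hA_single_right] at h1
    rw [← ha0, ← ha1] at h1
    simp [Pi.single_apply, h01, h01.symm] at h1
  refine ⟨isoGrp h ⊓ specialLinear (Fin n) F, ?_, ?_⟩
  · refine lt_of_le_of_ne (inf_le_inf_right _ (stab_le_isoGrp ε c1 c1_inv)) ?_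
    intro heq
    have : W ∈ decompositionStabilizer (stdD F ε) ⊓ specialLinear (Fin n) F := by
      rw [heq]; exact ⟨hWmem, hWsl⟩
    exact hWnot this.1
  · refine lt_of_le_of_ne inf_le_right ?_
    intro heq
    have : (tauM a0 a1 h01 : GL (Fin n) F) ∈ isoGrp h ⊓ specialLinear (Fin n) F := by
      rw [heq]; exact tauM_mem_sl a0 a1 h01
    exact hτnot this.1

end caseA

section caseB

set_option linter.unusedSectionVars false
set_option linter.unusedVariables false

variable {F : Type*} [Field F] [Fintype F] {n t : ℕ}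

/-- The block function for planes over the field with two elements. -/
def c2 (u w : Fin 2 → F) : F := u 0 * w 1 - u 1 * w 0

theorem sesq_c2 (h2 : (2 : F) = 0) : Sesq (fun a : F => a) (c2 (F := F)) where
  add_left := by intro x x' y; simp only [c2, Pi.add_apply]; ring
  add_right := by intro x y y'; simp only [c2, Pi.add_apply]; ring
  smul_left := by intro a x y; simp only [c2, Pi.smul_apply, smul_eq_mul]; ring
  smul_right := by intro a x y; simp only [c2, Pi.smul_apply, smul_eq_mul]; ring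
  symm := by
    intro x y
    simp only [c2]
    linear_combination (-(x 0 * y 1 - x 1 * y 0)) * h2

theorem c2_inv (hq : Fintype.card F = 2) (A : Matrix (Fin 2) (Fin 2) F) (hA : IsUnit A.det)
    (u w : Fin 2 → F) : c2 (A *ᵥ u) (A *ᵥ w) = c2 u w := by
  have hd : A.det = 1 := by
    rcases Cfsg.Agent.S5638.zero_or_one hq A.det with h | h
    · exact absurd h hA.ne_zero
    · exact h
  have : c2 (A *ᵥ u) (A *ᵥ w) = A.det * c2 u w := by
    simp only [c2, Matrix.mulVec, dotProduct, Fin.sum_univ_two, Matrix.det_fin_two]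
    ring
  rw [this, hd, one_mul]

theorem c2_zero_right (u : Fin 2 → F) : c2 u 0 = 0 := by simp [c2]

theorem c2_zero_left (u : Fin 2 → F) : c2 0 u = 0 := by simp [c2]

theorem hB_single_right0 (ε : Fin t × Fin 2 ≃ Fin n) (x : Fin n → F) (j : Fin t) :
    bform ε c2 x (Pi.single (ε (j, 0)) 1) = - x (ε (j, 1)) := by
  rw [bform_single_right ε c2 c2_zero_right]
  simp [c2, blk]

theorem hB_single_right1 (ε : Fin t × Fin 2 ≃ Fin n) (x : Fin n → F) (j : Fin t) :
    bform ε c2 x (Pi.single (ε (j, 1)) 1) = x (ε (j, 0)) := by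
  rw [bform_single_right ε c2 c2_zero_right]
  simp [c2, blk]

theorem std_caseB (hq : Fintype.card F = 2) (ht : 2 ≤ t) (ε : Fin t × Fin 2 ≃ Fin n) :
    ∃ K : Subgroup (GL (Fin n) F),
      decompositionStabilizer (stdD F ε) ⊓ specialLinear (Fin n) F < K ∧
        K < specialLinear (Fin n) F := by
  have h2 : (2 : F) = 0 := by
    have := Cfsg.Agent.S5638.one_add_one hq
    rw [← this]; norm_num
  set h := bform ε (c2 (F := F)) with hh
  have hs : Sesq (fun a : F => a) h :=
    sesq_bform ε _ (fun a b => rfl) c2 (sesq_c2 h2)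
  set i0 : Fin t := ⟨0, by omega⟩ with hi0
  set i1 : Fin t := ⟨1, by omega⟩ with hi1
  have hi01 : i0 ≠ i1 := by
    intro h'
    have := congrArg Fin.val h'
    simp [hi0, hi1] at this
  set a0 := ε (i0, 0) with ha0
  set a1 := ε (i1, 0) with ha1
  set b0 := ε (i0, 1) with hb0
  set b1 := ε (i1, 1) with hb1
  have hne : ∀ {p q : Fin t × Fin 2}, p ≠ q → ε p ≠ ε q := fun hpq heq => hpq (ε.injective heq)
  have h01 : a0 ≠ a1 := hne (by simp [hi01])
  have ha0b0 : a0 ≠ b0 := hne (by simp)
  have ha0b1 : a0 ≠ b1 := hne (by simp)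
  have ha1b0 : a1 ≠ b0 := hne (by simp)
  have ha1b1 : a1 ≠ b1 := hne (by simp)
  have hb01 : b0 ≠ b1 := hne (by simp [hi01])
  set v : Fin n → F := Pi.single a0 1 + Pi.single a1 1 with hvdef
  set φ : Fin n → F := -(Pi.single b0 1 + Pi.single b1 1) with hφdef
  have hva0 : v a0 = 1 := by simp [hvdef, Pi.single_apply, h01]
  have hva1 : v a1 = 1 := by simp [hvdef, Pi.single_apply, h01.symm]
  have hvb0 : v b0 = 0 := by simp [hvdef, Pi.single_apply, ha0b0.symm, ha1b0.symm]
  have hvb1 : v b1 = 0 := by simp [hvdef, Pi.single_apply, ha0b1.symm, ha1b1.symm]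
  have hφb0 : φ b0 = -1 := by simp [hφdef, Pi.single_apply, hb01]
  have hdot : ∀ x : Fin n → F, φ ⬝ᵥ x = -(x b0 + x b1) := by
    intro x
    simp [hφdef, add_dotProduct, single_dotProduct, neg_dotProduct]
  have hv : φ ⬝ᵥ v = -2 := by
    rw [hdot, hvb0, hvb1, h2]
    simp
  have hφ : ∀ x, φ ⬝ᵥ x = h x v := by
    intro x
    rw [hdot, hvdef, hs.add_right, hh, hB_single_right0, hB_single_right0]
    ring
  set R := reflM v φ hv with hR
  have hRmem : R ∈ isoGrp h := reflM_mem hs v φ hv hφ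
  have hRnot : R ∉ decompositionStabilizer (stdD F ε) := by
    apply not_mem_stab ε R b0 i0 i1 0 0 hi01
    · rw [← ha0, hR, reflM_apply, if_neg ha0b0, hva0, hφb0]
      simp
    · rw [← ha1, hR, reflM_apply, if_neg ha1b0, hva1, hφb0]
      simp
  have hτnot : (tauM a0 a1 h01 : GL (Fin n) F) ∉ isoGrp h := by
    intro hmem
    have e1 : ∀ x, h x (Pi.single b0 1) = x a0 := fun x => hB_single_right1 ε x i0
    have h1 := hmem (Pi.single a1 1) (Pi.single b0 1)
    rw [tauM_mulVec, tauM_mulVec, Pi.single_eq_same, Pi.single_eq_of_ne ha1b0, Pi.single_zero,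
      add_zero, e1, e1] at h1
    simp [Pi.single_apply, h01, h01.symm] at h1
  have hsl := Cfsg.Agent.S5638.specialLinear_eq_top hq n
  rw [hsl, inf_top_eq]
  refine ⟨isoGrp h, ?_, ?_⟩
  · refine lt_of_le_of_ne (stab_le_isoGrp ε c2 (c2_inv hq)) ?_
    intro heq
    exact hRnot (heq ▸ hRmem)
  · refine lt_of_le_of_ne le_top ?_
    intro heq
    exact hτnot (heq ▸ Subgroup.mem_top _)

end caseB

theorem result {F : Type*} [Field F] [Fintype F] (n : ℕ) (hn : 13 ≤ n) {t : ℕ} (m : ℕ) (D : Fin t → Submodule F (Fin n → F)) (hD : Cfsg.Geo.IsMDecomposition m D) (h : (m = 1 ∧ Fintype.card F ≤ 4) ∨ (m = 2 ∧ Fintype.card F = 2)) : ∃ K : Subgroup (Matrix.GeneralLinearGroup (Fin n) F), Cfsg.Geo.decompositionStabilizer D ⊓ Cfsg.Geo.specialLinear (Fin n) F < K ∧ K < Cfsg.Geo.specialLinear (Fin n) F := by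
  obtain ⟨ε, P, hP⟩ := exists_P hD
  have hcard : t * m = n := by
    have := Fintype.card_congr ε
    simpa using this
  have key : ∃ K₀ : Subgroup (GL (Fin n) F),
      decompositionStabilizer (stdD F ε) ⊓ specialLinear (Fin n) F < K₀ ∧
        K₀ < specialLinear (Fin n) F := by
    rcases h with ⟨hm, hq⟩ | ⟨hm, hq⟩
    · subst hm
      exact std_caseA hq (by omega) ε
    · subst hm
      exact std_caseB hq (by omega) ε
  obtain ⟨K₀, h1, h2⟩ := key
  have hsurj : Function.Surjective (MulAut.conj P⁻¹).toMonoidHom := (MulAut.conj P⁻¹).surjective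
  refine ⟨K₀.comap (MulAut.conj P⁻¹).toMonoidHom, ?_, ?_⟩
  · rw [stab_transport D (stdD F ε) P hP]
    conv_lhs => rw [← sl_transport P]
    rw [← Subgroup.comap_inf]
    exact (Subgroup.comap_lt_comap_of_surjective hsurj).mpr h1
  · conv_rhs => rw [← sl_transport P]
    exact (Subgroup.comap_lt_comap_of_surjective hsurj).mpr h2

end Cfsg.Agent.S5635
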