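import Cfsg.Statements.S5671
import Cfsg.Agent.S5635
import Cfsg.Agent.Lib.Helper97.TensorForm

set_option autoImplicit false
open Cfsg Cfsg.Geo Matrix
open scoped Kronecker
open Cfsg.Agent.Helper97 Cfsg.Agent.S5635

namespace Cfsg.Agent.S5671

section field4

set_option linter.unusedSectionVars false
set_option linter.unusedVariables false

variable {F : Type*} [Field F] [Fintype F]

theorem two_eq_zero (hF : Fintype.card F = 4) : (2 : F) = 0 := by
  have hcast : ((4 : ℕ) : F) = 0 := by rw [← hF]; exact Nat.cast_card_eq_zero F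
  have h4 : (2 : F) * 2 = 0 := by rw [← hcast]; norm_num
  exact mul_self_eq_zero.mp h4

theorem cube_eq_one (hF : Fintype.card F = 4) (x : F) (hx : x ≠ 0) : x ^ 3 = 1 := by
  have h4 : x ^ 4 = x := by rw [← hF]; exact FiniteField.pow_card x
  have : x * x ^ 3 = x * 1 := by rw [mul_one, ← pow_succ', h4]
  exact mul_left_cancel₀ hx this

theorem pow_four (hF : Fintype.card F = 4) (x : F) : x ^ 4 = x := by
  rw [← hF]; exact FiniteField.pow_card x

theorem sq_add (hF : Fintype.card F = 4) (a b : F) : (a + b) ^ 2 = a ^ 2 + b ^ 2 := by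
  have h2 := two_eq_zero hF
  have : (a + b) ^ 2 = a ^ 2 + b ^ 2 + 2 * (a * b) := by ring
  rw [this, h2, zero_mul, add_zero]

theorem sq_sq (hF : Fintype.card F = 4) (a : F) : (a ^ 2) ^ 2 = a := by
  rw [← pow_mul]; exact pow_four hF a

theorem neg_eq_self (hF : Fintype.card F = 4) (a : F) : -a = a := by
  have h2 := two_eq_zero hF
  have : a + a = 0 := by rw [← two_mul, h2, zero_mul]
  exact neg_eq_of_add_eq_zero_left this

/-- A value fixed by squaring is `0` or `1`. -/
theorem zero_or_one_of_sq (a : F) (h : a = a ^ 2) : a = 0 ∨ a = 1 := by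
  by_cases ha : a = 0
  · exact Or.inl ha
  · right
    have : a * 1 = a * a := by rw [mul_one, ← pow_two]; exact h
    exact (mul_left_cancel₀ ha this).symm

/-- There is an element `ω` with `ω² + ω = 1`. -/
theorem exists_omega (hF : Fintype.card F = 4) : ∃ ω : F, ω ^ 2 + ω = 1 := by
  classical
  -- some element is neither 0 nor 1
  have : ∃ ω : F, ω ≠ 0 ∧ ω ≠ 1 := by
    by_contra hcon
    push Not at hcon
    have hsub : (Finset.univ : Finset F) ⊆ {0, 1} := by
      intro x _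
      by_cases hx : x = 0
      · simp [hx]
      · simp [hcon x hx]
    have := Finset.card_le_card hsub
    rw [Finset.card_univ, hF] at this
    have h2 : ({0, 1} : Finset F).card ≤ 2 := Finset.card_le_two
    omega
  obtain ⟨ω, h0, h1⟩ := this
  refine ⟨ω, ?_⟩
  have h3 := cube_eq_one hF ω h0
  have hfac : (ω - 1) * (ω ^ 2 + ω + 1) = 0 := by
    have : (ω - 1) * (ω ^ 2 + ω + 1) = ω ^ 3 - 1 := by ring
    rw [this, h3, sub_self]
  rcases mul_eq_zero.mp hfac with h | h
  · exact absurd (sub_eq_zero.mp h) h1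
  · have h2 := two_eq_zero hF
    have hneg := neg_eq_self hF (1 : F)
    linear_combination h + hneg

end field4

section unitary

set_option linter.unusedSectionVars false
set_option linter.unusedVariables false

variable {F : Type*} [Field F] [Fintype F] {κ : Type} [Fintype κ] [DecidableEq κ]

theorem sesq_of_unitary (hF : Fintype.card F = 4) (f : (κ → F) → (κ → F) → F)
    (hf : IsUnitaryFormPow 2 f) : Sesq (fun a : F => a ^ 2) f where
  add_left := hf.add_left
  add_right := by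
    intro x y y'
    rw [hf.herm x (y + y'), hf.add_left, sq_add hF, ← hf.herm, ← hf.herm]
  smul_left := hf.smul_left
  smul_right := by
    intro a x y
    rw [hf.herm x (a • y), hf.smul_left, mul_pow, ← hf.herm]
  symm := by
    intro x y
    exact hf.herm y x

theorem diag_zero_or_one (f : (κ → F) → (κ → F) → F) (hf : IsUnitaryFormPow 2 f) (v : κ → F) :
    f v v = 0 ∨ f v v = 1 := zero_or_one_of_sq _ (hf.herm v v)

/-- A non-zero vector in the kernel of `f(·, v)`. -/
theorem exists_kernel_vec {σ : F → F} {k : ℕ} (hk : 2 ≤ k) (f : (Fin k → F) → (Fin k → F) → F)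
    (hs : Sesq σ f) (v : Fin k → F) : ∃ u : Fin k → F, u ≠ 0 ∧ f u v = 0 := by
  set i0 : Fin k := ⟨0, by omega⟩ with hi0
  set i1 : Fin k := ⟨1, by omega⟩ with hi1
  have h01 : i1 ≠ i0 := by
    intro h
    have := congrArg Fin.val h
    simp [hi0, hi1] at this
  by_cases h0 : f (Pi.single i0 1) v = 0
  · refine ⟨Pi.single i0 1, ?_, h0⟩
    intro h
    have := congrFun h i0
    simp at this
  · set c := f (Pi.single i1 1) v / f (Pi.single i0 1) v with hc
    refine ⟨Pi.single i1 1 + (-c) • Pi.single i0 1, ?_, ?_⟩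
    · intro h
      have := congrFun h i1
      simp [Pi.single_apply, h01] at this
    · rw [hs.add_left, hs.smul_left, hc]
      field_simp
      ring

theorem exists_isotropic (hF : Fintype.card F = 4) {k : ℕ} (hk : 2 ≤ k)
    (f : (Fin k → F) → (Fin k → F) → F) (hf : IsUnitaryFormPow 2 f) :
    ∃ z : Fin k → F, z ≠ 0 ∧ f z z = 0 := by
  have hs := sesq_of_unitary hF f hf
  have h2 := two_eq_zero hF
  set v : Fin k → F := Pi.single ⟨0, by omega⟩ 1 with hv
  have hv0 : v ≠ 0 := by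
    intro h
    have := congrFun h ⟨0, by omega⟩
    simp [hv] at this
  rcases diag_zero_or_one f hf v with h | h
  · exact ⟨v, hv0, h⟩
  · obtain ⟨u, hu0, huv⟩ := exists_kernel_vec hk f hs v
    rcases diag_zero_or_one f hf u with h' | h'
    · exact ⟨u, hu0, h'⟩
    · refine ⟨v + u, ?_, ?_⟩
      · intro hz
        have : u = -v := by
          rw [eq_neg_iff_add_eq_zero, add_comm]; exact hz
        rw [this] at huv
        have hneg : f (-v) v = - f v v := by
          have := hs.smul_left (-1) v v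
          rwa [neg_one_smul, neg_one_mul] at this
        rw [hneg, h] at huv
        simp at huv
      · rw [hs.add_left, hs.add_right, hs.add_right, h, h', huv, hs.symm u v, huv]
        simp only [ne_eq, OfNat.ofNat_ne_zero, not_false_eq_true, zero_pow, add_zero, zero_add]
        rw [← two_mul, h2, zero_mul]

/-- An orthonormal basis of a two-dimensional unitary space over the field with four elements. -/
theorem exists_orthonormal (hF : Fintype.card F = 4) (f : (Fin 2 → F) → (Fin 2 → F) → F)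
    (hf : IsUnitaryFormPow 2 f) :
    ∃ u₀ u₁ : Fin 2 → F, f u₀ u₀ = 1 ∧ f u₁ u₁ = 1 ∧ f u₀ u₁ = 0 ∧ f u₁ u₀ = 0 := by
  have hs := sesq_of_unitary hF f hf
  have h2 := two_eq_zero hF
  -- Step A: an anisotropic vector
  have hA : ∃ v : Fin 2 → F, f v v = 1 := by
    set v₀ : Fin 2 → F := Pi.single 0 1 with hv₀
    have hv00 : v₀ ≠ 0 := by
      intro h
      have := congrFun h 0
      simp [hv₀] at this
    rcases diag_zero_or_one f hf v₀ with h | h
    · obtain ⟨⟨w, hw⟩, _⟩ := hf.nondegenerate v₀ hv00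
      obtain ⟨w', hw1⟩ : ∃ w' : Fin 2 → F, f w' v₀ = 1 :=
        ⟨(f w v₀)⁻¹ • w, by rw [hs.smul_left, inv_mul_cancel₀ hw]⟩
      rcases diag_zero_or_one f hf w' with h' | h'
      · obtain ⟨ω, hω⟩ := exists_omega hF
        refine ⟨v₀ + ω • w', ?_⟩
        rw [hs.add_left, hs.add_right, hs.add_right, hs.smul_left, hs.smul_left, hs.smul_right,
          hs.smul_right, h, h', hw1, hs.symm w' v₀, hw1]
        simp only [one_pow, mul_one, mul_zero, add_zero, zero_add]
        exact hω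
      · exact ⟨w', h'⟩
    · exact ⟨v₀, h⟩
  obtain ⟨v, hv⟩ := hA
  obtain ⟨u, hu0, huv⟩ := exists_kernel_vec (le_refl 2) f hs v
  have hvu : f v u = 0 := by rw [hs.symm u v, huv]; simp
  have huu : f u u = 1 := by
    rcases diag_zero_or_one f hf u with h | h
    · exfalso
      obtain ⟨⟨x, hx⟩, _⟩ := hf.nondegenerate u hu0
      -- three vectors in a plane are dependent
      have hdep : ¬ LinearIndependent F ![v, u, x] := by
        intro hli
        have := hli.fintype_card_le_finrank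
        simp at this
      rw [Fintype.not_linearIndependent_iff] at hdep
      obtain ⟨g, hg, hne⟩ := hdep
      simp only [Fin.sum_univ_three, Matrix.cons_val_zero, Matrix.cons_val_one,
        Matrix.cons_val_two] at hg
      have e1 := congrArg (fun y => f y u) hg
      simp only [hs.add_left, hs.smul_left, hvu, h, hs.zero_left, mul_zero, zero_add] at e1
      have hg2 : g 2 = 0 := by
        rcases mul_eq_zero.mp e1 with h' | h'
        · exact h'
        · exact absurd h' hx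
      rw [hg2, zero_smul, add_zero] at hg
      have e2 := congrArg (fun y => f y v) hg
      simp only [hs.add_left, hs.smul_left, hv, huv, hs.zero_left, mul_zero, add_zero,
        mul_one] at e2
      rw [e2, zero_smul, zero_add] at hg
      have hg1 : g 1 = 0 := by
        rcases smul_eq_zero.mp hg with h' | h'
        · exact h'
        · exact absurd h' hu0
      obtain ⟨i, hi⟩ := hne
      fin_cases i
      · exact hi e2
      · exact hi hg1
      · exact hi hg2
    · exact h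
  exact ⟨v, u, hv, huu, hvu, huv⟩

end unitary

section generic

set_option linter.unusedSectionVars false
set_option linter.unusedVariables false

variable {F : Type*} [Field F] {κ : Type} [Fintype κ] [DecidableEq κ]

theorem sesq_sum_left {σ : F → F} {h : (κ → F) → (κ → F) → F} (hs : Sesq σ h) {α : Type*}
    (s : Finset α) (g : α → (κ → F)) (v : κ → F) :
    h (∑ a ∈ s, g a) v = ∑ a ∈ s, h (g a) v := by
  classical
  induction s using Finset.induction_on with
  | empty => simp [hs.zero_left]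
  | insert a s ha ih => rw [Finset.sum_insert ha, Finset.sum_insert ha, hs.add_left, ih]

theorem sesq_expand_left {σ : F → F} {h : (κ → F) → (κ → F) → F} (hs : Sesq σ h)
    (x v : κ → F) : h x v = (fun b => h (Pi.single b 1) v) ⬝ᵥ x := by
  conv_lhs => rw [pi_eq_sum_univ' x]
  rw [sesq_sum_left hs, dotProduct]
  refine Finset.sum_congr rfl fun b _ => ?_
  rw [hs.smul_left, mul_comm]

/-- The transvection `x ↦ x + h(x, v) v` attached to an isotropic vector. -/
def tvOf {σ : F → F} {h : (κ → F) → (κ → F) → F} (hs : Sesq σ h) (v : κ → F)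
    (hv : h v v = 0) : GL κ F :=
  tv v (fun b => h (Pi.single b 1) v) (by rw [← sesq_expand_left hs]; exact hv)

theorem tvOf_mulVec {σ : F → F} {h : (κ → F) → (κ → F) → F} (hs : Sesq σ h) (v : κ → F)
    (hv : h v v = 0) (x : κ → F) :
    ((tvOf hs v hv : GL κ F) : Matrix κ κ F) *ᵥ x = x + h x v • v := by
  rw [tvOf, tv_mulVec, ← sesq_expand_left hs]

theorem tvOf_apply {σ : F → F} {h : (κ → F) → (κ → F) → F} (hs : Sesq σ h) (v : κ → F)
    (hv : h v v = 0) (a b : κ) :
    ((tvOf hs v hv : GL κ F) : Matrix κ κ F) a b =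
      (if a = b then 1 else 0) + v a * h (Pi.single b 1) v := by
  rw [tvOf, tv_apply]

theorem tvOf_mem_isoG {σ : F → F} {h : (κ → F) → (κ → F) → F} (hs : Sesq σ h) (v : κ → F)
    (hv : h v v = 0) (h2 : (2 : F) = 0) : tvOf hs v hv ∈ isoG h := by
  intro x y
  rw [tvOf_mulVec, tvOf_mulVec]
  refine refl_preserves hs v ?_ x y
  rw [hv, h2, neg_zero]

theorem tvOf_mem_slG {σ : F → F} {h : (κ → F) → (κ → F) → F} (hs : Sesq σ h) (v : κ → F)
    (hv : h v v = 0) : tvOf hs v hv ∈ slG κ F := by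
  rw [mem_slG, tvOf, tv_det]

theorem sesq_sum_right {σ : F → F} {h : (κ → F) → (κ → F) → F} (hs : Sesq σ h) {α : Type*}
    (s : Finset α) (g : α → (κ → F)) (v : κ → F) :
    h v (∑ a ∈ s, g a) = ∑ a ∈ s, h v (g a) := by
  classical
  induction s using Finset.induction_on with
  | empty => simp [hs.zero_right]
  | insert a s ha ih => rw [Finset.sum_insert ha, Finset.sum_insert ha, hs.add_right, ih]

theorem formOfGram_gram {σ : F → F} {h : (κ → F) → (κ → F) → F} (hs : Sesq σ h)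
    (x y : κ → F) : formOfGram σ (gramMatrix h) x y = h x y := by
  conv_rhs => rw [pi_eq_sum_univ' x, pi_eq_sum_univ' y]
  rw [sesq_sum_left hs, formOfGram]
  refine Finset.sum_congr rfl fun a _ => ?_
  rw [sesq_sum_right hs]
  refine Finset.sum_congr rfl fun b _ => ?_
  rw [hs.smul_left, hs.smul_right, gramMatrix]
  ring

/-- Kronecker products of invertible matrices, as invertible matrices. -/
def kronGL {n₁ n₂ : ℕ} (a : GL (Fin n₁) F) (b : GL (Fin n₂) F) : GL (Fin n₁ × Fin n₂) F :=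
  ⟨(a : Matrix (Fin n₁) (Fin n₁) F) ⊗ₖ (b : Matrix (Fin n₂) (Fin n₂) F),
    ((a⁻¹ : GL (Fin n₁) F) : Matrix (Fin n₁) (Fin n₁) F) ⊗ₖ
      ((b⁻¹ : GL (Fin n₂) F) : Matrix (Fin n₂) (Fin n₂) F),
    by rw [← Matrix.mul_kronecker_mul, ← Units.val_mul, ← Units.val_mul, mul_inv_cancel,
      mul_inv_cancel, Units.val_one, Units.val_one, Matrix.one_kronecker_one],
    by rw [← Matrix.mul_kronecker_mul, ← Units.val_mul, ← Units.val_mul, inv_mul_cancel,
      inv_mul_cancel, Units.val_one, Units.val_one, Matrix.one_kronecker_one]⟩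

theorem kronGL_val {n₁ n₂ : ℕ} (a : GL (Fin n₁) F) (b : GL (Fin n₂) F) :
    ((kronGL a b : GL (Fin n₁ × Fin n₂) F) : Matrix (Fin n₁ × Fin n₂) (Fin n₁ × Fin n₂) F) =
      (a : Matrix (Fin n₁) (Fin n₁) F) ⊗ₖ (b : Matrix (Fin n₂) (Fin n₂) F) := rfl

theorem kronGL_mem {n₁ n₂ : ℕ} (a : GL (Fin n₁) F) (b : GL (Fin n₂) F) :
    kronGL a b ∈ kroneckerSubgroup n₁ n₂ F := ⟨a, b, rfl⟩

end generic

section core

set_option linter.unusedSectionVars false
set_option linter.unusedVariables false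

variable {F : Type*} [Field F] [Fintype F] {n₂ : ℕ}

/-- The `i`-th row block of a vector. -/
def row (x : Fin 2 × Fin n₂ → F) (i : Fin 2) : Fin n₂ → F := fun k => x (i, k)

/-- The block-sum form. -/
def psi (f₂ : (Fin n₂ → F) → (Fin n₂ → F) → F) (x y : Fin 2 × Fin n₂ → F) : F :=
  ∑ i : Fin 2, f₂ (row x i) (row y i)

theorem sesq_psi {σ : F → F} (hσ : ∀ a b, σ (a + b) = σ a + σ b)
    (f₂ : (Fin n₂ → F) → (Fin n₂ → F) → F) (hs : Sesq σ f₂) : Sesq σ (psi f₂) where
  add_left := by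
    intro x x' y
    simp only [psi, Fin.sum_univ_two]
    rw [show row (x + x') 0 = row x 0 + row x' 0 from rfl,
      show row (x + x') 1 = row x 1 + row x' 1 from rfl, hs.add_left, hs.add_left]
    ring
  add_right := by
    intro x y y'
    simp only [psi, Fin.sum_univ_two]
    rw [show row (y + y') 0 = row y 0 + row y' 0 from rfl,
      show row (y + y') 1 = row y 1 + row y' 1 from rfl, hs.add_right, hs.add_right]
    ring
  smul_left := by
    intro a x y
    simp only [psi, Fin.sum_univ_two]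
    rw [show row (a • x) 0 = a • row x 0 from rfl, show row (a • x) 1 = a • row x 1 from rfl,
      hs.smul_left, hs.smul_left]
    ring
  smul_right := by
    intro a x y
    simp only [psi, Fin.sum_univ_two]
    rw [show row (a • y) 0 = a • row y 0 from rfl, show row (a • y) 1 = a • row y 1 from rfl,
      hs.smul_right, hs.smul_right]
    ring
  symm := by
    intro x y
    simp only [psi, Fin.sum_univ_two]
    rw [hσ, hs.symm (row x 0) (row y 0), hs.symm (row x 1) (row y 1)]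

/-- Block-monomial matrices, as a submonoid. -/
def bmMonoid (F : Type*) [Field F] (n₂ : ℕ) : Submonoid (GL (Fin 2 × Fin n₂) F) where
  carrier := {g | ∃ π : Equiv.Perm (Fin 2), ∀ i j k l, i ≠ π j →
    (g : Matrix (Fin 2 × Fin n₂) (Fin 2 × Fin n₂) F) (i, k) (j, l) = 0}
  one_mem' := by
    refine ⟨1, fun i j k l hij => ?_⟩
    rw [Units.val_one, Matrix.one_apply, if_neg]
    intro h
    exact hij (by simpa using (Prod.ext_iff.mp h).1)
  mul_mem' := by
    rintro g g' ⟨π, hπ⟩ ⟨π', hπ'⟩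
    refine ⟨π * π', fun i j k l hij => ?_⟩
    rw [Units.val_mul, Matrix.mul_apply]
    refine Finset.sum_eq_zero fun pr _ => ?_
    obtain ⟨p, r⟩ := pr
    by_cases hp : p = π' j
    · subst hp
      rw [hπ i (π' j) k r (by simpa using hij), zero_mul]
    · rw [hπ' p j r l hp, mul_zero]

/-- Block-monomial matrices, as a subgroup (the ambient group is finite). -/
def bmGroup (F : Type*) [Field F] [Fintype F] (n₂ : ℕ) : Subgroup (GL (Fin 2 × Fin n₂) F) where
  toSubmonoid := bmMonoid F n₂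
  inv_mem' := by
    intro g hg
    classical
    have : Finite (GL (Fin 2 × Fin n₂) F) := inferInstance
    have hfin : IsOfFinOrder g := isOfFinOrder_of_finite g
    have hpos := hfin.orderOf_pos
    have : g⁻¹ = g ^ (orderOf g - 1) := by
      rw [inv_eq_iff_mul_eq_one, ← pow_succ', Nat.sub_add_cancel hpos, pow_orderOf_eq_one]
    rw [this]
    exact (bmMonoid F n₂).pow_mem hg _

theorem mem_bmGroup (g : GL (Fin 2 × Fin n₂) F) : g ∈ bmGroup F n₂ ↔
    ∃ π : Equiv.Perm (Fin 2), ∀ i j k l, i ≠ π j →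
      (g : Matrix (Fin 2 × Fin n₂) (Fin 2 × Fin n₂) F) (i, k) (j, l) = 0 := Iff.rfl

theorem row_single (j : Fin 2) (l : Fin n₂) (c : F) (i : Fin 2) :
    row (Pi.single (j, l) c : Fin 2 × Fin n₂ → F) i = if i = j then Pi.single l c else 0 := by
  ext k
  by_cases hij : i = j
  · subst hij
    by_cases hkl : k = l
    · subst hkl; simp [row]
    · simp [row, Pi.single_apply, hkl]
  · simp [row, Pi.single_apply, hij]

/-- Pure tensors. -/
def pure (w : Fin 2 → F) (z : Fin n₂ → F) : Fin 2 × Fin n₂ → F := fun p => w p.1 * z p.2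

theorem row_pure (w : Fin 2 → F) (z : Fin n₂ → F) (i : Fin 2) : row (pure w z) i = w i • z := rfl

theorem kron_mulVec_pure (a : Matrix (Fin 2) (Fin 2) F) (b : Matrix (Fin n₂) (Fin n₂) F)
    (w : Fin 2 → F) (z : Fin n₂ → F) :
    (a ⊗ₖ b) *ᵥ pure w z = pure (a *ᵥ w) (b *ᵥ z) := by
  ext ⟨i, k⟩
  simp only [Matrix.mulVec, dotProduct, pure, Matrix.kroneckerMap_apply, Fintype.sum_prod_type]
  rw [Finset.sum_mul_sum]
  refine Finset.sum_congr rfl fun j _ => Finset.sum_congr rfl fun l _ => ?_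
  ring

theorem psi_pure {σ : F → F} (f₂ : (Fin n₂ → F) → (Fin n₂ → F) → F) (hs : Sesq σ f₂)
    (w w' : Fin 2 → F) (z z' : Fin n₂ → F) :
    psi f₂ (pure w z) (pure w' z') = (w 0 * σ (w' 0) + w 1 * σ (w' 1)) * f₂ z z' := by
  simp only [psi, Fin.sum_univ_two, row_pure, hs.smul_left, hs.smul_right]
  ring

theorem kron_inf_le_bm (hF : Fintype.card F = 4) (hn : 1 ≤ n₂)
    (f₂ : (Fin n₂ → F) → (Fin n₂ → F) → F) (hf : IsUnitaryFormPow 2 f₂)
    (g : GL (Fin 2 × Fin n₂) F) (hg : g ∈ kroneckerSubgroup 2 n₂ F) (hiso : g ∈ isoG (psi f₂)) :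
    g ∈ bmGroup F n₂ := by
  have hs := sesq_of_unitary hF f₂ hf
  have h2 := two_eq_zero hF
  obtain ⟨a, b, hab⟩ := hg
  -- choose z, z' with f₂ z z' ≠ 0
  set z : Fin n₂ → F := Pi.single ⟨0, by omega⟩ 1 with hz
  have hz0 : z ≠ 0 := by
    intro h
    have := congrFun h ⟨0, by omega⟩
    simp [hz] at this
  obtain ⟨_, ⟨z', hzz'⟩⟩ := hf.nondegenerate z hz0
  have key : ∀ w w' : Fin 2 → F,
      (((a : Matrix (Fin 2) (Fin 2) F) *ᵥ w) 0 * (((a : Matrix (Fin 2) (Fin 2) F) *ᵥ w') 0) ^ 2 +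
        ((a : Matrix (Fin 2) (Fin 2) F) *ᵥ w) 1 * (((a : Matrix (Fin 2) (Fin 2) F) *ᵥ w') 1) ^ 2) *
        f₂ ((b : Matrix (Fin n₂) (Fin n₂) F) *ᵥ z) ((b : Matrix (Fin n₂) (Fin n₂) F) *ᵥ z') =
      (w 0 * (w' 0) ^ 2 + w 1 * (w' 1) ^ 2) * f₂ z z' := by
    intro w w'
    have := hiso (pure w z) (pure w' z')
    rw [hab, kron_mulVec_pure, kron_mulVec_pure, psi_pure f₂ hs, psi_pure f₂ hs] at this
    exact this
  have k0 := key (Pi.single 0 1) (Pi.single 0 1)
  have k1 := key (Pi.single 1 1) (Pi.single 1 1)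
  simp only [Matrix.mulVec_single_one, Matrix.col_apply, Pi.single_eq_same,
    Pi.single_apply] at k0 k1
  simp at k0 k1
  set A := (a : Matrix (Fin 2) (Fin 2) F) with hA
  have hdet : A.det ≠ 0 := (Matrix.isUnits_det_units a).ne_zero
  rw [Matrix.det_fin_two] at hdet
  have hcube : ∀ x : F, x = 0 ∨ x ^ 3 = 1 := fun x => by
    by_cases hx : x = 0
    · exact Or.inl hx
    · exact Or.inr (cube_eq_one hF x hx)
  have hc0 : (A 0 0 * A 0 0 ^ 2 + A 1 0 * A 1 0 ^ 2) ≠ 0 := by
    intro h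
    rw [h, zero_mul] at k0
    exact hzz' k0.symm
  have hc1 : (A 0 1 * A 0 1 ^ 2 + A 1 1 * A 1 1 ^ 2) ≠ 0 := by
    intro h
    rw [h, zero_mul] at k1
    exact hzz' k1.symm
  have hone : (1 : F) + 1 = 0 := by rw [← two_eq_zero hF]; norm_num
  -- each column has exactly one non-zero entry
  have col0 : (A 0 0 = 0 ∧ A 1 0 ≠ 0) ∨ (A 0 0 ≠ 0 ∧ A 1 0 = 0) := by
    rcases hcube (A 0 0) with h00 | h00 <;> rcases hcube (A 1 0) with h10 | h10
    · exfalso; apply hc0; rw [h00, h10]; ring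
    · left; refine ⟨h00, ?_⟩; intro h; rw [h] at h10; simp at h10
    · right; refine ⟨?_, h10⟩; intro h; rw [h] at h00; simp at h00
    · exfalso; apply hc0
      have e1 : A 0 0 * A 0 0 ^ 2 = 1 := by rw [← pow_succ', h00]
      have e2 : A 1 0 * A 1 0 ^ 2 = 1 := by rw [← pow_succ', h10]
      rw [e1, e2, hone]
  have col1 : (A 0 1 = 0 ∧ A 1 1 ≠ 0) ∨ (A 0 1 ≠ 0 ∧ A 1 1 = 0) := by
    rcases hcube (A 0 1) with h00 | h00 <;> rcases hcube (A 1 1) with h10 | h10
    · exfalso; apply hc1; rw [h00, h10]; ring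
    · left; refine ⟨h00, ?_⟩; intro h; rw [h] at h10; simp at h10
    · right; refine ⟨?_, h10⟩; intro h; rw [h] at h00; simp at h00
    · exfalso; apply hc1
      have e1 : A 0 1 * A 0 1 ^ 2 = 1 := by rw [← pow_succ', h00]
      have e2 : A 1 1 * A 1 1 ^ 2 = 1 := by rw [← pow_succ', h10]
      rw [e1, e2, hone]
  rw [mem_bmGroup]
  rcases col0 with ⟨h00, h10⟩ | ⟨h00, h10⟩
  · -- A 0 0 = 0: swap
    have h11 : A 1 1 = 0 := by
      rcases col1 with ⟨h01, h11⟩ | ⟨h01, h11⟩
      · exfalso; apply hdet; rw [h00, h01]; ring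
      · exact h11
    refine ⟨Equiv.swap 0 1, fun i j k l hij => ?_⟩
    rw [hab, Matrix.kroneckerMap_apply]
    fin_cases i <;> fin_cases j
    · simp only [Fin.zero_eta, Fin.isValue]; rw [h00, zero_mul]
    · exact absurd (by simp) hij
    · exact absurd (by simp) hij
    · simp only [Fin.mk_one, Fin.isValue]; rw [h11, zero_mul]
  · have h01 : A 0 1 = 0 := by
      rcases col1 with ⟨h01, h11⟩ | ⟨h01, h11⟩
      · exact h01
      · exfalso; apply hdet; rw [h10, h11]; ring
    refine ⟨1, fun i j k l hij => ?_⟩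
    rw [hab, Matrix.kroneckerMap_apply]
    fin_cases i <;> fin_cases j
    · exact absurd (by simp) hij
    · simp only [Fin.zero_eta, Fin.mk_one, Fin.isValue]; rw [h01, zero_mul]
    · simp only [Fin.zero_eta, Fin.mk_one, Fin.isValue]; rw [h10, zero_mul]
    · exact absurd (by simp) hij

theorem psi_single_left (f₂ : (Fin n₂ → F) → (Fin n₂ → F) → F) {σ : F → F} (hs : Sesq σ f₂)
    (j : Fin 2) (l : Fin n₂) (Z : Fin 2 × Fin n₂ → F) :
    psi f₂ (Pi.single (j, l) 1) Z = f₂ (Pi.single l 1) (row Z j) := by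
  simp only [psi, Fin.sum_univ_two, row_single]
  fin_cases j
  · simp [hs.zero_left]
  · simp [hs.zero_left]

theorem core (hF : Fintype.card F = 4) (hn : 2 ≤ n₂)
    (f₂ : (Fin n₂ → F) → (Fin n₂ → F) → F) (hf : IsUnitaryFormPow 2 f₂) :
    ∃ K₀ : Subgroup (GL (Fin 2 × Fin n₂) F),
      kroneckerSubgroup 2 n₂ F ⊓ (isoG (psi f₂) ⊓ slG (Fin 2 × Fin n₂) F) < K₀ ∧
        K₀ < isoG (psi f₂) ⊓ slG (Fin 2 × Fin n₂) F := by
  have hs := sesq_of_unitary hF f₂ hf
  have h2 := two_eq_zero hF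
  have hsΨ : Sesq (fun a : F => a ^ 2) (psi f₂) := sesq_psi (fun a b => sq_add hF a b) f₂ hs
  obtain ⟨z, hz0, hzz⟩ := exists_isotropic hF hn f₂ hf
  -- the functional φ_l = f₂(e_l, z) is non-zero
  set φ : Fin n₂ → F := fun l => f₂ (Pi.single l 1) z with hφ
  have hφne : ∃ l, φ l ≠ 0 := by
    by_contra hcon
    push Not at hcon
    obtain ⟨⟨x, hx⟩, _⟩ := hf.nondegenerate z hz0
    apply hx
    rw [sesq_expand_left hs, dotProduct]
    exact Finset.sum_eq_zero fun l _ => by rw [show f₂ (Pi.single l 1) z = φ l from rfl, hcon l, zero_mul]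
  obtain ⟨l₀, hl₀⟩ := hφne
  have hzne : ∃ k, z k ≠ 0 := by
    by_contra hcon
    push Not at hcon
    exact hz0 (funext hcon)
  obtain ⟨k₀, hk₀⟩ := hzne
  -- second witness: transvection inside the first block
  set Z : Fin 2 × Fin n₂ → F := fun p => if p.1 = 0 then z p.2 else 0 with hZ
  have hZ0 : row Z 0 = z := by ext k; simp [row, hZ]
  have hZ1 : row Z 1 = 0 := by ext k; simp [row, hZ]
  have hZZ : psi f₂ Z Z = 0 := by
    simp only [psi, Fin.sum_univ_two, hZ0, hZ1, hzz, hs.zero_left, add_zero]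
  set g₂ := tvOf hsΨ Z hZZ with hg₂
  have hg₂entry : ∀ i j k l, (g₂ : Matrix (Fin 2 × Fin n₂) (Fin 2 × Fin n₂) F) (i, k) (j, l) =
      (if (i, k) = (j, l) then 1 else 0) + Z (i, k) * f₂ (Pi.single l 1) (row Z j) := by
    intro i j k l
    rw [hg₂, tvOf_apply, psi_single_left f₂ hs]
  have hg₂bm : g₂ ∈ bmGroup F n₂ := by
    refine ⟨1, fun i j k l hij => ?_⟩
    have hij' : i ≠ j := by simpa using hij
    rw [hg₂entry, if_neg (fun h => hij' (Prod.ext_iff.mp h).1)]
    fin_cases i <;> fin_cases j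
    · exact absurd rfl hij'
    · simp only [Fin.mk_one, Fin.isValue]; rw [hZ1, hs.zero_right]; simp
    · simp [hZ]
    · exact absurd rfl hij'
  have hg₂not : g₂ ∉ kroneckerSubgroup 2 n₂ F := by
    rintro ⟨a, b, hab⟩
    have e11 : ∀ k l, (if k = l then (1 : F) else 0) =
        (a : Matrix (Fin 2) (Fin 2) F) 1 1 * (b : Matrix (Fin n₂) (Fin n₂) F) k l := by
      intro k l
      have := congrFun (congrFun hab (1, k)) (1, l)
      rw [hg₂entry, Matrix.kroneckerMap_apply] at this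
      simp [hZ] at this
      exact this
    have e00 : ∀ k l, (if k = l then (1 : F) else 0) + z k * φ l =
        (a : Matrix (Fin 2) (Fin 2) F) 0 0 * (b : Matrix (Fin n₂) (Fin n₂) F) k l := by
      intro k l
      have := congrFun (congrFun hab (0, k)) (0, l)
      rw [hg₂entry, Matrix.kroneckerMap_apply, hZ0] at this
      simp [hZ] at this
      exact this
    have ha11 : (a : Matrix (Fin 2) (Fin 2) F) 1 1 ≠ 0 := by
      intro h
      have := e11 k₀ k₀
      rw [h, zero_mul] at this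
      simp at this
    have hboff : ∀ k l, k ≠ l → (b : Matrix (Fin n₂) (Fin n₂) F) k l = 0 := by
      intro k l hkl
      have := e11 k l
      rw [if_neg hkl] at this
      rcases mul_eq_zero.mp this.symm with h | h
      · exact absurd h ha11
      · exact h
    -- off-diagonal: z k * φ l = 0
    have hoff : ∀ k l, k ≠ l → z k * φ l = 0 := by
      intro k l hkl
      have := e00 k l
      rw [if_neg hkl, hboff k l hkl, mul_zero, zero_add] at this
      exact this
    -- diagonal entries agree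
    have hdiag : ∀ k, z k * φ k = z k₀ * φ k₀ := by
      intro k
      have h1 := e00 k k
      have h2' := e00 k₀ k₀
      have h3 := e11 k k
      have h4 := e11 k₀ k₀
      rw [if_pos rfl] at h1 h2' h3 h4
      have hb : (b : Matrix (Fin n₂) (Fin n₂) F) k k = (b : Matrix (Fin n₂) (Fin n₂) F) k₀ k₀ :=
        mul_left_cancel₀ ha11 (h3.symm.trans h4)
      have : (1 : F) + z k * φ k = 1 + z k₀ * φ k₀ := by rw [h1, h2', hb]
      exact add_left_cancel this
    -- φ vanishes off k₀, hence φ k₀ ≠ 0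
    have hφk₀ : φ k₀ ≠ 0 := by
      by_cases hl : l₀ = k₀
      · rw [← hl]; exact hl₀
      · exfalso
        rcases mul_eq_zero.mp (hoff k₀ l₀ (Ne.symm hl)) with h | h
        · exact hk₀ h
        · exact hl₀ h
    obtain ⟨k₁, hk₁⟩ : ∃ k₁ : Fin n₂, k₁ ≠ k₀ := by
      by_cases h : k₀ = ⟨0, by omega⟩
      · refine ⟨⟨1, by omega⟩, ?_⟩
        rw [h]; intro h'; have := congrArg Fin.val h'; simp at this
      · exact ⟨⟨0, by omega⟩, Ne.symm h⟩
    have hφk₁ : φ k₁ = 0 := by
      rcases mul_eq_zero.mp (hoff k₀ k₁ (Ne.symm hk₁)) with h | h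
      · exact absurd h hk₀
      · exact h
    have := hdiag k₁
    rw [hφk₁, mul_zero] at this
    exact mul_ne_zero hk₀ hφk₀ this.symm
  -- third witness: transvection mixing the two blocks
  set Z' : Fin 2 × Fin n₂ → F := fun p => z p.2 with hZ'
  have hZ'row : ∀ j, row Z' j = z := fun j => rfl
  have hZZ' : psi f₂ Z' Z' = 0 := by
    simp only [psi, Fin.sum_univ_two, hZ'row, hzz, add_zero]
  set g₃ := tvOf hsΨ Z' hZZ' with hg₃
  have hg₃entry : ∀ i j k l, (g₃ : Matrix (Fin 2 × Fin n₂) (Fin 2 × Fin n₂) F) (i, k) (j, l) =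
      (if (i, k) = (j, l) then 1 else 0) + z k * φ l := by
    intro i j k l
    rw [hg₃, tvOf_apply, psi_single_left f₂ hs, hZ'row]
  have hg₃not : g₃ ∉ bmGroup F n₂ := by
    rintro ⟨π, hπ⟩
    by_cases hp : π 0 = 0
    · have := hπ 1 0 k₀ l₀ (by rw [hp]; decide)
      rw [hg₃entry, if_neg (by simp)] at this
      rw [zero_add] at this
      exact mul_ne_zero hk₀ hl₀ this
    · have hp1 : (0 : Fin 2) ≠ π 0 := fun h => hp h.symm
      have hall : ∀ k l, (if ((0 : Fin 2), k) = ((0 : Fin 2), l) then (1 : F) else 0) + z k * φ l = 0 := by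
        intro k l
        rw [← hg₃entry 0 0 k l]
        exact hπ 0 0 k l hp1
      obtain ⟨k₁, hk₁⟩ : ∃ k₁ : Fin n₂, k₁ ≠ l₀ := by
        by_cases h : l₀ = ⟨0, by omega⟩
        · refine ⟨⟨1, by omega⟩, ?_⟩
          rw [h]; intro h'; have := congrArg Fin.val h'; simp at this
        · exact ⟨⟨0, by omega⟩, Ne.symm h⟩
      have h1 := hall k₁ l₀
      rw [if_neg (by simpa using hk₁), zero_add] at h1
      have hzk₁ : z k₁ = 0 := by
        rcases mul_eq_zero.mp h1 with h | h
        · exact h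
        · exact absurd h hl₀
      have h2' := hall k₁ k₁
      rw [if_pos rfl, hzk₁, zero_mul, add_zero] at h2'
      exact one_ne_zero h2'
  refine ⟨bmGroup F n₂ ⊓ (isoG (psi f₂) ⊓ slG (Fin 2 × Fin n₂) F), ?_, ?_⟩
  · refine lt_of_le_of_ne ?_ ?_
    · intro g hg
      exact ⟨kron_inf_le_bm hF (by omega) f₂ hf g hg.1 hg.2.1, hg.2⟩
    · intro heq
      have : g₂ ∈ kroneckerSubgroup 2 n₂ F ⊓ (isoG (psi f₂) ⊓ slG (Fin 2 × Fin n₂) F) := by
        rw [heq]
        exact ⟨hg₂bm, tvOf_mem_isoG hsΨ Z hZZ h2, tvOf_mem_slG hsΨ Z hZZ⟩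
      exact hg₂not this.1
  · refine lt_of_le_of_ne inf_le_right ?_
    intro heq
    have : g₃ ∈ bmGroup F n₂ ⊓ (isoG (psi f₂) ⊓ slG (Fin 2 × Fin n₂) F) := by
      rw [heq]
      exact ⟨tvOf_mem_isoG hsΨ Z' hZZ' h2, tvOf_mem_slG hsΨ Z' hZZ'⟩
    exact hg₃not this.1

/-- The tensor Gram form in terms of the second form. -/
theorem formOfGram_kron {σ : F → F} (G₁ : Matrix (Fin 2) (Fin 2) F)
    (f₂ : (Fin n₂ → F) → (Fin n₂ → F) → F) (hs : Sesq σ f₂) (x y : Fin 2 × Fin n₂ → F) :
    formOfGram σ (G₁ ⊗ₖ gramMatrix f₂) x y =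
      ∑ i : Fin 2, ∑ j : Fin 2, G₁ i j * f₂ (row x i) (row y j) := by
  rw [formOfGram, Fintype.sum_prod_type]
  refine Finset.sum_congr rfl fun i _ => ?_
  have : ∀ k, ∑ b : Fin 2 × Fin n₂, x (i, k) * (G₁ ⊗ₖ gramMatrix f₂) (i, k) b * σ (y b) =
      ∑ j : Fin 2, ∑ l : Fin n₂, x (i, k) * (G₁ i j * gramMatrix f₂ k l) * σ (y (j, l)) := by
    intro k
    rw [Fintype.sum_prod_type]
    rfl
  simp_rw [this]
  rw [Finset.sum_comm]
  refine Finset.sum_congr rfl fun j _ => ?_
  rw [← formOfGram_gram hs, formOfGram, Finset.mul_sum]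
  refine Finset.sum_congr rfl fun k _ => ?_
  rw [Finset.mul_sum]
  refine Finset.sum_congr rfl fun l _ => ?_
  simp only [row]
  ring

end core

theorem result {F : Type*} [Field F] [Fintype F] (n : ℕ) (hF : Fintype.card F = 4) (hn : 13 ≤ n) (n₂ : ℕ) (e : Fin n ≃ Fin 2 × Fin n₂) (P : Matrix.GeneralLinearGroup (Fin n) F) (f₁ : (Fin 2 → F) → (Fin 2 → F) → F) (f₂ : (Fin n₂ → F) → (Fin n₂ → F) → F) (hf₁ : Cfsg.Geo.IsUnitaryFormPow 2 f₁) (hf₂ : Cfsg.Geo.IsUnitaryFormPow 2 f₂) (hT : Cfsg.Geo.IsTensorFormStructure (fun x : F => x ^ 2) (Cfsg.hermForm n F 2) f₁ f₂ e P) : ∃ K : Subgroup (Matrix.GeneralLinearGroup (Fin n) F), Cfsg.Geo.tensorProductSubgroup 2 n₂ e P ⊓ (Cfsg.GU n F 2 ⊓ Cfsg.Geo.specialLinear (Fin n) F) < K ∧ K < (Cfsg.GU n F 2 ⊓ Cfsg.Geo.specialLinear (Fin n) F) := by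
  obtain ⟨c, hc, hH⟩ := hT
  have hcard : n = 2 * n₂ := by
    have := Fintype.card_congr e
    simpa using this
  have hn₂ : 2 ≤ n₂ := by omega
  have hs₁ := sesq_of_unitary hF f₁ hf₁
  have hs₂ := sesq_of_unitary hF f₂ hf₂
  obtain ⟨u₀, u₁, h00, h11, h01, h10⟩ := exists_orthonormal hF f₁ hf₁
  set A : Matrix (Fin 2) (Fin 2) F := Matrix.of fun i p => if p = 0 then u₀ i else u₁ i with hA
  have hAw : ∀ w : Fin 2 → F, A *ᵥ w = w 0 • u₀ + w 1 • u₁ := by
    intro w
    ext i
    simp [hA, Matrix.mulVec, dotProduct, Fin.sum_univ_two]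
    ring
  have hinj : Function.Injective A.mulVec := by
    intro w w' hww
    have hd : A *ᵥ (w - w') = 0 := by
      rw [Matrix.mulVec_sub]; exact sub_eq_zero.mpr hww
    rw [hAw] at hd
    have e0 := congrArg (fun y => f₁ y u₀) hd
    have e1 := congrArg (fun y => f₁ y u₁) hd
    simp only [hs₁.add_left, hs₁.smul_left, h00, h10, h01, h11, hs₁.zero_left, mul_one, mul_zero,
      add_zero, zero_add] at e0 e1
    ext i
    fin_cases i
    · exact sub_eq_zero.mp e0
    · exact sub_eq_zero.mp e1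
  have hunit : IsUnit A := Matrix.mulVec_injective_iff_isUnit.mp hinj
  set Au : GL (Fin 2) F := hunit.unit with hAu
  have hAuval : (Au : Matrix (Fin 2) (Fin 2) F) = A := hunit.unit_spec
  set k : GL (Fin 2 × Fin n₂) F := kronGL Au 1 with hk
  have hkrow : ∀ (x : Fin 2 × Fin n₂ → F) (i : Fin 2),
      row ((k : Matrix (Fin 2 × Fin n₂) (Fin 2 × Fin n₂) F) *ᵥ x) i =
        A i 0 • row x 0 + A i 1 • row x 1 := by
    intro x i
    ext l
    simp only [row, hk, kronGL_val, hAuval, Matrix.mulVec, dotProduct, Fintype.sum_prod_type,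
      Fin.sum_univ_two, Matrix.kroneckerMap_apply, Units.val_one, Matrix.one_apply, Pi.add_apply,
      Pi.smul_apply, smul_eq_mul, mul_ite, mul_one, mul_zero, ite_mul, zero_mul,
      Finset.sum_ite_eq, Finset.mem_univ, if_true]
  -- the orthonormality relations in Gram form
  set G₁ := gramMatrix f₁ with hG₁
  have E : ∀ u w : Fin 2 → F, f₁ u w =
      u 0 * G₁ 0 0 * (w 0) ^ 2 + u 0 * G₁ 0 1 * (w 1) ^ 2 +
        (u 1 * G₁ 1 0 * (w 0) ^ 2 + u 1 * G₁ 1 1 * (w 1) ^ 2) := by
    intro u w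
    rw [← formOfGram_gram hs₁ u w, formOfGram]
    simp only [Fin.sum_univ_two]
    rfl
  rw [E] at h00 h11 h01 h10
  have hΨ : ∀ x y : Fin 2 × Fin n₂ → F,
      formOfGram (fun a : F => a ^ 2) (G₁ ⊗ₖ gramMatrix f₂)
        ((k : Matrix (Fin 2 × Fin n₂) (Fin 2 × Fin n₂) F) *ᵥ x)
        ((k : Matrix (Fin 2 × Fin n₂) (Fin 2 × Fin n₂) F) *ᵥ y) = psi f₂ x y := by
    intro x y
    rw [formOfGram_kron G₁ f₂ hs₂]
    simp only [Fin.sum_univ_two, hkrow, hs₂.add_left, hs₂.add_right, hs₂.smul_left,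
      hs₂.smul_right, psi]
    have a00 : A 0 0 = u₀ 0 := by simp [hA]
    have a10 : A 1 0 = u₀ 1 := by simp [hA]
    have a01 : A 0 1 = u₁ 0 := by simp [hA]
    have a11 : A 1 1 = u₁ 1 := by simp [hA]
    rw [a00, a10, a01, a11]
    linear_combination (f₂ (row x 0) (row y 0)) * h00 + (f₂ (row x 0) (row y 1)) * h01 +
      (f₂ (row x 1) (row y 0)) * h10 + (f₂ (row x 1) (row y 1)) * h11
  set P' : GL (Fin n) F := P * glReindex e.symm k with hP'
  have hH' : ∀ x y : Fin 2 × Fin n₂ → F,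
      hermForm n F 2 ((P' : Matrix (Fin n) (Fin n) F) *ᵥ (x ∘ e))
        ((P' : Matrix (Fin n) (Fin n) F) *ᵥ (y ∘ e)) = c * psi f₂ x y := by
    intro x y
    rw [hP', Units.val_mul, ← Matrix.mulVec_mulVec, ← Matrix.mulVec_mulVec, glReindex_mulVec,
      glReindex_mulVec, hH, hΨ]
  have hT' : tensorProductSubgroup 2 n₂ e P' = tensorProductSubgroup 2 n₂ e P :=
    tensorProductSubgroup_mul 2 n₂ e P k (kronGL_mem _ _)
  have hI : ∀ g, tphi e P' g ∈ GU n F 2 ⊓ specialLinear (Fin n) F ↔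
      g ∈ isoG (psi f₂) ⊓ slG (Fin 2 × Fin n₂) F := by
    intro g
    constructor
    · rintro ⟨h1, h2⟩
      exact ⟨(tphi_mem_preserving_iff e P' _ _ c hc hH' g).mp h1, (tphi_mem_sl_iff e P' g).mp h2⟩
    · rintro ⟨h1, h2⟩
      exact ⟨(tphi_mem_preserving_iff e P' _ _ c hc hH' g).mpr h1, (tphi_mem_sl_iff e P' g).mpr h2⟩
  obtain ⟨K₀, hK1, hK2⟩ := core hF hn₂ f₂ hf₂
  obtain ⟨K, h1, h2⟩ := transport_chain e P' (kroneckerSubgroup 2 n₂ F) _ K₀ _ hI hK1 hK2
  rw [← tensorProductSubgroup_eq_map, hT'] at h1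
  exact ⟨K, h1, h2⟩

end Cfsg.Agent.S5671
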