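import Cfsg.Statements.S5667
import Cfsg.Agent.S5671

set_option autoImplicit false
open Cfsg Cfsg.Geo Matrix
open scoped Kronecker
open Cfsg.Agent.Helper97 Cfsg.Agent.S5635

namespace Cfsg.Agent.S5667

section field3

set_option linter.unusedSectionVars false
set_option linter.unusedVariables false

variable {F : Type*} [Field F] [Fintype F]

theorem three_eq_zero (hq : Fintype.card F = 3) : (3 : F) = 0 := by
  have hcast : ((3 : ℕ) : F) = 0 := by rw [← hq]; exact Nat.cast_card_eq_zero F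
  exact_mod_cast hcast

theorem two_ne_zero' (hq : Fintype.card F = 3) : (2 : F) ≠ 0 := by
  intro h
  have h3 := three_eq_zero hq
  have : (1 : F) = 0 := by linear_combination h3 - h
  exact one_ne_zero this

theorem sq_eq_one (hq : Fintype.card F = 3) (x : F) (hx : x ≠ 0) : x ^ 2 = 1 := by
  have := FiniteField.pow_card_sub_one_eq_one x hx
  rwa [hq] at this

theorem eq_one_or_neg_one (hq : Fintype.card F = 3) (x : F) (hx : x ≠ 0) : x = 1 ∨ x = -1 := by
  have h := sq_eq_one hq x hx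
  have : (x - 1) * (x + 1) = 0 := by linear_combination h
  rcases mul_eq_zero.mp this with h' | h'
  · exact Or.inl (sub_eq_zero.mp h')
  · exact Or.inr (eq_neg_of_add_eq_zero_left h')

theorem sq_zero_or_one (hq : Fintype.card F = 3) (x : F) : x ^ 2 = 0 ∨ x ^ 2 = 1 := by
  by_cases hx : x = 0
  · left; rw [hx]; ring
  · exact Or.inr (sq_eq_one hq x hx)

end field3

section frame

set_option linter.unusedSectionVars false
set_option linter.unusedVariables false

variable {F : Type*} [Field F] [Fintype F] {V : Type*} [AddCommGroup V] [Module F V]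

theorem frame_aux (f : V → V → F)
    (hal : ∀ x y v, f (x + y) v = f x v + f y v) (hsl : ∀ (c : F) x v, f (c • x) v = c * f x v)
    (hsym : ∀ u v, f u v = f v u) (h3 : (3 : F) = 0)
    (a b c : V) (d : F) (hd : d ≠ 0) (haa : f a a = d) (hbb : f b b = d) (hcc : f c c = -d)
    (hab : f a b = 0) (hac : f a c = 0) (hbc : f b c = 0) :
    ∃ (ε : F) (w₀ w₁ w₂ : V), ε ≠ 0 ∧ f w₀ w₀ = ε ∧ f w₁ w₁ = ε ∧ f w₂ w₂ = ε ∧
      f w₀ w₁ = 0 ∧ f w₀ w₂ = 0 ∧ f w₁ w₂ = 0 := by
  have har : ∀ v x y, f v (x + y) = f v x + f v y := by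
    intro v x y
    rw [hsym, hal, hsym x, hsym y]
  have hsr : ∀ (c : F) v x, f v (c • x) = c * f v x := by
    intro c v x
    rw [hsym, hsl, hsym]
  have hba : f b a = 0 := by rw [hsym]; exact hab
  refine ⟨-d, a + b, a + (-1 : F) • b, c, neg_ne_zero.mpr hd, ?_, ?_, hcc, ?_, ?_, ?_⟩
  · rw [hal, har, har, haa, hab, hba, hbb]
    linear_combination d * h3
  · rw [hal, har, har, hsl, hsl, hsr, hsr, haa, hab, hba, hbb]
    linear_combination d * h3
  · rw [hal, har, har, hsr, hsr, haa, hab, hba, hbb]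
    ring
  · rw [hal, hac, hbc, add_zero]
  · rw [hal, hsl, hac, hbc, mul_zero, add_zero]

end frame

theorem exists_frame {F : Type*} [Field F] [Fintype F] (hq : Fintype.card F = 3)
    (f₂ : (Fin 3 → F) → (Fin 3 → F) → F) (hf₂ : IsSymmetricForm f₂) :
    ∃ (ε : F) (w₀ w₁ w₂ : Fin 3 → F), ε ≠ 0 ∧ f₂ w₀ w₀ = ε ∧ f₂ w₁ w₁ = ε ∧ f₂ w₂ w₂ = ε ∧
      f₂ w₀ w₁ = 0 ∧ f₂ w₀ w₂ = 0 ∧ f₂ w₁ w₂ = 0 := by
  have h3 := three_eq_zero hq
  have hb := hf₂.bilinear
  set B : LinearMap.BilinForm F (Fin 3 → F) :=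
    LinearMap.mk₂ F f₂ hb.add_left hb.smul_left hb.add_right hb.smul_right with hB
  have hBapp : ∀ x y, B x y = f₂ x y := fun x y => rfl
  have hsymm : LinearMap.IsSymm B := ⟨fun x y => by simp only [RingHom.id_apply, hBapp]; exact hf₂.symm x y⟩
  have : Invertible (2 : F) := invertibleOfNonzero (two_ne_zero' hq)
  obtain ⟨v, hv⟩ := LinearMap.BilinForm.exists_orthogonal_basis hsymm
  have hfr : Module.finrank F (Fin 3 → F) = 3 := by simp
  have hsep : B.SeparatingLeft := by
    intro x hx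
    by_contra hx0
    obtain ⟨_, ⟨y, hy⟩⟩ := hf₂.nondegenerate x hx0
    exact hy (hx y)
  have hnorm : ∀ i, f₂ (v i) (v i) ≠ 0 := fun i =>
    LinearMap.IsOrthoᵢ.not_isOrtho_basis_self_of_separatingLeft hv hsep i
  have hortho : ∀ i j, i ≠ j → f₂ (v i) (v j) = 0 := fun i j hij => hv hij
  -- three distinct indices
  set i0 : Fin (Module.finrank F (Fin 3 → F)) := ⟨0, by rw [hfr]; norm_num⟩ with hi0
  set i1 : Fin (Module.finrank F (Fin 3 → F)) := ⟨1, by rw [hfr]; norm_num⟩ with hi1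
  set i2 : Fin (Module.finrank F (Fin 3 → F)) := ⟨2, by rw [hfr]; norm_num⟩ with hi2
  have h01 : i0 ≠ i1 := by intro h; have := congrArg Fin.val h; simp [hi0, hi1] at this
  have h02 : i0 ≠ i2 := by intro h; have := congrArg Fin.val h; simp [hi0, hi2] at this
  have h12 : i1 ≠ i2 := by intro h; have := congrArg Fin.val h; simp [hi1, hi2] at this
  set a := v i0
  set b := v i1
  set c := v i2
  have hab : f₂ a b = 0 := hortho _ _ h01
  have hac : f₂ a c = 0 := hortho _ _ h02
  have hbc : f₂ b c = 0 := hortho _ _ h12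
  have hba : f₂ b a = 0 := hortho _ _ h01.symm
  have hca : f₂ c a = 0 := hortho _ _ h02.symm
  have hcb : f₂ c b = 0 := hortho _ _ h12.symm
  have one_ne : (1 : F) ≠ 0 := one_ne_zero
  have neg_one_ne : (-1 : F) ≠ 0 := neg_ne_zero.mpr one_ne_zero
  rcases eq_one_or_neg_one hq _ (hnorm i0) with ha | ha <;>
  rcases eq_one_or_neg_one hq _ (hnorm i1) with hb' | hb' <;>
  rcases eq_one_or_neg_one hq _ (hnorm i2) with hc | hc
  · exact ⟨1, a, b, c, one_ne, ha, hb', hc, hab, hac, hbc⟩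
  · exact frame_aux f₂ hb.add_left hb.smul_left hf₂.symm h3 a b c 1 one_ne ha hb' hc hab hac hbc
  · exact frame_aux f₂ hb.add_left hb.smul_left hf₂.symm h3 a c b 1 one_ne ha hc hb' hac hab hcb
  · exact frame_aux f₂ hb.add_left hb.smul_left hf₂.symm h3 b c a (-1) neg_one_ne hb' hc
      (by rw [ha, neg_neg]) hbc hba hca
  · exact frame_aux f₂ hb.add_left hb.smul_left hf₂.symm h3 b c a 1 one_ne hb' hc ha hbc hba hca
  · exact frame_aux f₂ hb.add_left hb.smul_left hf₂.symm h3 a c b (-1) neg_one_ne ha hc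
      (by rw [hb', neg_neg]) hac hab hcb
  · exact frame_aux f₂ hb.add_left hb.smul_left hf₂.symm h3 a b c (-1) neg_one_ne ha hb'
      (by rw [hc, neg_neg]) hab hac hbc
  · exact ⟨-1, a, b, c, neg_one_ne, ha, hb', hc, hab, hac, hbc⟩

section bil

set_option linter.unusedSectionVars false
set_option linter.unusedVariables false

variable {F : Type*} [Field F] {κ : Type} [Fintype κ] [DecidableEq κ]

theorem bil_zero_left {h : (κ → F) → (κ → F) → F} (hb : IsBilinearForm h) (y : κ → F) :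
    h 0 y = 0 := by
  have := hb.smul_left 0 0 y
  rwa [zero_smul, zero_mul] at this

theorem bil_zero_right {h : (κ → F) → (κ → F) → F} (hb : IsBilinearForm h) (x : κ → F) :
    h x 0 = 0 := by
  have := hb.smul_right 0 x 0
  rwa [zero_smul, zero_mul] at this

theorem bil_sum_left {h : (κ → F) → (κ → F) → F} (hb : IsBilinearForm h) {α : Type*}
    (s : Finset α) (g : α → (κ → F)) (v : κ → F) :
    h (∑ a ∈ s, g a) v = ∑ a ∈ s, h (g a) v := by
  classical
  induction s using Finset.induction_on with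
  | empty => simp [bil_zero_left hb]
  | insert a s ha ih => rw [Finset.sum_insert ha, Finset.sum_insert ha, hb.add_left, ih]

theorem bil_sum_right {h : (κ → F) → (κ → F) → F} (hb : IsBilinearForm h) {α : Type*}
    (s : Finset α) (g : α → (κ → F)) (v : κ → F) :
    h v (∑ a ∈ s, g a) = ∑ a ∈ s, h v (g a) := by
  classical
  induction s using Finset.induction_on with
  | empty => simp [bil_zero_right hb]
  | insert a s ha ih => rw [Finset.sum_insert ha, Finset.sum_insert ha, hb.add_right, ih]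

theorem bil_expand_left {h : (κ → F) → (κ → F) → F} (hb : IsBilinearForm h)
    (x v : κ → F) : h x v = (fun b => h (Pi.single b 1) v) ⬝ᵥ x := by
  conv_lhs => rw [pi_eq_sum_univ' x]
  rw [bil_sum_left hb, dotProduct]
  refine Finset.sum_congr rfl fun b _ => ?_
  rw [hb.smul_left, mul_comm]

theorem bil_formOfGram_gram {h : (κ → F) → (κ → F) → F} (hb : IsBilinearForm h)
    (x y : κ → F) : formOfGram id (gramMatrix h) x y = h x y := by
  conv_rhs => rw [pi_eq_sum_univ' x, pi_eq_sum_univ' y]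
  rw [bil_sum_left hb, formOfGram]
  refine Finset.sum_congr rfl fun a _ => ?_
  rw [bil_sum_right hb]
  refine Finset.sum_congr rfl fun b _ => ?_
  rw [hb.smul_left, hb.smul_right, gramMatrix, id]
  ring

/-- The transvection `x ↦ x + h(x, v) v` attached to an isotropic vector of a bilinear form. -/
def tvB {h : (κ → F) → (κ → F) → F} (hb : IsBilinearForm h) (v : κ → F)
    (hv : h v v = 0) : GL κ F :=
  tv v (fun b => h (Pi.single b 1) v) (by rw [← bil_expand_left hb]; exact hv)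

theorem tvB_mulVec {h : (κ → F) → (κ → F) → F} (hb : IsBilinearForm h) (v : κ → F)
    (hv : h v v = 0) (x : κ → F) :
    ((tvB hb v hv : GL κ F) : Matrix κ κ F) *ᵥ x = x + h x v • v := by
  rw [tvB, tv_mulVec, ← bil_expand_left hb]

theorem tvB_apply {h : (κ → F) → (κ → F) → F} (hb : IsBilinearForm h) (v : κ → F)
    (hv : h v v = 0) (a b : κ) :
    ((tvB hb v hv : GL κ F) : Matrix κ κ F) a b =
      (if a = b then 1 else 0) + v a * h (Pi.single b 1) v := by
  rw [tvB, tv_apply]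

theorem tvB_mem_isoG {h : (κ → F) → (κ → F) → F} (hb : IsBilinearForm h)
    (hskew : ∀ x y, h x y = - h y x) (v : κ → F) (hv : h v v = 0) : tvB hb v hv ∈ isoG h := by
  intro x y
  rw [tvB_mulVec, tvB_mulVec, hb.add_left, hb.add_right, hb.add_right, hb.smul_left, hb.smul_left,
    hb.smul_right, hb.smul_right, hv, hskew v y]
  ring

end bil

section core

set_option linter.unusedSectionVars false
set_option linter.unusedVariables false

variable {F : Type*} [Field F] [Fintype F] {n₁ : ℕ}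

/-- The `k`-th column block of a vector. -/
def col (x : Fin n₁ × Fin 3 → F) (k : Fin 3) : Fin n₁ → F := fun i => x (i, k)

/-- The block-sum form. -/
def psi3 (f₁ : (Fin n₁ → F) → (Fin n₁ → F) → F) (x y : Fin n₁ × Fin 3 → F) : F :=
  ∑ k : Fin 3, f₁ (col x k) (col y k)

theorem bil_psi3 (f₁ : (Fin n₁ → F) → (Fin n₁ → F) → F) (hb : IsBilinearForm f₁) :
    IsBilinearForm (psi3 f₁) where
  add_left := by
    intro x x' y
    simp only [psi3, Fin.sum_univ_three]
    rw [show col (x + x') 0 = col x 0 + col x' 0 from rfl,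
      show col (x + x') 1 = col x 1 + col x' 1 from rfl,
      show col (x + x') 2 = col x 2 + col x' 2 from rfl, hb.add_left, hb.add_left, hb.add_left]
    ring
  add_right := by
    intro x y y'
    simp only [psi3, Fin.sum_univ_three]
    rw [show col (y + y') 0 = col y 0 + col y' 0 from rfl,
      show col (y + y') 1 = col y 1 + col y' 1 from rfl,
      show col (y + y') 2 = col y 2 + col y' 2 from rfl, hb.add_right, hb.add_right, hb.add_right]
    ring
  smul_left := by
    intro a x y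
    simp only [psi3, Fin.sum_univ_three]
    rw [show col (a • x) 0 = a • col x 0 from rfl, show col (a • x) 1 = a • col x 1 from rfl,
      show col (a • x) 2 = a • col x 2 from rfl, hb.smul_left, hb.smul_left, hb.smul_left]
    ring
  smul_right := by
    intro a x y
    simp only [psi3, Fin.sum_univ_three]
    rw [show col (a • y) 0 = a • col y 0 from rfl, show col (a • y) 1 = a • col y 1 from rfl,
      show col (a • y) 2 = a • col y 2 from rfl, hb.smul_right, hb.smul_right, hb.smul_right]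
    ring

theorem psi3_skew (f₁ : (Fin n₁ → F) → (Fin n₁ → F) → F) (hskew : ∀ v w, f₁ v w = - f₁ w v)
    (x y : Fin n₁ × Fin 3 → F) : psi3 f₁ x y = - psi3 f₁ y x := by
  simp only [psi3, Fin.sum_univ_three]
  rw [hskew (col x 0), hskew (col x 1), hskew (col x 2)]
  ring

theorem psi3_alt (f₁ : (Fin n₁ → F) → (Fin n₁ → F) → F) (halt : ∀ v, f₁ v v = 0)
    (x : Fin n₁ × Fin 3 → F) : psi3 f₁ x x = 0 := by
  simp only [psi3, Fin.sum_univ_three, halt, add_zero]

/-- Block-monomial matrices (blocks indexed by the second coordinate), as a submonoid. -/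
def bm3Monoid (F : Type*) [Field F] (n₁ : ℕ) : Submonoid (GL (Fin n₁ × Fin 3) F) where
  carrier := {g | ∃ π : Fin 3 → Fin 3, ∀ i j k l, k ≠ π l →
    (g : Matrix (Fin n₁ × Fin 3) (Fin n₁ × Fin 3) F) (i, k) (j, l) = 0}
  one_mem' := by
    refine ⟨id, fun i j k l hkl => ?_⟩
    rw [Units.val_one, Matrix.one_apply, if_neg]
    intro h
    exact hkl (by simpa using (Prod.ext_iff.mp h).2)
  mul_mem' := by
    rintro g g' ⟨π, hπ⟩ ⟨π', hπ'⟩
    refine ⟨π ∘ π', fun i j k l hkl => ?_⟩
    rw [Units.val_mul, Matrix.mul_apply]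
    refine Finset.sum_eq_zero fun pr _ => ?_
    obtain ⟨p, r⟩ := pr
    by_cases hr : r = π' l
    · subst hr
      rw [hπ i p k (π' l) (by simpa using hkl), zero_mul]
    · rw [hπ' p j r l hr, mul_zero]

/-- Block-monomial matrices, as a subgroup (the ambient group is finite). -/
def bm3Group (F : Type*) [Field F] [Fintype F] (n₁ : ℕ) : Subgroup (GL (Fin n₁ × Fin 3) F) where
  toSubmonoid := bm3Monoid F n₁
  inv_mem' := by
    intro g hg
    classical
    have : Finite (GL (Fin n₁ × Fin 3) F) := inferInstance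
    have hfin : IsOfFinOrder g := isOfFinOrder_of_finite g
    have hpos := hfin.orderOf_pos
    have : g⁻¹ = g ^ (orderOf g - 1) := by
      rw [inv_eq_iff_mul_eq_one, ← pow_succ', Nat.sub_add_cancel hpos, pow_orderOf_eq_one]
    rw [this]
    exact (bm3Monoid F n₁).pow_mem hg _

theorem mem_bm3Group (g : GL (Fin n₁ × Fin 3) F) : g ∈ bm3Group F n₁ ↔
    ∃ π : Fin 3 → Fin 3, ∀ i j k l, k ≠ π l →
      (g : Matrix (Fin n₁ × Fin 3) (Fin n₁ × Fin 3) F) (i, k) (j, l) = 0 := Iff.rfl

theorem col_single (j : Fin n₁) (l : Fin 3) (c : F) (k : Fin 3) :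
    col (Pi.single (j, l) c : Fin n₁ × Fin 3 → F) k = if k = l then Pi.single j c else 0 := by
  ext i
  by_cases hkl : k = l
  · subst hkl
    by_cases hij : i = j
    · subst hij; simp [col]
    · simp [col, Pi.single_apply, hij]
  · simp [col, Pi.single_apply, hkl]

/-- Pure tensors. -/
def pure3 (z : Fin n₁ → F) (w : Fin 3 → F) : Fin n₁ × Fin 3 → F := fun p => w p.2 * z p.1

theorem col_pure3 (z : Fin n₁ → F) (w : Fin 3 → F) (k : Fin 3) : col (pure3 z w) k = w k • z := rfl

theorem kron_mulVec_pure3 (a : Matrix (Fin n₁) (Fin n₁) F) (b : Matrix (Fin 3) (Fin 3) F)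
    (z : Fin n₁ → F) (w : Fin 3 → F) :
    (a ⊗ₖ b) *ᵥ pure3 z w = pure3 (a *ᵥ z) (b *ᵥ w) := by
  ext ⟨i, k⟩
  simp only [Matrix.mulVec, dotProduct, pure3, Matrix.kroneckerMap_apply, Fintype.sum_prod_type]
  rw [Finset.sum_mul_sum, Finset.sum_comm]
  refine Finset.sum_congr rfl fun j _ => Finset.sum_congr rfl fun l _ => ?_
  ring

theorem psi3_pure (f₁ : (Fin n₁ → F) → (Fin n₁ → F) → F) (hb : IsBilinearForm f₁)
    (z z' : Fin n₁ → F) (w w' : Fin 3 → F) :
    psi3 f₁ (pure3 z w) (pure3 z' w') = (w 0 * w' 0 + w 1 * w' 1 + w 2 * w' 2) * f₁ z z' := by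
  simp only [psi3, Fin.sum_univ_three, col_pure3, hb.smul_left, hb.smul_right]
  ring

theorem kron_inf_le_bm3 (hq : Fintype.card F = 3) (hn : 1 ≤ n₁)
    (f₁ : (Fin n₁ → F) → (Fin n₁ → F) → F) (hf : IsSymplecticForm f₁)
    (g : GL (Fin n₁ × Fin 3) F) (hg : g ∈ kroneckerSubgroup n₁ 3 F) (hiso : g ∈ isoG (psi3 f₁)) :
    g ∈ bm3Group F n₁ := by
  have hb := hf.bilinear
  have h3 := three_eq_zero hq
  obtain ⟨a, b, hab⟩ := hg
  set z : Fin n₁ → F := Pi.single ⟨0, by omega⟩ 1 with hz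
  have hz0 : z ≠ 0 := by
    intro h
    have := congrFun h ⟨0, by omega⟩
    simp [hz] at this
  obtain ⟨_, ⟨z', hzz'⟩⟩ := hf.nondegenerate z hz0
  set B := (b : Matrix (Fin 3) (Fin 3) F) with hB
  set μ := f₁ ((a : Matrix (Fin n₁) (Fin n₁) F) *ᵥ z) ((a : Matrix (Fin n₁) (Fin n₁) F) *ᵥ z') with hμ
  set ν := f₁ z z' with hν
  have key : ∀ w w' : Fin 3 → F,
      ((B *ᵥ w) 0 * (B *ᵥ w') 0 + (B *ᵥ w) 1 * (B *ᵥ w') 1 + (B *ᵥ w) 2 * (B *ᵥ w') 2) * μ =
        (w 0 * w' 0 + w 1 * w' 1 + w 2 * w' 2) * ν := by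
    intro w w'
    have := hiso (pure3 z w) (pure3 z' w')
    rw [hab, kron_mulVec_pure3, kron_mulVec_pure3, psi3_pure f₁ hb, psi3_pure f₁ hb] at this
    exact this
  have keyD : ∀ l l' : Fin 3, (B 0 l * B 0 l' + B 1 l * B 1 l' + B 2 l * B 2 l') * μ =
      (if l = l' then 1 else 0) * ν := by
    intro l l'
    have := key (Pi.single l 1) (Pi.single l' 1)
    simp only [Matrix.mulVec_single_one, Matrix.col_apply] at this
    rw [this]
    congr 1
    fin_cases l <;> fin_cases l' <;> simp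
  have hμ0 : μ ≠ 0 := by
    intro h
    have := keyD 0 0
    rw [h, mul_zero, if_pos rfl, one_mul] at this
    exact hzz' this.symm
  set lam := ν * μ⁻¹ with hlam
  have hlam0 : lam ≠ 0 := mul_ne_zero hzz' (inv_ne_zero hμ0)
  have hD : ∀ l l' : Fin 3, B 0 l * B 0 l' + B 1 l * B 1 l' + B 2 l * B 2 l' =
      if l = l' then lam else 0 := by
    intro l l'
    have := keyD l l'
    have h' : B 0 l * B 0 l' + B 1 l * B 1 l' + B 2 l * B 2 l' =
        (if l = l' then 1 else 0) * ν * μ⁻¹ := by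
      rw [← this, mul_assoc, mul_inv_cancel₀ hμ0, mul_one]
    rw [h']
    split_ifs
    · rw [one_mul]
    · rw [zero_mul, zero_mul]
  have hlam1 : lam = 1 := by
    rcases eq_one_or_neg_one hq lam hlam0 with h | h
    · exact h
    · exfalso
      have hBB : Bᵀ * B = -1 := by
        ext l l'
        rw [Matrix.mul_apply, Fin.sum_univ_three, Matrix.neg_apply, Matrix.one_apply]
        simp only [Matrix.transpose_apply]
        rw [hD l l', h]
        split_ifs <;> simp
      have hdet := congrArg Matrix.det hBB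
      rw [Matrix.det_mul, Matrix.det_transpose, Matrix.det_neg, Matrix.det_one] at hdet
      simp only [Fintype.card_fin] at hdet
      have hsq : B.det ^ 2 = -1 := by rw [pow_two, hdet]; ring
      rcases sq_zero_or_one hq B.det with h0 | h1
      · rw [h0] at hsq
        have : (1 : F) = 0 := by linear_combination hsq
        exact one_ne_zero this
      · rw [h1] at hsq
        have : (1 : F) = 0 := by linear_combination h3 - hsq
        exact one_ne_zero this
  have hcolumn : ∀ l : Fin 3, ∃ k : Fin 3, ∀ k' : Fin 3, k' ≠ k → B k' l = 0 := by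
    intro l
    have hsum := hD l l
    rw [if_pos rfl, hlam1] at hsum
    have hone : (1 : F) ≠ 0 := one_ne_zero
    have e0 : B 0 l * B 0 l = B 0 l ^ 2 := (pow_two _).symm
    have e1 : B 1 l * B 1 l = B 1 l ^ 2 := (pow_two _).symm
    have e2 : B 2 l * B 2 l = B 2 l ^ 2 := (pow_two _).symm
    rw [e0, e1, e2] at hsum
    have hz : ∀ k, B k l ^ 2 = 0 → B k l = 0 := fun k h => pow_eq_zero_iff (two_ne_zero) |>.mp h
    rcases sq_zero_or_one hq (B 0 l) with h0 | h0 <;>
    rcases sq_zero_or_one hq (B 1 l) with h1 | h1 <;>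
    rcases sq_zero_or_one hq (B 2 l) with h2 | h2 <;> rw [h0, h1, h2] at hsum
    · exfalso; apply hone; linear_combination -hsum
    · refine ⟨2, fun k' hk' => ?_⟩
      fin_cases k'
      · exact hz 0 h0
      · exact hz 1 h1
      · exact absurd rfl hk'
    · refine ⟨1, fun k' hk' => ?_⟩
      fin_cases k'
      · exact hz 0 h0
      · exact absurd rfl hk'
      · exact hz 2 h2
    · exfalso; apply hone; linear_combination hsum
    · refine ⟨0, fun k' hk' => ?_⟩
      fin_cases k'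
      · exact absurd rfl hk'
      · exact hz 1 h1
      · exact hz 2 h2
    · exfalso; apply hone; linear_combination hsum
    · exfalso; apply hone; linear_combination hsum
    · exfalso; apply hone; linear_combination h3 - hsum
  choose π hπ using hcolumn
  rw [mem_bm3Group]
  refine ⟨π, fun i j k l hkl => ?_⟩
  rw [hab, Matrix.kroneckerMap_apply, hπ l k hkl, mul_zero]

theorem psi3_single_left (f₁ : (Fin n₁ → F) → (Fin n₁ → F) → F) (hb : IsBilinearForm f₁)
    (j : Fin n₁) (l : Fin 3) (Z : Fin n₁ × Fin 3 → F) :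
    psi3 f₁ (Pi.single (j, l) 1) Z = f₁ (Pi.single j 1) (col Z l) := by
  simp only [psi3, Fin.sum_univ_three, col_single]
  fin_cases l
  · simp [bil_zero_left hb]
  · simp [bil_zero_left hb]
  · simp [bil_zero_left hb]

theorem core3 (hq : Fintype.card F = 3) (hn : 2 ≤ n₁)
    (f₁ : (Fin n₁ → F) → (Fin n₁ → F) → F) (hf : IsSymplecticForm f₁) :
    ∃ K₀ : Subgroup (GL (Fin n₁ × Fin 3) F),
      kroneckerSubgroup n₁ 3 F ⊓ isoG (psi3 f₁) < K₀ ∧ K₀ < isoG (psi3 f₁) := by
  have hb := hf.bilinear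
  have hbΨ : IsBilinearForm (psi3 f₁) := bil_psi3 f₁ hb
  have hskΨ := psi3_skew f₁ hf.skew
  have haltΨ := psi3_alt f₁ hf.alternating
  set z : Fin n₁ → F := Pi.single ⟨0, by omega⟩ 1 with hz
  have hz0 : z ≠ 0 := by
    intro h
    have := congrFun h ⟨0, by omega⟩
    simp [hz] at this
  set φ : Fin n₁ → F := fun l => f₁ (Pi.single l 1) z with hφ
  have hφne : ∃ l, φ l ≠ 0 := by
    by_contra hcon
    push Not at hcon
    obtain ⟨⟨x, hx⟩, _⟩ := hf.nondegenerate z hz0
    apply hx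
    rw [bil_expand_left hb, dotProduct]
    exact Finset.sum_eq_zero fun l _ => by
      rw [show f₁ (Pi.single l 1) z = φ l from rfl, hcon l, zero_mul]
  obtain ⟨l₀, hl₀⟩ := hφne
  have hzne : ∃ k, z k ≠ 0 := by
    by_contra hcon
    push Not at hcon
    exact hz0 (funext hcon)
  obtain ⟨k₀, hk₀⟩ := hzne
  -- second witness: transvection inside the first block
  set Z : Fin n₁ × Fin 3 → F := fun p => if p.2 = 0 then z p.1 else 0 with hZ
  have hZcol : ∀ l, col Z l = if l = 0 then z else 0 := by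
    intro l
    ext i
    by_cases hl : l = 0
    · simp [col, hZ, hl]
    · simp [col, hZ, hl]
  set g₂ := tvB hbΨ Z (haltΨ Z) with hg₂
  have hg₂entry : ∀ i j k l, (g₂ : Matrix (Fin n₁ × Fin 3) (Fin n₁ × Fin 3) F) (i, k) (j, l) =
      (if (i, k) = (j, l) then 1 else 0) + Z (i, k) * f₁ (Pi.single j 1) (col Z l) := by
    intro i j k l
    rw [hg₂, tvB_apply, psi3_single_left f₁ hb]
  have hg₂bm : g₂ ∈ bm3Group F n₁ := by
    refine ⟨id, fun i j k l hkl => ?_⟩
    have hkl' : k ≠ l := by simpa using hkl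
    rw [hg₂entry, if_neg (fun h => hkl' (Prod.ext_iff.mp h).2), zero_add]
    by_cases hk : k = 0
    · have hl : l ≠ 0 := fun h => hkl' (hk.trans h.symm)
      rw [hZcol, if_neg hl, bil_zero_right hb, mul_zero]
    · have : Z (i, k) = 0 := by simp [hZ, hk]
      rw [this, zero_mul]
  have hg₂not : g₂ ∉ kroneckerSubgroup n₁ 3 F := by
    rintro ⟨a, b, hab⟩
    have e11 : ∀ i j, (if i = j then (1 : F) else 0) =
        (a : Matrix (Fin n₁) (Fin n₁) F) i j * (b : Matrix (Fin 3) (Fin 3) F) 1 1 := by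
      intro i j
      have := congrFun (congrFun hab (i, 1)) (j, 1)
      rw [hg₂entry, Matrix.kroneckerMap_apply] at this
      simp [hZ] at this
      exact this
    have e00 : ∀ i j, (if i = j then (1 : F) else 0) + z i * φ j =
        (a : Matrix (Fin n₁) (Fin n₁) F) i j * (b : Matrix (Fin 3) (Fin 3) F) 0 0 := by
      intro i j
      have := congrFun (congrFun hab (i, 0)) (j, 0)
      rw [hg₂entry, Matrix.kroneckerMap_apply, hZcol, if_pos rfl] at this
      simp [hZ] at this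
      exact this
    have hb11 : (b : Matrix (Fin 3) (Fin 3) F) 1 1 ≠ 0 := by
      intro h
      have := e11 k₀ k₀
      rw [h, mul_zero] at this
      simp at this
    have haoff : ∀ i j, i ≠ j → (a : Matrix (Fin n₁) (Fin n₁) F) i j = 0 := by
      intro i j hij
      have := e11 i j
      rw [if_neg hij] at this
      rcases mul_eq_zero.mp this.symm with h | h
      · exact h
      · exact absurd h hb11
    have hoff : ∀ i j, i ≠ j → z i * φ j = 0 := by
      intro i j hij
      have := e00 i j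
      rw [if_neg hij, haoff i j hij, zero_mul, zero_add] at this
      exact this
    have hdiag : ∀ i, z i * φ i = z k₀ * φ k₀ := by
      intro i
      have h1 := e00 i i
      have h2' := e00 k₀ k₀
      have h3' := e11 i i
      have h4 := e11 k₀ k₀
      rw [if_pos rfl] at h1 h2' h3' h4
      have ha : (a : Matrix (Fin n₁) (Fin n₁) F) i i = (a : Matrix (Fin n₁) (Fin n₁) F) k₀ k₀ :=
        mul_right_cancel₀ hb11 (h3'.symm.trans h4)
      have : (1 : F) + z i * φ i = 1 + z k₀ * φ k₀ := by rw [h1, h2', ha]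
      exact add_left_cancel this
    have hφk₀ : φ k₀ ≠ 0 := by
      by_cases hl : l₀ = k₀
      · rw [← hl]; exact hl₀
      · exfalso
        rcases mul_eq_zero.mp (hoff k₀ l₀ (Ne.symm hl)) with h | h
        · exact hk₀ h
        · exact hl₀ h
    obtain ⟨k₁, hk₁⟩ : ∃ k₁ : Fin n₁, k₁ ≠ k₀ := by
      by_cases h : k₀ = ⟨0, by omega⟩
      · refine ⟨⟨1, by omega⟩, ?_⟩
        rw [h]; intro h'; have := congrArg Fin.val h'; simp at this
      · exact ⟨⟨0, by omega⟩, Ne.symm h⟩
    have hφk₁ : φ k₁ = 0 := by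
      rcases mul_eq_zero.mp (hoff k₀ k₁ (Ne.symm hk₁)) with h | h
      · exact absurd h hk₀
      · exact h
    have := hdiag k₁
    rw [hφk₁, mul_zero] at this
    exact mul_ne_zero hk₀ hφk₀ this.symm
  -- third witness: transvection mixing two blocks
  set Z' : Fin n₁ × Fin 3 → F := fun p => if p.2 = 2 then 0 else z p.1 with hZ'
  have hZ'col : ∀ l, col Z' l = if l = 2 then 0 else z := by
    intro l
    ext i
    by_cases hl : l = 2
    · simp [col, hZ', hl]
    · simp [col, hZ', hl]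
  set g₃ := tvB hbΨ Z' (haltΨ Z') with hg₃
  have hg₃entry : ∀ i j k l, (g₃ : Matrix (Fin n₁ × Fin 3) (Fin n₁ × Fin 3) F) (i, k) (j, l) =
      (if (i, k) = (j, l) then 1 else 0) + Z' (i, k) * f₁ (Pi.single j 1) (col Z' l) := by
    intro i j k l
    rw [hg₃, tvB_apply, psi3_single_left f₁ hb]
  have hg₃not : g₃ ∉ bm3Group F n₁ := by
    rintro ⟨π, hπ⟩
    by_cases hp : π 0 = 1
    · have hp1 : (0 : Fin 3) ≠ π 0 := by rw [hp]; decide
      have hall : ∀ i j, (if i = j then (1 : F) else 0) + z i * φ j = 0 := by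
        intro i j
        have := hπ i j 0 0 hp1
        rw [hg₃entry, hZ'col] at this
        have e1 : ((i, (0 : Fin 3)) = (j, (0 : Fin 3))) ↔ i = j := by simp
        have e2 : Z' (i, 0) = z i := by simp [hZ']
        rw [e2, if_neg (by decide : ¬ (0 : Fin 3) = 2)] at this
        simp only [e1] at this
        exact this
      obtain ⟨k₁, hk₁⟩ : ∃ k₁ : Fin n₁, k₁ ≠ l₀ := by
        by_cases h : l₀ = ⟨0, by omega⟩
        · refine ⟨⟨1, by omega⟩, ?_⟩
          rw [h]; intro h'; have := congrArg Fin.val h'; simp at this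
        · exact ⟨⟨0, by omega⟩, Ne.symm h⟩
      have h1 := hall k₁ l₀
      rw [if_neg hk₁, zero_add] at h1
      have hzk₁ : z k₁ = 0 := by
        rcases mul_eq_zero.mp h1 with h | h
        · exact h
        · exact absurd h hl₀
      have h2' := hall k₁ k₁
      rw [if_pos rfl, hzk₁, zero_mul, add_zero] at h2'
      exact one_ne_zero h2'
    · have := hπ k₀ l₀ 1 0 (fun h => hp h.symm)
      rw [hg₃entry, hZ'col, if_neg (by simp : ¬ (k₀, (1 : Fin 3)) = (l₀, (0 : Fin 3))),
        if_neg (by decide : ¬ (0 : Fin 3) = 2), zero_add] at this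
      have hZ1 : Z' (k₀, 1) = z k₀ := by simp [hZ']
      rw [hZ1] at this
      exact mul_ne_zero hk₀ hl₀ this
  refine ⟨bm3Group F n₁ ⊓ isoG (psi3 f₁), ?_, ?_⟩
  · refine lt_of_le_of_ne ?_ ?_
    · intro g hg
      exact ⟨kron_inf_le_bm3 hq (by omega) f₁ hf g hg.1 hg.2, hg.2⟩
    · intro heq
      have : g₂ ∈ kroneckerSubgroup n₁ 3 F ⊓ isoG (psi3 f₁) := by
        rw [heq]
        exact ⟨hg₂bm, tvB_mem_isoG hbΨ hskΨ Z (haltΨ Z)⟩
      exact hg₂not this.1
  · refine lt_of_le_of_ne inf_le_right ?_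
    intro heq
    have : g₃ ∈ bm3Group F n₁ ⊓ isoG (psi3 f₁) := by
      rw [heq]
      exact tvB_mem_isoG hbΨ hskΨ Z' (haltΨ Z')
    exact hg₃not this.1

/-- The tensor Gram form in terms of the first form. -/
theorem formOfGram_kron3 (f₁ : (Fin n₁ → F) → (Fin n₁ → F) → F) (hb : IsBilinearForm f₁)
    (G₂ : Matrix (Fin 3) (Fin 3) F) (x y : Fin n₁ × Fin 3 → F) :
    formOfGram id (gramMatrix f₁ ⊗ₖ G₂) x y =
      ∑ k : Fin 3, ∑ l : Fin 3, G₂ k l * f₁ (col x k) (col y l) := by
  have hf : ∀ k l, f₁ (col x k) (col y l) =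
      ∑ i, ∑ j, x (i, k) * gramMatrix f₁ i j * y (j, l) := by
    intro k l
    rw [← bil_formOfGram_gram hb]
    rfl
  simp_rw [hf, Finset.mul_sum]
  rw [formOfGram, Fintype.sum_prod_type, Finset.sum_comm]
  refine Finset.sum_congr rfl fun k _ => ?_
  conv_rhs => rw [Finset.sum_comm]
  refine Finset.sum_congr rfl fun i _ => ?_
  rw [Fintype.sum_prod_type]
  conv_lhs => rw [Finset.sum_comm]
  refine Finset.sum_congr rfl fun l _ => Finset.sum_congr rfl fun j _ => ?_
  simp only [Matrix.kroneckerMap_apply, id]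
  ring

end core

theorem result {F : Type*} [Field F] [Fintype F] (m : ℕ) (hm : 7 ≤ m) (hq : Fintype.card F = 3) (n₁ : ℕ) (e : (Fin m ⊕ Fin m) ≃ Fin n₁ × Fin 3) (P : Matrix.GeneralLinearGroup (Fin m ⊕ Fin m) F) (f₁ : (Fin n₁ → F) → (Fin n₁ → F) → F) (f₂ : (Fin 3 → F) → (Fin 3 → F) → F) (hf₁ : Cfsg.Geo.IsSymplecticForm f₁) (hf₂ : Cfsg.Geo.IsSymmetricForm f₂) (hT : Cfsg.Geo.IsTensorFormStructure id (Cfsg.sympForm m F) f₁ f₂ e P) : ∃ K : Subgroup (Matrix.GeneralLinearGroup (Fin m ⊕ Fin m) F), Cfsg.Geo.tensorProductSubgroup n₁ 3 e P ⊓ Cfsg.spGL m F < K ∧ K < Cfsg.spGL m F := by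
  obtain ⟨c, hc, hH⟩ := hT
  have hcard : m + m = n₁ * 3 := by
    have := Fintype.card_congr e
    simpa using this
  have hn₁ : 2 ≤ n₁ := by omega
  have hb₁ := hf₁.bilinear
  have hb₂ := hf₂.bilinear
  obtain ⟨ε, w₀, w₁, w₂, hε, h00, h11, h22, h01, h02, h12⟩ := exists_frame hq f₂ hf₂
  have h10 : f₂ w₁ w₀ = 0 := by rw [hf₂.symm]; exact h01
  have h20 : f₂ w₂ w₀ = 0 := by rw [hf₂.symm]; exact h02
  have h21 : f₂ w₂ w₁ = 0 := by rw [hf₂.symm]; exact h12
  set A : Matrix (Fin 3) (Fin 3) F :=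
    Matrix.of fun r p => if p = 0 then w₀ r else if p = 1 then w₁ r else w₂ r with hA
  have hAw : ∀ t : Fin 3 → F, A *ᵥ t = t 0 • w₀ + t 1 • w₁ + t 2 • w₂ := by
    intro t
    ext r
    simp [hA, Matrix.mulVec, dotProduct, Fin.sum_univ_three]
    ring
  have hinj : Function.Injective A.mulVec := by
    intro t t' htt
    have hd : A *ᵥ (t - t') = 0 := by
      rw [Matrix.mulVec_sub]; exact sub_eq_zero.mpr htt
    rw [hAw] at hd
    have e0 := congrArg (fun y => f₂ y w₀) hd
    have e1 := congrArg (fun y => f₂ y w₁) hd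
    have e2 := congrArg (fun y => f₂ y w₂) hd
    simp only [hb₂.add_left, hb₂.smul_left, h00, h11, h22, h01, h02, h12, h10, h20, h21,
      bil_zero_left hb₂, mul_zero, add_zero, zero_add] at e0 e1 e2
    ext i
    fin_cases i
    · rcases mul_eq_zero.mp e0 with h | h
      · exact sub_eq_zero.mp h
      · exact absurd h hε
    · rcases mul_eq_zero.mp e1 with h | h
      · exact sub_eq_zero.mp h
      · exact absurd h hε
    · rcases mul_eq_zero.mp e2 with h | h
      · exact sub_eq_zero.mp h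
      · exact absurd h hε
  have hunit : IsUnit A := Matrix.mulVec_injective_iff_isUnit.mp hinj
  set Au : GL (Fin 3) F := hunit.unit with hAu
  have hAuval : (Au : Matrix (Fin 3) (Fin 3) F) = A := hunit.unit_spec
  set k : GL (Fin n₁ × Fin 3) F := Cfsg.Agent.S5671.kronGL 1 Au with hk
  have hkcol : ∀ (x : Fin n₁ × Fin 3 → F) (r : Fin 3),
      col ((k : Matrix (Fin n₁ × Fin 3) (Fin n₁ × Fin 3) F) *ᵥ x) r =
        A r 0 • col x 0 + A r 1 • col x 1 + A r 2 • col x 2 := by
    intro x r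
    ext i
    simp only [col, hk, Cfsg.Agent.S5671.kronGL_val, hAuval, Matrix.mulVec, dotProduct, Fintype.sum_prod_type,
      Fin.sum_univ_three, Matrix.kroneckerMap_apply, Units.val_one, Matrix.one_apply, Pi.add_apply,
      Pi.smul_apply, smul_eq_mul, mul_ite, mul_one, mul_zero, ite_mul, zero_mul, one_mul,
      Finset.sum_add_distrib, Finset.sum_ite_eq, Finset.mem_univ, if_true]
  set G₂ := gramMatrix f₂ with hG₂
  have E : ∀ u w : Fin 3 → F, f₂ u w =
      u 0 * G₂ 0 0 * w 0 + u 0 * G₂ 0 1 * w 1 + u 0 * G₂ 0 2 * w 2 +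
        (u 1 * G₂ 1 0 * w 0 + u 1 * G₂ 1 1 * w 1 + u 1 * G₂ 1 2 * w 2) +
        (u 2 * G₂ 2 0 * w 0 + u 2 * G₂ 2 1 * w 1 + u 2 * G₂ 2 2 * w 2) := by
    intro u w
    rw [← bil_formOfGram_gram hb₂ u w, formOfGram]
    simp only [Fin.sum_univ_three, id]
    rfl
  rw [E] at h00 h11 h22 h01 h02 h12 h10 h20 h21
  have hΨ : ∀ x y : Fin n₁ × Fin 3 → F,
      formOfGram id (gramMatrix f₁ ⊗ₖ G₂)
        ((k : Matrix (Fin n₁ × Fin 3) (Fin n₁ × Fin 3) F) *ᵥ x)
        ((k : Matrix (Fin n₁ × Fin 3) (Fin n₁ × Fin 3) F) *ᵥ y) = ε * psi3 f₁ x y := by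
    intro x y
    rw [formOfGram_kron3 f₁ hb₁]
    simp only [Fin.sum_univ_three, hkcol, hb₁.add_left, hb₁.add_right, hb₁.smul_left,
      hb₁.smul_right, psi3]
    have a00 : A 0 0 = w₀ 0 := by simp [hA]
    have a10 : A 1 0 = w₀ 1 := by simp [hA]
    have a20 : A 2 0 = w₀ 2 := by simp [hA]
    have a01 : A 0 1 = w₁ 0 := by simp [hA]
    have a11 : A 1 1 = w₁ 1 := by simp [hA]
    have a21 : A 2 1 = w₁ 2 := by simp [hA]
    have a02 : A 0 2 = w₂ 0 := by simp [hA]
    have a12 : A 1 2 = w₂ 1 := by simp [hA]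
    have a22 : A 2 2 = w₂ 2 := by simp [hA]
    rw [a00, a10, a20, a01, a11, a21, a02, a12, a22]
    linear_combination (f₁ (col x 0) (col y 0)) * h00 + (f₁ (col x 0) (col y 1)) * h01 +
      (f₁ (col x 0) (col y 2)) * h02 + (f₁ (col x 1) (col y 0)) * h10 +
      (f₁ (col x 1) (col y 1)) * h11 + (f₁ (col x 1) (col y 2)) * h12 +
      (f₁ (col x 2) (col y 0)) * h20 + (f₁ (col x 2) (col y 1)) * h21 +
      (f₁ (col x 2) (col y 2)) * h22
  set P' : GL (Fin m ⊕ Fin m) F := P * glReindex e.symm k with hP'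
  have hH' : ∀ x y : Fin n₁ × Fin 3 → F,
      sympForm m F ((P' : Matrix (Fin m ⊕ Fin m) (Fin m ⊕ Fin m) F) *ᵥ (x ∘ e))
        ((P' : Matrix (Fin m ⊕ Fin m) (Fin m ⊕ Fin m) F) *ᵥ (y ∘ e)) =
        (c * ε) * psi3 f₁ x y := by
    intro x y
    rw [hP', Units.val_mul, ← Matrix.mulVec_mulVec, ← Matrix.mulVec_mulVec, glReindex_mulVec,
      glReindex_mulVec, hH, hΨ, mul_assoc]
  have hT' : tensorProductSubgroup n₁ 3 e P' = tensorProductSubgroup n₁ 3 e P :=
    tensorProductSubgroup_mul n₁ 3 e P k (Cfsg.Agent.S5671.kronGL_mem _ _)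
  have hI : ∀ g, tphi e P' g ∈ spGL m F ↔ g ∈ isoG (psi3 f₁) := fun g =>
    tphi_mem_preserving_iff e P' _ _ (c * ε) (mul_ne_zero hc hε) hH' g
  obtain ⟨K₀, hK1, hK2⟩ := core3 hq hn₁ f₁ hf₁
  obtain ⟨K, h1, h2⟩ := transport_chain e P' (kroneckerSubgroup n₁ 3 F) _ K₀ _ hI hK1 hK2
  rw [← tensorProductSubgroup_eq_map, hT'] at h1
  exact ⟨K, h1, h2⟩

end Cfsg.Agent.S5667
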