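import Cfsg.Statements.S5705
import Cfsg.Agent.S5671
import Cfsg.Agent.Lib.Helper97.QuadGeo

set_option autoImplicit false
set_option linter.unusedSectionVars false
set_option linter.unusedSimpArgs false
set_option linter.unusedVariables false
open Cfsg

namespace Cfsg.Agent.S5705

open Matrix Cfsg.Geo Cfsg.Agent.Helper97 Cfsg.Agent.Helper97.OT3 Cfsg.Agent.Helper97.QG
open scoped Kronecker commutatorElement

section field2

variable {F : Type*} [Field F] [Fintype F]

theorem f2_cases (hq : Fintype.card F = 2) (x : F) : x = 0 ∨ x = 1 := by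
  have h := FiniteField.pow_card x
  rw [hq] at h
  have h' : x * (x - 1) = 0 := by linear_combination h
  rcases mul_eq_zero.mp h' with h0 | h0
  · left; exact h0
  · right; exact sub_eq_zero.mp h0

theorem two_eq_zero2 (hq : Fintype.card F = 2) : (2 : F) = 0 := by
  rcases f2_cases hq (2 : F) with h | h
  · exact h
  · exfalso
    have : (1 : F) = 0 := by linear_combination h
    exact one_ne_zero this

theorem eq_one_of_ne_zero (hq : Fintype.card F = 2) {x : F} (hx : x ≠ 0) : x = 1 := by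
  rcases f2_cases hq x with h | h
  · exact absurd h hx
  · exact h

end field2

section char2

variable {F : Type*} [Field F] {ι : Type} [Fintype ι] [DecidableEq ι]

local notation "B[" Q "]" => QuadraticMap.polar Q

theorem neg_eq_self2 (h2 : (2 : F) = 0) (t : F) : -t = t := by
  linear_combination (-t) * h2

theorem add_self2 (h2 : (2 : F) = 0) (t : F) : t + t = 0 := by
  linear_combination t * h2

theorem gl_ext (g h : GL ι F)
    (H : ∀ x, (g : Matrix ι ι F) *ᵥ x = (h : Matrix ι ι F) *ᵥ x) : g = h :=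
  Units.ext (Matrix.mulVec_injective (funext H))

theorem rQ_one_mulVec {Q : (ι → F) → F} (hQ : IsNondegenerateQuadraticForm Q)
    (h2 : (2 : F) = 0) (v : ι → F) (hv : Q v = 1) (hv' : Q v ≠ 0) (x : ι → F) :
    ((rQ hQ v hv' : GL ι F) : Matrix ι ι F) *ᵥ x = x + B[Q] x v • v := by
  rw [rQ_mulVec, hv, inv_one, neg_one_mul, neg_eq_self2 h2]

/-- The commutator of two reflections in non-orthogonal non-singular vectors, characteristic 2,
all values equal to one. -/
theorem comm_refl_char2 {Q : (ι → F) → F} (hQ : IsNondegenerateQuadraticForm Q)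
    (h2 : (2 : F) = 0) (a b : ι → F) (ha : Q a = 1) (hb : Q b = 1)
    (ha' : Q a ≠ 0) (hb' : Q b ≠ 0) (hab : B[Q] a b = 1) (x : ι → F) :
    ((⁅rQ hQ a ha', rQ hQ b hb'⁆ : GL ι F) : Matrix ι ι F) *ᵥ x =
      x + B[Q] x a • a + (B[Q] x a + B[Q] x b) • b := by
  have hbil := hQ.polar_bilinear
  have hba : B[Q] b a = 1 := by rw [polar_symm]; exact hab
  have haa : B[Q] a a = 0 := by rw [polar_self hQ, h2, zero_mul]
  have hbb : B[Q] b b = 0 := by rw [polar_self hQ, h2, zero_mul]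
  set α := B[Q] x a with hα
  set β := B[Q] x b with hβ
  have s1 : ((rQ hQ b hb' : GL ι F) : Matrix ι ι F) *ᵥ x = x + β • b := by
    rw [rQ_one_mulVec hQ h2 b hb hb' x]
  have e1 : B[Q] (x + β • b) a = α + β := by
    rw [hbil.add_left, hbil.smul_left, hba, mul_one]
  have s2 : ((rQ hQ a ha' : GL ι F) : Matrix ι ι F) *ᵥ (x + β • b) =
      x + β • b + (α + β) • a := by
    rw [rQ_one_mulVec hQ h2 a ha ha' (x + β • b), e1]
  have e2 : B[Q] (x + β • b + (α + β) • a) b = α := by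
    rw [hbil.add_left, hbil.add_left, hbil.smul_left, hbil.smul_left, hbb, hab, ← hβ]
    linear_combination β * h2
  have s3 : ((rQ hQ b hb' : GL ι F) : Matrix ι ι F) *ᵥ (x + β • b + (α + β) • a) =
      x + β • b + (α + β) • a + α • b := by
    rw [rQ_one_mulVec hQ h2 b hb hb' _, e2]
  have e3 : B[Q] (x + β • b + (α + β) • a + α • b) a = β := by
    rw [hbil.add_left, hbil.add_left, hbil.add_left, hbil.smul_left, hbil.smul_left,
      hbil.smul_left, haa, hba, ← hα]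
    linear_combination α * h2
  have s4 : ((rQ hQ a ha' : GL ι F) : Matrix ι ι F) *ᵥ (x + β • b + (α + β) • a + α • b) =
      x + β • b + (α + β) • a + α • b + β • a := by
    rw [rQ_one_mulVec hQ h2 a ha ha' _, e3]
  rw [rQ_comm_mulVec, s1, s2, s3, s4]
  ext i
  simp only [Pi.add_apply, Pi.smul_apply, smul_eq_mul]
  linear_combination (β * a i) * h2

/-- The rotation of order three in the anisotropic plane spanned by `v` and `J v` commutes
with `J`. -/
theorem comm_rot_commutes {Q : (ι → F) → F} (hQ : IsNondegenerateQuadraticForm Q)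
    (h2 : (2 : F) = 0) (J : GL ι F) (hJ : J ∈ isometryGroup F Q)
    (hJ2 : ∀ x, (J : Matrix ι ι F) *ᵥ ((J : Matrix ι ι F) *ᵥ x) = x + (J : Matrix ι ι F) *ᵥ x)
    (v : ι → F) (hv : Q v = 1) (hv' : Q v ≠ 0) (hJv' : Q ((J : Matrix ι ι F) *ᵥ v) ≠ 0)
    (x : ι → F) :
    ((⁅rQ hQ v hv', rQ hQ ((J : Matrix ι ι F) *ᵥ v) hJv'⁆ : GL ι F) : Matrix ι ι F) *ᵥ
        ((J : Matrix ι ι F) *ᵥ x) =
      (J : Matrix ι ι F) *ᵥ
        (((⁅rQ hQ v hv', rQ hQ ((J : Matrix ι ι F) *ᵥ v) hJv'⁆ : GL ι F) : Matrix ι ι F) *ᵥ x) := by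
  have hbil := hQ.polar_bilinear
  have hiso := (mem_isometryGroup Q J).mp hJ
  have hJv : Q ((J : Matrix ι ι F) *ᵥ v) = 1 := by rw [hiso, hv]
  have hvJv : B[Q] v ((J : Matrix ι ι F) *ᵥ v) = 1 := by
    have h1 : Q (v + (J : Matrix ι ι F) *ᵥ v) = 1 := by
      rw [← hJ2, hiso, hJv]
    rw [QuadraticMap.polar, h1, hv, hJv]
    linear_combination (-1 : F) * h2
  have hvv : v = (J : Matrix ι ι F) *ᵥ ((J : Matrix ι ι F) *ᵥ v) + (J : Matrix ι ι F) *ᵥ v := by
    rw [hJ2]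
    ext i
    simp only [Pi.add_apply]
    linear_combination (-(((J : Matrix ι ι F) *ᵥ v) i)) * h2
  rw [comm_refl_char2 hQ h2 v _ hv hJv hv' hJv' hvJv, comm_refl_char2 hQ h2 v _ hv hJv hv' hJv' hvJv]
  have e1 : B[Q] ((J : Matrix ι ι F) *ᵥ x) ((J : Matrix ι ι F) *ᵥ v) = B[Q] x v :=
    isometry_polar hJ x v
  have e2 : B[Q] ((J : Matrix ι ι F) *ᵥ x) v = B[Q] x ((J : Matrix ι ι F) *ᵥ v) + B[Q] x v := by
    conv_lhs => rw [hvv]
    rw [hbil.add_right, isometry_polar hJ, e1]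
  rw [e1, e2, Matrix.mulVec_add, Matrix.mulVec_add, Matrix.mulVec_smul, Matrix.mulVec_smul, hJ2]
  module

end char2

section core

variable {F : Type*} [Field F] [Fintype F] {n₂ : ℕ}

local notation "B[" Q "]" => QuadraticMap.polar Q

/-- The vector with the given two row blocks. -/
def mk (a b : Fin n₂ → F) : Fin 2 × Fin n₂ → F := fun p => if p.1 = 0 then a p.2 else b p.2

theorem row_mk_zero (a b : Fin n₂ → F) : S5671.row (mk a b) 0 = a := by
  ext k; simp [S5671.row, mk]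

theorem row_mk_one (a b : Fin n₂ → F) : S5671.row (mk a b) 1 = b := by
  ext k; simp [S5671.row, mk]

theorem mk_row (x : Fin 2 × Fin n₂ → F) : mk (S5671.row x 0) (S5671.row x 1) = x := by
  ext ⟨i, k⟩
  fin_cases i <;> simp [mk, S5671.row]

theorem mk_add (a b c d : Fin n₂ → F) : mk a b + mk c d = mk (a + c) (b + d) := by
  ext ⟨i, k⟩
  fin_cases i <;> simp [mk]

theorem smul_mk (t : F) (a b : Fin n₂ → F) : t • mk a b = mk (t • a) (t • b) := by
  ext ⟨i, k⟩
  fin_cases i <;> simp [mk]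

theorem mk_zero_zero : mk (0 : Fin n₂ → F) 0 = 0 := by
  ext ⟨i, k⟩
  fin_cases i <;> simp [mk]

theorem mk_inj {a b c d : Fin n₂ → F} (h : mk a b = mk c d) : a = c ∧ b = d := by
  constructor
  · rw [← row_mk_zero a b, h, row_mk_zero]
  · rw [← row_mk_one a b, h, row_mk_one]

theorem row_add' (x y : Fin 2 × Fin n₂ → F) (i : Fin 2) :
    S5671.row (x + y) i = S5671.row x i + S5671.row y i := rfl

theorem row_smul' (t : F) (x : Fin 2 × Fin n₂ → F) (i : Fin 2) :
    S5671.row (t • x) i = t • S5671.row x i := rfl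

/-- The quadratic form `x ↦ f₂(x₀, x₁)`. -/
def qT (f₂ : (Fin n₂ → F) → (Fin n₂ → F) → F) (x : Fin 2 × Fin n₂ → F) : F :=
  f₂ (S5671.row x 0) (S5671.row x 1)

theorem qT_mk (f₂ : (Fin n₂ → F) → (Fin n₂ → F) → F) (a b : Fin n₂ → F) :
    qT f₂ (mk a b) = f₂ a b := by
  rw [qT, row_mk_zero, row_mk_one]

theorem polar_qT (f₂ : (Fin n₂ → F) → (Fin n₂ → F) → F) (hb : IsBilinearForm f₂)
    (x y : Fin 2 × Fin n₂ → F) :
    B[qT f₂] x y = f₂ (S5671.row x 0) (S5671.row y 1) + f₂ (S5671.row y 0) (S5671.row x 1) := by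
  simp only [QuadraticMap.polar, qT, row_add', hb.add_left, hb.add_right]
  ring

theorem polar_qT_mk (f₂ : (Fin n₂ → F) → (Fin n₂ → F) → F) (hb : IsBilinearForm f₂)
    (a b c d : Fin n₂ → F) : B[qT f₂] (mk a b) (mk c d) = f₂ a d + f₂ c b := by
  rw [polar_qT f₂ hb, row_mk_zero, row_mk_one, row_mk_zero, row_mk_one]

theorem isNondeg_qT (f₂ : (Fin n₂ → F) → (Fin n₂ → F) → F) (hf₂ : IsSymplecticForm f₂) :
    IsNondegenerateQuadraticForm (qT f₂) := by
  have hb := hf₂.bilinear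
  refine ⟨?_, ⟨?_, ?_, ?_, ?_⟩, ?_⟩
  · intro c v
    simp only [qT, row_smul', hb.smul_left, hb.smul_right]
    ring
  · intro x y v
    simp only [polar_qT f₂ hb, row_add', hb.add_left, hb.add_right]
    ring
  · intro c x v
    simp only [polar_qT f₂ hb, row_smul', hb.smul_left, hb.smul_right]
    ring
  · intro v x y
    simp only [polar_qT f₂ hb, row_add', hb.add_left, hb.add_right]
    ring
  · intro c v x
    simp only [polar_qT f₂ hb, row_smul', hb.smul_left, hb.smul_right]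
    ring
  · intro v hv
    have key : ∃ x, B[qT f₂] v x ≠ 0 := by
      by_cases h0 : S5671.row v 0 = 0
      · have h1 : S5671.row v 1 ≠ 0 := by
          intro h1
          apply hv
          rw [← mk_row v, h0, h1, mk_zero_zero]
        obtain ⟨z, hz⟩ := (hf₂.nondegenerate _ h1).1
        refine ⟨mk z 0, ?_⟩
        rw [polar_qT f₂ hb, row_mk_zero, row_mk_one, S5667.bil_zero_right hb, zero_add]
        exact hz
      · obtain ⟨z, hz⟩ := (hf₂.nondegenerate _ h0).2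
        refine ⟨mk 0 z, ?_⟩
        rw [polar_qT f₂ hb, row_mk_zero, row_mk_one, S5667.bil_zero_left hb, add_zero]
        exact hz
    obtain ⟨x, hx⟩ := key
    refine ⟨⟨x, ?_⟩, ⟨x, hx⟩⟩
    rw [polar_symm]
    exact hx

/-- The matrix of order three. -/
def ωG (h2 : (2 : F) = 0) : GL (Fin 2) F :=
  ⟨!![0, 1; 1, 1], !![1, 1; 1, 0],
    by
      rw [Matrix.mul_fin_two]
      simp only [mul_one, mul_zero, zero_mul, one_mul, add_zero, zero_add, one_add_one_eq_two, h2]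
      exact Matrix.one_fin_two.symm,
    by
      rw [Matrix.mul_fin_two]
      simp only [mul_one, mul_zero, zero_mul, one_mul, add_zero, zero_add, one_add_one_eq_two, h2]
      exact Matrix.one_fin_two.symm⟩

theorem ωG_val (h2 : (2 : F) = 0) :
    ((ωG h2 : GL (Fin 2) F) : Matrix (Fin 2) (Fin 2) F) = !![0, 1; 1, 1] := rfl

/-- The semilinear structure: multiplication by a primitive cube root of unity. -/
def JG (h2 : (2 : F) = 0) : GL (Fin 2 × Fin n₂) F := S5671.kronGL (ωG h2) 1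

theorem JG_mulVec (h2 : (2 : F) = 0) (x : Fin 2 × Fin n₂ → F) :
    ((JG h2 : GL (Fin 2 × Fin n₂) F) : Matrix (Fin 2 × Fin n₂) (Fin 2 × Fin n₂) F) *ᵥ x =
      mk (S5671.row x 1) (S5671.row x 0 + S5671.row x 1) := by
  ext ⟨i, k⟩
  fin_cases i <;>
  simp [JG, S5671.kronGL_val, ωG_val, Matrix.mulVec, dotProduct, Fintype.sum_prod_type,
    Fin.sum_univ_two, Matrix.kroneckerMap_apply, Matrix.one_apply, mk, S5671.row]

theorem JG_mk (h2 : (2 : F) = 0) (a b : Fin n₂ → F) :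
    ((JG h2 : GL (Fin 2 × Fin n₂) F) : Matrix (Fin 2 × Fin n₂) (Fin 2 × Fin n₂) F) *ᵥ mk a b =
      mk b (a + b) := by
  rw [JG_mulVec, row_mk_zero, row_mk_one]

theorem JG_sq (h2 : (2 : F) = 0) (x : Fin 2 × Fin n₂ → F) :
    ((JG h2 : GL (Fin 2 × Fin n₂) F) : Matrix (Fin 2 × Fin n₂) (Fin 2 × Fin n₂) F) *ᵥ
      (((JG h2 : GL (Fin 2 × Fin n₂) F) : Matrix (Fin 2 × Fin n₂) (Fin 2 × Fin n₂) F) *ᵥ x) =
      x + ((JG h2 : GL (Fin 2 × Fin n₂) F) : Matrix (Fin 2 × Fin n₂) (Fin 2 × Fin n₂) F) *ᵥ x := by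
  rw [JG_mulVec h2 x, JG_mk]
  conv_rhs => rw [← mk_row x]
  rw [mk_add]
  simp only [row_mk_zero, row_mk_one]

theorem JG_mem (h2 : (2 : F) = 0) (f₂ : (Fin n₂ → F) → (Fin n₂ → F) → F)
    (hf₂ : IsSymplecticForm f₂) : JG h2 ∈ isometryGroup F (qT f₂) := by
  rw [mem_isometryGroup]
  intro x
  have hb := hf₂.bilinear
  rw [JG_mulVec, qT_mk, qT, hb.add_right, hf₂.alternating, add_zero, hf₂.skew, neg_eq_self2 h2]

end core

section core2

variable {F : Type*} [Field F] [Fintype F] {n₂ : ℕ}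

local notation "B[" Q "]" => QuadraticMap.polar Q

theorem kronGL_mul {n₁ n₂ : ℕ} (a c : GL (Fin n₁) F) (b d : GL (Fin n₂) F) :
    S5671.kronGL a b * S5671.kronGL c d = S5671.kronGL (a * c) (b * d) := by
  apply Units.ext
  rw [Units.val_mul, S5671.kronGL_val, S5671.kronGL_val, S5671.kronGL_val, Units.val_mul,
    Units.val_mul, Matrix.mul_kronecker_mul]

theorem kronGL_one {n₁ n₂ : ℕ} :
    S5671.kronGL (1 : GL (Fin n₁) F) (1 : GL (Fin n₂) F) = 1 := by
  apply Units.ext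
  rw [S5671.kronGL_val, Units.val_one, Units.val_one, Units.val_one, Matrix.one_kronecker_one]

theorem ωG_cube (h2 : (2 : F) = 0) : ωG h2 * ωG h2 * ωG h2 = 1 := by
  apply Units.ext
  rw [Units.val_mul, Units.val_mul, ωG_val, Units.val_one, Matrix.mul_fin_two, Matrix.mul_fin_two]
  simp only [mul_one, mul_zero, zero_mul, one_mul, add_zero, zero_add, one_add_one_eq_two, h2]
  exact Matrix.one_fin_two.symm

theorem JG_cube (h2 : (2 : F) = 0) :
    (JG h2 : GL (Fin 2 × Fin n₂) F) * JG h2 * JG h2 = 1 := by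
  rw [JG, kronGL_mul, kronGL_mul, ωG_cube, mul_one, mul_one, kronGL_one]

/-- The normaliser of the group generated by `J`, described explicitly. -/
def NJ (h2 : (2 : F) = 0) (n₂ : ℕ) : Subgroup (GL (Fin 2 × Fin n₂) F) where
  carrier := {g | g * JG h2 = JG h2 * g ∨ g * JG h2 = JG h2 * JG h2 * g}
  one_mem' := by
    left
    rw [one_mul, mul_one]
  mul_mem' := by
    intro g h hg hh
    have h3 : (JG h2 : GL (Fin 2 × Fin n₂) F) * JG h2 * JG h2 = 1 := JG_cube h2
    rcases hg with hg | hg <;> rcases hh with hh | hh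
    · left
      rw [mul_assoc, hh, ← mul_assoc, hg, mul_assoc]
    · right
      rw [mul_assoc, hh, ← mul_assoc, ← mul_assoc, hg, mul_assoc (JG h2) g, hg, ← mul_assoc,
        mul_assoc]
    · right
      rw [mul_assoc, hh, ← mul_assoc, hg, mul_assoc]
    · left
      calc g * h * JG h2 = g * (h * JG h2) := mul_assoc _ _ _
        _ = g * (JG h2 * JG h2 * h) := by rw [hh]
        _ = (g * JG h2) * (JG h2 * h) := by simp only [mul_assoc]
        _ = (JG h2 * JG h2 * g) * (JG h2 * h) := by rw [hg]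
        _ = JG h2 * JG h2 * ((g * JG h2) * h) := by simp only [mul_assoc]
        _ = JG h2 * JG h2 * ((JG h2 * JG h2 * g) * h) := by rw [hg]
        _ = JG h2 * ((JG h2 * JG h2 * JG h2) * (g * h)) := by simp only [mul_assoc]
        _ = JG h2 * (g * h) := by rw [h3, one_mul]
  inv_mem' := by
    intro g hg
    have h3 : (JG h2 : GL (Fin 2 × Fin n₂) F) * JG h2 * JG h2 = 1 := JG_cube h2
    rcases hg with hg | hg
    · left
      calc g⁻¹ * JG h2 = g⁻¹ * (JG h2 * g) * g⁻¹ := by simp only [mul_assoc, mul_inv_cancel, mul_one]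
        _ = g⁻¹ * (g * JG h2) * g⁻¹ := by rw [hg]
        _ = JG h2 * g⁻¹ := by simp only [← mul_assoc, inv_mul_cancel, one_mul]
    · right
      have hg2 : g * (JG h2 * JG h2) = JG h2 * g := by
        calc g * (JG h2 * JG h2) = (g * JG h2) * JG h2 := by rw [mul_assoc]
          _ = (JG h2 * JG h2 * g) * JG h2 := by rw [hg]
          _ = JG h2 * JG h2 * (g * JG h2) := by simp only [mul_assoc]
          _ = JG h2 * JG h2 * (JG h2 * JG h2 * g) := by rw [hg]
          _ = JG h2 * ((JG h2 * JG h2 * JG h2) * g) := by simp only [mul_assoc]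
          _ = JG h2 * g := by rw [h3, one_mul]
      calc g⁻¹ * JG h2 = g⁻¹ * (JG h2 * g) * g⁻¹ := by simp only [mul_assoc, mul_inv_cancel, mul_one]
        _ = g⁻¹ * (g * (JG h2 * JG h2)) * g⁻¹ := by rw [hg2]
        _ = JG h2 * JG h2 * g⁻¹ := by simp only [← mul_assoc, inv_mul_cancel, one_mul]

theorem mem_NJ (h2 : (2 : F) = 0) (g : GL (Fin 2 × Fin n₂) F) :
    g ∈ NJ h2 n₂ ↔ g * JG h2 = JG h2 * g ∨ g * JG h2 = JG h2 * JG h2 * g := Iff.rfl

/-- Every invertible two by two matrix over the field with two elements normalises the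
group generated by the matrix of order three. -/
theorem omega_normal (hq : Fintype.card F = 2) (h2 : (2 : F) = 0) (a : GL (Fin 2) F) :
    a * ωG h2 = ωG h2 * a ∨ a * ωG h2 = ωG h2 * ωG h2 * a := by
  set A : Matrix (Fin 2) (Fin 2) F := (a : Matrix (Fin 2) (Fin 2) F) with hA
  have hdet : A.det ≠ 0 := by
    have := (Matrix.isUnit_iff_isUnit_det A).mp a.isUnit
    exact this.ne_zero
  rw [Matrix.det_fin_two] at hdet
  have e : A = !![A 0 0, A 0 1; A 1 0, A 1 1] := Matrix.eta_fin_two A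
  have h11 : (1 : F) + 1 = 0 := by rw [one_add_one_eq_two, h2]
  have red : (a * ωG h2 = ωG h2 * a ∨ a * ωG h2 = ωG h2 * ωG h2 * a) ↔
      (A * !![0, 1; 1, 1] = !![0, 1; 1, 1] * A ∨
        A * !![0, 1; 1, 1] = !![0, 1; 1, 1] * !![0, 1; 1, 1] * A) := by
    constructor
    · rintro (h | h)
      · left
        have := congrArg Units.val h
        simpa only [Units.val_mul, ωG_val] using this
      · right
        have := congrArg Units.val h
        simpa only [Units.val_mul, ωG_val] using this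
    · rintro (h | h)
      · left
        apply Units.ext
        simpa only [Units.val_mul, ωG_val] using h
      · right
        apply Units.ext
        simpa only [Units.val_mul, ωG_val] using h
  rw [red, e]
  rcases f2_cases hq (A 0 0) with h00 | h00 <;> rcases f2_cases hq (A 0 1) with h01 | h01 <;>
    rcases f2_cases hq (A 1 0) with h10 | h10 <;> rcases f2_cases hq (A 1 1) with h11' | h11' <;>
    rw [h00, h01, h10, h11'] at hdet ⊢ <;>
    simp only [Matrix.mul_fin_two, mul_one, mul_zero, zero_mul, one_mul, add_zero, zero_add, h11,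
      sub_self, sub_zero, ne_eq, not_true_eq_false, one_ne_zero, not_false_eq_true, zero_sub,
      neg_eq_zero, true_or, or_true] at hdet ⊢

end core2

section core3

variable {F : Type*} [Field F] [Fintype F] {n₂ : ℕ}

local notation "B[" Q "]" => QuadraticMap.polar Q

theorem kron_le_NJ (hq : Fintype.card F = 2) (h2 : (2 : F) = 0) :
    kroneckerSubgroup 2 n₂ F ≤ NJ h2 n₂ := by
  rintro g ⟨a, b, hg⟩
  have hgk : g = S5671.kronGL a b := Units.ext (by rw [hg, S5671.kronGL_val])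
  rw [mem_NJ, hgk, JG, kronGL_mul, kronGL_mul, kronGL_mul, kronGL_mul, mul_one, one_mul, one_mul]
  rcases omega_normal hq h2 a with h | h
  · left; rw [h]
  · right; rw [h, one_mul]

theorem exists_vectors (hq : Fintype.card F = 2) (h2 : (2 : F) = 0) (hn : 2 < n₂)
    (f₂ : (Fin n₂ → F) → (Fin n₂ → F) → F) (hf₂ : IsSymplecticForm f₂) :
    ∃ a₁ b₁ w' w'' : Fin n₂ → F, f₂ a₁ b₁ = 1 ∧ w' ≠ 0 ∧ f₂ w' a₁ = 0 ∧ f₂ w' b₁ = 0 ∧
      f₂ w'' w' = 1 ∧ f₂ w'' a₁ = 0 ∧ f₂ w'' b₁ = 1 := by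
  have hb := hf₂.bilinear
  set a₁ : Fin n₂ → F := Pi.single ⟨0, by omega⟩ 1 with ha₁
  have ha₁0 : a₁ ≠ 0 := by
    intro h
    have := congrFun h ⟨0, by omega⟩
    simp [ha₁] at this
  obtain ⟨b₁, hb₁⟩ := (hf₂.nondegenerate a₁ ha₁0).2
  have hab : f₂ a₁ b₁ = 1 := eq_one_of_ne_zero hq hb₁
  have hba : f₂ b₁ a₁ = 1 := by rw [hf₂.skew, hab, neg_eq_self2 h2]
  -- a vector orthogonal to both
  let φ : (Fin n₂ → F) →ₗ[F] (Fin 2 → F) :=
    { toFun := fun z => ![f₂ z a₁, f₂ z b₁]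
      map_add' := by
        intro x y
        ext i
        fin_cases i <;> simp [hb.add_left]
      map_smul' := by
        intro c x
        ext i
        fin_cases i <;> simp [hb.smul_left] }
  have hker : LinearMap.ker φ ≠ ⊥ := by
    apply LinearMap.ker_ne_bot_of_finrank_lt
    rw [Module.finrank_fintype_fun_eq_card, Module.finrank_fintype_fun_eq_card, Fintype.card_fin,
      Fintype.card_fin]
    exact hn
  obtain ⟨w', hw'mem, hw'0⟩ := (Submodule.ne_bot_iff _).mp hker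
  have hw'φ : φ w' = 0 := LinearMap.mem_ker.mp hw'mem
  have hw'a : f₂ w' a₁ = 0 := by
    have := congrFun hw'φ 0
    simpa [φ] using this
  have hw'b : f₂ w' b₁ = 0 := by
    have := congrFun hw'φ 1
    simpa [φ] using this
  obtain ⟨w₀, hw₀⟩ := (hf₂.nondegenerate w' hw'0).1
  have hw₀1 : f₂ w₀ w' = 1 := eq_one_of_ne_zero hq hw₀
  have haw' : f₂ a₁ w' = 0 := by rw [hf₂.skew, hw'a, neg_zero]
  have hbw' : f₂ b₁ w' = 0 := by rw [hf₂.skew, hw'b, neg_zero]
  refine ⟨a₁, b₁, w', w₀ + (1 + f₂ w₀ b₁) • a₁ + (f₂ w₀ a₁) • b₁, hab, hw'0, hw'a, hw'b, ?_, ?_, ?_⟩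
  · rw [hb.add_left, hb.add_left, hb.smul_left, hb.smul_left, haw', hbw', hw₀1]
    ring
  · rw [hb.add_left, hb.add_left, hb.smul_left, hb.smul_left, hf₂.alternating, hba]
    linear_combination (f₂ w₀ a₁) * h2
  · rw [hb.add_left, hb.add_left, hb.smul_left, hb.smul_left, hf₂.alternating, hab]
    linear_combination (f₂ w₀ b₁) * h2

end core3

section core4

variable {F : Type*} [Field F] [Fintype F] {n₂ : ℕ}

local notation "B[" Q "]" => QuadraticMap.polar Q

theorem core (hq : Fintype.card F = 2) (hn : 2 < n₂)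
    (f₂ : (Fin n₂ → F) → (Fin n₂ → F) → F) (hf₂ : IsSymplecticForm f₂) :
    ∃ K₀ : Subgroup (GL (Fin 2 × Fin n₂) F),
      kroneckerSubgroup 2 n₂ F ⊓ ⁅isometryGroup F (qT f₂), isometryGroup F (qT f₂)⁆ < K₀ ∧
        K₀ < ⁅isometryGroup F (qT f₂), isometryGroup F (qT f₂)⁆ := by
  have h2 := two_eq_zero2 hq
  have h11 : (1 : F) + 1 = 0 := by rw [one_add_one_eq_two, h2]
  have hb := hf₂.bilinear
  have hQ := isNondeg_qT f₂ hf₂
  obtain ⟨a₁, b₁, w', w'', hab, hw'0, hw'a, hw'b, hw''w', hw''a, hw''b⟩ :=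
    exists_vectors hq h2 hn f₂ hf₂
  have hsym : ∀ x y, f₂ x y = f₂ y x := fun x y => by rw [hf₂.skew, neg_eq_self2 h2]
  have halt := hf₂.alternating
  have hba : f₂ b₁ a₁ = 1 := by rw [hsym]; exact hab
  have haw' : f₂ a₁ w' = 0 := by rw [hsym]; exact hw'a
  have hbw' : f₂ b₁ w' = 0 := by rw [hsym]; exact hw'b
  have hw'w'' : f₂ w' w'' = 1 := by rw [hsym]; exact hw''w'
  have haw'' : f₂ a₁ w'' = 0 := by rw [hsym]; exact hw''a
  have hbw'' : f₂ b₁ w'' = 1 := by rw [hsym]; exact hw''b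
  have hz1 : ∀ y, f₂ 0 y = 0 := fun y => S5667.bil_zero_left hb y
  have hz2 : ∀ y, f₂ y 0 = 0 := fun y => S5667.bil_zero_right hb y
  have hJ := JG_mem h2 f₂ hf₂
  have hJ2 := JG_sq h2 (n₂ := n₂)
  obtain ⟨v, hvdef⟩ : ∃ v : Fin 2 × Fin n₂ → F, v = mk a₁ b₁ := ⟨_, rfl⟩
  have hv : qT f₂ v = 1 := by rw [hvdef, qT_mk, hab]
  have hv' : qT f₂ v ≠ 0 := by rw [hv]; exact one_ne_zero
  have hJv_eq : ((JG h2 : GL (Fin 2 × Fin n₂) F) : Matrix (Fin 2 × Fin n₂) (Fin 2 × Fin n₂) F) *ᵥ v =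
      mk b₁ (a₁ + b₁) := by rw [hvdef, JG_mk]
  have hJv : qT f₂ (((JG h2 : GL (Fin 2 × Fin n₂) F) :
      Matrix (Fin 2 × Fin n₂) (Fin 2 × Fin n₂) F) *ᵥ v) = 1 := by
    rw [(mem_isometryGroup _ _).mp hJ, hv]
  have hJv' : qT f₂ (((JG h2 : GL (Fin 2 × Fin n₂) F) :
      Matrix (Fin 2 × Fin n₂) (Fin 2 × Fin n₂) F) *ᵥ v) ≠ 0 := by rw [hJv]; exact one_ne_zero
  have hvJv : B[qT f₂] v (((JG h2 : GL (Fin 2 × Fin n₂) F) :
      Matrix (Fin 2 × Fin n₂) (Fin 2 × Fin n₂) F) *ᵥ v) = 1 := by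
    rw [hJv_eq, hvdef, polar_qT_mk f₂ hb, hb.add_right, halt, hab, halt]
    ring
  obtain ⟨ρ, hρdef⟩ : ∃ ρ : GL (Fin 2 × Fin n₂) F, ρ = ⁅rQ hQ v hv',
      rQ hQ (((JG h2 : GL (Fin 2 × Fin n₂) F) :
        Matrix (Fin 2 × Fin n₂) (Fin 2 × Fin n₂) F) *ᵥ v) hJv'⁆ := ⟨_, rfl⟩
  have hρΩ : ρ ∈ ⁅isometryGroup F (qT f₂), isometryGroup F (qT f₂)⁆ := by
    rw [hρdef]
    exact Subgroup.commutator_mem_commutator (rQ_mem hQ _ _) (rQ_mem hQ _ _)
  have hρN : ρ ∈ NJ h2 n₂ := by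
    left
    apply gl_ext
    intro x
    rw [Units.val_mul, Units.val_mul, ← Matrix.mulVec_mulVec, ← Matrix.mulVec_mulVec, hρdef]
    exact comm_rot_commutes hQ h2 (JG h2) hJ hJ2 v hv hv' hJv' x
  have hρk : ρ ∉ kroneckerSubgroup 2 n₂ F := by
    rintro ⟨A, B', hρ⟩
    have h1 := S5671.kron_mulVec_pure (A : Matrix (Fin 2) (Fin 2) F)
      (B' : Matrix (Fin n₂) (Fin n₂) F) (Pi.single 0 1) (a₁ + w')
    rw [← hρ] at h1
    have hp : S5671.pure (Pi.single 0 1 : Fin 2 → F) (a₁ + w') = mk (a₁ + w') 0 := by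
      ext ⟨i, k⟩
      fin_cases i <;> simp [S5671.pure, mk]
    have eα : B[qT f₂] (mk (a₁ + w') 0) v = 1 := by
      rw [hvdef, polar_qT_mk f₂ hb, hb.add_left, hab, hw'b, hz2]
      ring
    have eβ : B[qT f₂] (mk (a₁ + w') 0) (((JG h2 : GL (Fin 2 × Fin n₂) F) :
        Matrix (Fin 2 × Fin n₂) (Fin 2 × Fin n₂) F) *ᵥ v) = 1 := by
      rw [hJv_eq, polar_qT_mk f₂ hb, hb.add_left, hb.add_right, hb.add_right, halt, hab, hw'a,
        hw'b, hz2]
      ring
    rw [hp, hρdef, comm_refl_char2 hQ h2 v _ hv hJv hv' hJv' hvJv, eα, eβ, hJv_eq, h11, zero_smul,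
      add_zero, one_smul, hvdef, mk_add] at h1
    have r0 := congrArg (fun y => S5671.row y 0) h1
    have r1 := congrArg (fun y => S5671.row y 1) h1
    simp only [row_mk_zero, row_mk_one, S5671.row_pure] at r0 r1
    set c := (A : Matrix (Fin 2) (Fin 2) F) *ᵥ (Pi.single 0 1 : Fin 2 → F) with hc
    set z := (B' : Matrix (Fin n₂) (Fin n₂) F) *ᵥ (a₁ + w') with hz
    have r0' : w' = c 0 • z := by
      rw [← r0]
      ext i
      simp only [Pi.add_apply]
      linear_combination (-(a₁ i)) * h2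
    have r1' : b₁ = c 1 • z := by
      rw [← r1, zero_add]
    have hb₁0 : b₁ ≠ 0 := by
      intro h
      rw [h, hz2] at hab
      exact zero_ne_one hab
    have hc0 : c 0 = 1 := by
      apply eq_one_of_ne_zero hq
      intro h
      rw [h, zero_smul] at r0'
      exact hw'0 r0'
    have hc1 : c 1 = 1 := by
      apply eq_one_of_ne_zero hq
      intro h
      rw [h, zero_smul] at r1'
      exact hb₁0 r1'
    rw [hc0, one_smul] at r0'
    rw [hc1, one_smul] at r1'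
    have : w' = b₁ := by rw [r0', r1']
    rw [this, hba] at hw'a
    exact one_ne_zero hw'a
  -- the element of Ω outside the normaliser
  obtain ⟨b, hbdef⟩ : ∃ b : Fin 2 × Fin n₂ → F, b = mk (b₁ + w') (a₁ + b₁) := ⟨_, rfl⟩
  have hbq : qT f₂ b = 1 := by
    rw [hbdef, qT_mk, hb.add_left, hb.add_right, hb.add_right, hba, halt, hw'a, hw'b]
    ring
  have hbq' : qT f₂ b ≠ 0 := by rw [hbq]; exact one_ne_zero
  have habp : B[qT f₂] v b = 1 := by
    rw [hvdef, hbdef, polar_qT_mk f₂ hb, hb.add_right, hb.add_left, halt, hab, halt, hw'b]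
    ring
  obtain ⟨g, hgdef⟩ : ∃ g : GL (Fin 2 × Fin n₂) F, g = ⁅rQ hQ v hv', rQ hQ b hbq'⁆ := ⟨_, rfl⟩
  have hgΩ : g ∈ ⁅isometryGroup F (qT f₂), isometryGroup F (qT f₂)⁆ := by
    rw [hgdef]
    exact Subgroup.commutator_mem_commutator (rQ_mem hQ _ _) (rQ_mem hQ _ _)
  obtain ⟨x, hxdef⟩ : ∃ x : Fin 2 × Fin n₂ → F, x = mk 0 w'' := ⟨_, rfl⟩
  have hJx : ((JG h2 : GL (Fin 2 × Fin n₂) F) : Matrix (Fin 2 × Fin n₂) (Fin 2 × Fin n₂) F) *ᵥ x =
      mk w'' w'' := by rw [hxdef, JG_mk, zero_add]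
  have hgx : ((g : GL (Fin 2 × Fin n₂) F) : Matrix (Fin 2 × Fin n₂) (Fin 2 × Fin n₂) F) *ᵥ x = x := by
    have e1 : B[qT f₂] x v = 0 := by
      rw [hxdef, hvdef, polar_qT_mk f₂ hb, hz1, haw'']
      ring
    have e2 : B[qT f₂] x b = 0 := by
      rw [hxdef, hbdef, polar_qT_mk f₂ hb, hz1, hb.add_left, hbw'', hw'w'']
      linear_combination h2
    rw [hgdef, comm_refl_char2 hQ h2 v b hv hbq hv' hbq' habp, e1, e2, add_zero, zero_smul, zero_smul,
      add_zero, add_zero]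
  have hgJx : ((g : GL (Fin 2 × Fin n₂) F) : Matrix (Fin 2 × Fin n₂) (Fin 2 × Fin n₂) F) *ᵥ
      (((JG h2 : GL (Fin 2 × Fin n₂) F) : Matrix (Fin 2 × Fin n₂) (Fin 2 × Fin n₂) F) *ᵥ x) =
      ((JG h2 : GL (Fin 2 × Fin n₂) F) : Matrix (Fin 2 × Fin n₂) (Fin 2 × Fin n₂) F) *ᵥ x + v := by
    have e1 : B[qT f₂] (mk w'' w'') v = 1 := by
      rw [hvdef, polar_qT_mk f₂ hb, hw''b, haw'']
      ring
    have e2 : B[qT f₂] (mk w'' w'') b = 1 := by
      rw [hbdef, polar_qT_mk f₂ hb, hb.add_right, hb.add_left, hw''a, hw''b, hbw'', hw'w'']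
      linear_combination h2
    rw [hJx, hgdef, comm_refl_char2 hQ h2 v b hv hbq hv' hbq' habp, e1, e2, h11, zero_smul, add_zero,
      one_smul]
  have hQ0 : qT f₂ 0 = 0 := Q_zero hQ
  have hxq : qT f₂ x = 0 := by rw [hxdef, qT_mk, hz1]
  have hgN : g ∉ NJ h2 n₂ := by
    rintro (h | h)
    · have h' := congrArg (fun M : GL (Fin 2 × Fin n₂) F =>
        (M : Matrix (Fin 2 × Fin n₂) (Fin 2 × Fin n₂) F) *ᵥ x) h
      simp only [Units.val_mul, ← Matrix.mulVec_mulVec] at h'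
      rw [hgJx, hgx] at h'
      have hv0 : v = 0 := by
        have := add_left_cancel (a := ((JG h2 : GL (Fin 2 × Fin n₂) F) :
          Matrix (Fin 2 × Fin n₂) (Fin 2 × Fin n₂) F) *ᵥ x) (b := v) (c := 0) (by rw [add_zero]; exact h')
        exact this
      rw [hv0, hQ0] at hv
      exact zero_ne_one hv
    · have h' := congrArg (fun M : GL (Fin 2 × Fin n₂) F =>
        (M : Matrix (Fin 2 × Fin n₂) (Fin 2 × Fin n₂) F) *ᵥ x) h
      simp only [Units.val_mul, ← Matrix.mulVec_mulVec] at h'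
      rw [hgJx, hgx, hJ2, add_comm x] at h'
      have hvx : v = x := add_left_cancel h'
      rw [hvx, hxq] at hv
      exact zero_ne_one hv
  refine ⟨NJ h2 n₂ ⊓ ⁅isometryGroup F (qT f₂), isometryGroup F (qT f₂)⁆, ?_, ?_⟩
  · rw [SetLike.lt_iff_le_and_exists]
    refine ⟨le_inf (inf_le_left.trans (kron_le_NJ hq h2)) inf_le_right, ρ, ⟨hρN, hρΩ⟩, ?_⟩
    intro h
    exact hρk h.1
  · rw [SetLike.lt_iff_le_and_exists]
    refine ⟨inf_le_right, g, hgΩ, ?_⟩
    intro h
    exact hgN h.1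

end core4

/-- Let F be the field with 2 elements, n = 2 n₂ ≥ 13 even, Q a non-degenerate quadratic form on F^n of plus type and Ω the commutator subgroup of its isometry group. Suppose that, through P and e, the polar form of Q is similar to the tensor product of non-degenerate symplectic forms f₁ on F^2 and f₂ on F^(n₂), and Q vanishes on the images of all pure tensors. Then the elements of Ω in the stabiliser of this tensor decomposition form a subgroup that is not maximal: some subgroup lies strictly between it and Ω. -/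
theorem result {F : Type*} [Field F] [Fintype F] {n : ℕ} (hn : 13 ≤ n) (heven : Even n) (Q : (Fin n → F) → F) (hQ : Cfsg.Geo.IsNondegenerateQuadraticForm Q) (hplus : Cfsg.Geo.IsPlusTypeOn Q ⊤) (hq : Fintype.card F = 2) (n₂ : ℕ) (h2 : 2 < n₂) (e : (Fin n) ≃ Fin 2 × Fin n₂) (P : Matrix.GeneralLinearGroup (Fin n) F) (f₁ : (Fin 2 → F) → (Fin 2 → F) → F) (f₂ : (Fin n₂ → F) → (Fin n₂ → F) → F) (hf₁ : Cfsg.Geo.IsSymplecticForm f₁) (hf₂ : Cfsg.Geo.IsSymplecticForm f₂) (hT : Cfsg.Geo.IsTensorFormStructure id (QuadraticMap.polar Q) f₁ f₂ e P) (hpure : (∀ (x₁ : Fin 2 → F) (x₂ : Fin n₂ → F), Q (Matrix.mulVec (P : Matrix (Fin n) (Fin n) F) ((fun a : Fin 2 × Fin n₂ => x₁ a.1 * x₂ a.2) ∘ e)) = 0)) : ∃ K : Subgroup (Matrix.GeneralLinearGroup (Fin n) F), Cfsg.Geo.tensorProductSubgroup 2 n₂ e P ⊓ Cfsg.Geo.omegaGL Q < K ∧ K < Cfsg.Geo.omegaGL Q := by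
  classical
  obtain ⟨c, hc, hH⟩ := hT
  have h2z := two_eq_zero2 hq
  have hc1 : c = 1 := eq_one_of_ne_zero hq hc
  have hb₁ := hf₁.bilinear
  have hb₂ := hf₂.bilinear
  have hG00 : gramMatrix f₁ 0 0 = 0 := hf₁.alternating _
  have hG11 : gramMatrix f₁ 1 1 = 0 := hf₁.alternating _
  have hγ1 : gramMatrix f₁ 0 1 = 1 := by
    apply eq_one_of_ne_zero hq
    intro h0
    have hne : (Pi.single 0 1 : Fin 2 → F) ≠ 0 := by
      intro h
      have := congrFun h 0
      simp at this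
    obtain ⟨x, hx⟩ := (hf₁.nondegenerate (Pi.single 0 1) hne).2
    apply hx
    have hxdec : x = x 0 • (Pi.single 0 1 : Fin 2 → F) + x 1 • (Pi.single 1 1 : Fin 2 → F) := by
      ext i
      fin_cases i <;> simp
    have ha0 : f₁ (Pi.single 0 1) (Pi.single 0 1) = 0 := hf₁.alternating _
    have hg : f₁ (Pi.single 0 1) (Pi.single 1 1) = 0 := h0
    rw [hxdec, hb₁.add_right, hb₁.smul_right, hb₁.smul_right, ha0, hg]
    ring
  have hs₂ : S5635.Sesq id f₂ :=
    ⟨hb₂.add_left, hb₂.add_right, hb₂.smul_left, hb₂.smul_right, fun x y => by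
      rw [hf₂.skew y x, neg_eq_self2 h2z]; rfl⟩
  have hpure' : ∀ (w : Fin 2 → F) (z : Fin n₂ → F),
      Q ((P : Matrix (Fin n) (Fin n) F) *ᵥ (S5671.pure w z ∘ e)) = 0 := fun w z => hpure w z
  have hval : ∀ x : Fin 2 × Fin n₂ → F, Q ((P : Matrix (Fin n) (Fin n) F) *ᵥ (x ∘ e)) = qT f₂ x := by
    intro x
    have hx : x = S5671.pure (Pi.single 0 1) (S5671.row x 0) +
        S5671.pure (Pi.single 1 1) (S5671.row x 1) := by
      ext ⟨i, k⟩
      fin_cases i <;> simp [S5671.pure, S5671.row]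
    have hcomp : x ∘ e = (S5671.pure (Pi.single 0 1) (S5671.row x 0)) ∘ e +
        (S5671.pure (Pi.single 1 1) (S5671.row x 1)) ∘ e := by
      conv_lhs => rw [hx]
      rfl
    rw [hcomp, Matrix.mulVec_add, Q_add Q, hpure', hpure', hH, hc1, one_mul,
      S5671.formOfGram_kron _ f₂ hs₂]
    simp only [Fin.sum_univ_two, S5671.row_pure, hG00, hG11, hγ1, zero_mul, one_mul, zero_add,
      add_zero, Pi.single_eq_same, one_smul, qT]
    have h10 : (Pi.single (1 : Fin 2) (1 : F) : Fin 2 → F) 0 = 0 := by simp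
    have h01 : (Pi.single (0 : Fin 2) (1 : F) : Fin 2 → F) 1 = 0 := by simp
    rw [h10, h01, zero_smul, zero_smul, S5667.bil_zero_left hb₂, mul_zero, add_zero]
  have hO : ∀ g, tphi e P g ∈ isometryGroup F Q ↔ g ∈ isometryGroup F (qT f₂) := by
    intro g
    rw [mem_isometryGroup, mem_isometryGroup]
    constructor
    · intro h x
      rw [← hval, ← tphi_mulVec, h, hval]
    · intro h u
      obtain ⟨x, rfl⟩ := exists_rep e P u
      rw [tphi_mulVec, hval, hval, h]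
  obtain ⟨K₀, hK1, hK2⟩ := core hq h2 f₂ hf₂
  obtain ⟨K, h1, h2'⟩ := transport_chain_comm e P (kroneckerSubgroup 2 n₂ F) _ K₀ _ hO hK1 hK2
  rw [← tensorProductSubgroup_eq_map, ← omegaGL_eq] at h1
  rw [← omegaGL_eq] at h2'
  exact ⟨K, h1, h2'⟩

end Cfsg.Agent.S5705
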