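import Cfsg.Statements.S0006
import Cfsg.Agent.S0144
import Cfsg.Agent.Lib.Helper79.GroupAux
import Cfsg.Agent.Lib.Helper9.CoprimeIndex
import Cfsg.Agent.Lib.Helper1.Solv

set_option autoImplicit false
open Cfsg

namespace Cfsg.Agent.S0006

universe u

/-- the hypothesis: `p`-complements for all primes `p` -/
def Hyp (G : Type u) [Group G] : Prop :=
  ∀ p : ℕ, p.Prime → ∃ H : Subgroup G, H.index = p ^ (Nat.card G).factorization p

theorem factorization_eq_of_eq_mul_pow {n m p j : ℕ} (hp : p.Prime) (hm : ¬ p ∣ m)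
    (h : n = m * p ^ j) : n.factorization p = j := by
  have hm0 : m ≠ 0 := fun h0 => hm (h0 ▸ dvd_zero p)
  rw [h, Nat.factorization_mul hm0 (pow_ne_zero _ hp.ne_zero), hp.factorization_pow]
  simp [Nat.factorization_eq_zero_of_not_dvd hm]

theorem not_dvd_card_of_index {G : Type u} [Group G] [Finite G] {p : ℕ} (hp : p.Prime)
    (H : Subgroup G) (hH : H.index = p ^ (Nat.card G).factorization p) : ¬ p ∣ Nat.card H := by
  intro hd
  have h1 := Subgroup.card_mul_index H
  have h2 := Nat.pow_succ_factorization_not_dvd (Nat.card_pos (α := G)).ne' hp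
  rw [hH] at h1
  generalize (Nat.card G).factorization p = a at h1 h2
  apply h2
  rw [← h1, pow_succ, mul_comm]
  exact Nat.mul_dvd_mul_right hd _

theorem hyp_normal {G : Type u} [Group G] [Finite G] (h : Hyp G) (N : Subgroup G) [N.Normal] :
    Hyp N := by
  intro p hp
  obtain ⟨H, hH⟩ := h p hp
  refine ⟨H.subgroupOf N, ?_⟩
  have hd : H.relIndex N ∣ p ^ (Nat.card G).factorization p := by
    rw [← hH]; exact Cfsg.Agent.Helper79.relIndex_dvd_index_of_normal_right H N
  obtain ⟨j, -, hj⟩ := (Nat.dvd_prime_pow hp).1 hd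
  have hidx : (H.subgroupOf N).index = p ^ j := hj
  rw [hidx]
  congr 1
  symm
  apply factorization_eq_of_eq_mul_pow hp (m := Nat.card (H.subgroupOf N))
  · intro hd2
    apply not_dvd_card_of_index hp H hH
    refine hd2.trans ?_
    have : Nat.card (H.subgroupOf N) = Nat.card (H ⊓ N : Subgroup G) := by
      rw [← Subgroup.inf_subgroupOf_right]
      exact Nat.card_congr (Subgroup.subgroupOfEquivOfLe inf_le_right).toEquiv
    rw [this]
    exact Subgroup.card_dvd_of_le inf_le_left
  · rw [← hidx, Subgroup.card_mul_index]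

theorem hyp_quotient {G : Type u} [Group G] [Finite G] (h : Hyp G) (N : Subgroup G) [N.Normal] :
    Hyp (G ⧸ N) := by
  intro p hp
  obtain ⟨H, hH⟩ := h p hp
  refine ⟨H.map (QuotientGroup.mk' N), ?_⟩
  have hd : (H.map (QuotientGroup.mk' N)).index ∣ p ^ (Nat.card G).factorization p := by
    rw [← hH]; exact Subgroup.index_map_dvd H (QuotientGroup.mk'_surjective N)
  obtain ⟨j, -, hj⟩ := (Nat.dvd_prime_pow hp).1 hd
  rw [hj]
  congr 1
  symm
  apply factorization_eq_of_eq_mul_pow hp (m := Nat.card (H.map (QuotientGroup.mk' N)))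
  · intro hd2
    apply not_dvd_card_of_index hp H hH
    exact hd2.trans (Subgroup.card_map_dvd H _)
  · rw [← hj, Subgroup.card_mul_index]

/-- a `q`-complement inherits the hypothesis -/
theorem hyp_complement {G : Type u} [Group G] [Finite G] (h : Hyp G) (q : ℕ) (hq : q.Prime)
    (H : Subgroup G) (hH : H.index = q ^ (Nat.card G).factorization q) : Hyp H := by
  intro t ht
  have hcard : Nat.card G = Nat.card H * q ^ (Nat.card G).factorization q := by
    rw [← hH, Subgroup.card_mul_index]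
  by_cases htq : t = q
  · subst htq
    refine ⟨⊤, ?_⟩
    rw [Subgroup.index_top, Nat.factorization_eq_zero_of_not_dvd (not_dvd_card_of_index ht H hH),
      pow_zero]
  · obtain ⟨K, hK⟩ := h t ht
    refine ⟨K.subgroupOf H, ?_⟩
    have hcop : K.index.Coprime H.index := by
      rw [hK, hH]
      exact Nat.Coprime.pow _ _ ((Nat.coprime_primes ht hq).2 htq)
    have h1 : (K.subgroupOf H).index = K.index :=
      Cfsg.Agent.Helper9.relIndex_eq_index_of_coprime K H hcop
    rw [h1, hK]
    congr 1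
    have hH0 : Nat.card H ≠ 0 := Nat.card_pos.ne'
    conv_lhs => rw [hcard]
    rw [Nat.factorization_mul hH0 (pow_ne_zero _ hq.ne_zero), hq.factorization_pow]
    simp [Ne.symm htq]

theorem simple_case {G : Type u} [Group G] [Finite G] [IsSimpleGroup G] (h : Hyp G)
    (hsub : ∀ H : Subgroup G, H ≠ ⊤ → Hyp H → Group.IsSolvable H) : Group.IsSolvable G := by
  classical
  by_contra hns
  have hcard0 : Nat.card G ≠ 0 := Nat.card_pos.ne'
  -- three distinct primes
  have hthree : ∃ p1 p2 p3 : ℕ, p1.Prime ∧ p2.Prime ∧ p3.Prime ∧ p1 ≠ p2 ∧ p1 ≠ p3 ∧ p2 ≠ p3 ∧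
      p1 ∣ Nat.card G ∧ p2 ∣ Nat.card G ∧ p3 ∣ Nat.card G := by
    have h1 : 1 < Nat.card G := Finite.one_lt_card
    obtain ⟨p1, hp1, hd1⟩ := Nat.exists_prime_and_dvd h1.ne'
    by_cases hall1 : ∀ r : ℕ, r.Prime → r ∣ Nat.card G → r = p1 ∨ r = p1
    · exact absurd (Cfsg.Agent.S0144.aux p1 p1 hp1 hp1 _ G rfl hall1) hns
    push Not at hall1
    obtain ⟨p2, hp2, hd2, h21, -⟩ := hall1
    by_cases hall2 : ∀ r : ℕ, r.Prime → r ∣ Nat.card G → r = p1 ∨ r = p2
    · exact absurd (Cfsg.Agent.S0144.aux p1 p2 hp1 hp2 _ G rfl hall2) hns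
    push Not at hall2
    obtain ⟨p3, hp3, hd3, h31, h32⟩ := hall2
    exact ⟨p1, p2, p3, hp1, hp2, hp3, Ne.symm h21, Ne.symm h31, Ne.symm h32, hd1, hd2, hd3⟩
  obtain ⟨p1, p2, p3, hp1, hp2, hp3, h12, h13, h23, hd1, hd2, hd3⟩ := hthree
  obtain ⟨H, hH⟩ := h p3 hp3
  have hpos : ∀ {p : ℕ}, p.Prime → p ∣ Nat.card G → 0 < (Nat.card G).factorization p := by
    intro p hp hd
    exact hp.factorization_pos_of_dvd hcard0 hd
  have hHtop : H ≠ ⊤ := by
    intro htop
    rw [htop, Subgroup.index_top] at hH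
    have := hpos hp3 hd3
    have h2 : 1 < p3 ^ (Nat.card G).factorization p3 := Nat.one_lt_pow this.ne' hp3.one_lt
    omega
  have hHyp : Hyp H := hyp_complement h p3 hp3 H hH
  have hHsolv : Group.IsSolvable H := hsub H hHtop hHyp
  have hcardH : Nat.card G = Nat.card H * p3 ^ (Nat.card G).factorization p3 := by
    rw [← hH, Subgroup.card_mul_index]
  have hp1H : p1 ∣ Nat.card H := by
    have : p1 ∣ Nat.card H * p3 ^ (Nat.card G).factorization p3 := hcardH ▸ hd1
    rcases (Nat.Prime.dvd_mul hp1).1 this with h' | h'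
    · exact h'
    · exact absurd ((Nat.prime_dvd_prime_iff_eq hp1 hp3).1 (hp1.dvd_of_dvd_pow h')) h13
  have hHnt : Nontrivial H := by
    rw [← Finite.one_lt_card_iff_nontrivial]
    exact lt_of_lt_of_le hp1.one_lt (Nat.le_of_dvd Nat.card_pos hp1H)
  obtain ⟨r, hr, A, hAn, hAne, -, hAr⟩ := Cfsg.Agent.Helper1.exists_normal_elementary_of_solvable H
  have hApg : IsPGroup r A := Cfsg.Agent.Helper1.isPGroup_of_forall_pow_eq_one A hAr
  have : Fact r.Prime := ⟨hr⟩
  obtain ⟨m, hm⟩ := IsPGroup.iff_card.1 hApg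
  -- choose s in {p1, p2} different from r
  obtain ⟨s, hs, hsd, hsr, hs3⟩ : ∃ s : ℕ, s.Prime ∧ s ∣ Nat.card G ∧ s ≠ r ∧ s ≠ p3 := by
    by_cases h1r : p1 = r
    · exact ⟨p2, hp2, hd2, fun h' => h12 (h1r.trans h'.symm), h23⟩
    · exact ⟨p1, hp1, hd1, h1r, h13⟩
  obtain ⟨K, hK⟩ := h s hs
  have hcop : K.index.Coprime H.index := by
    rw [hK, hH]
    exact Nat.Coprime.pow _ _ ((Nat.coprime_primes hs hp3).2 hs3)
  have hKidx : (K.subgroupOf H).index = K.index :=
    Cfsg.Agent.Helper9.relIndex_eq_index_of_coprime K H hcop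
  have hAK : A ≤ K.subgroupOf H := by
    rw [← Subgroup.relIndex_eq_one]
    have hd1' : (K.subgroupOf H).relIndex A ∣ s ^ (Nat.card G).factorization s := by
      rw [← hK, ← hKidx]
      exact Cfsg.Agent.Helper79.relIndex_dvd_index_of_normal_right (K.subgroupOf H) A
    have hd2' : (K.subgroupOf H).relIndex A ∣ r ^ m := by
      rw [← hm]; exact Subgroup.relIndex_dvd_card _ _
    have hcop2 : (s ^ (Nat.card G).factorization s).Coprime (r ^ m) :=
      Nat.Coprime.pow _ _ ((Nat.coprime_primes hs hr).2 hsr)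
    exact Nat.eq_one_of_dvd_coprimes hcop2 hd1' hd2'
  -- all conjugates of elements of A lie in K
  have hcore : ∀ x : H, x ∈ A → (x : G) ∈ K.normalCore := by
    intro x hx g
    obtain ⟨b, hb, a, ha, hg⟩ := Cfsg.Agent.Helper9.exists_mul_of_coprime_index H K hcop.symm g
    have hconj : (⟨a, ha⟩ : H) * x * (⟨a, ha⟩ : H)⁻¹ ∈ A := hAn.conj_mem x hx ⟨a, ha⟩
    have hK' := hAK hconj
    rw [Subgroup.mem_subgroupOf] at hK'
    have : g * (x : G) * g⁻¹ = b * (a * (x : G) * a⁻¹) * b⁻¹ := by rw [hg]; group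
    rw [this]
    apply K.mul_mem (K.mul_mem hb _) (K.inv_mem hb)
    simpa using hK'
  obtain ⟨x, hxA, hx1⟩ := (Subgroup.ne_bot_iff_exists_ne_one (H := A)).1 hAne |> fun ⟨x, hx⟩ =>
    (⟨(x : H), x.2, fun h' => hx (Subtype.ext h')⟩ : ∃ a : H, a ∈ A ∧ a ≠ 1)
  have hxcore := hcore x hxA
  rcases (Subgroup.normalCore_normal K).eq_bot_or_eq_top with hbot | htop
  · rw [hbot, Subgroup.mem_bot] at hxcore
    apply hx1
    exact Subtype.ext hxcore
  · have hKtop : K = ⊤ := top_le_iff.1 (htop ▸ Subgroup.normalCore_le K)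
    rw [hKtop, Subgroup.index_top] at hK
    have := hpos hs hsd
    have h2 : 1 < s ^ (Nat.card G).factorization s := Nat.one_lt_pow this.ne' hs.one_lt
    omega

theorem aux : ∀ n : ℕ, ∀ (G : Type u) [Group G] [Finite G], Nat.card G = n → Hyp G →
    Group.IsSolvable G := by
  intro n
  induction n using Nat.strong_induction_on with
  | _ n ih =>
    intro G _ _ hn hG
    by_cases hsimple : IsSimpleGroup G
    · apply simple_case hG
      intro H hHtop hH
      have hlt : Nat.card H < n := by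
        rw [← hn]
        apply lt_of_le_of_ne (Subgroup.card_le_card_group H)
        intro h'
        exact hHtop ((Subgroup.card_eq_iff_eq_top H).1 h')
      exact ih _ hlt H rfl hH
    by_cases htriv : Subsingleton G
    · exact Group.isSolvable_of_comm (fun a b => Subsingleton.elim _ _)
    rw [not_subsingleton_iff_nontrivial] at htriv
    have hex : ∃ N : Subgroup G, N.Normal ∧ N ≠ ⊥ ∧ N ≠ ⊤ := by
      by_contra hcon
      push Not at hcon
      apply hsimple
      refine ⟨fun N hN => ?_⟩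
      by_cases hb : N = ⊥
      · exact Or.inl hb
      · exact Or.inr (hcon N hN hb)
    obtain ⟨N, hNn, hNbot, hNtop⟩ := hex
    have hcardN : Nat.card N < n := by
      rw [← hn]
      apply lt_of_le_of_ne (Subgroup.card_le_card_group N)
      intro h
      exact hNtop ((Subgroup.card_eq_iff_eq_top N).1 h)
    have hcardQ : Nat.card (G ⧸ N) < n := by
      rw [← hn, ← Subgroup.index_eq_card, ← Subgroup.card_mul_index N]
      have h1 : 1 < Nat.card N := by
        rw [Finite.one_lt_card_iff_nontrivial]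
        exact (Subgroup.nontrivial_iff_ne_bot _).2 hNbot
      have h2 : 0 < N.index := Nat.pos_of_ne_zero Subgroup.index_ne_zero_of_finite
      nlinarith
    have : Group.IsSolvable N := ih _ hcardN N rfl (hyp_normal hG N)
    have : Group.IsSolvable (G ⧸ N) := ih _ hcardQ (G ⧸ N) rfl (hyp_quotient hG N)
    apply Group.isSolvable_of_ker_le_range N.subtype (QuotientGroup.mk' N)
    rw [QuotientGroup.ker_mk', Subgroup.range_subtype]

/-- Converse of Hall's Theorem: if for every prime p a finite group has a subgroup of index equal to the p-part of the group order (a Hall p-complement), then the group is solvable. -/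
theorem result {G : Type*} [Group G] [Finite G]
    (h : ∀ p : ℕ, p.Prime → ∃ H : Subgroup G, H.index = p ^ (Nat.card G).factorization p) :
    Group.IsSolvable G :=
  aux (Nat.card G) G rfl h

end Cfsg.Agent.S0006
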