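import Cfsg.Statements.S0007
import Mathlib

set_option autoImplicit false
open Pointwise
open Cfsg

namespace Cfsg.Agent.S0007

/-- Subgroups of coprime index: the intersection has index equal to the product of the indices, and every element is a product of an element of the first subgroup and an element of the second. -/
theorem result {G : Type*} [Group G] [Finite G] (H K : Subgroup G)
    (h : H.index.Coprime K.index) :
    (H ⊓ K).index = H.index * K.index ∧ ∀ g : G, ∃ x ∈ H, ∃ y ∈ K, g = x * y := by
  have h1 : (H ⊓ K).index = H.index * K.index := by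
    apply Nat.le_antisymm (Subgroup.index_inf_le)
    apply Nat.le_of_dvd
    · exact Nat.pos_of_ne_zero (Subgroup.index_ne_zero_of_finite)
    · exact Nat.Coprime.mul_dvd_of_dvd_of_dvd h (Subgroup.index_dvd_of_le inf_le_left) (Subgroup.index_dvd_of_le inf_le_right)
  refine ⟨h1, ?_⟩
  have h2 : (H ⊓ K).relIndex H * H.index = (H ⊓ K).index := Subgroup.relIndex_mul_index inf_le_left
  have h3 : K.relIndex H = K.index := by
    have : (H ⊓ K).relIndex H = K.relIndex H := Subgroup.inf_relIndex_left H K
    rw [this, h1, mul_comm] at h2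
    exact Nat.eq_of_mul_eq_mul_left (Nat.pos_of_ne_zero Subgroup.index_ne_zero_of_finite) h2
  -- the embedding H ⧸ K.subgroupOf H ↪ ⊤ ⧸ K.subgroupOf ⊤ is a bijection
  let e := Subgroup.quotientSubgroupOfEmbeddingOfLE K (le_top : H ≤ ⊤)
  have hcard : Nat.card (↥(⊤ : Subgroup G) ⧸ K.subgroupOf ⊤) ≤ Nat.card (↥H ⧸ K.subgroupOf H) := by
    have e1 : Nat.card (↥H ⧸ K.subgroupOf H) = K.relIndex H := rfl
    have e2 : Nat.card (↥(⊤ : Subgroup G) ⧸ K.subgroupOf ⊤) = K.relIndex ⊤ := rfl
    rw [e1, e2, h3, Subgroup.relIndex_top_right]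
  have hbij : Function.Bijective e := Function.Injective.bijective_of_nat_card_le e.injective hcard
  intro g
  obtain ⟨q, hq⟩ := hbij.2 (QuotientGroup.mk (⟨g, Subgroup.mem_top g⟩ : (⊤ : Subgroup G)))
  induction q using QuotientGroup.induction_on with
  | H x =>
    rw [Subgroup.quotientSubgroupOfEmbeddingOfLE_apply_mk] at hq
    rw [QuotientGroup.eq] at hq
    rw [Subgroup.mem_subgroupOf] at hq
    refine ⟨x, x.2, (x:G)⁻¹ * g, ?_, by group⟩
    simpa using hq

end Cfsg.Agent.S0007
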