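import Cfsg.Statements.S0011
import Mathlib

set_option autoImplicit false
open Cfsg

namespace Cfsg.Agent.S0011

/-- If the Frattini quotient of a finite group is nilpotent then the group is nilpotent. -/
theorem result {G : Type*} [Group G] [Finite G]
    (h : Group.IsNilpotent (G ⧸ frattini G)) : Group.IsNilpotent G := by
  have tfae := Group.isNilpotent_of_finite_tfae (G := G)
  have h02 : Group.IsNilpotent G ↔ ∀ H : Subgroup G, IsCoatom H → H.Normal := tfae.out 0 2
  rw [h02]
  intro M hM
  have hΦM : frattini G ≤ M := frattini_le_coatom hM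
  have hsurj := QuotientGroup.mk'_surjective (frattini G)
  have hcomap : (M.map (QuotientGroup.mk' (frattini G))).comap (QuotientGroup.mk' (frattini G)) = M := by
    rw [Subgroup.comap_map_eq, QuotientGroup.ker_mk', sup_eq_left.mpr hΦM]
  have hne : M.map (QuotientGroup.mk' (frattini G)) ≠ ⊤ := by
    intro htop
    rw [htop, Subgroup.comap_top] at hcomap
    exact hM.1 hcomap.symm
  have hnc : NormalizerCondition (G ⧸ frattini G) := Group.normalizerCondition_of_isNilpotent
  have hlt := hnc (M.map (QuotientGroup.mk' (frattini G))) (lt_top_iff_ne_top.mpr hne)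
  have h1 := (Subgroup.comap_lt_comap_of_surjective hsurj).mpr hlt
  rw [Subgroup.comap_normalizer_eq_of_surjective _ hsurj, hcomap] at h1
  exact Subgroup.normalizer_eq_top_iff.mp (hM.2 _ h1)

end Cfsg.Agent.S0011
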