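import Cfsg.Statements.S0019
import Mathlib
import Cfsg.Agent.Lib.Helper1.SZ

set_option autoImplicit false
open Pointwise
open Cfsg

namespace Cfsg.Agent.S0019

open Cfsg.Agent.Helper1

universe u

/-- If `G = H₁ H₂`, a `p`-subgroup `M` normalised by `H₁`, and `p` does not divide the index of `H₂`,
then the normal closure of `M` lies in `H₂`. -/
theorem normalClosure_le {G : Type*} [Group G] [Finite G] (H₁ H₂ : Subgroup G)
    (h12 : ∀ g : G, ∃ x ∈ H₁, ∃ y ∈ H₂, g = x * y) (M : Subgroup G)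
    (hM : H₁ ≤ Subgroup.normalizer (M : Set G)) (p : ℕ) [Fact p.Prime] (hMp : IsPGroup p M)
    (hp : ¬ p ∣ H₂.index) : Subgroup.normalClosure (M : Set G) ≤ H₂ := by
  -- a Sylow `p`-subgroup of `G` inside `H₂`
  let S2 : Sylow p H₂ := default
  have hfac : (Nat.card G).factorization p = (Nat.card H₂).factorization p := by
    rw [← H₂.card_mul_index, Nat.factorization_mul Nat.card_pos.ne' Subgroup.index_ne_zero_of_finite]
    simp [Nat.factorization_eq_zero_of_not_dvd hp]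
  have hcard : Nat.card ((S2 : Subgroup H₂).map H₂.subtype) = p ^ (Nat.card G).factorization p := by
    rw [Subgroup.card_map_of_injective H₂.subtype_injective, hfac]
    exact S2.card_eq_multiplicity
  let T : Sylow p G := Sylow.ofCard _ hcard
  have hT : (T : Subgroup G) ≤ H₂ := Subgroup.map_subtype_le _
  obtain ⟨S, hS⟩ := hMp.exists_le_sylow
  obtain ⟨g, hg⟩ := MulAction.exists_smul_eq G S T
  have hgM : MulAut.conj g • M ≤ H₂ := by
    have h1 : MulAut.conj g • M ≤ MulAut.conj g • (S : Subgroup G) :=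
      Subgroup.pointwise_smul_le_pointwise_smul_iff.mpr hS
    have h2 : MulAut.conj g • (S : Subgroup G) = T := by
      rw [← Sylow.coe_subgroup_smul, hg]
    exact (h1.trans h2.le).trans hT
  -- `M ≤ H₂`
  have hnorm : ∀ x ∈ H₁, ∀ m : G, m ∈ M ↔ x⁻¹ * m * x ∈ M := by
    intro x hx m
    exact (Subgroup.mem_normalizer_iff'').mp (hM hx) m
  have hMH : M ≤ H₂ := by
    intro m hm
    obtain ⟨x, hx, y, hy, hxy⟩ := h12 g⁻¹
    -- `g = y⁻¹ * x⁻¹`
    have hgeq : g = y⁻¹ * x⁻¹ := by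
      have : g = (g⁻¹)⁻¹ := by simp
      rw [this, hxy]; group
    have hm' : x * m * x⁻¹ ∈ M := by
      have := (hnorm x⁻¹ (H₁.inv_mem hx) m).mp hm
      simpa using this
    have h1 : g * (x * m * x⁻¹) * g⁻¹ ∈ H₂ := hgM (conj_mem_conj_smul hm')
    have h2 : g * (x * m * x⁻¹) * g⁻¹ = y⁻¹ * m * y := by rw [hgeq]; group
    rw [h2] at h1
    have h3 := H₂.mul_mem (H₂.mul_mem hy h1) (H₂.inv_mem hy)
    have h4 : y * (y⁻¹ * m * y) * y⁻¹ = m := by group
    rwa [h4] at h3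
  rw [Subgroup.normalClosure]
  rw [Subgroup.closure_le]
  intro z hz
  rw [Group.mem_conjugatesOfSet_iff] at hz
  obtain ⟨m, hm, hmz⟩ := hz
  rw [isConj_iff] at hmz
  obtain ⟨c, rfl⟩ := hmz
  obtain ⟨x, hx, y, hy, hxy⟩ := h12 c⁻¹
  have hceq : c = y⁻¹ * x⁻¹ := by
    have : c = (c⁻¹)⁻¹ := by simp
    rw [this, hxy]; group
  have hm' : x⁻¹ * m * x ∈ M := (hnorm x hx m).mp hm
  have h2 : c * m * c⁻¹ = y⁻¹ * (x⁻¹ * m * x) * y := by rw [hceq]; group
  rw [SetLike.mem_coe, h2]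
  exact H₂.mul_mem (H₂.mul_mem (H₂.inv_mem hy) (hMH hm')) hy

theorem aux : ∀ (n : ℕ) (G : Type u) [Group G] [Finite G], Nat.card G = n →
    ∀ (H₁ H₂ H₃ : Subgroup G), Group.IsSolvable H₁ → Group.IsSolvable H₂ → Group.IsSolvable H₃ →
    (∀ g : G, ∃ x ∈ H₁, ∃ y ∈ H₂, g = x * y) → (∀ g : G, ∃ x ∈ H₁, ∃ y ∈ H₃, g = x * y) →
    H₂.index.Coprime H₃.index → Group.IsSolvable G := by
  intro n
  induction n using Nat.strong_induction_on with
  | _ n ih =>
  intro G _ _ hn H₁ H₂ H₃ h₁ h₂ h₃ h12 h13 hcop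
  by_cases hbot : H₁ = ⊥
  · have htop : H₂ = ⊤ := by
      rw [eq_top_iff]
      intro g _
      obtain ⟨x, hx, y, hy, rfl⟩ := h12 g
      rw [hbot, Subgroup.mem_bot] at hx
      rw [hx, one_mul]; exact hy
    subst htop
    exact Group.isSolvable_of_surjective (f := (⊤ : Subgroup G).subtype)
      (fun g => ⟨⟨g, Subgroup.mem_top g⟩, rfl⟩)
  · have : Nontrivial H₁ := (Subgroup.nontrivial_iff_ne_bot H₁).mpr hbot
    obtain ⟨p, hp, A, hAn, hAbot, -, hAp⟩ := exists_normal_elementary_of_solvable H₁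
    have : Fact p.Prime := ⟨hp⟩
    set M : Subgroup G := A.map H₁.subtype with hMdef
    have hMp : IsPGroup p M := (isPGroup_of_forall_pow_eq_one A hAp).map _
    have hMbot : M ≠ ⊥ := by
      intro h
      apply hAbot
      rw [hMdef, Subgroup.map_eq_bot_iff_of_injective _ H₁.subtype_injective] at h
      exact h
    have hMnorm : H₁ ≤ Subgroup.normalizer (M : Set G) := by
      intro x hx
      rw [Subgroup.mem_normalizer_iff]
      intro m
      constructor
      · rintro ⟨a, ha, rfl⟩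
        exact ⟨⟨x, hx⟩ * a * ⟨x, hx⟩⁻¹, hAn.conj_mem a ha ⟨x, hx⟩, rfl⟩
      · rintro ⟨a, ha, ha'⟩
        refine ⟨⟨x, hx⟩⁻¹ * a * ⟨x, hx⟩, ?_, ?_⟩
        · have := hAn.conj_mem a ha ⟨x, hx⟩⁻¹
          simpa using this
        · simp only [Subgroup.subtype_apply, Subgroup.coe_mul, Subgroup.coe_inv] at ha' ⊢
          rw [ha']; group
    -- the normal closure of `M` is a solvable normal subgroup
    have hN : ∃ N : Subgroup G, N.Normal ∧ N ≠ ⊥ ∧ Group.IsSolvable N := by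
      have hle : M ≤ Subgroup.normalClosure (M : Set G) := Subgroup.le_normalClosure
      have hne : Subgroup.normalClosure (M : Set G) ≠ ⊥ := by
        intro h
        apply hMbot
        rw [eq_bot_iff, ← h]; exact hle
      by_cases hp2 : p ∣ H₂.index
      · have hp3 : ¬ p ∣ H₃.index := fun h => hp.one_lt.ne' (Nat.eq_one_of_dvd_coprimes hcop hp2 h)
        have := normalClosure_le H₁ H₃ h13 M hMnorm p hMp hp3
        exact ⟨_, Subgroup.normalClosure_normal, hne, isSolvable_of_le this⟩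
      · have := normalClosure_le H₁ H₂ h12 M hMnorm p hMp hp2
        exact ⟨_, Subgroup.normalClosure_normal, hne, isSolvable_of_le this⟩
    obtain ⟨N, hNn, hNbot, hNs⟩ := hN
    have hq : Group.IsSolvable (G ⧸ N) := by
      refine ih (Nat.card (G ⧸ N)) (hn ▸ card_quotient_lt N hNbot) (G ⧸ N) rfl
        (H₁.map (QuotientGroup.mk' N)) (H₂.map (QuotientGroup.mk' N)) (H₃.map (QuotientGroup.mk' N))
        (isSolvable_map _ H₁) (isSolvable_map _ H₂) (isSolvable_map _ H₃) ?_ ?_ ?_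
      · intro gq
        obtain ⟨g, rfl⟩ := QuotientGroup.mk'_surjective N gq
        obtain ⟨x, hx, y, hy, rfl⟩ := h12 g
        exact ⟨_, Subgroup.mem_map_of_mem _ hx, _, Subgroup.mem_map_of_mem _ hy, map_mul _ _ _⟩
      · intro gq
        obtain ⟨g, rfl⟩ := QuotientGroup.mk'_surjective N gq
        obtain ⟨x, hx, y, hy, rfl⟩ := h13 g
        exact ⟨_, Subgroup.mem_map_of_mem _ hx, _, Subgroup.mem_map_of_mem _ hy, map_mul _ _ _⟩
      · exact Nat.Coprime.of_dvd (Subgroup.index_map_dvd H₂ (QuotientGroup.mk'_surjective N))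
          (Subgroup.index_map_dvd H₃ (QuotientGroup.mk'_surjective N)) hcop
    exact (Group.isSolvable_iff_subgroup_quotient N).mpr ⟨hNs, hq⟩

/-- A finite group that factorises as H₁H₂ and as H₁H₃ with all three subgroups solvable and the indices of H₂ and H₃ coprime is solvable. -/
theorem result {G : Type*} [Group G] [Finite G] (H₁ H₂ H₃ : Subgroup G)
    (h₁ : Group.IsSolvable H₁) (h₂ : Group.IsSolvable H₂) (h₃ : Group.IsSolvable H₃)
    (h12 : ∀ g : G, ∃ x ∈ H₁, ∃ y ∈ H₂, g = x * y) (h13 : ∀ g : G, ∃ x ∈ H₁, ∃ y ∈ H₃, g = x * y)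
    (hcop : H₂.index.Coprime H₃.index) : Group.IsSolvable G :=
  aux _ G rfl H₁ H₂ H₃ h₁ h₂ h₃ h12 h13 hcop

end Cfsg.Agent.S0019
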