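import Cfsg.Statements.S0020
import Mathlib
import Cfsg.Agent.Lib.Helper1.Hall

set_option autoImplicit false
open Pointwise
open Cfsg

namespace Cfsg.Agent.S0020

open Cfsg.Agent.Helper1

theorem index_inf_of_coprime {G : Type*} [Group G] [Finite G] (H K : Subgroup G)
    (h : H.index.Coprime K.index) : (H ⊓ K).index = H.index * K.index := by
  apply Nat.le_antisymm (Subgroup.index_inf_le)
  apply Nat.le_of_dvd
  · exact Nat.pos_of_ne_zero (Subgroup.index_ne_zero_of_finite)
  · exact Nat.Coprime.mul_dvd_of_dvd_of_dvd h (Subgroup.index_dvd_of_le inf_le_left)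
      (Subgroup.index_dvd_of_le inf_le_right)

/-- Product formula for the index of an intersection of subgroups with prime power indices for
distinct primes. -/
theorem index_finset_inf {G : Type*} [Group G] [Finite G] (C : ℕ → Subgroup G) (e : ℕ → ℕ)
    (hC : ∀ p : ℕ, p.Prime → (C p).index = p ^ e p) (σ : Finset ℕ) (hσ : ∀ p ∈ σ, p.Prime) :
    (σ.inf C).index = ∏ p ∈ σ, p ^ e p := by
  classical
  induction σ using Finset.induction_on with
  | empty => simp
  | insert a s ha ih =>
    have hs : ∀ p ∈ s, p.Prime := fun p hp => hσ p (Finset.mem_insert_of_mem hp)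
    have hap : a.Prime := hσ a (Finset.mem_insert_self a s)
    rw [Finset.inf_insert, Finset.prod_insert ha, index_inf_of_coprime, hC a hap, ih hs]
    rw [hC a hap, ih hs]
    apply Nat.Coprime.prod_right
    intro p hp
    apply Nat.Coprime.pow
    exact (Nat.coprime_primes hap (hs p hp)).mpr (fun h => ha (h ▸ hp))

theorem prod_erase_mul_pow (N : ℕ) (σ : Finset ℕ) (q : ℕ) (h : q ∈ σ ∨ N.factorization q = 0) :
    (∏ r ∈ σ.erase q, r ^ N.factorization r) * q ^ N.factorization q = ∏ r ∈ σ, r ^ N.factorization r := by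
  classical
  rcases h with h | h
  · exact Finset.prod_erase_mul σ _ h
  · by_cases hq : q ∈ σ
    · exact Finset.prod_erase_mul σ _ hq
    · rw [Finset.erase_eq_of_notMem hq, h, pow_zero, mul_one]

/-- A finite solvable group admits a Sylow system: Sylow subgroups, one for each prime, that pairwise permute as sets. -/
theorem result {G : Type*} [Group G] [Finite G] [Group.IsSolvable G] :
    ∃ S : (p : Nat.Primes) → Sylow (p : ℕ) G,
      ∀ p q : Nat.Primes, (S p : Set G) * (S q : Set G) = (S q : Set G) * (S p : Set G) := by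
  classical
  set N := Nat.card G with hNdef
  have hN0 : N ≠ 0 := Nat.card_pos.ne'
  -- Hall `p`-complements
  have hex : ∀ p : ℕ, ∃ H : Subgroup G, p.Prime → H.index = p ^ N.factorization p := by
    intro p
    by_cases hp : p.Prime
    · obtain ⟨H, hH, -⟩ := hall_exists_dominant (G := G) (ordCompl[p] N) (ordProj[p] N)
        (by rw [mul_comm]; exact (Nat.ordProj_mul_ordCompl_eq_self N p).symm)
        ((Nat.Coprime.pow_left _ (Nat.coprime_ordCompl hp hN0)).symm)
      refine ⟨H, fun _ => ?_⟩
      have h1 := H.card_mul_index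
      rw [hH, ← hNdef] at h1
      have h2 := Nat.ordProj_mul_ordCompl_eq_self N p
      have hpos : 0 < ordCompl[p] N := Nat.ordCompl_pos p hN0
      apply Nat.eq_of_mul_eq_mul_left hpos
      rw [h1, mul_comm]; exact h2.symm
    · exact ⟨⊤, fun h => absurd h hp⟩
  choose C hC using hex
  set π := N.primeFactors with hπ
  have hπp : ∀ σ : Finset ℕ, σ ⊆ π → ∀ p ∈ σ, p.Prime :=
    fun σ hσ p hp => Nat.prime_of_mem_primeFactors (hσ hp)
  have hidx : ∀ σ : Finset ℕ, σ ⊆ π → (σ.inf C).index = ∏ p ∈ σ, p ^ N.factorization p :=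
    fun σ hσ => index_finset_inf C _ hC σ (hπp σ hσ)
  have hprodπ : ∏ p ∈ π, p ^ N.factorization p = N := (Nat.prod_primeFactors_pow_factorization hN0).symm
  have hnotmem : ∀ q : ℕ, q ∉ π → N.factorization q = 0 := by
    intro q hq
    rw [hπ, ← Nat.support_factorization] at hq
    exact Finsupp.notMem_support_iff.mp hq
  -- the Sylow subgroups
  set T : ℕ → Subgroup G := fun p => (π.erase p).inf C with hT
  have hTidx : ∀ p : ℕ, (T p).index * p ^ N.factorization p = N := by
    intro p
    rw [hT, hidx _ (Finset.erase_subset _ _), prod_erase_mul_pow N π p, hprodπ]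
    by_cases hp : p ∈ π
    · exact Or.inl hp
    · exact Or.inr (hnotmem p hp)
  have hTcard : ∀ p : ℕ, Nat.card (T p) = p ^ N.factorization p := by
    intro p
    have h1 := (T p).index_mul_card
    rw [← hNdef, ← hTidx p] at h1
    exact Nat.eq_of_mul_eq_mul_left (Nat.pos_of_ne_zero Subgroup.index_ne_zero_of_finite) h1
  have hfact : ∀ p : Nat.Primes, Fact (p : ℕ).Prime := fun p => ⟨p.2⟩
  refine ⟨fun p => @Sylow.ofCard G _ _ (p : ℕ) (hfact p) (T p) (hTcard p), ?_⟩
  intro p q
  by_cases hpq : p = q
  · subst hpq; rfl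
  have hne : (p : ℕ) ≠ (q : ℕ) := fun h => hpq (Subtype.ext h)
  change (T p : Set G) * (T q : Set G) = (T q : Set G) * (T p : Set G)
  -- the Hall `{p, q}`-subgroup
  set U : Subgroup G := ((π.erase p).erase q).inf C with hU
  have hUp : T p ≤ U := Finset.inf_mono (Finset.erase_subset _ _)
  have hUq : T q ≤ U := by
    rw [hU, Finset.erase_right_comm]
    exact Finset.inf_mono (Finset.erase_subset _ _)
  have hUidx : U.index * (q : ℕ) ^ N.factorization q = (T p).index := by
    rw [hU, hT, hidx _ ((Finset.erase_subset _ _).trans (Finset.erase_subset _ _)),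
      hidx _ (Finset.erase_subset _ _)]
    apply prod_erase_mul_pow
    by_cases hq : (q : ℕ) ∈ π
    · exact Or.inl (Finset.mem_erase.mpr ⟨hne.symm, hq⟩)
    · exact Or.inr (hnotmem q hq)
  have hUcard : Nat.card U = (p : ℕ) ^ N.factorization p * (q : ℕ) ^ N.factorization q := by
    have h1 := U.index_mul_card
    have h2 := hTidx p
    rw [← hUidx] at h2
    rw [← hNdef, ← h2] at h1
    have hpos : 0 < U.index := Nat.pos_of_ne_zero Subgroup.index_ne_zero_of_finite
    apply Nat.eq_of_mul_eq_mul_left hpos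
    rw [h1]; ring
  have hcop : (Nat.card ((T p).subgroupOf U)).Coprime (Nat.card ((T q).subgroupOf U)) := by
    rw [card_subgroupOf_of_le hUp, card_subgroupOf_of_le hUq, hTcard, hTcard]
    exact Nat.Coprime.pow _ _ ((Nat.coprime_primes p.2 q.2).mpr hne)
  have hcompl : Subgroup.IsComplement' ((T p).subgroupOf U) ((T q).subgroupOf U) := by
    apply Subgroup.isComplement'_of_coprime _ hcop
    rw [card_subgroupOf_of_le hUp, card_subgroupOf_of_le hUq, hTcard, hTcard, hUcard]
  have key : ∀ {A B : Subgroup G}, A ≤ U → B ≤ U →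
      Subgroup.IsComplement' (A.subgroupOf U) (B.subgroupOf U) → (A : Set G) * (B : Set G) = (U : Set G) := by
    intro A B hA hB hc
    ext x
    constructor
    · rintro ⟨a, ha, b, hb, rfl⟩
      exact U.mul_mem (hA ha) (hB hb)
    · intro hx
      obtain ⟨a, ha, b, hb, hab⟩ := (isComplement'_iff_disjoint_and_forall.mp hc).2 ⟨x, hx⟩
      refine ⟨a, Subgroup.mem_subgroupOf.mp ha, b, Subgroup.mem_subgroupOf.mp hb, ?_⟩
      have := congrArg Subtype.val hab
      simpa using this
  rw [key hUp hUq hcompl, key hUq hUp hcompl.symm]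

end Cfsg.Agent.S0020
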