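import Cfsg.Statements.S0021
import Cfsg.Agent.S0006

set_option autoImplicit false
open Pointwise

namespace Cfsg.Agent.S0021

open Pointwise

universe u

variable {G : Type u} [Group G]

/-- the Sylow subgroup of the system at `n` (trivial if `n` is not prime) -/
noncomputable def Sy (S : (p : Nat.Primes) → Sylow (p : ℕ) G) (n : ℕ) : Subgroup G := by
  classical
  exact if h : n.Prime then (S ⟨n, h⟩ : Subgroup G) else ⊥

theorem Sy_prime (S : (p : Nat.Primes) → Sylow (p : ℕ) G) {n : ℕ} (h : n.Prime) :
    Sy S n = (S ⟨n, h⟩ : Subgroup G) := by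
  unfold Sy; rw [dif_pos h]

theorem Sy_not_prime (S : (p : Nat.Primes) → Sylow (p : ℕ) G) {n : ℕ} (h : ¬ n.Prime) :
    Sy S n = ⊥ := by
  unfold Sy; rw [dif_neg h]

theorem bot_mul_comm (A : Subgroup G) :
    ((⊥ : Subgroup G) : Set G) * (A : Set G) = (A : Set G) * ((⊥ : Subgroup G) : Set G) := by
  rw [Subgroup.coe_bot, Set.singleton_mul, Set.mul_singleton]
  simp

theorem Sy_comm (S : (p : Nat.Primes) → Sylow (p : ℕ) G)
    (hS : ∀ p q : Nat.Primes, (S p : Set G) * (S q : Set G) = (S q : Set G) * (S p : Set G))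
    (m n : ℕ) : (Sy S m : Set G) * (Sy S n : Set G) = (Sy S n : Set G) * (Sy S m : Set G) := by
  by_cases hm : m.Prime
  · by_cases hn : n.Prime
    · rw [Sy_prime S hm, Sy_prime S hn]; exact hS _ _
    · rw [Sy_not_prime S hn]; exact (bot_mul_comm _).symm
  · rw [Sy_not_prime S hm]; exact bot_mul_comm _

theorem card_Sy [Finite G] (S : (p : Nat.Primes) → Sylow (p : ℕ) G) {n : ℕ} (h : n.Prime) :
    Nat.card (Sy S n) = n ^ (Nat.card G).factorization n := by
  rw [Sy_prime S h]
  have : Fact n.Prime := ⟨h⟩
  exact Sylow.card_eq_multiplicity (S ⟨n, h⟩)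

theorem join_spec [Finite G] (S : (p : Nat.Primes) → Sylow (p : ℕ) G)
    (hS : ∀ p q : Nat.Primes, (S p : Set G) * (S q : Set G) = (S q : Set G) * (S p : Set G))
    (s : Finset ℕ) (hs : ∀ q ∈ s, q.Prime) :
    Nat.card (s.sup (Sy S) : Subgroup G) = ∏ q ∈ s, q ^ (Nat.card G).factorization q ∧
      ∀ m : ℕ, (Sy S m : Set G) * ((s.sup (Sy S) : Subgroup G) : Set G)
        = ((s.sup (Sy S) : Subgroup G) : Set G) * (Sy S m : Set G) := by
  classical
  induction s using Finset.induction_on with
  | empty =>
    refine ⟨by simp, fun m => ?_⟩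
    rw [Finset.sup_empty]
    exact (bot_mul_comm _).symm
  | insert q s hq ih =>
    have hs' : ∀ q' ∈ s, q'.Prime := fun q' hq' => hs q' (Finset.mem_insert_of_mem hq')
    have hqp : q.Prime := hs q (Finset.mem_insert_self q s)
    obtain ⟨ih1, ih2⟩ := ih hs'
    rw [Finset.sup_insert]
    have hcomm := ih2 q
    have hcop : (Nat.card (Sy S q)).Coprime (Nat.card (s.sup (Sy S) : Subgroup G)) := by
      rw [card_Sy S hqp, ih1]
      apply Nat.Coprime.prod_right
      intro q' hq'
      apply Nat.Coprime.pow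
      exact (Nat.coprime_primes hqp (hs' q' hq')).2 (fun h => hq (h ▸ hq'))
    have hdisj : Sy S q ⊓ s.sup (Sy S) = ⊥ := (Subgroup.disjoint_of_coprime_natCard hcop).eq_bot
    refine ⟨?_, fun m => ?_⟩
    · rw [Cfsg.Agent.Helper79.card_sup_of_mul_comm_of_disjoint _ _ hcomm hdisj, card_Sy S hqp, ih1,
        Finset.prod_insert hq]
    · rw [Cfsg.Agent.Helper79.coe_sup_of_mul_comm _ _ hcomm, ← mul_assoc, Sy_comm S hS m q,
        mul_assoc, ih2 m, ← mul_assoc]

/-- If a finite group has a Sylow system, it has `p`-complements for all `p`. -/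
theorem exists_complement [Finite G] (S : (p : Nat.Primes) → Sylow (p : ℕ) G)
    (hS : ∀ p q : Nat.Primes, (S p : Set G) * (S q : Set G) = (S q : Set G) * (S p : Set G))
    (p : ℕ) :
    ∃ H : Subgroup G, H.index = p ^ (Nat.card G).factorization p := by
  classical
  have hcard0 : Nat.card G ≠ 0 := Nat.card_pos.ne'
  set s := (Nat.card G).primeFactors.erase p with hsdef
  have hs : ∀ q ∈ s, q.Prime := fun q hq => Nat.prime_of_mem_primeFactors (Finset.mem_of_mem_erase hq)
  obtain ⟨h1, -⟩ := join_spec S hS s hs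
  refine ⟨s.sup (Sy S), ?_⟩
  have h2 := Subgroup.card_mul_index (s.sup (Sy S) : Subgroup G)
  have h3 : (∏ q ∈ s, q ^ (Nat.card G).factorization q) * p ^ (Nat.card G).factorization p
      = Nat.card G := by
    have h4 := Nat.prod_factorization_pow_eq_self hcard0
    rw [Finsupp.prod, Nat.support_factorization] at h4
    by_cases hpm : p ∈ (Nat.card G).primeFactors
    · rw [hsdef, mul_comm, Finset.mul_prod_erase _ (fun q => q ^ (Nat.card G).factorization q) hpm]
      exact h4
    · rw [hsdef, Finset.erase_eq_of_notMem hpm]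
      have : (Nat.card G).factorization p = 0 := by
        rw [← Finsupp.notMem_support_iff, Nat.support_factorization]; exact hpm
      rw [this, pow_zero, mul_one]
      exact h4
  rw [h1] at h2
  have h5 := h2.trans h3.symm
  have hpos : 0 < ∏ q ∈ s, q ^ (Nat.card G).factorization q := by
    apply Finset.prod_pos
    intro q hq
    exact pow_pos (hs q hq).pos _
  exact Nat.eq_of_mul_eq_mul_left hpos h5

/-- A finite group with a family of pairwise permuting Sylow subgroups, one for each prime, is solvable (this direction rests on Burnside's two-prime Theorem). -/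
theorem result {G : Type*} [Group G] [Finite G]
    (S : (p : Nat.Primes) → Sylow (p : ℕ) G)
    (hS : ∀ p q : Nat.Primes, (S p : Set G) * (S q : Set G) = (S q : Set G) * (S p : Set G)) :
    Group.IsSolvable G :=
  Cfsg.Agent.S0006.result (fun p _ => exists_complement S hS p)

end Cfsg.Agent.S0021
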