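import Cfsg.Statements.S0022
import Mathlib
import Cfsg.Agent.Lib.Helper52.Coprime

set_option autoImplicit false
open Cfsg

namespace Cfsg.Agent.S0022

/-- Under coprime action fixed points pass to quotients: with A normalising K, coprime orders, A or K solvable, and N an A-invariant normal subgroup of K, every coset of N in K fixed by conjugation by A contains an element centralised by A. -/
theorem result {G : Type*} [Group G] [Finite G] (A K : Subgroup G) (hAK : A ≤ Subgroup.normalizer (K : Set G))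
    (hcop : (Nat.card A).Coprime (Nat.card K)) (hsolv : Group.IsSolvable A ∨ Group.IsSolvable K)
    (N : Subgroup G) (hNK : N ≤ K) (hNnormal : K ≤ Subgroup.normalizer (N : Set G)) (hNA : A ≤ Subgroup.normalizer (N : Set G))
    (k : G) (hk : k ∈ K) (hfix : ∀ a ∈ A, a * k * a⁻¹ * k⁻¹ ∈ N) :
    ∃ c ∈ K ⊓ Subgroup.centralizer (A : Set G), k⁻¹ * c ∈ N := by
  have hcomm : ∀ a ∈ A, k * a * k⁻¹ * a⁻¹ ∈ N := by
    intro a ha
    have h1 := hfix a⁻¹ (A.inv_mem ha)
    rw [inv_inv] at h1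
    have h2 := (Subgroup.mem_normalizer_iff.mp (hNA ha) _).mp h1
    have e : a * (a⁻¹ * k * a * k⁻¹) * a⁻¹ = k * a * k⁻¹ * a⁻¹ := by group
    rwa [e] at h2
  obtain ⟨n, hn, c, hc, hkc⟩ := Cfsg.Agent.Helper52.exists_mul_centralizer_of_comm_mem K N A hNK hAK hNA hcop
    (Cfsg.Agent.Helper52.solv_or_of_le hNK hsolv) k hk hcomm
  refine ⟨c, hc, ?_⟩
  have e : k⁻¹ * c = c⁻¹ * n⁻¹ * c := by rw [hkc]; group
  rw [e]
  have h3 := (Subgroup.mem_normalizer_iff.mp (hNnormal (K.inv_mem hc.1)) n⁻¹).mp (N.inv_mem hn)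
  rwa [inv_inv] at h3

end Cfsg.Agent.S0022
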