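import Cfsg.Statements.S0029
import Mathlib
import Cfsg.Agent.Lib.Helper1.Coprime

set_option autoImplicit false
open Pointwise
open Cfsg

namespace Cfsg.Agent.S0029

open Cfsg.Agent.Helper1

/-- An action that is trivial on the Frattini quotient and coprime on the Frattini subgroup is trivial: if A normalises K, the orders of A and of the Frattini subgroup of K are coprime, and every commutator of an element of A with an element of K lies in the Frattini subgroup of K, then A centralises K. -/
theorem result {G : Type*} [Group G] [Finite G] (A K : Subgroup G)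
    (hAK : A ≤ Subgroup.normalizer (K : Set G))
    (hcop : (Nat.card A).Coprime (Nat.card (frattini K)))
    (htriv : ∀ a ∈ A, ∀ k ∈ K, a * k * a⁻¹ * k⁻¹ ∈ (frattini K).map K.subtype) :
    A ≤ Subgroup.centralizer (K : Set G) := by
  set N : Subgroup G := (frattini K).map K.subtype with hN
  have hNK : N ≤ K := Subgroup.map_subtype_le _
  have hcardN : Nat.card N = Nat.card (frattini K) :=
    Subgroup.card_map_of_injective K.subtype_injective
  -- `A` normalises `N`
  have hAN : A ≤ Subgroup.normalizer (N : Set G) := by
    apply le_normalizer_of_conj_smul_le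
    intro a ha x hx
    rw [mem_conj_smul] at hx
    -- conjugation by `a⁻¹` is an automorphism of `K`
    have hmem : ∀ k : G, k ∈ K → a⁻¹ * k * a ∈ K := by
      intro k hk
      have := (Subgroup.mem_normalizer_iff.mp (hAK (A.inv_mem ha)) k).mp hk
      simpa using this
    have hmem' : ∀ k : G, k ∈ K → a * k * a⁻¹ ∈ K := by
      intro k hk
      exact (Subgroup.mem_normalizer_iff.mp (hAK ha) k).mp hk
    let φ : K ≃* K :=
      { toFun := fun k => ⟨a * k * a⁻¹, hmem' k k.2⟩
        invFun := fun k => ⟨a⁻¹ * k * a, hmem k k.2⟩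
        left_inv := fun k => Subtype.ext (by simp [mul_assoc])
        right_inv := fun k => Subtype.ext (by simp [mul_assoc])
        map_mul' := fun k l => Subtype.ext (by simp [mul_assoc]) }
    obtain ⟨y, hy, hyx⟩ := hx
    have hchar : (frattini K).map φ.toMonoidHom = frattini K :=
      (Subgroup.characteristic_iff_map_eq.mp inferInstance) φ
    have h1 : φ y ∈ frattini K := by
      rw [← hchar]; exact Subgroup.mem_map_of_mem _ hy
    refine ⟨φ y, h1, ?_⟩
    change a * (y : G) * a⁻¹ = x
    have : (y : G) = a⁻¹ * x * a := hyx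
    rw [this]; group
  have hsolvN : Group.IsSolvable N := by
    have h1 : Group.IsNilpotent (frattini K) := frattini_nilpotent
    have h2 : Group.IsSolvable (frattini K) := inferInstance
    exact isSolvable_map K.subtype (frattini K)
  have hcop' : (Nat.card A).Coprime (Nat.card N) := by rw [hcardN]; exact hcop
  -- every element of `K` is a fixed point times an element of the Frattini subgroup
  have key : ∀ k : K, ∃ c : K, (c : G) ∈ Subgroup.centralizer (A : Set G) ∧ c⁻¹ * k ∈ frattini K := by
    intro k
    obtain ⟨c, hc, hkc⟩ := exists_mem_centralizer_of_coset_fixed A N hAN hcop' (Or.inr hsolvN) (k : G)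
      (by
        intro a ha
        have h1 := htriv a ha (k : G)⁻¹ (K.inv_mem k.2)
        have h2 := N.inv_mem h1
        have e : (a * (k : G)⁻¹ * a⁻¹ * (k : G)⁻¹⁻¹)⁻¹ = (k : G)⁻¹ * a * k * a⁻¹ := by group
        rwa [e] at h2)
    have hcK : c ∈ K := by
      have : c = (k : G) * ((k : G)⁻¹ * c) := by group
      rw [this]; exact K.mul_mem k.2 (hNK hkc)
    refine ⟨⟨c, hcK⟩, hc, ?_⟩
    have h3 := N.inv_mem hkc
    obtain ⟨y, hy, hyx⟩ := h3
    have : y = (⟨c, hcK⟩ : K)⁻¹ * k := by
      apply Subtype.ext
      rw [Subgroup.subtype_apply] at hyx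
      rw [hyx]; simp
    rw [← this]; exact hy
  have htop : (Subgroup.centralizer (A : Set G)).subgroupOf K ⊔ frattini K = ⊤ := by
    rw [eq_top_iff]
    intro k _
    obtain ⟨c, hc, hck⟩ := key k
    have : k = c * (c⁻¹ * k) := by group
    rw [this]
    exact Subgroup.mul_mem_sup (Subgroup.mem_subgroupOf.mpr hc) hck
  have htop' := frattini_nongenerating htop
  rw [Subgroup.le_centralizer_iff]
  intro k hk
  have : (⟨k, hk⟩ : K) ∈ (Subgroup.centralizer (A : Set G)).subgroupOf K := by rw [htop']; trivial
  exact Subgroup.mem_subgroupOf.mp this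

end Cfsg.Agent.S0029
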