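import Cfsg.Statements.S0030
import Mathlib
import Cfsg.Agent.Lib.Helper52.Coprime

set_option autoImplicit false
open Cfsg

namespace Cfsg.Agent.S0030

/-- Under coprime action fixed points of a product of two invariant subgroups factor: if K = X Y with X and Y normalised by A then every A-fixed element of K is a product of an A-fixed element of X and an A-fixed element of Y. -/
theorem result {G : Type*} [Group G] [Finite G] (A K : Subgroup G) (hAK : A ≤ Subgroup.normalizer (K : Set G))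
    (hcop : (Nat.card A).Coprime (Nat.card K)) (hsolv : Group.IsSolvable A ∨ Group.IsSolvable K)
    (X Y : Subgroup G) (hX : X ≤ K) (hY : Y ≤ K) (hXA : A ≤ Subgroup.normalizer (X : Set G)) (hYA : A ≤ Subgroup.normalizer (Y : Set G))
    (hXY : ∀ k ∈ K, ∃ x ∈ X, ∃ y ∈ Y, k = x * y) (k : G) (hk : k ∈ K ⊓ Subgroup.centralizer (A : Set G)) :
    ∃ x ∈ X ⊓ Subgroup.centralizer (A : Set G), ∃ y ∈ Y ⊓ Subgroup.centralizer (A : Set G), k = x * y := by
  obtain ⟨x, hx, y, hy, hkxy⟩ := hXY k hk.1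
  have hkc : ∀ a ∈ A, a * k = k * a := fun a ha => (Subgroup.mem_centralizer_iff.mp hk.2) a ha
  -- D = X ⊓ Y is A-invariant
  have hDA : A ≤ Subgroup.normalizer ((X ⊓ Y : Subgroup G) : Set G) := by
    intro a ha
    rw [Subgroup.mem_normalizer_iff]
    intro g
    rw [Subgroup.mem_inf, Subgroup.mem_inf, ← Subgroup.mem_normalizer_iff.mp (hXA ha) g,
      ← Subgroup.mem_normalizer_iff.mp (hYA ha) g]
  have hcopX : (Nat.card A).Coprime (Nat.card X) :=
    Nat.Coprime.coprime_dvd_right (Subgroup.card_dvd_of_le hX) hcop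
  have hcomm : ∀ a ∈ A, x⁻¹ * a * x⁻¹⁻¹ * a⁻¹ ∈ X ⊓ Y := by
    intro a ha
    rw [inv_inv]
    have h1 : a * x * a⁻¹ ∈ X := (Subgroup.mem_normalizer_iff.mp (hXA ha) x).mp hx
    have h2 : a * y⁻¹ * a⁻¹ ∈ Y := (Subgroup.mem_normalizer_iff.mp (hYA ha) y⁻¹).mp (Y.inv_mem hy)
    have e : x⁻¹ * a * x * a⁻¹ = y * (a * y⁻¹ * a⁻¹) := by
      have h3 : a * (x * y) = (x * y) * a := by rw [← hkxy]; exact hkc a ha
      have h4 : a * x = x * y * a * y⁻¹ := by
        calc a * x = a * (x * y) * y⁻¹ := by group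
          _ = x * y * a * y⁻¹ := by rw [h3]
      calc x⁻¹ * a * x * a⁻¹ = x⁻¹ * (a * x) * a⁻¹ := by group
        _ = x⁻¹ * (x * y * a * y⁻¹) * a⁻¹ := by rw [h4]
        _ = y * (a * y⁻¹ * a⁻¹) := by group
    refine Subgroup.mem_inf.mpr ⟨?_, ?_⟩
    · have : x⁻¹ * a * x * a⁻¹ = x⁻¹ * (a * x * a⁻¹) := by group
      rw [this]; exact X.mul_mem (X.inv_mem hx) h1
    · rw [e]; exact Y.mul_mem hy h2
  obtain ⟨n, hn, c, hc, hxc⟩ := Cfsg.Agent.Helper52.exists_mul_centralizer_of_comm_mem X (X ⊓ Y) A inf_le_left hXA hDA hcopX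
    (Cfsg.Agent.Helper52.solv_or_of_le (inf_le_left.trans hX) hsolv) x⁻¹ (X.inv_mem hx) hcomm
  have hcinv : c⁻¹ ∈ X ⊓ Subgroup.centralizer (A : Set G) := Subgroup.inv_mem _ hc
  refine ⟨c⁻¹, hcinv, n⁻¹ * y, ?_, ?_⟩
  · refine Subgroup.mem_inf.mpr ⟨Y.mul_mem (Y.inv_mem (Subgroup.mem_inf.mp hn).2) hy, ?_⟩
    have e : n⁻¹ * y = c * k := by
      have hx' : x = c⁻¹ * n⁻¹ := by
        have := congrArg (·⁻¹) hxc
        simpa using this
      rw [hkxy, hx']; group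
    rw [e]
    exact Subgroup.mul_mem _ (Subgroup.mem_inf.mp hc).2 hk.2
  · have hx' : x = c⁻¹ * n⁻¹ := by
      have := congrArg (·⁻¹) hxc
      simpa using this
    rw [hkxy, hx']; group

end Cfsg.Agent.S0030
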