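import Cfsg.Statements.S0036
import Cfsg.Agent.Lib.Helper96.Frobenius

set_option autoImplicit false
open Cfsg

namespace Cfsg.Agent.S0036

open Cfsg.Agent.Helper96

variable {G : Type*} [Group G]

theorem conj_invol_sq {t : G} (ht2 : t * t = 1) (a : G) : (a * t * a⁻¹) * (a * t * a⁻¹) = 1 := by
  have : (a * t * a⁻¹) * (a * t * a⁻¹) = a * (t * t) * a⁻¹ := by group
  rw [this, ht2]; group

theorem conj_invol_inv {t : G} (ht2 : t * t = 1) (a : G) : (a * t * a⁻¹)⁻¹ = a * t * a⁻¹ :=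
  inv_eq_of_mul_eq_one_left (conj_invol_sq ht2 a)

/-- Lemma A'. -/
theorem invol_mul_mem {H : Subgroup G} (hH : Cfsg.IsFrobeniusComplement H) {t : G} (ht : t ∈ H)
    (ht1 : t ≠ 1) (ht2 : t * t = 1) (a b : G) (hab : a⁻¹ * b ∉ H) :
    (a * t * a⁻¹) * (b * t * b⁻¹) ∈ Cfsg.frobeniusKernel H := by
  by_contra hw
  rw [not_mem_frobeniusKernel_iff] at hw
  obtain ⟨hw1, g, hg⟩ := hw
  obtain ⟨x', hx'⟩ : ∃ x', x' = g⁻¹ * (a * t * a⁻¹) * g := ⟨_, rfl⟩
  obtain ⟨y', hy'⟩ : ∃ y', y' = g⁻¹ * (b * t * b⁻¹) * g := ⟨_, rfl⟩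
  have hu : g⁻¹ * ((a * t * a⁻¹) * (b * t * b⁻¹)) * g = x' * y' := by rw [hx', hy']; group
  have hu1 : x' * y' ≠ 1 := by
    rw [← hu]
    intro h
    apply hw1
    have e : (a * t * a⁻¹) * (b * t * b⁻¹) = g * (g⁻¹ * ((a * t * a⁻¹) * (b * t * b⁻¹)) * g) * g⁻¹ := by group
    rw [e, h]; group
  rw [hu] at hg
  have hx2 : x' * x' = 1 := by
    have : x' * x' = g⁻¹ * ((a * t * a⁻¹) * (a * t * a⁻¹)) * g := by rw [hx']; group
    rw [this, conj_invol_sq ht2]; group
  have hy2 : y' * y' = 1 := by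
    have : y' * y' = g⁻¹ * ((b * t * b⁻¹) * (b * t * b⁻¹)) * g := by rw [hy']; group
    rw [this, conj_invol_sq ht2]; group
  have hxi : x'⁻¹ = x' := inv_eq_of_mul_eq_one_left hx2
  have hyi : y'⁻¹ = y' := inv_eq_of_mul_eq_one_left hy2
  -- x' u x'⁻¹ = u⁻¹
  have hxH : x' ∈ H := by
    apply frob_mem_of_conj_mem' hH hg hu1
    have : x' * (x' * y') * x'⁻¹ = (x' * y')⁻¹ := by
      rw [mul_inv_rev, hxi, hyi, ← mul_assoc, hx2, one_mul]
    rw [this]; exact H.inv_mem hg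
  have hyH : y' ∈ H := by
    apply frob_mem_of_conj_mem hH hg hu1
    have : y'⁻¹ * (x' * y') * y' = (x' * y')⁻¹ := by
      rw [mul_inv_rev, hxi, hyi, mul_assoc, mul_assoc, hy2, mul_one]
    rw [this]; exact H.inv_mem hg
  have haH : g⁻¹ * a ∈ H := by
    apply frob_mem_of_conj_mem' hH ht ht1
    have : (g⁻¹ * a) * t * (g⁻¹ * a)⁻¹ = x' := by rw [hx']; group
    rw [this]; exact hxH
  have hbH : g⁻¹ * b ∈ H := by
    apply frob_mem_of_conj_mem' hH ht ht1
    have : (g⁻¹ * b) * t * (g⁻¹ * b)⁻¹ = y' := by rw [hy']; group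
    rw [this]; exact hyH
  apply hab
  have : a⁻¹ * b = (g⁻¹ * a)⁻¹ * (g⁻¹ * b) := by group
  rw [this]
  exact H.mul_mem (H.inv_mem haH) hbH

theorem conj_invol_ne {H : Subgroup G} (hH : Cfsg.IsFrobeniusComplement H) {t : G} (ht : t ∈ H)
    (ht1 : t ≠ 1) (a b : G) (hab : a⁻¹ * b ∉ H) : a * t * a⁻¹ ≠ b * t * b⁻¹ := by
  intro h
  apply hab
  apply frob_mem_of_conj_mem' hH ht ht1
  have : (a⁻¹ * b) * t * (a⁻¹ * b)⁻¹ = a⁻¹ * (b * t * b⁻¹) * a := by group
  rw [this, ← h]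
  have : a⁻¹ * (a * t * a⁻¹) * a = t := by group
  rw [this]; exact ht

/-- The conjugate of `t` attached to a coset. -/
noncomputable def T (H : Subgroup G) (t : G) (c : G ⧸ H) : G := c.out * t * (c.out)⁻¹

theorem out_inv_mul_out_not_mem (H : Subgroup G) {c c' : G ⧸ H} (h : c ≠ c') : (c.out)⁻¹ * c'.out ∉ H := by
  intro hm
  apply h
  have e1 : ((c.out : G) : G ⧸ H) = c := QuotientGroup.out_eq' c
  have e2 : ((c'.out : G) : G ⧸ H) = c' := QuotientGroup.out_eq' c'
  rw [← e1, ← e2]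
  exact QuotientGroup.eq.mpr hm

theorem T_injective {H : Subgroup G} (hH : Cfsg.IsFrobeniusComplement H) {t : G} (ht : t ∈ H)
    (ht1 : t ≠ 1) : Function.Injective (T H t) := by
  intro c c' h
  by_contra hne
  exact conj_invol_ne hH ht ht1 _ _ (out_inv_mul_out_not_mem H hne) h

theorem T_mul_T_mem {H : Subgroup G} (hH : Cfsg.IsFrobeniusComplement H) {t : G} (ht : t ∈ H)
    (ht1 : t ≠ 1) (ht2 : t * t = 1) (c c' : G ⧸ H) : T H t c * T H t c' ∈ Cfsg.frobeniusKernel H := by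
  by_cases h : c = c'
  · subst h
    unfold T
    rw [conj_invol_sq ht2]
    exact Or.inl rfl
  · exact invol_mul_mem hH ht ht1 ht2 _ _ (out_inv_mul_out_not_mem H h)

/-- When a Frobenius complement contains an involution, an elementary argument shows the Frobenius kernel is closed under multiplication (hence a subgroup). -/
theorem result {G : Type*} [Group G] [Finite G] (H : Subgroup G) (hH : Cfsg.IsFrobeniusComplement H)
    (t : G) (ht : t ∈ H) (ht1 : t ≠ 1) (ht2 : t * t = 1) :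
    ∀ x ∈ Cfsg.frobeniusKernel H, ∀ y ∈ Cfsg.frobeniusKernel H, x * y ∈ Cfsg.frobeniusKernel H := by
  classical
  have hcard : Nat.card (G ⧸ H) = Nat.card (Cfsg.frobeniusKernel H) := by
    rw [card_frobeniusKernel hH, Subgroup.index_eq_card]
  let c₀ : G ⧸ H := ((1 : G) : G ⧸ H)
  -- left map and right map
  let L : G ⧸ H → Cfsg.frobeniusKernel H := fun c' => ⟨T H t c₀ * T H t c', T_mul_T_mem hH ht ht1 ht2 c₀ c'⟩
  let R : G ⧸ H → Cfsg.frobeniusKernel H := fun c' => ⟨T H t c' * T H t c₀, T_mul_T_mem hH ht ht1 ht2 c' c₀⟩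
  have hL : Function.Injective L := by
    intro c c' h
    have : T H t c₀ * T H t c = T H t c₀ * T H t c' := congrArg Subtype.val h
    exact T_injective hH ht ht1 (mul_left_cancel this)
  have hR : Function.Injective R := by
    intro c c' h
    have : T H t c * T H t c₀ = T H t c' * T H t c₀ := congrArg Subtype.val h
    exact T_injective hH ht ht1 (mul_right_cancel this)
  have hLs : Function.Surjective L :=
    ((Nat.bijective_iff_injective_and_card L).mpr ⟨hL, hcard⟩).2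
  have hRs : Function.Surjective R :=
    ((Nat.bijective_iff_injective_and_card R).mpr ⟨hR, hcard⟩).2
  intro x hx y hy
  obtain ⟨c, hc⟩ := hRs ⟨x, hx⟩
  obtain ⟨c', hc'⟩ := hLs ⟨y, hy⟩
  have hxe : x = T H t c * T H t c₀ := (congrArg Subtype.val hc).symm
  have hye : y = T H t c₀ * T H t c' := (congrArg Subtype.val hc').symm
  have : x * y = T H t c * T H t c' := by
    rw [hxe, hye]
    have h0 : T H t c₀ * T H t c₀ = 1 := by unfold T; exact conj_invol_sq ht2 _
    calc T H t c * T H t c₀ * (T H t c₀ * T H t c') = T H t c * (T H t c₀ * T H t c₀) * T H t c' := by group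
      _ = T H t c * T H t c' := by rw [h0, mul_one]
  rw [this]
  exact T_mul_T_mem hH ht ht1 ht2 c c'

end Cfsg.Agent.S0036
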