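import Cfsg.Statements.S0047
import Mathlib

set_option autoImplicit false
open Cfsg
open scoped commutatorElement

namespace Cfsg.Agent.S0047

lemma comm_right_absorb {G : Type*} [Group G] (a b₂ a₂ : G) (h : a * a₂ = a₂ * a) :
    ⁅a, b₂ * a₂⁆ = ⁅a, b₂⁆ := by
  rw [commutatorElement_def, commutatorElement_def]
  have h' : a₂ * a⁻¹ * a₂⁻¹ = a⁻¹ := by
    calc a₂ * a⁻¹ * a₂⁻¹ = a⁻¹ * (a * a₂) * a⁻¹ * a₂⁻¹ := by group
      _ = a⁻¹ * (a₂ * a) * a⁻¹ * a₂⁻¹ := by rw [h]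
      _ = a⁻¹ := by group
  calc a * (b₂ * a₂) * a⁻¹ * (b₂ * a₂)⁻¹ = a * b₂ * (a₂ * a⁻¹ * a₂⁻¹) * b₂⁻¹ := by group
    _ = a * b₂ * a⁻¹ * b₂⁻¹ := by rw [h']

lemma comm_left_absorb {G : Type*} [Group G] (a₃ b₃ b₂ : G) (h : b₃ * b₂ = b₂ * b₃) :
    ⁅a₃ * b₃, b₂⁆ = ⁅a₃, b₂⁆ := by
  rw [commutatorElement_def, commutatorElement_def]
  have h' : b₃ * b₂ * b₃⁻¹ = b₂ := by
    rw [h]; group
  calc a₃ * b₃ * b₂ * (a₃ * b₃)⁻¹ * b₂⁻¹ = a₃ * (b₃ * b₂ * b₃⁻¹) * a₃⁻¹ * b₂⁻¹ := by group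
    _ = a₃ * b₂ * a₃⁻¹ * b₂⁻¹ := by rw [h']

/-- A finite group which is the product AB of two abelian subgroups A and B is solvable. -/
theorem result {G : Type*} [Group G] [Finite G] (A B : Subgroup G)
    [IsMulCommutative A] [IsMulCommutative B] (hAB : ∀ g : G, ∃ a ∈ A, ∃ b ∈ B, g = a * b) :
    Group.IsSolvable G := by
  have hAcomm : ∀ x ∈ A, ∀ y ∈ A, x * y = y * x := by
    intro x hx y hy
    exact congrArg Subtype.val (mul_comm' (⟨x, hx⟩ : A) ⟨y, hy⟩)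
  have hBcomm : ∀ x ∈ B, ∀ y ∈ B, x * y = y * x := by
    intro x hx y hy
    exact congrArg Subtype.val (mul_comm' (⟨x, hx⟩ : B) ⟨y, hy⟩)
  have hBA : ∀ g : G, ∃ b ∈ B, ∃ a ∈ A, g = b * a := by
    intro g
    obtain ⟨a, ha, b, hb, h⟩ := hAB g⁻¹
    refine ⟨b⁻¹, B.inv_mem hb, a⁻¹, A.inv_mem ha, ?_⟩
    rw [← mul_inv_rev, ← h, inv_inv]
  set C : Subgroup G := ⁅A, B⁆ with hC
  -- key: conjugating [a,b] by a₁ b₁ and by b₁ a₁ gives the same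
  have key : ∀ a ∈ A, ∀ b ∈ B, ∀ a₁ ∈ A, ∀ b₁ ∈ B,
      (a₁ * b₁) * ⁅a, b⁆ * (a₁ * b₁)⁻¹ = (b₁ * a₁) * ⁅a, b⁆ * (b₁ * a₁)⁻¹ := by
    intro a ha b hb a₁ ha₁ b₁ hb₁
    obtain ⟨b₂, hb₂, a₂, ha₂, e₁⟩ := hBA (a₁ * b * a₁⁻¹)
    obtain ⟨a₃, ha₃, b₃, hb₃, e₂⟩ := hAB (b₁ * a * b₁⁻¹)
    -- conjugation by a₁ fixes elements of A, by b₁ fixes elements of B
    have fixA : ∀ x ∈ A, a₁ * x * a₁⁻¹ = x := by
      intro x hx; rw [hAcomm a₁ ha₁ x hx]; group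
    have fixB : ∀ x ∈ B, b₁ * x * b₁⁻¹ = x := by
      intro x hx; rw [hBcomm b₁ hb₁ x hx]; group
    have s1 : ∀ x ∈ A, a₁ * ⁅x, b⁆ * a₁⁻¹ = ⁅x, b₂⁆ := by
      intro x hx
      rw [conjugate_commutatorElement, fixA x hx, e₁]
      exact comm_right_absorb x b₂ a₂ (hAcomm x hx a₂ ha₂)
    have s2 : ∀ y ∈ B, b₁ * ⁅a, y⁆ * b₁⁻¹ = ⁅a₃, y⁆ := by
      intro y hy
      rw [conjugate_commutatorElement, fixB y hy, e₂]
      exact comm_left_absorb a₃ b₃ y (hBcomm b₃ hb₃ y hy)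
    calc (a₁ * b₁) * ⁅a, b⁆ * (a₁ * b₁)⁻¹ = a₁ * (b₁ * ⁅a, b⁆ * b₁⁻¹) * a₁⁻¹ := by group
      _ = a₁ * ⁅a₃, b⁆ * a₁⁻¹ := by rw [s2 b hb]
      _ = ⁅a₃, b₂⁆ := s1 a₃ ha₃
      _ = b₁ * ⁅a, b₂⁆ * b₁⁻¹ := (s2 b₂ hb₂).symm
      _ = b₁ * (a₁ * ⁅a, b⁆ * a₁⁻¹) * b₁⁻¹ := by rw [s1 a ha]
      _ = (b₁ * a₁) * ⁅a, b⁆ * (b₁ * a₁)⁻¹ := by group
  -- commutators commute
  have hcc : ∀ a ∈ A, ∀ b ∈ B, ∀ a' ∈ A, ∀ b' ∈ B, ⁅a', b'⁆ * ⁅a, b⁆ = ⁅a, b⁆ * ⁅a', b'⁆ := by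
    intro a ha b hb a' ha' b' hb'
    have := key a ha b hb a'⁻¹ (A.inv_mem ha') b'⁻¹ (B.inv_mem hb')
    have e : ⁅a', b'⁆ = (b'⁻¹ * a'⁻¹)⁻¹ * (a'⁻¹ * b'⁻¹) := by
      rw [commutatorElement_def]; group
    rw [e]
    calc (b'⁻¹ * a'⁻¹)⁻¹ * (a'⁻¹ * b'⁻¹) * ⁅a, b⁆
        = (b'⁻¹ * a'⁻¹)⁻¹ * ((a'⁻¹ * b'⁻¹) * ⁅a, b⁆ * (a'⁻¹ * b'⁻¹)⁻¹) * (a'⁻¹ * b'⁻¹) := by group
      _ = (b'⁻¹ * a'⁻¹)⁻¹ * ((b'⁻¹ * a'⁻¹) * ⁅a, b⁆ * (b'⁻¹ * a'⁻¹)⁻¹) * (a'⁻¹ * b'⁻¹) := by rw [this]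
      _ = ⁅a, b⁆ * ((b'⁻¹ * a'⁻¹)⁻¹ * (a'⁻¹ * b'⁻¹)) := by group
  have hCcomm : ∀ x y : C, x * y = y * x := by
    have h1 : C ≤ Subgroup.centralizer (C : Set G) := by
      rw [hC, Subgroup.commutator_le]
      intro a ha b hb
      rw [Subgroup.mem_centralizer_iff]
      intro c hc
      have h2 : ⁅A, B⁆ ≤ Subgroup.centralizer ({⁅a, b⁆} : Set G) := by
        rw [Subgroup.commutator_le]
        intro a' ha' b' hb'
        rw [Subgroup.mem_centralizer_singleton_iff]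
        exact hcc a ha b hb a' ha' b' hb'
      have := h2 hc
      rw [Subgroup.mem_centralizer_singleton_iff] at this
      exact this
    intro x y
    apply Subtype.ext
    have := Subgroup.mem_centralizer_iff.mp (h1 x.2) y y.2
    simpa using this.symm
  -- C is normal
  have hconjA : ∀ x ∈ A, ∀ n ∈ C, x * n * x⁻¹ ∈ C := by
    intro x hx
    have : C ≤ C.comap (MulAut.conj x).toMonoidHom := by
      rw [hC, Subgroup.commutator_le]
      intro a ha b hb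
      rw [Subgroup.mem_comap]
      show x * ⁅a, b⁆ * x⁻¹ ∈ ⁅A, B⁆
      have e : x * ⁅a, b⁆ * x⁻¹ = ⁅x * a, b⁆ * ⁅x, b⁆⁻¹ := by
        simp only [commutatorElement_def]; group
      rw [e]
      exact Subgroup.mul_mem _ (Subgroup.commutator_mem_commutator (A.mul_mem hx ha) hb)
        (Subgroup.inv_mem _ (Subgroup.commutator_mem_commutator hx hb))
    intro n hn
    exact this hn
  have hconjB : ∀ y ∈ B, ∀ n ∈ C, y * n * y⁻¹ ∈ C := by
    intro y hy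
    have : C ≤ C.comap (MulAut.conj y).toMonoidHom := by
      rw [hC, Subgroup.commutator_le]
      intro a ha b hb
      rw [Subgroup.mem_comap]
      show y * ⁅a, b⁆ * y⁻¹ ∈ ⁅A, B⁆
      have e : y * ⁅a, b⁆ * y⁻¹ = ⁅a, y⁆⁻¹ * ⁅a, y * b⁆ := by
        simp only [commutatorElement_def]; group
      rw [e]
      exact Subgroup.mul_mem _ (Subgroup.inv_mem _ (Subgroup.commutator_mem_commutator ha hy))
        (Subgroup.commutator_mem_commutator ha (B.mul_mem hy hb))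
    intro n hn
    exact this hn
  have hCnormal : C.Normal := by
    constructor
    intro n hn g
    obtain ⟨a, ha, b, hb, rfl⟩ := hAB g
    have := hconjA a ha _ (hconjB b hb n hn)
    have e : a * b * n * (a * b)⁻¹ = a * (b * n * b⁻¹) * a⁻¹ := by group
    rw [e]; exact this
  -- quotient is commutative
  have hquot : ∀ x y : G ⧸ C, x * y = y * x := by
    have hab : ∀ a ∈ A, ∀ b ∈ B, Commute (QuotientGroup.mk a : G ⧸ C) (QuotientGroup.mk b) := by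
      intro a ha b hb
      show (QuotientGroup.mk a : G ⧸ C) * QuotientGroup.mk b = QuotientGroup.mk b * QuotientGroup.mk a
      rw [← QuotientGroup.mk_mul, ← QuotientGroup.mk_mul, QuotientGroup.eq]
      have : (a * b)⁻¹ * (b * a) = ⁅b⁻¹, a⁻¹⁆ := by
        rw [commutatorElement_def]; group
      rw [this, ← commutatorElement_inv]
      exact Subgroup.inv_mem _ (Subgroup.commutator_mem_commutator (A.inv_mem ha) (B.inv_mem hb))
    have haa : ∀ a ∈ A, ∀ a' ∈ A, Commute (QuotientGroup.mk a : G ⧸ C) (QuotientGroup.mk a') := by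
      intro a ha a' ha'
      show (QuotientGroup.mk a : G ⧸ C) * QuotientGroup.mk a' = QuotientGroup.mk a' * QuotientGroup.mk a
      rw [← QuotientGroup.mk_mul, ← QuotientGroup.mk_mul, hAcomm a ha a' ha']
    have hbb : ∀ b ∈ B, ∀ b' ∈ B, Commute (QuotientGroup.mk b : G ⧸ C) (QuotientGroup.mk b') := by
      intro b hb b' hb'
      show (QuotientGroup.mk b : G ⧸ C) * QuotientGroup.mk b' = QuotientGroup.mk b' * QuotientGroup.mk b
      rw [← QuotientGroup.mk_mul, ← QuotientGroup.mk_mul, hBcomm b hb b' hb']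
    intro x y
    induction x using QuotientGroup.induction_on with
    | H g =>
      induction y using QuotientGroup.induction_on with
      | H h =>
        obtain ⟨a, ha, b, hb, rfl⟩ := hAB g
        obtain ⟨a', ha', b', hb', rfl⟩ := hAB h
        rw [QuotientGroup.mk_mul, QuotientGroup.mk_mul]
        have c1 : Commute (QuotientGroup.mk a * QuotientGroup.mk b : G ⧸ C) (QuotientGroup.mk a') :=
          Commute.mul_left (haa a ha a' ha') (hab a' ha' b hb).symm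
        have c2 : Commute (QuotientGroup.mk a * QuotientGroup.mk b : G ⧸ C) (QuotientGroup.mk b') :=
          Commute.mul_left (hab a ha b' hb') (hbb b hb b' hb')
        exact (Commute.mul_right c1 c2).eq
  have : Group.IsSolvable C := Group.isSolvable_of_comm hCcomm
  have : Group.IsSolvable (G ⧸ C) := Group.isSolvable_of_comm hquot
  refine Group.isSolvable_of_ker_le_range C.subtype (QuotientGroup.mk' C) ?_
  rw [QuotientGroup.ker_mk', Subgroup.range_subtype]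

end Cfsg.Agent.S0047
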