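import Cfsg.Statements.S0048
import Mathlib
import Cfsg.Agent.Lib.Helper1.Solv

set_option autoImplicit false
open Cfsg

namespace Cfsg.Agent.S0048

universe u

theorem main : ∀ (n : ℕ) (G : Type u) [Group G] [Finite G] [Group.IsSolvable G], Nat.card G = n →
    ∀ (M : Subgroup G), IsCoatom M → IsPrimePow M.index := by
  intro n
  induction n using Nat.strong_induction_on with
  | _ n ih =>
  intro G _ _ _ hn M hM
  have hnt : Nontrivial G := by
    by_contra h
    rw [not_nontrivial_iff_subsingleton] at h
    exact hM.1 (Subsingleton.elim _ _)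
  obtain ⟨p, hp, A, hAn, hAbot, -, hAp⟩ := Cfsg.Agent.Helper1.exists_normal_elementary_of_solvable G
  have hpF : Fact p.Prime := ⟨hp⟩
  have hApg : IsPGroup p A := Cfsg.Agent.Helper1.isPGroup_of_forall_pow_eq_one A hAp
  obtain ⟨k, hk⟩ := IsPGroup.iff_card.mp hApg
  by_cases hAM : A ≤ M
  · -- pass to the quotient
    set M' : Subgroup (G ⧸ A) := M.map (QuotientGroup.mk' A) with hM'
    have hcomap : M'.comap (QuotientGroup.mk' A) = M := by
      rw [hM', Subgroup.comap_map_eq_self]
      rw [QuotientGroup.ker_mk']; exact hAM
    have hsurj : Function.Surjective (QuotientGroup.mk' A) := QuotientGroup.mk'_surjective A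
    have hcoatom : IsCoatom M' := by
      constructor
      · intro htop
        apply hM.1
        rw [← hcomap, htop, Subgroup.comap_top]
      · intro K' hK'
        have h1 : M ≤ K'.comap (QuotientGroup.mk' A) := by
          rw [← hcomap]; exact Subgroup.comap_mono hK'.le
        have h2 : M ≠ K'.comap (QuotientGroup.mk' A) := by
          intro h
          apply hK'.ne
          rw [hM', h, Subgroup.map_comap_eq_self_of_surjective hsurj]
        have h3 := hM.2 _ (lt_of_le_of_ne h1 h2)
        rw [← Subgroup.map_comap_eq_self_of_surjective hsurj K', h3, Subgroup.map_top_of_surjective _ hsurj]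
    have hidx : M.index = M'.index := by
      rw [← hcomap, Subgroup.index_comap_of_surjective _ hsurj]
    have hcardlt : Nat.card (G ⧸ A) < n := by
      have h1 := Subgroup.card_eq_card_quotient_mul_card_subgroup A
      have h2 : 1 < Nat.card A := by
        have : Nontrivial A := (Subgroup.nontrivial_iff_ne_bot A).mpr hAbot
        exact Finite.one_lt_card
      have h3 : 0 < Nat.card (G ⧸ A) := Nat.card_pos
      rw [← hn, h1]
      nlinarith
    rw [hidx]
    exact ih _ hcardlt (G ⧸ A) rfl M' hcoatom
  · have hsup : M ⊔ A = ⊤ := by
      apply hM.2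
      apply lt_of_le_of_ne le_sup_left
      intro h
      apply hAM
      rw [h]; exact le_sup_right
    have h1 : A.index = A.relIndex M := by
      have := Subgroup.relIndex_sup_right M A
      rw [hsup, Subgroup.relIndex_top_right] at this
      exact this
    have h2 : Nat.card A * A.index = Nat.card G := A.card_mul_index
    have h3 : Nat.card M * M.index = Nat.card G := M.card_mul_index
    have h4 : Nat.card (A.subgroupOf M) * A.relIndex M = Nat.card M := (A.subgroupOf M).card_mul_index
    have hr : 0 < A.index := Nat.pos_of_ne_zero (Subgroup.index_ne_zero_of_finite)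
    have h5 : Nat.card A = Nat.card (A.subgroupOf M) * M.index := by
      apply Nat.eq_of_mul_eq_mul_right hr
      rw [h2, ← h3, ← h4, ← h1]; ring
    have hdvd : M.index ∣ p ^ k := by
      rw [← hk, h5]; exact dvd_mul_left _ _
    obtain ⟨j, -, hj⟩ := (Nat.dvd_prime_pow hp).mp hdvd
    rw [hj]
    apply IsPrimePow.pow hp.isPrimePow
    intro hj0
    rw [hj0, pow_zero] at hj
    exact hM.1 (Subgroup.index_eq_one.mp hj)

/-- In a finite solvable group every maximal subgroup has index a prime power. -/
theorem result {G : Type*} [Group G] [Finite G] [Group.IsSolvable G]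
    (M : Subgroup G) (hM : IsCoatom M) : IsPrimePow M.index :=
  main _ G rfl M hM

end Cfsg.Agent.S0048
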