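import Cfsg.Statements.S0049
import Mathlib

set_option autoImplicit false
open Cfsg

namespace Cfsg.Agent.S0049

open Subgroup

/-- A prime divisor of the order of a finite group also divides the index of the Frattini subgroup. -/
theorem result {G : Type*} [Group G] [Finite G] (p : ℕ) (hp : p.Prime) (hdvd : p ∣ Nat.card G) :
    p ∣ (frattini G).index := by
  by_contra hnd
  haveI : Fact p.Prime := ⟨hp⟩
  obtain ⟨P⟩ : Nonempty (Sylow p (frattini G)) := inferInstance
  have frattini_argument := Sylow.normalizer_sup_eq_top P
  have normalizer_P := frattini_nongenerating frattini_argument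
  set Q : Subgroup G := map (frattini G).subtype P with hQ
  have hQn : Q.Normal := normalizer_eq_top_iff.mp normalizer_P
  have hQle : Q ≤ frattini G := map_subtype_le _
  -- index of Q
  have hidx : Q.index = (P : Subgroup (frattini G)).index * (frattini G).index := by
    rw [hQ, Subgroup.index_map_subtype]
  have hQcard : Nat.card Q = Nat.card (P : Subgroup (frattini G)) := by
    rw [hQ]
    exact Nat.card_congr ((P : Subgroup (frattini G)).equivMapOfInjective _ (Subgroup.subtype_injective _)).symm.toEquiv
  have hPidx : ¬ p ∣ (P : Subgroup (frattini G)).index := P.not_dvd_index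
  have hQidx : ¬ p ∣ Q.index := by
    rw [hidx]
    intro h
    rcases (Nat.Prime.dvd_mul hp).mp h with h | h
    · exact hPidx h
    · exact hnd h
  have hQp : IsPGroup p Q := by
    rw [hQ]
    exact P.isPGroup'.map _
  obtain ⟨n, hn⟩ := IsPGroup.iff_card.mp hQp
  have hcop : Nat.Coprime (Nat.card Q) Q.index := by
    rw [hn]
    exact Nat.Coprime.pow_left n ((Nat.Prime.coprime_iff_not_dvd hp).mpr hQidx)
  obtain ⟨K, hK⟩ := Subgroup.exists_right_complement'_of_coprime hcop
  have hsup : K ⊔ frattini G = ⊤ := by
    have := hK.sup_eq_top
    rw [eq_top_iff, ← this]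
    exact sup_le (le_sup_of_le_right hQle) le_sup_left
  have hKtop : K = ⊤ := frattini_nongenerating hsup
  have hcard := hK.card_mul_card
  rw [hKtop, Subgroup.card_top] at hcard
  have hQ1 : Nat.card Q = 1 := by
    have hpos : 0 < Nat.card G := Nat.card_pos
    have : Nat.card Q * Nat.card G = 1 * Nat.card G := by rw [hcard, one_mul]
    exact Nat.eq_of_mul_eq_mul_right hpos this
  -- hence index of Q is card G, divisible by p
  have : Q.index = Nat.card G := by
    have := Subgroup.card_mul_index Q
    rw [hQ1, one_mul] at this
    exact this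
  rw [this] at hQidx
  exact hQidx hdvd

end Cfsg.Agent.S0049
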