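import Cfsg.Statements.S0050
import Mathlib
import Cfsg.Agent.Lib.Helper1.Hall

set_option autoImplicit false
open Pointwise
open Cfsg

namespace Cfsg.Agent.S0050

open Cfsg.Agent.Helper1

/-- Frattini argument for Hall subgroups: if L is a solvable normal subgroup and H a subgroup of L of order coprime to its index in L, then L together with the normaliser of H generates the whole group. -/
theorem result {G : Type*} [Group G] [Finite G] (L : Subgroup G) [L.Normal] (hL : Group.IsSolvable L)
    (H : Subgroup G) (hHL : H ≤ L) (hHall : (Nat.card H).Coprime (H.relIndex L)) :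
    L ⊔ Subgroup.normalizer (H : Set G) = ⊤ := by
  rw [eq_top_iff]
  intro g _
  have hgL : MulAut.conj g • H ≤ L := by
    intro x hx
    rw [mem_conj_smul] at hx
    have h1 : g⁻¹ * x * g ∈ L := hHL hx
    have h2 := Subgroup.Normal.conj_mem (inferInstance : L.Normal) _ h1 g
    have h3 : g * (g⁻¹ * x * g) * g⁻¹ = x := by group
    rwa [h3] at h2
  have hcard : Nat.card L = Nat.card H * H.relIndex L := by
    rw [← card_subgroupOf_of_le hHL]
    exact ((H.subgroupOf L).card_mul_index).symm
  obtain ⟨l, hl⟩ := hall_conj (G := L) (Nat.card H) (H.relIndex L) hcard hHall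
    (H.subgroupOf L) ((MulAut.conj g • H).subgroupOf L) (card_subgroupOf_of_le hHL)
    (by rw [card_subgroupOf_of_le hgL, card_conj_smul])
  have h1 := congrArg (Subgroup.map L.subtype) hl
  rw [conj_smul_map_subtype, Subgroup.map_subgroupOf_eq_of_le hHL,
    Subgroup.map_subgroupOf_eq_of_le hgL] at h1
  have h2 : MulAut.conj ((l : G)⁻¹ * g) • H = H := by
    rw [← conj_smul_conj_smul, ← h1, conj_smul_conj_smul, inv_mul_cancel, map_one, one_smul]
  have h3 : (l : G)⁻¹ * g ∈ Subgroup.normalizer (H : Set G) := by
    rw [Subgroup.mem_normalizer_iff'']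
    intro x
    rw [← mem_conj_smul, h2]
  have h4 : g = (l : G) * ((l : G)⁻¹ * g) := by group
  rw [h4]
  exact Subgroup.mul_mem_sup l.2 h3

end Cfsg.Agent.S0050
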