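import Cfsg.Statements.S0052
import Mathlib
import Cfsg.Agent.Lib.Helper1.Gaschutz

set_option autoImplicit false
open Pointwise
open Cfsg

namespace Cfsg.Agent.S0052

open Cfsg.Agent.Helper1

/-- Gaschütz's Theorem, conjugacy: for an abelian normal subgroup K ≤ U with the order of K coprime to the index of U, two complements of K in G having the same intersection with U are conjugate. -/
theorem result {G : Type*} [Group G] [Finite G] (K U : Subgroup G) [K.Normal] [IsMulCommutative K]
    (hKU : K ≤ U) (hcop : (Nat.card K).Coprime U.index)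
    (H₀ H₁ : Subgroup G) (h₀ : Subgroup.IsComplement' K H₀) (h₁ : Subgroup.IsComplement' K H₁) (hU : H₀ ⊓ U = H₁ ⊓ U) :
    ∃ g : G, MulAut.conj g • H₀ = H₁ := by
  have hU' : U = K ⊔ (H₀ ⊓ U) := by
    apply le_antisymm
    · intro u hu
      obtain ⟨k, hk, h, hh, hkh⟩ := (isComplement'_iff_disjoint_and_forall.mp h₀).2 u
      have hhU : h ∈ U := by
        have : h = k⁻¹ * u := by rw [← hkh]; group
        rw [this]; exact U.mul_mem (U.inv_mem (hKU hk)) hu
      rw [← hkh]
      exact Subgroup.mul_mem_sup hk ⟨hh, hhU⟩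
    · exact sup_le hKU inf_le_right
  obtain ⟨k, -, hk⟩ := Gaschutz.gaschutz_conj hU' hcop H₁ H₀ h₁ h₀ (hU ▸ inf_le_left) inf_le_left
  exact ⟨k, hk⟩

end Cfsg.Agent.S0052
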