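import Cfsg.Statements.S0054
import Mathlib

set_option autoImplicit false
open Cfsg

namespace Cfsg.Agent.S0054

/-- A regular normal subgroup of a finite 2-transitive group is elementary abelian: it is commutative and all its elements have order dividing one prime. -/
theorem result {G : Type*} [Group G] [Finite G]
    {X : Type*} [Nonempty X] [MulAction G X] (h2 : MulAction.IsMultiplyPretransitive G X 2)
    (N : Subgroup G) [N.Normal] (htrans : MulAction.IsPretransitive N X) (hreg : ∀ x : X, MulAction.stabilizer N x = ⊥) :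
    IsMulCommutative N ∧ ∃ p : ℕ, p.Prime ∧ ∀ n ∈ N, n ^ p = 1 := by
  obtain ⟨x₀⟩ := ‹Nonempty X›
  have hN : N.Normal := inferInstance
  have h2' : ∀ a b c d : X, a ≠ b → c ≠ d → ∃ g : G, g • a = c ∧ g • b = d :=
    fun a b c d hab hcd => MulAction.is_two_pretransitive_iff.mp h2 hab hcd
  -- elements of N fixing x₀ are trivial
  have hfix : ∀ n ∈ N, n • x₀ = x₀ → n = 1 := by
    intro n hn h
    have : (⟨n, hn⟩ : N) ∈ MulAction.stabilizer N x₀ := by
      rw [MulAction.mem_stabilizer_iff]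
      exact h
    rw [hreg x₀, Subgroup.mem_bot] at this
    exact congrArg Subtype.val this
  -- any two nonidentity elements of N are conjugate in G
  have hconj : ∀ n₁ ∈ N, ∀ n₂ ∈ N, n₁ ≠ 1 → n₂ ≠ 1 → ∃ g : G, g * n₁ * g⁻¹ = n₂ := by
    intro n₁ hn₁ n₂ hn₂ h1 h2
    have hx1 : x₀ ≠ n₁ • x₀ := fun h => h1 (hfix n₁ hn₁ h.symm)
    have hx2 : x₀ ≠ n₂ • x₀ := fun h => h2 (hfix n₂ hn₂ h.symm)
    obtain ⟨g, hg0, hg1⟩ := h2' _ _ _ _ hx1 hx2
    refine ⟨g, ?_⟩
    have hmem : n₂⁻¹ * (g * n₁ * g⁻¹) ∈ N := N.mul_mem (N.inv_mem hn₂) (hN.conj_mem n₁ hn₁ g)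
    have hg0' : g⁻¹ • x₀ = x₀ := by
      rw [inv_smul_eq_iff, hg0]
    have hfx : (n₂⁻¹ * (g * n₁ * g⁻¹)) • x₀ = x₀ := by
      rw [mul_smul, mul_smul, mul_smul, hg0', hg1, inv_smul_smul]
    have := hfix _ hmem hfx
    calc g * n₁ * g⁻¹ = n₂ * (n₂⁻¹ * (g * n₁ * g⁻¹)) := by group
      _ = n₂ := by rw [this, mul_one]
  by_cases hbot : N = ⊥
  · subst hbot
    refine ⟨?_, 2, Nat.prime_two, ?_⟩
    · apply IsMulCommutative.of_comm
      intro a b
      have ha : a = 1 := Subsingleton.elim _ _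
      have hb : b = 1 := Subsingleton.elim _ _
      rw [ha, hb]
    · intro n hn
      rw [Subgroup.mem_bot] at hn
      rw [hn, one_pow]
  · have hnt : Nontrivial N := (Subgroup.nontrivial_iff_ne_bot N).mpr hbot
    have hcard : 1 < Nat.card N := Finite.one_lt_card
    obtain ⟨p, hp, hpd⟩ := Nat.exists_prime_and_dvd (by omega : Nat.card N ≠ 1)
    have hpF : Fact p.Prime := ⟨hp⟩
    obtain ⟨w, hw⟩ := exists_prime_orderOf_dvd_card' p hpd
    have hwo : orderOf (w : G) = p := by rw [Subgroup.orderOf_coe, hw]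
    have hw1 : (w : G) ≠ 1 := by
      intro h
      rw [h, orderOf_one] at hwo
      exact hp.one_lt.ne hwo
    have hpow : ∀ n ∈ N, n ^ p = 1 := by
      intro n hn
      by_cases hn1 : n = 1
      · rw [hn1, one_pow]
      · obtain ⟨g, hg⟩ := hconj w w.2 n hn hw1 hn1
        rw [← hg, conj_pow, ← hwo, pow_orderOf_eq_one]; group
    refine ⟨?_, p, hp, hpow⟩
    -- N is a p-group with nontrivial centre
    have hpg : IsPGroup p N := by
      intro n
      refine ⟨1, ?_⟩
      apply Subtype.ext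
      rw [pow_one, Subgroup.coe_pow, hpow n n.2]; rfl
    have hcnt : Nontrivial (Subgroup.center N) := hpg.center_nontrivial
    obtain ⟨z, hz1⟩ := exists_ne (1 : Subgroup.center N)
    have hzG1 : ((z : N) : G) ≠ 1 := by
      intro h
      apply hz1
      apply Subtype.ext
      apply Subtype.ext
      exact h
    have hzc : ∀ m ∈ N, m * ((z : N) : G) = ((z : N) : G) * m := by
      intro m hm
      have := Subgroup.mem_center_iff.mp z.2 ⟨m, hm⟩
      exact congrArg Subtype.val this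
    apply IsMulCommutative.of_comm
    intro a b
    by_cases ha1 : (a : G) = 1
    · have : a = 1 := Subtype.ext ha1
      rw [this, one_mul, mul_one]
    · obtain ⟨g, hg⟩ := hconj _ (z : N).2 _ a.2 hzG1 ha1
      apply Subtype.ext
      rw [Subgroup.coe_mul, Subgroup.coe_mul, ← hg]
      have hb' : g⁻¹ * (b : G) * g ∈ N := by
        have := hN.conj_mem b b.2 g⁻¹
        simpa using this
      have := hzc _ hb'
      calc g * ((z : N) : G) * g⁻¹ * (b : G) = g * (((z : N) : G) * (g⁻¹ * (b : G) * g)) * g⁻¹ := by group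
        _ = g * ((g⁻¹ * (b : G) * g) * ((z : N) : G)) * g⁻¹ := by rw [this]
        _ = (b : G) * (g * ((z : N) : G) * g⁻¹) := by group

end Cfsg.Agent.S0054
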