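import Cfsg.Statements.S0055
import Mathlib

set_option autoImplicit false
open Cfsg
open scoped IsMulCommutative commutatorElement

namespace Cfsg.Agent.S0055

attribute [local instance] Fintype.ofFinite

section
variable {G : Type*} [Group G] (A V : Subgroup G) (hAV : A ≤ Subgroup.normalizer (V : Set G))

/-- conjugation action of `A` on `V` -/
def act (a : A) : V →* V where
  toFun v := ⟨a * v * a⁻¹, ((Subgroup.mem_normalizer_iff.mp (hAV a.2)) v).mp v.2⟩
  map_one' := by apply Subtype.ext; simp
  map_mul' x y := by apply Subtype.ext; simp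

lemma act_val (a : A) (v : V) : ((act A V hAV a v : V) : G) = a * v * a⁻¹ := rfl

lemma act_mul (a b : A) (v : V) : act A V hAV a (act A V hAV b v) = act A V hAV (a * b) v := by
  apply Subtype.ext
  simp only [act_val, Subgroup.coe_mul, mul_inv_rev]
  group

end

section
variable {G : Type*} [Group G] [Finite G] (A V : Subgroup G) [IsMulCommutative V]
  (hAV : A ≤ Subgroup.normalizer (V : Set G))

/-- the averaging (norm) map -/
noncomputable def theta : V →* V :=
  ∏ a : A, act A V hAV a

lemma theta_apply (v : V) :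
    theta A V hAV v = ∏ a : A, act A V hAV a v := by
  simp [theta, MonoidHom.finsetProd_apply]

lemma theta_act (b : A) (v : V) : theta A V hAV (act A V hAV b v) = theta A V hAV v := by
  rw [theta_apply, theta_apply]
  simp only [act_mul]
  exact Fintype.prod_equiv (Equiv.mulRight b) _ _ (fun a => rfl)

lemma theta_fixed (v : V) (hv : ∀ a : A, act A V hAV a v = v) :
    theta A V hAV v = v ^ Nat.card A := by
  rw [theta_apply]
  simp only [hv, Finset.prod_const, Finset.card_univ, Nat.card_eq_fintype_card]

lemma act_theta (b : A) (v : V) : act A V hAV b (theta A V hAV v) = theta A V hAV v := by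
  rw [theta_apply, map_prod]
  simp only [act_mul]
  exact Fintype.prod_equiv (Equiv.mulLeft b) _ _ (fun a => rfl)

lemma pow_card_eq (v : V) :
    v ^ Nat.card A = theta A V hAV v * ∏ a : A, (v * (act A V hAV a v)⁻¹) := by
  rw [theta_apply, ← Finset.prod_mul_distrib]
  have : ∀ a : A, act A V hAV a v * (v * (act A V hAV a v)⁻¹) = v := by
    intro a
    rw [mul_comm v, mul_inv_cancel_left]
  simp only [this, Finset.prod_const, Finset.card_univ, Nat.card_eq_fintype_card]

end

/-- If A normalises an abelian subgroup V of coprime order, then V is the internal direct product of its A-fixed points and its commutator with A: the two meet trivially and generate V. -/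
theorem result {G : Type*} [Group G] [Finite G] (A V : Subgroup G) [IsMulCommutative V]
    (hAV : A ≤ Subgroup.normalizer (V : Set G)) (hcop : (Nat.card A).Coprime (Nat.card V)) :
    (V ⊓ Subgroup.centralizer (A : Set G)) ⊓ ⁅V, A⁆ = ⊥ ∧ (V ⊓ Subgroup.centralizer (A : Set G)) ⊔ ⁅V, A⁆ = V := by
  -- ⁅V, A⁆ ≤ V
  have hcomm_mem : ∀ v : V, ∀ a : A, ⁅(v : G), (a : G)⁆ = ((v * (act A V hAV a v)⁻¹ : V) : G) := by
    intro v a
    rw [commutatorElement_def]
    simp only [Subgroup.coe_mul, Subgroup.coe_inv, act_val]
    group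
  have hcomV : ⁅V, A⁆ ≤ V := by
    rw [Subgroup.commutator_le]
    intro v hv a ha
    rw [hcomm_mem ⟨v, hv⟩ ⟨a, ha⟩]
    exact Subtype.coe_prop _
  -- theta kills ⁅V, A⁆
  have hker : ⁅V, A⁆ ≤ (theta A V hAV).ker.map V.subtype := by
    rw [Subgroup.commutator_le]
    intro v hv a ha
    rw [hcomm_mem ⟨v, hv⟩ ⟨a, ha⟩]
    refine ⟨(⟨v, hv⟩ : V) * (act A V hAV ⟨a, ha⟩ ⟨v, hv⟩)⁻¹, ?_, rfl⟩
    rw [SetLike.mem_coe, MonoidHom.mem_ker, map_mul, map_inv, theta_act, mul_inv_cancel]
  -- fixed points
  have hfix : ∀ v : V, (v : G) ∈ Subgroup.centralizer (A : Set G) → ∀ a : A, act A V hAV a v = v := by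
    intro v hv a
    apply Subtype.ext
    rw [act_val]
    have := (Subgroup.mem_centralizer_iff.mp hv) a a.2
    rw [this, Subgroup.coe_inv, mul_assoc, mul_inv_cancel, mul_one]
  have hfix' : ∀ v : V, (∀ a : A, act A V hAV a v = v) → (v : G) ∈ Subgroup.centralizer (A : Set G) := by
    intro v hv
    rw [Subgroup.mem_centralizer_iff]
    intro a ha
    have := congrArg Subtype.val (hv ⟨a, ha⟩)
    rw [act_val] at this
    change a * (v : G) * a⁻¹ = v at this
    calc a * (v : G) = a * v * a⁻¹ * a := by group
      _ = v * a := by rw [this]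
  constructor
  · rw [eq_bot_iff]
    rintro x ⟨⟨hxV, hxC⟩, hxcomm⟩
    rw [Subgroup.mem_bot]
    obtain ⟨x', hx'ker, hx'⟩ := hker hxcomm
    have hx'eq : x' = ⟨x, hxV⟩ := Subtype.ext hx'
    subst hx'eq
    rw [SetLike.mem_coe, MonoidHom.mem_ker, theta_fixed A V hAV _ (hfix _ hxC)] at hx'ker
    have h1 : orderOf (⟨x, hxV⟩ : V) ∣ Nat.card A := orderOf_dvd_of_pow_eq_one hx'ker
    have h2 : orderOf (⟨x, hxV⟩ : V) ∣ Nat.card V := orderOf_dvd_natCard _
    have h3 : orderOf (⟨x, hxV⟩ : V) = 1 := Nat.eq_one_of_dvd_coprimes hcop h1 h2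
    rw [orderOf_eq_one_iff] at h3
    exact congrArg Subtype.val h3
  · apply le_antisymm
    · exact sup_le inf_le_left hcomV
    · intro v hv
      set W := (V ⊓ Subgroup.centralizer (A : Set G)) ⊔ ⁅V, A⁆ with hW
      -- v ^ n ∈ W
      have hpow : v ^ Nat.card A ∈ W := by
        have h1 := pow_card_eq A V hAV ⟨v, hv⟩
        have h2 := congrArg Subtype.val h1
        simp only [Subgroup.coe_pow, Subgroup.coe_mul] at h2
        rw [h2]
        apply Subgroup.mul_mem
        · apply Subgroup.mem_sup_left
          refine ⟨Subtype.coe_prop _, ?_⟩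
          apply hfix'
          intro a
          exact act_theta A V hAV a _
        · apply Subgroup.mem_sup_right
          have : ∀ s : Finset A, ((∏ a ∈ s, ((⟨v, hv⟩ : V) * (act A V hAV a ⟨v, hv⟩)⁻¹) : V) : G) ∈ ⁅V, A⁆ := by
            intro s
            classical
            induction s using Finset.induction_on with
            | empty => simp
            | insert a s has ih =>
              rw [Finset.prod_insert has, Subgroup.coe_mul]
              refine Subgroup.mul_mem _ ?_ ih
              rw [← hcomm_mem ⟨v, hv⟩ a]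
              exact Subgroup.commutator_mem_commutator hv a.2
          exact this Finset.univ
      -- v is a power of v ^ n
      have hcop' : (Nat.card A).Coprime (orderOf v) :=
        Nat.Coprime.coprime_dvd_right (by
          have : orderOf (⟨v, hv⟩ : V) ∣ Nat.card V := orderOf_dvd_natCard _
          rwa [Subgroup.orderOf_mk] at this) hcop
      have hz : v ∈ Subgroup.zpowers (v ^ Nat.card A) := by
        have hle : Subgroup.zpowers (v ^ Nat.card A) ≤ Subgroup.zpowers v :=
          Subgroup.zpowers_le.mpr (Subgroup.pow_mem _ (Subgroup.mem_zpowers v) _)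
        have hcard : Nat.card (Subgroup.zpowers v) ≤ Nat.card (Subgroup.zpowers (v ^ Nat.card A)) := by
          rw [Nat.card_zpowers, Nat.card_zpowers, Nat.Coprime.orderOf_pow hcop'.symm]
        rw [Subgroup.eq_of_le_of_card_ge hle hcard]
        exact Subgroup.mem_zpowers v
      exact (Subgroup.zpowers_le.mpr hpow) hz

end Cfsg.Agent.S0055
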