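import Cfsg.Statements.S0057
import Mathlib
import Cfsg.Agent.Lib.Helper90.CoprimeIndex

set_option autoImplicit false
open Cfsg

namespace Cfsg.Agent.S0057

open Subgroup in
/-- Under coprime action, if the centraliser of A in K has prime index p in K then the commutator subgroup [K, A] has order exactly p. -/
theorem result {G : Type*} [Group G] [Finite G] (A K : Subgroup G) (hAK : A ≤ Subgroup.normalizer (K : Set G))
    (hcop : (Nat.card A).Coprime (Nat.card K)) (hsolv : Group.IsSolvable A ∨ Group.IsSolvable K)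
    (p : ℕ) (hp : p.Prime) (hidx : (K ⊓ Subgroup.centralizer (A : Set G)).relIndex K = p) :
    Nat.card (⁅K, A⁆ : Subgroup G) = p := by
  have : Fact p.Prime := ⟨hp⟩
  obtain ⟨P, hPK, hPcard, hAP⟩ :=
    Cfsg.Agent.Helper52.exists_invariant_sylow A K hAK hcop hsolv p
  have hCK : K ⊓ centralizer (A : Set G) ≤ K := inf_le_left
  have hcardC : Nat.card (K ⊓ centralizer (A : Set G) : Subgroup G) * p = Nat.card K := by
    rw [← hidx]; exact Cfsg.Agent.Helper52.card_mul_relIndex_eq hCK
  have hPpg : IsPGroup p P := IsPGroup.of_card hPcard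
  have hPC : ¬ P ≤ K ⊓ centralizer (A : Set G) := by
    intro hle
    have h1 : Nat.card P ∣ Nat.card (K ⊓ centralizer (A : Set G) : Subgroup G) :=
      card_dvd_of_le hle
    have h2 : Nat.card P * p ∣ Nat.card K := hcardC ▸ Nat.mul_dvd_mul_right h1 p
    rw [hPcard, Cfsg.Agent.Helper52.sylCard, ← pow_succ] at h2
    exact Nat.pow_succ_factorization_not_dvd (Nat.card_pos.ne') hp h2
  have hrel : (K ⊓ centralizer (A : Set G)).relIndex P = p := by
    have hle : (K ⊓ centralizer (A : Set G)).relIndex P ≤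
        (K ⊓ centralizer (A : Set G)).relIndex K :=
      relIndex_le_of_le_right hPK (by rw [hidx]; exact hp.ne_zero)
    have hdvd : (K ⊓ centralizer (A : Set G)).relIndex P ∣ Nat.card P := relIndex_dvd_card _ _
    rw [hPcard, Cfsg.Agent.Helper52.sylCard] at hdvd
    obtain ⟨j, -, hjeq⟩ := (Nat.dvd_prime_pow hp).mp hdvd
    rw [hidx, hjeq] at hle
    rcases j with _ | _ | j
    · rw [pow_zero] at hjeq
      exact absurd (relIndex_eq_one.mp hjeq) hPC
    · rw [hjeq]; simp
    · exfalso
      have : p ^ 1 < p ^ (j + 1 + 1) := Nat.pow_lt_pow_right hp.one_lt (by omega)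
      rw [pow_one] at this
      omega
  have hfac := Cfsg.Agent.Helper90.forall_mul_of_relIndex_eq (K ⊓ centralizer (A : Set G)) P K hPK
    (hrel.trans hidx.symm)
  have hcomm : ⁅K, A⁆ = ⁅P, A⁆ := by
    apply le_antisymm
    · rw [commutator_le]
      intro k hk a ha
      obtain ⟨x, hx, c, hc, rfl⟩ := hfac k hk
      have hca : a * c = c * a := (mem_centralizer_iff.mp hc.2) a ha
      rw [commutatorElement_def]
      have : x * c * a * (x * c)⁻¹ * a⁻¹ = x * a * x⁻¹ * a⁻¹ := by
        calc x * c * a * (x * c)⁻¹ * a⁻¹ = x * (c * a) * c⁻¹ * x⁻¹ * a⁻¹ := by group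
          _ = x * (a * c) * c⁻¹ * x⁻¹ * a⁻¹ := by rw [hca]
          _ = x * a * x⁻¹ * a⁻¹ := by group
      rw [this, ← commutatorElement_def]
      exact commutator_mem_commutator hx ha
    · exact commutator_mono hPK le_rfl
  rw [hcomm]
  apply Cfsg.Agent.Helper90.card_commutator_eq_prime_of_pGroup p P A hPpg hAP
    (Nat.Coprime.coprime_dvd_right (card_dvd_of_le hPK) hcop)
  rw [← hrel, ← inf_relIndex_right (H := K ⊓ centralizer (A : Set G)) (K := P)]
  congr 1
  rw [inf_right_comm, inf_of_le_right hPK]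

end Cfsg.Agent.S0057
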