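import Cfsg.Statements.S0059
import Mathlib
import Cfsg.Agent.Lib.Helper1.SZ

set_option autoImplicit false
open Pointwise
open Cfsg

namespace Cfsg.Agent.S0059

open Cfsg.Agent.Helper1

theorem isComplement'_subgroupOf_of_le_right {G : Type*} [Group G] {X Y L : Subgroup G}
    (h : Subgroup.IsComplement' X Y) (hYL : Y ≤ L) :
    Subgroup.IsComplement' (X.subgroupOf L) (Y.subgroupOf L) := by
  rw [isComplement'_iff_disjoint_and_forall] at h ⊢
  refine ⟨disjoint_subgroupOf L h.1, fun l => ?_⟩
  obtain ⟨x, hx, y, hy, hxy⟩ := h.2 l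
  have hxL : x ∈ L := by
    have : x = l * y⁻¹ := by rw [← hxy]; group
    rw [this]
    exact L.mul_mem l.2 (L.inv_mem (hYL hy))
  exact ⟨⟨x, hxL⟩, Subgroup.mem_subgroupOf.mpr hx, ⟨y, hYL hy⟩, Subgroup.mem_subgroupOf.mpr hy,
    Subtype.ext hxy⟩

theorem isSolvable_of_isComplement' {G : Type*} [Group G] {K X : Subgroup G} [K.Normal]
    (h : Subgroup.IsComplement' K X) (hs : Group.IsSolvable (G ⧸ K)) : Group.IsSolvable X := by
  have φ : G ⧸ K ≃* X := h.symm.QuotientMulEquiv
  exact Group.isSolvable_of_surjective (f := φ.toMonoidHom) φ.surjective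

theorem part1 {G : Type*} [Group G] [Finite G] {X : Type*} [MulAction G X]
    (K H : Subgroup G) [K.Normal] (hc : Subgroup.IsComplement' K H) (hcop : (Nat.card K).Coprime K.index)
    (hsolv : Group.IsSolvable K ∨ Group.IsSolvable (G ⧸ K)) (htrans : MulAction.IsPretransitive K X)
    (x0 : X) : ∃ x : X, ∀ h ∈ H, h • x = x := by
  set S : Subgroup G := MulAction.stabilizer G x0 with hS
  have hsup : S ⊔ K = ⊤ := by
    rw [eq_top_iff]
    intro g _
    obtain ⟨k, hk⟩ := MulAction.exists_smul_eq K x0 (g • x0)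
    have h1 : (k : G)⁻¹ * g ∈ S := by
      rw [hS, MulAction.mem_stabilizer_iff, mul_smul, ← hk]
      exact inv_smul_smul (k : G) x0
    have h2 : g = ((k : G)⁻¹ * g) * (g⁻¹ * (k : G) * g) := by group
    rw [h2]
    refine Subgroup.mul_mem_sup h1 ?_
    have := Subgroup.Normal.conj_mem (inferInstance : K.Normal) (k : G) k.2 g⁻¹
    simpa using this
  have hidx : (K.subgroupOf S).index = K.index := by
    have := Subgroup.relIndex_sup_right (H := S) (K := K)
    rw [hsup, Subgroup.relIndex_top_right] at this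
    exact this.symm
  have hcopS : (Nat.card (K.subgroupOf S)).Coprime (K.subgroupOf S).index := by
    rw [hidx]
    exact Nat.Coprime.coprime_dvd_left (card_subgroupOf_dvd K S) hcop
  obtain ⟨H1', hH1'⟩ := Subgroup.exists_right_complement'_of_coprime hcopS
  set H1 : Subgroup G := H1'.map S.subtype with hH1
  have hH1S : H1 ≤ S := Subgroup.map_subtype_le _
  have hcardH1 : Nat.card H1 = K.index := by
    rw [hH1, Subgroup.card_map_of_injective S.subtype_injective, ← hH1'.symm.index_eq_card, hidx]
  have hcompl : Subgroup.IsComplement' K H1 := by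
    apply Subgroup.isComplement'_of_coprime
    · rw [hcardH1]; exact K.card_mul_index
    · rw [hcardH1]; exact hcop
  have hcopH1 : (Nat.card K).Coprime (Nat.card H1) := by rw [hcardH1]; exact hcop
  have hsolv' : Group.IsSolvable K ∨ Group.IsSolvable H1 := by
    rcases hsolv with h | h
    · exact Or.inl h
    · exact Or.inr (isSolvable_of_isComplement' hcompl h)
  obtain ⟨g, hg⟩ := sz_conj K H1 H hcopH1 hsolv' hcompl hc
  refine ⟨g • x0, fun h hh => ?_⟩
  rw [← hg, mem_conj_smul] at hh
  have h1 : (g⁻¹ * h * g) • x0 = x0 := hH1S hh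
  calc h • g • x0 = (g * (g⁻¹ * h * g)) • x0 := by rw [← mul_smul]; congr 1; group
    _ = g • x0 := by rw [mul_smul, h1]

theorem part2 {G : Type*} [Group G] [Finite G] {X : Type*} [MulAction G X]
    (K H : Subgroup G) [K.Normal] (hc : Subgroup.IsComplement' K H) (hcop : (Nat.card K).Coprime K.index)
    (hsolv : Group.IsSolvable K ∨ Group.IsSolvable (G ⧸ K)) (htrans : MulAction.IsPretransitive K X)
    (x y : X) (hx : ∀ h ∈ H, h • x = x) (hy : ∀ h ∈ H, h • y = y) :
    ∃ k ∈ K ⊓ Subgroup.centralizer (H : Set G), k • x = y := by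
  obtain ⟨k, hk⟩ := MulAction.exists_smul_eq K x y
  have hk' : (k : G) • x = y := hk
  set S : Subgroup G := MulAction.stabilizer G x with hS
  have hHS : H ≤ S := fun h hh => hx h hh
  set H' : Subgroup G := MulAut.conj (k : G)⁻¹ • H with hH'
  have hH'S : H' ≤ S := by
    intro z hz
    rw [hH', mem_conj_smul, inv_inv] at hz
    have h1 := hy _ hz
    rw [hS, MulAction.mem_stabilizer_iff]
    rw [← hk', ← mul_smul] at h1
    have e : (k : G) * z * (k : G)⁻¹ * (k : G) = (k : G) * z := by group
    rw [e, mul_smul] at h1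
    exact smul_left_cancel _ h1
  have hc' : Subgroup.IsComplement' K H' := isComplement'_conj_smul hc _
  have hcS := isComplement'_subgroupOf_of_le_right hc hHS
  have hcS' := isComplement'_subgroupOf_of_le_right hc' hH'S
  have hcardH : Nat.card H = K.index := hc.symm.index_eq_card.symm
  have hcardH' : Nat.card H' = K.index := by rw [hH', card_conj_smul, hcardH]
  have hcopS : (Nat.card (K.subgroupOf S)).Coprime (Nat.card (H'.subgroupOf S)) := by
    rw [card_subgroupOf_of_le hH'S, hcardH']
    exact Nat.Coprime.coprime_dvd_left (card_subgroupOf_dvd K S) hcop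
  have hsolvS : Group.IsSolvable (K.subgroupOf S) ∨ Group.IsSolvable (H'.subgroupOf S) := by
    rcases hsolv with h | h
    · exact Or.inl (isSolvable_subgroupOf K S)
    · have := isSolvable_of_isComplement' hc' h
      exact Or.inr (isSolvable_subgroupOf H' S)
  obtain ⟨s, hs⟩ := sz_conj (K.subgroupOf S) (H'.subgroupOf S) (H.subgroupOf S) hcopS hsolvS hcS' hcS
  have hs' : MulAut.conj (s : G) • H' = H := by
    have := congrArg (Subgroup.map S.subtype) hs
    rwa [conj_smul_map_subtype, Subgroup.map_subgroupOf_eq_of_le hH'S,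
      Subgroup.map_subgroupOf_eq_of_le hHS] at this
  -- decompose `s = h * k'`
  obtain ⟨h0, hh0, k0, hk0, hs0⟩ := (isComplement'_iff_disjoint_and_forall.mp hc.symm).2 (s : G)
  have hk0S : k0 ∈ S := by
    have : k0 = h0⁻¹ * (s : G) := by rw [← hs0]; group
    rw [this]
    exact S.mul_mem (S.inv_mem (hHS hh0)) s.2
  have hconj : MulAut.conj (k0 * (k : G)⁻¹) • H = H := by
    have h1 : MulAut.conj (h0 * k0) • H' = H := by rw [hs0]; exact hs'
    rw [← conj_smul_conj_smul] at h1
    have h2 : MulAut.conj k0 • H' = MulAut.conj h0⁻¹ • H := by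
      have := congrArg (fun Z => MulAut.conj h0⁻¹ • Z) h1
      rw [conj_smul_conj_smul h0⁻¹ h0, inv_mul_cancel, map_one, one_smul] at this
      exact this
    rw [Subgroup.conj_smul_eq_self_of_mem (H.inv_mem hh0), hH', conj_smul_conj_smul] at h2
    exact h2
  set c : G := (k : G) * k0⁻¹ with hcdef
  have hcK : c ∈ K := K.mul_mem k.2 (K.inv_mem hk0)
  have hcinv : c⁻¹ = k0 * (k : G)⁻¹ := by rw [hcdef]; group
  have hcH : ∀ h ∈ H, c * h * c⁻¹ ∈ H := by
    have hconj' : MulAut.conj c⁻¹ • H = H := by rw [hcinv]; exact hconj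
    intro h hh
    have : h ∈ MulAut.conj c⁻¹ • H := by rw [hconj']; exact hh
    rw [mem_conj_smul, inv_inv] at this
    exact this
  refine ⟨c, Subgroup.mem_inf.mpr ⟨hcK, ?_⟩, ?_⟩
  · rw [Subgroup.mem_centralizer_iff]
    intro h hh
    have h1 : c * h * c⁻¹ * h⁻¹ ∈ H := H.mul_mem (hcH h hh) (H.inv_mem hh)
    have h2 : c * h * c⁻¹ * h⁻¹ ∈ K := by
      have : c * h * c⁻¹ * h⁻¹ = c * (h * c⁻¹ * h⁻¹) := by group
      rw [this]
      exact K.mul_mem hcK (Subgroup.Normal.conj_mem inferInstance _ (K.inv_mem hcK) h)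
    have h3 := (Subgroup.disjoint_def.mp hc.disjoint) h2 h1
    have : c * h = h * c := by
      have e : c * h = (c * h * c⁻¹ * h⁻¹) * (h * c) := by group
      rw [e, h3, one_mul]
    exact this.symm
  · have : k0⁻¹ • x = x := by
      have : k0⁻¹ ∈ S := S.inv_mem hk0S
      exact this
    rw [hcdef, mul_smul, this, hk']

/-- Let a finite group act on a set on which a normal subgroup K of coprime order and index is transitive, with K or the quotient solvable. Then any complement H of K has a fixed point, and any two H-fixed points are interchanged by an element of K centralising H. -/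
theorem result {G : Type*} [Group G] [Finite G] {X : Type*} [Nonempty X] [MulAction G X]
    (K H : Subgroup G) [K.Normal] (hc : Subgroup.IsComplement' K H) (hcop : (Nat.card K).Coprime K.index)
    (hsolv : Group.IsSolvable K ∨ Group.IsSolvable (G ⧸ K)) (htrans : MulAction.IsPretransitive K X) :
    (∃ x : X, ∀ h ∈ H, h • x = x) ∧
    ∀ x y : X, (∀ h ∈ H, h • x = x) → (∀ h ∈ H, h • y = y) → ∃ k ∈ K ⊓ Subgroup.centralizer (H : Set G), k • x = y := by
  obtain ⟨x0⟩ := ‹Nonempty X›
  exact ⟨part1 K H hc hcop hsolv htrans x0, fun x y hx hy => part2 K H hc hcop hsolv htrans x y hx hy⟩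

end Cfsg.Agent.S0059
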