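import Cfsg.Statements.S0060
import Mathlib

set_option autoImplicit false
open Pointwise
open Cfsg

namespace Cfsg.Agent.S0060

lemma mem_conj_smul {G : Type*} [Group G] (g x : G) (H : Subgroup G) :
    x ∈ MulAut.conj g • H ↔ g⁻¹ * x * g ∈ H := by
  rw [Subgroup.mem_pointwise_smul_iff_inv_smul_mem, MulAut.smul_def, ← map_inv, MulAut.conj_apply, inv_inv]

lemma conj_smul_smul {G : Type*} [Group G] (g h : G) (H : Subgroup G) :
    MulAut.conj g • MulAut.conj h • H = MulAut.conj (g * h) • H := by
  rw [smul_smul, ← map_mul]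

lemma card_conj_smul {G : Type*} [Group G] (g : G) (H : Subgroup G) :
    Nat.card (MulAut.conj g • H : Subgroup G) = Nat.card H :=
  (Nat.card_congr (Subgroup.equivSMul (MulAut.conj g) H).toEquiv).symm

lemma conj_smul_eq_of_mem_normalizer {G : Type*} [Group G] (n : G) (D : Subgroup G)
    (hn : n ∈ Subgroup.normalizer (D : Set G)) : MulAut.conj n • D = D := by
  ext x
  rw [mem_conj_smul]
  have hn' : n⁻¹ ∈ Subgroup.normalizer (D : Set G) := Subgroup.inv_mem _ hn
  have := (Subgroup.mem_normalizer_iff.mp hn') x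
  rw [inv_inv] at this
  exact this.symm

/-- Brodkey's Theorem: in a finite group with abelian Sylow p-subgroups and no nontrivial normal p-subgroup, some conjugate of a Sylow p-subgroup meets it trivially. -/
theorem result {G : Type*} [Group G] [Finite G] (p : ℕ) [Fact p.Prime]
    (S : Sylow p G) (hS : IsMulCommutative S) (hOp : Cfsg.pCore p G = ⊥) :
    ∃ g : G, (S : Subgroup G) ⊓ MulAut.conj g • (S : Subgroup G) = ⊥ := by
  set S₀ : Subgroup G := (S : Subgroup G) with hS₀
  -- commutativity of S₀ and its conjugates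
  have hScomm : ∀ x ∈ S₀, ∀ y ∈ S₀, x * y = y * x := by
    intro x hx y hy
    have := mul_comm' (⟨x, hx⟩ : S) ⟨y, hy⟩
    exact congrArg Subtype.val this
  have hconjcomm : ∀ k : G, ∀ x ∈ MulAut.conj k • S₀, ∀ y ∈ MulAut.conj k • S₀, x * y = y * x := by
    intro k x hx y hy
    rw [mem_conj_smul] at hx hy
    have := hScomm _ hx _ hy
    calc x * y = k * ((k⁻¹ * x * k) * (k⁻¹ * y * k)) * k⁻¹ := by group
      _ = k * ((k⁻¹ * y * k) * (k⁻¹ * x * k)) * k⁻¹ := by rw [this]
      _ = y * x := by group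
  -- choose g₀ minimizing the intersection
  obtain ⟨g₀, hg₀⟩ := Finite.exists_min (fun g : G => Nat.card (S₀ ⊓ MulAut.conj g • S₀ : Subgroup G))
  refine ⟨g₀, ?_⟩
  set T : Subgroup G := MulAut.conj g₀ • S₀ with hT
  set D : Subgroup G := S₀ ⊓ T with hD
  -- minimality for arbitrary pairs of conjugates
  have hmin : ∀ h k : G, Nat.card D ≤ Nat.card (MulAut.conj h • S₀ ⊓ MulAut.conj k • S₀ : Subgroup G) := by
    intro h k
    have e : MulAut.conj h • S₀ ⊓ MulAut.conj k • S₀ = MulAut.conj h • (S₀ ⊓ MulAut.conj (h⁻¹ * k) • S₀) := by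
      rw [Subgroup.smul_inf, conj_smul_smul, mul_inv_cancel_left]
    rw [e, card_conj_smul]
    exact hg₀ (h⁻¹ * k)
  set N : Subgroup G := Subgroup.normalizer (D : Set G) with hN
  -- an abelian conjugate containing D lies in N
  have hinN : ∀ k : G, D ≤ MulAut.conj k • S₀ → MulAut.conj k • S₀ ≤ N := by
    intro k hDk x hx
    rw [hN, Subgroup.mem_normalizer_iff]
    intro y
    constructor
    · intro hy
      have := hconjcomm k x hx y (hDk hy)
      have e : x * y * x⁻¹ = y := by rw [this]; group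
      rw [e]; exact hy
    · intro hy
      have hx' : x⁻¹ ∈ MulAut.conj k • S₀ := Subgroup.inv_mem _ hx
      have := hconjcomm k x⁻¹ hx' _ (hDk hy)
      have e : y = x * y * x⁻¹ := by
        calc y = x⁻¹ * (x * y * x⁻¹) * x := by group
          _ = (x * y * x⁻¹) * x⁻¹ * x := by rw [this]
          _ = x * y * x⁻¹ := by group
      rw [e]; exact hy
  have hS1 : MulAut.conj (1 : G) • S₀ = S₀ := by simp
  have hSN : S₀ ≤ N := by
    have := hinN 1 (by rw [hS1]; exact inf_le_left)
    rwa [hS1] at this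
  -- main claim
  have hclaim : ∀ P : Sylow p G, D ≤ (P : Subgroup G) := by
    intro P
    obtain ⟨h, hh⟩ := MulAction.exists_smul_eq G S P
    have hP : (P : Subgroup G) = MulAut.conj h • S₀ := by
      rw [← hh, Sylow.coe_subgroup_smul]
    -- Sylow theory in N
    have hQ : IsPGroup p (((P : Subgroup G) ⊓ N).subgroupOf N) :=
      (P.2.to_le inf_le_left).comap_subtype
    obtain ⟨R, hR⟩ := hQ.exists_le_sylow
    obtain ⟨n, hn⟩ := MulAction.exists_smul_eq N (S.subtype hSN) R
    have hPN : (P : Subgroup G) ⊓ N ≤ MulAut.conj (n : G) • S₀ := by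
      intro x hx
      have hxN : x ∈ N := hx.2
      have h1 : (⟨x, hxN⟩ : N) ∈ (R : Subgroup N) := hR (by
        rw [Subgroup.mem_subgroupOf]; exact hx)
      rw [← hn, Sylow.coe_subgroup_smul, mem_conj_smul, Sylow.coe_subtype, Subgroup.mem_subgroupOf] at h1
      rw [mem_conj_smul]
      simpa using h1
    set T' : Subgroup G := MulAut.conj ((n : G) * g₀) • S₀ with hT'
    have hST' : MulAut.conj (n : G) • S₀ ⊓ T' = D := by
      rw [hT', ← conj_smul_smul, ← Subgroup.smul_inf]
      exact conj_smul_eq_of_mem_normalizer _ _ n.2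
    have hDT' : D ≤ T' := by
      rw [← hST']; exact inf_le_right
    have hT'N : T' ≤ N := hinN _ hDT'
    have hD'le : (P : Subgroup G) ⊓ T' ≤ D := by
      rw [← hST']
      intro x hx
      exact ⟨hPN ⟨hx.1, hT'N hx.2⟩, hx.2⟩
    have hcard : Nat.card D ≤ Nat.card ((P : Subgroup G) ⊓ T' : Subgroup G) := by
      rw [hP]; exact hmin h _
    have heq := Subgroup.eq_of_le_of_card_ge hD'le hcard
    rw [← heq]
    exact inf_le_left
  -- D ≤ normalCore S₀ ≤ pCore = ⊥
  have hDcore : D ≤ S₀.normalCore := by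
    intro x hx b
    have := hclaim (b⁻¹ • S) hx
    rw [Sylow.coe_subgroup_smul, mem_conj_smul, inv_inv] at this
    exact this
  have hcore : S₀.normalCore ≤ Cfsg.pCore p G := by
    apply le_sSup
    exact ⟨S₀.normalCore_normal, S.2.to_le S₀.normalCore_le⟩
  rw [hOp] at hcore
  exact eq_bot_iff.mpr (hDcore.trans hcore)

end Cfsg.Agent.S0060
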