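import Cfsg.Statements.S0061
import Mathlib

set_option autoImplicit false
open Cfsg
open Pointwise

namespace Cfsg.Agent.S0061

lemma card_sylow_p {G : Type*} [Group G] [Finite G] (p q m : ℕ) [hp : Fact p.Prime] (hq : q.Prime)
    (hpq : p ≠ q) (hG : Nat.card G = p ^ m * q) (P : Sylow p G) : Nat.card P = p ^ m := by
  rw [Sylow.card_eq_multiplicity, hG]
  congr 1
  rw [Nat.factorization_mul (pow_ne_zero _ hp.out.ne_zero) hq.ne_zero, Nat.factorization_pow]
  simp [Nat.Prime.factorization hp.out, Nat.Prime.factorization hq, hpq]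

lemma mem_conj_smul {G : Type*} [Group G] (g x : G) (H : Subgroup G) :
    x ∈ MulAut.conj g • H ↔ g⁻¹ * x * g ∈ H := by
  rw [Subgroup.mem_pointwise_smul_iff_inv_smul_mem, MulAut.smul_def, ← map_inv, MulAut.conj_apply, inv_inv]

/-- normalizer growth inside a Sylow subgroup -/
lemma exists_normalizer_not_mem {G : Type*} [Group G] [Finite G] (p : ℕ) [hp : Fact p.Prime]
    (P : Sylow p G) (D : Subgroup G) (hDP : D ≤ P) (hne : D ≠ (P : Subgroup G)) :
    ∃ x ∈ (P : Subgroup G), x ∈ Subgroup.normalizer (D : Set G) ∧ x ∉ D := by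
  have hnil : Group.IsNilpotent (P : Subgroup G) := P.2.isNilpotent
  have hnc := Group.normalizerCondition_of_isNilpotent (G := (P : Subgroup G))
  have hlt : D.subgroupOf P < ⊤ := by
    rw [lt_top_iff_ne_top, Ne, Subgroup.subgroupOf_eq_top]
    intro h
    exact hne (le_antisymm hDP h)
  have h2 := hnc _ hlt
  obtain ⟨y, hyN, hyD⟩ := SetLike.exists_of_lt h2
  refine ⟨y.1, y.2, ?_, ?_⟩
  · rw [Subgroup.mem_normalizer_iff]
    rw [Subgroup.mem_normalizer_iff] at hyN
    intro d
    constructor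
    · intro hd
      have := (hyN ⟨d, hDP hd⟩).mp (by rw [Subgroup.mem_subgroupOf]; exact hd)
      rw [Subgroup.mem_subgroupOf] at this
      simpa using this
    · intro hd
      have hdP : d ∈ (P : Subgroup G) := by
        have h3 : (y : G)⁻¹ * ((y : G) * d * (y : G)⁻¹) * (y : G) ∈ (P : Subgroup G) :=
          Subgroup.mul_mem _ (Subgroup.mul_mem _ (Subgroup.inv_mem _ y.2) (hDP hd)) y.2
        have e : (y : G)⁻¹ * ((y : G) * d * (y : G)⁻¹) * (y : G) = d := by group
        rwa [e] at h3
      have := (hyN ⟨d, hdP⟩).mpr (by rw [Subgroup.mem_subgroupOf]; simpa using hd)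
      rw [Subgroup.mem_subgroupOf] at this
      exact this
  · intro h
    apply hyD
    rw [Subgroup.mem_subgroupOf]; exact h

lemma maxint {G : Type*} [Group G] [Finite G] (p q m : ℕ) [hp : Fact p.Prime] (hq : q.Prime)
    (hpq : p ≠ q) (hG : Nat.card G = p ^ m * q) (P₁ P₂ : Sylow p G) (hne : P₁ ≠ P₂)
    (hmax : ∀ R₁ R₂ : Sylow p G, R₁ ≠ R₂ →
      Nat.card ((R₁ : Subgroup G) ⊓ R₂ : Subgroup G) ≤ Nat.card ((P₁ : Subgroup G) ⊓ P₂ : Subgroup G)) :
    ∀ R : Sylow p G, ((P₁ : Subgroup G) ⊓ P₂ : Subgroup G) ≤ R := by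
  set D : Subgroup G := (P₁ : Subgroup G) ⊓ P₂ with hD
  have hD1 : D ≠ (P₁ : Subgroup G) := by
    intro h
    apply hne
    have hle : (P₁ : Subgroup G) ≤ P₂ := by rw [← h]; exact inf_le_right
    exact Sylow.ext (P₁.3 P₂.2 hle).symm
  have hD2 : D ≠ (P₂ : Subgroup G) := by
    intro h
    apply hne
    have hle : (P₂ : Subgroup G) ≤ P₁ := by rw [← h]; exact inf_le_left
    exact Sylow.ext (P₂.3 P₁.2 hle)
  obtain ⟨x₁, hx₁P, hx₁N, hx₁D⟩ := exists_normalizer_not_mem p P₁ D inf_le_left hD1
  obtain ⟨x₂, hx₂P, hx₂N, hx₂D⟩ := exists_normalizer_not_mem p P₂ D inf_le_right hD2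
  set H : Subgroup G := Subgroup.normalizer (D : Set G) with hH
  have hnotp : ¬ IsPGroup p H := by
    intro hpg
    obtain ⟨P₃, hP₃⟩ := hpg.exists_le_sylow
    have key : ∀ (Pi : Sylow p G) (x : G), x ∈ (Pi : Subgroup G) → x ∈ H → x ∉ D → D ≤ Pi → P₃ = Pi := by
      intro Pi x hxP hxH hxD hDPi
      by_contra hne3
      have h1 := hmax P₃ Pi hne3
      have hle : D ≤ (P₃ : Subgroup G) ⊓ Pi := le_inf (Subgroup.le_normalizer.trans hP₃) hDPi
      have := Subgroup.eq_of_le_of_card_ge hle h1
      apply hxD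
      rw [this]
      exact ⟨hP₃ hxH, hxP⟩
    have e1 := key P₁ x₁ hx₁P hx₁N hx₁D inf_le_left
    have e2 := key P₂ x₂ hx₂P hx₂N hx₂D inf_le_right
    exact hne (e1.symm.trans e2)
  -- an element of order q in H
  have hqH : q ∣ Nat.card H := by
    by_contra hqn
    apply hnotp
    rw [IsPGroup.iff_card]
    refine ⟨(Nat.card H).primeFactorsList.length, ?_⟩
    apply Nat.eq_prime_pow_of_unique_prime_dvd Nat.card_pos.ne'
    intro r hr hrd
    have : r ∣ p ^ m * q := by rw [← hG]; exact hrd.trans (Subgroup.card_subgroup_dvd_card H)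
    rcases (Nat.Prime.dvd_mul hr).mp this with h | h
    · exact (Nat.prime_dvd_prime_iff_eq hr hp.out).mp (hr.dvd_of_dvd_pow h)
    · exfalso
      have := (Nat.prime_dvd_prime_iff_eq hr hq).mp h
      exact hqn (this ▸ hrd)
  have : Fact q.Prime := ⟨hq⟩
  obtain ⟨y, hy⟩ := exists_prime_orderOf_dvd_card' q hqH
  set Q : Subgroup G := Subgroup.zpowers (y : G) with hQ
  have hQcard : Nat.card Q = q := by rw [hQ, Nat.card_zpowers, Subgroup.orderOf_coe, hy]
  have hQH : Q ≤ H := Subgroup.zpowers_le.mpr y.2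
  have hcompl : Subgroup.IsComplement' Q (P₁ : Subgroup G) := by
    apply Subgroup.isComplement'_of_coprime
    · rw [hQcard, card_sylow_p p q m hq hpq hG P₁, hG, mul_comm]
    · rw [hQcard, card_sylow_p p q m hq hpq hG P₁]
      exact Nat.Coprime.pow_right _ ((Nat.coprime_primes hq hp.out).mpr (Ne.symm hpq))
  intro R d hd
  obtain ⟨g, hg⟩ := MulAction.exists_smul_eq G P₁ R
  obtain ⟨⟨x, z⟩, hxz⟩ := hcompl.2 g
  simp only at hxz
  rw [← hg, Sylow.coe_subgroup_smul, mem_conj_smul, ← hxz]
  have hxN : (x : G)⁻¹ ∈ H := H.inv_mem (hQH x.2)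
  have h1 : (x : G)⁻¹ * d * (x : G)⁻¹⁻¹ ∈ D := (Subgroup.mem_normalizer_iff.mp hxN d).mp hd
  rw [inv_inv] at h1
  have h2 : (x : G)⁻¹ * d * (x : G) ∈ (P₁ : Subgroup G) := (inf_le_left : D ≤ P₁) h1
  have e : ((x : G) * (z : G))⁻¹ * d * ((x : G) * (z : G)) = (z : G)⁻¹ * ((x : G)⁻¹ * d * (x : G)) * (z : G) := by group
  rw [e]
  exact Subgroup.mul_mem _ (Subgroup.mul_mem _ (Subgroup.inv_mem _ z.2) h2) z.2

lemma card_sylow_q {G : Type*} [Group G] [Finite G] (p q m : ℕ) (hp : p.Prime) [hq : Fact q.Prime]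
    (hpq : p ≠ q) (hG : Nat.card G = p ^ m * q) (Q : Sylow q G) : Nat.card Q = q := by
  rw [Sylow.card_eq_multiplicity, hG]
  conv_rhs => rw [← pow_one q]
  congr 1
  rw [Nat.factorization_mul (pow_ne_zero _ hp.ne_zero) hq.out.ne_zero, Nat.factorization_pow]
  simp [Nat.Prime.factorization hp, Nat.Prime.factorization hq.out, Ne.symm hpq]

universe u

theorem main (p q : ℕ) (hp : p.Prime) (hq : q.Prime) :
    ∀ (m : ℕ) (G : Type u) [Group G] [Finite G], Nat.card G = p ^ m * q → Group.IsSolvable G := by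
  intro m
  induction m using Nat.strong_induction_on with
  | _ m ih =>
  intro G _ _ hG
  have hpF : Fact p.Prime := ⟨hp⟩
  have hqF : Fact q.Prime := ⟨hq⟩
  by_cases hpq : p = q
  · subst hpq
    have h1 : IsPGroup p G := IsPGroup.of_card (n := m + 1) (by rw [hG, pow_succ])
    have := h1.isNilpotent
    infer_instance
  obtain ⟨P⟩ : Nonempty (Sylow p G) := inferInstance
  have hPcard := card_sylow_p p q m hq hpq hG P
  set K := (P : Subgroup G).normalCore with hK
  have hKP : K ≤ P := Subgroup.normalCore_le _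
  have hKpg : IsPGroup p K := P.2.to_le hKP
  by_cases hKbot : K = ⊥
  · rcases Nat.eq_zero_or_pos m with hm0 | hmpos
    · subst hm0
      have h1 : IsPGroup q G := IsPGroup.of_card (n := 1) (by rw [hG]; simp)
      have := h1.isNilpotent
      infer_instance
    have hnontriv : ∃ R₁ R₂ : Sylow p G, R₁ ≠ R₂ := by
      by_contra h
      push Not at h
      have hss : Subsingleton (Sylow p G) := ⟨h⟩
      have hn : (P : Subgroup G).Normal := P.normal_of_subsingleton
      have h1 : K = P := Subgroup.normalCore_eq_self _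
      rw [hKbot] at h1
      have h2 : Nat.card (P : Subgroup G) = 1 := by rw [← h1]; simp
      rw [hPcard] at h2
      exact absurd h2 (Nat.one_lt_pow hmpos.ne' hp.one_lt).ne'
    obtain ⟨R₁, R₂, hR⟩ := hnontriv
    let T := {x : Sylow p G × Sylow p G // x.1 ≠ x.2}
    have hTne : Nonempty T := ⟨⟨(R₁, R₂), hR⟩⟩
    obtain ⟨⟨⟨P₁, P₂⟩, hP12⟩, hmaxT⟩ := Finite.exists_max
      (fun x : T => Nat.card ((x.1.1 : Subgroup G) ⊓ x.1.2 : Subgroup G))
    have hmax : ∀ R₁ R₂ : Sylow p G, R₁ ≠ R₂ →
        Nat.card ((R₁ : Subgroup G) ⊓ R₂ : Subgroup G) ≤ Nat.card ((P₁ : Subgroup G) ⊓ P₂ : Subgroup G) :=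
      fun R₁ R₂ h => hmaxT ⟨(R₁, R₂), h⟩
    have hall := maxint p q m hq hpq hG P₁ P₂ hP12 hmax
    have hDbot : ((P₁ : Subgroup G) ⊓ P₂ : Subgroup G) = ⊥ := by
      rw [eq_bot_iff, ← hKbot]
      intro x hx b
      have := hall (b⁻¹ • P) hx
      rw [Sylow.coe_subgroup_smul, mem_conj_smul, inv_inv] at this
      exact this
    have hTI : ∀ R₁ R₂ : Sylow p G, R₁ ≠ R₂ → ((R₁ : Subgroup G) ⊓ R₂ : Subgroup G) = ⊥ := by
      intro R₁ R₂ h
      have := hmax R₁ R₂ h
      rw [hDbot, Subgroup.card_bot] at this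
      exact Subgroup.eq_bot_of_card_le _ this
    have hindex : (P : Subgroup G).index = q := by
      have := (P : Subgroup G).card_mul_index
      rw [hPcard, hG] at this
      exact Nat.eq_of_mul_eq_mul_left (pow_pos hp.pos m) this
    have hnp : Nat.card (Sylow p G) = q := by
      have hdvd := P.card_dvd_index
      rw [hindex] at hdvd
      rcases (Nat.dvd_prime hq).mp hdvd with h1 | h1
      · exfalso
        have : Subsingleton (Sylow p G) := (Nat.card_eq_one_iff_unique.mp h1).1
        exact hR (Subsingleton.elim _ _)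
      · exact h1
    have huniq : ∀ Q₁ Q₂ : Sylow q G, Q₁ = Q₂ := by
      let F : (Σ R : Sylow p G, {x : G // x ∈ (R : Subgroup G) ∧ x ≠ 1}) → G := fun s => s.2.1
      have hFinj : Function.Injective F := by
        rintro ⟨R₁, x₁, hx₁, hx₁'⟩ ⟨R₂, x₂, hx₂, hx₂'⟩ h
        simp only [F] at h
        subst h
        have : R₁ = R₂ := by
          by_contra hne
          have h3 := hTI R₁ R₂ hne
          have hx : x₁ ∈ ((R₁ : Subgroup G) ⊓ R₂ : Subgroup G) := ⟨hx₁, hx₂⟩
          rw [h3, Subgroup.mem_bot] at hx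
          exact hx₁' hx
        subst this
        rfl
      have hfiber : ∀ R : Sylow p G, Nat.card {x : G // x ∈ (R : Subgroup G) ∧ x ≠ 1} = p ^ m - 1 := by
        intro R
        have h1 : {x : G | x ∈ (R : Subgroup G) ∧ x ≠ 1} = ((R : Subgroup G) : Set G) \ {1} := by
          ext x
          simp only [Set.mem_ofPred_eq, Set.mem_sdiff, SetLike.mem_coe, Set.mem_singleton_iff]
        have h2 : Nat.card {x : G // x ∈ (R : Subgroup G) ∧ x ≠ 1} = ({x : G | x ∈ (R : Subgroup G) ∧ x ≠ 1}).ncard := rfl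
        rw [h2, h1, Set.ncard_sdiff_singleton_of_mem (Subgroup.one_mem _)]
        have h3 : (((R : Subgroup G) : Set G)).ncard = Nat.card (R : Subgroup G) := rfl
        rw [h3, card_sylow_p p q m hq hpq hG R]
      have hcardSigma : Nat.card (Σ R : Sylow p G, {x : G // x ∈ (R : Subgroup G) ∧ x ≠ 1}) = q * (p ^ m - 1) := by
        let _ : Fintype (Sylow p G) := Fintype.ofFinite _
        rw [Nat.card_sigma]
        simp only [hfiber, Finset.sum_const, Finset.card_univ, smul_eq_mul]
        rw [← Nat.card_eq_fintype_card, hnp]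
      have hU : (Set.range F).ncard = q * (p ^ m - 1) := by
        rw [Set.ncard_range_of_injective hFinj, hcardSigma]
      have hUc : ((Set.range F)ᶜ).ncard = q := by
        have h1 := Set.ncard_add_ncard_compl (Set.range F)
        rw [hU, hG] at h1
        have hpm : 1 ≤ p ^ m := Nat.one_le_pow _ _ hp.pos
        have h2 : q * (p ^ m - 1) + q = p ^ m * q := by
          have : p ^ m = (p ^ m - 1) + 1 := by omega
          conv_rhs => rw [this]
          ring
        omega
      have hsub : ∀ Q : Sylow q G, ((Q : Subgroup G) : Set G) ⊆ (Set.range F)ᶜ := by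
        intro Q x hxQ
        rintro ⟨⟨R, y, hyR, hy1⟩, hFy⟩
        simp only [F] at hFy
        subst hFy
        -- order of y is a power of p and divides q
        have h1 : orderOf y ∣ q := by
          have := orderOf_dvd_natCard (⟨y, hxQ⟩ : (Q : Subgroup G))
          rwa [Subgroup.orderOf_mk, card_sylow_q p q m hp hpq hG Q] at this
        obtain ⟨k, hk⟩ := R.2 ⟨y, hyR⟩
        have h2 : orderOf y ∣ p ^ k := by
          apply orderOf_dvd_of_pow_eq_one
          have := congrArg Subtype.val hk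
          simpa using this
        have h3 : orderOf y = 1 := by
          have hcop : Nat.Coprime (p ^ k) q := Nat.Coprime.pow_left _ ((Nat.coprime_primes hp hq).mpr hpq)
          exact Nat.eq_one_of_dvd_coprimes hcop h2 h1
        exact hy1 (orderOf_eq_one_iff.mp h3)
      have heq : ∀ Q : Sylow q G, ((Q : Subgroup G) : Set G) = (Set.range F)ᶜ := by
        intro Q
        apply Set.eq_of_subset_of_ncard_le (hsub Q)
        rw [hUc]
        have h3 : (((Q : Subgroup G) : Set G)).ncard = Nat.card (Q : Subgroup G) := rfl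
        rw [h3, card_sylow_q p q m hp hpq hG Q]
      intro Q₁ Q₂
      apply Sylow.ext
      apply SetLike.coe_injective
      rw [heq Q₁, heq Q₂]
    obtain ⟨Q⟩ : Nonempty (Sylow q G) := inferInstance
    have hss : Subsingleton (Sylow q G) := ⟨huniq⟩
    have hQn : (Q : Subgroup G).Normal := Q.normal_of_subsingleton
    have hQcard := card_sylow_q p q m hp hpq hG Q
    have hquot : Nat.card (G ⧸ (Q : Subgroup G)) = p ^ m := by
      have := Subgroup.card_eq_card_quotient_mul_card_subgroup (Q : Subgroup G)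
      rw [hG, hQcard] at this
      exact (Nat.eq_of_mul_eq_mul_right hq.pos this).symm
    have h1 : Group.IsSolvable (G ⧸ (Q : Subgroup G)) := by
      have h2 : IsPGroup p (G ⧸ (Q : Subgroup G)) := IsPGroup.of_card hquot
      have := h2.isNilpotent
      infer_instance
    have h2 : Group.IsSolvable (Q : Subgroup G) := by
      have := Q.2.isNilpotent
      infer_instance
    exact Group.isSolvable_of_ker_le_range (Q : Subgroup G).subtype (QuotientGroup.mk' (Q : Subgroup G)) (by simp)
  · obtain ⟨k, hk⟩ := IsPGroup.iff_card.mp hKpg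
    have hk1 : 1 ≤ k := by
      by_contra h
      have h0 : k = 0 := by omega
      rw [h0, pow_zero] at hk
      exact hKbot (Subgroup.card_eq_one.mp hk)
    have hkm : k ≤ m := by
      apply (Nat.pow_dvd_pow_iff_le_right hp.one_lt).mp
      rw [← hk, ← hPcard]
      exact Subgroup.card_dvd_of_le hKP
    have hquot : Nat.card (G ⧸ K) = p ^ (m - k) * q := by
      have h1 := Subgroup.card_eq_card_quotient_mul_card_subgroup K
      rw [hG, hk] at h1
      have e : p ^ m = p ^ (m - k) * p ^ k := by rw [← pow_add, Nat.sub_add_cancel hkm]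
      rw [e] at h1
      have hpos : 0 < p ^ k := pow_pos hp.pos k
      apply Nat.eq_of_mul_eq_mul_right hpos
      rw [← h1]; ring
    have h1 : Group.IsSolvable (G ⧸ K) := ih (m - k) (by omega) (G ⧸ K) hquot
    have h2 : Group.IsSolvable K := by
      have := hKpg.isNilpotent
      infer_instance
    exact Group.isSolvable_of_ker_le_range K.subtype (QuotientGroup.mk' K) (by simp)

/-- A finite group whose order is a prime power times a prime is solvable. -/
theorem result {G : Type*} [Group G] [Finite G] (p q m : ℕ) (hp : p.Prime) (hq : q.Prime)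
    (hG : Nat.card G = p ^ m * q) : Group.IsSolvable G :=
  main p q hp hq m G hG

end Cfsg.Agent.S0061
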