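import Cfsg.Statements.S0062
import Mathlib.GroupTheory.Transfer
import Mathlib.GroupTheory.Nilpotent

set_option autoImplicit false
open Cfsg

namespace Cfsg.Agent.S0062

theorem solvable_of_prime_pow {G : Type*} [Group G] [Finite G] (p n : ℕ) (hp : p.Prime)
    (hG : Nat.card G = p ^ n) : Group.IsSolvable G := by
  have : Fact p.Prime := ⟨hp⟩
  have h1 : IsPGroup p G := IsPGroup.of_card hG
  have h2 : Group.IsNilpotent G := h1.isNilpotent
  infer_instance

theorem aux {G : Type*} [Group G] [Finite G] (p q : ℕ) (hp : p.Prime) (hq : q.Prime) (hqp : q < p)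
    (hG : Nat.card G = p ^ 2 * q ^ 2) : Group.IsSolvable G := by
  have : Fact p.Prime := ⟨hp⟩
  have : Fact q.Prime := ⟨hq⟩
  have hne : p ≠ q := ne_of_gt hqp
  let P : Sylow p G := default
  have hfac : (Nat.card G).factorization p = 2 := by
    rw [hG, Nat.factorization_mul (pow_ne_zero 2 hp.ne_zero) (pow_ne_zero 2 hq.ne_zero), Nat.factorization_pow,
      Nat.factorization_pow]
    simp [hp.factorization_self, Nat.factorization_eq_zero_of_not_dvd
      (fun h => hne ((Nat.prime_dvd_prime_iff_eq hp hq).mp h))]
  have hcardP : Nat.card P = p ^ 2 := by rw [P.card_eq_multiplicity, hfac]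
  have hidx : (P : Subgroup G).index = q ^ 2 := by
    have := (P : Subgroup G).card_mul_index
    rw [hG] at this
    have h' : p ^ 2 * (P : Subgroup G).index = p ^ 2 * q ^ 2 := by
      rw [← this]; congr 1; exact hcardP.symm
    exact Nat.eq_of_mul_eq_mul_left (pow_pos hp.pos 2) h'
  have hPsolv : Group.IsSolvable P := solvable_of_prime_pow p 2 hp hcardP
  have h1 : Nat.card (Sylow p G) ≡ 1 [MOD p] := card_sylow_modEq_one p G
  have h2 : Nat.card (Sylow p G) ∣ q ^ 2 := hidx ▸ P.card_dvd_index
  obtain ⟨k, hk, hnk⟩ := (Nat.dvd_prime_pow hq).mp h2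
  interval_cases k
  · -- unique Sylow
    rw [pow_zero] at hnk
    have hss : Subsingleton (Sylow p G) := (Nat.card_eq_one_iff_unique.mp hnk).1
    have hPn : (P : Subgroup G).Normal := Sylow.normal_of_subsingleton P
    rw [Group.isSolvable_iff_subgroup_quotient (P : Subgroup G)]
    refine ⟨hPsolv, ?_⟩
    apply solvable_of_prime_pow q 2 hq
    rw [← hidx]; rfl
  · exfalso
    rw [pow_one] at hnk
    rw [hnk] at h1
    have h3 : q % p = 1 % p := h1
    rw [Nat.mod_eq_of_lt hqp, Nat.mod_eq_of_lt hp.one_lt] at h3
    exact hq.one_lt.ne' h3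
  · -- self-normalizing
    have h3 : (Subgroup.normalizer ((P : Subgroup G) : Set G)).index = q ^ 2 := by
      rw [← hnk]; exact (P.card_eq_index_normalizer).symm
    have hle : (P : Subgroup G) ≤ Subgroup.normalizer ((P : Subgroup G) : Set G) :=
      Subgroup.le_normalizer
    have h4 := Subgroup.relIndex_mul_index hle
    rw [h3, hidx] at h4
    have h5 : (P : Subgroup G).relIndex (Subgroup.normalizer ((P : Subgroup G) : Set G)) = 1 := by
      have hpos : 0 < q ^ 2 := pow_pos hq.pos 2
      exact Nat.eq_of_mul_eq_mul_right hpos (by rw [h4, one_mul])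
    have h6 : Subgroup.normalizer ((P : Subgroup G) : Set G) ≤ (P : Subgroup G) :=
      Subgroup.relIndex_eq_one.mp h5
    have hPc : IsMulCommutative P := IsPGroup.isMulCommutative_of_card_eq_prime_sq hcardP
    have h7 : (P : Subgroup G) ≤ Subgroup.centralizer ((P : Subgroup G) : Set G) := by
      intro x hx
      rw [Subgroup.mem_centralizer_iff]
      intro y hy
      have := hPc.is_comm.comm (⟨y, hy⟩ : P) ⟨x, hx⟩
      exact congrArg Subtype.val this
    have hNC : Subgroup.normalizer (P : Set G) ≤ Subgroup.centralizer (P : Set G) := h6.trans h7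
    have hcompl := MonoidHom.ker_transferSylow_isComplement' P hNC
    have hKcard : Nat.card (MonoidHom.transferSylow P hNC).ker = q ^ 2 := by
      rw [← hidx]; exact hcompl.index_eq_card.symm
    have hKsolv : Group.IsSolvable (MonoidHom.transferSylow P hNC).ker :=
      solvable_of_prime_pow q 2 hq hKcard
    exact Group.isSolvable_of_ker_le_range (MonoidHom.transferSylow P hNC).ker.subtype
      (MonoidHom.transferSylow P hNC) (by rw [Subgroup.range_subtype])

/-- A finite group of order p^2 * q^2 with p and q prime is solvable. -/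
theorem result {G : Type*} [Group G] [Finite G] (p q : ℕ) (hp : p.Prime) (hq : q.Prime)
    (hG : Nat.card G = p ^ 2 * q ^ 2) : Group.IsSolvable G := by
  rcases lt_trichotomy p q with h | h | h
  · exact aux q p hq hp h (by rw [hG, mul_comm])
  · subst h
    exact solvable_of_prime_pow p 4 hp (by rw [hG]; ring)
  · exact aux p q hp hq h hG

end Cfsg.Agent.S0062
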