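import Cfsg.Statements.S0063
import Mathlib.GroupTheory.PGroup
import Mathlib.GroupTheory.SpecificGroups.Cyclic

set_option autoImplicit false
open Cfsg

namespace Cfsg.Agent.S0063

universe u

theorem aux (p : ℕ) [Fact p.Prime] : ∀ (m : ℕ) (G : Type u) [Group G] [Finite G],
    Nat.card G = p ^ m → 2 ≤ m → Group.nilpotencyClass G ≤ m - 1 := by
  intro m
  induction m using Nat.strong_induction_on with
  | _ m ih =>
    intro G _ _ hG hm
    have hp : p.Prime := Fact.out
    have hpG : IsPGroup p G := IsPGroup.of_card hG
    have hnil : Group.IsNilpotent G := hpG.isNilpotent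
    obtain ⟨k, hk0, hk⟩ := IsPGroup.card_center_eq_prime_pow hG (by omega)
    have hkm : k ≤ m := by
      have hdvd : p ^ k ∣ p ^ m := by
        rw [← hk, ← hG]; exact Subgroup.card_subgroup_dvd_card _
      exact (Nat.pow_dvd_pow_iff_le_right hp.one_lt).mp hdvd
    have hcardQ : Nat.card (G ⧸ Subgroup.center G) = p ^ (m - k) := by
      have h1 := Subgroup.card_eq_card_quotient_mul_card_subgroup (Subgroup.center G)
      rw [hG, hk] at h1
      have h2 : p ^ m = p ^ (m - k) * p ^ k := by rw [← pow_add]; congr 1; omega
      rw [h2] at h1
      exact (Nat.eq_of_mul_eq_mul_right (pow_pos hp.pos k) h1).symm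
    have hcls : Group.nilpotencyClass (G ⧸ Subgroup.center G) = Group.nilpotencyClass G - 1 :=
      Group.nilpotencyClass_quotient_center
    by_cases h2 : 2 ≤ m - k
    · have := ih (m - k) (by omega) (G ⧸ Subgroup.center G) hcardQ h2
      omega
    · have hdvd : Nat.card (G ⧸ Subgroup.center G) ∣ p := by
        rw [hcardQ]
        have : m - k ≤ 1 := by omega
        calc p ^ (m - k) ∣ p ^ 1 := pow_dvd_pow p this
          _ = p := pow_one p
      have hcyc : IsCyclic (G ⧸ Subgroup.center G) := isCyclic_of_card_dvd_prime hdvd
      have hcomm : ∀ a b : G, a * b = b * a :=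
        (MonoidHom.isMulCommutative_of_isCyclic_of_ker_le_center
          (QuotientGroup.mk' (Subgroup.center G)) (by rw [QuotientGroup.ker_mk'])).is_comm.comm
      have hss : Subsingleton (G ⧸ Subgroup.center G) := by
        constructor
        intro a b
        induction a using QuotientGroup.induction_on with
        | H x =>
        induction b using QuotientGroup.induction_on with
        | H y =>
          rw [QuotientGroup.eq, Subgroup.mem_center_iff]
          intro g
          exact hcomm g _
      have h0 : Group.nilpotencyClass (G ⧸ Subgroup.center G) = 0 :=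
        Group.nilpotencyClass_zero_iff_subsingleton.mpr hss
      omega

/-- A finite group of prime-power order p ^ m with m > 1 is nilpotent of class at most m - 1. -/
theorem result {G : Type*} [Group G] [Finite G] (p m : ℕ) [Fact p.Prime]
    (hG : Nat.card G = p ^ m) (hm : 1 < m) : Group.nilpotencyClass G ≤ m - 1 :=
  aux p m G hG hm

end Cfsg.Agent.S0063
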