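import Cfsg.Statements.S0064

set_option autoImplicit false
open Cfsg

namespace Cfsg.Agent.S0064

/-- A finite group is nilpotent exactly when each of its subgroups is subnormal. -/
theorem result {G : Type*} [Group G] [Finite G] :
    Group.IsNilpotent G ↔ ∀ H : Subgroup G, H.IsSubnormal := by
  constructor
  · intro hnil
    have hnc : NormalizerCondition G := Group.normalizerCondition_of_isNilpotent
    intro H
    induction H using WellFoundedGT.induction with
    | ind H ih =>
      by_cases hH : H = ⊤
      · rw [hH]; exact Subgroup.IsSubnormal.top
      · have hlt : H < Subgroup.normalizer (H : Set G) := hnc H (lt_top_iff_ne_top.mpr hH)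
        exact Subgroup.IsSubnormal.step H _ hlt.le (ih _ hlt) Subgroup.normal_in_normalizer
  · intro h
    have h3 : ∀ H : Subgroup G, IsCoatom H → H.Normal := by
      intro H hH
      rcases (h H).lt_normal with h1 | ⟨K, hKn, hHK, hK⟩
      · exact absurd h1 hH.1
      · rcases eq_or_lt_of_le hHK with h2 | h2
        · rw [h2]; exact hKn
        · exact absurd (hH.2 K h2) hK.ne
    exact (Group.isNilpotent_of_finite_tfae.out 0 2 rfl rfl).mpr h3
end Cfsg.Agent.S0064
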