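import Cfsg.Statements.S0068
import Mathlib.GroupTheory.FixedPointFree
import Mathlib.GroupTheory.GroupAction.ConjAct
import Mathlib.GroupTheory.Perm.Cycle.Type

set_option autoImplicit false
open Cfsg

namespace Cfsg.Agent.S0068

/-- an involution of `H` inverts `K`, and `K` is commutative. -/
theorem key {G : Type*} [Group G] [Finite G] (K H : Subgroup G) [K.Normal]
    (hfpf : ∀ h ∈ H, h ≠ 1 → K ⊓ Subgroup.centralizer {h} = ⊥)
    (t : G) (ht : t ∈ H) (ht2 : orderOf t = 2) :
    (∀ k ∈ K, t * k * t⁻¹ = k⁻¹) ∧ IsMulCommutative K := by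
  have ht1 : t ≠ 1 := by
    intro h1; rw [h1, orderOf_one] at ht2; omega
  have htt : t * t = 1 := by
    rw [← pow_two, ← ht2]; exact pow_orderOf_eq_one t
  let φ : K →* K := (MulAut.conjNormal t : MulAut K).toMonoidHom
  have hφ : ∀ k : K, ((φ k : K) : G) = t * k * t⁻¹ := fun k => MulAut.conjNormal_apply t k
  have hfix : MonoidHom.FixedPointFree φ := by
    intro k hk
    have h1 : t * (k : G) * t⁻¹ = k := by rw [← hφ, hk]
    have h2 : (k : G) ∈ K ⊓ Subgroup.centralizer {t} := by
      refine Subgroup.mem_inf.mpr ⟨k.2, ?_⟩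
      rw [Subgroup.mem_centralizer_iff]
      intro y hy
      rw [Set.mem_singleton_iff] at hy
      subst hy
      calc y * (k : G) = y * k * y⁻¹ * y := by group
        _ = k * y := by rw [h1]
    rw [hfpf t ht ht1, Subgroup.mem_bot] at h2
    exact Subtype.ext h2
  have hinv : Function.Involutive φ := by
    intro k
    apply Subtype.ext
    rw [hφ, hφ]
    have : t⁻¹ = t := inv_eq_of_mul_eq_one_left htt
    rw [this]
    calc t * (t * (k : G) * t) * t = (t * t) * k * (t * t) := by group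
      _ = k := by rw [htt, one_mul, mul_one]
  refine ⟨?_, ?_⟩
  · intro k hk
    have := congrFun (hfix.coe_eq_inv_of_involutive hinv) ⟨k, hk⟩
    have h2 := congrArg Subtype.val this
    rw [hφ] at h2
    simpa using h2
  · exact ⟨⟨fun a b => hfix.commute_all_of_involutive hinv a b⟩⟩

/-- Frobenius complements of even order: if H complements a nontrivial normal subgroup K, each nonidentity element of H has trivial centraliser in K, and H has even order, then H contains a unique involution s, K is abelian, and s inverts every element of K. -/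
theorem result {G : Type*} [Group G] [Finite G] (K H : Subgroup G) [K.Normal]
    (hc : Subgroup.IsComplement' K H) (hK : K ≠ ⊥) (hfpf : ∀ h ∈ H, h ≠ 1 → K ⊓ Subgroup.centralizer {h} = ⊥)
    (heven : 2 ∣ Nat.card H) :
    (∃ s ∈ H, orderOf s = 2 ∧ (∀ t ∈ H, orderOf t = 2 → t = s) ∧ ∀ k ∈ K, s * k * s⁻¹ = k⁻¹) ∧ IsMulCommutative K := by
  obtain ⟨⟨s, hsH⟩, hs⟩ := exists_prime_orderOf_dvd_card' 2 heven
  have hs2 : orderOf s = 2 := by rw [← hs, ← Subgroup.orderOf_coe]
  obtain ⟨hsinv, hcomm⟩ := key K H hfpf s hsH hs2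
  refine ⟨⟨s, hsH, hs2, ?_, hsinv⟩, hcomm⟩
  intro t htH ht2
  obtain ⟨htinv, -⟩ := key K H hfpf t htH ht2
  have hss : s * s = 1 := by
    rw [← pow_two, ← hs2]; exact pow_orderOf_eq_one s
  have hsi : s⁻¹ = s := inv_eq_of_mul_eq_one_left hss
  by_contra hne
  have hst1 : s * t ≠ 1 := by
    intro h1
    apply hne
    have : t = s⁻¹ := (inv_eq_of_mul_eq_one_right h1).symm
    rw [this, hsi]
  have hstH : s * t ∈ H := H.mul_mem hsH htH
  have hle : K ≤ K ⊓ Subgroup.centralizer {s * t} := by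
    intro k hk
    refine Subgroup.mem_inf.mpr ⟨hk, ?_⟩
    rw [Subgroup.mem_centralizer_iff]
    intro y hy
    rw [Set.mem_singleton_iff] at hy
    subst hy
    have h1 : t * k * t⁻¹ = k⁻¹ := htinv k hk
    have h2 : s * k⁻¹ * s⁻¹ = k⁻¹⁻¹ := hsinv k⁻¹ (K.inv_mem hk)
    rw [inv_inv] at h2
    calc s * t * k = s * (t * k * t⁻¹) * s⁻¹ * (s * t) := by group
      _ = k * (s * t) := by rw [h1, h2]
  rw [hfpf (s * t) hstH hst1] at hle
  exact hK (le_bot_iff.mp hle)
end Cfsg.Agent.S0068
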