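import Cfsg.Statements.S0069
import Mathlib
import Cfsg.Agent.S0040
import Cfsg.Agent.Lib.Helper1.FrobCompl

set_option autoImplicit false
open Cfsg

namespace Cfsg.Agent.S0069

open Cfsg.Agent.Helper1 Cfsg.Agent.Helper1.FrobCompl

/-- A Frobenius complement has nontrivial centre: if H ≠ 1 complements a nontrivial normal subgroup K and every nonidentity element of H has trivial centraliser in K, then the centre of H is nontrivial. -/
theorem result {G : Type*} [Group G] [Finite G] (K H : Subgroup G) [K.Normal]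
    (hc : Subgroup.IsComplement' K H) (hK : K ≠ ⊥) (hH : H ≠ ⊥) (hfpf : ∀ h ∈ H, h ≠ 1 → K ⊓ Subgroup.centralizer {h} = ⊥) :
    Subgroup.center H ≠ ⊥ := by
  by_cases h2 : 2 ∣ Nat.card H
  · exact center_ne_bot_of_even K H hK hfpf h2
  have hZ : IsZGroup H := by
    rw [isZGroup_iff]
    intro p hp P
    have : Fact p.Prime := ⟨hp⟩
    rcases Cfsg.Agent.S0040.result K H hc hK hfpf p P with h | ⟨n, ⟨e⟩⟩
    · exact h
    · exfalso
      have : NeZero (2 ^ n) := ⟨by positivity⟩
      have h3 : Nat.card P = 4 * 2 ^ n := by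
        rw [Nat.card_congr e.toEquiv, Nat.card_eq_fintype_card, QuaternionGroup.card]
      apply h2
      have h4 : (2 : ℕ) ∣ Nat.card P := by rw [h3]; exact Dvd.intro (2 * 2 ^ n) (by ring)
      exact h4.trans (Subgroup.card_subgroup_dvd_card (P : Subgroup H))
  have hnt : Nontrivial H := (Subgroup.nontrivial_iff_ne_bot H).mpr hH
  have hsolvH : Group.IsSolvable H := inferInstance
  apply center_ne_bot_of_isZGroup
  intro c a hcq hap hne hmem
  have hcq' : orderOf (c : G) = orderOf c := Subgroup.orderOf_coe c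
  have hap' : orderOf (a : G) = orderOf a := Subgroup.orderOf_coe a
  -- `c` normalizes `⟨a⟩`
  have hmem' : (c : G) * a * (c : G)⁻¹ ∈ Subgroup.zpowers (a : G) := by
    obtain ⟨k, hk⟩ := Subgroup.mem_zpowers_iff.mp hmem
    exact Subgroup.mem_zpowers_iff.mpr ⟨k, by simpa using congrArg Subtype.val hk⟩
  have hnorm : (c : G) ∈ Subgroup.normalizer ((Subgroup.zpowers (a : G) : Subgroup G) : Set G) := by
    rw [Carter.mem_normalizer_iff_conj_smul_eq]
    apply Subgroup.eq_of_le_of_card_ge
    · intro x hx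
      rw [mem_conj_smul] at hx
      obtain ⟨k, hk⟩ := Subgroup.mem_zpowers_iff.mp hx
      have hx' : x = ((c : G) * a * (c : G)⁻¹) ^ k := by
        rw [conj_zpow, hk]; group
      rw [hx']
      exact Subgroup.zpow_mem _ hmem' k
    · rw [card_conj_smul]
  have hYX : Subgroup.zpowers (c : G) ≤
      Subgroup.normalizer ((Subgroup.zpowers (a : G) : Subgroup G) : Set G) :=
    (Subgroup.zpowers_le).mpr hnorm
  have hcardX : Nat.card (Subgroup.zpowers (a : G)) = orderOf a := by rw [Nat.card_zpowers, hap']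
  have hcardY : Nat.card (Subgroup.zpowers (c : G)) = orderOf c := by rw [Nat.card_zpowers, hcq']
  have hdisj : Disjoint (Subgroup.zpowers (a : G)) (Subgroup.zpowers (c : G)) := by
    apply Subgroup.disjoint_of_coprime_natCard
    rw [hcardX, hcardY]
    exact (Nat.coprime_primes hap hcq).mpr (Ne.symm hne)
  set L : Subgroup G := Subgroup.zpowers (a : G) ⊔ Subgroup.zpowers (c : G) with hL
  have hcompl := isComplement'_subgroupOf_sup_of_le_normalizer hYX hdisj hL
  have hcardL : Nat.card L = orderOf a * orderOf c := by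
    rw [← hcompl.card_mul_card, card_subgroupOf_of_le (hL ▸ le_sup_left),
      card_subgroupOf_of_le (hL ▸ le_sup_right), hcardX, hcardY]
  have hLH : L ≤ H := by
    rw [hL]
    apply sup_le
    · exact (Subgroup.zpowers_le).mpr a.2
    · exact (Subgroup.zpowers_le).mpr c.2
  have hsolvL : Group.IsSolvable L :=
    Group.isSolvable_of_isSolvable_injective (Subgroup.inclusion_injective hLH)
  have hcyc : IsCyclic L := fpf_sub_cyclic K H hc hK hfpf L hLH hsolvL
    (Or.inr ⟨orderOf a, orderOf c, hap, hcq, hcardL⟩)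
  have haL : (a : G) ∈ L := hL ▸ (le_sup_left : Subgroup.zpowers (a : G) ≤ _) (Subgroup.mem_zpowers _)
  have hcL : (c : G) ∈ L := hL ▸ (le_sup_right : Subgroup.zpowers (c : G) ≤ _) (Subgroup.mem_zpowers _)
  have hcomm : (⟨(c : G), hcL⟩ : L) * ⟨(a : G), haL⟩ = ⟨(a : G), haL⟩ * ⟨(c : G), hcL⟩ := by
    obtain ⟨g, hg⟩ := hcyc.exists_generator
    obtain ⟨i, hi⟩ := Subgroup.mem_zpowers_iff.mp (hg ⟨(c : G), hcL⟩)
    obtain ⟨j, hj⟩ := Subgroup.mem_zpowers_iff.mp (hg ⟨(a : G), haL⟩)
    rw [← hi, ← hj, ← zpow_add, ← zpow_add, add_comm]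
  have hcomm' : (c : G) * a = a * c := congrArg Subtype.val hcomm
  apply Subtype.ext
  rw [Subgroup.coe_mul, Subgroup.coe_mul, Subgroup.coe_inv, hcomm']
  group

end Cfsg.Agent.S0069
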