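import Cfsg.Statements.S0070
import Mathlib.GroupTheory.Sylow
import Mathlib.GroupTheory.GroupAction.ConjAct

set_option autoImplicit false
open Cfsg

namespace Cfsg.Agent.S0070

open Subgroup

/-- Gaschütz: if `M` is a normal nilpotent subgroup of `G ⧸ Φ(G)` then its preimage is nilpotent. -/
theorem isNilpotent_comap {G : Type*} [Group G] [Finite G] (M : Subgroup (G ⧸ frattini G))
    (hMn : M.Normal) (hM : Group.IsNilpotent M) :
    Group.IsNilpotent (M.comap (QuotientGroup.mk' (frattini G))) := by
  set π := QuotientGroup.mk' (frattini G) with hπ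
  have hπs : Function.Surjective π := QuotientGroup.mk'_surjective _
  set N := M.comap π with hN
  have hNn : N.Normal := hMn.comap π
  have hΦN : frattini G ≤ N := by
    intro x hx
    rw [hN, mem_comap]
    have : π x = 1 := (QuotientGroup.eq_one_iff x).mpr hx
    rw [this]; exact M.one_mem
  let f : N →* M := π.subgroupComap M
  have hf : Function.Surjective f := π.subgroupComap_surjective_of_surjective M hπs
  rw [(Group.isNilpotent_of_finite_tfae (G := N)).out 0 3 rfl rfl]
  intro p hp P
  let Q : Sylow p M := P.mapSurjective hf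
  have hQn : (Q : Subgroup M).Normal :=
    ((Group.isNilpotent_of_finite_tfae (G := M)).out 0 3 rfl rfl).mp hM p hp Q
  have hQc : (Q : Subgroup M).Characteristic := Sylow.characteristic_of_normal Q hQn
  have hQG : ((Q : Subgroup M).map M.subtype).Normal := ConjAct.normal_of_characteristic_of_normal
  set P' := (P : Subgroup N).map N.subtype with hP'
  have hPQ : P'.map π = (Q : Subgroup M).map M.subtype := by
    rw [hP', Subgroup.map_map, Sylow.coe_mapSurjective, Subgroup.map_map]
    rfl
  set K := (P'.map π).comap π with hK
  have hKn : K.Normal := by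
    rw [hK, hPQ]; exact hQG.comap π
  have hKeq : K = P' ⊔ frattini G := by
    rw [hK, Subgroup.comap_map_eq, QuotientGroup.ker_mk']
  have hP'N : P' ≤ N := Subgroup.map_subtype_le _
  have hKN : K ≤ N := by
    rw [hKeq]; exact sup_le hP'N hΦN
  have hP'K : P' ≤ K := Subgroup.le_comap_map π P'
  have hpg : IsPGroup p (P'.subgroupOf K) := (P.isPGroup'.map N.subtype).comap_subtype
  have hidx : ¬ p ∣ (P'.subgroupOf K).index := by
    intro hdvd
    have h1 : P'.relIndex K * K.relIndex N = P'.relIndex N :=
      Subgroup.relIndex_mul_relIndex _ _ _ hP'K hKN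
    have h2 : P'.relIndex N = (P : Subgroup N).index := by
      rw [Subgroup.relIndex, hP', Subgroup.subgroupOf,
        Subgroup.comap_map_eq_self_of_injective N.subtype_injective]
    apply P.not_dvd_index
    rw [← h2, ← h1]
    exact Dvd.dvd.mul_right hdvd _
  let Q' : Sylow p K := hpg.toSylow hidx
  have hQ' : (Q' : Subgroup K).map K.subtype = P' := by
    show (P'.subgroupOf K).map K.subtype = P'
    exact Subgroup.map_subgroupOf_eq_of_le hP'K
  have hfr := Sylow.normalizer_sup_eq_top Q'
  rw [hQ', hKeq, ← sup_assoc, sup_eq_left.mpr (le_normalizer : P' ≤ normalizer (P' : Set G))] at hfr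
  have hnorm := frattini_nongenerating hfr
  have hP'n : P'.Normal := normalizer_eq_top_iff.mp hnorm
  exact hP'n.of_map_subtype

/-- The Fitting subgroup commutes with passing to the Frattini quotient: the Fitting subgroup of G modulo its Frattini subgroup is the image of the Fitting subgroup of G. -/
theorem result {G : Type*} [Group G] [Finite G] :
    Cfsg.fittingSubgroup (G ⧸ frattini G) = (Cfsg.fittingSubgroup G).map (QuotientGroup.mk' (frattini G)) := by
  set π := QuotientGroup.mk' (frattini G) with hπ
  have hπs : Function.Surjective π := QuotientGroup.mk'_surjective _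
  apply le_antisymm
  · unfold Cfsg.fittingSubgroup
    apply sSup_le
    rintro M ⟨hMn, hMnil⟩
    have h1 : Group.IsNilpotent (M.comap π) := isNilpotent_comap M hMn hMnil
    have h2 : M.comap π ≤ sSup {N : Subgroup G | N.Normal ∧ Group.IsNilpotent N} :=
      le_sSup ⟨hMn.comap π, h1⟩
    calc M = (M.comap π).map π := (Subgroup.map_comap_eq_self_of_surjective hπs M).symm
      _ ≤ _ := Subgroup.map_mono h2
  · unfold Cfsg.fittingSubgroup
    rw [(Subgroup.gc_map_comap π).l_sSup]
    apply iSup₂_le
    rintro N ⟨hNn, hNnil⟩
    apply le_sSup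
    refine ⟨hNn.map π hπs, ?_⟩
    exact Group.nilpotent_of_surjective ((π.subgroupMap N)) (π.subgroupMap_surjective N)
end Cfsg.Agent.S0070
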