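import Cfsg.Statements.S0073
import Cfsg.Agent.Lib.Helper2.Automizer

set_option autoImplicit false
open Cfsg

namespace Cfsg.Agent.S0073

/-- For a finite non-abelian simple group, either the cube of the least prime divisor of the order divides the order, or 12 does. -/
theorem result {G : Type*} [Group G] [Finite G] [IsSimpleGroup G] (hG : ∃ x y : G, x * y ≠ y * x) : (Nat.card G).minFac ^ 3 ∣ Nat.card G ∨ 12 ∣ Nat.card G := by
  obtain ⟨x0, y0, hxy⟩ := hG
  have hcard1 : Nat.card G ≠ 1 := by
    intro h
    have := (Nat.card_eq_one_iff_unique.mp h).1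
    exact hxy (Subsingleton.elim _ _)
  set p := (Nat.card G).minFac with hp
  have hpp : p.Prime := Nat.minFac_prime hcard1
  have : Fact p.Prime := ⟨hpp⟩
  have hpdvd : p ∣ Nat.card G := Nat.minFac_dvd _
  obtain ⟨P⟩ : Nonempty (Sylow p G) := inferInstance
  have hPcard := P.card_eq_multiplicity
  set k := (Nat.card G).factorization p with hk
  have hk1 : 1 ≤ k := hpp.factorization_pos_of_dvd Nat.card_pos.ne' hpdvd
  have hPdvd : Nat.card P ∣ Nat.card G := Subgroup.card_subgroup_dvd_card _
  -- a normal complement to `P` is impossible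
  have hnocompl : ∀ K : Subgroup G, K.Normal → K.IsComplement' (P : Subgroup G) →
      (∀ a b : P, a * b = b * a) → False := by
    intro K hK hKP hc
    rcases hK.eq_bot_or_eq_top with h | h
    · rw [h, Subgroup.isComplement'_bot_left] at hKP
      apply hxy
      have hx : x0 ∈ (P : Subgroup G) := hKP ▸ Subgroup.mem_top _
      have hy : y0 ∈ (P : Subgroup G) := hKP ▸ Subgroup.mem_top _
      exact congrArg Subtype.val (hc ⟨x0, hx⟩ ⟨y0, hy⟩)
    · rw [h, Subgroup.isComplement'_top_left] at hKP
      have : Nat.card P = 1 := by
        rw [hKP]; exact Subgroup.card_bot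
      rw [hPcard] at this
      have h2 : p ^ 1 ∣ p ^ k := pow_dvd_pow p hk1
      rw [this, pow_one] at h2
      exact hpp.one_lt.ne' (Nat.dvd_one.mp h2)
  by_cases hk3 : 3 ≤ k
  · left
    exact (pow_dvd_pow p hk3).trans (hPcard ▸ hPdvd)
  by_cases h12 : 12 ∣ Nat.card G
  · right; exact h12
  exfalso
  have hk12 : k = 1 ∨ k = 2 := by omega
  rcases hk12 with hk1' | hk2
  · -- cyclic Sylow subgroup for the smallest prime
    rw [hk1', pow_one] at hPcard
    have hcyc : IsCyclic P := isCyclic_of_prime_card hPcard
    have hc : ∀ a b : P, a * b = b * a := fun a b => by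
      obtain ⟨g, hg⟩ := hcyc.exists_generator
      obtain ⟨i, rfl⟩ := Subgroup.mem_zpowers_iff.mp (hg a)
      obtain ⟨j, rfl⟩ := Subgroup.mem_zpowers_iff.mp (hg b)
      exact (((Commute.refl g).zpow_right j).zpow_left i).eq
    exact hnocompl _ inferInstance (IsCyclic.isComplement' hp.symm hcyc) hc
  · rw [hk2] at hPcard
    have hcomm : IsMulCommutative P := IsPGroup.isMulCommutative_of_card_eq_prime_sq hPcard
    have hc : ∀ a b : P, a * b = b * a := hcomm.is_comm.comm
    have hNC : Subgroup.normalizer ((P : Subgroup G) : Set G) ≤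
        Subgroup.centralizer ((P : Subgroup G) : Set G) := by
      apply Cfsg.Agent.Helper2.normalizer_le_centralizer_of_orbit_count P
      intro q hq hqG hqp d hd1 hd2 hd3
      rw [hPcard] at hd1 hd2 hd3
      have hpq : p < q := lt_of_le_of_ne (Nat.minFac_le_of_dvd hq.two_le hqG) (Ne.symm hqp)
      have hp2 : 2 ≤ p := hpp.two_le
      have hnd : ∀ m : ℕ, 0 < m → m < q → ¬ q ∣ m := fun m h0 h1 h2 =>
        absurd (Nat.le_of_dvd h0 h2) (not_le.mpr h1)
      obtain ⟨i, hi, rfl⟩ := (Nat.dvd_prime_pow hpp).mp hd1
      have hi2 : i < 2 := by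
        by_contra h
        have : i = 2 := by omega
        rw [this] at hd2
        exact lt_irrefl _ hd2
      interval_cases i
      · -- `q ∣ p ^ 2 - 1 = (p - 1) * (p + 1)`
        have h1 : p ^ 2 - p ^ 0 = (p - 1) * (p + 1) := by
          rw [pow_zero]
          have hsq : ∀ n : ℕ, n ^ 2 - 1 = (n - 1) * (n + 1) := by
            intro n
            rcases n with _ | m
            · simp
            · simp only [Nat.add_sub_cancel]
              have : (m + 1) ^ 2 = m * (m + 1 + 1) + 1 := by ring
              rw [this, Nat.add_sub_cancel]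
          exact hsq p
        rw [h1] at hd3
        rcases (Nat.Prime.dvd_mul hq).mp hd3 with h | h
        · exact hnd (p - 1) (by omega) (by omega) h
        · have hle : q ≤ p + 1 := Nat.le_of_dvd (by omega) h
          have hq' : q = p + 1 := by omega
          rcases hpp.eq_two_or_odd' with h2 | hodd
          · -- `p = 2`, `q = 3`
            apply h12
            have h4 : 4 ∣ Nat.card G := by
              have := hPdvd
              rw [hPcard, h2] at this
              exact this
            have h3 : 3 ∣ Nat.card G := by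
              rw [hq', h2] at hqG
              exact hqG
            exact Nat.Coprime.mul_dvd_of_dvd_of_dvd (by decide : Nat.Coprime 4 3) h4 h3
          · have heven : 2 ∣ q := by
              rw [hq']
              obtain ⟨m, hm⟩ := hodd
              exact ⟨m + 1, by omega⟩
            have := (Nat.prime_dvd_prime_iff_eq Nat.prime_two hq).mp heven
            omega
      · -- `q ∣ p ^ 2 - p = p * (p - 1)`
        have h1 : p ^ 2 - p ^ 1 = p * (p - 1) := by
          rw [pow_one, sq, Nat.mul_sub_one]
        rw [h1] at hd3
        rcases (Nat.Prime.dvd_mul hq).mp hd3 with h | h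
        · exact hnd p (by omega) hpq h
        · exact hnd (p - 1) (by omega) (by omega) h
    exact hnocompl _ inferInstance (MonoidHom.ker_transferSylow_isComplement' P hNC) hc

end Cfsg.Agent.S0073
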