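import Cfsg.Statements.S0075
import Cfsg.Agent.Lib.Helper2.PResidual

set_option autoImplicit false
open Cfsg
open scoped commutatorElement

namespace Cfsg.Agent.S0075

/-- For an abelian Sylow p-subgroup T, its intersection with the subgroup generated by the elements of order prime to p is the commutator of T with its normalizer. -/
theorem result {G : Type*} [Group G] [Finite G] {p : ℕ} [Fact p.Prime] (T : Sylow p G) (hT : IsMulCommutative T) : (T : Subgroup G) ⊓ Cfsg.pResidual p G = ⁅(T : Subgroup G), Subgroup.normalizer (T : Set G)⁆ := by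
  have hcomm : ∀ a ∈ (T : Subgroup G), ∀ b ∈ (T : Subgroup G), a * b = b * a := by
    intro a ha b hb
    have := hT.is_comm.comm (⟨a, ha⟩ : (T : Subgroup G)) ⟨b, hb⟩
    exact congrArg Subtype.val this
  apply le_antisymm
  · -- `T ⊓ O^p(G) ≤ ker transferFocal ⊓ T = focal T ≤ ⁅T, N(T)⁆`
    have h1 : Cfsg.pResidual p G ≤ (Subgroup.transferFocal (T : Subgroup G)).ker :=
      Cfsg.Agent.Helper2.pResidual_le_ker_of_isPGroup p _ (T.2.to_quotient _)
    have h2 : (T : Subgroup G) ⊓ Cfsg.pResidual p G ≤ Subgroup.focalSubgroup (T : Subgroup G) := by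
      rw [← Subgroup.ker_transferFocal_inf_eq_focalSubgroup T, inf_comm]
      exact inf_le_inf_right _ h1
    refine h2.trans ?_
    rw [Subgroup.focalSubgroup_def, Subgroup.closure_le]
    rintro g ⟨hgP, x, hxP, u, rfl⟩
    have hx' : x⁻¹ ∈ (T : Subgroup G) := Subgroup.inv_mem _ hxP
    have hconj : u * x⁻¹ * u⁻¹ ∈ (T : Subgroup G) := by
      have : u * x⁻¹ * u⁻¹ = x⁻¹ * ⁅x, u⁆ := by
        rw [commutatorElement_def]; group
      rw [this]
      exact Subgroup.mul_mem _ hx' hgP
    have hconj' : u⁻¹⁻¹ * x⁻¹ * u⁻¹ ∈ (T : Subgroup G) := by rwa [inv_inv]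
    obtain ⟨n, hn, hnn⟩ := T.conj_eq_normalizer_conj_of_mem x⁻¹ u⁻¹ hx' hconj'
    rw [inv_inv] at hnn
    have : ⁅x, u⁆ = ⁅x, n⁻¹⁆ := by
      rw [commutatorElement_def, commutatorElement_def, mul_assoc (x * u), mul_assoc x u, ← mul_assoc u,
        hnn]
      group
    rw [SetLike.mem_coe, this]
    exact Subgroup.commutator_mem_commutator hxP (Subgroup.inv_mem _ hn)
  · refine le_inf ?_ ?_
    · rw [Subgroup.commutator_le]
      intro t ht n hn
      have hn' : n ∈ Subgroup.normalizer ((T : Subgroup G) : Set G) := hn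
      rw [commutatorElement_def, mul_assoc, mul_assoc]
      refine Subgroup.mul_mem _ ht ?_
      rw [← mul_assoc]
      exact (Subgroup.mem_normalizer_iff.mp hn' t⁻¹).mp (Subgroup.inv_mem _ ht)
    · refine le_trans ?_ (Cfsg.Agent.Helper2.commutator_le_pResidual_of_comm p (T : Subgroup G)
        T.not_dvd_index hcomm)
      rw [commutator_def]
      exact Subgroup.commutator_mono le_top le_top

end Cfsg.Agent.S0075
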