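import Cfsg.Statements.S0076

set_option autoImplicit false
open Cfsg

namespace Cfsg.Agent.S0076

open scoped Pointwise

theorem conj_image_image {G : Type*} [Group G] (a b : G) (S : Set G) :
    (fun y => a * y * a⁻¹) '' ((fun y => b * y * b⁻¹) '' S) = (fun y => (a * b) * y * (a * b)⁻¹) '' S := by
  rw [Set.image_image]
  congr 1
  funext y
  simp [mul_assoc]

theorem mem_normalizer_of_image {G : Type*} [Group G] (a : G) (S : Set G)
    (h : (fun y => a * y * a⁻¹) '' S = S) : a ∈ Subgroup.normalizer S := by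
  rw [Subgroup.mem_normalizer_iff_conj_image_eq]
  exact h

theorem image_of_mem_normalizer {G : Type*} [Group G] (a : G) (S : Set G)
    (h : a ∈ Subgroup.normalizer S) : (fun y => a * y * a⁻¹) '' S = S := by
  rw [Subgroup.mem_normalizer_iff_conj_image_eq] at h
  exact h

/-- Two P-invariant subsets of a Sylow p-subgroup P that are conjugate in G are conjugate under the normalizer of P. -/
theorem result {G : Type*} [Group G] [Finite G] {p : ℕ} [Fact p.Prime] (P : Sylow p G) (X Y : Set G) (hXP : X ⊆ P) (hYP : Y ⊆ P) (hX : ∀ x ∈ P, (fun y => x * y * x⁻¹) '' X = X) (hY : ∀ x ∈ P, (fun y => x * y * x⁻¹) '' Y = Y) (g : G) (hg : (fun y => g * y * g⁻¹) '' X = Y) : ∃ n ∈ Subgroup.normalizer (P : Set G), (fun y => n * y * n⁻¹) '' X = Y := by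
  have h1 : (P : Subgroup G) ≤ Subgroup.normalizer Y := fun x hx =>
    mem_normalizer_of_image x Y (hY x hx)
  have h2 : ((g • P : Sylow p G) : Subgroup G) ≤ Subgroup.normalizer Y := by
    intro x hx
    rw [Sylow.coe_subgroup_smul, Subgroup.mem_pointwise_smul_iff_inv_smul_mem] at hx
    have hx' : g⁻¹ * x * g ∈ (P : Subgroup G) := by
      simpa [MulAut.smul_def, mul_assoc] using hx
    apply mem_normalizer_of_image
    have e1 := hX _ hx'
    have e2 : (fun y => g * y * g⁻¹) '' ((fun y => (g⁻¹ * x * g) * y * (g⁻¹ * x * g)⁻¹) '' X) = Y := by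
      rw [e1, hg]
    rw [conj_image_image] at e2
    rw [← hg, conj_image_image]
    have e3 : (fun y => x * g * y * (x * g)⁻¹) = (fun y => g * (g⁻¹ * x * g) * y * (g * (g⁻¹ * x * g))⁻¹) := by
      funext y
      group
    rw [e3, e2, hg]
  obtain ⟨h, hh⟩ := MulAction.exists_smul_eq (Subgroup.normalizer Y) ((g • P).subtype h2) (P.subtype h1)
  simp_rw [Sylow.smul_subtype, Subgroup.smul_def, smul_smul] at hh
  refine ⟨h * g, Sylow.smul_eq_iff_mem_normalizer.mp (Sylow.subtype_injective hh), ?_⟩
  rw [← conj_image_image, hg]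
  exact image_of_mem_normalizer _ _ h.2
end Cfsg.Agent.S0076
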