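import Cfsg.Statements.S0077
import Cfsg.Agent.Lib.Helper2.Fusion

set_option autoImplicit false
open Cfsg

namespace Cfsg.Agent.S0077

open scoped commutatorElement

/-- If a subgroup Z of the centre of a Sylow p-subgroup P is weakly closed in P, then P meets the derived subgroup of G exactly where it meets the derived subgroup of the normalizer of Z. -/
theorem result {G : Type*} [Group G] [Finite G] {p : ℕ} [Fact p.Prime] (P : Sylow p G) (Z : Subgroup G) (hZ : Z ≤ Subgroup.centralizer (P : Set G)) (hW : Cfsg.IsWeaklyClosed Z P) : commutator G ⊓ (P : Subgroup G) = ⁅Subgroup.normalizer (Z : Set G), Subgroup.normalizer (Z : Set G)⁆ ⊓ (P : Subgroup G) := by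
  have hPN : (P : Subgroup G) ≤ Subgroup.normalizer (Z : Set G) := by
    intro x hx
    rw [Subgroup.mem_normalizer_iff]
    intro z
    have hcomm : ∀ z' ∈ Z, x * z' = z' * x := fun z' hz' =>
      (Subgroup.mem_centralizer_iff.mp (hZ hz')) x hx
    constructor
    · intro hz
      rw [hcomm z hz, mul_inv_cancel_right]; exact hz
    · intro hz
      have h1 := hcomm _ hz
      have h2 : z = x * z * x⁻¹ := by
        calc z = x⁻¹ * (x * z * x⁻¹ * x) := by group
          _ = x⁻¹ * (x * (x * z * x⁻¹)) := by rw [h1]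
          _ = x * z * x⁻¹ := by group
      rw [h2]; exact hz
  apply le_antisymm
  · rw [Subgroup.commutator_inf_eq_focalSubgroup P]
    refine le_inf ?_ (Subgroup.focalSubgroup_le _)
    rw [Subgroup.focalSubgroup_def, Subgroup.closure_le]
    rintro g ⟨hgP, x, hxP, u, rfl⟩
    have hx' : x⁻¹ ∈ (P : Subgroup G) := Subgroup.inv_mem _ hxP
    have hconj : u * x⁻¹ * u⁻¹ ∈ (P : Subgroup G) := by
      have : u * x⁻¹ * u⁻¹ = x⁻¹ * ⁅x, u⁆ := by
        rw [commutatorElement_def]; group
      rw [this]
      exact Subgroup.mul_mem _ hx' hgP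
    obtain ⟨n, hn, hnn⟩ := Cfsg.Agent.Helper2.weaklyClosed_controls_fusion P Z hZ hW x⁻¹ u hx' hconj
    have : ⁅x, u⁆ = ⁅x, n⁆ := by
      rw [commutatorElement_def, commutatorElement_def, mul_assoc (x * u), mul_assoc x u, ← mul_assoc u,
        ← hnn]
      group
    rw [SetLike.mem_coe, this]
    exact Subgroup.commutator_mem_commutator (hPN hxP) hn
  · exact inf_le_inf_right _ (Subgroup.commutator_mono le_top le_top)
end Cfsg.Agent.S0077
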