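import Cfsg.Statements.S0078
import Cfsg.Agent.S0077
import Cfsg.Agent.Lib.Helper2.TateGeneral

set_option autoImplicit false
open Cfsg

namespace Cfsg.Agent.S0078

/-- In a p-normal group, a Sylow p-subgroup P meets O^p(G) exactly where it meets O^p(V), for any subgroup V containing the normalizer of the centre of P. -/
theorem result {G : Type*} [Group G] [Finite G] {p : ℕ} [Fact p.Prime] (P : Sylow p G) (hn : ∀ Q : Sylow p G, (P : Subgroup G) ⊓ Subgroup.centralizer (P : Set G) ≤ (Q : Subgroup G) → (Q : Subgroup G) ⊓ Subgroup.centralizer (Q : Set G) = (P : Subgroup G) ⊓ Subgroup.centralizer (P : Set G)) (V : Subgroup G) (hV : Subgroup.normalizer (((P : Subgroup G) ⊓ Subgroup.centralizer (P : Set G) : Subgroup G) : Set G) ≤ V) : (P : Subgroup G) ⊓ Cfsg.pResidual p G = (P : Subgroup G) ⊓ (Cfsg.pResidual p V).map V.subtype := by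
  classical
  set Z : Subgroup G := (P : Subgroup G) ⊓ Subgroup.centralizer (P : Set G) with hZ
  have hconjZ : ∀ x ∈ (P : Subgroup G), ∀ z ∈ Z, x * z * x⁻¹ = z := by
    intro x hx z hz
    have h1 : x * z = z * x := (Subgroup.mem_centralizer_iff.mp hz.2) x hx
    rw [h1, mul_inv_cancel_right]
  have hPN : (P : Subgroup G) ≤ Subgroup.normalizer (Z : Set G) := by
    intro x hx
    rw [Subgroup.mem_normalizer_iff]
    intro h
    constructor
    · intro hh; rw [hconjZ x hx h hh]; exact hh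
    · intro hh
      have h1 := hconjZ x⁻¹ (inv_mem hx) _ hh
      have h2 : x⁻¹ * (x * h * x⁻¹) * x⁻¹⁻¹ = h := by group
      rw [h2] at h1
      rw [h1]; exact hh
  have hPV : (P : Subgroup G) ≤ V := hPN.trans hV
  have hW : Cfsg.IsWeaklyClosed Z (P : Subgroup G) := by
    refine ⟨inf_le_left, ?_⟩
    intro g hg
    have hZQ : Z ≤ ((g⁻¹ • P : Sylow p G) : Subgroup G) := by
      intro z hz
      rw [Cfsg.Agent.Helper2.mem_smul_sylow_iff]
      have h1 : g * z * g⁻¹ ∈ (P : Subgroup G) := hg ⟨z, hz, by simp [MulAut.conj_apply]⟩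
      simpa using h1
    have hQ := hn (g⁻¹ • P) hZQ
    apply Subgroup.eq_of_le_of_card_ge
    · rintro _ ⟨z, hz, rfl⟩
      have hz' : z ∈ ((g⁻¹ • P : Sylow p G) : Subgroup G) ⊓
          Subgroup.centralizer ((g⁻¹ • P : Sylow p G) : Set G) := by rw [hQ]; exact hz
      have hzP : g * z * g⁻¹ ∈ (P : Subgroup G) := hg ⟨z, hz, by simp [MulAut.conj_apply]⟩
      show (MulAut.conj g) z ∈ Z
      rw [MulAut.conj_apply]
      refine Subgroup.mem_inf.mpr ⟨hzP, ?_⟩
      rw [Subgroup.mem_centralizer_iff]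
      intro y hy
      have hyQ : g⁻¹ * y * g ∈ ((g⁻¹ • P : Sylow p G) : Subgroup G) := by
        rw [Cfsg.Agent.Helper2.mem_smul_sylow_iff]
        have hy' : y ∈ (P : Subgroup G) := hy
        have h3 : g⁻¹⁻¹ * (g⁻¹ * y * g) * g⁻¹ = y := by group
        rw [h3]; exact hy'
      have hc : (g⁻¹ * y * g) * z = z * (g⁻¹ * y * g) :=
        (Subgroup.mem_centralizer_iff.mp hz'.2) _ hyQ
      calc y * (g * z * g⁻¹) = g * ((g⁻¹ * y * g) * z) * g⁻¹ := by group
        _ = g * (z * (g⁻¹ * y * g)) * g⁻¹ := by rw [hc]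
        _ = g * z * g⁻¹ * y := by group
    · rw [Subgroup.card_map_of_injective (MulAut.conj g).injective]
  have hZc : Z ≤ Subgroup.centralizer (P : Set G) := inf_le_right
  have hG2 := Cfsg.Agent.S0077.result P Z hZc hW
  have hfoc : commutator G ⊓ (P : Subgroup G) ≤ ⁅V, V⁆ := by
    rw [hG2]
    exact inf_le_left.trans (Subgroup.commutator_mono hV hV)
  have hkey := Cfsg.Agent.Helper2.pResidual_subgroupOf_le P V hPV hfoc
  apply le_antisymm
  · rintro x ⟨hxP, hxR⟩
    refine Subgroup.mem_inf.mpr ⟨hxP, ?_⟩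
    have h1 : (⟨x, hPV hxP⟩ : V) ∈ (Cfsg.pResidual p G).subgroupOf V :=
      Subgroup.mem_subgroupOf.mpr hxR
    exact ⟨⟨x, hPV hxP⟩, hkey h1, rfl⟩
  · refine inf_le_inf_left _ ?_
    unfold Cfsg.pResidual
    rw [MonoidHom.map_closure, Subgroup.closure_le]
    rintro _ ⟨v, hv, rfl⟩
    apply Subgroup.subset_closure
    show Nat.Coprime (orderOf (v : G)) p
    rw [Subgroup.orderOf_coe]; exact hv

end Cfsg.Agent.S0078
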