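import Cfsg.Statements.S0079
import Cfsg.Agent.S1946
import Cfsg.Agent.S0132
import Cfsg.Agent.Lib.Helper90.MinNonNilp

set_option autoImplicit false
open Cfsg

namespace Cfsg.Agent.S0079

/-- forward direction: a normal complement gives control of fusion -/
theorem forward {G : Type*} [Group G] (H N : Subgroup G) (hN : N.Normal)
    (hc : N.IsComplement' H) (x y : G) (hx : x ∈ H) (hy : y ∈ H) (g : G) (hg : g * x * g⁻¹ = y) :
    ∃ h ∈ H, h * x * h⁻¹ = y := by
  obtain ⟨⟨⟨n, hn⟩, ⟨h, hh⟩⟩, hnh⟩ := hc.2 g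
  have hnh' : n * h = g := hnh
  refine ⟨h, hh, ?_⟩
  have hx' : h * x * h⁻¹ ∈ H := H.mul_mem (H.mul_mem hh hx) (H.inv_mem hh)
  have h1 : y * (h * x * h⁻¹)⁻¹ ∈ N := by
    have e : y * (h * x * h⁻¹)⁻¹ = n * ((h * x * h⁻¹) * n⁻¹ * (h * x * h⁻¹)⁻¹) := by
      rw [← hg, ← hnh']
      group
    rw [e]
    exact N.mul_mem hn (hN.conj_mem _ (N.inv_mem hn) _)
  have h2 : y * (h * x * h⁻¹)⁻¹ ∈ H := H.mul_mem hy (H.inv_mem hx')
  have h3 : y * (h * x * h⁻¹)⁻¹ ∈ N ⊓ H := ⟨h1, h2⟩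
  rw [disjoint_iff.mp hc.disjoint, Subgroup.mem_bot] at h3
  exact (mul_inv_eq_one.mp h3).symm

/-- under control of fusion, `G` has a normal `p`-complement for each prime dividing `|H|` -/
theorem hasNormalPComplement_of_fusion {G : Type*} [Group G] [Finite G] (H : Subgroup G)
    (hH : Group.IsNilpotent H) (hHall : Nat.Coprime (Nat.card H) H.index)
    (hfus : ∀ x ∈ H, ∀ y ∈ H, (∃ g : G, g * x * g⁻¹ = y) → ∃ h ∈ H, h * x * h⁻¹ = y)
    (p : ℕ) [Fact p.Prime] (hp : p ∣ Nat.card H) : Cfsg.HasNormalPComplement p G := by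
  have hpp : p.Prime := Fact.out
  obtain ⟨P₀, K, hKn, hKc⟩ := Cfsg.Agent.S0132.hasNormalPComplement_of_isNilpotent (G := H) p hH
  -- the Sylow subgroup of `G`
  have hidx : ¬ p ∣ H.index := by
    intro h
    have := Nat.dvd_gcd hp h
    rw [hHall] at this
    exact hpp.one_lt.ne' (Nat.dvd_one.mp this)
  have hcard : Nat.card ((P₀ : Subgroup H).map H.subtype) = p ^ (Nat.card G).factorization p := by
    rw [Subgroup.card_map_of_injective H.subtype_injective, P₀.card_eq_multiplicity,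
      ← Subgroup.card_mul_index H, Nat.factorization_mul Nat.card_pos.ne' Subgroup.index_ne_zero_of_finite]
    simp [Nat.factorization_eq_zero_of_not_dvd hidx]
  rw [Cfsg.Agent.Helper2.hasNormalPComplement_iff (Sylow.ofCard _ hcard), ← Cfsg.Agent.Helper2.hasNormalPComplement_iff (Sylow.ofCard _ hcard),
    Cfsg.Agent.S1946.result (Sylow.ofCard _ hcard)]
  intro a ha _ g hga
  rw [Sylow.coe_ofCard] at ha hga
  obtain ⟨a₀, ha₀, haeq⟩ := ha
  have haeq' : a = (a₀ : G) := haeq.symm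
  subst haeq'
  have hgaH : g * (a₀ : G) * g⁻¹ ∈ H := by
    obtain ⟨b, _, hb⟩ := hga
    rw [← hb]; exact b.2
  obtain ⟨h, hh, hh'⟩ := hfus a₀ a₀.2 _ hgaH ⟨g, rfl⟩
  -- decompose `h`
  obtain ⟨⟨⟨k, hk⟩, ⟨x, hx⟩⟩, hkx⟩ := hKc.2 (⟨h, hh⟩ : H)
  have hkx' : k * x = ⟨h, hh⟩ := hkx
  have hKp : (Nat.card K).Coprime p := by
    rw [← hKc.index_eq_card]
    exact ((Nat.Prime.coprime_iff_not_dvd hpp).mpr P₀.not_dvd_index).symm
  have hko : (orderOf k).Coprime p := by
    apply Nat.Coprime.coprime_dvd_left _ hKp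
    have := orderOf_dvd_natCard (⟨k, hk⟩ : K)
    rwa [Subgroup.orderOf_mk] at this
  have hkc := Cfsg.Agent.Helper90.mem_centralizer_of_coprime_of_isNilpotent p
    (P₀ : Subgroup H) P₀.2 k hko
  have hxa : x * a₀ * x⁻¹ ∈ (P₀ : Subgroup H) :=
    Subgroup.mul_mem _ (Subgroup.mul_mem _ hx ha₀) (Subgroup.inv_mem _ hx)
  have hcomm := Subgroup.mem_centralizer_iff.mp hkc _ hxa
  refine ⟨(x : G), ?_, ?_⟩
  · rw [Sylow.coe_ofCard]
    exact ⟨x, hx, rfl⟩
  · rw [← hh']
    have e : (⟨h, hh⟩ : H) * a₀ * (⟨h, hh⟩ : H)⁻¹ = x * a₀ * x⁻¹ := by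
      rw [← hkx']
      calc k * x * a₀ * (k * x)⁻¹ = k * (x * a₀ * x⁻¹) * k⁻¹ := by group
        _ = (x * a₀ * x⁻¹) * k * k⁻¹ := by rw [← hcomm]
        _ = x * a₀ * x⁻¹ := by group
    have := congrArg Subtype.val e
    simpa using this


/-- A nilpotent Hall subgroup has a normal complement exactly when elements of it that are conjugate in the whole group are already conjugate inside it. -/
theorem result {G : Type*} [Group G] [Finite G] (H : Subgroup G) (hH : Group.IsNilpotent H) (hHall : Nat.Coprime (Nat.card H) H.index) : (∃ N : Subgroup G, N.Normal ∧ N.IsComplement' H) ↔ ∀ x ∈ H, ∀ y ∈ H, (∃ g : G, g * x * g⁻¹ = y) → ∃ h ∈ H, h * x * h⁻¹ = y := by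
  constructor
  · rintro ⟨N, hN, hc⟩ x hx y hy ⟨g, hg⟩
    exact forward H N hN hc x y hx hy g hg
  intro hfus
  classical
  -- the normal `p`-complements
  have hex : ∀ p : (Nat.card H).primeFactors, ∃ Np : Subgroup G, Np.Normal ∧
      ∀ g : G, g ∈ Np ↔ Nat.Coprime (orderOf g) (p : ℕ) := by
    rintro ⟨p, hp⟩
    have hpp : p.Prime := Nat.prime_of_mem_primeFactors hp
    have : Fact p.Prime := ⟨hpp⟩
    obtain ⟨P, Np, hNp, hc⟩ := hasNormalPComplement_of_fusion H hH hHall hfus p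
      (Nat.dvd_of_mem_primeFactors hp)
    exact ⟨Np, hNp, fun g => Cfsg.Agent.Helper2.mem_normalPComplement_iff P Np hc g⟩
  choose Np hNpn hNpmem using hex
  have hidx : ∀ p : (Nat.card H).primeFactors, (Np p).index = (p : ℕ) ^ (Nat.card H).factorization p := by
    rintro ⟨p, hp⟩
    have hpp : p.Prime := Nat.prime_of_mem_primeFactors hp
    have : Fact p.Prime := ⟨hpp⟩
    obtain ⟨P, Np', hNp', hc'⟩ := hasNormalPComplement_of_fusion H hH hHall hfus p
      (Nat.dvd_of_mem_primeFactors hp)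
    have heq : Np ⟨p, hp⟩ = Np' := by
      ext g
      rw [hNpmem, Cfsg.Agent.Helper2.mem_normalPComplement_iff P Np' hc' g]
    rw [heq, hc'.symm.index_eq_card, P.card_eq_multiplicity]
    congr 1
    have hnd : ¬ p ∣ H.index := by
      intro h
      have := Nat.dvd_gcd (Nat.dvd_of_mem_primeFactors hp) h
      rw [hHall] at this
      exact hpp.one_lt.ne' (Nat.dvd_one.mp this)
    rw [← Subgroup.card_mul_index H, Nat.factorization_mul Nat.card_pos.ne'
      Subgroup.index_ne_zero_of_finite]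
    simp [Nat.factorization_eq_zero_of_not_dvd hnd]
  refine ⟨⨅ p, Np p, Subgroup.normal_iInf_normal hNpn, ?_⟩
  -- disjointness
  have hdisj : Disjoint (⨅ p, Np p) H := by
    rw [disjoint_iff, eq_bot_iff]
    rintro g ⟨hgN, hgH⟩
    rw [Subgroup.mem_bot, ← orderOf_eq_one_iff]
    have hdvd : orderOf g ∣ Nat.card H := by
      have := orderOf_dvd_natCard (⟨g, hgH⟩ : H)
      rwa [Subgroup.orderOf_mk] at this
    by_contra hne
    obtain ⟨q, hq, hqd⟩ := Nat.exists_prime_and_dvd hne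
    have hqH : q ∈ (Nat.card H).primeFactors :=
      Nat.mem_primeFactors.mpr ⟨hq, hqd.trans hdvd, Nat.card_pos.ne'⟩
    have h1 : g ∈ Np ⟨q, hqH⟩ := (Subgroup.mem_iInf.mp hgN) ⟨q, hqH⟩
    rw [hNpmem] at h1
    have h2 : q ∣ 1 := by
      have := Nat.dvd_gcd hqd (dvd_refl q)
      rwa [show Nat.gcd (orderOf g) q = 1 from h1] at this
    exact hq.one_lt.ne' (Nat.dvd_one.mp h2)
  apply Subgroup.isComplement'_of_card_mul_and_disjoint _ hdisj
  -- cardinalities
  have hle1 : (⨅ p, Np p).index ≤ Nat.card H := by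
    refine (Subgroup.index_iInf_le Np).trans (le_of_eq ?_)
    simp_rw [hidx]
    have := Nat.factorization_prod_pow_eq_self (Nat.card_pos (α := H)).ne'
    rw [Finsupp.prod, Nat.support_factorization] at this
    rw [← Finset.prod_attach] at this
    exact this
  have hle2 : Nat.card (⨅ p, Np p : Subgroup G) * Nat.card H ≤ Nat.card G := by
    have hinj := Subgroup.mul_injective_of_disjoint hdisj
    have := Nat.card_le_card_of_injective _ hinj
    rwa [Nat.card_prod] at this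
  have h3 := Subgroup.card_mul_index (⨅ p, Np p : Subgroup G)
  have h4 : Nat.card (⨅ p, Np p : Subgroup G) * (⨅ p, Np p).index ≤
      Nat.card (⨅ p, Np p : Subgroup G) * Nat.card H := Nat.mul_le_mul_left _ hle1
  omega

end Cfsg.Agent.S0079
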