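import Cfsg.Statements.S0080

set_option autoImplicit false
open Cfsg

namespace Cfsg.Agent.S0080

open scoped commutatorElement IsMulCommutative

/-- When the index of H is prime to the order of H/H', the focal subgroup of H is G' ∩ H, and H/(G' ∩ H) has a normal complement. -/
theorem result {G : Type*} [Group G] [Finite G] (H : Subgroup G) (h : Nat.Coprime H.index (⁅H, H⁆.relIndex H)) : Subgroup.focalSubgroup H = commutator G ⊓ H ∧ ∃ N : Subgroup G, N.Normal ∧ N ⊓ H = commutator G ⊓ H ∧ N ⊔ H = ⊤ := by
  -- the abelian quotient A = H / H*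
  have hcard : Nat.card (H ⧸ H.focalSubgroupOf) ∣ ⁅H, H⁆.relIndex H := by
    have e1 : ⁅H, H⁆.relIndex H = (commutator H).index := by
      rw [Subgroup.relIndex, ← Subgroup.map_subtype_commutator]
      congr 1
      exact Subgroup.comap_map_eq_self_of_injective H.subtype_injective _
    rw [e1]
    exact Subgroup.index_dvd_of_le H.commutator_le_focalSubgroupOf
  have hcop : (Nat.card (H ⧸ H.focalSubgroupOf)).Coprime H.index :=
    (Nat.Coprime.coprime_dvd_right hcard h).symm
  have hinj : Function.Injective (fun y : H ⧸ H.focalSubgroupOf => y ^ H.index) :=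
    (powCoprime hcop).injective
  have hsurj : Function.Surjective (fun y : H ⧸ H.focalSubgroupOf => y ^ H.index) :=
    (powCoprime hcop).surjective
  -- kernel of V restricted to H
  have hker : ∀ g (hg : g ∈ H), H.transferFocal g = 1 → g ∈ H.focalSubgroup := by
    intro g hg hV
    have h1 := H.transferFocal_eq_pow ⟨g, hg⟩
    rw [show ((⟨g, hg⟩ : H) : G) = g from rfl, hV] at h1
    have h2 : (fun y : H ⧸ H.focalSubgroupOf => y ^ H.index) ((⟨g, hg⟩ : H) : H ⧸ H.focalSubgroupOf)
        = (fun y : H ⧸ H.focalSubgroupOf => y ^ H.index) 1 := by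
      simp only [one_pow]
      exact h1.symm
    have h3 := hinj h2
    rw [QuotientGroup.eq_one_iff, Subgroup.focalSubgroupOf_def, Subgroup.mem_subgroupOf] at h3
    exact h3
  have hcomm : commutator G ≤ H.transferFocal.ker :=
    Abelianization.commutator_subset_ker H.transferFocal
  have hfoc : Subgroup.focalSubgroup H = commutator G ⊓ H := by
    apply le_antisymm
    · exact le_inf H.focalSubgroup_le_commutator H.focalSubgroup_le
    · rintro g ⟨hg1, hg2⟩
      exact hker g hg2 (hcomm hg1)
  refine ⟨hfoc, H.transferFocal.ker, inferInstance, ?_, ?_⟩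
  · apply le_antisymm
    · rintro g ⟨hg1, hg2⟩
      rw [← hfoc]
      exact hker g hg2 hg1
    · exact inf_le_inf_right _ hcomm
  · rw [eq_top_iff]
    intro g _
    obtain ⟨y, hy⟩ := hsurj (H.transferFocal g)
    obtain ⟨x, hx⟩ := QuotientGroup.mk_surjective y
    have h1 : H.transferFocal x = H.transferFocal g := by
      rw [H.transferFocal_eq_pow x, hx]
      exact hy
    have h2 : g * (x : G)⁻¹ ∈ H.transferFocal.ker := by
      rw [MonoidHom.mem_ker, map_mul, map_inv, h1, mul_inv_cancel]
    have h3 : g = g * (x : G)⁻¹ * x := by group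
    rw [h3]
    exact Subgroup.mul_mem_sup h2 x.2
end Cfsg.Agent.S0080
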