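import Cfsg.Statements.S0082
import Cfsg.Agent.Lib.Helper2.PResidual
import Cfsg.Agent.Lib.Helper2.PComplement
import Cfsg.Agent.Lib.Helper2.CyclicSylow

set_option autoImplicit false
open Cfsg
open scoped commutatorElement

namespace Cfsg.Agent.S0082

/-- With a cyclic Sylow p-subgroup, either there is a normal p-complement or the elements of order prime to p generate the whole group. -/
theorem result {G : Type*} [Group G] [Finite G] {p : ℕ} [Fact p.Prime] (P : Sylow p G) (hP : IsCyclic P) : Cfsg.HasNormalPComplement p G ∨ Cfsg.pResidual p G = ⊤ := by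
  by_cases hNC : Subgroup.normalizer ((P : Subgroup G) : Set G) ≤
      Subgroup.centralizer ((P : Subgroup G) : Set G)
  · left
    exact Cfsg.Agent.Helper2.hasNormalPComplement_of_normalizer_le_centralizer P hNC
  · right
    obtain ⟨⟨t, htP⟩, ht⟩ := hP.exists_generator
    have hgen : ∀ x ∈ (P : Subgroup G), x ∈ Subgroup.zpowers t := by
      intro x hx
      obtain ⟨i, hi⟩ := Subgroup.mem_zpowers_iff.mp (ht ⟨x, hx⟩)
      refine Subgroup.mem_zpowers_iff.mpr ⟨i, ?_⟩
      have := congrArg Subtype.val hi
      simpa using this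
    have hcomm : ∀ a ∈ (P : Subgroup G), ∀ b ∈ (P : Subgroup G), a * b = b * a := by
      intro a ha b hb
      obtain ⟨i, rfl⟩ := Subgroup.mem_zpowers_iff.mp (hgen a ha)
      obtain ⟨j, rfl⟩ := Subgroup.mem_zpowers_iff.mp (hgen b hb)
      exact (((Commute.refl t).zpow_right j).zpow_left i).eq
    rw [SetLike.not_le_iff_exists] at hNC
    obtain ⟨n, hn, hnC⟩ := hNC
    have hnt : n * t * n⁻¹ ≠ t := by
      intro h
      apply hnC
      rw [Subgroup.mem_centralizer_iff]
      intro x hx
      obtain ⟨i, rfl⟩ := Subgroup.mem_zpowers_iff.mp (hgen x hx)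
      have h1 : Commute n t := by
        show n * t = t * n
        calc n * t = n * t * n⁻¹ * n := by group
          _ = t * n := by rw [h]
      exact ((h1.zpow_right i).eq).symm
    have hD : t * (n * t * n⁻¹)⁻¹ ∈ Cfsg.pResidual p G := by
      apply Cfsg.Agent.Helper2.commutator_le_pResidual_of_comm p (P : Subgroup G) P.not_dvd_index hcomm
      have : t * (n * t * n⁻¹)⁻¹ = ⁅t, n⁆ := by rw [commutatorElement_def]; group
      rw [this, commutator_def]
      exact Subgroup.commutator_mem_commutator (Subgroup.mem_top _) (Subgroup.mem_top _)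
    have htD := Cfsg.Agent.Helper2.cyclic_sylow_gen_mem P t htP hgen n hn hnt _ hD
    have hPle : (P : Subgroup G) ≤ Cfsg.pResidual p G := by
      intro x hx
      obtain ⟨i, rfl⟩ := Subgroup.mem_zpowers_iff.mp (hgen x hx)
      exact Subgroup.zpow_mem _ htD i
    rw [eq_top_iff, ← Cfsg.Agent.Helper2.sup_pResidual_eq_top p (P : Subgroup G) P.not_dvd_index]
    exact sup_le hPle le_rfl

end Cfsg.Agent.S0082
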