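import Cfsg.Statements.S0083
import Cfsg.Agent.Lib.Helper2.PComplement

set_option autoImplicit false
open Cfsg

namespace Cfsg.Agent.S0083

open Cfsg.Agent.Helper2

/-- For an abelian Sylow p-subgroup P, a normal p-complement exists exactly when the normalizer of P is an internal direct product of P with some subgroup. -/
theorem result {G : Type*} [Group G] [Finite G] {p : ℕ} [Fact p.Prime] (P : Sylow p G) (hP : IsMulCommutative P) : Cfsg.HasNormalPComplement p G ↔ ∃ Q : Subgroup G, Q ≤ Subgroup.centralizer (P : Set G) ∧ Q ⊓ (P : Subgroup G) = ⊥ ∧ Q ⊔ (P : Subgroup G) = Subgroup.normalizer (P : Set G) := by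
  have hPC : (P : Subgroup G) ≤ Subgroup.centralizer (P : Set G) := by
    intro x hx
    rw [Subgroup.mem_centralizer_iff]
    intro y hy
    have := hP.is_comm.comm (⟨y, hy⟩ : P) ⟨x, hx⟩
    exact congrArg Subtype.val this
  constructor
  · intro h
    obtain ⟨K, hKn, hKc⟩ := (hasNormalPComplement_iff P).mp h
    have hdisj : K ⊓ (P : Subgroup G) = ⊥ := disjoint_iff.mp hKc.disjoint
    refine ⟨Subgroup.normalizer (P : Set G) ⊓ K, ?_, ?_, ?_⟩
    · rintro q ⟨hqN, hqK⟩
      rw [Subgroup.mem_centralizer_iff]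
      intro x hx
      have hxP : x ∈ (P : Subgroup G) := hx
      have hqN' : q ∈ Subgroup.normalizer ((P : Subgroup G) : Set G) := hqN
      have h1 : q * x * q⁻¹ * x⁻¹ ∈ K := by
        have : q * x * q⁻¹ * x⁻¹ = q * (x * q⁻¹ * x⁻¹) := by group
        rw [this]
        exact K.mul_mem hqK (hKn.conj_mem _ (K.inv_mem hqK) x)
      have h2 : q * x * q⁻¹ * x⁻¹ ∈ (P : Subgroup G) := by
        apply Subgroup.mul_mem _ _ (Subgroup.inv_mem _ hxP)
        exact (Subgroup.mem_normalizer_iff.mp hqN' x).mp hxP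
      have h3 : q * x * q⁻¹ * x⁻¹ ∈ K ⊓ (P : Subgroup G) := ⟨h1, h2⟩
      rw [hdisj, Subgroup.mem_bot] at h3
      have : q * x = x * q := by
        calc q * x = (q * x * q⁻¹ * x⁻¹) * (x * q) := by group
          _ = x * q := by rw [h3, one_mul]
      exact this.symm
    · rw [eq_bot_iff, ← hdisj]
      rintro x ⟨⟨-, hxK⟩, hxP⟩
      exact ⟨hxK, hxP⟩
    · apply le_antisymm
      · exact sup_le inf_le_left Subgroup.le_normalizer
      · intro n hn
        obtain ⟨⟨⟨k, hk⟩, ⟨x, hx⟩⟩, hkx, -⟩ := hKc.existsUnique n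
        simp only at hkx
        have hxN : x ∈ Subgroup.normalizer (P : Set G) := Subgroup.le_normalizer hx
        have hkN : k ∈ Subgroup.normalizer (P : Set G) := by
          have : k = n * x⁻¹ := by rw [← hkx]; group
          rw [this]
          exact Subgroup.mul_mem _ hn (Subgroup.inv_mem _ hxN)
        rw [← hkx]
        exact Subgroup.mul_mem_sup ⟨hkN, hk⟩ hx
  · rintro ⟨Q, hQC, -, hQP⟩
    apply hasNormalPComplement_of_normalizer_le_centralizer P
    rw [← hQP]
    exact sup_le hQC hPC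
end Cfsg.Agent.S0083
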