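import Cfsg.Statements.S0084
import Cfsg.Agent.Lib.Helper2.PComplement
import Cfsg.Agent.Lib.Helper2.Automizer

set_option autoImplicit false
open Cfsg

namespace Cfsg.Agent.S0084

/-- A group whose Sylow 2-subgroups are Klein four-groups and whose order is prime to 3 has a normal 2-complement. -/
theorem result {G : Type*} [Group G] [Finite G] (T : Sylow 2 G) (hT : IsKleinFour T) (h3 : ¬ 3 ∣ Nat.card G) : Cfsg.HasNormalPComplement 2 G := by
  haveI : IsMulCommutative T := ⟨⟨mul_comm_of_exponent_two hT.exponent_two⟩⟩
  apply Cfsg.Agent.Helper2.hasNormalPComplement_of_normalizer_le_centralizer T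
  apply Cfsg.Agent.Helper2.normalizer_le_centralizer_of_orbit_count T
  intro q hq hqG hq2 d hd1 hd2 hd3
  rw [hT.card_four] at hd1 hd2 hd3
  have hq7 : q ≤ 4 := (Nat.le_of_dvd (by omega) hd3).trans (Nat.sub_le _ _)
  interval_cases d <;> interval_cases q <;> first | omega | (exfalso; revert hq; decide) | (exfalso; revert hd1; decide) | (exfalso; revert hd3; decide) | exact h3 hqG

end Cfsg.Agent.S0084
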