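import Cfsg.Statements.S0085
import Cfsg.Agent.Lib.Helper2.PComplement
import Cfsg.Agent.Lib.Helper2.Automizer

set_option autoImplicit false
open Cfsg

namespace Cfsg.Agent.S0085

/-- A group whose Sylow 2-subgroups are elementary abelian of order 8 and whose order is prime to 3 and to 7 has a normal 2-complement. -/
theorem result {G : Type*} [Group G] [Finite G] (T : Sylow 2 G) (h8 : Nat.card T = 8) (he : ∀ x : T, x * x = 1) (h3 : ¬ 3 ∣ Nat.card G) (h7 : ¬ 7 ∣ Nat.card G) : Cfsg.HasNormalPComplement 2 G := by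
  have hinv : ∀ x : T, x⁻¹ = x := fun x => inv_eq_of_mul_eq_one_right (he x)
  haveI : IsMulCommutative T := ⟨⟨fun a b => by
    calc a * b = (a * b)⁻¹ := (hinv _).symm
      _ = b⁻¹ * a⁻¹ := mul_inv_rev _ _
      _ = b * a := by rw [hinv, hinv]⟩⟩
  apply Cfsg.Agent.Helper2.hasNormalPComplement_of_normalizer_le_centralizer T
  apply Cfsg.Agent.Helper2.normalizer_le_centralizer_of_orbit_count T
  intro q hq hqG hq2 d hd1 hd2 hd3
  rw [h8] at hd1 hd2 hd3
  have hq7 : q ≤ 8 := (Nat.le_of_dvd (by omega) hd3).trans (Nat.sub_le _ _)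
  interval_cases d <;> interval_cases q <;> first | omega | (exfalso; revert hq; decide) | (exfalso; revert hd1; decide) | (exfalso; revert hd3; decide) | exact h3 hqG | exact h7 hqG

end Cfsg.Agent.S0085
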