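import Cfsg.Statements.S0087
import Cfsg.Agent.Lib.Helper1.SZ

set_option autoImplicit false
open Cfsg

namespace Cfsg.Agent.S0087

open scoped Pointwise IsMulCommutative

universe u

/-- conjugation-invariance of the "no fusion" property, from a normal complement in the centralizer. -/
theorem no_fusion_step {G : Type u} [Group G] [Finite G] (H : Subgroup G)
    (hHall : Nat.Coprime (Nat.card H) H.index)
    (h : Subgroup.normalizer (H : Set G) ≤ Subgroup.centralizer (H : Set G))
    (ih : ∀ (X : Type u) [Group X] [Finite X], Nat.card X < Nat.card G → ∀ H' : Subgroup X,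
      Nat.Coprime (Nat.card H') H'.index →
      Subgroup.normalizer (H' : Set X) ≤ Subgroup.centralizer (H' : Set X) →
      ∃ N : Subgroup X, N.Normal ∧ N.IsComplement' H')
    (x g : G) (hx : x ∈ H) (hy : g⁻¹ * x * g ∈ H) : g⁻¹ * x * g = x := by
  have hab : ∀ a ∈ H, ∀ b ∈ H, a * b = b * a := by
    intro a ha b hb
    exact ((Subgroup.mem_centralizer_iff.mp (h (Subgroup.le_normalizer hb))) a ha)
  set y := g⁻¹ * x * g with hydef
  set C : Subgroup G := Subgroup.centralizer {y} with hC
  have hmemC : ∀ c, c ∈ C ↔ y * c = c * y := by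
    intro c
    rw [hC, Subgroup.mem_centralizer_iff]
    constructor
    · intro h1; exact h1 y rfl
    · intro h1 z hz; rw [Set.mem_singleton_iff] at hz; rw [hz]; exact h1
  by_cases hCtop : C = ⊤
  · have hg : g ∈ C := by rw [hCtop]; exact Subgroup.mem_top g
    have h1 : y * g = g * y := (hmemC g).mp hg
    calc y = g * y * g⁻¹ := by rw [← h1]; group
      _ = x := by rw [hydef]; group
  · have hClt : Nat.card C < Nat.card G := by
      have hidx : C.index ≠ 1 := fun h1 => hCtop (Subgroup.index_eq_one.mp h1)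
      have h2 := C.card_mul_index
      have hpos : 0 < Nat.card C := Nat.card_pos
      have hipos : 0 < C.index := Nat.pos_of_ne_zero Subgroup.index_ne_zero_of_finite
      have : 2 ≤ C.index := by omega
      nlinarith
    have hHC : H ≤ C := by
      intro a ha
      rw [hmemC]
      exact hab y hy a ha
    set Hg : Subgroup G := H.map (MulAut.conj g⁻¹).toMonoidHom with hHg
    have hmemHg : ∀ z, z ∈ Hg ↔ g * z * g⁻¹ ∈ H := by
      intro z
      constructor
      · rintro ⟨a, ha, rfl⟩
        have : g * ((MulAut.conj g⁻¹).toMonoidHom a) * g⁻¹ = a := by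
          simp [mul_assoc]
        rw [this]; exact ha
      · intro hz
        exact ⟨g * z * g⁻¹, hz, by simp [mul_assoc]⟩
    have hHgC : Hg ≤ C := by
      intro z hz
      rw [hmemC]
      have hz' := (hmemHg z).mp hz
      have h1 := hab x hx _ hz'
      -- x * (g z g⁻¹) = (g z g⁻¹) * x  ⇒ y * z = z * y
      calc y * z = g⁻¹ * (x * (g * z * g⁻¹)) * g := by rw [hydef]; group
        _ = g⁻¹ * ((g * z * g⁻¹) * x) * g := by rw [h1]
        _ = z * y := by rw [hydef]; group
    -- work inside C
    set H' : Subgroup C := H.subgroupOf C with hH'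
    set Hg' : Subgroup C := Hg.subgroupOf C with hHg'
    have hcardH' : Nat.card H' = Nat.card H := Nat.card_congr (Subgroup.subgroupOfEquivOfLe hHC).toEquiv
    have hcardHg : Nat.card Hg = Nat.card H :=
      Subgroup.card_map_of_injective (MulAut.conj g⁻¹).injective
    have hcardHg' : Nat.card Hg' = Nat.card H := by
      rw [← hcardHg]
      exact Nat.card_congr (Subgroup.subgroupOfEquivOfLe hHgC).toEquiv
    have hH'idx : H'.index ∣ H.index := Subgroup.relIndex_dvd_index_of_le hHC
    have hH'Hall : Nat.Coprime (Nat.card H') H'.index := by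
      rw [hcardH']
      exact Nat.Coprime.coprime_dvd_right hH'idx hHall
    have hH'NC : Subgroup.normalizer (H' : Set C) ≤ Subgroup.centralizer (H' : Set C) := by
      intro c hc
      rw [hH', ← Subgroup.subgroupOf_normalizer_eq hHC, Subgroup.mem_subgroupOf] at hc
      have hc' := h hc
      rw [Subgroup.mem_centralizer_iff] at hc' ⊢
      intro a ha
      apply Subtype.ext
      exact hc' a (Subgroup.mem_subgroupOf.mp ha)
    obtain ⟨K, hKn, hKc⟩ := ih C hClt H' hH'Hall hH'NC
    have hKcard : Nat.card K = H'.index := hKc.index_eq_card.symm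
    have hcop : (Nat.card K).Coprime (Nat.card H') := by
      rw [hKcard]; exact hH'Hall.symm
    have hKc2 : K.IsComplement' Hg' := by
      apply Subgroup.isComplement'_of_coprime
      · rw [hcardHg', ← hcardH']; exact hKc.card_mul_card
      · rw [hcardHg', ← hcardH']; exact hcop
    have hsolv : Group.IsSolvable H' := by
      apply Group.isSolvable_of_comm
      intro a b
      apply Subtype.ext
      apply Subtype.ext
      exact hab _ (Subgroup.mem_subgroupOf.mp a.2) _ (Subgroup.mem_subgroupOf.mp b.2)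
    obtain ⟨c, hc⟩ := Cfsg.Agent.Helper1.sz_conj K H' Hg' hcop (Or.inr hsolv) hKc hKc2
    -- g * c normalizes H
    have hmem1 : ∀ a ∈ H, (c : G) * a * (c : G)⁻¹ ∈ Hg := by
      intro a ha
      have h1 : (⟨a, hHC ha⟩ : C) ∈ H' := Subgroup.mem_subgroupOf.mpr ha
      have h2 : c * (⟨a, hHC ha⟩ : C) * c⁻¹ ∈ MulAut.conj c • H' :=
        ⟨_, h1, by simp [MulAut.smul_def, MulAut.conj_apply]⟩
      rw [hc] at h2
      exact Subgroup.mem_subgroupOf.mp h2
    have hmem2 : ∀ z ∈ Hg, (c : G)⁻¹ * z * (c : G) ∈ H := by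
      intro z hz
      have hzC : z ∈ C := hHgC hz
      have h1 : (⟨z, hzC⟩ : C) ∈ Hg' := Subgroup.mem_subgroupOf.mpr hz
      rw [← hc] at h1
      obtain ⟨a, ha, hae⟩ := h1
      have hae' : (c : G) * (a : G) * (c : G)⁻¹ = z := by
        have := congrArg Subtype.val hae
        simpa [MulAut.smul_def, MulAut.conj_apply] using this
      have : (c : G)⁻¹ * z * (c : G) = a := by rw [← hae']; group
      rw [this]
      exact Subgroup.mem_subgroupOf.mp ha
    have hgcN : g * (c : G) ∈ Subgroup.normalizer (H : Set G) := by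
      rw [Subgroup.mem_normalizer_iff]
      intro a
      constructor
      · intro ha
        have h1 := (hmemHg _).mp (hmem1 a ha)
        have : g * (c : G) * a * (g * (c : G))⁻¹ = g * ((c : G) * a * (c : G)⁻¹) * g⁻¹ := by group
        rw [this]; exact h1
      · intro ha
        have h1 : g⁻¹ * (g * (c : G) * a * (g * (c : G))⁻¹) * g ∈ Hg := by
          rw [hmemHg]
          have : g * (g⁻¹ * (g * (c : G) * a * (g * (c : G))⁻¹) * g) * g⁻¹
              = g * (c : G) * a * (g * (c : G))⁻¹ := by group
          rw [this]; exact ha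
        have h2 := hmem2 _ h1
        have : (c : G)⁻¹ * (g⁻¹ * (g * (c : G) * a * (g * (c : G))⁻¹) * g) * (c : G) = a := by group
        rwa [this] at h2
    have hgcC := h hgcN
    have h1 : x * (g * (c : G)) = g * (c : G) * x := (Subgroup.mem_centralizer_iff.mp hgcC) x hx
    have h2 : y * (c : G) = (c : G) * y := (hmemC c).mp c.2
    -- (gc)⁻¹ x (gc) = c⁻¹ y c = y and = x
    calc y = (c : G)⁻¹ * ((c : G) * y) := by group
      _ = (c : G)⁻¹ * (y * (c : G)) := by rw [h2]
      _ = (g * (c : G))⁻¹ * (x * (g * (c : G))) := by rw [hydef]; group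
      _ = (g * (c : G))⁻¹ * (g * (c : G) * x) := by rw [h1]
      _ = x := by group

theorem aux : ∀ (n : ℕ) (G : Type u) [Group G] [Finite G], Nat.card G = n → ∀ H : Subgroup G,
    Nat.Coprime (Nat.card H) H.index →
    Subgroup.normalizer (H : Set G) ≤ Subgroup.centralizer (H : Set G) →
    ∃ N : Subgroup G, N.Normal ∧ N.IsComplement' H := by
  intro n
  induction n using Nat.strong_induction_on with
  | _ n ih =>
  intro G _ _ hn H hHall h
  have hab : ∀ a ∈ H, ∀ b ∈ H, a * b = b * a := by
    intro a ha b hb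
    exact ((Subgroup.mem_centralizer_iff.mp (h (Subgroup.le_normalizer hb))) a ha)
  have hHc : IsMulCommutative H := ⟨⟨fun a b => Subtype.ext (hab a a.2 b b.2)⟩⟩
  have ih' : ∀ (X : Type u) [Group X] [Finite X], Nat.card X < Nat.card G → ∀ H' : Subgroup X,
      Nat.Coprime (Nat.card H') H'.index →
      Subgroup.normalizer (H' : Set X) ≤ Subgroup.centralizer (H' : Set X) →
      ∃ N : Subgroup X, N.Normal ∧ N.IsComplement' H' := by
    intro X _ _ hX H' h1 h2
    exact ih (Nat.card X) (hn ▸ hX) X rfl H' h1 h2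
  have key : ∀ (a : G), a ∈ H → ∀ (k : ℕ) (g₀ : G), g₀⁻¹ * a ^ k * g₀ ∈ H → g₀⁻¹ * a ^ k * g₀ = a ^ k := by
    intro a ha k g₀ hk
    exact no_fusion_step H hHall h ih' (a ^ k) g₀ (H.pow_mem ha k) hk
  let V : G →* H := MonoidHom.transfer (MonoidHom.id H)
  have hV : ∀ a (ha : a ∈ H), V a = ⟨a ^ H.index, H.pow_mem ha _⟩ := by
    intro a ha
    exact MonoidHom.transfer_eq_pow (MonoidHom.id H) a (key a ha)
  have hinj : Function.Injective (fun y : H => y ^ H.index) := (powCoprime hHall).injective
  have hsurj : Function.Surjective (fun y : H => y ^ H.index) := (powCoprime hHall).surjective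
  refine ⟨V.ker, inferInstance, ?_⟩
  apply Subgroup.isComplement'_of_disjoint_and_mul_eq_univ
  · rw [disjoint_iff, eq_bot_iff]
    rintro a ⟨ha1, ha2⟩
    rw [Subgroup.mem_bot]
    have h1 : V a = 1 := ha1
    rw [hV a ha2] at h1
    have h2 : (fun y : H => y ^ H.index) ⟨a, ha2⟩ = (fun y : H => y ^ H.index) 1 := by
      simp only [one_pow]
      rw [← h1]; rfl
    have h3 := hinj h2
    exact congrArg Subtype.val h3
  · rw [Set.eq_univ_iff_forall]
    intro g
    obtain ⟨b, hb⟩ := hsurj (V g)
    have h1 : V (b : G) = V g := by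
      rw [hV b b.2, ← hb]; rfl
    refine ⟨g * (b : G)⁻¹, ?_, b, b.2, by group⟩
    show g * (b : G)⁻¹ ∈ V.ker
    rw [MonoidHom.mem_ker, map_mul, map_inv, h1, mul_inv_cancel]

/-- A Hall subgroup that is central in its normalizer has a normal complement. -/
theorem result {G : Type*} [Group G] [Finite G] (H : Subgroup G) (hHall : Nat.Coprime (Nat.card H) H.index) (h : Subgroup.normalizer (H : Set G) ≤ Subgroup.centralizer (H : Set G)) : ∃ N : Subgroup G, N.Normal ∧ N.IsComplement' H :=
  aux _ G rfl H hHall h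

end Cfsg.Agent.S0087
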