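import Cfsg.Statements.S0089
import Cfsg.Agent.S0088

set_option autoImplicit false
open Cfsg

namespace Cfsg.Agent.S0089

/-- When all Sylow subgroups are abelian, the derived subgroup meets the centre trivially. -/
theorem result {G : Type*} [Group G] [Finite G] (h : ∀ p : ℕ, p.Prime → ∀ P : Sylow p G, IsMulCommutative P) : commutator G ⊓ Subgroup.center G = ⊥ := by
  rw [eq_bot_iff]
  rintro z ⟨hzC, hzZ⟩
  rw [Subgroup.mem_bot]
  by_contra hz1
  have hord : orderOf z ≠ 1 := fun h1 => hz1 (orderOf_eq_one_iff.mp h1)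
  obtain ⟨p, hp, hpz⟩ := Nat.exists_prime_and_dvd hord
  have : Fact p.Prime := ⟨hp⟩
  obtain ⟨m, hm⟩ := hpz
  set w := z ^ m with hw
  have hwC : w ∈ commutator G := Subgroup.pow_mem _ hzC m
  have hwZ : w ∈ Subgroup.center G := Subgroup.pow_mem _ hzZ m
  have hzpos : 0 < orderOf z := orderOf_pos z
  have hmpos : 0 < m := by
    rcases Nat.eq_zero_or_pos m with h0 | h0
    · rw [h0, mul_zero] at hm; omega
    · exact h0
  have hwp : w ^ p = 1 := by
    rw [hw, ← pow_mul, mul_comm, ← hm, pow_orderOf_eq_one]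
  have hw1 : w ≠ 1 := by
    intro hw1
    have : orderOf z ∣ m := orderOf_dvd_of_pow_eq_one hw1
    have hle : orderOf z ≤ m := Nat.le_of_dvd hmpos this
    have : p * m ≤ m := hm ▸ hle
    have hp2 : 2 ≤ p := hp.two_le
    nlinarith
  have hpg : IsPGroup p (Subgroup.zpowers w) := by
    apply IsPGroup.of_card (n := 1)
    rw [Nat.card_zpowers, pow_one]
    exact orderOf_eq_prime hwp hw1
  obtain ⟨P, hP⟩ := hpg.exists_le_sylow
  have hwP : w ∈ (P : Subgroup G) := hP (Subgroup.mem_zpowers w)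
  have hHall : Nat.Coprime (Nat.card (P : Subgroup G)) (P : Subgroup G).index := by
    obtain ⟨k, hk⟩ := (IsPGroup.iff_card.mp P.isPGroup')
    rw [hk]
    apply Nat.Coprime.pow_left
    exact (Nat.Prime.coprime_iff_not_dvd hp).mpr P.not_dvd_index
  have := Cfsg.Agent.S0088.result (P : Subgroup G) (h p hp P) hHall
  have hmem : w ∈ (P : Subgroup G) ⊓ commutator G ⊓ Subgroup.center G := ⟨⟨hwP, hwC⟩, hwZ⟩
  rw [this, Subgroup.mem_bot] at hmem
  exact hw1 hmem
end Cfsg.Agent.S0089
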