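import Cfsg.Statements.S0090
import Cfsg.Agent.S0080
import Cfsg.Agent.S0088
import Cfsg.Agent.Lib.Helper2.CyclicSylow

set_option autoImplicit false
open Cfsg
open scoped commutatorElement

namespace Cfsg.Agent.S0090

/-- An abelian normal Hall subgroup A splits as the internal direct product of G' ∩ A and Z(G) ∩ A, and [A, G] = G' ∩ A. -/
theorem result {G : Type*} [Group G] [Finite G] (A : Subgroup G) [A.Normal] (hc : IsMulCommutative A) (hHall : Nat.Coprime (Nat.card A) A.index) : ⁅A, (⊤ : Subgroup G)⁆ = commutator G ⊓ A ∧ (commutator G ⊓ A) ⊓ (Subgroup.center G ⊓ A) = ⊥ ∧ (commutator G ⊓ A) ⊔ (Subgroup.center G ⊓ A) = A := by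
  have hcomm : ∀ a ∈ A, ∀ b ∈ A, a * b = b * a := by
    intro a ha b hb
    exact congrArg Subtype.val (hc.is_comm.comm (⟨a, ha⟩ : A) ⟨b, hb⟩)
  have hAA : ⁅A, A⁆ = ⊥ := by
    rw [Subgroup.commutator_eq_bot_iff_le_centralizer]
    intro a ha b hb
    exact hcomm b hb a ha
  -- (i)
  have h1 : ⁅A, (⊤ : Subgroup G)⁆ = commutator G ⊓ A := by
    apply le_antisymm
    · refine le_inf ?_ (Subgroup.commutator_le_left A ⊤)
      rw [commutator_def]
      exact Subgroup.commutator_mono le_top le_rfl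
    · have hcop : Nat.Coprime A.index (⁅A, A⁆.relIndex A) := by
        rw [hAA, Subgroup.relIndex_bot_left]
        exact hHall.symm
      rw [← (Cfsg.Agent.S0080.result A hcop).1, Subgroup.focalSubgroup_def, Subgroup.closure_le]
      rintro g ⟨_, x, hx, u, rfl⟩
      exact Subgroup.commutator_mem_commutator hx (Subgroup.mem_top u)
  -- (ii)
  have h2 : (commutator G ⊓ A) ⊓ (Subgroup.center G ⊓ A) = ⊥ := by
    rw [eq_bot_iff, ← Cfsg.Agent.S0088.result A hc hHall]
    rintro x ⟨⟨hx1, hx2⟩, hx3, _⟩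
    exact ⟨⟨hx2, hx1⟩, hx3⟩
  refine ⟨h1, h2, ?_⟩
  -- (iii)
  apply le_antisymm (sup_le inf_le_right inf_le_right)
  intro a ha
  rw [← h1]
  set D := ⁅A, (⊤ : Subgroup G)⁆ ⊔ (Subgroup.center G ⊓ A) with hD
  letI : CommGroup A := { (inferInstance : Group A) with mul_comm := hc.is_comm.comm }
  haveI : Fintype (G ⧸ A) := Fintype.ofFinite _
  let F : G ⧸ A → A := fun q => MulAut.conjNormal (Quotient.out q) ⟨a, ha⟩
  have hF : ∀ (t : G), F (t : G ⧸ A) = MulAut.conjNormal t ⟨a, ha⟩ := by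
    intro t
    have hb : (Quotient.out (t : G ⧸ A))⁻¹ * t ∈ A := by
      rw [← QuotientGroup.eq]
      exact QuotientGroup.out_eq' _
    apply Subtype.ext
    show ((MulAut.conjNormal (Quotient.out (t : G ⧸ A)) ⟨a, ha⟩ : A) : G) = ((MulAut.conjNormal t ⟨a, ha⟩ : A) : G)
    rw [MulAut.conjNormal_apply, MulAut.conjNormal_apply]
    set s := Quotient.out (t : G ⧸ A) with hs
    have h3 : (s⁻¹ * t) * a = a * (s⁻¹ * t) := hcomm _ hb _ ha
    have h4 : t = s * (s⁻¹ * t) := by group
    show s * a * s⁻¹ = t * a * t⁻¹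
    rw [h4, mul_assoc s (s⁻¹ * t) a, h3]
    group
  set ν : A := ∏ q : G ⧸ A, F q with hν
  have hνZ : (ν : G) ∈ Subgroup.center G ⊓ A := by
    refine Subgroup.mem_inf.mpr ⟨?_, ν.2⟩
    rw [Subgroup.mem_center_iff]
    intro h
    have h5 : MulAut.conjNormal h ν = ν := by
      rw [hν, map_prod]
      apply Fintype.prod_equiv (MulAction.toPerm h)
      intro q
      induction q using QuotientGroup.induction_on with
      | H t =>
        rw [hF t]
        show _ = F ((h * t : G) : G ⧸ A)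
        rw [hF (h * t), map_mul]
        rfl
    have h6 := congrArg Subtype.val h5
    rw [MulAut.conjNormal_apply] at h6
    calc h * (ν : G) = h * (ν : G) * h⁻¹ * h := by group
      _ = (ν : G) * h := by rw [h6]
  have hprod : (⟨a, ha⟩ : A) ^ A.index * ν⁻¹ = ∏ q : G ⧸ A, ((⟨a, ha⟩ : A) * (F q)⁻¹) := by
    rw [Finset.prod_mul_distrib, Finset.prod_const, Finset.card_univ, Finset.prod_inv_distrib,
      Subgroup.index, Nat.card_eq_fintype_card]
  have hmemD : ((⟨a, ha⟩ : A) ^ A.index * ν⁻¹ : A) ∈ (⁅A, (⊤ : Subgroup G)⁆).subgroupOf A := by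
    rw [hprod]
    apply Subgroup.prod_mem
    intro q _
    rw [Subgroup.mem_subgroupOf]
    have : (((⟨a, ha⟩ : A) * (F q)⁻¹ : A) : G) = ⁅a, Quotient.out q⁆ := by
      show a * ((MulAut.conjNormal (Quotient.out q) ⟨a, ha⟩ : A) : G)⁻¹ = _
      rw [MulAut.conjNormal_apply, commutatorElement_def]
      group
    rw [this]
    exact Subgroup.commutator_mem_commutator ha (Subgroup.mem_top _)
  have hpow : a ^ A.index ∈ D := by
    have h7 : a ^ A.index = (((⟨a, ha⟩ : A) ^ A.index * ν⁻¹ : A) : G) * (ν : G) := by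
      simp
    rw [h7]
    exact Subgroup.mul_mem _ (Subgroup.mem_sup_left (Subgroup.mem_subgroupOf.mp hmemD))
      (Subgroup.mem_sup_right hνZ)
  have hpow2 : a ^ Nat.card A ∈ D := by
    have h : (⟨a, ha⟩ : A) ^ Nat.card A = 1 := pow_card_eq_one'
    have h' := congrArg Subtype.val h
    rw [Subgroup.coe_pow, Subgroup.coe_one] at h'
    rw [h']
    exact Subgroup.one_mem _
  exact Cfsg.Agent.Helper2.mem_of_pow_mem_of_coprime D a hHall hpow2 hpow

end Cfsg.Agent.S0090
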