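import Cfsg.Statements.S0091

set_option autoImplicit false
open Cfsg

namespace Cfsg.Agent.S0091

open scoped commutatorElement

/-- If a nontrivial Sylow p-subgroup controls its own fusion then it is not contained in the derived subgroup. -/
theorem result {G : Type*} [Group G] [Finite G] {p : ℕ} [Fact p.Prime] (P : Sylow p G) (hp : p ∣ Nat.card G) (h : ∀ x ∈ P, ∀ y ∈ P, (∃ g : G, g * x * g⁻¹ = y) → ∃ z ∈ P, z * x * z⁻¹ = y) : ¬ (P : Subgroup G) ≤ commutator G := by
  intro hle
  have hfoc : commutator G ⊓ (P : Subgroup G) = (P : Subgroup G).focalSubgroup :=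
    Subgroup.commutator_inf_eq_focalSubgroup P
  rw [inf_eq_right.mpr hle] at hfoc
  have hfle : (P : Subgroup G).focalSubgroup ≤ ⁅(P : Subgroup G), (P : Subgroup G)⁆ := by
    rw [Subgroup.focalSubgroup_def, Subgroup.closure_le]
    rintro g ⟨hgP, x, hxP, u, rfl⟩
    -- ⁅x, u⁆ = x * u * x⁻¹ * u⁻¹
    have hx' : x⁻¹ ∈ (P : Subgroup G) := Subgroup.inv_mem _ hxP
    have hconj : u * x⁻¹ * u⁻¹ ∈ (P : Subgroup G) := by
      have : u * x⁻¹ * u⁻¹ = x⁻¹ * ⁅x, u⁆ := by
        rw [commutatorElement_def]; group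
      rw [this]
      exact Subgroup.mul_mem _ hx' hgP
    obtain ⟨z, hzP, hz⟩ := h x⁻¹ hx' (u * x⁻¹ * u⁻¹) hconj ⟨u, rfl⟩
    have : ⁅x, u⁆ = ⁅x, z⁆ := by
      rw [commutatorElement_def, commutatorElement_def, mul_assoc (x * u), mul_assoc x u, ← mul_assoc u,
        ← hz]
      group
    rw [SetLike.mem_coe, this]
    exact Subgroup.commutator_mem_commutator hxP hzP
  have hPP : (P : Subgroup G) ≤ ⁅(P : Subgroup G), (P : Subgroup G)⁆ := by
    calc (P : Subgroup G) = (P : Subgroup G).focalSubgroup := hfoc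
      _ ≤ _ := hfle
  have hnil : Group.IsNilpotent (P : Subgroup G) := P.isPGroup'.isNilpotent
  have hnt : Nontrivial (P : Subgroup G) := by
    rw [Subgroup.nontrivial_iff_ne_bot]
    exact P.ne_bot_of_dvd_card hp
  have hlt : commutator (P : Subgroup G) < ⊤ :=
    Group.IsSolvable.commutator_lt_top_of_nontrivial (P : Subgroup G)
  have hlt' : ⁅(P : Subgroup G), (P : Subgroup G)⁆ < (P : Subgroup G) := by
    rw [← Subgroup.map_subtype_commutator]
    conv_rhs => rw [← (P : Subgroup G).range_subtype, MonoidHom.range_eq_map]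
    exact Subgroup.map_subtype_lt_map_subtype.mpr hlt
  exact absurd hPP (not_le_of_gt hlt')
end Cfsg.Agent.S0091
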