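import Cfsg.Statements.S0093
import Cfsg.Agent.Lib.Helper47.Frat
import Cfsg.Agent.Lib.Helper2.Nilpotent

set_option autoImplicit false
open Cfsg

namespace Cfsg.Agent.S0093

open scoped commutatorElement

/-- Every finite p-group has a critical subgroup: a characteristic subgroup H whose Frattini subgroup and whose commutator with the whole group lie in the centre of H, and whose centralizer is contained in H. -/
theorem result {P : Type*} [Group P] [Finite P] {p : ℕ} [Fact p.Prime] (hP : IsPGroup p P) : ∃ H : Subgroup P, H.Characteristic ∧ (frattini H).map H.subtype ≤ Subgroup.centralizer (H : Set P) ∧ ⁅H, (⊤ : Subgroup P)⁆ ≤ H ⊓ Subgroup.centralizer (H : Set P) ∧ Subgroup.centralizer (H : Set P) ≤ H := by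
  classical
  have hp : p.Prime := Fact.out
  -- a maximal characteristic abelian subgroup
  let S : Set (Subgroup P) := {M | M.Characteristic ∧ ∀ a ∈ M, ∀ b ∈ M, a * b = b * a}
  have hSne : S.Nonempty := ⟨⊥, Subgroup.botCharacteristic, by
    intro a ha b hb
    rw [Subgroup.mem_bot] at ha hb
    rw [ha, hb]⟩
  obtain ⟨M, ⟨hMc, hMab⟩, hMmax⟩ := (wellFounded_gt (α := Subgroup P)).has_min S hSne
  have hMn : M.Normal := Subgroup.normal_of_characteristic M
  set C := Subgroup.centralizer (M : Set P) with hC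
  have hCc : C.Characteristic := Subgroup.characteristic_centralizer
  have hMC : M ≤ C := by
    intro a ha
    rw [hC, Subgroup.mem_centralizer_iff]
    intro b hb
    exact hMab b hb a ha
  let π := QuotientGroup.mk' M
  have hπs : Function.Surjective π := QuotientGroup.mk'_surjective M
  have hπ1 : ∀ x, π x = 1 ↔ x ∈ M := fun x => QuotientGroup.eq_one_iff x
  let Ω : Subgroup (P ⧸ M) :=
    { carrier := {z | z ∈ Subgroup.center (P ⧸ M) ∧ z ^ p = 1}
      mul_mem' := by
        rintro a b ⟨ha1, ha2⟩ ⟨hb1, hb2⟩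
        refine ⟨Subgroup.mul_mem _ ha1 hb1, ?_⟩
        have hcomm : Commute a b := (Subgroup.mem_center_iff.mp ha1 b).symm
        rw [hcomm.mul_pow, ha2, hb2, one_mul]
      one_mem' := ⟨Subgroup.one_mem _, one_pow _⟩
      inv_mem' := by
        rintro a ⟨ha1, ha2⟩
        exact ⟨Subgroup.inv_mem _ ha1, by rw [inv_pow, ha2, inv_one]⟩ }
  have hΩ : ∀ z, z ∈ Ω ↔ z ∈ Subgroup.center (P ⧸ M) ∧ z ^ p = 1 := fun z => Iff.rfl
  set H : Subgroup P := C ⊓ Ω.comap π with hH
  have hmemH : ∀ x, x ∈ H ↔ x ∈ C ∧ (∀ g, (g * x)⁻¹ * (x * g) ∈ M) ∧ x ^ p ∈ M := by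
    intro x
    rw [hH, Subgroup.mem_inf, Subgroup.mem_comap, hΩ, Subgroup.mem_center_iff]
    constructor
    · rintro ⟨h1, h2, h3⟩
      refine ⟨h1, ?_, ?_⟩
      · intro g
        have := h2 (π g)
        rw [← map_mul, ← map_mul] at this
        exact QuotientGroup.eq.mp this
      · rw [← hπ1, map_pow]; exact h3
    · rintro ⟨h1, h2, h3⟩
      refine ⟨h1, ?_, ?_⟩
      · intro z
        obtain ⟨g, rfl⟩ := hπs z
        rw [← map_mul, ← map_mul]
        exact QuotientGroup.eq.mpr (h2 g)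
      · rw [← map_pow, hπ1]; exact h3
  have hHΩ : ∀ x ∈ H, π x ∈ Subgroup.center (P ⧸ M) ∧ (π x) ^ p = 1 := by
    intro x hx
    have h2 : x ∈ Ω.comap π := (Subgroup.mem_inf.mp hx).2
    exact (hΩ _).mp (Subgroup.mem_comap.mp h2)
  have hMH : M ≤ H := by
    intro x hx
    rw [hmemH]
    refine ⟨hMC hx, ?_, M.pow_mem hx p⟩
    intro g
    have : (g * x)⁻¹ * (x * g) = x⁻¹ * (g⁻¹ * x * g) := by group
    rw [this]
    have h1 : g⁻¹ * x * g ∈ M := by
      have := hMn.conj_mem x hx g⁻¹
      rwa [inv_inv] at this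
    exact M.mul_mem (M.inv_mem hx) h1
  have hHC : H ≤ C := inf_le_left
  -- M centralizes H
  have hMcH : M ≤ Subgroup.centralizer (H : Set P) := by
    intro m hm
    rw [Subgroup.mem_centralizer_iff]
    intro h hh
    have := (Subgroup.mem_centralizer_iff.mp (hHC hh)) m hm
    exact this.symm
  -- H is characteristic
  have hHc : H.Characteristic := by
    rw [Subgroup.characteristic_iff_le_comap]
    intro φ x hx
    rw [Subgroup.mem_comap]
    have hMφ : ∀ y, φ y ∈ M ↔ y ∈ M := by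
      intro y
      have h1 : y ∈ M.comap φ.toMonoidHom ↔ y ∈ M := by rw [hMc.fixed φ]
      exact h1
    have hCφ : ∀ y, φ y ∈ C ↔ y ∈ C := by
      intro y
      have h1 : y ∈ C.comap φ.toMonoidHom ↔ y ∈ C := by rw [hCc.fixed φ]
      exact h1
    obtain ⟨h1, h2, h3⟩ := (hmemH x).mp hx
    show φ x ∈ H
    rw [hmemH]
    refine ⟨(hCφ x).mpr h1, ?_, ?_⟩
    · intro g
      obtain ⟨g₀, rfl⟩ := φ.surjective g
      have : (φ g₀ * φ x)⁻¹ * (φ x * φ g₀) = φ ((g₀ * x)⁻¹ * (x * g₀)) := by
        simp only [map_mul, map_inv]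
      rw [this, hMφ]
      exact h2 g₀
    · rw [← map_pow, hMφ]; exact h3
  refine ⟨H, hHc, ?_, ?_, ?_⟩
  · -- Frattini
    let φ : H →* P ⧸ M := π.comp H.subtype
    have hcomm : ∀ x y : H, φ x * φ y = φ y * φ x := by
      intro x y
      exact (Subgroup.mem_center_iff.mp (hHΩ x x.2).1 (φ y)).symm
    have hpow : ∀ x : H, φ x ^ p = 1 := by
      intro x
      exact (hHΩ x x.2).2
    have hfr := Cfsg.Agent.Helper47.frattini_le_ker_of_elementary (p := p) φ hcomm hpow
    rintro _ ⟨x, hx, rfl⟩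
    apply hMcH
    have := hfr hx
    rw [MonoidHom.mem_ker] at this
    exact (hπ1 _).mp this
  · -- commutator
    have h1 : ⁅H, (⊤ : Subgroup P)⁆ ≤ M := by
      rw [Subgroup.commutator_le]
      intro x hx g _
      rw [← hπ1, commutatorElement_def, map_mul, map_mul, map_mul, map_inv, map_inv]
      have := Subgroup.mem_center_iff.mp (hHΩ x hx).1 (π g)
      rw [← this]; group
    exact h1.trans (le_inf hMH hMcH)
  · -- self-centralizing
    by_contra hK
    set K := Subgroup.centralizer (H : Set P) with hKdef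
    have hKc : K.Characteristic := Subgroup.characteristic_centralizer
    have hKn : K.Normal := Subgroup.normal_of_characteristic K
    have hKHc : (K ⊓ H).Characteristic := Subgroup.characteristic_inf
    have hKHab : ∀ a ∈ K ⊓ H, ∀ b ∈ K ⊓ H, a * b = b * a := by
      intro a ha b hb
      exact ((Subgroup.mem_centralizer_iff.mp ha.1) b hb.2).symm
    have hMKH : M ≤ K ⊓ H := le_inf hMcH hMH
    have hKHM : K ⊓ H = M := by
      by_contra hne
      have hlt : M < K ⊓ H := lt_of_le_of_ne hMKH (Ne.symm hne)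
      exact hMmax (K ⊓ H) ⟨hKHc, hKHab⟩ hlt
    have hKC : K ≤ C := Subgroup.centralizer_le (SetLike.coe_subset_coe.mpr hMH)
    -- image of K in P/M
    have hKbn : (K.map π).Normal := hKn.map π hπs
    have hKbne : K.map π ≠ ⊥ := by
      intro hbot
      apply hK
      intro k hk
      apply hMH
      rw [← hπ1]
      have : π k ∈ K.map π := ⟨k, hk, rfl⟩
      rw [hbot] at this
      exact Subgroup.mem_bot.mp this
    have hPMp : IsPGroup p (P ⧸ M) := hP.to_quotient M
    have hnil : Group.IsNilpotent (P ⧸ M) := hPMp.isNilpotent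
    have hne := Cfsg.Agent.Helper2.normal_inf_center_ne_bot (K.map π) hKbne
    have hZp : IsPGroup p (K.map π ⊓ Subgroup.center (P ⧸ M) : Subgroup (P ⧸ M)) :=
      hPMp.to_subgroup _
    have hnt : Nontrivial (K.map π ⊓ Subgroup.center (P ⧸ M) : Subgroup (P ⧸ M)) :=
      (Subgroup.nontrivial_iff_ne_bot _).mpr hne
    obtain ⟨j, hj0, hj⟩ := (hZp.nontrivial_iff_card).mp hnt
    have hdvd : p ∣ Nat.card (K.map π ⊓ Subgroup.center (P ⧸ M) : Subgroup (P ⧸ M)) := by
      rw [hj]; exact dvd_pow_self p hj0.ne'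
    obtain ⟨⟨z, hzK, hzZ⟩, hzo⟩ := exists_prime_orderOf_dvd_card' p hdvd
    have hzo' : orderOf z = p := by rw [← hzo, ← Subgroup.orderOf_coe]
    have hzp : z ^ p = 1 := by rw [← hzo']; exact pow_orderOf_eq_one z
    have hz1 : z ≠ 1 := by
      intro h1; rw [h1, orderOf_one] at hzo'; exact hp.one_lt.ne hzo'
    obtain ⟨k, hk, rfl⟩ := hzK
    have hkH : k ∈ H := by
      rw [hH, Subgroup.mem_inf, Subgroup.mem_comap, hΩ]
      exact ⟨hKC hk, hzZ, hzp⟩
    have hkM : k ∈ M := by rw [← hKHM]; exact ⟨hk, hkH⟩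
    exact hz1 ((hπ1 k).mpr hkM)
end Cfsg.Agent.S0093
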