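import Cfsg.Statements.S0094
import Cfsg.Agent.Lib.Helper2.PGroup
import Cfsg.Agent.Lib.Helper87.OmegaLemma

set_option autoImplicit false
open Cfsg
open scoped commutatorElement

namespace Cfsg.Agent.S0094

/-- In a special p-group every central element has order dividing p. -/
theorem result {P : Type*} [Group P] [Finite P] {p : ℕ} [Fact p.Prime] (h : Cfsg.IsSpecial p P) (z : P) (hz : z ∈ Subgroup.center P) : z ^ p = 1 := by
  obtain ⟨hP, hΦ, hD⟩ := h
  have hkey : ∀ g ∈ commutator P, g ^ p = 1 := by
    intro g hg
    rw [commutator_def, Subgroup.commutator_def] at hg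
    induction hg using Subgroup.closure_induction with
    | mem g hg =>
      obtain ⟨a, -, b, -, rfl⟩ := hg
      have hc : ⁅a, b⁆ ∈ Subgroup.center P := by
        rw [← hD, commutator_def]
        exact Subgroup.commutator_mem_commutator (Subgroup.mem_top _) (Subgroup.mem_top _)
      have hcy : Commute ⁅a, b⁆ a⁻¹ := (Subgroup.mem_center_iff.mp hc a⁻¹).symm
      have h3 := Cfsg.Agent.Helper87.comm_pow_class_two b⁻¹ a⁻¹ ⁅a, b⁆
        (by rw [commutatorElement_def]; group) hcy p
      have h4 : (a⁻¹) ^ p ∈ Subgroup.center P := by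
        rw [← hΦ]; exact Cfsg.Agent.Helper2.pow_mem_frattini hP _
      have h5 : (a⁻¹) ^ p * b = b * (a⁻¹) ^ p := (Subgroup.mem_center_iff.mp h4 b).symm
      rw [← h3, inv_inv, mul_assoc _ b, ← h5]
      group
    | one => exact one_pow p
    | mul x y hx hy hxp hyp =>
      have hxc : x ∈ Subgroup.center P := by
        rw [← hD, commutator_def, Subgroup.commutator_def]; exact hx
      have hcomm : Commute x y := (Subgroup.mem_center_iff.mp hxc y).symm
      rw [hcomm.mul_pow, hxp, hyp, one_mul]
    | inv x _ hx => rw [inv_pow, hx, inv_one]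
  exact hkey z (hD ▸ hz)

end Cfsg.Agent.S0094
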