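import Cfsg.Statements.S0096
import Cfsg.Agent.Lib.Helper87.OmegaLemma

set_option autoImplicit false
open Cfsg
open scoped commutatorElement

namespace Cfsg.Agent.S0096

/-- For odd p, in a p-group of class at most two the elements of order dividing p generate a subgroup of exponent dividing p. -/
theorem result {P : Type*} [Group P] [Finite P] {p : ℕ} [Fact p.Prime] (hp : p ≠ 2) (hP : IsPGroup p P) (h2 : ⁅commutator P, (⊤ : Subgroup P)⁆ = ⊥) (g : P) (hg : g ∈ Subgroup.closure {x : P | x ^ p = 1}) : g ^ p = 1 := by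
  have hpp : p.Prime := Fact.out
  have hcent : ∀ c ∈ commutator P, ∀ g : P, Commute c g := by
    intro c hc g
    have h1 : ⁅c, g⁆ ∈ ⁅commutator P, (⊤ : Subgroup P)⁆ :=
      Subgroup.commutator_mem_commutator hc (Subgroup.mem_top g)
    rw [h2, Subgroup.mem_bot] at h1
    exact (commutatorElement_eq_one_iff_commute).mp h1
  have hcomm : ∀ x y : P, y⁻¹ * x⁻¹ * y * x ∈ commutator P := by
    intro x y
    have h1 : ⁅y⁻¹, x⁻¹⁆ ∈ commutator P := by
      rw [commutator_def]
      exact Subgroup.commutator_mem_commutator (Subgroup.mem_top _) (Subgroup.mem_top _)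
    rw [commutatorElement_def] at h1
    simpa using h1
  induction hg using Subgroup.closure_induction with
  | mem x hx => exact hx
  | one => exact one_pow p
  | mul x y _ _ hx hy =>
    have hc := hcomm x y
    have hcx := hcent _ hc x
    have hcy := hcent _ hc y
    have h1 := Cfsg.Agent.Helper87.mul_pow_class_two x y _ rfl hcx hcy p
    have h3 := Cfsg.Agent.Helper87.comm_pow_class_two x y _ rfl hcy p
    rw [hy] at h3
    have h4 : (y⁻¹ * x⁻¹ * y * x) ^ p = 1 := by rw [← h3]; group
    obtain ⟨k, hk⟩ := Cfsg.Agent.Helper87.dvd_tri_of_odd_prime p hpp hp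
    rw [h1, hx, hy, hk, pow_mul, h4, one_pow, one_mul, one_mul]
  | inv x _ hx => rw [inv_pow, hx, inv_one]

end Cfsg.Agent.S0096
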