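-- Statement S0097: Omega_1 of an extraspecial p-group (p odd) has exponent p and index at most p.
import Cfsg.Statements.S0097
import Cfsg.Agent.S0094
import Cfsg.Agent.S0096
import Cfsg.Agent.Lib.Helper2.PGroup
import Cfsg.Agent.Lib.Helper87.OmegaLemma
import Mathlib

set_option autoImplicit false
open Cfsg
open scoped commutatorElement

namespace Cfsg.Agent.S0097

/-- For odd p and E extraspecial, the subgroup generated by the elements of order dividing p has exponent dividing p and index at most p. -/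
theorem result {E : Type*} [Group E] [Finite E] {p : ℕ} [Fact p.Prime] (hp : p ≠ 2) (h : Cfsg.IsExtraspecial p E) : (Subgroup.closure {x : E | x ^ p = 1}).index ≤ p ∧ ∀ g ∈ Subgroup.closure {x : E | x ^ p = 1}, g ^ p = 1 := by
  have hpp : p.Prime := Fact.out
  obtain ⟨hs, hcard⟩ := h
  have hs' := hs
  obtain ⟨hP, hΦ, hD⟩ := hs
  -- commutators are central
  have hcomm : ∀ x y : E, y⁻¹ * x⁻¹ * y * x ∈ Subgroup.center E := by
    intro x y
    have h1 : ⁅y⁻¹, x⁻¹⁆ ∈ commutator E := by
      rw [commutator_def]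
      exact Subgroup.commutator_mem_commutator (Subgroup.mem_top _) (Subgroup.mem_top _)
    rw [commutatorElement_def, hD] at h1
    simpa using h1
  have h2 : ⁅commutator E, (⊤ : Subgroup E)⁆ = ⊥ := by
    rw [eq_bot_iff, Subgroup.commutator_le]
    intro c hc g _
    rw [hD] at hc
    rw [Subgroup.mem_bot, commutatorElement_eq_one_iff_commute]
    exact (Subgroup.mem_center_iff.mp hc g).symm
  refine ⟨?_, fun g hg => Cfsg.Agent.S0096.result hp hP h2 g hg⟩
  -- the p-th power map is a homomorphism
  have hmul : ∀ x y : E, (x * y) ^ p = x ^ p * y ^ p := by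
    intro x y
    have hc := hcomm x y
    have hcx : Commute (y⁻¹ * x⁻¹ * y * x) x := (Subgroup.mem_center_iff.mp hc x).symm
    have hcy : Commute (y⁻¹ * x⁻¹ * y * x) y := (Subgroup.mem_center_iff.mp hc y).symm
    have h1 := Cfsg.Agent.Helper87.mul_pow_class_two x y _ rfl hcx hcy p
    have h4 : (y⁻¹ * x⁻¹ * y * x) ^ p = 1 := Cfsg.Agent.S0094.result hs' _ hc
    obtain ⟨k, hk⟩ := Cfsg.Agent.Helper87.dvd_tri_of_odd_prime p hpp hp
    rw [h1, hk, pow_mul, h4, one_pow, mul_one]
  let φ : E →* E := MonoidHom.mk' (fun x => x ^ p) hmul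
  have hker : φ.ker ≤ Subgroup.closure {x : E | x ^ p = 1} := by
    intro x hx
    apply Subgroup.subset_closure
    exact hx
  have hrange : φ.range ≤ Subgroup.center E := by
    rintro _ ⟨x, rfl⟩
    rw [← hΦ]
    exact Cfsg.Agent.Helper2.pow_mem_frattini hP x
  have h1 : (Subgroup.closure {x : E | x ^ p = 1}).index ∣ φ.ker.index :=
    Subgroup.index_dvd_of_le hker
  have h3 : φ.ker.index = Nat.card φ.range := Subgroup.index_ker φ
  have h4 : Nat.card φ.range ≤ Nat.card (Subgroup.center E) :=
    Subgroup.card_le_of_le hrange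
  have h5 : φ.ker.index ≠ 0 := Subgroup.index_ne_zero_of_finite
  have := Nat.le_of_dvd (Nat.pos_of_ne_zero h5) h1
  omega

end Cfsg.Agent.S0097
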