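import Cfsg.Statements.S0099
import Cfsg.Agent.Lib.Helper89.Classify.Cor

set_option autoImplicit false
open Cfsg

namespace Cfsg.Agent.S0099

open Cfsg.Agent.Helper89

/-- Among three extraspecial 2-groups of equal order, some two are isomorphic. -/
theorem result {E₁ : Type*} {E₂ : Type*} {E₃ : Type*} [Group E₁] [Group E₂] [Group E₃] [Finite E₁] [Finite E₂] [Finite E₃] (h₁ : Cfsg.IsExtraspecial 2 E₁) (h₂ : Cfsg.IsExtraspecial 2 E₂) (h₃ : Cfsg.IsExtraspecial 2 E₃) (h12 : Nat.card E₁ = Nat.card E₂) (h23 : Nat.card E₂ = Nat.card E₃) : Nonempty (E₁ ≃* E₂) ∨ Nonempty (E₂ ≃* E₃) ∨ Nonempty (E₁ ≃* E₃) := by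
  obtain ⟨c1, n, hG1, _, hc1, ht1⟩ := extraspecial_type h₁
  obtain ⟨c2, n2, hG2, _, hc2, ht2⟩ := extraspecial_type h₂
  obtain ⟨c3, n3, hG3, _, hc3, ht3⟩ := extraspecial_type h₃
  have e2 : n2 = n := pow_two_injective (by rw [← hc2, ← hc1, h12])
  have e3 : n3 = n := pow_two_injective (by rw [← hc3, ← hc1, h12, h23])
  subst e2
  subst e3
  rcases ht1 with p1 | m1 <;> rcases ht2 with p2 | m2 <;> rcases ht3 with p3 | m3
  · exact Or.inl (extraspecial_iso hG1 hG2 hc1 hc2 (Or.inl ⟨p1, p2⟩))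
  · exact Or.inl (extraspecial_iso hG1 hG2 hc1 hc2 (Or.inl ⟨p1, p2⟩))
  · exact Or.inr (Or.inr (extraspecial_iso hG1 hG3 hc1 hc3 (Or.inl ⟨p1, p3⟩)))
  · exact Or.inr (Or.inl (extraspecial_iso hG2 hG3 hc2 hc3 (Or.inr ⟨m2, m3⟩)))
  · exact Or.inr (Or.inl (extraspecial_iso hG2 hG3 hc2 hc3 (Or.inl ⟨p2, p3⟩)))
  · exact Or.inr (Or.inr (extraspecial_iso hG1 hG3 hc1 hc3 (Or.inr ⟨m1, m3⟩)))
  · exact Or.inl (extraspecial_iso hG1 hG2 hc1 hc2 (Or.inr ⟨m1, m2⟩))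
  · exact Or.inl (extraspecial_iso hG1 hG2 hc1 hc2 (Or.inr ⟨m1, m2⟩))

end Cfsg.Agent.S0099
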