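-- Statement S0101: in a perfect central extension the kernel meets a Sylow p-subgroup inside its Frattini subgroup.
import Cfsg.Statements.S0101
import Cfsg.Agent.Lib.Helper2.PGroup
import Mathlib

set_option autoImplicit false
open Cfsg

namespace Cfsg.Agent.S0101

/-- In a perfect central extension, the kernel meets each Sylow p-subgroup P inside the Frattini subgroup of P. -/
theorem result {H : Type*} {G : Type*} [Group H] [Group G] [Finite H] (σ : H →* G) (hσ : Function.Surjective σ) (hc : σ.ker ≤ Subgroup.center H) (hH : commutator H = ⊤) {p : ℕ} [Fact p.Prime] (P : Sylow p H) : σ.ker ⊓ (P : Subgroup H) ≤ (frattini P).map (P : Subgroup H).subtype := by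
  rintro z ⟨hzK, hzP⟩
  have hzZ : z ∈ Subgroup.center H := hc hzK
  have key : ∀ (k : ℕ) (g₀ : H), g₀⁻¹ * z ^ k * g₀ ∈ (P : Subgroup H) →
      g₀⁻¹ * z ^ k * g₀ = z ^ k := by
    intro k g₀ _
    have hzk : z ^ k ∈ Subgroup.center H := Subgroup.pow_mem _ hzZ k
    rw [Subgroup.mem_center_iff] at hzk
    rw [mul_assoc, ← hzk g₀, ← mul_assoc, inv_mul_cancel, one_mul]
  have h1 := MonoidHom.transfer_eq_pow
    (Abelianization.of : (P : Subgroup H) →* Abelianization (P : Subgroup H)) z key
  have h2 : MonoidHom.transfer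
      (Abelianization.of : (P : Subgroup H) →* Abelianization (P : Subgroup H)) z = 1 := by
    apply Abelianization.commutator_subset_ker
    rw [hH]; exact Subgroup.mem_top z
  rw [h2] at h1
  have h3 : (⟨z ^ (P : Subgroup H).index, MonoidHom.transfer_eq_pow_aux z key⟩ :
      (P : Subgroup H)) ∈ commutator (P : Subgroup H) := by
    rw [← Abelianization.ker_of, MonoidHom.mem_ker]
    exact h1.symm
  -- z is a power of z ^ index
  have hPp : IsPGroup p (P : Subgroup H) := P.isPGroup'
  set zP : (P : Subgroup H) := ⟨z, hzP⟩ with hzPdef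
  have h3' : zP ^ (P : Subgroup H).index ∈ commutator (P : Subgroup H) := by
    have : zP ^ (P : Subgroup H).index =
        ⟨z ^ (P : Subgroup H).index, MonoidHom.transfer_eq_pow_aux z key⟩ := by
      apply Subtype.ext
      simp [hzPdef]
    rw [this]; exact h3
  have hcop : ((P : Subgroup H).index).Coprime (orderOf zP) := by
    obtain ⟨k, hk⟩ := (IsPGroup.iff_orderOf.mp hPp) zP
    rw [hk]
    apply Nat.Coprime.pow_right
    rw [Nat.coprime_comm, Nat.Prime.coprime_iff_not_dvd Fact.out]
    exact P.not_dvd_index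
  obtain ⟨m, hm⟩ := exists_pow_eq_self_of_coprime hcop
  have h4 : zP ∈ commutator (P : Subgroup H) := by
    rw [← hm]; exact Subgroup.pow_mem _ h3' m
  have h5 : zP ∈ frattini (P : Subgroup H) := Cfsg.Agent.Helper2.commutator_le_frattini hPp h4
  exact ⟨zP, h5, rfl⟩

end Cfsg.Agent.S0101
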