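import Cfsg.Statements.S0104
import Cfsg.Agent.Lib.Helper2.Fusion

set_option autoImplicit false
open Cfsg

namespace Cfsg.Agent.S0104

open scoped Pointwise
open Cfsg.Agent.Helper2

/-- A subgroup Z of a Sylow p-subgroup P that is normalized by N_G(P) is weakly closed in P exactly when it is normal in every Sylow p-subgroup containing it. -/
theorem result {G : Type*} [Group G] [Finite G] {p : ℕ} [Fact p.Prime] (P : Sylow p G) (Z : Subgroup G) (hZP : Z ≤ (P : Subgroup G)) (hZN : Subgroup.normalizer (P : Set G) ≤ Subgroup.normalizer (Z : Set G)) : Cfsg.IsWeaklyClosed Z P ↔ ∀ R : Sylow p G, Z ≤ (R : Subgroup G) → (R : Subgroup G) ≤ Subgroup.normalizer (Z : Set G) := by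
  constructor
  · rintro ⟨-, hWC⟩ R hZR
    obtain ⟨w, hw⟩ := MulAction.exists_smul_eq G P R
    have h3 : Z.map (MulAut.conj w⁻¹).toMonoidHom = Z := by
      apply hWC
      rintro _ ⟨z, hz, rfl⟩
      have := hZR hz
      rw [← hw, mem_smul_sylow_iff] at this
      simpa [MulAut.conj_apply] using this
    have h5 : w⁻¹ ∈ Subgroup.normalizer (Z : Set G) :=
      Subgroup.mem_normalizer_iff_map_conj_eq.mpr h3
    have h6 : w ∈ Subgroup.normalizer (Z : Set G) := by
      have := Subgroup.inv_mem _ h5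
      rwa [inv_inv] at this
    intro r hr
    rw [← hw, mem_smul_sylow_iff] at hr
    have h7 : w⁻¹ * r * w ∈ Subgroup.normalizer (Z : Set G) :=
      hZN (Subgroup.le_normalizer hr)
    have h8 := Subgroup.mul_mem _ (Subgroup.mul_mem _ h6 h7) h5
    have : w * (w⁻¹ * r * w) * w⁻¹ = r := by group
    rwa [this] at h8
  · intro hR
    refine ⟨hZP, ?_⟩
    intro g hg
    have h1 : (P : Subgroup G) ≤ Subgroup.normalizer (Z : Set G) := hR P hZP
    have hZR : Z ≤ ((g⁻¹ • P : Sylow p G) : Subgroup G) := by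
      intro z hz
      rw [mem_smul_sylow_iff, inv_inv]
      apply hg
      exact ⟨z, hz, by simp [MulAut.conj_apply]⟩
    have h2 : ((g⁻¹ • P : Sylow p G) : Subgroup G) ≤ Subgroup.normalizer (Z : Set G) := hR _ hZR
    obtain ⟨c, hc⟩ := MulAction.exists_smul_eq (Subgroup.normalizer (Z : Set G))
      ((g⁻¹ • P).subtype h2) (P.subtype h1)
    simp_rw [Sylow.smul_subtype, Subgroup.smul_def, smul_smul] at hc
    have h3 : (c : G) * g⁻¹ ∈ Subgroup.normalizer (P : Set G) :=
      Sylow.smul_eq_iff_mem_normalizer.mp (Sylow.subtype_injective hc)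
    have h4 : (c : G) * g⁻¹ ∈ Subgroup.normalizer (Z : Set G) := hZN h3
    have h5 : g⁻¹ ∈ Subgroup.normalizer (Z : Set G) := by
      have := Subgroup.mul_mem _ (Subgroup.inv_mem _ c.2) h4
      simpa using this
    have h6 : g ∈ Subgroup.normalizer (Z : Set G) := by
      have := Subgroup.inv_mem _ h5
      rwa [inv_inv] at this
    exact Subgroup.mem_normalizer_iff_map_conj_eq.mp h6
end Cfsg.Agent.S0104
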