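-- Statement S0105: an abelian Sylow p-subgroup P gives a quotient of G isomorphic to P ∩ Z(N_G(P)).
import Cfsg.Statements.S0105
import Mathlib

set_option autoImplicit false
open Cfsg

namespace Cfsg.Agent.S0105

open scoped IsMulCommutative

section norm

variable {G : Type*} [Group G] [Finite G] (H : Subgroup G) [IsMulCommutative H]

/-- The finite group of automorphisms of `H` induced by its normalizer. -/
noncomputable def autRange : Subgroup (MulAut H) := H.normalizerMonoidHom.range

noncomputable instance : Fintype (autRange H) := Fintype.ofFinite _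

/-- The norm map of an abelian subgroup `H` with respect to the automorphisms induced by `N_G(H)`. -/
noncomputable def normHom : H →* H :=
  MonoidHom.mk' (fun x => ∏ a : autRange H, (a : MulAut H) x) (by
    intro x y
    simp only [map_mul]
    exact Finset.prod_mul_distrib)

theorem normHom_apply (x : H) : normHom H x = ∏ a : autRange H, (a : MulAut H) x := rfl

/-- The norm is fixed by every induced automorphism. -/
theorem normHom_fixed (b : autRange H) (x : H) : (b : MulAut H) (normHom H x) = normHom H x := by
  rw [normHom_apply, map_prod]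
  have : ∀ a : autRange H, (b : MulAut H) ((a : MulAut H) x) = ((b * a : autRange H) : MulAut H) x := by
    intro a; rfl
  simp only [this]
  exact Equiv.prod_comp (Equiv.mulLeft b) (fun a : autRange H => (a : MulAut H) x)

theorem normHom_mem_centralizer (x : H) :
    ((normHom H x : H) : G) ∈ Subgroup.centralizer (Subgroup.normalizer (H : Set G) : Set G) := by
  rw [Subgroup.mem_centralizer_iff]
  intro m hm
  have hb : H.normalizerMonoidHom ⟨m, hm⟩ ∈ autRange H := ⟨⟨m, hm⟩, rfl⟩
  have h1 := normHom_fixed H ⟨_, hb⟩ x
  have h2 := congrArg (Subtype.val : H → G) h1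
  simp only [Subgroup.normalizerMonoidHom_apply_apply_coe] at h2
  -- h2 : m * normHom H x * m⁻¹ = normHom H x
  calc m * (normHom H x : G) = m * (normHom H x : G) * m⁻¹ * m := by group
    _ = (normHom H x : G) * m := by rw [h2]

/-- On elements centralized by the normalizer, the norm is a power map. -/
theorem normHom_of_mem_centralizer (z : H)
    (hz : (z : G) ∈ Subgroup.centralizer (Subgroup.normalizer (H : Set G) : Set G)) :
    normHom H z = z ^ Nat.card (autRange H) := by
  rw [normHom_apply]
  have : ∀ a : autRange H, (a : MulAut H) z = z := by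
    rintro ⟨a, ⟨m, hm⟩, rfl⟩
    apply Subtype.ext
    simp only [Subgroup.normalizerMonoidHom_apply_apply_coe]
    rw [Subgroup.mem_centralizer_iff] at hz
    have := hz m hm
    rw [this]; group
  simp only [this, Finset.prod_const, Finset.card_univ, Nat.card_eq_fintype_card]

end norm

theorem card_autRange_coprime {G : Type*} [Group G] [Finite G] {p : ℕ} [Fact p.Prime]
    (P : Sylow p G) [IsMulCommutative P] :
    (Nat.card (autRange (P : Subgroup G))).Coprime p := by
  have h1 : Nat.card (autRange (P : Subgroup G)) =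
      (P : Subgroup G).normalizerMonoidHom.ker.index := (Subgroup.index_ker _).symm
  rw [h1, Subgroup.normalizerMonoidHom_ker]
  have h2 : (Subgroup.centralizer (P : Set G)).relIndex (Subgroup.normalizer (P : Set G)) ∣
      (P : Subgroup G).index :=
    (Subgroup.relIndex_dvd_of_le_left _ P.le_centralizer).trans
      (Subgroup.relIndex_dvd_index_of_le P.le_normalizer)
  apply Nat.Coprime.coprime_dvd_left h2
  rw [Nat.coprime_comm, Nat.Prime.coprime_iff_not_dvd Fact.out]
  exact P.not_dvd_index

/-- With an abelian Sylow p-subgroup P, some quotient of G is isomorphic to the part of P central in N_G(P). -/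
theorem result {G : Type*} [Group G] [Finite G] {p : ℕ} [Fact p.Prime] (P : Sylow p G) (hP : IsMulCommutative P) : ∃ (N : Subgroup G) (hN : N.Normal), Nonempty (G ⧸ N ≃* ((P : Subgroup G) ⊓ Subgroup.centralizer (Subgroup.normalizer (P : Set G) : Set G) : Subgroup G)) := by
  classical
  have hP' := hP
  set C : Subgroup G :=
    (P : Subgroup G) ⊓ Subgroup.centralizer (Subgroup.normalizer (P : Set G) : Set G) with hC
  let ψ' : (P : Subgroup G) →* C :=
    ((P : Subgroup G).subtype.comp (normHom (P : Subgroup G))).codRestrict C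
      (fun x => ⟨(normHom (P : Subgroup G) x).2, normHom_mem_centralizer (P : Subgroup G) x⟩)
  have hCcomm : IsMulCommutative C := ⟨⟨fun a b => by
    apply Subtype.ext
    have := mul_comm (⟨a.1, a.2.1⟩ : (P : Subgroup G)) ⟨b.1, b.2.1⟩
    have h2 := Subtype.ext_iff.mp this
    exact h2⟩⟩
  let f : G →* C := MonoidHom.transfer ψ'
  refine ⟨f.ker, inferInstance, ⟨QuotientGroup.quotientKerEquivOfSurjective f ?_⟩⟩
  intro c
  -- exponent prime to p
  have hcop : (Nat.card C).Coprime
      ((P : Subgroup G).index * Nat.card (autRange (P : Subgroup G))) := by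
    have hCP : Nat.card C ∣ Nat.card (P : Subgroup G) := Subgroup.card_dvd_of_le inf_le_left
    obtain ⟨k, hk⟩ := P.2.exists_card_eq
    rw [hk] at hCP
    apply Nat.Coprime.coprime_dvd_left hCP
    apply Nat.Coprime.pow_left
    apply Nat.Coprime.mul_right
    · rw [Nat.Prime.coprime_iff_not_dvd Fact.out]
      exact P.not_dvd_index
    · exact (card_autRange_coprime P).symm
  obtain ⟨z, hz⟩ := (powCoprime hcop).surjective c
  refine ⟨(z : G), ?_⟩
  have hzP : (z : G) ∈ (P : Subgroup G) := z.2.1
  have hzZ : (z : G) ∈ Subgroup.centralizer (Subgroup.normalizer (P : Set G) : Set G) := z.2.2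
  have key : ∀ (k : ℕ) (g₀ : G), g₀⁻¹ * (z : G) ^ k * g₀ ∈ (P : Subgroup G) →
      g₀⁻¹ * (z : G) ^ k * g₀ = (z : G) ^ k := by
    intro k g₀ hk
    obtain ⟨n, hn, hconj⟩ := P.conj_eq_normalizer_conj_of_mem ((z : G) ^ k) g₀
      (Subgroup.pow_mem _ hzP k) hk
    rw [hconj]
    have hzk : (z : G) ^ k ∈
        Subgroup.centralizer (Subgroup.normalizer (P : Set G) : Set G) :=
      Subgroup.pow_mem _ hzZ k
    rw [Subgroup.mem_centralizer_iff] at hzk
    have := hzk n hn
    rw [mul_assoc, ← this, ← mul_assoc, inv_mul_cancel, one_mul]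
  have h1 := MonoidHom.transfer_eq_pow ψ' (z : G) key
  show MonoidHom.transfer ψ' (z : G) = c
  rw [h1]
  apply Subtype.ext
  have hzn : (z : G) ^ (P : Subgroup G).index ∈ (P : Subgroup G) :=
    MonoidHom.transfer_eq_pow_aux (z : G) key
  have hznZ : (((⟨(z : G) ^ (P : Subgroup G).index, hzn⟩ : (P : Subgroup G)) : G)) ∈
      Subgroup.centralizer (Subgroup.normalizer (P : Set G) : Set G) :=
    Subgroup.pow_mem _ hzZ _
  have h2 := normHom_of_mem_centralizer (P : Subgroup G) ⟨(z : G) ^ (P : Subgroup G).index, hzn⟩ hznZ
  have h3 : ((ψ' ⟨(z : G) ^ (P : Subgroup G).index, hzn⟩ : C) : G) =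
      ((normHom (P : Subgroup G) ⟨(z : G) ^ (P : Subgroup G).index, hzn⟩ : (P : Subgroup G)) : G) := rfl
  rw [h3, h2]
  have h4 := congrArg (Subtype.val : C → G) hz
  simp only [powCoprime_apply, Subgroup.coe_pow] at h4
  rw [← h4, pow_mul]
  rfl

end Cfsg.Agent.S0105
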