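import Cfsg.Statements.S0107
import Mathlib
import Cfsg.Agent.Lib.Helper31.ThompsonTransfer

set_option autoImplicit false
open Cfsg

namespace Cfsg.Agent.S0107

open Cfsg.Agent.Helper31

theorem val_of_orderOf_r_two {m : ℕ} (hm : 1 ≤ m) (i : ZMod (2 ^ m))
    (h : orderOf (DihedralGroup.r i : DihedralGroup (2 ^ m)) = 2) : i.val = 2 ^ (m - 1) := by
  have hne : NeZero (2 ^ m) := ⟨by positivity⟩
  rw [DihedralGroup.orderOf_r] at h
  set d := Nat.gcd (2 ^ m) i.val with hd
  have hd1 : d ∣ 2 ^ m := Nat.gcd_dvd_left _ _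
  have hd2 : d ∣ i.val := Nat.gcd_dvd_right _ _
  have h2m : 2 ^ m = 2 * 2 ^ (m - 1) := by
    rw [← pow_succ']; congr 1; omega
  have hdm : 2 ^ m = 2 * d := by
    have := Nat.div_mul_cancel hd1
    rw [h] at this; exact this.symm
  have hdval : d = 2 ^ (m - 1) := by omega
  have hlt : i.val < 2 ^ m := ZMod.val_lt i
  obtain ⟨k, hk⟩ := hd2
  rw [hdval] at hk
  have hpos : 0 < 2 ^ (m - 1) := by positivity
  have hk2 : k < 2 := by
    by_contra hcon
    push Not at hcon
    have : 2 ^ (m - 1) * 2 ≤ 2 ^ (m - 1) * k := Nat.mul_le_mul_left _ hcon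
    omega
  interval_cases k
  · exfalso
    rw [mul_zero] at hk
    rw [hk, Nat.gcd_zero_right] at hd
    omega
  · rw [hk, mul_one]

theorem result {G : Type*} [Group G] [Finite G] (T : Sylow 2 G) (n : ℕ) (hn : 2 ≤ n) (hT : Nonempty ((T : Subgroup G) ≃* DihedralGroup (2 ^ n))) (hO : Cfsg.pResidual 2 G = ⊤) (x y : G) (hx : orderOf x = 2) (hy : orderOf y = 2) : ∃ g : G, g * x * g⁻¹ = y := by
  obtain ⟨e⟩ := hT
  have hne : NeZero (2 ^ n) := ⟨by positivity⟩
  set z : ↥(T : Subgroup G) := e.symm (DihedralGroup.r ((2 ^ (n - 1) : ℕ) : ZMod (2 ^ n))) with hz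
  let R : Subgroup (DihedralGroup (2 ^ n)) := Subgroup.zpowers (DihedralGroup.r 1)
  let M : Subgroup ↥(T : Subgroup G) := R.comap e.toMonoidHom
  have hR : R.index = 2 := by
    have h1 := Subgroup.card_mul_index R
    rw [DihedralGroup.nat_card, Nat.card_zpowers, DihedralGroup.orderOf_r_one] at h1
    have hpos : 0 < 2 ^ n := by positivity
    have : 2 ^ n * R.index = 2 ^ n * 2 := by rw [h1]; ring
    exact Nat.eq_of_mul_eq_mul_left hpos this
  have hM : M.index = 2 := by
    rw [Subgroup.index_comap_of_surjective R e.surjective]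
    exact hR
  have key : ∀ u : G, orderOf u = 2 → ∃ g : G, g * u * g⁻¹ = (z : G) := by
    intro u hu
    have hP : IsPGroup 2 (Subgroup.zpowers u) := by
      rw [IsPGroup.iff_card]
      exact ⟨1, by rw [Nat.card_zpowers, hu, pow_one]⟩
    obtain ⟨Q, hQ⟩ := hP.exists_le_sylow
    obtain ⟨g, hg⟩ := MulAction.exists_smul_eq G Q T
    have hu1 : g * u * g⁻¹ ∈ (T : Subgroup G) := by
      rw [← hg, Sylow.coe_subgroup_smul, Subgroup.mem_pointwise_smul_iff_inv_smul_mem]
      have : (MulAut.conj g)⁻¹ • (g * u * g⁻¹) = u := by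
        rw [MulAut.smul_def, ← map_inv, MulAut.conj_apply]; group
      rw [this]
      exact hQ (Subgroup.mem_zpowers u)
    have hconjo : ∀ (a w : G), orderOf (a * w * a⁻¹) = orderOf w := by
      intro a w
      have hs : SemiconjBy a w (a * w * a⁻¹) := by
        unfold SemiconjBy; group
      exact (hs.orderOf_eq).symm
    have hu1o : orderOf (g * u * g⁻¹) = 2 := by rw [hconjo, hu]
    obtain ⟨g2, h2, h2M⟩ := exists_conj_mem_of_index_two hO T M hM (g * u * g⁻¹) hu1o hu1
    have h2o : orderOf (g2 * (g * u * g⁻¹) * g2⁻¹) = 2 := by rw [hconjo, hu1o]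
    set w : ↥(T : Subgroup G) := ⟨g2 * (g * u * g⁻¹) * g2⁻¹, h2⟩ with hw
    have hwo : orderOf w = 2 := by
      have := Subgroup.orderOf_coe w
      rw [← this]; exact h2o
    have hew : e w ∈ R := h2M
    obtain ⟨k, hk⟩ := Subgroup.mem_zpowers_iff.mp hew
    rw [DihedralGroup.r_one_zpow] at hk
    have hewo : orderOf (e w) = 2 := by rw [MulEquiv.orderOf_eq, hwo]
    rw [← hk] at hewo
    have hval := val_of_orderOf_r_two (by omega : 1 ≤ n) _ hewo
    have hkz : ((k : ℤ) : ZMod (2 ^ n)) = ((2 ^ (n - 1) : ℕ) : ZMod (2 ^ n)) := by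
      apply ZMod.val_injective
      rw [hval, ZMod.val_natCast, Nat.mod_eq_of_lt]
      have : 2 ^ n = 2 * 2 ^ (n - 1) := by
        rw [← pow_succ']; congr 1; omega
      have hpos : 0 < 2 ^ (n - 1) := by positivity
      omega
    have hwz : w = z := by
      apply e.injective
      rw [hz, MulEquiv.apply_symm_apply, ← hk, hkz]
    refine ⟨g2 * g, ?_⟩
    have : (w : G) = (z : G) := by rw [hwz]
    rw [← this, hw]
    show g2 * g * u * (g2 * g)⁻¹ = g2 * (g * u * g⁻¹) * g2⁻¹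
    group
  obtain ⟨a, ha⟩ := key x hx
  obtain ⟨b, hb⟩ := key y hy
  refine ⟨b⁻¹ * a, ?_⟩
  have : y = b⁻¹ * (z : G) * b := by rw [← hb]; group
  rw [this, ← ha]; group

end Cfsg.Agent.S0107
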