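import Cfsg.Statements.S0110
import Cfsg.Agent.Lib.Helper2.HomCount

set_option autoImplicit false
open Cfsg
open scoped commutatorElement

namespace Cfsg.Agent.S0110

/-- In a p-group G, an extraspecial subgroup E with [G, E] ≤ Z(E) satisfies G = E C_G(E). -/
theorem result {G : Type*} [Group G] [Finite G] {p : ℕ} [Fact p.Prime] (hG : IsPGroup p G) (E : Subgroup G) (hE : Cfsg.IsExtraspecial p E) (h : ⁅(⊤ : Subgroup G), E⁆ ≤ E ⊓ Subgroup.centralizer (E : Set G)) : E ⊔ Subgroup.centralizer (E : Set G) = ⊤ := by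
  obtain ⟨⟨hEp, hΦ, hD⟩, hZcard⟩ := hE
  have hmem : ∀ (g : G) (e : E), ⁅g, (e : G)⁆ ∈ E ⊓ Subgroup.centralizer (E : Set G) := fun g e =>
    h (Subgroup.commutator_mem_commutator (Subgroup.mem_top g) e.2)
  let φ : G → (E →* Subgroup.center E) := fun g =>
    { toFun := fun e => ⟨⟨⁅g, (e : G)⁆, (hmem g e).1⟩, by
          rw [Subgroup.mem_center_iff]
          intro y
          apply Subtype.ext
          exact (Subgroup.mem_centralizer_iff.mp (hmem g e).2) y y.2⟩
      map_one' := by
        apply Subtype.ext; apply Subtype.ext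
        show ⁅g, ((1 : E) : G)⁆ = 1
        simp
      map_mul' := fun e₁ e₂ => by
        apply Subtype.ext; apply Subtype.ext
        show ⁅g, ((e₁ : G) * (e₂ : G))⁆ = ⁅g, (e₁ : G)⁆ * ⁅g, (e₂ : G)⁆
        have hc := (Subgroup.mem_centralizer_iff.mp (hmem g e₂).2) e₁ e₁.2
        calc ⁅g, (e₁ : G) * e₂⁆ = ⁅g, (e₁ : G)⁆ * ((e₁ : G) * ⁅g, (e₂ : G)⁆) * (e₁ : G)⁻¹ := by
              simp only [commutatorElement_def]; group
          _ = ⁅g, (e₁ : G)⁆ * (⁅g, (e₂ : G)⁆ * e₁) * (e₁ : G)⁻¹ := by rw [hc]
          _ = _ := by group }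
  have hφapp : ∀ (g : G) (e : E), (((φ g e : Subgroup.center E) : E) : G) = ⁅g, (e : G)⁆ :=
    fun g e => rfl
  -- (a)
  have ha : ∀ (g x : G), φ g = φ x → x⁻¹ * g ∈ Subgroup.centralizer (E : Set G) := by
    intro g x hgx
    rw [Subgroup.mem_centralizer_iff]
    intro e he
    have h1 : ⁅g, e⁆ = ⁅x, e⁆ := by
      have := congrArg (fun z : Subgroup.center E => ((z : E) : G)) (DFunLike.congr_fun hgx ⟨e, he⟩)
      exact this
    rw [commutatorElement_def, commutatorElement_def] at h1
    have h2 : g * e * g⁻¹ = x * e * x⁻¹ := by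
      have := congrArg (· * e) h1
      simpa using this
    calc e * (x⁻¹ * g) = x⁻¹ * (x * e * x⁻¹) * g := by group
      _ = x⁻¹ * (g * e * g⁻¹) * g := by rw [h2]
      _ = x⁻¹ * g * e := by group
  -- (c)
  have hfin1 : Finite ((E ⧸ Subgroup.center E) →* Subgroup.center E) := DFunLike.finite _
  have hfin2 : Finite (E →* Subgroup.center E) := DFunLike.finite _
  have hcardHom : Nat.card (E →* Subgroup.center E) ≤ Nat.card (E ⧸ Subgroup.center E) := by
    let L : (E →* Subgroup.center E) → ((E ⧸ Subgroup.center E) →* Subgroup.center E) := fun ψ =>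
      QuotientGroup.lift (Subgroup.center E) ψ (by
        have : commutator E ≤ ψ.ker := by
          rw [commutator_def, Subgroup.commutator_le]
          intro a _ b _
          rw [MonoidHom.mem_ker, map_commutatorElement, commutatorElement_eq_one_iff_commute]
          exact Subtype.ext (Subgroup.mem_center_iff.mp (ψ b).2 (ψ a))
        rw [hD] at this
        exact this)
    have hL : Function.Injective L := by
      intro ψ₁ ψ₂ h12
      ext x
      have := DFunLike.congr_fun h12 (x : E ⧸ Subgroup.center E)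
      simpa [L] using this
    calc _ ≤ Nat.card ((E ⧸ Subgroup.center E) →* Subgroup.center E) :=
          Nat.card_le_card_of_injective L hL
      _ ≤ Nat.card (E ⧸ Subgroup.center E) :=
          Cfsg.Agent.Helper2.card_monoidHom_le (hEp.to_quotient _) hZcard.le
  -- (d)
  let Ψ : E ⧸ Subgroup.center E → (E →* Subgroup.center E) := fun q =>
    Quotient.liftOn' q (fun x : E => φ (x : G)) (by
      intro x y hxy
      rw [QuotientGroup.leftRel_apply] at hxy
      show φ (x : G) = φ (y : G)
      ext e
      show ⁅(x : G), (e : G)⁆ = ⁅(y : G), (e : G)⁆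
      have hz : (x⁻¹ * y) * e = e * (x⁻¹ * y) := ((Subgroup.mem_center_iff.mp hxy) e).symm
      have hz' : ((x : G)⁻¹ * y) * e = e * ((x : G)⁻¹ * y) := by
        have := congrArg Subtype.val hz
        simpa using this
      have hy : (y : G) = x * ((x : G)⁻¹ * y) := by group
      rw [commutatorElement_def, commutatorElement_def]
      calc (x : G) * e * (x : G)⁻¹ * (e : G)⁻¹
          = x * (e * ((x : G)⁻¹ * y)) * ((x : G)⁻¹ * y)⁻¹ * (x : G)⁻¹ * (e : G)⁻¹ := by group
        _ = x * (((x : G)⁻¹ * y) * e) * ((x : G)⁻¹ * y)⁻¹ * (x : G)⁻¹ * (e : G)⁻¹ := by rw [hz']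
        _ = (y : G) * e * (y : G)⁻¹ * (e : G)⁻¹ := by group)
  have hΨ : Function.Injective Ψ := by
    intro q₁ q₂ h12
    induction q₁ using QuotientGroup.induction_on with
    | H x =>
      induction q₂ using QuotientGroup.induction_on with
      | H y =>
        have h12' : φ (x : G) = φ (y : G) := h12
        rw [QuotientGroup.eq, Subgroup.mem_center_iff]
        intro e
        apply Subtype.ext
        have := (Subgroup.mem_centralizer_iff.mp (ha _ _ h12'.symm)) e e.2
        simpa using this
  have hbij : Function.Bijective Ψ := hΨ.bijective_of_nat_card_le hcardHom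
  rw [eq_top_iff]
  intro g _
  obtain ⟨q, hq⟩ := hbij.2 (φ g)
  induction q using QuotientGroup.induction_on with
  | H x =>
    have hq' : φ (x : G) = φ g := hq
    have hmemC := ha g x hq'.symm
    have : g = (x : G) * ((x : G)⁻¹ * g) := by group
    rw [this]
    exact Subgroup.mul_mem _ (Subgroup.mem_sup_left x.2) (Subgroup.mem_sup_right hmemC)

end Cfsg.Agent.S0110
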