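import Cfsg.Statements.S0115
import Mathlib
import Cfsg.Agent.Lib.Helper73.TwoGroupD

set_option autoImplicit false
open Cfsg

namespace Cfsg.Agent.S0115

open Cfsg.Agent.Helper73

/-- A 2-group of order 2^n, n ≥ 3, is of maximal class exactly when its commutator quotient is a Klein four-group. -/
theorem result {X : Type*} [Group X] [Finite X] (n : ℕ) (hn : 3 ≤ n) (hX : Nat.card X = 2 ^ n) : Group.nilpotencyClass X = n - 1 ↔ IsKleinFour (X ⧸ commutator X) := by
  have hp : IsPGroup 2 X := IsPGroup.of_card hX
  constructor
  · intro hc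
    have hidx := index_commutator_of_class n hn hX hc
    have hcard4 : Nat.card (X ⧸ commutator X) = 4 := hidx
    have hna : commutator X ≠ ⊥ := by
      intro h
      rw [h, Subgroup.index_bot, hX] at hidx
      have : 2 ^ 3 ≤ 2 ^ n := Nat.pow_le_pow_right (by norm_num) hn
      omega
    -- every element of the quotient squares to one
    have hsq : ∀ g : X ⧸ commutator X, g ^ 2 = 1 := by
      intro g
      by_contra hg
      have hdvd : orderOf g ∣ 2 ^ 2 := by
        have := orderOf_dvd_natCard g
        rwa [hcard4] at this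
      obtain ⟨j, hj, hoj⟩ := (Nat.dvd_prime_pow Nat.prime_two).1 hdvd
      have hj2 : j = 2 := by
        rcases (show j = 0 ∨ j = 1 ∨ j = 2 by omega) with rfl | rfl | rfl
        · exfalso; apply hg
          rw [pow_zero, orderOf_eq_one_iff] at hoj
          rw [hoj, one_pow]
        · exfalso; apply hg
          rw [pow_one] at hoj
          rw [← hoj]; exact pow_orderOf_eq_one g
        · rfl
      rw [hj2] at hoj
      -- the quotient is cyclic generated by g
      obtain ⟨x, rfl⟩ := QuotientGroup.mk_surjective g
      have hgen : ∀ y : X ⧸ commutator X, y ∈ Subgroup.zpowers (x : X ⧸ commutator X) := by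
        have htop : Subgroup.zpowers (x : X ⧸ commutator X) = ⊤ := by
          rw [← Subgroup.card_eq_iff_eq_top, Nat.card_zpowers, hoj, hcard4]
          norm_num
        intro y; rw [htop]; exact Subgroup.mem_top y
      have hsup : Subgroup.zpowers x ⊔ commutator X = ⊤ := by
        rw [eq_top_iff]
        intro y _
        obtain ⟨i, hi⟩ := Subgroup.mem_zpowers_iff.1 (hgen (y : X ⧸ commutator X))
        have h1 : (x ^ i)⁻¹ * y ∈ commutator X := by
          rw [← QuotientGroup.eq, QuotientGroup.mk_zpow]; exact hi
        have h2 : y = x ^ i * ((x ^ i)⁻¹ * y) := by group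
        rw [h2]
        exact Subgroup.mul_mem_sup (Subgroup.zpow_mem_zpowers x i) h1
      have htop := eq_top_of_sup_commutator hp _ hsup
      apply hna
      apply commutator_eq_bot_of_comm
      intro a b
      have ha : a ∈ Subgroup.zpowers x := htop ▸ Subgroup.mem_top a
      have hb : b ∈ Subgroup.zpowers x := htop ▸ Subgroup.mem_top b
      obtain ⟨i, rfl⟩ := Subgroup.mem_zpowers_iff.1 ha
      obtain ⟨k, rfl⟩ := Subgroup.mem_zpowers_iff.1 hb
      rw [← zpow_add, ← zpow_add, add_comm]
    refine ⟨hcard4, ?_⟩
    have h1 : Monoid.exponent (X ⧸ commutator X) ∣ 2 := Monoid.exponent_dvd_of_forall_pow_eq_one hsq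
    rcases (Nat.dvd_prime Nat.prime_two).1 h1 with h | h
    · exfalso
      rw [Monoid.exp_eq_one_iff] at h
      have : Nat.card (X ⧸ commutator X) = 1 := Nat.card_eq_one_iff_unique.2 ⟨h, ⟨1⟩⟩
      omega
    · exact h
  · intro hK
    have hidx : (commutator X).index = 4 := hK.card_four
    exact class_of_index_four n (by omega) X hX hidx

end Cfsg.Agent.S0115
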