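import Cfsg.Statements.S0121

set_option autoImplicit false
open Cfsg

namespace Cfsg.Agent.S0121

/-- A p'-automorphism of a p-group acting trivially on a critical subgroup is trivial. -/
theorem result {G : Type*} [Group G] [Finite G] {p : ℕ} [Fact p.Prime] (hG : IsPGroup p G) (H : Subgroup G) (hH : H.Characteristic) (h1 : (frattini H).map H.subtype ≤ Subgroup.centralizer (H : Set G)) (h2 : ⁅H, (⊤ : Subgroup G)⁆ ≤ H ⊓ Subgroup.centralizer (H : Set G)) (h3 : Subgroup.centralizer (H : Set G) ≤ H) (a : MulAut G) (ha : Nat.Coprime (orderOf a) p) (h : ∀ x ∈ H, a x = x) : a = 1 := by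
  have hHn : H.Normal := inferInstance
  -- for every g, c = g⁻¹ * a g centralizes H
  have key : ∀ g : G, g⁻¹ * a g ∈ H := by
    intro g
    apply h3
    rw [Subgroup.mem_centralizer_iff]
    intro x hx
    have hx' : g * x * g⁻¹ ∈ H := hHn.conj_mem x hx g
    have e1 : a (g * x * g⁻¹) = g * x * g⁻¹ := h _ hx'
    have e2 : a x = x := h x hx
    rw [map_mul, map_mul, map_inv, e2] at e1
    -- e1 : a g * x * (a g)⁻¹ = g * x * g⁻¹
    have e3 : a g * x = g * x * g⁻¹ * a g := by
      rw [← e1]; group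
    calc x * (g⁻¹ * a g) = g⁻¹ * (g * x * g⁻¹ * a g) := by group
      _ = g⁻¹ * (a g * x) := by rw [e3]
      _ = g⁻¹ * a g * x := by group
  -- a^k g = g * c^k
  have pow_formula : ∀ (g : G) (k : ℕ), (a ^ k) g = g * (g⁻¹ * a g) ^ k := by
    intro g k
    induction k with
    | zero => simp
    | succ k ih =>
      rw [pow_succ', MulAut.mul_apply, ih, map_mul, map_pow, h _ (key g), pow_succ']
      simp [mul_assoc]
  ext g
  have hk := pow_formula g (orderOf a)
  rw [pow_orderOf_eq_one, MulAut.one_apply] at hk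
  have hc : (g⁻¹ * a g) ^ orderOf a = 1 := by
    have := congrArg (fun t => g⁻¹ * t) hk
    simpa using this.symm
  obtain ⟨n, hn⟩ := hG (g⁻¹ * a g)
  have hcop : Nat.Coprime (orderOf a) (p ^ n) := Nat.Coprime.pow_right n ha
  have hone : g⁻¹ * a g = 1 := by
    have h1' : orderOf (g⁻¹ * a g) ∣ orderOf a := orderOf_dvd_of_pow_eq_one hc
    have h2' : orderOf (g⁻¹ * a g) ∣ p ^ n := orderOf_dvd_of_pow_eq_one hn
    have : orderOf (g⁻¹ * a g) = 1 := Nat.eq_one_of_dvd_coprimes hcop h1' h2'
    exact orderOf_eq_one_iff.mp this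
  rw [MulAut.one_apply]
  have := congrArg (fun t => g * t) hone
  simpa using this
end Cfsg.Agent.S0121
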