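import Cfsg.Statements.S0122
import Cfsg.Agent.Lib.Helper22.RankFour

set_option autoImplicit false
open Cfsg

namespace Cfsg.Agent.S0122

open Cfsg.Agent.Helper22 Cfsg.Agent.Helper22.RFSetup

universe u

/-- Existence of a normal elementary abelian subgroup of order `p ^ 4` (elementwise form), by
induction on the order of the group. -/
theorem main {p : ℕ} [Fact p.Prime] (hp : p ≠ 2) :
    ∀ n : ℕ, ∀ (G : Type u) [Group G] [Finite G], Nat.card G = n → IsPGroup p G →
      (∃ B : Subgroup G, IsE4 p B) →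
      ∃ A : Subgroup G, A.Normal ∧ (∀ a ∈ A, ∀ b ∈ A, a * b = b * a) ∧
        (∀ a ∈ A, a ^ p = 1) ∧ Nat.card A = p ^ 4 := by
  intro n
  induction n using Nat.strong_induction_on with
  | _ n ih =>
    intro G _ _ hn hG hex
    obtain ⟨E, hE⟩ := hex
    have hpp : p.Prime := Fact.out
    by_contra hno
    obtain ⟨k, hk⟩ := IsPGroup.iff_card.mp hG
    have hEtop : E ≠ ⊤ := by
      intro h
      exact hno ⟨E, by rw [h]; infer_instance, hE.1, hE.2.1, hE.2.2⟩
    have hk5 : 5 ≤ k := by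
      have h1 := Cfsg.Agent.S0100.card_lt_of_lt (lt_top_iff_ne_top.mpr hEtop)
      rw [Subgroup.card_top, hE.2.2, hk] at h1
      have := (Nat.pow_lt_pow_iff_right hpp.one_lt).mp h1
      omega
    obtain ⟨K, hKcard, hEK⟩ := Sylow.exists_subgroup_card_pow_prime_le p
      (show p ^ (k - 1) ∣ Nat.card G by rw [hk]; exact pow_dvd_pow p (Nat.sub_le k 1))
      E hE.2.2 (show 4 ≤ k - 1 by omega)
    have hKidx : K.index = p := by
      have h1 := Subgroup.card_mul_index K
      rw [hKcard, hk] at h1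
      have h2 : p ^ k = p ^ (k - 1) * p := by
        rw [← pow_succ]
        congr 1
        omega
      rw [h2] at h1
      exact Nat.eq_of_mul_eq_mul_left (pow_pos hpp.pos _) h1
    have hKn : K.Normal := by
      apply Subgroup.normal_of_index_eq_minFac_card
      rw [hKidx, hk, Nat.pow_minFac (by omega), hpp.minFac_eq]
    -- induction hypothesis in `K`
    have hlt : Nat.card K < n := by
      rw [← hn, hKcard, hk]
      exact Nat.pow_lt_pow_right hpp.one_lt (by omega)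
    have hE' : IsE4 p (E.subgroupOf K) := by
      refine ⟨?_, ?_, ?_⟩
      · intro a ha b hb
        apply Subtype.ext
        exact hE.1 a.1 (Subgroup.mem_subgroupOf.mp ha) b.1 (Subgroup.mem_subgroupOf.mp hb)
      · intro a ha
        apply Subtype.ext
        rw [Subgroup.coe_pow]
        exact hE.2.1 a.1 (Subgroup.mem_subgroupOf.mp ha)
      · rw [Nat.card_congr (Subgroup.subgroupOfEquivOfLe hEK).toEquiv]
        exact hE.2.2
    obtain ⟨B₀, hB₀n, hB₀c, hB₀e, hB₀card⟩ :=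
      ih (Nat.card K) hlt K rfl (hG.to_subgroup K) ⟨_, hE'⟩
    set B : Subgroup G := B₀.map K.subtype with hBdef
    have hBK : B ≤ K := by
      rintro _ ⟨b', _, rfl⟩
      exact b'.2
    have hB : IsE4 p B := by
      refine ⟨?_, ?_, ?_⟩
      · rintro _ ⟨a', ha', rfl⟩ _ ⟨b', hb', rfl⟩
        exact congrArg Subtype.val (hB₀c a' ha' b' hb')
      · rintro _ ⟨a', ha', rfl⟩
        have := congrArg Subtype.val (hB₀e a' ha')
        rwa [Subgroup.coe_pow] at this
      · rw [hBdef, Subgroup.card_map_of_injective (Subgroup.subtype_injective K)]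
        exact hB₀card
    have hKB : ∀ x ∈ K, ∀ b ∈ B, x * b * x⁻¹ ∈ B := by
      rintro x hx _ ⟨b', hb', rfl⟩
      exact ⟨⟨x, hx⟩ * b' * ⟨x, hx⟩⁻¹, hB₀n.conj_mem b' hb' ⟨x, hx⟩, rfl⟩
    have hBnn : ¬ B.Normal := fun h => hno ⟨B, h, hB.1, hB.2.1, hB.2.2⟩
    have hex2 : ∃ b ∈ B, ∃ g : G, g * b * g⁻¹ ∉ B := by
      by_contra h
      push Not at h
      exact hBnn ⟨h⟩
    obtain ⟨b₀, hb₀, g, hgb₀⟩ := hex2
    set φ : G →* G := (MulAut.conj g).toMonoidHom with hφ
    have hφa : ∀ x : G, φ x = g * x * g⁻¹ := fun x => rfl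
    set B' : Subgroup G := B.map φ with hB'def
    have hB' : IsE4 p B' := by
      refine ⟨?_, ?_, ?_⟩
      · rintro _ ⟨a', ha', rfl⟩ _ ⟨b', hb', rfl⟩
        rw [← map_mul, ← map_mul, hB.1 a' ha' b' hb']
      · rintro _ ⟨a', ha', rfl⟩
        rw [← map_pow, hB.2.1 a' ha', map_one]
      · rw [hB'def, Subgroup.card_map_of_injective (MulAut.conj g).injective]
        exact hB.2.2
    have hB'K : B' ≤ K := by
      rintro _ ⟨b', hb', rfl⟩
      rw [hφa]
      exact hKn.conj_mem b' (hBK hb') g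
    have hne : B ≠ B' := by
      intro h
      apply hgb₀
      rw [h]
      exact ⟨b₀, hb₀, rfl⟩
    have hN : ∀ x ∈ B', ∀ b ∈ B, x * b * x⁻¹ ∈ B := fun x hx b hb => hKB x (hB'K hx) b hb
    have hN' : ∀ b ∈ B, ∀ x ∈ B', b * x * b⁻¹ ∈ B' := by
      rintro b hb _ ⟨y, hy, rfl⟩
      have hk' : g⁻¹ * b * g⁻¹⁻¹ ∈ K := hKn.conj_mem b (hBK hb) g⁻¹
      refine ⟨(g⁻¹ * b * g⁻¹⁻¹) * y * (g⁻¹ * b * g⁻¹⁻¹)⁻¹, hKB _ hk' y hy, ?_⟩
      rw [hφa, hφa]
      group
    obtain ⟨S⟩ := exists_rfSetup hp hG hno hB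
    exact S.false_of_pair hp hG hB hB' hN hN' hne

/-- For odd p, a p-group containing an elementary abelian subgroup of order p^4 has a normal elementary abelian subgroup of order p^4. -/
theorem result {G : Type*} [Group G] [Finite G] {p : ℕ} [Fact p.Prime] (hp : p ≠ 2) (hG : IsPGroup p G) (E : Subgroup G) (hE : Cfsg.IsElementaryAbelian p E) (hE4 : Nat.card E = p ^ 4) : ∃ A : Subgroup G, A.Normal ∧ Cfsg.IsElementaryAbelian p A ∧ Nat.card A = p ^ 4 := by
  have hE' : IsE4 p E := by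
    refine ⟨?_, hE.2, hE4⟩
    intro a ha b hb
    have := hE.1.is_comm.comm ⟨a, ha⟩ ⟨b, hb⟩
    exact congrArg Subtype.val this
  obtain ⟨A, hAn, hAc, hAe, hAcard⟩ := main hp (Nat.card G) G rfl hG ⟨E, hE'⟩
  exact ⟨A, hAn, ⟨⟨⟨fun a b => Subtype.ext (hAc a a.2 b b.2)⟩⟩, hAe⟩, hAcard⟩

end Cfsg.Agent.S0122
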