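import Cfsg.Statements.S0123
import Mathlib
import Cfsg.Agent.Lib.Helper35.ClassThree

set_option autoImplicit false
open Cfsg

namespace Cfsg.Agent.S0123

/-- For a p-group of small class relative to p (class ≤ 2 with p odd, or class ≤ 3 with p > 3) whose derived subgroup is generated by elements of order dividing p, the p-th power map is multiplicative. -/
theorem result {R : Type*} [Group R] [Finite R] {p : ℕ} [Fact p.Prime] (hR : IsPGroup p R) (hcl : (p ≠ 2 ∧ ⁅commutator R, (⊤ : Subgroup R)⁆ = ⊥) ∨ (3 < p ∧ ⁅⁅commutator R, (⊤ : Subgroup R)⁆, (⊤ : Subgroup R)⁆ = ⊥)) (hder : commutator R ≤ Subgroup.closure {x : R | x ^ p = 1}) (x y : R) : (x * y) ^ p = x ^ p * y ^ p := by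
  have hpp : p.Prime := Fact.out
  have hodd : p ≠ 2 := by
    rcases hcl with h | h
    · exact h.1
    · omega
  have hcl3 : ⁅⁅commutator R, (⊤ : Subgroup R)⁆, (⊤ : Subgroup R)⁆ = ⊥ := by
    rcases hcl with h | h
    · rw [h.2]
      exact Subgroup.commutator_bot_left _
    · exact h.2
  have hcen := Cfsg.Agent.Helper35.central_of_class_three hcl3
  have hdiv : (p ∣ p.choose 2 + 2 * p.choose 3 ∧ p ∣ p.choose 3) ∨
      (∀ x y : R, Cfsg.Agent.Helper35.ca x y = 1 ∧ Cfsg.Agent.Helper35.cb x y = 1) := by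
    rcases hcl with h | h
    · exact Or.inr (Cfsg.Agent.Helper35.trivial_of_class_two h.2)
    · exact Or.inl (Cfsg.Agent.Helper35.prime_dvd_choose_three_facts hpp h.1)
  have hexp : ∀ g ∈ commutator R, g ^ p = 1 := fun g hg =>
    Cfsg.Agent.Helper35.pow_eq_one_of_mem_closure_class_three hpp hodd hcen hdiv g (hder hg)
  have hdiv' : (p ∣ p.choose 2 + 2 * p.choose 3 ∧ p ∣ p.choose 3) ∨
      (Cfsg.Agent.Helper35.ca x y = 1 ∧ Cfsg.Agent.Helper35.cb x y = 1) := by
    rcases hdiv with h | h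
    · exact Or.inl h
    · exact Or.inr (h x y)
  exact Cfsg.Agent.Helper35.mul_pow_prime_class_three hpp hodd x y (hcen x y).1 (hcen x y).2 hdiv'
    (hexp _ (Cfsg.Agent.Helper35.cu_mem_commutator x y))
    (hexp _ (Cfsg.Agent.Helper35.ca_mem_commutator x y))
    (hexp _ (Cfsg.Agent.Helper35.cb_mem_commutator x y))

end Cfsg.Agent.S0123
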