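import Cfsg.Statements.S0130
import Mathlib
import Cfsg.Agent.Lib.Helper24.ClassTwo

set_option autoImplicit false
open Cfsg
open scoped commutatorElement

namespace Cfsg.Agent.S0130

variable {G : Type*} [Group G]

/-- commutators push `A ⊔ Z_{j+1}` into `A ⊔ Z_j` -/
theorem comm_mem_sup (A : Subgroup G) [hA : A.Normal] (j : ℕ) (x : G)
    (hx : x ∈ A ⊔ Subgroup.upperCentralSeries G (j + 1)) (g : G) :
    x⁻¹ * (g * x * g⁻¹) ∈ A ⊔ Subgroup.upperCentralSeries G j := by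
  have hx' : x ∈ ((A ⊔ Subgroup.upperCentralSeries G (j + 1) : Subgroup G) : Set G) := hx
  rw [Subgroup.normal_mul, Set.mem_mul] at hx'
  obtain ⟨a, ha, z, hz, rfl⟩ := hx'
  have e : (a * z)⁻¹ * (g * (a * z) * g⁻¹)
      = (z⁻¹ * (a⁻¹ * (g * a * g⁻¹)) * z⁻¹⁻¹) * (z⁻¹ * g * z⁻¹⁻¹ * g⁻¹) := by group
  rw [e]
  refine Subgroup.mul_mem _ (Subgroup.mem_sup_left ?_) (Subgroup.mem_sup_right ?_)
  · exact hA.conj_mem _ (A.mul_mem (A.inv_mem ha) (hA.conj_mem a ha g)) _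
  · have hz' : z⁻¹ ∈ Subgroup.upperCentralSeries G (j + 1) := Subgroup.inv_mem _ hz
    rw [Subgroup.mem_upperCentralSeries_succ_iff] at hz'
    have := hz' g
    rwa [commutatorElement_def] at this

/-- power formula -/
theorem mul_pow_eq_one {p : ℕ} (hp : p.Prime) (n : ℕ) (hn : p ^ n ≠ 2) (u v : G)
    (hcu : Commute (v * u * v⁻¹ * u⁻¹) u) (hcv : Commute (v * u * v⁻¹ * u⁻¹) v)
    (hu : u ^ p ^ n = 1) (hv : v ^ p ^ n = 1) (hc : (v * u * v⁻¹ * u⁻¹) ^ p ^ n = 1)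
    (hc2 : p = 2 → 2 ≤ n → (v * u * v⁻¹ * u⁻¹) ^ 2 ^ (n - 1) = 1) : (u * v) ^ p ^ n = 1 := by
  rw [Helper24.mul_pow_of_commutator_commute u v hcu hcv, hu, hv, one_mul, one_mul,
    Nat.choose_two_right]
  rcases hp.eq_two_or_odd' with h2 | hodd
  · subst h2
    rcases Nat.lt_or_ge n 2 with hlt | hge
    · have : n = 0 := by
        rcases n with _ | _ | n
        · rfl
        · exact absurd rfl hn
        · omega
      subst this
      simp
    · have e : 2 ^ n * (2 ^ n - 1) / 2 = 2 ^ (n - 1) * (2 ^ n - 1) := by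
        obtain ⟨m, rfl⟩ : ∃ m, n = m + 1 := ⟨n - 1, by omega⟩
        rw [Nat.add_sub_cancel, pow_succ, mul_comm (2 ^ m) 2, mul_assoc,
          Nat.mul_div_cancel_left _ (by norm_num : 0 < 2)]
      rw [e, pow_mul, hc2 rfl hge, one_pow]
  · have hoddn : Odd (p ^ n) := hodd.pow
    obtain ⟨k, hk⟩ := hoddn
    have e : p ^ n * (p ^ n - 1) / 2 = p ^ n * k := by
      have : p ^ n - 1 = 2 * k := by omega
      rw [this, ← mul_assoc, mul_comm (p ^ n) 2, mul_assoc,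
        Nat.mul_div_cancel_left _ (by norm_num : 0 < 2)]
    rw [e, pow_mul, hc, one_pow]

theorem mem_sup_zpowers (A : Subgroup G) [hA : A.Normal] (x h : G) :
    h ∈ A ⊔ Subgroup.zpowers x ↔ ∃ a ∈ A, ∃ i : ℤ, h = a * x ^ i := by
  have : h ∈ A ⊔ Subgroup.zpowers x ↔ h ∈ ((A ⊔ Subgroup.zpowers x : Subgroup G) : Set G) := Iff.rfl
  rw [this, Subgroup.normal_mul, Set.mem_mul]
  constructor
  · rintro ⟨a, ha, z, hz, rfl⟩
    obtain ⟨i, rfl⟩ := Subgroup.mem_zpowers_iff.mp hz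
    exact ⟨a, ha, i, rfl⟩
  · rintro ⟨a, ha, i, rfl⟩
    exact ⟨a, ha, x ^ i, Subgroup.zpow_mem _ (Subgroup.mem_zpowers x) i, rfl⟩

theorem sup_zpowers_comm (A : Subgroup G) [hA : A.Normal]
    (hAcomm : ∀ a ∈ A, ∀ b ∈ A, a * b = b * a) (x : G) (hxC : ∀ a ∈ A, a * x = x * a) :
    ∀ h ∈ A ⊔ Subgroup.zpowers x, ∀ k ∈ A ⊔ Subgroup.zpowers x, h * k = k * h := by
  intro h hh k hk
  obtain ⟨a, ha, i, rfl⟩ := (mem_sup_zpowers A x h).mp hh
  obtain ⟨b, hb, j, rfl⟩ := (mem_sup_zpowers A x k).mp hk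
  have h1 : Commute a b := hAcomm a ha b hb
  have h2 : Commute a (x ^ j) := Commute.zpow_right (hxC a ha) j
  have h3 : Commute b (x ^ i) := Commute.zpow_right (hxC b hb) i
  have h4 : Commute (x ^ i) (x ^ j) := (Commute.refl x).zpow_zpow i j
  calc a * x ^ i * (b * x ^ j) = a * (x ^ i * b) * x ^ j := by group
    _ = a * (b * x ^ i) * x ^ j := by rw [h3.eq]
    _ = (a * b) * (x ^ i * x ^ j) := by group
    _ = (b * a) * (x ^ j * x ^ i) := by rw [h1.eq, h4.eq]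
    _ = b * (a * x ^ j) * x ^ i := by group
    _ = b * (x ^ j * a) * x ^ i := by rw [h2.eq]
    _ = b * x ^ j * (a * x ^ i) := by group

theorem sup_zpowers_exp (A : Subgroup G) [hA : A.Normal] (x : G) (hxC : ∀ a ∈ A, a * x = x * a)
    (N : ℕ) (hAe : ∀ a ∈ A, a ^ N = 1) (hx : x ^ N = 1) :
    ∀ h ∈ A ⊔ Subgroup.zpowers x, h ^ N = 1 := by
  intro h hh
  obtain ⟨a, ha, i, rfl⟩ := (mem_sup_zpowers A x h).mp hh
  have h2 : Commute a (x ^ i) := Commute.zpow_right (hxC a ha) i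
  rw [h2.mul_pow, hAe a ha, one_mul, ← zpow_natCast, ← zpow_mul, mul_comm, zpow_mul, zpow_natCast,
    hx, one_zpow]

theorem main [Finite G] {p : ℕ} [Fact p.Prime] (hG : IsPGroup p G) (n : ℕ) (hn : p ^ n ≠ 2)
    (A : Subgroup G) [hAn : A.Normal] (hA : IsMulCommutative A) (hAe : ∀ a ∈ A, a ^ p ^ n = 1)
    (hmax : ∀ B : Subgroup G, B.Normal → IsMulCommutative B → (∀ b ∈ B, b ^ p ^ n = 1) →
      A ≤ B → B = A) :
    ∀ j : ℕ, ∀ x : G, x ∈ Subgroup.centralizer (A : Set G) → x ^ p ^ n = 1 →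
      x ∈ A ⊔ Subgroup.upperCentralSeries G j → x ∈ A := by
  have hp : p.Prime := Fact.out
  have hAcomm : ∀ a ∈ A, ∀ b ∈ A, a * b = b * a := fun a ha b hb =>
    congrArg Subtype.val (hA.is_comm.comm ⟨a, ha⟩ ⟨b, hb⟩)
  intro j
  induction j with
  | zero =>
    intro x _ _ hx
    rw [Subgroup.upperCentralSeries_zero, sup_bot_eq] at hx
    exact hx
  | succ j ih =>
    intro x₀ hx₀C hx₀n hx₀j
    by_contra hx₀A
    have hex : ∃ k, x₀ ^ p ^ k ∈ A := ⟨n, by rw [hx₀n]; exact A.one_mem⟩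
    classical
    obtain ⟨k, hk⟩ : ∃ k, k = Nat.find hex := ⟨_, rfl⟩
    have hk0 : k ≠ 0 := by
      intro h0
      have := Nat.find_spec hex
      rw [← hk, h0, pow_zero, pow_one] at this
      exact hx₀A this
    obtain ⟨x, hxdef⟩ : ∃ x, x = x₀ ^ p ^ (k - 1) := ⟨_, rfl⟩
    have hxA : x ∉ A := by
      rw [hxdef]
      exact Nat.find_min hex (by omega : k - 1 < Nat.find hex)
    have hxp : x ^ p ∈ A := by
      have := Nat.find_spec hex
      rw [hxdef, ← pow_mul, ← pow_succ]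
      have e : k - 1 + 1 = Nat.find hex := by omega
      rw [e]; exact this
    have hxC : x ∈ Subgroup.centralizer (A : Set G) := hxdef ▸ Subgroup.pow_mem _ hx₀C _
    have hxn : x ^ p ^ n = 1 := by rw [hxdef, ← pow_mul, mul_comm, pow_mul, hx₀n, one_pow]
    have hxj : x ∈ A ⊔ Subgroup.upperCentralSeries G (j + 1) :=
      hxdef ▸ Subgroup.pow_mem _ hx₀j _
    have hxC' : ∀ a ∈ A, a * x = x * a := by
      intro a ha
      rw [Subgroup.mem_centralizer_iff] at hxC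
      exact hxC a ha
    have hHcomm := sup_zpowers_comm A hAcomm x hxC'
    have hHexp := sup_zpowers_exp A x hxC' (p ^ n) hAe hxn
    have hxH : x ∈ A ⊔ Subgroup.zpowers x := Subgroup.mem_sup_right (Subgroup.mem_zpowers x)
    have hHnn : ¬ (A ⊔ Subgroup.zpowers x).Normal := by
      intro hnorm
      have := hmax (A ⊔ Subgroup.zpowers x) hnorm
        ⟨⟨fun h k => Subtype.ext (hHcomm h h.2 k k.2)⟩⟩ hHexp le_sup_left
      exact hxA (this ▸ hxH)
    have hNlt : Subgroup.normalizer ((A ⊔ Subgroup.zpowers x : Subgroup G) : Set G) < ⊤ := by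
      rw [lt_top_iff_ne_top]
      intro h
      exact hHnn (Subgroup.normalizer_eq_top_iff.mp h)
    haveI : Group.IsNilpotent G := hG.isNilpotent
    have hnc : NormalizerCondition G := Group.normalizerCondition_of_isNilpotent
    obtain ⟨g, hgNN, hgN⟩ := SetLike.exists_of_lt (hnc _ hNlt)
    obtain ⟨H, hH⟩ : ∃ H, H = A ⊔ Subgroup.zpowers x := ⟨_, rfl⟩
    rw [← hH] at hHcomm hHexp hxH hgNN hgN
    have hHN : H ≤ Subgroup.normalizer (H : Set G) := Subgroup.le_normalizer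
    obtain ⟨v, hv⟩ : ∃ v, v = g * x * g⁻¹ := ⟨_, rfl⟩
    have hvN : v ∈ Subgroup.normalizer (H : Set G) := by
      rw [hv]; exact (Subgroup.mem_normalizer_iff.mp hgNN x).mp (hHN hxH)
    have hxinvH : x⁻¹ ∈ H := H.inv_mem hxH
    have hwN : g⁻¹ * x⁻¹ * g ∈ Subgroup.normalizer (H : Set G) :=
      (Subgroup.mem_normalizer_iff''.mp hgNN x⁻¹).mp (hHN hxinvH)
    obtain ⟨c, hc⟩ : ∃ c, c = v * x⁻¹ * v⁻¹ * x⁻¹⁻¹ := ⟨_, rfl⟩
    have hcH : c ∈ H := by
      have h1 : v * x⁻¹ * v⁻¹ ∈ H := (Subgroup.mem_normalizer_iff.mp hvN x⁻¹).mp hxinvH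
      rw [hc]
      exact H.mul_mem h1 (H.inv_mem hxinvH)
    have hcu : Commute c x⁻¹ := hHcomm c hcH x⁻¹ hxinvH
    obtain ⟨h₀, hh₀def⟩ : ∃ h₀, h₀ = (g⁻¹ * x⁻¹ * g) * x⁻¹ * (g⁻¹ * x⁻¹ * g)⁻¹ := ⟨_, rfl⟩
    have hh₀ : h₀ ∈ H := by
      rw [hh₀def]
      exact (Subgroup.mem_normalizer_iff.mp hwN x⁻¹).mp hxinvH
    have hcv : Commute c v := by
      have e1 : c = g * (x * h₀) * g⁻¹ := by rw [hc, hv, hh₀def]; group
      have e2 : (x * h₀) * x = x * (x * h₀) := hHcomm _ (H.mul_mem hxH hh₀) x hxH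
      rw [e1, hv]
      show g * (x * h₀) * g⁻¹ * (g * x * g⁻¹) = g * x * g⁻¹ * (g * (x * h₀) * g⁻¹)
      calc g * (x * h₀) * g⁻¹ * (g * x * g⁻¹) = g * ((x * h₀) * x) * g⁻¹ := by group
        _ = g * (x * (x * h₀)) * g⁻¹ := by rw [e2]
        _ = g * x * g⁻¹ * (g * (x * h₀) * g⁻¹) := by group
    have hvn : v ^ p ^ n = 1 := by rw [hv, conj_pow, hxn, mul_one, mul_inv_cancel]
    have hxinvn : x⁻¹ ^ p ^ n = 1 := by rw [inv_pow, hxn, inv_one]
    have hyn : (x⁻¹ * v) ^ p ^ n = 1 := by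
      apply mul_pow_eq_one hp n hn x⁻¹ v (hc ▸ hcu) (hc ▸ hcv) hxinvn hvn (hc ▸ hHexp c hcH)
      intro hp2 hn2
      rw [← Helper24.commutator_pow_left_of_commute x⁻¹ v (hc ▸ hcv)]
      have hvm : v ^ 2 ^ (n - 1) ∈ A := by
        rw [hv, conj_pow]
        apply hAn.conj_mem
        have : 2 ^ (n - 1) = p * 2 ^ (n - 2) := by
          rw [hp2, ← pow_succ']; congr 1; omega
        rw [this, pow_mul]
        exact A.pow_mem hxp _
      have h1 := hxC' _ hvm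
      have h2 : v ^ 2 ^ (n - 1) * x⁻¹ = x⁻¹ * v ^ 2 ^ (n - 1) := by
        have := congrArg (fun t => x⁻¹ * t * x⁻¹) h1
        simpa [mul_assoc] using this.symm
      rw [h2]; group
    have hyC : x⁻¹ * v ∈ Subgroup.centralizer (A : Set G) := by
      refine Subgroup.mul_mem _ (Subgroup.inv_mem _ hxC) ?_
      rw [hv]
      exact (inferInstance : (Subgroup.centralizer (A : Set G)).Normal).conj_mem x hxC g
    have hyj : x⁻¹ * v ∈ A ⊔ Subgroup.upperCentralSeries G j := by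
      rw [hv]; exact comm_mem_sup A j x hxj g
    have hyA : x⁻¹ * v ∈ A := ih _ hyC hyn hyj
    have hvH : v ∈ H := by
      have : v = x * (x⁻¹ * v) := by group
      rw [this]
      exact H.mul_mem hxH (hH ▸ Subgroup.mem_sup_left hyA)
    apply hgN
    apply Subgroup.mem_normalizer_fintype
    intro h hh
    have hh' : h ∈ A ⊔ Subgroup.zpowers x := hH ▸ hh
    obtain ⟨a, ha, i, rfl⟩ := (mem_sup_zpowers A x h).mp hh'
    have e : g * (a * x ^ i) * g⁻¹ = (g * a * g⁻¹) * (g * x * g⁻¹) ^ i := by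
      rw [conj_zpow]; group
    rw [SetLike.mem_coe, e, ← hv]
    exact H.mul_mem (hH ▸ Subgroup.mem_sup_left (hAn.conj_mem a ha g)) (H.zpow_mem hvH i)

/-- If A is maximal among the normal abelian subgroups of exponent dividing p^n of a p-group (p^n ≠ 2), then A contains every element of order dividing p^n in its centralizer. -/
theorem result {G : Type*} [Group G] [Finite G] {p : ℕ} [Fact p.Prime] (hG : IsPGroup p G) (n : ℕ) (hn : p ^ n ≠ 2) (A : Subgroup G) [A.Normal] (hA : IsMulCommutative A) (hAe : ∀ a ∈ A, a ^ p ^ n = 1) (hmax : ∀ B : Subgroup G, B.Normal → IsMulCommutative B → (∀ b ∈ B, b ^ p ^ n = 1) → A ≤ B → B = A) (x : G) (hx : x ∈ Subgroup.centralizer (A : Set G)) (hxn : x ^ p ^ n = 1) : x ∈ A := by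
  haveI : Group.IsNilpotent G := hG.isNilpotent
  apply main hG n hn A hA hAe hmax (Group.nilpotencyClass G) x hx hxn
  rw [Subgroup.upperCentralSeries_nilpotencyClass]
  exact Subgroup.mem_sup_right (Subgroup.mem_top x)

end Cfsg.Agent.S0130
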