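import Cfsg.Statements.S0160
import Cfsg.Agent.Lib.Helper74.RealChars

set_option autoImplicit false
open Cfsg
open scoped ComplexConjugate

namespace Cfsg.Agent.S0160

open Cfsg.Agent.Helper74.FS in
/-- Sum over the group of the centralizer orders of the real elements. -/
theorem sum_real_centralizer {G : Type*} [Group G] [Fintype G] [DecidableEq G]
    [DecidablePred fun g : G => IsConj g g⁻¹] :
    ∑ g : G, (if IsConj g g⁻¹ then (Nat.card (Subgroup.centralizer ({g} : Set G)) : ℂ) else 0) =
      (Nat.card {C : ConjClasses G // ∀ g : G, ConjClasses.mk g = C → IsConj g g⁻¹} : ℂ) *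
        (Nat.card G : ℂ) := by
  classical
  have hfin : Finite G := Finite.of_fintype G
  rw [← Finset.sum_fiberwise Finset.univ (ConjClasses.mk (α := G))]
  have key : ∀ C : ConjClasses G, ∑ g ∈ Finset.univ with ConjClasses.mk g = C,
      (if IsConj g g⁻¹ then (Nat.card (Subgroup.centralizer ({g} : Set G)) : ℂ) else 0) =
      if (∀ g : G, ConjClasses.mk g = C → IsConj g g⁻¹) then (Nat.card G : ℂ) else 0 := by
    intro C
    obtain ⟨g₀, rfl⟩ := ConjClasses.mk_surjective C
    have hreal_iff : ∀ g : G, ConjClasses.mk g = ConjClasses.mk g₀ →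
        (IsConj g g⁻¹ ↔ IsConj g₀ g₀⁻¹) := by
      intro g hg
      rw [ConjClasses.mk_eq_mk_iff_isConj] at hg
      obtain ⟨c, hc⟩ := isConj_iff.1 hg
      constructor
      · intro h
        obtain ⟨d, hd⟩ := isConj_iff.1 h
        rw [isConj_iff]
        refine ⟨c * d * c⁻¹, ?_⟩
        rw [← hc]
        have : (c * g * c⁻¹)⁻¹ = c * g⁻¹ * c⁻¹ := by group
        rw [this, ← hd]
        group
      · intro h
        obtain ⟨d, hd⟩ := isConj_iff.1 h
        rw [isConj_iff]
        refine ⟨c⁻¹ * d * c, ?_⟩
        have hg' : g = c⁻¹ * g₀ * c := by rw [← hc]; group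
        have : g⁻¹ = c⁻¹ * g₀⁻¹ * c := by rw [hg']; group
        rw [this, ← hd, hg']
        group
    split_ifs with hC
    · -- real class
      have h1 : ∀ g ∈ Finset.univ.filter (fun g : G => ConjClasses.mk g = ConjClasses.mk g₀),
          (if IsConj g g⁻¹ then (Nat.card (Subgroup.centralizer ({g} : Set G)) : ℂ) else 0) =
          (Nat.card G : ℂ) *
            ((Finset.univ.filter (fun g : G => ConjClasses.mk g = ConjClasses.mk g₀)).card : ℂ)⁻¹ := by
        intro g hg
        rw [Finset.mem_filter] at hg
        rw [if_pos (hC g hg.2)]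
        have h2 := Cfsg.Agent.Helper80.card_isConj_mul_card_centralizer g
        have h3 : Nat.card {x : G // IsConj g x} =
            (Finset.univ.filter (fun g : G => ConjClasses.mk g = ConjClasses.mk g₀)).card := by
          rw [Nat.card_eq_fintype_card, Fintype.card_subtype]
          congr 1
          ext x
          simp only [Finset.mem_filter, Finset.mem_univ, true_and]
          rw [← hg.2, ConjClasses.mk_eq_mk_iff_isConj]
          exact ⟨fun h => h.symm, fun h => h.symm⟩
        rw [h3] at h2
        have hpos : ((Finset.univ.filter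
            (fun g : G => ConjClasses.mk g = ConjClasses.mk g₀)).card : ℂ) ≠ 0 := by
          have : g ∈ Finset.univ.filter (fun g : G => ConjClasses.mk g = ConjClasses.mk g₀) := by
            simp [hg.2]
          exact_mod_cast (Finset.card_pos.2 ⟨g, this⟩).ne'
        rw [← h2]
        push_cast
        field_simp
      rw [Finset.sum_congr rfl h1, Finset.sum_const, nsmul_eq_mul]
      have hpos : ((Finset.univ.filter
          (fun g : G => ConjClasses.mk g = ConjClasses.mk g₀)).card : ℂ) ≠ 0 := by
        have : g₀ ∈ Finset.univ.filter (fun g : G => ConjClasses.mk g = ConjClasses.mk g₀) := by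
          simp
        exact_mod_cast (Finset.card_pos.2 ⟨g₀, this⟩).ne'
      field_simp
    · -- non-real class
      apply Finset.sum_eq_zero
      intro g hg
      rw [Finset.mem_filter] at hg
      rw [if_neg]
      intro hgr
      apply hC
      intro g' hg'
      rw [hreal_iff g' hg', ← hreal_iff g hg.2]
      exact hgr
  simp only [key]
  rw [Finset.sum_ite, Finset.sum_const_zero, add_zero, Finset.sum_const, nsmul_eq_mul]
  congr 1
  rw [Nat.card_eq_fintype_card, Fintype.card_subtype]

/-- A finite group has as many real-valued irreducible complex characters as conjugacy classes closed under taking inverses. -/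
theorem result {G : Type*} [Group G] [Finite G] : Nat.card {χ : Cfsg.IrrCharacter G // ∀ g : G, ((χ : G → ℂ) g).im = 0} = Nat.card {C : ConjClasses G // ∀ g : G, ConjClasses.mk g = C → IsConj g g⁻¹} := by
  classical
  have := Fintype.ofFinite G
  have : Fintype (Cfsg.IrrCharacter G) := Fintype.ofFinite _
  have hne : (Nat.card G : ℂ) ≠ 0 := by
    have : 0 < Nat.card G := Nat.card_pos
    exact_mod_cast this.ne'
  have hL : ∑ χ : Cfsg.IrrCharacter G, ∑ g : G, (χ : G → ℂ) g * (χ : G → ℂ) g =
      (Nat.card {χ : Cfsg.IrrCharacter G // ∀ g : G, ((χ : G → ℂ) g).im = 0} : ℂ) *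
        (Nat.card G : ℂ) := by
    simp only [Cfsg.Agent.Helper74.FS.irr_sum_mul_self]
    rw [Finset.sum_ite, Finset.sum_const_zero, add_zero, Finset.sum_const, nsmul_eq_mul]
    congr 1
    rw [Nat.card_eq_fintype_card, Fintype.card_subtype]
    congr 2
    ext χ
    simp only [Finset.mem_filter, Finset.mem_univ, true_and]
    rfl
  have hR : ∑ g : G, ∑ χ : Cfsg.IrrCharacter G, (χ : G → ℂ) g * (χ : G → ℂ) g =
      (Nat.card {C : ConjClasses G // ∀ g : G, ConjClasses.mk g = C → IsConj g g⁻¹} : ℂ) *
        (Nat.card G : ℂ) := by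
    rw [← sum_real_centralizer]
    refine Finset.sum_congr rfl fun g _ => ?_
    have h := Cfsg.Agent.Helper80.irr_second_orthogonality g g⁻¹
    rw [finsum_eq_sum_of_fintype] at h
    have h' : ∑ χ : Cfsg.IrrCharacter G, (χ : G → ℂ) g * (χ : G → ℂ) g =
        ∑ χ : Cfsg.IrrCharacter G, (χ : G → ℂ) g * conj ((χ : G → ℂ) g⁻¹) :=
      Finset.sum_congr rfl fun χ _ => by rw [Cfsg.Agent.Helper80.irr_inv, Complex.conj_conj]
    rw [h', h]
    split_ifs <;> rfl
  rw [Finset.sum_comm, hR] at hL
  have := mul_right_cancel₀ hne hL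
  exact_mod_cast this.symm

end Cfsg.Agent.S0160
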