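import Cfsg.Statements.S0162
import Cfsg.Agent.S0161
import Cfsg.Agent.Lib.Helper79.Integrality
import Cfsg.Agent.Lib.Helper80.CharBasic
import Cfsg.Agent.Lib.Helper3.CharDecomp

set_option autoImplicit false
open Cfsg

namespace Cfsg.Agent.S0162

open scoped ComplexConjugate

universe u

/-- the complex conjugate of an irreducible character is irreducible -/
theorem isIrr_conj {G : Type u} [Group G] [Finite G] {χ : G → ℂ} (h : IsIrrCharacter G χ) :
    IsIrrCharacter G (fun g => conj (χ g)) := by
  classical
  have := Fintype.ofFinite G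
  apply Cfsg.Agent.Helper3.isIrrCharacter_of_classInner_self_eq_one
    (Cfsg.Agent.Helper3.isCharacter_conj (Cfsg.Agent.Helper80.isCharacter_of_irr h))
  have h1 := Cfsg.Agent.Helper80.classInner_irr (⟨χ, h⟩ : IrrCharacter G) ⟨χ, h⟩
  rw [if_pos rfl] at h1
  rw [← h1]
  unfold classInner
  congr 1
  refine Finset.sum_congr rfl fun g _ => ?_
  simp only [Complex.conj_conj]
  ring

/-- complex conjugation on irreducible characters -/
noncomputable def conjIrr {G : Type u} [Group G] [Finite G] (χ : IrrCharacter G) : IrrCharacter G :=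
  ⟨fun g => conj ((χ : G → ℂ) g), isIrr_conj χ.2⟩

theorem odd_sq_eq (d : ℕ) (hd : Odd d) : d ^ 2 = 8 * ((d / 2) * (d / 2 + 1) / 2) + 1 := by
  obtain ⟨m, rfl⟩ := hd
  have h1 : (2 * m + 1) / 2 = m := by omega
  rw [h1]
  have h2 : 2 ∣ m * (m + 1) := (Nat.even_mul_succ_self m).two_dvd
  obtain ⟨c, hc⟩ := h2
  rw [hc, Nat.mul_div_cancel_left c (by norm_num)]
  nlinarith

/-- If a finite group has odd order, its order is congruent to its number of conjugacy classes modulo 16. -/
theorem result {G : Type*} [Group G] [Finite G] (hodd : Odd (Nat.card G)) : Nat.card G ≡ Nat.card (ConjClasses G) [MOD 16] := by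
  classical
  have := Fintype.ofFinite G
  set d : IrrCharacter G → ℕ := fun χ => charDegree (χ : G → ℂ) with hd
  set t : IrrCharacter G → ℕ := fun χ => (d χ / 2) * (d χ / 2 + 1) / 2 with ht
  have hdodd : ∀ χ, Odd (d χ) := by
    intro χ
    have hdvd := Cfsg.Agent.Helper79.irr_degree_dvd_card χ
    exact Odd.of_dvd_nat hodd hdvd
  have hsum : ∑ χ : IrrCharacter G, (d χ) ^ 2 = Nat.card G :=
    Cfsg.Agent.Helper79.sum_sq_degree_nat
  have hk : Nat.card (ConjClasses G) = Fintype.card (IrrCharacter G) := by
    rw [← Cfsg.Agent.Helper80.card_irr, Nat.card_eq_fintype_card]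
  have hsum2 : Nat.card G = 8 * ∑ χ : IrrCharacter G, t χ + Fintype.card (IrrCharacter G) := by
    rw [← hsum, Finset.mul_sum]
    have : ∀ χ : IrrCharacter G, d χ ^ 2 = 8 * t χ + 1 := fun χ => odd_sq_eq _ (hdodd χ)
    simp_rw [this]
    rw [Finset.sum_add_distrib]
    simp
  -- the sum of t is even
  have hdconj : ∀ χ : IrrCharacter G, d (conjIrr χ) = d χ := by
    intro χ
    simp only [hd, conjIrr, charDegree]
    rw [Complex.conj_re]
  have heven : ((∑ χ : IrrCharacter G, t χ : ℕ) : ZMod 2) = 0 := by
    push_cast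
    refine Finset.sum_ninvolution (fun χ => conjIrr χ) ?_ ?_ ?_ ?_
    · intro χ
      have : t (conjIrr χ) = t χ := by simp only [ht, hdconj]
      rw [this]
      exact CharTwo.add_self_eq_zero _
    · intro χ hne hfix
      apply hne
      -- χ is real-valued, hence trivial, hence d χ = 1 and t χ = 0
      have hreal : ∀ g : G, ((χ : G → ℂ) g).im = 0 := by
        intro g
        have := congrArg (fun ψ : IrrCharacter G => (ψ : G → ℂ) g) hfix
        simp only [conjIrr] at this
        exact Complex.conj_eq_iff_im.mp this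
      have htriv := Cfsg.Agent.S0161.result hodd χ hreal
      have hd1 : d χ = 1 := by
        simp only [hd, charDegree, htriv]
        simp
      simp [ht, hd1]
    · intro χ; exact Finset.mem_univ _
    · intro χ
      apply Subtype.ext
      funext g
      simp [conjIrr]
  have h2 : 2 ∣ ∑ χ : IrrCharacter G, t χ := (ZMod.natCast_eq_zero_iff _ _).mp heven
  obtain ⟨c, hc⟩ := h2
  rw [hk, hsum2, hc]
  unfold Nat.ModEq
  omega

end Cfsg.Agent.S0162
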