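import Cfsg.Statements.S4856
import Mathlib
import Cfsg.Agent.Lib.Helper80.CharBasic

set_option autoImplicit false
open Cfsg

namespace Cfsg.Agent.S4856

open scoped ComplexConjugate
open Cfsg.Agent.Helper80

/-- For an element z of a finite group G, the number of pairs (x, y) of elements with x y x⁻¹ y⁻¹ = z equals the order of G times the sum over the irreducible characters χ of χ(z)/χ(1). -/
theorem result {G : Type*} [Group G] [Finite G] (z : G) : (Nat.card {xy : G × G // xy.1 * xy.2 * xy.1⁻¹ * xy.2⁻¹ = z} : ℂ) = (Nat.card G : ℂ) * ∑ᶠ χ : Cfsg.IrrCharacter G, (χ : G → ℂ) z / (χ : G → ℂ) 1 := by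
  classical
  have := Fintype.ofFinite G
  have hne : (Nat.card G : ℂ) ≠ 0 := by exact_mod_cast Nat.card_pos.ne'
  -- delta function via second orthogonality at (w, 1)
  have hdelta : ∀ w : G, ∑ᶠ χ : IrrCharacter G, (χ : G → ℂ) w * conj ((χ : G → ℂ) 1) =
      if w = 1 then (Nat.card G : ℂ) else 0 := by
    intro w
    rw [irr_second_orthogonality w 1]
    by_cases hw : w = 1
    · subst hw
      rw [if_pos (IsConj.refl _), if_pos rfl]
      congr 1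
      have : Subgroup.centralizer ({1} : Set G) = ⊤ := by
        ext x; simp [Subgroup.mem_centralizer_iff]
      rw [this]
      exact Nat.card_congr Subgroup.topEquiv.toEquiv
    · rw [if_neg hw, if_neg]
      intro h
      exact hw (isConj_one_left.1 h)
  have hconj1 : ∀ χ : IrrCharacter G, conj ((χ : G → ℂ) 1) = (χ : G → ℂ) 1 := by
    intro χ
    rw [irr_one]; simp
  -- count
  have hcount : (Nat.card {xy : G × G // xy.1 * xy.2 * xy.1⁻¹ * xy.2⁻¹ = z} : ℂ) =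
      ∑ x : G, ∑ y : G, if x * y * x⁻¹ * y⁻¹ * z⁻¹ = 1 then (1 : ℂ) else 0 := by
    rw [Nat.card_eq_fintype_card, Fintype.card_subtype, ← Finset.sum_product',
      Finset.card_filter]
    push_cast
    refine Finset.sum_congr rfl fun p _ => ?_
    have : p.1 * p.2 * p.1⁻¹ * p.2⁻¹ * z⁻¹ = 1 ↔ p.1 * p.2 * p.1⁻¹ * p.2⁻¹ = z := by
      rw [mul_inv_eq_one]
    simp only [this]
  obtain ⟨W⟩ := exists_wedderburnData G
  have hfin : ∀ F : IrrCharacter G → ℂ, ∑ᶠ χ, F χ = ∑ i, F (W.equivIrr i) := finsum_irr_eq W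
  -- main computation
  have hmain : ∀ χ : IrrCharacter G, ∑ x : G, ∑ y : G, (χ : G → ℂ) (x * y * x⁻¹ * y⁻¹ * z⁻¹) =
      (Nat.card G : ℂ) ^ 2 * (χ : G → ℂ) z⁻¹ / ((χ : G → ℂ) 1) ^ 2 := by
    intro χ
    have h1 : ∀ y : G, ∑ x : G, (χ : G → ℂ) (x * y * x⁻¹ * (y⁻¹ * z⁻¹)) =
        (Nat.card G : ℂ) * (χ : G → ℂ) y * (χ : G → ℂ) (y⁻¹ * z⁻¹) / (χ : G → ℂ) 1 :=
      fun y => irr_sum_conj_mul χ y (y⁻¹ * z⁻¹)
    rw [Finset.sum_comm]
    have h2 : ∀ y : G, ∑ x : G, (χ : G → ℂ) (x * y * x⁻¹ * y⁻¹ * z⁻¹) =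
        (Nat.card G : ℂ) * (χ : G → ℂ) y * (χ : G → ℂ) (y⁻¹ * z⁻¹) / (χ : G → ℂ) 1 := by
      intro y
      rw [← h1 y]
      refine Finset.sum_congr rfl fun x _ => ?_
      rw [mul_assoc (x * y * x⁻¹)]
    simp only [h2]
    -- ∑_y χ(y) χ(y⁻¹ z⁻¹) = |G| χ(z⁻¹)/χ(1)
    have h3 : ∑ y : G, (χ : G → ℂ) y * (χ : G → ℂ) (y⁻¹ * z⁻¹) =
        (Nat.card G : ℂ) * (χ : G → ℂ) z⁻¹ / (χ : G → ℂ) 1 := by
      -- use irr_sum_conj_mul with g := z⁻¹ ... alternative: orthogonality via expansion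
      have h4 : ∀ x : G, ∑ y : G, (χ : G → ℂ) y * (χ : G → ℂ) (y⁻¹ * (x * z⁻¹ * x⁻¹)) =
          ∑ y : G, (χ : G → ℂ) y * (χ : G → ℂ) (y⁻¹ * z⁻¹) := by
        intro x
        refine Fintype.sum_equiv (MulAut.conj x⁻¹).toEquiv _ _ fun y => ?_
        simp only [MulEquiv.toEquiv_eq_coe, EquivLike.coe_coe, MulAut.conj_apply, inv_inv]
        rw [show x⁻¹ * y * x = x⁻¹ * y * x⁻¹⁻¹ by group, irr_conj_class]
        rw [show (x⁻¹ * y * x⁻¹⁻¹)⁻¹ * z⁻¹ = x⁻¹ * (y⁻¹ * (x * z⁻¹ * x⁻¹)) * x⁻¹⁻¹ by group,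
          irr_conj_class]
      have h5 : (Nat.card G : ℂ) * ∑ y : G, (χ : G → ℂ) y * (χ : G → ℂ) (y⁻¹ * z⁻¹) =
          ∑ x : G, ∑ y : G, (χ : G → ℂ) y * (χ : G → ℂ) (y⁻¹ * (x * z⁻¹ * x⁻¹)) := by
        simp only [h4, Finset.sum_const, Finset.card_univ, nsmul_eq_mul, Nat.card_eq_fintype_card]
      have h6 : ∀ y : G, ∑ x : G, (χ : G → ℂ) (y⁻¹ * (x * z⁻¹ * x⁻¹)) =
          (Nat.card G : ℂ) * (χ : G → ℂ) z⁻¹ * (χ : G → ℂ) y⁻¹ / (χ : G → ℂ) 1 := by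
        intro y
        rw [← irr_sum_conj_mul χ z⁻¹ y⁻¹]
        refine Finset.sum_congr rfl fun x _ => ?_
        rw [show y⁻¹ * (x * z⁻¹ * x⁻¹) = y⁻¹ * (x * z⁻¹ * x⁻¹ * y⁻¹) * y⁻¹⁻¹ by group,
          irr_conj_class]
      rw [Finset.sum_comm] at h5
      simp only [← Finset.mul_sum, h6] at h5
      have h7 : ∑ y : G, (χ : G → ℂ) y * (χ : G → ℂ) y⁻¹ = (Nat.card G : ℂ) := by
        have := irr_first_orthogonality χ χ
        simp only [if_true] at this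
        rw [← this]
        refine Finset.sum_congr rfl fun y _ => ?_
        rw [irr_inv]
      have h8 : ∑ y : G, (χ : G → ℂ) y *
          ((Nat.card G : ℂ) * (χ : G → ℂ) z⁻¹ * (χ : G → ℂ) y⁻¹ / (χ : G → ℂ) 1) =
          (Nat.card G : ℂ) * (χ : G → ℂ) z⁻¹ / (χ : G → ℂ) 1 * (Nat.card G : ℂ) := by
        rw [← h7, Finset.mul_sum]
        refine Finset.sum_congr rfl fun y _ => ?_
        ring
      rw [h8] at h5
      have := mul_left_cancel₀ hne (h5.trans (mul_comm _ _))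
      exact this
    have h9 : ∑ y : G, (Nat.card G : ℂ) * (χ : G → ℂ) y * (χ : G → ℂ) (y⁻¹ * z⁻¹) / (χ : G → ℂ) 1 =
        (Nat.card G : ℂ) / (χ : G → ℂ) 1 * ∑ y : G, (χ : G → ℂ) y * (χ : G → ℂ) (y⁻¹ * z⁻¹) := by
      rw [Finset.mul_sum]
      refine Finset.sum_congr rfl fun y _ => ?_
      ring
    rw [h9, h3]
    have := irr_one_ne_zero χ
    field_simp
  -- assemble
  have hstep : ∀ x y : G, (if x * y * x⁻¹ * y⁻¹ * z⁻¹ = 1 then (1 : ℂ) else 0) =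
      (Nat.card G : ℂ)⁻¹ * ∑ i, (W.equivIrr i : G → ℂ) (x * y * x⁻¹ * y⁻¹ * z⁻¹) *
        (W.equivIrr i : G → ℂ) 1 := by
    intro x y
    have := hdelta (x * y * x⁻¹ * y⁻¹ * z⁻¹)
    rw [hfin] at this
    simp only [hconj1] at this
    rw [this]
    split_ifs
    · exact (inv_mul_cancel₀ hne).symm
    · simp
  have hi : ∀ i, ∑ x : G, ∑ y : G, (W.equivIrr i : G → ℂ) (x * y * x⁻¹ * y⁻¹ * z⁻¹) *
      (W.equivIrr i : G → ℂ) 1 =
      (Nat.card G : ℂ) ^ 2 * ((W.equivIrr i : G → ℂ) z⁻¹ / (W.equivIrr i : G → ℂ) 1) := by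
    intro i
    have h := hmain (W.equivIrr i)
    have h1 := irr_one_ne_zero (W.equivIrr i)
    simp only [← Finset.sum_mul]
    rw [h]
    field_simp
  have hfinal : (Nat.card {xy : G × G // xy.1 * xy.2 * xy.1⁻¹ * xy.2⁻¹ = z} : ℂ) =
      (Nat.card G : ℂ) * ∑ i, (W.equivIrr i : G → ℂ) z⁻¹ / (W.equivIrr i : G → ℂ) 1 := by
    rw [hcount]
    simp only [hstep]
    simp only [← Finset.mul_sum]
    have hswap : ∑ x : G, ∑ y : G, ∑ i, (W.equivIrr i : G → ℂ) (x * y * x⁻¹ * y⁻¹ * z⁻¹) *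
        (W.equivIrr i : G → ℂ) 1 = ∑ i, ∑ x : G, ∑ y : G,
        (W.equivIrr i : G → ℂ) (x * y * x⁻¹ * y⁻¹ * z⁻¹) * (W.equivIrr i : G → ℂ) 1 := by
      rw [Finset.sum_congr rfl (fun x _ => Finset.sum_comm)]
      exact Finset.sum_comm
    rw [hswap]
    simp only [hi, ← Finset.mul_sum]
    field_simp
  rw [hfin]
  have hc := congrArg conj hfinal
  simp only [map_mul, map_sum, map_div₀, Complex.conj_natCast, hconj1] at hc
  rw [hc]
  congr 1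
  refine Finset.sum_congr rfl fun i _ => ?_
  rw [irr_inv, Complex.conj_conj]

end Cfsg.Agent.S4856
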