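import Cfsg.Statements.S0168
import Cfsg.Agent.Lib.Helper79.CharBasic

set_option autoImplicit false
open Cfsg

namespace Cfsg.Agent.S0168

open scoped ComplexConjugate

/-- Vandermonde: if `∑ j, w j * v j ^ i = 0` for all `i < m` with `v` injective then `w = 0`. -/
theorem vandermonde_zero {m : ℕ} (v w : Fin m → ℂ) (hv : Function.Injective v)
    (h : ∀ i : Fin m, ∑ j, w j * v j ^ (i : ℕ) = 0) : w = 0 := by
  have hdet : (Matrix.vandermonde v).det ≠ 0 := Matrix.det_vandermonde_ne_zero_iff.mpr hv
  apply Matrix.eq_zero_of_vecMul_eq_zero hdet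
  funext i
  simp only [Matrix.vecMul, dotProduct, Matrix.vandermonde_apply, Pi.zero_apply]
  exact h i

/-- The Burnside–Brauer Theorem. Let χ be the character of a faithful complex representation of a finite group, taking m distinct values. Then every irreducible character has nonzero inner product with χ ^ i for some i < m. -/
theorem result {G : Type*} [Group G] [Fintype G] {V : Type*} [AddCommGroup V] [Module ℂ V] [FiniteDimensional ℂ V] (ρ : Representation ℂ G V) (hfaithful : Function.Injective ρ) (ψ : G → ℂ) (hψ : Cfsg.IsIrrCharacter G ψ) : ∃ i : ℕ, i < Nat.card (Set.range ρ.character) ∧ Cfsg.classInner (fun g => ρ.character g ^ i) ψ ≠ 0 := by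
  classical
  by_contra hcon
  push_neg at hcon
  set χ := ρ.character with hχ
  haveI : Finite (Set.range χ) := Set.finite_range χ
  haveI : Fintype (Set.range χ) := Fintype.ofFinite _
  set m := Nat.card (Set.range χ) with hm
  have e : Fin m ≃ Set.range χ := (Finite.equivFin (Set.range χ)).symm
  let v : Fin m → ℂ := fun j => (e j : ℂ)
  have hv : Function.Injective v := fun a b hab => e.injective (Subtype.ext hab)
  let w : Fin m → ℂ := fun j => ∑ g : G, if χ g = v j then conj (ψ g) else 0
  have hcard : (Nat.card G : ℂ) ≠ 0 := by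
    exact_mod_cast (Nat.card_pos (α := G)).ne'
  have hw : w = 0 := by
    apply vandermonde_zero v w hv
    intro i
    have h1 := hcon i i.2
    unfold classInner at h1
    have h2 : ∑ g : G, χ g ^ (i : ℕ) * conj (ψ g) = 0 := by
      rcases mul_eq_zero.mp h1 with h | h
      · exact absurd (inv_eq_zero.mp h) hcard
      · exact h
    rw [← h2]
    simp only [w, Finset.sum_mul]
    rw [Finset.sum_comm]
    apply Finset.sum_congr rfl
    intro g _
    have hg : ∃ j, v j = χ g := by
      refine ⟨e.symm ⟨χ g, Set.mem_range_self g⟩, ?_⟩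
      simp [v]
    obtain ⟨j0, hj0⟩ := hg
    rw [Finset.sum_eq_single j0]
    · simp [hj0, mul_comm]
    · intro j _ hj
      have : χ g ≠ v j := fun h => hj (hv (h.symm.trans hj0.symm))
      simp [this]
    · intro h; exact absurd (Finset.mem_univ _) h
  -- evaluate at the value `χ 1`
  obtain ⟨j1, hj1⟩ : ∃ j, v j = χ 1 := by
    refine ⟨e.symm ⟨χ 1, Set.mem_range_self 1⟩, ?_⟩
    simp [v]
  have hw1 : w j1 = conj (ψ 1) := by
    simp only [w]
    rw [Finset.sum_eq_single (1 : G)]
    · simp [hj1]
    · intro g _ hg
      have : χ g ≠ v j1 := by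
        intro h
        rw [hj1, hχ, Representation.char_one] at h
        have h3 := (Cfsg.Agent.Helper79.char_eq_finrank_iff ρ g).mp h
        apply hg
        apply hfaithful
        rw [h3, map_one]
      simp [this]
    · intro h; exact absurd (Finset.mem_univ _) h
  have h0 : conj (ψ 1) = 0 := by rw [← hw1, hw]; rfl
  have h1 : ψ 1 = 0 := by simpa using h0
  exact Cfsg.Agent.Helper79.irr_one_ne_zero ⟨ψ, hψ⟩ h1

end Cfsg.Agent.S0168
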