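import Mathlib
import Cfsg.Statements.S0172

set_option autoImplicit false
open Cfsg

namespace Cfsg.Agent.S0172

/-- Commuting pairs with non-identity first component. -/
theorem ncard_comm_ne_one (X : Type*) [Group X] [Finite X] :
    Set.ncard {p : X × X | p.1 ≠ 1 ∧ Commute p.1 p.2} + Nat.card X =
      Nat.card (ConjClasses X) * Nat.card X := by
  classical
  rw [← card_comm_eq_card_conjClasses_mul_card]
  have h1 : Nat.card {p : X × X // Commute p.1 p.2} =
      Set.ncard {p : X × X | Commute p.1 p.2} := Nat.card_coe_set_eq _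
  rw [h1]
  have h2 : {p : X × X | Commute p.1 p.2} = {p : X × X | p.1 ≠ 1 ∧ Commute p.1 p.2} ∪
      (fun b : X => ((1 : X), b)) '' Set.univ := by
    ext ⟨a, b⟩
    simp only [Set.mem_ofPred_eq, Set.mem_union, Set.mem_image, Set.mem_univ, true_and,
      Prod.mk.injEq]
    constructor
    · intro h
      by_cases ha : a = 1
      · right; exact ⟨b, ha.symm, rfl⟩
      · left; exact ⟨ha, h⟩
    · rintro (⟨_, h⟩ | ⟨b', rfl, rfl⟩)
      · exact h
      · exact Commute.one_left _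
  rw [h2, Set.ncard_union_eq, Set.ncard_image_of_injective, Set.ncard_univ]
  · intro b b' h; exact (Prod.mk.inj h).2
  · rw [Set.disjoint_left]
    rintro ⟨a, b⟩ ⟨ha, _⟩ ⟨b', _, hb⟩
    exact ha (Prod.mk.inj hb).1.symm

set_option linter.unusedSectionVars false

variable {G : Type*} [Group G] [Finite G]

/-- In a Frobenius group `G = K H`, every element outside `K` is `K`-conjugate to an element
of `H` (proof after helper3's `frob_exists_conj`). -/
theorem exists_conj (K H : Subgroup G) [K.Normal] (hKH' : K ⊔ H = ⊤)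
    (hfpf : ∀ h ∈ H, h ≠ 1 → ∀ k ∈ K, h * k = k * h → k = 1) (x : G) (hx : x ∉ K) :
    ∃ c ∈ K, ∃ h ∈ H, h ≠ 1 ∧ x = c * h * c⁻¹ := by
  have hx' : x ∈ K ⊔ H := by rw [hKH']; exact Subgroup.mem_top x
  rw [Subgroup.mem_sup_of_normal_left] at hx'
  obtain ⟨k, hk, h, hh, rfl⟩ := hx'
  have hh1 : h ≠ 1 := by
    rintro rfl
    apply hx; simpa using hk
  let f : K → K := fun c => ⟨(c : G) * h * (c : G)⁻¹ * h⁻¹, by
    have h1 : h * (c : G)⁻¹ * h⁻¹ ∈ K := ‹K.Normal›.conj_mem _ (K.inv_mem c.2) h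
    have := K.mul_mem c.2 h1
    simpa [mul_assoc] using this⟩
  have hinj : Function.Injective f := by
    intro c d hcd
    have h1 : (c : G) * h * (c : G)⁻¹ * h⁻¹ = (d : G) * h * (d : G)⁻¹ * h⁻¹ :=
      congrArg Subtype.val hcd
    have h2 : (c : G) * h * (c : G)⁻¹ = (d : G) * h * (d : G)⁻¹ := mul_right_cancel h1
    have h3 : h * ((c : G)⁻¹ * d) = ((c : G)⁻¹ * d) * h := by
      calc h * ((c : G)⁻¹ * d) = (c : G)⁻¹ * ((c : G) * h * (c : G)⁻¹) * d := by group
        _ = (c : G)⁻¹ * ((d : G) * h * (d : G)⁻¹) * d := by rw [h2]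
        _ = ((c : G)⁻¹ * d) * h := by group
    have h4 := hfpf h hh hh1 ((c : G)⁻¹ * d) (K.mul_mem (K.inv_mem c.2) d.2) h3
    apply Subtype.ext
    have : (d : G) = c := by
      have := congrArg (fun z => (c : G) * z) h4
      simpa using this
    exact this.symm
  have hsurj : Function.Surjective f := Finite.injective_iff_surjective.mp hinj
  obtain ⟨c, hc⟩ := hsurj ⟨k, hk⟩
  refine ⟨c, c.2, h, hh, hh1, ?_⟩
  have h1 : (c : G) * h * (c : G)⁻¹ * h⁻¹ = k := congrArg Subtype.val hc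
  rw [← h1]; group

/-- Key rigidity: a kernel element conjugating a nontrivial complement element into the
complement is trivial. -/
theorem key (K H : Subgroup G) [K.Normal] (hKH : K ⊓ H = ⊥)
    (hfpf : ∀ h ∈ H, h ≠ 1 → ∀ k ∈ K, h * k = k * h → k = 1)
    {u e e' : G} (hu : u ∈ K) (he : e ∈ H) (he' : e' ∈ H) (hne : e ≠ 1)
    (h : u * e * u⁻¹ = e') : u = 1 := by
  have h1 : e' * e⁻¹ ∈ K := by
    have h2 : e * u⁻¹ * e⁻¹ ∈ K := ‹K.Normal›.conj_mem _ (K.inv_mem hu) e
    have := K.mul_mem hu h2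
    rw [← h]
    simpa [mul_assoc] using this
  have h2 : e' * e⁻¹ ∈ H := H.mul_mem he' (H.inv_mem he)
  have h3 : e' * e⁻¹ ∈ K ⊓ H := ⟨h1, h2⟩
  rw [hKH, Subgroup.mem_bot] at h3
  have h4 : e' = e := by
    have := congrArg (fun z => z * e) h3
    simpa using this
  rw [h4] at h
  apply hfpf e he hne u hu
  have := congrArg (fun z => z * u) h
  simpa using this.symm

theorem cent_le_H (K H : Subgroup G) [K.Normal] (hKH : K ⊓ H = ⊥) (hKH' : K ⊔ H = ⊤)
    (hfpf : ∀ h ∈ H, h ≠ 1 → ∀ k ∈ K, h * k = k * h → k = 1)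
    {h x : G} (hh : h ∈ H) (hne : h ≠ 1) (hc : Commute h x) : x ∈ H := by
  have hx' : x ∈ K ⊔ H := by rw [hKH']; exact Subgroup.mem_top x
  rw [Subgroup.mem_sup_of_normal_left] at hx'
  obtain ⟨k, hk, h', hh', rfl⟩ := hx'
  have hne' : h' * h * h'⁻¹ ≠ 1 := by
    intro h0
    apply hne
    have := congrArg (fun z => h'⁻¹ * z * h') h0
    simpa [mul_assoc] using this
  have hconj : k * (h' * h * h'⁻¹) * k⁻¹ = h := by
    have h1 : h * (k * h') = (k * h') * h := hc.eq
    calc k * (h' * h * h'⁻¹) * k⁻¹ = ((k * h') * h) * (k * h')⁻¹ := by group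
      _ = (h * (k * h')) * (k * h')⁻¹ := by rw [h1]
      _ = h := by group
  have hk1 := key K H hKH hfpf hk (H.mul_mem (H.mul_mem hh' hh) (H.inv_mem hh')) hh hne' hconj
  rw [hk1, one_mul]
  exact hh'

theorem cent_le_K (K H : Subgroup G) [K.Normal] (hKH' : K ⊔ H = ⊤)
    (hfpf : ∀ h ∈ H, h ≠ 1 → ∀ k ∈ K, h * k = k * h → k = 1)
    {n x : G} (hn : n ∈ K) (hn1 : n ≠ 1) (hc : Commute n x) : x ∈ K := by
  by_contra hxK
  obtain ⟨c, hc', h, hh, hh1, rfl⟩ := exists_conj K H hKH' hfpf x hxK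
  have h1 : n * (c * h * c⁻¹) = (c * h * c⁻¹) * n := hc.eq
  have hk' : c⁻¹ * n * c ∈ K := by
    have := ‹K.Normal›.conj_mem n hn c⁻¹
    simpa using this
  have h2 : h * (c⁻¹ * n * c) = (c⁻¹ * n * c) * h := by
    calc h * (c⁻¹ * n * c) = c⁻¹ * ((c * h * c⁻¹) * n) * c := by group
      _ = c⁻¹ * (n * (c * h * c⁻¹)) * c := by rw [← h1]
      _ = (c⁻¹ * n * c) * h := by group
  have h3 := hfpf h hh hh1 _ hk' h2
  apply hn1
  have := congrArg (fun z => c * z * c⁻¹) h3
  simpa [mul_assoc] using this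

/-- Class number of a Frobenius group: if G = K H with K normal, K ⊓ H trivial and no non-identity element of H commuting with a non-identity element of K, then |H| * k(G) + 1 = |H| * k(H) + k(K), where k denotes the number of conjugacy classes. -/
theorem result {G : Type*} [Group G] [Finite G] (K H : Subgroup G) [K.Normal] (hKH : K ⊓ H = ⊥) (hKH' : K ⊔ H = ⊤) (hfpf : ∀ h ∈ H, h ≠ 1 → ∀ k ∈ K, h * k = k * h → k = 1) : Nat.card H * Nat.card (ConjClasses G) + 1 = Nat.card H * Nat.card (ConjClasses H) + Nat.card (ConjClasses K) := by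
  classical
  have eG := ncard_comm_ne_one G
  have eK := ncard_comm_ne_one K
  have eH := ncard_comm_ne_one H
  set TG : Set (G × G) := {p : G × G | p.1 ≠ 1 ∧ Commute p.1 p.2} with hTG
  set TK : Set (K × K) := {p : K × K | p.1 ≠ 1 ∧ Commute p.1 p.2} with hTK
  set TH : Set (H × H) := {p : H × H | p.1 ≠ 1 ∧ Commute p.1 p.2} with hTH
  -- |G| = |K| |H|
  have hcardG : Nat.card G = Nat.card K * Nat.card H := by
    have hc : K.IsComplement' H := by
      apply Subgroup.isComplement'_of_disjoint_and_mul_eq_univ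
      · rw [disjoint_iff]; exact hKH
      · rw [← Subgroup.normal_mul, hKH']; rfl
    exact hc.card_mul_card.symm
  let f : K × K → G × G := fun p => ((p.1 : G), (p.2 : G))
  let g : K × (H × H) → G × G := fun q =>
    ((q.1 : G) * (q.2.1 : G) * (q.1 : G)⁻¹, (q.1 : G) * (q.2.2 : G) * (q.1 : G)⁻¹)
  have hfinj : Function.Injective f := by
    rintro ⟨a, b⟩ ⟨a', b'⟩ h
    have h1 := (Prod.mk.inj h).1
    have h2 := (Prod.mk.inj h).2
    exact Prod.ext (Subtype.ext h1) (Subtype.ext h2)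
  have hginj : Set.InjOn g (Set.univ ×ˢ TH) := by
    rintro ⟨c, e, e'⟩ ⟨_, hq⟩ ⟨d, e₂, e₂'⟩ ⟨_, _⟩ h
    have h1 : (c : G) * (e : G) * (c : G)⁻¹ = (d : G) * (e₂ : G) * (d : G)⁻¹ := (Prod.mk.inj h).1
    have h2 : (c : G) * (e' : G) * (c : G)⁻¹ = (d : G) * (e₂' : G) * (d : G)⁻¹ :=
      (Prod.mk.inj h).2
    have hene : (e : G) ≠ 1 := by
      intro h0; exact hq.1 (Subtype.ext h0)
    have hu : ((d : G)⁻¹ * c) * (e : G) * ((d : G)⁻¹ * c)⁻¹ = (e₂ : G) := by
      calc ((d : G)⁻¹ * c) * (e : G) * ((d : G)⁻¹ * c)⁻¹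
          = (d : G)⁻¹ * ((c : G) * (e : G) * (c : G)⁻¹) * d := by group
        _ = (d : G)⁻¹ * ((d : G) * (e₂ : G) * (d : G)⁻¹) * d := by rw [h1]
        _ = e₂ := by group
    have hdc := key K H hKH hfpf (K.mul_mem (K.inv_mem d.2) c.2) e.2 e₂.2 hene hu
    have hcd : (c : G) = d := by
      have := congrArg (fun z => (d : G) * z) hdc
      simpa using this
    have hcd' : c = d := Subtype.ext hcd
    subst hcd'
    have h3 : (e : G) = e₂ := by
      have := congrArg (fun z => (c : G)⁻¹ * z * c) h1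
      simpa [mul_assoc] using this
    have h4 : (e' : G) = e₂' := by
      have := congrArg (fun z => (c : G)⁻¹ * z * c) h2
      simpa [mul_assoc] using this
    have h3' : e = e₂ := Subtype.ext h3
    have h4' : e' = e₂' := Subtype.ext h4
    rw [h3', h4']
  have hdisj : Disjoint (f '' TK) (g '' (Set.univ ×ˢ TH)) := by
    rw [Set.disjoint_left]
    rintro _ ⟨⟨a, b⟩, _, rfl⟩ ⟨⟨c, e, e'⟩, ⟨_, hq⟩, h⟩
    have h1 : (c : G) * (e : G) * (c : G)⁻¹ = (a : G) := (Prod.mk.inj h).1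
    have h2 : (e : G) ∈ K := by
      have h3 : (c : G)⁻¹ * (a : G) * ((c : G)⁻¹)⁻¹ ∈ K := ‹K.Normal›.conj_mem _ a.2 _
      rw [← h1] at h3
      have h4 : (c : G)⁻¹ * ((c : G) * (e : G) * (c : G)⁻¹) * ((c : G)⁻¹)⁻¹ = e := by group
      rw [h4] at h3
      exact h3
    have h5 : (e : G) ∈ K ⊓ H := ⟨h2, e.2⟩
    rw [hKH, Subgroup.mem_bot] at h5
    exact hq.1 (Subtype.ext h5)
  have hsplit : TG = f '' TK ∪ g '' (Set.univ ×ˢ TH) := by
    ext ⟨a, b⟩
    constructor
    · rintro ⟨ha, hab⟩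
      have ha : a ≠ 1 := ha
      have hab : Commute a b := hab
      by_cases haK : a ∈ K
      · left
        have hbK : b ∈ K := cent_le_K K H hKH' hfpf haK ha hab
        refine ⟨(⟨a, haK⟩, ⟨b, hbK⟩), ⟨?_, ?_⟩, rfl⟩
        · intro h0; exact ha (congrArg Subtype.val h0)
        · exact Subtype.ext hab.eq
      · right
        obtain ⟨c, hc, h, hh, hh1, rfl⟩ := exists_conj K H hKH' hfpf a haK
        have hcomm : Commute h (c⁻¹ * b * c) := by
          have h1 : (c * h * c⁻¹) * b = b * (c * h * c⁻¹) := hab.eq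
          show h * (c⁻¹ * b * c) = (c⁻¹ * b * c) * h
          calc h * (c⁻¹ * b * c) = c⁻¹ * ((c * h * c⁻¹) * b) * c := by group
            _ = c⁻¹ * (b * (c * h * c⁻¹)) * c := by rw [h1]
            _ = (c⁻¹ * b * c) * h := by group
        have hbH : c⁻¹ * b * c ∈ H := cent_le_H K H hKH hKH' hfpf hh hh1 hcomm
        refine ⟨(⟨c, hc⟩, ⟨h, hh⟩, ⟨c⁻¹ * b * c, hbH⟩), ⟨Set.mem_univ _, ?_, ?_⟩, ?_⟩
        · intro h0; exact hh1 (congrArg Subtype.val h0)
        · exact Subtype.ext hcomm.eq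
        · show (c * h * c⁻¹, c * (c⁻¹ * b * c) * c⁻¹) = (c * h * c⁻¹, b)
          congr 1
          group
    · rintro (⟨⟨a', b'⟩, ⟨ha, hab⟩, h⟩ | ⟨⟨c, e, e'⟩, ⟨_, he, hee⟩, h⟩)
      · have h1 : (a' : G) = a := (Prod.mk.inj h).1
        have h2 : (b' : G) = b := (Prod.mk.inj h).2
        subst h1 h2
        refine ⟨?_, ?_⟩
        · intro h0; exact ha (Subtype.ext h0)
        · exact congrArg Subtype.val hab.eq
      · have h1 : (c : G) * (e : G) * (c : G)⁻¹ = a := (Prod.mk.inj h).1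
        have h2 : (c : G) * (e' : G) * (c : G)⁻¹ = b := (Prod.mk.inj h).2
        subst h1 h2
        have he0 : (e : G) ≠ 1 := by
          intro h0; exact he (Subtype.ext h0)
        have hee0 : (e : G) * (e' : G) = (e' : G) * (e : G) := congrArg Subtype.val hee.eq
        refine ⟨?_, ?_⟩
        · intro h0
          apply he0
          have := congrArg (fun z => (c : G)⁻¹ * z * c) h0
          simpa [mul_assoc] using this
        · show (c : G) * (e : G) * (c : G)⁻¹ * ((c : G) * (e' : G) * (c : G)⁻¹) =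
            (c : G) * (e' : G) * (c : G)⁻¹ * ((c : G) * (e : G) * (c : G)⁻¹)
          calc (c : G) * (e : G) * (c : G)⁻¹ * ((c : G) * (e' : G) * (c : G)⁻¹)
              = (c : G) * ((e : G) * (e' : G)) * (c : G)⁻¹ := by group
            _ = (c : G) * ((e' : G) * (e : G)) * (c : G)⁻¹ := by rw [hee0]
            _ = (c : G) * (e' : G) * (c : G)⁻¹ * ((c : G) * (e : G) * (c : G)⁻¹) := by group
  have hTGcard : TG.ncard = TK.ncard + Nat.card K * TH.ncard := by
    rw [hsplit, Set.ncard_union_eq hdisj, Set.ncard_image_of_injective _ hfinj,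
      Set.InjOn.ncard_image hginj, Set.ncard_prod, Set.ncard_univ]
  have hKpos : 0 < Nat.card K := Nat.card_pos
  apply Nat.eq_of_mul_eq_mul_left hKpos
  rw [hTGcard, hcardG] at eG
  have eH' := congrArg (fun z => Nat.card K * z) eH
  nlinarith [eG, eK, eH']

end Cfsg.Agent.S0172
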