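import Cfsg.Statements.S0178
import Cfsg.Agent.Lib.Helper3.Spectral

set_option autoImplicit false
open Cfsg

namespace Cfsg.Agent.S0178

open Module

/-- The degree of an irreducible complex representation of a finite group is at most the index of any abelian subgroup. -/
theorem result {G : Type*} [Group G] [Finite G] {V : Type*} [AddCommGroup V] [Module ℂ V] [FiniteDimensional ℂ V] (ρ : Representation ℂ G V) [ρ.IsIrreducible] (A : Subgroup G) (hA : ∀ a ∈ A, ∀ b ∈ A, a * b = b * a) : Module.finrank ℂ V ≤ A.index := by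
  classical
  -- V is nontrivial
  have hnt : Nontrivial V := by
    by_contra h
    rw [not_nontrivial_iff_subsingleton] at h
    have : (⊥ : Subrepresentation ρ) = ⊤ := by
      apply Subrepresentation.toSubmodule_injective
      exact Subsingleton.elim _ _
    exact bot_ne_top this
  -- the commuting family ρ a, a ∈ A
  let f : A → Module.End ℂ V := fun a => ρ a
  have hcomm : Pairwise fun i j => Commute (f i) (f j) := by
    intro i j _
    show ρ i * ρ j = ρ j * ρ i
    rw [← map_mul, ← map_mul, hA i i.2 j j.2]
  have htop := Module.End.iSup_iInf_maxGenEigenspace_eq_top_of_iSup_maxGenEigenspace_eq_top_of_commute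
    f hcomm (fun i => Module.End.iSup_maxGenEigenspace_eq_top (f i))
  obtain ⟨χ, hχ⟩ : ∃ χ : A → ℂ, (⨅ i, (f i).maxGenEigenspace (χ i)) ≠ ⊥ := by
    by_contra h
    push Not at h
    simp only [h, iSup_bot] at htop
    exact bot_ne_top htop
  obtain ⟨v, hv, hv0⟩ := (Submodule.ne_bot_iff _).mp hχ
  have hev : ∀ a : A, ρ a v = χ a • v := by
    intro a
    have := (Submodule.mem_iInf _).mp hv a
    rw [(Cfsg.Agent.Helper3.rho_isSemisimple ρ (a : G)).isFinitelySemisimple.maxGenEigenspace_eq_eigenspace] at this
    exact Module.End.mem_eigenspace_iff.mp this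
  -- the span of the translates of v by coset representatives
  let b : G ⧸ A → V := fun q => ρ q.out v
  have hinv : ∀ (g : G) (q : G ⧸ A), ρ g (b q) ∈ Submodule.span ℂ (Set.range b) := by
    intro g q
    obtain ⟨h, hh⟩ := QuotientGroup.mk_out_eq_mul A (g * q.out)
    have hg : g * q.out = (QuotientGroup.mk (g * q.out) : G ⧸ A).out * (h⁻¹ : A) := by
      rw [hh]; simp
    show ρ g (ρ q.out v) ∈ _
    rw [← Module.End.mul_apply, ← map_mul, hg, map_mul, Module.End.mul_apply, hev, map_smul]
    exact Submodule.smul_mem _ _ (Submodule.subset_span ⟨_, rfl⟩)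
  let W : Subrepresentation ρ := ⟨Submodule.span ℂ (Set.range b), by
    intro g w hw
    induction hw using Submodule.span_induction with
    | mem x hx => obtain ⟨q, rfl⟩ := hx; exact hinv g q
    | zero => simp
    | add x y _ _ hx hy => rw [map_add]; exact Submodule.add_mem _ hx hy
    | smul c x _ hx => rw [map_smul]; exact Submodule.smul_mem _ _ hx⟩
  have hWne : W ≠ ⊥ := by
    intro h
    have hmem : b (QuotientGroup.mk 1) ∈ W.toSubmodule := Submodule.subset_span ⟨_, rfl⟩
    rw [h] at hmem
    have h0 : b (QuotientGroup.mk 1) = 0 := (Submodule.mem_bot ℂ).mp hmem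
    apply hv0
    have : ρ ((QuotientGroup.mk 1 : G ⧸ A).out)⁻¹ (b (QuotientGroup.mk 1)) = v := by
      show ρ _ (ρ _ v) = v
      rw [← Module.End.mul_apply, ← map_mul, inv_mul_cancel, map_one, Module.End.one_apply]
    rw [← this, h0, map_zero]
  have hWtop : W = ⊤ := (IsSimpleOrder.eq_bot_or_eq_top W).resolve_left hWne
  have hspan : Submodule.span ℂ (Set.range b) = ⊤ := congrArg Subrepresentation.toSubmodule hWtop
  have := Fintype.ofFinite (G ⧸ A)
  calc Module.finrank ℂ V = Module.finrank ℂ (⊤ : Submodule ℂ V) := (finrank_top ℂ V).symm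
    _ = (Set.range b).finrank ℂ := by rw [Set.finrank, hspan]
    _ ≤ Fintype.card (G ⧸ A) := finrank_range_le_card b
    _ = A.index := by rw [Subgroup.index_eq_card, Nat.card_eq_fintype_card]

end Cfsg.Agent.S0178
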