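import Cfsg.Statements.S0179
import Cfsg.Agent.Lib.Helper3.CharIntegral
import Cfsg.Agent.S4566

set_option autoImplicit false
open Cfsg

namespace Cfsg.Agent.S0179

open scoped ComplexConjugate
open Module Cfsg.Agent.Helper3

/-- the bijection `(G ⧸ Z) × Z → G`, `(q, z) ↦ q.out * z` -/
theorem bijective_out_mul {G : Type*} [Group G] (Z : Subgroup G) :
    Function.Bijective (fun p : (G ⧸ Z) × Z => p.1.out * (p.2 : G)) := by
  constructor
  · rintro ⟨q, z⟩ ⟨q', z'⟩ h
    simp only at h
    have hq : q = q' := by
      have h1 : ((q.out * (z : G) : G) : G ⧸ Z) = q := by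
        rw [QuotientGroup.mk_mul_of_mem _ z.2]; exact QuotientGroup.out_eq' q
      have h2 : ((q'.out * (z' : G) : G) : G ⧸ Z) = q' := by
        rw [QuotientGroup.mk_mul_of_mem _ z'.2]; exact QuotientGroup.out_eq' q'
      rw [← h1, ← h2, h]
    subst hq
    have hz : (z : G) = z' := mul_left_cancel h
    rw [Subtype.ext hz]
  · intro g
    obtain ⟨h, hh⟩ := QuotientGroup.mk_out_eq_mul Z g
    refine ⟨((g : G ⧸ Z), h⁻¹), ?_⟩
    simp only [hh]
    simp

theorem sum_eq_card_smul_sum_out {G : Type*} [Group G] [Fintype G] (Z : Subgroup G)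
    [Fintype Z] [Fintype (G ⧸ Z)]
    {M : Type*} [AddCommMonoid M] (F : G → M)
    (hF : ∀ g : G, ∀ z ∈ Z, F (g * z) = F g) :
    ∑ g, F g = Nat.card Z • ∑ q : G ⧸ Z, F q.out := by
  classical
  rw [← (bijective_out_mul Z).sum_comp, Fintype.sum_prod_type, Finset.smul_sum]
  apply Finset.sum_congr rfl
  intro q _
  have : ∀ z : Z, F (q.out * (z : G)) = F q.out := fun z => hF q.out z z.2
  simp only [this]
  simp [Nat.card_eq_fintype_card]

theorem sum_ite_out {G : Type*} [Group G] [Fintype G] (Z : Subgroup G)
    [Fintype Z] [Fintype (G ⧸ Z)]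
    {M : Type*} [AddCommMonoid M] (F : G → M) [DecidableEq G] :
    ∑ g : G, (if ((g : G ⧸ Z)).out = g then F g else 0) = ∑ q : G ⧸ Z, F q.out := by
  classical
  rw [← (bijective_out_mul Z).sum_comp, Fintype.sum_prod_type]
  apply Finset.sum_congr rfl
  intro q _
  simp only
  rw [Finset.sum_eq_single (1 : Z)]
  · have : ((q.out * ((1 : Z) : G) : G) : G ⧸ Z) = q := by simp
    simp
  · intro z _ hz
    have h1 : ((q.out * (z : G) : G) : G ⧸ Z) = q := by
      rw [QuotientGroup.mk_mul_of_mem _ z.2]; exact QuotientGroup.out_eq' q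
    rw [h1, if_neg]
    intro h
    apply hz
    have : (z : G) = 1 := by
      have := h
      nth_rewrite 1 [← mul_one q.out] at this
      exact (mul_left_cancel this).symm
    exact Subtype.ext this
  · intro h; exact absurd (Finset.mem_univ _) h

/-- The degree of an irreducible complex character of a finite group divides the index of the centre. -/
theorem result {G : Type*} [Group G] [Finite G] {V : Type*} [AddCommGroup V] [Module ℂ V] [FiniteDimensional ℂ V] (ρ : Representation ℂ G V) [ρ.IsIrreducible] : Module.finrank ℂ V ∣ (Subgroup.center G).index := by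
  classical
  haveI : Fintype G := Fintype.ofFinite G
  haveI : Fintype (Subgroup.center G) := Fintype.ofFinite _
  haveI : Fintype (G ⧸ Subgroup.center G) := Fintype.ofFinite _
  have hV := nontrivial_of_irr ρ
  obtain ⟨a, ha1, ha2, ha3, ha4, ha5, ha6⟩ := Cfsg.Agent.S4566.exists_central_scalar ρ
  set Z := Subgroup.center G with hZ
  set c : G → ℂ := fun x => conj (ρ.character x) with hcdef
  have hcl : Cfsg.IsClassFunction G c := by
    intro x y
    simp only [hcdef, Representation.char_conj]
  have h := opSum_eq_smul_of_irr ρ c hcl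
  have hsum : ∑ x, c x * ρ.character x = (Nat.card G : ℂ) := by
    have := classInner_irr_self (isIrrCharacter_of_rep ρ)
    unfold Cfsg.classInner at this
    have hG : (Nat.card G : ℂ) ≠ 0 := card_ne_zero_complex
    field_simp at this
    rw [← this]
    apply Finset.sum_congr rfl
    intro x _
    simp only [hcdef]; ring
  rw [hsum] at h
  -- the transversal coefficient function
  set c' : G → ℂ := fun x => if ((x : G ⧸ Z)).out = x then c x else 0 with hc'def
  have hint : ∀ x, IsIntegral ℤ (c' x) := by
    intro x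
    simp only [hc'def]
    split_ifs
    · exact isIntegral_conj (char_isIntegral ρ x)
    · exact isIntegral_zero
  have hinv : ∀ g : G, ∀ z ∈ Z, c (g * z) • ρ (g * z) = c g • ρ g := by
    intro g z hz
    simp only [hcdef]
    rw [ha5 z hz g, map_mul ρ, ha1 z hz, map_mul, mul_smul_comm, mul_one, smul_smul]
    congr 1
    have h1 : conj (a z) * a z = 1 := by
      rw [mul_comm, Complex.mul_conj, Complex.normSq_eq_norm_sq, ha4 z hz]; simp
    calc conj (a z) * conj (ρ.character g) * a z
        = (conj (a z) * a z) * conj (ρ.character g) := by ring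
      _ = conj (ρ.character g) := by rw [h1, one_mul]
  have key : opSum ρ c = Nat.card Z • opSum ρ c' := by
    unfold opSum
    rw [sum_eq_card_smul_sum_out Z (fun g => c g • ρ g) hinv]
    congr 1
    rw [← sum_ite_out Z (fun g => c g • ρ g)]
    apply Finset.sum_congr rfl
    intro g _
    simp only [hc'def]
    split_ifs <;> simp
  have hZpos : (Nat.card Z : ℂ) ≠ 0 := by
    exact_mod_cast (Nat.card_pos (α := Z)).ne'
  have hnpos : (finrank ℂ V : ℂ) ≠ 0 := by
    exact_mod_cast (Module.finrank_pos (R := ℂ) (M := V)).ne'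
  have h2 : opSum ρ c' = (((Subgroup.center G).index : ℂ) / (finrank ℂ V : ℂ)) • (1 : Module.End ℂ V) := by
    have h3 : (Nat.card Z : ℂ) • opSum ρ c' = ((Nat.card G : ℂ) / (finrank ℂ V : ℂ)) • (1 : Module.End ℂ V) := by
      rw [← h, key, Nat.cast_smul_eq_nsmul]
    have h4 : opSum ρ c' = (Nat.card Z : ℂ)⁻¹ • ((Nat.card Z : ℂ) • opSum ρ c') := by
      rw [smul_smul, inv_mul_cancel₀ hZpos, one_smul]
    rw [h4, h3, smul_smul]
    congr 1
    have h5 : (Nat.card G : ℂ) = (Nat.card Z : ℂ) * ((Subgroup.center G).index : ℂ) := by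
      rw [← Subgroup.card_mul_index (Subgroup.center G)]; push_cast; rfl
    rw [h5]
    field_simp
  have := isIntegral_of_opSum_eq_smul ρ c' hint _ h2
  exact rat_of_isIntegral_natCast_div _ _ (Module.finrank_pos (R := ℂ) (M := V)).ne' this

end Cfsg.Agent.S0179
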