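import Cfsg.Statements.S0181
import Mathlib
import Cfsg.Agent.Lib.Helper79.Completeness

set_option autoImplicit false
open Cfsg

namespace Cfsg.Agent.S0181

/-- Let H be a normal subgroup of a finite group G and ρ an irreducible complex representation whose kernel does not contain H. If g commutes with no non-identity element of H, then the character of ρ vanishes at g. -/
theorem result {G : Type*} [Group G] [Finite G] {V : Type*} [AddCommGroup V] [Module ℂ V] [FiniteDimensional ℂ V] (ρ : Representation ℂ G V) [ρ.IsIrreducible] (H : Subgroup G) [H.Normal] (hker : ∃ h ∈ H, ρ h ≠ LinearMap.id) (g : G) (hg : ∀ h ∈ H, h * g = g * h → h = 1) : ρ.character g = 0 := by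
  classical
  have : Fintype ↥H := Fintype.ofFinite _
  let T : Module.End ℂ V := ∑ h : ↥H, ρ (h : G)
  have hTdef : T = ∑ h : ↥H, ρ (h : G) := rfl
  -- `T` commutes with the representation
  have hTcomm : ∀ x : G, T ∘ₗ ρ x = ρ x ∘ₗ T := by
    intro x
    show T * ρ x = ρ x * T
    rw [hTdef, Finset.sum_mul, Finset.mul_sum]
    refine (Fintype.sum_equiv (MulAut.conjNormal x : ↥H ≃* ↥H).toEquiv _ _ fun h => ?_).symm
    simp only [MulEquiv.toEquiv_eq_coe, EquivLike.coe_coe, MulAut.conjNormal_apply, ← map_mul]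
    congr 1
    group
  obtain ⟨c, hTc, -⟩ := Cfsg.Agent.Helper79.schur_scalar ρ T hTcomm
  obtain ⟨h₀, hh₀, hne⟩ := hker
  have h1 : ρ h₀ * T = T := by
    rw [hTdef, Finset.mul_sum]
    refine Fintype.sum_equiv (Equiv.mulLeft (⟨h₀, hh₀⟩ : ↥H)) _ _ fun h => ?_
    simp only [Equiv.coe_mulLeft, Subgroup.coe_mul, map_mul]
  have hc : c = 0 := by
    by_contra hc
    apply hne
    rw [hTc, mul_smul_comm, mul_one] at h1
    have := smul_right_injective (Module.End ℂ V) hc h1
    exact this
  have hT0 : T = 0 := by rw [hTc, hc, zero_smul]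
  -- the character is constant on the coset `H g`
  have hconst : ∀ k : ↥H, ρ.character ((k : G) * g) = ρ.character g := by
    let f : ↥H → ↥H := fun h => ⟨(h : G) * g * (h : G)⁻¹ * g⁻¹, by
      have h2 : g * (h : G)⁻¹ * g⁻¹ ∈ H := ‹H.Normal›.conj_mem _ (H.inv_mem h.2) g
      have := H.mul_mem h.2 h2
      convert this using 1
      group⟩
    have hfinj : Function.Injective f := by
      intro a b hab
      have hab' : (a : G) * g * (a : G)⁻¹ * g⁻¹ = (b : G) * g * (b : G)⁻¹ * g⁻¹ :=
        congrArg Subtype.val hab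
      have h3 : ((b : G)⁻¹ * (a : G)) * g = g * ((b : G)⁻¹ * (a : G)) := by
        have h4 : (a : G) * g * (a : G)⁻¹ = (b : G) * g * (b : G)⁻¹ := mul_right_cancel hab'
        calc ((b : G)⁻¹ * (a : G)) * g = (b : G)⁻¹ * ((a : G) * g * (a : G)⁻¹) * (a : G) := by group
          _ = (b : G)⁻¹ * ((b : G) * g * (b : G)⁻¹) * (a : G) := by rw [h4]
          _ = g * ((b : G)⁻¹ * (a : G)) := by group
      have h5 := hg _ (H.mul_mem (H.inv_mem b.2) a.2) h3
      apply Subtype.ext
      exact (inv_mul_eq_one.mp h5).symm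
    have hfsurj : Function.Surjective f := Finite.surjective_of_injective hfinj
    intro k
    obtain ⟨h, hh⟩ := hfsurj k
    have hk : (k : G) = (h : G) * g * (h : G)⁻¹ * g⁻¹ := (congrArg Subtype.val hh).symm
    rw [hk]
    have : (h : G) * g * (h : G)⁻¹ * g⁻¹ * g = (h : G) * g * (h : G)⁻¹ := by group
    rw [this, Representation.char_conj]
  have hsum : ∑ k : ↥H, ρ.character ((k : G) * g) = LinearMap.trace ℂ V (T * ρ g) := by
    rw [hTdef, Finset.sum_mul, map_sum]
    refine Finset.sum_congr rfl fun k _ => ?_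
    rw [Representation.character, map_mul]
  rw [hT0, zero_mul, map_zero] at hsum
  simp only [hconst, Finset.sum_const, Finset.card_univ, nsmul_eq_mul] at hsum
  have hcard : (Fintype.card ↥H : ℂ) ≠ 0 := by
    exact_mod_cast Fintype.card_ne_zero
  exact (mul_eq_zero.mp hsum).resolve_left hcard

end Cfsg.Agent.S0181
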