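import Cfsg.Statements.S1526
import Mathlib
import Cfsg.Agent.Lib.Helper82.CNTable
import Cfsg.Agent.Lib.Helper29.FrobPair

set_option autoImplicit false
set_option linter.style.haveILetI false
set_option linter.unusedVariables false
open Cfsg

namespace Cfsg.Agent.S1526

universe u v

theorem cover_cls {G : Type*} [Group G] [Finite G] {ι : Type*} (H : ι → Subgroup G)
    (hcop : ∀ i j, i ≠ j → Nat.Coprime (Nat.card (H i)) (Nat.card (H j)))
    (hcover : ∀ g : G, g ≠ 1 → ∃ i, ∃ x : G, x * g * x⁻¹ ∈ H i) [Nonempty ι] :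
    ∃ cls : G → ι, ∀ x : G, x ≠ 1 → ∀ m, (∃ g : G, g * x * g⁻¹ ∈ H m) ↔ cls x = m := by
  classical
  have huniq : ∀ x : G, x ≠ 1 → ∀ i j, (∃ g : G, g * x * g⁻¹ ∈ H i) →
      (∃ g : G, g * x * g⁻¹ ∈ H j) → i = j := by
    intro x hx i j ⟨g, hg⟩ ⟨g', hg'⟩
    by_contra hij
    have h1 : orderOf x ∣ Nat.card (H i) := by
      have h := Subgroup.orderOf_dvd_natCard (H i) hg
      have e : g * x * g⁻¹ = MulAut.conj g x := rfl
      rwa [e, MulEquiv.orderOf_eq] at h
    have h2 : orderOf x ∣ Nat.card (H j) := by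
      have h := Subgroup.orderOf_dvd_natCard (H j) hg'
      have e : g' * x * g'⁻¹ = MulAut.conj g' x := rfl
      rwa [e, MulEquiv.orderOf_eq] at h
    have h3 := Nat.eq_one_of_dvd_coprimes (hcop i j hij) h1 h2
    exact hx (orderOf_eq_one_iff.1 h3)
  refine ⟨fun x => if h : x = 1 then Classical.arbitrary ι else
    Classical.choose (hcover x h), ?_⟩
  intro x hx m
  dsimp only
  rw [dif_neg hx]
  constructor
  · intro hm
    exact huniq x hx _ _ (Classical.choose_spec (hcover x hx)) hm
  · intro h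
    rw [← h]
    exact Classical.choose_spec (hcover x hx)

theorem aux {G : Type u} [Group G] [Finite G] (hodd : Odd (Nat.card G)) {ι : Type v} [Fintype ι]
    (hι : 2 ≤ Fintype.card ι) (L H : ι → Subgroup G) (hHL : ∀ i, H i < L i)
    (hH1 : ∀ i, H i ≠ ⊥) (hHn : ∀ i, ∀ x ∈ L i, ∀ h ∈ H i, x * h * x⁻¹ ∈ H i)
    (hfrob : ∀ i, ∀ h ∈ H i, h ≠ 1 → L i ⊓ Subgroup.centralizer ({h} : Set G) ≤ H i)
    (hcop : ∀ i j, i ≠ j → Nat.Coprime (Nat.card (H i)) (Nat.card (H j)))
    (hTI : ∀ i, Cfsg.IsTISubset (H i : Set G) ∧ Subgroup.normalizer (H i : Set G) = L i)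
    (hcover : ∀ g : G, g ≠ 1 → ∃ i, ∃ x : G, x * g * x⁻¹ ∈ H i) : False := by
  classical
  haveI := Fintype.ofFinite G
  haveI : Nonempty ι := by
    rw [← Fintype.card_pos_iff]
    omega
  have hpair := fun i =>
    Cfsg.Agent.Helper29.FrobPair.frob_pair (H i) (L i) (hHL i) (hHn i) (hfrob i)
  have hN : ∀ i, Subgroup.normalizer (H i : Set G) = L i := fun i => (hTI i).2
  obtain ⟨cls, hcls⟩ := cover_cls H hcop hcover
  let E : ULift.{u} (Fin (Fintype.card ι)) ≃ ι := Equiv.ulift.trans (Fintype.equivFin ι).symm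
  haveI : Nonempty (ULift.{u} (Fin (Fintype.card ι))) := ⟨E.symm (Classical.arbitrary ι)⟩
  refine Cfsg.Agent.Helper82.CNTable.cn_table_false (ι := ULift.{u} (Fin (Fintype.card ι))) hodd
    (fun j => H (E j)) ?_ ?_ ?_ ?_ ?_ ?_ ?_ (fun x => E.symm (cls x)) ?_
  · intro m
    exact (hTI (E m)).1
  · intro m
    show H (E m) < Subgroup.normalizer (H (E m) : Set G)
    rw [hN]
    exact hHL (E m)
  · intro m k hk hk1 c hc
    show c ∈ H (E m)
    have hck : c * k * c⁻¹ = k := by
      have := (Subgroup.mem_centralizer_iff.1 hc) k rfl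
      rw [← this]
      group
    have hcL : c ∈ L (E m) := by
      rw [← hN]
      by_contra hnot
      exact hk1 ((hTI (E m)).1 c hnot k hk (by rw [hck]; exact hk))
    exact hfrob (E m) k hk hk1 ⟨hcL, hc⟩
  · intro m
    exact (hpair (E m)).2
  · intro m
    exact hH1 (E m)
  · intro m
    show Nat.Coprime (Nat.card (H (E m)))
      ((H (E m)).relIndex (Subgroup.normalizer (H (E m) : Set G)))
    rw [hN]
    exact (hpair (E m)).1
  · intro k l hkl
    exact hcop (E k) (E l) (fun h => hkl (E.injective h))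
  · intro x hx m
    show (∃ g : G, g * x * g⁻¹ ∈ H (E m)) ↔ E.symm (cls x) = m
    rw [hcls x hx (E m), Equiv.symm_apply_eq]


/-- Let G be a finite group of odd order and (L i, H i), i in a finite index type with at least two elements, pairs of subgroups with H i a nontrivial proper normal subgroup of L i such that every non-identity element of H i has its centraliser within L i contained in H i (L i is a Frobenius group with kernel H i), the orders of the H i pairwise coprime, and the underlying set of each H i a TI-subset of G with normaliser L i. If every non-identity element of G is conjugate to an element of some H i, we reach a contradiction. -/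
theorem result {G : Type*} [Group G] [Finite G] (hodd : Odd (Nat.card G)) {ι : Type*} [Fintype ι] (hι : 2 ≤ Fintype.card ι) (L H : ι → Subgroup G) (hHL : ∀ i, H i < L i) (hH1 : ∀ i, H i ≠ ⊥) (hHn : ∀ i, ∀ x ∈ L i, ∀ h ∈ H i, x * h * x⁻¹ ∈ H i) (hfrob : ∀ i, ∀ h ∈ H i, h ≠ 1 → L i ⊓ Subgroup.centralizer ({h} : Set G) ≤ H i) (hcop : ∀ i j, i ≠ j → Nat.Coprime (Nat.card (H i)) (Nat.card (H j))) (hTI : ∀ i, Cfsg.IsTISubset (H i : Set G) ∧ Subgroup.normalizer (H i : Set G) = L i) (hcover : ∀ g : G, g ≠ 1 → ∃ i, ∃ x : G, x * g * x⁻¹ ∈ H i) : False := by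
  exact aux hodd hι L H hHL hH1 hHn hfrob hcop hTI hcover

end Cfsg.Agent.S1526
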