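import Cfsg.Statements.S0184
import Mathlib
import Cfsg.Agent.Lib.Helper3.CharDecomp
import Cfsg.Agent.S0015
import Cfsg.Agent.S4566

set_option autoImplicit false
open Cfsg

namespace Cfsg.Agent.S0184

open Cfsg.Agent.Helper3
open scoped ComplexConjugate

/-- in a finite cyclic group, an element killed by `p` lies in the subgroup generated by any
element of order `p`. -/
theorem mem_zpowers_of_orderOf_eq {A : Type*} [Group A] [Finite A] [IsCyclic A] {p : ℕ}
    (hp : 0 < p) {w z : A} (hw : orderOf w = p) (hz : z ^ p = 1) : z ∈ Subgroup.zpowers w := by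
  classical
  haveI := Fintype.ofFinite A
  by_contra hmem
  have h := IsCyclic.card_pow_eq_one_le (α := A) hp
  have hS : ((Subgroup.zpowers w : Set A).toFinset).card = p := by
    rw [Set.toFinset_card, ← hw]
    exact Fintype.card_zpowers
  have hsub : insert z (Subgroup.zpowers w : Set A).toFinset ⊆
      Finset.univ.filter (fun a => a ^ p = 1) := by
    intro a ha
    rw [Finset.mem_insert] at ha
    simp only [Finset.mem_filter, Finset.mem_univ, true_and]
    rcases ha with rfl | ha
    · exact hz
    · rw [Set.mem_toFinset] at ha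
      obtain ⟨k, rfl⟩ := ha
      show (w ^ k) ^ p = 1
      rw [← zpow_natCast, ← zpow_mul, mul_comm, zpow_mul, zpow_natCast, ← hw, pow_orderOf_eq_one,
        one_zpow]
  have hc : (insert z (Subgroup.zpowers w : Set A).toFinset).card = p + 1 := by
    rw [Finset.card_insert_of_notMem, hS]
    rw [Set.mem_toFinset]
    exact hmem
  have := Finset.card_le_card hsub
  omega

/-- A finite p-group admits a faithful irreducible complex representation if and only if its centre is cyclic. -/
theorem result {G : Type*} [Group G] [Finite G] (p : ℕ) [Fact p.Prime] (hG : IsPGroup p G) : (∃ (n : ℕ) (ρ : Representation ℂ G (Fin n → ℂ)), ρ.IsIrreducible ∧ Function.Injective ρ) ↔ IsCyclic (Subgroup.center G) := by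
  classical
  haveI : Fintype G := Fintype.ofFinite G
  have hp : p.Prime := Fact.out
  constructor
  · rintro ⟨n, ρ, hirr, hinj⟩
    haveI := hirr
    obtain ⟨a, ha, ha1, hamul, -, -, -⟩ := Cfsg.Agent.S4566.exists_central_scalar ρ
    let f : Subgroup.center G →* ℂ :=
      { toFun := fun z => a z
        map_one' := ha1
        map_mul' := fun z z' => hamul z z.2 z' z'.2 }
    have hf : Function.Injective f := by
      intro z z' hzz
      apply Subtype.ext
      apply hinj
      rw [ha z z.2, ha z' z'.2]
      have : a z = a z' := hzz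
      rw [this]
    exact isCyclic_of_subgroup_isDomain f hf
  · intro hcyc
    by_cases hsub : Subsingleton G
    · obtain ⟨n, ρ, hirr, -⟩ := isIrrCharacter_one (G := G)
      exact ⟨n, ρ, hirr, fun x y _ => Subsingleton.elim x y⟩
    · rw [not_subsingleton_iff_nontrivial] at hsub
      haveI := hsub
      haveI : Nontrivial (Subgroup.center G) := hG.center_nontrivial
      have hpc : IsPGroup p (Subgroup.center G) := hG.to_subgroup _
      obtain ⟨k, hk, hcard⟩ := hpc.nontrivial_iff_card.mp inferInstance
      have hpd : p ∣ Nat.card (Subgroup.center G) := by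
        rw [hcard]; exact dvd_pow_self p hk.ne'
      obtain ⟨z0, hz0⟩ := exists_prime_orderOf_dvd_card' (G := Subgroup.center G) p hpd
      have hz0G : orderOf (z0 : G) = p := by rw [Subgroup.orderOf_coe, hz0]
      have hz0ne : (z0 : G) ≠ 1 := by
        intro h
        rw [h, orderOf_one] at hz0G
        exact hp.one_lt.ne hz0G
      -- some irreducible character does not have z0 in its kernel
      have hex : ∃ χ : Cfsg.IrrCharacter G, (χ : G → ℂ) (z0 : G) ≠ (χ : G → ℂ) 1 := by
        by_contra hall
        push Not at hall
        have h1 := column_orthogonality (G := G) (z0 : G) 1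
        rw [if_neg] at h1
        · simp_rw [hall, irr_one_real] at h1
          have h2 := sum_sq_degrees (G := G)
          have h3 : ∑ χ : Cfsg.IrrCharacter G, (χ : G → ℂ) 1 * (χ : G → ℂ) 1 = (Nat.card G : ℂ) := by
            rw [← h2]
            apply Finset.sum_congr rfl
            intro χ _; ring
          rw [h1] at h3
          have : (Nat.card G : ℂ) ≠ 0 := by exact_mod_cast Nat.card_pos.ne'
          exact this h3.symm
        · intro hconj
          obtain ⟨c, hc⟩ := isConj_iff.mp hconj
          apply hz0ne
          have : (z0 : G) = c⁻¹ * 1 * c := by rw [← hc]; group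
          rw [this]; group
      obtain ⟨χ, hχ⟩ := hex
      obtain ⟨n, ρ, hirr, hρ⟩ := χ.2
      refine ⟨n, ρ, hirr, ?_⟩
      rw [← MonoidHom.ker_eq_bot_iff]
      by_contra hker
      haveI : Group.IsNilpotent G := hG.isNilpotent
      have hmeet := Cfsg.Agent.S0015.normal_inf_center_ne_bot ρ.ker hker
      -- an element of order p in the intersection
      have hpm : IsPGroup p (ρ.ker ⊓ Subgroup.center G : Subgroup G) := hG.to_subgroup _
      haveI : Nontrivial (ρ.ker ⊓ Subgroup.center G : Subgroup G) :=
        (Subgroup.nontrivial_iff_ne_bot _).mpr hmeet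
      obtain ⟨k', hk', hcard'⟩ := hpm.nontrivial_iff_card.mp inferInstance
      have hpd' : p ∣ Nat.card (ρ.ker ⊓ Subgroup.center G : Subgroup G) := by
        rw [hcard']; exact dvd_pow_self p hk'.ne'
      obtain ⟨w, hw⟩ := exists_prime_orderOf_dvd_card'
        (G := (ρ.ker ⊓ Subgroup.center G : Subgroup G)) p hpd'
      have hwG : orderOf (w : G) = p := by rw [Subgroup.orderOf_coe, hw]
      have hwker : (w : G) ∈ ρ.ker := w.2.1
      have hwZ : (w : G) ∈ Subgroup.center G := w.2.2
      have hmem : z0 ∈ Subgroup.zpowers (⟨(w : G), hwZ⟩ : Subgroup.center G) := by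
        apply mem_zpowers_of_orderOf_eq hp.pos
        · rw [Subgroup.orderOf_mk, hwG]
        · rw [← hz0]; exact pow_orderOf_eq_one z0
      obtain ⟨j, hj⟩ := Subgroup.mem_zpowers_iff.mp hmem
      have hz0ker : (z0 : G) ∈ ρ.ker := by
        rw [← hj]
        simp only [Subgroup.coe_zpow]
        exact Subgroup.zpow_mem _ hwker j
      apply hχ
      rw [← hρ]
      have : ρ (z0 : G) = 1 := MonoidHom.mem_ker.mp hz0ker
      simp only [Representation.character]
      rw [this, map_one ρ]

end Cfsg.Agent.S0184
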