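import Cfsg.Statements.S0185
import Mathlib
import Cfsg.Agent.Lib.Helper3.CharDecomp
import Cfsg.Agent.Lib.Helper3.CharIntegral
import Cfsg.Agent.Lib.Helper15.LinearChar
import Cfsg.Agent.S0187

set_option autoImplicit false
open Cfsg

namespace Cfsg.Agent.S0185

open Cfsg.Agent.Helper3

/-- If a finite group has a faithful complex representation of degree less than the smallest prime dividing its order, the group is abelian. -/
theorem result {G : Type*} [Group G] [Finite G] {V : Type*} [AddCommGroup V] [Module ℂ V] [FiniteDimensional ℂ V] (ρ : Representation ℂ G V) (hfaithful : Function.Injective ρ) (hdeg : ∀ p : ℕ, p.Prime → p ∣ Nat.card G → Module.finrank ℂ V < p) (a b : G) : a * b = b * a := by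
  classical
  haveI : Fintype G := Fintype.ofFinite G
  have hχ : Cfsg.IsCharacter G ρ.character := isCharacter_of_rep ρ
  have hdec := isCharacter_eq_sum_irrMult hχ
  choose d hd1 hd using (Cfsg.Agent.S0187.irr_degree (G := G))
  -- degree count
  have hdegsum : Module.finrank ℂ V = ∑ ψ : Cfsg.IrrCharacter G, irrMult ρ.character ψ * d ψ := by
    have h1 := congrFun hdec 1
    rw [Representation.char_one, Finset.sum_apply] at h1
    simp only [Pi.smul_apply, smul_eq_mul, hd] at h1
    exact_mod_cast h1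
  -- each constituent is linear
  have hlin : ∀ ψ : Cfsg.IrrCharacter G, irrMult ρ.character ψ ≠ 0 → (ψ : G → ℂ) 1 = 1 := by
    intro ψ hm
    have hle : d ψ ≤ Module.finrank ℂ V := by
      rw [hdegsum]
      calc d ψ ≤ irrMult ρ.character ψ * d ψ := Nat.le_mul_of_pos_left _ (Nat.pos_of_ne_zero hm)
        _ ≤ ∑ φ : Cfsg.IrrCharacter G, irrMult ρ.character φ * d φ :=
          Finset.single_le_sum (f := fun φ => irrMult ρ.character φ * d φ)
            (fun _ _ => Nat.zero_le _) (Finset.mem_univ ψ)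
    have hdvd : d ψ ∣ Nat.card G := by
      obtain ⟨n, σ, hσ, hψ⟩ := ψ.2
      haveI := hσ
      have h1 : Module.finrank ℂ (Fin n → ℂ) ∣ Nat.card G := finrank_dvd_card σ
      have h2 : (ψ : G → ℂ) 1 = (n : ℂ) := by rw [← hψ, Representation.char_one]; simp
      rw [hd ψ] at h2
      have h3 : d ψ = n := by exact_mod_cast h2
      rw [h3]
      simpa using h1
    have hd1' : d ψ = 1 := by
      by_contra hne
      obtain ⟨p, hp, hpd⟩ := Nat.exists_prime_and_dvd hne
      have h1 := hdeg p hp (hpd.trans hdvd)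
      have h2 : p ≤ d ψ := Nat.le_of_dvd (hd1 ψ) hpd
      omega
    rw [hd ψ, hd1']; simp
  -- commutator
  have hψc : ∀ ψ : Cfsg.IrrCharacter G, irrMult ρ.character ψ ≠ 0 →
      (ψ : G → ℂ) (a * b * a⁻¹ * b⁻¹) = (ψ : G → ℂ) 1 := by
    intro ψ hm
    have hl : Cfsg.IsCharacter G (ψ : G → ℂ) ∧ (ψ : G → ℂ) 1 = 1 :=
      ⟨isCharacter_of_isIrrCharacter ψ.2, hlin ψ hm⟩
    rw [Cfsg.Agent.Helper15.linear_char_mul _ hl, Cfsg.Agent.Helper15.linear_char_mul _ hl,
      Cfsg.Agent.Helper15.linear_char_mul _ hl, Cfsg.Agent.Helper15.linear_char_inv _ hl,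
      Cfsg.Agent.Helper15.linear_char_inv _ hl, hl.2]
    have ha := Cfsg.Agent.Helper15.linear_char_ne_zero _ hl a
    have hb := Cfsg.Agent.Helper15.linear_char_ne_zero _ hl b
    field_simp
  have hχc : ρ.character (a * b * a⁻¹ * b⁻¹) = ρ.character 1 := by
    have h1 := congrFun hdec (a * b * a⁻¹ * b⁻¹)
    have h2 := congrFun hdec 1
    rw [h1, h2, Finset.sum_apply, Finset.sum_apply]
    apply Finset.sum_congr rfl
    intro ψ _
    simp only [Pi.smul_apply, smul_eq_mul]
    by_cases hm : irrMult ρ.character ψ = 0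
    · simp [hm]
    · rw [hψc ψ hm]
  have hid : ρ (a * b * a⁻¹ * b⁻¹) = LinearMap.id :=
    (char_eq_finrank_iff ρ _).mp (by rw [hχc, Representation.char_one])
  have hc1 : a * b * a⁻¹ * b⁻¹ = 1 := by
    apply hfaithful
    rw [hid, map_one]
    rfl
  calc a * b = a * b * a⁻¹ * b⁻¹ * b * a := by group
    _ = b * a := by rw [hc1, one_mul]

end Cfsg.Agent.S0185
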