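import Cfsg.Statements.S0190
import Mathlib
import Cfsg.Agent.Lib.Helper81.CharInd

set_option autoImplicit false
open Cfsg

namespace Cfsg.Agent.S0190

open Cfsg.Agent.Helper81

theorem fiber_card {G : Type*} [Group G] [Fintype G] (X : Type*) [MulAction G X]
    [MulAction.IsPretransitive G X] [DecidableEq X] (x z : X) :
    (Finset.univ.filter (fun y : G => y • x = z)).card = Nat.card (MulAction.stabilizer G x) := by
  classical
  obtain ⟨y0, hy0⟩ := MulAction.exists_smul_eq G x z
  rw [← Fintype.card_subtype, ← Nat.card_eq_fintype_card]
  apply Nat.card_congr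
  refine ⟨fun y => ⟨y0⁻¹ * y.1, ?_⟩, fun h => ⟨y0 * h.1, ?_⟩, ?_, ?_⟩
  · rw [MulAction.mem_stabilizer_iff, mul_smul, y.2, ← hy0, inv_smul_smul]
  · rw [mul_smul, MulAction.mem_stabilizer_iff.mp h.2, hy0]
  · intro y; apply Subtype.ext; simp
  · intro h; apply Subtype.ext; simp

/-- For a transitive action of a finite group on X, the permutation character g ↦ (number of fixed points of g) is the function induced from the principal character of the stabilizer of any point. -/
theorem result {G : Type*} [Group G] [Fintype G] (X : Type*) [MulAction G X] [Finite X] [MulAction.IsPretransitive G X] (x : X) : (fun g : G => (Nat.card (MulAction.fixedBy X g) : ℂ)) = Cfsg.indFun (MulAction.stabilizer G x) (fun _ => 1) := by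
  classical
  haveI : Fintype X := Fintype.ofFinite X
  funext g
  rw [indFun_apply]
  have hext : ∀ y : G, Cfsg.extendByZero (MulAction.stabilizer G x) (fun _ => (1 : ℂ)) (y⁻¹ * g * y) =
      if g • (y • x) = y • x then 1 else 0 := by
    intro y
    have hiff : y⁻¹ * g * y ∈ MulAction.stabilizer G x ↔ g • (y • x) = y • x := by
      rw [MulAction.mem_stabilizer_iff, mul_smul, mul_smul, inv_smul_eq_iff]
    by_cases h : g • (y • x) = y • x
    · rw [if_pos h, extendByZero_apply_mem _ _ (hiff.mpr h)]
    · rw [if_neg h, extendByZero_apply_not_mem _ _ (fun h' => h (hiff.mp h'))]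
  simp_rw [hext]
  rw [Finset.sum_boole]
  have hcount : (Finset.univ.filter (fun y : G => g • (y • x) = y • x)).card =
      (Finset.univ.filter (fun z : X => g • z = z)).card * Nat.card (MulAction.stabilizer G x) := by
    rw [Finset.card_eq_sum_card_fiberwise (f := fun y : G => y • x)
      (t := Finset.univ.filter (fun z : X => g • z = z))]
    · rw [Finset.sum_const_nat]
      intro z hz
      rw [Finset.mem_filter] at hz
      rw [← fiber_card X x z]
      congr 1
      ext y
      simp only [Finset.mem_filter, Finset.mem_univ, true_and]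
      constructor
      · intro h; exact h.2
      · intro h; exact ⟨by rw [h]; exact hz.2, h⟩
    · intro y hy
      simp only [Finset.coe_filter, Finset.mem_univ, true_and, Set.mem_setOf_eq] at hy ⊢
      exact hy
  have hfix : Nat.card (MulAction.fixedBy X g) = (Finset.univ.filter (fun z : X => g • z = z)).card := by
    rw [← Fintype.card_subtype, ← Nat.card_eq_fintype_card]
    rfl
  rw [hcount, hfix]
  have hne : (Nat.card (MulAction.stabilizer G x) : ℂ) ≠ 0 := by
    exact_mod_cast Nat.card_pos.ne'
  push_cast
  field_simp

end Cfsg.Agent.S0190
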