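import Cfsg.Statements.S0191
import Cfsg.Agent.Lib.Helper75.CharGalois

set_option autoImplicit false
open Cfsg

namespace Cfsg.Agent.S0191

open Cfsg.Agent.Helper75 Module

/-- An irreducible complex representation of a finite group of degree greater than 1 has a character that vanishes somewhere. -/
theorem result {G : Type*} [Group G] [Finite G] {V : Type*} [AddCommGroup V] [Module ℂ V] [FiniteDimensional ℂ V] (ρ : Representation ℂ G V) [ρ.IsIrreducible] (hdeg : 1 < Module.finrank ℂ V) : ∃ g : G, ρ.character g = 0 := by
  classical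
  by_contra hcon
  push Not at hcon
  have := Fintype.ofFinite G
  set T : Finset G := Finset.univ.erase 1 with hT
  have hTclosed : ∀ g ∈ T, ∀ k : ℕ, k.Coprime (Nat.card G) → g ^ k ∈ T := by
    intro g hg k hk
    simp only [hT, Finset.mem_erase, Finset.mem_univ, and_true] at hg ⊢
    intro h1
    apply hg
    have : (powCoprime hk.symm) g = (powCoprime hk.symm) 1 := by
      simp [h1]
    exact (powCoprime hk.symm).injective this
  have hburn := card_le_sum_normSq ρ T hTclosed (fun g _ => hcon g)
  have hsum := sum_normSq_irr ρ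
  rw [← Finset.add_sum_erase Finset.univ _ (Finset.mem_univ (1 : G))] at hsum
  have hcard : (T.card : ℝ) = (Nat.card G : ℝ) - 1 := by
    rw [hT, Finset.card_erase_of_mem (Finset.mem_univ _), Finset.card_univ,
      Nat.card_eq_fintype_card, Nat.cast_sub Fintype.card_pos]
    simp
  have h1 : ‖ρ.character 1‖ ^ 2 ≤ 1 := by linarith
  rw [Representation.char_one] at h1
  have h2 : (1 : ℝ) < (finrank ℂ V : ℝ) := by exact_mod_cast hdeg
  have h3 : ‖((finrank ℂ V : ℕ) : ℂ)‖ = (finrank ℂ V : ℝ) := by simp
  rw [h3] at h1
  nlinarith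

end Cfsg.Agent.S0191
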