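import Cfsg.Statements.S0192
import Mathlib
import Cfsg.Agent.Lib.Helper3.CharDecomp

set_option autoImplicit false
open Cfsg

namespace Cfsg.Agent.S0192

open Cfsg.Agent.Helper3 Module

theorem classInner_restrict_one {G : Type*} [Group G] {V : Type*} [AddCommGroup V] [Module ℂ V]
    [FiniteDimensional ℂ V] (ρ : Representation ℂ G V) (K : Subgroup G) [Fintype K] :
    Cfsg.classInner (fun x : K => ρ.character x) (fun _ => 1) =
      (finrank ℂ (Representation.invariants (ρ.comp K.subtype)) : ℂ) := by
  unfold Cfsg.classInner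
  simp only [map_one, mul_one]
  haveI : Invertible (Nat.card K : ℂ) :=
    invertibleOfNonzero (by exact_mod_cast (Nat.card_pos (α := K)).ne')
  exact Representation.card_inv_mul_sum_char_eq_finrank (ρ.comp K.subtype)

theorem classInner_one {G : Type*} [Group G] [Fintype G] {V : Type*} [AddCommGroup V] [Module ℂ V]
    [FiniteDimensional ℂ V] (ρ : Representation ℂ G V) :
    Cfsg.classInner ρ.character (fun _ => 1) =
      (finrank ℂ (Representation.invariants ρ) : ℂ) := by
  unfold Cfsg.classInner
  simp only [map_one, mul_one]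
  haveI : Invertible (Nat.card G : ℂ) :=
    invertibleOfNonzero (by exact_mod_cast (Nat.card_pos (α := G)).ne')
  exact Representation.card_inv_mul_sum_char_eq_finrank ρ

/-- Brauer's generation criterion. Let G be a finite simple group, H₁ and H₂ subgroups, and χ a non-principal irreducible character. If the multiplicity of the principal character in χ restricted to H₁ ⊓ H₂ is less than the sum of the corresponding multiplicities for H₁ and H₂, then H₁ and H₂ do not generate G. -/
theorem result {G : Type*} [Group G] [Fintype G] [IsSimpleGroup G] (H₁ H₂ : Subgroup G) [Fintype H₁] [Fintype H₂] [Fintype ↥(H₁ ⊓ H₂)] (χ : G → ℂ) (hχ : Cfsg.IsIrrCharacter G χ) (hχ1 : χ ≠ fun _ => 1) (hlt : (Cfsg.classInner (fun x : ↥(H₁ ⊓ H₂) => χ x) (fun _ => 1)).re < (Cfsg.classInner (fun x : H₁ => χ x) (fun _ => 1)).re + (Cfsg.classInner (fun x : H₂ => χ x) (fun _ => 1)).re) : H₁ ⊔ H₂ ≠ ⊤ := by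
  classical
  intro htop
  have h0 : Cfsg.classInner χ (fun _ => (1 : ℂ)) = 0 :=
    classInner_irr_ne hχ isIrrCharacter_one hχ1
  obtain ⟨n, ρ, hirr, rfl⟩ := hχ
  rw [classInner_one ρ] at h0
  have hG0 : finrank ℂ (Representation.invariants ρ) = 0 := by exact_mod_cast h0
  rw [classInner_restrict_one ρ (H₁ ⊓ H₂), classInner_restrict_one ρ H₁,
    classInner_restrict_one ρ H₂] at hlt
  simp only [Complex.natCast_re] at hlt
  have hsup : Representation.invariants (ρ.comp H₁.subtype) ⊔
      Representation.invariants (ρ.comp H₂.subtype) ≤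
      Representation.invariants (ρ.comp (H₁ ⊓ H₂).subtype) := by
    apply sup_le
    · intro v hv g
      exact hv ⟨g.1, g.2.1⟩
    · intro v hv g
      exact hv ⟨g.1, g.2.2⟩
  have hinf : Representation.invariants (ρ.comp H₁.subtype) ⊓
      Representation.invariants (ρ.comp H₂.subtype) ≤ Representation.invariants ρ := by
    intro v hv g
    let S : Subgroup G :=
      { carrier := {g | ρ g v = v}
        mul_mem' := by
          intro a b ha hb
          simp only [Set.mem_setOf_eq] at ha hb ⊢
          rw [map_mul, Module.End.mul_apply, hb, ha]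
        one_mem' := by simp
        inv_mem' := by
          intro a ha
          simp only [Set.mem_setOf_eq] at ha ⊢
          calc ρ a⁻¹ v = ρ a⁻¹ (ρ a v) := by rw [ha]
            _ = (ρ a⁻¹ * ρ a) v := rfl
            _ = v := by rw [← map_mul, inv_mul_cancel, map_one]; rfl }
    have h1 : H₁ ≤ S := fun a ha => hv.1 ⟨a, ha⟩
    have h2 : H₂ ≤ S := fun a ha => hv.2 ⟨a, ha⟩
    have : g ∈ S := by
      have hle : H₁ ⊔ H₂ ≤ S := sup_le h1 h2
      rw [htop] at hle
      exact hle (Subgroup.mem_top g)
    exact this
  have hdim := Submodule.finrank_sup_add_finrank_inf_eq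
    (Representation.invariants (ρ.comp H₁.subtype)) (Representation.invariants (ρ.comp H₂.subtype))
  have hle1 := Submodule.finrank_mono hsup
  have hle2 := Submodule.finrank_mono hinf
  rw [hG0] at hle2
  have : (finrank ℂ (Representation.invariants (ρ.comp H₁.subtype)) : ℝ) +
      finrank ℂ (Representation.invariants (ρ.comp H₂.subtype)) ≤
      finrank ℂ (Representation.invariants (ρ.comp (H₁ ⊓ H₂).subtype)) := by
    have : finrank ℂ (Representation.invariants (ρ.comp H₁.subtype)) +
      finrank ℂ (Representation.invariants (ρ.comp H₂.subtype)) ≤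
      finrank ℂ (Representation.invariants (ρ.comp (H₁ ⊓ H₂).subtype)) := by omega
    exact_mod_cast this
  linarith

end Cfsg.Agent.S0192
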