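import Cfsg.Statements.S0193
import Mathlib
import Cfsg.Agent.Lib.Helper81.CharClifford

set_option autoImplicit false
open Cfsg

namespace Cfsg.Agent.S0193

open Cfsg.Agent.Helper81

/-- Let H be a normal subgroup of a finite group G and θ an irreducible character of H. Then |H| times the inner product of the induced function of θ with itself equals the number of g in G with θ(g h g⁻¹) = θ(h) for all h in H; in particular the induced character is irreducible when only elements of H stabilise θ. -/
theorem result {G : Type*} [Group G] [Fintype G] (H : Subgroup G) [hN : H.Normal] (θ : H → ℂ) (hθ : Cfsg.IsIrrCharacter H θ) : (Nat.card H : ℂ) * Cfsg.classInner (Cfsg.indFun H θ) (Cfsg.indFun H θ) = (Nat.card {g : G // ∀ h : H, θ ⟨g * h * g⁻¹, hN.conj_mem h h.2 g⟩ = θ h} : ℂ) := by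
  classical
  haveI : Fintype H := Fintype.ofFinite _
  have hne : (Nat.card H : ℂ) ≠ 0 := by exact_mod_cast Nat.card_pos.ne'
  rw [frobenius_reciprocity H θ (indFun_isClassFunction H θ), indFun_restrict_normal H hN θ,
    classInner_smul_right, classInner_sum_right]
  have h1 : ∀ x : G, Cfsg.classInner θ (conjFun H hN θ x) =
      if conjFun H hN θ x = θ then 1 else 0 := by
    intro x
    rw [irr_orthonormal hθ (conjFun_isIrrCharacter H hN hθ x)]
    by_cases h : conjFun H hN θ x = θ
    · rw [if_pos h, if_pos h.symm]
    · rw [if_neg h, if_neg (fun h' => h h'.symm)]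
  simp_rw [h1]
  rw [Finset.sum_ite, Finset.sum_const_zero, add_zero, Finset.sum_const, nsmul_eq_mul, mul_one]
  have h2 : Nat.card {g : G // ∀ h : H, θ ⟨g * h * g⁻¹, hN.conj_mem h h.2 g⟩ = θ h} =
      (Finset.univ.filter (fun x : G => conjFun H hN θ x = θ)).card := by
    rw [Nat.card_eq_fintype_card, Fintype.card_subtype]
    congr 1
    ext g
    simp only [Finset.mem_filter, Finset.mem_univ, true_and]
    constructor
    · intro h; funext n; exact h n
    · intro h n; exact congrFun h n
  rw [h2]
  simp only [map_inv₀, Complex.conj_natCast]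
  field_simp

end Cfsg.Agent.S0193
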