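import Cfsg.Statements.S0194
import Mathlib
import Cfsg.Agent.Lib.Helper4.RealOdd
import Cfsg.Agent.Lib.Helper81.CharClifford

set_option autoImplicit false
open Cfsg
open scoped ComplexConjugate

namespace Cfsg.Agent.S0194

open Cfsg.Agent.Helper81 Cfsg.Agent.Helper4

/-- Let G have odd order, H be a normal subgroup and θ a non-principal irreducible character of H. Then the function induced from θ is orthogonal to its complex conjugate. -/
theorem result {G : Type*} [Group G] [Fintype G] (hodd : Odd (Nat.card G)) (H : Subgroup G) [H.Normal] (θ : H → ℂ) (hθ : Cfsg.IsIrrCharacter H θ) (hθ1 : θ ≠ fun _ => 1) : Cfsg.classInner (fun g => conj (Cfsg.indFun H θ g)) (Cfsg.indFun H θ) = 0 := by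
  classical
  haveI : Fintype H := Fintype.ofFinite _
  have hN : H.Normal := inferInstance
  have hconj : (fun g => conj (Cfsg.indFun H θ g)) = Cfsg.indFun H (fun h => conj (θ h)) := by
    funext g
    rw [indFun_apply, indFun_apply, map_mul, map_inv₀, Complex.conj_natCast, map_sum]
    congr 1
    apply Finset.sum_congr rfl
    intro x _
    by_cases hy : x⁻¹ * g * x ∈ H
    · rw [extendByZero_apply_mem H θ hy, extendByZero_apply_mem H (fun h => conj (θ h)) hy]
    · rw [extendByZero_apply_not_mem H θ hy,
        extendByZero_apply_not_mem H (fun h => conj (θ h)) hy, map_zero]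
  have hnorm : Cfsg.classInner θ θ = 1 := by
    rw [irr_orthonormal hθ hθ, if_pos rfl]
  have hirrb : Cfsg.IsIrrCharacter H (fun h => conj (θ h)) := by
    apply Cfsg.Agent.Helper3.isIrrCharacter_of_classInner_self_eq_one
      (Cfsg.Agent.Helper3.isCharacter_conj (IsIrrCharacter.isCharacter hθ))
    rw [← hnorm]
    unfold Cfsg.classInner
    congr 1
    apply Finset.sum_congr rfl
    intro h _
    rw [Complex.conj_conj, mul_comm]
  have hoddH : Odd (Nat.card H) := hodd.of_dvd_nat (Subgroup.card_subgroup_dvd_card H)
  have hzero : ∀ x : G, Cfsg.classInner (fun h => conj (θ h)) (conjFun H hN θ x) = 0 := by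
    intro x
    rw [irr_orthonormal hirrb (conjFun_isIrrCharacter H hN hθ x), if_neg]
    intro heq
    -- θ^(x*x) = θ
    have hxx : conjFun H hN θ (x * x) = θ := by
      rw [← conjFun_mul, ← heq]
      funext n
      have := congrFun heq n
      simp only [conjFun_apply] at this ⊢
      rw [← this, Complex.conj_conj]
    have hpow : ∀ k : ℕ, conjFun H hN θ ((x * x) ^ k) = θ := by
      intro k
      induction k with
      | zero => rw [pow_zero, conjFun_one]
      | succ k ih => rw [pow_succ, ← conjFun_mul, ih, hxx]
    obtain ⟨j, hj⟩ := hodd.of_dvd_nat (orderOf_dvd_natCard x)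
    have hx : (x * x) ^ (j + 1) = x := by
      rw [← pow_two, ← pow_mul]
      have : 2 * (j + 1) = orderOf x + 1 := by omega
      rw [this, pow_succ, pow_orderOf_eq_one, one_mul]
    have hfix : conjFun H hN θ x = θ := by
      have := hpow (j + 1)
      rwa [hx] at this
    rw [hfix] at heq
    apply hθ1
    exact real_irr_eq_one_of_odd hoddH θ hθ (fun h => congrFun heq h)
  rw [hconj, frobenius_reciprocity H _ (indFun_isClassFunction H θ), indFun_restrict_normal H hN θ,
    classInner_smul_right, classInner_sum_right]
  simp [hzero]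

end Cfsg.Agent.S0194
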