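import Cfsg.Statements.S0195
import Mathlib

set_option autoImplicit false
open Cfsg

namespace Cfsg.Agent.S0195

/-- Let A be a subgroup of G that equals the centralizer of each of its non-identity elements. If g lies outside the normalizer of A, then the only element of A conjugated by g into A is the identity (A is a trivial-intersection set). -/
theorem result {G : Type*} [Group G] [Finite G] (A : Subgroup G) (hA : ∀ x ∈ A, x ≠ 1 → Subgroup.centralizer ({x} : Set G) = A) (g : G) (hg : g ∉ Subgroup.normalizer (A : Set G)) (x : G) (hx : x ∈ A) (hgx : g * x * g⁻¹ ∈ A) : x = 1 := by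
  by_contra hx1
  apply hg
  have h1 : g * x * g⁻¹ ≠ 1 := by
    intro h
    apply hx1
    have : g * x * g⁻¹ = g * 1 * g⁻¹ := by simp [h]
    simpa using this
  have hCx := hA x hx hx1
  have hCgx := hA _ hgx h1
  -- membership in centralizer of a singleton
  have key : ∀ a : G, a ∈ A ↔ g * a * g⁻¹ ∈ A := by
    intro a
    constructor
    · intro ha
      rw [← hCx] at ha
      rw [← hCgx]
      rw [Subgroup.mem_centralizer_singleton_iff] at ha ⊢
      calc g * a * g⁻¹ * (g * x * g⁻¹) = g * (a * x) * g⁻¹ := by group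
        _ = g * (x * a) * g⁻¹ := by rw [ha]
        _ = g * x * g⁻¹ * (g * a * g⁻¹) := by group
    · intro ha
      rw [← hCgx] at ha
      rw [← hCx]
      rw [Subgroup.mem_centralizer_singleton_iff] at ha ⊢
      have : g⁻¹ * (g * a * g⁻¹ * (g * x * g⁻¹)) * g = g⁻¹ * (g * x * g⁻¹ * (g * a * g⁻¹)) * g := by rw [ha]
      calc a * x = g⁻¹ * (g * a * g⁻¹ * (g * x * g⁻¹)) * g := by group
        _ = g⁻¹ * (g * x * g⁻¹ * (g * a * g⁻¹)) * g := this
        _ = x * a := by group
  rw [Subgroup.mem_normalizer_iff]
  intro a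
  exact key a

end Cfsg.Agent.S0195
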