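import Cfsg.Statements.S0196
import Mathlib

set_option autoImplicit false
open Cfsg

namespace Cfsg.Agent.S0196

theorem index_dvd_card_of_stabilizer_eq {N X : Type*} [Group N] [Finite N] [MulAction N X] [Finite X]
    (K : Subgroup N) (h : ∀ x : X, MulAction.stabilizer N x = K) : K.index ∣ Nat.card X := by
  classical
  have e := MulAction.selfEquivSigmaOrbitsQuotientStabilizer N X
  rw [Nat.card_congr e]
  haveI : Finite (MulAction.orbitRel.Quotient N X) := Quotient.finite _
  haveI := Fintype.ofFinite (MulAction.orbitRel.Quotient N X)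
  rw [Nat.card_sigma]
  apply Finset.dvd_sum
  intro ω _
  rw [h]
  exact dvd_of_eq (Subgroup.index_eq_card K)

section
variable {G : Type*} [Group G] (A : Subgroup G)

/-- conjugation action of the normalizer on the non-identity elements -/
def conjSMul (g : Subgroup.normalizer (A : Set G)) (x : {a : G // a ∈ A ∧ a ≠ 1}) :
    {a : G // a ∈ A ∧ a ≠ 1} :=
  ⟨(g : G) * x.1 * (g : G)⁻¹, (Subgroup.mem_normalizer_iff.mp g.2 x.1).mp x.2.1, by
    intro h
    apply x.2.2
    have : x.1 = (g : G)⁻¹ * ((g : G) * x.1 * (g : G)⁻¹) * (g : G) := by group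
    rw [this, h]; group⟩

instance conjAction : MulAction (Subgroup.normalizer (A : Set G)) {a : G // a ∈ A ∧ a ≠ 1} where
  smul := conjSMul A
  one_smul := by
    intro x
    apply Subtype.ext
    show ((1 : Subgroup.normalizer (A : Set G)) : G) * x.1 * ((1 : Subgroup.normalizer (A : Set G)) : G)⁻¹ = x.1
    simp
  mul_smul := by
    intro g h x
    apply Subtype.ext
    show ((g * h : Subgroup.normalizer (A : Set G)) : G) * x.1 * ((g * h : Subgroup.normalizer (A : Set G)) : G)⁻¹
      = (g : G) * ((h : G) * x.1 * (h : G)⁻¹) * (g : G)⁻¹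
    simp only [Subgroup.coe_mul]
    group

theorem smul_val (g : Subgroup.normalizer (A : Set G)) (x : {a : G // a ∈ A ∧ a ≠ 1}) :
    (g • x).1 = (g : G) * x.1 * (g : G)⁻¹ := rfl

end

/-- Let A be a subgroup of a finite group G that equals the centralizer of each of its non-identity elements, and let N be its normalizer. Then the index of A in N divides |A| − 1 (N/A permutes the non-identity elements of A in orbits of full length). -/
theorem result {G : Type*} [Group G] [Finite G] (A : Subgroup G) (hA : ∀ x ∈ A, x ≠ 1 → Subgroup.centralizer ({x} : Set G) = A) : (A.subgroupOf (Subgroup.normalizer (A : Set G))).index ∣ Nat.card A - 1 := by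
  classical
  have hstab : ∀ x : {a : G // a ∈ A ∧ a ≠ 1},
      MulAction.stabilizer (Subgroup.normalizer (A : Set G)) x =
        A.subgroupOf (Subgroup.normalizer (A : Set G)) := by
    intro x
    ext g
    rw [MulAction.mem_stabilizer_iff, Subgroup.mem_subgroupOf]
    have hcen : (g : G) ∈ A ↔ (g : G) * x.1 = x.1 * (g : G) := by
      rw [← Subgroup.mem_centralizer_singleton_iff, hA x.1 x.2.1 x.2.2]
    rw [hcen]
    constructor
    · intro h
      have h1 : (g : G) * x.1 * (g : G)⁻¹ = x.1 := by rw [← smul_val, h]
      calc (g : G) * x.1 = (g : G) * x.1 * (g : G)⁻¹ * (g : G) := by group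
        _ = x.1 * (g : G) := by rw [h1]
    · intro h
      apply Subtype.ext
      rw [smul_val, h]
      group
  have hdvd := index_dvd_card_of_stabilizer_eq _ hstab
  have hcard : Nat.card {a : G // a ∈ A ∧ a ≠ 1} = Nat.card A - 1 := by
    have e : {a : G // a ∈ A ∧ a ≠ 1} ≃ {a : A // a ≠ 1} :=
      { toFun := fun x => ⟨⟨x.1, x.2.1⟩, fun h => x.2.2 (congrArg Subtype.val h)⟩
        invFun := fun y => ⟨y.1.1, y.1.2, fun h => y.2 (Subtype.ext h)⟩
        left_inv := fun x => rfl
        right_inv := fun y => rfl }
    rw [Nat.card_congr e]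
    haveI : Fintype A := Fintype.ofFinite _
    rw [Nat.card_eq_fintype_card, Nat.card_eq_fintype_card, Fintype.card_subtype_compl,
      Fintype.card_subtype_eq]
  rw [← hcard]
  exact hdvd

end Cfsg.Agent.S0196
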