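import Cfsg.Statements.S0200
import Mathlib
import Cfsg.Agent.Lib.Helper4.Isolated
import Cfsg.Agent.S0199

set_option autoImplicit false
open Cfsg

namespace Cfsg.Agent.S0200

open Cfsg.Agent.Helper4

/-- An involution lying in no normal 2-subgroup of a finite group inverts a nontrivial element of odd order (a consequence of the Baer–Suzuki Theorem). -/
theorem result {G : Type*} [Group G] [Finite G] (t : G) (ht : orderOf t = 2) (hO : ∀ N : Subgroup G, N.Normal → IsPGroup 2 N → t ∉ N) : ∃ h : G, h ≠ 1 ∧ Odd (orderOf h) ∧ t * h * t⁻¹ = h⁻¹ := by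
  by_contra hno
  push_neg at hno
  have hX : IsPGroup 2 (Subgroup.zpowers t) := by
    apply IsPGroup.of_card (n := 1)
    rw [Nat.card_zpowers, ht, pow_one]
  have key : ∀ g : G, IsPGroup 2 ↥(Subgroup.zpowers t ⊔ (Subgroup.zpowers t).map (MulAut.conj g).toMonoidHom) := by
    intro g
    have hv : orderOf (g * t * g⁻¹) = 2 := by rw [orderOf_conj_eq, ht]
    have e : Subgroup.zpowers t ⊔ (Subgroup.zpowers t).map (MulAut.conj g).toMonoidHom =
        Subgroup.closure ({t, g * t * g⁻¹} : Set G) := by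
      rw [MonoidHom.map_zpowers, Subgroup.zpowers_eq_closure, Subgroup.zpowers_eq_closure,
        ← Subgroup.closure_union]
      rfl
    rw [e]
    have hpos : 0 < orderOf (t * (g * t * g⁻¹)) := orderOf_pos _
    obtain ⟨a, m, hm, hn⟩ := Nat.exists_eq_two_pow_mul_odd hpos.ne'
    apply dih_isPGroup ht hv a
    by_contra h1
    have hodd : Odd (orderOf ((t * (g * t * g⁻¹)) ^ (2 ^ a))) := by
      apply hm.of_dvd_nat
      apply orderOf_dvd_of_pow_eq_one
      rw [← pow_mul, ← hn, pow_orderOf_eq_one]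
    apply hno _ h1 hodd
    rw [← conj_pow, dih_conj ht hv, inv_pow]
  obtain ⟨N, hN, hNp, hle⟩ := Cfsg.Agent.S0199.result (Subgroup.zpowers t) hX key
  exact hO N hN hNp (hle (Subgroup.mem_zpowers t))

end Cfsg.Agent.S0200
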