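import Cfsg.Statements.S0202
import Mathlib
import Cfsg.Agent.Lib.Helper4.KleinSylow

set_option autoImplicit false
open Cfsg

namespace Cfsg.Agent.S0202

open Cfsg.Agent.Helper4

/-- the set of classes of involutions -/
def invClasses (G : Type*) [Group G] : Set (ConjClasses G) :=
  {C | ∃ t : G, orderOf t = 2 ∧ ConjClasses.mk t = C}

theorem card_eq_ncard (G : Type*) [Group G] :
    Nat.card {C : ConjClasses G // ∃ t : G, orderOf t = 2 ∧ ConjClasses.mk t = C} =
      (invClasses G).ncard :=
  Nat.card_coe_set_eq (invClasses G)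

/-- the involution classes are those of the three involutions of `P` -/
theorem invClasses_eq {G : Type*} [Group G] [Finite G] (P : Sylow 2 G) (a b : G)
    (ha : a ∈ P) (hb : b ∈ P) (hab : a * b ∈ P)
    (hao : orderOf a = 2) (hbo : orderOf b = 2) (habo : orderOf (a * b) = 2)
    (hall : ∀ x ∈ P, x = 1 ∨ x = a ∨ x = b ∨ x = a * b) :
    invClasses G = {ConjClasses.mk a, ConjClasses.mk b, ConjClasses.mk (a * b)} := by
  ext C
  simp only [invClasses, Set.mem_setOf_eq, Set.mem_insert_iff, Set.mem_singleton_iff]
  constructor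
  · rintro ⟨t, ht, rfl⟩
    obtain ⟨g, hg⟩ := invol_conj_mem_sylow P t ht
    have hc : ConjClasses.mk t = ConjClasses.mk (g * t * g⁻¹) :=
      ConjClasses.mk_eq_mk_iff_isConj.mpr (isConj_iff.mpr ⟨g, rfl⟩)
    have hne : g * t * g⁻¹ ≠ 1 := by
      intro h
      have : orderOf (g * t * g⁻¹) = 2 := by rw [orderOf_conj_eq, ht]
      rw [h, orderOf_one] at this
      omega
    rcases hall _ hg with h | h | h | h
    · exact absurd h hne
    · left; rw [hc, h]
    · right; left; rw [hc, h]
    · right; right; rw [hc, h]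
  · rintro (h | h | h)
    · exact ⟨a, hao, h.symm⟩
    · exact ⟨b, hbo, h.symm⟩
    · exact ⟨a * b, habo, h.symm⟩

/-- If two of the three involutions are conjugate then all are. -/
theorem all_conj {G : Type*} [Group G] [Finite G] (P : Sylow 2 G) (a b : G)
    (ha : a ∈ P) (hb : b ∈ P)
    (hao : orderOf a = 2) (hbo : orderOf b = 2) (habo : orderOf (a * b) = 2)
    (hne : a ≠ b)
    (hall : ∀ x ∈ P, x = 1 ∨ x = a ∨ x = b ∨ x = a * b)
    (hcomm : ∀ x ∈ P, ∀ y ∈ P, x * y = y * x)
    (h : IsConj a b ∨ IsConj a (a * b) ∨ IsConj b (a * b)) :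
    IsConj a b ∧ IsConj a (a * b) := by
  have ha2 : a * a = 1 := by rw [← pow_two]; exact sq_eq_one_of_orderOf_eq_two hao
  have hb2 : b * b = 1 := by rw [← pow_two]; exact sq_eq_one_of_orderOf_eq_two hbo
  have habP : a * b ∈ P := Subgroup.mul_mem _ ha hb
  have hcab : a * b = b * a := hcomm a ha b hb
  rcases h with h | h | h
  · exact ⟨h, klein_fusion P hcomm a b ha hb hao hbo hne hall h⟩
  · -- pair (a, a*b): third is b
    have hne' : a ≠ a * b := by
      intro e
      have : a * 1 = a * b := by rw [mul_one]; exact e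
      have hb1 : b = 1 := (mul_left_cancel this).symm
      rw [hb1, orderOf_one] at hbo
      omega
    have e3 : a * (a * b) = b := by rw [← mul_assoc, ha2, one_mul]
    have hall' : ∀ x ∈ P, x = 1 ∨ x = a ∨ x = a * b ∨ x = a * (a * b) := by
      intro x hx
      rw [e3]
      rcases hall x hx with h1 | h1 | h1 | h1
      · left; exact h1
      · right; left; exact h1
      · right; right; right; exact h1
      · right; right; left; exact h1
    have := klein_fusion P hcomm a (a * b) ha habP hao habo hne' hall' h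
    rw [e3] at this
    exact ⟨this, h⟩
  · -- pair (b, a*b): third is a
    have hne' : b ≠ a * b := by
      intro e
      have : 1 * b = a * b := by rw [one_mul]; exact e
      have ha1 : a = 1 := (mul_right_cancel this).symm
      rw [ha1, orderOf_one] at hao
      omega
    have e3 : b * (a * b) = a := by rw [hcab, ← mul_assoc, hb2, one_mul]
    have hall' : ∀ x ∈ P, x = 1 ∨ x = b ∨ x = a * b ∨ x = b * (a * b) := by
      intro x hx
      rw [e3]
      rcases hall x hx with h1 | h1 | h1 | h1
      · left; exact h1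
      · right; right; right; exact h1
      · right; left; exact h1
      · right; right; left; exact h1
    have := klein_fusion P hcomm b (a * b) hb habP hbo habo hne' hall' h
    rw [e3] at this
    exact ⟨this.symm, this.symm.trans h⟩

/-- If a Sylow 2-subgroup of a finite group is a Klein four-group, the group has one or three conjugacy classes of involutions. -/
theorem result {G : Type*} [Group G] [Finite G] (P : Sylow 2 G) (hP : IsKleinFour (P : Subgroup G)) : Nat.card {C : ConjClasses G // ∃ t : G, orderOf t = 2 ∧ ConjClasses.mk t = C} = 1 ∨ Nat.card {C : ConjClasses G // ∃ t : G, orderOf t = 2 ∧ ConjClasses.mk t = C} = 3 := by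
  rw [card_eq_ncard]
  obtain ⟨a, b, ha, hb, hao, hbo, habo, hne, hne1, hne2, habP, hall, hcomm⟩ :=
    klein_elems (P : Subgroup G) hP
  rw [invClasses_eq P a b ha hb habP hao hbo habo hall]
  by_cases h : IsConj a b ∨ IsConj a (a * b) ∨ IsConj b (a * b)
  · left
    obtain ⟨h1, h2⟩ := all_conj P a b ha hb hao hbo habo hne hall hcomm h
    rw [Set.ncard_eq_one]
    refine ⟨ConjClasses.mk a, ?_⟩
    rw [← ConjClasses.mk_eq_mk_iff_isConj.mpr h1, ← ConjClasses.mk_eq_mk_iff_isConj.mpr h2]
    simp
  · right
    push Not at h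
    obtain ⟨h1, h2, h3⟩ := h
    rw [Set.ncard_eq_three]
    refine ⟨_, _, _, ?_, ?_, ?_, rfl⟩
    · intro e; exact h1 (ConjClasses.mk_eq_mk_iff_isConj.mp e)
    · intro e; exact h2 (ConjClasses.mk_eq_mk_iff_isConj.mp e)
    · intro e; exact h3 (ConjClasses.mk_eq_mk_iff_isConj.mp e)

end Cfsg.Agent.S0202
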