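import Cfsg.Statements.S0203
import Mathlib
import Cfsg.Agent.S0202

set_option autoImplicit false
open Cfsg

namespace Cfsg.Agent.S0203

open Cfsg.Agent.Helper4 Cfsg.Agent.S0202

/-- With an abelian `P` having a normal complement, conjugate elements of `P` are equal. -/
theorem eq_of_conj_of_complement {G : Type*} [Group G] (N P : Subgroup G) (hN : N.Normal)
    (hc : Subgroup.IsComplement' N P) (hcomm : ∀ x ∈ P, ∀ y ∈ P, x * y = y * x)
    (x y : G) (hx : x ∈ P) (hy : y ∈ P) (h : IsConj x y) : x = y := by
  obtain ⟨g, hg⟩ := isConj_iff.mp h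
  obtain ⟨⟨n, p⟩, hnp, -⟩ := (Subgroup.isComplement'_def.mp hc).existsUnique g
  simp only at hnp
  have hn : (n : G) ∈ N := n.2
  have hp : (p : G) ∈ P := p.2
  -- y = n x n⁻¹
  have hy' : y = (n : G) * x * (n : G)⁻¹ := by
    rw [← hg, ← hnp]
    have : (p : G) * x * (p : G)⁻¹ = x := by
      rw [hcomm _ hp x hx]; group
    calc (n : G) * p * x * ((n : G) * p)⁻¹ = n * ((p : G) * x * (p : G)⁻¹) * (n : G)⁻¹ := by group
      _ = n * x * (n : G)⁻¹ := by rw [this]
  have hmemN : y * x⁻¹ ∈ N := by
    rw [hy']
    have h1 : x * (n : G)⁻¹ * x⁻¹ ∈ N := hN.conj_mem _ (N.inv_mem hn) x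
    have h2 : (n : G) * x * (n : G)⁻¹ * x⁻¹ = n * (x * (n : G)⁻¹ * x⁻¹) := by group
    rw [h2]
    exact N.mul_mem hn h1
  have hmemP : y * x⁻¹ ∈ P := P.mul_mem hy (P.inv_mem hx)
  have h1 : y * x⁻¹ ∈ N ⊓ P := ⟨hmemN, hmemP⟩
  rw [hc.disjoint.eq_bot, Subgroup.mem_bot] at h1
  exact (mul_inv_eq_one.mp h1).symm

/-- If a Sylow 2-subgroup P of a finite group G is a Klein four-group, then G has three classes of involutions if and only if P has a normal complement in G. -/
theorem result {G : Type*} [Group G] [Finite G] (P : Sylow 2 G) (hP : IsKleinFour (P : Subgroup G)) : Nat.card {C : ConjClasses G // ∃ t : G, orderOf t = 2 ∧ ConjClasses.mk t = C} = 3 ↔ ∃ N : Subgroup G, N.Normal ∧ Subgroup.IsComplement' N (P : Subgroup G) := by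
  rw [card_eq_ncard]
  obtain ⟨a, b, ha, hb, hao, hbo, habo, hne, hne1, hne2, habP, hall, hcomm⟩ :=
    klein_elems (P : Subgroup G) hP
  rw [invClasses_eq P a b ha hb habP hao hbo habo hall]
  constructor
  · intro h3
    -- pairwise non-conjugate
    have hnc : ¬ (IsConj a b ∨ IsConj a (a * b) ∨ IsConj b (a * b)) := by
      intro h
      obtain ⟨h1, h2⟩ := all_conj P a b ha hb hao hbo habo hne hall hcomm h
      rw [← ConjClasses.mk_eq_mk_iff_isConj.mpr h1, ← ConjClasses.mk_eq_mk_iff_isConj.mpr h2] at h3
      simp at h3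
    push Not at hnc
    obtain ⟨h1, h2, h3'⟩ := hnc
    have hNC : Subgroup.normalizer ((P : Subgroup G) : Set G) ≤
        Subgroup.centralizer ((P : Subgroup G) : Set G) := by
      intro n hn
      have hna : n * a * n⁻¹ = a := by
        have hm : n * a * n⁻¹ ∈ (P : Subgroup G) := (Subgroup.mem_normalizer_iff.mp hn a).mp ha
        have hne1' : n * a * n⁻¹ ≠ 1 := by
          intro h
          have : orderOf (n * a * n⁻¹) = 2 := by rw [orderOf_conj_eq, hao]
          rw [h, orderOf_one] at this
          omega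
        rcases hall _ hm with h | h | h | h
        · exact absurd h hne1'
        · exact h
        · exact absurd (isConj_iff.mpr ⟨n, h⟩) h1
        · exact absurd (isConj_iff.mpr ⟨n, h⟩) h2
      have hnb : n * b * n⁻¹ = b := by
        have hm : n * b * n⁻¹ ∈ (P : Subgroup G) := (Subgroup.mem_normalizer_iff.mp hn b).mp hb
        have hne1' : n * b * n⁻¹ ≠ 1 := by
          intro h
          have : orderOf (n * b * n⁻¹) = 2 := by rw [orderOf_conj_eq, hbo]
          rw [h, orderOf_one] at this
          omega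
        rcases hall _ hm with h | h | h | h
        · exact absurd h hne1'
        · exact absurd (isConj_iff.mpr ⟨n, h⟩).symm h1
        · exact h
        · exact absurd (isConj_iff.mpr ⟨n, h⟩) h3'
      have ea : a * n = n * a := by
        calc a * n = n * a * n⁻¹ * n := by rw [hna]
          _ = n * a := by group
      have eb : b * n = n * b := by
        calc b * n = n * b * n⁻¹ * n := by rw [hnb]
          _ = n * b := by group
      rw [Subgroup.mem_centralizer_iff]
      intro x hx
      rcases hall x hx with h | h | h | h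
      · rw [h, one_mul, mul_one]
      · rw [h]; exact ea
      · rw [h]; exact eb
      · rw [h, mul_assoc, eb, ← mul_assoc, ea, mul_assoc]
    exact ⟨_, MonoidHom.normal_ker _, MonoidHom.ker_transferSylow_isComplement' P hNC⟩
  · rintro ⟨N, hN, hc⟩
    rw [Set.ncard_eq_three]
    refine ⟨_, _, _, ?_, ?_, ?_, rfl⟩
    · intro e
      exact hne (eq_of_conj_of_complement N P hN hc hcomm a b ha hb
        (ConjClasses.mk_eq_mk_iff_isConj.mp e))
    · intro e
      exact hne1 (eq_of_conj_of_complement N P hN hc hcomm a (a * b) ha habP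
        (ConjClasses.mk_eq_mk_iff_isConj.mp e)).symm
    · intro e
      exact hne2 (eq_of_conj_of_complement N P hN hc hcomm b (a * b) hb habP
        (ConjClasses.mk_eq_mk_iff_isConj.mp e)).symm

end Cfsg.Agent.S0203
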