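import Cfsg.Statements.S0208
import Mathlib
import Cfsg.Agent.Lib.Helper4.Dihedral

set_option autoImplicit false
open Cfsg

namespace Cfsg.Agent.S0208

open Cfsg.Agent.Helper4

/-- If x, y are involutions and xy has odd order, then some element of the subgroup generated by x and y conjugates x to y. -/
theorem result {G : Type*} [Group G] [Finite G] (x y : G) (hx : orderOf x = 2) (hy : orderOf y = 2) (hodd : Odd (orderOf (x * y))) : ∃ d ∈ Subgroup.closure ({x, y} : Set G), d * x * d⁻¹ = y := by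
  obtain ⟨m, hm⟩ := hodd
  refine ⟨(x * y) ^ (m : ℤ), dih_zpow_mem hx hy _, ?_⟩
  rw [dih_zpow_conj_x hx hy]
  have h1 : (x * y) ^ (2 * (m : ℤ)) = (x * y) ^ (-1 : ℤ) := by
    have h2 : (x * y) ^ (2 * (m : ℤ) + 1) = 1 := by
      have : (2 * (m : ℤ) + 1) = ((2 * m + 1 : ℕ) : ℤ) := by push_cast; ring
      rw [this, zpow_natCast, ← hm, pow_orderOf_eq_one]
    have h3 : (2 * (m : ℤ)) = (2 * (m : ℤ) + 1) + (-1) := by ring
    rw [h3, zpow_add, h2, one_mul]
  rw [h1]
  exact (dih_y_eq hx hy).symm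

end Cfsg.Agent.S0208
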