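import Cfsg.Statements.S0209
import Mathlib
import Cfsg.Agent.Lib.Helper4.Dihedral

set_option autoImplicit false
open Cfsg

namespace Cfsg.Agent.S0209

open Cfsg.Agent.Helper4

theorem commute_of_conj_inv_of_sq {G : Type*} [Group G] {c z : G} (h : c * z * c⁻¹ = z⁻¹)
    (hz : z * z = 1) : Commute z c := by
  have hz' : z⁻¹ = z := inv_eq_of_mul_eq_one_left hz
  rw [hz'] at h
  show z * c = c * z
  calc z * c = c * z * c⁻¹ * c := by rw [h]
    _ = c * z := by group

/-- If x, y are involutions whose product has even order n, the element (xy)^(n/2) is an involution that commutes with x and with y. -/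
theorem result {G : Type*} [Group G] [Finite G] (x y : G) (hx : orderOf x = 2) (hy : orderOf y = 2) (heven : Even (orderOf (x * y))) : orderOf ((x * y) ^ (orderOf (x * y) / 2)) = 2 ∧ Commute ((x * y) ^ (orderOf (x * y) / 2)) x ∧ Commute ((x * y) ^ (orderOf (x * y) / 2)) y := by
  have hpos : 0 < orderOf (x * y) := orderOf_pos _
  obtain ⟨m, hm⟩ := heven
  have hm2 : orderOf (x * y) / 2 = m := by omega
  rw [hm2]
  have hmpos : 0 < m := by omega
  have hzz : (x * y) ^ m * (x * y) ^ m = 1 := by
    rw [← pow_add, ← hm, pow_orderOf_eq_one]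
  refine ⟨?_, ?_, ?_⟩
  · apply orderOf_eq_two_of_sq
    · rw [pow_two]; exact hzz
    · exact pow_ne_one_of_lt_orderOf (by omega) (by omega)
  · apply commute_of_conj_inv_of_sq _ hzz
    rw [← conj_pow, dih_conj hx hy, inv_pow]
  · apply commute_of_conj_inv_of_sq _ hzz
    rw [← conj_pow, dih_conj_y hx hy, inv_pow]

end Cfsg.Agent.S0209
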