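import Cfsg.Statements.S0211
import Mathlib
import Cfsg.Agent.Lib.Helper4.Dihedral

set_option autoImplicit false
open Cfsg

namespace Cfsg.Agent.S0211

open Cfsg.Agent.Helper4

/-- Let x, y be involutions with xy of even order n and z = (xy)^(n/2). Then xz is conjugate to x by an element of the subgroup generated by x, y if and only if 4 divides n. -/
theorem result {G : Type*} [Group G] [Finite G] (x y : G) (hx : orderOf x = 2) (hy : orderOf y = 2) (heven : Even (orderOf (x * y))) : (∃ d ∈ Subgroup.closure ({x, y} : Set G), d * x * d⁻¹ = x * (x * y) ^ (orderOf (x * y) / 2)) ↔ 4 ∣ orderOf (x * y) := by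
  have hpos : 0 < orderOf (x * y) := orderOf_pos _
  obtain ⟨m, hm⟩ := heven
  have hm2 : orderOf (x * y) / 2 = m := by omega
  rw [hm2]
  have hxz : x * (x * y) ^ m = (x * y) ^ (-(m : ℤ)) * x := by
    rw [← zpow_natCast, dih_x_mul_zpow hx hy]
  rw [hxz]
  constructor
  · rintro ⟨d, hd, h⟩
    obtain ⟨k, hk⟩ := dih_conj_x hx hy hd
    rw [h] at hk
    have h1 : (x * y) ^ (-(m : ℤ)) = (x * y) ^ (2 * k) := mul_right_cancel hk
    have h2 : (x * y) ^ (2 * k + m) = 1 := by
      rw [zpow_add, ← h1, ← zpow_add]; simp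
    have h3 : ((orderOf (x * y) : ℕ) : ℤ) ∣ 2 * k + m := orderOf_dvd_iff_zpow_eq_one.mpr h2
    rw [hm] at h3
    obtain ⟨j, hj⟩ := h3
    push_cast at hj
    have h4 : (2 : ℤ) ∣ m := ⟨m * j - k, by linarith⟩
    rw [hm]
    omega
  · intro h4
    obtain ⟨j, hj⟩ := h4
    have hmj : m = 2 * j := by omega
    refine ⟨(x * y) ^ (-(j : ℤ)), dih_zpow_mem hx hy _, ?_⟩
    rw [dih_zpow_conj_x hx hy]
    congr 2
    rw [hmj]; push_cast; ring

end Cfsg.Agent.S0211
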