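import Cfsg.Statements.S0233
import Cfsg.Agent.Lib.Helper34.BrauerFowler

set_option autoImplicit false
open Cfsg

namespace Cfsg.Agent.S0233

open Cfsg.Agent.Helper34.BF

/-- The number of involutions as the cardinality of `invs G`. -/
theorem natCard_invs {G : Type*} [Group G] [Fintype G] :
    Nat.card {t : G // orderOf t = 2} = (invs G).card := by
  classical
  rw [Nat.card_eq_fintype_card, Fintype.card_subtype]
  rfl

/-- A group of even order has an involution. -/
theorem one_le_card_invs {G : Type*} [Group G] [Fintype G] (heven : Even (Nat.card G)) :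
    1 ≤ (invs G).card := by
  haveI : Fact (Nat.Prime 2) := ⟨Nat.prime_two⟩
  obtain ⟨x, hx⟩ := exists_prime_orderOf_dvd_card' (G := G) 2 (even_iff_two_dvd.mp heven)
  exact Finset.card_pos.mpr ⟨x, mem_invs.mpr hx⟩

/-- If the centre has odd order then no involution is central. -/
theorem not_mem_center_of_odd {G : Type*} [Group G] [Finite G]
    (hZ : Odd (Nat.card (Subgroup.center G))) (t : G) (ht : orderOf t = 2) :
    t ∉ Subgroup.center G := by
  intro hmem
  have h1 : orderOf (⟨t, hmem⟩ : Subgroup.center G) = 2 := by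
    rw [← ht]
    exact Subgroup.orderOf_mk t hmem
  have h2 : 2 ∣ Nat.card (Subgroup.center G) := by
    rw [← h1]
    exact orderOf_dvd_natCard _
  exact (Nat.not_even_iff_odd.mpr hZ) (even_iff_two_dvd.mpr h2)

/-- Let G be a finite group of even order with exactly n involutions whose centre has odd order, and put a = |G|/n. Then G has a proper subgroup H with |G : H| = 2 or |G : H| < a(a+1)/2; over ℕ the latter reads 2·|G:H|·n² < |G|·(|G| + n). -/
theorem result {G : Type*} [Group G] [Finite G] (heven : Even (Nat.card G)) (hZ : Odd (Nat.card (Subgroup.center G))) : ∃ H : Subgroup G, H ≠ ⊤ ∧ (H.index = 2 ∨ 2 * H.index * (Nat.card {t : G // orderOf t = 2}) ^ 2 < Nat.card G * (Nat.card G + Nat.card {t : G // orderOf t = 2})) := by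
  classical
  haveI : Fintype G := Fintype.ofFinite G
  rw [natCard_invs]
  set m := (invs G).card with hm
  set g := Nat.card G with hg
  have hgF : Fintype.card G = g := by rw [hg, Nat.card_eq_fintype_card]
  have hm1 : 1 ≤ m := one_le_card_invs heven
  have hgpos : 0 < g := Nat.card_pos
  by_contra hcon
  push_neg at hcon
  set c := 2 * m ^ 2 / (g + m) with hc
  have hH : ∀ H : Subgroup G, H ≠ ⊤ → H.index ≠ 2 ∧ Nat.card H ≤ c := by
    intro H hH
    obtain ⟨h1, h2⟩ := hcon H hH
    refine ⟨h1, ?_⟩
    rw [hc, Nat.le_div_iff_mul_le (by omega)]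
    have h3 : Nat.card H * H.index = g := H.card_mul_index
    have h4 : Nat.card H * (g * (g + m)) ≤ Nat.card H * (2 * H.index * m ^ 2) :=
      Nat.mul_le_mul_left _ h2
    have h5 : Nat.card H * (2 * H.index * m ^ 2) = g * (2 * m ^ 2) := by
      rw [← h3]; ring
    rw [h5] at h4
    have h6 : g * (Nat.card H * (g + m)) ≤ g * (2 * m ^ 2) := by
      calc g * (Nat.card H * (g + m)) = Nat.card H * (g * (g + m)) := by ring
        _ ≤ g * (2 * m ^ 2) := h4
    exact Nat.le_of_mul_le_mul_left h6 hgpos
  have hbf := bf_inequality (G := G) c (not_mem_center_of_odd hZ) hH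
  rw [hgF, ← hm] at hbf
  have hcm : c * (g + m) ≤ 2 * m ^ 2 := Nat.div_mul_le_self _ _
  nlinarith

end Cfsg.Agent.S0233
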