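import Cfsg.Statements.S0212
import Cfsg.Agent.Lib.Helper34.BrauerFowler2
import Cfsg.Agent.S0233

set_option autoImplicit false
open Cfsg

namespace Cfsg.Agent.S0212

open Cfsg.Agent.Helper34.BF

theorem result {G : Type*} [Group G] [Finite G] [IsSimpleGroup G] (t : G) (ht : orderOf t = 2) : Nat.card G ≤ Nat.factorial (2 * (Nat.card (Subgroup.centralizer ({t} : Set G))) ^ 2) := by
  classical
  haveI : Fintype G := Fintype.ofFinite G
  set c := Nat.card (Subgroup.centralizer ({t} : Set G)) with hc
  have hcpos : 0 < c := Nat.card_pos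
  rcases (inferInstance : (Subgroup.center G).Normal).eq_bot_or_eq_top with hZ | hZ
  · -- centre trivial
    have hZodd : Odd (Nat.card (Subgroup.center G)) := by
      rw [hZ, Subgroup.card_bot]
      exact odd_one
    have heven : Even (Nat.card G) := by
      rw [even_iff_two_dvd, ← ht]
      exact orderOf_dvd_natCard t
    obtain ⟨H, hH, hidx⟩ := Cfsg.Agent.S0233.result heven hZodd
    have h1 := card_le_factorial_index_of_simple H hH
    refine h1.trans (Nat.factorial_le ?_)
    rcases hidx with h2 | h2
    · rw [h2]
      have : 1 ≤ c ^ 2 := Nat.one_le_pow _ _ hcpos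
      omega
    · rw [natCard_invs'] at h2
      set m := (invs G).card with hm
      have hg : Nat.card G ≤ c * m := by
        rw [Nat.card_eq_fintype_card]
        exact card_le_card_centralizer_mul_card_invs ht
      have hm1 : 1 ≤ m := Cfsg.Agent.S0233.one_le_card_invs heven
      set g := Nat.card G with hgdef
      -- `2 idx m² < g (g + m) ≤ m² c (c + 1)`
      have h3 : g * (g + m) ≤ (c * m) * (c * m + m) := Nat.mul_le_mul hg (by omega)
      have h4 : 2 * H.index * m ^ 2 < m ^ 2 * (c * (c + 1)) := by
        calc 2 * H.index * m ^ 2 < g * (g + m) := h2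
          _ ≤ (c * m) * (c * m + m) := h3
          _ = m ^ 2 * (c * (c + 1)) := by ring
      have h5 : 2 * H.index < c * (c + 1) := by
        have hm2 : 0 < m ^ 2 := by positivity
        have : m ^ 2 * (2 * H.index) < m ^ 2 * (c * (c + 1)) := by
          calc m ^ 2 * (2 * H.index) = 2 * H.index * m ^ 2 := by ring
            _ < m ^ 2 * (c * (c + 1)) := h4
        exact Nat.lt_of_mul_lt_mul_left this
      nlinarith
  · -- abelian case
    have htop : Subgroup.centralizer ({t} : Set G) = ⊤ := by
      rw [eq_top_iff]
      intro g _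
      rw [Subgroup.mem_centralizer_singleton_iff]
      have : t ∈ Subgroup.center G := by rw [hZ]; exact Subgroup.mem_top t
      exact (Subgroup.mem_center_iff.mp this g)
    have hcG : c = Nat.card G := by
      rw [hc, htop, Subgroup.card_top]
    rw [← hcG]
    calc c ≤ 2 * c ^ 2 := by nlinarith
      _ ≤ Nat.factorial (2 * c ^ 2) := Nat.self_le_factorial _

end Cfsg.Agent.S0212
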