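import Cfsg.Statements.S0219
import Mathlib

set_option autoImplicit false
open Cfsg

namespace Cfsg.Agent.S0219

/-- If a finite group has even order and a cyclic Sylow 2-subgroup, then it has a subgroup of index 2 (consider the parity of permutations in the regular representation). -/
theorem result {G : Type*} [Group G] [Finite G] (heven : Even (Nat.card G)) (T : Sylow 2 G) (hT : IsCyclic (T : Subgroup G)) : ∃ H : Subgroup G, H.index = 2 := by
  classical
  have hcard2 : 2 ∣ Nat.card G := even_iff_two_dvd.mp heven
  have hmin : (Nat.card G).minFac = 2 := (Nat.minFac_eq_two_iff _).mpr hcard2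
  have hNC := IsCyclic.normalizer_le_centralizer hmin hT
  have hsurj : Function.Surjective (MonoidHom.transferSylow T hNC) := by
    intro y
    have hb : Function.Bijective ((MonoidHom.transferSylow T hNC).domRestrict (T : Subgroup G)) := by
      rw [MonoidHom.transferSylow_domRestrict_eq_pow T hNC]
      exact (T.2.powEquiv' T.not_dvd_index).bijective
    obtain ⟨x, hx⟩ := hb.2 y
    exact ⟨x, hx⟩
  haveI : IsCyclic (T : Subgroup G) := hT
  letI : CommGroup (T : Subgroup G) := IsCyclic.commGroup
  have hK : ((powMonoidHom 2 : (T : Subgroup G) →* (T : Subgroup G)).range).index = 2 := by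
    rw [IsCyclic.index_powMonoidHom_range]
    exact Nat.gcd_eq_right (T.dvd_card_of_dvd_card hcard2)
  refine ⟨((powMonoidHom 2 : (T : Subgroup G) →* (T : Subgroup G)).range).comap
    (MonoidHom.transferSylow T hNC), ?_⟩
  rw [Subgroup.index_comap_of_surjective _ hsurj]
  exact hK

end Cfsg.Agent.S0219
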