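import Cfsg.Statements.S0220
import Mathlib
import Cfsg.Agent.Lib.Helper4.Inv
import Cfsg.Agent.S0219

set_option autoImplicit false
open Cfsg

namespace Cfsg.Agent.S0220

open Cfsg.Agent.Helper4

theorem cyclic_invol_unique {A : Type*} [Group A] [Finite A] [IsCyclic A] {a b : A}
    (ha : a ^ 2 = 1) (hb : b ^ 2 = 1) (ha1 : a ≠ 1) (hb1 : b ≠ 1) : a = b := by
  classical
  haveI := Fintype.ofFinite A
  by_contra hab
  have h := IsCyclic.card_pow_eq_one_le (α := A) (n := 2) (by norm_num)
  have hsub : ({1, a, b} : Finset A) ⊆ Finset.univ.filter (fun c => c ^ 2 = 1) := by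
    intro c hc
    simp only [Finset.mem_insert, Finset.mem_singleton] at hc
    simp only [Finset.mem_filter, Finset.mem_univ, true_and]
    rcases hc with rfl | rfl | rfl
    · simp
    · exact ha
    · exact hb
  have hc3 : ({1, a, b} : Finset A).card = 3 := by
    rw [Finset.card_insert_of_notMem, Finset.card_insert_of_notMem, Finset.card_singleton]
    · simpa using hab
    · simp only [Finset.mem_insert, Finset.mem_singleton, not_or]
      exact ⟨ha1.symm, hb1.symm⟩
  have := Finset.card_le_card hsub
  omega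

/-- If x is an involution of a finite group G and a Sylow 2-subgroup of the centralizer of x is cyclic, then G has a subgroup of index 2; in particular G is not simple unless it has order 2. -/
theorem result {G : Type*} [Group G] [Finite G] (x : G) (hx : orderOf x = 2) (S : Sylow 2 ↥(Subgroup.centralizer ({x} : Set G))) (hS : IsCyclic (S : Subgroup ↥(Subgroup.centralizer ({x} : Set G)))) : ∃ H : Subgroup G, H.index = 2 := by
  classical
  have hxC : x ∈ Subgroup.centralizer ({x} : Set G) := Subgroup.mem_centralizer_singleton_iff.mpr rfl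
  have hS' : IsPGroup 2 ((S : Subgroup (Subgroup.centralizer ({x} : Set G))).map
      (Subgroup.centralizer ({x} : Set G)).subtype) := S.2.map _
  obtain ⟨T, hT⟩ := hS'.exists_le_sylow
  -- elements of T ⊓ C lie in S
  have key : ∀ a (ha : a ∈ Subgroup.centralizer ({x} : Set G)), a ∈ T →
      (⟨a, ha⟩ : Subgroup.centralizer ({x} : Set G)) ∈ S := by
    intro a ha haT
    have hp : IsPGroup 2 ((T : Subgroup G).subgroupOf (Subgroup.centralizer ({x} : Set G))) :=
      T.2.comap_subtype
    have hle : (S : Subgroup (Subgroup.centralizer ({x} : Set G))) ≤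
        (T : Subgroup G).subgroupOf (Subgroup.centralizer ({x} : Set G)) := by
      intro s hs
      rw [Subgroup.mem_subgroupOf]
      exact hT (Subgroup.mem_map_of_mem _ hs)
    have hmax := S.is_maximal' hp hle
    have hmem : (⟨a, ha⟩ : Subgroup.centralizer ({x} : Set G)) ∈
        (T : Subgroup G).subgroupOf (Subgroup.centralizer ({x} : Set G)) :=
      Subgroup.mem_subgroupOf.mpr haT
    rw [hmax] at hmem
    exact hmem
  -- x ∈ S
  have hxS : (⟨x, hxC⟩ : Subgroup.centralizer ({x} : Set G)) ∈ S := by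
    have hZ : IsPGroup 2 (Subgroup.zpowers (⟨x, hxC⟩ : Subgroup.centralizer ({x} : Set G))) := by
      apply IsPGroup.of_card (n := 1)
      rw [Nat.card_zpowers, Subgroup.orderOf_mk, hx, pow_one]
    obtain ⟨Q, hQ⟩ := hZ.exists_le_sylow
    obtain ⟨c, hc⟩ := MulAction.exists_smul_eq (Subgroup.centralizer ({x} : Set G)) Q S
    have hxQ : (⟨x, hxC⟩ : Subgroup.centralizer ({x} : Set G)) ∈ Q :=
      hQ (Subgroup.mem_zpowers _)
    have h1 : c * ⟨x, hxC⟩ * c⁻¹ ∈ S := by
      rw [← hc, ← SetLike.mem_coe, Sylow.coe_smul, Set.mem_smul_set]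
      exact ⟨_, hxQ, by simp [MulAut.smul_def]⟩
    have h2 : c * ⟨x, hxC⟩ * c⁻¹ = (⟨x, hxC⟩ : Subgroup.centralizer ({x} : Set G)) := by
      apply Subtype.ext
      have hcx := Subgroup.mem_centralizer_singleton_iff.mp c.2
      show (c : G) * x * (c : G)⁻¹ = x
      rw [hcx]; group
    rwa [h2] at h1
  have hxT : x ∈ T := hT (Subgroup.mem_map.mpr ⟨⟨x, hxC⟩, hxS, rfl⟩)
  -- a central involution of T
  haveI : Nontrivial (T : Subgroup G) :=
    ⟨⟨⟨x, hxT⟩, 1, fun h => ne_one_of_orderOf_eq_two hx (congrArg Subtype.val h)⟩⟩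
  haveI : Nontrivial (Subgroup.center (T : Subgroup G)) := T.2.center_nontrivial
  have hpc : IsPGroup 2 (Subgroup.center (T : Subgroup G)) := T.2.to_subgroup _
  obtain ⟨n, hn, hcard⟩ := hpc.nontrivial_iff_card.mp inferInstance
  have h2 : 2 ∣ Nat.card (Subgroup.center (T : Subgroup G)) := by
    rw [hcard]; exact dvd_pow_self 2 hn.ne'
  obtain ⟨z, hz⟩ := exists_prime_orderOf_dvd_card' (G := Subgroup.center (T : Subgroup G)) 2 h2
  have hzo : orderOf ((z : (T : Subgroup G)) : G) = 2 := by
    rw [Subgroup.orderOf_coe, Subgroup.orderOf_coe, hz]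
  have hzcomm : ∀ a : G, a ∈ T → a * ((z : (T : Subgroup G)) : G) = ((z : (T : Subgroup G)) : G) * a := by
    intro a ha
    have h := Subgroup.mem_center_iff.mp z.2 ⟨a, ha⟩
    exact congrArg Subtype.val h
  have hzC : ((z : (T : Subgroup G)) : G) ∈ Subgroup.centralizer ({x} : Set G) := by
    rw [Subgroup.mem_centralizer_singleton_iff]
    exact (hzcomm x hxT).symm
  have hzS := key _ hzC (z : (T : Subgroup G)).2
  have hzx : ((z : (T : Subgroup G)) : G) = x := by
    haveI := hS
    have h := cyclic_invol_unique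
      (A := (S : Subgroup (Subgroup.centralizer ({x} : Set G))))
      (a := ⟨⟨_, hzC⟩, hzS⟩) (b := ⟨⟨x, hxC⟩, hxS⟩)
      (by apply Subtype.ext; apply Subtype.ext; exact sq_eq_one_of_orderOf_eq_two hzo)
      (by apply Subtype.ext; apply Subtype.ext; exact sq_eq_one_of_orderOf_eq_two hx)
      (by
        intro h
        exact ne_one_of_orderOf_eq_two hzo (Subtype.ext_iff.mp (Subtype.ext_iff.mp h)))
      (by
        intro h
        exact ne_one_of_orderOf_eq_two hx (Subtype.ext_iff.mp (Subtype.ext_iff.mp h)))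
    exact Subtype.ext_iff.mp (Subtype.ext_iff.mp h)
  have hTC : ∀ a ∈ T, a ∈ Subgroup.centralizer ({x} : Set G) := by
    intro a ha
    rw [Subgroup.mem_centralizer_singleton_iff]
    have := hzcomm a ha
    rwa [hzx] at this
  have hTeq : (T : Subgroup G) = (S : Subgroup (Subgroup.centralizer ({x} : Set G))).map
      (Subgroup.centralizer ({x} : Set G)).subtype := by
    apply le_antisymm
    · intro a ha
      exact Subgroup.mem_map.mpr ⟨⟨a, hTC a ha⟩, key a _ ha, rfl⟩
    · exact hT
  have hcyc : IsCyclic (T : Subgroup G) := by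
    rw [hTeq]
    haveI := hS
    exact isCyclic_of_surjective
      ((S : Subgroup (Subgroup.centralizer ({x} : Set G))).equivMapOfInjective
        (Subgroup.centralizer ({x} : Set G)).subtype (Subgroup.subtype_injective _))
      (MulEquiv.surjective _)
  have heven : Even (Nat.card G) := by
    rw [even_iff_two_dvd, ← hx]; exact orderOf_dvd_natCard x
  exact Cfsg.Agent.S0219.result heven T hcyc

end Cfsg.Agent.S0220
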