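import Cfsg.Statements.S0213
import Mathlib
import Cfsg.Agent.S0208
import Cfsg.Agent.S0209
import Cfsg.Agent.S0220
import Cfsg.Agent.Lib.Helper4.Isolated

set_option autoImplicit false
open Cfsg

namespace Cfsg.Agent.S0213

open Cfsg.Agent.Helper4

/-- a cyclic subgroup has at most one involution -/
theorem invol_zpowers_unique {G : Type*} [Group G] [Finite G] (w a b : G)
    (ha : orderOf a = 2) (hb : orderOf b = 2)
    (haw : a ∈ Subgroup.zpowers w) (hbw : b ∈ Subgroup.zpowers w) : a = b := by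
  have h := Cfsg.Agent.S0220.cyclic_invol_unique (A := Subgroup.zpowers w)
    (a := ⟨a, haw⟩) (b := ⟨b, hbw⟩)
    (Subtype.ext (sq_eq_one_of_orderOf_eq_two ha)) (Subtype.ext (sq_eq_one_of_orderOf_eq_two hb))
    (fun h => ne_one_of_orderOf_eq_two ha (congrArg Subtype.val h))
    (fun h => ne_one_of_orderOf_eq_two hb (congrArg Subtype.val h))
  exact congrArg Subtype.val h

theorem mem_zpowers_conj {G : Type*} [Group G] (g y w : G) :
    g * y * g⁻¹ ∈ Subgroup.zpowers (g * w * g⁻¹) ↔ y ∈ Subgroup.zpowers w := by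
  simp only [Subgroup.mem_zpowers_iff, conj_zpow]
  constructor
  · rintro ⟨k, hk⟩
    refine ⟨k, ?_⟩
    have := congrArg (fun z => g⁻¹ * z * g) hk
    simpa [mul_assoc] using this
  · rintro ⟨k, hk⟩
    exact ⟨k, by rw [hk]⟩

theorem card_class_mul_card_centralizer {G : Type*} [Group G] [Fintype G] [DecidableEq G]
    (g : G) [DecidablePred (fun y => IsConj g y)] :
    (Finset.univ.filter (fun y => IsConj g y)).card *
      Nat.card (Subgroup.centralizer ({g} : Set G)) = Nat.card G := by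
  have h1 : Nat.card (ConjClasses.mk g).carrier * Nat.card (Subgroup.centralizer ({g} : Set G)) =
      Nat.card G := by
    rw [Subgroup.nat_card_centralizer_nat_card_stabilizer, ← ConjAct.orbit_eq_carrier_conjClasses,
      Nat.card_coe_set_eq, ← MulAction.index_stabilizer, mul_comm, Subgroup.card_mul_index]
    exact Nat.card_congr ConjAct.ofConjAct.toEquiv
  rw [← h1]
  congr 1
  rw [← Fintype.card_subtype, ← Nat.card_eq_fintype_card]
  apply Nat.card_congr
  refine Equiv.subtypeEquivRight fun x => ?_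
  rw [ConjClasses.mem_carrier_iff_mk_eq, ConjClasses.mk_eq_mk_iff_isConj]
  exact ⟨fun h => h.symm, fun h => h.symm⟩

/-- Thompson Order Formula, two-class case: if every involution of the finite group G is conjugate to exactly one of the non-conjugate involutions x₁, x₂, and nᵢ is the number of pairs (u, v) with u conjugate to x₁, v conjugate to x₂ and xᵢ in the cyclic group generated by uv, then |G| = |C(x₂)| n₁ + |C(x₁)| n₂. -/
theorem result {G : Type*} [Group G] [Finite G] (x₁ x₂ : G) (h₁ : orderOf x₁ = 2) (h₂ : orderOf x₂ = 2) (hnc : ¬ IsConj x₁ x₂) (hall : ∀ t : G, orderOf t = 2 → IsConj x₁ t ∨ IsConj x₂ t) : Nat.card G = Nat.card (Subgroup.centralizer ({x₂} : Set G)) * Nat.card {p : G × G // IsConj x₁ p.1 ∧ IsConj x₂ p.2 ∧ x₁ ∈ Subgroup.zpowers (p.1 * p.2)} + Nat.card (Subgroup.centralizer ({x₁} : Set G)) * Nat.card {p : G × G // IsConj x₁ p.1 ∧ IsConj x₂ p.2 ∧ x₂ ∈ Subgroup.zpowers (p.1 * p.2)} := by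
  classical
  haveI : Fintype G := Fintype.ofFinite G
  set C1 : Finset G := Finset.univ.filter (fun y => IsConj x₁ y) with hC1
  set C2 : Finset G := Finset.univ.filter (fun y => IsConj x₂ y) with hC2
  set A : Finset (G × G) := C1 ×ˢ C2 with hA
  have memC1 : ∀ y, y ∈ C1 ↔ IsConj x₁ y := fun y => by simp [C1]
  have memC2 : ∀ y, y ∈ C2 ↔ IsConj x₂ y := fun y => by simp [C2]
  have memA : ∀ p : G × G, p ∈ A ↔ IsConj x₁ p.1 ∧ IsConj x₂ p.2 := fun p => by
    simp [A, memC1, memC2]
  let F : G → ℕ := fun y => (A.filter (fun p => y ∈ Subgroup.zpowers (p.1 * p.2))).card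
  have hn : ∀ y : G, Nat.card {p : G × G // IsConj x₁ p.1 ∧ IsConj x₂ p.2 ∧
      y ∈ Subgroup.zpowers (p.1 * p.2)} = F y := by
    intro y
    rw [Nat.card_eq_fintype_card, Fintype.card_subtype]
    congr 1
    ext p
    simp only [Finset.mem_filter, Finset.mem_univ, true_and, memA, and_assoc]
  rw [hn x₁, hn x₂]
  -- orders
  have ordC1 : ∀ y, IsConj x₁ y → orderOf y = 2 := by
    intro y hy
    obtain ⟨g, rfl⟩ := isConj_iff.mp hy
    rw [orderOf_conj_eq, h₁]
  have ordC2 : ∀ y, IsConj x₂ y → orderOf y = 2 := by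
    intro y hy
    obtain ⟨g, rfl⟩ := isConj_iff.mp hy
    rw [orderOf_conj_eq, h₂]
  -- conjugation invariance of F
  have Fconj : ∀ g y : G, F (g * y * g⁻¹) = F y := by
    intro g y
    symm
    let φ : G × G → G × G := fun p => (g * p.1 * g⁻¹, g * p.2 * g⁻¹)
    have hφ : Function.Bijective φ := by
      refine Function.bijective_iff_has_inverse.mpr
        ⟨fun p => (g⁻¹ * p.1 * g, g⁻¹ * p.2 * g), ?_, ?_⟩
      · intro p; simp [φ, mul_assoc]
      · intro p; simp [φ, mul_assoc]
    apply Finset.card_bijective φ hφ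
    intro p
    simp only [Finset.mem_filter, memA, φ]
    have e : g * p.1 * g⁻¹ * (g * p.2 * g⁻¹) = g * (p.1 * p.2) * g⁻¹ := by group
    rw [e, mem_zpowers_conj]
    have c1 : IsConj x₁ (g * p.1 * g⁻¹) ↔ IsConj x₁ p.1 :=
      ⟨fun h => h.trans (isConj_iff.mpr ⟨g, rfl⟩).symm, fun h => h.trans (isConj_iff.mpr ⟨g, rfl⟩)⟩
    have c2 : IsConj x₂ (g * p.2 * g⁻¹) ↔ IsConj x₂ p.2 :=
      ⟨fun h => h.trans (isConj_iff.mpr ⟨g, rfl⟩).symm, fun h => h.trans (isConj_iff.mpr ⟨g, rfl⟩)⟩
    rw [c1, c2]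
  have FC1 : ∀ y ∈ C1, F y = F x₁ := by
    intro y hy
    obtain ⟨g, rfl⟩ := isConj_iff.mp ((memC1 y).mp hy)
    exact Fconj g x₁
  have FC2 : ∀ y ∈ C2, F y = F x₂ := by
    intro y hy
    obtain ⟨g, rfl⟩ := isConj_iff.mp ((memC2 y).mp hy)
    exact Fconj g x₂
  -- disjointness
  have hdisj : Disjoint C1 C2 := by
    rw [Finset.disjoint_left]
    intro y hy1 hy2
    exact hnc (((memC1 y).mp hy1).trans ((memC2 y).mp hy2).symm)
  -- the central involution map
  let zc : G × G → G := fun p => (p.1 * p.2) ^ (orderOf (p.1 * p.2) / 2)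
  have hzc : ∀ p ∈ A, orderOf (zc p) = 2 := by
    intro p hp
    obtain ⟨hp1, hp2⟩ := (memA p).mp hp
    have heven : Even (orderOf (p.1 * p.2)) := by
      by_contra hne
      rw [Nat.not_even_iff_odd] at hne
      obtain ⟨e, -, he⟩ := Cfsg.Agent.S0208.result p.1 p.2 (ordC1 _ hp1) (ordC2 _ hp2) hne
      exact hnc ((hp1.trans (isConj_iff.mpr ⟨e, he⟩)).trans hp2.symm)
    exact (Cfsg.Agent.S0209.result p.1 p.2 (ordC1 _ hp1) (ordC2 _ hp2) heven).1
  have hmaps : ∀ p ∈ A, zc p ∈ C1 ∪ C2 := by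
    intro p hp
    rw [Finset.mem_union, memC1, memC2]
    exact hall _ (hzc p hp)
  have hcount := Finset.card_eq_sum_card_fiberwise hmaps
  have hfib : ∀ y ∈ C1 ∪ C2, (A.filter (fun p => zc p = y)).card = F y := by
    intro y hy
    have hyo : orderOf y = 2 := by
      rw [Finset.mem_union, memC1, memC2] at hy
      rcases hy with h | h
      · exact ordC1 y h
      · exact ordC2 y h
    show _ = (A.filter (fun p => y ∈ Subgroup.zpowers (p.1 * p.2))).card
    congr 1
    apply Finset.filter_congr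
    intro p hp
    constructor
    · intro h
      rw [← h]
      exact Subgroup.npow_mem_zpowers _ _
    · intro h
      exact invol_zpowers_unique (p.1 * p.2) _ _ (hzc p hp) hyo
        (Subgroup.npow_mem_zpowers _ _) h
  rw [Finset.sum_congr rfl hfib, Finset.sum_union hdisj, Finset.sum_const_nat FC1,
    Finset.sum_const_nat FC2, Finset.card_product] at hcount
  have k1 := card_class_mul_card_centralizer x₁
  have k2 := card_class_mul_card_centralizer x₂
  have hpos : 0 < Nat.card G := Nat.card_pos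
  apply Nat.eq_of_mul_eq_mul_left hpos
  set c1 := Nat.card (Subgroup.centralizer ({x₁} : Set G))
  set c2 := Nat.card (Subgroup.centralizer ({x₂} : Set G))
  calc Nat.card G * Nat.card G = (C1.card * c1) * (C2.card * c2) := by rw [k1, k2]
    _ = c1 * c2 * (C1.card * C2.card) := by ring
    _ = c1 * c2 * (C1.card * F x₁ + C2.card * F x₂) := by rw [hcount]
    _ = (C1.card * c1) * (c2 * F x₁) + (C2.card * c2) * (c1 * F x₂) := by ring
    _ = Nat.card G * (c2 * F x₁ + c1 * F x₂) := by rw [k1, k2]; ring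

end Cfsg.Agent.S0213
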