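import Cfsg.Statements.S0214
import Mathlib
import Cfsg.Agent.Lib.Helper45.StronglyEmbedded
import Cfsg.Agent.Lib.Helper33.Syl

set_option autoImplicit false
open Cfsg

namespace Cfsg.Agent.S0214

open Cfsg.Agent.Helper45.SE Cfsg.Agent.Helper33
open Pointwise

/-- a nontrivial finite 2-subgroup contains an involution -/
theorem exists_invol_of_pgroup {G : Type*} [Group G] [Finite G] (U : Subgroup G) (hU : IsPGroup 2 U)
    (hne : U ≠ ⊥) : ∃ s : G, s ∈ U ∧ orderOf s = 2 := by
  have : Fact (Nat.Prime 2) := ⟨Nat.prime_two⟩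
  apply exists_invol_of_even
  obtain ⟨n, hn⟩ := IsPGroup.iff_card.mp hU
  rw [hn]
  have hn0 : n ≠ 0 := by
    intro h0
    rw [h0, pow_zero] at hn
    exact hne (Subgroup.card_eq_one.mp hn)
  exact (Nat.even_pow.mpr ⟨even_two, hn0⟩)

/-- Let H be a proper subgroup of the finite group G and P a nontrivial Sylow 2-subgroup of H. Then H is strongly embedded in G if and only if N_G(X) ≤ H for every nontrivial subgroup X of P. -/
theorem result {G : Type*} [Group G] [Finite G] (H : Subgroup G) (hH : H ≠ ⊤) (P : Sylow 2 ↥H) (hP : (P : Subgroup ↥H) ≠ ⊥) : Cfsg.IsStronglyEmbedded H ↔ (∀ X : Subgroup ↥H, X ≤ (P : Subgroup ↥H) → X ≠ ⊥ → Subgroup.normalizer ((X.map H.subtype : Subgroup G) : Set G) ≤ H) := by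
  have : Fact (Nat.Prime 2) := ⟨Nat.prime_two⟩
  constructor
  · intro hSE X hXP hX g hg
    have hX2 : IsPGroup 2 (X.map H.subtype) := (P.isPGroup'.to_le hXP).map _
    have hXne : X.map H.subtype ≠ ⊥ := by
      intro h
      rw [Subgroup.map_eq_bot_iff_of_injective _ H.subtype_injective] at h
      exact hX h
    obtain ⟨s, hsX, hs⟩ := exists_invol_of_pgroup _ hX2 hXne
    have hXH : X.map H.subtype ≤ H := Subgroup.map_subtype_le _
    have h1 : g * s * g⁻¹ ∈ X.map H.subtype := (Subgroup.mem_normalizer_iff.mp hg s).mp hsX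
    have h2 : g⁻¹ ∈ H := by
      apply key hSE hs (hXH hsX)
      rw [inv_inv]; exact hXH h1
    simpa using H.inv_mem h2
  · intro hyp
    set P' : Subgroup G := (P : Subgroup H).map H.subtype with hP'
    have hP'syl : IsSylIn 2 P' H := isSylIn_of_sylow H P
    have hP'ne : P' ≠ ⊥ := by
      intro h
      rw [hP', Subgroup.map_eq_bot_iff_of_injective _ H.subtype_injective] at h
      exact hP h
    -- hypothesis for subgroups of G inside P'
    have hyp' : ∀ Y : Subgroup G, Y ≤ P' → Y ≠ ⊥ → Subgroup.normalizer (Y : Set G) ≤ H := by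
      intro Y hYP hY
      have hYH : Y ≤ H := hYP.trans hP'syl.le
      have e : (Y.subgroupOf H).map H.subtype = Y := Subgroup.map_subgroupOf_eq_of_le hYH
      have h1 : Y.subgroupOf H ≤ (P : Subgroup H) := by
        intro x hx
        rw [Subgroup.mem_subgroupOf] at hx
        obtain ⟨y, hy, hyx⟩ := hYP hx
        have : y = x := Subtype.ext hyx
        rw [← this]; exact hy
      have h2 : Y.subgroupOf H ≠ ⊥ := by
        intro h
        rw [h, Subgroup.map_bot] at e
        exact hY e.symm
      have := hyp _ h1 h2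
      rwa [e] at this
    -- normalizers of nontrivial 2-subgroups of H lie in H
    have hN : ∀ U : Subgroup G, IsPGroup 2 U → U ≤ H → U ≠ ⊥ →
        Subgroup.normalizer (U : Set G) ≤ H := by
      intro U hU hUH hUne
      obtain ⟨x, hxH, hle⟩ := hP'syl.exists_conj_le hU hUH
      have hne : MulAut.conj x • U ≠ ⊥ := by
        rw [Ne, conj_smul_eq_bot_iff]; exact hUne
      have h1 := hyp' _ hle hne
      rw [normalizer_conj_smul, conj_smul_le_iff_le_inv,
        conj_smul_eq_self_of_mem (H.inv_mem hxH)] at h1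
      exact h1
    obtain ⟨s0, hs0P, hs0⟩ := exists_invol_of_pgroup P' hP'syl.isPGroup hP'ne
    refine ⟨hH, even_card_of_mem H hs0 (hP'syl.le hs0P), ?_⟩
    intro g hg
    rw [← Nat.not_even_iff_odd]
    intro hev
    apply hg
    rw [map_conj_eq_smul] at hev
    set K : Subgroup G := H ⊓ MulAut.conj g • H with hK
    obtain ⟨U, hUK⟩ := exists_isSylIn (p := 2) K
    have hU2 := hUK.isPGroup
    have hUH : U ≤ H := hUK.le.trans inf_le_left
    have hUHg : U ≤ MulAut.conj g • H := hUK.le.trans inf_le_right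
    have hUne : U ≠ ⊥ := by
      intro h
      apply hUK.not_dvd
      rw [h, Subgroup.relIndex_bot_left]
      exact even_iff_two_dvd.mp hev
    have hNH : Subgroup.normalizer (U : Set G) ≤ H := hN U hU2 hUH hUne
    -- the conjugate g⁻¹ U g
    have hVH : MulAut.conj g⁻¹ • U ≤ H := by
      rw [conj_smul_le_iff_le_inv, inv_inv]; exact hUHg
    have hVne : MulAut.conj g⁻¹ • U ≠ ⊥ := by
      rw [Ne, conj_smul_eq_bot_iff]; exact hUne
    have hNHg : Subgroup.normalizer (U : Set G) ≤ MulAut.conj g • H := by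
      have h1 := hN _ (isPGroup_conj_smul hU2) hVH hVne
      rw [normalizer_conj_smul, conj_smul_le_iff_le_inv, inv_inv] at h1
      exact h1
    have hNK : Subgroup.normalizer (U : Set G) ≤ K := le_inf hNH hNHg
    -- U is a Sylow 2-subgroup of G
    obtain ⟨S, hS⟩ := hU2.exists_le_sylow
    have hUS : U = (S : Subgroup G) := by
      by_contra hne
      have hlt := IsSylIn.normalizer_growth S.isPGroup' hS hne
      have h1 : (S : Subgroup G) ⊓ Subgroup.normalizer (U : Set G) = U :=
        hUK.eq_of_le (S.isPGroup'.to_le inf_le_left) (inf_le_right.trans hNK) hlt.le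
      rw [h1] at hlt
      exact lt_irrefl _ hlt
    have hUtop : IsSylIn 2 U ⊤ := by rw [hUS]; exact isSylIn_top S
    have hUsylH : IsSylIn 2 U H := hUtop.of_le hUH le_top
    have hVtop : IsSylIn 2 (MulAut.conj g⁻¹ • U) ⊤ := by
      have := hUtop.conj g⁻¹
      rwa [conj_smul_top] at this
    have hVsylH : IsSylIn 2 (MulAut.conj g⁻¹ • U) H := hVtop.of_le hVH le_top
    obtain ⟨x, hxH, hx⟩ := hUsylH.exists_conj_eq hVsylH
    rw [← conj_mul_smul] at hx
    have hxg : x * g⁻¹ ∈ H := hNH (mem_normalizer_iff_smul_eq.mpr hx)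
    have : g⁻¹ ∈ H := by
      have := H.mul_mem (H.inv_mem hxH) hxg
      simpa using this
    simpa using H.inv_mem this

end Cfsg.Agent.S0214
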