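import Cfsg.Statements.S0216
import Mathlib
import Cfsg.Agent.Lib.Helper4.Isolated

set_option autoImplicit false
open Cfsg

namespace Cfsg.Agent.S0216

open Cfsg.Agent.Helper4

/-- For an involution u in a Sylow 2-subgroup P of a finite group G, the following are equivalent: no G-conjugate of u other than u lies in P; every commutator of u with an element of G has odd order. -/
theorem result {G : Type*} [Group G] [Finite G] (P : Sylow 2 G) (u : G) (hu : orderOf u = 2) (huP : u ∈ P) : (∀ g : G, g * u * g⁻¹ ∈ P → g * u * g⁻¹ = u) ↔ (∀ g : G, Odd (orderOf (u * g * u⁻¹ * g⁻¹))) := by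
  have hu' : u⁻¹ = u := inv_eq_self_of_orderOf_eq_two hu
  have hcomm : ∀ g : G, u * g * u⁻¹ * g⁻¹ = u * (g * u * g⁻¹) := by
    intro g; rw [hu']; group
  constructor
  · intro hiso g
    rw [hcomm]
    set v := g * u * g⁻¹ with hv
    have hvo : orderOf v = 2 := by
      rw [hv, ← hu]
      exact orderOf_conj_eq g u
    -- n = 2^a * m with m odd
    have hpos : 0 < orderOf (u * v) := orderOf_pos _
    obtain ⟨a, m, hm, hn⟩ := Nat.exists_eq_two_pow_mul_odd hpos.ne'
    obtain ⟨j, hj⟩ := hm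
    -- w = R^m * u is a conjugate of v, hence of u
    have hw : ((u * v) ^ ((j : ℤ) + 1) * g) * u * ((u * v) ^ ((j : ℤ) + 1) * g)⁻¹
        = (u * v) ^ (2 * (j : ℤ) + 1) * u := by
      have h1 := dih_zpow_conj_y hu hvo ((j : ℤ) + 1)
      have e : (2 * ((j : ℤ) + 1) - 1) = 2 * (j : ℤ) + 1 := by ring
      rw [e] at h1
      rw [← h1, hv]
      group
    have hwo : orderOf ((u * v) ^ (2 * (j : ℤ) + 1) * u) = 2 := by
      rw [← hw, ← hu]
      exact orderOf_conj_eq _ u
    -- closure {u, w} is a 2-group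
    have hp : IsPGroup 2 (Subgroup.closure ({u, (u * v) ^ (2 * (j : ℤ) + 1) * u} : Set G)) := by
      apply dih_isPGroup hu hwo a
      have e : u * ((u * v) ^ (2 * (j : ℤ) + 1) * u) = (u * v) ^ (-(2 * (j : ℤ) + 1)) := by
        rw [← mul_assoc, dih_x_mul_zpow hu hvo, mul_assoc, mul_self_of_orderOf_eq_two hu, mul_one]
      rw [e, ← zpow_natCast, ← zpow_mul]
      apply orderOf_dvd_iff_zpow_eq_one.mp
      rw [hn, hj]
      refine ⟨-1, ?_⟩
      push_cast
      ring
    rw [← hw] at hp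
    have h5 := isolated_eq_of_isPGroup P u hiso _ hp
    rw [hw] at h5
    have h6 : (u * v) ^ (2 * (j : ℤ) + 1) = 1 := by
      have := congrArg (fun t => t * u⁻¹) h5
      simpa using this
    have h7 : ((orderOf (u * v) : ℕ) : ℤ) ∣ 2 * (j : ℤ) + 1 := orderOf_dvd_iff_zpow_eq_one.mpr h6
    have h8 : orderOf (u * v) ∣ 2 * j + 1 := by
      have : (2 * (j : ℤ) + 1) = ((2 * j + 1 : ℕ) : ℤ) := by push_cast; ring
      rw [this] at h7
      exact Int.natCast_dvd_natCast.mp h7
    exact (odd_two_mul_add_one j).of_dvd_nat h8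
  · intro hodd g hg
    have h1 := hodd g
    rw [hcomm] at h1
    have hmem : u * (g * u * g⁻¹) ∈ P := Subgroup.mul_mem _ huP hg
    obtain ⟨k, hk⟩ := P.2 ⟨u * (g * u * g⁻¹), hmem⟩
    have hk' : (u * (g * u * g⁻¹)) ^ (2 ^ k) = 1 := by
      have := congrArg Subtype.val hk
      simpa using this
    have h2 : orderOf (u * (g * u * g⁻¹)) ∣ 2 ^ k := orderOf_dvd_of_pow_eq_one hk'
    obtain ⟨i, -, hi⟩ := (Nat.dvd_prime_pow Nat.prime_two).mp h2
    rw [hi] at h1
    have hi0 : i = 0 := by
      by_contra h0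
      have : Even (2 ^ i) := (Nat.even_pow' h0).mpr even_two
      exact (Nat.not_even_iff_odd.mpr h1) this
    rw [hi0, pow_zero, orderOf_eq_one_iff] at hi
    have := eq_inv_of_mul_eq_one_right hi
    rw [this, hu']

end Cfsg.Agent.S0216
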