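import Cfsg.Statements.S0223
import Mathlib
import Cfsg.Agent.Lib.Helper4.Isolated

set_option autoImplicit false
open Cfsg

namespace Cfsg.Agent.S0223

open Cfsg.Agent.Helper4

/-- an element of order two in a subgroup forces even order -/
theorem even_card_of_mem {G : Type*} [Group G] [Finite G] (K : Subgroup G) (s : G) (hs : orderOf s = 2)
    (hsK : s ∈ K) : Even (Nat.card K) := by
  rw [even_iff_two_dvd]
  have h : orderOf (⟨s, hsK⟩ : K) = 2 := by rw [Subgroup.orderOf_mk, hs]
  rw [← h]
  exact orderOf_dvd_natCard _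

/-- a subgroup of even order contains an involution -/
theorem exists_invol_of_even {G : Type*} [Group G] [Finite G] (K : Subgroup G) (h : Even (Nat.card K)) :
    ∃ s : G, s ∈ K ∧ orderOf s = 2 := by
  obtain ⟨s, hs⟩ := exists_prime_orderOf_dvd_card' (G := K) 2 (even_iff_two_dvd.mp h)
  exact ⟨s.1, s.2, by rw [Subgroup.orderOf_coe, hs]⟩

theorem mem_conj_map {G : Type*} [Group G] (H : Subgroup G) (g a : G) :
    a ∈ H.map (MulAut.conj g).toMonoidHom ↔ g⁻¹ * a * g ∈ H := by
  constructor
  · rintro ⟨b, hb, rfl⟩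
    simp only [MulEquiv.coe_toMonoidHom, MulAut.conj_apply]
    have : g⁻¹ * (g * b * g⁻¹) * g = b := by group
    rw [this]; exact hb
  · intro h
    refine ⟨g⁻¹ * a * g, h, ?_⟩
    simp only [MulEquiv.coe_toMonoidHom, MulAut.conj_apply]
    group

/-- Let H be a proper subgroup of even order of the finite group G. Then H is strongly embedded if and only if (i) C_G(t) ≤ H for every involution t of H and (ii) H controls fusion of its involutions: involutions of H conjugate in G are conjugate in H. -/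
theorem result {G : Type*} [Group G] [Finite G] (H : Subgroup G) (hH : H ≠ ⊤) (heven : Even (Nat.card H)) : Cfsg.IsStronglyEmbedded H ↔ ((∀ t ∈ H, orderOf t = 2 → Subgroup.centralizer ({t} : Set G) ≤ H) ∧ (∀ t ∈ H, ∀ s ∈ H, orderOf t = 2 → orderOf s = 2 → IsConj t s → ∃ h ∈ H, h * t * h⁻¹ = s)) := by
  constructor
  · rintro ⟨-, -, hSE⟩
    have key : ∀ g : G, ∀ s : G, orderOf s = 2 → s ∈ H → g⁻¹ * s * g ∈ H → g ∈ H := by
      intro g s hs hsH hsg
      by_contra hg
      have hodd := hSE g hg
      have hmem : s ∈ H ⊓ H.map (MulAut.conj g).toMonoidHom :=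
        ⟨hsH, (mem_conj_map H g s).mpr hsg⟩
      exact (Nat.not_even_iff_odd.mpr hodd) (even_card_of_mem _ s hs hmem)
    constructor
    · intro t htH hto c hc
      have hct := Subgroup.mem_centralizer_singleton_iff.mp hc
      apply key c t hto htH
      have : c⁻¹ * t * c = t := by
        calc c⁻¹ * t * c = c⁻¹ * (t * c) := by group
          _ = c⁻¹ * (c * t) := by rw [hct]
          _ = t := by group
      rw [this]; exact htH
    · intro t htH s hsH hto hso hconj
      obtain ⟨g, hg⟩ := isConj_iff.mp hconj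
      refine ⟨g, ?_, hg⟩
      apply key g s hso hsH
      rw [← hg]
      have : g⁻¹ * (g * t * g⁻¹) * g = t := by group
      rw [this]; exact htH
  · rintro ⟨hC, hF⟩
    refine ⟨hH, heven, ?_⟩
    intro g hg
    rw [← Nat.not_even_iff_odd]
    intro hev
    obtain ⟨s, hsmem, hso⟩ := exists_invol_of_even _ hev
    have hsH : s ∈ H := hsmem.1
    have htH : g⁻¹ * s * g ∈ H := (mem_conj_map H g s).mp hsmem.2
    have hto : orderOf (g⁻¹ * s * g) = 2 := by
      have := orderOf_conj_eq g⁻¹ s
      rw [inv_inv] at this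
      rw [this, hso]
    have hconj : IsConj (g⁻¹ * s * g) s := isConj_iff.mpr ⟨g, by group⟩
    obtain ⟨h, hhH, hh⟩ := hF _ htH s hsH hto hso hconj
    -- g⁻¹ * h centralizes t... use c = h⁻¹ * g ∈ C(t)
    have hc : g⁻¹ * h⁻¹⁻¹ ∈ Subgroup.centralizer ({g⁻¹ * s * g} : Set G) := by
      rw [Subgroup.mem_centralizer_singleton_iff, inv_inv]
      have e : s = h * (g⁻¹ * s * g) * h⁻¹ := hh.symm
      calc g⁻¹ * h * (g⁻¹ * s * g) = g⁻¹ * (h * (g⁻¹ * s * g) * h⁻¹) * h := by group
        _ = g⁻¹ * s * h := by rw [← e]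
        _ = g⁻¹ * s * g * (g⁻¹ * h) := by group
    have h1 := hC _ htH hto hc
    rw [inv_inv] at h1
    have h2 : g⁻¹ ∈ H := by
      have := H.mul_mem h1 (H.inv_mem hhH)
      simpa using this
    exact hg (by simpa using H.inv_mem h2)

end Cfsg.Agent.S0223
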