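import Cfsg.Statements.S0224
import Mathlib
import Cfsg.Agent.S0223

set_option autoImplicit false
open Cfsg

namespace Cfsg.Agent.S0224

open Cfsg.Agent.S0223

theorem smul_mk_eq_iff {G : Type*} [Group G] (H : Subgroup G) (t g : G) :
    t • (QuotientGroup.mk g : G ⧸ H) = QuotientGroup.mk g ↔ g⁻¹ * t * g ∈ H := by
  rw [MulAction.Quotient.smul_mk, eq_comm, QuotientGroup.eq]
  constructor
  · intro h
    have : g⁻¹ * t * g = g⁻¹ * t • g := by simp [mul_assoc]
    rw [this]; exact h
  · intro h
    have : g⁻¹ * t • g = g⁻¹ * t * g := by simp [mul_assoc]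
    rw [this]; exact h

/-- Let H be a proper subgroup of even order of the finite group G. Then H is strongly embedded if and only if each involution of H fixes exactly one point (namely the coset H) in the action of G on the cosets of H. -/
theorem result {G : Type*} [Group G] [Finite G] (H : Subgroup G) (hH : H ≠ ⊤) (heven : Even (Nat.card H)) : Cfsg.IsStronglyEmbedded H ↔ ∀ t ∈ H, orderOf t = 2 → Nat.card {c : G ⧸ H // t • c = c} = 1 := by
  constructor
  · rintro ⟨-, -, hSE⟩ t htH hto
    have hfix1 : t • (QuotientGroup.mk 1 : G ⧸ H) = QuotientGroup.mk 1 := by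
      rw [smul_mk_eq_iff]; simpa using htH
    haveI : Unique {c : G ⧸ H // t • c = c} :=
      { default := ⟨QuotientGroup.mk 1, hfix1⟩
        uniq := by
          rintro ⟨c, hc⟩
          apply Subtype.ext
          induction c using QuotientGroup.induction_on with
          | H g =>
            show (QuotientGroup.mk g : G ⧸ H) = QuotientGroup.mk 1
            rw [smul_mk_eq_iff] at hc
            rw [QuotientGroup.eq]
            by_contra hg
            have hgH : g ∉ H := by
              intro h
              apply hg
              simpa using H.inv_mem h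
            have hodd := hSE g hgH
            have hmem : t ∈ H ⊓ H.map (MulAut.conj g).toMonoidHom :=
              ⟨htH, (mem_conj_map H g t).mpr hc⟩
            exact (Nat.not_even_iff_odd.mpr hodd) (even_card_of_mem _ t hto hmem) }
    exact Nat.card_unique
  · intro hfix
    refine ⟨hH, heven, ?_⟩
    intro g hg
    rw [← Nat.not_even_iff_odd]
    intro hev
    obtain ⟨s, hsmem, hso⟩ := exists_invol_of_even _ hev
    have hsH : s ∈ H := hsmem.1
    have h1 := hfix s hsH hso
    have hfix1 : s • (QuotientGroup.mk 1 : G ⧸ H) = QuotientGroup.mk 1 := by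
      rw [smul_mk_eq_iff]; simpa using hsH
    have hfixg : s • (QuotientGroup.mk g : G ⧸ H) = QuotientGroup.mk g := by
      rw [smul_mk_eq_iff]; exact (mem_conj_map H g s).mp hsmem.2
    rw [Nat.card_eq_one_iff_unique] at h1
    obtain ⟨hsub, -⟩ := h1
    have := @Subsingleton.elim _ hsub (⟨QuotientGroup.mk 1, hfix1⟩ : {c : G ⧸ H // s • c = c})
      ⟨QuotientGroup.mk g, hfixg⟩
    have h2 : (QuotientGroup.mk 1 : G ⧸ H) = QuotientGroup.mk g := congrArg Subtype.val this
    rw [QuotientGroup.eq] at h2
    apply hg
    simpa using h2

end Cfsg.Agent.S0224
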