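import Cfsg.Statements.S0229
import Mathlib
import Cfsg.Agent.Lib.Helper4.Isolated
import Cfsg.Agent.S0208
import Cfsg.Agent.S0209
import Cfsg.Agent.S0211

set_option autoImplicit false
open Cfsg

namespace Cfsg.Agent.S0229

open Cfsg.Agent.Helper4

/-- Let t be an involution of a Sylow 2-subgroup S of a finite group G, conjugate in G to no other element of S, and let s be an involution of G not conjugate to t. Then the order of st is twice an odd number. -/
theorem result {G : Type*} [Group G] [Finite G] (S : Sylow 2 G) (t : G) (ht : orderOf t = 2) (htS : t ∈ S) (hiso : ∀ g : G, g * t * g⁻¹ ∈ S → g * t * g⁻¹ = t) (s : G) (hs : orderOf s = 2) (hns : ¬ IsConj s t) : orderOf (s * t) % 4 = 2 := by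
  have hs' : s⁻¹ = s := inv_eq_self_of_orderOf_eq_two hs
  have ht' : t⁻¹ = t := inv_eq_self_of_orderOf_eq_two ht
  have hord : orderOf (t * s) = orderOf (s * t) := by
    have : t * s = (s * t)⁻¹ := by rw [mul_inv_rev, hs', ht']
    rw [this, orderOf_inv]
  have heven : Even (orderOf (s * t)) := by
    by_contra hne
    rw [Nat.not_even_iff_odd] at hne
    obtain ⟨d, -, hd⟩ := Cfsg.Agent.S0208.result s t hs ht hne
    exact hns (isConj_iff.mpr ⟨d, hd⟩)
  have h4 : ¬ 4 ∣ orderOf (s * t) := by
    intro h4
    have heven' : Even (orderOf (t * s)) := hord ▸ heven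
    obtain ⟨d, -, hd⟩ := (Cfsg.Agent.S0211.result t s ht hs heven').mpr (hord ▸ h4)
    obtain ⟨hz, hzt, -⟩ := Cfsg.Agent.S0209.result t s ht hs heven'
    set z := (t * s) ^ (orderOf (t * s) / 2) with hzdef
    have hp : IsPGroup 2 (Subgroup.closure ({t, d * t * d⁻¹} : Set G)) := by
      have hwo : orderOf (d * t * d⁻¹) = 2 := by rw [orderOf_conj_eq, ht]
      apply dih_isPGroup ht hwo 1
      rw [hd, ← mul_assoc, mul_self_of_orderOf_eq_two ht, one_mul, pow_one]
      exact sq_eq_one_of_orderOf_eq_two hz
    have h5 := isolated_eq_of_isPGroup S t hiso d hp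
    rw [hd] at h5
    have : z = 1 := by
      have := congrArg (fun a => t⁻¹ * a) h5
      simpa using this
    exact ne_one_of_orderOf_eq_two hz this
  obtain ⟨m, hm⟩ := heven
  omega

end Cfsg.Agent.S0229
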