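import Cfsg.Statements.S0230
import Mathlib
import Cfsg.Agent.Lib.Helper4.Isolated
import Cfsg.Agent.Lib.Helper3.CharOrtho
import Cfsg.Agent.S0208
import Cfsg.Agent.S0209

set_option autoImplicit false
open Cfsg

namespace Cfsg.Agent.S0230

open Cfsg.Agent.Helper4

theorem card_centralizer_eq_filter {G : Type*} [Group G] [Fintype G] (z : G)
    [DecidablePred (fun g : G => g * z = z * g)] :
    Nat.card (Subgroup.centralizer ({z} : Set G)) =
      (Finset.univ.filter (fun g : G => g * z = z * g)).card := by
  rw [← Fintype.card_subtype, ← Nat.card_eq_fintype_card]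
  exact Nat.card_congr (Equiv.subtypeEquivRight (fun g => Subgroup.mem_centralizer_singleton_iff))

/-- Let G be a finite group with two non-conjugate involutions, and let t be an involution whose centralizer has maximal order among centralizers of involutions. Then |G| < |C_G(t)|^3. -/
theorem result {G : Type*} [Group G] [Finite G] (s t : G) (hs : orderOf s = 2) (ht : orderOf t = 2) (hnc : ¬ IsConj s t) (hmax : ∀ u : G, orderOf u = 2 → Nat.card (Subgroup.centralizer ({u} : Set G)) ≤ Nat.card (Subgroup.centralizer ({t} : Set G))) : Nat.card G < Nat.card (Subgroup.centralizer ({t} : Set G)) ^ 3 := by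
  classical
  haveI : Fintype G := Fintype.ofFinite G
  set c := Nat.card (Subgroup.centralizer ({t} : Set G)) with hc
  have hcpos : 0 < c := Nat.card_pos
  -- the sets
  set I : Finset G := Finset.univ.filter (fun z : G => orderOf z = 2 ∧ z * t = t * z) with hI
  set S : Finset G := Finset.univ.filter (fun x : G => IsConj s x) with hS
  have hsub : S ⊆ I.biUnion (fun z => Finset.univ.filter (fun g : G => g * z = z * g)) := by
    intro x hx
    rw [hS, Finset.mem_filter] at hx
    obtain ⟨d, hd⟩ := isConj_iff.mp hx.2
    have hxo : orderOf x = 2 := by rw [← hd, orderOf_conj_eq, hs]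
    have hxt : ¬ IsConj x t := fun h => hnc (hx.2.trans h)
    have heven : Even (orderOf (x * t)) := by
      by_contra hne
      rw [Nat.not_even_iff_odd] at hne
      obtain ⟨e, -, he⟩ := Cfsg.Agent.S0208.result x t hxo ht hne
      exact hxt (isConj_iff.mpr ⟨e, he⟩)
    obtain ⟨hz, hzx, hzt⟩ := Cfsg.Agent.S0209.result x t hxo ht heven
    rw [Finset.mem_biUnion]
    refine ⟨(x * t) ^ (orderOf (x * t) / 2), ?_, ?_⟩
    · rw [hI, Finset.mem_filter]
      exact ⟨Finset.mem_univ _, hz, hzt.eq⟩
    · rw [Finset.mem_filter]
      exact ⟨Finset.mem_univ _, hzx.eq.symm⟩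
  have hIle : I.card ≤ c - 1 := by
    have h1 : I ⊆ (Finset.univ.filter (fun g : G => g * t = t * g)).erase 1 := by
      intro z hz
      rw [hI, Finset.mem_filter] at hz
      rw [Finset.mem_erase, Finset.mem_filter]
      exact ⟨ne_one_of_orderOf_eq_two hz.2.1, Finset.mem_univ _, hz.2.2⟩
    have h2 := Finset.card_le_card h1
    rw [Finset.card_erase_of_mem (by simp), ← card_centralizer_eq_filter] at h2
    exact h2
  have hSle : S.card ≤ (c - 1) * c := by
    calc S.card ≤ (I.biUnion (fun z => Finset.univ.filter (fun g : G => g * z = z * g))).card :=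
          Finset.card_le_card hsub
      _ ≤ ∑ z ∈ I, (Finset.univ.filter (fun g : G => g * z = z * g)).card := Finset.card_biUnion_le
      _ ≤ ∑ _z ∈ I, c := by
          apply Finset.sum_le_sum
          intro z hz
          rw [hI, Finset.mem_filter] at hz
          rw [← card_centralizer_eq_filter]
          exact hmax z hz.2.1
      _ = I.card * c := by rw [Finset.sum_const, smul_eq_mul]
      _ ≤ (c - 1) * c := Nat.mul_le_mul_right _ hIle
  have hG : Nat.card {x : G // IsConj s x} * Nat.card (Subgroup.centralizer ({s} : Set G)) =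
      Nat.card G := Cfsg.Agent.Helper3.card_conj_mul_card_centralizer s
  have hScard : Nat.card {x : G // IsConj s x} = S.card := by
    rw [Nat.card_eq_fintype_card, Fintype.card_subtype]
  rw [hScard] at hG
  have hCs : Nat.card (Subgroup.centralizer ({s} : Set G)) ≤ c := hmax s hs
  calc Nat.card G = S.card * Nat.card (Subgroup.centralizer ({s} : Set G)) := hG.symm
    _ ≤ (c - 1) * c * c := Nat.mul_le_mul hSle hCs
    _ < c ^ 3 := by
      have h1 : c - 1 < c := by omega
      have h2 : 0 < c * c := Nat.mul_pos hcpos hcpos
      calc (c - 1) * c * c = (c - 1) * (c * c) := by ring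
        _ < c * (c * c) := Nat.mul_lt_mul_of_pos_right h1 h2
        _ = c ^ 3 := by ring

end Cfsg.Agent.S0230
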