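import Cfsg.Statements.S0231
import Mathlib
import Cfsg.Agent.Lib.Helper4.Isolated
import Cfsg.Agent.S0208
import Cfsg.Agent.S0209

set_option autoImplicit false
open Cfsg
open scoped Pointwise

namespace Cfsg.Agent.S0231

open Cfsg.Agent.Helper4

theorem mem_conj_smul {G : Type*} [Group G] (H : Subgroup G) (g x : G) :
    x ∈ MulAut.conj g • H ↔ g⁻¹ * x * g ∈ H := by
  rw [Subgroup.mem_pointwise_smul_iff_inv_smul_mem]
  simp [MulAut.smul_def]

section
variable {G : Type*} [Group G] [Finite G] (T : Sylow 2 G)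
  (hTI : ∀ g : G, MulAut.conj g • (T : Subgroup G) ≠ T → MulAut.conj g • (T : Subgroup G) ⊓ T = ⊥)
include hTI

/-- distinct Sylow 2-subgroups intersect trivially -/
theorem sylow_inf_eq_bot (Q₁ Q₂ : Sylow 2 G) (x : G) (h1 : x ∈ Q₁) (h2 : x ∈ Q₂) (hx : x ≠ 1) :
    Q₁ = Q₂ := by
  obtain ⟨a, ha⟩ := MulAction.exists_smul_eq G T Q₁
  obtain ⟨b, hb⟩ := MulAction.exists_smul_eq G T Q₂
  by_contra hne
  have hneq : MulAut.conj (a⁻¹ * b) • (T : Subgroup G) ≠ T := by
    intro h
    apply hne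
    rw [← ha, ← hb]
    have h' : (a⁻¹ * b) • T = T := Sylow.ext (by rw [Sylow.coe_subgroup_smul]; exact h)
    calc a • T = a • ((a⁻¹ * b) • T) := by rw [h']
      _ = b • T := by rw [smul_smul, mul_inv_cancel_left]
  have hbot := hTI _ hneq
  have hxa : a⁻¹ * x * a ∈ (T : Subgroup G) := by
    have : x ∈ ((a • T : Sylow 2 G) : Subgroup G) := by rw [ha]; exact h1
    rwa [Sylow.coe_subgroup_smul, mem_conj_smul] at this
  have hxb : b⁻¹ * x * b ∈ (T : Subgroup G) := by
    have : x ∈ ((b • T : Sylow 2 G) : Subgroup G) := by rw [hb]; exact h2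
    rwa [Sylow.coe_subgroup_smul, mem_conj_smul] at this
  have hmem : a⁻¹ * x * a ∈ MulAut.conj (a⁻¹ * b) • (T : Subgroup G) ⊓ T := by
    refine Subgroup.mem_inf.mpr ⟨?_, hxa⟩
    rw [mem_conj_smul]
    have : (a⁻¹ * b)⁻¹ * (a⁻¹ * x * a) * (a⁻¹ * b) = b⁻¹ * x * b := by group
    rw [this]; exact hxb
  rw [hbot, Subgroup.mem_bot] at hmem
  apply hx
  calc x = a * (a⁻¹ * x * a) * a⁻¹ := by group
    _ = 1 := by rw [hmem]; group

/-- non-conjugate involutions lie in a common Sylow 2-subgroup -/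
theorem common_sylow (a b : G) (ha : orderOf a = 2) (hb : orderOf b = 2) (hnc : ¬ IsConj a b) :
    ∃ Q : Sylow 2 G, a ∈ Q ∧ b ∈ Q := by
  have heven : Even (orderOf (a * b)) := by
    by_contra hne
    rw [Nat.not_even_iff_odd] at hne
    obtain ⟨e, -, he⟩ := Cfsg.Agent.S0208.result a b ha hb hne
    exact hnc (isConj_iff.mpr ⟨e, he⟩)
  obtain ⟨hz, hza, hzb⟩ := Cfsg.Agent.S0209.result a b ha hb heven
  set z := (a * b) ^ (orderOf (a * b) / 2) with hzdef
  have hcomm : ∀ u : G, orderOf u = 2 → Commute z u →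
      ∃ Q : Sylow 2 G, z ∈ Q ∧ u ∈ Q := by
    intro u hu hzu
    have hp : IsPGroup 2 (Subgroup.closure ({z, u} : Set G)) := by
      apply dih_isPGroup hz hu 1
      rw [pow_one, pow_two]
      calc z * u * (z * u) = z * (u * z) * u := by group
        _ = z * (z * u) * u := by rw [hzu.eq]
        _ = (z * z) * (u * u) := by group
        _ = 1 := by rw [mul_self_of_orderOf_eq_two hz, mul_self_of_orderOf_eq_two hu, one_mul]
    obtain ⟨Q, hQ⟩ := hp.exists_le_sylow
    exact ⟨Q, hQ (Subgroup.subset_closure (by simp)), hQ (Subgroup.subset_closure (by simp))⟩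
  obtain ⟨Q₁, hz1, ha1⟩ := hcomm a ha hza
  obtain ⟨Q₂, hz2, hb2⟩ := hcomm b hb hzb
  have hQ : Q₁ = Q₂ := sylow_inf_eq_bot T hTI Q₁ Q₂ z hz1 hz2 (ne_one_of_orderOf_eq_two hz)
  exact ⟨Q₁, ha1, hQ ▸ hb2⟩

end

/-- Let T be a Sylow 2-subgroup of the finite group G which is not normal and which intersects every other Sylow 2-subgroup trivially. Then G has a single conjugacy class of involutions. -/
theorem result {G : Type*} [Group G] [Finite G] (T : Sylow 2 G) (hnn : ¬ (T : Subgroup G).Normal) (hTI : ∀ g : G, MulAut.conj g • (T : Subgroup G) ≠ T → MulAut.conj g • (T : Subgroup G) ⊓ T = ⊥) (s t : G) (hs : orderOf s = 2) (ht : orderOf t = 2) : IsConj s t := by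
  by_contra hnc
  obtain ⟨Q, hsQ, htQ⟩ := common_sylow T hTI s t hs ht hnc
  -- another Sylow subgroup
  have hex : ∃ Q' : Sylow 2 G, Q' ≠ Q := by
    by_contra hall
    push Not at hall
    apply hnn
    rw [← Subgroup.normalizer_eq_top_iff, eq_top_iff]
    intro g _
    have hgT : g • T = T := by rw [hall (g • T), hall T]
    exact Sylow.smul_eq_iff_mem_normalizer.mp hgT
  obtain ⟨Q', hQ'⟩ := hex
  -- an involution in Q'
  have h2 : 2 ∣ Nat.card (Q' : Subgroup G) := by
    apply Q'.dvd_card_of_dvd_card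
    rw [← hs]; exact orderOf_dvd_natCard s
  obtain ⟨u, hu⟩ := exists_prime_orderOf_dvd_card' (G := (Q' : Subgroup G)) 2 h2
  have huo : orderOf (u : G) = 2 := by rw [Subgroup.orderOf_coe, hu]
  have huQ : (u : G) ∉ Q := by
    intro h
    exact hQ' (sylow_inf_eq_bot T hTI Q' Q u u.2 h (ne_one_of_orderOf_eq_two huo))
  have hsu : IsConj s u := by
    by_contra h
    obtain ⟨Q₁, h1, h2⟩ := common_sylow T hTI s u hs huo h
    have : Q₁ = Q := sylow_inf_eq_bot T hTI Q₁ Q s h1 hsQ (ne_one_of_orderOf_eq_two hs)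
    exact huQ (this ▸ h2)
  have htu : IsConj t u := by
    by_contra h
    obtain ⟨Q₁, h1, h2⟩ := common_sylow T hTI t u ht huo h
    have : Q₁ = Q := sylow_inf_eq_bot T hTI Q₁ Q t h1 htQ (ne_one_of_orderOf_eq_two ht)
    exact huQ (this ▸ h2)
  exact hnc (hsu.trans htu.symm)

end Cfsg.Agent.S0231
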