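import Cfsg.Statements.S0232
import Cfsg.Agent.Lib.Helper34.BrauerFowler2
import Cfsg.Agent.S0233

set_option autoImplicit false
open Cfsg

namespace Cfsg.Agent.S0232

open Cfsg.Agent.Helper34.BF

/-- The arithmetic core of the Brauer–Fowler bound. -/
theorem arith (g m idx h c : ℕ) (hg : 0 < g) (h1 : h * idx = g) (h2 : h ^ 3 ≤ g) (h3 : c ^ 3 ≤ g)
    (h4 : g ≤ c * m) (h5 : 2 * idx * m ^ 2 < g * (g + m)) (h6 : m + 1 ≤ g) : False := by
  -- (i) `g² ≤ idx³`
  have e1 : g ^ 2 ≤ idx ^ 3 := by
    have : g * g ^ 2 ≤ g * idx ^ 3 := by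
      calc g * g ^ 2 = (h * idx) ^ 3 := by rw [h1]; ring
        _ = h ^ 3 * idx ^ 3 := by ring
        _ ≤ g * idx ^ 3 := Nat.mul_le_mul_right _ h2
    exact Nat.le_of_mul_le_mul_left this hg
  -- (ii) `g² ≤ m³`
  have e2 : g ^ 2 ≤ m ^ 3 := by
    have : g * g ^ 2 ≤ g * m ^ 3 := by
      calc g * g ^ 2 = g ^ 3 := by ring
        _ ≤ (c * m) ^ 3 := Nat.pow_le_pow_left h4 3
        _ = c ^ 3 * m ^ 3 := by ring
        _ ≤ g * m ^ 3 := Nat.mul_le_mul_right _ h3
    exact Nat.le_of_mul_le_mul_left this hg
  -- (iii)
  have e3 : 8 * g ^ 6 ≤ (2 * idx * m ^ 2) ^ 3 := by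
    calc 8 * g ^ 6 = 8 * (g ^ 2 * (g ^ 2 * g ^ 2)) := by ring
      _ ≤ 8 * (idx ^ 3 * (m ^ 3 * m ^ 3)) :=
        Nat.mul_le_mul_left _ (Nat.mul_le_mul e1 (Nat.mul_le_mul e2 e2))
      _ = (2 * idx * m ^ 2) ^ 3 := by ring
  -- (iv)
  have e4 : g * (g + m) < 2 * g ^ 2 := by nlinarith
  have e5 : (g * (g + m)) ^ 3 < (2 * g ^ 2) ^ 3 := Nat.pow_lt_pow_left e4 (by norm_num)
  have e6 : (2 * idx * m ^ 2) ^ 3 < (g * (g + m)) ^ 3 := Nat.pow_lt_pow_left h5 (by norm_num)
  have e7 : (2 * g ^ 2) ^ 3 = 8 * g ^ 6 := by ring
  omega

theorem main.{u} : ∀ n : ℕ, ∀ (G : Type u) [Group G] [Finite G], Nat.card G = n → Even n → 2 < n →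
    ∃ H : Subgroup G, H ≠ ⊤ ∧ n < Nat.card H ^ 3 := by
  intro n
  induction n using Nat.strong_induction_on with
  | _ n ih =>
  intro G _ _ hcard heven hgt
  classical
  haveI : Fintype G := Fintype.ofFinite G
  have heven' : Even (Nat.card G) := by rw [hcard]; exact heven
  rcases Nat.even_or_odd (Nat.card (Subgroup.center G)) with hZ | hZ
  · -- centre of even order: pass to the quotient by a central involution
    haveI : Fact (Nat.Prime 2) := ⟨Nat.prime_two⟩
    obtain ⟨z, hz⟩ := exists_prime_orderOf_dvd_card' (G := Subgroup.center G) 2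
      (even_iff_two_dvd.mp hZ)
    have hz₀ : orderOf (z : G) = 2 := by rw [← hz]; exact Subgroup.orderOf_coe z
    set N := Subgroup.zpowers (z : G) with hN
    have hNle : N ≤ Subgroup.center G := by
      rw [hN, Subgroup.zpowers_le]; exact z.2
    haveI hNn : N.Normal := by
      constructor
      intro x hx y
      have hxc := Subgroup.mem_center_iff.mp (hNle hx) y
      have : y * x * y⁻¹ = x := by
        calc y * x * y⁻¹ = x * y * y⁻¹ := by rw [hxc]
          _ = x := by group
      rw [this]; exact hx
    have hNcard : Nat.card N = 2 := by rw [hN, Nat.card_zpowers, hz₀]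
    have hidx : 2 * N.index = n := by
      have := N.card_mul_index
      rw [hNcard, hcard] at this
      exact this
    set q := N.index with hq
    rcases Nat.even_or_odd q with hqe | hqo
    · by_cases hq2 : q = 2
      · refine ⟨N, ?_, ?_⟩
        · intro htop
          rw [htop, Subgroup.card_top, hcard] at hNcard
          omega
        · rw [hNcard]; omega
      · have hqgt : 2 < q := by
          rcases hqe with ⟨k, hk⟩
          omega
        have hqlt : q < n := by omega
        obtain ⟨Hbar, hHbar, hlt⟩ := ih q hqlt (G ⧸ N) rfl hqe hqgt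
        set H := Hbar.comap (QuotientGroup.mk' N) with hH
        have hHidx : H.index = Hbar.index :=
          Subgroup.index_comap_of_surjective Hbar (QuotientGroup.mk'_surjective N)
        have h1 : Nat.card H * H.index = n := by rw [← hcard]; exact H.card_mul_index
        have h2 : Nat.card Hbar * Hbar.index = q := Hbar.card_mul_index
        have hipos : 0 < Hbar.index := Nat.pos_of_ne_zero Subgroup.index_ne_zero_of_finite
        have h3 : Nat.card H = 2 * Nat.card Hbar := by
          have : Hbar.index * Nat.card H = Hbar.index * (2 * Nat.card Hbar) := by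
            calc Hbar.index * Nat.card H = Nat.card H * H.index := by rw [hHidx]; ring
              _ = n := h1
              _ = 2 * q := hidx.symm
              _ = 2 * (Nat.card Hbar * Hbar.index) := by rw [h2]
              _ = Hbar.index * (2 * Nat.card Hbar) := by ring
          exact Nat.eq_of_mul_eq_mul_left hipos this
        refine ⟨H, ?_, ?_⟩
        · intro htop
          apply hHbar
          rw [← Subgroup.index_eq_one, ← hHidx, htop, Subgroup.index_top]
        · rw [h3]
          have : (2 * Nat.card Hbar) ^ 3 = 8 * Nat.card Hbar ^ 3 := by ring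
          rw [this]
          omega
    · -- `|G| = 2 * odd`: Schur–Zassenhaus complement
      have hcop : Nat.Coprime (Nat.card N) N.index := by
        rw [hNcard]
        exact Nat.coprime_two_left.mpr hqo
      obtain ⟨K, hK⟩ := Subgroup.exists_right_complement'_of_coprime hcop
      have hKcard : 2 * Nat.card K = n := by
        have := hK.card_mul_card
        rw [hNcard, hcard] at this
        exact this
      have hKq : Nat.card K = q := by omega
      have hq3 : 3 ≤ q := by
        rcases hqo with ⟨k, hk⟩
        omega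
      refine ⟨K, ?_, ?_⟩
      · intro htop
        rw [htop, Subgroup.card_top, hcard] at hKq
        omega
      · rw [hKq]
        have h9 : 9 ≤ q * q := Nat.mul_le_mul hq3 hq3
        calc n = 2 * q := hidx.symm
          _ < 9 * q := by omega
          _ ≤ (q * q) * q := Nat.mul_le_mul_right _ h9
          _ = q ^ 3 := by ring
  · -- centre of odd order
    obtain ⟨H, hH, hidx⟩ := Cfsg.Agent.S0233.result heven' hZ
    rcases hidx with h2 | h2
    · refine ⟨H, hH, ?_⟩
      have h1 : Nat.card H * 2 = n := by rw [← h2, ← hcard]; exact H.card_mul_index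
      have h3 : 2 ≤ Nat.card H := by omega
      have h4 : 4 ≤ Nat.card H * Nat.card H := Nat.mul_le_mul h3 h3
      calc n = Nat.card H * 2 := h1.symm
        _ < 4 * Nat.card H := by omega
        _ ≤ (Nat.card H * Nat.card H) * Nat.card H := Nat.mul_le_mul_right _ h4
        _ = Nat.card H ^ 3 := by ring
    · by_contra hno
      push_neg at hno
      rw [natCard_invs'] at h2
      have hm1 : 1 ≤ (invs G).card := Cfsg.Agent.S0233.one_le_card_invs heven'
      obtain ⟨t, ht⟩ := Finset.card_pos.mp hm1
      have ht2 : orderOf t = 2 := mem_invs.mp ht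
      have htZ := Cfsg.Agent.S0233.not_mem_center_of_odd hZ t ht2
      have hCne : Subgroup.centralizer ({t} : Set G) ≠ ⊤ := by
        intro htop
        apply htZ
        rw [Subgroup.mem_center_iff]
        intro x
        have : x ∈ Subgroup.centralizer ({t} : Set G) := by rw [htop]; exact Subgroup.mem_top x
        rw [Subgroup.mem_centralizer_singleton_iff] at this
        exact this
      have h4 : Nat.card G ≤ Nat.card (Subgroup.centralizer ({t} : Set G)) * (invs G).card := by
        rw [Nat.card_eq_fintype_card]
        exact card_le_card_centralizer_mul_card_invs ht2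
      have h6 : (invs G).card + 1 ≤ Nat.card G := by
        have h1 : (1 : G) ∉ invs G := by rw [mem_invs]; simp
        have : (insert 1 (invs G)).card ≤ Fintype.card G := Finset.card_le_univ _
        rw [Finset.card_insert_of_notMem h1] at this
        rw [Nat.card_eq_fintype_card]
        exact this
      rw [hcard] at h2 h4 h6
      exact arith n (invs G).card H.index (Nat.card H) _ (by omega)
        (by rw [← hcard]; exact H.card_mul_index) (hno H hH) (hno _ hCne) h4 h2 h6

/-- Brauer–Fowler: a group of even order greater than 2 has a proper subgroup of order greater than the cube root of the group order. -/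
theorem result {G : Type*} [Group G] [Finite G] (heven : Even (Nat.card G)) (hgt : 2 < Nat.card G) : ∃ H : Subgroup G, H ≠ ⊤ ∧ Nat.card G < (Nat.card H) ^ 3 :=
  main (Nat.card G) G rfl heven hgt

end Cfsg.Agent.S0232
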