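import Cfsg.Statements.S0234
import Mathlib
import Cfsg.Agent.Lib.Helper34.BrauerFowler

set_option autoImplicit false
open Cfsg

namespace Cfsg.Agent.S0234

open Cfsg.Agent.Helper34.BF

set_option maxRecDepth 100000 in
/-- the alternating group on five letters has 15 involutions -/
theorem a5_invol_count : (Finset.univ.filter (fun σ : Equiv.Perm (Fin 5) =>
    σ * σ = 1 ∧ σ ≠ 1 ∧ Equiv.Perm.sign σ = 1)).card = 15 := by
  decide +kernel

section
variable {G : Type*} [Group G] [Finite G] [IsSimpleGroup G]
  (heven : Even (Nat.card G)) (hgt : 2 < Nat.card G)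
include heven hgt

theorem exists_invol : ∃ t : G, orderOf t = 2 := by
  haveI : Fact (Nat.Prime 2) := ⟨Nat.prime_two⟩
  exact exists_prime_orderOf_dvd_card' (G := G) 2 (even_iff_two_dvd.mp heven)

/-- the centre is trivial -/
theorem center_eq_bot : Subgroup.center G = ⊥ := by
  rcases (inferInstance : (Subgroup.center G).Normal).eq_bot_or_eq_top with h | h
  · exact h
  · exfalso
    obtain ⟨t, ht⟩ := exists_invol heven hgt
    have hn : (Subgroup.zpowers t).Normal := by
      refine ⟨fun x hx g => ?_⟩
      have hc : ∀ y : G, y ∈ Subgroup.center G := fun y => by rw [h]; exact Subgroup.mem_top y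
      have : g * x * g⁻¹ = x := by
        have := Subgroup.mem_center_iff.mp (hc x) g
        rw [this]; group
      rw [this]; exact hx
    rcases hn.eq_bot_or_eq_top with h1 | h1
    · have : t = 1 := by
        have := Subgroup.mem_zpowers t
        rw [h1, Subgroup.mem_bot] at this
        exact this
      rw [this, orderOf_one] at ht
      omega
    · have : Nat.card (Subgroup.zpowers t) = Nat.card G := by
        rw [h1]; exact Subgroup.card_top
      rw [Nat.card_zpowers, ht] at this
      omega

theorem no_central_invol (t : G) (ht : orderOf t = 2) : t ∉ Subgroup.center G := by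
  rw [center_eq_bot heven hgt, Subgroup.mem_bot]
  rintro rfl
  rw [orderOf_one] at ht
  omega

theorem no_index_two (H : Subgroup G) : H.index ≠ 2 := by
  intro h
  have hn : H.Normal := Subgroup.normal_of_index_eq_two h
  rcases hn.eq_bot_or_eq_top with h1 | h1
  · rw [h1, Subgroup.index_bot] at h
    omega
  · rw [h1, Subgroup.index_top] at h
    omega

/-- faithful action on the cosets of a proper subgroup -/
theorem toPermHom_injective (H : Subgroup G) (hH : H ≠ ⊤) :
    Function.Injective (MulAction.toPermHom G (G ⧸ H)) := by
  rw [← MonoidHom.ker_eq_bot_iff]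
  rcases (MonoidHom.normal_ker (MulAction.toPermHom G (G ⧸ H))).eq_bot_or_eq_top with h | h
  · exact h
  · exfalso
    apply hH
    rw [eq_top_iff, ← h, ← Subgroup.normalCore_eq_ker]
    exact Subgroup.normalCore_le H

theorem card_dvd_factorial (H : Subgroup G) (hH : H ≠ ⊤) :
    Nat.card G ∣ (H.index).factorial := by
  have := Subgroup.card_dvd_of_injective _ (toPermHom_injective heven hgt H hH)
  rwa [Nat.card_perm, ← Subgroup.index_eq_card] at this

/-- no Sylow subgroup is the whole group -/
theorem sylow_ne_top (p : ℕ) [Fact p.Prime] (P : Sylow p G) : (P : Subgroup G) ≠ ⊤ := by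
  intro h
  have hp : IsPGroup p G := by
    intro g
    have hg : g ∈ (P : Subgroup G) := by rw [h]; exact Subgroup.mem_top g
    obtain ⟨k, hk⟩ := P.isPGroup' ⟨g, hg⟩
    exact ⟨k, by simpa using congrArg Subtype.val hk⟩
  haveI : Nontrivial G := by
    rw [← Finite.one_lt_card_iff_nontrivial]
    omega
  have := hp.center_nontrivial
  rw [center_eq_bot heven hgt] at this
  exact not_nontrivial _ this

/-- the order is not `2 mod 4` -/
theorem card_mod_four : Nat.card G % 4 ≠ 2 := by
  intro h4
  obtain ⟨P⟩ : Nonempty (Sylow 2 G) := inferInstance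
  have hP2 : Nat.card (P : Subgroup G) = 2 := by
    obtain ⟨k, hk⟩ := P.isPGroup'.exists_card_eq
    have hdvd : Nat.card (P : Subgroup G) ∣ Nat.card G := Subgroup.card_subgroup_dvd_card _
    have hidx := Subgroup.card_mul_index (P : Subgroup G)
    have hnd : ¬ 2 ∣ (P : Subgroup G).index := P.not_dvd_index
    rcases Nat.lt_or_ge k 2 with hk2 | hk2
    · interval_cases k
      · exfalso
        rw [hk, pow_zero, one_mul] at hidx
        rw [hidx] at hnd
        exact hnd (even_iff_two_dvd.mp heven)
      · rw [hk]; norm_num
    · exfalso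
      have : 4 ∣ Nat.card (P : Subgroup G) := by
        rw [hk]
        exact (pow_dvd_pow 2 hk2 : 2 ^ 2 ∣ 2 ^ k)
      have := this.trans hdvd
      omega
  have hcyc : IsCyclic (P : Subgroup G) := isCyclic_of_prime_card (p := 2) hP2
  have hmin : (Nat.card G).minFac = 2 := (Nat.minFac_eq_two_iff _).mpr (even_iff_two_dvd.mp heven)
  have hc := IsCyclic.isComplement' hmin hcyc
  have hcard := hc.card_mul_card
  rw [hP2] at hcard
  rcases (MonoidHom.normal_ker
    (MonoidHom.transferSylow P (hcyc.normalizer_le_centralizer hmin))).eq_bot_or_eq_top with h | h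
  · rw [h, Subgroup.card_bot] at hcard
    omega
  · rw [h, Subgroup.card_top] at hcard
    omega

/-- proper subgroups have index at least five -/
theorem five_le_index (H : Subgroup G) (hH : H ≠ ⊤) : 5 ≤ H.index := by
  by_contra hlt
  push Not at hlt
  have h24 : Nat.card G ∣ 24 := by
    have h1 := card_dvd_factorial heven hgt H hH
    have h2 : (H.index).factorial ∣ (4).factorial := Nat.factorial_dvd_factorial (by omega)
    exact h1.trans h2
  obtain ⟨Q⟩ : Nonempty (Sylow 2 G) := inferInstance
  have hQ := sylow_ne_top heven hgt 2 Q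
  have hnd : ¬ 2 ∣ (Q : Subgroup G).index := Q.not_dvd_index
  have hd : (Q : Subgroup G).index ∣ 24 := (Subgroup.index_dvd_card _).trans h24
  have hne1 : (Q : Subgroup G).index ≠ 1 := fun h => hQ (Subgroup.index_eq_one.mp h)
  have hle : (Q : Subgroup G).index ≤ 24 := Nat.le_of_dvd (by norm_num) hd
  have h3 : (Q : Subgroup G).index = 3 := by
    generalize (Q : Subgroup G).index = i at *
    interval_cases i <;> omega
  have h6 : Nat.card G ∣ 6 := by
    have := card_dvd_factorial heven hgt (Q : Subgroup G) hQ
    rwa [h3] at this
  have hle6 : Nat.card G ≤ 6 := Nat.le_of_dvd (by norm_num) h6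
  have hm4 := card_mod_four heven hgt
  obtain ⟨k, hk⟩ := heven
  generalize Nat.card G = N at *
  interval_cases N <;> omega

end

/-- In a finite simple group G of even order greater than 2, the number n of involutions satisfies 3n < |G|. -/
theorem result {G : Type*} [Group G] [Finite G] [IsSimpleGroup G] (heven : Even (Nat.card G)) (hgt : 2 < Nat.card G) : 3 * Nat.card {t : G // orderOf t = 2} < Nat.card G := by
  classical
  haveI : Fintype G := Fintype.ofFinite G
  have hn : Nat.card {t : G // orderOf t = 2} = (invs G).card := by
    rw [Nat.card_eq_fintype_card, Fintype.card_subtype]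
    congr 1
  rw [hn]
  set n := (invs G).card with hn'
  set N := Nat.card G with hN
  have hNF : Fintype.card G = N := by rw [hN, Nat.card_eq_fintype_card]
  have hn1 : 1 ≤ n := by
    obtain ⟨t, ht⟩ := exists_invol heven hgt
    exact Finset.card_pos.mpr ⟨t, mem_invs.mpr ht⟩
  by_cases h5 : ∃ H : Subgroup G, H.index = 5
  · obtain ⟨H, hH5⟩ := h5
    have hHtop : H ≠ ⊤ := by
      intro h
      rw [h, Subgroup.index_top] at hH5
      omega
    have hinj := toPermHom_injective heven hgt H hHtop
    have hcard5 : Nat.card (G ⧸ H) = 5 := by rw [← Subgroup.index_eq_card, hH5]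
    let e : (G ⧸ H) ≃ Fin 5 := Finite.equivFinOfCardEq hcard5
    let Φ : G →* Equiv.Perm (Fin 5) := e.permCongrHom.toMonoidHom.comp (MulAction.toPermHom G (G ⧸ H))
    have hΦinj : Function.Injective Φ := by
      intro a b hab
      apply hinj
      exact e.permCongrHom.injective hab
    -- sign is trivial on the image
    have hsign : ∀ g : G, Equiv.Perm.sign (Φ g) = 1 := by
      intro g
      let ψ : G →* ℤˣ := Equiv.Perm.sign.comp Φ
      rcases (MonoidHom.normal_ker ψ).eq_bot_or_eq_top with h | h
      · exfalso
        have hψ : Function.Injective ψ := (MonoidHom.ker_eq_bot_iff ψ).mp h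
        have := Nat.card_le_card_of_injective ψ hψ
        have h2 : Nat.card ℤˣ = 2 := by
          rw [Nat.card_eq_fintype_card]; rfl
        omega
      · have : g ∈ ψ.ker := by rw [h]; exact Subgroup.mem_top g
        exact MonoidHom.mem_ker.mp this
    -- order divides 60
    have h60 : N ∣ 60 := by
      have hle : Φ.range ≤ alternatingGroup (Fin 5) := by
        rintro _ ⟨g, rfl⟩
        exact Equiv.Perm.mem_alternatingGroup.mpr (hsign g)
      have h1 : Nat.card Φ.range = N :=
        (Nat.card_congr (MonoidHom.ofInjective hΦinj).toEquiv).symm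
      have h2 : Nat.card (alternatingGroup (Fin 5)) = 60 := by
        rw [Nat.card_eq_fintype_card, card_alternatingGroup]
        rfl
      rw [← h1, ← h2]
      exact Subgroup.card_dvd_of_le hle
    have h5N : 5 ∣ N := hH5 ▸ Subgroup.index_dvd_card H
    have hm4 : N % 4 ≠ 2 := card_mod_four heven hgt
    have hcases : N = 20 ∨ N = 60 := by
      have hle : N ≤ 60 := Nat.le_of_dvd (by norm_num) h60
      obtain ⟨k, hk⟩ := heven
      clear_value N
      interval_cases N <;> omega
    rcases hcases with h20 | h60'
    · exfalso
      haveI : Fact (Nat.Prime 5) := ⟨by norm_num⟩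
      obtain ⟨P⟩ : Nonempty (Sylow 5 G) := inferInstance
      have hP := sylow_ne_top heven hgt 5 P
      have hnd : ¬ 5 ∣ (P : Subgroup G).index := P.not_dvd_index
      have hd : (P : Subgroup G).index ∣ 20 := h20 ▸ Subgroup.index_dvd_card _
      have hle : (P : Subgroup G).index ≤ 20 := Nat.le_of_dvd (by norm_num) hd
      have h5le := five_le_index heven hgt (P : Subgroup G) hP
      generalize (P : Subgroup G).index = i at *
      interval_cases i <;> omega
    · -- count involutions in the image
      have hle15 : n ≤ 15 := by
        rw [← a5_invol_count, hn']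
        apply Finset.card_le_card_of_injOn Φ
        · intro t ht
          have ht2 : orderOf t = 2 := mem_invs.mp ht
          simp only [Finset.coe_filter, Finset.mem_univ, true_and, Set.mem_setOf_eq]
          refine ⟨?_, ?_, hsign t⟩
          · rw [← map_mul, inv_mul_self ht2, map_one]
          · intro h1
            have : t = 1 := hΦinj (h1.trans (map_one Φ).symm)
            exact ne_one_of_inv ht2 this
        · exact fun a _ b _ hab => hΦinj hab
      omega
  · -- all proper subgroups have index at least 6
    push Not at h5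
    set c := N / 6 with hc
    have hH : ∀ H : Subgroup G, H ≠ ⊤ → H.index ≠ 2 ∧ Nat.card H ≤ c := by
      intro H hH
      refine ⟨no_index_two heven hgt H, ?_⟩
      have h1 := five_le_index heven hgt H hH
      have h2 := h5 H
      have h6 : 6 ≤ H.index := by omega
      have h3 : Nat.card H * H.index = N := H.card_mul_index
      rw [hc, Nat.le_div_iff_mul_le (by norm_num)]
      calc Nat.card H * 6 ≤ Nat.card H * H.index := Nat.mul_le_mul_left _ h6
        _ = N := h3
    have hbf := bf_inequality (G := G) c (no_central_invol heven hgt) hH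
    rw [hNF, ← hn'] at hbf
    have hc6 : 6 * c ≤ N := by rw [hc]; exact Nat.mul_div_le N 6
    by_contra hcon
    push Not at hcon
    -- hbf : 2 n n + 2 n + c (n+1) ≤ c (2 n + N), N ≤ 3 n, 6 c ≤ N
    nlinarith

end Cfsg.Agent.S0234
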