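import Cfsg.Statements.S0235
import Mathlib

set_option autoImplicit false
open Cfsg

namespace Cfsg.Agent.S0235

theorem orderOf_two_iff {G : Type*} [Group G] (t : G) : orderOf t = 2 ↔ t * t = 1 ∧ t ≠ 1 := by
  rw [orderOf_eq_prime_iff (p := 2), pow_two]

/-- If x² ≠ 1, the ordered pairs (u, v) of involutions with uv = x correspond bijectively to the involutions t with t x t⁻¹ = x⁻¹ (via (u, v) ↦ u), so the two counts agree. -/
theorem result {G : Type*} [Group G] [Finite G] (x : G) (hx : x ^ 2 ≠ 1) : Nat.card {p : G × G // orderOf p.1 = 2 ∧ orderOf p.2 = 2 ∧ p.1 * p.2 = x} = Nat.card {t : G // orderOf t = 2 ∧ t * x * t⁻¹ = x⁻¹} := by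
  refine Nat.card_congr ?_
  refine
    { toFun := fun p => ⟨p.1.1, p.2.1, ?_⟩
      invFun := fun t => ⟨(t.1, t.1⁻¹ * x), t.2.1, ?_, ?_⟩
      left_inv := ?_
      right_inv := ?_ }
  · obtain ⟨⟨u, v⟩, hu, hv, huv⟩ := p
    simp only at hu hv huv ⊢
    rw [orderOf_two_iff] at hu hv
    subst huv
    have hu' : u⁻¹ = u := inv_eq_of_mul_eq_one_left hu.1
    have hv' : v⁻¹ = v := inv_eq_of_mul_eq_one_left hv.1
    rw [mul_inv_rev, hu', hv']
    calc u * (u * v) * u = (u * u) * v * u := by group
      _ = v * u := by rw [hu.1, one_mul]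
  · obtain ⟨t, ht, htx⟩ := t
    simp only
    rw [orderOf_two_iff] at ht ⊢
    have ht' : t⁻¹ = t := inv_eq_of_mul_eq_one_left ht.1
    rw [ht'] at htx ⊢
    constructor
    · calc t * x * (t * x) = (t * x * t) * x := by group
        _ = 1 := by rw [htx, inv_mul_cancel]
    · intro h
      apply hx
      have : x = t := by
        have : x = t⁻¹ := eq_inv_of_mul_eq_one_right h
        rw [this, ht']
      rw [this, pow_two, ht.1]
  · simp
  · intro p
    obtain ⟨⟨u, v⟩, hu, hv, huv⟩ := p
    simp only at huv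
    subst huv
    simp
  · intro t
    rfl

end Cfsg.Agent.S0235
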