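import Cfsg.Statements.S0236
import Mathlib

set_option autoImplicit false
open Cfsg

namespace Cfsg.Agent.S0236

theorem orderOf_two_iff {G : Type*} [Group G] (t : G) : orderOf t = 2 ↔ t * t = 1 ∧ t ≠ 1 := by
  rw [orderOf_eq_prime_iff (p := 2), pow_two]

/-- If x is an involution, the number of ordered pairs (u, v) of involutions with uv = x, plus one, equals the number of involutions in the centralizer of x. -/
theorem result {G : Type*} [Group G] [Finite G] (x : G) (hx : orderOf x = 2) : Nat.card {p : G × G // orderOf p.1 = 2 ∧ orderOf p.2 = 2 ∧ p.1 * p.2 = x} + 1 = Nat.card {t : G // orderOf t = 2 ∧ Commute t x} := by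
  classical
  have hx2 := (orderOf_two_iff x).mp hx
  have hx' : x⁻¹ = x := inv_eq_of_mul_eq_one_left hx2.1
  -- the pairs biject with involutions commuting with x other than x
  have e1 : {p : G × G // orderOf p.1 = 2 ∧ orderOf p.2 = 2 ∧ p.1 * p.2 = x} ≃
      {t : {t : G // orderOf t = 2 ∧ Commute t x} // t ≠ ⟨x, hx, Commute.refl x⟩} := by
    refine
      { toFun := fun p => ⟨⟨p.1.1, p.2.1, ?_⟩, ?_⟩
        invFun := fun t => ⟨(t.1.1, t.1.1⁻¹ * x), t.1.2.1, ?_, ?_⟩
        left_inv := ?_
        right_inv := ?_ }
    · obtain ⟨⟨u, v⟩, hu, hv, huv⟩ := p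
      simp only at hu hv huv ⊢
      rw [orderOf_two_iff] at hu hv
      have hu' : u⁻¹ = u := inv_eq_of_mul_eq_one_left hu.1
      have hv' : v⁻¹ = v := inv_eq_of_mul_eq_one_left hv.1
      -- u x = u u v = v ; x u = (x⁻¹) u = v u u ... use x = x⁻¹
      have h1 : u * x = v := by rw [← huv, ← mul_assoc, hu.1, one_mul]
      have h2 : x * u = v := by
        have : x⁻¹ = v * u := by rw [← huv, mul_inv_rev, hu', hv']
        rw [← hx', this, mul_assoc, hu.1, mul_one]
      exact h1.trans h2.symm
    · obtain ⟨⟨u, v⟩, hu, hv, huv⟩ := p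
      simp only at hu hv huv ⊢
      intro h
      have hux : u = x := congrArg Subtype.val h
      rw [orderOf_two_iff] at hv
      apply hv.2
      have : u * v = u * 1 := by rw [huv, mul_one, hux]
      exact mul_left_cancel this
    · obtain ⟨⟨t, ht, htx⟩, hne⟩ := t
      simp only
      rw [orderOf_two_iff] at ht ⊢
      have ht' : t⁻¹ = t := inv_eq_of_mul_eq_one_left ht.1
      rw [ht']
      constructor
      · calc t * x * (t * x) = t * (x * t) * x := by group
          _ = t * (t * x) * x := by rw [htx.eq]
          _ = (t * t) * (x * x) := by group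
          _ = 1 := by rw [ht.1, hx2.1, one_mul]
      · intro h
        apply hne
        have : t = x := by
          have : t = x⁻¹ := eq_inv_of_mul_eq_one_left h
          rw [this, hx']
        subst this
        rfl
    · simp
    · intro p
      obtain ⟨⟨u, v⟩, hu, hv, huv⟩ := p
      simp only at huv
      subst huv
      simp
    · intro t
      rfl
  rw [Nat.card_congr e1]
  have : Finite {t : G // orderOf t = 2 ∧ Commute t x} := inferInstance
  have := Fintype.ofFinite {t : G // orderOf t = 2 ∧ Commute t x}
  rw [Nat.card_eq_fintype_card, Nat.card_eq_fintype_card, Fintype.card_subtype_compl, Fintype.card_subtype_eq]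
  have : 0 < Fintype.card {t : G // orderOf t = 2 ∧ Commute t x} :=
    Fintype.card_pos_iff.mpr ⟨⟨x, hx, Commute.refl x⟩⟩
  omega

end Cfsg.Agent.S0236
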