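import Cfsg.Statements.S0237
import Mathlib

set_option autoImplicit false
open Cfsg

namespace Cfsg.Agent.S0237

/-- If x is real (conjugate to x⁻¹) in a finite group G, the number of g with g x g⁻¹ = x⁻¹ equals |C_G(x)|. -/
theorem result {G : Type*} [Group G] [Finite G] (x : G) (hreal : IsConj x x⁻¹) : Nat.card {g : G // g * x * g⁻¹ = x⁻¹} = Nat.card (Subgroup.centralizer ({x} : Set G)) := by
  obtain ⟨g₀, hg₀⟩ := isConj_iff.mp hreal
  symm
  refine Nat.card_congr ?_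
  refine
    { toFun := fun c => ⟨g₀ * c.1, ?_⟩
      invFun := fun g => ⟨g₀⁻¹ * g.1, ?_⟩
      left_inv := ?_
      right_inv := ?_ }
  · have hc : c.1 * x = x * c.1 := by
      have := c.2
      rw [Subgroup.mem_centralizer_iff] at this
      exact (this x (Set.mem_singleton x)).symm
    have : g₀ * c.1 * x * (g₀ * c.1)⁻¹ = g₀ * (c.1 * x * c.1⁻¹) * g₀⁻¹ := by group
    rw [this, hc, mul_assoc x, mul_inv_cancel, mul_one, hg₀]
  · rw [Subgroup.mem_centralizer_iff]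
    intro y hy
    rw [Set.mem_singleton_iff] at hy
    subst hy
    have h1 := g.2
    -- g x g⁻¹ = x⁻¹ = g₀ x g₀⁻¹
    have h2 : g.1 * y * g.1⁻¹ = g₀ * y * g₀⁻¹ := by rw [h1, hg₀]
    have h3 : g₀⁻¹ * (g.1 * y * g.1⁻¹) * g₀ = y := by rw [h2]; group
    calc y * (g₀⁻¹ * g.1) = (g₀⁻¹ * (g.1 * y * g.1⁻¹) * g₀) * (g₀⁻¹ * g.1) := by rw [h3]
      _ = g₀⁻¹ * g.1 * y := by group
  · intro c
    ext
    simp
  · intro g
    ext
    simp

end Cfsg.Agent.S0237
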