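import Cfsg.Statements.S0238
import Cfsg.Agent.S0237
import Mathlib

set_option autoImplicit false
open Cfsg

namespace Cfsg.Agent.S0238

theorem orderOf_two_iff {G : Type*} [Group G] (t : G) : orderOf t = 2 ↔ t * t = 1 ∧ t ≠ 1 := by
  rw [orderOf_eq_prime_iff (p := 2), pow_two]

theorem fst_inverts {G : Type*} [Group G] {x u v : G} (hu : orderOf u = 2) (hv : orderOf v = 2)
    (huv : u * v = x) : u * x * u⁻¹ = x⁻¹ := by
  rw [orderOf_two_iff] at hu hv
  subst huv
  have hu' : u⁻¹ = u := inv_eq_of_mul_eq_one_left hu.1
  have hv' : v⁻¹ = v := inv_eq_of_mul_eq_one_left hv.1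
  rw [mul_inv_rev, hu', hv']
  calc u * (u * v) * u = (u * u) * v * u := by group
    _ = v * u := by rw [hu.1, one_mul]

/-- For every x in a finite group G, the number c of ordered pairs (u, v) of involutions with uv = x is at most |C_G(x)|; c = 0 when x is not conjugate to x⁻¹; and c + 2 ≤ |C_G(x)| when x is an involution. -/
theorem result {G : Type*} [Group G] [Finite G] (x : G) : Nat.card {p : G × G // orderOf p.1 = 2 ∧ orderOf p.2 = 2 ∧ p.1 * p.2 = x} ≤ Nat.card (Subgroup.centralizer ({x} : Set G)) ∧ (¬ IsConj x x⁻¹ → Nat.card {p : G × G // orderOf p.1 = 2 ∧ orderOf p.2 = 2 ∧ p.1 * p.2 = x} = 0) ∧ (orderOf x = 2 → Nat.card {p : G × G // orderOf p.1 = 2 ∧ orderOf p.2 = 2 ∧ p.1 * p.2 = x} + 2 ≤ Nat.card (Subgroup.centralizer ({x} : Set G))) := by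
  classical
  -- the injection (u, v) ↦ u into the inverting elements
  let φ : {p : G × G // orderOf p.1 = 2 ∧ orderOf p.2 = 2 ∧ p.1 * p.2 = x} → {g : G // g * x * g⁻¹ = x⁻¹} :=
    fun p => ⟨p.1.1, fst_inverts p.2.1 p.2.2.1 p.2.2.2⟩
  have hφ : Function.Injective φ := by
    rintro ⟨⟨u, v⟩, hu, hv, huv⟩ ⟨⟨u', v'⟩, hu', hv', huv'⟩ h
    have h1 : u = u' := congrArg Subtype.val h
    subst h1
    have h2 : v = v' := by
      simp only at huv huv'
      exact mul_left_cancel (huv.trans huv'.symm)
    subst h2
    rfl
  have hnot : ¬ IsConj x x⁻¹ → Nat.card {p : G × G // orderOf p.1 = 2 ∧ orderOf p.2 = 2 ∧ p.1 * p.2 = x} = 0 := by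
    intro hn
    rw [Nat.card_eq_zero]
    left
    refine ⟨fun p => hn ?_⟩
    exact isConj_iff.mpr ⟨(φ p).1, (φ p).2⟩
  refine ⟨?_, hnot, ?_⟩
  · by_cases hreal : IsConj x x⁻¹
    · rw [← Cfsg.Agent.S0237.result x hreal]
      exact Nat.card_le_card_of_injective φ hφ
    · rw [hnot hreal]; exact Nat.zero_le _
  · intro hx
    have hx2 := (orderOf_two_iff x).mp hx
    have hx' : x⁻¹ = x := inv_eq_of_mul_eq_one_left hx2.1
    -- inject Option (Option pairs) into centralizer
    let ψ : Option (Option {p : G × G // orderOf p.1 = 2 ∧ orderOf p.2 = 2 ∧ p.1 * p.2 = x}) → Subgroup.centralizer ({x} : Set G) :=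
      fun o => match o with
        | none => ⟨1, Subgroup.one_mem _⟩
        | some none => ⟨x, by
            rw [Subgroup.mem_centralizer_iff]
            intro y hy
            rw [Set.mem_singleton_iff] at hy
            rw [hy]⟩
        | some (some p) => ⟨p.1.1, by
            rw [Subgroup.mem_centralizer_iff]
            intro y hy
            rw [Set.mem_singleton_iff] at hy
            subst hy
            have h := fst_inverts p.2.1 p.2.2.1 p.2.2.2
            rw [hx'] at h
            have : p.1.1 * y = y * p.1.1 := by
              calc p.1.1 * y = (p.1.1 * y * p.1.1⁻¹) * p.1.1 := by group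
                _ = y * p.1.1 := by rw [h]
            exact this.symm⟩
    have hψ : Function.Injective ψ := by
      intro a b hab
      match a, b with
      | none, none => rfl
      | none, some none =>
        exfalso
        have : (1 : G) = x := congrArg Subtype.val hab
        exact hx2.2 this.symm
      | some none, none =>
        exfalso
        have : x = (1 : G) := congrArg Subtype.val hab
        exact hx2.2 this
      | none, some (some p) =>
        exfalso
        have : (1 : G) = p.1.1 := congrArg Subtype.val hab
        have hp := p.2.1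
        rw [← this, orderOf_one] at hp
        exact absurd hp (by decide)
      | some (some p), none =>
        exfalso
        have : p.1.1 = (1 : G) := congrArg Subtype.val hab
        have hp := p.2.1
        rw [this, orderOf_one] at hp
        exact absurd hp (by decide)
      | some none, some none => rfl
      | some none, some (some p) =>
        exfalso
        have h1 : x = p.1.1 := congrArg Subtype.val hab
        have h2 := p.2.2.2
        have h3 := p.2.2.1
        have : p.1.2 = 1 := by
          have : p.1.1 * p.1.2 = p.1.1 * 1 := by rw [h2, mul_one]; exact h1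
          exact mul_left_cancel this
        rw [this, orderOf_one] at h3
        exact absurd h3 (by decide)
      | some (some p), some none =>
        exfalso
        have h1 : p.1.1 = x := congrArg Subtype.val hab
        have h2 := p.2.2.2
        have h3 := p.2.2.1
        have : p.1.2 = 1 := by
          have : p.1.1 * p.1.2 = p.1.1 * 1 := by rw [h2, mul_one]; exact h1.symm
          exact mul_left_cancel this
        rw [this, orderOf_one] at h3
        exact absurd h3 (by decide)
      | some (some p), some (some p') =>
        have h1 : p.1.1 = p'.1.1 := congrArg Subtype.val hab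
        have : φ p = φ p' := Subtype.ext h1
        rw [hφ this]
    have := Nat.card_le_card_of_injective ψ hψ
    have e : Nat.card (Option (Option {p : G × G // orderOf p.1 = 2 ∧ orderOf p.2 = 2 ∧ p.1 * p.2 = x})) =
        Nat.card {p : G × G // orderOf p.1 = 2 ∧ orderOf p.2 = 2 ∧ p.1 * p.2 = x} + 2 := by
      rw [Finite.card_option, Finite.card_option]
    rw [e] at this
    exact this

end Cfsg.Agent.S0238
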