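import Cfsg.Statements.S0239
import Mathlib

set_option autoImplicit false
open Cfsg

namespace Cfsg.Agent.S0239

/-- If some nontrivial element x of a finite group G is conjugate to x⁻¹, then |G| is even. -/
theorem result {G : Type*} [Group G] [Finite G] (x : G) (hx : x ≠ 1) (hreal : IsConj x x⁻¹) : Even (Nat.card G) := by
  by_contra hodd
  rw [Nat.not_even_iff_odd] at hodd
  obtain ⟨g, hg⟩ := isConj_iff.mp hreal
  -- g * x * g⁻¹ = x⁻¹
  -- g^2 commutes with x
  have h2 : ∀ n : ℕ, g ^ (2 * n) * x * (g ^ (2 * n))⁻¹ = x := by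
    intro n
    induction n with
    | zero => simp
    | succ k ih =>
      have : g ^ (2 * (k + 1)) = g * g * g ^ (2 * k) := by
        rw [show 2 * (k + 1) = 2 * k + 1 + 1 by ring, pow_succ', pow_succ', mul_assoc]
      rw [this]
      have e : g * g * g ^ (2 * k) * x * (g * g * g ^ (2 * k))⁻¹ = g * (g * (g ^ (2 * k) * x * (g ^ (2 * k))⁻¹) * g⁻¹) * g⁻¹ := by
        group
      rw [e, ih, hg]
      have : g * x⁻¹ * g⁻¹ = (g * x * g⁻¹)⁻¹ := by group
      rw [this, hg, inv_inv]
  -- order of g is odd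
  have hord : Odd (orderOf g) := by
    have := orderOf_dvd_natCard g
    exact Odd.of_dvd_nat hodd this
  obtain ⟨m, hm⟩ := hord
  have hg1 : g ^ (2 * m + 1) = 1 := by rw [← hm]; exact pow_orderOf_eq_one g
  have : g ^ (2 * m) = g⁻¹ := by
    have : g ^ (2 * m) * g = 1 := by rw [← pow_succ]; exact hg1
    exact eq_inv_of_mul_eq_one_left this
  have h3 := h2 m
  rw [this, inv_inv] at h3
  -- g⁻¹ x g = x so g x g⁻¹ = x
  have h4 : g * x * g⁻¹ = x := by
    have : x = g * (g⁻¹ * x * g) * g⁻¹ := by group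
    rw [h3] at this
    exact this.symm
  rw [h4] at hg
  -- x = x⁻¹ so x^2 = 1, but order of x is odd
  have hx2 : x ^ 2 = 1 := by
    rw [pow_two]
    nth_rewrite 1 [hg]
    exact inv_mul_cancel x
  have hox : orderOf x ∣ 2 := orderOf_dvd_of_pow_eq_one hx2
  have hoddx : Odd (orderOf x) := Odd.of_dvd_nat hodd (orderOf_dvd_natCard x)
  have : orderOf x = 1 := by
    rcases (Nat.dvd_prime Nat.prime_two).mp hox with h | h
    · exact h
    · rw [h] at hoddx; exact absurd hoddx (by decide)
  exact hx (orderOf_eq_one_iff.mp this)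

end Cfsg.Agent.S0239
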