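import Cfsg.Statements.S0240
import Mathlib

set_option autoImplicit false
open Cfsg

namespace Cfsg.Agent.S0240

theorem orderOf_two_iff {G : Type*} [Group G] (t : G) : orderOf t = 2 ↔ t * t = 1 ∧ t ≠ 1 := by
  rw [orderOf_eq_prime_iff (p := 2), pow_two]

/-- Let G be a finite group with n involutions and H a subgroup with |H|·(n+1) > |G|. Then some nontrivial h ∈ H is strongly real in G: an involution t of G satisfies t h t⁻¹ = h⁻¹. -/
theorem result {G : Type*} [Group G] [Finite G] (H : Subgroup G) (hH : Nat.card G < Nat.card H * (Nat.card {t : G // orderOf t = 2} + 1)) : ∃ h : G, h ∈ H ∧ h ≠ 1 ∧ ∃ t : G, orderOf t = 2 ∧ t * h * t⁻¹ = h⁻¹ := by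
  classical
  let val : Option {t : G // orderOf t = 2} → G := fun o => match o with
    | none => 1
    | some t => t.1
  have hval : Function.Injective val := by
    intro a b hab
    match a, b with
    | none, none => rfl
    | none, some t =>
      exfalso
      have : (1 : G) = t.1 := hab
      have ht := t.2
      rw [← this, orderOf_one] at ht
      exact absurd ht (by decide)
    | some t, none =>
      exfalso
      have : t.1 = (1 : G) := hab
      have ht := t.2
      rw [this, orderOf_one] at ht
      exact absurd ht (by decide)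
    | some t, some t' =>
      have : t.1 = t'.1 := hab
      rw [Subtype.ext this]
  have hsq : ∀ o, val o * val o = 1 := by
    intro o
    match o with
    | none => exact one_mul 1
    | some t => exact ((orderOf_two_iff t.1).mp t.2).1
  let f : Option {t : G // orderOf t = 2} → G ⧸ H := fun o => (val o : G ⧸ H)
  have hcard : Nat.card (G ⧸ H) < Nat.card (Option {t : G // orderOf t = 2}) := by
    rw [Finite.card_option]
    have h1 := Subgroup.card_eq_card_quotient_mul_card_subgroup H
    rw [h1, mul_comm] at hH
    have hpos : 0 < Nat.card H := Nat.card_pos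
    exact lt_of_mul_lt_mul_left hH (Nat.zero_le _)
  have : ¬ Function.Injective f := by
    intro hinj
    exact absurd (Nat.card_le_card_of_injective f hinj) (not_le.mpr hcard)
  rw [Function.Injective] at this
  push Not at this
  obtain ⟨a, b, hfab, hab⟩ := this
  have hmem : (val a)⁻¹ * val b ∈ H := QuotientGroup.eq.mp hfab
  have hne : (val a)⁻¹ * val b ≠ 1 := by
    intro h
    apply hab
    apply hval
    have : val b = val a := by
      have := eq_inv_of_mul_eq_one_right h
      rw [inv_inv] at this
      exact this
    exact this.symm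
  have ha' : (val a)⁻¹ = val a := inv_eq_of_mul_eq_one_left (hsq a)
  have hb' : (val b)⁻¹ = val b := inv_eq_of_mul_eq_one_left (hsq b)
  refine ⟨(val a)⁻¹ * val b, hmem, hne, ?_⟩
  rw [ha'] at hne ⊢
  -- h = s * t with s = val a, t = val b
  match a, b with
  | none, none => exact absurd rfl hab
  | none, some t =>
    refine ⟨t.1, t.2, ?_⟩
    have : val (none : Option {t : G // orderOf t = 2}) = 1 := rfl
    rw [this, one_mul]
    have : val (some t) = t.1 := rfl
    rw [this] at hb' ⊢
    rw [hb']
    rw [((orderOf_two_iff t.1).mp t.2).1, one_mul]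
  | some s, none =>
    refine ⟨s.1, s.2, ?_⟩
    have : val (none : Option {t : G // orderOf t = 2}) = 1 := rfl
    rw [this, mul_one]
    have : val (some s) = s.1 := rfl
    rw [this] at ha' ⊢
    rw [ha']
    rw [((orderOf_two_iff s.1).mp s.2).1, one_mul]
  | some s, some t =>
    refine ⟨s.1, s.2, ?_⟩
    have e1 : val (some s) = s.1 := rfl
    have e2 : val (some t) = t.1 := rfl
    rw [e1] at ha' ⊢
    rw [e2] at hb' ⊢
    rw [mul_inv_rev, ha', hb']
    calc s.1 * (s.1 * t.1) * s.1 = (s.1 * s.1) * t.1 * s.1 := by group
      _ = t.1 * s.1 := by rw [((orderOf_two_iff s.1).mp s.2).1, one_mul]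

end Cfsg.Agent.S0240
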