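import Cfsg.Statements.S0241
import Mathlib

set_option autoImplicit false
open Cfsg

namespace Cfsg.Agent.S0241

theorem conj_pow_odd {G : Type*} [Group G] {x g : G} (hg : g * x * g⁻¹ = x⁻¹) (m : ℕ) :
    g ^ (2 * m) * x * (g ^ (2 * m))⁻¹ = x ∧ g ^ (2 * m + 1) * x * (g ^ (2 * m + 1))⁻¹ = x⁻¹ := by
  induction m with
  | zero => simpa using hg
  | succ k ih =>
    have h1 : g ^ (2 * (k + 1)) * x * (g ^ (2 * (k + 1)))⁻¹ = x := by
      rw [show 2 * (k + 1) = (2 * k + 1) + 1 by ring, pow_succ']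
      have e : g * g ^ (2 * k + 1) * x * (g * g ^ (2 * k + 1))⁻¹ =
          g * (g ^ (2 * k + 1) * x * (g ^ (2 * k + 1))⁻¹) * g⁻¹ := by group
      rw [e, ih.2]
      have : g * x⁻¹ * g⁻¹ = (g * x * g⁻¹)⁻¹ := by group
      rw [this, hg, inv_inv]
    refine ⟨h1, ?_⟩
    rw [pow_succ']
    have e : g * g ^ (2 * (k + 1)) * x * (g * g ^ (2 * (k + 1)))⁻¹ =
        g * (g ^ (2 * (k + 1)) * x * (g ^ (2 * (k + 1)))⁻¹) * g⁻¹ := by group
    rw [e, h1, hg]

/-- If x ≠ 1 is conjugate to x⁻¹ in a finite group G and |C_G(x)| is odd, then some involution t satisfies t x t⁻¹ = x⁻¹. -/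
theorem result {G : Type*} [Group G] [Finite G] (x : G) (hx : x ≠ 1) (hreal : IsConj x x⁻¹) (hodd : Odd (Nat.card (Subgroup.centralizer ({x} : Set G)))) : ∃ t : G, orderOf t = 2 ∧ t * x * t⁻¹ = x⁻¹ := by
  obtain ⟨g, hg⟩ := isConj_iff.mp hreal
  -- write orderOf g = 2^a * m with m odd
  have hpos : 0 < orderOf g := orderOf_pos g
  obtain ⟨a, m, hm, hgm⟩ := Nat.exists_eq_two_pow_mul_odd (Nat.pos_iff_ne_zero.mp hpos)
  obtain ⟨k, hk⟩ := hm
  set t := g ^ m with ht
  have htx : t * x * t⁻¹ = x⁻¹ := by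
    rw [ht, hk]; exact (conj_pow_odd hg k).2
  have ht2a : t ^ (2 ^ a) = 1 := by
    rw [ht, ← pow_mul, mul_comm, ← hgm]; exact pow_orderOf_eq_one g
  -- t^2 centralizes x
  have ht2 : t ^ 2 ∈ Subgroup.centralizer ({x} : Set G) := by
    rw [Subgroup.mem_centralizer_iff]
    intro y hy
    rw [Set.mem_singleton_iff] at hy
    subst hy
    have := (conj_pow_odd htx 1).1
    rw [mul_one] at this
    calc y * t ^ 2 = (t ^ 2 * y * (t ^ 2)⁻¹) * t ^ 2 := by rw [this]
      _ = t ^ 2 * y := by group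
  -- order of t^2 is odd and a power of two
  have ho1 : orderOf (t ^ 2) ∣ 2 ^ a := by
    apply orderOf_dvd_of_pow_eq_one
    rw [← pow_mul, mul_comm, pow_mul, ht2a, one_pow]
  have ho2 : Odd (orderOf (t ^ 2)) := by
    have h1 : orderOf (⟨t ^ 2, ht2⟩ : Subgroup.centralizer ({x} : Set G)) ∣ Nat.card (Subgroup.centralizer ({x} : Set G)) :=
      orderOf_dvd_natCard _
    have h2 : orderOf (⟨t ^ 2, ht2⟩ : Subgroup.centralizer ({x} : Set G)) = orderOf (t ^ 2) :=
      Subgroup.orderOf_mk (t ^ 2) ht2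
    rw [h2] at h1
    exact Odd.of_dvd_nat hodd h1
  have ho3 : orderOf (t ^ 2) = 1 := by
    obtain ⟨j, -, hj⟩ := (Nat.dvd_prime_pow Nat.prime_two).mp ho1
    rcases Nat.eq_zero_or_pos j with h0 | hjpos
    · rw [hj, h0, pow_zero]
    · exfalso
      rw [hj] at ho2
      have : Even (2 ^ j) := (Nat.even_pow' (Nat.pos_iff_ne_zero.mp hjpos)).mpr even_two
      exact (Nat.not_even_iff_odd.mpr ho2) this
  have htt : t ^ 2 = 1 := orderOf_eq_one_iff.mp ho3
  refine ⟨t, ?_, htx⟩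
  rw [orderOf_eq_prime_iff (p := 2)]
  refine ⟨htt, ?_⟩
  intro h1
  rw [h1] at htx
  simp only [one_mul, inv_one, mul_one] at htx
  -- x = x⁻¹, so x^2 = 1, x in centralizer of odd order, so x = 1
  have hx2 : x ^ 2 = 1 := by
    rw [pow_two]
    nth_rewrite 1 [htx]
    exact inv_mul_cancel x
  have hxc : x ∈ Subgroup.centralizer ({x} : Set G) := by
    rw [Subgroup.mem_centralizer_iff]
    intro y hy
    rw [Set.mem_singleton_iff] at hy
    rw [hy]
  have h3 : orderOf x ∣ Nat.card (Subgroup.centralizer ({x} : Set G)) := by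
    have := orderOf_dvd_natCard (⟨x, hxc⟩ : Subgroup.centralizer ({x} : Set G))
    rwa [Subgroup.orderOf_mk] at this
  have h4 : Odd (orderOf x) := Odd.of_dvd_nat hodd h3
  have h5 : orderOf x ∣ 2 := orderOf_dvd_of_pow_eq_one hx2
  rcases (Nat.dvd_prime Nat.prime_two).mp h5 with h | h
  · exact hx (orderOf_eq_one_iff.mp h)
  · rw [h] at h4; exact absurd h4 (by decide)

end Cfsg.Agent.S0241
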