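import Cfsg.Statements.S0261
import Mathlib
import Cfsg.Agent.S2431
import Cfsg.Agent.Lib.Helper73.QuatRecog

set_option autoImplicit false
set_option linter.style.haveILetI false
open Cfsg

namespace Cfsg.Agent.S0261

open Cfsg.Agent.Helper40

/-- The Sylow 2-subgroups of a group with a dicyclic torus normalizer are generalised quaternion. -/
theorem quat_of_dicData {G : Type*} [Group G] [Finite G] {T : Subgroup G} {s z : G} {k m : ℕ}
    [IsCyclic T] (h : DicData T s z k m) (hval : (Nat.card G).factorization 2 = k + 1)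
    (S : Sylow 2 G) : Nonempty ((S : Subgroup G) ≃* QuaternionGroup (2 ^ (k - 1))) := by
  have hk := h.two_le
  have h2N : 2 ^ k = 2 * 2 ^ (k - 1) := by
    rw [← pow_succ']; congr 1; omega
  haveI : NeZero (2 ^ (k - 1)) := ⟨by positivity⟩
  obtain ⟨τ, hτ, hord⟩ := h.exists_gen
  have hcard : Nat.card h.S₀ = 4 * 2 ^ (k - 1) := by
    rw [h.card_S₀, pow_succ, h2N]; ring
  have hτN : τ ^ (2 ^ (k - 1)) = z := by
    have h1 : τ ^ (2 ^ (k - 1)) * τ ^ (2 ^ (k - 1)) = 1 := by
      rw [← pow_add, ← two_mul, ← h2N, ← hord, pow_orderOf_eq_one]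
    have hmem : τ ^ (2 ^ (k - 1)) ∈ T := T.pow_mem hτ.1 _
    rcases h.sq_one _ hmem h1 with h0 | h0
    · exfalso
      have hlt : 2 ^ (k - 1) < orderOf τ := by
        rw [hord, h2N]
        have : 0 < 2 ^ (k - 1) := by positivity
        omega
      exact pow_ne_one_of_lt_orderOf (by positivity) hlt h0
    · exact h0
  obtain ⟨e⟩ := Cfsg.Agent.Helper73.quat_equiv (G := h.S₀) (N := 2 ^ (k - 1))
    (a := ⟨τ, h.T₂_le_S₀ hτ⟩) (t := ⟨s, h.s_mem_S₀⟩)
    (by rw [Subgroup.orderOf_mk, hord, h2N])
    (by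
      apply Subtype.ext
      rw [Subgroup.coe_pow, Subgroup.coe_pow]
      change s ^ 2 = τ ^ (2 ^ (k - 1))
      rw [hτN, pow_two, h.s_sq])
    (by
      apply Subtype.ext
      exact h.inv₂ τ hτ)
    (by
      intro hmem
      obtain ⟨n, hn⟩ := Subgroup.mem_zpowers_iff.mp hmem
      have hn' : τ ^ n = s := by
        have := congrArg Subtype.val hn
        simpa using this
      exact h.s_not_mem (hn' ▸ T.zpow_mem hτ.1 n))
    hcard
  have hc : Nat.card h.S₀ = 2 ^ (Nat.card G).factorization 2 := by rw [h.card_S₀, hval]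
  exact ⟨(Sylow.equiv S (Sylow.ofCard h.S₀ hc)).trans e⟩

/-- For q odd, the Sylow 2-subgroups of SL_2(q) are generalised quaternion. -/
theorem result {F : Type*} [Field F] [Fintype F] (hF : Odd (Fintype.card F)) (P : Sylow 2 (Matrix.SpecialLinearGroup (Fin 2) F)) : ∃ k : ℕ, 1 ≤ k ∧ Nonempty ((P : Subgroup (Matrix.SpecialLinearGroup (Fin 2) F)) ≃* QuaternionGroup (2 ^ k)) := by
  classical
  have hodd : Fintype.card F % 2 = 1 := Nat.odd_iff.mp hF
  have h2 : (2 : F) ≠ 0 := S2431.char_ne_two hodd
  have hq : 1 < Fintype.card F := Fintype.one_lt_card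
  have h4 : Fintype.card F % 4 = 1 ∨ Fintype.card F % 4 = 3 := by omega
  rcases h4 with hq4 | hq4
  · have D := S2431.sp_dicData hq4 h2
    haveI := S2430.isCyclic_spTorus (F := F)
    have hval : (Nat.card (Matrix.SpecialLinearGroup (Fin 2) F)).factorization 2
        = (Fintype.card F - 1).factorization 2 + 1 := by
      rw [card_SL2]
      apply S2431.val_card _ _ hq _ hodd
      rw [S2431.fact_two_one (Fintype.card F + 1) (by omega)]
    have hk := D.two_le
    exact ⟨(Fintype.card F - 1).factorization 2 - 1, by omega, quat_of_dicData D hval P⟩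
  · have hFc : ringChar F ≠ 2 := fun h => by
      have := FiniteField.even_card_of_char_two h
      omega
    obtain ⟨δ, hδ⟩ := FiniteField.exists_nonsquare hFc
    obtain ⟨s₀, hs₀⟩ := exists_nsTwist δ (nonsquare_ne_zero hδ) hodd
    have D := S2431.ns_dicData hq4 hδ h2 s₀ hs₀
    haveI := isCyclic_nsTorus hδ
    have hval : (Nat.card (Matrix.SpecialLinearGroup (Fin 2) F)).factorization 2
        = (Fintype.card F + 1).factorization 2 + 1 := by
      rw [card_SL2]
      apply S2431.val_card _ _ hq _ hodd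
      rw [S2431.fact_two_one (Fintype.card F - 1) (by omega)]
      omega
    have hk := D.two_le
    exact ⟨(Fintype.card F + 1).factorization 2 - 1, by omega, quat_of_dicData D hval P⟩

end Cfsg.Agent.S0261
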