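import Cfsg.Statements.S0268
import Mathlib

set_option autoImplicit false
open Cfsg

namespace Cfsg.Agent.S0268

/-- For q odd, -1 is the unique involution of SL_2(q). -/
theorem result {F : Type*} [Field F] [Fintype F] (hF : Odd (Fintype.card F)) (g : Matrix.SpecialLinearGroup (Fin 2) F) (h1 : g ≠ 1) (h2 : g * g = 1) : (g : Matrix (Fin 2) (Fin 2) F) = -1 := by
  have h2ne : (2 : F) ≠ 0 := by
    intro h
    have hchar : ringChar F = 2 := by
      have : ringChar F ∣ 2 := by
        apply ringChar.dvd
        exact_mod_cast h
      rcases (Nat.dvd_prime Nat.prime_two).1 this with h | h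
      · exfalso
        have := CharP.ringChar_ne_one (R := F)
        exact this h
      · exact h
    have := FiniteField.even_card_of_char_two hchar
    rcases hF with ⟨k, hk⟩
    omega
  have hdet := g.det_coe
  rw [Matrix.det_fin_two] at hdet
  have hmul : (g : Matrix (Fin 2) (Fin 2) F) * (g : Matrix (Fin 2) (Fin 2) F) = 1 := by
    have := congrArg (fun x : Matrix.SpecialLinearGroup (Fin 2) F => (x : Matrix (Fin 2) (Fin 2) F)) h2
    simpa using this
  have e00 := congrFun (congrFun hmul 0) 0
  have e01 := congrFun (congrFun hmul 0) 1
  have e10 := congrFun (congrFun hmul 1) 0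
  have e11 := congrFun (congrFun hmul 1) 1
  simp [Matrix.mul_apply, Fin.sum_univ_two] at e00 e01 e10 e11
  set a := (g : Matrix (Fin 2) (Fin 2) F) 0 0 with ha
  set b := (g : Matrix (Fin 2) (Fin 2) F) 0 1 with hb
  set c := (g : Matrix (Fin 2) (Fin 2) F) 1 0 with hc
  set d := (g : Matrix (Fin 2) (Fin 2) F) 1 1 with hd
  by_cases hs : a + d = 0
  · exfalso
    have hd' : d = -a := by linear_combination hs
    apply h2ne
    rw [hd'] at hdet
    linear_combination (-1 : F) * e00 - hdet
  · have hb0 : b = 0 := by
      have : b * (a + d) = 0 := by linear_combination e01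
      rcases mul_eq_zero.1 this with h | h
      · exact h
      · exact absurd h hs
    have hc0 : c = 0 := by
      have : c * (a + d) = 0 := by linear_combination e10
      rcases mul_eq_zero.1 this with h | h
      · exact h
      · exact absurd h hs
    have haa : a * a = 1 := by rw [hb0] at e00; linear_combination e00
    have had : a * d = 1 := by rw [hb0] at hdet; linear_combination hdet
    have hda : d = a := by
      have : a * (d - a) = 0 := by linear_combination had - haa
      rcases mul_eq_zero.1 this with h | h
      · rw [h] at haa; simp at haa
      · linear_combination h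
    have ha1 : (a - 1) * (a + 1) = 0 := by linear_combination haa
    rcases mul_eq_zero.1 ha1 with h | h
    · exfalso
      apply h1
      ext i j
      fin_cases i <;> fin_cases j
      · simp; rw [← ha]; linear_combination h
      · simp; rw [← hb]; exact hb0
      · simp; rw [← hc]; exact hc0
      · simp; rw [← hd, hda]; linear_combination h
    · ext i j
      fin_cases i <;> fin_cases j
      · simp; rw [← ha]; linear_combination h
      · simp; rw [← hb]; exact hb0
      · simp; rw [← hc]; exact hc0
      · simp; rw [← hd, hda]; linear_combination h

end Cfsg.Agent.S0268
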