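import Cfsg.Statements.S0275
import Cfsg.Agent.S0016
import Cfsg.Agent.Lib.Helper41.SL2NormCent

set_option autoImplicit false
open Cfsg

namespace Cfsg.Agent.S0275

open Cfsg.Agent.Helper41

/-- In odd characteristic, an involution of `SL₂(F)` is the matrix `-1`. -/
theorem coe_eq_neg_one_of_sq {F : Type*} [Field F] (h2 : (2 : F) ≠ 0)
    (x : Matrix.SpecialLinearGroup (Fin 2) F) (hx : x * x = 1) (hx1 : x ≠ 1) :
    (x : Matrix (Fin 2) (Fin 2) F) = -1 := by
  have hdet : (x : Matrix (Fin 2) (Fin 2) F).det = 1 := x.2
  rw [Matrix.det_fin_two] at hdet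
  have hm : (x : Matrix (Fin 2) (Fin 2) F) * (x : Matrix (Fin 2) (Fin 2) F) = 1 := by
    rw [← Matrix.SpecialLinearGroup.coe_mul, hx, Matrix.SpecialLinearGroup.coe_one]
  have e00 := congrFun (congrFun hm 0) 0
  have e01 := congrFun (congrFun hm 0) 1
  have e10 := congrFun (congrFun hm 1) 0
  have e11 := congrFun (congrFun hm 1) 1
  simp only [Matrix.mul_apply, Fin.sum_univ_two, Matrix.one_apply_eq, Matrix.one_apply_ne,
    ne_eq, zero_ne_one, one_ne_zero, not_false_eq_true] at e00 e01 e10 e11
  set a := (x : Matrix (Fin 2) (Fin 2) F) 0 0 with ha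
  set b := (x : Matrix (Fin 2) (Fin 2) F) 0 1 with hb
  set c := (x : Matrix (Fin 2) (Fin 2) F) 1 0 with hc
  set d := (x : Matrix (Fin 2) (Fin 2) F) 1 1 with hd
  have ht : (a + d) ^ 2 = 2 * 2 := by linear_combination e00 + e11 + 2 * hdet
  have ht0 : a + d ≠ 0 := by
    intro h
    rw [h] at ht
    have : (2 : F) * 2 = 0 := by rw [← ht]; ring
    rcases mul_eq_zero.mp this with h' | h' <;> exact h2 h'
  have hb0 : b = 0 := by
    have : b * (a + d) = 0 := by linear_combination e01
    rcases mul_eq_zero.mp this with h | h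
    · exact h
    · exact absurd h ht0
  have hc0 : c = 0 := by
    have : c * (a + d) = 0 := by linear_combination e10
    rcases mul_eq_zero.mp this with h | h
    · exact h
    · exact absurd h ht0
  have had : a = d := by
    rw [hb0, hc0] at hdet e00
    linear_combination d * e00 - a * hdet
  have ha2 : (a - 1) * (a + 1) = 0 := by
    rw [hb0] at e00
    linear_combination e00
  rcases mul_eq_zero.mp ha2 with h | h
  · exfalso
    apply hx1
    have ha1 : a = 1 := by linear_combination h
    apply Subtype.ext
    rw [Matrix.SpecialLinearGroup.coe_one]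
    ext i j
    fin_cases i <;> fin_cases j
    · exact ha1
    · exact hb0
    · exact hc0
    · change d = 1
      rw [← had]; exact ha1
  · have ha1 : a = -1 := by linear_combination h
    ext i j
    fin_cases i <;> fin_cases j
    · simpa using ha1
    · simpa using hb0
    · simpa using hc0
    · change d = _
      rw [← had]; simpa using ha1

/-- If p is odd and H is a subgroup of SL_2(q), q a power of p, with more than one Sylow p-subgroup, then the Sylow 2-subgroups of H are generalised quaternion. -/
theorem result {F : Type*} [Field F] [Fintype F] (p : ℕ) [Fact p.Prime] [CharP F p] (hp : p ≠ 2) (H : Subgroup (Matrix.SpecialLinearGroup (Fin 2) F)) (hH : 1 < Nat.card (Sylow p H)) (S : Sylow 2 H) : ∃ k : ℕ, 1 ≤ k ∧ Nonempty ((S : Subgroup H) ≃* QuaternionGroup (2 ^ k)) := by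
  classical
  have h2F : (2 : F) ≠ 0 := by
    intro h
    have h' : ((2 : ℕ) : F) = 0 := by exact_mod_cast h
    rw [CharP.cast_eq_zero_iff F p] at h'
    exact hp ((Nat.prime_dvd_prime_iff_eq Fact.out Nat.prime_two).mp h')
  -- Step 1: `S` is not cyclic
  have hnc : ¬ IsCyclic (S : Subgroup H) := by
    intro hcyc
    have huniq : ∀ P Q : Sylow p H, P = Q := by
      by_cases hodd : Odd (Nat.card H)
      · exact sylow_char_unique_of_odd p hodd H.subtype H.subtype_injective
      · have heven : 2 ∣ Nat.card H := even_iff_two_dvd.mp (Nat.not_odd_iff_even.mp hodd)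
        have hmf : (Nat.card H).minFac = 2 := (Nat.minFac_eq_two_iff _).mpr heven
        have hNC := IsCyclic.normalizer_le_centralizer hmf hcyc
        have hKodd : Odd (Nat.card (MonoidHom.transferSylow S hNC).ker) := by
          have := MonoidHom.not_dvd_card_ker_transferSylow S hNC
          exact Nat.odd_iff.mpr (Nat.two_dvd_ne_zero.mp this)
        have huK := sylow_char_unique_of_odd p hKodd
          (H.subtype.comp (MonoidHom.transferSylow S hNC).ker.subtype)
          (H.subtype_injective.comp (MonoidHom.transferSylow S hNC).ker.subtype_injective)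
        have hle : ∀ P : Sylow p H, (P : Subgroup H) ≤ (MonoidHom.transferSylow S hNC).ker := by
          intro P x hx
          rw [MonoidHom.mem_ker]
          obtain ⟨k, hk⟩ := P.isPGroup' ⟨x, hx⟩
          have hk' : x ^ (p ^ k) = 1 := by simpa using congrArg Subtype.val hk
          have h1 : (MonoidHom.transferSylow S hNC x) ^ (p ^ k) = 1 := by
            rw [← map_pow, hk', map_one]
          obtain ⟨e, he⟩ := IsPGroup.iff_card.mp S.isPGroup'
          have h2 : (MonoidHom.transferSylow S hNC x) ^ (2 ^ e) = 1 := by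
            rw [← he]; exact pow_card_eq_one'
          have := pow_gcd_eq_one.mpr ⟨h1, h2⟩
          have hcop : (p ^ k).Coprime (2 ^ e) :=
            Nat.Coprime.pow k e ((Nat.coprime_primes Fact.out Nat.prime_two).mpr hp)
          rwa [Nat.Coprime.gcd_eq_one hcop, pow_one] at this
        intro P Q
        have h3 := huK (P.subtype (hle P)) (Q.subtype (hle Q))
        have h4 := congrArg (fun X : Sylow p (MonoidHom.transferSylow S hNC).ker =>
          (X : Subgroup (MonoidHom.transferSylow S hNC).ker)) h3
        simp only [Sylow.coe_subtype] at h4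
        apply Sylow.ext
        have h5 := Subgroup.subgroupOf_inj.mp h4
        rwa [inf_eq_left.mpr (hle P), inf_eq_left.mpr (hle Q)] at h5
    have hnt : Nontrivial (Sylow p H) := Finite.one_lt_card_iff_nontrivial.mp hH
    obtain ⟨P, Q, hPQ⟩ := exists_pair_ne (Sylow p H)
    exact hPQ (huniq P Q)
  -- Step 2: unique subgroup of order two, then S0016
  have hφ : Function.Injective (H.subtype.comp (S : Subgroup H).subtype) :=
    H.subtype_injective.comp (S : Subgroup H).subtype_injective
  have hun : ∀ A B : Subgroup (S : Subgroup H), Nat.card A = 2 → Nat.card B = 2 → A = B := by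
    have key : ∀ A : Subgroup (S : Subgroup H), Nat.card A = 2 →
        ∃ x : (S : Subgroup H), x ≠ 1 ∧ x * x = 1 ∧ Subgroup.zpowers x = A := by
      intro A hA
      have hne : A ≠ ⊥ := by
        intro h
        rw [h, Subgroup.card_bot] at hA
        omega
      obtain ⟨⟨x, hxA⟩, hx1⟩ := (Subgroup.ne_bot_iff_exists_ne_one.mp hne)
      have hx1' : x ≠ 1 := fun h => hx1 (Subtype.ext h)
      have hx2 : x ^ 2 = 1 := by
        have h1 : (⟨x, hxA⟩ : A) ^ 2 = 1 := by
          have h0 : (⟨x, hxA⟩ : A) ^ Nat.card A = 1 := pow_card_eq_one'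
          rwa [hA] at h0
        simpa using congrArg Subtype.val h1
      have hord : orderOf x = 2 := orderOf_eq_prime hx2 hx1'
      refine ⟨x, hx1', by rw [← pow_two, hx2], ?_⟩
      apply Subgroup.eq_of_le_of_card_ge
      · rw [Subgroup.zpowers_le]; exact hxA
      · rw [Nat.card_zpowers, hord, hA]
    intro A B hA hB
    obtain ⟨x, hx1, hx2, hxA⟩ := key A hA
    obtain ⟨y, hy1, hy2, hyB⟩ := key B hB
    have hX := coe_eq_neg_one_of_sq h2F ((H.subtype.comp (S : Subgroup H).subtype) x)
      (by rw [← map_mul, hx2, map_one]) (fun h => hx1 (hφ (by rw [h, map_one])))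
    have hY := coe_eq_neg_one_of_sq h2F ((H.subtype.comp (S : Subgroup H).subtype) y)
      (by rw [← map_mul, hy2, map_one]) (fun h => hy1 (hφ (by rw [h, map_one])))
    have hxy : x = y := hφ (Subtype.ext (hX.trans hY.symm))
    rw [← hxA, ← hyB, hxy]
  rcases Cfsg.Agent.S0016.result (G := (S : Subgroup H)) 2 S.isPGroup' hun with h | ⟨_, n, hn⟩
  · exact absurd h hnc
  · refine ⟨n, ?_, hn⟩
    by_contra hlt
    have hn0 : n = 0 := by omega
    subst hn0
    obtain ⟨e⟩ := hn
    apply hnc
    have hq : IsCyclic (QuaternionGroup (2 ^ 0)) := by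
      rw [pow_zero]; exact QuaternionGroup.quaternionGroup_one_isCyclic
    exact isCyclic_of_surjective e.symm e.symm.surjective

end Cfsg.Agent.S0275
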