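import Cfsg.Statements.S0295
import Mathlib
import Cfsg.Agent.Lib.Helper13.OrthSimple
import Cfsg.Agent.Lib.Helper43.OrthOdd

set_option autoImplicit false
open Cfsg

namespace Cfsg.Agent.S0295

/-- PΩ_{2m+1}(q) is simple for q odd and m at least 3. -/
theorem result {F : Type*} [Field F] [Fintype F] (hodd : Odd (Fintype.card F)) (m : ℕ) (hm : 3 ≤ m) : IsSimpleGroup (Cfsg.POmega F (Cfsg.quadFormOdd m F)) := by
  have h2 : (2 : F) ≠ 0 := by
    intro h
    have h1 : ringChar F = 2 :=
      CharP.ringChar_of_prime_eq_zero Nat.prime_two (by exact_mod_cast h)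
    have h3 := FiniteField.even_card_of_char_two h1
    rcases hodd with ⟨k, hk⟩
    omega
  rw [← Cfsg.Agent.Helper43.coe_stdOdd]
  apply Cfsg.Agent.Helper13.pomega_simple (Cfsg.Agent.Helper43.stdOdd F m)
    (Cfsg.Agent.Helper43.stdOdd_nondegenerate F m h2) _ _
    (Cfsg.Agent.Helper43.stdOdd_isHypFamily F m) hm
  simp only [Fintype.card_sum, Fintype.card_unit, Fintype.card_fin]
  omega

end Cfsg.Agent.S0295
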