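import Cfsg.Statements.S0305
import Cfsg.Agent.Lib.Helper19.GOPlus
-- import your own Cfsg.Agent.* helpers here

set_option autoImplicit false
open Cfsg

namespace Cfsg.Agent.S0305

/-- GO^+_2(q) is dihedral of order 2(q-1). -/
theorem result {F : Type*} [Field F] [Fintype F] {q : ℕ} (hF : Fintype.card F = q) : Nonempty (Cfsg.isometryGroup F (Cfsg.quadFormPlus 1 F) ≃* DihedralGroup (q - 1)) := by
  classical
  have hn : q - 1 = Nat.card Fˣ := by
    rw [Nat.card_eq_fintype_card, Fintype.card_units, hF]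
  rw [hn]
  let ε := zmodCyclicMulEquiv (inferInstance : IsCyclic Fˣ)
  have hmem : ∀ x : DihedralGroup (Nat.card Fˣ),
      Cfsg.Agent.Helper19.dihHom ε x ∈ Cfsg.isometryGroup F (Cfsg.quadFormPlus 1 F) := by
    intro x
    rcases x with i | i
    · exact Cfsg.Agent.Helper19.Dg_mem _
    · exact Cfsg.Agent.Helper19.Sg_mem _
  let ψ : DihedralGroup (Nat.card Fˣ) →* Cfsg.isometryGroup F (Cfsg.quadFormPlus 1 F) :=
    (Cfsg.Agent.Helper19.dihHom ε).codRestrict _ hmem
  have hinj : Function.Injective ψ := by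
    intro x y h
    apply Cfsg.Agent.Helper19.dihHom_injective ε
    exact congrArg Subtype.val h
  have hsurj : Function.Surjective ψ := by
    rintro ⟨g, hg⟩
    rcases Cfsg.Agent.Helper19.mem_isometry_cases g hg with ⟨l, rfl⟩ | ⟨l, rfl⟩
    · obtain ⟨m, rfl⟩ := ε.surjective l
      refine ⟨DihedralGroup.r (Multiplicative.toAdd m), ?_⟩
      apply Subtype.ext
      rfl
    · obtain ⟨m, rfl⟩ := ε.surjective l
      refine ⟨DihedralGroup.sr (Multiplicative.toAdd m), ?_⟩
      apply Subtype.ext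
      rfl
  exact ⟨(MulEquiv.ofBijective ψ ⟨hinj, hsurj⟩).symm⟩

end Cfsg.Agent.S0305
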