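import Cfsg.Statements.S0306
import Mathlib
import Cfsg.Agent.Lib.Helper44.EllBlock
import Cfsg.Agent.Lib.Lead.UnitaryGroupCard
-- import your own Cfsg.Agent.* helpers here

set_option autoImplicit false
open Cfsg

namespace Cfsg.Agent.S0306

section Gen
open Cfsg.Agent.Helper44 Cfsg.Agent.Lead
variable {K F : Type*} [Field K] [Fintype K] [Field F] [Fintype F] [Algebra F K]

/-- left multiplication -/
noncomputable def Rl (F : Type*) {K : Type*} [Field K] [Field F] [Algebra F K] (u : K) :
    Module.End F K := LinearMap.mulLeft F u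

/-- left multiplication followed by the Frobenius -/
noncomputable def Sl (F : Type*) {K : Type*} [Field K] [Field F] [Fintype F] [Algebra F K]
    (u : K) : Module.End F K :=
  (frobKF F K).toLinearMap ∘ₗ LinearMap.mulLeft F u

theorem Rl_apply (u x : K) : Rl F u x = u * x := rfl
theorem Sl_apply (u x : K) : Sl F u x = frobKF F K (u * x) := rfl

theorem Rl_mul_Rl (u v : K) : Rl F u * Rl F v = Rl F (u * v) := by
  apply LinearMap.ext
  intro x
  rw [Module.End.mul_apply, Rl_apply, Rl_apply, Rl_apply, mul_assoc]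

theorem Rl_mul_Sl (hfr : Module.finrank F K = 2) (u v : K) :
    Rl F u * Sl F v = Sl F (frobKF F K u * v) := by
  apply LinearMap.ext
  intro x
  rw [Module.End.mul_apply, Rl_apply, Sl_apply, Sl_apply]
  simp only [map_mul, frobKF_frobKF hfr, mul_assoc]

theorem Sl_mul_Rl (u v : K) : Sl F u * Rl F v = Sl F (u * v) := by
  apply LinearMap.ext
  intro x
  rw [Module.End.mul_apply, Rl_apply, Sl_apply, Sl_apply, mul_assoc]

theorem Sl_mul_Sl (hfr : Module.finrank F K = 2) (u v : K) :
    Sl F u * Sl F v = Rl F (frobKF F K u * v) := by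
  apply LinearMap.ext
  intro x
  rw [Module.End.mul_apply, Rl_apply, Sl_apply, Sl_apply, map_mul, frobKF_frobKF hfr, mul_assoc]

theorem Rl_one : Rl F (1 : K) = 1 := by
  apply LinearMap.ext
  intro x
  rw [Rl_apply, one_mul, Module.End.one_apply]

/-- the group of elements of norm one -/
def C1 (F K : Type*) [Field K] [Field F] [Fintype F] : Subgroup Kˣ :=
  (powMonoidHom (Fintype.card F + 1)).ker

theorem mem_C1 (d : Kˣ) : d ∈ C1 F K ↔ (d : K) * frobKF F K (d : K) = 1 := by
  rw [C1, MonoidHom.mem_ker, powMonoidHom_apply, Units.ext_iff, Units.val_pow_eq_pow_val,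
    Units.val_one, frobKF_apply, pow_succ']

theorem card_C1 (hfr : Module.finrank F K = 2) : Nat.card (C1 F K) = Fintype.card F + 1 := by
  rw [← card_norm_one_units (card_of_finrank_two hfr rfl)]
  apply Nat.card_congr
  apply Equiv.subtypeEquivRight
  intro d
  rw [C1, MonoidHom.mem_ker, powMonoidHom_apply]

theorem frob_C1 (u : C1 F K) : frobKF F K ((u : Kˣ) : K) = (((u⁻¹ : C1 F K) : Kˣ) : K) := by
  have h := (mem_C1 (F := F) (u : Kˣ)).mp u.2
  rw [Subgroup.coe_inv, Units.val_inv_eq_inv_val]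
  exact eq_inv_of_mul_eq_one_right h

/-- rotation -/
noncomputable def RU (u : C1 F K) : (Module.End F K)ˣ :=
  ⟨Rl F ((u : Kˣ) : K), Rl F (((u⁻¹ : C1 F K) : Kˣ) : K),
    by rw [Rl_mul_Rl, ← Units.val_mul, ← Subgroup.coe_mul, mul_inv_cancel]; exact Rl_one,
    by rw [Rl_mul_Rl, ← Units.val_mul, ← Subgroup.coe_mul, inv_mul_cancel]; exact Rl_one⟩

/-- reflection -/
noncomputable def SU (hfr : Module.finrank F K = 2) (u : C1 F K) : (Module.End F K)ˣ :=
  ⟨Sl F ((u : Kˣ) : K), Sl F ((u : Kˣ) : K),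
    by rw [Sl_mul_Sl hfr, frob_C1, ← Units.val_mul, ← Subgroup.coe_mul, inv_mul_cancel]
       exact Rl_one,
    by rw [Sl_mul_Sl hfr, frob_C1, ← Units.val_mul, ← Subgroup.coe_mul, inv_mul_cancel]
       exact Rl_one⟩

theorem RU_val (u : C1 F K) : ((RU u : (Module.End F K)ˣ) : Module.End F K) = Rl F ((u : Kˣ) : K) :=
  rfl

theorem SU_val (hfr : Module.finrank F K = 2) (u : C1 F K) :
    ((SU hfr u : (Module.End F K)ˣ) : Module.End F K) = Sl F ((u : Kˣ) : K) := rfl

theorem RU_mul_RU (u v : C1 F K) : RU u * RU v = RU (u * v) := by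
  apply Units.ext
  rw [Units.val_mul, RU_val, RU_val, RU_val, Rl_mul_Rl]
  rfl

theorem RU_mul_SU (hfr : Module.finrank F K = 2) (u v : C1 F K) :
    RU u * SU hfr v = SU hfr (v * u⁻¹) := by
  apply Units.ext
  rw [Units.val_mul, RU_val, SU_val, SU_val, Rl_mul_Sl hfr, frob_C1, mul_comm v]
  rfl

theorem SU_mul_RU (hfr : Module.finrank F K = 2) (u v : C1 F K) :
    SU hfr u * RU v = SU hfr (u * v) := by
  apply Units.ext
  rw [Units.val_mul, RU_val, SU_val, SU_val, Sl_mul_Rl]
  rfl

theorem SU_mul_SU (hfr : Module.finrank F K = 2) (u v : C1 F K) :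
    SU hfr u * SU hfr v = RU (u⁻¹ * v) := by
  apply Units.ext
  rw [Units.val_mul, RU_val, SU_val, SU_val, Sl_mul_Sl hfr, frob_C1]
  rfl

theorem RU_one : RU (1 : C1 F K) = 1 := by
  apply Units.ext
  rw [RU_val]
  exact Rl_one

theorem RU_injective : Function.Injective (RU : C1 F K → (Module.End F K)ˣ) := by
  intro u v h
  have h1 := congrArg (fun f : (Module.End F K)ˣ => (f : Module.End F K) 1) h
  simp only [RU_val, Rl_apply, mul_one] at h1
  exact Subtype.ext (Units.ext h1)

theorem SU_injective (hfr : Module.finrank F K = 2) :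
    Function.Injective (SU hfr : C1 F K → (Module.End F K)ˣ) := by
  intro u v h
  have h1 := congrArg (fun f : (Module.End F K)ˣ => (f : Module.End F K) 1) h
  simp only [SU_val, Sl_apply, mul_one] at h1
  exact Subtype.ext (Units.ext ((frobKF F K).injective h1))

theorem RU_ne_SU (hfr : Module.finrank F K = 2) (u v : C1 F K) : RU u ≠ SU hfr v := by
  intro h
  obtain ⟨x, hx⟩ := exists_frob_ne (F := F) (K := K) hfr
  apply hx
  have h1 := congrArg (fun f : (Module.End F K)ˣ => (f : Module.End F K) 1) h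
  simp only [RU_val, SU_val, Rl_apply, Sl_apply, mul_one] at h1
  have h2 := congrArg (fun f : (Module.End F K)ˣ => (f : Module.End F K) x) h
  simp only [RU_val, SU_val, Rl_apply, Sl_apply, map_mul] at h2
  rw [h1] at h2
  have hne : frobKF F K ((v : Kˣ) : K) ≠ 0 := (map_ne_zero _).mpr (v : Kˣ).ne_zero
  exact (mul_left_cancel₀ hne h2).symm

section Hom
variable {n : ℕ} (hfr : Module.finrank F K = 2) (ε : Multiplicative (ZMod n) ≃* C1 F K)

/-- The map from the dihedral group. -/
noncomputable def dihTo : DihedralGroup n → (Module.End F K)ˣ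
  | .r i => RU (ε (Multiplicative.ofAdd i))
  | .sr i => SU hfr (ε (Multiplicative.ofAdd i))

theorem dihTo_mul (x y : DihedralGroup n) :
    dihTo hfr ε (x * y) = dihTo hfr ε x * dihTo hfr ε y := by
  rcases x with i | i <;> rcases y with j | j
  · rw [DihedralGroup.r_mul_r]
    simp only [dihTo]
    rw [RU_mul_RU, ofAdd_add, map_mul]
  · rw [DihedralGroup.r_mul_sr]
    simp only [dihTo]
    rw [RU_mul_SU, ofAdd_sub, map_div, div_eq_mul_inv]
  · rw [DihedralGroup.sr_mul_r]
    simp only [dihTo]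
    rw [SU_mul_RU, ofAdd_add, map_mul]
  · rw [DihedralGroup.sr_mul_sr]
    simp only [dihTo]
    rw [SU_mul_SU, ofAdd_sub, map_div, div_eq_mul_inv, mul_comm]

theorem dihTo_one : dihTo hfr ε (1 : DihedralGroup n) = 1 := by
  rw [DihedralGroup.one_def]
  simp only [dihTo]
  rw [ofAdd_zero, map_one, RU_one]

/-- As a monoid hom. -/
noncomputable def dihHom : DihedralGroup n →* (Module.End F K)ˣ where
  toFun := dihTo hfr ε
  map_one' := dihTo_one hfr ε
  map_mul' := dihTo_mul hfr ε

theorem dihHom_injective : Function.Injective (dihHom hfr ε) := by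
  intro x y h
  change dihTo hfr ε x = dihTo hfr ε y at h
  rcases x with i | i <;> rcases y with j | j <;> simp only [dihTo] at h
  · have := ε.injective (RU_injective h)
    rw [Multiplicative.ofAdd.injective this]
  · exact absurd h (RU_ne_SU hfr _ _)
  · exact absurd h.symm (RU_ne_SU hfr _ _)
  · have := ε.injective (SU_injective hfr h)
    rw [Multiplicative.ofAdd.injective this]

end Hom

/-- classification of the norm-preserving linear maps -/
theorem classify (hfr : Module.finrank F K = 2) (f : Module.End F K)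
    (hf : ∀ x, f x * frobKF F K (f x) = x * frobKF F K x) :
    ∃ u : K, u * frobKF F K u = 1 ∧ (f = Rl F u ∨ f = Sl F u) := by
  set σ := frobKF F K with hσ
  have hσσ : ∀ z, σ (σ z) = z := frobKF_frobKF hfr
  set u₀ : K := f 1 with hu₀
  have hN : u₀ * σ u₀ = 1 := by
    have h1 := hf 1
    rw [show σ (1 : K) = 1 from map_one σ, mul_one] at h1
    exact h1
  have hN' : σ u₀ * u₀ = 1 := by rw [mul_comm]; exact hN
  -- normalised map
  set f' : Module.End F K := Rl F (σ u₀) * f with hf'
  have hf'x : ∀ x, f' x = σ u₀ * f x := fun x => rfl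
  have hf'1 : f' 1 = 1 := by rw [hf'x]; exact hN'
  have hf'N : ∀ x, f' x * σ (f' x) = x * σ x := by
    intro x
    rw [hf'x, map_mul, hσσ]
    have := hf x
    calc σ u₀ * f x * (u₀ * σ (f x)) = (σ u₀ * u₀) * (f x * σ (f x)) := by ring
      _ = x * σ x := by rw [hN', one_mul, this]
  have hcase : ∀ x, f' x = x ∨ f' x = σ x := by
    intro x
    have h1 := hf'N (1 + x)
    rw [map_add, hf'1, map_add, map_one, map_add, map_one] at h1
    have h2 := hf'N x
    have h3 : (f' x - x) * (f' x - σ x) = 0 := by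
      linear_combination (f' x) * h1 - (f' x + 1) * h2
    rcases mul_eq_zero.mp h3 with h | h
    · left; exact sub_eq_zero.mp h
    · right; exact sub_eq_zero.mp h
  have hff' : ∀ x, f x = u₀ * f' x := by
    intro x
    rw [hf'x, ← mul_assoc, hN, one_mul]
  have hdich : (∀ x, f' x = x) ∨ (∀ x, f' x = σ x) := by
    by_contra hcon
    rw [not_or] at hcon
    obtain ⟨hc1, hc2⟩ := hcon
    simp only [not_forall] at hc1 hc2
    obtain ⟨x, hx⟩ := hc1
    obtain ⟨y, hy⟩ := hc2
    have hx' : f' x = σ x := (hcase x).resolve_left hx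
    have hy' : f' y = y := (hcase y).resolve_right hy
    rcases hcase (x + y) with h | h
    · rw [map_add, hx', hy'] at h
      apply hx
      rw [hx']
      exact add_right_cancel h
    · rw [map_add, hx', hy', map_add] at h
      apply hy
      rw [hy']
      exact add_left_cancel h
  rcases hdich with h | h
  · refine ⟨u₀, hN, Or.inl ?_⟩
    apply LinearMap.ext
    intro x
    rw [hff', h, Rl_apply]
  · refine ⟨σ u₀, by rw [hσσ]; exact hN', Or.inr ?_⟩
    apply LinearMap.ext
    intro x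
    rw [hff', h, Sl_apply, map_mul, hσσ]

end Gen

section Mat
open Cfsg.Agent.Helper44 Cfsg.Agent.Lead Matrix
variable {K F : Type*} [Field K] [Fintype K] [Field F] [Fintype F] [Algebra F K]
variable {ι : Type} [Fintype ι] [DecidableEq ι] (Ψ : K ≃ₗ[F] (ι → F))

/-- endomorphisms of `K` as matrices, via the coordinates `Ψ` -/
noncomputable def AE : Module.End F K ≃ₐ[F] Matrix ι ι F :=
  (LinearEquiv.conjAlgEquiv F Ψ).trans LinearMap.toMatrixAlgEquiv'

theorem AE_mulVec (f : Module.End F K) (u : ι → F) : AE Ψ f *ᵥ u = Ψ (f (Ψ.symm u)) := by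
  change LinearMap.toMatrixAlgEquiv' (LinearEquiv.conjAlgEquiv F Ψ f) *ᵥ u = _
  rw [← Matrix.toLin'_apply]
  change Matrix.toLin' (LinearMap.toMatrix' (LinearEquiv.conjAlgEquiv F Ψ f)) u = _
  rw [Matrix.toLin'_toMatrix', LinearEquiv.conjAlgEquiv_apply]
  rfl

/-- the induced isomorphism of unit groups -/
noncomputable def EU : (Module.End F K)ˣ ≃* GL ι F :=
  Units.mapEquiv (MulEquivClass.toMulEquiv (AE Ψ))

theorem EU_val (f : (Module.End F K)ˣ) :
    ((EU Ψ f : GL ι F) : Matrix ι ι F) = AE Ψ (f : Module.End F K) := rfl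

theorem EU_mem_iff (Q : (ι → F) → F)
    (hQ : ∀ x : K, algebraMap F K (Q (Ψ x)) = x * frobKF F K x) (f : (Module.End F K)ˣ) :
    EU Ψ f ∈ Cfsg.isometryGroup F Q ↔
      ∀ x : K, (f : Module.End F K) x * frobKF F K ((f : Module.End F K) x) = x * frobKF F K x := by
  constructor
  · intro h x
    have h1 := h (Ψ x) 0
    simp only [Units.coeHom_apply, EU_val, AE_mulVec, LinearEquiv.symm_apply_apply] at h1
    rw [← hQ, ← hQ, h1]
  · intro h u v
    simp only [Units.coeHom_apply, EU_val, AE_mulVec]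
    apply (algebraMap F K).injective
    rw [hQ, h, ← hQ, LinearEquiv.apply_symm_apply]

theorem main_gen (hfr : Module.finrank F K = 2) (Q : (ι → F) → F)
    (hQ : ∀ x : K, algebraMap F K (Q (Ψ x)) = x * frobKF F K x) :
    Nonempty (Cfsg.isometryGroup F Q ≃* DihedralGroup (Fintype.card F + 1)) := by
  classical
  rw [← card_C1 (K := K) hfr]
  let ε := zmodCyclicMulEquiv (inferInstance : IsCyclic (C1 F K))
  let Ξ : DihedralGroup (Nat.card (C1 F K)) →* GL ι F :=
    (EU Ψ).toMonoidHom.comp (dihHom hfr ε)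
  have hσσ : ∀ z : K, frobKF F K (frobKF F K z) = z := frobKF_frobKF hfr
  have hmem : ∀ x, Ξ x ∈ Cfsg.isometryGroup F Q := by
    intro x
    change EU Ψ (dihTo hfr ε x) ∈ _
    rw [EU_mem_iff Ψ Q hQ]
    intro z
    rcases x with i | i
    · simp only [dihTo, RU_val, Rl_apply]
      have h := (mem_C1 (F := F) ((ε (Multiplicative.ofAdd i) : C1 F K) : Kˣ)).mp
        (ε (Multiplicative.ofAdd i)).2
      rw [map_mul]
      linear_combination (z * frobKF F K z) * h
    · simp only [dihTo, SU_val, Sl_apply]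
      have h := (mem_C1 (F := F) ((ε (Multiplicative.ofAdd i) : C1 F K) : Kˣ)).mp
        (ε (Multiplicative.ofAdd i)).2
      rw [hσσ, map_mul]
      linear_combination (z * frobKF F K z) * h
  let ψ : DihedralGroup (Nat.card (C1 F K)) →* Cfsg.isometryGroup F Q := Ξ.codRestrict _ hmem
  have hinj : Function.Injective ψ := by
    intro x y h
    apply dihHom_injective hfr ε
    apply (EU Ψ).injective
    exact congrArg Subtype.val h
  have hsurj : Function.Surjective ψ := by
    rintro ⟨g, hg⟩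
    obtain ⟨f, rfl⟩ := (EU Ψ).surjective g
    have hf := (EU_mem_iff Ψ Q hQ f).mp hg
    obtain ⟨u, hu, hcase⟩ := classify hfr (f : Module.End F K) hf
    have hu0 : u ≠ 0 := by
      intro h0
      rw [h0, zero_mul] at hu
      exact zero_ne_one hu
    have hmemC : Units.mk0 u hu0 ∈ C1 F K := by
      rw [mem_C1]
      exact hu
    obtain ⟨m, hm⟩ := ε.surjective ⟨Units.mk0 u hu0, hmemC⟩
    rcases hcase with h | h
    · refine ⟨DihedralGroup.r (Multiplicative.toAdd m), ?_⟩
      apply Subtype.ext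
      change EU Ψ (dihTo hfr ε (DihedralGroup.r (Multiplicative.toAdd m))) = EU Ψ f
      congr 1
      apply Units.ext
      simp only [dihTo, ofAdd_toAdd, hm, RU_val]
      exact h.symm
    · refine ⟨DihedralGroup.sr (Multiplicative.toAdd m), ?_⟩
      apply Subtype.ext
      change EU Ψ (dihTo hfr ε (DihedralGroup.sr (Multiplicative.toAdd m))) = EU Ψ f
      congr 1
      apply Units.ext
      simp only [dihTo, ofAdd_toAdd, hm, SU_val]
      exact h.symm
  exact ⟨(MulEquiv.ofBijective ψ ⟨hinj, hsurj⟩).symm⟩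

end Mat

section Final
open Cfsg.Agent.Helper44 Polynomial
variable {K F : Type*} [Field K] [Fintype K] [Field F] [Fintype F] [Algebra F K]

abbrev I2 := (Fin 0 ⊕ Fin 0) ⊕ Fin 2

/-- coordinates to `K` -/
noncomputable def Phi0 (θ : K) : (I2 → F) →ₗ[F] K where
  toFun v := v (.inr 0) • (1 : K) - v (.inr 1) • θ
  map_add' := by
    intro u v
    simp only [Pi.add_apply, add_smul]
    abel
  map_smul' := by
    intro c v
    simp only [Pi.smul_apply, smul_eq_mul, RingHom.id_apply, mul_smul, smul_sub]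

theorem Phi0_norm (hfr : Module.finrank F K = 2) (a b : F)
    (hab : ∀ z₁ z₂ : F, z₁ ^ 2 + a * z₁ * z₂ + b * z₂ ^ 2 = 0 → z₁ = 0 ∧ z₂ = 0)
    (θ : K) (hθ : θ ^ 2 + algebraMap F K a * θ + algebraMap F K b = 0) (v : I2 → F) :
    algebraMap F K (Cfsg.quadFormMinus 0 F a b v) = Phi0 θ v * frobKF F K (Phi0 θ v) := by
  rw [← algebraMap_norm' hfr]
  congr 1
  change _ = Algebra.norm F (v (.inr 0) • (1 : K) - v (.inr 1) • θ)
  rw [norm_ell hfr a b hab θ hθ]
  simp [Cfsg.quadFormMinus]

theorem Phi0_injective (hfr : Module.finrank F K = 2) (a b : F)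
    (hab : ∀ z₁ z₂ : F, z₁ ^ 2 + a * z₁ * z₂ + b * z₂ ^ 2 = 0 → z₁ = 0 ∧ z₂ = 0)
    (θ : K) (hθ : θ ^ 2 + algebraMap F K a * θ + algebraMap F K b = 0) :
    Function.Injective (Phi0 (F := F) θ) := by
  rw [← LinearMap.ker_eq_bot, LinearMap.ker_eq_bot']
  intro v hv
  have h1 := Phi0_norm hfr a b hab θ hθ v
  rw [hv, zero_mul] at h1
  have h2 : Cfsg.quadFormMinus 0 F a b v = 0 := (map_eq_zero _).mp h1
  have h3 : v (.inr 0) ^ 2 + a * v (.inr 0) * v (.inr 1) + b * v (.inr 1) ^ 2 = 0 := by
    simpa [Cfsg.quadFormMinus] using h2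
  obtain ⟨e0, e1⟩ := hab _ _ h3
  funext i
  rcases i with i | i
  · rcases i with i | i <;> exact i.elim0
  · fin_cases i
    · exact e0
    · exact e1

theorem result' {F : Type*} [Field F] [Fintype F] (a b : F)
    (hab : ∀ z₁ z₂ : F, z₁ ^ 2 + a * z₁ * z₂ + b * z₂ ^ 2 = 0 → z₁ = 0 ∧ z₂ = 0) :
    Nonempty (Cfsg.isometryGroup F (Cfsg.quadFormMinus 0 F a b) ≃*
      DihedralGroup (Fintype.card F + 1)) := by
  classical
  set f : F[X] := X ^ 2 + C a * X + C b with hf
  have hdeg : f.natDegree = 2 := by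
    rw [hf]; compute_degree!
  have hnoroot : ∀ x, ¬ IsRoot f x := by
    intro x hx
    rw [IsRoot.def, hf] at hx
    simp only [eval_add, eval_pow, eval_X, eval_mul, eval_C] at hx
    have := hab x 1 (by rw [← hx]; ring)
    exact one_ne_zero this.2
  have hirr : Irreducible f :=
    irreducible_of_degree_le_three_of_not_isRoot (by rw [hdeg]; decide) hnoroot
  haveI : Fact (Irreducible f) := ⟨hirr⟩
  have hfr : Module.finrank F (AdjoinRoot f) = 2 := by
    rw [(AdjoinRoot.powerBasis hirr.ne_zero).finrank, AdjoinRoot.powerBasis_dim, hdeg]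
  haveI : FiniteDimensional F (AdjoinRoot f) := Module.finite_of_finrank_pos (by omega)
  haveI : Finite (AdjoinRoot f) := Module.finite_of_finite F
  haveI : Fintype (AdjoinRoot f) := Fintype.ofFinite _
  obtain ⟨θ, hθ⟩ := exists_root_quadratic (K := AdjoinRoot f) hfr a b hab
  have hinj := Phi0_injective (K := AdjoinRoot f) hfr a b hab θ hθ
  have hfr' : Module.finrank F (I2 → F) = Module.finrank F (AdjoinRoot f) := by
    rw [hfr, Module.finrank_fintype_fun_eq_card]
    rfl
  have hsurj : Function.Surjective (Phi0 (F := F) θ) :=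
    (LinearMap.injective_iff_surjective_of_finrank_eq_finrank hfr').mp hinj
  let Φ : (I2 → F) ≃ₗ[F] AdjoinRoot f := LinearEquiv.ofBijective (Phi0 θ) ⟨hinj, hsurj⟩
  apply main_gen Φ.symm hfr
  intro x
  have h := Phi0_norm (K := AdjoinRoot f) hfr a b hab θ hθ (Φ.symm x)
  have h2 : Phi0 θ (Φ.symm x) = x := Φ.apply_symm_apply x
  rw [h, h2]

end Final

/-- GO^-_2(q) is dihedral of order 2(q+1). -/
theorem result {F : Type*} [Field F] [Fintype F] {q : ℕ} (hF : Fintype.card F = q) (a b : F) (hab : ∀ z₁ z₂ : F, z₁ ^ 2 + a * z₁ * z₂ + b * z₂ ^ 2 = 0 → z₁ = 0 ∧ z₂ = 0) : Nonempty (Cfsg.isometryGroup F (Cfsg.quadFormMinus 0 F a b) ≃* DihedralGroup (q + 1)) := by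
  subst hF
  exact result' a b hab

end Cfsg.Agent.S0306
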