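import Cfsg.Statements.S0307
import Mathlib

set_option autoImplicit false
open Cfsg

namespace Cfsg.Agent.S0307

/-- PSL_n(q) is normal in PGL_n(q) with cyclic quotient of order gcd(n, q-1): the image of the natural map PSL_n → PGL_n is the kernel of a surjective homomorphism onto the cyclic group of that order. -/
theorem result {F : Type*} [Field F] [Fintype F] {q : ℕ} (hF : Fintype.card F = q) (n : ℕ) (hn : 1 ≤ n) : ∃ g : Matrix.ProjGenLinGroup (Fin n) F →* Multiplicative (ZMod (Nat.gcd n (q - 1))), Function.Surjective g ∧ g.ker = (Matrix.ProjectiveSpecialLinearGroup.toPGL : Matrix.ProjectiveSpecialLinearGroup (Fin n) F →* Matrix.ProjGenLinGroup (Fin n) F).range := by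
  classical
  set d := Nat.gcd n (q - 1) with hd
  have hdpos : 0 < d := Nat.gcd_pos_of_pos_left _ hn
  have : NeZero d := ⟨hdpos.ne'⟩
  set P : Subgroup Fˣ := (powMonoidHom n : Fˣ →* Fˣ).range with hP
  have hcardF : Nat.card Fˣ = q - 1 := by
    rw [Nat.card_units, Nat.card_eq_fintype_card, hF]
  have hidx : P.index = d := by
    rw [hP, IsCyclic.index_powMonoidHom_range, hcardF, Nat.gcd_comm]
  have : IsCyclic (Fˣ ⧸ P) :=
    isCyclic_of_surjective (QuotientGroup.mk' P) (QuotientGroup.mk'_surjective P)
  have hcard : Nat.card (Fˣ ⧸ P) = Nat.card (Multiplicative (ZMod d)) := by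
    rw [← Subgroup.index_eq_card, hidx]
    simp
  let e : (Fˣ ⧸ P) ≃* Multiplicative (ZMod d) := mulEquivOfCyclicCardEq hcard
  let f : GL (Fin n) F →* (Fˣ ⧸ P) := (QuotientGroup.mk' P).comp Matrix.GeneralLinearGroup.det
  have hf : f.comp (Matrix.GeneralLinearGroup.scalar (Fin n)) = 1 := by
    ext u
    simp only [f, MonoidHom.comp_apply, MonoidHom.one_apply, QuotientGroup.mk'_apply,
      QuotientGroup.eq_one_iff, Matrix.GeneralLinearGroup.det_scalar, Fintype.card_fin]
    exact ⟨u, rfl⟩
  have hfA : ∀ A : GL (Fin n) F, f A = 1 ↔ ∃ u : Fˣ, u ^ n = Matrix.GeneralLinearGroup.det A := by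
    intro A
    simp only [f, MonoidHom.comp_apply, QuotientGroup.mk'_apply, QuotientGroup.eq_one_iff]
    rfl
  refine ⟨e.toMonoidHom.comp (Matrix.ProjGenLinGroup.lift f hf), ?_, ?_⟩
  · have : Nonempty (Fin n) := ⟨⟨0, hn⟩⟩
    have hfs : Function.Surjective f :=
      (QuotientGroup.mk'_surjective P).comp Matrix.GeneralLinearGroup.det_surjective
    have hl : Function.Surjective (Matrix.ProjGenLinGroup.lift f hf) := by
      intro y
      obtain ⟨A, hA⟩ := hfs y
      exact ⟨Matrix.ProjGenLinGroup.mk A, by rw [Matrix.ProjGenLinGroup.lift_mk, hA]⟩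
    exact e.surjective.comp hl
  · have hg : ∀ A : GL (Fin n) F,
        (e.toMonoidHom.comp (Matrix.ProjGenLinGroup.lift f hf)) (Matrix.ProjGenLinGroup.mk A) = 1
          ↔ f A = 1 := by
      intro A
      rw [MonoidHom.comp_apply, Matrix.ProjGenLinGroup.lift_mk]
      exact e.map_eq_one_iff
    ext x
    induction x using Matrix.ProjGenLinGroup.induction_on with
    | mk A =>
      rw [MonoidHom.mem_ker, MonoidHom.mem_range]
      constructor
      · rw [hg, hfA]
        rintro ⟨u, hu⟩
        let B : GL (Fin n) F := A * Matrix.GeneralLinearGroup.scalar (Fin n) u⁻¹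
        have hB : Matrix.GeneralLinearGroup.det B = 1 := by
          simp only [B, map_mul, Matrix.GeneralLinearGroup.det_scalar, Fintype.card_fin, ← hu]
          simp
        have hB' : (B : Matrix (Fin n) (Fin n) F).det = 1 := by
          have := congrArg Units.val hB
          simpa using this
        let S : Matrix.SpecialLinearGroup (Fin n) F := ⟨B.val, hB'⟩
        refine ⟨QuotientGroup.mk S, ?_⟩
        rw [Matrix.ProjectiveSpecialLinearGroup.toPGL_mk, Matrix.ProjGenLinGroup.mk_eq_mk_iff]
        refine ⟨u, ?_⟩
        have hS : Matrix.SpecialLinearGroup.toGL S = B := by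
          ext i j
          rfl
        rw [hS]
        simp only [B, mul_assoc, ← map_mul]
        simp
      · rintro ⟨y, hy⟩
        induction y using QuotientGroup.induction_on with
        | H S =>
          rw [Matrix.ProjectiveSpecialLinearGroup.toPGL_mk] at hy
          have h1 : f (Matrix.SpecialLinearGroup.toGL S) = 1 := by
            rw [hfA]
            refine ⟨1, ?_⟩
            rw [one_pow]
            ext
            simp
          rw [← hy, hg]
          exact h1

end Cfsg.Agent.S0307
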