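import Cfsg.Statements.S0323

set_option autoImplicit false
open Cfsg
open scoped Pointwise

namespace Cfsg.Agent.S0323

variable {G Ω : Type*} [Group G] [MulAction G Ω]

theorem memN {x y : Ω} {g : G} : g ∈ MulAction.stabilizer G ({x, y} : Set Ω) ↔
    (g • x = x ∧ g • y = y) ∨ (g • x = y ∧ g • y = x) := by
  rw [MulAction.mem_stabilizer_iff, ← Set.image_smul, Set.image_pair, Set.pair_eq_pair_iff]

theorem inv_smul_of_smul {g : G} {a b : Ω} (h : g • a = b) : g⁻¹ • b = a := by
  rw [← h, inv_smul_smul]

/-- Every element either fixes `x` or lies in `B s B`. -/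
theorem cases_aux (h2 : MulAction.IsMultiplyPretransitive G Ω 2) {x y : Ω} (hxy : x ≠ y)
    {s : G} (hsx : s • x = y) (g : G) (hg : g • x ≠ x) :
    ∃ b ∈ MulAction.stabilizer G x, ∃ t ∈ MulAction.stabilizer G x, g = b * s * t := by
  rw [MulAction.is_two_pretransitive_iff] at h2
  obtain ⟨b, hbx, hby⟩ := h2 hxy (Ne.symm hg)
  refine ⟨b, hbx, s⁻¹ * b⁻¹ * g, ?_, by group⟩
  rw [MulAction.mem_stabilizer_iff, mul_smul, mul_smul, ← hby, inv_smul_smul]
  exact inv_smul_of_smul hsx

/-- A doubly transitive action on a set with at least three points yields a (B,N)-pair of rank one: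
`B` is the stabiliser of a point `x`, `N` the setwise stabiliser of a pair `{x, y}`. -/
theorem result {G Ω : Type*} [Group G] [MulAction G Ω]
    (h2 : MulAction.IsMultiplyPretransitive G Ω 2) {x y z : Ω} (hxy : x ≠ y) (hyz : y ≠ z) (hxz : x ≠ z) :
    ∃ P : Cfsg.BNPair G, P.B = MulAction.stabilizer G x ∧
      P.N = MulAction.stabilizer G ({x, y} : Set Ω) ∧ P.rank = 1 := by
  have h2' := h2
  rw [MulAction.is_two_pretransitive_iff] at h2'
  obtain ⟨s, hsx, hsy⟩ := h2' hxy (Ne.symm hxy)
  have hsN : s ∈ MulAction.stabilizer G ({x, y} : Set Ω) := memN.2 (Or.inr ⟨hsx, hsy⟩)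
  have hsinvy : s⁻¹ • y = x := inv_smul_of_smul hsx
  have hsinvx : s⁻¹ • x = y := inv_smul_of_smul hsy
  have hcases := fun g hg => cases_aux h2 hxy hsx g hg
  -- elements of T fix y as well
  have hT : ∀ t : G, t ∈ MulAction.stabilizer G x ⊓ MulAction.stabilizer G ({x, y} : Set Ω) →
      t • x = x ∧ t • y = y := by
    intro t ht
    have h1 : t • x = x := ht.1
    rcases memN.1 ht.2 with h | h
    · exact h
    · exact absurd (h1.symm.trans h.1) hxy
  refine ⟨{ B := MulAction.stabilizer G x
            N := MulAction.stabilizer G ({x, y} : Set Ω)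
            S := {s}
            sup_eq_top := ?_
            conj_mem := ?_
            subset := ?_
            sq_mem := ?_
            inj := ?_
            closure_sup := ?_
            mul_mem_union := ?_
            conj_ne := ?_ }, rfl, rfl, ?_⟩
  · -- sup_eq_top
    rw [eq_top_iff]
    intro g _
    by_cases hg : g • x = x
    · exact Subgroup.mem_sup_left hg
    · obtain ⟨b, hb, t, ht, rfl⟩ := hcases g hg
      exact Subgroup.mul_mem _ (Subgroup.mul_mem _ (Subgroup.mem_sup_left hb)
        (Subgroup.mem_sup_right hsN)) (Subgroup.mem_sup_left ht)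
  · -- conj_mem
    intro n hn t ht
    obtain ⟨htx, hty⟩ := hT t ht
    rw [MulAction.mem_stabilizer_iff, mul_smul, mul_smul]
    rcases memN.1 hn with h | h
    · rw [inv_smul_of_smul h.1, htx, h.1]
    · rw [inv_smul_of_smul h.2, hty, h.2]
  · -- subset
    intro s' hs'
    rw [Set.mem_singleton_iff] at hs'
    rw [hs']; exact hsN
  · -- sq_mem
    intro s' hs'
    rw [Set.mem_singleton_iff] at hs'
    rw [hs', MulAction.mem_stabilizer_iff, mul_smul, hsx, hsy]
  · -- inj
    intro s1 hs1 s2 hs2 _
    rw [Set.mem_singleton_iff] at hs1 hs2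
    rw [hs1, hs2]
  · -- closure_sup
    apply le_antisymm
    · apply sup_le
      · rw [Subgroup.closure_le, Set.singleton_subset_iff]; exact hsN
      · exact inf_le_right
    · intro n hn
      rcases memN.1 hn with h | h
      · exact Subgroup.mem_sup_right ⟨h.1, hn⟩
      · have ht : s⁻¹ * n ∈ MulAction.stabilizer G x ⊓ MulAction.stabilizer G ({x, y} : Set Ω) := by
          refine ⟨?_, Subgroup.mul_mem _ (Subgroup.inv_mem _ hsN) hn⟩
          change s⁻¹ * n ∈ MulAction.stabilizer G x
          rw [MulAction.mem_stabilizer_iff, mul_smul, h.1, hsinvy]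
        have : n = s * (s⁻¹ * n) := by group
        rw [this]
        exact Subgroup.mul_mem _ (Subgroup.mem_sup_left (Subgroup.subset_closure rfl))
          (Subgroup.mem_sup_right ht)
  · -- mul_mem_union
    intro s' hs' n hn b hb
    rw [Set.mem_singleton_iff] at hs'
    subst hs'
    rcases memN.1 hn with h | h
    · left
      rw [DoubleCoset.mem_doubleCoset]
      refine ⟨1, Subgroup.one_mem _, n⁻¹ * b * n, ?_, by group⟩
      have hnB : n ∈ MulAction.stabilizer G x := h.1
      exact Subgroup.mul_mem _ (Subgroup.mul_mem _ (Subgroup.inv_mem _ hnB) hb) hnB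
    · by_cases hg : (s' * b * n) • x = x
      · left
        rw [DoubleCoset.mem_doubleCoset]
        have hsn : s' * n ∈ MulAction.stabilizer G x := by
          rw [MulAction.mem_stabilizer_iff, mul_smul, h.1, hsy]
        refine ⟨s' * b * n * (s' * n)⁻¹, ?_, 1, Subgroup.one_mem _, by group⟩
        exact Subgroup.mul_mem _ hg (Subgroup.inv_mem _ hsn)
      · right
        rw [DoubleCoset.mem_doubleCoset]
        obtain ⟨b', hb', t', ht', e⟩ := hcases _ hg
        have ht : s'⁻¹ * n ∈ MulAction.stabilizer G x := by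
          rw [MulAction.mem_stabilizer_iff, mul_smul, h.1, hsinvy]
        refine ⟨b', hb', (s'⁻¹ * n)⁻¹ * t', ?_, by rw [e]; group⟩
        exact Subgroup.mul_mem _ (Subgroup.inv_mem _ ht) ht'
  · -- conj_ne
    intro s' hs'
    rw [Set.mem_singleton_iff] at hs'
    subst hs'
    intro heq
    obtain ⟨b, hbx, hby⟩ := h2' hxy hxz
    have hmem : s' * b * s' ∈ (fun b : G => s' * b * s') '' (MulAction.stabilizer G x : Set G) :=
      ⟨b, hbx, rfl⟩
    rw [heq] at hmem
    have h1 : (s' * b * s') • x = x := hmem
    rw [mul_smul, mul_smul, hsx, hby] at h1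
    have h3 : s' • z = s' • y := h1.trans hsy.symm
    exact hyz (MulAction.injective s' h3).symm
  · -- rank
    unfold BNPair.rank
    simp
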