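import Cfsg.Statements.S0325
import Mathlib
import Cfsg.Agent.Lib.Helper39.SzSimple
import Cfsg.Agent.Lib.Helper39.SzModels

set_option autoImplicit false
open Cfsg

namespace Cfsg.Agent.S0325

open Cfsg.Agent.Helper39

/-- The Suzuki group over a field with `2^(2m+1)` elements, `m ≥ 1`, is a simple group. -/
theorem result {F : Type*} [Field F] [Fintype F] {m : ℕ} (hm : 1 ≤ m)
    (hF : Fintype.card F = 2 ^ (2 * m + 1)) :
    IsSimpleGroup (Cfsg.Sz F m) := by
  have hw : ∃ w : F, w ≠ 0 ∧ w ≠ 1 := by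
    apply exists_ne_zero_one
    rw [hF]
    have : 2 ^ 1 < 2 ^ (2 * m + 1) := Nat.pow_lt_pow_right (by norm_num) (by omega)
    simpa using this
  exact (cfsgSzModel m hm hF).isSimpleGroup (titsHyp_of_card m hF) hw

end Cfsg.Agent.S0325
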