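import Cfsg.Statements.S0327
import Mathlib
import Cfsg.Agent.Lib.Helper39.SzZass

set_option autoImplicit false
open Cfsg

namespace Cfsg.Agent.S0327

open Cfsg.Agent.Helper39

/-- The Suzuki group (`m ≥ 1`) is a Zassenhaus group on the `q² + 1` points of the Suzuki–Tits ovoid. -/
theorem result {F : Type*} [Field F] [Fintype F] {m : ℕ} (hm : 1 ≤ m)
    (hF : Fintype.card F = 2 ^ (2 * m + 1)) :
    Cfsg.IsZassenhausGroup (Cfsg.Sz F m) (Cfsg.suzukiOvoid F m) := by
  have h := titsHyp_of_card m hF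
  have hw : ∃ w : F, w ≠ 0 ∧ w ≠ 1 := by
    apply exists_ne_zero_one
    rw [hF]
    have : 2 ^ 1 < 2 ^ (2 * m + 1) := Nat.pow_lt_pow_right (by norm_num) (by omega)
    simpa using this
  set X := cfsgSzModel m hm hF with hX
  -- torus elements fix both base points
  have hfix : ∀ k : Fˣ, X.mEl h k • pInf F m = pInf F m ∧ X.mEl h k • pZero F m = pZero F m :=
    fun k => (smul_pInf_pZero_eq_iff m hm hF _).mpr ⟨k, rfl⟩
  -- a nontrivial torus element
  obtain ⟨w, hw0, hw1⟩ := hw
  have hmw : X.mEl h (Units.mk0 w hw0) ≠ 1 := by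
    intro hcon
    rw [← map_one (X.mEl h)] at hcon
    have := X.mEl_injective h hcon
    exact hw1 (congrArg Units.val this)
  -- a third point
  have hthird : ∃ c : ↥(Cfsg.suzukiOvoid F m), c ≠ pInf F m ∧ c ≠ pZero F m := by
    refine ⟨X.uEl h 1 0 • pZero F m, ?_, ?_⟩
    · intro hcon
      rw [← uEl_smul_pInf m hm hF 1 0] at hcon
      exact pInf_ne_pZero (F := F) m (smul_left_cancel _ hcon).symm
    · intro hcon
      obtain ⟨k, hk⟩ := (smul_pInf_pZero_eq_iff m hm hF _).mp ⟨uEl_smul_pInf m hm hF 1 0, hcon⟩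
      have e : X.mEl h k * X.uEl h 0 0 = X.mEl h 1 * X.uEl h 1 0 := by
        rw [X.uEl_zero h, mul_one, map_one, one_mul, hk]
      have := (X.mEl_mul_uEl_inj h e).2.1
      exact zero_ne_one this
  refine ⟨⟨?_⟩, two_pretransitive_ovoid m hm hF, ?_, ?_, ?_⟩
  · -- faithful
    intro g g' hgg'
    obtain ⟨c, hc1, hc2⟩ := hthird
    have hfixall : ∀ p : ↥(Cfsg.suzukiOvoid F m), (g'⁻¹ * g) • p = p := by
      intro p
      rw [mul_smul, hgg' p, inv_smul_smul]
    have := eq_one_of_fix_three m hm hF (g'⁻¹ * g) (pInf F m) (pZero F m) c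
      (pInf_ne_pZero m) hc2.symm hc1.symm (hfixall _) (hfixall _) (hfixall _)
    exact (inv_mul_eq_one.mp this).symm
  · -- three points
    intro g a b c hab hbc hac ha hb hc
    exact eq_one_of_fix_three m hm hF g a b c hab hbc hac ha hb hc
  · -- two points
    exact ⟨X.mEl h (Units.mk0 w hw0), hmw, pInf F m, pZero F m, pInf_ne_pZero m,
      (hfix _).1, (hfix _).2⟩
  · -- no regular normal subgroup
    intro N hN htrans
    have hsimple : IsSimpleGroup ↥(Cfsg.Sz F m) := X.isSimpleGroup h ⟨w, hw0, hw1⟩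
    have hNbot : N ≠ ⊥ := by
      intro hbot
      obtain ⟨n, hn⟩ := htrans.exists_smul_eq (pInf F m) (pZero F m)
      have hn1 : (n : ↥(Cfsg.Sz F m)) = 1 := by
        have hle : N ≤ ⊥ := le_of_eq hbot
        exact Subgroup.mem_bot.mp (hle n.2)
      have : (n : ↥(Cfsg.Sz F m)) • pInf F m = pZero F m := hn
      rw [hn1, one_smul] at this
      exact pInf_ne_pZero m this
    have hNtop : N = ⊤ := (hN.eq_bot_or_eq_top).resolve_left hNbot
    refine ⟨pInf F m, ?_⟩
    intro hbot
    have hmem : (⟨X.mEl h (Units.mk0 w hw0), by rw [hNtop]; trivial⟩ : ↥N) ∈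
        MulAction.stabilizer ↥N (pInf F m) := by
      rw [MulAction.mem_stabilizer_iff]
      exact (hfix _).1
    rw [hbot, Subgroup.mem_bot] at hmem
    exact hmw (congrArg Subtype.val hmem)

end Cfsg.Agent.S0327
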