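import Cfsg.Statements.S0332
import Cfsg.Agent.Lib.Helper37.SzAniso

set_option autoImplicit false
open Cfsg

namespace Cfsg.Agent.S0332

open Cfsg.Agent.Helper37 Cfsg.Agent.Helper6

theorem nilpotent_of_comm {K : Type*} [Group K] (h : ∀ a b : K, a * b = b * a) :
    Group.IsNilpotent K := by
  letI : CommGroup K := { (inferInstance : Group K) with mul_comm := h }
  infer_instance

/-- The Suzuki group is a CN-group: every non-identity element has nilpotent centraliser. -/
theorem result {F : Type*} [Field F] [Fintype F] {m : ℕ} (hm : 1 ≤ m)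
    (hF : Fintype.card F = 2 ^ (2 * m + 1)) : Cfsg.IsCNGroup (Cfsg.Sz F m) := by
  have h : SzHyp F (2 ^ (m + 1)) := szHyp_of_card hF
  intro g hg1
  have hcent : ∀ (x z : ↥(Cfsg.Sz F m)), g = x * z * x⁻¹ →
      ∀ c ∈ Subgroup.centralizer ({g} : Set ↥(Cfsg.Sz F m)),
        (x⁻¹ * c * x) * z = z * (x⁻¹ * c * x) := by
    intro x z hx c hc
    rw [Subgroup.mem_centralizer_iff] at hc
    have hcg : g * c = c * g := hc g (Set.mem_singleton g)
    have hz : z = x⁻¹ * g * x := by rw [hx]; group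
    rw [hz]
    have e1 : x⁻¹ * c * x * (x⁻¹ * g * x) = x⁻¹ * (c * g) * x := by group
    have e2 : x⁻¹ * g * x * (x⁻¹ * c * x) = x⁻¹ * (g * c) * x := by group
    rw [e1, e2, hcg]
  rcases classify hm hF h g hg1 with ⟨x, a, b, hne, hx⟩ | ⟨x, s, hs, hx⟩ | hX
  · -- unipotent: the centraliser is a 2-group
    haveI : Fact (Nat.Prime 2) := ⟨Nat.prime_two⟩
    apply IsPGroup.isNilpotent (p := 2)
    intro c
    refine ⟨2, ?_⟩
    have hq := comm_qG hm hF h hne _ (hcent x _ hx c.1 c.2)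
    obtain ⟨a', b', hab⟩ := hq
    have h4 : (x⁻¹ * c.1 * x) ^ 4 = 1 := by rw [hab, qG_pow_four]
    have e : (x⁻¹ * c.1 * x) ^ 4 = x⁻¹ * c.1 ^ 4 * x := by
      have := conj_pow (a := x⁻¹) (b := c.1) (i := 4)
      rw [inv_inv] at this
      exact this
    rw [e] at h4
    have h4' : c.1 ^ 4 = 1 := by
      have : c.1 ^ 4 = x * (x⁻¹ * c.1 ^ 4 * x) * x⁻¹ := by group
      rw [this, h4]
      group
    apply Subtype.ext
    rw [Subgroup.coe_pow]
    exact h4'
  · -- torus: the centraliser is commutative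
    apply nilpotent_of_comm
    intro c c'
    obtain ⟨t, ht⟩ := comm_hG hm hF h hs _ (hcent x _ hx c.1 c.2)
    obtain ⟨t', ht'⟩ := comm_hG hm hF h hs _ (hcent x _ hx c'.1 c'.2)
    apply Subtype.ext
    rw [Subgroup.coe_mul, Subgroup.coe_mul]
    have e1 : c.1 = x * hG h t * x⁻¹ := by rw [← ht]; group
    have e2 : c'.1 = x * hG h t' * x⁻¹ := by rw [← ht']; group
    rw [e1, e2]
    have e3 : x * hG h t * x⁻¹ * (x * hG h t' * x⁻¹) = x * (hG h t * hG h t') * x⁻¹ := by group
    have e4 : x * hG h t' * x⁻¹ * (x * hG h t * x⁻¹) = x * (hG h t' * hG h t) * x⁻¹ := by group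
    rw [e3, e4, hG_mul, hG_mul, mul_comm]
  · -- anisotropic: the centraliser is cyclic
    haveI := X_centralizer_cyclic hm hF h g hX
    apply nilpotent_of_comm
    intro c c'
    exact mul_comm' c c'

end Cfsg.Agent.S0332
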