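import Cfsg.Statements.S0335
import Cfsg.Agent.Lib.Helper6.SzOvoid2

set_option autoImplicit false
open Cfsg

namespace Cfsg.Agent.S0335

open Cfsg.Agent.Helper6

/-- The Suzuki–Tits point set is an ovoid: any three distinct points of it are projectively independent
(no line of projective 3-space meets it in more than two points). -/
theorem result {F : Type*} [Field F] [Fintype F] {m : ℕ} (hm : 1 ≤ m)
    (hF : Fintype.card F = 2 ^ (2 * m + 1)) (p : Fin 3 ↪ Cfsg.suzukiOvoid F m) :
    Projectivization.Independent (fun i => (p i : Projectivization F (Fin 4 → F))) := by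
  have h := szHyp_of_card hF
  choose v hv hp hcase using fun i => (p i).2
  have hfun : (fun i => (p i : Projectivization F (Fin 4 → F))) =
      fun i => Projectivization.mk F (v i) (hv i) := funext hp
  rw [hfun]
  apply Projectivization.Independent.mk
  have hdist : ∀ i j, i ≠ j → v i ≠ v j := by
    intro i j hij hvij
    apply hij
    apply p.injective
    apply Subtype.ext
    rw [hp i, hp j]
    exact (Projectivization.mk_eq_mk_iff' F _ _ _ _).2 ⟨1, by rw [one_smul, hvij]⟩
  have key : LI3 (v 0) (v 1) (v 2) := by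
    have d01 := hdist 0 1 (by decide)
    have d02 := hdist 0 2 (by decide)
    have d12 := hdist 1 2 (by decide)
    rcases hcase 0 with h0 | ⟨x0, y0, h0⟩ <;> rcases hcase 1 with h1 | ⟨x1, y1, h1⟩ <;>
      rcases hcase 2 with h2 | ⟨x2, y2, h2⟩
    · exact absurd (h0.trans h1.symm) d01
    · exact absurd (h0.trans h1.symm) d01
    · exact absurd (h0.trans h2.symm) d02
    · -- ∞, aff, aff
      rw [h0, h1, h2]
      have hne : ¬ (x1 = x2 ∧ y1 = y2) := by
        rintro ⟨rfl, rfl⟩
        exact d12 (h1.trans h2.symm)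
      exact h.li_inf hne
    · exact absurd (h1.trans h2.symm) d12
    · -- aff, ∞, aff
      rw [h0, h1, h2]
      have hne : ¬ (x0 = x2 ∧ y0 = y2) := by
        rintro ⟨rfl, rfl⟩
        exact d02 (h0.trans h2.symm)
      exact (h.li_inf hne).swap01
    · -- aff, aff, ∞
      rw [h0, h1, h2]
      have hne : ¬ (x0 = x1 ∧ y0 = y1) := by
        rintro ⟨rfl, rfl⟩
        exact d01 (h0.trans h1.symm)
      exact ((h.li_inf hne).swap01).swap12
    · -- aff, aff, aff
      rw [h0, h1, h2]
      have hne01 : ¬ (x0 = x1 ∧ y0 = y1) := by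
        rintro ⟨rfl, rfl⟩
        exact d01 (h0.trans h1.symm)
      have hne02 : ¬ (x0 = x2 ∧ y0 = y2) := by
        rintro ⟨rfl, rfl⟩
        exact d02 (h0.trans h2.symm)
      have hne12 : ¬ (x1 = x2 ∧ y1 = y2) := by
        rintro ⟨rfl, rfl⟩
        exact d12 (h1.trans h2.symm)
      exact h.li_aff hne01 hne02 hne12
  rw [Fintype.linearIndependent_iff]
  intro g hg
  rw [Fin.sum_univ_three] at hg
  obtain ⟨g0, g1, g2⟩ := key (g 0) (g 1) (g 2) hg
  intro i
  fin_cases i
  · exact g0
  · exact g1
  · exact g2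

end Cfsg.Agent.S0335
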