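import Cfsg.Statements.S0341
import Mathlib
import Cfsg.Agent.S0035
import Cfsg.Agent.Lib.Helper61.TwoFrob
import Cfsg.Agent.Lib.Helper61.RegField
import Cfsg.Agent.Lib.Helper45.CNSolv
-- import your own Cfsg.Agent.* helpers here

set_option autoImplicit false
set_option linter.style.haveILetI false
open Cfsg

namespace Cfsg.Agent.S0341

open scoped IsMulCommutative Pointwise

section aux

variable {G : Type*} [Group G]

/-- conjugation action of `G` on (the additive version of) a normal subgroup. -/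
noncomputable def conjT (N : Subgroup G) [N.Normal] : G →* AddMonoid.End (Additive N) where
  toFun g := (MulEquiv.toAdditive (MulAut.conjNormal g : MulAut N)).toAddMonoidHom
  map_one' := by
    ext x
    simp
    rfl
  map_mul' := by
    intro g g'
    ext x
    simp
    rfl

theorem conjT_apply (N : Subgroup G) [N.Normal] (g : G) (ν : N) :
    conjT N g (Additive.ofMul ν) = Additive.ofMul (MulAut.conjNormal g ν) := rfl

theorem conjT_eq_iff (N : Subgroup G) [N.Normal] (g : G) (ν μ : N) :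
    conjT N g (Additive.ofMul ν) = Additive.ofMul μ ↔ g * ν * g⁻¹ = μ := by
  rw [conjT_apply]
  constructor
  · intro h
    have := congrArg (fun t : Additive N => ((Additive.toMul t : N) : G)) h
    simpa [MulAut.conjNormal_apply] using this
  · intro h
    congr 1
    apply Subtype.ext
    rw [MulAut.conjNormal_apply]
    exact h

/-- group-theoretic form of the field lemma. -/
theorem card_normal_eq_two_pow [Finite G] (N : Subgroup G) [N.Normal] [IsMulCommutative N]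
    (K : Subgroup G) (hKc : ∀ x ∈ K, ∀ y ∈ K, x * y = y * x)
    (ν₀ : G) (hν₀N : ν₀ ∈ N) (hν₀ : ν₀ ≠ 1)
    (htrans : ∀ ν ∈ N, ν ≠ 1 → ∃ κ ∈ K, κ * ν₀ * κ⁻¹ = ν)
    (hsemi : ∀ κ ∈ K, κ * ν₀ * κ⁻¹ = ν₀ → κ = 1)
    (h : G) (ℓ : ℕ) (hℓ : ℓ.Prime) (hhℓ : h ^ ℓ = 1)
    (hnorm : ∀ κ ∈ K, h * κ * h⁻¹ ∈ K) (hnorm' : ∀ κ ∈ K, h⁻¹ * κ * h ∈ K)
    (hfpf : ∀ κ ∈ K, h * κ * h⁻¹ = κ → κ = 1)
    (κ₁ : G) (hκ₁ : κ₁ ∈ K) (hκ₁1 : κ₁ ≠ 1) :
    Nat.card N = 2 ^ ℓ := by
  have hc : Nat.card (Additive N) = Nat.card N := Nat.card_congr Additive.toMul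
  rw [← hc]
  refine Helper61.RegField.card_eq_two_pow (conjT N) K hKc (Additive.ofMul ⟨ν₀, hν₀N⟩) ?_ ?_ ?_
    h ℓ hℓ hhℓ hnorm hnorm' hfpf κ₁ hκ₁ hκ₁1
  · intro h0
    apply hν₀
    have := congrArg (fun t : Additive N => ((Additive.toMul t : N) : G)) h0
    simpa using this
  · intro u hu
    obtain ⟨ν, rfl⟩ : ∃ ν : N, Additive.ofMul ν = u := ⟨Additive.toMul u, rfl⟩
    have hν1 : (ν : G) ≠ 1 := by
      intro h1
      apply hu
      have : ν = 1 := Subtype.ext h1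
      rw [this]; rfl
    obtain ⟨κ, hκ, hκν⟩ := htrans ν ν.2 hν1
    exact ⟨κ, hκ, (conjT_eq_iff N κ ⟨ν₀, hν₀N⟩ ν).2 hκν⟩
  · intro κ hκ hκv
    exact hsemi κ hκ ((conjT_eq_iff N κ ⟨ν₀, hν₀N⟩ ⟨ν₀, hν₀N⟩).1 hκv)

end aux

/-- If a finite group acts faithfully and doubly transitively, no non-identity element fixes three points, some
non-identity element fixes two points, and some normal subgroup acts regularly, then the number of points
is `2^p` with `p` prime. -/
theorem result {G Ω : Type*} [Group G]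
    [MulAction G Ω] [Fintype Ω] [FaithfulSMul G Ω] (h2 : MulAction.IsMultiplyPretransitive G Ω 2)
    (h3 : ∀ g : G, ∀ a b c : Ω, a ≠ b → b ≠ c → a ≠ c → g • a = a → g • b = b → g • c = c → g = 1)
    (hfix : ∃ g : G, g ≠ 1 ∧ ∃ a b : Ω, a ≠ b ∧ g • a = a ∧ g • b = b)
    (N : Subgroup G) [N.Normal] (hNt : MulAction.IsPretransitive N Ω)
    (hNr : ∀ a : Ω, MulAction.stabilizer N a = ⊥) :
    ∃ p : ℕ, p.Prime ∧ Fintype.card Ω = 2 ^ p := by
  classical
  haveI : Finite G := Finite.of_injective (MulAction.toPerm : G → Equiv.Perm Ω) MulAction.toPerm_injective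
  obtain ⟨g₀, hg₀, a, b, hab, hga, hgb⟩ := hfix
  rw [MulAction.is_two_pretransitive_iff] at h2
  -- the orbit map of `N`
  have hex : ∀ x : Ω, ∃ ν ∈ N, ν • a = x := by
    intro x
    obtain ⟨ν, hν⟩ := MulAction.exists_smul_eq N a x
    exact ⟨ν, ν.2, hν⟩
  have huniq : ∀ ν ∈ N, ∀ ν' ∈ N, ν • a = ν' • a → ν = ν' := by
    intro ν hν ν' hν' he
    have hmem : (⟨ν'⁻¹ * ν, N.mul_mem (N.inv_mem hν') hν⟩ : N) ∈ MulAction.stabilizer N a := by
      rw [MulAction.mem_stabilizer_iff]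
      show (ν'⁻¹ * ν) • a = a
      rw [mul_smul, he, inv_smul_smul]
    rw [hNr a, Subgroup.mem_bot] at hmem
    have h1 : ν'⁻¹ * ν = 1 := congrArg Subtype.val hmem
    exact (inv_mul_eq_one.1 h1).symm
  have hfix3 : ∀ g : G, g ≠ 1 → g • a = a → ∀ x y : Ω, x ≠ a → y ≠ a → g • x = x → g • y = y →
      x = y := by
    intro g hg hga x y hxa hya hgx hgy
    by_contra hxy
    exact hg (h3 g a x y (Ne.symm hxa) hxy (Ne.symm hya) hga hgx hgy)
  have hconj_smul : ∀ m : G, m • a = a → ∀ ν : G, (m * ν * m⁻¹) • a = m • (ν • a) := by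
    intro m hm ν
    have h1 : m⁻¹ • a = a := by rw [inv_smul_eq_iff, hm]
    rw [mul_smul, h1, mul_smul]
  have hconjN : ∀ m ν : G, ν ∈ N → m * ν * m⁻¹ ∈ N := fun m ν hν =>
    Subgroup.Normal.conj_mem inferInstance ν hν m
  -- the element `νb` mapping `a` to `b`
  obtain ⟨νb, hνbN, hνb⟩ := hex b
  have hνb1 : νb ≠ 1 := by
    rintro rfl
    rw [one_smul] at hνb
    exact hab hνb
  have hcomm0 : g₀ * νb * g₀⁻¹ = νb := by
    apply huniq _ (hconjN g₀ νb hνbN) _ hνbN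
    rw [hconj_smul g₀ hga, hνb, hgb]
  have hνb2 : νb * νb = 1 := by
    have h1 : g₀ • ((νb * νb) • a) = (νb * νb) • a := by
      have h4 : g₀ * (νb * νb) * g₀⁻¹ = νb * νb := by
        calc g₀ * (νb * νb) * g₀⁻¹ = (g₀ * νb * g₀⁻¹) * (g₀ * νb * g₀⁻¹) := by group
          _ = νb * νb := by rw [hcomm0]
      rw [← hconj_smul g₀ hga, h4]
    by_cases h2' : (νb * νb) • a = a
    · exact huniq _ (N.mul_mem hνbN hνbN) 1 N.one_mem (by rw [h2', one_smul])
    · exfalso
      have h5 := hfix3 g₀ hg₀ hga _ b h2' (Ne.symm hab) h1 hgb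
      have h6 := huniq _ (N.mul_mem hνbN hνbN) _ hνbN (h5.trans hνb.symm)
      exact hνb1 (mul_left_cancel (a := νb) (by rw [h6, mul_one]))
  -- every element of `N` squares to one
  have hsq : ∀ ν ∈ N, ν * ν = 1 := by
    intro ν hν
    by_cases hν1 : ν = 1
    · rw [hν1, one_mul]
    have hx : ν • a ≠ a := fun he => hν1 (huniq ν hν 1 N.one_mem (by rw [he, one_smul]))
    obtain ⟨m, hma, hmb⟩ := h2 hab (Ne.symm hx)
    have h7 : m * νb * m⁻¹ = ν :=
      huniq _ (hconjN m νb hνbN) _ hν (by rw [hconj_smul m hma, hνb, hmb])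
    rw [← h7]
    calc m * νb * m⁻¹ * (m * νb * m⁻¹) = m * (νb * νb) * m⁻¹ := by group
      _ = 1 := by rw [hνb2]; group
  have hinv : ∀ ν ∈ N, ν⁻¹ = ν := fun ν hν => inv_eq_of_mul_eq_one_right (hsq ν hν)
  haveI hNcomm : IsMulCommutative N := ⟨⟨fun x y => by
    apply Subtype.ext
    show (x : G) * y = y * x
    calc (x : G) * y = ((x : G) * y)⁻¹ := (hinv _ (N.mul_mem x.2 y.2)).symm
      _ = (y : G)⁻¹ * (x : G)⁻¹ := mul_inv_rev _ _
      _ = y * x := by rw [hinv _ x.2, hinv _ y.2]⟩⟩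
  have hcardN : Nat.card N = Fintype.card Ω := by
    rw [← Nat.card_eq_fintype_card]
    apply Nat.card_congr
    refine Equiv.ofBijective (fun ν : N => (ν : G) • a) ⟨?_, ?_⟩
    · intro ν ν' he
      exact Subtype.ext (huniq _ ν.2 _ ν'.2 he)
    · intro x
      obtain ⟨ν, hν, hνx⟩ := hex x
      exact ⟨⟨ν, hν⟩, hνx⟩
  have h2N : 2 ∣ Nat.card N := by
    have h8 : orderOf (⟨νb, hνbN⟩ : N) = 2 := by
      haveI : Fact (Nat.Prime 2) := ⟨Nat.prime_two⟩
      apply orderOf_eq_prime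
      · apply Subtype.ext
        show νb ^ 2 = 1
        rw [pow_two, hνb2]
      · intro h9
        exact hνb1 (congrArg Subtype.val h9)
    rw [← h8]
    exact orderOf_dvd_natCard _
  -- the point stabilizer and its Frobenius structure
  have hmove : ∃ c : Ω, g₀ • c ≠ c := by
    by_contra hcon
    push Not at hcon
    apply hg₀
    apply FaithfulSMul.eq_of_smul_eq_smul (α := Ω)
    intro c
    rw [hcon c, one_smul]
  obtain ⟨c, hc⟩ := hmove
  have hca : c ≠ a := fun h => hc (by rw [h]; exact hga)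
  have hcb : c ≠ b := fun h => hc (by rw [h]; exact hgb)
  let L : Subgroup G := MulAction.stabilizer G a
  let H : Subgroup L := MulAction.stabilizer L b
  have hmemH : ∀ m : L, m ∈ H ↔ (m : G) • b = b := fun m => MulAction.mem_stabilizer_iff
  have hmemconj : ∀ (g x : L), x ∈ MulAut.conj g • H ↔ ((g : G)⁻¹ * x * g) • b = b := by
    intro g x
    rw [Subgroup.mem_pointwise_smul_iff_inv_smul_mem, hmemH]
    simp [MulAut.smul_def]
  have hLa : ∀ m : L, (m : G) • a = a := fun m => m.2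
  have hHF : IsFrobeniusComplement H := by
    refine ⟨?_, ?_, ?_⟩
    · intro hbot
      have h1 : (⟨g₀, hga⟩ : L) ∈ H := (hmemH _).2 hgb
      rw [hbot, Subgroup.mem_bot] at h1
      exact hg₀ (congrArg Subtype.val h1)
    · intro htop
      obtain ⟨m, hma, hmb⟩ := h2 hab (Ne.symm hca)
      have h1 : (⟨m, hma⟩ : L) ∈ H := by rw [htop]; exact Subgroup.mem_top _
      rw [hmemH] at h1
      exact hcb (hmb.symm.trans h1)
    · intro g hg
      rw [eq_bot_iff]
      intro x hx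
      rw [Subgroup.mem_bot]
      obtain ⟨hx1, hx2⟩ := Subgroup.mem_inf.1 hx
      rw [hmemH] at hx1
      rw [hmemconj] at hx2
      rw [hmemH] at hg
      have hgb' : (g : G) • b ≠ a := by
        intro h1
        apply hab
        have : (g : G) • b = (g : G) • a := by rw [h1, hLa g]
        exact (MulAction.injective (g : G) this).symm
      have hx3 : (x : G) • ((g : G) • b) = (g : G) • b := by
        rw [mul_smul, mul_smul, inv_smul_eq_iff] at hx2
        exact hx2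
      apply Subtype.ext
      show (x : G) = 1
      by_contra hx0
      exact hg (hfix3 (x : G) hx0 (hLa x) _ _ hgb' (Ne.symm hab) hx3 hx1)
  obtain ⟨K, hKset, hKn, hKH⟩ := Cfsg.Agent.S0035.result H hHF
  have hKnil : Group.IsNilpotent K := Helper61.TwoFrob.nilpotent hHF hKset.symm
  -- elements of `K` fix no point other than `a`
  have hKder : ∀ κ ∈ K, κ ≠ 1 → ∀ x : Ω, x ≠ a → (κ : G) • x ≠ x := by
    intro κ hκ hκ1 x hxa hκx
    have h1 : κ ∈ frobeniusKernel H := by rw [← hKset]; exact hκ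
    rcases h1 with h1 | h1
    · exact hκ1 h1
    · obtain ⟨m, hma, hmb⟩ := h2 hab (Ne.symm hxa)
      apply h1 ⟨m, hma⟩
      rw [hmemconj]
      show (m⁻¹ * (κ : G) * m) • b = b
      rw [mul_smul, mul_smul, hmb, hκx, inv_smul_eq_iff, hmb]
  have hKtrans : ∀ x : Ω, x ≠ a → ∃ κ ∈ K, (κ : G) • b = x := by
    intro x hxa
    obtain ⟨m, hma, hmb⟩ := h2 hab (Ne.symm hxa)
    obtain ⟨⟨κ, η⟩, hκη⟩ := hKH.2 (⟨m, hma⟩ : L)
    refine ⟨κ.1, κ.2, ?_⟩
    have h1 : ((κ.1 : L) : G) * ((η.1 : L) : G) = m := congrArg Subtype.val hκη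
    have h2' : ((η.1 : L) : G) • b = b := (hmemH _).1 η.2
    rw [← hmb, ← h1, mul_smul, h2']
  -- cardinality of `K`
  have hcardK : Nat.card K + 1 = Fintype.card Ω := by
    have h1 : Nat.card K = Nat.card {x : Ω // x ≠ a} := by
      apply Nat.card_congr
      refine Equiv.ofBijective (fun κ : K => (⟨((κ : L) : G) • b, ?_⟩ : {x : Ω // x ≠ a})) ⟨?_, ?_⟩
      · intro h1
        apply hab
        have : ((κ : L) : G) • b = ((κ : L) : G) • a := by rw [h1, hLa]
        exact (MulAction.injective _ this).symm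
      · intro κ κ' he
        have he' : ((κ : L) : G) • b = ((κ' : L) : G) • b := congrArg Subtype.val he
        by_contra hne
        have h3 : (κ'⁻¹ * κ : K) ≠ 1 := by
          intro h4
          exact hne (inv_mul_eq_one.1 h4).symm
        have h5 : ((κ'⁻¹ * κ : K) : L) ≠ 1 := fun h6 => h3 (Subtype.ext h6)
        refine hKder _ (κ'⁻¹ * κ : K).2 h5 b (Ne.symm hab) ?_
        show (((κ' : L) : G)⁻¹ * ((κ : L) : G)) • b = b
        rw [mul_smul, he', inv_smul_smul]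
      · rintro ⟨x, hx⟩
        obtain ⟨κ, hκ, hκx⟩ := hKtrans x hx
        exact ⟨⟨κ, hκ⟩, Subtype.ext hκx⟩
    rw [h1, Nat.card_eq_fintype_card, Fintype.card_subtype_compl, Fintype.card_subtype_eq]
    have : 0 < Fintype.card Ω := Fintype.card_pos_iff.2 ⟨a⟩
    omega
  -- the image of `K` in `G`
  let K' : Subgroup G := K.map L.subtype
  have hK'mem : ∀ κ : G, κ ∈ K' ↔ ∃ κ₀ : L, κ₀ ∈ K ∧ (κ₀ : G) = κ := by
    intro κ
    show κ ∈ K.map L.subtype ↔ _
    rw [Subgroup.mem_map]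
    rfl
  have hcardK' : Nat.card K' = Nat.card K :=
    (Nat.card_congr (K.equivMapOfInjective L.subtype L.subtype_injective).toEquiv).symm
  have hK'nil : Group.IsNilpotent K' :=
    (Group.nilpotent_of_mulEquiv (K.equivMapOfInjective L.subtype L.subtype_injective))
  have hK'der : ∀ κ ∈ K', κ ≠ 1 → ∀ x : Ω, x ≠ a → κ • x ≠ x := by
    intro κ hκ hκ1 x hxa
    obtain ⟨κ₀, hκ₀, rfl⟩ := (hK'mem κ).1 hκ
    exact hKder κ₀ hκ₀ (fun h => hκ1 (by rw [h]; rfl)) x hxa
  have hK'a : ∀ κ ∈ K', κ • a = a := by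
    intro κ hκ
    obtain ⟨κ₀, hκ₀, rfl⟩ := (hK'mem κ).1 hκ
    exact hLa κ₀
  have hNbot : N ≠ ⊥ := by
    intro hbot
    have : νb ∈ (⊥ : Subgroup G) := by rw [← hbot]; exact hνbN
    exact hνb1 (Subgroup.mem_bot.1 this)
  have hoddK' : Odd (Nat.card K') := by
    rw [hcardK']
    have h1 : 2 ∣ Fintype.card Ω := by rw [← hcardN]; exact h2N
    rw [Nat.odd_iff]
    omega
  have hcop : (Nat.card N).Coprime (Nat.card K') := by
    rw [hcardK', hcardN, ← hcardK, Nat.add_comm, Nat.coprime_add_self_left]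
    exact Nat.coprime_one_left _
  have hK'cyc : IsCyclic K' := by
    refine Helper45.CNS.fpf_cyclic N hNbot K' hK'nil hcop ?_ ?_
    · intro κ hκ hκ1
      rw [eq_bot_iff]
      intro ν hν
      rw [Subgroup.mem_bot]
      obtain ⟨hνN, hνc⟩ := Subgroup.mem_inf.1 hν
      rw [Subgroup.mem_centralizer_iff] at hνc
      have h1 : κ * ν = ν * κ := hνc κ rfl
      have h2' : κ • (ν • a) = ν • a := by
        rw [← mul_smul, h1, mul_smul, hK'a κ hκ]
      by_contra hν1
      have h3' : ν • a ≠ a := fun he => hν1 (huniq ν hνN 1 N.one_mem (by rw [he, one_smul]))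
      exact hK'der κ hκ hκ1 _ h3' h2'
    · intro x hx y hy i j hxi hyj
      have h1 : orderOf x ∣ Nat.card K' := by
        have := orderOf_dvd_natCard (⟨x, hx⟩ : K')
        rwa [Subgroup.orderOf_mk] at this
      have h2' : i = 0 := by
        by_contra hi
        have h3' : 2 ∣ orderOf x := by rw [hxi]; exact dvd_pow_self 2 hi
        have h4 := h3'.trans h1
        rw [Nat.odd_iff] at hoddK'
        omega
      rw [h2', pow_zero, orderOf_eq_one_iff] at hxi
      rw [hxi]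
      exact Commute.one_left y
  have hK'comm : ∀ x ∈ K', ∀ y ∈ K', x * y = y * x := by
    intro x hx y hy
    haveI : IsMulCommutative K' := IsCyclic.isMulCommutative
    have h1 : (⟨x, hx⟩ : K') * ⟨y, hy⟩ = ⟨y, hy⟩ * ⟨x, hx⟩ := mul_comm' _ _
    exact congrArg Subtype.val h1
  -- an element of prime order in `H`
  have hHcard : Nat.card H ≠ 1 := by
    intro h1
    exact hHF.1 (Subgroup.card_eq_one.1 h1)
  have hℓ : (Nat.card H).minFac.Prime := Nat.minFac_prime hHcard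
  haveI : Fact (Nat.card H).minFac.Prime := ⟨hℓ⟩
  obtain ⟨η, hη⟩ := exists_prime_orderOf_dvd_card' (G := H) (Nat.card H).minFac (Nat.minFac_dvd _)
  have hη1 : η ≠ 1 := by
    intro h1
    rw [h1, orderOf_one] at hη
    exact hℓ.one_lt.ne hη
  have hηℓ : ((η : L) : G) ^ (Nat.card H).minFac = 1 := by
    have h1 : η ^ (Nat.card H).minFac = 1 := by rw [← hη]; exact pow_orderOf_eq_one η
    have h2' := congrArg (fun t : H => ((t : L) : G)) h1
    simpa using h2'
  -- a nontrivial element of `K'`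
  have hcK : ∃ κ₁ ∈ K', κ₁ ≠ 1 := by
    obtain ⟨κ, hκ, hκc⟩ := hKtrans c hca
    refine ⟨(κ : G), (hK'mem _).2 ⟨κ, hκ, rfl⟩, ?_⟩
    intro h1
    rw [h1, one_smul] at hκc
    exact hcb hκc.symm
  obtain ⟨κ₁, hκ₁, hκ₁1⟩ := hcK
  refine ⟨(Nat.card H).minFac, hℓ, ?_⟩
  rw [← hcardN]
  refine card_normal_eq_two_pow N K' hK'comm νb hνbN hνb1 ?_ ?_ ((η : L) : G) _ hℓ hηℓ ?_ ?_ ?_
    κ₁ hκ₁ hκ₁1
  · -- transitivity
    intro ν hν hν1
    have hx : ν • a ≠ a := fun he => hν1 (huniq ν hν 1 N.one_mem (by rw [he, one_smul]))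
    obtain ⟨κ, hκ, hκx⟩ := hKtrans _ hx
    refine ⟨(κ : G), (hK'mem _).2 ⟨κ, hκ, rfl⟩, ?_⟩
    apply huniq _ (hconjN _ νb hνbN) _ hν
    rw [hconj_smul _ (hLa κ), hνb, hκx]
  · -- semiregularity
    intro κ hκ hκν
    by_contra hκ1
    refine hK'der κ hκ hκ1 b (Ne.symm hab) ?_
    have h1 := hconj_smul κ (hK'a κ hκ) νb
    rw [hκν, hνb] at h1
    exact h1.symm
  · -- `η` normalises `K'`
    intro κ hκ
    obtain ⟨κ₀, hκ₀, rfl⟩ := (hK'mem κ).1 hκ
    exact (hK'mem _).2 ⟨(η : L) * κ₀ * (η : L)⁻¹, hKn.conj_mem κ₀ hκ₀ (η : L), rfl⟩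
  · intro κ hκ
    obtain ⟨κ₀, hκ₀, rfl⟩ := (hK'mem κ).1 hκ
    refine (hK'mem _).2 ⟨(η : L)⁻¹ * κ₀ * (η : L), ?_, rfl⟩
    have := hKn.conj_mem κ₀ hκ₀ (η : L)⁻¹
    rwa [inv_inv] at this
  · -- fixed-point-freeness
    intro κ hκ hκη
    obtain ⟨κ₀, hκ₀, rfl⟩ := (hK'mem κ).1 hκ
    have h1 : (η : L) * κ₀ = κ₀ * (η : L) := by
      apply Subtype.ext
      show ((η : L) : G) * (κ₀ : G) = (κ₀ : G) * ((η : L) : G)
      calc ((η : L) : G) * (κ₀ : G) = (((η : L) : G) * (κ₀ : G) * ((η : L) : G)⁻¹) * ((η : L) : G) := by group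
        _ = (κ₀ : G) * ((η : L) : G) := by rw [hκη]
    have h2' : κ₀ = 1 := Helper61.TwoFrob.fpf hHF hKset.symm η.2
      (fun h => hη1 (Subtype.ext h)) hκ₀ h1
    rw [h2']
    rfl

end Cfsg.Agent.S0341
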