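import Cfsg.Statements.S0344
import Cfsg.Agent.S0741
import Cfsg.Agent.S0738
import Cfsg.Agent.Lib.Helper19.ZassSharp3
import Cfsg.Agent.Lib.Helper19.ZassPSL

set_option autoImplicit false
open Cfsg

namespace Cfsg.Agent.S0344

/-- A finite simple Zassenhaus group with a two-point stabiliser of even order is isomorphic to `PSL₂(F)` for a finite
field `F` with more than three elements. -/
theorem result {G Ω : Type*} [Group G] [Finite G] [MulAction G Ω] [Finite Ω]
    (hZ : Cfsg.IsZassenhausGroup G Ω) [IsSimpleGroup G]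
    {a b : Ω} (hab : a ≠ b) (heven : Even (Nat.card ↥(MulAction.stabilizer G a ⊓ MulAction.stabilizer G b))) :
    ∃ (F : Type) (_ : Field F) (_ : Fintype F), 3 < Fintype.card F ∧ Nonempty (G ≃* Matrix.ProjectiveSpecialLinearGroup (Fin 2) F) := by
  classical
  haveI := Fintype.ofFinite Ω
  have h1 := Cfsg.Agent.S0741.result hZ hab heven
  obtain ⟨H, hHa, hHcard, hHfix⟩ := Cfsg.Agent.Helper19.ZassD.exists_kernel hZ a
  have hfree : ∀ g : G, g • a = a → g • b = b → ∀ y : Ω, y ≠ a → y ≠ b → g • y = y → g = 1 :=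
    fun g ha hb y hya hyb hy => hZ.2.2.1 g a b y hab (Ne.symm hyb) (Ne.symm hya) ha hb hy
  have hdvd := Cfsg.Agent.S0738.card_sub_one_dvd hfree hab H hHa
    (fun u hu hub => by
      by_contra hne
      exact hab.symm (hHfix u hu hne b hub))
    (fun h hh c hc => Cfsg.Agent.Helper19.ZassH.H_conj_mem hZ hHa hHcard hHfix
      (Subgroup.mem_inf.mp hh).1 hc)
  have hn3 := Cfsg.Agent.S0878.card_ge_three hZ
  have hsub : Nat.card H - 1 = Fintype.card Ω - 2 := by omega
  rw [hsub] at hdvd
  obtain ⟨m, hm⟩ := hdvd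
  have hDpos : 0 < Nat.card ↥(MulAction.stabilizer G a ⊓ MulAction.stabilizer G b) :=
    Nat.card_pos
  have hm12 : m = 1 ∨ m = 2 := by
    rcases m with _ | _ | _ | m
    · exfalso; omega
    · left; rfl
    · right; rfl
    · exfalso
      rw [hm] at h1
      nlinarith
  rcases hm12 with rfl | rfl
  · exfalso
    rw [mul_one] at hm
    exact Cfsg.Agent.Helper19.ZassSharp3.not_isSimpleGroup hZ hab heven hm inferInstance
  · have heq : Fintype.card Ω - 2 =
        2 * Nat.card ↥(MulAction.stabilizer G a ⊓ MulAction.stabilizer G b) := by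
      rw [hm, mul_comm]
    obtain ⟨E, iF, iT, hcardE, hiso⟩ :=
      Cfsg.Agent.Helper19.ZassPSL.nonempty_mulEquiv_psl hZ hab hHa hHcard hHfix heven heq
    refine ⟨E, iF, iT, ?_, hiso⟩
    obtain ⟨k, hk⟩ := heven
    omega

end Cfsg.Agent.S0344
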