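import Cfsg.Statements.S0345
import Cfsg.Agent.S0739
import Cfsg.Agent.S0740
import Cfsg.Agent.S0741
import Cfsg.Agent.S0738
import Cfsg.Agent.Lib.Helper19.ZassInvol
import Cfsg.Agent.Lib.Helper19.ZassEven
import Cfsg.Agent.Lib.Helper19.ZassSharp3

set_option autoImplicit false
open Cfsg

namespace Cfsg.Agent.S0345

/-- In a finite simple Zassenhaus group the stabiliser `H` of two points `a ≠ b` is cyclic, and some involution
interchanging `a` and `b` inverts every element of `H`. -/
theorem result {G Ω : Type*} [Group G] [Finite G] [MulAction G Ω] [Finite Ω]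
    (hZ : Cfsg.IsZassenhausGroup G Ω) [IsSimpleGroup G]
    {a b : Ω} (hab : a ≠ b) :
    IsCyclic ↥(MulAction.stabilizer G a ⊓ MulAction.stabilizer G b) ∧
      ∃ v : G, orderOf v = 2 ∧ v • a = b ∧ v • b = a ∧ ∀ h ∈ MulAction.stabilizer G a ⊓ MulAction.stabilizer G b, v * h * v⁻¹ = h⁻¹ := by
  classical
  haveI := Fintype.ofFinite Ω
  rcases Nat.even_or_odd
    (Nat.card ↥(MulAction.stabilizer G a ⊓ MulAction.stabilizer G b)) with heven | hodd
  · have h1 := Cfsg.Agent.S0741.result hZ hab heven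
    obtain ⟨H, hHa, hHcard, hHfix⟩ := Cfsg.Agent.Helper19.ZassD.exists_kernel hZ a
    have hfree : ∀ g : G, g • a = a → g • b = b → ∀ y : Ω, y ≠ a → y ≠ b → g • y = y → g = 1 :=
      fun g ha hb y hya hyb hy => hZ.2.2.1 g a b y hab (Ne.symm hyb) (Ne.symm hya) ha hb hy
    have hdvd := Cfsg.Agent.S0738.card_sub_one_dvd hfree hab H hHa
      (fun u hu hub => by
        by_contra hne
        exact hab.symm (hHfix u hu hne b hub))
      (fun h hh c hc => Cfsg.Agent.Helper19.ZassH.H_conj_mem hZ hHa hHcard hHfix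
        (Subgroup.mem_inf.mp hh).1 hc)
    have hn3 := Cfsg.Agent.S0878.card_ge_three hZ
    have hsub : Nat.card H - 1 = Fintype.card Ω - 2 := by omega
    rw [hsub] at hdvd
    obtain ⟨m, hm⟩ := hdvd
    have hDpos : 0 < Nat.card ↥(MulAction.stabilizer G a ⊓ MulAction.stabilizer G b) :=
      Nat.card_pos
    have hm12 : m = 1 ∨ m = 2 := by
      rcases m with _ | _ | _ | m
      · exfalso; omega
      · left; rfl
      · right; rfl
      · exfalso
        rw [hm] at h1
        nlinarith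
    rcases hm12 with rfl | rfl
    · exfalso
      rw [mul_one] at hm
      exact Cfsg.Agent.Helper19.ZassSharp3.not_isSimpleGroup hZ hab heven hm inferInstance
    · have heq : Fintype.card Ω - 2 =
          2 * Nat.card ↥(MulAction.stabilizer G a ⊓ MulAction.stabilizer G b) := by
        rw [hm, mul_comm]
      obtain ⟨⟨s, hs2, hsa, hsb⟩, -, -⟩ := Cfsg.Agent.S0740.result hZ hab
      exact ⟨Cfsg.Agent.Helper19.ZassEven.cyclic_of_comm hZ hab
          (Cfsg.Agent.Helper19.ZassEven.D_comm hZ hab heven heq),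
        s, hs2, hsa, hsb, Cfsg.Agent.Helper19.ZassEven.swap_inverts hZ hab heven heq hsa hsb⟩
  · have hnil := Cfsg.Agent.Helper19.ZassInvol.hnil_of_simple hZ hab hodd
    obtain ⟨hcyc, -, hinv⟩ := Cfsg.Agent.S0739.result hZ hab hodd hnil
    obtain ⟨⟨s, hs2, hsa, hsb⟩, -, -⟩ := Cfsg.Agent.S0740.result hZ hab
    exact ⟨hcyc, s, hs2, hsa, hsb, hinv s hsa hsb⟩

end Cfsg.Agent.S0345
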