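import Cfsg.Statements.S0357
import Mathlib
import Cfsg.Agent.Lib.Helper8.SteinerNumbers

set_option autoImplicit false
open Cfsg

namespace Cfsg.Agent.S0357

open Cfsg.Agent.Helper8 Finset

/-- In a Steiner system S(5, 6, 12), the complement of every block is again a block. -/
theorem result {α : Type*} [Fintype α] [DecidableEq α] (hα : Fintype.card α = 12) {B : Set (Finset α)} (hB : Cfsg.IsSteinerSystem 5 6 B) {b : Finset α} (hb : b ∈ B) : bᶜ ∈ B := by
  have h := disjoint_count_5_6_12 hα hB hb
  obtain ⟨c, hc⟩ := Finset.card_eq_one.mp h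
  have hcm : c ∈ (blocksF B).filter (fun c => Disjoint b c) := by rw [hc]; simp
  rw [mem_filter, mem_blocksF] at hcm
  obtain ⟨hcB, hdisj⟩ := hcm
  have hsub : c ⊆ bᶜ := by
    intro x hx
    rw [mem_compl]
    intro hxb
    exact (Finset.disjoint_left.mp hdisj) hxb hx
  have hcard : bᶜ.card = c.card := by
    rw [card_compl, hα, hB.1 b hb, hB.1 c hcB]
  have : c = bᶜ := Finset.eq_of_subset_of_card_le hsub (le_of_eq hcard)
  rw [← this]; exact hcB

end Cfsg.Agent.S0357
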