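import Cfsg.Statements.S0365
import Mathlib
import Cfsg.Agent.Lib.Helper95.TransSimple
import Cfsg.Agent.S0364
import Cfsg.Agent.S0366

set_option autoImplicit false
open Cfsg

namespace Cfsg.Agent.S0365

/-- The permutation group preserving the length-24 code is simple. -/
theorem result : IsSimpleGroup Cfsg.M24 := by
  have h5 : MulAction.IsMultiplyPretransitive Cfsg.M24 Cfsg.GolayPt 5 := Cfsg.Agent.S0366.result
  have hcard : Nat.card Cfsg.M24 = 244823040 := Cfsg.Agent.S0364.result
  have hn : Fintype.card Cfsg.GolayPt = 24 := by decide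
  apply Cfsg.Agent.Helper95.simple_of_trans (H := Cfsg.M24) (α := Cfsg.GolayPt) 5 (by norm_num)
    (by rw [hn]; norm_num) 23 (by norm_num) (by rw [hn]) 10644480 (by rw [hcard]) (by norm_num) 960
    (by rw [hcard, hn]; decide) (by rw [hn]; decide)
  intro f idx hf hfi hmod
  rw [hn] at hf
  interval_cases f <;> first | (exfalso; omega) | decide

end Cfsg.Agent.S0365
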