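import Cfsg.Statements.S0367
import Cfsg.Agent.Lib.Helper7.Octads

set_option autoImplicit false
open scoped Pointwise
open Cfsg

namespace Cfsg.Agent.S0367

/-- The permutation group preserving the length-24 code is transitive on octads. -/
theorem result (o o' : Finset Cfsg.GolayPt) (ho : o ∈ Cfsg.octads) (ho' : o' ∈ Cfsg.octads) : ∃ g : Cfsg.M24, g • o = o' := by
  obtain ⟨g1, hg1, h1⟩ := Cfsg.Agent.Helper7.octad_reach M24 le_rfl Cfsg.Agent.Helper7.shift_mem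
    Cfsg.Agent.Helper7.projInv_mem Cfsg.Agent.Helper7.cubeTwist_mem o ho
  obtain ⟨g2, hg2, h2⟩ := Cfsg.Agent.Helper7.octad_reach M24 le_rfl Cfsg.Agent.Helper7.shift_mem
    Cfsg.Agent.Helper7.projInv_mem Cfsg.Agent.Helper7.cubeTwist_mem o' ho'
  refine ⟨⟨g2 * g1⁻¹, M24.mul_mem hg2 (M24.inv_mem hg1)⟩, ?_⟩
  show (g2 * g1⁻¹) • o = o'
  rw [mul_smul, ← h1, inv_smul_smul, h2]

end Cfsg.Agent.S0367
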