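import Cfsg.Statements.S0371
import Cfsg.Agent.Lib.Helper7.PermMask

set_option autoImplicit false
open Cfsg

namespace Cfsg.Agent.S0371

/-- Multiplication by a nonzero square residue modulo 23, fixing the extra point, lies in the group of the length-24 code. -/
theorem result (u : (ZMod 23)ˣ) (hu : IsSquare u) : Equiv.optionCongr (Units.mulLeft u) ∈ Cfsg.M24 := by
  apply Cfsg.Agent.Helper7.mem_M24_of_key
  intro t
  obtain ⟨s, rfl⟩ := hu
  have h : (fun p => qrWord t ((Equiv.optionCongr (Units.mulLeft (s * s))).symm p))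
      = qrWord (((s * s : (ZMod 23)ˣ) : ZMod 23) * t) := by
    funext p
    cases p with
    | none => rfl
    | some x =>
      have h1 : (Equiv.optionCongr (Units.mulLeft (s * s))).symm (some x)
          = some ((((s * s)⁻¹ : (ZMod 23)ˣ) : ZMod 23) * x) := by
        rw [← Equiv.optionCongr_symm, Units.mulLeft_symm]
        rfl
      rw [h1]
      simp only [qrWord]
      have : (∃ r : ZMod 23, (((s * s)⁻¹ : (ZMod 23)ˣ) : ZMod 23) * x = r ^ 2 + t)
          ↔ ∃ r : ZMod 23, x = r ^ 2 + ((s * s : (ZMod 23)ˣ) : ZMod 23) * t := by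
        constructor
        · rintro ⟨r, hr⟩
          refine ⟨(s : ZMod 23) * r, ?_⟩
          have h2 : x = ((s * s : (ZMod 23)ˣ) : ZMod 23) * ((((s * s)⁻¹ : (ZMod 23)ˣ) : ZMod 23) * x) := by
            rw [← mul_assoc, ← Units.val_mul, mul_inv_cancel, Units.val_one, one_mul]
          rw [h2, hr, Units.val_mul]
          ring
        · rintro ⟨r, hr⟩
          refine ⟨((s⁻¹ : (ZMod 23)ˣ) : ZMod 23) * r, ?_⟩
          rw [hr, mul_add, ← mul_assoc, ← Units.val_mul, inv_mul_cancel, Units.val_one, one_mul,
            mul_inv, Units.val_mul]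
          ring
      simp only [this]
  rw [h]
  exact Submodule.subset_span (Or.inl ⟨_, rfl⟩)

end Cfsg.Agent.S0371
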