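import Cfsg.Statements.S0377
import Mathlib
import Cfsg.Agent.Lib.Helper95.TransSimple
import Cfsg.Agent.S0376
import Cfsg.Agent.S0366

set_option autoImplicit false
open Cfsg

namespace Cfsg.Agent.S0377

open MulAction

/-- A point stabiliser in the group of the length-24 code is simple. -/
theorem result (p : Cfsg.GolayPt) : IsSimpleGroup (MulAction.stabilizer Cfsg.M24 p) := by
  classical
  have h5 : IsMultiplyPretransitive Cfsg.M24 Cfsg.GolayPt 5 := Cfsg.Agent.S0366.result
  have hcard : Nat.card (stabilizer Cfsg.M24 p) = 10200960 := Cfsg.Agent.S0376.result p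
  have hn24 : Nat.card Cfsg.GolayPt = 24 := by rw [Nat.card_eq_fintype_card]; decide
  have h1 : IsMultiplyPretransitive Cfsg.M24 Cfsg.GolayPt 1 :=
    isMultiplyPretransitive_of_le (n := 5) (by norm_num) (by rw [hn24]; norm_num)
  have ht : IsPretransitive Cfsg.M24 Cfsg.GolayPt := is_one_pretransitive_iff.mp h1
  have h4 : IsMultiplyPretransitive (stabilizer Cfsg.M24 p)
      (SubMulAction.ofStabilizer Cfsg.M24 p) 4 :=
    SubMulAction.ofStabilizer.isMultiplyPretransitive.mp h5
  have : Fintype (SubMulAction.ofStabilizer Cfsg.M24 p) := Fintype.ofFinite _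
  have hn : Fintype.card (SubMulAction.ofStabilizer Cfsg.M24 p) = 23 := by
    rw [← Nat.card_eq_fintype_card, SubMulAction.nat_card_ofStabilizer_eq, hn24]
  have hfaith : FaithfulSMul (stabilizer Cfsg.M24 p) (SubMulAction.ofStabilizer Cfsg.M24 p) :=
    Cfsg.Agent.Helper12.Jordan.faithful_ofStabilizer p
  apply Cfsg.Agent.Helper95.simple_of_trans (H := stabilizer Cfsg.M24 p)
    (α := SubMulAction.ofStabilizer Cfsg.M24 p) 4 (by norm_num)
    (by rw [hn]; norm_num) 23 (by norm_num) (by rw [hn]; norm_num) 443520 (by rw [hcard])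
    (by norm_num) 960 (by rw [hcard, hn]; decide) (by rw [hn]; decide)
  intro f idx hf hfi hmod
  rw [hn] at hf
  interval_cases f <;> first | (exfalso; omega) | decide

end Cfsg.Agent.S0377
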