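-- Statement S0380: the three-point stabiliser in M24 is PSL(3,4).
import Cfsg.Statements.S0380
import Cfsg.Agent.Lib.Helper8.M21
import Cfsg.Agent.Lib.Helper7.M24Stab
import Cfsg.Agent.Lib.Helper7.OctadSpan
import Cfsg.Agent.Lib.Helper7.Hexads

set_option autoImplicit false
open Cfsg

namespace Cfsg.Agent.S0380

open Cfsg.Agent.Helper7 Cfsg.Agent.Helper8

/-- A three-point stabiliser in the group of the length-24 code is isomorphic to PSL(3, F) for the field F with 4 elements. -/
theorem result (p q r : Cfsg.GolayPt) (hpq : p ≠ q) (hpr : p ≠ r) (hqr : q ≠ r) (F : Type) [Field F] [Fintype F] (hF : Fintype.card F = 4) : Nonempty (↥(MulAction.stabilizer Cfsg.M24 p ⊓ MulAction.stabilizer Cfsg.M24 q ⊓ MulAction.stabilizer Cfsg.M24 r) ≃* Matrix.ProjectiveSpecialLinearGroup (Fin 3) F) := by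
  set T : Subgroup ↥M24 :=
    MulAction.stabilizer Cfsg.M24 p ⊓ MulAction.stabilizer Cfsg.M24 q ⊓
      MulAction.stabilizer Cfsg.M24 r with hT
  have hfix : ∀ g ∈ T.map M24.subtype, g p = p ∧ g q = q ∧ g r = r := by
    rintro _ ⟨x, hx, rfl⟩
    rw [hT] at hx
    have hx' := Subgroup.mem_inf.mp (SetLike.mem_coe.mp hx)
    have hx'' := Subgroup.mem_inf.mp hx'.1
    exact ⟨hx''.1, hx''.2, hx'.2⟩
  have hle : T.map M24.subtype ≤ setSystemAut octads := by
    rw [← M24_eq_aut_octads]
    exact Subgroup.map_subtype_le T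
  have hcard : Nat.card (T.map M24.subtype) = 20160 := by
    rw [card_map_subtype, hT, card_stabilizer_inf3]
    exact card_stab3 p q r hpq hpr hqr
  have h24 : Fintype.card GolayPt = 24 := card_univ_golayPt
  obtain ⟨E⟩ := three_point_stabilizer_iso h24 octads_steiner p q r hpq hpr hqr
    (T.map M24.subtype) hle (fun g hg => (hfix g hg).1) (fun g hg => (hfix g hg).2.1)
    (fun g hg => (hfix g hg).2.2) hcard F hF
  exact ⟨(T.equivMapOfInjective M24.subtype M24.subtype_injective).trans E⟩

end Cfsg.Agent.S0380
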