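import Cfsg.Statements.S0383
import Mathlib
import Cfsg.Agent.Lib.Helper95.SharpSimple
import Cfsg.Agent.Lib.Helper95.SubAct
import Cfsg.Agent.S0384

set_option autoImplicit false
open scoped Pointwise
open Cfsg

namespace Cfsg.Agent.S0383

open MulAction Cfsg.Agent.Helper95

theorem inv_dodecad (d : Finset Cfsg.GolayPt) :
    ∀ g ∈ stabilizer Cfsg.M24 d, ∀ x ∈ (d : Set Cfsg.GolayPt), g • x ∈ (d : Set Cfsg.GolayPt) := by
  intro g hg x hx
  rw [mem_stabilizer_iff] at hg
  rw [Finset.mem_coe] at hx ⊢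
  have := Finset.smul_mem_smul_finset (a := g) hx
  rw [hg] at this
  exact this

/-- A dodecad stabiliser in the group of the length-24 code is simple. -/
theorem result (d : Finset Cfsg.GolayPt) (hd : d ∈ Cfsg.dodecads) : IsSimpleGroup (MulAction.stabilizer Cfsg.M24 d) := by
  classical
  have hdcard : d.card = 12 := hd.2
  have : Fintype (subAct (stabilizer Cfsg.M24 d) (d : Set Cfsg.GolayPt) (inv_dodecad d)) :=
    Fintype.ofFinite _
  have hn : Fintype.card (subAct (stabilizer Cfsg.M24 d) (d : Set Cfsg.GolayPt) (inv_dodecad d))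
      = 12 := by
    rw [← Nat.card_eq_fintype_card]
    have : Nat.card (subAct (stabilizer Cfsg.M24 d) (d : Set Cfsg.GolayPt) (inv_dodecad d)) =
        Nat.card (d : Set Cfsg.GolayPt) := rfl
    rw [this, Nat.card_coe_set_eq, Set.ncard_coe_finset, hdcard]
  have hne : Nonempty (Fin 5 ↪
      subAct (stabilizer Cfsg.M24 d) (d : Set Cfsg.GolayPt) (inv_dodecad d)) :=
    Function.Embedding.nonempty_of_card_le (by rw [Fintype.card_fin, hn]; norm_num)
  obtain ⟨h5, hsharp, hfaith⟩ := sharp_of_existsUnique (stabilizer Cfsg.M24 d)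
    (d : Set Cfsg.GolayPt) (inv_dodecad d) 5 hne
    (fun x y hx hy => Cfsg.Agent.S0384.result d hd x y hx hy)
  apply simple_of_sharp
    (H := stabilizer Cfsg.M24 d)
    (α := subAct (stabilizer Cfsg.M24 d) (d : Set Cfsg.GolayPt) (inv_dodecad d)) 5
    (by norm_num) (by norm_num) (by rw [hn]; norm_num) hsharp 8640 (by rw [hn]; decide)
    (by norm_num) (by rw [hn]; decide)
  intro f idx hf hfi hmod
  rw [hn] at hf
  interval_cases f <;> first | decide | (exfalso; omega)

end Cfsg.Agent.S0383
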