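import Cfsg.Statements.S0385
import Cfsg.Agent.Lib.Helper7.Hexads

set_option autoImplicit false
open Cfsg

namespace Cfsg.Agent.S0385

/-- The 6-point intersections of octads with a fixed dodecad form a Steiner system S(5, 6, 12) on the dodecad. -/
theorem result (d : Finset Cfsg.GolayPt) (hd : d ∈ Cfsg.dodecads) : Cfsg.IsSteinerSystem 5 6 {h : Finset {p : Cfsg.GolayPt // p ∈ d} | ∃ o ∈ Cfsg.octads, (o ∩ d).card = 6 ∧ h = Finset.subtype (fun p => p ∈ d) o} := by
  open Cfsg.Agent.Helper7 in
  have hsub : ∀ o : Finset GolayPt, (Finset.subtype (fun p => p ∈ d) o).card = (o ∩ d).card := by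
    intro o
    rw [Finset.card_subtype, Finset.filter_mem_eq_inter]
  refine ⟨?_, ?_⟩
  · rintro b ⟨o, _, hc, rfl⟩
    rw [hsub, hc]
  · intro s hs
    have hs' : (s.map (Function.Embedding.subtype _)).card = 5 := by
      rw [Finset.card_map, hs]
    have hsd : s.map (Function.Embedding.subtype _) ⊆ d := by
      intro x hx
      rw [Finset.mem_map] at hx
      obtain ⟨y, _, rfl⟩ := hx
      exact y.2
    obtain ⟨o, ⟨ho, hso⟩, huniq⟩ := existsUnique_octad_of_five _ hs'
    have h6 : (o ∩ d).card = 6 := by
      have h5 : 5 ≤ (o ∩ d).card := by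
        rw [← hs']
        exact Finset.card_le_card (Finset.subset_inter hso hsd)
      rcases inter_dodecad_card ho hd with h | h | h <;> omega
    have hsub' : ∀ o' : Finset GolayPt, s ⊆ Finset.subtype (fun p => p ∈ d) o' ↔
        s.map (Function.Embedding.subtype _) ⊆ o' := by
      intro o'
      constructor
      · intro h x hx
        rw [Finset.mem_map] at hx
        obtain ⟨y, hy, rfl⟩ := hx
        have := h hy
        rw [Finset.mem_subtype] at this
        exact this
      · intro h y hy
        rw [Finset.mem_subtype]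
        apply h
        rw [Finset.mem_map]
        exact ⟨y, hy, rfl⟩
    refine ⟨Finset.subtype (fun p => p ∈ d) o, ⟨⟨o, ho, h6, rfl⟩, (hsub' o).mpr hso⟩, ?_⟩
    rintro b ⟨⟨o', ho', _, rfl⟩, hsb⟩
    rw [huniq o' ⟨ho', (hsub' o').mp hsb⟩]

end Cfsg.Agent.S0385
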