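import Cfsg.Statements.S0387
import Cfsg.Agent.Lib.Helper7.M12

set_option autoImplicit false
open scoped Pointwise
open Cfsg

namespace Cfsg.Agent.S0387

/-- The stabiliser of a dodecad and a point on it has order 7920 = 2^4·3^2·5·11. -/
theorem result (d : Finset Cfsg.GolayPt) (hd : d ∈ Cfsg.dodecads) (p : Cfsg.GolayPt) (hp : p ∈ d) : Nat.card ↥(MulAction.stabilizer Cfsg.M24 d ⊓ MulAction.stabilizer Cfsg.M24 p) = 7920 := by
  open Cfsg.Agent.Helper7 in
  have hmap : (MulAction.stabilizer ↥M24 d ⊓ MulAction.stabilizer ↥M24 p).map M24.subtype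
      = stabL (setStab d) [p] := by
    rw [Subgroup.map_inf _ _ _ M24.subtype_injective, map_setStab, map_stabilizer]
    ext g
    rw [Subgroup.mem_inf, mem_stabIn, mem_stabL]
    constructor
    · rintro ⟨h1, _, h3⟩
      exact ⟨h1, fun b hb => by rw [List.mem_singleton.mp hb]; exact h3⟩
    · rintro ⟨h1, h2⟩
      exact ⟨h1, (mem_setStab.mp h1).1, h2 p (by simp)⟩
  rw [← Cfsg.Agent.Helper7.card_map_subtype, hmap]
  have h := Cfsg.Agent.Helper7.card_m12_stabL hd [p] (by simp) (by simpa using hp) (by simp)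
  simp only [List.length_cons, List.length_nil] at h
  norm_num [Nat.descFactorial] at h
  omega

end Cfsg.Agent.S0387
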