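import Cfsg.Statements.S0389
import Cfsg.Agent.Lib.Helper7.M11

set_option autoImplicit false
open scoped Pointwise
open Cfsg

namespace Cfsg.Agent.S0389

/-- The stabiliser of a dodecad and a point on it is 3-transitive on the complementary dodecad. -/
theorem result (d : Finset Cfsg.GolayPt) (hd : d ∈ Cfsg.dodecads) (p : Cfsg.GolayPt) (hp : p ∈ d) (x y : Fin 3 ↪ Cfsg.GolayPt) (hx : ∀ i, x i ∉ d) (hy : ∀ i, y i ∉ d) : ∃ g ∈ MulAction.stabilizer Cfsg.M24 d ⊓ MulAction.stabilizer Cfsg.M24 p, ∀ i, (g : Equiv.Perm Cfsg.GolayPt) (x i) = y i := by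
  open Cfsg.Agent.Helper7 in
  obtain ⟨g, hg, hgm⟩ := m11_three_trans hd hp (List.ofFn x) (List.ofFn y)
    (List.nodup_ofFn.mpr x.injective) (List.nodup_ofFn.mpr y.injective)
    (by intro z hz; rw [List.mem_ofFn] at hz; obtain ⟨i, rfl⟩ := hz; exact hx i)
    (by intro z hz; rw [List.mem_ofFn] at hz; obtain ⟨i, rfl⟩ := hz; exact hy i)
    (by simp) (by simp)
  rw [Cfsg.Agent.Helper7.mem_stabL] at hg
  obtain ⟨hg1, hg2⟩ := hg
  have hM : g ∈ M24 := (Cfsg.Agent.Helper7.mem_setStab.mp hg1).1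
  refine ⟨⟨g, hM⟩, ⟨?_, ?_⟩, ?_⟩
  · exact (Cfsg.Agent.Helper7.mem_setStab.mp hg1).2
  · exact hg2 p (by simp)
  · intro i
    rw [List.map_ofFn] at hgm
    have := congrFun (List.ofFn_injective hgm) i
    exact this

end Cfsg.Agent.S0389
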