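import Mathlib
import Cfsg.Statements.S0404
import Cfsg.Agent.Lib.Helper26.McLSimple
import Cfsg.Agent.Lib.Helper26.LO1634Facts
-- import your own Cfsg.Agent.* helpers here

set_option autoImplicit false
open Cfsg

namespace Cfsg.Agent.S0404

/-- Joint stabiliser of two minimal vectors with coordinate dot product −8 is simple of order 898128000. -/
theorem result (v w : Cfsg.leechLattice) (hv : Cfsg.sqNorm (v : Cfsg.GolayPt → ℤ) = 32) (hw : Cfsg.sqNorm (w : Cfsg.GolayPt → ℤ) = 32) (hvw : Cfsg.dotInt (v : Cfsg.GolayPt → ℤ) (w : Cfsg.GolayPt → ℤ) = -8) : Cfsg.IsMcL ↥(MulAction.stabilizer Cfsg.Co0 v ⊓ MulAction.stabilizer Cfsg.Co0 w) := by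
  open Cfsg.Agent.Helper7 Cfsg.Agent.Helper26 in
  obtain ⟨g1, hg1, ev1, ew1⟩ := Cfsg.Agent.Helper26.LO1634.move2 v w hv hw hvw
  open Cfsg.Agent.Helper7 Cfsg.Agent.Helper26 in
  obtain ⟨g2, hg2, ev2, ew2⟩ := Cfsg.Agent.Helper26.LO1634.move2 Cfsg.Agent.Helper26.LO1580.v0
    Cfsg.Agent.Helper26.McLPoint.w1 Cfsg.Agent.Helper26.McLPoint.v0_norm
    Cfsg.Agent.Helper26.McLPoint.w1_norm Cfsg.Agent.Helper26.McLPoint.dot_v0_w1
  refine ⟨?_, Cfsg.Agent.Helper26.McLOrder.card_McL v w hv hw hvw⟩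
  refine Cfsg.Agent.Helper26.McLSimple.simple_of_move v w
    ⟨g2⁻¹ * g1, Cfsg.Co0.mul_mem (Cfsg.Co0.inv_mem hg2) hg1⟩ ?_ ?_
  · show (g2⁻¹ * g1) v = _
    rw [Equiv.Perm.mul_apply, ev1, Equiv.Perm.inv_eq_iff_eq]
    exact ev2.symm
  · show (g2⁻¹ * g1) w = _
    rw [Equiv.Perm.mul_apply, ew1, Equiv.Perm.inv_eq_iff_eq]
    exact ew2.symm

end Cfsg.Agent.S0404
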