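import Cfsg.Statements.S0408
import Cfsg.Agent.Lib.Helper8.Steiner12

set_option autoImplicit false
open Cfsg

namespace Cfsg.Agent.S0408

/-- Uniqueness of the Steiner system S(5, 6, 12) up to isomorphism. -/
theorem result {α β : Type*} [Fintype α] [DecidableEq α] [Fintype β] [DecidableEq β] (hα : Fintype.card α = 12) (hβ : Fintype.card β = 12) {B : Set (Finset α)} {B' : Set (Finset β)} (hB : Cfsg.IsSteinerSystem 5 6 B) (hB' : Cfsg.IsSteinerSystem 5 6 B') : Cfsg.SetSystemIso B B' := by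
  classical
  have hne : Nonempty (Fin 5 ↪ α) := Function.Embedding.nonempty_of_card_le (by rw [Fintype.card_fin, hα]; norm_num)
  have hne' : Nonempty (Fin 5 ↪ β) := Function.Embedding.nonempty_of_card_le (by rw [Fintype.card_fin, hβ]; norm_num)
  obtain ⟨x₀⟩ := hne
  obtain ⟨x₁⟩ := hne'
  obtain ⟨y, -, hy⟩ := Cfsg.Agent.Helper8.exists_isNF_12 hα hB x₀
  obtain ⟨y', -, hy'⟩ := Cfsg.Agent.Helper8.exists_isNF_12 hβ hB' x₁
  obtain ⟨e, -, he⟩ := Cfsg.Agent.Helper8.Forcing.iso_of_isNF hα hβ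
    (fun S hS => (Cfsg.Agent.Helper8.Cert12.std_ok S hS).1) hy hy'
  exact ⟨e, he⟩

end Cfsg.Agent.S0408
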