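-- Statement S0413: the automorphism group of any S(4,7,23).
import Cfsg.Statements.S0413
import Cfsg.Agent.S0409
import Cfsg.Agent.S0363
import Cfsg.Agent.S0366
import Cfsg.Agent.S0369
import Cfsg.Agent.S0376
import Cfsg.Agent.S0377
import Cfsg.Agent.Lib.Helper8.DerivedAut
import Mathlib

set_option autoImplicit false
open Cfsg

namespace Cfsg.Agent.S0413

open Cfsg.Agent.Helper8

/-- Aut of an S(4, 7, 23) is simple of order 10200960 and 4-transitive. -/
theorem result {α : Type*} [Fintype α] [DecidableEq α] (hα : Fintype.card α = 23) {B : Set (Finset α)} (hB : Cfsg.IsSteinerSystem 4 7 B) : Cfsg.IsM23 (Cfsg.setSystemAut B) ∧ MulAction.IsMultiplyPretransitive (Cfsg.setSystemAut B) α 4 := by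
  have h24 : Fintype.card Cfsg.GolayPt = 24 := by decide
  have hOct := Cfsg.Agent.S0363.result
  have hX₀ : Fintype.card {a : Cfsg.GolayPt // a ≠ none} = 23 := card_subtype_ne none 23 h24
  have hD₀ : IsSteinerSystem 4 7 (dLines Cfsg.octads (none : Cfsg.GolayPt)) :=
    Cfsg.Agent.S0351.result (t := 4) (k := 7) hOct none
  obtain ⟨e, he⟩ := Cfsg.Agent.S0409.result hα hX₀ hB hD₀
  have key : ∀ (G : Subgroup (Equiv.Perm Cfsg.GolayPt)), G = Cfsg.setSystemAut Cfsg.octads →
      IsSimpleGroup (MulAction.stabilizer G (none : Cfsg.GolayPt)) →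
      Nat.card (MulAction.stabilizer G (none : Cfsg.GolayPt)) = 10200960 →
      MulAction.IsMultiplyPretransitive G Cfsg.GolayPt 5 →
      (IsSimpleGroup (MulAction.stabilizer (Cfsg.setSystemAut Cfsg.octads) (none : Cfsg.GolayPt)) ∧
        Nat.card (MulAction.stabilizer (Cfsg.setSystemAut Cfsg.octads) (none : Cfsg.GolayPt)) =
          10200960 ∧
        MulAction.IsMultiplyPretransitive (Cfsg.setSystemAut Cfsg.octads) Cfsg.GolayPt 5) := by
    rintro G rfl h1 h2 h3
    exact ⟨h1, h2, h3⟩
  obtain ⟨hs, hc, ht⟩ := key Cfsg.M24 Cfsg.Agent.S0369.result (Cfsg.Agent.S0377.result none)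
    (Cfsg.Agent.S0376.result none) Cfsg.Agent.S0366.result
  refine ⟨⟨?_, ?_⟩, ?_⟩
  · exact ((autCongr e he).trans (stabEquiv h24 hOct none).symm).isSimpleGroup
  · rw [Nat.card_congr ((autCongr e he).trans (stabEquiv h24 hOct none).symm).toEquiv, hc]
  · apply pretransitive_of_iso e he 4
    rw [MulAction.isMultiplyPretransitive_iff]
    intro x y
    obtain ⟨g, hg1, hg2⟩ :=
      exists_fixing_of_pretransitive (Cfsg.setSystemAut Cfsg.octads) none 4 ht x y
    refine ⟨⟨resPerm none g.1 hg1, res_mem_aut none g.2 hg1⟩, ?_⟩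
    apply Function.Embedding.ext
    intro i
    rw [Function.Embedding.smul_apply]
    apply Subtype.ext
    exact hg2 i

end Cfsg.Agent.S0413
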