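import Cfsg.Statements.S0430
import Cfsg.Agent.Lib.Helper8.PBGCongr
import Cfsg.Agent.S0410

set_option autoImplicit false
open Cfsg

namespace Cfsg.Agent.S0430

/-- Uniqueness of the strongly regular graph with parameters (100, 22, 0, 6). -/
theorem result {V W : Type*} [Fintype V] [Fintype W] {G : SimpleGraph V} {H : SimpleGraph W} [DecidableRel G.Adj] [DecidableRel H.Adj] (hG : G.IsSRGWith 100 22 0 6) (hH : H.IsSRGWith 100 22 0 6) : Nonempty (G ≃g H) := by
  classical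
  have hG' := Cfsg.Agent.Helper8.isHSG_of_srg G hG
  have hH' := Cfsg.Agent.Helper8.isHSG_of_srg H hH
  obtain ⟨v⟩ : Nonempty V := Fintype.card_pos_iff.mp (by rw [hG.card]; norm_num)
  obtain ⟨w⟩ : Nonempty W := Fintype.card_pos_iff.mp (by rw [hH.card]; norm_num)
  obtain ⟨e, he⟩ := Cfsg.Agent.S0410.result (Cfsg.Agent.Helper8.card_HPt hG' v)
    (Cfsg.Agent.Helper8.card_HPt hH' w) (Cfsg.Agent.Helper8.hsys_steiner hG' v)
    (Cfsg.Agent.Helper8.hsys_steiner hH' w)
  exact ⟨((Cfsg.Agent.Helper8.toPBG hG' v).trans (Cfsg.Agent.Helper8.pbgCongr e he)).trans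
    (Cfsg.Agent.Helper8.toPBG hH' w).symm⟩

end Cfsg.Agent.S0430
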