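import Cfsg.Statements.S0431
import Cfsg.Agent.Lib.Helper8.HSSimple

set_option autoImplicit false
open Cfsg

namespace Cfsg.Agent.S0431

open Cfsg.Agent.Helper8

/-- Graph automorphisms as permutations of the vertices. -/
def autHom {X : Type*} (Γ : SimpleGraph X) : (Γ ≃g Γ) →* Equiv.Perm X where
  toFun f := f.toEquiv
  map_one' := rfl
  map_mul' _ _ := rfl

theorem autHom_injective {X : Type*} (Γ : SimpleGraph X) : Function.Injective (autHom Γ) := by
  intro f g h
  apply RelIso.ext
  intro x
  exact congrArg (fun e : Equiv.Perm X => e x) h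

/-- Aut of the point-block graph of an S(3, 6, 22) contains a simple subgroup of order 44352000. -/
theorem result {α : Type*} [Fintype α] (hα : Fintype.card α = 22) {B : Set (Finset α)} (hB : Cfsg.IsSteinerSystem 3 6 B) : ∃ H : Subgroup (Cfsg.pointBlockGraph B ≃g Cfsg.pointBlockGraph B), Cfsg.IsHS H := by
  classical
  have : Fintype B := Fintype.ofFinite B
  let Γ := Cfsg.pointBlockGraph B
  let H : Subgroup (Γ ≃g Γ) := (hsGroup B).comap (autHom Γ)
  have hbij : Function.Bijective ((autHom Γ).subgroupComap (hsGroup B)) := by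
    constructor
    · intro a b hab
      apply Subtype.ext
      apply autHom_injective Γ
      exact congrArg Subtype.val hab
    · intro k
      have hk : (k : Equiv.Perm (Option (α ⊕ B))) ∈ graphAut Γ := (mem_hsGroup.mp k.2).1
      refine ⟨⟨(graphAutEquiv Γ).symm ⟨k.1, hk⟩, ?_⟩, ?_⟩
      · show autHom Γ ((graphAutEquiv Γ).symm ⟨k.1, hk⟩) ∈ hsGroup B
        exact k.2
      · apply Subtype.ext
        rfl
  let e : H ≃* hsGroup B := MulEquiv.ofBijective _ hbij
  have hsimple : IsSimpleGroup (hsGroup B) := hsGroup_simple hα hB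
  refine ⟨H, e.isSimpleGroup, ?_⟩
  rw [Nat.card_congr e.toEquiv]
  exact card_hsGroup hα hB

end Cfsg.Agent.S0431
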