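import Cfsg.Statements.S0432
import Mathlib

set_option autoImplicit false
open Cfsg

namespace Cfsg.Agent.S0432

open scoped Pointwise

theorem leechSet_perm (σ : Equiv.Perm Cfsg.GolayPt) (hσ : σ ∈ Cfsg.M24) (x : Cfsg.GolayPt → ℤ)
    (hx : x ∈ Cfsg.leechSet) : (fun i => x (σ i)) ∈ Cfsg.leechSet := by
  obtain ⟨m, h1, h2, h3⟩ := hx
  refine ⟨m, fun i => h1 (σ i), ?_, fun k => ?_⟩
  · have : ∑ i, x (σ i) = ∑ i, x i := Equiv.sum_comp σ x
    rw [this]; exact h2
  · have hinv : σ⁻¹ ∈ Cfsg.M24 := Subgroup.inv_mem _ hσ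
    have hstab : σ⁻¹ • (supports (golayCode : Set (GolayPt → ZMod 2))) =
        supports (golayCode : Set (GolayPt → ZMod 2)) := MulAction.mem_stabilizer_iff.mp hinv
    have hk := h3 k
    have : (Finset.univ.filter fun i => x (σ i) ≡ k [ZMOD 4]) =
        σ⁻¹ • (Finset.univ.filter fun i => x i ≡ k [ZMOD 4]) := by
      ext i
      simp only [Finset.mem_filter, Finset.mem_univ, true_and]
      rw [Finset.mem_smul_finset]
      constructor
      · intro hi
        refine ⟨σ i, ?_, ?_⟩
        · simp only [Finset.mem_filter, Finset.mem_univ, true_and]; exact hi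
        · simp
      · rintro ⟨j, hj, rfl⟩
        simp only [Finset.mem_filter, Finset.mem_univ, true_and] at hj
        simpa using hj
    rw [this, ← hstab]
    exact Set.smul_mem_smul_set hk

/-- Coordinate permutations from the code's group preserve the lattice. -/
theorem result (σ : Equiv.Perm Cfsg.GolayPt) (hσ : σ ∈ Cfsg.M24) (x : Cfsg.GolayPt → ℤ) (hx : x ∈ Cfsg.leechLattice) : (fun i => x (σ i)) ∈ Cfsg.leechLattice := by
  unfold leechLattice at hx ⊢
  induction hx using AddSubgroup.closure_induction with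
  | mem y hy => exact AddSubgroup.subset_closure (leechSet_perm σ hσ y hy)
  | zero => exact AddSubgroup.zero_mem _
  | add y z _ _ hy hz => exact AddSubgroup.add_mem _ hy hz
  | neg y _ hy => exact AddSubgroup.neg_mem _ hy

end Cfsg.Agent.S0432
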