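import Cfsg.Statements.S0433
import Mathlib
import Cfsg.Agent.Lib.Helper8.GolayBasic

set_option autoImplicit false
open Cfsg

namespace Cfsg.Agent.S0433

open Cfsg.Agent.Helper8

/-- The sum over a codeword of the coordinates of a vector of `leechSet` is divisible by 4. -/
theorem sum_on_codeword (c : Finset GolayPt)
    (hc : c ∈ supports (golayCode : Set (GolayPt → ZMod 2))) (x : GolayPt → ℤ) (m : ℤ)
    (h1 : ∀ i, x i ≡ m [ZMOD 2])
    (h3 : ∀ k : ℤ, (Finset.univ.filter fun i => x i ≡ k [ZMOD 4]) ∈
      supports (golayCode : Set (GolayPt → ZMod 2))) :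
    (4 : ℤ) ∣ ∑ i ∈ c, x i := by
  have hA := h3 (m + 2)
  obtain ⟨A, hAdef⟩ : ∃ A, A = (Finset.univ.filter fun i => x i ≡ m + 2 [ZMOD 4]) := ⟨_, rfl⟩
  rw [← hAdef] at hA
  have hxi : ∀ i, (x i : ZMod 4) = (m : ZMod 4) + if i ∈ A then 2 else 0 := by
    intro i
    have h := h1 i
    split_ifs with hi
    · rw [hAdef] at hi
      simp only [Finset.mem_filter, Finset.mem_univ, true_and] at hi
      have := (ZMod.intCast_eq_intCast_iff _ _ 4).mpr hi
      rw [this]; push_cast; rfl
    · rw [hAdef] at hi
      simp only [Finset.mem_filter, Finset.mem_univ, true_and] at hi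
      rw [add_zero]
      apply (ZMod.intCast_eq_intCast_iff _ _ 4).mpr
      unfold Int.ModEq at *
      omega
  have h4 : ((∑ i ∈ c, x i : ℤ) : ZMod 4) = 0 := by
    push_cast
    simp_rw [hxi]
    rw [Finset.sum_add_distrib, Finset.sum_const, ← Finset.sum_filter, Finset.sum_const]
    have e1 : (Finset.filter (fun i => i ∈ A) c) = c ∩ A := by
      ext i; simp
    rw [e1]
    obtain ⟨a, ha⟩ := supports_card hc
    obtain ⟨b, hb⟩ := supports_inter_card hc hA
    rw [ha, hb]
    simp only [nsmul_eq_mul]
    push_cast
    have h40 : (4 : ZMod 4) = 0 := rfl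
    have h22 : (2 : ZMod 4) * (b : ZMod 4) * 2 = (4 : ZMod 4) * b := by ring
    rw [h22, h40]; simp
  exact (ZMod.intCast_zmod_eq_zero_iff_dvd _ 4).mp h4

theorem leechSet_flip (c : Finset Cfsg.GolayPt)
    (hc : c ∈ Cfsg.supports (Cfsg.golayCode : Set (Cfsg.GolayPt → ZMod 2)))
    (x : Cfsg.GolayPt → ℤ) (hx : x ∈ Cfsg.leechSet) :
    (fun i => if i ∈ c then -x i else x i) ∈ Cfsg.leechSet := by
  obtain ⟨m, h1, h2, h3⟩ := hx
  refine ⟨m, fun i => ?_, ?_, fun k => ?_⟩
  · have := h1 i
    show (if i ∈ c then -x i else x i) ≡ m [ZMOD 2]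
    split_ifs
    · unfold Int.ModEq at *; omega
    · exact this
  · have hsum : ∑ i, (if i ∈ c then -x i else x i) = ∑ i, x i - 2 * ∑ i ∈ c, x i := by
      have : ∀ i, (if i ∈ c then -x i else x i) = x i - 2 * (if i ∈ c then x i else 0) := by
        intro i; split_ifs <;> ring
      simp_rw [this]
      rw [Finset.sum_sub_distrib, ← Finset.mul_sum, Finset.sum_ite_mem, Finset.univ_inter]
    rw [hsum]
    obtain ⟨q, hq⟩ := sum_on_codeword c hc x m h1 h3
    rw [hq]
    unfold Int.ModEq at *
    omega
  · -- the sets of positions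
    by_cases hcase : m % 2 = 1 ∧ k % 2 = 1
    · -- symmetric difference with c
      have : (Finset.univ.filter fun i => (if i ∈ c then -x i else x i) ≡ k [ZMOD 4]) =
          symmDiff (Finset.univ.filter fun i => x i ≡ k [ZMOD 4]) c := by
        ext i
        simp only [Finset.mem_filter, Finset.mem_univ, true_and, Finset.mem_symmDiff]
        have := h1 i
        unfold Int.ModEq at *
        split_ifs with hi
        · simp only [hi, not_true_eq_false, and_false, true_and, false_or]
          omega
        · simp only [hi, not_false_eq_true, and_true, false_and, or_false]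
      rw [this]
      exact supports_symmDiff (h3 k) hc
    · have : (Finset.univ.filter fun i => (if i ∈ c then -x i else x i) ≡ k [ZMOD 4]) =
          (Finset.univ.filter fun i => x i ≡ k [ZMOD 4]) := by
        ext i
        simp only [Finset.mem_filter, Finset.mem_univ, true_and]
        have := h1 i
        unfold Int.ModEq at *
        split_ifs with hi
        · omega
        · rfl
      rw [this]
      exact h3 k

/-- Sign changes on the support of a codeword preserve the lattice. -/
theorem result (c : Finset Cfsg.GolayPt) (hc : c ∈ Cfsg.supports (Cfsg.golayCode : Set (Cfsg.GolayPt → ZMod 2))) (x : Cfsg.GolayPt → ℤ) (hx : x ∈ Cfsg.leechLattice) : (fun i => if i ∈ c then -x i else x i) ∈ Cfsg.leechLattice := by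
  unfold leechLattice at hx ⊢
  induction hx using AddSubgroup.closure_induction with
  | mem y hy => exact AddSubgroup.subset_closure (leechSet_flip c hc y hy)
  | zero =>
    have : (fun i => if i ∈ c then -(0 : GolayPt → ℤ) i else (0 : GolayPt → ℤ) i) = 0 := by
      funext i; simp
    rw [this]; exact AddSubgroup.zero_mem _
  | add y z _ _ hy hz =>
    have : (fun i => if i ∈ c then -(y + z) i else (y + z) i) =
        (fun i => if i ∈ c then -y i else y i) + (fun i => if i ∈ c then -z i else z i) := by
      funext i; simp only [Pi.add_apply]; split_ifs <;> ring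
    rw [this]; exact AddSubgroup.add_mem _ hy hz
  | neg y _ hy =>
    have : (fun i => if i ∈ c then -(-y) i else (-y) i) =
        -(fun i => if i ∈ c then -y i else y i) := by
      funext i; simp only [Pi.neg_apply]; split_ifs <;> ring
    rw [this]; exact AddSubgroup.neg_mem _ hy

end Cfsg.Agent.S0433
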