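import Cfsg.Statements.S0436
import Mathlib

set_option autoImplicit false
open Cfsg

namespace Cfsg.Agent.S0436

/-- Two involutions whose product squares to one commute. -/
theorem commute_of_sq {G : Type*} [Group G] {x y : G} (hx : x * x = 1) (hy : y * y = 1)
    (h : (x * y) ^ 2 = 1) : Commute x y := by
  have h1 : x * y * (x * y) = 1 := by rw [← pow_two]; exact h
  -- x y x y = 1 → y x = x⁻¹ y⁻¹ ... = x y
  have hxi : x⁻¹ = x := inv_eq_of_mul_eq_one_right hx
  have hyi : y⁻¹ = y := inv_eq_of_mul_eq_one_right hy
  have h2 : (x * y)⁻¹ = x * y := inv_eq_of_mul_eq_one_right h1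
  rw [mul_inv_rev, hxi, hyi] at h2
  exact h2.symm

theorem sq_one_of_mem {G : Type*} [Group G] {E : Set G} (hE : Cfsg.IsThreeTranspositionSet E)
    {a : G} (ha : a ∈ E) : a * a = 1 := by
  have := hE.1 a ha
  rw [← pow_two, ← this]; exact pow_orderOf_eq_one a

theorem ne_one_of_mem {G : Type*} [Group G] {E : Set G} (hE : Cfsg.IsThreeTranspositionSet E)
    {a : G} (ha : a ∈ E) : a ≠ 1 := by
  intro h
  have := hE.1 a ha
  rw [h, orderOf_one] at this
  omega

/-- For distinct commuting members a, b of a set of 3-transpositions E, a member e of E centralises the product a * b if and only if it centralises both a and b. -/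
theorem result {G : Type*} [Group G] {E : Set G} (hE : Cfsg.IsThreeTranspositionSet E) {a b e : G} (ha : a ∈ E) (hb : b ∈ E) (he : e ∈ E) (hab : a ≠ b) (hcomm : Commute a b) : Commute e (a * b) ↔ (Commute e a ∧ Commute e b) := by
  constructor
  · intro h
    have haa := sq_one_of_mem hE ha
    have hbb := sq_one_of_mem hE hb
    have hee := sq_one_of_mem hE he
    rcases hE.2 e he a ha with h2 | h3
    · have hea : Commute e a := commute_of_sq hee haa h2
      refine ⟨hea, ?_⟩
      -- b = a * (a * b)
      have : b = a * (a * b) := by rw [← mul_assoc, haa, one_mul]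
      rw [this]
      exact hea.mul_right h
    · rcases hE.2 e he b hb with k2 | k3
      · have heb : Commute e b := commute_of_sq hee hbb k2
        refine ⟨?_, heb⟩
        have : a = (a * b) * b := by rw [mul_assoc, hbb, mul_one]
        rw [this]
        exact h.mul_right heb
      · exfalso
        -- e * b = (e * a) * (a * b), and a * b commutes with e * a
        have hc : Commute (e * a) (a * b) := by
          apply Commute.mul_left h
          exact (Commute.refl a).mul_right hcomm
        have hb' : e * b = (e * a) * (a * b) := by
          rw [mul_assoc, ← mul_assoc a a b, haa, one_mul]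
        rw [hb', hc.mul_pow, h3, one_mul] at k3
        have hab2 : (a * b) ^ 2 = 1 := by
          rw [hcomm.mul_pow, pow_two, pow_two, haa, hbb, one_mul]
        have : a * b = 1 := by
          have : (a * b) ^ 3 = (a * b) ^ 2 * (a * b) := pow_succ _ 2
          rw [this, hab2, one_mul] at k3
          exact k3
        apply hab
        have : a = b⁻¹ := eq_inv_of_mul_eq_one_left this
        rw [this]
        exact inv_eq_of_mul_eq_one_right hbb
  · rintro ⟨h1, h2⟩
    exact h1.mul_right h2

end Cfsg.Agent.S0436
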