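import Cfsg.Statements.S0437
import Mathlib
import Cfsg.Agent.S0436

set_option autoImplicit false
open Cfsg

namespace Cfsg.Agent.S0437

open Cfsg.Agent.S0436

theorem braid {G : Type*} [Group G] {e a : G} (hee : e * e = 1) (haa : a * a = 1)
    (h3 : (e * a) ^ 3 = 1) : e * a * e = a * e * a := by
  have : e * a * (e * a) * (e * a) = 1 := by
    rw [← h3, pow_succ, pow_two]
  have hinv : (e * a * e)⁻¹ = a * e * a := by
    apply inv_eq_of_mul_eq_one_right
    simpa [mul_assoc] using this
  have : (e * a * e)⁻¹ = e * a * e := by
    apply inv_eq_of_mul_eq_one_right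
    calc e * a * e * (e * a * e) = e * a * (e * e) * a * e := by simp only [mul_assoc]
      _ = 1 := by rw [hee, mul_one, mul_assoc e a a, haa, mul_one, hee]
  rw [← this, hinv]

theorem sq_comm {G : Type*} [Group G] {a b : G} (h : Commute a b) (haa : a * a = 1)
    (hbb : b * b = 1) : a * b * (a * b) = 1 := by
  calc a * b * (a * b) = a * (b * a) * b := by simp only [mul_assoc]
    _ = a * (a * b) * b := by rw [h.eq]
    _ = (a * a) * (b * b) := by simp only [mul_assoc]
    _ = 1 := by rw [haa, hbb, one_mul]

/-- The critical case: e commutes with none of a, b, c. -/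
theorem last_case {G : Type*} [Group G] {a b c e : G}
    (haa : a * a = 1) (hbb : b * b = 1) (hcc : c * c = 1) (hee : e * e = 1)
    (h₁ : Commute a b) (h₂ : Commute a c) (h₃ : Commute b c)
    (h : Commute e (a * b * c))
    (h3a : (e * a) ^ 3 = 1) (h3b : (e * b) ^ 3 = 1) (h3c : (e * c) ^ 3 = 1) : e = c := by
  obtain ⟨w, hw⟩ : ∃ w, w = a * b := ⟨_, rfl⟩
  obtain ⟨z, hz⟩ : ∃ z, z = w * c := ⟨_, rfl⟩
  have h' : Commute e z := by rw [hz, hw]; exact h
  have hww : w * w = 1 := by
    rw [hw]; exact sq_comm h₁ haa hbb
  have hwc : Commute w c := by rw [hw]; exact h₂.mul_left h₃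
  have hzz : z * z = 1 := by
    rw [hz]; exact sq_comm hwc hww hcc
  have hcz : c = w * z := by
    rw [hz, ← mul_assoc, hww, one_mul]
  have hzw : Commute z w := by
    rw [hz]; exact (Commute.refl w).mul_left hwc.symm
  have hze : Commute z e := h'.symm
  -- (e w)^3 = z
  have hew3 : (e * w) ^ 3 = z := by
    have hcomm : Commute (e * w) z := (hze.symm).mul_left hzw.symm
    have : e * c = (e * w) * z := by rw [hcz, mul_assoc, ← hcz]
    rw [this, hcomm.mul_pow] at h3c
    have hz3 : z ^ 3 = z := by
      rw [pow_succ, pow_two, hzz, one_mul]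
    rw [hz3] at h3c
    have : (e * w) ^ 3 = z⁻¹ := eq_inv_of_mul_eq_one_left h3c
    rw [this]
    exact inv_eq_of_mul_eq_one_right hzz
  have bra : e * a * e = a * e * a := braid hee haa h3a
  have brb : e * b * e = b * e * b := braid hee hbb h3b
  obtain ⟨X, hX⟩ : ∃ X, X = e * w * e := ⟨_, rfl⟩
  have hX1 : a * X * b = X := by
    calc a * X * b = (a * e * a) * (b * e * b) := by
          rw [hX, hw]; simp only [mul_assoc]
      _ = (e * a * e) * (e * b * e) := by rw [bra, brb]
      _ = e * a * (e * e) * b * e := by simp only [mul_assoc]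
      _ = X := by rw [hee, mul_one, hX, hw]; simp only [mul_assoc]
  have hX2 : b * X * a = X := by
    calc b * X * a = (b * e * b) * (a * e * a) := by
          rw [hX, hw, h₁.eq]; simp only [mul_assoc]
      _ = (e * b * e) * (e * a * e) := by rw [bra, brb]
      _ = e * b * (e * e) * a * e := by simp only [mul_assoc]
      _ = X := by rw [hee, mul_one, hX, hw, h₁.eq]; simp only [mul_assoc]
  have hXw : X * w = w * X := by
    have e1 : X * b = a * X := by
      have := congrArg (fun t => a * t) hX1
      simp only [← mul_assoc, haa, one_mul] at this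
      exact this
    have e2 : X * a = b * X := by
      have := congrArg (fun t => b * t) hX2
      simp only [← mul_assoc, hbb, one_mul] at this
      exact this
    calc X * w = X * a * b := by rw [hw, mul_assoc]
      _ = b * X * b := by rw [e2]
      _ = b * (a * X) := by rw [mul_assoc, e1]
      _ = w * X := by rw [hw, h₁.eq, mul_assoc]
  -- (e w)^4 = 1
  have hew4 : (e * w) ^ 4 = 1 := by
    have : (e * w) ^ 4 = (e * w * e * w) * (e * w * e * w) := by
      simp only [pow_succ, pow_zero, one_mul, mul_assoc]
    rw [this]
    have h1 : e * w * e * w = X * w := by rw [hX]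
    rw [h1]
    nth_rewrite 2 [hXw]
    rw [hX]
    calc e * w * e * w * (w * (e * w * e)) = e * w * e * (w * w) * e * w * e := by
          simp only [mul_assoc]
      _ = 1 := by
          rw [hww, mul_one, mul_assoc (e * w) e e, hee, mul_one, mul_assoc e w w, hww, mul_one, hee]
  have hewz : e * w = z := by
    have : (e * w) ^ 4 = (e * w) ^ 3 * (e * w) := pow_succ _ 3
    rw [this, hew3] at hew4
    have h5 : e * w = z⁻¹ := eq_inv_of_mul_eq_one_right hew4
    rw [h5]; exact inv_eq_of_mul_eq_one_right hzz
  have : e = z * w := by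
    rw [← hewz, mul_assoc, hww, mul_one]
  rw [this, hzw.eq, ← hcz]

/-- For three distinct, pairwise commuting members a, b, c of a set of 3-transpositions E, a member e of E centralises a * b * c if and only if it centralises each of a, b and c. -/
theorem result {G : Type*} [Group G] {E : Set G} (hE : Cfsg.IsThreeTranspositionSet E) {a b c e : G} (ha : a ∈ E) (hb : b ∈ E) (hc : c ∈ E) (he : e ∈ E) (hab : a ≠ b) (hac : a ≠ c) (hbc : b ≠ c) (h₁ : Commute a b) (h₂ : Commute a c) (h₃ : Commute b c) : Commute e (a * b * c) ↔ (Commute e a ∧ Commute e b ∧ Commute e c) := by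
  constructor
  · intro h
    have haa := sq_one_of_mem hE ha
    have hbb := sq_one_of_mem hE hb
    have hcc := sq_one_of_mem hE hc
    have hee := sq_one_of_mem hE he
    -- key: if e commutes with one of a, b, c then with all
    have key : ∀ {a b c : G}, a ∈ E → b ∈ E → c ∈ E → a ≠ b → Commute a b → Commute a c →
        Commute b c → a * a = 1 → b * b = 1 → c * c = 1 → Commute e (a * b * c) → Commute e c →
        Commute e a ∧ Commute e b ∧ Commute e c := by
      intro a b c ha hb hc hab h₁ h₂ h₃ haa hbb hcc h hec
      have : Commute e (a * b) := by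
        have : a * b = (a * b * c) * c := by rw [mul_assoc (a * b), hcc, mul_one]
        rw [this]; exact h.mul_right hec
      have := (Cfsg.Agent.S0436.result hE ha hb he hab h₁).1 this
      exact ⟨this.1, this.2, hec⟩
    by_cases hec : Commute e c
    · exact key ha hb hc hab h₁ h₂ h₃ haa hbb hcc h hec
    by_cases heb : Commute e b
    · have h' : Commute e (a * c * b) := by
        have : a * c * b = a * b * c := by rw [mul_assoc, ← h₃.eq, ← mul_assoc]
        rw [this]; exact h
      have := key ha hc hb hac h₂ h₁ h₃.symm haa hcc hbb h' heb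
      exact ⟨this.1, this.2.2, this.2.1⟩
    by_cases hea : Commute e a
    · have h' : Commute e (b * c * a) := by
        have : b * c * a = a * b * c := by
          rw [mul_assoc a b c]; exact ((h₁.mul_right h₂).eq).symm
        rw [this]; exact h
      have := key hb hc ha hbc h₃ h₁.symm h₂.symm hbb hcc haa h' hea
      exact ⟨this.2.2, this.1, this.2.1⟩
    exfalso
    -- e commutes with none of a, b, c
    have h3a : (e * a) ^ 3 = 1 := by
      rcases hE.2 e he a ha with h2 | h3
      · exact absurd (commute_of_sq hee haa h2) hea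
      · exact h3
    have h3b : (e * b) ^ 3 = 1 := by
      rcases hE.2 e he b hb with h2 | h3
      · exact absurd (commute_of_sq hee hbb h2) heb
      · exact h3
    have h3c : (e * c) ^ 3 = 1 := by
      rcases hE.2 e he c hc with h2 | h3
      · exact absurd (commute_of_sq hee hcc h2) hec
      · exact h3
    have hec' : e = c := last_case haa hbb hcc hee h₁ h₂ h₃ h h3a h3b h3c
    exact hec (hec' ▸ Commute.refl e)
  · rintro ⟨h1, h2, h3⟩
    exact (h1.mul_right h2).mul_right h3

end Cfsg.Agent.S0437
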