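import Cfsg.Statements.S0439
import Mathlib

set_option autoImplicit false
open Cfsg

namespace Cfsg.Agent.S0439

open Equiv Equiv.Perm

theorem swap_mul_swap_pow {α : Type*} [DecidableEq α] [Fintype α] (a b c d : α) (hab : a ≠ b)
    (hcd : c ≠ d) : (swap a b * swap c d) ^ 2 = 1 ∨ (swap a b * swap c d) ^ 3 = 1 := by
  -- case analysis on coincidences
  by_cases hac : a = c
  · subst hac
    by_cases hbd : b = d
    · subst hbd
      left; rw [swap_mul_self, one_pow]
    · right
      have := (isThreeCycle_swap_mul_swap_same hab hcd hbd).orderOf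
      rw [← this]; exact pow_orderOf_eq_one _
  · by_cases had : a = d
    · subst had
      by_cases hbc : b = c
      · subst hbc
        left; rw [swap_comm b a, swap_mul_self, one_pow]
      · right
        rw [swap_comm c a]
        have := (isThreeCycle_swap_mul_swap_same hab (Ne.symm hcd) hbc).orderOf
        rw [← this]; exact pow_orderOf_eq_one _
    · by_cases hbc : b = c
      · subst hbc
        right
        rw [swap_comm a b]
        have := (isThreeCycle_swap_mul_swap_same (Ne.symm hab) hcd had).orderOf
        rw [← this]; exact pow_orderOf_eq_one _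
      · by_cases hbd : b = d
        · subst hbd
          right
          rw [swap_comm a b, swap_comm c b]
          have := (isThreeCycle_swap_mul_swap_same (Ne.symm hab) (Ne.symm hcd) hac).orderOf
          rw [← this]; exact pow_orderOf_eq_one _
        · left
          have hdisj : Disjoint (swap a b) (swap c d) := by
            intro x
            by_cases hxa : x = a
            · right; subst hxa; exact swap_apply_of_ne_of_ne hac had
            · by_cases hxb : x = b
              · right; subst hxb; exact swap_apply_of_ne_of_ne hbc hbd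
              · left; exact swap_apply_of_ne_of_ne hxa hxb
          rw [hdisj.commute.mul_pow, pow_two, pow_two, swap_mul_self, swap_mul_self, one_mul]

/-- In the symmetric group of degree n ≥ 2, the set of transpositions is a conjugacy class of 3-transpositions which generates the group. -/
theorem result (n : ℕ) (hn : 2 ≤ n) : Cfsg.IsThreeTranspositionClass {σ : Equiv.Perm (Fin n) | σ.IsSwap} := by
  refine ⟨⟨fun d hd => IsSwap.orderOf hd, ?_⟩, ?_, closure_isSwap⟩
  · rintro d ⟨a, b, hab, rfl⟩ e ⟨c, d', hcd, rfl⟩
    exact swap_mul_swap_pow a b c d' hab hcd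
  · have h01 : (⟨0, by omega⟩ : Fin n) ≠ ⟨1, by omega⟩ := by
      intro h; simp [Fin.ext_iff] at h
    refine ⟨swap ⟨0, by omega⟩ ⟨1, by omega⟩, ⟨_, _, h01, rfl⟩, ?_⟩
    ext σ
    have hsw : IsSwap (swap (⟨0, by omega⟩ : Fin n) ⟨1, by omega⟩) := ⟨_, _, h01, rfl⟩
    show σ.IsSwap ↔ IsConj _ σ
    rw [isConj_iff_cycleType_eq, isSwap_iff_cycleType, isSwap_iff_cycleType.mp hsw]
    exact eq_comm

end Cfsg.Agent.S0439
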