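import Cfsg.Statements.S0440
import Cfsg.Agent.Lib.Lead.SpTv3
import Cfsg.Agent.S0765

set_option autoImplicit false
open Cfsg

namespace Cfsg.Agent.S0440

open Matrix Cfsg.Agent.Helper5 Cfsg.Agent.Lead.SpTvCent Cfsg.Agent.Lead.SpTv3

/-- the field with two elements -/
abbrev K := ZMod 2

variable {n : ℕ}

/-- The transvection with vector `u`, as an element of the symplectic group. -/
def T (u : Fin n ⊕ Fin n → K) : Matrix.symplecticGroup (Fin n) K := ⟨spTv u 1, spTv_mem u 1⟩

theorem scalar_cases : ∀ a : K, a = 0 ∨ a = 1 := by decide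

theorem mem_iff (g : Matrix.symplecticGroup (Fin n) K) :
    ((g : Matrix (Fin n ⊕ Fin n) (Fin n ⊕ Fin n) K) - 1).rank = 1 ↔ ∃ u, u ≠ 0 ∧ g = T u := by
  constructor
  · intro h
    obtain ⟨u, c, hu, hc, hA⟩ := exists_spTv_of_rank_one g.1 g.2 h
    rcases scalar_cases c with h0 | h1
    · exact absurd h0 hc
    · exact ⟨u, hu, Subtype.ext (by rw [hA, h1]; rfl)⟩
  · rintro ⟨u, hu, rfl⟩
    exact rank_spTv_sub_one hu one_ne_zero

theorem T_mul_self (u : Fin n ⊕ Fin n → K) : T u * T u = 1 := by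
  apply Subtype.ext
  change spTv u 1 * spTv u 1 = 1
  rw [spTv_mul_spTv, show (1 : K) + 1 = 0 by decide, spTv_zero]

theorem T_ne_one {u : Fin n ⊕ Fin n → K} (hu : u ≠ 0) : T u ≠ 1 := by
  intro h
  exact spTv_ne_one hu one_ne_zero (congrArg Subtype.val h)

theorem orderOf_T {u : Fin n ⊕ Fin n → K} (hu : u ≠ 0) : orderOf (T u) = 2 := by
  apply orderOf_eq_prime
  · rw [pow_two, T_mul_self]
  · exact T_ne_one hu

/-- conjugation -/
theorem mul_T (g : Matrix.symplecticGroup (Fin n) K) (u : Fin n ⊕ Fin n → K) :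
    g * T u = T ((g : Matrix (Fin n ⊕ Fin n) (Fin n ⊕ Fin n) K) *ᵥ u) * g :=
  Subtype.ext (mul_spTv g.1 g.2 u 1)

theorem T_apply (u x : Fin n ⊕ Fin n → K) :
    ((T u : Matrix.symplecticGroup (Fin n) K) : Matrix (Fin n ⊕ Fin n) (Fin n ⊕ Fin n) K) *ᵥ x =
      x + ((J (Fin n) K *ᵥ u) ⬝ᵥ x) • u := by
  change spTv u 1 *ᵥ x = _
  rw [spTv_mulVec, one_mul]

theorem braid (u v : Fin n ⊕ Fin n → K) :
    (T u * T v) ^ 2 = 1 ∨ (T u * T v) ^ 3 = 1 := by
  have h1 : T u * T v = T (v + ((J (Fin n) K *ᵥ u) ⬝ᵥ v) • u) * T u := by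
    rw [mul_T, T_apply]
  have h2 : T v * T u = T (u + ((J (Fin n) K *ᵥ v) ⬝ᵥ u) • v) * T v := by
    rw [mul_T, T_apply]
  have hanti : (J (Fin n) K *ᵥ v) ⬝ᵥ u = (J (Fin n) K *ᵥ u) ⬝ᵥ v := by
    rw [J_mulVec_dotProduct_comm]
    exact CharTwo.neg_eq _
  rw [hanti] at h2
  rcases scalar_cases ((J (Fin n) K *ᵥ u) ⬝ᵥ v) with h0 | h0
  · left
    rw [h0, zero_smul, add_zero] at h1
    rw [pow_two]
    calc T u * T v * (T u * T v) = T u * T v * (T v * T u) := by rw [h1]
      _ = T u * (T v * T v) * T u := by simp only [mul_assoc]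
      _ = 1 := by rw [T_mul_self, mul_one, T_mul_self]
  · right
    rw [h0, one_smul] at h1 h2
    have h3 : T u * T v * T u = T (v + u) := by
      rw [h1, mul_assoc, T_mul_self, mul_one]
    have h4 : T v * T u * T v = T (u + v) := by
      rw [h2, mul_assoc, T_mul_self, mul_one]
    calc (T u * T v) ^ 3 = (T u * T v * T u) * (T v * T u * T v) := by
          simp only [pow_succ, pow_zero, one_mul, mul_assoc]
      _ = 1 := by rw [h3, h4, add_comm v u, T_mul_self]

/-- A 3-transposition class. -/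
theorem main (hn : 1 ≤ n) : Cfsg.IsThreeTranspositionClass
    {g : Matrix.symplecticGroup (Fin n) K |
      ((g : Matrix (Fin n ⊕ Fin n) (Fin n ⊕ Fin n) K) - 1).rank = 1} := by
  have hset : {g : Matrix.symplecticGroup (Fin n) K |
      ((g : Matrix (Fin n ⊕ Fin n) (Fin n ⊕ Fin n) K) - 1).rank = 1} =
        {g | ∃ u, u ≠ 0 ∧ g = T u} := by
    ext g
    exact mem_iff g
  rw [hset]
  refine ⟨⟨?_, ?_⟩, ?_, ?_⟩
  · rintro d ⟨u, hu, rfl⟩
    exact orderOf_T hu
  · rintro d ⟨u, hu, rfl⟩ e ⟨v, hv, rfl⟩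
    exact braid u v
  · -- a single conjugacy class
    let u0 : Fin n ⊕ Fin n → K := Pi.single (Sum.inl ⟨0, hn⟩) 1
    have hu0 : u0 ≠ 0 := by
      intro h
      have := congrFun h (Sum.inl ⟨0, hn⟩)
      simp [u0] at this
    refine ⟨T u0, ⟨u0, hu0, rfl⟩, ?_⟩
    ext g
    change (∃ u, u ≠ 0 ∧ g = T u) ↔ IsConj (T u0) g
    rw [isConj_iff]
    constructor
    · rintro ⟨u, hu, rfl⟩
      obtain ⟨c, hc⟩ := sp_transitive u0 u hu0 hu
      refine ⟨c, ?_⟩
      rw [mul_T, hc, mul_assoc, mul_inv_cancel, mul_one]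
    · rintro ⟨c, rfl⟩
      refine ⟨(c : Matrix (Fin n ⊕ Fin n) (Fin n ⊕ Fin n) K) *ᵥ u0, ?_, ?_⟩
      · intro h0
        apply hu0
        have h1 : (c⁻¹ * c : Matrix.symplecticGroup (Fin n) K) = 1 := inv_mul_cancel c
        have h2 : ((c⁻¹ : Matrix.symplecticGroup (Fin n) K) :
            Matrix (Fin n ⊕ Fin n) (Fin n ⊕ Fin n) K) *ᵥ
              ((c : Matrix (Fin n ⊕ Fin n) (Fin n ⊕ Fin n) K) *ᵥ u0) = u0 := by
          rw [Matrix.mulVec_mulVec]
          have h3 : ((c⁻¹ : Matrix.symplecticGroup (Fin n) K) :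
            Matrix (Fin n ⊕ Fin n) (Fin n ⊕ Fin n) K) *
              (c : Matrix (Fin n ⊕ Fin n) (Fin n ⊕ Fin n) K) = 1 := congrArg Subtype.val h1
          rw [h3, Matrix.one_mulVec]
        rw [h0, Matrix.mulVec_zero] at h2
        exact h2.symm
      · rw [mul_T, mul_assoc, mul_inv_cancel, mul_one]
  · -- generation
    rw [eq_top_iff, ← Cfsg.Agent.S0765.result (F := K) n]
    apply (Subgroup.closure_le _).2
    rintro A ⟨w, c, hA⟩
    by_cases hw : w = 0
    · have : A = 1 := by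
        apply Subtype.ext
        rw [hA, hw]
        simp [Cfsg.sympTransvection]
      rw [this]
      exact Subgroup.one_mem _
    · rcases scalar_cases c with h0 | h1
      · have : A = 1 := by
          apply Subtype.ext
          rw [hA, h0]
          simp [Cfsg.sympTransvection]
        rw [this]
        exact Subgroup.one_mem _
      · apply Subgroup.subset_closure
        refine ⟨w, hw, ?_⟩
        apply Subtype.ext
        rw [hA, h1]
        rfl

/-- In the symplectic group in dimension 2n ≥ 2 over the field with two elements, the elements g for which g - 1 has rank one (the symplectic transvections) form a conjugacy class of 3-transpositions generating the group. -/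
theorem result (n : ℕ) (hn : 1 ≤ n) : Cfsg.IsThreeTranspositionClass {g : Matrix.symplecticGroup (Fin n) (ZMod 2) | ((g : Matrix (Fin n ⊕ Fin n) (Fin n ⊕ Fin n) (ZMod 2)) - 1).rank = 1} := by
  exact main hn

end Cfsg.Agent.S0440
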