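import Cfsg.Statements.S0441
import Mathlib
import Cfsg.Agent.S0215
import Cfsg.Agent.S5350
import Cfsg.Agent.Lib.Helper88.Rank3Prim

set_option autoImplicit false
open Cfsg

namespace Cfsg.Agent.S0441

/-- Fischer's rank-three property. Let a finite group be generated by a conjugacy class D of 3-transpositions, with non-abelian simple commutator subgroup. Then for a in D there are members of D other than a commuting with a and members not commuting with a, and the centraliser of a acts transitively on each of these two sets. -/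
theorem result {G : Type*} [Group G] [Finite G] {D : Set G} (hD : Cfsg.IsThreeTranspositionClass D) (hsimple : IsSimpleGroup (commutator G)) (hnonab : ∃ x y : commutator G, x * y ≠ y * x) {a : G} (ha : a ∈ D) : (∃ b ∈ D, b ≠ a ∧ Commute a b) ∧ (∃ c ∈ D, ¬ Commute a c) ∧ (∀ b ∈ D, ∀ b' ∈ D, b ≠ a → b' ≠ a → Commute a b → Commute a b' → ∃ g : G, Commute g a ∧ g * b * g⁻¹ = b') ∧ (∀ c ∈ D, ∀ c' ∈ D, ¬ Commute a c → ¬ Commute a c' → ∃ g : G, Commute g a ∧ g * c * g⁻¹ = c') := by
  have hZ : Cfsg.Agent.Helper20.ZStarHyp := fun G _ _ P x hx hxP hiso => Cfsg.Agent.S0215.result P x hx hxP hiso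
  obtain ⟨hprim, hw⟩ := Cfsg.Agent.Helper88.Rank3.primitive_of_simple_derived hZ hD hsimple hnonab
  have hD2 : ∃ a ∈ D, ∃ b ∈ D, a ≠ b := hprim.2.1
  have hP := Cfsg.Agent.Helper88.Rank3.primHyp_of_primitive hZ hD hprim hw
    (fun d hd => (Cfsg.Agent.S5350.result hD hD2 hd).2)
  have hT : Cfsg.Agent.Helper88.TT D := Cfsg.Agent.Helper88.TT.of_class hD
  refine ⟨?_, ?_, ?_, ?_⟩
  · obtain ⟨p, hp, q, hq, hpq, hc⟩ := hw
    obtain ⟨g, hg⟩ := Cfsg.Agent.Helper88.TTStruct.exists_conj_of_class hD hp ha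
    refine ⟨g * q * g⁻¹, hT.conj g q hq, ?_, ?_⟩
    · intro h
      apply hpq
      rw [← hg] at h
      have h3 : g⁻¹ * (g * q * g⁻¹) * g = g⁻¹ * (g * p * g⁻¹) * g := by rw [h]
      have e : ∀ t : G, g⁻¹ * (g * t * g⁻¹) * g = t := fun t => by group
      rw [e, e] at h3
      exact h3.symm
    · rw [← hg]
      exact (Commute.conj_iff g).2 hc
  · by_contra hcon
    push Not at hcon
    apply Cfsg.Agent.Helper88.TTStruct.not_mem_center hD hD2 ha
    have h1 : Subgroup.zpowers a ≤ Subgroup.center G := by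
      apply Cfsg.Agent.Helper88.TTStruct.le_center_of_forall_commute hD.2.2
      intro s hs y hy
      obtain ⟨k, rfl⟩ := Subgroup.mem_zpowers_iff.1 hy
      exact ((hcon s hs).symm).zpow_right k
    exact h1 (Subgroup.mem_zpowers a)
  · intro b hb b' hb' hba hb'a hab hab'
    exact Cfsg.Agent.Helper88.Rank3.trans_D hP ha b hb b' hb' hba hb'a hab hab'
  · intro c hc c' hc' hac hac'
    exact Cfsg.Agent.Helper88.Rank3.trans_A hP ha c hc c' hc' hac hac'

end Cfsg.Agent.S0441
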