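import Cfsg.Statements.S0442
import Mathlib

set_option autoImplicit false
open Cfsg

namespace Cfsg.Agent.S0442

theorem inv_prod {G : Type*} [Group G] {a b : G} (haa : a * a = 1) (hbb : b * b = 1) :
    (a * b)⁻¹ = b * a := by
  apply inv_eq_of_mul_eq_one_right
  calc a * b * (b * a) = a * (b * b) * a := by simp only [mul_assoc]
    _ = 1 := by rw [hbb, mul_one, haa]

theorem semi_left {G : Type*} [Group G] {a b : G} (haa : a * a = 1) (hbb : b * b = 1) :
    SemiconjBy a (a * b) (a * b)⁻¹ := by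
  rw [inv_prod haa hbb]
  show a * (a * b) = b * a * a
  rw [← mul_assoc, haa, one_mul, mul_assoc, haa, mul_one]

theorem semi_right {G : Type*} [Group G] {a b : G} (haa : a * a = 1) (hbb : b * b = 1) :
    SemiconjBy b (a * b) (a * b)⁻¹ := by
  rw [inv_prod haa hbb]
  show b * (a * b) = b * a * b
  rw [mul_assoc]

theorem even_case {G : Type*} [Group G] {a b : G} (haa : a * a = 1) (hbb : b * b = 1) (m : ℕ)
    (h : (a * b) ^ (2 * m) = 1) : Commute ((a * b) ^ m) a := by
  have h1 : SemiconjBy a ((a * b) ^ m) ((a * b)⁻¹ ^ m) := (semi_left haa hbb).pow_right m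
  have h2 : (a * b)⁻¹ ^ m = (a * b) ^ m := by
    rw [inv_pow]
    apply inv_eq_of_mul_eq_one_right
    rw [← pow_add, ← two_mul]; exact h
  rw [h2] at h1
  exact (show Commute a ((a * b) ^ m) from h1).symm

theorem odd_case {G : Type*} [Group G] {a b g : G} (haa : a * a = 1) (hbb : b * b = 1) (m : ℕ)
    (hg : g * b = a * g) (h : (a * b) ^ (2 * m + 1) = 1) : Commute (g * (a * b) ^ m) a := by
  have h1 : SemiconjBy b ((a * b) ^ m) ((a * b)⁻¹ ^ m) := (semi_right haa hbb).pow_right m
  have h1' : b * (a * b) ^ m = ((a * b) ^ m)⁻¹ * b := by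
    rw [← inv_pow]; exact h1
  have h2 : (a * b) ^ m * (a * b) ^ m = b * a := by
    rw [← pow_add, ← two_mul, ← inv_prod haa hbb]
    apply eq_inv_of_mul_eq_one_left
    rw [← pow_succ]; exact h
  have h3 : ((a * b) ^ m)⁻¹ * b = (a * b) ^ m * a := by
    rw [inv_mul_eq_iff_eq_mul, ← mul_assoc, h2, mul_assoc, haa, mul_one]
  show g * (a * b) ^ m * a = a * (g * (a * b) ^ m)
  rw [← mul_assoc a, ← hg, mul_assoc g b, h1', h3, mul_assoc]

/-- A standard trick for producing elements of an involution centraliser: for an involution a and an element g, let b be the conjugate g⁻¹ * a * g. If a * b has odd order 2m + 1 then g * (a * b) ^ m commutes with a; if a * b has even order 2m then (a * b) ^ m and (a * (g * a * g⁻¹)) ^ m commute with a. -/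
theorem result {G : Type*} [Group G] (a g : G) (ha : orderOf a = 2) : (∀ m : ℕ, orderOf (a * (g⁻¹ * a * g)) = 2 * m + 1 → Commute (g * (a * (g⁻¹ * a * g)) ^ m) a) ∧ (∀ m : ℕ, orderOf (a * (g⁻¹ * a * g)) = 2 * m → Commute ((a * (g⁻¹ * a * g)) ^ m) a ∧ Commute ((a * (g * a * g⁻¹)) ^ m) a) := by
  have haa : a * a = 1 := by
    rw [← pow_two, ← ha]; exact pow_orderOf_eq_one a
  have hbb : (g⁻¹ * a * g) * (g⁻¹ * a * g) = 1 := by
    calc (g⁻¹ * a * g) * (g⁻¹ * a * g) = g⁻¹ * (a * (g * g⁻¹) * a) * g := by simp only [mul_assoc]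
      _ = 1 := by rw [mul_inv_cancel, mul_one, haa, mul_one, inv_mul_cancel]
  have hbb' : (g * a * g⁻¹) * (g * a * g⁻¹) = 1 := by
    calc (g * a * g⁻¹) * (g * a * g⁻¹) = g * (a * (g⁻¹ * g) * a) * g⁻¹ := by simp only [mul_assoc]
      _ = 1 := by rw [inv_mul_cancel, mul_one, haa, mul_one, mul_inv_cancel]
  refine ⟨fun m hm => ?_, fun m hm => ⟨?_, ?_⟩⟩
  · apply odd_case haa hbb m
    · simp only [← mul_assoc, mul_inv_cancel, one_mul]
    · rw [← hm]; exact pow_orderOf_eq_one _
  · apply even_case haa hbb m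
    rw [← hm]; exact pow_orderOf_eq_one _
  · apply even_case haa hbb' m
    have hconj : a * (g * a * g⁻¹) = g * (a * (g⁻¹ * a * g))⁻¹ * g⁻¹ := by
      rw [inv_prod haa hbb]
      simp only [mul_assoc, mul_inv_cancel_left]
    have hpow : ∀ (x : G) (n : ℕ), (g * x * g⁻¹) ^ n = g * x ^ n * g⁻¹ := by
      intro x n
      induction n with
      | zero => simp
      | succ n ih => rw [pow_succ, ih, pow_succ]; simp only [mul_assoc, inv_mul_cancel_left]
    rw [hconj, hpow, inv_pow, ← hm, pow_orderOf_eq_one, inv_one, mul_one, mul_inv_cancel]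

end Cfsg.Agent.S0442
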