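import Cfsg.Statements.S0444
import Mathlib
import Cfsg.Agent.S0437

set_option autoImplicit false
open Cfsg

namespace Cfsg.Agent.S0444

open Cfsg.Agent.S0436 Cfsg.Agent.S0437

theorem step {G : Type*} [Group G] {d e : G} (hdd : d * d = 1) (hee : e * e = 1)
    (bra : d * e * d = e * d * e) (y : G)
    (hy : y ∈ ({1, d, e, d * e, e * d, d * e * d} : Set G)) :
    d * y ∈ ({1, d, e, d * e, e * d, d * e * d} : Set G) ∧
    e * y ∈ ({1, d, e, d * e, e * d, d * e * d} : Set G) := by
  simp only [Set.mem_insert_iff, Set.mem_singleton_iff] at hy ⊢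
  rcases hy with rfl | rfl | rfl | rfl | rfl | rfl
  · simp
  · refine ⟨Or.inl hdd, ?_⟩; simp
  · refine ⟨?_, Or.inl hee⟩; simp
  · refine ⟨?_, ?_⟩
    · right; right; left; rw [← mul_assoc, hdd, one_mul]
    · right; right; right; right; right; rw [bra, mul_assoc]
  · refine ⟨?_, ?_⟩
    · right; right; right; right; right; rw [mul_assoc]
    · right; left; rw [← mul_assoc, hee, one_mul]
  · refine ⟨?_, ?_⟩
    · right; right; right; right; left; rw [mul_assoc d e d, ← mul_assoc d d, hdd, one_mul]
    · right; right; right; left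
      rw [bra, mul_assoc e d e, ← mul_assoc e e, hee, one_mul]

/-- Two members of a set of 3-transpositions which do not commute generate a subgroup isomorphic to the symmetric group on three letters. -/
theorem result {G : Type*} [Group G] {E : Set G} (hE : Cfsg.IsThreeTranspositionSet E) {d e : G} (hd : d ∈ E) (he : e ∈ E) (h : ¬ Commute d e) : Nonempty (Subgroup.closure ({d, e} : Set G) ≃* Equiv.Perm (Fin 3)) := by
  classical
  have hdd := sq_one_of_mem hE hd
  have hee := sq_one_of_mem hE he
  have hdi : d⁻¹ = d := inv_eq_of_mul_eq_one_right hdd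
  have hei : e⁻¹ = e := inv_eq_of_mul_eq_one_right hee
  have h3 : (d * e) ^ 3 = 1 := by
    rcases hE.2 d hd e he with h2 | h3
    · exact absurd (commute_of_sq hdd hee h2) h
    · exact h3
  have bra : d * e * d = e * d * e := braid hdd hee h3
  have hde1 : d * e ≠ 1 := by
    intro h1
    apply h
    have : d = e⁻¹ := eq_inv_of_mul_eq_one_left h1
    rw [this, hei]
  have ho3 : orderOf (d * e) = 3 := by
    have : Fact (Nat.Prime 3) := ⟨Nat.prime_three⟩
    exact orderOf_eq_prime h3 hde1
  have ho2 : orderOf d = 2 := hE.1 d hd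
  obtain ⟨H, hH⟩ : ∃ H, H = Subgroup.closure ({d, e} : Set G) := ⟨_, rfl⟩
  rw [← hH]
  have hdH : d ∈ H := by rw [hH]; exact Subgroup.subset_closure (by simp)
  have heH : e ∈ H := by rw [hH]; exact Subgroup.subset_closure (by simp)
  -- upper bound
  have hsub' : ∀ x, x ∈ Subgroup.closure ({d, e} : Set G) →
      x ∈ ({1, d, e, d * e, e * d, d * e * d} : Set G) := by
    intro x hx'
    induction hx' using Subgroup.closure_induction_left with
    | one => simp
    | mul_left x hx y hy ih =>
      have := step hdd hee bra y ih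
      rcases hx with rfl | hx
      · exact this.1
      · rw [Set.mem_singleton_iff] at hx; subst hx; exact this.2
    | inv_mul_cancel x hx y hy ih =>
      have := step hdd hee bra y ih
      rcases hx with rfl | hx
      · rw [hdi]; exact this.1
      · rw [Set.mem_singleton_iff] at hx; subst hx; rw [hei]; exact this.2
  have hsub : (H : Set G) ⊆ ({1, d, e, d * e, e * d, d * e * d} : Set G) := by
    intro x hx
    apply hsub'
    rw [← hH]; exact hx
  have hSfin : ({1, d, e, d * e, e * d, d * e * d} : Set G).Finite := by
    simp only [Set.finite_insert, Set.finite_singleton]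
  have hHfin : Finite H := (hSfin.subset hsub).to_subtype
  have hle : Nat.card H ≤ 6 := by
    have h1 : Nat.card H = (H : Set G).ncard := rfl
    rw [h1]
    refine le_trans (Set.ncard_le_ncard hsub hSfin) ?_
    have : ({1, d, e, d * e, e * d, d * e * d} : Set G) =
        (({1, d, e, d * e, e * d, d * e * d} : Finset G) : Set G) := by simp
    rw [this, Set.ncard_coe_finset]
    exact Finset.card_le_six
  have h2dvd : 2 ∣ Nat.card H := by
    have : orderOf (⟨d, hdH⟩ : H) = 2 := by
      rw [← ho2]; exact Subgroup.orderOf_mk d hdH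
    rw [← this]; exact orderOf_dvd_natCard _
  have h3dvd : 3 ∣ Nat.card H := by
    have : orderOf (⟨d * e, H.mul_mem hdH heH⟩ : H) = 3 := by
      rw [← ho3]; exact Subgroup.orderOf_mk _ _
    rw [← this]; exact orderOf_dvd_natCard _
  have hcard : Nat.card H = 6 := by
    have h6 : 6 ∣ Nat.card H := Nat.Coprime.mul_dvd_of_dvd_of_dvd (by norm_num) h2dvd h3dvd
    have hpos : 0 < Nat.card H := Nat.card_pos
    obtain ⟨k, hk⟩ := h6
    omega
  -- the action on cosets of ⟨d⟩
  let d' : H := ⟨d, hdH⟩
  let e' : H := ⟨e, heH⟩
  let D : Subgroup H := Subgroup.zpowers d'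
  have hd'o : orderOf d' = 2 := by
    rw [← ho2]; exact Subgroup.orderOf_mk d hdH
  have hDmem : ∀ x : H, x ∈ D → x = 1 ∨ x = d' := by
    intro x hx
    obtain ⟨k, rfl⟩ := Subgroup.mem_zpowers_iff.mp hx
    have hk : d' ^ k = d' ^ (k % 2) := by
      have := zpow_mod_orderOf d' k
      rw [hd'o] at this
      exact this.symm
    rcases Int.emod_two_eq_zero_or_one k with h0 | h1
    · left; rw [hk, h0]; simp
    · right; rw [hk, h1]; simp
  have hDcard : Nat.card D = 2 := by
    rw [Nat.card_zpowers, hd'o]
  have hqcard : Nat.card (H ⧸ D) = 3 := by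
    have := Subgroup.card_eq_card_quotient_mul_card_subgroup D
    rw [hcard, hDcard] at this
    omega
  let φ : H →* Equiv.Perm (H ⧸ D) := MulAction.toPermHom H (H ⧸ D)
  have hφinj : Function.Injective φ := by
    rw [injective_iff_map_eq_one]
    intro x hx
    have h1 : x • ((1 : H) : H ⧸ D) = ((1 : H) : H ⧸ D) := by
      have := congrArg (fun σ : Equiv.Perm (H ⧸ D) => σ ((1 : H) : H ⧸ D)) hx
      simpa [φ] using this
    have h2 : x • ((e' : H) : H ⧸ D) = ((e' : H) : H ⧸ D) := by
      have := congrArg (fun σ : Equiv.Perm (H ⧸ D) => σ ((e' : H) : H ⧸ D)) hx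
      simpa [φ] using this
    rw [MulAction.Quotient.smul_mk, QuotientGroup.eq] at h1 h2
    have hxD : x ∈ D := by
      have := D.inv_mem h1
      simpa using this
    rcases hDmem x hxD with rfl | rfl
    · rfl
    · exfalso
      have h00 : (d' • e')⁻¹ * e' = e'⁻¹ * d'⁻¹ * e' := by
        show (d' * e')⁻¹ * e' = _
        group
      rw [h00] at h2
      rcases hDmem _ h2 with h0 | h0
      · have := congrArg Subtype.val h0
        simp only [Subgroup.coe_mul, Subgroup.coe_inv, Subgroup.coe_one, d', e'] at this
        rw [hdi, hei] at this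
        -- e d e = 1
        have hd1 : d = 1 := by
          calc d = e * (e * d * e) * e := by
                rw [mul_assoc e d e, ← mul_assoc e e, hee, one_mul, mul_assoc, hee, mul_one]
            _ = 1 := by rw [this, mul_one, hee]
        rw [hd1, orderOf_one] at ho2
        omega
      · have := congrArg Subtype.val h0
        simp only [Subgroup.coe_mul, Subgroup.coe_inv, d', e'] at this
        rw [hdi, hei] at this
        -- e d e = d
        apply h
        show d * e = e * d
        calc d * e = (e * d * e) * e := by rw [this]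
          _ = e * d := by rw [mul_assoc, hee, mul_one]
  let ψ : H →* Equiv.Perm (Fin 3) :=
    ((Finite.equivFinOfCardEq hqcard).permCongrHom.toMonoidHom).comp φ
  have hψinj : Function.Injective ψ := by
    intro x y hxy
    apply hφinj
    exact (Finite.equivFinOfCardEq hqcard).permCongrHom.injective hxy
  have hψbij : Function.Bijective ψ := by
    apply Function.Injective.bijective_of_nat_card_le hψinj
    rw [hcard, Nat.card_perm, Nat.card_fin]
    decide
  exact ⟨MulEquiv.ofBijective ψ hψbij⟩

end Cfsg.Agent.S0444
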