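import Cfsg.Statements.S0446
import Mathlib

set_option autoImplicit false
open Cfsg

namespace Cfsg.Agent.S0446

/-- Every finite group of even order contains a 2-central involution, i.e. an element of order 2 in the centre of some Sylow 2-subgroup. -/
theorem result {G : Type*} [Group G] [Finite G] (h : Even (Nat.card G)) : ∃ t : G, Cfsg.IsTwoCentralInvolution t := by
  have : Fact (Nat.Prime 2) := ⟨Nat.prime_two⟩
  obtain ⟨P⟩ : Nonempty (Sylow 2 G) := inferInstance
  have h2 : 2 ∣ Nat.card G := even_iff_two_dvd.mp h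
  have hPnt : Nontrivial (P : Subgroup G) := by
    have hc : Nat.card (P : Subgroup G) = 2 ^ (Nat.card G).factorization 2 := P.card_eq_multiplicity
    have hpos : 0 < (Nat.card G).factorization 2 :=
      Nat.Prime.factorization_pos_of_dvd Nat.prime_two Nat.card_pos.ne' h2
    have : 1 < Nat.card (P : Subgroup G) := by
      rw [hc]; exact Nat.one_lt_two_pow hpos.ne'
    exact Finite.one_lt_card_iff_nontrivial.mp this
  have hcnt : Nontrivial (Subgroup.center (P : Subgroup G)) := IsPGroup.center_nontrivial P.2
  have hpc : IsPGroup 2 (Subgroup.center (P : Subgroup G)) := P.2.to_subgroup _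
  have hdvd : 2 ∣ Nat.card (Subgroup.center (P : Subgroup G)) := by
    obtain ⟨n, hn⟩ := IsPGroup.iff_card.mp hpc
    have hn0 : n ≠ 0 := by
      rintro rfl
      have : 1 < Nat.card (Subgroup.center (P : Subgroup G)) := Finite.one_lt_card
      omega
    rw [hn]; exact dvd_pow_self 2 hn0
  obtain ⟨z, hz⟩ := exists_prime_orderOf_dvd_card' 2 hdvd
  refine ⟨((z : (P : Subgroup G)) : G), ?_, P, (z : (P : Subgroup G)).2, fun x hx => ?_⟩
  · rw [Subgroup.orderOf_coe, Subgroup.orderOf_coe]; exact hz
  · have := Subgroup.mem_center_iff.mp z.2 ⟨x, hx⟩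
    exact congrArg Subtype.val this

end Cfsg.Agent.S0446
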