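import Cfsg.Statements.S0447
import Cfsg.Agent.Lib.Helper59.DCInvol
import Cfsg.Agent.Lib.Helper59.DoubleCoverAltF

set_option autoImplicit false
open Cfsg

namespace Cfsg.Agent.S0447

open Cfsg.Agent.Helper59 in
theorem part1 (n : ℕ) (H : Type) [Group H] [Finite H] (hn : n ≤ 7)
    (hcov : Cfsg.IsNonsplitDoubleCover H (alternatingGroup (Fin n))) (x y : H)
    (hx : orderOf x = 2) (hy : orderOf y = 2) : x = y := by
  by_cases h3 : n ≤ 3
  · exact (DCInvol.small_case n h3 H hcov).elim
  · obtain ⟨k, rfl⟩ : ∃ k, n = k + 1 + 1 := ⟨n - 2, by omega⟩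
    have hcard := hcov.1
    obtain ⟨zz, hzz1, hzu⟩ := (Nat.card_eq_two_iff' (1 : Subgroup.center H)).mp hcard
    have hall : ∀ c ∈ Subgroup.center H, c = 1 ∨ c = zz.1 := by
      intro c hc
      by_cases h : (⟨c, hc⟩ : Subgroup.center H) = 1
      · left; exact congrArg Subtype.val h
      · right; exact congrArg Subtype.val (hzu ⟨c, hc⟩ h)
    have key : ∀ t, orderOf t = 2 → t = zz.1 := by
      intro t ht
      by_contra htz
      exact DCInvol.big_case k hn H hcov t zz.1 zz.2
        (fun h => hzz1 (Subtype.ext h)) hall ht htz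
    rw [key x hx, key y hy]

/-- Involutions in double covers of alternating groups: for n ≤ 7, a finite non-split double cover of the alternating group of degree n has exactly one element of order 2 (the central one); for degree 8 there is a non-split double cover with two distinct involutions. -/
theorem result : (∀ (n : ℕ) (H : Type) (_ : Group H) (_ : Finite H), n ≤ 7 → Cfsg.IsNonsplitDoubleCover H (alternatingGroup (Fin n)) → ∀ x y : H, orderOf x = 2 → orderOf y = 2 → x = y) ∧ ∃ (H : Type) (_ : Group H) (_ : Finite H), Cfsg.IsNonsplitDoubleCover H (alternatingGroup (Fin 8)) ∧ ∃ x y : H, x ≠ y ∧ orderOf x = 2 ∧ orderOf y = 2 := by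
  refine ⟨?_, Cfsg.Agent.Helper59.DCA.part2⟩
  intro n H _ _ hn hcov x y hx hy
  exact part1 n H hn hcov x y hx hy

end Cfsg.Agent.S0447
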