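import Cfsg.Statements.S0478
import Cfsg.Agent.Lib.Helper8.J3SU

set_option autoImplicit false
open Cfsg

namespace Cfsg.Agent.S0478

/-- A field with four elements contains a root of `x² = x + 1`. -/
theorem exists_omega (F : Type) [Field F] [Fintype F] (hF : Fintype.card F = 4) [CharP F 2] :
    ∃ ω : F, ω ^ 2 = ω + 1 := by
  classical
  have h2 : (2 : F) = 0 := CharTwo.two_eq_zero
  have hex : ∃ x : F, x ≠ 0 ∧ x ≠ 1 := by
    by_contra hne
    replace hne : ∀ x : F, x ≠ 0 → x = 1 := by
      intro x hx
      by_contra h1
      exact hne ⟨x, hx, h1⟩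
    have hsub : (Finset.univ : Finset F) ⊆ {0, 1} := by
      intro x _
      by_cases hx : x = 0
      · simp [hx]
      · simp [hne x hx]
    have := Finset.card_le_card hsub
    rw [Finset.card_univ, hF] at this
    have h3 : ({0, 1} : Finset F).card ≤ 2 := Finset.card_le_two
    omega
  obtain ⟨x, hx0, hx1⟩ := hex
  refine ⟨x, ?_⟩
  have hpow : x ^ 3 = 1 := by
    have := FiniteField.pow_card_sub_one_eq_one x hx0
    rwa [hF] at this
  have hfac : (x - 1) * (x ^ 2 + x + 1) = 0 := by
    have : (x - 1) * (x ^ 2 + x + 1) = x ^ 3 - 1 := by ring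
    rw [this, hpow, sub_self]
  rcases mul_eq_zero.mp hfac with h | h
  · exact absurd (sub_eq_zero.mp h) hx1
  · linear_combination h - (x + 1) * h2

/-- A triple cover of Janko's third group inside a unitary group: for a field F with four elements, the special unitary group of dimension 9 (with respect to the form with q = 2) has a subgroup whose centre has order 3 and whose quotient by its centre is simple of order 50232960. -/
theorem result : ∃ (F : Type) (_ : Field F) (_ : Fintype F), Fintype.card F = 4 ∧ ∃ H : Subgroup (Cfsg.SU 9 F 2), Nat.card (Subgroup.center H) = 3 ∧ Cfsg.IsJ3 (H ⧸ Subgroup.center H) := by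
  let _ : Fintype (GaloisField 2 2) := Fintype.ofFinite _
  have hcard : Fintype.card (GaloisField 2 2) = 4 := by
    rw [← Nat.card_eq_fintype_card, GaloisField.card 2 2 (by norm_num)]
    norm_num
  refine ⟨GaloisField 2 2, inferInstance, inferInstance, hcard, ?_⟩
  have : CharP (GaloisField 2 2) 2 := inferInstance
  obtain ⟨ω, hω⟩ := exists_omega (GaloisField 2 2) hcard
  exact Cfsg.Agent.Helper8.J3M.exists_SU ω hω

end Cfsg.Agent.S0478
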