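import Cfsg.Statements.S0481
import Mathlib

set_option autoImplicit false
open Cfsg

namespace Cfsg.Agent.S0481

open scoped Pointwise

/-- Large extraspecial subgroups: let z be an involution of a finite group G whose centraliser C contains a normal 2-subgroup Q with centre of order 2 and all squares central, such that every element of G centralising Q lies in Q. Then C contains a Sylow 2-subgroup of G, and any involution of G whose centraliser contains a Sylow 2-subgroup of G is conjugate to z. -/
theorem result {G : Type*} [Group G] [Finite G] (z : G) (hz : orderOf z = 2) (Q : Subgroup G) (hQC : Q ≤ Subgroup.centralizer ({z} : Set G)) (hQn : ∀ g ∈ Subgroup.centralizer ({z} : Set G), ∀ q ∈ Q, g * q * g⁻¹ ∈ Q) (hQ2 : IsPGroup 2 Q) (hZ : Nat.card (Subgroup.center Q) = 2) (hsq : ∀ x : Q, x ^ 2 ∈ Subgroup.center Q) (hlarge : Subgroup.centralizer (Q : Set G) ≤ Q) : (∃ P : Sylow 2 G, (P : Subgroup G) ≤ Subgroup.centralizer ({z} : Set G)) ∧ ∀ u : G, orderOf u = 2 → (∃ P : Sylow 2 G, (P : Subgroup G) ≤ Subgroup.centralizer ({u} : Set G)) → IsConj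 z u := by
  have : Fact (Nat.Prime 2) := ⟨Nat.prime_two⟩
  have hz1 : z ≠ 1 := by
    intro h; rw [h, orderOf_one] at hz; omega
  -- z centralises Q
  have hzC : z ∈ Subgroup.centralizer (Q : Set G) := by
    rw [Subgroup.mem_centralizer_iff]
    intro q hq
    have := hQC hq
    rw [Subgroup.mem_centralizer_iff] at this
    exact (this z rfl).symm
  have hzQ : z ∈ Q := hlarge hzC
  -- key: anything centralising Q is 1 or z
  have key : ∀ w : G, w ∈ Subgroup.centralizer (Q : Set G) → w ≠ 1 → w = z := by
    intro w hw hw1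
    have hwQ : w ∈ Q := hlarge hw
    have hwc : (⟨w, hwQ⟩ : Q) ∈ Subgroup.center Q := by
      rw [Subgroup.mem_center_iff]
      rintro ⟨q, hq⟩
      rw [Subgroup.mem_centralizer_iff] at hw
      exact Subtype.ext (hw q hq)
    have hzc : (⟨z, hzQ⟩ : Q) ∈ Subgroup.center Q := by
      rw [Subgroup.mem_center_iff]
      rintro ⟨q, hq⟩
      rw [Subgroup.mem_centralizer_iff] at hzC
      exact Subtype.ext (hzC q hq)
    obtain ⟨y, -, hy⟩ := (Nat.card_eq_two_iff' (1 : Subgroup.center Q)).mp hZ
    have e1 : (⟨⟨w, hwQ⟩, hwc⟩ : Subgroup.center Q) = y := by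
      apply hy
      intro h
      apply hw1
      have := congrArg (fun t : Subgroup.center Q => ((t : Q) : G)) h
      simpa using this
    have e2 : (⟨⟨z, hzQ⟩, hzc⟩ : Subgroup.center Q) = y := by
      apply hy
      intro h
      apply hz1
      have := congrArg (fun t : Subgroup.center Q => ((t : Q) : G)) h
      simpa using this
    have := congrArg (fun t : Subgroup.center Q => ((t : Q) : G)) (e1.trans e2.symm)
    simpa using this
  -- a Sylow 2-subgroup T containing Q
  obtain ⟨T, hQT⟩ := hQ2.exists_le_sylow
  -- anything centralising T and nontrivial equals z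
  have keyT : ∀ w : G, (∀ x ∈ (T : Subgroup G), x * w = w * x) → w ≠ 1 → w = z := by
    intro w hw hw1
    apply key w _ hw1
    rw [Subgroup.mem_centralizer_iff]
    intro q hq
    exact hw q (hQT hq)
  -- T centralises z
  have hTz : (T : Subgroup G) ≤ Subgroup.centralizer ({z} : Set G) := by
    have hTnt : Nontrivial (T : Subgroup G) := by
      refine ⟨⟨⟨z, hQT hzQ⟩, 1, ?_⟩⟩
      intro h
      exact hz1 (congrArg Subtype.val h)
    have hcnt : Nontrivial (Subgroup.center (T : Subgroup G)) := IsPGroup.center_nontrivial T.2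
    obtain ⟨t, ht⟩ := exists_ne (1 : Subgroup.center (T : Subgroup G))
    have htz : ((t : (T : Subgroup G)) : G) = z := by
      apply keyT
      · intro x hx
        have := Subgroup.mem_center_iff.mp t.2 ⟨x, hx⟩
        exact congrArg Subtype.val this
      · intro h
        apply ht
        apply Subtype.ext
        apply Subtype.ext
        simpa using h
    intro x hx
    rw [Subgroup.mem_centralizer_iff]
    intro y hy
    rw [Set.mem_singleton_iff] at hy
    subst hy
    have := Subgroup.mem_center_iff.mp t.2 ⟨x, hx⟩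
    have := congrArg Subtype.val this
    rw [← htz]
    exact this.symm
  refine ⟨⟨T, hTz⟩, ?_⟩
  rintro u hu ⟨P, hP⟩
  have hu1 : u ≠ 1 := by
    intro h; rw [h, orderOf_one] at hu; omega
  obtain ⟨g, hg⟩ := MulAction.exists_smul_eq G T P
  -- u' = g⁻¹ u g centralises T
  have hu' : g⁻¹ * u * g = z := by
    apply keyT
    · intro x hx
      have hxP : g * x * g⁻¹ ∈ (P : Subgroup G) := by
        rw [← hg, Sylow.coe_subgroup_smul]
        rw [Subgroup.mem_pointwise_smul_iff_inv_smul_mem]
        simp only [MulAut.smul_def, ← map_inv, MulAut.conj_apply, inv_inv]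
        have : g⁻¹ * (g * x * g⁻¹) * g = x := by group
        rw [this]; exact hx
      have := hP hxP
      rw [Subgroup.mem_centralizer_iff] at this
      have h1 := this u rfl
      -- u * (g x g⁻¹) = (g x g⁻¹) * u
      calc x * (g⁻¹ * u * g) = g⁻¹ * ((g * x * g⁻¹) * u) * g := by group
        _ = g⁻¹ * (u * (g * x * g⁻¹)) * g := by rw [h1]
        _ = g⁻¹ * u * g * x := by group
    · intro h
      apply hu1
      have : u = g * (g⁻¹ * u * g) * g⁻¹ := by group
      rw [this, h]; group
  rw [isConj_iff]
  refine ⟨g, ?_⟩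
  rw [← hu']; group

end Cfsg.Agent.S0481
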