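import Cfsg.Statements.S0499
-- import your own Cfsg.Agent.* helpers here
import Mathlib
import Cfsg.Agent.Lib.Helper9.ConjFixed
import Cfsg.Agent.Lib.Helper9.SimpleNoComplement

set_option autoImplicit false
open Cfsg

namespace Cfsg.Agent.S0499

/-- A non-abelian finite simple group of even order has order divisible by 12, 16 or 56. -/
theorem result {G : Type*} [Group G] [Finite G] [IsSimpleGroup G]
    (hG : ¬ IsMulCommutative G) (h2 : Even (Nat.card G)) :
    12 ∣ Nat.card G ∨ 16 ∣ Nat.card G ∨ 56 ∣ Nat.card G := by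
  by_cases h16 : 16 ∣ Nat.card G
  · exact Or.inr (Or.inl h16)
  haveI : Fact (Nat.Prime 2) := ⟨Nat.prime_two⟩
  obtain ⟨X, g, r, k, hX, hr, hr2, hk0, hord, hgN, hgC⟩ :=
    Cfsg.Agent.Helper9.exists_nontrivial_coprime_action_of_simple hG 2 h2.two_dvd
  haveI : Fact r.Prime := ⟨hr⟩
  have hgN' : ∀ x ∈ X, g * x * g⁻¹ ∈ X := fun x hx => (Subgroup.mem_normalizer_iff.mp hgN x).mp hx
  have hgr : g ^ (r ^ k) = 1 := by rw [← hord]; exact pow_orderOf_eq_one g
  have hmod := Cfsg.Agent.Helper9.card_modEq_card_inf_centralizer X g hgN' r k hgr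
  set F : Subgroup G := X ⊓ Subgroup.centralizer {g} with hF
  have hFX : F ≤ X := inf_le_left
  have hFne : Nat.card F ≠ Nat.card X := by
    intro hcard
    have hEq : F = X := Subgroup.eq_of_le_of_card_ge hFX hcard.ge
    apply hgC
    rw [Subgroup.mem_centralizer_iff]
    intro x hx
    have hxF : x ∈ F := by rw [hEq]; exact hx
    have := Subgroup.mem_centralizer_singleton_iff.mp hxF.2
    exact this
  obtain ⟨b, hb⟩ := IsPGroup.iff_card.mp hX
  have hFdvd : Nat.card F ∣ 2 ^ b := by rw [← hb]; exact Subgroup.card_dvd_of_le hFX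
  obtain ⟨c, hcb, hc⟩ := (Nat.dvd_prime_pow Nat.prime_two).mp hFdvd
  have hcb' : c < b := by
    rcases Nat.lt_or_ge c b with h | h
    · exact h
    · exfalso; apply hFne; rw [hc, hb]; congr 1; omega
  have hXn : 2 ^ b ∣ Nat.card G := by rw [← hb]; exact Subgroup.card_subgroup_dvd_card X
  have hb3 : b ≤ 3 := by
    by_contra hb4
    push Not at hb4
    apply h16
    exact (pow_dvd_pow 2 hb4).trans hXn
  have hrn : r ∣ Nat.card G := by
    have h1 : r ∣ orderOf g := by rw [hord]; exact dvd_pow_self r hk0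
    exact h1.trans (orderOf_dvd_natCard g)
  rw [hb, hc] at hmod
  have hdiv : r ∣ 2 ^ b - 2 ^ c :=
    (Nat.modEq_iff_dvd' (Nat.pow_le_pow_right (by norm_num) hcb)).mp hmod.symm
  have hr1 := hr.one_lt
  have key : (r = 3 ∧ 2 ≤ b) ∨ (r = 7 ∧ b = 3) := by
    interval_cases b <;> interval_cases c <;> norm_num at hdiv
    · omega
    · have := Nat.le_of_dvd (by norm_num) hdiv
      interval_cases r
      · exact absurd rfl hr2
      · left; exact ⟨rfl, le_refl _⟩
    · have := Nat.le_of_dvd (by norm_num) hdiv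
      interval_cases r <;> simp_all
    · have := Nat.le_of_dvd (by norm_num) hdiv
      interval_cases r <;> first | (right; exact ⟨rfl, rfl⟩) | (exfalso; revert hdiv; decide) | (exfalso; revert hr; decide) | simp_all
    · have := Nat.le_of_dvd (by norm_num) hdiv
      interval_cases r <;> first | (left; exact ⟨rfl, by norm_num⟩) | (exfalso; revert hdiv; decide) | (exfalso; revert hr; decide) | simp_all
    · have := Nat.le_of_dvd (by norm_num) hdiv
      interval_cases r <;> first | (exfalso; revert hdiv; decide) | (exfalso; revert hr; decide) | simp_all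
  rcases key with ⟨rfl, hb2⟩ | ⟨rfl, rfl⟩
  · left
    have h4 : 4 ∣ Nat.card G := (pow_dvd_pow 2 hb2).trans hXn
    exact Nat.Coprime.mul_dvd_of_dvd_of_dvd (by norm_num : Nat.Coprime 4 3) h4 hrn
  · right; right
    exact Nat.Coprime.mul_dvd_of_dvd_of_dvd (by norm_num : Nat.Coprime 8 7) hXn hrn

end Cfsg.Agent.S0499
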