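import Cfsg.Statements.S0493
-- import your own Cfsg.Agent.* helpers here
import Mathlib
import Cfsg.Agent.S0144
import Cfsg.Agent.S0499

set_option autoImplicit false
open Cfsg

namespace Cfsg.Agent.S0493

/-- A finite simple group of order at most 100 that is not cyclic has order 60. -/
theorem result {G : Type*} [Group G] [Finite G] [IsSimpleGroup G]
    (hG : ¬ IsCyclic G) (h : Nat.card G ≤ 100) : Nat.card G = 60 := by
  have hna : ¬ IsMulCommutative G := by
    intro hc
    letI : CommGroup G := { (inferInstance : Group G) with mul_comm := fun a b => mul_comm' a b }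
    exact hG IsSimpleGroup.isCyclic
  have hns : ¬ Group.IsSolvable G := by
    intro hs
    exact hna (isMulCommutative_iff.mpr (IsSimpleGroup.comm_iff_isSolvable.mpr hs))
  have hburn : ∀ p q a b : ℕ, p.Prime → q.Prime → Nat.card G ≠ p ^ a * q ^ b :=
    fun p q a b hp hq hc => hns (Cfsg.Agent.S0144.result p q a b hp hq hc)
  have heven : Even (Nat.card G) → 12 ∣ Nat.card G ∨ 16 ∣ Nat.card G ∨ 56 ∣ Nat.card G :=
    fun h2 => Cfsg.Agent.S0499.result hna h2
  have h84 : Nat.card G ≠ 84 := by
    intro hc
    haveI : Fact (Nat.Prime 7) := ⟨by norm_num⟩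
    obtain P : Sylow 7 G := default
    obtain ⟨k, hk⟩ := IsPGroup.iff_card.mp P.isPGroup'
    have hmul := Subgroup.card_mul_index (P : Subgroup G)
    rw [hc, hk] at hmul
    have hnd := P.not_dvd_index
    have hk1 : k ≤ 1 := by
      by_contra hk2
      push Not at hk2
      have : 7 ^ 2 ∣ 84 := (pow_dvd_pow 7 hk2).trans ⟨_, hmul.symm⟩
      revert this; decide
    have hidx : (P : Subgroup G).index = 12 := by
      interval_cases k
      · exfalso; apply hnd; rw [pow_zero, one_mul] at hmul; rw [hmul]; decide
      · omega
    have h1 := card_sylow_modEq_one 7 G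
    have h2 := P.card_dvd_index
    rw [hidx] at h2
    have h3 : Nat.card (Sylow 7 G) ≤ 12 := Nat.le_of_dvd (by norm_num) h2
    have h4 : Nat.card (Sylow 7 G) = 1 := by
      have hpos : 0 < Nat.card (Sylow 7 G) := Nat.card_pos
      unfold Nat.ModEq at h1
      interval_cases h : Nat.card (Sylow 7 G) <;> simp_all <;> omega
    haveI : Subsingleton (Sylow 7 G) := (Nat.card_eq_one_iff_unique.mp h4).1
    have hPn : (P : Subgroup G).Normal := Sylow.normal_of_subsingleton P
    rcases hPn.eq_bot_or_eq_top with h | h
    · rw [h, Subgroup.index_bot, hc] at hidx; omega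
    · rw [h, Subgroup.index_top] at hidx; omega
  have hpos : 0 < Nat.card G := Nat.card_pos
  generalize Nat.card G = n at *
  clear hna hns hG
  interval_cases n
  · exact absurd (by norm_num) (hburn 2 3 0 0 (by norm_num) (by norm_num))
  · exact absurd (by norm_num) (hburn 2 3 1 0 (by norm_num) (by norm_num))
  · exact absurd (by norm_num) (hburn 3 2 1 0 (by norm_num) (by norm_num))
  · exact absurd (by norm_num) (hburn 2 3 2 0 (by norm_num) (by norm_num))
  · exact absurd (by norm_num) (hburn 5 2 1 0 (by norm_num) (by norm_num))
  · exact absurd (by norm_num) (hburn 2 3 1 1 (by norm_num) (by norm_num))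
  · exact absurd (by norm_num) (hburn 7 2 1 0 (by norm_num) (by norm_num))
  · exact absurd (by norm_num) (hburn 2 3 3 0 (by norm_num) (by norm_num))
  · exact absurd (by norm_num) (hburn 3 2 2 0 (by norm_num) (by norm_num))
  · exact absurd (by norm_num) (hburn 2 5 1 1 (by norm_num) (by norm_num))
  · exact absurd (by norm_num) (hburn 11 2 1 0 (by norm_num) (by norm_num))
  · exact absurd (by norm_num) (hburn 2 3 2 1 (by norm_num) (by norm_num))
  · exact absurd (by norm_num) (hburn 13 2 1 0 (by norm_num) (by norm_num))
  · exact absurd (by norm_num) (hburn 2 7 1 1 (by norm_num) (by norm_num))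
  · exact absurd (by norm_num) (hburn 3 5 1 1 (by norm_num) (by norm_num))
  · exact absurd (by norm_num) (hburn 2 3 4 0 (by norm_num) (by norm_num))
  · exact absurd (by norm_num) (hburn 17 2 1 0 (by norm_num) (by norm_num))
  · exact absurd (by norm_num) (hburn 2 3 1 2 (by norm_num) (by norm_num))
  · exact absurd (by norm_num) (hburn 19 2 1 0 (by norm_num) (by norm_num))
  · exact absurd (by norm_num) (hburn 2 5 2 1 (by norm_num) (by norm_num))
  · exact absurd (by norm_num) (hburn 3 7 1 1 (by norm_num) (by norm_num))
  · exact absurd (by norm_num) (hburn 2 11 1 1 (by norm_num) (by norm_num))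
  · exact absurd (by norm_num) (hburn 23 2 1 0 (by norm_num) (by norm_num))
  · exact absurd (by norm_num) (hburn 2 3 3 1 (by norm_num) (by norm_num))
  · exact absurd (by norm_num) (hburn 5 2 2 0 (by norm_num) (by norm_num))
  · exact absurd (by norm_num) (hburn 2 13 1 1 (by norm_num) (by norm_num))
  · exact absurd (by norm_num) (hburn 3 2 3 0 (by norm_num) (by norm_num))
  · exact absurd (by norm_num) (hburn 2 7 2 1 (by norm_num) (by norm_num))
  · exact absurd (by norm_num) (hburn 29 2 1 0 (by norm_num) (by norm_num))
  · exfalso; rcases heven (by decide) with h | h | h <;> revert h <;> decide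
  · exact absurd (by norm_num) (hburn 31 2 1 0 (by norm_num) (by norm_num))
  · exact absurd (by norm_num) (hburn 2 3 5 0 (by norm_num) (by norm_num))
  · exact absurd (by norm_num) (hburn 3 11 1 1 (by norm_num) (by norm_num))
  · exact absurd (by norm_num) (hburn 2 17 1 1 (by norm_num) (by norm_num))
  · exact absurd (by norm_num) (hburn 5 7 1 1 (by norm_num) (by norm_num))
  · exact absurd (by norm_num) (hburn 2 3 2 2 (by norm_num) (by norm_num))
  · exact absurd (by norm_num) (hburn 37 2 1 0 (by norm_num) (by norm_num))
  · exact absurd (by norm_num) (hburn 2 19 1 1 (by norm_num) (by norm_num))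
  · exact absurd (by norm_num) (hburn 3 13 1 1 (by norm_num) (by norm_num))
  · exact absurd (by norm_num) (hburn 2 5 3 1 (by norm_num) (by norm_num))
  · exact absurd (by norm_num) (hburn 41 2 1 0 (by norm_num) (by norm_num))
  · exfalso; rcases heven (by decide) with h | h | h <;> revert h <;> decide
  · exact absurd (by norm_num) (hburn 43 2 1 0 (by norm_num) (by norm_num))
  · exact absurd (by norm_num) (hburn 2 11 2 1 (by norm_num) (by norm_num))
  · exact absurd (by norm_num) (hburn 3 5 2 1 (by norm_num) (by norm_num))
  · exact absurd (by norm_num) (hburn 2 23 1 1 (by norm_num) (by norm_num))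
  · exact absurd (by norm_num) (hburn 47 2 1 0 (by norm_num) (by norm_num))
  · exact absurd (by norm_num) (hburn 2 3 4 1 (by norm_num) (by norm_num))
  · exact absurd (by norm_num) (hburn 7 2 2 0 (by norm_num) (by norm_num))
  · exact absurd (by norm_num) (hburn 2 5 1 2 (by norm_num) (by norm_num))
  · exact absurd (by norm_num) (hburn 3 17 1 1 (by norm_num) (by norm_num))
  · exact absurd (by norm_num) (hburn 2 13 2 1 (by norm_num) (by norm_num))
  · exact absurd (by norm_num) (hburn 53 2 1 0 (by norm_num) (by norm_num))
  · exact absurd (by norm_num) (hburn 2 3 1 3 (by norm_num) (by norm_num))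
  · exact absurd (by norm_num) (hburn 5 11 1 1 (by norm_num) (by norm_num))
  · exact absurd (by norm_num) (hburn 2 7 3 1 (by norm_num) (by norm_num))
  · exact absurd (by norm_num) (hburn 3 19 1 1 (by norm_num) (by norm_num))
  · exact absurd (by norm_num) (hburn 2 29 1 1 (by norm_num) (by norm_num))
  · exact absurd (by norm_num) (hburn 59 2 1 0 (by norm_num) (by norm_num))
  · rfl
  · exact absurd (by norm_num) (hburn 61 2 1 0 (by norm_num) (by norm_num))
  · exact absurd (by norm_num) (hburn 2 31 1 1 (by norm_num) (by norm_num))
  · exact absurd (by norm_num) (hburn 3 7 2 1 (by norm_num) (by norm_num))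
  · exact absurd (by norm_num) (hburn 2 3 6 0 (by norm_num) (by norm_num))
  · exact absurd (by norm_num) (hburn 5 13 1 1 (by norm_num) (by norm_num))
  · exfalso; rcases heven (by decide) with h | h | h <;> revert h <;> decide
  · exact absurd (by norm_num) (hburn 67 2 1 0 (by norm_num) (by norm_num))
  · exact absurd (by norm_num) (hburn 2 17 2 1 (by norm_num) (by norm_num))
  · exact absurd (by norm_num) (hburn 3 23 1 1 (by norm_num) (by norm_num))
  · exfalso; rcases heven (by decide) with h | h | h <;> revert h <;> decide
  · exact absurd (by norm_num) (hburn 71 2 1 0 (by norm_num) (by norm_num))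
  · exact absurd (by norm_num) (hburn 2 3 3 2 (by norm_num) (by norm_num))
  · exact absurd (by norm_num) (hburn 73 2 1 0 (by norm_num) (by norm_num))
  · exact absurd (by norm_num) (hburn 2 37 1 1 (by norm_num) (by norm_num))
  · exact absurd (by norm_num) (hburn 3 5 1 2 (by norm_num) (by norm_num))
  · exact absurd (by norm_num) (hburn 2 19 2 1 (by norm_num) (by norm_num))
  · exact absurd (by norm_num) (hburn 7 11 1 1 (by norm_num) (by norm_num))
  · exfalso; rcases heven (by decide) with h | h | h <;> revert h <;> decide
  · exact absurd (by norm_num) (hburn 79 2 1 0 (by norm_num) (by norm_num))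
  · exact absurd (by norm_num) (hburn 2 5 4 1 (by norm_num) (by norm_num))
  · exact absurd (by norm_num) (hburn 3 2 4 0 (by norm_num) (by norm_num))
  · exact absurd (by norm_num) (hburn 2 41 1 1 (by norm_num) (by norm_num))
  · exact absurd (by norm_num) (hburn 83 2 1 0 (by norm_num) (by norm_num))
  · exact absurd rfl h84
  · exact absurd (by norm_num) (hburn 5 17 1 1 (by norm_num) (by norm_num))
  · exact absurd (by norm_num) (hburn 2 43 1 1 (by norm_num) (by norm_num))
  · exact absurd (by norm_num) (hburn 3 29 1 1 (by norm_num) (by norm_num))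
  · exact absurd (by norm_num) (hburn 2 11 3 1 (by norm_num) (by norm_num))
  · exact absurd (by norm_num) (hburn 89 2 1 0 (by norm_num) (by norm_num))
  · exfalso; rcases heven (by decide) with h | h | h <;> revert h <;> decide
  · exact absurd (by norm_num) (hburn 7 13 1 1 (by norm_num) (by norm_num))
  · exact absurd (by norm_num) (hburn 2 23 2 1 (by norm_num) (by norm_num))
  · exact absurd (by norm_num) (hburn 3 31 1 1 (by norm_num) (by norm_num))
  · exact absurd (by norm_num) (hburn 2 47 1 1 (by norm_num) (by norm_num))
  · exact absurd (by norm_num) (hburn 5 19 1 1 (by norm_num) (by norm_num))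
  · exact absurd (by norm_num) (hburn 2 3 5 1 (by norm_num) (by norm_num))
  · exact absurd (by norm_num) (hburn 97 2 1 0 (by norm_num) (by norm_num))
  · exact absurd (by norm_num) (hburn 2 7 1 2 (by norm_num) (by norm_num))
  · exact absurd (by norm_num) (hburn 3 11 2 1 (by norm_num) (by norm_num))
  · exact absurd (by norm_num) (hburn 2 5 2 2 (by norm_num) (by norm_num))


end Cfsg.Agent.S0493
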