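import Cfsg.Statements.S0514
import Cfsg.Agent.Lib.Helper34.Dihedral2
import Cfsg.Agent.Lib.Helper2.Frobenius

set_option autoImplicit false
open Cfsg

namespace Cfsg.Agent.S0514

open Cfsg.Agent.Helper34.Dih Cfsg.Agent.Helper2

/-- Frobenius' condition in a subgroup centralizing an involution when a Sylow 2-subgroup is
dihedral. -/
theorem frobCond_centralizer {X : Type*} [Group X] [Finite X]
    (S : Sylow 2 X) (n : ℕ) (hS : Nonempty ((S : Subgroup X) ≃* DihedralGroup n)) (t : X)
    (ht : orderOf t = 2) (C : Subgroup X) (hcomm : ∀ c ∈ C, c * t = t * c) : FrobCond 2 C := by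
  have : Fact (Nat.Prime 2) := ⟨Nat.prime_two⟩
  intro Q hQ g hg hgo
  set Q' : Subgroup X := Q.map C.subtype with hQ'
  set Z : Subgroup X := Subgroup.zpowers t with hZ
  set V : Subgroup X := Q' ⊔ Z with hV
  have hconjt : ∀ c : C, (c : X) * t * (c : X)⁻¹ = t := by
    intro c
    rw [hcomm c c.2]; group
  have hconjZ : ∀ c : C, ∀ z ∈ Z, (c : X) * z * (c : X)⁻¹ = z := by
    intro c z hz
    obtain ⟨k, rfl⟩ := Subgroup.mem_zpowers_iff.mp hz
    have : (c : X) * t ^ k * (c : X)⁻¹ = ((c : X) * t * (c : X)⁻¹) ^ k := by rw [conj_zpow]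
    rw [this, hconjt c]
  have hQ'2 : IsPGroup 2 Q' := hQ.map C.subtype
  have ht2 : t ^ 2 = 1 := by rw [← ht]; exact pow_orderOf_eq_one t
  have ht1 : t ≠ 1 := by
    intro h
    rw [h, orderOf_one] at ht
    omega
  have hZ2 : IsPGroup 2 Z := by
    rw [IsPGroup.iff_card]
    exact ⟨1, by rw [hZ, Nat.card_zpowers, ht]; rfl⟩
  have hQ'Z : Q' ≤ Subgroup.normalizer (Z : Set X) := by
    rintro _ ⟨q, _, rfl⟩
    rw [Subgroup.mem_normalizer_iff]
    intro z
    constructor
    · intro hz
      have := hconjZ q z hz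
      simp only [Subgroup.coe_subtype]
      rw [this]; exact hz
    · intro hz
      simp only [Subgroup.coe_subtype] at hz
      have h1 := hconjZ q⁻¹ _ hz
      have h2 : ((q⁻¹ : C) : X) * ((q : X) * z * (q : X)⁻¹) * ((q⁻¹ : C) : X)⁻¹ = z := by
        simp only [Subgroup.coe_inv]; group
      rw [h2] at h1
      rw [h1]; exact hz
  have hV2 : IsPGroup 2 V := IsPGroup.to_sup_of_normal_right' hQ'2 hZ2 hQ'Z
  obtain ⟨S', hS'⟩ := hV2.exists_le_sylow
  have e' : (S' : Subgroup X) ≃* DihedralGroup n := (Sylow.equiv S' S).trans hS.some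
  have hD : DihLike (S' : Subgroup X) := dihLike_of_equiv _ n e'
  have hconjV : ∀ y ∈ V, (g : X) * y * (g : X)⁻¹ ∈ V := by
    intro y hy
    have h1 : V.map (MulAut.conj (g : X)).toMonoidHom ≤ V := by
      rw [hV, Subgroup.map_sup]
      apply sup_le_sup
      · rintro _ ⟨q, hq, rfl⟩
        obtain ⟨q0, hq0, rfl⟩ := hq
        have := (Subgroup.mem_normalizer_iff.mp hg q0).mp hq0
        exact ⟨g * q0 * g⁻¹, this, by simp⟩
      · rintro _ ⟨z, hz, rfl⟩
        have := hconjZ g z hz
        simp only [MulEquiv.coe_toMonoidHom, MulAut.conj_apply]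
        rw [this]; exact hz
    exact h1 ⟨y, hy, by simp [MulAut.conj_apply]⟩
  have hgV : (g : X) ∈ Subgroup.normalizer (V : Set X) :=
    mem_normalizer_of_conj_mem' V _ hconjV
  have hgo' : (orderOf (g : X)).Coprime 2 := by
    rw [Subgroup.orderOf_coe]; exact hgo
  have htV : t ∈ V := Subgroup.mem_sup_right (Subgroup.mem_zpowers t)
  have hcentV : (g : X) ∈ Subgroup.centralizer (V : Set X) := by
    by_cases hv : ∃ v ∈ V, v * v ≠ 1
    · exact hD.centralizes_of_sq_ne_one V hS' hV2 _ hgV hgo' hv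
    · push Not at hv
      exact hD.centralizes_of_fixed V hS' hv _ hgV hgo' t htV ht1 (hconjt g)
  rw [Subgroup.mem_centralizer_iff]
  intro q hq
  have hqV : (q : X) ∈ V := Subgroup.mem_sup_left ⟨q, hq, rfl⟩
  have := Subgroup.mem_centralizer_iff.mp hcentV _ hqV
  exact Subtype.ext (by simpa using this)

/-- packaging a normal 2-complement -/
theorem odd_normal_of_hasNormalPComplement {C : Type*} [Group C] [Finite C]
    (h : Cfsg.HasNormalPComplement 2 C) :
    ∃ N : Subgroup C, N.Normal ∧ Odd (Nat.card N) ∧ ∃ k : ℕ, N.index = 2 ^ k := by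
  have : Fact (Nat.Prime 2) := ⟨Nat.prime_two⟩
  obtain ⟨P, N, hN, hc⟩ := h
  refine ⟨N, hN, ?_, ?_⟩
  · have h1 : (P : Subgroup C).index = Nat.card N := hc.index_eq_card
    rw [← h1]
    have h2 := P.not_dvd_index
    exact Nat.odd_iff.mpr (Nat.two_dvd_ne_zero.mp h2)
  · obtain ⟨k, hk⟩ := IsPGroup.iff_card.mp P.2
    exact ⟨k, by rw [hc.symm.index_eq_card, hk]⟩

/-- In a finite group whose Sylow 2-subgroups are dihedral of order at least 4, the centralizer of any involution has a
normal subgroup of odd order whose index in the centralizer is a power of 2. -/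
theorem result {X : Type*} [Group X] [Finite X]
    (S : Sylow 2 X) (n : ℕ) (hn : 2 ≤ n) (hS : Nonempty ((S : Subgroup X) ≃* DihedralGroup n)) (t : X)
    (ht : orderOf t = 2) :
    ∃ N : Subgroup (Subgroup.centralizer ({t} : Set X)), N.Normal ∧ Odd (Nat.card N) ∧ ∃ k : ℕ, N.index = 2 ^ k := by
  have : Fact (Nat.Prime 2) := ⟨Nat.prime_two⟩
  have hF := frobCond_centralizer S n hS t ht (Subgroup.centralizer ({t} : Set X))
    (fun c hc => Subgroup.mem_centralizer_singleton_iff.mp hc)
  exact odd_normal_of_hasNormalPComplement (frobenius 2 hF)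

end Cfsg.Agent.S0514
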