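import Cfsg.Statements.S0520
-- import your own Cfsg.Agent.* helpers here
import Mathlib
import Cfsg.Agent.Lib.Helper9.FourGraph

set_option autoImplicit false
open Cfsg

namespace Cfsg.Agent.S0520

/-- Let G be a finite group of 2-rank at least 2 and S a Sylow 2-subgroup whose commuting graph of Klein four-subgroups is
connected. Then the commuting graph of Klein four-subgroups of G is disconnected if and only if the 2-generated core — the
subgroup generated by the normalizers N_G(Q) of the subgroups Q of S that contain a Klein four-group — is a proper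
subgroup of G. -/
theorem result {G : Type*} [Group G] [Finite G] (h2 : ¬ Cfsg.PRankLE 2 1 G)
    (S : Sylow 2 G) (hS : Cfsg.IsFourConnected (S : Subgroup G)) :
    ¬ Cfsg.IsFourConnected G ↔
      (⨆ Q : {Q : Subgroup G // Q ≤ (S : Subgroup G) ∧ ¬ Cfsg.PRankLE 2 1 Q},
          Subgroup.normalizer ((Q : Subgroup G) : Set G)) ≠ ⊤ := by
  set M : Subgroup G := ⨆ Q : {Q : Subgroup G // Q ≤ (S : Subgroup G) ∧ ¬ Cfsg.PRankLE 2 1 Q},
          Subgroup.normalizer ((Q : Subgroup G) : Set G) with hMdef
  have hM : ∀ Q : Subgroup G, Q ≤ S → Cfsg.Agent.Helper9.HasFour Q →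
      Subgroup.normalizer (Q : Set G) ≤ M := by
    intro Q hQS hQ
    exact le_iSup (fun Q : {Q : Subgroup G // Q ≤ (S : Subgroup G) ∧ ¬ Cfsg.PRankLE 2 1 Q} =>
      Subgroup.normalizer ((Q : Subgroup G) : Set G))
      ⟨Q, hQS, (Cfsg.Agent.Helper9.not_pRankLE_iff_hasFour Q).mpr hQ⟩
  have hMle : ∀ K : Subgroup G,
      (∀ Q : Subgroup G, Q ≤ S → Cfsg.Agent.Helper9.HasFour Q →
        Subgroup.normalizer (Q : Set G) ≤ K) → M ≤ K := by
    intro K hK
    apply iSup_le
    rintro ⟨Q, hQS, hQr⟩
    exact hK Q hQS ((Cfsg.Agent.Helper9.not_pRankLE_iff_hasFour Q).mp hQr)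
  constructor
  · intro hnc hMtop
    exact hnc (Cfsg.Agent.Helper9.isFourConnected_of_core_eq_top S M hS hMle h2 hMtop)
  · intro hMne hconn
    exact hMne (Cfsg.Agent.Helper9.eq_top_of_isFourConnected S M hM h2 hconn)

end Cfsg.Agent.S0520
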