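import Cfsg.Statements.S0521
-- import your own Cfsg.Agent.* helpers here
import Cfsg.Agent.Lib.Helper9.CyclicDerived

set_option autoImplicit false
open Cfsg

namespace Cfsg.Agent.S0521

/-- Let X be a finite solvable group of odd order, p a prime and S a Sylow p-subgroup of X whose commutator subgroup is
cyclic. Then the product of the largest normal subgroup of X of order prime to p with S is a normal subgroup of X. -/
theorem result {X : Type*} [Group X] [Finite X] [Group.IsSolvable X]
    (hX : Odd (Nat.card X)) (p : ℕ) [Fact p.Prime] (S : Sylow p X) (hS : IsCyclic (commutator (S : Subgroup X))) :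
    (Cfsg.pPrimeCore p X ⊔ (S : Subgroup X)).Normal := by
  classical
  set K := Cfsg.pPrimeCore p X with hK
  set π := QuotientGroup.mk' K with hπ
  have hsurj : Function.Surjective π := QuotientGroup.mk'_surjective K
  set Sbar : Sylow p (X ⧸ K) := S.mapSurjective hsurj with hSbar
  have hcoe : (Sbar : Subgroup (X ⧸ K)) = (S : Subgroup X).map π := rfl
  have hcyc : IsCyclic (commutator (Sbar : Subgroup (X ⧸ K))) := by
    change IsCyclic (commutator ↥((S : Subgroup X).map π))
    set φ : ↥(S : Subgroup X) →* ↥((S : Subgroup X).map π) := π.subgroupMap (S : Subgroup X) with hφ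
    have hφs : Function.Surjective φ := MonoidHom.subgroupMap_surjective _ _
    have h1 : (commutator ↥(S : Subgroup X)).map φ = commutator ↥((S : Subgroup X).map π) := by
      rw [commutator_def, commutator_def, Subgroup.map_commutator,
        Subgroup.map_top_of_surjective φ hφs]
    rw [← h1]
    exact isCyclic_of_surjective (φ.subgroupMap (commutator ↥(S : Subgroup X)))
      (MonoidHom.subgroupMap_surjective _ _)
  have hoddQ : Odd (Nat.card (X ⧸ K)) := hX.of_dvd_nat (Subgroup.card_quotient_dvd_card K)
  have hcore : Cfsg.pPrimeCore p (X ⧸ K) = ⊥ := Cfsg.Agent.Helper55.pPrimeCore_quotient_eq_bot p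
  have hle := Cfsg.Agent.Helper9.sylow_le_pCore hoddQ p hcore Sbar hcyc
  have heq : (Sbar : Subgroup (X ⧸ K)) = Cfsg.pCore p (X ⧸ K) :=
    le_antisymm hle (Cfsg.Agent.Helper46.pCore_le_sylow Sbar)
  have hnorm : ((S : Subgroup X).map π).Normal := by
    rw [← hcoe, heq]; infer_instance
  have hsup : K ⊔ (S : Subgroup X) = ((S : Subgroup X).map π).comap π := by
    rw [Subgroup.comap_map_eq, hπ, QuotientGroup.ker_mk', sup_comm]
  rw [hsup]
  exact hnorm.comap π

end Cfsg.Agent.S0521
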