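-- Statement S0534
import Cfsg.Statements.S0534
import Mathlib
import Cfsg.Agent.S0003
import Cfsg.Agent.Lib.Helper9.SupersolvableCLT

set_option autoImplicit false
open Cfsg

namespace Cfsg.Agent.S0534

open Subgroup Cfsg.Agent.Helper9

universe u

theorem isSupersolvable_of_comm_aux : ∀ (n : ℕ) (A : Type u) [CommGroup A] [Finite A],
    Nat.card A = n → Cfsg.IsSupersolvable A := by
  intro n
  induction n using Nat.strong_induction_on with
  | _ n ih =>
    intro A _ _ hcard
    by_cases hnt : Nontrivial A
    · obtain ⟨a, ha⟩ := exists_ne (1 : A)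
      have hN : (zpowers a).Normal := inferInstance
      have hC1 : 1 < Nat.card (zpowers a) := by
        rw [Nat.card_zpowers]
        have h0 : orderOf a ≠ 0 := (orderOf_pos a).ne'
        have h1 : orderOf a ≠ 1 := fun h => ha (orderOf_eq_one_iff.mp h)
        omega
      have hlt : Nat.card (A ⧸ zpowers a) < n := by
        rw [← hcard]; exact card_quotient_lt _ hC1
      have hQ := ih _ hlt (A ⧸ zpowers a) rfl
      exact isSupersolvable_of_cyclic_normal_of_quotient (zpowers a) hQ
    · rw [not_nontrivial_iff_subsingleton] at hnt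
      rw [isSupersolvable_iff_reach]
      have : (⊤ : Subgroup A) = ⊥ := Subsingleton.elim _ _
      rw [this]; exact Reach.bot

theorem hasSubgroupOfEveryOrder_of_comm (A : Type*) [CommGroup A] [Finite A] :
    Cfsg.HasSubgroupOfEveryOrder A :=
  hasSubgroupOfEveryOrder_of_isSupersolvable (isSupersolvable_of_comm_aux _ A rfl)

theorem arith (g a d : ℕ) (hg : g ≠ 0) (ha : a ≠ 0)
    (hA : ∀ p : ℕ, p.Prime → p ∣ a → p ∣ g)
    (hexp : ∀ p : ℕ, p.Prime → p ∣ g → a.factorization p + 1 = g.factorization p)
    (hd : d ∣ g * a) :
    ∃ m n b : ℕ, g = m * n ∧ m.Coprime n ∧ d = m * b ∧ b ∣ a := by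
  classical
  have hga : g * a ≠ 0 := mul_ne_zero hg ha
  have hd0 : d ≠ 0 := fun h => hga (by rw [h] at hd; exact zero_dvd_iff.mp hd)
  set f : ℕ →₀ ℕ := g.factorization.filter (fun p => g.factorization p ≤ d.factorization p) with hf
  have hfle : f ≤ g.factorization := by
    intro p
    rw [hf, Finsupp.filter_apply]
    split_ifs <;> simp
  set m := f.prod (· ^ ·) with hm
  have hmf : m.factorization = f := Nat.factorization_prod_pow_eq_self_of_le_factorization hfle
  have hmg : m ∣ g := Nat.prod_pow_dvd_of_le_factorization hfle
  have hm0 : m ≠ 0 := fun h => hg (by rw [h] at hmg; exact zero_dvd_iff.mp hmg)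
  have hfp : ∀ p, f p = if g.factorization p ≤ d.factorization p then g.factorization p else 0 := by
    intro p; rw [hf, Finsupp.filter_apply]
  have hmd : m ∣ d := by
    rw [← Nat.factorization_le_iff_dvd hm0 hd0, hmf]
    intro p
    rw [hfp]
    split_ifs with h
    · exact h
    · exact Nat.zero_le _
  refine ⟨m, g / m, d / m, (Nat.mul_div_cancel' hmg).symm, ?_, (Nat.mul_div_cancel' hmd).symm, ?_⟩
  · apply Nat.coprime_of_dvd
    intro k hk hkm hkn
    have h1 : 0 < m.factorization k := hk.factorization_pos_of_dvd hm0 hkm
    have hn0 : g / m ≠ 0 := by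
      intro h
      have := Nat.mul_div_cancel' hmg
      rw [h, mul_zero] at this
      exact hg this.symm
    have h2 : 0 < (g / m).factorization k := hk.factorization_pos_of_dvd hn0 hkn
    rw [Nat.factorization_div hmg, Finsupp.tsub_apply, hmf] at h2
    rw [hmf, hfp] at h1
    rw [hfp] at h2
    split_ifs at h1 h2 with h
    · omega
    · omega
  · have hb0 : d / m ≠ 0 := by
      intro h
      have := Nat.mul_div_cancel' hmd
      rw [h, mul_zero] at this
      exact hd0 this.symm
    rw [← Nat.factorization_le_iff_dvd hb0 ha, Nat.factorization_div hmd, hmf]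
    intro p
    rw [Finsupp.tsub_apply, hfp]
    have hdle : d.factorization p ≤ g.factorization p + a.factorization p := by
      have := (Nat.factorization_le_iff_dvd hd0 hga).mpr hd p
      rwa [Nat.factorization_mul hg ha, Finsupp.add_apply] at this
    by_cases hp : p.Prime
    · by_cases hpg : p ∣ g
      · have := hexp p hp hpg
        split_ifs with h
        · omega
        · omega
      · have h1 : g.factorization p = 0 := Nat.factorization_eq_zero_of_not_dvd hpg
        have h2 : a.factorization p = 0 :=
          Nat.factorization_eq_zero_of_not_dvd (fun h => hpg (hA p hp h))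
        split_ifs <;> omega
    · have h1 : d.factorization p = 0 := Nat.factorization_eq_zero_of_not_prime _ hp
      split_ifs <;> omega

/-- Let G be a finite solvable group and A a finite abelian group such that every prime dividing the order of A divides the order of G and, for each prime p dividing the order of G, the exponent of p in the order of A is one less than its exponent in the order of G. Then G × A has a subgroup of every order dividing its order. -/
theorem result {G A : Type*} [Group G] [CommGroup A] [Finite G] [Finite A] [Group.IsSolvable G] (hA : ∀ p : ℕ, p.Prime → p ∣ Nat.card A → p ∣ Nat.card G) (hexp : ∀ p : ℕ, p.Prime → p ∣ Nat.card G → (Nat.card A).factorization p + 1 = (Nat.card G).factorization p) : Cfsg.HasSubgroupOfEveryOrder (G × A) := by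
  intro d hd
  rw [Nat.card_prod] at hd
  obtain ⟨m, n, b, hmn, hcop, hdmb, hba⟩ :=
    arith (Nat.card G) (Nat.card A) d Nat.card_pos.ne' Nat.card_pos.ne' hA hexp hd
  obtain ⟨H, hH⟩ := Cfsg.Agent.S0003.result m n hmn hcop
  obtain ⟨B, hB⟩ := hasSubgroupOfEveryOrder_of_comm A b hba
  refine ⟨H.prod B, ?_⟩
  rw [Nat.card_congr (Subgroup.prodEquiv H B).toEquiv, Nat.card_prod, hH, hB, hdmb]

end Cfsg.Agent.S0534
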