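-- Statement S0535
import Cfsg.Statements.S0535
import Mathlib
import Cfsg.Agent.S0006

set_option autoImplicit false
open Cfsg

namespace Cfsg.Agent.S0535

open Subgroup

theorem key {G : Type*} [Group G] [Finite G]
    (h : ∀ H : Subgroup G, H ≠ ⊥ → ∀ p : ℕ, p.Prime → p ∣ Nat.card H →
      ∃ K : Subgroup H, K ≠ ⊤ ∧ ∃ k : ℕ, K.index = p ^ k) (p : ℕ) (hp : p.Prime) :
    ∀ (n : ℕ) (H : Subgroup G), Nat.card H = n →
      ∃ L : Subgroup G, L ≤ H ∧ ¬ p ∣ Nat.card L ∧ ∃ k : ℕ, L.relIndex H = p ^ k := by
  intro n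
  induction n using Nat.strong_induction_on with
  | _ n ih =>
    intro H hH
    by_cases hpd : p ∣ Nat.card H
    · have hne : H ≠ ⊥ := by
        rintro rfl
        rw [Subgroup.card_bot] at hpd
        exact hp.one_lt.ne' (Nat.dvd_one.mp hpd)
      obtain ⟨K, hKtop, k, hk⟩ := h H hne p hp hpd
      set K' := K.map H.subtype with hK'
      have hK'H : K' ≤ H := by
        rintro _ ⟨x, -, rfl⟩; exact x.2
      have hK'sub : K'.subgroupOf H = K := by
        rw [hK', Subgroup.subgroupOf, Subgroup.comap_map_eq_self_of_injective H.subtype_injective]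
      have hrel : K'.relIndex H = p ^ k := by rw [relIndex, hK'sub, hk]
      have hcardK' : Nat.card K' = Nat.card K := Subgroup.card_map_of_injective H.subtype_injective
      have hlt : Nat.card K' < n := by
        rw [← hH, hcardK']
        by_contra hle
        exact hKtop (Subgroup.eq_top_of_le_card K (not_lt.mp hle))
      obtain ⟨L, hLK, hLp, j, hj⟩ := ih _ hlt K' rfl
      refine ⟨L, hLK.trans hK'H, hLp, j + k, ?_⟩
      rw [← relIndex_mul_relIndex L K' H hLK hK'H, hj, hrel, pow_add]
    · exact ⟨H, le_rfl, hpd, 0, by rw [relIndex_self, pow_zero]⟩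

/-- Suppose that for every nontrivial subgroup H of a finite group and every prime p dividing the order of H there is a proper subgroup of H whose index in H is a power of p. Then the group is solvable. -/
theorem result {G : Type*} [Group G] [Finite G] (h : ∀ H : Subgroup G, H ≠ ⊥ → ∀ p : ℕ, p.Prime → p ∣ Nat.card H → ∃ K : Subgroup H, K ≠ ⊤ ∧ ∃ k : ℕ, K.index = p ^ k) : Group.IsSolvable G := by
  apply Cfsg.Agent.S0006.result
  intro p hp
  obtain ⟨L, -, hLp, k, hk⟩ := key h p hp _ ⊤ rfl
  refine ⟨L, ?_⟩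
  rw [relIndex_top_right] at hk
  rw [hk]
  have h1 := Subgroup.card_mul_index L
  rw [hk] at h1
  rw [← h1, Nat.factorization_mul Nat.card_pos.ne' (pow_pos hp.pos k).ne']
  have h5 := Nat.factorization_eq_zero_of_not_dvd hLp
  rw [Finsupp.add_apply, h5, zero_add, Nat.factorization_pow, Finsupp.smul_apply,
    hp.factorization_self, smul_eq_mul, mul_one]

end Cfsg.Agent.S0535
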