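-- Statement S0540
import Cfsg.Statements.S0540
import Mathlib
import Cfsg.Agent.Lib.Helper9.Zipper

set_option autoImplicit false
open Pointwise

namespace Cfsg.Agent.S0540

open Subgroup Cfsg.Agent.Helper9 Cfsg.Agent.Helper1

/-- A uniqueness lemma of zipper type. Let A be a subgroup of a finite group G and U a nonempty family of subgroups. For V in U write S(V) for the set of conjugates of A that lie in V and are subnormal in V. Assume: A belongs to S(V) for every V in U; a member of some S(W) that lies in V belongs to S(V); and for all V, W in U the normalizer of the join of S(V) ∩ S(W) lies in some member of U. Then U has a greatest element. -/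
theorem result {G : Type*} [Group G] [Finite G] (A : Subgroup G) (U : Set (Subgroup G)) (hU : U.Nonempty) (S : Subgroup G → Set (Subgroup G)) (hS : ∀ V B : Subgroup G, B ∈ S V ↔ (∃ g : G, B = MulAut.conj g • A) ∧ B ≤ V ∧ (B.subgroupOf V).IsSubnormal) (h1 : ∀ V ∈ U, A ∈ S V) (h2 : ∀ V ∈ U, ∀ W ∈ U, ∀ B ∈ S W, B ≤ V → B ∈ S V) (h3 : ∀ V ∈ U, ∀ W ∈ U, ∃ X ∈ U, Subgroup.normalizer ((sSup (S V ∩ S W) : Subgroup G) : Set G) ≤ X) : ∃ M ∈ U, ∀ V ∈ U, V ≤ M := by
  classical
  have hUfin : U.Finite := Set.toFinite U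
  -- conjugation-closure of S V under V
  have hSconj : ∀ V : Subgroup G, ∀ B ∈ S V, ∀ v ∈ V, MulAut.conj v • B ∈ S V := by
    intro V B hB v hv
    rw [hS] at hB ⊢
    obtain ⟨⟨g, rfl⟩, hBV, hBsub⟩ := hB
    refine ⟨⟨v * g, conj_smul_conj_smul v g A⟩, ?_, ?_⟩
    · rintro _ ⟨b, hb, rfl⟩
      exact V.mul_mem (V.mul_mem hv (hBV hb)) (V.inv_mem hv)
    · have := Subgroup.conj_smul_subgroupOf hBV ⟨v, hv⟩
      rw [← this]
      exact hBsub.smul _
  -- key: for maximal V, W the pair argument
  by_contra hcon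
  push Not at hcon
  -- the set of pairs of distinct maximal elements
  set Pairs : Set (Subgroup G × Subgroup G) :=
    {VW | Maximal (· ∈ U) VW.1 ∧ Maximal (· ∈ U) VW.2 ∧ VW.1 ≠ VW.2} with hPairs
  have hPne : Pairs.Nonempty := by
    obtain ⟨V₀, hV₀⟩ := hU
    obtain ⟨M, -, hM⟩ := hUfin.exists_le_maximal hV₀
    obtain ⟨V, hVU, hVM⟩ := hcon M hM.prop
    obtain ⟨M', hVM', hM'⟩ := hUfin.exists_le_maximal hVU
    refine ⟨(M, M'), hM, hM', ?_⟩
    intro heq
    have heq' : M = M' := heq
    rw [heq'] at hVM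
    exact hVM hVM'
  obtain ⟨⟨V, W⟩, ⟨hVmax, hWmax, hVW⟩, hbest⟩ :=
    (Set.toFinite Pairs).exists_maximalFor (fun VW => (S VW.1 ∩ S VW.2).ncard) Pairs hPne
  dsimp only at hVmax hWmax hVW hbest
  set T₀ := S V ∩ S W with hT₀
  set D := sSup T₀ with hD
  obtain ⟨X, hXU, hNX⟩ := h3 V hVmax.prop W hWmax.prop
  obtain ⟨M, hXM, hMmax⟩ := hUfin.exists_le_maximal hXU
  have hNM : normalizer (D : Set G) ≤ M := hNX.trans hXM
  -- general claim
  have claim : ∀ V' W' : Subgroup G, Maximal (· ∈ U) V' → Maximal (· ∈ U) W' →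
      S V' ∩ S W' = T₀ → V' = M := by
    intro V' W' hV' hW' hT
    have hTM : ∀ B ∈ T₀, B ∈ S M := by
      intro B hB
      have hBV' : B ∈ S V' := by rw [← hT] at hB; exact hB.1
      have hBM : B ≤ M := (le_sSup hB).trans (le_normalizer.trans hNM)
      exact h2 M hMmax.prop V' hV'.prop B hBV' hBM
    by_cases hcase : T₀ = S V'
    · -- V' normalizes D
      have hV'N : V' ≤ normalizer (D : Set G) := by
        intro v hv
        apply mem_normalizer_of_conj_smul_le
        · apply conj_smul_sSup_le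
          intro B hB
          rw [hcase] at hB
          have := hSconj V' B hB v hv
          rw [← hcase] at this
          exact le_sSup this
        · apply conj_smul_sSup_le
          intro B hB
          rw [hcase] at hB
          have := hSconj V' B hB v⁻¹ (V'.inv_mem hv)
          rw [← hcase] at this
          exact le_sSup this
      have hle : V' ≤ M := hV'N.trans hNM
      exact le_antisymm hle (hV'.le_of_ge hMmax.prop hle)
    · have hss : T₀ ⊂ S V' := by
        refine ⟨?_, fun h => hcase (Set.Subset.antisymm ?_ h)⟩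
        · rw [← hT]; exact Set.inter_subset_left
        · rw [← hT]; exact Set.inter_subset_left
      obtain ⟨X₁, hX₁S, hX₁n, hX₁N⟩ := exists_mem_normalizing_sSup_rel V' (S V') T₀
        (fun B hB => ((hS V' B).mp hB).2.1) (fun B hB => ((hS V' B).mp hB).2.2)
        (hSconj V') hss
      have hX₁M : X₁ ∈ S M := h2 M hMmax.prop V' hV'.prop X₁ hX₁S (hX₁N.trans hNM)
      by_contra hne
      have hpair : (V', M) ∈ Pairs := ⟨hV', hMmax, hne⟩
      have hsub : T₀ ⊂ S V' ∩ S M := by
        refine ⟨fun B hB => ⟨hss.subset hB, hTM B hB⟩, ?_⟩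
        intro hle
        exact hX₁n (hle ⟨hX₁S, hX₁M⟩)
      have hlt : T₀.ncard < (S V' ∩ S M).ncard := Set.ncard_lt_ncard hsub (Set.toFinite _)
      have := hbest hpair (le_of_lt hlt)
      exact absurd (lt_of_lt_of_le hlt this) (lt_irrefl _)
  have e1 : V = M := claim V W hVmax hWmax rfl
  have e2 : W = M := claim W V hWmax hVmax (Set.inter_comm _ _)
  exact hVW (e1.trans e2.symm)

end Cfsg.Agent.S0540
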