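-- Statement S0542
import Cfsg.Statements.S0542
import Mathlib

set_option autoImplicit false
open Cfsg

namespace Cfsg.Agent.S0542

open Subgroup

theorem relIndex_dvd_index_of_normal_right {K : Type*} [Group K] [Finite K] (S N : Subgroup K)
    [N.Normal] : S.relIndex N ∣ S.index := by
  have h1 : (S ⊓ N).relIndex N * N.index = (S ⊓ N).index := relIndex_mul_index inf_le_right
  have h2 : (S ⊓ N).relIndex S * S.index = (S ⊓ N).index := relIndex_mul_index inf_le_left
  rw [inf_relIndex_right] at h1
  rw [inf_relIndex_left] at h2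
  obtain ⟨m, hm⟩ := relIndex_dvd_index_of_normal N S
  have hne : N.relIndex S ≠ 0 := by
    rw [relIndex]; exact index_ne_zero_of_finite
  refine ⟨m, ?_⟩
  have : N.relIndex S * S.index = N.relIndex S * (S.relIndex N * m) := by
    rw [h2, ← h1, hm]; ring
  exact Nat.eq_of_mul_eq_mul_left (Nat.pos_of_ne_zero hne) this

theorem key {G : Type*} [Group G] [Finite G] (p : ℕ) [Fact p.Prime] (S : Sylow p G)
    (H : Subgroup G) (hH : H.IsSubnormal) : ¬ p ∣ (S : Subgroup G).relIndex H := by
  induction hH with
  | top => rw [relIndex_top_right]; exact S.not_dvd_index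
  | step H K hHK hK hN ih =>
    intro hdvd
    apply ih
    have := relIndex_dvd_index_of_normal_right ((S : Subgroup G).subgroupOf K) (H.subgroupOf K)
    rw [relIndex_subgroupOf hHK] at this
    exact hdvd.trans this

/-- A Sylow p-subgroup of a finite group meets every subnormal subgroup H in a Sylow p-subgroup of H. -/
theorem result {G : Type*} [Group G] [Finite G] (p : ℕ) [Fact p.Prime] (H : Subgroup G) (hH : H.IsSubnormal) (S : Sylow p G) : ∃ Q : Sylow p H, (Q : Subgroup H) = (S : Subgroup G).subgroupOf H := by
  have h1 : IsPGroup p ((S : Subgroup G).subgroupOf H) := S.isPGroup'.comap_subtype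
  have h2 : ¬ p ∣ ((S : Subgroup G).subgroupOf H).index := key p S H hH
  exact ⟨h1.toSylow h2, IsPGroup.toSylow_coe h1 h2⟩

end Cfsg.Agent.S0542
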