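-- Statement S0543
import Cfsg.Statements.S0543
import Mathlib
import Cfsg.Agent.S0004
import Cfsg.Agent.Lib.Helper9.CoprimeIndex

set_option autoImplicit false
open Pointwise
open Cfsg

namespace Cfsg.Agent.S0543

open Subgroup Cfsg.Agent.Helper9 Cfsg.Agent.Helper1

section
variable {G : Type*} [Group G] [Finite G]

theorem not_dvd_card (K : Nat.Primes → Subgroup G) (hK : Cfsg.IsComplementSystem K)
    (q : Nat.Primes) : ¬ (q : ℕ) ∣ Nat.card (K q) := by
  intro hdvd
  have h1 := Subgroup.card_mul_index (K q)
  rw [hK q] at h1
  have h2 : (q : ℕ) ^ ((Nat.card G).factorization q + 1) ∣ Nat.card G := by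
    obtain ⟨v, hv⟩ : ∃ v, v = (Nat.card G).factorization q := ⟨_, rfl⟩
    rw [← hv] at h1 ⊢
    rw [← h1, pow_succ, mul_comm]
    exact Nat.mul_dvd_mul hdvd dvd_rfl
  exact Nat.pow_succ_factorization_not_dvd Nat.card_pos.ne' q.2 h2

theorem index_conj_smul (g : G) (H : Subgroup G) : (MulAut.conj g • H).index = H.index := by
  have h1 := Subgroup.card_mul_index (MulAut.conj g • H)
  have h2 := Subgroup.card_mul_index H
  rw [card_conj_smul, ← h2] at h1
  exact Nat.eq_of_mul_eq_mul_left Nat.card_pos h1

omit [Finite G] in
theorem conj_smul_top (g : G) : MulAut.conj g • (⊤ : Subgroup G) = ⊤ := by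
  rw [eq_top_iff]
  intro x _
  rw [mem_conj_smul]; trivial

theorem index_iInf (L : Nat.Primes → Subgroup G) (hL : Cfsg.IsComplementSystem L)
    (s : Finset Nat.Primes) :
    (⨅ p ∈ s, L p).index = ∏ p ∈ s, (p : ℕ) ^ (Nat.card G).factorization p := by
  induction s using Finset.induction_on with
  | empty => simp
  | insert q s hq ih =>
    rw [Finset.iInf_insert, Finset.prod_insert hq]
    have hcop : (L q).index.Coprime (⨅ p ∈ s, L p).index := by
      rw [ih, hL q]
      apply Nat.Coprime.prod_right
      intro p hp
      apply Nat.Coprime.pow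
      rw [Nat.coprime_primes q.2 p.2]
      intro h
      have : q = p := Subtype.ext h
      exact hq (this ▸ hp)
    rw [index_inf_of_coprime _ _ hcop, ih, hL q]

end

/-- In a finite solvable group any two Hall complement systems are simultaneously conjugate: one element conjugates every member of the first system to the corresponding member of the second. -/
theorem result {G : Type*} [Group G] [Finite G] [Group.IsSolvable G] (K L : Nat.Primes → Subgroup G) (hK : Cfsg.IsComplementSystem K) (hL : Cfsg.IsComplementSystem L) : ∃ g : G, ∀ p : Nat.Primes, MulAut.conj g • K p = L p := by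
  have key : ∀ s : Finset Nat.Primes, ∃ g : G, ∀ p ∈ s, MulAut.conj g • K p = L p := by
    intro s
    induction s using Finset.induction_on with
    | empty => exact ⟨1, fun p hp => absurd hp (Finset.notMem_empty p)⟩
    | insert q s hq ih =>
      obtain ⟨g, hg⟩ := ih
      set K' := MulAut.conj g • K q with hK'
      have hK'idx : K'.index = (q : ℕ) ^ (Nat.card G).factorization q := by
        rw [hK', index_conj_smul, hK q]
      have hcardL := Subgroup.card_mul_index (L q)
      have hcardK := Subgroup.card_mul_index (K q)
      rw [hL q] at hcardL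
      rw [hK q] at hcardK
      have hcardeq : Nat.card K' = Nat.card (L q) := by
        rw [hK', card_conj_smul]
        have : Nat.card (K q) * (q : ℕ) ^ (Nat.card G).factorization q
            = Nat.card (L q) * (q : ℕ) ^ (Nat.card G).factorization q := by rw [hcardK, hcardL]
        exact Nat.eq_of_mul_eq_mul_right (pow_pos q.2.pos _) this
      have hcop : (Nat.card (L q)).Coprime ((q : ℕ) ^ (Nat.card G).factorization q) := by
        apply Nat.Coprime.pow_right
        exact (Nat.Coprime.symm ((Nat.Prime.coprime_iff_not_dvd q.2).mpr (not_dvd_card L hL q)))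
      obtain ⟨x, hx⟩ := Cfsg.Agent.S0004.result (Nat.card (L q))
        ((q : ℕ) ^ (Nat.card G).factorization q) hcardL.symm hcop K' (L q) hcardeq rfl
      set T := ⨅ p ∈ s, L p with hT
      have hTidx := index_iInf L hL s
      have hcop2 : K'.index.Coprime T.index := by
        rw [hK'idx, hTidx]
        apply Nat.Coprime.prod_right
        intro p hp
        apply Nat.Coprime.pow
        rw [Nat.coprime_primes q.2 p.2]
        intro h
        have : q = p := Subtype.ext h
        exact hq (this ▸ hp)
      obtain ⟨t, ht, k, hk, hxtk⟩ := exists_mul_of_coprime_index K' T hcop2 x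
      refine ⟨t * g, ?_⟩
      intro p hp
      rw [← conj_smul_conj_smul]
      rcases Finset.mem_insert.mp hp with rfl | hps
      · rw [← hx, hxtk, ← conj_smul_conj_smul, conj_smul_eq_self_of_mem hk]
      · rw [hg p hps]
        apply conj_smul_eq_self_of_mem
        have : T ≤ L p := iInf₂_le p hps
        exact this ht
  obtain ⟨g, hg⟩ := key (Finset.subtype Nat.Prime (Nat.card G).primeFactors)
  refine ⟨g, ?_⟩
  intro p
  by_cases hp : (p : ℕ) ∣ Nat.card G
  · apply hg
    exact (Finset.mem_subtype (p := Nat.Prime) (s := (Nat.card G).primeFactors) (a := p)).mpr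
      (Nat.mem_primeFactors.mpr ⟨p.2, hp, Nat.card_pos.ne'⟩)
  · have h0 : (Nat.card G).factorization p = 0 := Nat.factorization_eq_zero_of_not_dvd hp
    have hKt : K p = ⊤ := by
      rw [← Subgroup.index_eq_one, hK p, h0, pow_zero]
    have hLt : L p = ⊤ := by
      rw [← Subgroup.index_eq_one, hL p, h0, pow_zero]
    rw [hKt, hLt]
    exact conj_smul_top g

end Cfsg.Agent.S0543
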