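-- Statement S0544
import Cfsg.Statements.S0544
import Mathlib

set_option autoImplicit false
open Cfsg

namespace Cfsg.Agent.S0544

open Subgroup

section
variable {G : Type*} [Group G] (K : Nat.Primes → Subgroup G)

theorem le_normalizer_of_system (q : Nat.Primes) :
    Cfsg.systemNormalizer K ≤ normalizer (K q : Set G) := iInf_le _ q

theorem relIndex_dvd [Finite G] (hK : Cfsg.IsComplementSystem K) (q : Nat.Primes) :
    (K q).relIndex (Cfsg.systemNormalizer K) ∣ (q : ℕ) ^ (Nat.card G).factorization q := by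
  set D := Cfsg.systemNormalizer K
  set L := normalizer (K q : Set G)
  have hDL : D ≤ L := le_normalizer_of_system K q
  have hKL : K q ≤ L := le_normalizer
  have h1 := relIndex_dvd_index_of_normal ((K q).subgroupOf L) (D.subgroupOf L)
  rw [relIndex_subgroupOf hDL] at h1
  have h2 : ((K q).subgroupOf L).index ∣ (K q).index := relIndex_dvd_index_of_le hKL
  rw [← hK q]
  exact h1.trans h2

theorem not_dvd_card [Finite G] (hK : Cfsg.IsComplementSystem K) (q : Nat.Primes) :
    ¬ (q : ℕ) ∣ Nat.card (K q) := by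
  intro hdvd
  have h1 := Subgroup.card_mul_index (K q)
  rw [hK q] at h1
  have h2 : (q : ℕ) ^ ((Nat.card G).factorization q + 1) ∣ Nat.card G := by
    obtain ⟨v, hv⟩ : ∃ v, v = (Nat.card G).factorization q := ⟨_, rfl⟩
    rw [← hv] at h1 ⊢
    rw [← h1, pow_succ, mul_comm]
    exact Nat.mul_dvd_mul hdvd dvd_rfl
  exact Nat.pow_succ_factorization_not_dvd Nat.card_pos.ne' q.2 h2

end

/-- In a finite solvable group the intersection of the normalizers of the members of a Hall complement system is a nilpotent subgroup. -/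
theorem result {G : Type*} [Group G] [Finite G] [Group.IsSolvable G] (K : Nat.Primes → Subgroup G) (hK : Cfsg.IsComplementSystem K) : Group.IsNilpotent (Cfsg.systemNormalizer K) := by
  set D := Cfsg.systemNormalizer K with hD
  have hNn : ∀ q : Nat.Primes, ((K q).subgroupOf D).Normal := fun q =>
    normal_subgroupOf_of_le_normalizer (le_normalizer_of_system K q)
  apply (Group.isNilpotent_of_finite_tfae (G := D)).out 3 0 rfl rfl |>.mp
  intro p hp R
  let T : Subgroup D := ⨅ q : {q : Nat.Primes // (q : ℕ) ≠ p}, (K q.1).subgroupOf D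
  have hTn : T.Normal := normal_iInf_normal (fun q => hNn q.1)
  have hTp : IsPGroup p T := by
    rintro ⟨x, hx⟩
    have hord : ∀ r : ℕ, r.Prime → r ∣ orderOf x → r = p := by
      intro r hr hrd
      by_contra hne
      have hxq : x ∈ (K ⟨r, hr⟩).subgroupOf D :=
        (mem_iInf.mp hx) ⟨⟨r, hr⟩, hne⟩
      rw [mem_subgroupOf] at hxq
      have h1 : orderOf (x : G) ∣ Nat.card (K ⟨r, hr⟩) := Subgroup.orderOf_dvd_natCard _ hxq
      rw [Subgroup.orderOf_coe] at h1
      exact not_dvd_card K hK ⟨r, hr⟩ (hrd.trans h1)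
    have hpos : orderOf x ≠ 0 := (orderOf_pos x).ne'
    obtain ⟨k, hk⟩ : ∃ k, orderOf x = p ^ k :=
      ⟨_, Nat.eq_prime_pow_of_unique_prime_dvd hpos (fun {r} hr hrd => hord r hr hrd)⟩
    refine ⟨k, ?_⟩
    apply Subtype.ext
    rw [Subgroup.coe_pow, Subgroup.coe_one]
    show x ^ p ^ k = 1
    rw [← hk]; exact pow_orderOf_eq_one x
  have hRT : (R : Subgroup D) ≤ T := by
    intro x hx
    rw [mem_iInf]
    rintro ⟨q, hq⟩
    have := hNn q
    show x ∈ (K q).subgroupOf D
    rw [← QuotientGroup.eq_one_iff, ← orderOf_eq_one_iff]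
    obtain ⟨k, hk⟩ := R.isPGroup' ⟨x, hx⟩
    have hxk : x ^ p ^ k = 1 := by
      have := congrArg Subtype.val hk
      simpa using this
    have h1 : orderOf (x : D ⧸ (K q).subgroupOf D) ∣ p ^ k := by
      apply orderOf_dvd_of_pow_eq_one
      rw [← QuotientGroup.mk_pow, hxk]; rfl
    have h2 : orderOf (x : D ⧸ (K q).subgroupOf D) ∣ (q : ℕ) ^ (Nat.card G).factorization q := by
      have h3 : orderOf (x : D ⧸ (K q).subgroupOf D) ∣ Nat.card (D ⧸ (K q).subgroupOf D) :=
        orderOf_dvd_natCard _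
      exact h3.trans (relIndex_dvd K hK q)
    have hcop : Nat.Coprime (p ^ k) ((q : ℕ) ^ (Nat.card G).factorization q) := by
      apply Nat.Coprime.pow
      exact (Nat.coprime_primes hp.out q.2).mpr (Ne.symm hq)
    exact Nat.eq_one_of_dvd_coprimes hcop h1 h2
  have : T = R := R.is_maximal' hTp hRT
  rw [← this]; exact hTn

end Cfsg.Agent.S0544
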