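-- Statement S0545
import Cfsg.Statements.S0545
import Mathlib
import Cfsg.Agent.Lib.Helper9.ComplementSystem

set_option autoImplicit false
open Cfsg

namespace Cfsg.Agent.S0545

open Subgroup Pointwise Cfsg.Agent.Helper9 Cfsg.Agent.Helper1

/-- Let K be a Hall complement system of a finite solvable group G and N a normal subgroup. Then the images of the K p in G modulo N form a Hall complement system of the quotient, and its system normalizer is the image of the system normalizer of K. -/
theorem result {G : Type*} [Group G] [Finite G] [Group.IsSolvable G] (K : Nat.Primes → Subgroup G) (hK : Cfsg.IsComplementSystem K) (N : Subgroup G) [N.Normal] : Cfsg.IsComplementSystem (fun p => (K p).map (QuotientGroup.mk' N)) ∧ Cfsg.systemNormalizer (fun p => (K p).map (QuotientGroup.mk' N)) = (Cfsg.systemNormalizer K).map (QuotientGroup.mk' N) := by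
  set π := QuotientGroup.mk' N with hπ
  have hsurj : Function.Surjective π := QuotientGroup.mk'_surjective N
  constructor
  · intro p
    show ((K p).map π).index = _
    have h1 : ((K p).map π).index ∣ (p : ℕ) ^ (Nat.card G).factorization p := by
      rw [← hK p]; exact Subgroup.index_map_dvd (K p) hsurj
    obtain ⟨j, -, hj⟩ := (Nat.dvd_prime_pow p.2).mp h1
    have h2 : Nat.card ((K p).map π) ∣ Nat.card (K p) := Subgroup.card_map_dvd (K p) π
    have h3 : ¬ (p : ℕ) ∣ Nat.card ((K p).map π) := fun h =>
      complementSystem_not_dvd_card K hK p (h.trans h2)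
    have h4 := Subgroup.card_mul_index ((K p).map π)
    rw [hj] at h4 ⊢
    rw [← h4, Nat.factorization_mul Nat.card_pos.ne' (pow_pos p.2.pos j).ne']
    have h5 := Nat.factorization_eq_zero_of_not_dvd h3
    rw [Finsupp.add_apply, h5, zero_add, Nat.factorization_pow, Finsupp.smul_apply,
      p.2.factorization_self, smul_eq_mul, mul_one]
  · apply le_antisymm
    · intro ybar hy
      obtain ⟨y, rfl⟩ := hsurj ybar
      have hL := complementSystem_conj K hK y
      have hsup : ∀ p, K p ⊔ N = (MulAut.conj y • K p) ⊔ N := by
        intro p
        have hn : π y ∈ normalizer (((K p).map π : Subgroup (G ⧸ N)) : Set (G ⧸ N)) :=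
          (mem_iInf.mp hy) p
        have h1 : (MulAut.conj y • K p).map π = (K p).map π := by
          rw [map_conj_smul]; exact conj_smul_eq_of_mem_normalizer hn
        have h2 := congrArg (Subgroup.comap π) h1
        rw [Subgroup.comap_map_eq, Subgroup.comap_map_eq, QuotientGroup.ker_mk'] at h2
        exact h2.symm
      obtain ⟨n, hn, hconj⟩ := exists_conj_in_normal N K _ hK hL hsup
        (Finset.subtype Nat.Prime (Nat.card G).primeFactors)
      refine ⟨n * y, ?_, ?_⟩
      · rw [SetLike.mem_coe]
        show n * y ∈ Cfsg.systemNormalizer K
        rw [Cfsg.systemNormalizer, mem_iInf]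
        intro p
        apply mem_normalizer_of_conj_smul_eq
        by_cases hp : (p : ℕ) ∣ Nat.card G
        · rw [← conj_smul_conj_smul]
          apply hconj
          exact (Finset.mem_subtype (p := Nat.Prime) (s := (Nat.card G).primeFactors) (a := p)).mpr
            (Nat.mem_primeFactors.mpr ⟨p.2, hp, Nat.card_pos.ne'⟩)
        · have h0 : (Nat.card G).factorization p = 0 := Nat.factorization_eq_zero_of_not_dvd hp
          have hKt : K p = ⊤ := by
            rw [← Subgroup.index_eq_one, hK p, h0, pow_zero]
          rw [hKt]; exact conj_smul_top _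
      · rw [map_mul]
        have : π n = 1 := by
          rw [hπ, QuotientGroup.mk'_apply, QuotientGroup.eq_one_iff]; exact hn
        rw [this, one_mul]
    · rw [Cfsg.systemNormalizer, Cfsg.systemNormalizer]
      apply le_iInf
      intro p
      refine le_trans ?_ (Subgroup.le_normalizer_map π)
      apply Subgroup.map_mono
      exact iInf_le _ p

end Cfsg.Agent.S0545
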