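-- Statement S0546
import Cfsg.Statements.S0546
import Mathlib
import Cfsg.Agent.S0545

set_option autoImplicit false
open Cfsg

namespace Cfsg.Agent.S0546

open Subgroup
open scoped commutatorElement

/-- (*) the normal closure of a system normalizer together with the commutator subgroup is everything -/
theorem normalClosure_sup_commutator {G : Type*} [Group G] [Finite G] [Group.IsSolvable G]
    (K : Nat.Primes → Subgroup G) (hK : Cfsg.IsComplementSystem K) :
    Subgroup.normalClosure ((Cfsg.systemNormalizer K : Subgroup G) : Set G) ⊔ commutator G = ⊤ := by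
  set D := Cfsg.systemNormalizer K with hD
  set N₁ := Subgroup.normalClosure (D : Set G) ⊔ commutator G with hN₁
  have hN₁n : N₁.Normal := inferInstance
  obtain ⟨-, h2⟩ := Cfsg.Agent.S0545.result K hK N₁
  have hDle : D ≤ N₁ := le_trans Subgroup.le_normalClosure le_sup_left
  have hbot : D.map (QuotientGroup.mk' N₁) = ⊥ := by
    rw [eq_bot_iff]
    rintro _ ⟨d, hd, rfl⟩
    rw [mem_bot, QuotientGroup.mk'_apply, QuotientGroup.eq_one_iff]
    exact hDle hd
  have hcomm : ∀ a b : G ⧸ N₁, a * b = b * a := by
    intro a b
    induction a using QuotientGroup.induction_on with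
    | H x =>
      induction b using QuotientGroup.induction_on with
      | H y =>
        rw [← QuotientGroup.mk_mul, ← QuotientGroup.mk_mul, QuotientGroup.eq]
        have : (x * y)⁻¹ * (y * x) = ⁅y⁻¹, x⁻¹⁆ := by
          rw [commutatorElement_def]; group
        rw [this]
        apply (le_sup_right : commutator G ≤ N₁)
        rw [_root_.commutator_def]
        exact Subgroup.commutator_mem_commutator (mem_top _) (mem_top _)
  have htop : Cfsg.systemNormalizer (fun p => (K p).map (QuotientGroup.mk' N₁)) = ⊤ := by
    rw [eq_top_iff]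
    intro x _
    rw [Cfsg.systemNormalizer, mem_iInf]
    intro p
    rw [mem_normalizer_iff]
    intro h
    rw [hcomm x h, mul_inv_cancel_right]
  rw [htop, hbot] at h2
  -- G ⧸ N₁ is trivial
  rw [eq_top_iff]
  intro g _
  have : (QuotientGroup.mk' N₁ g) ∈ (⊤ : Subgroup (G ⧸ N₁)) := mem_top _
  rw [h2, mem_bot, QuotientGroup.mk'_apply, QuotientGroup.eq_one_iff] at this
  exact this

/-- The normal closure of a system normalizer of a finite solvable group is the whole group. -/
theorem result {G : Type*} [Group G] [Finite G] [Group.IsSolvable G] (K : Nat.Primes → Subgroup G) (hK : Cfsg.IsComplementSystem K) : Subgroup.normalClosure ((Cfsg.systemNormalizer K : Subgroup G) : Set G) = ⊤ := by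
  set D := Cfsg.systemNormalizer K with hD
  set M := Subgroup.normalClosure (D : Set G) with hM
  obtain ⟨h1, h2⟩ := Cfsg.Agent.S0545.result K hK M
  have hbot : D.map (QuotientGroup.mk' M) = ⊥ := by
    rw [eq_bot_iff]
    rintro _ ⟨d, hd, rfl⟩
    rw [mem_bot, QuotientGroup.mk'_apply, QuotientGroup.eq_one_iff]
    exact Subgroup.le_normalClosure hd
  rw [hbot] at h2
  have h3 := normalClosure_sup_commutator _ h1
  rw [h2] at h3
  have h4 : Subgroup.normalClosure (((⊥ : Subgroup (G ⧸ M)) : Subgroup (G ⧸ M)) : Set (G ⧸ M)) = ⊥ := by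
    rw [eq_bot_iff]
    exact Subgroup.normalClosure_le_normal (le_refl _)
  rw [h4, bot_sup_eq] at h3
  -- G ⧸ M is perfect and solvable, hence trivial
  have hsub : Subsingleton (G ⧸ M) := by
    by_contra hns
    rw [not_subsingleton_iff_nontrivial] at hns
    have := Group.IsSolvable.commutator_lt_top_of_nontrivial (G ⧸ M)
    rw [h3] at this
    exact lt_irrefl _ this
  rw [eq_top_iff]
  intro g _
  have : (QuotientGroup.mk' M g) = 1 := Subsingleton.elim _ _
  rwa [QuotientGroup.mk'_apply, QuotientGroup.eq_one_iff] at this

end Cfsg.Agent.S0546
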