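import Cfsg.Statements.S0547
import Cfsg.Agent.Lib.Helper9.PrimitiveSolvable

set_option autoImplicit false
open Cfsg

namespace Cfsg.Agent.S0547

/-- Let a finite solvable group G act faithfully and primitively on a set, and let M be a minimal normal subgroup of G. Then M is transitive with trivial point stabilizers, and the number of points equals the order of M, which is a prime power p ^ d with d ≥ 1. -/
theorem result {G : Type*} [Group G] [Finite G] [Group.IsSolvable G] {Ω : Type*} [Nonempty Ω] [MulAction G Ω] [FaithfulSMul G Ω] (hprim : MulAction.IsPreprimitive G Ω) (M : Subgroup G) [M.Normal] (hM : M ≠ ⊥) (hmin : ∀ K : Subgroup G, K.Normal → K ≤ M → K = ⊥ ∨ K = M) : MulAction.IsPretransitive M Ω ∧ (∀ ω : Ω, MulAction.stabilizer M ω = ⊥) ∧ ∃ p d : ℕ, p.Prime ∧ 0 < d ∧ Nat.card Ω = p ^ d ∧ Nat.card M = p ^ d := by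
  have htr := Cfsg.Agent.Helper9.minNormal_pretransitive M hprim hM
  have hfree := Cfsg.Agent.Helper9.minNormal_free M hprim hM hmin
  have hstab : ∀ ω : Ω, MulAction.stabilizer M ω = ⊥ := by
    intro ω
    rw [eq_bot_iff]
    intro m hm
    rw [Subgroup.mem_bot]
    have h1 : (m : G) • ω = ω := hm
    exact Subtype.ext (hfree ω m m.2 h1)
  refine ⟨htr, hstab, ?_⟩
  obtain ⟨p, d, hp, hd, hcard⟩ := Cfsg.Agent.Helper9.minNormal_card M hM hmin
  refine ⟨p, d, hp, hd, ?_, hcard⟩
  rw [← hcard]
  obtain ⟨ω⟩ := ‹Nonempty Ω›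
  have hbij : Function.Bijective (fun m : M => m • ω) := by
    constructor
    · intro a b hab
      have h1 : (a⁻¹ * b) • ω = ω := by
        rw [mul_smul]
        have : b • ω = a • ω := hab.symm
        rw [this, inv_smul_smul]
      have h2 : a⁻¹ * b ∈ MulAction.stabilizer M ω := h1
      rw [hstab ω, Subgroup.mem_bot] at h2
      exact (inv_mul_eq_one.mp h2)
    · intro ω'
      exact htr.exists_smul_eq ω ω'
  exact (Nat.card_congr (Equiv.ofBijective _ hbij)).symm

end Cfsg.Agent.S0547
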