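import Cfsg.Statements.S0548
import Cfsg.Agent.Lib.Helper9.PrimitiveSolvable

set_option autoImplicit false
open Cfsg

namespace Cfsg.Agent.S0548

/-- Let a finite solvable group G act faithfully and primitively on a set, let M be a minimal normal subgroup and H the stabilizer of a point. Then H is a complement to M, no non-identity element of H centralizes M, and the only subgroups of M normalized by H are the trivial subgroup and M. -/
theorem result {G : Type*} [Group G] [Finite G] [Group.IsSolvable G] {Ω : Type*} [MulAction G Ω] [FaithfulSMul G Ω] (hprim : MulAction.IsPreprimitive G Ω) (M : Subgroup G) [M.Normal] (hM : M ≠ ⊥) (hmin : ∀ K : Subgroup G, K.Normal → K ≤ M → K = ⊥ ∨ K = M) (ω : Ω) : Subgroup.IsComplement' M (MulAction.stabilizer G ω) ∧ MulAction.stabilizer G ω ⊓ Subgroup.centralizer (M : Set G) = ⊥ ∧ ∀ K : Subgroup G, K ≤ M → MulAction.stabilizer G ω ≤ Subgroup.normalizer (K : Set G) → K = ⊥ ∨ K = M := by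
  have htr := Cfsg.Agent.Helper9.minNormal_pretransitive M hprim hM
  have hfree := Cfsg.Agent.Helper9.minNormal_free M hprim hM hmin
  have hcomm := Cfsg.Agent.Helper9.minNormal_comm M hM hmin
  have hcompl : Subgroup.IsComplement' M (MulAction.stabilizer G ω) := by
    apply Subgroup.isComplement'_stabilizer ω
    · intro h hh
      exact Subtype.ext (hfree ω h h.2 hh)
    · intro g
      obtain ⟨m, hm⟩ := htr.exists_smul_eq (g • ω) ω
      exact ⟨m, hm⟩
  refine ⟨hcompl, ?_, ?_⟩
  · rw [eq_bot_iff]
    rintro h ⟨hs, hc⟩
    rw [Subgroup.mem_bot]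
    apply FaithfulSMul.eq_of_smul_eq_smul (α := Ω)
    intro ω'
    obtain ⟨n, hn⟩ := htr.exists_smul_eq ω ω'
    have hn' : (n : G) • ω = ω' := hn
    have hs' : h • ω = ω := hs
    have hc' : h ∈ Subgroup.centralizer (M : Set G) := hc
    rw [Subgroup.mem_centralizer_iff] at hc'
    have hc := hc'
    rw [one_smul, ← hn', ← mul_smul, ← hc n n.2, mul_smul, hs']
  · intro K hKM hK
    have hKn : K.Normal := by
      rw [← Subgroup.normalizer_eq_top_iff, eq_top_iff, ← hcompl.sup_eq_top]
      apply sup_le _ hK
      intro m hm
      rw [Subgroup.mem_normalizer_iff]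
      intro k
      constructor
      · intro hk
        have : m * k * m⁻¹ = k := by rw [hcomm m hm k (hKM hk)]; group
        rw [this]; exact hk
      · intro hk
        have hk' : m * k * m⁻¹ ∈ M := hKM hk
        have hkM : k ∈ M := by
          have := M.mul_mem (M.mul_mem (M.inv_mem hm) hk') hm
          simpa [mul_assoc] using this
        have : m * k * m⁻¹ = k := by rw [hcomm m hm k hkM]; group
        rw [this] at hk; exact hk
    exact hmin K hKn hKM

end Cfsg.Agent.S0548
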