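import Cfsg.Statements.S0549
import Mathlib

set_option autoImplicit false
open Cfsg

namespace Cfsg.Agent.S0549

theorem result {G : Type*} [Group G] [Finite G] (U : Subgroup G) (hU : IsCoatom U) (hcore : U.normalCore = ⊥) (N : Subgroup G) [N.Normal] (hN : N ≠ ⊥) : Subgroup.centralizer (N : Set G) ⊓ U = ⊥ ∧ (Subgroup.centralizer (N : Set G) = ⊥ ∨ (Subgroup.centralizer (N : Set G) ≠ ⊥ ∧ ∀ K : Subgroup G, K.Normal → K ≤ Subgroup.centralizer (N : Set G) → K = ⊥ ∨ K = Subgroup.centralizer (N : Set G))) := by
  -- a nontrivial normal subgroup is not contained in U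
  have key : ∀ K : Subgroup G, K.Normal → K ≠ ⊥ → U ⊔ K = ⊤ := by
    intro K hK hKne
    by_contra hne
    have hle : U ≤ U ⊔ K := le_sup_left
    have : U = U ⊔ K := by
      by_contra h2
      exact hne (hU.2 _ (lt_of_le_of_ne hle h2))
    have hKU : K ≤ U := by
      rw [this]; exact le_sup_right
    have : K ≤ U.normalCore := Subgroup.normal_le_normalCore.mpr hKU
    rw [hcore] at this
    exact hKne (le_bot_iff.mp this)
  have hUN := key N inferInstance hN
  set C := Subgroup.centralizer (N : Set G) with hC
  have hCn : C.Normal := Subgroup.normal_centralizer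
  -- D = C ⊓ U is normal
  have hD : (C ⊓ U).Normal := by
    rw [← Subgroup.normalizer_eq_top_iff, eq_top_iff, ← hUN]
    apply sup_le
    · intro u hu
      rw [Subgroup.mem_normalizer_iff]
      intro x
      constructor
      · rintro ⟨h1, h2⟩
        exact ⟨hCn.conj_mem x h1 u, U.mul_mem (U.mul_mem hu h2) (U.inv_mem hu)⟩
      · rintro ⟨h1, h2⟩
        refine ⟨?_, ?_⟩
        · have := hCn.conj_mem _ h1 u⁻¹
          simpa [mul_assoc] using this
        · have := U.mul_mem (U.mul_mem (U.inv_mem hu) h2) hu
          simpa [mul_assoc] using this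
    · intro n hn
      rw [Subgroup.mem_normalizer_iff]
      intro x
      have hcomm : ∀ y ∈ C, n * y * n⁻¹ = y := by
        intro y hy
        rw [hC, Subgroup.mem_centralizer_iff] at hy
        have := hy n hn
        rw [this]; group
      constructor
      · intro hx
        rw [hcomm x hx.1]; exact hx
      · intro hx
        have h1 : n * x * n⁻¹ ∈ C := hx.1
        have : x ∈ C := by
          have := hCn.conj_mem _ h1 n⁻¹
          simpa [mul_assoc] using this
        rw [hcomm x this] at hx
        exact hx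
  have hDbot : C ⊓ U = ⊥ := by
    have : C ⊓ U ≤ U.normalCore := Subgroup.normal_le_normalCore.mpr inf_le_right
    rw [hcore] at this
    exact le_bot_iff.mp this
  refine ⟨hDbot, ?_⟩
  by_cases hCb : C = ⊥
  · exact Or.inl hCb
  · refine Or.inr ⟨hCb, ?_⟩
    intro K hK hKC
    by_cases hKb : K = ⊥
    · exact Or.inl hKb
    · refine Or.inr (le_antisymm hKC ?_)
      intro c hc
      have hUK := key K hK hKb
      have hmem : c ∈ U ⊔ K := by rw [hUK]; trivial
      rw [← SetLike.mem_coe, Subgroup.mul_normal U K] at hmem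
      obtain ⟨u, hu, k, hk, rfl⟩ := Set.mem_mul.mp hmem
      have huC : u ∈ C := by
        have := C.mul_mem hc (C.inv_mem (hKC hk))
        simpa [mul_assoc] using this
      have hu1 : u ∈ C ⊓ U := ⟨huC, hu⟩
      rw [hDbot, Subgroup.mem_bot] at hu1
      rw [hu1, one_mul]; exact hk

end Cfsg.Agent.S0549
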