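import Cfsg.Statements.S0550
import Cfsg.Agent.Lib.Helper10.Iso
import Cfsg.Agent.Lib.Helper10.Frattini

set_option autoImplicit false
open Cfsg

namespace Cfsg.Agent.S0550

open Cfsg.Agent.Helper10

variable {G : Type*} [Group G]

/-- One half of the statement: for `A`, `B` distinct minimal normal and `U` a core-free maximal. -/
lemma half (U : Subgroup G) (hU : IsCoatom U) (hcore : U.normalCore = ⊥) (A B : Subgroup G)
    [A.Normal] [B.Normal] (hA : A ≠ ⊥) (hB : B ≠ ⊥) (hinf : A ⊓ B = ⊥) :
    Subgroup.centralizer (A : Set G) = B ∧ Subgroup.IsComplement' B U := by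
  have hAU : ¬ A ≤ U := by
    intro h
    have := (Subgroup.normal_le_normalCore (H := U) (N := A)).mpr h
    rw [hcore, le_bot_iff] at this
    exact hA this
  have hBU : ¬ B ≤ U := by
    intro h
    have := (Subgroup.normal_le_normalCore (H := U) (N := B)).mpr h
    rw [hcore, le_bot_iff] at this
    exact hB this
  have hAtop : A ⊔ U = ⊤ := sup_eq_top_of_isCoatom_of_not_le hU hAU
  have hBtop : B ⊔ U = ⊤ := sup_eq_top_of_isCoatom_of_not_le hU hBU
  set CA := Subgroup.centralizer (A : Set G) with hCA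
  -- CA ⊓ U is normal
  have hnorm : (CA ⊓ U).Normal := by
    rw [← Subgroup.normalizer_eq_top_iff, eq_top_iff, ← hAtop]
    apply sup_le
    · -- A centralizes CA
      refine le_trans ?_ (Subgroup.centralizer_le_normalizer _)
      intro a ha
      rw [Subgroup.mem_centralizer_iff]
      intro x hx
      exact (Subgroup.mem_centralizer_iff.mp hx.1 a ha).symm
    · have h1 : U ≤ Subgroup.normalizer (CA : Set G) := by
        rw [Subgroup.normalizer_eq_top]; exact le_top
      exact (le_inf h1 Subgroup.le_normalizer).trans Subgroup.inf_normalizer_le_normalizer_inf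
  have hCAU : CA ⊓ U = ⊥ := by
    have := (Subgroup.normal_le_normalCore (H := U) (N := CA ⊓ U)).mpr inf_le_right
    rwa [hcore, le_bot_iff] at this
  have hBCA : B ≤ CA := by
    rw [hCA, ← Subgroup.commutator_eq_bot_iff_le_centralizer, eq_bot_iff, ← hinf, inf_comm]
    exact Subgroup.commutator_le_inf B A
  have hBUbot : B ⊓ U = ⊥ := by
    rw [eq_bot_iff, ← hCAU]
    exact inf_le_inf_right U hBCA
  refine ⟨?_, isComplement'_of_normal_of_sup_eq_top_of_inf_eq_bot hBtop hBUbot⟩
  -- CA = B by Dedekind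
  apply le_antisymm _ hBCA
  have := dedekind_normal B U CA hBCA
  rw [hBtop, inf_top_eq, hCAU, sup_bot_eq] at this
  exact this

lemma iso_half (U : Subgroup G) (A B : Subgroup G)
    [A.Normal] [B.Normal] (hinf : A ⊓ B = ⊥) (hBU : Subgroup.IsComplement' B U) :
    Nonempty (A ≃* ↥((A ⊔ B) ⊓ U)) := by
  apply nonempty_mulEquiv_of_sup_eq (N := B) hinf
  · rw [eq_bot_iff, ← hBU.disjoint.eq_bot, inf_comm B U]
    exact inf_le_inf_right B inf_le_right
  · -- (A ⊔ B) ⊓ U ⊔ B = A ⊔ B by Dedekind
    have h := dedekind_normal_eq B U (A ⊔ B) le_sup_right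
    rw [hBU.sup_eq_top, inf_top_eq] at h
    rw [sup_comm ((A ⊔ B) ⊓ U) B, ← h]

/-- Let U be a maximal subgroup with trivial normal core in a finite group G, and A ≠ B two minimal normal subgroups. Then A is the centralizer of B and B that of A, U complements each of them, A and B are non-abelian, and A, B and (A ⊔ B) ∩ U are pairwise isomorphic. -/
theorem result {G : Type*} [Group G] [Finite G] (U : Subgroup G) (hU : IsCoatom U) (hcore : U.normalCore = ⊥) (A B : Subgroup G) [A.Normal] [B.Normal] (hA : A ≠ ⊥) (hB : B ≠ ⊥) (hAmin : ∀ K : Subgroup G, K.Normal → K ≤ A → K = ⊥ ∨ K = A) (hBmin : ∀ K : Subgroup G, K.Normal → K ≤ B → K = ⊥ ∨ K = B) (hAB : A ≠ B) : Subgroup.centralizer (B : Set G) = A ∧ Subgroup.centralizer (A : Set G) = B ∧ Subgroup.IsComplement' A U ∧ Subgroup.IsComplement' B U ∧ ¬ IsMulCommutative A ∧ Nonempty (A ≃* B) ∧ Nonempty (A ≃* ↥((A ⊔ B) ⊓ U)) := by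
  have hinf : A ⊓ B = ⊥ := by
    rcases hAmin (A ⊓ B) inferInstance inf_le_left with h | h
    · exact h
    · exfalso
      have hAleB : A ≤ B := by rw [← h]; exact inf_le_right
      rcases hBmin A inferInstance hAleB with h1 | h1
      · exact hA h1
      · exact hAB h1
  have hinf' : B ⊓ A = ⊥ := by rw [inf_comm]; exact hinf
  obtain ⟨hCA, hBU⟩ := half U hU hcore A B hA hB hinf
  obtain ⟨hCB, hAU⟩ := half U hU hcore B A hB hA hinf'
  have e1 := iso_half U A B hinf hBU
  have e2 := iso_half U B A hinf' hAU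
  rw [sup_comm B A] at e2
  refine ⟨hCB, hCA, hAU, hBU, ?_, ?_, e1⟩
  · intro hcomm
    have : A ≤ Subgroup.centralizer (A : Set G) := Subgroup.le_centralizer A
    rw [hCA] at this
    have h2 : A ≤ A ⊓ B := le_inf le_rfl this
    rw [hinf, le_bot_iff] at h2
    exact hA h2
  · obtain ⟨e1⟩ := e1
    obtain ⟨e2⟩ := e2
    exact ⟨e1.trans e2.symm⟩

end Cfsg.Agent.S0550
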