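import Cfsg.Statements.S0551
import Cfsg.Agent.Lib.Helper10.Primitive
import Cfsg.Agent.Lib.Helper10.Card
import Cfsg.Agent.Lib.Helper10.Nilp

set_option autoImplicit false
open Cfsg

namespace Cfsg.Agent.S0551

open Cfsg.Agent.Helper10
open Pointwise

variable {G : Type*} [Group G]

lemma card_sup_eq_mul_of_normal_of_inf_eq_bot (N Q : Subgroup G) [N.Normal] (h : N ⊓ Q = ⊥) :
    Nat.card (N ⊔ Q : Subgroup G) = Nat.card N * Nat.card Q := by
  rw [← card_mul_relIndex_of_le (le_sup_left : N ≤ N ⊔ Q), Subgroup.relIndex_sup_left,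
    ← Subgroup.inf_relIndex_right, h, Subgroup.relIndex_bot_left]

lemma isCoatom_conj_smul (U : Subgroup G) (g : G) (hU : IsCoatom U) :
    IsCoatom (MulAut.conj g • U) :=
  (OrderIso.isCoatom_iff (MulEquiv.mapSubgroup (MulAut.conj g)) U).mpr hU

/-- For `Q = M ⊓ U` with `M = N ⊔ Q`, `|N|` a `p`-power, `Q` a `q`-group, any Sylow `q`-subgroup
containing `Q` meets `M` in `Q`. -/
lemma sylow_inf_eq [Finite G] {p q : ℕ} [hp : Fact p.Prime] [hq : Fact q.Prime] (hpq : q ≠ p)
    (N M Q : Subgroup G) [N.Normal] (hNp : IsPGroup p N) (hQq : IsPGroup q Q)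
    (hM : N ⊔ Q = M) (hNQ : N ⊓ Q = ⊥) (S : Sylow q G) (hQS : Q ≤ S) :
    (S : Subgroup G) ⊓ M = Q := by
  have hQM : Q ≤ M := by rw [← hM]; exact le_sup_right
  symm
  apply Subgroup.eq_of_le_of_card_ge (le_inf hQS hQM)
  have hcardM : Nat.card M = Nat.card N * Nat.card Q := by
    rw [← hM]; exact card_sup_eq_mul_of_normal_of_inf_eq_bot N Q hNQ
  obtain ⟨a, ha⟩ := IsPGroup.iff_card.mp hNp
  have hSM : IsPGroup q ((S : Subgroup G) ⊓ M : Subgroup G) := S.2.to_le inf_le_left
  obtain ⟨c, hc⟩ := IsPGroup.iff_card.mp hSM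
  have hdvd : Nat.card ((S : Subgroup G) ⊓ M : Subgroup G) ∣ Nat.card M :=
    Subgroup.card_dvd_of_le inf_le_right
  rw [hcardM, ha, hc] at hdvd
  have hcop : Nat.Coprime (q ^ c) (p ^ a) :=
    Nat.Coprime.pow _ _ ((Nat.coprime_primes hq.out hp.out).mpr hpq)
  have := hcop.dvd_of_dvd_mul_left hdvd
  rw [hc]
  exact Nat.le_of_dvd Nat.card_pos this

/-- The key step: with `N ≤ M` normal, `N` abelian of exponent `p`, `M/N` of exponent `q ≠ p`. -/
lemma key [Finite G] {p q : ℕ} [hp : Fact p.Prime] [hq : Fact q.Prime] (hpq : q ≠ p)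
    (U V : Subgroup G) (hU : IsCoatom U) (hV : IsCoatom V)
    (hUc : U.normalCore = ⊥) (hVc : V.normalCore = ⊥)
    (N M : Subgroup G) [hNn : N.Normal] [hMn : M.Normal] (hNne : N ≠ ⊥) [hab : IsMulCommutative N]
    (hNp : ∀ x ∈ N, x ^ p = 1) (hNM : N ≤ M) (hne : N ≠ M) (hMq : ∀ x ∈ M, x ^ q ∈ N) :
    ∃ g : G, MulAut.conj g • U = V := by
  have hNpg : IsPGroup p N := by
    intro x
    refine ⟨1, ?_⟩
    rw [pow_one]
    exact Subtype.ext (by simpa using hNp x x.2)
  -- generic facts for a core-free coatom W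
  have gen : ∀ W : Subgroup G, IsCoatom W → W.normalCore = ⊥ →
      IsPGroup q (M ⊓ W : Subgroup G) ∧ N ⊔ (M ⊓ W) = M ∧ N ⊓ (M ⊓ W) = ⊥ ∧ M ⊓ W ≠ ⊥ ∧
      (Subgroup.normalizer ((M ⊓ W : Subgroup G) : Set G) = W) := by
    intro W hW hWc
    have htop := sup_eq_top_of_corefree_coatom hW hWc hNne
    have hbot := inf_eq_bot_of_corefree_coatom hW hWc hNne
    have h1 : IsPGroup q (M ⊓ W : Subgroup G) := by
      intro x
      refine ⟨1, ?_⟩
      rw [pow_one]
      apply Subtype.ext
      have hx1 : (x : G) ^ q ∈ N := hMq x x.2.1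
      have hx2 : (x : G) ^ q ∈ W := W.pow_mem x.2.2 q
      have : (x : G) ^ q ∈ N ⊓ W := ⟨hx1, hx2⟩
      rw [hbot, Subgroup.mem_bot] at this
      simpa using this
    have h2 : N ⊔ (M ⊓ W) = M := by
      have := dedekind_normal_eq N W M hNM
      rw [htop, inf_top_eq] at this
      exact this.symm
    have h3 : N ⊓ (M ⊓ W) = ⊥ := by
      rw [eq_bot_iff, ← hbot]
      exact inf_le_inf_left N inf_le_right
    have h4 : M ⊓ W ≠ ⊥ := by
      intro h0
      rw [h0, sup_bot_eq] at h2
      exact hne h2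
    refine ⟨h1, h2, h3, h4, ?_⟩
    have hle : W ≤ Subgroup.normalizer ((M ⊓ W : Subgroup G) : Set G) := by
      have h5 : W ≤ Subgroup.normalizer (M : Set G) := by
        rw [Subgroup.normalizer_eq_top]; exact le_top
      exact (le_inf h5 Subgroup.le_normalizer).trans Subgroup.inf_normalizer_le_normalizer_inf
    rcases eq_or_lt_of_le hle with h6 | h6
    · exact h6.symm
    · exfalso
      have h7 := hW.2 _ h6
      rw [Subgroup.normalizer_eq_top_iff] at h7
      exact h4 (eq_bot_of_normal_of_le_of_normalCore_eq_bot hWc h7 inf_le_right)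
  obtain ⟨hQq, hQM, hNQ, hQne, hNU⟩ := gen U hU hUc
  obtain ⟨hRq, hRM, hNR, hRne, hNV⟩ := gen V hV hVc
  obtain ⟨S, hS⟩ := hQq.exists_le_sylow
  obtain ⟨T, hT⟩ := hRq.exists_le_sylow
  have hSQ := sylow_inf_eq hpq N M (M ⊓ U) hNpg hQq hQM hNQ S hS
  have hTR := sylow_inf_eq hpq N M (M ⊓ V) hNpg hRq hRM hNR T hT
  obtain ⟨g, hg⟩ := MulAction.exists_smul_eq G S T
  refine ⟨g, ?_⟩
  have hg' : MulAut.conj g • (S : Subgroup G) = (T : Subgroup G) := by
    rw [← hg]; rfl
  have hMg : MulAut.conj g • M = M := Subgroup.Normal.conj_smul_eq_self g M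
  -- conj g • (M ⊓ U) = M ⊓ V
  have hQR : MulAut.conj g • (M ⊓ U) = M ⊓ V := by
    rw [← hSQ, Subgroup.smul_inf, hg', hMg, hTR]
  have hU' : IsCoatom (MulAut.conj g • U) := isCoatom_conj_smul U g hU
  have hQR' : M ⊓ (MulAut.conj g • U) = M ⊓ V := by
    rw [← hQR, Subgroup.smul_inf, hMg]
  -- conj g • U normalizes M ⊓ V
  have hle : MulAut.conj g • U ≤ Subgroup.normalizer ((M ⊓ V : Subgroup G) : Set G) := by
    rw [← hQR']
    have h5 : MulAut.conj g • U ≤ Subgroup.normalizer (M : Set G) := by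
      rw [Subgroup.normalizer_eq_top]; exact le_top
    exact (le_inf h5 Subgroup.le_normalizer).trans Subgroup.inf_normalizer_le_normalizer_inf
  rw [hNV] at hle
  rcases eq_or_lt_of_le hle with h6 | h6
  · exact h6
  · exact absurd (hU'.2 _ h6) hV.1

/-- If `M/N` also has exponent `p`, we get a contradiction with `C_G(N) = N`. -/
lemma not_same_prime [Finite G] {p : ℕ} [hp : Fact p.Prime]
    (N M : Subgroup G) [hNn : N.Normal] [hMn : M.Normal] (hN : IsMinNormal N)
    (hC : Subgroup.centralizer (N : Set G) = N)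
    (hNp : ∀ x ∈ N, x ^ p = 1) (hNM : N ≤ M) (hne : N ≠ M) (hMp : ∀ x ∈ M, x ^ p ∈ N) : False := by
  have hMpg : IsPGroup p M := by
    intro x
    refine ⟨2, ?_⟩
    apply Subtype.ext
    have := hNp _ (hMp x x.2)
    rw [← pow_mul, ← sq] at this
    simpa using this
  haveI : Group.IsNilpotent M := hMpg.isNilpotent
  obtain ⟨_, hNne, hmin⟩ := hN
  have hK' : N.subgroupOf M ≠ ⊥ := by
    intro h0
    apply hNne
    have := congrArg (Subgroup.map M.subtype) h0
    rwa [Subgroup.map_subgroupOf_eq_of_le hNM, Subgroup.map_bot] at this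
  have hne' := normal_inf_center_ne_bot (N.subgroupOf M) hK'
  haveI : ((Subgroup.center M).map M.subtype).Normal := ConjAct.normal_of_characteristic_of_normal
  have hsub : (N.subgroupOf M ⊓ Subgroup.center M).map M.subtype ≤ N ⊓ (Subgroup.center M).map M.subtype := by
    apply le_inf
    · calc (N.subgroupOf M ⊓ Subgroup.center M).map M.subtype ≤ (N.subgroupOf M).map M.subtype :=
          Subgroup.map_mono inf_le_left
        _ = N := Subgroup.map_subgroupOf_eq_of_le hNM
    · exact Subgroup.map_mono inf_le_right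
  have hne'' : N ⊓ (Subgroup.center M).map M.subtype ≠ ⊥ := by
    intro h0
    rw [h0, le_bot_iff, Subgroup.map_eq_bot_iff_of_injective _ M.subtype_injective] at hsub
    exact hne' hsub
  rcases hmin (N ⊓ (Subgroup.center M).map M.subtype) inferInstance inf_le_left with h1 | h1
  · exact hne'' h1
  · have hNZ : N ≤ (Subgroup.center M).map M.subtype := by rw [← h1]; exact inf_le_right
    have hMC : M ≤ Subgroup.centralizer (N : Set G) := by
      intro m hm
      rw [Subgroup.mem_centralizer_iff]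
      intro n hn
      obtain ⟨z, hz, rfl⟩ := hNZ hn
      have := Subgroup.mem_center_iff.mp hz ⟨m, hm⟩
      have h2 := congrArg Subtype.val this
      simpa using h2.symm
    rw [hC] at hMC
    exact hne (le_antisymm hNM hMC)

/-- In a finite solvable group all core-free maximal subgroups are conjugate. -/
theorem result {G : Type*} [Group G] [Finite G] [Group.IsSolvable G] (U V : Subgroup G) (hU : IsCoatom U) (hV : IsCoatom V) (hUc : U.normalCore = ⊥) (hVc : V.normalCore = ⊥) : ∃ g : G, MulAut.conj g • U = V := by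
  haveI : Nontrivial G := by
    by_contra hnt
    rw [not_nontrivial_iff_subsingleton] at hnt
    exact hU.1 (Subsingleton.elim _ _)
  obtain ⟨N, hN⟩ := exists_isMinNormal (G := G)
  haveI hNn : N.Normal := hN.1
  have hNne : N ≠ ⊥ := hN.2.1
  haveI hab : IsMulCommutative N := hN.isMulCommutative
  obtain ⟨p, hp, _, hNp⟩ := hN.exists_prime_pow_eq_one
  haveI : Fact p.Prime := ⟨hp⟩
  by_cases hNtop : N = ⊤
  · -- then U = V = ⊥
    have h1 := inf_eq_bot_of_corefree_coatom hU hUc hNne
    have h2 := inf_eq_bot_of_corefree_coatom hV hVc hNne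
    rw [hNtop, top_inf_eq] at h1 h2
    refine ⟨1, ?_⟩
    rw [h1, h2, map_one, one_smul]
  · -- G/N is nontrivial
    haveI : Nontrivial (G ⧸ N) := by
      rw [← not_subsingleton_iff_nontrivial]
      intro hss
      exact hNtop (QuotientGroup.subsingleton_iff.mp hss)
    obtain ⟨Mq, hMq⟩ := exists_isMinNormal (G := G ⧸ N)
    haveI hMqn : Mq.Normal := hMq.1
    obtain ⟨q, hq, _, hMqq⟩ := hMq.exists_prime_pow_eq_one
    haveI : Fact q.Prime := ⟨hq⟩
    set M := Mq.comap (QuotientGroup.mk' N) with hM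
    haveI hMn : M.Normal := hMqn.comap _
    have hNM : N ≤ M := by
      conv_lhs => rw [← QuotientGroup.ker_mk' N]
      exact Subgroup.ker_le_comap _ _
    have hne : N ≠ M := by
      intro h0
      apply hMq.2.1
      have h1 : Mq.comap (QuotientGroup.mk' N) = (⊥ : Subgroup (G ⧸ N)).comap (QuotientGroup.mk' N) := by
        rw [← hM, ← h0, MonoidHom.comap_bot, QuotientGroup.ker_mk']
      exact Subgroup.comap_injective (QuotientGroup.mk'_surjective N) h1
    have hMqN : ∀ x ∈ M, x ^ q ∈ N := by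
      intro x hx
      have h1 := hMqq _ hx
      rw [← map_pow] at h1
      exact (QuotientGroup.eq_one_iff _).mp h1
    by_cases hpq : q = p
    · exfalso
      subst hpq
      exact not_same_prime N M hN (centralizer_eq_of_corefree_coatom hU hUc hNne) hNp hNM hne hMqN
    · exact key hpq U V hU hV hUc hVc N M hNne hNp hNM hne hMqN

end Cfsg.Agent.S0551
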