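import Cfsg.Statements.S0552
import Cfsg.Agent.S0044

set_option autoImplicit false
open Cfsg

namespace Cfsg.Agent.S0552

/-- Let σ be an automorphism of a finite solvable group G fixing every element of the Fitting subgroup. If σ is not the identity then the order of σ and the order of G have a common prime factor. -/
theorem result {G : Type*} [Group G] [Finite G] [Group.IsSolvable G] (σ : G ≃* G) (hσ : ∀ x ∈ Cfsg.fittingSubgroup G, σ x = x) (hne : σ ≠ MulEquiv.refl G) : ¬ (orderOf σ).Coprime (Nat.card G) := by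
  intro hcop
  set F := Cfsg.fittingSubgroup G with hF
  haveI hFn : F.Normal := Cfsg.Agent.Helper94.fittingSubgroup_normal
  have hCF : Subgroup.centralizer (F : Set G) ≤ F := Cfsg.Agent.S0044.result
  -- c(g) = g⁻¹ σ g ∈ F
  have hc : ∀ g : G, g⁻¹ * σ g ∈ F := by
    intro g
    apply hCF
    rw [Subgroup.mem_centralizer_iff]
    intro x hx
    have h1 : σ (g * x * g⁻¹) = g * x * g⁻¹ := hσ _ (hFn.conj_mem x hx g)
    rw [map_mul, map_mul, hσ x hx, map_inv] at h1
    -- σ g * x * (σ g)⁻¹ = g * x * g⁻¹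
    calc x * (g⁻¹ * σ g) = g⁻¹ * (g * x * g⁻¹) * σ g := by group
      _ = g⁻¹ * (σ g * x * (σ g)⁻¹) * σ g := by rw [h1]
      _ = g⁻¹ * σ g * x := by group
  -- σ^n g = g * c^n
  have hpow : ∀ (n : ℕ) (g : G), (σ ^ n) g = g * (g⁻¹ * σ g) ^ n := by
    intro n
    induction n with
    | zero => intro g; simp
    | succ n ih =>
      intro g
      rw [pow_succ', MulAut.mul_apply, ih, map_mul, map_pow, hσ _ (hc g), pow_succ', ← mul_assoc,
        ← mul_assoc, mul_inv_cancel]
      rw [one_mul]
  have hone : σ ^ (Nat.card F) = 1 := by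
    ext g
    rw [hpow]
    have h1 : (⟨g⁻¹ * σ g, hc g⟩ : F) ^ (Nat.card F) = 1 := pow_card_eq_one'
    have h2 := congrArg Subtype.val h1
    rw [Subgroup.coe_pow, Subgroup.coe_one] at h2
    simp only at h2
    rw [h2, mul_one]
    rfl
  have hdvd : orderOf σ ∣ Nat.card G :=
    (orderOf_dvd_of_pow_eq_one hone).trans (Subgroup.card_subgroup_dvd_card F)
  have h1 : orderOf σ = 1 := Nat.Coprime.eq_one_of_dvd hcop hdvd
  rw [orderOf_eq_one_iff] at h1
  exact hne h1

end Cfsg.Agent.S0552
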