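import Cfsg.Statements.S0553
import Cfsg.Agent.Lib.Helper10.MinNormal
import Cfsg.Agent.Lib.Helper10.SylowExtra
import Cfsg.Agent.Lib.Helper10.Frattini

set_option autoImplicit false
open Cfsg

namespace Cfsg.Agent.S0553

open Cfsg.Agent.Helper10

universe u

/-- Case A: a minimal normal `p`-subgroup `N` not contained in some maximal subgroup `M`
of order coprime to its index is the unique Sylow `p`-subgroup. -/
lemma caseA {G : Type u} [Group G] [Finite G] {p : ℕ} [hp : Fact p.Prime]
    (N M : Subgroup G) [N.Normal] (hNp : IsPGroup p N) (hM : IsCoatom M)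
    (hcop : (Nat.card M).Coprime M.index) (hNM : ¬ N ≤ M) :
    ∀ P : Sylow p G, (P : Subgroup G).Normal := by
  have htop := sup_eq_top_of_isCoatom_of_not_le hM hNM
  have h1 := index_mul_card_inf_of_normal_of_sup_eq_top N M htop
  obtain ⟨a, ha⟩ := IsPGroup.iff_card.mp hNp
  have hidx : M.index ∣ p ^ a := by rw [← ha, ← h1]; exact dvd_mul_right _ _
  obtain ⟨k, hk, hidx'⟩ := (Nat.dvd_prime_pow hp.out).mp hidx
  have hk1 : k ≠ 0 := by
    intro h0
    rw [h0, pow_zero] at hidx'
    exact hM.1 (Subgroup.index_eq_one.mp hidx')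
  have hpM : ¬ p ∣ Nat.card M := by
    intro hdvd
    have h2 : p ∣ M.index := by rw [hidx']; exact dvd_pow_self p hk1
    have := Nat.eq_one_of_dvd_coprimes hcop hdvd h2
    exact hp.out.one_lt.ne' this
  intro P
  have hNP : N ≤ P := normal_pGroup_le_sylow N hNp P
  -- |P| divides |G| = |M| * [G:M], coprime to |M| so divides [G:M], which divides |N|
  have hPcard : Nat.card P ∣ Nat.card M * M.index := by
    rw [Subgroup.card_mul_index]; exact Subgroup.card_subgroup_dvd_card _
  obtain ⟨b, hb⟩ := IsPGroup.iff_card.mp P.2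
  have hcopP : Nat.Coprime (Nat.card P) (Nat.card M) := by
    rw [hb]
    exact Nat.Coprime.pow_left _ ((Nat.Prime.coprime_iff_not_dvd hp.out).mpr hpM)
  have h3 : Nat.card P ∣ M.index := hcopP.dvd_of_dvd_mul_left hPcard
  have h4 : Nat.card P ∣ Nat.card N := by
    rw [← h1]; exact h3.trans (dvd_mul_right _ _)
  have h5 : N = P := Subgroup.eq_of_le_of_card_ge hNP (Nat.le_of_dvd Nat.card_pos h4)
  rw [← h5]
  infer_instance

theorem main : ∀ (n : ℕ) (G : Type u) [Group G] [Finite G] [Group.IsSolvable G] [Nontrivial G],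
    Nat.card G = n → (∀ M : Subgroup G, IsCoatom M → (Nat.card M).Coprime M.index) →
    ∃ p : ℕ, p.Prime ∧ p ∣ Nat.card G ∧ ∀ P : Sylow p G, (P : Subgroup G).Normal := by
  intro n
  induction n using Nat.strong_induction_on with
  | _ n ih =>
    intro G _ _ _ _ hcard h
    obtain ⟨N, hN⟩ := exists_isMinNormal (G := G)
    haveI hNn : N.Normal := hN.1
    have hNne : N ≠ ⊥ := hN.2.1
    obtain ⟨p, hp, hpd, hNp⟩ := hN.exists_prime_pow_eq_one
    haveI : Fact p.Prime := ⟨hp⟩
    have hNpg : IsPGroup p N := by
      intro x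
      refine ⟨1, ?_⟩
      rw [pow_one]
      exact Subtype.ext (by simpa using hNp x x.2)
    by_cases hcase : ∃ M : Subgroup G, IsCoatom M ∧ ¬ N ≤ M
    · obtain ⟨M, hM, hNM⟩ := hcase
      exact ⟨p, hp, hpd.trans (Subgroup.card_subgroup_dvd_card N),
        caseA N M hNpg hM (h M hM) hNM⟩
    · push Not at hcase
      have hNfr : N ≤ frattini G := by
        unfold frattini Order.radical
        rw [le_iInf₂_iff]
        exact hcase
      have hNtop : N ≠ ⊤ := by
        intro h0
        obtain ⟨M, hM⟩ := (eq_top_or_exists_le_coatom (⊥ : Subgroup G)).resolve_left bot_ne_top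
        have := hcase M hM.1
        rw [h0, top_le_iff] at this
        exact hM.1.1 this
      haveI : Nontrivial (G ⧸ N) := by
        rw [← not_subsingleton_iff_nontrivial]
        intro hss
        exact hNtop (QuotientGroup.subsingleton_iff.mp hss)
      have hlt : Nat.card (G ⧸ N) < n := by
        rw [← hcard, ← Subgroup.index_eq_card]
        have h2 := Subgroup.card_mul_index N
        have h3 : 1 < Nat.card N := N.one_lt_card_iff_ne_bot.mpr hNne
        have h4 : 0 < N.index := Nat.pos_of_ne_zero Subgroup.index_ne_zero_of_finite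
        nlinarith
      have hsurj := QuotientGroup.mk'_surjective N
      obtain ⟨q, hq, hqd, hQ⟩ := ih _ hlt (G ⧸ N) rfl (by
        intro Mq hMq
        have hco := h _ (Subgroup.isCoatom_comap_of_surjective hsurj hMq)
        rw [Subgroup.index_comap_of_surjective _ hsurj] at hco
        have hdvd : Nat.card Mq ∣ Nat.card (Mq.comap (QuotientGroup.mk' N)) := by
          have := Subgroup.card_map_dvd (Mq.comap (QuotientGroup.mk' N)) (QuotientGroup.mk' N)
          rwa [Subgroup.map_comap_eq_self_of_surjective hsurj] at this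
        exact Nat.Coprime.coprime_dvd_left hdvd hco)
      haveI : Fact q.Prime := ⟨hq⟩
      refine ⟨q, hq, hqd.trans (Subgroup.card_quotient_dvd_card N), ?_⟩
      intro Q
      have hQbar : ((Q.mapSurjective hsurj : Sylow q (G ⧸ N)) : Subgroup (G ⧸ N)).Normal := hQ _
      rw [Sylow.coe_mapSurjective] at hQbar
      set L := ((Q : Subgroup G).map (QuotientGroup.mk' N)).comap (QuotientGroup.mk' N) with hL
      haveI : L.Normal := hQbar.comap _
      have hQL : (Q : Subgroup G) ≤ L := Subgroup.le_comap_map _ _
      have hLeq : L = (Q : Subgroup G) ⊔ N := by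
        rw [hL, Subgroup.comap_map_eq, QuotientGroup.ker_mk']
      have fr := Sylow.normalizer_sup_eq_top' Q hQL
      have htop : Subgroup.normalizer ((Q : Subgroup G) : Set G) ⊔ frattini G = ⊤ := by
        rw [eq_top_iff, ← fr, hLeq]
        apply sup_le le_sup_left
        apply sup_le (Subgroup.le_normalizer.trans le_sup_left) (hNfr.trans le_sup_right)
      exact Subgroup.normalizer_eq_top_iff.mp (frattini_nongenerating htop)

/-- Let G be a nontrivial finite solvable group in which every maximal subgroup has order coprime to its index. Then for some prime p dividing the order of G the Sylow p-subgroups of G are normal. -/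
theorem result {G : Type*} [Group G] [Finite G] [Group.IsSolvable G] [Nontrivial G] (h : ∀ M : Subgroup G, IsCoatom M → (Nat.card M).Coprime M.index) : ∃ p : ℕ, p.Prime ∧ p ∣ Nat.card G ∧ ∀ P : Sylow p G, (P : Subgroup G).Normal := by
  exact main (Nat.card G) G rfl h

end Cfsg.Agent.S0553
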