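import Cfsg.Statements.S0554
import Cfsg.Agent.Lib.Helper10.MinNormal
import Cfsg.Agent.Lib.Helper10.SylowExtra

set_option autoImplicit false
open Cfsg

namespace Cfsg.Agent.S0554

open Cfsg.Agent.Helper10
open Pointwise

universe u

/-- The ordered product of the underlying sets of a list of subgroups. -/
def setProd {G : Type u} [Group G] (L : List (Subgroup G)) : Set G :=
  (L.map (fun A : Subgroup G => (A : Set G))).prod

lemma one_mem_setProd {G : Type u} [Group G] (L : List (Subgroup G)) : (1 : G) ∈ setProd L := by
  induction L with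
  | nil => simp [setProd]
  | cons A L ih =>
    unfold setProd at ih ⊢
    rw [List.map_cons, List.prod_cons]
    exact ⟨1, A.one_mem, 1, ih, one_mul 1⟩

lemma setProd_append {G : Type u} [Group G] (L₁ L₂ : List (Subgroup G)) :
    setProd (L₁ ++ L₂) = setProd L₁ * setProd L₂ := by
  unfold setProd
  rw [List.map_append, List.prod_append]

lemma setProd_cons {G : Type u} [Group G] (A : Subgroup G) (L : List (Subgroup G)) :
    setProd (A :: L) = (A : Set G) * setProd L := by
  unfold setProd
  rw [List.map_cons, List.prod_cons]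

/-- Absorbing a normal subgroup `N` contained in a member `A` of the list. -/
lemma setProd_mul_normal {G : Type u} [Group G] (L : List (Subgroup G)) (N A : Subgroup G)
    [N.Normal] (hA : A ∈ L) (hNA : N ≤ A) : setProd L * (N : Set G) = setProd L := by
  obtain ⟨L₁, L₂, rfl⟩ := List.append_of_mem hA
  rw [setProd_append, setProd_cons, mul_assoc, mul_assoc, Subgroup.set_mul_normal_comm (setProd L₂) N,
    ← mul_assoc (A : Set G)]
  congr 2
  -- A * N = A
  apply Set.Subset.antisymm
  · rintro _ ⟨a, ha, n, hn, rfl⟩
    exact A.mul_mem ha (hNA hn)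
  · intro a ha
    exact ⟨a, ha, 1, N.one_mem, mul_one a⟩

theorem main : ∀ (n : ℕ) (G : Type u) [Group G] [Finite G] [Group.IsSolvable G],
    Nat.card G = n → ∀ L : List (Subgroup G),
    (∀ q : ℕ, q.Prime → q ∣ Nat.card G → ∃ A ∈ L, ∃ P : Sylow q G, (P : Subgroup G) ≤ A) →
    setProd L = Set.univ := by
  intro n
  induction n using Nat.strong_induction_on with
  | _ n ih =>
    intro G _ _ _ hcard L hL
    rcases subsingleton_or_nontrivial G with hss | hnt
    · rw [Set.eq_univ_iff_forall]
      intro g
      rw [Subsingleton.elim g 1]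
      exact one_mem_setProd L
    · obtain ⟨N, hN⟩ := exists_isMinNormal (G := G)
      haveI hNn : N.Normal := hN.1
      have hNne : N ≠ ⊥ := hN.2.1
      obtain ⟨q, hq, hqd, hNq⟩ := hN.exists_prime_pow_eq_one
      haveI : Fact q.Prime := ⟨hq⟩
      have hNpg : IsPGroup q N := by
        intro x
        refine ⟨1, ?_⟩
        rw [pow_one]
        exact Subtype.ext (by simpa using hNq x x.2)
      obtain ⟨A, hAL, P, hPA⟩ := hL q hq (hqd.trans (Subgroup.card_subgroup_dvd_card N))
      have hNA : N ≤ A := (normal_pGroup_le_sylow N hNpg P).trans hPA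
      have hlt : Nat.card (G ⧸ N) < n := by
        rw [← hcard, ← Subgroup.index_eq_card]
        have h2 := Subgroup.card_mul_index N
        have h3 : 1 < Nat.card N := N.one_lt_card_iff_ne_bot.mpr hNne
        have h4 : 0 < N.index := Nat.pos_of_ne_zero Subgroup.index_ne_zero_of_finite
        nlinarith
      let π := QuotientGroup.mk' N
      have hsurj : Function.Surjective π := QuotientGroup.mk'_surjective N
      have hIH := ih _ hlt (G ⧸ N) rfl (L.map (Subgroup.map π)) (by
        intro r hr hrd
        haveI : Fact r.Prime := ⟨hr⟩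
        obtain ⟨B, hBL, R, hRB⟩ := hL r hr (hrd.trans (Subgroup.card_quotient_dvd_card N))
        refine ⟨B.map π, List.mem_map_of_mem hBL, R.mapSurjective hsurj, ?_⟩
        rw [Sylow.coe_mapSurjective]
        exact Subgroup.map_mono hRB)
      -- image of setProd L is setProd of images
      have himg : (π : G → G ⧸ N) '' setProd L = setProd (L.map (Subgroup.map π)) := by
        unfold setProd
        rw [Set.image_list_prod, List.map_map, List.map_map]
        congr 1
      rw [← setProd_mul_normal L N A hAL hNA, Set.eq_univ_iff_forall]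
      intro g
      have hg : π g ∈ (π : G → G ⧸ N) '' setProd L := by
        rw [himg, hIH]; trivial
      obtain ⟨t, ht, htg⟩ := hg
      refine ⟨t, ht, t⁻¹ * g, ?_, by group⟩
      have : π (t⁻¹ * g) = 1 := by rw [map_mul, map_inv, htg]; group
      exact (QuotientGroup.eq_one_iff _).mp this

/-- Let G be a finite solvable group and let S assign to each of t distinct primes, including every prime divisor of the order of G, a Sylow subgroup of G. Then every element of G is a product s_0 s_1 ⋯ s_(t-1) with s_i in S i, the factors taken in the given order. -/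
theorem result {G : Type*} [Group G] [Finite G] [Group.IsSolvable G] (t : ℕ) (p : Fin t → ℕ) (hp : ∀ i, (p i).Prime) (hinj : Function.Injective p) (hall : ∀ q : ℕ, q.Prime → q ∣ Nat.card G → ∃ i, p i = q) (S : (i : Fin t) → Sylow (p i) G) : ∀ g : G, ∃ s : (i : Fin t) → G, (∀ i, s i ∈ (S i : Subgroup G)) ∧ g = (List.ofFn s).prod := by
  intro g
  have hmain := main (Nat.card G) G rfl (List.ofFn (fun i => (S i : Subgroup G))) (by
    intro q hq hqd
    obtain ⟨i, rfl⟩ := hall q hq hqd
    exact ⟨(S i : Subgroup G), List.mem_ofFn.mpr ⟨i, rfl⟩, S i, le_rfl⟩)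
  have hg : g ∈ setProd (List.ofFn (fun i => (S i : Subgroup G))) := by rw [hmain]; trivial
  unfold setProd at hg
  rw [List.map_ofFn, Set.mem_prod_list_ofFn] at hg
  obtain ⟨f, hf⟩ := hg
  exact ⟨fun i => (f i : G), fun i => (f i).2, hf.symm⟩

end Cfsg.Agent.S0554
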