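import Cfsg.Statements.S0555
import Mathlib

set_option autoImplicit false
open Cfsg

namespace Cfsg.Agent.S0555

open scoped commutatorElement

/-- The commutator subgroup centralizes every cyclic normal subgroup. -/
lemma commutator_le_centralizer_of_isCyclic_normal {Γ : Type*} [Group Γ] (K : Subgroup Γ)
    [K.Normal] [IsCyclic K] : commutator Γ ≤ Subgroup.centralizer (K : Set Γ) := by
  let ψ : Γ →* MulAut K := MulAut.conjNormal
  let f : Γ →* (ZMod (Nat.card K))ˣ := (IsCyclic.mulAutMulEquiv K).toMonoidHom.comp ψ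
  intro x hx
  have h1 : f x = 1 := MonoidHom.mem_ker.mp (Abelianization.commutator_subset_ker f hx)
  have h2 : ψ x = 1 := by
    have : (IsCyclic.mulAutMulEquiv K) (ψ x) = 1 := h1
    exact (MulEquiv.map_eq_one_iff _).mp this
  rw [Subgroup.mem_centralizer_iff]
  intro k hk
  have h3 : (ψ x) ⟨k, hk⟩ = ⟨k, hk⟩ := by rw [h2]; rfl
  have h4 := congrArg Subtype.val h3
  simp only [ψ, MulAut.conjNormal_apply] at h4
  calc k * x = (x * k * x⁻¹) * x := by rw [h4]
    _ = x * k := by group

/-- Let i ≥ 1. If in the derived series of a group the quotient of the i-th term by the (i+1)-st and the quotient of the (i+1)-st by the (i+2)-nd are both cyclic, then the (i+1)-st and (i+2)-nd terms coincide. -/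
theorem result {G : Type*} [Group G] (i : ℕ) (hi : 1 ≤ i) (h₁ : IsCyclic (↥(derivedSeries G i) ⧸ (derivedSeries G (i + 1)).subgroupOf (derivedSeries G i))) (h₂ : IsCyclic (↥(derivedSeries G (i + 1)) ⧸ (derivedSeries G (i + 2)).subgroupOf (derivedSeries G (i + 1)))) : derivedSeries G (i + 1) = derivedSeries G (i + 2) := by
  set A := derivedSeries G i with hA
  set B := derivedSeries G (i + 1) with hB
  set C := derivedSeries G (i + 2) with hC
  have hBA : B ≤ A := derivedSeries_antitone G (Nat.le_succ i)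
  have hCB : C ≤ B := derivedSeries_antitone G (Nat.le_succ (i + 1))
  have hAG : A ≤ commutator G := by
    rw [← derivedSeries_one]; exact derivedSeries_antitone G hi
  let π := QuotientGroup.mk' C
  have hπ : Function.Surjective π := QuotientGroup.mk'_surjective C
  -- B̄ cyclic normal in G/C
  haveI hBn : (B.map π).Normal := Subgroup.Normal.map inferInstance π hπ
  haveI hBc : IsCyclic (B.map π) := by
    let φ : B →* B.map π := π.subgroupMap B
    have hφ : Function.Surjective φ := π.subgroupMap_surjective B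
    let φ' : (↥B ⧸ C.subgroupOf B) →* B.map π := QuotientGroup.lift (C.subgroupOf B) φ (by
      intro x hx
      apply Subtype.ext
      show π (x : G) = 1
      exact (QuotientGroup.eq_one_iff _).mpr hx)
    have hφ' : Function.Surjective φ' := by
      intro y
      obtain ⟨x, rfl⟩ := hφ y
      exact ⟨QuotientGroup.mk x, rfl⟩
    exact isCyclic_of_surjective φ' hφ'
  -- key claim: [A, B] ≤ C
  have key : ∀ a ∈ A, ∀ b ∈ B, ⁅a, b⁆ ∈ C := by
    intro a ha b hb
    have h1 : π a ∈ commutator (G ⧸ C) := by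
      have := map_derivedSeries_le_derivedSeries π 1
      rw [derivedSeries_one, derivedSeries_one] at this
      exact this ⟨a, hAG ha, rfl⟩
    have h2 := commutator_le_centralizer_of_isCyclic_normal (B.map π) h1
    rw [Subgroup.mem_centralizer_iff] at h2
    have h3 := h2 (π b) ⟨b, hb, rfl⟩
    rw [← QuotientGroup.eq_one_iff, commutatorElement_def]
    show π (a * b * a⁻¹ * b⁻¹) = 1
    rw [map_mul, map_mul, map_mul, map_inv, map_inv, ← h3]
    group
  -- A / C is commutative
  let f : (↥A ⧸ C.subgroupOf A) →* (↥A ⧸ B.subgroupOf A) :=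
    QuotientGroup.map _ _ (MonoidHom.id A) (by
      intro x hx
      exact hCB hx)
  have hker : f.ker ≤ Subgroup.center (↥A ⧸ C.subgroupOf A) := by
    intro q hq
    obtain ⟨x, rfl⟩ := QuotientGroup.mk_surjective q
    have hxB : (x : G) ∈ B := by
      have : f (QuotientGroup.mk x) = 1 := hq
      have h2 : (QuotientGroup.mk x : ↥A ⧸ B.subgroupOf A) = 1 := this
      have h3 : x ∈ B.subgroupOf A := (QuotientGroup.eq_one_iff x).mp h2
      exact h3
    rw [Subgroup.mem_center_iff]
    intro r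
    obtain ⟨y, rfl⟩ := QuotientGroup.mk_surjective r
    rw [← QuotientGroup.mk_mul, ← QuotientGroup.mk_mul, QuotientGroup.eq]
    show ((y * x)⁻¹ * (x * y) : A).1 ∈ C
    have : (((y * x)⁻¹ * (x * y) : A) : G) = ⁅(x : G)⁻¹, (y : G)⁻¹⁆ := by
      rw [commutatorElement_def]; simp [mul_assoc]
    rw [this]
    have h5 := key _ (A.inv_mem y.2) _ (B.inv_mem hxB)
    have h6 : ⁅(x : G)⁻¹, (y : G)⁻¹⁆ = ⁅(y : G)⁻¹, (x : G)⁻¹⁆⁻¹ := by
      rw [commutatorElement_def, commutatorElement_def]; group
    rw [h6]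
    exact C.inv_mem h5
  have hcomm' := MonoidHom.isMulCommutative_of_isCyclic_of_ker_le_center f hker
  have hcomm := isMulCommutative_iff.mp hcomm'
  apply le_antisymm _ hCB
  rw [hB, derivedSeries_succ, ← hA, Subgroup.commutator_le]
  intro x hx y hy
  have h7 := hcomm (QuotientGroup.mk ⟨y, hy⟩) (QuotientGroup.mk ⟨x, hx⟩)
  rw [← QuotientGroup.mk_mul, ← QuotientGroup.mk_mul, QuotientGroup.eq] at h7
  have h8 : (((⟨y, hy⟩ * ⟨x, hx⟩ : A)⁻¹ * (⟨x, hx⟩ * ⟨y, hy⟩) : A) : G) ∈ C := h7
  have h9 : (((⟨y, hy⟩ * ⟨x, hx⟩ : A)⁻¹ * (⟨x, hx⟩ * ⟨y, hy⟩) : A) : G) = x⁻¹ * y⁻¹ * x * y := by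
    simp; group
  rw [h9] at h8
  -- conjugate into the right form
  have h10 : ⁅x, y⁆ = (x * y) * (x⁻¹ * y⁻¹ * x * y) * (x * y)⁻¹ := by
    rw [commutatorElement_def]; group
  rw [h10]
  exact (inferInstance : C.Normal).conj_mem _ h8 _

end Cfsg.Agent.S0555
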