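import Cfsg.Statements.S0556
import Mathlib
import Cfsg.Agent.Lib.Helper96.FrobAbel

set_option autoImplicit false
open Cfsg

namespace Cfsg.Agent.S0556

open Cfsg.Agent.Helper96
open Pointwise
open scoped IsMulCommutative

/-- `G = N B` with `N` normal abelian and `B` abelian: `G'' = 1`. -/
theorem derivedSeries_two_eq_bot_of {G : Type*} [Group G] (N B : Subgroup G) [hN : N.Normal]
    (hNc : ∀ a ∈ N, ∀ b ∈ N, a * b = b * a)
    (hB : ∀ a ∈ B, ∀ b ∈ B, a * b = b * a) (hsup : N ⊔ B = ⊤) : derivedSeries G 2 = ⊥ := by
  have h1 : derivedSeries G 1 ≤ N := by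
    rw [derivedSeries_one]
    exact commutator_le_of_sup_eq_top N B hB hsup
  rw [derivedSeries_succ, eq_bot_iff]
  refine le_trans (Subgroup.commutator_mono h1 h1) ?_
  rw [Subgroup.commutator_le]
  intro a ha b hb
  rw [Subgroup.mem_bot, commutatorElement_def, hNc a ha b hb]
  group

theorem derivedSeries_three_of_two {G : Type*} [Group G] (h : derivedSeries G 2 ≤ Subgroup.center G) :
    derivedSeries G 3 = ⊥ := by
  rw [derivedSeries_succ, eq_bot_iff, Subgroup.commutator_le]
  intro a ha b hb
  rw [Subgroup.mem_bot, commutatorElement_def]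
  have := Subgroup.mem_center_iff.mp (h ha) b
  rw [← this]
  group

/-- If a finite group has a maximal subgroup that is abelian, then the third term of its derived series is trivial (so the group is solvable of derived length at most three). -/
theorem result {G : Type*} [Group G] [Finite G] (A : Subgroup G) (hA : IsCoatom A) [IsMulCommutative A] : derivedSeries G 3 = ⊥ := by
  classical
  have hAcomm : ∀ a ∈ A, ∀ b ∈ A, a * b = b * a := by
    intro a ha b hb
    have := mul_comm (⟨a, ha⟩ : A) ⟨b, hb⟩
    exact congrArg Subtype.val this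
  have hAtop : A ≠ ⊤ := hA.1
  obtain ⟨g₀, hg₀⟩ : ∃ g, g ∉ A := by
    by_contra h
    push Not at h
    exact hAtop ((Subgroup.eq_top_iff' A).mpr h)
  -- a subgroup strictly bigger than `A` is everything
  have hmax : ∀ B : Subgroup G, A ≤ B → ∀ x ∈ B, x ∉ A → B = ⊤ := by
    intro B hAB x hxB hxA
    by_contra hB
    have := hA.2 B (lt_of_le_of_ne hAB (fun h => hxA (h ▸ hxB)))
    exact hB this
  by_cases hAn : A.Normal
  · -- `G/A` is cyclic
    have hsup : A ⊔ Subgroup.zpowers g₀ = ⊤ :=
      hmax _ le_sup_left g₀ (Subgroup.mem_sup_right (Subgroup.mem_zpowers g₀)) hg₀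
    have h2 : derivedSeries G 2 = ⊥ := by
      apply derivedSeries_two_eq_bot_of A (Subgroup.zpowers g₀) hAcomm _ hsup
      intro a ha b hb
      obtain ⟨i, rfl⟩ := Subgroup.mem_zpowers_iff.mp ha
      obtain ⟨j, rfl⟩ := Subgroup.mem_zpowers_iff.mp hb
      exact (Commute.zpow_zpow_self g₀ i j).eq
    apply derivedSeries_three_of_two
    rw [h2]; exact bot_le
  · -- `A` is self-normalizing
    have hnorm : ∀ g : G, g ∈ Subgroup.normalizer (A : Set G) → g ∈ A := by
      intro g hg
      by_contra hgA
      have htop : Subgroup.normalizer (A : Set G) = ⊤ := hmax _ Subgroup.le_normalizer g hg hgA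
      exact hAn (Subgroup.normalizer_eq_top_iff.mp htop)
    have hZA : Subgroup.center G ≤ A := by
      intro z hz
      apply hnorm
      rw [Subgroup.mem_normalizer_iff]
      intro a
      have : z * a * z⁻¹ = a := by
        have := Subgroup.mem_center_iff.mp hz a
        rw [← this]; group
      rw [this]
    -- intersections of distinct conjugates are central
    have hTI : ∀ g : G, g ∉ A → ∀ x ∈ A, g⁻¹ * x * g ∈ A → x ∈ Subgroup.center G := by
      intro g hg x hx hxg
      -- `g A g⁻¹ ⊔ A = ⊤`
      have hsup : A ⊔ MulAut.conj g • A = ⊤ := by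
        -- some element of `g A g⁻¹` is outside `A`
        have : ∃ a ∈ A, g * a * g⁻¹ ∉ A := by
          by_contra h
          push Not at h
          apply hg
          apply hnorm
          -- conj g maps A into A, hence onto A
          have hle : MulAut.conj g • A ≤ A := by
            intro y hy
            rw [mem_conj_smul_iff] at hy
            have := h _ hy
            have e : g * (g⁻¹ * y * g) * g⁻¹ = y := by group
            rwa [e] at this
          have heq : MulAut.conj g • A = A :=
            Subgroup.eq_of_le_of_card_ge hle (by rw [card_conj_smul])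
          rw [Subgroup.mem_normalizer_iff]
          intro a
          constructor
          · intro ha; exact h a ha
          · intro ha
            have : g * a * g⁻¹ ∈ MulAut.conj g • A := by rw [heq]; exact ha
            rw [mem_conj_smul_iff] at this
            have e : g⁻¹ * (g * a * g⁻¹) * g = a := by group
            rwa [e] at this
        obtain ⟨a, ha, hga⟩ := this
        exact hmax _ le_sup_left (g * a * g⁻¹)
          (Subgroup.mem_sup_right (conj_mem_conj_smul A g a ha)) hga
      -- `x` centralizes both
      have hcent : A ⊔ MulAut.conj g • A ≤ Subgroup.centralizer {x} := by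
        apply sup_le
        · intro a ha
          rw [Subgroup.mem_centralizer_singleton_iff]
          exact hAcomm a ha x hx
        · intro y hy
          rw [mem_conj_smul_iff] at hy
          rw [Subgroup.mem_centralizer_singleton_iff]
          have h1 := hAcomm _ hy _ hxg
          calc y * x = g * ((g⁻¹ * y * g) * (g⁻¹ * x * g)) * g⁻¹ := by group
            _ = g * ((g⁻¹ * x * g) * (g⁻¹ * y * g)) * g⁻¹ := by rw [h1]
            _ = x * y := by group
      rw [hsup] at hcent
      rw [Subgroup.mem_center_iff]
      intro y
      have := hcent (Subgroup.mem_top y)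
      rw [Subgroup.mem_centralizer_singleton_iff] at this
      exact this
    -- pass to the quotient by the centre
    set Z : Subgroup G := Subgroup.center G with hZ
    set π := QuotientGroup.mk' Z with hπ
    have hπeq : ∀ a b : G, π a = π b ↔ a⁻¹ * b ∈ Z := fun a b => QuotientGroup.eq
    have hπ1 : ∀ a : G, π a = 1 ↔ a ∈ Z := fun a => QuotientGroup.eq_one_iff a
    have hmemA : ∀ y : G, π y ∈ A.map π ↔ y ∈ A := by
      intro y
      constructor
      · intro h
        obtain ⟨a, ha, h⟩ := Subgroup.mem_map.mp h
        have h1 : a⁻¹ * y ∈ A := hZA ((hπeq a y).mp h)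
        have := A.mul_mem ha h1
        simpa using this
      · intro h; exact Subgroup.mem_map_of_mem π h
    have hfrob : Cfsg.IsFrobeniusComplement (A.map π) := by
      refine ⟨?_, ?_, ?_⟩
      · intro hbot
        apply hAn
        have hAZ : A = Z := by
          apply le_antisymm _ hZA
          intro a ha
          have h1 : π a ∈ A.map π := Subgroup.mem_map_of_mem π ha
          rw [hbot, Subgroup.mem_bot, hπ1] at h1
          exact h1
        rw [hAZ]
        infer_instance
      · intro htop
        apply hg₀
        rw [← hmemA, htop]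
        exact Subgroup.mem_top _
      · intro xbar hxbar
        obtain ⟨x, rfl⟩ := QuotientGroup.mk'_surjective Z xbar
        have hxA : x ∉ A := fun h => hxbar ((hmemA x).mpr h)
        rw [Subgroup.eq_bot_iff_forall]
        intro ybar hybar
        obtain ⟨hy1, hy2⟩ := Subgroup.mem_inf.mp hybar
        rw [mem_conj_smul_iff] at hy2
        obtain ⟨a, ha, rfl⟩ := Subgroup.mem_map.mp hy1
        have hy2' : π (x⁻¹ * a * x) ∈ A.map π := by
          rw [map_mul, map_mul, map_inv]; exact hy2
        rw [hmemA] at hy2'
        exact (hπ1 a).mpr (hTI x hxA a ha hy2')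
    obtain ⟨V, hVK, hV1, hVc, hAV⟩ := exists_invariant_abelian_subgroup hfrob
    -- `V ⊔ Ā = ⊤`
    have hsup : V ⊔ A.map π = ⊤ := by
      obtain ⟨v, hv, hv1⟩ : ∃ v ∈ V, v ≠ 1 := by
        by_contra h
        push Not at h
        exact hV1 ((Subgroup.eq_bot_iff_forall _).mpr h)
      obtain ⟨x, rfl⟩ := QuotientGroup.mk'_surjective Z v
      have hxA : x ∉ A := by
        intro hx
        have h1 : π x ∈ A.map π := Subgroup.mem_map_of_mem π hx
        have h2 := hVK hv
        rw [mem_frobeniusKernel_iff] at h2
        rcases h2 with h2 | h2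
        · exact hv1 h2
        · apply h2 1
          have e : (1 : G ⧸ Z)⁻¹ * π x * 1 = π x := by group
          rw [e]; exact h1
      have hcomap : (V ⊔ A.map π).comap π = ⊤ := by
        apply hmax _ _ x _ hxA
        · intro a ha
          rw [Subgroup.mem_comap]
          exact Subgroup.mem_sup_right (Subgroup.mem_map_of_mem π ha)
        · rw [Subgroup.mem_comap]
          exact Subgroup.mem_sup_left hv
      rw [eq_top_iff]
      intro ybar _
      obtain ⟨y, rfl⟩ := QuotientGroup.mk'_surjective Z ybar
      have : y ∈ (V ⊔ A.map π).comap π := by rw [hcomap]; exact Subgroup.mem_top _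
      exact Subgroup.mem_comap.mp this
    have hVn : V.Normal := by
      rw [← Subgroup.normalizer_eq_top_iff, eq_top_iff, ← hsup]
      exact sup_le Subgroup.le_normalizer hAV
    have hAbar : ∀ a ∈ A.map π, ∀ b ∈ A.map π, a * b = b * a := by
      intro a ha b hb
      obtain ⟨a', ha', rfl⟩ := Subgroup.mem_map.mp ha
      obtain ⟨b', hb', rfl⟩ := Subgroup.mem_map.mp hb
      rw [← map_mul, ← map_mul, hAcomm a' ha' b' hb']
    have h2 : derivedSeries (G ⧸ Z) 2 = ⊥ := derivedSeries_two_eq_bot_of V (A.map π) hVc hAbar hsup
    apply derivedSeries_three_of_two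
    intro x hx
    have h3 : π x ∈ (derivedSeries G 2).map π := Subgroup.mem_map_of_mem π hx
    have h4 := map_derivedSeries_le_derivedSeries π 2 h3
    rw [h2, Subgroup.mem_bot, hπ1] at h4
    exact h4

end Cfsg.Agent.S0556
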