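import Cfsg.Statements.S0557
import Cfsg.Agent.Lib.Helper10.HallFocal

set_option autoImplicit false
open Cfsg

namespace Cfsg.Agent.S0557

open Cfsg.Agent.Helper10

universe u

theorem aux (n : ℕ) : ∀ (G : Type u) [Group G] [Finite G] (H : Subgroup G),
    (Nat.card H).Coprime H.index →
    (fun K : Subgroup G => Subgroup.focalSubgroup K)^[n] H = ⊥ →
    ∃ N : Subgroup G, N.Normal ∧ Subgroup.IsComplement' N H := by
  induction n with
  | zero =>
    intro G _ _ H _ hfoc
    rw [Function.iterate_zero, id] at hfoc
    subst hfoc
    exact ⟨⊤, inferInstance, Subgroup.isComplement'_top_bot⟩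
  | succ n ih =>
    intro G _ _ H hHall hfoc
    rw [Function.iterate_succ_apply] at hfoc
    set K := H.transferFocal.ker with hK
    set H₁ := H.focalSubgroup with hH₁
    have hinf : K ⊓ H = H₁ := hall_ker_transferFocal_inf H hHall
    have hH₁K : H₁ ≤ K := by rw [← hinf]; exact inf_le_left
    have hH₁H : H₁ ≤ H := H.focalSubgroup_le
    have hrel : H₁.relIndex K = H.index := hall_relIndex_focal H hHall
    -- pass to K
    set L : Subgroup K := H₁.subgroupOf K with hL
    have hLmap : L.map K.subtype = H₁ := Subgroup.map_subgroupOf_eq_of_le hH₁K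
    have hLcard : Nat.card L = Nat.card H₁ := by
      rw [← hLmap, Subgroup.card_map_of_injective K.subtype_injective]
    have hLindex : L.index = H.index := hrel
    have hdvd : Nat.card H₁ ∣ Nat.card H := Subgroup.card_dvd_of_le hH₁H
    have hLHall : (Nat.card L).Coprime L.index := by
      rw [hLcard, hLindex]
      exact Nat.Coprime.coprime_dvd_left hdvd hHall
    have hLfoc : (fun M : Subgroup K => Subgroup.focalSubgroup M)^[n] L = ⊥ := by
      have h1 := map_focalSubgroup_iterate_le K n L
      rw [hLmap, hfoc, le_bot_iff] at h1
      exact (Subgroup.map_eq_bot_iff_of_injective _ K.subtype_injective).mp h1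
    obtain ⟨N', hN'n, hN'c⟩ := ih K L hLHall hLfoc
    haveI := hN'n
    have hN'card : Nat.card N' = H.index := by
      rw [← hN'c.index_eq_card, hLindex]
    have hN'index : N'.index = Nat.card H₁ := by
      rw [← hLcard]
      exact hN'c.symm.index_eq_card
    have hN'cop : (Nat.card N').Coprime N'.index := by
      rw [hN'card, hN'index]
      exact (Nat.Coprime.coprime_dvd_left hdvd hHall).symm
    haveI hchar : N'.Characteristic := characteristic_of_normal_of_coprime N' hN'cop
    haveI hKn : K.Normal := by rw [hK]; infer_instance
    refine ⟨N'.map K.subtype, ConjAct.normal_of_characteristic_of_normal, ?_⟩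
    apply Subgroup.isComplement'_of_card_mul_and_disjoint
    · rw [Subgroup.card_map_of_injective K.subtype_injective, hN'card]
      exact H.index_mul_card
    · rw [disjoint_iff, eq_bot_iff]
      rintro x ⟨⟨y, hy, rfl⟩, hxH⟩
      have hyL : y ∈ L := by
        rw [hL, Subgroup.mem_subgroupOf, ← hinf]
        exact ⟨y.2, hxH⟩
      have hbot : N' ⊓ L = ⊥ := hN'c.disjoint.eq_bot
      have hy1 : y ∈ N' ⊓ L := ⟨hy, hyL⟩
      rw [hbot, Subgroup.mem_bot] at hy1
      rw [Subgroup.mem_bot, hy1]
      rfl

/-- Let H be a subgroup of a finite group G with order coprime to its index. If iterating the focal-subgroup construction starting from H reaches the trivial subgroup after finitely many steps, then H has a normal complement in G. -/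
theorem result {G : Type*} [Group G] [Finite G] (H : Subgroup G) (hHall : (Nat.card H).Coprime H.index) (n : ℕ) (hfoc : (fun K : Subgroup G => Subgroup.focalSubgroup K)^[n] H = ⊥) : ∃ N : Subgroup G, N.Normal ∧ Subgroup.IsComplement' N H := by
  exact aux n G H hHall hfoc

end Cfsg.Agent.S0557
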