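import Cfsg.Statements.S0567
import Mathlib

set_option autoImplicit false
open Cfsg

namespace Cfsg.Agent.S0567

open scoped commutatorElement

variable {G : Type*} [Group G]

lemma left_le_normalizer_commutator (K H : Subgroup G) :
    K ≤ Subgroup.normalizer ((⁅K, H⁆ : Subgroup G) : Set G) := by
  rw [Subgroup.commutator_def, Subgroup.le_normalizer_closure_iff]
  rintro x hx _ ⟨y, hy, z, hz, rfl⟩
  rw [← Subgroup.commutator_def]
  have : x * ⁅y, z⁆ * x⁻¹ = ⁅x * y, z⁆ * ⁅x, z⁆⁻¹ := by
    rw [commutatorElement_def, commutatorElement_def, commutatorElement_def]; group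
  rw [this]
  exact Subgroup.mul_mem _ (Subgroup.commutator_mem_commutator (K.mul_mem hx hy) hz)
    (Subgroup.inv_mem _ (Subgroup.commutator_mem_commutator hx hz))

lemma right_le_normalizer_commutator (K H : Subgroup G) :
    H ≤ Subgroup.normalizer ((⁅K, H⁆ : Subgroup G) : Set G) := by
  rw [Subgroup.commutator_def, Subgroup.le_normalizer_closure_iff]
  rintro y hy _ ⟨x, hx, z, hz, rfl⟩
  rw [← Subgroup.commutator_def]
  have : y * ⁅x, z⁆ * y⁻¹ = ⁅x, y⁆⁻¹ * ⁅x, y * z⁆ := by
    rw [commutatorElement_def, commutatorElement_def, commutatorElement_def]; group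
  rw [this]
  exact Subgroup.mul_mem _ (Subgroup.inv_mem _ (Subgroup.commutator_mem_commutator hx hy))
    (Subgroup.commutator_mem_commutator hx (H.mul_mem hy hz))

/-- The iterated commutator `[G, H, ..., H]`. -/
def C (H : Subgroup G) (m : ℕ) : Subgroup G := (fun K : Subgroup G => ⁅K, H⁆)^[m] ⊤

lemma C_zero (H : Subgroup G) : C H 0 = ⊤ := rfl

lemma C_succ (H : Subgroup G) (m : ℕ) : C H (m + 1) = ⁅C H m, H⁆ := by
  unfold C
  rw [Function.iterate_succ_apply']

lemma C_succ_le (H : Subgroup G) (m : ℕ) : C H (m + 1) ≤ C H m := by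
  induction m with
  | zero => rw [C_zero]; exact le_top
  | succ m ih =>
    rw [C_succ H (m + 1), C_succ H m]
    exact Subgroup.commutator_mono (by rw [← C_succ]; exact ih) le_rfl

lemma forward {K : Subgroup G} (hK : K.IsSubnormal) : ∀ H : Subgroup G, H ≤ K → ∃ m, C H m ≤ K := by
  induction hK with
  | top => intro H _; exact ⟨0, le_top⟩
  | step K L hKL hL hN ih =>
    intro H hHK
    obtain ⟨m, hm⟩ := ih H (hHK.trans hKL)
    refine ⟨m + 1, ?_⟩
    rw [C_succ]
    rw [Subgroup.normal_subgroupOf_iff_le_normalizer hKL] at hN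
    calc ⁅C H m, H⁆ ≤ ⁅L, K⁆ := Subgroup.commutator_mono hm hHK
      _ ≤ K := by
        rw [Subgroup.commutator_le]
        intro l hl k hk
        rw [commutatorElement_def]
        have h1 : l * k * l⁻¹ ∈ K := ((hN hl) k).mp hk
        exact K.mul_mem h1 (K.inv_mem hk)

lemma sup_C_isSubnormal (H : Subgroup G) (i : ℕ) : (H ⊔ C H i).IsSubnormal := by
  induction i with
  | zero => rw [C_zero, sup_top_eq]; exact Subgroup.IsSubnormal.top
  | succ i ih =>
    have hle : H ⊔ C H (i + 1) ≤ H ⊔ C H i := sup_le_sup_left (C_succ_le H i) H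
    refine Subgroup.IsSubnormal.step _ _ hle ih ?_
    rw [Subgroup.normal_subgroupOf_iff_le_normalizer hle]
    have hH1 : H ≤ Subgroup.normalizer ((C H (i + 1) : Subgroup G) : Set G) := by
      rw [C_succ]; exact right_le_normalizer_commutator _ _
    have hC1 : C H i ≤ Subgroup.normalizer ((C H (i + 1) : Subgroup G) : Set G) := by
      rw [C_succ]; exact left_le_normalizer_commutator _ _
    apply sup_le
    · exact (le_inf Subgroup.le_normalizer hH1).trans
        (Subgroup.normalizer_inf_normalizer_le_normalizer_sup H (C H (i + 1)))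
    · have hsup : H ⊔ C H (i + 1) = Subgroup.closure ((H : Set G) ∪ (C H (i + 1) : Set G)) := by
        rw [Subgroup.closure_union, Subgroup.closure_eq, Subgroup.closure_eq]
      rw [hsup, Subgroup.le_normalizer_closure_iff]
      rintro c hc g (hg | hg)
      · -- c h c⁻¹ = ⁅c, h⁆ * h
        have : c * g * c⁻¹ = ⁅c, g⁆ * g := by rw [commutatorElement_def]; group
        rw [this, ← hsup]
        apply Subgroup.mul_mem _ (Subgroup.mem_sup_right _) (Subgroup.mem_sup_left hg)
        rw [C_succ]
        exact Subgroup.commutator_mem_commutator hc hg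
      · rw [← hsup]
        apply Subgroup.mem_sup_right
        exact ((hC1 hc) g).mp hg

/-- A subgroup H of a group G is subnormal exactly when, for some m, the subgroup obtained from G by taking the commutator with H m times in succession is contained in H. -/
theorem result {G : Type*} [Group G] (H : Subgroup G) : H.IsSubnormal ↔ ∃ m : ℕ, (fun K : Subgroup G => ⁅K, H⁆)^[m] ⊤ ≤ H := by
  constructor
  · intro h
    exact forward h H le_rfl
  · rintro ⟨m, hm⟩
    have := sup_C_isSubnormal H m
    have h2 : H ⊔ C H m = H := sup_eq_left.mpr hm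
    rwa [h2] at this

end Cfsg.Agent.S0567
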