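import Cfsg.Statements.S0569
import Mathlib
import Cfsg.Agent.Lib.Helper1.SysNorm
-- import your own Cfsg.Agent.* helpers here

set_option autoImplicit false
open Cfsg

namespace Cfsg.Agent.S0569

open Pointwise Cfsg.Agent.Helper1 Cfsg.Agent.Helper1.Carter Cfsg.Agent.Helper1.SysNorm in
/-- In a finite solvable group: each nilpotent self-normalizing subgroup contains the system normalizer of some Hall complement system, and the system normalizer of any Hall complement system lies in some nilpotent self-normalizing subgroup. -/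
theorem result {G : Type*} [Group G] [Finite G] [Group.IsSolvable G] : (∀ C : Subgroup G, Cfsg.IsCarterSubgroup C → ∃ K : Nat.Primes → Subgroup G, Cfsg.IsComplementSystem K ∧ Cfsg.systemNormalizer K ≤ C) ∧ ∀ K : Nat.Primes → Subgroup G, Cfsg.IsComplementSystem K → ∃ C : Subgroup G, Cfsg.IsCarterSubgroup C ∧ Cfsg.systemNormalizer K ≤ C := by
  constructor
  · intro C hC
    obtain ⟨K, hK1, hK2, hK3⟩ := exists_reducing C hC.1
    exact ⟨K, hK1, systemNormalizer_le_of_red hC hK2 hK3⟩
  · intro K hK
    obtain ⟨C0, hC0⟩ := (carter G).1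
    obtain ⟨K0, -, hK02, hK03⟩ := exists_reducing C0 hC0.1
    have h1 : Cfsg.systemNormalizer K0 ≤ C0 := systemNormalizer_le_of_red hC0 hK02 hK03
    obtain ⟨g, hg⟩ := conj_systems hK02 (isCS_of_isComplementSystem hK)
    have hKeq : K = fun p => MulAut.conj g • K0 p := funext hg
    refine ⟨MulAut.conj g • C0, hC0.conj g, ?_⟩
    rw [hKeq, systemNormalizer_conj]
    exact Subgroup.pointwise_smul_le_pointwise_smul_iff.mpr h1

end Cfsg.Agent.S0569
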