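import Cfsg.Statements.S0573
import Mathlib
import Cfsg.Agent.S0572
import Cfsg.Agent.Lib.Helper31.ItoFactor

set_option autoImplicit false
open Cfsg

namespace Cfsg.Agent.S0573

open Cfsg.Agent.Helper31.Ito

/-- If a nontrivial finite group G is the product AB of abelian subgroups A and B, then some nontrivial normal subgroup of G is contained in A or in B. -/
theorem result {G : Type*} [Group G] [Finite G] [Nontrivial G] (A B : Subgroup G) [IsMulCommutative A] [IsMulCommutative B] (hAB : ∀ g : G, ∃ a ∈ A, ∃ b ∈ B, g = a * b) : ∃ N : Subgroup G, N.Normal ∧ N ≠ ⊥ ∧ (N ≤ A ∨ N ≤ B) := by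
  by_contra hcon
  push Not at hcon
  have hBA := fact_swap A B hAB
  have cA : ∀ x ∈ A, ∀ y ∈ A, x * y = y * x := fun x hx y hy => setLike_mul_comm hx hy
  have cB : ∀ x ∈ B, ∀ y ∈ B, x * y = y * x := fun x hx y hy => setLike_mul_comm hx hy
  -- central subgroups are normal
  have hcentral : ∀ x : G, x ∈ Subgroup.center G → x ≠ 1 →
      (Subgroup.zpowers x).Normal ∧ Subgroup.zpowers x ≠ ⊥ := by
    intro x hx hx1
    refine ⟨⟨fun y hy g => ?_⟩, ?_⟩
    · have hyc : y ∈ Subgroup.center G := by
        have : Subgroup.zpowers x ≤ Subgroup.center G := by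
          rw [Subgroup.zpowers_le]; exact hx
        exact this hy
      have : g * y * g⁻¹ = y := by
        rw [Subgroup.mem_center_iff] at hyc
        rw [hyc g]; group
      rw [this]; exact hy
    · intro h
      have := Subgroup.mem_zpowers x
      rw [h, Subgroup.mem_bot] at this
      exact hx1 this
  -- Step 1: the centre is trivial
  have hZ : Subgroup.center G = ⊥ := by
    by_contra hne
    obtain ⟨⟨z, hz⟩, hz1'⟩ := (Subgroup.ne_bot_iff_exists_ne_one).mp hne
    have hz1 : z ≠ 1 := fun h => hz1' (Subtype.ext h)
    obtain ⟨a, ha, b, hb, rfl⟩ := hAB z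
    have hzc : ∀ g : G, g * (a * b) = (a * b) * g := fun g => Subgroup.mem_center_iff.mp hz g
    have hac : a ∈ Subgroup.center G := by
      apply mem_center_of_comm A B hAB
      · intro a' ha'; exact cA a' ha' a ha
      · intro b' hb'
        have h1 := hzc b'
        have h2 : b' * b = b * b' := cB b' hb' b hb
        calc b' * a = (b' * (a * b)) * b⁻¹ := by group
          _ = ((a * b) * b') * b⁻¹ := by rw [h1]
          _ = a * (b * b') * b⁻¹ := by group
          _ = a * (b' * b) * b⁻¹ := by rw [h2]
          _ = a * b' := by group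
    have hbc : b ∈ Subgroup.center G := by
      apply mem_center_of_comm A B hAB
      · intro a' ha'
        have h1 := hzc a'
        have h2 : a' * a = a * a' := cA a' ha' a ha
        calc a' * b = a⁻¹ * (a * a') * b := by group
          _ = a⁻¹ * (a' * a) * b := by rw [h2]
          _ = a⁻¹ * (a' * (a * b)) := by group
          _ = a⁻¹ * ((a * b) * a') := by rw [h1]
          _ = b * a' := by group
      · intro b' hb'; exact cB b' hb' b hb
    by_cases ha1 : a = 1
    · have hb1 : b ≠ 1 := by
        intro hb1; apply hz1; rw [ha1, hb1, mul_one]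
      obtain ⟨hn, hne⟩ := hcentral b hbc hb1
      exact (hcon _ hn hne).2 (by rw [Subgroup.zpowers_le]; exact hb)
    · obtain ⟨hn, hne⟩ := hcentral a hac ha1
      exact (hcon _ hn hne).1 (by rw [Subgroup.zpowers_le]; exact ha)
  -- Step 2: V = G' is abelian and nontrivial
  have hVab : IsMulCommutative (commutator G) := by
    have h := Cfsg.Agent.S0572.result A B hAB
    rw [derivedSeries_succ, derivedSeries_one] at h
    exact Subgroup.commutator_self_eq_bot_iff.mp h
  have hV1 : commutator G ≠ ⊥ := by
    intro h
    rw [commutator_eq_bot_iff_center_eq_top, hZ] at h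
    exact bot_ne_top h
  -- Step 3: minimal normal subgroup
  obtain ⟨N, hN, hN1, hNV, hmin⟩ := exists_minimal_normal (commutator G) inferInstance hV1
  have cV : ∀ x ∈ commutator G, ∀ y ∈ commutator G, x * y = y * x :=
    fun x hx y hy => setLike_mul_comm hx hy
  have hVK : commutator G ≤ Subgroup.centralizer (N : Set G) := by
    intro v hv
    rw [Subgroup.mem_centralizer_iff]
    intro n hn
    exact cV n (hNV hn) v hv
  obtain ⟨p, hp, hexp⟩ := exists_prime_exponent N hN hN1 (fun x hx y hy => cV x (hNV hx) y (hNV hy)) hmin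
  haveI : Fact p.Prime := ⟨hp⟩
  have hpN : IsPGroup p N := by
    intro x
    refine ⟨1, ?_⟩
    apply Subtype.ext
    rw [pow_one]
    simpa using hexp x x.2
  have hdich := inf_centralizer_eq_bot_or_le N hN hmin hVK
  have hpel := le_centralizer_of_pow_eq_one N hN hN1 hpN hdich
  -- Step 5: both factors act nontrivially
  haveI := hN
  have hKn : (Subgroup.centralizer (N : Set G)).Normal := Subgroup.normal_centralizer
  have hKne : Subgroup.centralizer (N : Set G) ⊓
      Subgroup.centralizer ((Subgroup.centralizer (N : Set G) : Subgroup G) : Set G) ≠ ⊥ := by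
    intro h
    apply hN1
    rw [eq_bot_iff, ← h]
    intro n hn
    refine ⟨hVK (hNV hn), ?_⟩
    show n ∈ Subgroup.centralizer ((Subgroup.centralizer (N : Set G) : Subgroup G) : Set G)
    rw [Subgroup.mem_centralizer_iff]
    intro k hk
    exact ((Subgroup.mem_centralizer_iff.mp hk) n hn).symm
  have hexA : ∃ a ∈ A, N ⊓ Subgroup.centralizer {a} = ⊥ := by
    by_contra hno
    push Not at hno
    have hAK : A ≤ Subgroup.centralizer (N : Set G) := by
      intro a ha
      rcases hdich a with h | h
      · exact absurd h (hno a ha)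
      · rw [Subgroup.mem_centralizer_iff]
        intro n hn
        have := Subgroup.mem_centralizer_iff.mp (h hn) a (Set.mem_singleton a)
        exact this.symm
    obtain ⟨M, hM, hM1, hMA⟩ := exists_normal_le_of_center_ne_bot A B hAB hZ _ hKn hAK hKne
    exact (hcon M hM hM1).1 hMA
  have hexB : ∃ b ∈ B, N ⊓ Subgroup.centralizer {b} = ⊥ := by
    by_contra hno
    push Not at hno
    have hBK : B ≤ Subgroup.centralizer (N : Set G) := by
      intro b hb
      rcases hdich b with h | h
      · exact absurd h (hno b hb)
      · rw [Subgroup.mem_centralizer_iff]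
        intro n hn
        have := Subgroup.mem_centralizer_iff.mp (h hn) b (Set.mem_singleton b)
        exact this.symm
    obtain ⟨M, hM, hM1, hMB⟩ := exists_normal_le_of_center_ne_bot B A hBA hZ _ hKn hBK hKne
    exact (hcon M hM hM1).2 hMB
  obtain ⟨a, ha, ha0⟩ := hexA
  obtain ⟨b, hb, hb0⟩ := hexB
  exact false_of_config A B hAB hZ N hN hN1 hVK hexp hpel a ha ha0 b hb hb0

end Cfsg.Agent.S0573
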