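import Cfsg.Statements.S0571
import Cfsg.Agent.Lib.Helper9.Supersolvable
import Cfsg.Agent.Lib.Helper9.SupersolvablePrime
import Cfsg.Agent.Lib.Helper9.SupersolvableTwoP
import Cfsg.Agent.S0573

set_option autoImplicit false
open Cfsg

namespace Cfsg.Agent.S0571

open Cfsg.Agent.Helper9

universe u

theorem main_aux : ∀ (n : ℕ) (G : Type u) [Group G] [Finite G], Nat.card G = n →
    ∀ (A B : Subgroup G) [IsCyclic A] [IsCyclic B],
      (∀ g : G, ∃ a ∈ A, ∃ b ∈ B, g = a * b) → Cfsg.IsSupersolvable G := by
  intro n
  induction n using Nat.strong_induction_on with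
  | _ n ih =>
    intro G _ _ hcard A B _ _ hAB
    by_cases hsub : Subsingleton G
    · exact isSupersolvable_of_subsingleton
    rw [not_subsingleton_iff_nontrivial] at hsub
    obtain ⟨N, hNn, hN1, hNAB⟩ := Cfsg.Agent.S0573.result A B hAB
    have hNc : IsCyclic N := by
      rcases hNAB with h | h
      · exact Subgroup.isCyclic_of_le h
      · exact Subgroup.isCyclic_of_le h
    have hN1' : 1 < Nat.card N := by
      rcases Nat.lt_or_ge 1 (Nat.card N) with h | h
      · exact h
      · exfalso
        have : Nat.card N = 1 := le_antisymm h Nat.card_pos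
        exact hN1 (Subgroup.card_eq_one.mp this)
    have hlt : Nat.card (G ⧸ N) < n := by
      rw [← hcard]; exact card_quotient_lt N hN1'
    set f : G →* G ⧸ N := QuotientGroup.mk' N with hf
    have hA' : IsCyclic (A.map f) :=
      isCyclic_of_surjective (f.subgroupMap A) (f.subgroupMap_surjective A)
    have hB' : IsCyclic (B.map f) :=
      isCyclic_of_surjective (f.subgroupMap B) (f.subgroupMap_surjective B)
    have hAB' : ∀ g : G ⧸ N, ∃ a ∈ A.map f, ∃ b ∈ B.map f, g = a * b := by
      intro g
      obtain ⟨g, rfl⟩ := QuotientGroup.mk'_surjective N g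
      obtain ⟨a, ha, b, hb, rfl⟩ := hAB g
      exact ⟨f a, Subgroup.mem_map_of_mem f ha, f b, Subgroup.mem_map_of_mem f hb, map_mul f a b⟩
    have hQ : Cfsg.IsSupersolvable (G ⧸ N) := ih _ hlt (G ⧸ N) rfl (A.map f) (B.map f) hAB'
    exact isSupersolvable_of_cyclic_normal_of_quotient N hQ

/-- If a finite group G is the product AB of two cyclic subgroups (every element is a product ab), then G is supersolvable. -/
theorem result {G : Type*} [Group G] [Finite G] (A B : Subgroup G) [IsCyclic A] [IsCyclic B] (hAB : ∀ g : G, ∃ a ∈ A, ∃ b ∈ B, g = a * b) : Cfsg.IsSupersolvable G := by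
  exact main_aux (Nat.card G) G rfl A B hAB

end Cfsg.Agent.S0571
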