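import Cfsg.Statements.S0574
import Cfsg.Agent.Lib.Helper70.AbCl2C

set_option autoImplicit false
open Cfsg

namespace Cfsg.Agent.S0574

open scoped commutatorElement

/-- Let the finite group G be the product AB of an abelian subgroup A and a subgroup B of nilpotency class at most two, and let Ω be the number of prime factors, with multiplicity, of the order of the commutator subgroup of B. Then the term of index 2(1 + Ω) of the derived series of G is trivial. -/
theorem result {G : Type*} [Group G] [Finite G] (A B : Subgroup G) [IsMulCommutative A] (hB : commutator ↥B ≤ Subgroup.center ↥B) (hAB : ∀ g : G, ∃ a ∈ A, ∃ b ∈ B, g = a * b) : derivedSeries G (2 * (1 + (Nat.card ↥(commutator ↥B)).primeFactorsList.length)) = ⊥ := by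
  have hF : Cfsg.Agent.Helper70.AbCl2.Fac A B := by
    refine ⟨?_, hAB, ?_⟩
    · intro x hx y hy
      have := (IsMulCommutative.is_comm (M := A)).comm ⟨x, hx⟩ ⟨y, hy⟩
      exact congrArg Subtype.val this
    · intro x hx y hy t ht
      have h1 : ⁅(⟨x, hx⟩ : B), (⟨y, hy⟩ : B)⁆ ∈ commutator ↥B := by
        rw [_root_.commutator_def]
        exact Subgroup.commutator_mem_commutator (Subgroup.mem_top _) (Subgroup.mem_top _)
      have h2 := hB h1
      rw [Subgroup.mem_center_iff] at h2
      have h3 := h2 ⟨t, ht⟩
      have h4 := congrArg Subtype.val h3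
      simp only [commutatorElement_def] at h4 ⊢
      simpa using h4.symm
  have hcard : Nat.card ↥(commutator ↥B) = Nat.card ↥⁅B, B⁆ := by
    rw [← Subgroup.map_subtype_commutator B]
    exact (Subgroup.card_map_of_injective B.subtype_injective).symm
  rw [hcard]
  exact Cfsg.Agent.Helper70.AbCl2.main_aux _ G A B hF le_rfl

end Cfsg.Agent.S0574
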