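import Cfsg.Statements.S0576
import Cfsg.Agent.Lib.Helper10.Frattini

set_option autoImplicit false
open Cfsg

namespace Cfsg.Agent.S0576

open Cfsg.Agent.Helper10

lemma conj_range_normal (H : Type*) [Group H] : ((MulAut.conj : H →* MulAut H).range).Normal := by
  constructor
  rintro _ ⟨h, rfl⟩ φ
  refine ⟨φ h, ?_⟩
  ext x
  simp [MulAut.conj_apply]

/-- Let H be a normal subgroup of a finite group G with H contained in the Frattini subgroup of G. Then the group of inner automorphisms of H is contained in the Frattini subgroup of the automorphism group of H. -/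
theorem result {G : Type*} [Group G] [Finite G] (H : Subgroup G) [H.Normal] (hH : H ≤ frattini G) : (MulAut.conj : ↥H →* MulAut ↥H).range ≤ frattini (MulAut ↥H) := by
  haveI := conj_range_normal H
  set I := (MulAut.conj : ↥H →* MulAut ↥H).range with hI
  let ψ : G →* MulAut H := MulAut.conjNormal
  have hψ : ∀ h : H, ψ (h : G) = MulAut.conj h := fun h => MulAut.conjNormal_val
  unfold frattini Order.radical
  rw [le_iInf₂_iff]
  intro M hM
  by_contra hIM
  have htop : I ⊔ M = ⊤ := sup_eq_top_of_isCoatom_of_not_le hM hIM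
  have hK : M.comap ψ ⊔ frattini G = ⊤ := by
    rw [eq_top_iff]
    intro g _
    have hg : ψ g ∈ ((I ⊔ M : Subgroup (MulAut H)) : Set (MulAut H)) := by
      rw [htop]; trivial
    rw [Subgroup.normal_mul] at hg
    obtain ⟨_, ⟨h, rfl⟩, m, hm, hgm⟩ := hg
    have h1 : ((h : G))⁻¹ * g ∈ M.comap ψ := by
      rw [Subgroup.mem_comap, map_mul, map_inv, hψ, ← hgm]
      simpa using hm
    have h2 : g = (((h : G))⁻¹ * g) * (g⁻¹ * h * g) := by group
    rw [h2]
    apply Subgroup.mul_mem _ (Subgroup.mem_sup_left h1)
    apply Subgroup.mem_sup_right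
    apply hH
    have := (inferInstance : H.Normal).conj_mem h h.2 g⁻¹
    simpa using this
  have hK' := frattini_nongenerating hK
  apply hIM
  rintro _ ⟨h, rfl⟩
  rw [← hψ]
  have : (h : G) ∈ M.comap ψ := by rw [hK']; trivial
  exact this

end Cfsg.Agent.S0576
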