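import Cfsg.Statements.S0577
import Mathlib
import Cfsg.Agent.Lib.Helper90.MinNonNilp
import Cfsg.Agent.S0011
import Cfsg.Agent.S0012
import Cfsg.Agent.Lib.Helper10.Frattini

set_option autoImplicit false
open Cfsg

namespace Cfsg.Agent.S0577

/-- Let G be a finite minimal non-nilpotent group and Q a normal Sylow q-subgroup of G, and let D be the commutator subgroup of Q regarded in G (a normal subgroup). Then G modulo D is non-abelian and all its proper subgroups are abelian. -/
theorem result {G : Type*} [Group G] [Finite G] (hG : Cfsg.IsMinimalNonNilpotent G) (q : ℕ) [Fact q.Prime] (hq : q ∣ Nat.card G) (Q : Sylow q G) (hQ : (Q : Subgroup G).Normal) (D : Subgroup G) [D.Normal] (hD : D = (commutator ↥(Q : Subgroup G)).map (Q : Subgroup G).subtype) : ¬ IsMulCommutative (G ⧸ D) ∧ ∀ K : Subgroup (G ⧸ D), K ≠ ⊤ → IsMulCommutative K := by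
  have hDQQ : D = ⁅(Q : Subgroup G), (Q : Subgroup G)⁆ := by
    rw [hD, Subgroup.map_subtype_commutator]
  have hDQ : D ≤ Q := hD ▸ Subgroup.map_subtype_le _
  have hcomm := Cfsg.Agent.Helper90.commutator_mem_sylow_of_isMinimalNonNilpotent hG q hq Q hQ
  constructor
  · intro hc
    apply hG.1
    apply Cfsg.Agent.S0011.result
    have hDfrat : D ≤ frattini G := by
      apply Cfsg.Agent.Helper10.le_frattini_of_normal_of_le_map_frattini D (Q : Subgroup G)
      rw [hD]
      exact Subgroup.map_mono (Cfsg.Agent.S0012.result q Q.2).1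
    have hnil : Group.IsNilpotent (G ⧸ D) := by
      letI : CommGroup (G ⧸ D) :=
        { (inferInstance : Group (G ⧸ D)) with mul_comm := hc.is_comm.comm }
      exact CommGroup.isNilpotent
    have hψ : Function.Surjective
        (QuotientGroup.map D (frattini G) (MonoidHom.id G) (by simpa using hDfrat)) := by
      intro x
      induction x using QuotientGroup.induction_on with
      | H g => exact ⟨(g : G ⧸ D), rfl⟩
    exact Group.nilpotent_of_surjective _ hψ
  · intro K hK
    have hK' : K.comap (QuotientGroup.mk' D) ≠ ⊤ := by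
      intro h
      apply hK
      have := Subgroup.map_comap_eq_self_of_surjective (QuotientGroup.mk'_surjective D) K
      rw [h, Subgroup.map_top_of_surjective _ (QuotientGroup.mk'_surjective D)] at this
      exact this.symm
    have hnil' : Group.IsNilpotent ↥(K.comap (QuotientGroup.mk' D)) := hG.2 _ hK'
    have hnilK : Group.IsNilpotent K :=
      Group.nilpotent_of_surjective ((QuotientGroup.mk' D).subgroupComap K)
        (MonoidHom.subgroupComap_surjective_of_surjective _ K (QuotientGroup.mk'_surjective D))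
    have hsyl : ∀ (r : ℕ) [Fact r.Prime] (P : Sylow r K), ∀ a ∈ (P : Subgroup K),
        ∀ b ∈ (P : Subgroup K), a * b = b * a := by
      intro r hr P a ha b hb
      obtain ⟨a', ha'⟩ := QuotientGroup.mk'_surjective D (a : G ⧸ D)
      obtain ⟨b', hb'⟩ := QuotientGroup.mk'_surjective D (b : G ⧸ D)
      by_cases hrq : r = q
      · subst hrq
        have hunique : Subsingleton (Sylow r G) :=
          (Sylow.unique_of_normal Q hQ).instSubsingleton
        have hmemQ : ∀ (c : K) (c' : G), c ∈ (P : Subgroup K) → QuotientGroup.mk' D c' = (c : G ⧸ D) →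
            c' ∈ (Q : Subgroup G) := by
          intro c c' hc hc'
          obtain ⟨k, hk⟩ := P.2 ⟨c, hc⟩
          have hk' : (c : G ⧸ D) ^ r ^ k = 1 := by
            have := congrArg (fun z : (P : Subgroup K) => ((z : K) : G ⧸ D)) hk
            simpa using this
          rw [← hc', ← map_pow, QuotientGroup.mk'_apply, QuotientGroup.eq_one_iff] at hk'
          obtain ⟨j, hj⟩ := Q.2 ⟨c' ^ r ^ k, hDQ hk'⟩
          have hj' : (c' ^ r ^ k) ^ r ^ j = 1 := by
            simpa using congrArg Subtype.val hj
          have hpg : IsPGroup r (Subgroup.zpowers c') := by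
            rintro ⟨z, hz⟩
            obtain ⟨n, rfl⟩ := Subgroup.mem_zpowers_iff.mp hz
            refine ⟨k + j, Subtype.ext ?_⟩
            show (c' ^ n) ^ r ^ (k + j) = 1
            rw [← zpow_natCast, ← zpow_mul, mul_comm, zpow_mul, zpow_natCast, pow_add, pow_mul, hj',
              one_zpow]
          obtain ⟨Q', hQ'⟩ := hpg.exists_le_sylow
          rw [Subsingleton.elim Q' Q] at hQ'
          exact hQ' (Subgroup.mem_zpowers c')
        have haQ := hmemQ a a' ha ha'
        have hbQ := hmemQ b b' hb hb'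
        have hcD : a' * b' * a'⁻¹ * b'⁻¹ ∈ D := by
          rw [hDQQ, ← commutatorElement_def]
          exact Subgroup.commutator_mem_commutator haQ hbQ
        apply Subtype.ext
        rw [Subgroup.coe_mul, Subgroup.coe_mul, ← ha', ← hb', ← map_mul, ← map_mul,
          QuotientGroup.mk'_apply, QuotientGroup.mk'_apply, QuotientGroup.eq]
        have : (a' * b')⁻¹ * (b' * a') = b'⁻¹ * a'⁻¹ * b'⁻¹⁻¹ * a'⁻¹⁻¹ := by group
        rw [this, hDQQ, ← commutatorElement_def]
        exact Subgroup.commutator_mem_commutator (Subgroup.inv_mem _ hbQ) (Subgroup.inv_mem _ haQ)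
      · have hcQ : a' * b' * a'⁻¹ * b'⁻¹ ∈ (Q : Subgroup G) := hcomm a' b'
        obtain ⟨j, hj⟩ := Q.2 ⟨_, hcQ⟩
        have hj' : (a' * b' * a'⁻¹ * b'⁻¹) ^ q ^ j = 1 := by
          simpa using congrArg Subtype.val hj
        have hePm : a * b * a⁻¹ * b⁻¹ ∈ (P : Subgroup K) :=
          Subgroup.mul_mem _ (Subgroup.mul_mem _ (Subgroup.mul_mem _ ha hb) (Subgroup.inv_mem _ ha))
            (Subgroup.inv_mem _ hb)
        obtain ⟨k, hk⟩ := P.2 ⟨_, hePm⟩
        have hk' : (a * b * a⁻¹ * b⁻¹) ^ r ^ k = 1 := by
          simpa using congrArg Subtype.val hk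
        have hj'' : (a * b * a⁻¹ * b⁻¹) ^ q ^ j = 1 := by
          apply Subtype.ext
          have h1 := congrArg (QuotientGroup.mk' D) hj'
          rw [map_pow, map_mul, map_mul, map_mul, map_inv, map_inv, ha', hb', map_one] at h1
          simpa using h1
        have h1 : orderOf (a * b * a⁻¹ * b⁻¹) ∣ r ^ k := orderOf_dvd_of_pow_eq_one hk'
        have h2 : orderOf (a * b * a⁻¹ * b⁻¹) ∣ q ^ j := orderOf_dvd_of_pow_eq_one hj''
        have hcop : (r ^ k).Coprime (q ^ j) :=
          Nat.Coprime.pow k j ((Nat.coprime_primes hr.out (Fact.out : q.Prime)).mpr hrq)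
        have h3 : orderOf (a * b * a⁻¹ * b⁻¹) = 1 :=
          Nat.Coprime.eq_one_of_dvd (Nat.Coprime.coprime_dvd_left h1 hcop) h2
        rw [orderOf_eq_one_iff] at h3
        calc a * b = (a * b * a⁻¹ * b⁻¹) * b * a := by group
          _ = b * a := by rw [h3, one_mul]
    have e := Sylow.directProductOfNormal (G := K) (fun {p} _ P => inferInstance)
    refine ⟨⟨fun x y => ?_⟩⟩
    obtain ⟨f, rfl⟩ := e.surjective x
    obtain ⟨g, rfl⟩ := e.surjective y
    rw [← map_mul, ← map_mul]
    congr 1
    funext p P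
    apply Subtype.ext
    have := Fact.mk (Nat.prime_of_mem_primeFactors p.2)
    exact hsyl p P _ (f p P).2 _ (g p P).2

end Cfsg.Agent.S0577
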