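import Mathlib
import Cfsg.Statements.S0578

set_option autoImplicit false
open Cfsg

namespace Cfsg.Agent.S0578

open scoped commutatorElement

variable {G : Type*} [Group G]

/-- `A ⊔ ⟨x⟩` is abelian if `A` is abelian and `x` centralizes `A`. -/
lemma isMulCommutative_sup_zpowers {A : Subgroup G} (hA : IsMulCommutative A) {x : G}
    (hx : x ∈ Subgroup.centralizer (A : Set G)) : IsMulCommutative (A ⊔ Subgroup.zpowers x : Subgroup G) := by
  have h1 : (A ⊔ Subgroup.zpowers x : Subgroup G) = Subgroup.closure ((A : Set G) ∪ {x}) := by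
    rw [Subgroup.closure_union, Subgroup.closure_eq, Subgroup.zpowers_eq_closure]
  rw [h1]
  apply Subgroup.isMulCommutative_closure
  intro a ha b hb
  rcases ha with ha | ha <;> rcases hb with hb | hb
  · exact setLike_mul_comm ha hb
  · rw [Set.mem_singleton_iff] at hb; subst hb
    exact (hx a ha)
  · rw [Set.mem_singleton_iff] at ha; subst ha
    exact (hx b hb).symm
  · rw [Set.mem_singleton_iff] at ha hb; subst ha; subst hb; rfl

/-- A nilpotent subgroup in which normalizers of abelian subgroups are their centralizers is abelian. -/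
lemma isMulCommutative_of_nilpotent [Finite G] (P : Subgroup G) [hnil : Group.IsNilpotent P]
    (h : ∀ A : Subgroup G, IsMulCommutative A →
      Subgroup.normalizer (A : Set G) = Subgroup.centralizer (A : Set G)) : IsMulCommutative P := by
  classical
  have hfin : Set.Finite {A : Subgroup G | A ≤ P ∧ IsMulCommutative A} := Set.toFinite _
  have hne : {A : Subgroup G | A ≤ P ∧ IsMulCommutative A}.Nonempty :=
    ⟨⊥, bot_le, inferInstance⟩
  obtain ⟨A, ⟨hAP, hAab⟩, hmax⟩ := Set.exists_max_image _ (fun K : Subgroup G => Nat.card K) hfin hne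
  by_cases hAeq : A = P
  · rw [← hAeq]; exact hAab
  exfalso
  have hlt : A.subgroupOf P < ⊤ := by
    rw [lt_top_iff_ne_top, Ne, Subgroup.subgroupOf_eq_top]
    intro hPA
    exact hAeq (le_antisymm hAP hPA)
  have h2 := Group.normalizerCondition_of_isNilpotent (A.subgroupOf P) hlt
  obtain ⟨x, hxN, hxA⟩ := SetLike.exists_of_lt h2
  rw [← Subgroup.subgroupOf_normalizer_eq hAP, Subgroup.mem_subgroupOf] at hxN
  rw [Subgroup.mem_subgroupOf] at hxA
  rw [h A hAab] at hxN
  have hB := isMulCommutative_sup_zpowers hAab hxN
  have hBP : A ⊔ Subgroup.zpowers (x : G) ≤ P :=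
    sup_le hAP (by rw [Subgroup.zpowers_le]; exact x.2)
  have hcard := hmax _ ⟨hBP, hB⟩
  have hEq : A = A ⊔ Subgroup.zpowers (x : G) :=
    Subgroup.eq_of_le_of_card_ge le_sup_left hcard
  apply hxA
  rw [hEq]
  exact Subgroup.mem_sup_right (Subgroup.mem_zpowers _)

/-- If in a finite group the normalizer of each abelian subgroup coincides with its centralizer, then the group is abelian. -/
theorem result {G : Type*} [Group G] [Finite G] (h : ∀ A : Subgroup G, IsMulCommutative A → Subgroup.normalizer (A : Set G) = Subgroup.centralizer (A : Set G)) : IsMulCommutative G := by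
  have hcard : Nat.card (commutator G) = 1 := by
    rw [Nat.eq_one_iff_not_exists_prime_dvd]
    intro p hp hdvd
    haveI : Fact p.Prime := ⟨hp⟩
    obtain ⟨P⟩ : Nonempty (Sylow p G) := inferInstance
    haveI : Group.IsNilpotent P := P.2.isNilpotent
    have hPab : IsMulCommutative P := isMulCommutative_of_nilpotent (P : Subgroup G) h
    have hP : Subgroup.normalizer ((P : Subgroup G) : Set G) ≤ Subgroup.centralizer ((P : Subgroup G) : Set G) :=
      (h P hPab).le
    have hker : commutator G ≤ (MonoidHom.transferSylow P hP).ker := by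
      rw [commutator_def, Subgroup.commutator_le]
      intro a _ b _
      rw [MonoidHom.mem_ker, map_commutatorElement, commutatorElement_eq_one_iff_commute]
      exact mul_comm' _ _
    exact MonoidHom.not_dvd_card_ker_transferSylow P hP (hdvd.trans (Subgroup.card_dvd_of_le hker))
  rw [Subgroup.card_eq_one] at hcard
  constructor
  constructor
  intro a b
  have : ⁅a, b⁆ ∈ commutator G := by
    rw [commutator_def]
    exact Subgroup.commutator_mem_commutator (Subgroup.mem_top a) (Subgroup.mem_top b)
  rw [hcard, Subgroup.mem_bot, commutatorElement_eq_one_iff_mul_comm] at this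
  exact this

end Cfsg.Agent.S0578
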