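import Cfsg.Statements.S0580
import Mathlib

set_option autoImplicit false
open Cfsg

namespace Cfsg.Agent.S0580

universe u

/-- If all maximal subgroups have prime index, the Sylow subgroup for the largest prime is normal. -/
lemma sylow_normal_of_max {G : Type u} [Group G] [Finite G]
    (h : ∀ M : Subgroup G, IsCoatom M → M.index.Prime) (p : ℕ) [hp : Fact p.Prime]
    (hmax : ∀ q : ℕ, q.Prime → q ∣ Nat.card G → q ≤ p) (P : Sylow p G) :
    (P : Subgroup G).Normal := by
  rw [← Subgroup.normalizer_eq_top_iff]
  by_contra hne
  obtain ⟨M, hM, hNM⟩ := (eq_top_or_exists_le_coatom (Subgroup.normalizer ((P : Subgroup G) : Set G))).resolve_left hne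
  have hPM : (P : Subgroup G) ≤ M := Subgroup.le_normalizer.trans hNM
  have hq := h M hM
  -- Sylow counting in G and in M
  have h1 : Nat.card (Sylow p G) ≡ 1 [MOD p] := card_sylow_modEq_one p G
  have h2 : Nat.card (Sylow p M) ≡ 1 [MOD p] := card_sylow_modEq_one p M
  rw [Sylow.card_eq_index_normalizer P] at h1
  rw [Sylow.card_eq_index_normalizer (P.subtype hPM)] at h2
  have h2'' : (Subgroup.normalizer (((P : Subgroup G).subgroupOf M : Subgroup M) : Set M)).index ≡ 1 [MOD p] := h2
  rw [← Subgroup.subgroupOf_normalizer_eq hPM] at h2''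
  have h3 : (Subgroup.normalizer ((P : Subgroup G) : Set G)).relIndex M * M.index =
      (Subgroup.normalizer ((P : Subgroup G) : Set G)).index := Subgroup.relIndex_mul_index hNM
  have h2' : (Subgroup.normalizer ((P : Subgroup G) : Set G)).relIndex M ≡ 1 [MOD p] := h2''
  have h4 : M.index ≡ 1 [MOD p] := by
    have := (h2'.mul_right M.index)
    rw [h3, one_mul] at this
    exact this.symm.trans h1
  have hqle : M.index ≤ p := hmax _ hq (Subgroup.index_dvd_card M)
  have hp2 := hp.out.two_le
  have hq2 := hq.two_le
  unfold Nat.ModEq at h4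
  rw [Nat.mod_eq_of_lt (by omega : 1 < p)] at h4
  rcases Nat.lt_or_eq_of_le hqle with hlt | heq
  · rw [Nat.mod_eq_of_lt hlt] at h4
    omega
  · rw [heq, Nat.mod_self] at h4
    omega

theorem main : ∀ (n : ℕ) (G : Type u) [Group G] [Finite G], Nat.card G = n →
    (∀ M : Subgroup G, IsCoatom M → M.index.Prime) → Group.IsSolvable G := by
  intro n
  induction n using Nat.strong_induction_on with
  | _ n ih =>
    intro G _ _ hcard h
    by_cases h1 : Nat.card G = 1
    · haveI : Subsingleton G := (Nat.card_eq_one_iff_unique.mp h1).1
      infer_instance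
    · -- largest prime divisor
      have hne : (Nat.card G).primeFactors.Nonempty := by
        rw [Nat.nonempty_primeFactors]
        have := Nat.card_pos (α := G)
        omega
      set p := (Nat.card G).primeFactors.max' hne with hp
      have hpmem : p ∈ (Nat.card G).primeFactors := Finset.max'_mem _ _
      have hpprime : p.Prime := Nat.prime_of_mem_primeFactors hpmem
      have hpdvd : p ∣ Nat.card G := Nat.dvd_of_mem_primeFactors hpmem
      haveI : Fact p.Prime := ⟨hpprime⟩
      have hmax : ∀ q : ℕ, q.Prime → q ∣ Nat.card G → q ≤ p := by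
        intro q hq hqd
        apply Finset.le_max'
        exact Nat.mem_primeFactors.mpr ⟨hq, hqd, Nat.card_pos.ne'⟩
      obtain ⟨P⟩ : Nonempty (Sylow p G) := inferInstance
      haveI hPn : (P : Subgroup G).Normal := sylow_normal_of_max h p hmax P
      haveI : Group.IsSolvable (P : Subgroup G) := by
        haveI := P.2.isNilpotent
        infer_instance
      have hPne : (P : Subgroup G) ≠ ⊥ := P.ne_bot_of_dvd_card hpdvd
      have hlt : Nat.card (G ⧸ (P : Subgroup G)) < n := by
        rw [← hcard, ← Subgroup.index_eq_card]
        have h2 := Subgroup.card_mul_index (P : Subgroup G)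
        have h3 : 1 < Nat.card (P : Subgroup G) := (P : Subgroup G).one_lt_card_iff_ne_bot.mpr hPne
        have h4 : 0 < (P : Subgroup G).index := Nat.pos_of_ne_zero Subgroup.index_ne_zero_of_finite
        nlinarith
      haveI : Group.IsSolvable (G ⧸ (P : Subgroup G)) := by
        apply ih _ hlt (G ⧸ (P : Subgroup G)) rfl
        intro Mq hMq
        have hsurj := QuotientGroup.mk'_surjective (P : Subgroup G)
        have := h _ (Subgroup.isCoatom_comap_of_surjective hsurj hMq)
        rwa [Subgroup.index_comap_of_surjective _ hsurj] at this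
      apply Group.isSolvable_of_ker_le_range (P : Subgroup G).subtype (QuotientGroup.mk' (P : Subgroup G))
      rw [QuotientGroup.ker_mk', Subgroup.range_subtype]

/-- If every maximal subgroup of a finite group has prime index, then the group is solvable. -/
theorem result {G : Type*} [Group G] [Finite G] (h : ∀ M : Subgroup G, IsCoatom M → M.index.Prime) : Group.IsSolvable G := by
  exact main (Nat.card G) G rfl h

end Cfsg.Agent.S0580
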