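import Cfsg.Statements.S0579
import Cfsg.Agent.S0580
import Cfsg.Agent.Lib.Helper49.Huppert
import Cfsg.Agent.Lib.Helper62.MinNormal

set_option autoImplicit false
open Cfsg

namespace Cfsg.Agent.S0579

open Cfsg.Agent.Helper9 Cfsg.Agent.Helper49
open scoped Pointwise

universe u

theorem main : ∀ (n : ℕ) (G : Type u) [Group G] [Finite G], Nat.card G = n →
    (∀ M : Subgroup G, IsCoatom M → M.index.Prime) → Cfsg.IsSupersolvable G := by
  intro n
  induction n using Nat.strong_induction_on with
  | _ n ih =>
    intro G _ _ hcard h
    by_cases hsub : Subsingleton G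
    · exact isSupersolvable_of_subsingleton
    rw [not_subsingleton_iff_nontrivial] at hsub
    have hc1 : 1 < Nat.card G := Finite.one_lt_card
    obtain ⟨p, hpmem, hpmax⟩ := Finset.exists_max_image (Nat.card G).primeFactors id
      (Nat.nonempty_primeFactors.mpr hc1)
    have hpp : p.Prime := Nat.prime_of_mem_primeFactors hpmem
    have hpd : p ∣ Nat.card G := Nat.dvd_of_mem_primeFactors hpmem
    have hmax : ∀ q : ℕ, q.Prime → q ∣ Nat.card G → q ≤ p := fun q hq hqd =>
      hpmax q (Nat.mem_primeFactors.mpr ⟨hq, hqd, Nat.card_pos.ne'⟩)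
    haveI : Fact p.Prime := ⟨hpp⟩
    let P : Sylow p G := default
    have hPn : (P : Subgroup G).Normal := Cfsg.Agent.S0580.sylow_normal_of_max h p hmax P
    haveI := hPn
    have hPcard : 1 < Nat.card (P : Subgroup G) := by
      rw [P.card_eq_multiplicity]
      exact Nat.one_lt_pow (hpp.factorization_pos_of_dvd Nat.card_pos.ne' hpd).ne' hpp.one_lt
    haveI : Nontrivial (P : Subgroup G) := Finite.one_lt_card_iff_nontrivial.mp hPcard
    haveI : Nontrivial (Subgroup.center (P : Subgroup G)) := P.isPGroup'.center_nontrivial
    set Z : Subgroup G := (Subgroup.center (P : Subgroup G)).map (P : Subgroup G).subtype with hZ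
    have hZn : Z.Normal := inferInstance
    have hZne : Z ≠ ⊥ := by
      rw [hZ, Ne, Subgroup.map_eq_bot_iff_of_injective _ (Subgroup.subtype_injective _)]
      exact (Subgroup.nontrivial_iff_ne_bot _).mp inferInstance
    obtain ⟨N, ⟨hNn, hNne, hNmin⟩, hNZ⟩ := Cfsg.Agent.Helper62.exists_isMinNormal_le Z hZn hZne
    haveI := hNn
    have hZP : Z ≤ (P : Subgroup G) := Subgroup.map_subtype_le _
    have hNP : N ≤ (P : Subgroup G) := hNZ.trans hZP
    have hNcent : ∀ x ∈ N, ∀ y ∈ (P : Subgroup G), x * y = y * x := by
      intro x hx y hy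
      obtain ⟨z, hz, rfl⟩ := Subgroup.mem_map.mp (hNZ hx)
      have := Subgroup.mem_center_iff.mp hz ⟨y, hy⟩
      exact (congrArg Subtype.val this).symm
    -- the quotient is supersolvable by induction
    have hN1' : 1 < Nat.card N := by
      rcases Nat.lt_or_ge 1 (Nat.card N) with h1 | h1
      · exact h1
      · exfalso
        have : Nat.card N = 1 := le_antisymm h1 Nat.card_pos
        exact hNne (Subgroup.card_eq_one.mp this)
    have hlt : Nat.card (G ⧸ N) < n := by
      rw [← hcard]; exact card_quotient_lt N hN1'
    have hQss : Cfsg.IsSupersolvable (G ⧸ N) := by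
      apply ih _ hlt (G ⧸ N) rfl
      intro Mq hMq
      have hsurj := QuotientGroup.mk'_surjective N
      have := h _ (Subgroup.isCoatom_comap_of_surjective hsurj hMq)
      rwa [Subgroup.index_comap_of_surjective _ hsurj] at this
    -- `N` has prime order
    have hNprime : (Nat.card N).Prime := by
      by_cases hfr : ∃ M : Subgroup G, IsCoatom M ∧ ¬ N ≤ M
      · obtain ⟨L, hLco, hNL⟩ := hfr
        have hLp : L.index.Prime := h L hLco
        have hLN : L ⊔ N = ⊤ := index_prime_sup_eq_top hLp hNL
        have hDn : (L ⊓ N).Normal := by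
          constructor
          intro x hx g
          have hg : g ∈ ((L ⊔ N : Subgroup G) : Set G) := by rw [hLN]; trivial
          rw [Subgroup.mul_normal] at hg
          obtain ⟨l, hl, y, hy, rfl⟩ := Set.mem_mul.mp hg
          have h1 : l * y * x * (l * y)⁻¹ = l * x * l⁻¹ := by
            rw [mul_inv_rev, mul_assoc l y x, ← hNcent x hx.2 y (hNP hy)]; group
          rw [h1]
          exact ⟨L.mul_mem (L.mul_mem hl hx.1) (L.inv_mem hl), hNn.conj_mem x hx.2 l⟩
        rcases hNmin (L ⊓ N) hDn inf_le_right with h0 | h0
        · have hdis : Disjoint N L := by rw [disjoint_iff, inf_comm]; exact h0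
          have hmul : ((N : Set G) * (L : Set G)) = Set.univ := by
            rw [← Subgroup.normal_mul, sup_comm, hLN]; rfl
          have hcomp : N.IsComplement' L :=
            Subgroup.isComplement'_of_disjoint_and_mul_eq_univ hdis hmul
          rw [← hcomp.index_eq_card]
          exact hLp
        · exfalso
          exact hNL (h0 ▸ inf_le_left)
      · push Not at hfr
        have hnongen : ∀ X : Subgroup G, X ⊔ N = ⊤ → X = ⊤ := by
          intro X hX
          by_contra hne
          obtain ⟨M, hM, hXM⟩ := (eq_top_or_exists_le_coatom X).resolve_left hne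
          have : X ⊔ N ≤ M := sup_le hXM (hfr M hM)
          rw [hX] at this
          exact hM.1 (top_le_iff.mp this)
        have hPi : (P : Subgroup G).index.Coprime p := by
          rw [Nat.coprime_comm, Nat.Prime.coprime_iff_not_dvd hpp]
          exact P.not_dvd_index
        have := card_eq_prime_of_frattini_minNormal p (P : Subgroup G) N P.isPGroup' hPi hNP
          hNcent hNne hNmin hnongen hQss
        rw [this]
        exact hpp
    haveI : IsCyclic N := isCyclic_of_prime_card rfl (hp := ⟨hNprime⟩)
    exact isSupersolvable_of_cyclic_normal_of_quotient N hQss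

/-- Huppert's supersolvability criterion: if every maximal subgroup of a finite group has prime index, then the group is supersolvable. -/
theorem result {G : Type*} [Group G] [Finite G] (h : ∀ M : Subgroup G, IsCoatom M → M.index.Prime) : Cfsg.IsSupersolvable G := by
  exact main (Nat.card G) G rfl h

end Cfsg.Agent.S0579
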