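import Cfsg.Statements.S0582
import Cfsg.Agent.Lib.Helper9.Supersolvable
import Cfsg.Agent.Lib.Helper9.SupersolvablePrime
import Cfsg.Agent.Lib.Helper9.SupersolvableCLT
import Cfsg.Agent.Lib.Helper9.SupersolvableChain

set_option autoImplicit false
open Pointwise
open Cfsg

namespace Cfsg.Agent.S0582

open Cfsg.Agent.Helper9

universe u

/-- A finite supersolvable group has a normal Sylow subgroup for its largest prime. -/
theorem exists_normal_sylow_aux : ∀ (n : ℕ) (L : Type u) [Group L] [Finite L],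
    Nat.card L = n → Cfsg.IsSupersolvable L → ∀ p : ℕ, p.Prime →
    (∀ q : ℕ, q.Prime → q ∣ Nat.card L → q ≤ p) →
    ∃ P : Subgroup L, P.Normal ∧ Nat.card P = p ^ (Nat.card L).factorization p := by
  intro n
  induction n using Nat.strong_induction_on with
  | _ n ih =>
    intro L _ _ hcard hL p hp hmax
    by_cases hpd : p ∣ Nat.card L
    · obtain ⟨C, hCn, hCp⟩ :=
        exists_normal_card_eq_max_prime_aux (Nat.card L) L rfl hL p hp hpd hmax
      have := hCn
      have hcardL := Subgroup.card_eq_card_quotient_mul_card_subgroup C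
      have hlt : Nat.card (L ⧸ C) < n := by
        rw [← hcard]; exact card_quotient_lt C (by rw [hCp]; exact hp.one_lt)
      have hmaxQ : ∀ r : ℕ, r.Prime → r ∣ Nat.card (L ⧸ C) → r ≤ p := by
        intro r hr hrd
        exact hmax r hr (hcardL ▸ (hrd.trans (dvd_mul_right _ _)))
      obtain ⟨Pbar, hPn, hPc⟩ := ih _ hlt (L ⧸ C) rfl (isSupersolvable_quotient hL C) p hp hmaxQ
      refine ⟨Pbar.comap (QuotientGroup.mk' C), hPn.comap _, ?_⟩
      rw [card_comap_mk', hPc, hCp, hcardL, hCp,
        Nat.factorization_mul Nat.card_pos.ne' hp.ne_zero, Finsupp.add_apply,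
        hp.factorization_self, pow_succ]
    · refine ⟨⊥, inferInstance, ?_⟩
      rw [Nat.factorization_eq_zero_of_not_dvd hpd, pow_zero]
      exact Subgroup.card_bot

theorem exists_normal_sylow {L : Type u} [Group L] [Finite L] (hL : Cfsg.IsSupersolvable L)
    (p : ℕ) (hp : p.Prime) (hmax : ∀ q : ℕ, q.Prime → q ∣ Nat.card L → q ≤ p) :
    ∃ P : Subgroup L, P.Normal ∧ Nat.card P = p ^ (Nat.card L).factorization p :=
  exists_normal_sylow_aux (Nat.card L) L rfl hL p hp hmax


/-- The core step: `H`, `K` share a nontrivial subgroup `P` normal in both. -/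
theorem core {G : Type u} [Group G] [Finite G]
    (ih : ∀ (G' : Type u) [Group G'] [Finite G'], Nat.card G' < Nat.card G →
      ∀ (H K : Subgroup G'), Cfsg.IsSupersolvable H → Cfsg.IsSupersolvable K →
        Nat.card H = Nat.card K → (Nat.card H).Coprime H.index → ∃ x : G', MulAut.conj x • H = K)
    (H K P : Subgroup G) (hH : Cfsg.IsSupersolvable H) (hK : Cfsg.IsSupersolvable K)
    (hcard : Nat.card H = Nat.card K) (hHall : (Nat.card H).Coprime H.index)
    (hP1 : P ≠ ⊥) (hPH : P ≤ H) (hPK : P ≤ K)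
    (hHN : H ≤ Subgroup.normalizer (P : Set G)) (hKN : K ≤ Subgroup.normalizer (P : Set G)) :
    ∃ x : G, MulAut.conj x • H = K := by
  set N : Subgroup G := Subgroup.normalizer (P : Set G) with hN
  have hPN : P ≤ N := Subgroup.le_normalizer
  set P' : Subgroup N := P.subgroupOf N with hP'
  have hP'n : P'.Normal := Subgroup.normal_in_normalizer
  set f : N →* N ⧸ P' := QuotientGroup.mk' P' with hf
  have hfs : Function.Surjective f := QuotientGroup.mk'_surjective P'
  have hker : f.ker = P' := QuotientGroup.ker_mk' P'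
  have hcP' : Nat.card P' = Nat.card P :=
    Nat.card_congr (Subgroup.subgroupOfEquivOfLe hPN).toEquiv
  have hP'1 : 1 < Nat.card P' := by
    rw [hcP']
    rcases Nat.lt_or_ge 1 (Nat.card P) with h | h
    · exact h
    · exfalso
      have : Nat.card P = 1 := le_antisymm h Nat.card_pos
      exact hP1 (Subgroup.card_eq_one.mp this)
  have hlt : Nat.card (N ⧸ P') < Nat.card G :=
    lt_of_lt_of_le (card_quotient_lt P' hP'1) (Subgroup.card_le_card_group N)
  -- general facts for a subgroup `A` with `P ≤ A ≤ N`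
  have key : ∀ A : Subgroup G, P ≤ A → A ≤ N → Cfsg.IsSupersolvable A →
      Cfsg.IsSupersolvable ((A.subgroupOf N).map f) ∧
      Nat.card A = Nat.card ((A.subgroupOf N).map f) * Nat.card P' ∧
      ((A.subgroupOf N).map f).index ∣ A.index := by
    intro A hPA hAN hA
    have hcomap : ((A.subgroupOf N).map f).comap f = A.subgroupOf N := by
      rw [Subgroup.comap_map_eq, hker, sup_eq_left]
      intro x hx
      exact hPA hx
    refine ⟨?_, ?_, ?_⟩
    · have h1 : Cfsg.IsSupersolvable (A.subgroupOf N) :=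
        isSupersolvable_of_surjective (Subgroup.subgroupOfEquivOfLe hAN).symm.toMonoidHom
          (Subgroup.subgroupOfEquivOfLe hAN).symm.surjective hA
      exact isSupersolvable_of_surjective (f.subgroupMap (A.subgroupOf N))
        (f.subgroupMap_surjective _) h1
    · have h2 := card_comap_mk' P' ((A.subgroupOf N).map f)
      rw [← hf, hcomap] at h2
      rw [← h2]
      exact (Nat.card_congr (Subgroup.subgroupOfEquivOfLe hAN).toEquiv).symm
    · have h3 := Subgroup.index_comap_of_surjective ((A.subgroupOf N).map f) hfs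
      rw [hcomap] at h3
      rw [← h3]
      exact ⟨N.index, (Subgroup.relIndex_mul_index hAN).symm⟩
  obtain ⟨hHs, hHc, hHi⟩ := key H hPH hHN hH
  obtain ⟨hKs, hKc, hKi⟩ := key K hPK hKN hK
  have hcard' : Nat.card ((H.subgroupOf N).map f) = Nat.card ((K.subgroupOf N).map f) := by
    have : Nat.card ((H.subgroupOf N).map f) * Nat.card P'
        = Nat.card ((K.subgroupOf N).map f) * Nat.card P' := by
      rw [← hHc, ← hKc, hcard]
    exact Nat.eq_of_mul_eq_mul_right (by omega) this
  have hHall' : (Nat.card ((H.subgroupOf N).map f)).Coprime ((H.subgroupOf N).map f).index :=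
    Nat.Coprime.coprime_dvd_left ⟨_, hHc⟩ (Nat.Coprime.coprime_dvd_right hHi hHall)
  obtain ⟨xbar, hxbar⟩ := ih (N ⧸ P') hlt _ _ hHs hKs hcard' hHall'
  obtain ⟨x, rfl⟩ := hfs xbar
  refine ⟨(x : G), ?_⟩
  have hle : MulAut.conj (x : G) • H ≤ K := by
    intro a ha
    rw [Subgroup.mem_pointwise_smul_iff_inv_smul_mem] at ha
    -- `h := x⁻¹ a x ∈ H`
    set h : G := (MulAut.conj (x : G))⁻¹ • a with hh
    have hhN : h ∈ N := hHN ha
    have haN : a ∈ N := by
      have : a = (x : G) * h * (x : G)⁻¹ := by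
        rw [hh]; simp [MulAut.smul_def, mul_assoc]
      rw [this]
      exact N.mul_mem (N.mul_mem x.2 hhN) (N.inv_mem x.2)
    have hmem : f ⟨a, haN⟩ ∈ MulAut.conj (f x) • (H.subgroupOf N).map f := by
      rw [Subgroup.mem_pointwise_smul_iff_inv_smul_mem]
      refine ⟨⟨h, hhN⟩, ?_, ?_⟩
      · exact (Subgroup.mem_subgroupOf).mpr ha
      · have : (⟨h, hhN⟩ : N) = x⁻¹ * ⟨a, haN⟩ * x := by
          apply Subtype.ext
          simp [hh, MulAut.smul_def, mul_assoc]
        rw [this]
        simp [MulAut.smul_def, mul_assoc]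
    rw [hxbar] at hmem
    obtain ⟨k, hk, hkf⟩ := hmem
    have hkK : (k : G) ∈ K := (Subgroup.mem_subgroupOf).mp hk
    have hq : k⁻¹ * ⟨a, haN⟩ ∈ P' := by
      rw [← hker, MonoidHom.mem_ker, map_mul, map_inv, hkf, inv_mul_cancel]
    have hq' : (k : G)⁻¹ * a ∈ P := (Subgroup.mem_subgroupOf).mp hq
    have : a = (k : G) * ((k : G)⁻¹ * a) := by group
    rw [this]
    exact K.mul_mem hkK (hPK hq')
  have hcs : Nat.card (MulAut.conj (x : G) • H : Subgroup G) = Nat.card H :=
    (Nat.card_congr (Subgroup.equivSMul (MulAut.conj (x : G)) H).toEquiv).symm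
  exact Subgroup.eq_of_le_of_card_ge hle (by rw [hcs, hcard])


theorem main_aux : ∀ (n : ℕ) (G : Type u) [Group G] [Finite G], Nat.card G = n →
    ∀ (H K : Subgroup G), Cfsg.IsSupersolvable H → Cfsg.IsSupersolvable K →
      Nat.card H = Nat.card K → (Nat.card H).Coprime H.index → ∃ x : G, MulAut.conj x • H = K := by
  intro n
  induction n using Nat.strong_induction_on with
  | _ n ih =>
    intro G _ _ hcardG H K hH hK hcard hHall
    by_cases h1 : Nat.card H = 1
    · refine ⟨1, ?_⟩
      have hHb : H = ⊥ := Subgroup.card_eq_one.mp h1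
      have hKb : K = ⊥ := Subgroup.card_eq_one.mp (hcard ▸ h1)
      rw [hHb, hKb]
      simp
    have hc1 : 1 < Nat.card H := by
      have := Nat.card_pos (α := H)
      omega
    obtain ⟨p, hpmem, hpmax⟩ := Finset.exists_max_image (Nat.card H).primeFactors id
      (Nat.nonempty_primeFactors.mpr hc1)
    have hpp : p.Prime := Nat.prime_of_mem_primeFactors hpmem
    haveI : Fact p.Prime := ⟨hpp⟩
    have hpd : p ∣ Nat.card H := Nat.dvd_of_mem_primeFactors hpmem
    have hmaxH : ∀ q : ℕ, q.Prime → q ∣ Nat.card H → q ≤ p := fun q hq hqd =>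
      hpmax q (Nat.mem_primeFactors.mpr ⟨hq, hqd, Nat.card_pos.ne'⟩)
    have hmaxK : ∀ q : ℕ, q.Prime → q ∣ Nat.card K → q ≤ p := fun q hq hqd =>
      hmaxH q hq (hcard ▸ hqd)
    obtain ⟨P₀, hP₀n, hP₀c⟩ := exists_normal_sylow hH p hpp hmaxH
    obtain ⟨Q₀, hQ₀n, hQ₀c⟩ := exists_normal_sylow hK p hpp hmaxK
    -- the exponent of `p` in `|G|`
    have hfac : (Nat.card G).factorization p = (Nat.card H).factorization p := by
      have hpi : ¬ p ∣ H.index := by
        intro hdi
        have := Nat.Coprime.eq_one_of_dvd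
          (Nat.Coprime.coprime_dvd_left hpd hHall) hdi
        exact hpp.one_lt.ne' this
      rw [← Subgroup.card_mul_index H,
        Nat.factorization_mul Nat.card_pos.ne' Subgroup.index_ne_zero_of_finite,
        Finsupp.add_apply, Nat.factorization_eq_zero_of_not_dvd hpi, add_zero]
    set P : Subgroup G := P₀.map H.subtype with hP
    set Q : Subgroup G := Q₀.map K.subtype with hQ
    have hPc : Nat.card P = p ^ (Nat.card G).factorization p := by
      rw [hP, Subgroup.card_map_of_injective H.subtype_injective, hP₀c, hfac]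
    have hQc : Nat.card Q = p ^ (Nat.card G).factorization p := by
      rw [hQ, Subgroup.card_map_of_injective K.subtype_injective, hQ₀c, hfac, hcard]
    obtain ⟨g, hg⟩ := MulAction.exists_smul_eq G (Sylow.ofCard P hPc) (Sylow.ofCard Q hQc)
    have hgPQ : MulAut.conj g • P = Q := by
      have := congrArg (fun S : Sylow p G => (S : Subgroup G)) hg
      simpa [Sylow.coe_subgroup_smul, Sylow.coe_ofCard] using this
    have hPH : P ≤ H := by
      rw [hP]; exact Subgroup.map_subtype_le _
    have hQK : Q ≤ K := by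
      rw [hQ]; exact Subgroup.map_subtype_le _
    have hHNP : H ≤ Subgroup.normalizer (P : Set G) := by
      intro h hh
      rw [Subgroup.mem_normalizer_iff]
      intro y
      constructor
      · rintro ⟨y₀, hy₀, rfl⟩
        exact ⟨⟨h, hh⟩ * y₀ * ⟨h, hh⟩⁻¹, hP₀n.conj_mem y₀ hy₀ ⟨h, hh⟩, rfl⟩
      · rintro ⟨y₀, hy₀, hy⟩
        have h2 := hP₀n.conj_mem y₀ hy₀ (⟨h, hh⟩⁻¹)
        refine ⟨⟨h, hh⟩⁻¹ * y₀ * (⟨h, hh⟩⁻¹)⁻¹, h2, ?_⟩
        simp only [Subgroup.coe_subtype, Subgroup.coe_mul, Subgroup.coe_inv, inv_inv] at hy ⊢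
        rw [hy]; group
    have hKNQ : K ≤ Subgroup.normalizer (Q : Set G) := by
      intro h hh
      rw [Subgroup.mem_normalizer_iff]
      intro y
      constructor
      · rintro ⟨y₀, hy₀, rfl⟩
        exact ⟨⟨h, hh⟩ * y₀ * ⟨h, hh⟩⁻¹, hQ₀n.conj_mem y₀ hy₀ ⟨h, hh⟩, rfl⟩
      · rintro ⟨y₀, hy₀, hy⟩
        have h2 := hQ₀n.conj_mem y₀ hy₀ (⟨h, hh⟩⁻¹)
        refine ⟨⟨h, hh⟩⁻¹ * y₀ * (⟨h, hh⟩⁻¹)⁻¹, h2, ?_⟩
        simp only [Subgroup.coe_subtype, Subgroup.coe_mul, Subgroup.coe_inv, inv_inv] at hy ⊢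
        rw [hy]; group
    -- transport `H` by `g`
    set H' : Subgroup G := MulAut.conj g • H with hH'
    have e : H ≃* H' := Subgroup.equivSMul (MulAut.conj g) H
    have hH's : Cfsg.IsSupersolvable H' :=
      isSupersolvable_of_surjective e.toMonoidHom e.surjective hH
    have hcH' : Nat.card H' = Nat.card H := (Nat.card_congr e.toEquiv).symm
    have hiH' : H'.index = H.index := by
      have h1 := Subgroup.card_mul_index H'
      have h2 := Subgroup.card_mul_index H
      rw [hcH', ← h2] at h1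
      exact Nat.eq_of_mul_eq_mul_left Nat.card_pos h1
    have hQH' : Q ≤ H' := by
      rw [← hgPQ, hH']
      exact Subgroup.pointwise_smul_le_pointwise_smul_iff.mpr hPH
    have hH'NQ : H' ≤ Subgroup.normalizer (Q : Set G) := by
      intro a ha
      rw [hH', Subgroup.mem_pointwise_smul_iff_inv_smul_mem] at ha
      have h3 := hHNP ha
      rw [Subgroup.mem_normalizer_iff] at h3 ⊢
      intro y
      rw [← hgPQ, Subgroup.mem_pointwise_smul_iff_inv_smul_mem,
        Subgroup.mem_pointwise_smul_iff_inv_smul_mem, h3]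
      have : (MulAut.conj g)⁻¹ • (a * y * a⁻¹)
          = (MulAut.conj g)⁻¹ • a * (MulAut.conj g)⁻¹ • y * ((MulAut.conj g)⁻¹ • a)⁻¹ := by
        simp [MulAut.smul_def, mul_assoc]
      rw [this]
    have hQ1 : Q ≠ ⊥ := by
      intro hb
      have hv : 0 < (Nat.card G).factorization p := by
        rw [hfac]
        exact Nat.Prime.factorization_pos_of_dvd hpp Nat.card_pos.ne' hpd
      have : Nat.card Q = 1 := Subgroup.card_eq_one.mpr hb
      rw [hQc] at this
      have h4 : p ^ 1 ≤ p ^ (Nat.card G).factorization p :=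
        Nat.pow_le_pow_right hpp.pos hv
      rw [pow_one, this] at h4
      have := hpp.one_lt
      omega
    have ih' : ∀ (G' : Type u) [Group G'] [Finite G'], Nat.card G' < Nat.card G →
        ∀ (H K : Subgroup G'), Cfsg.IsSupersolvable H → Cfsg.IsSupersolvable K →
        Nat.card H = Nat.card K → (Nat.card H).Coprime H.index →
        ∃ x : G', MulAut.conj x • H = K := by
      intro G' _ _ hlt A B hA hB hAB hAc
      exact ih (Nat.card G') (hcardG ▸ hlt) G' rfl A B hA hB hAB hAc
    obtain ⟨x, hx⟩ := core ih' H' K Q hH's hK (hcH'.trans hcard) (by rw [hcH', hiH']; exact hHall)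
      hQ1 hQH' hQK hH'NQ hKNQ
    refine ⟨x * g, ?_⟩
    rw [map_mul, mul_smul, ← hH', hx]


/-- Let H and K be supersolvable subgroups of a finite group G of the same order, that order being coprime to their index. Then H and K are conjugate in G. -/
theorem result {G : Type*} [Group G] [Finite G] (H K : Subgroup G) (hH : Cfsg.IsSupersolvable H) (hK : Cfsg.IsSupersolvable K) (hcard : Nat.card H = Nat.card K) (hHall : (Nat.card H).Coprime H.index) : ∃ x : G, MulAut.conj x • H = K := by
  exact main_aux (Nat.card G) G rfl H K hH hK hcard hHall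

end Cfsg.Agent.S0582
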