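import Cfsg.Statements.S0583
import Cfsg.Agent.Lib.Helper10.Nilp

set_option autoImplicit false
open Cfsg

namespace Cfsg.Agent.S0583

open Cfsg.Agent.Helper10

/-- In a finite group the Fitting subgroup is contained in the centralizer of each minimal normal subgroup. -/
theorem result {G : Type*} [Group G] [Finite G] (M : Subgroup G) [M.Normal] (hM : M ≠ ⊥) (hmin : ∀ K : Subgroup G, K.Normal → K ≤ M → K = ⊥ ∨ K = M) : Cfsg.fittingSubgroup G ≤ Subgroup.centralizer (M : Set G) := by
  unfold fittingSubgroup
  apply sSup_le
  rintro N ⟨hNn, hNnil⟩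
  haveI := hNn
  rcases hmin (M ⊓ N) inferInstance inf_le_left with h | h
  · -- M ⊓ N = ⊥
    rw [← Subgroup.commutator_eq_bot_iff_le_centralizer, eq_bot_iff, ← h, inf_comm]
    exact Subgroup.commutator_le_inf N M
  · -- M ≤ N
    have hMN : M ≤ N := by rw [← h]; exact inf_le_right
    haveI : (M.subgroupOf N).Normal := inferInstance
    have hK' : M.subgroupOf N ≠ ⊥ := by
      intro h0
      apply hM
      have := congrArg (Subgroup.map N.subtype) h0
      rwa [Subgroup.map_subgroupOf_eq_of_le hMN, Subgroup.map_bot] at this
    have hne := normal_inf_center_ne_bot (M.subgroupOf N) hK'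
    haveI : ((Subgroup.center N).map N.subtype).Normal := ConjAct.normal_of_characteristic_of_normal
    have hsub : (M.subgroupOf N ⊓ Subgroup.center N).map N.subtype ≤ M ⊓ (Subgroup.center N).map N.subtype := by
      apply le_inf
      · calc (M.subgroupOf N ⊓ Subgroup.center N).map N.subtype ≤ (M.subgroupOf N).map N.subtype :=
            Subgroup.map_mono inf_le_left
          _ = M := Subgroup.map_subgroupOf_eq_of_le hMN
      · exact Subgroup.map_mono inf_le_right
    have hne' : M ⊓ (Subgroup.center N).map N.subtype ≠ ⊥ := by
      intro h0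
      rw [h0, le_bot_iff, Subgroup.map_eq_bot_iff_of_injective _ N.subtype_injective] at hsub
      exact hne hsub
    rcases hmin (M ⊓ (Subgroup.center N).map N.subtype) inferInstance inf_le_left with h1 | h1
    · exact absurd h1 hne'
    · have hMZ : M ≤ (Subgroup.center N).map N.subtype := by rw [← h1]; exact inf_le_right
      intro n hn
      rw [Subgroup.mem_centralizer_iff]
      intro m hm
      obtain ⟨z, hz, rfl⟩ := hMZ hm
      have := Subgroup.mem_center_iff.mp hz ⟨n, hn⟩
      have h2 := congrArg Subtype.val this
      simpa using h2.symm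

end Cfsg.Agent.S0583
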