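import Cfsg.Statements.S0584
import Mathlib

set_option autoImplicit false
open Cfsg

namespace Cfsg.Agent.S0584

/-- Let B ≤ A be normal subgroups of a finite group G with B contained in the Frattini subgroup of G. If A modulo B is nilpotent then A is nilpotent. -/
theorem result {G : Type*} [Group G] [Finite G] (A B : Subgroup G) [A.Normal] [B.Normal] (hBA : B ≤ A) (hB : B ≤ frattini G) (h : Group.IsNilpotent (↥A ⧸ B.subgroupOf A)) : Group.IsNilpotent A := by
  have q := (Group.isNilpotent_of_finite_tfae (G := A)).out 0 3
  rw [q]; clear q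
  intro p hp P
  set B' := B.subgroupOf A with hB'
  set π := QuotientGroup.mk' B' with hπdef
  have hπ : Function.Surjective π := QuotientGroup.mk'_surjective _
  have hPbar : ((P.mapSurjective hπ) : Subgroup (A ⧸ B')).Normal := inferInstance
  rw [Sylow.coe_mapSurjective] at hPbar
  set L' := ((P : Subgroup A).map π).comap π with hL'
  haveI : L'.Normal := hPbar.comap π
  have hPL : (P : Subgroup A) ≤ L' := Subgroup.le_comap_map _ _
  have fr1 := Sylow.normalizer_sup_eq_top (P.subtype hPL)
  rw [Sylow.coe_subtype, Subgroup.map_subgroupOf_eq_of_le hPL] at fr1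
  have hL'eq : L' = (P : Subgroup A) ⊔ B' := by
    rw [hL', Subgroup.comap_map_eq, QuotientGroup.ker_mk']
  have fr1' : Subgroup.normalizer ((P : Subgroup A) : Set A) ⊔ B' = ⊤ := by
    rw [eq_top_iff, ← fr1, hL'eq]
    apply sup_le le_sup_left
    apply sup_le (Subgroup.le_normalizer.trans le_sup_left) le_sup_right
  have fr2 := Sylow.normalizer_sup_eq_top P
  set Q := (P : Subgroup A).map A.subtype with hQ
  have hA : A ≤ Subgroup.normalizer (Q : Set G) ⊔ B := by
    have h1 := congrArg (Subgroup.map A.subtype) fr1'
    rw [Subgroup.map_sup, ← MonoidHom.range_eq_map, Subgroup.range_subtype,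
      Subgroup.map_subgroupOf_eq_of_le hBA] at h1
    rw [← h1]
    exact sup_le_sup_right (Subgroup.le_normalizer_map _) _
  have htop : Subgroup.normalizer (Q : Set G) ⊔ frattini G = ⊤ := by
    rw [eq_top_iff, ← fr2]
    apply sup_le le_sup_left
    exact hA.trans (sup_le_sup_left hB _)
  have hN := frattini_nongenerating htop
  have hQn : Q.Normal := Subgroup.normalizer_eq_top_iff.mp hN
  exact hQn.of_map_subtype

end Cfsg.Agent.S0584
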