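import Cfsg.Statements.S0587
import Cfsg.Agent.Lib.Helper10.MinNormal2
import Cfsg.Agent.Lib.Helper10.Primitive
import Cfsg.Agent.Lib.Helper10.Frattini
import Cfsg.Agent.Lib.Helper10.FixedCount

set_option autoImplicit false
open Cfsg

namespace Cfsg.Agent.S0587

open Cfsg.Agent.Helper10

/-- Let G be a finite group whose largest normal p-subgroup L is nontrivial, and M a maximal subgroup of G with trivial normal core. Then L is elementary abelian, M is a complement to L, L is a minimal normal subgroup of G, the centralizer of L is L, and for every prime q such that the largest normal q-subgroup of M is nontrivial, the order of L is congruent to 1 modulo q and q ≠ p. -/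
theorem result {G : Type*} [Group G] [Finite G] (p : ℕ) [Fact p.Prime] (hL : Cfsg.pCore p G ≠ ⊥) (M : Subgroup G) (hM : IsCoatom M) (hcore : M.normalCore = ⊥) : Cfsg.IsElementaryAbelian p (Cfsg.pCore p G) ∧ Subgroup.IsComplement' (Cfsg.pCore p G) M ∧ (∀ K : Subgroup G, K.Normal → K ≤ Cfsg.pCore p G → K = ⊥ ∨ K = Cfsg.pCore p G) ∧ Subgroup.centralizer ((Cfsg.pCore p G : Subgroup G) : Set G) = Cfsg.pCore p G ∧ ∀ (q : ℕ) [Fact q.Prime], Cfsg.pCore q ↥M ≠ ⊥ → Nat.card (Cfsg.pCore p G) % q = 1 % q ∧ q ≠ p := by
  set L := Cfsg.pCore p G with hLdef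
  haveI hLn : L.Normal := pCore_normal p G
  have hLp : IsPGroup p L := pCore_isPGroup p G
  obtain ⟨N, hNmin, hNL⟩ := exists_isMinNormal_le L hL
  have hNn : N.Normal := hNmin.1
  haveI := hNn
  have hNne : N ≠ ⊥ := hNmin.2.1
  have hNp : IsPGroup p N := hLp.to_le hNL
  haveI hNnil : Group.IsNilpotent N := hNp.isNilpotent
  haveI hNsol : Group.IsSolvable N := inferInstance
  haveI hNab : IsMulCommutative N := hNmin.isMulCommutative_of_isSolvable
  have hCN : Subgroup.centralizer (N : Set G) = N :=
    centralizer_eq_of_corefree_coatom hM hcore hNne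
  haveI hLnil : Group.IsNilpotent L := hLp.isNilpotent
  have hLN : L ≤ N := by
    have := hNmin.le_centralizer_of_nilpotent hNL
    rwa [hCN] at this
  have hLeq : L = N := le_antisymm hLN hNL
  -- exponent
  obtain ⟨p', hp', hp'd, hp'x⟩ := hNmin.exists_prime_pow_eq_one_of_comm hNab
  have hpp' : p' = p := by
    obtain ⟨k, hk⟩ := IsPGroup.iff_card.mp hNp
    rw [hk] at hp'd
    exact (Nat.prime_dvd_prime_iff_eq hp' (Fact.out : p.Prime)).mp (hp'.dvd_of_dvd_pow hp'd)
  subst hpp'
  have hinf : N ⊓ M = ⊥ := inf_eq_bot_of_corefree_coatom hM hcore hNne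
  have hsup : N ⊔ M = ⊤ := sup_eq_top_of_corefree_coatom hM hcore hNne
  rw [hLeq]
  refine ⟨⟨hNab, hp'x⟩, isComplement'_of_normal_of_sup_eq_top_of_inf_eq_bot hsup hinf,
    hNmin.2.2, hCN, ?_⟩
  intro q hq hR
  -- R = O_q(M) mapped to G
  set R0 := Cfsg.pCore q ↥M with hR0
  haveI hR0n : R0.Normal := pCore_normal q ↥M
  have hR0q : IsPGroup q R0 := pCore_isPGroup q ↥M
  set R := R0.map M.subtype with hRdef
  have hRq : IsPGroup q R := hR0q.map M.subtype
  have hRM : R ≤ M := Subgroup.map_subtype_le R0
  have hRne : R ≠ ⊥ := by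
    intro h0
    apply hR
    rwa [hRdef, Subgroup.map_eq_bot_iff_of_injective _ M.subtype_injective] at h0
  have hMR : M ≤ Subgroup.normalizer (R : Set G) := by
    have : (R0.map M.subtype).subgroupOf M = R0 := by
      rw [Subgroup.subgroupOf, Subgroup.comap_map_eq_self_of_injective M.subtype_injective]
    rw [← Subgroup.normal_subgroupOf_iff_le_normalizer hRM, this]
    exact hR0n
  -- q ≠ p
  have hqp : q ≠ p' := by
    intro hqp
    subst hqp
    -- N ⊔ R is a normal p-group
    have hNR : IsPGroup q (N ⊔ R : Subgroup G) := hNp.to_sup_of_normal_left hRq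
    have hNRn : (N ⊔ R).Normal := by
      apply normal_of_sup_eq_top hsup
      · exact le_trans le_sup_left Subgroup.le_normalizer
      · refine le_trans ?_ (Subgroup.normalizer_inf_normalizer_le_normalizer_sup N R)
        exact le_inf (by rw [Subgroup.normalizer_eq_top]; exact le_top) hMR
    have h1 : N ⊔ R ≤ L := le_pCore hNRn hNR
    have h2 : R ≤ N ⊓ M := le_inf (le_trans le_sup_right (h1.trans hLN)) hRM
    rw [hinf, le_bot_iff] at h2
    exact hRne h2
  refine ⟨?_, hqp⟩
  -- C = N ⊓ C(R) normal in G
  set C := N ⊓ Subgroup.centralizer (R : Set G) with hCdef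
  have hCn : C.Normal := by
    apply normal_of_sup_eq_top hsup
    · -- N abelian centralizes C ≤ N
      refine le_trans ?_ (Subgroup.centralizer_le_normalizer _)
      intro a ha
      rw [Subgroup.mem_centralizer_iff]
      intro c hc
      exact setLike_mul_comm hc.1 ha
    · refine le_trans ?_ (Subgroup.inf_normalizer_le_normalizer_inf)
      refine le_inf (by rw [Subgroup.normalizer_eq_top]; exact le_top) ?_
      exact le_trans hMR ((Subgroup.normal_subgroupOf_iff_le_normalizer (Subgroup.centralizer_le_normalizer _)).mp (Subgroup.normal_subgroupOf_centralizer_normalizer _))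
  have hC0 : C = ⊥ := by
    rcases hNmin.2.2 C hCn inf_le_left with h | h
    · exact h
    · exfalso
      have hNR : N ≤ Subgroup.centralizer (R : Set G) := by rw [← h]; exact inf_le_right
      have hRN : R ≤ Subgroup.centralizer (N : Set G) := Subgroup.le_centralizer_iff.mp hNR
      rw [hCN] at hRN
      have h2 : R ≤ N ⊓ M := le_inf hRN hRM
      rw [hinf, le_bot_iff] at h2
      exact hRne h2
  exact card_modEq_one_of_inf_centralizer_eq_bot N R hRq hC0

end Cfsg.Agent.S0587
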