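import Cfsg.Statements.S0589
import Mathlib
import Cfsg.Agent.Lib.Helper96.FrobeniusAct
import Cfsg.Agent.Lib.Helper96.FrobConj

set_option autoImplicit false
open Pointwise
open Cfsg

namespace Cfsg.Agent.S0589

open Cfsg.Agent.Helper96

/-- Let H be a Frobenius complement in a finite group G and L a subgroup of G whose order divides the order of H. Then L is contained in some conjugate of H. -/
theorem result {G : Type*} [Group G] [Finite G] (H : Subgroup G) (hH : Cfsg.IsFrobeniusComplement H) (L : Subgroup G) (hL : Nat.card L ∣ Nat.card H) : ∃ x : G, L ≤ MulAut.conj x • H := by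
  apply exists_conj_le_of_forall_conj_mem hH L
  intro x hx hx1
  apply exists_conj_mem_of_orderOf_dvd hH x hx1
  refine dvd_trans ?_ hL
  have := orderOf_dvd_natCard (⟨x, hx⟩ : L)
  rwa [Subgroup.orderOf_mk] at this

end Cfsg.Agent.S0589
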