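import Cfsg.Statements.S0590
import Cfsg.Agent.Lib.Helper10.Quadratic

set_option autoImplicit false
open Cfsg

namespace Cfsg.Agent.S0590

open Cfsg.Agent.Helper10
open scoped commutatorElement

/-- Quadratic action on an elementary abelian p-group forces the acting group modulo the kernel of the action to be elementary abelian. -/
theorem result {G : Type*} [Group G] [Finite G] {p : ℕ} [Fact p.Prime] (V H : Subgroup G) (hV : Cfsg.IsElementaryAbelian p V) (hHV : H ≤ Subgroup.normalizer (V : Set G)) (hq : ⁅⁅V, H⁆, H⁆ = ⊥) : ⁅H, H⁆ ≤ Subgroup.centralizer (V : Set G) ∧ ∀ a ∈ H, a ^ p ∈ Subgroup.centralizer (V : Set G) := by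
  have hVab := (isElementaryAbelian_iff.mp hV)
  constructor
  · rw [Subgroup.commutator_le]
    intro a ha b hb
    rw [Subgroup.mem_centralizer_iff]
    intro v hv
    have hu : b⁻¹ * v * b ∈ V := by
      have := conj_mem_of_mem_normalizer (hHV (H.inv_mem hb)) hv
      simpa using this
    have key := quadratic_conj_comm hVab.1 hHV hq (H.inv_mem ha) hb hu
    -- key : a⁻¹ * (b * u * b⁻¹) * a⁻¹⁻¹ = b * (a⁻¹ * u * a⁻¹⁻¹) * b⁻¹
    have h1 : b * (b⁻¹ * v * b) * b⁻¹ = v := by group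
    rw [h1, inv_inv] at key
    have h2 : ⁅a, b⁆ * v * ⁅a, b⁆⁻¹ = a * (b * (a⁻¹ * (b⁻¹ * v * b) * a) * b⁻¹) * a⁻¹ := by
      rw [commutatorElement_def]; group
    have h3 : ⁅a, b⁆ * v * ⁅a, b⁆⁻¹ = v := by
      rw [h2, ← key]; group
    calc v * ⁅a, b⁆ = (⁅a, b⁆ * v * ⁅a, b⁆⁻¹) * ⁅a, b⁆ := by rw [h3]
      _ = ⁅a, b⁆ * v := by group
  · intro a ha
    rw [Subgroup.mem_centralizer_iff]
    intro v hv
    obtain ⟨w, hwV, hw, hav⟩ := quadratic_conj hHV hq ha hv
    have h1 := quadratic_conj_pow ha hw hav p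
    rw [hVab.2 w hwV, one_mul] at h1
    calc v * a ^ p = (a ^ p * v * (a ^ p)⁻¹) * a ^ p := by rw [h1]
      _ = a ^ p * v := by group

end Cfsg.Agent.S0590
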