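import Cfsg.Statements.S0591
import Cfsg.Agent.Lib.Helper10.Quadratic

set_option autoImplicit false
open Cfsg

namespace Cfsg.Agent.S0591

open Cfsg.Agent.Helper10

/-- The map `v ↦ a v a⁻¹ v⁻¹` on the abelian group `V` normalized by `a`. -/
noncomputable def commHom {G : Type*} [Group G] (V : Subgroup G)
    (hVab : ∀ x ∈ V, ∀ y ∈ V, x * y = y * x) (a : G)
    (ha : a ∈ Subgroup.normalizer (V : Set G)) : V →* V :=
  MonoidHom.mk' (fun v => ⟨a * v * a⁻¹ * (v : G)⁻¹,
    V.mul_mem (conj_mem_of_mem_normalizer ha v.2) (V.inv_mem v.2)⟩) (by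
    intro v₁ v₂
    apply Subtype.ext
    simp only [Subgroup.coe_mul]
    have h1 : a * (v₂ : G) * a⁻¹ * (v₂ : G)⁻¹ ∈ V :=
      V.mul_mem (conj_mem_of_mem_normalizer ha v₂.2) (V.inv_mem v₂.2)
    have h2 := hVab _ h1 _ (V.inv_mem v₁.2)
    calc a * ((v₁ : G) * v₂) * a⁻¹ * ((v₁ : G) * v₂)⁻¹
        = a * v₁ * a⁻¹ * ((a * v₂ * a⁻¹ * (v₂ : G)⁻¹) * (v₁ : G)⁻¹) := by group
      _ = a * v₁ * a⁻¹ * ((v₁ : G)⁻¹ * (a * v₂ * a⁻¹ * (v₂ : G)⁻¹)) := by rw [h2]
      _ = a * v₁ * a⁻¹ * (v₁ : G)⁻¹ * (a * v₂ * a⁻¹ * (v₂ : G)⁻¹) := by group)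

/-- For a quadratically acting element a on an elementary abelian p-group V, the fixed points C_V(a) have order at least the square root of the order of V. -/
theorem result {G : Type*} [Group G] [Finite G] {p : ℕ} [Fact p.Prime] (V : Subgroup G) (hV : Cfsg.IsElementaryAbelian p V) (a : G) (ha : a ∈ Subgroup.normalizer (V : Set G)) (hq : ⁅⁅V, Subgroup.zpowers a⁆, Subgroup.zpowers a⁆ = ⊥) : Nat.card V ≤ Nat.card ↥(V ⊓ Subgroup.centralizer (Subgroup.zpowers a : Set G)) ^ 2 := by
  have hVab := (isElementaryAbelian_iff.mp hV)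
  have hHV : Subgroup.zpowers a ≤ Subgroup.normalizer (V : Set G) := by
    rw [Subgroup.zpowers_le]; exact ha
  set φ := commHom V hVab.1 a ha with hφ
  set C := V ⊓ Subgroup.centralizer (Subgroup.zpowers a : Set G) with hC
  have hcard : Nat.card φ.ker * Nat.card φ.range = Nat.card V := by
    rw [← Subgroup.index_ker]; exact Subgroup.card_mul_index _
  have hker : φ.ker.map V.subtype ≤ C := by
    rintro _ ⟨v, hv, rfl⟩
    refine ⟨v.2, ?_⟩
    show (v : G) ∈ Subgroup.centralizer (Subgroup.zpowers a : Set G)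
    rw [Subgroup.mem_centralizer_iff]
    have hv' : a * v * a⁻¹ * (v : G)⁻¹ = 1 := by
      have := congrArg Subtype.val (MonoidHom.mem_ker.mp hv)
      simpa [hφ, commHom] using this
    have hcomm : Commute a (v : G) := by
      have : a * v = v * a := by
        calc a * v = (a * v * a⁻¹ * (v : G)⁻¹) * v * a := by group
          _ = v * a := by rw [hv', one_mul]
      exact this
    intro h hh
    obtain ⟨k, rfl⟩ := Subgroup.mem_zpowers_iff.mp hh
    exact (hcomm.zpow_left k)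
  have hrange : φ.range.map V.subtype ≤ C := by
    rintro _ ⟨_, ⟨v, rfl⟩, rfl⟩
    refine ⟨(φ v).2, ?_⟩
    show ((φ v : V) : G) ∈ Subgroup.centralizer (Subgroup.zpowers a : Set G)
    rw [Subgroup.mem_centralizer_iff]
    obtain ⟨w, hwV, hw, hav⟩ := quadratic_conj hHV hq (Subgroup.mem_zpowers a) v.2
    have hφv : ((φ v : V) : G) = w := by
      show a * v * a⁻¹ * (v : G)⁻¹ = w
      rw [hav]; group
    rw [hφv]
    intro h hh
    exact hw h hh
  have h1 : Nat.card φ.ker ≤ Nat.card C := by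
    rw [← Subgroup.card_map_of_injective V.subtype_injective]
    exact Subgroup.card_le_of_le hker
  have h2 : Nat.card φ.range ≤ Nat.card C := by
    rw [← Subgroup.card_map_of_injective V.subtype_injective]
    exact Subgroup.card_le_of_le hrange
  rw [← hcard, sq]
  exact Nat.mul_le_mul h1 h2

end Cfsg.Agent.S0591
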