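import Cfsg.Statements.S0592
import Cfsg.Agent.Lib.Helper10.QuadPair

set_option autoImplicit false
open Cfsg

namespace Cfsg.Agent.S0592

open Cfsg.Agent.Helper10

/-- Two quadratically acting generators of a linear group that is not a p-group, with the p'-part of the order of their product dividing q - 1, give a homomorphism onto a subgroup of SL(2, q) that is not a p-group. -/
theorem result {K : Type*} [Field K] [Fintype K] {p : ℕ} [Fact p.Prime] [CharP K p] {W : Type*} [AddCommGroup W] [Module K W] [FiniteDimensional K W] [Finite W] [Nontrivial W] (H : Subgroup (W ≃ₗ[K] W)) (a b : W ≃ₗ[K] W) (hH : H = Subgroup.closure {a, b}) (ha : ∀ w : W, a (a w - w) = a w - w) (hb : ∀ w : W, b (b w - w) = b w - w) (hnp : ¬ IsPGroup p H) (hk : ∃ e k : ℕ, orderOf (a * b) = p ^ e * k ∧ k ∣ Fintype.card K - 1) : ∃ φ : H →* Matrix.SpecialLinearGroup (Fin 2) K, ¬ IsPGroup p φ.range := by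
  classical
  have hp : p.Prime := Fact.out
  haveI : Finite (W ≃ₗ[K] W) := Finite.of_injective (fun f => (f : W → W)) DFunLike.coe_injective
  obtain ⟨e, k, hek, hkq⟩ := hk
  have haH : a ∈ H := by rw [hH]; exact Subgroup.subset_closure (by simp)
  have hbH : b ∈ H := by rw [hH]; exact Subgroup.subset_closure (by simp)
  set a' : H := ⟨a, haH⟩ with ha'
  set b' : H := ⟨b, hbH⟩ with hb'
  have hgen : Subgroup.closure {a', b'} = (⊤ : Subgroup H) := by
    apply Subgroup.map_injective H.subtype_injective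
    rw [MonoidHom.map_closure, ← MonoidHom.range_eq_map, Subgroup.range_subtype]
    rw [Set.image_pair]
    exact hH.symm
  have hord : (a' * b') ^ (p ^ e * k) = 1 := by
    apply Subtype.ext
    simp only [Subgroup.coe_pow, Subgroup.coe_mul, Subgroup.coe_one, ha', hb']
    rw [← hek]; exact pow_orderOf_eq_one _
  -- the representation
  set ρ : Representation K H W :=
    (LinearEquiv.automorphismGroup.toLinearMapMonoidHom).comp H.subtype with hρ
  have hρapp : ∀ (g : H) (w : W), ρ g w = (g : W ≃ₗ[K] W) w := fun g w => rfl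
  have hρinj : ∀ g : H, ρ g = 1 → g = 1 := by
    intro g hg
    apply Subtype.ext
    ext w
    have := congrArg (fun f => f w) hg
    simpa [hρapp] using this
  -- a p'-element
  rw [IsPGroup] at hnp
  simp only [not_forall, not_exists] at hnp
  obtain ⟨g, hg⟩ := hnp
  have hog : orderOf g ≠ 0 := (orderOf_pos g).ne'
  obtain ⟨s, m, hpm, hsm⟩ := Nat.exists_eq_pow_mul_and_not_dvd hog p hp.ne_one
  have hm : m.Coprime p := ((Nat.Prime.coprime_iff_not_dvd hp).mpr hpm).symm
  set h : H := g ^ (p ^ s) with hh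
  have hh1 : h ≠ 1 := hg s
  have hhm : h ^ m = 1 := by rw [hh, ← pow_mul, ← hsm]; exact pow_orderOf_eq_one g
  obtain ⟨φ, hφ⟩ := exists_sl2_hom_of_quadratic_pair (K := K) (p := p) a' b' hgen hord hkq h hm hhm
    (Module.finrank K W) W ρ rfl (fun w => ha w) (fun w => hb w) (fun h1 => hh1 (hρinj h h1))
  refine ⟨φ, fun hP => hφ ?_⟩
  obtain ⟨j, hj⟩ := hP ⟨φ h, ⟨h, rfl⟩⟩
  have hj' : φ h ^ (p ^ j) = 1 := by
    have := congrArg Subtype.val hj
    simpa using this
  have hm' : φ h ^ m = 1 := by rw [← map_pow, hhm, map_one]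
  have hd : orderOf (φ h) ∣ Nat.gcd m (p ^ j) :=
    Nat.dvd_gcd (orderOf_dvd_of_pow_eq_one hm') (orderOf_dvd_of_pow_eq_one hj')
  rw [Nat.Coprime.pow_right j hm, Nat.dvd_one, orderOf_eq_one_iff] at hd
  exact hd

end Cfsg.Agent.S0592
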