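import Cfsg.Statements.S0593
-- import your own Cfsg.Agent.* helpers here
import Cfsg.Agent.Lib.Helper10.ConjRep
import Cfsg.Agent.Lib.Helper10.QuadPairZMod
import Cfsg.Agent.Lib.Helper9.QuadSylowTwo

set_option autoImplicit false
open Cfsg

namespace Cfsg.Agent.S0593

open Cfsg.Agent.Helper10

/-- For odd p, a faithful group on an elementary abelian p-group generated by two quadratically acting elements is a p-group or has non-abelian Sylow 2-subgroups. -/
theorem result {G : Type*} [Group G] [Finite G] {p : ℕ} [Fact p.Prime] (hp : p ≠ 2) (V H : Subgroup G) (hV : Cfsg.IsElementaryAbelian p V) (hHV : H ≤ Subgroup.normalizer (V : Set G)) (hf : H ⊓ Subgroup.centralizer (V : Set G) = ⊥) (a b : G) (hab : H = Subgroup.closure {a, b}) (ha : ⁅⁅V, Subgroup.zpowers a⁆, Subgroup.zpowers a⁆ = ⊥) (hb : ⁅⁅V, Subgroup.zpowers b⁆, Subgroup.zpowers b⁆ = ⊥) (hnp : ¬ IsPGroup p H) (T : Sylow 2 H) : ¬ IsMulCommutative T := by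
  classical
  intro hTc
  have hpp : p.Prime := Fact.out
  have haH : a ∈ H := by rw [hab]; exact Subgroup.subset_closure (by simp)
  have hbH : b ∈ H := by rw [hab]; exact Subgroup.subset_closure (by simp)
  set a' : H := ⟨a, haH⟩ with ha'
  set b' : H := ⟨b, hbH⟩ with hb'
  have hgen : Subgroup.closure {a', b'} = (⊤ : Subgroup H) := by
    apply Subgroup.map_injective H.subtype_injective
    rw [MonoidHom.map_closure, ← MonoidHom.range_eq_map, Subgroup.range_subtype]
    rw [Set.image_pair]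
    exact hab.symm
  set ρ := conjRep hV hHV with hρ
  have hρinj : Function.Injective ρ := conjRep_injective hV hHV hf
  have hqa := conjRep_quadratic hV hHV a' ha
  have hqb := conjRep_quadratic hV hHV b' hb
  -- a nontrivial p'-element
  have hex : ∃ h' : H, h' ≠ 1 ∧ (orderOf h').Coprime p := by
    by_contra hcon
    push Not at hcon
    apply hnp
    intro g
    have ho : orderOf g ≠ 0 := (orderOf_pos g).ne'
    obtain ⟨e, k, hpk, hek⟩ := Nat.exists_eq_pow_mul_and_not_dvd ho p hpp.ne_one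
    refine ⟨e, ?_⟩
    by_contra hg1
    apply hcon (g ^ p ^ e) hg1
    have h1 : orderOf (g ^ p ^ e) ∣ k := by
      apply orderOf_dvd_of_pow_eq_one
      rw [← pow_mul, ← hek]; exact pow_orderOf_eq_one g
    have h2 : Nat.Coprime k p := ((Nat.Prime.coprime_iff_not_dvd hpp).mpr hpk).symm
    exact Nat.Coprime.coprime_dvd_left h1 h2
  obtain ⟨h', hh'1, hoh⟩ := hex
  have hρh : ρ h' ≠ 1 := fun h0 => hh'1 (hρinj (by rw [h0, map_one]))
  obtain ⟨F, _, _, _, φ, hφ⟩ := exists_field_sl2_hom ρ a' b' hgen hqa hqb h' hρh hoh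
  have hap : a' ^ p = 1 := by
    apply hρinj
    rw [map_pow, map_one]
    exact pow_char_eq_one_of_quad (K := ZMod p) (p := p) (ρ a') hqa
  have hbp : b' ^ p = 1 := by
    apply hρinj
    rw [map_pow, map_one]
    exact pow_char_eq_one_of_quad (K := ZMod p) (p := p) (ρ b') hqb
  -- the image in SL₂(F)
  set ψ : H →* φ.range := φ.rangeRestrict with hψ
  have hψs : Function.Surjective ψ := φ.rangeRestrict_surjective
  have hTc' : IsMulCommutative ↥(T : Subgroup H) := hTc
  set A : Subgroup φ.range := (T : Subgroup H).map ψ with hA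
  have hA2 : IsPGroup 2 A := T.isPGroup'.map ψ
  have hAi : Odd A.index := by
    have h1 : A.index ∣ (T : Subgroup H).index := Subgroup.index_map_dvd _ hψs
    have h2 : ¬ 2 ∣ (T : Subgroup H).index := T.not_dvd_index
    have h3 : ¬ 2 ∣ A.index := fun h => h2 (h.trans h1)
    exact Nat.odd_iff.mpr (Nat.two_dvd_ne_zero.mp h3)
  have hX : Subgroup.closure ({ψ a', ψ b'} : Set φ.range) = ⊤ := by
    have := congrArg (Subgroup.map ψ) hgen
    rw [MonoidHom.map_closure, Set.image_pair, Subgroup.map_top_of_surjective ψ hψs] at this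
    exact this
  have hXp : ∀ x ∈ ({ψ a', ψ b'} : Set φ.range), x ^ p = 1 := by
    intro x hx
    rcases hx with rfl | hx
    · rw [← map_pow, hap, map_one]
    · rw [Set.mem_singleton_iff] at hx; subst hx
      rw [← map_pow, hbp, map_one]
  have hKp := Cfsg.Agent.Helper9.isPGroup_of_generated_sl2 p hp φ.range.subtype
    (Subgroup.subtype_injective _) _ hX hXp A hA2 hAi
  obtain ⟨k, hk⟩ := hKp (ψ h')
  have h1 : orderOf (ψ h') ∣ p ^ k := orderOf_dvd_of_pow_eq_one hk
  have h2 : orderOf (ψ h') ∣ orderOf h' := orderOf_map_dvd ψ h'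
  have h3 : orderOf (ψ h') ∣ Nat.gcd (orderOf h') (p ^ k) := Nat.dvd_gcd h2 h1
  rw [Nat.Coprime.gcd_eq_one (hoh.pow_right k), Nat.dvd_one] at h3
  have h4 : ψ h' = 1 := orderOf_eq_one_iff.mp h3
  apply hφ
  have := congrArg Subtype.val h4
  simpa [hψ] using this

end Cfsg.Agent.S0593
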