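import Cfsg.Statements.S0594
import Cfsg.Agent.Lib.Helper10.ConjRep
import Cfsg.Agent.Lib.Helper10.QuadPairZMod
import Cfsg.Agent.Lib.Helper10.SectionHom
import Cfsg.Agent.S3740

set_option autoImplicit false
open Cfsg

namespace Cfsg.Agent.S0594

open Cfsg.Agent.Helper10

/-- a commutator with a normalizing subgroup stays inside -/
theorem commutator_le_of_le_normalizer {G : Type*} [Group G] (Q A : Subgroup G)
    (hA : A ≤ Subgroup.normalizer (Q : Set G)) : ⁅Q, A⁆ ≤ Q := by
  rw [Subgroup.commutator_le]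
  intro q hq x hx
  rw [commutatorElement_def]
  have h1 : x * q⁻¹ * x⁻¹ ∈ Q := (hA hx q⁻¹).mp (Q.inv_mem hq)
  have : q * x * q⁻¹ * x⁻¹ = q * (x * q⁻¹ * x⁻¹) := by group
  rw [this]
  exact Q.mul_mem hq h1

/-- `zpowers x` is a `p`-group when `x ^ p = 1` -/
theorem isPGroup_zpowers_of_pow_eq_one {X : Type*} [Group X] {p : ℕ} (x : X) (hx : x ^ p = 1) :
    IsPGroup p (Subgroup.zpowers x) := by
  rintro ⟨y, hy⟩
  obtain ⟨j, rfl⟩ := Subgroup.mem_zpowers_iff.mp hy
  refine ⟨1, Subtype.ext ?_⟩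
  simp only [pow_one, Subgroup.coe_pow, Subgroup.coe_one]
  rw [← zpow_natCast, ← zpow_mul, mul_comm, zpow_mul, zpow_natCast, hx, one_zpow]

/-- For odd p, two quadratic generators of a faithful group that is not a p-group, one of which acts nontrivially on a normal subgroup of order prime to p, force p = 3 and a section isomorphic to SL(2,3). -/
theorem result {G : Type*} [Group G] [Finite G] {p : ℕ} [Fact p.Prime] (hp : p ≠ 2) (V H : Subgroup G) (hV : Cfsg.IsElementaryAbelian p V) (hHV : H ≤ Subgroup.normalizer (V : Set G)) (hf : H ⊓ Subgroup.centralizer (V : Set G) = ⊥) (a b : G) (hab : H = Subgroup.closure {a, b}) (ha : ⁅⁅V, Subgroup.zpowers a⁆, Subgroup.zpowers a⁆ = ⊥) (hb : ⁅⁅V, Subgroup.zpowers b⁆, Subgroup.zpowers b⁆ = ⊥) (hnp : ¬ IsPGroup p H) (Q : Subgroup G) (hQH : Q ≤ H) (hQn : H ≤ Subgroup.normalizer (Q : Set G)) (hQ : (Nat.card Q).Coprime p) (hQa : ⁅Q, Subgroup.zpowers a⁆ ≠ ⊥) : p = 3 ∧ ∃ (K L : Subgroup G) (hL : (L.subgroupOf K).Normal),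 K ≤ H ∧ Nonempty ((K ⧸ L.subgroupOf K) ≃* Matrix.SpecialLinearGroup (Fin 2) (ZMod 3)) := by
  classical
  have hpp : p.Prime := Fact.out
  have haH : a ∈ H := by rw [hab]; exact Subgroup.subset_closure (by simp)
  have hbH : b ∈ H := by rw [hab]; exact Subgroup.subset_closure (by simp)
  set a' : H := ⟨a, haH⟩ with ha'
  set b' : H := ⟨b, hbH⟩ with hb'
  have hgen : Subgroup.closure {a', b'} = (⊤ : Subgroup H) := by
    apply Subgroup.map_injective H.subtype_injective
    rw [MonoidHom.map_closure, ← MonoidHom.range_eq_map, Subgroup.range_subtype]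
    rw [Set.image_pair]
    exact hab.symm
  -- the representation
  set ρ := conjRep hV hHV with hρ
  have hρinj : Function.Injective ρ := conjRep_injective hV hHV hf
  have hqa := conjRep_quadratic hV hHV a' ha
  have hqb := conjRep_quadratic hV hHV b' hb
  -- a nontrivial element of [Q, a]
  have hza : Subgroup.zpowers a ≤ H := by
    rw [Subgroup.zpowers_le]; exact haH
  have hcQ : ⁅Q, Subgroup.zpowers a⁆ ≤ Q :=
    commutator_le_of_le_normalizer Q _ (hza.trans hQn)
  obtain ⟨⟨h, hh⟩, hh1⟩ := (Subgroup.ne_bot_iff_exists_ne_one).mp hQa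
  have hh1' : h ≠ 1 := fun h0 => hh1 (Subtype.ext h0)
  have hhQ : h ∈ Q := hcQ hh
  have hhH : h ∈ H := hQH hhQ
  set h' : H := ⟨h, hhH⟩ with hh'
  have hh'1 : h' ≠ 1 := fun h0 => hh1' (congrArg Subtype.val h0)
  have hoh : (orderOf h').Coprime p := by
    have h1 : orderOf h' = orderOf h := Subgroup.orderOf_mk h hhH
    have h2 : orderOf (⟨h, hhQ⟩ : Q) = orderOf h := Subgroup.orderOf_mk h hhQ
    rw [h1, ← h2]
    exact Nat.Coprime.coprime_dvd_left (orderOf_dvd_natCard _) hQ
  have hρh : ρ h' ≠ 1 := fun h0 => hh'1 (hρinj (by rw [h0, map_one]))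
  obtain ⟨F, _, _, _, φ, hφ⟩ := exists_field_sl2_hom ρ a' b' hgen hqa hqb h' hρh hoh
  -- a' is a p-element
  have hap : a' ^ p = 1 := by
    apply hρinj
    rw [map_pow, map_one]
    exact pow_char_eq_one_of_quad (K := ZMod p) (p := p) (ρ a') hqa
  have hφap : (φ a') ^ p = 1 := by rw [← map_pow, hap, map_one]
  -- the p'-subgroup R
  set QH : Subgroup H := Q.subgroupOf H with hQH'
  set R := QH.map φ with hR
  have hQHcard : Nat.card QH = Nat.card Q := by
    rw [hQH']
    exact Nat.card_congr (Subgroup.subgroupOfEquivOfLe hQH).toEquiv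
  have hRcard : (Nat.card R).Coprime p := by
    have : Nat.card R ∣ Nat.card QH := Subgroup.card_map_dvd QH φ
    rw [hQHcard] at this
    exact Nat.Coprime.coprime_dvd_left this hQ
  have haQH : a' ∈ Subgroup.normalizer (QH : Set H) := by
    rw [Subgroup.mem_normalizer_iff]
    intro x
    rw [hQH', Subgroup.mem_subgroupOf, Subgroup.mem_subgroupOf]
    exact hQn haH x
  have haR : φ a' ∈ Subgroup.normalizer (R : Set (Matrix.SpecialLinearGroup (Fin 2) F)) := by
    have := Subgroup.le_normalizer_map φ (Subgroup.mem_map_of_mem φ haQH)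
    exact this
  have hcomm : ⁅R, Subgroup.zpowers (φ a')⁆ ≠ ⊥ := by
    have h1 : h' ∈ ⁅QH, Subgroup.zpowers a'⁆ := by
      have h2 : (⁅QH, Subgroup.zpowers a'⁆).map H.subtype = ⁅Q, Subgroup.zpowers a⁆ := by
        rw [Subgroup.map_commutator, MonoidHom.map_zpowers, hQH', Subgroup.map_subgroupOf_eq_of_le hQH]
        rfl
      rw [← h2] at hh
      obtain ⟨x, hx, hxh⟩ := hh
      have : x = h' := Subtype.ext hxh
      rw [← this]; exact hx
    have h3 : φ h' ∈ ⁅R, Subgroup.zpowers (φ a')⁆ := by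
      rw [hR, ← MonoidHom.map_zpowers, ← Subgroup.map_commutator]
      exact Subgroup.mem_map_of_mem φ h1
    intro h0
    rw [h0, Subgroup.mem_bot] at h3
    exact hφ h3
  obtain ⟨hp3, -, ⟨e⟩⟩ := Cfsg.Agent.S3740.result F hp (φ a')
    (isPGroup_zpowers_of_pow_eq_one _ hφap) R hRcard haR hcomm
  refine ⟨hp3, ?_⟩
  have hS : R ⊔ Subgroup.zpowers (φ a') ≤ φ.range := by
    rw [sup_le_iff]
    refine ⟨?_, ?_⟩
    · rw [hR, MonoidHom.range_eq_map]; exact Subgroup.map_mono le_top
    · rw [Subgroup.zpowers_le]; exact ⟨a', rfl⟩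
  exact exists_section_of_hom H φ _ hS e

end Cfsg.Agent.S0594
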