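import Cfsg.Statements.S0595
-- import your own Cfsg.Agent.* helpers here
import Cfsg.Agent.S0593
import Cfsg.Agent.Lib.Helper67.BaerSuzuki

set_option autoImplicit false
open Cfsg

namespace Cfsg.Agent.S0595

/-- For odd p, a faithful action on an elementary abelian p-group that is not p-stable forces non-abelian Sylow 2-subgroups. -/
theorem result {G : Type*} [Group G] [Finite G] {p : ℕ} [Fact p.Prime] (hp : p ≠ 2) (V H : Subgroup G) (hV : Cfsg.IsElementaryAbelian p V) (hHV : H ≤ Subgroup.normalizer (V : Set G)) (hf : H ⊓ Subgroup.centralizer (V : Set G) = ⊥) (a : G) (haH : a ∈ H) (hq : ⁅⁅V, Subgroup.zpowers a⁆, Subgroup.zpowers a⁆ = ⊥) (hna : a ∉ (Cfsg.pCore p H).map H.subtype) (T : Sylow 2 H) : ¬ IsMulCommutative T := by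
  classical
  intro hTc
  have hpp : p.Prime := Fact.out
  set a' : H := ⟨a, haH⟩ with ha'
  -- Baer–Suzuki inside `H`
  have hBS : ∃ g : H, ¬ IsPGroup p ↥(Subgroup.zpowers a' ⊔
      (Subgroup.zpowers a').map (MulAut.conj g).toMonoidHom) := by
    by_contra hcon
    push Not at hcon
    obtain ⟨N, hN, hNp, hle⟩ := Cfsg.Agent.Helper67.baer_suzuki (p := p) (Subgroup.zpowers a') hcon
    apply hna
    refine ⟨a', ?_, rfl⟩
    have h1 : N ≤ Cfsg.pCore p H := le_sSup ⟨hN, hNp⟩
    exact h1 (hle (Subgroup.mem_zpowers a'))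
  obtain ⟨g, hg⟩ := hBS
  set b : G := (g : G) * a * (g : G)⁻¹ with hb
  set H₀ : Subgroup G := Subgroup.closure {a, b} with hH₀
  have hgH : (g : G) ∈ H := g.2
  have hbH : b ∈ H := H.mul_mem (H.mul_mem hgH haH) (H.inv_mem hgH)
  have hH₀H : H₀ ≤ H := by
    rw [hH₀, Subgroup.closure_le]
    intro x hx
    rcases hx with rfl | hx
    · exact haH
    · rw [Set.mem_singleton_iff] at hx; subst hx; exact hbH
  -- the subgroup of `H` generated by `a'` and its conjugate maps onto `H₀`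
  set W : Subgroup H := Subgroup.zpowers a' ⊔
      (Subgroup.zpowers a').map (MulAut.conj g).toMonoidHom with hW
  have hWmap : W.map H.subtype = H₀ := by
    rw [hW, Subgroup.map_sup, Subgroup.map_map, MonoidHom.map_zpowers, MonoidHom.map_zpowers,
      Subgroup.zpowers_eq_closure, Subgroup.zpowers_eq_closure, ← Subgroup.closure_union]
    rfl
  have hnp₀ : ¬ IsPGroup p H₀ := by
    intro h0
    apply hg
    rw [← hWmap] at h0
    exact h0.of_equiv (W.equivMapOfInjective H.subtype H.subtype_injective).symm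
  -- `b` acts quadratically
  have hgN : (g : G) ∈ Subgroup.normalizer (V : Set G) := hHV hgH
  set c : G →* G := (MulAut.conj (g : G)).toMonoidHom with hc
  have hVc : V.map c = V := by
    ext x
    rw [Subgroup.mem_map]
    constructor
    · rintro ⟨v, hv, rfl⟩
      exact (Subgroup.mem_normalizer_iff.mp hgN v).mp hv
    · intro hx
      refine ⟨(g : G)⁻¹ * x * (g : G), ?_, ?_⟩
      · rw [Subgroup.mem_normalizer_iff.mp hgN]
        have : (g : G) * ((g : G)⁻¹ * x * (g : G)) * (g : G)⁻¹ = x := by group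
        rw [this]; exact hx
      · show (g : G) * ((g : G)⁻¹ * x * (g : G)) * (g : G)⁻¹ = x
        group
  have hzc : (Subgroup.zpowers a).map c = Subgroup.zpowers b := by
    rw [MonoidHom.map_zpowers]; rfl
  have hbq : ⁅⁅V, Subgroup.zpowers b⁆, Subgroup.zpowers b⁆ = ⊥ := by
    rw [← hzc]
    nth_rewrite 1 [← hVc]
    rw [← Subgroup.map_commutator, ← Subgroup.map_commutator, hq, Subgroup.map_bot]
  have hf₀ : H₀ ⊓ Subgroup.centralizer (V : Set G) = ⊥ := by
    rw [eq_bot_iff, ← hf]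
    exact inf_le_inf_right _ hH₀H
  obtain ⟨T₀⟩ : Nonempty (Sylow 2 H₀) := inferInstance
  apply Cfsg.Agent.S0593.result hp V H₀ hV (hH₀H.trans hHV) hf₀ a b rfl hq hbq hnp₀ T₀
  -- `T₀` is abelian since it embeds in a conjugate of `T`
  set T₀' : Subgroup H := (T₀ : Subgroup H₀).map (Subgroup.inclusion hH₀H) with hT₀'
  have hT₀p : IsPGroup 2 T₀' := T₀.isPGroup'.map _
  obtain ⟨Q, hQ⟩ := hT₀p.exists_le_sylow
  obtain ⟨k, hk⟩ := MulAction.exists_smul_eq H T Q
  have hQcomm : ∀ x ∈ (Q : Subgroup H), ∀ y ∈ (Q : Subgroup H), x * y = y * x := by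
    intro x hx y hy
    rw [← hk, Sylow.coe_subgroup_smul, Subgroup.mem_smul_pointwise_iff_exists] at hx hy
    obtain ⟨s, hs, rfl⟩ := hx
    obtain ⟨t, ht, rfl⟩ := hy
    have hst : s * t = t * s := by
      have := mul_comm' (⟨s, hs⟩ : ↥T) ⟨t, ht⟩
      exact congrArg Subtype.val this
    simp only [MulAut.smul_def, MulAut.conj_apply]
    calc k * s * k⁻¹ * (k * t * k⁻¹) = k * (s * t) * k⁻¹ := by group
      _ = k * (t * s) * k⁻¹ := by rw [hst]
      _ = k * t * k⁻¹ * (k * s * k⁻¹) := by group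
  refine ⟨⟨fun x y => ?_⟩⟩
  have hx : Subgroup.inclusion hH₀H (x : H₀) ∈ (Q : Subgroup H) := hQ ⟨_, x.2, rfl⟩
  have hy : Subgroup.inclusion hH₀H (y : H₀) ∈ (Q : Subgroup H) := hQ ⟨_, y.2, rfl⟩
  have h1 := hQcomm _ hx _ hy
  rw [← map_mul, ← map_mul] at h1
  have h2 := Subgroup.inclusion_injective hH₀H h1
  exact Subtype.ext h2

end Cfsg.Agent.S0595
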