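import Cfsg.Statements.S0596
import Cfsg.Agent.Lib.Helper10.ConjRep
import Cfsg.Agent.Lib.Helper10.QuadPStable
import Cfsg.Agent.Lib.Helper10.SectionHom

set_option autoImplicit false
open Cfsg

namespace Cfsg.Agent.S0596

open Cfsg.Agent.Helper10

/-- For odd p, a p-separable group with a faithful action on an elementary abelian p-group that is not p-stable has p = 3 and involves SL(2,3). -/
theorem result {G : Type*} [Group G] [Finite G] {p : ℕ} [Fact p.Prime] (hp : p ≠ 2) (V H : Subgroup G) (hV : Cfsg.IsElementaryAbelian p V) (hHV : H ≤ Subgroup.normalizer (V : Set G)) (hf : H ⊓ Subgroup.centralizer (V : Set G) = ⊥) (hsep : Cfsg.IsPSolvable p H) (a : G) (haH : a ∈ H) (hq : ⁅⁅V, Subgroup.zpowers a⁆, Subgroup.zpowers a⁆ = ⊥) (hna : a ∉ (Cfsg.pCore p H).map H.subtype) : p = 3 ∧ ∃ (K L : Subgroup G) (hL : (L.subgroupOf K).Normal), K ≤ H ∧ Nonempty ((K ⧸ L.subgroupOf K) ≃* Matrix.SpecialLinearGroup (Fin 2) (ZMod 3)) := by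
  classical
  set a' : H := ⟨a, haH⟩ with ha'
  have hρinj := conjRep_injective hV hHV hf
  have hqa := conjRep_quadratic hV hHV a' hq
  have hna' : a' ∉ pCore p H := fun h => hna ⟨a', h, rfl⟩
  obtain ⟨hp3, Γ₀, F, _, φ, S, hS, ⟨e⟩⟩ :=
    exists_sl23_of_quadratic_not_mem_pCore hp (conjRep hV hHV) hρinj hsep a' hqa hna'
  refine ⟨hp3, ?_⟩
  set H₀ : Subgroup G := Γ₀.map H.subtype with hH₀
  let ι : Γ₀ ≃* H₀ := Γ₀.equivMapOfInjective H.subtype H.subtype_injective
  set φ' : H₀ →* Matrix.SpecialLinearGroup (Fin 2) F := φ.comp ι.symm.toMonoidHom with hφ'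
  have hS' : S ≤ φ'.range := by
    intro s hs
    obtain ⟨x, rfl⟩ := hS hs
    exact ⟨ι x, by simp [hφ']⟩
  obtain ⟨K, L, hL, hK, hiso⟩ := exists_section_of_hom H₀ φ' S hS' e
  exact ⟨K, L, hL, hK.trans (Subgroup.map_subtype_le _), hiso⟩

end Cfsg.Agent.S0596
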