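import Cfsg.Statements.S0597
import Cfsg.Agent.S0538
import Cfsg.Agent.Lib.Helper22.Radical
import Cfsg.Agent.Lib.Helper10.Quadratic

set_option autoImplicit false
open Cfsg

namespace Cfsg.Agent.S0597

open Cfsg.Agent.Helper10
open scoped commutatorElement

variable {G : Type*} [Group G]

/-- The subgroup of elements normalizing `V` and `W` and acting trivially on `V / W`. -/
def stabChain (V W : Subgroup G) : Subgroup G where
  carrier := {h | h ∈ Subgroup.normalizer (V : Set G) ∧ h ∈ Subgroup.normalizer (W : Set G) ∧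
    ∀ v ∈ V, ⁅v, h⁆ ∈ W}
  one_mem' := ⟨Subgroup.one_mem _, Subgroup.one_mem _, fun v _ => by
    rw [commutatorElement_one_right]; exact W.one_mem⟩
  mul_mem' := by
    rintro a b ⟨haV, haW, ha⟩ ⟨hbV, hbW, hb⟩
    refine ⟨Subgroup.mul_mem _ haV hbV, Subgroup.mul_mem _ haW hbW, fun v hv => ?_⟩
    rw [commutatorElement_mul_right_eq_mul_conj]
    have h1 : a * ⁅v, b⁆ * a⁻¹ ∈ W := (Subgroup.mem_normalizer_iff.mp haW _).mp (hb v hv)
    have h2 : ⁅v, a⁆ * a * ⁅v, b⁆ * a⁻¹ = ⁅v, a⁆ * (a * ⁅v, b⁆ * a⁻¹) := by group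
    rw [h2]
    exact W.mul_mem (ha v hv) h1
  inv_mem' := by
    rintro a ⟨haV, haW, ha⟩
    refine ⟨Subgroup.inv_mem _ haV, Subgroup.inv_mem _ haW, fun v hv => ?_⟩
    rw [commutatorElement_inv_right]
    have h1 : ⁅a, v⁆ ∈ W := by
      rw [← commutatorElement_inv]; exact W.inv_mem (ha v hv)
    have := (Subgroup.mem_normalizer_iff.mp (Subgroup.inv_mem _ haW) _).mp h1
    rwa [inv_inv] at this

lemma mem_stabChain {V W : Subgroup G} {h : G} : h ∈ stabChain V W ↔
    h ∈ Subgroup.normalizer (V : Set G) ∧ h ∈ Subgroup.normalizer (W : Set G) ∧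
    ∀ v ∈ V, ⁅v, h⁆ ∈ W := Iff.rfl

/-- Conjugating an element of `stabChain V W` by an element normalizing `V` and `W`. -/
lemma conj_mem_stabChain {V W : Subgroup G} {e t : G}
    (heV : e ∈ Subgroup.normalizer (V : Set G)) (heW : e ∈ Subgroup.normalizer (W : Set G))
    (ht : t ∈ stabChain V W) : e * t * e⁻¹ ∈ stabChain V W := by
  obtain ⟨htV, htW, ht⟩ := ht
  refine ⟨Subgroup.mul_mem _ (Subgroup.mul_mem _ heV htV) (Subgroup.inv_mem _ heV),
    Subgroup.mul_mem _ (Subgroup.mul_mem _ heW htW) (Subgroup.inv_mem _ heW), fun v hv => ?_⟩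
  have hv' : e⁻¹ * v * e ∈ V := by
    have := (Subgroup.mem_normalizer_iff.mp (Subgroup.inv_mem _ heV) v).mp hv
    rwa [inv_inv] at this
  have h1 : ⁅v, e * t * e⁻¹⁆ = e * ⁅e⁻¹ * v * e, t⁆ * e⁻¹ := by
    rw [conjugate_commutatorElement]
    congr 1
    group
  rw [h1]
  exact (Subgroup.mem_normalizer_iff.mp heW _).mp (ht _ hv')

/-- If two subnormal subgroups of a faithful group on an elementary abelian p-group satisfy [V, E₁, E₂] = 1, then their commutator lies in the largest normal p-subgroup. -/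
theorem result {G : Type*} [Group G] [Finite G] {p : ℕ} [Fact p.Prime] (V H : Subgroup G) (hV : Cfsg.IsElementaryAbelian p V) (hHV : H ≤ Subgroup.normalizer (V : Set G)) (hf : H ⊓ Subgroup.centralizer (V : Set G) = ⊥) (E₁ E₂ : Subgroup G) (h₁ : E₁ ≤ H) (h₂ : E₂ ≤ H) (hs₁ : (E₁.subgroupOf H).IsSubnormal) (hs₂ : (E₂.subgroupOf H).IsSubnormal) (hc : ⁅⁅V, E₁⁆, E₂⁆ = ⊥) : ⁅E₁, E₂⁆ ≤ (Cfsg.pCore p H).map H.subtype := by
  set W := ⁅V, E₁⁆ with hW
  have hE₁V : E₁ ≤ Subgroup.normalizer (V : Set G) := h₁.trans hHV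
  have hE₂V : E₂ ≤ Subgroup.normalizer (V : Set G) := h₂.trans hHV
  have hWV : W ≤ V := Subgroup.le_normalizer_iff_commutator_le_left.mp hE₁V
  have hE₁W : E₁ ≤ Subgroup.normalizer (W : Set G) := Subgroup.normalizer_commutator_ge_right _ _
  have hE₂CW : E₂ ≤ Subgroup.centralizer (W : Set G) := by
    rw [Subgroup.commutator_eq_bot_iff_le_centralizer] at hc
    exact Subgroup.le_centralizer_iff.mp hc
  have hE₂W : E₂ ≤ Subgroup.normalizer (W : Set G) :=
    hE₂CW.trans (Subgroup.centralizer_le_normalizer _)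
  -- X ≤ stabChain V W
  have hE₁T : E₁ ≤ stabChain V W := by
    intro e he
    exact ⟨hE₁V he, hE₁W he, fun v hv => Subgroup.commutator_mem_commutator hv he⟩
  have hXT : ⁅E₁, E₂⁆ ≤ stabChain V W := by
    rw [Subgroup.commutator_le]
    intro a ha b hb
    have h1 : ⁅a, b⁆ = a * (b * a⁻¹ * b⁻¹) := by rw [commutatorElement_def]; group
    rw [h1]
    exact Subgroup.mul_mem _ (hE₁T ha)
      (conj_mem_stabChain (hE₂V hb) (hE₂W hb) (Subgroup.inv_mem _ (hE₁T ha)))
  -- X centralizes W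
  have hXW : ⁅⁅E₁, E₂⁆, W⁆ = ⊥ := by
    apply Subgroup.commutator_commutator_eq_bot_of_rotate
    · rw [Subgroup.commutator_comm E₂ W, hc, Subgroup.commutator_bot_left]
    · rw [eq_bot_iff, ← hc]
      exact Subgroup.commutator_mono (Subgroup.le_normalizer_iff_commutator_le_left.mp hE₁W) le_rfl
  have hXCW : ⁅E₁, E₂⁆ ≤ Subgroup.centralizer (W : Set G) :=
    Subgroup.commutator_eq_bot_iff_le_centralizer.mp hXW
  have hXH : ⁅E₁, E₂⁆ ≤ H := (Subgroup.commutator_le_sup _ _).trans (sup_le h₁ h₂)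
  -- every element of X has p-th power 1
  have hpow : ∀ x ∈ ⁅E₁, E₂⁆, x ^ p = 1 := by
    intro x hx
    have hxp : x ^ p ∈ H ⊓ Subgroup.centralizer (V : Set G) := by
      refine Subgroup.mem_inf.mpr ⟨H.pow_mem (hXH hx) p, ?_⟩
      rw [Subgroup.mem_centralizer_iff]
      intro v hv
      obtain ⟨_, _, hxT⟩ := hXT hx
      -- x v x⁻¹ = w v with w = ⁅x, v⁆ ∈ W, and x commutes with w
      have hw : ⁅x, v⁆ ∈ W := by
        rw [← commutatorElement_inv]; exact W.inv_mem (hxT v hv)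
      have hav : x * v * x⁻¹ = ⁅x, v⁆ * v := by rw [commutatorElement_def]; group
      have hcomm : ∀ h ∈ Subgroup.zpowers x, h * ⁅x, v⁆ = ⁅x, v⁆ * h := by
        intro h hh
        obtain ⟨k, rfl⟩ := Subgroup.mem_zpowers_iff.mp hh
        have : Commute x ⁅x, v⁆ := (hXCW hx _ hw).symm
        exact (this.zpow_left k)
      have h3 := quadratic_conj_pow (H := Subgroup.zpowers x) (Subgroup.mem_zpowers x) hcomm hav p
      have hwp : ⁅x, v⁆ ^ p = 1 := hV.2 _ (hWV hw)
      rw [hwp, one_mul] at h3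
      calc v * x ^ p = (x ^ p * v * (x ^ p)⁻¹) * x ^ p := by rw [h3]
        _ = x ^ p * v := by group
    rw [hf, Subgroup.mem_bot] at hxp
    exact hxp
  -- pass to the group H
  set E₁' := E₁.subgroupOf H with hE₁'
  set E₂' := E₂.subgroupOf H with hE₂'
  have hsup : (E₁' ⊔ E₂').IsSubnormal := Cfsg.Agent.S0538.result E₁' E₂' hs₁ hs₂
  have hXsub : (⁅E₁', E₂'⁆ : Subgroup H).IsSubnormal :=
    Subgroup.IsSubnormal.step _ _ (Subgroup.commutator_le_sup _ _) hsup
      (Subgroup.normal_subgroupOf_commutator_sup _ _)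
  have hmap : (⁅E₁', E₂'⁆ : Subgroup H).map H.subtype = ⁅E₁, E₂⁆ := by
    rw [Subgroup.map_commutator, Subgroup.map_subgroupOf_eq_of_le h₁,
      Subgroup.map_subgroupOf_eq_of_le h₂]
  have hXp : IsPGroup p (⁅E₁', E₂'⁆ : Subgroup H) := by
    intro x
    refine ⟨1, ?_⟩
    rw [pow_one]
    have hx : ((x : H) : G) ∈ ⁅E₁, E₂⁆ := by
      rw [← hmap]; exact ⟨x.1, x.2, rfl⟩
    have := hpow _ hx
    apply Subtype.ext
    apply Subtype.ext
    simpa using this
  have hle := Cfsg.Agent.Helper22.subnormal_isPGroup_le_pCore hXsub hXp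
  rw [← hmap]
  exact Subgroup.map_mono hle

end Cfsg.Agent.S0597
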