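import Cfsg.Statements.S0599
import Mathlib
import Cfsg.Agent.Lib.Helper51.NilAction
import Cfsg.Agent.Lib.Helper10.ElemAb

set_option autoImplicit false
open Cfsg

namespace Cfsg.Agent.S0599

open Cfsg.Agent.Helper51

/-- The Timmesfeld replacement Theorem: replacing a best offender A by C_A([U, A]) gives a best offender with fixed points [U, A]C_V(A), still nontrivial on V if A was. -/
theorem result {G : Type*} [Group G] [Finite G] {p : ℕ} [Fact p.Prime] (V A : Subgroup G) (hV : Cfsg.IsElementaryAbelian p V) (hAV : A ≤ Subgroup.normalizer (V : Set G)) (hA : Cfsg.IsBestOffenderOn p V A) (U : Subgroup G) (hU : U ≤ V) : Cfsg.IsBestOffenderOn p V (A ⊓ Subgroup.centralizer ((⁅U, A⁆ : Subgroup G) : Set G)) ∧ V ⊓ Subgroup.centralizer ((A ⊓ Subgroup.centralizer ((⁅U, A⁆ : Subgroup G) : Set G) : Subgroup G) : Set G) = ⁅U, A⁆ ⊔ (V ⊓ Subgroup.centralizer (A : Set G)) ∧ (⁅V, A⁆ ≠ ⊥ → ⁅V, A ⊓ Subgroup.centralizer ((⁅U, A⁆ : Subgroup G) : Set G)⁆ ≠ ⊥) := by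
  have hVc : ∀ x ∈ V, ∀ y ∈ V, x * y = y * x := by
    have := hV.1
    intro x hx y hy
    exact setLike_mul_comm hx hy
  have hVp : IsPGroup p V := Cfsg.Agent.Helper10.elemAb_isPGroup hV
  obtain ⟨hmax, hab, hpow⟩ := hA
  have hmax' : ∀ B : Subgroup G, B ≤ A → tm V B ≤ tm V A := hmax
  obtain ⟨h1, h2⟩ := goodSub_commutator hVc hAV hab hmax' hU
  refine ⟨⟨?_, ?_, ?_⟩, h2, ?_⟩
  · intro B' hB'
    have := hmax' B' (hB'.trans inf_le_left)
    rw [← h1] at this
    exact this
  · exact (Subgroup.commutator_mono inf_le_left inf_le_left).trans hab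
  · intro b hb
    exact hpow b hb.1
  · intro hne hbot
    apply hne
    rw [Subgroup.commutator_eq_bot_iff_le_centralizer] at hbot
    have hVle : V ≤ ⁅U, A⁆ ⊔ cv V A := by
      rw [← h2]
      exact le_inf le_rfl hbot
    exact commutator_eq_bot_of_sup_cv hVc hVp hAV hab hpow
      (Subgroup.commutator_mono hU le_rfl) hVle

end Cfsg.Agent.S0599
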