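import Cfsg.Statements.S0600
import Cfsg.Agent.Lib.Helper10.MinNormal2

set_option autoImplicit false
open Cfsg

namespace Cfsg.Agent.S0600

open Cfsg.Agent.Helper10

/-- If `V` is generated by the subgroups `V ⊓ C(S)` for `S` Sylow, then any `D ⊴ G` whose image
modulo `C(V)` is a `p`-group... general form: if `d` is in `S * C(V)` for each Sylow `S`, then
`d` centralizes `V`. -/
lemma mem_centralizer_of_forall_sylow {G : Type*} [Group G] {p : ℕ}
    (V : Subgroup G)
    (hgen : V = ⨆ S : Sylow p G, V ⊓ Subgroup.centralizer ((S : Subgroup G) : Set G))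
    (d : G) (hd : ∀ S : Sylow p G, ∃ s ∈ (S : Subgroup G), s⁻¹ * d ∈ Subgroup.centralizer (V : Set G)) :
    d ∈ Subgroup.centralizer (V : Set G) := by
  have h1 : V ≤ Subgroup.centralizer ({d} : Set G) := by
    calc V = ⨆ S : Sylow p G, V ⊓ Subgroup.centralizer ((S : Subgroup G) : Set G) := hgen
      _ ≤ Subgroup.centralizer ({d} : Set G) := by
        apply iSup_le
        intro S v hv
        obtain ⟨s, hs, hc⟩ := hd S
        rw [Subgroup.mem_centralizer_iff]
        intro x hx
        rw [Set.mem_singleton_iff] at hx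
        subst hx
        have hvs : s * v = v * s := hv.2 s hs
        have hvc : v * (s⁻¹ * x) = (s⁻¹ * x) * v := hc v hv.1
        calc x * v = s * ((s⁻¹ * x) * v) := by group
          _ = s * (v * (s⁻¹ * x)) := by rw [hvc]
          _ = (s * v) * (s⁻¹ * x) := by group
          _ = (v * s) * (s⁻¹ * x) := by rw [hvs]
          _ = v * x := by group
  rw [Subgroup.mem_centralizer_iff]
  intro v hv
  exact (h1 hv d rfl).symm

/-- A normal elementary abelian p-subgroup generated by the fixed points of the Sylow p-subgroups admits no nontrivial normal p-subgroup of G modulo its centralizer. -/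
theorem result {G : Type*} [Group G] [Finite G] {p : ℕ} [Fact p.Prime] (V : Subgroup G) [V.Normal] (hV : Cfsg.IsElementaryAbelian p V) (hgen : V = ⨆ S : Sylow p G, V ⊓ Subgroup.centralizer ((S : Subgroup G) : Set G)) : Cfsg.pCore p (G ⧸ Subgroup.centralizer (V : Set G)) = ⊥ := by
  set C := Subgroup.centralizer (V : Set G) with hC
  rw [eq_bot_iff]
  intro x hx
  obtain ⟨d, rfl⟩ := QuotientGroup.mk_surjective x
  rw [Subgroup.mem_bot, QuotientGroup.eq_one_iff]
  apply mem_centralizer_of_forall_sylow V hgen
  intro S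
  have hsurj : Function.Surjective (QuotientGroup.mk' C) := QuotientGroup.mk'_surjective C
  have h1 := pCore_le_sylow (S.mapSurjective hsurj) hx
  rw [← SetLike.mem_coe, Sylow.coe_mapSurjective] at h1
  obtain ⟨s, hs, hsd⟩ := h1
  refine ⟨s, hs, ?_⟩
  have : ((s⁻¹ * d : G) : G ⧸ C) = 1 := by
    rw [QuotientGroup.mk_mul, QuotientGroup.mk_inv]
    rw [QuotientGroup.mk'_apply] at hsd
    rw [hsd, inv_mul_cancel]
  exact (QuotientGroup.eq_one_iff _).mp this

end Cfsg.Agent.S0600
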