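import Cfsg.Statements.S0601
import Cfsg.Agent.S0600
import Cfsg.Agent.Lib.Helper10.ElemAb
import Cfsg.Agent.Lib.Helper10.MinNormal2

set_option autoImplicit false
open Cfsg

namespace Cfsg.Agent.S0601

open Cfsg.Agent.Helper10

variable {G : Type*} [Group G]

lemma omegaOne_le (p : ℕ) (H : Subgroup G) : Cfsg.omegaOne p H ≤ H := by
  unfold Cfsg.omegaOne
  rw [Subgroup.closure_le]
  intro x hx
  exact hx.1

lemma omegaOne_mono (p : ℕ) {H K : Subgroup G} (h : H ≤ K) :
    Cfsg.omegaOne p H ≤ Cfsg.omegaOne p K := by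
  unfold Cfsg.omegaOne
  apply Subgroup.closure_mono
  intro x hx
  exact ⟨h hx.1, hx.2⟩

lemma omegaOne_elemAb (p : ℕ) (H : Subgroup G) (hH : ∀ a ∈ H, ∀ b ∈ H, a * b = b * a) :
    Cfsg.IsElementaryAbelian p (Cfsg.omegaOne p H) := by
  rw [isElementaryAbelian_iff]
  let Ω : Subgroup G :=
    { carrier := {x | x ∈ H ∧ x ^ p = 1}
      mul_mem' := by
        rintro a b ⟨ha, hap⟩ ⟨hb, hbp⟩
        refine ⟨H.mul_mem ha hb, ?_⟩
        have : Commute a b := hH a ha b hb
        rw [this.mul_pow, hap, hbp, one_mul]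
      one_mem' := ⟨H.one_mem, one_pow p⟩
      inv_mem' := by
        rintro a ⟨ha, hap⟩
        exact ⟨H.inv_mem ha, by rw [inv_pow, hap, inv_one]⟩ }
  have hle : Cfsg.omegaOne p H ≤ Ω := by
    unfold Cfsg.omegaOne
    rw [Subgroup.closure_le]
    intro x hx
    exact hx
  constructor
  · intro a ha b hb
    exact hH a (hle ha).1 b (hle hb).1
  · intro a ha
    exact (hle ha).2

/-- When O_p(G) contains its centralizer, the normal closure of Ω₁(Z(S)) is elementary abelian and G has no nontrivial normal p-subgroup modulo its centralizer. -/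
theorem result {G : Type*} [Group G] [Finite G] {p : ℕ} [Fact p.Prime] (hc : Subgroup.centralizer (Cfsg.pCore p G : Set G) ≤ Cfsg.pCore p G) : (⨆ S : Sylow p G, Cfsg.omegaOne p (((S : Subgroup G)) ⊓ Subgroup.centralizer ((S : Subgroup G) : Set G))).Normal ∧ Cfsg.IsElementaryAbelian p (⨆ S : Sylow p G, Cfsg.omegaOne p (((S : Subgroup G)) ⊓ Subgroup.centralizer ((S : Subgroup G) : Set G))) ∧ ∀ D : Subgroup G, D.Normal → Subgroup.centralizer ((⨆ S : Sylow p G, Cfsg.omegaOne p (((S : Subgroup G)) ⊓ Subgroup.centralizer ((S : Subgroup G) : Set G)) : Subgroup G) : Set G) ≤ D → (∃ k : ℕ, (Subgroup.centralizer ((⨆ S : Sylow p G, Cfsg.omegaOne p (((S : Subgroup G)) ⊓ Subgroup.centralizer ((S : Subgroup G) : Set G)) : Subgroup G) : Set G)).relIndex D = p ^ k) → D = Subgroup.centralizer ((⨆ S : Sylow p G, Cfsg.omegaOne p (((S : Subgroup G)) ⊓ Subgroup.centralizer ((S : Subgroup G) : Set G)) : Subgroup G) : Set G) := by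
  set W : Subgroup G := ⨆ S : Sylow p G, Cfsg.omegaOne p (((S : Subgroup G)) ⊓ Subgroup.centralizer ((S : Subgroup G) : Set G)) with hW
  set Q := Cfsg.pCore p G with hQ
  -- W is normal
  have hWn : W.Normal := by
    constructor
    intro n hn g
    have hle : W ≤ W.comap (MulAut.conj g).toMonoidHom := by
      rw [hW]
      apply iSup_le
      intro S
      unfold Cfsg.omegaOne
      rw [Subgroup.closure_le]
      rintro x ⟨hx, hxp⟩
      rw [Subgroup.mem_inf] at hx
      obtain ⟨hxS, hxC⟩ := hx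
      rw [SetLike.mem_coe, Subgroup.mem_comap]
      show (MulAut.conj g) x ∈ _
      rw [MulAut.conj_apply]
      apply Subgroup.mem_iSup_of_mem (g • S)
      apply Subgroup.subset_closure
      refine ⟨Subgroup.mem_inf.mpr ⟨?_, ?_⟩, ?_⟩
      · rw [Sylow.coe_subgroup_smul]
        exact ⟨x, hxS, rfl⟩
      · rw [Subgroup.mem_centralizer_iff]
        intro y hy
        rw [SetLike.mem_coe, Sylow.coe_subgroup_smul] at hy
        obtain ⟨y0, hy0, rfl⟩ := hy
        have := hxC y0 hy0
        show (MulAut.conj g) y0 * _ = _ * (MulAut.conj g) y0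
        rw [MulAut.conj_apply]
        calc g * y0 * g⁻¹ * (g * x * g⁻¹) = g * (y0 * x) * g⁻¹ := by group
          _ = g * (x * y0) * g⁻¹ := by rw [this]
          _ = g * x * g⁻¹ * (g * y0 * g⁻¹) := by group
      · rw [conj_pow, hxp, mul_one, mul_inv_cancel]
    have := hle hn
    simpa using this
  haveI := hWn
  -- W is elementary abelian
  have hZle : ∀ S : Sylow p G, ((S : Subgroup G)) ⊓ Subgroup.centralizer ((S : Subgroup G) : Set G) ≤
      Q ⊓ Subgroup.centralizer (Q : Set G) := by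
    intro S x hx
    have hQS : Q ≤ S := pCore_le_sylow S
    have h1 : x ∈ Subgroup.centralizer (Q : Set G) := Subgroup.centralizer_le hQS hx.2
    exact ⟨hc h1, h1⟩
  have hWle : W ≤ Cfsg.omegaOne p (Q ⊓ Subgroup.centralizer (Q : Set G)) := by
    rw [hW]
    apply iSup_le
    intro S
    exact omegaOne_mono p (hZle S)
  have hWea : Cfsg.IsElementaryAbelian p W := by
    refine elemAb_mono (omegaOne_elemAb p _ ?_) hWle
    intro a ha b hb
    exact (ha.2 b hb.1).symm
  refine ⟨hWn, hWea, ?_⟩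
  intro D hDn hCD ⟨k, hk⟩
  -- apply S0600
  have hgen : W = ⨆ S : Sylow p G, W ⊓ Subgroup.centralizer ((S : Subgroup G) : Set G) := by
    apply le_antisymm
    · rw [hW]
      apply iSup_le
      intro S
      refine le_trans ?_ (le_iSup _ S)
      apply le_inf
      · exact le_iSup (fun S : Sylow p G => Cfsg.omegaOne p (((S : Subgroup G)) ⊓ Subgroup.centralizer ((S : Subgroup G) : Set G))) S
      · exact le_trans (omegaOne_le p _) inf_le_right
    · apply iSup_le
      intro S
      exact inf_le_left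
  have h600 := Cfsg.Agent.S0600.result W hWea hgen
  set C := Subgroup.centralizer (W : Set G) with hC
  apply le_antisymm _ hCD
  intro d hd
  have hDmap : (D.map (QuotientGroup.mk' C)).Normal :=
    hDn.map _ (QuotientGroup.mk'_surjective C)
  have hDp : IsPGroup p (D.map (QuotientGroup.mk' C)) := by
    rintro ⟨x, hx⟩
    obtain ⟨d', hd', rfl⟩ := hx
    refine ⟨k, ?_⟩
    apply Subtype.ext
    rw [Subgroup.coe_pow, Subgroup.coe_one]
    show (QuotientGroup.mk' C d') ^ (p ^ k) = 1
    rw [← map_pow, QuotientGroup.mk'_apply, QuotientGroup.eq_one_iff, ← hk]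
    exact Subgroup.pow_relIndex_mem C hd'
  have hle := le_pCore hDmap hDp
  rw [h600, le_bot_iff] at hle
  have hd1 : QuotientGroup.mk' C d ∈ D.map (QuotientGroup.mk' C) := ⟨d, hd, rfl⟩
  rw [hle, Subgroup.mem_bot, QuotientGroup.mk'_apply, QuotientGroup.eq_one_iff] at hd1
  exact hd1

end Cfsg.Agent.S0601
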