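import Cfsg.Statements.S0604
import Cfsg.Agent.Lib.Helper10.ElemAb

set_option autoImplicit false
open Cfsg

namespace Cfsg.Agent.S0604

open Cfsg.Agent.Helper10
open Pointwise

/-- The Thompson subgroup of G is the join of the Thompson subgroups of its Sylow p-subgroups. -/
theorem result {G : Type*} [Group G] [Finite G] {p : ℕ} [Fact p.Prime] : Cfsg.thompsonSubgroup p G = ⨆ S : Sylow p G, Cfsg.thompsonSubgroupOf p (S : Subgroup G) := by
  apply le_antisymm
  · apply sSup_le
    intro A hA
    obtain ⟨S, hS⟩ := (elemAb_isPGroup hA.1).exists_le_sylow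
    have h1 := subgroupOf_mem_maxElementaryAbelianSubgroups hA hS
    have h2 : A.subgroupOf S ≤ thompsonSubgroup p S := le_thompsonSubgroup h1
    have h3 := Subgroup.map_mono (f := (S : Subgroup G).subtype) h2
    rw [Subgroup.map_subgroupOf_eq_of_le hS] at h3
    exact h3.trans (le_iSup (fun S : Sylow p G => thompsonSubgroupOf p (S : Subgroup G)) S)
  · apply iSup_le
    intro S
    obtain ⟨A₀, hA₀⟩ := maxElementaryAbelianSubgroups_nonempty p G
    obtain ⟨S', hS'⟩ := (elemAb_isPGroup hA₀.1).exists_le_sylow
    obtain ⟨g, hg⟩ := MulAction.exists_smul_eq G S' S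
    have hA₁ : (MulAut.conj g • A₀) ∈ maxElementaryAbelianSubgroups p G := by
      apply mem_maxElementaryAbelianSubgroups_of_card_le hA₀
      · exact elemAb_map hA₀.1 _
      · exact (Nat.card_congr (Subgroup.equivSMul (MulAut.conj g) A₀).toEquiv).le
    have hA₁S : (MulAut.conj g • A₀) ≤ S := by
      have : MulAut.conj g • A₀ ≤ MulAut.conj g • (S' : Subgroup G) :=
        Subgroup.pointwise_smul_le_pointwise_smul_iff.mpr hS'
      rw [← hg]
      exact this
    unfold thompsonSubgroupOf
    rw [Subgroup.map_le_iff_le_comap]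
    apply sSup_le
    intro B hB
    rw [← Subgroup.map_le_iff_le_comap]
    exact le_thompsonSubgroup (map_subtype_mem_maxElementaryAbelianSubgroups hA₁ hA₁S hB)

end Cfsg.Agent.S0604
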