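import Cfsg.Statements.S0605
import Cfsg.Agent.Lib.Helper10.ElemAb

set_option autoImplicit false
open Cfsg

namespace Cfsg.Agent.S0605

open Cfsg.Agent.Helper10

/-- Elements of order p in the centralizer of the Thompson subgroup belong to the Thompson subgroup (so to its centre). -/
theorem result {G : Type*} [Group G] [Finite G] {p : ℕ} [Fact p.Prime] (x : G) (hx : x ∈ Subgroup.centralizer (Cfsg.thompsonSubgroup p G : Set G)) (ho : orderOf x = p) : x ∈ Cfsg.thompsonSubgroup p G := by
  obtain ⟨A, hA⟩ := maxElementaryAbelianSubgroups_nonempty p G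
  have hxp : x ^ p = 1 := by rw [← ho]; exact pow_orderOf_eq_one x
  have hZ := isElementaryAbelian_zpowers hxp
  have hcomm : ∀ a ∈ A, ∀ b ∈ Subgroup.zpowers x, a * b = b * a := by
    intro a ha b hb
    have hxa : a * x = x * a := (Subgroup.mem_centralizer_iff.mp hx a (le_thompsonSubgroup hA ha))
    have : Commute a x := hxa
    obtain ⟨k, rfl⟩ := Subgroup.mem_zpowers_iff.mp hb
    exact (this.zpow_right k)
  have hB := elemAb_sup_of_commute hA.1 hZ hcomm
  have hle : A ≤ A ⊔ Subgroup.zpowers x := le_sup_left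
  have hcard : Nat.card ↥(A ⊔ Subgroup.zpowers x) ≤ Nat.card A := hA.2 _ hB
  have heq : A = A ⊔ Subgroup.zpowers x := Subgroup.eq_of_le_of_card_ge hle hcard
  have hxA : x ∈ A := by
    rw [heq]
    exact (le_sup_right : Subgroup.zpowers x ≤ _) (Subgroup.mem_zpowers x)
  exact le_thompsonSubgroup hA hxA

end Cfsg.Agent.S0605
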