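import Cfsg.Statements.S0608
import Cfsg.Agent.S0602
import Cfsg.Agent.S0604
import Cfsg.Agent.Lib.Helper10.Thompson
import Cfsg.Agent.Lib.Helper10.SylowNormal

set_option autoImplicit false
open Cfsg

namespace Cfsg.Agent.S0608

open Cfsg.Agent.Helper10

/-- With trivial p'-core, Thompson factorizability is equivalent to J(G) centralizing the subgroup generated by all Ω₁(Z(S)), S Sylow. -/
theorem result {G : Type*} [Group G] [Finite G] {p : ℕ} [Fact p.Prime] (hO : Cfsg.pPrimeCore p G = ⊥) : Cfsg.IsThompsonFactorizable p G ↔ Cfsg.thompsonSubgroup p G ≤ Subgroup.centralizer ((⨆ S : Sylow p G, Cfsg.omegaOne p (((S : Subgroup G)) ⊓ Subgroup.centralizer ((S : Subgroup G) : Set G)) : Subgroup G) : Set G) := by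
  set W : Subgroup G := ⨆ S : Sylow p G, Cfsg.omegaOne p (((S : Subgroup G)) ⊓ Subgroup.centralizer ((S : Subgroup G) : Set G)) with hW
  constructor
  · -- (⇒)
    intro hTF
    rw [Cfsg.Agent.S0604.result (G := G) (p := p)]
    apply iSup_le
    intro S
    set J := Cfsg.thompsonSubgroupOf p (S : Subgroup G) with hJ
    rw [Subgroup.le_centralizer_iff, hW]
    apply iSup_le
    intro S'
    unfold Cfsg.omegaOne
    rw [Subgroup.closure_le]
    rintro y ⟨hy, hyp⟩
    rw [Subgroup.mem_inf] at hy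
    obtain ⟨hyS, hyC⟩ := hy
    obtain ⟨g, hg⟩ := MulAction.exists_smul_eq G S S'
    -- decompose g⁻¹
    obtain ⟨x, hx, c, hc, n, hn, hgcn⟩ := hTF S g⁻¹
    rw [hO, Subgroup.mem_bot] at hx
    subst hx
    rw [one_mul] at hgcn
    -- x0 = g⁻¹ y g ∈ Z(S)
    have hx0S : g⁻¹ * y * g ∈ (S : Subgroup G) := by
      rw [← hg, Sylow.coe_subgroup_smul] at hyS
      obtain ⟨s, hs, hsy⟩ := hyS
      have hsy' : g * s * g⁻¹ = y := hsy
      have : g⁻¹ * y * g = s := by
        rw [← hsy']; group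
      rw [this]
      exact hs
    have hx0C : g⁻¹ * y * g ∈ Subgroup.centralizer ((S : Subgroup G) : Set G) := by
      rw [Subgroup.mem_centralizer_iff]
      intro s hs
      have hgs : g * s * g⁻¹ ∈ ((S' : Subgroup G) : Set G) := by
        rw [← hg, Sylow.coe_subgroup_smul]
        exact ⟨s, hs, rfl⟩
      have := hyC _ hgs
      calc s * (g⁻¹ * y * g) = g⁻¹ * ((g * s * g⁻¹) * y) * g := by group
        _ = g⁻¹ * (y * (g * s * g⁻¹)) * g := by rw [this]
        _ = g⁻¹ * y * g * s := by group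
    have hx0p : (g⁻¹ * y * g) ^ p = 1 := by
      have : g⁻¹ * y * g = g⁻¹ * y * (g⁻¹)⁻¹ := by rw [inv_inv]
      rw [this, conj_pow, hyp, mul_one, mul_inv_cancel]
    have hx0Ω : g⁻¹ * y * g ∈ Cfsg.omegaOne p (((S : Subgroup G)) ⊓ Subgroup.centralizer ((S : Subgroup G) : Set G)) :=
      Subgroup.subset_closure ⟨Subgroup.mem_inf.mpr ⟨hx0S, hx0C⟩, hx0p⟩
    -- c centralizes x0
    have hcx : c * (g⁻¹ * y * g) = (g⁻¹ * y * g) * c := (hc _ hx0Ω).symm
    -- y = n⁻¹ x0 n
    have hgeq : g = n⁻¹ * c⁻¹ := by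
      rw [← inv_inv g, hgcn, mul_inv_rev]
    have hy_eq : y = n⁻¹ * (g⁻¹ * y * g) * n := by
      have h1 : g⁻¹ * y * g = c * (g⁻¹ * y * g) * c⁻¹ := by
        rw [hcx]; group
      have h2 : y = g * (g⁻¹ * y * g) * g⁻¹ := by group
      calc y = g * (g⁻¹ * y * g) * g⁻¹ := h2
        _ = (n⁻¹ * c⁻¹) * (g⁻¹ * y * g) * (n⁻¹ * c⁻¹)⁻¹ := by rw [← hgeq]
        _ = n⁻¹ * (c⁻¹ * (c * (g⁻¹ * y * g) * c⁻¹) * c) * n := by rw [← h1]; group
        _ = n⁻¹ * (g⁻¹ * y * g) * n := by group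
    -- x0 centralizes J, and n normalizes C(J)
    have hx0J : g⁻¹ * y * g ∈ Subgroup.centralizer (J : Set G) :=
      Subgroup.centralizer_le (thompsonSubgroupOf_le (p := p) (S : Subgroup G)) hx0C
    have hnorm : Subgroup.normalizer (J : Set G) ≤
        Subgroup.normalizer ((Subgroup.centralizer (J : Set G) : Subgroup G) : Set G) :=
      (Subgroup.normal_subgroupOf_iff_le_normalizer (Subgroup.centralizer_le_normalizer _)).mp
        (Subgroup.normal_subgroupOf_centralizer_normalizer _)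
    have hn' : n⁻¹ ∈ Subgroup.normalizer ((Subgroup.centralizer (J : Set G) : Subgroup G) : Set G) :=
      hnorm (Subgroup.inv_mem _ hn)
    have := (Subgroup.mem_normalizer_iff.mp hn' (g⁻¹ * y * g)).mp hx0J
    rw [inv_inv] at this
    rw [SetLike.mem_coe, hy_eq]
    exact this
  · -- (⇐)
    intro hJW S g
    set JG := Cfsg.thompsonSubgroup p G with hJG
    haveI hchar : JG.Characteristic := (Cfsg.Agent.S0602.result (G := G) (p := p)).1
    haveI hJn : JG.Normal := inferInstance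
    set T : Subgroup G := (S : Subgroup G) ⊓ JG with hT
    have hfr := normalizer_sylow_inf_sup_eq_top S JG
    obtain ⟨A₀, hA₀, hA₀S⟩ := exists_mem_maxElementaryAbelianSubgroups_le_sylow S
    have hJT : Cfsg.thompsonSubgroupOf p (S : Subgroup G) ≤ T :=
      le_inf (thompsonSubgroupOf_le _) (thompsonSubgroupOf_le_thompsonSubgroup hA₀ hA₀S)
    have hNN := normalizer_le_normalizer_thompsonSubgroupOf hA₀ hA₀S (inf_le_left : T ≤ S) hJT
    have hg : g ∈ (JG ⊔ Subgroup.normalizer (T : Set G) : Subgroup G) := by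
      rw [sup_comm, hfr]; exact Subgroup.mem_top g
    rw [← SetLike.mem_coe, Subgroup.normal_mul] at hg
    obtain ⟨c, hc, n, hn, rfl⟩ := Set.mem_mul.mp hg
    refine ⟨1, Subgroup.one_mem _, c, ?_, n, hNN hn, by rw [one_mul]⟩
    have h1 : c ∈ Subgroup.centralizer (W : Set G) := hJW hc
    refine Subgroup.centralizer_le ?_ h1
    exact le_iSup (fun S : Sylow p G => Cfsg.omegaOne p (((S : Subgroup G)) ⊓ Subgroup.centralizer ((S : Subgroup G) : Set G))) S

end Cfsg.Agent.S0608
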