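import Cfsg.Statements.S0613
import Mathlib
import Cfsg.Agent.Lib.Helper1.FFI

set_option autoImplicit false
open Cfsg

namespace Cfsg.Agent.S0613

/-- A minimal nontrivially-acting best offender and a conjugate of it under a non-centralizing element of the p'-core generate SL(2, p) acting naturally on a plane, and p is 2 or 3. -/
theorem result {G : Type*} [Group G] [Finite G] {p : ℕ} [Fact p.Prime] (V H : Subgroup G) (hV : Cfsg.IsElementaryAbelian p V) (hHV : H ≤ Subgroup.normalizer (V : Set G)) (hf : H ⊓ Subgroup.centralizer (V : Set G) = ⊥) (hS1 : Subgroup.centralizer (Cfsg.pPrimeCore p ↥H : Set ↥H) ≤ Cfsg.pPrimeCore p ↥H) (hS3 : H = ⨆ A : {A : Subgroup G // A ≤ H ∧ Cfsg.IsBestOffenderOn p V A}, (A : Subgroup G)) (hH1 : H ≠ ⊥) (A : Subgroup G) (hAH : A ≤ H) (hA : Cfsg.IsBestOffenderOn p V A) (hAV : ⁅V, A⁆ ≠ ⊥) (hmin : ∀ B : Subgroup G, B ≤ A → Cfsg.IsBestOffenderOn p V B → ⁅V,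 B⁆ ≠ ⊥ → B = A) (x : G) (hx : x ∈ ((Cfsg.pPrimeCore p ↥H).map H.subtype)) (hxA : x ∉ Subgroup.centralizer (A : Set G)) : (p = 2 ∨ p = 3) ∧ Nat.card ↥(⁅V, A ⊔ A.map (MulAut.conj x).toMonoidHom⁆) = p ^ 2 ∧ (A ⊔ A.map (MulAut.conj x).toMonoidHom) ⊓ Subgroup.centralizer ((⁅V, A ⊔ A.map (MulAut.conj x).toMonoidHom⁆ : Subgroup G) : Set G) = ⊥ ∧ Nonempty (↥(A ⊔ A.map (MulAut.conj x).toMonoidHom) ≃* Matrix.SpecialLinearGroup (Fin 2) (ZMod p)) := by
  have F := Cfsg.Agent.Helper1.FF.ffs_of_hyps V H hV hHV hf hS1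
  obtain ⟨a, c, hAz, haH, hT⟩ := F.min_bo_tv hAH hA hAV hmin
  have S := F.tvs haH hT
  have hxK : x ∈ Cfsg.Agent.Helper1.FF.KK p H := hx
  rw [hAz] at hxA
  have hy := Cfsg.Agent.Helper1.FF.FFS.y_ne_one_of_not_mem_centralizer hxA
  have hE : A ⊔ A.map (MulAut.conj x).toMonoidHom =
      Cfsg.Agent.Helper1.FF.TvS.Es (Cfsg.Agent.Helper1.FF.KK p H) a := by
    rw [hAz, MonoidHom.map_zpowers]
    exact S.zpowers_sup_eq_Es hxK hy
  rw [hE]
  refine ⟨S.p_eq_two_or_three hxK hy, ?_, ?_, ?_⟩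
  · rw [S.commutator_V_Es hxK hy]
    exact S.card_ctr hxK hy
  · rw [S.commutator_V_Es hxK hy, eq_bot_iff]
    intro e he
    rw [Subgroup.mem_bot]
    apply S.Es_faithful hxK hy (Subgroup.mem_inf.mp he).1
    intro u hu
    exact (Subgroup.mem_centralizer_iff.mp (Subgroup.mem_inf.mp he).2 u hu).symm
  · obtain ⟨φ, -⟩ := S.Es_iso hxK hy
    exact ⟨φ⟩

end Cfsg.Agent.S0613
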