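import Cfsg.Statements.S0614
import Mathlib
import Cfsg.Agent.Lib.Helper1.FFI

set_option autoImplicit false
open Cfsg

namespace Cfsg.Agent.S0614

/-- The commutator of the p'-core with a minimal nontrivially-acting best offender is a 3-group (when p = 2) or a non-abelian 2-group (when p = 3). -/
theorem result {G : Type*} [Group G] [Finite G] {p : ℕ} [Fact p.Prime] (V H : Subgroup G) (hV : Cfsg.IsElementaryAbelian p V) (hHV : H ≤ Subgroup.normalizer (V : Set G)) (hf : H ⊓ Subgroup.centralizer (V : Set G) = ⊥) (hS1 : Subgroup.centralizer (Cfsg.pPrimeCore p ↥H : Set ↥H) ≤ Cfsg.pPrimeCore p ↥H) (hS3 : H = ⨆ A : {A : Subgroup G // A ≤ H ∧ Cfsg.IsBestOffenderOn p V A}, (A : Subgroup G)) (hH1 : H ≠ ⊥) (A : Subgroup G) (hAH : A ≤ H) (hA : Cfsg.IsBestOffenderOn p V A) (hAV : ⁅V, A⁆ ≠ ⊥) (hmin : ∀ B : Subgroup G, B ≤ A → Cfsg.IsBestOffenderOn p V B → ⁅V, B⁆ ≠ ⊥ → B = A) : (p =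 2 ∧ IsPGroup 3 ↥(⁅((Cfsg.pPrimeCore p ↥H).map H.subtype), A⁆)) ∨ (p = 3 ∧ IsPGroup 2 ↥(⁅((Cfsg.pPrimeCore p ↥H).map H.subtype), A⁆) ∧ ¬ IsMulCommutative ↥(⁅((Cfsg.pPrimeCore p ↥H).map H.subtype), A⁆)) := by
  have F := Cfsg.Agent.Helper1.FF.ffs_of_hyps V H hV hHV hf hS1
  obtain ⟨a, c, hAz, haH, hT⟩ := F.min_bo_tv hAH hA hAV hmin
  have S := F.tvs haH hT
  obtain ⟨x, hxK, hy⟩ := F.exists_y_ne_one haH hT
  have hQ : ⁅((Cfsg.pPrimeCore p ↥H).map H.subtype), A⁆ =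
      Cfsg.Agent.Helper1.FF.TvS.Qs (Cfsg.Agent.Helper1.FF.KK p H) a := by
    rw [hAz]; rfl
  rw [hQ]
  have hcard := S.card_Qs_eq hxK hy
  rcases S.p_eq_two_or_three hxK hy with h2 | h3
  · left
    refine ⟨h2, ?_⟩
    apply IsPGroup.of_card (n := 1)
    rw [hcard, h2]; norm_num
  · right
    refine ⟨h3, ?_, ?_⟩
    · apply IsPGroup.of_card (n := 3)
      rw [hcard, h3]; norm_num
    · exact S.Qs_not_comm hxK hy (by rw [h3]; norm_num)

end Cfsg.Agent.S0614
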