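import Cfsg.Statements.S0615
import Cfsg.Agent.S0597
import Cfsg.Agent.Lib.Helper10.SubnConj

set_option autoImplicit false
open Cfsg

namespace Cfsg.Agent.S0615

open Cfsg.Agent.Helper10
open Cfsg.Agent.S0597 (stabChain mem_stabChain)
open scoped Pointwise commutatorElement

variable {G : Type*} [Group G]

/-- If `x` centralizes `W ≤ V` and `⁅V, x⁆ ⊆ W`, then `x ^ p` centralizes the elementary abelian `V`. -/
lemma pow_mem_centralizer {p : ℕ} {V W : Subgroup G} (hV : Cfsg.IsElementaryAbelian p V)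
    (hWV : W ≤ V) {x : G} (hx : ∀ v ∈ V, ⁅v, x⁆ ∈ W)
    (hxc : x ∈ Subgroup.centralizer (W : Set G)) :
    x ^ p ∈ Subgroup.centralizer (V : Set G) := by
  rw [Subgroup.mem_centralizer_iff]
  intro v hv
  have hw : ⁅x, v⁆ ∈ W := by
    rw [← commutatorElement_inv]; exact W.inv_mem (hx v hv)
  have hav : x * v * x⁻¹ = ⁅x, v⁆ * v := by rw [commutatorElement_def]; group
  have hcomm : ∀ h ∈ Subgroup.zpowers x, h * ⁅x, v⁆ = ⁅x, v⁆ * h := by
    intro h hh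
    obtain ⟨k, rfl⟩ := Subgroup.mem_zpowers_iff.mp hh
    have : Commute x ⁅x, v⁆ := (hxc _ hw).symm
    exact (this.zpow_left k)
  have h3 := quadratic_conj_pow (H := Subgroup.zpowers x) (Subgroup.mem_zpowers x) hcomm hav p
  have hwp : ⁅x, v⁆ ^ p = 1 := hV.2 _ (hWV hw)
  rw [hwp, one_mul] at h3
  calc v * x ^ p = (x ^ p * v * (x ^ p)⁻¹) * x ^ p := by rw [h3]
    _ = x ^ p * v := by group

/-- The ambient hypotheses. -/
structure Amb (p : ℕ) (V E : Subgroup G) : Prop where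
  hV : Cfsg.IsElementaryAbelian p V
  hEV : E ≤ Subgroup.normalizer (V : Set G)
  hf : E ⊓ Subgroup.centralizer (V : Set G) = ⊥
  hOp : Cfsg.pCore p ↥E = ⊥

/-- The hypotheses on one of the two subnormal subgroups. -/
structure Side (V E F : Subgroup G) : Prop where
  hFE : F ≤ E
  hs : (F.subgroupOf E).IsSubnormal
  hirr : ∀ U : Subgroup G, U ≤ ⁅V, F⁆ → F ≤ Subgroup.normalizer (U : Set G) →
    U = ⊥ ∨ U = ⁅V, F⁆
  hc : 2 < Nat.card F

namespace Side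

variable {p : ℕ} {V E F : Subgroup G}

lemma le_normalizer (hA : Amb p V E) (hF : Side V E F) :
    F ≤ Subgroup.normalizer (V : Set G) := hF.hFE.trans hA.hEV

lemma comm_le (hA : Amb p V E) (hF : Side V E F) : ⁅V, F⁆ ≤ V :=
  Subgroup.le_normalizer_iff_commutator_le_left.mp (hF.le_normalizer hA)

lemma le_normalizer_comm (V F : Subgroup G) :
    F ≤ Subgroup.normalizer ((⁅V, F⁆ : Subgroup G) : Set G) :=
  Subgroup.normalizer_commutator_ge_right _ _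

/-- `F` acts faithfully on `⁅V, F⁆`. -/
lemma faithful [Finite G] [Fact p.Prime] (hA : Amb p V E) (hF : Side V E F) :
    F ⊓ Subgroup.centralizer ((⁅V, F⁆ : Subgroup G) : Set G) = ⊥ := by
  set K := F ⊓ Subgroup.centralizer ((⁅V, F⁆ : Subgroup G) : Set G) with hK
  have hKF : K ≤ F := inf_le_left
  have hKn : F ≤ Subgroup.normalizer (K : Set G) := by
    rw [Subgroup.le_normalizer_iff]
    intro f hf k hk
    refine Subgroup.mem_inf.mpr ⟨F.mul_mem (F.mul_mem hf (hKF hk)) (F.inv_mem hf), ?_⟩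
    have hk2 : k ∈ Subgroup.centralizer ((⁅V, F⁆ : Subgroup G) : Set G) :=
      (Subgroup.mem_inf.mp hk).2
    rw [Subgroup.mem_centralizer_iff] at hk2 ⊢
    intro w hw
    have hw' : f⁻¹ * w * f ∈ ⁅V, F⁆ := by
      have := (Subgroup.mem_normalizer_iff''.mp (le_normalizer_comm V F hf) w).mp hw
      exact this
    have := hk2 _ hw'
    calc w * (f * k * f⁻¹) = f * ((f⁻¹ * w * f) * k) * f⁻¹ := by group
      _ = f * (k * (f⁻¹ * w * f)) * f⁻¹ := by rw [this]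
      _ = f * k * f⁻¹ * w := by group
  have hKs : (K.subgroupOf E).IsSubnormal :=
    subnormal_subgroupOf_of_normal hKF hF.hFE hKn hF.hs
  apply eq_bot_of_subnormal_of_pow_eq_one hA.hOp (hKF.trans hF.hFE) hKs
  intro k hk
  have hk1 : k ∈ F := hKF hk
  have hk2 : k ∈ Subgroup.centralizer ((⁅V, F⁆ : Subgroup G) : Set G) := (Subgroup.mem_inf.mp hk).2
  have h1 : k ^ p ∈ Subgroup.centralizer (V : Set G) :=
    pow_mem_centralizer hA.hV (hF.comm_le hA)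
      (fun v hv => Subgroup.commutator_mem_commutator hv hk1) hk2
  have h2 : k ^ p ∈ E ⊓ Subgroup.centralizer (V : Set G) :=
    Subgroup.mem_inf.mpr ⟨E.pow_mem (hF.hFE hk1) p, h1⟩
  rw [hA.hf, Subgroup.mem_bot] at h2
  exact h2

lemma ne_bot (hF : Side V E F) : F ≠ ⊥ := by
  intro h
  have := hF.hc
  rw [h, Subgroup.card_bot] at this
  omega

/-- `F` has no nontrivial fixed points on `⁅V, F⁆`. -/
lemma fixed_eq_bot [Finite G] [Fact p.Prime] (hA : Amb p V E) (hF : Side V E F) :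
    ⁅V, F⁆ ⊓ Subgroup.centralizer (F : Set G) = ⊥ := by
  have hn : F ≤ Subgroup.normalizer ((⁅V, F⁆ ⊓ Subgroup.centralizer (F : Set G) : Subgroup G) : Set G) := by
    rw [Subgroup.le_normalizer_iff]
    intro f hf u hu
    obtain ⟨hu1, hu2⟩ := Subgroup.mem_inf.mp hu
    have : f * u * f⁻¹ = u := by
      have := hu2 f hf
      calc f * u * f⁻¹ = (f * u) * f⁻¹ := by group
        _ = (u * f) * f⁻¹ := by rw [this]
        _ = u := by group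
    rw [this]
    exact hu
  rcases hF.hirr _ inf_le_left hn with h | h
  · exact h
  · exfalso
    apply hF.ne_bot
    rw [← hF.faithful hA]
    have h1 : ⁅V, F⁆ ≤ Subgroup.centralizer (F : Set G) := by
      rw [← h]; exact inf_le_right
    refine le_antisymm (le_inf le_rfl ?_) inf_le_left
    exact Subgroup.le_centralizer_iff.mp h1

lemma comm_ne_bot [Finite G] [Fact p.Prime] (hA : Amb p V E) (hF : Side V E F) :
    ⁅V, F⁆ ≠ ⊥ := by
  intro h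
  apply hF.ne_bot
  rw [← hF.faithful hA, h]
  refine le_antisymm (le_inf le_rfl ?_) inf_le_left
  intro f _
  rw [Subgroup.mem_centralizer_iff]
  intro w hw
  rw [SetLike.mem_coe, Subgroup.mem_bot] at hw
  rw [hw, one_mul, mul_one]

/-- Conjugates of a side by elements of `E` are sides. -/
lemma conj (hA : Amb p V E) (hF : Side V E F) {e : G} (he : e ∈ E) :
    Side V E (MulAut.conj e • F) where
  hFE := conj_smul_le_of_mem he hF.hFE
  hs := subnormal_subgroupOf_conj hF.hFE he hF.hs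
  hirr := by
    intro U hU hn
    rw [← conj_smul_commutator_of_mem_normalizer (hA.hEV he)] at hU ⊢
    have h1 : (MulAut.conj e)⁻¹ • U ≤ ⁅V, F⁆ := by
      have := (Subgroup.pointwise_smul_le_pointwise_smul_iff (a := (MulAut.conj e)⁻¹)).mpr hU
      rwa [inv_smul_smul] at this
    have h2 : F ≤ Subgroup.normalizer (((MulAut.conj e)⁻¹ • U : Subgroup G) : Set G) := by
      intro f hf
      rw [← conj_smul_eq_iff_mem_normalizer, ← mul_smul]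
      have h3 : e * f * e⁻¹ ∈ Subgroup.normalizer (U : Set G) := hn (conj_mem_conj_smul hf)
      rw [← conj_smul_eq_iff_mem_normalizer] at h3
      have h4 : MulAut.conj f * (MulAut.conj e)⁻¹ = (MulAut.conj e)⁻¹ * MulAut.conj (e * f * e⁻¹) := by
        rw [← map_inv, ← map_mul, ← map_mul]
        congr 1
        group
      rw [h4, mul_smul, h3]
    rcases hF.hirr _ h1 h2 with h | h
    · left
      have := congrArg (fun S => MulAut.conj e • S) h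
      simpa using this
    · right
      have := congrArg (fun S => MulAut.conj e • S) h
      simpa using this
  hc := by rw [card_conj_smul]; exact hF.hc

end Side


/-- The conclusion. -/
def Concl (V E E₁ E₂ : Subgroup G) : Prop :=
  ⁅E₁, E₂⁆ = ⊥ ∧ E₁ ⊓ E₂ = ⊥ ∧ ⁅V, E₁⁆ ⊓ ⁅V, E₂⁆ = ⊥ ∧ ⁅V, E⁆ = ⁅V, E₁⁆ ⊔ ⁅V, E₂⁆

lemma Concl.symm {V E E₁ E₂ : Subgroup G} (h : Concl V E E₂ E₁) : Concl V E E₁ E₂ := by
  obtain ⟨h1, h2, h3, h4⟩ := h
  refine ⟨?_, ?_, ?_, ?_⟩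
  · rw [Subgroup.commutator_comm]; exact h1
  · rw [inf_comm]; exact h2
  · rw [inf_comm]; exact h3
  · rw [sup_comm]; exact h4

lemma le_normalizer_of_comm_le {V W E : Subgroup G} (hWV : W ≤ V) (h : ⁅V, E⁆ ≤ W) :
    E ≤ Subgroup.normalizer (W : Set G) := by
  rw [Subgroup.le_normalizer_iff_commutator_le_left]
  exact (Subgroup.commutator_mono hWV le_rfl).trans h

lemma comm_sup_eq {V E₁ E₂ : Subgroup G} (h₁ : E₁ ≤ Subgroup.normalizer (V : Set G))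
    (h₂ : E₂ ≤ Subgroup.normalizer (V : Set G)) :
    ⁅V, E₁ ⊔ E₂⁆ = ⁅V, E₁⁆ ⊔ ⁅V, E₂⁆ := by
  apply le_antisymm
  · set W := ⁅V, E₁⁆ ⊔ ⁅V, E₂⁆ with hW
    have hWV : W ≤ V := sup_le (Subgroup.le_normalizer_iff_commutator_le_left.mp h₁)
      (Subgroup.le_normalizer_iff_commutator_le_left.mp h₂)
    have hE₁ : E₁ ≤ stabChain V W := by
      intro e he
      exact ⟨h₁ he, le_normalizer_of_comm_le hWV le_sup_left he,
        fun v hv => le_sup_left (a := ⁅V, E₁⁆) (Subgroup.commutator_mem_commutator hv he)⟩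
    have hE₂ : E₂ ≤ stabChain V W := by
      intro e he
      exact ⟨h₂ he, le_normalizer_of_comm_le hWV le_sup_right he,
        fun v hv => le_sup_right (b := ⁅V, E₂⁆) (Subgroup.commutator_mem_commutator hv he)⟩
    rw [Subgroup.commutator_le]
    intro v hv e he
    exact ((sup_le hE₁ hE₂) he).2.2 v hv
  · exact sup_le (Subgroup.commutator_mono le_rfl le_sup_left)
      (Subgroup.commutator_mono le_rfl le_sup_right)

section main

variable {p : ℕ} {V E E₁ E₂ : Subgroup G}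

/-- The case where `E₂` normalizes `⁅V, E₁⁆`. -/
lemma concl_of_normalizes [Finite G] [Fact p.Prime] (hA : Amb p V E) (h₁ : Side V E E₁)
    (h₂ : Side V E E₂) (hgen : E = E₁ ⊔ E₂) (h21 : ¬ ⁅V, E₂⁆ ≤ ⁅V, E₁⁆)
    (hn : E₂ ≤ Subgroup.normalizer ((⁅V, E₁⁆ : Subgroup G) : Set G)) : Concl V E E₁ E₂ := by
  have hI : ⁅V, E₁⁆ ⊓ ⁅V, E₂⁆ = ⊥ := by
    have hnU : E₂ ≤ Subgroup.normalizer ((⁅V, E₁⁆ ⊓ ⁅V, E₂⁆ : Subgroup G) : Set G) := by
      rw [Subgroup.le_normalizer_iff]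
      intro e he u hu
      obtain ⟨hu1, hu2⟩ := Subgroup.mem_inf.mp hu
      exact Subgroup.mem_inf.mpr ⟨(Subgroup.le_normalizer_iff.mp hn) e he u hu1,
        (Subgroup.le_normalizer_iff.mp (Side.le_normalizer_comm V E₂)) e he u hu2⟩
    rcases h₂.hirr _ inf_le_right hnU with h | h
    · exact h
    · exact absurd (h ▸ inf_le_left) h21
  have hc : ⁅⁅V, E₁⁆, E₂⁆ = ⊥ := by
    rw [eq_bot_iff, ← hI]
    exact le_inf (Subgroup.le_normalizer_iff_commutator_le_left.mp hn)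
      (Subgroup.commutator_mono (h₁.comm_le hA) le_rfl)
  have hcomm : ⁅E₁, E₂⁆ = ⊥ := by
    have := Cfsg.Agent.S0597.result V E hA.hV hA.hEV hA.hf E₁ E₂ h₁.hFE h₂.hFE h₁.hs h₂.hs hc
    rwa [hA.hOp, Subgroup.map_bot, le_bot_iff] at this
  refine ⟨hcomm, ?_, hI, ?_⟩
  · rw [eq_bot_iff, ← hA.hf]
    refine le_inf (inf_le_left.trans h₁.hFE) ?_
    have hD : ⁅V, E₁ ⊓ E₂⁆ = ⊥ := by
      rw [eq_bot_iff, ← hI]
      exact le_inf (Subgroup.commutator_mono le_rfl inf_le_left)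
        (Subgroup.commutator_mono le_rfl inf_le_right)
    rw [Subgroup.commutator_comm, Subgroup.commutator_eq_bot_iff_le_centralizer] at hD
    exact hD
  · rw [hgen]
    exact comm_sup_eq (h₁.le_normalizer hA) (h₂.le_normalizer hA)


/-- The induction hypothesis, for subgroups smaller than `E`. -/
def IHyp (p : ℕ) (V E : Subgroup G) : Prop :=
  ∀ E' F₁ F₂ : Subgroup G, Nat.card E' < Nat.card E → Amb p V E' → Side V E' F₁ →
    Side V E' F₂ → E' = F₁ ⊔ F₂ → ¬ ⁅V, F₁⁆ ≤ ⁅V, F₂⁆ → ¬ ⁅V, F₂⁆ ≤ ⁅V, F₁⁆ → Concl V E' F₁ F₂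

lemma Amb.of_subnormal [Finite G] [Fact p.Prime] {E' : Subgroup G} (hA : Amb p V E)
    (hE'E : E' ≤ E) (hs : (E'.subgroupOf E).IsSubnormal) : Amb p V E' where
  hV := hA.hV
  hEV := hE'E.trans hA.hEV
  hf := by
    rw [eq_bot_iff, ← hA.hf]
    exact inf_le_inf_right _ hE'E
  hOp := pCore_eq_bot_of_subnormal hA.hOp hE'E hs

lemma Side.restrict {F E' : Subgroup G} (hF : Side V E F) (hFE' : F ≤ E') (hE'E : E' ≤ E) :
    Side V E' F where
  hFE := hFE'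
  hs := subnormal_subgroupOf_of_le hE'E hF.hs
  hirr := hF.hirr
  hc := hF.hc

/-- Distinct conjugates of `⁅V, F⁆` under `E` meet trivially, and the corresponding conjugates of `F` commute. -/
lemma conj_dichotomy [Finite G] [Fact p.Prime] {F : Subgroup G} (hA : Amb p V E)
    (IH : IHyp p V E) (hF : Side V E F) (hne : F ≠ E) {e : G} (he : e ∈ E)
    (hne' : MulAut.conj e • ⁅V, F⁆ ≠ ⁅V, F⁆) :
    ⁅F, MulAut.conj e • F⁆ = ⊥ ∧ ⁅V, F⁆ ⊓ MulAut.conj e • ⁅V, F⁆ = ⊥ := by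
  set F' := MulAut.conj e • F with hF'def
  have hF' : Side V E F' := hF.conj hA he
  set E' := F ⊔ F' with hE'def
  have hE'E : E' ≤ E := sup_le hF.hFE hF'.hFE
  have hE's : (E'.subgroupOf E).IsSubnormal :=
    subnormal_subgroupOf_sup hF.hFE hF'.hFE hF.hs hF'.hs
  have hA' : Amb p V E' := hA.of_subnormal hE'E hE's
  have hS₁ : Side V E' F := hF.restrict le_sup_left hE'E
  have hS₂ : Side V E' F' := hF'.restrict le_sup_right hE'E
  have hcomm' : ⁅V, F'⁆ = MulAut.conj e • ⁅V, F⁆ :=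
    (conj_smul_commutator_of_mem_normalizer (hA.hEV he) F).symm
  -- the cardinality bound
  have hcard : Nat.card E' < Nat.card E := by
    have hnt : F.subgroupOf E ≠ ⊤ := by
      intro h
      rw [Subgroup.subgroupOf_eq_top] at h
      exact hne (le_antisymm hF.hFE h)
    obtain ⟨N, hNn, hFN, hNlt⟩ := hF.hs.exists_normal_and_le_and_lt_top_of_ne hnt
    have hE'N : E' ≤ N.map E.subtype := by
      apply sup_le
      · intro f hf
        exact ⟨⟨f, hF.hFE hf⟩, hFN (Subgroup.mem_subgroupOf.mpr hf), rfl⟩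
      · intro y hy
        rw [hF'def, mem_conj_smul_iff] at hy
        have h1 : (⟨e⁻¹ * y * e, hF.hFE hy⟩ : E) ∈ N := hFN (Subgroup.mem_subgroupOf.mpr hy)
        have h2 := hNn.conj_mem _ h1 ⟨e, he⟩
        refine ⟨_, h2, ?_⟩
        simp only [Subgroup.subtype_apply, Subgroup.coe_mul, Subgroup.coe_inv]
        group
    have h3 : Nat.card (N.map E.subtype) = Nat.card N :=
      Subgroup.card_map_of_injective E.subtype_injective
    have h4 : Nat.card N < Nat.card E := by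
      by_contra hcon
      have hcon := not_lt.mp hcon
      have := Subgroup.eq_of_le_of_card_ge (le_top : N ≤ ⊤) (by rw [Subgroup.card_top]; exact hcon)
      exact hNlt.ne this
    calc Nat.card E' ≤ Nat.card (N.map E.subtype) := Subgroup.card_le_of_le hE'N
      _ = Nat.card N := h3
      _ < Nat.card E := h4
  have hceq : Nat.card (MulAut.conj e • ⁅V, F⁆ : Subgroup G) = Nat.card (⁅V, F⁆ : Subgroup G) :=
    card_conj_smul e _
  have hnle₁ : ¬ ⁅V, F⁆ ≤ ⁅V, F'⁆ := by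
    rw [hcomm']
    intro h
    exact hne' (Subgroup.eq_of_le_of_card_ge h hceq.le).symm
  have hnle₂ : ¬ ⁅V, F'⁆ ≤ ⁅V, F⁆ := by
    rw [hcomm']
    intro h
    exact hne' (Subgroup.eq_of_le_of_card_ge h hceq.ge)
  obtain ⟨h1, -, h3, -⟩ := IH E' F F' hcard hA' hS₁ hS₂ rfl hnle₁ hnle₂
  rw [hcomm'] at h3
  exact ⟨h1, h3⟩

/-- In the situation of `conj_dichotomy`, `F` centralizes the conjugate `e • ⁅V, F⁆`. -/
lemma le_centralizer_of_dichotomy [Finite G] [Fact p.Prime] {F : Subgroup G} (hA : Amb p V E)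
    (hF : Side V E F) {e : G} (he : e ∈ E) (h1 : ⁅F, MulAut.conj e • F⁆ = ⊥)
    (h2 : ⁅V, F⁆ ⊓ MulAut.conj e • ⁅V, F⁆ = ⊥) :
    F ≤ Subgroup.centralizer ((MulAut.conj e • ⁅V, F⁆ : Subgroup G) : Set G) := by
  have hcomm' : MulAut.conj e • ⁅V, F⁆ = ⁅V, MulAut.conj e • F⁆ :=
    conj_smul_commutator_of_mem_normalizer (hA.hEV he) F
  have hFn : F ≤ Subgroup.normalizer ((MulAut.conj e • ⁅V, F⁆ : Subgroup G) : Set G) := by
    intro f hf
    rw [← conj_smul_eq_iff_mem_normalizer, hcomm', conj_smul_commutator,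
      conj_smul_eq_iff_mem_normalizer.mpr (hF.le_normalizer hA hf)]
    congr 1
    rw [conj_smul_eq_iff_mem_normalizer]
    rw [Subgroup.commutator_eq_bot_iff_le_centralizer] at h1
    exact Subgroup.centralizer_le_normalizer _ (h1 hf)
  have hle : MulAut.conj e • ⁅V, F⁆ ≤ V := by
    rw [hcomm']
    exact ((hF.conj hA he).comm_le hA)
  have h3 : ⁅MulAut.conj e • ⁅V, F⁆, F⁆ = ⊥ := by
    rw [eq_bot_iff, ← h2]
    exact le_inf (Subgroup.commutator_mono hle le_rfl)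
      (Subgroup.le_normalizer_iff_commutator_le_left.mp hFn)
  rw [Subgroup.commutator_comm, Subgroup.commutator_eq_bot_iff_le_centralizer] at h3
  exact h3


/-- If `x ∈ E₂` moves `⁅V, E₁⁆` off itself, then `v ↦ ⁅v, x⁆` embeds `⁅V, E₁⁆` into `⁅V, E₂⁆`. -/
lemma comm_injOn {x : G}
    (hxV : ⁅V, E₁⁆ ⊓ MulAut.conj x • ⁅V, E₁⁆ = ⊥) {v v' : G} (hv : v ∈ ⁅V, E₁⁆)
    (hv' : v' ∈ ⁅V, E₁⁆) (h : ⁅v, x⁆ = ⁅v', x⁆) : v = v' := by
  have h1 : v'⁻¹ * v = x * (v'⁻¹ * v) * x⁻¹ := by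
    rw [commutatorElement_def, commutatorElement_def] at h
    have h2 : v'⁻¹ * (v * x * v⁻¹ * x⁻¹) * (x * v * x⁻¹) = v'⁻¹ * (v' * x * v'⁻¹ * x⁻¹) * (x * v * x⁻¹) := by
      rw [h]
    calc v'⁻¹ * v = v'⁻¹ * (v * x * v⁻¹ * x⁻¹) * (x * v * x⁻¹) := by group
      _ = v'⁻¹ * (v' * x * v'⁻¹ * x⁻¹) * (x * v * x⁻¹) := h2
      _ = x * (v'⁻¹ * v) * x⁻¹ := by group
  have hu : v'⁻¹ * v ∈ ⁅V, E₁⁆ := Subgroup.mul_mem _ (Subgroup.inv_mem _ hv') hv
  have hu' : v'⁻¹ * v ∈ MulAut.conj x • ⁅V, E₁⁆ := by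
    rw [h1]; exact conj_mem_conj_smul hu
  have : v'⁻¹ * v ∈ (⊥ : Subgroup G) := hxV ▸ Subgroup.mem_inf.mpr ⟨hu, hu'⟩
  rw [Subgroup.mem_bot] at this
  calc v = v' * (v'⁻¹ * v) := by group
    _ = v' := by rw [this, mul_one]

lemma card_comm_le [Finite G] (hA : Amb p V E) (h₁ : Side V E E₁) {x : G} (hx : x ∈ E₂)
    (hxV : ⁅V, E₁⁆ ⊓ MulAut.conj x • ⁅V, E₁⁆ = ⊥) :
    Nat.card (⁅V, E₁⁆ : Subgroup G) ≤ Nat.card (⁅V, E₂⁆ : Subgroup G) := by
  let φ : (⁅V, E₁⁆ : Subgroup G) → (⁅V, E₂⁆ : Subgroup G) := fun v =>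
    ⟨⁅(v : G), x⁆, Subgroup.commutator_mem_commutator (h₁.comm_le hA v.2) hx⟩
  have hφ : Function.Injective φ := by
    intro v v' h
    apply Subtype.ext
    exact comm_injOn hxV v.2 v'.2 (congrArg Subtype.val h)
  exact Nat.card_le_card_of_injective φ hφ

lemma exists_eq_comm [Finite G] (hA : Amb p V E) (h₁ : Side V E E₁) {x : G} (hx : x ∈ E₂)
    (hxV : ⁅V, E₁⁆ ⊓ MulAut.conj x • ⁅V, E₁⁆ = ⊥)
    (hcard : Nat.card (⁅V, E₂⁆ : Subgroup G) ≤ Nat.card (⁅V, E₁⁆ : Subgroup G))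
    {w : G} (hw : w ∈ ⁅V, E₂⁆) : ∃ v ∈ ⁅V, E₁⁆, w = ⁅v, x⁆ := by
  let φ : (⁅V, E₁⁆ : Subgroup G) → (⁅V, E₂⁆ : Subgroup G) := fun v =>
    ⟨⁅(v : G), x⁆, Subgroup.commutator_mem_commutator (h₁.comm_le hA v.2) hx⟩
  have hφ : Function.Injective φ := by
    intro v v' h
    apply Subtype.ext
    exact comm_injOn hxV v.2 v'.2 (congrArg Subtype.val h)
  obtain ⟨v, hv⟩ := (hφ.bijective_of_nat_card_le hcard).2 ⟨w, hw⟩
  exact ⟨v.1, v.2, (congrArg Subtype.val hv).symm⟩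


lemma conj_one_smul (H : Subgroup G) : MulAut.conj (1 : G) • H = H := by
  rw [map_one, one_smul]

lemma conj_mul_smul (a b : G) (H : Subgroup G) :
    MulAut.conj (a * b) • H = MulAut.conj a • MulAut.conj b • H := by
  rw [map_mul, mul_smul]

/-- The main contradiction: `E₂` cannot move `⁅V, E₁⁆` if `#⁅V, E₂⁆ ≤ #⁅V, E₁⁆`. -/
lemma false_of_moves [Finite G] [Fact p.Prime] (hA : Amb p V E) (h₁ : Side V E E₁)
    (h₂ : Side V E E₂)
    (dich : ∀ e ∈ E, MulAut.conj e • ⁅V, E₁⁆ ≠ ⁅V, E₁⁆ →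
      ⁅E₁, MulAut.conj e • E₁⁆ = ⊥ ∧ ⁅V, E₁⁆ ⊓ MulAut.conj e • ⁅V, E₁⁆ = ⊥)
    {x : G} (hx : x ∈ E₂) (hxV : MulAut.conj x • ⁅V, E₁⁆ ≠ ⁅V, E₁⁆)
    (hcard : Nat.card (⁅V, E₂⁆ : Subgroup G) ≤ Nat.card (⁅V, E₁⁆ : Subgroup G)) : False := by
  have hE₂E : E₂ ≤ E := h₂.hFE
  have hV₁V : ⁅V, E₁⁆ ≤ V := h₁.comm_le hA
  -- distinct conjugates: `e • E₁` centralizes `f • V₁`
  have cent : ∀ e ∈ E, ∀ f ∈ E, MulAut.conj e • ⁅V, E₁⁆ ≠ MulAut.conj f • ⁅V, E₁⁆ →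
      ∀ a ∈ MulAut.conj e • E₁, ∀ u ∈ MulAut.conj f • ⁅V, E₁⁆, a * u = u * a := by
    intro e he f hf hef a ha u hu
    have hg : e⁻¹ * f ∈ E := E.mul_mem (E.inv_mem he) hf
    have hgV : MulAut.conj (e⁻¹ * f) • ⁅V, E₁⁆ ≠ ⁅V, E₁⁆ := by
      intro h
      apply hef
      have h' := congrArg (fun S => MulAut.conj e • S) h
      simp only [← conj_mul_smul] at h'
      rw [← h']
      congr 2
      group
    obtain ⟨d1, d2⟩ := dich _ hg hgV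
    have hc := le_centralizer_of_dichotomy hA h₁ hg d1 d2
    rw [mem_conj_smul_iff] at ha hu
    have hu' : e⁻¹ * u * e ∈ MulAut.conj (e⁻¹ * f) • ⁅V, E₁⁆ := by
      rw [mem_conj_smul_iff]
      convert hu using 1
      group
    have h3 := (Subgroup.mem_centralizer_iff.mp (hc ha)) _ hu'
    calc a * u = e * ((e⁻¹ * a * e) * (e⁻¹ * u * e)) * e⁻¹ := by group
      _ = e * ((e⁻¹ * u * e) * (e⁻¹ * a * e)) * e⁻¹ := by rw [h3]
      _ = u * a := by group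
  have centV₁ : ∀ e ∈ E, MulAut.conj e • ⁅V, E₁⁆ ≠ ⁅V, E₁⁆ →
      ∀ a ∈ MulAut.conj e • E₁, ∀ u ∈ ⁅V, E₁⁆, a * u = u * a := by
    intro e he hne a ha u hu
    refine cent e he 1 E.one_mem ?_ a ha u ?_
    · rwa [conj_one_smul]
    · rwa [conj_one_smul]
  -- surjectivity of `v ↦ ⁅v, y⁆`
  have surj : ∀ y ∈ E₂, MulAut.conj y • ⁅V, E₁⁆ ≠ ⁅V, E₁⁆ → ∀ w ∈ ⁅V, E₂⁆,
      ∃ v ∈ ⁅V, E₁⁆, w = ⁅v, y⁆ := by
    intro y hy hne w hw
    exact exists_eq_comm hA h₁ hy (dich y (hE₂E hy) hne).2 hcard hw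
  have hxI : ⁅V, E₁⁆ ⊓ MulAut.conj x • ⁅V, E₁⁆ = ⊥ := (dich x (hE₂E hx) hxV).2
  have hcomm_eq : ∀ v y : G, ⁅v, y⁆ = v * (y * v⁻¹ * y⁻¹) := by
    intro v y; rw [commutatorElement_def]; group
  -- `V₂` meets `V₁` and `x • V₁` trivially
  have hb₁ : ∀ w ∈ ⁅V, E₂⁆, w ∈ ⁅V, E₁⁆ → w = 1 := by
    intro w hw hw1
    obtain ⟨v, hv, rfl⟩ := surj x hx hxV w hw
    have h1 : x * v⁻¹ * x⁻¹ ∈ ⁅V, E₁⁆ := by
      have : x * v⁻¹ * x⁻¹ = v⁻¹ * ⁅v, x⁆ := by rw [hcomm_eq]; group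
      rw [this]
      exact Subgroup.mul_mem _ (Subgroup.inv_mem _ hv) hw1
    have h2 : x * v⁻¹ * x⁻¹ ∈ MulAut.conj x • ⁅V, E₁⁆ :=
      conj_mem_conj_smul (Subgroup.inv_mem _ hv)
    have h3 : x * v⁻¹ * x⁻¹ ∈ (⊥ : Subgroup G) := hxI ▸ Subgroup.mem_inf.mpr ⟨h1, h2⟩
    rw [Subgroup.mem_bot] at h3
    rw [hcomm_eq, h3, mul_one]
    have : v⁻¹ = x⁻¹ * (x * v⁻¹ * x⁻¹) * x := by group
    rw [h3] at this
    simpa using this
  have hb₂ : ∀ w ∈ ⁅V, E₂⁆, w ∈ MulAut.conj x • ⁅V, E₁⁆ → w = 1 := by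
    intro w hw hw1
    obtain ⟨v, hv, rfl⟩ := surj x hx hxV w hw
    have h2 : x * v * x⁻¹ ∈ MulAut.conj x • ⁅V, E₁⁆ := conj_mem_conj_smul hv
    have h1 : v ∈ MulAut.conj x • ⁅V, E₁⁆ := by
      have : v = ⁅v, x⁆ * (x * v * x⁻¹) := by rw [hcomm_eq]; group
      rw [this]
      exact Subgroup.mul_mem _ hw1 h2
    have h3 : v ∈ (⊥ : Subgroup G) := hxI ▸ Subgroup.mem_inf.mpr ⟨hv, h1⟩
    rw [Subgroup.mem_bot] at h3
    rw [h3, commutatorElement_one_left]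
  -- the orbit of `V₁` under `E₂` has exactly two members
  have orbit : ∀ y ∈ E₂, MulAut.conj y • ⁅V, E₁⁆ = ⁅V, E₁⁆ ∨
      MulAut.conj y • ⁅V, E₁⁆ = MulAut.conj x • ⁅V, E₁⁆ := by
    intro y hy
    by_contra hcon
    rw [not_or] at hcon
    obtain ⟨hy1, hy2⟩ := hcon
    obtain ⟨⟨w, hw⟩, hw1⟩ := (Subgroup.ne_bot_iff_exists_ne_one.mp (h₂.comm_ne_bot hA))
    have hw1' : w ≠ 1 := fun h => hw1 (Subtype.ext h)
    obtain ⟨v, hv, hwv⟩ := surj x hx hxV w hw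
    obtain ⟨v', hv', hwv'⟩ := surj y hy hy1 w hw
    -- `b = x v⁻¹ x⁻¹` is centralized by `x • E₁`
    have hb : x * v⁻¹ * x⁻¹ = v⁻¹ * v' * (y * v'⁻¹ * y⁻¹) := by
      have h1 : v * (x * v⁻¹ * x⁻¹) = v' * (y * v'⁻¹ * y⁻¹) := by
        rw [← hcomm_eq, ← hcomm_eq, ← hwv, ← hwv']
      calc x * v⁻¹ * x⁻¹ = v⁻¹ * (v * (x * v⁻¹ * x⁻¹)) := by group
        _ = v⁻¹ * (v' * (y * v'⁻¹ * y⁻¹)) := by rw [h1]
        _ = v⁻¹ * v' * (y * v'⁻¹ * y⁻¹) := by group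
    have hfix : v⁻¹ ∈ ⁅V, E₁⁆ ⊓ Subgroup.centralizer (E₁ : Set G) := by
      refine Subgroup.mem_inf.mpr ⟨Subgroup.inv_mem _ hv, ?_⟩
      rw [Subgroup.mem_centralizer_iff]
      intro a₀ ha₀
      have ha : x * a₀ * x⁻¹ ∈ MulAut.conj x • E₁ := conj_mem_conj_smul ha₀
      have c1 := centV₁ x (hE₂E hx) hxV _ ha _ (Subgroup.inv_mem _ hv)
      have c2 := centV₁ x (hE₂E hx) hxV _ ha _ hv'
      have c3 := cent x (hE₂E hx) y (hE₂E hy) (Ne.symm hy2) _ ha _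
        (conj_mem_conj_smul (Subgroup.inv_mem _ hv'))
      have c4 : (x * a₀ * x⁻¹) * (x * v⁻¹ * x⁻¹) = (x * v⁻¹ * x⁻¹) * (x * a₀ * x⁻¹) := by
        rw [hb]
        calc x * a₀ * x⁻¹ * (v⁻¹ * v' * (y * v'⁻¹ * y⁻¹))
            = (x * a₀ * x⁻¹ * v⁻¹) * v' * (y * v'⁻¹ * y⁻¹) := by group
          _ = (v⁻¹ * (x * a₀ * x⁻¹)) * v' * (y * v'⁻¹ * y⁻¹) := by rw [c1]
          _ = v⁻¹ * ((x * a₀ * x⁻¹) * v') * (y * v'⁻¹ * y⁻¹) := by group
          _ = v⁻¹ * (v' * (x * a₀ * x⁻¹)) * (y * v'⁻¹ * y⁻¹) := by rw [c2]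
          _ = v⁻¹ * v' * ((x * a₀ * x⁻¹) * (y * v'⁻¹ * y⁻¹)) := by group
          _ = v⁻¹ * v' * ((y * v'⁻¹ * y⁻¹) * (x * a₀ * x⁻¹)) := by rw [c3]
          _ = v⁻¹ * v' * (y * v'⁻¹ * y⁻¹) * (x * a₀ * x⁻¹) := by group
      calc a₀ * v⁻¹ = x⁻¹ * ((x * a₀ * x⁻¹) * (x * v⁻¹ * x⁻¹)) * x := by group
        _ = x⁻¹ * ((x * v⁻¹ * x⁻¹) * (x * a₀ * x⁻¹)) * x := by rw [c4]
        _ = v⁻¹ * a₀ := by group
    rw [h₁.fixed_eq_bot hA, Subgroup.mem_bot, inv_eq_one] at hfix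
    apply hw1'
    rw [hwv, hfix, commutatorElement_one_left]
  -- the stabilizer of `V₁` in `E₂` is trivial
  have hxV' : MulAut.conj x • ⁅V, E₁⁆ ≤ V := by
    have := (Subgroup.pointwise_smul_le_pointwise_smul_iff (a := MulAut.conj x)).mpr hV₁V
    rwa [conj_smul_eq_iff_mem_normalizer.mpr (hA.hEV (hE₂E hx))] at this
  have stab : ∀ s ∈ E₂, s ∈ Subgroup.normalizer ((⁅V, E₁⁆ : Subgroup G) : Set G) → s = 1 := by
    intro s hs hsN
    have hcomm_mem : ∀ (W : Subgroup G), s ∈ Subgroup.normalizer (W : Set G) →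
        ∀ u ∈ W, ⁅u, s⁆ ∈ W := by
      intro W hsW u hu
      rw [hcomm_eq]
      exact W.mul_mem hu ((Subgroup.mem_normalizer_iff.mp hsW _).mp (W.inv_mem hu))
    have hi : ∀ v ∈ ⁅V, E₁⁆, s * v = v * s := by
      intro v hv
      have h1 : ⁅v, s⁆ ∈ ⁅V, E₂⁆ := Subgroup.commutator_mem_commutator (hV₁V hv) hs
      have h2 := hb₁ _ h1 (hcomm_mem _ hsN v hv)
      exact (commutatorElement_eq_one_iff_commute.mp h2).symm.eq
    have hii : s ∈ Subgroup.normalizer ((MulAut.conj x • ⁅V, E₁⁆ : Subgroup G) : Set G) := by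
      rw [← conj_smul_eq_iff_mem_normalizer, ← conj_mul_smul]
      rcases orbit (s * x) (E₂.mul_mem hs hx) with h | h
      · exfalso
        apply hxV
        rw [conj_mul_smul] at h
        have h' : MulAut.conj x • ⁅V, E₁⁆ = (MulAut.conj s)⁻¹ • ⁅V, E₁⁆ := eq_inv_smul_iff.mpr h
        rw [h', ← map_inv, conj_smul_eq_iff_mem_normalizer]
        exact Subgroup.inv_mem _ hsN
      · exact h
    have hiii : ∀ u ∈ MulAut.conj x • ⁅V, E₁⁆, s * u = u * s := by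
      intro u hu
      have h1 : ⁅u, s⁆ ∈ ⁅V, E₂⁆ := Subgroup.commutator_mem_commutator (hxV' hu) hs
      have h2 := hb₂ _ h1 (hcomm_mem _ hii u hu)
      exact (commutatorElement_eq_one_iff_commute.mp h2).symm.eq
    have hiv : s ∈ E₂ ⊓ Subgroup.centralizer ((⁅V, E₂⁆ : Subgroup G) : Set G) := by
      refine Subgroup.mem_inf.mpr ⟨hs, ?_⟩
      rw [Subgroup.mem_centralizer_iff]
      intro w hw
      obtain ⟨v, hv, rfl⟩ := surj x hx hxV w hw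
      have c1 := hi v hv
      have c2 := hiii _ (conj_mem_conj_smul (Subgroup.inv_mem _ hv))
      rw [hcomm_eq]
      calc v * (x * v⁻¹ * x⁻¹) * s = v * ((x * v⁻¹ * x⁻¹) * s) := by group
        _ = v * (s * (x * v⁻¹ * x⁻¹)) := by rw [c2]
        _ = (v * s) * (x * v⁻¹ * x⁻¹) := by group
        _ = (s * v) * (x * v⁻¹ * x⁻¹) := by rw [c1]
        _ = s * (v * (x * v⁻¹ * x⁻¹)) := by group
    rw [h₂.faithful hA, Subgroup.mem_bot] at hiv
    exact hiv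
  -- hence `E₂ ⊆ {1, x}`
  have hsub : (E₂ : Set G) ⊆ {1, x} := by
    intro y hy
    rcases orbit y hy with h | h
    · left
      exact stab y hy (conj_smul_eq_iff_mem_normalizer.mp h)
    · right
      have h' : MulAut.conj (x⁻¹ * y) • ⁅V, E₁⁆ = ⁅V, E₁⁆ := by
        rw [conj_mul_smul, h, ← conj_mul_smul, inv_mul_cancel, conj_one_smul]
      have := stab (x⁻¹ * y) (E₂.mul_mem (E₂.inv_mem hx) hy)
        (conj_smul_eq_iff_mem_normalizer.mp h')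
      calc y = x * (x⁻¹ * y) := by group
        _ = x := by rw [this, mul_one]
  have hle : Nat.card E₂ ≤ 2 := by
    have h1 : Nat.card E₂ = (E₂ : Set G).ncard := (Nat.card_coe_set_eq _)
    rw [h1]
    calc (E₂ : Set G).ncard ≤ ({1, x} : Set G).ncard := Set.ncard_le_ncard hsub (Set.toFinite _)
      _ ≤ ({x} : Set G).ncard + 1 := Set.ncard_insert_le _ _
      _ = 2 := by rw [Set.ncard_singleton]
  have := h₂.hc
  omega


theorem main_aux [Finite G] [Fact p.Prime] (V : Subgroup G) :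
    ∀ (n : ℕ) (E E₁ E₂ : Subgroup G), Nat.card E = n → Amb p V E → Side V E E₁ → Side V E E₂ →
      E = E₁ ⊔ E₂ → ¬ ⁅V, E₁⁆ ≤ ⁅V, E₂⁆ → ¬ ⁅V, E₂⁆ ≤ ⁅V, E₁⁆ → Concl V E E₁ E₂ := by
  intro n
  induction n using Nat.strong_induction_on with
  | _ n ih =>
    intro E E₁ E₂ hn hA h₁ h₂ hgen h12 h21
    have IH : IHyp p V E := by
      intro E' F₁ F₂ hlt hA' hS₁ hS₂ hg' a b
      exact ih (Nat.card E') (hn ▸ hlt) E' F₁ F₂ rfl hA' hS₁ hS₂ hg' a b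
    by_cases hN₁ : E₂ ≤ Subgroup.normalizer ((⁅V, E₁⁆ : Subgroup G) : Set G)
    · exact concl_of_normalizes hA h₁ h₂ hgen h21 hN₁
    by_cases hN₂ : E₁ ≤ Subgroup.normalizer ((⁅V, E₂⁆ : Subgroup G) : Set G)
    · exact (concl_of_normalizes hA h₂ h₁ (hgen.trans (sup_comm _ _)) h12 hN₂).symm
    exfalso
    have hne₁ : E₁ ≠ E := by
      intro h
      apply h21
      rw [h]
      exact Subgroup.commutator_mono le_rfl h₂.hFE
    have hne₂ : E₂ ≠ E := by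
      intro h
      apply h12
      rw [h]
      exact Subgroup.commutator_mono le_rfl h₁.hFE
    obtain ⟨x, hx, hx'⟩ := SetLike.not_le_iff_exists.mp hN₁
    obtain ⟨y, hy, hy'⟩ := SetLike.not_le_iff_exists.mp hN₂
    have hxV : MulAut.conj x • ⁅V, E₁⁆ ≠ ⁅V, E₁⁆ :=
      fun h => hx' (conj_smul_eq_iff_mem_normalizer.mp h)
    have hyV : MulAut.conj y • ⁅V, E₂⁆ ≠ ⁅V, E₂⁆ :=
      fun h => hy' (conj_smul_eq_iff_mem_normalizer.mp h)
    have dich₁ : ∀ e ∈ E, MulAut.conj e • ⁅V, E₁⁆ ≠ ⁅V, E₁⁆ →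
        ⁅E₁, MulAut.conj e • E₁⁆ = ⊥ ∧ ⁅V, E₁⁆ ⊓ MulAut.conj e • ⁅V, E₁⁆ = ⊥ :=
      fun e he hne => conj_dichotomy hA IH h₁ hne₁ he hne
    have dich₂ : ∀ e ∈ E, MulAut.conj e • ⁅V, E₂⁆ ≠ ⁅V, E₂⁆ →
        ⁅E₂, MulAut.conj e • E₂⁆ = ⊥ ∧ ⁅V, E₂⁆ ⊓ MulAut.conj e • ⁅V, E₂⁆ = ⊥ :=
      fun e he hne => conj_dichotomy hA IH h₂ hne₂ he hne
    have hc21 : Nat.card (⁅V, E₂⁆ : Subgroup G) ≤ Nat.card (⁅V, E₁⁆ : Subgroup G) :=
      card_comm_le hA h₂ hy (dich₂ y (h₁.hFE hy) hyV).2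
    exact false_of_moves hA h₁ h₂ dich₁ hx hxV hc21

end main

/-- Two subnormal subgroups acting irreducibly on their incomparable commutator modules, in a faithful group with trivial largest normal p-subgroup, generate their direct product, and the commutator module splits accordingly. -/
theorem result {G : Type*} [Group G] [Finite G] {p : ℕ} [Fact p.Prime] (V E E₁ E₂ : Subgroup G) (hV : Cfsg.IsElementaryAbelian p V) (hEV : E ≤ Subgroup.normalizer (V : Set G)) (hf : E ⊓ Subgroup.centralizer (V : Set G) = ⊥) (hgen : E = E₁ ⊔ E₂) (hs₁ : (E₁.subgroupOf E).IsSubnormal) (hs₂ : (E₂.subgroupOf E).IsSubnormal) (hOp : Cfsg.pCore p ↥E = ⊥) (hirr₁ : (∀ U : Subgroup G, U ≤ ⁅V, E₁⁆ → E₁ ≤ Subgroup.normalizer (U : Set G) → U = ⊥ ∨ U = ⁅V, E₁⁆)) (hirr₂ : (∀ U : Subgroup G, U ≤ ⁅V, E₂⁆ → E₂ ≤ Subgroup.normalizer (U : Set G) → U = ⊥ ∨ U = ⁅V, E₂⁆)) (h12 : ¬ ⁅V, E₁⁆ ≤ ⁅V, E₂⁆) (h21 : ¬ ⁅V,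 E₂⁆ ≤ ⁅V, E₁⁆) (hc₁ : 2 < Nat.card E₁) (hc₂ : 2 < Nat.card E₂) : ⁅E₁, E₂⁆ = ⊥ ∧ E₁ ⊓ E₂ = ⊥ ∧ ⁅V, E₁⁆ ⊓ ⁅V, E₂⁆ = ⊥ ∧ ⁅V, E⁆ = ⁅V, E₁⁆ ⊔ ⁅V, E₂⁆ := by
  have hA : Amb p V E := ⟨hV, hEV, hf, hOp⟩
  have hE₁ : E₁ ≤ E := by rw [hgen]; exact le_sup_left
  have hE₂ : E₂ ≤ E := by rw [hgen]; exact le_sup_right
  have h₁ : Side V E E₁ := ⟨hE₁, hs₁, hirr₁, hc₁⟩
  have h₂ : Side V E E₂ := ⟨hE₂, hs₂, hirr₂, hc₂⟩
  exact main_aux V _ E E₁ E₂ rfl hA h₁ h₂ hgen h12 h21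

end Cfsg.Agent.S0615
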