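import Cfsg.Statements.S0622
import Mathlib
import Cfsg.Agent.Lib.Helper10.ElemAb
import Cfsg.Agent.Lib.Helper10.ThompsonMap

set_option autoImplicit false
open Cfsg

namespace Cfsg.Agent.S0622

open Cfsg.Agent.Helper10

universe u

variable {S S' : Type u} [Group S] [Group S']

/-- The centre is transported by isomorphisms. -/
lemma map_center (η : S ≃* S') : (Subgroup.center S).map η.toMonoidHom = Subgroup.center S' := by
  ext y
  constructor
  · rintro ⟨x, hx, rfl⟩
    rw [SetLike.mem_coe, Subgroup.mem_center_iff] at hx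
    rw [Subgroup.mem_center_iff]
    intro g
    obtain ⟨g, rfl⟩ := η.surjective g
    show η g * η x = η x * η g
    rw [← map_mul, ← map_mul, hx g]
  · intro hy
    refine ⟨η.symm y, ?_, by simp⟩
    rw [Subgroup.mem_center_iff] at hy
    rw [SetLike.mem_coe, Subgroup.mem_center_iff]
    intro g
    have := hy (η g)
    apply η.injective
    rw [map_mul, map_mul, η.apply_symm_apply]
    exact this

lemma map_omegaOne_center (p : ℕ) (η : S ≃* S') :
    (omegaOne p (Subgroup.center S)).map η.toMonoidHom = omegaOne p (Subgroup.center S') := by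
  rw [← omegaOne_map p η.toMonoidHom _ (fun x _ hx => (map_eq_one_iff η η.injective).mp hx),
    map_center]

lemma map_omegaCenterThompson (p : ℕ) (η : S ≃* S') :
    (omegaCenterThompson p S).map η.toMonoidHom = omegaCenterThompson p S' := by
  unfold omegaCenterThompson
  have hinj : ∀ (K : Subgroup S), ∀ x ∈ K, η.toMonoidHom x = 1 → x = 1 :=
    fun K x _ hx => (map_eq_one_iff η η.injective).mp hx
  rw [← omegaOne_map p η.toMonoidHom _ (hinj _), ← inf_centralizer_map η.toMonoidHom _ (hinj _),
    thompsonSubgroup_map_mulEquiv]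

/-- Stable embeddings are transported along isomorphisms. -/
lemma isStableEmbedding_comp {p : ℕ} {H : Type u} [Group H] (η : S ≃* S') (τ' : S' →* H)
    (h : IsStableEmbedding p τ') : IsStableEmbedding p (τ'.comp η.toMonoidHom) := by
  obtain ⟨h1, h2, ⟨P, hP⟩, h4, h5, h6⟩ := h
  refine ⟨h1.comp η.injective, h2, ⟨P, ?_⟩, h4, ?_, ?_⟩
  · rw [hP, MonoidHom.range_comp, MonoidHom.range_eq_top_of_surjective η.toMonoidHom η.surjective,
      ← MonoidHom.range_eq_map]
  · rw [← Subgroup.map_map, thompsonSubgroup_map_mulEquiv]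
    exact h5
  · intro V hV hVle
    apply h6 V
    rwa [← Subgroup.map_map, map_omegaCenterThompson] at hVle

/-- The family defining `W(S)`. -/
def fam (p : ℕ) (S : Type u) [Group S] : Set (Subgroup S) :=
  {W : Subgroup S | omegaOne p (Subgroup.center S) ≤ W ∧
    ∀ (H : Type u) [Group H] (τ : S →* H), IsStableEmbedding p τ → (W.map τ).Normal}

lemma stableNormalClosure_eq (p : ℕ) (S : Type u) [Group S] :
    stableNormalClosure p S = sInf (fam p S) := rfl

lemma comap_mem_fam {p : ℕ} (η : S ≃* S') {W' : Subgroup S'} (hW' : W' ∈ fam p S') :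
    W'.comap η.toMonoidHom ∈ fam p S := by
  obtain ⟨h1, h2⟩ := hW'
  refine ⟨?_, ?_⟩
  · rw [← Subgroup.map_le_iff_le_comap, map_omegaOne_center]
    exact h1
  · intro H _ τ hτ
    have hτ' : IsStableEmbedding p (τ.comp η.symm.toMonoidHom) := isStableEmbedding_comp η.symm τ hτ
    have h3 := h2 H (τ.comp η.symm.toMonoidHom) hτ'
    have h4 : W'.map (τ.comp η.symm.toMonoidHom) = (W'.comap η.toMonoidHom).map τ := by
      rw [← Subgroup.map_map]
      congr 1
      exact Subgroup.map_equiv_eq_comap_symm η.symm W'
    rwa [h4] at h3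

lemma map_stableNormalClosure_le (p : ℕ) (η : S ≃* S') :
    (stableNormalClosure p S).map η.toMonoidHom ≤ stableNormalClosure p S' := by
  rw [stableNormalClosure_eq p S']
  apply le_sInf
  intro W' hW'
  rw [Subgroup.map_le_iff_le_comap]
  exact sInf_le (comap_mem_fam η hW')

lemma map_stableNormalClosure (p : ℕ) (η : S ≃* S') :
    (stableNormalClosure p S).map η.toMonoidHom = stableNormalClosure p S' := by
  apply le_antisymm (map_stableNormalClosure_le p η)
  have h := map_stableNormalClosure_le p η.symm
  have h2 := Subgroup.map_mono (f := η.toMonoidHom) h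
  rw [Subgroup.map_map] at h2
  have h3 : η.toMonoidHom.comp η.symm.toMonoidHom = MonoidHom.id S' := by
    ext x; simp
  rwa [h3, Subgroup.map_id] at h2

/-- `Ω₁(Z(J(S)))` belongs to the family. -/
lemma omegaCenterThompson_mem_fam (p : ℕ) [Fact p.Prime] (S : Type u) [Group S] [Finite S] :
    omegaCenterThompson p S ∈ fam p S := by
  refine ⟨?_, ?_⟩
  · -- Ω₁(Z(S)) ≤ Ω₁(Z(J(S)))
    unfold omegaOne omegaCenterThompson omegaOne
    apply Subgroup.closure_mono
    rintro x ⟨hxZ, hxp⟩
    rw [Subgroup.mem_center_iff] at hxZ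
    refine ⟨Subgroup.mem_inf.mpr ⟨?_, ?_⟩, hxp⟩
    · -- x lies in every maximal elementary abelian subgroup
      obtain ⟨A, hA⟩ := maxElementaryAbelianSubgroups_nonempty p S
      have hZ := isElementaryAbelian_zpowers hxp
      have hsup : IsElementaryAbelian p (A ⊔ Subgroup.zpowers x) := by
        apply elemAb_sup_of_commute hA.1 hZ
        intro a _ b hb
        obtain ⟨k, rfl⟩ := Subgroup.mem_zpowers_iff.mp hb
        have : Commute a x := (hxZ a)
        exact (this.zpow_right k)
      have hcard := hA.2 _ hsup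
      have hEq : A = A ⊔ Subgroup.zpowers x := Subgroup.eq_of_le_of_card_ge le_sup_left hcard
      apply le_thompsonSubgroup hA
      rw [hEq]
      exact Subgroup.mem_sup_right (Subgroup.mem_zpowers x)
    · rw [Subgroup.mem_centralizer_iff]
      intro y _
      exact hxZ y
  · intro H _ τ hτ
    obtain ⟨hinj, hfin, -, -, hJn, -⟩ := hτ
    have hinj' : ∀ (K : Subgroup S), ∀ x ∈ K, τ x = 1 → x = 1 :=
      fun K x _ hx => (map_eq_one_iff τ hinj).mp hx
    unfold omegaCenterThompson
    rw [← omegaOne_map p τ _ (hinj' _), ← inf_centralizer_map τ _ (hinj' _)]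
    set N := (thompsonSubgroup p S).map τ with hN
    haveI := hJn
    haveI hCn : (Subgroup.centralizer (N : Set H)).Normal := Subgroup.normal_centralizer
    constructor
    intro n hn g
    have hle : omegaOne p (N ⊓ Subgroup.centralizer (N : Set H)) ≤
        (omegaOne p (N ⊓ Subgroup.centralizer (N : Set H))).comap (MulAut.conj g).toMonoidHom := by
      unfold omegaOne
      rw [Subgroup.closure_le]
      rintro x ⟨hx, hxp⟩
      rw [Subgroup.mem_inf] at hx
      rw [SetLike.mem_coe, Subgroup.mem_comap]
      show (MulAut.conj g) x ∈ _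
      rw [MulAut.conj_apply]
      apply Subgroup.subset_closure
      refine ⟨Subgroup.mem_inf.mpr ⟨hJn.conj_mem x hx.1 g, hCn.conj_mem x hx.2 g⟩, ?_⟩
      rw [conj_pow, hxp, mul_one, mul_inv_cancel]
    have := hle hn
    simpa using this

/-- Basic properties of the stable normal closure W(S) of Ω₁(Z(S)) in a finite p-group: characteristic, squeezed between Ω₁(Z(S)) and Ω₁(Z(J(S))), nontrivial for S ≠ 1, and transported by group isomorphisms. -/
theorem result {S : Type u} [Group S] [Finite S] {p : ℕ} [Fact p.Prime] (hS : IsPGroup p S) : (Cfsg.stableNormalClosure p S).Characteristic ∧ Cfsg.omegaOne p (Subgroup.center S) ≤ Cfsg.stableNormalClosure p S ∧ Cfsg.stableNormalClosure p S ≤ Cfsg.omegaCenterThompson p S ∧ (Nontrivial S → Cfsg.stableNormalClosure p S ≠ ⊥) ∧ ∀ (S' : Type u) [Group S'] (η : S ≃* S'), (Cfsg.stableNormalClosure p S).map η.toMonoidHom = Cfsg.stableNormalClosure p S' := by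
  have h2 : Cfsg.omegaOne p (Subgroup.center S) ≤ Cfsg.stableNormalClosure p S := by
    rw [stableNormalClosure_eq]
    apply le_sInf
    intro W hW
    exact hW.1
  refine ⟨?_, h2, ?_, ?_, ?_⟩
  · rw [Subgroup.characteristic_iff_map_eq]
    intro φ
    exact map_stableNormalClosure p φ
  · rw [stableNormalClosure_eq]
    exact sInf_le (omegaCenterThompson_mem_fam p S)
  · intro hnt hbot
    haveI := hnt
    have hZ : Nontrivial (Subgroup.center S) := hS.center_nontrivial
    have hcard : Nat.card (Subgroup.center S) ≠ 1 := by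
      intro h1
      have := (Nat.card_eq_one_iff_unique.mp h1).1
      exact not_subsingleton _ this
    obtain ⟨k, hk⟩ := IsPGroup.iff_card.mp (hS.to_subgroup (Subgroup.center S))
    have hpd : p ∣ Nat.card (Subgroup.center S) := by
      rw [hk]
      rcases Nat.eq_zero_or_pos k with h0 | hpos
      · rw [h0, pow_zero] at hk; exact absurd hk hcard
      · exact dvd_pow_self p hpos.ne'
    obtain ⟨z, hz⟩ := exists_prime_orderOf_dvd_card' (G := Subgroup.center S) p hpd
    have hzmem : (z : S) ∈ Cfsg.omegaOne p (Subgroup.center S) := by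
      apply Subgroup.subset_closure
      refine ⟨z.2, ?_⟩
      rw [← Subgroup.coe_pow, ← hz, pow_orderOf_eq_one, Subgroup.coe_one]
    have := h2 hzmem
    rw [hbot, Subgroup.mem_bot] at this
    have hz1 : z = 1 := Subtype.ext this
    rw [hz1, orderOf_one] at hz
    exact (Fact.out : p.Prime).one_lt.ne hz
  · intro S' _ η
    exact map_stableNormalClosure p η

end Cfsg.Agent.S0622
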