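import Cfsg.Statements.S0623
import Cfsg.Agent.Lib.Helper10.StableClosure

set_option autoImplicit false
open Cfsg

namespace Cfsg.Agent.S0623

open Cfsg.Agent.Helper10

/-- No element of a finite p-group acts quadratically and nontrivially on the stable normal closure W(S). -/
theorem result {S : Type*} [Group S] [Finite S] {p : ℕ} [Fact p.Prime] (hS : IsPGroup p S) (x : S) (hq : ⁅⁅Cfsg.stableNormalClosure p S, Subgroup.zpowers x⁆, Subgroup.zpowers x⁆ = ⊥) : ⁅Cfsg.stableNormalClosure p S, Subgroup.zpowers x⁆ = ⊥ := by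
  set W := Cfsg.stableNormalClosure p S with hW
  set Z : Set S := {y | ⁅⁅W, Subgroup.zpowers y⁆, Subgroup.zpowers y⁆ = ⊥} with hZ
  set U₀ := W ⊓ Subgroup.centralizer Z with hU₀
  have hU₀mem : U₀ ∈ stableFamily p S := by
    refine ⟨le_inf (omegaOne_center_le_stableNormalClosure p S) ?_, ?_⟩
    · exact (omegaOne_le_self p _).trans (Subgroup.center_le_centralizer _)
    · intro H _ τ hτ
      haveI : Finite H := hτ.2.1
      obtain ⟨P, hP⟩ := hτ.2.2.1
      haveI hVn : (W.map τ).Normal := stableNormalClosure_map_normal τ hτ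
      have hVle : W.map τ ≤ (omegaCenterThompson p S).map τ :=
        Subgroup.map_mono (stableNormalClosure_le_omegaCenterThompson p)
      have hst : IsPStableOn p (W.map τ) := hτ.2.2.2.2.2 (W.map τ) hVle
      constructor
      rintro _ ⟨u, hu, rfl⟩ h
      obtain ⟨huW, huZ⟩ := Subgroup.mem_inf.mp hu
      have h1 : h * τ u * h⁻¹ ∈ W.map τ := hVn.conj_mem _ ⟨u, huW, rfl⟩ h
      obtain ⟨w, hwW, hw⟩ := h1
      refine ⟨w, Subgroup.mem_inf.mpr ⟨hwW, ?_⟩, hw⟩
      rw [Subgroup.mem_centralizer_iff]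
      intro y hy
      -- `a := h⁻¹ τ(y) h` is quadratic on `V`
      have hqa : ⁅⁅W.map τ, Subgroup.zpowers (h⁻¹ * τ y * h⁻¹⁻¹)⁆,
          Subgroup.zpowers (h⁻¹ * τ y * h⁻¹⁻¹)⁆ = ⊥ := quad_conj h⁻¹ (quad_map τ hy)
      rw [inv_inv] at hqa
      have hmem := hst _ hqa
      obtain ⟨s, hsP, hsa⟩ :=
        exists_mem_sylow_of_mk_mem_pCore (Subgroup.centralizer ((W.map τ : Subgroup H) : Set H))
          P hmem
      have hsP' : s ∈ (P : Subgroup H) := hsP
      rw [hP] at hsP'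
      obtain ⟨y', rfl⟩ := hsP'
      have hqy' : ⁅⁅W.map τ, Subgroup.zpowers (τ y')⁆, Subgroup.zpowers (τ y')⁆ = ⊥ :=
        quad_of_quotient_eq hsa.symm hqa
      have hy'Z : y' ∈ Z := quad_of_map τ hτ.1 hqy'
      have hc1 : y' * u = u * y' := (Subgroup.mem_centralizer_iff.mp huZ) y' hy'Z
      have hc : (τ y')⁻¹ * (h⁻¹ * τ y * h) ∈
          Subgroup.centralizer ((W.map τ : Subgroup H) : Set H) := QuotientGroup.eq.mp hsa
      have hc2 := (Subgroup.mem_centralizer_iff.mp hc) (τ u) ⟨u, huW, rfl⟩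
      have hc1' : τ y' * τ u = τ u * τ y' := by rw [← map_mul, ← map_mul, hc1]
      have hc3 : (h⁻¹ * τ y * h) * τ u = τ u * (h⁻¹ * τ y * h) := by
        calc (h⁻¹ * τ y * h) * τ u
            = τ y' * (((τ y')⁻¹ * (h⁻¹ * τ y * h)) * τ u) := by group
          _ = τ y' * (τ u * ((τ y')⁻¹ * (h⁻¹ * τ y * h))) := by rw [hc2]
          _ = (τ y' * τ u) * ((τ y')⁻¹ * (h⁻¹ * τ y * h)) := by group
          _ = (τ u * τ y') * ((τ y')⁻¹ * (h⁻¹ * τ y * h)) := by rw [hc1']
          _ = τ u * (h⁻¹ * τ y * h) := by group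
      have hc4 : τ y * τ w = τ w * τ y := by
        rw [hw]
        calc τ y * (h * τ u * h⁻¹) = h * ((h⁻¹ * τ y * h) * τ u) * h⁻¹ := by group
          _ = h * (τ u * (h⁻¹ * τ y * h)) * h⁻¹ := by rw [hc3]
          _ = h * τ u * h⁻¹ * τ y := by group
      apply hτ.1
      rw [map_mul, map_mul, hc4]
  have hle : W ≤ U₀ := stableNormalClosure_le_of_mem hU₀mem
  rw [Subgroup.commutator_eq_bot_iff_le_centralizer]
  intro w hw
  have hwZ : w ∈ Subgroup.centralizer Z := (Subgroup.mem_inf.mp (hle hw)).2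
  have hxw : x * w = w * x := (Subgroup.mem_centralizer_iff.mp hwZ) x hq
  rw [Subgroup.mem_centralizer_iff]
  intro g hg
  obtain ⟨k, rfl⟩ := Subgroup.mem_zpowers_iff.mp hg
  have : Commute x w := hxw
  exact (this.zpow_left k).eq

end Cfsg.Agent.S0623
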