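import Cfsg.Statements.S0624
import Cfsg.Agent.S0623
import Cfsg.Agent.S0607
import Cfsg.Agent.Lib.Helper10.StableCore
import Cfsg.Agent.Lib.Helper11.ZJ1

set_option autoImplicit false
open Cfsg

namespace Cfsg.Agent.S0624

open Cfsg.Agent.Helper10 Cfsg.Agent.Helper11.ZJ
open scoped commutatorElement

universe u

variable {G : Type u} [Group G]

/-- The closure of a set of pairwise commuting elements of order dividing `p` is elementary abelian. -/
lemma elemAb_closure {p : ℕ} {T : Set G} (hcomm : ∀ x ∈ T, ∀ y ∈ T, x * y = y * x)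
    (hpow : ∀ x ∈ T, x ^ p = 1) : IsElementaryAbelian p (Subgroup.closure T) := by
  have hc : IsMulCommutative (Subgroup.closure T) := Subgroup.isMulCommutative_closure hcomm
  rw [isElementaryAbelian_iff]
  have hc' := isMulCommutative_iff_of_setLike.mp hc
  refine ⟨hc', ?_⟩
  intro a ha
  induction ha using Subgroup.closure_induction with
  | mem x hx => exact hpow x hx
  | one => exact one_pow p
  | mul x y hx hy hx1 hy1 =>
    have : Commute x y := hc' x hx y hy
    rw [this.mul_pow, hx1, hy1, one_mul]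
  | inv x _ hx1 => rw [inv_pow, hx1, inv_one]

/-- `Ω₁(Z(J(P)))` is elementary abelian. -/
lemma omegaCenterThompson_elemAb (p : ℕ) (P : Type u) [Group P] :
    IsElementaryAbelian p (omegaCenterThompson p P) := by
  unfold omegaCenterThompson omegaOne
  apply elemAb_closure
  · rintro x ⟨hx, -⟩ y ⟨hy, -⟩
    exact ((Subgroup.mem_centralizer_iff.mp (Subgroup.mem_inf.mp hy).2) x
      (Subgroup.mem_inf.mp hx).1)
  · rintro x ⟨-, hx⟩
    exact hx


/-- Conjugates of `W(S)` lying in `S` commute with `W(S)` elementwise. -/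
lemma commute_conj [Finite G] {p : ℕ} [Fact p.Prime] (S : Sylow p G) (Q : Subgroup G)
    [hQn : Q.Normal] (hQS : Q ≤ (S : Subgroup G))
    (hSW : (S : Subgroup G) ≤ Subgroup.normalizer (((stableNormalClosure p ↥(S : Subgroup G)).map
        (S : Subgroup G).subtype : Subgroup G) : Set G))
    (hWab : ∀ x ∈ (stableNormalClosure p ↥(S : Subgroup G)).map (S : Subgroup G).subtype,
      ∀ y ∈ (stableNormalClosure p ↥(S : Subgroup G)).map (S : Subgroup G).subtype,
      x * y = y * x)
    (hWQ : (stableNormalClosure p ↥(S : Subgroup G)).map (S : Subgroup G).subtype ≤ Q)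
    {w w' : G} (hw : w ∈ (stableNormalClosure p ↥(S : Subgroup G)).map (S : Subgroup G).subtype)
    (hw' : w' ∈ (stableNormalClosure p ↥(S : Subgroup G)).map (S : Subgroup G).subtype)
    (g : G) : w * (g * w' * g⁻¹) = (g * w' * g⁻¹) * w := by
  set W := stableNormalClosure p ↥(S : Subgroup G) with hW
  set W' := W.map (S : Subgroup G).subtype with hW'
  have hyQ : g * w' * g⁻¹ ∈ Q := hQn.conj_mem _ (hWQ hw') g
  have hyS : g * w' * g⁻¹ ∈ (S : Subgroup G) := hQS hyQ
  -- `y` acts quadratically on `W'`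
  have hquad : ⁅⁅W', Subgroup.zpowers (g * w' * g⁻¹)⁆, Subgroup.zpowers (g * w' * g⁻¹)⁆ = ⊥ := by
    rw [quad_iff]
    intro v hv i
    have hpow : (g * w' * g⁻¹) ^ i = g * w' ^ i * g⁻¹ := by
      have := map_zpow (MulAut.conj g) w' i
      rw [MulAut.conj_apply, MulAut.conj_apply] at this
      exact this.symm
    have hu : w' ^ i ∈ W' := W'.zpow_mem hw' i
    have hvg : g⁻¹ * v * g ∈ (S : Subgroup G) := by
      apply hQS
      have := hQn.conj_mem _ (hWQ hv) g⁻¹
      rwa [inv_inv] at this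
    have hu' : (g⁻¹ * v * g) * w' ^ i * (g⁻¹ * v * g)⁻¹ ∈ W' := ((hSW hvg) _).mp hu
    have hcomm_eq : ⁅v, (g * w' * g⁻¹) ^ i⁆ =
        g * ((g⁻¹ * v * g) * w' ^ i * (g⁻¹ * v * g)⁻¹ * (w' ^ i)⁻¹) * g⁻¹ := by
      rw [hpow, commutatorElement_def]; group
    rw [hcomm_eq]
    have h1 := hWab _ hw' _ (W'.mul_mem hu' (W'.inv_mem hu))
    show (g * w' * g⁻¹) * _ = _ * (g * w' * g⁻¹)
    calc g * w' * g⁻¹ * (g * ((g⁻¹ * v * g) * w' ^ i * (g⁻¹ * v * g)⁻¹ * (w' ^ i)⁻¹) * g⁻¹)
        = g * (w' * ((g⁻¹ * v * g) * w' ^ i * (g⁻¹ * v * g)⁻¹ * (w' ^ i)⁻¹)) * g⁻¹ := by group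
      _ = g * (((g⁻¹ * v * g) * w' ^ i * (g⁻¹ * v * g)⁻¹ * (w' ^ i)⁻¹) * w') * g⁻¹ := by rw [h1]
      _ = g * ((g⁻¹ * v * g) * w' ^ i * (g⁻¹ * v * g)⁻¹ * (w' ^ i)⁻¹) * g⁻¹ * (g * w' * g⁻¹) := by
        group
  -- pull back to `S` and use S0623
  have hquad' : ⁅⁅W, Subgroup.zpowers (⟨g * w' * g⁻¹, hyS⟩ : (S : Subgroup G))⁆,
      Subgroup.zpowers (⟨g * w' * g⁻¹, hyS⟩ : (S : Subgroup G))⁆ = ⊥ :=
    quad_of_map (S : Subgroup G).subtype (S : Subgroup G).subtype_injective hquad
  have hcent := Cfsg.Agent.S0623.result S.isPGroup' _ hquad'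
  have hcent' : ⁅W', Subgroup.zpowers (g * w' * g⁻¹)⁆ = ⊥ := by
    have := congrArg (Subgroup.map (S : Subgroup G).subtype) hcent
    rw [Subgroup.map_commutator, MonoidHom.map_zpowers, Subgroup.map_bot] at this
    exact this
  rw [Subgroup.commutator_eq_bot_iff_le_centralizer] at hcent'
  exact ((Subgroup.mem_centralizer_iff.mp (hcent' hw)) _ (Subgroup.mem_zpowers _)).symm


/-- The analogue of the ZJ-Theorem: in an action-p-stable group whose largest normal p-subgroup contains its centralizer, the characteristic subgroup W(S) of a Sylow p-subgroup S is normal. -/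
theorem result {G : Type*} [Group G] [Finite G] {p : ℕ} [Fact p.Prime] (hst : Cfsg.IsActionPStable p G) (hc : Subgroup.centralizer (Cfsg.pCore p G : Set G) ≤ Cfsg.pCore p G) (S : Sylow p G) : (((Cfsg.stableNormalClosure p ↥(S : Subgroup G)).map (S : Subgroup G).subtype)).Normal := by
  set W := stableNormalClosure p ↥(S : Subgroup G) with hW
  set W' := W.map (S : Subgroup G).subtype with hW'
  set Q := Cfsg.pCore p G with hQ
  set J := thompsonSubgroupOf p (S : Subgroup G) with hJ
  have hQS : Q ≤ (S : Subgroup G) := pCore_le_sylow S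
  obtain ⟨A₀, hA₀, hA₀S⟩ := exists_mem_maxElementaryAbelianSubgroups_le_sylow S
  have hJsSup := thompsonSubgroupOf_eq_sSup hA₀ hA₀S
  -- Step 1: `N_G(J(S)) ≤ N_G(W)`
  have hSL : (S : Subgroup G) ≤ Subgroup.normalizer (J : Set G) :=
    Subgroup.le_normalizer.trans
      (normalizer_le_normalizer_thompsonSubgroupOf hA₀ hA₀S le_rfl (thompsonSubgroupOf_le _))
  have hLW : Subgroup.normalizer (J : Set G) ≤ Subgroup.normalizer (W' : Set G) :=
    normalizer_thompson_le_normalizer_stableNormalClosure hst hc S hSL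
  have hSW : (S : Subgroup G) ≤ Subgroup.normalizer (W' : Set G) := hSL.trans hLW
  -- `W` is elementary abelian
  have hWΩ : W ≤ omegaCenterThompson p ↥(S : Subgroup G) :=
    stableNormalClosure_le_omegaCenterThompson p
  have hWea : IsElementaryAbelian p W' :=
    elemAb_map (elemAb_mono (omegaCenterThompson_elemAb p _) hWΩ) _
  have hWab : ∀ x ∈ W', ∀ y ∈ W', x * y = y * x := (isElementaryAbelian_iff.mp hWea).1
  -- Step 2: `W ≤ O_p(G)`
  have hWQ : W' ≤ Q := stableNormalClosure_le_pCore hst hc S hSW hWab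
  -- Step 3: the normal closure `V` of `W` is elementary abelian
  set V := Subgroup.normalClosure (W' : Set G) with hV
  have hW'V : W' ≤ V := Subgroup.le_normalClosure
  have hVQ : V ≤ Q := Subgroup.normalClosure_le_normal hWQ
  have hVea : IsElementaryAbelian p V := by
    rw [hV, Subgroup.normalClosure]
    apply elemAb_closure
    · intro x hx y hy
      obtain ⟨w, hw, hwx⟩ := Group.mem_conjugatesOfSet_iff.mp hx
      obtain ⟨w', hw', hwy⟩ := Group.mem_conjugatesOfSet_iff.mp hy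
      obtain ⟨c, rfl⟩ := isConj_iff.mp hwx
      obtain ⟨d, rfl⟩ := isConj_iff.mp hwy
      have h1 := commute_conj S Q hQS hSW hWab hWQ hw hw' (c⁻¹ * d)
      calc c * w * c⁻¹ * (d * w' * d⁻¹)
          = c * (w * ((c⁻¹ * d) * w' * (c⁻¹ * d)⁻¹)) * c⁻¹ := by group
        _ = c * (((c⁻¹ * d) * w' * (c⁻¹ * d)⁻¹) * w) * c⁻¹ := by rw [h1]
        _ = d * w' * d⁻¹ * (c * w * c⁻¹) := by group
    · intro x hx
      obtain ⟨w, hw, hwx⟩ := Group.mem_conjugatesOfSet_iff.mp hx
      obtain ⟨c, rfl⟩ := isConj_iff.mp hwx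
      rw [conj_pow, hWea.2 w hw, mul_one, mul_inv_cancel]
  haveI hVn : V.Normal := Subgroup.normalClosure_normal
  have hVst : IsPStableOn p V := hst.1 V hVea
  -- Step 4: the subgroup `X` generated by the members of `𝒜(G)` inside `T = S ∩ L`
  set T := (S : Subgroup G) ⊓ stabL p V with hT
  set X := sSup {A | A ∈ maxElementaryAbelianSubgroups p G ∧ A ≤ T} with hX
  have htop := normalizer_sup_centralizer_eq_top S V
  have hNX : Subgroup.normalizer (T : Set G) ≤ Subgroup.normalizer (X : Set G) := by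
    apply le_normalizer_of_forall_map_conj_le
    intro n hn
    rw [Subgroup.map_le_iff_le_comap]
    apply sSup_le
    rintro A ⟨hA, hAT⟩
    rw [← Subgroup.map_le_iff_le_comap]
    apply le_sSup
    refine ⟨map_conj_mem_maxElementaryAbelianSubgroups hA n, ?_⟩
    rintro _ ⟨a, ha, rfl⟩
    exact ((Subgroup.mem_normalizer_iff.mp hn) a).mp (hAT ha)
  have hXJ : X ≤ J := by
    apply sSup_le
    rintro A ⟨hA, hAT⟩
    rw [hJ, hJsSup]
    exact le_sSup ⟨hA, hAT.trans inf_le_left⟩
  -- `W` centralizes `J(S)`, hence `X`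
  have hWJ : W' ≤ Subgroup.centralizer (J : Set G) := by
    rintro _ ⟨w₀, hw₀, rfl⟩
    have h1 : w₀ ∈ thompsonSubgroup p ↥(S : Subgroup G) ⊓
        Subgroup.centralizer (thompsonSubgroup p ↥(S : Subgroup G) : Set ↥(S : Subgroup G)) :=
      omegaOne_le_self p _ (hWΩ hw₀)
    have h2 := (Subgroup.mem_inf.mp h1).2
    rw [Subgroup.mem_centralizer_iff]
    rintro _ ⟨x₀, hx₀, rfl⟩
    have := (Subgroup.mem_centralizer_iff.mp h2) x₀ hx₀
    exact congrArg Subtype.val this
  have hWX : W' ≤ Subgroup.centralizer (X : Set G) :=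
    hWJ.trans (Subgroup.centralizer_le hXJ)
  -- `V₂ = C_V(X)` is normal in `G`
  have hV₂n : (V ⊓ Subgroup.centralizer (X : Set G)).Normal := by
    rw [← Subgroup.normalizer_eq_top_iff, eq_top_iff, ← htop]
    apply sup_le
    · rw [Subgroup.le_normalizer_iff]
      intro n hn v hv
      obtain ⟨hv1, hv2⟩ := Subgroup.mem_inf.mp hv
      refine Subgroup.mem_inf.mpr ⟨hVn.conj_mem v hv1 n, ?_⟩
      rw [Subgroup.mem_centralizer_iff]
      intro x hx
      have hx' : n⁻¹ * x * n ∈ X := by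
        have := (Subgroup.mem_normalizer_iff.mp (Subgroup.inv_mem _ (hNX hn)) x).mp hx
        rwa [inv_inv] at this
      have h1 := (Subgroup.mem_centralizer_iff.mp hv2) _ hx'
      calc x * (n * v * n⁻¹) = n * ((n⁻¹ * x * n) * v) * n⁻¹ := by group
        _ = n * (v * (n⁻¹ * x * n)) * n⁻¹ := by rw [h1]
        _ = n * v * n⁻¹ * x := by group
    · rw [Subgroup.le_normalizer_iff]
      intro c hc' v hv
      have h1 := (Subgroup.mem_centralizer_iff.mp hc') v (Subgroup.mem_inf.mp hv).1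
      have : c * v * c⁻¹ = v := by
        calc c * v * c⁻¹ = (v * c) * c⁻¹ := by rw [h1]
          _ = v := by group
      rw [this]
      exact hv
  have hVX : V ≤ Subgroup.centralizer (X : Set G) := by
    have h1 : V ≤ V ⊓ Subgroup.centralizer (X : Set G) :=
      Subgroup.normalClosure_le_normal (N := V ⊓ Subgroup.centralizer (X : Set G))
        (le_inf hW'V hWX)
    exact h1.trans inf_le_right
  -- Step 5: every `A ∈ 𝒜(S)` centralizes `V`
  have hAV : ∀ A ∈ maxElementaryAbelianSubgroups p G, A ≤ (S : Subgroup G) →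
      A ≤ Subgroup.centralizer (V : Set G) := by
    intro A hA hAS
    obtain ⟨hA₁mem, hA₁q, hA₁nt⟩ := Cfsg.Agent.S0607.result V hVea A hA
    set A₁ := ⁅V, A⁆ ⊔ (A ⊓ Subgroup.centralizer ((⁅V, A⁆ : Subgroup G) : Set G)) with hA₁
    have hA₁S : A₁ ≤ (S : Subgroup G) :=
      sup_le ((Subgroup.commutator_le_left V A).trans (hVQ.trans hQS)) (inf_le_left.trans hAS)
    have hA₁L : A₁ ≤ stabL p V := le_stabL_of_quadratic V hVst A₁ hA₁q
    have hA₁X : A₁ ≤ X := le_sSup ⟨hA₁mem, le_inf hA₁S hA₁L⟩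
    have hVA₁ : ⁅V, A₁⁆ = ⊥ := by
      rw [Subgroup.commutator_eq_bot_iff_le_centralizer]
      exact hVX.trans (Subgroup.centralizer_le hA₁X)
    have hVA : ⁅V, A⁆ = ⊥ := by
      by_contra hne
      exact hA₁nt hne hVA₁
    rw [Subgroup.commutator_eq_bot_iff_le_centralizer] at hVA
    exact Subgroup.le_centralizer_iff.mp hVA
  have hJC : J ≤ Subgroup.centralizer (V : Set G) := by
    rw [hJ, hJsSup]
    apply sSup_le
    rintro A ⟨hA, hAS⟩
    exact hAV A hA hAS
  -- Step 6: Frattini argument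
  have hfr := frattini_inf S (Subgroup.centralizer (V : Set G))
  rw [← Subgroup.normalizer_eq_top_iff, eq_top_iff, ← hfr]
  apply sup_le
  · refine le_trans ?_ hLW
    exact normalizer_le_normalizer_thompsonSubgroupOf hA₀ hA₀S inf_le_left
      (le_inf (thompsonSubgroupOf_le _) hJC)
  · rw [Subgroup.le_normalizer_iff]
    intro c hc' w hw
    have h1 := (Subgroup.mem_centralizer_iff.mp hc') w (hW'V hw)
    have : c * w * c⁻¹ = w := by
      calc c * w * c⁻¹ = (w * c) * c⁻¹ := by rw [h1]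
        _ = w := by group
    rw [this]
    exact hw

end Cfsg.Agent.S0624
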