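import Cfsg.Statements.S0625
import Cfsg.Agent.Lib.Helper10.PStableSolv
import Cfsg.Agent.Lib.Helper2.PGroup

set_option autoImplicit false
open Cfsg

namespace Cfsg.Agent.S0625

open Cfsg.Agent.Helper10

open scoped commutatorElement

/-- A p-separable group with p at least 5 is p-stable in the action sense. -/
theorem result {G : Type*} [Group G] [Finite G] {p : ℕ} [Fact p.Prime] (hp : 5 ≤ p) (hsep : Cfsg.IsPSolvable p G) : Cfsg.IsActionPStable p G := by
  refine ⟨?_, ?_, ?_⟩
  · intro V hVn hV
    exact isPStableOn_of_isPSolvable hp hsep V hV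
  · have hKp : IsPGroup p ↥(pCore p G) := Cfsg.Agent.Helper54.isPGroup_pCore
    apply isPStableOnSection_of_isPSolvable hp hsep
    · intro x hx y hy
      refine ⟨⁅(⟨x, hx⟩ : pCore p G), ⟨y, hy⟩⁆,
        Cfsg.Agent.Helper2.commutatorElement_mem_frattini hKp _ _, ?_⟩
      simp [commutatorElement_def]
    · intro x hx
      refine ⟨(⟨x, hx⟩ : pCore p G) ^ p, Cfsg.Agent.Helper2.pow_mem_frattini hKp _, ?_⟩
      simp
  · intro S V hVn hVle
    have hV : IsElementaryAbelian p V := by
      have h1 : IsElementaryAbelian p
          ((omegaCenterThompson p ↥(S : Subgroup G)).map (S : Subgroup G).subtype) :=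
        elemAb_map (isElementaryAbelian_omegaCenterThompson p _) _
      have h2 := elemAb_mono h1 hVle
      have h3 := elemAb_comap_of_injective h2
        (Subgroup.normalizer (thompsonSubgroupOf p (S : Subgroup G) : Set G)).subtype
        (Subgroup.subtype_injective _)
      rwa [Subgroup.comap_map_eq_self_of_injective (Subgroup.subtype_injective _)] at h3
    exact isPStableOn_of_isPSolvable hp (Cfsg.Agent.Helper69.IsPSolvable.subgroup' hsep _) V hV

end Cfsg.Agent.S0625
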