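import Cfsg.Statements.S0627
import Cfsg.Agent.Lib.Helper10.StableIso
import Cfsg.Agent.Lib.Helper10.Card
import Cfsg.Agent.S0624
import Cfsg.Agent.S0625

set_option autoImplicit false
open Cfsg

namespace Cfsg.Agent.S0627

open Cfsg.Agent.Helper10

/-- Frattini argument for a `p`-subgroup `W` with `W N` normal, `N` a normal `p'`-subgroup. -/
theorem sup_normalizer_eq_top_of_sup_normal {G : Type*} [Group G] [Finite G] {p : ℕ}
    [Fact p.Prime] (N : Subgroup G) [hNn : N.Normal] (hN : (Nat.card N).Coprime p)
    (W : Subgroup G) (hW : IsPGroup p W) (hWN : (W ⊔ N).Normal) :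
    N ⊔ Subgroup.normalizer (W : Set G) = ⊤ := by
  have hp : p.Prime := Fact.out
  set M := W ⊔ N with hM
  have hWM : W ≤ M := le_sup_left
  have hidx : ¬ p ∣ (W.subgroupOf M).index := by
    change ¬ p ∣ W.relIndex M
    intro hdvd
    have h1 : Nat.card W * W.relIndex M = Nat.card M := card_mul_relIndex_of_le hWM
    have h2 : Nat.card N * N.relIndex M = Nat.card M := card_mul_relIndex_of_le le_sup_right
    have h3 : N.relIndex M = N.relIndex W := Subgroup.relIndex_sup_right W N
    have h4 : N.relIndex W ∣ Nat.card W := Subgroup.relIndex_dvd_card N W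
    have h5 : Nat.card W * W.relIndex M ∣ Nat.card W * Nat.card N := by
      rw [h1, ← h2, h3, mul_comm (Nat.card W)]
      exact Nat.mul_dvd_mul_left _ h4
    have h6 : W.relIndex M ∣ Nat.card N := Nat.dvd_of_mul_dvd_mul_left Nat.card_pos h5
    have h7 : p ∣ Nat.gcd (Nat.card N) p := Nat.dvd_gcd (hdvd.trans h6) dvd_rfl
    rw [hN.gcd_eq_one] at h7
    exact hp.one_lt.ne' (Nat.dvd_one.mp h7)
  have hWp : IsPGroup p (W.subgroupOf M) := hW.comap_subtype
  set P : Sylow p M := hWp.toSylow hidx with hP
  have h8 := Sylow.normalizer_sup_eq_top P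
  have h9 : (P : Subgroup M).map M.subtype = W := by
    rw [hP, IsPGroup.toSylow_coe, Subgroup.subgroupOf_map_subtype, inf_of_le_left hWM]
  rw [h9, hM, ← sup_assoc, sup_eq_left.mpr (Subgroup.le_normalizer : W ≤ _)] at h8
  rw [sup_comm]; exact h8

/-- In a p-separable group with p at least 5, the normalizer of W(S) supplements the largest normal subgroup of order prime to p. -/
theorem result {G : Type*} [Group G] [Finite G] {p : ℕ} [Fact p.Prime] (hp : 5 ≤ p) (hsep : Cfsg.IsPSolvable p G) (S : Sylow p G) : Cfsg.pPrimeCore p G ⊔ Subgroup.normalizer (((Cfsg.stableNormalClosure p ↥(S : Subgroup G)).map (S : Subgroup G).subtype) : Set G) = ⊤ := by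
  set N := pPrimeCore p G with hN
  have hNcop : (Nat.card N).Coprime p := Cfsg.Agent.Helper54.pPrimeCore_coprime p
  set π := QuotientGroup.mk' N with hπ
  have hπs : Function.Surjective π := QuotientGroup.mk'_surjective N
  set W' := (stableNormalClosure p ↥(S : Subgroup G)).map (S : Subgroup G).subtype with hW'
  have hW'S : W' ≤ (S : Subgroup G) := Subgroup.map_subtype_le _
  have hW'p : IsPGroup p W' := S.isPGroup'.to_le hW'S
  -- the quotient
  have hsol' := Cfsg.Agent.Helper54.IsPSolvable.quotient hsep N
  have hst : IsActionPStable p (G ⧸ N) := Cfsg.Agent.S0625.result hp hsol'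
  have hcore : pPrimeCore p (G ⧸ N) = ⊥ := Cfsg.Agent.Helper54.pPrimeCore_quotient_eq_bot p
  have hc := Cfsg.Agent.Helper54.centralizer_pCore_le_of_isPSolvable hsol' hcore
  set S' : Sylow p (G ⧸ N) := S.mapSurjective hπs with hS'
  have hnorm := Cfsg.Agent.S0624.result hst hc S'
  have hinj : ∀ x ∈ (S : Subgroup G), π x = 1 → x = 1 := by
    intro x hxS hx1
    have hxN : x ∈ N := (QuotientGroup.eq_one_iff x).mp hx1
    obtain ⟨k, hk⟩ := S.isPGroup' ⟨x, hxS⟩
    have hk' : x ^ (p ^ k) = 1 := by
      have := congrArg Subtype.val hk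
      simpa using this
    exact eq_one_of_pow_prime_pow_eq_one_of_coprime hNcop hxN hk'
  have hmap := stableNormalClosure_map_of_injOn p π (S : Subgroup G) hinj
  have hS'coe : (S' : Subgroup (G ⧸ N)) = (S : Subgroup G).map π := Sylow.coe_mapSurjective hπs S
  have hnorm' : (W'.map π).Normal := by
    have key : ∀ R : Subgroup (G ⧸ N), R = (S : Subgroup G).map π →
        ((stableNormalClosure p ↥R).map R.subtype).Normal →
        ((stableNormalClosure p ↥((S : Subgroup G).map π)).map
          ((S : Subgroup G).map π).subtype).Normal := by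
      rintro R rfl h; exact h
    have := key _ hS'coe hnorm
    rw [hmap] at this
    exact this
  have hsupn : (W' ⊔ N).Normal := by
    have h1 : (W'.map π).comap π = W' ⊔ N := by
      rw [Subgroup.comap_map_eq, QuotientGroup.ker_mk']
    rw [← h1]
    exact hnorm'.comap π
  exact sup_normalizer_eq_top_of_sup_normal N hNcop W' hW'p hsupn

end Cfsg.Agent.S0627
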