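import Cfsg.Statements.S0629
import Mathlib
import Cfsg.Agent.Lib.Helper54.PConstrained
import Cfsg.Agent.Lib.Helper54.PSolv
-- import your own Cfsg.Agent.* helpers here

set_option autoImplicit false
open Cfsg

namespace Cfsg.Agent.S0629

open Cfsg.Agent.Helper54 in
/-- A group in which the centralizer of a Sylow p-subgroup of O_{p',p}(G) is p-solvable is p-constrained. -/
theorem result {G : Type*} [Group G] [Finite G] {p : ℕ} [Fact p.Prime] (P : Sylow p ↥(Cfsg.pPrimePCore p G)) (hsol : Cfsg.IsPSolvable p ↥(Subgroup.centralizer (((P : Subgroup ↥(Cfsg.pPrimePCore p G)).map (Cfsg.pPrimePCore p G).subtype : Subgroup G) : Set G))) : Cfsg.IsPConstrained p G := by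
  rw [isPConstrained_iff_isCharP_quotient]
  set K := pPrimeCore p G with hKdef
  have hKn : K.Normal := pPrimeCore_normal' p
  have hKc : (Nat.card K).Coprime p := pPrimeCore_coprime p
  set P0 : Subgroup G := (P : Subgroup ↥(pPrimePCore p G)).map (pPrimePCore p G).subtype with hP0
  have hP0p : IsPGroup p P0 := P.isPGroup'.map _
  have himg : P0.map (QuotientGroup.mk' K) = pCore p (G ⧸ K) := map_sylow_pPrimePCore P
  set C := Subgroup.centralizer (P0 : Set G) with hC
  have hQn : (pCore p (G ⧸ K)).Normal := pCore_normal' p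
  set D := Subgroup.centralizer (pCore p (G ⧸ K) : Set (G ⧸ K)) with hD
  have hDn : D.Normal := inferInstance
  -- the restriction of the quotient map to `C` maps onto `D`
  have hCD : ∀ x ∈ C, (QuotientGroup.mk' K) x ∈ D := by
    intro x hx
    rw [hD, Subgroup.mem_centralizer_iff]
    intro q hq
    rw [← himg] at hq
    obtain ⟨t, ht, rfl⟩ := hq
    have h1 := (Subgroup.mem_centralizer_iff.mp hx) t ht
    rw [← map_mul, ← map_mul, h1]
  set f : C →* D := ((QuotientGroup.mk' K).comp C.subtype).codRestrict D (fun x => hCD x x.2) with hf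
  have hsurj : Function.Surjective f := by
    rintro ⟨y, hy⟩
    obtain ⟨c, rfl⟩ := QuotientGroup.mk'_surjective K y
    have hc : ∀ t ∈ P0, c * t * c⁻¹ * t⁻¹ ∈ K := by
      intro t ht
      have ht' : (QuotientGroup.mk' K) t ∈ pCore p (G ⧸ K) := by
        rw [← himg]; exact Subgroup.mem_map_of_mem _ ht
      have h1 := (Subgroup.mem_centralizer_iff.mp hy) _ ht'
      rw [← QuotientGroup.eq_one_iff, ← QuotientGroup.mk'_apply]
      simp only [map_mul, map_inv]
      rw [← h1]
      group
    obtain ⟨k, hk, hck⟩ := exists_mul_mem_centralizer K hKc P0 hP0p c hc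
    refine ⟨⟨c * k, hck⟩, ?_⟩
    apply Subtype.ext
    show (QuotientGroup.mk' K) (c * k) = (QuotientGroup.mk' K) c
    rw [map_mul, QuotientGroup.mk'_apply, QuotientGroup.mk'_apply, (QuotientGroup.eq_one_iff k).mpr hk,
      mul_one]
  have hDsol : IsPSolvable p D := IsPSolvable.of_surjective hsol f hsurj
  have hDbot : pPrimeCore p D = ⊥ :=
    pPrimeCore_eq_bot_of_normal p D (pPrimeCore_quotient_eq_bot p)
  have hHH := centralizer_pCore_le_of_isPSolvable hDsol hDbot
  have hle : (pCore p D).map D.subtype ≤ pCore p (G ⧸ K) := pCore_map_le p D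
  intro d hd
  have h1 : (⟨d, hd⟩ : D) ∈ Subgroup.centralizer (pCore p D : Set D) := by
    rw [Subgroup.mem_centralizer_iff]
    intro q hq
    have hq' : (q : G ⧸ K) ∈ pCore p (G ⧸ K) := hle (Subgroup.mem_map_of_mem D.subtype hq)
    have h2 := (Subgroup.mem_centralizer_iff.mp hd) _ hq'
    exact Subtype.ext h2
  have h3 := hHH h1
  exact hle (Subgroup.mem_map_of_mem D.subtype h3)

end Cfsg.Agent.S0629
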