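import Cfsg.Statements.S0630
import Mathlib
import Cfsg.Agent.Lib.Helper54.PConstrained
-- import your own Cfsg.Agent.* helpers here

set_option autoImplicit false
open Cfsg

namespace Cfsg.Agent.S0630

/-- p-constraint passes to and from the quotient by the largest normal subgroup of order prime to p. -/
theorem result {G : Type*} [Group G] [Finite G] {p : ℕ} [Fact p.Prime] : Cfsg.IsPConstrained p G ↔ Cfsg.IsPConstrained p (G ⧸ Cfsg.pPrimeCore p G) := by
  constructor
  · intro h
    exact (Cfsg.Agent.Helper54.isPConstrained_iff_isCharP_quotient.mp h).isPConstrained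
  · intro h
    rw [Cfsg.Agent.Helper54.isPConstrained_iff_isCharP_quotient] at h ⊢
    have hbot : Cfsg.pPrimeCore p (G ⧸ Cfsg.pPrimeCore p G) = ⊥ :=
      Cfsg.Agent.Helper54.pPrimeCore_quotient_eq_bot p
    have e : ((G ⧸ Cfsg.pPrimeCore p G) ⧸ Cfsg.pPrimeCore p (G ⧸ Cfsg.pPrimeCore p G)) ≃*
        (G ⧸ Cfsg.pPrimeCore p G) :=
      (QuotientGroup.quotientMulEquivOfEq hbot).trans QuotientGroup.quotientBot
    exact h.of_mulEquiv e

end Cfsg.Agent.S0630
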