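import Cfsg.Statements.S0632
import Cfsg.Agent.Lib.Helper11.PStab2

set_option autoImplicit false
open Cfsg

namespace Cfsg.Agent.S0632

open Cfsg.Agent.Helper54 Cfsg.Agent.Helper11.PStab
open scoped commutatorElement

/-- `p`-stability passes to the quotient by `O_{p'}(G)`. -/
theorem isPStable_quotient {G : Type*} [Group G] [Finite G] {p : ℕ} [Fact p.Prime]
    (hs : Cfsg.IsPStable p G) : Cfsg.IsPStable p (G ⧸ Cfsg.pPrimeCore p G) := by
  have hK : (Nat.card (pPrimeCore p G)).Coprime p := pPrimeCore_coprime p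
  have hbot : pPrimeCore p (G ⧸ pPrimeCore p G) = ⊥ := pPrimeCore_quotient_eq_bot p
  obtain ⟨hodd, hne, hmain⟩ := hs
  refine ⟨hodd, ?_, ?_⟩
  · intro hcon
    apply hne
    have h1 : (pCore p G).map (QuotientGroup.mk' (pPrimeCore p G)) ≤ pCore p (G ⧸ pPrimeCore p G) :=
      le_pCore ((pCore_normal' p).map _ (QuotientGroup.mk'_surjective _)) (isPGroup_pCore.map _)
    rw [hcon, le_bot_iff, Subgroup.map_eq_bot_iff, QuotientGroup.ker_mk'] at h1
    rw [eq_bot_iff, ← inf_eq_bot_of_isPGroup_of_coprime (pPrimeCore p G) (pCore p G) hK isPGroup_pCore]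
    exact le_inf h1 le_rfl
  · intro A' P' hA' hP' _ _ hn hq
    have hP'n : P'.Normal := by
      rw [hbot, bot_sup_eq] at hn; exact hn
    obtain ⟨A, P, hA, hP, hAN, rfl, rfl, hq', hsup⟩ :=
      exists_lift (pPrimeCore p G) hK A' P' hA' hP' hP'n hq
    have h1 : ∀ a ∈ A, ∀ x ∈ P, a * x * a⁻¹ ∈ P := fun a ha x hx =>
      (Subgroup.mem_normalizer_iff.mp (hAN ha) x).mp hx
    have h2 : P ≤ pPrimePCore p G := by
      intro x hx
      rw [mem_pPrimePCore_iff]
      exact le_pCore hP'n (hP.map _) (Subgroup.mem_map_of_mem _ hx)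
    have h3 : (pPrimeCore p G ⊔ P).Normal := by
      rw [hsup]; exact hP'n.comap _
    exact (concl_iff (pPrimeCore p G) hK P hP A hAN).mp (hmain A P hA hP h1 h2 h3 hq')

/-- `p`-stability of the quotient by `O_{p'}(G)` passes to `G`. -/
theorem isPStable_of_quotient {G : Type*} [Group G] [Finite G] {p : ℕ} [Fact p.Prime]
    (hO : Cfsg.pCore p G ≠ ⊥) (hs : Cfsg.IsPStable p (G ⧸ Cfsg.pPrimeCore p G)) :
    Cfsg.IsPStable p G := by
  have hK : (Nat.card (pPrimeCore p G)).Coprime p := pPrimeCore_coprime p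
  have hbot : pPrimeCore p (G ⧸ pPrimeCore p G) = ⊥ := pPrimeCore_quotient_eq_bot p
  obtain ⟨hodd, _, hmain⟩ := hs
  refine ⟨hodd, hO, ?_⟩
  intro A P hA hP hnorm hle hn hq
  have hAN : A ≤ Subgroup.normalizer (P : Set G) := by
    intro a ha
    rw [Subgroup.mem_normalizer_iff]
    intro x
    constructor
    · exact hnorm a ha x
    · intro hx
      have := hnorm a⁻¹ (A.inv_mem ha) _ hx
      have h3 : a⁻¹ * (a * x * a⁻¹) * a⁻¹⁻¹ = x := by group
      rwa [h3] at this
  apply (concl_iff (pPrimeCore p G) hK P hP A hAN).mpr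
  apply hmain _ _ (hA.map _) (hP.map _)
  · rintro _ ⟨a, ha, rfl⟩ _ ⟨x, hx, rfl⟩
    exact ⟨a * x * a⁻¹, hnorm a ha x hx, by simp⟩
  · rintro _ ⟨x, hx, rfl⟩
    exact pCore_le_pPrimePCore p _ (mem_pPrimePCore_iff.mp (hle hx))
  · rw [hbot, bot_sup_eq]
    have h1 : (pPrimeCore p G ⊔ P).map (QuotientGroup.mk' (pPrimeCore p G)) =
        P.map (QuotientGroup.mk' (pPrimeCore p G)) := by
      rw [Subgroup.map_sup, QuotientGroup.map_mk'_self, bot_sup_eq]
    rw [← h1]
    exact hn.map _ (QuotientGroup.mk'_surjective _)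
  · rw [← Subgroup.map_commutator, ← Subgroup.map_commutator, hq, Subgroup.map_bot]

/-- For a group with a nontrivial normal p-subgroup, p-stability passes to and from the quotient by the largest normal subgroup of order prime to p. -/
theorem result {G : Type*} [Group G] [Finite G] {p : ℕ} [Fact p.Prime] (hO : Cfsg.pCore p G ≠ ⊥) : Cfsg.IsPStable p G ↔ Cfsg.IsPStable p (G ⧸ Cfsg.pPrimeCore p G) := by
  exact ⟨isPStable_quotient, isPStable_of_quotient hO⟩

end Cfsg.Agent.S0632
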