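import Cfsg.Statements.S0633
import Mathlib
import Cfsg.Agent.Lib.Helper31.HHBase
-- import your own Cfsg.Agent.* helpers here

set_option autoImplicit false
open Cfsg

namespace Cfsg.Agent.S0633

open Cfsg.Agent.Helper31.HH in
/-- Theorem B of Hall and Higman on the minimal polynomial of a p-element of order p^n in a p-solvable linear group on a nonzero vector space in characteristic p with no nontrivial normal p-subgroup: its degree is p^n, except when some p^n₀ - 1 (n₀ ≤ n) is a power of a prime q for which the Sylow q-subgroups are non-abelian, in which case the degree is at least p^(n-n₀)(p^n₀ - 1). -/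
theorem result {F : Type*} [Field F] {p : ℕ} [Fact p.Prime] [CharP F p] {V : Type*} [AddCommGroup V] [Module F V] [FiniteDimensional F V] [Nontrivial V] (H : Subgroup (V ≃ₗ[F] V)) [Finite H] (hsol : Cfsg.IsPSolvable p H) (hOp : Cfsg.pCore p H = ⊥) (x : V ≃ₗ[F] V) (hx : x ∈ H) (n : ℕ) (hn : orderOf x = p ^ n) (r : ℕ) (hr : minpoly F (x : Module.End F V) = (Polynomial.X - 1) ^ r) : r = p ^ n ∨ ∃ n₀ q m : ℕ, 1 ≤ n₀ ∧ n₀ ≤ n ∧ q.Prime ∧ 1 ≤ m ∧ p ^ n₀ - 1 = q ^ m ∧ (∀ Q : Sylow q H, ¬ IsMulCommutative Q) ∧ p ^ (n - n₀) * (p ^ n₀ - 1) ≤ r := by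
  classical
  have hp : p.Prime := Fact.out
  set x' : H := ⟨x, hx⟩ with hx'
  set X : Module.End F V := toEndHom H x' with hX
  have hXx : (x : Module.End F V) = X := rfl
  rw [hXx] at hr
  have hdeg : ((Polynomial.X - 1 : Polynomial F)).natDegree = 1 := by
    rw [← Polynomial.C_1]
    exact Polynomial.natDegree_X_sub_C 1
  have hne1 : (Polynomial.X - 1 : Polynomial F) ≠ 0 := by
    intro h0
    rw [h0] at hdeg
    simp at hdeg
  have hr0 : (X - 1) ^ r = 0 := by
    have := minpoly.aeval F X
    rw [hr] at this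
    simpa using this
  have hmin : ∀ k < r, (X - 1) ^ k ≠ 0 := by
    intro k hk h0
    have h1 : Polynomial.aeval X ((Polynomial.X - 1 : Polynomial F) ^ k) = 0 := by
      simpa using h0
    have h2 := minpoly.dvd F X h1
    rw [hr] at h2
    have h3 : ((Polynomial.X - 1 : Polynomial F) ^ k) ≠ 0 := pow_ne_zero _ hne1
    have h4 := Polynomial.natDegree_le_of_dvd h2 h3
    rw [Polynomial.natDegree_pow, Polynomial.natDegree_pow, hdeg] at h4
    omega
  cases n with
  | zero =>
    left
    rw [pow_zero, orderOf_eq_one_iff] at hn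
    have hX1 : X = 1 := by
      rw [hX, hx']
      have : (⟨x, hx⟩ : H) = 1 := Subtype.ext hn
      rw [this, map_one]
    rw [hX1, sub_self] at hr0 hmin
    have hone : (1 : Module.End F V) ≠ 0 := one_ne_zero
    have h1 : r ≠ 0 := by
      intro h0
      rw [h0, pow_zero] at hr0
      exact hone hr0
    have h2 : r < 2 := by
      by_contra hcon
      push Not at hcon
      exact hmin 1 (by omega) (by simp)
    rw [pow_zero]
    omega
  | succ n' =>
    have hx'P : x' ^ p ^ (n' + 1) = 1 := by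
      apply Subtype.ext
      rw [Subgroup.coe_pow, Subgroup.coe_one]
      show x ^ p ^ (n' + 1) = 1
      rw [← hn, pow_orderOf_eq_one]
    have hy1 : x' ^ p ^ n' ≠ 1 := by
      intro h1
      have h2 : x ^ p ^ n' = 1 := by
        have := congrArg (fun z : H => (z : V ≃ₗ[F] V)) h1
        simpa using this
      have h3 := orderOf_dvd_of_pow_eq_one h2
      rw [hn] at h3
      have := (Nat.pow_dvd_pow_iff_le_right hp.one_lt).mp h3
      omega
    obtain ⟨q, hq, hqp, Q, hQ, hQx, hNC⟩ :=
      exists_invariant_q_not_centralized hsol hOp n' x' hx'P hy1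
    haveI : Fact q.Prime := ⟨hq⟩
    have key := theoremB_linear H q (Ne.symm hqp) Q hQ x' hQx n' hx'P hNC r hr0 hmin
    rcases key with h | ⟨⟨a, ha, b, hb, hab⟩, n₀, m, h1, h2, h3, h4, h5⟩
    · left
      exact h
    · right
      refine ⟨n₀, q, m, h1, h2, hq, h3, h4, ?_, h5⟩
      intro S hS
      obtain ⟨S₀, hS₀⟩ := hQ.exists_le_sylow
      obtain ⟨g, hg⟩ := MulAction.exists_smul_eq H S₀ S
      have hmem : ∀ c ∈ Q, g * c * g⁻¹ ∈ (S : Subgroup H) := by
        intro c hc
        rw [← hg, Sylow.coe_subgroup_smul]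
        have := Subgroup.smul_mem_pointwise_smul c (MulAut.conj g) (S₀ : Subgroup H) (hS₀ hc)
        simpa using this
      have hcomm := hS.is_comm.comm ⟨g * a * g⁻¹, hmem a ha⟩ ⟨g * b * g⁻¹, hmem b hb⟩
      have hcomm' : g * a * g⁻¹ * (g * b * g⁻¹) = g * b * g⁻¹ * (g * a * g⁻¹) :=
        congrArg Subtype.val hcomm
      apply hab
      have e1 : g * a * g⁻¹ * (g * b * g⁻¹) = g * (a * b) * g⁻¹ := by group
      have e2 : g * b * g⁻¹ * (g * a * g⁻¹) = g * (b * a) * g⁻¹ := by group
      rw [e1, e2] at hcomm'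
      exact mul_left_cancel (mul_right_cancel hcomm')

end Cfsg.Agent.S0633
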