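import Cfsg.Statements.S0634
import Cfsg.Agent.Lib.Helper76.PSolvable
-- import your own Cfsg.Agent.* helpers here

set_option autoImplicit false
open Cfsg

namespace Cfsg.Agent.S0634

open Cfsg.Agent.Helper76
open Cfsg.Agent

/-- triviality of the `p'`-core is invariant under isomorphism -/
theorem pPrimeCore_eq_bot_of_mulEquiv {A B : Type*} [Group A] [Group B] (p : ℕ) (e : A ≃* B)
    (h : pPrimeCore p A = ⊥) : pPrimeCore p B = ⊥ := by
  rw [eq_bot_iff]
  apply sSup_le
  rintro M ⟨hMn, hcop⟩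
  have hn : (M.comap e.toMonoidHom).Normal := hMn.comap _
  have hcard : Nat.card (M.comap e.toMonoidHom) = Nat.card M := by
    apply Nat.card_congr
    exact
      { toFun := fun x => ⟨e x.1, x.2⟩
        invFun := fun y => ⟨e.symm y.1, by
          show e (e.symm y.1) ∈ M
          rw [MulEquiv.apply_symm_apply]; exact y.2⟩
        left_inv := fun x => by apply Subtype.ext; simp
        right_inv := fun y => by apply Subtype.ext; simp }
  have hle : M.comap e.toMonoidHom ≤ pPrimeCore p A :=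
    Helper55.le_pPrimeCore hn (by rw [hcard]; exact hcop)
  rw [h] at hle
  intro m hm
  have h1 : e.symm m ∈ M.comap e.toMonoidHom := by
    show e (e.symm m) ∈ M
    rw [MulEquiv.apply_symm_apply]; exact hm
  have h2 := hle h1
  rw [Subgroup.mem_bot] at h2 ⊢
  have := congrArg e h2
  simpa using this

theorem upperPSeries_succ_even {G : Type*} [Group G] (p : ℕ) (n : ℕ) (h : Even n) :
    (upperPSeries p G (n + 1)).1 =
      (pPrimeCore p (G ⧸ (upperPSeries p G n).1)).comap (QuotientGroup.mk' _) := by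
  rw [upperPSeries]
  simp [h]

theorem upperPSeries_succ_odd {G : Type*} [Group G] (p : ℕ) (n : ℕ) (h : ¬ Even n) :
    (upperPSeries p G (n + 1)).1 =
      (pCore p (G ⧸ (upperPSeries p G n).1)).comap (QuotientGroup.mk' _) := by
  rw [upperPSeries]
  simp [h]

theorem key {G : Type*} [Group G] [Finite G] {p : ℕ} [Fact p.Prime] (hsol : Cfsg.IsPSolvable p G)
    (U N : Subgroup G) [U.Normal] [N.Normal]
    (hNdef : N = (pPrimeCore p (G ⧸ U)).comap (QuotientGroup.mk' U)) :
    Subgroup.centralizer ((pCore p (G ⧸ N) : Subgroup (G ⧸ N)) : Set (G ⧸ N)) ≤ pCore p (G ⧸ N) := by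
  have hsolv' : IsPSolvable p (G ⧸ N) := IsPSolvable.quotient hsol N
  have hUN : U ≤ N := by
    rw [hNdef]
    intro u hu
    rw [Subgroup.mem_comap, QuotientGroup.mk'_apply, (QuotientGroup.eq_one_iff u).mpr hu]
    exact one_mem _
  have hmap : N.map (QuotientGroup.mk' U) = pPrimeCore p (G ⧸ U) := by
    rw [hNdef, Subgroup.map_comap_eq_self_of_surjective (QuotientGroup.mk'_surjective U)]
  have hcore0 : pPrimeCore p ((G ⧸ U) ⧸ pPrimeCore p (G ⧸ U)) = ⊥ :=
    Helper55.pPrimeCore_quotient_eq_bot p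
  have e1 : (G ⧸ U) ⧸ pPrimeCore p (G ⧸ U) ≃* (G ⧸ U) ⧸ N.map (QuotientGroup.mk' U) :=
    QuotientGroup.quotientMulEquivOfEq hmap.symm
  have e2 : (G ⧸ U) ⧸ N.map (QuotientGroup.mk' U) ≃* G ⧸ N :=
    QuotientGroup.quotientQuotientEquivQuotient U N hUN
  have hcore' : pPrimeCore p (G ⧸ N) = ⊥ :=
    pPrimeCore_eq_bot_of_mulEquiv p (e1.trans e2) hcore0
  exact centralizer_pCore_le hsolv' hcore'

/-- In a p-soluble group each p-factor of the upper p-series contains its own centralizer in the corresponding quotient. -/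
theorem result {G : Type*} [Group G] [Finite G] {p : ℕ} [Fact p.Prime] (hsol : Cfsg.IsPSolvable p G) (k : ℕ) : Subgroup.centralizer ((((Cfsg.upperPSeries p G (2 * k + 2)).1.map (QuotientGroup.mk' (Cfsg.upperPSeries p G (2 * k + 1)).1)) : Subgroup (G ⧸ (Cfsg.upperPSeries p G (2 * k + 1)).1)) : Set (G ⧸ (Cfsg.upperPSeries p G (2 * k + 1)).1)) ≤ (Cfsg.upperPSeries p G (2 * k + 2)).1.map (QuotientGroup.mk' (Cfsg.upperPSeries p G (2 * k + 1)).1) := by
  have h1 := upperPSeries_succ_even (G := G) p (2 * k) (by simp)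
  have h2 := upperPSeries_succ_odd (G := G) p (2 * k + 1) (by simp)
  have h3 : (upperPSeries p G (2 * k + 2)).1 = (upperPSeries p G (2 * k + 1 + 1)).1 := rfl
  rw [h3, h2, Subgroup.map_comap_eq_self_of_surjective (QuotientGroup.mk'_surjective _)]
  exact key hsol _ _ h1

end Cfsg.Agent.S0634
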