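import Cfsg.Statements.S0642
import Cfsg.Agent.S0641
import Cfsg.Agent.Lib.Helper11.PGroup

set_option autoImplicit false
open Cfsg
open scoped commutatorElement

namespace Cfsg.Agent.S0642

universe u

theorem comm_of_regular_aux : ∀ (n : ℕ) (G : Type u) [Group G] [Finite G], Nat.card G = n →
    IsPGroup 2 G → Cfsg.IsRegularPGroup 2 G → ∀ a b : G, a * b = b * a := by
  intro n
  induction n using Nat.strong_induction_on with
  | _ n ih =>
    intro G _ _ hcard hG hreg
    by_contra hcon
    push Not at hcon
    obtain ⟨a₀, b₀, hab₀⟩ := hcon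
    -- the commutator subgroup is nontrivial
    have hcomm_ne : _root_.commutator G ≠ ⊥ := by
      intro h
      apply hab₀
      have hmem : ⁅a₀, b₀⁆ ∈ _root_.commutator G :=
        Subgroup.commutator_mem_commutator (Subgroup.mem_top a₀) (Subgroup.mem_top b₀)
      rw [h, Subgroup.mem_bot, commutatorElement_eq_one_iff_mul_comm] at hmem
      exact hmem
    have : Fact (Nat.Prime 2) := ⟨Nat.prime_two⟩
    obtain ⟨z, hzN, hzc, hz2⟩ :=
      Cfsg.Agent.Helper11.exists_mem_center_orderOf_eq_of_normal hG (_root_.commutator G) hcomm_ne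
    set Z : Subgroup G := Subgroup.zpowers z with hZ
    have hZle : Z ≤ Subgroup.center G := by
      rw [hZ, Subgroup.zpowers_le]; exact hzc
    have hZn : Z.Normal := Cfsg.Agent.Helper11.normal_of_le_center hZle
    have hZcard : Nat.card Z = 2 := by
      rw [hZ, Nat.card_zpowers, hz2]
    have hquot_card : Nat.card (G ⧸ Z) < n := by
      have := Subgroup.card_eq_card_quotient_mul_card_subgroup Z
      rw [hcard, hZcard] at this
      have hpos : 0 < Nat.card (G ⧸ Z) := Nat.card_pos
      omega
    have hquot_reg : Cfsg.IsRegularPGroup 2 (G ⧸ Z) := Cfsg.Agent.S0641.result hreg Z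
    have hquot_comm := ih _ hquot_card (G ⧸ Z) rfl hquot_reg.1 hquot_reg
    -- so the commutator subgroup lies in Z
    have hcomm_le : _root_.commutator G ≤ Z := by
      rw [← Subgroup.Normal.quotient_commutative_iff_commutator_le]
      exact ⟨⟨hquot_comm⟩⟩
    -- hence the power closure is trivial
    have hpc : ∀ K : Subgroup G, K ≤ Z → Cfsg.powerClosure 2 1 K = ⊥ := by
      intro K hK
      unfold Cfsg.powerClosure
      rw [Subgroup.closure_eq_bot_iff]
      rintro y ⟨x, hx, rfl⟩
      have hxZ := hK hx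
      rw [hZ, Subgroup.mem_zpowers_iff] at hxZ
      obtain ⟨k, rfl⟩ := hxZ
      rw [Set.mem_singleton_iff, pow_one, ← zpow_natCast, ← zpow_mul, mul_comm, zpow_mul, zpow_natCast]
      have : z ^ 2 = 1 := by rw [← hz2]; exact pow_orderOf_eq_one z
      rw [this, one_zpow]
    apply hab₀
    obtain ⟨c, hc, hcab⟩ := hreg.2 a₀ b₀ 1
    have hKle : ⁅Subgroup.closure ({a₀, b₀} : Set G), Subgroup.closure ({a₀, b₀} : Set G)⁆ ≤ Z :=
      (Subgroup.commutator_mono le_top le_top).trans hcomm_le
    rw [hpc _ hKle, Subgroup.mem_bot] at hc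
    subst hc
    rw [pow_one, mul_one, pow_two, pow_two, pow_two] at hcab
    have h1 : a₀ * (b₀ * a₀) * b₀ = a₀ * (a₀ * b₀) * b₀ := by
      simpa [mul_assoc] using hcab
    have h2 := mul_right_cancel h1
    have h3 := mul_left_cancel h2
    exact h3.symm

/-- Among finite 2-groups the regular ones are exactly the abelian ones. -/
theorem result {G : Type*} [Group G] [Finite G] (hG : IsPGroup 2 G) : Cfsg.IsRegularPGroup 2 G ↔ ∀ a b : G, a * b = b * a := by
  constructor
  · intro hreg
    exact comm_of_regular_aux _ G rfl hG hreg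
  · intro hcomm
    refine ⟨hG, ?_⟩
    intro a b n
    refine ⟨1, Subgroup.one_mem _, ?_⟩
    rw [mul_one]
    exact (Commute.mul_pow (hcomm a b) _)

end Cfsg.Agent.S0642
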