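import Cfsg.Statements.S0645
import Mathlib
import Cfsg.Agent.Lib.Helper35.CyclicMax
import Cfsg.Agent.Lib.Helper35.CyclicMax2

set_option autoImplicit false
open Cfsg

namespace Cfsg.Agent.S0645

open Cfsg.Agent.Helper35

theorem setup {G : Type*} [Group G] [Finite G] {p : ℕ} [Fact p.Prime] (hp : p ≠ 2) (m : ℕ)
    (hm : 2 ≤ m) (hG : Nat.card G = p ^ (m + 1)) (C : Subgroup G) (hC : IsCyclic C)
    (hCi : C.index = p) (hna : ∃ x y : G, x * y ≠ y * x) :
    ∃ (a b₀ : G) (t : ℤ), orderOf a = p ^ m ∧ b₀ ^ p = 1 ∧ b₀ ∉ Subgroup.zpowers a ∧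
      b₀ * a * b₀⁻¹ = a ^ (1 + (p : ℤ) ^ (m - 1) * t) ∧ ¬ (p : ℤ) ∣ t := by
  have hpp : p.Prime := Fact.out
  have hR : IsPGroup p G := IsPGroup.of_card hG
  have hnc : ¬ IsCyclic G := by
    intro h
    obtain ⟨x, y, hxy⟩ := hna
    exact hxy ((IsCyclic.isMulCommutative (α := G)).is_comm.comm x y)
  obtain ⟨⟨a, haC⟩, hgen⟩ := hC.exists_generator
  have hCa : C = Subgroup.zpowers a := by
    apply le_antisymm
    · intro x hx
      obtain ⟨i, hi⟩ := Subgroup.mem_zpowers_iff.mp (hgen ⟨x, hx⟩)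
      refine Subgroup.mem_zpowers_iff.mpr ⟨i, ?_⟩
      have := congrArg Subtype.val hi
      simpa using this
    · rw [Subgroup.zpowers_le]; exact haC
  haveI hCn : C.Normal := by
    apply Subgroup.normal_of_index_eq_minFac_card
    rw [hCi, hG, hpp.pow_minFac (by omega)]
  have hcardC : Nat.card C = p ^ m := by
    have := Subgroup.card_mul_index C
    rw [hCi, hG, pow_succ] at this
    exact Nat.eq_of_mul_eq_mul_right hpp.pos this
  have ha : orderOf a = p ^ m := by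
    rw [← hcardC, hCa, Nat.card_zpowers]
  have hpm : p ^ (m - 1) * p = p ^ m := by
    rw [← pow_succ]; congr 1; omega
  obtain ⟨K, hK, hKcard⟩ := omega_card_of_cyclic_index_p hp hR hnc C hC hCi
  have hKC : ¬ K ≤ C := by
    intro hle
    have hle2 : K ≤ Subgroup.zpowers (a ^ (p ^ (m - 1))) := by
      intro x hx
      have hxC := hle hx
      rw [hCa] at hxC
      obtain ⟨i, rfl⟩ := Subgroup.mem_zpowers_iff.mp hxC
      have hxp := (hK _).mp hx
      rw [← zpow_natCast, ← zpow_mul] at hxp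
      have h1 := (orderOf_dvd_iff_zpow_eq_one).mpr hxp
      rw [ha, ← hpm] at h1
      have h2 : ((p ^ (m - 1) : ℕ) : ℤ) ∣ i := by
        push_cast at h1 ⊢
        exact Int.dvd_of_mul_dvd_mul_right (by exact_mod_cast hpp.ne_zero) h1
      obtain ⟨t, rfl⟩ := h2
      exact Subgroup.mem_zpowers_iff.mpr ⟨t, by rw [← zpow_natCast, ← zpow_mul]⟩
    have := Subgroup.card_le_of_le hle2
    rw [hKcard, Nat.card_zpowers, orderOf_pow_of_dvd (pow_pos hpp.pos _).ne'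
      (by rw [ha]; exact pow_dvd_pow p (by omega)), ha, ← hpm,
      Nat.mul_div_cancel_left _ (pow_pos hpp.pos _)] at this
    have := hpp.one_lt
    nlinarith
  obtain ⟨b₀, hb₀K, hb₀C⟩ := SetLike.not_le_iff_exists.mp hKC
  have hb₀p : b₀ ^ p = 1 := (hK b₀).mp hb₀K
  have hnorm : b₀ * a * b₀⁻¹ ∈ Subgroup.zpowers a := by
    rw [← hCa]; exact hCn.conj_mem a haC b₀
  obtain ⟨k, hk⟩ := Subgroup.mem_zpowers_iff.mp hnorm
  have hk' : b₀ * a * b₀⁻¹ = a ^ k := hk.symm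
  obtain ⟨hk1, hk2⟩ := conj_exponent hpp hp a b₀ m (by omega) ha k hk'
    (by rw [hb₀p]; exact Subgroup.one_mem _)
  obtain ⟨t, ht⟩ := hk2
  have hkeq : k = 1 + (p : ℤ) ^ (m - 1) * t := by linarith
  refine ⟨a, b₀, t, ha, hb₀p, hCa ▸ hb₀C, hkeq ▸ hk', ?_⟩
  intro hdvd
  obtain ⟨s, rfl⟩ := hdvd
  have hka : a ^ k = a := by
    have := zpow_eq_of_dvd_sub a k 1 (by
      rw [ha, ht, ← hpm]; push_cast
      exact ⟨s, by ring⟩)
    rwa [zpow_one] at this
  have hcomm_ab : b₀ * a = a * b₀ := by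
    rw [hka] at hk'
    have := congrArg (· * b₀) hk'
    simpa using this
  have hgenab : Subgroup.closure {a, b₀} = ⊤ := by
    apply eq_top_of_lt_of_index_prime hpp C _ _ hCi
    refine lt_of_le_of_ne ?_ ?_
    · rw [hCa, Subgroup.zpowers_le]
      exact Subgroup.subset_closure (by simp)
    · intro h
      apply hb₀C
      rw [h]
      exact Subgroup.subset_closure (by simp)
  obtain ⟨x, y, hxy⟩ := hna
  apply hxy
  have := comm_mem_of_gens (⊥ : Subgroup G) bot_le {a, b₀} hgenab (by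
    intro u hu v hv
    rw [Subgroup.mem_bot]
    rcases hu with rfl | rfl <;> rcases hv with rfl | rfl
    · simp
    · rw [← hcomm_ab]; simp
    · rw [hcomm_ab]; simp
    · simp) x y
  rw [Subgroup.mem_bot] at this
  have h2 : x * y = (x * y * x⁻¹ * y⁻¹) * (y * x) := by group
  rw [h2, this, one_mul]

/-- Classification of p-groups with a cyclic maximal subgroup, odd p: a non-abelian one of order p^n has generators a of order p^(n-1) and b of order p, b outside the cyclic subgroup generated by a, with b a b⁻¹ = a^(1 + p^(n-2)). -/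
theorem result {G : Type*} [Group G] [Finite G] {p : ℕ} [Fact p.Prime] (hp : p ≠ 2) (n : ℕ) (hn : 3 ≤ n) (hG : Nat.card G = p ^ n) (C : Subgroup G) (hC : IsCyclic C) (hCi : C.index = p) (hna : ∃ x y : G, x * y ≠ y * x) : ∃ a b : G, orderOf a = p ^ (n - 1) ∧ orderOf b = p ∧ b ∉ Subgroup.zpowers a ∧ b * a * b⁻¹ = a ^ (1 + p ^ (n - 2)) := by
  have hpp : p.Prime := Fact.out
  obtain ⟨m, rfl⟩ : ∃ m, n = m + 1 := ⟨n - 1, by omega⟩
  have hm : 2 ≤ m := by omega
  obtain ⟨a, b₀, t, ha, hb₀p, hb₀C, hconj₀, hpt⟩ := setup hp m hm hG C hC hCi hna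
  have hpm : p ^ (m - 1) * p = p ^ m := by
    rw [← pow_succ]; congr 1; omega
  have htz : (t : ZMod p) ≠ 0 := by
    rwa [Ne, ZMod.intCast_zmod_eq_zero_iff_dvd]
  obtain ⟨j, hj⟩ : ∃ j : ℕ, j = ((t : ZMod p)⁻¹).val := ⟨_, rfl⟩
  have hjt : (p : ℤ) ∣ j * t - 1 := by
    rw [← ZMod.intCast_zmod_eq_zero_iff_dvd]
    push_cast
    rw [hj, ZMod.natCast_val, ZMod.cast_id', id, inv_mul_cancel₀ htz, sub_self]
  obtain ⟨s, hs⟩ := hjt
  obtain ⟨b, hb⟩ : ∃ b : G, b = b₀ ^ j := ⟨_, rfl⟩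
  have hb₀b : b₀ = b ^ t := by
    rw [hb, ← zpow_natCast b₀ j, ← zpow_mul]
    have : (j : ℤ) * t = 1 + p * s := by linarith
    rw [this, zpow_add, zpow_one, zpow_mul, zpow_natCast, hb₀p, one_zpow, mul_one]
  have hbC : b ∉ Subgroup.zpowers a := by
    intro h
    apply hb₀C
    rw [hb₀b]
    exact Subgroup.zpow_mem _ h t
  have hbp : b ^ p = 1 := by
    rw [hb, ← pow_mul, mul_comm, pow_mul, hb₀p, one_pow]
  have hb1 : b ≠ 1 := by
    intro h
    apply hb₀C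
    rw [hb₀b, h, one_zpow]
    exact Subgroup.one_mem _
  have hbord : orderOf b = p := orderOf_eq_prime hbp hb1
  have hconj := conj_pow_zpow a b₀ _ hconj₀ j
  refine ⟨a, b, ?_, hbord, hbC, ?_⟩
  · rw [ha]; congr 1
  · rw [hb, hconj, ← zpow_natCast a (1 + p ^ (m + 1 - 2))]
    apply zpow_eq_of_dvd_sub
    rw [ha]
    have hsq := sq_dvd_add_pow_sub_sub ((p : ℤ) ^ (m - 1) * t) 1 j
    rw [one_pow, one_pow, one_mul] at hsq
    have hdvd1 : ((p ^ m : ℕ) : ℤ) ∣ ((p : ℤ) ^ (m - 1) * t) ^ 2 := by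
      refine ⟨(p : ℤ) ^ (m - 2) * t ^ 2, ?_⟩
      have e : ((p ^ m : ℕ) : ℤ) * (p : ℤ) ^ (m - 2) = ((p : ℤ) ^ (m - 1)) ^ 2 := by
        push_cast
        rw [← pow_add, ← pow_mul]
        congr 1; omega
      rw [mul_pow, ← e]; ring
    have hdvd2 := dvd_trans hdvd1 hsq
    have hdvd3 : ((p ^ m : ℕ) : ℤ) ∣ (p : ℤ) ^ (m - 1) * t * j - (p : ℤ) ^ (m - 1) := by
      refine ⟨s, ?_⟩
      have e : ((p ^ m : ℕ) : ℤ) = (p : ℤ) ^ (m - 1) * p := by
        rw [← hpm]; push_cast; ring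
      rw [e]
      have : (p : ℤ) ^ (m - 1) * t * j - (p : ℤ) ^ (m - 1) = (p : ℤ) ^ (m - 1) * (j * t - 1) := by
        ring
      rw [this, hs]; ring
    have hexp : m + 1 - 2 = m - 1 := by omega
    have := dvd_add hdvd2 hdvd3
    rw [hexp]
    have e : (1 + (p : ℤ) ^ (m - 1) * t) ^ j - ((1 + p ^ (m - 1) : ℕ) : ℤ)
        = (1 + (p : ℤ) ^ (m - 1) * t) ^ j - (p : ℤ) ^ (m - 1) * t * j - 1
          + ((p : ℤ) ^ (m - 1) * t * j - (p : ℤ) ^ (m - 1)) := by
      push_cast; ring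
    rw [e]
    exact this

end Cfsg.Agent.S0645
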