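import Cfsg.Statements.S0646
import Mathlib
import Cfsg.Agent.Lib.Helper14.QuatSylow
import Cfsg.Agent.Lib.Helper73.TwoGroupB

set_option autoImplicit false
open Cfsg

namespace Cfsg.Agent.S0646

open Cfsg.Agent.Helper73
open scoped commutatorElement

/-- Classification of non-abelian 2-groups with a cyclic maximal subgroup: dihedral, generalized quaternion, and for order at least 16 the modular group and the semidihedral group, each given by generators a (of index 2) and b with the stated relations. -/
theorem result {G : Type*} [Group G] [Finite G] (n : ℕ) (hn : 3 ≤ n) (hG : Nat.card G = 2 ^ n) (C : Subgroup G) (hC : IsCyclic C) (hCi : C.index = 2) (hna : ∃ x y : G, x * y ≠ y * x) : ∃ a b : G, orderOf a = 2 ^ (n - 1) ∧ b ∉ Subgroup.zpowers a ∧ ((b ^ 2 = 1 ∧ b * a * b⁻¹ = a⁻¹) ∨ (b ^ 2 = a ^ (2 ^ (n - 2)) ∧ b * a * b⁻¹ = a⁻¹) ∨ (4 ≤ n ∧ b ^ 2 = 1 ∧ b * a * b⁻¹ = a ^ (1 + 2 ^ (n - 2))) ∨ (4 ≤ n ∧ b ^ 2 = 1 ∧ b * a * b⁻¹ = a ^ (2 ^ (n - 2) - 1))) := by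
  classical
  have hf2 : Fact (Nat.Prime 2) := ⟨Nat.prime_two⟩
  have hp : IsPGroup 2 G := IsPGroup.of_card hG
  have hnil : Group.IsNilpotent G := hp.isNilpotent
  obtain ⟨a0, ha0⟩ := hC.exists_generator
  set a : G := a0.1 with ha_def
  have hCA : Subgroup.zpowers a = C := by
    ext x
    constructor
    · intro hx
      obtain ⟨i, rfl⟩ := Subgroup.mem_zpowers_iff.1 hx
      exact C.zpow_mem a0.2 i
    · intro hx
      obtain ⟨i, hi⟩ := Subgroup.mem_zpowers_iff.1 (ha0 ⟨x, hx⟩)
      have h1 : a ^ i = x := by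
        have := congrArg Subtype.val hi
        simpa using this
      rw [← h1]; exact Subgroup.zpow_mem_zpowers a i
  have h2n : 2 ^ n = 2 ^ (n - 1) * 2 := by
    rw [← pow_succ]; congr 1; omega
  have hCcard : Nat.card C = 2 ^ (n - 1) := by
    have h1 := C.card_mul_index
    rw [hCi, hG, h2n] at h1
    exact Nat.eq_of_mul_eq_mul_right (by norm_num) h1
  have ha : orderOf a = 2 ^ (n - 1) := by rw [← Nat.card_zpowers, hCA, hCcard]
  set A := Subgroup.zpowers a with hA
  set N := 2 ^ (n - 2) with hN
  have hNpos : 0 < N := by rw [hN]; positivity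
  have hoa : orderOf a = 2 * N := by
    rw [ha, hN, ← pow_succ']; congr 1; omega
  have hAcard : Nat.card ↥A = 2 * N := by rw [hA, Nat.card_zpowers, hoa]
  have hAidx : A.index = 2 := by rw [hCA]; exact hCi
  have hAn : A.Normal := Subgroup.normal_of_index_eq_two hAidx
  have hAcomm : ∀ x ∈ A, ∀ y ∈ A, x * y = y * x := by
    intro x hx y hy
    obtain ⟨i, rfl⟩ := Subgroup.mem_zpowers_iff.1 hx
    obtain ⟨j, rfl⟩ := Subgroup.mem_zpowers_iff.1 hy
    rw [← zpow_add, ← zpow_add, add_comm]
  have haA : a ∈ A := Subgroup.mem_zpowers a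
  set z := a ^ N with hz
  have hoz : orderOf z = 2 := by
    rw [hz, orderOf_pow_of_dvd hNpos.ne' (by rw [hoa]; exact dvd_mul_left N 2), hoa]
    exact Nat.mul_div_cancel _ hNpos
  have hz2 : z ^ 2 = 1 := by rw [← hoz]; exact pow_orderOf_eq_one z
  have hzA : z ∈ A := Subgroup.pow_mem _ haA N
  have hzinv : z⁻¹ = z := by
    rw [inv_eq_iff_mul_eq_one, ← pow_two, hz2]
  by_cases hidx : (commutator G).index = 4
  · -- dihedral, quaternion or semidihedral
    rcases classify n hn hG hidx a ha with ⟨t, ht, ht2, hta⟩ | ⟨t, ht, ht2, hta⟩ |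
      ⟨hn4, t, ht, ht2, hta⟩
    · exact ⟨a, t, ha, ht, Or.inl ⟨ht2, hta⟩⟩
    · exact ⟨a, t, ha, ht, Or.inr (Or.inl ⟨ht2, hta⟩)⟩
    · have hconj : a⁻¹ * a ^ N = a ^ (N - 1) := by
        have : a ^ N = a * a ^ (N - 1) := by
          rw [← pow_succ']; congr 1; omega
        rw [this]; group
      rw [hconj] at hta
      rcases ht2 with ht2 | ht2
      · exact ⟨a, t, ha, ht, Or.inr (Or.inr (Or.inr ⟨hn4, ht2, hta⟩))⟩
      · have htaA : t * a ∉ A := by
          intro h
          apply ht
          have : t = (t * a) * a⁻¹ := by group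
          rw [this]
          exact Subgroup.mul_mem _ h (Subgroup.inv_mem _ haA)
        refine ⟨a, t * a, ha, htaA, Or.inr (Or.inr (Or.inr ⟨hn4, ?_, ?_⟩))⟩
        · have : (t * a) ^ 2 = (t * a * t⁻¹) * (t ^ 2) * a := by rw [pow_two, pow_two]; group
          rw [this, hta, ht2, ← hconj]
          calc a⁻¹ * a ^ N * a ^ N * a = a⁻¹ * (a ^ N) ^ 2 * a := by rw [pow_two]; group
            _ = 1 := by rw [← hz, hz2]; group
        · rw [← hta]; group
  · -- the modular group
    obtain ⟨t, ht⟩ : ∃ t : G, t ∉ A := by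
      by_contra h
      push Not at h
      have : A = ⊤ := eq_top_iff.2 fun x _ => h x
      rw [this, Subgroup.index_top] at hAidx
      omega
    have hgen := sup_zpowers_eq_top_of_index_two A hAidx t ht
    have hcR := Cfsg.Agent.Helper76.commRange_eq_commutator A hAn hAcomm t hgen
    have hcent := Cfsg.Agent.Helper76.card_eq_card_commutator_mul_card_centralizer A hAn hAcomm t hgen
    rw [hAcard] at hcent
    set K : Subgroup G := A ⊓ Subgroup.centralizer {t} with hK
    have hG'0 : commutator G ≠ ⊥ := by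
      intro h
      obtain ⟨x, y, hxy⟩ := hna
      apply hxy
      have h1 : ⁅x, y⁆ ∈ commutator G := by
        rw [commutator_def]
        exact Subgroup.commutator_mem_commutator (Subgroup.mem_top x) (Subgroup.mem_top y)
      rw [h, Subgroup.mem_bot, commutatorElement_def] at h1
      calc x * y = (x * y * x⁻¹ * y⁻¹) * (y * x) := by group
        _ = y * x := by rw [h1, one_mul]
    have hsq : ∀ y ∈ A, y ^ 2 = 1 → y = 1 ∨ y = z := by
      intro y hy hy2
      rw [hA, ← mem_powers_iff_mem_zpowers] at hy
      obtain ⟨i, rfl⟩ := hy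
      have hy2 : a ^ (i * 2) = 1 := by rw [pow_mul]; exact hy2
      have hdvd : 2 * N ∣ i * 2 := by rw [← hoa]; exact orderOf_dvd_of_pow_eq_one hy2
      have hdvd' : N ∣ i := by
        have : N * 2 ∣ i * 2 := by rwa [mul_comm N 2]
        exact Nat.dvd_of_mul_dvd_mul_right (by norm_num) this
      obtain ⟨j, rfl⟩ := hdvd'
      show a ^ (N * j) = 1 ∨ a ^ (N * j) = z
      rw [pow_mul, ← hz]
      rcases Nat.even_or_odd j with ⟨r, rfl⟩ | ⟨r, rfl⟩
      · left; rw [← two_mul, pow_mul, hz2, one_pow]
      · right; rw [pow_add, pow_mul, hz2, one_pow, one_mul, pow_one]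
    have ht2A : t ^ 2 ∈ A := Subgroup.sq_mem_of_index_two hAidx t
    set b := t * a * t⁻¹ with hb
    have hbA : b ∈ A := hAn.conj_mem a haA t
    have hab : a * b = b * a := hAcomm a haA b hbA
    have htb : t * b * t⁻¹ = a := by
      have h1 : t * b * t⁻¹ = t ^ 2 * a * (t ^ 2)⁻¹ := by rw [hb, pow_two]; group
      rw [h1, hAcomm _ ht2A a haA, mul_assoc, mul_inv_cancel, mul_one]
    set c := a * b⁻¹ with hc0
    have hcA : c ∈ A := A.mul_mem haA (A.inv_mem hbA)
    have hS' : commutator G = Subgroup.zpowers c := by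
      apply le_antisymm
      · rw [← hcR]
        intro g hg
        rw [Cfsg.Agent.Helper76.mem_commRange] at hg
        obtain ⟨x, hx, rfl⟩ := hg
        obtain ⟨i, rfl⟩ := Subgroup.mem_zpowers_iff.1 hx
        have key : a ^ i * (t * (a ^ i)⁻¹ * t⁻¹) = c ^ i := by
          have h1 : t * (a ^ i)⁻¹ * t⁻¹ = (b ^ i)⁻¹ := by
            rw [hb, ← inv_zpow, ← inv_zpow]
            have : t * a⁻¹ ^ i * t⁻¹ = (t * a⁻¹ * t⁻¹) ^ i := by rw [conj_zpow]
            rw [this]; congr 1; group
          rw [h1, hc0, (show Commute a b⁻¹ from (show Commute a b from hab).inv_right).mul_zpow,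
            inv_zpow]
        rw [key]; exact Subgroup.zpow_mem _ (Subgroup.mem_zpowers c) i
      · rw [Subgroup.zpowers_le, ← hcR, Cfsg.Agent.Helper76.mem_commRange]
        refine ⟨a, haA, ?_⟩
        rw [hc0, hb]; group
    have hG'A : commutator G ≤ A := by rw [hS']; exact Subgroup.zpowers_le.2 hcA
    have hKA : K ≤ A := inf_le_left
    have htc : t * c * t⁻¹ = c⁻¹ := by
      have : t * c * t⁻¹ = (t * a * t⁻¹) * (t * b * t⁻¹)⁻¹ := by rw [hc0]; group
      rw [this, htb, ← hb, hc0, mul_inv_rev, inv_inv]
    have hKG' : ∀ y ∈ K, y ∈ commutator G → y = 1 ∨ y = z := by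
      intro y hyK hyG
      apply hsq y (hKA hyK)
      rw [hS'] at hyG
      obtain ⟨i, rfl⟩ := Subgroup.mem_zpowers_iff.1 hyG
      have h1 : t * c ^ i * t⁻¹ = (c ^ i)⁻¹ := by rw [← conj_zpow, htc, inv_zpow]
      have h2 : t * c ^ i * t⁻¹ = c ^ i := by
        have := (Subgroup.mem_inf.1 hyK).2
        rw [Subgroup.mem_centralizer_iff] at this
        have h3 := this t rfl
        rw [h3, mul_assoc, mul_inv_cancel, mul_one]
      rw [h2] at h1
      rw [pow_two]
      nth_rewrite 1 [h1]
      rw [inv_mul_cancel]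
    have hK0 : K ≠ ⊥ := by
      rw [hK, Cfsg.Agent.Helper76.inf_centralizer_eq_inf_center A hAcomm t hgen]
      apply Cfsg.Agent.Helper10.normal_inf_center_ne_bot A
      intro h
      rw [h, Subgroup.card_bot] at hAcard
      omega
    obtain ⟨k, hk⟩ := IsPGroup.iff_card.1 (hp.to_subgroup K)
    obtain ⟨l, hl⟩ := IsPGroup.iff_card.1 (hp.to_subgroup (commutator G))
    have hcz : c = z := by
      rcases le_or_gt k l with hkl | hkl
      · exfalso
        have hKG : K ≤ commutator G :=
          Cfsg.Agent.Helper14.le_of_card_dvd_of_le_cyclic A K (commutator G) hKA hG'A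
            (by rw [hk, hl]; exact pow_dvd_pow 2 hkl)
        have hKle : ∀ y ∈ K, y = 1 ∨ y = z := fun y hy => hKG' y hy (hKG hy)
        have hKcard : Nat.card K = 2 := by
          have hk0 : k ≠ 0 := by
            rintro rfl
            rw [pow_zero, Subgroup.card_eq_one] at hk
            exact hK0 hk
          have hk1 : k ≤ 1 := by
            by_contra hk2
            push Not at hk2
            -- K has at most 2 elements
            have : Nat.card K ≤ 2 := by
              have hsub : ∀ y : K, y = 1 ∨ (y : G) = z := by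
                intro y
                rcases hKle y y.2 with h | h
                · left; exact Subtype.ext h
                · right; exact h
              by_contra hgt
              push Not at hgt
              have h3 : 2 < Nat.card K := hgt
              haveI : Fintype K := Fintype.ofFinite K
              rw [Nat.card_eq_fintype_card] at h3
              obtain ⟨u, v, w, huv, huw, hvw⟩ := (Fintype.two_lt_card_iff).1 h3
              rcases hsub u with hu | hu <;> rcases hsub v with hv | hv <;>
                rcases hsub w with hw | hw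
              · exact huv (hu.trans hv.symm)
              · exact huv (hu.trans hv.symm)
              · exact huw (hu.trans hw.symm)
              · exact hvw (Subtype.ext (hv.trans hw.symm))
              · exact hvw (hv.trans hw.symm)
              · exact huw (Subtype.ext (hu.trans hw.symm))
              · exact huv (Subtype.ext (hu.trans hv.symm))
              · exact huv (Subtype.ext (hu.trans hv.symm))
            rw [hk] at this
            have : 2 ^ 2 ≤ 2 ^ k := Nat.pow_le_pow_right (by norm_num) hk2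
            omega
          have : k = 1 := by omega
          rw [hk, this, pow_one]
        rw [hKcard, hl] at hcent
        have hlN : 2 ^ l = N := by
          have : 2 * N = N * 2 := by ring
          rw [this] at hcent
          have := Nat.eq_of_mul_eq_mul_right (by norm_num : 0 < 2) hcent
          exact this.symm
        apply hidx
        have h1 := (commutator G).card_mul_index
        rw [hl, hlN, hG] at h1
        have : 2 ^ n = N * 4 := by
          rw [hN, show (4 : ℕ) = 2 ^ 2 by norm_num, ← pow_add]; congr 1; omega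
        rw [this] at h1
        exact Nat.eq_of_mul_eq_mul_left hNpos h1
      · have hGK : commutator G ≤ K :=
          Cfsg.Agent.Helper14.le_of_card_dvd_of_le_cyclic A (commutator G) K hG'A hKA
            (by rw [hk, hl]; exact pow_dvd_pow 2 hkl.le)
        have hcG : c ∈ commutator G := by rw [hS']; exact Subgroup.mem_zpowers c
        rcases hKG' c (hGK hcG) hcG with h | h
        · exfalso
          apply hG'0
          rw [hS', h, Subgroup.zpowers_one_eq_bot]
        · exact h
    -- t a t⁻¹ = a z
    have hbz : t * a * t⁻¹ = a * z := by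
      have h1 : b⁻¹ = a⁻¹ * z := by
        have : a * b⁻¹ = z := hcz
        rw [← this]; group
      have h2 : b = z⁻¹ * a := by
        have := congrArg (fun g => g⁻¹) h1
        simpa using this
      rw [← hb, h2, hzinv]
      exact hAcomm z hzA a haA
    have hn4 : 4 ≤ n := by
      by_contra h
      have hn3 : n = 3 := by omega
      apply hidx
      have h1 := (commutator G).card_mul_index
      have hc2 : Nat.card (commutator G) = 2 := by rw [hS', Nat.card_zpowers, hcz, hoz]
      rw [hc2, hG, hn3] at h1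
      omega
    obtain ⟨H, hH⟩ : ∃ H : ℕ, N = 4 * H := by
      refine ⟨2 ^ (n - 4), ?_⟩
      rw [hN, show (4 : ℕ) = 2 ^ 2 by norm_num, ← pow_add]; congr 1; omega
    have haz : Commute a z := hAcomm a haA z hzA
    obtain ⟨e, he⟩ := Subgroup.mem_zpowers_iff.1 ht2A
    have hze : z ^ e = 1 := by
      have h1 : t * (t ^ 2) * t⁻¹ = t ^ 2 := by group
      rw [← he, ← conj_zpow, hbz, haz.mul_zpow] at h1
      exact mul_eq_left.1 h1
    have h2e : (2 : ℤ) ∣ e := by
      have := (orderOf_dvd_iff_zpow_eq_one).2 hze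
      rw [hoz] at this
      exact_mod_cast this
    obtain ⟨j, rfl⟩ := h2e
    set k' : ℤ := -(j * (1 + 2 * (H : ℤ))) with hk'
    have hbA' : t * a ^ k' ∉ A := by
      intro h
      apply ht
      have : t = (t * a ^ k') * (a ^ k')⁻¹ := by group
      rw [this]
      exact Subgroup.mul_mem _ h (Subgroup.inv_mem _ (Subgroup.zpow_mem _ haA k'))
    refine ⟨a, t * a ^ k', ha, hbA', Or.inr (Or.inr (Or.inl ⟨hn4, ?_, ?_⟩))⟩
    · have h1 : (t * a ^ k') ^ 2 = (t * a ^ k' * t⁻¹) * t ^ 2 * a ^ k' := by
        rw [pow_two, pow_two]; group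
      have h2 : t * a ^ k' * t⁻¹ = a ^ k' * z ^ k' := by
        rw [← conj_zpow, hbz, haz.mul_zpow]
      have h3 : z ^ k' = a ^ ((N : ℤ) * k') := by
        rw [hz, zpow_mul, zpow_natCast]
      rw [h1, h2, h3, ← he, ← zpow_add, ← zpow_add, ← zpow_add]
      have h4 : k' + (N : ℤ) * k' + 2 * j + k' = ((2 * N : ℕ) : ℤ) * (-(j * (1 + (H : ℤ)))) := by
        rw [hk', hH]; push_cast; ring
      rw [h4, zpow_mul, zpow_natCast, ← hoa, pow_orderOf_eq_one, one_zpow]
    · have : t * a ^ k' * a * (t * a ^ k')⁻¹ = t * a * t⁻¹ := by group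
      rw [this, hbz, pow_add, pow_one]

end Cfsg.Agent.S0646
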