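import Cfsg.Statements.S0651
import Cfsg.Agent.Lib.Helper11.Replacement6

set_option autoImplicit false
open Cfsg

namespace Cfsg.Agent.S0651

open Cfsg.Agent.Helper11.Repl

/-- For odd p and D normal in the p-group S, the abelian subgroups of D of largest order satisfy the replacement property: a class-2 normal subgroup B of S with a member containing [B, B] but not B normalizes some such member. -/
theorem result {S : Type*} [Group S] [Finite S] {p : ℕ} [Fact p.Prime] (hS : IsPGroup p S) (hp : p ≠ 2) (D : Subgroup S) [D.Normal] : ∀ (B : Subgroup S) [B.Normal], ⁅⁅B, B⁆, B⁆ = ⊥ → (∃ U ∈ (Set.image (fun A : Subgroup ↥D => A.map D.subtype) (Cfsg.maxAbelianSubgroups ↥D)), ⁅B, B⁆ ≤ U ∧ ¬ B ≤ U) → ∃ A ∈ (Set.image (fun A : Subgroup ↥D => A.map D.subtype) (Cfsg.maxAbelianSubgroups ↥D)), ⁅B, B⁆ ≤ A ∧ ¬ B ≤ A ∧ B ≤ Subgroup.normalizer (A : Set S) := by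
  intro B _ _ hex
  obtain ⟨U, hU, hBU, hnU⟩ := hex
  have hB2 : p = 2 → IsMulCommutative B := fun h => absurd h hp
  apply exists_normalized_member hS hp B _ _ _ U hU hBU hnU
  · intro A hA
    exact ((mem_image_maxAbelian_iff D A).mp hA).2.1
  · intro A hA hBA b hb hbN hbA
    obtain ⟨hAD, hAc, hAmax⟩ := (mem_image_maxAbelian_iff D A).mp hA
    have hnot : ¬ B ≤ Subgroup.normalizer (A : Set S) := by
      intro h
      exact hbA (h hb)
    have hres := Cfsg.Agent.S0650.result hS B hB2 A hAc hBA hnot b hb hbN hbA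
    obtain ⟨h1, h2, _⟩ := hres
    rw [mem_image_maxAbelian_iff]
    refine ⟨Astar_le_of_normal hAD b, h2, ?_⟩
    intro Y hYD hYc
    have h1' : Nat.card (Astar A b) = Nat.card A := h1
    rw [h1']
    exact hAmax Y hYD hYc

end Cfsg.Agent.S0651
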