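import Cfsg.Statements.S0653
import Cfsg.Agent.Lib.Helper11.ZJ6
import Cfsg.Agent.S0647

set_option autoImplicit false
open Cfsg

namespace Cfsg.Agent.S0653

open Cfsg.Agent.Helper11 Cfsg.Agent.Helper11.ZJ

/-- `Z(J(P))`, computed in `G`, is the image of `Z(J(P))` computed in `P`. -/
theorem centerThompsonAOf_eq {G : Type*} [Group G] (P : Subgroup G) :
    Cfsg.centerThompsonAOf P =
      (Cfsg.thompsonSubgroupA ↥P ⊓
        Subgroup.centralizer (Cfsg.thompsonSubgroupA ↥P : Set ↥P)).map P.subtype := by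
  ext x
  unfold Cfsg.centerThompsonAOf Cfsg.thompsonSubgroupAOf
  rw [Subgroup.mem_inf, Subgroup.mem_map]
  constructor
  · rintro ⟨⟨x', hx', rfl⟩, hx2⟩
    have hx3 : x' ∈ Subgroup.centralizer (Cfsg.thompsonSubgroupA ↥P : Set ↥P) := by
      rw [Subgroup.mem_centralizer_iff] at hx2 ⊢
      intro y hy
      apply Subtype.ext
      exact hx2 (P.subtype y) ⟨y, hy, rfl⟩
    exact ⟨x', ⟨hx', hx3⟩, rfl⟩
  · rintro ⟨x', hx12, rfl⟩
    have hx12' : x' ∈ Cfsg.thompsonSubgroupA ↥P ⊓
        Subgroup.centralizer (Cfsg.thompsonSubgroupA ↥P : Set ↥P) := hx12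
    rw [Subgroup.mem_inf] at hx12'
    obtain ⟨hx', hx2⟩ := hx12'
    refine ⟨⟨x', hx', rfl⟩, ?_⟩
    rw [Subgroup.mem_centralizer_iff] at hx2 ⊢
    rintro _ ⟨y, hy, rfl⟩
    exact congrArg Subtype.val (hx2 y hy)

/-- Glauberman's ZJ-Theorem: for odd p, if the largest normal p-subgroup of G contains its centralizer and G acts p-stably on every normal p-subgroup, then the centre of the abelian-version Thompson subgroup of a Sylow p-subgroup is a characteristic subgroup of G. -/
theorem result {G : Type*} [Group G] [Finite G] {p : ℕ} [Fact p.Prime] (hp : p ≠ 2) (hc : Subgroup.centralizer (Cfsg.pCore p G : Set G) ≤ Cfsg.pCore p G) (hst : ∀ (P : Subgroup G) [P.Normal], IsPGroup p P → Cfsg.IsPStableOn p P) (S : Sylow p G) : (Cfsg.centerThompsonAOf ((S : Subgroup G))).Characteristic := by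
  have hG := goodAx_comm (G := G)
  have hchar := W_characteristic hG hp hc hst S
  have h3 : Set.image (fun A : Subgroup ↥(S : Subgroup G) => A.map (S : Subgroup G).subtype)
      (Cfsg.maxAbelianSubgroups ↥(S : Subgroup G)) =
      Fam (fun A : Subgroup G => IsMulCommutative A) (S : Subgroup G) := by
    ext X
    exact Repl.mem_image_maxAbelian_iff (S : Subgroup G) X
  have hne : (Cfsg.maxAbelianSubgroups ↥(S : Subgroup G)).Nonempty := by
    obtain ⟨A, hA⟩ := Fam_nonempty hG (S : Subgroup G)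
    rw [← h3] at hA
    obtain ⟨A', hA', _⟩ := hA
    exact ⟨A', hA'⟩
  have h1 := (Cfsg.Agent.S0647.result (Cfsg.maxAbelianSubgroups ↥(S : Subgroup G)) hne
    (fun A hA => hA.1) (fun A hA B hB hAB =>
      (Subgroup.eq_of_le_of_card_ge hAB (hA.2 B hB)).symm)).1
  have h2 := map_sInf_subtype (S : Subgroup G) _ hne
  rw [centerThompsonAOf_eq]
  show ((sSup (Cfsg.maxAbelianSubgroups ↥(S : Subgroup G)) ⊓
    Subgroup.centralizer ((sSup (Cfsg.maxAbelianSubgroups ↥(S : Subgroup G)) :
      Subgroup ↥(S : Subgroup G)) : Set ↥(S : Subgroup G))).map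
      (S : Subgroup G).subtype).Characteristic
  rw [← h1, h2, h3]
  exact hchar

end Cfsg.Agent.S0653
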