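import Cfsg.Statements.S0654
import Cfsg.Agent.Lib.Helper11.ZJ6
import Cfsg.Agent.S0652
import Cfsg.Agent.S0655

set_option autoImplicit false
open Cfsg

namespace Cfsg.Agent.S0654

open Cfsg.Agent.Helper11 Cfsg.Agent.Helper11.ZJ

/-- The ZJ-Theorem for the elementary-abelian Thompson subgroup: for an odd prime p, a finite group G with C_G(O_p(G)) ≤ O_p(G) acting p-stably on its normal p-subgroups, and a Sylow p-subgroup S of G, the subgroup generated by the elements of order dividing p in Z(J_e(S)) is characteristic in G. -/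
theorem result {G : Type*} [Group G] [Finite G] {p : ℕ} [Fact p.Prime] (hp : p ≠ 2) (hc : Subgroup.centralizer (Cfsg.pCore p G : Set G) ≤ Cfsg.pCore p G) (hst : ∀ (P : Subgroup G) [P.Normal], IsPGroup p P → Cfsg.IsPStableOn p P) (S : Sylow p G) : ((Cfsg.omegaCenterThompson p ↥(S : Subgroup G)).map (S : Subgroup G).subtype).Characteristic := by
  have hchar := W_characteristic (goodAx_elemAb (G := G) p) hp hc hst S
  have hS : IsPGroup p ↥(S : Subgroup G) := S.isPGroup'
  have h1 := (Cfsg.Agent.S0655.result hS).1
  have hne := maxElementaryAbelianSubgroups_nonempty p ↥(S : Subgroup G)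
  have h2 := map_sInf_subtype (S : Subgroup G) _ hne
  have h3 : Set.image (fun A : Subgroup ↥(S : Subgroup G) => A.map (S : Subgroup G).subtype)
      (Cfsg.maxElementaryAbelianSubgroups p ↥(S : Subgroup G)) =
      Fam (fun A : Subgroup G => IsElementaryAbelian p A) (S : Subgroup G) := by
    ext X
    exact Cfsg.Agent.S0652.mem_image_maxElemAb_iff (S : Subgroup G) X
  rw [← h1, h2, h3]
  exact hchar

end Cfsg.Agent.S0654
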