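import Cfsg.Statements.S0660
import Cfsg.Agent.Lib.Helper11.InvComplement

set_option autoImplicit false
open Cfsg
open scoped IsMulCommutative

namespace Cfsg.Agent.S0660

/-- Under a coprime action on an abelian group, an invariant subgroup that is complemented admits an invariant complement. -/
theorem result {G : Type*} [Group G] [Finite G] (V A U : Subgroup G) (hVab : IsMulCommutative V) (hAV : A ≤ Subgroup.normalizer (V : Set G)) (hcop : (Nat.card A).Coprime (Nat.card V)) (hUV : U ≤ V) (hAU : A ≤ Subgroup.normalizer (U : Set G)) (W : Subgroup G) (hWV : W ≤ V) (hUW : U ⊓ W = ⊥) (hUWV : U ⊔ W = V) : ∃ W' : Subgroup G, W' ≤ V ∧ A ≤ Subgroup.normalizer (W' : Set G) ∧ U ⊓ W' = ⊥ ∧ U ⊔ W' = V := by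
  classical
  haveI : Fintype A := Fintype.ofFinite A
  let φ : A →* MulAut V := (Subgroup.normalizerMonoidHom V).comp (Subgroup.inclusion hAV)
  have hφ : ∀ (a : A) (v : V), ((φ a v : V) : G) = (a : G) * (v : G) * (a : G)⁻¹ := by
    intro a v
    rfl
  have hcop' : (Fintype.card A).Coprime (Nat.card V) := by
    rw [← Nat.card_eq_fintype_card]; exact hcop
  have hU₁ : ∀ a : A, ∀ u ∈ U.subgroupOf V, φ a u ∈ U.subgroupOf V := by
    intro a u hu
    rw [Subgroup.mem_subgroupOf] at hu ⊢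
    rw [hφ]
    have := hAU a.2
    rw [Subgroup.mem_normalizer_iff] at this
    exact (this _).mp hu
  have hdisj : U.subgroupOf V ⊓ W.subgroupOf V = ⊥ := by
    rw [eq_bot_iff]
    intro x hx
    obtain ⟨h1, h2⟩ := Subgroup.mem_inf.mp hx
    rw [Subgroup.mem_subgroupOf] at h1 h2
    have h3 : (x : G) ∈ U ⊓ W := Subgroup.mem_inf.mpr ⟨h1, h2⟩
    rw [hUW, Subgroup.mem_bot] at h3
    rw [Subgroup.mem_bot]
    exact Subtype.ext h3
  have hsup : U.subgroupOf V ⊔ W.subgroupOf V = ⊤ := by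
    rw [← Subgroup.subgroupOf_sup hUV hWV, hUWV, Subgroup.subgroupOf_self]
  obtain ⟨W₁, hW₁inv, hW₁disj, hW₁sup⟩ :=
    Cfsg.Agent.Helper11.exists_invariant_complement φ hcop' _ _ hU₁ hdisj hsup
  refine ⟨W₁.map V.subtype, Subgroup.map_subtype_le _, ?_, ?_, ?_⟩
  · intro a ha
    apply Subgroup.mem_normalizer_fintype
    rintro _ ⟨w, hw, rfl⟩
    refine ⟨φ ⟨a, ha⟩ w, hW₁inv ⟨a, ha⟩ w hw, ?_⟩
    exact hφ ⟨a, ha⟩ w
  · rw [eq_bot_iff]
    rintro x ⟨hxU, ⟨w, hw, rfl⟩⟩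
    have : w ∈ U.subgroupOf V ⊓ W₁ := Subgroup.mem_inf.mpr ⟨Subgroup.mem_subgroupOf.mpr hxU, hw⟩
    rw [hW₁disj, Subgroup.mem_bot] at this
    rw [this]
    exact Subgroup.one_mem _
  · have h1 : (U.subgroupOf V ⊔ W₁).map V.subtype = V := by
      rw [hW₁sup, ← MonoidHom.range_eq_map, Subgroup.range_subtype]
    rw [Subgroup.map_sup, Subgroup.subgroupOf_map_subtype, inf_eq_left.mpr hUV] at h1
    exact h1

end Cfsg.Agent.S0660
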