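import Cfsg.Statements.S0661
import Cfsg.Agent.Lib.Helper54.PConstrained

set_option autoImplicit false
open Cfsg

namespace Cfsg.Agent.S0661

open Cfsg.Agent.Helper54

/-- If, modulo the largest normal subgroup of order prime to p, the largest normal p-subgroup contains its centralizer, then for every p-subgroup P the p'-core of N_G(P) is just O_p'(G) ∩ N_G(P). -/
theorem result {G : Type*} [Group G] [Finite G] {p : ℕ} [Fact p.Prime] (hc : Subgroup.centralizer (Cfsg.pCore p (G ⧸ Cfsg.pPrimeCore p G) : Set (G ⧸ Cfsg.pPrimeCore p G)) ≤ Cfsg.pCore p (G ⧸ Cfsg.pPrimeCore p G)) (P : Subgroup G) (hP : IsPGroup p P) : (Cfsg.pPrimeCore p ↥(Subgroup.normalizer (P : Set G))).map (Subgroup.normalizer (P : Set G)).subtype = Cfsg.pPrimeCore p G ⊓ Subgroup.normalizer (P : Set G) := by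
  haveI hKn : (pPrimeCore p G).Normal := pPrimeCore_normal' p
  have hKc : (Nat.card (pPrimeCore p G)).Coprime p := pPrimeCore_coprime p
  have hG' : IsCharP p (G ⧸ pPrimeCore p G) := hc
  apply le_antisymm
  · -- the p'-core of the normalizer lies in `O_{p'}(G)`
    rintro _ ⟨x, hx, rfl⟩
    refine ⟨?_, x.2⟩
    -- the normalizer of the image of `P`
    have hN'char : IsCharP p ↥(Subgroup.normalizer
        ((P.map (QuotientGroup.mk' (pPrimeCore p G)) : Subgroup (G ⧸ pPrimeCore p G)) :
          Set (G ⧸ pPrimeCore p G))) :=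
      isCharP_normalizer hG' _ (hP.map _)
    have hN'bot := hN'char.pPrimeCore_eq_bot
    have ha : ∀ x ∈ Subgroup.normalizer (P : Set G),
        (QuotientGroup.mk' (pPrimeCore p G)) x ∈ Subgroup.normalizer
          ((P.map (QuotientGroup.mk' (pPrimeCore p G)) : Subgroup (G ⧸ pPrimeCore p G)) :
            Set (G ⧸ pPrimeCore p G)) := by
      intro x hx
      exact Subgroup.le_normalizer_map _ (Subgroup.mem_map_of_mem _ hx)
    set f : ↥(Subgroup.normalizer (P : Set G)) →* ↥(Subgroup.normalizer
        ((P.map (QuotientGroup.mk' (pPrimeCore p G)) : Subgroup (G ⧸ pPrimeCore p G)) :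
          Set (G ⧸ pPrimeCore p G))) :=
      ((QuotientGroup.mk' (pPrimeCore p G)).comp (Subgroup.normalizer (P : Set G)).subtype).codRestrict
        _ (fun x => ha x x.2) with hf
    have hsurj : Function.Surjective f := by
      rintro ⟨n', hn'⟩
      obtain ⟨c, rfl⟩ := QuotientGroup.mk'_surjective (pPrimeCore p G) n'
      have hb : ∃ k ∈ pPrimeCore p G, c * k ∈ Subgroup.normalizer (P : Set G) := by
        apply exists_mul_mem_normalizer (pPrimeCore p G) hKc P hP c
        intro t ht
        have h1 : (QuotientGroup.mk' (pPrimeCore p G)) c * (QuotientGroup.mk' (pPrimeCore p G)) t *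
            ((QuotientGroup.mk' (pPrimeCore p G)) c)⁻¹ ∈ P.map (QuotientGroup.mk' (pPrimeCore p G)) :=
          (Subgroup.mem_normalizer_iff.mp hn' _).mp (Subgroup.mem_map_of_mem _ ht)
        obtain ⟨t', ht', h2⟩ := h1
        have h3 : t'⁻¹ * (c * t * c⁻¹) ∈ pPrimeCore p G := by
          rw [← QuotientGroup.eq_one_iff, ← QuotientGroup.mk'_apply]
          simp only [map_mul, map_inv]
          rw [h2]
          group
        have h4 : c * t * c⁻¹ = t' * (t'⁻¹ * (c * t * c⁻¹)) := by group
        rw [h4]
        exact Subgroup.mul_mem _ (Subgroup.mem_sup_left ht') (Subgroup.mem_sup_right h3)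
      obtain ⟨k, hk, hck⟩ := hb
      refine ⟨⟨c * k, hck⟩, ?_⟩
      apply Subtype.ext
      show (QuotientGroup.mk' (pPrimeCore p G)) (c * k) = (QuotientGroup.mk' (pPrimeCore p G)) c
      rw [map_mul, QuotientGroup.mk'_apply, QuotientGroup.mk'_apply,
        (QuotientGroup.eq_one_iff k).mpr hk, mul_one]
    -- the image of the `p'`-core is a normal `p'`-subgroup, hence trivial
    have hXn : (pPrimeCore p ↥(Subgroup.normalizer (P : Set G))).Normal := pPrimeCore_normal' p
    have hXc : (Nat.card (pPrimeCore p ↥(Subgroup.normalizer (P : Set G)))).Coprime p :=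
      pPrimeCore_coprime p
    have himn : ((pPrimeCore p ↥(Subgroup.normalizer (P : Set G))).map f).Normal :=
      hXn.map f hsurj
    have himc : (Nat.card ((pPrimeCore p ↥(Subgroup.normalizer (P : Set G))).map f)).Coprime p :=
      Nat.Coprime.coprime_dvd_left (Subgroup.card_map_dvd _ f) hXc
    have hle := le_pPrimeCore himn himc
    rw [hN'bot] at hle
    have h5 : f x = 1 := by
      have := hle (Subgroup.mem_map_of_mem f hx)
      rwa [Subgroup.mem_bot] at this
    have h6 : (QuotientGroup.mk' (pPrimeCore p G)) (x : G) = 1 := congrArg Subtype.val h5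
    rwa [QuotientGroup.mk'_apply, QuotientGroup.eq_one_iff] at h6
  · -- `O_{p'}(G) ∩ N_G(P)` is a normal `p'`-subgroup of `N_G(P)`
    rintro x ⟨hxK, hxN⟩
    refine ⟨⟨x, hxN⟩, ?_, rfl⟩
    have h1 : ((pPrimeCore p G).subgroupOf (Subgroup.normalizer (P : Set G))).Normal :=
      inferInstance
    have h2 : (Nat.card ((pPrimeCore p G).subgroupOf (Subgroup.normalizer (P : Set G)))).Coprime p := by
      have h3 : Nat.card ((pPrimeCore p G).subgroupOf (Subgroup.normalizer (P : Set G))) =
          Nat.card ↥(pPrimeCore p G ⊓ Subgroup.normalizer (P : Set G)) := by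
        rw [← Subgroup.inf_subgroupOf_right]
        exact Nat.card_congr (Subgroup.subgroupOfEquivOfLe inf_le_right).toEquiv
      rw [h3]
      exact Nat.Coprime.coprime_dvd_left (Subgroup.card_dvd_of_le inf_le_left) hKc
    exact le_pPrimeCore h1 h2 (Subgroup.mem_subgroupOf.mpr hxK)

end Cfsg.Agent.S0661
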