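import Cfsg.Statements.S0663
import Cfsg.Agent.Lib.Helper11.Uniserial3

set_option autoImplicit false
open Cfsg

namespace Cfsg.Agent.S0663

/-- A p-group acts uniserially on a p-group N of order p^n exactly when the iterated commutator chain from N has length n; in that case the chain terms are all the invariant subgroups of N and they are normal in N. -/
theorem result {L : Type*} [Group L] [Finite L] {p : ℕ} [Fact p.Prime] (N G : Subgroup L) (hN : IsPGroup p N) (hG : IsPGroup p G) (hGN : G ≤ Subgroup.normalizer (N : Set L)) (n : ℕ) (hn : Nat.card N = p ^ n) : ((∀ H : Subgroup L, H ≤ N → G ≤ Subgroup.normalizer (H : Set L) → H ≠ ⊥ → (⁅H, G⁆).relIndex H = p) ↔ Cfsg.iterCommutator N G (n - 1) ≠ ⊥ ∨ n = 0) ∧ ((∀ H : Subgroup L, H ≤ N → G ≤ Subgroup.normalizer (H : Set L) → H ≠ ⊥ → (⁅H, G⁆).relIndex H = p) → ∀ H : Subgroup L, H ≤ N → G ≤ Subgroup.normalizer (H : Set L) → (∃ i ≤ n, H = Cfsg.iterCommutator N G i) ∧ N ≤ Subgroup.normalizer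 (H : Set L)) := by
  have hUHC : (∀ H : Subgroup L, H ≤ N → G ≤ Subgroup.normalizer (H : Set L) → H ≠ ⊥ →
      (⁅H, G⁆).relIndex H = p) → Cfsg.Agent.Helper11.Uni.HC p N G := by
    intro hU i hne
    exact hU _ (Cfsg.Agent.Helper11.Uni.iter_le N G hGN i)
      (Cfsg.Agent.Helper11.Uni.G_le_normalizer_iter N G hGN i) hne
  refine ⟨⟨?_, ?_⟩, ?_⟩
  · intro hU
    exact Cfsg.Agent.Helper11.Uni.long_of_HCard n
      (Cfsg.Agent.Helper11.Uni.HCard_of_HC hGN n hn (hUHC hU))
  · intro hlong H hH hGH hne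
    have hcard := Cfsg.Agent.Helper11.Uni.HCard_of_long hN hG hGN n hn hlong
    have hHC := Cfsg.Agent.Helper11.Uni.HC_of_HCard hGN n hcard
    exact Cfsg.Agent.Helper11.Uni.uniserial_of_HC hN hG hGN n hn hHC H hH hGH hne
  · intro hU H hH hGH
    have hHC := hUHC hU
    obtain ⟨i, hi, rfl⟩ := Cfsg.Agent.Helper11.Uni.invariant_eq_iter hN hG hGN n hn hHC H hH hGH
    exact ⟨⟨i, hi, rfl⟩, Cfsg.Agent.Helper11.Uni.N_le_normalizer_iter hN hG hGN hHC i⟩

end Cfsg.Agent.S0663
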