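import Cfsg.Statements.S0667
import Cfsg.Agent.Lib.Helper11.ZJ8
import Cfsg.Agent.S0632

set_option autoImplicit false
set_option linter.style.haveILetI false
open Cfsg

namespace Cfsg.Agent.S0667

open Cfsg.Agent.Helper54 Cfsg.Agent.Helper11.ZJ

/-- Glauberman's Theorem in the p-constrained, p-stable vocabulary: for odd p such a group is the product of its largest normal subgroup of order prime to p with the normalizer of Z(J(P)), and Z(J(P)) is normal when that p'-subgroup is trivial. -/
theorem result {G : Type*} [Group G] [Finite G] {p : ℕ} [Fact p.Prime] (hp : p ≠ 2) (hc : Cfsg.IsPConstrained p G) (hs : Cfsg.IsPStable p G) (P : Sylow p G) : Cfsg.pPrimeCore p G ⊔ Subgroup.normalizer (Cfsg.centerThompsonAOf ((P : Subgroup G)) : Set G) = ⊤ ∧ (Cfsg.pPrimeCore p G = ⊥ → (Cfsg.centerThompsonAOf ((P : Subgroup G))).Normal) := by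
  have hK : (Nat.card (pPrimeCore p G)).Coprime p := pPrimeCore_coprime p
  rw [centerThompsonAOf_eq_W]
  constructor
  · -- the quotient by `O_{p'}(G)`
    have hc' : IsCharP p (G ⧸ pPrimeCore p G) := isPConstrained_iff_isCharP_quotient.mp hc
    have hc'' : IsPConstrained p (G ⧸ pPrimeCore p G) := hc'.isPConstrained
    have hs' : IsPStable p (G ⧸ pPrimeCore p G) := Cfsg.Agent.S0632.isPStable_quotient hs
    have hbot : pPrimeCore p (G ⧸ pPrimeCore p G) = ⊥ := pPrimeCore_quotient_eq_bot p
    have hsurj := QuotientGroup.mk'_surjective (pPrimeCore p G)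
    have hchar := W_characteristic_of_pPrimeCore_eq_bot hp hc'' hs' hbot (P.mapSurjective hsurj)
      (goodAx_comm (G := G ⧸ pPrimeCore p G))
    have hinf : (QuotientGroup.mk' (pPrimeCore p G)).ker ⊓ (P : Subgroup G) = ⊥ := by
      rw [QuotientGroup.ker_mk']
      exact inf_eq_bot_of_isPGroup_of_coprime _ _ hK P.isPGroup'
    rw [Sylow.coe_mapSurjective, W_comm_map _ _ hinf] at hchar
    have hnorm : ((W (fun A : Subgroup G => IsMulCommutative A) (P : Subgroup G)).map
        (QuotientGroup.mk' (pPrimeCore p G))).Normal := by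
      haveI := hchar
      infer_instance
    have hZp : IsPGroup p (W (fun A : Subgroup G => IsMulCommutative A) (P : Subgroup G)) :=
      P.isPGroup'.to_le (W_le goodAx_comm _)
    rw [eq_top_iff]
    intro c _
    have h1 : ∃ k ∈ pPrimeCore p G, c * k ∈ Subgroup.normalizer
        ((W (fun A : Subgroup G => IsMulCommutative A) (P : Subgroup G) : Subgroup G) : Set G) := by
      apply exists_mul_mem_normalizer (pPrimeCore p G) hK _ hZp c
      intro t ht
      have h2 : (QuotientGroup.mk' (pPrimeCore p G)) c * (QuotientGroup.mk' (pPrimeCore p G)) t *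
          ((QuotientGroup.mk' (pPrimeCore p G)) c)⁻¹ ∈
          (W (fun A : Subgroup G => IsMulCommutative A) (P : Subgroup G)).map
            (QuotientGroup.mk' (pPrimeCore p G)) :=
        hnorm.conj_mem _ (Subgroup.mem_map_of_mem _ ht) _
      obtain ⟨t', ht', h3⟩ := h2
      have h4 : t'⁻¹ * (c * t * c⁻¹) ∈ pPrimeCore p G := by
        rw [← QuotientGroup.eq_one_iff, ← QuotientGroup.mk'_apply]
        simp only [map_mul, map_inv]
        rw [h3]
        group
      have h5 : c * t * c⁻¹ = t' * (t'⁻¹ * (c * t * c⁻¹)) := by group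
      rw [h5]
      exact Subgroup.mul_mem _ (Subgroup.mem_sup_left ht') (Subgroup.mem_sup_right h4)
    obtain ⟨k, hk, hck⟩ := h1
    -- `c = (c k) k⁻¹`
    have h7 : c = (c * k) * k⁻¹ := by group
    rw [h7]
    exact Subgroup.mul_mem _ (Subgroup.mem_sup_right hck)
      (Subgroup.mem_sup_left (Subgroup.inv_mem _ hk))
  · intro hbot
    haveI := W_characteristic_of_pPrimeCore_eq_bot hp hc hs hbot P (goodAx_comm (G := G))
    infer_instance

end Cfsg.Agent.S0667
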