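import Cfsg.Statements.S0668
import Cfsg.Agent.Lib.Helper11.PermRep

set_option autoImplicit false
open Cfsg

namespace Cfsg.Agent.S0668

open Cfsg.Agent.Helper11

/-- The kernel function of a linear map between function spaces. -/
noncomputable def kernelEquiv (K : Type*) [Field K] (Ω₁ Ω₂ : Type*) [Fintype Ω₁] [Fintype Ω₂]
    [DecidableEq Ω₁] :
    ((Ω₁ → K) →ₗ[K] (Ω₂ → K)) ≃ₗ[K] (Ω₁ × Ω₂ → K) where
  toFun F := fun p => F (Pi.single p.1 1) p.2
  map_add' := by intro F F'; rfl
  map_smul' := by intro c F; rfl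
  invFun φ := Matrix.toLin' (Matrix.of fun i j => φ (j, i))
  left_inv := by
    intro F
    apply LinearMap.pi_ext'
    intro j
    apply LinearMap.ext_ring
    funext i
    simp [Matrix.mulVec_single_one]
  right_inv := by
    intro φ
    funext p
    simp [Matrix.mulVec_single_one]

theorem kernelEquiv_apply (K : Type*) [Field K] (Ω₁ Ω₂ : Type*) [Fintype Ω₁] [Fintype Ω₂]
    [DecidableEq Ω₁] (F : (Ω₁ → K) →ₗ[K] (Ω₂ → K)) (p : Ω₁ × Ω₂) :
    kernelEquiv K Ω₁ Ω₂ F p = F (Pi.single p.1 1) p.2 := rfl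

/-- The equivariant linear maps between the permutation modules of two finite `G`-sets form a space whose dimension is the number of `G`-orbits on the product of the two sets. -/
theorem result {G : Type*} [Group G] {K : Type*} [Field K] {Ω₁ Ω₂ : Type*} [Fintype Ω₁] [Fintype Ω₂] [MulAction G Ω₁] [MulAction G Ω₂] : Module.finrank K ((Cfsg.permRep K G Ω₁).linHom (Cfsg.permRep K G Ω₂)).invariants = Nat.card (MulAction.orbitRel.Quotient G (Ω₁ × Ω₂)) := by
  classical
  rw [← finrank_invFun K G (Ω₁ × Ω₂)]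
  have key : (((Cfsg.permRep K G Ω₁).linHom (Cfsg.permRep K G Ω₂)).invariants).map
      (kernelEquiv K Ω₁ Ω₂ : ((Ω₁ → K) →ₗ[K] (Ω₂ → K)) →ₗ[K] (Ω₁ × Ω₂ → K)) = invFun K G (Ω₁ × Ω₂) := by
    ext φ
    constructor
    · rintro ⟨F, hF, rfl⟩
      intro g p
      obtain ⟨j, i⟩ := p
      have h1 := hF g⁻¹
      rw [Representation.linHom_apply, inv_inv] at h1
      show F (Pi.single (g • j) 1) (g • i) = F (Pi.single j 1) i
      conv_rhs => rw [← h1]
      simp only [LinearMap.comp_apply]
      rw [permRep_single, permRep_apply, inv_inv]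
    · intro hφ
      refine ⟨(kernelEquiv K Ω₁ Ω₂).symm φ, ?_, by simp⟩
      intro g
      rw [Representation.linHom_apply]
      apply (kernelEquiv K Ω₁ Ω₂).injective
      funext p
      obtain ⟨j, i⟩ := p
      rw [kernelEquiv_apply]
      simp only [LinearMap.comp_apply]
      rw [permRep_single, permRep_apply]
      have h2 := hφ g⁻¹ (j, i)
      have h3 : ∀ q : Ω₁ × Ω₂, ((kernelEquiv K Ω₁ Ω₂).symm φ) (Pi.single q.1 1) q.2 = φ q := by
        intro q
        rw [← kernelEquiv_apply, LinearEquiv.apply_symm_apply]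
      rw [LinearEquiv.apply_symm_apply]
      have h4 := h3 (g⁻¹ • j, g⁻¹ • i)
      simp only at h4
      rw [h4]
      exact h2
  rw [← key]
  exact (LinearEquiv.finrank_map_eq (kernelEquiv K Ω₁ Ω₂) _).symm

end Cfsg.Agent.S0668
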