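import Cfsg.Statements.S0670
import Cfsg.Agent.Lib.Helper11.PGroupRep
import Cfsg.Agent.Lib.Helper11.PermRep

set_option autoImplicit false
open Cfsg

namespace Cfsg.Agent.S0670

open Cfsg.Agent.Helper11

/-- In characteristic `p`, the permutation module of a transitive action of degree `p ^ f` has the line of constant functions as its only irreducible submodule: every non-zero subrepresentation contains it. -/
theorem result {G : Type*} [Group G] [Finite G] {K : Type*} [Field K] {p f : ℕ} [Fact p.Prime] [CharP K p] {Ω : Type*} [Fintype Ω] [MulAction G Ω] [MulAction.IsPretransitive G Ω] (hf : 1 ≤ f) (hcard : Fintype.card Ω = p ^ f) (W : Subrepresentation (Cfsg.permRep K G Ω)) (hW : W.toSubmodule ≠ ⊥) : (Cfsg.permConstants K G Ω).toSubmodule ≤ W.toSubmodule := by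
  classical
  have hcard' : Nat.card Ω = p ^ f := by rw [Nat.card_eq_fintype_card, hcard]
  obtain ⟨P⟩ : Nonempty (Sylow p G) := inferInstance
  have htrans := sylow_isPretransitive hcard' P
  let ρP : Representation K (P : Subgroup G) (Ω → K) :=
    (Cfsg.permRep K G Ω).comp (P : Subgroup G).subtype
  have hstab : ∀ g : (P : Subgroup G), ∀ w ∈ W.toSubmodule, ρP g w ∈ W.toSubmodule :=
    fun g w hw => W.apply_mem_toSubmodule g.1 hw
  obtain ⟨v, hvW, hv0, hvfix⟩ := exists_fixed_ne_zero P.isPGroup' ρP W.toSubmodule hstab hW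
  -- v is constant
  have hconst : ∀ x y : Ω, v x = v y := by
    intro x y
    obtain ⟨g, hg⟩ := MulAction.exists_smul_eq (P : Subgroup G) y x
    have h1 := congrFun (hvfix g) x
    have h2 : ρP g v x = v ((g : G)⁻¹ • x) := rfl
    rw [h2] at h1
    have h3 : (g : G)⁻¹ • x = y := by
      rw [inv_smul_eq_iff]
      exact hg.symm
    rw [h3] at h1
    exact h1.symm
  have hne : Nonempty Ω := by
    rw [← Fintype.card_pos_iff, hcard]
    exact pow_pos (Fact.out : p.Prime).pos _
  obtain ⟨a⟩ := hne
  have hv : v = fun _ => v a := funext fun x => hconst x a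
  have hva : v a ≠ 0 := by
    intro h
    apply hv0
    rw [hv, h]
    rfl
  show Submodule.span K {fun _ => (1 : K)} ≤ W.toSubmodule
  rw [Submodule.span_le, Set.singleton_subset_iff]
  have : (fun _ : Ω => (1 : K)) = (v a)⁻¹ • v := by
    funext x
    rw [Pi.smul_apply, smul_eq_mul, hconst x a, inv_mul_cancel₀ hva]
  rw [this]
  exact W.toSubmodule.smul_mem _ hvW

end Cfsg.Agent.S0670
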