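import Cfsg.Statements.S0671
import Cfsg.Agent.S0670
import Cfsg.Agent.Lib.Helper11.PermRep

set_option autoImplicit false
open Cfsg

namespace Cfsg.Agent.S0671

open Cfsg.Agent.Helper11

section
variable {K : Type*} [Field K] {G : Type*} [Group G] {Ω : Type*} [Fintype Ω] [MulAction G Ω]

/-- The linear map on functions with a given kernel. -/
noncomputable def kerMap (m : Ω → Ω → K) : (Ω → K) →ₗ[K] (Ω → K) where
  toFun f := fun y => ∑ x, m x y * f x
  map_add' f f' := by
    funext y
    simp [mul_add, Finset.sum_add_distrib]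
  map_smul' c f := by
    funext y
    simp [Finset.mul_sum, mul_left_comm]

theorem kerMap_apply (m : Ω → Ω → K) (f : Ω → K) (y : Ω) : kerMap m f y = ∑ x, m x y * f x := rfl

theorem kerMap_single [DecidableEq Ω] (m : Ω → Ω → K) (x y : Ω) :
    kerMap m (Pi.single x 1) y = m x y := by
  rw [kerMap_apply, Finset.sum_eq_single x]
  · simp
  · intro b _ hb
    simp [hb]
  · simp

theorem kerMap_comm (m : Ω → Ω → K) (hm : ∀ (g : G) (x y : Ω), m (g • x) (g • y) = m x y) (g : G)
    (f : Ω → K) : kerMap m (Cfsg.permRep K G Ω g f) = Cfsg.permRep K G Ω g (kerMap m f) := by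
  funext y
  rw [permRep_apply, kerMap_apply, kerMap_apply]
  apply Fintype.sum_equiv (MulAction.toPerm g⁻¹)
  intro x
  simp only [MulAction.toPerm_apply, permRep_apply]
  rw [← hm g (g⁻¹ • x) (g⁻¹ • y), smul_inv_smul, smul_inv_smul]

end

/-- If the heart of the permutation module in characteristic `p` of a transitive action of degree `p ^ f` has no trivial composition factor, the action is doubly transitive. The hypothesis is phrased without composition series: no invariant subspaces `W < W'` between the constants and the sum-zero functions with trivial action on the quotient. -/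
theorem result {G : Type*} [Group G] [Finite G] {K : Type*} [Field K] {p f : ℕ} [Fact p.Prime] [CharP K p] {Ω : Type*} [Fintype Ω] [MulAction G Ω] [MulAction.IsPretransitive G Ω] (hf : 1 ≤ f) (hcard : Fintype.card Ω = p ^ f) (h : ∀ W W' : Subrepresentation (Cfsg.permRep K G Ω), (Cfsg.permConstants K G Ω).toSubmodule ≤ W.toSubmodule → W.toSubmodule < W'.toSubmodule → W'.toSubmodule ≤ (Cfsg.permSumZero K G Ω).toSubmodule → ∃ g : G, ∃ v ∈ W'.toSubmodule, Cfsg.permRep K G Ω g v - v ∉ W.toSubmodule) : MulAction.IsMultiplyPretransitive G Ω 2 := by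
  classical
  by_contra hnot
  rw [MulAction.is_two_pretransitive_iff] at hnot
  push Not at hnot
  obtain ⟨a, b, c, d, hab, hcd, hno⟩ := hnot
  -- constants
  let one : Ω → K := fun _ => 1
  have hone_fix : ∀ g : G, Cfsg.permRep K G Ω g one = one := fun g => rfl
  have hC : ∀ v, v ∈ (Cfsg.permConstants K G Ω).toSubmodule ↔ ∃ t : K, v = t • one := by
    intro v
    show v ∈ Submodule.span K {fun _ => (1 : K)} ↔ _
    rw [Submodule.mem_span_singleton]
    constructor
    · rintro ⟨t, rfl⟩; exact ⟨t, rfl⟩
    · rintro ⟨t, rfl⟩; exact ⟨t, rfl⟩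
  have hCfix : ∀ v ∈ (Cfsg.permConstants K G Ω).toSubmodule, ∀ g : G,
      Cfsg.permRep K G Ω g v = v := by
    intro v hv g
    obtain ⟨t, rfl⟩ := (hC v).mp hv
    rw [map_smul, hone_fix]
  -- G-fixed functions are constant
  have hfixconst : ∀ v : Ω → K, (∀ g : G, Cfsg.permRep K G Ω g v = v) → ∀ x y, v x = v y := by
    intro v hv x y
    obtain ⟨g, hg⟩ := MulAction.exists_smul_eq G y x
    have h1 := congrFun (hv g) x
    rw [permRep_apply] at h1
    have h3 : g⁻¹ • x = y := by
      rw [inv_smul_eq_iff]; exact hg.symm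
    rw [h3] at h1
    exact h1.symm
  -- the orbital kernel
  let m₀ : Ω → Ω → K := fun x y => if ∃ g : G, g • a = x ∧ g • b = y then 1 else 0
  have hm₀ : ∀ (g : G) (x y : Ω), m₀ (g • x) (g • y) = m₀ x y := by
    intro g x y
    have : (∃ g' : G, g' • a = g • x ∧ g' • b = g • y) ↔ (∃ g' : G, g' • a = x ∧ g' • b = y) := by
      constructor
      · rintro ⟨g', h1, h2⟩
        refine ⟨g⁻¹ * g', ?_, ?_⟩
        · rw [mul_smul, h1, inv_smul_smul]
        · rw [mul_smul, h2, inv_smul_smul]
      · rintro ⟨g', h1, h2⟩
        refine ⟨g * g', ?_, ?_⟩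
        · rw [mul_smul, h1]
        · rw [mul_smul, h2]
    show (if _ then (1 : K) else 0) = (if _ then (1 : K) else 0)
    rw [if_congr this rfl rfl]
  let φ := kerMap m₀
  have hφcomm : ∀ (g : G) (v : Ω → K), φ (Cfsg.permRep K G Ω g v) = Cfsg.permRep K G Ω g (φ v) :=
    fun g v => kerMap_comm m₀ hm₀ g v
  let k : K := φ one a
  have hφone : φ one = k • one := by
    have hfix : ∀ g : G, Cfsg.permRep K G Ω g (φ one) = φ one := by
      intro g
      rw [← hφcomm, hone_fix]
    funext x
    rw [hfixconst _ hfix x a]
    simp [one, k]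
  let ψ : (Ω → K) →ₗ[K] (Ω → K) := φ - k • LinearMap.id
  have hψ_apply : ∀ v, ψ v = φ v - k • v := fun v => rfl
  have hψcomm : ∀ (g : G) (v : Ω → K), ψ (Cfsg.permRep K G Ω g v) = Cfsg.permRep K G Ω g (ψ v) := by
    intro g v
    rw [hψ_apply, hψ_apply, hφcomm, map_sub, map_smul]
  have hψone : ψ one = 0 := by
    rw [hψ_apply, hφone, sub_self]
  have hψab : ψ (Pi.single a 1) b = 1 := by
    rw [hψ_apply, Pi.sub_apply, Pi.smul_apply, Pi.single_apply, if_neg hab.symm, smul_zero, sub_zero]
    show kerMap m₀ (Pi.single a 1) b = 1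
    rw [kerMap_single]
    show (if _ then (1 : K) else 0) = 1
    rw [if_pos ⟨1, one_smul _ _, one_smul _ _⟩]
  have hψcd : ψ (Pi.single c 1) d = 0 := by
    rw [hψ_apply, Pi.sub_apply, Pi.smul_apply, Pi.single_apply, if_neg hcd.symm, smul_zero, sub_zero]
    show kerMap m₀ (Pi.single c 1) d = 0
    rw [kerMap_single]
    show (if _ then (1 : K) else 0) = 0
    rw [if_neg]
    rintro ⟨g, h1, h2⟩
    exact hno g h1 h2
  -- the three subrepresentations
  let W : Subrepresentation (Cfsg.permRep K G Ω) :=
    { toSubmodule := LinearMap.ker ψ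
      apply_mem_toSubmodule := by
        intro g v hv
        rw [LinearMap.mem_ker] at hv ⊢
        rw [hψcomm, hv, map_zero] }
  let W' : Subrepresentation (Cfsg.permRep K G Ω) :=
    { toSubmodule := (Cfsg.permConstants K G Ω).toSubmodule.comap ψ
      apply_mem_toSubmodule := by
        intro g v hv
        rw [Submodule.mem_comap] at hv ⊢
        rw [hψcomm]
        exact (Cfsg.permConstants K G Ω).apply_mem_toSubmodule g hv }
  let R : Subrepresentation (Cfsg.permRep K G Ω) :=
    { toSubmodule := LinearMap.range ψ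
      apply_mem_toSubmodule := by
        rintro g _ ⟨v, rfl⟩
        exact ⟨Cfsg.permRep K G Ω g v, hψcomm g v⟩ }
  have hone_ne : one ≠ 0 := by
    intro h0
    have := congrFun h0 a
    simp [one] at this
  have hR : R.toSubmodule ≠ ⊥ := by
    intro hR
    have : ψ (Pi.single a 1) ∈ R.toSubmodule := ⟨_, rfl⟩
    rw [hR, Submodule.mem_bot] at this
    have := congrFun this b
    rw [hψab] at this
    simp at this
  have hCR := Cfsg.Agent.S0670.result (G := G) (K := K) hf hcard R hR
  have hone_C : one ∈ (Cfsg.permConstants K G Ω).toSubmodule := (hC one).mpr ⟨1, (one_smul _ _).symm⟩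
  obtain ⟨v₁, hv₁⟩ : ∃ v₁, ψ v₁ = one := hCR hone_C
  have hCW : (Cfsg.permConstants K G Ω).toSubmodule ≤ W.toSubmodule := by
    intro v hv
    obtain ⟨t, rfl⟩ := (hC v).mp hv
    show t • one ∈ LinearMap.ker ψ
    rw [LinearMap.mem_ker, map_smul, hψone, smul_zero]
  have hWW' : W.toSubmodule < W'.toSubmodule := by
    rw [lt_iff_le_and_ne]
    constructor
    · intro v hv
      have hv' : ψ v = 0 := hv
      show ψ v ∈ (Cfsg.permConstants K G Ω).toSubmodule
      rw [hv']
      exact Submodule.zero_mem _
    · intro heq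
      have h1 : v₁ ∈ W'.toSubmodule := by
        show ψ v₁ ∈ (Cfsg.permConstants K G Ω).toSubmodule
        rw [hv₁]; exact hone_C
      rw [← heq] at h1
      have h2 : ψ v₁ = 0 := h1
      rw [hv₁] at h2
      exact hone_ne h2
  have hW'S : W'.toSubmodule ≤ (Cfsg.permSumZero K G Ω).toSubmodule := by
    by_cases htop : W'.toSubmodule = ⊤
    · exfalso
      have h1 : Pi.single c 1 ∈ W'.toSubmodule := by rw [htop]; trivial
      have h1' : ψ (Pi.single c 1) ∈ (Cfsg.permConstants K G Ω).toSubmodule := h1
      obtain ⟨t, ht⟩ := (hC _).mp h1'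
      have h2 := congrFun ht d
      rw [hψcd] at h2
      have ht0 : t = 0 := by
        simp [one] at h2
        exact h2.symm
      rw [ht0, zero_smul] at ht
      obtain ⟨g, hg⟩ := MulAction.exists_smul_eq G c a
      have h3 : ψ (Pi.single a 1) = 0 := by
        rw [← hg, ← permRep_single (K := K) g c 1, hψcomm, ht, map_zero]
      have := congrFun h3 b
      rw [hψab] at this
      simp at this
    · have hlt : W'.toSubmodule < ⊤ := lt_top_iff_ne_top.mpr htop
      obtain ⟨ℓ, hℓ0, hℓ⟩ := Submodule.exists_le_ker_of_lt_top _ hlt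
      -- the orthogonal complement of W'
      let N : Subrepresentation (Cfsg.permRep K G Ω) :=
        { toSubmodule :=
            { carrier := {u | ∀ n ∈ W'.toSubmodule, ∑ x, u x * n x = 0}
              add_mem' := by
                intro u u' hu hu' n hn
                simp only [Pi.add_apply, add_mul, Finset.sum_add_distrib]
                rw [hu n hn, hu' n hn, add_zero]
              zero_mem' := by
                intro n hn
                simp
              smul_mem' := by
                intro t u hu n hn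
                simp only [Pi.smul_apply, smul_eq_mul, mul_assoc, ← Finset.mul_sum]
                rw [hu n hn, mul_zero] }
          apply_mem_toSubmodule := by
            intro g u hu n hn
            have h1 := hu _ (W'.apply_mem_toSubmodule g⁻¹ hn)
            rw [← h1]
            apply Fintype.sum_equiv (MulAction.toPerm g⁻¹)
            intro x
            simp only [MulAction.toPerm_apply, permRep_apply, inv_inv, smul_inv_smul] }
      let cℓ : Ω → K := fun x => ℓ (Pi.single x 1)
      have hℓ_apply : ∀ n : Ω → K, ℓ n = ∑ x, cℓ x * n x := by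
        intro n
        rw [LinearMap.pi_apply_eq_sum_univ ℓ n]
        apply Finset.sum_congr rfl
        intro x _
        rw [smul_eq_mul, mul_comm]
        congr 2
        funext j
        rw [Pi.single_apply]
        simp [eq_comm]
      have hcℓN : cℓ ∈ N.toSubmodule := by
        intro n hn
        rw [← hℓ_apply]
        exact hℓ hn
      have hcℓ0 : cℓ ≠ 0 := by
        intro h0
        apply hℓ0
        apply LinearMap.ext
        intro n
        rw [hℓ_apply, h0]
        simp
      have hN : N.toSubmodule ≠ ⊥ := by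
        intro hN
        rw [hN, Submodule.mem_bot] at hcℓN
        exact hcℓ0 hcℓN
      have hCN := Cfsg.Agent.S0670.result (G := G) (K := K) hf hcard N hN
      have h1N : one ∈ N.toSubmodule := hCN hone_C
      intro n hn
      have := h1N n hn
      show ∑ x, n x = 0
      simpa [one] using this
  obtain ⟨g, v, hv, hvW⟩ := h W W' hCW hWW' hW'S
  apply hvW
  show ψ (Cfsg.permRep K G Ω g v - v) = 0
  have hv' : ψ v ∈ (Cfsg.permConstants K G Ω).toSubmodule := hv
  rw [map_sub, hψcomm, hCfix _ hv' g, sub_self]

end Cfsg.Agent.S0671
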