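import Mathlib
import Cfsg.Statements.S0672
import Cfsg.Agent.Lib.Helper12.Jordan

set_option autoImplicit false
set_option linter.unusedSectionVars false
open Cfsg

namespace Cfsg.Agent.S0672

open MulAction
open scoped Pointwise

section flags
variable {G : Type*} [Group G] {K : Type*} [Field K] {Ω : Type*} [Fintype Ω] [DecidableEq Ω]
  [MulAction G Ω]

/-- the orbit of the flag `(a, s₀)` -/
def Flag (G : Type*) [Group G] {Ω : Type*} [DecidableEq Ω] [MulAction G Ω] (a : Ω)
    (s₀ : Set.powersetCard Ω 2) (x : Ω) (s : Set.powersetCard Ω 2) : Prop :=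
  ∃ g : G, g • a = x ∧ g • s₀ = s

theorem flag_smul_iff (a : Ω) (s₀ : Set.powersetCard Ω 2) (x : Ω) (s : Set.powersetCard Ω 2)
    (g : G) : Flag G a s₀ (g • x) (g • s) ↔ Flag G a s₀ x s := by
  constructor
  · rintro ⟨h, h1, h2⟩
    refine ⟨g⁻¹ * h, ?_, ?_⟩
    · rw [mul_smul, h1, inv_smul_smul]
    · rw [mul_smul, h2, inv_smul_smul]
  · rintro ⟨h, rfl, rfl⟩
    exact ⟨g * h, mul_smul _ _ _, mul_smul _ _ _⟩

theorem flag_notMem (a : Ω) (s₀ : Set.powersetCard Ω 2) (ha : a ∉ (s₀ : Finset Ω)) (x : Ω)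
    (s : Set.powersetCard Ω 2) (h : Flag G a s₀ x s) : x ∉ (s : Finset Ω) := by
  obtain ⟨g, rfl, rfl⟩ := h
  rw [Set.powersetCard.coe_smul, Finset.smul_mem_smul_finset_iff]
  exact ha

/-- the weighted incidence map -/
def wMap (w : Ω → Set.powersetCard Ω 2 → K) : (Ω → K) →ₗ[K] (Set.powersetCard Ω 2 → K) where
  toFun φ s := ∑ x, w x s * φ x
  map_add' φ ψ := by
    funext s
    simp only [Pi.add_apply, mul_add, Finset.sum_add_distrib]
  map_smul' c φ := by
    funext s
    simp only [Pi.smul_apply, smul_eq_mul, RingHom.id_apply, Finset.mul_sum]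
    apply Finset.sum_congr rfl
    intro x _
    ring

theorem wMap_apply (w : Ω → Set.powersetCard Ω 2 → K) (φ : Ω → K) (s : Set.powersetCard Ω 2) :
    wMap w φ s = ∑ x, w x s * φ x := rfl

theorem wMap_intertwining (w : Ω → Set.powersetCard Ω 2 → K)
    (hw : ∀ (g : G) x s, w (g • x) (g • s) = w x s) (g : G) (φ : Ω → K) :
    wMap w (permRep K G Ω g φ) = permRep K G (Set.powersetCard Ω 2) g (wMap w φ) := by
  funext s
  change ∑ x, w x s * φ (g⁻¹ • x) = ∑ x, w x (g⁻¹ • s) * φ x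
  apply Fintype.sum_equiv (MulAction.toPerm g⁻¹)
  intro x
  rw [MulAction.toPerm_apply, ← hw g⁻¹ x s]

open Classical in
/-- number of points in flag relation with a pair -/
noncomputable def cnt (G : Type*) [Group G] (K : Type*) [Field K] {Ω : Type*} [Fintype Ω]
    [DecidableEq Ω] [MulAction G Ω] (a : Ω) (s₀ : Set.powersetCard Ω 2)
    (s : Set.powersetCard Ω 2) : K :=
  ∑ x, if Flag G a s₀ x s then (1 : K) else 0

theorem cnt_smul (a : Ω) (s₀ s : Set.powersetCard Ω 2) (g : G) :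
    cnt G K a s₀ (g • s) = cnt G K a s₀ s := by
  classical
  unfold cnt
  symm
  apply Fintype.sum_equiv (MulAction.toPerm g)
  intro x
  rw [MulAction.toPerm_apply]
  simp only [flag_smul_iff]

theorem cnt_const [IsPretransitive G (Set.powersetCard Ω 2)] (a : Ω)
    (s₀ s s' : Set.powersetCard Ω 2) : cnt G K a s₀ s = cnt G K a s₀ s' := by
  obtain ⟨g, rfl⟩ := MulAction.exists_smul_eq G s s'
  rw [cnt_smul]

end flags

section main
variable {G : Type*} [Group G] {K : Type*} [Field K] {Ω : Type*} [Fintype Ω] [DecidableEq Ω]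
  [MulAction G Ω]

/-- two distinct flag orbits give a non-zero map -/
theorem key [IsPretransitive G (Set.powersetCard Ω 2)]
    (h : ∀ f : Representation.IntertwiningMap (Cfsg.permSumZero K G Ω).toRepresentation (Cfsg.permRep K G (Set.powersetCard Ω 2)), (∀ v : (Cfsg.permSumZero K G Ω).toSubmodule, (v : Ω → K) ∈ (Cfsg.permConstants K G Ω).toSubmodule → f v = 0) → f = 0)
    (a₁ a₂ : Ω) (s₁ s₂ : Set.powersetCard Ω 2) (h1 : a₁ ∉ (s₁ : Finset Ω))
    (h2 : a₂ ∉ (s₂ : Finset Ω)) (hne : ¬ Flag G a₂ s₂ a₁ s₁)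
    (α β : K) (hα : α ≠ 0) (hαβ : α * cnt G K a₁ s₁ s₁ + β * cnt G K a₂ s₂ s₁ = 0) : False := by
  classical
  let w : Ω → Set.powersetCard Ω 2 → K := fun x s =>
    α * (if Flag G a₁ s₁ x s then 1 else 0) + β * (if Flag G a₂ s₂ x s then 1 else 0)
  have hw : ∀ (g : G) x s, w (g • x) (g • s) = w x s := by
    intro g x s
    simp only [w, flag_smul_iff]
  have hsum : ∀ s, ∑ x, w x s = 0 := by
    intro s
    simp only [w, Finset.sum_add_distrib, ← Finset.mul_sum]
    have e1 : ∑ x, (if Flag G a₁ s₁ x s then (1 : K) else 0) = cnt G K a₁ s₁ s₁ :=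
      cnt_const a₁ s₁ s s₁
    have e2 : ∑ x, (if Flag G a₂ s₂ x s then (1 : K) else 0) = cnt G K a₂ s₂ s₁ :=
      cnt_const a₂ s₂ s s₁
    rw [e1, e2]
    exact hαβ
  let f : Representation.IntertwiningMap (Cfsg.permSumZero K G Ω).toRepresentation
      (Cfsg.permRep K G (Set.powersetCard Ω 2)) :=
    ((wMap w).comp (Cfsg.permSumZero K G Ω).toSubmodule.subtype).intertwiningMap_of_isIntertwiningMap
      _ _ (fun g v => wMap_intertwining w hw g v.1)
  have hf0 : f = 0 := by
    apply h f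
    intro v hv
    have hv' : (v : Ω → K) ∈ Submodule.span K {fun _ : Ω => (1 : K)} := hv
    rw [Submodule.mem_span_singleton] at hv'
    obtain ⟨c, hc⟩ := hv'
    change wMap w v.1 = 0
    rw [← hc]
    funext s
    rw [wMap_apply]
    simp only [Pi.smul_apply, smul_eq_mul, mul_one, Pi.zero_apply]
    rw [← Finset.sum_mul, hsum, zero_mul]
  -- a test vector
  obtain ⟨y, hy⟩ : ∃ y, y ∈ (s₁ : Finset Ω) := by
    apply Finset.card_pos.mp
    rw [s₁.2]
    norm_num
  have hya : a₁ ≠ y := fun h => h1 (h ▸ hy)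
  let φ : Ω → K := Pi.single a₁ 1 - Pi.single y 1
  have hφ : φ ∈ (Cfsg.permSumZero K G Ω).toSubmodule := by
    change ∑ x, φ x = 0
    simp [φ]
  have hval : f ⟨φ, hφ⟩ s₁ = α := by
    change wMap w φ s₁ = α
    rw [wMap_apply]
    simp only [φ, Pi.sub_apply, mul_sub, Finset.sum_sub_distrib, Pi.single_apply, mul_ite, mul_one,
      mul_zero, Finset.sum_ite_eq', Finset.mem_univ, if_true]
    simp only [w]
    have e1 : Flag G a₁ s₁ a₁ s₁ := ⟨1, one_smul _ _, one_smul _ _⟩
    have e2 : ¬ Flag G a₁ s₁ y s₁ := fun h => flag_notMem a₁ s₁ h1 y s₁ h hy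
    have e3 : ¬ Flag G a₂ s₂ y s₁ := fun h => flag_notMem a₂ s₂ h2 y s₁ h hy
    rw [if_pos e1, if_neg hne, if_neg e2, if_neg e3]
    ring
  rw [hf0] at hval
  exact hα hval.symm

end main

section trans
variable {G : Type*} [Group G] {Ω : Type*} [Fintype Ω] [DecidableEq Ω] [MulAction G Ω]

theorem pair_cases {u v y z : Ω} (huv : u ≠ v) (h : ({u, v} : Finset Ω) = {y, z}) :
    (u = y ∧ v = z) ∨ (u = z ∧ v = y) := by
  have hu : u ∈ ({y, z} : Finset Ω) := by rw [← h]; simp
  have hv : v ∈ ({y, z} : Finset Ω) := by rw [← h]; simp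
  simp only [Finset.mem_insert, Finset.mem_singleton] at hu hv
  rcases hu with hu | hu <;> rcases hv with hv | hv
  · exact absurd (hu.trans hv.symm) huv
  · exact Or.inl ⟨hu, hv⟩
  · exact Or.inr ⟨hu, hv⟩
  · exact absurd (hu.trans hv.symm) huv

/-- the pair `{y, z}` -/
def mkPair (y z : Ω) (hyz : y ≠ z) : Set.powersetCard Ω 2 := ⟨{y, z}, Finset.card_pair hyz⟩

theorem smul_mkPair (g : G) (y z : Ω) (hyz : y ≠ z) :
    ((g • mkPair y z hyz : Set.powersetCard Ω 2) : Finset Ω) = {g • y, g • z} := by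
  rw [Set.powersetCard.coe_smul]
  change g • ({y, z} : Finset Ω) = _
  rw [Finset.smul_finset_insert, Finset.smul_finset_singleton]

theorem flag_pair {x y z x' y' z' : Ω} (hyz : y ≠ z) (hyz' : y' ≠ z')
    (h : Flag G x (mkPair y z hyz) x' (mkPair y' z' hyz')) :
    ∃ g : G, g • x = x' ∧ ((g • y = y' ∧ g • z = z') ∨ (g • y = z' ∧ g • z = y')) := by
  obtain ⟨g, h1, h2⟩ := h
  refine ⟨g, h1, ?_⟩
  have h3 := congrArg Subtype.val h2
  have h4 : ((g • mkPair y z hyz : Set.powersetCard Ω 2) : Finset Ω) = {y', z'} := h3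
  rw [smul_mkPair] at h4
  exact pair_cases (fun h => hyz (smul_left_cancel g h)) h4

theorem three_of_flag [Finite G] [FaithfulSMul G Ω]
    (heven : ∀ a : Ω, Even (Nat.card (MulAction.stabilizer G a)))
    (hflag : ∀ (a₁ a₂ : Ω) (s₁ s₂ : Set.powersetCard Ω 2), a₁ ∉ (s₁ : Finset Ω) →
      a₂ ∉ (s₂ : Finset Ω) → Flag G a₂ s₂ a₁ s₁) :
    IsMultiplyPretransitive G Ω 3 := by
  have hswap : ∀ x y z : Ω, x ≠ y → x ≠ z → y ≠ z →
      ∃ h : G, h • x = x ∧ h • y = z ∧ h • z = y := by
    intro x y z hxy hxz hyz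
    have : Fact (Nat.Prime 2) := ⟨Nat.prime_two⟩
    obtain ⟨t, ht⟩ := exists_prime_orderOf_dvd_card' 2 (heven x).two_dvd
    have ht1 : t ≠ 1 := by
      intro h
      rw [h, orderOf_one] at ht
      omega
    have ht2 : t.1 * t.1 = 1 := by
      have := pow_orderOf_eq_one t
      rw [ht, sq] at this
      exact congrArg Subtype.val this
    have htx : t.1 • x = x := t.2
    obtain ⟨u, hu⟩ : ∃ u : Ω, t.1 • u ≠ u := by
      by_contra hcon
      push Not at hcon
      apply ht1
      apply Subtype.ext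
      apply FaithfulSMul.eq_of_smul_eq_smul (α := Ω)
      intro u
      rw [hcon u]
      exact (one_smul G u).symm
    have hv2 : t.1 • (t.1 • u) = u := by rw [← mul_smul, ht2, one_smul]
    have hux : x ≠ u := by
      rintro rfl
      exact hu htx
    have hvx : x ≠ t.1 • u := by
      intro h
      apply hux
      have this : t.1 • x = t.1 • (t.1 • u) := congrArg (fun w => t.1 • w) h
      rw [htx, hv2] at this
      exact this
    have hnm : x ∉ ((mkPair u (t.1 • u) (Ne.symm hu) : Set.powersetCard Ω 2) : Finset Ω) := by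
      change x ∉ ({u, t.1 • u} : Finset Ω)
      simp [hux, hvx]
    have hnm' : x ∉ ((mkPair y z hyz : Set.powersetCard Ω 2) : Finset Ω) := by
      change x ∉ ({y, z} : Finset Ω)
      simp [hxy, hxz]
    obtain ⟨g, hgx, hg⟩ := flag_pair (Ne.symm hu) hyz (hflag x x _ _ hnm' hnm)
    have hginv : g⁻¹ • x = x := by rw [inv_smul_eq_iff, hgx]
    refine ⟨g * t.1 * g⁻¹, ?_, ?_, ?_⟩
    · rw [mul_smul, mul_smul, hginv, htx, hgx]
    · rcases hg with ⟨h1, h2⟩ | ⟨h1, h2⟩
      · rw [← h1, mul_smul, mul_smul, inv_smul_smul, h2]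
      · rw [← h2, mul_smul, mul_smul, inv_smul_smul, hv2, h1]
    · rcases hg with ⟨h1, h2⟩ | ⟨h1, h2⟩
      · rw [← h2, mul_smul, mul_smul, inv_smul_smul, hv2, h1]
      · rw [← h1, mul_smul, mul_smul, inv_smul_smul, h2]
  have htriple : ∀ x y z x' y' z' : Ω, x ≠ y → x ≠ z → y ≠ z → x' ≠ y' → x' ≠ z' → y' ≠ z' →
      ∃ g : G, g • x = x' ∧ g • y = y' ∧ g • z = z' := by
    intro x y z x' y' z' hxy hxz hyz hxy' hxz' hyz'
    have hnm : x ∉ ((mkPair y z hyz : Set.powersetCard Ω 2) : Finset Ω) := by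
      change x ∉ ({y, z} : Finset Ω)
      simp [hxy, hxz]
    have hnm' : x' ∉ ((mkPair y' z' hyz' : Set.powersetCard Ω 2) : Finset Ω) := by
      change x' ∉ ({y', z'} : Finset Ω)
      simp [hxy', hxz']
    obtain ⟨g, hgx, hg⟩ := flag_pair hyz hyz' (hflag x' x _ _ hnm' hnm)
    rcases hg with ⟨h1, h2⟩ | ⟨h1, h2⟩
    · exact ⟨g, hgx, h1, h2⟩
    · obtain ⟨h, hx, hy, hz⟩ := hswap x' y' z' hxy' hxz' hyz'
      refine ⟨h * g, ?_, ?_, ?_⟩
      · rw [mul_smul, hgx, hx]
      · rw [mul_smul, h1, hz]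
      · rw [mul_smul, h2, hy]
  constructor
  intro e e'
  obtain ⟨g, h0, h1, h2⟩ := htriple (e 0) (e 1) (e 2) (e' 0) (e' 1) (e' 2)
    (fun h => by simpa using e.injective h) (fun h => by simpa using e.injective h)
    (fun h => by simpa using e.injective h) (fun h => by simpa using e'.injective h)
    (fun h => by simpa using e'.injective h) (fun h => by simpa using e'.injective h)
  refine ⟨g, ?_⟩
  ext i
  fin_cases i
  · exact h0
  · exact h1
  · exact h2

end trans

/-- Let a finite group act faithfully and doubly transitively with point stabilisers of even order, and let `K` have characteristic `p` dividing the degree. If the heart of the permutation module admits no non-zero equivariant map to the permutation module on unordered pairs (phrased: every intertwining map from the sum-zero functions vanishing on the constants is zero), the action is triply transitive. -/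
theorem result {G : Type*} [Group G] [Finite G] {K : Type*} [Field K] {p : ℕ} [Fact p.Prime] [CharP K p] {Ω : Type*} [Fintype Ω] [DecidableEq Ω] [MulAction G Ω] [FaithfulSMul G Ω] (h2 : MulAction.IsMultiplyPretransitive G Ω 2) (hp : p ∣ Fintype.card Ω) (heven : ∀ a : Ω, Even (Nat.card (MulAction.stabilizer G a))) (h : ∀ f : Representation.IntertwiningMap (Cfsg.permSumZero K G Ω).toRepresentation (Cfsg.permRep K G (Set.powersetCard Ω 2)), (∀ v : (Cfsg.permSumZero K G Ω).toSubmodule, (v : Ω → K) ∈ (Cfsg.permConstants K G Ω).toSubmodule → f v = 0) → f = 0) : MulAction.IsMultiplyPretransitive G Ω 3 := by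
  have htr : IsPretransitive G (Set.powersetCard Ω 2) :=
    Set.powersetCard.isPretransitive_of_isMultiplyPretransitive G h2
  apply three_of_flag heven
  intro a₁ a₂ s₁ s₂ h1 h2'
  by_contra hne
  by_cases hk : cnt G K a₂ s₂ s₁ = 0
  · -- use the second flag alone
    have hne' : ¬ Flag G a₁ s₁ a₂ s₂ := by
      rintro ⟨g, hg1, hg2⟩
      apply hne
      refine ⟨g⁻¹, ?_, ?_⟩
      · rw [← hg1, inv_smul_smul]
      · rw [← hg2, inv_smul_smul]
    have hk' : cnt G K a₂ s₂ s₂ = 0 := by rw [cnt_const a₂ s₂ s₂ s₁, hk]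
    exact key h a₂ a₁ s₂ s₁ h2' h1 hne' 1 0 one_ne_zero (by rw [hk']; ring)
  · exact key h a₁ a₂ s₁ s₂ h1 h2' hne (cnt G K a₂ s₂ s₁) (-(cnt G K a₁ s₁ s₁)) hk (by ring)

end Cfsg.Agent.S0672
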