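import Mathlib
import Cfsg.Statements.S0674
import Cfsg.Agent.Lib.Helper12.BurnsidePrime

set_option autoImplicit false
open Cfsg

namespace Cfsg.Agent.S0674

open Cfsg.Agent.Helper12.BurnsidePrime Module

theorem invSub_of_subrep {α : Type*} [Fintype α] [DecidableEq α]
    (G : Subgroup (Equiv.Perm α)) {K : Type*} [Field K]
    (W : Subrepresentation (Cfsg.permRep K G α)) : InvSub G W.toSubmodule := by
  intro g hg f hf
  have h := W.apply_mem_toSubmodule (⟨g, hg⟩⁻¹ : G) hf
  have e : (Cfsg.permRep K G α) (⟨g, hg⟩⁻¹ : G) f = fun x => f (g x) := by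
    funext x
    change f (((⟨g, hg⟩⁻¹ : G)⁻¹) • x) = f (g x)
    rw [inv_inv]
    rfl
  rwa [e] at h

/-- Let `G` be a non-solvable transitive permutation group of prime degree `p` and `K` a field of characteristic `p`. Then the heart of the permutation module is irreducible: an invariant subspace containing the constants and contained in the sum-zero functions is one or the other. -/
theorem result {α : Type*} [Fintype α] [DecidableEq α] {p : ℕ} [Fact p.Prime] (hα : Fintype.card α = p) (G : Subgroup (Equiv.Perm α)) [MulAction.IsPretransitive G α] (hG : ¬ Group.IsSolvable G) {K : Type*} [Field K] [CharP K p] (W : Subrepresentation (Cfsg.permRep K G α)) (h₁ : (Cfsg.permConstants K G α).toSubmodule ≤ W.toSubmodule) (h₂ : W.toSubmodule ≤ (Cfsg.permSumZero K G α).toSubmodule) : W = Cfsg.permConstants K G α ∨ W = Cfsg.permSumZero K G α := by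
  have hp : p.Prime := Fact.out
  have hne : Nonempty α := by
    rw [← Fintype.card_pos_iff, hα]
    exact hp.pos
  have hS : (Cfsg.permSumZero K G α).toSubmodule = sumZeroSub K α := by
    ext f
    rw [mem_sumZeroSub]
    rfl
  have hSr : finrank K (Cfsg.permSumZero K G α).toSubmodule = p - 1 := by
    rw [hS, finrank_sumZeroSub, hα]
  have hCr : finrank K (Cfsg.permConstants K G α).toSubmodule = 1 := by
    change finrank K (Submodule.span K {fun _ : α => (1 : K)}) = 1
    apply finrank_span_singleton
    intro h
    obtain ⟨x⟩ := hne
    have := congrFun h x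
    simp at this
  have hle1 := Submodule.finrank_mono h₁
  have hle2 := Submodule.finrank_mono h₂
  rw [hCr] at hle1
  rw [hSr] at hle2
  have h2 := hp.two_le
  rcases dims hα G hG _ (invSub_of_subrep G W) with h | h | h | h
  · omega
  · left
    apply Subrepresentation.toSubmodule_injective
    exact (Submodule.eq_of_le_of_finrank_eq h₁ (by rw [hCr, h])).symm
  · right
    apply Subrepresentation.toSubmodule_injective
    exact Submodule.eq_of_le_of_finrank_eq h₂ (by rw [hSr, h])
  · omega

end Cfsg.Agent.S0674
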