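import Mathlib
import Cfsg.Statements.S0676
import Cfsg.Agent.S0672
import Cfsg.Agent.S0674
import Cfsg.Agent.S0675
import Cfsg.Agent.Lib.Helper12.PrimeDegree

set_option autoImplicit false
set_option linter.unusedSectionVars false
open Cfsg

namespace Cfsg.Agent.S0676

open Cfsg.Agent.Helper12.PrimeDegree Cfsg.Agent.Helper12.BurnsidePrime MulAction
open scoped Pointwise

section aux
variable {p : ℕ} [hp : Fact p.Prime] {α : Type*} [Fintype α] [DecidableEq α]

theorem sum_zmod_id (hp2 : p ≠ 2) : ∑ k : ZMod p, k = 0 := by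
  have h1 : ∑ k : ZMod p, k = ∑ k : ZMod p, -k :=
    (Fintype.sum_equiv (Equiv.neg (ZMod p)) _ _ (fun k => rfl)).symm
  rw [Finset.sum_neg_distrib] at h1
  have h2 : (2 : ZMod p) * ∑ k : ZMod p, k = 0 := by linear_combination h1
  have h2ne : (2 : ZMod p) ≠ 0 := by
    intro h
    have h3 : ((2 : ℕ) : ZMod p) = 0 := by exact_mod_cast h
    rw [ZMod.natCast_eq_zero_iff] at h3
    exact hp2 ((Nat.prime_dvd_prime_iff_eq hp.out Nat.prime_two).mp h3)
  rcases mul_eq_zero.mp h2 with h | h
  · exact absurd h h2ne
  · exact h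

theorem two_ne_zero' (hp2 : p ≠ 2) : (2 : ZMod p) ≠ 0 := by
  intro h
  have h3 : ((2 : ℕ) : ZMod p) = 0 := by exact_mod_cast h
  rw [ZMod.natCast_eq_zero_iff] at h3
  exact hp2 ((Nat.prime_dvd_prime_iff_eq hp.out Nat.prime_two).mp h3)

/-- the key contradiction: no non-zero map from the heart to the pairs module -/
theorem heart_hom_zero (hα : Fintype.card α = p) (hp2 : p ≠ 2) (G : Subgroup (Equiv.Perm α))
    [MulAction.IsPretransitive G α] (hG : ¬ Group.IsSolvable G)
    (e : ZMod p ≃ α) (τ t : G) (b : ZMod p) (hτ : ∀ k, τ.1 (e k) = e (k + 1))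
    (ht : ∀ k, t.1 (e k) = e (b - k))
    (f : Representation.IntertwiningMap (Cfsg.permSumZero (ZMod p) G α).toRepresentation
      (Cfsg.permRep (ZMod p) G (Set.powersetCard α 2)))
    (hf : ∀ v : (Cfsg.permSumZero (ZMod p) G α).toSubmodule,
      (v : α → ZMod p) ∈ (Cfsg.permConstants (ZMod p) G α).toSubmodule → f v = 0) : f = 0 := by
  classical
  have hτinv : ∀ k, τ.1⁻¹ (e k) = e (k - 1) := by
    intro k
    rw [Equiv.Perm.inv_eq_iff_eq, hτ, sub_add_cancel]
  have htinv : ∀ k, t.1⁻¹ (e k) = e (b - k) := by
    intro k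
    rw [Equiv.Perm.inv_eq_iff_eq, ht, sub_sub_cancel]
  have hconstS : ∀ c : ZMod p, (fun _ : α => c) ∈ (Cfsg.permSumZero (ZMod p) G α).toSubmodule := by
    intro c
    change ∑ _x : α, c = 0
    rw [Finset.sum_const, Finset.card_univ, hα, nsmul_eq_mul]
    simp
  have hone : f ⟨fun _ => 1, hconstS 1⟩ = 0 := by
    apply hf
    exact Submodule.mem_span_singleton_self _
  by_contra hf0
  let W' : Subrepresentation (Cfsg.permRep (ZMod p) G α) :=
    { toSubmodule := (LinearMap.ker f.toLinearMap).map
        (Cfsg.permSumZero (ZMod p) G α).toSubmodule.subtype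
      apply_mem_toSubmodule := by
        rintro g _ ⟨v, hv, rfl⟩
        refine ⟨(Cfsg.permSumZero (ZMod p) G α).toRepresentation g v, ?_, rfl⟩
        rw [SetLike.mem_coe, LinearMap.mem_ker] at hv ⊢
        rw [Representation.IntertwiningMap.toLinearMap_apply] at hv ⊢
        rw [f.isIntertwining, hv, map_zero] }
  have h₁ : (Cfsg.permConstants (ZMod p) G α).toSubmodule ≤ W'.toSubmodule := by
    intro v hv
    have hv' : v ∈ Submodule.span (ZMod p) {fun _ : α => (1 : ZMod p)} := hv
    rw [Submodule.mem_span_singleton] at hv'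
    obtain ⟨c, rfl⟩ := hv'
    have hmem : (c • fun _ : α => (1 : ZMod p)) ∈
        (Cfsg.permSumZero (ZMod p) G α).toSubmodule := by
      have : (c • fun _ : α => (1 : ZMod p)) = fun _ => c := by
        funext x
        simp
      rw [this]
      exact hconstS c
    refine ⟨⟨_, hmem⟩, ?_, rfl⟩
    rw [SetLike.mem_coe, LinearMap.mem_ker, Representation.IntertwiningMap.toLinearMap_apply]
    exact hf _ hv
  have h₂ : W'.toSubmodule ≤ (Cfsg.permSumZero (ZMod p) G α).toSubmodule := by
    rintro _ ⟨v, _, rfl⟩
    exact v.2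
  rcases Cfsg.Agent.S0674.result hα G hG W' h₁ h₂ with hW | hW
  · -- kernel is the constants
    let x : α → ZMod p := fun y => e.symm y
    have hxS : x ∈ (Cfsg.permSumZero (ZMod p) G α).toSubmodule := by
      change ∑ y : α, e.symm y = 0
      rw [Fintype.sum_equiv e.symm (fun y => e.symm y) (fun k => k) (fun y => rfl)]
      exact sum_zmod_id hp2
    let X : (Cfsg.permSumZero (ZMod p) G α).toSubmodule := ⟨x, hxS⟩
    let One1 : (Cfsg.permSumZero (ZMod p) G α).toSubmodule := ⟨fun _ => 1, hconstS 1⟩
    have hone' : f One1 = 0 := hone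
    have hxf : f X ≠ 0 := by
      intro h0
      have hxW : x ∈ W'.toSubmodule := by
        refine ⟨X, ?_, rfl⟩
        rw [SetLike.mem_coe, LinearMap.mem_ker, Representation.IntertwiningMap.toLinearMap_apply]
        exact h0
      rw [hW] at hxW
      have hxc : x ∈ Submodule.span (ZMod p) {fun _ : α => (1 : ZMod p)} := hxW
      rw [Submodule.mem_span_singleton] at hxc
      obtain ⟨c, hc⟩ := hxc
      have e0 := congrFun hc (e 0)
      have e1 := congrFun hc (e 1)
      simp only [x, Pi.smul_apply, smul_eq_mul, mul_one, Equiv.symm_apply_apply] at e0 e1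
      rw [e0] at e1
      exact zero_ne_one e1
    obtain ⟨s, hs⟩ := Function.ne_iff.mp hxf
    -- invariance under τ
    have hF1 : ∀ s', f X (τ⁻¹ • s') = f X s' := by
      intro s'
      have h1 := Representation.IntertwiningMap.isIntertwining _ _ f τ X
      have h2 : (Cfsg.permSumZero (ZMod p) G α).toRepresentation τ X = X - One1 := by
        apply Subtype.ext
        funext y
        obtain ⟨k, rfl⟩ := e.surjective y
        change x (τ⁻¹ • e k) = x (e k) - 1
        change e.symm (τ.1⁻¹ (e k)) = e.symm (e k) - 1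
        rw [hτinv, Equiv.symm_apply_apply, Equiv.symm_apply_apply]
      rw [h2, map_sub, hone', sub_zero] at h1
      have h3 := congrFun h1 s'
      exact h3.symm
    have hF2 : ∀ s', f X (t⁻¹ • s') = - f X s' := by
      intro s'
      have h1 := Representation.IntertwiningMap.isIntertwining _ _ f t X
      have h2 : (Cfsg.permSumZero (ZMod p) G α).toRepresentation t X = b • One1 - X := by
        apply Subtype.ext
        funext y
        obtain ⟨k, rfl⟩ := e.surjective y
        change x (t⁻¹ • e k) = b • (1 : ZMod p) - x (e k)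
        change e.symm (t.1⁻¹ (e k)) = b • (1 : ZMod p) - e.symm (e k)
        rw [htinv, Equiv.symm_apply_apply, Equiv.symm_apply_apply]
        simp
      rw [h2, map_sub, map_smul, hone', smul_zero, zero_sub] at h1
      have h3 := congrFun h1 s'
      exact h3.symm
    -- coordinates of the pair
    obtain ⟨u, v, huv, hsuv⟩ := Finset.card_eq_two.mp s.2
    set i := e.symm u with hi
    set d := e.symm v - e.symm u with hd
    have hd0 : d ≠ 0 := by
      intro h
      apply huv
      apply e.symm.injective
      exact (sub_eq_zero.mp h).symm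
    have hne : ∀ k : ZMod p, e k ≠ e (k + d) := by
      intro k h
      apply hd0
      have := e.injective h
      linear_combination -this
    let pr : ZMod p → Set.powersetCard α 2 := fun k =>
      Cfsg.Agent.S0672.mkPair (e k) (e (k + d)) (hne k)
    have hpri : pr i = s := by
      apply Subtype.ext
      change ({e i, e (i + d)} : Finset α) = s.1
      rw [hsuv, hi, hd]
      simp
    have hpr1 : ∀ k, τ⁻¹ • pr k = pr (k - 1) := by
      intro k
      apply Subtype.ext
      refine (Cfsg.Agent.S0672.smul_mkPair τ⁻¹ (e k) (e (k + d)) (hne k)).trans ?_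
      change ({τ.1⁻¹ (e k), τ.1⁻¹ (e (k + d))} : Finset α) = {e (k - 1), e (k - 1 + d)}
      rw [hτinv, hτinv, show k + d - 1 = k - 1 + d by ring]
    have hpr2 : ∀ k, t⁻¹ • pr k = pr (b - k - d) := by
      intro k
      apply Subtype.ext
      refine (Cfsg.Agent.S0672.smul_mkPair t⁻¹ (e k) (e (k + d)) (hne k)).trans ?_
      change ({t.1⁻¹ (e k), t.1⁻¹ (e (k + d))} : Finset α) = {e (b - k - d), e (b - k - d + d)}
      rw [htinv, htinv, Finset.pair_comm, show b - (k + d) = b - k - d by ring,
        show b - k - d + d = b - k by ring]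
    let ψ : ZMod p → ZMod p := fun k => f X (pr k)
    have hψ1 : ∀ k, ψ (k - 1) = ψ k := by
      intro k
      change f X (pr (k - 1)) = f X (pr k)
      rw [← hpr1, hF1]
    have hψ2 : ∀ k, ψ (b - k - d) = - ψ k := by
      intro k
      change f X (pr (b - k - d)) = - f X (pr k)
      rw [← hpr2, hF2]
    have hψnat : ∀ n : ℕ, ψ (n : ZMod p) = ψ 0 := by
      intro n
      induction n with
      | zero => simp
      | succ n ih =>
        rw [← ih, ← hψ1 ((n + 1 : ℕ) : ZMod p)]
        congr 1
        push_cast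
        ring
    have hψc : ∀ k, ψ k = ψ 0 := by
      intro k
      have := hψnat k.val
      rwa [ZMod.natCast_zmod_val] at this
    have h3 := hψ2 i
    rw [hψc (b - i - d), hψc i] at h3
    have h4 : (2 : ZMod p) * ψ 0 = 0 := by linear_combination h3
    have h5 : ψ 0 = 0 := by
      rcases mul_eq_zero.mp h4 with h | h
      · exact absurd h (two_ne_zero' hp2)
      · exact h
    apply hs
    rw [← hpri]
    change ψ i = _
    rw [hψc i, h5]
    rfl
  · -- kernel is everything
    apply hf0
    apply Representation.IntertwiningMap.ext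
    apply LinearMap.ext
    intro v
    have hv : (v : α → ZMod p) ∈ W'.toSubmodule := by
      rw [hW]
      exact v.2
    obtain ⟨u, hu, huv⟩ := hv
    have : u = v := Subtype.ext huv
    rw [← this]
    exact hu

theorem even_stabilizer (hα : Fintype.card α = p) (hp2 : p ≠ 2) (G : Subgroup (Equiv.Perm α))
    [MulAction.IsPretransitive G α] (e : ZMod p ≃ α) (t : G) (b : ZMod p)
    (ht : ∀ k, t.1 (e k) = e (b - k)) (a : α) : Even (Nat.card (stabilizer G a)) := by
  have h2ne := two_ne_zero' (p := p) hp2
  have hcard : ∀ a' : α, Nat.card (stabilizer G a') * p = Nat.card G := by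
    intro a'
    have h1 := MulAction.index_stabilizer_of_transitive G a'
    rw [Nat.card_eq_fintype_card, hα] at h1
    rw [← h1]
    exact Subgroup.card_mul_index _
  let a₀ := e (b * 2⁻¹)
  have hta : t ∈ stabilizer G a₀ := by
    rw [mem_stabilizer_iff]
    change t.1 (e (b * 2⁻¹)) = e (b * 2⁻¹)
    rw [ht]
    congr 1
    field_simp
    ring
  have ht2 : t * t = 1 := by
    apply Subtype.ext
    ext y
    obtain ⟨k, rfl⟩ := e.surjective y
    change t.1 (t.1 (e k)) = e k
    rw [ht, ht, sub_sub_cancel]
  have ht1 : t ≠ 1 := by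
    intro h
    have e0 := ht 0
    have e1 := ht 1
    rw [h] at e0 e1
    have h0 : (0 : ZMod p) = b - 0 := e.injective e0
    have h1 : (1 : ZMod p) = b - 1 := e.injective e1
    apply h2ne
    linear_combination (-1 : ZMod p) * h0 + h1
  have ho : orderOf (⟨t, hta⟩ : stabilizer G a₀) = 2 := by
    apply orderOf_eq_prime
    · rw [sq]
      exact Subtype.ext ht2
    · intro h
      exact ht1 (congrArg Subtype.val h)
  have hdvd : 2 ∣ Nat.card (stabilizer G a₀) := by
    rw [← ho]
    exact orderOf_dvd_natCard _
  have hpos : 0 < p := hp.out.pos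
  have heq : Nat.card (stabilizer G a) = Nat.card (stabilizer G a₀) := by
    have h1 := hcard a
    have h2 := hcard a₀
    exact Nat.eq_of_mul_eq_mul_right hpos (h1.trans h2.symm)
  rw [heq]
  exact even_iff_two_dvd.mpr hdvd

end aux

/-- A non-solvable transitive permutation group of prime degree `p` whose Sylow `p`-normaliser has even order is triply transitive. -/
theorem result {α : Type*} [Fintype α] [DecidableEq α] {p : ℕ} [Fact p.Prime] (hα : Fintype.card α = p) (G : Subgroup (Equiv.Perm α)) [MulAction.IsPretransitive G α] (hG : ¬ Group.IsSolvable G) (P : Sylow p G) (heven : Even (Nat.card (Subgroup.normalizer ((P : Subgroup G) : Set G)))) : MulAction.IsMultiplyPretransitive G α 3 := by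
  have hp4 : 4 ≤ p := by
    by_contra h
    exact hG (small hα G (by omega))
  have hp2 : p ≠ 2 := by omega
  have h2 : IsMultiplyPretransitive G α 2 := by
    rcases Cfsg.Agent.S0675.result (by rw [hα]; exact Fact.out) G with h | h
    · exact absurd h hG
    · exact h
  obtain ⟨e, τ, t, b, hτ, ht⟩ := exists_reflection hα hp2 G P heven
  exact Cfsg.Agent.S0672.result (K := ZMod p) (p := p) h2 (by rw [hα])
    (even_stabilizer hα hp2 G e t b ht)
    (fun f hf => heart_hom_zero hα hp2 G hG e τ t b hτ ht f hf)

end Cfsg.Agent.S0676
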