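import Mathlib
import Cfsg.Statements.S0677
import Cfsg.Agent.S0676
import Cfsg.Agent.Lib.Helper12.Galois
import Cfsg.Agent.Lib.Helper12.Fisher

set_option autoImplicit false
set_option linter.unusedSectionVars false
open Cfsg

namespace Cfsg.Agent.S0677

open Cfsg.Agent.Helper12.PrimeDegree Cfsg.Agent.Helper12.BurnsidePrime MulAction
open Cfsg.Agent.Helper12
open scoped Pointwise

theorem smul_compl {G : Type*} [Group G] {α : Type*} [Fintype α] [DecidableEq α] [MulAction G α]
    (g : G) (Δ : Finset α) (h : g • Δ = Δ) : g • Δᶜ = Δᶜ := by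
  ext y
  rw [← Finset.inv_smul_mem_iff, Finset.mem_compl, Finset.mem_compl, Finset.inv_smul_mem_iff, h]

/-- In a transitive permutation group of prime degree `p` whose Sylow `p`-normaliser has even order, the point stabilisers are the only subgroups of index `p`. -/
theorem result {α : Type*} [Fintype α] [DecidableEq α] {p : ℕ} [Fact p.Prime] (hα : Fintype.card α = p) (G : Subgroup (Equiv.Perm α)) [MulAction.IsPretransitive G α] (P : Sylow p G) (heven : Even (Nat.card (Subgroup.normalizer ((P : Subgroup G) : Set G)))) (H : Subgroup G) (hH : H.index = p) : ∃ a : α, H = MulAction.stabilizer G a := by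
  classical
  have hp : p.Prime := Fact.out
  have hcardH : Nat.card H * p = Nat.card G := by
    rw [← hH]
    exact Subgroup.card_mul_index H
  have hpH : ¬ p ∣ Nat.card H := by
    intro hdvd
    apply sq_not_dvd_factorial (p := p)
    have hGS : Nat.card G ∣ p.factorial := by
      have := Subgroup.card_subgroup_dvd_card G
      rwa [Nat.card_eq_fintype_card (α := Equiv.Perm α), Fintype.card_perm, hα] at this
    refine dvd_trans ?_ hGS
    rw [← hcardH]
    exact Nat.mul_dvd_mul_right hdvd p
  suffices hfix : ∃ a : α, ∀ h ∈ H, h • a = a by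
    obtain ⟨a, ha⟩ := hfix
    refine ⟨a, ?_⟩
    have hle : H ≤ stabilizer G a := fun h hh => ha h hh
    apply Subgroup.eq_of_le_of_card_ge hle
    have h1 := MulAction.index_stabilizer_of_transitive G a
    rw [Nat.card_eq_fintype_card, hα] at h1
    have h2 : Nat.card (stabilizer G a) * p = Nat.card G := by
      rw [← h1]
      exact Subgroup.card_mul_index _
    have := Nat.eq_of_mul_eq_mul_right hp.pos (h2.trans hcardH.symm)
    exact this.le
  by_cases hs : Group.IsSolvable G
  · obtain ⟨e, haff⟩ := Galois.affine_of_solvable hα G hs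
    exact Galois.fixed_of_affine e G haff H hpH
  · have h3 : IsMultiplyPretransitive G α 3 := Cfsg.Agent.S0676.result hα G hs P heven
    have hp4 : 4 ≤ p := by
      by_contra h
      exact hs (small hα G (by omega))
    have hp5 : 5 ≤ p := by
      rcases Nat.lt_or_ge 4 p with h | h
      · exact h
      · have : p = 4 := by omega
        rw [this] at hp
        norm_num at hp
    have hne : Nonempty α := by
      rw [← Fintype.card_pos_iff, hα]
      exact hp.pos
    obtain ⟨x₀⟩ := hne
    let Δ : Finset α := Finset.univ.filter (fun y => ∃ h ∈ H, h • x₀ = y)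
    have hmemΔ : ∀ y, y ∈ Δ ↔ ∃ h ∈ H, h • x₀ = y := by
      intro y
      simp [Δ]
    have hx₀ : x₀ ∈ Δ := (hmemΔ x₀).mpr ⟨1, H.one_mem, one_smul _ _⟩
    have hinv : ∀ h ∈ H, h • Δ = Δ := by
      intro h hh
      ext y
      rw [← Finset.inv_smul_mem_iff, hmemΔ, hmemΔ]
      constructor
      · rintro ⟨h', hh', hy⟩
        refine ⟨h * h', H.mul_mem hh hh', ?_⟩
        rw [mul_smul, hy, smul_inv_smul]
      · rintro ⟨h', hh', hy⟩
        refine ⟨h⁻¹ * h', H.mul_mem (H.inv_mem hh) hh', ?_⟩
        rw [mul_smul, hy]
    have hΔne : Δ ≠ Finset.univ := by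
      intro hΔ
      apply hpH
      have horb : orbit H x₀ = Set.univ := by
        ext y
        simp only [Set.mem_univ, iff_true]
        have : y ∈ Δ := by rw [hΔ]; exact Finset.mem_univ y
        obtain ⟨h, hh, hy⟩ := (hmemΔ y).mp this
        exact ⟨⟨h, hh⟩, hy⟩
      have h1 : (stabilizer H x₀).index = p := by
        rw [index_stabilizer, horb, Set.ncard_univ, Nat.card_eq_fintype_card, hα]
      rw [← h1]
      exact Subgroup.index_dvd_card _
    have hk1 : 1 ≤ Δ.card := Finset.card_pos.mpr ⟨x₀, hx₀⟩
    have hkp : Δ.card < p := by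
      rw [← hα, ← Finset.card_univ]
      exact Finset.card_lt_card (Finset.ssubset_univ_iff.mpr hΔne)
    have hcompl : Δᶜ.card = p - Δ.card := by
      rw [Finset.card_compl, hα]
    have hidx : H.index = Fintype.card α := by rw [hH, hα]
    by_cases hk : Δ.card = 1
    · -- fixed point x₀
      refine ⟨x₀, ?_⟩
      intro h hh
      obtain ⟨z, hz⟩ := Finset.card_eq_one.mp hk
      have h1 : h • x₀ ∈ Δ := (hmemΔ _).mpr ⟨h, hh, rfl⟩
      rw [hz, Finset.mem_singleton] at h1 hx₀
      rw [h1, hx₀]
    by_cases hk' : Δ.card = p - 1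
    · -- the complement is a fixed point
      have hc1 : Δᶜ.card = 1 := by rw [hcompl, hk']; omega
      obtain ⟨a, ha⟩ := Finset.card_eq_one.mp hc1
      refine ⟨a, ?_⟩
      intro h hh
      have h1 := smul_compl h Δ (hinv h hh)
      rw [ha, Finset.smul_finset_singleton] at h1
      exact Finset.singleton_injective h1
    exfalso
    by_cases hk2 : Δ.card = 2
    · apply Fisher.no_invariant h3 H Δᶜ (fun h hh => smul_compl h Δ (hinv h hh)) hidx
      · rw [hcompl, hk2]; omega
      · rw [hcompl, hk2, hα]; omega
    · apply Fisher.no_invariant h3 H Δ hinv hidx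
      · omega
      · rw [hα]; omega

end Cfsg.Agent.S0677
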