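import Cfsg.Statements.S0681
import Cfsg.Agent.Lib.Helper12.NearField
import Mathlib

set_option autoImplicit false
open Cfsg

namespace Cfsg.Agent.S0681

open Cfsg.Agent.Helper12

/-- The affine maps `x ↦ x * a + b`, `a ≠ 0`, of a near-field form a sharply doubly transitive permutation group. -/
theorem result {F : Type*} [Cfsg.NearField F] : ∃ H : Subgroup (Equiv.Perm F), (∀ σ : Equiv.Perm F, σ ∈ H ↔ ∃ a b : F, a ≠ 0 ∧ ∀ x : F, σ x = x * a + b) ∧ MulAction.IsMultiplyPretransitive H F 2 ∧ ∀ x : Fin 2 ↪ F, MulAction.stabilizer H x = ⊥ := by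
  refine ⟨affSubgroup F, fun σ => mem_affSubgroup, ?_, ?_⟩
  · rw [MulAction.is_two_pretransitive_iff]
    intro a b c d hab hcd
    obtain ⟨σ, hσ, h0, h1⟩ := affSubgroup_two_transitive hab hcd
    exact ⟨⟨σ, hσ⟩, h0, h1⟩
  · intro x
    rw [Subgroup.eq_bot_iff_forall]
    intro g hg
    rw [MulAction.mem_stabilizer_iff] at hg
    have h0 : g.1 (x 0) = x 0 := by
      have := congrArg (fun f : Fin 2 ↪ F => f 0) hg
      exact this
    have h1 : g.1 (x 1) = x 1 := by
      have := congrArg (fun f : Fin 2 ↪ F => f 1) hg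
      exact this
    have hne : x 0 ≠ x 1 := x.injective.ne (by decide)
    apply Subtype.ext
    exact affSubgroup_sharp hne g.2 h0 h1

end Cfsg.Agent.S0681
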