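import Cfsg.Statements.S0682
import Cfsg.Agent.Lib.Helper12.NearField
import Mathlib

set_option autoImplicit false
open Cfsg

namespace Cfsg.Agent.S0682

open Cfsg.Agent.Helper12

theorem nsmul_mul {F : Type*} [NearField F] (n : ℕ) (x c : F) : (n • x) * c = n • (x * c) := by
  induction n with
  | zero => simp [nf_zero_mul]
  | succ k ih => rw [succ_nsmul, succ_nsmul, NearField.right_distrib, ih]

theorem result {F : Type*} [Cfsg.NearField F] [Finite F] : ∃ p j : ℕ, p.Prime ∧ 1 ≤ j ∧ Nat.card F = p ^ j ∧ (∀ x y : F, x + y = y + x) ∧ ∀ x : F, p • x = 0 := by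
  have hnt : Nontrivial F := ⟨⟨0, 1, NearField.zero_ne_one⟩⟩
  have hcard : Nat.card F ≠ 1 := by
    intro h
    rw [Nat.card_eq_one_iff_unique] at h
    exact not_subsingleton F h.1
  obtain ⟨p, hp, hpd⟩ := Nat.exists_prime_and_dvd hcard
  have : Fact p.Prime := ⟨hp⟩
  obtain ⟨x, hx⟩ := exists_prime_addOrderOf_dvd_card' (G := F) p hpd
  have hx0 : x ≠ 0 := by
    intro h; rw [h, addOrderOf_zero] at hx; exact hp.one_lt.ne' hx.symm
  have hpx : p • x = 0 := by rw [← hx]; exact addOrderOf_nsmul_eq_zero x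
  obtain ⟨x', hx1, hx2⟩ := NearField.exists_inv x hx0
  have hexp : ∀ y : F, p • y = 0 := by
    intro y
    have : y = x * (x' * y) := by rw [← mul_assoc, hx1, one_mul]
    rw [this, ← nsmul_mul, hpx, nf_zero_mul]
  have hPG : IsPGroup p (Multiplicative F) := by
    intro g
    refine ⟨1, ?_⟩
    rw [pow_one]
    exact congrArg Multiplicative.ofAdd (hexp (Multiplicative.toAdd g))
  obtain ⟨j, hj⟩ := IsPGroup.iff_card.mp hPG
  have hj' : Nat.card F = p ^ j := by
    rw [← hj]; rfl
  have hj1 : 1 ≤ j := by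
    by_contra h
    have : j = 0 := by omega
    rw [this, pow_zero] at hj'
    exact hcard hj'
  have hntM : Nontrivial (Multiplicative F) := hnt
  have hcen := hPG.center_nontrivial
  obtain ⟨⟨z, hz⟩, hz1⟩ := exists_ne (1 : Subgroup.center (Multiplicative F))
  have hz0 : Multiplicative.toAdd z ≠ 0 := by
    intro h
    apply hz1
    apply Subtype.ext
    exact h
  set z0 : F := Multiplicative.toAdd z with hz0def
  have hzc : ∀ w : F, z0 + w = w + z0 := by
    intro w
    rw [Subgroup.mem_center_iff] at hz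
    have := hz (Multiplicative.ofAdd w)
    exact (congrArg Multiplicative.toAdd this).symm
  obtain ⟨z', hzi1, hzi2⟩ := NearField.exists_inv z0 hz0
  have hcomm : ∀ y w : F, y + w = w + y := by
    intro y w
    by_cases hy : y = 0
    · rw [hy, zero_add, add_zero]
    set c := z' * y with hc
    have hyc : y = z0 * c := by rw [hc, ← mul_assoc, hzi1, one_mul]
    have hc0 : c ≠ 0 := by
      intro h; rw [h, NearField.mul_zero] at hyc; exact hy hyc
    obtain ⟨c', hc1, hc2⟩ := NearField.exists_inv c hc0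
    have hw : w = (w * c') * c := by rw [mul_assoc, hc2, mul_one]
    rw [hyc, hw, ← NearField.right_distrib, hzc, NearField.right_distrib]
  exact ⟨p, j, hp, hj1, hj', hcomm, hexp⟩

end Cfsg.Agent.S0682
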