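import Cfsg.Statements.S0683
import Cfsg.Agent.Lib.Helper12.Sharp2NearField
import Mathlib

set_option autoImplicit false
open Cfsg

namespace Cfsg.Agent.S0683

open Cfsg.Agent.Helper12.Sharp2

/-- A finite sharply doubly transitive permutation group is the affine group of a near-field: the permuted set carries a near-field structure for which the group consists exactly of the maps `x ↦ x * a + b` with `a ≠ 0`. -/
theorem result {α : Type*} [Fintype α] [DecidableEq α] (H : Subgroup (Equiv.Perm α)) [MulAction.IsMultiplyPretransitive H α 2] (hsharp : ∀ x : Fin 2 ↪ α, MulAction.stabilizer H x = ⊥) (h2 : 2 ≤ Fintype.card α) : ∃ _ : Cfsg.NearField α, ∀ σ : Equiv.Perm α, σ ∈ H ↔ ∃ a b : α, a ≠ 0 ∧ ∀ x : α, σ x = x * a + b := by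
  have hS : IsSharp2 H α := isSharp2_of inferInstance hsharp
  obtain ⟨o, e, hoe⟩ := Fintype.one_lt_card_iff.mp (by omega : 1 < Fintype.card α)
  refine ⟨nearField hS o e hoe, ?_⟩
  letI := nearField hS o e hoe
  have key : ∀ x a b : α, x * a + b = tr hS o b • nfMul hS o e hoe x a := fun x a b => rfl
  have hz : (0 : α) = o := rfl
  intro σ
  constructor
  · intro hσ
    set b := σ o with hb
    set g : H := (tr hS o b)⁻¹ * ⟨σ, hσ⟩ with hg
    have hgo : g • o = o := by
      rw [hg, mul_smul, inv_smul_eq_iff, tr_apply]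
      rfl
    set a := g • e with ha
    have hao : a ≠ o := by
      intro h
      rw [ha, ← hgo] at h
      exact hoe (smul_left_cancel _ h).symm
    have hgmu : g = mu hS o e hoe a := mu_unique hS o e hoe hao hgo rfl
    refine ⟨a, b, hao, ?_⟩
    intro x
    rw [key, nfMul_of_ne hS o e hoe x hao, ← hgmu, hg, ← mul_smul, mul_inv_cancel_left]
    rfl
  · rintro ⟨a, b, ha, hσ⟩
    have hao : a ≠ o := ha
    have : σ = ((tr hS o b * mu hS o e hoe a : H) : Equiv.Perm α) := by
      ext x
      rw [hσ x, key, nfMul_of_ne hS o e hoe x hao, ← mul_smul]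
      rfl
    rw [this]
    exact (tr hS o b * mu hS o e hoe a).2

end Cfsg.Agent.S0683
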