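import Mathlib
import Cfsg.Statements.S0687
import Cfsg.Agent.Lib.Helper12.NormalIrred
import Cfsg.Agent.S0684

set_option autoImplicit false
open Cfsg

namespace Cfsg.Agent.S0687

open Cfsg.Agent.Helper12.FpfLinear Cfsg.Agent.Helper12.NormalIrred Cfsg.Agent.S0684

/-- In a linear group over the prime field that is regular on non-zero vectors and has no irreducible cyclic normal subgroup, a normal subgroup `N` minimal among the non-abelian normal subgroups centralising a maximal normal abelian subgroup `A` is irreducible on `V`, and its centraliser is `A`. -/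
theorem result {p : ℕ} [Fact p.Prime] {V : Type*} [AddCommGroup V] [Module (ZMod p) V] [Finite V] (H : Subgroup (V ≃ₗ[ZMod p] V)) (hreg : ∀ v w : V, v ≠ 0 → w ≠ 0 → ∃! h : H, (h : V ≃ₗ[ZMod p] V) v = w) (hI : ∀ A : Subgroup H, A.Normal → IsCyclic A → ∃ W : Submodule (ZMod p) V, W ≠ ⊥ ∧ W ≠ ⊤ ∧ ∀ a ∈ A, ∀ v ∈ W, ((a : H) : V ≃ₗ[ZMod p] V) v ∈ W) (A : Subgroup H) (hAn : A.Normal) (hAc : IsMulCommutative A) (hAmax : ∀ B : Subgroup H, B.Normal → IsMulCommutative B → A ≤ B → B = A) (N : Subgroup H) (hNn : N.Normal) (hNle : N ≤ Subgroup.centralizer (A : Set H)) (hNna : ¬ IsMulCommutative N) (hNmin : ∀ M : Subgroup H, M.Normal → M ≤ N → ¬ IsMulCommutative M → M = N) : (∀ W : Submodule (ZMod p) V, (∀ n ∈ N, ∀ v ∈ W, ((n : H) : V ≃ₗ[ZMod p] V) v ∈ W) → W = ⊥ ∨ W = ⊤) ∧ Subgroup.centralizer (N : Set H) = A := by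
  classical
  have htrans : ∀ v w : V, v ≠ 0 → w ≠ 0 → ∃ g ∈ H, g v = w := fun v w hv hw => by
    obtain ⟨h, hh, -⟩ := hreg v w hv hw
    exact ⟨h.1, h.2, hh⟩
  have hnorm : ∀ g ∈ H, ∀ b ∈ img H N, g * b * g⁻¹ ∈ img H N := by
    rintro g hg _ ⟨n, hn, rfl⟩
    exact ⟨⟨g, hg⟩ * n * ⟨g, hg⟩⁻¹, hNn.conj_mem n hn ⟨g, hg⟩, rfl⟩
  have hna : ¬ ∀ a ∈ img H N, ∀ b ∈ img H N, a * b = b * a := by
    intro h
    apply hNna
    refine ⟨⟨fun a b => ?_⟩⟩
    apply Subtype.ext
    apply Subtype.ext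
    exact h a.1.1 ⟨a.1, a.2, rfl⟩ b.1.1 ⟨b.1, b.2, rfl⟩
  have hirr := irreducible_of_normal htrans hnorm hna
  refine ⟨fun W hW => hirr W ((inv_iff H N W).mpr hW), ?_⟩
  have hAC : A ≤ Subgroup.centralizer (N : Set H) := by
    intro a ha
    rw [Subgroup.mem_centralizer_iff]
    intro n hn
    have := hNle hn
    rw [Subgroup.mem_centralizer_iff] at this
    exact (this a ha).symm
  have hCn : (Subgroup.centralizer (N : Set H)).Normal := Subgroup.normal_centralizer
  have hCc : IsMulCommutative (Subgroup.centralizer (N : Set H)) := by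
    refine ⟨⟨fun c c' => ?_⟩⟩
    apply Subtype.ext
    apply Subtype.ext
    apply centralizer_comm hirr c.1.1 c'.1.1
    · rintro _ ⟨n, hn, rfl⟩
      have := c.2
      rw [Subgroup.mem_centralizer_iff] at this
      exact (congrArg Subtype.val (this n hn)).symm
    · rintro _ ⟨n, hn, rfl⟩
      have := c'.2
      rw [Subgroup.mem_centralizer_iff] at this
      exact (congrArg Subtype.val (this n hn)).symm
  exact hAmax _ hCn hCc hAC

end Cfsg.Agent.S0687
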