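import Cfsg.Statements.S0689
import Mathlib
import Cfsg.Agent.S3359
import Cfsg.Agent.Lib.Helper62.ZassMain
-- import your own Cfsg.Agent.* helpers here

set_option autoImplicit false
open Cfsg

namespace Cfsg.Agent.S0689

/-- The insoluble sharply doubly transitive groups: a non-solvable linear group over the prime field that is regular on the non-zero vectors of `V` occurs only for `|V| = 11², 29², 59²`, and is `SL(2,5) × C_m` with `m = 1, 7, 29` respectively. -/
theorem result {p : ℕ} [Fact p.Prime] {V : Type*} [AddCommGroup V] [Module (ZMod p) V] [Finite V] (H : Subgroup (V ≃ₗ[ZMod p] V)) (hreg : ∀ v w : V, v ≠ 0 → w ≠ 0 → ∃! h : H, (h : V ≃ₗ[ZMod p] V) v = w) (hsolv : ¬ Group.IsSolvable H) : (Nat.card V = 121 ∧ Nonempty (H ≃* Matrix.SpecialLinearGroup (Fin 2) (ZMod 5))) ∨ (Nat.card V = 841 ∧ Nonempty (H ≃* Matrix.SpecialLinearGroup (Fin 2) (ZMod 5) × Multiplicative (ZMod 7))) ∨ (Nat.card V = 3481 ∧ Nonempty (H ≃* Matrix.SpecialLinearGroup (Fin 2) (ZMod 5) × Multiplicative (ZMod 29))) := by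
  classical
  have hfin : Finite H := Finite.of_injective (fun m : H => ((m : V ≃ₗ[ZMod p] V) : V → V))
    (fun a b h => Subtype.ext (DFunLike.coe_injective h))
  -- `H` is nontrivial, being insoluble
  have hHnt : Nontrivial H := by
    by_contra hnt
    rw [not_nontrivial_iff_subsingleton] at hnt
    exact hsolv inferInstance
  -- `V` is nontrivial, as otherwise `GL(V)` is trivial
  have hVnt : Nontrivial V := by
    by_contra hnt
    rw [not_nontrivial_iff_subsingleton] at hnt
    have : Subsingleton H := by
      constructor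
      intro a b
      apply Subtype.ext
      apply LinearEquiv.ext
      intro v
      exact Subsingleton.elim _ _
    exact absurd hHnt (not_nontrivial_iff_subsingleton.mpr this)
  have hFC := Cfsg.Agent.Helper62.Zass.hFC_of_reg H hreg
  have h := Cfsg.Agent.S3359.result hsolv hFC
  exact Cfsg.Agent.Helper62.Zass.main H hreg h

end Cfsg.Agent.S0689
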