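import Cfsg.Statements.S0691
import Cfsg.Agent.Lib.Helper12.MatCert
import Mathlib

set_option autoImplicit false
open Cfsg

namespace Cfsg.Agent.S0691

open Cfsg.Agent.Helper12.MatCert

/-- The certificate. -/
@[reducible] def d25 : Data where
  p := 5
  tg := [⟨2, 0, 0, 3⟩, ⟨0, 4, 1, 0⟩, ⟨1, 2, 1, 3⟩]
  tgi := [⟨3, 0, 0, 2⟩, ⟨0, 1, 4, 0⟩, ⟨3, 3, 4, 1⟩]
  words := [
    [1], [1, 0], [4, 0], [4], [], [5, 1], [3, 2], [2, 3], [5], [3], [1, 2], [5, 3], [3, 5],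
    [2, 0, 0], [0], [2], [0, 5], [5, 0], [4, 2], [0, 0], [5, 0, 0], [2, 0], [2, 1], [5, 4]]

theorem chk1 : d25.chkInv = true := by decide +kernel
theorem chk2 : d25.chkClosed = true := by decide +kernel
theorem chk3 : d25.chkSorted = true := by decide +kernel
theorem chk4 : d25.chkFree = true := by decide +kernel
theorem chk5 : d25.words.length = 24 := by decide +kernel

theorem result (A : Matrix.GeneralLinearGroup (Fin 2) (ZMod 5)) (B : Matrix.GeneralLinearGroup (Fin 2) (ZMod 5)) (C : Matrix.GeneralLinearGroup (Fin 2) (ZMod 5)) (hA : (A : Matrix (Fin 2) (Fin 2) (ZMod 5)) = !![2, 0; 0, -2]) (hB : (B : Matrix (Fin 2) (Fin 2) (ZMod 5)) = !![0, -1; 1, 0]) (hC : (C : Matrix (Fin 2) (Fin 2) (ZMod 5)) = !![1, 2; 1, -2]) : Nat.card (Subgroup.closure ({A, B, C} : Set (Matrix.GeneralLinearGroup (Fin 2) (ZMod 5)))) = 24 ∧ ∀ v w : Fin 2 → ZMod 5, v ≠ 0 → w ≠ 0 → ∃! h : Subgroup.closure ({A, B, C} : Set (Matrix.GeneralLinearGroup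 (Fin 2) (ZMod 5))), Matrix.mulVec ((h : Matrix.GeneralLinearGroup (Fin 2) (ZMod 5)) : Matrix (Fin 2) (Fin 2) (ZMod 5)) v = w := by
  have hpf : Fact (Nat.Prime d25.p) := ⟨by norm_num⟩
  have eA : (A : Matrix (Fin 2) (Fin 2) (ZMod 5)) = toM 5 ⟨2, 0, 0, 3⟩ := by
    rw [hA]; ext i j; fin_cases i <;> fin_cases j <;> simp [toM] <;> decide
  have eB : (B : Matrix (Fin 2) (Fin 2) (ZMod 5)) = toM 5 ⟨0, 4, 1, 0⟩ := by
    rw [hB]; ext i j; fin_cases i <;> fin_cases j <;> simp [toM] <;> decide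
  have eC : (C : Matrix (Fin 2) (Fin 2) (ZMod 5)) = toM 5 ⟨1, 2, 1, 3⟩ := by
    rw [hC]; ext i j; fin_cases i <;> fin_cases j <;> simp [toM] <;> decide
  have hg1 : ∀ g ∈ ({A, B, C} : Set (GL2 d25.p)), ∃ t ∈ d25.tg, (g : Mat2 d25.p) = toM d25.p t := by
    intro g hg
    simp only [Set.mem_insert_iff, Set.mem_singleton_iff] at hg
    rcases hg with rfl | rfl | rfl
    · exact ⟨_, by simp, eA⟩
    · exact ⟨_, by simp, eB⟩
    · exact ⟨_, by simp, eC⟩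
  have hg2 : ∀ t ∈ d25.tg, ∃ g ∈ ({A, B, C} : Set (GL2 d25.p)), (g : Mat2 d25.p) = toM d25.p t := by
    intro t ht
    simp only [List.mem_cons, List.not_mem_nil, or_false] at ht
    rcases ht with rfl | rfl | rfl
    · exact ⟨A, by simp, eA⟩
    · exact ⟨B, by simp, eB⟩
    · exact ⟨C, by simp, eC⟩
  constructor
  · have := card_closure d25 _ hg1 hg2 chk1 chk2 chk3
    rw [chk5] at this
    exact this
  · exact regular d25 _ hg1 hg2 chk1 chk2 chk3 chk4 (by rw [chk5]; rfl)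

end Cfsg.Agent.S0691
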