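import Cfsg.Statements.S0692
import Cfsg.Agent.Lib.Helper12.MatCert
import Mathlib

set_option autoImplicit false
open Cfsg

namespace Cfsg.Agent.S0692

open Cfsg.Agent.Helper12.MatCert

/-- The certificate. -/
@[reducible] def d121 : Data where
  p := 11
  tg := [⟨0, 10, 1, 0⟩, ⟨2, 4, 1, 8⟩]
  tgi := [⟨0, 1, 10, 0⟩, ⟨8, 7, 10, 2⟩]
  words := [
    [0], [2, 3, 0, 3], [0, 1, 0, 3, 0, 1], [0, 3, 0, 1, 0, 3], [2, 1, 0, 1], [0, 1, 0, 1],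
    [2, 3, 0, 1, 0, 3], [2, 1, 0, 3, 0, 1], [0, 3, 0, 3], [2], [], [1, 2, 3], [3, 0], [1, 2],
    [1, 0, 3, 0, 1, 0], [3, 2, 3, 0, 1], [0, 1, 0, 3, 0, 3], [0, 3, 0, 1, 0, 3, 0, 1],
    [3, 2, 1, 0, 3, 0], [2, 1, 0, 3, 0], [1, 0, 3, 0], [0, 3, 0, 3, 0], [0, 1, 0, 3],
    [1, 0, 1, 0, 3, 0, 3], [3, 0, 3, 0, 1, 0, 3, 0], [1, 0, 1], [3, 0, 1, 0, 1],
    [1, 0, 1, 0, 3, 0], [2, 1, 0], [1, 0, 3, 0, 1, 0, 3, 0], [1, 0, 3, 0, 1, 0, 1], [3],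
    [2, 1, 0, 3, 0, 1, 0], [3, 0, 1, 0, 3], [1, 2, 3, 0, 1, 0, 3], [3, 0, 3, 0, 1, 0, 1],
    [1, 2, 1, 0, 3, 0, 1, 0], [2, 3, 0, 1], [2, 1, 0, 3, 0, 1, 0, 3, 0], [0, 3, 0],
    [3, 2, 1, 0, 3, 0, 3], [3, 0, 3, 0, 1, 0, 3], [1, 0, 0], [2, 3, 0, 1, 0, 3, 0],
    [0, 3, 0, 1, 0, 3, 0, 1, 0], [0, 1], [2, 3], [1, 0, 3, 0, 1, 0, 3, 0, 1, 0],
    [3, 0, 1, 0, 3, 0, 1], [3, 2, 3, 0], [1, 0, 3, 0, 1, 0, 3, 0, 1], [1, 2, 1, 0, 3, 0, 1],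
    [1, 2, 1, 0], [1, 0, 3, 0, 1], [0, 1, 0, 1, 0], [2, 3, 0, 1, 0, 1], [1, 2, 1, 0, 3],
    [0, 1, 0, 3, 0, 1, 0, 3], [3, 0, 3], [3, 0, 1], [3, 2, 1, 0], [3, 2, 1, 0, 3, 0, 1, 0],
    [0, 3, 0, 1, 0], [1, 2, 3, 0, 3], [3, 0, 3, 0, 1, 0], [2, 1, 0, 1, 0], [3, 2, 3, 0, 1, 0],
    [1, 0, 3, 0, 3], [2, 3, 0, 1, 0], [3, 0, 1, 0, 3, 0, 1, 0], [3, 0, 1, 0], [3, 2, 1],
    [3, 2, 3], [2, 1, 0, 3, 0, 1, 0, 3], [1, 0, 1, 0, 3], [0, 3, 0, 1, 0, 1],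
    [0, 3, 0, 1, 0, 3, 0], [1, 2, 3, 0, 1], [1, 0, 1, 0], [1, 0, 1, 0, 3, 0, 1],
    [1, 2, 3, 0, 1, 0, 3, 0, 1], [3, 0, 3, 0], [3, 2, 1, 0, 3, 0, 1],
    [1, 2, 3, 0, 1, 0, 3, 0, 1, 0], [0, 3], [2, 1], [2, 3, 0, 1, 0, 3, 0, 1, 0],
    [0, 1, 0, 3, 0, 1, 0], [1], [3, 2, 3, 0, 1, 0, 3], [3, 0, 1, 0, 3, 0, 3], [2, 3, 0],
    [0, 1, 0, 3, 0, 1, 0, 3, 0], [0, 3, 0, 1], [1, 0, 1, 0, 3, 0, 1, 0], [3, 2, 3, 0, 1, 0, 1],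
    [1, 0, 3, 0, 1, 0, 3], [3, 2, 1, 0, 3], [2, 3, 0, 3, 0], [3, 0, 0], [1, 2, 3, 0, 1, 0, 1],
    [1, 2, 3, 0, 1, 0, 3, 0], [0, 1, 0], [1, 2, 1, 0, 3, 0], [3, 2, 1, 0, 1], [1, 2, 1],
    [3, 2, 3, 0, 1, 0, 3, 0], [1, 2, 1, 0, 3, 0, 3], [2, 1, 0, 3], [0, 0], [1, 2, 3, 0],
    [0, 1, 0, 3, 0], [3, 0, 1, 0, 3, 0], [2, 3, 0, 1, 0, 3, 0, 1], [2, 1, 0, 3, 0, 3],
    [3, 0, 3, 0, 1], [1, 2, 3, 0, 1, 0], [1, 0], [3, 2], [1, 0, 3]]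

theorem chk1 : d121.chkInv = true := by decide +kernel
theorem chk2 : d121.chkClosed = true := by decide +kernel
theorem chk3 : d121.chkSorted = true := by decide +kernel
theorem chk4 : d121.chkFree = true := by decide +kernel
theorem chk5 : d121.words.length = 120 := by decide +kernel

theorem result (A : Matrix.GeneralLinearGroup (Fin 2) (ZMod 11)) (B : Matrix.GeneralLinearGroup (Fin 2) (ZMod 11)) (hA : (A : Matrix (Fin 2) (Fin 2) (ZMod 11)) = !![0, -1; 1, 0]) (hB : (B : Matrix (Fin 2) (Fin 2) (ZMod 11)) = !![2, 4; 1, -3]) : Nat.card (Subgroup.closure ({A, B} : Set (Matrix.GeneralLinearGroup (Fin 2) (ZMod 11)))) = 120 ∧ ∀ v w : Fin 2 → ZMod 11, v ≠ 0 → w ≠ 0 → ∃! h : Subgroup.closure ({A, B} : Set (Matrix.GeneralLinearGroup (Fin 2) (ZMod 11))), Matrix.mulVec ((h : Matrix.GeneralLinearGroup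 (Fin 2) (ZMod 11)) : Matrix (Fin 2) (Fin 2) (ZMod 11)) v = w := by
  have hpf : Fact (Nat.Prime d121.p) := ⟨by norm_num⟩
  have eA : (A : Matrix (Fin 2) (Fin 2) (ZMod 11)) = toM 11 ⟨0, 10, 1, 0⟩ := by
    rw [hA]; ext i j; fin_cases i <;> fin_cases j <;> simp [toM] <;> decide
  have eB : (B : Matrix (Fin 2) (Fin 2) (ZMod 11)) = toM 11 ⟨2, 4, 1, 8⟩ := by
    rw [hB]; ext i j; fin_cases i <;> fin_cases j <;> simp [toM] <;> decide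
  have hg1 : ∀ g ∈ ({A, B} : Set (GL2 d121.p)), ∃ t ∈ d121.tg, (g : Mat2 d121.p) = toM d121.p t := by
    intro g hg
    simp only [Set.mem_insert_iff, Set.mem_singleton_iff] at hg
    rcases hg with rfl | rfl
    · exact ⟨_, by simp, eA⟩
    · exact ⟨_, by simp, eB⟩
  have hg2 : ∀ t ∈ d121.tg, ∃ g ∈ ({A, B} : Set (GL2 d121.p)), (g : Mat2 d121.p) = toM d121.p t := by
    intro t ht
    simp only [List.mem_cons, List.not_mem_nil, or_false] at ht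
    rcases ht with rfl | rfl
    · exact ⟨A, by simp, eA⟩
    · exact ⟨B, by simp, eB⟩
  constructor
  · have := card_closure d121 _ hg1 hg2 chk1 chk2 chk3
    rw [chk5] at this
    exact this
  · exact regular d121 _ hg1 hg2 chk1 chk2 chk3 chk4 (by rw [chk5]; rfl)

end Cfsg.Agent.S0692
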