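import Cfsg.Statements.S0693
import Cfsg.Agent.Lib.Helper12.MatCert
import Mathlib

set_option autoImplicit false
open Cfsg

namespace Cfsg.Agent.S0693

open Cfsg.Agent.Helper12.MatCert

/-- The certificate. -/
@[reducible] def d3481 : Data where
  p := 59
  tg := [⟨0, 58, 1, 0⟩, ⟨9, 15, 49, 49⟩, ⟨4, 0, 0, 4⟩]
  tgi := [⟨0, 1, 58, 0⟩, ⟨49, 44, 10, 9⟩, ⟨15, 0, 0, 15⟩]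
  words := [
    [0], [5, 5, 5, 5, 5, 5, 5, 5, 5, 5, 5, 5, 5, 5, 3], [5, 5, 5, 5, 0], [2, 0], [2, 2, 2, 0],
    [3, 2, 2, 2, 2, 2, 2, 2, 2, 2, 2, 2], [2, 2, 2, 2, 2, 2, 2, 2, 2, 0],
    [5, 5, 5, 5, 5, 5, 5, 5, 5, 5, 5, 5, 5, 3], [5, 5, 5, 5, 5, 5, 5, 5, 0],
    [5, 5, 5, 5, 5, 5, 5, 5, 5, 5, 5, 3], [5, 5, 3], [5, 5, 5, 0], [3, 2, 2, 2, 2, 2, 2, 2, 2],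
    [5, 5, 5, 5, 5, 3], [5, 0], [2, 2, 0], [5, 5, 5, 5, 5, 5, 5, 5, 5, 0],
    [3, 2, 2, 2, 2, 2, 2, 2], [5, 5, 5, 5, 5, 5, 5, 5, 5, 5, 0], [2, 2, 2, 2, 0],
    [2, 2, 2, 2, 2, 0], [2, 2, 2, 2, 2, 2, 2, 2, 2, 2, 2, 2, 2, 0], [5, 5, 5, 5, 5, 5, 5, 3],
    [3, 2, 2, 2, 2, 2, 2, 2, 2, 2, 2, 2, 2], [2, 2, 2, 2, 2, 2, 0], [5, 5, 5, 5, 5, 5, 0],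
    [5, 5, 5, 5, 5, 5, 5, 5, 5, 5, 5, 5, 0], [2, 2, 2, 2, 2, 2, 2, 2, 2, 2, 0],
    [2, 2, 2, 2, 2, 2, 2, 2, 2, 2, 2, 2, 2, 2, 0],
    [3, 2, 2, 2, 2, 2, 2, 2, 2, 2, 2, 2, 2, 2, 2], [3, 2, 2, 2, 2, 2, 2, 2, 2, 2, 2],
    [5, 5, 5, 5, 5, 5, 5, 5, 5, 5, 5, 5, 3], [5, 5, 5, 5, 5, 5, 3], [3, 2, 2, 2, 2, 2, 2],
    [2, 2, 2, 2, 2, 2, 2, 2, 2, 2, 2, 2, 0], [5, 5, 5, 5, 5, 5, 5, 0],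
    [3, 2, 2, 2, 2, 2, 2, 2, 2, 2, 2, 2, 2, 2], [3, 2, 2, 2, 2, 2], [3, 2, 2, 2, 2],
    [5, 5, 5, 5, 5, 5, 5, 5, 5, 5, 3], [2, 2, 2, 2, 2, 2, 2, 0],
    [5, 5, 5, 5, 5, 5, 5, 5, 5, 3], [3, 2, 2], [5, 3], [5, 5, 5, 5, 5, 0],
    [2, 2, 2, 2, 2, 2, 2, 2, 0], [5, 5, 5, 3], [5, 5, 0], [5, 5, 5, 5, 5, 5, 5, 5, 5, 5, 5, 0],
    [5, 5, 5, 5, 5, 5, 5, 5, 3], [5, 5, 5, 5, 5, 5, 5, 5, 5, 5, 5, 5, 5, 0],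
    [3, 2, 2, 2, 2, 2, 2, 2, 2, 2], [2, 2, 2, 2, 2, 2, 2, 2, 2, 2, 2, 0], [3, 2, 2, 2], [3, 2],
    [5, 5, 5, 5, 3], [5, 5, 5, 5, 5, 5, 5, 5, 5, 5, 5, 5, 5, 5, 0], [3], [],
    [2, 2, 2, 2, 2, 2, 2, 2, 2, 2, 2, 1], [4, 0, 1, 0, 4, 2, 2, 2, 2, 2, 2, 2, 2, 2, 0, 1, 0],
    [5, 5, 5, 5, 5, 5, 5, 5, 5, 5, 1, 0, 4, 0, 4],
    [4, 0, 4, 0, 1, 0, 4, 2, 2, 2, 2, 2, 2, 2, 2, 2, 2, 2],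
    [4, 2, 2, 2, 2, 2, 2, 2, 2, 2, 2, 2, 0], [5, 5, 5, 5, 5, 5, 1, 0, 1, 0, 4, 0],
    [0, 4, 0, 4, 2, 2, 2, 2, 2, 0], [5, 5, 5, 5, 5, 5, 5, 5, 1, 3, 1, 0],
    [1, 0, 4, 2, 2, 0, 1, 0, 1], [5, 5, 5, 5, 5, 5, 5, 5, 5, 5, 5, 5, 5, 5, 1, 0, 4, 0, 1, 0],
    [5, 5, 5, 5, 5, 4, 3, 4, 0, 1, 0, 1], [5, 0, 1, 0, 4, 0],
    [1, 3, 1, 0, 4, 0, 4, 2, 2, 2, 2, 2, 2, 2, 2, 2, 2],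
    [3, 4, 2, 2, 2, 2, 2, 2, 2, 2, 2, 2, 2, 2, 0, 1, 0, 1], [5, 4, 3, 1, 0],
    [5, 5, 5, 4, 3, 1, 0, 4, 0, 4],
    [5, 5, 5, 5, 5, 5, 5, 5, 5, 5, 5, 5, 5, 5, 4, 3, 1, 0, 4, 0],
    [3, 2, 2, 2, 2, 2, 2, 2, 2, 1, 0], [5, 5, 5, 5, 5, 5, 5, 5, 4, 3, 4, 0],
    [5, 5, 0, 4, 0, 1, 0, 4, 0, 1], [5, 5, 5, 5, 5, 5, 5, 5, 5, 5, 5, 5, 3, 1, 0, 4, 0, 4],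
    [2, 2, 2, 2, 2, 1, 0, 1], [5, 5, 5, 5, 5, 5, 5, 5, 5, 5, 0, 4, 0, 1, 0, 4],
    [1, 3, 4, 0, 1, 0, 4, 2, 2, 2, 2, 2, 0], [5, 5, 5, 5, 5, 1, 0, 1, 0, 4, 0, 1, 0],
    [5, 5, 5, 5, 0, 1, 0, 1], [5, 5, 5, 5, 5, 5, 5, 1, 0, 4, 0, 1, 0, 4],
    [3, 4, 2, 2, 2, 2, 2, 2, 2, 2, 2, 2, 2, 0], [5, 5, 5, 5, 5, 5, 4, 3, 1, 0, 4, 0, 1],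
    [3, 4, 0, 1, 0], [4, 3, 4, 2, 2], [0, 1, 0, 4, 0, 1, 0, 4, 2, 2, 2, 2, 2, 2, 2, 2, 2, 2],
    [5, 5, 5, 5, 5, 5, 5, 5, 5, 5, 5, 1, 0, 1, 0, 4, 0, 1], [3, 2, 2, 1, 0, 1, 0],
    [5, 5, 5, 5, 5, 5, 5, 0, 1, 0, 4, 0, 1, 0, 4, 0], [2, 0, 1],
    [1, 0, 4, 0, 1, 0, 4, 2, 2, 2, 2, 0, 1], [5, 5, 5, 5, 5, 0, 1, 0, 4, 0, 1, 0],
    [5, 5, 5, 5, 5, 5, 4, 0, 1, 0, 1], [3, 4, 2], [5, 5, 5, 0, 4, 0, 1, 0, 4, 0],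
    [5, 5, 5, 5, 0, 4, 0, 4], [5, 5, 5, 5, 5, 5, 5, 5, 5, 5, 4, 3, 4, 0, 1, 0],
    [4, 3, 4, 0, 1, 0, 4, 2, 2, 2, 2, 2, 2, 2, 2, 2, 2, 0],
    [5, 5, 5, 5, 5, 5, 5, 5, 5, 5, 3, 1, 0, 4, 0, 1], [1, 0, 4, 2, 2, 2, 2, 2, 2, 2, 0],
    [4, 2, 2, 2, 2, 2, 2, 2, 2], [5, 5, 5, 5, 5, 5, 5, 5, 5, 5, 5, 5, 4, 0, 4, 0, 1],
    [1, 3, 1, 0, 4, 2, 2, 2, 2, 2, 2, 2, 2, 2, 2, 2, 2], [5, 1, 0, 4],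
    [5, 5, 5, 5, 5, 5, 5, 5, 5, 1, 0, 4, 0, 1, 0, 4, 0, 1, 0], [5, 5, 5, 5, 5, 4, 3, 1, 0, 4],
    [5, 5, 5, 1, 3, 4, 0, 1], [0, 1, 0, 4, 2, 2], [4, 3, 1],
    [5, 5, 5, 5, 5, 5, 3, 4, 0, 1, 0, 4, 0, 1, 0],
    [5, 5, 5, 5, 5, 5, 5, 5, 5, 5, 5, 5, 5, 5, 0, 4, 0, 1],
    [1, 3, 2, 2, 2, 2, 2, 2, 2, 2, 2, 2, 2], [5, 5, 5, 5, 5, 5, 5, 5, 5, 5, 5, 5, 5, 5, 0, 0],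
    [5, 5, 5, 5, 5, 5, 5, 5, 5, 5, 5, 5, 5, 5, 0, 4, 0, 1, 0], [5, 5, 5, 1, 0, 0],
    [5, 5, 5, 5, 5, 5, 5, 5, 5, 5, 5, 5, 4, 0, 4], [5, 5, 5, 5, 5, 4, 3, 1, 0, 4, 0, 1, 0],
    [5, 5, 5, 5, 3, 1, 0, 4, 0, 1, 0, 4], [1, 3, 4, 0, 4, 2, 2, 2, 2, 2],
    [1, 3, 1, 0, 4, 2, 2, 2, 2, 0, 1], [5, 5, 5, 4, 3, 4, 0, 1, 0, 4],
    [5, 5, 5, 5, 5, 5, 5, 5, 5, 5, 5, 5, 0, 1, 0, 1, 0], [5, 5, 5, 4, 3],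
    [3, 1, 0, 4, 0, 1, 0, 4, 2, 2, 2, 2, 2, 2, 2, 2, 0],
    [1, 3, 1, 0, 4, 2, 2, 2, 2, 2, 2, 2, 2, 2, 0],
    [5, 5, 5, 5, 5, 5, 5, 5, 5, 5, 5, 5, 5, 3, 1], [5, 5, 5, 5, 5, 5, 5, 5, 5, 3, 4, 0, 4, 0],
    [5, 5, 5, 5, 5, 5, 5, 5, 5, 5, 1, 3, 4, 0, 1, 0, 4, 0, 1],
    [2, 2, 2, 2, 2, 2, 2, 1, 0, 1, 0], [3, 1, 0, 4, 2, 2, 2, 2, 2, 2, 2, 2, 2, 2, 0, 1, 0],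
    [5, 5, 5, 5, 5, 5, 5, 5, 5, 5, 5, 5, 1, 3, 4, 0, 1, 0, 1],
    [4, 3, 2, 2, 2, 2, 2, 2, 2, 2, 2, 1, 0, 1], [1, 3, 4, 2, 0, 1, 0],
    [5, 5, 5, 5, 5, 5, 5, 5, 5, 5, 5, 5, 5, 0, 4],
    [4, 0, 4, 2, 2, 2, 2, 2, 2, 2, 2, 2, 2, 0, 1, 0, 1],
    [3, 4, 0, 1, 0, 4, 2, 2, 2, 2, 2, 2, 2, 2, 2, 2, 2, 2, 0],
    [3, 1, 0, 4, 2, 2, 2, 2, 2, 2, 2, 2, 2, 2, 2, 2, 2, 2, 0],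
    [3, 4, 0, 4, 2, 2, 2, 2, 2, 2, 2, 2, 2, 2, 2], [5, 5, 5, 5, 1, 0, 1, 0, 4, 0, 4],
    [4, 0, 4, 2, 2, 2, 2, 2, 0, 1, 0], [5, 5, 0, 4, 0, 1, 0, 1],
    [5, 5, 5, 5, 4, 0, 4, 0, 1, 0, 4, 0],
    [4, 2, 2, 2, 2, 2, 2, 2, 2, 2, 2, 2, 2, 2, 2, 0, 1, 0], [0, 1, 0, 4, 2, 2, 2, 2, 2, 0, 1],
    [4, 0, 1, 0, 4, 0, 4, 2, 2, 2, 2, 2, 2, 2, 2, 2, 2, 2, 2],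
    [5, 5, 5, 5, 5, 5, 5, 1, 3, 4, 0], [4, 0, 1, 0, 4, 2, 0], [5, 5, 5, 5, 5, 5, 4, 0, 0],
    [5, 5, 5, 5, 5, 5, 0, 1, 0], [4, 3, 4, 2, 2, 2, 0, 1], [4, 0, 4, 2, 2, 2, 2, 2, 2, 2, 0],
    [5, 5, 1, 0, 1, 0, 4], [3, 4, 0, 1, 0, 4, 2, 2, 2, 2, 2, 2, 2, 2, 2, 2, 2, 2, 2, 0, 1],
    [1, 3, 4, 2, 2, 2, 2, 2, 2, 2, 2, 2, 2, 2, 2, 2, 2], [0, 1, 0, 4, 0, 4, 2, 2, 2],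
    [1, 3, 4, 0, 1, 0, 4, 2, 2, 2, 2, 2, 2, 0, 1, 0], [5, 5, 5, 5, 5, 5, 5, 5, 5, 1, 3, 1],
    [4, 0, 1, 0, 4, 2, 2, 2, 2, 2, 2, 2, 2, 2, 2], [3, 4, 0, 1, 0, 4, 2, 2, 2, 2, 2],
    [1, 0, 4, 2, 2, 2, 2, 2, 2, 2, 2, 2, 2, 2, 2, 0, 1],
    [5, 5, 5, 5, 5, 5, 5, 5, 5, 1, 0, 4, 0, 1, 0, 4, 0],
    [5, 5, 5, 5, 5, 5, 5, 5, 5, 5, 5, 5, 3, 1, 0, 4],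
    [1, 3, 1, 0, 4, 2, 2, 2, 2, 2, 2, 2, 2, 2, 2, 0, 1, 0],
    [5, 5, 5, 5, 5, 5, 5, 5, 5, 5, 5, 5, 5, 5, 4, 0, 1],
    [3, 2, 2, 2, 2, 2, 2, 2, 2, 2, 2, 2, 1, 0, 1],
    [0, 4, 0, 1, 0, 4, 2, 2, 2, 2, 2, 2, 2, 2, 2, 0, 1, 0],
    [1, 3, 4, 0, 1, 0, 4, 2, 2, 2, 2, 2, 2, 2, 2], [3, 4, 2, 0, 1], [5, 5, 5, 0, 4, 0],
    [5, 5, 5, 1, 0], [4, 0, 1, 0, 4, 2, 2, 2, 2, 2, 2, 2, 2, 2, 0, 1], [5, 5, 5, 5],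
    [5, 5, 5, 5, 5, 5, 0, 4, 0, 1, 0, 4, 0, 1], [5, 5, 5, 3, 4], [2, 2, 2, 2, 2, 2, 2, 1],
    [3, 1, 0, 4, 0, 4, 2, 2, 2, 2, 2, 2, 2, 2, 2, 2, 2, 2, 2],
    [5, 5, 5, 5, 5, 5, 5, 0, 4, 0, 1, 0, 4, 0], [4, 0, 1, 0, 4, 2, 2, 2, 2, 2, 0, 1, 0],
    [2, 1, 0, 1], [5, 5, 5, 5, 5, 5, 5, 5, 0, 4, 0, 4],
    [5, 5, 5, 5, 5, 5, 5, 5, 5, 5, 5, 5, 5, 5, 1, 0, 4, 0, 4],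
    [5, 5, 5, 5, 5, 5, 5, 5, 5, 5, 5, 5, 5, 5, 0, 4, 0, 1, 0, 4],
    [5, 5, 5, 5, 5, 5, 5, 5, 5, 5, 5, 5, 5, 5, 4, 3, 4, 0, 1, 0],
    [4, 0, 4, 0, 1, 0, 4, 2, 2, 2, 2, 2, 2, 2], [1, 3, 4, 0, 1, 0, 4, 2, 0],
    [4, 3, 4, 0, 1, 0, 4, 2, 2, 2, 2, 2, 2, 0], [4, 2, 2, 2, 2, 2, 2, 2, 0],
    [5, 5, 5, 5, 5, 5, 5, 5, 5, 1, 0, 1, 0, 4, 0, 1, 0],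
    [5, 5, 5, 5, 5, 5, 5, 5, 5, 5, 5, 5, 5, 5, 3, 1, 0, 4, 0, 1],
    [5, 5, 5, 5, 5, 5, 5, 5, 5, 5, 1, 0, 1, 0, 4, 0], [5, 5, 5, 5, 5, 5, 5, 5, 0, 1, 0, 1],
    [1, 0, 4, 2, 2, 2, 0], [0, 4, 0, 4, 2, 0],
    [5, 5, 5, 5, 5, 5, 5, 5, 5, 5, 5, 1, 0, 4, 0, 1, 0, 4], [4, 2, 2, 2, 2],
    [5, 5, 5, 5, 5, 5, 5, 5, 5, 5, 5, 5, 1, 3, 1, 0], [3, 4, 2, 2, 2, 2, 2, 2, 2, 0],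
    [4, 0, 4, 2, 2, 2, 2, 2, 2, 2, 2, 2, 2, 2, 2, 2, 0, 1], [5, 5, 1, 0, 4, 0, 1, 0, 1],
    [5, 5, 5, 5, 5, 5, 5, 5, 5, 5, 4, 3, 1, 0, 4, 0, 1],
    [1, 3, 1, 0, 4, 2, 2, 2, 2, 2, 2, 2, 2],
    [1, 0, 4, 2, 2, 2, 2, 2, 2, 2, 2, 2, 2, 2, 0, 1, 0], [5, 5, 5, 5, 3, 4, 0, 1, 0],
    [5, 5, 5, 5, 5, 1, 0, 4], [5, 5, 5, 5, 5, 5, 5, 5, 5, 4, 3, 4, 0, 1, 0, 1],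
    [5, 5, 4, 3, 4], [5, 5, 5, 5, 5, 5, 5, 5, 5, 5, 5, 5, 5, 1, 0, 4, 0, 1, 0, 4, 0, 1, 0],
    [5, 5, 5, 5, 5, 0, 1, 0, 4, 0], [0, 1, 0, 4, 0, 1, 0, 4, 2, 2, 2, 2, 2, 2],
    [5, 5, 5, 5, 5, 5, 5, 5, 5, 4, 3, 1, 0, 4], [1, 3, 1, 0, 4, 0, 4, 2, 2, 2, 2, 2, 2],
    [1, 0, 1, 0, 4, 2, 2, 2, 2, 2, 2, 2, 2, 2, 2, 2, 2, 2, 2, 0, 1],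
    [5, 5, 5, 5, 5, 5, 5, 1, 3, 4, 0, 1], [3, 4, 2, 2, 2, 2, 2, 2, 2, 2, 0, 1, 0, 1],
    [5, 5, 3, 1, 0, 1, 0], [5, 5, 0, 1, 0, 4], [5, 5, 5, 5, 5, 4, 3, 1, 0],
    [5, 5, 5, 5, 5, 5, 5, 5, 5, 5, 5, 0, 1, 0, 4, 0, 1, 0, 4, 0], [5, 5, 5, 5, 4, 3, 1],
    [5, 5, 5, 5, 5, 5, 5, 4, 3, 1, 0, 4, 0, 4], [5, 5, 5, 0, 1],
    [5, 5, 5, 5, 5, 5, 5, 5, 5, 5, 3, 4, 0, 1, 0, 4, 0, 1, 0],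
    [4, 3, 1, 0, 4, 2, 2, 2, 2, 2, 2, 2, 2, 2, 2, 2, 0], [1, 0, 4, 0, 1, 0, 4, 0, 1],
    [0, 4, 2, 2, 2, 2, 2, 2, 2, 2, 2, 2, 2, 0, 1], [3, 2, 2, 2, 2, 1, 0],
    [5, 5, 5, 5, 5, 5, 5, 5, 5, 0, 1, 0, 4, 0, 1, 0], [1, 3, 2, 2, 2, 2, 2, 2, 2],
    [5, 5, 5, 5, 5, 5, 5, 5, 5, 5, 5, 5, 4, 3, 4, 0],
    [5, 5, 5, 5, 5, 5, 5, 5, 5, 5, 4, 0, 1, 0, 1], [2], [4, 3, 1, 0], [3, 4, 2, 0, 1, 0],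
    [5, 5, 5, 5, 5, 5, 5, 5, 5, 3, 1, 0, 4, 0, 1], [2, 2, 2, 2, 2, 2, 2, 2, 2, 2, 2, 2, 1],
    [5, 5, 4, 3, 1, 0, 4, 0, 4], [4, 3, 4, 2, 2, 2], [1, 0, 4, 2, 2, 2, 2, 2, 2, 2, 2, 0],
    [4, 0, 1, 0, 4, 2, 2, 2, 2, 2, 2, 2, 2, 2, 2, 0, 1, 0],
    [5, 5, 5, 5, 5, 5, 5, 5, 5, 5, 5, 5, 5, 4, 3, 1, 0, 4, 0],
    [0, 1, 0, 4, 0, 1, 0, 4, 2, 2, 2, 2, 2, 2, 2, 2, 2, 2, 2], [4, 2, 2, 2, 2, 2, 2, 2, 2, 2],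
    [5, 5, 5, 5, 5, 5, 5, 5, 5, 1, 0, 4, 0, 4], [3, 2, 2, 2, 2, 2, 2, 2, 2, 2, 1, 0],
    [5, 5, 5, 5, 5, 5, 5, 5, 5, 5, 1, 0, 1, 0, 4, 0, 1],
    [5, 5, 5, 5, 5, 5, 5, 5, 5, 5, 5, 4, 0, 4, 0, 1],
    [4, 0, 4, 0, 1, 0, 4, 2, 2, 2, 2, 2, 2, 2, 2, 2, 2, 2, 2],
    [5, 5, 5, 5, 5, 5, 5, 4, 3, 4, 0], [3, 2, 2, 2, 1, 0, 1, 0],
    [1, 3, 1, 0, 4, 2, 2, 2, 2, 2, 2, 2, 2, 2, 2, 2, 2, 2],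
    [4, 2, 2, 2, 2, 2, 2, 2, 2, 2, 2, 2, 2, 0], [5, 0, 4, 0, 1, 0, 4, 0, 1],
    [5, 5, 5, 5, 5, 5, 0, 1, 0, 4, 0, 1, 0, 4, 0], [1, 0, 4],
    [5, 5, 5, 5, 5, 1, 0, 1, 0, 4, 0], [5, 5, 5, 5, 5, 5, 5, 5, 5, 5, 5, 3, 1, 0, 4, 0, 4],
    [2, 2, 0, 1], [5, 5, 5, 5, 5, 5, 5, 5, 1, 0, 4, 0, 1, 0, 4, 0, 1, 0],
    [0, 4, 0, 4, 2, 2, 2, 2, 2, 2, 0], [2, 2, 2, 2, 2, 2, 1, 0, 1],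
    [1, 0, 4, 0, 1, 0, 4, 2, 2, 2, 2, 2, 0, 1], [5, 5, 5, 5, 4, 3, 1, 0, 4],
    [5, 5, 5, 5, 5, 5, 5, 1, 3, 1, 0], [5, 5, 5, 5, 5, 5, 5, 5, 5, 0, 4, 0, 1, 0, 4],
    [5, 5, 5, 5, 0, 1, 0, 4, 0, 1, 0], [5, 5, 1, 3, 4, 0, 1], [1, 0, 4, 2, 2, 2, 0, 1, 0, 1],
    [1, 3, 4, 0, 1, 0, 4, 2, 2, 2, 2, 2, 2, 0], [5, 5, 5, 5, 5, 4, 0, 1, 0, 1],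
    [0, 1, 0, 4, 2, 2, 2], [5, 5, 5, 5, 5, 5, 5, 5, 5, 5, 5, 5, 5, 1, 0, 4, 0, 1, 0],
    [5, 5, 5, 5, 1, 0, 1, 0, 4, 0, 1, 0], [3, 4, 2, 2], [4, 3, 2, 1],
    [5, 5, 5, 5, 4, 3, 4, 0, 1, 0, 1], [5, 5, 5, 0, 1, 0, 1], [5, 5, 0, 4, 0, 1, 0, 4, 0],
    [5, 5, 5, 5, 5, 3, 4, 0, 1, 0, 4, 0, 1, 0], [0, 1, 0, 4, 0],
    [5, 5, 5, 5, 5, 5, 1, 0, 4, 0, 1, 0, 4], [5, 5, 5, 0, 4, 0, 4],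
    [5, 5, 5, 5, 5, 5, 5, 5, 5, 5, 5, 5, 5, 0, 4, 0, 1],
    [1, 3, 1, 0, 4, 0, 4, 2, 2, 2, 2, 2, 2, 2, 2, 2, 2, 2],
    [3, 4, 2, 2, 2, 2, 2, 2, 2, 2, 2, 2, 2, 2, 0],
    [5, 5, 5, 5, 5, 5, 5, 5, 5, 4, 3, 4, 0, 1, 0], [1, 3, 2, 2, 2, 2, 2, 2, 2, 2, 2, 2, 2, 2],
    [3, 4, 2, 2, 2, 2, 2, 2, 2, 2, 2, 2, 2, 2, 2, 0, 1, 0, 1],
    [5, 5, 5, 5, 5, 4, 3, 1, 0, 4, 0, 1],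
    [4, 3, 4, 0, 1, 0, 4, 2, 2, 2, 2, 2, 2, 2, 2, 2, 2, 2, 0], [2, 2, 2],
    [0, 1, 0, 4, 2, 2, 0], [1, 3, 4, 0, 1, 0, 4, 2, 2, 2, 2, 2, 2, 2, 2, 0],
    [2, 2, 2, 2, 0, 1], [5, 5, 5, 5, 5, 5, 5, 5, 5, 4, 0, 4, 0, 1],
    [2, 2, 2, 2, 2, 2, 2, 2, 2, 2, 2, 2, 2, 2, 1],
    [1, 3, 1, 0, 4, 0, 4, 2, 2, 2, 2, 2, 2, 2, 2, 2, 2, 2, 2, 2],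
    [5, 5, 1, 0, 1, 0, 4, 0, 1, 0], [1, 0, 4, 0, 1, 0, 4, 2, 2, 2, 2, 2, 2, 2, 0, 1],
    [5, 5, 5, 5, 5, 5, 5, 5, 5, 5, 5, 5, 5, 5, 1, 3, 1, 0, 4],
    [4, 0, 1, 0, 4, 2, 2, 2, 2, 2, 2, 2, 2, 2, 2, 2, 2, 0, 1, 0],
    [5, 5, 5, 5, 5, 5, 5, 5, 5, 5, 5, 5, 5, 5, 3, 4, 0, 1, 0, 1], [5, 0, 1, 0, 1],
    [5, 5, 0, 1, 0, 4, 0, 1, 0], [1, 0, 4, 2, 2], [5, 5, 5, 5, 5, 5, 5, 1, 0, 4, 0, 4],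
    [4, 3, 2, 2, 1, 0], [5, 5, 5, 5, 1, 0, 4, 0, 1, 0, 4], [5, 5, 5, 4, 0, 1, 0, 1],
    [5, 5, 5, 5, 5, 5, 1, 0, 4, 0, 1, 0, 4, 0, 1, 0],
    [4, 0, 4, 0, 1, 0, 4, 2, 2, 2, 2, 2, 2, 2, 2, 2, 2, 2, 2, 2, 2], [4, 3, 1, 0, 4, 0, 4],
    [3, 4, 2, 2, 2, 2, 2, 2, 2, 2, 2, 2, 2, 2, 2, 2, 0], [3, 4, 2, 2, 2, 2],
    [5, 5, 4, 3, 1, 0, 4], [4, 2, 2, 2, 2, 2, 2, 2, 2, 2, 2, 2, 2, 2, 2, 0],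
    [5, 5, 5, 5, 5, 5, 5, 5, 5, 5, 5, 4, 3, 1, 0, 4, 0], [5, 5, 5, 4, 3, 1, 0, 4, 0, 1],
    [0, 4, 0, 1, 0, 4, 0], [1, 3, 4, 0, 1], [5, 5, 5, 1, 0, 1, 0, 4, 0],
    [3, 2, 2, 2, 2, 2, 2, 2, 2, 2, 2, 2, 1, 0], [3, 4, 2, 2, 2, 0, 1, 0], [5, 0, 4, 0, 4],
    [0, 1, 0, 4, 2, 2, 2, 2, 2], [0, 4, 0, 4, 2, 2, 2, 2, 2, 2, 2, 2, 0],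
    [5, 5, 5, 5, 5, 4, 3, 4, 0], [4, 3, 4, 2, 2, 2, 2, 2],
    [5, 5, 5, 5, 5, 5, 5, 4, 3, 4, 0, 1, 0], [4, 3, 2, 2, 2, 1], [5, 5, 5, 5, 5, 1, 3, 1, 0],
    [0, 4, 0, 1, 0, 4, 2, 0, 1],
    [0, 1, 0, 4, 0, 1, 0, 4, 2, 2, 2, 2, 2, 2, 2, 2, 2, 2, 2, 2, 2],
    [4, 3, 4, 0, 1, 0, 4, 2, 2, 2, 2, 2, 2, 2, 2, 2, 2, 2, 2, 2, 0],
    [5, 5, 5, 3, 4, 0, 1, 0, 4, 0, 1, 0], [1, 0, 4, 2, 2, 2, 2, 2, 0, 1, 0, 1],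
    [5, 5, 5, 5, 5, 5, 5, 5, 5, 3, 1, 0, 4, 0, 4],
    [5, 5, 5, 5, 5, 5, 5, 5, 1, 0, 1, 0, 4, 0, 1], [5, 5, 5, 5, 5, 5, 5, 3, 1, 0, 4, 0, 1],
    [5, 5, 5, 5, 5, 5, 5, 5, 5, 5, 5, 0, 4, 0, 1],
    [5, 5, 5, 5, 5, 5, 5, 5, 5, 5, 5, 1, 0, 4, 0, 1, 0], [2, 2, 2, 2, 2, 2, 2, 2, 1, 0, 1],
    [3, 2, 2, 2, 2, 2, 1, 0, 1, 0], [1, 0, 4, 2, 2, 2, 2, 2, 2, 2, 2, 2, 2, 0],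
    [1, 3, 2, 2, 2, 2, 2, 2, 2, 2, 2, 2, 2, 2, 2, 2], [5, 5, 4, 3, 4, 0, 1, 0, 1],
    [5, 5, 5, 5, 5, 5, 5, 0, 4, 0, 1, 0, 4], [5, 5, 5, 5, 0, 1, 0, 4, 0, 1, 0, 4, 0],
    [4, 2, 2, 2, 2, 2, 2, 2, 2, 2, 2, 2], [2, 2, 2, 2, 2, 2, 2, 2, 2, 2, 2, 0, 0],
    [5, 5, 5, 1, 3, 4, 0, 1, 0], [3, 4, 0, 1, 0, 4, 2, 2, 2, 2, 2, 2, 2, 2, 2, 0, 1],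
    [0, 4, 2, 2, 2, 2, 2, 2, 2, 2, 2, 2, 2, 0, 1, 0],
    [0, 4, 2, 2, 2, 2, 2, 2, 2, 2, 2, 2, 2, 2], [1, 3, 4, 2, 2, 2, 2, 2, 2, 2, 2, 2, 2],
    [5, 5, 5, 5, 5, 5, 5, 1, 0, 0], [4, 0, 4, 2, 2, 2, 2, 2, 2, 0, 1, 0, 1],
    [5, 0, 1, 0, 4, 0, 4], [4, 0, 4, 2, 2, 2, 2, 2, 2, 2, 2, 2, 2, 2, 2, 2],
    [3, 4, 0, 1, 0, 4, 2, 2, 2, 2, 2, 2, 2, 2, 0], [1, 3, 4, 0, 1, 0, 4, 2, 2, 0, 1, 0],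
    [5, 5, 5, 5, 5, 5, 5, 5, 5, 4, 3, 1, 0, 4, 0, 1, 0],
    [3, 1, 0, 4, 2, 2, 2, 2, 2, 2, 2, 2, 2, 2, 0],
    [5, 5, 5, 5, 5, 5, 5, 5, 5, 5, 5, 5, 5, 1, 3, 1],
    [5, 5, 5, 5, 5, 5, 5, 5, 3, 1, 0, 4, 0, 1, 0, 4], [3, 4, 0, 4, 2, 2, 2, 2, 2, 2, 2],
    [4, 0, 1, 0, 4, 2, 2, 2, 2, 2, 2], [1, 3, 4, 0, 4, 2],
    [5, 5, 5, 5, 5, 5, 5, 5, 1, 0, 1, 0, 4, 0, 4], [3, 4, 0, 1, 0, 4, 2],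
    [1, 3, 1, 0, 4, 0, 1], [4, 0, 4, 2, 0, 1, 0], [1, 0, 4, 2, 2, 2, 2, 2, 2, 2, 2, 0, 1],
    [5, 5, 5, 5, 5, 5, 5, 4, 3, 4, 0, 1, 0, 4], [5, 5, 5, 5, 5, 5, 0, 4, 0, 1, 0, 1],
    [5, 5, 5, 5, 5, 5, 5, 5, 5, 5, 5, 5, 5, 1, 0, 4, 0, 1, 0, 4, 0],
    [2, 2, 2, 2, 2, 2, 2, 2, 2, 2, 2, 2, 2, 0, 1, 0, 1, 0],
    [5, 5, 5, 5, 5, 5, 5, 5, 4, 0, 4, 0, 1, 0, 4, 0],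
    [3, 1, 0, 4, 2, 2, 2, 2, 2, 2, 2, 2, 2, 2, 2, 2, 2], [5, 5, 5, 5, 5, 5, 5, 4, 3],
    [4, 2, 2, 2, 2, 2, 2, 2, 2, 2, 2, 0, 1, 0], [1, 3, 1, 0, 4, 2, 2, 2, 2, 2, 2, 0, 1, 0],
    [3, 1, 0, 4, 0, 1, 0, 4, 2, 2, 2, 2, 0], [0, 1, 0, 4, 2, 0, 1],
    [4, 2, 2, 2, 2, 2, 2, 2, 2, 2, 2, 2, 0, 1], [1, 3, 1, 0, 4, 2, 2, 2, 2, 2, 0],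
    [4, 0, 1, 0, 4, 0, 4, 2, 2, 2, 2, 2, 2, 2, 2], [3, 2, 2, 2, 2, 2, 2, 2, 1, 0, 1],
    [3, 2, 2, 2, 2, 2, 2, 2, 2, 2, 2, 2, 2, 1], [5, 5, 5, 5, 5, 5, 5, 5, 5, 5, 5, 1, 3, 4, 0],
    [0, 4, 0, 1, 0, 4, 2, 2, 2, 2, 2, 0, 1, 0],
    [5, 5, 5, 5, 5, 5, 5, 5, 5, 5, 5, 5, 5, 3, 4, 0, 4, 0], [5, 5, 5, 4, 0, 1, 0, 4, 0],
    [1, 3, 4, 0, 1, 0, 4, 2, 2, 2, 2],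
    [5, 5, 5, 5, 5, 5, 5, 5, 5, 5, 5, 5, 5, 5, 1, 3, 4, 0, 1, 0, 4, 0, 1],
    [5, 5, 5, 5, 5, 5, 5, 5, 5, 5, 4, 0, 0], [5, 5, 5, 3, 4, 0, 1], [2, 2, 2, 1, 0, 1, 0],
    [5, 5, 5, 5, 5, 5, 5, 5, 5, 5, 0, 1, 0], [5, 5, 5, 5, 5, 5, 5, 0, 4, 0],
    [3, 1, 0, 4, 2, 2, 2, 2, 2, 2, 0, 1, 0], [5, 4, 3, 4, 0, 1], [5, 5, 5, 5, 5, 5, 5, 1, 0],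
    [1, 3, 4, 2, 2, 2, 2, 2, 2, 2, 2, 2, 2, 2, 2, 2, 0, 1, 0, 1], [4, 0, 4, 2, 2, 2, 0],
    [4, 0, 1, 0, 4, 2, 2, 2, 2, 2, 0, 1], [4, 3, 2, 2, 2, 2, 2, 1, 0, 1],
    [5, 5, 5, 5, 5, 5, 1, 0, 1, 0, 4], [2, 2, 2, 2, 2, 2, 2, 2, 2],
    [5, 5, 5, 5, 5, 4, 3, 1, 0, 4, 0], [3, 2, 2, 2, 2, 2, 2, 2, 2, 2, 2, 2, 1, 0, 1, 0],
    [1, 0, 4, 0, 1, 0, 4, 0, 1, 0], [1, 0, 4, 2, 2, 2, 2, 2, 2, 2, 2, 2, 2, 2, 0, 1, 0, 1],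
    [2, 2, 2, 2, 2, 0, 1, 0, 1], [5, 4, 3, 4, 0, 1, 0], [5, 5, 5, 5, 5, 5, 5, 5, 5, 1],
    [5, 5, 5, 5, 5, 5, 5, 5, 5, 5, 5, 5, 3, 1, 0], [0, 1, 0, 4, 0, 1, 0, 4, 2, 2, 0],
    [4, 3, 1, 0, 4, 2, 2, 2, 2], [5, 5, 5, 5, 5, 1, 0, 4, 0, 1, 0],
    [1, 0, 4, 0, 1, 0, 4, 2, 2], [5, 5, 5, 5, 5, 5, 5, 5, 5, 5, 4, 3, 4, 0, 1, 0, 4, 0],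
    [5, 5, 5, 5, 5, 5, 5, 5, 5, 5, 5, 4, 0, 1, 0, 4, 0, 1, 0], [4, 3, 4, 2, 0],
    [2, 2, 2, 2, 2, 2, 2, 2, 2, 2, 0, 1], [1, 3, 4, 2, 2, 2, 2, 2, 2, 0, 1],
    [4, 3, 4, 2, 2, 2, 2, 0, 1, 0, 1], [5, 5, 5, 5, 5, 5, 5, 5, 5, 3, 4, 0],
    [5, 3, 1, 0, 4, 0, 1], [5, 1, 0, 4, 0, 4], [0, 4, 0, 1, 0, 4, 2, 2, 2, 2, 2, 2, 2, 0, 1],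
    [1, 0, 4, 0, 1, 0, 4, 2, 2, 2, 2, 2, 2, 2, 2, 2, 2, 2, 2, 2, 0, 1],
    [0, 1, 0, 4, 2, 2, 2, 2, 2, 2, 2, 2, 2, 2, 2], [0, 1, 0, 4, 2, 2, 2, 2, 2, 2, 2, 2, 0],
    [4, 3, 1, 0, 4, 2, 2, 2, 0, 1], [5, 5, 5, 5, 5, 5, 5, 5, 5, 5, 5, 5, 5, 1, 0, 4, 0],
    [5, 5, 5, 5, 5, 5, 5, 5, 5, 4, 0, 4, 0, 1, 0, 4], [5, 5, 5, 3, 1, 0, 4, 0, 4],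
    [0, 1, 0, 4, 2, 2, 2, 2, 0, 1, 0], [4, 3, 2, 2, 2, 2, 2, 2, 2, 2, 2, 1],
    [5, 5, 5, 5, 5, 5, 5, 5, 5, 5, 1, 3, 1, 0, 4, 0, 4],
    [3, 4, 2, 2, 2, 2, 2, 2, 2, 2, 2, 0, 1, 0], [5, 5, 5, 5, 5, 5, 5, 5, 5, 5, 5, 5, 4],
    [5, 5, 5, 5, 5, 5, 5, 5, 5, 4, 0], [2, 2, 2, 2, 2, 2, 2, 2, 2, 2, 2, 2, 2, 2, 1, 0, 1],
    [4, 2, 2, 2, 0, 1, 0, 1], [3, 4, 0, 1, 0, 4, 2, 2, 2, 0, 1, 0],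
    [5, 5, 5, 5, 5, 5, 5, 5, 3, 4, 0, 1, 0, 1], [4, 3, 4, 2, 2, 2, 2, 2, 2, 2, 2, 2, 2, 2],
    [5, 5, 5, 4, 0, 4, 0, 1], [1, 0, 1, 0, 4, 2, 2, 2, 0], [5, 0, 4, 0, 1, 0, 4],
    [3, 4, 2, 2, 2, 2, 2, 2, 2, 2, 2, 2], [5, 5, 5, 5, 5, 0, 4, 0, 1],
    [4, 3, 2, 2, 2, 2, 2, 2, 2, 2, 1, 0],
    [5, 5, 5, 5, 5, 5, 5, 5, 5, 5, 0, 1, 0, 4, 0, 1, 0, 4],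
    [5, 5, 5, 5, 5, 5, 5, 5, 1, 3, 1, 0, 4],
    [0, 4, 0, 4, 2, 2, 2, 2, 2, 2, 2, 2, 2, 2, 2, 2, 2, 2, 0],
    [1, 3, 4, 0, 1, 0, 4, 2, 2, 2, 2, 2, 2, 2, 2, 2, 2, 2, 2, 2, 2, 0],
    [0, 4, 0, 1, 0, 4, 2, 2, 2, 2, 2, 2, 0], [5, 5, 5, 5, 5, 5, 5, 5, 5, 1, 3],
    [4, 3, 1, 0, 4, 0, 4, 2, 2, 2, 2, 2, 2], [5, 5, 1, 0, 1, 0, 4, 0, 1],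
    [1, 0, 4, 2, 2, 2, 2, 2, 2, 2, 2], [1, 3, 2, 1, 0], [1, 0, 1, 0, 4, 2, 2, 2, 2, 0, 1, 0],
    [0, 4, 0, 4, 2, 2, 2, 2, 2], [5, 5, 5, 5, 5, 5, 5, 5, 5, 5, 5, 5, 5, 0, 0],
    [5, 5, 5, 5, 5, 5, 5, 5, 5, 1, 3, 4, 0, 1, 0, 4, 0, 1],
    [5, 5, 5, 5, 5, 5, 5, 5, 5, 5, 5, 5, 5, 5, 4, 0, 1, 0],
    [4, 0, 1, 0, 4, 2, 2, 2, 2, 2, 2, 2, 2, 2, 2, 2],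
    [5, 5, 5, 5, 5, 5, 5, 5, 5, 5, 5, 5, 5, 0, 4, 0, 1, 0],
    [2, 2, 2, 2, 2, 2, 2, 2, 1, 0, 1, 0], [0, 1, 0, 4, 2, 2, 2, 2, 2, 2, 0, 1],
    [3, 4, 0, 1, 0, 4, 2, 2, 2, 2, 2, 2], [5, 5, 1, 0, 0],
    [3, 1, 0, 4, 2, 2, 2, 2, 2, 2, 2, 2, 2, 2, 2, 0, 1, 0],
    [4, 0, 1, 0, 4, 0, 4, 2, 2, 2, 2, 2, 2, 2, 2, 2, 2, 2, 2, 2],
    [1, 0, 4, 2, 2, 2, 2, 2, 2, 2, 2, 2, 2, 2, 2, 2, 0, 1],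
    [5, 5, 5, 5, 5, 5, 5, 5, 5, 5, 5, 4, 0, 4],
    [5, 5, 5, 5, 5, 5, 5, 5, 5, 5, 5, 1, 3, 4, 0, 1, 0, 1], [5, 5, 5, 5, 5, 5, 1, 3, 4, 0],
    [5, 5, 5, 5, 5, 5, 5, 5, 1, 0, 4, 0, 1, 0, 4, 0], [5, 5, 5, 5, 4, 3, 1, 0, 4, 0, 1, 0],
    [4, 3, 2, 2, 2, 2, 2, 2, 2, 2, 2, 2, 1, 0, 1], [4, 0, 1, 0, 4, 2, 2, 0],
    [5, 5, 5, 5, 5, 5, 5, 5, 5, 5, 5, 3, 1, 0, 4], [5, 5, 5, 3, 1, 0, 4, 0, 1, 0, 4],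
    [1, 3, 4, 2, 2, 0, 1, 0], [5, 5, 5, 5, 5, 4, 0, 0],
    [1, 3, 1, 0, 4, 2, 2, 2, 2, 2, 2, 2, 2, 2, 2, 2, 0, 1, 0],
    [1, 3, 4, 0, 4, 2, 2, 2, 2, 2, 2], [5, 5, 5, 5, 5, 5, 5, 5, 5, 5, 5, 5, 0, 4],
    [5, 5, 5, 5, 5, 0, 1, 0], [5, 5, 5, 5, 5, 5, 5, 5, 5, 5, 5, 5, 5, 4, 0, 1],
    [1, 3, 1, 0, 4, 2, 2, 2, 2, 2, 0, 1],
    [4, 0, 4, 2, 2, 2, 2, 2, 2, 2, 2, 2, 2, 2, 0, 1, 0, 1], [4, 3, 4, 2, 2, 2, 2, 0, 1],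
    [3, 2, 2, 2, 2, 2, 2, 2, 2, 2, 2, 2, 2, 1, 0, 1], [5, 5, 4, 3, 4, 0, 1, 0, 4],
    [3, 4, 0, 1, 0, 4, 2, 2, 2, 2, 2, 2, 2, 2, 2, 2, 2, 2, 2, 0],
    [4, 0, 4, 2, 2, 2, 2, 2, 2, 2, 2, 0],
    [0, 4, 0, 1, 0, 4, 2, 2, 2, 2, 2, 2, 2, 2, 2, 2, 0, 1, 0],
    [5, 5, 5, 5, 5, 5, 5, 5, 5, 5, 5, 0, 1, 0, 1, 0],
    [5, 5, 5, 5, 5, 5, 5, 5, 5, 5, 5, 5, 5, 5, 3, 1, 0, 4, 0], [5, 1, 0, 1, 0, 4],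
    [1, 3, 4, 0, 1, 0, 4, 2, 2, 2, 2, 2, 2, 2, 2, 2], [5, 5, 4, 3],
    [3, 4, 0, 4, 2, 2, 2, 2, 2, 2, 2, 2, 2, 2, 2, 2],
    [3, 4, 0, 1, 0, 4, 2, 2, 2, 2, 2, 2, 2, 2, 2, 2, 2, 2, 2, 2, 0, 1], [3, 4, 2, 2, 0, 1],
    [3, 1, 0, 4, 0, 1, 0, 4, 2, 2, 2, 2, 2, 2, 2, 2, 2, 0], [5, 5, 5, 1, 0, 1, 0, 4, 0, 4],
    [5, 5, 5, 5, 5, 5, 5, 5, 5, 5, 5, 5, 5, 5, 1, 3, 4], [5, 5, 0, 4, 0],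
    [1, 3, 1, 0, 4, 2, 2, 2, 2, 2, 2, 2, 2, 2, 2, 0], [4, 0, 4, 2, 2, 2, 2, 2, 2, 0, 1, 0],
    [0, 1, 0, 4, 0, 4, 2, 2, 2, 2], [5, 5, 1, 0], [5, 5, 5, 5, 5, 5, 5, 5, 5, 5, 5, 5, 3, 1],
    [5, 0, 4, 0, 1, 0, 1], [1, 3, 4, 0, 1, 0, 4, 2, 2, 2, 2, 2, 2, 2, 0, 1, 0],
    [4, 0, 1, 0, 4, 2, 2, 2, 2, 2, 2, 2, 2, 2, 2, 0, 1],
    [5, 5, 5, 5, 5, 5, 5, 5, 3, 4, 0, 4, 0], [5, 5, 5, 4, 0, 4, 0, 1, 0, 4, 0],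
    [5, 5, 5, 5, 5, 5, 5, 5, 1, 3, 1], [5, 5, 5, 5, 5, 5, 5, 5], [5, 1, 0, 4, 0],
    [1, 0, 1, 0, 4, 2, 2, 2, 2, 2, 2, 2, 2, 2, 2, 0, 1],
    [5, 5, 5, 5, 5, 5, 5, 5, 5, 5, 0, 4, 0, 1, 0, 4, 0, 1], [5, 5, 5, 0, 4, 0, 4, 0],
    [5, 5, 5, 5, 5, 5, 5, 5, 5, 5, 5, 1, 3, 4, 0, 1], [5, 5, 5, 5, 5, 5, 5, 3, 4],
    [1, 0, 4, 0, 1, 0, 4, 2, 2, 2, 2, 2, 2, 2, 2, 2, 2, 2, 2, 2, 2],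
    [3, 4, 2, 2, 2, 2, 0, 1, 0, 1], [2, 2, 2, 1], [4], [5, 5, 5, 5, 5, 5, 3, 1, 0, 1, 0],
    [3, 1, 0, 4, 0, 4, 2, 2, 2, 2, 2, 2, 2, 2, 2],
    [1, 3, 2, 2, 2, 2, 2, 2, 2, 2, 2, 2, 2, 2, 2, 1, 0], [5, 5, 5, 5, 5, 5, 0, 1, 0, 4],
    [5, 5, 5, 5, 5, 5, 5, 5, 5, 5, 5, 0, 4, 0, 1, 0, 4, 0], [3, 4, 2, 2, 2, 0],
    [5, 5, 5, 5, 5, 5, 5, 5, 5, 4, 3, 1, 0], [4, 0, 1, 0, 4, 2, 0, 1, 0],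
    [4, 0, 4, 2, 2, 2, 2, 2, 2, 2, 2, 2, 0, 1],
    [0, 1, 0, 4, 0, 1, 0, 4, 2, 2, 2, 2, 2, 2, 2, 2, 2, 2, 2, 2, 2, 2, 0], [5, 5, 5, 1, 0, 1],
    [5, 5, 5, 5, 5, 5, 1, 0, 4, 0, 1, 0, 1], [5, 5, 5, 5, 5, 5, 5, 5, 4, 3, 1],
    [5, 5, 5, 5, 5, 5, 5, 5, 5, 5, 5, 5, 0, 4, 0, 4],
    [5, 5, 5, 5, 5, 5, 5, 5, 5, 5, 5, 5, 5, 5, 4, 3, 1, 0, 4, 0, 1],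
    [5, 5, 5, 5, 5, 5, 5, 5, 5, 5, 5, 4, 3, 1, 0, 4, 0, 4],
    [1, 0, 4, 0, 4, 2, 2, 2, 2, 2, 2, 2, 2, 2, 2, 2], [1, 3, 1, 0, 4, 2, 2, 2, 2],
    [5, 5, 5, 5, 5, 5, 5, 0, 1], [0, 4, 0, 1, 0, 4, 2, 2, 2, 2, 2, 2, 2, 2, 2, 2, 2],
    [1, 0, 4, 2, 2, 2, 2, 2, 2, 2, 0, 1, 0],
    [5, 5, 5, 5, 5, 5, 5, 5, 5, 5, 5, 5, 5, 5, 3, 4, 0, 1, 0, 4, 0, 1, 0],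
    [4, 3, 4, 2, 2, 2, 2, 2, 2, 2, 2, 2, 2, 2, 0, 1, 0],
    [5, 5, 5, 5, 5, 5, 5, 5, 3, 4, 0, 1, 0], [4, 3, 1, 0, 4, 2, 2, 2, 2, 2, 2, 2, 0],
    [4, 0, 4, 0, 1, 0, 4, 2, 2, 2], [5, 5, 5, 5, 5, 5, 5, 5, 5, 1, 0, 4],
    [5, 5, 5, 5, 1, 0, 4, 0, 1, 0, 4, 0, 1], [5, 5, 5, 1, 3, 4, 0, 1, 0, 4, 0],
    [5, 5, 5, 5, 5, 5, 5, 5, 5, 5, 5, 5, 5, 4, 3, 4, 0, 1, 0, 1],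
    [0, 4, 2, 2, 2, 2, 2, 2, 2, 0, 1], [4, 3, 4, 0, 1, 0, 4, 2, 2, 0],
    [5, 5, 5, 5, 5, 5, 4, 3, 4], [3, 1, 0], [4, 2, 2, 2, 0],
    [1, 0, 4, 0, 1, 0, 4, 2, 2, 2, 2, 2, 2, 2, 2, 2, 2, 2, 2, 0, 1, 0],
    [5, 5, 5, 5, 5, 5, 5, 5, 5, 5, 5, 5, 5, 0, 1, 0, 4, 0, 1, 0],
    [5, 5, 5, 5, 5, 5, 5, 5, 5, 5, 5, 5, 5, 1, 0, 1, 0, 4, 0, 1, 0],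
    [5, 5, 5, 5, 5, 5, 5, 5, 5, 0, 1, 0, 4, 0], [1, 3, 2, 2, 2],
    [3, 1, 0, 4, 2, 2, 2, 2, 2, 2, 2, 2, 2, 2, 2, 0, 1], [0, 1, 0, 4, 0, 1, 0, 4, 2, 2],
    [4, 3, 4, 2, 2, 2, 2, 2, 2, 2, 2, 2, 2, 2, 2, 2, 0],
    [5, 5, 5, 5, 5, 5, 5, 5, 5, 5, 5, 5, 5, 5, 1, 0, 1, 0, 4, 0],
    [5, 5, 5, 5, 5, 5, 5, 5, 5, 5, 5, 5, 5, 4, 3, 1, 0, 4],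
    [5, 5, 5, 5, 5, 5, 5, 5, 5, 5, 5, 5, 5, 5, 4, 0, 1, 0, 1],
    [5, 5, 5, 5, 5, 5, 5, 5, 5, 5, 5, 5, 0, 1, 0, 1], [1, 3, 1, 0, 4, 0, 4, 2, 2],
    [5, 5, 5, 5, 5, 5, 5, 5, 5, 5, 5, 0, 0],
    [1, 3, 1, 0, 4, 2, 2, 2, 2, 2, 2, 2, 2, 2, 2, 2, 2, 0],
    [5, 5, 5, 5, 5, 5, 5, 5, 5, 5, 5, 5, 3, 1, 0, 4, 0], [5, 5, 5, 0, 1, 0],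
    [5, 5, 5, 5, 5, 5, 1, 0, 4, 0, 1, 0, 4, 0],
    [5, 5, 5, 5, 5, 5, 5, 5, 5, 5, 5, 0, 4, 0, 1, 0], [5, 5, 5, 5, 5, 5, 5, 5, 5, 5, 3, 1],
    [3, 4, 0, 4, 2, 2, 2, 2, 2, 2, 2, 2, 2, 2, 2, 2, 2, 2], [4, 3, 4, 2, 2, 2, 2, 2, 2, 0, 1],
    [5, 5, 5, 5, 5, 5, 5, 5, 5, 3, 1, 0, 4], [1, 0, 0], [5, 5, 5, 5, 5, 5, 3, 4, 0, 4, 0],
    [5, 1, 0, 1, 0, 4, 0, 4], [4, 0, 4, 2, 2, 2, 2, 2, 2, 2, 2, 2, 2, 0],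
    [1, 3, 1, 0, 4, 2, 2, 2, 2, 2, 2, 2, 2, 2, 2, 2, 2, 2, 0, 1, 0],
    [5, 5, 5, 5, 5, 5, 5, 5, 5, 4, 0, 4], [5, 5, 5, 5, 5, 5, 5, 1, 3, 4, 0, 1, 0, 4, 0, 1],
    [4, 0, 4, 2, 2, 2, 2, 2, 2, 2, 2, 0, 1, 0], [1, 0, 1, 0, 4, 2],
    [5, 5, 5, 5, 5, 5, 5, 5, 5, 5, 5, 4, 0, 1], [5, 5, 4, 3, 1, 0, 4, 0, 1, 0],
    [2, 2, 2, 2, 2, 2, 2, 2, 2, 2, 1, 0, 1, 0], [0, 4, 2, 0, 1, 0, 1],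
    [5, 5, 5, 5, 5, 5, 5, 5, 5, 5, 5, 5, 5, 3, 4, 0, 1, 0, 4, 0, 1],
    [3, 2, 2, 2, 2, 2, 2, 2, 2, 2, 2, 2, 2, 2, 2, 1, 0, 1], [5, 3, 1, 0, 4, 0, 1, 0, 4],
    [3, 1, 0, 4, 2, 2, 2, 2, 2, 2, 2, 2, 2, 2, 2, 2, 2, 0, 1, 0], [5, 4, 0, 4, 0, 1, 0, 4, 0],
    [5, 5, 5, 5, 5, 5, 5, 5, 5, 5, 5, 5, 1, 3, 4],
    [0, 4, 0, 1, 0, 4, 2, 2, 2, 2, 2, 2, 2, 2, 2, 2, 2, 2, 0, 1, 0],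
    [1, 3, 4, 0, 4, 2, 2, 2, 2, 2, 2, 2, 2], [5, 5, 5, 5, 5, 5, 5, 5, 5, 1, 3, 4, 0, 1, 0, 1],
    [5, 5, 5, 5, 5, 5, 5, 5, 5, 5, 5, 5, 4, 0, 1, 0], [0, 1, 0, 4, 0, 4, 2, 2, 2, 2, 2, 2],
    [1, 3, 4, 0, 1, 0, 4, 2, 2, 2, 2, 2, 2, 2, 2, 2, 2, 2],
    [1, 3, 1, 0, 4, 2, 2, 2, 2, 2, 2, 2, 0, 1],
    [4, 3, 2, 2, 2, 2, 2, 2, 2, 2, 2, 2, 2, 2, 1, 0, 1],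
    [0, 1, 0, 4, 2, 2, 2, 2, 2, 2, 2, 2, 0, 1],
    [1, 3, 4, 0, 1, 0, 4, 2, 2, 2, 2, 2, 2, 2, 2, 2, 0, 1, 0], [3, 4, 2, 2, 2, 2, 0, 1],
    [4, 3, 4, 0, 1, 0, 4], [1, 3, 4, 2, 2, 2, 2, 0, 1, 0],
    [5, 5, 5, 5, 5, 5, 5, 5, 5, 5, 5, 5, 5, 5, 4, 0, 1, 0, 4, 0, 4],
    [5, 5, 5, 5, 5, 5, 1, 3, 1], [0, 4, 0], [5, 5, 5, 5, 5, 5, 5, 5, 5, 0, 1, 0, 1, 0],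
    [5, 5, 5, 5, 5, 5, 5, 5, 5, 5, 0, 4], [5, 5, 5, 5, 1, 3, 4, 0],
    [4, 0, 1, 0, 4, 2, 2, 2, 2, 2, 2, 2, 2, 2, 2, 2, 2, 2], [1, 0], [4, 3],
    [4, 0, 4, 2, 2, 2, 2, 2, 2, 2, 2, 2, 2, 2, 2, 2, 0, 1, 0, 1],
    [4, 0, 1, 0, 4, 2, 2, 2, 2, 0], [3, 4, 0, 1, 0, 4, 2, 2, 2, 2, 2, 2, 2, 2],
    [4, 0, 1, 0, 4, 2, 2, 2, 2, 2, 2, 2, 2, 2, 2, 2, 2, 0, 1],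
    [3, 1, 0, 4, 0, 1, 0, 4, 2, 2, 2, 2, 2, 2, 2, 2, 2, 2, 2, 0],
    [5, 5, 5, 5, 5, 5, 5, 5, 5, 5, 5, 5, 5, 5, 3, 4, 0, 1, 0, 4, 0], [5, 5, 5, 4, 0, 0],
    [5, 5, 5, 5, 5, 5, 5, 5, 5, 5, 5, 5, 5, 5, 1, 0, 4, 0, 1], [5, 5, 0, 0],
    [5, 5, 5, 5, 5, 5, 5, 5, 5, 5, 5, 5, 4, 0, 4, 0, 1, 0],
    [5, 5, 5, 5, 5, 5, 5, 5, 5, 1, 3, 4, 0, 1, 0, 4],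
    [5, 5, 5, 5, 5, 5, 5, 4, 0, 4, 0, 1, 0, 1], [3, 1, 0, 4],
    [5, 5, 5, 5, 5, 5, 5, 3, 1, 0, 4, 0, 1, 0], [1, 3, 2, 2, 2, 1],
    [5, 5, 5, 5, 5, 5, 5, 5, 1, 3, 1, 0, 4, 0], [1, 0, 1, 0, 4, 2, 2, 2, 2, 2, 2, 2, 2, 2, 2],
    [5, 5, 5, 5, 5, 5, 5, 5, 5, 5, 5, 5, 5, 1, 3, 1, 0, 4, 0, 1],
    [4, 0, 1, 0, 4, 2, 2, 2, 2, 2, 2, 2, 2, 2, 2, 2, 2, 2, 0],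
    [2, 2, 2, 2, 2, 2, 2, 2, 2, 1, 0, 0], [4, 0, 4, 0, 1, 0, 4, 2, 2, 2, 2, 2, 2, 2, 2, 0],
    [0, 4, 2, 2, 2, 2, 2, 2, 2, 2, 2, 0], [5, 5, 5, 3, 1, 0, 4, 0], [5, 5, 4, 0, 1],
    [5, 5, 5, 5, 5, 5, 5, 5, 4, 3, 1, 0, 1],
    [5, 5, 5, 5, 5, 5, 5, 5, 5, 5, 5, 5, 3, 4, 0, 1, 0, 4], [3, 4, 0, 4, 2, 2, 2, 0],
    [5, 5, 5, 1, 3, 4], [0, 1, 0, 1, 0], [2, 2, 2, 2, 2, 2, 0, 1, 0],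
    [4, 3, 1, 0, 4, 2, 2, 2, 2, 2, 2, 2, 0, 1, 0],
    [5, 5, 5, 5, 5, 5, 5, 5, 5, 5, 5, 5, 0, 1, 0, 4, 0, 1],
    [5, 5, 5, 5, 5, 5, 5, 5, 4, 0, 1, 0, 4, 0, 1],
    [1, 0, 1, 0, 4, 0, 4, 2, 2, 2, 2, 2, 2, 2, 2],
    [5, 5, 5, 5, 5, 5, 5, 5, 0, 4, 0, 1, 0, 4, 0, 1, 0], [5, 0, 4],
    [1, 0, 4, 0, 1, 0, 4, 2, 2, 2, 0], [5, 5, 5, 5, 5, 5, 5, 5, 5, 5, 1, 0, 1, 0],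
    [5, 5, 5, 5, 5, 5, 5, 5, 5, 5, 5, 1, 3, 4, 0, 1, 0, 4, 0, 1, 0],
    [5, 5, 5, 5, 5, 5, 5, 5, 5, 3, 1, 0, 4, 0, 1, 0, 4, 0],
    [5, 5, 5, 5, 5, 5, 5, 5, 5, 5, 4, 0, 4, 0],
    [5, 5, 5, 5, 5, 5, 5, 5, 5, 5, 5, 5, 1, 3, 4, 0, 4], [1, 3, 4, 2, 2, 2, 2, 2, 0],
    [5, 5, 0, 4, 0, 1, 0], [0, 4, 2, 2, 2, 2, 2, 2, 2, 2, 2, 2, 0, 1, 0, 1],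
    [3, 4, 2, 2, 2, 2, 2, 2, 2, 2, 2, 2, 2, 2, 2, 0, 1], [5, 5, 5, 5, 5, 3, 4, 0, 1, 0, 4, 0],
    [5, 5, 5, 5, 5, 5, 5, 1, 3, 1, 0, 4, 0, 1, 0], [1, 3, 4, 0, 1, 0, 1],
    [5, 5, 5, 5, 5, 5, 5, 4, 0, 1, 0, 4], [5, 3, 1], [5, 5, 5, 5, 3, 4, 0, 1, 0, 4, 0, 1],
    [4, 3, 4, 0, 1, 0, 4, 2, 2, 2, 2, 2, 2, 2, 2, 2], [4, 2, 2, 2, 2, 2, 2, 0, 0], [4, 0, 4],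
    [5, 5, 5, 4, 0, 1, 0], [2, 2, 2, 2, 2, 2, 2, 2, 2, 1, 0], [5, 5, 5, 5, 5, 5, 3, 4, 0, 4],
    [5, 5, 5, 5, 5, 5, 3, 1, 0, 1], [1, 3, 4, 2, 2, 2, 2, 2, 2, 2, 2, 2, 2, 2, 2, 2, 0, 1, 0],
    [5, 5, 5, 5, 5, 1, 0, 4, 0, 1], [1, 3, 4, 0, 1, 0, 4, 2, 2, 0, 1],
    [5, 5, 5, 5, 5, 5, 5, 5, 5, 5, 5, 5, 5, 5, 0, 1, 0, 4, 0, 4],
    [4, 3, 2, 2, 2, 2, 2, 2, 2, 2, 2],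
    [5, 5, 5, 5, 5, 5, 5, 5, 5, 5, 5, 5, 5, 5, 4, 3, 4, 0, 1],
    [3, 1, 0, 4, 0, 1, 0, 4, 2, 2, 2, 2, 2, 2, 2, 2], [5, 5, 5, 5, 5, 4, 0, 1, 0, 4, 0, 4],
    [5, 5, 5], [4, 2, 2, 2, 2, 2, 2, 2, 2, 0],
    [1, 0, 4, 2, 2, 2, 2, 2, 2, 2, 2, 2, 2, 2, 2, 0, 1, 0], [5, 5, 5, 5, 4, 3, 1, 0],
    [5, 5, 5, 5, 5, 0, 4, 0, 1, 0, 4, 0, 1], [5, 5, 5, 5, 5, 5, 5, 5, 1, 0, 1, 0, 4, 0, 1, 0],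
    [5, 5, 5, 3, 4, 0, 1, 0], [5, 5, 5, 5, 5, 5, 5, 5, 5, 5, 0, 1, 0, 4, 0, 1, 0, 4, 0],
    [5, 5, 3, 4], [5, 5, 5, 5, 5, 5, 5, 5, 5, 5, 5, 5, 5, 3, 1, 0, 4, 0, 1],
    [5, 5, 5, 5, 1, 0, 4], [5, 5, 5, 4, 3, 1], [2, 2, 2, 2, 2, 2, 2, 2, 1],
    [5, 5, 5, 5, 5, 5, 5, 5, 5, 1, 0, 1, 0, 4, 0],
    [5, 5, 5, 5, 5, 5, 5, 5, 4, 3, 4, 0, 1, 0, 1], [5, 5, 5, 5, 5, 5, 4, 3, 1, 0, 4, 0, 4],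
    [3, 1, 0, 4, 0, 4, 2, 2, 2, 2, 2, 2, 2, 2, 2, 2, 2, 2, 2, 2],
    [5, 5, 5, 5, 5, 5, 5, 0, 1, 0, 1], [5, 4, 3, 4], [5, 5, 0, 1],
    [5, 5, 5, 5, 5, 5, 0, 4, 0, 1, 0, 4, 0], [1, 0, 4, 2, 2, 2, 2, 0],
    [5, 5, 5, 5, 5, 5, 5, 5, 5, 5, 5, 5, 1, 0, 4, 0, 1, 0, 4, 0, 1, 0],
    [5, 5, 5, 5, 5, 5, 5, 5, 5, 3, 4, 0, 1, 0, 4, 0, 1, 0],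
    [4, 0, 1, 0, 4, 2, 2, 2, 2, 2, 2, 0, 1, 0], [0, 4, 0, 4, 2, 2, 0],
    [5, 5, 5, 5, 0, 1, 0, 4, 0], [4, 3, 1, 0, 4, 2, 2, 2, 2, 2, 2, 2, 2, 2, 2, 2, 2, 0],
    [2, 2, 1, 0, 1], [5, 5, 5, 5, 5, 5, 5, 5, 5, 5, 1, 0, 4, 0, 1, 0, 4],
    [0, 1, 0, 4, 0, 1, 0, 4, 2, 2, 2, 2, 2, 2, 2], [1, 0, 4, 0, 1, 0, 4, 2, 0, 1],
    [5, 5, 5, 5, 5, 5, 5, 0, 4, 0, 4], [4, 2, 2, 2, 2, 2],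
    [5, 5, 5, 5, 5, 5, 5, 5, 4, 3, 1, 0, 4], [0, 4, 2, 2, 2, 2, 2, 2, 2, 2, 2, 2, 2, 2, 0, 1],
    [5, 5, 5, 5, 5, 5, 5, 5, 5, 5, 5, 5, 5, 1, 0, 4, 0, 4],
    [5, 5, 5, 5, 5, 5, 5, 5, 5, 5, 5, 1, 3, 1, 0], [1, 3, 1, 0, 4, 0, 4, 2, 2, 2, 2, 2, 2, 2],
    [3, 2, 2, 2, 2, 2, 1, 0], [5, 5, 5, 5, 5, 5, 5, 5, 5, 5, 5, 5, 5, 0, 4, 0, 1, 0, 4],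
    [3, 4, 2, 2, 2, 2, 2, 2, 2, 2, 0],
    [5, 5, 5, 5, 5, 5, 5, 5, 5, 5, 5, 5, 5, 5, 1, 0, 1, 0, 4, 0, 1],
    [5, 5, 5, 5, 5, 5, 5, 5, 0, 1, 0, 4, 0, 1, 0],
    [5, 5, 5, 5, 5, 5, 5, 5, 5, 5, 5, 5, 5, 4, 3, 4, 0, 1, 0],
    [4, 0, 4, 2, 2, 2, 2, 2, 2, 2, 2, 2, 2, 2, 2, 2, 2, 0, 1],
    [5, 5, 5, 5, 5, 5, 1, 3, 4, 0, 1], [1, 3, 2, 2, 2, 2, 2, 2, 2, 2],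
    [4, 0, 4, 0, 1, 0, 4, 2, 2, 2, 2, 2, 2, 2, 2], [5, 1, 0, 4, 0, 1, 0, 1],
    [3, 4, 2, 2, 2, 2, 2, 2, 2, 2, 2, 0, 1, 0, 1],
    [5, 5, 5, 5, 5, 5, 5, 5, 5, 5, 5, 4, 3, 4, 0], [1, 3, 4, 0, 1, 0, 4, 2, 2, 0],
    [5, 5, 5, 5, 5, 5, 5, 5, 5, 4, 3, 1, 0, 4, 0, 1], [5, 3, 1, 0, 1, 0],
    [5, 5, 5, 5, 5, 5, 5, 5, 5, 4, 0, 1, 0, 1], [4, 3, 4, 0, 1, 0, 4, 2, 2, 2, 2, 2, 2, 2, 0],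
    [1, 3, 1, 0, 4, 2, 2, 2, 2, 2, 2, 2, 2, 2], [5, 0, 1, 0, 4],
    [2, 2, 2, 2, 2, 2, 2, 2, 0, 0], [1, 3, 4, 2, 2, 2, 2, 2, 2, 2],
    [3, 4, 0, 1, 0, 4, 2, 2, 2, 2, 2, 0],
    [5, 5, 5, 5, 5, 5, 5, 5, 5, 5, 5, 3, 1, 0, 4, 0, 1, 0, 4], [5, 5, 3, 4, 0, 1, 0, 4],
    [5, 5, 5, 5, 5, 5, 5, 5, 5, 0, 4, 0, 1, 0, 1], [5, 5, 5, 5, 5, 5, 5, 5, 5, 5, 4, 3],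
    [4, 2, 2, 2, 2, 2, 2, 2, 2, 0, 1], [5, 5, 5, 5, 5, 5, 5, 5, 5, 5, 5, 5, 5, 5, 1, 3, 4, 0],
    [1, 3, 4, 0, 1, 0, 4, 2, 2, 2, 2, 2, 2, 2, 2, 2, 2, 2, 2, 0, 1],
    [5, 5, 5, 5, 5, 5, 5, 5, 5, 5, 0, 4, 0], [4, 0, 4, 0],
    [5, 5, 5, 5, 5, 5, 1, 3, 4, 0, 1, 0], [5, 5, 5, 5, 5, 5, 5, 5, 5, 5, 1, 0, 0],
    [5, 1, 3, 4, 0, 1, 0, 4, 0, 1, 0], [3, 4, 0, 4, 2, 2, 2, 2],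
    [5, 5, 5, 1, 3, 1, 0, 4, 0, 1],
    [1, 0, 4, 0, 1, 0, 4, 2, 2, 2, 2, 2, 2, 2, 2, 2, 2, 2, 2, 2, 0],
    [4, 2, 2, 2, 2, 2, 2, 2, 0, 1, 0], [1, 3, 1, 0, 4, 2, 2, 0],
    [0, 4, 0, 1, 0, 4, 2, 2, 0, 1, 0], [5, 5, 5, 5, 5, 5, 5, 5, 5, 5, 5, 5, 5, 4, 0, 0],
    [3, 1, 0, 4, 2, 2, 2, 0, 1, 0], [4, 0, 1, 0, 4, 2, 2, 0, 1],
    [3, 4, 0, 1, 0, 4, 2, 2, 2, 2, 2, 2, 0, 1], [4, 0, 4, 2, 2, 2, 0, 1, 0, 1],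
    [5, 5, 5, 5, 5, 5, 5, 5, 5, 5, 5, 5, 4, 3, 1, 0, 4, 0, 1, 0], [4, 0, 1, 0, 4, 2, 2, 2],
    [5, 5, 4, 0, 4, 0, 1, 0], [2, 2, 2, 2, 2, 2, 2, 2, 2, 2, 0, 1, 0, 1, 0],
    [1, 3, 1, 0, 4, 2, 2, 2, 0, 1, 0], [4, 0, 1, 0, 4, 0, 4, 2, 2, 2, 2, 2],
    [3, 4, 0, 4, 2, 2, 2, 2, 2, 2, 2, 2, 2, 2, 2, 2, 2, 0], [5, 5, 5, 5, 5, 5, 3, 4, 0, 1],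
    [5, 5, 5, 5, 4, 3, 4, 0, 1], [4, 3, 2, 2, 1, 0, 1],
    [0, 4, 2, 2, 2, 2, 2, 2, 2, 2, 0, 1, 0], [5, 5, 5, 5, 0, 1, 0, 4, 0, 4],
    [3, 1, 0, 4, 2, 2, 2, 2, 2, 2, 2, 0], [5, 5, 1, 3, 4, 0, 4],
    [1, 0, 4, 2, 2, 2, 2, 2, 0, 1], [5, 5, 5, 5, 5, 5, 5, 5, 5, 5, 5, 4, 0, 4, 0, 1, 0, 4, 0],
    [3, 1, 0, 4, 0, 1, 0, 4, 2, 0], [3, 2, 2, 2, 2, 1, 0, 1],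
    [5, 5, 5, 5, 5, 5, 4, 0, 1, 0, 4, 0], [1, 0, 1, 0], [5, 5, 5, 5, 5, 5, 5, 5, 5, 5, 1, 0],
    [5, 5, 5, 5, 5, 5, 5, 5, 5, 1, 0, 1, 0, 4], [0, 4, 2, 2, 2, 2, 2, 2, 2, 2, 2],
    [4, 0, 4, 2, 2, 2, 2, 2, 2, 2, 2, 2, 2], [1, 3, 2, 2, 2, 2, 2, 2, 2, 2, 2, 2, 2, 2, 2, 1],
    [5, 5, 5, 5, 5, 5, 5, 5, 5, 5, 5, 1, 0, 1, 0, 4, 0, 4],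
    [5, 5, 5, 5, 5, 5, 5, 5, 5, 5, 4, 3, 4, 0, 1, 0, 4],
    [3, 1, 0, 4, 2, 2, 2, 2, 2, 2, 2, 2, 2, 2], [5, 5, 0, 1, 0, 4, 0, 1],
    [3, 2, 2, 2, 2, 2, 2, 2, 2, 2, 1], [1, 3, 4, 0, 1, 0, 4, 2],
    [5, 5, 5, 5, 5, 5, 5, 5, 5, 5, 5, 5, 5, 0, 1, 0],
    [1, 3, 4, 2, 2, 2, 2, 2, 2, 2, 2, 2, 2, 0, 1, 0, 1], [5, 5, 5, 5, 5, 0, 0],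
    [5, 5, 5, 5, 5, 5, 5, 5, 5, 5, 3, 1, 0, 4, 0, 1, 0],
    [4, 0, 1, 0, 4, 2, 2, 2, 2, 2, 2, 2, 2, 2, 2, 0], [5, 5, 5, 5, 5, 4, 0, 1],
    [5, 5, 5, 0, 1, 0, 1, 0], [1, 0, 1, 0, 4, 0, 4, 2, 2, 2, 2, 2],
    [5, 5, 5, 5, 5, 5, 5, 5, 5, 5, 5, 5, 5, 5, 1, 3, 4, 0, 1, 0, 4, 0, 1, 0],
    [5, 5, 5, 5, 5, 0, 4, 0, 1, 0], [5, 5, 5, 1, 3, 4, 0, 1, 0, 1], [4, 2, 2, 2, 0, 0],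
    [5, 5, 5, 5, 5, 5, 5, 5, 5, 3, 1, 0, 1], [4, 3, 2, 2, 2, 2, 2, 2],
    [4, 0, 4, 2, 2, 2, 2, 2, 2, 2, 2, 2, 2, 2, 2, 2, 2, 0, 1, 0], [1, 3, 1],
    [2, 2, 2, 2, 2, 2, 1, 0, 0], [5, 5, 5, 5, 5, 5, 5, 5, 5, 5, 5, 4, 3, 1, 0, 1],
    [2, 2, 2, 0, 1, 0], [5, 5, 5, 5, 5, 5, 5, 5, 5, 5, 5, 0, 4, 0, 1, 0, 4, 0, 1, 0],
    [5, 5, 5, 5, 5, 5, 5, 5, 5, 5, 5, 5, 3, 1, 0, 4, 0, 1, 0, 4, 0],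
    [0, 4, 2, 2, 2, 2, 2, 2, 2, 0, 1, 0, 1], [5, 5, 5, 5, 5, 5, 5, 5, 5, 5, 4, 0, 1, 0, 4],
    [5, 5, 5, 4, 0, 4], [1, 3, 4, 2, 2, 2, 2, 2, 2, 2, 2, 2, 2, 0, 1, 0],
    [4, 3, 4, 2, 2, 2, 2, 2, 2, 2, 2, 2, 2, 2, 2, 0, 1],
    [5, 5, 5, 5, 5, 5, 5, 5, 5, 5, 5, 5, 1, 3, 4, 0, 1, 0, 4],
    [5, 5, 5, 5, 5, 5, 5, 5, 5, 5, 5, 1, 3, 1, 0, 4, 0],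
    [4, 0, 4, 0, 1, 0, 4, 2, 2, 2, 2, 2, 0],
    [3, 4, 0, 1, 0, 4, 2, 2, 2, 2, 2, 2, 2, 2, 2, 2, 2, 2, 2, 2],
    [4, 3, 1, 0, 4, 2, 2, 2, 2, 0, 1, 0], [5, 5, 5, 5, 0, 4],
    [5, 5, 5, 5, 5, 5, 5, 5, 5, 5, 5, 5, 5, 4, 0, 4, 0],
    [3, 4, 2, 2, 2, 2, 2, 2, 2, 2, 2, 2, 0, 1], [5, 5, 5, 5, 3, 1],
    [5, 5, 5, 5, 5, 5, 4, 0, 1, 0], [5, 5, 5, 5, 5, 5, 5, 5, 1, 0, 4, 0, 1],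
    [3, 1, 0, 4, 0, 1, 0, 4, 2, 2, 2, 2, 2],
    [5, 5, 5, 5, 5, 5, 5, 5, 5, 5, 4, 0, 4, 0, 1, 0, 1], [1, 0, 1, 0, 4, 2, 2, 2, 2, 2, 2, 2],
    [0, 4, 2, 2, 2, 2, 2, 2, 0], [3, 4, 0, 4, 0],
    [0, 1, 0, 4, 2, 2, 2, 2, 2, 2, 2, 2, 2, 2, 2, 2, 2, 2, 0, 1], [1, 0, 4, 0, 1, 0, 4, 0],
    [1, 3, 4, 0, 4, 2, 2, 2, 2, 2, 2, 2, 2, 2, 2, 2, 2, 2, 2],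
    [5, 5, 5, 5, 5, 5, 5, 5, 3, 4, 0, 1, 0, 4, 0],
    [5, 5, 5, 5, 5, 5, 5, 3, 4, 0, 1, 0, 4, 0, 1], [2, 2, 2, 2, 2, 2, 1, 0],
    [5, 1, 3, 4, 0, 1, 0, 4, 0, 1], [5, 5, 5, 5, 5, 5, 5, 5, 4, 0, 1, 0, 4, 0, 4],
    [5, 5, 5, 3, 1, 0, 4], [1, 3, 1, 0, 4, 2, 2, 2, 2, 2, 2, 2, 2, 2, 2, 2, 2, 2, 0, 1],
    [5, 5, 5, 5, 5, 5, 3, 1, 0, 4, 0], [5, 5, 5, 5, 5, 5, 1, 3, 4],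
    [5, 5, 5, 5, 5, 5, 5, 5, 5, 5, 5, 4, 0, 1, 0, 4, 0, 1],
    [5, 5, 5, 5, 5, 5, 5, 5, 5, 5, 5, 5, 5, 1, 0, 1, 0], [1, 3, 4, 2, 2, 0],
    [5, 5, 5, 5, 5, 5, 5, 5, 5, 5, 1, 3, 1, 0, 4, 0, 1, 0],
    [4, 3, 4, 0, 1, 0, 4, 2, 2, 2, 2, 2, 2], [5, 5, 5, 5, 5, 5, 5, 5, 5, 3, 4, 0, 4],
    [0, 1, 0, 4, 0, 4, 2, 2, 2, 2, 2, 2, 2, 2, 2, 2, 2, 2], [5],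
    [4, 0, 4, 0, 1, 0, 4, 2, 2, 2, 2, 2, 2, 2, 2, 2, 2],
    [5, 5, 5, 5, 5, 5, 5, 5, 5, 1, 3, 1, 0], [5, 5, 0, 1, 0, 4, 0],
    [5, 5, 5, 5, 4, 3, 1, 0, 4, 0, 4], [5, 5, 5, 0, 4, 0, 1, 0, 4, 0, 1],
    [1, 3, 4, 0, 1, 0, 4, 2, 2, 2, 2, 0], [3, 4, 2, 2, 2, 2, 2, 2, 2, 2, 2, 2, 0],
    [0, 1, 0, 4, 0, 1, 0, 4, 2, 2, 2, 2, 2, 2, 2, 2, 2], [0, 1], [3, 4],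
    [4, 3, 4, 0, 1, 0, 4, 2, 2, 2, 2, 2, 2, 2, 2, 2, 0],
    [5, 5, 5, 5, 5, 5, 5, 5, 5, 5, 5, 5, 5, 4, 0, 4, 0, 1], [5, 5, 5, 5, 5, 5, 4, 3, 1, 0, 4],
    [5, 5, 5, 5, 5, 5, 5, 3, 4, 0, 1, 0, 4, 0, 1, 0], [2, 2, 2, 2, 2, 2, 2, 2, 2, 2, 1],
    [4, 2, 2, 2, 2, 2, 2, 2, 2, 2, 2, 0], [1, 0, 4, 2, 0, 1, 0, 1],
    [1, 3, 1, 0, 4, 0, 4, 2, 2, 2, 2, 2, 2, 2, 2, 2],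
    [4, 3, 1, 0, 4, 2, 2, 2, 2, 2, 2, 2, 2, 2, 2, 2, 2, 2, 2, 0],
    [5, 5, 5, 5, 5, 5, 5, 5, 5, 5, 5, 5, 5, 3, 1, 0, 4, 0, 4],
    [5, 5, 5, 5, 5, 5, 1, 0, 1, 0, 4, 0, 1, 0], [5, 5, 5, 5, 5, 5, 5, 4, 3, 1, 0, 4, 0, 1],
    [5, 5, 5, 5, 5, 5, 5, 5, 5, 5, 5, 5, 1, 0, 1, 0, 4, 0, 1],
    [1, 0, 4, 0, 1, 0, 4, 2, 2, 2, 0, 1], [5, 5, 5, 5, 0, 4, 0, 1, 0, 4, 0],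
    [5, 5, 5, 5, 5, 5, 5, 5, 5, 5, 5, 3, 1, 0, 4, 0, 1],
    [1, 3, 1, 0, 4, 2, 2, 2, 2, 2, 2, 2, 2, 2, 2, 2], [5, 5, 5, 5, 1, 3, 4, 0, 1],
    [0, 4, 2, 2, 2, 2, 2, 2, 2, 2, 2, 2, 2, 2, 2, 2, 0, 1],
    [4, 0, 1, 0, 4, 2, 2, 2, 2, 2, 2, 2, 2, 0, 1, 0], [5, 5, 5, 5, 5, 5, 5, 1, 0, 1, 0, 4, 0],
    [1, 0, 4, 2, 2, 2, 2, 2, 2, 2, 2, 2, 2, 2, 2, 2, 2, 0, 1, 0],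
    [3, 4, 2, 2, 2, 2, 2, 2, 2, 2, 2, 2, 2, 0, 1, 0, 1], [3, 2, 2, 2, 2, 2, 2, 2, 1, 0],
    [2, 2, 2, 2, 1, 0, 1], [5, 5, 5, 5, 5, 0, 1, 0, 1], [5, 3, 4, 0, 1, 0], [3, 2, 1, 0, 1, 0],
    [5, 5, 5, 5, 5, 5, 0, 1, 0, 4, 0, 1, 0], [5, 5, 5, 5, 5, 0, 4, 0, 4],
    [1, 0, 4, 2, 2, 2, 2, 2, 2, 0], [5, 5, 1, 0, 4], [0, 1, 0, 4, 2],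
    [1, 3, 2, 2, 2, 2, 2, 2, 2, 2, 2, 2], [5, 5, 5, 5, 5, 5, 5, 5, 5, 5, 5, 1, 0, 4, 0, 4],
    [0, 4, 0, 4, 2, 2, 2, 2, 0], [5, 5, 5, 5, 5, 5, 4, 3, 4, 0, 1, 0, 1], [5, 5, 4, 3, 1, 0],
    [5, 5, 5, 5, 5, 5, 5, 5, 5, 4, 3, 4, 0],
    [5, 5, 5, 5, 5, 5, 5, 5, 5, 5, 5, 0, 4, 0, 1, 0, 4],
    [5, 5, 5, 5, 5, 5, 5, 5, 1, 0, 4, 0, 1, 0, 4], [4, 3, 4, 2],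
    [5, 5, 5, 5, 5, 5, 5, 5, 0, 1, 0, 4, 0, 1, 0, 4, 0], [5, 5, 5, 5, 5, 5, 5, 4, 0, 1, 0, 1],
    [5, 5, 5, 5, 5, 5, 5, 5, 5, 5, 5, 4, 3, 4, 0, 1, 0], [4, 2, 2, 2, 2, 2, 2, 2],
    [5, 5, 5, 5, 5, 5, 5, 5, 5, 5, 1, 0, 4, 0, 1, 0, 4, 0, 1, 0], [5, 4, 3, 1], [2, 2],
    [5, 5, 5, 5, 5, 5, 5, 5, 5, 5, 4, 0, 4, 0, 1],
    [1, 0, 4, 0, 1, 0, 4, 2, 2, 2, 2, 2, 2, 0, 1], [5, 5, 0, 1, 0, 1], [4, 3, 2, 1, 0],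
    [4, 0, 4, 0, 1, 0, 4, 2, 2, 2, 2, 2, 2, 2, 2, 2, 2, 2, 2, 2], [5, 5, 5, 4, 3, 1, 0, 4],
    [5, 0, 4, 0, 1, 0, 4, 0], [3, 4, 2, 2, 0, 1, 0], [5, 5, 5, 5, 5, 5, 4, 3, 4, 0],
    [5, 5, 5, 5, 5, 5, 1, 3, 1, 0], [5, 5, 5, 5, 3, 4, 0, 1, 0, 4, 0, 1, 0],
    [5, 5, 5, 5, 5, 5, 5, 5, 3, 1, 0, 4, 0, 1], [3, 2, 2, 2, 2, 1, 0, 1, 0],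
    [5, 5, 5, 5, 5, 5, 5, 5, 0, 4, 0, 1, 0, 4], [0, 1, 0, 4, 2, 0],
    [2, 2, 2, 2, 2, 2, 2, 2, 2, 2, 2, 2, 2, 1],
    [1, 3, 1, 0, 4, 2, 2, 2, 2, 2, 2, 2, 2, 2, 2, 2, 2, 2, 2], [5, 5, 5, 0, 1, 0, 4, 0, 1, 0],
    [5, 5, 5, 5, 5, 1, 0, 4, 0, 1, 0, 4], [5, 4, 3, 1, 0, 4, 0, 4],
    [4, 2, 2, 2, 2, 2, 2, 2, 2, 2, 2, 2, 2, 2, 0], [5, 1, 3, 4, 0, 1], [5, 5, 0, 4, 0, 4],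
    [4, 3, 4, 2, 2, 2, 2], [0, 4, 0, 1, 0, 4, 0, 1], [1, 0, 4, 2, 2, 2, 2, 0, 1, 0, 1],
    [5, 5, 5, 5, 5, 5, 5, 5, 5, 5, 5, 5, 0, 4, 0, 1], [1, 0, 4, 2, 2, 2, 2, 2, 2, 2, 2, 2, 0],
    [5, 5, 5, 5, 5, 0, 1, 0, 4, 0, 1, 0, 4, 0], [1, 3, 4, 0, 1, 0, 4, 2, 2, 2, 2, 2, 2, 2, 0],
    [1, 3, 1, 0, 4, 0, 4, 2, 2, 2, 2, 2, 2, 2, 2, 2, 2, 2, 2],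
    [4, 0, 1, 0, 4, 2, 2, 2, 2, 2, 2, 2, 2, 2, 2, 2, 0, 1, 0], [1, 0, 4, 2],
    [5, 5, 5, 5, 4, 0, 1, 0, 1], [3, 4, 2, 2, 2, 2, 2, 2, 2, 2, 2, 2, 2, 2, 2, 0],
    [5, 5, 5, 5, 5, 5, 5, 5, 5, 5, 5, 5, 4, 3, 1, 0, 4, 0], [5, 5, 5, 5, 1, 0, 1, 0, 4, 0],
    [0, 1, 0, 4, 2, 2, 2, 2], [5, 5, 5, 5, 5, 5, 5, 5, 4, 3, 4, 0, 1, 0],
    [0, 1, 0, 4, 0, 1, 0, 4, 2, 2, 2, 2, 2, 2, 2, 2, 2, 2, 2, 2],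
    [5, 5, 5, 5, 5, 5, 5, 5, 5, 5, 3, 1, 0, 4, 0, 4],
    [5, 5, 5, 5, 5, 5, 5, 5, 5, 5, 5, 5, 1, 0, 4, 0, 1, 0],
    [1, 3, 2, 2, 2, 2, 2, 2, 2, 2, 2, 2, 2, 2, 2], [4, 2, 2, 2, 2, 2, 2, 2, 2, 2, 2],
    [2, 2, 2, 0, 1], [5, 5, 5, 1, 0, 1, 0, 4, 0, 1, 0],
    [3, 4, 2, 2, 2, 2, 2, 2, 2, 2, 2, 2, 2, 2, 2, 2, 0, 1, 0, 1],
    [5, 5, 5, 5, 5, 5, 5, 5, 1, 0, 4, 0, 4],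
    [5, 5, 5, 5, 5, 5, 5, 1, 0, 4, 0, 1, 0, 4, 0, 1, 0], [3, 4, 2, 2, 2],
    [5, 5, 5, 5, 4, 3, 1, 0, 4, 0, 1], [3, 2, 2, 2, 2, 2, 2, 2, 2, 2, 2, 1, 0],
    [0, 4, 0, 4, 2, 2, 2, 2, 2, 2, 2, 0], [4, 3, 2, 2, 1],
    [4, 3, 4, 0, 1, 0, 4, 2, 2, 2, 2, 2, 2, 2, 2, 2, 2, 2, 2, 0],
    [5, 5, 5, 5, 5, 5, 5, 5, 5, 1, 0, 1, 0, 4, 0, 1], [2, 2, 2, 2, 2, 2, 2, 1, 0, 1],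
    [5, 5, 5, 4, 3, 4, 0, 1, 0, 1], [5, 5, 5, 5, 5, 5, 5, 5, 5], [5, 5, 5, 5, 0, 4, 0, 4, 0],
    [3, 4, 2, 2, 2, 0, 1, 0, 1], [3, 1, 0, 4, 0, 4, 2, 2, 2, 2, 2, 2, 2, 2], [3, 4, 2, 2, 0],
    [0, 1, 0, 4, 0, 1, 0, 4, 2, 2, 2, 2, 2, 2, 2, 2, 2, 2, 2, 2, 2, 0],
    [5, 5, 5, 5, 5, 5, 5, 5, 5, 5, 5, 5, 5, 0, 4, 0, 4], [1, 3, 1, 0, 4, 2, 2, 2],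
    [3, 4, 0, 1, 0, 4, 2, 2, 2, 2, 2, 2, 2, 2, 2, 2, 2, 2, 2, 2, 0, 1, 0],
    [4, 0, 4, 0, 1, 0, 4, 2, 2],
    [5, 5, 5, 5, 5, 5, 5, 5, 5, 5, 5, 5, 5, 5, 4, 3, 4, 0, 1, 0, 1], [5, 3, 1, 0],
    [5, 5, 5, 5, 5, 5, 5, 5, 5, 5, 5, 5, 5, 5, 1, 0, 1, 0, 4, 0, 1, 0],
    [0, 1, 0, 4, 0, 1, 0, 4, 2], [4, 2, 2, 2, 2, 2, 2, 2, 2, 2, 2, 2, 2, 2, 2, 0, 1, 0, 1],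
    [5, 5, 1, 0, 4, 0], [5, 5, 5, 5, 5, 5, 5, 5, 5, 5, 5, 5, 1, 3, 4, 0, 1], [2, 2, 1],
    [1, 3, 2, 2, 2, 2, 2, 2, 2, 2, 2, 2, 2, 2, 1, 0],
    [5, 5, 5, 5, 5, 5, 5, 5, 5, 5, 4, 3, 1, 0], [5, 5, 5, 5, 1, 0, 1],
    [4, 3, 1, 0, 4, 2, 2, 2, 2, 2, 2, 2, 2, 2, 2, 2, 2, 2, 2, 0, 1],
    [5, 5, 5, 5, 5, 5, 5, 5, 0, 1], [4, 3, 4, 2, 2, 2, 2, 2, 2, 2, 2, 2, 2, 0, 1, 0],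
    [5, 5, 5, 5, 5, 5, 5, 5, 5, 5, 1, 0, 4], [0, 4, 2, 2, 2, 2, 2, 2, 0, 1], [4, 2, 2, 0],
    [5, 5, 5, 5, 5, 5, 5, 5, 5, 5, 0, 1, 0, 4, 0],
    [4, 3, 4, 2, 2, 2, 2, 2, 2, 2, 2, 2, 2, 2, 2, 0],
    [5, 5, 5, 5, 5, 5, 5, 5, 5, 5, 5, 5, 5, 0, 1, 0, 1],
    [1, 0, 1, 0, 4, 2, 2, 2, 2, 2, 2, 2, 2, 2, 0, 1], [5, 5, 5, 5, 5, 5, 5, 5, 3, 4], [5, 4],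
    [5, 5, 5, 5, 5, 5, 5, 0, 1, 0, 4], [4, 0, 1, 0, 4, 0, 1, 0],
    [5, 5, 5, 5, 5, 5, 5, 1, 0, 4, 0, 1, 0, 1],
    [5, 5, 5, 5, 5, 5, 5, 5, 5, 5, 5, 5, 4, 3, 1, 0, 4, 0, 4],
    [0, 4, 0, 1, 0, 4, 2, 2, 2, 2, 2, 2, 2, 2, 2, 2],
    [5, 5, 5, 5, 5, 5, 5, 5, 5, 3, 4, 0, 1, 0], [5, 5, 5, 5, 5, 1, 0, 4, 0, 1, 0, 4, 0, 1],
    [4, 3, 4, 0, 1, 0, 4, 2, 0],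
    [1, 0, 4, 0, 1, 0, 4, 2, 2, 2, 2, 2, 2, 2, 2, 2, 2, 2, 0, 1, 0], [1, 3, 2, 2],
    [1, 0, 1, 0, 4, 2, 2, 2, 2, 2, 2, 2, 2, 2, 2, 2, 2, 2, 2, 0], [1, 3, 1, 0, 4, 0, 4, 2],
    [5, 5, 5, 5, 5, 5, 5, 5, 5, 5, 5, 0, 4, 0, 1, 0, 4, 0, 1],
    [1, 0, 4, 0, 1, 0, 4, 2, 2, 2, 2, 2, 2, 2, 2, 2, 2, 2, 2, 2],
    [5, 5, 5, 5, 5, 5, 5, 3, 1, 0, 1, 0],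
    [5, 5, 5, 5, 5, 5, 5, 5, 5, 5, 5, 5, 0, 4, 0, 1, 0, 4, 0],
    [4, 0, 4, 2, 2, 2, 2, 2, 2, 2, 2, 0, 1], [5, 5, 5, 5, 5, 5, 5, 5, 5, 4, 3, 1],
    [1, 0, 4, 0, 4, 2, 2, 2, 2, 2, 2, 2, 2, 2, 2], [1, 0, 4, 2, 2, 2, 2, 2, 2, 0, 1, 0],
    [4, 3, 1, 0, 4, 2, 2, 2, 2, 2, 2, 0], [5, 5, 5, 5, 1, 3, 4, 0, 1, 0, 4, 0],
    [5, 5, 5, 5, 5, 5, 5, 4, 3, 4],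
    [5, 5, 5, 5, 5, 5, 5, 5, 5, 5, 5, 5, 5, 5, 0, 1, 0, 4, 0, 1, 0],
    [3, 1, 0, 4, 2, 2, 2, 2, 2, 2, 2, 2, 2, 2, 0, 1],
    [5, 5, 5, 5, 5, 5, 5, 5, 5, 5, 5, 5, 5, 5, 4, 3, 1, 0, 4], [2, 2, 2, 2, 2, 2, 2, 0, 0],
    [5, 5, 5, 3, 4, 0, 1, 0, 4], [1, 3, 4, 2, 2, 2, 2, 2, 2, 2, 2, 2, 2, 2, 2, 2, 2, 0],
    [5, 5, 5, 5, 5, 5, 5, 1, 3, 4, 0, 1, 0], [5, 5, 5, 5, 1, 3, 1, 0, 4, 0, 1],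
    [0, 4, 0, 1, 0, 4, 2, 0, 1, 0], [3, 4, 0, 1, 0, 4, 2, 2, 2, 2, 2, 0, 1],
    [5, 5, 5, 4, 0, 4, 0, 1, 0], [3, 4, 0, 4, 2, 2, 2, 2, 2, 2, 2, 2, 2, 2, 2, 2, 0],
    [0, 4, 2, 2, 2, 2, 2, 2, 2, 0, 1, 0], [1, 0, 4, 2, 2, 2, 2, 0, 1],
    [5, 5, 5, 5, 5, 5, 5, 4, 0, 1, 0, 4, 0], [0, 4, 2, 2, 2, 2, 2, 2, 2, 2],
    [5, 5, 5, 5, 5, 5, 5, 5, 5, 5, 5, 4, 3, 4, 0, 1, 0, 4], [1, 3, 4, 0, 1, 0, 4],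
    [1, 3, 4, 2, 2, 2, 2, 2, 2], [5, 5, 5, 5, 5, 5, 5, 5, 5, 5, 0, 4, 0, 1, 0, 1],
    [1, 3, 4, 0, 1, 0, 4, 2, 2, 2, 2, 2, 2, 2, 2, 2, 2, 2, 0, 1],
    [5, 5, 5, 5, 5, 5, 5, 5, 5, 5, 5, 1, 0, 0],
    [1, 0, 4, 0, 1, 0, 4, 2, 2, 2, 2, 2, 2, 2, 2, 2, 2, 2, 2, 0],
    [5, 5, 5, 5, 5, 5, 5, 5, 5, 5, 5, 5, 5, 5, 4, 0, 0], [4, 0, 4, 2, 2, 0, 1, 0, 1],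
    [2, 2, 2, 2, 2, 2, 2, 2, 2, 0, 1, 0, 1, 0], [5, 5, 5, 5, 5, 5, 5, 3, 4, 0, 1],
    [5, 5, 5, 5, 5, 0, 1, 0, 4, 0, 4],
    [5, 5, 5, 5, 5, 5, 5, 5, 5, 5, 5, 5, 4, 0, 4, 0, 1, 0, 4, 0], [5, 1, 0, 1, 0],
    [4, 0, 4, 2, 2, 2, 2, 2, 2, 2, 2, 2], [3, 1, 0, 4, 2, 2, 2, 2, 2, 2, 2, 2, 2],
    [5, 5, 5, 5, 5, 5, 5, 5, 5, 5, 5, 5, 5, 5, 0, 1, 0], [3, 4, 0, 1, 0, 4, 2, 2, 2, 2, 0],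
    [5, 5, 5, 5, 5, 5, 5, 5, 5, 5, 5, 4, 3], [5, 5, 5, 5, 5, 5, 5, 5, 5, 5, 5, 0, 4, 0],
    [5, 5, 1, 3, 4, 0, 1, 0, 4, 0, 1, 0], [4, 2, 2, 2, 2, 2, 2, 0, 1, 0],
    [3, 1, 0, 4, 2, 2, 0, 1, 0],
    [5, 5, 5, 5, 5, 5, 5, 5, 5, 5, 5, 5, 5, 4, 3, 1, 0, 4, 0, 1, 0],
    [1, 3, 1, 0, 4, 2, 2, 0, 1, 0], [5, 5, 5, 5, 5, 4, 3, 4, 0, 1],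
    [3, 1, 0, 4, 2, 2, 2, 2, 2, 2, 0], [3, 1, 0, 4, 0, 1, 0, 4, 0],
    [5, 5, 5, 5, 5, 5, 5, 5, 5, 5, 5, 1, 0], [1, 3, 2, 2, 2, 2, 2, 2, 2, 2, 2, 2, 2, 2, 1],
    [5, 5, 5, 0, 1, 0, 4, 0, 1], [1, 3, 4, 2, 2, 2, 2, 2, 2, 2, 2, 2, 0, 1, 0, 1],
    [5, 5, 5, 5, 5, 5, 5, 5, 5, 5, 5, 5, 3, 1, 0, 4, 0, 1, 0, 4],
    [4, 2, 2, 2, 2, 2, 2, 2, 0, 1], [5, 4, 0, 4, 0], [3, 4, 0, 4, 2, 2, 2],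
    [1, 3, 1, 0, 4, 2, 0], [4, 0, 1, 0, 4, 2, 0, 1], [4, 0, 1, 0, 4, 2, 2],
    [4, 0, 1, 0, 4, 0, 4, 2, 2, 2, 2], [4, 3, 2, 1, 0, 1], [5, 5, 5, 1, 3, 4, 0, 4],
    [3, 2, 2, 2, 1, 0, 1], [5, 5, 5, 5, 5, 5, 5, 5, 5, 5, 1, 0, 1, 0, 4],
    [5, 5, 5, 5, 5, 5, 5, 5, 5, 5, 5, 5, 1, 0, 1, 0, 4, 0, 4], [3, 2, 2, 2, 2, 2, 2, 2, 2, 1],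
    [5, 5, 5, 5, 5, 5, 5, 5, 5, 5], [3, 4, 2, 0],
    [3, 4, 0, 1, 0, 4, 2, 2, 2, 2, 2, 2, 2, 2, 2, 2, 2, 2, 2, 0, 1, 0],
    [1, 0, 1, 0, 4, 2, 2, 2, 2, 2, 2, 2, 2, 2, 2, 2, 2, 2, 2, 0, 1, 0],
    [5, 5, 5, 5, 5, 5, 5, 5, 5, 5, 5, 5, 5, 1, 3, 4, 0, 1], [5, 5, 5, 5, 5, 1, 0, 1],
    [5, 5, 5, 5, 5, 5, 5, 5, 5, 5, 5, 1, 0, 4], [4, 3, 4, 2, 2, 2, 2, 2, 2, 2, 2, 2, 2, 2, 0],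
    [5, 5, 4], [5, 5, 5, 5, 5, 5, 5, 5, 5, 5, 5, 5, 5, 4, 3, 1, 0, 4, 0, 4],
    [4, 3, 4, 0, 1, 0, 4, 0], [1, 3, 1, 0, 4, 0, 4],
    [5, 5, 5, 5, 5, 5, 5, 5, 5, 5, 5, 5, 5, 0, 4, 0, 1, 0, 4, 0],
    [1, 0, 4, 2, 2, 2, 2, 2, 0, 1, 0],
    [0, 1, 0, 4, 2, 2, 2, 2, 2, 2, 2, 2, 2, 2, 2, 2, 2, 2, 0, 1, 0],
    [5, 5, 5, 5, 5, 0, 4, 0, 4, 0],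
    [0, 1, 0, 4, 0, 1, 0, 4, 2, 2, 2, 2, 2, 2, 2, 2, 2, 2, 2, 2, 0], [4, 0, 4, 0, 1, 0, 4, 2],
    [0, 1, 0, 4, 0, 1, 0, 4], [2, 1],
    [4, 3, 1, 0, 4, 2, 2, 2, 2, 2, 2, 2, 2, 2, 2, 2, 2, 2, 0, 1], [0, 4, 2, 2, 2, 2, 2, 0, 1],
    [5, 5, 5, 5, 5, 5, 5, 5, 5, 5, 5, 5, 5, 5, 0, 1, 0, 1],
    [5, 5, 5, 5, 5, 5, 5, 5, 0, 1, 0, 4], [0, 4, 0, 1, 0, 4, 2, 2, 2, 2, 2, 2, 2, 2, 2],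
    [1, 0, 4, 0, 1, 0, 4, 2, 2, 2, 2, 2, 2, 2, 2, 2, 2, 0, 1, 0],
    [5, 5, 5, 5, 5, 5, 5, 5, 5, 5, 5, 5, 0, 4, 0, 1, 0, 4, 0, 1],
    [4, 0, 4, 2, 2, 2, 2, 2, 2, 2, 0, 1], [4, 3, 1, 0, 4, 2, 2, 2, 2, 2, 0],
    [3, 1, 0, 4, 2, 2, 2, 2, 2, 2, 2, 2, 2, 0, 1], [3, 4, 2, 2, 0, 1, 0, 1],
    [5, 5, 5, 5, 5, 5, 5, 5, 5, 5, 5, 5, 5, 5, 0, 4, 0, 4],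
    [4, 3, 4, 2, 2, 2, 2, 2, 2, 2, 2, 2, 2, 2, 2, 2, 2, 0, 1, 0, 1],
    [4, 2, 2, 2, 2, 2, 2, 2, 2, 2, 2, 2, 2, 2, 0, 1, 0, 1],
    [1, 3, 2, 2, 2, 2, 2, 2, 2, 2, 2, 2, 2, 1, 0], [5, 5, 5, 5, 5, 5, 5, 5, 5, 0, 1],
    [4, 2, 0], [1, 0, 1, 0, 4, 2, 2, 2, 2, 2, 2, 2, 2, 0, 1], [5, 4, 0, 1, 0, 4, 0, 1, 0],
    [5, 5, 5, 5, 5, 5, 5, 5, 5, 5, 3, 4, 0, 1, 0], [1, 3, 2],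
    [1, 0, 4, 0, 1, 0, 4, 2, 2, 2, 2, 2, 2, 2, 2, 2, 2, 2, 2],
    [5, 5, 5, 5, 5, 5, 5, 5, 5, 5, 4, 3, 1], [5, 5, 5, 5, 5, 1, 3, 4, 0, 1, 0, 4, 0],
    [4, 3, 1, 0, 4, 2, 2, 2, 2, 2, 2, 2, 2, 2, 2, 2, 2, 2, 2],
    [3, 1, 0, 4, 0, 4, 2, 2, 2, 2, 2, 2, 2], [1, 3, 1, 0, 4, 2, 2], [5, 5, 3, 1, 0],
    [5, 5, 5, 1, 0, 4, 0], [5, 5, 5, 5, 5, 5, 5, 5, 5, 5, 5, 4, 3, 1, 0],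
    [4, 3, 4, 2, 2, 2, 2, 2, 2, 2, 2, 2, 0, 1, 0],
    [5, 5, 5, 5, 5, 5, 5, 5, 5, 5, 5, 0, 1, 0, 4, 0], [5, 5, 5, 5, 5, 5, 5, 5, 5, 3, 4],
    [5, 5, 5, 5, 5, 5, 5, 5, 1, 0, 4, 0, 1, 0, 1],
    [5, 5, 5, 5, 5, 5, 1, 0, 4, 0, 1, 0, 4, 0, 1],
    [1, 0, 1, 0, 4, 2, 2, 2, 2, 2, 2, 2, 2, 2, 2, 2, 2, 2, 0],
    [5, 5, 5, 5, 5, 5, 5, 5, 3, 1, 0, 1, 0], [1, 0, 4, 0, 4, 2, 2, 2, 2, 2, 2, 2, 2, 2],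
    [5, 5, 5, 5, 5, 5, 5, 5, 4, 3, 4], [2, 2, 2, 2], [5, 5, 5, 5, 5, 5, 1, 0, 4, 0, 4],
    [5, 5, 1, 0, 1, 0, 4, 0], [1, 0, 4, 2, 2, 2, 2, 2, 2, 0, 1, 0, 1],
    [0, 1, 0, 4, 2, 2, 2, 0], [4, 3, 2, 2, 2, 1, 0],
    [3, 2, 2, 2, 2, 2, 2, 2, 2, 2, 2, 2, 2, 1, 0], [5, 5, 5, 5, 5, 5, 5, 5, 3, 1, 0, 4, 0, 4],
    [1, 3, 4, 0, 1, 0, 4, 2, 2, 2, 2, 2, 2, 2, 2, 2, 0], [5, 5, 5, 1, 0, 4, 0, 1, 0, 4],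
    [3, 4, 2, 2, 2, 2, 0, 1, 0], [5, 5, 5, 5, 5, 5, 5, 1, 0, 1, 0, 4, 0, 1],
    [2, 2, 2, 2, 2, 0, 1], [5, 5, 4, 0, 1, 0, 1], [0, 4, 0, 4],
    [5, 5, 5, 5, 5, 5, 3, 1, 0, 4, 0, 1], [5, 5, 5, 5, 5, 5, 5, 5, 4, 0, 4, 0, 1],
    [5, 5, 5, 5, 5, 1, 0, 4, 0, 1, 0, 4, 0, 1, 0], [0, 1, 0, 4, 2, 2, 2, 2, 2, 2],
    [5, 5, 5, 5, 5, 5, 5, 5, 5, 5, 0, 4, 0, 1], [5, 5, 5, 5, 5, 5, 5, 5, 5, 5, 5, 5, 5, 5, 1],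
    [5, 5, 5, 5, 5, 5, 5, 5, 5, 5, 5, 5, 5, 5, 4, 0, 4, 0, 1, 0, 4],
    [0, 4, 0, 4, 2, 2, 2, 2, 2, 2, 2, 2, 2, 0],
    [5, 5, 5, 5, 5, 5, 5, 5, 5, 5, 1, 0, 4, 0, 1, 0],
    [1, 3, 1, 0, 4, 0, 4, 2, 2, 2, 2, 2, 2, 2, 2, 2, 2, 2, 2, 2, 2], [4, 3, 1, 0, 4, 0, 4, 2],
    [5, 5, 5, 5, 4, 3, 4, 0], [2, 2, 2, 2, 2, 2, 2, 2, 2, 1, 0, 1],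
    [5, 1, 0, 1, 0, 4, 0, 1, 0], [5, 5, 5, 5, 5, 5, 5, 5, 5, 5, 5, 5, 5, 5, 3, 4, 0],
    [4, 3, 4, 2, 2, 2, 2, 2, 2], [3, 2, 2, 2, 2, 2, 2, 1, 0, 1, 0],
    [1, 0, 4, 0, 1, 0, 4, 2, 2, 2, 2, 2, 2, 2, 2, 0, 1], [3, 4, 2, 2, 2, 2, 2],
    [5, 5, 5, 5, 5, 5, 4, 3, 4, 0, 1, 0], [1, 0, 4, 2, 2, 2, 2, 2, 2, 2, 2, 2, 2, 2, 0],
    [5, 5, 5, 5, 5, 5, 5, 5, 5, 5, 5, 5, 5, 1, 3, 1, 0, 4], [5, 4, 3, 1, 0, 4],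
    [4, 3, 2, 2, 2, 2, 1], [5, 5, 5, 5, 5, 5, 5, 5, 5, 5, 5, 5, 5, 5, 1, 3],
    [4, 0, 1, 0, 4, 2, 2, 2, 2, 2, 2, 2, 2, 2, 2, 2, 2, 2, 0, 1, 0],
    [5, 5, 5, 5, 5, 5, 5, 5, 5, 5, 5, 5, 5, 5, 4, 0], [5, 5, 5, 5, 1, 3, 1, 0],
    [5, 4, 3, 4, 0, 1, 0, 1], [5, 5, 5, 5, 5, 5, 5, 5, 5, 5, 5, 5, 5, 3, 4, 0, 1, 0, 1],
    [5, 5, 5, 5, 5, 5, 5, 5, 5, 5, 4, 3, 1, 0, 4, 0], [0, 4, 0, 1, 0, 4, 2, 2, 0, 1],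
    [5, 5, 5, 5, 5, 5, 0, 4, 0, 1, 0, 4], [0, 1, 0, 1], [5, 5, 4, 3, 1, 0, 4, 0, 1],
    [0, 1, 0, 4, 0, 1, 0, 4, 2, 2, 2, 2, 2, 2, 2, 2, 2, 2, 2, 2, 2, 2],
    [5, 5, 5, 0, 1, 0, 4, 0, 1, 0, 4, 0], [5, 0, 1, 0, 4, 0, 1, 0], [0, 4, 0, 1, 0, 4, 2, 0],
    [4, 3, 4, 0, 1, 0, 4, 2, 2, 2, 2, 2, 2, 2, 2, 2, 2, 2, 2, 2, 2, 0],
    [4, 2, 2, 2, 2, 2, 2, 2, 2, 2, 2, 2, 2], [1, 0, 4, 2, 2, 2], [1, 3, 4, 2, 0, 1],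
    [5, 5, 3, 4, 0, 1, 0, 4, 0, 1, 0], [2, 2, 2, 2, 2], [5, 5, 5, 5, 5, 3, 1, 0, 4, 0, 1],
    [4, 3, 4, 2, 2, 2, 2, 2, 2, 2], [5, 5, 5, 5, 5, 5, 5, 5, 5, 4, 3, 1, 0, 4, 0],
    [5, 5, 5, 5, 5, 1, 0, 4, 0, 4], [5, 5, 5, 5, 5, 5, 5, 4, 0, 4, 0, 1],
    [3, 2, 2, 2, 2, 2, 2, 2, 1, 0, 1, 0], [0, 4, 0, 1, 0, 4, 2, 2, 2, 0, 1],
    [5, 1, 0, 1, 0, 4, 0], [5, 5, 5, 5, 1, 0, 4, 0, 1, 0, 4, 0, 1, 0],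
    [1, 0, 4, 0, 1, 0, 4, 2, 2, 2, 2, 2, 2, 2, 2, 2, 0, 1], [5, 5, 5, 5, 5, 0, 4, 0, 1, 0, 4],
    [1, 0, 4, 2, 2, 2, 2, 2, 2, 2, 0, 1, 0, 1], [0, 1, 0, 4, 2, 2, 2, 2, 2, 2, 2],
    [3, 4, 2, 2, 2, 2, 2, 2], [2, 0, 1, 0, 1], [0, 1, 0, 4, 2, 2, 2, 2, 0],
    [5, 5, 5, 5, 5, 5, 5, 5, 5, 0, 4, 0, 1], [5, 5, 5, 5, 5, 4, 3, 4, 0, 1, 0],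
    [5, 4, 3, 1, 0, 4, 0, 1], [4, 3, 2, 2, 2, 2, 1, 0],
    [5, 5, 5, 5, 5, 5, 5, 5, 5, 5, 5, 5, 5, 1],
    [1, 0, 4, 2, 2, 2, 2, 2, 2, 2, 2, 2, 2, 2, 2, 0],
    [5, 5, 5, 5, 5, 5, 5, 5, 5, 5, 5, 5, 5, 5, 0, 1, 0, 4, 0, 1, 0, 4],
    [3, 2, 2, 2, 2, 2, 2, 2, 2, 2, 2, 2, 2, 2, 1, 0],
    [5, 5, 5, 5, 5, 5, 5, 5, 5, 5, 5, 5, 5, 4, 0, 4, 0, 1, 0, 4],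
    [5, 5, 5, 5, 5, 5, 5, 5, 5, 5, 5, 5, 1, 3, 1, 0, 4], [5, 5, 0, 1, 0, 4, 0, 1, 0, 4, 0],
    [5, 5, 5, 5, 5, 5, 5, 3, 1, 0, 4, 0, 4], [0, 4, 0, 4, 2, 2, 2, 2, 2, 2, 2, 2, 2, 2, 0],
    [4, 3, 1, 0, 4], [0, 1, 0, 4, 0, 1, 0],
    [1, 3, 4, 0, 1, 0, 4, 2, 2, 2, 2, 2, 2, 2, 2, 2, 2, 0],
    [5, 5, 5, 5, 5, 5, 5, 5, 5, 1, 0, 4, 0, 1, 0], [4, 3, 2, 2, 2, 2, 2, 1],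
    [0, 4, 0, 1, 0, 4, 2, 2, 0], [5, 5, 1, 0, 4, 0, 1, 0, 4],
    [5, 5, 5, 5, 5, 5, 5, 5, 5, 5, 5, 5, 5, 5, 1, 3, 1, 0, 4, 0, 4],
    [5, 5, 5, 5, 5, 5, 5, 5, 5, 5, 5, 5, 5, 1, 3],
    [5, 5, 5, 5, 5, 5, 5, 5, 5, 5, 5, 5, 5, 5, 4, 3, 4, 0, 1, 0, 4, 0],
    [3, 4, 2, 2, 2, 2, 2, 0, 1, 0], [4, 3, 1, 0, 4, 0, 4, 2, 2],
    [4, 0, 1, 0, 4, 2, 2, 2, 2, 2, 2, 2, 2, 2, 2, 2, 2, 2, 2, 0, 1, 0],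
    [4, 2, 2, 2, 2, 2, 2, 2, 2, 2, 2, 2, 2, 2], [5, 5, 5, 5, 5, 5, 1, 0, 1, 0, 4, 0, 1],
    [5, 5, 5, 4, 3, 4, 0], [5, 5, 5, 5, 5, 5, 5, 5, 5, 5, 5, 5, 5, 4, 0],
    [1, 0, 4, 2, 2, 2, 2], [2, 2, 2, 2, 2, 2, 0, 1], [2, 2, 2, 2, 2, 2, 2, 2, 2, 2, 1, 0, 1],
    [5, 5, 5, 1, 3, 1, 0], [1, 3, 4, 2, 2, 0, 1], [5, 4, 0, 1, 0, 1], [1, 0, 1, 0, 4, 0, 1, 0],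
    [4, 3, 4, 0, 1, 0, 1], [5, 3, 4, 0, 1, 0, 4, 0, 1, 0], [0, 4, 0, 4, 2],
    [5, 5, 5, 5, 5, 5, 5, 5, 5, 5, 5, 5, 5, 3, 4, 0],
    [5, 5, 5, 5, 5, 5, 5, 5, 5, 5, 5, 5, 3, 4, 0, 1, 0, 1],
    [2, 2, 2, 2, 2, 2, 2, 2, 2, 2, 2, 2, 2], [1, 0, 4, 0, 1, 0, 4, 2, 2, 2, 2, 0, 1, 0],
    [4, 3, 4, 2, 2, 2, 0, 1, 0], [0, 1, 0, 4, 0, 1, 0, 4, 2, 2, 2, 2, 2, 2, 0],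
    [1, 0, 4, 0, 1, 0, 4, 2, 2, 2, 2, 2, 2], [4, 3, 4, 2, 2, 2, 2, 2, 0],
    [4, 3, 4, 2, 2, 2, 2, 2, 2, 2, 2, 0, 1, 0, 1], [1, 0, 4, 0, 4, 2, 2, 2],
    [5, 5, 5, 5, 5, 5, 5, 5, 5, 5, 5, 5, 5, 5, 0, 1, 0, 4],
    [5, 5, 5, 5, 5, 5, 5, 5, 5, 1, 0, 4, 0], [0, 1, 0, 4, 2, 2, 2, 2, 2, 2, 2, 2, 0, 1, 0],
    [3, 4, 2, 2, 2, 2, 2, 2, 2, 2, 2, 2, 2, 2, 2, 0, 1, 0],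
    [5, 5, 5, 5, 5, 5, 5, 5, 5, 5, 5, 1, 0, 1], [5, 5, 5, 5, 3, 4, 0, 1, 0, 1],
    [1, 0, 1, 0, 4, 2, 2, 2, 2, 2, 2, 2, 0], [5, 0, 4, 0, 1], [5, 5, 5, 5, 1, 3, 1, 0, 4],
    [0, 4, 0, 1, 0, 4, 2, 2, 2, 2, 2, 2, 2, 2, 2, 2, 0], [1, 0, 1, 0, 4, 2, 2, 0, 1],
    [1, 0, 1, 0, 4, 2, 2, 2, 2, 2, 2, 2, 2, 0, 1, 0], [5, 4, 3, 1, 0, 4, 0],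
    [5, 5, 5, 5, 5, 5, 5, 5, 5, 5, 5, 5, 5, 5, 1, 0, 4, 0, 1, 0, 1], [5, 5, 5, 5, 5, 1],
    [4, 3, 1, 0, 4, 2, 2, 2, 2, 2, 2, 2, 2], [5, 5, 5, 5, 5, 5, 4, 3, 4, 0, 1, 0, 4, 0],
    [2, 2, 2, 2, 2, 2, 2, 2, 2, 2, 2, 2, 2, 2, 0, 1], [5, 5, 5, 5, 5, 3, 4, 0],
    [0, 4, 0, 1, 0, 4, 2, 2, 2, 2, 2, 2, 2, 2, 2, 2, 2, 0, 1],
    [0, 1, 0, 4, 2, 2, 2, 2, 2, 2, 2, 2, 2, 2, 2, 2, 0], [5, 5, 5, 5, 5, 4, 0, 4, 0, 1, 0, 4],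
    [4, 3, 2, 2, 2, 2, 2, 2, 2, 2, 2, 2, 2, 2, 2, 1], [5, 5, 5, 5, 5, 5, 5, 5, 4],
    [4, 2, 2, 2, 2, 2, 2, 2, 0, 1, 0, 1], [5, 5, 5, 5, 5, 5, 5, 5, 5, 5, 5, 5, 5, 5, 4, 3, 4],
    [0, 4, 0, 1, 0, 4, 2, 2, 2], [4, 3, 2, 2, 2, 2, 2, 2, 2, 2, 2, 2, 2, 2, 1, 0],
    [5, 5, 5, 5, 5, 5, 5, 5, 5, 5, 5, 0, 4, 0, 4, 0], [5, 5, 5, 5, 5, 1, 3],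
    [1, 0, 4, 2, 2, 2, 2, 2, 2, 2, 2, 2, 2, 2, 2], [0, 4, 0, 4, 2, 2, 2, 2, 2, 2, 2, 2, 2],
    [5, 5, 5, 5, 5, 5, 5, 5, 5, 5, 5, 5, 5, 5, 3, 1, 0, 1, 0],
    [2, 2, 2, 2, 2, 2, 2, 2, 2, 0, 1, 0, 1], [5, 5, 5, 5, 5, 5, 5, 5, 3, 1, 0],
    [5, 1, 0, 4, 0, 1, 0], [5, 5, 5, 5, 5, 5, 5, 4, 0, 1, 0, 4, 0, 1, 0],
    [1, 3, 4, 2, 2, 2, 2, 2, 2, 2, 2, 2, 2, 0, 1], [3, 1, 0, 4, 2, 2, 2, 0, 1],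
    [5, 5, 5, 5, 5, 5, 5, 5, 5, 5, 5, 5, 1, 0, 4, 0, 1, 0, 4, 0, 1],
    [4, 3, 1, 0, 4, 2, 2, 2, 2, 2, 2, 2, 0, 1], [3, 1, 0, 4, 0, 4, 2],
    [5, 5, 5, 5, 5, 5, 1, 3, 1, 0, 4, 0, 4], [5, 5, 5, 5, 5, 4, 0],
    [3, 4, 0, 1, 0, 4, 2, 2, 2, 2, 2, 2, 2, 0, 1, 0], [4, 0, 4, 2, 0, 1],
    [3, 4, 2, 2, 2, 2, 2, 2, 2, 2, 2, 2, 2, 2, 2, 2],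
    [5, 5, 5, 5, 5, 5, 0, 1, 0, 4, 0, 1, 0, 4],
    [5, 5, 5, 5, 5, 5, 5, 5, 5, 5, 5, 1, 3, 4, 0, 1, 0, 4, 0],
    [4, 3, 1, 0, 4, 0, 4, 2, 2, 2, 2, 2, 2, 2, 2, 2, 2], [1, 3, 2, 2, 2, 2, 2, 1, 0],
    [5, 5, 5, 5, 5, 5, 5, 0, 0], [2, 0, 1, 0], [5, 5, 5, 5, 5, 5, 3, 1],
    [5, 5, 5, 5, 5, 3, 1, 0, 4], [1, 0, 1, 0, 4, 0, 4, 2, 2, 2], [5, 5, 5, 5, 5, 4, 0, 4],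
    [1, 0, 1, 0, 4, 2, 2, 2, 2, 2], [2, 2, 2, 2, 2, 2, 2, 2, 2, 2, 2, 2, 2, 2, 1, 0, 1, 0],
    [5, 5, 5, 5, 5, 5, 5, 5, 5, 5, 5, 3, 1, 0, 1], [4, 0, 4, 0, 1, 0, 4, 2, 2, 2, 0],
    [1, 3, 4, 0, 4, 2, 2, 2, 2, 2, 2, 2, 2, 2, 2, 2, 2],
    [0, 1, 0, 4, 0, 4, 2, 2, 2, 2, 2, 2, 2, 2, 2, 2],
    [5, 5, 5, 5, 5, 5, 5, 5, 5, 5, 5, 5, 5, 4, 3, 1, 0, 1],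
    [3, 4, 2, 2, 2, 2, 2, 2, 2, 2, 0, 1], [5, 5, 5, 5, 5, 5, 5, 5, 5, 5, 4, 0, 1, 0, 4, 0, 4],
    [5, 5, 5, 5, 5, 0, 1, 0, 1, 0], [5, 5, 5, 5, 5, 5, 5, 5, 5, 5, 5, 5, 4, 0, 1, 0, 4],
    [5, 5, 5, 5, 5, 5, 5, 5, 5, 5, 5, 5, 4, 0, 4, 0, 1, 0, 1],
    [5, 5, 5, 5, 5, 5, 5, 5, 5, 5, 5, 5, 5, 4, 0, 1, 0, 4, 0, 1], [4, 2, 0, 0],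
    [5, 5, 5, 5, 5, 5, 5, 5, 5, 5, 5, 5, 5, 1, 3, 1, 0, 4, 0], [5, 5, 1, 0, 4, 0, 1, 0, 4, 0],
    [5, 5, 5, 5, 5, 5, 5, 5, 5, 5, 5, 3, 4, 0, 4], [2, 2, 2, 2, 1, 0, 0],
    [4, 0, 4, 2, 2, 2, 2, 2, 2, 2, 2, 2, 2, 2, 2, 2, 2, 0],
    [5, 5, 5, 1, 3, 4, 0, 1, 0, 4, 0, 1], [5, 5, 5, 5, 5, 5, 5, 4, 0, 1],
    [0, 4, 2, 2, 2, 2, 2, 0, 1, 0, 1], [3, 1, 0, 4, 0, 1, 0, 4, 2, 2, 2],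
    [5, 5, 5, 5, 5, 5, 5, 5, 1, 3, 4], [5, 5, 5, 5, 5, 1, 3, 4, 0, 1, 0, 1],
    [5, 5, 5, 5, 5, 5, 5, 5, 5, 5, 5, 5, 5, 5, 1, 3, 4, 0, 1, 0, 4],
    [0, 1, 0, 4, 2, 2, 2, 2, 2, 2, 2, 2, 2, 2, 2, 2, 0, 1], [4, 3, 4, 0, 1, 0, 4, 2, 2, 2, 2],
    [5, 5, 1, 3, 1], [5, 5, 5, 5, 5, 5, 0, 4], [2, 2, 2, 2, 1, 0],
    [4, 0, 1, 0, 4, 2, 2, 2, 2, 2, 2, 2, 2, 0],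
    [5, 5, 5, 5, 5, 5, 5, 5, 5, 5, 5, 5, 5, 5, 3, 1, 0, 4, 0, 1, 0, 4, 0],
    [5, 5, 5, 5, 5, 5, 5, 5, 5, 5, 1, 0, 4, 0, 1], [5, 5, 5, 5, 5, 5, 5, 5, 3, 1, 0, 4, 0],
    [5, 5, 5, 5, 5, 5, 5, 0, 4, 0, 1, 0], [4, 3, 4, 2, 2, 2, 2, 2, 2, 2, 2, 2, 2, 0, 1],
    [5, 5, 3, 4, 0, 4, 0], [5, 5, 5, 5, 5, 5, 5, 5, 5, 5, 5, 5, 1, 3, 1, 0, 4, 0, 1, 0],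
    [4, 0, 4, 2, 2, 2, 2, 2, 2, 2, 2, 2, 2, 2, 2, 0, 1, 0], [4, 3, 1, 0, 4, 2, 2, 0, 1, 0],
    [5, 5, 5, 5, 5, 5, 5, 5, 5, 3, 4, 0, 1, 0, 4, 0, 1],
    [5, 5, 5, 5, 5, 5, 5, 5, 5, 5, 5, 5, 3, 1, 0, 4, 0, 1, 0],
    [5, 5, 5, 5, 5, 5, 5, 5, 5, 5, 5, 5, 5, 0, 4, 0, 1, 0, 4, 0, 1, 0],
    [5, 5, 5, 5, 5, 5, 5, 5, 4, 0, 1, 0],
    [1, 3, 1, 0, 4, 2, 2, 2, 2, 2, 2, 2, 2, 2, 2, 2, 0, 1],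
    [1, 3, 4, 0, 1, 0, 4, 2, 2, 2, 2, 2, 2, 2, 2, 2, 2, 2, 2, 2, 0, 1, 0],
    [1, 3, 4, 2, 2, 2, 2, 2, 2, 2, 2, 0, 1, 0], [0, 4, 2, 2, 2, 2, 0], [1, 3, 4, 0],
    [4, 3, 2, 2, 2, 2], [3, 4, 0, 1, 0, 4, 2, 2, 2, 2, 2, 2, 2, 2, 2, 2, 2, 2],
    [5, 5, 5, 5, 5, 5, 5, 5, 5, 5, 3, 4, 0, 1, 0, 4, 0],
    [2, 2, 2, 2, 2, 2, 2, 2, 2, 2, 2, 2, 0, 0], [5, 5, 5, 5, 5, 5, 5, 3, 1, 0, 4, 0, 1, 0, 4],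
    [5, 5, 5, 5, 5, 5, 4, 3],
    [5, 5, 5, 5, 5, 5, 5, 5, 5, 5, 5, 5, 5, 1, 3, 4, 0, 1, 0, 4, 0, 1],
    [5, 5, 1, 3, 4, 0, 1, 0], [3, 4, 0, 4, 2, 2, 2, 2, 2, 2, 2, 2],
    [4, 2, 2, 2, 2, 2, 2, 2, 2, 2, 2, 2, 0, 1, 0], [5, 5, 5, 5, 5, 5, 5, 5, 5, 4, 0, 0],
    [3, 4, 0, 1, 0, 4, 2, 2, 2, 2, 2, 2, 2, 2, 2, 2, 0, 1],
    [4, 0, 1, 0, 4, 2, 2, 2, 2, 2, 2, 2], [1, 3, 1, 0, 4, 2, 2, 2, 2, 2, 2, 2, 0, 1, 0],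
    [5, 5, 3, 4, 0, 1], [0, 4, 2, 2, 2, 2, 2, 2, 2, 2, 2, 2, 2, 2, 0, 1, 0],
    [1, 3, 4, 0, 4, 2, 2], [3, 1, 0, 4, 0, 1, 0, 4, 2, 2, 2, 2, 2, 0],
    [2, 2, 2, 2, 1, 0, 1, 0], [0, 4, 2, 2, 2, 2, 2, 2, 2, 2, 2, 2, 2, 2, 2],
    [5, 5, 5, 5, 5, 5, 5, 1, 0, 1, 0, 4, 0, 4], [0, 1, 0, 4, 2, 2, 0, 1],
    [5, 5, 5, 5, 5, 5, 5, 5, 5, 0, 1, 0], [1, 3, 4, 2, 2, 2, 2, 2, 2, 2, 2, 2, 2, 2],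
    [3, 4, 0, 1, 0, 4, 2, 2], [4, 2, 2, 2, 2, 2, 2, 2, 2, 2, 2, 2, 2, 0, 1],
    [5, 5, 5, 5, 5, 5, 0, 4, 0], [5, 5, 5, 5, 5, 5, 1, 0, 0], [1, 3, 1, 0, 4, 2, 0, 1],
    [1, 3, 1, 0, 4, 2, 2, 2, 2, 2, 2, 0], [3, 1, 0, 4, 2, 2, 2, 2, 2, 2, 2, 0, 1, 0],
    [4, 0, 4, 2, 2, 2, 2, 2, 2, 2, 0, 1, 0, 1], [4, 0, 4, 2, 2, 0, 1, 0],
    [4, 0, 1, 0, 4, 0, 4, 2, 2, 2, 2, 2, 2, 2, 2, 2], [4, 3, 4, 0, 1], [0, 1, 0, 4, 0, 4],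
    [1, 0, 4, 2, 2, 2, 2, 2, 2, 2, 2, 2, 0, 1], [3, 2, 2, 2, 2, 2, 2, 2, 2, 1, 0, 1],
    [5, 5, 5, 5, 5, 5, 1, 0], [4, 0, 4, 2, 2, 2, 2, 2, 2, 2, 2, 2, 2, 2, 2, 2, 2],
    [5, 5, 5, 5, 5, 5, 4, 3, 4, 0, 1, 0, 4], [3, 2, 2, 2, 2, 2, 2, 2, 2, 2, 2, 2, 2, 2, 1],
    [1, 3, 4, 2, 2, 2, 2, 2, 2, 2, 2, 2, 2, 2, 2, 2, 2, 0, 1, 0, 1],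
    [3, 4, 0, 1, 0, 4, 2, 2, 2, 2, 2, 2, 2, 2, 2, 0], [5, 5, 5, 5, 5, 0, 4, 0, 1, 0, 1],
    [5, 5, 5, 5, 5, 5, 5, 5, 5, 5, 1, 3, 4, 0], [4, 0, 4, 2, 2, 2, 2, 0],
    [1, 3, 4, 0, 1, 0, 4, 2, 2, 2, 0, 1, 0],
    [5, 5, 5, 5, 5, 5, 5, 5, 5, 5, 5, 5, 1, 0, 4, 0, 1, 0, 4, 0],
    [0, 4, 0, 1, 0, 4, 2, 2, 2, 2, 2, 2, 0, 1, 0], [4, 0, 1, 0, 4, 2, 2, 2, 2, 2, 2, 0, 1],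
    [5, 5, 5, 5, 5, 5, 5, 5, 4, 3, 1, 0, 4, 0, 1, 0],
    [2, 2, 2, 2, 2, 2, 2, 2, 2, 2, 2, 2, 2, 2, 0, 1, 0, 1, 0],
    [5, 5, 5, 5, 5, 5, 5, 5, 5, 5, 5, 5, 3, 4, 0, 4, 0], [4, 3, 2, 2, 2, 2, 2, 2, 1, 0, 1],
    [3, 1, 0, 4, 2, 2, 2, 2, 2, 2, 2, 2, 2, 2, 2, 0],
    [5, 5, 5, 5, 5, 5, 5, 4, 0, 4, 0, 1, 0, 4, 0], [5, 5, 4, 0, 1, 0, 4, 0],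
    [5, 5, 5, 5, 5, 1, 0, 1, 0, 4], [5, 5, 5, 5, 5, 5, 5, 5, 5, 5, 5, 5, 1, 3, 1],
    [3, 1, 0, 4, 2, 2, 2, 2, 2, 2, 2, 2, 2, 2, 2, 2, 2, 2],
    [1, 3, 4, 0, 1, 0, 4, 2, 2, 2, 2, 2], [2, 2, 2, 2, 2, 2], [2, 2, 0, 1, 0, 1],
    [4, 3, 1, 0, 4, 2], [5, 5, 4, 3, 4, 0], [5, 5, 5, 5, 3, 1, 0, 4, 0, 1],
    [0, 1, 0, 4, 2, 2, 2, 2, 2, 0], [0, 1, 0, 4, 2, 0, 1, 0],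
    [5, 5, 5, 5, 5, 5, 5, 5, 5, 5, 5, 5, 4, 0], [4, 3, 4, 2, 2, 2, 2, 2, 2, 2, 2],
    [5, 5, 5, 5, 5, 5, 5, 5, 0, 4, 0, 1],
    [1, 3, 4, 0, 1, 0, 4, 2, 2, 2, 2, 2, 2, 2, 2, 2, 2, 2, 0], [1, 0, 4, 2, 2, 2, 2, 2],
    [5, 5, 5, 5, 5, 5, 5, 5, 4, 3, 1, 0, 4, 0], [5, 5, 5, 5, 4, 3, 4, 0, 1, 0],
    [5, 5, 5, 5, 5, 5, 5, 5, 1, 0, 4, 0, 1, 0], [2, 2, 2, 2, 2, 2, 2, 0, 1],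
    [5, 5, 5, 5, 1, 0, 4, 0, 4], [4, 3, 1, 0, 4, 0, 1], [4, 3, 2, 2, 2, 2, 2, 2, 1],
    [2, 2, 2, 2, 2, 2, 2, 2, 2, 2, 2, 1, 0, 1], [5, 5, 5, 5, 5, 5, 4, 0, 4, 0, 1],
    [4, 3, 2, 2, 2, 2, 2, 1, 0], [0, 4, 0, 1, 0, 4, 2, 2, 2, 0], [5, 5, 1, 3, 1, 0],
    [3, 2, 2, 2, 2, 2, 2, 2, 2, 1, 0, 1, 0], [5, 5, 5, 5, 5, 5, 5, 5, 5, 5, 5, 5, 1],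
    [5, 1, 0, 4, 0, 1, 0, 4], [1, 3, 4, 2, 2, 2, 0, 1], [0, 4, 0, 1, 0, 4, 2, 2, 2, 2, 0, 1],
    [1, 0, 4, 2, 2, 2, 2, 2, 2, 2, 2, 2, 2, 2, 2, 2, 0],
    [5, 5, 5, 5, 5, 5, 5, 5, 5, 5, 5, 5, 5, 1, 3, 1, 0, 4, 0, 4], [4, 0, 1, 0, 1],
    [1, 0, 1, 0, 4, 0], [5, 5, 5, 5, 5, 5, 5, 5, 5, 5, 5, 5, 5, 0, 1, 0, 4, 0, 1, 0, 4],
    [5, 5, 5, 5, 5, 5, 5, 5, 5, 5, 5, 5, 1, 3], [1, 0, 1, 0, 4, 2, 0, 1, 0],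
    [5, 5, 5, 1, 0, 4, 0, 1, 0, 4, 0, 1, 0],
    [3, 2, 2, 2, 2, 2, 2, 2, 2, 2, 2, 2, 2, 2, 2, 1, 0],
    [5, 5, 5, 5, 5, 5, 5, 5, 5, 5, 5, 5, 5, 4, 3, 4, 0, 1, 0, 4, 0], [4, 3, 4, 2, 0, 1, 0, 1],
    [1, 0, 4, 0, 1, 0, 4, 2, 2, 2, 2, 2, 2, 2, 2, 2, 2, 0, 1],
    [5, 5, 5, 5, 5, 5, 5, 5, 5, 5, 5, 5, 4, 0, 4, 0, 1, 0, 4],
    [3, 4, 2, 2, 2, 2, 2, 2, 0, 1, 0], [3, 4, 0, 1, 0, 4, 0, 1, 0],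
    [5, 5, 5, 5, 0, 4, 0, 1, 0, 4], [5, 5, 5, 5, 5, 5, 5, 5, 5, 5, 5, 1, 3, 1, 0, 4],
    [4, 3, 1, 0, 4, 0, 4, 2, 2, 2], [0, 4, 0, 4, 2, 2],
    [1, 0, 4, 2, 2, 2, 2, 2, 2, 2, 2, 0, 1, 0, 1], [5, 0, 1, 0, 4, 0, 1, 0, 4, 0],
    [5, 5, 5, 5, 5, 5, 5, 5, 5, 5, 5, 5, 5, 5, 4, 0, 1, 0, 4, 0, 1, 0],
    [5, 5, 5, 5, 5, 5, 5, 5, 5, 5, 5, 5, 3, 4, 0], [0, 1, 0, 4, 2, 2, 2, 2, 2, 2, 2, 2],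
    [5, 5, 5, 5, 5, 5, 3, 1, 0, 4, 0, 4], [4, 2, 2, 2, 2, 2, 2, 2, 2, 2, 2, 2, 2, 2, 2],
    [5, 5, 5, 5, 5, 5, 5, 5, 5, 5, 5, 3, 4, 0, 1, 0, 1], [3, 4, 2, 2, 2, 2, 2, 2, 2],
    [0, 4, 0, 4, 2, 2, 2, 2, 2, 2, 2, 2, 2, 2, 2, 0], [5, 5, 5, 5, 5, 1, 0, 1, 0, 4, 0, 1],
    [5, 5, 5, 5, 5, 5], [5, 5, 5, 5, 5, 5, 5, 5, 5, 5, 5, 1, 0, 1, 0, 4, 0, 1, 0],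
    [5, 5, 5, 5, 5, 5, 5, 1, 0, 4], [5, 5, 5, 5, 5, 5, 5, 5, 5, 4, 3, 1, 0, 4, 0, 4],
    [5, 5, 5, 5, 5, 5, 5, 5, 5, 0, 4, 0, 1, 0, 4, 0], [5, 0, 4, 0, 4, 0],
    [0, 1, 0, 4, 0, 1, 0, 4, 2, 2, 2, 2], [0, 4, 2, 2, 2, 2, 2, 2, 2, 2, 2, 0, 1],
    [0, 4, 0, 1, 0, 4, 2, 2, 2, 2, 2, 2, 2, 2, 2, 2, 2, 2, 2],
    [4, 0, 4, 2, 2, 2, 2, 2, 2, 2, 2, 2, 2, 2, 0, 1], [3, 4, 2, 2, 2, 2, 2, 2, 0, 1, 0, 1],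
    [5, 5, 5, 5, 5, 5, 5, 5, 5, 5, 5, 5, 4, 0, 1, 0, 1], [4, 2, 2, 2, 2, 2, 0],
    [5, 5, 5, 5, 5, 5, 3, 4, 0, 1, 0], [5, 5, 5, 5, 5, 5, 4, 3, 1],
    [3, 1, 0, 4, 0, 4, 2, 2, 2, 2, 2, 2, 2, 2, 2, 2, 2], [1, 0, 4, 2, 0],
    [5, 5, 5, 5, 5, 5, 5, 0, 1, 0, 4, 0], [5, 5, 1, 0, 4, 0, 1, 0, 4, 0, 1],
    [1, 0, 4, 0, 4, 2, 2, 2, 2, 2, 2, 2, 2, 2, 2, 2, 2, 2], [3, 4, 2, 2, 2, 2, 2, 0],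
    [5, 5, 5, 5, 5, 5, 5, 5, 5, 1, 3, 4, 0, 1],
    [5, 5, 5, 5, 5, 5, 5, 5, 5, 5, 5, 5, 5, 5, 4, 3, 4, 0],
    [4, 3, 4, 0, 1, 0, 4, 2, 2, 2, 2, 0], [1, 0, 4, 2, 2, 2, 2, 2, 2, 2, 2, 2, 0, 1, 0],
    [5, 5, 5, 5, 5, 5, 5, 5, 5, 5, 5, 5, 5, 0, 1, 0, 4, 0, 1, 0, 4, 0], [2, 2, 2, 2, 2, 1],
    [5, 5, 5, 5, 5, 5, 5, 5, 5, 5, 0, 1, 0, 1],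
    [1, 0, 4, 0, 1, 0, 4, 2, 2, 2, 2, 2, 2, 2, 2, 2, 2, 2, 2, 2, 2, 0, 1, 0],
    [4, 3, 1, 0, 4, 2, 2, 2, 2, 2, 2, 2, 2, 2, 0], [5, 5, 5, 5, 5, 5, 5, 5, 5, 5, 0, 4, 0, 4],
    [5, 5, 5, 5, 5, 5, 5, 5, 5, 5, 5, 5, 5, 5, 1, 3, 1, 0],
    [1, 0, 1, 0, 4, 2, 2, 2, 2, 2, 2, 2, 2, 2, 2, 2, 2, 0, 1], [1, 3, 2, 2, 2, 2, 2],
    [5, 1, 3, 4, 0, 1, 0, 4, 0], [1, 3, 1, 0, 4, 2, 2, 2, 2, 2, 2],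
    [5, 5, 5, 5, 5, 5, 5, 4, 3, 1, 0], [5, 5, 5, 5, 5, 3, 4],
    [5, 5, 5, 5, 5, 5, 5, 5, 5, 5, 5, 5, 1, 0, 1, 0, 4, 0], [5, 5, 5, 5, 4, 3, 4],
    [5, 5, 5, 5, 5, 5, 5, 5, 5, 5, 5, 5, 3, 4, 0, 1, 0, 4, 0, 1, 0], [5, 1, 0, 1], [4, 2, 2],
    [1, 3, 1, 0, 4, 0, 4, 2, 2, 2, 2], [5, 5, 5, 5, 5, 5, 5, 5, 5, 5, 5, 0, 1, 0, 4, 0, 1, 0],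
    [4, 0, 4, 0, 1, 0, 4, 2, 2, 2, 2, 2],
    [5, 5, 5, 5, 5, 5, 5, 5, 5, 5, 5, 5, 4, 3, 1, 0, 4, 0, 1], [5, 5, 5, 5, 0, 1, 0, 4],
    [5, 5, 5, 5, 5, 5, 5, 5, 0, 4, 0, 1, 0, 4, 0, 1],
    [3, 1, 0, 4, 2, 2, 2, 2, 2, 2, 2, 2, 2, 2, 2, 2, 2, 0, 1],
    [5, 5, 5, 5, 5, 5, 5, 5, 5, 5, 5, 4, 3, 4, 0, 1, 0, 1], [5, 5, 5, 5, 5, 0, 1],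
    [4, 0, 1, 0, 4, 2, 2, 2, 0, 1, 0],
    [5, 5, 5, 5, 5, 5, 5, 5, 5, 5, 5, 5, 5, 1, 0, 4, 0, 1, 0, 4],
    [5, 5, 5, 5, 5, 5, 5, 5, 5, 5, 5, 4, 3, 1, 0, 4], [3, 2, 2, 1, 0],
    [4, 3, 4, 2, 2, 2, 2, 2, 2, 2, 2, 2, 2, 2, 2, 2, 0, 1, 0],
    [5, 5, 5, 5, 1, 0, 4, 0, 1, 0, 1], [5, 5, 5, 5, 3, 1, 0, 1, 0],
    [5, 5, 5, 5, 5, 5, 5, 5, 5, 5, 5, 5],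
    [0, 1, 0, 4, 0, 1, 0, 4, 2, 2, 2, 2, 2, 2, 2, 2, 2, 2, 0],
    [4, 3, 4, 2, 2, 2, 2, 2, 2, 2, 2, 2, 2, 2, 2, 0, 1, 0, 1], [5, 5, 5, 5, 5, 1, 0, 4, 0],
    [5, 5, 5, 5, 5, 5, 5, 1, 0, 1], [0, 4, 2, 2, 2, 0, 1],
    [1, 0, 1, 0, 4, 2, 2, 2, 2, 2, 2, 0, 1],
    [5, 5, 5, 5, 5, 5, 5, 5, 5, 5, 1, 0, 4, 0, 1, 0, 1], [5, 5, 4, 3, 4, 0, 1, 0, 4, 0],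
    [5, 5, 5, 5, 5, 5, 5, 5, 5, 5, 5, 5, 5, 5, 0, 4, 0, 1, 0, 4, 0, 1],
    [5, 5, 5, 5, 5, 5, 5, 5, 5, 5, 5, 5, 4, 3, 1], [5, 5, 5, 5, 5, 5, 5, 5, 5, 5, 4, 3, 4],
    [5, 5, 5, 5, 5, 5, 5, 0, 4, 0, 4, 0], [0, 4, 0, 4, 2, 2, 2, 2, 2, 2, 2, 2, 2, 2, 2, 2, 2],
    [5, 5, 5, 5, 3, 1, 0], [1, 3, 4, 2, 2, 2, 2, 2, 2, 2, 2, 2, 2, 2, 2, 2, 2, 0, 1],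
    [4, 3, 1, 0, 4, 2, 2, 2, 2, 2, 2, 2, 2, 2, 2, 2, 0, 1], [5, 4, 0],
    [5, 5, 5, 5, 5, 5, 5, 5, 5, 5, 5, 3, 4],
    [4, 3, 1, 0, 4, 0, 4, 2, 2, 2, 2, 2, 2, 2, 2, 2, 2, 2, 2, 2, 2],
    [1, 0, 4, 0, 1, 0, 4, 2, 2, 2, 2, 2, 2, 2, 2, 0, 1, 0],
    [1, 0, 4, 0, 1, 0, 4, 2, 2, 2, 2, 2, 2, 2, 2, 2, 2], [1, 0, 4, 0, 4, 2, 2, 2, 2, 2, 2, 2],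
    [0, 1, 0, 4, 2, 2, 2, 2, 2, 2, 2, 2, 2, 2, 2, 2, 0, 1, 0], [3, 4, 0, 1, 0, 1],
    [1, 3, 1, 0, 4], [1, 0, 1, 0, 4, 2, 2, 2, 2, 2, 2, 2, 2, 2, 2, 2, 2, 0, 1, 0], [5, 1],
    [5, 5, 5, 5, 5, 5, 5, 5, 5, 5, 5, 0, 1],
    [5, 5, 5, 5, 5, 5, 5, 5, 5, 5, 5, 5, 5, 0, 1, 0, 4, 0], [5, 5, 5, 5, 4],
    [0, 4, 0, 1, 0, 4, 2, 2, 2, 2, 2, 2, 2], [5, 1, 3],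
    [5, 5, 5, 5, 5, 5, 5, 5, 5, 5, 3, 1, 0, 1, 0], [1, 0, 4, 2, 2, 2, 0, 1, 0],
    [3, 1, 0, 4, 2, 2, 2, 2, 2, 2, 2, 0, 1], [3, 1, 0, 4, 0, 4, 2, 2, 2, 2, 2],
    [3, 4, 0, 1, 0, 4, 2, 2, 2, 2, 2, 2, 2, 2, 2, 2, 2, 0, 1, 0],
    [5, 5, 0, 1, 0, 4, 0, 1, 0, 4], [1, 3, 2, 2, 2, 2, 2, 2, 2, 2, 2, 1, 0],
    [4, 3, 4, 2, 2, 2, 2, 2, 2, 2, 0, 1, 0], [4, 3, 4, 2, 2, 2, 2, 2, 2, 2, 2, 2, 0],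
    [5, 5, 5, 5, 5, 5, 5, 5, 5, 5, 0, 1, 0, 4],
    [5, 5, 5, 5, 5, 5, 5, 5, 5, 5, 5, 5, 3, 4, 0, 1, 0],
    [1, 0, 1, 0, 4, 2, 2, 2, 2, 2, 2, 2, 2, 2, 2, 2, 0],
    [0, 4, 0, 1, 0, 4, 2, 2, 2, 2, 2, 2, 2, 2, 2, 2, 2, 2, 2, 2, 0],
    [4, 3, 1, 0, 4, 2, 2, 2, 0], [4, 3, 1, 0, 4, 2, 2, 2, 2, 2, 2, 2, 2, 2, 2, 2, 2],
    [5, 3, 4, 0], [5, 4, 0, 4, 0, 1, 0, 4], [4, 2, 2, 2, 2, 2, 2, 2, 2, 2, 2, 2, 0, 1, 0, 1],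
    [5, 5, 5, 5, 5, 5, 5, 5, 5, 5, 5, 5, 5, 4, 3, 1, 0],
    [5, 5, 5, 5, 5, 5, 5, 5, 5, 5, 5, 5, 5, 1, 0, 4],
    [2, 2, 2, 2, 2, 2, 2, 2, 2, 2, 2, 2, 2, 0, 1, 0, 1], [5, 5, 5, 4, 0, 1, 0, 4, 0, 1, 0],
    [5, 5, 5, 5, 5, 5, 5, 5, 1, 0, 4, 0, 1, 0, 4, 0, 1], [5, 5, 1, 3, 1, 0, 4, 0, 4],
    [4, 0, 4, 2, 2, 2, 2, 2, 0, 1], [5, 5, 5, 5, 5, 5, 5, 1, 3, 4, 0, 1, 0, 4, 0],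
    [2, 2, 2, 2, 2, 2, 2, 2, 2, 2], [4, 3, 4, 2, 2, 0], [0, 1, 0, 4, 2, 2, 2, 2, 2, 0, 1, 0],
    [5, 5, 5, 5, 0, 4, 0, 1], [5, 5, 5, 5, 4, 3, 1, 0, 4, 0],
    [2, 2, 2, 2, 2, 2, 2, 2, 2, 2, 2, 0, 1], [4, 3, 2, 2, 2, 2, 2, 2, 2, 2, 2, 2, 1],
    [4, 3, 2, 2, 2, 2, 2, 2, 2, 2, 2, 1, 0],
    [3, 2, 2, 2, 2, 2, 2, 2, 2, 2, 2, 2, 2, 1, 0, 1, 0], [1, 3, 4, 2, 2, 2, 2, 2, 2, 2, 0, 1],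
    [5, 5, 5, 5, 5, 5, 5, 5, 5, 1, 3, 1, 0, 4, 0, 4],
    [5, 5, 5, 5, 5, 5, 5, 5, 5, 0, 1, 0, 4, 0, 1, 0, 4], [1, 0, 4, 0, 1, 0, 4, 2, 0, 1, 0],
    [4, 3, 4, 2, 2, 2, 2, 2, 0, 1, 0, 1], [3, 4, 2, 2, 2, 2, 2, 2, 2, 2, 2, 2, 0, 1, 0],
    [5, 5, 5, 5, 5, 5, 5, 1, 3, 1, 0, 4],
    [1, 0, 4, 2, 2, 2, 2, 2, 2, 2, 2, 2, 2, 2, 2, 0, 1, 0, 1],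
    [5, 5, 5, 5, 5, 5, 5, 5, 3, 4, 0], [5, 5, 5, 5, 5, 5, 5, 5, 5, 5, 5, 4],
    [5, 5, 5, 5, 5, 5, 5, 5, 5, 5, 5, 5, 5, 5, 0, 4, 0, 4, 0], [2, 2, 2, 2, 2, 2, 0, 1, 0, 1],
    [3, 1, 0, 4, 0, 1], [5, 5, 5, 5, 5, 5, 5, 5, 4, 0],
    [5, 5, 5, 5, 5, 5, 5, 5, 5, 5, 5, 5, 5, 5, 1, 3, 4, 0, 1, 0, 4, 0], [4, 3, 4, 0, 1, 0],
    [1, 0, 4, 0, 4], [5, 5, 5, 5, 5, 5, 5, 5, 5, 5, 5, 5, 5, 5, 1, 0, 1],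
    [0, 4, 0, 1, 0, 4, 2, 2, 2, 2, 2, 2, 2, 0], [5, 5, 5, 5, 5, 5, 5, 5, 1],
    [0, 4, 0, 1, 0, 4, 2, 2, 2, 2, 2, 2, 2, 2, 0, 1], [4, 2, 2, 2, 2, 0, 1, 0, 1],
    [5, 5, 5, 5, 5, 5, 5, 5, 1, 3], [5, 5, 5, 5, 5, 5, 5, 5, 5, 5, 5, 3, 1, 0],
    [1, 0, 4, 0, 1, 0, 4, 2, 2, 2, 2, 2, 2, 2, 2, 2, 2, 2, 2, 2, 2, 0, 1],
    [3, 4, 0, 1, 0, 4, 2, 2, 2, 2, 0, 1, 0], [4, 3, 1, 0, 4, 0, 4, 2, 2, 2, 2, 2, 2, 2],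
    [0, 1, 0, 4, 0, 1, 0, 4, 2, 2, 2, 0], [0, 1, 0, 4, 2, 2, 2, 2, 2, 2, 2, 2, 2, 2, 2, 2],
    [5, 5, 5, 5, 5, 5, 5, 3, 4, 0, 1, 0, 1], [5, 1, 0, 1, 0, 4, 0, 1],
    [4, 3, 1, 0, 4, 2, 2, 2, 2, 2], [0, 1, 0, 4, 2, 2, 2, 2, 2, 2, 2, 2, 2, 0],
    [4, 3, 4, 2, 2, 2, 2, 2, 2, 2, 2, 2, 2, 2, 2], [1, 0, 4, 2, 2, 2, 2, 2, 2, 2, 2, 2],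
    [5, 5, 5, 5, 1, 0, 4, 0, 1, 0], [4, 3, 1, 0, 4, 2, 2, 2, 2, 0, 1], [5, 5, 4, 0, 4, 0, 1],
    [1, 3, 2, 2, 1, 0], [1, 0, 4, 0, 1, 0, 4, 2, 2, 2],
    [5, 5, 5, 5, 5, 5, 5, 5, 5, 5, 5, 5, 1, 0, 4, 0], [1, 0, 1, 0, 4, 2, 2, 2, 2, 0],
    [1, 0, 1, 0, 4, 2, 2, 2, 2, 2, 0, 1, 0],
    [5, 5, 5, 5, 5, 5, 5, 5, 5, 4, 3, 4, 0, 1, 0, 4, 0],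
    [5, 5, 5, 5, 5, 5, 5, 5, 4, 0, 4, 0, 1, 0, 4], [0, 4, 0, 1, 0, 4],
    [0, 4, 0, 4, 2, 2, 2, 2, 2, 2], [5, 5, 5, 5, 5, 5, 5, 5, 5, 5, 4, 0, 1, 0, 4, 0, 1, 0],
    [5, 5, 3, 1, 0, 4, 0, 4], [3, 4, 2, 2, 2, 2, 2, 2, 2, 2, 2, 2, 2],
    [2, 2, 2, 2, 2, 2, 2, 2, 2, 2, 2, 2, 2, 2], [0, 4, 0, 1],
    [4, 3, 2, 2, 2, 2, 2, 2, 2, 2, 2, 2, 2, 2, 2, 2, 1],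
    [1, 3, 4, 2, 2, 2, 2, 2, 2, 2, 2, 2, 2, 2, 0, 1],
    [1, 0, 4, 0, 1, 0, 4, 2, 2, 2, 2, 2, 0, 1, 0], [5, 5, 5, 1, 3, 1, 0, 4],
    [5, 5, 5, 5, 5, 5, 5, 4], [3, 1, 0, 4, 2, 2, 2, 2, 0, 1], [4, 3, 4, 2, 2, 2, 2, 0, 1, 0],
    [0, 4, 0, 1, 0, 4, 2, 2, 2, 2, 2, 2, 2, 2, 2, 2, 2, 0],
    [4, 2, 2, 2, 2, 2, 2, 2, 2, 0, 1, 0, 1],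
    [5, 5, 5, 5, 5, 5, 5, 5, 5, 5, 5, 1, 0, 4, 0, 1, 0, 4, 0, 1],
    [0, 1, 0, 4, 0, 1, 0, 4, 2, 2, 2, 2, 2, 2, 2, 0], [1, 0, 1, 0, 4, 2, 2, 2, 0, 1],
    [5, 5, 5, 5, 5, 5, 5, 5, 5, 5, 5, 5, 5, 4, 3, 4],
    [4, 3, 1, 0, 4, 2, 2, 2, 2, 2, 2, 2, 2, 0, 1], [1, 0, 4, 0, 1, 0, 4, 2, 2, 2, 2, 2, 2, 2],
    [1, 0, 1, 0, 4, 2, 2, 2, 2, 2, 2, 2, 2, 2, 0, 1, 0], [0, 4, 0, 1, 0, 4, 2, 2, 2, 2],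
    [3, 1, 0, 4, 0, 4, 2, 2], [4, 3, 4, 2, 2, 2, 2, 2, 2, 0], [4, 3, 1, 0, 4, 0],
    [4, 3, 2, 2, 2, 2, 2, 2, 2, 2, 2, 2, 2, 2, 2, 1, 0], [5, 5, 5, 5, 5, 1, 3, 1, 0, 4, 0, 4],
    [4, 3, 4, 2, 2, 2, 2, 2, 2, 2, 2, 2, 0, 1, 0, 1],
    [5, 5, 5, 5, 5, 5, 5, 5, 5, 5, 5, 5, 5, 1, 0, 4, 0, 1, 0, 1],
    [5, 5, 5, 5, 5, 5, 5, 5, 5, 5, 0, 4, 0, 4, 0], [5, 5, 5, 5, 4, 0],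
    [1, 0, 4, 0, 4, 2, 2, 2, 2], [5, 5, 5, 5, 1], [5, 5, 5, 5, 1, 3],
    [3, 4, 0, 1, 0, 4, 2, 2, 2, 2, 2, 2, 2, 2, 0, 1, 0],
    [5, 5, 5, 5, 5, 5, 5, 5, 5, 5, 5, 5, 5, 0, 1, 0, 4],
    [4, 3, 1, 0, 4, 2, 2, 2, 2, 2, 2, 2, 2, 2],
    [1, 0, 4, 2, 2, 2, 2, 2, 2, 2, 2, 2, 2, 2, 2, 2], [4, 0, 4, 2, 2, 0, 1],
    [5, 5, 5, 5, 5, 5, 5, 5, 1, 0, 4, 0], [5, 5, 5, 5, 5, 4, 3, 4, 0, 1, 0, 4, 0],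
    [0, 4, 0, 4, 2, 2, 2, 2, 2, 2, 2, 2, 2, 2],
    [5, 5, 5, 5, 5, 5, 5, 5, 5, 5, 5, 5, 5, 5, 3, 4],
    [0, 1, 0, 4, 2, 2, 2, 2, 2, 2, 2, 2, 2, 0, 1, 0],
    [5, 5, 5, 5, 5, 5, 5, 5, 5, 5, 5, 5, 5, 5, 0, 1],
    [5, 5, 5, 5, 5, 5, 5, 5, 5, 5, 5, 5, 5, 3, 1, 0, 1, 0],
    [5, 5, 5, 5, 5, 0, 1, 0, 4, 0, 1, 0, 4],
    [3, 4, 2, 2, 2, 2, 2, 2, 2, 2, 2, 2, 2, 2, 2, 2, 0, 1, 0], [5, 5, 5, 5, 3, 4, 0],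
    [2, 2, 2, 2, 2, 2, 2, 2, 2, 2, 0, 1, 0, 1],
    [5, 5, 5, 5, 5, 5, 5, 5, 5, 5, 1, 3, 4, 0, 1, 0, 4, 0],
    [5, 5, 5, 5, 5, 5, 5, 5, 5, 5, 1, 0, 1],
    [0, 4, 0, 1, 0, 4, 2, 2, 2, 2, 2, 2, 2, 2, 2, 2, 2, 2, 0, 1],
    [5, 5, 5, 5, 5, 5, 5, 3, 1, 0], [4, 3, 1, 0, 4, 0, 4, 2, 2, 2, 2, 2, 2, 2, 2, 2, 2, 2],
    [5, 5, 5, 3, 4, 0, 1, 0, 1], [0, 1, 0, 4, 2, 2, 2, 2, 2, 2, 2, 2, 2, 2, 2, 2, 2, 0],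
    [1, 0, 4, 0, 1, 0], [1, 3, 2, 2, 2, 2, 2, 2, 1, 0],
    [1, 0, 1, 0, 4, 2, 2, 2, 2, 2, 2, 2, 2, 0], [5, 5, 5, 5, 4, 0, 4, 0, 1, 0, 4],
    [5, 5, 5, 5, 5, 5, 4, 0, 1, 0, 4, 0, 1, 0],
    [2, 2, 2, 2, 2, 2, 2, 2, 2, 2, 2, 2, 2, 2, 0, 0],
    [5, 5, 5, 5, 5, 5, 4, 3, 1, 0, 4, 0, 1, 0], [5, 5, 5, 5, 4, 3, 4, 0, 1, 0, 4],
    [1, 3, 1, 0, 4, 2, 2, 2, 2, 2, 2, 2, 2, 0], [2, 2, 2, 2, 2, 2, 1, 0, 1, 0],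
    [1, 3, 4, 0, 1, 0], [3, 1, 0, 4, 2, 2, 2, 2, 2, 2, 2, 2, 2, 2, 2, 2, 2, 0],
    [5, 5, 5, 0, 4, 0, 1, 0, 1], [4, 0, 1, 0, 4, 0, 4, 2, 2, 2, 2, 2, 2, 2, 2, 2, 2, 2],
    [5, 5, 5, 5, 5, 5, 5, 0, 1, 0],
    [3, 4, 0, 1, 0, 4, 2, 2, 2, 2, 2, 2, 2, 2, 2, 2, 2, 2, 0, 1],
    [5, 5, 5, 5, 5, 5, 5, 5, 5, 5, 1, 3, 1],
    [5, 5, 5, 5, 5, 5, 5, 5, 5, 5, 1, 0, 4, 0, 1, 0, 4, 0],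
    [3, 2, 2, 2, 2, 2, 2, 2, 2, 2, 2, 1, 0, 1], [5, 5, 5, 5, 0, 4, 0],
    [0, 4, 2, 2, 2, 2, 2, 2, 2, 2, 2, 2, 2, 2, 2, 2, 0, 1, 0],
    [5, 5, 5, 5, 5, 3, 1, 0, 4, 0, 1, 0, 4],
    [5, 5, 5, 5, 5, 5, 5, 5, 5, 5, 5, 5, 5, 0, 1, 0, 1, 0],
    [5, 5, 5, 5, 5, 5, 5, 5, 5, 5, 5, 5, 5, 5, 3, 1],
    [3, 1, 0, 4, 2, 2, 2, 2, 2, 2, 2, 2, 2, 0, 1, 0],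
    [5, 5, 5, 5, 5, 5, 5, 5, 5, 5, 5, 5, 5, 5, 0, 4],
    [3, 4, 0, 4, 2, 2, 2, 2, 2, 2, 2, 2, 2, 2], [5, 5, 5, 5, 5, 4, 0, 4, 0, 1, 0, 4, 0],
    [5, 5, 5, 5, 5, 5, 5, 5, 1, 3, 4, 0], [4, 3, 4, 2, 2, 0, 1],
    [1, 3, 4, 2, 2, 2, 2, 2, 2, 2, 2, 2, 2, 2, 2, 2],
    [4, 0, 1, 0, 4, 2, 2, 2, 2, 2, 2, 2, 2, 2],
    [5, 5, 5, 5, 5, 5, 5, 5, 5, 5, 5, 5, 5, 3, 1, 0, 4],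
    [0, 4, 0, 1, 0, 4, 2, 2, 2, 2, 2, 2, 2, 2, 0, 1, 0], [5, 5, 5, 5, 1, 0],
    [5, 5, 5, 5, 1, 0, 0], [1, 3, 4, 0, 4, 2, 2, 2, 2], [5, 5, 5, 5, 4, 3],
    [5, 5, 5, 5, 5, 5, 5, 5, 5, 5, 3, 4, 0, 4, 0],
    [5, 5, 5, 5, 5, 5, 5, 5, 5, 5, 5, 5, 5, 1, 3, 4, 0, 1, 0, 1],
    [4, 0, 4, 2, 2, 2, 2, 2, 2, 2, 2, 2, 0, 1, 0, 1], [5, 5, 5, 5, 5, 1, 0, 1, 0, 4, 0, 4],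
    [4, 2, 2, 2, 2, 2, 2, 2, 2, 2, 2, 2, 2, 2, 0, 1, 0], [4, 0, 1, 0, 4, 0],
    [4, 0, 4, 2, 2, 2, 2, 2, 2, 0], [0, 1, 0, 4, 0, 4, 2, 2], [3, 4, 0, 1, 0, 4, 2, 2, 2, 2],
    [1, 3, 1, 0, 4, 2, 2, 2, 2, 2, 2, 2, 2, 2, 0, 1, 0],
    [1, 3, 4, 0, 1, 0, 4, 2, 2, 2, 2, 2, 2, 2], [4, 0, 1, 0, 4, 2, 2, 2, 2, 2, 2, 2, 2, 0, 1],
    [5, 5, 5, 5, 5, 5, 5, 5, 5, 5, 5, 5, 5, 4, 0, 4], [1, 3, 1, 0, 4, 2, 2, 2, 0, 1],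
    [3, 1, 0, 4, 0, 1, 0, 4, 2, 2, 2, 2, 2, 2, 2, 0],
    [5, 5, 5, 5, 5, 5, 5, 5, 5, 5, 5, 1, 3, 4, 0, 1, 0, 4, 0, 1],
    [4, 3, 2, 2, 2, 2, 2, 2, 2, 2, 1, 0, 1],
    [3, 4, 0, 1, 0, 4, 2, 2, 2, 2, 2, 2, 2, 2, 2, 2, 2, 0], [4, 0, 4, 2, 2, 2, 2, 0, 1, 0],
    [0, 1, 0, 4, 2, 2, 2, 2, 0, 1], [5, 5, 5, 5, 5, 5, 5, 4, 0, 0], [5, 5, 5, 1, 0, 1, 0, 4],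
    [1, 3, 4, 0, 1, 0, 4, 2, 2, 2, 2, 2, 0, 1, 0],
    [1, 0, 4, 2, 2, 2, 2, 2, 2, 2, 2, 2, 2, 2, 0, 1],
    [4, 2, 2, 2, 2, 2, 2, 2, 2, 2, 2, 2, 2, 2, 2, 0, 1], [3, 4, 0, 1],
    [2, 2, 2, 2, 2, 2, 2, 2, 2, 2, 0, 0], [0, 4, 2, 2, 2, 2, 2, 2, 2, 2, 2, 2, 2],
    [5, 5, 0, 1, 0, 4, 0, 4], [5, 5, 5, 5, 5, 5, 5, 5, 5, 5, 4, 3, 1, 0, 4, 0, 1, 0],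
    [3, 4, 0, 4, 2, 2, 2, 2, 2, 2], [3, 4, 0, 1, 0, 4],
    [5, 5, 5, 5, 5, 5, 5, 5, 4, 3, 4, 0, 1, 0, 4],
    [5, 5, 5, 5, 5, 5, 5, 5, 5, 4, 0, 4, 0, 1, 0, 4, 0],
    [1, 3, 1, 0, 4, 2, 2, 2, 2, 2, 0, 1, 0], [1, 3, 1, 0, 4, 2, 2, 2, 2, 0],
    [5, 5, 5, 5, 5, 5, 5, 5, 5, 5, 5, 5, 1, 3, 4, 0], [1, 3, 4, 0, 1, 0, 4, 2, 2, 2],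
    [2, 2, 1, 0, 1, 0], [5, 5, 4, 3, 4, 0, 1], [4, 0, 1, 0, 4, 2, 2, 2, 2, 0, 1],
    [5, 5, 5, 5, 1, 3, 4, 0, 1, 0], [1, 3, 4, 2, 2, 2, 2, 2, 2, 2, 2, 2],
    [4, 0, 4, 2, 2, 2, 2, 2, 2, 2, 2, 2, 2, 2, 2], [3, 1, 0, 4, 2, 2, 2, 2, 2, 2, 2, 2, 2, 0],
    [4, 0, 1, 0, 4, 2, 2, 2, 2, 2], [5, 1, 3, 1, 0, 4, 0, 1],
    [5, 5, 5, 5, 5, 5, 5, 0, 4, 0, 1, 0, 1], [3, 1, 0, 4, 2, 2, 2, 2, 2, 2, 2, 2, 2, 2, 2, 2],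
    [3, 1, 0, 4, 0, 1, 0, 4, 2, 2, 2, 0], [4, 0, 1, 0, 4, 0, 4, 2, 2, 2, 2, 2, 2, 2],
    [0, 4, 0, 1, 0, 4, 2, 2, 2, 2, 0, 1, 0],
    [1, 3, 4, 0, 1, 0, 4, 2, 2, 2, 2, 2, 2, 2, 2, 2, 2, 2, 2, 2, 2, 0, 1],
    [5, 5, 5, 5, 5, 5, 5, 5, 5, 5, 5, 0, 1, 0], [5, 5, 5, 5, 5, 5, 5, 5, 1, 0],
    [4, 3, 2, 2, 2, 2, 1, 0, 1], [3, 4, 0, 1, 0, 4, 2, 2, 2, 2, 2, 2, 2, 2, 0, 1],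
    [5, 5, 5, 5, 5, 5, 5, 5, 1, 0, 0], [3, 4, 0, 1, 0, 4, 2, 2, 2, 2, 2, 2, 2, 0],
    [5, 5, 5, 5, 5, 5, 5, 5, 5, 5, 5, 5, 5, 5, 1, 3, 1], [1, 3, 4, 0, 4], [4, 0, 4, 0, 1, 0],
    [5, 5, 5, 5, 5, 5, 5, 5, 5, 5, 5, 5, 5, 5, 1, 0, 4, 0, 1, 0, 4, 0],
    [5, 5, 5, 5, 5, 5, 5, 5, 4, 3], [0, 1, 0, 4, 0, 1], [3, 2, 2, 2, 2, 2, 2, 1, 0, 1],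
    [5, 5, 5, 5, 5, 5, 5, 5, 5, 5, 5, 5, 5, 5, 3, 4, 0, 4, 0],
    [5, 5, 5, 5, 5, 5, 5, 5, 5, 5, 5, 4, 0, 0], [5, 5, 5, 5, 5, 5, 5, 5, 0, 4, 0],
    [1, 3, 4, 2, 2, 2, 2, 2, 2, 2, 2, 2, 2, 2, 2, 0, 1, 0, 1],
    [5, 5, 5, 5, 5, 5, 5, 1, 0, 1, 0, 4], [0, 4, 2, 2, 2, 2, 2, 2, 2, 2, 2, 2, 0, 1, 0],
    [4, 0, 4, 2, 2, 2, 2, 2, 0, 1, 0, 1], [1, 3, 4, 0, 1, 0, 4, 2, 0, 1, 0],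
    [5, 5, 5, 5, 5, 5, 5, 5, 5, 3, 1, 0, 4, 0, 1, 0, 4],
    [5, 5, 5, 5, 5, 5, 5, 5, 5, 1, 0, 1, 0, 4, 0, 4], [1, 0, 4, 2, 2, 2, 2, 2, 2, 2, 0, 1],
    [2, 2, 2, 2, 2, 2, 2, 2, 2, 2, 2, 2, 0, 1, 0, 1, 0],
    [4, 2, 2, 2, 2, 2, 2, 2, 2, 2, 0, 1, 0], [4, 2, 2, 2, 2, 2, 2, 2, 2, 2, 2, 0, 1],
    [3, 2, 2, 2, 2, 2, 2, 2, 2, 2, 2, 2, 1], [5, 5, 5, 5, 4, 0, 1, 0, 4, 0],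
    [5, 5, 5, 5, 3, 4, 0, 1], [3, 1, 0, 4, 2, 2, 2, 2, 2, 0, 1, 0], [4, 0, 4, 2, 2, 0],
    [5, 5, 5, 5, 5, 5, 5, 5, 5, 5, 5, 5, 0, 0], [5, 5, 5, 5, 5, 5, 5, 1, 0, 4, 0, 1, 0, 4, 0],
    [4, 3, 4, 2, 2, 2, 2, 2, 0, 1], [5, 5, 1, 0, 1, 0, 4, 0, 4],
    [5, 5, 5, 5, 5, 5, 5, 5, 1, 3, 4, 0, 1, 0, 4, 0, 1], [5, 5, 5, 4, 3, 1, 0, 4, 0, 1, 0],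
    [3, 2, 2, 2, 2, 2, 2, 2, 2, 2, 2, 2, 2, 2, 1, 0, 1],
    [5, 5, 5, 5, 5, 5, 5, 5, 5, 5, 5, 5, 5, 1, 3, 4],
    [5, 5, 5, 5, 5, 5, 5, 5, 5, 5, 5, 5, 5, 4, 0, 1, 0],
    [4, 3, 2, 2, 2, 2, 2, 2, 2, 2, 2, 2, 2, 1, 0, 1], [5, 4, 3, 4, 0, 1, 0, 4], [5, 0, 4, 0],
    [4, 0, 1, 0, 4, 2, 2, 2, 2, 2, 2, 2, 2, 2, 2, 2, 2], [4, 0, 1, 0, 4, 2, 2, 2, 0],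
    [3, 4, 0, 1, 0, 4, 2, 2, 2, 2, 2, 2, 2, 2, 2, 2, 2, 2, 2, 2, 0],
    [1, 3, 1, 0, 4, 2, 2, 2, 2, 2, 2, 2, 2, 2, 2, 2, 0],
    [5, 5, 5, 5, 5, 5, 5, 5, 5, 5, 5, 5, 0, 4, 0, 1, 0],
    [5, 5, 5, 5, 5, 5, 5, 5, 5, 5, 3, 1, 0, 4], [4, 0, 4, 2, 2, 2, 2, 2, 2, 2, 2, 2, 0],
    [4, 0, 4, 2, 2, 2, 2, 2, 2, 2, 0, 1, 0], [2, 2, 2, 2, 2, 2, 2, 2, 2, 1, 0, 1, 0],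
    [5, 5, 3, 1, 0, 4, 0, 1, 0, 4],
    [0, 4, 0, 1, 0, 4, 2, 2, 2, 2, 2, 2, 2, 2, 2, 2, 2, 0, 1, 0],
    [0, 1, 0, 4, 0, 4, 2, 2, 2, 2, 2], [0, 1, 0, 4, 2, 2, 2, 2, 2, 2, 2, 0, 1],
    [1, 3, 4, 2, 2, 2, 0, 1, 0], [5, 5, 5, 5, 5, 5, 5, 5, 5, 5, 0, 1, 0, 1, 0], [5, 1, 0],
    [3, 4, 0, 1, 0, 4, 2, 2, 2, 2, 2, 2, 2], [5, 5, 5, 5, 4, 0, 0],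
    [5, 5, 5, 5, 5, 5, 5, 5, 5, 5, 5, 5, 5, 3, 1, 0, 4, 0],
    [5, 5, 5, 5, 5, 5, 5, 5, 5, 5, 5, 3, 1], [5, 1, 0, 0],
    [1, 3, 1, 0, 4, 2, 2, 2, 2, 2, 2, 2, 2, 2, 2, 2, 2, 0, 1, 0], [1, 0, 1, 0, 4],
    [0, 4, 0, 1, 0, 1], [3, 1, 0, 4, 2, 2, 2, 2, 2, 2, 2, 2, 2, 2, 2, 2, 0, 1, 0],
    [1, 3, 4, 0, 4, 2, 2, 2, 2, 2, 2, 2], [1, 3, 4, 0, 1, 0, 4, 2, 2, 2, 2, 2, 2, 2, 2, 2, 2],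
    [1, 3, 4, 0, 1, 0, 4, 2, 2, 2, 2, 2, 2, 2, 2, 0, 1, 0],
    [4, 0, 1, 0, 4, 0, 4, 2, 2, 2, 2, 2, 2, 2, 2, 2, 2, 2, 2, 2, 2],
    [5, 5, 5, 5, 5, 5, 5, 5, 5, 5, 5, 0, 4], [5, 4, 3],
    [4, 0, 1, 0, 4, 2, 2, 2, 2, 2, 2, 2, 2, 2, 2, 2, 0, 1],
    [1, 0, 4, 2, 2, 2, 2, 2, 2, 2, 2, 2, 2, 2, 2, 2, 2, 0, 1], [5, 5, 5, 5, 0, 1, 0],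
    [3, 4, 0, 4, 2, 2, 2, 2, 2, 2, 2, 2, 2, 2, 2, 2, 2], [5, 5, 5, 5, 5, 5, 5, 3, 4, 0, 4, 0],
    [5, 5, 5, 5, 5, 5, 5, 5, 5, 5, 4, 0, 4], [5, 5, 5, 5, 5, 5, 5, 5, 5, 5, 5, 5, 4, 0, 1],
    [5, 5, 5, 5, 5, 5, 5, 5, 5, 5, 5, 5, 5, 5, 3, 4, 0, 1, 0, 4, 0, 1],
    [5, 5, 4, 0, 4, 0, 1, 0, 4, 0], [5, 5, 5, 5, 5, 5, 5, 5, 5, 5, 1, 3, 4, 0, 1, 0, 1],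
    [1, 3, 1, 0, 4, 2, 2, 2, 2, 2, 2, 0, 1], [3, 4, 2, 2, 2, 0, 1],
    [5, 5, 5, 5, 5, 5, 5, 1, 3, 1], [5, 5, 5, 5, 5, 1, 3, 4, 0],
    [4, 0, 4, 2, 2, 2, 2, 2, 2, 2, 2, 2, 2, 2, 2, 0, 1, 0, 1],
    [3, 1, 0, 4, 0, 1, 0, 4, 2, 2, 2, 2, 2, 2, 2, 2, 2, 2, 0], [5, 5, 5, 5, 5, 5, 0, 0],
    [5, 5, 5, 5, 0, 1, 0, 1, 0], [5, 5, 5, 5, 1, 3, 4, 0, 1, 0, 1],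
    [4, 0, 4, 2, 2, 2, 2, 2, 2, 2, 2, 2, 2, 2, 2, 2, 0, 1, 0], [2, 2, 0, 1, 0],
    [5, 5, 5, 5, 5, 5, 5, 5, 5, 5, 5, 4, 0, 1, 0, 4],
    [5, 5, 5, 5, 5, 5, 5, 5, 5, 5, 5, 5, 5, 1, 3, 4, 0, 1, 0, 4],
    [4, 3, 1, 0, 4, 2, 2, 2, 0, 1, 0], [5, 5, 5, 5, 5, 3, 1],
    [5, 5, 5, 5, 5, 5, 5, 5, 5, 5, 5, 4, 0, 4, 0, 1, 0, 1],
    [0, 1, 0, 4, 2, 2, 2, 2, 2, 2, 2, 2, 2, 2, 2, 2, 2, 0, 1],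
    [5, 5, 5, 5, 5, 5, 5, 5, 3, 4, 0, 1, 0, 4, 0, 1], [5, 5, 5, 5, 3, 1, 0, 4],
    [5, 5, 5, 5, 5, 5, 5, 5, 5, 5, 5, 5, 4, 0, 1, 0, 4, 0, 1],
    [4, 3, 4, 0, 1, 0, 4, 2, 2, 2, 2, 2],
    [5, 5, 5, 5, 5, 5, 5, 5, 5, 5, 5, 3, 1, 0, 4, 0, 1, 0], [1, 0, 1, 0, 4, 0, 4, 2, 2, 2, 2],
    [4, 2, 2, 0, 0], [5, 1, 3, 1],
    [5, 5, 5, 5, 5, 5, 5, 5, 5, 5, 5, 5, 0, 4, 0, 1, 0, 4, 0, 1, 0], [5, 5, 5, 5, 4, 0, 4],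
    [5, 5, 5, 5, 5, 5, 5, 5, 5, 5, 5, 5, 1, 3, 1, 0, 4, 0], [5, 5, 5, 5, 5, 0, 4],
    [5, 5, 5, 5, 5, 5, 5, 4, 0, 1, 0], [1, 0, 1, 0, 4, 2, 2, 2, 2, 2, 2],
    [5, 1, 0, 4, 0, 1, 0, 4, 0], [2, 2, 2, 2, 2, 1, 0],
    [1, 3, 1, 0, 4, 2, 2, 2, 2, 2, 2, 2, 2, 2, 2, 2, 2, 0, 1],
    [5, 5, 5, 5, 5, 5, 5, 5, 5, 5, 5, 5, 5, 5, 1, 0, 1, 0],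
    [5, 5, 5, 5, 5, 5, 5, 5, 5, 5, 3, 4, 0, 4], [4, 0, 1, 0, 4, 2, 2, 2, 2, 2, 2, 2, 2, 2, 0],
    [1, 3, 4, 0, 1, 0, 4, 2, 2, 2, 2, 2, 2, 2, 2, 2, 2, 2, 2, 2, 2, 0, 1, 0],
    [5, 5, 5, 5, 5, 5, 5, 5, 5, 5, 3, 1, 0, 1], [2, 2, 2, 2, 2, 1, 0, 0],
    [5, 5, 5, 5, 5, 5, 5, 5, 5, 5, 5, 5, 5, 3, 1, 0, 4, 0, 1, 0, 4, 0],
    [1, 3, 4, 2, 2, 2, 2, 2, 2, 2, 2, 2, 0, 1, 0], [4, 0, 4, 0, 1, 0, 4, 2, 2, 2, 2, 0],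
    [5, 5, 5, 5, 5, 5, 5, 5, 5, 5, 5, 5, 5, 5, 4, 0, 4, 0],
    [5, 5, 5, 5, 5, 5, 5, 5, 5, 1, 0, 4, 0, 1], [0, 4, 2, 2, 2, 2, 2, 0],
    [1, 3, 4, 0, 4, 2, 2, 2, 2, 2, 2, 2, 2, 2, 2, 2, 2, 2], [5, 5, 1, 3, 4, 0, 1, 0, 4, 0, 1],
    [5, 5, 5, 5, 5, 5, 5, 3, 1, 0, 4, 0], [1, 3, 4, 2, 0],
    [0, 1, 0, 4, 0, 4, 2, 2, 2, 2, 2, 2, 2, 2, 2, 2, 2], [5, 5, 5, 5, 5, 5, 4, 0, 1],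
    [5, 5, 5, 5, 5, 5, 0, 4, 0, 1, 0], [4, 3, 2, 2, 2, 2, 2],
    [5, 5, 5, 5, 5, 5, 5, 5, 5, 5, 5, 5, 4, 3, 1, 0, 1], [0, 4, 2, 2, 2, 2, 2, 2, 0, 1, 0, 1],
    [4, 3, 4, 2, 2, 2, 2, 2, 2, 2, 2, 2, 2, 2, 0, 1],
    [3, 4, 0, 1, 0, 4, 2, 2, 2, 2, 2, 2, 2, 2, 2, 2, 2, 2, 2],
    [3, 4, 2, 2, 2, 2, 2, 2, 2, 2, 2, 0, 1], [3, 1, 0, 4, 0, 1, 0, 4, 2, 2, 2, 2],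
    [5, 3, 4, 0, 4, 0], [5, 5, 5, 5, 5, 5, 5, 5, 5, 3, 4, 0, 1, 0, 4, 0],
    [5, 5, 5, 5, 5, 5, 5, 5, 5, 4, 0, 1, 0, 4, 0, 4], [5, 5, 5, 5, 5, 5, 5, 1, 3, 4],
    [5, 5, 5, 5, 5, 5, 5, 5, 5, 5, 5, 1, 3, 1, 0, 4, 0, 1, 0], [2, 2, 2, 2, 2, 2, 0, 0],
    [5, 5, 5, 5, 5, 1, 3, 1, 0, 4, 0, 1], [3, 4, 0, 4, 2, 2, 2, 2, 2, 2, 2, 2, 2, 2, 2, 0],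
    [0, 4, 2, 2, 2, 2, 2, 2, 2], [5, 5, 5, 5, 5, 5, 5, 5, 5, 5, 5, 0, 4, 0, 1, 0, 1],
    [4, 2, 2, 2, 2, 2, 2, 2, 2, 2, 2, 2, 2, 2, 2, 0, 0], [5, 5, 5, 5, 5, 5, 0, 1, 0, 4, 0, 4],
    [3, 1, 0, 4, 2, 2, 2, 2, 2, 2, 2, 2], [5, 5, 5, 5, 5, 5, 5, 5, 5, 5, 5, 5, 0, 4, 0],
    [5, 5, 5, 5, 5, 5, 5, 5, 5, 5, 5, 5, 5, 5, 4, 3, 1, 0, 4, 0, 1, 0],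
    [5, 3, 1, 0, 4, 0, 1, 0, 4, 0], [1, 3, 4, 2, 2, 2, 2, 2, 2, 2, 2, 0, 1, 0, 1],
    [3, 4, 0, 4, 2, 2], [4, 0, 1, 0, 4, 0, 4, 2, 2, 2],
    [5, 5, 5, 5, 5, 5, 5, 5, 5, 5, 5, 1, 0, 1, 0, 4], [5, 5, 5, 5, 3, 4, 0, 1, 0, 4],
    [0, 4, 0, 1, 0, 4, 0, 1, 0], [0, 4, 2, 2, 2, 2, 2, 2, 0, 1, 0],
    [5, 5, 5, 5, 5, 5, 5, 5, 5, 5, 5, 5, 4, 3, 4, 0, 1, 0, 4],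
    [1, 3, 4, 0, 1, 0, 4, 2, 2, 2, 2, 2, 2, 2, 2, 2, 2, 0, 1], [4, 0, 4, 2, 0, 1, 0, 1],
    [5, 5, 5, 5, 5, 5, 5, 5, 5, 5, 5, 5, 5, 4, 0, 4, 0, 1, 0, 4, 0],
    [2, 2, 2, 2, 2, 2, 2, 2, 2, 2, 2, 2, 2, 2, 0, 1, 0],
    [5, 5, 5, 1, 3, 4, 0, 1, 0, 4, 0, 1, 0], [1, 3, 1, 0, 4, 2, 0, 1, 0],
    [5, 5, 5, 5, 5, 5, 5, 5, 5, 5, 5, 5, 1, 0],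
    [5, 5, 5, 5, 5, 5, 5, 5, 5, 5, 5, 5, 5, 3, 1, 0, 4, 0, 1, 0, 4], [1, 3, 1, 0, 4, 0],
    [4, 3, 1, 0, 1], [5, 5, 5, 5, 5, 5, 5, 5, 5, 5, 5, 5, 5, 1, 0, 1, 0, 4, 0, 4],
    [1, 3, 4, 2, 2, 2, 2, 2, 2, 2, 2, 2, 2, 2, 2, 2, 0], [3, 4, 0, 1, 0, 4, 2, 2, 2, 2, 0, 1],
    [1, 0, 4, 2, 2, 2, 0, 1], [5, 1, 3, 4, 0, 1, 0, 4],
    [5, 5, 5, 5, 5, 5, 5, 5, 5, 5, 5, 5, 1, 0, 0], [2, 2, 2, 2, 2, 2, 2, 2, 0, 1, 0, 1, 0],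
    [5, 5, 1, 0, 1, 0], [3, 4, 0, 1, 0, 4, 2, 2, 2, 0], [4, 2, 2, 2, 2, 2, 0, 1, 0],
    [5, 5, 5, 5, 5, 5, 4, 3, 4, 0, 1], [1, 3, 2, 2, 2, 2, 2, 2, 2, 2, 2, 2, 2, 1],
    [4, 2, 2, 2, 2, 2, 2, 0, 1], [4, 0, 1, 0, 4, 0, 1], [5, 5, 5, 5, 1, 3, 4, 0, 4],
    [3, 2, 2, 2, 2, 2, 2, 2, 1], [5, 5, 5, 5, 5, 5, 5, 5, 1, 3, 4, 0, 1, 0],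
    [5, 5, 5, 5, 4, 0, 4, 0, 1, 0], [5, 5, 5, 5, 5, 5, 5, 5, 4, 0, 1, 0, 4, 0],
    [1, 3, 4, 2, 2, 2, 2, 2], [1, 0, 4, 0, 1, 0, 4, 2, 2, 2, 2, 2, 2, 2, 2, 2, 2, 2, 0],
    [5, 5, 5, 5, 5, 5, 5, 5, 3, 4, 0, 1], [4, 0, 4, 2, 2, 2, 2, 2, 2, 2, 2],
    [5, 5, 5, 5, 5, 5, 5, 5, 5, 5, 5, 5, 4, 3], [3, 1, 0, 4, 2, 0, 1, 0],
    [3, 1, 0, 4, 2, 2, 2, 2, 2, 0], [5, 5, 5, 5, 0, 1, 0, 4, 0, 1], [5, 5, 4, 0, 4, 0],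
    [4, 0, 1, 0, 4, 2], [3, 2, 2, 1, 0, 1], [2, 2, 2, 2, 2, 2, 2, 2, 2, 2, 2, 2],
    [1, 0, 4, 0, 1, 0, 4, 2, 2, 2, 2, 2],
    [0, 1, 0, 4, 2, 2, 2, 2, 2, 2, 2, 2, 2, 2, 2, 2, 2, 2],
    [5, 5, 5, 5, 5, 5, 5, 5, 5, 5, 5, 5, 1, 0, 1], [5, 5, 5, 5, 5, 1, 3, 1, 0, 4],
    [5, 5, 4, 3, 1, 0, 4, 0], [5, 5, 5, 5, 5, 5, 5, 4, 3, 4, 0, 1, 0, 4, 0],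
    [0, 1, 0, 4, 2, 2, 2, 2, 2, 2, 2, 2, 2, 2, 2, 0], [4, 2, 2, 2, 2, 2, 2, 0, 1, 0, 1],
    [5, 5, 5, 5, 5, 5, 5, 5, 5, 5, 5, 5, 0, 4, 0, 4, 0],
    [3, 2, 2, 2, 2, 2, 2, 2, 2, 2, 2, 2, 2, 2, 2, 1, 0, 1, 0],
    [5, 5, 5, 5, 5, 5, 5, 5, 4, 0, 1, 0, 4, 0, 1, 0], [4, 3, 1, 0, 4, 2, 2, 2, 2, 2, 2, 0, 1],
    [3, 4, 0, 1, 0, 4, 2, 2, 2, 2, 2, 2, 0, 1, 0],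
    [5, 5, 5, 5, 5, 5, 5, 5, 5, 5, 5, 5, 1, 3, 4, 0, 1, 0, 4, 0],
    [1, 0, 4, 0, 1, 0, 4, 2, 2, 2, 0, 1, 0], [4, 3, 4, 2, 2, 2, 2, 0],
    [5, 5, 5, 5, 5, 5, 5, 5, 5, 5, 1, 0, 4, 0], [5, 5, 5, 5, 5, 3, 4, 0, 1, 0, 1],
    [0, 4, 0, 1, 0, 4, 2, 2, 2, 2, 2, 2, 2, 2, 2, 0],
    [1, 0, 4, 2, 2, 2, 2, 2, 2, 2, 2, 2, 2, 2, 2, 2, 2, 0, 1, 0, 1],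
    [2, 2, 2, 2, 2, 2, 2, 2, 2, 2, 2, 2, 2, 0, 1], [5, 5, 5, 5, 5, 5, 4, 0, 4, 0, 1, 0, 4],
    [4, 3, 4, 2, 2, 2, 2, 2, 2, 2, 2, 2, 2, 2, 2, 2, 2], [5, 5, 5, 5, 5, 5, 1, 3],
    [2, 2, 2, 2, 2, 2, 2, 2, 0, 1, 0, 1], [1, 3, 4, 2, 2, 2, 2, 2, 2, 2, 2, 2, 0, 1],
    [3, 1, 0, 4, 0, 4], [4, 0, 4, 0, 1], [4, 3, 1, 0, 4, 0, 4, 2, 2, 2, 2, 2, 2, 2, 2, 2],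
    [4, 3, 4, 2, 2, 0, 1, 0], [4, 3, 4, 2, 2, 2, 2, 2, 2, 2, 0, 1, 0, 1],
    [0, 1, 0, 4, 2, 2, 2, 2, 2, 2, 2, 0, 1, 0], [1, 0, 1, 0, 4, 2, 2, 2, 2, 2, 2, 0],
    [1, 0, 1, 0, 4, 2, 0, 1], [5, 5, 5, 5, 5, 5, 1], [5, 5, 5, 5, 5, 5, 3, 4, 0],
    [4, 3, 2, 2, 2, 2, 2, 2, 2, 2, 2, 2, 2, 2, 1], [0, 4, 0, 1, 0, 4, 2, 2],
    [1, 0, 4, 2, 2, 2, 2, 2, 2, 2, 2, 2, 2, 2], [5, 5, 5, 5, 5, 5, 5, 5, 5, 3, 1, 0],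
    [3, 1, 0, 4, 2, 2, 0, 1], [5, 5, 5, 5, 5, 5, 5, 1, 3, 1, 0, 4, 0, 4],
    [3, 4, 2, 2, 2, 2, 2, 2, 2, 2, 2, 2, 2, 2, 2], [1, 3, 2, 2, 2, 2, 1, 0],
    [0, 1, 0, 4, 0, 1, 0, 4, 2, 2, 2, 2, 2, 0], [1, 0, 4, 0, 4, 2, 2],
    [3, 4, 2, 2, 2, 2, 2, 2, 2, 2, 2, 2, 2, 2, 0, 1, 0], [5, 5, 0, 4, 0, 1],
    [1, 0, 1, 0, 4, 2, 2, 2, 2, 2, 2, 2, 0, 1, 0], [4, 3, 1, 0, 4, 2, 2, 2, 2, 2, 2, 2],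
    [0, 4, 0, 1, 0, 4, 2, 2, 2, 2, 2, 2, 2, 2, 2, 2, 0, 1], [5, 5, 5, 5, 5, 5, 5, 5, 5, 4],
    [4, 3, 2, 2, 2, 2, 2, 2, 2, 2, 2, 2, 2, 1, 0], [0, 4, 0, 4, 2, 2, 2, 2, 2, 2, 2, 2],
    [5, 5, 1, 0, 4, 0, 1, 0],
    [5, 5, 5, 5, 5, 5, 5, 5, 5, 5, 5, 5, 5, 1, 0, 4, 0, 1, 0, 4, 0, 1],
    [5, 5, 5, 5, 5, 5, 4, 0], [5, 5, 5, 5, 5, 5, 5, 0, 1, 0, 4, 0, 1, 0, 4],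
    [5, 5, 5, 5, 5, 5, 5], [5, 5, 5, 5, 5, 5, 5, 5, 5, 5, 0, 4, 0, 1, 0, 4, 0],
    [0, 4, 0, 1, 0, 4, 2, 2, 2, 2, 2, 2, 2, 2, 2, 2, 2, 2], [4, 2, 2, 2, 2, 0], [1, 0, 4, 0],
    [3, 4, 2, 2, 2, 2, 0], [1, 0, 4, 2, 2, 2, 2, 2, 2, 2, 2, 0, 1, 0],
    [1, 0, 4, 0, 1, 0, 4, 2, 2, 2, 2, 2, 2, 2, 2, 2, 2, 2, 2, 2, 0, 1, 0],
    [1, 0, 1, 0, 4, 2, 2, 2, 2, 2, 2, 2, 2, 2, 2, 2, 0, 1],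
    [5, 5, 5, 5, 5, 5, 5, 5, 4, 3, 1, 0],
    [5, 5, 5, 5, 5, 5, 5, 5, 5, 5, 5, 5, 5, 3, 4, 0, 1, 0, 4, 0, 1, 0],
    [5, 5, 5, 5, 5, 5, 5, 5, 5, 5, 5, 5, 0, 1, 0, 4, 0, 1, 0],
    [5, 5, 5, 5, 5, 5, 5, 5, 5, 0, 4, 0, 1, 0, 4, 0, 1], [4, 0, 1, 0, 4, 2, 2, 0, 1, 0],
    [4, 3, 4, 2, 2, 2, 2, 2, 2, 2, 2, 2, 2, 2, 2, 0, 1, 0],
    [5, 5, 5, 5, 5, 5, 5, 5, 5, 5, 5, 5, 1, 0, 1, 0, 4, 0, 1, 0], [5, 5, 0, 4, 0, 4, 0],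
    [4, 0, 4, 2, 2, 2, 2, 2, 2, 2, 2, 2, 2, 0, 1], [5, 5, 5, 5, 5, 5, 5, 3, 4, 0, 1, 0],
    [5, 5, 5, 5, 5, 5, 5, 5, 0, 1, 0, 4, 0], [5, 5, 5, 5, 5, 5, 5, 5, 5, 5, 1, 3, 4, 0, 1],
    [5, 5, 5, 5, 5, 5, 5, 5, 5, 5, 5, 5, 5, 5, 0, 1, 0, 4, 0, 1, 0, 4, 0],
    [4, 3, 1, 0, 4, 2, 2, 2, 2, 2, 2, 2, 2, 0], [1, 3, 2, 2, 2, 2], [5, 5, 5, 5, 5, 5, 3, 4],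
    [5, 5, 1, 0, 1], [4, 0, 4, 0, 1, 0, 4, 2, 2, 2, 2],
    [3, 1, 0, 4, 2, 2, 2, 2, 2, 2, 2, 2, 2, 2, 2, 2, 0, 1],
    [5, 5, 5, 5, 5, 5, 5, 5, 5, 5, 5, 5, 5, 5, 1, 0, 4, 0, 1, 0, 4],
    [5, 5, 5, 5, 5, 1, 0, 4, 0, 1, 0, 1], [5, 5, 5, 5, 5, 5, 5, 5, 1, 0, 4],
    [0, 1, 0, 4, 0, 1, 0, 4, 2, 2, 2], [3, 4, 2, 2, 2, 2, 2, 0, 1, 0, 1],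
    [5, 5, 5, 5, 5, 5, 5, 4, 3, 1], [5, 5, 5, 1, 0, 4, 0, 1, 0, 4, 0, 1],
    [4, 3, 4, 2, 2, 2, 2, 2, 2, 2, 2, 2, 2, 2, 2, 2, 2, 0], [2, 2, 2, 2, 1],
    [5, 5, 5, 5, 5, 5, 5, 5, 5, 5, 5, 0, 4, 0, 4], [5, 5, 1, 3, 4, 0, 1, 0, 4, 0],
    [5, 5, 5, 5, 5, 5, 5, 5, 5, 5, 5, 5, 5, 1, 0, 1, 0, 4, 0], [4, 2],
    [5, 5, 5, 5, 5, 5, 5, 5, 5, 5, 5, 5, 5, 4, 3, 1, 0, 4, 0, 1],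
    [5, 5, 5, 5, 5, 5, 5, 5, 5, 5, 5, 5, 4, 3, 4, 0, 1, 0, 1],
    [5, 5, 5, 5, 5, 5, 5, 5, 5, 5, 5, 5, 4, 3, 1, 0, 4], [5, 5, 5, 5, 5, 3, 1, 0, 1, 0],
    [5, 5, 5, 5, 5, 5, 5, 5, 5, 5, 4, 3, 1, 0, 4, 0, 4], [0, 4, 2, 2, 2, 2, 2, 2, 2, 2, 0, 1],
    [5, 5, 5, 5, 5, 5, 5, 5, 5, 5, 5, 5, 5, 4, 0, 1, 0, 1],
    [3, 1, 0, 4, 0, 4, 2, 2, 2, 2, 2, 2, 2, 2, 2, 2],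
    [1, 0, 4, 0, 4, 2, 2, 2, 2, 2, 2, 2, 2, 2, 2, 2, 2], [4, 3, 4, 0, 1, 0, 4, 2, 2, 2, 0],
    [5, 5, 5, 5, 5, 5, 5, 5, 5, 5, 5, 0, 1, 0, 1],
    [1, 3, 2, 2, 2, 2, 2, 2, 2, 2, 2, 2, 2, 2, 2, 2, 1, 0], [1, 3, 1, 0, 4, 2, 2, 2, 2, 2],
    [5, 5, 5, 5, 5, 4, 3, 4], [1, 3, 1, 0, 4, 0, 4, 2, 2, 2], [5, 5, 5, 5, 5, 0, 1, 0, 4],
    [5, 5, 5, 5, 5, 5, 0, 1], [3, 2, 1, 0], [2, 2, 2, 2, 2, 2, 2, 2, 2, 2, 2, 2, 2, 0, 0],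
    [2, 2, 2, 2, 2, 1, 0, 1, 0], [4, 0, 1, 0, 4, 0, 4, 2, 2, 2, 2, 2, 2, 2, 2, 2, 2],
    [5, 5, 5, 5, 5, 5, 5, 5, 5, 5, 5, 1, 0, 4, 0, 1, 0, 4, 0],
    [5, 5, 5, 5, 5, 5, 3, 1, 0, 4, 0, 1, 0, 4],
    [0, 4, 2, 2, 2, 2, 2, 2, 2, 2, 2, 2, 2, 2, 2, 2], [4, 3, 4, 2, 0, 1],
    [0, 4, 0, 1, 0, 4, 2, 2, 2, 2, 2, 2, 2, 0, 1, 0], [5, 5, 5, 5, 5, 4, 3],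
    [5, 5, 5, 5, 5, 5, 1, 0, 1, 0, 4, 0, 4], [0, 1, 0, 4, 0, 4, 2],
    [4, 0, 1, 0, 4, 2, 2, 2, 2, 2, 2, 2, 0, 1],
    [5, 5, 5, 5, 5, 5, 5, 5, 5, 5, 5, 5, 1, 3, 4, 0, 1, 0, 4, 0, 1],
    [0, 1, 0, 4, 2, 2, 2, 0, 1], [1, 0, 4, 2, 2, 2, 2, 2, 2, 2, 2, 2, 2, 0, 1],
    [5, 5, 5, 5, 5, 5, 5, 4, 3, 1, 0, 4, 0, 1, 0], [5, 1, 3, 4, 0, 1, 0],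
    [5, 5, 5, 5, 5, 5, 5, 5, 0, 1, 0], [3, 2, 2, 2, 2, 2, 2, 2, 2, 2, 1, 0, 1],
    [5, 5, 5, 5, 5, 5, 5, 5, 5, 5, 5, 5, 5, 5, 0, 1, 0, 1, 0],
    [3, 4, 0, 4, 2, 2, 2, 2, 2, 2, 2, 2, 2], [1, 3, 4, 2, 2, 2, 2, 2, 2, 2, 2, 2, 2, 2, 2],
    [5, 5, 5, 5, 5, 1, 0], [5, 5, 5, 5, 5, 5, 5, 5, 5, 5, 5, 3, 4, 0, 4, 0],
    [4, 2, 2, 2, 2, 2, 2, 2, 2, 2, 2, 2, 2, 0, 1, 0], [3, 4, 0, 1, 0, 4, 2, 2, 2],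
    [5, 5, 5, 5, 5, 5, 5, 5, 5, 5, 5, 5, 5, 5, 4, 0, 4], [4, 3, 2, 2, 2, 2, 2, 2, 2, 1, 0, 1],
    [5, 5, 5, 5, 5, 5, 5, 5, 4, 0, 0], [4, 2, 2, 2, 2, 2, 2, 2, 2, 2, 2, 2, 2, 2, 0, 1],
    [5, 5, 5, 5, 5, 4, 3, 4, 0, 1, 0, 4], [3, 1, 0, 4, 2, 2, 2, 2, 2, 2, 2, 2, 2, 2, 2, 2, 0],
    [3, 4, 0, 1, 0, 4, 2, 2, 2, 2, 2, 2, 2, 2, 2, 2, 2, 0, 1], [5, 5, 5, 5, 5, 0, 4, 0],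
    [3, 2, 2, 2, 2, 2, 2, 2, 2, 2, 2, 2, 2, 2, 2, 1],
    [5, 5, 5, 5, 5, 5, 4, 0, 4, 0, 1, 0, 4, 0], [4, 0, 1, 0, 4, 2, 2, 2, 2, 2, 2, 2, 2],
    [5, 5, 5, 5, 5, 1, 0, 0], [5, 5, 5, 5, 5, 5, 5, 5, 5, 5, 5, 5, 5, 5, 1, 3, 4, 0, 1, 0, 1],
    [5, 4, 0, 1, 0, 4, 0], [1, 3, 1, 0, 4, 2, 2, 2, 2, 2, 2, 2, 2, 0, 1, 0],
    [1, 3, 1, 0, 4, 2, 2, 0, 1], [3, 4, 0, 1, 0, 4, 2, 2, 2, 2, 2, 2, 2, 2, 2, 2, 0],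
    [5, 5, 5, 5, 1, 0, 1, 0, 4], [5, 3, 4, 0, 1], [1, 3, 1, 0, 4, 2, 2, 2, 2, 2, 2, 2, 0],
    [5, 5, 5, 5, 0, 4, 0, 1, 0, 1], [5, 5, 5, 5, 5, 5, 5, 5, 5, 5, 5, 1, 3, 1],
    [0, 4, 2, 2, 2, 2, 2, 2, 2, 2, 2, 2, 2, 2, 2, 0, 1, 0],
    [3, 1, 0, 4, 2, 2, 2, 2, 2, 2, 2, 2, 0, 1, 0], [5, 5, 5, 5, 5, 5, 5, 5, 5, 1, 3, 4, 0],
    [5, 5, 5, 5, 5, 5, 5, 5, 5, 5, 5, 5, 5, 5, 3, 1, 0, 4], [1, 3, 4, 0, 4, 2, 2, 2],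
    [4, 0, 4, 2, 2, 2, 2, 2, 2, 2, 2, 0, 1, 0, 1], [4, 0, 4, 2, 2, 2, 2, 2, 0],
    [1, 3, 4, 0, 1, 0, 4, 2, 2, 2, 2, 2, 2], [3, 1, 0, 4, 0, 1, 0, 4, 2, 2, 2, 2, 2, 2, 0],
    [4, 0, 4, 2, 2, 2, 0, 1, 0], [1, 3, 4, 0, 1, 0, 4, 2, 2, 2, 2, 0, 1, 0],
    [2, 2, 2, 2, 2, 0, 0], [5, 5, 5, 5, 5, 5, 5, 5, 5, 5, 5, 5, 0, 4, 0, 1, 0, 1],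
    [5, 5, 5, 5, 5, 5, 5, 5, 5, 5, 5, 5, 5, 0, 4, 0], [3, 4, 0, 4, 2],
    [5, 0, 4, 0, 1, 0, 4, 0, 1, 0], [4, 0, 4, 0, 1, 0, 1], [1, 3, 1, 0, 4, 0, 1, 0],
    [5, 4, 3, 1, 0, 1], [1, 0, 4, 2, 2, 0, 1], [5, 5, 5, 1, 0, 1, 0],
    [1, 3, 2, 2, 2, 2, 2, 2, 2, 2, 2, 2, 1], [3, 2, 2, 2, 2, 2, 2, 1], [1, 3, 4, 2, 2, 2, 2],
    [5, 5, 5, 5, 5, 5, 5, 5, 5, 5, 5, 5, 5, 4, 3], [5, 5, 5, 4, 0, 4, 0],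
    [5, 5, 5, 5, 5, 5, 1, 3, 1, 0, 4, 0, 1], [4, 2, 2, 2, 2, 2, 2, 2, 2, 2, 2, 2, 2, 2, 0, 0],
    [4, 3, 1, 0, 4, 2, 2, 2, 2, 2, 2, 2, 2, 2, 2, 2, 2, 2, 2, 0, 1, 0],
    [4, 0, 1, 0, 4, 0, 4, 2, 2], [0, 4, 2, 2, 2, 2, 2, 0, 1, 0],
    [5, 5, 5, 5, 5, 5, 5, 5, 5, 5, 5, 5, 5, 5, 4, 0, 4, 0, 1, 0, 4, 0],
    [5, 5, 5, 5, 5, 5, 5, 5, 5, 5, 5, 5, 5, 1, 0],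
    [5, 5, 5, 5, 5, 5, 5, 5, 5, 5, 5, 5, 5, 5, 1, 0, 1, 0, 4, 0, 4],
    [5, 5, 1, 3, 4, 0, 1, 0, 4], [3, 4, 0, 1, 0, 4, 2, 2, 0], [4, 2, 2, 2, 2, 2, 0, 1],
    [5, 5, 5, 5, 5, 5, 5, 5, 5, 1, 3, 4, 0, 1, 0],
    [1, 0, 4, 0, 1, 0, 4, 2, 2, 2, 2, 2, 2, 2, 2, 2, 2, 0], [3, 1, 0, 4, 0, 1, 0],
    [4, 0, 1, 0, 4], [3, 4, 0, 4, 2, 2, 2, 2, 2, 2, 2, 2, 2, 2, 0],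
    [5, 5, 5, 5, 5, 5, 5, 0, 1, 0, 4, 0, 4], [5, 5, 3, 1, 0, 4, 0, 1, 0, 4, 0],
    [5, 5, 5, 5, 5, 5, 5, 5, 5, 5, 5, 5, 1, 0, 1, 0, 4],
    [5, 5, 5, 5, 5, 5, 5, 5, 5, 5, 5, 5, 5, 4, 3, 4, 0, 1, 0, 4],
    [2, 2, 2, 2, 2, 2, 2, 2, 2, 2, 2, 2, 2, 0, 1, 0],
    [5, 5, 5, 5, 5, 5, 5, 5, 5, 5, 5, 5, 5, 5, 3, 1, 0, 4, 0, 1, 0, 4],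
    [1, 3, 4, 2, 2, 2, 2, 2, 2, 2, 2, 2, 2, 2, 2, 0],
    [5, 5, 5, 5, 5, 5, 5, 5, 5, 5, 5, 5, 5, 1, 0, 0], [4, 2, 2, 2, 2, 0, 1, 0],
    [5, 4, 0, 1, 0, 4, 0, 1], [5, 5, 5, 5, 5, 4, 0, 4, 0, 1, 0],
    [5, 5, 5, 5, 5, 5, 5, 5, 5, 3, 4, 0, 1], [3, 1, 0, 4, 2, 2, 2, 2, 0], [3, 2, 1, 0, 1],
    [0, 4, 2, 2, 2, 2, 2, 2], [3, 1, 0, 4, 2, 2, 2, 2, 2, 2, 2],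
    [1, 3, 4, 2, 2, 2, 2, 2, 2, 2, 0, 1, 0, 1], [5, 5, 5, 5, 5, 3, 4, 0, 1, 0, 4],
    [1, 3, 4, 0, 1, 0, 4, 2, 2, 2, 2, 2, 2, 2, 2, 2, 0, 1],
    [5, 5, 5, 5, 1, 3, 4, 0, 1, 0, 4, 0, 1, 0], [5, 1, 3, 1, 0, 4, 0],
    [3, 4, 0, 1, 0, 4, 2, 2, 2, 0, 1], [2, 2, 2, 2, 2, 2, 2, 0, 1, 0, 1, 0],
    [5, 5, 5, 5, 5, 5, 5, 4, 3, 4, 0, 1], [5, 5, 5, 5, 5, 1, 3, 4, 0, 4],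
    [5, 5, 5, 5, 5, 5, 5, 5, 5, 4, 0, 1, 0, 4, 0], [4, 0, 4, 2, 2, 2, 2, 2, 2, 2],
    [5, 5, 5, 5, 5, 0, 1, 0, 4, 0, 1], [2, 2, 2, 2, 0, 0], [5, 5, 0, 4, 0, 1, 0, 4, 0, 1, 0],
    [1, 0, 4, 2, 0, 1], [1, 3, 4, 2, 2, 2], [4, 2, 2, 2, 2, 2, 2, 2, 2, 2, 2, 2, 2, 0, 0],
    [4, 0, 4, 0, 1, 0, 4, 2, 2, 2, 2, 2, 2, 2, 2, 2, 2, 2, 2, 2, 2, 0],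
    [3, 4, 0, 1, 0, 4, 2, 0], [5, 3, 1, 0, 4, 0, 1, 0], [5, 5, 5, 3, 1, 0, 4, 0, 1, 0, 4, 0],
    [3, 1, 0, 4, 0, 1, 0, 4, 2, 2, 2, 2, 2, 2, 2, 2, 2, 2, 2, 2, 2, 2],
    [5, 5, 4, 0, 1, 0, 4, 0, 1], [3, 1, 0, 1], [5, 5, 5, 5, 5, 5, 3, 4, 0, 1, 0, 4],
    [3, 4, 0, 1, 0, 4, 2, 2, 0, 1], [5, 5, 5, 5, 5, 5, 5, 5, 5, 5, 4, 0, 1, 0, 4, 0],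
    [5, 5, 5, 5, 5, 5, 5, 5, 5, 5, 5, 5, 5, 0, 4, 0, 1, 0, 1], [5, 4, 0, 4, 0, 1, 0, 1],
    [5, 5, 5, 5, 1, 0, 1, 0], [5, 5, 5, 5, 5, 5, 5, 5, 5, 5, 5, 5, 5, 5, 4, 3],
    [4, 3, 1, 0, 4, 2, 2, 2, 2, 2, 2, 2, 2, 2, 2, 2, 2, 2, 0, 1, 0],
    [5, 5, 5, 5, 5, 5, 5, 5, 5, 5, 5, 5, 5, 5, 1, 0], [4, 2, 2, 2, 2, 0, 1],
    [5, 4, 0, 1, 0, 4], [5, 5, 5, 5, 5, 5, 5, 5, 5, 5, 5, 5, 5, 1, 0, 1, 0, 4],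
    [1, 3, 4, 2, 2, 2, 2, 2, 2, 2, 2, 2, 2, 2, 0], [5, 5, 5, 5, 5, 5, 4, 0, 4, 0, 1, 0],
    [0, 4, 2, 2, 2, 2, 2], [1, 3, 4, 0, 1, 0, 4, 2, 2, 2, 2, 2, 2, 2, 2, 0, 1],
    [2, 2, 2, 2, 2, 2, 0, 1, 0, 1, 0], [4, 0, 4, 2, 2, 2, 2, 2, 2],
    [5, 5, 5, 5, 5, 5, 5, 5, 5, 5, 5, 5, 5, 5, 0, 4, 0], [5, 1, 3, 1, 0, 4, 0, 1, 0],
    [1, 3, 2, 2, 2, 2, 2, 2, 2, 2, 2, 1], [5, 5, 5, 5, 4, 0, 4, 0], [4, 0, 1, 0, 4, 0, 4, 2],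
    [1, 0, 1, 0, 4, 0, 4, 2, 2, 2, 2, 2, 2, 2, 2, 2, 2, 2, 2, 2, 2],
    [5, 5, 5, 5, 5, 5, 5, 5, 5, 5, 1, 3, 4, 0, 1, 0],
    [3, 4, 0, 4, 2, 2, 2, 2, 2, 2, 2, 2, 2, 0],
    [5, 5, 5, 5, 5, 5, 5, 5, 5, 5, 5, 5, 5, 5, 4, 3, 4, 0, 1, 0, 4],
    [5, 5, 5, 5, 5, 5, 5, 5, 5, 5, 5, 5, 5, 5, 1, 0, 0],
    [5, 5, 5, 5, 5, 5, 5, 5, 5, 5, 3, 4, 0, 1], [3, 1, 0, 4, 2, 2, 2, 2, 2, 2],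
    [5, 5, 5, 5, 5, 1, 3, 4, 0, 1, 0, 4, 0, 1, 0], [5, 5, 5, 5, 5, 5, 5, 5, 4, 3, 4, 0, 1],
    [5, 5, 5, 5, 5, 5, 0, 1, 0, 4, 0, 1], [3, 4, 0, 4], [5, 5, 4, 3, 1, 0, 1],
    [3, 2, 2, 2, 2, 2, 1], [5, 5, 5, 5, 5, 5, 5, 1, 3, 1, 0, 4, 0, 1],
    [0, 4, 2, 2, 2, 2, 0, 1, 0], [5, 5, 5, 1, 3, 4, 0, 1, 0, 4],
    [1, 0, 4, 0, 1, 0, 4, 2, 2, 2, 2, 2, 2, 2, 2, 2, 0],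
    [5, 5, 5, 5, 5, 5, 5, 5, 0, 1, 0, 4, 0, 4], [2, 2, 2, 2, 2, 2, 2, 2, 2, 2, 2, 2, 0, 1, 0],
    [4, 2, 2, 2, 0, 1, 0], [3, 1, 0, 4, 2, 2, 2, 0], [1, 3, 4, 2, 2, 2, 2, 2, 2, 0, 1, 0, 1],
    [5, 5, 1, 3, 1, 0, 4, 0], [5, 5, 5, 5, 5, 5, 1, 3, 4, 0, 4],
    [5, 5, 5, 5, 5, 5, 5, 5, 5, 5, 0, 0], [5, 5, 5, 5, 5, 5, 5, 5, 4, 0, 4],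
    [1, 3, 4, 0, 4, 2, 2, 2, 2, 2, 2, 2, 2, 2], [5, 5, 5, 5, 5, 5, 5, 5, 0, 1, 0, 1, 0],
    [1, 3, 1, 0, 4, 2, 2, 2, 2, 2, 2, 2, 2, 2, 2, 2, 2, 2, 0],
    [5, 5, 5, 5, 5, 5, 1, 3, 4, 0, 1, 0, 4, 0, 1],
    [5, 5, 5, 5, 5, 5, 5, 5, 1, 3, 4, 0, 1, 0, 1], [5, 5, 5, 5, 5, 5, 5, 5, 5, 0, 4],
    [5, 5, 5, 5, 5, 5, 5, 5, 5, 5, 5, 3, 1, 0, 4, 0],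
    [4, 0, 4, 2, 2, 2, 2, 2, 2, 2, 2, 2, 0, 1, 0],
    [5, 5, 5, 5, 5, 5, 5, 5, 5, 5, 5, 4, 0, 1, 0], [5, 5, 5, 1, 3, 4, 0], [5, 5, 0, 1, 0],
    [1, 0, 1, 0, 4, 2, 2], [0, 1, 0, 4, 0, 4, 2, 2, 2, 2, 2, 2, 2],
    [4, 0, 1, 0, 4, 2, 2, 2, 2, 2, 2, 2, 2, 2, 2, 2, 2, 2, 2],
    [5, 5, 5, 5, 5, 1, 0, 4, 0, 1, 0, 4, 0], [5, 5, 5, 5, 5, 5, 5, 5, 5, 5, 4, 0, 1],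
    [1, 3, 4, 0, 1, 0, 4, 2, 2, 2, 2, 2, 2, 2, 2, 2, 2, 2, 2], [2, 1, 0],
    [5, 5, 5, 5, 5, 5, 5, 5, 5, 5, 0, 4, 0, 1, 0], [5, 4, 3, 1, 0, 4, 0, 1, 0],
    [1, 3, 1, 0, 4, 2, 2, 2, 2, 2, 2, 2, 2, 0, 1], [4, 3, 2],
    [5, 5, 5, 5, 5, 5, 5, 5, 5, 3, 1], [2, 2, 2, 2, 2, 2, 2, 2, 2, 2, 2, 1, 0, 1, 0],
    [4, 3, 2, 2, 2, 2, 2, 2, 2, 2, 2, 2, 2, 2, 2, 1, 0, 1],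
    [4, 0, 4, 2, 2, 2, 2, 2, 2, 2, 2, 2, 2, 2, 2, 2, 2, 0, 1, 0, 1],
    [5, 5, 5, 5, 5, 5, 5, 5, 5, 5, 5, 5, 5, 5, 3, 4, 0, 4], [0, 4, 2, 2, 0, 1, 0, 1],
    [0, 1, 0, 4, 2, 2, 2, 2, 2, 2, 2, 2, 2, 0, 1], [4, 0, 1, 0, 4, 2, 2, 2, 2, 2, 0],
    [4, 3, 4, 2, 2, 2, 2, 2, 2, 2, 0, 1],
    [5, 5, 5, 5, 5, 5, 5, 5, 5, 5, 5, 5, 3, 4, 0, 1, 0, 4, 0, 1],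
    [1, 3, 4, 0, 1, 0, 4, 2, 2, 2, 2, 2, 2, 2, 2, 2, 2, 0, 1, 0],
    [3, 4, 0, 1, 0, 4, 2, 2, 2, 2, 2, 2, 2, 2, 2], [5, 5, 5, 5, 5, 5, 5, 5, 3, 1, 0, 4],
    [5, 5, 5, 5, 5, 5, 5, 5, 5, 5, 5, 5, 5, 5, 3, 1, 0, 1], [3, 4, 2, 2, 2, 2, 2, 0, 1],
    [4, 0, 1, 0, 4, 2, 2, 2, 2, 2, 2, 2, 2, 2, 2, 2, 2, 2, 0, 1], [2, 1, 0, 0],
    [3, 1, 0, 4, 0, 1, 0, 4], [4, 3, 4, 0, 1, 0, 4, 2],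
    [3, 1, 0, 4, 0, 1, 0, 4, 2, 2, 2, 2, 2, 2, 2, 2, 2, 2, 2, 2, 0],
    [5, 5, 5, 5, 5, 3, 4, 0, 4, 0],
    [3, 1, 0, 4, 2, 2, 2, 2, 2, 2, 2, 2, 2, 2, 2, 2, 2, 2, 0, 1, 0],
    [1, 3, 4, 2, 2, 2, 2, 2, 0, 1, 0],
    [5, 5, 5, 5, 5, 5, 5, 5, 5, 5, 5, 5, 5, 3, 4, 0, 1, 0, 4, 0], [1, 0, 1, 0, 4, 0, 4],
    [4, 0, 4, 0, 1, 0, 4, 0], [5, 5, 5, 5, 5, 5, 5, 5, 5, 5, 5, 5, 5, 4, 0, 1, 0, 4, 0, 4],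
    [5, 5, 4, 0, 0], [4, 0, 4, 2, 2, 2, 2, 2, 2, 2, 2, 2, 2, 2, 0],
    [5, 5, 5, 5, 5, 5, 5, 5, 5, 5, 5, 1, 3, 4], [5, 5, 5, 5, 5, 1, 3, 1],
    [5, 5, 5, 5, 5, 5, 5, 5, 5, 5, 5, 5, 5, 1, 0, 4, 0, 1],
    [1, 3, 1, 0, 4, 2, 2, 2, 2, 2, 2, 2, 2, 2, 2, 2, 2, 2, 2, 0, 1, 0],
    [0, 4, 0, 1, 0, 4, 2, 2, 2, 2, 2, 2, 2, 2, 2, 2, 2, 2, 2, 0, 1, 0], [0, 4, 2, 0],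
    [2, 2, 2, 2, 2, 2, 2], [2, 2, 2, 2, 2, 2, 2, 2, 0, 1],
    [5, 5, 5, 5, 5, 5, 5, 5, 5, 5, 5, 5, 1, 3, 1, 0, 4, 0, 4],
    [5, 5, 5, 5, 5, 5, 5, 5, 5, 5, 1, 3, 1, 0, 4], [2, 2, 2, 0, 1, 0, 1],
    [5, 5, 5, 1, 0, 4, 0, 4], [4, 2, 0, 1, 0, 1], [4, 3, 1, 0, 4, 0, 4, 2, 2, 2, 2],
    [4, 3, 1, 0, 4, 2, 2], [4, 3, 1, 0, 4, 2, 0, 1], [1, 0, 1, 0, 4, 2, 0],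
    [0, 4, 0, 4, 2, 2, 2], [5, 4, 3, 4, 0], [4, 3, 2, 2, 2, 2, 2, 2, 2, 1],
    [5, 5, 5, 5, 5, 5, 5, 5, 5, 5, 5, 5, 0, 1, 0, 4, 0, 1, 0, 4],
    [1, 0, 4, 2, 2, 2, 2, 2, 2, 2, 2, 2, 0, 1, 0, 1], [5, 5, 5, 3, 1, 0, 4, 0, 1],
    [2, 2, 2, 2, 2, 2, 2, 2, 2, 2, 2, 2, 1, 0, 1], [5, 5, 5, 5, 5, 5, 5, 5, 5, 5, 5, 1, 3],
    [0, 1, 0, 4, 0, 1, 0, 4, 0], [0, 1, 0, 4, 2, 2, 2, 2, 2, 2, 0],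
    [5, 5, 5, 5, 5, 4, 0, 4, 0, 1], [1, 0, 1, 0, 4, 2, 2, 0, 1, 0],
    [5, 5, 5, 5, 5, 5, 5, 5, 5, 5, 5, 5, 5, 4, 0, 1, 0, 4, 0, 1, 0],
    [0, 1, 0, 4, 2, 2, 0, 1, 0], [4, 3, 2, 2, 2, 2, 2, 2, 1, 0],
    [5, 5, 1, 0, 4, 0, 1, 0, 4, 0, 1, 0], [5, 5, 5, 5, 5, 5, 5, 5, 5, 5, 5, 3, 4, 0],
    [5, 5, 5, 5, 5, 5, 5, 5, 5, 5, 5, 4, 0], [0, 4, 0, 1, 0, 4, 2, 2, 2, 2, 0],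
    [5, 5, 5, 5, 5, 5, 5, 5, 5, 5, 5, 5, 5, 5, 3, 1, 0],
    [0, 1, 0, 4, 2, 2, 2, 2, 2, 2, 2, 2, 2], [4, 3, 4, 2, 2, 2, 2, 2, 2, 2, 2, 2],
    [5, 1, 3, 1, 0], [5, 5, 5, 5, 5, 5, 5, 5, 5, 5, 5, 5, 4, 3, 4, 0, 1, 0, 4, 0],
    [5, 5, 5, 5, 5, 3, 1, 0, 4, 0, 4], [5, 5, 5, 5, 5, 5, 5, 0, 4, 0, 1],
    [3, 2, 2, 2, 2, 2, 2, 2, 2, 2, 1, 0, 1, 0], [4, 3, 4, 2, 2, 0, 1, 0, 1],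
    [5, 5, 5, 5, 5, 5, 5, 5, 5, 5, 5, 5, 5, 5, 4],
    [1, 3, 4, 0, 1, 0, 4, 2, 2, 2, 2, 2, 2, 2, 2, 2, 2, 2, 2, 0],
    [5, 5, 5, 5, 5, 5, 5, 5, 5, 5, 5, 1],
    [1, 0, 4, 0, 1, 0, 4, 2, 2, 2, 2, 2, 2, 2, 2, 2, 2, 2, 0, 1],
    [5, 5, 5, 5, 5, 5, 5, 5, 5, 5, 3, 4, 0, 1, 0, 1], [1, 0, 4, 2, 2, 2, 2, 2, 2],
    [1, 0, 4, 0, 1, 0, 4], [5, 5, 5, 5, 5, 5, 5, 5, 5, 5, 5, 4, 0, 4, 0, 1, 0, 4],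
    [3, 4, 2, 2, 2, 2, 2, 2, 2, 2], [5, 5, 5, 5, 5, 5, 5, 4, 3, 1, 0, 4, 0],
    [1, 3, 4, 2, 2, 2, 2, 0, 1], [3, 4, 2, 2, 2, 2, 2, 2, 2, 0, 1, 0],
    [0, 4, 0, 4, 2, 2, 2, 2, 2, 2, 2, 2, 2, 2, 2, 2, 0], [5, 5, 5, 4, 3, 4, 0, 1, 0],
    [0, 4, 0, 1, 0, 4, 2, 2, 2, 2, 2, 0, 1], [3, 4, 0, 1, 0, 4, 2, 0, 1, 0],
    [5, 5, 5, 5, 1, 0, 1, 0, 4, 0, 1], [5, 5, 5, 5, 5, 5, 5, 1, 0, 4, 0, 1, 0],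
    [1, 0, 4, 2, 2, 2, 2, 2, 2, 2, 2, 2, 2, 2, 2, 2, 2, 0], [5, 5, 5, 0, 4, 0, 1, 0, 4],
    [5, 5, 5, 5, 5, 5, 5, 5, 5, 0, 0],
    [5, 5, 5, 5, 5, 5, 5, 5, 5, 5, 5, 5, 5, 5, 4, 0, 1, 0, 4],
    [0, 1, 0, 4, 2, 2, 2, 2, 2, 2, 2, 2, 2, 2, 0, 1],
    [5, 5, 5, 5, 5, 5, 5, 5, 5, 5, 5, 5, 5, 5, 3, 1, 0, 4, 0, 1, 0],
    [5, 5, 5, 5, 5, 5, 5, 4, 0, 4], [5, 5, 5, 5, 1, 0, 4, 0, 1, 0, 4, 0],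
    [4, 0, 1, 0, 4, 2, 2, 2, 2, 2, 2, 0], [1, 3, 4, 2, 2, 2, 2, 2, 2, 0, 1, 0],
    [1, 3, 4, 0, 4, 2, 2, 2, 2, 2, 2, 2, 2, 2, 2], [5, 5, 5, 5, 5, 5, 5, 5, 5, 4, 0, 1],
    [4, 3, 4, 2, 2, 2, 2, 2, 2, 2, 2, 0, 1],
    [5, 5, 5, 5, 5, 5, 5, 5, 5, 5, 5, 5, 3, 4, 0, 1, 0, 4, 0],
    [5, 5, 5, 5, 5, 5, 5, 0, 1, 0, 1, 0],
    [1, 3, 4, 0, 1, 0, 4, 2, 2, 2, 2, 2, 2, 2, 2, 2, 2, 2, 2, 2],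
    [5, 5, 5, 5, 5, 5, 5, 5, 5, 5, 5, 3, 4, 0, 1, 0, 4, 0, 1], [1, 0, 1, 0, 4, 0, 4, 2],
    [1, 3, 1, 0, 4, 2, 2, 2, 2, 2, 2, 2, 2, 2, 2, 2, 2, 2, 2, 0], [2, 2, 1, 0],
    [1, 3, 4, 0, 1, 0, 4, 2, 2, 2, 2, 2, 2, 2, 2, 2, 2, 2, 0, 1, 0],
    [4, 0, 4, 0, 1, 0, 4, 2, 0], [5, 5, 5, 5, 5, 1, 3, 4, 0, 1, 0, 4, 0, 1],
    [5, 5, 5, 5, 5, 5, 5, 5, 5, 0, 4, 0, 1, 0],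
    [3, 4, 0, 1, 0, 4, 2, 2, 2, 2, 2, 2, 2, 2, 2, 2],
    [5, 5, 5, 5, 5, 5, 5, 5, 5, 5, 5, 5, 4, 0, 1, 0, 4, 0, 4],
    [5, 5, 5, 5, 5, 5, 5, 1, 3, 4, 0, 1, 0, 1], [4, 3, 1, 0, 4, 0, 1, 0],
    [5, 5, 5, 5, 5, 5, 5, 3, 1, 0, 4], [5, 4, 0, 0], [5, 5, 5, 5, 5, 5, 5, 5, 0, 4],
    [1, 3, 1, 0, 4, 2, 2, 2, 2, 2, 2, 2, 2, 2, 0, 1],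
    [5, 5, 5, 5, 5, 5, 5, 5, 5, 5, 5, 5, 5, 3, 1, 0, 1],
    [4, 0, 4, 2, 2, 2, 2, 2, 2, 2, 2, 2, 2, 2, 2, 0],
    [5, 5, 5, 5, 5, 5, 5, 5, 5, 5, 3, 1, 0, 4, 0], [4, 3, 2, 2],
    [3, 4, 2, 2, 2, 2, 2, 2, 0, 1], [5, 5, 5, 5, 5, 5, 5, 5, 5, 5, 1, 3, 4],
    [4, 0, 4, 2, 2, 2, 2, 2, 2, 2, 2, 2, 2, 0, 1, 0], [5, 5, 5, 5, 5, 5, 5, 5, 3, 1],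
    [4, 0, 1, 0, 4, 2, 2, 2, 2, 2, 2, 2, 2, 2, 2, 2, 2, 2, 2, 0, 1], [5, 5, 5, 5, 1, 3, 1],
    [5, 5, 5, 5, 5, 5, 5, 5, 5, 5, 4, 0, 1, 0],
    [2, 2, 2, 2, 2, 2, 2, 2, 2, 2, 2, 2, 1, 0, 1, 0], [2, 2, 1, 0, 0],
    [5, 5, 5, 5, 5, 5, 5, 5, 5, 5, 5, 5, 1, 0, 4, 0, 1], [5, 5, 1, 3, 4, 0],
    [4, 3, 2, 2, 2, 2, 2, 2, 2, 2, 2, 2, 2, 2, 2, 2, 1, 0, 1], [3, 1, 0, 4, 0, 1, 0, 4, 2],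
    [5, 5, 5, 5, 5, 5, 5, 5, 5, 5, 5, 5, 5, 5, 1, 3, 1, 0, 4, 0, 1, 0], [5, 0, 1, 0],
    [5, 5, 5, 5, 5, 5, 5, 5, 5, 5, 5, 5, 5, 5, 4, 0, 4, 0, 1, 0, 1],
    [4, 3, 4, 0, 1, 0, 4, 2, 2],
    [0, 4, 0, 1, 0, 4, 2, 2, 2, 2, 2, 2, 2, 2, 2, 2, 2, 2, 2, 2, 0, 1, 0],
    [1, 0, 1, 0, 4, 2, 2, 2], [5, 5, 5, 5, 5, 5, 5, 5, 5, 5, 5, 5, 5, 3, 4, 0, 4],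
    [3, 1, 0, 4, 0, 1, 0, 4, 2, 2, 2, 2, 2, 2, 2, 2, 2, 2, 2, 2, 2, 0], [0, 4, 2, 2, 0],
    [0, 1, 0, 4, 0, 4, 2, 2, 2, 2, 2, 2, 2, 2], [0, 4, 2, 2, 2, 0, 1, 0, 1],
    [5, 5, 5, 5, 3, 4, 0, 4, 0], [2, 2, 0, 0], [5, 5, 5, 4, 0, 4, 0, 1, 0, 1],
    [1, 3, 2, 2, 2, 2, 2, 2, 2, 1], [5, 5, 5, 5, 5, 5, 5, 5, 5, 1, 3, 1, 0, 4, 0, 1],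
    [4, 0, 4, 0, 1, 0, 4, 2, 2, 2, 2, 2, 2, 2, 2, 2, 2, 2, 2, 0], [4, 2, 2, 0, 1],
    [3, 4, 0, 4, 2, 2, 2, 2, 2, 2, 2, 0], [2, 2, 2, 2, 2, 2, 2, 2, 2, 2, 0, 1, 0],
    [5, 5, 5, 5, 4, 0, 1, 0, 4, 0, 1], [0, 4, 2, 2, 2],
    [5, 5, 5, 5, 5, 5, 5, 1, 3, 4, 0, 1, 0, 4, 0, 1, 0],
    [5, 5, 5, 5, 5, 5, 5, 5, 1, 3, 4, 0, 4],
    [0, 4, 2, 2, 2, 2, 2, 2, 2, 2, 2, 2, 2, 2, 2, 2, 0, 1, 0, 1],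
    [5, 5, 5, 1, 3, 1, 0, 4, 0, 1, 0], [3, 2, 2, 2, 1],
    [4, 2, 2, 2, 2, 2, 2, 2, 2, 2, 2, 0, 0], [2, 2, 2, 2, 2, 2, 2, 2, 2, 2, 2, 2, 2, 1, 0],
    [5, 5, 5, 5, 5, 5, 5, 5, 5, 5, 5, 5, 1, 3, 4, 0, 1, 0],
    [5, 5, 5, 5, 5, 5, 5, 5, 5, 5, 0, 1, 0, 4, 0, 4],
    [3, 1, 0, 4, 0, 1, 0, 4, 2, 2, 2, 2, 2, 2, 2, 2, 2, 2, 2, 2],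
    [5, 5, 5, 5, 5, 5, 5, 5, 4, 0, 4, 0, 1, 0], [3, 1, 0, 4, 2, 2, 2, 2],
    [5, 5, 5, 5, 1, 3, 1, 0, 4, 0], [5, 5, 5, 5, 5, 5, 5, 5, 5, 5, 5, 5, 4, 0, 1, 0, 4, 0],
    [0, 4, 2, 2, 2, 2, 2, 2, 2, 2, 2, 2, 2, 2, 2, 0], [5, 5, 5, 5, 4, 3, 1, 0, 1],
    [1, 3, 4, 2], [4, 3, 1, 0, 4, 2, 2, 2, 2, 2, 2, 2, 2, 2, 2, 2, 0, 1, 0],
    [1, 0, 1, 0, 4, 0, 4, 2, 2, 2, 2, 2, 2, 2, 2, 2, 2, 2, 2],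
    [1, 0, 4, 0, 1, 0, 4, 2, 2, 2, 2, 2, 2, 2, 0], [5, 5, 5, 5, 5, 3, 1, 0, 4, 0, 1, 0, 4, 0],
    [1, 3, 4, 2, 2, 2, 2, 2, 2, 2, 2, 2, 0], [5, 5, 5, 5, 5, 5, 5, 5, 5, 5, 5, 5, 3, 4, 0, 1],
    [1, 3, 4, 2, 2, 2, 2, 0, 1, 0, 1], [3, 4, 0, 1, 0, 4, 0, 1], [4, 0, 4, 2, 2, 2, 2],
    [5, 5, 3, 4, 0, 4], [5, 1, 0, 4, 0, 1], [4, 3, 2, 2, 2, 2, 2, 2, 2, 2, 2, 2, 2, 2, 2],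
    [5, 4, 0, 1, 0, 4, 0, 4], [5, 5, 5, 5, 5, 1, 3, 4, 0, 1, 0, 4],
    [5, 5, 5, 3, 1, 0, 4, 0, 1, 0], [1, 0, 1, 0, 4, 2, 2, 2, 2, 2, 2, 2, 2, 2, 2, 2, 2, 2, 2],
    [2, 2, 2, 2, 2, 2, 2, 2, 2, 2, 2, 2, 2, 1, 0, 0], [3, 1, 0, 4, 2, 0],
    [5, 5, 5, 5, 5, 5, 5, 5, 3, 4, 0, 1, 0, 4], [2, 2, 2, 2, 0, 1, 0, 1, 0],
    [5, 5, 5, 5, 5, 5, 5, 5, 0, 1, 0, 4, 0, 1], [5, 5, 5, 5, 0, 4, 0, 1, 0, 4, 0, 1, 0],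
    [5, 5, 5, 5, 5, 5, 1, 0, 1, 0], [5, 5, 5, 5, 5, 5, 4, 0, 4, 0], [0, 4, 2, 2, 0, 1, 0],
    [5, 3, 4, 0, 1, 0, 4, 0], [5, 5, 5, 4, 0, 1, 0, 4],
    [4, 3, 4, 0, 1, 0, 4, 2, 2, 2, 2, 2, 2, 2, 2, 2, 2, 2, 2, 2], [4, 2, 0, 1, 0],
    [5, 5, 3, 1, 0, 1], [1, 3, 4, 0, 1, 0, 4, 2, 2, 2, 2, 2, 2, 0, 1],
    [5, 5, 5, 5, 5, 5, 5, 5, 5, 5, 4, 3, 4, 0, 1], [5, 0, 0], [5, 4, 0, 1],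
    [5, 5, 5, 5, 5, 5, 5, 5, 5, 5, 1, 3, 4, 0, 1, 0, 4, 0, 1, 0],
    [4, 2, 2, 2, 2, 2, 2, 2, 0, 0], [5, 5, 5, 5, 5, 5, 5, 5, 5, 5, 5, 4, 0, 4, 0, 1, 0],
    [5, 5, 5, 5, 5, 5, 5, 4, 3, 1, 0, 1], [5, 5, 5, 5, 5, 5, 5, 5, 3, 1, 0, 4, 0, 1, 0, 4, 0],
    [4, 0, 4, 2], [5, 5, 5, 5, 5, 5, 5, 5, 1, 3, 4, 0, 1, 0, 4],
    [5, 5, 5, 5, 5, 5, 5, 5, 5, 5, 5, 3, 4, 0, 1, 0, 4],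
    [5, 5, 5, 5, 5, 5, 5, 5, 5, 4, 0, 4, 0], [5, 5, 4, 0, 1, 0],
    [5, 5, 5, 5, 5, 5, 4, 0, 4, 0, 1, 0, 1], [3, 4, 0, 4, 2, 2, 2, 2, 0],
    [5, 5, 5, 5, 5, 5, 5, 5, 5, 5, 5, 1, 3, 4, 0, 4], [2, 2, 2, 2, 2, 2, 2, 2, 2, 2, 1, 0],
    [3, 1, 0, 4, 2], [5, 5, 1, 3, 4], [1, 3, 4, 2, 2, 2, 2, 2, 2, 0],
    [5, 5, 5, 5, 5, 3, 4, 0, 4], [5, 5, 5, 5, 5, 5, 3, 1, 0, 4, 0, 1, 0], [2, 0, 1, 0, 1, 0],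
    [5, 0, 4, 0, 1, 0], [5, 5, 5, 5, 5, 3, 1, 0, 1], [1, 3, 2, 2, 2, 2, 1],
    [2, 2, 2, 2, 2, 2, 2, 0, 1, 0], [0, 4, 2, 2, 2, 2, 2, 2, 2, 2, 2, 2, 2, 0, 1, 0, 1],
    [1, 3, 4, 2, 2, 2, 2, 2, 2, 2, 2, 2, 2, 2, 2, 2, 2, 0, 1, 0],
    [5, 5, 5, 5, 5, 5, 5, 1, 3, 1, 0, 4, 0], [4, 3, 1, 0, 4, 2, 2, 2, 2, 2, 2, 2, 2, 0, 1, 0],
    [3, 4, 2, 2, 2, 2, 2, 2, 2, 2, 2, 2, 2, 2, 2, 2, 0, 1], [5, 5, 5, 5, 1, 0, 4, 0, 1],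
    [1, 0, 1, 0, 4, 2, 2, 2, 2, 2, 2, 2, 2, 2, 2, 2],
    [5, 5, 5, 5, 5, 5, 5, 5, 5, 5, 5, 0, 1, 0, 4, 0, 1], [5, 5, 5, 5, 3, 4, 0, 1, 0, 4, 0],
    [1, 3, 4, 0, 1, 0, 4, 2, 2, 2, 0, 1],
    [5, 5, 5, 5, 5, 5, 5, 5, 5, 5, 5, 5, 1, 3, 1, 0, 4, 0, 1],
    [5, 5, 5, 5, 5, 5, 5, 4, 0, 1, 0, 4, 0, 1], [5, 5, 5, 5, 5, 5, 1, 3, 1, 0, 4, 0, 1, 0],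
    [5, 5, 5, 5, 5, 5, 5, 5, 5, 5, 5, 5, 5, 0, 1, 0, 4, 0, 4],
    [4, 0, 1, 0, 4, 2, 2, 2, 2, 2, 2, 2, 2, 2, 2, 2, 2, 2, 2, 0],
    [1, 0, 1, 0, 4, 0, 4, 2, 2, 2, 2, 2, 2, 2, 2, 2], [1, 3, 4, 2, 0, 1, 0, 1],
    [4, 3, 2, 2, 2, 2, 2, 2, 2, 2, 2, 2], [2, 2, 2, 2, 2, 2, 2, 2, 2, 2, 1, 0, 0],
    [5, 5, 5, 5, 5, 5, 5, 0, 4, 0, 1, 0, 4, 0, 1, 0], [5, 5, 5, 5, 5, 5, 4, 0, 1, 0, 4],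
    [5, 5, 5, 5, 5, 5, 5, 5, 5, 5, 5, 5, 5, 4, 3, 4, 0, 1],
    [4, 0, 4, 0, 1, 0, 4, 2, 2, 2, 2, 2, 2, 2, 2, 2, 0], [0, 4], [3, 1],
    [3, 1, 0, 4, 0, 1, 0, 4, 2, 2, 2, 2, 2, 2, 2, 2, 2],
    [0, 4, 2, 2, 2, 2, 2, 2, 2, 2, 2, 2, 0], [1, 0, 4, 0, 1, 0, 4, 2, 2, 2, 2, 0],
    [5, 5, 5, 3, 4, 0, 1, 0, 4, 0, 1], [5, 5, 5, 5, 4, 0, 1, 0, 4, 0, 4],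
    [5, 5, 3, 1, 0, 4, 0], [5, 5, 5, 5, 5, 5, 5, 5, 5, 1, 0, 1, 0],
    [4, 3, 4, 0, 1, 0, 4, 2, 2, 2, 2, 2, 2, 2, 2, 2, 2], [5, 5, 5, 5, 5],
    [3, 1, 0, 4, 0, 4, 2, 2, 2, 2, 2, 2, 2, 2, 2, 2, 2, 2],
    [5, 5, 5, 5, 5, 5, 5, 5, 5, 0, 4, 0, 4], [4, 0, 4, 0, 1, 0, 4, 2, 2, 2, 2, 2, 2],
    [5, 5, 5, 5, 5, 5, 5, 5, 5, 5, 1, 0, 1, 0, 4, 0, 1, 0], [1, 0, 4, 2, 2, 0],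
    [5, 5, 5, 5, 5, 5, 5, 5, 5, 5, 5, 5, 5, 1, 3, 1, 0],
    [5, 5, 5, 5, 5, 5, 5, 5, 5, 5, 5, 4, 3, 1, 0, 4, 0, 1], [5, 5, 5, 5, 5, 5, 1, 0, 4],
    [5, 5, 5, 5, 5, 5, 0, 1, 0, 4, 0],
    [1, 0, 1, 0, 4, 2, 2, 2, 2, 2, 2, 2, 2, 2, 2, 2, 2, 2, 0, 1], [5, 5, 5, 0, 1, 0, 4],
    [5, 5, 5, 5, 5, 5, 5, 5, 4, 3, 1, 0, 4, 0, 4], [5, 1, 0, 4, 0, 1, 0, 4, 0, 1],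
    [1, 3, 2, 2, 2, 2, 2, 2], [5, 5, 5, 5, 5, 5, 5, 0, 4, 0, 1, 0, 4, 0, 1],
    [5, 5, 5, 5, 5, 5, 5, 5, 0, 4, 0, 1, 0, 4, 0],
    [1, 0, 4, 0, 4, 2, 2, 2, 2, 2, 2, 2, 2, 2, 2, 2, 2, 2, 2], [1, 3, 4, 0, 1, 0, 4, 0],
    [3, 1, 0, 4, 2, 2, 2, 2, 2, 2, 2, 2, 2, 2, 2, 2, 2, 2, 0, 1], [0, 4, 0, 4, 0],
    [3, 4, 2, 2, 2, 2, 2, 2, 0], [1, 3, 1, 0, 4, 2, 2, 2, 2, 2, 2, 2],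
    [5, 5, 5, 5, 5, 5, 5, 5, 5, 5, 4, 3, 4, 0, 1, 0, 1],
    [0, 1, 0, 4, 0, 1, 0, 4, 2, 2, 2, 2, 2], [5, 5, 5, 5, 5, 5, 5, 5, 1, 3, 4, 0, 1],
    [5, 5, 5, 5, 5, 5, 4, 3, 1, 0], [5, 5, 5, 5, 0, 1],
    [0, 4, 2, 2, 2, 2, 2, 2, 2, 2, 2, 2, 0, 1],
    [5, 5, 5, 5, 5, 5, 5, 5, 5, 5, 5, 5, 5, 4, 3, 4, 0], [5, 5, 5, 5, 3, 4],
    [4, 0, 1, 0, 4, 2, 2, 2, 2, 0, 1, 0],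
    [0, 4, 0, 1, 0, 4, 2, 2, 2, 2, 2, 2, 2, 2, 2, 2, 2, 2, 2, 2],
    [4, 3, 4, 0, 1, 0, 4, 2, 2, 2, 2, 2, 0],
    [5, 5, 5, 5, 5, 5, 5, 5, 5, 5, 5, 1, 0, 1, 0, 4, 0],
    [5, 5, 5, 5, 5, 5, 5, 5, 5, 5, 5, 5, 1, 0, 4, 0, 1, 0, 4],
    [4, 0, 4, 2, 2, 2, 2, 2, 2, 2, 2, 2, 2, 2, 2, 0, 1],
    [1, 0, 4, 2, 2, 2, 2, 2, 2, 2, 2, 2, 2, 0, 1, 0], [5, 5, 5, 4, 3, 4],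
    [5, 5, 5, 5, 5, 5, 5, 5, 5, 5, 4, 3, 1, 0, 4], [3, 4, 2, 2, 2, 2, 2, 2, 2, 0, 1, 0, 1],
    [5, 5, 5, 5, 5, 5, 5, 5, 5, 5, 5, 5, 0, 1, 0, 4, 0, 1, 0, 4, 0],
    [5, 5, 5, 5, 5, 5, 5, 5, 5, 5, 5, 3, 4, 0, 1, 0, 4, 0, 1, 0], [3, 2, 2, 2, 1, 0],
    [5, 5, 5, 5, 5, 5, 5, 5, 5, 5, 5, 4, 0, 1, 0, 1], [2, 2, 2, 2, 2, 2, 1], [1, 0, 1],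
    [4, 3, 4, 2, 2, 2, 2, 2, 2, 2, 2, 2, 2, 2, 2, 2, 2, 0, 1, 0], [4, 2, 2, 2, 2, 2, 2, 0],
    [5, 5, 5, 5, 5, 5, 5, 5, 5, 0, 1, 0, 1], [4, 2, 2, 2], [5, 5, 5, 1, 0, 4, 0, 1, 0, 1],
    [5, 5, 5, 5, 5, 3, 4, 0, 1, 0],
    [5, 5, 5, 5, 5, 5, 5, 5, 5, 5, 5, 5, 5, 5, 1, 0, 4, 0, 1, 0, 4, 0, 1, 0],
    [1, 3, 1, 0, 4, 0, 4, 2, 2, 2, 2, 2], [5, 5, 5, 3, 1, 0, 1, 0], [5, 5, 5, 5, 5, 4, 3, 1],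
    [4, 3, 1, 0, 4, 2, 2, 2, 2, 2, 2, 2, 2, 2, 2, 0],
    [5, 5, 5, 5, 5, 5, 5, 5, 5, 5, 0, 1, 0, 4, 0, 1, 0], [2, 2, 2, 2, 2, 2, 2, 2],
    [1, 0, 4, 2, 2, 2, 2, 2, 2, 2, 2, 2, 2, 0, 1, 0, 1],
    [5, 5, 5, 5, 5, 5, 5, 5, 5, 5, 5, 5, 5, 3, 1, 0], [1, 0, 4, 0, 1, 0, 4, 2],
    [2, 2, 2, 2, 2, 2, 2, 2, 2, 0, 1], [5, 5, 3, 1, 0, 4, 0, 1],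
    [0, 1, 0, 4, 2, 2, 2, 2, 2, 2, 2, 2, 2, 2],
    [5, 5, 5, 5, 5, 5, 5, 5, 5, 5, 4, 0, 4, 0, 1, 0, 4],
    [5, 5, 5, 5, 5, 5, 5, 5, 5, 5, 5, 1, 3, 1, 0, 4, 0, 4],
    [2, 2, 2, 2, 2, 2, 2, 2, 2, 2, 2, 2, 2, 1, 0, 1], [4, 3, 4, 2, 2, 2, 2, 2, 2, 2, 2, 2, 2],
    [3, 4, 2, 2, 2, 2, 2, 2, 2, 2, 2], [5, 5, 5, 5, 5, 5, 5, 5, 5, 1, 3, 1, 0, 4],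
    [5, 5, 5, 5, 5, 5, 5, 5, 5, 5, 1, 3], [1, 3, 1, 0], [5, 5, 5, 5, 5, 5, 4, 3, 1, 0, 4, 0],
    [2, 2, 2, 2, 0, 1, 0, 1], [0, 1, 0, 4, 0, 1, 0, 4, 2, 0],
    [5, 5, 5, 5, 5, 5, 5, 5, 5, 5, 5, 4, 3, 4, 0, 1, 0, 4, 0], [1, 3, 4, 2, 2, 2, 2, 2, 0, 1],
    [5, 5, 1, 0, 4, 0, 4], [0, 1, 0, 4, 2, 2, 2, 2, 2, 2, 2, 0],
    [5, 5, 5, 5, 3, 1, 0, 4, 0, 4], [3, 4, 2, 2, 2, 2, 2, 2, 2, 2, 0, 1, 0],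
    [4, 2, 2, 0, 1, 0, 1], [5, 5, 5, 5, 4, 0, 4, 0, 1], [5, 5, 5, 5, 5, 5, 0, 4, 0, 1],
    [0, 4, 0, 4, 2, 2, 2, 2, 2, 2, 2, 2, 2, 2, 2, 2, 2, 0],
    [4, 3, 1, 0, 4, 0, 4, 2, 2, 2, 2, 2], [1, 0, 1, 0, 4, 2, 2, 2, 0, 1, 0],
    [3, 2, 2, 2, 2, 2, 2, 2, 2, 2, 2, 1, 0, 1, 0], [5, 5, 4, 3, 4, 0, 1, 0],
    [4, 3, 1, 0, 4, 2, 2, 2], [5, 5, 5, 5, 5, 5, 5, 5, 5, 5, 5, 5, 4, 0, 1, 0, 4, 0, 1, 0],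
    [4, 3, 4, 2, 2, 2, 0, 1, 0, 1], [0, 4, 0, 1, 0, 4, 2, 2, 2, 2, 2, 2, 0, 1],
    [4, 3, 1, 0, 4, 2, 2, 0, 1], [0, 1, 0, 4, 2, 2, 2, 0, 1, 0],
    [5, 5, 5, 5, 5, 5, 5, 5, 5, 5, 5, 5, 5, 4], [3, 4, 0, 1, 0, 4, 2, 2, 0, 1, 0],
    [1, 0, 1, 0, 4, 2, 2, 0], [4, 3, 2, 2, 2, 2, 2, 2, 2, 1, 0],
    [1, 3, 4, 0, 1, 0, 4, 2, 2, 2, 2, 2, 2, 2, 2, 2, 2, 2, 2, 2, 0],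
    [5, 5, 5, 1, 0, 1, 0, 4, 0, 1], [0, 4, 0, 4, 2, 2, 2, 2],
    [5, 1, 0, 4, 0, 1, 0, 4, 0, 1, 0], [5, 5, 5, 5, 5, 5, 5, 5, 5, 5, 1],
    [5, 5, 5, 5, 5, 5, 1, 0, 4, 0, 1, 0], [4, 3, 4, 0],
    [5, 5, 5, 5, 5, 5, 5, 5, 5, 5, 3, 4, 0],
    [1, 0, 4, 0, 1, 0, 4, 2, 2, 2, 2, 2, 2, 2, 2, 2, 2, 2, 2, 0, 1],
    [5, 5, 5, 5, 5, 5, 5, 5, 5, 5, 5, 5, 5, 5, 1, 0, 4, 0], [4, 3, 2, 2, 2, 2, 2, 2, 2, 2, 1],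
    [5, 5, 5, 5, 5, 5, 5, 5, 5, 5, 4, 0], [5, 5, 5, 5, 5, 5, 5, 5, 5, 3, 4, 0, 1, 0, 1],
    [5, 5, 0, 4, 0, 1, 0, 4], [5, 5, 5, 5, 5, 5, 5, 5, 5, 5, 5, 0, 1, 0, 4, 0, 1, 0, 4],
    [0, 4, 0, 1, 0, 4, 2, 2, 2, 2, 2, 0], [1, 0, 4, 2, 2, 2, 2, 2, 2, 2], [5, 5, 5, 0, 0],
    [5, 3, 1, 0, 4], [1, 0, 1, 0, 4, 2, 2, 2, 2, 2, 2, 2, 2, 2],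
    [4, 0, 4, 0, 1, 0, 4, 2, 2, 2, 2, 2, 2, 2, 0], [5, 5, 5, 5, 5, 5, 5, 5, 5, 4, 3, 1, 0, 1],
    [5, 0, 1, 0, 1, 0], [5, 5, 5, 5, 5, 5, 5, 5, 5, 4, 0, 1, 0, 4, 0, 1],
    [1, 0, 4, 0, 1, 0, 4, 2, 2, 0], [5, 5, 5, 5, 5, 5, 5, 5, 5, 5, 5, 4, 0, 4, 0],
    [0, 4, 2, 2, 2, 2, 2, 2, 2, 2, 2, 0, 1, 0, 1], [5, 1, 3, 4, 0, 1, 0, 1],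
    [4, 3, 4, 0, 1, 0, 4, 2, 2, 2, 2, 2, 2, 2, 2], [2, 2, 2, 2, 2, 2, 2, 2, 1, 0],
    [5, 5, 5, 5, 5, 5, 1, 0, 4, 0, 1],
    [4, 3, 4, 2, 2, 2, 2, 2, 2, 2, 2, 2, 2, 2, 2, 2, 2, 0, 1],
    [5, 5, 5, 5, 5, 5, 5, 5, 5, 5, 5, 5, 5, 4, 0, 4, 0, 1, 0],
    [5, 5, 5, 5, 5, 5, 5, 5, 3, 1, 0, 4, 0, 1, 0],
    [5, 5, 5, 5, 5, 5, 5, 5, 5, 5, 5, 5, 5, 5, 1, 3, 1, 0, 4, 0, 1],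
    [0, 4, 2, 2, 2, 2, 2, 2, 2, 2, 0],
    [5, 5, 5, 5, 5, 5, 5, 5, 5, 5, 5, 5, 5, 3, 4, 0, 1, 0, 4], [2, 2, 2, 2, 2, 0, 1, 0],
    [1, 0, 1, 0, 4, 0, 4, 2, 2, 2, 2, 2, 2, 2], [5, 5, 5, 5, 5, 5, 5, 5, 5, 5, 5, 1, 0, 1, 0],
    [5, 5, 5, 5, 5, 5, 5, 5, 5, 5, 5, 5, 5, 1, 3, 4, 0, 4],
    [3, 4, 2, 2, 2, 2, 2, 2, 2, 2, 2, 2, 2, 2, 0, 1], [5, 5, 5, 5, 5, 5, 5, 5, 4, 0, 1, 0, 4],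
    [4, 2, 2, 2, 2, 2, 0, 0], [5, 5, 5, 5, 5, 5, 5, 3, 4, 0, 4],
    [1, 3, 4, 0, 1, 0, 4, 2, 0, 1], [3, 1, 0, 4, 0, 1, 0, 4, 2, 2, 2, 2, 2, 2, 2],
    [5, 5, 5, 5, 5, 5, 5, 5, 5, 5, 1, 3, 4, 0, 1, 0, 4], [1, 3, 2, 2, 1],
    [4, 0, 1, 0, 4, 2, 2, 2, 2, 2, 2, 2, 2, 2, 2, 2, 2, 0], [5, 5, 5, 5, 3, 1, 0, 4, 0],
    [3, 4, 0, 4, 2, 2, 0], [4, 3, 1, 0, 4, 2, 2, 2, 2, 2, 2, 0, 1, 0],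
    [5, 5, 5, 5, 5, 5, 5, 5, 5, 0, 4, 0, 1, 0, 4, 0, 1, 0],
    [5, 5, 5, 5, 5, 5, 5, 5, 5, 5, 5, 5, 1, 3, 4, 0, 1, 0, 4, 0, 1, 0],
    [1, 3, 4, 2, 2, 2, 2, 0], [5, 5, 5, 5, 5, 5, 3, 4, 0, 1, 0, 4, 0], [5, 5, 3, 1],
    [5, 4, 0, 4], [5, 5, 5, 5, 5, 5, 5, 3, 1, 0, 1],
    [0, 1, 0, 4, 0, 4, 2, 2, 2, 2, 2, 2, 2, 2, 2, 2, 2, 2, 2, 2],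
    [5, 5, 5, 5, 5, 5, 4, 0, 1, 0, 4, 0, 4], [5, 5, 5, 5, 5, 5, 5, 5, 4, 0, 4, 0, 1, 0, 1],
    [5, 5, 5, 5, 5, 5, 5, 5, 5, 1, 3, 1, 0, 4, 0], [2, 2, 2, 2, 2, 2, 2, 2, 1, 0, 0],
    [5, 5, 5, 4, 0, 1], [5, 5, 5, 5, 1, 3, 4],
    [5, 5, 5, 5, 5, 5, 5, 5, 5, 5, 5, 5, 5, 0, 1, 0, 4, 0, 1], [5, 5, 0, 4],
    [5, 5, 5, 5, 5, 5, 5, 5, 5, 5, 3, 1, 0, 4, 0, 1, 0, 4, 0], [5, 5, 5, 0, 4, 0, 1, 0],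
    [5, 5, 5, 5, 5, 5, 5, 5, 1, 3, 1, 0, 4, 0, 1, 0], [5, 5, 5, 5, 5, 3, 4, 0, 1, 0, 4, 0, 1],
    [5, 5, 5, 5, 4, 0, 1, 0], [1, 3, 4, 2, 2, 2, 2, 2, 2, 2, 2, 2, 2, 2, 2, 0, 1, 0],
    [4, 3, 2, 2, 2, 2, 2, 2, 2, 2], [5, 5], [5, 5, 5, 5, 5, 4, 3, 1, 0, 4, 0, 4],
    [0, 1, 0, 4, 0, 1, 0, 4, 2, 2, 2, 2, 2, 2, 2, 2],
    [5, 5, 5, 5, 5, 5, 5, 5, 5, 5, 5, 5, 5, 5, 4, 0, 4, 0, 1],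
    [4, 2, 2, 2, 2, 2, 2, 2, 2, 2, 0],
    [5, 5, 5, 5, 5, 5, 5, 5, 5, 5, 5, 5, 5, 5, 3, 1, 0, 4, 0, 4],
    [1, 0, 4, 0, 1, 0, 4, 2, 2, 0, 1], [5, 5, 5, 5, 5, 1, 3, 4, 0, 1],
    [1, 0, 4, 2, 2, 2, 2, 2, 2, 2, 2, 2, 2, 2, 2, 2, 0, 1, 0], [5, 5, 5, 5, 5, 5, 0, 1, 0, 1],
    [5, 5, 5, 5, 5, 5, 0, 4, 0, 4], [1, 3, 2, 2, 2, 2, 2, 2, 2, 2, 2], [5, 5, 5, 4, 3, 1, 0],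
    [4, 3, 4], [4, 2, 2, 2, 2, 2, 2], [4, 0, 4, 0, 1, 0, 4, 2, 2, 2, 2, 2, 2, 2, 2, 2],
    [5, 5, 5, 5, 0, 4, 0, 1, 0, 4, 0, 1], [5, 0, 1], [5, 5, 5, 5, 5, 5, 5, 4, 3, 1, 0, 4],
    [1, 0, 4, 0, 1, 0, 1], [5, 5, 5, 5, 5, 5, 5, 1, 0, 1, 0, 4, 0, 1, 0],
    [5, 5, 5, 5, 5, 0, 4, 0, 1, 0, 4, 0], [0, 4, 2, 2, 2, 2, 2, 2, 2, 2, 2, 2, 2, 2, 2, 0, 1],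
    [3, 4, 2, 2, 2, 2, 2, 2, 2, 2, 2, 2, 0, 1, 0, 1], [5, 5, 3, 4, 0, 1, 0],
    [1, 0, 4, 2, 2, 2, 2, 2, 0], [5, 5, 5, 5, 5, 5, 5, 5, 5, 5, 5, 5, 1, 0, 4, 0, 4],
    [5, 5, 5, 5, 5, 5, 5, 5, 5, 5, 4, 3, 4, 0],
    [5, 5, 5, 5, 5, 5, 5, 5, 5, 0, 1, 0, 4, 0, 1, 0, 4, 0],
    [5, 5, 5, 5, 5, 5, 5, 5, 5, 5, 5, 1, 0, 4, 0, 1, 0, 4, 0, 1, 0],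
    [5, 5, 5, 5, 5, 5, 5, 5, 5, 5, 1, 3, 1, 0], [1, 3, 4, 0, 1, 0, 4, 2, 2, 2, 0], [5, 3, 4],
    [5, 5, 5, 5, 5, 5, 5, 5, 3, 4, 0, 1, 0, 4, 0, 1, 0],
    [1, 3, 1, 0, 4, 0, 4, 2, 2, 2, 2, 2, 2, 2, 2],
    [5, 5, 5, 5, 5, 5, 5, 5, 4, 3, 1, 0, 4, 0, 1],
    [5, 5, 5, 5, 5, 5, 5, 5, 5, 5, 5, 5, 3, 1, 0, 4, 0, 1],
    [4, 0, 1, 0, 4, 2, 2, 2, 2, 2, 2, 2, 0, 1, 0], [3, 2, 2, 2, 2, 2, 2, 1, 0],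
    [3, 1, 0, 1, 0], [5, 5, 5, 1, 0, 4], [0, 4, 0, 4, 2, 2, 2, 0],
    [5, 5, 5, 5, 5, 5, 5, 5, 5, 5, 5, 5, 0, 4, 0, 1, 0, 4],
    [5, 5, 5, 5, 5, 5, 5, 5, 4, 0, 1, 0, 1], [5, 5, 4, 3, 1], [5, 5, 5, 0, 1, 0, 4, 0],
    [3, 4, 2, 2, 2, 2, 2, 2, 2, 2, 2, 0], [4, 3, 4, 0, 1, 0, 4, 2, 2, 2, 2, 2, 2, 2, 2, 0],
    [2, 2, 2, 2, 2, 2, 2, 2, 2, 1], [4, 3, 1, 0, 4, 2, 2, 2, 2, 2, 2, 2, 2, 2, 2, 2, 2, 2, 0],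
    [5, 5, 5, 5, 5, 5, 5, 5, 5, 5, 5, 5, 5, 1, 0, 1, 0, 4, 0, 1],
    [1, 3, 1, 0, 4, 2, 2, 2, 2, 2, 2, 2, 2, 2, 2], [5, 5, 5, 5, 5, 5, 5, 5, 1, 0, 1, 0, 4, 0],
    [2, 2, 2, 1, 0, 1], [5, 5, 5, 5, 5, 5, 5, 0, 1, 0, 4, 0, 1, 0], [0, 1, 0, 4],
    [5, 5, 5, 5, 5, 5, 5, 4, 3, 4, 0, 1, 0, 1],
    [5, 5, 5, 5, 5, 5, 5, 5, 5, 1, 0, 4, 0, 1, 0, 4],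
    [5, 5, 5, 5, 5, 5, 5, 5, 5, 5, 5, 5, 4, 3, 4, 0, 1, 0], [5, 5, 5, 5, 5, 5, 5, 5, 5, 5, 5],
    [5, 5, 5, 5, 5, 5, 5, 5, 5, 5, 5, 5, 5, 5, 1, 3, 4, 0, 1], [5, 5, 5, 4],
    [5, 5, 5, 5, 5, 5, 5, 5, 5, 5, 5, 5, 5, 5, 0, 4, 0, 1, 0, 4, 0],
    [0, 1, 0, 4, 0, 1, 0, 4, 2, 2, 2, 2, 2, 2, 2, 2, 2, 2, 2, 0],
    [4, 3, 1, 0, 4, 2, 2, 2, 2, 2, 2, 2, 2, 2, 2, 2, 2, 0, 1],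
    [0, 4, 0, 1, 0, 4, 2, 2, 2, 2, 2, 2, 2, 2], [4, 3, 1, 0, 4, 2, 2, 2, 2, 0],
    [4, 3, 4, 2, 2, 2, 2, 2, 2, 2, 2, 2, 2, 2, 2, 2, 0, 1, 0, 1], [4, 0], [1, 3],
    [4, 3, 1, 0, 4, 2, 2, 2, 2, 2, 2, 2, 2, 2, 2, 2, 2, 2], [5, 5, 5, 5, 1, 0, 4, 0],
    [5, 5, 5, 5, 5, 5, 5, 5, 5, 5, 3, 4], [5, 5, 5, 5, 5, 5, 5, 5, 5, 3, 1, 0, 1, 0],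
    [3, 4, 0], [5, 5, 5, 5, 5, 5, 1, 0, 1],
    [5, 5, 5, 5, 5, 5, 5, 5, 5, 5, 5, 5, 5, 5, 4, 3, 1, 0, 4, 0, 4],
    [1, 0, 4, 2, 2, 2, 2, 0, 1, 0], [4, 0, 4, 0, 1, 0, 4], [0, 4, 2, 2, 2, 2, 0, 1],
    [1, 0, 4, 0, 1, 0, 4, 2, 2, 2, 2, 2, 2, 2, 2, 2, 0, 1, 0],
    [3, 1, 0, 4, 2, 2, 2, 2, 2, 2, 2, 2, 0, 1],
    [4, 2, 2, 2, 2, 2, 2, 2, 2, 2, 2, 2, 2, 0, 1, 0, 1],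
    [1, 0, 1, 0, 4, 2, 2, 2, 2, 2, 2, 2, 0, 1],
    [1, 0, 4, 0, 1, 0, 4, 2, 2, 2, 2, 2, 2, 2, 2, 2, 2, 2],
    [3, 1, 0, 4, 0, 4, 2, 2, 2, 2, 2, 2], [5, 5, 5, 5, 5, 5, 5, 5, 5, 5, 5, 5, 4, 3, 1, 0],
    [5, 5, 5, 5, 5, 5, 5, 5, 5, 1, 0, 4, 0, 1, 0, 1], [1, 0, 4, 0, 4, 2, 2, 2, 2, 2, 2, 2, 2],
    [3, 4, 0, 1, 0, 4, 2, 2, 2, 2, 2, 2, 2, 2, 2, 2, 2, 2, 0, 1, 0],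
    [5, 5, 5, 5, 5, 5, 5, 5, 5, 5, 5, 5, 1, 0, 4], [5, 4, 3, 4, 0, 1, 0, 4, 0],
    [0, 1, 0, 4, 2, 2, 2, 2, 2, 2, 2, 2, 2, 2, 2, 2, 2, 0, 1, 0], [5, 0, 1, 0, 4, 0, 1, 0, 4],
    [2, 2, 2, 2, 2, 2, 2, 2, 2, 2, 2, 2, 2, 2, 0, 1, 0, 1],
    [5, 5, 5, 5, 5, 5, 5, 5, 5, 5, 5, 5, 5, 0, 4, 0, 1, 0, 4, 0, 1], [3, 4, 2, 0, 1, 0, 1],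
    [1, 3, 2, 2, 2, 2, 2, 2, 2, 2, 2, 2, 1, 0], [5, 5, 4, 0, 1, 0, 4, 0, 1, 0],
    [5, 5, 5, 5, 5, 5, 5, 5, 5, 5, 5, 4, 3, 1], [1, 3, 1, 0, 4, 2],
    [4, 3, 4, 2, 2, 2, 2, 2, 2, 2, 2, 0, 1, 0],
    [5, 5, 5, 5, 5, 5, 5, 1, 0, 4, 0, 1, 0, 4, 0, 1], [5, 5, 5, 5, 5, 5, 5, 5, 5, 4, 3, 4],
    [1, 0, 1, 0, 4, 2, 2, 2, 2, 2, 2, 2, 2, 2, 2, 2, 2, 2, 0, 1, 0],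
    [4, 3, 4, 2, 2, 2, 2, 2, 2, 2, 2, 2, 2, 0], [5, 1, 3, 1, 0, 4, 0, 4],
    [5, 5, 5, 5, 5, 5, 0, 4, 0, 4, 0], [1], [5, 5, 5, 5, 5, 5, 5, 5, 5, 0, 1, 0, 4],
    [4, 0, 4, 2, 2, 2, 2, 2, 2, 0, 1], [0, 4, 0, 4, 2, 2, 2, 2, 2, 2, 2, 2, 2, 2, 2, 2, 2, 2],
    [5, 5, 5, 5, 5, 5, 5, 5, 5, 5, 0, 1], [5, 5, 5, 5, 5, 5, 5, 5, 5, 5, 5, 3, 4, 0, 1, 0],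
    [5, 5, 5, 5, 5, 5, 1, 3, 4, 0, 1, 0, 4, 0], [5, 5, 5, 3, 1, 0],
    [5, 5, 5, 5, 5, 5, 5, 5, 5, 5, 5, 5, 0, 1, 0, 4, 0],
    [1, 0, 1, 0, 4, 2, 2, 2, 2, 2, 2, 2, 2, 2, 2, 2, 2, 0], [5, 5, 5, 5, 5, 5, 5, 5, 0, 0],
    [1, 0, 1, 0, 4, 0, 4, 2, 2], [5, 5, 5, 5, 5, 5, 5, 5, 5, 5, 5, 5, 3, 1, 0, 1],
    [5, 5, 5, 5, 5, 5, 5, 5, 5, 5, 5, 5, 5, 5, 4, 3, 1, 0, 1],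
    [5, 5, 5, 5, 5, 5, 5, 5, 5, 5, 5, 5, 5, 4, 0, 1, 0, 4],
    [5, 5, 5, 5, 5, 5, 5, 5, 5, 5, 5, 5, 5, 5, 1, 3, 1, 0, 4, 0],
    [4, 0, 4, 2, 2, 2, 2, 2, 2, 2, 2, 2, 2, 2, 2, 2, 0], [3, 1, 0, 4, 0, 1, 0, 4, 2, 2],
    [0, 1, 0, 4, 2, 2, 2, 2, 2, 2, 2, 2, 2, 2, 2, 0, 1], [2, 2, 2, 1, 0],
    [5, 5, 5, 5, 5, 5, 5, 5, 5, 3, 1, 0, 4, 0],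
    [5, 5, 5, 5, 5, 5, 5, 5, 5, 5, 5, 5, 5, 1, 3, 1, 0, 4, 0, 1, 0],
    [5, 5, 5, 5, 5, 5, 5, 5, 5, 5, 5, 5, 5, 3, 1, 0, 4, 0, 1, 0],
    [1, 3, 4, 0, 1, 0, 4, 2, 2, 2, 2, 2, 2, 2, 2, 2, 2, 2, 2, 0, 1, 0], [4, 3, 2, 2, 2],
    [0, 1, 0], [5, 5, 5, 5, 5, 5, 4, 0, 4], [4, 0, 4, 0, 1, 0, 4, 2, 2, 0],
    [3, 4, 2, 2, 2, 2, 2, 2, 2, 0, 1],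
    [5, 5, 5, 5, 5, 5, 5, 5, 5, 5, 5, 5, 5, 4, 0, 4, 0, 1, 0, 1],
    [5, 5, 5, 1, 0, 4, 0, 1, 0, 4, 0], [5, 5, 5, 5, 1, 3, 4, 0, 1, 0, 4, 0, 1],
    [5, 5, 5, 5, 5, 5, 5, 5, 5, 1, 3, 4], [4, 3, 4, 0, 1, 0, 4, 2, 2, 2],
    [4, 0, 1, 0, 4, 2, 2, 2, 2, 2, 2, 2, 0], [5, 5, 5, 5, 5, 5, 5, 5, 0, 4, 0, 1, 0],
    [4, 0, 4, 2, 2, 2, 2, 2, 2, 2, 2, 2, 2, 2, 0, 1, 0],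
    [5, 5, 5, 5, 5, 5, 5, 5, 5, 5, 5, 5, 5, 5, 0, 4, 0, 1, 0, 4, 0, 1, 0],
    [1, 3, 4, 2, 2, 2, 2, 2, 2, 2, 0, 1, 0],
    [3, 4, 0, 1, 0, 4, 2, 2, 2, 2, 2, 2, 2, 2, 2, 2, 2], [5, 5, 5, 5, 5, 5, 5, 3, 1],
    [1, 0, 1, 0, 4, 2, 2, 2, 2], [1, 3, 4, 0, 4, 2, 2, 2, 2, 2, 2, 2, 2, 2, 2, 2],
    [5, 5, 5, 5, 5, 5, 5, 5, 5, 5, 5, 4, 0, 1, 0, 4, 0, 4],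
    [5, 5, 5, 5, 5, 5, 5, 5, 5, 5, 5, 5, 5, 5, 4, 0, 1, 0, 4, 0, 1],
    [5, 5, 5, 5, 5, 5, 5, 5, 5, 5, 5, 5, 3, 4, 0, 4], [5, 5, 5, 5, 5, 5, 5, 5, 4, 0, 1],
    [5, 5, 5, 5, 5, 5, 1, 3, 4, 0, 1, 0, 1], [5, 5, 5, 1, 3, 1],
    [3, 1, 0, 4, 0, 1, 0, 4, 2, 2, 2, 2, 2, 2, 2, 2, 2, 2, 2, 2, 2, 2, 0],
    [4, 3, 4, 2, 2, 2, 2, 2, 2, 2, 2, 2, 0, 1], [4, 3, 1, 0, 4, 2, 0, 1, 0],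
    [5, 5, 5, 5, 5, 5, 5, 5, 5, 4, 0, 1, 0], [0, 4, 2, 2, 2, 0],
    [5, 5, 5, 5, 5, 5, 5, 5, 5, 5, 5, 3, 4, 0, 1, 0, 4, 0], [5, 5, 5, 5, 5, 5, 3, 1, 0, 4],
    [2, 2, 2, 2, 2, 2, 2, 2, 2, 2, 2, 2, 2, 1, 0, 1, 0],
    [0, 1, 0, 4, 0, 4, 2, 2, 2, 2, 2, 2, 2, 2, 2], [5, 5, 5, 5, 5, 5, 0, 1, 0, 1, 0],
    [4, 0, 0], [2, 2, 2, 1, 0, 0], [0, 4, 2, 2, 2, 2, 0, 1, 0, 1],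
    [1, 3, 4, 0, 1, 0, 4, 2, 2, 2, 2, 2, 2, 2, 2, 2, 2, 2, 2, 2, 2],
    [5, 5, 5, 5, 5, 5, 5, 0, 4], [5, 5, 5, 5, 5, 5, 5, 5, 5, 5, 5, 1, 0, 4, 0, 1],
    [5, 5, 5, 3, 4, 0, 4, 0], [5, 5, 5, 5, 5, 5, 5, 5, 5, 5, 3, 4, 0, 1, 0, 4, 0, 1],
    [1, 3, 1, 0, 4, 2, 2, 2, 2, 2, 2, 2, 2, 2, 2, 0, 1], [5, 1, 3, 4, 0],
    [5, 5, 5, 5, 5, 5, 5, 5, 5, 5, 5, 5, 5], [5, 5, 5, 5, 5, 5, 5, 5, 1, 0, 1],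
    [5, 5, 5, 4, 3, 4, 0, 1, 0, 4, 0], [5, 5, 5, 5, 5, 5, 5, 5, 0, 4, 0, 4, 0],
    [4, 3, 1, 0, 4, 2, 2, 2, 2, 2, 2, 2, 2, 2, 2, 0, 1],
    [1, 0, 4, 0, 1, 0, 4, 2, 2, 2, 2, 2, 2, 2, 0, 1, 0], [5, 3, 4, 0, 1, 0, 1],
    [5, 5, 5, 5, 5, 5, 5, 5, 5, 5, 5, 5, 0, 1], [5, 5, 1, 3], [3, 1, 0, 4, 0, 4, 2, 2, 2, 2],
    [4, 3, 4, 2, 2, 2, 2, 2, 2, 0, 1, 0], [1, 0, 1, 0, 4, 2, 2, 2, 2, 2, 2, 2, 2, 2, 2, 0],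
    [5, 5, 3, 4, 0], [5, 5, 5, 5, 5, 5, 5, 5, 5, 5, 5, 5, 5, 5, 1, 0, 4],
    [5, 5, 5, 1, 3, 1, 0, 4, 0, 4], [0, 1, 0, 4, 0, 1, 0, 4, 2, 2, 2, 2, 2, 2, 2, 2, 2, 0],
    [0, 4, 2, 2, 0, 1], [0, 4, 0, 1, 0, 4, 2, 2, 2, 2, 2, 2, 2, 2, 2, 2, 2, 2, 2, 2, 0, 1],
    [0, 4, 0, 4, 2, 2, 2, 2, 2, 2, 2, 2, 2, 2, 2, 2], [5, 5, 4, 0],
    [1, 0, 4, 0, 1, 0, 4, 2, 2, 2, 2, 2, 2, 2, 2, 2], [5, 1, 3, 1, 0, 4],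
    [5, 5, 5, 5, 5, 5, 5, 5, 5, 5, 5, 5, 5, 5, 0, 1, 0, 4, 0],
    [5, 5, 5, 5, 5, 5, 5, 5, 5, 5, 5, 3, 1, 0, 1, 0],
    [3, 4, 0, 1, 0, 4, 2, 2, 2, 2, 2, 2, 2, 2, 2, 2, 0, 1, 0],
    [4, 3, 4, 2, 2, 2, 2, 2, 2, 2, 2, 0],
    [0, 4, 0, 1, 0, 4, 2, 2, 2, 2, 2, 2, 2, 2, 2, 2, 2, 2, 2, 0], [5, 5, 4, 0, 4, 0, 1, 0, 4],
    [2, 2, 2, 2, 2, 2, 2, 2, 2, 2, 2, 2, 0, 1, 0, 1], [4, 0, 4, 2, 2, 2, 2, 0, 1],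
    [4, 3, 4, 2, 2, 2, 2, 2, 2, 2, 2, 2, 2, 2, 0, 1, 0, 1],
    [1, 0, 1, 0, 4, 2, 2, 2, 2, 2, 0, 1], [5, 5, 5, 5, 5, 5, 5, 5, 5, 5, 5, 5, 5, 4, 3, 1],
    [5, 5, 5, 5, 5, 3, 1, 0], [5, 5, 5, 5, 5, 5, 5, 5, 5, 5, 5, 5, 3, 4],
    [1, 0, 4, 0, 4, 2, 2, 2, 2, 2, 2],
    [1, 0, 1, 0, 4, 2, 2, 2, 2, 2, 2, 2, 2, 2, 2, 2, 0, 1, 0], [5, 5, 5, 5, 5, 4],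
    [1, 0, 4, 2, 2, 0, 1, 0], [5, 5, 5, 0, 1, 0, 4, 0, 1, 0, 4],
    [5, 5, 5, 5, 5, 5, 5, 5, 5, 5, 5, 0, 1, 0, 4], [4, 3, 1, 0, 4, 2, 2, 0],
    [4, 2, 2, 2, 2, 2, 2, 2, 2, 2, 2, 0, 1, 0, 1], [5, 5, 5, 5, 4, 0, 1, 0, 4, 0, 1, 0],
    [5, 5, 5, 5, 5, 5, 5, 5, 1, 3, 4, 0, 1, 0, 4, 0], [5, 5, 5, 5, 5, 5, 1, 0, 4, 0],
    [5, 5, 5, 5, 5, 5, 5, 5, 5, 5, 5, 1, 0, 4, 0, 1, 0, 1],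
    [5, 5, 5, 5, 5, 5, 5, 5, 5, 5, 5, 4, 3, 4],
    [1, 3, 4, 2, 2, 2, 2, 2, 2, 2, 2, 2, 2, 2, 2, 2, 0, 1],
    [4, 3, 1, 0, 4, 0, 4, 2, 2, 2, 2, 2, 2, 2, 2, 2, 2, 2, 2, 2],
    [0, 1, 0, 4, 2, 2, 2, 2, 2, 2, 2, 2, 2, 2, 2, 0, 1, 0], [5, 5, 1],
    [0, 4, 0, 1, 0, 4, 2, 2, 2, 2, 2, 2], [3, 1, 0, 4, 2, 2, 2, 2, 2, 2, 0, 1],
    [1, 3, 2, 2, 2, 2, 2, 2, 2, 2, 1, 0],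
    [5, 5, 5, 5, 5, 5, 5, 5, 5, 5, 5, 5, 5, 3, 4, 0, 1, 0],
    [4, 3, 1, 0, 4, 2, 2, 2, 2, 2, 2, 2, 2, 2, 2, 2],
    [5, 5, 5, 5, 5, 5, 5, 5, 5, 5, 5, 5, 5, 5, 4, 3, 1, 0],
    [5, 5, 5, 5, 5, 5, 5, 5, 5, 1, 0, 4, 0, 1, 0, 4, 0, 1], [2, 2, 2, 2, 2, 2, 2, 2, 2, 0, 0],
    [3, 4, 0, 4, 2, 2, 2, 2, 2], [1, 3, 1, 0, 4, 2, 2, 2, 2, 0, 1, 0], [2, 1, 0, 1, 0],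
    [1, 3, 4, 2, 2, 2, 2, 2, 2, 2, 2], [5, 5, 1, 3, 1, 0, 4, 0, 1],
    [4, 0, 1, 0, 4, 0, 4, 2, 2, 2, 2, 2, 2], [5, 5, 5, 5, 5, 5, 5, 5, 5, 1, 0],
    [3, 4, 0, 1, 0, 4, 2, 2, 2, 2, 2, 2, 0],
    [1, 0, 4, 0, 1, 0, 4, 2, 2, 2, 2, 2, 2, 2, 2, 2, 2, 2, 2, 2, 2, 0],
    [3, 4, 0, 4, 2, 2, 2, 2, 2, 2, 2, 2, 2, 2, 2, 2, 2, 2, 0],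
    [5, 5, 5, 5, 5, 5, 5, 5, 1, 0, 1, 0, 4],
    [5, 5, 5, 5, 5, 5, 5, 5, 5, 5, 3, 1, 0, 4, 0, 1, 0, 4],
    [4, 2, 2, 2, 2, 2, 2, 2, 2, 0, 1, 0], [5, 5, 5, 5, 5, 3, 4, 0, 1],
    [0, 4, 2, 2, 2, 2, 2, 2, 2, 2, 2, 2], [5, 3, 4, 0, 1, 0, 4], [1, 3, 1, 0, 4, 2, 2, 2, 0],
    [5, 5, 5, 4, 3, 4, 0, 1], [4, 0, 4, 2, 2, 2, 2, 2, 2, 2, 2, 2, 2, 2],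
    [5, 5, 5, 5, 5, 5, 5, 5, 0, 4, 0, 1, 0, 1], [0, 4, 0, 1, 0, 4, 2, 2, 2, 0, 1, 0],
    [4, 3, 2, 2, 2, 1, 0, 1], [1, 3, 2, 2, 2, 2, 2, 2, 2, 2, 2, 2, 2, 2, 2, 2, 1],
    [5, 5, 5, 5, 5, 5, 5, 5, 5, 4, 3], [5, 5, 5, 5, 5, 5, 5, 5, 5, 5, 5, 5, 4, 0, 0],
    [0, 4, 2, 2, 2, 2, 2, 2, 2, 2, 2, 0, 1, 0],
    [5, 5, 5, 5, 5, 5, 5, 5, 5, 5, 1, 0, 1, 0, 4, 0, 4], [4, 2, 2, 2, 2, 2, 2, 2, 2, 2, 0, 1],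
    [3, 1, 0, 4, 2, 2, 2, 2, 0, 1, 0], [5, 5, 5, 0, 1, 0, 4, 0, 4],
    [5, 5, 5, 5, 5, 5, 5, 5, 5, 4, 3, 4, 0, 1, 0, 4],
    [5, 5, 5, 5, 5, 5, 5, 5, 5, 5, 5, 5, 5, 1, 3, 4, 0], [4, 0, 1, 0, 4, 2, 2, 2, 0, 1],
    [3, 1, 0, 4, 2, 2, 2, 2, 2, 2, 2, 2, 0], [3, 1, 0, 4, 2, 2, 2, 2, 2, 2, 2, 2, 2, 2, 2],
    [1, 3, 4, 0, 1, 0, 4, 2, 2, 2, 2, 2, 2, 2, 2, 2, 2, 2, 2, 2, 0, 1],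
    [3, 4, 0, 1, 0, 4, 2, 2, 2, 2, 2, 2, 2, 0, 1], [5, 1, 3, 4, 0, 4], [5, 0, 1, 0, 4, 0, 1],
    [5, 5, 5, 5, 5, 5, 5, 5, 5, 0, 4, 0], [4, 0, 4, 2, 2, 2, 2, 0, 1, 0, 1],
    [1, 0, 4, 2, 2, 2, 2, 2, 2, 0, 1], [3, 2, 2, 2, 2, 2, 2, 2, 2, 2, 2, 1], [4, 0, 4, 2, 0],
    [5, 5, 5, 5, 5, 5, 5, 5, 5, 5, 5, 4, 3, 1, 0, 4, 0, 1, 0],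
    [5, 5, 5, 5, 5, 5, 5, 5, 5, 5, 4, 0, 4, 0, 1, 0, 4, 0], [1, 3, 4, 0, 1, 0, 4, 2, 2],
    [5, 5, 5, 5, 5, 1, 3, 4, 0, 1, 0], [4, 0, 1, 0, 4, 2, 2, 2, 2],
    [3, 1, 0, 4, 0, 1, 0, 4, 2, 2, 0], [5, 5, 5, 5, 5, 5, 5, 5, 5, 5, 5, 5, 0, 1, 0],
    [5, 5, 5, 5, 5, 5, 5, 5, 5, 1, 0, 0], [5, 4, 0, 4, 0, 1, 0], [3, 2, 2, 2, 2, 2, 1, 0, 1],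
    [1, 3, 4, 2, 2, 2, 2, 2, 2, 2, 2, 2, 2, 2, 0, 1, 0, 1], [1, 3, 4, 0, 1, 0, 4, 0, 1, 0],
    [2, 2, 2, 2, 2, 2, 2, 2, 2, 2, 2, 0, 1, 0, 1, 0], [5, 5, 5, 5, 5, 4, 0, 1, 0, 4, 0],
    [2, 2, 2, 2, 2, 2, 2, 2, 2, 2, 2], [5, 5, 5, 5, 5, 5, 1, 3, 1, 0, 4],
    [4, 2, 2, 2, 2, 2, 0, 1, 0, 1], [4, 3, 1, 0, 4, 2, 2, 2, 2, 2, 0, 1],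
    [4, 3, 4, 2, 2, 2, 0], [1, 0, 4, 2, 2, 2, 2, 2, 2, 2, 2, 2, 2, 2, 2, 2, 0, 1, 0, 1],
    [5, 5, 5, 5, 5, 5, 5, 1, 3], [5, 4, 0, 4, 0, 1], [0, 1, 0, 4, 2, 2, 2, 2, 2, 2, 0, 1, 0],
    [5, 5, 5, 5, 5, 5, 5, 3, 4, 0], [5, 5, 5, 5, 5, 5, 5, 5, 5, 5, 3, 1, 0],
    [1, 3, 2, 2, 2, 1, 0], [5, 5, 5, 0, 4, 0, 1], [5, 5, 5, 5, 5, 5, 5, 5, 5, 5, 4],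
    [5, 5, 5, 5, 5, 5, 5, 5, 5, 5, 5, 5, 5, 5, 1, 0, 4, 0, 1, 0, 4, 0, 1],
    [1, 0, 4, 0, 1, 0, 4, 2, 2, 2, 2], [5, 5, 5, 4, 3, 1, 0, 4, 0],
    [5, 5, 5, 5, 5, 5, 5, 5, 5, 5, 5, 5, 5, 0, 4, 0, 4, 0],
    [3, 4, 0, 1, 0, 4, 2, 2, 2, 2, 2, 0, 1, 0], [5, 5, 5, 5, 5, 5, 5, 5, 5, 5, 5, 1, 0, 4, 0],
    [2, 2, 2, 2, 2, 2, 2, 2, 2, 2, 2, 2, 0, 1], [2, 2, 2, 2, 2, 2, 2, 0, 1, 0, 1],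
    [4, 3, 1, 0, 4, 0, 4, 2, 2, 2, 2, 2, 2, 2, 2], [1, 0, 1, 0, 4, 2, 2, 2, 2, 2, 0],
    [4, 3, 2, 2, 2, 2, 2, 2, 2, 2, 2, 2, 2, 1], [3, 1, 0, 4, 2, 0, 1],
    [0, 1, 0, 4, 0, 1, 0, 4, 2, 2, 2, 2, 0], [1, 0, 1, 0, 4, 2, 2, 2, 2, 2, 2, 0, 1, 0],
    [4, 3, 2, 2, 2, 2, 2, 2, 2, 2, 2, 2, 1, 0], [5, 5, 5, 5, 5, 5, 5, 4, 0],
    [0, 1, 0, 4, 2, 2, 2, 2, 2, 2, 2, 2, 2, 2, 2, 2, 2],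
    [5, 5, 5, 5, 5, 5, 5, 5, 4, 3, 4, 0, 1, 0, 4, 0],
    [3, 2, 2, 2, 2, 2, 2, 2, 2, 2, 2, 2, 2, 2, 1, 0, 1, 0],
    [5, 5, 5, 5, 5, 5, 5, 5, 5, 5, 5, 5, 5, 1, 3, 4, 0, 1, 0, 4, 0],
    [5, 5, 5, 5, 5, 5, 3, 4, 0, 1, 0, 1], [5, 5, 5, 5, 5, 5, 5, 4, 0, 4, 0, 1, 0, 4],
    [1, 3, 4, 2, 2, 2, 2, 2, 2, 2, 2, 0, 1], [4, 3, 4, 2, 0, 1, 0], [1, 0, 1, 0, 4, 0, 1],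
    [0, 4, 0, 1, 0, 4, 2], [5, 5, 5, 5, 5, 5, 5, 5, 1, 3, 1, 0, 4, 0, 4], [1, 0, 4, 0, 4, 2],
    [4, 3, 1, 0, 4, 2, 2, 2, 2, 2, 2], [0, 4, 0, 4, 2, 2, 2, 2, 2, 2, 2],
    [5, 5, 5, 5, 5, 5, 5, 5, 0, 1, 0, 4, 0, 1, 0, 4],
    [5, 5, 5, 5, 5, 5, 5, 5, 5, 5, 5, 5, 5, 1, 0, 1],
    [0, 1, 0, 4, 2, 2, 2, 2, 2, 2, 2, 2, 2, 2, 0],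
    [5, 5, 5, 5, 5, 5, 5, 5, 5, 4, 0, 1, 0, 4, 0, 1, 0], [1, 0, 4, 0, 1, 0, 4, 2, 2, 0, 1, 0],
    [0, 4, 0, 1, 0, 4, 2, 2, 2, 2, 2, 2, 2, 2, 0],
    [4, 3, 4, 2, 2, 2, 2, 2, 2, 2, 2, 2, 2, 2, 2, 2], [5, 3, 1, 0, 4, 0, 4],
    [4, 3, 4, 2, 2, 2, 2, 2, 2, 0, 1, 0, 1], [5, 5, 5, 5, 5, 5, 5, 1],
    [1, 0, 4, 2, 2, 2, 2, 2, 2, 2, 2, 2, 2], [3, 4, 2, 2, 2, 2, 2, 2, 2, 2, 2, 2, 2, 2],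
    [3, 4, 2, 2, 2, 2, 2, 2, 2, 2, 2, 2, 2, 0, 1, 0],
    [0, 4, 0, 1, 0, 4, 2, 2, 2, 2, 2, 2, 2, 2, 2, 0, 1], [5, 5, 5, 1, 0, 4, 0, 1, 0],
    [2, 2, 2, 0, 0], [4, 2, 2, 2, 2, 2, 2, 2, 2, 2, 2, 2, 0, 0],
    [5, 5, 5, 5, 3, 1, 0, 4, 0, 1, 0, 4, 0], [5, 5, 5, 5, 5, 5, 5, 3, 4, 0, 1, 0, 4],
    [5, 5, 4, 0, 4, 0, 1, 0, 1], [2, 2, 2, 2, 2, 2, 2, 2, 2, 2, 2, 2, 2, 2, 1, 0],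
    [1, 3, 4, 2, 2, 2, 2, 2, 2, 2, 2, 2, 2, 0], [2, 2, 2, 2, 2, 0, 1, 0, 1, 0],
    [1, 3, 2, 2, 2, 2, 2, 2, 2, 2, 1], [5, 5, 5, 5, 5, 5, 5, 5, 5, 5, 5, 1, 3, 4, 0, 1, 0],
    [5, 5, 5, 5, 5, 5, 5, 5, 5, 5, 5, 3, 4, 0, 1], [5, 5, 5, 5, 5, 5, 5, 0, 1, 0, 4, 0, 1],
    [5, 5, 5, 5, 5, 5, 5, 5, 1, 3, 1, 0, 4, 0, 1],
    [5, 5, 5, 5, 5, 5, 5, 5, 5, 0, 1, 0, 4, 0, 4], [1, 3, 4, 2, 2, 2, 2, 2, 0, 1, 0, 1],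
    [5, 5, 5, 0, 4, 0, 1, 0, 4, 0, 1, 0],
    [4, 0, 4, 0, 1, 0, 4, 2, 2, 2, 2, 2, 2, 2, 2, 2, 2, 2, 2, 2, 0],
    [3, 1, 0, 4, 0, 1, 0, 4, 2, 2, 2, 2, 2, 2, 2, 2, 2, 2, 2, 2, 2],
    [3, 4, 0, 1, 0, 4, 2, 0, 1], [5, 5, 5, 5, 5, 1, 0, 1, 0], [4, 2, 2, 2, 0, 1],
    [5, 5, 5, 5, 5, 5, 5, 4, 0, 4, 0, 1, 0], [4, 0, 4, 2, 2, 2, 2, 2],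
    [5, 5, 5, 5, 5, 4, 0, 4, 0], [3, 4, 0, 4, 2, 2, 2, 2, 2, 2, 2, 2, 0],
    [3, 1, 0, 4, 2, 2, 2, 2, 2], [5, 3, 4, 0, 4], [0, 4, 2, 2, 2, 0, 1, 0],
    [2, 2, 2, 2, 2, 2, 2, 2, 2, 2, 2, 0, 1, 0], [5, 5, 5, 1, 3, 1, 0, 4, 0], [1, 0, 4, 0, 1],
    [3, 4, 0, 1, 0, 4, 0], [5, 5, 5, 4, 0, 1, 0, 4, 0, 1],
    [5, 5, 5, 5, 5, 5, 5, 5, 5, 5, 5, 4, 0, 1, 0, 4, 0],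
    [4, 3, 2, 2, 2, 2, 2, 2, 2, 2, 2, 2, 2, 2, 2, 2], [5, 5, 4, 0, 1, 0, 4],
    [0, 4, 2, 2, 2, 2], [0, 4, 2, 2, 2, 2, 2, 2, 2, 2, 2, 2, 2, 2, 2, 2, 0],
    [4, 0, 1, 0, 4, 0, 4], [4, 3, 4, 0, 1, 0, 4, 2, 2, 2, 2, 2, 2, 2, 2, 2, 2, 2, 2, 2, 2],
    [5, 5, 5, 5, 5, 5, 1, 3, 4, 0, 1, 0, 4, 0, 1, 0], [5, 5, 5, 4, 3, 1, 0, 1],
    [5, 5, 5, 5, 1, 3, 4, 0, 1, 0, 4], [4, 2, 2, 0, 1, 0],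
    [5, 5, 5, 5, 5, 5, 5, 1, 3, 4, 0, 4], [1, 3, 4, 2, 2], [5, 5, 3, 1, 0, 4, 0, 1, 0],
    [5, 3, 1, 0, 1], [5, 5, 5, 5, 5, 5, 5, 5, 5, 5, 5, 5, 5, 5, 0, 4, 0, 1, 0, 1],
    [4, 3, 1, 0, 4, 2, 2, 2, 2, 2, 2, 2, 2, 2, 2, 2, 2, 0, 1, 0],
    [5, 5, 5, 5, 5, 5, 5, 5, 5, 5, 5, 5, 5, 5, 1, 0, 1, 0, 4],
    [1, 3, 4, 0, 1, 0, 4, 2, 2, 2, 2, 2, 2, 2, 0, 1], [5, 5, 1, 3, 1, 0, 4, 0, 1, 0],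
    [1, 0, 1, 0, 4, 0, 4, 2, 2, 2, 2, 2, 2, 2, 2, 2, 2, 2, 2, 2],
    [2, 2, 2, 2, 2, 2, 2, 2, 2, 2, 2, 2, 2, 2, 1, 0, 0],
    [5, 5, 5, 5, 5, 5, 5, 5, 5, 4, 3, 4, 0, 1], [3, 2, 2, 2, 2, 1],
    [1, 0, 4, 0, 1, 0, 4, 2, 2, 2, 2, 2, 2, 2, 2, 0], [3, 1, 0, 4, 2, 2, 0], [2, 0, 0],
    [4, 0, 4, 0, 1, 0, 4, 2, 2, 2, 2, 2, 2, 2, 2, 2, 2, 2, 0],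
    [5, 5, 5, 5, 5, 4, 0, 1, 0, 4, 0, 1],
    [0, 4, 2, 2, 2, 2, 2, 2, 2, 2, 2, 2, 2, 2, 2, 0, 1, 0, 1],
    [2, 2, 2, 2, 2, 2, 2, 2, 2, 2, 2, 2, 1, 0], [5, 5, 5, 5, 5, 5, 5, 5, 5, 4, 0, 4, 0, 1, 0],
    [0, 4, 2, 2, 2, 2, 2, 2, 2, 2, 2, 2, 2, 2, 0],
    [1, 0, 1, 0, 4, 0, 4, 2, 2, 2, 2, 2, 2, 2, 2, 2, 2, 2],
    [5, 5, 5, 5, 5, 5, 5, 5, 5, 5, 5, 5, 5, 3, 4, 0, 1], [5, 5, 5, 3, 4, 0, 4],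
    [5, 5, 5, 5, 5, 5, 1, 3, 4, 0, 1, 0, 4], [3, 1, 0, 4, 0],
    [5, 5, 5, 5, 5, 0, 4, 0, 1, 0, 4, 0, 1, 0], [5, 5, 3, 4, 0, 1, 0, 4, 0],
    [5, 5, 5, 3, 1, 0, 1], [5, 5, 5, 5, 4, 0, 4, 0, 1, 0, 1], [4, 2, 0, 1], [0, 4, 2, 2],
    [5, 5, 5, 5, 1, 3, 1, 0, 4, 0, 1, 0],
    [5, 5, 5, 5, 5, 5, 5, 5, 5, 5, 5, 5, 5, 1, 3, 4, 0, 1, 0], [3, 1, 0, 4, 2, 2, 2],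
    [5, 5, 5, 5, 5, 4, 3, 1, 0, 1], [1, 0, 4, 0, 1, 0, 4, 2, 2, 2, 2, 2, 2, 0],
    [1, 3, 4, 2, 2, 2, 0, 1, 0, 1], [5, 5, 1, 0, 4, 0, 1], [5, 5, 5, 5, 3, 1, 0, 4, 0, 1, 0],
    [5, 5, 5, 5, 5, 5, 5, 5, 5, 3, 4, 0, 1, 0, 4], [5, 5, 5, 5, 5, 5, 5, 1, 0, 1, 0],
    [5, 5, 5, 5, 4, 0, 1, 0, 4], [1, 3, 4, 0, 1, 0, 4, 2, 2, 2, 2, 2, 0, 1],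
    [1, 3, 2, 2, 2, 2, 2, 2, 1], [3, 4, 0, 4, 2, 2, 2, 2, 2, 2, 0],
    [5, 5, 5, 5, 5, 5, 5, 5, 1, 3, 4, 0, 1, 0, 4, 0, 1, 0], [3, 2, 2, 1],
    [5, 5, 5, 5, 5, 5, 5, 5, 5, 5, 5, 0, 1, 0, 4, 0, 4], [5, 5, 5, 5, 5, 1, 3, 1, 0, 4, 0],
    [1, 3, 4], [5, 5, 5, 5, 5, 5, 3, 1, 0, 4, 0, 1, 0, 4, 0], [5, 3, 4, 0, 1, 0, 4, 0, 1],
    [4, 3, 2, 2, 2, 2, 2, 2, 2, 2, 2, 2, 2, 2],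
    [1, 0, 1, 0, 4, 2, 2, 2, 2, 2, 2, 2, 2, 2, 2, 2, 2, 2], [2, 2, 2, 0, 1, 0, 1, 0],
    [5, 5, 5, 5, 5, 5, 5, 4, 0, 4, 0],
    [4, 3, 4, 0, 1, 0, 4, 2, 2, 2, 2, 2, 2, 2, 2, 2, 2, 2, 2],
    [5, 5, 5, 5, 5, 5, 5, 5, 5, 5, 5, 4, 3, 4, 0, 1],
    [5, 5, 5, 5, 5, 5, 5, 5, 5, 5, 1, 3, 1, 0, 4, 0, 1], [2, 2, 2, 2, 2, 2, 2, 2, 2, 0, 1, 0],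
    [5, 5, 5, 5, 5, 5, 5, 5, 5, 1, 3, 4, 0, 4], [4, 2, 2, 2, 2, 2, 2, 2, 2, 2, 0, 0],
    [3, 1, 0, 4, 0, 1, 0, 4, 2, 2, 2, 2, 2, 2, 2, 2, 2, 2, 2],
    [5, 5, 5, 5, 5, 5, 5, 5, 5, 5, 5, 5, 5, 4, 0, 1, 0, 4, 0],
    [4, 3, 1, 0, 4, 2, 2, 2, 2, 2, 2, 2, 2, 2, 2, 0, 1, 0],
    [1, 3, 4, 2, 2, 2, 2, 2, 2, 2, 2, 0], [4, 0, 4, 2, 2, 2], [5, 5, 4, 0, 1, 0, 4, 0, 4],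
    [2, 2, 2, 2, 2, 2, 2, 2, 2, 2, 2, 2, 1, 0, 0],
    [5, 5, 5, 5, 5, 5, 5, 5, 5, 0, 1, 0, 4, 0, 1], [0, 4, 2, 0, 1, 0], [4, 0, 1, 0],
    [5, 5, 5, 5, 0, 0], [5, 5, 5, 5, 5, 5, 5, 5, 5, 5, 4, 3, 1, 0, 1],
    [5, 5, 5, 5, 5, 5, 5, 5, 5, 5, 5, 5, 4, 0, 4, 0], [2, 2, 2, 2, 2, 2, 2, 1, 0],
    [5, 5, 5, 5, 5, 5, 5, 5, 5, 3, 1, 0, 4, 0, 1, 0], [2, 2, 2, 2, 0, 1, 0],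
    [3, 4, 2, 2, 2, 2, 2, 2, 2, 2, 2, 2, 2, 0, 1], [1, 3, 4, 0, 1, 0, 4, 0, 1],
    [4, 0, 1, 0, 4, 2, 2, 2, 2, 2, 2, 2, 2, 2, 2, 2, 0],
    [5, 5, 5, 5, 5, 5, 5, 5, 5, 5, 0, 4, 0, 1, 0, 4, 0, 1, 0], [5, 5, 5, 3, 1],
    [5, 5, 5, 5, 5, 5, 5, 4, 0, 1, 0, 4, 0, 4], [5, 5, 5, 5, 4, 0, 1],
    [5, 5, 5, 5, 5, 5, 5, 5, 5, 5, 5, 3, 1, 0, 4, 0, 1, 0, 4, 0], [5, 5, 5, 5, 5, 4, 0, 1, 0],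
    [5, 5, 3, 1, 0, 4], [5, 5, 0, 1, 0, 1, 0], [0, 4, 2, 2, 2, 2, 2, 2, 2, 2, 0, 1, 0, 1],
    [5, 5, 5, 5, 5, 5, 5, 1, 0, 4, 0, 1],
    [1, 3, 1, 0, 4, 2, 2, 2, 2, 2, 2, 2, 2, 2, 2, 2, 2, 2, 2, 0, 1],
    [1, 0, 1, 0, 4, 0, 4, 2, 2, 2, 2, 2, 2], [5, 5, 5, 5, 5, 5, 5, 5, 5, 4, 0, 1, 0, 4],
    [3, 1, 0, 4, 0, 1, 0, 4, 2, 2, 2, 2, 2, 2], [5, 5, 5, 5, 5, 3, 1, 0, 4, 0],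
    [5, 5, 5, 5, 5, 5, 5, 5, 5, 5, 5, 5, 5, 1, 3, 4, 0, 1, 0, 4, 0, 1, 0], [5, 5, 4, 0, 4],
    [5, 5, 5, 5, 5, 5, 5, 5, 5, 4, 0, 4, 0, 1, 0, 1], [5, 5, 5, 5, 5, 1, 3, 4],
    [5, 5, 5, 5, 0, 4, 0, 1, 0], [1, 3, 4, 2, 2, 2, 2, 2, 2, 2, 2, 2, 2, 2, 0, 1, 0],
    [1, 0, 1, 0, 4, 2, 2, 2, 2, 2, 2, 2, 2],
    [5, 5, 5, 5, 5, 5, 5, 5, 5, 5, 4, 0, 1, 0, 4, 0, 1], [5, 5, 1, 3, 4, 0, 1, 0, 1],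
    [4, 3, 4, 2, 2, 2, 2, 2, 2, 2, 2, 2, 2, 2, 2, 2, 0, 1], [0, 4, 2, 2, 2, 2, 2, 2, 2, 0],
    [5, 5, 5, 5, 5, 5, 5, 5, 5, 5, 5, 5, 1, 0, 1, 0], [4, 2, 2, 2, 2, 0, 0],
    [5, 5, 5, 5, 5, 5, 5, 5, 5, 5, 5, 1, 3, 4, 0, 1, 0, 4], [3, 4, 0, 4, 2, 0],
    [1, 3, 4, 2, 2, 2, 0], [5, 5, 5, 5, 5, 5, 5, 5, 3, 1, 0, 1],
    [5, 5, 5, 5, 5, 5, 5, 5, 5, 5, 1, 3, 1, 0, 4, 0],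
    [5, 5, 5, 5, 5, 5, 5, 5, 5, 5, 5, 5, 5, 5, 0, 1, 0, 4, 0, 1],
    [5, 5, 5, 5, 5, 5, 5, 5, 5, 1, 3, 1, 0, 4, 0, 1, 0], [4, 3, 2, 2, 2, 2, 2, 2, 2],
    [4, 0, 4, 0, 1, 0, 4, 2, 2, 2, 2, 2, 2, 0], [1, 0, 4, 0, 1, 0, 4, 2, 0],
    [4, 3, 4, 0, 1, 0, 4, 2, 2, 2, 2, 2, 2, 2],
    [5, 5, 5, 5, 5, 5, 5, 5, 5, 5, 5, 5, 5, 5, 4, 0, 4, 0, 1, 0],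
    [5, 5, 5, 5, 5, 5, 5, 5, 5, 5, 5, 5, 5, 5, 3, 4, 0, 1, 0, 4],
    [5, 5, 5, 5, 5, 5, 5, 5, 5, 5, 5, 5, 5, 5, 1, 3, 4, 0, 4],
    [5, 5, 5, 5, 5, 5, 5, 5, 3, 4, 0, 4], [1, 3, 2, 1],
    [4, 3, 1, 0, 4, 2, 2, 2, 2, 2, 0, 1, 0], [5, 5, 5, 5, 5, 5, 5, 3, 4, 0, 1, 0, 4, 0],
    [0, 1, 0, 4, 0, 4, 2, 2, 2, 2, 2, 2, 2, 2, 2, 2, 2, 2, 2], [2, 2, 2, 2, 2, 2, 2, 1, 0, 0],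
    [5, 5, 5, 0, 4], [5, 5, 5, 5, 5, 5, 3, 4, 0, 1, 0, 4, 0, 1],
    [5, 5, 5, 5, 5, 5, 5, 5, 5, 5, 5, 5, 5, 5],
    [4, 3, 1, 0, 4, 2, 2, 2, 2, 2, 2, 2, 2, 2, 0, 1], [5, 5, 5, 1, 3], [5, 5, 5, 3, 4, 0],
    [0, 4, 2, 0, 1], [1, 0, 4, 0, 1, 0, 4, 2, 2, 2, 2, 2, 2, 2, 2],
    [3, 4, 0, 1, 0, 4, 2, 2, 2, 2, 2, 2, 2, 2, 2, 0, 1, 0],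
    [2, 2, 2, 2, 2, 2, 2, 2, 2, 2, 2, 0, 1, 0, 1],
    [5, 5, 5, 5, 5, 5, 5, 5, 5, 5, 5, 5, 5, 5, 4, 3, 1],
    [1, 0, 1, 0, 4, 2, 2, 2, 2, 2, 2, 2, 2, 2, 2, 0, 1, 0],
    [5, 5, 5, 5, 5, 5, 5, 5, 5, 5, 5, 5, 0, 1, 0, 4],
    [5, 5, 5, 5, 5, 5, 5, 5, 5, 1, 3, 4, 0, 1, 0, 4, 0],
    [1, 3, 4, 2, 2, 2, 2, 2, 2, 2, 2, 2, 2, 2, 2, 0, 1], [0, 4, 0, 1, 0, 4, 2, 2, 2, 2, 2],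
    [4, 3, 1, 0, 4, 2, 2, 2, 2, 2, 2, 2, 2, 2, 2], [5, 5, 5, 5, 5, 5, 5, 5, 5, 1, 0, 1],
    [1, 0, 4, 0, 1, 0, 4, 2, 2, 2, 2, 2, 2, 0, 1, 0], [3, 1, 0, 4, 0, 4, 2, 2, 2],
    [1, 0, 4, 2, 2, 2, 2, 2, 2, 2, 2, 2, 2, 2, 2, 2, 2],
    [0, 4, 0, 1, 0, 4, 2, 2, 2, 2, 2, 2, 2, 2, 2, 2, 2, 2, 2, 0, 1], [5, 5, 1, 3, 1, 0, 4],
    [4, 3, 4, 2, 2, 2, 2, 2, 2, 2, 0], [4, 0, 4, 2, 2, 2, 0, 1], [5, 5, 5, 5, 5, 5, 3, 1, 0],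
    [5, 5, 5, 5, 5, 5, 4], [4, 3, 1, 0, 4, 2, 0], [5, 5, 5, 5, 5, 5, 5, 1, 0, 4, 0],
    [4, 3, 1, 0, 4, 0, 4, 2, 2, 2, 2, 2, 2, 2, 2, 2, 2, 2, 2],
    [3, 1, 0, 4, 2, 2, 2, 2, 2, 0, 1], [4, 3, 2, 2, 2, 2, 2, 2, 2, 2, 2, 2, 2, 2, 2, 2, 1, 0],
    [5, 5, 5, 5, 4, 3, 4, 0, 1, 0, 4, 0], [5, 5, 3, 4, 0, 1, 0, 1],
    [4, 3, 4, 2, 2, 2, 2, 2, 0, 1, 0], [5, 5, 5, 5, 1, 3, 1, 0, 4, 0, 4],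
    [0, 4, 0, 4, 2, 2, 2, 2, 2, 2, 2, 2, 2, 2, 2],
    [0, 1, 0, 4, 2, 2, 2, 2, 2, 2, 2, 2, 2, 2, 2, 2, 2, 2, 0],
    [0, 4, 0, 1, 0, 4, 2, 2, 2, 2, 2, 2, 2, 2, 2, 2, 2, 2, 0],
    [4, 3, 4, 2, 2, 2, 2, 2, 2, 2, 2, 2, 2, 0, 1, 0, 1],
    [5, 5, 5, 5, 5, 5, 5, 5, 5, 5, 5, 5, 5, 3, 4], [1, 0, 4, 2, 0, 1, 0],
    [4, 2, 2, 2, 2, 2, 2, 2, 2, 2, 0, 1, 0, 1],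
    [5, 5, 5, 5, 5, 5, 5, 5, 5, 5, 5, 5, 1, 0, 4, 0, 1, 0, 1],
    [0, 1, 0, 4, 2, 2, 2, 2, 2, 2, 2, 2, 2, 2, 0, 1, 0], [1, 3, 2, 2, 2, 2, 2, 2, 2, 1, 0],
    [5, 5, 5, 5, 5, 5, 5, 5, 5, 5, 1, 0, 4, 0, 1, 0, 4, 0, 1],
    [5, 5, 5, 5, 5, 5, 5, 5, 5, 0, 4, 0, 4, 0], [5, 5, 5, 5, 5, 5, 5, 5, 5, 5, 5, 5, 5, 0, 1],
    [1, 0, 1, 0, 4, 2, 2, 2, 2, 2, 2, 2, 2, 2, 0],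
    [0, 1, 0, 4, 0, 1, 0, 4, 2, 2, 2, 2, 2, 2, 2, 2, 0], [5, 5, 5, 4, 0],
    [5, 5, 5, 5, 5, 5, 5, 5, 5, 5, 5, 5, 3, 1, 0, 1, 0], [5, 5, 5, 4, 0, 4, 0, 1, 0, 4],
    [1, 0, 1, 0, 4, 2, 2, 2, 2, 0, 1], [1, 0, 4, 0, 4, 2, 2, 2, 2, 2],
    [5, 5, 5, 5, 0, 1, 0, 4, 0, 1, 0, 4], [5, 5, 5, 5, 5, 4, 0, 1, 0, 4, 0, 1, 0],
    [5, 5, 5, 5, 5, 5, 5, 5, 5, 5, 5, 5, 4, 3, 4], [5, 5, 5, 1],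
    [5, 5, 5, 5, 5, 5, 5, 5, 5, 5, 5, 5, 5, 5, 3, 4, 0, 1, 0], [0, 0],
    [2, 2, 2, 2, 2, 2, 2, 2, 2, 2, 2, 1, 0],
    [5, 5, 5, 5, 5, 5, 5, 5, 5, 5, 5, 5, 5, 5, 3, 4, 0, 1],
    [5, 5, 5, 5, 5, 5, 0, 4, 0, 1, 0, 4, 0, 1, 0], [4, 0, 1], [3, 1, 0, 4, 2, 2],
    [5, 5, 5, 1, 0, 4, 0, 1], [5, 5, 5, 5, 5, 4, 0, 1, 0, 4],
    [5, 5, 5, 5, 5, 5, 5, 5, 5, 1, 3, 4, 0, 1, 0, 4, 0, 1, 0], [5, 1, 3, 4],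
    [1, 0, 1, 0, 4, 2, 2, 2, 2, 2, 2, 2, 2, 2, 2, 2, 2],
    [5, 5, 5, 5, 5, 5, 5, 5, 5, 5, 5, 5, 4, 3, 4, 0, 1], [4, 2, 2, 2, 2, 2, 2, 2, 2, 0, 0],
    [1, 3, 4, 2, 2, 2, 2, 2, 2, 2, 0], [5, 5, 5, 5, 5, 5, 5, 5, 5, 5, 0, 1, 0, 4, 0, 1],
    [4, 0, 4, 0, 1, 0, 4, 2, 2, 2, 2, 2, 2, 2, 2, 2, 2, 0],
    [5, 5, 5, 5, 5, 5, 5, 5, 5, 5, 4, 0, 4, 0, 1, 0], [5, 5, 5, 5, 3, 4, 0, 4],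
    [5, 5, 5, 3, 4, 0, 1, 0, 4, 0], [0, 4, 2], [5, 5, 5, 5, 5, 5, 4, 3, 1, 0, 1],
    [5, 5, 5, 5, 5, 3, 1, 0, 4, 0, 1, 0], [1, 3, 4, 0, 1, 0, 4, 2, 2, 2, 2, 0, 1], [3, 2, 1],
    [5, 5, 5, 5, 5, 5, 5, 3, 1, 0, 4, 0, 1, 0, 4, 0], [2, 2, 0, 1, 0, 1, 0],
    [5, 5, 5, 5, 5, 5, 5, 5, 5, 5, 5, 1, 3, 1, 0, 4, 0, 1],
    [3, 1, 0, 4, 0, 1, 0, 4, 2, 2, 2, 2, 2, 2, 2, 2, 2, 2], [4, 0, 4, 2, 2], [0, 4, 0, 1, 0],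
    [5, 5, 5, 5, 5, 5, 4, 0, 1, 0, 4, 0, 1], [0, 4, 2, 2, 2, 2, 2, 2, 2, 2, 2, 2, 2, 0],
    [5, 5, 5, 5, 5, 5, 5, 1, 3, 4, 0, 1, 0, 4], [5, 5, 5, 5, 3, 1, 0, 1],
    [5, 5, 5, 5, 5, 1, 3, 1, 0, 4, 0, 1, 0], [1, 0, 4, 0, 1, 0, 4, 2, 2, 2, 2, 2, 0],
    [5, 5, 5, 5, 5, 5, 5, 5, 5, 5, 3, 4, 0, 1, 0, 4], [1, 3, 2, 2, 2, 2, 2, 1],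
    [5, 5, 5, 5, 5, 5, 5, 5, 5, 5, 5, 5, 0, 1, 0, 4, 0, 4], [5, 5, 3, 4, 0, 1, 0, 4, 0, 1],
    [5, 5, 5, 5, 5, 5, 5, 5, 4, 0, 4, 0], [2, 2, 2, 2, 2, 2, 2, 2, 0, 1, 0],
    [5, 5, 5, 5, 5, 5, 5, 5, 5, 5, 5, 5, 5, 5, 4, 0, 1, 0, 4, 0],
    [5, 5, 5, 4, 0, 1, 0, 4, 0, 4], [5, 4, 0, 1, 0],
    [0, 4, 2, 2, 2, 2, 2, 2, 2, 2, 2, 2, 2, 2, 0, 1, 0, 1],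
    [1, 0, 1, 0, 4, 0, 4, 2, 2, 2, 2, 2, 2, 2, 2, 2, 2], [5, 3, 1, 0, 4, 0],
    [5, 5, 5, 5, 5, 4, 0, 4, 0, 1, 0, 1],
    [5, 5, 5, 5, 5, 5, 5, 5, 5, 5, 5, 5, 5, 5, 1, 3, 4, 0, 1, 0], [1, 3, 4, 2, 2, 0, 1, 0, 1],
    [5, 5, 5, 5, 5, 5, 5, 5, 1, 0, 1, 0], [3, 4, 0, 4, 2, 2, 2, 2, 2, 0],
    [5, 5, 5, 5, 5, 5, 1, 3, 1, 0, 4, 0], [4, 3, 2, 2, 2, 2, 2, 2, 2, 2, 2, 2, 2],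
    [4, 3, 4, 0, 1, 0, 4, 2, 2, 2, 2, 2, 2, 2, 2, 2, 2, 2],
    [5, 5, 5, 5, 5, 5, 5, 5, 5, 5, 1, 3, 4, 0, 4],
    [4, 3, 1, 0, 4, 2, 2, 2, 2, 2, 2, 2, 2, 2, 0, 1, 0],
    [2, 2, 2, 2, 2, 2, 2, 2, 2, 2, 2, 1, 0, 0]]

theorem chk1 : d3481.chkInv = true := by decide +kernel
theorem chk2 : d3481.chkClosed = true := by decide +kernel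
theorem chk3 : d3481.chkSorted = true := by decide +kernel
theorem chk4 : d3481.chkFree = true := by decide +kernel
theorem chk5 : d3481.words.length = 3480 := by decide +kernel

theorem result (A : Matrix.GeneralLinearGroup (Fin 2) (ZMod 59)) (B : Matrix.GeneralLinearGroup (Fin 2) (ZMod 59)) (C : Matrix.GeneralLinearGroup (Fin 2) (ZMod 59)) (hA : (A : Matrix (Fin 2) (Fin 2) (ZMod 59)) = !![0, -1; 1, 0]) (hB : (B : Matrix (Fin 2) (Fin 2) (ZMod 59)) = !![9, 15; -10, -10]) (hC : (C : Matrix (Fin 2) (Fin 2) (ZMod 59)) = !![4, 0; 0, 4]) : Nat.card (Subgroup.closure ({A, B, C} : Set (Matrix.GeneralLinearGroup (Fin 2) (ZMod 59)))) = 3480 ∧ ∀ v w : Fin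 2 → ZMod 59, v ≠ 0 → w ≠ 0 → ∃! h : Subgroup.closure ({A, B, C} : Set (Matrix.GeneralLinearGroup (Fin 2) (ZMod 59))), Matrix.mulVec ((h : Matrix.GeneralLinearGroup (Fin 2) (ZMod 59)) : Matrix (Fin 2) (Fin 2) (ZMod 59)) v = w := by
  have hpf : Fact (Nat.Prime d3481.p) := ⟨by norm_num⟩
  have eA : (A : Matrix (Fin 2) (Fin 2) (ZMod 59)) = toM 59 ⟨0, 58, 1, 0⟩ := by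
    rw [hA]; ext i j; fin_cases i <;> fin_cases j <;> simp [toM] <;> decide
  have eB : (B : Matrix (Fin 2) (Fin 2) (ZMod 59)) = toM 59 ⟨9, 15, 49, 49⟩ := by
    rw [hB]; ext i j; fin_cases i <;> fin_cases j <;> simp [toM] <;> decide
  have eC : (C : Matrix (Fin 2) (Fin 2) (ZMod 59)) = toM 59 ⟨4, 0, 0, 4⟩ := by
    rw [hC]; ext i j; fin_cases i <;> fin_cases j <;> simp [toM]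
  have hg1 : ∀ g ∈ ({A, B, C} : Set (GL2 d3481.p)), ∃ t ∈ d3481.tg, (g : Mat2 d3481.p) = toM d3481.p t := by
    intro g hg
    simp only [Set.mem_insert_iff, Set.mem_singleton_iff] at hg
    rcases hg with rfl | rfl | rfl
    · exact ⟨_, by simp, eA⟩
    · exact ⟨_, by simp, eB⟩
    · exact ⟨_, by simp, eC⟩
  have hg2 : ∀ t ∈ d3481.tg, ∃ g ∈ ({A, B, C} : Set (GL2 d3481.p)), (g : Mat2 d3481.p) = toM d3481.p t := by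
    intro t ht
    simp only [List.mem_cons, List.not_mem_nil, or_false] at ht
    rcases ht with rfl | rfl | rfl
    · exact ⟨A, by simp, eA⟩
    · exact ⟨B, by simp, eB⟩
    · exact ⟨C, by simp, eC⟩
  constructor
  · have := card_closure d3481 _ hg1 hg2 chk1 chk2 chk3
    rw [chk5] at this
    exact this
  · exact regular d3481 _ hg1 hg2 chk1 chk2 chk3 chk4 (by rw [chk5]; rfl)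

end Cfsg.Agent.S0693
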