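import Mathlib
import Cfsg.Statements.S0694

set_option autoImplicit false
open Cfsg

namespace Cfsg.Agent.S0694

/-- Easy divisibility: if every prime factor of `n` divides `x - 1` then `n (x-1) ∣ x^n - 1`. -/
theorem easy_dvd : ∀ (n : ℕ) (x : ℤ), (∀ r : ℕ, r.Prime → r ∣ n → (r : ℤ) ∣ x - 1) →
    (n : ℤ) * (x - 1) ∣ x ^ n - 1 := by
  intro n
  induction n using Nat.recOnMul with
  | zero => intro x _; simp
  | one => intro x _; simp
  | prime p hp =>
    intro x h
    have h1 := h p hp dvd_rfl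
    have h2 : x ^ p - 1 = (∑ i ∈ Finset.range p, x ^ i) * (x - 1) := (geom_sum_mul x p).symm
    rw [h2]
    apply mul_dvd_mul_right
    have h3 : (∑ i ∈ Finset.range p, x ^ i) = (∑ i ∈ Finset.range p, (x ^ i - 1)) + p := by
      rw [Finset.sum_sub_distrib]; simp
    rw [h3]
    apply dvd_add _ dvd_rfl
    apply Finset.dvd_sum
    intro i _
    have := sub_dvd_pow_sub_pow x 1 i
    rw [one_pow] at this
    exact h1.trans this
  | mul a b iha ihb =>
    intro x h
    have ha := iha x (fun r hr hra => h r hr (hra.trans (dvd_mul_right a b)))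
    have hxa : x - 1 ∣ x ^ a - 1 := by
      have := sub_dvd_pow_sub_pow x 1 a
      rwa [one_pow] at this
    have hb := ihb (x ^ a) (fun r hr hrb => (h r hr (hrb.trans (dvd_mul_left b a))).trans hxa)
    rw [← pow_mul] at hb
    refine dvd_trans ?_ hb
    push_cast
    have : (a : ℤ) * (b : ℤ) * (x - 1) = b * (a * (x - 1)) := by ring
    rw [this]
    exact mul_dvd_mul_left _ ha

theorem modEq_iff (q N k : ℕ) : q ^ k ≡ 1 [MOD N] ↔ (N : ℤ) ∣ (q : ℤ) ^ k - 1 := by
  rw [Nat.ModEq.comm, Nat.modEq_iff_dvd]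
  push_cast
  rfl

theorem easy_modEq (q n : ℕ) (hq : 1 ≤ q) (h : ∀ r : ℕ, r.Prime → r ∣ n → r ∣ q - 1) :
    q ^ n ≡ 1 [MOD n * (q - 1)] := by
  rw [modEq_iff]
  have := easy_dvd n (q : ℤ) (fun r hr hrn => by
    have := h r hr hrn
    have h2 := Int.natCast_dvd_natCast.mpr this
    rwa [Nat.cast_sub hq, Nat.cast_one] at h2)
  rwa [Nat.cast_mul, Nat.cast_sub hq, Nat.cast_one]

/-- Decomposition of `n` into an `m`-part and a part coprime to it. -/
theorem decomp (m : ℕ) : ∀ n : ℕ, 0 < n → ∃ a b : ℕ, n = a * b ∧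
    (∀ r : ℕ, r.Prime → r ∣ a → r ∣ m) ∧ Nat.Coprime b (a * m) := by
  intro n
  induction n using Nat.strong_induction_on with
  | _ n ih =>
    intro hn
    by_cases hc : Nat.Coprime n m
    · exact ⟨1, n, by simp, fun r hr h1 => absurd (Nat.dvd_one.mp h1) hr.ne_one, by simpa using hc⟩
    · obtain ⟨r, hr, hrn, hrm⟩ := Nat.Prime.not_coprime_iff_dvd.mp hc
      obtain ⟨n', rfl⟩ := hrn
      have hn' : 0 < n' := Nat.pos_of_ne_zero (by rintro rfl; simp at hn)
      have hlt : n' < r * n' := by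
        have := hr.two_le
        nlinarith
      obtain ⟨a, b, hab, hpr, hcop⟩ := ih n' hlt hn'
      refine ⟨r * a, b, by rw [hab]; ring, ?_, ?_⟩
      · intro s hs hsra
        rcases (hs.dvd_mul).mp hsra with h | h
        · rw [(Nat.prime_dvd_prime_iff_eq hs hr).mp h]; exact hrm
        · exact hpr s hs h
      · have hbm : Nat.Coprime b m := Nat.Coprime.coprime_mul_left_right hcop
        have hbr : Nat.Coprime b r := Nat.Coprime.coprime_dvd_right hrm hbm
        rw [mul_assoc]
        exact Nat.Coprime.mul_right hbr hcop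

/-- Exactness: minimality contradiction. -/
theorem exact_val (q n r : ℕ) (hq : 1 < q) (hr : r.Prime) (hrn : r ∣ n) (hn : 0 < n)
    (hrq : r ∣ q - 1) (h4 : 4 ∣ n → 4 ∣ q - 1) (hdiv : n * (q - 1) ∣ q ^ (n / r) - 1) : False := by
  obtain ⟨k, rfl⟩ := hrn
  rw [Nat.mul_div_cancel_left _ hr.pos] at hdiv
  have hk : k ≠ 0 := by rintro rfl; simp at hn
  have hnrq : ¬ r ∣ q := by
    intro h
    have := Nat.dvd_sub h hrq
    have h1 : q - (q - 1) = 1 := by omega
    rw [h1] at this
    exact hr.ne_one (Nat.dvd_one.mp this)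
  have hqk : 1 < q ^ k := Nat.one_lt_pow hk hq
  have hne : q ^ k - 1 ≠ 0 := by omega
  have hq1 : q - 1 ≠ 0 := by omega
  haveI : Fact r.Prime := ⟨hr⟩
  have hle : padicValNat r (r * k * (q - 1)) ≤ padicValNat r (q ^ k - 1) := by
    apply (padicValNat_dvd_iff_le hne).mp
    exact pow_padicValNat_dvd.trans hdiv
  rw [padicValNat.mul (mul_ne_zero hr.ne_zero hk) hq1, padicValNat.mul hr.ne_zero hk,
    padicValNat.self hr.one_lt] at hle
  rcases hr.eq_two_or_odd' with rfl | hodd
  · by_cases hkev : Even k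
    · have h4q : 4 ∣ q - 1 := by
        apply h4
        obtain ⟨t, rfl⟩ := hkev
        exact ⟨t, by ring⟩
      have h := padicValNat.pow_two_sub_one hq hnrq hk hkev
      have hv : padicValNat 2 (q + 1) = 1 := by
        have h1 : 1 ≤ padicValNat 2 (q + 1) := by
          apply (padicValNat_dvd_iff_le (by omega)).mp
          omega
        have h2 : ¬ 2 ≤ padicValNat 2 (q + 1) := by
          intro h2
          have := (padicValNat_dvd_iff_le (p := 2) (n := 2) (a := q + 1) (by omega)).mpr h2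
          omega
        omega
      omega
    · have hkodd : Odd k := Nat.not_even_iff_odd.mp hkev
      have hqodd : Odd q := by
        rw [← Nat.not_even_iff_odd, even_iff_two_dvd]; exact hnrq
      have hS : Odd (∑ i ∈ Finset.range k, q ^ i) := by
        rw [Finset.odd_sum_iff_odd_card_odd]
        have : (Finset.range k).filter (fun i => Odd (q ^ i)) = Finset.range k := by
          apply Finset.filter_true_of_mem
          intro i _
          exact hqodd.pow
        rw [this, Finset.card_range]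
        exact hkodd
      have hgs : (∑ i ∈ Finset.range k, q ^ i) * (q - 1) = q ^ k - 1 := by
        zify [hq.le, hqk.le]
        rw [← geom_sum_mul]
      rw [← hgs] at hdiv
      have h2 : 2 * k ∣ ∑ i ∈ Finset.range k, q ^ i :=
        Nat.dvd_of_mul_dvd_mul_right (Nat.pos_of_ne_zero hq1) hdiv
      have h3 : 2 ∣ ∑ i ∈ Finset.range k, q ^ i := (dvd_mul_right 2 k).trans h2
      rw [← even_iff_two_dvd, ← Nat.not_odd_iff_even] at h3
      exact h3 hS
  · have h := padicValNat.pow_sub_pow hodd (x := q) (y := 1) hq (by simpa using hrq) hnrq hk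
    rw [one_pow] at h
    omega

/-- The Dickson pair condition: for a prime power `q` and `n > 1`, (every prime factor of `n` divides `q - 1`, and `4 ∣ n → 4 ∣ q - 1`) holds exactly when `q ^ n ≡ 1` modulo `n * (q - 1)` but `q ^ i` is not, for `0 < i < n`. -/
theorem result (q n : ℕ) (hq : IsPrimePow q) (hn : 1 < n) : ((∀ r : ℕ, r.Prime → r ∣ n → r ∣ q - 1) ∧ (4 ∣ n → 4 ∣ q - 1)) ↔ (q ^ n ≡ 1 [MOD n * (q - 1)] ∧ ∀ i : ℕ, 0 < i → i < n → ¬ q ^ i ≡ 1 [MOD n * (q - 1)]) := by
  have hq1 : 1 < q := hq.one_lt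
  have hn0 : 0 < n := by omega
  have hm0 : 0 < q - 1 := by omega
  constructor
  · rintro ⟨hA1, hA2⟩
    refine ⟨easy_modEq q n hq1.le hA1, ?_⟩
    intro i hi hin hmod
    have hmodn := easy_modEq q n hq1.le hA1
    set N := n * (q - 1) with hN
    have e1 : ((q : ZMod N)) ^ i = 1 := by
      have := (ZMod.natCast_eq_natCast_iff (q ^ i) 1 N).mpr hmod
      simpa using this
    have e2 : ((q : ZMod N)) ^ n = 1 := by
      have := (ZMod.natCast_eq_natCast_iff (q ^ n) 1 N).mpr hmodn
      simpa using this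
    have d1 := orderOf_dvd_of_pow_eq_one e1
    have d2 := orderOf_dvd_of_pow_eq_one e2
    set k := orderOf (q : ZMod N) with hk
    have hk0 : 0 < k := Nat.pos_of_dvd_of_pos d1 hi
    have hki : k ≤ i := Nat.le_of_dvd hi d1
    obtain ⟨c, hc⟩ := d2
    have hc1 : c ≠ 1 := by
      rintro rfl
      rw [mul_one] at hc
      omega
    obtain ⟨r, hr, hrc⟩ := Nat.exists_prime_and_dvd hc1
    obtain ⟨c', rfl⟩ := hrc
    have hrn : r ∣ n := ⟨k * c', by rw [hc]; ring⟩
    have hnr : n / r = k * c' := by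
      rw [hc]
      have : k * (r * c') = r * (k * c') := by ring
      rw [this, Nat.mul_div_cancel_left _ hr.pos]
    have e3 : ((q : ZMod N)) ^ (n / r) = 1 := by
      rw [hnr, pow_mul, pow_orderOf_eq_one, one_pow]
    have hmod3 : q ^ (n / r) ≡ 1 [MOD N] := by
      apply (ZMod.natCast_eq_natCast_iff (q ^ (n / r)) 1 N).mp
      simpa using e3
    have hdiv : N ∣ q ^ (n / r) - 1 := by
      have h1 : 1 ≤ q ^ (n / r) := Nat.one_le_pow _ _ (by omega)
      exact (Nat.modEq_iff_dvd' h1).mp hmod3.symm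
    exact exact_val q n r hq1 hr hrn hn0 (hA1 r hr hrn) hA2 hdiv
  · rintro ⟨hB1, hB2⟩
    -- Claim 1
    have hC1 : ∀ r : ℕ, r.Prime → r ∣ n → r ∣ q - 1 := by
      obtain ⟨a, b, hab, hpr, hcop⟩ := decomp (q - 1) n hn0
      have ha0 : 0 < a := Nat.pos_of_ne_zero (by rintro rfl; simp at hab; omega)
      have hb0 : 0 < b := Nat.pos_of_ne_zero (by rintro rfl; simp at hab; omega)
      by_cases hb1 : b = 1
      · subst hb1
        rw [mul_one] at hab
        subst hab
        exact hpr
      · exfalso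
        have hb2 : 1 < b := by omega
        have hi0 : 0 < a * b.totient := Nat.mul_pos ha0 (Nat.totient_pos.mpr hb0)
        have hilt : a * b.totient < n := by
          rw [hab]
          exact Nat.mul_lt_mul_of_pos_left (Nat.totient_lt b hb2) ha0
        apply hB2 _ hi0 hilt
        have hN : n * (q - 1) = a * (q - 1) * b := by rw [hab]; ring
        rw [hN]
        apply (Nat.modEq_and_modEq_iff_modEq_mul hcop.symm).mp
        constructor
        · have h1 := easy_modEq q a hq1.le hpr
          have := h1.pow b.totient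
          rwa [one_pow, ← pow_mul] at this
        · have hqb : Nat.Coprime q b := by
            have h1 : q ^ n ≡ 1 [MOD b] := hB1.of_dvd ⟨a * (q - 1), by rw [hab]; ring⟩
            have h2 : Nat.Coprime (q ^ n) b := by
              have := h1.gcd_eq
              rw [Nat.Coprime, this]
              simp
            exact (Nat.coprime_pow_left_iff hn0 q b).mp h2
          have h3 : Nat.Coprime (q ^ a) b := Nat.Coprime.pow_left a hqb
          have := Nat.ModEq.pow_totient h3
          rwa [← pow_mul] at this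
    refine ⟨hC1, ?_⟩
    intro h4n
    by_contra h4q
    have h2q : 2 ∣ q - 1 := hC1 2 Nat.prime_two ((by norm_num : 2 ∣ 4).trans h4n)
    have h4q1 : 4 ∣ q + 1 := by omega
    obtain ⟨n'', rfl⟩ := h4n
    have hn''0 : 0 < n'' := by omega
    apply hB2 (2 * n'') (by omega) (by omega)
    rw [modEq_iff]
    have hx : ∀ r : ℕ, r.Prime → r ∣ n'' → (r : ℤ) ∣ ((q : ℤ) ^ 2) - 1 := by
      intro r hr hrn
      have h1 := hC1 r hr (hrn.trans (dvd_mul_left n'' 4))
      have h2 := Int.natCast_dvd_natCast.mpr h1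
      rw [Nat.cast_sub hq1.le, Nat.cast_one] at h2
      exact h2.trans ⟨(q : ℤ) + 1, by ring⟩
    have h5 := easy_dvd n'' ((q : ℤ) ^ 2) hx
    rw [← pow_mul] at h5
    refine dvd_trans ?_ h5
    obtain ⟨t, ht⟩ := h4q1
    have ht' : (q : ℤ) + 1 = 4 * t := by exact_mod_cast ht
    rw [Nat.cast_mul, Nat.cast_sub hq1.le]
    push_cast
    have : (n'' : ℤ) * ((q : ℤ) ^ 2 - 1) = (4 * n'' * ((q : ℤ) - 1)) * t := by
      have : (q : ℤ) ^ 2 - 1 = ((q : ℤ) - 1) * ((q : ℤ) + 1) := by ring
      rw [this, ht']; ring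
    rw [this]
    exact dvd_mul_right _ _

end Cfsg.Agent.S0694
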