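import Cfsg.Statements.S0695
import Cfsg.Agent.Lib.Helper59.RegNormal

set_option autoImplicit false
open Cfsg

namespace Cfsg.Agent.S0695

/-- A regular normal subgroup of a doubly primitive group of finite degree at least 2 is an elementary abelian 2-group (and the degree is a power of 2), unless the degree is 3. -/
theorem result {G : Type*} [Group G] {X : Type*} [Fintype X] [MulAction G X] (hX : 2 ≤ Fintype.card X) (h2 : MulAction.IsMultiplyPreprimitive G X 2) (N : Subgroup G) [N.Normal] (htrans : MulAction.IsPretransitive N X) (hreg : ∀ x : X, MulAction.stabilizer N x = ⊥) : Fintype.card X = 3 ∨ (IsMulCommutative N ∧ (∀ n ∈ N, n ^ 2 = 1) ∧ ∃ m : ℕ, Fintype.card X = 2 ^ m) := by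
  have hX' : 2 ≤ Nat.card X := by rw [Nat.card_eq_fintype_card]; exact hX
  rcases Cfsg.Agent.Helper59.two_prim_reg hX' h2 N htrans hreg with h | h
  · left; rw [← Nat.card_eq_fintype_card]; exact h
  · right
    have hne : Nonempty X := by
      by_contra h'
      rw [not_nonempty_iff] at h'
      simp [Nat.card_of_isEmpty] at hX'
    obtain ⟨a⟩ := hne
    have hcard := Cfsg.Agent.Helper59.reg_card N hreg a
    have hN2 : ∀ x : N, x ^ 2 = 1 := fun x => Subtype.ext (by simpa using h x x.2)
    refine ⟨⟨⟨fun x y => Cfsg.Agent.Helper59.exp_two_comm hN2 x y⟩⟩, h, ?_⟩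
    have hfin : Finite N := by
      apply Nat.finite_of_card_ne_zero
      rw [hcard]; omega
    have hp : IsPGroup 2 N := fun g => ⟨1, by rw [pow_one]; exact hN2 g⟩
    have : Fact (Nat.Prime 2) := ⟨Nat.prime_two⟩
    obtain ⟨m, hm⟩ := IsPGroup.iff_card.mp hp
    exact ⟨m, by rw [← Nat.card_eq_fintype_card, ← hcard, hm]⟩

end Cfsg.Agent.S0695
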