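import Cfsg.Statements.S0697
import Cfsg.Agent.Lib.Helper12.KPrimNormal
import Mathlib

set_option autoImplicit false
open Cfsg

namespace Cfsg.Agent.S0697

open Cfsg.Agent.Helper12.Jordan

/-- In a `k`-primitive permutation group which is not the whole symmetric group, a non-trivial non-regular normal subgroup is `k`-transitive. -/
theorem result {α : Type*} [Fintype α] [DecidableEq α] (G : Subgroup (Equiv.Perm α)) {k : ℕ} (hk : 1 ≤ k) (hkn : k ≤ Fintype.card α) (hG : MulAction.IsMultiplyPreprimitive G α k) (htop : G ≠ ⊤) (H : Subgroup G) [H.Normal] (hH : H ≠ ⊥) (hnr : ∃ a : α, MulAction.stabilizer H a ≠ ⊥) : MulAction.IsMultiplyPretransitive H α k := by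
  apply kprim k hk G α (by rw [Nat.card_eq_fintype_card]; exact hkn) hG _ H inferInstance
  · obtain ⟨a, ha⟩ := hnr
    obtain ⟨h, hh, hh1⟩ : ∃ h ∈ MulAction.stabilizer H a, h ≠ 1 := by
      by_contra hcon
      push Not at hcon
      exact ha ((Subgroup.eq_bot_iff_forall _).mpr hcon)
    refine ⟨a, h.1, h.2, fun hc => hh1 (Subtype.ext hc), ?_⟩
    exact hh
  · intro hc
    exact htop (Equiv.Perm.eq_top_of_isMultiplyPretransitive hc)

end Cfsg.Agent.S0697
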