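import Cfsg.Statements.S0700
import Cfsg.Agent.Lib.Helper59.TwoTrans

set_option autoImplicit false
open Cfsg

namespace Cfsg.Agent.S0700

/-- Burnside's Theorem on doubly transitive groups: a minimal normal subgroup of a finite doubly transitive permutation group is elementary abelian and regular, or simple and primitive. -/
theorem result {α : Type*} [Fintype α] [DecidableEq α] (G : Subgroup (Equiv.Perm α)) (hG : MulAction.IsMultiplyPretransitive G α 2) (N : Subgroup G) [N.Normal] (hN : N ≠ ⊥) (hmin : ∀ M : Subgroup G, M.Normal → M ≤ N → M = ⊥ ∨ M = N) : (IsMulCommutative N ∧ (∃ p : ℕ, p.Prime ∧ ∀ n ∈ N, n ^ p = 1) ∧ ∀ a : α, MulAction.stabilizer N a = ⊥) ∨ (IsSimpleGroup N ∧ MulAction.IsPreprimitive N α) := by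
  classical
  have h2t : ∀ a b c d : α, a ≠ b → c ≠ d → ∃ g : G, g • a = c ∧ g • b = d := by
    intro a b c d hab hcd
    exact (MulAction.is_two_pretransitive_iff (G := G) (α := α)).mp hG hab hcd
  have hfaith : FaithfulSMul G α := ⟨fun {g₁ g₂} h => Subtype.ext (Equiv.ext h)⟩
  -- a nonidentity element of N
  obtain ⟨n₁, hn₁N, hn₁1⟩ : ∃ n ∈ N, n ≠ 1 := by
    by_contra h
    simp only [not_exists, not_and, not_not] at h
    exact hN ((Subgroup.eq_bot_iff_forall N).mpr h)
  obtain ⟨x₁, hx₁⟩ : ∃ x : α, n₁ • x ≠ x := by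
    by_contra h
    simp only [not_exists, not_not] at h
    apply hn₁1
    apply FaithfulSMul.eq_of_smul_eq_smul (α := α)
    intro x
    rw [h x, one_smul]
  have hX : 2 ≤ Nat.card α := by
    have : Nontrivial α := ⟨⟨n₁ • x₁, x₁, hx₁⟩⟩
    have := Finite.one_lt_card_iff_nontrivial.mpr this
    omega
  have hGprim : MulAction.IsPreprimitive G α := MulAction.isPreprimitive_of_is_two_pretransitive hG
  have hNt' : MulAction.IsPretransitive N α := by
    apply MulAction.IsQuasiPreprimitive.isPretransitive_of_normal (G := G) (X := α) (N := N)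
    intro h
    have hx : x₁ ∈ MulAction.fixedPoints N α := by rw [h]; trivial
    exact hx₁ (hx ⟨n₁, hn₁N⟩)
  have hNt : ∀ x y : α, ∃ n ∈ N, n • x = y := by
    intro x y
    obtain ⟨n, hn⟩ := hNt'.exists_smul_eq x y
    exact ⟨n.1, n.2, hn⟩
  by_cases hreg : ∀ n ∈ N, ∀ a : α, n • a = a → n = 1
  · left
    obtain ⟨hcomm, p, hp, hexp⟩ := Cfsg.Agent.Helper59.elemAb_of_regular h2t N hN hreg x₁
    refine ⟨⟨⟨fun x y => Subtype.ext (hcomm x x.2 y y.2)⟩⟩, ⟨p, hp, hexp⟩, ?_⟩
    intro a
    rw [Subgroup.eq_bot_iff_forall]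
    intro n hn
    exact Subtype.ext (hreg n n.2 a hn)
  · right
    have hnr : ∃ a : α, ∃ n ∈ N, n ≠ 1 ∧ n • a = a := by
      by_contra h
      apply hreg
      intro n hn a hna
      by_contra hn1
      exact h ⟨a, n, hn, hn1, hna⟩
    have hprim := Cfsg.Agent.Helper59.prim_of_nonregular h2t N hmin hNt hX hnr
    exact ⟨Cfsg.Agent.Helper59.simple_of_prim h2t N hN hmin hprim hnr, hprim⟩

end Cfsg.Agent.S0700
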