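import Cfsg.Statements.S0701
import Mathlib

set_option autoImplicit false
open Cfsg

namespace Cfsg.Agent.S0701

theorem result {α : Type*} (G : Subgroup (Equiv.Perm α)) [MulAction.IsPretransitive G α] : (∀ c ∈ Subgroup.centralizer (G : Set (Equiv.Perm α)), ∀ a : α, c a = a → c = 1) ∧ (MulAction.IsPretransitive (Subgroup.centralizer (G : Set (Equiv.Perm α))) α ↔ ∀ a : α, MulAction.stabilizer G a = ⊥) := by
  refine ⟨?_, ?_, ?_⟩
  · intro c hc a hca
    ext b
    obtain ⟨g, rfl⟩ := MulAction.exists_smul_eq G a b
    rw [Subgroup.mem_centralizer_iff] at hc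
    have h1 := hc g.1 g.2
    have : c (g.1 a) = g.1 (c a) := by
      have := congrArg (fun f : Equiv.Perm α => f a) h1
      simpa using this.symm
    change c (g.1 a) = g.1 a
    rw [this, hca]
  · intro hC a
    rw [Subgroup.eq_bot_iff_forall]
    intro g hg
    rw [MulAction.mem_stabilizer_iff] at hg
    apply Subtype.ext
    ext b
    obtain ⟨c, rfl⟩ := MulAction.exists_smul_eq (Subgroup.centralizer (G : Set (Equiv.Perm α))) a b
    have hc := c.2
    rw [Subgroup.mem_centralizer_iff] at hc
    have h1 := hc g.1 g.2
    have h2 : g.1 (c.1 a) = c.1 (g.1 a) := by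
      have := congrArg (fun f : Equiv.Perm α => f a) h1
      simpa using this
    change g.1 (c.1 a) = c.1 a
    rw [h2]
    congr 1
  · intro hreg
    have hbij : ∀ a : α, Function.Bijective (fun g : G => g • a) := by
      intro a
      constructor
      · intro g g' h
        have h : g • a = g' • a := h
        have : g'⁻¹ * g ∈ MulAction.stabilizer G a := by
          rw [MulAction.mem_stabilizer_iff, mul_smul, h, inv_smul_smul]
        rw [hreg a, Subgroup.mem_bot] at this
        have h3 : g' * (g'⁻¹ * g) = g' * 1 := by rw [this]
        simpa using h3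
      · intro x
        exact MulAction.exists_smul_eq G a x
    constructor
    intro a b
    let φa : G ≃ α := Equiv.ofBijective _ (hbij a)
    let φb : G ≃ α := Equiv.ofBijective _ (hbij b)
    have hφa : ∀ (h : G) (x : α), φa.symm (h • x) = h * φa.symm x := by
      intro h x
      apply φa.injective
      rw [Equiv.apply_symm_apply]
      change h • x = (h * φa.symm x) • a
      rw [mul_smul]
      congr 1
      exact (Equiv.apply_symm_apply φa x).symm
    let c : Equiv.Perm α := φa.symm.trans φb
    have hc : c ∈ Subgroup.centralizer (G : Set (Equiv.Perm α)) := by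
      rw [Subgroup.mem_centralizer_iff]
      intro h hh
      ext x
      change h (c x) = c (h x)
      have : h x = (⟨h, hh⟩ : G) • x := rfl
      rw [this]
      change h (φb (φa.symm x)) = φb (φa.symm ((⟨h, hh⟩ : G) • x))
      rw [hφa]
      change h ((φa.symm x) • b) = ((⟨h, hh⟩ : G) * φa.symm x) • b
      rw [mul_smul]
      rfl
    refine ⟨⟨c, hc⟩, ?_⟩
    change c a = b
    change φb (φa.symm a) = b
    have : φa.symm a = 1 := by
      apply φa.injective
      rw [Equiv.apply_symm_apply]
      change a = (1 : G) • a
      rw [one_smul]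
    rw [this]
    change (1 : G) • b = b
    rw [one_smul]

end Cfsg.Agent.S0701
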