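import Cfsg.Statements.S0702
import Mathlib

set_option autoImplicit false
open Cfsg

namespace Cfsg.Agent.S0702

section
variable {α : Type*} (G : Subgroup (Equiv.Perm α)) [MulAction.IsPretransitive G α] (a : α)

/-- `x ↦ (g_x * n⁻¹) • a` where `g_x • a = x`. -/
noncomputable def f (n : G) (x : α) : α :=
  (Classical.choose (MulAction.exists_smul_eq G a x) * n⁻¹) • a

theorem f_spec (n : G)
    (hn : n ∈ Subgroup.normalizer ((MulAction.stabilizer G a : Subgroup G) : Set G)) (g : G) :
    f G a n (g • a) = (g * n⁻¹) • a := by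
  unfold f
  have h := Classical.choose_spec (MulAction.exists_smul_eq G a (g • a))
  set g' := Classical.choose (MulAction.exists_smul_eq G a (g • a)) with hg'
  have hk : g⁻¹ * g' ∈ MulAction.stabilizer G a := by
    rw [MulAction.mem_stabilizer_iff, mul_smul, h, inv_smul_smul]
  have hk2 : n * (g⁻¹ * g') * n⁻¹ ∈ MulAction.stabilizer G a :=
    (Subgroup.mem_normalizer_iff.mp hn _).mp hk
  rw [MulAction.mem_stabilizer_iff] at hk2
  have : (g' * n⁻¹) • a = (g * n⁻¹) • ((n * (g⁻¹ * g') * n⁻¹) • a) := by
    rw [← mul_smul]; congr 1; group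
  rw [this, hk2]

theorem f_comm (n : G)
    (hn : n ∈ Subgroup.normalizer ((MulAction.stabilizer G a : Subgroup G) : Set G)) (h : G)
    (x : α) : f G a n (h • x) = h • f G a n x := by
  obtain ⟨g, rfl⟩ := MulAction.exists_smul_eq G a x
  rw [← mul_smul, f_spec G a n hn, f_spec G a n hn, ← mul_smul, mul_assoc]

theorem f_mul (n m : G)
    (hn : n ∈ Subgroup.normalizer ((MulAction.stabilizer G a : Subgroup G) : Set G))
    (hm : m ∈ Subgroup.normalizer ((MulAction.stabilizer G a : Subgroup G) : Set G))
    (x : α) : f G a (n * m) x = f G a n (f G a m x) := by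
  obtain ⟨g, rfl⟩ := MulAction.exists_smul_eq G a x
  rw [f_spec G a m hm, f_spec G a n hn, f_spec G a _ (Subgroup.mul_mem _ hn hm)]
  rw [mul_inv_rev, mul_assoc]

theorem f_one (x : α) : f G a 1 x = x := by
  obtain ⟨g, rfl⟩ := MulAction.exists_smul_eq G a x
  rw [f_spec G a 1 (Subgroup.one_mem _)]
  simp

/-- The permutation attached to a normalizing element. -/
noncomputable def c (n : Subgroup.normalizer ((MulAction.stabilizer G a : Subgroup G) : Set G)) :
    Equiv.Perm α where
  toFun := f G a n.1
  invFun := f G a (n.1)⁻¹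
  left_inv x := by
    rw [← f_mul G a _ _ (Subgroup.inv_mem _ n.2) n.2, inv_mul_cancel, f_one]
  right_inv x := by
    rw [← f_mul G a _ _ n.2 (Subgroup.inv_mem _ n.2), mul_inv_cancel, f_one]

theorem c_mem (n : Subgroup.normalizer ((MulAction.stabilizer G a : Subgroup G) : Set G)) :
    c G a n ∈ Subgroup.centralizer (G : Set (Equiv.Perm α)) := by
  rw [Subgroup.mem_centralizer_iff]
  intro h hh
  ext x
  change h (f G a n.1 x) = f G a n.1 (h x)
  exact (f_comm G a n.1 n.2 ⟨h, hh⟩ x).symm

/-- The homomorphism from the normalizer of the stabilizer to the centralizer. -/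
noncomputable def φ : Subgroup.normalizer ((MulAction.stabilizer G a : Subgroup G) : Set G) →*
    Subgroup.centralizer (G : Set (Equiv.Perm α)) where
  toFun n := ⟨c G a n, c_mem G a n⟩
  map_one' := by
    apply Subtype.ext
    ext x
    exact f_one G a x
  map_mul' n m := by
    apply Subtype.ext
    ext x
    exact f_mul G a n.1 m.1 n.2 m.2 x

theorem φ_apply (n : Subgroup.normalizer ((MulAction.stabilizer G a : Subgroup G) : Set G))
    (g : G) : (φ G a n).1 (g • a) = (g * n.1⁻¹) • a := f_spec G a n.1 n.2 g

theorem φ_apply_a (n : Subgroup.normalizer ((MulAction.stabilizer G a : Subgroup G) : Set G)) :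
    (φ G a n).1 a = n.1⁻¹ • a := by
  have := φ_apply G a n 1
  simpa using this

theorem φ_ker : (φ G a).ker = (MulAction.stabilizer G a).subgroupOf
    (Subgroup.normalizer ((MulAction.stabilizer G a : Subgroup G) : Set G)) := by
  ext n
  rw [MonoidHom.mem_ker, Subgroup.mem_subgroupOf, MulAction.mem_stabilizer_iff]
  constructor
  · intro h
    have h1 := φ_apply_a G a n
    rw [h] at h1
    have h2 : a = n.1⁻¹ • a := h1
    rw [eq_inv_smul_iff] at h2
    exact h2
  · intro h
    apply Subtype.ext
    ext x
    obtain ⟨g, rfl⟩ := MulAction.exists_smul_eq G a x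
    rw [φ_apply, mul_smul]
    have : n.1⁻¹ • a = a := by rw [inv_smul_eq_iff, h]
    rw [this]; rfl

variable [Finite α]

theorem exists_normalizer_of_fixed (x : α)
    (hx : x ∈ MulAction.fixedPoints (MulAction.stabilizer G a) α) :
    ∃ n : Subgroup.normalizer ((MulAction.stabilizer G a : Subgroup G) : Set G),
      n.1⁻¹ • a = x := by
  obtain ⟨h, rfl⟩ := MulAction.exists_smul_eq G a x
  have hn : h⁻¹ ∈ Subgroup.normalizer ((MulAction.stabilizer G a : Subgroup G) : Set G) := by
    apply Subgroup.mem_normalizer_fintype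
    intro k hk
    rw [SetLike.mem_coe, MulAction.mem_stabilizer_iff, inv_inv, mul_smul, mul_smul]
    have := hx ⟨k, hk⟩
    change k • h • a = h • a at this
    rw [this, inv_smul_smul]
  exact ⟨⟨h⁻¹, hn⟩, by simp⟩

theorem φ_surj : Function.Surjective (φ G a) := by
  intro cc
  have hx : cc.1 a ∈ MulAction.fixedPoints (MulAction.stabilizer G a) α := by
    intro k
    have hc := cc.2
    rw [Subgroup.mem_centralizer_iff] at hc
    have h1 := hc k.1.1 k.1.2
    have h2 := congrArg (fun f : Equiv.Perm α => f a) h1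
    simp only [Equiv.Perm.coe_mul, Function.comp_apply] at h2
    have hk : k.1.1 a = a := k.2
    rw [hk] at h2
    exact h2
  obtain ⟨n, hn⟩ := exists_normalizer_of_fixed G a _ hx
  refine ⟨n, ?_⟩
  apply Subtype.ext
  ext x
  obtain ⟨g, rfl⟩ := MulAction.exists_smul_eq G a x
  rw [φ_apply, mul_smul, hn]
  have hc := cc.2
  rw [Subgroup.mem_centralizer_iff] at hc
  have h1 := hc g.1 g.2
  have h2 := congrArg (fun f : Equiv.Perm α => f a) h1
  simp only [Equiv.Perm.coe_mul, Function.comp_apply] at h2
  exact h2

end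

theorem result {α : Type*} [Finite α] (G : Subgroup (Equiv.Perm α)) [MulAction.IsPretransitive G α] (a : α) : Nonempty (Subgroup.centralizer (G : Set (Equiv.Perm α)) ≃* Subgroup.normalizer ((MulAction.stabilizer G a : Subgroup G) : Set G) ⧸ (MulAction.stabilizer G a).subgroupOf (Subgroup.normalizer ((MulAction.stabilizer G a : Subgroup G) : Set G))) ∧ MulAction.orbit (Subgroup.centralizer (G : Set (Equiv.Perm α))) a = MulAction.fixedPoints (MulAction.stabilizer G a) α := by
  constructor
  · have e1 := QuotientGroup.quotientKerEquivOfSurjective (φ G a) (φ_surj G a)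
    have e2 := QuotientGroup.quotientMulEquivOfEq (φ_ker G a)
    exact ⟨(e2.symm.trans e1).symm⟩
  · ext x
    constructor
    · rintro ⟨cc, rfl⟩
      intro k
      have hc := cc.2
      rw [Subgroup.mem_centralizer_iff] at hc
      have h1 := hc k.1.1 k.1.2
      have h2 := congrArg (fun f : Equiv.Perm α => f a) h1
      simp only [Equiv.Perm.coe_mul, Function.comp_apply] at h2
      have hk : k.1.1 a = a := k.2
      rw [hk] at h2
      exact h2
    · intro hx
      obtain ⟨n, hn⟩ := exists_normalizer_of_fixed G a x hx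
      refine ⟨φ G a n, ?_⟩
      change (φ G a n).1 a = x
      rw [φ_apply_a, hn]

end Cfsg.Agent.S0702
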