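import Cfsg.Statements.S0703
import Cfsg.Agent.Lib.Helper12.PermCentralizer
import Mathlib

set_option autoImplicit false
open Cfsg

namespace Cfsg.Agent.S0703

open Cfsg.Agent.Helper12

theorem result {α : Type*} [Finite α] (G : Subgroup (Equiv.Perm α)) (M : Subgroup G) [M.Normal] (hM : M ≠ ⊥) (hmin : ∀ L : Subgroup G, L.Normal → L ≤ M → L = ⊥ ∨ L = M) (hab : IsMulCommutative M) (htrans : MulAction.IsPretransitive M α) : Subgroup.centralizer ((M.map G.subtype : Subgroup (Equiv.Perm α)) : Set (Equiv.Perm α)) = M.map G.subtype ∧ (∀ a : α, MulAction.stabilizer M a = ⊥) ∧ (∃ p : ℕ, p.Prime ∧ ∀ m ∈ M, m ^ p = 1) ∧ ∀ L : Subgroup G, L.Normal → L ≠ ⊥ → (∀ L' : Subgroup G, L'.Normal → L' ≤ L → L' = ⊥ ∨ L' = L) → L = M := by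
  have hcomm : ∀ x ∈ M, ∀ y ∈ M, x * y = y * x := by
    intro x hx y hy
    have := hab.is_comm.comm (⟨x, hx⟩ : M) ⟨y, hy⟩
    exact congrArg Subtype.val this
  have htr' : MulAction.IsPretransitive (permImage M) α := permImage_pretransitive M htrans
  have hcent : Subgroup.centralizer ((permImage M : Subgroup (Equiv.Perm α)) : Set _)
      = permImage M :=
    centralizer_eq_of_transitive_le (permImage M) (permImage M)
      (permImage_le_centralizer M M hcomm)
  refine ⟨hcent, ?_, ?_, ?_⟩
  · exact stabilizer_eq_bot_of_commuting_transitive M M htrans hcomm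
  · have : Finite G := inferInstance
    have hMnt : Nontrivial M := (Subgroup.nontrivial_iff_ne_bot M).mpr hM
    have hcard : Nat.card M ≠ 1 := by
      intro h
      rw [Nat.card_eq_one_iff_unique] at h
      exact not_subsingleton M h.1
    obtain ⟨p, hp, hpd⟩ := Nat.exists_prime_and_dvd hcard
    have : Fact p.Prime := ⟨hp⟩
    obtain ⟨x, hx⟩ := exists_prime_orderOf_dvd_card' p hpd
    refine ⟨p, hp, ?_⟩
    let L : Subgroup G :=
      { carrier := {g | g ∈ M ∧ g ^ p = 1}
        one_mem' := ⟨M.one_mem, one_pow p⟩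
        mul_mem' := by
          rintro a b ⟨ha, hap⟩ ⟨hb, hbp⟩
          refine ⟨M.mul_mem ha hb, ?_⟩
          have : Commute a b := hcomm a ha b hb
          rw [this.mul_pow, hap, hbp, one_mul]
        inv_mem' := by
          rintro a ⟨ha, hap⟩
          exact ⟨M.inv_mem ha, by rw [inv_pow, hap, inv_one]⟩ }
    have hLn : L.Normal := by
      constructor
      rintro n ⟨hn, hnp⟩ g
      refine ⟨‹M.Normal›.conj_mem n hn g, ?_⟩
      rw [conj_pow, hnp, mul_one, mul_inv_cancel]
    have hLM : L ≤ M := fun g hg => hg.1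
    rcases hmin L hLn hLM with h | h
    · exfalso
      have hxL : (x : G) ∈ L := by
        refine ⟨x.2, ?_⟩
        have : x ^ p = 1 := by rw [← hx]; exact pow_orderOf_eq_one x
        have := congrArg Subtype.val this
        simpa using this
      rw [h, Subgroup.mem_bot] at hxL
      have hx1 : x = 1 := Subtype.ext hxL
      rw [hx1, orderOf_one] at hx
      exact hp.one_lt.ne' hx.symm
    · intro m hm
      have : m ∈ L := by rw [h]; exact hm
      exact this.2
  · intro L hLn hL hLmin
    by_contra hne
    have := hLn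
    have hdis : Disjoint M L := minimal_normal_disjoint M L hL hmin hLmin hne
    have hc : ∀ x ∈ M, ∀ y ∈ L, x * y = y * x := fun x hx y hy =>
      Subgroup.commute_of_normal_of_disjoint M L inferInstance inferInstance hdis x y hx hy
    have h1 : permImage L ≤ permImage M := by
      rw [← hcent]
      exact permImage_le_centralizer M L hc
    rw [permImage_le_iff] at h1
    rcases hmin L hLn h1 with h | h
    · exact hL h
    · exact hne h

end Cfsg.Agent.S0703
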