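import Cfsg.Statements.S0704
import Cfsg.Agent.Lib.Helper12.PermCentralizer
import Mathlib

set_option autoImplicit false
open Cfsg

namespace Cfsg.Agent.S0704

open Cfsg.Agent.Helper12

/-- For a regular group, evaluation at a point is a bijection. -/
theorem bij_of_regular {α : Type*} {R : Type*} [Group R] [MulAction R α]
    [MulAction.IsPretransitive R α] (hreg : ∀ a : α, MulAction.stabilizer R a = ⊥) (a : α) :
    Function.Bijective (fun r : R => r • a) := by
  constructor
  · intro k k' hkk
    have hkk : k • a = k' • a := hkk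
    have : k'⁻¹ * k ∈ MulAction.stabilizer R a := by
      rw [MulAction.mem_stabilizer_iff, mul_smul, hkk, inv_smul_smul]
    rw [hreg a, Subgroup.mem_bot] at this
    have h3 : k' * (k'⁻¹ * k) = k' * 1 := by rw [this]
    simpa using h3
  · intro x
    exact MulAction.exists_smul_eq R a x

theorem iso_of_commuting_regular {α : Type*} {G : Subgroup (Equiv.Perm α)} (M N : Subgroup G)
    [MulAction.IsPretransitive M α] [MulAction.IsPretransitive N α]
    (hMreg : ∀ a : α, MulAction.stabilizer M a = ⊥)
    (hNreg : ∀ a : α, MulAction.stabilizer N a = ⊥)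
    (h : ∀ x ∈ M, ∀ y ∈ N, x * y = y * x) (a : α) : Nonempty (M ≃* N) := by
  let eM : M ≃ α := Equiv.ofBijective _ (bij_of_regular hMreg a)
  let eN : N ≃ α := Equiv.ofBijective _ (bij_of_regular hNreg a)
  let e : M ≃ N := (eM.trans eN.symm).trans (Equiv.inv N)
  have he : ∀ m : M, (e m)⁻¹ • a = m • a := by
    intro m
    change ((eN.symm (eM m))⁻¹)⁻¹ • a = m • a
    rw [inv_inv]
    exact Equiv.apply_symm_apply eN (eM m)
  have hcomm : ∀ (m : M) (n : N) (x : α), m • n • x = n • m • x := by
    intro m n x
    have := h m.1 m.2 n.1 n.2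
    have h2 := congrArg (fun g : G => g • x) this
    simp only [mul_smul] at h2
    exact h2
  refine ⟨{ e with map_mul' := ?_ }⟩
  intro m1 m2
  change e (m1 * m2) = e m1 * e m2
  apply inv_injective
  apply (bij_of_regular hNreg a).1
  change (e (m1 * m2))⁻¹ • a = (e m1 * e m2)⁻¹ • a
  rw [he, mul_inv_rev, mul_smul (e m2)⁻¹ (e m1)⁻¹ a, he m1, ← hcomm, he m2, mul_smul]

theorem result {α : Type*} (G : Subgroup (Equiv.Perm α)) (M N : Subgroup G) [M.Normal] [N.Normal] (hM : M ≠ ⊥) (hN : N ≠ ⊥) (hMmin : ∀ L : Subgroup G, L.Normal → L ≤ M → L = ⊥ ∨ L = M) (hNmin : ∀ L : Subgroup G, L.Normal → L ≤ N → L = ⊥ ∨ L = N) (hMN : M ≠ N) (hMt : MulAction.IsPretransitive M α) (hNt : MulAction.IsPretransitive N α) : (∀ a : α, MulAction.stabilizer M a = ⊥) ∧ (∀ a : α, MulAction.stabilizer N a = ⊥) ∧ ¬ IsMulCommutative M ∧ Nonempty (M ≃* N) ∧ Subgroup.centralizer ((M.map G.subtype : Subgroup (Equiv.Perm α)) : Set (Equiv.Perm α)) = N.map G.subtype ∧ Subgroup.centralizer ((N.map G.subtype : Subgroup (Equiv.Perm α)) : Set (Equiv.Perm α)) = M.map G.subtype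 ∧ ∀ L : Subgroup G, L.Normal → L ≠ ⊥ → (∀ L' : Subgroup G, L'.Normal → L' ≤ L → L' = ⊥ ∨ L' = L) → L = M ∨ L = N := by
  have hdis : Disjoint M N := minimal_normal_disjoint M N hN hMmin hNmin (Ne.symm hMN)
  have hc : ∀ x ∈ M, ∀ y ∈ N, x * y = y * x := fun x hx y hy =>
    Subgroup.commute_of_normal_of_disjoint M N inferInstance inferInstance hdis x y hx hy
  have hc' : ∀ x ∈ N, ∀ y ∈ M, x * y = y * x := fun x hx y hy => (hc y hy x hx).symm
  have hMt' : MulAction.IsPretransitive (permImage M) α := permImage_pretransitive M hMt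
  have hNt' : MulAction.IsPretransitive (permImage N) α := permImage_pretransitive N hNt
  have hcentM : Subgroup.centralizer ((permImage M : Subgroup (Equiv.Perm α)) : Set _)
      = permImage N :=
    centralizer_eq_of_transitive_le (permImage M) (permImage N)
      (permImage_le_centralizer M N hc)
  have hcentN : Subgroup.centralizer ((permImage N : Subgroup (Equiv.Perm α)) : Set _)
      = permImage M :=
    centralizer_eq_of_transitive_le (permImage N) (permImage M)
      (permImage_le_centralizer N M hc')
  have hMreg := stabilizer_eq_bot_of_commuting_transitive M N hNt hc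
  have hNreg := stabilizer_eq_bot_of_commuting_transitive N M hMt hc'
  refine ⟨hMreg, hNreg, ?_, ?_, hcentM, hcentN, ?_⟩
  · intro hab
    have hcomm : ∀ x ∈ M, ∀ y ∈ M, x * y = y * x := by
      intro x hx y hy
      have := hab.is_comm.comm (⟨x, hx⟩ : M) ⟨y, hy⟩
      exact congrArg Subtype.val this
    have h1 : permImage M ≤ permImage N := by
      rw [← hcentM]
      exact permImage_le_centralizer M M hcomm
    rw [permImage_le_iff] at h1
    rcases hNmin M inferInstance h1 with h | h
    · exact hM h
    · exact hMN h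
  · rcases isEmpty_or_nonempty α with hα | ⟨⟨a⟩⟩
    · exfalso
      apply hM
      rw [Subgroup.eq_bot_iff_forall]
      intro x _
      apply Subtype.ext
      ext y
      exact (hα.false y).elim
    · exact iso_of_commuting_regular M N hMreg hNreg hc a
  · intro L hLn hL hLmin
    by_cases hne : L = M
    · left; exact hne
    · right
      have := hLn
      have hdis' : Disjoint M L := minimal_normal_disjoint M L hL hMmin hLmin hne
      have hcL : ∀ x ∈ M, ∀ y ∈ L, x * y = y * x := fun x hx y hy =>
        Subgroup.commute_of_normal_of_disjoint M L inferInstance inferInstance hdis' x y hx hy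
      have h1 : permImage L ≤ permImage N := by
        rw [← hcentM]
        exact permImage_le_centralizer M L hcL
      rw [permImage_le_iff] at h1
      rcases hNmin L hLn h1 with h | h
      · exact absurd h hL
      · exact h

end Cfsg.Agent.S0704
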