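import Cfsg.Statements.S0705
import Mathlib

set_option autoImplicit false
open scoped Pointwise
open Cfsg

namespace Cfsg.Agent.S0705

open MulAction Equiv

variable {α : Type*} [Fintype α] [DecidableEq α]

/-- the generosity hypothesis. -/
def Generous (G : Subgroup (Perm α)) (k : ℕ) : Prop :=
  ∀ s : Finset α, s.card = k + 1 → ∀ σ : Equiv.Perm ↥s, ∃ g ∈ G, ∀ x : ↥s, g (x : α) = σ x

/-- any permutation stabilising a `(k+1)`-set is induced on it by an element of `G`. -/
theorem exists_induce (G : Subgroup (Perm α)) {k : ℕ} (hgen : Generous G k) (s : Finset α)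
    (hs : s.card = k + 1) (π : Perm α) (hπ : ∀ x, x ∈ s → π x ∈ s) :
    ∃ g ∈ G, ∀ x ∈ s, g x = π x := by
  obtain ⟨g, hgG, hg⟩ := hgen s hs (π.subtypePermOfFintype (p := fun x => x ∈ s) hπ)
  refine ⟨g, hgG, fun x hx => ?_⟩
  have := hg ⟨x, hx⟩
  rw [Perm.subtypePermOfFintype_apply] at this
  exact this

/-- any permutation stabilising a set of size at most `k+1` is induced on it. -/
theorem exists_induce' (G : Subgroup (Perm α)) {k : ℕ} (hk : k < Fintype.card α)
    (hgen : Generous G k) (s : Finset α)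
    (hs : s.card ≤ k + 1) (π : Perm α) (hπ : ∀ x, x ∈ s → π x ∈ s)
    (hπ' : ∀ x, x ∉ s → π x = x) :
    ∃ g ∈ G, ∀ x ∈ s, g x = π x := by
  obtain ⟨u, hsu, -, hu⟩ := Finset.exists_subsuperset_card_eq (Finset.subset_univ s) hs
    (by rw [Finset.card_univ]; omega)
  obtain ⟨g, hgG, hg⟩ := exists_induce G hgen u hu π (fun x hx => by
    by_cases hxs : x ∈ s
    · exact hsu (hπ x hxs)
    · rw [hπ' x hxs]; exact hx)
  exact ⟨g, hgG, fun x hx => hg x (hsu hx)⟩

theorem mt (G : Subgroup (Perm α)) {k : ℕ} (hk : k < Fintype.card α) (hgen : Generous G k) :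
    ∀ j : ℕ, j ≤ k → IsMultiplyPretransitive G α j := by
  intro j
  induction j with
  | zero => intro _; exact is_zero_pretransitive'
  | succ j ih =>
    intro hj
    have hj' := ih (by omega)
    refine ⟨fun a b => ?_⟩
    obtain ⟨g1, hg1⟩ := MulAction.exists_smul_eq G (Fin.castSuccEmb.trans a)
      (Fin.castSuccEmb.trans b)
    have hg1' : ∀ i : Fin j, (g1 : Perm α) (a i.castSucc) = b i.castSucc := by
      intro i
      have h0 := congrArg (fun f : Fin j ↪ α => f i) hg1
      exact h0

    set x : α := (g1 : Perm α) (a (Fin.last j)) with hx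
    set y : α := b (Fin.last j) with hy
    let s : Finset α := insert y ((Finset.univ : Finset (Fin (j + 1))).image fun i => (g1 : Perm α) (a i))
    have hscard : s.card ≤ k + 1 := by
      refine (Finset.card_insert_le _ _).trans ?_
      have := Finset.card_image_le (s := (Finset.univ : Finset (Fin (j + 1))))
        (f := fun i => (g1 : Perm α) (a i))
      rw [Finset.card_univ, Fintype.card_fin] at this
      omega
    have hxs : x ∈ s := Finset.mem_insert_of_mem (Finset.mem_image.mpr ⟨Fin.last j, Finset.mem_univ _, rfl⟩)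
    have hys : y ∈ s := Finset.mem_insert_self _ _
    obtain ⟨g2, hg2G, hg2⟩ := exists_induce' G hk hgen s hscard (Equiv.swap x y)
      (fun z hz => by
        by_cases hzx : z = x
        · rw [hzx, Equiv.swap_apply_left]; exact hys
        · by_cases hzy : z = y
          · rw [hzy, Equiv.swap_apply_right]; exact hxs
          · rw [Equiv.swap_apply_of_ne_of_ne hzx hzy]; exact hz)
      (fun z hz => Equiv.swap_apply_of_ne_of_ne (fun e => hz (e ▸ hxs)) (fun e => hz (e ▸ hys)))
    refine ⟨⟨g2, hg2G⟩ * g1, ?_⟩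
    ext i
    have hmem : (g1 : Perm α) (a i) ∈ s :=
      Finset.mem_insert_of_mem (Finset.mem_image.mpr ⟨i, Finset.mem_univ _, rfl⟩)
    have h1 : ((⟨g2, hg2G⟩ * g1 : G) • a) i = g2 ((g1 : Perm α) (a i)) := rfl
    rw [h1, hg2 _ hmem]
    rcases Fin.eq_castSucc_or_eq_last i with ⟨i', rfl⟩ | rfl
    · rw [hg1' i']
      apply Equiv.swap_apply_of_ne_of_ne
      · rw [hx, ← hg1' i']
        intro e
        have := a.injective ((g1 : Perm α).injective e)
        exact (Fin.castSucc_lt_last i').ne this
      · rw [hy]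
        intro e
        exact (Fin.castSucc_lt_last i').ne (b.injective e)
    · exact Equiv.swap_apply_left _ _

/-- A generously `k`-transitive permutation group (every `(k+1)`-subset has its full symmetric group induced by the setwise stabiliser) of degree greater than `k` is `k`-transitive, and for a `k`-subset the setwise and pointwise stabilisers have the same orbits outside it. -/
theorem result {α : Type*} [Fintype α] [DecidableEq α] (G : Subgroup (Equiv.Perm α)) {k : ℕ} (hk : k < Fintype.card α) (hgen : ∀ s : Finset α, s.card = k + 1 → ∀ σ : Equiv.Perm ↥s, ∃ g ∈ G, ∀ x : ↥s, g (x : α) = σ x) : MulAction.IsMultiplyPretransitive G α k ∧ ∀ s : Finset α, s.card = k → ∀ a b : α, a ∉ s → b ∉ s → (∃ g ∈ G, g • s = s ∧ g a = b) → ∃ g ∈ G, (∀ x ∈ s, g x = x) ∧ g a = b := by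
  refine ⟨mt G hk hgen k le_rfl, ?_⟩
  rintro s hs a b ha hb ⟨g, hgG, hgs, hgab⟩
  have hgs' : ∀ x, x ∈ s → g x ∈ s := by
    intro x hx
    rw [← hgs]
    exact Finset.smul_mem_smul_finset hx
  have hginv : ∀ x, x ∈ s → g⁻¹ x ∈ s := by
    intro x hx
    rw [← hgs] at hx
    obtain ⟨y, hy, rfl⟩ := Finset.mem_smul_finset.mp hx
    simpa using hy
  have hga : g⁻¹ b = a := by rw [Perm.inv_eq_iff_eq]; exact hgab.symm
  obtain ⟨h, hhG, hh⟩ := exists_induce G hgen (insert b s)
    (by rw [Finset.card_insert_of_notMem hb, hs]) (Equiv.swap b a * g⁻¹)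
    (fun z hz => by
      rw [Finset.mem_insert] at hz
      rcases hz with rfl | hz
      · rw [Perm.mul_apply, hga, Equiv.swap_apply_right]
        exact Finset.mem_insert_self _ _
      · have h1 := hginv z hz
        rw [Perm.mul_apply, Equiv.swap_apply_of_ne_of_ne (fun e => hb (by rw [← e]; exact h1))
          (fun e => ha (by rw [← e]; exact h1))]
        exact Finset.mem_insert_of_mem h1)
  refine ⟨h * g, G.mul_mem hhG hgG, fun x hx => ?_, ?_⟩
  · rw [Perm.mul_apply, hh _ (Finset.mem_insert_of_mem (hgs' x hx)), Perm.mul_apply]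
    have : g⁻¹ (g x) = x := by simp
    rw [this]
    exact Equiv.swap_apply_of_ne_of_ne (fun e => hb (e ▸ hx)) (fun e => ha (e ▸ hx))
  · rw [Perm.mul_apply, hgab, hh _ (Finset.mem_insert_self _ _), Perm.mul_apply, hga,
      Equiv.swap_apply_right]

end Cfsg.Agent.S0705
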