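import Cfsg.Statements.S0706
import Mathlib
import Cfsg.Agent.S0705

set_option autoImplicit false
open Cfsg

namespace Cfsg.Agent.S0706

open MulAction Equiv

variable {α : Type*} [Fintype α] [DecidableEq α]

/-- pointwise stabiliser of a finite set inside `G`, as a subgroup of `Perm α`. -/
def fixG (G : Subgroup (Perm α)) (Γ : Finset α) : Subgroup (Perm α) :=
  G ⊓ fixingSubgroup (Perm α) (Γ : Set α)

theorem mem_fixG {G : Subgroup (Perm α)} {Γ : Finset α} {g : Perm α} :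
    g ∈ fixG G Γ ↔ g ∈ G ∧ ∀ x ∈ Γ, g x = x := by
  simp [fixG, mem_fixingSubgroup_iff]

theorem zpow_mem_of_support {c : Perm α} {Γ : Finset α} (hc : c.support ⊆ Γ) (j : ℤ) :
    ∀ x ∈ Γ, (c ^ j) x ∈ Γ := by
  intro x hx
  by_cases hxs : x ∈ c.support
  · exact hc (Perm.zpow_apply_mem_support.mpr hxs)
  · rw [Perm.zpow_apply_eq_self_of_apply_eq_self (Perm.notMem_support.mp hxs)]
    exact hx

/-- elements of `G` acting on `Γ` as a power of `c`. -/
def cycStab (G : Subgroup (Perm α)) (Γ : Finset α) (c : Perm α) (hc : c.support ⊆ Γ) :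
    Subgroup (Perm α) where
  carrier := {g | g ∈ G ∧ ∃ j : ℤ, ∀ x ∈ Γ, g x = (c ^ j) x}
  one_mem' := ⟨G.one_mem, 0, fun x _ => by simp⟩
  mul_mem' := by
    rintro g h ⟨hg, j, hj⟩ ⟨hh, i, hi⟩
    refine ⟨G.mul_mem hg hh, j + i, fun x hx => ?_⟩
    rw [Perm.mul_apply, hi x hx, hj _ (zpow_mem_of_support hc i x hx), zpow_add, Perm.mul_apply]
  inv_mem' := by
    rintro g ⟨hg, j, hj⟩
    refine ⟨G.inv_mem hg, -j, fun x hx => ?_⟩
    rw [Perm.inv_eq_iff_eq, hj _ (zpow_mem_of_support hc (-j) x hx), ← Perm.mul_apply, ← zpow_add]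
    simp

theorem mem_cycStab {G : Subgroup (Perm α)} {Γ : Finset α} {c : Perm α} {hc : c.support ⊆ Γ}
    {g : Perm α} : g ∈ cycStab G Γ c hc ↔ g ∈ G ∧ ∃ j : ℤ, ∀ x ∈ Γ, g x = (c ^ j) x := Iff.rfl

theorem fixG_le_cycStab (G : Subgroup (Perm α)) (Γ : Finset α) (c : Perm α)
    (hc : c.support ⊆ Γ) : fixG G Γ ≤ cycStab G Γ c hc := by
  intro g hg
  rw [mem_fixG] at hg
  exact ⟨hg.1, 0, fun x hx => by rw [hg.2 x hx]; simp⟩

theorem cycStab_maps {G : Subgroup (Perm α)} {Γ : Finset α} {c : Perm α} {hc : c.support ⊆ Γ}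
    {g : Perm α} (hg : g ∈ cycStab G Γ c hc) : ∀ x ∈ Γ, g x ∈ Γ := by
  obtain ⟨-, j, hj⟩ := hg
  intro x hx
  rw [hj x hx]
  exact zpow_mem_of_support hc j x hx

theorem cycStab_fix {G : Subgroup (Perm α)} {Γ : Finset α} {c : Perm α} {hc : c.support ⊆ Γ}
    {g : Perm α} (hg : g ∈ cycStab G Γ c hc) : ∀ x ∈ Γ, x ∉ c.support → g x = x := by
  obtain ⟨-, j, hj⟩ := hg
  intro x hx hxs
  rw [hj x hx]
  exact Perm.zpow_apply_eq_self_of_apply_eq_self (Perm.notMem_support.mp hxs) j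

theorem cycStab_smul {G : Subgroup (Perm α)} {Γ : Finset α} {c : Perm α} {hc : c.support ⊆ Γ}
    {g : Perm α} (hg : g ∈ cycStab G Γ c hc) : Γ.image g = Γ := by
  apply Finset.eq_of_subset_of_card_le
  · intro y hy
    obtain ⟨x, hx, rfl⟩ := Finset.mem_image.mp hy
    exact cycStab_maps hg x hx
  · rw [Finset.card_image_of_injective _ g.injective]

theorem mem_orbit_fixingSubgroup (G : Subgroup (Perm α)) (Γ : Finset α) (a b : α) :
    b ∈ orbit (fixingSubgroup G (Γ : Set α)) a ↔ ∃ g ∈ fixG G Γ, g a = b := by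
  constructor
  · rintro ⟨⟨⟨g, hgG⟩, hgfix⟩, rfl⟩
    refine ⟨g, mem_fixG.mpr ⟨hgG, fun x hx => ?_⟩, rfl⟩
    have := (mem_fixingSubgroup_iff _).mp hgfix x (by simpa using hx)
    exact this
  · rintro ⟨g, hg, rfl⟩
    rw [mem_fixG] at hg
    refine ⟨⟨⟨g, hg.1⟩, ?_⟩, rfl⟩
    rw [mem_fixingSubgroup_iff]
    intro y hy
    exact hg.2 y (by simpa using hy)

theorem mem_orbit_subgroup (M : Subgroup (Perm α)) (a b : α) :
    b ∈ orbit ↥M a ↔ ∃ g ∈ M, g a = b := by
  constructor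
  · rintro ⟨⟨g, hg⟩, rfl⟩
    exact ⟨g, hg, rfl⟩
  · rintro ⟨g, hg, rfl⟩
    exact ⟨⟨g, hg⟩, rfl⟩

theorem orbit_eq (G : Subgroup (Perm α)) {k : ℕ} (hk : k < Fintype.card α)
    (hgen : ∀ s : Finset α, s.card = k + 1 → ∀ σ : Equiv.Perm ↥s, ∃ g ∈ G, ∀ x : ↥s, g (x : α) = σ x)
    (Γ : Finset α) (hΓ : Γ.card = k) (c : Perm α) (hc : c.support ⊆ Γ) (a : α) (ha : a ∉ Γ) :
    orbit ↥(cycStab G Γ c hc) a = orbit (fixingSubgroup G (Γ : Set α)) a := by
  ext b
  rw [mem_orbit_fixingSubgroup, mem_orbit_subgroup]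
  constructor
  · rintro ⟨g, hg, rfl⟩
    have hga : g a ∉ Γ := by
      intro h
      have h1 := cycStab_maps ((cycStab G Γ c hc).inv_mem hg) _ h
      have h2 : g⁻¹ (g a) = a := by simp
      rw [h2] at h1
      exact ha h1
    obtain ⟨g', hg'G, hg'fix, hg'a⟩ := (Cfsg.Agent.S0705.result G hk hgen).2 Γ hΓ a (g a) ha hga
      ⟨g, hg.1, by
        have := cycStab_smul hg
        ext y
        rw [Finset.mem_smul_finset]
        constructor
        · rintro ⟨x, hx, rfl⟩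
          exact cycStab_maps hg x hx
        · intro hy
          rw [← this] at hy
          obtain ⟨x, hx, rfl⟩ := Finset.mem_image.mp hy
          exact ⟨x, hx, rfl⟩, rfl⟩
    exact ⟨g', mem_fixG.mpr ⟨hg'G, hg'fix⟩, hg'a⟩
  · rintro ⟨g, hg, rfl⟩
    exact ⟨g, fixG_le_cycStab G Γ c hc hg, rfl⟩

theorem exists_fixed (M : Subgroup (Perm α)) {p : ℕ} [Fact p.Prime] (Q : Sylow p ↥M) (a : α)
    (h : ¬ p ∣ Nat.card (orbit ↥M a)) :
    ∃ y ∈ orbit ↥M a, ∀ q : ↥M, q ∈ Q → (q : Perm α) y = y := by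
  obtain ⟨⟨y, hy⟩, hfix⟩ :=
    (Q.isPGroup').nonempty_fixed_point_of_prime_not_dvd_card (orbit ↥M a) h
  refine ⟨y, hy, fun q hq => ?_⟩
  have := hfix ⟨q, hq⟩
  exact congrArg Subtype.val this

theorem card_fixG_eq (G : Subgroup (Perm α)) (Γ Γ' : Finset α) (g : Perm α) (hg : g ∈ G)
    (hmap : ∀ x ∈ Γ', g x ∈ Γ) (hcard : Γ.card ≤ Γ'.card) :
    Nat.card ↥(fixG G Γ') = Nat.card ↥(fixG G Γ) := by
  have himg : Γ'.image g = Γ := by
    apply Finset.eq_of_subset_of_card_le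
    · intro y hy
      obtain ⟨x, hx, rfl⟩ := Finset.mem_image.mp hy
      exact hmap x hx
    · rw [Finset.card_image_of_injective _ g.injective]
      exact hcard
  have hinv : ∀ y ∈ Γ, g⁻¹ y ∈ Γ' := by
    intro y hy
    rw [← himg] at hy
    obtain ⟨x, hx, rfl⟩ := Finset.mem_image.mp hy
    simpa using hx
  apply Nat.card_congr
  refine
    { toFun := fun κ => ⟨g * κ.1 * g⁻¹, ?_⟩
      invFun := fun μ => ⟨g⁻¹ * μ.1 * g, ?_⟩
      left_inv := fun κ => by apply Subtype.ext; simp [mul_assoc]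
      right_inv := fun μ => by apply Subtype.ext; simp [mul_assoc] }
  · have hκ := mem_fixG.mp κ.2
    refine mem_fixG.mpr ⟨G.mul_mem (G.mul_mem hg hκ.1) (G.inv_mem hg), fun y hy => ?_⟩
    rw [Perm.mul_apply, Perm.mul_apply, hκ.2 _ (hinv y hy)]
    simp
  · have hμ := mem_fixG.mp μ.2
    refine mem_fixG.mpr ⟨G.mul_mem (G.mul_mem (G.inv_mem hg) hμ.1) hg, fun x hx => ?_⟩
    rw [Perm.mul_apply, Perm.mul_apply, hμ.2 _ (hmap x hx)]
    simp

theorem pow_agree (x c : Perm α) (Γ : Finset α) (hc : c.support ⊆ Γ)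
    (hx : ∀ y ∈ Γ, x y = c y) (n : ℕ) : ∀ y ∈ Γ, (x ^ n) y = (c ^ n) y := by
  induction n with
  | zero => intro y _; simp
  | succ n ih =>
    intro y hy
    have hcy : c y ∈ Γ := by
      have := zpow_mem_of_support hc 1 y hy
      simpa using this
    rw [pow_succ, pow_succ, Perm.mul_apply, Perm.mul_apply, hx y hy, ih _ hcy]

theorem p_mul_card_dvd (G : Subgroup (Perm α)) (Γ : Finset α) (c : Perm α)
    (hc : c.support ⊆ Γ) {p : ℕ} [Fact p.Prime] (x : Perm α) (hxG : x ∈ G)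
    (hx : ∀ y ∈ Γ, x y = c y) (hcp : c ^ p = 1) (hc1 : ∃ y ∈ Γ, c y ≠ y) :
    p * Nat.card ↥(fixG G Γ) ∣ Nat.card ↥(cycStab G Γ c hc) := by
  set M := cycStab G Γ c hc with hM
  have hxM : x ∈ M := ⟨hxG, 1, fun y hy => by rw [hx y hy]; simp⟩
  have hnorm : ((fixG G Γ).subgroupOf M).Normal := by
    constructor
    intro κ hκ m
    rw [Subgroup.mem_subgroupOf] at hκ ⊢
    have hκ' := mem_fixG.mp hκ
    have hm := m.2
    refine mem_fixG.mpr ⟨G.mul_mem (G.mul_mem hm.1 hκ'.1) (G.inv_mem hm.1), fun y hy => ?_⟩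
    have h1 : (m⁻¹ : ↥M).1 y ∈ Γ := cycStab_maps (m⁻¹).2 y hy
    simp only [Subgroup.coe_mul, Perm.mul_apply]
    rw [hκ'.2 _ h1]
    simp
  have hcard : Nat.card ↥((fixG G Γ).subgroupOf M) = Nat.card ↥(fixG G Γ) :=
    Nat.card_congr (Subgroup.subgroupOfEquivOfLe (fixG_le_cycStab G Γ c hc)).toEquiv
  have hidx : p ∣ ((fixG G Γ).subgroupOf M).index := by
    rw [Subgroup.index_eq_card]
    have hord : orderOf (QuotientGroup.mk (s := (fixG G Γ).subgroupOf M) (⟨x, hxM⟩ : ↥M)) = p := by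
      apply orderOf_eq_prime
      · rw [← QuotientGroup.mk_pow, QuotientGroup.eq_one_iff, Subgroup.mem_subgroupOf]
        refine mem_fixG.mpr ⟨G.pow_mem hxG p, fun y hy => ?_⟩
        simp only [Subgroup.coe_pow]
        rw [pow_agree x c Γ hc hx p y hy, hcp]
        simp
      · rw [Ne, QuotientGroup.eq_one_iff, Subgroup.mem_subgroupOf]
        intro h
        obtain ⟨y, hy, hcy⟩ := hc1
        apply hcy
        rw [← hx y hy]
        exact (mem_fixG.mp h).2 y hy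
    rw [← hord]
    exact orderOf_dvd_natCard _
  have h2 := Subgroup.card_mul_index ((fixG G Γ).subgroupOf M)
  rw [hcard] at h2
  rw [← h2, mul_comm]
  exact Nat.mul_dvd_mul_left _ hidx

theorem exists_map_finset (G : Subgroup (Perm α)) (k : ℕ) (hG : IsMultiplyPretransitive G α k)
    (Γ' Γ : Finset α) (h' : Γ'.card = k) (h : Γ.card = k) : ∃ g ∈ G, ∀ x ∈ Γ', g x ∈ Γ := by
  let e' : Fin k ↪ α := (Finset.equivFinOfCardEq h').symm.toEmbedding.trans
    (Function.Embedding.subtype _)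
  let e : Fin k ↪ α := (Finset.equivFinOfCardEq h).symm.toEmbedding.trans
    (Function.Embedding.subtype _)
  obtain ⟨g, hg⟩ := MulAction.exists_smul_eq G e' e
  refine ⟨g.1, g.2, fun x hx => ?_⟩
  have h1 := congrArg (fun f : Fin k ↪ α => f (Finset.equivFinOfCardEq h' ⟨x, hx⟩)) hg
  simp only [Function.Embedding.smul_apply] at h1
  have ex' : e' (Finset.equivFinOfCardEq h' ⟨x, hx⟩) = x := by simp [e']
  rw [ex'] at h1
  have h2 : g.1 x = e (Finset.equivFinOfCardEq h' ⟨x, hx⟩) := h1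
  rw [h2]
  simp [e]

/-- In a generously `k`-transitive permutation group, for a prime `p ≤ k` and a `k`-set `Γ`, there are no `p` points outside `Γ` lying in distinct orbits of the pointwise stabiliser of `Γ` all of length prime to `p` (at most `p - 1` such orbits). -/
theorem result {α : Type*} [Fintype α] [DecidableEq α] (G : Subgroup (Equiv.Perm α)) {k : ℕ} (hk : k < Fintype.card α) (hgen : ∀ s : Finset α, s.card = k + 1 → ∀ σ : Equiv.Perm ↥s, ∃ g ∈ G, ∀ x : ↥s, g (x : α) = σ x) {p : ℕ} (hp : p.Prime) (hpk : p ≤ k) (Γ : Finset α) (hΓ : Γ.card = k) (f : Fin p → α) (hf : ∀ i, f i ∉ Γ) (hdist : ∀ i j, i ≠ j → f j ∉ MulAction.orbit (fixingSubgroup G (Γ : Set α)) (f i)) : ∃ i, p ∣ Nat.card (MulAction.orbit (fixingSubgroup G (Γ : Set α)) (f i)) := by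
  by_contra hcon
  rw [not_exists] at hcon
  have : Fact p.Prime := ⟨hp⟩
  obtain ⟨Γ₁, hΓ₁sub, hΓ₁card⟩ := Finset.exists_subset_card_eq (s := Γ) (n := p) (by omega)
  obtain ⟨c, hcyc, hcsupp⟩ := Finset.exists_cycleOn Γ₁
  have hΓ₁nt : (Γ₁ : Set α).Nontrivial := by
    rw [Finset.nontrivial_coe, ← Finset.one_lt_card_iff_nontrivial, hΓ₁card]
    exact hp.one_lt
  have hcs : c.support = Γ₁ := by
    apply Finset.Subset.antisymm hcsupp
    intro y hy
    rw [Perm.mem_support]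
    exact hcyc.apply_ne hΓ₁nt (by simpa using hy)
  have hc : c.support ⊆ Γ := hcs ▸ hΓ₁sub
  have hcp : c ^ p = 1 := by
    ext y
    by_cases hy : y ∈ Γ₁
    · have := hcyc.pow_card_apply hy
      rw [hΓ₁card] at this
      rw [this]; simp
    · rw [← hcs] at hy
      rw [Perm.pow_apply_eq_self_of_apply_eq_self (Perm.notMem_support.mp hy)]
      simp
  have hc1 : ∃ y ∈ Γ, c y ≠ y := by
    obtain ⟨y, hy⟩ := hΓ₁nt.nonempty
    exact ⟨y, hΓ₁sub (by simpa using hy), hcyc.apply_ne hΓ₁nt hy⟩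
  -- an element of `G` inducing `c` on `Γ`
  let i0 : Fin p := ⟨0, hp.pos⟩
  obtain ⟨x, hxG, hx⟩ := Cfsg.Agent.S0705.exists_induce G hgen (insert (f i0) Γ)
    (by rw [Finset.card_insert_of_notMem (hf i0), hΓ]) c (fun z hz => by
      rw [Finset.mem_insert] at hz
      rcases hz with rfl | hz
      · have : f i0 ∉ c.support := fun h => hf i0 (hc h)
        rw [Perm.notMem_support.mp this]
        exact Finset.mem_insert_self _ _
      · have := zpow_mem_of_support hc 1 z hz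
        rw [zpow_one] at this
        exact Finset.mem_insert_of_mem this)
  have hx' : ∀ y ∈ Γ, x y = c y := fun y hy => hx y (Finset.mem_insert_of_mem hy)
  have hdvd := p_mul_card_dvd G Γ c hc x hxG hx' hcp hc1
  set M := cycStab G Γ c hc with hM
  let Q : Sylow p ↥M := default
  have hfix : ∀ i, ∃ y ∈ orbit ↥M (f i), ∀ q : ↥M, q ∈ Q → (q : Perm α) y = y := fun i =>
    exists_fixed M Q (f i) (by rw [hM, orbit_eq G hk hgen Γ hΓ c hc (f i) (hf i)]; exact hcon i)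
  choose y hyorb hyfix using hfix
  have hyorb' : ∀ i, y i ∈ orbit (fixingSubgroup G (Γ : Set α)) (f i) := fun i => by
    rw [← orbit_eq G hk hgen Γ hΓ c hc (f i) (hf i)]; exact hyorb i
  have hyΓ : ∀ i, y i ∉ Γ := by
    intro i hyi
    obtain ⟨g, hg, hgy⟩ := (mem_orbit_fixingSubgroup G Γ _ _).mp (hyorb' i)
    have hg' := mem_fixG.mp hg
    have h1 : g⁻¹ (y i) = y i := by
      rw [Perm.inv_eq_iff_eq]; exact (hg'.2 _ hyi).symm
    have h2 : g⁻¹ (y i) = f i := by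
      rw [Perm.inv_eq_iff_eq]; exact hgy.symm
    rw [h1] at h2
    exact hf i (h2 ▸ hyi)
  have hyinj : Function.Injective y := by
    intro i j hij
    by_contra hne
    apply hdist i j hne
    have h1 := hyorb' i
    have h2 := hyorb' j
    rw [hij] at h1
    rw [← MulAction.orbit_eq_iff] at h1 h2
    rw [← h1, h2]
    exact MulAction.mem_orbit_self _
  let Γ' : Finset α := (Γ \ Γ₁) ∪ Finset.univ.image y
  have hΓ'card : Γ'.card = k := by
    have hdisj : Disjoint (Γ \ Γ₁) (Finset.univ.image y) := by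
      rw [Finset.disjoint_left]
      intro z hz hz'
      obtain ⟨i, -, rfl⟩ := Finset.mem_image.mp hz'
      exact hyΓ i (Finset.mem_sdiff.mp hz).1
    rw [Finset.card_union_of_disjoint hdisj, Finset.card_sdiff_of_subset hΓ₁sub,
      Finset.card_image_of_injective _ hyinj, Finset.card_univ, Fintype.card_fin, hΓ, hΓ₁card]
    omega
  have hQle : (Q : Subgroup ↥M).map M.subtype ≤ fixG G Γ' := by
    rintro _ ⟨q, hq, rfl⟩
    refine mem_fixG.mpr ⟨q.2.1, fun z hz => ?_⟩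
    rw [Finset.mem_union] at hz
    rcases hz with hz | hz
    · rw [Finset.mem_sdiff] at hz
      exact cycStab_fix q.2 z hz.1 (by rw [hcs]; exact hz.2)
    · obtain ⟨i, -, rfl⟩ := Finset.mem_image.mp hz
      exact hyfix i q hq
  obtain ⟨g, hgG, hg⟩ := exists_map_finset G k (Cfsg.Agent.S0705.mt G hk hgen k le_rfl) Γ' Γ
    hΓ'card hΓ
  have hcardeq := card_fixG_eq G Γ Γ' g hgG hg (by rw [hΓ, hΓ'card])
  have h1 : Nat.card ↥(Q : Subgroup ↥M) ∣ Nat.card ↥(fixG G Γ) := by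
    rw [← hcardeq, ← Subgroup.card_subtype M (Q : Subgroup ↥M)]
    exact Subgroup.card_dvd_of_le hQle
  rw [Sylow.card_eq_multiplicity] at h1
  have hK0 : Nat.card ↥(fixG G Γ) ≠ 0 := Nat.card_pos.ne'
  have hM0 : Nat.card ↥M ≠ 0 := Nat.card_pos.ne'
  have h2 := (hp.pow_dvd_iff_le_factorization hK0).mp h1
  have h3 : p ^ ((Nat.card ↥(fixG G Γ)).factorization p + 1) ∣ Nat.card ↥M := by
    rw [pow_succ, mul_comm]
    exact (Nat.mul_dvd_mul_left p (Nat.ordProj_dvd _ p)).trans hdvd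
  have h4 := (hp.pow_dvd_iff_le_factorization hM0).mp h3
  omega

end Cfsg.Agent.S0706
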