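import Cfsg.Statements.S0707
import Mathlib

set_option autoImplicit false
open Cfsg

namespace Cfsg.Agent.S0707

theorem result {α : Type*} (G : Subgroup (Equiv.Perm α)) [MulAction.IsPreprimitive G α] (h : ¬ (Nat.card α).Prime ∨ ∃ a : α, MulAction.stabilizer G a ≠ ⊥) {a b : α} (hab : a ≠ b) : MulAction.stabilizer G a ≠ MulAction.stabilizer G b := by
  intro heq
  have hnt : Nontrivial α := ⟨⟨a, b, hab⟩⟩
  have hK : IsCoatom (MulAction.stabilizer G a) :=
    MulAction.IsPreprimitive.isCoatom_stabilizer_of_isPreprimitive (G := G) a
  obtain ⟨g, hg⟩ := MulAction.exists_smul_eq G a b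
  have hgn : g ∈ Subgroup.normalizer ((MulAction.stabilizer G a : Subgroup G) : Set G) := by
    rw [Subgroup.mem_normalizer_iff]
    intro k
    have h1 := MulAction.stabilizer_smul_eq_stabilizer_map_conj g a
    rw [hg, ← heq] at h1
    constructor
    · intro hk
      rw [h1]
      exact ⟨k, hk, rfl⟩
    · intro hk
      rw [h1] at hk
      obtain ⟨k', hk', hkk⟩ := hk
      have : k' = k := by
        simp only [MulEquiv.toMonoidHom_eq_coe, MonoidHom.coe_coe, MulAut.conj_apply] at hkk
        have := congrArg (fun x => g⁻¹ * x * g) hkk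
        simpa [mul_assoc] using this
      rw [← this]; exact hk'
  have hgnot : g ∉ MulAction.stabilizer G a := by
    intro hga
    rw [MulAction.mem_stabilizer_iff] at hga
    exact hab (hga.symm.trans hg)
  have hlt : MulAction.stabilizer G a <
      Subgroup.normalizer ((MulAction.stabilizer G a : Subgroup G) : Set G) :=
    lt_of_le_of_ne Subgroup.le_normalizer (fun he => hgnot (he ▸ hgn))
  have htop := hK.2 _ hlt
  have hnormal : (MulAction.stabilizer G a).Normal := Subgroup.normalizer_eq_top_iff.mp htop
  have hall : ∀ x : α, MulAction.stabilizer G x = MulAction.stabilizer G a := by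
    intro x
    obtain ⟨k, rfl⟩ := MulAction.exists_smul_eq G a x
    rw [MulAction.stabilizer_smul_eq_stabilizer_map_conj]
    ext y
    constructor
    · rintro ⟨y', hy', rfl⟩
      exact hnormal.conj_mem y' hy' k
    · intro hy
      refine ⟨k⁻¹ * y * k, ?_, ?_⟩
      · have := hnormal.conj_mem y hy k⁻¹
        simpa using this
      · simp [mul_assoc]
  have hbot : MulAction.stabilizer G a = ⊥ := by
    rw [Subgroup.eq_bot_iff_forall]
    intro k hk
    apply Subtype.ext
    ext x
    have : k ∈ MulAction.stabilizer G x := by rw [hall x]; exact hk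
    exact this
  rcases h with h | ⟨c, hc⟩
  · apply h
    have hbij : Function.Bijective (fun k : G => k • a) := by
      constructor
      · intro k k' hkk
        have hkk : k • a = k' • a := hkk
        have : k'⁻¹ * k ∈ MulAction.stabilizer G a := by
          rw [MulAction.mem_stabilizer_iff, mul_smul, hkk, inv_smul_smul]
        rw [hbot, Subgroup.mem_bot] at this
        have h3 : k' * (k'⁻¹ * k) = k' * 1 := by rw [this]
        simpa using h3
      · intro x
        exact MulAction.exists_smul_eq G a x
    rw [← Nat.card_congr (Equiv.ofBijective _ hbij)]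
    rw [hbot] at hK
    have hg1 : g ≠ 1 := by
      intro h1; rw [h1, one_smul] at hg; exact hab hg
    have hz : Subgroup.zpowers g = ⊤ := by
      apply hK.2
      exact bot_lt_iff_ne_bot.mpr (Subgroup.zpowers_ne_bot.mpr hg1)
    have hcyc : IsCyclic G := ⟨⟨g, fun x => by
      have : x ∈ Subgroup.zpowers g := by rw [hz]; trivial
      exact this⟩⟩
    have hcomm : IsMulCommutative G := IsCyclic.isMulCommutative
    have hsimple : IsSimpleGroup G := by
      have : Nontrivial G := ⟨⟨g, 1, hg1⟩⟩
      refine ⟨fun H _ => ?_⟩
      by_cases hH : H = ⊥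
      · left; exact hH
      · right; exact hK.2 _ (bot_lt_iff_ne_bot.mpr hH)
    exact Group.is_simple_iff_prime_card.mp hsimple
  · apply hc
    rw [hall c, hbot]

end Cfsg.Agent.S0707
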