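import Cfsg.Statements.S0708
import Mathlib
import Cfsg.Agent.Lib.Helper95.SharpDeg

set_option autoImplicit false
open Cfsg

namespace Cfsg.Agent.S0708

open Cfsg.Agent.Helper95.SharpDeg

/-- Tits' argument: a sharply 4-transitive group (no finiteness assumed) has finite degree at most 11, and at most 6 when the degree is even. -/
theorem result {G : Type*} [Group G] {Ω : Type*} [MulAction G Ω] (h4 : MulAction.IsMultiplyPretransitive G Ω 4) (hsharp : ∀ x : Fin 4 ↪ Ω, MulAction.stabilizer G x = ⊥) (hne : Nonempty (Fin 4 ↪ Ω)) : Finite Ω ∧ Nat.card Ω ≤ 11 ∧ (Even (Nat.card Ω) → Nat.card Ω ≤ 6) := by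
  obtain ⟨x⟩ := hne
  have hs := sharp4_of h4 hsharp
  have hd : Dist4 (x 0) (x 1) (x 2) (x 3) := by
    refine ⟨?_, ?_, ?_, ?_, ?_, ?_⟩ <;> (intro h; have := x.injective h; revert this; decide)
  obtain ⟨hfin, hc⟩ := card_cases hs hd
  refine ⟨hfin, ?_, ?_⟩
  · omega
  · intro he
    rcases hc with h | h | h | h | h <;> rw [h] at he ⊢ <;> first | omega | (exfalso; revert he; decide)

end Cfsg.Agent.S0708
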