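import Cfsg.Statements.S0709
import Mathlib

set_option autoImplicit false
set_option linter.unusedSectionVars false
set_option linter.unusedVariables false
open Cfsg

namespace Cfsg.Agent.S0709

open MulAction Equiv

section Witt

variable {α : Type*} [Fintype α] [DecidableEq α] (t : ℕ) (q : ℕ → α)
  (G : Subgroup (Equiv.Perm α)) (s : ℕ → Equiv.Perm α) (H : Subgroup (Equiv.Perm α))

/-- the chain of groups `G_0 = G_{q 2} ≤ G_1 = G ≤ G_2 = ⟨G, s 2⟩ ≤ …` -/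
def Gs : ℕ → Subgroup (Equiv.Perm α)
  | 0 => G ⊓ stabilizer (Equiv.Perm α) (q 2)
  | (j + 1) => Subgroup.closure
      ((G : Set (Equiv.Perm α)) ∪ {x | ∃ i : ℕ, 2 ≤ i ∧ i ≤ j + 1 ∧ x = s i})

/-- the set `Ω_j` of points different from `q i`, `i ≥ j + 2` -/
def Om (j : ℕ) (x : α) : Prop := ∀ i, j + 2 ≤ i → i ≤ t → x ≠ q i

theorem Gs_zero : Gs q G s 0 = G ⊓ stabilizer (Equiv.Perm α) (q 2) := rfl

theorem mem_Gs_zero {g : Equiv.Perm α} : g ∈ Gs q G s 0 ↔ g ∈ G ∧ g (q 2) = q 2 := by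
  rw [Gs_zero, Subgroup.mem_inf, mem_stabilizer_iff, Equiv.Perm.smul_def]

theorem Gs_succ (j : ℕ) : Gs q G s (j + 1) = Subgroup.closure
    ((G : Set (Equiv.Perm α)) ∪ {x | ∃ i : ℕ, 2 ≤ i ∧ i ≤ j + 1 ∧ x = s i}) := rfl

theorem Gs_one : Gs q G s 1 = G := by
  rw [Gs_succ]
  have : {x : Equiv.Perm α | ∃ i : ℕ, 2 ≤ i ∧ i ≤ 0 + 1 ∧ x = s i} = ∅ := by
    ext x
    simp only [Set.mem_ofPred_eq, Set.mem_empty_iff_false, iff_false, not_exists]
    intro i hi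
    omega
  rw [this, Set.union_empty, Subgroup.closure_eq]

theorem G_le_Gs (j : ℕ) : G ≤ Gs q G s (j + 1) := by
  rw [Gs_succ]
  intro g hg
  exact Subgroup.subset_closure (Or.inl hg)

theorem Gs_mono {j k : ℕ} (h : j ≤ k) : Gs q G s j ≤ Gs q G s k := by
  rcases j with _ | j
  · rcases k with _ | k
    · exact le_rfl
    · exact le_trans inf_le_left (G_le_Gs q G s k)
  · rcases k with _ | k
    · omega
    · rw [Gs_succ, Gs_succ]
      apply Subgroup.closure_mono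
      apply Set.union_subset_union_right
      rintro x ⟨i, h1, h2, rfl⟩
      exact ⟨i, h1, by omega, rfl⟩

theorem s_mem_Gs {i j : ℕ} (h1 : 2 ≤ i) (h2 : i ≤ j) : s i ∈ Gs q G s j := by
  rcases j with _ | j
  · omega
  · rw [Gs_succ]
    exact Subgroup.subset_closure (Or.inr ⟨i, h1, h2, rfl⟩)

theorem gen_cases {j : ℕ} (hj : 1 ≤ j) {x : Equiv.Perm α}
    (hx : x ∈ (G : Set (Equiv.Perm α)) ∪ {x | ∃ i : ℕ, 2 ≤ i ∧ i ≤ j + 1 ∧ x = s i}) :
    x ∈ Gs q G s j ∨ x = s (j + 1) := by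
  rcases hx with hx | ⟨i, h1, h2, rfl⟩
  · left
    obtain ⟨k, rfl⟩ : ∃ k, j = k + 1 := ⟨j - 1, by omega⟩
    exact G_le_Gs q G s k hx
  · by_cases hi : i = j + 1
    · right; rw [hi]
    · left
      exact s_mem_Gs q G s h1 (by omega)

variable (ht : 2 ≤ t)
  (hq : ∀ i j : ℕ, 1 ≤ i → i ≤ t → 1 ≤ j → j ≤ t → q i = q j → i = j)
  (hfix : ∀ g ∈ G, ∀ i : ℕ, 3 ≤ i → i ≤ t → g (q i) = q i)
  (h2 : ∀ a b c d : α, (∀ i, 3 ≤ i → i ≤ t → a ≠ q i ∧ b ≠ q i ∧ c ≠ q i ∧ d ≠ q i) → a ≠ b →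
    c ≠ d → ∃ g ∈ G, g a = c ∧ g b = d)
  (hs1 : s 1 ∈ G) (hs1q : s 1 (q 1) = q 2 ∧ s 1 (q 2) = q 1)
  (hsq : ∀ i : ℕ, 2 ≤ i → i + 1 ≤ t → s i (q i) = q (i + 1) ∧ s i (q (i + 1)) = q i ∧
    ∀ j : ℕ, 1 ≤ j → j ≤ t → j ≠ i → j ≠ i + 1 → s i (q j) = q j)
  (hH : H = G ⊓ MulAction.stabilizer (Equiv.Perm α) (q 1) ⊓
    MulAction.stabilizer (Equiv.Perm α) (q 2))
  (hsq2 : ∀ i : ℕ, 1 ≤ i → i + 1 ≤ t → s i ^ 2 ∈ H)
  (hbraid : ∀ i : ℕ, 1 ≤ i → i + 2 ≤ t → (s i * s (i + 1)) ^ 3 ∈ H)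
  (hcomm : ∀ i j : ℕ, 1 ≤ i → i + 2 ≤ j → j + 1 ≤ t →
    (s i * s j) ^ 2 ∈ H ∧ (s j * s i) ^ 2 ∈ H)
  (hnorm : ∀ i : ℕ, 2 ≤ i → i + 1 ≤ t → ∀ g ∈ G ⊓ MulAction.stabilizer (Equiv.Perm α) (q 2),
    s i * g * (s i)⁻¹ ∈ G ⊓ MulAction.stabilizer (Equiv.Perm α) (q 2))

include hH in
theorem H_le (j : ℕ) : H ≤ Gs q G s j := by
  apply le_trans _ (Gs_mono q G s (Nat.zero_le j))
  rw [Gs_zero, hH]
  intro g hg
  exact ⟨hg.1.1, hg.2⟩

include hs1 in
theorem s_mem_Gs' {i j : ℕ} (h1 : 1 ≤ i) (h2 : i ≤ j) : s i ∈ Gs q G s j := by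
  by_cases hi : i = 1
  · subst hi
    obtain ⟨k, rfl⟩ : ∃ k, j = k + 1 := ⟨j - 1, by omega⟩
    exact G_le_Gs q G s k hs1
  · exact s_mem_Gs q G s (by omega) h2

include hq hfix h2 hs1 hs1q ht in
/-- double coset decomposition of `G` -/
theorem D1 (g : Equiv.Perm α) (hg : g ∈ G) :
    g ∈ Gs q G s 0 ∨ ∃ a ∈ Gs q G s 0, ∃ b ∈ Gs q G s 0, g = a * s 1 * b := by
  by_cases h : g (q 2) = q 2
  · left
    exact (mem_Gs_zero q G s).2 ⟨hg, h⟩
  · right
    have h12 : q 2 ≠ q 1 := by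
      intro h'
      have := hq 2 1 (by omega) ht (by omega) (by omega) h'
      omega
    obtain ⟨k, hk, hk2, hk1⟩ := h2 (q 2) (q 1) (q 2) (g (q 2)) (by
      intro i hi3 hit
      have e2 : q 2 ≠ q i := by
        intro h'
        have := hq 2 i (by omega) ht (by omega) hit h'
        omega
      have e1 : q 1 ≠ q i := by
        intro h'
        have := hq 1 i (by omega) (by omega) (by omega) hit h'
        omega
      refine ⟨e2, e1, e2, ?_⟩
      intro h'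
      rw [← hfix g hg i hi3 hit] at h'
      exact e2 (g.injective h')) h12 (Ne.symm h)
    refine ⟨k, (mem_Gs_zero q G s).2 ⟨hk, hk2⟩, (k * s 1)⁻¹ * g,
      (mem_Gs_zero q G s).2 ⟨?_, ?_⟩, ?_⟩
    · exact G.mul_mem (G.inv_mem (G.mul_mem hk hs1)) hg
    · rw [Equiv.Perm.mul_apply, Equiv.Perm.inv_eq_iff_eq, Equiv.Perm.mul_apply, hs1q.2, hk1]
    · group

theorem conj_of_sq {M : Type*} [Group M] (a b : M) :
    a * b * a⁻¹ = (a * b) ^ 2 * b⁻¹ * (a ^ 2)⁻¹ := by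
  simp only [pow_succ, pow_zero, one_mul]; group

include hH hsq2 in
theorem sq_mem {i : ℕ} (h1 : 1 ≤ i) (h2 : i + 1 ≤ t) (j : ℕ) : s i ^ 2 ∈ Gs q G s j :=
  H_le q G s H hH j (hsq2 i h1 h2)

include hfix hsq in
theorem fix_q (j : ℕ) (g : Equiv.Perm α) (hg : g ∈ Gs q G s j) (i : ℕ) (h1 : j + 2 ≤ i)
    (h2 : i ≤ t) : g (q i) = q i := by
  rcases j with _ | j
  · rw [mem_Gs_zero] at hg
    by_cases hi : i = 2
    · subst hi; exact hg.2
    · exact hfix g hg.1 i (by omega) h2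
  · have : Gs q G s (j + 1) ≤ stabilizer (Equiv.Perm α) (q i) := by
      rw [Gs_succ, Subgroup.closure_le]
      rintro x (hx | ⟨l, hl1, hl2, rfl⟩)
      · show x ∈ stabilizer (Equiv.Perm α) (q i)
        rw [mem_stabilizer_iff, Equiv.Perm.smul_def]
        exact hfix x hx i (by omega) h2
      · show s l ∈ stabilizer (Equiv.Perm α) (q i)
        rw [mem_stabilizer_iff, Equiv.Perm.smul_def]
        exact (hsq l hl1 (by omega)).2.2 i (by omega) h2 (by omega) (by omega)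
    have := this hg
    rwa [mem_stabilizer_iff, Equiv.Perm.smul_def] at this

include hq hfix h2 hs1 hs1q ht hH hsq2 hcomm hnorm in
theorem N1 (i : ℕ) (h1 : 3 ≤ i) (h2' : i + 1 ≤ t) (g : Equiv.Perm α) (hg : g ∈ G) :
    s i * g * (s i)⁻¹ ∈ G := by
  have hG0 : Gs q G s 0 ≤ G := inf_le_left
  have hn0 : ∀ a ∈ Gs q G s 0, s i * a * (s i)⁻¹ ∈ G := fun a ha =>
    hG0 (hnorm i (by omega) h2' a ha)
  rcases D1 t q G s ht hq hfix h2 hs1 hs1q g hg with h | ⟨a, ha, b, hb, rfl⟩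
  · exact hn0 g h
  · have e : s i * (a * s 1 * b) * (s i)⁻¹ = (s i * a * (s i)⁻¹) *
        ((s i * s 1) ^ 2 * (s 1)⁻¹ * (s i ^ 2)⁻¹) * (s i * b * (s i)⁻¹) := by
      simp only [pow_succ, pow_zero, one_mul]; group
    rw [e]
    have hHG : H ≤ G := by
      have := H_le q G s H hH 1
      rwa [Gs_one] at this
    refine G.mul_mem (G.mul_mem (hn0 a ha) ?_) (hn0 b hb)
    refine G.mul_mem (G.mul_mem ?_ (G.inv_mem hs1)) (G.inv_mem ?_)
    · exact hHG (hcomm 1 i (by omega) (by omega) h2').2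
    · exact hHG (hsq2 i (by omega) h2')

include hq hfix h2 hs1 hs1q ht hH hsq2 hcomm hnorm in
theorem Nrm (i j : ℕ) (h1 : 2 ≤ i) (h2' : i + 1 ≤ t) (hj : j + 2 ≤ i) (g : Equiv.Perm α)
    (hg : g ∈ Gs q G s j) : s i * g * (s i)⁻¹ ∈ Gs q G s j := by
  rcases j with _ | j
  · exact hnorm i h1 h2' g hg
  · have : Gs q G s (j + 1) ≤ (Gs q G s (j + 1)).comap (MulAut.conj (s i)).toMonoidHom := by
      conv_lhs => rw [Gs_succ]
      rw [Subgroup.closure_le]
      rintro x (hx | ⟨l, hl1, hl2, rfl⟩)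
      · show MulAut.conj (s i) x ∈ Gs q G s (j + 1)
        rw [MulAut.conj_apply]
        exact G_le_Gs q G s j
          (N1 t q G s H ht hq hfix h2 hs1 hs1q hH hsq2 hcomm hnorm i (by omega) h2' x hx)
      · show MulAut.conj (s i) (s l) ∈ Gs q G s (j + 1)
        rw [MulAut.conj_apply, conj_of_sq]
        refine Subgroup.mul_mem _ (Subgroup.mul_mem _ ?_ (Subgroup.inv_mem _ ?_))
          (Subgroup.inv_mem _ ?_)
        · exact H_le q G s H hH _ (hcomm l i (by omega) (by omega) h2').2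
        · exact s_mem_Gs q G s hl1 hl2
        · exact sq_mem t q G s H hH hsq2 (by omega) h2' _
    have := this hg
    rw [Subgroup.mem_comap] at this
    have h3 : MulAut.conj (s i) g ∈ Gs q G s (j + 1) := this
    rwa [MulAut.conj_apply] at h3

include hq hfix h2 hs1 hs1q ht hH hsq2 hcomm hnorm in
theorem Nrm' (i j : ℕ) (h1 : 2 ≤ i) (h2' : i + 1 ≤ t) (hj : j + 2 ≤ i) (g : Equiv.Perm α)
    (hg : g ∈ Gs q G s j) : (s i)⁻¹ * g * s i ∈ Gs q G s j := by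
  have e : (s i)⁻¹ * g * s i = (s i ^ 2)⁻¹ * (s i * g * (s i)⁻¹) * s i ^ 2 := by
    simp only [pow_succ, pow_zero, one_mul]; group
  rw [e]
  have hsq' := sq_mem t q G s H hH hsq2 (i := i) (by omega) h2' j
  exact Subgroup.mul_mem _ (Subgroup.mul_mem _ (Subgroup.inv_mem _ hsq')
    (Nrm t q G s H ht hq hfix h2 hs1 hs1q hH hsq2 hcomm hnorm i j h1 h2' hj g hg)) hsq'

include hq hfix h2 hs1 hs1q ht hH hsq2 hbraid hcomm hnorm in
/-- double coset decomposition `G_{j+1} = G_j ∪ G_j s_{j+1} G_j` -/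
theorem Dsucc : ∀ j, j + 2 ≤ t → ∀ g ∈ Gs q G s (j + 1),
    g ∈ Gs q G s j ∨ ∃ a ∈ Gs q G s j, ∃ b ∈ Gs q G s j, g = a * s (j + 1) * b := by
  intro j
  induction j with
  | zero =>
    intro _ g hg
    rw [Gs_one] at hg
    exact D1 t q G s ht hq hfix h2 hs1 hs1q g hg
  | succ j ih =>
    intro hj g hg
    have ih' := ih (by omega)
    set K := Gs q G s (j + 1) with hK
    set σ := s (j + 1 + 1) with hσ
    set τ := s (j + 1) with hτ
    have hK0 : Gs q G s j ≤ K := Gs_mono q G s (by omega)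
    have hσ2 : σ ^ 2 ∈ K := sq_mem t q G s H hH hsq2 (by omega) (by omega) _
    have hτK : τ ∈ K := s_mem_Gs' q G s hs1 (by omega) le_rfl
    have hbr : (τ * σ) ^ 3 ∈ K := H_le q G s H hH _ (hbraid (j + 1) (by omega) (by omega))
    have hN : ∀ a ∈ Gs q G s j, σ * a * σ⁻¹ ∈ K := fun a ha => hK0
      (Nrm t q G s H ht hq hfix h2 hs1 hs1q hH hsq2 hcomm hnorm (j + 1 + 1) j (by omega)
        (by omega) (by omega) a ha)
    have hN' : ∀ a ∈ Gs q G s j, σ⁻¹ * a * σ ∈ K := fun a ha => hK0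
      (Nrm' t q G s H ht hq hfix h2 hs1 hs1q hH hsq2 hcomm hnorm (j + 1 + 1) j (by omega)
        (by omega) (by omega) a ha)
    let S : Equiv.Perm α → Prop := fun y => y ∈ K ∨ ∃ a ∈ K, ∃ b ∈ K, y = a * σ * b
    have h_i : ∀ k ∈ K, ∀ y, S y → S (k * y) := by
      rintro k hk y (hy | ⟨a, ha, b, hb, rfl⟩)
      · exact Or.inl (K.mul_mem hk hy)
      · exact Or.inr ⟨k * a, K.mul_mem hk ha, b, hb, by group⟩
    have h_ii : ∀ y, S y → S (σ * y) := by
      rintro y (hy | ⟨a, ha, b, hb, rfl⟩)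
      · exact Or.inr ⟨1, K.one_mem, y, hy, by group⟩
      · rcases ih' a ha with ha0 | ⟨a₁, ha₁, a₂, ha₂, rfl⟩
        · left
          have e : σ * (a * σ * b) = (σ * a * σ⁻¹) * σ ^ 2 * b := by
            simp only [pow_succ, pow_zero, one_mul]; group
          rw [e]
          exact K.mul_mem (K.mul_mem (hN a ha0) hσ2) hb
        · right
          refine ⟨(σ * a₁ * σ⁻¹) * τ⁻¹, K.mul_mem (hN a₁ ha₁) (K.inv_mem hτK),
            (σ ^ 2)⁻¹ * τ⁻¹ * (τ * σ) ^ 3 * (σ⁻¹ * a₂ * σ) * b, ?_, ?_⟩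
          · exact K.mul_mem (K.mul_mem (K.mul_mem (K.mul_mem (K.inv_mem hσ2) (K.inv_mem hτK)) hbr)
              (hN' a₂ ha₂)) hb
          · simp only [pow_succ, pow_zero, one_mul]; group
    have h_iii : ∀ y, S y → S (σ⁻¹ * y) := by
      intro y hy
      have e : σ⁻¹ * y = (σ ^ 2)⁻¹ * (σ * y) := by
        simp only [pow_succ, pow_zero, one_mul]; group
      rw [e]
      exact h_i _ (K.inv_mem hσ2) _ (h_ii y hy)
    have hmain : S g := by
      rw [Gs_succ] at hg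
      induction hg using Subgroup.closure_induction_left with
      | one => exact Or.inl K.one_mem
      | mul_left x hx y hy ihy =>
        rcases gen_cases q G s (j := j + 1) (by omega) hx with hxK | rfl
        · exact h_i x hxK y ihy
        · exact h_ii y ihy
      | inv_mul_cancel x hx y hy ihy =>
        rcases gen_cases q G s (j := j + 1) (by omega) hx with hxK | rfl
        · exact h_i _ (K.inv_mem hxK) y ihy
        · exact h_iii y ihy
    exact hmain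

include hq hfix h2 hs1 hs1q ht hH hsq hsq2 hbraid hcomm hnorm in
/-- the stabiliser of `q (j+2)` in `G_{j+1}` is `G_j` -/
theorem St (j : ℕ) (hj : j + 2 ≤ t) (g : Equiv.Perm α) (hg : g ∈ Gs q G s (j + 1))
    (hfx : g (q (j + 2)) = q (j + 2)) : g ∈ Gs q G s j := by
  rcases j with _ | j
  · rw [Gs_one] at hg
    exact (mem_Gs_zero q G s).2 ⟨hg, hfx⟩
  · rcases Dsucc t q G s H ht hq hfix h2 hs1 hs1q hH hsq2 hbraid hcomm hnorm (j + 1) hj g hg
      with h | ⟨a, ha, b, hb, rfl⟩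
    · exact h
    · exfalso
      have hb' := fix_q t q G s hfix hsq (j + 1) b hb (j + 1 + 2) le_rfl hj
      have ha' := fix_q t q G s hfix hsq (j + 1) a ha (j + 1 + 2) le_rfl hj
      have hs' := (hsq (j + 1 + 1) (by omega) hj).2.1
      rw [Equiv.Perm.mul_apply, Equiv.Perm.mul_apply, hb', hs'] at hfx
      rw [← ha'] at hfx
      have := hq _ _ (by omega) (by omega) (by omega) hj (a.injective hfx)
      omega

theorem Om_pred {j : ℕ} {x : α} (h : Om t q (j + 1) x) (hx : x ≠ q (j + 2)) : Om t q j x := by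
  intro i hi hit
  by_cases h' : i = j + 2
  · rw [h']; exact hx
  · exact h i (by omega) hit

include hfix hsq in
theorem Om_smul {j : ℕ} {g : Equiv.Perm α} (hg : g ∈ Gs q G s j) {x : α} (h : Om t q j x) :
    Om t q j (g x) := by
  intro i hi hit h'
  rw [← fix_q t q G s hfix hsq j g hg i hi hit] at h'
  exact h i hi hit (g.injective h')

include hq in
theorem Om_q {j i : ℕ} (h1 : 1 ≤ i) (h2' : i ≤ j + 1) : Om t q j (q i) := by
  intro i' hi' hit h'
  have := hq i i' h1 (by omega) (by omega) hit h'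
  omega

include hq hfix h2 hs1 hsq ht in
/-- `G_{j+1}` moves `q (j+2)` to any point of `Ω_{j+1}` -/
theorem Mv : ∀ j, j + 2 ≤ t → ∀ x, Om t q (j + 1) x →
    ∃ g ∈ Gs q G s (j + 1), g (q (j + 2)) = x := by
  intro j
  induction j with
  | zero =>
    intro _ x hx
    have h12 : q 2 ≠ q 1 := by
      intro h'
      have := hq 2 1 (by omega) ht (by omega) (by omega) h'
      omega
    have e2 : ∀ i, 3 ≤ i → i ≤ t → q 2 ≠ q i := by
      intro i hi hit h'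
      have := hq 2 i (by omega) ht (by omega) hit h'
      omega
    have e1 : ∀ i, 3 ≤ i → i ≤ t → q 1 ≠ q i := by
      intro i hi hit h'
      have := hq 1 i (by omega) (by omega) (by omega) hit h'
      omega
    by_cases hx1 : x = q 1
    · obtain ⟨g, hg, hg2, -⟩ := h2 (q 2) (q 1) x (q 2) (by
        intro i hi hit
        exact ⟨e2 i hi hit, e1 i hi hit, hx i (by omega) hit, e2 i hi hit⟩) h12 (by
        rw [hx1]; exact Ne.symm h12)
      exact ⟨g, by rw [Gs_one]; exact hg, hg2⟩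
    · obtain ⟨g, hg, hg2, -⟩ := h2 (q 2) (q 1) x (q 1) (by
        intro i hi hit
        exact ⟨e2 i hi hit, e1 i hi hit, hx i (by omega) hit, e1 i hi hit⟩) h12 hx1
      exact ⟨g, by rw [Gs_one]; exact hg, hg2⟩
  | succ j ih =>
    intro hj x hx
    by_cases hxq : x = q (j + 1 + 2)
    · exact ⟨1, Subgroup.one_mem _, by rw [hxq]; rfl⟩
    · obtain ⟨k, hk, hkx⟩ := ih (by omega) x (Om_pred t q hx hxq)
      refine ⟨k * s (j + 2), Subgroup.mul_mem _ (Gs_mono q G s (by omega) hk)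
        (s_mem_Gs q G s (by omega) (by omega)), ?_⟩
      rw [Equiv.Perm.mul_apply, (hsq (j + 2) (by omega) (by omega)).2.1, hkx]

include hq hfix h2 hs1 hsq ht in
/-- `G_{j+1}` is `(j+2)`-transitive on `Ω_{j+1}` -/
theorem Ctr : ∀ j, j + 2 ≤ t → ∀ y : ℕ → α, (∀ i, 1 ≤ i → i ≤ j + 2 → Om t q (j + 1) (y i)) →
    (∀ i i', 1 ≤ i → i ≤ j + 2 → 1 ≤ i' → i' ≤ j + 2 → y i = y i' → i = i') →
    ∃ g ∈ Gs q G s (j + 1), ∀ i, 1 ≤ i → i ≤ j + 2 → g (q i) = y i := by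
  intro j
  induction j with
  | zero =>
    intro _ y hy hinj
    have h12 : q 1 ≠ q 2 := by
      intro h'
      have := hq 1 2 (by omega) (by omega) (by omega) ht h'
      omega
    have e2 : ∀ i, 3 ≤ i → i ≤ t → q 2 ≠ q i := by
      intro i hi hit h'
      have := hq 2 i (by omega) ht (by omega) hit h'
      omega
    have e1 : ∀ i, 3 ≤ i → i ≤ t → q 1 ≠ q i := by
      intro i hi hit h'
      have := hq 1 i (by omega) (by omega) (by omega) hit h'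
      omega
    obtain ⟨g, hg, hg1, hg2⟩ := h2 (q 1) (q 2) (y 1) (y 2) (by
      intro i hi hit
      exact ⟨e1 i hi hit, e2 i hi hit, hy 1 (by omega) (by omega) i (by omega) hit,
        hy 2 (by omega) (by omega) i (by omega) hit⟩) h12 (by
      intro h'
      have := hinj 1 2 (by omega) (by omega) (by omega) (by omega) h'
      omega)
    refine ⟨g, by rw [Gs_one]; exact hg, ?_⟩
    intro i hi1 hi2
    have : i = 1 ∨ i = 2 := by omega
    rcases this with rfl | rfl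
    · exact hg1
    · exact hg2
  | succ j ih =>
    intro hj y hy hinj
    obtain ⟨g₀, hg₀, hg₀q⟩ := Mv t q G s ht hq hfix h2 hs1 hsq (j + 1) hj (y (j + 1 + 2))
      (hy _ (by omega) le_rfl)
    have hg₀' : g₀⁻¹ ∈ Gs q G s (j + 1 + 1) := Subgroup.inv_mem _ hg₀
    obtain ⟨g', hg', hg'q⟩ := ih (by omega) (fun i => g₀⁻¹ (y i)) (by
      intro i hi1 hi2
      apply Om_pred t q (Om_smul t q G s hfix hsq hg₀' (hy i hi1 (by omega)))
      intro h'
      rw [Equiv.Perm.inv_eq_iff_eq, hg₀q] at h'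
      have := hinj _ _ hi1 (by omega) (by omega) le_rfl h'
      omega) (by
      intro i i' hi1 hi2 hi1' hi2' h'
      exact hinj i i' hi1 (by omega) hi1' (by omega) (g₀⁻¹.injective h'))
    refine ⟨g₀ * g', Subgroup.mul_mem _ hg₀ (Gs_mono q G s (by omega) hg'), ?_⟩
    intro i hi1 hi2
    by_cases hi : i = j + 1 + 2
    · rw [hi, Equiv.Perm.mul_apply,
        fix_q t q G s hfix hsq (j + 1) g' hg' (j + 1 + 2) le_rfl hj, hg₀q]
    · rw [Equiv.Perm.mul_apply, hg'q i hi1 (by omega)]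
      simp

end Witt

/-- Witt's Lemma for constructing transitive extensions. Points `q 1, …, q t` (`t ≥ 2`) of a finite set are given; `G` fixes `q i` for `i ≥ 3` and is doubly transitive on the remaining points; `s 1 ∈ G` swaps `q 1, q 2`; for `2 ≤ i ≤ t-1`, `s i` swaps `q i, q (i+1)` and fixes the other `q j`; with `H` the stabiliser of `q 1, q 2` in `G`: `s i ^ 2 ∈ H`, `(s i * s (i+1)) ^ 3 ∈ H`, `(s i * s j) ^ 2 ∈ H` for `j ≥ i + 2`, and `s i` (`i ≥ 2`) normalises the stabiliser of `q 2` in `G`. Then `G` and the `s i` generate a `t`-transitive group whose pointwise stabiliser of the `q`'s is `H`. -/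
theorem result {α : Type*} [Fintype α] [DecidableEq α] (t : ℕ) (ht : 2 ≤ t) (q : ℕ → α) (hq : ∀ i j : ℕ, 1 ≤ i → i ≤ t → 1 ≤ j → j ≤ t → q i = q j → i = j) (G : Subgroup (Equiv.Perm α)) (hfix : ∀ g ∈ G, ∀ i : ℕ, 3 ≤ i → i ≤ t → g (q i) = q i) (h2 : ∀ a b c d : α, (∀ i, 3 ≤ i → i ≤ t → a ≠ q i ∧ b ≠ q i ∧ c ≠ q i ∧ d ≠ q i) → a ≠ b → c ≠ d → ∃ g ∈ G, g a = c ∧ g b = d) (s : ℕ → Equiv.Perm α) (hs1 : s 1 ∈ G) (hs1q : s 1 (q 1) = q 2 ∧ s 1 (q 2) = q 1) (hsq : ∀ i : ℕ, 2 ≤ i → i + 1 ≤ t → s i (q i) = q (i + 1) ∧ s i (q (i + 1)) = q i ∧ ∀ j : ℕ, 1 ≤ j → j ≤ t → j ≠ i → j ≠ i + 1 → s i (q j) = q j) (H : Subgroup (Equiv.Perm α)) (hH : H = G ⊓ MulAction.stabilizer (Equiv.Perm α) (q 1) ⊓ MulAction.stabilizer (Equiv.Perm α) (q 2)) (hsq2 : ∀ i : ℕ, 1 ≤ i → i + 1 ≤ t → s i ^ 2 ∈ H) (hbraid : ∀ i : ℕ, 1 ≤ i → i + 2 ≤ t → (s i * s (i + 1)) ^ 3 ∈ H) (hcomm : ∀ i j : ℕ, 1 ≤ i → i + 2 ≤ j → j + 1 ≤ t → (s i * s j) ^ 2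 ∈ H ∧ (s j * s i) ^ 2 ∈ H) (hnorm : ∀ i : ℕ, 2 ≤ i → i + 1 ≤ t → ∀ g ∈ G ⊓ MulAction.stabilizer (Equiv.Perm α) (q 2), s i * g * (s i)⁻¹ ∈ G ⊓ MulAction.stabilizer (Equiv.Perm α) (q 2)) : MulAction.IsMultiplyPretransitive ↥(Subgroup.closure ((G : Set (Equiv.Perm α)) ∪ {x | ∃ i : ℕ, 2 ≤ i ∧ i + 1 ≤ t ∧ x = s i})) α t ∧ Subgroup.closure ((G : Set (Equiv.Perm α)) ∪ {x | ∃ i : ℕ, 2 ≤ i ∧ i + 1 ≤ t ∧ x = s i}) ⊓ fixingSubgroup (Equiv.Perm α) {x | ∃ i : ℕ, 1 ≤ i ∧ i ≤ t ∧ x = q i} = H := by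
  obtain ⟨u, rfl⟩ : ∃ u, t = u + 2 := ⟨t - 2, by omega⟩
  have hGs : Subgroup.closure ((G : Set (Equiv.Perm α)) ∪
      {x | ∃ i : ℕ, 2 ≤ i ∧ i + 1 ≤ u + 2 ∧ x = s i}) = Gs q G s (u + 1) := by
    rw [Gs_succ]
    congr 2
    ext x
    constructor
    · rintro ⟨i, h1, h2', rfl⟩
      exact ⟨i, h1, by omega, rfl⟩
    · rintro ⟨i, h1, h2', rfl⟩
      exact ⟨i, h1, by omega, rfl⟩
  rw [hGs]
  constructor
  · rw [MulAction.isMultiplyPretransitive_iff]
    intro x y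
    have key : ∀ z : Fin (u + 2) ↪ α, ∃ g ∈ Gs q G s (u + 1),
        ∀ k : Fin (u + 2), g (q (k + 1)) = z k := by
      intro z
      obtain ⟨g, hg, hgq⟩ := Ctr (u + 2) q G s ht hq hfix h2 hs1 hsq u le_rfl
        (fun i => if h : 1 ≤ i ∧ i ≤ u + 2 then z ⟨i - 1, by omega⟩ else q 1) (by
          intro i hi1 hi2 i' hi' hit'
          omega) (by
          intro i i' h1 h2' h1' h2'' h
          rw [dif_pos ⟨h1, h2'⟩, dif_pos ⟨h1', h2''⟩] at h
          have := z.injective h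
          rw [Fin.mk.injEq] at this
          omega)
      refine ⟨g, hg, fun k => ?_⟩
      have := hgq (k + 1) (by omega) (by omega)
      rw [this, dif_pos ⟨by omega, by omega⟩]
      congr 1
    obtain ⟨gx, hgx, hx⟩ := key x
    obtain ⟨gy, hgy, hy⟩ := key y
    refine ⟨⟨gy * gx⁻¹, Subgroup.mul_mem _ hgy (Subgroup.inv_mem _ hgx)⟩, ?_⟩
    ext k
    show (gy * gx⁻¹) (x k) = y k
    have h3 : gx⁻¹ (gx (q (k + 1))) = q (k + 1) := by rw [Equiv.Perm.inv_eq_iff_eq]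
    rw [← hx k, Equiv.Perm.mul_apply, h3, hy k]
  · apply le_antisymm
    · rintro g ⟨hg, hgfix⟩
      have hfixq : ∀ i, 1 ≤ i → i ≤ u + 2 → g (q i) = q i := by
        intro i h1 h2'
        have hgfix' : g ∈ fixingSubgroup (Equiv.Perm α)
            {x | ∃ i : ℕ, 1 ≤ i ∧ i ≤ u + 2 ∧ x = q i} := hgfix
        rw [mem_fixingSubgroup_iff] at hgfix'
        exact hgfix' (q i) ⟨i, h1, h2', rfl⟩
      have hdown : ∀ d, d ≤ u + 1 → g ∈ Gs q G s (u + 1 - d) := by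
        intro d
        induction d with
        | zero => intro _; exact hg
        | succ d ih =>
          intro hd
          have h1 := ih (by omega)
          have e : u + 1 - d = (u - d) + 1 := by omega
          rw [e] at h1
          have := St (u + 2) q G s H ht hq hfix h2 hs1 hs1q hsq hH hsq2 hbraid hcomm hnorm
            (u - d) (by omega) g h1 (hfixq _ (by omega) (by omega))
          have e2 : u + 1 - (d + 1) = u - d := by omega
          rw [e2]; exact this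
      have h0 := hdown (u + 1) le_rfl
      rw [Nat.sub_self, mem_Gs_zero] at h0
      rw [hH]
      refine ⟨⟨h0.1, ?_⟩, ?_⟩
      · show g ∈ stabilizer (Equiv.Perm α) (q 1)
        rw [mem_stabilizer_iff, Equiv.Perm.smul_def]
        exact hfixq 1 (by omega) (by omega)
      · show g ∈ stabilizer (Equiv.Perm α) (q 2)
        rw [mem_stabilizer_iff, Equiv.Perm.smul_def]
        exact h0.2
    · intro g hg
      refine ⟨H_le q G s H hH _ hg, ?_⟩
      show g ∈ fixingSubgroup (Equiv.Perm α) {x | ∃ i : ℕ, 1 ≤ i ∧ i ≤ u + 2 ∧ x = q i}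
      rw [mem_fixingSubgroup_iff]
      rintro _ ⟨i, h1, h2', rfl⟩
      rw [hH] at hg
      obtain ⟨⟨hgG, hg1⟩, hg2⟩ := hg
      have hg1' : g ∈ stabilizer (Equiv.Perm α) (q 1) := hg1
      have hg2' : g ∈ stabilizer (Equiv.Perm α) (q 2) := hg2
      rw [mem_stabilizer_iff] at hg1' hg2'
      by_cases hi1 : i = 1
      · rw [hi1]; exact hg1'
      · by_cases hi2 : i = 2
        · rw [hi2]; exact hg2'
        · rw [Equiv.Perm.smul_def]
          exact hfix g hgG i (by omega) h2'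

end Cfsg.Agent.S0709
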