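import Cfsg.Statements.S0710
import Cfsg.Agent.Lib.Helper12.PermCentralizer
import Mathlib

set_option autoImplicit false
open Cfsg

namespace Cfsg.Agent.S0710

open Cfsg.Agent.Helper12

/-- A subgroup of prime order `p` of a permutation group of degree `p` is transitive. -/
theorem transitive_of_card_prime {α : Type*} [Fintype α] {p : ℕ} (hp : p.Prime)
    (hα : Fintype.card α = p) (G : Subgroup (Equiv.Perm α)) (P : Subgroup G)
    (hP : Nat.card P = p) : MulAction.IsPretransitive P α := by
  have hfin : Finite P := Nat.finite_of_card_ne_zero (by rw [hP]; exact hp.ne_zero)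
  have hnt : Nontrivial P := by
    rw [← Finite.one_lt_card_iff_nontrivial, hP]; exact hp.one_lt
  obtain ⟨x, hx⟩ := exists_ne (1 : P)
  have hx' : ((x : G) : Equiv.Perm α) ≠ 1 := by
    intro h
    apply hx
    apply Subtype.ext
    apply Subtype.ext
    exact h
  obtain ⟨a, ha⟩ : ∃ a, ((x : G) : Equiv.Perm α) a ≠ a := by
    by_contra hcon
    push Not at hcon
    exact hx' (Equiv.ext hcon)
  have h1 : Nat.card (MulAction.orbit P a) * Nat.card (MulAction.stabilizer P a) = p := by
    classical
    have : Fintype P := Fintype.ofFinite _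
    have : Fintype (MulAction.orbit P a) := Fintype.ofFinite _
    have : Fintype (MulAction.stabilizer P a) := Fintype.ofFinite _
    have h1 := MulAction.card_orbit_mul_card_stabilizer_eq_card_group P a
    rw [← Nat.card_eq_fintype_card, ← Nat.card_eq_fintype_card, ← Nat.card_eq_fintype_card, hP]
      at h1
    exact h1
  have hstab : Nat.card (MulAction.stabilizer P a) = 1 := by
    have hdvd : Nat.card (MulAction.stabilizer P a) ∣ p := ⟨_, (by rw [mul_comm]; exact h1.symm)⟩
    rcases (Nat.dvd_prime hp).mp hdvd with h | h
    · exact h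
    · exfalso
      have : MulAction.stabilizer P a = ⊤ := by
        rw [← Subgroup.card_eq_iff_eq_top, h, hP]
      have hxs : x ∈ MulAction.stabilizer P a := by rw [this]; trivial
      exact ha hxs
  rw [hstab, mul_one] at h1
  have horb : MulAction.orbit P a = Set.univ := by
    rw [Set.eq_univ_iff_ncard, ← Nat.card_coe_set_eq, h1, Nat.card_eq_fintype_card, hα]
  constructor
  intro b c
  have hb : b ∈ MulAction.orbit P a := by rw [horb]; trivial
  have hc : c ∈ MulAction.orbit P a := by rw [horb]; trivial
  obtain ⟨g, rfl⟩ := hb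
  obtain ⟨h, rfl⟩ := hc
  exact ⟨h * g⁻¹, by rw [mul_smul, inv_smul_smul]⟩

theorem result {α : Type*} [Fintype α] [DecidableEq α] (hα : Fintype.card α = 13) (G : Subgroup (Equiv.Perm α)) [MulAction.IsPretransitive G α] : Nat.card G ≠ 13 * 12 * 11 * 10 * 9 * 8 := by
  intro hcard
  have hp13 : Nat.Prime 13 := by norm_num
  have : Fact (Nat.Prime 13) := ⟨hp13⟩
  let P : Sylow 13 G := default
  -- |P| = 13
  have hP13 : Nat.card P = 13 := by
    obtain ⟨k, hk⟩ := P.2.exists_card_eq
    have hdvd : Nat.card P ∣ Nat.card G := Subgroup.card_subgroup_dvd_card _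
    have h13 : 13 ∣ Nat.card P := P.dvd_card_of_dvd_card (by rw [hcard]; norm_num)
    rw [hk] at hdvd h13 ⊢
    rw [hcard] at hdvd
    have hk1 : k ≠ 0 := by
      intro h0; rw [h0, pow_zero] at h13; omega
    have hk2 : k < 2 := by
      by_contra hge
      push Not at hge
      have : 13 ^ 2 ∣ 13 * 12 * 11 * 10 * 9 * 8 := (pow_dvd_pow 13 hge).trans hdvd
      omega
    have : k = 1 := by omega
    rw [this, pow_one]
  have hPcyc : IsCyclic P := isCyclic_of_prime_card hP13
  have hcomm : ∀ x ∈ (P : Subgroup G), ∀ y ∈ (P : Subgroup G), x * y = y * x := by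
    intro x hx y hy
    have hab : IsMulCommutative P := IsCyclic.isMulCommutative
    have := hab.is_comm.comm (⟨x, hx⟩ : P) ⟨y, hy⟩
    exact congrArg Subtype.val this
  have htr : MulAction.IsPretransitive (P : Subgroup G) α :=
    transitive_of_card_prime hp13 hα G P hP13
  have htr' : MulAction.IsPretransitive (permImage (P : Subgroup G)) α :=
    permImage_pretransitive _ htr
  have hcent' : Subgroup.centralizer ((permImage (P : Subgroup G) : Subgroup (Equiv.Perm α)) : Set _)
      = permImage (P : Subgroup G) :=
    centralizer_eq_of_transitive_le _ _ (permImage_le_centralizer _ _ hcomm)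
  have hcent : Subgroup.centralizer ((P : Subgroup G) : Set G) = (P : Subgroup G) := by
    apply le_antisymm
    · intro g hg
      have : (g : Equiv.Perm α) ∈ permImage (P : Subgroup G) := by
        rw [← hcent', Subgroup.mem_centralizer_iff]
        rintro _ ⟨x, hx, rfl⟩
        rw [Subgroup.mem_centralizer_iff] at hg
        have := hg x hx
        have h2 := congrArg (G.subtype) this
        simpa using h2
      obtain ⟨y, hy, hyg⟩ := this
      have : y = g := Subtype.ext hyg
      rw [← this]; exact hy
    · intro g hg
      rw [Subgroup.mem_centralizer_iff]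
      intro x hx
      exact hcomm x hx g hg
  have key := Subgroup.card_dvd_of_injective _
    (QuotientGroup.kerLift_injective (P : Subgroup G).normalizerMonoidHom)
  rw [Subgroup.normalizerMonoidHom_ker, ← Subgroup.index, ← Subgroup.relIndex,
    hPcyc.card_mulAut, hP13, hcent] at key
  have htot : Nat.totient 13 = 12 := by rw [Nat.totient_prime hp13]
  rw [htot] at key
  have h1 := Subgroup.relIndex_mul_index (P.le_normalizer)
  have h2 := Subgroup.index_mul_card (P : Subgroup G)
  have h3 : Nat.card (Sylow 13 G) = (Subgroup.normalizer ((P : Subgroup G) : Set G)).index :=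
    P.card_eq_index_normalizer
  have h4 := card_sylow_modEq_one 13 G
  rw [h3] at h4
  rw [hP13, hcard] at h2
  set m := (P : Subgroup G).relIndex (Subgroup.normalizer ((P : Subgroup G) : Set G)) with hm
  set n := (Subgroup.normalizer ((P : Subgroup G) : Set G)).index with hn
  have hmn : m * n = 95040 := by
    rw [← h1] at h2
    omega
  have hmem : m ∈ Nat.divisors 12 := Nat.mem_divisors.mpr ⟨key, by norm_num⟩
  have hdiv : Nat.divisors 12 = {1, 2, 3, 4, 6, 12} := by decide
  rw [hdiv] at hmem
  simp only [Finset.mem_insert, Finset.mem_singleton] at hmem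
  unfold Nat.ModEq at h4
  rcases hmem with h | h | h | h | h | h <;> rw [h] at hmn <;> omega

end Cfsg.Agent.S0710
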