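import Cfsg.Statements.S0713
import Mathlib

set_option autoImplicit false
open Cfsg

namespace Cfsg.Agent.S0713

open MulAction Equiv

section general
variable {H : Type*} [Group H]

theorem conj_zpow_of (g n : H) (s m : ℤ) (h : n * g * n⁻¹ = g ^ s) :
    n * g ^ m * n⁻¹ = g ^ (s * m) := by
  rw [← conj_zpow, h, zpow_mul]

/-- a commutator of elements normalizing `⟨g⟩` centralizes `g`. -/
theorem comm_centralizes (g n1 n2 : H) (s1 t1 s2 t2 : ℤ)
    (h1 : n1 * g * n1⁻¹ = g ^ s1) (h1' : n1⁻¹ * g * n1 = g ^ t1)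
    (h2 : n2 * g * n2⁻¹ = g ^ s2) (h2' : n2⁻¹ * g * n2 = g ^ t2) :
    (n1 * n2 * n1⁻¹ * n2⁻¹) * g = g * (n1 * n2 * n1⁻¹ * n2⁻¹) := by
  have e1 : g ^ (s1 * t1) = g := by
    have := conj_zpow_of g n1 s1 t1 h1
    rw [← h1'] at this
    rw [← this]; group
  have e2 : g ^ (s2 * t2) = g := by
    have := conj_zpow_of g n2 s2 t2 h2
    rw [← h2'] at this
    rw [← this]; group
  have h1'' : n1⁻¹ * g * n1⁻¹⁻¹ = g ^ t1 := by rw [inv_inv]; exact h1'
  have h2'' : n2⁻¹ * g * n2⁻¹⁻¹ = g ^ t2 := by rw [inv_inv]; exact h2'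
  have step : (n1 * n2 * n1⁻¹ * n2⁻¹) * g * (n1 * n2 * n1⁻¹ * n2⁻¹)⁻¹ = g := by
    have a1 : n2⁻¹ * g * n2 = g ^ t2 := h2'
    have a2 : n1⁻¹ * g ^ t2 * n1 = g ^ (t1 * t2) := by
      have := conj_zpow_of g n1⁻¹ t1 t2 h1''
      rwa [inv_inv] at this
    have a3 : n2 * g ^ (t1 * t2) * n2⁻¹ = g ^ (s2 * (t1 * t2)) := conj_zpow_of g n2 s2 _ h2
    have a4 : n1 * g ^ (s2 * (t1 * t2)) * n1⁻¹ = g ^ (s1 * (s2 * (t1 * t2))) :=
      conj_zpow_of g n1 s1 _ h1
    have : (n1 * n2 * n1⁻¹ * n2⁻¹) * g * (n1 * n2 * n1⁻¹ * n2⁻¹)⁻¹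
        = n1 * (n2 * (n1⁻¹ * (n2⁻¹ * g * n2) * n1) * n2⁻¹) * n1⁻¹ := by group
    rw [this, a1, a2, a3, a4]
    have : s1 * (s2 * (t1 * t2)) = (s1 * t1) * (s2 * t2) := by ring
    rw [this, zpow_mul, e1, e2]
  calc (n1 * n2 * n1⁻¹ * n2⁻¹) * g
      = ((n1 * n2 * n1⁻¹ * n2⁻¹) * g * (n1 * n2 * n1⁻¹ * n2⁻¹)⁻¹) * (n1 * n2 * n1⁻¹ * n2⁻¹) := by
        group
    _ = g * (n1 * n2 * n1⁻¹ * n2⁻¹) := by rw [step]

/-- Two subgroups of prime order `p` in a finite group whose order is not divisible by `p ^ 2`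
are conjugate. -/
theorem conj_of_card_prime [Finite H] (p : ℕ) [Fact p.Prime] (hH : ¬ p ^ 2 ∣ Nat.card H)
    (P Q : Subgroup H) (hP : Nat.card P = p) (hQ : Nat.card Q = p) :
    ∃ u : H, ∀ x, x ∈ Q ↔ u⁻¹ * x * u ∈ P := by
  have hp := (Fact.out : p.Prime)
  have hfac : (Nat.card H).factorization p = 1 := by
    apply le_antisymm
    · by_contra hlt
      rw [not_le] at hlt
      apply hH
      exact (pow_dvd_pow p hlt).trans (Nat.ordProj_dvd _ _)
    · have hdvd : p ∣ Nat.card H := hP ▸ Subgroup.card_subgroup_dvd_card P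
      exact (hp.dvd_iff_one_le_factorization Nat.card_pos.ne').mp hdvd
  have key : ∀ R : Subgroup H, Nat.card R = p → ∃ S : Sylow p H, (S : Subgroup H) = R := by
    intro R hR
    have hRp : IsPGroup p R := IsPGroup.of_card (n := 1) (by rw [hR, pow_one])
    obtain ⟨S, hS⟩ := hRp.exists_le_sylow
    refine ⟨S, ?_⟩
    symm
    apply Subgroup.eq_of_le_of_card_ge hS
    rw [Sylow.card_eq_multiplicity, hfac, pow_one, hR]
  obtain ⟨S1, hS1⟩ := key P hP
  obtain ⟨S2, hS2⟩ := key Q hQ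
  obtain ⟨u, hu⟩ := MulAction.exists_smul_eq H S1 S2
  refine ⟨u, fun x => ?_⟩
  rw [← hS2, ← hu, ← hS1, Sylow.coe_subgroup_smul, Subgroup.mem_pointwise_smul_iff_inv_smul_mem]
  simp [MulAut.smul_def, mul_assoc]

end general

section perm
variable {α : Type*} [Fintype α] [DecidableEq α]

/-- multiple transitivity from a prime cycle (Jordan). -/
theorem mt (G : Subgroup (Perm α)) (hG : IsPreprimitive G α) {p : ℕ} (hp : p.Prime)
    (hpn : p + 3 ≤ Fintype.card α) {g : Perm α} (hgc : g.IsCycle) (hgp : g.support.card = p)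
    (hg : g ∈ G) : IsMultiplyPretransitive G α (Fintype.card α - p) := by
  classical
  obtain ⟨n, hn⟩ : ∃ n, Fintype.card α = p + 1 + n := ⟨Fintype.card α - p - 1, by omega⟩
  have hcard : Nat.card α = p + 1 + n := by rw [Nat.card_eq_fintype_card, hn]
  have h1 : IsMultiplyPreprimitive G α (n + 2) := by
    apply hG.isMultiplyPreprimitive (s := (g.supportᶜ : Set α))
    · apply Nat.add_left_cancel (n := p)
      rw [← hgp, ← Set.ncard_coe_finset g.support, Set.ncard_add_ncard_compl, hcard,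
        Set.ncard_coe_finset, hgp]
      ring
    · rw [hcard]; have := hp.two_le; omega
    have := Equiv.Perm.isPretransitive_of_isCycle_mem hgc hg
    apply IsPreprimitive.of_prime_card
    convert! hp
    rw [Nat.card_eq_fintype_card, Fintype.card_subtype, ← hgp]
    apply congr_arg
    ext x
    simp [SubMulAction.mem_ofFixingSubgroup_iff]
  have h2 : IsMultiplyPretransitive G α (n + 2) := IsMultiplyPreprimitive.isMultiplyPretransitive ..
  have : Fintype.card α - p = n + 1 := by omega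
  rw [this]
  exact isMultiplyPretransitive_of_le (n := n + 2) (by omega) (by rw [hcard]; have := hp.two_le; omega)

/-- in a `k`-transitive group one can prescribe the action on a `k`-set. -/
theorem exists_agree (G : Subgroup (Perm α)) (k : ℕ) (hk : IsMultiplyPretransitive G α k)
    (Δ : Finset α) (hΔ : Δ.card = k) (π : Perm α) : ∃ h ∈ G, ∀ x ∈ Δ, h x = π x := by
  let e0 : Δ ≃ Fin k := Fintype.equivFinOfCardEq (by simpa using hΔ)
  let e : Fin k ↪ α := e0.symm.toEmbedding.trans (Function.Embedding.subtype _)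
  let e' : Fin k ↪ α := e.trans π.toEmbedding
  obtain ⟨h, hh⟩ := MulAction.exists_smul_eq G e e'
  refine ⟨h.1, h.2, fun x hx => ?_⟩
  have := congrArg (fun f : Fin k ↪ α => f (e0 ⟨x, hx⟩)) hh
  simp only [Function.Embedding.smul_apply] at this
  have ex : e (e0 ⟨x, hx⟩) = x := by simp [e]
  have ex' : e' (e0 ⟨x, hx⟩) = π x := by simp [e', e]
  rw [ex, ex'] at this
  exact this

/-- elements fixing the complement of `s` pointwise form a group of order dividing `|s|!`. -/
theorem card_fix_dvd (G : Subgroup (Perm α)) (s : Finset α) :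
    Nat.card ↥(G ⊓ fixingSubgroup (Perm α) ((s : Set α)ᶜ)) ∣ (s.card).factorial := by
  have hle : G ⊓ fixingSubgroup (Perm α) ((s : Set α)ᶜ) ≤
      (Perm.ofSubtype : Perm {x // x ∈ s} →* Perm α).range := by
    rintro σ ⟨-, hσ⟩
    rw [Perm.mem_range_ofSubtype_iff]
    intro x hx
    by_contra hxs
    have hσ' : σ ∈ fixingSubgroup (Perm α) ((s : Set α)ᶜ) := hσ
    rw [mem_fixingSubgroup_iff] at hσ'
    have := hσ' x hxs
    rw [Finset.mem_coe, Perm.mem_support] at hx
    exact hx this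
  have h1 := Subgroup.card_dvd_of_le hle
  have h2 : Nat.card (Perm.ofSubtype : Perm {x // x ∈ s} →* Perm α).range = (s.card).factorial := by
    rw [Nat.card_congr (MonoidHom.ofInjective Perm.ofSubtype_injective).symm.toEquiv,
      Nat.card_eq_fintype_card, Fintype.card_perm, Fintype.card_coe]
  rwa [h2] at h1

theorem not_sq_dvd_factorial {p : ℕ} (hp : p.Prime) : ¬ p ^ 2 ∣ p.factorial := by
  intro h
  obtain ⟨m, hm⟩ : ∃ m, p = m + 1 := ⟨p - 1, by have := hp.two_le; omega⟩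
  rw [hm, Nat.factorial_succ, ← hm, pow_two] at h
  have h2 : p ∣ m.factorial := Nat.dvd_of_mul_dvd_mul_left hp.pos h
  have := (hp.dvd_factorial).mp h2
  omega

theorem zpow_fix (g : Perm α) (x : α) (hx : g x = x) (i : ℤ) : (g ^ i) x = x :=
  Perm.zpow_apply_eq_self_of_apply_eq_self hx i

/-- elements of `G` normalizing `⟨g⟩` with a prescribed action off the support of `g`. -/
theorem exists_normalizing (G : Subgroup (Perm α)) {p : ℕ} (hp : p.Prime)
    (hk : IsMultiplyPretransitive G α (Fintype.card α - p))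
    {g : Perm α} (hgc : g.IsCycle) (hgp : g.support.card = p) (hg : g ∈ G)
    (π : Perm α) (hπ : ∀ x, x ∉ g.support → π x ∉ g.support) :
    ∃ n ∈ G, (∀ x, x ∉ g.support → n x = π x) ∧ (∃ s : ℤ, n * g * n⁻¹ = g ^ s) ∧
      (∃ t : ℤ, n⁻¹ * g * n = g ^ t) := by
  have : Fact p.Prime := ⟨hp⟩
  have hΔ : (g.supportᶜ).card = Fintype.card α - p := by rw [Finset.card_compl, hgp]
  obtain ⟨h, hhG, hh⟩ := exists_agree G _ hk (g.supportᶜ) hΔ π
  have hh' : ∀ x, x ∉ g.support → h x = π x := fun x hx => hh x (Finset.mem_compl.mpr hx)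
  have hmaps : ∀ x ∈ g.supportᶜ, h x ∈ g.supportᶜ := by
    intro x hx
    rw [Finset.mem_compl] at hx ⊢
    rw [hh' x hx]; exact hπ x hx
  have hinv : ∀ x, x ∉ g.support → h⁻¹ x ∉ g.support := by
    intro x hx
    have := Perm.perm_symm_on_of_perm_on_finset hmaps (Finset.mem_compl.mpr hx)
    exact Finset.mem_compl.mp this
  have hgfix : ∀ x, x ∉ g.support → g x = x := fun x hx => Perm.notMem_support.mp hx
  set K : Subgroup (Perm α) := G ⊓ fixingSubgroup (Perm α) ((g.support : Set α)ᶜ) with hK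
  have hgK : g ∈ K := by
    refine ⟨hg, ?_⟩
    change g ∈ fixingSubgroup (Perm α) ((g.support : Set α)ᶜ)
    rw [mem_fixingSubgroup_iff]
    intro x hx
    exact hgfix x (by simpa using hx)
  have hg'K : h * g * h⁻¹ ∈ K := by
    refine ⟨G.mul_mem (G.mul_mem hhG hg) (G.inv_mem hhG), ?_⟩
    change h * g * h⁻¹ ∈ fixingSubgroup (Perm α) ((g.support : Set α)ᶜ)
    rw [mem_fixingSubgroup_iff]
    intro x hx
    have hx' : x ∉ g.support := by simpa using hx
    change (h * g * h⁻¹) x = x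
    rw [Perm.mul_apply, Perm.mul_apply, hgfix _ (hinv x hx')]
    simp
  have hord : orderOf g = p := by rw [hgc.orderOf, hgp]
  have hord' : orderOf (h * g * h⁻¹) = p := by
    rw [← hord]
    have := MulEquiv.orderOf_eq (MulAut.conj h) g
    rwa [MulAut.conj_apply] at this
  have hcardK : ¬ p ^ 2 ∣ Nat.card K := by
    intro hdiv
    have := card_fix_dvd G g.support
    rw [hgp] at this
    exact not_sq_dvd_factorial hp (hdiv.trans this)
  obtain ⟨u, hu⟩ := conj_of_card_prime p hcardK (Subgroup.zpowers (⟨g, hgK⟩ : K))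
    (Subgroup.zpowers (⟨h * g * h⁻¹, hg'K⟩ : K))
    (by rw [Nat.card_zpowers, Subgroup.orderOf_mk, hord])
    (by rw [Nat.card_zpowers, Subgroup.orderOf_mk, hord'])
  have hufix : ∀ x, x ∉ g.support → (u : Perm α)⁻¹ x = x := by
    intro x hx
    have : (u : Perm α)⁻¹ ∈ fixingSubgroup (Perm α) ((g.support : Set α)ᶜ) := (K.inv_mem u.2).2
    rw [mem_fixingSubgroup_iff] at this
    exact this x (by simpa using hx)
  -- first conjugation relation
  obtain ⟨s, hs⟩ : ∃ s : ℤ, (u : Perm α)⁻¹ * (h * g * h⁻¹) * u = g ^ s := by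
    have := (hu ⟨h * g * h⁻¹, hg'K⟩).mp (Subgroup.mem_zpowers _)
    obtain ⟨s, hs⟩ := Subgroup.mem_zpowers_iff.mp this
    refine ⟨s, ?_⟩
    have := congrArg (fun x : K => (x : Perm α)) hs
    simp only [Subgroup.coe_zpow, Subgroup.coe_mul, Subgroup.coe_inv] at this
    exact this.symm
  obtain ⟨t, ht⟩ : ∃ t : ℤ, (u : Perm α) * g * (u : Perm α)⁻¹ = (h * g * h⁻¹) ^ t := by
    have hmem : u * ⟨g, hgK⟩ * u⁻¹ ∈ Subgroup.zpowers (⟨h * g * h⁻¹, hg'K⟩ : K) := by
      rw [hu]
      have : u⁻¹ * (u * ⟨g, hgK⟩ * u⁻¹) * u = ⟨g, hgK⟩ := by group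
      rw [this]
      exact Subgroup.mem_zpowers _
    obtain ⟨t, ht⟩ := Subgroup.mem_zpowers_iff.mp hmem
    refine ⟨t, ?_⟩
    have := congrArg (fun x : K => (x : Perm α)) ht
    simp only [Subgroup.coe_zpow, Subgroup.coe_mul, Subgroup.coe_inv] at this
    exact this.symm
  refine ⟨(u : Perm α)⁻¹ * h, G.mul_mem (G.inv_mem u.2.1) hhG, ?_, ⟨s, ?_⟩, ⟨t, ?_⟩⟩
  · intro x hx
    rw [Perm.mul_apply, hh' x hx, hufix _ (hπ x hx)]
  · rw [← hs]; group
  · have : ((u : Perm α)⁻¹ * h)⁻¹ * g * ((u : Perm α)⁻¹ * h) = h⁻¹ * ((u : Perm α) * g * (u : Perm α)⁻¹) * h := by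
      group
    have h2 : h⁻¹ * (h * g * h⁻¹) * h⁻¹⁻¹ = g := by group
    have h3 : h⁻¹ * (h * g * h⁻¹) ^ t * h = h⁻¹ * (h * g * h⁻¹) ^ t * h⁻¹⁻¹ := by rw [inv_inv]
    rw [this, ht, h3, ← conj_zpow, h2]

theorem swap_notMem (g : Perm α) {a b : α} (ha : a ∉ g.support) (hb : b ∉ g.support) (x : α)
    (hx : x ∉ g.support) : Equiv.swap a b x ∉ g.support := by
  rw [Equiv.swap_apply_def]
  split_ifs <;> assumption

end perm

/-- Jordan's Theorem: a primitive permutation group of degree `n ≥ 5` containing a `p`-cycle for a prime `p ≤ n - 3` contains the alternating group. -/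
theorem result {α : Type*} [Fintype α] [DecidableEq α] (G : Subgroup (Equiv.Perm α)) (hG : MulAction.IsPreprimitive G α) {p : ℕ} (hp : p.Prime) (hn : 5 ≤ Fintype.card α) (hpn : p + 3 ≤ Fintype.card α) {g : Equiv.Perm α} (hgc : g.IsCycle) (hgp : g.support.card = p) (hg : g ∈ G) : alternatingGroup α ≤ G := by
  have hk := mt G hG hp hpn hgc hgp hg
  -- three points off the support
  have hΔ : 2 < (g.supportᶜ).card := by rw [Finset.card_compl, hgp]; omega
  obtain ⟨a, ha, b, hb, c, hc, hab, hac, hbc⟩ := Finset.two_lt_card.mp hΔ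
  rw [Finset.mem_compl] at ha hb hc
  obtain ⟨n1, hn1G, hn1, ⟨s1, hs1⟩, ⟨t1, ht1⟩⟩ :=
    exists_normalizing G hp hk hgc hgp hg (Equiv.swap a b) (swap_notMem g ha hb)
  obtain ⟨n2, hn2G, hn2, ⟨s2, hs2⟩, ⟨t2, ht2⟩⟩ :=
    exists_normalizing G hp hk hgc hgp hg (Equiv.swap b c) (swap_notMem g hb hc)
  -- inverses act as the swaps too
  have hn1' : ∀ x, x ∉ g.support → n1⁻¹ x = Equiv.swap a b x := by
    intro x hx
    have h1 := hn1 _ (swap_notMem g ha hb x hx)
    rw [Equiv.swap_apply_self] at h1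
    rw [Perm.inv_eq_iff_eq]
    exact h1.symm
  have hn2' : ∀ x, x ∉ g.support → n2⁻¹ x = Equiv.swap b c x := by
    intro x hx
    have h1 := hn2 _ (swap_notMem g hb hc x hx)
    rw [Equiv.swap_apply_self] at h1
    rw [Perm.inv_eq_iff_eq]
    exact h1.symm
  set x : Perm α := n1 * n2 * n1⁻¹ * n2⁻¹ with hx
  have hxG : x ∈ G := G.mul_mem (G.mul_mem (G.mul_mem hn1G hn2G) (G.inv_mem hn1G)) (G.inv_mem hn2G)
  have hcomm : x * g = g * x := comm_centralizes g n1 n2 s1 t1 s2 t2 hs1 ht1 hs2 ht2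
  set τ : Perm α := Equiv.swap a b * Equiv.swap b c * Equiv.swap a b * Equiv.swap b c with hτ
  have hxτ : ∀ d, d ∉ g.support → x d = τ d := by
    intro d hd
    have e1 := swap_notMem g hb hc d hd
    have e2 := swap_notMem g ha hb _ e1
    have e3 := swap_notMem g hb hc _ e2
    simp only [hx, hτ, Perm.mul_apply]
    rw [hn2' d hd, hn1' _ e1, hn2 _ e2, hn1 _ e3]
  have hτfix : ∀ d, d ∈ g.support → τ d = d := by
    intro d hd
    have hda : d ≠ a := fun e => ha (e ▸ hd)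
    have hdb : d ≠ b := fun e => hb (e ▸ hd)
    have hdc : d ≠ c := fun e => hc (e ▸ hd)
    simp only [hτ, Perm.mul_apply]
    rw [Equiv.swap_apply_of_ne_of_ne hdb hdc, Equiv.swap_apply_of_ne_of_ne hda hdb,
      Equiv.swap_apply_of_ne_of_ne hdb hdc, Equiv.swap_apply_of_ne_of_ne hda hdb]
  have hτnot : ∀ d, d ∉ g.support → τ d ∉ g.support := by
    intro d hd
    have e1 := swap_notMem g hb hc d hd
    have e2 := swap_notMem g ha hb _ e1
    have e3 := swap_notMem g hb hc _ e2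
    have e4 := swap_notMem g ha hb _ e3
    simpa only [hτ, Perm.mul_apply] using e4
  -- a point of the support
  have hne : g.support.Nonempty := by
    rw [← Finset.card_pos, hgp]; exact hp.pos
  obtain ⟨a0, ha0⟩ := hne
  have hga0 : g a0 ≠ a0 := Perm.mem_support.mp ha0
  have hcommz : ∀ j : ℤ, x * g ^ j = g ^ j * x := fun j => (Commute.zpow_right hcomm j)
  have hxa0 : g (x a0) ≠ x a0 := by
    have : g (x a0) = x (g a0) := by
      have := congrArg (fun f : Perm α => f a0) hcomm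
      simp only [Perm.mul_apply] at this
      exact this.symm
    rw [this]
    exact fun e => hga0 (x.injective e)
  obtain ⟨i, hi⟩ := hgc.exists_zpow_eq hga0 hxa0
  have hyG : g ^ (-i) * x ∈ G := G.mul_mem (G.zpow_mem hg _) hxG
  have hy : g ^ (-i) * x = τ := by
    ext z
    by_cases hz : z ∈ g.support
    · rw [hτfix z hz]
      obtain ⟨j, hj⟩ := hgc.exists_zpow_eq hga0 (Perm.mem_support.mp hz)
      rw [← hj, Perm.mul_apply, ← Perm.mul_apply x, hcommz j, Perm.mul_apply, ← hi,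
        ← Perm.mul_apply, ← Perm.mul_apply, ← zpow_add, ← zpow_add]
      congr 2
      ring
    · rw [Perm.mul_apply, hxτ z hz]
      exact zpow_fix g _ (Perm.notMem_support.mp (hτnot z hz)) _
  have hτG : τ ∈ G := hy ▸ hyG
  have h3 : Perm.IsThreeCycle τ := by
    have e1 : Equiv.swap a b * Equiv.swap b c * Equiv.swap a b = Equiv.swap a c := by
      have := Equiv.swap_mul_swap_mul_swap (x := c) (y := b) (z := a) hbc.symm hac.symm
      rw [Equiv.swap_comm b a, Equiv.swap_comm c b] at this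
      exact this
    have e2 : τ = Equiv.swap c a * Equiv.swap c b := by
      rw [hτ, e1, Equiv.swap_comm a c, Equiv.swap_comm b c]
    rw [e2]
    exact Perm.isThreeCycle_swap_mul_swap_same hac.symm hbc.symm hab
  exact Equiv.Perm.alternatingGroup_le_of_isPreprimitive_of_isThreeCycle_mem hG h3 hτG

end Cfsg.Agent.S0713
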