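import Cfsg.Statements.S0714
import Mathlib

set_option autoImplicit false
open Cfsg

namespace Cfsg.Agent.S0714

section
variable {α : Type*} [Fintype α] [DecidableEq α] {K : Type*} [Field K]

/-- basis vector -/
abbrev e (x : α) : α → K := Pi.single x 1

theorem permRep_apply {G : Type*} [Group G] [MulAction G α] (g : G) (f : α → K) (x : α) :
    (Cfsg.permRep K G α g f) x = f (g⁻¹ • x) := rfl

theorem permRep_e {G : Type*} [Group G] [MulAction G α] (g : G) (x : α) :
    Cfsg.permRep K G α g (e x) = e (g • x) := by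
  ext y
  rw [permRep_apply]
  simp only [e, Pi.single_apply]
  by_cases h : y = g • x
  · rw [if_pos h, if_pos (by rw [h, inv_smul_smul])]
  · rw [if_neg h, if_neg (by intro h'; apply h; rw [← h', smul_inv_smul])]

/-- the 3-cycle x → y → z → x as element of the alternating group -/
def cyc (x y z : α) (hxy : x ≠ y) (hyz : y ≠ z) (hxz : x ≠ z) : alternatingGroup α :=
  ⟨Equiv.swap x y * Equiv.swap y z, by
    rw [Equiv.Perm.mem_alternatingGroup, Equiv.Perm.sign_mul, Equiv.Perm.sign_swap hxy,
      Equiv.Perm.sign_swap hyz]; rfl⟩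

theorem cyc_inv_smul (x y z : α) (hxy : x ≠ y) (hyz : y ≠ z) (hxz : x ≠ z) (w : α) :
    (cyc x y z hxy hyz hxz)⁻¹ • w = (Equiv.swap y z) ((Equiv.swap x y) w) := by
  change ((Equiv.swap x y * Equiv.swap y z)⁻¹ : Equiv.Perm α) w = _
  rw [mul_inv_rev, Equiv.swap_inv, Equiv.swap_inv]
  rfl

theorem cyc_inv_x (x y z : α) (hxy : x ≠ y) (hyz : y ≠ z) (hxz : x ≠ z) :
    (cyc x y z hxy hyz hxz)⁻¹ • x = z := by
  rw [cyc_inv_smul, Equiv.swap_apply_left, Equiv.swap_apply_left]

theorem cyc_inv_y (x y z : α) (hxy : x ≠ y) (hyz : y ≠ z) (hxz : x ≠ z) :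
    (cyc x y z hxy hyz hxz)⁻¹ • y = x := by
  rw [cyc_inv_smul, Equiv.swap_apply_right, Equiv.swap_apply_of_ne_of_ne hxy hxz]

theorem cyc_inv_z (x y z : α) (hxy : x ≠ y) (hyz : y ≠ z) (hxz : x ≠ z) :
    (cyc x y z hxy hyz hxz)⁻¹ • z = y := by
  rw [cyc_inv_smul, Equiv.swap_apply_of_ne_of_ne hxz.symm hyz.symm, Equiv.swap_apply_right]

theorem cyc_inv_other (x y z : α) (hxy : x ≠ y) (hyz : y ≠ z) (hxz : x ≠ z) (w : α)
    (hx : w ≠ x) (hy : w ≠ y) (hz : w ≠ z) :
    (cyc x y z hxy hyz hxz)⁻¹ • w = w := by
  rw [cyc_inv_smul, Equiv.swap_apply_of_ne_of_ne hx hy, Equiv.swap_apply_of_ne_of_ne hy hz]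

variable (W : Subrepresentation (Cfsg.permRep K (alternatingGroup α) α))

theorem sub_mem (g : alternatingGroup α) (f : α → K) (hf : f ∈ W.toSubmodule) :
    f - Cfsg.permRep K (alternatingGroup α) α g f ∈ W.toSubmodule :=
  W.toSubmodule.sub_mem hf (W.apply_mem_toSubmodule g hf)

/-- Lemma L. -/
theorem lemL (u : α → K) (hu : u ∈ W.toSubmodule) (x d c : α) (hxd : x ≠ d) (hdc : d ≠ c)
    (hxc : x ≠ c) (hud : u d = 0) (huc : u c = 0) (hux : u x ≠ 0) :
    (e x - e d : α → K) ∈ W.toSubmodule := by
  have h1 := sub_mem W (cyc x d c hxd hdc hxc) u hu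
  have h2 : u - Cfsg.permRep K (alternatingGroup α) α (cyc x d c hxd hdc hxc) u
      = u x • (e x - e d) := by
    ext y
    rw [Pi.sub_apply, permRep_apply, Pi.smul_apply, Pi.sub_apply, smul_eq_mul]
    simp only [e, Pi.single_apply]
    by_cases hyx : y = x
    · subst hyx
      rw [cyc_inv_x, huc, if_pos rfl, if_neg hxd]; ring
    by_cases hyd : y = d
    · subst hyd
      rw [cyc_inv_y, hud, if_neg hyx, if_pos rfl]; ring
    by_cases hyc : y = c
    · subst hyc
      rw [cyc_inv_z, huc, hud, if_neg hyx, if_neg hyd]; ring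
    · rw [cyc_inv_other _ _ _ _ _ _ y hyx hyd hyc, if_neg hyx, if_neg hyd]; ring
  rw [h2] at h1
  have h3 := W.toSubmodule.smul_mem (u x)⁻¹ h1
  rwa [smul_smul, inv_mul_cancel₀ hux, one_smul] at h3

end

theorem exists_notMem {α : Type*} [Fintype α] [DecidableEq α] (s : Finset α)
    (h : s.card < Fintype.card α) : ∃ x, x ∉ s := by
  by_contra hcon
  push Not at hcon
  have : s = Finset.univ := Finset.eq_univ_iff_forall.mpr hcon
  rw [this, Finset.card_univ] at h
  exact lt_irrefl _ h

theorem result {α : Type*} [Fintype α] [DecidableEq α] (hα : 5 ≤ Fintype.card α) {K : Type*} [Field K] (W : Subrepresentation (Cfsg.permRep K (alternatingGroup α) α)) : W.toSubmodule = ⊥ ∨ W = Cfsg.permConstants K (alternatingGroup α) α ∨ W = Cfsg.permSumZero K (alternatingGroup α) α ∨ W.toSubmodule = ⊤ := by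
  classical
  by_cases hconst : ∀ f ∈ W.toSubmodule, ∀ a b : α, f a = f b
  · -- all constant
    by_cases hbot : W.toSubmodule = ⊥
    · left; exact hbot
    · right; left
      apply Subrepresentation.toSubmodule_injective
      change W.toSubmodule = Submodule.span K {fun _ => 1}
      apply le_antisymm
      · intro f hf
        rw [Submodule.mem_span_singleton]
        obtain ⟨x0⟩ : Nonempty α := Fintype.card_pos_iff.mp (by omega)
        refine ⟨f x0, ?_⟩
        ext y
        rw [Pi.smul_apply, smul_eq_mul, mul_one]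
        exact hconst f hf x0 y
      · rw [Submodule.span_singleton_le_iff_mem]
        obtain ⟨f, hf, hf0⟩ := (Submodule.ne_bot_iff _).mp hbot
        have : ∃ x, f x ≠ 0 := by
          by_contra hcon
          push Not at hcon
          exact hf0 (funext hcon)
        obtain ⟨x, hx⟩ := this
        have h1 := W.toSubmodule.smul_mem (f x)⁻¹ hf
        have h2 : (f x)⁻¹ • f = fun _ => (1 : K) := by
          ext y
          rw [Pi.smul_apply, smul_eq_mul, hconst f hf y x, inv_mul_cancel₀ hx]
        rwa [h2] at h1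
  · right; right
    push Not at hconst
    obtain ⟨f, hf, a, b, hab⟩ := hconst
    have hab' : a ≠ b := fun h => hab (by rw [h])
    -- choose three more points
    obtain ⟨c, hc⟩ := exists_notMem ({a, b} : Finset α) (by
      have : ({a, b} : Finset α).card ≤ 2 := Finset.card_le_two
      omega)
    obtain ⟨d, hd⟩ := exists_notMem ({a, b, c} : Finset α) (by
      have : ({a, b, c} : Finset α).card ≤ 3 := Finset.card_le_three
      omega)
    obtain ⟨c', hc'⟩ := exists_notMem ({a, b, c, d} : Finset α) (by
      have : ({a, b, c, d} : Finset α).card ≤ 4 := Finset.card_le_four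
      omega)
    simp only [Finset.mem_insert, Finset.mem_singleton, not_or] at hc hd hc'
    obtain ⟨hca, hcb⟩ := hc
    obtain ⟨hda, hdb, hdc⟩ := hd
    obtain ⟨hea, heb, hec, hed⟩ := hc'
    -- u = f - (a b c) f
    have hbc : b ≠ c := Ne.symm hcb
    have hac : a ≠ c := Ne.symm hca
    set u := f - Cfsg.permRep K (alternatingGroup α) α (cyc a b c hab' hbc hac) f with hu
    have huW : u ∈ W.toSubmodule := sub_mem W _ f hf
    have hub : u b ≠ 0 := by
      rw [hu, Pi.sub_apply, permRep_apply, cyc_inv_y]
      exact sub_ne_zero.mpr (Ne.symm hab)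
    have hud : u d = 0 := by
      rw [hu, Pi.sub_apply, permRep_apply, cyc_inv_other _ _ _ _ _ _ d hda hdb hdc, sub_self]
    have hue : u c' = 0 := by
      rw [hu, Pi.sub_apply, permRep_apply, cyc_inv_other _ _ _ _ _ _ c' hea heb hec, sub_self]
    have hdiff : (e b - e d : α → K) ∈ W.toSubmodule :=
      lemL W u huW b d c' (Ne.symm hdb) (Ne.symm hed) (Ne.symm heb) hud hue hub
    -- all differences
    have h2t : MulAction.IsMultiplyPretransitive (alternatingGroup α) α 2 := by
      have := alternatingGroup.isMultiplyPretransitive α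
      apply MulAction.isMultiplyPretransitive_of_le (n := Nat.card α - 2)
      · rw [Nat.card_eq_fintype_card]; omega
      · exact Nat.sub_le _ _
    have hall : ∀ x y : α, x ≠ y → (e x - e y : α → K) ∈ W.toSubmodule := by
      intro x y hxy
      obtain ⟨g, hg1, hg2⟩ := (MulAction.is_two_pretransitive_iff.mp h2t) (Ne.symm hdb) hxy
      have := W.apply_mem_toSubmodule g hdiff
      rwa [map_sub, permRep_e, permRep_e, hg1, hg2] at this
    have hsz : (Cfsg.permSumZero K (alternatingGroup α) α).toSubmodule ≤ W.toSubmodule := by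
      intro h hh
      have hh' : ∑ x, h x = 0 := hh
      have : h = ∑ x, h x • (e x - e a : α → K) := by
        have h1 : ∑ x, h x • (e x - e a : α → K) = ∑ x, h x • (e x : α → K) -
            (∑ x, h x) • (e a : α → K) := by
          rw [Finset.sum_smul, ← Finset.sum_sub_distrib]
          apply Finset.sum_congr rfl
          intro x _
          rw [smul_sub]
        rw [h1, hh', zero_smul, sub_zero]
        exact pi_eq_sum_univ' h
      rw [this]
      apply Submodule.sum_mem
      intro x _
      apply Submodule.smul_mem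
      by_cases hxa : x = a
      · rw [hxa, sub_self]; exact Submodule.zero_mem _
      · exact hall x a hxa
    by_cases heq : W.toSubmodule ≤ (Cfsg.permSumZero K (alternatingGroup α) α).toSubmodule
    · left
      apply Subrepresentation.toSubmodule_injective
      exact le_antisymm heq hsz
    · right
      rw [SetLike.not_le_iff_exists] at heq
      obtain ⟨k, hkW, hk⟩ := heq
      have hks : ∑ x, k x ≠ 0 := hk
      rw [eq_top_iff]
      intro h _
      have h1 : h - ((∑ x, h x) / (∑ x, k x)) • k ∈
          (Cfsg.permSumZero K (alternatingGroup α) α).toSubmodule := by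
        change ∑ x, (h - ((∑ x, h x) / (∑ x, k x)) • k) x = 0
        simp only [Pi.sub_apply, Pi.smul_apply, smul_eq_mul, Finset.sum_sub_distrib,
          ← Finset.mul_sum]
        rw [div_mul_cancel₀ _ hks, sub_self]
      have h2 := W.toSubmodule.add_mem (hsz h1) (W.toSubmodule.smul_mem ((∑ x, h x) / (∑ x, k x)) hkW)
      rwa [sub_add_cancel] at h2

end Cfsg.Agent.S0714
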