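import Mathlib
import Cfsg.Statements.S0716
import Cfsg.Agent.Lib.Helper12.RankFormula

set_option autoImplicit false
open Cfsg

namespace Cfsg.Agent.S0716

open Cfsg.Agent.Helper12.RankFormula Cfsg.Agent.Helper12 Cfsg.Agent.Helper81 Module

set_option maxHeartbeats 1000000 in
/-- (a) If all non-principal irreducible constituents of the permutation character of a transitive group have the same degree `f`, the character is multiplicity-free and all non-trivial subdegrees equal `f`. (b) A transitive group of rank at most 5 has multiplicity-free permutation character. -/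
theorem result {G : Type*} [Group G] [Fintype G] {Ω : Type*} [Fintype Ω] [MulAction G Ω] [MulAction.IsPretransitive G Ω] (a : Ω) : ((f : ℕ) → (∀ χ : G → ℂ, Cfsg.IsIrrCharacter G χ → χ ≠ (fun _ => 1) → Cfsg.classInner (fun g : G => (Nat.card (MulAction.fixedBy Ω g) : ℂ)) χ ≠ 0 → χ 1 = f) → (∀ χ : G → ℂ, Cfsg.IsIrrCharacter G χ → Cfsg.classInner (fun g : G => (Nat.card (MulAction.fixedBy Ω g) : ℂ)) χ = 0 ∨ Cfsg.classInner (fun g : G => (Nat.card (MulAction.fixedBy Ω g) : ℂ)) χ = 1) ∧ ∀ b : Ω, b ≠ a → Nat.card (MulAction.orbit (MulAction.stabilizer G a) b) = f) ∧ (Nat.card (MulAction.orbitRel.Quotient (MulAction.stabilizer G a) Ω) ≤ 5 → ∀ χ : G → ℂ, Cfsg.IsIrrCharacter G χ → Cfsg.classInner (fun g : G => (Nat.card (MulAction.fixedBy Ω g) : ℂ)) χ = 0 ∨ Cfsg.classInner (fun g : G => (Nat.card (MulAction.fixedBy Ω g) : ℂ)) χ = 1) := by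
  classical
  have hchar : (fun g : G => (Nat.card (MulAction.fixedBy Ω g) : ℂ)) =
      (Cfsg.permRep ℂ G Ω).character := by
    funext g
    rw [Cfsg.Agent.S0718.permRep_character]
  rw [hchar]
  have hfin : Finite (IrrCharacter G) := irr_finite
  have hft : Fintype (IrrCharacter G) := Fintype.ofFinite _
  have hne : Nonempty Ω := ⟨a⟩
  choose m hm using (fun χ : IrrCharacter G => exists_mult (Cfsg.permRep ℂ G Ω) χ.1 χ.2)
  choose d hdpos hd using (fun χ : IrrCharacter G => exists_degree χ.1 χ.2)
  let χ₀ : IrrCharacter G := ⟨fun _ => 1, isIrrCharacter_one⟩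
  have hm0 : m χ₀ = 1 := by
    have := hm χ₀
    rw [inner_one] at this
    exact_mod_cast this.symm
  have hd0 : d χ₀ = 1 := by
    have := hd χ₀
    have h1 : χ₀.1 1 = 1 := rfl
    rw [h1] at this
    exact_mod_cast this.symm
  have hQfin : Fintype (MulAction.orbitRel.Quotient (MulAction.stabilizer G a) Ω) :=
    Fintype.ofFinite _
  let ω₀ : MulAction.orbitRel.Quotient (MulAction.stabilizer G a) Ω := Quotient.mk'' a
  let s : MulAction.orbitRel.Quotient (MulAction.stabilizer G a) Ω → ℕ :=
    fun ω => Nat.card (MulAction.orbit (MulAction.stabilizer G a) ω.out)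
  have hn : ∑ χ, m χ * d χ = ∑ ω, s ω := by
    rw [← finrank_expansion (Cfsg.permRep ℂ G Ω) m hm d hd, Module.finrank_fintype_fun_eq_card,
      ← Nat.card_eq_fintype_card,
      Nat.card_congr (MulAction.selfEquivSigmaOrbits (MulAction.stabilizer G a) Ω), Nat.card_sigma]
  have hr : ∑ χ, (m χ) ^ 2 =
      Fintype.card (MulAction.orbitRel.Quotient (MulAction.stabilizer G a) Ω) := by
    have h1 := inner_self_expansion (Cfsg.permRep ℂ G Ω) m hm
    rw [inner_self_eq_rank a, Nat.card_eq_fintype_card] at h1
    exact_mod_cast h1.symm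
  have horb_a : ∀ x, x ∈ MulAction.orbit (MulAction.stabilizer G a) a → x = a := by
    rintro x ⟨g, rfl⟩
    exact g.2
  have hout : ∀ ω : MulAction.orbitRel.Quotient (MulAction.stabilizer G a) Ω,
      ω.out = a → ω = ω₀ := by
    intro ω h
    rw [← Quotient.out_eq' ω, h]
  have hout0 : ω₀.out = a := by
    apply horb_a
    exact Quotient.exact' (Quotient.out_eq' ω₀)
  have hs0 : s ω₀ = 1 := by
    change Nat.card (MulAction.orbit (MulAction.stabilizer G a) ω₀.out) = 1
    rw [hout0]
    have : MulAction.orbit (MulAction.stabilizer G a) a = {a} := by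
      ext x
      constructor
      · intro hx
        exact horb_a x hx
      · rintro rfl
        exact MulAction.mem_orbit_self _
    rw [this]
    simp
  have hspos : ∀ ω, 0 < s ω := by
    intro ω
    have : Nonempty (MulAction.orbit (MulAction.stabilizer G a) ω.out) :=
      ⟨⟨_, MulAction.mem_orbit_self _⟩⟩
    exact Nat.card_pos
  have hmle : ∀ (χ : G → ℂ) (hχ : IsIrrCharacter G χ), m ⟨χ, hχ⟩ ≤ 1 →
      classInner (Cfsg.permRep ℂ G Ω).character χ = 0 ∨
        classInner (Cfsg.permRep ℂ G Ω).character χ = 1 := by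
    intro χ hχ hle
    have := hm ⟨χ, hχ⟩
    rw [this]
    interval_cases m ⟨χ, hχ⟩
    · left; simp
    · right; simp
  have hmne : ∀ (χ : G → ℂ) (hχ : IsIrrCharacter G χ),
      classInner (Cfsg.permRep ℂ G Ω).character χ ≠ 0 → m ⟨χ, hχ⟩ ≠ 0 := by
    intro χ hχ h h0
    apply h
    have := hm ⟨χ, hχ⟩
    rw [this, h0]
    simp
  constructor
  · intro f hfA
    by_cases hf0 : f = 0
    · -- degenerate case
      subst hf0
      have hz : ∀ χ : IrrCharacter G, χ ≠ χ₀ → m χ = 0 := by
        intro χ hχ
        by_contra h0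
        have h1 := hfA χ.1 χ.2 (fun h => hχ (Subtype.ext h)) (by
          rw [hm χ]
          exact_mod_cast h0)
        rw [hd χ] at h1
        have : d χ = 0 := by exact_mod_cast h1
        have := hdpos χ
        omega
      constructor
      · intro χ hχ
        apply hmle χ hχ
        by_cases h : (⟨χ, hχ⟩ : IrrCharacter G) = χ₀
        · rw [h, hm0]
        · rw [hz _ h]
          exact Nat.zero_le 1
      · intro b hb
        exfalso
        have hcard : Fintype.card Ω = 1 := by
          have e1 := Finset.add_sum_erase Finset.univ (fun χ => m χ * d χ) (Finset.mem_univ χ₀)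
          have e2 : ∑ χ ∈ Finset.univ.erase χ₀, m χ * d χ = 0 := by
            apply Finset.sum_eq_zero
            intro χ hχ
            rw [hz χ (Finset.ne_of_mem_erase hχ), zero_mul]
          have e3 := finrank_expansion (Cfsg.permRep ℂ G Ω) m hm d hd
          rw [Module.finrank_fintype_fun_eq_card] at e3
          simp only [hm0, hd0, mul_one] at e1
          omega
        exact hb (Fintype.card_le_one_iff.mp hcard.le b a)
    · have hfpos : 0 < f := Nat.pos_of_ne_zero hf0
      have hf' : ∀ χ : G → ℂ, IsIrrCharacter G χ → χ ≠ (fun _ => 1) →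
          classInner (Cfsg.permRep ℂ G Ω).character χ ≠ 0 → ∃ k : ℕ, χ 1 = (f : ℂ) * k := by
        intro χ hχ h1 h2
        exact ⟨1, by rw [hfA χ hχ h1 h2]; simp⟩
      have key := arith_core χ₀ ω₀ m d s f hfpos hm0 hd0
        (by
          intro χ hχ h0
          have h1 := hfA χ.1 χ.2 (fun h => hχ (Subtype.ext h)) (by
            rw [hm χ]
            exact_mod_cast h0)
          rw [hd χ] at h1
          exact_mod_cast h1)
        hs0
        (by
          intro ω hω
          refine ⟨?_, hspos ω⟩
          exact Orbital.subdegree_dvd f hf' a ω.out (fun h => hω (hout ω h)))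
        hn hr
      constructor
      · intro χ hχ
        exact hmle χ hχ (key.1 _)
      · intro b hb
        have hω : (Quotient.mk'' b : MulAction.orbitRel.Quotient (MulAction.stabilizer G a) Ω) ≠
            ω₀ := by
          intro h
          apply hb
          apply horb_a
          exact Quotient.exact' h
        have h1 := key.2 _ hω
        have h2 : MulAction.orbit (MulAction.stabilizer G a)
            (Quotient.mk'' b : MulAction.orbitRel.Quotient (MulAction.stabilizer G a) Ω).out =
            MulAction.orbit (MulAction.stabilizer G a) b := by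
          rw [MulAction.orbit_eq_iff]
          have h3 : (Quotient.mk''
              (Quotient.mk'' b : MulAction.orbitRel.Quotient (MulAction.stabilizer G a) Ω).out :
              MulAction.orbitRel.Quotient (MulAction.stabilizer G a) Ω) = Quotient.mk'' b :=
            Quotient.out_eq' _
          exact Quotient.exact' h3
        change Nat.card (MulAction.orbit (MulAction.stabilizer G a)
          (Quotient.mk'' b : MulAction.orbitRel.Quotient (MulAction.stabilizer G a) Ω).out) = f
          at h1
        rw [h2] at h1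
        exact h1
  · intro h5 χ hχ
    apply hmle χ hχ
    by_contra hlt
    push Not at hlt
    have h01 : (⟨χ, hχ⟩ : IrrCharacter G) ≠ χ₀ := by
      intro h
      rw [h, hm0] at hlt
      omega
    rw [Nat.card_eq_fintype_card] at h5
    refine arith_rank5 χ₀ ⟨χ, hχ⟩ ω₀ m d s hm0 hd0 h01 hlt (hdpos _) hs0 ?_ hspos hn hr h5
    intro honly ω hω
    apply Orbital.subdegree_dvd (d ⟨χ, hχ⟩) _ a ω.out (fun h => hω (hout ω h))
    intro ψ hψ h1 h2
    have h3 := honly ⟨ψ, hψ⟩ (fun h => h1 (congrArg Subtype.val h)) (hmne ψ hψ h2)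
    have h4 : ψ = χ := congrArg Subtype.val h3
    refine ⟨1, ?_⟩
    rw [h4]
    have := hd ⟨χ, hχ⟩
    simp only [Nat.cast_one, mul_one]
    exact this

end Cfsg.Agent.S0716
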