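import Mathlib
import Cfsg.Statements.S0719
import Cfsg.Agent.Lib.Helper12.OrbitalSpec
import Cfsg.Agent.Lib.Helper12.Rank3

set_option autoImplicit false
open Cfsg

namespace Cfsg.Agent.S0719

open Cfsg.Agent.Helper81 Cfsg.Agent.Helper12.Orbital Cfsg.Agent.Helper12.RankFormula
  Cfsg.Agent.Helper12.OrbitalSpec Cfsg.Agent.Helper12.Rank3

theorem int_of_mul_eq (z : ℂ) (hz : IsIntegral ℤ z) (D N : ℤ) (hD : D ≠ 0)
    (h : z * D = N) : ∃ t : ℤ, z = t := by
  have hDc : (D : ℂ) ≠ 0 := by exact_mod_cast hD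
  have hq : (((N : ℚ) / D : ℚ) : ℂ) = z := by
    push_cast
    rw [div_eq_iff hDc]
    exact h.symm
  have hqi : IsIntegral ℤ (algebraMap ℚ ℂ ((N : ℚ) / D)) := by
    rw [eq_ratCast, hq]
    exact hz
  rw [isIntegral_algebraMap_iff (algebraMap ℚ ℂ).injective, IsIntegrallyClosed.isIntegral_iff] at hqi
  obtain ⟨n, hn⟩ := hqi
  refine ⟨n, ?_⟩
  rw [← hq, ← hn]
  simp

theorem arith_int (k m : ℕ) (t : ℤ) (hk : 2 ≤ k) (hkm : k + 1 ≤ m)
    (hE : (2 * (k : ℤ) ^ 2 - 2 * k - 4 * ((m : ℤ) - 1) * k * t +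
      ((m : ℤ) - 1) * (2 * m - 1) * t ^ 2) = 0) :
    ∃ a : ℕ, 0 < a ∧ m = 2 * a ^ 2 + 2 * a + 1 ∧ k = a * (2 * a + 1) := by
  have hK : (2 : ℤ) ≤ k := by exact_mod_cast hk
  have hM : (k : ℤ) + 1 ≤ m := by exact_mod_cast hkm
  have ht01 : t = 0 ∨ t = 1 := by
    by_contra hcon
    push Not at hcon
    obtain ⟨h0, h1⟩ := hcon
    rcases lt_or_gt_of_ne h0 with hneg | hpos
    · -- t ≤ -1
      have hu : 1 ≤ -t := by omega
      have p1 : 0 ≤ ((m : ℤ) - 1) * k * (-t) := by
        apply mul_nonneg (mul_nonneg (by linarith) (by linarith)) (by linarith)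
      have p2 : 0 < ((m : ℤ) - 1) * (2 * m - 1) * t ^ 2 := by
        apply mul_pos (mul_pos (by linarith) (by linarith))
        positivity
      have p3 : 0 ≤ 2 * (k : ℤ) ^ 2 - 2 * k := by nlinarith
      nlinarith
    · -- t ≥ 2
      have ht2 : 2 ≤ t := by omega
      have p1 : 0 < (2 * (m : ℤ) - 1) * t - 4 * k := by nlinarith
      have p2 : 0 < ((m : ℤ) - 1) * t * ((2 * (m : ℤ) - 1) * t - 4 * k) := by
        apply mul_pos (mul_pos (by linarith) (by linarith)) p1
      have p3 : 0 ≤ 2 * (k : ℤ) ^ 2 - 2 * k := by nlinarith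
      nlinarith
  rcases ht01 with rfl | rfl
  · exfalso
    nlinarith
  · obtain ⟨d, hd⟩ : ∃ d : ℕ, m = k + d := ⟨m - k, by omega⟩
    have hdZ : (m : ℤ) = k + d := by exact_mod_cast hd
    have heq : (k : ℤ) + d = 2 * (d : ℤ) ^ 2 - 2 * d + 1 := by
      rw [hdZ] at hE
      nlinarith
    have hd0 : d ≠ 0 := by
      rintro rfl
      simp at heq
      omega
    have hd1 : d ≠ 1 := by
      rintro rfl
      simp at heq
      omega
    obtain ⟨a, rfl⟩ : ∃ a : ℕ, d = a + 1 := ⟨d - 1, by omega⟩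
    have hkZ : (k : ℤ) = 2 * (a : ℤ) ^ 2 + a := by
      push_cast at heq
      linarith
    have hk' : k = 2 * a ^ 2 + a := by exact_mod_cast hkZ
    refine ⟨a, by omega, ?_, ?_⟩
    · rw [hd, hk']; ring
    · rw [hk']; ring

theorem arith (k m : ℕ) (r s : ℂ) (hr : IsIntegral ℤ r) (hs : IsIntegral ℤ s) (hk : 2 ≤ k)
    (hkm : k + 1 ≤ m)
    (h1 : (k : ℂ) + ((m : ℂ) - 1) * r + m * s = 0)
    (h2 : (k : ℂ) ^ 2 + ((m : ℂ) - 1) * r ^ 2 + m * s ^ 2 = 2 * m * k)
    (T : ℤ) (h3 : (k : ℂ) ^ 3 + ((m : ℂ) - 1) * r ^ 3 + m * s ^ 3 = T) :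
    ∃ a : ℕ, 0 < a ∧ m = 2 * a ^ 2 + 2 * a + 1 ∧ k = a * (2 * a + 1) := by
  have hm3 : 3 ≤ m := by omega
  have hmc : (m : ℂ) ≠ 0 := by
    have : m ≠ 0 := by omega
    exact_mod_cast this
  have hm1c : (m : ℂ) - 1 ≠ 0 := by
    have h : (m : ℂ) ≠ 1 := by
      have : m ≠ 1 := by omega
      exact_mod_cast this
    exact sub_ne_zero.mpr h
  -- r + s is an integer
  have hsum : ∃ t : ℤ, r + s = -t := by
    by_cases hrs : r = s
    · subst hrs
      have h : r * ((2 * (m : ℤ) - 1 : ℤ) : ℂ) = ((-(k : ℤ) : ℤ) : ℂ) := by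
        push_cast
        linear_combination h1
      have hD : (2 * (m : ℤ) - 1) ≠ 0 := by omega
      obtain ⟨t', ht'⟩ := int_of_mul_eq r hr _ _ hD h
      refine ⟨-(2 * t'), ?_⟩
      rw [ht']
      push_cast
      ring
    · have hu1 : (-(k : ℂ)) = ((m : ℂ) - 1) * r + m * s := by linear_combination -h1
      have hu2 : 2 * (m : ℂ) * k - (k : ℂ) ^ 2 = ((m : ℂ) - 1) * r ^ 2 + m * s ^ 2 := by
        linear_combination -h2
      have hu3 : (T : ℂ) - (k : ℂ) ^ 3 = ((m : ℂ) - 1) * r ^ 3 + m * s ^ 3 := by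
        linear_combination -h3
      set D : ℤ := (k : ℤ) ^ 2 - (2 * (m : ℤ) - 1) * (2 * m * k - (k : ℤ) ^ 2) with hDdef
      set N : ℤ := (-(k : ℤ)) * (2 * m * k - (k : ℤ) ^ 2) - (2 * (m : ℤ) - 1) * (T - (k : ℤ) ^ 3)
        with hNdef
      have hDc : (D : ℂ) = -(((m : ℂ) - 1) * m * (r - s) ^ 2) := by
        have : (D : ℂ) = (-(k : ℂ)) ^ 2 - (2 * (m : ℂ) - 1) * (2 * (m : ℂ) * k - (k : ℂ) ^ 2) := by
          rw [hDdef]; push_cast; ring
        rw [this, hu1, hu2]
        ring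
      have hNc : (N : ℂ) = (r + s) * (D : ℂ) := by
        have : (N : ℂ) = (-(k : ℂ)) * (2 * (m : ℂ) * k - (k : ℂ) ^ 2) -
            (2 * (m : ℂ) - 1) * ((T : ℂ) - (k : ℂ) ^ 3) := by
          rw [hNdef]; push_cast; ring
        rw [this, hDc, hu1, hu2, hu3]
        ring
      have hD0 : D ≠ 0 := by
        intro h0
        have : (D : ℂ) = 0 := by rw [h0]; simp
        rw [hDc, neg_eq_zero] at this
        rcases mul_eq_zero.mp this with h | h
        · rcases mul_eq_zero.mp h with h | h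
          · exact hm1c h
          · exact hmc h
        · exact hrs (sub_eq_zero.mp ((pow_eq_zero_iff (two_ne_zero)).mp h))
      obtain ⟨t', ht'⟩ := int_of_mul_eq (r + s) (hr.add hs) D N hD0 hNc.symm
      refine ⟨-t', ?_⟩
      rw [ht']
      push_cast
      ring
  obtain ⟨t, ht⟩ := hsum
  have hr' : r = k - m * t := by linear_combination -h1 + (m : ℂ) * ht
  have hs' : s = ((m : ℂ) - 1) * t - k := by linear_combination ht - hr'
  have hEc : (m : ℂ) * (2 * (k : ℂ) ^ 2 - 2 * k - 4 * ((m : ℂ) - 1) * k * t +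
      ((m : ℂ) - 1) * (2 * m - 1) * t ^ 2) = 0 := by
    rw [hr', hs'] at h2
    linear_combination h2
  have hEc' : (2 * (k : ℂ) ^ 2 - 2 * k - 4 * ((m : ℂ) - 1) * k * t +
      ((m : ℂ) - 1) * (2 * m - 1) * t ^ 2) = 0 := by
    rcases mul_eq_zero.mp hEc with h | h
    · exact absurd h hmc
    · exact h
  have hE : (2 * (k : ℤ) ^ 2 - 2 * k - 4 * ((m : ℤ) - 1) * k * t +
      ((m : ℤ) - 1) * (2 * m - 1) * t ^ 2) = 0 := by
    exact_mod_cast hEc'
  exact arith_int k m t hk hkm hE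

section core
variable {G : Type*} [Group G] [Fintype G] {Ω : Type*} [Fintype Ω] [DecidableEq Ω]
    [MulAction G Ω]

theorem core [MulAction.IsPretransitive G Ω] [Nonempty Ω] {m : ℕ}
    (hm : Fintype.card Ω = 2 * m) (a₀ b : Ω) (hb : b ≠ a₀) (hsp : Orb G a₀ b b a₀)
    (χ₁ χ₂ : G → ℂ) (h₁ : IsIrrCharacter G χ₁) (h₂ : IsIrrCharacter G χ₂)
    (hπ : (permRep ℂ G Ω).character = fun g => 1 + χ₁ g + χ₂ g)
    (hne1 : χ₁ ≠ fun _ => 1) (hne2 : χ₂ ≠ fun _ => 1)
    (hd₁ : χ₁ 1 = (m : ℂ) - 1) (hd₂ : χ₂ 1 = m)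
    (hk2 : 2 ≤ Nat.card (MulAction.orbit (MulAction.stabilizer G a₀) b))
    (hkm : Nat.card (MulAction.orbit (MulAction.stabilizer G a₀) b) + 1 ≤ m) :
    ∃ a : ℕ, 0 < a ∧ m = 2 * a ^ 2 + 2 * a + 1 ∧
      Nat.card (MulAction.orbit (MulAction.stabilizer G a₀) b) = a * (2 * a + 1) := by
  set k := Nat.card (MulAction.orbit (MulAction.stabilizer G a₀) b) with hk
  have h12 : χ₁ ≠ χ₂ := by
    intro h
    have := congrFun h 1
    rw [hd₁, hd₂] at this
    have h0 : (m : ℂ) - 1 - m = 0 := sub_eq_zero.mpr this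
    ring_nf at h0
    norm_num at h0
  let χ : Fin 3 → G → ℂ := ![fun _ => 1, χ₁, χ₂]
  have hirr : ∀ i, IsIrrCharacter G (χ i) := by
    intro i
    fin_cases i
    · exact isIrrCharacter_one
    · exact h₁
    · exact h₂
  have hinj : Function.Injective χ := by
    intro i j hij
    fin_cases i <;> fin_cases j <;> first | rfl | (exfalso; simp [χ] at hij; first | exact hne1 hij | exact hne1 hij.symm | exact hne2 hij | exact hne2 hij.symm | exact h12 hij | exact h12 hij.symm)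
  have hπ' : (permRep ℂ G Ω).character = ∑ i, χ i := by
    rw [hπ, Fin.sum_univ_three]
    funext g
    simp [χ]
  obtain ⟨θ, hint, htriv, htr⟩ := spectrum (G := G) a₀ b χ hirr hinj hπ'
  have hθ0 : θ 0 = (k : ℂ) := htriv 0 rfl
  have e1 := htr 1
  have e2 := htr 2
  have e3 := htr 3
  rw [Fin.sum_univ_three] at e1 e2 e3
  simp only [χ, Matrix.cons_val_zero, Matrix.cons_val_one, Matrix.cons_val_two, Matrix.head_cons,
    Matrix.tail_cons] at e1 e2 e3
  rw [hθ0, hd₁, hd₂] at e1 e2 e3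
  rw [pow_one, trace_matC a₀ b hb] at e1
  rw [trace_sq a₀ b hsp, hm] at e2
  obtain ⟨T, hT⟩ := trace_pow_int (G := G) a₀ b 3
  rw [hT] at e3
  apply arith k m (θ 1) (θ 2) (hint 1) (hint 2) hk2 hkm _ _ T _
  · linear_combination -e1
  · rw [← hk] at e2
    push_cast at e2
    linear_combination -e2
  · linear_combination -e3

end core

/-- Groups of Wielandt type: if a primitive group of degree `2m` has rank 3 and permutation character `1 + χ₁ + χ₂` with irreducible `χ₁, χ₂` of degrees `m - 1` and `m`, then `m = 2a² + 2a + 1` for some positive integer `a` and the two non-trivial subdegrees are `a(2a+1)` and `(a+1)(2a+1)`. -/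
theorem result {G : Type*} [Group G] [Fintype G] {Ω : Type*} [Fintype Ω] [MulAction G Ω] (hprim : MulAction.IsPreprimitive G Ω) {m : ℕ} (hm : Fintype.card Ω = 2 * m) (a₀ : Ω) (hrank : Nat.card (MulAction.orbitRel.Quotient (MulAction.stabilizer G a₀) Ω) = 3) (χ₁ χ₂ : G → ℂ) (h₁ : Cfsg.IsIrrCharacter G χ₁) (h₂ : Cfsg.IsIrrCharacter G χ₂) (hπ : (fun g : G => (Nat.card (MulAction.fixedBy Ω g) : ℂ)) = fun g => 1 + χ₁ g + χ₂ g) (hd₁ : χ₁ 1 = (m : ℂ) - 1) (hd₂ : χ₂ 1 = m) : ∃ a : ℕ, 0 < a ∧ m = 2 * a ^ 2 + 2 * a + 1 ∧ ∀ b : Ω, b ≠ a₀ → Nat.card (MulAction.orbit (MulAction.stabilizer G a₀) b) = a * (2 * a + 1) ∨ Nat.card (MulAction.orbit (MulAction.stabilizer G a₀) b) = (a + 1) * (2 * a + 1) := by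
  classical
  have : MulAction.IsPretransitive G Ω := hprim.toIsPretransitive
  have : Nonempty Ω := ⟨a₀⟩
  have hπ' : (permRep ℂ G Ω).character = fun g => 1 + χ₁ g + χ₂ g := by
    rw [← hπ]
    funext g
    exact Cfsg.Agent.S0718.permRep_character g
  -- χ₁, χ₂ are not the principal character
  have hin := inner_one (G := G) (Ω := Ω)
  have hsplit : classInner (permRep ℂ G Ω).character (fun _ => 1) =
      1 + (if χ₁ = (fun _ => 1) then 1 else 0) + (if χ₂ = (fun _ => 1) then 1 else 0) := by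
    have : (permRep ℂ G Ω).character = (fun _ => (1 : ℂ)) + χ₁ + χ₂ := by
      rw [hπ']; rfl
    rw [this, classInner_add_left, classInner_add_left,
      irr_orthonormal isIrrCharacter_one isIrrCharacter_one, if_pos rfl,
      irr_orthonormal h₁ isIrrCharacter_one, irr_orthonormal h₂ isIrrCharacter_one]
  rw [hin] at hsplit
  have hne1 : χ₁ ≠ fun _ => 1 := by
    intro h
    rw [if_pos h] at hsplit
    split_ifs at hsplit <;> norm_num at hsplit
  have hne2 : χ₂ ≠ fun _ => 1 := by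
    intro h
    rw [if_pos h] at hsplit
    split_ifs at hsplit <;> norm_num at hsplit
  obtain ⟨b, c, hb, hc, hall, hsum⟩ := rank3_structure (G := G) a₀ hrank
  set k := Nat.card (MulAction.orbit (MulAction.stabilizer G a₀) b) with hk
  set l := Nat.card (MulAction.orbit (MulAction.stabilizer G a₀) c) with hl
  rw [hm] at hsum
  have hkl : k ≠ l := by omega
  have hpos : ∀ x : Ω, 0 < Nat.card (MulAction.orbit (MulAction.stabilizer G a₀) x) := by
    intro x
    have : Nonempty (MulAction.orbit (MulAction.stabilizer G a₀) x) :=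
      ⟨⟨_, MulAction.mem_orbit_self _⟩⟩
    exact Nat.card_pos
  -- self-pairedness
  have hself : ∀ (y z : Ω), y ≠ a₀ →
      (∀ x, x ≠ a₀ → MulAction.orbit (MulAction.stabilizer G a₀) x =
          MulAction.orbit (MulAction.stabilizer G a₀) y ∨
        MulAction.orbit (MulAction.stabilizer G a₀) x =
          MulAction.orbit (MulAction.stabilizer G a₀) z) →
      Nat.card (MulAction.orbit (MulAction.stabilizer G a₀) y) ≠
        Nat.card (MulAction.orbit (MulAction.stabilizer G a₀) z) → Orb G a₀ y y a₀ := by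
    intro y z hy hyz hcard
    obtain ⟨h, hh⟩ := MulAction.exists_smul_eq G y a₀
    have hne : h • a₀ ≠ a₀ := by
      intro h'
      apply hy
      have : h • y = h • a₀ := by rw [hh, h']
      exact smul_left_cancel h this
    have hpc := paired_card' (G := G) a₀ y h hh
    rcases hyz (h • a₀) hne with ho | ho
    · have hmem : h • a₀ ∈ MulAction.orbit (MulAction.stabilizer G a₀) y := by
        rw [← ho]; exact MulAction.mem_orbit_self _
      obtain ⟨g, hg⟩ := hmem
      refine ⟨h⁻¹ * g.1, ?_, ?_⟩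
      · rw [mul_smul, g.2, ← hh, inv_smul_smul]
      · have hg' : g.1 • y = h • a₀ := hg
        rw [mul_smul, hg', inv_smul_smul]
    · exfalso
      apply hcard
      rw [← hpc, ho]
  have hspb : Orb G a₀ b b a₀ := hself b c hb hall hkl
  have hspc : Orb G a₀ c c a₀ :=
    hself c b hc (fun x hx => (hall x hx).symm) (fun h => hkl h.symm)
  -- subdegrees are at least 2
  have hk1 : k ≠ 1 := by
    intro h1
    have := all_trivial_of_one hprim a₀ b hb h1 c
    omega
  have hl1 : l ≠ 1 := by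
    intro h1
    have := all_trivial_of_one hprim a₀ c hc h1 b
    omega
  have hkpos := hpos b
  have hlpos := hpos c
  rcases lt_or_gt_of_ne hkl with hlt | hgt
  · obtain ⟨a, ha, hma, hka⟩ := core (G := G) hm a₀ b hb hspb χ₁ χ₂ h₁ h₂ hπ' hne1 hne2 hd₁ hd₂
      (by omega) (by omega)
    refine ⟨a, ha, hma, ?_⟩
    have hla : l = (a + 1) * (2 * a + 1) := by
      have h1 : l = 2 * m - 1 - k := by omega
      rw [h1, hk, hka, hma]
      have : 2 * (2 * a ^ 2 + 2 * a + 1) - 1 - a * (2 * a + 1) = (a + 1) * (2 * a + 1) := by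
        have h2 : 2 * (2 * a ^ 2 + 2 * a + 1) = (a + 1) * (2 * a + 1) + 1 + a * (2 * a + 1) := by
          ring
        omega
      exact this
    intro x hx
    rcases hall x hx with ho | ho
    · left; rw [ho]; exact hka
    · right; rw [ho]; exact hla
  · obtain ⟨a, ha, hma, hla⟩ := core (G := G) hm a₀ c hc hspc χ₁ χ₂ h₁ h₂ hπ' hne1 hne2 hd₁ hd₂
      (by omega) (by omega)
    refine ⟨a, ha, hma, ?_⟩
    have hka : k = (a + 1) * (2 * a + 1) := by
      have h1 : k = 2 * m - 1 - l := by omega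
      rw [h1, hl, hla, hma]
      have : 2 * (2 * a ^ 2 + 2 * a + 1) - 1 - a * (2 * a + 1) = (a + 1) * (2 * a + 1) := by
        have h2 : 2 * (2 * a ^ 2 + 2 * a + 1) = (a + 1) * (2 * a + 1) + 1 + a * (2 * a + 1) := by
          ring
        omega
      exact this
    intro x hx
    rcases hall x hx with ho | ho
    · right; rw [ho]; exact hka
    · left; rw [ho]; exact hla

end Cfsg.Agent.S0719
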