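import Cfsg.Statements.S0721
import Mathlib

set_option autoImplicit false
open Cfsg

namespace Cfsg.Agent.S0721

section
variable {H : Type*} [Group H]

/-- `X` is normalized by `N`. -/
def Nrm (N X : Subgroup H) : Prop := ∀ n ∈ N, ∀ x ∈ X, n * x * n⁻¹ ∈ X

/-- conjugate subgroup -/
def cj (h : H) (S : Subgroup H) : Subgroup H := S.map (MulAut.conj h).toMonoidHom

theorem mem_cj {h x : H} {S : Subgroup H} : x ∈ cj h S ↔ h⁻¹ * x * h ∈ S := by
  unfold cj
  rw [Subgroup.mem_map_equiv]
  simp [MulAut.conj_symm_apply]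

theorem cj_ne_bot {h : H} {S : Subgroup H} (hS : S ≠ ⊥) : cj h S ≠ ⊥ := by
  intro hb
  apply hS
  rw [Subgroup.eq_bot_iff_forall] at hb ⊢
  intro x hx
  have : h * x * h⁻¹ ∈ cj h S := by
    rw [mem_cj]; simpa [mul_assoc] using hx
  have h1 := hb _ this
  have h2 : x = h⁻¹ * (h * x * h⁻¹) * h := by group
  rw [h2, h1]; group

/-- minimal `N`-invariant subgroup of `N` -/
structure MinN (N S : Subgroup H) : Prop where
  le : S ≤ N
  ne : S ≠ ⊥
  nrm : Nrm N S
  min : ∀ R : Subgroup H, R ≤ S → R ≠ ⊥ → Nrm N R → R = S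

theorem nrm_cj {N S : Subgroup H} [hN : N.Normal] (h : H) (hS : Nrm N S) : Nrm N (cj h S) := by
  intro n hn x hx
  rw [mem_cj] at hx ⊢
  have hn' : h⁻¹ * n * h ∈ N := by
    have := hN.conj_mem n hn h⁻¹
    simpa using this
  have := hS _ hn' _ hx
  have e : h⁻¹ * (n * x * n⁻¹) * h = h⁻¹ * n * h * (h⁻¹ * x * h) * (h⁻¹ * n * h)⁻¹ := by group
  rw [e]; exact this

theorem cj_le {N S : Subgroup H} [hN : N.Normal] (h : H) (hS : S ≤ N) : cj h S ≤ N := by
  intro x hx
  rw [mem_cj] at hx
  have := hN.conj_mem _ (hS hx) h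
  have e : h * (h⁻¹ * x * h) * h⁻¹ = x := by group
  rwa [e] at this

theorem cj_cj_inv (h : H) (S : Subgroup H) : cj h⁻¹ (cj h S) = S := by
  ext x
  rw [mem_cj, mem_cj]
  have e : h⁻¹ * (h⁻¹⁻¹ * x * h⁻¹) * h = x := by group
  rw [e]

theorem cj_mono {h : H} {R S : Subgroup H} (hRS : R ≤ S) : cj h R ≤ cj h S :=
  Subgroup.map_mono hRS

theorem minN_cj {N S : Subgroup H} [hN : N.Normal] (h : H) (hS : MinN N S) : MinN N (cj h S) where
  le := cj_le h hS.le
  ne := cj_ne_bot hS.ne
  nrm := nrm_cj h hS.nrm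
  min := by
    intro R hR hR0 hRn
    have h1 : cj h⁻¹ R ≤ S := by
      have := cj_mono (h := h⁻¹) hR
      rwa [cj_cj_inv] at this
    have h2 := hS.min _ h1 (cj_ne_bot hR0) (nrm_cj h⁻¹ hRn)
    have h3 : cj h (cj h⁻¹ R) = R := by
      have := cj_cj_inv h⁻¹ R
      rwa [inv_inv] at this
    rw [← h3, h2]

theorem exists_minN [Finite H] (N : Subgroup H) (hN : N ≠ ⊥) (hNN : Nrm N N) :
    ∃ S, MinN N S := by
  let 𝒮 : Set (Subgroup H) := {X | X ≤ N ∧ X ≠ ⊥ ∧ Nrm N X}
  have hfin : 𝒮.Finite := Set.toFinite _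
  have hne : 𝒮.Nonempty := ⟨N, le_refl _, hN, hNN⟩
  obtain ⟨S, hS, hmin⟩ := Set.exists_min_image 𝒮 (fun X => Nat.card X) hfin hne
  refine ⟨S, hS.1, hS.2.1, hS.2.2, ?_⟩
  intro R hRS hR0 hRn
  have h1 : Nat.card S ≤ Nat.card R := hmin R ⟨hRS.trans hS.1, hR0, hRn⟩
  exact Subgroup.eq_of_le_of_card_ge hRS h1

theorem commute_of_disjoint {N M K : Subgroup H} (hM : M ≤ N) (hK : K ≤ N) (hMn : Nrm N M)
    (hKn : Nrm N K) (hdis : M ⊓ K = ⊥) : ∀ x ∈ M, ∀ y ∈ K, x * y = y * x := by
  intro x hx y hy
  have h1 : x * y * x⁻¹ * y⁻¹ ∈ M ⊓ K := by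
    constructor
    · have := hMn y (hK hy) x⁻¹ (M.inv_mem hx)
      have e : x * y * x⁻¹ * y⁻¹ = x * (y * x⁻¹ * y⁻¹) := by group
      rw [e]; exact M.mul_mem hx this
    · have := hKn x (hM hx) y hy
      exact K.mul_mem this (K.inv_mem hy)
  rw [hdis, Subgroup.mem_bot] at h1
  have e : x * y = (x * y * x⁻¹ * y⁻¹) * (y * x) := by group
  rw [e, h1, one_mul]

/-- internal direct product -/
noncomputable def supEquivProd {M K : Subgroup H} (hc : ∀ x ∈ M, ∀ y ∈ K, x * y = y * x)
    (hdis : M ⊓ K = ⊥) : (M ⊔ K : Subgroup H) ≃* M × K := by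
  have hcm : ∀ (m : M) (k : K), Commute (M.subtype m) (K.subtype k) :=
    fun m k => hc m.1 m.2 k.1 k.2
  have hinj : Function.Injective (MonoidHom.noncommCoprod M.subtype K.subtype hcm) := by
    rw [MonoidHom.noncommCoprod_injective]
    refine ⟨Subgroup.subtype_injective M, Subgroup.subtype_injective K, ?_⟩
    rw [Subgroup.range_subtype, Subgroup.range_subtype, disjoint_iff]
    exact hdis
  have hrange : (MonoidHom.noncommCoprod M.subtype K.subtype hcm).range = M ⊔ K := by
    rw [MonoidHom.noncommCoprod_range, Subgroup.range_subtype, Subgroup.range_subtype]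
  exact ((MonoidHom.ofInjective hinj).trans (MulEquiv.subgroupCongr hrange)).symm

/-- `T × T^m ≃* T^(m+1)` -/
def consMulEquiv (T : Type*) [Group T] (m : ℕ) : (T × (Fin m → T)) ≃* (Fin (m + 1) → T) :=
  { Fin.consEquiv (fun _ => T) with
    map_mul' := by
      rintro ⟨a, f⟩ ⟨b, g⟩
      funext i
      refine Fin.cases ?_ ?_ i
      · simp [Fin.consEquiv]
      · intro j; simp [Fin.consEquiv] }

end

theorem main {H : Type*} [Group H] [Finite H] (N : Subgroup H) [hNn : N.Normal] (hN : N ≠ ⊥)
    (hmin : ∀ M : Subgroup H, M.Normal → M ≤ N → M = ⊥ ∨ M = N) :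
    ∃ S : Subgroup H, IsSimpleGroup S ∧ ∃ m : ℕ, 0 < m ∧ Nonempty (N ≃* (Fin m → S)) := by
  have hNN : Nrm N N := fun n hn x hx => N.mul_mem (N.mul_mem hn hx) (N.inv_mem hn)
  obtain ⟨S, hS⟩ := exists_minN N hN hNN
  -- the invariant
  let P : Subgroup H → Prop := fun M => S ≤ M ∧ M ≤ N ∧ Nrm N M ∧
    (∀ R : Subgroup H, R ≤ S → Nrm S R → Nrm M R) ∧
    ∃ m : ℕ, 0 < m ∧ Nonempty (M ≃* (Fin m → S))
  have hPS : P S := by
    refine ⟨le_refl _, hS.le, hS.nrm, fun R _ h => h, 1, Nat.one_pos, ?_⟩
    exact ⟨(MulEquiv.funUnique (Fin 1) S).symm⟩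
  have hfin : {M | P M}.Finite := Set.toFinite _
  obtain ⟨M, hPM, hmax⟩ := Set.exists_max_image {M | P M} (fun X => Nat.card X) hfin ⟨S, hPS⟩
  obtain ⟨hSM, hMN, hMn, hMZ, m, hm, ⟨eM⟩⟩ := hPM
  -- M = N
  have hMeq : M = N := by
    by_contra hne
    -- some conjugate of S is not inside M
    have hex : ∃ h : H, ¬ cj h S ≤ M := by
      by_contra hcon
      push Not at hcon
      -- normal closure of S
      have hle : Subgroup.normalClosure (S : Set H) ≤ M := by
        rw [Subgroup.normalClosure]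
        rw [Subgroup.closure_le]
        intro x hx
        rw [Group.mem_conjugatesOfSet_iff] at hx
        obtain ⟨s, hs, hconj⟩ := hx
        rw [isConj_iff] at hconj
        obtain ⟨h, rfl⟩ := hconj
        apply hcon h
        rw [mem_cj]
        have e : h⁻¹ * (h * s * h⁻¹) * h = s := by group
        rw [e]; exact hs
      have hnc : (Subgroup.normalClosure (S : Set H)).Normal := Subgroup.normalClosure_normal
      have hle2 : Subgroup.normalClosure (S : Set H) ≤ N := hle.trans hMN
      rcases hmin _ hnc hle2 with h0 | h0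
      · apply hS.ne
        rw [eq_bot_iff, ← h0]
        exact Subgroup.le_normalClosure
      · apply hne
        apply le_antisymm hMN
        rw [← h0]; exact hle
    obtain ⟨h, hh⟩ := hex
    set K := cj h S with hK
    have hKmin : MinN N K := minN_cj h hS
    have hdis : M ⊓ K = ⊥ := by
      by_contra hnb
      have h1 : Nrm N (M ⊓ K) := by
        intro n hn x hx
        exact ⟨hMn n hn x hx.1, hKmin.nrm n hn x hx.2⟩
      have h2 := hKmin.min (M ⊓ K) inf_le_right hnb h1
      apply hh
      rw [← h2]; exact inf_le_left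
    have hc := commute_of_disjoint hMN hKmin.le hMn hKmin.nrm hdis
    -- new subgroup
    have hP' : P (M ⊔ K) := by
      refine ⟨hSM.trans le_sup_left, sup_le hMN hKmin.le, ?_, ?_, m + 1, Nat.succ_pos _, ?_⟩
      · intro n hn x hx
        -- x ∈ M ⊔ K : use closure induction
        have : ∀ x ∈ M ⊔ K, n * x * n⁻¹ ∈ M ⊔ K := by
          intro x hx
          rw [Subgroup.sup_eq_closure_mul] at hx
          induction hx using Subgroup.closure_induction with
          | mem y hy =>
            obtain ⟨a, ha, b, hb, rfl⟩ := hy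
            have e : n * (a * b) * n⁻¹ = (n * a * n⁻¹) * (n * b * n⁻¹) := by group
            rw [e]
            exact Subgroup.mul_mem _ (Subgroup.mem_sup_left (hMn n hn a ha))
              (Subgroup.mem_sup_right (hKmin.nrm n hn b hb))
          | one => simp
          | mul a b _ _ iha ihb =>
            have e : n * (a * b) * n⁻¹ = (n * a * n⁻¹) * (n * b * n⁻¹) := by group
            rw [e]; exact Subgroup.mul_mem _ iha ihb
          | inv a _ iha =>
            have e : n * a⁻¹ * n⁻¹ = (n * a * n⁻¹)⁻¹ := by group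
            rw [e]; exact Subgroup.inv_mem _ iha
        exact this x hx
      · intro R hRS hRn
        -- elements of M normalize R, elements of K centralize S ⊇ R
        have hKc : ∀ k ∈ K, ∀ r ∈ R, k * r * k⁻¹ = r := by
          intro k hk r hr
          have := hc r (hSM (hRS hr)) k hk
          rw [← this]; group
        intro g hg r hr
        have : ∀ g ∈ M ⊔ K, ∀ r ∈ R, g * r * g⁻¹ ∈ R := by
          intro g hg
          rw [Subgroup.sup_eq_closure_mul] at hg
          induction hg using Subgroup.closure_induction with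
          | mem y hy =>
            obtain ⟨a, ha, b, hb, rfl⟩ := hy
            intro r hr
            have e : a * b * r * (a * b)⁻¹ = a * (b * r * b⁻¹) * a⁻¹ := by group
            rw [e, hKc b hb r hr]
            exact hMZ R hRS hRn a ha r hr
          | one => intro r hr; simpa using hr
          | mul a b _ _ iha ihb =>
            intro r hr
            have e : a * b * r * (a * b)⁻¹ = a * (b * r * b⁻¹) * a⁻¹ := by group
            rw [e]; exact iha _ (ihb r hr)
          | inv a _ iha =>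
            intro r hr
            -- conjugation by `a` is an injective self-map of the finite set `R`
            have hinj : Function.Injective (fun r : R => (⟨a * r.1 * a⁻¹, iha r.1 r.2⟩ : R)) := by
              intro r1 r2 h12
              have := congrArg Subtype.val h12
              simp only at this
              apply Subtype.ext
              have e1 : r1.1 = a⁻¹ * (a * r1.1 * a⁻¹) * a := by group
              rw [e1, this]; group
            have hsurj := Finite.surjective_of_injective hinj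
            obtain ⟨r', hr'⟩ := hsurj ⟨r, hr⟩
            have := congrArg Subtype.val hr'
            simp only at this
            have e : a⁻¹ * r * a⁻¹⁻¹ = r'.1 := by
              rw [← this]; group
            rw [e]; exact r'.2
        exact this g hg r hr
      · -- the isomorphism
        have e1 := supEquivProd hc hdis
        have e2 : K ≃* S := ((MulAut.conj h).subgroupMap S).symm
        have e3 : M × K ≃* S × (Fin m → S) :=
          (MulEquiv.prodComm).trans (MulEquiv.prodCongr e2 eM)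
        exact ⟨(e1.trans e3).trans (consMulEquiv S m)⟩
    have hcard := hmax (M ⊔ K) hP'
    have hlt : M < M ⊔ K := by
      apply lt_of_le_of_ne le_sup_left
      intro heq
      apply hh
      rw [heq]; exact le_sup_right
    have := Subgroup.eq_of_le_of_card_ge hlt.le hcard
    exact hlt.ne this
  subst hMeq
  refine ⟨S, ?_, m, hm, ⟨eM⟩⟩
  -- simplicity
  have hnt : Nontrivial S := (Subgroup.nontrivial_iff_ne_bot S).mpr hS.ne
  refine ⟨fun R' hR' => ?_⟩
  let R : Subgroup H := R'.map S.subtype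
  have hRS : R ≤ S := by
    rintro _ ⟨x, _, rfl⟩; exact x.2
  have hRn : Nrm S R := by
    rintro s hs _ ⟨x, hx, rfl⟩
    exact ⟨(⟨s, hs⟩ : S) * x * (⟨s, hs⟩ : S)⁻¹, hR'.conj_mem x hx _, rfl⟩
  have hRN : Nrm M R := hMZ R hRS hRn
  by_cases hR0 : R = ⊥
  · left
    rw [Subgroup.eq_bot_iff_forall] at hR0 ⊢
    intro x hx
    apply Subtype.ext
    exact hR0 _ ⟨x, hx, rfl⟩
  · right
    have := hS.min R hRS hR0 hRN
    rw [eq_top_iff]
    intro x _
    have hx : (x : H) ∈ R := by rw [this]; exact x.2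
    obtain ⟨y, hy, hyx⟩ := hx
    have : y = x := Subtype.ext hyx
    rw [← this]; exact hy

theorem result {H : Type*} [Group H] [Finite H] (N : Subgroup H) [N.Normal] (hN : N ≠ ⊥) (hmin : ∀ M : Subgroup H, M.Normal → M ≤ N → M = ⊥ ∨ M = N) : ∃ (T : Type) (_ : Group T) (m : ℕ), IsSimpleGroup T ∧ 0 < m ∧ Nonempty (N ≃* (Fin m → T)) := by
  obtain ⟨S, hSs, m, hm, ⟨e⟩⟩ := main N hN hmin
  have hsmall : Small.{0} S := Small.mk' (Finite.equivFin S)
  let T := Shrink.{0} S
  let eT : T ≃* S := Shrink.mulEquiv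
  have hnt : Nontrivial T := eT.toEquiv.nontrivial
  refine ⟨T, inferInstance, m, ?_, hm, ?_⟩
  · exact eT.isSimpleGroup
  · exact ⟨e.trans (MulEquiv.piCongrRight (fun _ => eT.symm))⟩

end Cfsg.Agent.S0721
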