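import Cfsg.Statements.S0723
import Mathlib
import Cfsg.Agent.S0721
import Cfsg.Agent.S0722
import Cfsg.Agent.Lib.Helper35.Scott

set_option autoImplicit false
set_option linter.unusedSectionVars false
open Cfsg

namespace Cfsg.Agent.S0723

open Cfsg.Agent.Helper35.Scott

section Setup

variable {H : Type*} [Group H] (N : Subgroup H) [N.Normal] {m : ℕ} {T : Type} [Group T]
  (e₀ : N ≃* (Fin m → T))

/-- the automorphism of `T^m` induced by conjugation by `g` -/
noncomputable def sg (g : H) : (Fin m → T) ≃* (Fin m → T) :=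
  e₀.symm.trans ((MulAut.conjNormal g : MulAut N).trans e₀)

theorem sg_apply (g : H) (x : Fin m → T) :
    sg N e₀ g x = e₀ (MulAut.conjNormal g (e₀.symm x)) := rfl

theorem sg_e (g : H) (n : N) : sg N e₀ g (e₀ n) = e₀ (MulAut.conjNormal g n) := by
  rw [sg_apply, MulEquiv.symm_apply_apply]

theorem sg_mul (g h : H) : sg N e₀ (g * h) = (sg N e₀ h).trans (sg N e₀ g) := by
  apply MulEquiv.ext
  intro x
  rw [MulEquiv.trans_apply, sg_apply, sg_apply, sg_apply, MulEquiv.symm_apply_apply, map_mul,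
    MulAut.mul_apply]

theorem sg_one : sg N e₀ 1 = MulEquiv.refl _ := by
  apply MulEquiv.ext
  intro x
  rw [sg_apply, map_one, MulAut.one_apply, MulEquiv.apply_symm_apply, MulEquiv.refl_apply]

theorem sg_mem (n : H) (hn : n ∈ N) : sg N e₀ n = MulAut.conj (e₀ ⟨n, hn⟩) := by
  apply MulEquiv.ext
  intro x
  rw [sg_apply, MulAut.conj_apply]
  have h : (MulAut.conjNormal n (e₀.symm x) : N) = ⟨n, hn⟩ * e₀.symm x * ⟨n, hn⟩⁻¹ := by
    apply Subtype.ext
    simp [MulAut.conjNormal_apply]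
  rw [h, map_mul, map_mul, map_inv, MulEquiv.apply_symm_apply]

variable [IsSimpleGroup T] (hT : ¬ IsMulCommutative T)

/-- the permutation of the coordinates induced by `g` -/
noncomputable def cd (g : H) (i : Fin m) : Fin m := coord hT (sg N e₀ g) i

theorem cd_mul (g h : H) (i : Fin m) :
    cd N e₀ hT (g * h) i = cd N e₀ hT g (cd N e₀ hT h i) := by
  unfold cd; rw [sg_mul, coord_trans]

theorem cd_one (i : Fin m) : cd N e₀ hT 1 i = i := by
  unfold cd; rw [sg_one, coord_refl]

theorem cd_mem {n : H} (hn : n ∈ N) (i : Fin m) : cd N e₀ hT n i = i := by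
  unfold cd; rw [sg_mem N e₀ n hn, coord_conj]

theorem cd_inv_cd (g : H) (i : Fin m) : cd N e₀ hT g⁻¹ (cd N e₀ hT g i) = i := by
  rw [← cd_mul, inv_mul_cancel, cd_one]

theorem cd_cd_inv (g : H) (i : Fin m) : cd N e₀ hT g (cd N e₀ hT g⁻¹ i) = i := by
  rw [← cd_mul, mul_inv_cancel, cd_one]

/-- the image of `K ∩ N` in `T^m` -/
def DD (K : Subgroup H) : Subgroup (Fin m → T) := (K.subgroupOf N).comap e₀.symm.toMonoidHom

theorem mem_DD {K : Subgroup H} {x : Fin m → T} :
    x ∈ DD N e₀ K ↔ ((e₀.symm x : N) : H) ∈ K := Iff.rfl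

theorem e_mem_DD {K : Subgroup H} {n : N} : e₀ n ∈ DD N e₀ K ↔ (n : H) ∈ K := by
  rw [mem_DD, MulEquiv.symm_apply_apply]

theorem sg_mem_DD {K : Subgroup H} {g : H} (hg : g ∈ K) {x : Fin m → T} :
    sg N e₀ g x ∈ DD N e₀ K ↔ x ∈ DD N e₀ K := by
  rw [mem_DD, mem_DD, sg_apply, MulEquiv.symm_apply_apply, MulAut.conjNormal_apply]
  constructor
  · intro h
    have := K.mul_mem (K.mul_mem (K.inv_mem hg) h) hg
    simpa [mul_assoc] using this
  · intro h
    exact K.mul_mem (K.mul_mem hg h) (K.inv_mem hg)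

include hT in
/-- `H` is transitive on the coordinates. -/
theorem exists_cd [Finite T]
    (hmin : ∀ M : Subgroup H, M.Normal → M ≤ N → M = ⊥ ∨ M = N) (i₀ l : Fin m) :
    ∃ g : H, cd N e₀ hT g i₀ = l := by
  by_contra hl
  let P : Subgroup (Fin m → T) :=
    { carrier := {x | ∀ l, (¬ ∃ g : H, cd N e₀ hT g i₀ = l) → x l = 1}
      one_mem' := fun l _ => rfl
      mul_mem' := fun {x y} hx hy l hl => by rw [Pi.mul_apply, hx l hl, hy l hl, one_mul]
      inv_mem' := fun {x} hx l hl => by rw [Pi.inv_apply, hx l hl, inv_one] }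
  let M : Subgroup H := (P.comap e₀.toMonoidHom).map N.subtype
  have hMN : M ≤ N := by
    rintro _ ⟨n, -, rfl⟩; exact n.2
  have hsgP : ∀ g : H, ∀ y ∈ P, sg N e₀ g y ∈ P := by
    intro g y hy l hl
    obtain ⟨l', rfl⟩ := (coord_bijective hT (sg N e₀ g)).2 l
    apply apply_coord_eq_one
    apply hy
    rintro ⟨g', hg'⟩
    apply hl
    exact ⟨g * g', by rw [cd_mul, hg']; rfl⟩
  have hMnorm : M.Normal := by
    constructor
    rintro _ ⟨n, hn, rfl⟩ g
    refine ⟨MulAut.conjNormal g n, ?_, ?_⟩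
    · show e₀ (MulAut.conjNormal g n) ∈ P
      rw [← sg_e]
      exact hsgP g _ hn
    · simp [MulAut.conjNormal_apply]
  obtain ⟨t₀, ht₀⟩ := exists_ne (1 : T)
  have hmem : ∀ l', (∃ g : H, cd N e₀ hT g i₀ = l') →
      ((e₀.symm (Pi.mulSingle l' t₀) : N) : H) ∈ M := by
    intro l' hl'
    refine ⟨e₀.symm (Pi.mulSingle l' t₀), ?_, rfl⟩
    show e₀ (e₀.symm _) ∈ P
    rw [MulEquiv.apply_symm_apply]
    intro l'' hl''
    rw [Pi.mulSingle_eq_of_ne]
    rintro rfl
    exact hl'' hl'
  rcases hmin M hMnorm hMN with h | h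
  · have h1 := hmem i₀ ⟨1, cd_one N e₀ hT i₀⟩
    rw [h, Subgroup.mem_bot] at h1
    have h2 : e₀.symm (Pi.mulSingle i₀ t₀) = 1 := Subtype.ext h1
    have h3 : Pi.mulSingle i₀ t₀ = (1 : Fin m → T) := by
      have := congrArg e₀ h2
      rwa [MulEquiv.apply_symm_apply, map_one] at this
    have := congrFun h3 i₀
    rw [Pi.mulSingle_eq_same] at this
    exact ht₀ this
  · have h1 : ((e₀.symm (Pi.mulSingle l t₀) : N) : H) ∈ M := by rw [h]; exact (e₀.symm _).2
    obtain ⟨n, hn, hn'⟩ := h1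
    have hn3 : n = e₀.symm (Pi.mulSingle l t₀) := Subtype.ext hn'
    have hn2 : e₀ n ∈ P := hn
    rw [hn3, MulEquiv.apply_symm_apply] at hn2
    have := hn2 l hl
    rw [Pi.mulSingle_eq_same] at this
    exact ht₀ this

end Setup

/-- The core of the O'Nan–Scott Theorem. Let `H` be a primitive permutation group on a finite set whose unique minimal normal subgroup `N` is non-abelian, and `K` a point stabiliser. Then there are a non-abelian simple group `T` and an isomorphism `N ≃* T^m` (`m ≥ 1`) under which `K ⊓ N` becomes either a product `∏ K_i` of proper subgroups `K_i < T`, or the set of functions constant on each block of a partition of the index set into blocks of one common size `k ≥ 2`. -/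
theorem result {α : Type*} [Finite α] (H : Subgroup (Equiv.Perm α)) [MulAction.IsPreprimitive H α] (N : Subgroup H) [N.Normal] (hN : N ≠ ⊥) (hmin : ∀ M : Subgroup H, M.Normal → M ≤ N → M = ⊥ ∨ M = N) (huniq : ∀ L : Subgroup H, L.Normal → L ≠ ⊥ → (∀ M : Subgroup H, M.Normal → M ≤ L → M = ⊥ ∨ M = L) → L = N) (hnab : ¬ IsMulCommutative N) (a : α) : ∃ (T : Type) (_ : Group T) (m : ℕ) (e : N ≃* (Fin m → T)), IsSimpleGroup T ∧ ¬ IsMulCommutative T ∧ 0 < m ∧ ((∃ K : Fin m → Subgroup T, (∀ i, K i ≠ ⊤) ∧ ∀ n : N, (n : H) ∈ MulAction.stabilizer H a ↔ ∀ i, e n i ∈ K i) ∨ (∃ (k : ℕ) (c : Fin m → Fin m), 2 ≤ k ∧ (∀ j : Fin m, Nat.card {i : Fin m // c i = j} = k ∨ Nat.card {i : Fin m // c i = j} = 0) ∧ ∀ n : N, (n : H) ∈ MulAction.stabilizer H a ↔ ∀ i j : Fin m, c i = c j → e n i = e n j)) := by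
  obtain ⟨T, instT, m, hsimple, hm, ⟨e₀⟩⟩ := Cfsg.Agent.S0721.result N hN hmin
  have hT : ¬ IsMulCommutative T := by
    intro hc
    apply hnab
    refine ⟨⟨fun x y => ?_⟩⟩
    apply e₀.injective
    rw [map_mul, map_mul]
    funext i
    simp only [Pi.mul_apply]
    exact hc.is_comm.comm _ _
  let i₀ : Fin m := ⟨0, hm⟩
  have hTfin : Finite T := by
    let f : T → N := fun t => e₀.symm (Pi.mulSingle i₀ t)
    apply Finite.of_injective f
    intro s t hst
    have := congrArg (fun n => e₀ n i₀) hst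
    simpa [f] using this
  set K := MulAction.stabilizer H a with hK
  have hNfix : MulAction.fixedPoints N α ≠ Set.univ := by
    intro hfix
    apply hN
    rw [Subgroup.eq_bot_iff_forall]
    intro n hn
    apply Subtype.ext
    apply Equiv.ext
    intro b
    have : b ∈ MulAction.fixedPoints N α := by rw [hfix]; trivial
    exact this ⟨n, hn⟩
  have hNtrans : MulAction.IsPretransitive N α :=
    MulAction.IsQuasiPreprimitive.isPretransitive_of_normal hNfix
  have hKcd : ∀ l : Fin m, ∃ k ∈ K, cd N e₀ hT k i₀ = l := by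
    intro l
    obtain ⟨g, hg⟩ := exists_cd N e₀ hT hmin i₀ l
    obtain ⟨n, hn⟩ := MulAction.exists_smul_eq N (g • a) a
    refine ⟨(n : H) * g, ?_, ?_⟩
    · rw [hK, MulAction.mem_stabilizer_iff, mul_smul]; exact hn
    · rw [cd_mul, cd_mem N e₀ hT n.2, hg]
  have hKcd2 : ∀ i j : Fin m, ∃ k ∈ K, cd N e₀ hT k i = j := by
    intro i j
    obtain ⟨k₁, hk₁, h1⟩ := hKcd i
    obtain ⟨k₂, hk₂, h2⟩ := hKcd j
    refine ⟨k₂ * k₁⁻¹, K.mul_mem hk₂ (K.inv_mem hk₁), ?_⟩
    rw [cd_mul, ← h1, cd_inv_cd, h2]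
  set D := DD N e₀ K with hD
  by_cases hsub : ∀ i t, ∃ x ∈ D, x i = t
  · -- diagonal case
    obtain ⟨c, ψ, hc1, hc2, hc3⟩ := scott hT D hsub
    let e : N ≃* (Fin m → T) := e₀.trans (MulEquiv.piCongrRight ψ)
    have he : ∀ n i, e n i = ψ i (e₀ n i) := fun n i => rfl
    have hrel : ∀ k ∈ K, ∀ i j, Rel D i j ↔ Rel D (cd N e₀ hT k i) (cd N e₀ hT k j) := by
      intro k hk i j
      have key : ∀ y : Fin m → T, ∀ l, (sg N e₀ k y) (cd N e₀ hT k l) = 1 ↔ y l = 1 := by
        intro y l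
        show (sg N e₀ k y) (coord hT (sg N e₀ k) l) = 1 ↔ _
        rw [apply_coord]
        exact MulEquiv.map_eq_one_iff _
      constructor
      · intro h x hx
        have hy : (sg N e₀ k).symm x ∈ D := by
          rw [← sg_mem_DD N e₀ hk, MulEquiv.apply_symm_apply]; exact hx
        have hx' : x = sg N e₀ k ((sg N e₀ k).symm x) := (MulEquiv.apply_symm_apply _ _).symm
        rw [hx', key, key]
        exact h _ hy
      · intro h y hy
        have := h (sg N e₀ k y) ((sg_mem_DD N e₀ hk).2 hy)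
        rwa [key, key] at this
    have hcard : ∀ i₁, Nat.card {i // c i = c i₁} = Nat.card {i // c i = c i₀} := by
      intro i₁
      obtain ⟨k, hk, hki⟩ := hKcd i₁
      symm
      apply Nat.card_congr
      refine Equiv.subtypeEquiv
        (Equiv.ofBijective (cd N e₀ hT k) (coord_bijective hT (sg N e₀ k))) ?_
      intro i
      show c i = c i₀ ↔ c (cd N e₀ hT k i) = c i₁
      rw [hc2, hc2, hrel k hk, hki]
    refine ⟨T, instT, m, e, hsimple, hT, hm,
      Or.inr ⟨Nat.card {i // c i = c i₀}, c, ?_, ?_, ?_⟩⟩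
    · by_contra hk2
      rw [not_le] at hk2
      have hsing : ∀ i j, c i = c j → i = j := by
        intro i j hij
        have hle : Nat.card {l // c l = c i} ≤ 1 := by rw [hcard i]; omega
        rw [Finite.card_le_one_iff_subsingleton] at hle
        have := hle.elim ⟨i, rfl⟩ ⟨j, hij.symm⟩
        exact congrArg Subtype.val this
      have hDtop : ∀ x, x ∈ D := by
        intro x
        rw [hc3]
        intro i j hij
        rw [hsing i j hij]
      have hNK : ∀ n : N, (n : H) ∈ K := fun n => (e_mem_DD N e₀).1 (hDtop _)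
      apply hNfix
      rw [Set.eq_univ_iff_forall]
      intro b n
      obtain ⟨n', rfl⟩ := MulAction.exists_smul_eq N a b
      have := hNK (n'⁻¹ * n * n')
      rw [hK, MulAction.mem_stabilizer_iff] at this
      have h2 : (n'⁻¹ * n * n') • a = a := this
      calc n • n' • a = n' • ((n'⁻¹ * n * n') • a) := by simp [mul_smul]
        _ = n' • a := by rw [h2]
    · intro j
      by_cases hj : ∃ i₁, c i₁ = j
      · left
        obtain ⟨i₁, rfl⟩ := hj
        exact hcard i₁
      · right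
        rw [Nat.card_eq_zero]
        left
        exact ⟨fun ⟨i, hi⟩ => hj ⟨i, hi⟩⟩
    · intro n
      rw [← e_mem_DD N e₀, ← hD, hc3]
      rfl
  · -- product case
    push Not at hsub
    obtain ⟨i₁, t₁, h₁⟩ := hsub
    have hall : ∀ i, ∃ t, ∀ x ∈ D, x i ≠ t := by
      intro i
      obtain ⟨k, hk, hki⟩ := hKcd2 i i₁
      refine ⟨(tau hT (sg N e₀ k) i).symm t₁, ?_⟩
      intro x hx hxi
      apply h₁ (sg N e₀ k x) ((sg_mem_DD N e₀ hk).2 hx)
      have := apply_coord hT (sg N e₀ k) x i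
      rw [show coord hT (sg N e₀ k) i = i₁ from hki] at this
      rw [this, hxi, MulEquiv.apply_symm_apply]
    let R : Fin m → Subgroup T := fun i => D.map (Pi.evalMonoidHom (fun _ => T) i)
    have hR : ∀ i, R i ≠ ⊤ := by
      intro i hi
      obtain ⟨t, ht⟩ := hall i
      have : t ∈ R i := by rw [hi]; trivial
      obtain ⟨x, hx, hxt⟩ := this
      exact ht x hx hxt
    let RP : Subgroup (Fin m → T) := Subgroup.pi Set.univ R
    have hRP : ∀ y, y ∈ RP ↔ ∀ i, y i ∈ R i := by
      intro y; simp [RP, Subgroup.mem_pi]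
    have hDRP : D ≤ RP := by
      intro x hx
      rw [hRP]
      intro i
      exact ⟨x, hx, rfl⟩
    have hsgRP : ∀ k ∈ K, ∀ y ∈ RP, sg N e₀ k y ∈ RP := by
      intro k hk y hy
      rw [hRP] at hy ⊢
      intro l
      obtain ⟨l', rfl⟩ := (coord_bijective hT (sg N e₀ k)).2 l
      obtain ⟨z, hz, hzl⟩ := hy l'
      refine ⟨sg N e₀ k z, (sg_mem_DD N e₀ hk).2 hz, ?_⟩
      show sg N e₀ k z (coord hT (sg N e₀ k) l') = sg N e₀ k y (coord hT (sg N e₀ k) l')
      rw [apply_coord, apply_coord]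
      congr 1
    let X : Subgroup H := (RP.comap e₀.toMonoidHom).map N.subtype
    have hXmem : ∀ n : N, (n : H) ∈ X ↔ e₀ n ∈ RP := by
      intro n
      constructor
      · rintro ⟨n', hn', hnn⟩
        have : n' = n := Subtype.ext hnn
        rw [← this]; exact hn'
      · intro h; exact ⟨n, h, rfl⟩
    have hXN : X ≤ N := by rintro _ ⟨n, -, rfl⟩; exact n.2
    have hKX : K ⊓ N ≤ X := by
      intro h ⟨hhK, hhN⟩
      exact (hXmem ⟨h, hhN⟩).2 (hDRP ((e_mem_DD N e₀).2 hhK))
    have hconj : ∀ k ∈ K, ∀ x ∈ X, k * x * k⁻¹ ∈ X := by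
      rintro k hk _ ⟨n, hn, rfl⟩
      have h1 : e₀ (MulAut.conjNormal k n) ∈ RP := by
        rw [← sg_e]; exact hsgRP k hk _ hn
      have := (hXmem _).2 h1
      simpa [MulAut.conjNormal_apply] using this
    have hinv : K ≤ Subgroup.normalizer (X : Set H) := by
      intro k hk
      rw [Subgroup.mem_normalizer_iff]
      intro x
      constructor
      · exact hconj k hk x
      · intro hx
        have := hconj k⁻¹ (K.inv_mem hk) _ hx
        simpa [mul_assoc] using this
    rcases Cfsg.Agent.S0722.result H N hN hmin a X hXN hKX hinv with hX | hX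
    · refine ⟨T, instT, m, e₀, hsimple, hT, hm, Or.inl ⟨R, hR, ?_⟩⟩
      intro n
      constructor
      · intro hn i
        exact ⟨e₀ n, (e_mem_DD N e₀).2 hn, rfl⟩
      · intro hn
        have : (n : H) ∈ X := (hXmem n).2 ((hRP _).2 hn)
        rw [hX] at this
        exact this.1
    · exfalso
      have h1 : ((e₀.symm (Pi.mulSingle i₁ t₁) : N) : H) ∈ X := by
        rw [hX]; exact (e₀.symm _).2
      rw [hXmem, MulEquiv.apply_symm_apply, hRP] at h1
      obtain ⟨x, hx, hxt⟩ := h1 i₁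
      apply h₁ x hx
      simpa using hxt

end Cfsg.Agent.S0723
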