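import Cfsg.Statements.S0724
import Mathlib

set_option autoImplicit false
open Cfsg

namespace Cfsg.Agent.S0724

open MulAction

theorem card_fixedBy_pi {G : Type*} [Group G] {α : Type*} [Finite α] [MulAction G α] (j : ℕ)
    (g : G) : Nat.card (fixedBy (Fin j → α) g) = (Nat.card (fixedBy α g)) ^ j := by
  have e : fixedBy (Fin j → α) g ≃ (Fin j → fixedBy α g) :=
    (Equiv.subtypeEquivRight (fun f => by
      rw [mem_fixedBy, funext_iff]
      rfl)).trans (Equiv.subtypePiEquivPi (p := fun _ a => a ∈ fixedBy α g))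
  rw [Nat.card_congr e, Nat.card_fun, Nat.card_fin]

theorem dvd_sum_pow {G : Type*} [Group G] [Fintype G] {α : Type*} [Finite α] [MulAction G α]
    (j : ℕ) : (Fintype.card G : ℤ) ∣ ∑ g : G, ((Nat.card (fixedBy α g) : ℤ)) ^ j := by
  classical
  have hfin : ∀ g : G, Finite (fixedBy (Fin j → α) g) := fun g => inferInstance
  have : ∀ g : G, Fintype (fixedBy (Fin j → α) g) := fun g => Fintype.ofFinite _
  have : Fintype (Quotient (orbitRel G (Fin j → α))) := Fintype.ofFinite _
  have h := sum_card_fixedBy_eq_card_orbits_mul_card_group G (Fin j → α)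
  have h2 : ∑ g : G, ((Nat.card (fixedBy α g) : ℤ)) ^ j =
      ((∑ g : G, Fintype.card (fixedBy (Fin j → α) g) : ℕ) : ℤ) := by
    rw [Nat.cast_sum]
    apply Finset.sum_congr rfl
    intro g _
    rw [← Nat.card_eq_fintype_card, card_fixedBy_pi, Nat.cast_pow]
  rw [h2, h, Nat.cast_mul]
  exact dvd_mul_left _ _

theorem dvd_sum_eval {G : Type*} [Group G] [Fintype G] {α : Type*} [Finite α] [MulAction G α]
    (P : Polynomial ℤ) :
    (Fintype.card G : ℤ) ∣ ∑ g : G, P.eval ((Nat.card (fixedBy α g) : ℤ)) := by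
  simp_rw [Polynomial.eval_eq_sum_range]
  rw [Finset.sum_comm]
  apply Finset.dvd_sum
  intro j _
  rw [← Finset.mul_sum]
  exact Dvd.dvd.mul_left (dvd_sum_pow j) _

theorem result {α : Type*} [Fintype α] [DecidableEq α] (G : Subgroup (Equiv.Perm α)) (L : Finset ℕ) (hL : ∀ g ∈ G, g ≠ 1 → Nat.card (MulAction.fixedBy α g) ∈ L) : Nat.card G ∣ ∏ l ∈ L, (Fintype.card α - l) := by
  by_cases hcase : ∃ l ∈ L, Fintype.card α ≤ l
  · obtain ⟨l, hl, hle⟩ := hcase
    rw [Finset.prod_eq_zero hl (Nat.sub_eq_zero_of_le hle)]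
    exact dvd_zero _
  · push Not at hcase
    classical
    have : Fintype G := Fintype.ofFinite _
    let P : Polynomial ℤ := ∏ l ∈ L, (Polynomial.X - Polynomial.C (l : ℤ))
    have h1 := dvd_sum_eval (G := G) (α := α) P
    have h2 : ∑ g : G, P.eval ((Nat.card (fixedBy α g) : ℤ)) =
        ((∏ l ∈ L, (Fintype.card α - l) : ℕ) : ℤ) := by
      rw [Finset.sum_eq_single (1 : G)]
      · simp only [P, Polynomial.eval_prod, Polynomial.eval_sub, Polynomial.eval_X,
          Polynomial.eval_C]
        rw [Nat.cast_prod]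
        apply Finset.prod_congr rfl
        intro l hl
        rw [Nat.cast_sub (hcase l hl).le]
        congr 1
        rw [fixedBy_one_eq_univ]
        simp
      · intro g _ hg
        simp only [P, Polynomial.eval_prod, Polynomial.eval_sub, Polynomial.eval_X,
          Polynomial.eval_C]
        have hg1 : (g : Equiv.Perm α) ≠ 1 := fun h => hg (Subtype.ext h)
        have hmem := hL g.1 g.2 hg1
        apply Finset.prod_eq_zero hmem
        have : fixedBy α g = fixedBy α (g : Equiv.Perm α) := rfl
        rw [this, sub_self]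
      · intro h; exact absurd (Finset.mem_univ _) h
    rw [h2] at h1
    rw [Nat.card_eq_fintype_card]
    exact Int.natCast_dvd_natCast.mp h1

end Cfsg.Agent.S0724
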