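import Cfsg.Statements.S0726
import Mathlib

set_option autoImplicit false
open Cfsg

namespace Cfsg.Agent.S0726

theorem key {G : Type*} [Group G] (c : Equiv.Perm G)
    (hc : c ∈ Subgroup.centralizer ((MulAction.toPermHom G G).range : Set (Equiv.Perm G))) :
    c = MulAction.toPermHom Gᵐᵒᵖ G (MulOpposite.op (c 1)) := by
  rw [Subgroup.mem_centralizer_iff] at hc
  ext g
  have h1 := hc (MulAction.toPermHom G G g) ⟨g, rfl⟩
  have h2 := congrArg (fun f : Equiv.Perm G => f 1) h1
  simp only [Equiv.Perm.coe_mul, Function.comp_apply, MulAction.toPermHom_apply,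
    MulAction.toPerm_apply, smul_eq_mul, mul_one] at h2
  simp only [MulAction.toPermHom_apply, MulAction.toPerm_apply, MulOpposite.smul_eq_mul_unop,
    MulOpposite.unop_op]
  exact h2.symm

theorem result {G : Type*} [Group G] : Subgroup.centralizer ((MulAction.toPermHom G G).range : Set (Equiv.Perm G)) = (MulAction.toPermHom Gᵐᵒᵖ G).range ∧ ∀ H : Subgroup (Equiv.Perm G), H ≤ Subgroup.centralizer ((MulAction.toPermHom G G).range : Set (Equiv.Perm G)) → MulAction.IsPretransitive H G → H = (MulAction.toPermHom Gᵐᵒᵖ G).range := by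
  have h1 : Subgroup.centralizer ((MulAction.toPermHom G G).range : Set (Equiv.Perm G)) = (MulAction.toPermHom Gᵐᵒᵖ G).range := by
    apply le_antisymm
    · intro c hc
      exact ⟨MulOpposite.op (c 1), (key c hc).symm⟩
    · rintro _ ⟨a, rfl⟩
      rw [Subgroup.mem_centralizer_iff]
      rintro _ ⟨g, rfl⟩
      ext x
      simp [MulOpposite.smul_eq_mul_unop, mul_assoc]
  refine ⟨h1, ?_⟩
  intro H hH htrans
  apply le_antisymm
  · rw [← h1]; exact hH
  · rintro _ ⟨a, rfl⟩
    obtain ⟨h, hh⟩ := MulAction.exists_smul_eq H (1 : G) (MulOpposite.unop a)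
    have hh' : h.1 1 = MulOpposite.unop a := hh
    have := key h.1 (hH h.2)
    rw [hh', MulOpposite.op_unop] at this
    rw [← this]
    exact h.2

end Cfsg.Agent.S0726
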