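import Cfsg.Statements.S0733
import Mathlib

set_option autoImplicit false
open Cfsg

namespace Cfsg.Agent.S0733

open scoped Pointwise

/-- A permutation group of affine type — generated by the translations of a finite vector space `V` over `ZMod p` together with a group `G₀` of linear automorphisms — is primitive on `V` if and only if `G₀` is irreducible on `V`. -/
theorem result {p : ℕ} [Fact p.Prime] {V : Type*} [AddCommGroup V] [Module (ZMod p) V] [Finite V] [Nontrivial V] (G₀ : Subgroup (V ≃ₗ[ZMod p] V)) (G : Subgroup (Equiv.Perm V)) (hG : ∀ σ : Equiv.Perm V, σ ∈ G ↔ ∃ g ∈ G₀, ∃ b : V, ∀ x : V, σ x = (g : V ≃ₗ[ZMod p] V) x + b) : MulAction.IsPreprimitive G V ↔ ∀ W : Submodule (ZMod p) V, (∀ g ∈ G₀, ∀ v ∈ W, (g : V ≃ₗ[ZMod p] V) v ∈ W) → W = ⊥ ∨ W = ⊤ := by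
  -- translations and linear maps in G
  have htrans : ∀ b : V, Equiv.addRight b ∈ G := by
    intro b
    rw [hG]
    exact ⟨1, G₀.one_mem, b, fun x => by simp⟩
  have hlin : ∀ g ∈ G₀, (g : V ≃ₗ[ZMod p] V).toEquiv ∈ G := by
    intro g hg
    rw [hG]
    exact ⟨g, hg, 0, fun x => by simp⟩
  have hsmul : ∀ (σ : G) (x : V), σ • x = (σ : Equiv.Perm V) x := fun σ x => rfl
  have hpt : MulAction.IsPretransitive G V := by
    constructor
    intro x y
    refine ⟨⟨Equiv.addRight (y - x), htrans _⟩, ?_⟩
    rw [hsmul]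
    simp
  constructor
  · intro hprim W hW
    have hblock : MulAction.IsBlock G (W : Set V) := by
      rw [MulAction.isBlock_iff_smul_eq_of_nonempty]
      rintro ⟨σ, hσ⟩ ⟨x, hx1, hx2⟩
      obtain ⟨g, hg, b, hgb⟩ := (hG σ).mp hσ
      -- σ • W = W + b
      have hb : b ∈ W := by
        obtain ⟨w, hw, rfl⟩ := Set.mem_smul_set.mp hx1
        rw [hsmul] at hx2
        simp only at hx2
        rw [hgb] at hx2
        have h1 : (g : V ≃ₗ[ZMod p] V) w ∈ W := hW g hg w hw
        have := W.sub_mem hx2 h1
        simpa using this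
      ext y
      constructor
      · intro hy
        obtain ⟨w, hw, rfl⟩ := Set.mem_smul_set.mp hy
        rw [hsmul]
        simp only
        rw [hgb]
        exact W.add_mem (hW g hg w hw) hb
      · intro hy
        refine Set.mem_smul_set.mpr ⟨(g⁻¹ : V ≃ₗ[ZMod p] V) (y - b), ?_, ?_⟩
        · exact hW g⁻¹ (G₀.inv_mem hg) _ (W.sub_mem hy hb)
        · rw [hsmul]
          simp only
          rw [hgb]
          have : (g : V ≃ₗ[ZMod p] V) ((g⁻¹ : V ≃ₗ[ZMod p] V) (y - b)) = y - b := by
            change (g * g⁻¹) (y - b) = y - b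
            rw [mul_inv_cancel]; rfl
          rw [this]; abel
    rcases hprim.isTrivialBlock_of_isBlock hblock with hs | hu
    · left
      rw [eq_bot_iff]
      intro w hw
      rw [Submodule.mem_bot]
      exact hs hw W.zero_mem
    · right
      rw [eq_top_iff]
      intro w _
      have : w ∈ (W : Set V) := by rw [hu]; exact Set.mem_univ w
      exact this
  · intro hirr
    apply MulAction.IsPreprimitive.of_isTrivialBlock_base (0 : V)
    intro B h0 hB
    rw [MulAction.isBlock_iff_smul_eq_of_nonempty] at hB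
    -- closure under addition
    have hadd : ∀ x ∈ B, ∀ b ∈ B, x + b ∈ B := by
      intro x hx b hb
      have h1 : (⟨Equiv.addRight b, htrans b⟩ : G) • B = B := by
        apply hB
        refine ⟨b, Set.mem_smul_set.mpr ⟨0, h0, ?_⟩, hb⟩
        rw [hsmul]; simp
      rw [← h1]
      exact Set.mem_smul_set.mpr ⟨x, hx, by rw [hsmul]; simp⟩
    have hnsmul : ∀ (n : ℕ) (x : V), x ∈ B → n • x ∈ B := by
      intro n x hx
      induction n with
      | zero => simpa using h0
      | succ k ih => rw [succ_nsmul]; exact hadd _ ih _ hx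
    let W : Submodule (ZMod p) V :=
      { carrier := B
        add_mem' := fun {x y} hx hy => hadd x hx y hy
        zero_mem' := h0
        smul_mem' := by
          intro c x hx
          have : c • x = c.val • x := by
            rw [← Nat.cast_smul_eq_nsmul (ZMod p), ZMod.natCast_zmod_val]
          rw [this]
          exact hnsmul _ _ hx }
    have hWinv : ∀ g ∈ G₀, ∀ v ∈ W, (g : V ≃ₗ[ZMod p] V) v ∈ W := by
      intro g hg v hv
      have h1 : (⟨(g : V ≃ₗ[ZMod p] V).toEquiv, hlin g hg⟩ : G) • B = B := by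
        apply hB
        refine ⟨0, Set.mem_smul_set.mpr ⟨0, h0, ?_⟩, h0⟩
        rw [hsmul]; simp
      change (g : V ≃ₗ[ZMod p] V) v ∈ B
      rw [← h1]
      exact Set.mem_smul_set.mpr ⟨v, hv, by rw [hsmul]; rfl⟩
    rcases hirr W hWinv with hbot | htop
    · left
      intro x hx y hy
      have hx' : x ∈ W := hx
      have hy' : y ∈ W := hy
      rw [hbot, Submodule.mem_bot] at hx' hy'
      rw [hx', hy']
    · right
      rw [Set.eq_univ_iff_forall]
      intro x
      have : x ∈ W := by rw [htop]; exact Submodule.mem_top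
      exact this

end Cfsg.Agent.S0733
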