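import Cfsg.Statements.S0734
import Mathlib

set_option autoImplicit false
open Cfsg

namespace Cfsg.Agent.S0734

open scoped Pointwise

/-- Higman's criterion for primitivity: a transitive action on a finite set is primitive if and only if every non-trivial orbital graph (edges = images of a fixed pair of distinct points) is connected. -/
theorem result {G : Type*} [Group G] {Ω : Type*} [Finite Ω] [MulAction G Ω] [MulAction.IsPretransitive G Ω] [Nontrivial Ω] : MulAction.IsPreprimitive G Ω ↔ ∀ a b : Ω, a ≠ b → (SimpleGraph.fromRel fun x y : Ω => ∃ g : G, g • a = x ∧ g • b = y).Connected := by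
  constructor
  · intro hprim a b hab
    set Γ := SimpleGraph.fromRel fun x y : Ω => ∃ g : G, g • a = x ∧ g • b = y with hΓ
    have hadj : ∀ (g : G) (x y : Ω), Γ.Adj x y → Γ.Adj (g • x) (g • y) := by
      intro g x y h
      rw [hΓ, SimpleGraph.fromRel_adj] at h ⊢
      refine ⟨fun e => h.1 (MulAction.injective g e), ?_⟩
      rcases h.2 with ⟨k, hk1, hk2⟩ | ⟨k, hk1, hk2⟩
      · left; exact ⟨g * k, by rw [mul_smul, hk1], by rw [mul_smul, hk2]⟩
      · right; exact ⟨g * k, by rw [mul_smul, hk1], by rw [mul_smul, hk2]⟩
    have hreach : ∀ (g : G) (x y : Ω), Γ.Reachable x y → Γ.Reachable (g • x) (g • y) := by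
      intro g x y h
      obtain ⟨w⟩ := h
      induction w with
      | nil => exact SimpleGraph.Reachable.refl _
      | cons hxy _ ih => exact (hadj g _ _ hxy).reachable.trans ih
    set B : Set Ω := {x | Γ.Reachable a x} with hBdef
    have hB : MulAction.IsBlock G B := by
      rw [MulAction.isBlock_iff_smul_eq_of_nonempty]
      rintro g ⟨x, hx1, hx2⟩
      -- Reachable (g • a) x
      have h1 : Γ.Reachable (g • a) x := by
        obtain ⟨y, hy, rfl⟩ := hx1
        exact hreach g a y hy
      have h2 : Γ.Reachable a (g • a) := (hx2 : Γ.Reachable a x).trans h1.symm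
      ext y
      constructor
      · rintro ⟨z, hz, rfl⟩
        exact h2.trans (hreach g a z hz)
      · intro hy
        refine ⟨g⁻¹ • y, ?_, by simp⟩
        have h3 : Γ.Reachable (g • a) y := h2.symm.trans hy
        have := hreach g⁻¹ _ _ h3
        rwa [inv_smul_smul] at this
    have hab_adj : Γ.Adj a b := by
      rw [hΓ, SimpleGraph.fromRel_adj]
      exact ⟨hab, Or.inl ⟨1, by simp, by simp⟩⟩
    have htriv := hprim.isTrivialBlock_of_isBlock hB
    have huniv : B = Set.univ := by
      rcases htriv with hs | hu
      · exfalso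
        apply hab
        exact hs (SimpleGraph.Reachable.refl a) hab_adj.reachable
      · exact hu
    have hall : ∀ x, Γ.Reachable a x := by
      intro x
      have : x ∈ B := by rw [huniv]; exact Set.mem_univ x
      exact this
    exact { preconnected := fun x y => (hall x).symm.trans (hall y), nonempty := ⟨a⟩ }
  · intro h
    apply MulAction.IsPreprimitive.mk
    intro B hB
    rcases B.subsingleton_or_nontrivial with hs | hn
    · left; exact hs
    · right
      obtain ⟨a, ha, b, hb, hab⟩ := hn
      have hconn := h a b hab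
      set Γ := SimpleGraph.fromRel fun x y : Ω => ∃ g : G, g • a = x ∧ g • b = y with hΓ
      have hstep : ∀ x y : Ω, x ∈ B → Γ.Adj x y → y ∈ B := by
        intro x y hx hxy
        rw [hΓ, SimpleGraph.fromRel_adj] at hxy
        rw [MulAction.isBlock_iff_smul_eq_of_nonempty] at hB
        rcases hxy.2 with ⟨g, hg1, hg2⟩ | ⟨g, hg1, hg2⟩
        · have : g • B = B := hB ⟨x, ⟨a, ha, hg1⟩, hx⟩
          rw [← this]
          exact ⟨b, hb, hg2⟩
        · have : g • B = B := hB ⟨x, ⟨b, hb, hg2⟩, hx⟩
          rw [← this]
          exact ⟨a, ha, hg1⟩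
      have hwalk : ∀ x y : Ω, Γ.Reachable x y → x ∈ B → y ∈ B := by
        intro x y hr
        obtain ⟨w⟩ := hr
        induction w with
        | nil => exact id
        | cons hxy _ ih => exact fun hx => ih (hstep _ _ hx hxy)
      rw [Set.eq_univ_iff_forall]
      intro y
      exact hwalk a y (hconn.preconnected a y) ha

end Cfsg.Agent.S0734
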