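import Cfsg.Statements.S0735
import Mathlib
import Cfsg.Agent.Lib.Helper13.Homog

set_option autoImplicit false
open Cfsg

namespace Cfsg.Agent.S0735

open Cfsg.Agent.Helper13

/-- A 2-homogeneous permutation group (transitive on 2-subsets) of even order is doubly transitive; a non-trivial 2-homogeneous group is primitive. -/
theorem result {α : Type*} [Fintype α] [DecidableEq α] (G : Subgroup (Equiv.Perm α)) (h2 : MulAction.IsPretransitive G (Set.powersetCard α 2)) (hα : 3 ≤ Fintype.card α) : (Even (Nat.card G) → MulAction.IsMultiplyPretransitive G α 2) ∧ (G ≠ ⊥ → MulAction.IsPreprimitive G α) := by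
  refine ⟨?_, fun _ => isPreprimitive_of_two_homog h2 hα⟩
  intro heven
  -- an involution
  have h2dvd : 2 ∣ Nat.card G := even_iff_two_dvd.mp heven
  haveI : Fact (Nat.Prime 2) := ⟨Nat.prime_two⟩
  obtain ⟨t, ht⟩ := exists_prime_orderOf_dvd_card' 2 h2dvd
  have ht1 : t ≠ 1 := by
    rintro rfl
    simp at ht
  have htt : t * t = 1 := by
    rw [← sq, ← ht]; exact pow_orderOf_eq_one t
  obtain ⟨a, ha⟩ : ∃ a : α, t • a ≠ a := by
    by_contra hcon
    push Not at hcon
    apply ht1
    apply Subtype.ext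
    ext x
    exact hcon x
  set b := t • a with hb
  have htb : t • b = a := by
    rw [hb, ← mul_smul, htt, one_smul]
  -- every ordered pair is an image of (a, b)
  have key : ∀ c d : α, c ≠ d → ∃ g : G, g • a = c ∧ g • b = d := by
    intro c d hcd
    obtain ⟨g, hg⟩ := pair_of_two_homog h2 (Ne.symm ha) hcd
    rcases hg with hg | ⟨h1, h2'⟩
    · exact ⟨g, hg⟩
    · refine ⟨g * t, ?_, ?_⟩
      · rw [mul_smul, ← hb, h2']
      · rw [mul_smul, htb, h1]
  rw [MulAction.is_two_pretransitive_iff]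
  intro a' b' c d hab' hcd
  obtain ⟨g₁, h1, h1'⟩ := key a' b' hab'
  obtain ⟨g₂, h2', h2''⟩ := key c d hcd
  refine ⟨g₂ * g₁⁻¹, ?_, ?_⟩
  · rw [mul_smul, ← h1, inv_smul_smul, h2']
  · rw [mul_smul, ← h1', inv_smul_smul, h2'']

end Cfsg.Agent.S0735
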