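import Cfsg.Statements.S0736
import Mathlib

set_option autoImplicit false
open Cfsg

namespace Cfsg.Agent.S0736

open scoped Pointwise

/-- Lucas: `p ∤ C(p^e m + p^e - 1, p^e - 1)`. -/
theorem choose_modEq_one (p : ℕ) [hp : Fact p.Prime] : ∀ e m : ℕ,
    Nat.choose (p ^ e * m + p ^ e - 1) (p ^ e - 1) ≡ 1 [MOD p] := by
  intro e
  induction e with
  | zero => intro m; simp [Nat.ModEq]
  | succ e ih =>
    intro m
    have hp1 : 1 ≤ p := hp.out.one_lt.le
    have hpe : 1 ≤ p ^ e := Nat.one_le_pow _ _ hp.out.pos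
    have hn : p ^ (e + 1) * m + p ^ (e + 1) - 1 = (p - 1) + p * (p ^ e * m + p ^ e - 1) := by
      have h1 : p ^ (e + 1) * m + p ^ (e + 1) = p * (p ^ e * m + p ^ e) := by ring
      have h2 : p * (p ^ e * m + p ^ e - 1) = p * (p ^ e * m + p ^ e) - p := by
        rw [Nat.mul_sub, mul_one]
      have h3 : p ≤ p * (p ^ e * m + p ^ e) := by
        calc p = p * 1 := (mul_one p).symm
          _ ≤ p * (p ^ e * m + p ^ e) := Nat.mul_le_mul_left p (by omega)
      rw [h1, h2]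
      omega
    have hj : p ^ (e + 1) - 1 = (p - 1) + p * (p ^ e - 1) := by
      have h1 : p ^ (e + 1) = p * p ^ e := by ring
      have h2 : p * (p ^ e - 1) = p * p ^ e - p := by rw [Nat.mul_sub, mul_one]
      have h3 : p ≤ p * p ^ e := by
        calc p = p * 1 := (mul_one p).symm
          _ ≤ p * p ^ e := Nat.mul_le_mul_left p hpe
      rw [h1, h2]
      omega
    have hlt : p - 1 < p := by omega
    have L := Choose.choose_modEq_choose_mod_mul_choose_div_nat (p := p)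
      (n := p ^ (e + 1) * m + p ^ (e + 1) - 1) (k := p ^ (e + 1) - 1)
    rw [hn, hj, Nat.add_mul_mod_self_left, Nat.add_mul_mod_self_left, Nat.mod_eq_of_lt hlt,
      Nat.add_mul_div_left _ _ hp.out.pos, Nat.add_mul_div_left _ _ hp.out.pos,
      Nat.div_eq_of_lt hlt, zero_add, zero_add, Nat.choose_self, one_mul] at L
    rw [hn, hj]
    exact L.trans (ih m)

/-- the number of `k`-sets between a `(k-1)`-set `Δ` and a set `S` -/
theorem card_supersets {α : Type*} [DecidableEq α] (S Δ : Finset α) (hΔS : Δ ⊆ S) (k : ℕ)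
    (hk : 1 ≤ k) (hΔ : Δ.card = k - 1) :
    ((S.powersetCard k).filter (fun Γ => Δ ⊆ Γ)).card = S.card - (k - 1) := by
  have himg : (S.powersetCard k).filter (fun Γ => Δ ⊆ Γ) = (S \ Δ).image (fun x => insert x Δ) := by
    ext Γ
    simp only [Finset.mem_filter, Finset.mem_powersetCard, Finset.mem_image, Finset.mem_sdiff]
    constructor
    · rintro ⟨⟨hΓS, hΓk⟩, hΔΓ⟩
      have hc : (Γ \ Δ).card = 1 := by
        rw [Finset.card_sdiff_of_subset hΔΓ, hΓk, hΔ]; omega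
      obtain ⟨x, hx⟩ := Finset.card_eq_one.mp hc
      have hxmem : x ∈ Γ \ Δ := by rw [hx]; exact Finset.mem_singleton_self x
      rw [Finset.mem_sdiff] at hxmem
      refine ⟨x, ⟨hΓS hxmem.1, hxmem.2⟩, ?_⟩
      rw [Finset.insert_eq, ← hx, Finset.sdiff_union_of_subset hΔΓ]
    · rintro ⟨x, ⟨hxS, hxΔ⟩, rfl⟩
      refine ⟨⟨?_, ?_⟩, Finset.subset_insert x Δ⟩
      · exact Finset.insert_subset hxS hΔS
      · rw [Finset.card_insert_of_notMem hxΔ, hΔ]; omega
  rw [himg, Finset.card_image_of_injOn, Finset.card_sdiff_of_subset hΔS, hΔ]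
  intro x hx y hy hxy
  simp only [Finset.coe_sdiff, Set.mem_sdiff, Finset.mem_coe] at hx hy
  have hxy' : insert x Δ = insert y Δ := hxy
  have : x ∈ insert y Δ := by rw [← hxy']; exact Finset.mem_insert_self x Δ
  rcases Finset.mem_insert.mp this with h | h
  · exact h
  · exact absurd h hx.2

theorem wielandt_core {G α : Type*} [Group G] [MulAction G α] [Fintype α] [DecidableEq α]
    {k : ℕ} (hk : 2 ≤ k)
    (htrans : ∀ Γ Γ' : Finset α, Γ.card = k → Γ'.card = k → ∃ g : G, g • Γ = Γ')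
    (hq : ∀ q : ℕ, IsPrimePow q → q ∣ k → k + q - 1 ≤ Fintype.card α)
    (Δ₀ Δ₁ : Finset α) (h0 : Δ₀.card = k - 1) (h1 : Δ₁.card = k - 1) :
    ∃ g : G, g • Δ₀ = Δ₁ := by
  classical
  obtain ⟨P, hPdef⟩ : ∃ P : Finset α → Prop, P = fun Δ => ∃ g : G, g • Δ₀ = Δ := ⟨_, rfl⟩
  have hPiff : ∀ Δ, P Δ ↔ ∃ g : G, g • Δ₀ = Δ := by intro Δ; rw [hPdef]
  have hPinv : ∀ (g : G) (Δ : Finset α), P Δ → P (g • Δ) := by
    intro g Δ hΔ
    obtain ⟨h, hh⟩ := (hPiff Δ).mp hΔ
    exact (hPiff _).mpr ⟨g * h, by rw [mul_smul, hh]⟩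
  obtain ⟨a, hadef⟩ : ∃ a : Finset α → ℕ,
      a = fun Γ => ((Γ.powersetCard (k - 1)).filter P).card := ⟨_, rfl⟩
  have ha_apply : ∀ Γ : Finset α, a Γ = ((Γ.powersetCard (k - 1)).filter P).card := by
    intro Γ; rw [hadef]
  have hchoose : k.choose (k - 1) = k := by
    rw [Nat.choose_symm (show 1 ≤ k by omega), Nat.choose_one_right]
  have ha_inv : ∀ (g : G) (Γ : Finset α), a (g • Γ) = a Γ := by
    intro g Γ
    have himg : ((g • Γ).powersetCard (k - 1)).filter P =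
        ((Γ.powersetCard (k - 1)).filter P).image (fun Δ => g • Δ) := by
      ext Δ
      simp only [Finset.mem_filter, Finset.mem_powersetCard, Finset.mem_image]
      constructor
      · rintro ⟨⟨hsub, hcard⟩, hPΔ⟩
        refine ⟨g⁻¹ • Δ, ⟨⟨?_, ?_⟩, hPinv g⁻¹ Δ hPΔ⟩, smul_inv_smul g Δ⟩
        · rw [← Finset.smul_finset_subset_smul_finset_iff (a := g), smul_inv_smul]
          exact hsub
        · rw [Finset.card_smul_finset]; exact hcard
      · rintro ⟨Δ', ⟨⟨hsub, hcard⟩, hP'⟩, rfl⟩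
        refine ⟨⟨Finset.smul_finset_subset_smul_finset_iff.mpr hsub, ?_⟩, hPinv g Δ' hP'⟩
        rw [Finset.card_smul_finset]; exact hcard
    rw [ha_apply, ha_apply]
    rw [himg, Finset.card_image_of_injective _ (MulAction.injective g)]
  -- a prime divisor
  obtain ⟨p₀, hp₀, hp₀k⟩ := Nat.exists_prime_and_dvd (show k ≠ 1 by omega)
  have hkn : k + 1 ≤ Fintype.card α := by
    have := hq p₀ hp₀.isPrimePow hp₀k
    have := hp₀.two_le
    omega
  obtain ⟨Γ₀, -, hΓ₀⟩ := Finset.exists_subset_card_eq (s := (Finset.univ : Finset α)) (n := k)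
    (by rw [Finset.card_univ]; omega)
  have ha_const : ∀ Γ : Finset α, Γ.card = k → a Γ = a Γ₀ := by
    intro Γ hΓ
    obtain ⟨g, hg⟩ := htrans Γ₀ Γ hΓ₀ hΓ
    rw [← hg, ha_inv]
  -- divisibility
  have hdiv : ∀ q : ℕ, IsPrimePow q → q ∣ k → q ∣ a Γ₀ := by
    intro q hqpp hqk
    obtain ⟨S, -, hS⟩ := Finset.exists_subset_card_eq (s := (Finset.univ : Finset α))
      (n := k + q - 1) (by rw [Finset.card_univ]; exact hq q hqpp hqk)
    have hq1 : 1 ≤ q := hqpp.pos
    have key := Finset.sum_card_bipartiteAbove_eq_sum_card_bipartiteBelow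
      (s := S.powersetCard k) (t := (S.powersetCard (k - 1)).filter P) (fun Γ Δ => Δ ⊆ Γ)
    have hL : ∑ Γ ∈ S.powersetCard k,
        (((S.powersetCard (k - 1)).filter P).bipartiteAbove (fun Γ Δ => Δ ⊆ Γ) Γ).card =
        (k + q - 1).choose k * a Γ₀ := by
      rw [Finset.sum_congr rfl (g := fun _ => a Γ₀), Finset.sum_const, Finset.card_powersetCard,
        hS, smul_eq_mul]
      intro Γ hΓ
      rw [Finset.mem_powersetCard] at hΓ
      rw [← ha_const Γ hΓ.2, ha_apply]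
      congr 1
      ext Δ
      simp only [Finset.bipartiteAbove, Finset.mem_filter, Finset.mem_powersetCard]
      constructor
      · rintro ⟨⟨⟨_, hc⟩, hPΔ⟩, hsub⟩
        exact ⟨⟨hsub, hc⟩, hPΔ⟩
      · rintro ⟨⟨hsub, hc⟩, hPΔ⟩
        exact ⟨⟨⟨hsub.trans hΓ.1, hc⟩, hPΔ⟩, hsub⟩
    have hR : ∑ Δ ∈ (S.powersetCard (k - 1)).filter P,
        ((S.powersetCard k).bipartiteBelow (fun Γ Δ => Δ ⊆ Γ) Δ).card =
        ((S.powersetCard (k - 1)).filter P).card * q := by
      rw [Finset.sum_congr rfl (g := fun _ => q), Finset.sum_const, smul_eq_mul]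
      intro Δ hΔ
      rw [Finset.mem_filter, Finset.mem_powersetCard] at hΔ
      have := card_supersets S Δ hΔ.1.1 k (by omega) hΔ.1.2
      rw [hS] at this
      have e : k + q - 1 - (k - 1) = q := by omega
      rw [e] at this
      exact this
    rw [hL, hR] at key
    -- coprimality
    obtain ⟨p, e, hp, he, rfl⟩ := hqpp
    have hp' : Nat.Prime p := Nat.prime_iff.mpr hp
    have : Fact p.Prime := ⟨hp'⟩
    obtain ⟨m, hm⟩ := hqk
    have hL1 := choose_modEq_one p e m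
    have hsymm : (k + p ^ e - 1).choose k = (p ^ e * m + p ^ e - 1).choose (p ^ e - 1) := by
      rw [← hm]
      apply Nat.choose_symm_of_eq_add
      omega
    have hcop : Nat.Coprime (p ^ e) ((k + p ^ e - 1).choose k) := by
      apply Nat.Coprime.pow_left
      rw [Nat.Prime.coprime_iff_not_dvd hp', hsymm]
      intro hdvd
      have h0 : (p ^ e * m + p ^ e - 1).choose (p ^ e - 1) ≡ 0 [MOD p] :=
        (Nat.modEq_zero_iff_dvd).mpr hdvd
      have := h0.symm.trans hL1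
      rw [Nat.ModEq, Nat.zero_mod, Nat.mod_eq_of_lt hp'.one_lt] at this
      omega
    exact hcop.dvd_of_dvd_mul_left ⟨_, key.trans (mul_comm _ _)⟩
  -- `k ∣ a Γ₀`
  have hka : k ∣ a Γ₀ := by
    rw [Nat.dvd_iff_prime_pow_dvd_dvd]
    intro p e hp hpe
    rcases Nat.eq_zero_or_pos e with h0 | h0
    · rw [h0, pow_zero]; exact one_dvd _
    · exact hdiv (p ^ e) ⟨p, e, Nat.prime_iff.mp hp, h0, rfl⟩ hpe
  have hale : a Γ₀ ≤ k := by
    rw [ha_apply]
    refine le_trans (Finset.card_filter_le _ _) ?_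
    rw [Finset.card_powersetCard, hΓ₀, hchoose]
  -- positivity
  obtain ⟨Γ₁, hΔ₀Γ₁, -, hΓ₁⟩ := Finset.exists_subsuperset_card_eq (s := Δ₀)
    (t := (Finset.univ : Finset α)) (n := k) (Finset.subset_univ _) (by omega)
    (by rw [Finset.card_univ]; omega)
  have hapos : 0 < a Γ₀ := by
    rw [← ha_const Γ₁ hΓ₁, ha_apply]
    apply Finset.card_pos.mpr
    refine ⟨Δ₀, ?_⟩
    rw [Finset.mem_filter, Finset.mem_powersetCard]
    exact ⟨⟨hΔ₀Γ₁, h0⟩, (hPiff _).mpr ⟨1, one_smul _ _⟩⟩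
  have hak : a Γ₀ = k := by
    obtain ⟨c, hc⟩ := hka
    rcases c with _ | _ | c
    · omega
    · omega
    · exfalso
      have : k * 2 ≤ k * (c + 1 + 1) := Nat.mul_le_mul_left k (by omega)
      omega
  -- every `(k-1)`-subset of a `k`-set satisfies `P`
  have hall : ∀ Γ : Finset α, Γ.card = k → ∀ Δ : Finset α, Δ ⊆ Γ → Δ.card = k - 1 → P Δ := by
    intro Γ hΓ Δ hΔΓ hΔ
    have h1 : a Γ = k := by rw [ha_const Γ hΓ, hak]
    rw [ha_apply] at h1
    have h2 : ((Γ.powersetCard (k - 1)).filter P) = Γ.powersetCard (k - 1) := by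
      apply Finset.eq_of_subset_of_card_le (Finset.filter_subset _ _)
      rw [h1, Finset.card_powersetCard, hΓ, hchoose]
    have : Δ ∈ (Γ.powersetCard (k - 1)).filter P := by
      rw [h2, Finset.mem_powersetCard]; exact ⟨hΔΓ, hΔ⟩
    exact (Finset.mem_filter.mp this).2
  obtain ⟨Γ₂, hΔ₁Γ₂, -, hΓ₂⟩ := Finset.exists_subsuperset_card_eq (s := Δ₁)
    (t := (Finset.univ : Finset α)) (n := k) (Finset.subset_univ _) (by omega)
    (by rw [Finset.card_univ]; omega)
  exact (hPiff _).mp (hall Γ₂ hΓ₂ Δ₁ hΔ₁Γ₂ h1)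

/-- A `k`-homogeneous permutation group of degree `n`, `k ≥ 2`, with `k + q - 1 ≤ n` for every prime power `q` dividing `k`, is `(k-1)`-homogeneous. -/
theorem result {α : Type*} [Fintype α] [DecidableEq α] (G : Subgroup (Equiv.Perm α)) {k : ℕ} (hk : 2 ≤ k) (hG : MulAction.IsPretransitive G (Set.powersetCard α k)) (hq : ∀ q : ℕ, IsPrimePow q → q ∣ k → k + q - 1 ≤ Fintype.card α) : MulAction.IsPretransitive G (Set.powersetCard α (k - 1)) := by
  constructor
  intro Δ₀ Δ₁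
  have htrans : ∀ Γ Γ' : Finset α, Γ.card = k → Γ'.card = k → ∃ g : G, g • Γ = Γ' := by
    intro Γ Γ' hΓ hΓ'
    obtain ⟨g, hg⟩ := hG.exists_smul_eq (⟨Γ, Set.powersetCard.mem_iff.mpr hΓ⟩ : Set.powersetCard α k)
      ⟨Γ', Set.powersetCard.mem_iff.mpr hΓ'⟩
    refine ⟨g, ?_⟩
    have := congrArg Subtype.val hg
    exact Set.powersetCard.coe_smul.symm.trans this
  obtain ⟨g, hg⟩ := wielandt_core (G := G) hk htrans hq (Δ₀ : Finset α) (Δ₁ : Finset α)
    (Set.powersetCard.mem_iff.mp Δ₀.2) (Set.powersetCard.mem_iff.mp Δ₁.2)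
  refine ⟨g, Subtype.ext ?_⟩
  exact Set.powersetCard.coe_smul.trans hg

end Cfsg.Agent.S0736
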