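import Cfsg.Statements.S0743
import Mathlib

set_option autoImplicit false
open Cfsg

namespace Cfsg.Agent.S0743

open scoped Pointwise

section general

variable {G : Type*} [Group G] {α : Type*} [Fintype α] [DecidableEq α] [MulAction G α]

/-- P ≤ H acting on an H-orbit. -/
def orbSub (P H : Subgroup G) (hPH : P ≤ H) (z : α) : SubMulAction P α where
  carrier := MulAction.orbit H z
  smul_mem' := by
    rintro g x ⟨h, rfl⟩
    refine ⟨⟨g.1, hPH g.2⟩ * h, ?_⟩
    simp only [mul_smul]
    rfl

theorem mem_orbSub (P H : Subgroup G) (hPH : P ≤ H) (z x : α) :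
    x ∈ orbSub P H hPH z ↔ x ∈ MulAction.orbit H z := Iff.rfl

theorem card_orbit_modEq {p : ℕ} [Fact p.Prime] (P H : Subgroup G) (hPH : P ≤ H)
    (hP : IsPGroup p P) (z : α) (S : Finset α)
    (hS : MulAction.fixedPoints P α = (S : Set α)) :
    Nat.card {x : α // x ∈ MulAction.orbit H z} ≡
      Nat.card {x : α // x ∈ MulAction.orbit H z ∧ x ∈ S} [MOD p] := by
  have h := hP.card_modEq_card_fixedPoints (orbSub P H hPH z)
  have e1 : Nat.card (orbSub P H hPH z) = Nat.card {x : α // x ∈ MulAction.orbit H z} := rfl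
  have e2 : Nat.card (MulAction.fixedPoints P (orbSub P H hPH z)) =
      Nat.card {x : α // x ∈ MulAction.orbit H z ∧ x ∈ S} := by
    apply Nat.card_congr
    refine (Equiv.subtypeEquivRight ?_).trans
      (Equiv.subtypeSubtypeEquivSubtypeInter (fun x => x ∈ MulAction.orbit H z) (fun x => x ∈ S))
    intro x
    have hx : (x : α) ∈ S ↔ (x : α) ∈ MulAction.fixedPoints P α := by
      rw [hS]; rfl
    rw [hx]
    simp only [MulAction.mem_fixedPoints]
    constructor
    · intro h g
      have := congrArg Subtype.val (h g)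
      exact this
    · intro h g
      apply Subtype.ext
      exact h g
  rw [e1, e2] at h
  exact h

variable {p k : ℕ}

theorem step (hp : p.Prime) (hkn : k < Fintype.card α)
    (h : ∀ s : Finset α, s.card = k → ∃ P : Subgroup G, IsPGroup p P ∧
      MulAction.fixedPoints P α = (s : Set α))
    (T : Finset α) (hT : T.card < k) (z w : α) (hz : z ∉ T) (hw : w ∉ T) :
    ∃ g : G, (∀ t ∈ T, g • t = t) ∧ g • z = w := by
  haveI := Fact.mk hp
  by_contra hcon
  push Not at hcon
  set H : Subgroup G := fixingSubgroup G (T : Set α) with hH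
  have hwO : w ∉ MulAction.orbit H z := by
    rintro ⟨g, hg⟩
    apply hcon g.1 _ hg
    intro t ht
    exact (mem_fixingSubgroup_iff G).mp g.2 t ht
  have hzO : z ∈ MulAction.orbit H z := MulAction.mem_orbit_self z
  have hzw : z ≠ w := by
    rintro rfl
    exact hwO hzO
  -- choose S
  have hU : insert z T ⊆ Finset.univ.erase w := by
    intro x hx
    rw [Finset.mem_erase]
    refine ⟨?_, Finset.mem_univ x⟩
    rcases Finset.mem_insert.mp hx with rfl | hx
    · exact hzw
    · rintro rfl; exact hw hx
  have hUcard : (insert z T).card ≤ k := by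
    rw [Finset.card_insert_of_notMem hz]; omega
  have hcard2 : k ≤ (Finset.univ.erase w).card := by
    rw [Finset.card_erase_of_mem (Finset.mem_univ w), Finset.card_univ]; omega
  obtain ⟨S, hUS, hSw, hSk⟩ := Finset.exists_subsuperset_card_eq hU hUcard hcard2
  have hzS : z ∈ S := hUS (Finset.mem_insert_self z T)
  have hTS : T ⊆ S := fun t ht => hUS (Finset.mem_insert_of_mem ht)
  have hwS : w ∉ S := fun hw' => (Finset.mem_erase.mp (hSw hw')).1 rfl
  set S' := insert w (S.erase z) with hS'
  have hS'k : S'.card = k := by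
    rw [hS', Finset.card_insert_of_notMem, Finset.card_erase_of_mem hzS, hSk]
    · have : 0 < k := by
        rw [← hSk]; exact Finset.card_pos.mpr ⟨z, hzS⟩
      omega
    · intro hw'
      exact hwS (Finset.mem_of_mem_erase hw')
  have hTS' : T ⊆ S' := by
    intro t ht
    rw [hS']
    apply Finset.mem_insert_of_mem
    rw [Finset.mem_erase]
    exact ⟨fun e => hz (e ▸ ht), hTS ht⟩
  obtain ⟨P, hP, hPS⟩ := h S hSk
  obtain ⟨P', hP', hPS'⟩ := h S' hS'k
  have hle : ∀ (Q : Subgroup G) (R : Finset α), T ⊆ R →
      MulAction.fixedPoints Q α = (R : Set α) → Q ≤ H := by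
    intro Q R hTR hQR g hg
    rw [hH, mem_fixingSubgroup_iff]
    intro t ht
    have : t ∈ MulAction.fixedPoints Q α := by
      rw [hQR]; exact hTR ht
    exact this ⟨g, hg⟩
  have c1 := card_orbit_modEq P H (hle P S hTS hPS) hP z S hPS
  have c2 := card_orbit_modEq P' H (hle P' S' hTS' hPS') hP' z S' hPS'
  -- compare
  have e : Nat.card {x : α // x ∈ MulAction.orbit H z ∧ x ∈ S} =
      Nat.card {x : α // x ∈ MulAction.orbit H z ∧ x ∈ S'} + 1 := by
    classical
    rw [Nat.card_eq_fintype_card, Nat.card_eq_fintype_card, Fintype.card_subtype,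
      Fintype.card_subtype]
    have : (Finset.univ.filter fun x => x ∈ MulAction.orbit H z ∧ x ∈ S) =
        insert z (Finset.univ.filter fun x => x ∈ MulAction.orbit H z ∧ x ∈ S') := by
      ext x
      simp only [Finset.mem_filter, Finset.mem_univ, true_and, Finset.mem_insert, hS',
        Finset.mem_erase]
      constructor
      · rintro ⟨hxO, hxS⟩
        by_cases hxz : x = z
        · exact Or.inl hxz
        · exact Or.inr ⟨hxO, Or.inr ⟨hxz, hxS⟩⟩
      · rintro (rfl | ⟨hxO, hx⟩)
        · exact ⟨hzO, hzS⟩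
        · rcases hx with rfl | ⟨_, hxS⟩
          · exact absurd hxO hwO
          · exact ⟨hxO, hxS⟩
    rw [this, Finset.card_insert_of_notMem]
    simp only [Finset.mem_filter, Finset.mem_univ, true_and, hS', Finset.mem_insert,
      Finset.mem_erase, not_and, not_or]
    intro _
    exact ⟨hzw, fun h => absurd rfl h⟩
  rw [e] at c1
  have c3 := c1.symm.trans c2
  -- c3 : a + 1 ≡ a [MOD p]
  have : (1 : ℕ) ≡ 0 [MOD p] := by
    have h0 : Nat.card {x : α // x ∈ MulAction.orbit H z ∧ x ∈ S'} + 1 ≡
        Nat.card {x : α // x ∈ MulAction.orbit H z ∧ x ∈ S'} + 0 [MOD p] := by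
      simpa using c3
    exact Nat.ModEq.add_left_cancel' _ h0
  have hp1 : p ∣ 1 := (Nat.modEq_zero_iff_dvd).mp this
  exact hp.one_lt.ne' (Nat.dvd_one.mp hp1)

theorem gleason (hp : p.Prime) (hkn : k < Fintype.card α)
    (h : ∀ s : Finset α, s.card = k → ∃ P : Subgroup G, IsPGroup p P ∧
      MulAction.fixedPoints P α = (s : Set α)) :
    ∀ j ≤ k, MulAction.IsMultiplyPretransitive G α j := by
  intro j
  induction j with
  | zero => intro _; exact MulAction.is_zero_pretransitive
  | succ j ih =>
    intro hj
    have ihj := ih (by omega)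
    constructor
    intro x y
    -- restrict
    set x' : Fin j ↪ α := Fin.castSuccEmb.trans x with hx'
    set y' : Fin j ↪ α := Fin.castSuccEmb.trans y with hy'
    obtain ⟨g, hg⟩ := ihj.exists_smul_eq x' y'
    set T : Finset α := Finset.univ.map y' with hTdef
    have hTcard : T.card < k := by
      rw [hTdef, Finset.card_map, Finset.card_univ, Fintype.card_fin]; omega
    have hgx : ∀ i : Fin j, g • x (Fin.castSucc i) = y (Fin.castSucc i) := by
      intro i
      have := DFunLike.congr_fun hg i
      simpa [hx', hy'] using this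
    have hzT : g • x (Fin.last j) ∉ T := by
      rw [hTdef, Finset.mem_map]
      rintro ⟨i, _, hi⟩
      rw [hy', Function.Embedding.trans_apply, Fin.castSuccEmb_apply, ← hgx i] at hi
      have := x.injective (MulAction.injective g hi)
      exact (Fin.castSucc_lt_last i).ne this
    have hwT : y (Fin.last j) ∉ T := by
      rw [hTdef, Finset.mem_map]
      rintro ⟨i, _, hi⟩
      rw [hy', Function.Embedding.trans_apply, Fin.castSuccEmb_apply] at hi
      have := y.injective hi
      exact (Fin.castSucc_lt_last i).ne this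
    obtain ⟨h', hfix, hmap⟩ := step hp hkn h T hTcard _ _ hzT hwT
    refine ⟨h' * g, ?_⟩
    ext i
    rw [Function.Embedding.smul_apply, mul_smul]
    rcases Fin.eq_castSucc_or_eq_last i with ⟨i, rfl⟩ | rfl
    · rw [hgx i]
      apply hfix
      rw [hTdef, Finset.mem_map]
      exact ⟨i, Finset.mem_univ i, rfl⟩
    · exact hmap

end general

/-- Gleason's Lemma: let `p` be a prime and `1 ≤ k < n`; if every `k`-subset of the `n` points is exactly the fixed-point set of some `p`-subgroup of `G`, then `G` is `k`-transitive. -/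
theorem result {α : Type*} [Fintype α] [DecidableEq α] (G : Subgroup (Equiv.Perm α)) {p k : ℕ} (hp : p.Prime) (hk : 1 ≤ k) (hkn : k < Fintype.card α) (h : ∀ s : Finset α, s.card = k → ∃ P : Subgroup G, IsPGroup p P ∧ MulAction.fixedPoints P α = (s : Set α)) : MulAction.IsMultiplyPretransitive G α k :=
  gleason hp hkn h k le_rfl

end Cfsg.Agent.S0743
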