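import Cfsg.Statements.S0744
import Mathlib

set_option autoImplicit false
open Cfsg

namespace Cfsg.Agent.S0744

open scoped Pointwise

theorem dvd_card_of_stab {H : Type*} [Group H] [Finite H] {β : Type*} [Finite β] [MulAction H β]
    (d : ℕ) (h : ∀ x : β, Nat.card H = d * Nat.card (MulAction.stabilizer H x)) :
    d ∣ Nat.card β := by
  classical
  have := Fintype.ofFinite H
  have := Fintype.ofFinite β
  rw [Nat.card_eq_fintype_card, MulAction.card_eq_sum_card_group_div_card_stabilizer H β]
  apply Finset.dvd_sum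
  intro ω _
  have h1 := h ω.out
  rw [Nat.card_eq_fintype_card, Nat.card_eq_fintype_card] at h1
  rw [h1, Nat.mul_div_cancel _ Fintype.card_pos]

section general

variable {Γ : Type*} [Group Γ] [Finite Γ] {α : Type*} [Fintype α] [DecidableEq α] [MulAction Γ α]

theorem card_stab_subgroup (A : Subgroup Γ) (x : α) :
    Nat.card (MulAction.stabilizer A x) = Nat.card ↥(A ⊓ MulAction.stabilizer Γ x) := by
  apply Nat.card_congr
  exact
    { toFun := fun g => ⟨g.1.1, g.1.2, g.2⟩
      invFun := fun g => ⟨⟨g.1, g.2.1⟩, g.2.2⟩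
      left_inv := fun g => rfl
      right_inv := fun g => rfl }

/-- invariant finset as a sub-action -/
def subAct (A : Subgroup Γ) (X : Finset α) (hX : ∀ g ∈ A, ∀ x ∈ X, g • x ∈ X) : SubMulAction A α where
  carrier := (X : Set α)
  smul_mem' := fun g x hx => hX g.1 g.2 x hx

theorem dvd_card_finset (A : Subgroup Γ) (X : Finset α) (hX : ∀ g ∈ A, ∀ x ∈ X, g • x ∈ X)
    (d m : ℕ) (hA : Nat.card A = d * m)
    (hm : ∀ x ∈ X, Nat.card ↥(A ⊓ MulAction.stabilizer Γ x) = m) : d ∣ X.card := by
  have h := dvd_card_of_stab (H := A) (β := subAct A X hX) d (by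
    intro x
    rw [SubMulAction.stabilizer_of_subMul, card_stab_subgroup, hm _ x.2, hA])
  have e : Nat.card (subAct A X hX) = X.card := by
    change Nat.card {x // x ∈ (X : Set α)} = X.card
    simp
  rwa [e] at h

/-- fixing subgroup of an inserted point -/
theorem fix_insert (T : Finset α) (x : α) :
    fixingSubgroup Γ ((insert x T : Finset α) : Set α) =
      fixingSubgroup Γ (T : Set α) ⊓ MulAction.stabilizer Γ x := by
  ext g
  rw [Finset.coe_insert, Subgroup.mem_inf, MulAction.mem_stabilizer_iff, mem_fixingSubgroup_iff,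
    mem_fixingSubgroup_iff]
  constructor
  · intro h
    exact ⟨fun y hy => h y (Set.mem_insert_of_mem _ hy), h x (Set.mem_insert _ _)⟩
  · rintro ⟨h1, h2⟩ y hy
    rcases Set.mem_insert_iff.mp hy with rfl | hy
    · exact h2
    · exact h1 y hy

variable [FaithfulSMul Γ α]

theorem core {k l m : ℕ} (hk : 1 < k) (hl : 1 < l)
    (hkm1 : ∀ s : Finset α, s.card = k - 1 → Nat.card (fixingSubgroup Γ (s : Set α)) = l)
    (hkm : ∀ s : Finset α, s.card = k → Nat.card (fixingSubgroup Γ (s : Set α)) = m)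
    (T₀ : Finset α) (hT₀ : T₀.card = k - 2) (a b : α) (ha : a ∉ T₀) (hb : b ∉ T₀) :
    ∃ g : Γ, (∀ t ∈ T₀, g • t = t) ∧ g • a = b := by
  classical
  by_contra hcon
  push Not at hcon
  set K : Subgroup Γ := fixingSubgroup Γ (T₀ : Set α) with hK
  have hKmem : ∀ g : Γ, g ∈ K ↔ ∀ t ∈ T₀, g • t = t := by
    intro g
    rw [hK, mem_fixingSubgroup_iff]
    rfl
  -- K preserves the complement of T₀
  have hcompl : ∀ g ∈ K, ∀ x, x ∉ T₀ → g • x ∉ T₀ := by
    intro g hg x hx hgx
    apply hx
    have h1 := (hKmem g).mp hg _ hgx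
    have h2 : g • x = x := MulAction.injective g h1
    rw [← h2]
    exact hgx
  -- the orbit
  set O : Finset α := Finset.univ.filter (fun x => ∃ g ∈ K, g • a = x) with hO
  have hOmem : ∀ x, x ∈ O ↔ ∃ g ∈ K, g • a = x := by
    intro x; rw [hO]; simp
  have haO : a ∈ O := (hOmem a).mpr ⟨1, K.one_mem, one_smul _ _⟩
  have hbO : b ∉ O := by
    intro hb'
    obtain ⟨g, hg, hga⟩ := (hOmem b).mp hb'
    exact hcon g ((hKmem g).mp hg) hga
  have hOT : ∀ x ∈ O, x ∉ T₀ := by
    intro x hx
    obtain ⟨g, hg, rfl⟩ := (hOmem x).mp hx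
    exact hcompl g hg a ha
  have hOinv : ∀ g ∈ K, ∀ x ∈ O, g • x ∈ O := by
    intro g hg x hx
    obtain ⟨g', hg', rfl⟩ := (hOmem x).mp hx
    exact (hOmem _).mpr ⟨g * g', K.mul_mem hg hg', mul_smul _ _ _⟩
  -- card facts
  have hk2 : k - 2 + 1 = k - 1 := by omega
  have hk1 : k - 1 + 1 = k := by omega
  have card1 : ∀ x, x ∉ T₀ → Nat.card ↥(K ⊓ MulAction.stabilizer Γ x) = l := by
    intro x hx
    rw [hK, ← fix_insert]
    apply hkm1
    rw [Finset.card_insert_of_notMem hx, hT₀, hk2]
  have card2 : ∀ x y, x ∉ T₀ → y ∉ T₀ → x ≠ y →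
      Nat.card ↥(K ⊓ MulAction.stabilizer Γ x ⊓ MulAction.stabilizer Γ y) = m := by
    intro x y hx hy hxy
    rw [hK, ← fix_insert, ← fix_insert]
    apply hkm
    rw [Finset.card_insert_of_notMem, Finset.card_insert_of_notMem hx, hT₀, hk2, hk1]
    rw [Finset.mem_insert, not_or]
    exact ⟨Ne.symm hxy, hy⟩
  -- m ∣ l
  have hml : m ∣ l := by
    rw [← card1 a ha, ← card2 a b ha hb (fun e => hbO (e ▸ haO))]
    exact Subgroup.card_dvd_of_le inf_le_left
  obtain ⟨d, hd⟩ := hml
  have hd' : l = d * m := by rw [hd, mul_comm]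
  -- d ∣ |O|
  have hdO : d ∣ O.card := by
    apply dvd_card_finset (K ⊓ MulAction.stabilizer Γ b) O
      (fun g hg x hx => hOinv g hg.1 x hx) d m
    · rw [card1 b hb, hd']
    · intro x hx
      exact card2 b x hb (hOT x hx) (fun e => hbO (e ▸ hx))
  have hdO' : d ∣ (O.erase a).card := by
    apply dvd_card_finset (K ⊓ MulAction.stabilizer Γ a) (O.erase a) _ d m
    · rw [card1 a ha, hd']
    · intro x hx
      have hx' := Finset.mem_erase.mp hx
      exact card2 a x ha (hOT x hx'.2) (Ne.symm hx'.1)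
    · intro g hg x hx
      have hx' := Finset.mem_erase.mp hx
      rw [Finset.mem_erase]
      refine ⟨?_, hOinv g hg.1 x hx'.2⟩
      intro e
      have hga : g • a = a := hg.2
      rw [← hga] at e
      exact hx'.1 (MulAction.injective g e)
  rw [Finset.card_erase_of_mem haO] at hdO'
  have hOpos : 0 < O.card := Finset.card_pos.mpr ⟨a, haO⟩
  have hd1 : d = 1 := by
    have : d ∣ 1 := by
      have h3 : d ∣ O.card - (O.card - 1) := Nat.dvd_sub hdO hdO'
      have h4 : O.card - (O.card - 1) = 1 := by omega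
      rwa [h4] at h3
    exact Nat.dvd_one.mp this
  have hlm : l = m := by rw [hd', hd1, one_mul]
  -- contradiction with faithfulness
  set A : Subgroup Γ := K ⊓ MulAction.stabilizer Γ a with hA
  have hAcard : Nat.card A = l := card1 a ha
  have hAnt : ∃ g ∈ A, g ≠ 1 := by
    by_contra hno
    push Not at hno
    have : A = ⊥ := by
      rw [eq_bot_iff]
      intro g hg
      rw [Subgroup.mem_bot]
      exact hno g hg
    rw [this, Subgroup.card_bot] at hAcard
    omega
  obtain ⟨g, hgA, hg1⟩ := hAnt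
  have hmove : ∃ x : α, g • x ≠ x := by
    by_contra hno
    push Not at hno
    apply hg1
    apply FaithfulSMul.eq_of_smul_eq_smul (α := α)
    intro x
    rw [hno x, one_smul]
  obtain ⟨x, hx⟩ := hmove
  have hxT : x ∉ T₀ := by
    intro hxT
    exact hx ((hKmem g).mp hgA.1 x hxT)
  have hxa : a ≠ x := by
    rintro rfl
    exact hx hgA.2
  have hle : A ⊓ MulAction.stabilizer Γ x ≤ A := inf_le_left
  have hcardx : Nat.card ↥(A ⊓ MulAction.stabilizer Γ x) = Nat.card A := by
    rw [hAcard, hA, card2 a x ha hxT hxa, hlm]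
  have heq : A ⊓ MulAction.stabilizer Γ x = A :=
    Subgroup.eq_of_le_of_card_ge hle (le_of_eq hcardx.symm)
  have : g ∈ A ⊓ MulAction.stabilizer Γ x := by rw [heq]; exact hgA
  exact hx this.2

theorem step {k l m : ℕ} (hk : 1 < k) (hkn : k ≤ Fintype.card α) (hl : 1 < l)
    (hkm1 : ∀ s : Finset α, s.card = k - 1 → Nat.card (fixingSubgroup Γ (s : Set α)) = l)
    (hkm : ∀ s : Finset α, s.card = k → Nat.card (fixingSubgroup Γ (s : Set α)) = m)
    (T : Finset α) (hT : T.card < k - 1) (z w : α) (hz : z ∉ T) (hw : w ∉ T) :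
    ∃ g : Γ, (∀ t ∈ T, g • t = t) ∧ g • z = w := by
  by_cases hzw : z = w
  · exact ⟨1, fun t _ => one_smul _ _, by rw [one_smul, hzw]⟩
  -- extend T to T₀ avoiding z, w
  have hsub : T ⊆ (Finset.univ.erase z).erase w := by
    intro t ht
    rw [Finset.mem_erase, Finset.mem_erase]
    exact ⟨fun e => hw (e ▸ ht), fun e => hz (e ▸ ht), Finset.mem_univ t⟩
  have hcard : k - 2 ≤ ((Finset.univ.erase z).erase w).card := by
    rw [Finset.card_erase_of_mem, Finset.card_erase_of_mem (Finset.mem_univ z), Finset.card_univ]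
    · omega
    · rw [Finset.mem_erase]; exact ⟨Ne.symm hzw, Finset.mem_univ w⟩
  obtain ⟨T₀, hTT₀, hT₀sub, hT₀card⟩ :=
    Finset.exists_subsuperset_card_eq hsub (by omega : T.card ≤ k - 2) hcard
  have hzT₀ : z ∉ T₀ := by
    intro h
    have := hT₀sub h
    rw [Finset.mem_erase, Finset.mem_erase] at this
    exact this.2.1 rfl
  have hwT₀ : w ∉ T₀ := by
    intro h
    have := hT₀sub h
    rw [Finset.mem_erase] at this
    exact this.1 rfl
  obtain ⟨g, hg1, hg2⟩ := core hk hl hkm1 hkm T₀ hT₀card z w hzT₀ hwT₀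
  exact ⟨g, fun t ht => hg1 t (hTT₀ ht), hg2⟩

omit [Finite Γ] [Fintype α] [FaithfulSMul Γ α] in
theorem multiply_of_step (k' : ℕ)
    (hstep : ∀ T : Finset α, T.card < k' → ∀ z w : α, z ∉ T → w ∉ T →
      ∃ g : Γ, (∀ t ∈ T, g • t = t) ∧ g • z = w) :
    ∀ j ≤ k', MulAction.IsMultiplyPretransitive Γ α j := by
  intro j
  induction j with
  | zero => intro _; exact MulAction.is_zero_pretransitive
  | succ j ih =>
    intro hj
    have ihj := ih (by omega)
    constructor
    intro x y
    set x' : Fin j ↪ α := Fin.castSuccEmb.trans x with hx'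
    set y' : Fin j ↪ α := Fin.castSuccEmb.trans y with hy'
    obtain ⟨g, hg⟩ := ihj.exists_smul_eq x' y'
    set T : Finset α := Finset.univ.map y' with hTdef
    have hTcard : T.card < k' := by
      rw [hTdef, Finset.card_map, Finset.card_univ, Fintype.card_fin]; omega
    have hgx : ∀ i : Fin j, g • x (Fin.castSucc i) = y (Fin.castSucc i) := by
      intro i
      have := DFunLike.congr_fun hg i
      simpa [hx', hy'] using this
    have hzT : g • x (Fin.last j) ∉ T := by
      rw [hTdef, Finset.mem_map]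
      rintro ⟨i, _, hi⟩
      rw [hy', Function.Embedding.trans_apply, Fin.castSuccEmb_apply, ← hgx i] at hi
      have := x.injective (MulAction.injective g hi)
      exact (Fin.castSucc_lt_last i).ne this
    have hwT : y (Fin.last j) ∉ T := by
      rw [hTdef, Finset.mem_map]
      rintro ⟨i, _, hi⟩
      rw [hy', Function.Embedding.trans_apply, Fin.castSuccEmb_apply] at hi
      have := y.injective hi
      exact (Fin.castSucc_lt_last i).ne this
    obtain ⟨h', hfix, hmap⟩ := hstep T hTcard _ _ hzT hwT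
    refine ⟨h' * g, ?_⟩
    ext i
    rw [Function.Embedding.smul_apply, mul_smul]
    rcases Fin.eq_castSucc_or_eq_last i with ⟨i, rfl⟩ | rfl
    · rw [hgx i]
      apply hfix
      rw [hTdef, Finset.mem_map]
      exact ⟨i, Finset.mem_univ i, rfl⟩
    · exact hmap

end general

/-- If for some `k > 1` the pointwise stabilisers of all `(k-1)`-subsets have the same order `> 1` and those of all `k`-subsets have the same order, then the group is `(k-1)`-transitive. -/
theorem result {α : Type*} [Fintype α] [DecidableEq α] (G : Subgroup (Equiv.Perm α)) {k : ℕ} (hk : 1 < k) (hkn : k ≤ Fintype.card α) (l m : ℕ) (hl : 1 < l) (hkm1 : ∀ s : Finset α, s.card = k - 1 → Nat.card (fixingSubgroup G (s : Set α)) = l) (hkm : ∀ s : Finset α, s.card = k → Nat.card (fixingSubgroup G (s : Set α)) = m) : MulAction.IsMultiplyPretransitive G α (k - 1) :=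
  multiply_of_step (k - 1) (fun T hT z w hz hw => step hk hkn hl hkm1 hkm T hT z w hz hw) (k - 1) le_rfl

end Cfsg.Agent.S0744
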