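import Cfsg.Statements.S0751
import Mathlib
import Cfsg.Agent.Lib.Helper13.HermWitt

set_option autoImplicit false
open Cfsg

namespace Cfsg.Agent.S0751

/-- Witt's Lemma for Hermitian forms. Let σ be a non-identity involutive automorphism of a finite field F and B a non-degenerate σ-sesquilinear form on a finite-dimensional F-space V which is conjugate-symmetric (σ (B x y) = B y x). Then every linear equivalence between subspaces X, Y of V preserving B extends to a B-preserving linear automorphism of V. -/
theorem result {F V : Type*} [Field F] [Finite F] [AddCommGroup V] [Module F V] [FiniteDimensional F V] (σ : F →+* F) (hσ : σ ≠ RingHom.id F) (hσ2 : ∀ a : F, σ (σ a) = a) (B : V →ₛₗ[σ] V →ₗ[F] F) (hS : B.IsSymm) (hB : B.Nondegenerate) (X Y : Submodule F V) (φ : X ≃ₗ[F] Y) (hφ : ∀ x x' : X, B (φ x : V) (φ x' : V) = B (x : V) (x' : V)) : ∃ g : V ≃ₗ[F] V, (∀ u v : V, B (g u) (g v) = B u v) ∧ ∀ x : X, g (x : V) = (φ x : V) := by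
  classical
  obtain ⟨d, hd⟩ : ∃ d, Module.finrank F X + d = Module.finrank F V :=
    ⟨Module.finrank F V - Module.finrank F X, by have := Submodule.finrank_le X; omega⟩
  have hx : LinearIndependent F (fun a => ((Module.finBasis F X a : X) : V)) :=
    (Module.finBasis F X).linearIndependent.map' X.subtype (Submodule.ker_subtype X)
  have hy : LinearIndependent F (fun a => ((φ (Module.finBasis F X a) : Y) : V)) := by
    have hinj : LinearMap.ker (Y.subtype ∘ₗ φ.toLinearMap) = ⊥ := by
      rw [LinearMap.ker_eq_bot]
      exact (Submodule.injective_subtype Y).comp φ.injective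
    exact (Module.finBasis F X).linearIndependent.map' (Y.subtype ∘ₗ φ.toLinearMap) hinj
  obtain ⟨g, hg, hga⟩ := Cfsg.Agent.Helper13.witt_family σ hσ hσ2 B hS hB d _ _ _ hd hx hy
    (fun a b => (hφ _ _).symm)
  refine ⟨g, hg, ?_⟩
  have hcomp : g.toLinearMap ∘ₗ X.subtype = Y.subtype ∘ₗ φ.toLinearMap := by
    apply (Module.finBasis F X).ext
    intro a
    simp only [LinearMap.comp_apply, LinearEquiv.coe_coe, Submodule.subtype_apply]
    exact hga a
  intro x
  have := LinearMap.congr_fun hcomp x
  simpa using this

end Cfsg.Agent.S0751
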