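import Cfsg.Statements.S0754
import Mathlib

set_option autoImplicit false
open Cfsg

namespace Cfsg.Agent.S0754

/-- In a field F with q^2 elements, every non-zero μ with μ^q = μ (that is, μ in the subfield of order q) has exactly q + 1 solutions λ of λ^(q+1) = μ. -/
theorem result {F : Type*} [Field F] [Fintype F] {q : ℕ} (hF : Fintype.card F = q ^ 2) (μ : F) (hμ : μ ≠ 0) (hμq : μ ^ q = μ) : Nat.card {x : F // x ^ (q + 1) = μ} = q + 1 := by
  classical
  have hq2 : 2 ≤ q := by
    have h1 : 1 < Fintype.card F := Fintype.one_lt_card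
    rw [hF] at h1
    by_contra h
    push Not at h
    interval_cases q <;> simp at h1
  have hfac : q ^ 2 - 1 = (q - 1) * (q + 1) := by
    obtain ⟨k, rfl⟩ : ∃ k, q = k + 2 := ⟨q - 2, by omega⟩
    have : k + 2 - 1 = k + 1 := by omega
    rw [this]
    have : (k + 2) ^ 2 = (k + 1) * (k + 2 + 1) + 1 := by ring
    rw [this, Nat.add_sub_cancel]
  have hcardU : Nat.card Fˣ = (q - 1) * (q + 1) := by
    rw [Nat.card_eq_fintype_card, Fintype.card_units, hF, hfac]
  set f : Fˣ →* Fˣ := powMonoidHom (q + 1) with hf
  set g : Fˣ →* Fˣ := powMonoidHom (q - 1) with hg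
  have hker_f : Nat.card f.ker = q + 1 := by
    rw [hf, IsCyclic.card_powMonoidHom_ker, hcardU]
    exact Nat.gcd_mul_left_left _ _
  have hqpos : 0 < q + 1 := by omega
  have hrange_f : Nat.card f.range = q - 1 := by
    rw [hf, IsCyclic.card_powMonoidHom_range, hcardU, Nat.gcd_mul_left_left,
      Nat.mul_div_cancel _ hqpos]
  have hker_g : Nat.card g.ker = q - 1 := by
    rw [hg, IsCyclic.card_powMonoidHom_ker, hcardU]
    exact Nat.gcd_mul_right_left _ _
  have hle : f.range ≤ g.ker := by
    rintro _ ⟨x, rfl⟩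
    rw [MonoidHom.mem_ker]
    simp only [hf, hg, powMonoidHom_apply]
    rw [← pow_mul, mul_comm, ← hcardU]
    exact pow_card_eq_one'
  have heq : f.range = g.ker :=
    Subgroup.eq_of_le_of_card_ge hle (by rw [hker_g, hrange_f])
  have hμ1 : μ ^ (q - 1) = 1 := by
    have h1 : μ ^ (q - 1) * μ = 1 * μ := by
      rw [← pow_succ, one_mul]
      have : q - 1 + 1 = q := by omega
      rw [this, hμq]
    exact mul_right_cancel₀ hμ h1
  have hμ' : Units.mk0 μ hμ ∈ g.ker := by
    rw [MonoidHom.mem_ker]
    simp only [hg, powMonoidHom_apply]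
    ext
    simp [hμ1]
  rw [← heq] at hμ'
  obtain ⟨x₀, hx₀⟩ := hμ'
  simp only [hf, powMonoidHom_apply] at hx₀
  have hx₀' : (x₀ : F) ^ (q + 1) = μ := by
    have := congrArg Units.val hx₀
    simpa using this
  have hne : ∀ x : F, x ^ (q + 1) = μ → x ≠ 0 := by
    intro x hx h0
    rw [h0, zero_pow (by omega)] at hx
    exact hμ hx.symm
  have e : {x : F // x ^ (q + 1) = μ} ≃ f.ker :=
    { toFun := fun x => ⟨Units.mk0 x.1 (hne x.1 x.2) * x₀⁻¹, by
        rw [MonoidHom.mem_ker]
        simp only [hf, powMonoidHom_apply]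
        ext
        simp only [mul_pow, Units.val_mul, Units.val_pow_eq_pow_val, Units.val_mk0, Units.val_inv_eq_inv_val,
          inv_pow, Units.val_one]
        rw [x.2, hx₀']
        exact mul_inv_cancel₀ hμ⟩
      invFun := fun k => ⟨((k.1 * x₀ : Fˣ) : F), by
        have hk : k.1 ^ (q + 1) = 1 := by
          have := k.2
          rw [MonoidHom.mem_ker] at this
          simpa [hf] using this
        have hk' : (k.1 : F) ^ (q + 1) = 1 := by
          have := congrArg Units.val hk
          simpa using this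
        rw [Units.val_mul, mul_pow, hk', hx₀', one_mul]⟩
      left_inv := by
        intro x
        ext
        simp
      right_inv := by
        intro k
        ext
        simp }
  rw [Nat.card_congr e, hker_f]

end Cfsg.Agent.S0754
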