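import Cfsg.Statements.S0756
import Mathlib
import Cfsg.Agent.Lib.Helper13.OrthoSplit

set_option autoImplicit false
open Cfsg

namespace Cfsg.Agent.S0756

open Cfsg.Agent.Helper13 Polynomial

universe uV

variable {F : Type*} [Field F]

theorem exists_nonisotropic (h2 : (2 : F) ≠ 0) {V : Type*} [AddCommGroup V] [Module F V]
    [Nontrivial V] (B : V →ₗ[F] V →ₗ[F] F) (hS : B.IsSymm) (hB : B.Nondegenerate) :
    ∃ x, B x x ≠ 0 := by
  by_contra hcon
  push Not at hcon
  have hsymm : ∀ x y, B x y = B y x := fun x y => by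
    have := hS.eq y x
    simp only [RingHom.id_apply] at this
    exact this.symm
  have h0 : ∀ x y, B x y = 0 := by
    intro x y
    have h := hcon (x + y)
    simp only [map_add, LinearMap.add_apply, hcon x, hcon y, zero_add, add_zero] at h
    rw [hsymm y x] at h
    have : (2 : F) * B x y = 0 := by linear_combination h
    rcases mul_eq_zero.mp this with h' | h'
    · exact absurd h' h2
    · exact h'
  obtain ⟨v, hv⟩ := exists_ne (0 : V)
  exact hv (hB.1 v (fun y => h0 v y))

theorem exists_sq_sum [Fintype F] (h2 : (2 : F) ≠ 0) (d₁ d₂ : F) (hd₁ : d₁ ≠ 0) (hd₂ : d₂ ≠ 0) :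
    ∃ a b : F, d₁ * a ^ 2 + d₂ * b ^ 2 = 1 := by
  have hchar : ringChar F ≠ 2 := by
    intro h
    apply h2
    have : ((2 : ℕ) : F) = 0 := by
      rw [← h]; exact ringChar.Nat.cast_ringChar
    exact_mod_cast this
  have hodd := FiniteField.odd_card_of_char_ne_two hchar
  have hf : degree (C d₁ * X ^ 2 : F[X]) = 2 := by
    rw [degree_C_mul_X_pow 2 hd₁]; rfl
  have hg : degree (C d₂ * X ^ 2 - C 1 : F[X]) = 2 := by
    rw [degree_sub_C]
    · rw [degree_C_mul_X_pow 2 hd₂]; rfl
    · rw [degree_C_mul_X_pow 2 hd₂]; norm_num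
  obtain ⟨a, b, hab⟩ := FiniteField.exists_root_sum_quadratic hf hg hodd
  refine ⟨a, b, ?_⟩
  simp only [eval_mul, eval_C, eval_pow, eval_X, eval_sub] at hab
  linear_combination hab

theorem main.{u, v} {F : Type u} {V : Type v} [Field F] [Finite F] [AddCommGroup V] [Module F V] [FiniteDimensional F V] (h2 : (2 : F) ≠ 0) (B : LinearMap.BilinForm F V) (hS : B.IsSymm) (hB : B.Nondegenerate) {n : ℕ} (hn : Module.finrank F V = n + 1) (α : F) (hα : ¬ IsSquare α) : ∃ b : Module.Basis (Fin (n + 1)) F V, (∀ i j, i ≠ j → B (b i) (b j) = 0) ∧ (∀ i, i ≠ Fin.last n → B (b i) (b i) = 1) ∧ (B (b (Fin.last n)) (b (Fin.last n)) = 1 ∨ B (b (Fin.last n)) (b (Fin.last n)) = α) := by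
  classical
  have := Fintype.ofFinite F
  have hα0 : α ≠ 0 := by
    rintro rfl
    exact hα ⟨0, by simp⟩
  have hS' : LinearMap.IsSymm (B : V →ₛₗ[RingHom.id F] V →ₗ[F] F) :=
    LinearMap.BilinForm.isSymm_iff.mp hS
  have base : ∀ {W : Type v} [AddCommGroup W] [Module F W] [FiniteDimensional F W]
      (BW : W →ₛₗ[RingHom.id F] W →ₗ[F] F), BW.IsSymm → BW.Nondegenerate → Module.finrank F W = 1 →
      ∃ v : W, v ≠ 0 ∧ (BW v v = 1 ∨ BW v v = α) := by
    intro W _ _ _ BW hSW hBW hW1
    have : Nontrivial W := Module.nontrivial_of_finrank_pos (R := F) (by omega)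
    obtain ⟨v₀, hv₀⟩ := exists_ne (0 : W)
    have hd : BW v₀ v₀ ≠ 0 := by
      intro h0
      apply hv₀
      apply hBW.1
      intro y
      obtain ⟨c, rfl⟩ := (finrank_eq_one_iff_of_nonzero' v₀ hv₀).mp hW1 y
      rw [map_smul, h0, smul_zero]
    by_cases hsq : IsSquare (BW v₀ v₀)
    · obtain ⟨s, hs⟩ := hsq
      have hs0 : s ≠ 0 := by
        rintro rfl
        rw [mul_zero] at hs
        exact hd hs
      refine ⟨s⁻¹ • v₀, smul_ne_zero (inv_ne_zero hs0) hv₀, Or.inl ?_⟩
      simp only [map_smul, LinearMap.smul_apply, smul_eq_mul, RingHom.id_apply, hs]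
      field_simp
    · have hχd : quadraticChar F (BW v₀ v₀) = -1 := quadraticChar_neg_one_iff_not_isSquare.mpr hsq
      have hχα : quadraticChar F α = -1 := quadraticChar_neg_one_iff_not_isSquare.mpr hα
      have hχ : quadraticChar F (BW v₀ v₀ * α) = 1 := by
        rw [map_mul, hχd, hχα]; norm_num
      obtain ⟨t, ht⟩ := (quadraticChar_one_iff_isSquare (mul_ne_zero hd hα0)).mp hχ
      have ht0 : t ≠ 0 := by
        rintro rfl
        rw [mul_zero] at ht
        exact (mul_ne_zero hd hα0) ht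
      refine ⟨(α * t⁻¹) • v₀, smul_ne_zero (mul_ne_zero hα0 (inv_ne_zero ht0)) hv₀, Or.inr ?_⟩
      simp only [map_smul, LinearMap.smul_apply, smul_eq_mul, RingHom.id_apply]
      have e : α * t⁻¹ * (α * t⁻¹ * BW v₀ v₀) = α * (BW v₀ v₀ * α) * (t * t)⁻¹ := by
        rw [mul_inv]; ring
      rw [e, ht, mul_assoc, mul_inv_cancel₀ (mul_ne_zero ht0 ht0), mul_one]
  have step : ∀ {W : Type v} [AddCommGroup W] [Module F W] [FiniteDimensional F W]
      (BW : W →ₛₗ[RingHom.id F] W →ₗ[F] F), BW.IsSymm → BW.Nondegenerate →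
      2 ≤ Module.finrank F W → ∃ v : W, BW v v = 1 := by
    intro W _ _ _ BW hSW hBW hW2
    have : Nontrivial W := Module.nontrivial_of_finrank_pos (R := F) (by omega)
    obtain ⟨x, hx⟩ := exists_nonisotropic h2 BW hSW hBW
    have hrank := finrank_perpOf (B := BW) hx
    have : Nontrivial (perpOf BW x) := Module.nontrivial_of_finrank_pos (R := F) (by omega)
    obtain ⟨y, hy⟩ := exists_nonisotropic h2 (BW.domRestrict₁₂ (perpOf BW x) (perpOf BW x))
      (hSW.domRestrict _) (restrict_perpOf_nondegenerate hSW hBW hx)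
    rw [LinearMap.domRestrict₁₂_apply] at hy
    have hxy : BW x y = 0 := (mem_perpOf BW x y).mp y.2
    have hyx : BW (y : W) x = 0 := (IsSymm_zero_iff hSW _ _).mp hxy
    obtain ⟨a, b, hab⟩ := exists_sq_sum h2 (BW x x) (BW y y) hx hy
    refine ⟨a • x + b • (y : W), ?_⟩
    simp only [map_add, map_smul, LinearMap.add_apply, LinearMap.smul_apply, smul_eq_mul,
      RingHom.id_apply, hxy, hyx, mul_zero, add_zero, zero_add]
    linear_combination hab
  obtain ⟨v, h1, h2', h3, h4⟩ := exists_ortho_family (σ := RingHom.id F)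
    (fun c => c = 1 ∨ c = α) base step n B hS' hB hn
  have hcard : Fintype.card (Fin (n + 1)) = Module.finrank F V := by
    rw [Fintype.card_fin, hn]
  refine ⟨basisOfTopLeSpanOfCardEqFinrank v h4 hcard, ?_, ?_, ?_⟩
  all_goals rw [coe_basisOfTopLeSpanOfCardEqFinrank]
  · exact h1
  · exact h2'
  · exact h3

/-- Classification of symmetric bilinear forms over finite fields of odd characteristic: if B is non-degenerate symmetric on V of dimension n + 1 and α is a fixed non-square of F, there is an orthogonal basis b_0, ..., b_n with B(b_i, b_i) = 1 for i < n and B(b_n, b_n) ∈ {1, α}. -/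
theorem result {F V : Type*} [Field F] [Finite F] [AddCommGroup V] [Module F V] [FiniteDimensional F V] (h2 : (2 : F) ≠ 0) (B : LinearMap.BilinForm F V) (hS : B.IsSymm) (hB : B.Nondegenerate) {n : ℕ} (hn : Module.finrank F V = n + 1) (α : F) (hα : ¬ IsSquare α) : ∃ b : Module.Basis (Fin (n + 1)) F V, (∀ i j, i ≠ j → B (b i) (b j) = 0) ∧ (∀ i, i ≠ Fin.last n → B (b i) (b i) = 1) ∧ (B (b (Fin.last n)) (b (Fin.last n)) = 1 ∨ B (b (Fin.last n)) (b (Fin.last n)) = α) :=
  main h2 B hS hB hn α hα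

end Cfsg.Agent.S0756
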