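import Cfsg.Statements.S0757
import Mathlib

set_option autoImplicit false
open Cfsg

namespace Cfsg.Agent.S0757

theorem toMatrix'_wss {F : Type*} [Field F] [Invertible (2:F)] {ι : Type*} [Fintype ι] [DecidableEq ι] (w : ι → F) :
    QuadraticForm.toMatrix' (QuadraticMap.weightedSumSquares F w) = Matrix.diagonal w := by
  ext i j
  rw [QuadraticForm.toMatrix', LinearMap.toMatrix₂'_apply, QuadraticMap.associated_apply]
  simp only [QuadraticMap.weightedSumSquares_apply, Pi.add_apply, Pi.single_apply, smul_eq_mul]
  have h2 : (⅟2 : F) * 2 = 1 := invOf_mul_self 2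
  by_cases h : i = j
  · subst h
    simp only [Matrix.diagonal_apply_eq]
    have e1 : ∀ k, w k * (((if k = i then (1:F) else 0) + if k = i then 1 else 0) * ((if k = i then 1 else 0) + if k = i then 1 else 0)) = if k = i then 4 * w i else 0 := by
      intro k; split_ifs with hk
      · subst hk; ring
      · ring
    have e2 : ∀ k, w k * ((if k = i then (1:F) else 0) * (if k = i then 1 else 0)) = if k = i then w i else 0 := by
      intro k; split_ifs with hk
      · subst hk; ring
      · ring
    simp only [e1, e2, Finset.sum_ite_eq', Finset.mem_univ, if_true]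
    change ⅟2 * (4 * w i - w i - w i) = w i
    linear_combination (w i) * h2
  · simp only [Matrix.diagonal_apply_ne _ h]
    have e1 : ∀ k, w k * (((if k = i then (1:F) else 0) + if k = j then 1 else 0) * ((if k = i then 1 else 0) + if k = j then 1 else 0)) = (if k = i then w i else 0) + (if k = j then w j else 0) := by
      intro k; split_ifs with hk hk' hk'
      · exact absurd (hk.symm.trans hk') h
      · subst hk; ring
      · subst hk'; ring
      · ring
    have e2 : ∀ k (l : ι), w k * ((if k = l then (1:F) else 0) * (if k = l then 1 else 0)) = if k = l then w l else 0 := by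
      intro k l; split_ifs with hk
      · subst hk; ring
      · ring
    simp only [e1, e2, Finset.sum_add_distrib, Finset.sum_ite_eq', Finset.mem_univ, if_true]
    change ⅟2 * (w i + w j - w i - w j) = 0
    ring

/-- The two diagonal forms Σ x_i^2 and Σ_(i<n) x_i^2 + α x_n^2 on F^(n+1), with α a non-square and 2 ≠ 0 in F, are inequivalent quadratic forms (so over a finite field of odd order there are exactly two classes of non-singular symmetric bilinear forms in each dimension). -/
theorem result {F : Type*} [Field F] (h2 : (2 : F) ≠ 0) (n : ℕ) (α : F) (hα : ¬ IsSquare α) : ¬ (QuadraticMap.weightedSumSquares F (fun _ : Fin (n + 1) => (1 : F))).Equivalent (QuadraticMap.weightedSumSquares F (fun i : Fin (n + 1) => if i = Fin.last n then α else (1 : F))) := by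
  intro ⟨e⟩
  letI : Invertible (2 : F) := invertibleOfNonzero h2
  set Q₁ := QuadraticMap.weightedSumSquares F (fun _ : Fin (n + 1) => (1 : F)) with hQ₁
  set w₂ : Fin (n + 1) → F := fun i => if i = Fin.last n then α else (1 : F) with hw₂
  set Q₂ := QuadraticMap.weightedSumSquares F w₂ with hQ₂
  have hcomp : Q₁ = Q₂.comp e.toLinearEquiv.toLinearMap := by
    ext m
    simp only [QuadraticMap.comp_apply]
    exact (e.map_app m).symm
  have hd := congrArg QuadraticForm.discr' hcomp
  rw [QuadraticForm.discr'_comp] at hd
  have hd1 : QuadraticForm.discr' Q₁ = 1 := by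
    rw [QuadraticForm.discr', hQ₁, toMatrix'_wss, Matrix.det_diagonal]
    simp
  have hd2 : QuadraticForm.discr' Q₂ = α := by
    rw [QuadraticForm.discr', hQ₂, toMatrix'_wss, Matrix.det_diagonal, hw₂]
    rw [Finset.prod_ite_eq' ]
    simp
  rw [hd1, hd2] at hd
  set d := (LinearMap.toMatrix' e.toLinearEquiv.toLinearMap).det with hdd
  have hdne : d ≠ 0 := by
    rintro h0
    rw [h0] at hd
    simp at hd
  apply hα
  refine ⟨d⁻¹, ?_⟩
  field_simp
  linear_combination -hd

end Cfsg.Agent.S0757
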