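import Cfsg.Statements.S0758
import Mathlib

set_option autoImplicit false
open Cfsg

namespace Cfsg.Agent.S0758

theorem ringChar_ne_two {F : Type*} [Field F] (h2 : (2 : F) ≠ 0) : ringChar F ≠ 2 := by
  intro h
  apply h2
  have : ((2 : ℕ) : F) = 0 := by
    rw [← h]; exact ringChar.Nat.cast_ringChar
  exact_mod_cast this

/-- For a finite field F of odd order q and a non-square α: the form x² + y² is isotropic iff q ≡ 1 mod 4, and the form x² + α y² is isotropic iff q ≡ 3 mod 4. -/
theorem result {F : Type*} [Field F] [Fintype F] (h2 : (2 : F) ≠ 0) (α : F) (hα : ¬ IsSquare α) : ((∃ x y : F, (x ≠ 0 ∨ y ≠ 0) ∧ x ^ 2 + y ^ 2 = 0) ↔ Fintype.card F % 4 = 1) ∧ ((∃ x y : F, (x ≠ 0 ∨ y ≠ 0) ∧ x ^ 2 + α * y ^ 2 = 0) ↔ Fintype.card F % 4 = 3) := by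
  classical
  have hchar : ringChar F ≠ 2 := ringChar_ne_two h2
  have hodd : Fintype.card F % 2 = 1 := FiniteField.odd_card_of_char_ne_two hchar
  have hsq := FiniteField.isSquare_neg_one_iff (F := F)
  have hα0 : α ≠ 0 := by
    rintro rfl
    exact hα ⟨0, by simp⟩
  -- part 1 core
  have h1 : (∃ x y : F, (x ≠ 0 ∨ y ≠ 0) ∧ x ^ 2 + y ^ 2 = 0) ↔ IsSquare (-1 : F) := by
    constructor
    · rintro ⟨x, y, hxy, h⟩
      rcases hxy with hx | hy
      · refine ⟨y / x, ?_⟩
        have hx2 : x ^ 2 ≠ 0 := pow_ne_zero 2 hx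
        have e : y / x * (y / x) = y ^ 2 / x ^ 2 := by ring
        rw [e, eq_div_iff hx2]
        linear_combination -h
      · refine ⟨x / y, ?_⟩
        have hy2 : y ^ 2 ≠ 0 := pow_ne_zero 2 hy
        have e : x / y * (x / y) = x ^ 2 / y ^ 2 := by ring
        rw [e, eq_div_iff hy2]
        linear_combination -h
    · rintro ⟨i, hi⟩
      refine ⟨i, 1, Or.inr one_ne_zero, ?_⟩
      linear_combination -hi
  have h2' : (∃ x y : F, (x ≠ 0 ∨ y ≠ 0) ∧ x ^ 2 + α * y ^ 2 = 0) ↔ ¬ IsSquare (-1 : F) := by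
    constructor
    · rintro ⟨x, y, hxy, h⟩ ⟨i, hi⟩
      have hy : y ≠ 0 := by
        rintro rfl
        rcases hxy with hx | hy
        · apply hx
          have : x ^ 2 = 0 := by linear_combination h
          exact pow_eq_zero_iff (two_ne_zero) |>.mp this
        · exact hy rfl
      apply hα
      refine ⟨i * x / y, ?_⟩
      have hy2 : y ^ 2 ≠ 0 := pow_ne_zero 2 hy
      have e : i * x / y * (i * x / y) = (i * i) * x ^ 2 / y ^ 2 := by ring
      rw [e, eq_div_iff hy2, ← hi]
      linear_combination h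
    · intro hneg
      have hχ1 : quadraticChar F (-1) = -1 := quadraticChar_neg_one_iff_not_isSquare.mpr hneg
      have hχα : quadraticChar F α = -1 := quadraticChar_neg_one_iff_not_isSquare.mpr hα
      have hχ : quadraticChar F (-α) = 1 := by
        rw [show -α = (-1) * α by ring, map_mul, hχ1, hχα]; norm_num
      have hnα : -α ≠ 0 := neg_ne_zero.mpr hα0
      obtain ⟨s, hs⟩ := (quadraticChar_one_iff_isSquare hnα).mp hχ
      refine ⟨s, 1, Or.inr one_ne_zero, ?_⟩
      linear_combination -hs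
  constructor
  · rw [h1, hsq]; omega
  · rw [h2', hsq]; omega

end Cfsg.Agent.S0758
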