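import Cfsg.Statements.S0759
import Mathlib

set_option autoImplicit false
open Cfsg

namespace Cfsg.Agent.S0759

open Matrix Module

variable {F : Type*} [Field F]

/-! ### construction of a totally singular subspace from an anti-isometry -/

/-- the graph-like embedding -/
def graphMap {ι : Type} {N : ℕ} (e : ι ⊕ ι ≃ Fin N) (A : (ι → F) →ₗ[F] (ι → F)) :
    (ι → F) →ₗ[F] (Fin N → F) where
  toFun c := fun t => Sum.elim c (A c) (e.symm t)
  map_add' c d := by
    funext t
    rcases h : e.symm t with j | j <;> simp [h]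
  map_smul' a c := by
    funext t
    rcases h : e.symm t with j | j <;> simp [h]

theorem graphMap_apply_inl {ι : Type} {N : ℕ} (e : ι ⊕ ι ≃ Fin N) (A : (ι → F) →ₗ[F] (ι → F))
    (c : ι → F) (j : ι) : graphMap e A c (e (Sum.inl j)) = c j := by
  simp [graphMap]

theorem graphMap_apply_inr {ι : Type} {N : ℕ} (e : ι ⊕ ι ≃ Fin N) (A : (ι → F) →ₗ[F] (ι → F))
    (c : ι → F) (j : ι) : graphMap e A c (e (Sum.inr j)) = A c j := by
  simp [graphMap]

theorem exists_of_anti {ι : Type} [Fintype ι] (m : ℕ) (hcard : Fintype.card ι = m)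
    (A : (ι → F) →ₗ[F] (ι → F)) (hA : ∀ c, ∑ j, (A c j) ^ 2 = - ∑ j, (c j) ^ 2) :
    ∃ W : Submodule F (Fin (2 * m) → F), Module.finrank F W = m ∧ ∀ w ∈ W, ∑ i, w i ^ 2 = 0 := by
  classical
  have hc2 : Fintype.card (ι ⊕ ι) = 2 * m := by
    rw [Fintype.card_sum, hcard, two_mul]
  let e : ι ⊕ ι ≃ Fin (2 * m) := Fintype.equivFinOfCardEq hc2
  have hinj : Function.Injective (graphMap e A) := by
    intro c d hcd
    funext j
    have := congrFun hcd (e (Sum.inl j))
    rwa [graphMap_apply_inl, graphMap_apply_inl] at this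
  refine ⟨LinearMap.range (graphMap e A), ?_, ?_⟩
  · rw [LinearMap.finrank_range_of_inj hinj, Module.finrank_fintype_fun_eq_card, hcard]
  · rintro w ⟨c, rfl⟩
    rw [← Equiv.sum_comp e, Fintype.sum_sum_type]
    simp only [graphMap_apply_inl, graphMap_apply_inr]
    rw [hA c, add_neg_cancel]

theorem exists_of_sq_neg_one (m : ℕ) (i : F) (hi : i ^ 2 = -1) :
    ∃ W : Submodule F (Fin (2 * m) → F), Module.finrank F W = m ∧ ∀ w ∈ W, ∑ i, w i ^ 2 = 0 := by
  apply exists_of_anti (ι := Fin m) m (Fintype.card_fin m) (i • LinearMap.id)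
  intro c
  simp only [LinearMap.smul_apply, LinearMap.id_coe, id_eq, Pi.smul_apply, smul_eq_mul, mul_pow, hi]
  rw [← Finset.mul_sum]
  ring

theorem exists_of_sum_sq (r : ℕ) (a b : F) (hab : a ^ 2 + b ^ 2 = -1) :
    ∃ W : Submodule F (Fin (2 * (2 * r)) → F), Module.finrank F W = 2 * r ∧
      ∀ w ∈ W, ∑ i, w i ^ 2 = 0 := by
  let A : (Fin r ⊕ Fin r → F) →ₗ[F] (Fin r ⊕ Fin r → F) :=
    { toFun := fun c => Sum.elim (fun j => a * c (Sum.inl j) - b * c (Sum.inr j))
        (fun j => b * c (Sum.inl j) + a * c (Sum.inr j))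
      map_add' := by
        intro c d
        funext t
        rcases t with j | j <;> simp <;> ring
      map_smul' := by
        intro x c
        funext t
        rcases t with j | j <;> simp <;> ring }
  apply exists_of_anti (ι := Fin r ⊕ Fin r) (2 * r) (by simp [two_mul]) A
  intro c
  simp only [Fintype.sum_sum_type, A, LinearMap.coe_mk, AddHom.coe_mk, Sum.elim_inl, Sum.elim_inr]
  rw [← Finset.sum_add_distrib, ← Finset.sum_add_distrib, ← Finset.sum_neg_distrib]
  apply Finset.sum_congr rfl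
  intro j _
  linear_combination (c (Sum.inl j) ^ 2 + c (Sum.inr j) ^ 2) * hab

/-! ### the discriminant obstruction -/

theorem dot_zero_of_singular (h2 : (2 : F) ≠ 0) {N : ℕ} (W : Submodule F (Fin N → F))
    (hW : ∀ w ∈ W, ∑ i, w i ^ 2 = 0) {w w' : Fin N → F} (hw : w ∈ W) (hw' : w' ∈ W) :
    ∑ i, w i * w' i = 0 := by
  have h1 := hW _ (W.add_mem hw hw')
  have h3 : ∑ i, (w + w') i ^ 2 = ∑ i, w i ^ 2 + 2 * ∑ i, w i * w' i + ∑ i, w' i ^ 2 := by
    simp only [Pi.add_apply, Finset.mul_sum, ← Finset.sum_add_distrib]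
    apply Finset.sum_congr rfl
    intros
    ring
  rw [h3, hW w hw, hW w' hw'] at h1
  simpa [h2] using h1

theorem neg_one_pow_isSquare (h2 : (2 : F) ≠ 0) (m : ℕ) (W : Submodule F (Fin (2 * m) → F))
    (hWm : Module.finrank F W = m) (hW : ∀ w ∈ W, ∑ i, w i ^ 2 = 0) :
    IsSquare ((-1 : F) ^ m) := by
  classical
  obtain ⟨W', hc⟩ := Submodule.exists_isCompl W
  have hW'm : Module.finrank F W' = m := by
    have := Submodule.finrank_add_eq_of_isCompl hc
    rw [hWm, Module.finrank_fin_fun] at this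
    omega
  let bW : Basis (Fin m) F W := Module.finBasisOfFinrankEq F W hWm
  let bW' : Basis (Fin m) F W' := Module.finBasisOfFinrankEq F W' hW'm
  let bV : Basis (Fin m ⊕ Fin m) F (Fin (2 * m) → F) :=
    (bW.prod bW').map (Submodule.prodEquivOfIsCompl W W' hc)
  have hbVl : ∀ x, bV (Sum.inl x) ∈ W := by
    intro x
    simp only [bV, Basis.map_apply, Submodule.coe_prodEquivOfIsCompl']
    simp
  let e : Fin m ⊕ Fin m ≃ Fin (2 * m) := finSumFinEquiv.trans (finCongr (two_mul m).symm)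
  let P : Matrix (Fin (2 * m)) (Fin m ⊕ Fin m) F := (Pi.basisFun F (Fin (2 * m))).toMatrix bV
  let Q : Matrix (Fin m ⊕ Fin m) (Fin (2 * m)) F := bV.toMatrix (Pi.basisFun F (Fin (2 * m)))
  have hPQ : P * Q = 1 := Basis.toMatrix_mul_toMatrix_flip _ _
  let P' : Matrix (Fin m ⊕ Fin m) (Fin m ⊕ Fin m) F := P.submatrix e (Equiv.refl _)
  have hP'inv : P' * Q.submatrix (Equiv.refl _) e = 1 := by
    simp only [P']
    rw [Matrix.submatrix_mul_equiv, hPQ, Matrix.submatrix_one_equiv]
  have hdetP' : P'.det ≠ 0 := Matrix.det_ne_zero_of_right_inverse hP'inv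
  let G : Matrix (Fin m ⊕ Fin m) (Fin m ⊕ Fin m) F := P'ᵀ * P'
  have hG : ∀ c c', G c c' = ∑ a, bV c a * bV c' a := by
    intro c c'
    simp only [G, Matrix.mul_apply, Matrix.transpose_apply, P', Matrix.submatrix_apply, P,
      Basis.toMatrix_apply, Pi.basisFun_repr, Equiv.refl_apply]
    exact Equiv.sum_comp e (fun a => bV c a * bV c' a)
  have hG11 : G.toBlocks₁₁ = 0 := by
    ext x x'
    change G (Sum.inl x) (Sum.inl x') = 0
    rw [hG]
    exact dot_zero_of_singular h2 W hW (hbVl x) (hbVl x')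
  have hGsymm : Gᵀ = G := by simp [G, Matrix.transpose_mul]
  have hG21 : G.toBlocks₂₁ = G.toBlocks₁₂ᵀ := by
    ext y x
    have := congrFun (congrFun hGsymm (Sum.inr y)) (Sum.inl x)
    rw [Matrix.transpose_apply] at this
    exact this.symm
  have hGfb : G = Matrix.fromBlocks 0 G.toBlocks₁₂ G.toBlocks₁₂ᵀ G.toBlocks₂₂ := by
    rw [← hG11, ← hG21, Matrix.fromBlocks_toBlocks]
  have hGJ : G * Matrix.J (Fin m) F =
      Matrix.fromBlocks G.toBlocks₁₂ 0 G.toBlocks₂₂ (-G.toBlocks₁₂ᵀ) := by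
    conv_lhs => rw [hGfb]
    rw [Matrix.J, Matrix.fromBlocks_multiply]
    simp
  have hdet : G.det = (-1) ^ m * G.toBlocks₁₂.det ^ 2 := by
    have h1 : (G * Matrix.J (Fin m) F).det = G.det := by
      rw [Matrix.det_mul, SymplecticGroup.det_eq_one (SymplecticGroup.J_mem (Fin m) F), mul_one]
    rw [← h1, hGJ, Matrix.det_fromBlocks_zero₁₂, Matrix.det_neg, Matrix.det_transpose,
      Fintype.card_fin]
    ring
  have hdet2 : G.det = P'.det ^ 2 := by
    simp only [G, Matrix.det_mul, Matrix.det_transpose, sq]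
  have hA : G.toBlocks₁₂.det ≠ 0 := by
    intro h0
    rw [hdet2, h0] at hdet
    simp only [ne_eq, OfNat.ofNat_ne_zero, not_false_eq_true, zero_pow, mul_zero] at hdet
    exact hdetP' (pow_eq_zero_iff (two_ne_zero) |>.mp hdet)
  refine ⟨P'.det / G.toBlocks₁₂.det, ?_⟩
  rw [hdet2] at hdet
  field_simp
  linear_combination -hdet

/-- Type of the orthonormal form: over a finite field of odd order q and for m ≥ 1, the quadratic form Σ_(i<2m) x_i² on F^(2m) admits an m-dimensional subspace on which it vanishes identically if and only if it is not the case that q ≡ 3 (mod 4) and m is odd. -/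
theorem result {F : Type*} [Field F] [Fintype F] (h2 : (2 : F) ≠ 0) (m : ℕ) (hm : 1 ≤ m) : (∃ W : Submodule F (Fin (2 * m) → F), Module.finrank F W = m ∧ ∀ w ∈ W, ∑ i, w i ^ 2 = 0) ↔ ¬ (Fintype.card F % 4 = 3 ∧ Odd m) := by
  constructor
  · rintro ⟨W, hWm, hW⟩ ⟨h3, hodd⟩
    have := neg_one_pow_isSquare h2 m W hWm hW
    rw [hodd.neg_one_pow, FiniteField.isSquare_neg_one_iff] at this
    exact this h3
  · intro h
    by_cases hsq : IsSquare (-1 : F)
    · obtain ⟨i, hi⟩ := hsq
      exact exists_of_sq_neg_one m i (by rw [sq]; exact hi.symm)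
    · rw [FiniteField.isSquare_neg_one_iff, not_not] at hsq
      have hev : Even m := by
        rw [← Nat.not_odd_iff_even]
        exact fun ho => h ⟨hsq, ho⟩
      obtain ⟨r, hr⟩ := hev
      have hr' : m = 2 * r := by omega
      subst hr'
      obtain ⟨p, hp⟩ := CharP.exists F
      have := hp
      have : Fact p.Prime := ⟨CharP.char_is_prime F p⟩
      have : NeZero p := ⟨(Fact.out : p.Prime).ne_zero⟩
      obtain ⟨a, b, hab⟩ := CharP.sq_add_sq F p (-1)
      exact exists_of_sum_sq r (a : F) (b : F) (by rw [hab]; simp)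

end Cfsg.Agent.S0759
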