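import Cfsg.Statements.S0760
import Mathlib

set_option autoImplicit false
open Cfsg

namespace Cfsg.Agent.S0760

open Module

variable {F V : Type*} [Field F] [AddCommGroup V] [Module F V] [FiniteDimensional F V]

theorem polar_zero_of_singular (Q : QuadraticForm F V) (W : Submodule F V)
    (h : ∀ w ∈ W, Q w = 0) {x y : V} (hx : x ∈ W) (hy : y ∈ W) :
    QuadraticMap.polarBilin Q x y = 0 := by
  rw [QuadraticMap.polarBilin_apply_apply, QuadraticMap.polar, h _ (W.add_mem hx hy), h x hx, h y hy]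
  simp

theorem le_orthogonal (Q : QuadraticForm F V) (W : Submodule F V) (h : ∀ w ∈ W, Q w = 0) :
    W ≤ LinearMap.BilinForm.orthogonal (QuadraticMap.polarBilin Q) W := by
  intro x hx
  rw [LinearMap.BilinForm.mem_orthogonal_iff]
  intro n hn
  exact polar_zero_of_singular Q W h hn hx

theorem finrank_le_of_max (Q : QuadraticForm F V) (hQ : (QuadraticMap.polarBilin Q).Nondegenerate)
    (W₁ W₂ : Submodule F V) (h₁ : ∀ w ∈ W₁, Q w = 0) (h₂ : ∀ w ∈ W₂, Q w = 0)
    (hmax₁ : ∀ W : Submodule F V, W₁ ≤ W → (∀ w ∈ W, Q w = 0) → W = W₁) :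
    finrank F W₂ ≤ finrank F W₁ := by
  set B : LinearMap.BilinForm F V := QuadraticMap.polarBilin Q with hB
  have h3 : W₂ ⊓ LinearMap.BilinForm.orthogonal B W₁ ≤ W₁ := by
    have hU : W₁ ⊔ (W₂ ⊓ LinearMap.BilinForm.orthogonal B W₁) = W₁ := by
      apply hmax₁ _ le_sup_left
      intro w hw
      obtain ⟨w₁, hw₁, x, hx, rfl⟩ := Submodule.mem_sup.mp hw
      have hx2 : x ∈ W₂ := hx.1
      have hxo : x ∈ LinearMap.BilinForm.orthogonal B W₁ := hx.2
      rw [LinearMap.BilinForm.mem_orthogonal_iff] at hxo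
      have hp : QuadraticMap.polar Q w₁ x = 0 := by
        have := hxo w₁ hw₁
        rw [hB, QuadraticMap.polarBilin_apply_apply] at this
        exact this
      have : Q (w₁ + x) = Q w₁ + Q x + QuadraticMap.polar Q w₁ x := by
        rw [QuadraticMap.polar]; ring
      rw [this, h₁ w₁ hw₁, h₂ x hx2, hp]
      simp
    exact le_trans le_sup_right hU.le
  have h4 : W₂ ⊓ LinearMap.BilinForm.orthogonal B W₁ ≤ W₁ ⊓ W₂ := le_inf h3 inf_le_left
  have h5 : W₂ ⊔ LinearMap.BilinForm.orthogonal B W₁ ≤ LinearMap.BilinForm.orthogonal B (W₁ ⊓ W₂) := by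
    apply sup_le
    · intro z hz
      rw [LinearMap.BilinForm.mem_orthogonal_iff]
      intro d hd
      exact polar_zero_of_singular Q W₂ h₂ hd.2 hz
    · intro z hz
      rw [LinearMap.BilinForm.mem_orthogonal_iff] at hz ⊢
      intro d hd
      exact hz d hd.1
  have e1 := Submodule.finrank_sup_add_finrank_inf_eq W₂ (LinearMap.BilinForm.orthogonal B W₁)
  have e2 := LinearMap.BilinForm.finrank_orthogonal hQ W₁
  have e3 := LinearMap.BilinForm.finrank_orthogonal hQ (W₁ ⊓ W₂)
  have e4 := Submodule.finrank_mono h4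
  have e5 := Submodule.finrank_mono h5
  have e6 : finrank F W₁ ≤ finrank F V := Submodule.finrank_le W₁
  have e7 : finrank F (W₁ ⊓ W₂ : Submodule F V) ≤ finrank F V := Submodule.finrank_le _
  omega

/-- Witt index is well defined: if Q is a quadratic form on a finite-dimensional space V over a finite field with non-degenerate polar form, and W₁, W₂ are subspaces on which Q vanishes that are maximal with this property, then W₁ and W₂ have the same dimension, and twice this dimension is at most dim V. -/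
theorem result {F V : Type*} [Field F] [Finite F] [AddCommGroup V] [Module F V] [FiniteDimensional F V] (Q : QuadraticForm F V) (hQ : (QuadraticMap.polarBilin Q).Nondegenerate) (W₁ W₂ : Submodule F V) (h₁ : ∀ w ∈ W₁, Q w = 0) (h₂ : ∀ w ∈ W₂, Q w = 0) (hmax₁ : ∀ W : Submodule F V, W₁ ≤ W → (∀ w ∈ W, Q w = 0) → W = W₁) (hmax₂ : ∀ W : Submodule F V, W₂ ≤ W → (∀ w ∈ W, Q w = 0) → W = W₂) : Module.finrank F W₁ = Module.finrank F W₂ ∧ 2 * Module.finrank F W₁ ≤ Module.finrank F V := by
  refine ⟨le_antisymm (finrank_le_of_max Q hQ W₂ W₁ h₂ h₁ hmax₂)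
    (finrank_le_of_max Q hQ W₁ W₂ h₁ h₂ hmax₁), ?_⟩
  have e1 := Submodule.finrank_mono (le_orthogonal Q W₁ h₁)
  have e2 := LinearMap.BilinForm.finrank_orthogonal hQ W₁
  have e6 : finrank F W₁ ≤ finrank F V := Submodule.finrank_le W₁
  omega

end Cfsg.Agent.S0760
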