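import Cfsg.Statements.S0763
import Mathlib

set_option autoImplicit false
open Cfsg

namespace Cfsg.Agent.S0763

/-- Binary quadratic forms in characteristic two over a finite field: if Q is a quadratic form on a 2-dimensional space whose polar form is non-degenerate, then either there are vectors v, w with Q v = Q w = 0 and polar value 1 (Q is xy in these coordinates), or there are v, w and μ with Q v = 1, Q w = μ, polar value 1 and x² + x + μ without roots in F (Q is x² + xy + μy²). -/
theorem result {F V : Type*} [Field F] [Finite F] [CharP F 2] [AddCommGroup V] [Module F V] (Q : QuadraticForm F V) (h2 : Module.finrank F V = 2) (hQ : (QuadraticMap.polarBilin Q).Nondegenerate) : (∃ v w : V, LinearIndependent F ![v, w] ∧ Q v = 0 ∧ Q w = 0 ∧ QuadraticMap.polar Q v w = 1) ∨ (∃ (v w : V) (μ : F), LinearIndependent F ![v, w] ∧ (∀ x : F, x ^ 2 + x + μ ≠ 0) ∧ Q v = 1 ∧ Q w = μ ∧ QuadraticMap.polar Q v w = 1) := by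
  have h2F : (2 : F) = 0 := by
    have := CharP.cast_eq_zero F 2
    exact_mod_cast this
  have hself : ∀ x : V, QuadraticMap.polar (⇑Q) x x = 0 := by
    intro x
    rw [QuadraticMap.polar_self, nsmul_eq_mul]
    push_cast
    rw [h2F, zero_mul]
  -- partner with polar = 1
  have hpartner : ∀ v : V, v ≠ 0 → ∃ w : V, QuadraticMap.polar (⇑Q) v w = 1 := by
    intro v hv
    have : ∃ w, QuadraticMap.polarBilin Q v w ≠ 0 := by
      by_contra hcon
      push Not at hcon
      exact hv (hQ.1 v hcon)
    obtain ⟨w, hw⟩ := this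
    rw [QuadraticMap.polarBilin_apply_apply] at hw
    refine ⟨(QuadraticMap.polar (⇑Q) v w)⁻¹ • w, ?_⟩
    rw [QuadraticMap.polar_smul_right, smul_eq_mul, inv_mul_cancel₀ hw]
  -- linear independence
  have hli : ∀ v w : V, QuadraticMap.polar (⇑Q) v w = 1 → LinearIndependent F ![v, w] := by
    intro v w hvw
    rw [LinearIndependent.pair_iff]
    intro s t hst
    have h1 := congrArg (fun z => QuadraticMap.polar (⇑Q) z w) hst
    have h3 := congrArg (fun z => QuadraticMap.polar (⇑Q) v z) hst
    simp only [QuadraticMap.polar_add_left, QuadraticMap.polar_smul_left, QuadraticMap.polar_add_right,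
      QuadraticMap.polar_smul_right, hvw, hself, smul_eq_mul, mul_one, mul_zero, add_zero, zero_add,
      QuadraticMap.polar_zero_left, QuadraticMap.polar_zero_right] at h1 h3
    exact ⟨h1, h3⟩
  have hnt : Nontrivial V := Module.nontrivial_of_finrank_pos (R := F) (by omega)
  by_cases hiso : ∃ v : V, v ≠ 0 ∧ Q v = 0
  · left
    obtain ⟨v, hv, hQv⟩ := hiso
    obtain ⟨w, hvw⟩ := hpartner v hv
    have hwv : QuadraticMap.polar (⇑Q) w v = 1 := by rw [QuadraticMap.polar_comm]; exact hvw
    refine ⟨v, w + Q w • v, hli _ _ ?_, hQv, ?_, ?_⟩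
    · rw [QuadraticMap.polar_add_right, QuadraticMap.polar_smul_right, hself, hvw]; simp
    · rw [QuadraticMap.map_add (⇑Q), QuadraticMap.map_smul, hQv, QuadraticMap.polar_smul_right, hwv]
      simp only [smul_eq_mul, mul_zero, add_zero, mul_one]
      linear_combination (Q w) * h2F
    · rw [QuadraticMap.polar_add_right, QuadraticMap.polar_smul_right, hself, hvw]; simp
  · right
    push Not at hiso
    obtain ⟨v₀, hv₀⟩ := exists_ne (0 : V)
    have ha : Q v₀ ≠ 0 := hiso v₀ hv₀
    obtain ⟨s, hs⟩ := FiniteField.isSquare_of_char_two (F := F) (by rw [ringChar.eq F 2]) (Q v₀)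
    have hs0 : s ≠ 0 := by
      rintro rfl
      rw [mul_zero] at hs
      exact ha hs
    set v := s⁻¹ • v₀ with hvdef
    have hv : v ≠ 0 := smul_ne_zero (inv_ne_zero hs0) hv₀
    have hQv : Q v = 1 := by
      rw [hvdef, QuadraticMap.map_smul, hs, smul_eq_mul]
      field_simp
    obtain ⟨w, hvw⟩ := hpartner v hv
    refine ⟨v, w, Q w, hli v w hvw, ?_, hQv, rfl, hvw⟩
    intro x hx
    have hne : x • v + w ≠ 0 := by
      intro h0
      have := congrArg (fun z => QuadraticMap.polar (⇑Q) v z) h0
      simp only [QuadraticMap.polar_add_right, QuadraticMap.polar_smul_right, hself, hvw,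
        smul_eq_mul, mul_zero, zero_add, QuadraticMap.polar_zero_right] at this
      exact one_ne_zero this
    apply hiso _ hne
    rw [QuadraticMap.map_add (⇑Q), QuadraticMap.map_smul, hQv, QuadraticMap.polar_smul_left, hvw]
    simp only [smul_eq_mul, mul_one]
    linear_combination hx

end Cfsg.Agent.S0763
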