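import Cfsg.Statements.S0764
import Mathlib

set_option autoImplicit false
open Cfsg

namespace Cfsg.Agent.S0764

open Matrix

theorem J_dot_self {R : Type*} [CommRing R] (m : ℕ) (w : Fin m ⊕ Fin m → R) :
    w ⬝ᵥ (Matrix.J (Fin m) R *ᵥ w) = 0 := by
  simp only [dotProduct, Matrix.J, Matrix.mulVec, Fintype.sum_sum_type, Matrix.fromBlocks_apply₁₁,
    Matrix.fromBlocks_apply₁₂, Matrix.fromBlocks_apply₂₁, Matrix.fromBlocks_apply₂₂,
    Matrix.zero_apply, zero_mul, Finset.sum_const_zero, zero_add, add_zero, Matrix.neg_apply,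
    Matrix.one_apply, neg_mul, ite_mul, one_mul, Finset.sum_neg_distrib, Finset.sum_ite_eq,
    Finset.mem_univ, if_true, mul_neg]
  rw [neg_add_eq_zero]
  apply Finset.sum_congr rfl
  intro i _
  ring

theorem J_mulVec_J_mulVec {R : Type*} [CommRing R] (m : ℕ) (v : Fin m ⊕ Fin m → R) :
    Matrix.J (Fin m) R *ᵥ (Matrix.J (Fin m) R *ᵥ v) = -v := by
  rw [Matrix.mulVec_mulVec, Matrix.J_squared, Matrix.neg_mulVec, Matrix.one_mulVec]

theorem J_mulVec_vecMul_J {R : Type*} [CommRing R] (m : ℕ) (v : Fin m ⊕ Fin m → R) :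
    (Matrix.J (Fin m) R *ᵥ v) ᵥ* Matrix.J (Fin m) R = v := by
  rw [← Matrix.mulVec_transpose, Matrix.mulVec_mulVec, Matrix.J_transpose, Matrix.neg_mul,
    Matrix.J_squared, neg_neg, Matrix.one_mulVec]

/-- The symplectic transvection `x ↦ x + c f(x, v) v` (here `f` is Mathlib's alternating form carried by the symplectic group) is a symplectic matrix. -/
theorem result {F : Type*} [Field F] (m : ℕ) (v : Fin m ⊕ Fin m → F) (c : F) : Cfsg.sympTransvection m v c ∈ Matrix.symplecticGroup (Fin m) F := by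
  rw [SymplecticGroup.mem_iff]
  unfold Cfsg.sympTransvection
  have h0 : v ⬝ᵥ (Matrix.J (Fin m) F *ᵥ v) = 0 := J_dot_self m v
  have h1 : vecMulVec v (Matrix.J (Fin m) F *ᵥ v) * Matrix.J (Fin m) F = vecMulVec v v := by
    rw [Matrix.vecMulVec_mul, J_mulVec_vecMul_J]
  have h2 : Matrix.J (Fin m) F * vecMulVec (Matrix.J (Fin m) F *ᵥ v) v = - vecMulVec v v := by
    rw [Matrix.mul_vecMulVec, J_mulVec_J_mulVec, Matrix.neg_vecMulVec]
  have h3 : vecMulVec v v * vecMulVec (Matrix.J (Fin m) F *ᵥ v) v = 0 := by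
    rw [Matrix.vecMulVec_mul_vecMulVec, h0, zero_smul, Matrix.vecMulVec_zero]
  rw [Matrix.transpose_add, Matrix.transpose_one, Matrix.transpose_smul,
    Matrix.transpose_vecMulVec, Matrix.add_mul, Matrix.one_mul, Matrix.smul_mul, h1,
    Matrix.mul_add, Matrix.mul_one, Matrix.add_mul, Matrix.mul_smul, h2, Matrix.smul_mul,
    Matrix.mul_smul, h3]
  simp

end Cfsg.Agent.S0764
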