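import Cfsg.Statements.S0767
import Mathlib

set_option autoImplicit false
open Cfsg

namespace Cfsg.Agent.S0767

open Matrix

theorem J_dot_self {R : Type*} [CommRing R] (m : ℕ) (w : Fin m ⊕ Fin m → R) :
    w ⬝ᵥ (Matrix.J (Fin m) R *ᵥ w) = 0 := by
  simp only [dotProduct, Matrix.J, Matrix.mulVec, Fintype.sum_sum_type, Matrix.fromBlocks_apply₁₁,
    Matrix.fromBlocks_apply₁₂, Matrix.fromBlocks_apply₂₁, Matrix.fromBlocks_apply₂₂,
    Matrix.zero_apply, zero_mul, Finset.sum_const_zero, zero_add, add_zero, Matrix.neg_apply,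
    Matrix.one_apply, neg_mul, ite_mul, one_mul, Finset.sum_neg_distrib, Finset.sum_ite_eq,
    Finset.mem_univ, if_true, mul_neg]
  rw [neg_add_eq_zero]
  apply Finset.sum_congr rfl
  intro i _
  ring

theorem J_mulVec_eq {R : Type*} [CommRing R] (m : ℕ) (v : Fin m ⊕ Fin m → R) :
    Matrix.J (Fin m) R *ᵥ v = - (v ᵥ* Matrix.J (Fin m) R) := by
  rw [← Matrix.vecMul_transpose, Matrix.J_transpose, Matrix.vecMul_neg]

/-- The root group of a point: T_v(c) T_v(d) = T_v(c + d), and for A in the symplectic group with A v = a v, the conjugate A T_v(c) A⁻¹ is again some T_v(d). -/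
theorem result {F : Type*} [Field F] (m : ℕ) (v : Fin m ⊕ Fin m → F) : (∀ c d : F, Cfsg.sympTransvection m v c * Cfsg.sympTransvection m v d = Cfsg.sympTransvection m v (c + d)) ∧ ∀ (A : Matrix (Fin m ⊕ Fin m) (Fin m ⊕ Fin m) F) (a : F), A ∈ Matrix.symplecticGroup (Fin m) F → A.mulVec v = a • v → ∀ c : F, ∃ d : F, A * Cfsg.sympTransvection m v c * A⁻¹ = Cfsg.sympTransvection m v d := by
  have h0 : v ⬝ᵥ (Matrix.J (Fin m) F *ᵥ v) = 0 := J_dot_self m v
  have h0' : (Matrix.J (Fin m) F *ᵥ v) ⬝ᵥ v = 0 := by rw [dotProduct_comm]; exact h0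
  constructor
  · intro c d
    unfold Cfsg.sympTransvection
    have hsq : vecMulVec v (Matrix.J (Fin m) F *ᵥ v) * vecMulVec v (Matrix.J (Fin m) F *ᵥ v) = 0 := by
      rw [Matrix.vecMulVec_mul_vecMulVec, h0', zero_smul, Matrix.vecMulVec_zero]
    rw [Matrix.add_mul, Matrix.one_mul, Matrix.mul_add, Matrix.mul_one, Matrix.smul_mul,
      Matrix.mul_smul, hsq, smul_zero, smul_zero, add_zero, add_smul, add_assoc]
    congr 1
    rw [add_comm]
  · intro A a hA hAv c
    refine ⟨c * a ^ 2, ?_⟩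
    unfold Cfsg.sympTransvection
    have hdet : IsUnit A.det := SymplecticGroup.symplectic_det hA
    have hA' : Aᵀ * Matrix.J (Fin m) F * A = Matrix.J (Fin m) F := SymplecticGroup.mem_iff'.mp hA
    have hJinv : Matrix.J (Fin m) F * A⁻¹ = Aᵀ * Matrix.J (Fin m) F := by
      have := congrArg (fun X => X * A⁻¹) hA'
      beta_reduce at this
      rw [Matrix.mul_assoc, Matrix.mul_nonsing_inv A hdet, Matrix.mul_one] at this
      exact this.symm
    have hw : (Matrix.J (Fin m) F *ᵥ v) ᵥ* A⁻¹ = a • (Matrix.J (Fin m) F *ᵥ v) := by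
      rw [J_mulVec_eq, Matrix.neg_vecMul, Matrix.vecMul_vecMul, hJinv, ← Matrix.vecMul_vecMul,
        Matrix.vecMul_transpose, hAv, Matrix.smul_vecMul, smul_neg]
    rw [Matrix.mul_add, Matrix.mul_one, Matrix.add_mul, Matrix.mul_nonsing_inv A hdet,
      Matrix.mul_smul, Matrix.smul_mul, Matrix.mul_vecMulVec, Matrix.vecMulVec_mul, hw, hAv,
      Matrix.smul_vecMulVec, Matrix.vecMulVec_smul, smul_smul, smul_smul]
    congr 2
    ring

end Cfsg.Agent.S0767
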