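import Cfsg.Statements.S0770
import Mathlib

set_option autoImplicit false
open Cfsg

namespace Cfsg.Agent.S0770

open Matrix

variable {F : Type*} [Field F] {n : ℕ}

/-- the diagonal torus -/
abbrev Dg (F : Type*) [Field F] (n : ℕ) : Subgroup (Matrix.GeneralLinearGroup (Fin n) F) :=
  (Units.map (Matrix.diagonalRingHom (Fin n) F).toMonoidHom).range

theorem mem_Dg_iff (h : Matrix.GeneralLinearGroup (Fin n) F) :
    h ∈ Dg F n ↔ ∃ d : Fin n → F, (∀ i, d i ≠ 0) ∧ h.val = Matrix.diagonal d := by
  constructor
  · rintro ⟨u, rfl⟩
    refine ⟨u.val, ?_, rfl⟩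
    intro i
    have := (Pi.isUnit_iff.mp u.isUnit) i
    exact this.ne_zero
  · rintro ⟨d, hd, hh⟩
    have hu : IsUnit d := Pi.isUnit_iff.mpr (fun i => (hd i).isUnit)
    refine ⟨hu.unit, ?_⟩
    apply Units.ext
    rw [hh]
    rfl

theorem exists_ne_zero_row (g : Matrix.GeneralLinearGroup (Fin n) F) (i : Fin n) :
    ∃ j, g.val i j ≠ 0 := by
  by_contra hcon
  push Not at hcon
  have : g.val.det = 0 := Matrix.det_eq_zero_of_row_eq_zero i hcon
  have hu : IsUnit g.val.det := (Matrix.isUnit_iff_isUnit_det _).mp g.isUnit
  rw [this] at hu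
  exact not_isUnit_zero hu

theorem exists_ne_zero_col (g : Matrix.GeneralLinearGroup (Fin n) F) (j : Fin n) :
    ∃ i, g.val i j ≠ 0 := by
  by_contra hcon
  push Not at hcon
  have : g.val.det = 0 := Matrix.det_eq_zero_of_column_eq_zero j hcon
  have hu : IsUnit g.val.det := (Matrix.isUnit_iff_isUnit_det _).mp g.isUnit
  rw [this] at hu
  exact not_isUnit_zero hu

theorem conj_val (g h : Matrix.GeneralLinearGroup (Fin n) F) (M : Matrix (Fin n) (Fin n) F)
    (hM : g.val * h.val = M * g.val) : (g * h * g⁻¹).val = M := by
  rw [Units.val_mul, Units.val_mul, hM, Matrix.mul_assoc, ← Units.val_mul, mul_inv_cancel,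
    Units.val_one, Matrix.mul_one]

/-- For a field with at least 3 elements, an invertible matrix normalises the subgroup of invertible diagonal matrices of GL_n if and only if it is monomial (exactly one non-zero entry in each row). -/
theorem result {F : Type*} [Field F] (hF : ∃ a : F, a ≠ 0 ∧ a ≠ 1) (n : ℕ) (g : Matrix.GeneralLinearGroup (Fin n) F) : g ∈ Subgroup.normalizer ((Units.map (Matrix.diagonalRingHom (Fin n) F).toMonoidHom).range : Subgroup (Matrix.GeneralLinearGroup (Fin n) F)) ↔ ∀ i : Fin n, ∃! j : Fin n, (g : Matrix (Fin n) (Fin n) F) i j ≠ 0 := by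
  obtain ⟨a, ha0, ha1⟩ := hF
  change g ∈ Subgroup.normalizer (Dg F n : Set _) ↔ _
  rw [Subgroup.mem_normalizer_iff]
  constructor
  · intro hN i
    obtain ⟨j, hj⟩ := exists_ne_zero_row g i
    refine ⟨j, hj, ?_⟩
    intro j' hj'
    by_contra hne
    -- the diagonal matrix with a at j
    set d : Fin n → F := Function.update (fun _ => (1 : F)) j a with hd
    have hdne : ∀ i, d i ≠ 0 := by
      intro i
      rw [hd, Function.update_apply]
      split_ifs
      · exact ha0
      · exact one_ne_zero
    have hu : IsUnit (Matrix.diagonal d) := by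
      rw [Matrix.isUnit_iff_isUnit_det, Matrix.det_diagonal]
      exact (Finset.prod_ne_zero_iff.mpr (fun i _ => hdne i)).isUnit
    set h : Matrix.GeneralLinearGroup (Fin n) F := hu.unit with hh
    have hhD : h ∈ Dg F n := (mem_Dg_iff h).mpr ⟨d, hdne, rfl⟩
    obtain ⟨d', -, hd'⟩ := (mem_Dg_iff _).mp ((hN h).mp hhD)
    -- g * diag d = diag d' * g
    have hrel : g.val * Matrix.diagonal d = Matrix.diagonal d' * g.val := by
      have h1 : (g * h * g⁻¹).val * g.val = g.val * h.val := by
        rw [← Units.val_mul, ← Units.val_mul]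
        congr 1
        group
      rw [hd'] at h1
      exact h1.symm
    have e1 := congrFun (congrFun hrel i) j
    have e2 := congrFun (congrFun hrel i) j'
    rw [Matrix.mul_diagonal, Matrix.diagonal_mul] at e1 e2
    have hdj : d j = a := by rw [hd, Function.update_self]
    have hdj' : d j' = 1 := by rw [hd, Function.update_of_ne hne]
    rw [hdj] at e1
    rw [hdj'] at e2
    have h1 : d' i = a := by
      have : g.val i j * (a - d' i) = 0 := by linear_combination e1
      rcases mul_eq_zero.mp this with h | h
      · exact absurd h hj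
      · linear_combination -h
    have h2 : d' i = 1 := by
      have : g.val i j' * (1 - d' i) = 0 := by linear_combination e2
      rcases mul_eq_zero.mp this with h | h
      · exact absurd h hj'
      · linear_combination -h
    exact ha1 (h1.symm.trans h2)
  · intro hmon
    choose σ hσ hσuniq using hmon
    -- key relation
    have hrel : ∀ d : Fin n → F, g.val * Matrix.diagonal d = Matrix.diagonal (d ∘ σ) * g.val := by
      intro d
      ext i j
      rw [Matrix.mul_diagonal, Matrix.diagonal_mul]
      by_cases hij : g.val i j = 0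
      · rw [hij]; ring
      · have : j = σ i := hσuniq i j hij
        rw [this, Function.comp_apply]; ring
    have hsurj : Function.Surjective σ := by
      intro j
      obtain ⟨i, hi⟩ := exists_ne_zero_col g j
      exact ⟨i, (hσuniq i j hi).symm⟩
    have hbij : Function.Bijective σ := hsurj.bijective_of_finite
    set e : Fin n ≃ Fin n := Equiv.ofBijective σ hbij with he
    intro h
    constructor
    · intro hh
      obtain ⟨d, hd, hhd⟩ := (mem_Dg_iff h).mp hh
      rw [mem_Dg_iff]
      refine ⟨d ∘ σ, fun i => hd (σ i), ?_⟩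
      apply conj_val
      rw [hhd, hrel]
    · intro hh
      obtain ⟨d', hd', hhd'⟩ := (mem_Dg_iff _).mp hh
      rw [mem_Dg_iff]
      refine ⟨d' ∘ e.symm, fun i => hd' _, ?_⟩
      have h1 : (g * h * g⁻¹).val * g.val = g.val * h.val := by
        rw [← Units.val_mul, ← Units.val_mul]
        congr 1
        group
      rw [hhd'] at h1
      have h2 := hrel (d' ∘ e.symm)
      have h3 : (d' ∘ e.symm) ∘ σ = d' := by
        funext i
        simp only [Function.comp_apply]
        congr 1
        exact e.symm_apply_apply i
      rw [h3, h1] at h2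
      -- g * diag = g * h  → cancel g
      have h4 := congrArg (fun M => g⁻¹.val * M) h2
      simp only [← Matrix.mul_assoc, ← Units.val_mul, inv_mul_cancel, Units.val_one,
        Matrix.one_mul] at h4
      rw [inv_mul_cancel_left] at h4
      exact h4.symm

end Cfsg.Agent.S0770
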