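import Cfsg.Statements.S0771
import Mathlib
import Cfsg.Agent.Lib.Helper13.Parabolic

set_option autoImplicit false
open Cfsg

namespace Cfsg.Agent.S0771

open Matrix Cfsg.Agent.Helper13

variable {F : Type*} [Field F]

/-- GL as invertible matrices -/
noncomputable def glEquivDetNe (ι : Type) [Fintype ι] [DecidableEq ι] :
    Matrix.GeneralLinearGroup ι F ≃ {M : Matrix ι ι F // M.det ≠ 0} where
  toFun g := ⟨g.val, Matrix.GeneralLinearGroup.det_ne_zero g⟩
  invFun M := Matrix.GeneralLinearGroup.mkOfDetNeZero M.val M.2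
  left_inv g := Units.ext rfl
  right_inv M := rfl

noncomputable def equiv1 (n k : ℕ) :
    ↥(Cfsg.stabilizing (Cfsg.glToMat (Fin n) F)
      {v : Fin n → F | ∀ i : Fin n, k ≤ (i : ℕ) → v i = 0}) ≃
    {M : Matrix (Fin n) (Fin n) F // M.det ≠ 0 ∧
      ∀ i j : Fin n, k ≤ (i : ℕ) → (j : ℕ) < k → M i j = 0} where
  toFun g := ⟨g.val.val, Matrix.GeneralLinearGroup.det_ne_zero g.val,
    (mem_stab_coord_iff g.val).mp g.2⟩
  invFun M := ⟨Matrix.GeneralLinearGroup.mkOfDetNeZero M.val M.2.1,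
    (mem_stab_coord_iff _).mpr M.2.2⟩
  left_inv g := Subtype.ext (Units.ext rfl)
  right_inv M := rfl

noncomputable def equiv2 {n k : ℕ} (hk : k ≤ n) :
    {M : Matrix (Fin n) (Fin n) F // M.det ≠ 0 ∧
      ∀ i j : Fin n, k ≤ (i : ℕ) → (j : ℕ) < k → M i j = 0} ≃
    {M : Matrix (Fin k ⊕ Fin (n - k)) (Fin k ⊕ Fin (n - k)) F // M.det ≠ 0 ∧ M.toBlocks₂₁ = 0} :=
  (Matrix.reindex (splitEquiv hk) (splitEquiv hk)).subtypeEquiv (by
    intro M
    rw [Matrix.det_reindex_self, Matrix.reindex_apply, lowerLeft_iff hk])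

noncomputable def equiv3 (α β : Type) [Fintype α] [Fintype β] [DecidableEq α] [DecidableEq β] :
    {M : Matrix (α ⊕ β) (α ⊕ β) F // M.det ≠ 0 ∧ M.toBlocks₂₁ = 0} ≃
    {A : Matrix α α F // A.det ≠ 0} × Matrix α β F × {D : Matrix β β F // D.det ≠ 0} where
  toFun M :=
    have h : M.val.toBlocks₁₁.det * M.val.toBlocks₂₂.det ≠ 0 := by
      have h1 := M.2.1
      rw [← Matrix.fromBlocks_toBlocks M.val, M.2.2, Matrix.det_fromBlocks_zero₂₁] at h1
      exact h1
    (⟨M.val.toBlocks₁₁, left_ne_zero_of_mul h⟩, M.val.toBlocks₁₂,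
      ⟨M.val.toBlocks₂₂, right_ne_zero_of_mul h⟩)
  invFun x := ⟨Matrix.fromBlocks x.1.val x.2.1 0 x.2.2.val, by
    rw [Matrix.det_fromBlocks_zero₂₁]; exact mul_ne_zero x.1.2 x.2.2.2,
    Matrix.toBlocks_fromBlocks₂₁ _ _ _ _⟩
  left_inv M := by
    apply Subtype.ext
    have := Matrix.fromBlocks_toBlocks M.val
    rw [M.2.2] at this
    exact this
  right_inv x := by
    obtain ⟨A, B, D⟩ := x
    simp only [Matrix.toBlocks_fromBlocks₁₁, Matrix.toBlocks_fromBlocks₁₂,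
      Matrix.toBlocks_fromBlocks₂₂]

/-- Maximal parabolic of GL_n(q): the stabiliser of the coordinate subspace spanned by the first k basis vectors has order q^(k(n-k)) · |GL_k(q)| · |GL_(n-k)(q)| (unipotent radical of order q^(k(n-k)) and Levi complement GL_k × GL_(n-k)). -/
theorem result {F : Type*} [Field F] [Fintype F] {q : ℕ} (hF : Fintype.card F = q) (n k : ℕ) (hk : k ≤ n) : Nat.card ↥(Cfsg.stabilizing (Cfsg.glToMat (Fin n) F) {v : Fin n → F | ∀ i : Fin n, k ≤ (i : ℕ) → v i = 0}) = q ^ (k * (n - k)) * (∏ i : Fin k, (q ^ k - q ^ (i : ℕ))) * ∏ i : Fin (n - k), (q ^ (n - k) - q ^ (i : ℕ)) := by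
  classical
  rw [Nat.card_congr ((equiv1 n k).trans ((equiv2 hk).trans (equiv3 (Fin k) (Fin (n - k))))),
    Nat.card_prod, Nat.card_prod, Nat.card_congr (glEquivDetNe (Fin k)).symm,
    Nat.card_congr (glEquivDetNe (Fin (n - k))).symm, Matrix.card_GL_field, Matrix.card_GL_field,
    hF]
  have : Nat.card (Matrix (Fin k) (Fin (n - k)) F) = q ^ (k * (n - k)) := by
    have h1 : Nat.card (Matrix (Fin k) (Fin (n - k)) F) = Nat.card (Fin k → Fin (n - k) → F) := rfl
    rw [h1, Nat.card_eq_fintype_card, Fintype.card_fun, Fintype.card_fun, hF, Fintype.card_fin,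
      Fintype.card_fin, ← pow_mul, mul_comm]
  rw [this]
  ring

end Cfsg.Agent.S0771
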