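import Cfsg.Statements.S0772
import Cfsg.Agent.Lib.Helper97.Transvection

set_option autoImplicit false
set_option linter.unusedSectionVars false
set_option linter.unusedVariables false
open Cfsg

namespace Cfsg.Agent.S0772

open Matrix Cfsg.Agent.Helper97

section aux

variable {F : Type*} [Field F] {n : ℕ}

/-- The span of the first `k` coordinate vectors. -/
def Wsub (F : Type*) [Field F] (n k : ℕ) : Submodule F (Fin n → F) where
  carrier := {v | ∀ i : Fin n, k ≤ (i : ℕ) → v i = 0}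
  add_mem' := by
    intro a b ha hb i hi
    rw [Pi.add_apply, ha i hi, hb i hi, add_zero]
  zero_mem' := fun i _ => rfl
  smul_mem' := by
    intro c a ha i hi
    rw [Pi.smul_apply, ha i hi, smul_zero]

theorem mem_Wsub (k : ℕ) (v : Fin n → F) : v ∈ Wsub F n k ↔ ∀ i : Fin n, k ≤ (i : ℕ) → v i = 0 :=
  Iff.rfl

/-- The parabolic subgroup. -/
abbrev Par (F : Type*) [Field F] (n k : ℕ) : Subgroup (GL (Fin n) F) :=
  stabilizing (glToMat (Fin n) F) {v : Fin n → F | ∀ i : Fin n, k ≤ (i : ℕ) → v i = 0}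

theorem mem_Par (k : ℕ) (g : GL (Fin n) F) :
    g ∈ Par F n k ↔ ∀ v, v ∈ Wsub F n k ↔ (g : Matrix (Fin n) (Fin n) F) *ᵥ v ∈ Wsub F n k :=
  Iff.rfl

theorem tv_mem_Par_of_center (k : ℕ) (v φ : Fin n → F) (h : φ ⬝ᵥ v = 0) (hv : v ∈ Wsub F n k) :
    tv v φ h ∈ Par F n k := by
  rw [mem_Par]
  intro x
  rw [tv_mulVec]
  constructor
  · intro hx
    exact (Wsub F n k).add_mem hx ((Wsub F n k).smul_mem _ hv)
  · intro hx
    have := (Wsub F n k).sub_mem hx ((Wsub F n k).smul_mem (φ ⬝ᵥ x) hv)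
    rwa [add_sub_cancel_right] at this

theorem tv_mem_Par_of_axis (k : ℕ) (v φ : Fin n → F) (h : φ ⬝ᵥ v = 0)
    (hφ : ∀ x ∈ Wsub F n k, φ ⬝ᵥ x = 0) : tv v φ h ∈ Par F n k := by
  rw [mem_Par]
  intro x
  rw [tv_mulVec]
  constructor
  · intro hx
    rw [hφ x hx, zero_smul, add_zero]
    exact hx
  · intro hx
    have h1 := hφ _ hx
    rw [dotProduct_add, dotProduct_smul, h, smul_zero, add_zero] at h1
    rw [h1, zero_smul, add_zero] at hx
    exact hx

theorem Par_ne_top (k : ℕ) (hk0 : 0 < k) (hkn : k < n) : Par F n k ≠ ⊤ := by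
  intro htop
  have hn0 : 0 < n := by omega
  have hn1 : n - 1 < n := by omega
  have hne : (⟨n - 1, hn1⟩ : Fin n) ≠ ⟨0, hn0⟩ := by
    intro h
    have := congrArg Fin.val h
    simp at this
    omega
  have hdot : (Pi.single (⟨0, hn0⟩ : Fin n) (1 : F)) ⬝ᵥ (Pi.single (⟨n - 1, hn1⟩ : Fin n) (1 : F)) = 0 := by
    rw [single_dotProduct, one_mul, Pi.single_eq_of_ne (Ne.symm hne)]
  have hmem : tv (Pi.single (⟨n - 1, hn1⟩ : Fin n) (1 : F)) (Pi.single (⟨0, hn0⟩ : Fin n) (1 : F)) hdot ∈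
      Par F n k := by
    rw [htop]
    exact Subgroup.mem_top _
  rw [mem_Par] at hmem
  have hx : (Pi.single (⟨0, hn0⟩ : Fin n) (1 : F)) ∈ Wsub F n k := by
    intro i hi
    apply Pi.single_eq_of_ne
    intro h
    rw [h] at hi
    simp at hi
    omega
  have := (hmem _).mp hx ⟨n - 1, hn1⟩ (by simp; omega)
  rw [tv_mulVec, single_dotProduct, one_mul, Pi.single_eq_same, one_smul, Pi.add_apply,
    Pi.single_eq_same, Pi.single_eq_of_ne hne, zero_add] at this
  exact one_ne_zero this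

end aux

section main

variable {F : Type*} [Field F] {n : ℕ}

/-- The "good centres" for a subgroup `H`. -/
def Good (H : Subgroup (GL (Fin n) F)) (v : Fin n → F) : Prop :=
  ∀ (φ : Fin n → F) (hφ : φ ⬝ᵥ v = 0), tv v φ hφ ∈ H

theorem good_of_mem_W {k : ℕ} {H : Subgroup (GL (Fin n) F)} (hPH : Par F n k ≤ H) {v : Fin n → F}
    (hv : v ∈ Wsub F n k) : Good H v :=
  fun φ hφ => hPH (tv_mem_Par_of_center k v φ hφ hv)

theorem good_mulVec {H : Subgroup (GL (Fin n) F)} {g : GL (Fin n) F} (hg : g ∈ H) {v : Fin n → F}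
    (hv : Good H v) : Good H ((g : Matrix (Fin n) (Fin n) F) *ᵥ v) := by
  intro φ hφ
  have h1 : (φ ᵥ* (g : Matrix (Fin n) (Fin n) F)) ⬝ᵥ v = 0 := by
    rw [← dotProduct_mulVec]
    exact hφ
  have h2 := hv _ h1
  have h3 : g * tv v (φ ᵥ* (g : Matrix (Fin n) (Fin n) F)) h1 * g⁻¹ ∈ H :=
    H.mul_mem (H.mul_mem hg h2) (H.inv_mem hg)
  rw [tv_conj g v _ h1 (tv_conj_dot g v _ h1)] at h3
  have h4 : tv ((g : Matrix (Fin n) (Fin n) F) *ᵥ v) φ hφ =
      tv ((g : Matrix (Fin n) (Fin n) F) *ᵥ v)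
        ((φ ᵥ* (g : Matrix (Fin n) (Fin n) F)) ᵥ* ((g⁻¹ : GL (Fin n) F) : Matrix (Fin n) (Fin n) F))
        (tv_conj_dot g v _ h1) := by
    apply tv_ext
    rw [vecMul_vecMul, ← Units.val_mul, mul_inv_cancel, Units.val_one, vecMul_one]
  rw [h4]
  exact h3

theorem good_smul {H : Subgroup (GL (Fin n) F)} (c : F) {v : Fin n → F} (hv : Good H v) :
    Good H (c • v) := by
  intro φ hφ
  have h1 : (c • φ) ⬝ᵥ v = 0 := by
    rw [smul_dotProduct, ← dotProduct_smul]
    exact hφ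
  rw [tv_smul c v φ hφ h1]
  exact hv _ h1

theorem good_add {H : Subgroup (GL (Fin n) F)} {v v' : Fin n → F} (hv : Good H v) (hv' : Good H v') :
    Good H (v + v') := by
  by_cases h0 : v' = 0
  · rw [h0, add_zero]
    exact hv
  obtain ⟨j, hj⟩ : ∃ j, v' j ≠ 0 := by
    by_contra hcon
    push Not at hcon
    exact h0 (funext hcon)
  obtain ⟨c, hc⟩ : ∃ c, c = v j / v' j := ⟨_, rfl⟩
  by_cases h1 : v = c • v'
  · have : v + v' = (c + 1) • v' := by rw [h1, add_smul, one_smul]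
    rw [this]
    exact good_smul _ hv'
  obtain ⟨i, hi⟩ : ∃ i, v i ≠ c * v' i := by
    by_contra hcon
    push Not at hcon
    exact h1 (funext hcon)
  obtain ⟨d, hd⟩ : ∃ d, d = v i * v' j - v j * v' i := ⟨_, rfl⟩
  have hvj : v j = c * v' j := by
    rw [hc]
    field_simp
  have hd0 : d ≠ 0 := by
    have : d = v' j * (v i - c * v' i) := by
      rw [hd, hvj]
      ring
    rw [this]
    exact mul_ne_zero hj (sub_ne_zero.mpr hi)
  obtain ⟨ψ, hψ⟩ : ∃ ψ : Fin n → F, ψ = Pi.single i (d⁻¹ * v' j) - Pi.single j (d⁻¹ * v' i) := ⟨_, rfl⟩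
  have hψv' : ψ ⬝ᵥ v' = 0 := by
    rw [hψ, sub_dotProduct, single_dotProduct, single_dotProduct]
    ring
  have hψv : ψ ⬝ᵥ v = 1 := by
    rw [hψ, sub_dotProduct, single_dotProduct, single_dotProduct]
    have : d⁻¹ * v' j * v i - d⁻¹ * v' i * v j = d⁻¹ * d := by
      rw [hd]
      ring
    rw [this, inv_mul_cancel₀ hd0]
  have h2 := good_mulVec (hv' ψ hψv') hv
  rw [tv_mulVec, hψv, one_smul] at h2
  exact h2

theorem good_all {k : ℕ} {H : Subgroup (GL (Fin n) F)} (hPH : Par F n k ≤ H) {s : Fin n → F}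
    (hs : Good H s) (hsW : s ∉ Wsub F n k) (v : Fin n → F) : Good H v := by
  obtain ⟨i, hik, hsi⟩ : ∃ i : Fin n, k ≤ (i : ℕ) ∧ s i ≠ 0 := by
    by_contra hcon
    push Not at hcon
    exact hsW (fun i hi => hcon i hi)
  obtain ⟨ψ, hψ⟩ : ∃ ψ : Fin n → F, ψ = Pi.single i (s i)⁻¹ := ⟨_, rfl⟩
  have hψW : ∀ x ∈ Wsub F n k, ψ ⬝ᵥ x = 0 := by
    intro x hx
    rw [hψ, single_dotProduct, hx i hik, mul_zero]
  have hψs : ψ ⬝ᵥ s = 1 := by
    rw [hψ, single_dotProduct, inv_mul_cancel₀ hsi]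
  -- vectors with zero `i`-th coordinate are good
  have hker : ∀ x : Fin n → F, x i = 0 → Good H x := by
    intro x hx
    have hψx : ψ ⬝ᵥ x = 0 := by rw [hψ, single_dotProduct, hx, mul_zero]
    have h1 : tv x ψ hψx ∈ H := hPH (tv_mem_Par_of_axis k x ψ hψx hψW)
    have h2 := good_mulVec h1 hs
    rw [tv_mulVec, hψs, one_smul] at h2
    have h3 := good_add h2 (good_smul (-1) hs)
    have : s + x + (-1 : F) • s = x := by
      rw [neg_smul, one_smul]
      abel
    rwa [this] at h3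
  have hdecomp : v = (v - (v i / s i) • s) + (v i / s i) • s := by abel
  rw [hdecomp]
  apply good_add
  · apply hker
    rw [Pi.sub_apply, Pi.smul_apply, smul_eq_mul]
    field_simp
    ring
  · exact good_smul _ hs

theorem exists_good_not_mem {k : ℕ} {H : Subgroup (GL (Fin n) F)} (hPH : Par F n k < H) :
    ∃ s, Good H s ∧ s ∉ Wsub F n k := by
  obtain ⟨h, hhH, hhP⟩ := SetLike.exists_of_lt hPH
  rw [mem_Par] at hhP
  push Not at hhP
  obtain ⟨v, hv⟩ := hhP
  rcases hv with ⟨hvW, hhv⟩ | ⟨hvW, hhv⟩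
  · exact ⟨(h : Matrix (Fin n) (Fin n) F) *ᵥ v, good_mulVec hhH (good_of_mem_W hPH.le hvW), hhv⟩
  · refine ⟨v, ?_, hvW⟩
    have := good_mulVec (H.inv_mem hhH) (good_of_mem_W hPH.le hhv)
    rwa [mulVec_mulVec, ← Units.val_mul, inv_mul_cancel, Units.val_one, one_mulVec] at this

end main

section pivot

variable {F : Type*} [Field F] {n : ℕ}

theorem list_prod_mem {H : Subgroup (GL (Fin n) F)} (hgood : ∀ v : Fin n → F, Good H v)
    (L : List (Matrix.TransvectionStruct (Fin n) F)) :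
    ∃ a : GL (Fin n) F, a ∈ H ∧ (a : Matrix (Fin n) (Fin n) F) =
      (L.map Matrix.TransvectionStruct.toMatrix).prod := by
  induction L with
  | nil => exact ⟨1, H.one_mem, rfl⟩
  | cons t L ih =>
    obtain ⟨a, haH, ha⟩ := ih
    have hdot : (Pi.single t.j (1 : F)) ⬝ᵥ (Pi.single t.i t.c) = 0 := by
      rw [single_dotProduct, one_mul, Pi.single_eq_of_ne (Ne.symm t.hij)]
    refine ⟨tv (Pi.single t.i t.c) (Pi.single t.j 1) hdot * a, H.mul_mem (hgood _ _ hdot) haH, ?_⟩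
    rw [List.map_cons, List.prod_cons, Units.val_mul, ha, Matrix.TransvectionStruct.toMatrix,
      transvection_eq_tv t.i t.j t.hij t.c]

theorem diag_mem_Par (k : ℕ) (d : GL (Fin n) F) (D : Fin n → F)
    (hd : (d : Matrix (Fin n) (Fin n) F) = Matrix.diagonal D) : d ∈ Par F n k := by
  have hD : ∀ i, D i ≠ 0 := by
    intro i hi
    have h1 : (d : Matrix (Fin n) (Fin n) F) * ((d⁻¹ : GL (Fin n) F) : Matrix (Fin n) (Fin n) F) = 1 := by
      rw [← Units.val_mul, mul_inv_cancel, Units.val_one]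
    have h2 := congrFun (congrFun h1 i) i
    rw [hd, Matrix.diagonal_mul, hi, zero_mul, Matrix.one_apply_eq] at h2
    exact zero_ne_one h2
  rw [mem_Par]
  intro v
  rw [hd]
  constructor
  · intro hv i hi
    rw [Matrix.mulVec_diagonal, hv i hi, mul_zero]
  · intro hv i hi
    have := hv i hi
    rw [Matrix.mulVec_diagonal] at this
    rcases mul_eq_zero.mp this with h | h
    · exact absurd h (hD i)
    · exact h

theorem eq_top_of_good {k : ℕ} {H : Subgroup (GL (Fin n) F)} (hPH : Par F n k ≤ H)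
    (hgood : ∀ v : Fin n → F, Good H v) : H = ⊤ := by
  rw [eq_top_iff]
  intro g _
  obtain ⟨L, L', D, hg⟩ :=
    Matrix.Pivot.exists_list_transvec_mul_diagonal_mul_list_transvec (g : Matrix (Fin n) (Fin n) F)
  obtain ⟨a, haH, ha⟩ := list_prod_mem hgood L
  obtain ⟨b, hbH, hb⟩ := list_prod_mem hgood L'
  have hd : ((a⁻¹ * g * b⁻¹ : GL (Fin n) F) : Matrix (Fin n) (Fin n) F) = Matrix.diagonal D := by
    have h1 : ((a⁻¹ : GL (Fin n) F) : Matrix (Fin n) (Fin n) F) * (a : Matrix (Fin n) (Fin n) F) = 1 := by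
      rw [← Units.val_mul, inv_mul_cancel, Units.val_one]
    have h2 : (b : Matrix (Fin n) (Fin n) F) * ((b⁻¹ : GL (Fin n) F) : Matrix (Fin n) (Fin n) F) = 1 := by
      rw [← Units.val_mul, mul_inv_cancel, Units.val_one]
    rw [Units.val_mul, Units.val_mul, hg, ← ha, ← hb]
    calc ((a⁻¹ : GL (Fin n) F) : Matrix (Fin n) (Fin n) F) *
          ((a : Matrix (Fin n) (Fin n) F) * Matrix.diagonal D * (b : Matrix (Fin n) (Fin n) F)) *
          ((b⁻¹ : GL (Fin n) F) : Matrix (Fin n) (Fin n) F)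
        = (((a⁻¹ : GL (Fin n) F) : Matrix (Fin n) (Fin n) F) * (a : Matrix (Fin n) (Fin n) F)) *
          Matrix.diagonal D * ((b : Matrix (Fin n) (Fin n) F) *
            ((b⁻¹ : GL (Fin n) F) : Matrix (Fin n) (Fin n) F)) := by simp only [mul_assoc]
      _ = Matrix.diagonal D := by rw [h1, h2, one_mul, mul_one]
  have hdH : a⁻¹ * g * b⁻¹ ∈ H := hPH (diag_mem_Par k _ D hd)
  have : g = a * (a⁻¹ * g * b⁻¹) * b := by group
  rw [this]
  exact H.mul_mem (H.mul_mem haH hdH) hbH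

end pivot

/-- Maximal parabolics are maximal: over a finite field, for 0 < k < n the stabiliser in GL_n of the span of the first k coordinate vectors is a maximal proper subgroup. -/
theorem result {F : Type*} [Field F] [Finite F] (n k : ℕ) (hk0 : 0 < k) (hkn : k < n) : IsCoatom (Cfsg.stabilizing (Cfsg.glToMat (Fin n) F) {v : Fin n → F | ∀ i : Fin n, k ≤ (i : ℕ) → v i = 0}) := by
  refine ⟨Par_ne_top k hk0 hkn, fun H hPH => ?_⟩
  obtain ⟨s, hs, hsW⟩ := exists_good_not_mem hPH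
  exact eq_top_of_good hPH.le (good_all hPH.le hs hsW)

end Cfsg.Agent.S0772
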