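import Cfsg.Statements.S0773
import Mathlib
import Cfsg.Agent.Lib.Helper13.Parabolic

set_option autoImplicit false
open Cfsg

namespace Cfsg.Agent.S0773

open Matrix Cfsg.Agent.Helper13

variable {F : Type*} [Field F]

/-! ### dimension of the coordinate subspace -/

noncomputable def coordSubEquiv {n k : ℕ} (hk : k ≤ n) : coordSub F n k ≃ₗ[F] (Fin k → F) where
  toFun v := fun a => v.val ⟨a, by have := a.2; omega⟩
  map_add' _ _ := rfl
  map_smul' _ _ := rfl
  invFun w := ⟨fun i => if h : (i : ℕ) < k then w ⟨i, h⟩ else 0, fun i hi => dif_neg (by omega)⟩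
  left_inv v := by
    apply Subtype.ext
    funext i
    by_cases h : (i : ℕ) < k
    · simp [h]
    · simp only [h, dif_neg, not_false_eq_true]
      exact (v.2 i (by omega)).symm
  right_inv w := by
    funext a
    simp [a.2]

theorem finrank_coordSub {n k : ℕ} (hk : k ≤ n) : Module.finrank F (coordSub F n k) = k := by
  rw [(coordSubEquiv hk).finrank_eq, Module.finrank_fin_fun]

/-! ### subspaces invariant under the elementary matrices of a parabolic -/

theorem transvection_mulVec {n : ℕ} (i j : Fin n) (w : Fin n → F) :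
    Matrix.transvection i j (1 : F) *ᵥ w = w + Pi.single i (w j) := by
  unfold Matrix.transvection
  rw [Matrix.add_mulVec, Matrix.one_mulVec, Matrix.single_mulVec, one_mul]
  rfl

theorem single_mem_of {n : ℕ} (W : Submodule F (Fin n → F)) {i : Fin n} {a : F} (ha : a ≠ 0)
    (h : Pi.single i a ∈ W) (c : F) : (Pi.single i c : Fin n → F) ∈ W := by
  have : (Pi.single i c : Fin n → F) = (c * a⁻¹) • Pi.single i a := by
    rw [← Pi.single_smul, smul_eq_mul, mul_assoc, inv_mul_cancel₀ ha, mul_one]
  rw [this]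
  exact W.smul_mem _ h

theorem single_mem_of_others {n : ℕ} (W : Submodule F (Fin n → F)) {w : Fin n → F} (hw : w ∈ W)
    (j : Fin n) (h : ∀ i, i ≠ j → w i = 0 ∨ ∀ c : F, (Pi.single i c : Fin n → F) ∈ W) :
    (Pi.single j (w j) : Fin n → F) ∈ W := by
  have h1 : w = Pi.single j (w j) + ∑ i ∈ Finset.univ.erase j, Pi.single i (w i) := by
    rw [Finset.add_sum_erase Finset.univ (fun i => (Pi.single i (w i) : Fin n → F))
      (Finset.mem_univ j), Finset.univ_sum_single]
  have h2 : (Pi.single j (w j) : Fin n → F) = w - ∑ i ∈ Finset.univ.erase j, Pi.single i (w i) := by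
    rw [eq_sub_iff_add_eq]; exact h1.symm
  rw [h2]
  apply W.sub_mem hw
  apply W.sum_mem
  intro i hi
  rcases h i (Finset.ne_of_mem_erase hi) with h0 | h0
  · rw [h0, Pi.single_zero]; exact W.zero_mem
  · exact h0 _

theorem invariant_subspaces {n m : ℕ} (W : Submodule F (Fin n → F))
    (hW : ∀ i j : Fin n, i ≠ j → ((i : ℕ) < m ∨ m ≤ (j : ℕ)) →
      ∀ w ∈ W, Matrix.transvection i j (1 : F) *ᵥ w ∈ W) :
    W = ⊥ ∨ W = coordSub F n m ∨ W = ⊤ := by
  have step0 : ∀ w ∈ W, ∀ i j : Fin n, i ≠ j → ((i : ℕ) < m ∨ m ≤ (j : ℕ)) →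
      (Pi.single i (w j) : Fin n → F) ∈ W := by
    intro w hw i j hij hal
    have h1 := hW i j hij hal w hw
    rw [transvection_mulVec] at h1
    have h2 := W.sub_mem h1 hw
    rwa [add_sub_cancel_left] at h2
  by_cases hI : ∃ w ∈ W, ∃ j : Fin n, m ≤ (j : ℕ) ∧ w j ≠ 0
  · right; right
    obtain ⟨w, hw, j, hj, hwj⟩ := hI
    have hE : ∀ i, i ≠ j → ∀ c : F, (Pi.single i c : Fin n → F) ∈ W := fun i hi =>
      single_mem_of W hwj (step0 w hw i j hi (Or.inr hj))
    have hEj : ∀ c : F, (Pi.single j c : Fin n → F) ∈ W :=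
      single_mem_of W hwj (single_mem_of_others W hw j (fun i hi => Or.inr (hE i hi)))
    rw [eq_top_iff]
    intro v _
    rw [← Finset.univ_sum_single v]
    apply W.sum_mem
    intro i _
    by_cases hi : i = j
    · rw [hi]; exact hEj _
    · exact hE i hi _
  · push Not at hI
    by_cases hbot : W = ⊥
    · left; exact hbot
    · right; left
      obtain ⟨w, hw, hw0⟩ := (Submodule.ne_bot_iff W).mp hbot
      have : ∃ j, w j ≠ 0 := by
        by_contra h
        push Not at h
        exact hw0 (funext h)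
      obtain ⟨j, hwj⟩ := this
      have hjm : (j : ℕ) < m := by
        by_contra h
        exact hwj (hI w hw j (by omega))
      have hE : ∀ i : Fin n, (i : ℕ) < m → i ≠ j → ∀ c : F, (Pi.single i c : Fin n → F) ∈ W :=
        fun i him hi => single_mem_of W hwj (step0 w hw i j hi (Or.inl him))
      have hEj : ∀ c : F, (Pi.single j c : Fin n → F) ∈ W := by
        apply single_mem_of W hwj
        apply single_mem_of_others W hw j
        intro i hi
        by_cases him : (i : ℕ) < m
        · exact Or.inr (hE i him hi)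
        · exact Or.inl (hI w hw i (by omega))
      apply le_antisymm
      · intro v hv i hi
        exact hI v hv i hi
      · intro v hv
        rw [← Finset.univ_sum_single v]
        apply W.sum_mem
        intro i _
        by_cases him : (i : ℕ) < m
        · by_cases hi : i = j
          · rw [hi]; exact hEj _
          · exact hE i him hi _
        · rw [hv i (by omega), Pi.single_zero]; exact W.zero_mem

/-! ### the elementary matrices in a parabolic -/

theorem transvection_mem_stab {n m : ℕ} (i j : Fin n) (hij : i ≠ j)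
    (hal : (i : ℕ) < m ∨ m ≤ (j : ℕ)) :
    Matrix.GeneralLinearGroup.mkOfDetNeZero (Matrix.transvection i j (1 : F))
      (by rw [Matrix.det_transvection_of_ne i j hij]; exact one_ne_zero) ∈
      Cfsg.stabilizing (Cfsg.glToMat (Fin n) F)
        {v : Fin n → F | ∀ i : Fin n, m ≤ (i : ℕ) → v i = 0} := by
  rw [mem_stab_coord_iff]
  intro a b ha hb
  have hab : a ≠ b := by intro e; rw [e] at ha; omega
  change Matrix.transvection i j (1 : F) a b = 0
  rw [Matrix.transvection, Matrix.add_apply, Matrix.one_apply_ne hab, zero_add,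
    Matrix.single_apply, if_neg]
  rintro ⟨rfl, rfl⟩
  omega

/-! ### non-conjugacy -/

theorem not_conj {n k : ℕ} (hk0 : 0 < k) (hkn : k < n) (h2 : 2 * k ≠ n)
    (g : Matrix.GeneralLinearGroup (Fin n) F) :
    (Cfsg.stabilizing (Cfsg.glToMat (Fin n) F)
      {v : Fin n → F | ∀ i : Fin n, k ≤ (i : ℕ) → v i = 0}).map (MulAut.conj g).toMonoidHom ≠
    Cfsg.stabilizing (Cfsg.glToMat (Fin n) F)
      {v : Fin n → F | ∀ i : Fin n, n - k ≤ (i : ℕ) → v i = 0} := by
  intro heq
  have hinj : Function.Injective (Matrix.toLin' g.val) := by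
    have : Function.Injective g.val.mulVec := by
      rw [Matrix.mulVec_injective_iff_isUnit]
      exact g.isUnit
    intro a b hab
    rw [Matrix.toLin'_apply, Matrix.toLin'_apply] at hab
    exact this hab
  set W : Submodule F (Fin n → F) := Submodule.map (Matrix.toLin' g.val) (coordSub F n k) with hWdef
  have hWrank : Module.finrank F W = k := by
    rw [← (Submodule.equivMapOfInjective _ hinj (coordSub F n k)).finrank_eq,
      finrank_coordSub hkn.le]
  have hW : ∀ i j : Fin n, i ≠ j → ((i : ℕ) < n - k ∨ n - k ≤ (j : ℕ)) →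
      ∀ w ∈ W, Matrix.transvection i j (1 : F) *ᵥ w ∈ W := by
    intro i j hij hal w hw
    have hT := transvection_mem_stab (F := F) i j hij hal
    rw [← heq, Subgroup.mem_map] at hT
    obtain ⟨h, hh, hconj⟩ := hT
    rw [MulEquiv.coe_toMonoidHom, MulAut.conj_apply] at hconj
    have hTg : Matrix.transvection i j (1 : F) * g.val = g.val * h.val := by
      have h1 : g * h * g⁻¹ * g = g * h := by group
      rw [hconj] at h1
      have h3 := congrArg Units.val h1
      rw [Units.val_mul, Units.val_mul] at h3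
      exact h3
    obtain ⟨v, hv, rfl⟩ := hw
    rw [Matrix.toLin'_apply, Matrix.mulVec_mulVec, hTg, ← Matrix.mulVec_mulVec]
    refine ⟨h.val *ᵥ v, ?_, by rw [Matrix.toLin'_apply]⟩
    exact (hh v).mp hv
  rcases invariant_subspaces W hW with h | h | h
  · rw [h, finrank_bot] at hWrank
    omega
  · rw [h, finrank_coordSub (by omega)] at hWrank
    omega
  · rw [h, finrank_top, Module.finrank_fin_fun] at hWrank
    omega

/-! ### the isomorphism -/

/-- inverse transpose followed by reversal of the indices -/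
def phi {n : ℕ} (g : Matrix.GeneralLinearGroup (Fin n) F) : Matrix.GeneralLinearGroup (Fin n) F where
  val := ((g⁻¹).valᵀ).submatrix Fin.revPerm Fin.revPerm
  inv := (g.valᵀ).submatrix Fin.revPerm Fin.revPerm
  val_inv := by
    rw [Matrix.submatrix_mul_equiv, ← Matrix.transpose_mul, ← Units.val_mul, mul_inv_cancel,
      Units.val_one, Matrix.transpose_one, Matrix.submatrix_one_equiv]
  inv_val := by
    rw [Matrix.submatrix_mul_equiv, ← Matrix.transpose_mul, ← Units.val_mul, inv_mul_cancel,
      Units.val_one, Matrix.transpose_one, Matrix.submatrix_one_equiv]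

theorem phi_val {n : ℕ} (g : Matrix.GeneralLinearGroup (Fin n) F) :
    (phi g).val = ((g⁻¹).valᵀ).submatrix Fin.revPerm Fin.revPerm := rfl

theorem phi_mul {n : ℕ} (g h : Matrix.GeneralLinearGroup (Fin n) F) :
    phi (g * h) = phi g * phi h := by
  apply Units.ext
  rw [Units.val_mul, phi_val, phi_val, phi_val, Matrix.submatrix_mul_equiv, ← Matrix.transpose_mul,
    ← Units.val_mul, _root_.mul_inv_rev]

theorem phi_phi {n : ℕ} (g : Matrix.GeneralLinearGroup (Fin n) F) : phi (phi g) = g := by
  apply Units.ext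
  have h1 : (phi g)⁻¹.val = (g.valᵀ).submatrix Fin.revPerm Fin.revPerm := rfl
  rw [phi_val, h1]
  ext i j
  simp

theorem phi_mem {n k k' : ℕ} (hkk : k + k' = n) (g : Matrix.GeneralLinearGroup (Fin n) F)
    (hg : g ∈ Cfsg.stabilizing (Cfsg.glToMat (Fin n) F)
      {v : Fin n → F | ∀ i : Fin n, k ≤ (i : ℕ) → v i = 0}) :
    phi g ∈ Cfsg.stabilizing (Cfsg.glToMat (Fin n) F)
      {v : Fin n → F | ∀ i : Fin n, k' ≤ (i : ℕ) → v i = 0} := by
  have hg' := (mem_stab_coord_iff g⁻¹).mp (Subgroup.inv_mem _ hg)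
  rw [mem_stab_coord_iff]
  intro i j hi hj
  rw [phi_val, Matrix.submatrix_apply, Matrix.transpose_apply]
  apply hg'
  · change k ≤ ((Fin.rev j : Fin n) : ℕ)
    rw [Fin.val_rev]; omega
  · change ((Fin.rev i : Fin n) : ℕ) < k
    rw [Fin.val_rev]; have := i.2; omega

noncomputable def iso {n k k' : ℕ} (hkk : k + k' = n) :
    ↥(Cfsg.stabilizing (Cfsg.glToMat (Fin n) F)
      {v : Fin n → F | ∀ i : Fin n, k ≤ (i : ℕ) → v i = 0}) ≃*
    ↥(Cfsg.stabilizing (Cfsg.glToMat (Fin n) F)
      {v : Fin n → F | ∀ i : Fin n, k' ≤ (i : ℕ) → v i = 0}) where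
  toFun g := ⟨phi g.val, phi_mem hkk g.val g.2⟩
  invFun g := ⟨phi g.val, phi_mem (by omega) g.val g.2⟩
  left_inv g := Subtype.ext (phi_phi g.val)
  right_inv g := Subtype.ext (phi_phi g.val)
  map_mul' g h := Subtype.ext (phi_mul g.val h.val)

/-- The stabilisers in GL_n(F), F finite, of the coordinate subspaces of dimensions k and n − k are isomorphic groups, but when 2k ≠ n (and 0 < k < n) no element of GL_n conjugates one onto the other. -/
theorem result {F : Type*} [Field F] [Finite F] (n k : ℕ) (hk0 : 0 < k) (hkn : k < n) (h2 : 2 * k ≠ n) : Nonempty (↥(Cfsg.stabilizing (Cfsg.glToMat (Fin n) F) {v : Fin n → F | ∀ i : Fin n, k ≤ (i : ℕ) → v i = 0}) ≃* ↥(Cfsg.stabilizing (Cfsg.glToMat (Fin n) F) {v : Fin n → F | ∀ i : Fin n, n - k ≤ (i : ℕ) → v i = 0})) ∧ ∀ g : Matrix.GeneralLinearGroup (Fin n) F, (Cfsg.stabilizing (Cfsg.glToMat (Fin n) F) {v : Fin n → F | ∀ i : Fin n, k ≤ (i : ℕ) → v i = 0}).map (MulAut.conj g).toMonoidHom ≠ Cfsg.stabilizing (Cfsg.glToMat (Fin n) F) {v : Fin n → F | ∀ i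 : Fin n, n - k ≤ (i : ℕ) → v i = 0} := by
  exact ⟨⟨iso (by omega)⟩, fun g => not_conj hk0 hkn h2 g⟩

end Cfsg.Agent.S0773
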