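import Cfsg.Statements.S0777
import Mathlib
import Cfsg.Agent.Lib.Helper13.Parabolic

set_option autoImplicit false
open Cfsg

namespace Cfsg.Agent.S0777

open Matrix Cfsg.Agent.Helper13

variable {F : Type*} [Field F] {m : ℕ}

/-- sign attached to an index -/
def sg (F : Type*) [Field F] {m : ℕ} (i : Fin m ⊕ Fin m) : F := Sum.elim (fun _ => -1) (fun _ => 1) i

theorem sg_mul_self (i : Fin m ⊕ Fin m) : sg F i * sg F i = 1 := by
  rcases i with a | a <;> simp [sg]

theorem sg_ne_zero (i : Fin m ⊕ Fin m) : sg F i ≠ 0 := by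
  intro h
  have := sg_mul_self (F := F) i
  rw [h, mul_zero] at this
  exact zero_ne_one this

theorem sg_swap (i : Fin m ⊕ Fin m) : sg F (Sum.swap i) = - sg F i := by
  rcases i with a | a <;> simp [sg]

theorem J_apply (i j : Fin m ⊕ Fin m) :
    Matrix.J (Fin m) F i j = if j = Sum.swap i then sg F i else 0 := by
  rcases i with a | a <;> rcases j with b | b <;>
    simp [Matrix.J, sg, Matrix.one_apply, eq_comm, apply_ite]

theorem swap_ne (i : Fin m ⊕ Fin m) : Sum.swap i ≠ i := by
  rcases i with a | a <;> simp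

/-- monomial matrix: column `j` has the single entry `w j` in row `ρ j` -/
def Mon (ρ : Fin m ⊕ Fin m → Fin m ⊕ Fin m) (w : Fin m ⊕ Fin m → F) :
    Matrix (Fin m ⊕ Fin m) (Fin m ⊕ Fin m) F :=
  Matrix.of fun i j => if i = ρ j then w j else 0

theorem Mon_apply (ρ : Fin m ⊕ Fin m → Fin m ⊕ Fin m) (w : Fin m ⊕ Fin m → F) (i j) :
    Mon ρ w i j = if i = ρ j then w j else 0 := rfl

theorem Mon_key (ρ : Fin m ⊕ Fin m → Fin m ⊕ Fin m) (w : Fin m ⊕ Fin m → F) (j j') :
    ((Mon ρ w)ᵀ * Matrix.J (Fin m) F * Mon ρ w) j j' = w j * Matrix.J (Fin m) F (ρ j) (ρ j') * w j' := by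
  rw [Matrix.mul_apply]
  simp only [Mon_apply, mul_ite, mul_zero, Finset.sum_ite_eq', Finset.mem_univ, if_true]
  rw [Matrix.mul_apply]
  simp only [Matrix.transpose_apply, Mon_apply, ite_mul, zero_mul, Finset.sum_ite_eq',
    Finset.mem_univ, if_true]


/-- the torus -/
abbrev Tor (F : Type*) [Field F] (m : ℕ) : Subgroup (Matrix.symplecticGroup (Fin m) F) :=
  ⨅ i : Fin m ⊕ Fin m, Cfsg.stabilizing (Cfsg.spToMat m F) ((Submodule.span F {(Pi.single i (1 : F) : Fin m ⊕ Fin m → F)} : Submodule F (Fin m ⊕ Fin m → F)) : Set (Fin m ⊕ Fin m → F))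

theorem mem_stab_sp_iff (A : Matrix.symplecticGroup (Fin m) F) (S : Submodule F (Fin m ⊕ Fin m → F)) :
    A ∈ Cfsg.stabilizing (Cfsg.spToMat m F) (S : Set (Fin m ⊕ Fin m → F)) ↔
    ∀ v ∈ S, A.val *ᵥ v ∈ S := by
  constructor
  · intro h v hv
    exact (h v).mp hv
  · intro h v
    refine ⟨fun hv => h v hv, fun hv => ?_⟩
    exact mem_of_mulVec_mem S
      (Matrix.GeneralLinearGroup.mk'' A.val (SymplecticGroup.symplectic_det A.2)) h v hv

theorem diag_ne_zero (A : Matrix.symplecticGroup (Fin m) F)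
    (h : ∀ i j, i ≠ j → A.val i j = 0) (i : Fin m ⊕ Fin m) : A.val i i ≠ 0 := by
  intro h0
  have : A.val.det = 0 := by
    apply Matrix.det_eq_zero_of_row_eq_zero i
    intro j
    by_cases hij : i = j
    · rw [← hij]; exact h0
    · exact h i j hij
  have hu : IsUnit A.val.det := SymplecticGroup.symplectic_det A.2
  rw [this] at hu
  exact not_isUnit_zero hu

theorem mem_Tor_iff (A : Matrix.symplecticGroup (Fin m) F) :
    A ∈ Tor F m ↔ ∀ i j, i ≠ j → A.val i j = 0 := by
  rw [Subgroup.mem_iInf]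
  constructor
  · intro h i j hij
    have h1 := (mem_stab_sp_iff A _).mp (h j) (Pi.single j 1)
      (Submodule.mem_span_singleton_self _)
    rw [Matrix.mulVec_single_one, Submodule.mem_span_singleton] at h1
    obtain ⟨c, hc⟩ := h1
    have := congrFun hc i
    simp only [Pi.smul_apply, Pi.single_apply, if_neg hij, smul_eq_mul, mul_zero, Matrix.col_apply] at this
    exact this.symm
  · intro h i
    rw [mem_stab_sp_iff]
    intro v hv
    rw [Submodule.mem_span_singleton] at hv ⊢
    obtain ⟨c, rfl⟩ := hv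
    refine ⟨c * A.val i i, ?_⟩
    rw [Matrix.mulVec_smul, Matrix.mulVec_single_one, mul_smul]
    congr 1
    ext i'
    simp only [Pi.smul_apply, Pi.single_apply, smul_eq_mul, Matrix.col_apply]
    by_cases hi : i' = i
    · rw [if_pos hi, mul_one, hi]
    · rw [if_neg hi, mul_zero, h i' i hi]


theorem diagonal_mem_sp (d : Fin m ⊕ Fin m → F) (hd : ∀ j, d j * d (Sum.swap j) = 1) :
    Matrix.diagonal d ∈ Matrix.symplecticGroup (Fin m) F := by
  rw [SymplecticGroup.mem_iff']
  ext j j'
  rw [Matrix.diagonal_transpose, Matrix.mul_diagonal, Matrix.diagonal_mul, J_apply]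
  split_ifs with h
  · rw [h]
    linear_combination sg F j * hd j
  · simp

/-- special torus vector -/
def dvec (t : F) (i : Fin m ⊕ Fin m) : Fin m ⊕ Fin m → F :=
  fun j => if j = i then t else if j = Sum.swap i then t⁻¹ else 1

theorem dvec_mul (t : F) (ht : t ≠ 0) (i j : Fin m ⊕ Fin m) :
    dvec t i j * dvec t i (Sum.swap j) = 1 := by
  unfold dvec
  by_cases h1 : j = i
  · subst h1
    rw [if_pos rfl, if_neg (swap_ne j), if_pos rfl, mul_inv_cancel₀ ht]
  · by_cases h2 : j = Sum.swap i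
    · subst h2
      rw [if_neg h1, if_pos rfl, Sum.swap_swap, if_pos rfl, inv_mul_cancel₀ ht]
    · have h3 : Sum.swap j ≠ i := by
        intro h; apply h2; rw [← h, Sum.swap_swap]
      have h4 : Sum.swap j ≠ Sum.swap i := by
        intro h; apply h1
        have := congrArg Sum.swap h
        rwa [Sum.swap_swap, Sum.swap_swap] at this
      rw [if_neg h1, if_neg h2, if_neg h3, if_neg h4, mul_one]

theorem col_unique_of_mem_normalizer (t : F) (ht0 : t ≠ 0) (ht : t * t ≠ 1)
    (A : Matrix.symplecticGroup (Fin m) F)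
    (hA : A ∈ Subgroup.normalizer (Tor F m : Set (Matrix.symplecticGroup (Fin m) F)))
    (j i i' : Fin m ⊕ Fin m) (hi : A.val i j ≠ 0) (hi' : A.val i' j ≠ 0) : i = i' := by
  by_contra hne
  set h : Matrix.symplecticGroup (Fin m) F :=
    ⟨Matrix.diagonal (dvec t i), diagonal_mem_sp _ (dvec_mul t ht0 i)⟩ with hh
  have hT : h ∈ Tor F m := by
    rw [mem_Tor_iff]
    intro a b hab
    exact Matrix.diagonal_apply_ne _ hab
  have hk : A⁻¹ * h * A ∈ Tor F m := (Subgroup.mem_normalizer_iff''.mp hA h).mp hT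
  rw [mem_Tor_iff] at hk
  have heq : A.val * (A⁻¹ * h * A).val = Matrix.diagonal (dvec t i) * A.val := by
    have : A * (A⁻¹ * h * A) = h * A := by group
    have := congrArg Subtype.val this
    exact this
  have key : ∀ l, A.val l j ≠ 0 → (A⁻¹ * h * A).val j j = dvec t i l := by
    intro l hl
    have := congrFun (congrFun heq l) j
    rw [Matrix.diagonal_mul, Matrix.mul_apply, Finset.sum_eq_single j] at this
    · have h2 : A.val l j * ((A⁻¹ * h * A).val j j - dvec t i l) = 0 := by
        linear_combination this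
      rcases mul_eq_zero.mp h2 with h3 | h3
      · exact absurd h3 hl
      · exact sub_eq_zero.mp h3
    · intro b _ hb
      rw [hk b j hb, mul_zero]
    · intro hj
      exact absurd (Finset.mem_univ _) hj
  have e := (key i hi).symm.trans (key i' hi')
  unfold dvec at e
  rw [if_pos rfl, if_neg (Ne.symm hne)] at e
  split_ifs at e with h5
  · have h6 := mul_inv_cancel₀ ht0
    rw [← e] at h6
    exact ht h6
  · apply ht
    rw [e, mul_one]


theorem mem_normalizer_of_Mon [Finite F] (A : Matrix.symplecticGroup (Fin m) F)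
    (ρ : Equiv.Perm (Fin m ⊕ Fin m)) (w : Fin m ⊕ Fin m → F) (hA : A.val = Mon ρ w) :
    A ∈ Subgroup.normalizer (Tor F m : Set (Matrix.symplecticGroup (Fin m) F)) := by
  apply Subgroup.mem_normalizer_fintype
  intro h hh
  rw [SetLike.mem_coe, mem_Tor_iff] at hh ⊢
  obtain ⟨d, hd⟩ : ∃ d : Fin m ⊕ Fin m → F, h.val = Matrix.diagonal d := by
    refine ⟨fun j => h.val j j, ?_⟩
    ext a b
    by_cases hab : a = b
    · subst hab; simp
    · rw [hh a b hab, Matrix.diagonal_apply_ne _ hab]
  have h1 : A.val * h.val = Matrix.diagonal (fun i => d (ρ.symm i)) * A.val := by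
    rw [hd, hA]
    ext a b
    rw [Matrix.mul_diagonal, Matrix.diagonal_mul, Mon_apply]
    split_ifs with hab
    · rw [hab, Equiv.symm_apply_apply, mul_comm]
    · simp
  have h2 : (A * h * A⁻¹).val = Matrix.diagonal (fun i => d (ρ.symm i)) := by
    have e1 : (A * h * A⁻¹).val = A.val * h.val * (A⁻¹).val := rfl
    have e2 : A.val * (A⁻¹).val = 1 := congrArg Subtype.val (mul_inv_cancel A)
    rw [e1, h1, Matrix.mul_assoc, e2, Matrix.mul_one]
  intro a b hab
  rw [h2, Matrix.diagonal_apply_ne _ hab]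


/-- the pairing involution -/
abbrev tau (m : ℕ) : Equiv.Perm (Fin m ⊕ Fin m) := Equiv.sumComm (Fin m) (Fin m)

theorem tau_apply (i : Fin m ⊕ Fin m) : tau m i = Sum.swap i := rfl

theorem mem_cent_iff (ρ : Equiv.Perm (Fin m ⊕ Fin m)) :
    ρ ∈ Subgroup.centralizer {tau m} ↔ ∀ j, ρ (Sum.swap j) = Sum.swap (ρ j) := by
  rw [Subgroup.mem_centralizer_singleton_iff]
  constructor
  · intro h j
    have := congrArg (fun f : Equiv.Perm (Fin m ⊕ Fin m) => f j) h
    simpa [Equiv.Perm.mul_apply, tau_apply] using this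
  · intro h
    ext j
    simp only [Equiv.Perm.mul_apply, tau_apply]
    rw [h]

/-- the weights of the monomial matrix -/
def wOf (ρ : Fin m ⊕ Fin m → Fin m ⊕ Fin m) (c : Fin m → Fˣ) : Fin m ⊕ Fin m → F :=
  Sum.elim (fun a => (c a : F)) (fun a => - sg F (ρ (Sum.inl a)) * ((c a : F))⁻¹)

theorem wOf_cond (ρ : Equiv.Perm (Fin m ⊕ Fin m)) (hρ : ∀ j, ρ (Sum.swap j) = Sum.swap (ρ j))
    (c : Fin m → Fˣ) (j j' : Fin m ⊕ Fin m) :
    wOf ρ c j * Matrix.J (Fin m) F (ρ j) (ρ j') * wOf ρ c j' = Matrix.J (Fin m) F j j' := by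
  rw [J_apply, J_apply]
  by_cases h : j' = Sum.swap j
  · subst h
    rw [if_pos (hρ j), if_pos rfl]
    rcases j with a | a
    · have hc : (c a : F) ≠ 0 := (c a).ne_zero
      have hs := sg_mul_self (F := F) (ρ (Sum.inl a))
      simp only [wOf, Sum.elim_inl, Sum.swap_inl, Sum.elim_inr]
      have : sg F (Sum.inl a : Fin m ⊕ Fin m) = -1 := rfl
      rw [this]
      field_simp
      linear_combination (-1 : F) * hs
    · have hc : (c a : F) ≠ 0 := (c a).ne_zero
      have hs := sg_mul_self (F := F) (ρ (Sum.inl a))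
      have h2 : sg F (ρ (Sum.inr a)) = - sg F (ρ (Sum.inl a)) := by
        rw [← sg_swap, ← hρ, Sum.swap_inl]
      simp only [wOf, Sum.elim_inl, Sum.swap_inr, Sum.elim_inr]
      have : sg F (Sum.inr a : Fin m ⊕ Fin m) = 1 := rfl
      rw [this, h2]
      field_simp
      linear_combination hs
  · rw [if_neg h, if_neg]
    · simp
    · intro h'
      apply h
      rw [← hρ] at h'
      exact ρ.injective h'

/-- the parametrisation -/
def Psi (p : (Subgroup.centralizer {tau m} : Subgroup (Equiv.Perm (Fin m ⊕ Fin m))) × (Fin m → Fˣ)) :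
    Matrix.symplecticGroup (Fin m) F :=
  ⟨Mon p.1.1 (wOf p.1.1 p.2), by
    rw [SymplecticGroup.mem_iff']
    ext j j'
    rw [Mon_key, wOf_cond _ ((mem_cent_iff _).mp p.1.2)]⟩

theorem Psi_val (p : (Subgroup.centralizer {tau m} : Subgroup (Equiv.Perm (Fin m ⊕ Fin m))) × (Fin m → Fˣ)) :
    (Psi p : Matrix.symplecticGroup (Fin m) F).val = Mon p.1.1 (wOf p.1.1 p.2) := rfl

theorem wOf_ne_zero (ρ : Fin m ⊕ Fin m → Fin m ⊕ Fin m) (c : Fin m → Fˣ) (j : Fin m ⊕ Fin m) :
    wOf (F := F) ρ c j ≠ 0 := by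
  rcases j with a | a
  · exact (c a).ne_zero
  · simp only [wOf, Sum.elim_inr]
    exact mul_ne_zero (neg_ne_zero.mpr (sg_ne_zero _)) (inv_ne_zero (c a).ne_zero)

theorem Psi_injective : Function.Injective (Psi (F := F) (m := m)) := by
  rintro ⟨⟨ρ, hρ⟩, c⟩ ⟨⟨ρ', hρ'⟩, c'⟩ h
  have hv : Mon ρ (wOf ρ c) = Mon ρ' (wOf (F := F) ρ' c') := congrArg Subtype.val h
  have h1 : ∀ j, ρ j = ρ' j ∧ wOf (F := F) ρ c j = wOf ρ' c' j := by
    intro j
    have := congrFun (congrFun hv (ρ j)) j
    rw [Mon_apply, Mon_apply, if_pos rfl] at this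
    split_ifs at this with h2
    · exact ⟨h2, this⟩
    · exact absurd this (wOf_ne_zero ρ c j)
  have hρρ : ρ = ρ' := Equiv.ext (fun j => (h1 j).1)
  subst hρρ
  have hcc : c = c' := by
    funext a
    apply Units.ext
    exact (h1 (Sum.inl a)).2
  subst hcc
  rfl


theorem exists_param (t : F) (ht0 : t ≠ 0) (ht : t * t ≠ 1)
    (A : Matrix.symplecticGroup (Fin m) F)
    (hA : A ∈ Subgroup.normalizer (Tor F m : Set (Matrix.symplecticGroup (Fin m) F))) :
    ∃ p, Psi p = A := by
  classical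
  have hex : ∀ j, ∃ i, A.val i j ≠ 0 := by
    intro j
    by_contra hcon
    push Not at hcon
    have : A.val.det = 0 := Matrix.det_eq_zero_of_column_eq_zero j hcon
    have hu : IsUnit A.val.det := SymplecticGroup.symplectic_det A.2
    rw [this] at hu
    exact not_isUnit_zero hu
  choose ρ₀ hρ₀ using hex
  have huniq : ∀ i j, A.val i j ≠ 0 → i = ρ₀ j := fun i j h =>
    col_unique_of_mem_normalizer t ht0 ht A hA j i (ρ₀ j) h (hρ₀ j)
  have hAM : A.val = Mon ρ₀ (fun j => A.val (ρ₀ j) j) := by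
    ext i j
    rw [Mon_apply]
    split_ifs with h
    · rw [h]
    · by_contra h'
      exact h (huniq i j h')
  have hkey : ∀ j j', A.val (ρ₀ j) j * Matrix.J (Fin m) F (ρ₀ j) (ρ₀ j') * A.val (ρ₀ j') j'
      = Matrix.J (Fin m) F j j' := by
    intro j j'
    have h1 := SymplecticGroup.mem_iff'.mp A.2
    have h2 := congrFun (congrFun h1 j) j'
    rw [hAM, Mon_key] at h2
    exact h2
  have hsw : ∀ j, ρ₀ (Sum.swap j) = Sum.swap (ρ₀ j) := by
    intro j
    have := hkey j (Sum.swap j)
    rw [J_apply, J_apply, if_pos rfl] at this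
    by_contra hne
    rw [if_neg hne, mul_zero, zero_mul] at this
    exact sg_ne_zero j this.symm
  have hinj : Function.Injective ρ₀ := by
    intro j j'' hjj
    by_contra hne
    have h1 := hkey j (Sum.swap j'')
    have e : ρ₀ (Sum.swap j'') = Sum.swap (ρ₀ j) := by rw [hsw, hjj]
    rw [J_apply, J_apply, if_pos e, if_neg] at h1
    · exact mul_ne_zero (mul_ne_zero (hρ₀ j) (sg_ne_zero _)) (hρ₀ _) h1
    · intro h
      apply hne
      have := congrArg Sum.swap h
      rw [Sum.swap_swap, Sum.swap_swap] at this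
      exact this.symm
  have hρmem : Equiv.ofBijective ρ₀ (Finite.injective_iff_bijective.mp hinj) ∈
      Subgroup.centralizer {tau m} := (mem_cent_iff _).mpr hsw
  refine ⟨(⟨Equiv.ofBijective ρ₀ (Finite.injective_iff_bijective.mp hinj), hρmem⟩,
    fun a => Units.mk0 (A.val (ρ₀ (Sum.inl a)) (Sum.inl a)) (hρ₀ _)), ?_⟩
  apply Subtype.ext
  rw [Psi_val]
  refine Eq.trans ?_ hAM.symm
  have hw : wOf (F := F) (Equiv.ofBijective ρ₀ (Finite.injective_iff_bijective.mp hinj))
      (fun a => Units.mk0 (A.val (ρ₀ (Sum.inl a)) (Sum.inl a)) (hρ₀ _)) =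
      fun j => A.val (ρ₀ j) j := by
    funext j
    rcases j with a | a
    · rfl
    · simp only [wOf, Sum.elim_inr, Equiv.ofBijective_apply, Units.val_mk0]
      have e : ρ₀ (Sum.inr a) = Sum.swap (ρ₀ (Sum.inl a)) := by rw [← hsw]; rfl
      have h1 := hkey (Sum.inl a) (Sum.inr a)
      rw [J_apply, J_apply, if_pos e, if_pos (by rfl)] at h1
      have hs := sg_mul_self (F := F) (ρ₀ (Sum.inl a))
      have h3 : sg F (Sum.inl a : Fin m ⊕ Fin m) = -1 := rfl
      rw [h3] at h1
      have hne := hρ₀ (Sum.inl a)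
      field_simp
      linear_combination (-sg F (ρ₀ (Sum.inl a))) * h1 + (A.val (ρ₀ (Sum.inr a)) (Sum.inr a)
        * A.val (ρ₀ (Sum.inl a)) (Sum.inl a)) * hs
  exact congrArg (Mon ρ₀) hw


theorem cycleType_tau : (tau m).cycleType = Multiset.replicate m 2 := by
  classical
  have h2 : (tau m) ^ 2 = 1 := by
    ext j
    simp [sq, Equiv.Perm.mul_apply]
  have : Fact (Nat.Prime 2) := ⟨Nat.prime_two⟩
  have hct := Equiv.Perm.cycleType_of_pow_prime_eq_one h2
  have hsupp : (tau m).support = Finset.univ := by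
    ext j
    simp only [Equiv.Perm.mem_support, Finset.mem_univ, iff_true]
    exact swap_ne j
  have hsum : (tau m).cycleType.sum = 2 * m := by
    rw [Equiv.Perm.sum_cycleType, hsupp, Finset.card_univ, Fintype.card_sum, Fintype.card_fin]
    ring
  generalize Multiset.card (tau m).cycleType = k at hct
  rw [hct, Multiset.sum_replicate, smul_eq_mul] at hsum
  have : k = m := by omega
  rw [hct, this]

theorem card_cent : Nat.card (Subgroup.centralizer {tau m} : Subgroup (Equiv.Perm (Fin m ⊕ Fin m)))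
    = 2 ^ m * m.factorial := by
  classical
  rw [Equiv.Perm.nat_card_centralizer, cycleType_tau, Multiset.sum_replicate, Multiset.prod_replicate,
    Fintype.card_sum, Fintype.card_fin, smul_eq_mul]
  have h0 : m + m - m * 2 = 0 := by omega
  rw [h0, Nat.factorial_zero, one_mul]
  rcases Nat.eq_zero_or_pos m with hm | hm
  · subst hm
    simp
  · congr 1
    have : (Multiset.replicate m 2).toFinset = {2} := by
      ext x
      simp only [Multiset.mem_toFinset, Multiset.mem_replicate, Finset.mem_singleton]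
      constructor
      · rintro ⟨_, rfl⟩; rfl
      · rintro rfl; exact ⟨by omega, rfl⟩
    rw [this, Finset.prod_singleton, Multiset.count_replicate_self]

/-- Weyl group of type C_m: for q ≥ 4 the diagonal matrices of Sp_2m(q) form a torus T ≅ (C_(q−1))^m (the elements stabilising every coordinate axis), and the normaliser of T in Sp_2m(q) has order 2^m · m! · (q − 1)^m. -/
theorem result {F : Type*} [Field F] [Fintype F] {q : ℕ} (hF : Fintype.card F = q) (hq : 4 ≤ q) (m : ℕ) : Nat.card ↥(Subgroup.normalizer (⨅ i : Fin m ⊕ Fin m, Cfsg.stabilizing (Cfsg.spToMat m F) ((Submodule.span F {(Pi.single i (1 : F) : Fin m ⊕ Fin m → F)} : Submodule F (Fin m ⊕ Fin m → F)) : Set (Fin m ⊕ Fin m → F)) : Set (Matrix.symplecticGroup (Fin m) F))) = 2 ^ m * Nat.factorial m * (q - 1) ^ m := by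
  classical
  obtain ⟨t, ht0, ht⟩ : ∃ t : F, t ≠ 0 ∧ t * t ≠ 1 := by
    by_contra hcon
    push Not at hcon
    have hsub : (Finset.univ : Finset F) ⊆ {0, 1, -1} := by
      intro x _
      by_cases hx : x = 0
      · simp [hx]
      · have := hcon x hx
        have h2 : (x - 1) * (x + 1) = 0 := by linear_combination this
        rcases mul_eq_zero.mp h2 with h3 | h3
        · have : x = 1 := by linear_combination h3
          simp [this]
        · have : x = -1 := by linear_combination h3
          simp [this]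
    have h1 := Finset.card_le_card hsub
    have h3 : ({0, 1, -1} : Finset F).card ≤ 3 := Finset.card_le_three
    rw [Finset.card_univ, hF] at h1
    omega
  have hrange : (Subgroup.normalizer (Tor F m : Set (Matrix.symplecticGroup (Fin m) F)) :
      Set (Matrix.symplecticGroup (Fin m) F)) = Set.range Psi := by
    ext A
    constructor
    · intro hA
      obtain ⟨p, hp⟩ := exists_param t ht0 ht A hA
      exact ⟨p, hp⟩
    · rintro ⟨p, rfl⟩
      exact mem_normalizer_of_Mon _ p.1.1 _ (Psi_val p)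
  have hcard : Nat.card ↥(Subgroup.normalizer (Tor F m : Set (Matrix.symplecticGroup (Fin m) F))) =
      Nat.card (Set.range (Psi (F := F) (m := m))) := by
    rw [← hrange]
    rfl
  have hT : (⨅ i : Fin m ⊕ Fin m, ((Cfsg.stabilizing (Cfsg.spToMat m F) ((Submodule.span F {(Pi.single i (1 : F) : Fin m ⊕ Fin m → F)} : Submodule F (Fin m ⊕ Fin m → F)) : Set (Fin m ⊕ Fin m → F)) : Subgroup (Matrix.symplecticGroup (Fin m) F)) : Set (Matrix.symplecticGroup (Fin m) F))) = (Tor F m : Set (Matrix.symplecticGroup (Fin m) F)) := by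
    rw [Set.iInf_eq_iInter]
    exact Subgroup.coe_iInf.symm
  rw [hT, hcard, Nat.card_range_of_injective Psi_injective, Nat.card_prod, card_cent, Nat.card_fun,
    Nat.card_units, Nat.card_eq_fintype_card, Nat.card_eq_fintype_card, hF, Fintype.card_fin]

end Cfsg.Agent.S0777
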