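import Cfsg.Statements.S0778
import Mathlib

set_option autoImplicit false
open Cfsg

namespace Cfsg.Agent.S0778

open Matrix

variable {F : Type*} [Field F] {m : ℕ}

/-- the set of vectors with vanishing `inr` coordinates -/
def E (F : Type*) [Field F] (m : ℕ) : Set (Fin m ⊕ Fin m → F) := {v | ∀ i : Fin m, v (Sum.inr i) = 0}
/-- the set of vectors with vanishing `inl` coordinates -/
def E' (F : Type*) [Field F] (m : ℕ) : Set (Fin m ⊕ Fin m → F) := {v | ∀ i : Fin m, v (Sum.inl i) = 0}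

theorem mulVec_inr (M : Matrix (Fin m ⊕ Fin m) (Fin m ⊕ Fin m) F) (v : Fin m ⊕ Fin m → F) (i : Fin m) :
    (M *ᵥ v) (Sum.inr i) = (M.toBlocks₂₁ *ᵥ (v ∘ Sum.inl)) i + (M.toBlocks₂₂ *ᵥ (v ∘ Sum.inr)) i := by
  simp [Matrix.mulVec, dotProduct, Fintype.sum_sum_type, Matrix.toBlocks₂₁, Matrix.toBlocks₂₂]

theorem mulVec_inl (M : Matrix (Fin m ⊕ Fin m) (Fin m ⊕ Fin m) F) (v : Fin m ⊕ Fin m → F) (i : Fin m) :
    (M *ᵥ v) (Sum.inl i) = (M.toBlocks₁₁ *ᵥ (v ∘ Sum.inl)) i + (M.toBlocks₁₂ *ᵥ (v ∘ Sum.inr)) i := by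
  simp [Matrix.mulVec, dotProduct, Fintype.sum_sum_type, Matrix.toBlocks₁₁, Matrix.toBlocks₁₂]

theorem blocks_zero_of_stab (M : Matrix (Fin m ⊕ Fin m) (Fin m ⊕ Fin m) F)
    (h1 : ∀ v, v ∈ E F m → M *ᵥ v ∈ E F m) (h2 : ∀ v, v ∈ E' F m → M *ᵥ v ∈ E' F m) :
    M.toBlocks₂₁ = 0 ∧ M.toBlocks₁₂ = 0 := by
  constructor
  · ext i j
    have hmem : (Pi.single (Sum.inl j) (1 : F) : Fin m ⊕ Fin m → F) ∈ E F m := by
      intro k; simp
    have := h1 _ hmem i
    simpa [Matrix.toBlocks₂₁] using this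
  · ext i j
    have hmem : (Pi.single (Sum.inr j) (1 : F) : Fin m ⊕ Fin m → F) ∈ E' F m := by
      intro k; simp
    have := h2 _ hmem i
    simpa [Matrix.toBlocks₁₂] using this

theorem stab_of_blocks (A D : Matrix (Fin m) (Fin m) F) (hA : IsUnit A.det) (hD : IsUnit D.det) :
    (∀ v, v ∈ E F m ↔ (fromBlocks A 0 0 D) *ᵥ v ∈ E F m) ∧
    (∀ v, v ∈ E' F m ↔ (fromBlocks A 0 0 D) *ᵥ v ∈ E' F m) := by
  constructor
  · intro v
    simp only [E, Set.mem_ofPred_eq, mulVec_inr, toBlocks_fromBlocks₂₁, toBlocks_fromBlocks₂₂,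
      Matrix.zero_mulVec, Pi.zero_apply, zero_add]
    constructor
    · intro h i
      have : v ∘ Sum.inr = 0 := funext h
      rw [this, Matrix.mulVec_zero]; rfl
    · intro h
      have h0 : D *ᵥ (v ∘ Sum.inr) = 0 := funext h
      have := congrArg (fun w => D⁻¹ *ᵥ w) h0
      simp only [Matrix.mulVec_mulVec, Matrix.nonsing_inv_mul D hD, Matrix.one_mulVec,
        Matrix.mulVec_zero] at this
      intro i
      exact congrFun this i
  · intro v
    simp only [E', Set.mem_ofPred_eq, mulVec_inl, toBlocks_fromBlocks₁₁, toBlocks_fromBlocks₁₂,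
      Matrix.zero_mulVec, Pi.zero_apply, add_zero]
    constructor
    · intro h i
      have : v ∘ Sum.inl = 0 := funext h
      rw [this, Matrix.mulVec_zero]; rfl
    · intro h
      have h0 : A *ᵥ (v ∘ Sum.inl) = 0 := funext h
      have := congrArg (fun w => A⁻¹ *ᵥ w) h0
      simp only [Matrix.mulVec_mulVec, Matrix.nonsing_inv_mul A hA, Matrix.one_mulVec,
        Matrix.mulVec_zero] at this
      intro i
      exact congrFun this i

theorem diag_mem_symplectic (A D : Matrix (Fin m) (Fin m) F) (h : Aᵀ * D = 1) :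
    fromBlocks A 0 0 D ∈ Matrix.symplecticGroup (Fin m) F := by
  rw [SymplecticGroup.fromBlocks_mem_iff]
  simp [h]

theorem diag_of_mem_symplectic (A D : Matrix (Fin m) (Fin m) F)
    (h : fromBlocks A 0 0 D ∈ Matrix.symplecticGroup (Fin m) F) : Aᵀ * D = 1 := by
  rw [SymplecticGroup.fromBlocks_mem_iff] at h
  simpa using h.2.2

/-- the subgroup in the statement -/
abbrev H (F : Type*) [Field F] (m : ℕ) : Subgroup (Matrix.symplecticGroup (Fin m) F) :=
  Cfsg.stabilizing (Cfsg.spToMat m F) {v : Fin m ⊕ Fin m → F | ∀ i : Fin m, v (Sum.inr i) = 0} ⊓ Cfsg.stabilizing (Cfsg.spToMat m F) {v : Fin m ⊕ Fin m → F | ∀ i : Fin m, v (Sum.inl i) = 0}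

theorem mem_H_iff (M : Matrix.symplecticGroup (Fin m) F) :
    M ∈ H F m ↔ (∀ v, v ∈ E F m ↔ M.val *ᵥ v ∈ E F m) ∧
      (∀ v, v ∈ E' F m ↔ M.val *ᵥ v ∈ E' F m) := Iff.rfl

theorem eq_fromBlocks_of_mem_H (M : Matrix.symplecticGroup (Fin m) F) (hM : M ∈ H F m) :
    M.val = fromBlocks M.val.toBlocks₁₁ 0 0 M.val.toBlocks₂₂ := by
  rw [mem_H_iff] at hM
  obtain ⟨h21, h12⟩ := blocks_zero_of_stab M.val (fun v hv => (hM.1 v).mp hv)
    (fun v hv => (hM.2 v).mp hv)
  conv_lhs => rw [← Matrix.fromBlocks_toBlocks M.val]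
  rw [h21, h12]

theorem blocks_rel (M : Matrix.symplecticGroup (Fin m) F) (hM : M ∈ H F m) :
    (M.val.toBlocks₁₁)ᵀ * M.val.toBlocks₂₂ = 1 := by
  apply diag_of_mem_symplectic
  rw [← eq_fromBlocks_of_mem_H M hM]
  exact M.2

/-- the isomorphism -/
noncomputable def equivGL : H F m ≃* Matrix.GeneralLinearGroup (Fin m) F where
  toFun M :=
    ⟨M.val.val.toBlocks₁₁, (M.val.val.toBlocks₂₂)ᵀ,
      by
        have h := blocks_rel M.1 M.2
        have h' := congrArg Matrix.transpose h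
        rw [Matrix.transpose_mul, Matrix.transpose_transpose, Matrix.transpose_one] at h'
        exact mul_eq_one_comm.mp h',
      by
        have h := blocks_rel M.1 M.2
        have h' := congrArg Matrix.transpose h
        rw [Matrix.transpose_mul, Matrix.transpose_transpose, Matrix.transpose_one] at h'
        exact h'⟩
  invFun g :=
    ⟨⟨fromBlocks g.val 0 0 (g⁻¹).valᵀ, by
        apply diag_mem_symplectic
        rw [← Matrix.transpose_mul]
        have : (g⁻¹).val * g.val = 1 := by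
          rw [← Units.val_mul, inv_mul_cancel, Units.val_one]
        rw [this, Matrix.transpose_one]⟩, by
        rw [mem_H_iff]
        apply stab_of_blocks
        · exact (Matrix.isUnit_iff_isUnit_det _).mp g.isUnit
        · rw [Matrix.det_transpose]
          exact (Matrix.isUnit_iff_isUnit_det _).mp (g⁻¹).isUnit⟩
  left_inv M := by
    apply Subtype.ext
    apply Subtype.ext
    simp only [Units.inv_mk, Matrix.transpose_transpose]
    exact (eq_fromBlocks_of_mem_H M.1 M.2).symm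
  right_inv g := by
    apply Units.ext
    simp
  map_mul' M N := by
    apply Units.ext
    simp only [Units.val_mul]
    change (M.val.val * N.val.val).toBlocks₁₁ = _
    rw [eq_fromBlocks_of_mem_H M.1 M.2, eq_fromBlocks_of_mem_H N.1 N.2, Matrix.fromBlocks_multiply]
    simp

/-- The elements of Sp_2m(F) stabilising both W = ⟨e_1..e_m⟩ and U = ⟨f_1..f_m⟩ form a subgroup isomorphic to GL_m(F) (block-diagonal matrices diag(X, X^(−ᵀ)) up to the sign convention of J), for m ≥ 1 or m = 0 alike. -/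
theorem result {F : Type*} [Field F] (m : ℕ) : Nonempty (↥(Cfsg.stabilizing (Cfsg.spToMat m F) {v : Fin m ⊕ Fin m → F | ∀ i : Fin m, v (Sum.inr i) = 0} ⊓ Cfsg.stabilizing (Cfsg.spToMat m F) {v : Fin m ⊕ Fin m → F | ∀ i : Fin m, v (Sum.inl i) = 0}) ≃* Matrix.GeneralLinearGroup (Fin m) F) :=
  ⟨equivGL⟩

end Cfsg.Agent.S0778
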