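import Cfsg.Statements.S0782
import Mathlib
import Cfsg.Agent.Lib.Helper13.HermFrames
import Cfsg.Agent.Lib.Helper13.Parabolic
import Cfsg.Agent.Lib.Helper13.NormSurj
import Cfsg.Agent.Lib.Helper13.QuadMat

set_option autoImplicit false
open Cfsg

namespace Cfsg.Agent.S0782

open Matrix Module Submodule Cfsg.Agent.Helper13

variable {F : Type*} [Field F] [Fintype F] {q n : ℕ}

/-! ### the action of `GU` on frames -/

omit [Fintype F] in
theorem mulVec_injective' (g : Matrix.GeneralLinearGroup (Fin n) F) :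
    Function.Injective (fun v : Fin n → F => (g : Matrix (Fin n) (Fin n) F) *ᵥ v) := by
  have : Function.Injective (g : Matrix (Fin n) (Fin n) F).mulVec := by
    rw [Matrix.mulVec_injective_iff_isUnit]
    exact g.isUnit
  exact this

/-- the image of a frame -/
noncomputable def act {k : ℕ} (g : ↥(Cfsg.GU n F q)) (s : HFrame n F q k) : HFrame n F q k :=
  ⟨fun i => (g.1 : Matrix (Fin n) (Fin n) F) *ᵥ s.1 i, by
    have := s.2.1.map' (Matrix.toLin' (g.1 : Matrix (Fin n) (Fin n) F)) (by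
      rw [LinearMap.ker_eq_bot]
      intro u v huv
      rw [Matrix.toLin'_apply, Matrix.toLin'_apply] at huv
      exact mulVec_injective' g.1 huv)
    exact this, fun i j => by
    have h := g.2 (s.1 i) (s.1 j)
    exact h.trans (s.2.2 i j)⟩

noncomputable instance frameAction {k : ℕ} : MulAction ↥(Cfsg.GU n F q) (HFrame n F q k) where
  smul := act
  one_smul s := by
    apply Subtype.ext
    funext i
    change ((1 : ↥(Cfsg.GU n F q)).1 : Matrix (Fin n) (Fin n) F) *ᵥ s.1 i = s.1 i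
    simp
  mul_smul A A' s := by
    apply Subtype.ext
    funext i
    change ((A * A').1 : Matrix (Fin n) (Fin n) F) *ᵥ s.1 i =
      (A.1 : Matrix (Fin n) (Fin n) F) *ᵥ ((A'.1 : Matrix (Fin n) (Fin n) F) *ᵥ s.1 i)
    rw [Subgroup.coe_mul, Units.val_mul, Matrix.mulVec_mulVec]

omit [Fintype F] in
theorem smul_val {k : ℕ} (A : ↥(Cfsg.GU n F q)) (s : HFrame n F q k) (i : Fin k) :
    (A • s).1 i = (A.1 : Matrix (Fin n) (Fin n) F) *ᵥ s.1 i := rfl

theorem frame_pretransitive (hF : Fintype.card F = q ^ 2) {k : ℕ} :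
    MulAction.IsPretransitive ↥(Cfsg.GU n F q) (HFrame n F q k) := by
  constructor
  intro s s'
  obtain ⟨A, hA, hAv⟩ := exists_GU_frame hF s.1 s'.1 s.2.1 s'.2.1
    (fun a b => by rw [s.2.2, s'.2.2])
  refine ⟨⟨A, hA⟩, ?_⟩
  apply Subtype.ext
  funext i
  rw [smul_val]
  exact hAv i

omit [Fintype F] in
theorem span_smul {k : ℕ} (A : ↥(Cfsg.GU n F q)) (s : HFrame n F q k) :
    span F (Set.range (A • s).1) =
      (span F (Set.range s.1)).map (Matrix.toLin' (A.1 : Matrix (Fin n) (Fin n) F)) := by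
  rw [Submodule.map_span, ← Set.range_comp]
  congr 1


/-! ### frames spanning `W` -/

section Count

variable {k : ℕ} (W : Submodule F (Fin n → F))

/-- the stabiliser of `W` in `GU` -/
abbrev PW : Subgroup ↥(Cfsg.GU n F q) :=
  (Cfsg.stabilizing (Cfsg.glToMat (Fin n) F) (W : Set (Fin n → F))).subgroupOf (Cfsg.GU n F q)

omit [Fintype F] in
theorem mem_PW_iff (g : ↥(Cfsg.GU n F q)) :
    g ∈ PW (q := q) W ↔ ∀ v ∈ W, (g.1 : Matrix (Fin n) (Fin n) F) *ᵥ v ∈ W := by
  rw [Subgroup.mem_subgroupOf, mem_stabilizing_iff]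

/-- a linearly independent family in a totally isotropic `W` is a frame -/
noncomputable def frameOfLI (hW : ∀ u ∈ W, ∀ v ∈ W, Cfsg.hermForm n F q u v = 0)
    (t : {t : Fin k → W // LinearIndependent F t}) : HFrame n F q k :=
  ⟨fun i => (t.1 i : Fin n → F), t.2.map' W.subtype (Submodule.ker_subtype W),
    fun i j => hW _ (t.1 i).2 _ (t.1 j).2⟩

omit [Fintype F] in
theorem span_frameOfLI (hWk : Module.finrank F W = k)
    (hW : ∀ u ∈ W, ∀ v ∈ W, Cfsg.hermForm n F q u v = 0)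
    (t : {t : Fin k → W // LinearIndependent F t}) :
    span F (Set.range (frameOfLI W hW t).1) = W := by
  apply Submodule.eq_of_le_of_finrank_eq
  · rw [span_le]
    rintro _ ⟨i, rfl⟩
    exact (t.1 i).2
  · rw [finrank_span_eq_card (frameOfLI W hW t).2.1, Fintype.card_fin, hWk]

noncomputable def equivFW (hWk : Module.finrank F W = k)
    (hW : ∀ u ∈ W, ∀ v ∈ W, Cfsg.hermForm n F q u v = 0) :
    {t : Fin k → W // LinearIndependent F t} ≃
      {s : HFrame n F q k // span F (Set.range s.1) = W} where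
  toFun t := ⟨frameOfLI W hW t, span_frameOfLI W hWk hW t⟩
  invFun s := ⟨fun i => ⟨s.1.1 i, by
      have h := s.2
      have h2 : s.1.1 i ∈ span F (Set.range s.1.1) := subset_span ⟨i, rfl⟩
      rw [h] at h2
      exact h2⟩, by
    apply LinearIndependent.of_comp W.subtype
    exact s.1.2.1⟩
  left_inv t := by
    apply Subtype.ext
    funext i
    rfl
  right_inv s := by
    apply Subtype.ext
    apply Subtype.ext
    funext i
    rfl

theorem card_FW (hWk : Module.finrank F W = k)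
    (hW : ∀ u ∈ W, ∀ v ∈ W, Cfsg.hermForm n F q u v = 0) :
    Nat.card {s : HFrame n F q k // span F (Set.range s.1) = W} =
      ∏ i : Fin k, (Fintype.card F ^ k - Fintype.card F ^ (i : ℕ)) := by
  rw [← Nat.card_congr (equivFW W hWk hW), card_linearIndependent (le_of_eq hWk.symm), hWk]

/-! ### the stabiliser -/

omit [Fintype F] in
theorem map_eq_of_mem_stab (A : ↥(Cfsg.GU n F q)) (hA : A ∈ PW (q := q) W) :
    W.map (Matrix.toLin' (A.1 : Matrix (Fin n) (Fin n) F)) = W := by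
  apply le_antisymm
  · rw [Submodule.map_le_iff_le_comap]
    intro v hv
    rw [Submodule.mem_comap, Matrix.toLin'_apply]
    exact (mem_PW_iff W A).mp hA v hv
  · intro w hw
    have hA' : A⁻¹ ∈ PW (q := q) W := inv_mem hA
    refine ⟨((A⁻¹).1 : Matrix (Fin n) (Fin n) F) *ᵥ w, (mem_PW_iff W _).mp hA' w hw, ?_⟩
    rw [Matrix.toLin'_apply, Matrix.mulVec_mulVec, ← Units.val_mul, ← Subgroup.coe_mul,
      mul_inv_cancel]
    simp

omit [Fintype F] in
theorem mem_stab_of_span (A : ↥(Cfsg.GU n F q)) (s : HFrame n F q k)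
    (hs : span F (Set.range s.1) = W) (hAs : span F (Set.range (A • s).1) = W) :
    A ∈ PW (q := q) W := by
  rw [mem_PW_iff]
  intro v hv
  rw [span_smul, hs] at hAs
  rw [← hAs]
  exact ⟨v, hv, Matrix.toLin'_apply _ _⟩

theorem orbit_stab (hF : Fintype.card F = q ^ 2) (s₀ : HFrame n F q k)
    (hs₀ : span F (Set.range s₀.1) = W) :
    MulAction.orbit ↥(PW (q := q) W) s₀ = {s | span F (Set.range s.1) = W} := by
  ext s
  rw [MulAction.mem_orbit_iff, Set.mem_ofPred_eq]
  constructor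
  · rintro ⟨g, rfl⟩
    rw [Subgroup.smul_def, span_smul, hs₀]
    exact map_eq_of_mem_stab W g.1 g.2
  · intro hs
    have := frame_pretransitive (n := n) hF (k := k)
    obtain ⟨A, hA⟩ := MulAction.exists_smul_eq ↥(Cfsg.GU n F q) s₀ s
    refine ⟨⟨A, mem_stab_of_span W A s₀ hs₀ (by rw [hA]; exact hs)⟩, ?_⟩
    rw [Subgroup.smul_def]
    exact hA

omit [Fintype F] in
theorem stabilizer_le (s₀ : HFrame n F q k) (hs₀ : span F (Set.range s₀.1) = W) :
    MulAction.stabilizer ↥(Cfsg.GU n F q) s₀ ≤ PW (q := q) W := by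
  intro A hA
  rw [MulAction.mem_stabilizer_iff] at hA
  exact mem_stab_of_span W A s₀ hs₀ (by rw [hA]; exact hs₀)

omit [Fintype F] in
theorem stabilizer_sub (s₀ : HFrame n F q k) :
    MulAction.stabilizer ↥(PW (q := q) W) s₀ =
      (MulAction.stabilizer ↥(Cfsg.GU n F q) s₀).subgroupOf (PW (q := q) W) := by
  ext g
  rw [MulAction.mem_stabilizer_iff, Subgroup.mem_subgroupOf, MulAction.mem_stabilizer_iff,
    Subgroup.smul_def]

theorem key_count (hF : Fintype.card F = q ^ 2) (hWk : Module.finrank F W = k)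
    (hW : ∀ u ∈ W, ∀ v ∈ W, Cfsg.hermForm n F q u v = 0) :
    Nat.card ↥(PW (q := q) W) * Nat.card (HFrame n F q k) =
      (∏ i : Fin k, (Fintype.card F ^ k - Fintype.card F ^ (i : ℕ))) *
        Nat.card ↥(Cfsg.GU n F q) := by
  classical
  have := frame_pretransitive (n := n) hF (k := k)
  let t₀ : {t : Fin k → W // LinearIndependent F t} :=
    ⟨fun i => Module.finBasisOfFinrankEq F W hWk i, (Module.finBasisOfFinrankEq F W hWk).linearIndependent⟩
  let s₀ : HFrame n F q k := frameOfLI W hW t₀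
  have hs₀ : span F (Set.range s₀.1) = W := span_frameOfLI W hWk hW t₀
  have h1 : (MulAction.stabilizer ↥(Cfsg.GU n F q) s₀).index = Nat.card (HFrame n F q k) := by
    rw [MulAction.index_stabilizer, MulAction.orbit_eq_univ, Set.ncard_univ]
  have h2 := Subgroup.card_mul_index (MulAction.stabilizer ↥(Cfsg.GU n F q) s₀)
  have h3 : (MulAction.stabilizer ↥(PW (q := q) W) s₀).index =
      ∏ i : Fin k, (Fintype.card F ^ k - Fintype.card F ^ (i : ℕ)) := by
    rw [MulAction.index_stabilizer, orbit_stab W hF s₀ hs₀, ← card_FW W hWk hW]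
    rfl
  have h4 := Subgroup.card_mul_index (MulAction.stabilizer ↥(PW (q := q) W) s₀)
  have h5 : Nat.card (MulAction.stabilizer ↥(PW (q := q) W) s₀) =
      Nat.card (MulAction.stabilizer ↥(Cfsg.GU n F q) s₀) := by
    rw [stabilizer_sub]
    exact Nat.card_congr (Subgroup.subgroupOfEquivOfLe (stabilizer_le W s₀ hs₀)).toEquiv
  rw [← h4, ← h2, h5, h3, h1]
  ring

end Count


/-! ### elements of the stabiliser with prescribed determinant -/

/-- conjugate vector -/
def conjv (q : ℕ) (v : Fin n → F) : Fin n → F := fun i => v i ^ q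

omit [Fintype F] in
theorem conjv_dot (v w : Fin n → F) : conjv q w ⬝ᵥ v = Cfsg.hermForm n F q v w := by
  unfold conjv Cfsg.hermForm dotProduct
  exact Finset.sum_congr rfl (fun i _ => mul_comm _ _)

/-- rank-one perturbation of the identity -/
def M1 (q : ℕ) (a : F) (x w : Fin n → F) : Matrix (Fin n) (Fin n) F :=
  1 + Matrix.vecMulVec (a • x) (conjv q w)

omit [Fintype F] in
theorem M1_mulVec (a : F) (x w v : Fin n → F) :
    M1 q a x w *ᵥ v = v + (a * Cfsg.hermForm n F q v w) • x := by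
  unfold M1
  rw [Matrix.add_mulVec, Matrix.one_mulVec, vecMulVec_mulVec', conjv_dot, smul_smul, mul_comm]

omit [Fintype F] in
theorem M1_det (a : F) (x w : Fin n → F) :
    (M1 q a x w).det = 1 + a * Cfsg.hermForm n F q x w := by
  unfold M1
  rw [det_one_add_vecMulVec, dotProduct_smul, conjv_dot, smul_eq_mul]

theorem exists_det (hF : Fintype.card F = q ^ 2) (W : Submodule F (Fin n → F))
    (hW : ∀ u ∈ W, ∀ v ∈ W, Cfsg.hermForm n F q u v = 0) (x : Fin n → F) (hxW : x ∈ W)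
    (hx : x ≠ 0) (l : F) (hl : l ^ (q + 1) = 1) :
    ∃ A : Matrix.GeneralLinearGroup (Fin n) F, A ∈ Cfsg.GU n F q ∧
      (∀ v ∈ W, (A : Matrix (Fin n) (Fin n) F) *ᵥ v ∈ W) ∧
      (A : Matrix (Fin n) (Fin n) F).det = l := by
  have hxx : stdB hF n x x = 0 := hW x hxW x hxW
  obtain ⟨y, hxy, hyy⟩ := exists_hyp_partner (stdB hF n) (stdB_isSymm hF n) (frobQ_ne_id hF)
    (frobQ_frobQ hF) (stdB_nondeg hF n) x hx hxx
  have hyx : stdB hF n y x = 1 := by
    rw [← (stdB_isSymm hF n).eq x y, hxy, map_one]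
  have hl' : l * frobQ hF l = 1 := by
    rw [frobQ_apply, ← pow_succ']
    exact hl
  obtain ⟨b, hb0, hb⟩ := hilbert90_involution (frobQ hF) (frobQ_ne_id hF) (frobQ_frobQ hF) l hl'
  have hσb : frobQ hF b ≠ 0 := (map_ne_zero _).mpr hb0
  -- c = b, c' = (σ b)⁻¹
  have h1 : frobQ hF b * (frobQ hF b)⁻¹ = 1 := mul_inv_cancel₀ hσb
  have h2 : frobQ hF (frobQ hF b)⁻¹ * b = 1 := by
    rw [map_inv₀, frobQ_frobQ, inv_mul_cancel₀ hb0]
  have hcc : b * (frobQ hF b)⁻¹ = l := by
    have e : b * (frobQ hF b)⁻¹ = (l * frobQ hF b) * (frobQ hF b)⁻¹ := by rw [hb]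
    rw [e, mul_assoc, h1, mul_one]
  set T : Matrix (Fin n) (Fin n) F := M1 q (b - 1) x y * M1 q ((frobQ hF b)⁻¹ - 1) y x with hT
  have hTv : ∀ v, T *ᵥ v = v + ((b - 1) * stdB hF n y v) • x +
      (((frobQ hF b)⁻¹ - 1) * stdB hF n x v) • y := by
    intro v
    rw [hT, ← Matrix.mulVec_mulVec, M1_mulVec, M1_mulVec, ← stdB_apply hF, ← stdB_apply hF,
      map_add, map_smul, hyy, smul_zero, add_zero]
    abel
  have hdet : T.det = l := by
    rw [hT, Matrix.det_mul, M1_det, M1_det, ← stdB_apply hF, ← stdB_apply hF, hyx, hxy, ← hcc]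
    ring
  have hl0 : l ≠ 0 := by
    intro h
    rw [h, zero_mul] at hl'
    exact zero_ne_one hl'
  refine ⟨Matrix.GeneralLinearGroup.mkOfDetNeZero T (by rw [hdet]; exact hl0), ?_, ?_, hdet⟩
  · intro u v
    change Cfsg.hermForm n F q (T *ᵥ u) (T *ᵥ v) = _
    rw [← stdB_apply hF, ← stdB_apply hF, hTv, hTv]
    exact torus_isometry (stdB hF n) (stdB_isSymm hF n) x y b (frobQ hF b)⁻¹ hxx hyy hxy hyx
      h1 h2 v u
  · intro v hv
    change T *ᵥ v ∈ W
    rw [hTv]
    have : stdB hF n x v = 0 := hW v hv x hxW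
    rw [this, mul_zero, zero_smul, add_zero]
    exact W.add_mem hv (W.smul_mem _ hxW)


/-! ### comparing the stabilisers in `SU` and `GU` -/

section SUGU

variable (W : Submodule F (Fin n → F))

/-- determinant on the stabiliser -/
noncomputable def stabDet : ↥(PW (q := q) W) →* Fˣ :=
  (Cfsg.Agent.Lead.guDet n F q).comp (PW (q := q) W).subtype

omit [Fintype F] in
theorem stabDet_val (g : ↥(PW (q := q) W)) :
    ((stabDet W g : Fˣ) : F) = Matrix.det (g.1.1 : Matrix (Fin n) (Fin n) F) := rfl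

theorem stabDet_range (hF : Fintype.card F = q ^ 2) (hn : 1 ≤ n)
    (hW : ∀ u ∈ W, ∀ v ∈ W, Cfsg.hermForm n F q u v = 0) (l : Fˣ) :
    l ∈ (stabDet (q := q) W).range ↔ l ^ (q + 1) = 1 := by
  constructor
  · rintro ⟨g, rfl⟩
    exact (Cfsg.Agent.Lead.guDet_range hF hn _).mp ⟨g.1, rfl⟩
  · intro hl
    have hl' : (l : F) ^ (q + 1) = 1 := by
      rw [← Units.val_pow_eq_pow_val, hl]
      rfl
    by_cases hWb : W = ⊥
    · obtain ⟨g, hg⟩ := (Cfsg.Agent.Lead.guDet_range hF hn l).mpr hl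
      have hgP : g ∈ PW (q := q) W := by
        rw [mem_PW_iff]
        intro v hv
        rw [hWb, Submodule.mem_bot] at hv
        rw [hv, Matrix.mulVec_zero]
        exact W.zero_mem
      exact ⟨⟨g, hgP⟩, hg⟩
    · obtain ⟨x, hxW, hx⟩ := Submodule.exists_mem_ne_zero_of_ne_bot hWb
      obtain ⟨A, hA, hAW, hdet⟩ := exists_det hF W hW x hxW hx (l : F) hl'
      refine ⟨⟨⟨A, hA⟩, (mem_PW_iff W _).mpr hAW⟩, ?_⟩
      apply Units.ext
      rw [stabDet_val]
      exact hdet

/-- the stabiliser in `SU` as the kernel of the determinant on the stabiliser in `GU` -/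
def stabToKer (s : ↥((Cfsg.stabilizing (Cfsg.slToMat n F) (W : Set (Fin n → F))).subgroupOf
    (Cfsg.SU n F q))) : (stabDet (q := q) W).ker :=
  ⟨⟨⟨Matrix.SpecialLinearGroup.toGL s.1.1, s.1.2⟩, s.2⟩, by
    rw [MonoidHom.mem_ker]
    apply Units.ext
    rw [stabDet_val]
    exact s.1.1.2⟩

omit [Fintype F] in
theorem stabToKer_bijective : Function.Bijective (stabToKer (q := q) W) := by
  constructor
  · intro s t hst
    apply Subtype.ext
    apply Subtype.ext
    apply Matrix.SpecialLinearGroup.toGL_injective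
    exact congrArg (fun k : (stabDet (q := q) W).ker =>
      (k.1.1.1 : Matrix.GeneralLinearGroup (Fin n) F)) hst
  · intro k
    have hk : Matrix.det (k.1.1.1 : Matrix (Fin n) (Fin n) F) = 1 := by
      have := k.2
      rw [MonoidHom.mem_ker] at this
      rw [← stabDet_val, this]
      rfl
    refine ⟨⟨⟨⟨(k.1.1.1 : Matrix (Fin n) (Fin n) F), hk⟩, ?_⟩, ?_⟩, ?_⟩
    · exact k.1.1.2
    · exact k.1.2
    · apply Subtype.ext
      apply Subtype.ext
      apply Subtype.ext
      apply Units.ext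
      rfl

theorem card_stab_SU_mul (hF : Fintype.card F = q ^ 2) (hn : 1 ≤ n)
    (hW : ∀ u ∈ W, ∀ v ∈ W, Cfsg.hermForm n F q u v = 0) :
    (q + 1) * Nat.card ↥((Cfsg.stabilizing (Cfsg.slToMat n F) (W : Set (Fin n → F))).subgroupOf
      (Cfsg.SU n F q)) = Nat.card ↥(PW (q := q) W) := by
  rw [← Subgroup.card_mul_index (stabDet (q := q) W).ker, Subgroup.index_ker,
    Nat.card_congr (Equiv.ofBijective _ (stabToKer_bijective (q := q) W)), mul_comm]
  congr 1
  rw [← Cfsg.Agent.Lead.card_norm_one_units hF]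
  apply Nat.card_congr
  exact Equiv.subtypeEquivRight (fun l => (stabDet_range W hF hn hW l).symm)

end SUGU


/-! ### arithmetic -/

/-- the factors of the order of `GU` -/
def ff (q i : ℕ) : ℕ := if Even i then q ^ (i + 1) + 1 else q ^ (i + 1) - 1

/-- the number of non-zero isotropic vectors -/
def hc1 (q d : ℕ) : ℕ :=
  if Even d then (q ^ d - 1) * (q ^ (d - 1) + 1) else (q ^ d + 1) * (q ^ (d - 1) - 1)

theorem ff_step (q e : ℕ) : ff q e * ff q (e + 1) = hc1 q (e + 2) := by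
  unfold ff hc1
  have e1 : e + 2 - 1 = e + 1 := by omega
  rw [e1]
  by_cases he : Even e
  · have h1 : ¬ Even (e + 1) := by rw [Nat.even_add_one]; exact not_not.mpr he
    have h2 : Even (e + 2) := by rw [Nat.even_add]; simp [he]
    rw [if_pos he, if_neg h1, if_pos h2]
    ring
  · have h1 : Even (e + 1) := by rw [Nat.even_add_one]; exact he
    have h2 : ¬ Even (e + 2) := by rw [Nat.even_add]; simp [he]
    rw [if_neg he, if_pos h1, if_neg h2]
    ring

theorem GU_form (q m : ℕ) :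
    q ^ (m * (m - 1) / 2) * ∏ i ∈ Finset.range m, ff q i = ∏ i ∈ Finset.range m, (q ^ i * ff q i) := by
  rw [← Finset.sum_range_id, ← Finset.prod_pow_eq_pow_sum, ← Finset.prod_mul_distrib]

theorem frames_identity (q : ℕ) : ∀ k n : ℕ, 2 * k ≤ n →
    (∏ i ∈ Finset.range k, ((q ^ 2) ^ i * (hc1 q (n - 2 * i) + 1) - (q ^ 2) ^ i)) *
      q ^ (k * (2 * n - 3 * k)) * ∏ i ∈ Finset.range (n - 2 * k), (q ^ i * ff q i) =
    ∏ i ∈ Finset.range n, (q ^ i * ff q i) := by
  intro k
  induction k with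
  | zero =>
    intro n _
    simp
  | succ k ih =>
    intro n hn
    obtain ⟨e, rfl⟩ : ∃ e, n = e + 2 * k + 2 := ⟨n - 2 * k - 2, by omega⟩
    have ih' := ih (e + 2 * k + 2) (by omega)
    have e1 : e + 2 * k + 2 - 2 * k = e + 2 := by omega
    have e2 : e + 2 * k + 2 - 2 * (k + 1) = e := by omega
    have e3 : 2 * (e + 2 * k + 2) - 3 * k = 2 * e + k + 4 := by omega
    have e4 : 2 * (e + 2 * k + 2) - 3 * (k + 1) = 2 * e + k + 1 := by omega
    rw [e1, e3, Finset.prod_range_succ, Finset.prod_range_succ] at ih'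
    rw [Finset.prod_range_succ, e1, e2, e4, ← ih']
    have e5 : (q ^ 2) ^ k * (hc1 q (e + 2) + 1) - (q ^ 2) ^ k = (q ^ 2) ^ k * hc1 q (e + 2) := by
      rw [mul_add, mul_one, Nat.add_sub_cancel]
    rw [e5, ← ff_step]
    have e6 : (q ^ 2) ^ k * q ^ ((k + 1) * (2 * e + k + 1)) =
        q ^ (k * (2 * e + k + 4)) * q ^ e * q ^ (e + 1) := by
      rw [← pow_mul, ← pow_add, ← pow_add, ← pow_add]
      congr 1
      ring
    calc (∏ i ∈ Finset.range k, ((q ^ 2) ^ i * (hc1 q (e + 2 * k + 2 - 2 * i) + 1) - (q ^ 2) ^ i)) *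
          ((q ^ 2) ^ k * (ff q e * ff q (e + 1))) * q ^ ((k + 1) * (2 * e + k + 1)) *
          ∏ i ∈ Finset.range e, (q ^ i * ff q i)
        = (∏ i ∈ Finset.range k, ((q ^ 2) ^ i * (hc1 q (e + 2 * k + 2 - 2 * i) + 1) - (q ^ 2) ^ i)) *
          ((q ^ 2) ^ k * q ^ ((k + 1) * (2 * e + k + 1))) * (ff q e * ff q (e + 1)) *
          ∏ i ∈ Finset.range e, (q ^ i * ff q i) := by ring
      _ = _ := by rw [e6]; ring

/-- Maximal parabolics of SU_n(q): if W is a k-dimensional subspace of F^n (n ≥ 1, |F| = q²) on which the Hermitian form vanishes, then (q + 1) times the order of its stabiliser in SU_n(q) equals q^(k(2n−3k)) · |GL_k(q²)| · |GU_(n−2k)(q)|, where |GU_m(q)| = q^(m(m−1)/2) Π_(i=1..m) (q^i − (−1)^i). -/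
theorem result {F : Type*} [Field F] [Fintype F] {q : ℕ} (hF : Fintype.card F = q ^ 2) (n k : ℕ) (hn : 1 ≤ n) (hk : 2 * k ≤ n) (W : Submodule F (Fin n → F)) (hWk : Module.finrank F W = k) (hW : ∀ u ∈ W, ∀ v ∈ W, Cfsg.hermForm n F q u v = 0) : (q + 1) * Nat.card ↥((Cfsg.stabilizing (Cfsg.slToMat n F) (W : Set (Fin n → F))).subgroupOf (Cfsg.SU n F q)) = q ^ (k * (2 * n - 3 * k)) * (∏ i : Fin k, ((q ^ 2) ^ k - (q ^ 2) ^ (i : ℕ))) * (q ^ ((n - 2 * k) * ((n - 2 * k) - 1) / 2) * ∏ i ∈ Finset.range (n - 2 * k), (if Even i then q ^ (i + 1) + 1 else q ^ (i + 1) - 1)) := by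
  classical
  have hq2 := Cfsg.Agent.Helper19.herm_two_le hF
  have h1 := key_count W hF hWk hW
  have h2 := card_stab_SU_mul W hF hn hW
  have h3 := card_HFrame (n := n) hF k
  have h4 := Cfsg.Agent.Lead.card_GU (F := F) hF n
  have h5 := frames_identity q k n hk
  have hc : ∀ d, Cfsg.Agent.Helper19.hermCount F q d 0 = hc1 q d + 1 := fun d =>
    Cfsg.Agent.Helper19.hermCount_at_zero hF d
  simp only [hc] at h3
  rw [h2]
  change _ = q ^ (k * (2 * n - 3 * k)) * (∏ i : Fin k, ((q ^ 2) ^ k - (q ^ 2) ^ (i : ℕ))) *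
    (q ^ ((n - 2 * k) * ((n - 2 * k) - 1) / 2) * ∏ i ∈ Finset.range (n - 2 * k), ff q i)
  rw [GU_form]
  have h4' : Nat.card ↥(Cfsg.GU n F q) = ∏ i ∈ Finset.range n, (q ^ i * ff q i) := by
    rw [h4]
    exact GU_form q n
  rw [h3, h4', hF, ← h5] at h1
  have hpos : 0 < ∏ i ∈ Finset.range k, ((q ^ 2) ^ i * (hc1 q (n - 2 * i) + 1) - (q ^ 2) ^ i) := by
    rcases Nat.eq_zero_or_pos (∏ i ∈ Finset.range k,
      ((q ^ 2) ^ i * (hc1 q (n - 2 * i) + 1) - (q ^ 2) ^ i)) with h0 | h0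
    · exfalso
      rw [h0, zero_mul, zero_mul] at h5
      have : 0 < Nat.card ↥(Cfsg.GU n F q) := Nat.card_pos
      rw [h4', ← h5] at this
      exact lt_irrefl _ this
    · exact h0
  apply Nat.eq_of_mul_eq_mul_right hpos
  rw [h1]
  ring

end Cfsg.Agent.S0782
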