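import Cfsg.Statements.S0793
import Mathlib
import Cfsg.Agent.Lib.Helper13.QuadMat

set_option autoImplicit false
open Cfsg

namespace Cfsg.Agent.S0793

open Matrix Cfsg.Agent.Helper13

/-- Root elements: if Q(u) = Q(v) = 0 and f(u, v) = 0 (f the polar form), then for every c the Siegel matrix T_(u,v)(c) preserves Q, fixes u and v, and T(c) T(d) = T(c + d). -/
theorem result {F : Type*} [Field F] {n : ℕ} (Q : QuadraticForm F (Fin n → F)) (u v : Fin n → F) (hu : Q u = 0) (hv : Q v = 0) (huv : QuadraticMap.polar ⇑Q u v = 0) : (∀ c x, Q ((Cfsg.siegelMatrix ⇑Q u v c).mulVec x) = Q x) ∧ (∀ c, (Cfsg.siegelMatrix ⇑Q u v c).mulVec u = u ∧ (Cfsg.siegelMatrix ⇑Q u v c).mulVec v = v) ∧ ∀ c d, Cfsg.siegelMatrix ⇑Q u v c * Cfsg.siegelMatrix ⇑Q u v d = Cfsg.siegelMatrix ⇑Q u v (c + d) := by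
  have hvu : QuadraticMap.polar ⇑Q v u = 0 := by rw [QuadraticMap.polar_comm]; exact huv
  have huu : QuadraticMap.polar ⇑Q u u = 0 := by rw [QuadraticMap.polar_self, hu, smul_zero]
  have hvv : QuadraticMap.polar ⇑Q v v = 0 := by rw [QuadraticMap.polar_self, hv, smul_zero]
  refine ⟨?_, ?_, ?_⟩
  · intro c x
    rw [siegelMatrix_mulVec]
    set a := c * QuadraticMap.polar ⇑Q u x with ha
    set b := c * QuadraticMap.polar ⇑Q v x with hb
    have e : x + a • v - b • u = x + (a • v + (-b) • u) := by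
      rw [neg_smul]; abel
    rw [e, QuadraticMap.map_add (⇑Q), QuadraticMap.map_add (⇑Q), QuadraticMap.map_smul, QuadraticMap.map_smul,
      hu, hv, QuadraticMap.polar_smul_left, QuadraticMap.polar_smul_right, hvu,
      QuadraticMap.polar_add_right, QuadraticMap.polar_smul_right, QuadraticMap.polar_smul_right,
      QuadraticMap.polar_comm (⇑Q) x v, QuadraticMap.polar_comm (⇑Q) x u]
    simp only [smul_eq_mul, ha, hb]
    ring
  · intro c
    constructor
    · rw [siegelMatrix_mulVec, huu, hvu]; simp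
    · rw [siegelMatrix_mulVec, huv, hvv]; simp
  · intro c d
    unfold Cfsg.siegelMatrix
    set N := vecMulVec v (polarVec (⇑Q) u) - vecMulVec u (polarVec (⇑Q) v) with hN
    have hNN : N * N = 0 := by
      rw [hN, Matrix.sub_mul, Matrix.mul_sub, Matrix.mul_sub, Matrix.vecMulVec_mul_vecMulVec,
        Matrix.vecMulVec_mul_vecMulVec, Matrix.vecMulVec_mul_vecMulVec,
        Matrix.vecMulVec_mul_vecMulVec, polarVec_dotProduct, polarVec_dotProduct,
        polarVec_dotProduct, polarVec_dotProduct, huv, huu, hvv, hvu]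
      simp
    rw [Matrix.add_mul, Matrix.one_mul, Matrix.mul_add, Matrix.mul_one, Matrix.smul_mul,
      Matrix.mul_smul, hNN, smul_zero, smul_zero, add_zero, add_smul, add_assoc]
    congr 1
    rw [add_comm]

end Cfsg.Agent.S0793
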