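import Mathlib
import Cfsg.Statements.S2628
import Cfsg.Agent.Lib.Helper14.ReflGen

set_option autoImplicit false
open Cfsg

namespace Cfsg.Agent.S2628

open Matrix QuadraticMap
open scoped commutatorElement

theorem sq_mem_commutator {G : Type*} [Group G] (S : Set G) (hS : ∀ s ∈ S, s * s = 1)
    (hgen : Subgroup.closure S = ⊤) (x : G) : x * x ∈ commutator G := by
  have key : ∀ y ∈ Subgroup.closure S, (Abelianization.of y) ^ 2 = 1 := by
    intro y hy
    induction hy using Subgroup.closure_induction with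
    | mem s hs => rw [← map_pow, pow_two, hS s hs, map_one]
    | one => simp
    | mul a b _ _ ha hb => rw [map_mul, mul_pow, ha, hb, one_mul]
    | inv a _ ha => rw [map_inv, inv_pow, ha, inv_one]
  have h1 := key x (hgen ▸ Subgroup.mem_top x)
  rw [← map_pow, pow_two] at h1
  rwa [← MonoidHom.mem_ker, Abelianization.ker_of] at h1

section

variable {F : Type*} [Field F] {k : ℕ} (Q : QuadraticForm F (Fin k → F))

/-- the orthogonal sum `Q ⊕ Q` -/
def Q₂ : QuadraticForm F (Fin k ⊕ Fin k → F) :=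
  Q.comp (LinearMap.funLeft F F Sum.inl) + Q.comp (LinearMap.funLeft F F Sum.inr)

theorem Q₂_apply (v : Fin k ⊕ Fin k → F) : Q₂ Q v = Q (v ∘ Sum.inl) + Q (v ∘ Sum.inr) := rfl

theorem coe_Q₂ : ⇑(Q₂ Q) = fun v : Fin k ⊕ Fin k → F => Q (v ∘ Sum.inl) + Q (v ∘ Sum.inr) := rfl

theorem polar_Q₂ (u v : Fin k ⊕ Fin k → F) :
    polar (⇑(Q₂ Q)) u v = polar (⇑Q) (u ∘ Sum.inl) (v ∘ Sum.inl) +
      polar (⇑Q) (u ∘ Sum.inr) (v ∘ Sum.inr) := by
  unfold polar
  simp only [Q₂_apply]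
  have h1 : (u + v) ∘ Sum.inl = u ∘ Sum.inl + v ∘ Sum.inl := rfl
  have h2 : (u + v) ∘ Sum.inr = u ∘ Sum.inr + v ∘ Sum.inr := rfl
  rw [h1, h2]
  ring

theorem Q₂_sep (hQ : (QuadraticMap.polarBilin Q).Nondegenerate) (u : Fin k ⊕ Fin k → F)
    (hu : ∀ y, polar (⇑(Q₂ Q)) u y = 0) : u = 0 := by
  have hl : u ∘ Sum.inl = 0 := by
    apply hQ.1
    intro y
    have := hu (Sum.elim y 0)
    rw [polar_Q₂] at this
    rw [QuadraticMap.polarBilin_apply_apply]
    simpa using this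
  have hr : u ∘ Sum.inr = 0 := by
    apply hQ.1
    intro y
    have := hu (Sum.elim 0 y)
    rw [polar_Q₂] at this
    rw [QuadraticMap.polarBilin_apply_apply]
    simpa using this
  funext i
  rcases i with i | i
  · exact congrFun hl i
  · exact congrFun hr i

theorem Q₂_nondeg (hQ : (QuadraticMap.polarBilin Q).Nondegenerate) :
    (QuadraticMap.polarBilin (Q₂ Q)).Nondegenerate := by
  refine ⟨?_, ?_⟩
  · intro u hu
    apply Q₂_sep Q hQ u
    intro y
    have := hu y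
    rwa [QuadraticMap.polarBilin_apply_apply] at this
  · intro u hu
    apply Q₂_sep Q hQ u
    intro y
    have := hu y
    rw [QuadraticMap.polarBilin_apply_apply] at this
    rw [polar_comm]
    exact this

end

/-- For the orthogonal direct sum Q ⊕ Q of two copies of a quadratic form Q with non-degenerate polar form on F^k (F finite), every isometry g of Q acting diagonally, diag(g, g), lies in Ω(Q ⊕ Q), the commutator subgroup of the orthogonal group of Q ⊕ Q. (Excluded: k = 2 over the field of two elements, where Q ⊕ Q is the hyperbolic 4-space whose orthogonal group's commutator subgroup is smaller than the group usually called Ω.) -/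
theorem result {F : Type*} [Field F] [Fintype F] {k : ℕ} (h : Fintype.card F ≠ 2 ∨ k ≠ 2) (Q : QuadraticForm F (Fin k → F)) (hQ : (QuadraticMap.polarBilin Q).Nondegenerate) (g : ↥(Cfsg.isometryGroup F ⇑Q)) : ∃ x : ↥(Cfsg.isometryGroup F (fun v : Fin k ⊕ Fin k → F => Q (v ∘ Sum.inl) + Q (v ∘ Sum.inr))), x ∈ Cfsg.Omega F (fun v : Fin k ⊕ Fin k → F => Q (v ∘ Sum.inl) + Q (v ∘ Sum.inr)) ∧ ((x : Matrix.GeneralLinearGroup (Fin k ⊕ Fin k) F) : Matrix (Fin k ⊕ Fin k) (Fin k ⊕ Fin k) F) = Matrix.fromBlocks ((g : Matrix.GeneralLinearGroup (Fin k) F) : Matrix (Fin k) (Fin k) F) 0 0 ((g : Matrix.GeneralLinearGroup (Fin k) F) : Matrix (Fin k) (Fin k) F) := by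
  classical
  set f : (Fin k ⊕ Fin k → F) → F := fun v => Q (v ∘ Sum.inl) + Q (v ∘ Sum.inr) with hf
  have hQ₂ := Q₂_nondeg Q hQ
  have hF : (∃ s : F, s ≠ 0 ∧ s ≠ 1) ∨ Fintype.card (Fin k ⊕ Fin k) ≠ 4 := by
    rcases h with h | h
    · exact Or.inl (Cfsg.Agent.Helper14.ReflGen.exists_ne_zero_one h)
    · right
      rw [Fintype.card_sum, Fintype.card_fin]
      omega
  have hgen := Cfsg.Agent.Helper14.ReflGen.isometryGroup_closure_refl (Q₂ Q) hQ₂ hF
  have hsq : ∀ x : ↥(Cfsg.isometryGroup F ⇑(Q₂ Q)), x * x ∈ commutator _ := by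
    intro x
    apply sq_mem_commutator _ _ hgen
    rintro s ⟨v, hv, hsv⟩
    apply Subtype.ext
    apply Units.ext
    change ((s : GL (Fin k ⊕ Fin k) F) : Matrix (Fin k ⊕ Fin k) (Fin k ⊕ Fin k) F) *
      ((s : GL (Fin k ⊕ Fin k) F) : Matrix (Fin k ⊕ Fin k) (Fin k ⊕ Fin k) F) = 1
    rw [hsv]
    exact Cfsg.Agent.Helper14.ReflGen.refl_sq (Q₂ Q) v hv
  -- the elements a = diag(g,1), s = swap
  set A : Matrix (Fin k) (Fin k) F := ((g : GL (Fin k) F) : Matrix (Fin k) (Fin k) F) with hA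
  set A' : Matrix (Fin k) (Fin k) F := (((g : GL (Fin k) F)⁻¹ : GL (Fin k) F) : Matrix (Fin k) (Fin k) F)
    with hA'
  have hAA' : A * A' = 1 := by rw [hA, hA', ← Units.val_mul, mul_inv_cancel, Units.val_one]
  have hA'A : A' * A = 1 := by rw [hA, hA', ← Units.val_mul, inv_mul_cancel, Units.val_one]
  have hgQ : ∀ x, Q (A *ᵥ x) = Q x := fun x => g.2 x x
  let a0 : GL (Fin k ⊕ Fin k) F :=
    ⟨Matrix.fromBlocks A 0 0 1, Matrix.fromBlocks A' 0 0 1,
      by rw [Matrix.fromBlocks_multiply]; simp [hAA'],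
      by rw [Matrix.fromBlocks_multiply]; simp [hA'A]⟩
  let s0 : GL (Fin k ⊕ Fin k) F :=
    ⟨Matrix.fromBlocks 0 1 1 0, Matrix.fromBlocks 0 1 1 0,
      by rw [Matrix.fromBlocks_multiply]; simp,
      by rw [Matrix.fromBlocks_multiply]; simp⟩
  have ha0 : a0 ∈ Cfsg.isometryGroup F ⇑(Q₂ Q) := by
    intro u _
    change Q₂ Q (Matrix.fromBlocks A 0 0 1 *ᵥ u) = Q₂ Q u
    rw [Q₂_apply, Q₂_apply, Matrix.fromBlocks_mulVec]
    simp only [Sum.elim_comp_inl, Sum.elim_comp_inr, Matrix.zero_mulVec, add_zero, zero_add,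
      Matrix.one_mulVec]
    rw [hgQ]
  have hs0 : s0 ∈ Cfsg.isometryGroup F ⇑(Q₂ Q) := by
    intro u _
    change Q₂ Q (Matrix.fromBlocks 0 1 1 0 *ᵥ u) = Q₂ Q u
    rw [Q₂_apply, Q₂_apply, Matrix.fromBlocks_mulVec]
    simp only [Sum.elim_comp_inl, Sum.elim_comp_inr, Matrix.zero_mulVec, add_zero, zero_add,
      Matrix.one_mulVec]
    rw [add_comm]
  set a : ↥(Cfsg.isometryGroup F ⇑(Q₂ Q)) := ⟨a0, ha0⟩ with ha
  set s : ↥(Cfsg.isometryGroup F ⇑(Q₂ Q)) := ⟨s0, hs0⟩ with hs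
  refine ⟨a * a * ⁅a⁻¹, s⁆, ?_, ?_⟩
  · exact Subgroup.mul_mem _ (hsq a)
      (Subgroup.commutator_mem_commutator (Subgroup.mem_top _) (Subgroup.mem_top _))
  · have hx : a * a * ⁅a⁻¹, s⁆ = a * s * a * s := by
      have hss : s⁻¹ = s := by
        rw [inv_eq_iff_mul_eq_one]
        apply Subtype.ext
        apply Units.ext
        change Matrix.fromBlocks (0 : Matrix (Fin k) (Fin k) F) 1 1 0 * Matrix.fromBlocks 0 1 1 0 = 1
        rw [Matrix.fromBlocks_multiply]
        simp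
      rw [commutatorElement_def, inv_inv, hss]
      group
    rw [hx]
    change Matrix.fromBlocks A 0 0 1 * Matrix.fromBlocks 0 1 1 0 * Matrix.fromBlocks A 0 0 1 *
      Matrix.fromBlocks 0 1 1 0 = Matrix.fromBlocks A 0 0 A
    simp only [Matrix.fromBlocks_multiply]
    simp

end Cfsg.Agent.S2628
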