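import Mathlib
import Cfsg.Statements.S0797
import Cfsg.Agent.S0788
import Cfsg.Agent.S2628
import Cfsg.Agent.Lib.Helper14.ReflGen

set_option autoImplicit false
open Cfsg

namespace Cfsg.Agent.S0797

/-- a group of order 4 and exponent 2 has exactly three subgroups of index 2 -/
theorem card_index_two_four {A : Type*} [Group A] (h4 : Nat.card A = 4)
    (hsq : ∀ a : A, a * a = 1) : Nat.card {K : Subgroup A // K.index = 2} = 3 := by
  classical
  have : Finite A := Nat.finite_of_card_ne_zero (by rw [h4]; norm_num)
  have : Fintype A := Fintype.ofFinite A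
  have : Fact (Nat.Prime 2) := ⟨Nat.prime_two⟩
  have hord : ∀ x : A, x ≠ 1 → orderOf x = 2 := by
    intro x hx
    exact orderOf_eq_prime (by rw [pow_two]; exact hsq x) hx
  have hcardz : ∀ x : A, x ≠ 1 → Nat.card (Subgroup.zpowers x) = 2 := by
    intro x hx
    rw [Nat.card_zpowers, hord x hx]
  have hindz : ∀ x : A, x ≠ 1 → (Subgroup.zpowers x).index = 2 := by
    intro x hx
    have := Subgroup.card_mul_index (Subgroup.zpowers x)
    rw [hcardz x hx, h4] at this
    omega
  let f : {x : A // x ≠ 1} → {K : Subgroup A // K.index = 2} :=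
    fun x => ⟨Subgroup.zpowers x.1, hindz x.1 x.2⟩
  have hf : Function.Bijective f := by
    constructor
    · rintro ⟨x, hx⟩ ⟨y, hy⟩ hxy
      have h1 : Subgroup.zpowers x = Subgroup.zpowers y := congrArg Subtype.val hxy
      have h2 : x ∈ Subgroup.zpowers y := by rw [← h1]; exact Subgroup.mem_zpowers x
      obtain ⟨k, hk⟩ := Subgroup.mem_zpowers_iff.mp h2
      apply Subtype.ext
      change x = y
      rw [← zpow_mod_orderOf, hord y hy] at hk
      have h22 : (((2 : ℕ) : ℤ)) = 2 := by norm_num
      rw [h22] at hk
      have hk2 : k % 2 = 0 ∨ k % 2 = 1 := by omega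
      rcases hk2 with h | h
      · rw [h] at hk
        simp at hk
        exact absurd hk.symm hx
      · rw [h] at hk
        simpa using hk.symm
    · rintro ⟨K, hK⟩
      have hcK : Nat.card K = 2 := by
        have := Subgroup.card_mul_index K
        rw [hK, h4] at this
        omega
      have hne : K ≠ ⊥ := by
        intro h
        rw [h, Subgroup.card_bot] at hcK
        omega
      obtain ⟨x, hx1⟩ := (Subgroup.ne_bot_iff_exists_ne_one.mp hne)
      have hx1' : (x : A) ≠ 1 := fun h => hx1 (Subtype.ext h)
      refine ⟨⟨x, hx1'⟩, ?_⟩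
      apply Subtype.ext
      change Subgroup.zpowers (x : A) = K
      apply Subgroup.eq_of_le_of_card_ge
      · rw [Subgroup.zpowers_le]; exact x.2
      · rw [hcK, hcardz _ hx1']
  rw [← Nat.card_congr (Equiv.ofBijective f hf), Nat.card_eq_fintype_card,
    Fintype.card_subtype, Finset.filter_ne' , Finset.card_erase_of_mem (Finset.mem_univ _),
    Finset.card_univ, ← Nat.card_eq_fintype_card, h4]

/-- a group whose commutator subgroup has index 4 and contains all squares has exactly three
subgroups of index 2 -/
theorem card_index_two_of_commutator {G : Type*} [Group G] (h4 : (commutator G).index = 4)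
    (hsq : ∀ x : G, x * x ∈ commutator G) :
    Nat.card {H : Subgroup G // H.index = 2} = 3 := by
  have hsurj : Function.Surjective (Abelianization.of : G →* Abelianization G) :=
    QuotientGroup.mk_surjective
  have hker : (Abelianization.of : G →* Abelianization G).ker = commutator G :=
    Abelianization.ker_of G
  have hA4 : Nat.card (Abelianization G) = 4 := by
    rw [← h4, Subgroup.index_eq_card]
    rfl
  have hAsq : ∀ a : Abelianization G, a * a = 1 := by
    intro a
    obtain ⟨x, rfl⟩ := hsurj a
    rw [← map_mul, ← MonoidHom.mem_ker, hker]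
    exact hsq x
  have hle : ∀ H : Subgroup G, H.index = 2 → (Abelianization.of : G →* Abelianization G).ker ≤ H := by
    intro H hH
    rw [hker, commutator_eq_closure, Subgroup.closure_le]
    rintro _ ⟨x, y, rfl⟩
    rw [SetLike.mem_coe, commutatorElement_def, mul_assoc,
      Subgroup.mul_mem_iff_of_index_two hH, Subgroup.mul_mem_iff_of_index_two hH,
      Subgroup.mul_mem_iff_of_index_two hH, inv_mem_iff, inv_mem_iff]
  rw [← card_index_two_four hA4 hAsq]
  apply Nat.card_congr
  exact {
    toFun := fun H => ⟨H.1.map Abelianization.of, by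
      rw [Subgroup.index_map_eq _ hsurj (hle H.1 H.2)]; exact H.2⟩
    invFun := fun K => ⟨K.1.comap Abelianization.of, by
      rw [Subgroup.index_comap_of_surjective _ hsurj]; exact K.2⟩
    left_inv := fun H => Subtype.ext (Subgroup.comap_map_eq_self (hle H.1 H.2))
    right_inv := fun K => Subtype.ext (Subgroup.map_comap_eq_self_of_surjective hsurj K.1) }

/-- O^ε_2m(q) ≅ Ω.2² for q odd: if F is finite of odd characteristic, n ≥ 2 is even and Q has non-degenerate polar form on F^n, the isometry group of Q has exactly three subgroups of index 2. -/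
theorem result {F : Type*} [Field F] [Fintype F] (h2 : (2 : F) ≠ 0) {n : ℕ} (hn : 2 ≤ n) (heven : Even n) (Q : QuadraticForm F (Fin n → F)) (hQ : (QuadraticMap.polarBilin Q).Nondegenerate) : Nat.card {H : Subgroup ↥(Cfsg.isometryGroup F ⇑Q) // H.index = 2} = 3 := by
  have h4 : (commutator ↥(Cfsg.isometryGroup F ⇑Q)).index = 4 :=
    Cfsg.Agent.S0788.result h2 hn Q hQ
  have hF : (∃ s : F, s ≠ 0 ∧ s ≠ 1) ∨ Fintype.card (Fin n) ≠ 4 := by
    left
    refine ⟨-1, neg_ne_zero.mpr one_ne_zero, ?_⟩
    intro h
    apply h2
    have : (2 : F) = 1 - (-1) := by ring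
    rw [this, h, sub_self]
  have hgen := Cfsg.Agent.Helper14.ReflGen.isometryGroup_closure_refl Q hQ hF
  apply card_index_two_of_commutator h4
  intro x
  apply Cfsg.Agent.S2628.sq_mem_commutator _ _ hgen
  rintro s ⟨v, hv, hsv⟩
  apply Subtype.ext
  apply Units.ext
  change ((s : GL (Fin n) F) : Matrix (Fin n) (Fin n) F) *
    ((s : GL (Fin n) F) : Matrix (Fin n) (Fin n) F) = 1
  rw [hsv]
  exact Cfsg.Agent.Helper14.ReflGen.refl_sq Q v hv

end Cfsg.Agent.S0797
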