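import Cfsg.Statements.S0801
import Cfsg.Agent.Lib.Helper41.DicksonGen
import Cfsg.Agent.Lib.Helper41.DicksonExc
import Cfsg.Agent.Lib.Helper41.DicksonCount

set_option autoImplicit false
open Cfsg

namespace Cfsg.Agent.S0801

open Matrix Cfsg.Agent.Helper41

theorem gen_set_eq {F : Type*} [Field F] (lam : F) :
    {g : Matrix.SpecialLinearGroup (Fin 2) F | (g : Matrix (Fin 2) (Fin 2) F) = !![1, 0; 1, 1] ∨
      (g : Matrix (Fin 2) (Fin 2) F) = !![1, lam; 0, 1]} = {lowerSL (1 : F), upperSL lam} := by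
  ext g
  simp only [Set.mem_setOf_eq, Set.mem_insert_iff, Set.mem_singleton_iff]
  constructor
  · rintro (h | h)
    · left; exact Subtype.ext h
    · right; exact Subtype.ext h
  · rintro (h | h)
    · left; rw [h]; rfl
    · right; rw [h]; rfl

/-- if `λ = ±1` generates `F`, every additive subgroup containing `1` is everything -/
theorem mem_of_prime_field {F : Type*} [Field F] (p : ℕ) [Fact p.Prime] [CharP F p] (lam : F)
    (hl : lam = 1 ∨ lam = -1) (hgen : Subfield.closure ({lam} : Set F) = ⊤)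
    (A : AddSubgroup F) (h1 : (1 : F) ∈ A) (x : F) : x ∈ A := by
  have hle : Subfield.closure ({lam} : Set F) ≤ (ZMod.castHom (dvd_refl p) F).fieldRange := by
    rw [Subfield.closure_le]
    intro y hy
    rw [Set.mem_singleton_iff] at hy
    rw [hy]
    rcases hl with h | h
    · rw [h]; exact one_mem _
    · rw [h]; exact neg_mem (one_mem _)
  have hx : x ∈ (ZMod.castHom (dvd_refl p) F).fieldRange := hle (hgen ▸ Subfield.mem_top x)
  obtain ⟨n, hn⟩ := RingHom.mem_fieldRange.mp hx
  rw [ZMod.castHom_apply, ← ZMod.natCast_val] at hn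
  rw [← hn]
  have : ((n.val : ℕ) : F) = n.val • (1 : F) := by rw [nsmul_eq_mul, mul_one]
  rw [this]
  exact A.nsmul_mem h1 _

theorem closure_eq_top {F : Type*} [Field F] [Fintype F] (h2 : (2 : F) ≠ 0) (lam : F)
    (hlam : lam ≠ 0) (hgen : Subfield.closure ({lam} : Set F) = ⊤)
    (hexc : ¬ ((3 : F) = 0 ∧ lam ^ 2 = -1)) :
    Subgroup.closure ({lowerSL (1 : F), upperSL lam} :
      Set (Matrix.SpecialLinearGroup (Fin 2) F)) = ⊤ := by
  obtain ⟨L, hL⟩ : ∃ L : Subgroup (Matrix.SpecialLinearGroup (Fin 2) F),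
      L = Subgroup.closure ({lowerSL (1 : F), upperSL lam} :
        Set (Matrix.SpecialLinearGroup (Fin 2) F)) := ⟨_, rfl⟩
  rw [← hL]
  have hl1 : lowerSL (1 : F) ∈ L := by rw [hL]; exact Subgroup.subset_closure (by simp)
  have hu1 : upperSL lam ∈ L := by rw [hL]; exact Subgroup.subset_closure (by simp)
  -- the characteristic
  obtain ⟨p, hpc⟩ := CharP.exists F
  haveI := hpc
  haveI : Fact p.Prime := ⟨CharP.char_is_prime F p⟩
  have hp2 : p ≠ 2 := by
    intro h
    apply h2
    have := CharP.cast_eq_zero F p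
    rw [h] at this
    exact_mod_cast this
  have hA : lam ∈ rootSetU L := (mem_rootSetU L lam).mpr hu1
  have hB : (1 : F) ∈ rootSetL L := (mem_rootSetL L 1).mpr hl1
  suffices h : ∀ x : F, x ∈ rootSetU L ∧ x ∈ rootSetL L from
    eq_top_of_rootSets L (fun α => (mem_rootSetU L α).mp (h α).1)
      (fun β => (mem_rootSetL L β).mp (h β).2)
  -- at least two Sylow `p`-subgroups
  have hN : 1 < Nat.card (Sylow p L) := by
    obtain ⟨P, hP⟩ := exists_sylow_eq_rootSub L p 1 lam hlam (by simpa using hu1)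
    obtain ⟨Q, hQ⟩ := exists_sylow_eq_rootSub L p (gAlpha 0) (-1)
      (neg_ne_zero.mpr one_ne_zero) (gAlpha_conj_mem L 0 1 (rootSetU L).zero_mem hB)
    have hne : P ≠ Q := by
      intro hPQ
      have hmem : (⟨upperSL lam, hu1⟩ : L) ∈ rootSub L 1 := by
        rw [mem_rootSub, mem_rootConj_one]; exact upperSL_mem _
      rw [← hP, hPQ, hQ, mem_rootSub, mem_rootConj_gAlpha] at hmem
      obtain ⟨η, hη⟩ := hmem
      rw [upperSL_zero, one_mul, inv_one, mul_one] at hη
      have := congrArg (fun g : Matrix.SpecialLinearGroup (Fin 2) F =>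
        (g : Matrix (Fin 2) (Fin 2) F) 0 1) hη
      simp [upperSL, lowerSL] at this
      exact hlam this
    exact Finite.one_lt_card_iff_nontrivial.mpr ⟨⟨P, Q, hne⟩⟩
  obtain ⟨U⟩ : Nonempty (Sylow p L) := inferInstance
  rcases sl2_sub_card_sylow p hp2 L U hN with hcount | ⟨hp3, hexcy⟩
  · obtain ⟨K, a, ha, hKU, hKL⟩ :=
      rootSets_eq_of_card_sylow p L lam 1 hA hlam hB one_ne_zero U hcount
    obtain ⟨k, hk, h1k⟩ := (hKL 1).mp hB
    have haK : a ∈ K := by
      have : a = k := by
        have := congrArg (fun z => a * z) h1k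
        simp only [mul_one] at this
        rw [this, ← mul_assoc, mul_inv_cancel₀ ha, one_mul]
      rw [this]; exact hk
    obtain ⟨k', hk', hlk⟩ := (hKU lam).mp hA
    have hlamK : lam ∈ K := by rw [hlk]; exact K.mul_mem haK hk'
    have hKtop : K = ⊤ := by
      rw [eq_top_iff, ← hgen, Subfield.closure_le]
      intro x hx
      rw [Set.mem_singleton_iff] at hx
      rw [hx]; exact hlamK
    intro x
    constructor
    · rw [hKU]
      exact ⟨a⁻¹ * x, by rw [hKtop]; exact Subfield.mem_top _, by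
        rw [← mul_assoc, mul_inv_cancel₀ ha, one_mul]⟩
    · rw [hKL]
      exact ⟨a * x, by rw [hKtop]; exact Subfield.mem_top _, by
        rw [← mul_assoc, inv_mul_cancel₀ ha, one_mul]⟩
  · -- the exceptional case
    have h3 : (3 : F) = 0 := by
      have := CharP.cast_eq_zero F p
      rw [hp3] at this
      exact_mod_cast this
    have hu2 : upperSL (-lam) ∈ L := by rw [← upperSL_inv]; exact L.inv_mem hu1
    have t1 := trace_poly_of_pow_central h3 (lowerSL 1 * upperSL lam) (by
      have := hexcy ⟨_, L.mul_mem hl1 hu1⟩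
      simpa using this)
    have t2 := trace_poly_of_pow_central h3 (lowerSL 1 * upperSL (-lam)) (by
      have := hexcy ⟨_, L.mul_mem hl1 hu2⟩
      simpa using this)
    have tr1 : ((lowerSL (1 : F) * upperSL lam : Matrix.SpecialLinearGroup (Fin 2) F) :
        Matrix (Fin 2) (Fin 2) F).trace = 2 + lam := by
      rw [Matrix.SpecialLinearGroup.coe_mul, Matrix.trace_fin_two]
      simp [lowerSL, upperSL, Matrix.mul_apply, Fin.sum_univ_two]
      ring
    have tr2 : ((lowerSL (1 : F) * upperSL (-lam) : Matrix.SpecialLinearGroup (Fin 2) F) :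
        Matrix (Fin 2) (Fin 2) F).trace = 2 - lam := by
      rw [Matrix.SpecialLinearGroup.coe_mul, Matrix.trace_fin_two]
      simp [lowerSL, upperSL, Matrix.mul_apply, Fin.sum_univ_two]
      ring
    rw [tr1] at t1
    rw [tr2] at t2
    have h1U : (1 : F) ∈ rootSetU L → ∀ x : F, x ∈ rootSetU L ∧ x ∈ rootSetL L := by
      intro h1 x
      exact ⟨mem_of_prime_field p lam (by
          rcases lam_pow_five_of_traces h3 lam t1 t2 with h | h | h | h
          · exact absurd h hlam
          · exact Or.inl h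
          · exact Or.inr h
          · exact absurd ⟨h3, h⟩ hexc) hgen _ h1 x,
        mem_of_prime_field p lam (by
          rcases lam_pow_five_of_traces h3 lam t1 t2 with h | h | h | h
          · exact absurd h hlam
          · exact Or.inl h
          · exact Or.inr h
          · exact absurd ⟨h3, h⟩ hexc) hgen _ hB x⟩
    rcases lam_pow_five_of_traces h3 lam t1 t2 with h | h | h | h
    · exact absurd h hlam
    · exact h1U (h ▸ hA)
    · apply h1U
      have : (1 : F) = -lam := by rw [h, neg_neg]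
      rw [this]; exact (rootSetU L).neg_mem hA
    · exact absurd ⟨h3, h⟩ hexc

/-- Let F be a finite field of odd characteristic and λ ≠ 0 an element generating F as a field. Then the lower and upper unitriangular matrices with off-diagonal entries 1 and λ generate SL_2(F), unless |F| = 9 and λ² = −1, in which case they generate a subgroup of order 120. -/
theorem result {F : Type*} [Field F] [Fintype F] (h2 : (2 : F) ≠ 0) (lam : F) (hlam : lam ≠ 0) (hgen : Subfield.closure ({lam} : Set F) = ⊤) : (Subgroup.closure {g : Matrix.SpecialLinearGroup (Fin 2) F | (g : Matrix (Fin 2) (Fin 2) F) = !![1, 0; 1, 1] ∨ (g : Matrix (Fin 2) (Fin 2) F) = !![1, lam; 0, 1]} = ⊤ ∧ ¬ (Fintype.card F = 9 ∧ lam ^ 2 = -1)) ∨ (Fintype.card F = 9 ∧ lam ^ 2 = -1 ∧ Nat.card ↥(Subgroup.closure {g : Matrix.SpecialLinearGroup (Fin 2) F | (g : Matrix (Fin 2) (Fin 2) F) = !![1, 0; 1, 1] ∨ (g : Matrix (Fin 2) (Fin 2) F) = !![1, lam; 0, 1]}) = 120) := by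
  rw [gen_set_eq]
  by_cases hexc : (3 : F) = 0 ∧ lam ^ 2 = -1
  · right
    exact ⟨card_eq_nine hexc.1 lam hexc.2 hgen, hexc.2, card_closure_exc hexc.1 lam hexc.2⟩
  · left
    refine ⟨closure_eq_top h2 lam hlam hgen hexc, ?_⟩
    rintro ⟨h9, hl⟩
    apply hexc
    refine ⟨?_, hl⟩
    have := Nat.cast_card_eq_zero F
    rw [h9] at this
    have h33 : (3 : F) * 3 = 0 := by
      have e : ((9 : ℕ) : F) = 3 * 3 := by norm_num
      rw [← e]; exact this
    rcases mul_eq_zero.mp h33 with h | h <;> exact h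

end Cfsg.Agent.S0801
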