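import Cfsg.Statements.S0806
import Cfsg.Agent.S0799
import Cfsg.Agent.Lib.Helper41.DicksonUse3

set_option autoImplicit false
open Cfsg

namespace Cfsg.Agent.S0806

open Cfsg.Agent.Helper41

theorem result {F : Type*} [Field F] [Fintype F] {q : ℕ} (hF : Fintype.card F = q) (hq : q ∉ ({2, 3, 5, 7, 9, 11} : Finset ℕ)) : (∀ H : Subgroup (Matrix.ProjectiveSpecialLinearGroup (Fin 2) F), H ≠ ⊤ → q + 1 ≤ H.index) ∧ ∃ H : Subgroup (Matrix.ProjectiveSpecialLinearGroup (Fin 2) F), H.index = q + 1 := by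
  obtain ⟨p, hpc⟩ := CharP.exists F
  haveI := hpc
  haveI : Fact p.Prime := ⟨CharP.char_is_prime F p⟩
  refine ⟨fun H hH => index_ge_of_dickson hF p hq H hH (Cfsg.Agent.S0799.result hF p H), borelP F, ?_⟩
  rw [index_borelP, hF]

end Cfsg.Agent.S0806
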