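import Cfsg.Statements.S0810
import Cfsg.Agent.S0799
import Cfsg.Agent.Lib.Helper41.DicksonUse5

set_option autoImplicit false
open Cfsg

namespace Cfsg.Agent.S0810

open Cfsg.Agent.Helper41

/-- PSL_2(q) is minimal simple iff q is 2^r (r prime), 3^r (r an odd prime), a prime greater than 5 congruent to 2 or 3 mod 5, or 5. -/
theorem result {F : Type*} [Field F] [Fintype F] {q : ℕ} (hF : Fintype.card F = q) : Cfsg.IsMinimalSimple (Matrix.ProjectiveSpecialLinearGroup (Fin 2) F) ↔ ((∃ r : ℕ, r.Prime ∧ q = 2 ^ r) ∨ (∃ r : ℕ, r.Prime ∧ r ≠ 2 ∧ q = 3 ^ r) ∨ (q.Prime ∧ 5 < q ∧ (q % 5 = 2 ∨ q % 5 = 3)) ∨ q = 5) := by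
  obtain ⟨p, hpc⟩ := CharP.exists F
  haveI := hpc
  haveI : Fact p.Prime := ⟨CharP.char_is_prime F p⟩
  constructor
  · rintro ⟨hs, hnc, hsol⟩
    exact list_of_minimalSimple hF hs hnc hsol
  · intro hL
    have hL' : MinSimpleList q := hL
    have hq4 := four_le_of_list hL'
    refine ⟨?_, ?_, ?_⟩
    · exact Matrix.ProjectiveSpecialLinearGroup.rank_two_simple
        (by rw [Nat.card_eq_fintype_card, hF]; exact hq4)
    · intro hc
      apply not_commute_lG_uG (F := F)
      exact hc.is_comm.comm _ _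
    · intro H hH
      exact isSolvable_of_dickson_of_list hF p hL' H hH (Cfsg.Agent.S0799.result hF p H)

end Cfsg.Agent.S0810
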