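import Cfsg.Statements.S2690
import Mathlib
import Cfsg.Agent.Lib.Helper13.AutPSLField
import Cfsg.Agent.Lib.Helper41.PSL2Out
-- import your own Cfsg.Agent.* helpers here

set_option autoImplicit false
open Cfsg

namespace Cfsg.Agent.S2690

open Matrix Cfsg.Agent.Helper13.PSLAut Cfsg.Agent.Helper13.GraphAutPSL
  Cfsg.Agent.Helper13.AutPSLField

/-- inner automorphisms are induced by matrices -/
theorem conj_eq_PhiL {n : ℕ} {F : Type*} [Field F] (X : Matrix.SpecialLinearGroup (Fin n) F) :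
    MulAut.conj (QuotientGroup.mk X : Matrix.ProjectiveSpecialLinearGroup (Fin n) F) =
      PhiL (Matrix.SpecialLinearGroup.toGL X) := by
  apply MulEquiv.ext
  intro x
  induction x using QuotientGroup.induction_on with
  | H s =>
    rw [MulAut.conj_apply, PhiL_mk, ← QuotientGroup.mk_inv, ← QuotientGroup.mk_mul,
      ← QuotientGroup.mk_mul]
    congr 1

/-- the diagonal automorphism of `PSL₂` is induced by `diag(t, 1)` -/
theorem diag_eq_PhiL {F : Type*} [Field F] (t : Fˣ) :
    Cfsg.Agent.Helper41.centerQuotAut (Cfsg.Agent.Helper41.diagAut t) =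
      PhiL (dg (![t, 1] : Fin 2 → Fˣ)) := by
  apply MulEquiv.ext
  intro x
  induction x using QuotientGroup.induction_on with
  | H s =>
    rw [Cfsg.Agent.Helper41.centerQuotAut_mk, PhiL_mk, Cfsg.Agent.Helper41.diagAut_apply]
    congr 1
    apply Subtype.ext
    rw [conjSL_coe, Cfsg.Agent.Helper41.diagFun_apply, dg_coe, dg_inv_coe]
    ext i j
    rw [Matrix.mul_diagonal, Matrix.diagonal_mul]
    fin_cases i <;> fin_cases j <;> simp [mul_comm]

theorem field_isStd {F : Type*} [Field F] (σ : F ≃+* F) :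
    Cfsg.IsStdFieldAutPSL σ
      (Cfsg.Agent.Helper41.centerQuotAut (Cfsg.Agent.Helper41.fieldAut σ) :
        MulAut (Matrix.ProjectiveSpecialLinearGroup (Fin 2) F)) := by
  intro s s' hs'
  rw [Cfsg.Agent.Helper41.centerQuotAut_mk]
  congr 1
  apply Subtype.ext
  rw [hs']
  ext i j
  rw [Cfsg.Agent.Helper41.fieldAut_apply_apply]
  rfl

/-- Every automorphism of a simple projective special linear group PSL_n(F) over a finite field (n ≥ 2; |F| ≥ 4 when n = 2) is a product δ φ γ of an inner-diagonal automorphism δ (induced by an invertible matrix), a standard field automorphism φ (one automorphism of F applied to every entry, possibly the identity) and γ either the identity or the inverse-transpose automorphism. -/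
theorem result {F : Type*} [Field F] [Fintype F] {p f : ℕ} [Fact p.Prime] (hF : Fintype.card F = p ^ f) (hf : 1 ≤ f) {n : ℕ} (hn : 2 ≤ n) (hs : n = 2 → 4 ≤ Fintype.card F) (β : MulAut (Matrix.ProjectiveSpecialLinearGroup (Fin n) F)) :
    ∃ (δ φ γ : MulAut (Matrix.ProjectiveSpecialLinearGroup (Fin n) F)) (σ : F ≃+* F), Cfsg.IsInnerDiagonalAutPSL δ ∧ Cfsg.IsStdFieldAutPSL σ φ ∧ (γ = 1 ∨ Cfsg.IsInverseTransposeAutPSL γ) ∧ β = δ * φ * γ := by
  by_cases h2 : n = 2
  · subst h2
    have : CharP F p := charP_of_card_eq_prime_pow hF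
    obtain ⟨x, t, σ, hβ⟩ := Cfsg.Agent.Helper41.aut_structure p β
    obtain ⟨X, rfl⟩ := QuotientGroup.mk_surjective x
    refine ⟨PhiL (Matrix.SpecialLinearGroup.toGL X * dg (![t, 1] : Fin 2 → Fˣ)),
      Cfsg.Agent.Helper41.centerQuotAut (Cfsg.Agent.Helper41.fieldAut σ), 1, σ,
      (innerDiagonal_iff _).2 ⟨_, rfl⟩, field_isStd σ, Or.inl rfl, ?_⟩
    rw [hβ, map_mul, mul_one, ← conj_eq_PhiL, ← diag_eq_PhiL]
  · have hn3 : 3 ≤ n := by omega
    obtain ⟨g, σ, h | h⟩ := aut_psl_ge_three hF hf hn3 β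
    · exact ⟨PhiL g, phiAut σ, 1, σ, (innerDiagonal_iff _).2 ⟨g, rfl⟩, phiAut_isStd σ, Or.inl rfl,
        by rw [mul_one]; exact h⟩
    · exact ⟨PhiL g, phiAut σ, iotaAut, σ, (innerDiagonal_iff _).2 ⟨g, rfl⟩, phiAut_isStd σ,
        Or.inr iotaAut_isInvT, h⟩

end Cfsg.Agent.S2690
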