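import Cfsg.Statements.S0813
import Mathlib
import Cfsg.Agent.S2690
import Cfsg.Agent.Lib.Helper40.OutPSLMain
import Cfsg.Agent.Lib.Helper41.PSL2OutMain
-- import your own Cfsg.Agent.* helpers here

set_option autoImplicit false
open Cfsg

namespace Cfsg.Agent.S0813

open Matrix Cfsg.Agent.Helper13.PSLAut Cfsg.Agent.Helper13.GraphAutPSL
  Cfsg.Agent.Helper13.AutPSLField Cfsg.Agent.Helper40.OutPSL

theorem ker_PhiL {n : ℕ} {F : Type*} [Field F] (hn : 0 < n) :
    (PhiL (F := F) (n := n)).ker = Subgroup.center (GL (Fin n) F) := by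
  ext g
  rw [MonoidHom.mem_ker, PhiL_eq_one_iff hn, Matrix.GeneralLinearGroup.center_eq_range_scalar]
  rfl

theorem card_range_PhiL {n : ℕ} {F : Type*} [Field F] (hn : 0 < n) :
    Nat.card (PhiL (F := F) (n := n)).range = Nat.card (Matrix.ProjGenLinGroup (Fin n) F) := by
  have e1 := QuotientGroup.quotientKerEquivRange (PhiL (F := F) (n := n))
  have e2 := QuotientGroup.quotientMulEquivOfEq (ker_PhiL (F := F) hn)
  rw [← Nat.card_congr e1.toEquiv, Nat.card_congr e2.toEquiv]
  rfl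

theorem card_of_surj {G H : Type*} [Group G] [Group H] (θ : G →* H)
    (hθ : Function.Surjective θ) : Nat.card G = Nat.card H * Nat.card θ.ker := by
  rw [Subgroup.card_eq_card_quotient_mul_card_subgroup θ.ker,
    Nat.card_congr (QuotientGroup.quotientKerEquivOfSurjective θ hθ).toEquiv]

theorem struct_of {n : ℕ} {F : Type*} [Field F] [Fintype F] {p f : ℕ} [Fact p.Prime]
    (hF : Fintype.card F = p ^ f) (hf : 1 ≤ f) (hn : 3 ≤ n) : Struct n F := by
  intro β
  obtain ⟨g, σ, h | h⟩ := aut_psl_ge_three hF hf hn β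
  · exact ⟨g, σ, Or.inl (by rw [h, eq_fieldAutPSL (phiAut_isStd σ)])⟩
  · exact ⟨g, σ, Or.inr (by rw [h, eq_fieldAutPSL (phiAut_isStd σ)])⟩

/-- |Aut(PSL_n(q))|, q = p^f: for n ≥ 3 it is 2 f |PGL_n(q)|, and for n = 2 (q ≥ 4) it is f |PGL_2(q)|. -/
theorem result {F : Type*} [Field F] [Fintype F] (p f : ℕ) [Fact p.Prime] (hf : 1 ≤ f) (hF : Fintype.card F = p ^ f) (n : ℕ) (hn : 2 ≤ n) (h2 : n = 2 → 4 ≤ p ^ f) : Nat.card (MulAut (Matrix.ProjectiveSpecialLinearGroup (Fin n) F)) = (if n = 2 then 1 else 2) * f * Nat.card (Matrix.ProjGenLinGroup (Fin n) F) := by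
  have hcp : CharP F p := charP_of_card_eq_prime_pow hF
  have hcardF : Nat.card (F ≃+* F) = f := (Cfsg.Agent.Helper41.ringAut_cyclic_card p f hF).2
  by_cases hn2 : n = 2
  · subst hn2
    rw [if_pos rfl, one_mul]
    have hsurj : Function.Surjective (Cfsg.Agent.Helper41.autFieldHom (F := F) p) := by
      intro σ
      exact ⟨Cfsg.Agent.Helper41.centerQuotAut (Cfsg.Agent.Helper41.fieldAut σ),
        Cfsg.Agent.Helper41.autField_field p σ⟩
    have hval : ∀ (x : Matrix.ProjectiveSpecialLinearGroup (Fin 2) F) (t : Fˣ) (σ : F ≃+* F),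
        Cfsg.Agent.Helper41.autFieldHom p (MulAut.conj x *
          Cfsg.Agent.Helper41.centerQuotAut (Cfsg.Agent.Helper41.diagAut t) *
          Cfsg.Agent.Helper41.centerQuotAut (Cfsg.Agent.Helper41.fieldAut σ)) = σ := by
      intro x t σ
      rw [map_mul, map_mul, Cfsg.Agent.Helper41.autFieldHom_apply,
        Cfsg.Agent.Helper41.autFieldHom_apply, Cfsg.Agent.Helper41.autFieldHom_apply,
        Cfsg.Agent.Helper41.autField_conj, Cfsg.Agent.Helper41.autField_diag,
        Cfsg.Agent.Helper41.autField_field, one_mul, one_mul]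
    have hker : (Cfsg.Agent.Helper41.autFieldHom (F := F) p).ker =
        (PhiL (F := F) (n := 2)).range := by
      ext α
      rw [MonoidHom.mem_ker]
      obtain ⟨x, t, σ, hα⟩ := Cfsg.Agent.Helper41.aut_structure p α
      obtain ⟨X, rfl⟩ := QuotientGroup.mk_surjective x
      have hfs : Cfsg.Agent.Helper41.centerQuotAut (Cfsg.Agent.Helper41.fieldAut σ) =
          fieldAutPSL σ := eq_fieldAutPSL (Cfsg.Agent.S2690.field_isStd σ)
      constructor
      · intro h1
        rw [hα, hval] at h1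
        refine ⟨Matrix.SpecialLinearGroup.toGL X * dg (![t, 1] : Fin 2 → Fˣ), ?_⟩
        rw [hα, map_mul, ← Cfsg.Agent.S2690.conj_eq_PhiL, ← Cfsg.Agent.S2690.diag_eq_PhiL, hfs, h1]
        have h3 : fieldAutPSL (1 : F ≃+* F) =
            (1 : MulAut (Matrix.ProjectiveSpecialLinearGroup (Fin 2) F)) :=
          map_one (fieldAutHom (F := F) (n := 2))
        rw [h3, mul_one]
      · rintro ⟨g, hg⟩
        rw [hα, hval]
        have h4 : fieldAutPSL σ = PhiL ((Matrix.SpecialLinearGroup.toGL X *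
            dg (![t, 1] : Fin 2 → Fˣ))⁻¹ * g) := by
          rw [map_mul, map_inv, map_mul, ← Cfsg.Agent.S2690.conj_eq_PhiL,
            ← Cfsg.Agent.S2690.diag_eq_PhiL, hg, hα, hfs]
          group
        exact fieldAut_eq_PhiL (by omega) h4
    rw [card_of_surj _ hsurj, hker, card_range_PhiL (by omega)]
    show Nat.card (F ≃+* F) * _ = _
    rw [hcardF]
  · have hn3 : 3 ≤ n := by omega
    rw [if_neg hn2]
    obtain ⟨θ, hθs, hθk⟩ := exists_theta hn3 (struct_of hF hf hn3)
    rw [card_of_surj θ hθs, hθk, card_range_PhiL (by omega), Nat.card_prod, hcardF,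
      Nat.card_zpowers, orderOf_iota hn3]
    ring

end Cfsg.Agent.S0813
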