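import Cfsg.Statements.S0816
import Cfsg.Agent.S2694
import Cfsg.Agent.Lib.Helper43.OGam5
import Cfsg.Agent.Lib.Helper14.AutCount

set_option autoImplicit false
open Cfsg

namespace Cfsg.Agent.S0816

open QuadraticMap Cfsg.Agent.Helper13 Cfsg.Agent.Helper43 Cfsg.Agent.Helper5.OrthAut
  Cfsg.Agent.Helper14.AutCount

theorem center_eq_bot {F : Type*} [Field F] [Fintype F] (hodd : Odd (Fintype.card F)) (m : ℕ)
    (hm : 3 ≤ m) : Subgroup.center (Cfsg.POmega F (Cfsg.quadFormOdd m F)) = ⊥ := by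
  classical
  have key : ∀ (Q' : (Unit ⊕ (Fin m ⊕ Fin m) → F) → F), Q' = Cfsg.quadFormOdd m F →
      Subgroup.center (Cfsg.POmega F Q') = ⊥ →
      Subgroup.center (Cfsg.POmega F (Cfsg.quadFormOdd m F)) = ⊥ := by
    intro Q' hQ' h
    subst hQ'
    exact h
  apply key _ (coe_stdOdd F m)
  have h2 : (2 : F) ≠ 0 := Cfsg.Agent.Helper5.OrthAut.two_ne_zero_of_odd_card hodd
  have hfam := stdOdd_isHypFamily F m
  have hnd := stdOdd_nondegenerate F m h2
  have hcard : Fintype.card (Unit ⊕ (Fin m ⊕ Fin m)) = 2 * m + 1 := by simp; ring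
  have hperf := hperf_of_hyp (stdOdd F m) hnd _ _ hfam (by omega) (by rw [hcard]; omega)
  have hsimple := pomega_simple (stdOdd F m) hnd _ _ hfam (by omega) (by rw [hcard]; omega)
  exact center_eq_bot_of_simple_perfect hsimple (commutator_quotient_eq_top _ hperf)

/-- |Aut(PΩ_(2m+1)(q))| = 2 f · |PΩ_(2m+1)(q)| for q = p^f odd and m ≥ 3 (for the form quadFormOdd). -/
theorem result {F : Type*} [Field F] [Fintype F] (p f : ℕ) [Fact p.Prime] (hf : 1 ≤ f) (hF : Fintype.card F = p ^ f) (hodd : Odd p) (m : ℕ) (hm : 3 ≤ m) : Nat.card (MulAut (Cfsg.POmega F (Cfsg.quadFormOdd m F))) = 2 * f * Nat.card (Cfsg.POmega F (Cfsg.quadFormOdd m F)) := by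
  have hoddq : Odd (Fintype.card F) := by
    rw [hF]
    exact hodd.pow
  obtain ⟨φ⟩ := Cfsg.Agent.Helper43.OGam.out_odd hoddq hm (Cfsg.Agent.S2694.result hoddq hm) hf hF
  rw [card_mulAut (center_eq_bot hoddq m hm), Nat.card_congr φ.toEquiv, card_mul_zmod]

end Cfsg.Agent.S0816
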