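import Cfsg.Statements.S0818
import Cfsg.Agent.S2696
import Cfsg.Agent.S2605
import Cfsg.Agent.Lib.Helper5.OrthAut7
import Cfsg.Agent.Lib.Helper41.RingAutFin
import Cfsg.Agent.Lib.Helper14.AutCount
import Cfsg.Agent.Lib.Helper14.OrthAutCount
import Cfsg.Agent.Lib.Helper14.MinusSemi

set_option autoImplicit false
open Cfsg

namespace Cfsg.Agent.S0818

open QuadraticMap Cfsg.Agent.Helper13 Cfsg.Agent.Helper43 Cfsg.Agent.Helper5.OrthAut
  Cfsg.Agent.Helper14.AutCount

section aux

variable {F : Type*} [Field F] [Fintype F]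

theorem center_eq_bot (m : ℕ) (hm : 3 ≤ m) (a b : F) (hab : AnisoPair a b) :
    Subgroup.center (Cfsg.POmega F (Cfsg.quadFormMinus m F a b)) = ⊥ := by
  classical
  have key : ∀ (Q' : ((Fin m ⊕ Fin m) ⊕ Fin 2 → F) → F), Q' = Cfsg.quadFormMinus m F a b →
      Subgroup.center (Cfsg.POmega F Q') = ⊥ →
      Subgroup.center (Cfsg.POmega F (Cfsg.quadFormMinus m F a b)) = ⊥ := by
    intro Q' hQ' h
    subst hQ'
    exact h
  apply key _ (coe_stdMinus F m a b)
  have hfam := stdMinus_isHypFamily F m a b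
  have hnd := stdMinus_nondegenerate (F := F) m hab
  have hcard : Fintype.card ((Fin m ⊕ Fin m) ⊕ Fin 2) = 2 * (m + 1) := by simp; ring
  have hperf := hperf_of_hyp (stdMinus F m a b) hnd _ _ hfam (by omega) (by rw [hcard]; omega)
  have hsimple := pomega_simple (stdMinus F m a b) hnd _ _ hfam (by omega) (by rw [hcard]; omega)
  exact center_eq_bot_of_simple_perfect hsimple (commutator_quotient_eq_top _ hperf)

/-- `|Aut| = |Aut F| · |PGO-image|` for the minus-type form, given `Aut = PΓO` -/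
theorem card_mulAut_minus (m : ℕ) (hm : 3 ≤ m) (a b : F) (hab : AnisoPair a b)
    (hgam : Cfsg.gammaPOmega F (Cfsg.quadFormMinus m F a b) = ⊤) :
    Nat.card (MulAut (Cfsg.POmega F (Cfsg.quadFormMinus m F a b))) =
      Nat.card (RingAut F) * Nat.card (Cfsg.pgoAut F (Cfsg.quadFormMinus m F a b)) := by
  classical
  have key : ∀ (Q' : ((Fin m ⊕ Fin m) ⊕ Fin 2 → F) → F), Q' = Cfsg.quadFormMinus m F a b →
      Nat.card (MulAut (Cfsg.POmega F Q')) = Nat.card (RingAut F) * Nat.card (Cfsg.pgoAut F Q') →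
      Nat.card (MulAut (Cfsg.POmega F (Cfsg.quadFormMinus m F a b))) =
        Nat.card (RingAut F) * Nat.card (Cfsg.pgoAut F (Cfsg.quadFormMinus m F a b)) := by
    intro Q' hQ' h
    subst hQ'
    exact h
  apply key _ (coe_stdMinus F m a b)
  have hfam := stdMinus_isHypFamily F m a b
  have hnd := stdMinus_nondegenerate (F := F) m hab
  have hcard : Fintype.card ((Fin m ⊕ Fin m) ⊕ Fin 2) = 2 * (m + 1) := by simp; ring
  apply Cfsg.Agent.Helper14.OrthAutCount.card_mulAut (stdMinus F m a b) hnd _ _ hfam (by omega)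
    (by rw [hcard]; omega)
  · rw [coe_stdMinus]
    exact hgam
  · intro σ
    rw [coe_stdMinus]
    exact Cfsg.Agent.Helper14.MinusSemi.exists_semisim_minus m a b hab σ

theorem card_of_surjective_ker {G D : Type*} [Group G] [Group D] (H K : Subgroup G) (hKH : K ≤ H)
    (φ : ↥H →* D) (hφ : Function.Surjective φ) (hker : φ.ker = K.subgroupOf H) :
    Nat.card H = Nat.card D * Nat.card K := by
  rw [Subgroup.card_eq_card_quotient_mul_card_subgroup φ.ker,
    Nat.card_congr (QuotientGroup.quotientKerEquivOfSurjective φ hφ).toEquiv, hker,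
    Nat.card_congr (Subgroup.subgroupOfEquivOfLe hKH).toEquiv]

theorem inn_le_pgoAut_minus (m : ℕ) (a b : F) :
    Cfsg.Inn (Cfsg.POmega F (Cfsg.quadFormMinus m F a b)) ≤
      Cfsg.pgoAut F (Cfsg.quadFormMinus m F a b) := by
  classical
  have key : ∀ (Q' : ((Fin m ⊕ Fin m) ⊕ Fin 2 → F) → F), Q' = Cfsg.quadFormMinus m F a b →
      Cfsg.Inn (Cfsg.POmega F Q') ≤ Cfsg.pgoAut F Q' →
      Cfsg.Inn (Cfsg.POmega F (Cfsg.quadFormMinus m F a b)) ≤
        Cfsg.pgoAut F (Cfsg.quadFormMinus m F a b) := by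
    intro Q' hQ' h
    subst hQ'
    exact h
  apply key _ (coe_stdMinus F m a b)
  exact (inn_le_psoAut (stdMinus F m a b)).trans (psoAut_le_pgoAut (stdMinus F m a b))

end aux

/-- |Aut(PΩ⁻_2m(q))| for q = p^f, m ≥ 4 (form quadFormMinus (m−1) with anisotropic binary part): |PΩ⁻_2m(q)| times f, times 2 if p = 2, and times 4 or 8 if p is odd according as m(q−1)/2 is even or odd. -/
theorem result {F : Type*} [Field F] [Fintype F] (p f : ℕ) [Fact p.Prime] (hf : 1 ≤ f) (hF : Fintype.card F = p ^ f) (m : ℕ) (hm : 4 ≤ m) (a b : F) (hab : ∀ z₁ z₂ : F, z₁ ^ 2 + a * z₁ * z₂ + b * z₂ ^ 2 = 0 → z₁ = 0 ∧ z₂ = 0) : Nat.card (MulAut (Cfsg.POmega F (Cfsg.quadFormMinus (m - 1) F a b))) = (if p = 2 then 2 else (if Even (m * (p ^ f - 1) / 2) then 4 else 8)) * f * Nat.card (Cfsg.POmega F (Cfsg.quadFormMinus (m - 1) F a b)) := by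
  classical
  have hp : p.Prime := Fact.out
  have hchar : CharP F p := charP_of_card_eq_prime_pow hF
  have hm' : 3 ≤ m - 1 := by omega
  have hcen := center_eq_bot (F := F) (m - 1) hm' a b hab
  by_cases hp2 : p = 2
  · subst hp2
    rw [if_pos rfl]
    have h := (Cfsg.Agent.S2605.result hf hF hm a b hab).2
    rw [card_mulAut hcen, h]
  · rw [if_neg hp2]
    have hoddp : Odd p := hp.odd_of_ne_two hp2
    have hoddq : Odd (Fintype.card F) := by
      rw [hF]
      exact hoddp.pow
    have hgam := Cfsg.Agent.S2696.result (F := F) hm' a b hab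
    rw [card_mulAut_minus (m - 1) hm' a b hab hgam, (Cfsg.Agent.Helper41.ringAut_cyclic_card p f hF).2,
      ← card_inn hcen]
    have hinn := inn_le_pgoAut_minus (F := F) (m - 1) a b
    obtain ⟨h8, h4⟩ := pgo_mod_inn_minus hoddq hm' a b hab
    have hq4 : ∀ k : ℕ, Fintype.card F = 2 * k + 1 → (Fintype.card F % 4 = 3 ↔ Odd k) := by
      intro k hk
      rw [hk]
      constructor
      · intro h
        rw [Nat.odd_iff]
        omega
      · intro h
        rw [Nat.odd_iff] at h
        omega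
    obtain ⟨k, hk⟩ := hoddq
    have hk' : p ^ f - 1 = 2 * k := by
      rw [← hF, hk]
      omega
    have hexp : m * (p ^ f - 1) / 2 = m * k := by
      rw [hk', ← mul_assoc, mul_comm m 2, mul_assoc, Nat.mul_div_cancel_left _ (by norm_num)]
    rw [hexp]
    by_cases hcase : Even (m - 1) ∧ Fintype.card F % 4 = 3
    · obtain ⟨φ, hφ, hker⟩ := h8 hcase
      have hmodd : Odd m := by
        obtain ⟨c, hc⟩ := hcase.1
        exact ⟨c, by omega⟩
      have hkodd : Odd k := (hq4 k hk).mp hcase.2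
      have hnot : ¬ Even (m * k) := by
        rw [Nat.not_even_iff_odd]
        exact hmodd.mul hkodd
      rw [if_neg hnot, card_of_surjective_ker _ _ hinn φ hφ hker, DihedralGroup.nat_card]
      ring
    · obtain ⟨φ, hφ, hker⟩ := h4 hcase
      have heven : Even (m * k) := by
        by_contra hne
        rw [Nat.not_even_iff_odd, Nat.odd_mul] at hne
        apply hcase
        refine ⟨?_, (hq4 k hk).mpr hne.2⟩
        obtain ⟨c, hc⟩ := hne.1
        exact ⟨c, by omega⟩
      rw [if_pos heven, card_of_surjective_ker _ _ hinn φ hφ hker, card_mul_zmod]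
      ring

end Cfsg.Agent.S0818
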