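import Mathlib
import Cfsg.Statements.S0819

set_option autoImplicit false
open Cfsg

namespace Cfsg.Agent.S0819

open Polynomial

theorem mem_range_of_pow_card_eq {F L : Type*} [Field F] [Fintype F] [Field L] [Algebra F L] (x : L)
    (hx : x ^ Fintype.card F = x) : ∃ c : F, algebraMap F L c = x := by
  classical
  set q := Fintype.card F with hq
  have hq1 : 1 < q := Fintype.one_lt_card
  have hroots : (X ^ q - X : F[X]).roots = Finset.univ.val := FiniteField.roots_X_pow_card_sub_X F
  have hcard : Multiset.card (X ^ q - X : F[X]).roots = (X ^ q - X : F[X]).natDegree := by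
    rw [hroots, FiniteField.X_pow_card_sub_X_natDegree_eq F hq1]
    simp [hq]
  have hmap := roots_map_of_injective_of_card_eq_natDegree (algebraMap F L).injective hcard
  have hpm : (X ^ q - X : F[X]).map (algebraMap F L) = X ^ q - X := by simp
  have hne : (X ^ q - X : L[X]) ≠ 0 := FiniteField.X_pow_card_sub_X_ne_zero L hq1
  have hxroot : x ∈ ((X ^ q - X : F[X]).map (algebraMap F L)).roots := by
    rw [hpm, mem_roots hne]
    simp [hx]
  rw [← hmap, Multiset.mem_map] at hxroot
  obtain ⟨c, -, hc⟩ := hxroot
  exact ⟨c, hc⟩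

/-- an irreducible monic quadratic `X² - tX + u` over a finite field with `Q` elements divides
`X^(Q+1) - u` -/
theorem quad_dvd {F : Type*} [Field F] [Fintype F] (p : ℕ) [Fact p.Prime] [CharP F p] (t u : F)
    (hno : ∀ c : F, c ^ 2 - t * c + u ≠ 0) :
    (X ^ 2 - C t * X + C u : F[X]) ∣ X ^ (Fintype.card F + 1) - C u := by
  classical
  set f : F[X] := X ^ 2 - C t * X + C u with hf
  have hmonic : f.Monic := by
    rw [hf]
    monicity!
  have hdeg : f.natDegree = 2 := by
    rw [hf]
    compute_degree!
  have hroots : f.roots = 0 := by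
    rw [Multiset.eq_zero_iff_forall_notMem]
    intro c hc
    rw [mem_roots hmonic.ne_zero] at hc
    apply hno c
    simpa [hf] using hc
  have hirr : Irreducible f :=
    (hmonic.irreducible_iff_roots_eq_zero_of_degree_le_three (by omega) (by omega)).mpr hroots
  have : Fact (Irreducible f) := ⟨hirr⟩
  set L := AdjoinRoot f
  set α : L := AdjoinRoot.root f with hα
  set q := Fintype.card F with hq
  obtain ⟨k, hpk, hqk'⟩ := FiniteField.card F p
  have hqk : q = p ^ (k : ℕ) := hqk'
  have : CharP L p := charP_of_injective_algebraMap (algebraMap F L).injective p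
  have hroot : α ^ 2 - algebraMap F L t * α + algebraMap F L u = 0 := by
    have := AdjoinRoot.eval₂_root f
    rw [AdjoinRoot.algebraMap_eq]
    simpa [hf, eval₂_sub, eval₂_add, eval₂_mul, eval₂_pow] using this
  have htq : (algebraMap F L t) ^ q = algebraMap F L t := by
    rw [← map_pow, FiniteField.pow_card]
  have huq : (algebraMap F L u) ^ q = algebraMap F L u := by
    rw [← map_pow, FiniteField.pow_card]
  have hroot' : (α ^ q) ^ 2 - algebraMap F L t * α ^ q + algebraMap F L u = 0 := by
    have h1 : (α ^ 2 - algebraMap F L t * α + algebraMap F L u) ^ q = 0 := by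
      rw [hroot, zero_pow (Fintype.card_pos).ne']
    rw [hqk, add_pow_char_pow, sub_pow_char_pow, mul_pow, ← hqk, htq, huq, ← pow_mul,
      mul_comm 2 q, pow_mul] at h1
    exact h1
  have hprod : (α ^ q - α) * (α ^ q - (algebraMap F L t - α)) = 0 := by
    linear_combination hroot' - hroot
  rw [← AdjoinRoot.mk_eq_zero (f := f)]
  rcases mul_eq_zero.mp hprod with h | h
  · exfalso
    obtain ⟨c, hc⟩ := mem_range_of_pow_card_eq (F := F) α (sub_eq_zero.mp h)
    apply hno c
    apply (algebraMap F L).injective
    rw [map_add, map_sub, map_mul, map_pow, map_zero, hc]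
    exact hroot
  · have hαq : α ^ q = algebraMap F L t - α := sub_eq_zero.mp h
    have : α ^ (q + 1) = algebraMap F L u := by
      rw [pow_succ, hαq]
      linear_combination -hroot
    simp only [map_sub, map_pow, AdjoinRoot.mk_X, AdjoinRoot.mk_C]
    rw [this, AdjoinRoot.algebraMap_eq, sub_self]

/-- an irreducible polynomial of degree `d` with nonzero constant term over a finite field with
`Q` elements divides `X^(Q^d-1) - 1` -/
theorem irred_dvd {F : Type*} [Field F] [Fintype F] (f : F[X]) (hirr : Irreducible f)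
    (h0 : f.eval 0 ≠ 0) :
    f ∣ X ^ (Fintype.card F ^ f.natDegree - 1) - 1 := by
  classical
  have : Fact (Irreducible f) := ⟨hirr⟩
  have hf0 : f ≠ 0 := hirr.ne_zero
  set L := AdjoinRoot f
  set α : L := AdjoinRoot.root f with hα
  have hfinM : Module.Finite F L := (AdjoinRoot.powerBasis hf0).finite
  have hfin : Finite L := Module.finite_of_finite F
  have : Fintype L := Fintype.ofFinite L
  have hcard : Fintype.card L = Fintype.card F ^ f.natDegree := by
    rw [← Nat.card_eq_fintype_card, Module.natCard_eq_pow_finrank (K := F) (V := L),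
      (AdjoinRoot.powerBasis hf0).finrank, AdjoinRoot.powerBasis_dim, Nat.card_eq_fintype_card]
  have hα0 : α ≠ 0 := by
    intro h
    rw [hα, ← AdjoinRoot.mk_X, AdjoinRoot.mk_eq_zero] at h
    apply h0
    obtain ⟨r, hr⟩ := h
    have := congrArg (eval 0) hr
    simp only [eval_X, eval_mul] at this
    exact (mul_eq_zero.mp this.symm).resolve_right (by
      intro hr0
      -- f * r = X, r(0) = 0: then X ∣ r so f * (r/X) = 1, f unit
      have hXr : X ∣ r := by
        rw [X_dvd_iff, coeff_zero_eq_eval_zero]
        exact hr0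
      obtain ⟨s, rfl⟩ := hXr
      have h1 : f * s = 1 := by
        have : X * (f * s) = X * 1 := by
          rw [mul_one]
          calc X * (f * s) = f * (X * s) := by ring
            _ = X := hr.symm
        exact mul_left_cancel₀ X_ne_zero this
      exact hirr.not_isUnit (IsUnit.of_mul_eq_one _ h1))
  have hpow : α ^ (Fintype.card F ^ f.natDegree - 1) = 1 := by
    rw [← hcard]
    exact FiniteField.pow_card_sub_one_eq_one α hα0
  rw [← AdjoinRoot.mk_eq_zero (f := f)]
  simp only [map_sub, map_pow, AdjoinRoot.mk_X, map_one]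
  rw [hpow, sub_self]


theorem charP_two {F : Type*} [Field F] [Fintype F] (hF : Fintype.card F = 4) : CharP F 2 := by
  obtain ⟨p, hp⟩ := CharP.exists F
  obtain ⟨k, hprime, hk⟩ := FiniteField.card F p
  have hdvd : p ∣ 4 := by
    rw [← hF, hk]
    exact dvd_pow_self p k.ne_zero
  have hp2 : p = 2 := by
    have h4 : (4 : ℕ) = 2 ^ 2 := by norm_num
    rw [h4] at hdvd
    exact (Nat.prime_dvd_prime_iff_eq hprime Nat.prime_two).mp (hprime.dvd_of_dvd_pow hdvd)
  rw [← hp2]
  exact hp

theorem pow_eq_smul_of_charpoly_dvd {F : Type*} [Field F] (M : Matrix (Fin 3) (Fin 3) F) (n : ℕ)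
    (s : F) (h : M.charpoly ∣ X ^ n - C s) : M ^ n = s • (1 : Matrix (Fin 3) (Fin 3) F) := by
  obtain ⟨r, hr⟩ := h
  have := congrArg (aeval M) hr
  rw [map_mul, Matrix.aeval_self_charpoly, zero_mul] at this
  simp only [map_sub, map_pow, aeval_X, aeval_C] at this
  rw [sub_eq_zero] at this
  rw [this, Algebra.algebraMap_eq_smul_one]

theorem key {F : Type*} [Field F] [Fintype F] (hF : Fintype.card F = 4)
    (A : Matrix.SpecialLinearGroup (Fin 3) F) :
    A ^ 63 = 1 ∨ A ^ 12 = 1 ∨ A ^ 5 ∈ Subgroup.center (Matrix.SpecialLinearGroup (Fin 3) F) := by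
  classical
  have hchar : CharP F 2 := charP_two hF
  have : Fact (Nat.Prime 2) := ⟨Nat.prime_two⟩
  set M : Matrix (Fin 3) (Fin 3) F := (A : Matrix (Fin 3) (Fin 3) F) with hM
  set χ := M.charpoly with hχ
  have hmonic : χ.Monic := Matrix.charpoly_monic M
  have hdeg : χ.natDegree = 3 := by
    rw [hχ, Matrix.charpoly_natDegree_eq_dim, Fintype.card_fin]
  have hχ0 : χ.eval 0 = -1 := by
    have h1 := Matrix.det_eq_sign_charpoly_coeff M
    rw [hM, A.det_coe, Fintype.card_fin] at h1
    rw [← coeff_zero_eq_eval_zero]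
    linear_combination h1
  have hpow1 : ∀ n : ℕ, χ ∣ X ^ n - 1 → A ^ n = 1 := by
    intro n hn
    apply Subtype.ext
    have h1 : χ ∣ X ^ n - C 1 := by rwa [C_1]
    have := pow_eq_smul_of_charpoly_dvd M n 1 h1
    rw [Matrix.SpecialLinearGroup.coe_pow, Matrix.SpecialLinearGroup.coe_one, one_smul] at *
    exact this
  have hcube : ∀ c : F, c ≠ 0 → c ^ 3 = 1 := by
    intro c hc
    have := FiniteField.pow_card_sub_one_eq_one c hc
    rwa [hF] at this
  by_cases hr : ∃ c, χ.IsRoot c
  · obtain ⟨c, hc⟩ := hr
    set q := χ /ₘ (X - C c) with hq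
    have hfac : (X - C c) * q = χ := mul_divByMonic_eq_iff_isRoot.mpr hc
    have hqmonic : q.Monic := (monic_X_sub_C c).of_mul_monic_left (hfac ▸ hmonic)
    have hqdeg : q.natDegree = 2 := by
      have := (monic_X_sub_C c).natDegree_mul hqmonic
      rw [hfac, hdeg, natDegree_X_sub_C] at this
      omega
    have hcq : c * q.eval 0 = 1 := by
      have := congrArg (eval 0) hfac
      rw [eval_mul, hχ0] at this
      simp only [eval_sub, eval_X, eval_C, zero_sub] at this
      linear_combination -this
    have hc0 : c ≠ 0 := left_ne_zero_of_mul_eq_one hcq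
    have hc3 : c ^ 3 = 1 := hcube c hc0
    by_cases hr2 : ∃ c₂, q.IsRoot c₂
    · -- three linear factors
      right; left
      obtain ⟨c₂, hc₂⟩ := hr2
      set r := q /ₘ (X - C c₂) with hr
      have hfac2 : (X - C c₂) * r = q := mul_divByMonic_eq_iff_isRoot.mpr hc₂
      have hrmonic : r.Monic := (monic_X_sub_C c₂).of_mul_monic_left (hfac2 ▸ hqmonic)
      have hrdeg : r.natDegree = 1 := by
        have := (monic_X_sub_C c₂).natDegree_mul hrmonic
        rw [hfac2, hqdeg, natDegree_X_sub_C] at this
        omega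
      have hr_eq : r = X + C (r.coeff 0) := hrmonic.eq_X_add_C hrdeg
      set d := r.coeff 0 with hd
      have hc2r : c₂ * d ≠ 0 := by
        intro h0
        have := congrArg (eval 0) hfac2
        rw [eval_mul, hr_eq] at this
        simp only [eval_sub, eval_X, eval_C, zero_sub, eval_add, zero_add] at this
        rw [← this] at hcq
        have : c * (-(c₂ * d)) = 1 := by linear_combination hcq
        rw [h0] at this
        simp at this
      have hc₂0 : c₂ ≠ 0 := left_ne_zero_of_mul hc2r
      have hd0 : d ≠ 0 := right_ne_zero_of_mul hc2r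
      have h1 : (X - C c : F[X]) ∣ X ^ 3 - 1 := by
        rw [dvd_iff_isRoot]; simp [hc3]
      have h2 : (X - C c₂ : F[X]) ∣ X ^ 3 - 1 := by
        rw [dvd_iff_isRoot]; simp [hcube c₂ hc₂0]
      have h3 : r ∣ X ^ 3 - 1 := by
        have : r = X - C (-d) := by rw [hr_eq]; simp
        rw [this, dvd_iff_isRoot]
        simp [hcube (-d) (neg_ne_zero.mpr hd0)]
      apply hpow1
      have h4 : (X ^ 12 - 1 : F[X]) = (X ^ 3 - 1) ^ (2 ^ 2) := by
        rw [sub_pow_char_pow, one_pow, ← pow_mul]
        norm_num
      rw [h4, ← hfac, ← hfac2]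
      have : ((X ^ 3 - 1 : F[X])) ^ (2 ^ 2) = (X ^ 3 - 1) * ((X ^ 3 - 1) * (X ^ 3 - 1)) * (X ^ 3 - 1) := by
        ring
      rw [this]
      exact Dvd.dvd.mul_right (mul_dvd_mul h1 (mul_dvd_mul h2 h3)) _
    · -- linear times irreducible quadratic
      right; right
      push Not at hr2
      set t := -q.coeff 1 with ht
      set u := q.coeff 0 with hu
      have hq_eq : q = X ^ 2 - C t * X + C u := by
        rw [hqmonic.as_sum, hqdeg]
        simp [Finset.sum_range_succ, ht, hu]
        ring
      have hno : ∀ c' : F, c' ^ 2 - t * c' + u ≠ 0 := by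
        intro c' h
        apply hr2 c'
        rw [IsRoot, hq_eq]
        simpa using h
      have hqdvd : q ∣ X ^ 5 - C u := by
        have := quad_dvd 2 t u hno
        rw [hF] at this
        rw [hq_eq]
        exact this
      have hu_eq : q.eval 0 = u := by rw [hu, coeff_zero_eq_eval_zero]
      rw [hu_eq] at hcq
      have hu0 : u ≠ 0 := right_ne_zero_of_mul_eq_one hcq
      have hldvd : (X - C c : F[X]) ∣ X ^ 5 - C u := by
        rw [dvd_iff_isRoot]
        simp only [IsRoot, eval_sub, eval_pow, eval_X, eval_C]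
        have : c ^ 5 = c ^ 3 * c ^ 2 := by ring
        rw [this, hc3, one_mul]
        -- c^2 = u since c*u = 1 and c^3 = 1
        have : c ^ 2 = u := by
          calc c ^ 2 = c ^ 2 * (c * u) := by rw [hcq, mul_one]
            _ = c ^ 3 * u := by ring
            _ = u := by rw [hc3, one_mul]
        rw [this, sub_self]
      have hcop : IsCoprime (X - C c) q := by
        rw [(irreducible_X_sub_C c).coprime_iff_not_dvd, dvd_iff_isRoot]
        exact hr2 c
      have hχdvd : χ ∣ X ^ 5 - C u := by
        rw [← hfac]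
        exact hcop.mul_dvd hldvd hqdvd
      have hM5 := pow_eq_smul_of_charpoly_dvd M 5 u hχdvd
      rw [Matrix.SpecialLinearGroup.mem_center_iff]
      refine ⟨u, ?_, ?_⟩
      · rw [Fintype.card_fin]
        exact hcube u hu0
      · rw [Matrix.SpecialLinearGroup.coe_pow, ← hM, hM5]
        ext i j
        simp [Matrix.scalar_apply, Matrix.smul_apply, Matrix.one_apply, Matrix.diagonal_apply]
  · -- irreducible cubic
    left
    push Not at hr
    have hroots : χ.roots = 0 := by
      rw [Multiset.eq_zero_iff_forall_notMem]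
      intro c hc
      rw [mem_roots hmonic.ne_zero] at hc
      exact hr c hc
    have hirr : Irreducible χ :=
      (hmonic.irreducible_iff_roots_eq_zero_of_degree_le_three (by omega) (by omega)).mpr hroots
    apply hpow1
    have := irred_dvd χ hirr (by rw [hχ0]; simp)
    rw [hF, hdeg] at this
    exact this

/-- No element of PSL_3(4) has order 15. -/
theorem result {F : Type*} [Field F] [Fintype F] (hF : Fintype.card F = 4) (g : Matrix.ProjectiveSpecialLinearGroup (Fin 3) F) : orderOf g ≠ 15 := by
  intro h15
  obtain ⟨A, rfl⟩ := QuotientGroup.mk_surjective g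
  rcases key hF A with h | h | h
  · have : (QuotientGroup.mk A : Matrix.ProjectiveSpecialLinearGroup (Fin 3) F) ^ 63 = 1 := by
      rw [← QuotientGroup.mk_pow, h]; rfl
    have := orderOf_dvd_of_pow_eq_one this
    rw [h15] at this
    norm_num at this
  · have : (QuotientGroup.mk A : Matrix.ProjectiveSpecialLinearGroup (Fin 3) F) ^ 12 = 1 := by
      rw [← QuotientGroup.mk_pow, h]; rfl
    have := orderOf_dvd_of_pow_eq_one this
    rw [h15] at this
    norm_num at this
  · have : (QuotientGroup.mk A : Matrix.ProjectiveSpecialLinearGroup (Fin 3) F) ^ 5 = 1 := by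
      rw [← QuotientGroup.mk_pow, QuotientGroup.eq_one_iff]
      exact h
    have := orderOf_dvd_of_pow_eq_one this
    rw [h15] at this
    norm_num at this

end Cfsg.Agent.S0819
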