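import Mathlib
import Cfsg.Statements.S0820
import Cfsg.Agent.S0839

set_option autoImplicit false
open Cfsg

namespace Cfsg.Agent.S0820

open Matrix hiding SpecialLinearGroup

theorem rank_ne_zero_of_ne_zero {F : Type*} [Field F] {ι : Type*} [Fintype ι] [DecidableEq ι]
    (M : Matrix ι ι F) (hM : M ≠ 0) : M.rank ≠ 0 := by
  intro h
  apply hM
  unfold Matrix.rank at h
  rw [Submodule.finrank_eq_zero, LinearMap.range_eq_bot] at h
  ext i j
  have := congrFun (LinearMap.congr_fun h (Pi.single j 1)) i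
  simpa using this

/-- the standard transvection in SL₃ -/
def T (F : Type*) [Field F] : Matrix.SpecialLinearGroup (Fin 3) F :=
  ⟨1 + vecMulVec (Pi.single 1 1) (Pi.single 0 1), by
    simp [Matrix.det_fin_three, vecMulVec_apply]⟩

theorem T_coe (F : Type*) [Field F] :
    (T F : Matrix (Fin 3) (Fin 3) F) = 1 + vecMulVec (Pi.single 1 1) (Pi.single 0 1) := rfl

theorem isConj_T_of_form {F : Type*} [Field F] (s : Matrix.SpecialLinearGroup (Fin 3) F)
    (v : Fin 3 → F) (hv0 : v 0 = 0) (hv : v ≠ 0)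
    (hs : (s : Matrix (Fin 3) (Fin 3) F) = 1 + vecMulVec v (Pi.single 0 1)) :
    IsConj (T F) s := by
  rw [isConj_iff]
  by_cases h1 : v 1 = 0
  · have h2 : v 2 ≠ 0 := by
      intro h2
      apply hv
      ext i
      fin_cases i <;> simp [hv0, h1, h2]
    let g : Matrix.SpecialLinearGroup (Fin 3) F :=
      ⟨!![1, 0, 0; 0, 0, -(v 2)⁻¹; 0, v 2, 0], by
        simp [Matrix.det_fin_three, h2]⟩
    refine ⟨g, ?_⟩
    rw [mul_inv_eq_iff_eq_mul]
    apply Subtype.ext
    rw [Matrix.SpecialLinearGroup.coe_mul, Matrix.SpecialLinearGroup.coe_mul, hs, T_coe]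
    ext i j
    fin_cases i <;> fin_cases j <;>
      simp [g, Matrix.mul_apply, Fin.sum_univ_three, vecMulVec_apply, hv0, h1, Matrix.one_apply]
  · let g : Matrix.SpecialLinearGroup (Fin 3) F :=
      ⟨!![1, 0, 0; 0, v 1, 0; 0, v 2, (v 1)⁻¹], by
        simp [Matrix.det_fin_three, h1]⟩
    refine ⟨g, ?_⟩
    rw [mul_inv_eq_iff_eq_mul]
    apply Subtype.ext
    rw [Matrix.SpecialLinearGroup.coe_mul, Matrix.SpecialLinearGroup.coe_mul, hs, T_coe]
    ext i j
    fin_cases i <;> fin_cases j <;>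
      simp [g, Matrix.mul_apply, Fin.sum_univ_three, vecMulVec_apply, hv0, Matrix.one_apply]

theorem two_eq_zero {F : Type*} [Field F] [Fintype F] (hF : Fintype.card F = 4) : (2 : F) = 0 := by
  have h4 : ((Fintype.card F : ℕ) : F) = 0 := FiniteField.cast_card_eq_zero F
  rw [hF] at h4
  have : (2 : F) * 2 = 0 := by
    have : ((4 : ℕ) : F) = 2 * 2 := by norm_num
    rw [← this]
    exact h4
  exact mul_self_eq_zero.mp this

/-- an involution (square one, nontrivial) in SL₃ over a field of char 2 is conjugate to `T` -/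
theorem isConj_T_of_sq_eq_one {F : Type*} [Field F] (h2 : (2 : F) = 0)
    (A : Matrix.SpecialLinearGroup (Fin 3) F) (hA2 : A * A = 1) (hA1 : A ≠ 1) : IsConj (T F) A := by
  set N : Matrix (Fin 3) (Fin 3) F := (A : Matrix (Fin 3) (Fin 3) F) - 1 with hN
  have hAA : (A : Matrix (Fin 3) (Fin 3) F) * (A : Matrix (Fin 3) (Fin 3) F) = 1 := by
    rw [← Matrix.SpecialLinearGroup.coe_mul, hA2, Matrix.SpecialLinearGroup.coe_one]
  have h2M : ∀ M : Matrix (Fin 3) (Fin 3) F, M + M = 0 := by
    intro M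
    rw [← two_smul F M, h2, zero_smul]
  have hNN : N * N = 0 := by
    rw [hN, Matrix.sub_mul, Matrix.mul_sub, Matrix.mul_sub, hAA, Matrix.mul_one, Matrix.one_mul,
      Matrix.mul_one]
    have e1 := h2M (A : Matrix (Fin 3) (Fin 3) F)
    have e2 := h2M (1 : Matrix (Fin 3) (Fin 3) F)
    have : (1 : Matrix (Fin 3) (Fin 3) F) - ↑A - (↑A - 1) = (1 + 1) - (↑A + ↑A) := by abel
    rw [this, e1, e2, sub_zero]
  have hN0 : N ≠ 0 := by
    intro h0
    apply hA1
    apply Subtype.ext
    rw [Matrix.SpecialLinearGroup.coe_one]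
    exact sub_eq_zero.mp h0
  have hrank : N.rank = 1 := by
    have h1 := Matrix.rank_add_rank_le_card_of_mul_eq_zero hNN
    have h2 := rank_ne_zero_of_ne_zero N hN0
    simp only [Fintype.card_fin] at h1
    omega
  obtain ⟨a, b, hab⟩ := Cfsg.Agent.S0839.exists_vecMulVec_of_rank_one N hrank
  have hne : Matrix.vecMulVec a b ≠ 0 := hab ▸ hN0
  have hb : b ≠ 0 := by
    intro h0
    apply hne
    rw [h0, Matrix.vecMulVec_zero]
  have hdot : b ⬝ᵥ a = 0 := by
    rw [hab, Matrix.vecMulVec_mul_vecMulVec, Matrix.vecMulVec_smul] at hNN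
    by_contra hne0
    apply hne
    have := congrArg (fun M => (b ⬝ᵥ a)⁻¹ • M) hNN
    simpa [smul_smul, inv_mul_cancel₀ hne0] using this
  have hab' : (A : Matrix (Fin 3) (Fin 3) F) = 1 + Matrix.vecMulVec a b := by
    rw [← hab, hN]
    abel
  obtain ⟨g, v, hv0, hgv⟩ := Cfsg.Agent.S0839.conj_form (0 : Fin 3) A a b hab' hb hdot
  have hv : v ≠ 0 := by
    intro h0
    apply hA1
    rw [h0, Matrix.zero_vecMulVec, add_zero] at hgv
    have : g⁻¹ * A * g = 1 := Subtype.ext (by rw [hgv, Matrix.SpecialLinearGroup.coe_one])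
    calc A = g * (g⁻¹ * A * g) * g⁻¹ := by group
      _ = 1 := by rw [this]; group
  have hc1 : IsConj (T F) (g⁻¹ * A * g) := isConj_T_of_form _ v hv0 hv hgv
  have hc2 : IsConj (g⁻¹ * A * g) A := isConj_iff.mpr ⟨g, by group⟩
  exact hc1.trans hc2

theorem center_pow_three {F : Type*} [Field F] (z : Matrix.SpecialLinearGroup (Fin 3) F)
    (hz : z ∈ Subgroup.center (Matrix.SpecialLinearGroup (Fin 3) F)) : z ^ 3 = 1 := by
  obtain ⟨r, hr, hrz⟩ := Matrix.SpecialLinearGroup.mem_center_iff.mp hz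
  simp only [Fintype.card_fin] at hr
  apply Subtype.ext
  rw [Matrix.SpecialLinearGroup.coe_pow, ← hrz, ← map_pow, hr, map_one, Matrix.SpecialLinearGroup.coe_one]

/-- Any two elements of order 2 of PSL_3(4) are conjugate. -/
theorem result {F : Type*} [Field F] [Fintype F] (hF : Fintype.card F = 4) (x y : Matrix.ProjectiveSpecialLinearGroup (Fin 3) F) (hx : orderOf x = 2) (hy : orderOf y = 2) : IsConj x y := by
  have h2 : (2 : F) = 0 := two_eq_zero hF
  have key : ∀ x : Matrix.ProjectiveSpecialLinearGroup (Fin 3) F, orderOf x = 2 →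
      IsConj (QuotientGroup.mk (T F) : Matrix.ProjectiveSpecialLinearGroup (Fin 3) F) x := by
    intro x hx
    obtain ⟨A₀, rfl⟩ := QuotientGroup.mk_surjective x
    have hx2 : (QuotientGroup.mk A₀ : Matrix.ProjectiveSpecialLinearGroup (Fin 3) F) ^ 2 = 1 := by
      rw [← hx, pow_orderOf_eq_one]
    have hx1 : (QuotientGroup.mk A₀ : Matrix.ProjectiveSpecialLinearGroup (Fin 3) F) ≠ 1 := by
      intro h
      rw [h, orderOf_one] at hx
      norm_num at hx
    have hz : A₀ ^ 2 ∈ Subgroup.center (Matrix.SpecialLinearGroup (Fin 3) F) := by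
      rw [← QuotientGroup.eq_one_iff, QuotientGroup.mk_pow]
      exact hx2
    set A := A₀ ^ 3 with hA
    have hAmk : (QuotientGroup.mk A : Matrix.ProjectiveSpecialLinearGroup (Fin 3) F) =
        QuotientGroup.mk A₀ := by
      rw [hA, QuotientGroup.mk_pow, pow_succ, hx2, one_mul]
    have hA2 : A * A = 1 := by
      have := center_pow_three _ hz
      rw [hA, ← pow_add, ← this, ← pow_mul]
    have hA1 : A ≠ 1 := by
      intro h
      apply hx1
      rw [← hAmk, h]
      rfl
    have hc := isConj_T_of_sq_eq_one h2 A hA2 hA1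
    rw [← hAmk]
    exact (QuotientGroup.mk' _).map_isConj hc
  exact (key x hx).symm.trans (key y hy)

end Cfsg.Agent.S0820
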