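import Mathlib
import Cfsg.Statements.S0821
import Cfsg.Agent.Lib.Helper14.PSpRank
import Cfsg.Agent.Lib.Lead.POmegaCard
import Cfsg.Agent.S2235

set_option autoImplicit false
open Cfsg

namespace Cfsg.Agent.S0821

open Matrix Cfsg.Agent.Helper5 Cfsg.Agent.Helper14.PeelPairs Cfsg.Agent.Helper14.PSpRank
  Cfsg.Agent.Helper43 Cfsg.Agent.Lead.OmegaCenter Cfsg.Agent.Lead.POmegaCard

/-- the centre of `Ω_{2m+1}(q)` is trivial -/
theorem center_omega_odd_eq_bot {F : Type*} [Field F] [Fintype F] (hodd : Odd (Fintype.card F))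
    (m : ℕ) (hm : 3 ≤ m) :
    Subgroup.center ↥(Cfsg.Omega F (Cfsg.quadFormOdd m F)) = ⊥ := by
  have h2 : (2 : F) ≠ 0 := two_ne_zero_of_odd' hodd
  have hcen := (card_center_omega (stdOdd F m) h2 (stdOdd_isHypFamily F m) hm (hspan_odd m)).2
    (neg_one_not_mem_omega_odd h2 m)
  rw [coe_stdOdd] at hcen
  exact Subgroup.card_eq_one.mp hcen

/-- PSp_2m(q) ≇ PΩ_(2m+1)(q) for q odd and m ≥ 3 (they have the same order). -/
theorem result {F : Type*} [Field F] [Fintype F] (hodd : Odd (Fintype.card F)) (m : ℕ) (hm : 3 ≤ m) : IsEmpty (Cfsg.PSp m F ≃* Cfsg.POmega F (Cfsg.quadFormOdd m F)) := by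
  classical
  constructor
  intro e
  obtain ⟨A, hAc, hAe, hAcard⟩ := (Cfsg.Agent.S2235.result hodd m (by omega)).1
  have hcommA : ∀ a ∈ A, ∀ b ∈ A, a * b = b * a := by
    intro a ha b hb
    have h1 := (IsMulCommutative.is_comm (M := ↥A)).comm ⟨a, ha⟩ ⟨b, hb⟩
    exact congrArg Subtype.val h1
  set ZΩ := Subgroup.center ↥(Cfsg.Omega F (Cfsg.quadFormOdd m F)) with hZΩ
  have hZΩbot : ZΩ = ⊥ := center_omega_odd_eq_bot hodd m hm
  set π : ↥(Cfsg.Omega F (Cfsg.quadFormOdd m F)) →* Cfsg.POmega F (Cfsg.quadFormOdd m F) :=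
    QuotientGroup.mk' ZΩ with hπ
  have hπinj : Function.Injective π := by
    rw [← MonoidHom.ker_eq_bot_iff, hπ, QuotientGroup.ker_mk', hZΩbot]
  set A1 : Subgroup (Cfsg.POmega F (Cfsg.quadFormOdd m F)) := A.map π with hA1
  have hA1card : Nat.card A1 = Nat.card A := by
    rw [hA1]
    exact Nat.card_congr (A.equivMapOfInjective π hπinj).toEquiv.symm
  have hA1comm : ∀ a ∈ A1, ∀ b ∈ A1, a * b = b * a := by
    rintro _ ⟨a, ha, rfl⟩ _ ⟨b, hb, rfl⟩
    rw [← map_mul, ← map_mul, hcommA a ha b hb]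
  have hA1sq : ∀ a ∈ A1, a * a = 1 := by
    rintro _ ⟨a, ha, rfl⟩
    rw [← map_mul, ← pow_two, hAe a ha, map_one]
  -- the symplectic side
  set G := Matrix.symplecticGroup (Fin m) F with hG
  set Z : Subgroup G := Subgroup.center G with hZ
  set z : G := spNegOne (Fin m) F with hz
  have : Nonempty (Fin m) := ⟨⟨0, by omega⟩⟩
  have hZmem : ∀ g ∈ Z, g = 1 ∨ g = z := fun g hg => center_sp_subset g hg
  have hzZ : z ∈ Z := spNegOne_mem_center
  have hzc : ∀ g : G, g * z = z * g := fun g => Subgroup.mem_center_iff.mp hzZ g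
  set t : Set (Cfsg.PSp m F) := {x | e x ∈ A1} with ht
  set E : Subgroup G := (A1.comap e.toMonoidHom).comap (QuotientGroup.mk' Z) with hE
  have hEmem : ∀ g : G, g ∈ E ↔ e (QuotientGroup.mk' Z g) ∈ A1 := fun g => Iff.rfl
  have hmk : ∀ a b : G, e (QuotientGroup.mk' Z a) = e (QuotientGroup.mk' Z b) →
      a = b ∨ a = z * b := by
    intro a b hab
    have h1 : (QuotientGroup.mk' Z a) = (QuotientGroup.mk' Z b) := e.injective hab
    have h2 : b⁻¹ * a ∈ Z := by
      have := QuotientGroup.eq.mp h1.symm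
      exact this
    rcases hZmem _ h2 with h3 | h3
    · left
      have : a = b * (b⁻¹ * a) := (mul_inv_cancel_left b a).symm
      rw [this, h3, mul_one]
    · right
      have : a = b * (b⁻¹ * a) := (mul_inv_cancel_left b a).symm
      rw [this, h3, hzc]
  have hsq : ∀ x ∈ E, x * x = 1 ∨ x * x = z := by
    intro x hx
    have h1 := hA1sq _ ((hEmem x).mp hx)
    rw [← map_mul, ← map_mul] at h1
    have h2 : e (QuotientGroup.mk' Z (x * x)) = e (QuotientGroup.mk' Z 1) := by
      rw [h1, map_one, map_one]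
    rcases hmk _ _ h2 with h3 | h3
    · left; exact h3
    · right; rw [h3, mul_one]
  have hcomm : ZComm z E := by
    intro x hx y hy
    have h1 := hA1comm _ ((hEmem x).mp hx) _ ((hEmem y).mp hy)
    rw [← map_mul, ← map_mul, ← map_mul, ← map_mul] at h1
    exact hmk _ _ h1
  have hEcard := card_le_of_class hodd m hm E hsq hcomm
  -- count E
  have hEset : (E : Set G) = QuotientGroup.mk ⁻¹' t := by
    ext g
    rfl
  have hcardE : Nat.card E = Nat.card Z * Nat.card t := by
    have := QuotientGroup.card_preimage_mk Z t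
    rw [← hEset] at this
    exact this
  have hcardt : Nat.card t = Nat.card A1 := by
    apply Nat.card_congr
    exact e.toEquiv.subtypeEquiv (fun x => Iff.rfl)
  have hcardZ : Nat.card Z = 2 := by
    rw [hZ, card_center_sp]
    obtain ⟨k, hk⟩ := hodd
    rw [hk]
    have : 2 * k + 1 - 1 = 2 * k := by omega
    rw [this]
    exact Nat.gcd_eq_left (Dvd.intro k rfl)
  rw [hcardE, hcardZ, hcardt, hA1card] at hEcard
  have : 2 * 2 ^ (2 * m) ≤ 2 ^ (2 * m) := le_trans (Nat.mul_le_mul_left 2 hAcard) hEcard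
  have hpos : 0 < 2 ^ (2 * m) := by positivity
  omega

end Cfsg.Agent.S0821
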