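import Cfsg.Statements.S0822
import Cfsg.Agent.S0278
import Cfsg.Agent.S0245
import Cfsg.Agent.Lib.Helper5.SUCenter
import Cfsg.Agent.Lib.Helper37.ExcB
import Cfsg.Agent.Lib.Helper37.ExcE

set_option autoImplicit false
open Cfsg

namespace Cfsg.Agent.S0822

/-- PSU_4(2) ≅ PSp_4(3): with |F| = 4 and |K| = 3, the projective special unitary group of the standard Hermitian form on F^4 is isomorphic to PSp_4(K). -/
theorem result {F K : Type*} [Field F] [Fintype F] [Field K] [Fintype K] (hF : Fintype.card F = 4) (hK : Fintype.card K = 3) : Nonempty (Cfsg.PSU 4 F 2 ≃* Cfsg.PSp 2 K) := by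
  classical
  have hF2 : Fintype.card F = 2 ^ 2 := by rw [hF]; norm_num
  have eF : F ≃+* Cfsg.Agent.Helper37.Exc.F4 :=
    FiniteField.ringEquivOfCardEq (K := F) (K' := Cfsg.Agent.Helper37.Exc.F4)
      (by rw [hF2, Cfsg.Agent.Helper37.Exc.card_F4])
  have eK : K ≃+* ZMod 3 := (ZMod.ringEquivOfPrime K Nat.prime_three hK).symm
  let φ₁ : Cfsg.SU 4 F 2 ≃* Cfsg.SU 4 Cfsg.Agent.Helper37.Exc.F4 2 :=
    Cfsg.Agent.Helper37.Exc.suCongr eF 4 2
  let φ₂ : Matrix.symplecticGroup (Fin 2) K ≃* Matrix.symplecticGroup (Fin 2) (ZMod 3) :=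
    Cfsg.Agent.Helper37.Exc.spCongr' eK
  -- the orders
  have hc1 : Nat.card (Cfsg.SU 4 F 2) = 25920 := by
    have h := Cfsg.Agent.S0278.result hF2 4 (by norm_num)
    have h2 : (2 : ℕ) ^ (4 * (4 - 1) / 2) * ∏ i ∈ Finset.range 4,
        (if Even i then 2 ^ (i + 1) + 1 else 2 ^ (i + 1) - 1) = 77760 := by decide
    rw [h2] at h
    omega
  have hc2 : Nat.card (Matrix.symplecticGroup (Fin 2) K) = 2 * 25920 := by
    rw [Cfsg.Agent.S0245.result hK 2]
    decide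
  have hcen : Subgroup.center (Cfsg.SU 4 F 2) = ⊥ := by
    apply Subgroup.eq_bot_of_card_eq
    rw [Cfsg.Agent.Helper5.card_center_SU_of_two_le hF2 (by norm_num)]
    rfl
  have : Finite (Cfsg.SU 4 F 2) := Nat.finite_of_card_ne_zero (by rw [hc1]; norm_num)
  have : Finite (Matrix.symplecticGroup (Fin 2) K) :=
    Nat.finite_of_card_ne_zero (by rw [hc2]; norm_num)
  -- the two images contain the group generated by the four permutations
  have h1 : Cfsg.Agent.Helper37.Exc.P40 ≤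
      (Cfsg.Agent.Helper37.Exc.pi1.comp φ₁.toMonoidHom).range := by
    unfold Cfsg.Agent.Helper37.Exc.P40
    rw [Subgroup.closure_le]
    rintro x (rfl | rfl | rfl | rfl)
    · exact ⟨φ₁.symm Cfsg.Agent.Helper37.Exc.a0, by simp⟩
    · exact ⟨φ₁.symm Cfsg.Agent.Helper37.Exc.a1, by simp⟩
    · exact ⟨φ₁.symm Cfsg.Agent.Helper37.Exc.a2, by simp⟩
    · exact ⟨φ₁.symm Cfsg.Agent.Helper37.Exc.a3, by simp⟩
  have h2 : Cfsg.Agent.Helper37.Exc.P40 ≤
      (Cfsg.Agent.Helper37.Exc.pi2.comp φ₂.toMonoidHom).range := by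
    unfold Cfsg.Agent.Helper37.Exc.P40
    rw [Subgroup.closure_le]
    rintro x (rfl | rfl | rfl | rfl)
    · exact ⟨φ₂.symm Cfsg.Agent.Helper37.Exc.b0, by
        simp [Cfsg.Agent.Helper37.Exc.pi1_eq_pi2_0]⟩
    · exact ⟨φ₂.symm Cfsg.Agent.Helper37.Exc.b1, by
        simp [Cfsg.Agent.Helper37.Exc.pi1_eq_pi2_1]⟩
    · exact ⟨φ₂.symm Cfsg.Agent.Helper37.Exc.b2, by
        simp [Cfsg.Agent.Helper37.Exc.pi1_eq_pi2_2]⟩
    · exact ⟨φ₂.symm Cfsg.Agent.Helper37.Exc.b3, by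
        simp [Cfsg.Agent.Helper37.Exc.pi1_eq_pi2_3]⟩
  -- the central involution
  have hz1 : φ₂.symm Cfsg.Agent.Helper37.Exc.zSp ≠ 1 := by
    intro h
    apply Cfsg.Agent.Helper37.Exc.zSp_ne_one
    have := congrArg φ₂ h
    rwa [MulEquiv.apply_symm_apply, map_one] at this
  have hzc : φ₂.symm Cfsg.Agent.Helper37.Exc.zSp ∈
      Subgroup.center (Matrix.symplecticGroup (Fin 2) K) := by
    rw [Subgroup.mem_center_iff]
    intro g
    apply φ₂.injective
    rw [map_mul, map_mul, MulEquiv.apply_symm_apply]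
    exact (Subgroup.mem_center_iff.1 Cfsg.Agent.Helper37.Exc.zSp_mem_center) (φ₂ g)
  have hzk : (Cfsg.Agent.Helper37.Exc.pi2.comp φ₂.toMonoidHom)
      (φ₂.symm Cfsg.Agent.Helper37.Exc.zSp) = 1 := by
    show Cfsg.Agent.Helper37.Exc.pi2 (φ₂ (φ₂.symm Cfsg.Agent.Helper37.Exc.zSp)) = 1
    rw [MulEquiv.apply_symm_apply]
    exact Cfsg.Agent.Helper37.Exc.pi2_zSp
  exact Cfsg.Agent.Helper37.Exc.assemble _ _ Cfsg.Agent.Helper37.Exc.P40 h1 h2 25920
    (by norm_num) hc1 hc2 Cfsg.Agent.Helper37.Exc.card_P40 hcen _ hz1 hzc hzk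

end Cfsg.Agent.S0822
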