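import Mathlib
import Cfsg.Statements.S0824
import Cfsg.Agent.Lib.Helper14.IsomTransfer

set_option autoImplicit false
open Cfsg

namespace Cfsg.Agent.S0824

open Matrix Cfsg.Agent.Helper14

abbrev I4 := (Fin 1 ⊕ Fin 1) ⊕ Fin 2
abbrev V4 := I4 → ZMod 2

def ix : I4 := Sum.inl (Sum.inl 0)
def iy : I4 := Sum.inl (Sum.inr 0)
def iz0 : I4 := Sum.inr 0
def iz1 : I4 := Sum.inr 1

def mk (a b c d : ZMod 2) : V4 := Sum.elim (Sum.elim (fun _ => a) (fun _ => b)) ![c, d]

theorem mk_eta (v : V4) : v = mk (v ix) (v iy) (v iz0) (v iz1) := by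
  funext i
  rcases i with (i | i) | i
  · have : i = 0 := Subsingleton.elim _ _
    subst this; rfl
  · have : i = 0 := Subsingleton.elim _ _
    subst this; rfl
  · fin_cases i <;> rfl

theorem ext4 {v w : V4} (h1 : v ix = w ix) (h2 : v iy = w iy) (h3 : v iz0 = w iz0)
    (h4 : v iz1 = w iz1) : v = w := by
  rw [mk_eta v, mk_eta w, h1, h2, h3, h4]

def Q4 (a b c d : ZMod 2) : ZMod 2 := a * b + c ^ 2 + c * d + d ^ 2

abbrev QQ : V4 → ZMod 2 := Cfsg.quadFormMinus 1 (ZMod 2) 1 1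

theorem QQ_eq (v : V4) : QQ v = Q4 (v ix) (v iy) (v iz0) (v iz1) := by
  unfold QQ Cfsg.quadFormMinus Q4 ix iy iz0 iz1
  simp only [Finset.univ_unique, Fin.default_eq_zero, Fin.isValue, Finset.sum_singleton, one_mul]
  ring

/-- the polar form, explicitly -/
def B4 (a b c d a' b' c' d' : ZMod 2) : ZMod 2 := a * b' + b * a' + c * d' + d * c'

def bvec (a : V4) : V4 := mk (a iy) (a ix) (a iz1) (a iz0)

def BB (v a : V4) : ZMod 2 := B4 (v ix) (v iy) (v iz0) (v iz1) (a ix) (a iy) (a iz0) (a iz1)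

theorem bvec_dot (a v : V4) : bvec a ⬝ᵥ v = BB v a := by
  unfold dotProduct bvec BB B4 mk ix iy iz0 iz1
  simp only [Fintype.sum_sum_type, Finset.univ_unique, Fin.default_eq_zero, Fin.isValue,
    Finset.sum_singleton, Fin.sum_univ_two, Sum.elim_inl, Sum.elim_inr]
  simp
  ring

theorem Q4_refl : ∀ a b c d a' b' c' d' : ZMod 2, Q4 a' b' c' d' = 1 →
    Q4 (a + B4 a b c d a' b' c' d' * a') (b + B4 a b c d a' b' c' d' * b')
      (c + B4 a b c d a' b' c' d' * c') (d + B4 a b c d a' b' c' d' * d') = Q4 a b c d := by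
  decide

theorem B4_sing : ∀ a b c d a' b' c' d' : ZMod 2, Q4 a b c d = 0 → Q4 a' b' c' d' = 0 →
    (a, b, c, d) ≠ (0, 0, 0, 0) → (a', b', c', d') ≠ (0, 0, 0, 0) → (a, b, c, d) ≠ (a', b', c', d') →
    B4 a b c d a' b' c' d' = 1 := by
  decide

theorem Q4_add_sing : ∀ a b c d a' b' c' d' : ZMod 2, Q4 a b c d = 0 → Q4 a' b' c' d' = 0 →
    (a, b, c, d) ≠ (0, 0, 0, 0) → (a', b', c', d') ≠ (0, 0, 0, 0) → (a, b, c, d) ≠ (a', b', c', d') →
    Q4 (a + a') (b + b') (c + c') (d + d') = 1 := by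
  decide

theorem B4_self : ∀ a b c d : ZMod 2, B4 a b c d a b c d = 0 := by decide

theorem B4_invol : ∀ a b c d a' b' c' d' : ZMod 2,
    B4 (a + B4 a b c d a' b' c' d' * a') (b + B4 a b c d a' b' c' d' * b')
      (c + B4 a b c d a' b' c' d' * c') (d + B4 a b c d a' b' c' d' * d') a' b' c' d' =
    B4 a b c d a' b' c' d' := by decide

def RR (a : V4) : Matrix I4 I4 (ZMod 2) := 1 + Matrix.vecMulVec a (bvec a)

theorem RR_mulVec (a v : V4) : RR a *ᵥ v = v + BB v a • a := by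
  unfold RR
  rw [Matrix.add_mulVec, Matrix.one_mulVec, Matrix.vecMulVec_mulVec, bvec_dot, op_smul_eq_smul]

theorem RR_apply (a v : V4) (i : I4) : (RR a *ᵥ v) i = v i + BB v a * a i := by
  rw [RR_mulVec]; rfl

theorem QQ_RR (a : V4) (ha : QQ a = 1) (v : V4) : QQ (RR a *ᵥ v) = QQ v := by
  rw [QQ_eq, QQ_eq] at *
  simp only [RR_apply]
  exact Q4_refl _ _ _ _ _ _ _ _ ha

theorem two_smul_zero (v : V4) : v + v = 0 := by
  funext i
  exact CharTwo.add_self_eq_zero (v i)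

theorem RR_RR (a v : V4) : RR a *ᵥ (RR a *ᵥ v) = v := by
  have h : BB (RR a *ᵥ v) a = BB v a := by
    unfold BB
    simp only [RR_apply]
    exact B4_invol _ _ _ _ _ _ _ _
  rw [RR_mulVec a (RR a *ᵥ v), h, RR_mulVec, add_assoc, two_smul_zero, add_zero]

theorem mat_ext_mulVec {M N : Matrix I4 I4 (ZMod 2)} (h : ∀ v, M *ᵥ v = N *ᵥ v) : M = N := by
  apply Matrix.toLin'.injective
  apply LinearMap.ext
  intro v
  simp only [Matrix.toLin'_apply]
  exact h v

theorem RR_mul_self (a : V4) : RR a * RR a = 1 := by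
  apply mat_ext_mulVec
  intro v
  rw [← Matrix.mulVec_mulVec, RR_RR, Matrix.one_mulVec]

/-- the reflection in a non-singular vector -/
def refl (a : V4) (ha : QQ a = 1) : ↥(Cfsg.isometryGroup (ZMod 2) QQ) :=
  ⟨⟨RR a, RR a, RR_mul_self a, RR_mul_self a⟩, by
    rw [mem_isometryGroup_iff]
    intro u
    exact QQ_RR a ha u⟩

theorem refl_coe (a : V4) (ha : QQ a = 1) :
    (((refl a ha : ↥(Cfsg.isometryGroup (ZMod 2) QQ)) : Matrix.GeneralLinearGroup I4 (ZMod 2)) :
      Matrix I4 I4 (ZMod 2)) = RR a := rfl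

abbrev GG := ↥(Cfsg.isometryGroup (ZMod 2) QQ)

abbrev Sing := {v : V4 // v ≠ 0 ∧ QQ v = 0}

def toM (g : GG) : Matrix I4 I4 (ZMod 2) := ((g : Matrix.GeneralLinearGroup I4 (ZMod 2)) : Matrix I4 I4 (ZMod 2))

theorem toM_one : toM 1 = 1 := rfl

theorem toM_mul (g h : GG) : toM (g * h) = toM g * toM h := rfl

theorem toM_inv_mul (g : GG) : toM g⁻¹ * toM g = 1 := by
  rw [← toM_mul, inv_mul_cancel, toM_one]

theorem toM_QQ (g : GG) (v : V4) : QQ (toM g *ᵥ v) = QQ v :=
  (mem_isometryGroup_iff _ _).mp g.2 v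

theorem toM_ne_zero (g : GG) {v : V4} (hv : v ≠ 0) : toM g *ᵥ v ≠ 0 := by
  intro h
  apply hv
  have := congrArg (fun w => toM g⁻¹ *ᵥ w) h
  simp only [Matrix.mulVec_mulVec, toM_inv_mul, Matrix.one_mulVec, Matrix.mulVec_zero] at this
  exact this

instance : MulAction GG Sing where
  smul g s := ⟨toM g *ᵥ s.1, toM_ne_zero g s.2.1, by rw [toM_QQ]; exact s.2.2⟩
  one_smul s := Subtype.ext (by
    change toM 1 *ᵥ s.1 = s.1
    rw [toM_one, Matrix.one_mulVec])
  mul_smul g h s := Subtype.ext (by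
    change toM (g * h) *ᵥ s.1 = toM g *ᵥ (toM h *ᵥ s.1)
    rw [toM_mul, Matrix.mulVec_mulVec])

theorem smul_coe (g : GG) (s : Sing) : (g • s).1 = toM g *ᵥ s.1 := rfl

def phi : GG →* Equiv.Perm Sing := MulAction.toPermHom GG Sing

theorem phi_apply (g : GG) (s : Sing) : phi g s = g • s := rfl

def s1 : Sing := ⟨mk 1 0 0 0, by decide, by rw [QQ_eq]; decide⟩
def s2 : Sing := ⟨mk 0 1 0 0, by decide, by rw [QQ_eq]; decide⟩
def s3 : Sing := ⟨mk 1 1 1 0, by decide, by rw [QQ_eq]; decide⟩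
def s4 : Sing := ⟨mk 1 1 0 1, by decide, by rw [QQ_eq]; decide⟩

theorem phi_injective : Function.Injective phi := by
  rw [injective_iff_map_eq_one]
  intro g hg
  have hfix : ∀ s : Sing, toM g *ᵥ s.1 = s.1 := by
    intro s
    have := congrArg (fun σ : Equiv.Perm Sing => (σ s).1) hg
    simpa [phi_apply, smul_coe] using this
  have h1 := hfix s1
  have h2 := hfix s2
  have h3 := hfix s3
  have h4 := hfix s4
  have hM : toM g = 1 := by
    apply mat_ext_mulVec
    intro v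
    rw [Matrix.one_mulVec]
    have hv : v = v ix • s1.1 + v iy • s2.1 + v iz0 • (s1.1 + s2.1 + s3.1) +
        v iz1 • (s1.1 + s2.1 + s4.1) := by
      apply ext4 <;> simp [s1, s2, s3, s4, mk, ix, iy, iz0, iz1, CharTwo.add_self_eq_zero]
    conv_lhs => rw [hv]
    simp only [Matrix.mulVec_add, Matrix.mulVec_smul, h1, h2, h3, h4]
    exact hv.symm
  apply Subtype.ext
  apply Units.ext
  exact hM

theorem tuple_ne {u s : V4} (h : u ≠ s) :
    (u ix, u iy, u iz0, u iz1) ≠ (s ix, s iy, s iz0, s iz1) := by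
  intro h'
  apply h
  simp only [Prod.mk.injEq] at h'
  exact ext4 h'.1 h'.2.1 h'.2.2.1 h'.2.2.2

theorem tuple_ne_zero {u : V4} (h : u ≠ 0) :
    (u ix, u iy, u iz0, u iz1) ≠ (0, 0, 0, 0) := by
  intro h'
  apply h
  simp only [Prod.mk.injEq] at h'
  exact ext4 h'.1 h'.2.1 h'.2.2.1 h'.2.2.2

theorem BB_sing (u s : Sing) (h : u ≠ s) : BB u.1 s.1 = 1 := by
  have hu := u.2.2
  have hs := s.2.2
  rw [QQ_eq] at hu hs
  exact B4_sing _ _ _ _ _ _ _ _ hu hs (tuple_ne_zero u.2.1) (tuple_ne_zero s.2.1)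
    (tuple_ne (fun h' => h (Subtype.ext h')))

theorem BB_self (u : V4) : BB u u = 0 := B4_self _ _ _ _

theorem BB_add_right (u s t : V4) : BB u (s + t) = BB u s + BB u t := by
  unfold BB B4
  simp only [Pi.add_apply]
  ring

theorem QQ_add_sing (s t : Sing) (h : s ≠ t) : QQ (s.1 + t.1) = 1 := by
  have hs := s.2.2
  have ht := t.2.2
  rw [QQ_eq] at hs ht ⊢
  exact Q4_add_sing _ _ _ _ _ _ _ _ hs ht (tuple_ne_zero s.2.1) (tuple_ne_zero t.2.1)
    (tuple_ne (fun h' => h (Subtype.ext h')))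

theorem phi_refl (s t : Sing) (h : s ≠ t) :
    phi (refl (s.1 + t.1) (QQ_add_sing s t h)) = Equiv.swap s t := by
  apply Equiv.ext
  intro u
  apply Subtype.ext
  rw [phi_apply, smul_coe]
  change RR (s.1 + t.1) *ᵥ u.1 = _
  rw [RR_mulVec, BB_add_right]
  by_cases hus : u = s
  · subst hus
    rw [Equiv.swap_apply_left, BB_self, BB_sing u t h, zero_add, one_smul, ← add_assoc,
      two_smul_zero, zero_add]
  · by_cases hut : u = t
    · subst hut
      rw [Equiv.swap_apply_right, BB_self, BB_sing u s hus, add_zero, one_smul, add_comm s.1,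
        ← add_assoc, two_smul_zero, zero_add]
    · rw [Equiv.swap_apply_of_ne_of_ne hus hut, BB_sing u s hus, BB_sing u t hut,
        CharTwo.add_self_eq_zero, zero_smul, add_zero]

theorem phi_surjective : Function.Surjective phi := by
  rw [← MonoidHom.range_eq_top, eq_top_iff, ← Equiv.Perm.closure_isSwap, Subgroup.closure_le]
  rintro σ ⟨s, t, hst, rfl⟩
  exact ⟨refl (s.1 + t.1) (QQ_add_sing s t hst), phi_refl s t hst⟩

/-- the 4-tuples model of the singular vectors -/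
abbrev Sing4 := {p : ZMod 2 × ZMod 2 × ZMod 2 × ZMod 2 //
  p ≠ (0, 0, 0, 0) ∧ Q4 p.1 p.2.1 p.2.2.1 p.2.2.2 = 0}

theorem card_Sing4 : Fintype.card Sing4 = 5 := by decide

def singEquiv : Sing ≃ Sing4 where
  toFun s := ⟨(s.1 ix, s.1 iy, s.1 iz0, s.1 iz1), tuple_ne_zero s.2.1, by
    have := s.2.2
    rw [QQ_eq] at this
    exact this⟩
  invFun p := ⟨mk p.1.1 p.1.2.1 p.1.2.2.1 p.1.2.2.2, by
    intro h
    apply p.2.1
    have h1 := congrFun h ix
    have h2 := congrFun h iy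
    have h3 := congrFun h iz0
    have h4 := congrFun h iz1
    exact Prod.ext h1 (Prod.ext h2 (Prod.ext h3 h4)), by
    rw [QQ_eq]
    exact p.2.2⟩
  left_inv s := Subtype.ext (mk_eta s.1).symm
  right_inv p := Subtype.ext rfl

theorem card_Sing : Fintype.card Sing = 5 := by
  rw [Fintype.card_congr singEquiv, card_Sing4]

theorem core : Nonempty (GG ≃* Equiv.Perm (Fin 5)) :=
  ⟨(MulEquiv.ofBijective phi ⟨phi_injective, phi_surjective⟩).trans
    (Equiv.permCongrHom (Fintype.equivFinOfCardEq card_Sing))⟩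

/-- O⁻_4(2) ≅ S_5: the isometry group of the form x y + z_1² + z_1 z_2 + z_2² over the field with 2 elements is isomorphic to the symmetric group on 5 letters. -/
theorem result {F : Type*} [Field F] [Fintype F] (hF : Fintype.card F = 2) : Nonempty (↥(Cfsg.isometryGroup F (Cfsg.quadFormMinus 1 F 1 1)) ≃* Equiv.Perm (Fin 5)) := by
  obtain ⟨e'⟩ := core
  let e : F ≃+* ZMod 2 := (ZMod.ringEquivOfPrime F Nat.prime_two hF).symm
  refine ⟨(isometryGroupEquiv e (Cfsg.quadFormMinus 1 F 1 1) QQ ?_).trans e'⟩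
  intro v
  unfold QQ Cfsg.quadFormMinus
  simp only [Function.comp_apply, map_add, map_mul, map_pow, map_sum, map_one]

end Cfsg.Agent.S0824
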