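import Mathlib
import Cfsg.Statements.S0826

set_option autoImplicit false
open Cfsg

namespace Cfsg.Agent.S0826

open Matrix

abbrev Pt (m : ℕ) := (Fin m ⊕ Fin m) ⊕ Fin 2
abbrev Vec (m : ℕ) := Pt m → ZMod 2
abbrev Idx (m : ℕ) := Fin m ⊕ Fin m

variable {m : ℕ}

def xv (i : Fin m) : Vec m :=
  Sum.elim (Sum.elim (fun l => if l = i then 1 else 0) (fun l => if l = i then 1 else 0))
    (fun _ => 0)

def yv (i : Fin m) : Vec m :=
  Sum.elim (Sum.elim (fun l => if l < i then 1 else 0) (fun l => if l ≤ i then 1 else 0))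
    ![1, 0]

def ones : Vec m := fun _ => 1

theorem dot_expand (u v : Vec m) : u ⬝ᵥ v =
    ∑ l : Fin m, (u (Sum.inl (Sum.inl l)) * v (Sum.inl (Sum.inl l)) +
      u (Sum.inl (Sum.inr l)) * v (Sum.inl (Sum.inr l))) +
    (u (Sum.inr 0) * v (Sum.inr 0) + u (Sum.inr 1) * v (Sum.inr 1)) := by
  unfold dotProduct
  rw [Fintype.sum_sum_type, Fintype.sum_sum_type, Fin.sum_univ_two, Finset.sum_add_distrib]

theorem z2_lt_le (l i : Fin m) :
    ((if l < i then 1 else 0 : ZMod 2) + if l ≤ i then 1 else 0) = if l = i then 1 else 0 := by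
  rcases lt_trichotomy l i with h | h | h
  · rw [if_pos h, if_pos h.le, if_neg h.ne]; decide
  · subst h; simp
  · rw [if_neg (not_lt.mpr h.le), if_neg (not_le.mpr h), if_neg h.ne']; decide

theorem dot_x_x (i j : Fin m) : xv i ⬝ᵥ xv j = 0 := by
  rw [dot_expand]
  simp only [xv, Sum.elim_inl, Sum.elim_inr, mul_zero, add_zero]
  apply Finset.sum_eq_zero
  intro l _
  exact CharTwo.add_self_eq_zero _

theorem dot_x_y (i j : Fin m) : xv i ⬝ᵥ yv j = if i = j then 1 else 0 := by
  rw [dot_expand]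
  simp only [xv, yv, Sum.elim_inl, Sum.elim_inr, zero_mul, add_zero]
  have : ∀ l : Fin m, ((if l = i then 1 else 0 : ZMod 2) * (if l < j then 1 else 0) +
      (if l = i then 1 else 0) * (if l ≤ j then 1 else 0)) =
      if l = i then (if i = j then 1 else 0) else 0 := by
    intro l
    by_cases h : l = i
    · subst h
      simp only [if_true, one_mul]
      exact z2_lt_le l j
    · simp [h]
  rw [Finset.sum_congr rfl (fun l _ => this l), Finset.sum_ite_eq' Finset.univ i]
  simp

theorem dot_y_x (i j : Fin m) : yv i ⬝ᵥ xv j = if i = j then 1 else 0 := by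
  rw [dotProduct_comm, dot_x_y]
  simp only [eq_comm]

theorem dot_y_y (i j : Fin m) : yv i ⬝ᵥ yv j = 0 := by
  rw [dot_expand]
  simp only [yv, Sum.elim_inl, Sum.elim_inr, Matrix.cons_val_zero, Matrix.cons_val_one,
    mul_one, mul_zero, add_zero]
  have : ∀ l : Fin m, ((if l < i then 1 else 0 : ZMod 2) * (if l < j then 1 else 0) +
      (if l ≤ i then 1 else 0) * (if l ≤ j then 1 else 0)) =
      if l = min i j then 1 else 0 := by
    intro l
    rcases le_total i j with hij | hij
    · rw [min_eq_left hij]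
      rcases lt_trichotomy l i with h | h | h
      · rw [if_pos h, if_pos (lt_of_lt_of_le h hij), if_pos h.le,
          if_pos (le_trans h.le hij), if_neg h.ne]; decide
      · subst h
        simp [hij]
      · rw [if_neg (not_lt.mpr h.le), if_neg (not_le.mpr h), if_neg h.ne']
        simp
    · rw [min_eq_right hij]
      rcases lt_trichotomy l j with h | h | h
      · rw [if_pos h, if_pos (lt_of_lt_of_le h hij), if_pos h.le,
          if_pos (le_trans h.le hij), if_neg h.ne]; decide
      · subst h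
        simp [hij]
      · rw [if_neg (not_lt.mpr h.le), if_neg (not_le.mpr h), if_neg h.ne']
        simp
  rw [Finset.sum_congr rfl (fun l _ => this l), Finset.sum_ite_eq' Finset.univ (min i j)]
  simp only [Finset.mem_univ, if_true]
  decide

theorem ones_dot_x (i : Fin m) : (ones : Vec m) ⬝ᵥ xv i = 0 := by
  rw [dot_expand]
  simp only [ones, xv, Sum.elim_inl, Sum.elim_inr, one_mul, add_zero]
  rw [Finset.sum_add_distrib, Finset.sum_ite_eq' Finset.univ i]
  simp only [Finset.mem_univ, if_true]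
  decide

theorem ones_dot_y (i : Fin m) : (ones : Vec m) ⬝ᵥ yv i = 0 := by
  rw [dot_expand]
  simp only [ones, yv, Sum.elim_inl, Sum.elim_inr, one_mul, Matrix.cons_val_zero,
    Matrix.cons_val_one, add_zero]
  rw [Finset.sum_congr rfl (fun l _ => z2_lt_le l i), Finset.sum_ite_eq' Finset.univ i]
  simp only [Finset.mem_univ, if_true]
  decide

def bv : Idx m → Vec m := Sum.elim xv yv
def bd : Idx m → Vec m := Sum.elim yv xv

theorem bd_eq (α : Idx m) : bd α = bv α.swap := by
  rcases α with i | i <;> rfl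

theorem gram (α β : Idx m) : bv β ⬝ᵥ bd α = if α = β then 1 else 0 := by
  rcases α with i | i <;> rcases β with j | j
  · simp only [bv, bd, Sum.elim_inl, dot_x_y, Sum.inl.injEq, eq_comm]
  · simp only [bv, bd, Sum.elim_inl, Sum.elim_inr, dot_y_y, reduceCtorEq, if_false]
  · simp only [bv, bd, Sum.elim_inl, Sum.elim_inr, dot_x_x, reduceCtorEq, if_false]
  · simp only [bv, bd, Sum.elim_inr, dot_y_x, Sum.inr.injEq, eq_comm]

theorem ones_dot_bv (β : Idx m) : (ones : Vec m) ⬝ᵥ bv β = 0 := by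
  rcases β with i | i
  · exact ones_dot_x i
  · exact ones_dot_y i

theorem ones_dot_bd (β : Idx m) : (ones : Vec m) ⬝ᵥ bd β = 0 := by
  rcases β with i | i
  · exact ones_dot_y i
  · exact ones_dot_x i

theorem z2_eq_one_of_ne_zero : ∀ ε : ZMod 2, ε ≠ 0 → ε = 1 := by decide

theorem z2_eq_of_add_eq_zero {a b : ZMod 2} (h : a + b = 0) : a = b := by
  revert a b; decide

theorem radical (r : Vec m) (hx : ∀ i, r ⬝ᵥ xv i = 0) (hy : ∀ i, r ⬝ᵥ yv i = 0)
    (hpar : (ones : Vec m) ⬝ᵥ r = 0) : ∀ p, r p = r (Sum.inr 0) := by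
  have h1 : ∀ i, r (Sum.inl (Sum.inl i)) = r (Sum.inl (Sum.inr i)) := by
    intro i
    have := hx i
    rw [dot_expand] at this
    simp only [xv, Sum.elim_inl, Sum.elim_inr, mul_zero, add_zero, mul_ite, mul_one] at this
    rw [Finset.sum_add_distrib, Finset.sum_ite_eq' Finset.univ i,
      Finset.sum_ite_eq' Finset.univ i] at this
    simp only [Finset.mem_univ, if_true] at this
    exact z2_eq_of_add_eq_zero this
  have h2 : ∀ i, r (Sum.inl (Sum.inr i)) = r (Sum.inr 0) := by
    intro i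
    have := hy i
    rw [dot_expand] at this
    simp only [yv, Sum.elim_inl, Sum.elim_inr, Matrix.cons_val_zero, Matrix.cons_val_one,
      mul_one, mul_zero, add_zero] at this
    have hterm : ∀ l : Fin m, (r (Sum.inl (Sum.inl l)) * (if l < i then 1 else 0) +
        r (Sum.inl (Sum.inr l)) * (if l ≤ i then 1 else 0)) =
        if l = i then r (Sum.inl (Sum.inr i)) else 0 := by
      intro l
      rw [h1 l, ← mul_add, z2_lt_le]
      by_cases h : l = i
      · subst h; simp
      · simp [h]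
    rw [Finset.sum_congr rfl (fun l _ => hterm l), Finset.sum_ite_eq' Finset.univ i] at this
    simp only [Finset.mem_univ, if_true] at this
    exact z2_eq_of_add_eq_zero this
  have h3 : r (Sum.inr 1) = r (Sum.inr 0) := by
    have := hpar
    rw [dot_expand] at this
    simp only [ones, one_mul] at this
    have hterm : ∀ l : Fin m, r (Sum.inl (Sum.inl l)) + r (Sum.inl (Sum.inr l)) = 0 := by
      intro l
      rw [h1 l]
      exact CharTwo.add_self_eq_zero _
    rw [Finset.sum_congr rfl (fun l _ => hterm l), Finset.sum_const_zero, zero_add] at this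
    exact (z2_eq_of_add_eq_zero this).symm
  intro p
  rcases p with (l | l) | k
  · rw [h1 l, h2 l]
  · exact h2 l
  · fin_cases k
    · rfl
    · exact h3

/-- the expansion operator -/
def EP (v : Vec m) : Vec m := ∑ β : Idx m, (v ⬝ᵥ bd β) • bv β

theorem EP_dot_bd (v : Vec m) (γ : Idx m) : EP v ⬝ᵥ bd γ = v ⬝ᵥ bd γ := by
  unfold EP
  rw [sum_dotProduct]
  simp only [smul_dotProduct, gram, smul_eq_mul, mul_ite, mul_one, mul_zero]
  rw [Finset.sum_ite_eq Finset.univ γ]
  simp

theorem ones_dot_EP (v : Vec m) : (ones : Vec m) ⬝ᵥ EP v = 0 := by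
  unfold EP
  rw [dotProduct_sum]
  apply Finset.sum_eq_zero
  intro β _
  rw [dotProduct_smul, ones_dot_bv, smul_zero]

theorem expansion (v : Vec m) (hv : (ones : Vec m) ⬝ᵥ v = 0) :
    ∃ ε : ZMod 2, EP v = v + ε • ones := by
  set r : Vec m := EP v + v with hr
  have hbd : ∀ γ, r ⬝ᵥ bd γ = 0 := by
    intro γ
    rw [hr, add_dotProduct, EP_dot_bd]
    exact CharTwo.add_self_eq_zero _
  have hrad := radical r (fun i => hbd (Sum.inr i)) (fun i => hbd (Sum.inl i))
    (by rw [hr, dotProduct_add, ones_dot_EP, hv, add_zero])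
  refine ⟨r (Sum.inr 0), ?_⟩
  funext p
  have h1 := hrad p
  have h2 : r p = EP v p + v p := by rw [hr]; rfl
  simp only [Pi.add_apply, Pi.smul_apply, ones, smul_eq_mul, mul_one]
  rw [← h1, h2, add_comm (v p), add_assoc, CharTwo.add_self_eq_zero, add_zero]

/-- permutation action on vectors -/
def pm (σ : Equiv.Perm (Pt m)) (v : Vec m) : Vec m := fun p => v (σ.symm p)

theorem pm_one (v : Vec m) : pm 1 v = v := rfl

theorem pm_mul (σ τ : Equiv.Perm (Pt m)) (v : Vec m) : pm (σ * τ) v = pm σ (pm τ v) := by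
  funext p
  simp [pm, Equiv.Perm.mul_def, Equiv.symm_trans_apply]

theorem pm_dot (σ : Equiv.Perm (Pt m)) (u v : Vec m) : pm σ u ⬝ᵥ pm σ v = u ⬝ᵥ v := by
  unfold dotProduct pm
  exact Equiv.sum_comp σ.symm (fun p => u p * v p)

theorem pm_dot_left (σ : Equiv.Perm (Pt m)) (u v : Vec m) : pm σ u ⬝ᵥ v = u ⬝ᵥ pm σ⁻¹ v := by
  rw [← pm_dot σ⁻¹ (pm σ u) v, ← pm_mul, inv_mul_cancel, pm_one]

theorem pm_ones (σ : Equiv.Perm (Pt m)) : pm σ (ones : Vec m) = ones := rfl

theorem pm_add (σ : Equiv.Perm (Pt m)) (u v : Vec m) : pm σ (u + v) = pm σ u + pm σ v := rfl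

theorem pm_smul (σ : Equiv.Perm (Pt m)) (c : ZMod 2) (v : Vec m) : pm σ (c • v) = c • pm σ v := rfl

theorem pm_sum {κ : Type*} (s : Finset κ) (σ : Equiv.Perm (Pt m)) (f : κ → Vec m) :
    pm σ (∑ k ∈ s, f k) = ∑ k ∈ s, pm σ (f k) := by
  funext p
  simp [pm, Finset.sum_apply]

theorem ones_dot_pm (σ : Equiv.Perm (Pt m)) (v : Vec m) : (ones : Vec m) ⬝ᵥ pm σ v = ones ⬝ᵥ v := by
  rw [← pm_ones σ, pm_dot, pm_ones]

/-- the matrix of a permutation on the heart of the permutation module -/
def AA (σ : Equiv.Perm (Pt m)) : Matrix (Idx m) (Idx m) (ZMod 2) :=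
  fun α β => pm σ (bv β) ⬝ᵥ bd α

theorem AA_one : AA (1 : Equiv.Perm (Pt m)) = 1 := by
  funext α β
  simp only [AA, pm_one, gram, Matrix.one_apply]

theorem AA_mul (σ τ : Equiv.Perm (Pt m)) : AA (σ * τ) = AA σ * AA τ := by
  funext α γ
  rw [Matrix.mul_apply]
  simp only [AA]
  rw [pm_mul]
  set v := pm τ (bv γ) with hv
  have hveven : (ones : Vec m) ⬝ᵥ v = 0 := by rw [hv, ones_dot_pm, ones_dot_bv]
  obtain ⟨ε, hε⟩ := expansion v hveven
  have h1 : ∑ β : Idx m, pm σ (bv β) ⬝ᵥ bd α * (v ⬝ᵥ bd β) = pm σ (EP v) ⬝ᵥ bd α := by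
    unfold EP
    rw [pm_sum, sum_dotProduct]
    apply Finset.sum_congr rfl
    intro β _
    rw [pm_smul, smul_dotProduct, smul_eq_mul, mul_comm]
  rw [h1, hε, pm_add, pm_smul, pm_ones, add_dotProduct, smul_dotProduct, ones_dot_bd, smul_zero,
    add_zero]

theorem J_apply (α β : Idx m) :
    Matrix.J (Fin m) (ZMod 2) α β = if β = α.swap then 1 else 0 := by
  rcases α with i | i <;> rcases β with j | j
  · simp [Matrix.J]
  · simp only [Matrix.J, Matrix.fromBlocks_apply₁₂, Matrix.neg_apply, Matrix.one_apply,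
      Sum.swap_inl, Sum.inr.injEq]
    by_cases h : i = j
    · subst h; simp
    · simp [h, Ne.symm h]
  · simp only [Matrix.J, Matrix.fromBlocks_apply₂₁, Matrix.one_apply, Sum.swap_inr,
      Sum.inl.injEq]
    by_cases h : i = j
    · subst h; simp
    · simp [h, Ne.symm h]
  · simp [Matrix.J]

theorem J_mul_apply (M : Matrix (Idx m) (Idx m) (ZMod 2)) (α β : Idx m) :
    (Matrix.J (Fin m) (ZMod 2) * M) α β = M α.swap β := by
  rw [Matrix.mul_apply]
  simp only [J_apply, ite_mul, one_mul, zero_mul]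
  rw [Finset.sum_ite_eq' Finset.univ α.swap]
  simp

theorem mul_J_apply (M : Matrix (Idx m) (Idx m) (ZMod 2)) (α β : Idx m) :
    (M * Matrix.J (Fin m) (ZMod 2)) α β = M α β.swap := by
  rw [Matrix.mul_apply]
  simp only [J_apply, mul_ite, mul_one, mul_zero]
  have : ∀ x : Idx m, (β = x.swap) ↔ (x = β.swap) := by
    intro x
    constructor
    · intro h; rw [h, Sum.swap_swap]
    · intro h; rw [h, Sum.swap_swap]
  simp only [this]
  rw [Finset.sum_ite_eq' Finset.univ β.swap]
  simp

theorem AA_transpose (σ : Equiv.Perm (Pt m)) :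
    (AA σ)ᵀ = Matrix.J (Fin m) (ZMod 2) * AA σ⁻¹ * Matrix.J (Fin m) (ZMod 2) := by
  funext α β
  rw [Matrix.transpose_apply, mul_J_apply, J_mul_apply]
  simp only [AA]
  rw [bd_eq α.swap, Sum.swap_swap, ← bd_eq β, pm_dot_left]
  exact dotProduct_comm _ _

theorem AA_mem (σ : Equiv.Perm (Pt m)) : AA σ ∈ Matrix.symplecticGroup (Fin m) (ZMod 2) := by
  rw [SymplecticGroup.mem_iff']
  calc (AA σ)ᵀ * Matrix.J (Fin m) (ZMod 2) * AA σ
      = Matrix.J (Fin m) (ZMod 2) * AA σ⁻¹ *
          (Matrix.J (Fin m) (ZMod 2) * Matrix.J (Fin m) (ZMod 2)) * AA σ := by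
        rw [AA_transpose]; simp only [Matrix.mul_assoc]
    _ = -(Matrix.J (Fin m) (ZMod 2) * (AA σ⁻¹ * AA σ)) := by
        rw [Matrix.J_squared]
        simp only [Matrix.mul_neg, Matrix.neg_mul, Matrix.mul_one, Matrix.mul_assoc]
    _ = -Matrix.J (Fin m) (ZMod 2) := by
        rw [← AA_mul, inv_mul_cancel, AA_one, Matrix.mul_one]
    _ = Matrix.J (Fin m) (ZMod 2) := by
        funext α β
        rw [Matrix.neg_apply]
        exact CharTwo.neg_eq _

/-- the homomorphism -/
def hom (m : ℕ) : Equiv.Perm (Pt m) →* Matrix.symplecticGroup (Fin m) (ZMod 2) where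
  toFun σ := ⟨AA σ, AA_mem σ⟩
  map_one' := Subtype.ext AA_one
  map_mul' σ τ := Subtype.ext (AA_mul σ τ)

theorem pm_single (σ : Equiv.Perm (Pt m)) (p : Pt m) :
    pm σ (Pi.single p (1 : ZMod 2)) = Pi.single (σ p) 1 := by
  funext q
  simp only [pm, Pi.single_apply]
  by_cases h : q = σ p
  · rw [if_pos h, if_pos (by rw [h, Equiv.symm_apply_apply])]
  · rw [if_neg h, if_neg]
    intro h'
    apply h
    rw [← h', Equiv.apply_symm_apply]

theorem ones_dot_single (p : Pt m) : (ones : Vec m) ⬝ᵥ Pi.single p (1 : ZMod 2) = 1 := by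
  rw [dotProduct_single, mul_one]; rfl

theorem card_Pt : Fintype.card (Pt m) = 2 * m + 2 := by
  simp only [Fintype.card_sum, Fintype.card_fin]; ring

theorem pm_even_of_AA_eq_one (σ : Equiv.Perm (Pt m)) (h : AA σ = 1) (v : Vec m)
    (hv : (ones : Vec m) ⬝ᵥ v = 0) : ∃ ε : ZMod 2, pm σ v = v + ε • ones := by
  -- on basis vectors
  have hb : ∀ β : Idx m, ∃ ε : ZMod 2, pm σ (bv β) = bv β + ε • ones := by
    intro β
    obtain ⟨ε, hε⟩ := expansion (pm σ (bv β)) (by rw [ones_dot_pm, ones_dot_bv])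
    have h1 : EP (pm σ (bv β)) = bv β := by
      unfold EP
      have : ∀ α : Idx m, pm σ (bv β) ⬝ᵥ bd α = if α = β then 1 else 0 := by
        intro α
        have := congrFun (congrFun h α) β
        simpa [AA, Matrix.one_apply] using this
      simp only [this, ite_smul, one_smul, zero_smul]
      rw [Finset.sum_ite_eq' Finset.univ β]
      simp
    refine ⟨ε, ?_⟩
    rw [h1] at hε
    calc pm σ (bv β) = (pm σ (bv β) + ε • ones) + ε • ones := by
          rw [add_assoc, ← add_smul, CharTwo.add_self_eq_zero, zero_smul, add_zero]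
      _ = bv β + ε • ones := by rw [← hε]
  choose εb hεb using hb
  obtain ⟨ε, hε⟩ := expansion v hv
  obtain ⟨c, hc⟩ : ∃ c : ZMod 2, c = ∑ β : Idx m, (v ⬝ᵥ bd β) * εb β := ⟨_, rfl⟩
  refine ⟨c, ?_⟩
  have h2 : v = EP v + ε • ones := by
    rw [hε, add_assoc, ← add_smul, CharTwo.add_self_eq_zero, zero_smul, add_zero]
  have h3 : pm σ (EP v) = EP v + c • ones := by
    rw [hc]
    unfold EP
    rw [pm_sum, Finset.sum_smul, ← Finset.sum_add_distrib]
    apply Finset.sum_congr rfl
    intro β _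
    rw [pm_smul, hεb β, smul_add, smul_smul]
  calc pm σ v = pm σ (EP v + ε • ones) := by rw [← h2]
    _ = (EP v + ε • ones) + c • ones := by
        rw [pm_add, pm_smul, pm_ones, h3]; abel
    _ = v + c • ones := by rw [← h2]

theorem hom_injective (hm : 2 ≤ m) : Function.Injective (hom m) := by
  rw [injective_iff_map_eq_one]
  intro σ hσ
  have hA : AA σ = 1 := congrArg Subtype.val hσ
  have hcard := card_Pt (m := m)
  -- pairs are preserved
  have hpair : ∀ p p' : Pt m, p ≠ p' → σ p = p ∨ σ p = p' := by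
    intro p p' hpp'
    obtain ⟨ε, hε⟩ := pm_even_of_AA_eq_one σ hA (Pi.single p 1 + Pi.single p' 1)
      (by rw [dotProduct_add, ones_dot_single, ones_dot_single]; decide)
    rw [pm_add, pm_single, pm_single] at hε
    have hσpp' : σ p ≠ σ p' := fun h => hpp' (σ.injective h)
    have hε0 : ε = 0 := by
      by_contra hne
      have hε1 : ε = 1 := z2_eq_one_of_ne_zero ε hne
      obtain ⟨t, -, ht⟩ := Finset.exists_mem_notMem_of_card_lt_card
        (s := ({p, p', σ p, σ p'} : Finset (Pt m))) (t := Finset.univ)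
        (by rw [Finset.card_univ, hcard]
            exact lt_of_le_of_lt Finset.card_le_four (by omega))
      simp only [Finset.mem_insert, Finset.mem_singleton, not_or] at ht
      obtain ⟨h1, h2, h3, h4⟩ := ht
      have := congrFun hε t
      simp only [Pi.add_apply, Pi.single_apply, if_neg h1, if_neg h2, if_neg h3, if_neg h4,
        Pi.smul_apply, ones, hε1, smul_eq_mul, mul_one, add_zero] at this
      exact zero_ne_one this
    rw [hε0, zero_smul, add_zero] at hε
    have := congrFun hε (σ p)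
    simp only [Pi.add_apply, Pi.single_apply, if_true, if_neg hσpp'] at this
    by_contra hcon
    push Not at hcon
    rw [if_neg hcon.1, if_neg hcon.2] at this
    revert this
    decide
  ext1 p
  by_contra hp
  obtain ⟨t, -, ht⟩ := Finset.exists_mem_notMem_of_card_lt_card
    (s := ({p, σ p} : Finset (Pt m))) (t := Finset.univ)
    (by rw [Finset.card_univ, hcard]
        exact lt_of_le_of_lt Finset.card_le_two (by omega))
  simp only [Finset.mem_insert, Finset.mem_singleton, not_or] at ht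
  rcases hpair p t (Ne.symm ht.1) with h | h
  · exact hp h
  · exact ht.2 h.symm

/-- S_2n ≤ Sp_(2n−2)(2) for n ≥ 3: there is an injective homomorphism from the symmetric group on 2n letters into the symplectic group of degree 2n − 2 over the field with two elements. -/
theorem result (n : ℕ) (hn : 3 ≤ n) : ∃ f : Equiv.Perm (Fin (2 * n)) →* Matrix.symplecticGroup (Fin (n - 1)) (ZMod 2), Function.Injective f := by
  obtain ⟨m, rfl⟩ : ∃ m, n = m + 1 := ⟨n - 1, by omega⟩
  have hm : 2 ≤ m := by omega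
  change ∃ f : Equiv.Perm (Fin (2 * (m + 1))) →* Matrix.symplecticGroup (Fin m) (ZMod 2),
    Function.Injective f
  have hc : Fintype.card (Fin (2 * (m + 1))) = Fintype.card (Pt m) := by
    rw [card_Pt, Fintype.card_fin]; ring
  let e : Fin (2 * (m + 1)) ≃ Pt m := Fintype.equivOfCardEq hc
  refine ⟨(hom m).comp (Equiv.permCongrHom e).toMonoidHom, ?_⟩
  rw [MonoidHom.coe_comp]
  exact (hom_injective hm).comp (Equiv.permCongrHom e).injective

end Cfsg.Agent.S0826
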