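import Cfsg.Statements.S5908

set_option autoImplicit false
set_option linter.style.haveILetI false
set_option linter.unusedSectionVars false
set_option linter.unusedVariables false
open Cfsg

namespace Cfsg.Agent.S5908

open Matrix

section field4

variable {F : Type*} [Field F] [Fintype F]

theorem two_eq_zero (hF : Fintype.card F = 4) : (2 : F) = 0 := by
  have h4 : ((Fintype.card F : ℕ) : F) = 0 := Nat.cast_card_eq_zero F
  rw [hF] at h4
  have : (2 : F) * 2 = 0 := by
    rw [← h4]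
    norm_num
  exact mul_self_eq_zero.mp this

theorem add_self_eq (hF : Fintype.card F = 4) (x : F) : x + x = 0 := by
  rw [← two_mul, two_eq_zero hF, zero_mul]

theorem neg_eq_self (hF : Fintype.card F = 4) (x : F) : -x = x := by
  rw [neg_eq_iff_add_eq_zero]
  exact add_self_eq hF x

theorem pow_three_eq_one (hF : Fintype.card F = 4) {x : F} (hx : x ≠ 0) : x ^ 3 = 1 := by
  have := FiniteField.pow_card_sub_one_eq_one x hx
  rwa [hF] at this

theorem pow_four_eq (hF : Fintype.card F = 4) (x : F) : x ^ 4 = x := by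
  have := FiniteField.pow_card x
  rwa [hF] at this

theorem exists_omega (hF : Fintype.card F = 4) : ∃ ω : F, ω ≠ 0 ∧ ω ≠ 1 ∧ ω ^ 2 + ω + 1 = 0 := by
  classical
  have h : ∃ ω : F, ω ≠ 0 ∧ ω ≠ 1 := by
    by_contra h
    push Not at h
    have : Fintype.card F ≤ 2 := by
      calc Fintype.card F = (Finset.univ : Finset F).card := rfl
        _ ≤ ({0, 1} : Finset F).card := Finset.card_le_card (fun x _ => by
            by_cases hx : x = 0
            · simp [hx]
            · simp [h x hx])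
        _ ≤ 2 := Finset.card_le_two
    omega
  obtain ⟨ω, h0, h1⟩ := h
  refine ⟨ω, h0, h1, ?_⟩
  have h3 := pow_three_eq_one hF h0
  have : (ω - 1) * (ω ^ 2 + ω + 1) = 0 := by
    linear_combination h3
  rcases mul_eq_zero.mp this with h | h
  · exact absurd (sub_eq_zero.mp h) h1
  · exact h

end field4

section unitary

variable {F : Type*} [Field F] [Fintype F]

/-- The conjugate transpose for `x ↦ x ^ 2`. -/
def gstar (A : Matrix (Fin 3) (Fin 3) F) : Matrix (Fin 3) (Fin 3) F := fun i j => (A j i) ^ 2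

theorem gstar_apply (A : Matrix (Fin 3) (Fin 3) F) (i j : Fin 3) : gstar A i j = (A j i) ^ 2 := rfl

theorem slToMat_apply (g : Matrix.SpecialLinearGroup (Fin 3) F) :
    slToMat 3 F g = (g : Matrix (Fin 3) (Fin 3) F) := rfl

theorem mem_SU_iff (g : Matrix.SpecialLinearGroup (Fin 3) F) :
    g ∈ SU 3 F 2 ↔ ∀ u v, hermForm 3 F 2 ((g : Matrix (Fin 3) (Fin 3) F) *ᵥ u)
      ((g : Matrix (Fin 3) (Fin 3) F) *ᵥ v) = hermForm 3 F 2 u v := Iff.rfl

theorem hermForm_single (j k : Fin 3) :
    hermForm 3 F 2 (Pi.single j 1) (Pi.single k 1) = if j = k then 1 else 0 := by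
  unfold hermForm
  rw [Finset.sum_eq_single j]
  · by_cases h : j = k
    · subst h
      simp
    · simp [h]
  · intro b _ hb
    simp [Pi.single_eq_of_ne hb]
  · simp

theorem gstar_mul_of_mem {g : Matrix.SpecialLinearGroup (Fin 3) F} (hg : g ∈ SU 3 F 2) :
    gstar (g : Matrix (Fin 3) (Fin 3) F) * (g : Matrix (Fin 3) (Fin 3) F) = 1 := by
  ext k j
  have h := (mem_SU_iff g).mp hg (Pi.single j 1) (Pi.single k 1)
  rw [hermForm_single, Matrix.mulVec_single_one, Matrix.mulVec_single_one] at h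
  rw [Matrix.mul_apply, Matrix.one_apply]
  unfold hermForm at h
  have h' : ∑ i, gstar (g : Matrix (Fin 3) (Fin 3) F) k i * (g : Matrix (Fin 3) (Fin 3) F) i j =
      if j = k then 1 else 0 := by
    rw [← h]
    apply Finset.sum_congr rfl
    intro i _
    rw [gstar_apply, Matrix.col_apply, Matrix.col_apply, mul_comm]
  rw [h']
  by_cases hjk : j = k
  · subst hjk
    simp
  · rw [if_neg hjk, if_neg (Ne.symm hjk)]

theorem explicit_of_gstar_mul {A : Matrix (Fin 3) (Fin 3) F} (hU : gstar A * A = 1) (k j : Fin 3) :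
    (A 0 k) ^ 2 * A 0 j + (A 1 k) ^ 2 * A 1 j + (A 2 k) ^ 2 * A 2 j = if k = j then 1 else 0 := by
  have := congrFun (congrFun hU k) j
  rw [Matrix.mul_apply, Fin.sum_univ_three, gstar_apply, gstar_apply, gstar_apply, Matrix.one_apply] at this
  exact this

theorem preserves_of_gstar_mul (hF : Fintype.card F = 4) {A : Matrix (Fin 3) (Fin 3) F}
    (hU : gstar A * A = 1) (u v : Fin 3 → F) :
    hermForm 3 F 2 (A *ᵥ u) (A *ᵥ v) = hermForm 3 F 2 u v := by
  have h2 := two_eq_zero hF
  have H00 : (A 0 0) ^ 2 * A 0 0 + (A 1 0) ^ 2 * A 1 0 + (A 2 0) ^ 2 * A 2 0 = 1 := by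
    have := congrFun (congrFun hU 0) 0
    simpa [Matrix.mul_apply, gstar_apply, Fin.sum_univ_three] using this
  have H01 : (A 0 0) ^ 2 * A 0 1 + (A 1 0) ^ 2 * A 1 1 + (A 2 0) ^ 2 * A 2 1 = 0 := by
    have := congrFun (congrFun hU 0) 1
    simpa [Matrix.mul_apply, gstar_apply, Fin.sum_univ_three] using this
  have H02 : (A 0 0) ^ 2 * A 0 2 + (A 1 0) ^ 2 * A 1 2 + (A 2 0) ^ 2 * A 2 2 = 0 := by
    have := congrFun (congrFun hU 0) 2
    simpa [Matrix.mul_apply, gstar_apply, Fin.sum_univ_three] using this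
  have H10 : (A 0 1) ^ 2 * A 0 0 + (A 1 1) ^ 2 * A 1 0 + (A 2 1) ^ 2 * A 2 0 = 0 := by
    have := congrFun (congrFun hU 1) 0
    simpa [Matrix.mul_apply, gstar_apply, Fin.sum_univ_three] using this
  have H11 : (A 0 1) ^ 2 * A 0 1 + (A 1 1) ^ 2 * A 1 1 + (A 2 1) ^ 2 * A 2 1 = 1 := by
    have := congrFun (congrFun hU 1) 1
    simpa [Matrix.mul_apply, gstar_apply, Fin.sum_univ_three] using this
  have H12 : (A 0 1) ^ 2 * A 0 2 + (A 1 1) ^ 2 * A 1 2 + (A 2 1) ^ 2 * A 2 2 = 0 := by
    have := congrFun (congrFun hU 1) 2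
    simpa [Matrix.mul_apply, gstar_apply, Fin.sum_univ_three] using this
  have H20 : (A 0 2) ^ 2 * A 0 0 + (A 1 2) ^ 2 * A 1 0 + (A 2 2) ^ 2 * A 2 0 = 0 := by
    have := congrFun (congrFun hU 2) 0
    simpa [Matrix.mul_apply, gstar_apply, Fin.sum_univ_three] using this
  have H21 : (A 0 2) ^ 2 * A 0 1 + (A 1 2) ^ 2 * A 1 1 + (A 2 2) ^ 2 * A 2 1 = 0 := by
    have := congrFun (congrFun hU 2) 1
    simpa [Matrix.mul_apply, gstar_apply, Fin.sum_univ_three] using this
  have H22 : (A 0 2) ^ 2 * A 0 2 + (A 1 2) ^ 2 * A 1 2 + (A 2 2) ^ 2 * A 2 2 = 1 := by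
    have := congrFun (congrFun hU 2) 2
    simpa [Matrix.mul_apply, gstar_apply, Fin.sum_univ_three] using this
  simp only [hermForm, Matrix.mulVec, dotProduct, Fin.sum_univ_three]
  linear_combination (u 0 * v 0 ^ 2) * H00 + (u 0 * v 1 ^ 2) * H10 + (u 0 * v 2 ^ 2) * H20 + (u 1 * v 0 ^ 2) * H01 + (u 1 * v 1 ^ 2) * H11 + (u 1 * v 2 ^ 2) * H21 + (u 2 * v 0 ^ 2) * H02 + (u 2 * v 1 ^ 2) * H12 + (u 2 * v 2 ^ 2) * H22 + ((A 0 0 * u 0 + A 0 1 * u 1 + A 0 2 * u 2) * (A 0 0 * A 0 1 * v 0 * v 1 + A 0 0 * A 0 2 * v 0 * v 2 + A 0 1 * A 0 2 * v 1 * v 2) + (A 1 0 * u 0 + A 1 1 * u 1 + A 1 2 * u 2) * (A 1 0 * A 1 1 * v 0 * v 1 + A 1 0 * A 1 2 * v 0 * v 2 + A 1 1 * A 1 2 * v 1 * v 2) + (A 2 0 * u 0 + A 2 1 * u 1 + A 2 2 * u 2) * (A 2 0 * A 2 1 * v 0 * v 1 + A 2 0 * A 2 2 * v 0 * v 2 + A 2 1 * A 2 2 * v 1 * v 2)) * h2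

theorem mem_SU_of_gstar_mul (hF : Fintype.card F = 4) (g : Matrix.SpecialLinearGroup (Fin 3) F)
    (hU : gstar (g : Matrix (Fin 3) (Fin 3) F) * (g : Matrix (Fin 3) (Fin 3) F) = 1) :
    g ∈ SU 3 F 2 := by
  rw [mem_SU_iff]
  exact preserves_of_gstar_mul hF hU

end unitary

section monomial

variable {F : Type*} [Field F] [Fintype F]

theorem mul_gstar {A : Matrix (Fin 3) (Fin 3) F} (hU : gstar A * A = 1) : A * gstar A = 1 :=
  mul_eq_one_comm.mp hU

/-- Every row has at most one non-zero entry. -/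
def RowMon (A : Matrix (Fin 3) (Fin 3) F) : Prop := ∀ i j k, j ≠ k → A i j * A i k = 0

/-- Every column has at most one non-zero entry. -/
def ColMon (A : Matrix (Fin 3) (Fin 3) F) : Prop := ∀ i j k, j ≠ k → A j i * A k i = 0

theorem RowMon.mul {A B : Matrix (Fin 3) (Fin 3) F} (hA : RowMon A) (hB : RowMon B) :
    RowMon (A * B) := by
  intro i j k hjk
  rw [Matrix.mul_apply, Matrix.mul_apply, Finset.sum_mul_sum]
  apply Finset.sum_eq_zero
  intro a _
  apply Finset.sum_eq_zero
  intro b _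
  by_cases hab : a = b
  · subst hab
    have := hB a j k hjk
    calc A i a * B a j * (A i a * B a k) = A i a * A i a * (B a j * B a k) := by ring
      _ = 0 := by rw [this, mul_zero]
  · have := hA i a b hab
    calc A i a * B a j * (A i b * B b k) = (A i a * A i b) * (B a j * B b k) := by ring
      _ = 0 := by rw [this, zero_mul]

theorem ColMon.mul {A B : Matrix (Fin 3) (Fin 3) F} (hA : ColMon A) (hB : ColMon B) :
    ColMon (A * B) := by
  intro i j k hjk
  rw [Matrix.mul_apply, Matrix.mul_apply, Finset.sum_mul_sum]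
  apply Finset.sum_eq_zero
  intro a _
  apply Finset.sum_eq_zero
  intro b _
  by_cases hab : a = b
  · subst hab
    have := hA a j k hjk
    calc A j a * B a i * (A k a * B a i) = (A j a * A k a) * (B a i * B a i) := by ring
      _ = 0 := by rw [this, zero_mul]
  · have := hB i a b hab
    calc A j a * B a i * (A k b * B b i) = (A j a * A k b) * (B a i * B b i) := by ring
      _ = 0 := by rw [this, mul_zero]

theorem rowMon_one : RowMon (1 : Matrix (Fin 3) (Fin 3) F) := by
  intro i j k hjk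
  rw [Matrix.one_apply, Matrix.one_apply]
  by_cases h1 : i = j
  · rw [if_neg (fun h : i = k => hjk (h1.symm.trans h)), mul_zero]
  · rw [if_neg h1, zero_mul]

theorem colMon_one : ColMon (1 : Matrix (Fin 3) (Fin 3) F) := by
  intro i j k hjk
  rw [Matrix.one_apply, Matrix.one_apply]
  by_cases h1 : j = i
  · rw [if_neg (fun h : k = i => hjk (h1.trans h.symm)), mul_zero]
  · rw [if_neg h1, zero_mul]

theorem rowMon_gstar {A : Matrix (Fin 3) (Fin 3) F} (hA : ColMon A) : RowMon (gstar A) := by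
  intro i j k hjk
  rw [gstar_apply, gstar_apply, ← mul_pow, hA i j k hjk]
  ring

theorem colMon_gstar {A : Matrix (Fin 3) (Fin 3) F} (hA : RowMon A) : ColMon (gstar A) := by
  intro i j k hjk
  rw [gstar_apply, gstar_apply, ← mul_pow, hA i j k hjk]
  ring

end monomial

section dichotomy

variable {F : Type*} [Field F] [Fintype F]

theorem cube_of_ne (hF : Fintype.card F = 4) {x : F} (hx : x ≠ 0) : x ^ 3 = 1 :=
  pow_three_eq_one hF hx

theorem one_add_one_ne_one (hF : Fintype.card F = 4) : (1 : F) + 1 ≠ 1 := by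
  rw [add_self_eq hF]
  exact zero_ne_one

theorem three_prod (hF : Fintype.card F = 4) (x y z : F) (hsum : x ^ 3 + y ^ 3 + z ^ 3 = 1)
    (hz : x = 0 ∨ y = 0 ∨ z = 0) : x * y = 0 ∧ x * z = 0 ∧ y * z = 0 := by
  rcases hz with h | h | h
  · subst h
    refine ⟨zero_mul _, zero_mul _, ?_⟩
    by_contra hcon
    have hy : y ≠ 0 := fun h => hcon (by rw [h, zero_mul])
    have hz' : z ≠ 0 := fun h => hcon (by rw [h, mul_zero])
    rw [cube_of_ne hF hy, cube_of_ne hF hz', zero_pow (by norm_num), zero_add] at hsum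
    exact one_add_one_ne_one hF hsum
  · subst h
    refine ⟨mul_zero _, ?_, zero_mul _⟩
    by_contra hcon
    have hx : x ≠ 0 := fun h => hcon (by rw [h, zero_mul])
    have hz' : z ≠ 0 := fun h => hcon (by rw [h, mul_zero])
    rw [cube_of_ne hF hx, cube_of_ne hF hz', zero_pow (by norm_num), add_zero] at hsum
    exact one_add_one_ne_one hF hsum
  · subst h
    refine ⟨?_, mul_zero _, mul_zero _⟩
    by_contra hcon
    have hx : x ≠ 0 := fun h => hcon (by rw [h, zero_mul])
    have hy : y ≠ 0 := fun h => hcon (by rw [h, mul_zero])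
    rw [cube_of_ne hF hx, cube_of_ne hF hy, zero_pow (by norm_num), add_zero] at hsum
    exact one_add_one_ne_one hF hsum

theorem col_cubes {A : Matrix (Fin 3) (Fin 3) F} (hU : gstar A * A = 1) (j : Fin 3) :
    (A 0 j) ^ 3 + (A 1 j) ^ 3 + (A 2 j) ^ 3 = 1 := by
  have := explicit_of_gstar_mul hU j j
  rw [if_pos rfl] at this
  rw [← this]
  ring

/-- A column with a zero entry has at most one non-zero entry. -/
theorem colMonAt_of_zero (hF : Fintype.card F = 4) {A : Matrix (Fin 3) (Fin 3) F}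
    (hU : gstar A * A = 1) (j : Fin 3) (hz : ∃ i, A i j = 0) :
    ∀ i i', i ≠ i' → A i j * A i' j = 0 := by
  have h3 : A 0 j = 0 ∨ A 1 j = 0 ∨ A 2 j = 0 := by
    obtain ⟨i, hi⟩ := hz
    fin_cases i
    · exact Or.inl hi
    · exact Or.inr (Or.inl hi)
    · exact Or.inr (Or.inr hi)
  obtain ⟨h01, h02, h12⟩ := three_prod hF _ _ _ (col_cubes hU j) h3
  intro i i' hii'
  fin_cases i <;> fin_cases i' <;> first
    | exact absurd rfl hii'
    | exact h01
    | exact h02
    | exact h12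
    | (rw [mul_comm]; exact h01)
    | (rw [mul_comm]; exact h02)
    | (rw [mul_comm]; exact h12)

/-- If column `j` has at most one non-zero entry then any other column has a zero entry. -/
theorem exists_zero_of_colMonAt (hF : Fintype.card F = 4) {A : Matrix (Fin 3) (Fin 3) F}
    (hU : gstar A * A = 1) (j k : Fin 3) (hjk : j ≠ k)
    (hj : ∀ i i', i ≠ i' → A i j * A i' j = 0) : ∃ a, A a k = 0 := by
  have hne : ∃ a, A a j ≠ 0 := by
    by_contra hcon
    push Not at hcon
    have := col_cubes hU j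
    rw [hcon 0, hcon 1, hcon 2] at this
    norm_num at this
  obtain ⟨a, ha⟩ := hne
  have hzero : ∀ i, i ≠ a → A i j = 0 := by
    intro i hia
    rcases mul_eq_zero.mp (hj i a hia) with h | h
    · exact h
    · exact absurd h ha
  have horth := explicit_of_gstar_mul hU j k
  rw [if_neg hjk] at horth
  refine ⟨a, ?_⟩
  fin_cases a
  · rw [hzero 1 (by decide), hzero 2 (by decide)] at horth
    simp only [ne_eq, OfNat.ofNat_ne_zero, not_false_eq_true, zero_pow, zero_mul, add_zero] at horth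
    rcases mul_eq_zero.mp horth with h | h
    · exact absurd (pow_eq_zero_iff (by norm_num) |>.mp h) ha
    · exact h
  · rw [hzero 0 (by decide), hzero 2 (by decide)] at horth
    simp only [ne_eq, OfNat.ofNat_ne_zero, not_false_eq_true, zero_pow, zero_mul, add_zero, zero_add] at horth
    rcases mul_eq_zero.mp horth with h | h
    · exact absurd (pow_eq_zero_iff (by norm_num) |>.mp h) ha
    · exact h
  · rw [hzero 0 (by decide), hzero 1 (by decide)] at horth
    simp only [ne_eq, OfNat.ofNat_ne_zero, not_false_eq_true, zero_pow, zero_mul, add_zero, zero_add] at horth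
    rcases mul_eq_zero.mp horth with h | h
    · exact absurd (pow_eq_zero_iff (by norm_num) |>.mp h) ha
    · exact h

theorem colMon_of_zero (hF : Fintype.card F = 4) {A : Matrix (Fin 3) (Fin 3) F}
    (hU : gstar A * A = 1) (hz : ∃ i j, A i j = 0) : ColMon A := by
  obtain ⟨i0, j0, h0⟩ := hz
  have hj0 := colMonAt_of_zero hF hU j0 ⟨i0, h0⟩
  intro j i i' hii'
  by_cases hj : j = j0
  · subst hj
    exact hj0 i i' hii'
  · exact colMonAt_of_zero hF hU j (exists_zero_of_colMonAt hF hU j0 j (Ne.symm hj) hj0) i i' hii'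

theorem rowMon_of_colMon (hF : Fintype.card F = 4) {A : Matrix (Fin 3) (Fin 3) F}
    (hU : gstar A * A = 1) (hC : ColMon A) : RowMon A := by
  intro i j k hjk
  by_contra hcon
  have hij : A i j ≠ 0 := fun h => hcon (by rw [h, zero_mul])
  have hik : A i k ≠ 0 := fun h => hcon (by rw [h, mul_zero])
  have hzero : ∀ l, l ≠ i → A l j = 0 := by
    intro l hl
    rcases mul_eq_zero.mp (hC j l i hl) with h | h
    · exact h
    · exact absurd h hij
  have horth := explicit_of_gstar_mul hU j k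
  rw [if_neg hjk] at horth
  have key : (A i j) ^ 2 * A i k = 0 := by
    fin_cases i
    · rw [hzero 1 (by decide), hzero 2 (by decide)] at horth
      simpa using horth
    · rw [hzero 0 (by decide), hzero 2 (by decide)] at horth
      simpa using horth
    · rw [hzero 0 (by decide), hzero 1 (by decide)] at horth
      simpa using horth
  rcases mul_eq_zero.mp key with h | h
  · exact hij (pow_eq_zero_iff (by norm_num) |>.mp h)
  · exact hik h

end dichotomy

section orders

variable {F : Type*} [Field F] [Fintype F]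

theorem ch3 {R : Type*} [CommRing R] (A : Matrix (Fin 3) (Fin 3) R) :
    A ^ 3 = A.trace • A ^ 2 - (adjugate A).trace • A + A.det • (1 : Matrix (Fin 3) (Fin 3) R) := by
  ext i j
  fin_cases i <;> fin_cases j <;>
    simp [pow_succ, Matrix.mul_apply, Fin.sum_univ_three, Matrix.trace_fin_three, Matrix.det_fin_three,
      Matrix.adjugate_fin_three] <;> ring

theorem adjugate_eq_gstar {A : Matrix (Fin 3) (Fin 3) F} (hU : gstar A * A = 1) (hdet : A.det = 1) :
    adjugate A = gstar A := by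
  calc adjugate A = (gstar A * A) * adjugate A := by rw [hU, one_mul]
    _ = gstar A * (A * adjugate A) := mul_assoc _ _ _
    _ = gstar A := by rw [Matrix.mul_adjugate, hdet, one_smul, mul_one]

/-- An element whose square is scalar has a zero entry. -/
theorem exists_zero_of_sq_scalar (hF : Fintype.card F = 4) {A : Matrix (Fin 3) (Fin 3) F}
    (hU : gstar A * A = 1) (lam : F) (hsq : A * A = lam • (1 : Matrix (Fin 3) (Fin 3) F)) :
    ∃ i j, A i j = 0 := by
  by_contra hall
  push Not at hall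
  have h2 := two_eq_zero hF
  have hA : A = lam • gstar A := by
    calc A = A * (A * gstar A) := by rw [mul_gstar hU, mul_one]
      _ = (A * A) * gstar A := (mul_assoc _ _ _).symm
      _ = lam • gstar A := by rw [hsq, Matrix.smul_mul, one_mul]
  have hent : ∀ i j, A i j = lam * (A j i) ^ 2 := by
    intro i j
    have := congrFun (congrFun hA i) j
    rw [Matrix.smul_apply, gstar_apply, smul_eq_mul] at this
    exact this
  have hdiag : ∀ i, lam * A i i = 1 := by
    intro i
    have h := hent i i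
    have h' : A i i * (lam * A i i) = A i i * 1 := by
      rw [mul_one]
      conv_rhs => rw [h]
      ring
    exact mul_left_cancel₀ (hall i i) h'
  have hlam : lam ≠ 0 := by
    intro h
    have := hdiag 0
    rw [h, zero_mul] at this
    exact zero_ne_one this
  have h0011 : A 0 0 = A 1 1 := by
    apply mul_left_cancel₀ hlam
    rw [hdiag 0, hdiag 1]
  have h01 := congrFun (congrFun hsq 0) 1
  rw [Matrix.mul_apply, Fin.sum_univ_three, Matrix.smul_apply, Matrix.one_apply,
    if_neg (by decide), smul_zero] at h01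
  have : A 0 2 * A 2 1 = 0 := by
    rw [← h0011] at h01
    linear_combination h01 - (A 0 0 * A 0 1) * h2
  rcases mul_eq_zero.mp this with h | h
  · exact hall 0 2 h
  · exact hall 2 1 h

/-- An element without zero entries has non-zero trace. -/
theorem trace_ne_zero (hF : Fintype.card F = 4) {A : Matrix (Fin 3) (Fin 3) F}
    (hU : gstar A * A = 1) (hdet : A.det = 1) (hall : ∀ i j, A i j ≠ 0) : A.trace ≠ 0 := by
  intro ht
  have h2 := two_eq_zero hF
  rw [Matrix.trace_fin_three] at ht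
  have hadj := congrFun (congrFun (adjugate_eq_gstar hU hdet) 0) 0
  rw [Matrix.adjugate_fin_three, gstar_apply] at hadj
  simp only [Matrix.of_apply, Matrix.cons_val_zero] at hadj
  have hx := cube_of_ne hF (hall 0 0)
  have hy := cube_of_ne hF (hall 1 1)
  have hz := cube_of_ne hF (hall 2 2)
  have hprod : A 0 0 * A 1 1 * A 2 2 = 1 := by
    linear_combination hx + hy + hz -
      ((A 0 0) ^ 2 + (A 1 1) ^ 2 + (A 2 2) ^ 2 - A 0 0 * A 1 1 - A 1 1 * A 2 2 - A 2 2 * A 0 0) * ht -
      (A 0 0 * A 1 1 * A 2 2 - 1) * h2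
  have : A 0 0 * A 1 2 * A 2 1 = 0 := by
    linear_combination hprod - hx - (A 0 0) * hadj
  rcases mul_eq_zero.mp this with h | h
  · rcases mul_eq_zero.mp h with h | h
    · exact hall 0 0 h
    · exact hall 1 2 h
  · exact hall 2 1 h

theorem pow_four_eq_trace (hF : Fintype.card F = 4) {A : Matrix (Fin 3) (Fin 3) F}
    (hU : gstar A * A = 1) (hdet : A.det = 1) (ht : A.trace ≠ 0) :
    A ^ 4 = A.trace • (1 : Matrix (Fin 3) (Fin 3) F) := by
  have h2 := two_eq_zero hF
  obtain ⟨t, htdef⟩ : ∃ t, t = A.trace := ⟨_, rfl⟩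
  have hs : (adjugate A).trace = t ^ 2 := by
    rw [adjugate_eq_gstar hU hdet, htdef, Matrix.trace_fin_three, Matrix.trace_fin_three, gstar_apply,
      gstar_apply, gstar_apply]
    linear_combination (-(A 0 0 * A 1 1 + A 0 0 * A 2 2 + A 1 1 * A 2 2)) * h2
  have ht3 : t * t ^ 2 = 1 := by
    rw [← pow_succ']
    exact cube_of_ne hF (htdef ▸ ht)
  have h3 : A ^ 3 = t • A ^ 2 - t ^ 2 • A + 1 := by
    rw [ch3 A, hs, hdet, one_smul, ← htdef]
  rw [← htdef]
  calc A ^ 4 = A ^ 3 * A := pow_succ A 3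
    _ = t • A ^ 3 - t ^ 2 • A ^ 2 + A := by
      rw [h3, add_mul, sub_mul, smul_mul_assoc, smul_mul_assoc, one_mul, ← pow_succ, ← pow_two, ← h3]
    _ = t • (t • A ^ 2 - t ^ 2 • A + 1) - t ^ 2 • A ^ 2 + A := by rw [h3]
    _ = t • 1 := by
      rw [smul_add, smul_sub, smul_smul, smul_smul, ht3, one_smul, ← pow_two]
      abel

end orders

section explicit

variable {F : Type*} [Field F] [Fintype F]

/-- The diagonal matrix `diag(1, ω, ω²)`. -/
def Dm (ω : F) : Matrix (Fin 3) (Fin 3) F := !![1, 0, 0; 0, ω, 0; 0, 0, ω ^ 2]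

/-- The Fourier matrix. -/
def Fm (ω : F) : Matrix (Fin 3) (Fin 3) F := !![1, 1, 1; 1, ω, ω ^ 2; 1, ω ^ 2, ω]

theorem gstar_Dm {ω : F} (h2 : (2 : F) = 0) (hω : ω ^ 2 + ω + 1 = 0) :
    gstar (Dm ω) * Dm ω = 1 := by
  ext i j
  fin_cases i <;> fin_cases j <;>
    simp [gstar, Dm, Matrix.mul_apply, Fin.sum_univ_three] <;> grind

theorem det_Dm {ω : F} (h2 : (2 : F) = 0) (hω : ω ^ 2 + ω + 1 = 0) : (Dm ω).det = 1 := by
  rw [Matrix.det_fin_three]
  simp [Dm]
  grind

theorem gstar_Fm {ω : F} (h2 : (2 : F) = 0) (hω : ω ^ 2 + ω + 1 = 0) :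
    gstar (Fm ω) * Fm ω = 1 := by
  ext i j
  fin_cases i <;> fin_cases j <;>
    simp [gstar, Fm, Matrix.mul_apply, Fin.sum_univ_three] <;> grind

theorem det_Fm {ω : F} (h2 : (2 : F) = 0) (hω : ω ^ 2 + ω + 1 = 0) : (Fm ω).det = 1 := by
  rw [Matrix.det_fin_three]
  simp [Fm]
  grind

end explicit

section group

variable {F : Type*} [Field F] [Fintype F]

/-- The matrix of an element of `SU₃`. -/
def mat (g : SU 3 F 2) : Matrix (Fin 3) (Fin 3) F :=
  ((g : Matrix.SpecialLinearGroup (Fin 3) F) : Matrix (Fin 3) (Fin 3) F)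

theorem mat_mul (g h : SU 3 F 2) : mat (g * h) = mat g * mat h := rfl

theorem mat_one : mat (1 : SU 3 F 2) = 1 := rfl

theorem mat_pow (g : SU 3 F 2) (n : ℕ) : mat (g ^ n) = mat g ^ n := by
  induction n with
  | zero => rfl
  | succ n ih => rw [pow_succ, pow_succ, mat_mul, ih]

theorem mat_injective {g h : SU 3 F 2} (hgh : mat g = mat h) : g = h :=
  Subtype.ext (Subtype.ext hgh)

theorem mat_unitary (g : SU 3 F 2) : gstar (mat g) * mat g = 1 := gstar_mul_of_mem g.2

theorem mat_det (g : SU 3 F 2) : (mat g).det = 1 := g.1.2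

theorem mat_inv (g : SU 3 F 2) : mat g⁻¹ = gstar (mat g) := by
  have h1 : mat g⁻¹ * mat g = 1 := by rw [← mat_mul, inv_mul_cancel, mat_one]
  calc mat g⁻¹ = mat g⁻¹ * (mat g * gstar (mat g)) := by rw [mul_gstar (mat_unitary g), mul_one]
    _ = (mat g⁻¹ * mat g) * gstar (mat g) := (mul_assoc _ _ _).symm
    _ = gstar (mat g) := by rw [h1, one_mul]

/-- The monomial subgroup. -/
def monSub : Subgroup (SU 3 F 2) where
  carrier := {g | RowMon (mat g) ∧ ColMon (mat g)}
  mul_mem' := by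
    rintro a b ⟨ha1, ha2⟩ ⟨hb1, hb2⟩
    exact ⟨by rw [mat_mul]; exact ha1.mul hb1, by rw [mat_mul]; exact ha2.mul hb2⟩
  one_mem' := ⟨by rw [mat_one]; exact rowMon_one, by rw [mat_one]; exact colMon_one⟩
  inv_mem' := by
    rintro a ⟨ha1, ha2⟩
    exact ⟨by rw [mat_inv]; exact rowMon_gstar ha2, by rw [mat_inv]; exact colMon_gstar ha1⟩

theorem mem_monSub (g : SU 3 F 2) : g ∈ monSub ↔ RowMon (mat g) ∧ ColMon (mat g) := Iff.rfl

theorem mem_monSub_of_zero (hF : Fintype.card F = 4) (g : SU 3 F 2) (hz : ∃ i j, mat g i j = 0) :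
    g ∈ monSub := by
  have hC := colMon_of_zero hF (mat_unitary g) hz
  exact ⟨rowMon_of_colMon hF (mat_unitary g) hC, hC⟩

/-- `diag(1, ω, ω²)` in `SU₃`. -/
def dEl (hF : Fintype.card F = 4) (ω : F) (hω : ω ^ 2 + ω + 1 = 0) : SU 3 F 2 :=
  ⟨⟨Dm ω, det_Dm (two_eq_zero hF) hω⟩, mem_SU_of_gstar_mul hF _ (gstar_Dm (two_eq_zero hF) hω)⟩

/-- The Fourier matrix in `SU₃`. -/
def fEl (hF : Fintype.card F = 4) (ω : F) (hω : ω ^ 2 + ω + 1 = 0) : SU 3 F 2 :=
  ⟨⟨Fm ω, det_Fm (two_eq_zero hF) hω⟩, mem_SU_of_gstar_mul hF _ (gstar_Fm (two_eq_zero hF) hω)⟩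

theorem mat_dEl (hF : Fintype.card F = 4) (ω : F) (hω : ω ^ 2 + ω + 1 = 0) :
    mat (dEl hF ω hω) = Dm ω := rfl

theorem mat_fEl (hF : Fintype.card F = 4) (ω : F) (hω : ω ^ 2 + ω + 1 = 0) :
    mat (fEl hF ω hω) = Fm ω := rfl

theorem Dm_eq_diagonal (ω : F) : Dm ω = Matrix.diagonal ![1, ω, ω ^ 2] := by
  ext i j
  fin_cases i <;> fin_cases j <;> simp [Dm]

theorem scalar_of_mem_center (hF : Fintype.card F = 4) {z : SU 3 F 2}
    (hz : z ∈ Subgroup.center (SU 3 F 2)) : ∃ c : F, mat z = c • (1 : Matrix (Fin 3) (Fin 3) F) := by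
  obtain ⟨ω, h0, h1, hω⟩ := exists_omega hF
  have h2 := two_eq_zero hF
  rw [Subgroup.mem_center_iff] at hz
  have hd : Dm ω * mat z = mat z * Dm ω := by
    rw [← mat_dEl hF ω hω, ← mat_mul, ← mat_mul, hz]
  have hf : Fm ω * mat z = mat z * Fm ω := by
    rw [← mat_fEl hF ω hω, ← mat_mul, ← mat_mul, hz]
  have hdist : ∀ i j : Fin 3, i ≠ j → (![1, ω, ω ^ 2] : Fin 3 → F) i ≠ ![1, ω, ω ^ 2] j := by
    have hne1 : ω ^ 2 ≠ 1 := by
      intro h
      apply h0
      have : ω = 0 := by linear_combination hω - h - h2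
      exact this
    have hne2 : ω ^ 2 ≠ ω := by
      intro h
      have : (1 : F) = 0 := by linear_combination hω - h - ω * h2
      exact one_ne_zero this
    intro i j hij
    fin_cases i <;> fin_cases j
    · exact absurd rfl hij
    · show (1 : F) ≠ ω
      exact Ne.symm h1
    · show (1 : F) ≠ ω ^ 2
      exact Ne.symm hne1
    · show ω ≠ 1
      exact h1
    · exact absurd rfl hij
    · show ω ≠ ω ^ 2
      exact Ne.symm hne2
    · show ω ^ 2 ≠ 1
      exact hne1
    · show ω ^ 2 ≠ ω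
      exact hne2
    · exact absurd rfl hij
  have hoff : ∀ i j, i ≠ j → mat z i j = 0 := by
    intro i j hij
    have := congrFun (congrFun hd i) j
    rw [Dm_eq_diagonal, Matrix.diagonal_mul, Matrix.mul_diagonal] at this
    have h' : ((![1, ω, ω ^ 2] : Fin 3 → F) i - ![1, ω, ω ^ 2] j) * mat z i j = 0 := by
      rw [sub_mul, this]
      ring
    rcases mul_eq_zero.mp h' with h | h
    · exact absurd (sub_eq_zero.mp h) (hdist i j hij)
    · exact h
  have h01 := congrFun (congrFun hf 0) 1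
  have h02 := congrFun (congrFun hf 0) 2
  rw [Matrix.mul_apply, Matrix.mul_apply, Fin.sum_univ_three, Fin.sum_univ_three] at h01 h02
  rw [hoff 0 1 (by decide), hoff 0 2 (by decide), hoff 2 1 (by decide)] at h01
  rw [hoff 0 1 (by decide), hoff 0 2 (by decide), hoff 1 2 (by decide)] at h02
  simp [Fm] at h01 h02
  refine ⟨mat z 0 0, ?_⟩
  ext i j
  rw [Matrix.smul_apply, Matrix.one_apply, smul_eq_mul]
  by_cases hij : i = j
  · subst hij
    rw [if_pos rfl, mul_one]
    fin_cases i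
    · rfl
    · exact h01
    · exact h02
  · rw [if_neg hij, mul_zero]
    exact hoff i j hij

theorem mem_center_of_scalar {g : SU 3 F 2} {c : F}
    (hg : mat g = c • (1 : Matrix (Fin 3) (Fin 3) F)) : g ∈ Subgroup.center (SU 3 F 2) := by
  rw [Subgroup.mem_center_iff]
  intro h
  apply mat_injective
  rw [mat_mul, mat_mul, hg, Matrix.mul_smul, Matrix.smul_mul, mul_one, one_mul]

theorem center_le_monSub (hF : Fintype.card F = 4) : Subgroup.center (SU 3 F 2) ≤ (monSub (F := F)) := by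
  intro z hz
  obtain ⟨c, hc⟩ := scalar_of_mem_center hF hz
  apply mem_monSub_of_zero hF z
  refine ⟨0, 1, ?_⟩
  rw [hc, Matrix.smul_apply, Matrix.one_apply, if_neg (by decide), smul_zero]

theorem fEl_not_mem (hF : Fintype.card F = 4) (ω : F) (hω : ω ^ 2 + ω + 1 = 0) :
    fEl hF ω hω ∉ monSub := by
  rintro ⟨h, -⟩
  have := h 0 0 1 (by decide)
  rw [mat_fEl] at this
  simp [Fm] at this

/-- Every element with a prime power in the centre is monomial. -/
theorem mem_monSub_of_pow_mem_center (hF : Fintype.card F = 4) (g : SU 3 F 2) (p : ℕ) (hp : p.Prime)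
    (hgp : g ^ p ∈ Subgroup.center (SU 3 F 2)) : g ∈ monSub := by
  by_contra hgN
  have hall : ∀ i j, mat g i j ≠ 0 := by
    intro i j h
    exact hgN (mem_monSub_of_zero hF g ⟨i, j, h⟩)
  obtain ⟨lam, hlam⟩ := scalar_of_mem_center hF hgp
  rw [mat_pow] at hlam
  rcases hp.eq_two_or_odd' with rfl | hodd
  · rw [pow_two] at hlam
    obtain ⟨i, j, h⟩ := exists_zero_of_sq_scalar hF (mat_unitary g) lam hlam
    exact hall i j h
  · have ht := trace_ne_zero hF (mat_unitary g) (mat_det g) hall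
    have h4 := pow_four_eq_trace hF (mat_unitary g) (mat_det g) ht
    rw [← mat_pow] at h4
    have h4c : g ^ 4 ∈ Subgroup.center (SU 3 F 2) := mem_center_of_scalar h4
    -- pass to the quotient
    have hq4 : (QuotientGroup.mk g : SU 3 F 2 ⧸ Subgroup.center (SU 3 F 2)) ^ 4 = 1 := by
      rw [← QuotientGroup.mk_pow, QuotientGroup.eq_one_iff]
      exact h4c
    have hqp : (QuotientGroup.mk g : SU 3 F 2 ⧸ Subgroup.center (SU 3 F 2)) ^ p = 1 := by
      rw [← QuotientGroup.mk_pow, QuotientGroup.eq_one_iff]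
      exact hgp
    have hord : orderOf (QuotientGroup.mk g : SU 3 F 2 ⧸ Subgroup.center (SU 3 F 2)) ∣ Nat.gcd 4 p :=
      Nat.dvd_gcd (orderOf_dvd_of_pow_eq_one hq4) (orderOf_dvd_of_pow_eq_one hqp)
    have hcop : Nat.gcd 4 p = 1 := by
      have : Nat.Coprime (2 ^ 2) p := Nat.Coprime.pow_left 2 (Nat.coprime_two_left.mpr hodd)
      exact this
    rw [hcop, Nat.dvd_one, orderOf_eq_one_iff, QuotientGroup.eq_one_iff] at hord
    exact hgN (center_le_monSub hF hord)

instance finiteSU : Finite (SU 3 F 2) := by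
  haveI : Finite (Matrix.SpecialLinearGroup (Fin 3) F) :=
    Finite.of_injective (fun g => (g : Matrix (Fin 3) (Fin 3) F)) (fun a b h => Subtype.ext h)
  infer_instance

end group

/-- The subgroup lattice of PSU₃(2) (the solvable group of order 72, realised over the field with 4 elements) is not complemented: some subgroup H has no subgroup X with H ⊔ X = ⊤ and H ⊓ X = ⊥. -/
theorem result {F : Type*} [Field F] [Fintype F] (hF : Fintype.card F = 4) :
    ¬ ComplementedLattice (Subgroup (Cfsg.PSU 3 F 2)) := by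
  intro hcomp
  obtain ⟨ω, h0, h1, hω⟩ := exists_omega hF
  obtain ⟨Nbar, hNbar⟩ : ∃ Nbar : Subgroup (Cfsg.PSU 3 F 2),
      Nbar = (monSub (F := F)).map (QuotientGroup.mk' (Subgroup.center (SU 3 F 2))) := ⟨_, rfl⟩
  -- proper
  have hne : Nbar ≠ ⊤ := by
    intro htop
    have : (QuotientGroup.mk' (Subgroup.center (SU 3 F 2))) (fEl hF ω hω) ∈ Nbar := by
      rw [htop]
      exact Subgroup.mem_top _
    rw [hNbar] at this
    obtain ⟨n, hn, hnf⟩ := this
    have hz : n⁻¹ * fEl hF ω hω ∈ Subgroup.center (SU 3 F 2) := by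
      rw [← QuotientGroup.eq]
      exact hnf
    have := monSub.mul_mem hn (center_le_monSub hF hz)
    rw [mul_inv_cancel_left] at this
    exact fEl_not_mem hF ω hω this
  -- contains all elements of prime order
  have hprime : ∀ x : Cfsg.PSU 3 F 2, ∀ p : ℕ, p.Prime → x ^ p = 1 → x ∈ Nbar := by
    intro x p hp hx
    obtain ⟨g, rfl⟩ := QuotientGroup.mk_surjective x
    rw [← QuotientGroup.mk_pow, QuotientGroup.eq_one_iff] at hx
    rw [hNbar]
    exact ⟨g, mem_monSub_of_pow_mem_center hF g p hp hx, rfl⟩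
  obtain ⟨X, hX⟩ := hcomp.exists_isCompl Nbar
  have hXne : X ≠ ⊥ := by
    rintro rfl
    exact hne (by simpa using hX.sup_eq_top)
  haveI : Nontrivial X := (Subgroup.nontrivial_iff_ne_bot X).mpr hXne
  obtain ⟨x, hxX, hx1⟩ := X.exists_ne_one_of_nontrivial
  haveI : Finite (Cfsg.PSU 3 F 2) := inferInstance
  have hn0 : orderOf x ≠ 0 := (orderOf_pos x).ne'
  have hn1 : orderOf x ≠ 1 := fun h => hx1 (orderOf_eq_one_iff.mp h)
  have hp := Nat.minFac_prime hn1
  have hdvd := Nat.minFac_dvd (orderOf x)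
  have hy := orderOf_pow_orderOf_div hn0 hdvd
  obtain ⟨y, hydef⟩ : ∃ y, y = x ^ (orderOf x / (orderOf x).minFac) := ⟨_, rfl⟩
  rw [← hydef] at hy
  have hyX : y ∈ X := hydef ▸ X.pow_mem hxX _
  have hyp : y ^ (orderOf x).minFac = 1 := by
    rw [← hy]
    exact pow_orderOf_eq_one y
  have hyN : y ∈ Nbar := hprime y _ hp hyp
  have hbot : y ∈ Nbar ⊓ X := ⟨hyN, hyX⟩
  rw [hX.inf_eq_bot, Subgroup.mem_bot] at hbot
  rw [hbot, orderOf_one] at hy
  exact hp.one_lt.ne hy

end Cfsg.Agent.S5908
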