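import Cfsg.Statements.S0827
import Mathlib
import Cfsg.Agent.S5908
import Cfsg.Agent.S0282
import Cfsg.Agent.Lib.Helper95.Sharp2Deg9

set_option autoImplicit false
set_option linter.unusedSectionVars false
set_option linter.style.haveILetI false
open Cfsg

namespace Cfsg.Agent.S0827

open Matrix Cfsg.Agent.S5908

section patterns

variable {F : Type*} [Field F] [Fintype F]

/-- Cyclic monomial pattern: the entry `(i, j)` vanishes unless `j = i + k`. -/
def Cyc (A : Matrix (Fin 3) (Fin 3) F) : Prop := ∃ k : Fin 3, ∀ i j, j ≠ i + k → A i j = 0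

/-- Anti-cyclic (transposition) monomial pattern: the entry `(i, j)` vanishes unless `j = k - i`. -/
def Anti (A : Matrix (Fin 3) (Fin 3) F) : Prop := ∃ k : Fin 3, ∀ i j, j ≠ k - i → A i j = 0

lemma Cyc.mul {A B : Matrix (Fin 3) (Fin 3) F} (hA : Cyc A) (hB : Cyc B) : Cyc (A * B) := by
  obtain ⟨k, hk⟩ := hA
  obtain ⟨l, hl⟩ := hB
  refine ⟨k + l, fun i j hj => ?_⟩
  rw [Matrix.mul_apply]
  apply Finset.sum_eq_zero
  intro m _
  by_cases hm : m = i + k
  · subst hm
    rw [hl _ _ (by rwa [add_assoc]), mul_zero]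
  · rw [hk _ _ hm, zero_mul]

lemma Anti.mul_anti {A B : Matrix (Fin 3) (Fin 3) F} (hA : Anti A) (hB : Anti B) :
    Cyc (A * B) := by
  obtain ⟨k, hk⟩ := hA
  obtain ⟨l, hl⟩ := hB
  refine ⟨l - k, fun i j hj => ?_⟩
  rw [Matrix.mul_apply]
  apply Finset.sum_eq_zero
  intro m _
  by_cases hm : m = k - i
  · subst hm
    rw [hl _ _ (by intro h; apply hj; rw [h]; abel), mul_zero]
  · rw [hk _ _ hm, zero_mul]

lemma Cyc.mul_anti {A B : Matrix (Fin 3) (Fin 3) F} (hA : Cyc A) (hB : Anti B) :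
    Anti (A * B) := by
  obtain ⟨k, hk⟩ := hA
  obtain ⟨l, hl⟩ := hB
  refine ⟨l - k, fun i j hj => ?_⟩
  rw [Matrix.mul_apply]
  apply Finset.sum_eq_zero
  intro m _
  by_cases hm : m = i + k
  · subst hm
    rw [hl _ _ (by intro h; apply hj; rw [h]; abel), mul_zero]
  · rw [hk _ _ hm, zero_mul]

lemma cyc_one : Cyc (1 : Matrix (Fin 3) (Fin 3) F) :=
  ⟨0, fun i j hj => Matrix.one_apply_ne (by rw [add_zero] at hj; exact fun h => hj h.symm)⟩

lemma cyc_smul_one (c : F) : Cyc (c • (1 : Matrix (Fin 3) (Fin 3) F)) := by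
  refine ⟨0, fun i j hj => ?_⟩
  rw [add_zero] at hj
  rw [Matrix.smul_apply, Matrix.one_apply_ne (fun h => hj h.symm), smul_zero]

lemma Cyc.gstar {A : Matrix (Fin 3) (Fin 3) F} (hA : Cyc A) : Cyc (gstar A) := by
  obtain ⟨k, hk⟩ := hA
  refine ⟨-k, fun i j hj => ?_⟩
  rw [gstar_apply, hk j i (by intro h; apply hj; rw [h]; abel)]
  ring

lemma Anti.ne_one {B : Matrix (Fin 3) (Fin 3) F} (hB : Anti B) : B ≠ 1 := by
  obtain ⟨k, hk⟩ := hB
  intro h
  fin_cases k
  · have := hk 1 1 (by decide)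
    rw [h] at this
    simp at this
  · have := hk 0 0 (by decide)
    rw [h] at this
    simp at this
  · have := hk 0 0 (by decide)
    rw [h] at this
    simp at this

lemma Anti.pow_three_ne_one {A : Matrix (Fin 3) (Fin 3) F} (hA : Anti A) : A ^ 3 ≠ 1 := by
  have h2 : Cyc (A * A) := hA.mul_anti hA
  have h3 : Anti (A * A * A) := h2.mul_anti hA
  have : A ^ 3 = A * A * A := by rw [pow_succ, pow_two]
  rw [this]
  exact h3.ne_one

/-- A monomial matrix with non-zero determinant is cyclic or anti-cyclic. -/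
lemma cyc_or_anti {A : Matrix (Fin 3) (Fin 3) F} (hR : RowMon A) (hdet : A.det ≠ 0) :
    Cyc A ∨ Anti A := by
  have rz : ∀ {i j k : Fin 3}, A i j ≠ 0 → k ≠ j → A i k = 0 := by
    intro i j k h hk
    exact (mul_eq_zero.mp (hR i j k (Ne.symm hk))).resolve_left h
  rw [Matrix.det_fin_three] at hdet
  by_cases t1 : A 0 0 * A 1 1 * A 2 2 ≠ 0
  · left
    have a := left_ne_zero_of_mul (left_ne_zero_of_mul t1)
    have b := right_ne_zero_of_mul (left_ne_zero_of_mul t1)
    have c := right_ne_zero_of_mul t1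
    refine ⟨0, fun i j hj => ?_⟩
    fin_cases i <;> fin_cases j <;> first | exact absurd rfl hj | exact rz a (by decide) | exact rz b (by decide) | exact rz c (by decide)
  by_cases t2 : A 0 1 * A 1 2 * A 2 0 ≠ 0
  · left
    have a := left_ne_zero_of_mul (left_ne_zero_of_mul t2)
    have b := right_ne_zero_of_mul (left_ne_zero_of_mul t2)
    have c := right_ne_zero_of_mul t2
    refine ⟨1, fun i j hj => ?_⟩
    fin_cases i <;> fin_cases j <;> first | exact absurd rfl hj | exact rz a (by decide) | exact rz b (by decide) | exact rz c (by decide)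
  by_cases t3 : A 0 2 * A 1 0 * A 2 1 ≠ 0
  · left
    have a := left_ne_zero_of_mul (left_ne_zero_of_mul t3)
    have b := right_ne_zero_of_mul (left_ne_zero_of_mul t3)
    have c := right_ne_zero_of_mul t3
    refine ⟨2, fun i j hj => ?_⟩
    fin_cases i <;> fin_cases j <;> first | exact absurd rfl hj | exact rz a (by decide) | exact rz b (by decide) | exact rz c (by decide)
  by_cases t4 : A 0 0 * A 1 2 * A 2 1 ≠ 0
  · right
    have a := left_ne_zero_of_mul (left_ne_zero_of_mul t4)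
    have b := right_ne_zero_of_mul (left_ne_zero_of_mul t4)
    have c := right_ne_zero_of_mul t4
    refine ⟨0, fun i j hj => ?_⟩
    fin_cases i <;> fin_cases j <;> first | exact absurd rfl hj | exact rz a (by decide) | exact rz b (by decide) | exact rz c (by decide)
  by_cases t5 : A 0 1 * A 1 0 * A 2 2 ≠ 0
  · right
    have a := left_ne_zero_of_mul (left_ne_zero_of_mul t5)
    have b := right_ne_zero_of_mul (left_ne_zero_of_mul t5)
    have c := right_ne_zero_of_mul t5
    refine ⟨1, fun i j hj => ?_⟩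
    fin_cases i <;> fin_cases j <;> first | exact absurd rfl hj | exact rz a (by decide) | exact rz b (by decide) | exact rz c (by decide)
  by_cases t6 : A 0 2 * A 1 1 * A 2 0 ≠ 0
  · right
    have a := left_ne_zero_of_mul (left_ne_zero_of_mul t6)
    have b := right_ne_zero_of_mul (left_ne_zero_of_mul t6)
    have c := right_ne_zero_of_mul t6
    refine ⟨2, fun i j hj => ?_⟩
    fin_cases i <;> fin_cases j <;> first | exact absurd rfl hj | exact rz a (by decide) | exact rz b (by decide) | exact rz c (by decide)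
  exfalso
  push Not at t1 t2 t3 t4 t5 t6
  apply hdet
  rw [t1, t2, t3, t4, t5, t6]
  ring

/-- A cyclic monomial matrix of determinant one over the field with four elements has cube `1`. -/
lemma Cyc.pow_three {A : Matrix (Fin 3) (Fin 3) F} (hA : Cyc A) (hdet : A.det = 1)
    (hc : ∀ x : F, x ≠ 0 → x ^ 3 = 1) : A ^ 3 = 1 := by
  obtain ⟨k, hk⟩ := hA
  rw [Matrix.det_fin_three] at hdet
  fin_cases k
  · have z01 : A 0 1 = 0 := hk 0 1 (by decide)
    have z02 : A 0 2 = 0 := hk 0 2 (by decide)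
    have z10 : A 1 0 = 0 := hk 1 0 (by decide)
    have z12 : A 1 2 = 0 := hk 1 2 (by decide)
    have z20 : A 2 0 = 0 := hk 2 0 (by decide)
    have z21 : A 2 1 = 0 := hk 2 1 (by decide)
    simp only [z01, z02, z10, z12, z20, z21, mul_zero, zero_mul, sub_zero, add_zero] at hdet
    have a0 : A 0 0 ≠ 0 := left_ne_zero_of_mul (left_ne_zero_of_mul (hdet ▸ one_ne_zero))
    have a1 : A 1 1 ≠ 0 := right_ne_zero_of_mul (left_ne_zero_of_mul (hdet ▸ one_ne_zero))
    have a2 : A 2 2 ≠ 0 := right_ne_zero_of_mul (hdet ▸ one_ne_zero)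
    have c0 := hc _ a0
    have c1 := hc _ a1
    have c2 := hc _ a2
    ext i j
    fin_cases i <;> fin_cases j <;>
      simp [pow_succ, Matrix.mul_apply, Fin.sum_univ_three, z01, z02, z10, z12, z20, z21] <;>
      first | linear_combination c0 | linear_combination c1 | linear_combination c2
  · have z00 : A 0 0 = 0 := hk 0 0 (by decide)
    have z02 : A 0 2 = 0 := hk 0 2 (by decide)
    have z10 : A 1 0 = 0 := hk 1 0 (by decide)
    have z11 : A 1 1 = 0 := hk 1 1 (by decide)
    have z21 : A 2 1 = 0 := hk 2 1 (by decide)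
    have z22 : A 2 2 = 0 := hk 2 2 (by decide)
    simp only [z00, z02, z10, z11, z21, z22, mul_zero, zero_mul, sub_zero, add_zero,
      zero_add] at hdet
    ext i j
    fin_cases i <;> fin_cases j <;>
      simp [pow_succ, Matrix.mul_apply, Fin.sum_univ_three, z00, z02, z10, z11, z21, z22] <;>
      linear_combination hdet
  · have z00 : A 0 0 = 0 := hk 0 0 (by decide)
    have z01 : A 0 1 = 0 := hk 0 1 (by decide)
    have z11 : A 1 1 = 0 := hk 1 1 (by decide)
    have z12 : A 1 2 = 0 := hk 1 2 (by decide)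
    have z20 : A 2 0 = 0 := hk 2 0 (by decide)
    have z22 : A 2 2 = 0 := hk 2 2 (by decide)
    simp only [z00, z01, z11, z12, z20, z22, mul_zero, zero_mul, sub_zero, add_zero,
      zero_add] at hdet
    ext i j
    fin_cases i <;> fin_cases j <;>
      simp [pow_succ, Matrix.mul_apply, Fin.sum_univ_three, z00, z01, z11, z12, z20, z22] <;>
      linear_combination hdet

end patterns

section group

variable {F : Type*} [Field F] [Fintype F]

/-- The subgroup of cyclic monomial matrices in `SU₃(2)` (extraspecial of order 27). -/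
def E : Subgroup (SU 3 F 2) where
  carrier := {g | Cyc (mat g)}
  mul_mem' := by
    intro a b ha hb
    show Cyc (mat (a * b))
    rw [mat_mul]
    exact Cyc.mul ha hb
  one_mem' := by
    show Cyc (mat (1 : SU 3 F 2))
    rw [mat_one]
    exact cyc_one
  inv_mem' := by
    intro a ha
    show Cyc (mat a⁻¹)
    rw [mat_inv]
    exact Cyc.gstar ha

lemma mem_E (g : SU 3 F 2) : g ∈ (E : Subgroup (SU 3 F 2)) ↔ Cyc (mat g) := Iff.rfl

lemma pow_three_of_mem_E (hF : Fintype.card F = 4) {g : SU 3 F 2} (hg : g ∈ (E : Subgroup (SU 3 F 2))) :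
    g ^ 3 = 1 := by
  apply mat_injective
  rw [mat_pow, mat_one]
  exact Cyc.pow_three hg (mat_det g) (fun x hx => pow_three_eq_one hF hx)

lemma mem_E_or_anti {g : SU 3 F 2} (hg : g ∈ (monSub : Subgroup (SU 3 F 2))) :
    g ∈ (E : Subgroup (SU 3 F 2)) ∨ Anti (mat g) :=
  cyc_or_anti hg.1 (by rw [mat_det]; exact one_ne_zero)

lemma mem_E_of_pow_three (hF : Fintype.card F = 4) {g : SU 3 F 2} (hg : g ^ 3 = 1) :
    g ∈ (E : Subgroup (SU 3 F 2)) := by
  have hm : g ∈ (monSub : Subgroup (SU 3 F 2)) :=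
    mem_monSub_of_pow_mem_center hF g 3 Nat.prime_three (by rw [hg]; exact Subgroup.one_mem _)
  rcases mem_E_or_anti hm with h | h
  · exact h
  · exfalso
    apply h.pow_three_ne_one
    rw [← mat_pow, hg, mat_one]

lemma E_normal (hF : Fintype.card F = 4) : (E : Subgroup (SU 3 F 2)).Normal :=
  ⟨fun e he g => mem_E_of_pow_three hF (by
    rw [conj_pow, pow_three_of_mem_E hF he, mul_one, mul_inv_cancel])⟩

lemma center_le_E (hF : Fintype.card F = 4) :
    Subgroup.center (SU 3 F 2) ≤ (E : Subgroup (SU 3 F 2)) := by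
  intro z hz
  obtain ⟨c, hc⟩ := scalar_of_mem_center hF hz
  rw [mem_E, hc]
  exact cyc_smul_one c

lemma mul_self_mem_E {g : SU 3 F 2} (hg : g ∈ (monSub : Subgroup (SU 3 F 2))) :
    g * g ∈ (E : Subgroup (SU 3 F 2)) := by
  rcases mem_E_or_anti hg with h | h
  · exact Subgroup.mul_mem _ h h
  · rw [mem_E, mat_mul]
    exact h.mul_anti h

lemma pow_four_mem_center (hF : Fintype.card F = 4) {g : SU 3 F 2}
    (hg : g ∉ (monSub : Subgroup (SU 3 F 2))) : g ^ 4 ∈ Subgroup.center (SU 3 F 2) := by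
  have hall : ∀ i j, mat g i j ≠ 0 := fun i j h => hg (mem_monSub_of_zero hF g ⟨i, j, h⟩)
  have ht := trace_ne_zero hF (mat_unitary g) (mat_det g) hall
  have h4 := pow_four_eq_trace hF (mat_unitary g) (mat_det g) ht
  rw [← mat_pow] at h4
  exact mem_center_of_scalar h4

/-- The image of `E` in `PSU₃(2)`. -/
def Ebar : Subgroup (Cfsg.PSU 3 F 2) :=
  (E : Subgroup (SU 3 F 2)).map (QuotientGroup.mk' (Subgroup.center (SU 3 F 2)))

lemma mk_mem_Ebar_iff (hF : Fintype.card F = 4) (g : SU 3 F 2) :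
    (QuotientGroup.mk g : Cfsg.PSU 3 F 2) ∈ (Ebar : Subgroup (Cfsg.PSU 3 F 2)) ↔
      g ∈ (E : Subgroup (SU 3 F 2)) := by
  constructor
  · rintro ⟨e, he, heg⟩
    have hz : e⁻¹ * g ∈ Subgroup.center (SU 3 F 2) := by
      rw [← QuotientGroup.eq]
      exact heg
    have := Subgroup.mul_mem _ he (center_le_E hF hz)
    rwa [mul_inv_cancel_left] at this
  · intro hg
    exact ⟨g, hg, rfl⟩

lemma Ebar_normal (hF : Fintype.card F = 4) : (Ebar : Subgroup (Cfsg.PSU 3 F 2)).Normal :=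
  Subgroup.Normal.map (E_normal hF) _ (QuotientGroup.mk'_surjective _)

end group

/-- U_3(2) ≅ 3².Q_8: PSU_3(2) (form over the field with 4 elements) has a normal subgroup N which is elementary abelian of order 9 such that the quotient by N is isomorphic to the quaternion group of order 8. -/
theorem result {F : Type*} [Field F] [Fintype F] (hF : Fintype.card F = 4) : ∃ (N : Subgroup (Cfsg.PSU 3 F 2)) (_ : N.Normal), Nat.card N = 9 ∧ (∀ x ∈ N, x ^ 3 = 1) ∧ Nonempty (Cfsg.PSU 3 F 2 ⧸ N ≃* QuaternionGroup 2) := by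
  classical
  haveI hNn : (Ebar : Subgroup (Cfsg.PSU 3 F 2)).Normal := Ebar_normal hF
  haveI : Finite (Cfsg.PSU 3 F 2) := inferInstance
  have hcardG : Nat.card (Cfsg.PSU 3 F 2) = 72 := (Cfsg.Agent.S0282.result hF).1
  -- exponent 3
  have h3 : ∀ x ∈ (Ebar : Subgroup (Cfsg.PSU 3 F 2)), x ^ 3 = 1 := by
    rintro x ⟨e, he, rfl⟩
    rw [← map_pow, pow_three_of_mem_E hF he, map_one]
  -- the quotient has exponent dividing 4
  have h4 : ∀ q : Cfsg.PSU 3 F 2 ⧸ (Ebar : Subgroup (Cfsg.PSU 3 F 2)), q ^ 4 = 1 := by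
    intro q
    obtain ⟨x, rfl⟩ := QuotientGroup.mk_surjective q
    obtain ⟨g, rfl⟩ := QuotientGroup.mk_surjective x
    by_cases hg : g ∈ (monSub : Subgroup (SU 3 F 2))
    · have h2 : ((QuotientGroup.mk (QuotientGroup.mk g : Cfsg.PSU 3 F 2) :
          Cfsg.PSU 3 F 2 ⧸ (Ebar : Subgroup (Cfsg.PSU 3 F 2)))) ^ 2 = 1 := by
        rw [← QuotientGroup.mk_pow, QuotientGroup.eq_one_iff, ← QuotientGroup.mk_pow,
          mk_mem_Ebar_iff hF, pow_two]
        exact mul_self_mem_E hg
      calc _ = (((QuotientGroup.mk (QuotientGroup.mk g : Cfsg.PSU 3 F 2) :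
          Cfsg.PSU 3 F 2 ⧸ (Ebar : Subgroup (Cfsg.PSU 3 F 2)))) ^ 2) ^ 2 := by rw [← pow_mul]
        _ = 1 := by rw [h2, one_pow]
    · have hc := pow_four_mem_center hF hg
      have : (QuotientGroup.mk g : Cfsg.PSU 3 F 2) ^ 4 = 1 := by
        rw [← QuotientGroup.mk_pow, QuotientGroup.eq_one_iff]
        exact hc
      rw [← QuotientGroup.mk_pow, this]
      rfl
  -- orders
  haveI : Fact (Nat.Prime 2) := ⟨Nat.prime_two⟩
  haveI : Fact (Nat.Prime 3) := ⟨Nat.prime_three⟩
  have hQp : IsPGroup 2 (Cfsg.PSU 3 F 2 ⧸ (Ebar : Subgroup (Cfsg.PSU 3 F 2))) := by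
    intro q
    exact ⟨2, by rw [show (2 : ℕ) ^ 2 = 4 by norm_num]; exact h4 q⟩
  have hEp : IsPGroup 3 (Ebar : Subgroup (Cfsg.PSU 3 F 2)) := by
    intro x
    refine ⟨1, ?_⟩
    apply Subtype.ext
    rw [pow_one, Subgroup.coe_pow, h3 x x.2]
    rfl
  obtain ⟨m, hm⟩ := hQp.exists_card_eq
  obtain ⟨a, ha⟩ := hEp.exists_card_eq
  have hmul := Subgroup.card_eq_card_quotient_mul_card_subgroup (Ebar : Subgroup (Cfsg.PSU 3 F 2))
  rw [hcardG, hm, ha] at hmul
  have ha2 : a = 2 := by
    have h9 : (3 : ℕ) ^ a ∣ 72 := ⟨2 ^ m, by rw [hmul]; ring⟩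
    have hale : a ≤ 2 := by
      by_contra hlt
      push Not at hlt
      have : (3 : ℕ) ^ 3 ∣ 3 ^ a := pow_dvd_pow 3 hlt
      have := Nat.dvd_trans this h9
      omega
    have h8 : (2 : ℕ) ^ m ∣ 72 := ⟨3 ^ a, hmul⟩
    have hmle : m ≤ 3 := by
      by_contra hlt
      push Not at hlt
      have : (2 : ℕ) ^ 4 ∣ 2 ^ m := pow_dvd_pow 2 hlt
      have := Nat.dvd_trans this h8
      omega
    interval_cases a <;> interval_cases m <;> omega
  have hm3 : m = 3 := by
    subst ha2
    have h8 : (2 : ℕ) ^ m ∣ 72 := ⟨3 ^ 2, hmul⟩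
    have hmle : m ≤ 3 := by
      by_contra hlt
      push Not at hlt
      have : (2 : ℕ) ^ 4 ∣ 2 ^ m := pow_dvd_pow 2 hlt
      have := Nat.dvd_trans this h8
      omega
    interval_cases m <;> omega
  refine ⟨Ebar, hNn, by rw [ha, ha2]; norm_num, h3, ?_⟩
  apply Cfsg.Agent.Helper95.Sharp2.quaternion_of_card_eight (by rw [hm, hm3]; norm_num)
  · -- not cyclic
    intro hcyc
    obtain ⟨q, hq⟩ := (isCyclic_iff_exists_orderOf_eq_natCard).mp hcyc
    rw [hm, hm3] at hq
    have := orderOf_dvd_of_pow_eq_one (h4 q)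
    rw [hq] at this
    omega
  · -- at most one involution
    intro x y hx hy
    have key : ∀ z : Cfsg.PSU 3 F 2 ⧸ (Ebar : Subgroup (Cfsg.PSU 3 F 2)), orderOf z = 2 →
        ∃ g : SU 3 F 2, z = QuotientGroup.mk (QuotientGroup.mk g : Cfsg.PSU 3 F 2) ∧ Anti (mat g) := by
      intro z hz
      obtain ⟨w, rfl⟩ := QuotientGroup.mk_surjective z
      obtain ⟨g, rfl⟩ := QuotientGroup.mk_surjective w
      refine ⟨g, rfl, ?_⟩
      have hz2 : ((QuotientGroup.mk (QuotientGroup.mk g : Cfsg.PSU 3 F 2) :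
          Cfsg.PSU 3 F 2 ⧸ (Ebar : Subgroup (Cfsg.PSU 3 F 2)))) ^ 2 = 1 := by
        have := pow_orderOf_eq_one ((QuotientGroup.mk (QuotientGroup.mk g : Cfsg.PSU 3 F 2) :
          Cfsg.PSU 3 F 2 ⧸ (Ebar : Subgroup (Cfsg.PSU 3 F 2))))
        rwa [hz] at this
      have hz1 : ((QuotientGroup.mk (QuotientGroup.mk g : Cfsg.PSU 3 F 2) :
          Cfsg.PSU 3 F 2 ⧸ (Ebar : Subgroup (Cfsg.PSU 3 F 2)))) ≠ 1 := by
        intro h
        rw [h, orderOf_one] at hz
        omega
      have hgg : g ^ 2 ∈ (E : Subgroup (SU 3 F 2)) := by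
        rw [← QuotientGroup.mk_pow, QuotientGroup.eq_one_iff, ← QuotientGroup.mk_pow,
          mk_mem_Ebar_iff hF] at hz2
        exact hz2
      have hgE : g ∉ (E : Subgroup (SU 3 F 2)) := by
        intro h
        apply hz1
        rw [QuotientGroup.eq_one_iff, mk_mem_Ebar_iff hF]
        exact h
      have hmon : g ∈ (monSub : Subgroup (SU 3 F 2)) := by
        by_contra hnm
        have hc4 := pow_four_mem_center hF hnm
        have h6 : (g ^ 2) ^ 3 = 1 := pow_three_of_mem_E hF hgg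
        have hc2 : g ^ 2 ∈ Subgroup.center (SU 3 F 2) := by
          have : g ^ 2 = (g ^ 2) ^ 3 * (g ^ 4)⁻¹ := by
            rw [← pow_mul, eq_mul_inv_iff_mul_eq, ← pow_add]
          rw [this, h6, one_mul]
          exact Subgroup.inv_mem _ hc4
        exact hnm (mem_monSub_of_pow_mem_center hF g 2 Nat.prime_two hc2)
      rcases mem_E_or_anti hmon with h | h
      · exact absurd h hgE
      · exact h
    obtain ⟨g, rfl, hg⟩ := key x hx
    obtain ⟨h, rfl, hh⟩ := key y hy
    have hprod : g * h ∈ (E : Subgroup (SU 3 F 2)) := by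
      rw [mem_E, mat_mul]
      exact hg.mul_anti hh
    have hxy : ((QuotientGroup.mk (QuotientGroup.mk g : Cfsg.PSU 3 F 2) :
        Cfsg.PSU 3 F 2 ⧸ (Ebar : Subgroup (Cfsg.PSU 3 F 2)))) *
        QuotientGroup.mk (QuotientGroup.mk h : Cfsg.PSU 3 F 2) = 1 := by
      rw [← QuotientGroup.mk_mul, QuotientGroup.eq_one_iff, ← QuotientGroup.mk_mul,
        mk_mem_Ebar_iff hF]
      exact hprod
    have hy2 : ((QuotientGroup.mk (QuotientGroup.mk h : Cfsg.PSU 3 F 2) :
        Cfsg.PSU 3 F 2 ⧸ (Ebar : Subgroup (Cfsg.PSU 3 F 2)))) *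
        QuotientGroup.mk (QuotientGroup.mk h : Cfsg.PSU 3 F 2) = 1 := by
      have := pow_orderOf_eq_one ((QuotientGroup.mk (QuotientGroup.mk h : Cfsg.PSU 3 F 2) :
        Cfsg.PSU 3 F 2 ⧸ (Ebar : Subgroup (Cfsg.PSU 3 F 2))))
      rwa [hy, pow_two] at this
    exact mul_right_cancel (hxy.trans hy2.symm)

end Cfsg.Agent.S0827
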