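import Mathlib
import Cfsg.Statements.S0828
import Cfsg.Agent.Lib.Helper13.Symp

set_option autoImplicit false
open Cfsg

namespace Cfsg.Agent.S0828

open Module Cfsg.Agent.Helper13

section general

variable {F : Type*} [Field F] {V : Type*} [AddCommGroup V] [Module F V]

theorem finrank_span_pair {v w : V} (hv : v ≠ 0) (hw : w ∉ Submodule.span F {v}) :
    finrank F (Submodule.span F {v, w}) = 2 := by
  have hli : LinearIndependent F ![v, w] := by
    rw [LinearIndependent.pair_iff]
    intro s t hst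
    by_cases ht : t = 0
    · subst ht
      rw [zero_smul, add_zero] at hst
      exact ⟨(smul_eq_zero.mp hst).resolve_right hv, rfl⟩
    · exfalso
      apply hw
      rw [Submodule.mem_span_singleton]
      refine ⟨-(t⁻¹ * s), ?_⟩
      have h1 : t • w = -(s • v) := eq_neg_of_add_eq_zero_right hst
      have h2 : w = t⁻¹ • (t • w) := by rw [smul_smul, inv_mul_cancel₀ ht, one_smul]
      rw [h2, h1, smul_neg, smul_smul, neg_smul]
  have h := finrank_span_eq_card (R := F) hli
  rw [Fintype.card_fin] at h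
  have hr : Set.range ![v, w] = {v, w} := by
    simp [Matrix.range_cons, Set.pair_comm]
  rw [hr] at h
  exact h

theorem card_submodule [Fintype F] [Module.Finite F V] (W : Submodule F V) :
    Nat.card W = Fintype.card F ^ finrank F W := by
  rw [Module.natCard_eq_pow_finrank (K := F), Nat.card_eq_fintype_card]

theorem card_filter_mem [Fintype V] (W : Submodule F V) [DecidablePred (· ∈ W)] :
    (Finset.univ.filter (fun w : V => w ∈ W)).card = Nat.card W := by
  rw [Nat.card_eq_fintype_card, Fintype.card_subtype]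

theorem card_filter_sdiff [Fintype V] [DecidableEq V] (A B : Submodule F V) (hAB : A ≤ B)
    [DecidablePred (· ∈ A)] [DecidablePred (· ∈ B)] :
    (Finset.univ.filter (fun w : V => w ∈ B ∧ w ∉ A)).card + Nat.card A = Nat.card B := by
  rw [← card_filter_mem A, ← card_filter_mem B]
  have hsub : Finset.univ.filter (fun w : V => w ∈ A) ⊆ Finset.univ.filter (fun w : V => w ∈ B) := by
    intro w hw
    simp only [Finset.mem_filter, Finset.mem_univ, true_and] at hw ⊢
    exact hAB hw
  rw [← Finset.card_sdiff_add_card_eq_card hsub]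
  congr 2
  ext w
  simp only [Finset.mem_filter, Finset.mem_univ, true_and, Finset.mem_sdiff]

end general

section symp

variable {F : Type*} [Field F]

/-- the functional `B(v, ·)` -/
def formFun (v : Fin 2 ⊕ Fin 2 → F) : (Fin 2 ⊕ Fin 2 → F) →ₗ[F] F where
  toFun w := Cfsg.sympForm 2 F v w
  map_add' := sympForm_add_right v
  map_smul' := fun a w => by
    simp only [RingHom.id_apply, smul_eq_mul]
    exact sympForm_smul_right a v w

theorem formFun_apply (v w : Fin 2 ⊕ Fin 2 → F) : formFun v w = Cfsg.sympForm 2 F v w := rfl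

theorem formFun_ne_zero {v : Fin 2 ⊕ Fin 2 → F} (hv : v ≠ 0) : formFun v ≠ 0 := by
  intro h
  have hJ : Matrix.mulVec (Matrix.J (Fin 2) F) v ≠ 0 := by
    intro h0
    apply hv
    have h2 : Matrix.mulVec (Matrix.J (Fin 2) F * Matrix.J (Fin 2) F) v = 0 := by
      rw [← Matrix.mulVec_mulVec, h0, Matrix.mulVec_zero]
    rw [Matrix.J_squared, Matrix.neg_mulVec, Matrix.one_mulVec, neg_eq_zero] at h2
    exact h2
  obtain ⟨j, hj⟩ := Function.ne_iff.mp hJ
  have h1 : Cfsg.sympForm 2 F (Pi.single j 1) v ≠ 0 := by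
    unfold Cfsg.sympForm
    rw [single_dotProduct, one_mul]
    exact hj
  apply h1
  rw [sympForm_swap, ← formFun_apply, h]
  simp

theorem ti_span_pair {v w : Fin 2 ⊕ Fin 2 → F} (h : Cfsg.sympForm 2 F v w = 0) :
    ∀ x ∈ Submodule.span F {v, w}, ∀ y ∈ Submodule.span F {v, w}, Cfsg.sympForm 2 F x y = 0 := by
  intro x hx y hy
  obtain ⟨a, b, rfl⟩ := Submodule.mem_span_pair.mp hx
  obtain ⟨c, d, rfl⟩ := Submodule.mem_span_pair.mp hy
  have h' : Cfsg.sympForm 2 F w v = 0 := by rw [sympForm_swap, h, neg_zero]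
  simp only [sympForm_add_left, sympForm_add_right, sympForm_smul_left, sympForm_smul_right,
    sympForm_self, h, h']
  ring

theorem finrank_V4 : finrank F (Fin 2 ⊕ Fin 2 → F) = 4 := by
  rw [Module.finrank_pi]
  rfl

theorem card_through [Fintype F] (v : Fin 2 ⊕ Fin 2 → F) (hv : v ≠ 0) :
    Nat.card {W : Submodule F (Fin 2 ⊕ Fin 2 → F) // finrank F W = 2 ∧ v ∈ W ∧
      ∀ u ∈ W, ∀ w ∈ W, Cfsg.sympForm 2 F u w = 0} = Fintype.card F + 1 := by
  classical
  have : Fintype (Submodule F (Fin 2 ⊕ Fin 2 → F)) := Fintype.ofFinite _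
  set q := Fintype.card F with hq
  have hq2 : 2 ≤ q := Fintype.one_lt_card
  rw [Nat.card_eq_fintype_card, Fintype.card_subtype]
  set T := Finset.univ.filter (fun W : Submodule F (Fin 2 ⊕ Fin 2 → F) => finrank F W = 2 ∧ v ∈ W ∧
      ∀ u ∈ W, ∀ w ∈ W, Cfsg.sympForm 2 F u w = 0) with hT
  set S := Finset.univ.filter (fun w : Fin 2 ⊕ Fin 2 → F =>
    w ∈ LinearMap.ker (formFun v) ∧ w ∉ Submodule.span F {v}) with hS
  have hvker : Submodule.span F {v} ≤ LinearMap.ker (formFun v) := by
    rw [Submodule.span_singleton_le_iff_mem, LinearMap.mem_ker, formFun_apply, sympForm_self]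
  have hcv : Nat.card (Submodule.span F {v}) = q := by
    rw [card_submodule, finrank_span_singleton hv, pow_one]
  have hker : finrank F (LinearMap.ker (formFun v)) = 3 := by
    have := Module.Dual.finrank_ker_add_one_of_ne_zero (formFun_ne_zero hv)
    rw [finrank_V4] at this
    omega
  have hScard : S.card + q = q ^ 3 := by
    have := card_filter_sdiff _ _ hvker
    rw [hcv, card_submodule, hker] at this
    exact this
  have hmaps : Set.MapsTo (fun w => Submodule.span F {v, w}) (S : Set (Fin 2 ⊕ Fin 2 → F))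
      (T : Set (Submodule F (Fin 2 ⊕ Fin 2 → F))) := by
    intro w hw
    simp only [hS, Finset.coe_filter, Finset.mem_univ, true_and, Set.mem_ofPred_eq] at hw
    simp only [hT, Finset.coe_filter, Finset.mem_univ, true_and, Set.mem_ofPred_eq]
    refine ⟨finrank_span_pair hv hw.2, Submodule.subset_span (by simp), ?_⟩
    apply ti_span_pair
    exact hw.1
  have hfib : ∀ W ∈ T, (S.filter (fun w => Submodule.span F {v, w} = W)).card + q = q ^ 2 := by
    intro W hW
    simp only [hT, Finset.mem_filter, Finset.mem_univ, true_and] at hW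
    obtain ⟨hW2, hvW, hTI⟩ := hW
    have hvW' : Submodule.span F {v} ≤ W := by
      rw [Submodule.span_singleton_le_iff_mem]; exact hvW
    have := card_filter_sdiff _ _ hvW'
    rw [hcv, card_submodule, hW2] at this
    rw [← this]
    congr 2
    ext w
    simp only [hS, Finset.mem_filter, Finset.mem_univ, true_and, LinearMap.mem_ker, formFun_apply]
    constructor
    · rintro ⟨⟨-, h2⟩, h3⟩
      refine ⟨?_, h2⟩
      rw [← h3]
      exact Submodule.subset_span (by simp)
    · rintro ⟨h1, h2⟩
      refine ⟨⟨hTI v hvW w h1, h2⟩, ?_⟩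
      have hle : Submodule.span F {v, w} ≤ W := by
        rw [Submodule.span_le]
        intro x hx
        rcases hx with rfl | rfl
        · exact hvW
        · exact h1
      have : FiniteDimensional F W := inferInstance
      exact Submodule.eq_of_le_of_finrank_eq hle (by rw [finrank_span_pair hv h2, hW2])
  have hsum := Finset.card_eq_sum_card_fiberwise hmaps
  have hc : q ≤ q ^ 2 := by nlinarith
  have hfib' : ∀ W ∈ T, (S.filter (fun w => Submodule.span F {v, w} = W)).card = q ^ 2 - q := by
    intro W hW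
    have := hfib W hW
    omega
  rw [Finset.sum_congr rfl hfib', Finset.sum_const, smul_eq_mul] at hsum
  -- T.card * (q^2 - q) + q = q^3
  obtain ⟨c, hc'⟩ : ∃ c, q ^ 2 = c + q := ⟨q ^ 2 - q, by omega⟩
  have hc2 : q ^ 2 - q = c := by omega
  rw [hc2] at hsum
  rw [hsum] at hScard
  have hcpos : 0 < c := by nlinarith
  have h3 : q ^ 3 = q * c + c + q := by
    calc q ^ 3 = q * q ^ 2 := by ring
      _ = q * (c + q) := by rw [hc']
      _ = q * c + q ^ 2 := by ring
      _ = q * c + c + q := by rw [hc']; ring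
  have h4 : T.card * c = (q + 1) * c := by
    have : T.card * c + q = q * c + c + q := by rw [hScard, h3]
    nlinarith
  exact Nat.eq_of_mul_eq_mul_right hcpos h4

theorem card_all [Fintype F] :
    Nat.card {W : Submodule F (Fin 2 ⊕ Fin 2 → F) // finrank F W = 2 ∧
      ∀ u ∈ W, ∀ w ∈ W, Cfsg.sympForm 2 F u w = 0} =
      (Fintype.card F + 1) * (Fintype.card F ^ 2 + 1) := by
  classical
  have : Fintype (Submodule F (Fin 2 ⊕ Fin 2 → F)) := Fintype.ofFinite _
  set q := Fintype.card F with hq
  have hq2 : 2 ≤ q := Fintype.one_lt_card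
  rw [Nat.card_eq_fintype_card, Fintype.card_subtype]
  set T := Finset.univ.filter (fun W : Submodule F (Fin 2 ⊕ Fin 2 → F) => finrank F W = 2 ∧
      ∀ u ∈ W, ∀ w ∈ W, Cfsg.sympForm 2 F u w = 0) with hT
  set s := Finset.univ.filter (fun v : Fin 2 ⊕ Fin 2 → F => v ≠ 0) with hs
  have hdc := Finset.sum_card_bipartiteAbove_eq_sum_card_bipartiteBelow (s := s) (t := T)
    (r := fun (v : Fin 2 ⊕ Fin 2 → F) (W : Submodule F (Fin 2 ⊕ Fin 2 → F)) => v ∈ W)
  have hL : ∀ v ∈ s, (T.bipartiteAbove
      (fun (v : Fin 2 ⊕ Fin 2 → F) (W : Submodule F (Fin 2 ⊕ Fin 2 → F)) => v ∈ W) v).card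
      = q + 1 := by
    intro v hv
    simp only [hs, Finset.mem_filter, Finset.mem_univ, true_and] at hv
    have h := card_through v hv
    rw [Nat.card_eq_fintype_card, Fintype.card_subtype] at h
    rw [← h]
    congr 1
    ext W
    simp only [Finset.bipartiteAbove, hT, Finset.mem_filter, Finset.mem_univ, true_and]
    tauto
  have hR : ∀ W ∈ T, (s.bipartiteBelow
      (fun (v : Fin 2 ⊕ Fin 2 → F) (W : Submodule F (Fin 2 ⊕ Fin 2 → F)) => v ∈ W) W).card + 1
      = q ^ 2 := by
    intro W hW
    simp only [hT, Finset.mem_filter, Finset.mem_univ, true_and] at hW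
    have h := card_filter_sdiff (⊥ : Submodule F (Fin 2 ⊕ Fin 2 → F)) W bot_le
    rw [card_submodule, card_submodule, hW.1, finrank_bot, pow_zero] at h
    rw [← h]
    congr 2
    ext v
    simp only [Finset.bipartiteBelow, hs, Finset.mem_filter, Finset.mem_univ, true_and,
      Submodule.mem_bot]
    tauto
  have hscard : s.card + 1 = q ^ 4 := by
    have h := card_filter_sdiff (⊥ : Submodule F (Fin 2 ⊕ Fin 2 → F)) ⊤ bot_le
    rw [card_submodule, card_submodule, finrank_top, finrank_V4, finrank_bot, pow_zero] at h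
    rw [← h]
    congr 2
    ext v
    simp only [hs, Finset.mem_filter, Finset.mem_univ, true_and, Submodule.mem_bot,
      Submodule.mem_top]
  have hR' : ∀ W ∈ T, (s.bipartiteBelow
      (fun (v : Fin 2 ⊕ Fin 2 → F) (W : Submodule F (Fin 2 ⊕ Fin 2 → F)) => v ∈ W) W).card
      = q ^ 2 - 1 := by
    intro W hW
    have := hR W hW
    omega
  rw [Finset.sum_congr rfl hL, Finset.sum_congr rfl hR', Finset.sum_const, Finset.sum_const,
    smul_eq_mul, smul_eq_mul] at hdc
  have hq21 : 1 ≤ q ^ 2 := by nlinarith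
  obtain ⟨d, hd⟩ : ∃ d, q ^ 2 = d + 1 := ⟨q ^ 2 - 1, by omega⟩
  have hd2 : q ^ 2 - 1 = d := by omega
  rw [hd2] at hdc
  have hdpos : 0 < d := by nlinarith
  have hs2 : s.card = d * (q ^ 2 + 1) := by
    have : q ^ 4 = (d + 1) * (d + 1) := by
      rw [← hd]; ring
    rw [hd]
    have : s.card + 1 = (d + 1) * (d + 1) := by rw [hscard, this]
    nlinarith
  rw [hs2] at hdc
  have : T.card * d = ((q + 1) * (q ^ 2 + 1)) * d := by
    rw [← hdc]; ring
  exact Nat.eq_of_mul_eq_mul_right hdpos this

end symp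

/-- The symplectic generalised quadrangle over a field with q elements: the number of 2-dimensional subspaces of F^4 on which the symplectic form vanishes is (q + 1)(q² + 1), and every non-zero vector lies in exactly q + 1 of them. -/
theorem result {F : Type*} [Field F] [Fintype F] {q : ℕ} (hF : Fintype.card F = q) : Nat.card {W : Submodule F (Fin 2 ⊕ Fin 2 → F) // Module.finrank F W = 2 ∧ ∀ u ∈ W, ∀ v ∈ W, Cfsg.sympForm 2 F u v = 0} = (q + 1) * (q ^ 2 + 1) ∧ ∀ v : Fin 2 ⊕ Fin 2 → F, v ≠ 0 → Nat.card {W : Submodule F (Fin 2 ⊕ Fin 2 → F) // Module.finrank F W = 2 ∧ v ∈ W ∧ ∀ u ∈ W, ∀ w ∈ W, Cfsg.sympForm 2 F u w = 0} = q + 1 := by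
  subst hF
  exact ⟨card_all, fun v hv => card_through v hv⟩

end Cfsg.Agent.S0828
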