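import Mathlib
import Cfsg.Statements.S0829
import Cfsg.Agent.Lib.Helper14.HermLines

set_option autoImplicit false
open Cfsg

namespace Cfsg.Agent.S0829

open Cfsg.Agent.Helper14 Cfsg.Agent.Helper13

theorem arith_N4 (q N0 N1 N2 N3 N4 : ℕ) (e0 : N0 = 1) (e1 : N1 + N0 * q = (q + 1) * q ^ 0)
    (e2 : N2 + N1 * q = (q + 1) * q ^ 2) (e3 : N3 + N2 * q = (q + 1) * q ^ 4)
    (e4 : N4 + N3 * q = (q + 1) * q ^ 6) : (N4 : ℤ) = (q : ℤ) ^ 7 + (q : ℤ) ^ 4 - (q : ℤ) ^ 3 := by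
  zify at e0 e1 e2 e3 e4
  rw [e0] at e1
  linear_combination e4 - (q : ℤ) * e3 + (q : ℤ) ^ 2 * e2 - (q : ℤ) ^ 3 * e1

theorem arith_tau (q N4 K A τ c : ℕ) (hq : 2 ≤ q)
    (hN : (N4 : ℤ) = (q : ℤ) ^ 7 + (q : ℤ) ^ 4 - (q : ℤ) ^ 3)
    (hK : K + q ^ 6 = q ^ 8) (hA : A * q = K) (hτ : τ * c + A + q ^ 2 = N4)
    (hc : c + q ^ 2 = q ^ 4) : τ = q + 1 := by
  zify at hK hA hτ hc
  have hq0 : (q : ℤ) ≠ 0 := by positivity
  have hA' : (A : ℤ) = (q : ℤ) ^ 7 - (q : ℤ) ^ 5 := by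
    apply mul_right_cancel₀ hq0
    linear_combination hA + hK
  have hc' : (c : ℤ) = (q : ℤ) ^ 4 - (q : ℤ) ^ 2 := by linear_combination hc
  have hc0 : (c : ℤ) ≠ 0 := by
    rw [hc']
    have h2 : (2 : ℤ) ≤ (q : ℤ) := by exact_mod_cast hq
    have h3 : (4 : ℤ) ≤ (q : ℤ) ^ 2 := by nlinarith
    have h4 : (q : ℤ) ^ 4 - (q : ℤ) ^ 2 = (q : ℤ) ^ 2 * ((q : ℤ) ^ 2 - 1) := by ring
    rw [h4]
    have : (0 : ℤ) < (q : ℤ) ^ 2 * ((q : ℤ) ^ 2 - 1) := by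
      apply mul_pos <;> linarith
    exact this.ne'
  have : (τ : ℤ) = (q : ℤ) + 1 := by
    apply mul_right_cancel₀ hc0
    rw [hc']
    rw [hc'] at hτ
    linear_combination hτ + hN - hA'
  exact_mod_cast this

theorem arith_total (q N4 T d m : ℕ) (hq : 2 ≤ q)
    (hN : (N4 : ℤ) = (q : ℤ) ^ 7 + (q : ℤ) ^ 4 - (q : ℤ) ^ 3)
    (hd : d + 1 = q ^ 4) (hm : m + 1 = N4) (hT : T * d = m * (q + 1)) :
    T = (q + 1) * (q ^ 3 + 1) := by
  zify at hd hm hT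
  have hd' : (d : ℤ) = (q : ℤ) ^ 4 - 1 := by linear_combination hd
  have hd0 : (d : ℤ) ≠ 0 := by
    rw [hd']
    have h2 : (2 : ℤ) ≤ (q : ℤ) := by exact_mod_cast hq
    have h3 : (4 : ℤ) ≤ (q : ℤ) ^ 2 := by nlinarith
    have h4 : (q : ℤ) ^ 4 - 1 = ((q : ℤ) ^ 2 + 1) * ((q : ℤ) ^ 2 - 1) := by ring
    rw [h4]
    have : (0 : ℤ) < ((q : ℤ) ^ 2 + 1) * ((q : ℤ) ^ 2 - 1) := by
      apply mul_pos <;> linarith
    exact this.ne'
  have hm' : (m : ℤ) = (q : ℤ) ^ 7 + (q : ℤ) ^ 4 - (q : ℤ) ^ 3 - 1 := by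
    linear_combination hm + hN
  have : (T : ℤ) = ((q : ℤ) + 1) * ((q : ℤ) ^ 3 + 1) := by
    apply mul_right_cancel₀ hd0
    rw [hT, hm', hd']
    ring
  exact_mod_cast this

/-- The unitary quadrangle of PSU_4(q): with |F| = q², the number of 2-dimensional subspaces of F^4 on which the Hermitian form Σ x_i y_i^q vanishes is (q + 1)(q³ + 1). -/
theorem result {F : Type*} [Field F] [Fintype F] {q : ℕ} (hF : Fintype.card F = q ^ 2) : Nat.card {W : Submodule F (Fin 4 → F) // Module.finrank F W = 2 ∧ ∀ u ∈ W, ∀ v ∈ W, Cfsg.hermForm 4 F q u v = 0} = (q + 1) * (q ^ 3 + 1) := by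
  classical
  have hq2 := two_le_q hF
  have hN := arith_N4 q _ _ _ _ _ (isoCount_zero (F := F) (q := q))
    (by simpa using isoCount_succ hF 0) (by simpa using isoCount_succ hF 1)
    (by simpa using isoCount_succ hF 2) (by simpa using isoCount_succ hF 3)
  have hq4 : q ^ 2 ≤ q ^ 4 := Nat.pow_le_pow_right (by omega) (by omega)
  have hτ : ∀ v : Fin (3 + 1) → F, v ≠ 0 → Cfsg.hermForm (3 + 1) F q v v = 0 →
      Nat.card {W : Submodule F (Fin (3 + 1) → F) // Module.finrank F W = 2 ∧ v ∈ W ∧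
        ∀ u ∈ W, ∀ w ∈ W, Cfsg.hermForm (3 + 1) F q u w = 0} = q + 1 := by
    intro v hv hvv
    exact arith_tau q _ _ _ _ (q ^ 4 - q ^ 2) hq2 hN (by simpa using card_not_perp hF hv)
      (card_iso_not_perp hF hv hvv)
      (herm_card_through hF v hv hvv (q ^ 4 - q ^ 2) (by omega)) (by omega)
  have h1 : 1 ≤ isoCount F q (3 + 1) := by
    unfold isoCount
    rw [Nat.one_le_iff_ne_zero, Finset.card_ne_zero]
    refine ⟨0, ?_⟩
    rw [Finset.mem_filter]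
    exact ⟨Finset.mem_univ _, by unfold Cfsg.hermForm; simp⟩
  have h14 : 1 ≤ q ^ 4 := Nat.one_le_pow _ _ (by omega)
  have hT := herm_card_total hF (n := 3) (q + 1) hτ (q ^ 4 - 1) (by omega)
    (isoCount F q (3 + 1) - 1) (by omega)
  exact arith_total q (isoCount F q (3 + 1)) _ (q ^ 4 - 1) (isoCount F q (3 + 1) - 1) hq2 hN
    (by omega) (by omega) hT

end Cfsg.Agent.S0829
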