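import Mathlib
import Cfsg.Statements.S0832
import Cfsg.Agent.Lib.Helper14.HermCount

set_option autoImplicit false
set_option linter.unusedSectionVars false
open Cfsg

namespace Cfsg.Agent.S0832

open Module Cfsg.Agent.Helper14

section basics

variable {F : Type*} [Field F] {m : ℕ}

/-- polar form of `quadFormPlus` -/
def polarB (m : ℕ) (F : Type*) [Field F] : LinearMap.BilinForm F (Fin m ⊕ Fin m → F) :=
  LinearMap.mk₂ F
    (fun v w => ∑ i, (v (Sum.inl i) * w (Sum.inr i) + v (Sum.inr i) * w (Sum.inl i)))
    (by
      intro v v' w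
      simp only [Pi.add_apply]
      rw [← Finset.sum_add_distrib]
      apply Finset.sum_congr rfl
      intro i _
      ring)
    (by
      intro a v w
      simp only [Pi.smul_apply, smul_eq_mul]
      rw [Finset.mul_sum]
      apply Finset.sum_congr rfl
      intro i _
      ring)
    (by
      intro v w w'
      simp only [Pi.add_apply]
      rw [← Finset.sum_add_distrib]
      apply Finset.sum_congr rfl
      intro i _
      ring)
    (by
      intro a v w
      simp only [Pi.smul_apply, smul_eq_mul]
      rw [Finset.mul_sum]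
      apply Finset.sum_congr rfl
      intro i _
      ring)

theorem polarB_apply (v w : Fin m ⊕ Fin m → F) :
    polarB m F v w = ∑ i, (v (Sum.inl i) * w (Sum.inr i) + v (Sum.inr i) * w (Sum.inl i)) := rfl

theorem polarB_comm (v w : Fin m ⊕ Fin m → F) : polarB m F v w = polarB m F w v := by
  rw [polarB_apply, polarB_apply]
  apply Finset.sum_congr rfl
  intro i _
  ring

theorem Q_add (v w : Fin m ⊕ Fin m → F) :
    Cfsg.quadFormPlus m F (v + w) =
      Cfsg.quadFormPlus m F v + Cfsg.quadFormPlus m F w + polarB m F v w := by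
  unfold Cfsg.quadFormPlus
  rw [polarB_apply, ← Finset.sum_add_distrib, ← Finset.sum_add_distrib]
  apply Finset.sum_congr rfl
  intro i _
  simp only [Pi.add_apply]
  ring

theorem Q_smul (a : F) (v : Fin m ⊕ Fin m → F) :
    Cfsg.quadFormPlus m F (a • v) = a ^ 2 * Cfsg.quadFormPlus m F v := by
  unfold Cfsg.quadFormPlus
  rw [Finset.mul_sum]
  apply Finset.sum_congr rfl
  intro i _
  simp only [Pi.smul_apply, smul_eq_mul]
  ring

theorem polarB_nondeg : (polarB m F).Nondegenerate := by
  have key : ∀ v : Fin m ⊕ Fin m → F, (∀ w, polarB m F v w = 0) → v = 0 := by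
    intro v hv
    funext j
    rcases j with i | i
    · have := hv (Pi.single (Sum.inr i) 1)
      rw [polarB_apply] at this
      simp only [Pi.single_apply, Sum.inr.injEq, reduceCtorEq, if_false, mul_zero, add_zero,
        mul_ite, mul_one] at this
      simpa using this
    · have := hv (Pi.single (Sum.inl i) 1)
      rw [polarB_apply] at this
      simp only [Pi.single_apply, Sum.inl.injEq, reduceCtorEq, if_false, mul_zero, zero_add,
        mul_ite, mul_one] at this
      simpa using this
  refine ⟨key, ?_⟩
  intro w hw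
  apply key
  intro v
  rw [polarB_comm]
  exact hw v

end basics

section fibers

variable {F : Type*} [Field F] [Fintype F] {M : Type*} [AddCommGroup M] [Module F M]
  [Fintype M] [DecidableEq F]

/-- all fibres of a non-zero functional on a finite vector space have `|M| / q` elements -/
theorem card_functional_fiber (φ : M →ₗ[F] F) (hφ : φ ≠ 0) (c : F) :
    (Finset.univ.filter (fun u : M => φ u = c)).card * Fintype.card F = Fintype.card M := by
  classical
  have : Module.Finite F M := Module.Finite.of_finite
  have hsurj : Function.Surjective φ := LinearMap.surjective_of_ne_zero hφ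
  obtain ⟨u₀, hu₀⟩ := hsurj c
  have h1 := Module.Dual.finrank_ker_add_one_of_ne_zero hφ
  have h2 : Nat.card (LinearMap.ker φ) = Fintype.card F ^ finrank F (LinearMap.ker φ) :=
    card_submodule _
  have h3 : Fintype.card M = Fintype.card F ^ finrank F M := Module.card_eq_pow_finrank
  have h4 : (Finset.univ.filter (fun u : M => φ u = c)).card = Nat.card (LinearMap.ker φ) := by
    rw [← card_filter_mem]
    symm
    apply Finset.card_equiv (Equiv.addRight u₀)
    intro k
    simp only [Finset.mem_filter, Finset.mem_univ, true_and, LinearMap.mem_ker,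
      Equiv.coe_addRight, map_add, hu₀]
    constructor
    · intro h; rw [h, zero_add]
    · intro h; exact add_eq_right.mp h
  rw [h4, h2, h3, ← h1, pow_succ]

end fibers

section singular

variable {F : Type*} [Field F] [Fintype F] [DecidableEq F]

def dotFun {m : ℕ} (x : Fin m → F) : (Fin m → F) →ₗ[F] F where
  toFun y := x ⬝ᵥ y
  map_add' := dotProduct_add x
  map_smul' := fun a y => by simp [dotProduct_smul]

theorem dotFun_ne_zero {m : ℕ} {x : Fin m → F} (hx : x ≠ 0) : dotFun x ≠ 0 := by
  intro h
  obtain ⟨i, hi⟩ := Function.ne_iff.mp hx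
  apply hi
  have := LinearMap.congr_fun h (Pi.single i 1)
  simpa [dotFun] using this

theorem card_singular (m : ℕ) :
    (Finset.univ.filter (fun v : Fin m ⊕ Fin m → F => Cfsg.quadFormPlus m F v = 0)).card *
      Fintype.card F + Fintype.card F ^ m = Fintype.card F ^ (m + 1) + Fintype.card F ^ (2 * m) := by
  set q := Fintype.card F with hq
  have hcardV : Fintype.card (Fin m → F) = q ^ m := by
    rw [Fintype.card_fun, Fintype.card_fin]
  have h1 : (Finset.univ.filter (fun v : Fin m ⊕ Fin m → F => Cfsg.quadFormPlus m F v = 0)).card =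
      (Finset.univ.filter (fun p : (Fin m → F) × (Fin m → F) => p.1 ⬝ᵥ p.2 = 0)).card := by
    apply Finset.card_equiv (Equiv.sumArrowEquivProdArrow (Fin m) (Fin m) F)
    intro v
    simp only [Finset.mem_filter, Finset.mem_univ, true_and]
    rfl
  rw [h1, Finset.card_filter, Fintype.sum_prod_type, Finset.sum_mul]
  have h2 : ∀ x : Fin m → F, (∑ y : Fin m → F, if (x, y).1 ⬝ᵥ (x, y).2 = 0 then 1 else 0) * q =
      if x = 0 then q ^ m * q else q ^ m := by
    intro x
    rw [← Finset.card_filter]
    simp only
    split_ifs with hx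
    · subst hx
      simp only [zero_dotProduct, Finset.filter_true, Finset.card_univ, hcardV]
    · rw [← hcardV]
      exact card_functional_fiber (dotFun x) (dotFun_ne_zero hx) 0
  rw [Finset.sum_congr rfl (fun x _ => h2 x), Finset.sum_ite, Finset.sum_const, Finset.sum_const,
    smul_eq_mul, smul_eq_mul]
  have h3 : (Finset.univ.filter (fun x : Fin m → F => x = 0)).card = 1 := by
    rw [Finset.card_eq_one]
    exact ⟨0, by ext x; simp⟩
  have h4 := Finset.card_filter_add_card_filter_not (s := (Finset.univ : Finset (Fin m → F)))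
    (fun x => x = 0)
  rw [h3, Finset.card_univ, hcardV] at h4
  rw [h3, one_mul]
  have h5 : (Finset.univ.filter (fun x : Fin m → F => ¬ x = 0)).card * q ^ m + q ^ m =
      q ^ m * q ^ m := by
    rw [← h4]; ring
  rw [pow_succ, two_mul, pow_add]
  omega

end singular

section main

variable {F : Type*} [Field F] [Fintype F] [DecidableEq F]

theorem finrank_sup_span_singleton {V : Type*} [AddCommGroup V] [Module F V] [FiniteDimensional F V]
    (U : Submodule F V) {w : V} (hw : w ∉ U) :
    finrank F (U ⊔ Submodule.span F {w} : Submodule F V) = finrank F U + 1 := by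
  have h := Submodule.finrank_sup_add_finrank_inf_eq U (Submodule.span F {w})
  have hw0 : w ≠ 0 := fun h0 => hw (h0 ▸ U.zero_mem)
  have hinf : U ⊓ Submodule.span F {w} = ⊥ := by
    rw [eq_bot_iff]
    intro x hx
    obtain ⟨hxU, hxw⟩ := Submodule.mem_inf.mp hx
    obtain ⟨a, rfl⟩ := Submodule.mem_span_singleton.mp hxw
    by_cases ha : a = 0
    · subst ha; simp
    · exfalso
      apply hw
      have := U.smul_mem a⁻¹ hxU
      rwa [smul_smul, inv_mul_cancel₀ ha, one_smul] at this
  rw [hinf, finrank_bot, add_zero, finrank_span_singleton hw0] at h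
  exact h

theorem main (m : ℕ) (hm : 1 ≤ m) (U : Submodule F (Fin m ⊕ Fin m → F))
    (hUk : finrank F U + 1 = m) (hUs : ∀ u ∈ U, Cfsg.quadFormPlus m F u = 0) :
    Nat.card {W : Submodule F (Fin m ⊕ Fin m → F) // finrank F W = m ∧
      (∀ w ∈ W, Cfsg.quadFormPlus m F w = 0) ∧ U ≤ W} = 2 := by
  classical
  have : Fintype (Submodule F (Fin m ⊕ Fin m → F)) := Fintype.ofFinite _
  set q := Fintype.card F with hq
  have hq2 : 2 ≤ q := Fintype.one_lt_card
  set Up := (polarB m F).orthogonal U with hUp
  set k := finrank F U with hk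
  have hB0 : ∀ u ∈ U, ∀ w ∈ U, polarB m F u w = 0 := by
    intro u hu w hw
    have := Q_add u w
    rw [hUs u hu, hUs w hw, hUs (u + w) (U.add_mem hu hw)] at this
    simpa using this.symm
  have hU_le : U ≤ Up := by
    intro w hw
    rw [hUp, LinearMap.BilinForm.mem_orthogonal_iff]
    intro u hu
    exact hB0 u hu w hw
  have hfrV : finrank F (Fin m ⊕ Fin m → F) = 2 * m := by
    rw [Module.finrank_pi, Fintype.card_sum, Fintype.card_fin]; ring
  have hfrUp : finrank F Up = m + 1 := by
    rw [hUp, LinearMap.BilinForm.finrank_orthogonal polarB_nondeg, hfrV]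
    omega
  have hcU : Nat.card U = q ^ k := card_submodule U
  have hcU' : Fintype.card U = q ^ k := by rw [← hcU, Nat.card_eq_fintype_card]
  have hcUp : Nat.card Up = q ^ (m + 1) := by rw [card_submodule, hfrUp]
  have hcV : Fintype.card (Fin m ⊕ Fin m → F) = q ^ (2 * m) := by
    rw [Module.card_eq_pow_finrank (K := F), hfrV]
  have hUpos : 0 < q ^ k := pow_pos (by omega) k
  -- Step 1: singular vectors outside `Up`
  set A := Finset.univ.filter (fun w : Fin m ⊕ Fin m → F => w ∉ Up ∧
    Cfsg.quadFormPlus m F w = 0) with hA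
  have hnotUp : (Finset.univ.filter (fun w : Fin m ⊕ Fin m → F => w ∉ Up)).card + q ^ (m + 1) =
      q ^ (2 * m) := by
    have := Finset.card_filter_add_card_filter_not (s := (Finset.univ : Finset (Fin m ⊕ Fin m → F)))
      (fun w => w ∈ Up)
    rw [Finset.card_univ, hcV, card_filter_mem, hcUp] at this
    omega
  have hAq : A.card * q = (Finset.univ.filter (fun w : Fin m ⊕ Fin m → F => w ∉ Up)).card := by
    set P := Finset.univ.filter (fun p : (Fin m ⊕ Fin m → F) × U => p.1 ∉ Up ∧
      Cfsg.quadFormPlus m F (p.1 + (p.2 : Fin m ⊕ Fin m → F)) = 0) with hP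
    have hP1 : P.card * q = (Finset.univ.filter (fun w : Fin m ⊕ Fin m → F => w ∉ Up)).card *
        q ^ k := by
      rw [hP, Finset.card_filter, Fintype.sum_prod_type, Finset.sum_mul]
      have : ∀ w : Fin m ⊕ Fin m → F, (∑ u : U, if (w, u).1 ∉ Up ∧
          Cfsg.quadFormPlus m F ((w, u).1 + ((w, u).2 : Fin m ⊕ Fin m → F)) = 0 then 1 else 0) * q =
          if w ∉ Up then q ^ k else 0 := by
        intro w
        simp only
        by_cases hw : w ∉ Up
        · rw [if_pos hw]
          have hφ : ((polarB m F w).domRestrict U) ≠ 0 := by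
            intro h0
            apply hw
            rw [hUp, LinearMap.BilinForm.mem_orthogonal_iff]
            intro u hu
            have := LinearMap.congr_fun h0 ⟨u, hu⟩
            rw [polarB_comm]
            simpa using this
          have hfib := card_functional_fiber ((polarB m F w).domRestrict U) hφ
            (-(Cfsg.quadFormPlus m F w))
          rw [hcU'] at hfib
          have hset : (Finset.univ.filter (fun u : U => w ∉ Up ∧
              Cfsg.quadFormPlus m F (w + (u : Fin m ⊕ Fin m → F)) = 0)) =
              Finset.univ.filter (fun u : U => ((polarB m F w).domRestrict U) u =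
                -(Cfsg.quadFormPlus m F w)) := by
            ext u
            rw [Finset.mem_filter, Finset.mem_filter, LinearMap.domRestrict_apply, Q_add,
              hUs u u.2, add_zero]
            constructor
            · rintro ⟨-, -, h⟩; exact ⟨Finset.mem_univ _, eq_neg_of_add_eq_zero_right h⟩
            · rintro ⟨-, h⟩; exact ⟨Finset.mem_univ _, hw, by rw [h]; ring⟩
          rw [← Finset.card_filter, hset]
          exact hfib
        · rw [if_neg hw, Finset.sum_eq_zero, zero_mul]
          intro u _
          rw [if_neg]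
          intro h
          exact hw h.1
      rw [Finset.sum_congr rfl (fun w _ => this w), Finset.sum_ite, Finset.sum_const,
        Finset.sum_const_zero, add_zero, smul_eq_mul]
    have hP2 : P.card = A.card * q ^ k := by
      rw [← hcU', ← Finset.card_univ (α := U), ← Finset.card_product]
      let e : (Fin m ⊕ Fin m → F) × U ≃ (Fin m ⊕ Fin m → F) × U :=
        { toFun := fun p => (p.1 + (p.2 : Fin m ⊕ Fin m → F), p.2)
          invFun := fun p => (p.1 - (p.2 : Fin m ⊕ Fin m → F), p.2)
          left_inv := fun p => by simp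
          right_inv := fun p => by simp }
      apply Finset.card_equiv e
      intro p
      simp only [hP, hA, Finset.mem_filter, Finset.mem_univ, true_and, Finset.mem_product, and_true,
        e, Equiv.coe_fn_mk]
      rw [Submodule.add_mem_iff_left Up (hU_le p.2.2)]
    have h5 : A.card * q * q ^ k =
        (Finset.univ.filter (fun w : Fin m ⊕ Fin m → F => w ∉ Up)).card * q ^ k := by
      rw [← hP1, hP2]; ring
    exact Nat.eq_of_mul_eq_mul_right hUpos h5
  -- Step 2: partition of the singular vectors
  set S := Finset.univ.filter (fun w : Fin m ⊕ Fin m → F =>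
    (Cfsg.quadFormPlus m F w = 0 ∧ w ∈ Up) ∧ w ∉ U) with hS
  have hpart : S.card + q ^ k + A.card =
      (Finset.univ.filter (fun v : Fin m ⊕ Fin m → F => Cfsg.quadFormPlus m F v = 0)).card := by
    have h1 := Finset.card_filter_add_card_filter_not
      (s := Finset.univ.filter (fun w : Fin m ⊕ Fin m → F => Cfsg.quadFormPlus m F w = 0))
      (fun w => w ∈ Up)
    rw [Finset.filter_filter, Finset.filter_filter] at h1
    have h2 := Finset.card_filter_add_card_filter_not
      (s := Finset.univ.filter (fun w : Fin m ⊕ Fin m → F =>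
        Cfsg.quadFormPlus m F w = 0 ∧ w ∈ Up))
      (fun w => w ∉ U)
    rw [Finset.filter_filter, Finset.filter_filter] at h2
    have h3 : (Finset.univ.filter (fun w : Fin m ⊕ Fin m → F =>
        (Cfsg.quadFormPlus m F w = 0 ∧ w ∈ Up) ∧ ¬ w ∉ U)) =
        Finset.univ.filter (fun w => w ∈ U) := by
      ext w
      simp only [Finset.mem_filter, Finset.mem_univ, true_and, not_not]
      constructor
      · intro h; exact h.2
      · intro h; exact ⟨⟨hUs w h, hU_le h⟩, h⟩
    have h4 : (Finset.univ.filter (fun w : Fin m ⊕ Fin m → F =>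
        Cfsg.quadFormPlus m F w = 0 ∧ w ∉ Up)) = A := by
      ext w
      simp only [hA, Finset.mem_filter, Finset.mem_univ, true_and]
      tauto
    rw [h3, card_filter_mem, hcU] at h2
    rw [h4] at h1
    rw [← h1, ← h2]
  -- Step 3: the fibre count
  set T := Finset.univ.filter (fun W : Submodule F (Fin m ⊕ Fin m → F) => finrank F W = m ∧
      (∀ w ∈ W, Cfsg.quadFormPlus m F w = 0) ∧ U ≤ W) with hT
  have hmaps : Set.MapsTo (fun w => U ⊔ Submodule.span F {w}) (S : Set (Fin m ⊕ Fin m → F))
      (T : Set (Submodule F (Fin m ⊕ Fin m → F))) := by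
    intro w hw
    rw [Finset.mem_coe, hS, Finset.mem_filter] at hw
    rw [Finset.mem_coe, hT, Finset.mem_filter]
    obtain ⟨-, ⟨hQw, hwUp⟩, hwU⟩ := hw
    refine ⟨Finset.mem_univ _, ?_, ?_, le_sup_left⟩
    · rw [finrank_sup_span_singleton U hwU]
      exact hUk
    · intro x hx
      obtain ⟨u, hu, y, hy, rfl⟩ := Submodule.mem_sup.mp hx
      obtain ⟨a, rfl⟩ := Submodule.mem_span_singleton.mp hy
      rw [Q_add, hUs u hu, Q_smul, hQw, map_smul]
      rw [hUp, LinearMap.BilinForm.mem_orthogonal_iff] at hwUp
      rw [hwUp u hu]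
      simp
  have hfib : ∀ W ∈ T, (S.filter (fun w => U ⊔ Submodule.span F {w} = W)).card + q ^ k = q ^ m := by
    intro W hW
    simp only [hT, Finset.mem_filter, Finset.mem_univ, true_and] at hW
    obtain ⟨hWm, hWs, hUW⟩ := hW
    have := card_filter_sdiff U W hUW
    rw [hcU, card_submodule, hWm] at this
    rw [← this]
    congr 2
    ext w
    simp only [hS, Finset.mem_filter, Finset.mem_univ, true_and]
    constructor
    · rintro ⟨⟨-, h2⟩, h3⟩
      refine ⟨?_, h2⟩
      rw [← h3]
      exact (le_sup_right : Submodule.span F {w} ≤ _) (Submodule.mem_span_singleton_self w)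
    · rintro ⟨h1, h2⟩
      refine ⟨⟨⟨hWs w h1, ?_⟩, h2⟩, ?_⟩
      · rw [hUp, LinearMap.BilinForm.mem_orthogonal_iff]
        intro u hu
        have := Q_add u w
        rw [hWs u (hUW hu), hWs w h1, hWs (u + w) (W.add_mem (hUW hu) h1)] at this
        simpa using this.symm
      · have hle : U ⊔ Submodule.span F {w} ≤ W := by
          rw [sup_le_iff, Submodule.span_singleton_le_iff_mem]
          exact ⟨hUW, h1⟩
        exact Submodule.eq_of_le_of_finrank_eq hle
          (by rw [finrank_sup_span_singleton U h2, hWm]; exact hUk)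
  have hsum := Finset.card_eq_sum_card_fiberwise hmaps
  have hkm : q ^ m = q ^ k * q := by rw [← hUk, pow_succ]
  have hfib' : ∀ W ∈ T, (S.filter (fun w => U ⊔ Submodule.span F {w} = W)).card = q ^ m - q ^ k := by
    intro W hW
    have := hfib W hW
    omega
  rw [Finset.sum_congr rfl hfib', Finset.sum_const, smul_eq_mul] at hsum
  -- Step 4: arithmetic
  have hN := card_singular (F := F) m
  rw [← hq, ← hpart] at hN
  rw [Nat.card_eq_fintype_card, Fintype.card_subtype]
  change T.card = 2
  have hle : q ^ k ≤ q ^ m := by rw [hkm]; nlinarith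
  obtain ⟨c, hc⟩ : ∃ c, q ^ m = c + q ^ k := ⟨q ^ m - q ^ k, by omega⟩
  have hc' : q ^ m - q ^ k = c := by omega
  rw [hc'] at hsum
  have hcpos : 0 < c := by
    have : q ^ k < q ^ m := by rw [hkm]; nlinarith
    omega
  have key : (T.card : ℤ) * c = 2 * c := by
    have e1 : ((S.card : ℤ) + (q : ℤ) ^ k + A.card) * q + (q : ℤ) ^ m =
        (q : ℤ) ^ (m + 1) + (q : ℤ) ^ (2 * m) := by exact_mod_cast hN
    have e2 : (A.card : ℤ) * q + (q : ℤ) ^ (m + 1) = (q : ℤ) ^ (2 * m) := by
      have := hnotUp
      rw [← hAq] at this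
      exact_mod_cast this
    have e3 : (S.card : ℤ) = T.card * c := by exact_mod_cast hsum
    have e4 : (q : ℤ) ^ m = c + (q : ℤ) ^ k := by exact_mod_cast hc
    have e5 : (q : ℤ) ^ m = (q : ℤ) ^ k * q := by exact_mod_cast hkm
    have e6 : (q : ℤ) ^ (m + 1) = (q : ℤ) ^ m * q := pow_succ _ _
    have hq0 : (q : ℤ) ≠ 0 := by positivity
    apply mul_right_cancel₀ hq0
    rw [← e3]
    linear_combination e1 - e2 + 2 * (q : ℤ) * e4 + 2 * e6 - e5
  have hc0 : (c : ℤ) ≠ 0 := by exact_mod_cast hcpos.ne'
  have := mul_right_cancel₀ hc0 key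
  exact_mod_cast this

end main

/-- For the form Σ x_i y_i on F^(2m) over a finite field, m ≥ 1: an (m−1)-dimensional subspace on which the form vanishes is contained in exactly two m-dimensional subspaces on which it vanishes. -/
theorem result {F : Type*} [Field F] [Finite F] (m : ℕ) (hm : 1 ≤ m) (U : Submodule F (Fin m ⊕ Fin m → F)) (hU : Module.finrank F U + 1 = m ∧ ∀ u ∈ U, Cfsg.quadFormPlus m F u = 0) : Nat.card {W : Submodule F (Fin m ⊕ Fin m → F) // Module.finrank F W = m ∧ (∀ w ∈ W, Cfsg.quadFormPlus m F w = 0) ∧ U ≤ W} = 2 := by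
  classical
  have : Fintype F := Fintype.ofFinite F
  exact main m hm U hU.1 hU.2

end Cfsg.Agent.S0832
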