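import Mathlib
import Cfsg.Statements.S0833

set_option autoImplicit false
open Cfsg

namespace Cfsg.Agent.S0833

open Module TensorProduct

theorem exists_isotropic {F U : Type*} [Field F] [AddCommGroup U] [Module F U]
    [FiniteDimensional F U] (B : LinearMap.BilinForm F U) (hB : B.Nondegenerate) (hA : B.IsAlt)
    (k : ℕ) (hU : finrank F U = 2 * k) :
    ∀ j ≤ k, ∃ L : Submodule F U, finrank F L = j ∧ ∀ x ∈ L, ∀ y ∈ L, B x y = 0 := by
  intro j
  induction j with
  | zero =>
    intro _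
    refine ⟨⊥, by simp, ?_⟩
    intro x hx y _
    rw [(Submodule.mem_bot F).mp hx]
    simp
  | succ j ih =>
    intro hj
    obtain ⟨L, hLj, hL⟩ := ih (by omega)
    have hle : L ≤ B.orthogonal L := by
      intro m hm
      rw [LinearMap.BilinForm.mem_orthogonal_iff]
      intro n hn
      exact hL n hn m hm
    have hfin : finrank F (B.orthogonal L) = 2 * k - j := by
      rw [LinearMap.BilinForm.finrank_orthogonal hB, hU, hLj]
    have hlt : L < B.orthogonal L := by
      apply lt_of_le_of_ne hle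
      intro heq
      rw [← heq, hLj] at hfin
      omega
    obtain ⟨v, hvO, hvL⟩ := SetLike.exists_of_lt hlt
    refine ⟨L ⊔ Submodule.span F {v}, ?_, ?_⟩
    · rw [Submodule.finrank_sup_span_singleton hvL, hLj]
    · have hvv : B v v = 0 := hA v
      have hLv : ∀ n ∈ L, B n v = 0 := fun n hn =>
        (LinearMap.BilinForm.mem_orthogonal_iff.mp hvO) n hn
      have hvL' : ∀ n ∈ L, B v n = 0 := fun n hn => (hA.eq_iff).mp (hLv n hn)
      intro x hx y hy
      rw [Submodule.mem_sup] at hx hy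
      obtain ⟨x₁, hx₁, x₂, hx₂, rfl⟩ := hx
      obtain ⟨y₁, hy₁, y₂, hy₂, rfl⟩ := hy
      rw [Submodule.mem_span_singleton] at hx₂ hy₂
      obtain ⟨a, rfl⟩ := hx₂
      obtain ⟨b, rfl⟩ := hy₂
      simp [hL x₁ hx₁ y₁ hy₁, hLv x₁ hx₁, hvL' y₁ hy₁, hvv]

attribute [local ext] TensorProduct.ext in
theorem tmul_symm_of_alt {F U W : Type*} [Field F] [AddCommGroup U] [Module F U]
    [AddCommGroup W] [Module F W] (B₁ : LinearMap.BilinForm F U) (B₂ : LinearMap.BilinForm F W)
    (hA₁ : B₁.IsAlt) (hA₂ : B₂.IsAlt) : (B₁.tmul B₂).IsSymm := by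
  rw [LinearMap.isSymm_iff_eq_flip]
  ext x₁ x₂ y₁ y₂
  show B₂ x₂ y₂ • B₁ x₁ y₁ = B₂ y₂ x₂ • B₁ y₁ x₁
  rw [← hA₁.neg_eq x₁ y₁, ← hA₂.neg_eq x₂ y₂]
  simp

theorem tmul_apply {F U W : Type*} [Field F] [AddCommGroup U] [Module F U]
    [AddCommGroup W] [Module F W] (B₁ : LinearMap.BilinForm F U) (B₂ : LinearMap.BilinForm F W)
    (u u' : U) (w w' : W) : (B₁.tmul B₂) (u ⊗ₜ w) (u' ⊗ₜ w') = B₂ w w' * B₁ u u' := rfl

theorem tmul_nondegenerate {F U W : Type*} [Field F] [AddCommGroup U] [Module F U]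
    [FiniteDimensional F U] [AddCommGroup W] [Module F W] [FiniteDimensional F W]
    (B₁ : LinearMap.BilinForm F U) (B₂ : LinearMap.BilinForm F W)
    (h₁ : B₁.Nondegenerate) (h₂ : B₂.Nondegenerate) : (B₁.tmul B₂).Nondegenerate := by
  classical
  let b := Module.finBasis F U
  let c := Module.finBasis F W
  let b' := B₁.dualBasis h₁ b
  let c' := B₂.dualBasis h₂ c
  let β := b.tensorProduct c
  let β' := b'.tensorProduct c'
  have hdual : ∀ p q, (B₁.tmul B₂) (β' p) (β q) = if q = p then 1 else 0 := by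
    rintro ⟨i, k⟩ ⟨j, l⟩
    simp only [β, β', Basis.tensorProduct_apply, tmul_apply, b', c',
      LinearMap.BilinForm.apply_dualBasis_left, Prod.mk.injEq]
    split_ifs <;> simp_all
  have keyL : ∀ x q, (B₁.tmul B₂) x (β q) = β'.repr x q := by
    intro x q
    conv_lhs => rw [← β'.sum_repr x]
    simp only [map_sum, map_smul, LinearMap.sum_apply, LinearMap.smul_apply, hdual, smul_eq_mul,
      mul_ite, mul_one, mul_zero, Finset.sum_ite_eq, Finset.mem_univ, if_true]
  have keyR : ∀ y p, (B₁.tmul B₂) (β' p) y = β.repr y p := by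
    intro y p
    conv_lhs => rw [← β.sum_repr y]
    simp only [map_sum, map_smul, hdual, smul_eq_mul,
      mul_ite, mul_one, mul_zero, Finset.sum_ite_eq', Finset.mem_univ, if_true]
  constructor
  · intro x hx
    apply β'.repr.injective
    ext q
    rw [← keyL, hx]
    simp
  · intro y hy
    apply β.repr.injective
    ext p
    rw [← keyR, hy]
    simp

theorem exists_isotropic_tensor {F U W : Type*} [Field F] [AddCommGroup U] [Module F U]
    [FiniteDimensional F U] [AddCommGroup W] [Module F W] [FiniteDimensional F W]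
    (B₁ : LinearMap.BilinForm F U) (B₂ : LinearMap.BilinForm F W)
    (L : Submodule F U) (hL : ∀ x ∈ L, ∀ y ∈ L, B₁ x y = 0) :
    ∃ X : Submodule F (U ⊗[F] W), finrank F X = finrank F L * finrank F W ∧
      ∀ x ∈ X, ∀ y ∈ X, (B₁.tmul B₂) x y = 0 := by
  set f : L ⊗[F] W →ₗ[F] U ⊗[F] W := L.subtype.rTensor W with hf
  have hinj : Function.Injective f :=
    Module.Flat.rTensor_preserves_injective_linearMap L.subtype L.subtype_injective
  refine ⟨LinearMap.range f, ?_, ?_⟩
  · rw [LinearMap.finrank_range_of_inj hinj, Module.finrank_tensorProduct]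
  · rintro _ ⟨x, rfl⟩ _ ⟨y, rfl⟩
    induction x using TensorProduct.induction_on with
    | zero => simp
    | tmul l w =>
      induction y using TensorProduct.induction_on with
      | zero => simp
      | tmul l' w' =>
        simp only [hf, LinearMap.rTensor_tmul, Submodule.subtype_apply, tmul_apply]
        rw [hL l l.2 l' l'.2, mul_zero]
      | add y₁ y₂ h₁ h₂ =>
        rw [map_add, map_add, h₁, h₂, add_zero]
    | add x₁ x₂ h₁ h₂ =>
      rw [map_add, map_add, LinearMap.add_apply, h₁, h₂, add_zero]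

/-- If B₁, B₂ are non-degenerate alternating forms on U (dim 2k) and W (dim 2l), then B₁ ⊗ B₂ on U ⊗ W is symmetric, non-degenerate, and vanishes identically on some subspace of dimension 2kl (half of dim U ⊗ W). -/
theorem result {F U W : Type*} [Field F] [Fintype F] [AddCommGroup U] [Module F U] [FiniteDimensional F U] [AddCommGroup W] [Module F W] [FiniteDimensional F W] (B₁ : LinearMap.BilinForm F U) (B₂ : LinearMap.BilinForm F W) (h₁ : B₁.Nondegenerate) (h₂ : B₂.Nondegenerate) (hA₁ : B₁.IsAlt) (hA₂ : B₂.IsAlt) (k l : ℕ) (hU : Module.finrank F U = 2 * k) (hW : Module.finrank F W = 2 * l) : (B₁.tmul B₂).IsSymm ∧ (B₁.tmul B₂).Nondegenerate ∧ (∃ X : Submodule F (TensorProduct F U W), Module.finrank F X = 2 * k * l ∧ ∀ x ∈ X, ∀ y ∈ X, (B₁.tmul B₂) x y = 0) := by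
  refine ⟨tmul_symm_of_alt B₁ B₂ hA₁ hA₂, tmul_nondegenerate B₁ B₂ h₁ h₂, ?_⟩
  obtain ⟨L, hLk, hL⟩ := exists_isotropic B₁ h₁ hA₁ k hU k le_rfl
  obtain ⟨X, hX, hX0⟩ := exists_isotropic_tensor B₁ B₂ L hL
  refine ⟨X, ?_, hX0⟩
  rw [hX, hLk, hW]
  ring

end Cfsg.Agent.S0833
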