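import Mathlib
import Cfsg.Statements.S0834
import Cfsg.Agent.Lib.Helper14.DiscType
-- import your own Cfsg.Agent.* helpers here

set_option autoImplicit false
open Cfsg

namespace Cfsg.Agent.S0834

/-- Over a finite field with 2 ≠ 0: if B₁ on U (dim 2k, k ≥ 1) and B₂ on W (dim 2l, l ≥ 1) are non-degenerate symmetric forms admitting no totally isotropic subspaces of dimensions k, resp. l (minus type), then B₁ ⊗ B₂ admits a totally isotropic subspace of dimension 2kl (plus type). -/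
theorem result {F U W : Type*} [Field F] [Fintype F] [AddCommGroup U] [Module F U] [FiniteDimensional F U] [AddCommGroup W] [Module F W] [FiniteDimensional F W] (h2 : (2 : F) ≠ 0) (B₁ : LinearMap.BilinForm F U) (B₂ : LinearMap.BilinForm F W) (h₁ : B₁.Nondegenerate) (h₂ : B₂.Nondegenerate) (hS₁ : B₁.IsSymm) (hS₂ : B₂.IsSymm) (k l : ℕ) (hk : 1 ≤ k) (hl : 1 ≤ l) (hU : Module.finrank F U = 2 * k) (hW : Module.finrank F W = 2 * l) (hm₁ : ¬ (∃ X : Submodule F (U), Module.finrank F X = k ∧ ∀ x ∈ X, ∀ y ∈ X, (B₁) x y = 0)) (hm₂ : ¬ (∃ X : Submodule F (W), Module.finrank F X = l ∧ ∀ x ∈ X, ∀ y ∈ X, (B₂) x y = 0)) : (∃ X : Submodule F (TensorProduct F U W), Module.finrank F X = 2 * k * l ∧ ∀ x ∈ X, ∀ y ∈ X, (B₁.tmul B₂) x y = 0) := by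
  classical
  obtain ⟨e, he, hea⟩ := Cfsg.Agent.Helper14.exists_orthogonal_basis_ne h2 B₁ hS₁ h₁
  obtain ⟨f, hf, hfb⟩ := Cfsg.Agent.Helper14.exists_orthogonal_basis_ne h2 B₂ hS₂ h₂
  obtain ⟨hb, hbb⟩ := Cfsg.Agent.Helper14.tensor_basis_ortho B₁ B₂ e f he hf
  have hne : ∀ p, (B₁.tmul B₂) (e.tensorProduct f p) (e.tensorProduct f p) ≠ 0 := by
    intro p
    rw [hbb p]
    exact mul_ne_zero (hfb _) (hea _)
  have hcard : Fintype.card (Fin (Module.finrank F U) × Fin (Module.finrank F W))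
      = 2 * (2 * k * l) := by
    rw [Fintype.card_prod, Fintype.card_fin, Fintype.card_fin, hU, hW]
    ring
  have hsymm : LinearMap.BilinForm.IsSymm (B₁.tmul B₂) :=
    LinearMap.BilinForm.isSymm_iff.mpr (LinearMap.IsSymm.tmul
      (LinearMap.BilinForm.isSymm_iff.mp hS₁) (LinearMap.BilinForm.isSymm_iff.mp hS₂))
  rw [Cfsg.Agent.Helper14.exists_ti_iff_isSquare h2 (B₁.tmul B₂) hsymm (e.tensorProduct f) hb hne
    (2 * k * l) hcard]
  simp only [hbb]
  rw [Cfsg.Agent.Helper14.prod_prod_mul (fun i => B₁ (e i) (e i)) (fun j => B₂ (f j) (f j)),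
    Fintype.card_fin, Fintype.card_fin]
  generalize (∏ i, B₁ (e i) (e i)) = A
  generalize (∏ j, B₂ (f j) (f j)) = Bp
  rw [hU, hW]
  refine ⟨A ^ l * Bp ^ k, ?_⟩
  have h1 : ((-1 : F)) ^ (2 * k * l) = 1 := by
    rw [mul_assoc, pow_mul]
    simp
  rw [h1]
  ring

end Cfsg.Agent.S0834
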