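import Mathlib
import Cfsg.Statements.S0835
import Cfsg.Agent.Lib.Helper14.DiscType
-- import your own Cfsg.Agent.* helpers here

set_option autoImplicit false
open Cfsg

namespace Cfsg.Agent.S0835

/-- Over a finite field with 2 ≠ 0: if B₁ on U (dim 2k, k ≥ 1) is non-degenerate symmetric of minus type (no totally isotropic k-subspace) and B₂ on W (dim 2l + 1) is non-degenerate symmetric, then B₁ ⊗ B₂ (dimension 2k(2l+1)) admits no totally isotropic subspace of dimension k(2l+1) (minus type). -/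
theorem result {F U W : Type*} [Field F] [Fintype F] [AddCommGroup U] [Module F U] [FiniteDimensional F U] [AddCommGroup W] [Module F W] [FiniteDimensional F W] (h2 : (2 : F) ≠ 0) (B₁ : LinearMap.BilinForm F U) (B₂ : LinearMap.BilinForm F W) (h₁ : B₁.Nondegenerate) (h₂ : B₂.Nondegenerate) (hS₁ : B₁.IsSymm) (hS₂ : B₂.IsSymm) (k l : ℕ) (hk : 1 ≤ k) (hU : Module.finrank F U = 2 * k) (hW : Module.finrank F W = 2 * l + 1) (hm₁ : ¬ (∃ X : Submodule F (U), Module.finrank F X = k ∧ ∀ x ∈ X, ∀ y ∈ X, (B₁) x y = 0)) : ¬ (∃ X : Submodule F (TensorProduct F U W), Module.finrank F X = k * (2 * l + 1) ∧ ∀ x ∈ X, ∀ y ∈ X, (B₁.tmul B₂) x y = 0) := by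
  classical
  obtain ⟨e, he, hea⟩ := Cfsg.Agent.Helper14.exists_orthogonal_basis_ne h2 B₁ hS₁ h₁
  obtain ⟨f, hf, hfb⟩ := Cfsg.Agent.Helper14.exists_orthogonal_basis_ne h2 B₂ hS₂ h₂
  obtain ⟨hb, hbb⟩ := Cfsg.Agent.Helper14.tensor_basis_ortho B₁ B₂ e f he hf
  have hne : ∀ p, (B₁.tmul B₂) (e.tensorProduct f p) (e.tensorProduct f p) ≠ 0 := by
    intro p
    rw [hbb p]
    exact mul_ne_zero (hfb _) (hea _)
  have hcard : Fintype.card (Fin (Module.finrank F U) × Fin (Module.finrank F W))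
      = 2 * (k * (2 * l + 1)) := by
    rw [Fintype.card_prod, Fintype.card_fin, Fintype.card_fin, hU, hW]
    ring
  have hsymm : LinearMap.BilinForm.IsSymm (B₁.tmul B₂) :=
    LinearMap.BilinForm.isSymm_iff.mpr (LinearMap.IsSymm.tmul
      (LinearMap.BilinForm.isSymm_iff.mp hS₁) (LinearMap.BilinForm.isSymm_iff.mp hS₂))
  have hns : ¬ IsSquare ((-1) ^ k * ∏ i, B₁ (e i) (e i)) := by
    intro h
    apply hm₁
    exact (Cfsg.Agent.Helper14.exists_ti_iff_isSquare h2 B₁ hS₁ e he hea k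
      (by rw [Fintype.card_fin, hU])).mpr h
  intro hX
  have hsq := (Cfsg.Agent.Helper14.exists_ti_iff_isSquare h2 (B₁.tmul B₂) hsymm
    (e.tensorProduct f) hb hne (k * (2 * l + 1)) hcard).mp hX
  simp only [hbb] at hsq
  rw [Cfsg.Agent.Helper14.prod_prod_mul (fun i => B₁ (e i) (e i)) (fun j => B₂ (f j) (f j)),
    Fintype.card_fin, Fintype.card_fin] at hsq
  apply hns
  have hA0 : (∏ i, B₁ (e i) (e i)) ≠ 0 := Finset.prod_ne_zero_iff.mpr (fun i _ => hea i)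
  have hB0 : (∏ j, B₂ (f j) (f j)) ≠ 0 := Finset.prod_ne_zero_iff.mpr (fun i _ => hfb i)
  generalize (∏ i, B₁ (e i) (e i)) = A at hsq hA0 ⊢
  generalize (∏ j, B₂ (f j) (f j)) = Bp at hsq hB0
  rw [hU, hW] at hsq
  obtain ⟨s, hs⟩ := hsq
  have ht0 : (-1 : F) ^ (k * l) * A ^ l * Bp ^ k ≠ 0 :=
    mul_ne_zero (mul_ne_zero (pow_ne_zero _ (by norm_num)) (pow_ne_zero _ hA0)) (pow_ne_zero _ hB0)
  have hkey : (-1 : F) ^ (k * (2 * l + 1)) * (A ^ (2 * l + 1) * Bp ^ (2 * k))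
      = ((-1) ^ k * A) * ((-1 : F) ^ (k * l) * A ^ l * Bp ^ k) ^ 2 := by
    ring
  rw [hkey] at hs
  refine ⟨s / ((-1 : F) ^ (k * l) * A ^ l * Bp ^ k), ?_⟩
  field_simp
  linear_combination hs

end Cfsg.Agent.S0835
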