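import Mathlib
import Cfsg.Statements.S0836

set_option autoImplicit false
open Cfsg
open scoped commutatorElement

namespace Cfsg.Agent.S0836

theorem mem_commutatorSet_of_mul_eq {G : Type*} [Group G] (g h t : G) (H : g * h = t * h * g) :
    t ∈ commutatorSet G := by
  refine ⟨g, h, ?_⟩
  rw [commutatorElement_def, H]
  group

theorem exists_ne_ne {n : ℕ} (hn : 3 ≤ n) (i j : Fin n) : ∃ k : Fin n, k ≠ i ∧ k ≠ j := by
  by_contra hcon
  push Not at hcon
  have h0 := hcon ⟨0, by omega⟩
  have h1 := hcon ⟨1, by omega⟩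
  have h2 := hcon ⟨2, by omega⟩
  rcases i with ⟨i, hi⟩
  rcases j with ⟨j, hj⟩
  simp only [ne_eq, Fin.mk.injEq] at h0 h1 h2
  omega

theorem mat_id3 {F : Type*} [Field F] {n : ℕ} (i j k : Fin n) (hij : i ≠ j) (hki : k ≠ i)
    (hkj : k ≠ j) (c : F) :
    Matrix.transvection i k c * Matrix.transvection k j 1 =
      Matrix.transvection i j c * Matrix.transvection k j 1 * Matrix.transvection i k c := by
  simp only [Matrix.transvection, Matrix.add_mul, Matrix.mul_add, Matrix.one_mul, Matrix.mul_one,
    Matrix.single_mul_single_same, Matrix.single_mul_single_of_ne _ _ _ _ hkj.symm,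
    Matrix.single_mul_single_of_ne _ _ _ _ hij.symm, mul_one, add_zero]
  abel

theorem mat_id2 {F : Type*} [Field F] (i j : Fin 2) (hij : i ≠ j) (x e c : F) (hx0 : x ≠ 0)
    (hce : c = (x ^ 2 - 1) * e) :
    Matrix.diagonal (fun a => if a = i then x else x⁻¹) * Matrix.transvection i j e =
      Matrix.transvection i j c * Matrix.transvection i j e *
        Matrix.diagonal (fun a => if a = i then x else x⁻¹) := by
  rw [Matrix.transvection_mul_transvection_same _ _ hij]
  simp only [Matrix.transvection, Matrix.add_mul, Matrix.mul_add, Matrix.one_mul, Matrix.mul_one]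
  congr 1
  ext a b
  simp only [Matrix.diagonal_mul, Matrix.mul_diagonal, Matrix.single_apply]
  by_cases h1 : i = a <;> by_cases h2 : j = b
  · subst h1 h2
    simp only [and_self, if_true, hij.symm, if_false, hce]
    field_simp
    ring
  all_goals simp [h1, h2]

/-- For i ≠ j and any scalar c, the elementary transvection 1 + c E_ij is a commutator ⁅g, h⁆ of two elements of SL_n(F) provided n ≥ 3, or n = 2 and F contains x ≠ 0 with x² ≠ 1. -/
theorem result {F : Type*} [Field F] (n : ℕ) (hn : 3 ≤ n ∨ (n = 2 ∧ ∃ x : F, x ≠ 0 ∧ x ^ 2 ≠ 1)) (i j : Fin n) (hij : i ≠ j) (c : F) (t : Matrix.SpecialLinearGroup (Fin n) F) (ht : (t : Matrix (Fin n) (Fin n) F) = Matrix.transvection i j c) : t ∈ commutatorSet (Matrix.SpecialLinearGroup (Fin n) F) := by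
  rcases hn with h3 | ⟨rfl, x, hx0, hx1⟩
  · obtain ⟨k, hki, hkj⟩ := exists_ne_ne h3 i j
    let g : Matrix.SpecialLinearGroup (Fin n) F :=
      ⟨Matrix.transvection i k c, Matrix.det_transvection_of_ne i k (Ne.symm hki) c⟩
    let h : Matrix.SpecialLinearGroup (Fin n) F :=
      ⟨Matrix.transvection k j 1, Matrix.det_transvection_of_ne k j hkj 1⟩
    have hg : (g : Matrix (Fin n) (Fin n) F) = Matrix.transvection i k c := rfl
    have hh : (h : Matrix (Fin n) (Fin n) F) = Matrix.transvection k j 1 := rfl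
    apply mem_commutatorSet_of_mul_eq g h t
    apply Subtype.ext
    show (↑(g * h) : Matrix (Fin n) (Fin n) F) = ↑(t * h * g)
    rw [Matrix.SpecialLinearGroup.coe_mul, Matrix.SpecialLinearGroup.coe_mul,
      Matrix.SpecialLinearGroup.coe_mul, ht, hg, hh]
    exact mat_id3 i j k hij hki hkj c
  · have hx2 : x ^ 2 - 1 ≠ 0 := sub_ne_zero.mpr hx1
    set e : F := c / (x ^ 2 - 1) with he
    have hce : c = (x ^ 2 - 1) * e := by rw [he]; field_simp
    let d : Fin 2 → F := fun a => if a = i then x else x⁻¹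
    have hdet : (Matrix.diagonal d).det = 1 := by
      rw [Matrix.det_diagonal, Fin.prod_univ_two]
      fin_cases i <;> fin_cases j <;> simp_all [d]
    let g : Matrix.SpecialLinearGroup (Fin 2) F := ⟨Matrix.diagonal d, hdet⟩
    let h : Matrix.SpecialLinearGroup (Fin 2) F :=
      ⟨Matrix.transvection i j e, Matrix.det_transvection_of_ne i j hij e⟩
    have hg : (g : Matrix (Fin 2) (Fin 2) F) = Matrix.diagonal d := rfl
    have hh : (h : Matrix (Fin 2) (Fin 2) F) = Matrix.transvection i j e := rfl
    apply mem_commutatorSet_of_mul_eq g h t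
    apply Subtype.ext
    show (↑(g * h) : Matrix (Fin 2) (Fin 2) F) = ↑(t * h * g)
    rw [Matrix.SpecialLinearGroup.coe_mul, Matrix.SpecialLinearGroup.coe_mul,
      Matrix.SpecialLinearGroup.coe_mul, ht, hg, hh]
    exact mat_id2 i j hij x e c hx0 hce

end Cfsg.Agent.S0836
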