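import Cfsg.Statements.S2164
import Mathlib
import Cfsg.Agent.Lib.Helper36.Frame

set_option autoImplicit false
open Cfsg

namespace Cfsg.Agent.S2164

open Matrix Module Cfsg.Agent.Helper36

universe u

section sigma

variable {F : Type u} [Field F] [Fintype F] [CharP F 2]

omit [CharP F 2] in
theorem two_le_q {q : ℕ} (hF : Fintype.card F = q ^ 2) : 2 ≤ q := by
  have h2 : 2 ≤ Fintype.card F := by
    have := Fintype.one_lt_card (α := F)
    omega
  by_contra h
  have : q = 0 ∨ q = 1 := by omega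
  rcases this with rfl | rfl <;> simp at hF <;> omega

/-- the field automorphism `x ↦ x ^ q` together with the facts needed about it -/
theorem exists_sigma {q : ℕ} (hF : Fintype.card F = q ^ 2) :
    ∃ σ : F →+* F, (∀ x, σ x = x ^ q) ∧ (∀ x, σ (σ x) = x) ∧ (∃ c, σ c ≠ c) ∧
      (∀ a, σ a = a → a ≠ 0 → ∃ l, l * σ l = a) := by
  classical
  have hq2 := two_le_q hF
  -- q is a power of two
  obtain ⟨k, -, hk⟩ := FiniteField.card F 2
  have hdvd : q ∣ 2 ^ (k : ℕ) := by
    rw [← hk, hF]; exact dvd_pow_self q two_ne_zero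
  obtain ⟨j, -, hj⟩ := (Nat.dvd_prime_pow Nat.prime_two).mp hdvd
  set σ : F →+* F := iterateFrobenius F 2 j with hσ
  have hσx : ∀ x, σ x = x ^ q := by
    intro x
    rw [hσ, iterateFrobenius_def, hj]
  have hσσ : ∀ x, σ (σ x) = x := by
    intro x
    rw [hσx, hσx, ← pow_mul, ← pow_two, ← hF, FiniteField.pow_card]
  -- generator of the unit group
  obtain ⟨g, hg⟩ := IsCyclic.exists_monoid_generator (α := Fˣ)
  have hord : orderOf g = q ^ 2 - 1 := by
    rw [orderOf_eq_card_of_forall_mem_powers hg, Nat.card_eq_fintype_card, Fintype.card_units, hF]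
  have hfact : q ^ 2 - 1 = (q + 1) * (q - 1) := by
    have : q ^ 2 = (q + 1) * (q - 1) + 1 := by
      obtain ⟨r, rfl⟩ : ∃ r, q = r + 1 := ⟨q - 1, by omega⟩
      simp
      ring
    omega
  have hpow : ∀ u : Fˣ, (u : F) ^ q = u → u ^ (q - 1) = 1 := by
    intro u hu
    have h1 : u ^ q = u := Units.ext (by rw [Units.val_pow_eq_pow_val, hu])
    have h2 : u ^ (q - 1) * u = 1 * u := by
      rw [← pow_succ, one_mul, show q - 1 + 1 = q by omega, h1]
    exact mul_right_cancel h2
  refine ⟨σ, hσx, hσσ, ⟨(g : F), ?_⟩, ?_⟩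
  · intro h
    rw [hσx] at h
    have h1 := hpow g h
    have h2 := orderOf_dvd_of_pow_eq_one h1
    rw [hord, hfact] at h2
    have h3 := Nat.le_of_dvd (by omega) h2
    have : (q + 1) * (q - 1) ≥ 2 * (q - 1) := Nat.mul_le_mul_right _ (by omega)
    omega
  · intro a ha ha0
    rw [hσx] at ha
    obtain ⟨i, hi⟩ := hg (Units.mk0 a ha0)
    have hi' : g ^ i = Units.mk0 a ha0 := hi
    have h1 : (Units.mk0 a ha0) ^ (q - 1) = 1 := hpow _ (by simpa using ha)
    rw [← hi', ← pow_mul] at h1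
    have h2 := orderOf_dvd_of_pow_eq_one h1
    rw [hord, hfact] at h2
    have h3 : (q + 1) ∣ i := Nat.dvd_of_mul_dvd_mul_right (by omega) h2
    obtain ⟨t, ht⟩ := h3
    refine ⟨((g ^ t : Fˣ) : F), ?_⟩
    rw [hσx, ← pow_succ', ← Units.val_pow_eq_pow_val, ← pow_mul, mul_comm t, ← ht, hi']
    rfl

end sigma

section form

variable {F : Type u} [Field F] {n : ℕ}

/-- the hermitian form, bundled -/
noncomputable def Hu (σ : F →+* F) (n : ℕ) : (Fin n → F) →ₗ[F] (Fin n → F) →ₛₗ[σ] F :=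
  LinearMap.mk₂'ₛₗ (RingHom.id F) σ (fun u v => ∑ i, u i * σ (v i))
    (by intro u u' v; simp [add_mul, Finset.sum_add_distrib])
    (by intro c u v; simp [Finset.mul_sum, mul_assoc])
    (by intro u v v'; simp [mul_add, Finset.sum_add_distrib])
    (by intro c u v; simp [Finset.mul_sum, mul_left_comm])

theorem Hu_apply (σ : F →+* F) (u v : Fin n → F) : Hu σ n u v = ∑ i, u i * σ (v i) := rfl

theorem Hu_eq_hermForm {σ : F →+* F} {q : ℕ} (hσ : ∀ x, σ x = x ^ q) (u v : Fin n → F) :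
    Hu σ n u v = Cfsg.hermForm n F q u v := by
  rw [Hu_apply]
  unfold Cfsg.hermForm
  simp only [hσ]

theorem Hu_isHerm {σ : F →+* F} (hσσ : ∀ x, σ (σ x) = x) : IsHerm (Hu σ n) := by
  intro u v
  rw [Hu_apply, Hu_apply, map_sum]
  apply Finset.sum_congr rfl
  intro i _
  rw [map_mul, hσσ, mul_comm]

theorem Hu_ker (σ : F →+* F) : LinearMap.ker (Hu σ n) = ⊥ := by
  rw [Submodule.eq_bot_iff]
  intro u hu
  rw [LinearMap.mem_ker] at hu
  funext i
  have h := LinearMap.congr_fun hu (Pi.single i 1)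
  rw [Hu_apply] at h
  rw [Finset.sum_eq_single i] at h
  · simpa using h
  · intro j _ hj
    simp [hj]
  · simp

/-- the square-zero map of an involution -/
noncomputable def Nmap (A : Matrix (Fin n) (Fin n) F) : (Fin n → F) →ₗ[F] (Fin n → F) :=
  Matrix.toLin' (A - 1)

theorem Nmap_sq [CharP F 2] (A : Matrix (Fin n) (Fin n) F) (hAA : A * A = 1) (x : Fin n → F) :
    Nmap A (Nmap A x) = 0 := by
  have h2F : (2 : F) = 0 := CharP.cast_eq_zero F 2
  have h0 : (A - 1) * (A - 1) = 0 := by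
    rw [Matrix.sub_mul, Matrix.mul_sub, Matrix.mul_sub, hAA, Matrix.one_mul, Matrix.mul_one, Matrix.mul_one]
    have : (1 : Matrix (Fin n) (Fin n) F) - A - (A - 1) = (2 : F) • (1 - A) := by
      rw [two_smul]; abel
    rw [this, h2F, zero_smul]
  unfold Nmap
  rw [← LinearMap.comp_apply, ← Matrix.toLin'_mul, h0]
  simp

theorem Nmap_apply (A : Matrix (Fin n) (Fin n) F) (x : Fin n → F) : Nmap A x = A *ᵥ x - x := by
  unfold Nmap
  rw [Matrix.toLin'_apply, Matrix.sub_mulVec, Matrix.one_mulVec]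

theorem Nmap_adj {σ : F →+* F} (A : Matrix (Fin n) (Fin n) F)
    (hA : ∀ u v, Hu σ n (A *ᵥ u) (A *ᵥ v) = Hu σ n u v) (hAA : A * A = 1) (u v : Fin n → F) :
    Hu σ n (Nmap A u) v = Hu σ n u (Nmap A v) := by
  have h1 : Hu σ n (A *ᵥ u) v = Hu σ n u (A *ᵥ v) := by
    have := hA (A *ᵥ u) v
    rw [Matrix.mulVec_mulVec, hAA, Matrix.one_mulVec] at this
    exact this.symm
  rw [Nmap_apply, Nmap_apply, map_sub, LinearMap.sub_apply, map_sub, h1]

theorem rank_add_ker (A : Matrix (Fin n) (Fin n) F) :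
    (A - 1).rank + finrank F (LinearMap.ker (Nmap A)) = finrank F (Fin n → F) :=
  LinearMap.finrank_range_add_finrank_ker (Nmap A)

/-- the trace condition -/
theorem exists_trace [CharP F 2] {σ : F →+* F} (hσσ : ∀ x, σ (σ x) = x) (hne : ∃ c, σ c ≠ c)
    (v : Fin n → F) : ∃ β, β + σ β = Hu σ n v v := by
  obtain ⟨c, hc⟩ := hne
  have ht : c + σ c ≠ 0 := by
    intro h
    apply hc
    have h2 := char_two_add_self c
    have : σ c - c = 0 := by linear_combination h - h2
    exact sub_eq_zero.mp this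
  have hfix : σ (Hu σ n v v) = Hu σ n v v := (Hu_isHerm hσσ v v).symm
  refine ⟨Hu σ n v v * (c / (c + σ c)), ?_⟩
  rw [map_mul, hfix, map_div₀, map_add, hσσ, add_comm (σ c) c, ← mul_add, ← add_div, div_self ht,
    mul_one]

end form

section frames

variable {F : Type u} [Field F] [CharP F 2] {n : ℕ} {σ : F →+* F}

theorem su_frame (hσσ : ∀ x, σ (σ x) = x) (hne : ∃ c, σ c ≠ c)
    (hnorm : ∀ a, σ a = a → a ≠ 0 → ∃ l, l * σ l = a)
    (A : Matrix (Fin n) (Fin n) F)
    (hA : ∀ u v, Hu σ n (A *ᵥ u) (A *ᵥ v) = Hu σ n u v) (hAA : A * A = 1) :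
    ∃ (ℓ r' : ℕ) (Z : Fin ℓ ⊕ (Fin r' ⊕ Fin ℓ) → (Fin n → F)),
      ℓ = (A - 1).rank ∧
      IsFrame (Hu σ n) (Nmap A) (id : Fin ℓ → Fin ℓ) (id : Fin r' → Fin r') Z := by
  have hH := Hu_isHerm (n := n) hσσ
  have hN2 := Nmap_sq A hAA
  have hadj := Nmap_adj A hA hAA
  have hkH := kForm_isHerm hH hadj
  obtain ⟨ℓ, x, hx, hdim⟩ := exists_orthonormal_of_herm hne hnorm (finrank F (Fin n → F))
    (Fin n → F) rfl (kForm (Hu σ n) (Nmap A)) hkH
  rw [kForm_ker (Hu_ker σ)] at hdim
  have hrk := rank_add_ker A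
  have hcard : Fintype.card (Fin ℓ) + finrank F (LinearMap.ker (Nmap A)) =
      finrank F (Fin n → F) := by
    rw [Fintype.card_fin]; exact hdim
  have hτ : ∀ i : Fin ℓ, id (id i) = i := fun _ => rfl
  obtain ⟨y, hy0, hyk⟩ := exists_isotropic_lift (fun i : Fin ℓ => i.val) Fin.val_injective hH hN2 hadj
    hτ hx (exists_trace hσσ hne)
  have hstd := pair_isStd hN2 hadj hy0 hyk
  set W := orthFam (Hu σ n) (Sum.elim y (fun i => Nmap A (y i))) with hW
  have hker : finrank F (LinearMap.ker ((Hu σ n).domRestrict₁₂ W W)) = 0 := by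
    rw [hstd.finrank_ker_restrict (pairInv_invol hτ), Hu_ker, finrank_bot]
  obtain ⟨r', w, hw, hdim'⟩ := exists_orthonormal_of_herm hne hnorm (finrank F W) W rfl
    ((Hu σ n).domRestrict₁₂ W W) (hH.restrict W)
  have hwcard : Fintype.card (Fin r') = finrank F W := by
    rw [Fintype.card_fin]
    omega
  exact ⟨ℓ, r', _, by omega,
    isFrame_of_families hH (Hu_ker σ) hN2 hadj hτ hy0 hyk hcard w hw hwcard⟩

end frames

section conj

variable {F : Type u} [Field F] [CharP F 2] {n : ℕ} {σ : F →+* F}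

omit [CharP F 2] in
theorem Hu_single (σ : F →+* F) (i j : Fin n) :
    Hu σ n (Pi.single i 1) (Pi.single j 1) = if i = j then 1 else 0 := by
  rw [Hu_apply, Finset.sum_eq_single i]
  · by_cases h : i = j
    · subst h; simp
    · simp [h]
  · intro k _ hk
    simp [hk]
  · simp

omit [CharP F 2] in
theorem det_mul_sigma_det (G : Matrix (Fin n) (Fin n) F)
    (hG : ∀ u v, Hu σ n (G *ᵥ u) (G *ᵥ v) = Hu σ n u v) : G.det * σ G.det = 1 := by
  have h : Gᵀ * (σ.mapMatrix G) = 1 := by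
    ext i j
    have := hG (Pi.single i 1) (Pi.single j 1)
    rw [Hu_single, Hu_apply] at this
    rw [Matrix.mul_apply, Matrix.one_apply, ← this]
    apply Finset.sum_congr rfl
    intro k _
    simp
  have h2 := congrArg Matrix.det h
  rw [Matrix.det_mul, Matrix.det_transpose, ← RingHom.map_det, Matrix.det_one] at h2
  exact h2

theorem eq_one_of_mul_self_eq_one (x : F) (hx : x * x = 1) : x = 1 := by
  have h2x := char_two_add_self x
  have h11 := char_two_add_self (1 : F)
  have : (x - 1) * (x - 1) = 0 := by linear_combination hx - h2x + h11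
  exact sub_eq_zero.mp (mul_self_eq_zero.mp this)

/-- scaling one hyperbolic pair of a frame -/
theorem exists_scaling {V : Type u} [AddCommGroup V] [Module F V] [FiniteDimensional F V]
    {H : V →ₗ[F] V →ₛₗ[σ] F} {N : V →ₗ[F] V} {ℓ r' : ℕ} {Z : Fin ℓ ⊕ (Fin r' ⊕ Fin ℓ) → V}
    (h : IsFrame H N (id : Fin ℓ → Fin ℓ) (id : Fin r' → Fin r') Z) (i₀ : Fin ℓ) (lam : F)
    (hlam : lam * σ lam = 1) :
    ∃ c : V →ₗ[F] V, LinearMap.det c = lam * lam ∧ (∀ u v, H (c u) (c v) = H u v) ∧
      ∀ u, c (N u) = N (c u) := by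
  classical
  have hτ : ∀ i : Fin ℓ, id (id i) = i := fun _ => rfl
  have hτ' : ∀ i : Fin r', id (id i) = i := fun _ => rfl
  have hcard : Fintype.card (Fin ℓ ⊕ (Fin r' ⊕ Fin ℓ)) = finrank F V := by
    rw [Fintype.card_sum, Fintype.card_sum]; exact h.card
  set b := basisOfLinearIndependentOfCardEqFinrank' Z
    (h.std.linearIndependent (frameInv_invol hτ hτ')) hcard with hb
  have hba : ∀ a, b a = Z a := fun a => by rw [hb, coe_basisOfLinearIndependentOfCardEqFinrank']
  set s : Fin ℓ ⊕ (Fin r' ⊕ Fin ℓ) → F := fun a =>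
    (if a = Sum.inl i₀ then lam else 1) * (if a = Sum.inr (Sum.inr i₀) then lam else 1) with hs
  set c : V →ₗ[F] V := b.constr F (fun a => s a • Z a) with hc
  have hcZ : ∀ a, c (Z a) = s a • Z a := by
    intro a
    rw [← hba a, hc, Basis.constr_basis, hba]
  have hs1 : ∀ a, s a * σ (s (frameInv id id a)) = 1 := by
    rintro (i | j | i)
    · by_cases hi : i = i₀
      · simp [hs, frameInv, hi, hlam]
      · simp [hs, frameInv, hi]
    · simp [hs, frameInv]
    · by_cases hi : i = i₀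
      · simp [hs, frameInv, hi, hlam]
      · simp [hs, frameInv, hi]
  have hs2 : ∀ i, s (Sum.inl i) = s (Sum.inr (Sum.inr i)) := by
    intro i
    simp [hs]
  refine ⟨c, ?_, ?_, ?_⟩
  · rw [← LinearMap.det_toMatrix b]
    have hdiag : LinearMap.toMatrix b b c = Matrix.diagonal s := by
      ext a a'
      rw [LinearMap.toMatrix_apply, hba, hcZ, ← hba, map_smul, b.repr_self, Matrix.diagonal_apply]
      by_cases haa : a = a'
      · subst haa; simp
      · simp [haa]
    rw [hdiag, Matrix.det_diagonal, hs, Finset.prod_mul_distrib, Finset.prod_ite_eq',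
      Finset.prod_ite_eq']
    simp
  · have : (H.comp c).compl₂ c = H := by
      apply sesq_ext_basis b
      intro a a'
      rw [LinearMap.compl₂_apply, LinearMap.comp_apply, hba, hba, hcZ, hcZ, LinearMap.map_smul₂,
        LinearMap.map_smulₛₗ, h.std]
      by_cases haa : a' = frameInv id id a
      · rw [if_pos haa, haa, smul_eq_mul, smul_eq_mul, mul_one]
        exact hs1 a
      · rw [if_neg haa, smul_zero, smul_zero]
    intro u v
    have h' := LinearMap.congr_fun (LinearMap.congr_fun this u) v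
    rw [LinearMap.compl₂_apply, LinearMap.comp_apply] at h'
    exact h'
  · have : c ∘ₗ N = N ∘ₗ c := by
      apply b.ext
      rintro (i | j | i)
      · simp only [LinearMap.comp_apply, hba, hcZ, h.N_inl, map_smul, hs2]
      · simp only [LinearMap.comp_apply, hba, hcZ, h.N_mid, map_smul, map_zero, smul_zero]
      · simp only [LinearMap.comp_apply, hba, hcZ, h.N_inr, map_smul, map_zero, smul_zero]
    intro u
    exact LinearMap.congr_fun this u

end conj

section main

variable {F : Type u} [Field F] [Fintype F] [CharP F 2] {n : ℕ} {σ : F →+* F}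

/-- frames of the same shape give a conjugating unitary matrix of determinant one -/
theorem su_conj_of_frames (A B : Matrix (Fin n) (Fin n) F) {ℓ r' : ℕ}
    {Z₁ Z₂ : Fin ℓ ⊕ (Fin r' ⊕ Fin ℓ) → (Fin n → F)}
    (h₁ : IsFrame (Hu σ n) (Nmap A) (id : Fin ℓ → Fin ℓ) (id : Fin r' → Fin r') Z₁)
    (h₂ : IsFrame (Hu σ n) (Nmap B) (id : Fin ℓ → Fin ℓ) (id : Fin r' → Fin r') Z₂) (i₀ : Fin ℓ) :
    ∃ G : Matrix (Fin n) (Fin n) F, G.det = 1 ∧
      (∀ u v, Hu σ n (G *ᵥ u) (G *ᵥ v) = Hu σ n u v) ∧ G * A = B * G := by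
  have hτ : ∀ i : Fin ℓ, id (id i) = i := fun _ => rfl
  have hτ' : ∀ i : Fin r', id (id i) = i := fun _ => rfl
  obtain ⟨g, hg1, hg2⟩ := exists_isometry_of_frames hτ hτ' h₁ h₂
  set d := LinearMap.det g.toLinearMap with hd
  have hdd : d * σ d = 1 := by
    rw [hd, ← LinearMap.det_toMatrix']
    apply det_mul_sigma_det
    intro u v
    rw [LinearMap.toMatrix'_mulVec, LinearMap.toMatrix'_mulVec]
    exact hg1 u v
  have hd0 : d ≠ 0 := by
    intro h0
    rw [h0, zero_mul] at hdd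
    exact zero_ne_one hdd
  obtain ⟨lam, hlam⟩ : ∃ lam : F, lam * lam = d⁻¹ := by
    obtain ⟨t, ht⟩ := surjective_frobenius F 2 d⁻¹
    exact ⟨t, by rw [← ht, frobenius_def, pow_two]⟩
  have hlam1 : lam * σ lam = 1 := by
    apply eq_one_of_mul_self_eq_one
    have : lam * σ lam * (lam * σ lam) = (lam * lam) * σ (lam * lam) := by
      rw [map_mul]; ring
    rw [this, hlam, map_inv₀, ← mul_inv, hdd, inv_one]
  obtain ⟨c, hc1, hc2, hc3⟩ := exists_scaling h₁ i₀ lam hlam1
  set f : (Fin n → F) →ₗ[F] (Fin n → F) := g.toLinearMap ∘ₗ c with hf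
  set G := LinearMap.toMatrix' f with hG
  have hGv : ∀ v, G *ᵥ v = g (c v) := by
    intro v
    rw [hG, LinearMap.toMatrix'_mulVec]; rfl
  refine ⟨G, ?_, ?_, ?_⟩
  · rw [hG, LinearMap.det_toMatrix', hf, LinearMap.det_comp, hc1, hlam, ← hd, mul_inv_cancel₀ hd0]
  · intro u v
    rw [hGv, hGv, hg1, hc2]
  · have h1 : G * (A - 1) = (B - 1) * G := by
      apply Matrix.toLin'.injective
      rw [Matrix.toLin'_mul, Matrix.toLin'_mul, hG, Matrix.toLin'_toMatrix']
      apply LinearMap.ext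
      intro x
      show g (c (Nmap A x)) = Nmap B (g (c x))
      rw [hc3, hg2]
    rw [Matrix.mul_sub, Matrix.sub_mul, Matrix.mul_one, Matrix.one_mul] at h1
    exact sub_left_injective h1

omit [Fintype F] [CharP F 2] in
theorem eq_zero_of_rank_eq_zero (M : Matrix (Fin n) (Fin n) F) (h : M.rank = 0) : M = 0 := by
  unfold Matrix.rank at h
  rw [Submodule.finrank_eq_zero] at h
  have h0 : M.mulVecLin = 0 := LinearMap.range_eq_bot.mp h
  ext i j
  have := congrFun (LinearMap.congr_fun h0 (Pi.single j 1)) i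
  simpa using this

theorem su_conj_of_rank (hσσ : ∀ x, σ (σ x) = x) (hne : ∃ c, σ c ≠ c)
    (hnorm : ∀ a, σ a = a → a ≠ 0 → ∃ l, l * σ l = a)
    (A B : Matrix (Fin n) (Fin n) F)
    (hA : ∀ u v, Hu σ n (A *ᵥ u) (A *ᵥ v) = Hu σ n u v) (hAA : A * A = 1)
    (hB : ∀ u v, Hu σ n (B *ᵥ u) (B *ᵥ v) = Hu σ n u v) (hBB : B * B = 1)
    (hA1 : A ≠ 1) (hrank : (A - 1).rank = (B - 1).rank) :
    ∃ G : Matrix (Fin n) (Fin n) F, G.det = 1 ∧
      (∀ u v, Hu σ n (G *ᵥ u) (G *ᵥ v) = Hu σ n u v) ∧ G * A = B * G := by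
  obtain ⟨ra, ra', Za, ha1, hfa⟩ := su_frame hσσ hne hnorm A hA hAA
  obtain ⟨rb, rb', Zb, hb1, hfb⟩ := su_frame hσσ hne hnorm B hB hBB
  have e1 : ra = rb := by omega
  subst e1
  have e2 : ra' = rb' := by
    have c1 := hfa.card
    have c2 := hfb.card
    simp only [Fintype.card_fin] at c1 c2
    omega
  subst e2
  have hpos : 0 < ra := by
    rcases Nat.eq_zero_or_pos ra with h0 | h0
    · exfalso
      apply hA1
      rw [h0] at ha1
      exact sub_eq_zero.mp (eq_zero_of_rank_eq_zero _ ha1.symm)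
    · exact h0
  exact su_conj_of_frames A B hfa hfb ⟨0, hpos⟩

end main

/-- Conjugacy of involutions in the special unitary group SU_n(q), q even, n ≥ 3, realised over the field F with q² elements as the matrices of determinant 1 preserving the form Σ u_i v_i^q: for two elements of order 2 of SU_n(q) the following are equivalent — they are conjugate in SU_n(q); they are conjugate in SL_n(F); the matrices a − 1 and b − 1 have the same rank. -/
theorem result {F : Type*} [Field F] [Fintype F] [CharP F 2] {n q : ℕ} (hF : Fintype.card F = q ^ 2) (hn : 3 ≤ n) (a b : ↥(Cfsg.SU n F q)) (ha : orderOf a = 2) (hb : orderOf b = 2) :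
    (IsConj a b ↔ IsConj (a : Matrix.SpecialLinearGroup (Fin n) F) (b : Matrix.SpecialLinearGroup (Fin n) F)) ∧
    (IsConj a b ↔ (((a : Matrix.SpecialLinearGroup (Fin n) F) : Matrix (Fin n) (Fin n) F) - 1).rank = (((b : Matrix.SpecialLinearGroup (Fin n) F) : Matrix (Fin n) (Fin n) F) - 1).rank) := by
  obtain ⟨σ, hσx, hσσ, hne, hnorm⟩ := exists_sigma hF
  set A : Matrix (Fin n) (Fin n) F := ((a : Matrix.SpecialLinearGroup (Fin n) F) : Matrix (Fin n) (Fin n) F) with hAdef
  set B : Matrix (Fin n) (Fin n) F := ((b : Matrix.SpecialLinearGroup (Fin n) F) : Matrix (Fin n) (Fin n) F) with hBdef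
  have hmem : ∀ c : Matrix.SpecialLinearGroup (Fin n) F, c ∈ Cfsg.SU n F q ↔
      ∀ u v, Hu σ n ((c : Matrix (Fin n) (Fin n) F) *ᵥ u) ((c : Matrix (Fin n) (Fin n) F) *ᵥ v) = Hu σ n u v := by
    intro c
    constructor
    · intro h u v
      rw [Hu_eq_hermForm hσx, Hu_eq_hermForm hσx]
      exact h u v
    · intro h u v
      have := h u v
      rw [Hu_eq_hermForm hσx, Hu_eq_hermForm hσx] at this
      exact this
  have hA : ∀ u v, Hu σ n (A *ᵥ u) (A *ᵥ v) = Hu σ n u v := (hmem _).mp a.2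
  have hB : ∀ u v, Hu σ n (B *ᵥ u) (B *ᵥ v) = Hu σ n u v := (hmem _).mp b.2
  have hsq : ∀ c : ↥(Cfsg.SU n F q), orderOf c = 2 →
      ((c : Matrix.SpecialLinearGroup (Fin n) F) : Matrix (Fin n) (Fin n) F) *
        ((c : Matrix.SpecialLinearGroup (Fin n) F) : Matrix (Fin n) (Fin n) F) = 1 := by
    intro c hc
    have h := pow_orderOf_eq_one c
    rw [hc, pow_two] at h
    have h' := congrArg (fun x : ↥(Cfsg.SU n F q) =>
      ((x : Matrix.SpecialLinearGroup (Fin n) F) : Matrix (Fin n) (Fin n) F)) h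
    simpa using h'
  have hAA : A * A = 1 := hsq a ha
  have hBB : B * B = 1 := hsq b hb
  have hA1 : A ≠ 1 := by
    intro h1
    have : a = 1 := by
      apply Subtype.ext
      apply Subtype.ext
      exact h1
    rw [this, orderOf_one] at ha
    omega
  have P1 : IsConj a b → IsConj (a : Matrix.SpecialLinearGroup (Fin n) F) (b : Matrix.SpecialLinearGroup (Fin n) F) := by
    intro h
    obtain ⟨c, hc⟩ := isConj_iff.mp h
    apply isConj_iff.mpr
    refine ⟨(c : Matrix.SpecialLinearGroup (Fin n) F), ?_⟩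
    have h' := congrArg (fun x : ↥(Cfsg.SU n F q) => (x : Matrix.SpecialLinearGroup (Fin n) F)) hc
    simpa using h'
  have P2 : IsConj (a : Matrix.SpecialLinearGroup (Fin n) F) (b : Matrix.SpecialLinearGroup (Fin n) F) →
      (A - 1).rank = (B - 1).rank := by
    intro h
    obtain ⟨c, hc⟩ := isConj_iff.mp h
    set C : Matrix (Fin n) (Fin n) F := (c : Matrix (Fin n) (Fin n) F) with hCdef
    set C' : Matrix (Fin n) (Fin n) F := ((c⁻¹ : Matrix.SpecialLinearGroup (Fin n) F) : Matrix (Fin n) (Fin n) F) with hC'def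
    have hCC' : C * C' = 1 := by
      have h : ((c * c⁻¹ : Matrix.SpecialLinearGroup (Fin n) F) : Matrix (Fin n) (Fin n) F) = ((1 : Matrix.SpecialLinearGroup (Fin n) F) : Matrix (Fin n) (Fin n) F) := by
        rw [mul_inv_cancel]
      simpa only [Matrix.SpecialLinearGroup.coe_mul, Matrix.SpecialLinearGroup.coe_one] using h
    have hC'C : C' * C = 1 := by
      have h : ((c⁻¹ * c : Matrix.SpecialLinearGroup (Fin n) F) : Matrix (Fin n) (Fin n) F) = ((1 : Matrix.SpecialLinearGroup (Fin n) F) : Matrix (Fin n) (Fin n) F) := by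
        rw [inv_mul_cancel]
      simpa only [Matrix.SpecialLinearGroup.coe_mul, Matrix.SpecialLinearGroup.coe_one] using h
    have hcab : C * A * C' = B := by
      have h := congrArg (fun x : Matrix.SpecialLinearGroup (Fin n) F => (x : Matrix (Fin n) (Fin n) F)) hc
      simpa only [Matrix.SpecialLinearGroup.coe_mul] using h
    have hdC : IsUnit C.det := by
      apply IsUnit.of_mul_eq_one (C'.det)
      rw [← Matrix.det_mul, hCC', Matrix.det_one]
    have hdC' : IsUnit C'.det := by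
      apply IsUnit.of_mul_eq_one (C.det)
      rw [← Matrix.det_mul, hC'C, Matrix.det_one]
    have hb1 : B - 1 = C * (A - 1) * C' := by
      rw [Matrix.mul_sub, Matrix.sub_mul, Matrix.mul_one, hCC', hcab]
    rw [hb1, Matrix.rank_mul_eq_left_of_isUnit_det _ _ hdC', Matrix.rank_mul_eq_right_of_isUnit_det _ _ hdC]
  have P3 : (A - 1).rank = (B - 1).rank → IsConj a b := by
    intro hrank
    obtain ⟨G, hGdet, hGpres, hGA⟩ := su_conj_of_rank hσσ hne hnorm A B hA hAA hB hBB hA1 hrank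
    apply isConj_iff.mpr
    refine ⟨⟨⟨G, hGdet⟩, (hmem _).mpr hGpres⟩, ?_⟩
    rw [mul_inv_eq_iff_eq_mul]
    apply Subtype.ext
    apply Subtype.ext
    exact hGA
  exact ⟨⟨P1, fun h => P3 (P2 h)⟩, ⟨fun h => P2 (P1 h), P3⟩⟩

end Cfsg.Agent.S2164
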