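import Cfsg.Statements.S0837
import Mathlib
import Cfsg.Agent.Lib.Helper36.StdFamily
import Cfsg.Agent.S2164

set_option autoImplicit false
open Cfsg

namespace Cfsg.Agent.S0837

open Matrix Module Cfsg.Agent.Helper36 Cfsg.Agent.S2164

universe u

section sigma

variable {F : Type u} [Field F] [Fintype F]

/-- the field automorphism `x ↦ x ^ q` of a field with `q ^ 2` elements (any characteristic) -/
theorem exists_sigma_gen {q : ℕ} (hF : Fintype.card F = q ^ 2) :
    ∃ σ : F →+* F, (∀ x, σ x = x ^ q) ∧ (∀ x, σ (σ x) = x) ∧ (∃ c, σ c ≠ c) ∧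
      (∀ a, σ a = a → a ≠ 0 → ∃ l, l * σ l = a) := by
  classical
  have hq2 := two_le_q hF
  obtain ⟨p, hp⟩ := CharP.exists F
  have hpp : Fact p.Prime := ⟨CharP.char_is_prime F p⟩
  obtain ⟨k, -, hk⟩ := FiniteField.card F p
  have hdvd : q ∣ p ^ (k : ℕ) := by
    rw [← hk, hF]; exact dvd_pow_self q two_ne_zero
  obtain ⟨j, -, hj⟩ := (Nat.dvd_prime_pow hpp.out).mp hdvd
  set σ : F →+* F := iterateFrobenius F p j with hσ
  have hσx : ∀ x, σ x = x ^ q := by
    intro x
    rw [hσ, iterateFrobenius_def, hj]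
  have hσσ : ∀ x, σ (σ x) = x := by
    intro x
    rw [hσx, hσx, ← pow_mul, ← pow_two, ← hF, FiniteField.pow_card]
  obtain ⟨g, hg⟩ := IsCyclic.exists_monoid_generator (α := Fˣ)
  have hord : orderOf g = q ^ 2 - 1 := by
    rw [orderOf_eq_card_of_forall_mem_powers hg, Nat.card_eq_fintype_card, Fintype.card_units, hF]
  have hfact : q ^ 2 - 1 = (q + 1) * (q - 1) := by
    have : q ^ 2 = (q + 1) * (q - 1) + 1 := by
      obtain ⟨r, rfl⟩ : ∃ r, q = r + 1 := ⟨q - 1, by omega⟩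
      simp
      ring
    omega
  have hpow : ∀ u : Fˣ, (u : F) ^ q = u → u ^ (q - 1) = 1 := by
    intro u hu
    have h1 : u ^ q = u := Units.ext (by rw [Units.val_pow_eq_pow_val, hu])
    have h2 : u ^ (q - 1) * u = 1 * u := by
      rw [← pow_succ, one_mul, show q - 1 + 1 = q by omega, h1]
    exact mul_right_cancel h2
  refine ⟨σ, hσx, hσσ, ⟨(g : F), ?_⟩, ?_⟩
  · intro h
    rw [hσx] at h
    have h1 := hpow g h
    have h2 := orderOf_dvd_of_pow_eq_one h1
    rw [hord, hfact] at h2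
    have h3 := Nat.le_of_dvd (by omega) h2
    have : (q + 1) * (q - 1) ≥ 2 * (q - 1) := Nat.mul_le_mul_right _ (by omega)
    omega
  · intro a ha ha0
    rw [hσx] at ha
    obtain ⟨i, hi⟩ := hg (Units.mk0 a ha0)
    have hi' : g ^ i = Units.mk0 a ha0 := hi
    have h1 : (Units.mk0 a ha0) ^ (q - 1) = 1 := hpow _ (by simpa using ha)
    rw [← hi', ← pow_mul] at h1
    have h2 := orderOf_dvd_of_pow_eq_one h1
    rw [hord, hfact] at h2
    have h3 : (q + 1) ∣ i := Nat.dvd_of_mul_dvd_mul_right (by omega) h2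
    obtain ⟨t, ht⟩ := h3
    refine ⟨((g ^ t : Fˣ) : F), ?_⟩
    rw [hσx, ← pow_succ', ← Units.val_pow_eq_pow_val, ← pow_mul, mul_comm t, ← ht, hi']
    rfl

end sigma

section basis

variable {F : Type u} [Field F] {σ : F →+* F} {n k : ℕ}

/-- for an orthonormal family, the coordinates are given by the form -/
theorem isStd_repr {V : Type*} [AddCommGroup V] [Module F V] {ι : Type} [Fintype ι] [DecidableEq ι]
    {B : V →ₗ[F] V →ₛₗ[σ] F} (b : Basis ι F V) (hb : IsStd B id b) (v : V) (a : ι) :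
    b.repr v a = B v (b a) := by
  have h := hb.sum_left (fun _ => rfl) (fun a => b.repr v a) a
  rw [b.sum_repr v] at h
  exact h.symm

/-- an orthonormal basis adapted to a non-degenerate subspace -/
theorem exists_adapted_basis (hσσ : ∀ x, σ (σ x) = x) (hne : ∃ c, σ c ≠ c)
    (hnorm : ∀ a, σ a = a → a ≠ 0 → ∃ l, l * σ l = a) (hk : k ≤ n)
    (W : Submodule F (Fin n → F)) (hWk : finrank F W = k)
    (hW : ∀ u ∈ W, (∀ v ∈ W, Hu σ n u v = 0) → u = 0) :
    ∃ b : Basis (Fin k ⊕ Fin (n - k)) F (Fin n → F), IsStd (Hu σ n) id b ∧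
      ∀ v, v ∈ W ↔ ∀ j, b.repr v (Sum.inr j) = 0 := by
  have hH := Hu_isHerm (n := n) hσσ
  have hτ : ∀ {m : ℕ} (i : Fin m), id (id i) = i := fun _ => rfl
  -- orthonormal basis of W
  have hkerW : LinearMap.ker ((Hu σ n).domRestrict₁₂ W W) = ⊥ := by
    rw [Submodule.eq_bot_iff]
    intro u hu
    rw [LinearMap.mem_ker] at hu
    apply Subtype.ext
    apply hW u.1 u.2
    intro v hv
    have := LinearMap.congr_fun hu ⟨v, hv⟩
    simpa only [LinearMap.domRestrict₁₂_apply, LinearMap.zero_apply] using this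
  obtain ⟨ℓ, x, hx, hdim⟩ := exists_orthonormal_of_herm hne hnorm k W hWk
    ((Hu σ n).domRestrict₁₂ W W) (hH.restrict W)
  rw [hkerW, finrank_bot, add_zero, hWk] at hdim
  subst hdim
  set x' : Fin ℓ → (Fin n → F) := fun i => (x i : Fin n → F) with hx'def
  have hx' : IsStd (Hu σ n) id x' := by
    intro i j
    have := hx i j
    simpa only [LinearMap.domRestrict₁₂_apply] using this
  set Wp := orthFam (Hu σ n) x' with hWp
  have hdimWp : ℓ + finrank F Wp = n := by
    have := hx'.finrank_orthFam (fun _ => rfl)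
    rw [Fintype.card_fin, Module.finrank_fin_fun] at this
    exact this
  have hkerWp : finrank F (LinearMap.ker ((Hu σ n).domRestrict₁₂ Wp Wp)) = 0 := by
    rw [hx'.finrank_ker_restrict (fun _ => rfl), Hu_ker, finrank_bot]
  obtain ⟨ℓ', y, hy, hdim'⟩ := exists_orthonormal_of_herm hne hnorm (finrank F Wp) Wp rfl
    ((Hu σ n).domRestrict₁₂ Wp Wp) (hH.restrict Wp)
  obtain rfl : ℓ' = n - ℓ := by omega
  have hyx : ∀ j i, Hu σ n (y j : Fin n → F) (x' i) = 0 := fun j i =>
    (mem_orthFam (Hu σ n) x' _).mp (y j).2 i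
  have hxy : ∀ i j, Hu σ n (x' i) (y j : Fin n → F) = 0 := fun i j => by
    rw [hH, hyx, map_zero]
  set z : Fin ℓ ⊕ Fin (n - ℓ) → (Fin n → F) := Sum.elim x' (fun j => (y j : Fin n → F)) with hz
  have hzstd : IsStd (Hu σ n) id z := by
    rintro (i | i) (j | j)
    · simp only [hz, Sum.elim_inl, id, Sum.inl.injEq]
      exact hx' i j
    · simp [hz, hxy]
    · simp [hz, hyx]
    · have := hy i j
      simp only [LinearMap.domRestrict₁₂_apply] at this
      simp only [hz, Sum.elim_inr, id, Sum.inr.injEq]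
      exact this
  have hcard : Fintype.card (Fin ℓ ⊕ Fin (n - ℓ)) = finrank F (Fin n → F) := by
    rw [Fintype.card_sum, Fintype.card_fin, Fintype.card_fin, Module.finrank_fin_fun]
    omega
  set b := basisOfLinearIndependentOfCardEqFinrank' z (hzstd.linearIndependent (fun _ => rfl)) hcard
    with hb
  have hba : ∀ a, b a = z a := fun a => by rw [hb, coe_basisOfLinearIndependentOfCardEqFinrank']
  have hbstd : IsStd (Hu σ n) id b := by
    intro a a'
    rw [hba, hba]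
    exact hzstd a a'
  refine ⟨b, hbstd, ?_⟩
  -- W is the span of x'
  have hspan : Submodule.span F (Set.range x') = W := by
    apply Submodule.eq_of_le_of_finrank_eq
    · rw [Submodule.span_le]
      rintro _ ⟨i, rfl⟩
      exact (x i).2
    · rw [finrank_span_eq_card (hx'.linearIndependent (fun _ => rfl)), Fintype.card_fin, hWk]
  intro v
  constructor
  · intro hv j
    rw [isStd_repr b hbstd, hba]
    rw [← hspan, Submodule.mem_span_range_iff_exists_fun] at hv
    obtain ⟨c, rfl⟩ := hv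
    rw [map_sum, LinearMap.sum_apply]
    apply Finset.sum_eq_zero
    intro i _
    rw [map_smul, LinearMap.smul_apply]
    simp only [hz, Sum.elim_inr]
    rw [hxy, smul_zero]
  · intro hv
    rw [← b.sum_repr v, Fintype.sum_sum_type]
    apply Submodule.add_mem
    · apply Submodule.sum_mem
      intro i _
      apply Submodule.smul_mem
      rw [hba]
      exact (x i).2
    · apply Submodule.sum_mem
      intro j _
      rw [hv j, zero_smul]
      exact Submodule.zero_mem _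

end basis

section blocks

variable {F : Type u} [Field F] {k m q : ℕ}

/-- the hermitian form on `Fin k ⊕ Fin m → F` -/
def H0 (k m q : ℕ) (F : Type u) [Field F] (u v : Fin k ⊕ Fin m → F) : F := ∑ a, u a * (v a) ^ q

/-- the standard subspace spanned by the first `k` coordinate vectors -/
def W0 (k m : ℕ) (F : Type u) [Field F] : Set (Fin k ⊕ Fin m → F) := {v | ∀ j, v (Sum.inr j) = 0}

theorem H0_split (u v : Fin k ⊕ Fin m → F) :
    H0 k m q F u v = Cfsg.hermForm k F q (u ∘ Sum.inl) (v ∘ Sum.inl) +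
      Cfsg.hermForm m F q (u ∘ Sum.inr) (v ∘ Sum.inr) := by
  unfold H0 Cfsg.hermForm
  rw [Fintype.sum_sum_type]
  rfl

/-- block-diagonal embedding as a monoid hom on matrices -/
def blockHom (k m : ℕ) (F : Type u) [Field F] :
    Matrix (Fin k) (Fin k) F × Matrix (Fin m) (Fin m) F →* Matrix (Fin k ⊕ Fin m) (Fin k ⊕ Fin m) F where
  toFun p := Matrix.fromBlocks p.1 0 0 p.2
  map_one' := Matrix.fromBlocks_one
  map_mul' p p' := by simp [Matrix.fromBlocks_multiply]

/-- the block-diagonal embedding of `GU_k × GU_m` -/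
def Psi (k m q : ℕ) (F : Type u) [Field F] :
    ↥(Cfsg.GU k F q) × ↥(Cfsg.GU m F q) →* Matrix.GeneralLinearGroup (Fin k ⊕ Fin m) F :=
  (Units.map (blockHom k m F)).comp ((MulEquiv.prodUnits.symm.toMonoidHom).comp
    (MonoidHom.prodMap (Cfsg.GU k F q).subtype (Cfsg.GU m F q).subtype))

theorem Psi_val (p : ↥(Cfsg.GU k F q) × ↥(Cfsg.GU m F q)) :
    ((Psi k m q F p : Matrix.GeneralLinearGroup (Fin k ⊕ Fin m) F) : Matrix (Fin k ⊕ Fin m) (Fin k ⊕ Fin m) F) =
      Matrix.fromBlocks ((p.1 : Matrix.GeneralLinearGroup (Fin k) F) : Matrix (Fin k) (Fin k) F) 0 0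
        ((p.2 : Matrix.GeneralLinearGroup (Fin m) F) : Matrix (Fin m) (Fin m) F) := rfl

theorem Psi_injective : Function.Injective (Psi k m q F) := by
  intro p p' h
  have h' := congrArg (fun M : Matrix.GeneralLinearGroup (Fin k ⊕ Fin m) F =>
    (M : Matrix (Fin k ⊕ Fin m) (Fin k ⊕ Fin m) F)) h
  simp only [Psi_val, Matrix.fromBlocks_inj] at h'
  apply Prod.ext
  · apply Subtype.ext
    apply Units.ext
    exact h'.1
  · apply Subtype.ext
    apply Units.ext
    exact h'.2.2.2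

/-- the subgroup of block matrices, intrinsically -/
def Sblk (k m q : ℕ) (F : Type u) [Field F] : Subgroup (Matrix.GeneralLinearGroup (Fin k ⊕ Fin m) F) :=
  Cfsg.preserving (Units.coeHom (Matrix (Fin k ⊕ Fin m) (Fin k ⊕ Fin m) F)) (H0 k m q F) ⊓
    Cfsg.stabilizing (Units.coeHom (Matrix (Fin k ⊕ Fin m) (Fin k ⊕ Fin m) F)) (W0 k m F)

theorem mem_Sblk (M : Matrix.GeneralLinearGroup (Fin k ⊕ Fin m) F) :
    M ∈ Sblk k m q F ↔
      (∀ u v, H0 k m q F ((M : Matrix _ _ F) *ᵥ u) ((M : Matrix _ _ F) *ᵥ v) = H0 k m q F u v) ∧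
      (∀ v, v ∈ W0 k m F ↔ (M : Matrix _ _ F) *ᵥ v ∈ W0 k m F) := Iff.rfl

theorem blockdiag_of_mem (hq : q ≠ 0) (M : Matrix.GeneralLinearGroup (Fin k ⊕ Fin m) F)
    (hM : M ∈ Sblk k m q F) :
    (M : Matrix (Fin k ⊕ Fin m) (Fin k ⊕ Fin m) F) =
      Matrix.fromBlocks (M : Matrix (Fin k ⊕ Fin m) (Fin k ⊕ Fin m) F).toBlocks₁₁ 0 0
        (M : Matrix (Fin k ⊕ Fin m) (Fin k ⊕ Fin m) F).toBlocks₂₂ := by
  obtain ⟨hpres, hstab⟩ := (mem_Sblk M).mp hM
  obtain ⟨-, hstab'⟩ := (mem_Sblk M⁻¹).mp (inv_mem hM)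
  have hMM' : (M : Matrix (Fin k ⊕ Fin m) (Fin k ⊕ Fin m) F) *
      ((M⁻¹ : Matrix.GeneralLinearGroup (Fin k ⊕ Fin m) F) : Matrix (Fin k ⊕ Fin m) (Fin k ⊕ Fin m) F) = 1 := by
    rw [← Units.val_mul, mul_inv_cancel, Units.val_one]
  have hC : (M : Matrix (Fin k ⊕ Fin m) (Fin k ⊕ Fin m) F).toBlocks₂₁ = 0 := by
    ext i j
    have hv : (Pi.single (Sum.inl j) 1 : Fin k ⊕ Fin m → F) ∈ W0 k m F := by
      intro j'
      simp
    have := (hstab _).mp hv i
    rw [Matrix.mulVec_single_one] at this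
    exact this
  have hB : (M : Matrix (Fin k ⊕ Fin m) (Fin k ⊕ Fin m) F).toBlocks₁₂ = 0 := by
    ext i j
    set v : Fin k ⊕ Fin m → F := Pi.single (Sum.inr j) 1 with hv
    set w : Fin k ⊕ Fin m → F := Pi.single (Sum.inl i) 1 with hw
    have hwW : w ∈ W0 k m F := by
      intro j'
      simp [hw]
    set v' : Fin k ⊕ Fin m → F :=
      ((M⁻¹ : Matrix.GeneralLinearGroup (Fin k ⊕ Fin m) F) : Matrix (Fin k ⊕ Fin m) (Fin k ⊕ Fin m) F) *ᵥ w
      with hv'
    have hv'W : v' ∈ W0 k m F := (hstab' w).mp hwW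
    have hMv' : (M : Matrix (Fin k ⊕ Fin m) (Fin k ⊕ Fin m) F) *ᵥ v' = w := by
      rw [hv', Matrix.mulVec_mulVec, hMM', Matrix.one_mulVec]
    have h1 := hpres v v'
    rw [hMv'] at h1
    have h2 : H0 k m q F v v' = 0 := by
      unfold H0
      apply Finset.sum_eq_zero
      intro a _
      rcases a with a | a
      · simp [hv]
      · rw [hv'W a, zero_pow hq, mul_zero]
    have h3 : H0 k m q F ((M : Matrix (Fin k ⊕ Fin m) (Fin k ⊕ Fin m) F) *ᵥ v) w =
        ((M : Matrix (Fin k ⊕ Fin m) (Fin k ⊕ Fin m) F) *ᵥ v) (Sum.inl i) := by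
      unfold H0
      rw [Finset.sum_eq_single (Sum.inl i)]
      · simp [hw]
      · intro a _ ha
        simp [hw, ha, hq]
      · simp
    rw [h3, h2, hv, Matrix.mulVec_single_one] at h1
    exact h1
  conv_lhs => rw [← Matrix.fromBlocks_toBlocks (M : Matrix (Fin k ⊕ Fin m) (Fin k ⊕ Fin m) F)]
  rw [hB, hC]

end blocks

section range

variable {F : Type u} [Field F] {k m q : ℕ}

theorem hermForm_zero (k q : ℕ) : Cfsg.hermForm k F q 0 0 = 0 := by
  unfold Cfsg.hermForm
  simp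

theorem range_Psi (hq : q ≠ 0) : (Psi k m q F).range = Sblk k m q F := by
  ext M
  constructor
  · rintro ⟨p, rfl⟩
    rw [mem_Sblk]
    have hA : ∀ u v, Cfsg.hermForm k F q
        (((p.1 : Matrix.GeneralLinearGroup (Fin k) F) : Matrix (Fin k) (Fin k) F) *ᵥ u)
        (((p.1 : Matrix.GeneralLinearGroup (Fin k) F) : Matrix (Fin k) (Fin k) F) *ᵥ v) =
          Cfsg.hermForm k F q u v := p.1.2
    have hD : ∀ u v, Cfsg.hermForm m F q
        (((p.2 : Matrix.GeneralLinearGroup (Fin m) F) : Matrix (Fin m) (Fin m) F) *ᵥ u)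
        (((p.2 : Matrix.GeneralLinearGroup (Fin m) F) : Matrix (Fin m) (Fin m) F) *ᵥ v) =
          Cfsg.hermForm m F q u v := p.2.2
    have hl : ∀ v : Fin k ⊕ Fin m → F, ((Matrix.fromBlocks
        ((p.1 : Matrix.GeneralLinearGroup (Fin k) F) : Matrix (Fin k) (Fin k) F) 0 0
        ((p.2 : Matrix.GeneralLinearGroup (Fin m) F) : Matrix (Fin m) (Fin m) F)) *ᵥ v) ∘ Sum.inl =
        ((p.1 : Matrix.GeneralLinearGroup (Fin k) F) : Matrix (Fin k) (Fin k) F) *ᵥ (v ∘ Sum.inl) := by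
      intro v
      rw [Matrix.fromBlocks_mulVec]
      funext i
      simp
    have hr : ∀ v : Fin k ⊕ Fin m → F, ((Matrix.fromBlocks
        ((p.1 : Matrix.GeneralLinearGroup (Fin k) F) : Matrix (Fin k) (Fin k) F) 0 0
        ((p.2 : Matrix.GeneralLinearGroup (Fin m) F) : Matrix (Fin m) (Fin m) F)) *ᵥ v) ∘ Sum.inr =
        ((p.2 : Matrix.GeneralLinearGroup (Fin m) F) : Matrix (Fin m) (Fin m) F) *ᵥ (v ∘ Sum.inr) := by
      intro v
      rw [Matrix.fromBlocks_mulVec]
      funext i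
      simp
    constructor
    · intro u v
      rw [Psi_val, H0_split, H0_split, hl, hl, hr, hr, hA, hD]
    · intro v
      rw [Psi_val]
      have hD' : ((p.2⁻¹ : ↥(Cfsg.GU m F q)) : Matrix.GeneralLinearGroup (Fin m) F).1 *
          ((p.2 : Matrix.GeneralLinearGroup (Fin m) F) : Matrix (Fin m) (Fin m) F) = 1 := by
        have : ((p.2⁻¹ * p.2 : ↥(Cfsg.GU m F q)) : Matrix.GeneralLinearGroup (Fin m) F) = 1 := by
          rw [inv_mul_cancel]; rfl
        have h2 := congrArg (fun M : Matrix.GeneralLinearGroup (Fin m) F => (M : Matrix (Fin m) (Fin m) F)) this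
        simpa using h2
      constructor
      · intro hv j
        have h0 : v ∘ Sum.inr = 0 := by
          funext j'
          exact hv j'
        have := congrFun (hr v) j
        simp only [Function.comp_apply] at this
        rw [this, h0, Matrix.mulVec_zero]
        rfl
      · intro hv j
        have h0 : ((p.2 : Matrix.GeneralLinearGroup (Fin m) F) : Matrix (Fin m) (Fin m) F) *ᵥ (v ∘ Sum.inr) = 0 := by
          rw [← hr]
          funext j'
          exact hv j'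
        have h1 : v ∘ Sum.inr = 0 := by
          have := congrArg (fun w => ((p.2⁻¹ : ↥(Cfsg.GU m F q)) : Matrix.GeneralLinearGroup (Fin m) F).1 *ᵥ w) h0
          simp only [Matrix.mulVec_mulVec, hD', Matrix.one_mulVec, Matrix.mulVec_zero] at this
          exact this
        exact congrFun h1 j
  · intro hM
    have hd := blockdiag_of_mem hq M hM
    have hd' := blockdiag_of_mem hq M⁻¹ (inv_mem hM)
    obtain ⟨hpres, -⟩ := (mem_Sblk M).mp hM
    obtain ⟨hpres', -⟩ := (mem_Sblk M⁻¹).mp (inv_mem hM)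
    set A₀ := (M : Matrix (Fin k ⊕ Fin m) (Fin k ⊕ Fin m) F).toBlocks₁₁ with hA₀
    set D₀ := (M : Matrix (Fin k ⊕ Fin m) (Fin k ⊕ Fin m) F).toBlocks₂₂ with hD₀
    set A₁ := ((M⁻¹ : Matrix.GeneralLinearGroup (Fin k ⊕ Fin m) F) : Matrix (Fin k ⊕ Fin m) (Fin k ⊕ Fin m) F).toBlocks₁₁ with hA₁
    set D₁ := ((M⁻¹ : Matrix.GeneralLinearGroup (Fin k ⊕ Fin m) F) : Matrix (Fin k ⊕ Fin m) (Fin k ⊕ Fin m) F).toBlocks₂₂ with hD₁
    have hMM' : (M : Matrix (Fin k ⊕ Fin m) (Fin k ⊕ Fin m) F) *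
        ((M⁻¹ : Matrix.GeneralLinearGroup (Fin k ⊕ Fin m) F) : Matrix (Fin k ⊕ Fin m) (Fin k ⊕ Fin m) F) = 1 := by
      rw [← Units.val_mul, mul_inv_cancel, Units.val_one]
    have hM'M : ((M⁻¹ : Matrix.GeneralLinearGroup (Fin k ⊕ Fin m) F) : Matrix (Fin k ⊕ Fin m) (Fin k ⊕ Fin m) F) *
        (M : Matrix (Fin k ⊕ Fin m) (Fin k ⊕ Fin m) F) = 1 := by
      rw [← Units.val_mul, inv_mul_cancel, Units.val_one]
    rw [hd, hd', Matrix.fromBlocks_multiply, ← Matrix.fromBlocks_one, Matrix.fromBlocks_inj] at hMM' hM'M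
    simp only [Matrix.mul_zero, Matrix.zero_mul, add_zero, zero_add] at hMM' hM'M
    have hAGU : ∀ u v, Cfsg.hermForm k F q (A₀ *ᵥ u) (A₀ *ᵥ v) = Cfsg.hermForm k F q u v := by
      intro u v
      have h := hpres (Sum.elim u 0) (Sum.elim v 0)
      rw [hd, H0_split, H0_split, Matrix.fromBlocks_mulVec, Matrix.fromBlocks_mulVec] at h
      simp only [Sum.elim_comp_inl, Sum.elim_comp_inr, Matrix.zero_mulVec, Matrix.mulVec_zero,
        add_zero, zero_add, hermForm_zero] at h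
      exact h
    have hDGU : ∀ u v, Cfsg.hermForm m F q (D₀ *ᵥ u) (D₀ *ᵥ v) = Cfsg.hermForm m F q u v := by
      intro u v
      have h := hpres (Sum.elim 0 u) (Sum.elim 0 v)
      rw [hd, H0_split, H0_split, Matrix.fromBlocks_mulVec, Matrix.fromBlocks_mulVec] at h
      simp only [Sum.elim_comp_inl, Sum.elim_comp_inr, Matrix.zero_mulVec, Matrix.mulVec_zero,
        add_zero, zero_add, hermForm_zero] at h
      exact h
    refine ⟨(⟨⟨A₀, A₁, hMM'.1, hM'M.1⟩, hAGU⟩, ⟨⟨D₀, D₁, hMM'.2.2.2, hM'M.2.2.2⟩, hDGU⟩), ?_⟩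
    apply Units.ext
    rw [Psi_val]
    exact hd.symm

end range

section transfer

variable {F : Type u} [Field F] {n : ℕ} {ι : Type} [Fintype ι] [DecidableEq ι]

/-- change of basis on matrices as a multiplicative equivalence -/
noncomputable def thetaEquiv (b : Basis ι F (Fin n → F)) : Matrix (Fin n) (Fin n) F ≃* Matrix ι ι F where
  toFun g := LinearMap.toMatrix b b (Matrix.toLin' g)
  invFun M := LinearMap.toMatrix' (Matrix.toLin b b M)
  left_inv g := by simp
  right_inv M := by simp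
  map_mul' g h := by rw [Matrix.toLin'_mul, LinearMap.toMatrix_comp b b b]

theorem thetaEquiv_mulVec (b : Basis ι F (Fin n → F)) (g : Matrix (Fin n) (Fin n) F) (v : Fin n → F) :
    thetaEquiv b g *ᵥ (b.equivFun v) = b.equivFun (g *ᵥ v) := by
  have := LinearMap.toMatrix_mulVec_repr b b (Matrix.toLin' g) v
  rw [Matrix.toLin'_apply] at this
  exact this

/-- the form in orthonormal coordinates -/
theorem Hu_repr {σ : F →+* F} (hσσ : ∀ x, σ (σ x) = x) (b : Basis ι F (Fin n → F))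
    (hb : IsStd (Hu σ n) id b) (u v : Fin n → F) :
    Hu σ n u v = ∑ a, b.equivFun u a * σ (b.equivFun v a) := by
  conv_lhs => rw [← b.sum_repr u]
  rw [map_sum, LinearMap.sum_apply]
  apply Finset.sum_congr rfl
  intro a _
  rw [map_smul, LinearMap.smul_apply, smul_eq_mul, Hu_isHerm hσσ v (b a), ← isStd_repr b hb]
  rfl

end transfer

section assembly

variable {F : Type u} [Field F] {n k q : ℕ}

theorem mem_iff_theta {σ : F →+* F} (hσσ : ∀ x, σ (σ x) = x) (hσx : ∀ x, σ x = x ^ q)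
    (W : Submodule F (Fin n → F))
    (b : Basis (Fin k ⊕ Fin (n - k)) F (Fin n → F)) (hb : IsStd (Hu σ n) id b)
    (hbW : ∀ v, v ∈ W ↔ ∀ j, b.repr v (Sum.inr j) = 0)
    (g : Matrix.GeneralLinearGroup (Fin n) F) :
    (g ∈ Cfsg.GU n F q ∧ g ∈ Cfsg.stabilizing (Cfsg.glToMat (Fin n) F) (W : Set (Fin n → F))) ↔
      Units.mapEquiv (thetaEquiv b) g ∈ Sblk k (n - k) q F := by
  have hform : ∀ u v : Fin n → F, Cfsg.hermForm n F q u v =
      H0 k (n - k) q F (b.equivFun u) (b.equivFun v) := by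
    intro u v
    rw [← Hu_eq_hermForm hσx, Hu_repr hσσ b hb]
    unfold H0
    simp only [hσx]
  have hW0 : ∀ v : Fin n → F, v ∈ W ↔ b.equivFun v ∈ W0 k (n - k) F := by
    intro v
    rw [hbW]
    rfl
  have hmv : ∀ v : Fin n → F,
      ((Units.mapEquiv (thetaEquiv b) g : Matrix.GeneralLinearGroup (Fin k ⊕ Fin (n - k)) F) :
        Matrix (Fin k ⊕ Fin (n - k)) (Fin k ⊕ Fin (n - k)) F) *ᵥ (b.equivFun v) =
      b.equivFun ((g : Matrix (Fin n) (Fin n) F) *ᵥ v) := fun v => thetaEquiv_mulVec b _ v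
  rw [mem_Sblk]
  constructor
  · rintro ⟨h1, h2⟩
    constructor
    · intro u v
      obtain ⟨u', rfl⟩ := b.equivFun.surjective u
      obtain ⟨v', rfl⟩ := b.equivFun.surjective v
      rw [hmv, hmv, ← hform, ← hform]
      exact h1 u' v'
    · intro v
      obtain ⟨v', rfl⟩ := b.equivFun.surjective v
      rw [hmv, ← hW0, ← hW0]
      exact h2 v'
  · rintro ⟨h1, h2⟩
    constructor
    · intro u v
      have := h1 (b.equivFun u) (b.equivFun v)
      rw [hmv, hmv, ← hform, ← hform] at this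
      exact this
    · intro v
      have := h2 (b.equivFun v)
      rw [hmv, ← hW0, ← hW0] at this
      exact this

theorem symm_mem {σ : F →+* F} (hσσ : ∀ x, σ (σ x) = x) (hσx : ∀ x, σ x = x ^ q)
    (W : Submodule F (Fin n → F))
    (b : Basis (Fin k ⊕ Fin (n - k)) F (Fin n → F)) (hb : IsStd (Hu σ n) id b)
    (hbW : ∀ v, v ∈ W ↔ ∀ j, b.repr v (Sum.inr j) = 0)
    (y : Matrix.GeneralLinearGroup (Fin k ⊕ Fin (n - k)) F) (hy : y ∈ Sblk k (n - k) q F) :
    (Units.mapEquiv (thetaEquiv b)).symm y ∈ Cfsg.GU n F q ∧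
      (Units.mapEquiv (thetaEquiv b)).symm y ∈
        Cfsg.stabilizing (Cfsg.glToMat (Fin n) F) (W : Set (Fin n → F)) := by
  rw [mem_iff_theta hσσ hσx W b hb hbW, MulEquiv.apply_symm_apply]
  exact hy

/-- the stabiliser is isomorphic to the group of block matrices -/
noncomputable def stabEquiv {σ : F →+* F} (hσσ : ∀ x, σ (σ x) = x) (hσx : ∀ x, σ x = x ^ q)
    (W : Submodule F (Fin n → F))
    (b : Basis (Fin k ⊕ Fin (n - k)) F (Fin n → F)) (hb : IsStd (Hu σ n) id b)
    (hbW : ∀ v, v ∈ W ↔ ∀ j, b.repr v (Sum.inr j) = 0) :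
    ↥((Cfsg.stabilizing (Cfsg.glToMat (Fin n) F) (W : Set (Fin n → F))).subgroupOf (Cfsg.GU n F q)) ≃*
      ↥(Sblk k (n - k) q F) where
  toFun x := ⟨Units.mapEquiv (thetaEquiv b) x.1.1,
    (mem_iff_theta hσσ hσx W b hb hbW x.1.1).mp ⟨x.1.2, x.2⟩⟩
  invFun y := ⟨⟨(Units.mapEquiv (thetaEquiv b)).symm y.1,
      (symm_mem hσσ hσx W b hb hbW y.1 y.2).1⟩, (symm_mem hσσ hσx W b hb hbW y.1 y.2).2⟩
  left_inv x := by
    apply Subtype.ext
    apply Subtype.ext
    exact MulEquiv.symm_apply_apply _ _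
  right_inv y := by
    apply Subtype.ext
    exact MulEquiv.apply_symm_apply _ _
  map_mul' x y := by
    apply Subtype.ext
    exact map_mul (Units.mapEquiv (thetaEquiv b)) x.1.1 y.1.1

end assembly

/-- If W ≤ F^n (|F| = q²) is a k-dimensional subspace on which the Hermitian form Σ x_i y_i^q is non-degenerate, then the stabiliser of W in GU_n(q) is isomorphic to GU_k(q) × GU_(n−k)(q). -/
theorem result {F : Type*} [Field F] [Fintype F] {q : ℕ} (hF : Fintype.card F = q ^ 2) (n k : ℕ) (hk : k ≤ n) (W : Submodule F (Fin n → F)) (hWk : Module.finrank F W = k) (hW : ∀ u ∈ W, (∀ v ∈ W, Cfsg.hermForm n F q u v = 0) → u = 0) : Nonempty (↥((Cfsg.stabilizing (Cfsg.glToMat (Fin n) F) (W : Set (Fin n → F))).subgroupOf (Cfsg.GU n F q)) ≃* ↥(Cfsg.GU k F q) × ↥(Cfsg.GU (n - k) F q)) := by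
  obtain ⟨σ, hσx, hσσ, hne, hnorm⟩ := exists_sigma_gen hF
  have hq : q ≠ 0 := by
    have := two_le_q hF
    omega
  have hW' : ∀ u ∈ W, (∀ v ∈ W, Hu σ n u v = 0) → u = 0 := by
    intro u hu h
    apply hW u hu
    intro v hv
    rw [← Hu_eq_hermForm hσx]
    exact h v hv
  obtain ⟨b, hb, hbW⟩ := exists_adapted_basis hσσ hne hnorm hk W hWk hW'
  have e1 := stabEquiv hσσ hσx W b hb hbW
  have e2 : ↥(Sblk k (n - k) q F) ≃* ↥(Psi k (n - k) q F).range :=
    MulEquiv.subgroupCongr (range_Psi hq).symm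
  have e3 : ↥(Cfsg.GU k F q) × ↥(Cfsg.GU (n - k) F q) ≃* ↥(Psi k (n - k) q F).range :=
    MonoidHom.ofInjective Psi_injective
  exact ⟨(e1.trans e2).trans e3.symm⟩

end Cfsg.Agent.S0837
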