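import Cfsg.Statements.S0845
import Mathlib
import Cfsg.Agent.Lib.Helper4.BS.Kernel

set_option autoImplicit false
open Cfsg

namespace Cfsg.Agent.S0845

/-- Suppose a Sylow 2-subgroup S of the finite group G is generalized quaternion of order at least 16. Then G has a normal subgroup M of even order such that G / M is non-abelian, that is, M does not contain the commutator subgroup of G. -/
theorem result {G : Type*} [Group G] [Finite G] (S : Sylow 2 G) (n : ℕ) (e : (S : Subgroup G) ≃* QuaternionGroup (2 ^ (n + 2))) : ∃ M : Subgroup G, M.Normal ∧ Even (Nat.card M) ∧ ¬ commutator G ≤ M := by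
  classical
  haveI : Fintype G := Fintype.ofFinite G
  have : NeZero (2 ^ (n + 2)) := ⟨by positivity⟩
  obtain ⟨X₁, X₂, hdeg, hval, ha2, hker⟩ := Cfsg.Agent.Helper4.BS.invol_mem_kernels S n e
  obtain ⟨z, hz⟩ := Cfsg.Agent.Helper4.BS.exists_invol S n e
  refine ⟨Cfsg.Agent.Helper79.irrKer X₁, inferInstance, ?_, ?_⟩
  · have h2 : orderOf z ∣ Nat.card (Cfsg.Agent.Helper79.irrKer X₁) :=
      Subgroup.orderOf_dvd_natCard _ (hker z hz).1
    rw [hz] at h2
    exact even_iff_two_dvd.mpr h2
  · intro hle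
    have h1 := (Cfsg.Agent.Helper79.degree_one_iff X₁).mpr hle
    obtain ⟨nd, hnd, hd⟩ := Cfsg.Agent.Helper82.irr_degree_pos X₂.2
    have h2 : (X₁ : G → ℂ) 1 = ((nd + 1 : ℕ) : ℂ) := by rw [hdeg, hd]; push_cast; ring
    rw [Cfsg.charDegree, h2, Complex.natCast_re, Nat.floor_natCast] at h1
    omega

end Cfsg.Agent.S0845
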