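import Cfsg.Statements.S0846
import Mathlib
import Cfsg.Agent.Lib.Helper4.BS.Kernel

set_option autoImplicit false
open Cfsg

namespace Cfsg.Agent.S0846

/-- Suppose a Sylow 2-subgroup S of the finite group G is generalized quaternion of order at least 16. Then every Sylow 2-subgroup of the subgroup generated by the involutions of G is cyclic. -/
theorem result {G : Type*} [Group G] [Finite G] (S : Sylow 2 G) (n : ℕ) (e : (S : Subgroup G) ≃* QuaternionGroup (2 ^ (n + 2))) (Q : Sylow 2 ↥(Subgroup.closure {g : G | orderOf g = 2})) : IsCyclic Q := by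
  classical
  haveI : Fintype G := Fintype.ofFinite G
  have : NeZero (2 ^ (n + 2)) := ⟨by positivity⟩
  obtain ⟨M, hMn, hinv, hSM⟩ := Cfsg.Agent.Helper4.BS.exists_normal_cyclic S n e
  have hIM : Subgroup.closure {g : G | orderOf g = 2} ≤ M := by
    rw [Subgroup.closure_le]
    intro g hg
    exact hinv g hg
  set Q' : Subgroup G := (Q : Subgroup (Subgroup.closure {g : G | orderOf g = 2})).map
    (Subgroup.closure {g : G | orderOf g = 2}).subtype with hQ'
  have hQ'p : IsPGroup 2 Q' := Q.isPGroup'.map _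
  obtain ⟨x, -, hx⟩ := Cfsg.Agent.Helper14.exists_conj_mem_sylow_of_le S ⊤ le_top Q' le_top hQ'p
  set R : Subgroup G := Q'.map (MulAut.conj x).toMonoidHom with hR
  have hRA : R ≤ Cfsg.Agent.Helper14.rotS (S : Subgroup G) e := by
    rintro _ ⟨q, hq, rfl⟩
    apply hSM
    refine Subgroup.mem_inf.mpr ⟨?_, ?_⟩
    · simpa [MulAut.conj_apply] using hx q hq
    · have hqM : q ∈ M := by
        obtain ⟨q', -, rfl⟩ := hq
        exact hIM q'.2
      simpa [MulAut.conj_apply] using hMn.conj_mem q hqM x
  haveI hAc : IsCyclic (Cfsg.Agent.Helper14.rotS (S : Subgroup G) e) :=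
    Cfsg.Agent.Helper14.rotS_isCyclic _ e
  have hRc : IsCyclic R := Subgroup.isCyclic_of_le hRA
  have e1 : (Q : Subgroup (Subgroup.closure {g : G | orderOf g = 2})) ≃* Q' :=
    (Q : Subgroup (Subgroup.closure {g : G | orderOf g = 2})).equivMapOfInjective _
      (Subgroup.subtype_injective _)
  have e2 : Q' ≃* R := Q'.equivMapOfInjective _ (MulAut.conj x).injective
  exact (e1.trans e2).isCyclic.mpr hRc

end Cfsg.Agent.S0846
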