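import Mathlib
import Cfsg.Statements.S0849
import Cfsg.Agent.Lib.Helper14.IndFun

set_option autoImplicit false
open Cfsg
open Cfsg.Agent.Helper14

namespace Cfsg.Agent.S0849

theorem isConj_conj_iff {G : Type*} [Group G] (u a x : G) :
    IsConj u (x⁻¹ * a * x) ↔ IsConj u a := by
  have h : IsConj a (x⁻¹ * a * x) := isConj_iff.mpr ⟨x⁻¹, by simp⟩
  exact ⟨fun h' => h'.trans h.symm, fun h' => h'.trans h⟩

theorem sq_eq_one_of_isConj {G : Type*} [Group G] {u a : G} (hu : orderOf u = 2)
    (h : IsConj u a) : a * a = 1 := by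
  obtain ⟨c, rfl⟩ := isConj_iff.mp h
  have hu2 : u * u = 1 := by
    have := pow_orderOf_eq_one u
    rw [hu, pow_two] at this
    exact this
  calc c * u * c⁻¹ * (c * u * c⁻¹) = c * (u * u) * c⁻¹ := by group
    _ = 1 := by rw [hu2]; group

/-- Let H be a subgroup of a finite group G and S a subset of H that is mapped to itself under conjugation by H, is disjoint from its conjugate by any element outside H, and is closed under inverses. Let φ be a class function of H vanishing on H away from S, and let u, v be involutions of G. Then the sum of the induced function of φ over all products a * b with a conjugate to u and b conjugate to v equals the index of H times the sum of φ (a * b) over such pairs with a and b in H. -/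
theorem result {G : Type*} [Group G] [Fintype G] (H : Subgroup G) (S : Set G) (hSH : S ⊆ H) (hHS : ∀ h ∈ H, ∀ s ∈ S, h * s * h⁻¹ ∈ S) (hTI : ∀ g : G, g ∉ H → ∀ s ∈ S, g * s * g⁻¹ ∉ S) (hinv : ∀ s ∈ S, s⁻¹ ∈ S) (φ : H → ℂ) (hφ : Cfsg.IsClassFunction H φ) (hφS : ∀ x : H, (x : G) ∉ S → φ x = 0) (u v : G) (hu : orderOf u = 2) (hv : orderOf v = 2) : ∑ᶠ p ∈ {p : G × G | IsConj u p.1 ∧ IsConj v p.2}, Cfsg.indFun H φ (p.1 * p.2) = (H.index : ℂ) * ∑ᶠ p ∈ {p : H × H | IsConj u (p.1 : G) ∧ IsConj v (p.2 : G)}, φ (p.1 * p.2) := by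
  classical
  have : Fintype H := Fintype.ofFinite H
  rw [finsum_mem_eq_toFinset_sum, finsum_mem_eq_toFinset_sum]
  simp only [Set.toFinset_ofPred]
  set T : Finset (G × G) := Finset.univ.filter (fun p : G × G => IsConj u p.1 ∧ IsConj v p.2)
    with hT
  set TH : Finset (H × H) :=
    Finset.univ.filter (fun p : H × H => IsConj u (p.1 : G) ∧ IsConj v (p.2 : G)) with hTH
  -- step 1: reindex by conjugation
  have step1 : ∀ x : G, ∑ p ∈ T, Cfsg.extendByZero H φ (x⁻¹ * (p.1 * p.2) * x) =
      ∑ p ∈ T, Cfsg.extendByZero H φ (p.1 * p.2) := by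
    intro x
    let e : G × G ≃ G × G :=
      (MulAut.conj x⁻¹).toEquiv.prodCongr (MulAut.conj x⁻¹).toEquiv
    apply Finset.sum_equiv e
    · intro p
      simp only [hT, Finset.mem_filter, Finset.mem_univ, true_and, e, Equiv.prodCongr_apply,
        MulEquiv.toEquiv_eq_coe, EquivLike.coe_coe, Prod.map_fst, Prod.map_snd,
        MulAut.conj_apply, inv_inv]
      rw [isConj_conj_iff, isConj_conj_iff]
    · intro p _
      simp only [e, Equiv.prodCongr_apply, MulEquiv.toEquiv_eq_coe, EquivLike.coe_coe,
        Prod.map_fst, Prod.map_snd, MulAut.conj_apply, inv_inv]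
      congr 1
      group
  -- step 2: only pairs in H × H contribute
  have step2 : ∑ p ∈ TH, φ (p.1 * p.2) = ∑ p ∈ T, Cfsg.extendByZero H φ (p.1 * p.2) := by
    apply Finset.sum_of_injOn (fun p : H × H => ((p.1 : G), (p.2 : G)))
    · intro p _ q _ hpq
      simp only [Prod.mk.injEq] at hpq
      exact Prod.ext (Subtype.ext hpq.1) (Subtype.ext hpq.2)
    · intro p hp
      simp only [hTH, Finset.coe_filter, Finset.mem_univ, true_and, Set.mem_ofPred_eq] at hp
      simp only [hT, Finset.coe_filter, Finset.mem_univ, true_and, Set.mem_ofPred_eq]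
      exact hp
    · intro p hp hnot
      simp only [hT, Finset.mem_filter, Finset.mem_univ, true_and] at hp
      obtain ⟨hp1, hp2⟩ := hp
      by_cases hmem : p.1 * p.2 ∈ H
      · rw [extendByZero_of_mem H φ hmem]
        apply hφS
        intro hS
        apply hnot
        have ha2 : p.1 * p.1 = 1 := sq_eq_one_of_isConj hu hp1
        have hb2 : p.2 * p.2 = 1 := sq_eq_one_of_isConj hv hp2
        have hainv : p.1⁻¹ = p.1 := inv_eq_of_mul_eq_one_left ha2
        have hbinv : p.2⁻¹ = p.2 := inv_eq_of_mul_eq_one_left hb2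
        have hconj : p.1 * (p.1 * p.2) * p.1⁻¹ = (p.1 * p.2)⁻¹ := by
          rw [mul_inv_rev, hainv, hbinv, ← mul_assoc, ha2, one_mul]
        have haH : p.1 ∈ H := by
          by_contra haH
          apply hTI p.1 haH (p.1 * p.2) hS
          rw [hconj]
          exact hinv _ hS
        have hbH : p.2 ∈ H := by
          have : p.2 = p.1⁻¹ * (p.1 * p.2) := by group
          rw [this]
          exact H.mul_mem (H.inv_mem haH) hmem
        refine ⟨(⟨p.1, haH⟩, ⟨p.2, hbH⟩), ?_, rfl⟩
        simp only [hTH, Finset.coe_filter, Finset.mem_univ, true_and, Set.mem_ofPred_eq]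
        exact ⟨hp1, hp2⟩
      · exact extendByZero_of_not_mem H φ hmem
    · intro p _
      have hmem : (p.1 : G) * (p.2 : G) ∈ H := H.mul_mem p.1.2 p.2.2
      rw [extendByZero_of_mem H φ hmem]
      rfl
  rw [step2]
  simp_rw [indFun_apply]
  rw [← Finset.mul_sum, Finset.sum_comm]
  simp_rw [step1]
  rw [Finset.sum_const, Finset.card_univ, nsmul_eq_mul, ← mul_assoc]
  congr 1
  have hidx : (H.index : ℂ) * (Nat.card H : ℂ) = (Fintype.card G : ℂ) := by
    rw [← Nat.card_eq_fintype_card, ← Subgroup.index_mul_card H]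
    push_cast
    ring
  have hne : (Nat.card H : ℂ) ≠ 0 := by
    have : Nat.card H ≠ 0 := Nat.card_pos.ne'
    exact_mod_cast this
  rw [← hidx]
  field_simp

end Cfsg.Agent.S0849
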