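import Cfsg.Statements.S0856
import Cfsg.Agent.Lib.Helper81.CharProd

set_option autoImplicit false
set_option linter.style.haveILetI false
open Cfsg

namespace Cfsg.Agent.S0856

/-- Let N be a normal subgroup of the finite group G and φ, ϑ irreducible characters of N that are invariant under conjugation by G, such that the pointwise product φ * ϑ is irreducible and ϑ is the restriction of an irreducible character χ of G. Then multiplication by χ is a bijection from the set of irreducible characters of G having nonzero inner product with the function induced from φ onto the set of those having nonzero inner product with the function induced from φ * ϑ. -/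
theorem result {G : Type*} [Group G] [Fintype G] (N : Subgroup G) [hN : N.Normal] (φ ϑ : N → ℂ) (hφ : Cfsg.IsIrrCharacter N φ) (hϑ : Cfsg.IsIrrCharacter N ϑ) (hφinv : ∀ (g : G) (n : N), φ ⟨g * n * g⁻¹, hN.conj_mem (n : G) n.2 g⟩ = φ n) (hϑinv : ∀ (g : G) (n : N), ϑ ⟨g * n * g⁻¹, hN.conj_mem (n : G) n.2 g⟩ = ϑ n) (hprod : Cfsg.IsIrrCharacter N (φ * ϑ)) (χ : G → ℂ) (hχ : Cfsg.IsIrrCharacter G χ) (hext : ∀ n : N, χ n = ϑ n) : Set.BijOn (fun β : G → ℂ => β * χ) {β : G → ℂ | Cfsg.IsIrrCharacter G β ∧ Cfsg.classInner (Cfsg.indFun N φ) β ≠ 0} {ψ : G → ℂ | Cfsg.IsIrrCharacter G ψ ∧ Cfsg.classInner (Cfsg.indFun N (φ * ϑ)) ψ ≠ 0} := by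
  classical
  haveI : Fintype N := Fintype.ofFinite N
  haveI : Fintype (IrrCharacter G) := @Fintype.ofFinite _ Helper81.irr_finite
  have hφinv' : ∀ g : G, Helper81.conjFun N hN φ g = φ := by
    intro g; funext n; exact hφinv g n
  have hprodinv' : ∀ g : G, Helper81.conjFun N hN (φ * ϑ) g = φ * ϑ := by
    intro g; funext n
    simp only [Helper81.conjFun_apply, Pi.mul_apply]
    rw [hφinv g n, hϑinv g n]
  have hext' : (fun n : N => χ n) = ϑ := funext hext
  obtain ⟨m, hm⟩ := Helper81.exists_nat_decomp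
    (Helper81.isCharacter_indFun N (Helper81.IsIrrCharacter.isCharacter hφ))
  obtain ⟨hirr, horth, hΨ⟩ := Helper81.gallagher_core N hN hφ hφinv' hprod hprodinv' hχ hext' m hm
  have hmβ : ∀ β : IrrCharacter G, classInner (indFun N φ) (β : G → ℂ) = (m β : ℂ) := by
    intro β
    rw [hm]
    exact Helper81.classInner_nat_decomp (fun γ => (m γ : ℂ)) β
  -- inner product of Ind(φϑ) with β*χ
  have hΨβ : ∀ β : IrrCharacter G, m β ≠ 0 →
      classInner (indFun N (φ * ϑ)) ((β : G → ℂ) * χ) = (m β : ℂ) := by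
    intro β hβ
    rw [hΨ, Helper81.classInner_sum_left]
    simp only [Helper81.classInner_smul_left]
    rw [Finset.sum_eq_single β]
    · rw [Helper81.irr_orthonormal (hirr β hβ) (hirr β hβ), if_pos rfl, mul_one]
    · intro γ _ hγ
      by_cases hγ0 : m γ = 0
      · rw [hγ0]; simp
      · rw [horth γ β hγ0 hβ hγ, mul_zero]
    · intro h; exact absurd (Finset.mem_univ _) h
  refine ⟨?_, ?_, ?_⟩
  · -- MapsTo
    rintro β ⟨hβ, hβc⟩
    have hmβ0 : m ⟨β, hβ⟩ ≠ 0 := by
      intro h0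
      apply hβc
      have := hmβ ⟨β, hβ⟩
      rw [h0] at this
      simpa using this
    refine ⟨hirr ⟨β, hβ⟩ hmβ0, ?_⟩
    have := hΨβ ⟨β, hβ⟩ hmβ0
    show classInner (indFun N (φ * ϑ)) (β * χ) ≠ 0
    rw [this]
    exact_mod_cast hmβ0
  · -- InjOn
    rintro β ⟨hβ, hβc⟩ γ ⟨hγ, hγc⟩ hEq
    by_contra hne
    have hmβ0 : m ⟨β, hβ⟩ ≠ 0 := by
      intro h0
      apply hβc
      have := hmβ ⟨β, hβ⟩
      rw [h0] at this
      simpa using this
    have hmγ0 : m ⟨γ, hγ⟩ ≠ 0 := by
      intro h0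
      apply hγc
      have := hmβ ⟨γ, hγ⟩
      rw [h0] at this
      simpa using this
    have hne' : (⟨β, hβ⟩ : IrrCharacter G) ≠ ⟨γ, hγ⟩ := by
      intro h; exact hne (congrArg Subtype.val h)
    have h0 := horth ⟨β, hβ⟩ ⟨γ, hγ⟩ hmβ0 hmγ0 hne'
    have h1 := Helper81.irr_orthonormal (hirr ⟨β, hβ⟩ hmβ0) (hirr ⟨β, hβ⟩ hmβ0)
    rw [if_pos rfl] at h1
    simp only at hEq
    change classInner (β * χ) (γ * χ) = 0 at h0
    change classInner (β * χ) (β * χ) = 1 at h1
    rw [← hEq, h1] at h0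
    exact one_ne_zero h0
  · -- SurjOn
    rintro ψ ⟨hψ, hψc⟩
    rw [hΨ, Helper81.classInner_sum_left] at hψc
    obtain ⟨β, _, hβne⟩ := Finset.exists_ne_zero_of_sum_ne_zero hψc
    rw [Helper81.classInner_smul_left] at hβne
    have hmβ0 : m β ≠ 0 := by
      intro h0; apply hβne; rw [h0]; simp
    have hc : classInner ((β : G → ℂ) * χ) ψ ≠ 0 := by
      intro h0; apply hβne; rw [h0, mul_zero]
    refine ⟨(β : G → ℂ), ⟨β.2, ?_⟩, ?_⟩
    · rw [hmβ β]; exact_mod_cast hmβ0
    · exact Helper81.eq_of_classInner_ne_zero (hirr β hmβ0) hψ hc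

end Cfsg.Agent.S0856
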