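import Cfsg.Statements.S0859
import Cfsg.Agent.S0857
import Cfsg.Agent.S0858
import Cfsg.Agent.S0089
import Cfsg.Agent.Lib.Helper75.IndTransport
import Cfsg.Agent.Lib.Helper75.ScalarIndex
import Cfsg.Agent.Lib.Helper3.Spectral
import Cfsg.Agent.Lib.Helper79.CharBasic
import Cfsg.Agent.Lib.Helper81.CharDet

set_option autoImplicit false
set_option linter.style.haveILetI false
set_option linter.unusedSectionVars false
open Cfsg

namespace Cfsg.Agent.S0859

open scoped ComplexConjugate
open Cfsg.Agent.Helper81 Cfsg.Agent.Helper75 Cfsg.Agent.S0857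

universe u

/-- all Sylow subgroups are abelian -/
def AbSyl (X : Type u) [Group X] : Prop :=
  ∀ (p : ℕ) [Fact p.Prime] (P : Sylow p X), ∀ a ∈ P, ∀ b ∈ P, a * b = b * a

theorem abSyl_of_injective {X Y : Type u} [Group X] [Group Y] [Finite Y] (h : AbSyl Y)
    (f : X →* Y) (hf : Function.Injective f) : AbSyl X := by
  intro p _ P a ha b hb
  have hP : IsPGroup p ((P : Subgroup X).map f) := P.isPGroup'.map f
  obtain ⟨Q, hQ⟩ := hP.exists_le_sylow
  apply hf
  rw [map_mul, map_mul]
  exact h p Q (f a) (hQ ⟨a, ha, rfl⟩) (f b) (hQ ⟨b, hb, rfl⟩)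

theorem abSyl_of_surjective {X Y : Type u} [Group X] [Group Y] [Finite X] (h : AbSyl X)
    (f : X →* Y) (hf : Function.Surjective f) : AbSyl Y := by
  intro p _ P a ha b hb
  obtain ⟨Q, rfl⟩ := Sylow.mapSurjective_surjective hf p P
  change a ∈ ((Sylow.mapSurjective hf Q : Sylow p Y) : Subgroup Y) at ha
  change b ∈ ((Sylow.mapSurjective hf Q : Sylow p Y) : Subgroup Y) at hb
  rw [Sylow.coe_mapSurjective] at ha hb
  obtain ⟨a', ha', rfl⟩ := ha
  obtain ⟨b', hb', rfl⟩ := hb
  rw [← map_mul, ← map_mul, h p Q a' ha' b' hb']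

/-- `χ` is monomial -/
def Mono (G : Type u) [Group G] [Fintype G] (χ : G → ℂ) : Prop :=
  ∃ (U : Subgroup G) (lam : U → ℂ), IsCharacter U lam ∧ lam 1 = 1 ∧ indFun U lam = χ

theorem mono_of_subgroup {G : Type u} [Group G] [Fintype G] (T : Subgroup G) [Fintype T]
    {η : T → ℂ} {χ : G → ℂ} (hind : indFun T η = χ) (h : Mono T η) : Mono G χ := by
  obtain ⟨U', lam', hlam', h1, hindl⟩ := h
  set e := U'.equivMapOfInjective T.subtype T.subtype_injective with he
  refine ⟨U'.map T.subtype, fun x => lam' (e.symm x),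
    isCharacter_comp_hom e.symm.toMonoidHom hlam', ?_, ?_⟩
  · show lam' (e.symm 1) = 1
    rw [map_one, h1]
  · rw [indFun_map_subtype, hindl, hind]

theorem mono_of_linear {G : Type u} [Group G] [Fintype G] {χ : G → ℂ} (hχ : IsCharacter G χ)
    (h1 : χ 1 = 1) : Mono G χ :=
  ⟨⊤, fun x => χ x, isCharacter_restrict ⊤ hχ, h1,
    indFun_top (isClassFunction_of_isCharacter hχ)⟩

/-- an irreducible representation with commuting operators acts by scalars and has degree one -/
theorem scalar_of_comm {X : Type u} [Group X] [Finite X] {V : Type*} [AddCommGroup V]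
    [Module ℂ V] [FiniteDimensional ℂ V] (σ : Representation ℂ X V) [σ.IsIrreducible]
    (hcomm : ∀ a b : X, σ a * σ b = σ b * σ a) :
    Module.finrank ℂ V = 1 ∧ ∀ a, ∃ c : ℂ, σ a = c • (1 : Module.End ℂ V) := by
  have hsc : ∀ a, ∃ c : ℂ, σ a = c • (1 : Module.End ℂ V) := by
    intro a
    obtain ⟨c, hc⟩ := schur_scalar σ (σ a) (fun g => hcomm a g)
    exact ⟨c, hc⟩
  refine ⟨?_, hsc⟩
  have h1 := finrank_dvd_index_of_scalar σ ⊤ (fun a _ => hsc a)
  rw [Subgroup.index_top] at h1
  exact Nat.dvd_one.mp h1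

/-- if `ψ = Ind_T^H η` is irreducible with `ψ_N` irreducible, then `η` restricted to `N ∩ T`
is irreducible -/
theorem restrict_correspondent_irr {H : Type u} [Group H] [Fintype H] (N T : Subgroup H)
    {η : T → ℂ} (hη : IsIrrCharacter T η) {ψ : H → ℂ} (hψ : IsIrrCharacter H ψ)
    (hind : indFun T η = ψ) (hφ : IsIrrCharacter N (fun n : N => ψ n)) :
    IsIrrCharacter (N.subgroupOf T) (fun y : N.subgroupOf T => η y) := by
  classical
  have hηc := IsIrrCharacter.isCharacter hη
  have hψc := IsIrrCharacter.isCharacter hψ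
  have hψcf := isClassFunction_of_isCharacter hψc
  set θ : N.subgroupOf T → ℂ := fun y => η y with hθdef
  have hθ : IsCharacter (N.subgroupOf T) θ := isCharacter_restrict (N.subgroupOf T) hηc
  have hθ0 : θ ≠ 0 := Cfsg.Agent.S0858.restrict_ne_zero (N.subgroupOf T) hη
  obtain ⟨ξ, hξ, hξne⟩ := exists_irr_constituent hθ hθ0
  obtain ⟨Δ, hΔ, hsplit⟩ := exists_add_of_classInner_ne_zero hθ hξ hξne
  -- `ψ_T = η + Δ₁`
  have h1 : classInner (fun t : T => ψ t) η ≠ 0 := by
    have h2 := frobenius_reciprocity T η hψcf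
    rw [hind, irr_orthonormal hψ hψ, if_pos rfl] at h2
    rw [classInner_conj_symm, ← h2]
    simp
  obtain ⟨Δ₁, hΔ₁, hsplit₁⟩ := exists_add_of_classInner_ne_zero (isCharacter_restrict T hψc) hη h1
  -- restriction of `ψ` to `N ∩ T`
  set ψNT : N.subgroupOf T → ℂ := fun y => ψ ((y : T) : H) with hψNT
  have hΔ₁' : IsCharacter (N.subgroupOf T) (fun y : N.subgroupOf T => Δ₁ y) :=
    isCharacter_restrict (N.subgroupOf T) hΔ₁
  have h3 : ψNT = ξ + (Δ + fun y : N.subgroupOf T => Δ₁ y) := by
    funext y
    have e1 := congrFun hsplit₁ (y : T)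
    have e2 := congrFun hsplit y
    simp only [Pi.add_apply] at e1 e2 ⊢
    rw [hψNT]
    simp only
    have e2' : η (y : T) = ξ y + Δ y := e2
    rw [e1, e2']
    ring
  have h4 : classInner ψNT ξ ≠ 0 := by
    rw [h3, classInner_add_left, irr_orthonormal hξ hξ, if_pos rfl]
    obtain ⟨k, hk⟩ := exists_nat_classInner (isCharacter_add hΔ hΔ₁') hξ
    rw [hk]
    have : (1 : ℂ) + (k : ℂ) = ((1 + k : ℕ) : ℂ) := by push_cast; ring
    rw [this]
    have : 1 + k ≠ 0 := by omega
    exact_mod_cast this
  -- the isomorphism between the two incarnations of `N ∩ T`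
  let e : T.subgroupOf N ≃* N.subgroupOf T :=
    { toFun := fun x => ⟨⟨((x : N) : H), x.2⟩, (x : N).2⟩
      invFun := fun y => ⟨⟨((y : T) : H), y.2⟩, (y : T).2⟩
      left_inv := fun x => rfl
      right_inv := fun y => rfl
      map_mul' := fun x y => rfl }
  set ξ' : T.subgroupOf N → ℂ := fun x => ξ (e x) with hξ'
  have hξ'irr : IsIrrCharacter (T.subgroupOf N) ξ' := isIrrCharacter_comp_equiv e hξ
  set φ : N → ℂ := fun n => ψ n with hφdef
  have hφcf := isClassFunction_of_isCharacter (IsIrrCharacter.isCharacter hφ)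
  have h5 : classInner ξ' (fun x : T.subgroupOf N => φ x) ≠ 0 := by
    have h6 := classInner_comp_equiv e ψNT ξ
    have h7 : classInner (fun x : T.subgroupOf N => φ x) ξ' ≠ 0 := by
      have : (fun x : T.subgroupOf N => φ x) = fun x => ψNT (e x) := rfl
      rw [this, hξ', h6]
      exact h4
    rw [classInner_conj_symm]
    intro h0
    exact h7 ((map_eq_zero _).mp h0)
  have h8 : classInner (indFun (T.subgroupOf N) ξ') φ ≠ 0 := by
    rw [frobenius_reciprocity (T.subgroupOf N) ξ' hφcf]
    exact h5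
  obtain ⟨Δ₂, hΔ₂, hsplit₂⟩ := exists_add_of_classInner_ne_zero
    (isCharacter_indFun (T.subgroupOf N) (IsIrrCharacter.isCharacter hξ'irr)) hφ h8
  -- degrees
  obtain ⟨x, hx⟩ := char_one_nat (IsIrrCharacter.isCharacter hξ)
  obtain ⟨d, hd⟩ := char_one_nat hΔ
  obtain ⟨d₂, hd₂⟩ := char_one_nat hΔ₂
  have hη1 : η 1 = ((x + d : ℕ) : ℂ) := by
    have := congrFun hsplit 1
    simp only [Pi.add_apply, hx, hd] at this
    rw [hθdef] at this
    simp only [OneMemClass.coe_one] at this
    rw [this]; push_cast; ring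
  have hψ1 : ψ 1 = ((T.index * (x + d) : ℕ) : ℂ) := by
    rw [← hind, indFun_one, hη1]; push_cast; ring
  have hdeg : ((T.relIndex N * x : ℕ) : ℂ) = ((T.index * (x + d) + d₂ : ℕ) : ℂ) := by
    have := congrFun hsplit₂ 1
    rw [indFun_one] at this
    simp only [Pi.add_apply, hd₂] at this
    have hξ'1 : ξ' 1 = (x : ℂ) := by
      rw [hξ']
      simp only [map_one]
      exact hx
    have hφ1 : φ 1 = ψ 1 := rfl
    rw [hξ'1, hφ1, hψ1] at this
    have hidx : (T.subgroupOf N).index = T.relIndex N := rfl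
    rw [hidx] at this
    push_cast at this ⊢
    exact this
  have hdeg' : T.relIndex N * x = T.index * (x + d) + d₂ := by exact_mod_cast hdeg
  have hle : T.relIndex N ≤ T.index := by
    have h9 := Subgroup.relIndex_le_of_le_right (H := T) (le_top : N ≤ ⊤)
      (by rw [Subgroup.relIndex_top_right]; exact Subgroup.index_ne_zero_of_finite)
    rwa [Subgroup.relIndex_top_right] at h9
  have hTpos : 0 < T.index := Nat.pos_of_ne_zero Subgroup.index_ne_zero_of_finite
  have hd0 : d = 0 := by
    by_contra hne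
    have hdpos : 0 < d := Nat.pos_of_ne_zero hne
    have : T.relIndex N * x ≤ T.index * x := Nat.mul_le_mul_right x hle
    nlinarith
  have hΔ0 : Δ = 0 := eq_zero_of_char_one_eq_zero hΔ (by rw [hd, hd0]; simp)
  rw [hsplit, hΔ0, add_zero]
  exact hξ

/-- an abelian normal section just above `K` inside `D` -/
theorem exists_abelian_over {G : Type u} [Group G] [Finite G] (K D : Subgroup G) [hK : K.Normal]
    (hD : D.Normal) (hKD : K < D) (hsolv : Group.IsSolvable (G ⧸ K)) :
    ∃ A : Subgroup G, A.Normal ∧ K < A ∧ A ≤ D ∧ ⁅A, A⁆ ≤ K := by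
  classical
  let S : Set (Subgroup G) := {M | M.Normal ∧ K < M ∧ M ≤ D}
  have hS : S.Nonempty := ⟨D, hD, hKD, le_rfl⟩
  obtain ⟨A, ⟨hA, hKA, hAD⟩, hAmin⟩ := wellFounded_lt.has_min S hS
  refine ⟨A, hA, hKA, hAD, ?_⟩
  haveI := hA
  haveI := hsolv
  set π := QuotientGroup.mk' K with hπ
  have hAbar : A.map π ≠ ⊥ := by
    intro h0
    rw [Subgroup.map_eq_bot_iff, QuotientGroup.ker_mk'] at h0
    exact (not_le_of_gt hKA) h0
  have hlt := Group.IsSolvable.commutator_lt_of_ne_bot hAbar
  have hMn : (⁅A, A⁆ ⊔ K).Normal := inferInstance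
  have hMA : ⁅A, A⁆ ⊔ K ≤ A := sup_le (Subgroup.commutator_le_left A A) hKA.le
  by_cases h : ⁅A, A⁆ ⊔ K = K
  · rw [← h]; exact le_sup_left
  · exfalso
    have hKM : K < ⁅A, A⁆ ⊔ K := lt_of_le_of_ne le_sup_right (Ne.symm h)
    have hnot := hAmin (⁅A, A⁆ ⊔ K) ⟨hMn, hKM, hMA.trans hAD⟩
    have heq : ⁅A, A⁆ ⊔ K = A := by
      by_contra hne
      exact hnot (lt_of_le_of_ne hMA hne)
    have h1 : A.map π = ⁅A.map π, A.map π⁆ := by
      conv_lhs => rw [← heq]
      rw [Subgroup.map_sup, Subgroup.map_commutator, hπ, QuotientGroup.map_mk'_self, sup_bot_eq]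
    rw [← h1] at hlt
    exact lt_irrefl _ hlt

open Classical in
/-- unless `ψ_N` is linear, some normal subgroup has a non-invariant constituent -/
theorem exists_nonhomog {H : Type u} [Group H] [Fintype H] (hsolv : Group.IsSolvable H)
    (N : Subgroup H) (hN : N.Normal) (hab : AbSyl N) {k : ℕ}
    (ρ : Representation ℂ H (Fin k → ℂ)) (hρ : ρ.IsIrreducible)
    (hφ : IsIrrCharacter N (fun n : N => ρ.character n)) (hk : k ≠ 1) :
    ∃ (A : Subgroup H) (hA : A.Normal) (lam : A → ℂ), IsIrrCharacter A lam ∧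
      classInner (fun a : A => ρ.character a) lam ≠ 0 ∧ inertia A hA lam ≠ ⊤ := by
  classical
  by_contra hcon
  push Not at hcon
  haveI := hN
  haveI := hρ
  haveI := hsolv
  have hψ : IsIrrCharacter H ρ.character := ⟨k, ρ, hρ, rfl⟩
  have hfin : Module.finrank ℂ (Fin k → ℂ) = k := by simp
  set K : Subgroup H := N ⊓ MonoidHom.ker ρ with hKdef
  have hKn : K.Normal := inferInstance
  have hKN : K ≤ N := inf_le_left
  have hKker : ∀ x ∈ K, ρ x = 1 := fun x hx => MonoidHom.mem_ker.mp hx.2
  haveI : (K.subgroupOf N).Normal := hKn.subgroupOf N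
  set π := QuotientGroup.mk' (K.subgroupOf N) with hπ
  have hπsurj : Function.Surjective π := QuotientGroup.mk'_surjective _
  have hQab : AbSyl (N ⧸ K.subgroupOf N) := abSyl_of_surjective hab π hπsurj
  have hQ : commutator (N ⧸ K.subgroupOf N) ⊓ Subgroup.center (N ⧸ K.subgroupOf N) = ⊥ := by
    apply Cfsg.Agent.S0089.result
    intro p hp P
    haveI : Fact p.Prime := ⟨hp⟩
    exact ⟨⟨fun a b => Subtype.ext (hQab p P a a.2 b b.2)⟩⟩
  by_cases hDK : ⁅N, N⁆ ≤ K
  · -- `N` acts through an abelian group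
    let ρN : Representation ℂ N (Fin k → ℂ) := ρ.comp N.subtype
    haveI : ρN.IsIrreducible := isIrreducible_of_character_irr ρN hφ
    have hcomm : ∀ a b : N, ρN a * ρN b = ρN b * ρN a := by
      intro a b
      have h1 : (a : H) * b * (a : H)⁻¹ * (b : H)⁻¹ ∈ K := by
        apply hDK
        rw [← commutatorElement_def]
        exact Subgroup.commutator_mem_commutator a.2 b.2
      have h2 := hKker _ h1
      show ρ (a : H) * ρ (b : H) = ρ (b : H) * ρ (a : H)
      rw [← map_mul, ← map_mul]
      have h3 : (a : H) * b = ((a : H) * b * (a : H)⁻¹ * (b : H)⁻¹) * ((b : H) * a) := by group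
      rw [h3, map_mul, h2, one_mul]
    have := (scalar_of_comm ρN hcomm).1
    rw [hfin] at this
    exact hk this
  · -- a chief-like factor inside the derived part
    have hDn : (⁅N, N⁆ ⊔ K).Normal := inferInstance
    have hKD : K < ⁅N, N⁆ ⊔ K := by
      refine lt_of_le_of_ne le_sup_right ?_
      intro h
      apply hDK
      rw [h]
      exact le_sup_left
    obtain ⟨A, hA, hKA, hAD, hAab⟩ := exists_abelian_over K (⁅N, N⁆ ⊔ K) hDn hKD inferInstance
    have hAN : A ≤ N := hAD.trans (sup_le (Subgroup.commutator_le_left N N) hKN)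
    obtain ⟨lam, hlam, hne⟩ := exists_irr_constituent
      (isCharacter_restrict A (IsIrrCharacter.isCharacter hψ))
      (Cfsg.Agent.S0858.restrict_ne_zero A hψ)
    have hT := hcon A hA lam hlam hne
    have hinv : ∀ g : H, conjFun A hA lam g = lam := by
      intro g
      rw [← mem_inertia, hT]
      exact Subgroup.mem_top g
    have hres := restrict_eq_smul_of_invariant A hA hψ hlam hne hinv
    set c := classInner (fun n : A => ρ.character n) lam with hc
    have hlam' := hlam
    obtain ⟨m, σ, hσ, hσlam⟩ := hlam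
    haveI := hσ
    have hresval : ∀ a : A, ρ.character a = c * σ.character a := by
      intro a
      have := congrFun hres a
      simp only [Pi.smul_apply, smul_eq_mul] at this
      rw [this, hσlam]
    -- `σ` has commuting operators
    have hσcomm : ∀ a b : A, σ a * σ b = σ b * σ a := by
      intro a b
      have h1 : ((a * b * a⁻¹ * b⁻¹ : A) : H) ∈ K := by
        apply hAab
        have := Subgroup.commutator_mem_commutator a.2 b.2
        rw [commutatorElement_def] at this
        simpa using this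
      have h2 : ρ.character ((a * b * a⁻¹ * b⁻¹ : A) : H) = ρ.character 1 := by
        rw [Representation.char_one]
        exact (Cfsg.Agent.Helper79.char_eq_finrank_iff ρ _).mpr (hKker _ h1)
      have h3 : σ.character (a * b * a⁻¹ * b⁻¹) = σ.character 1 := by
        have e1 := hresval (a * b * a⁻¹ * b⁻¹)
        have e2 := hresval 1
        rw [OneMemClass.coe_one] at e2
        rw [h2, e2] at e1
        exact (mul_left_cancel₀ hne e1).symm
      rw [Representation.char_one] at h3
      have h4 := (Cfsg.Agent.Helper79.char_eq_finrank_iff σ _).mp h3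
      rw [← map_mul, ← map_mul]
      have h5 : a * b = (a * b * a⁻¹ * b⁻¹) * (b * a) := by group
      rw [h5, map_mul, h4, one_mul]
    obtain ⟨hσ1, hσsc⟩ := scalar_of_comm σ hσcomm
    -- `A` acts by scalars in `ρ`
    have hρsc : ∀ a : A, ∃ ω : ℂ, ρ (a : H) = ω • (LinearMap.id : (Fin k → ℂ) →ₗ[ℂ] (Fin k → ℂ)) := by
      intro a
      apply (Cfsg.Agent.Helper3.norm_char_eq_iff ρ (a : H)).mp
      obtain ⟨ca, hca⟩ := hσsc a
      have h1 : ‖σ.character a‖ = 1 := by
        have := (Cfsg.Agent.Helper3.norm_char_eq_iff σ a).mpr ⟨ca, hca⟩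
        rw [this, hσ1]; simp
      have h2 : ρ.character 1 = c := by
        have := hresval 1
        rw [OneMemClass.coe_one, Representation.char_one σ, hσ1] at this
        simpa using this
      rw [hresval a, norm_mul, h1, mul_one, ← h2, Representation.char_one]
      simp
    have hcommK : ∀ a ∈ A, ∀ n ∈ N, a * n * a⁻¹ * n⁻¹ ∈ K := by
      intro a ha n hn
      refine ⟨?_, ?_⟩
      · exact N.mul_mem (N.mul_mem (N.mul_mem (hAN ha) hn) (N.inv_mem (hAN ha))) (N.inv_mem hn)
      · apply MonoidHom.mem_ker.mpr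
        obtain ⟨ω, hω⟩ := hρsc ⟨a, ha⟩
        have hω' : ρ a = ω • (LinearMap.id : (Fin k → ℂ) →ₗ[ℂ] (Fin k → ℂ)) := hω
        have h1 : ρ a * ρ n = ρ n * ρ a := by
          rw [hω']
          ext v
          simp
        have h2 : ρ (a * n * a⁻¹ * n⁻¹) = (ρ a * ρ n) * ρ a⁻¹ * ρ n⁻¹ := by
          rw [map_mul, map_mul, map_mul]
        rw [h2, h1, mul_assoc (ρ n), ← map_mul, mul_inv_cancel, map_one, mul_one, ← map_mul,
          mul_inv_cancel, map_one]
    -- hence `A ≤ K`
    have hAK : A ≤ K := by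
      intro a ha
      have haN : a ∈ N := hAN ha
      have hcen : π ⟨a, haN⟩ ∈ Subgroup.center (N ⧸ K.subgroupOf N) := by
        rw [Subgroup.mem_center_iff]
        intro q
        obtain ⟨n, rfl⟩ := hπsurj q
        rw [← map_mul, ← map_mul, hπ, QuotientGroup.mk'_apply, QuotientGroup.mk'_apply,
          QuotientGroup.eq, Subgroup.mem_subgroupOf]
        have := hcommK a⁻¹ (A.inv_mem ha) (n : H)⁻¹ (N.inv_mem n.2)
        simp only [inv_inv] at this
        simpa [mul_assoc] using this
      have hcom : π ⟨a, haN⟩ ∈ commutator (N ⧸ K.subgroupOf N) := by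
        have hDE : ⁅N, N⁆ ⊔ K ≤
            ((commutator (N ⧸ K.subgroupOf N)).comap π).map N.subtype := by
          apply sup_le
          · rw [← Subgroup.map_subtype_commutator N]
            apply Subgroup.map_mono
            rw [← Subgroup.map_le_iff_le_comap, commutator_def, Subgroup.map_commutator,
              commutator_def]
            exact Subgroup.commutator_mono le_top le_top
          · intro x hx
            refine ⟨⟨x, hKN hx⟩, ?_, rfl⟩
            apply Subgroup.mem_comap.mpr
            have : π ⟨x, hKN hx⟩ = 1 := by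
              rw [hπ, QuotientGroup.mk'_apply, QuotientGroup.eq_one_iff, Subgroup.mem_subgroupOf]
              exact hx
            rw [this]
            exact Subgroup.one_mem _
        obtain ⟨y, hy, hya⟩ := hDE (hAD ha)
        have : y = ⟨a, haN⟩ := Subtype.ext hya
        rw [← this]
        exact hy
      have h1 : π ⟨a, haN⟩ ∈ commutator (N ⧸ K.subgroupOf N) ⊓
          Subgroup.center (N ⧸ K.subgroupOf N) := ⟨hcom, hcen⟩
      rw [hQ, Subgroup.mem_bot, hπ, QuotientGroup.mk'_apply, QuotientGroup.eq_one_iff,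
        Subgroup.mem_subgroupOf] at h1
      exact h1
    exact (not_le_of_gt hKA) hAK

/-- the natural embedding of `N ∩ T` (inside `T`) into `N` -/
def subgroupOfHom {H : Type u} [Group H] (N T : Subgroup H) : N.subgroupOf T →* N where
  toFun x := ⟨((x : T) : H), x.2⟩
  map_one' := rfl
  map_mul' _ _ := rfl

theorem subgroupOfHom_injective {H : Type u} [Group H] (N T : Subgroup H) :
    Function.Injective (subgroupOfHom N T) := by
  intro x y h
  apply Subtype.ext
  apply Subtype.ext
  exact congrArg (fun z : N => (z : H)) h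

/-- If `ψ_N` is irreducible for a normal subgroup `N` with abelian Sylow subgroups of the
solvable group `H`, then `ψ` is monomial. -/
theorem lemmaM : ∀ (c : ℕ) (H : Type u) [Group H] [Fintype H], Nat.card H = c →
    Group.IsSolvable H → ∀ (N : Subgroup H), N.Normal → AbSyl N → ∀ ψ : H → ℂ,
    IsIrrCharacter H ψ → IsIrrCharacter N (fun n : N => ψ n) → Mono H ψ := by
  intro c
  induction c using Nat.strong_induction_on with
  | _ c ih =>
    intro H _ _ hc hsolv N hN hab ψ hψ hφ
    classical
    haveI := hsolv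
    have hψ' := hψ
    obtain ⟨k, ρ, hρ, rfl⟩ := hψ
    by_cases hk : k = 1
    · apply mono_of_linear (IsIrrCharacter.isCharacter hψ')
      rw [Representation.char_one, hk]
      simp
    · obtain ⟨A, hA, lam, hlam, hne, hT⟩ := exists_nonhomog hsolv N hN hab ρ hρ hφ hk
      have hAT : A ≤ inertia A hA lam := fun x hx =>
        (mem_inertia A hA lam x).mpr (conjFun_of_mem A hA
          (isClassFunction_of_isCharacter (IsIrrCharacter.isCharacter hlam)) hx)
      obtain ⟨η, hη, hind, _⟩ := clifford_corr_surj A (inertia A hA lam) hA hAT hlam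
        (fun g => mem_inertia A hA lam g) hψ' hne
      have hηN := restrict_correspondent_irr N (inertia A hA lam) hη hψ' hind hφ
      have hlt : Nat.card (inertia A hA lam) < c := by
        rw [← hc, ← Subgroup.card_mul_index (inertia A hA lam)]
        have h2 : (inertia A hA lam).index ≠ 1 := fun h => hT (Subgroup.index_eq_one.mp h)
        have h3 : (inertia A hA lam).index ≠ 0 := Subgroup.index_ne_zero_of_finite
        have h4 : 0 < Nat.card (inertia A hA lam) := Nat.card_pos
        have h5 : 2 ≤ (inertia A hA lam).index := by omega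
        nlinarith
      have habT : AbSyl (N.subgroupOf (inertia A hA lam)) :=
        abSyl_of_injective hab (subgroupOfHom N _) (subgroupOfHom_injective N _)
      exact mono_of_subgroup (inertia A hA lam) hind
        (ih _ hlt (inertia A hA lam) rfl inferInstance (N.subgroupOf (inertia A hA lam))
          (hN.subgroupOf _) habT η hη hηN)

/-- Let G be a finite solvable group and N a normal subgroup such that for every prime p every Sylow p-subgroup of N is abelian. Suppose every irreducible character of G is induced from an irreducible character of some subgroup containing N whose restriction to N is irreducible. Then every irreducible character of G is induced from a character of degree 1 of some subgroup. -/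
theorem result {G : Type*} [Group G] [Fintype G] [Group.IsSolvable G] (N : Subgroup G) [N.Normal] (hab : ∀ (p : ℕ) [Fact p.Prime] (P : Sylow p N), ∀ a ∈ P, ∀ b ∈ P, a * b = b * a) (hrel : ∀ χ : G → ℂ, Cfsg.IsIrrCharacter G χ → ∃ (H : Subgroup G) (hNH : N ≤ H) (ψ : H → ℂ), Cfsg.IsIrrCharacter H ψ ∧ Cfsg.indFun H ψ = χ ∧ Cfsg.IsIrrCharacter N (fun n : N => ψ ⟨(n : G), hNH n.2⟩)) (χ : G → ℂ) (hχ : Cfsg.IsIrrCharacter G χ) : ∃ (U : Subgroup G) (lam : U → ℂ), Cfsg.IsCharacter U lam ∧ lam 1 = 1 ∧ Cfsg.indFun U lam = χ := by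
  classical
  obtain ⟨H, hNH, ψ, hψ, hind, hres⟩ := hrel χ hχ
  have hN : N.Normal := inferInstance
  have hab' : AbSyl N := hab
  have habH : AbSyl (N.subgroupOf H) :=
    abSyl_of_injective hab' (subgroupOfHom N H) (subgroupOfHom_injective N H)
  have hresH : IsIrrCharacter (N.subgroupOf H) (fun y : N.subgroupOf H => ψ y) :=
    isIrrCharacter_comp_equiv (Subgroup.subgroupOfEquivOfLe hNH) hres
  exact mono_of_subgroup H hind
    (lemmaM _ H rfl inferInstance (N.subgroupOf H) (hN.subgroupOf H) habH ψ hψ hresH)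

end Cfsg.Agent.S0859
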