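import Cfsg.Statements.S0860
import Mathlib
import Cfsg.Agent.Lib.Helper80.CharBasic

set_option autoImplicit false
open Cfsg
open scoped ComplexConjugate

namespace Cfsg.Agent.S0860

open Cfsg.Agent.Helper80

/-- Let a group A act on the set of irreducible characters and on the set of conjugacy classes of a finite group G in such a way that (a • χ) evaluated on the class a • C equals χ evaluated on C, for all a, χ and C. Then every element of A fixes exactly as many irreducible characters as it fixes conjugacy classes. -/
theorem result {G : Type*} [Group G] [Finite G] {A : Type*} [Group A] [MulAction A (Cfsg.IrrCharacter G)] [MulAction A (ConjClasses G)] (hcompat : ∀ (a : A) (χ : Cfsg.IrrCharacter G) (g g' : G), ConjClasses.mk g' = a • ConjClasses.mk g → ((a • χ : Cfsg.IrrCharacter G) : G → ℂ) g' = (χ : G → ℂ) g) (a : A) : Nat.card {χ : Cfsg.IrrCharacter G // a • χ = χ} = Nat.card {C : ConjClasses G // a • C = C} := by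
  classical
  have : Fintype G := Fintype.ofFinite G
  have : Fintype (IrrCharacter G) := Fintype.ofFinite _
  have : Fintype (ConjClasses G) := Fintype.ofFinite _
  let rep : ConjClasses G → G := Quotient.out
  have hrep : ∀ D : ConjClasses G, ConjClasses.mk (rep D) = D := fun D => Quotient.out_eq D
  let X : Matrix (IrrCharacter G) (ConjClasses G) ℂ := fun χ D => (χ : G → ℂ) (rep D)
  let Y : Matrix (ConjClasses G) (IrrCharacter G) ℂ := fun D χ =>
    (Nat.card (Subgroup.centralizer ({rep D} : Set G)) : ℂ)⁻¹ * conj ((χ : G → ℂ) (rep D))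
  have hYX : Y * X = 1 := by
    ext D D'
    rw [Matrix.mul_apply]
    simp only [X, Y]
    have h2 := irr_second_orthogonality (rep D') (rep D)
    rw [finsum_eq_sum_of_fintype] at h2
    have : ∑ χ : IrrCharacter G, (Nat.card (Subgroup.centralizer ({rep D} : Set G)) : ℂ)⁻¹ *
        conj ((χ : G → ℂ) (rep D)) * (χ : G → ℂ) (rep D') =
        (Nat.card (Subgroup.centralizer ({rep D} : Set G)) : ℂ)⁻¹ *
        ∑ χ : IrrCharacter G, (χ : G → ℂ) (rep D') * conj ((χ : G → ℂ) (rep D)) := by
      rw [Finset.mul_sum]
      apply Finset.sum_congr rfl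
      intro χ _
      ring
    rw [this, h2]
    by_cases hDD : D = D'
    · subst hDD
      rw [if_pos (IsConj.refl _), Matrix.one_apply_eq]
      apply inv_mul_cancel₀
      have : 0 < Nat.card (Subgroup.centralizer ({rep D} : Set G)) := Nat.card_pos
      exact_mod_cast this.ne'
    · rw [Matrix.one_apply_ne hDD, if_neg, mul_zero]
      intro hc
      apply hDD
      rw [← hrep D, ← hrep D']
      exact (ConjClasses.mk_eq_mk_iff_isConj.mpr hc).symm
  have hcard : Fintype.card (IrrCharacter G) = Fintype.card (ConjClasses G) := by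
    rw [← Nat.card_eq_fintype_card, ← Nat.card_eq_fintype_card]
    exact card_irr
  have hXY : X * Y = 1 := (Matrix.mul_eq_one_comm_of_card_eq _ _ _ hcard.symm).mp hYX
  let σ : Equiv.Perm (IrrCharacter G) := MulAction.toPerm a
  let τ : Equiv.Perm (ConjClasses G) := MulAction.toPerm a
  have hX : ∀ χ D, X (σ χ) (τ D) = X χ D := by
    intro χ D
    simp only [X]
    apply hcompat a χ (rep D) (rep (τ D))
    rw [hrep, hrep]
    rfl
  -- counting
  have hL : (Nat.card {χ : Cfsg.IrrCharacter G // a • χ = χ} : ℂ) =
      ∑ χ : IrrCharacter G, (1 : Matrix (IrrCharacter G) (IrrCharacter G) ℂ) (σ χ) χ := by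
    rw [Nat.card_eq_fintype_card, Fintype.card_subtype, Finset.card_filter]
    push_cast
    apply Finset.sum_congr rfl
    intro χ _
    rw [Matrix.one_apply]
    rfl
  have hR : (Nat.card {C : ConjClasses G // a • C = C} : ℂ) =
      ∑ D : ConjClasses G, (1 : Matrix (ConjClasses G) (ConjClasses G) ℂ) (τ D) D := by
    rw [Nat.card_eq_fintype_card, Fintype.card_subtype, Finset.card_filter]
    push_cast
    apply Finset.sum_congr rfl
    intro D _
    rw [Matrix.one_apply]
    rfl
  have key : (Nat.card {χ : Cfsg.IrrCharacter G // a • χ = χ} : ℂ) =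
      (Nat.card {C : ConjClasses G // a • C = C} : ℂ) := by
    rw [hL, hR, ← hXY, ← hYX]
    simp only [Matrix.mul_apply]
    calc ∑ χ, ∑ D, X (σ χ) D * Y D χ
        = ∑ χ, ∑ D, X (σ χ) (τ D) * Y (τ D) χ := by
          apply Finset.sum_congr rfl
          intro χ _
          exact (Equiv.sum_comp τ (fun D => X (σ χ) D * Y D χ)).symm
      _ = ∑ χ, ∑ D, Y (τ D) χ * X χ D := by
          apply Finset.sum_congr rfl
          intro χ _
          apply Finset.sum_congr rfl
          intro D _
          rw [hX, mul_comm]
      _ = ∑ D, ∑ χ, Y (τ D) χ * X χ D := Finset.sum_comm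
  exact_mod_cast key

end Cfsg.Agent.S0860
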