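import Cfsg.Statements.S0861
import Mathlib
import Cfsg.Agent.Lib.Helper82.KGV

set_option autoImplicit false
open Cfsg

namespace Cfsg.Agent.S0861

theorem result {G : Type*} [Group G] [Finite G] (p : ℕ) [Fact p.Prime] (P : Sylow p G) [(P : Subgroup G).Normal] (hab : ∀ a ∈ P, ∀ b ∈ P, a * b = b * a) (g : G) (hg : g ∈ P) (hC : Subgroup.centralizer ({g} : Set G) = P) : Nat.card (Cfsg.IrrCharacter G) ≤ Nat.card P ∧ (Nat.card (Cfsg.IrrCharacter G) = Nat.card P → commutator G ≤ P) := by
  classical
  have hp : p.Prime := Fact.out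
  have hidx : ¬ p ∣ (P : Subgroup G).index := P.not_dvd_index
  have hVp : IsPGroup p ↥(P : Subgroup G) := P.isPGroup'
  have hmain := Cfsg.Agent.Helper82.card_conjClasses_add_index_le p hp (P : Subgroup G) hVp hidx
    hab g hg
  rw [hC] at hmain
  have hsurj : Function.Surjective (ConjClasses.mk : G ⧸ (P : Subgroup G) → ConjClasses (G ⧸ (P : Subgroup G))) :=
    ConjClasses.mk_surjective
  have hle : Nat.card (ConjClasses (G ⧸ (P : Subgroup G))) ≤ (P : Subgroup G).index := by
    rw [Subgroup.index_eq_card]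
    exact Nat.card_le_card_of_surjective _ hsurj
  rw [Cfsg.Agent.Helper80.card_irr]
  refine ⟨by omega, ?_⟩
  intro heq
  have hcard : Nat.card (ConjClasses (G ⧸ (P : Subgroup G))) = Nat.card (G ⧸ (P : Subgroup G)) := by
    rw [← Subgroup.index_eq_card]
    have h1 : Nat.card ↥(P : Subgroup G) = Nat.card ↥P := rfl
    omega
  have hbij : Function.Bijective (ConjClasses.mk : G ⧸ (P : Subgroup G) → ConjClasses (G ⧸ (P : Subgroup G))) := by
    rw [Nat.bijective_iff_surjective_and_card]
    exact ⟨hsurj, hcard.symm⟩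
  have hcomm : ∀ a b : G ⧸ (P : Subgroup G), a * b = b * a := by
    intro a b
    have : ConjClasses.mk (b * a * b⁻¹) = ConjClasses.mk a :=
      ConjClasses.mk_eq_mk_iff_isConj.2 (isConj_iff.2 ⟨b⁻¹, by group⟩)
    have h2 := hbij.1 this
    calc a * b = (b * a * b⁻¹) * b := by rw [h2]
      _ = b * a := by group
  rw [commutator_def, Subgroup.commutator_le]
  intro x _ y _
  rw [← QuotientGroup.eq_one_iff, commutatorElement_def]
  simp only [QuotientGroup.mk_mul, QuotientGroup.mk_inv]
  rw [hcomm (x : G ⧸ (P : Subgroup G)) y]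
  group

end Cfsg.Agent.S0861
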