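import Cfsg.Statements.S0866
import Cfsg.Agent.Lib.Helper81.CharSylowExt

set_option autoImplicit false
set_option linter.style.haveILetI false
open Cfsg

namespace Cfsg.Agent.S0866

/-- Let N be a normal subgroup of the finite group G and ϑ an irreducible character of N, invariant under conjugation by G, of degree d coprime to the index of N. Then ϑ is the restriction of an irreducible character of G if and only if the determinantal character of ϑ is the restriction of a character of G of degree 1. -/
theorem result {G : Type*} [Group G] [Finite G] (N : Subgroup G) [hN : N.Normal] (ϑ : N → ℂ) (hϑ : Cfsg.IsIrrCharacter N ϑ) (hinv : ∀ (g : G) (n : N), ϑ ⟨g * n * g⁻¹, hN.conj_mem (n : G) n.2 g⟩ = ϑ n) (d : ℕ) (hd : ϑ 1 = d) (hcop : Nat.Coprime N.index d) : (∃ χ : G → ℂ, Cfsg.IsIrrCharacter G χ ∧ (∀ n : N, χ n = ϑ n)) ↔ ∃ μ : G → ℂ, Cfsg.IsCharacter G μ ∧ μ 1 = 1 ∧ ∀ n : N, μ n = Cfsg.detChar ϑ n := by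
  constructor
  · rintro ⟨χ, hχ, hχres⟩
    obtain ⟨k, σ, hσ, rfl⟩ := hχ
    haveI := hσ
    have hdet : ∀ g, detChar σ.character g = LinearMap.det (σ g) := fun g =>
      Helper81.detChar_eq_det σ g
    refine ⟨detChar σ.character, ?_, ?_, ?_⟩
    · apply Helper81.isCharacter_of_mul
      · rw [hdet, map_one, map_one]
      · intro g h
        rw [hdet, hdet, hdet, map_mul, map_mul]
    · rw [hdet, map_one, map_one]
    · intro n
      have hϑeq : ϑ = fun n : N => σ.character n := by
        funext n; exact (hχres n).symm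
      rw [hdet, hϑeq]
      exact (Helper81.detChar_restrict N σ (by rw [← hϑeq]; exact hϑ) n).symm
  · rintro ⟨μ, hμ, hμ1, hμN⟩
    apply Helper81.exists_extension_of_sylow N hN hϑ hinv
    intro p hp
    haveI : Fact p.Prime := ⟨hp⟩
    let S : Sylow p (G ⧸ N) := default
    let P : Subgroup G := (S : Subgroup (G ⧸ N)).comap (QuotientGroup.mk' N)
    have hNP : N ≤ P := by
      intro n hn
      show QuotientGroup.mk' N n ∈ (S : Subgroup (G ⧸ N))
      rw [QuotientGroup.mk'_apply, (QuotientGroup.eq_one_iff n).mpr hn]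
      exact Subgroup.one_mem _
    have hPidx : P.index = (S : Subgroup (G ⧸ N)).index :=
      Subgroup.index_comap_of_surjective _ (QuotientGroup.mk'_surjective N)
    have hcopP : Nat.Coprime P.index p := by
      rw [hPidx, Nat.coprime_comm]
      exact (Nat.Prime.coprime_iff_not_dvd hp).mpr S.not_dvd_index
    haveI hN' : (N.subgroupOf P).Normal := Subgroup.normal_subgroupOf
    have hpg : IsPGroup p (P ⧸ N.subgroupOf P) := by
      intro q
      induction q using QuotientGroup.induction_on with
      | H x =>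
        obtain ⟨k, hk⟩ := S.isPGroup' ⟨QuotientGroup.mk' N (x : G), x.2⟩
        refine ⟨k, ?_⟩
        rw [← QuotientGroup.mk_pow, QuotientGroup.eq_one_iff, Subgroup.mem_subgroupOf]
        have h1 : (QuotientGroup.mk' N (x : G)) ^ p ^ k = 1 := by
          have := congrArg Subtype.val hk
          simpa using this
        rw [← map_pow, QuotientGroup.mk'_apply, QuotientGroup.eq_one_iff] at h1
        simpa using h1
    haveI : Group.IsNilpotent (P ⧸ N.subgroupOf P) := hpg.isNilpotent
    have hsolvP : Group.IsSolvable (P ⧸ N.subgroupOf P) := inferInstance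
    let iso : N.subgroupOf P ≃* N := Subgroup.subgroupOfEquivOfLe hNP
    let ϑ' : N.subgroupOf P → ℂ := fun x => ϑ (iso x)
    have hϑ' : IsIrrCharacter (N.subgroupOf P) ϑ' := Helper81.isIrrCharacter_comp_equiv iso hϑ
    have hinv' : ∀ (g : P) (n : N.subgroupOf P),
        ϑ' ⟨g * n * g⁻¹, hN'.conj_mem n n.2 g⟩ = ϑ' n := by
      intro g n
      exact hinv (g : G) (iso n)
    have hd' : ϑ' 1 = d := by
      show ϑ (iso 1) = d
      rw [map_one]; exact hd
    have hcop' : Nat.Coprime (N.subgroupOf P).index d := by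
      apply Nat.Coprime.coprime_dvd_left _ hcop
      exact Dvd.intro _ (Subgroup.relIndex_mul_index hNP)
    let μ' : P → ℂ := fun x => μ x
    have hμ' : IsCharacter P μ' := Helper81.isCharacter_restrict P hμ
    have hμ'1 : μ' 1 = 1 := hμ1
    have hμ'N : ∀ n : N.subgroupOf P, μ' n = detChar ϑ' n := by
      intro n
      have h1 := Helper81.detChar_comp_hom iso.toMonoidHom iso.surjective hϑ n
      show μ' n = detChar ϑ' n
      rw [show detChar ϑ' n = detChar ϑ (iso n) from h1]
      exact hμN (iso n)
    obtain ⟨η, hη, hηres⟩ := Helper81.exists_extension_of_det_aux (Nat.card P) P rfl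
      (N.subgroupOf P) hsolvP ϑ' hϑ' hinv' d hd' hcop' μ' hμ' hμ'1 hμ'N
    refine ⟨P, hNP, η, hcopP, hη, ?_⟩
    intro n
    exact hηres ⟨⟨n, hNP n.2⟩, Subgroup.mem_subgroupOf.mpr n.2⟩

end Cfsg.Agent.S0866
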