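import Cfsg.Statements.S0868
import Cfsg.Agent.Lib.Helper81.CharProd
import Cfsg.Agent.Lib.Helper3.CharDecomp

set_option autoImplicit false
set_option linter.style.haveILetI false
open Cfsg

namespace Cfsg.Agent.S0868

open scoped ComplexConjugate
open Cfsg.Agent.Helper81

universe u

variable {G : Type u} [Group G] [Fintype G]

/-- The `N`-average of an irreducible character: either `N` is in the kernel, or all coset sums
vanish. -/
theorem avg_irr (N : Subgroup G) [hN : N.Normal] [Fintype N] {γ : G → ℂ}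
    (hγ : IsIrrCharacter G γ) :
    (∀ n : N, ∀ g : G, γ ((n : G) * g) = γ g) ∨ (∀ g : G, ∑ n : N, γ ((n : G) * g) = 0) := by
  classical
  obtain ⟨k, ρ, hρ, rfl⟩ := hγ
  haveI := hρ
  set P : Module.End ℂ (Fin k → ℂ) := ∑ n : N, ρ (n : G) with hP
  have hcomm' : ∀ g, P * ρ g = ρ g * P := by
    intro g
    have h1 : ρ g * P = ∑ n : N, ρ (g * (n : G)) := by
      rw [hP, Finset.mul_sum]
      apply Finset.sum_congr rfl
      intro n _
      rw [map_mul]
    have h2 : P * ρ g = ∑ n : N, ρ ((n : G) * g) := by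
      rw [hP, Finset.sum_mul]
      apply Finset.sum_congr rfl
      intro n _
      rw [map_mul]
    rw [h1, h2]
    let e : N ≃ N := (MulAut.conjNormal g : N ≃* N).toEquiv
    rw [← Equiv.sum_comp e]
    apply Finset.sum_congr rfl
    intro n _
    congr 1
    simp [e, MulAut.conjNormal_apply]
  have hcomm : ∀ g, P ∘ₗ ρ g = ρ g ∘ₗ P := hcomm'
  obtain ⟨c, hc⟩ := schur_scalar ρ P hcomm
  have hmul : ∀ m : N, ρ (m : G) * P = P := by
    intro m
    rw [hP, Finset.mul_sum]
    conv_rhs => rw [← Equiv.sum_comp (Equiv.mulLeft m) (fun n : N => ρ (n : G))]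
    apply Finset.sum_congr rfl
    intro n _
    simp only [Equiv.coe_mulLeft, Subgroup.coe_mul, map_mul]
  by_cases hc0 : c = 0
  · right
    intro g
    have hP0 : P = 0 := by rw [hc, hc0, zero_smul]
    have : ∑ n : N, ρ.character ((n : G) * g) = LinearMap.trace ℂ _ (P * ρ g) := by
      rw [hP, Finset.sum_mul, map_sum]
      apply Finset.sum_congr rfl
      intro n _
      unfold Representation.character
      rw [map_mul]
    rw [this, hP0, zero_mul, map_zero]
  · left
    intro n g
    have h1 := hmul n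
    have hc' : P = c • (1 : Module.End ℂ (Fin k → ℂ)) := hc
    rw [hc', mul_smul_comm, mul_one] at h1
    have h2 : ρ (n : G) = 1 := by
      have h3 : c • (ρ (n : G) - 1) = 0 := by rw [smul_sub, h1, sub_self]
      rcases smul_eq_zero.mp h3 with h | h
      · exact absurd h hc0
      · exact sub_eq_zero.mp h
    unfold Representation.character
    rw [map_mul, h2, one_mul]

theorem classInner_mul_conj (ψ χ γ : G → ℂ) :
    classInner (ψ * fun g => conj (χ g)) γ = classInner ψ (γ * χ) := by
  unfold classInner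
  congr 1
  apply Finset.sum_congr rfl
  intro g _
  simp only [Pi.mul_apply, map_mul]
  ring

/-- Isaacs-type coset average (Gallagher). -/
theorem result {G : Type*} [Group G] [Fintype G] (N : Subgroup G) [N.Normal] [Fintype N] (χ : G → ℂ) (hχ : Cfsg.IsIrrCharacter G χ) (hχN : Cfsg.IsIrrCharacter N (fun n : N => χ n)) (ψ : G → ℂ) (hψ : Cfsg.IsIrrCharacter G ψ) (η : G → ℂ) (hη : η = fun g => (Nat.card N : ℂ)⁻¹ * ∑ n : N, ψ ((n : G) * g) * conj (χ ((n : G) * g))) : (Cfsg.classInner (fun n : N => ψ n) (fun n : N => χ n) ≠ 0 → Cfsg.IsIrrCharacter G η) ∧ (Cfsg.classInner (fun n : N => ψ n) (fun n : N => χ n) = 0 → η = 0) ∧ (ψ = χ → η = fun _ => 1) := by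
  classical
  have hN : N.Normal := inferInstance
  have hNcard : (Nat.card N : ℂ) ≠ 0 := by exact_mod_cast (Nat.card_pos (α := N)).ne'
  have hNcard' : (Fintype.card N : ℂ) = (Nat.card N : ℂ) := by rw [Nat.card_eq_fintype_card]
  set ϑ : N → ℂ := fun n => χ n with hϑ
  have hχc := isClassFunction_of_isCharacter (IsIrrCharacter.isCharacter hχ)
  have hψc := isClassFunction_of_isCharacter (IsIrrCharacter.isCharacter hψ)
  -- the trivial character of `N`
  have h1N : IsIrrCharacter N (fun _ : N => (1 : ℂ)) := isIrrCharacter_one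
  have h1inv : ∀ g : G, conjFun N hN (fun _ : N => (1 : ℂ)) g = fun _ => 1 := fun g => rfl
  have hmulϑ : (fun _ : N => (1 : ℂ)) * ϑ = ϑ := by ext n; simp
  have hprod : IsIrrCharacter N ((fun _ : N => (1 : ℂ)) * ϑ) := by rw [hmulϑ]; exact hχN
  have hprodinv : ∀ g : G, conjFun N hN ((fun _ : N => (1 : ℂ)) * ϑ) g
      = (fun _ : N => (1 : ℂ)) * ϑ := by
    intro g
    rw [hmulϑ]
    ext n
    simp only [conjFun_apply, hϑ]
    exact hχc n g
  obtain ⟨m, hm⟩ := exists_nat_decomp (isCharacter_indFun N (IsIrrCharacter.isCharacter h1N))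
  obtain ⟨hirr, horth, hInd⟩ := gallagher_core N hN h1N h1inv hprod hprodinv hχ rfl m hm
  rw [hmulϑ] at hInd
  have hmβ : ∀ β : IrrCharacter G,
      (m β : ℂ) = (Nat.card N : ℂ)⁻¹ * ∑ n : N, conj ((β : G → ℂ) n) := by
    intro β
    have h1 : classInner (indFun N (fun _ : N => (1 : ℂ))) (β : G → ℂ) = (m β : ℂ) := by
      conv_lhs => rw [hm]
      exact classInner_nat_decomp (fun γ => (m γ : ℂ)) β
    rw [← h1, frobenius_reciprocity N _
      (isClassFunction_of_isCharacter (IsIrrCharacter.isCharacter β.2))]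
    unfold classInner
    simp
  have hB : ∀ β : IrrCharacter G, m β ≠ 0 →
      ∀ n : N, ∀ g : G, (β : G → ℂ) ((n : G) * g) = (β : G → ℂ) g := by
    intro β hβ
    rcases avg_irr N β.2 with h | h
    · exact h
    · exfalso
      apply hβ
      have h0 := h 1
      simp only [mul_one] at h0
      have : (m β : ℂ) = 0 := by
        rw [hmβ, ← map_sum, h0]; simp
      exact_mod_cast this
  have hB' : ∀ β : IrrCharacter G,
      (∀ n : N, ∀ g : G, (β : G → ℂ) ((n : G) * g) = (β : G → ℂ) g) → m β ≠ 0 := by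
    intro β hβ h0
    have h1 := hmβ β
    rw [h0] at h1
    have h2 : ∀ n : N, (β : G → ℂ) n = (β : G → ℂ) 1 := fun n => by simpa using hβ n 1
    simp only [h2, Finset.sum_const, Finset.card_univ, nsmul_eq_mul, hNcard'] at h1
    rw [← mul_assoc, inv_mul_cancel₀ hNcard, one_mul] at h1
    obtain ⟨d, hd0, hd⟩ := irr_one_pos β.2
    rw [hd] at h1
    have : (d : ℂ) = 0 := by simpa using h1.symm
    have : d = 0 := by exact_mod_cast this
    omega
  -- decomposition of `ψ * conj χ`
  have hξ : IsCharacter G (ψ * fun g => conj (χ g)) :=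
    isCharacter_mul (IsIrrCharacter.isCharacter hψ)
      (Cfsg.Agent.Helper3.isCharacter_conj (IsIrrCharacter.isCharacter hχ))
  obtain ⟨a, ha⟩ := exists_nat_decomp hξ
  have haγ : ∀ γ : IrrCharacter G, (a γ : ℂ) = classInner ψ ((γ : G → ℂ) * χ) := by
    intro γ
    rw [← classInner_mul_conj]
    conv_rhs => rw [ha]
    exact (classInner_nat_decomp (fun γ' => (a γ' : ℂ)) γ).symm
  have hηform : ∀ g, η g = ∑ γ : IrrCharacter G,
      (a γ : ℂ) * ((Nat.card N : ℂ)⁻¹ * ∑ n : N, (γ : G → ℂ) ((n : G) * g)) := by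
    intro g
    rw [hη]
    simp only
    have hexp : ∀ n : N, ψ ((n : G) * g) * conj (χ ((n : G) * g))
        = ∑ γ : IrrCharacter G, (a γ : ℂ) * (γ : G → ℂ) ((n : G) * g) := by
      intro n
      have := congrFun ha ((n : G) * g)
      simp only [Pi.mul_apply, Finset.sum_apply, Pi.smul_apply, smul_eq_mul] at this
      exact this
    simp only [hexp]
    rw [Finset.sum_comm, Finset.mul_sum]
    apply Finset.sum_congr rfl
    intro γ _
    rw [← Finset.mul_sum]; ring
  have hmain : ∀ β : IrrCharacter G, m β ≠ 0 → (β : G → ℂ) * χ = ψ → η = (β : G → ℂ) := by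
    intro β hβ hβψ
    ext g
    rw [hηform g, Finset.sum_eq_single β]
    · have h1 : (a β : ℂ) = 1 := by rw [haγ, hβψ, irr_orthonormal hψ hψ, if_pos rfl]
      have h2 := hB β hβ
      simp only [h2, Finset.sum_const, Finset.card_univ, nsmul_eq_mul, h1, one_mul, hNcard']
      rw [← mul_assoc, inv_mul_cancel₀ hNcard, one_mul]
    · intro γ _ hγ
      rcases avg_irr N γ.2 with h | h
      · have hγm := hB' γ h
        have : (a γ : ℂ) = 0 := by
          rw [haγ, ← hβψ]; exact horth β γ hβ hγm (Ne.symm hγ)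
        rw [this, zero_mul]
      · rw [h g]; simp
    · intro h; exact absurd (Finset.mem_univ _) h
  have hzero : (∀ β : IrrCharacter G, m β ≠ 0 → (β : G → ℂ) * χ ≠ ψ) → η = 0 := by
    intro hall
    ext g
    rw [hηform g]
    apply Finset.sum_eq_zero
    intro γ _
    rcases avg_irr N γ.2 with h | h
    · have hγm := hB' γ h
      have : (a γ : ℂ) = 0 := by
        rw [haγ, irr_orthonormal hψ (hirr γ hγm), if_neg (Ne.symm (hall γ hγm))]
      rw [this, zero_mul]
    · rw [h g]; simp
  refine ⟨?_, ?_, ?_⟩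
  · intro hne
    have h1 : classInner (indFun N ϑ) ψ ≠ 0 := by
      rw [frobenius_reciprocity N ϑ hψc, classInner_conj_symm]
      intro h0
      apply hne
      simpa using h0
    rw [hInd, classInner_sum_left] at h1
    obtain ⟨β, _, hβ⟩ := Finset.exists_ne_zero_of_sum_ne_zero h1
    rw [classInner_smul_left] at hβ
    have hmβ0 : m β ≠ 0 := by
      intro h; rw [h] at hβ; simp at hβ
    have hβψ : classInner ((β : G → ℂ) * χ) ψ ≠ 0 := right_ne_zero_of_mul hβ
    have h2 := eq_of_classInner_ne_zero (hirr β hmβ0) hψ hβψ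
    rw [hmain β hmβ0 h2]
    exact β.2
  · intro h0
    apply hzero
    intro β hβ hβψ
    have h2 : (fun n : N => ψ n) = ((β : G → ℂ) 1) • ϑ := by
      ext n
      rw [← hβψ]
      simp only [Pi.mul_apply, Pi.smul_apply, smul_eq_mul, hϑ]
      congr 1
      simpa using hB β hβ n 1
    rw [h2, classInner_smul_left, irr_orthonormal hχN hχN, if_pos rfl, mul_one] at h0
    obtain ⟨d, hd0, hd⟩ := irr_one_pos β.2
    rw [hd] at h0
    have : d = 0 := by exact_mod_cast h0
    omega
  · intro hψχ
    let β1 : IrrCharacter G := ⟨fun _ => 1, isIrrCharacter_one⟩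
    have hm1 : m β1 ≠ 0 := hB' β1 (fun n g => rfl)
    have h1 : (β1 : G → ℂ) * χ = ψ := by
      rw [hψχ]; ext g; simp [β1]
    rw [hmain β1 hm1 h1]

end Cfsg.Agent.S0868
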