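import Cfsg.Statements.S0875
import Cfsg.Agent.Lib.Helper15.PiSection

set_option autoImplicit false
open Cfsg

namespace Cfsg.Agent.S0875

/-- Let G be a finite group of order m * n with m and n coprime, and g an element whose order is coprime to m. Every x in G factors uniquely as x = u * v with u, v commuting, the order of u coprime to n and the order of v coprime to m; let ϑ be the function on G equal to n at those x whose factor v is conjugate to g and equal to 0 elsewhere. Then ϑ is a linear combination of the irreducible characters of G with algebraic-integer coefficients. -/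
theorem result {G : Type*} [Group G] [Fintype G] (m n : ℕ) (hmn : Nat.card G = m * n) (hcop : Nat.Coprime m n) (g : G) (hg : Nat.Coprime (orderOf g) m) (ϑ : G → ℂ) (hϑ1 : ∀ x : G, (∃ v : G, IsConj v g ∧ (∃ u : G, x = u * v ∧ Commute u v ∧ Nat.Coprime (orderOf u) n ∧ Nat.Coprime (orderOf v) m)) → ϑ x = n) (hϑ0 : ∀ x : G, (¬ ∃ v : G, IsConj v g ∧ (∃ u : G, x = u * v ∧ Commute u v ∧ Nat.Coprime (orderOf u) n ∧ Nat.Coprime (orderOf v) m)) → ϑ x = 0) : ∃ c : Cfsg.IrrCharacter G → ℂ, (∀ χ, c χ ∈ Cfsg.AlgInt) ∧ ϑ = ∑ᶠ χ : Cfsg.IrrCharacter G, c χ • (χ : G → ℂ) := by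
  classical
  obtain ⟨k, hk0, hk1⟩ := Nat.chineseRemainder hcop 0 1
  obtain ⟨k', hk'1, hk'0⟩ := Nat.chineseRemainder hcop 1 0
  have hϑ : ϑ = Cfsg.Agent.Helper15.powIndicator n k g := by
    funext x
    have hiff := Cfsg.Agent.Helper15.section_iff_isConj_pow hmn hcop hk0 hk1 hk'1 hk'0 g x
    by_cases hx : IsConj (x ^ k) g
    · rw [hϑ1 x (hiff.2 hx), Cfsg.Agent.Helper15.powIndicator_of_pos n k g hx]
    · rw [hϑ0 x (fun h => hx (hiff.1 h)), Cfsg.Agent.Helper15.powIndicator_of_neg n k g hx]
  have hfin : Finite (IrrCharacter G) := Cfsg.Agent.Helper81.irr_finite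
  have : Fintype (IrrCharacter G) := Fintype.ofFinite _
  refine ⟨fun χ => classInner ϑ (χ : G → ℂ), ?_, ?_⟩
  · intro χ
    rw [hϑ]
    exact Cfsg.Agent.Helper15.powIndicator_classInner_mem_algInt m n k hmn hcop
      ((Nat.modEq_zero_iff_dvd).1 hk0) g _ (Cfsg.Agent.Helper81.IsIrrCharacter.isCharacter χ.2)
  · rw [finsum_eq_sum_of_fintype]
    apply Cfsg.Agent.Helper81.class_function_expansion
    rw [hϑ]
    exact Cfsg.Agent.Helper15.powIndicator_isClassFunction n k g

end Cfsg.Agent.S0875
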