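import Cfsg.Statements.S0876
import Cfsg.Agent.Lib.Helper15.PRegularCong

set_option autoImplicit false
open Cfsg

namespace Cfsg.Agent.S0876

/-- Let G be a finite group, p a prime and M a maximal ideal of the ring of algebraic integers containing p. Let x, y be elements with p-parts a and b (so a⁻¹ * x and b⁻¹ * y are their p-regular parts). Then a⁻¹ * x and b⁻¹ * y are conjugate in G if and only if, for every irreducible character χ, the difference χ x - χ y lies in the local ideal at M. -/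
theorem result {G : Type*} [Group G] [Finite G] (p : ℕ) (M : Ideal Cfsg.AlgInt) (hM : Cfsg.IsPModular p M) (x y a b : G) (ha : Cfsg.IsPPart p x a) (hb : Cfsg.IsPPart p y b) : IsConj (a⁻¹ * x) (b⁻¹ * y) ↔ ∀ χ : Cfsg.IrrCharacter G, Cfsg.MemLocalIdeal M ((χ : G → ℂ) x - (χ : G → ℂ) y) := by
  classical
  have hp : p.Prime := hM.1
  have hMtop : M ≠ ⊤ := Cfsg.Agent.Helper77.ne_top_of_isPModular hM
  have hMprime : M.IsPrime := Cfsg.Agent.Helper77.isPrime_of_isPModular hM
  have : Fintype G := Fintype.ofFinite G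
  -- congruence of `χ x` and `χ (a⁻¹ * x)`
  have hcong : ∀ (χ : G → ℂ), IsCharacter G χ → ∀ (x a : G), IsPPart p x a →
      MemLocalIdeal M (χ x - χ (a⁻¹ * x)) := by
    intro χ hχ x a ha
    obtain ⟨yx, rfl, hc, ⟨j, hj⟩, -⟩ := ha
    rw [inv_mul_cancel_left]
    apply Cfsg.Agent.Helper15.char_mul_ppart_sub hM hχ hc (k := j)
    rw [← hj]
    exact pow_orderOf_eq_one a
  constructor
  · intro hconj χ
    have hχ : IsCharacter G (χ : G → ℂ) := Cfsg.Agent.Helper81.IsIrrCharacter.isCharacter χ.2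
    have h1 := hcong χ hχ x a ha
    have h2 := hcong χ hχ y b hb
    obtain ⟨c, hc⟩ := isConj_iff.1 hconj
    have h3 : (χ : G → ℂ) (b⁻¹ * y) = (χ : G → ℂ) (a⁻¹ * x) := by
      rw [← hc]
      exact Cfsg.Agent.Helper81.isClassFunction_of_isCharacter hχ _ _
    have h4 : (χ : G → ℂ) x - (χ : G → ℂ) y
        = ((χ : G → ℂ) x - (χ : G → ℂ) (a⁻¹ * x)) - ((χ : G → ℂ) y - (χ : G → ℂ) (b⁻¹ * y)) := by
      rw [h3]; ring
    rw [h4]
    exact Cfsg.Agent.Helper77.memLocalIdeal_sub h1 h2
  · intro hall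
    by_contra hnc
    -- split the group order
    have hcard0 : Nat.card G ≠ 0 := Nat.card_pos.ne'
    set e := (Nat.card G).factorization p with he
    set n := Nat.card G / p ^ e with hn
    have hmn : Nat.card G = p ^ e * n := (Nat.ordProj_mul_ordCompl_eq_self (Nat.card G) p).symm
    have hpn : ¬ p ∣ n := Nat.not_dvd_ordCompl hp hcard0
    have hcop : Nat.Coprime (p ^ e) n :=
      Nat.Coprime.pow_left _ ((Nat.Prime.coprime_iff_not_dvd hp).2 hpn)
    obtain ⟨k, hk0, hk1⟩ := Nat.chineseRemainder hcop 0 1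
    have hk0' : p ^ e ∣ k := (Nat.modEq_zero_iff_dvd).1 hk0
    have hxk : x ^ k = a⁻¹ * x := Cfsg.Agent.Helper15.ppart_pow_eq hp hmn hpn hk0' hk1 ha
    have hyk : y ^ k = b⁻¹ * y := Cfsg.Agent.Helper15.ppart_pow_eq hp hmn hpn hk0' hk1 hb
    set ϑ := Cfsg.Agent.Helper15.powIndicator n k (a⁻¹ * x) with hϑ
    have hϑx : ϑ x = n := by
      apply Cfsg.Agent.Helper15.powIndicator_of_pos
      rw [hxk]
    have hϑy : ϑ y = 0 := by
      apply Cfsg.Agent.Helper15.powIndicator_of_neg
      rw [hyk]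
      exact fun h => hnc h.symm
    have hfin : Finite (IrrCharacter G) := Cfsg.Agent.Helper81.irr_finite
    have : Fintype (IrrCharacter G) := Fintype.ofFinite _
    have hexp := Cfsg.Agent.Helper81.class_function_expansion
      (Cfsg.Agent.Helper15.powIndicator_isClassFunction n k (a⁻¹ * x))
    have hx := congrFun hexp x
    have hy := congrFun hexp y
    simp only [Finset.sum_apply, Pi.smul_apply, smul_eq_mul] at hx hy
    have hdiff : (n : ℂ) = ∑ χ : IrrCharacter G,
        classInner ϑ (χ : G → ℂ) * ((χ : G → ℂ) x - (χ : G → ℂ) y) := by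
      have : (n : ℂ) = ϑ x - ϑ y := by rw [hϑx, hϑy, sub_zero]
      rw [this, hϑ, hx, hy, ← Finset.sum_sub_distrib]
      apply Finset.sum_congr rfl
      intro χ _
      ring
    have hmem : MemLocalIdeal M (n : ℂ) := by
      rw [hdiff]
      apply Cfsg.Agent.Helper77.memLocalIdeal_sum
      intro χ _
      apply Cfsg.Agent.Helper77.memLocalIdeal_mul_left _ (hall χ)
      have hint : classInner ϑ (χ : G → ℂ) ∈ AlgInt :=
        Cfsg.Agent.Helper15.powIndicator_classInner_mem_algInt (p ^ e) n k hmn hcop hk0' _ _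
          (Cfsg.Agent.Helper81.IsIrrCharacter.isCharacter χ.2)
      exact Cfsg.Agent.Helper77.memLocalRing_algInt hMtop ⟨_, hint⟩
    exact hpn ((Cfsg.Agent.Helper77.memLocalIdeal_natCast_iff hM n).1 hmem)

end Cfsg.Agent.S0876
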