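import Cfsg.Statements.S0880
import Cfsg.Agent.Lib.Helper77.CentralChar

set_option autoImplicit false
open Cfsg

namespace Cfsg.Agent.S0880

/-- Let G be a finite simple Zassenhaus group on Ω with n points whose two-point stabilizer E has odd order less than n - 2. Then there are two elements of G, each fixing no point of Ω, that are not conjugate. -/
theorem result {G Ω : Type*} [Group G] [Finite G] [MulAction G Ω] [Fintype Ω] (hZ : Cfsg.IsZassenhausGroup G Ω) {a b : Ω} (hab : a ≠ b) [IsSimpleGroup G] (hodd : Odd (Nat.card ↥(MulAction.stabilizer G a ⊓ MulAction.stabilizer G b : Subgroup G))) (hlt : Nat.card ↥(MulAction.stabilizer G a ⊓ MulAction.stabilizer G b : Subgroup G) < Fintype.card Ω - 2) : ∃ x y : G, (∀ c : Ω, x • c ≠ c) ∧ (∀ c : Ω, y • c ≠ c) ∧ ¬ IsConj x y := by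
  classical
  obtain ⟨hfaith, h2t, h3, ⟨g₀, hg₀, c₀, d₀, hcd₀, hg₀c, hg₀d⟩, -⟩ := hZ
  have : Fintype G := Fintype.ofFinite G
  have h2t' : ∀ {a b c d : Ω}, a ≠ b → c ≠ d → ∃ g : G, g • a = c ∧ g • b = d :=
    MulAction.is_two_pretransitive_iff.mp h2t
  have : MulAction.IsPretransitive G Ω := MulAction.isPretransitive_of_is_two_pretransitive
  set n := Fintype.card Ω with hn
  set e := Nat.card ↥(MulAction.stabilizer G a ⊓ MulAction.stabilizer G b : Subgroup G) with he
  have hepos : 0 < e := Nat.card_pos
  have hn4 : 4 ≤ n := by omega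
  -- all two-point stabilisers have the same order
  have hstab2 : ∀ c d : Ω, c ≠ d →
      Nat.card ↥(MulAction.stabilizer G c ⊓ MulAction.stabilizer G d : Subgroup G) = e := by
    intro c d hcd
    obtain ⟨g, hgc, hgd⟩ := h2t' hab hcd
    rw [← hgc, ← hgd, MulAction.stabilizer_smul_eq_stabilizer_map_conj,
      MulAction.stabilizer_smul_eq_stabilizer_map_conj,
      ← Subgroup.map_inf _ _ _ (MulAut.conj g).injective]
    exact Subgroup.card_map_of_injective (MulAut.conj g).injective
  -- the order of `G`
  have hG : Nat.card G = (n * n - n) * e := by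
    have h1 := MulAction.card_orbit_mul_card_stabilizer_eq_card_group G ((a, b) : Ω × Ω)
    have h2 : MulAction.stabilizer G ((a, b) : Ω × Ω)
        = MulAction.stabilizer G a ⊓ MulAction.stabilizer G b := by
      ext g
      simp [MulAction.mem_stabilizer_iff, Prod.ext_iff]
    have h3' : Fintype.card ↑(MulAction.orbit G ((a, b) : Ω × Ω)) = n * n - n := by
      have : MulAction.orbit G ((a, b) : Ω × Ω) = ((Finset.univ : Finset Ω).offDiag : Set (Ω × Ω)) := by
        ext ⟨c, d⟩
        simp only [Finset.coe_offDiag, Finset.coe_univ]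
        constructor
        · rintro ⟨g, hg⟩
          simp only [Prod.smul_mk, Prod.mk.injEq] at hg
          refine ⟨Set.mem_univ _, Set.mem_univ _, ?_⟩
          change c ≠ d
          rw [← hg.1, ← hg.2]
          exact fun h => hab (MulAction.injective g h)
        · rintro ⟨-, -, hcd⟩
          obtain ⟨g, hgc, hgd⟩ := h2t' hab hcd
          exact ⟨g, by simp [hgc, hgd]⟩
      rw [← Nat.card_eq_fintype_card, this, Nat.card_coe_set_eq, Set.ncard_coe_finset,
        Finset.offDiag_card, Finset.card_univ]
    rw [Nat.card_eq_fintype_card, ← h1, h3', ← Nat.card_eq_fintype_card]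
    simp only [h2]
    rfl
  -- number of fixed points
  set f : G → ℕ := fun g => (Finset.univ.filter (fun c : Ω => g • c = c)).card with hf
  have hf1 : f 1 = n := by simp [hf, hn]
  have hfle : ∀ g : G, g ≠ 1 → f g ≤ 2 := by
    intro g hg
    by_contra hlt2
    push Not at hlt2
    obtain ⟨x, hx, y, hy, z, hz, hxy, hxz, hyz⟩ := Finset.two_lt_card.mp hlt2
    simp only [Finset.mem_filter, Finset.mem_univ, true_and] at hx hy hz
    exact hg (h3 g x y z hxy hyz hxz hx hy hz)
  -- first count
  have hI1 : ∑ g : G, f g = Nat.card G := by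
    have h1 : ∀ g : G, f g = ∑ c : Ω, if g • c = c then 1 else 0 := fun g => Finset.card_filter _ _
    simp only [h1]
    rw [Finset.sum_comm]
    have h2 : ∀ c : Ω, ∑ g : G, (if g • c = c then 1 else 0)
        = Nat.card ↥(MulAction.stabilizer G c) := by
      intro c
      rw [← Finset.card_filter, Nat.card_eq_fintype_card, Fintype.card_subtype]
      rfl
    simp only [h2]
    have h4 : ∀ c : Ω, n * Nat.card ↥(MulAction.stabilizer G c) = Nat.card G := by
      intro c
      have h5 := MulAction.card_orbit_mul_card_stabilizer_eq_card_group G c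
      have h6 : Fintype.card ↑(MulAction.orbit G c) = n := by
        rw [← Nat.card_eq_fintype_card, MulAction.orbit_eq_univ, Nat.card_eq_fintype_card]
        simp [hn]
      rw [h6] at h5
      rw [Nat.card_eq_fintype_card, Nat.card_eq_fintype_card]
      exact h5
    have h7 : n * ∑ c : Ω, Nat.card ↥(MulAction.stabilizer G c) = n * Nat.card G := by
      rw [Finset.mul_sum, Finset.sum_congr rfl fun c _ => h4 c, Finset.sum_const,
        Finset.card_univ, smul_eq_mul]
    exact Nat.eq_of_mul_eq_mul_left (by omega) h7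
  -- second count
  have hI2 : ∑ g : G, (f g * f g - f g) = Nat.card G := by
    have h1 : ∀ g : G, f g * f g - f g
        = ∑ q ∈ (Finset.univ : Finset Ω).offDiag, if g • q.1 = q.1 ∧ g • q.2 = q.2 then 1 else 0 := by
      intro g
      rw [← Finset.offDiag_card, ← Finset.card_filter]
      congr 1
      ext ⟨c, d⟩
      simp only [Finset.mem_offDiag, Finset.mem_filter, Finset.mem_univ, true_and]
      tauto
    simp only [h1]
    rw [Finset.sum_comm]
    have h2 : ∀ q ∈ (Finset.univ : Finset Ω).offDiag,
        ∑ g : G, (if g • q.1 = q.1 ∧ g • q.2 = q.2 then 1 else 0) = e := by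
      intro q hq
      rw [Finset.mem_offDiag] at hq
      rw [← hstab2 q.1 q.2 hq.2.2, ← Finset.card_filter, Nat.card_eq_fintype_card,
        Fintype.card_subtype]
      congr 1
      ext g
      simp [Subgroup.mem_inf, MulAction.mem_stabilizer_iff]
    rw [Finset.sum_congr rfl h2, Finset.sum_const, Finset.offDiag_card, Finset.card_univ,
      smul_eq_mul, hG]
  -- the fixed-point-free elements
  set F0 : Finset G := Finset.univ.filter (fun g => f g = 0) with hF0
  have hfpf : ∀ g : G, (∀ c : Ω, g • c ≠ c) ↔ g ∈ F0 := by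
    intro g
    rw [hF0, Finset.mem_filter]
    simp only [hf, Finset.mem_univ, true_and, Finset.card_eq_zero]
    rw [Finset.filter_eq_empty_iff]
    exact ⟨fun h c _ => h c, fun h c => h (Finset.mem_univ c)⟩
  -- the key identity in `ℤ`
  have hkey : (2 * F0.card : ℤ) + ((n : ℤ) - 1) * ((n : ℤ) - 2) = (Nat.card G : ℤ) := by
    have h1 : ∑ g : G, (((f g : ℤ) - 1) * ((f g : ℤ) - 2)) = (Nat.card G : ℤ) := by
      have h2 : ∀ g : G, ((f g : ℤ) - 1) * ((f g : ℤ) - 2)
          = ((f g * f g - f g : ℕ) : ℤ) - 2 * (f g : ℤ) + 2 := by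
        intro g
        have : f g ≤ f g * f g := Nat.le_mul_self (f g)
        rw [Nat.cast_sub this]
        push_cast
        ring
      simp only [h2]
      rw [Finset.sum_add_distrib, Finset.sum_sub_distrib, ← Nat.cast_sum, hI2, ← Finset.mul_sum,
        ← Nat.cast_sum, hI1, Finset.sum_const, Finset.card_univ, ← Nat.card_eq_fintype_card]
      simp only [nsmul_eq_mul]
      ring
    rw [← h1, ← Finset.add_sum_erase Finset.univ _ (Finset.mem_univ (1 : G)), hf1]
    have h3' : ∑ g ∈ Finset.univ.erase (1 : G), (((f g : ℤ) - 1) * ((f g : ℤ) - 2))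
        = ∑ g ∈ Finset.univ.erase (1 : G), (if f g = 0 then (2 : ℤ) else 0) := by
      refine Finset.sum_congr rfl fun g hg => ?_
      have hg1 : g ≠ 1 := Finset.ne_of_mem_erase hg
      have := hfle g hg1
      interval_cases h : f g <;> simp
    rw [h3', ← Finset.sum_filter, Finset.sum_const]
    have h4 : (Finset.univ.erase (1 : G)).filter (fun g => f g = 0) = F0 := by
      ext g
      simp only [Finset.mem_filter, Finset.mem_erase, Finset.mem_univ, and_true, hF0, true_and]
      constructor
      · exact fun h => h.2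
      · intro h
        refine ⟨?_, h⟩
        rintro rfl
        rw [hf1] at h
        omega
    rw [h4]
    simp only [nsmul_eq_mul]
    ring
  by_contra hcon
  push Not at hcon
  -- `F0` is nonempty
  have hGn : (Nat.card G : ℤ) = ((n : ℤ) * n - n) * e := by
    rw [hG]
    have : n ≤ n * n := Nat.le_mul_self n
    push_cast [Nat.cast_sub this]
    ring
  have hF0pos : 0 < F0.card := by
    by_contra h0
    have h0' : F0.card = 0 := by omega
    rw [h0', hGn] at hkey
    simp only [Nat.cast_zero, mul_zero, zero_add] at hkey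
    have h1 : (1 : ℤ) ≤ e := by exact_mod_cast hepos
    have h2 : (4 : ℤ) ≤ n := by exact_mod_cast hn4
    have h3' : 0 ≤ ((n : ℤ) * n - n) * ((e : ℤ) - 1) := by
      apply mul_nonneg <;> nlinarith
    nlinarith
  obtain ⟨x, hx⟩ := Finset.card_pos.mp hF0pos
  -- `F0` is the conjugacy class of `x`
  have hcls : F0.card = (Subgroup.centralizer ({x} : Set G)).index := by
    rw [← Cfsg.Agent.Helper77.card_isConj_eq_index x, Nat.card_eq_fintype_card,
      Fintype.card_subtype]
    congr 1
    ext y
    simp only [Finset.mem_filter, Finset.mem_univ, true_and]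
    constructor
    · intro hy
      exact hcon x y ((hfpf x).mpr hx) ((hfpf y).mpr hy)
    · intro hxy
      rw [← hfpf]
      obtain ⟨g, hg⟩ := isConj_iff.mp hxy
      intro c hc
      have hx' := (hfpf x).mpr hx
      apply hx' (g⁻¹ • c)
      rw [← hg] at hc
      calc x • g⁻¹ • c = g⁻¹ • ((g * x * g⁻¹) • c) := by simp only [mul_smul, inv_smul_smul]
        _ = g⁻¹ • c := by rw [hc]
  have hdvd : F0.card ∣ Nat.card G := by
    rw [hcls]
    exact Subgroup.index_dvd_card _
  -- arithmetic contradiction
  have hdvd' : (F0.card : ℤ) ∣ ((n : ℤ) - 1) * ((n : ℤ) - 2) := by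
    have h1 : (F0.card : ℤ) ∣ (Nat.card G : ℤ) := by exact_mod_cast hdvd
    rw [← hkey] at h1
    have h2 : (F0.card : ℤ) ∣ 2 * (F0.card : ℤ) := Dvd.intro_left _ rfl
    exact (Int.dvd_add_right h2).mp h1
  have hn4' : (4 : ℤ) ≤ n := by exact_mod_cast hn4
  have hpos2 : 0 < ((n : ℤ) - 1) * ((n : ℤ) - 2) := by nlinarith
  have hle : (F0.card : ℤ) ≤ ((n : ℤ) - 1) * ((n : ℤ) - 2) := Int.le_of_dvd hpos2 hdvd'
  have he3 : (e : ℤ) < 3 := by
    by_contra h3e
    push Not at h3e
    rw [hGn] at hkey
    nlinarith
  have he1 : e = 1 := by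
    obtain ⟨k, hk⟩ := hodd
    have : e < 3 := by exact_mod_cast he3
    omega
  -- but some non-identity element fixes two points
  have h1 := hstab2 c₀ d₀ hcd₀
  rw [he1] at h1
  have h2 : (MulAction.stabilizer G c₀ ⊓ MulAction.stabilizer G d₀ : Subgroup G) = ⊥ :=
    Subgroup.eq_bot_of_card_eq _ h1
  have h3' : g₀ ∈ (MulAction.stabilizer G c₀ ⊓ MulAction.stabilizer G d₀ : Subgroup G) :=
    ⟨hg₀c, hg₀d⟩
  rw [h2, Subgroup.mem_bot] at h3'
  exact hg₀ h3'

end Cfsg.Agent.S0880
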