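import Cfsg.Statements.S0882
import Cfsg.Agent.Lib.Helper19.ZassInvol

set_option autoImplicit false
open Cfsg

namespace Cfsg.Agent.S0882

/-- Let G be a finite simple Zassenhaus group on Ω with n = h + 1 points whose two-point stabilizer E has odd order e with 2e < h - 1. Then any two involutions of G are conjugate, and the number of involutions is e * (h + 1) if h is even and e * h if h is odd. -/
theorem result {G Ω : Type*} [Group G] [Finite G] [MulAction G Ω] [Fintype Ω] (hZ : Cfsg.IsZassenhausGroup G Ω) {a b : Ω} (hab : a ≠ b) [IsSimpleGroup G] (h e : ℕ) (hh : Fintype.card Ω = h + 1) (he : Nat.card ↥(MulAction.stabilizer G a ⊓ MulAction.stabilizer G b : Subgroup G) = e) (hodd : Odd e) (hlt : 2 * e < h - 1) : (∀ x y : G, orderOf x = 2 → orderOf y = 2 → IsConj x y) ∧ Nat.card {x : G // orderOf x = 2} = (if Even h then e * (h + 1) else e * h) := by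
  have hcard : ∀ c d : Ω, c ≠ d →
      Nat.card ↥(MulAction.stabilizer G c ⊓ MulAction.stabilizer G d) = e := fun c d hcd =>
    (Cfsg.Agent.Helper19.ZassH.card_stab_inf_eq hZ.2.1 hab hcd).trans he
  have hodd' : ∀ c d : Ω, c ≠ d →
      Odd (Nat.card ↥(MulAction.stabilizer G c ⊓ MulAction.stabilizer G d)) :=
    fun c d hcd => by rw [hcard c d hcd]; exact hodd
  have hnil : ∀ c d : Ω, c ≠ d → ∀ q : ℕ, q.Prime →
      q ∣ Nat.card ↥(MulAction.stabilizer G c ⊓ MulAction.stabilizer G d) →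
      ¬ ∃ N : Subgroup G, N.Normal ∧ N.index = q ^ (Nat.card G).factorization q :=
    fun c d hcd => Cfsg.Agent.Helper19.ZassInvol.hnil_of_simple hZ hcd (hodd' c d hcd)
  refine ⟨?_, Cfsg.Agent.Helper19.ZassInvol.card_involutions hZ hh hcard hodd hnil⟩
  intro x y hx hy
  obtain ⟨g₁, h1a, h1b⟩ := Cfsg.Agent.Helper19.ZassInvol.exists_conj_swap hZ hab hx
  obtain ⟨g₂, h2a, h2b⟩ := Cfsg.Agent.Helper19.ZassInvol.exists_conj_swap hZ hab hy
  obtain ⟨d, hd⟩ := Cfsg.Agent.Helper19.ZassInvol.swap_conj hZ hab (hodd' a b hab)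
    (hnil a b hab) h1a h1b h2a h2b
  rw [isConj_iff]
  refine ⟨g₂⁻¹ * d * g₁, ?_⟩
  have e1 : g₂⁻¹ * d * g₁ * x * (g₂⁻¹ * d * g₁)⁻¹ =
      g₂⁻¹ * (d * (g₁ * x * g₁⁻¹) * d⁻¹) * g₂ := by group
  rw [e1, hd]
  group

end Cfsg.Agent.S0882
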