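import Cfsg.Statements.S0889
import Cfsg.Agent.Lib.Helper3.BergerF

set_option autoImplicit false
set_option linter.unusedSectionVars false
set_option linter.style.haveILetI false
open Cfsg

namespace Cfsg.Agent.S0889

open Cfsg.Agent.H3Berger Cfsg.Agent.Helper81 Cfsg.Agent.Helper79
open scoped ComplexConjugate

universe u

/-- Berger's theorem, by induction on the degree. -/
theorem berger_all : ∀ n : ℕ, BergerP.{u} n := by
  intro n
  induction n using Nat.strong_induction_on with
  | _ n IH =>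
    intro G _ _ _ χ hχ hχ1 hqp K₁ hK₁ ψ hψ hind
    classical
    -- reduce to a maximal subgroup and an irreducible character
    obtain ⟨H, hmax, hK₁H⟩ := (eq_top_or_exists_le_coatom K₁).resolve_left hK₁
    haveI : Fintype H := Fintype.ofFinite _
    set ψ' : (K₁.subgroupOf H) → ℂ :=
      fun x => ψ ⟨((x : H) : G), Subgroup.mem_subgroupOf.mp x.2⟩ with hψ'
    have hψ'c : IsCharacter (K₁.subgroupOf H) ψ' :=
      isCharacter_comp_hom (Subgroup.subgroupOfEquivOfLe hK₁H).toMonoidHom hψ
    set ϑ : H → ℂ := indFun (K₁.subgroupOf H) ψ' with hϑdef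
    have hϑc : IsCharacter H ϑ := isCharacter_indFun _ hψ'c
    have hindϑ : indFun H ϑ = χ := by
      rw [hϑdef, hψ', indFun_trans K₁ H hK₁H ψ, hind]
    have hϑ : IsIrrCharacter H ϑ := irr_of_indFun_irr H hϑc (hindϑ ▸ hχ)
    -- the core and a chief factor
    have hCH : H.normalCore ≤ H := Subgroup.normalCore_le H
    have hCtop : H.normalCore ≠ ⊤ := fun h => hmax.1 (top_unique (h ▸ hCH))
    have hsolvC : Group.IsSolvable (G ⧸ H.normalCore) := inferInstance
    obtain ⟨K, hKn, hCK, habK, hchiefK⟩ :=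
      Cfsg.Agent.S0858.exists_chief H.normalCore hCtop hsolvC
    haveI := hKn
    have hKH : ¬ K ≤ H := fun h => hCK.not_ge (Subgroup.normal_le_normalCore.mpr h)
    obtain ⟨hsupK, hinfK⟩ := Cfsg.Agent.Helper3.qp_inf_eq_core H K hKH hmax habK hCK.le
    obtain ⟨φ, eC, hφ, hresC⟩ := hqp H.normalCore inferInstance
    obtain ⟨d, ρφ, hρφ, rfl⟩ := hφ
    haveI := hρφ
    have hd0 : 0 < d := degree_pos_of_irreducible' ρφ
    by_cases hd : d = 1
    · subst hd
      have hφ1 : ρφ.character 1 = 1 := by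
        rw [Representation.char_one, Module.finrank_fin_fun]; simp
      exact caseB n IH hχ hχ1 hqp H hmax ϑ hϑ hindϑ K hCK hsupK hinfK hchiefK ρφ.character
        ⟨1, ρφ, hρφ, rfl⟩ hφ1 eC hresC
    · have hd2 : 2 ≤ d := by omega
      exact caseA n IH hχ hχ1 hqp H hmax.1 ϑ hϑ hindϑ H.normalCore hCH ρφ hd2 eC hresC

/-- Let G be a finite solvable group and χ an irreducible character of G such that for every normal subgroup N the restriction of χ to N is a natural-number multiple of one irreducible character of N. Then χ is not induced from a character of any proper subgroup. -/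
theorem result {G : Type*} [Group G] [Fintype G] [Group.IsSolvable G] (χ : G → ℂ) (hχ : Cfsg.IsIrrCharacter G χ) (hqp : ∀ (N : Subgroup G), N.Normal → ∃ (ϑ : N → ℂ) (e : ℕ), Cfsg.IsIrrCharacter N ϑ ∧ (fun n : N => χ n) = (e : ℂ) • ϑ) (K : Subgroup G) (hK : K ≠ ⊤) (ψ : K → ℂ) (hψ : Cfsg.IsCharacter K ψ) : Cfsg.indFun K ψ ≠ χ := by
  obtain ⟨n, ρ, hρ, hρχ⟩ := hχ
  have h1 : χ 1 = (n : ℂ) := by
    rw [← hρχ, Representation.char_one, Module.finrank_fin_fun]
  exact berger_all n G χ ⟨n, ρ, hρ, hρχ⟩ h1 hqp K hK ψ hψ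

end Cfsg.Agent.S0889
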