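import Cfsg.Statements.S0892
import Cfsg.Agent.Lib.Helper59.MultAltC

set_option autoImplicit false
open Cfsg

namespace Cfsg.Agent.S0892

/-- Let n ≥ 4 with n ≠ 6 and n ≠ 7, and let Γ be a finite group with a subgroup Z contained in both the centre and the commutator subgroup of Γ such that Γ / Z is isomorphic to the alternating group on n letters. Then Z has order at most 2. -/
theorem result (n : ℕ) (hn : 4 ≤ n) (h6 : n ≠ 6) (h7 : n ≠ 7) {Γ : Type*} [Group Γ] [Finite Γ] (Z : Subgroup Γ) [Z.Normal] (hZc : Z ≤ Subgroup.center Γ) (hZd : Z ≤ commutator Γ) (e : Γ ⧸ Z ≃* alternatingGroup (Fin n)) : Nat.card Z ≤ 2 := by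
  obtain ⟨k, rfl⟩ : ∃ k, n = k + 1 + 1 := ⟨n - 2, by omega⟩
  have hk : k = 2 ∨ k = 3 ∨ 6 ≤ k := by omega
  obtain ⟨cs, hcs⟩ := Cfsg.Agent.S2530.result (k + 1)
  obtain ⟨eA⟩ := Cfsg.Agent.Helper59.AltPres.nonempty_equiv k cs hcs
  let τ : Γ →* alternatingGroup (Fin (k + 1 + 1)) := e.toMonoidHom.comp (QuotientGroup.mk' Z)
  have hker : τ.ker = Z := by
    ext g
    rw [MonoidHom.mem_ker]
    show e (QuotientGroup.mk' Z g) = 1 ↔ g ∈ Z
    rw [← e.map_one, e.injective.eq_iff]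
    exact QuotientGroup.eq_one_iff g
  have hsurj : Function.Surjective τ := e.surjective.comp (QuotientGroup.mk'_surjective Z)
  have hτ : Cfsg.IsStemExtension τ :=
    ⟨hsurj, by rw [hker]; exact hZc, by rw [hker]; exact hZd⟩
  obtain ⟨f, hf⟩ := Cfsg.Agent.Helper65.exists_mult_surj
    (Cfsg.Agent.Helper59.MultAlt.pmap k eA) (Cfsg.Agent.Helper59.MultAlt.pmap_surjective k eA) τ hτ
  have h1 : Nat.card τ.ker ≤ Nat.card (Cfsg.Agent.Helper65.mult (Cfsg.Agent.Helper59.MultAlt.pmap k eA)) :=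
    Nat.card_le_card_of_surjective f hf
  have h2 : Nat.card Z = Nat.card τ.ker := by rw [hker]
  rw [h2]
  exact h1.trans (Cfsg.Agent.Helper59.MultAlt.card_mult_le_two k eA hk)

end Cfsg.Agent.S0892
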