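import Cfsg.Statements.S0893
import Mathlib
import Cfsg.Agent.Lib.Helper15.LinearChar
import Cfsg.Agent.Lib.Helper15.NormOne

set_option autoImplicit false
open Cfsg
open scoped ComplexConjugate

namespace Cfsg.Agent.S0893

open Cfsg.Agent.Helper15 Cfsg.Agent.Helper81

/-- Let P be an extraspecial p-group of order p ^ (2 * n + 1), A an abelian subgroup of order p ^ (n + 1), and λ a character of A of degree 1 that is not identically 1 on the elements of A lying in the centre of P. Then the function induced from λ to P is an irreducible character of P and vanishes at every element outside the centre. -/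
theorem result {P : Type*} [Group P] [Fintype P] (p n : ℕ) [Fact p.Prime] (hP : Cfsg.IsExtraspecial p P) (hcard : Nat.card P = p ^ (2 * n + 1)) (A : Subgroup P) (hab : ∀ a ∈ A, ∀ b ∈ A, a * b = b * a) (hA : Nat.card A = p ^ (n + 1)) (lam : A → ℂ) (hlam : Cfsg.IsCharacter A lam ∧ lam 1 = 1) (hZ : ∃ a : A, (a : P) ∈ Subgroup.center P ∧ lam a ≠ 1) : Cfsg.IsIrrCharacter P (Cfsg.indFun A lam) ∧ ∀ x : P, x ∉ Subgroup.center P → Cfsg.indFun A lam x = 0 := by
  classical
  obtain ⟨⟨hPp, -, hcomm⟩, hZcard⟩ := hP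
  obtain ⟨a₀, ha₀Z, ha₀⟩ := hZ
  have hp : p.Prime := Fact.out
  set Z := Subgroup.center P with hZdef
  have : Fintype A := Fintype.ofFinite A
  have : Fintype Z := Fintype.ofFinite Z
  -- a₀ generates Z
  have ha₀1 : (a₀ : P) ≠ 1 := by
    intro h
    apply ha₀
    have : a₀ = 1 := Subtype.ext h
    rw [this]; exact hlam.2
  have hgen : ∀ z : Z, z ≠ 1 → Subgroup.zpowers z = ⊤ := fun z hz =>
    zpowers_eq_top_of_prime_card hZcard hz
  -- Z ≤ A
  have hZA : Z ≤ A := by
    intro z hz
    have h1 := hgen ⟨a₀, ha₀Z⟩ (fun h => ha₀1 (congrArg Subtype.val h))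
    have h2 : (⟨z, hz⟩ : Z) ∈ Subgroup.zpowers (⟨a₀, ha₀Z⟩ : Z) := by rw [h1]; exact Subgroup.mem_top _
    obtain ⟨k, hk⟩ := Subgroup.mem_zpowers_iff.mp h2
    have h3 : (a₀ : P) ^ k = z := by
      have := congrArg Subtype.val hk
      simpa using this
    rw [← h3]
    exact A.zpow_mem a₀.2 k
  -- lam nontrivial on nonidentity elements of Z
  have hlamZ : ∀ z : P, ∀ hz : z ∈ Z, z ≠ 1 → lam ⟨z, hZA hz⟩ ≠ 1 := by
    intro z hz hz1 hl
    have h1 := hgen ⟨z, hz⟩ (fun h => hz1 (congrArg Subtype.val h))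
    have h2 : (⟨a₀, ha₀Z⟩ : Z) ∈ Subgroup.zpowers (⟨z, hz⟩ : Z) := by rw [h1]; exact Subgroup.mem_top _
    obtain ⟨k, hk⟩ := Subgroup.mem_zpowers_iff.mp h2
    have h3 : (⟨z, hZA hz⟩ : A) ^ k = a₀ := by
      apply Subtype.ext
      have := congrArg Subtype.val hk
      simpa using this
    apply ha₀
    rw [← h3]
    have : (linearCharHom lam hlam) ((⟨z, hZA hz⟩ : A) ^ k) = (linearCharHom lam hlam ⟨z, hZA hz⟩) ^ k :=
      map_zpow (linearCharHom lam hlam) _ k
    have h4 : lam ((⟨z, hZA hz⟩ : A) ^ k) = (lam ⟨z, hZA hz⟩) ^ k := this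
    rw [h4, hl, one_zpow]
  -- the shift formula
  have hext : ∀ (y z : P) (hz : z ∈ Z), extendByZero A lam (y * z) =
      extendByZero A lam y * lam ⟨z, hZA hz⟩ := by
    intro y z hz
    by_cases hy : y ∈ A
    · rw [extendByZero_apply_mem A lam hy, extendByZero_apply_mem A lam (A.mul_mem hy (hZA hz))]
      exact linear_char_mul lam hlam ⟨y, hy⟩ ⟨z, hZA hz⟩
    · have hyz : y * z ∉ A := fun h => hy (by
        have := A.mul_mem h (A.inv_mem (hZA hz))
        simpa using this)
      rw [extendByZero_apply_not_mem A lam hy, extendByZero_apply_not_mem A lam hyz, zero_mul]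
  have hshift : ∀ (g z : P) (hz : z ∈ Z), indFun A lam (g * z) = lam ⟨z, hZA hz⟩ * indFun A lam g := by
    intro g z hz
    rw [indFun_apply, indFun_apply]
    have : ∀ x : P, extendByZero A lam (x⁻¹ * (g * z) * x) =
        extendByZero A lam (x⁻¹ * g * x) * lam ⟨z, hZA hz⟩ := by
      intro x
      have hzx : z * x = x * z := (Subgroup.mem_center_iff.mp hz x).symm
      have : x⁻¹ * (g * z) * x = (x⁻¹ * g * x) * z := by
        rw [mul_assoc, mul_assoc, hzx]; group
      rw [this, hext _ _ hz]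
    simp only [this]
    rw [← Finset.sum_mul]
    ring
  -- vanishing off the centre
  have hvanish : ∀ x : P, x ∉ Z → indFun A lam x = 0 := by
    intro x hx
    have : ∃ y : P, y * x ≠ x * y := by
      by_contra hcon
      push Not at hcon
      exact hx (Subgroup.mem_center_iff.mpr hcon)
    obtain ⟨y, hy⟩ := this
    set c := x⁻¹ * y⁻¹ * x * y with hc
    have hcZ : c ∈ Z := by
      have h' : c ∈ commutator P := by
        have := Subgroup.commutator_mem_commutator (Subgroup.mem_top x⁻¹) (Subgroup.mem_top y⁻¹)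
        rw [commutatorElement_def] at this
        simpa [commutator, hc] using this
      rw [hcomm] at h'
      exact h'
    have hc1 : c ≠ 1 := by
      intro h
      apply hy
      have : x⁻¹ * y⁻¹ * x * y = 1 := h
      calc y * x = y * x * (x⁻¹ * y⁻¹ * x * y) := by rw [this, mul_one]
        _ = x * y := by group
    have hcl := indFun_isClassFunction A lam x y⁻¹
    rw [inv_inv] at hcl
    have hxc : y⁻¹ * x * y = x * c := by rw [hc]; group
    rw [hxc, hshift x c hcZ] at hcl
    have hne := hlamZ c hcZ hc1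
    have : (lam ⟨c, hZA hcZ⟩ - 1) * indFun A lam x = 0 := by rw [sub_mul, hcl, one_mul, sub_self]
    rcases mul_eq_zero.mp this with h | h
    · exact absurd (sub_eq_zero.mp h) hne
    · exact h
  refine ⟨?_, hvanish⟩
  -- values on the centre
  have hPpos : (Nat.card P : ℂ) ≠ 0 := by
    have : 0 < Nat.card P := Nat.card_pos
    exact_mod_cast this.ne'
  have hApos : (Nat.card A : ℂ) ≠ 0 := by
    have : 0 < Nat.card A := Nat.card_pos
    exact_mod_cast this.ne'
  have hval : ∀ (z : P) (hz : z ∈ Z), indFun A lam z =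
      (Nat.card A : ℂ)⁻¹ * (Nat.card P : ℂ) * lam ⟨z, hZA hz⟩ := by
    intro z hz
    rw [indFun_apply]
    have : ∀ x : P, extendByZero A lam (x⁻¹ * z * x) = lam ⟨z, hZA hz⟩ := by
      intro x
      have hzx : z * x = x * z := (Subgroup.mem_center_iff.mp hz x).symm
      have : x⁻¹ * z * x = z := by rw [mul_assoc, hzx]; group
      rw [this, extendByZero_apply_mem A lam (hZA hz)]
    simp only [this]
    rw [Finset.sum_const, Finset.card_univ, nsmul_eq_mul, Nat.card_eq_fintype_card (α := P)]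
    ring
  have hnorm1 : ∀ (z : P) (hz : z ∈ Z), lam ⟨z, hZA hz⟩ * conj (lam ⟨z, hZA hz⟩) = 1 := by
    intro z hz
    have hzp : z ^ p = 1 := by
      have : (⟨z, hz⟩ : Z) ^ p = 1 := by
        rw [← hZcard]; exact pow_card_eq_one'
      have := congrArg Subtype.val this
      simpa using this
    have h1 : (lam ⟨z, hZA hz⟩) ^ p = 1 := by
      have : (linearCharHom lam hlam) ((⟨z, hZA hz⟩ : A) ^ p) = (linearCharHom lam hlam ⟨z, hZA hz⟩) ^ p :=
        map_pow (linearCharHom lam hlam) _ p
      have h4 : lam ((⟨z, hZA hz⟩ : A) ^ p) = (lam ⟨z, hZA hz⟩) ^ p := this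
      rw [← h4]
      have : (⟨z, hZA hz⟩ : A) ^ p = 1 := Subtype.ext (by simpa using hzp)
      rw [this]; exact hlam.2
    have h2 : ‖lam ⟨z, hZA hz⟩‖ = 1 := Complex.norm_eq_one_of_pow_eq_one h1 hp.ne_zero
    rw [Complex.mul_conj, Complex.normSq_eq_norm_sq, h2]
    simp
  -- the norm
  have hchar : IsCharacter P (indFun A lam) := isCharacter_indFun A hlam.1
  apply isIrrCharacter_of_classInner_eq_one hchar
  rw [classInner]
  have hsum : ∑ g : P, indFun A lam g * conj (indFun A lam g) =
      (p : ℂ) * ((Nat.card A : ℂ)⁻¹ * (Nat.card P : ℂ)) ^ 2 := by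
    have h1 : ∑ g : P, indFun A lam g * conj (indFun A lam g) =
        ∑ g ∈ Finset.univ.filter (fun g : P => g ∈ Z), indFun A lam g * conj (indFun A lam g) := by
      symm
      apply Finset.sum_subset (Finset.filter_subset _ _)
      intro g _ hg
      rw [Finset.mem_filter] at hg
      push Not at hg
      rw [hvanish g (hg (Finset.mem_univ g)), zero_mul]
    rw [h1]
    have h2 : ∀ g ∈ Finset.univ.filter (fun g : P => g ∈ Z), indFun A lam g * conj (indFun A lam g) =
        ((Nat.card A : ℂ)⁻¹ * (Nat.card P : ℂ)) ^ 2 := by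
      intro g hg
      have hgZ : g ∈ Z := (Finset.mem_filter.mp hg).2
      rw [hval g hgZ, map_mul, map_mul, map_inv₀, Complex.conj_natCast, Complex.conj_natCast]
      have := hnorm1 g hgZ
      calc (Nat.card A : ℂ)⁻¹ * (Nat.card P : ℂ) * lam ⟨g, hZA hgZ⟩ *
            ((Nat.card A : ℂ)⁻¹ * (Nat.card P : ℂ) * conj (lam ⟨g, hZA hgZ⟩))
          = ((Nat.card A : ℂ)⁻¹ * (Nat.card P : ℂ)) ^ 2 *
            (lam ⟨g, hZA hgZ⟩ * conj (lam ⟨g, hZA hgZ⟩)) := by ring
        _ = _ := by rw [this, mul_one]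
    rw [Finset.sum_congr rfl h2, Finset.sum_const, nsmul_eq_mul]
    congr 1
    have : (Finset.univ.filter (fun g : P => g ∈ Z)).card = Nat.card Z := by
      rw [Nat.card_eq_fintype_card, Fintype.card_subtype]
    rw [this, hZcard]
  rw [hsum, hcard, hA]
  have hp0 : (p : ℂ) ≠ 0 := by exact_mod_cast hp.ne_zero
  push_cast
  field_simp
  ring

end Cfsg.Agent.S0893
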