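import Cfsg.Statements.S0894
import Mathlib
import Cfsg.Agent.Lib.Helper15.Central

set_option autoImplicit false
open Cfsg
open scoped ComplexConjugate

namespace Cfsg.Agent.S0894

open Cfsg.Agent.Helper15 Cfsg.Agent.Helper79

/-- degree of characters with the centre not in the kernel -/
theorem degree_of_not_le {P : Type*} [Group P] [Finite P] (p n : ℕ) [Fact p.Prime]
    (hcomm : commutator P = Subgroup.center P) (hZcard : Nat.card (Subgroup.center P) = p)
    (hcard : Nat.card P = p ^ (2 * n + 1)) (χ : IrrCharacter P)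
    (hχ : ¬ Subgroup.center P ≤ irrKer χ) : charDegree (χ : P → ℂ) = p ^ n := by
  classical
  have hp : p.Prime := Fact.out
  have : Fintype P := Fintype.ofFinite P
  set Z := Subgroup.center P with hZdef
  have : Fintype Z := Fintype.ofFinite Z
  -- scalars
  have hsc := fun z : Z => irr_central_scalar χ z.1 z.2
  choose c hc1 hc2 using hsc
  -- some z₀ with c z₀ ≠ 1
  have hne1 := irr_one_ne_zero χ
  obtain ⟨z₀, hz₀Z, hz₀⟩ : ∃ z₀ : P, ∃ h : z₀ ∈ Z, c ⟨z₀, h⟩ ≠ 1 := by
    by_contra hcon
    push Not at hcon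
    apply hχ
    intro z hz
    rw [mem_irrKer]
    have := hc1 ⟨z, hz⟩ 1
    rw [one_mul, hcon z hz, one_mul] at this
    exact this
  have hgen : ∀ z : Z, z ≠ 1 → Subgroup.zpowers z = ⊤ := fun z hz =>
    zpowers_eq_top_of_prime_card hZcard hz
  -- c multiplicative in powers
  have hcpow : ∀ (z : Z) (k : ℤ), c (z ^ k) = (c z) ^ k := by
    intro z k
    have hnat : ∀ m : ℕ, c (z ^ m) = (c z) ^ m := by
      intro m
      induction m with
      | zero =>
        have := hc1 (z ^ 0) 1
        simp only [pow_zero, OneMemClass.coe_one, mul_one] at this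
        have h2 : (1 - c 1) * (χ : P → ℂ) 1 = 0 := by rw [sub_mul, one_mul, ← this, sub_self]
        rcases mul_eq_zero.mp h2 with h | h
        · rw [pow_zero, pow_zero]; exact (sub_eq_zero.mp h).symm
        · exact absurd h hne1
      | succ m ih =>
        have h1 := hc1 (z ^ (m + 1)) 1
        have h2 := hc1 z ((z ^ m : Z) : P)
        have h3 := hc1 (z ^ m) 1
        rw [one_mul] at h1 h3
        have h4 : ((z ^ (m + 1) : Z) : P) = ((z ^ m : Z) : P) * (z : P) := by
          rw [pow_succ]; rfl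
        rw [h4, h2, h3, ih] at h1
        have h5 : (c (z ^ (m + 1)) - c z * c z ^ m) * (χ : P → ℂ) 1 = 0 := by
          rw [sub_mul, ← h1]; ring
        rcases mul_eq_zero.mp h5 with h | h
        · rw [sub_eq_zero.mp h, pow_succ]; ring
        · exact absurd h hne1
    -- reduce integer powers to natural powers using finite order
    have hfin : IsOfFinOrder z := isOfFinOrder_of_finite z
    have hmem : z ^ k ∈ Submonoid.powers z :=
      hfin.mem_powers_iff_mem_zpowers.mpr (Subgroup.zpow_mem_zpowers z k)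
    obtain ⟨m, hm⟩ := hmem
    have hord : (c z) ^ (orderOf z) = 1 := hc2 z (orderOf z) (by
      rw [← Subgroup.coe_pow, pow_orderOf_eq_one, Subgroup.coe_one])
    -- z^k = z^m so k ≡ m mod orderOf z
    have hkm : z ^ k = z ^ (m : ℤ) := by rw [zpow_natCast]; exact hm.symm
    have hdvd : (orderOf z : ℤ) ∣ k - m := (zpow_eq_zpow_iff_modEq.mp hkm.symm).dvd
    obtain ⟨t, ht⟩ := hdvd
    have hk : k = m + orderOf z * t := by omega
    have hcz0 : c z ≠ 0 := by
      intro h0
      rw [h0, zero_pow (orderOf_pos z).ne'] at hord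
      exact zero_ne_one hord
    rw [← hm, hnat m, hk, zpow_add₀ hcz0, zpow_mul, zpow_natCast, zpow_natCast, hord, one_zpow, mul_one]
  -- c z ≠ 1 for z ≠ 1
  have hcne : ∀ z : Z, z ≠ 1 → c z ≠ 1 := by
    intro z hz hcz
    have h1 := hgen z hz
    have h2 : (⟨z₀, hz₀Z⟩ : Z) ∈ Subgroup.zpowers z := by rw [h1]; exact Subgroup.mem_top _
    obtain ⟨k, hk⟩ := Subgroup.mem_zpowers_iff.mp h2
    apply hz₀
    rw [← hk, hcpow, hcz, one_zpow]
  -- vanishing off the centre
  have hvanish : ∀ x : P, x ∉ Z → (χ : P → ℂ) x = 0 := by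
    intro x hx
    have : ∃ y : P, y * x ≠ x * y := by
      by_contra hcon
      push Not at hcon
      exact hx (Subgroup.mem_center_iff.mpr hcon)
    obtain ⟨y, hy⟩ := this
    set d := x⁻¹ * y⁻¹ * x * y with hd
    have hdZ : d ∈ Z := by
      have h' : d ∈ commutator P := by
        have := Subgroup.commutator_mem_commutator (Subgroup.mem_top x⁻¹) (Subgroup.mem_top y⁻¹)
        rw [commutatorElement_def] at this
        simpa [commutator, hd] using this
      rw [hcomm] at h'
      exact h'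
    have hd1 : d ≠ 1 := by
      intro h
      apply hy
      have : x⁻¹ * y⁻¹ * x * y = 1 := h
      calc y * x = y * x * (x⁻¹ * y⁻¹ * x * y) := by rw [this, mul_one]
        _ = x * y := by group
    have hcl := irr_class χ x y⁻¹
    rw [inv_inv] at hcl
    have hxd : y⁻¹ * x * y = x * d := by rw [hd]; group
    rw [hxd] at hcl
    have h5 := hc1 ⟨d, hdZ⟩ x
    simp only at h5
    rw [h5] at hcl
    have hne := hcne ⟨d, hdZ⟩ (fun h => hd1 (congrArg Subtype.val h))
    have : (c ⟨d, hdZ⟩ - 1) * (χ : P → ℂ) x = 0 := by rw [sub_mul, hcl, one_mul, sub_self]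
    rcases mul_eq_zero.mp this with h | h
    · exact absurd (sub_eq_zero.mp h) hne
    · exact h
  -- norm of c z is one
  have hcnorm : ∀ z : Z, c z * conj (c z) = 1 := by
    intro z
    have h1 : (c z) ^ p = 1 := hc2 z p (by
      have : z ^ p = 1 := by rw [← hZcard]; exact pow_card_eq_one'
      have := congrArg Subtype.val this
      simpa using this)
    have h2 : ‖c z‖ = 1 := Complex.norm_eq_one_of_pow_eq_one h1 hp.ne_zero
    rw [Complex.mul_conj, Complex.normSq_eq_norm_sq, h2]
    simp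
  -- first orthogonality
  have horth := irr_orthonormal χ χ
  rw [if_pos rfl, pair] at horth
  have hPpos : (Nat.card P : ℂ) ≠ 0 := by
    have : 0 < Nat.card P := Nat.card_pos
    exact_mod_cast this.ne'
  have hsum : ∑ g : P, (χ : P → ℂ) g * (χ : P → ℂ) g⁻¹ = (p : ℂ) * ((χ : P → ℂ) 1) ^ 2 := by
    have h1 : ∑ g : P, (χ : P → ℂ) g * (χ : P → ℂ) g⁻¹ =
        ∑ g ∈ Finset.univ.filter (fun g : P => g ∈ Z), (χ : P → ℂ) g * (χ : P → ℂ) g⁻¹ := by
      symm
      apply Finset.sum_subset (Finset.filter_subset _ _)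
      intro g _ hg
      rw [Finset.mem_filter] at hg
      push Not at hg
      rw [hvanish g (hg (Finset.mem_univ g)), zero_mul]
    rw [h1]
    have h2 : ∀ g ∈ Finset.univ.filter (fun g : P => g ∈ Z), (χ : P → ℂ) g * (χ : P → ℂ) g⁻¹ =
        ((χ : P → ℂ) 1) ^ 2 := by
      intro g hg
      have hgZ : g ∈ Z := (Finset.mem_filter.mp hg).2
      have h3 := hc1 ⟨g, hgZ⟩ 1
      simp only [one_mul] at h3
      rw [irr_inv, h3, map_mul]
      have h4 : conj ((χ : P → ℂ) 1) = (χ : P → ℂ) 1 := by
        rw [(irr_one_eq χ).1, Complex.conj_natCast]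
      rw [h4]
      calc c ⟨g, hgZ⟩ * (χ : P → ℂ) 1 * (conj (c ⟨g, hgZ⟩) * (χ : P → ℂ) 1)
          = (c ⟨g, hgZ⟩ * conj (c ⟨g, hgZ⟩)) * ((χ : P → ℂ) 1) ^ 2 := by ring
        _ = _ := by rw [hcnorm, one_mul]
    rw [Finset.sum_congr rfl h2, Finset.sum_const, nsmul_eq_mul]
    congr 1
    have : (Finset.univ.filter (fun g : P => g ∈ Z)).card = Nat.card Z := by
      rw [Nat.card_eq_fintype_card, Fintype.card_subtype]
    rw [this, hZcard]
  rw [hsum, hcard, (irr_one_eq χ).1] at horth
  -- p * d^2 = p^(2n+1)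
  have hp0 : (p : ℂ) ≠ 0 := by exact_mod_cast hp.ne_zero
  have h6 : ((p * (charDegree (χ : P → ℂ)) ^ 2 : ℕ) : ℂ) = ((p ^ (2 * n + 1) : ℕ) : ℂ) := by
    push_cast
    have hpp : ((p : ℂ) ^ (2 * n + 1)) ≠ 0 := pow_ne_zero _ hp0
    push_cast at horth
    field_simp at horth
    linear_combination horth
  have h7 : p * (charDegree (χ : P → ℂ)) ^ 2 = p ^ (2 * n + 1) := by exact_mod_cast h6
  have h8 : (charDegree (χ : P → ℂ)) ^ 2 = (p ^ n) ^ 2 := by
    have : p * (charDegree (χ : P → ℂ)) ^ 2 = p * (p ^ n) ^ 2 := by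
      rw [h7]; ring
    exact Nat.eq_of_mul_eq_mul_left hp.pos this
  exact Nat.pow_left_injective (by norm_num : 2 ≠ 0) h8

/-- degree of characters with the centre in the kernel -/
theorem degree_of_le {P : Type*} [Group P] [Finite P]
    (hcomm : commutator P = Subgroup.center P) (χ : IrrCharacter P)
    (hχ : Subgroup.center P ≤ irrKer χ) : charDegree (χ : P → ℂ) = 1 := by
  obtain ⟨ψ, hψ⟩ := exists_deflate (Subgroup.center P) χ hχ
  rw [← hψ, charDegree_inflate]
  have hcommQ : IsMulCommutative (P ⧸ Subgroup.center P) := by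
    constructor
    constructor
    intro a b
    obtain ⟨a, rfl⟩ := QuotientGroup.mk_surjective a
    obtain ⟨b, rfl⟩ := QuotientGroup.mk_surjective b
    rw [← QuotientGroup.mk_mul, ← QuotientGroup.mk_mul, QuotientGroup.eq, ← hcomm]
    have := Subgroup.commutator_mem_commutator (Subgroup.mem_top b⁻¹) (Subgroup.mem_top a⁻¹)
    rw [commutatorElement_def] at this
    have e : (a * b)⁻¹ * (b * a) = b⁻¹ * a⁻¹ * b⁻¹⁻¹ * a⁻¹⁻¹ := by group
    rw [e]
    exact this
  obtain ⟨m, σ, hσ, hσχ⟩ := ψ.2
  have := hσ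
  have hfr : Module.finrank ℂ (Fin m → ℂ) = 1 :=
    Representation.IsIrreducible.finrank_eq_one_of_isMulCommutative σ
  have h1 : (ψ : P ⧸ Subgroup.center P → ℂ) 1 = 1 := by
    rw [← hσχ, Representation.char_one, hfr]; simp
  have h2 := (irr_one_eq ψ).1
  rw [h1] at h2
  exact_mod_cast h2.symm

/-- Let P be an extraspecial p-group of order p ^ (2 * n + 1). Then every irreducible character of P has degree 1 or p ^ n, and exactly p - 1 of them have degree p ^ n. -/
theorem result {P : Type*} [Group P] [Finite P] (p n : ℕ) [Fact p.Prime] (hP : Cfsg.IsExtraspecial p P) (hcard : Nat.card P = p ^ (2 * n + 1)) : (∀ χ : Cfsg.IrrCharacter P, (χ : P → ℂ) 1 = 1 ∨ (χ : P → ℂ) 1 = (p : ℂ) ^ n) ∧ Nat.card {χ : Cfsg.IrrCharacter P // (χ : P → ℂ) 1 = (p : ℂ) ^ n} = p - 1 := by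
  classical
  obtain ⟨⟨hPp, -, hcomm⟩, hZcard⟩ := hP
  have hp : p.Prime := Fact.out
  have hdeg : ∀ χ : IrrCharacter P, (Subgroup.center P ≤ irrKer χ → charDegree (χ : P → ℂ) = 1) ∧
      (¬ Subgroup.center P ≤ irrKer χ → charDegree (χ : P → ℂ) = p ^ n) :=
    fun χ => ⟨degree_of_le hcomm χ, degree_of_not_le p n hcomm hZcard hcard χ⟩
  -- n ≥ 1
  have hn : 1 ≤ n := by
    by_contra hn0
    have hn0 : n = 0 := by omega
    subst hn0
    simp only [mul_zero, zero_add, pow_one] at hcard
    -- the centre is everything, so P is commutative and the commutator is trivial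
    have htop : Subgroup.center P = ⊤ := by
      apply Subgroup.eq_top_of_card_eq
      rw [hZcard, hcard]
    have hbot : commutator P = ⊥ := by
      rw [commutator, Subgroup.commutator_eq_bot_iff_le_centralizer]
      intro g _
      rw [Subgroup.mem_centralizer_iff]
      intro h _
      have hg : g ∈ Subgroup.center P := by rw [htop]; exact Subgroup.mem_top g
      exact Subgroup.mem_center_iff.mp hg h
    rw [hcomm] at hbot
    rw [hbot, Subgroup.card_bot] at hZcard
    exact hp.one_lt.ne hZcard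
  have hpn : p ^ n ≠ 1 := by
    have : 1 < p ^ n := Nat.one_lt_pow (by omega) hp.one_lt
    omega
  constructor
  · intro χ
    rw [(irr_one_eq χ).1]
    by_cases h : Subgroup.center P ≤ irrKer χ
    · left; rw [(hdeg χ).1 h]; simp
    · right; rw [(hdeg χ).2 h]; push_cast; rfl
  · have hsum := sum_sq_degree_of_not_le_ker (Subgroup.center P)
    have hidx : (Subgroup.center P).index = p ^ (2 * n) := by
      have h1 := Subgroup.card_mul_index (Subgroup.center P)
      rw [hZcard, hcard, pow_succ, mul_comm] at h1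
      exact Nat.eq_of_mul_eq_mul_right hp.pos h1
    rw [hidx, hcard] at hsum
    have hterm : ∀ χ ∈ Finset.univ.filter (fun χ : IrrCharacter P => ¬ Subgroup.center P ≤ irrKer χ),
        (charDegree (χ : P → ℂ)) ^ 2 = p ^ (2 * n) := by
      intro χ hχ
      rw [(hdeg χ).2 (Finset.mem_filter.mp hχ).2, ← pow_mul, mul_comm]
    rw [Finset.sum_congr rfl hterm, Finset.sum_const, smul_eq_mul] at hsum
    have hcardM : (Finset.univ.filter (fun χ : IrrCharacter P => ¬ Subgroup.center P ≤ irrKer χ)).card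
        = p - 1 := by
      have hpos : 0 < p ^ (2 * n) := pow_pos hp.pos _
      have : (Finset.univ.filter (fun χ : IrrCharacter P => ¬ Subgroup.center P ≤ irrKer χ)).card
          * p ^ (2 * n) = (p - 1) * p ^ (2 * n) := by
        rw [hsum, pow_succ, Nat.sub_mul, one_mul, mul_comm]
      exact Nat.eq_of_mul_eq_mul_right hpos this
    rw [← hcardM, Nat.card_eq_fintype_card, Fintype.card_subtype]
    congr 1
    ext χ
    simp only [Finset.mem_filter, Finset.mem_univ, true_and]
    rw [(irr_one_eq χ).1]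
    constructor
    · intro h hle
      rw [(hdeg χ).1 hle] at h
      apply hpn
      have : ((1 : ℕ) : ℂ) = ((p ^ n : ℕ) : ℂ) := by push_cast at h ⊢; exact h
      exact (Nat.cast_injective this).symm
    · intro h
      rw [(hdeg χ).2 h]; push_cast; rfl

end Cfsg.Agent.S0894
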