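import Cfsg.Statements.S0897
import Cfsg.Agent.S0874
import Cfsg.Agent.Lib.Helper81.CharElem

set_option autoImplicit false
set_option linter.style.haveILetI false
open Cfsg

namespace Cfsg.Agent.S0897

/-- Let N be a normal subgroup of the finite group G with the index of N a power of the prime p, and P a Sylow p-subgroup of G such that P ⊓ N lies in the centre of P and every character of degree 1 of P ⊓ N is the restriction of a character of degree 1 of P. Then every irreducible character of N invariant under conjugation by G is the restriction of an irreducible character of G. -/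
theorem result {G : Type*} [Group G] [Fintype G] (p : ℕ) [Fact p.Prime] (N : Subgroup G) [hN : N.Normal] (hind : ∃ k : ℕ, N.index = p ^ k) (P : Sylow p G) (hcent : ∀ x ∈ (P : Subgroup G) ⊓ N, ∀ y ∈ (P : Subgroup G), x * y = y * x) (hlin : ∀ lam : ↥((P : Subgroup G) ⊓ N) → ℂ, Cfsg.IsCharacter ↥((P : Subgroup G) ⊓ N) lam → lam 1 = 1 → ∃ μ : ↥(P : Subgroup G) → ℂ, Cfsg.IsCharacter ↥(P : Subgroup G) μ ∧ μ 1 = 1 ∧ ∀ x : ↥((P : Subgroup G) ⊓ N), μ ⟨(x : G), x.2.1⟩ = lam x) (ϑ : N → ℂ) (hϑ : Cfsg.IsIrrCharacter N ϑ) (hinv : ∀ (g : G) (n : N), ϑ ⟨g * n * g⁻¹, hN.conj_mem (n : G) n.2 g⟩ = ϑ n) : ∃ χ : G → ℂ, Cfsg.IsIrrCharacter G χ ∧ ∀ n : N, χ n = ϑ n := by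
  classical
  have hp : p.Prime := Fact.out
  letI hfin : ∀ H : Subgroup G, Fintype H := fun H => Fintype.ofFinite H
  obtain ⟨m, l, hm, hl, hsum⟩ := Cfsg.Agent.S0874.result (G := G) p hp
  obtain ⟨t, ht, htop, c, hc, hcl⟩ := Cfsg.Agent.Helper81.exists_good_member p hp N hind ϑ hϑ hinv
    m l hm (fun t ht => (hl t ht).2) hsum
  obtain ⟨φ, hφ, hφinv, m', hm', hmφ⟩ := Cfsg.Agent.Helper81.exists_invariant_constituent p N t.1
    htop hind ϑ (Cfsg.Agent.Helper81.IsIrrCharacter.isCharacter hϑ) hinv t.2.1 (hl t ht).2 c hc hcl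
  -- a Sylow subgroup of `E` inside a conjugate of `P`
  obtain ⟨Q₀⟩ : Nonempty (Sylow p t.1) := inferInstance
  have hQpg : IsPGroup p ((Q₀ : Subgroup t.1).map t.1.subtype) := IsPGroup.map Q₀.2 _
  obtain ⟨P₂, hP₂⟩ := hQpg.exists_le_sylow
  obtain ⟨g, hg⟩ := MulAction.exists_smul_eq G P P₂
  have hmemP₂ : ∀ x, x ∈ (P₂ : Subgroup G) ↔ g⁻¹ * x * g ∈ (P : Subgroup G) := by
    intro x
    rw [← hg, Sylow.smul_def, Sylow.pointwise_smul_def,
      Subgroup.mem_pointwise_smul_iff_inv_smul_mem, MulAut.smul_def, MulAut.conj_inv_apply]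
  have hP₂ext : Cfsg.Agent.Helper81.CentralLinExt N (P₂ : Subgroup G) :=
    Cfsg.Agent.Helper81.CentralLinExt.conj (P := (P : Subgroup G)) ⟨hcent, hlin⟩ g _ hmemP₂
  obtain ⟨ψ, hψ, hψφ⟩ := Cfsg.Agent.Helper81.exists_extension_elementary_aux p N hind
    (P₂ : Subgroup G) hP₂ext t.1 (hl t ht).1 Q₀
    (fun q hq => hP₂ ⟨q, hq, rfl⟩) φ hφ hφinv
  have hmψ : Cfsg.classInner (fun x : ↥(t.1 ⊓ N) => ϑ ⟨(x : G), x.2.2⟩)
      (fun x : ↥(t.1 ⊓ N) => ψ ⟨(x : G), x.2.1⟩) = (m' : ℂ) := by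
    rw [← hmφ]
    congr 1
    funext x
    exact hψφ x
  exact Cfsg.Agent.Helper81.exists_extension_of_local p N hind ϑ hϑ hinv t.1 htop m' hm' ψ hψ hmψ

end Cfsg.Agent.S0897
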