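import Cfsg.Statements.S0900
import Cfsg.Agent.Lib.Helper81.CharRam

set_option autoImplicit false
set_option linter.style.haveILetI false
set_option linter.unusedSectionVars false
open Cfsg

namespace Cfsg.Agent.S0900

open Cfsg.Agent.Helper81
open scoped ComplexConjugate

section
variable {G : Type*} [Group G] [Fintype G] (N : Subgroup G) [hN : N.Normal] [Fintype N]
  (χ : G → ℂ) (hχ : Cfsg.IsIrrCharacter G χ) (ϑ : N → ℂ) (hϑ : Cfsg.IsIrrCharacter N ϑ)

include hϑ in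
theorem inner_of_smul (e : ℕ) (h : (fun n : N => χ n) = (e : ℂ) • ϑ) :
    classInner (fun n : N => χ n) ϑ = (e : ℂ) ∧
    classInner (fun n : N => χ n) (fun n : N => χ n) = (e : ℂ) ^ 2 := by
  have h1 : classInner ϑ ϑ = 1 := by rw [irr_orthonormal hϑ hϑ, if_pos rfl]
  constructor
  · rw [h, classInner_smul_left, h1, mul_one]
  · rw [h, classInner_smul_left, classInner_smul_right, h1]
    simp [sq]

include hχ in
theorem inv_of_smul (e : ℕ) (he : e ≠ 0) (h : (fun n : N => χ n) = (e : ℂ) • ϑ) :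
    ∀ (g : G) (n : N), ϑ ⟨g * n * g⁻¹, hN.conj_mem (n : G) n.2 g⟩ = ϑ n := by
  intro g n
  have hχc := isClassFunction_of_isCharacter (IsIrrCharacter.isCharacter hχ)
  have h1 := congrFun h n
  have h2 := congrFun h ⟨g * n * g⁻¹, hN.conj_mem (n : G) n.2 g⟩
  simp only [Pi.smul_apply, smul_eq_mul] at h1 h2
  rw [hχc (n : G) g] at h2
  have he' : (e : ℂ) ≠ 0 := by exact_mod_cast he
  have : (e : ℂ) * ϑ ⟨g * n * g⁻¹, hN.conj_mem (n : G) n.2 g⟩ = (e : ℂ) * ϑ n := by
    rw [← h1, ← h2]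
  exact mul_left_cancel₀ he' this

end

/-- fully ramified characterisation -/
theorem result {G : Type*} [Group G] [Fintype G] (N : Subgroup G) [hN : N.Normal] [Fintype N] (χ : G → ℂ) (hχ : Cfsg.IsIrrCharacter G χ) (ϑ : N → ℂ) (hϑ : Cfsg.IsIrrCharacter N ϑ) (hcon : Cfsg.classInner (fun n : N => χ n) ϑ ≠ 0) : ((∃ e : ℕ, (fun n : N => χ n) = (e : ℂ) • ϑ ∧ e ^ 2 = N.index) ↔ ((∀ g : G, g ∉ N → χ g = 0) ∧ ∀ (g : G) (n : N), ϑ ⟨g * n * g⁻¹, hN.conj_mem (n : G) n.2 g⟩ = ϑ n)) ∧ ((∃ e : ℕ, (fun n : N => χ n) = (e : ℂ) • ϑ ∧ e ^ 2 = N.index) ↔ (∀ (g : G) (n : N), ϑ ⟨g * n * g⁻¹, hN.conj_mem (n : G) n.2 g⟩ = ϑ n ∧ ∀ ψ : G → ℂ, Cfsg.IsIrrCharacter G ψ → Cfsg.classInner (Cfsg.indFun N ϑ) ψ ≠ 0 → ψ = χ)) := by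
  classical
  haveI : Fintype (IrrCharacter G) := @Fintype.ofFinite _ irr_finite
  have hχc := isClassFunction_of_isCharacter (IsIrrCharacter.isCharacter hχ)
  obtain ⟨k₀, hk₀⟩ := exists_nat_classInner (isCharacter_restrict N (IsIrrCharacter.isCharacter hχ)) hϑ
  have hk₀0 : k₀ ≠ 0 := by
    intro h; rw [h] at hk₀; exact hcon (by simpa using hk₀)
  have hnorm := classInner_restrict_self N hχ
  have hidx : (N.index : ℂ) * (Nat.card N : ℂ) = (Nat.card G : ℂ) := by
    exact_mod_cast Subgroup.index_mul_card N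
  have hN0 : (Nat.card N : ℂ) ≠ 0 := by exact_mod_cast (Nat.card_pos (α := N)).ne'
  obtain ⟨t, ht0, ht⟩ := irr_one_pos hϑ
  -- invariance implies restriction is k₀ • ϑ
  have hF2 : (∀ (g : G) (n : N), ϑ ⟨g * n * g⁻¹, hN.conj_mem (n : G) n.2 g⟩ = ϑ n) →
      (fun n : N => χ n) = (k₀ : ℂ) • ϑ := by
    intro hinv
    have := restrict_eq_smul_of_invariant N hN hχ hϑ hcon (fun g => funext (fun n => hinv g n))
    rw [hk₀] at this
    exact this
  -- reciprocity value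
  have hrec : classInner (indFun N ϑ) χ = (k₀ : ℂ) := by
    rw [frobenius_reciprocity N ϑ hχc, classInner_conj_symm, hk₀]
    simp
  refine ⟨⟨?_, ?_⟩, ⟨?_, ?_⟩⟩
  · -- A → B
    rintro ⟨e, he, he2⟩
    have he0 : e ≠ 0 := by
      intro h; rw [h] at he2
      have := Subgroup.index_ne_zero_of_finite (H := N)
      simp at he2; exact this he2.symm
    refine ⟨?_, inv_of_smul N χ hχ ϑ e he0 he⟩
    rw [← vanish_off_iff N]
    obtain ⟨-, h2⟩ := inner_of_smul N χ ϑ hϑ e he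
    rw [h2] at hnorm
    have : ((e : ℂ)) ^ 2 = (N.index : ℂ) := by exact_mod_cast he2
    rw [this, mul_comm, hidx] at hnorm
    have h3 := sub_eq_self.mp hnorm.symm
    exact h3
  · -- B → A
    rintro ⟨hvan, hinv⟩
    refine ⟨k₀, hF2 hinv, ?_⟩
    obtain ⟨-, h2⟩ := inner_of_smul N χ ϑ hϑ k₀ (hF2 hinv)
    rw [h2, (vanish_off_iff N).mpr hvan, sub_zero, ← hidx] at hnorm
    have h3 : ((k₀ : ℂ)) ^ 2 = (N.index : ℂ) := by
      have : (Nat.card N : ℂ) * (k₀ : ℂ) ^ 2 = (Nat.card N : ℂ) * (N.index : ℂ) := by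
        rw [hnorm]; ring
      exact mul_left_cancel₀ hN0 this
    exact_mod_cast h3
  · -- A → C
    rintro ⟨e, he, he2⟩
    have he0 : e ≠ 0 := by
      intro h; rw [h] at he2
      have := Subgroup.index_ne_zero_of_finite (H := N)
      simp at he2; exact this he2.symm
    have hinv := inv_of_smul N χ hχ ϑ e he0 he
    intro g n
    refine ⟨hinv g n, ?_⟩
    intro ψ hψ hψc
    by_contra hne
    have hek : e = k₀ := by
      have := (inner_of_smul N χ ϑ hϑ e he).1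
      rw [hk₀] at this
      exact_mod_cast this.symm
    subst hek
    obtain ⟨m, hm⟩ := exists_nat_decomp (isCharacter_indFun N (IsIrrCharacter.isCharacter hϑ))
    have hmχ : m ⟨χ, hχ⟩ = e := by
      have h1 : classInner (indFun N ϑ) χ = (m ⟨χ, hχ⟩ : ℂ) := by
        conv_lhs => rw [hm]
        exact classInner_nat_decomp (fun χ' => (m χ' : ℂ)) ⟨χ, hχ⟩
      rw [hrec] at h1
      exact_mod_cast h1.symm
    have hmψ : m ⟨ψ, hψ⟩ ≠ 0 := by
      have h1 : classInner (indFun N ϑ) ψ = (m ⟨ψ, hψ⟩ : ℂ) := by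
        conv_lhs => rw [hm]
        exact classInner_nat_decomp (fun χ' => (m χ' : ℂ)) ⟨ψ, hψ⟩
      intro h0
      rw [h0] at h1
      exact hψc (by simpa using h1)
    have hd : ∀ β : IrrCharacter G, ∃ d : ℕ, 0 < d ∧ (β : G → ℂ) 1 = (d : ℂ) := fun β => irr_one_pos β.2
    choose d hdpos hd using hd
    have hdeg := congrFun hm 1
    rw [indFun_one, ht] at hdeg
    simp only [Finset.sum_apply, Pi.smul_apply, smul_eq_mul, hd] at hdeg
    have hdeg' : N.index * t = ∑ β : IrrCharacter G, m β * d β := by exact_mod_cast hdeg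
    have hχ1 : d ⟨χ, hχ⟩ = e * t := by
      have h1 := congrFun he 1
      simp only [Pi.smul_apply, smul_eq_mul] at h1
      have h2 : χ ((1 : N) : G) = χ 1 := rfl
      rw [h2, ht] at h1
      have h3 := hd ⟨χ, hχ⟩
      simp only at h3
      rw [h3] at h1
      exact_mod_cast h1
    have hpair : m ⟨χ, hχ⟩ * d ⟨χ, hχ⟩ + m ⟨ψ, hψ⟩ * d ⟨ψ, hψ⟩ ≤ ∑ β : IrrCharacter G, m β * d β := by
      have hne' : (⟨χ, hχ⟩ : IrrCharacter G) ≠ ⟨ψ, hψ⟩ := fun h => hne (congrArg Subtype.val h).symm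
      have h5 := Finset.sum_le_sum_of_subset (f := fun β : IrrCharacter G => m β * d β)
        (Finset.subset_univ ({⟨χ, hχ⟩, ⟨ψ, hψ⟩} : Finset (IrrCharacter G)))
      rw [Finset.sum_pair hne'] at h5
      exact h5
    rw [← hdeg', hmχ, hχ1, ← he2] at hpair
    have hpos : 0 < m ⟨ψ, hψ⟩ * d ⟨ψ, hψ⟩ := Nat.mul_pos (Nat.pos_of_ne_zero hmψ) (hdpos _)
    nlinarith
  · -- C → A
    intro hC
    have hinv : ∀ (g : G) (n : N), ϑ ⟨g * n * g⁻¹, hN.conj_mem (n : G) n.2 g⟩ = ϑ n :=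
      fun g n => (hC g n).1
    have huniq := (hC 1 1).2
    refine ⟨k₀, hF2 hinv, ?_⟩
    obtain ⟨m, hm⟩ := exists_nat_decomp (isCharacter_indFun N (IsIrrCharacter.isCharacter hϑ))
    have hmβ : ∀ β : IrrCharacter G, classInner (indFun N ϑ) (β : G → ℂ) = (m β : ℂ) := by
      intro β
      conv_lhs => rw [hm]
      exact classInner_nat_decomp (fun χ' => (m χ' : ℂ)) β
    have hmχ : m ⟨χ, hχ⟩ = k₀ := by
      have h1 := hmβ ⟨χ, hχ⟩
      simp only at h1
      rw [hrec] at h1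
      exact_mod_cast h1.symm
    have hsingle : indFun N ϑ = (k₀ : ℂ) • χ := by
      rw [hm, Finset.sum_eq_single ⟨χ, hχ⟩, hmχ]
      · intro β _ hβ
        by_cases h0 : m β = 0
        · rw [h0]; simp
        · exfalso
          apply hβ
          apply Subtype.ext
          apply huniq β β.2
          rw [hmβ β]
          exact_mod_cast h0
      · intro h; exact absurd (Finset.mem_univ _) h
    have hdeg := congrFun hsingle 1
    rw [indFun_one, ht] at hdeg
    simp only [Pi.smul_apply, smul_eq_mul] at hdeg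
    have h1 := congrFun (hF2 hinv) 1
    simp only [Pi.smul_apply, smul_eq_mul] at h1
    have h2 : χ ((1 : N) : G) = χ 1 := rfl
    rw [h2, ht] at h1
    rw [h1] at hdeg
    have h3 : N.index * t = k₀ * (k₀ * t) := by exact_mod_cast hdeg
    have h4 : N.index * t = k₀ ^ 2 * t := by rw [h3]; ring
    exact (Nat.eq_of_mul_eq_mul_right ht0 h4).symm

end Cfsg.Agent.S0900
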