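import Cfsg.Statements.S0901
import Mathlib

set_option autoImplicit false
open Cfsg

namespace Cfsg.Agent.S0901

open Polynomial

/-- the residue field has characteristic `p` -/
lemma charP_quot (p : ℕ) [hp : Fact p.Prime] (M : Ideal Cfsg.AlgInt) (hM : M.IsMaximal)
    (hpM : (p : Cfsg.AlgInt) ∈ M) : CharP (Cfsg.AlgInt ⧸ M) p := by
  have hp0 : (p : Cfsg.AlgInt ⧸ M) = 0 := by
    rw [← map_natCast (Ideal.Quotient.mk M) p]
    exact Ideal.Quotient.eq_zero_iff_mem.2 hpM
  have : Nontrivial (Cfsg.AlgInt ⧸ M) := Ideal.Quotient.nontrivial_iff.mpr hM.ne_top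
  apply ringChar.of_eq
  refine Or.resolve_left ((Nat.dvd_prime hp.1).1 <| ringChar.dvd hp0) ?_
  exact CharP.ringChar_ne_one

/-- Let M be a maximal ideal of the ring of algebraic integers containing the prime p, and let U be the set of complex roots of unity of order prime to p. Then reduction modulo M is injective on U, and every algebraic integer not in M is congruent modulo M to an element of U (so U maps bijectively onto the nonzero residues). -/
theorem result (p : ℕ) [Fact p.Prime] (M : Ideal Cfsg.AlgInt) (hM : Cfsg.IsPModular p M) : (∀ ε₁ ε₂ : Cfsg.AlgInt, (∃ m : ℕ, ¬ p ∣ m ∧ (ε₁ : ℂ) ^ m = 1) → (∃ m : ℕ, ¬ p ∣ m ∧ (ε₂ : ℂ) ^ m = 1) → ε₁ - ε₂ ∈ M → ε₁ = ε₂) ∧ (∀ a : Cfsg.AlgInt, a ∉ M → ∃ ε : Cfsg.AlgInt, (∃ m : ℕ, ¬ p ∣ m ∧ (ε : ℂ) ^ m = 1) ∧ a - ε ∈ M) := by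
  obtain ⟨hp, hMmax, hpM⟩ := hM
  have hchar : CharP (Cfsg.AlgInt ⧸ M) p := charP_quot p M hMmax hpM
  letI : Field (Cfsg.AlgInt ⧸ M) := Ideal.Quotient.field M
  let φ := Ideal.Quotient.mk M
  constructor
  · rintro ε₁ ε₂ ⟨m₁, hm₁, h₁⟩ ⟨m₂, hm₂, h₂⟩ hmem
    by_contra hne
    set m := m₁ * m₂ with hm
    have hpm : ¬ p ∣ m := by
      rw [hm, hp.dvd_mul]; tauto
    have e₁ : ε₁ ^ m = 1 := by
      apply Subtype.ext
      simp only [SubmonoidClass.coe_pow, OneMemClass.coe_one]
      rw [hm, pow_mul, h₁, one_pow]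
    have e₂ : ε₂ ^ m = 1 := by
      apply Subtype.ext
      simp only [SubmonoidClass.coe_pow, OneMemClass.coe_one]
      rw [hm, mul_comm, pow_mul, h₂, one_pow]
    have hsum : ∑ i ∈ Finset.range m, ε₁ ^ i * ε₂ ^ (m - 1 - i) = 0 := by
      have h := (Commute.all ε₁ ε₂).geom_sum₂_mul m
      rw [e₁, e₂, sub_self] at h
      rcases mul_eq_zero.mp h with h | h
      · exact h
      · exact absurd (sub_eq_zero.mp h) hne
    have hφ : φ ε₁ = φ ε₂ := Ideal.Quotient.eq.mpr hmem
    have h3 := congrArg φ hsum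
    rw [map_sum, map_zero] at h3
    have hmpos : 0 < m := Nat.pos_of_ne_zero (fun h => hpm (h ▸ dvd_zero p))
    have h4 : ∀ i ∈ Finset.range m, φ (ε₁ ^ i * ε₂ ^ (m - 1 - i)) = (φ ε₂) ^ (m - 1) := by
      intro i hi
      rw [map_mul, map_pow, map_pow, hφ, ← pow_add]
      congr 1
      have := Finset.mem_range.mp hi
      omega
    rw [Finset.sum_congr rfl h4, Finset.sum_const, Finset.card_range, nsmul_eq_mul] at h3
    have hunit : (φ ε₂) ^ (m - 1) ≠ 0 := by
      intro h0
      have : (φ ε₂) ^ m = 1 := by rw [← map_pow, e₂, map_one]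
      have hm' : m = (m - 1) + 1 := by omega
      rw [hm', pow_succ, h0, zero_mul] at this
      exact zero_ne_one this
    rcases mul_eq_zero.mp h3 with h5 | h5
    · exact hpm ((CharP.cast_eq_zero_iff (Cfsg.AlgInt ⧸ M) p m).mp h5)
    · exact hunit h5
  · intro a ha
    have ha0 : φ a ≠ 0 := fun h => ha (Ideal.Quotient.eq_zero_iff_mem.mp h)
    letI : Algebra (ZMod p) (Cfsg.AlgInt ⧸ M) := ZMod.algebra _ p
    -- φ a is integral over ZMod p
    have hint : IsIntegral (ZMod p) (φ a) := by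
      have h1 : IsIntegral ℤ a := integralClosure.isIntegral a
      have h2 : IsIntegral ℤ (φ a) := h1.map (φ.toIntAlgHom)
      exact h2.tower_top
    let K' := IntermediateField.adjoin (ZMod p) {φ a}
    have hfd : FiniteDimensional (ZMod p) K' := IntermediateField.adjoin.finiteDimensional hint
    have hfin : Finite K' := Module.finite_of_finite (ZMod p)
    have : Fintype K' := Fintype.ofFinite K'
    let a' : K' := ⟨φ a, IntermediateField.mem_adjoin_simple_self (ZMod p) (φ a)⟩
    have ha' : a' ≠ 0 := fun h => ha0 (congrArg Subtype.val h)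
    have hpow := FiniteField.pow_card_sub_one_eq_one a' ha'
    have : CharP K' p := by infer_instance
    obtain ⟨n, -, hn⟩ := FiniteField.card K' p
    set N := Fintype.card K' - 1 with hN
    have hNp : ¬ p ∣ N := by
      rw [hN, hn]
      intro hdvd
      have h1 : p ∣ p ^ (n : ℕ) := dvd_pow_self p n.ne_zero
      have h2 : 1 ≤ p ^ (n : ℕ) := Nat.one_le_pow _ _ hp.pos
      have h3 : p ∣ 1 := by
        have := (Nat.dvd_sub h1 hdvd)
        rwa [Nat.sub_sub_self h2] at this
      exact hp.one_lt.ne' (Nat.dvd_one.mp h3)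
    have hNpos : 0 < N := Nat.pos_of_ne_zero (fun h => hNp (h ▸ dvd_zero p))
    have hφN : (φ a) ^ N = 1 := by
      have := congrArg Subtype.val hpow
      simpa using this
    -- primitive root in AlgInt
    have hζC : IsPrimitiveRoot (Complex.exp (2 * Real.pi * Complex.I / N)) N :=
      Complex.isPrimitiveRoot_exp N hNpos.ne'
    have hζint : IsIntegral ℤ (Complex.exp (2 * Real.pi * Complex.I / N)) :=
      ⟨X ^ N - 1, monic_X_pow_sub_C 1 hNpos.ne', by simp [hζC.pow_eq_one]⟩
    let ζ : Cfsg.AlgInt := ⟨_, hζint⟩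
    have hζ : IsPrimitiveRoot ζ N := by
      have : IsPrimitiveRoot ((algebraMap Cfsg.AlgInt ℂ) ζ) N := hζC
      exact IsPrimitiveRoot.of_map_of_injective (f := algebraMap Cfsg.AlgInt ℂ) this
        Subtype.val_injective
    have hprod := X_pow_sub_one_eq_prod hNpos hζ
    have heval := congrArg (Polynomial.eval a) hprod
    rw [eval_sub, eval_pow, eval_X, eval_one, eval_prod] at heval
    simp only [eval_sub, eval_X, eval_C] at heval
    have h5 := congrArg φ heval
    rw [map_sub, map_pow, map_one, hφN, sub_self, map_prod] at h5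
    obtain ⟨ε, hε, hε0⟩ := Finset.prod_eq_zero_iff.mp h5.symm
    refine ⟨ε, ⟨N, hNp, ?_⟩, Ideal.Quotient.eq_zero_iff_mem.mp hε0⟩
    have := (mem_nthRootsFinset hNpos 1).mp hε
    have := congrArg Subtype.val this
    simpa using this

end Cfsg.Agent.S0901
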