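import Cfsg.Statements.S0902
import Cfsg.Agent.Lib.Helper15.BlockIndep

set_option autoImplicit false
open Cfsg

namespace Cfsg.Agent.S0902

/-- If two irreducible characters of a finite group lie in the same block relative to one maximal ideal M of the algebraic integers containing the prime p, then at every element the difference of their central characters is an algebraic integer lying in every maximal ideal containing p; in particular they lie in the same block relative to any such ideal. -/
theorem result {G : Type*} [Group G] [Finite G] (p : ℕ) [Fact p.Prime] (M : Ideal Cfsg.AlgInt) (hM : Cfsg.IsPModular p M) (χ ψ : Cfsg.IrrCharacter G) (h : Cfsg.SameBlock M (χ : G → ℂ) (ψ : G → ℂ)) (M' : Ideal Cfsg.AlgInt) (hM' : Cfsg.IsPModular p M') (g : G) : ∃ r : Cfsg.AlgInt, r ∈ M' ∧ (r : ℂ) = Cfsg.centralChar (χ : G → ℂ) g - Cfsg.centralChar (ψ : G → ℂ) g := by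
  classical
  have : Fintype G := Fintype.ofFinite G
  have hpM := Cfsg.Agent.Helper77.isPrime_of_isPModular hM
  have hpM' := Cfsg.Agent.Helper77.isPrime_of_isPModular hM'
  -- the `M'`-block of `χ`
  set B := blockOf M' (χ : G → ℂ) with hBdef
  have hB : IsPBlock M' B := ⟨χ, rfl⟩
  have hχB : χ ∈ B := Cfsg.Agent.Helper77.mem_blockOf_self (M := M') χ
  -- its idempotent has `M`-local coefficients
  have hR : Cfsg.Agent.Helper77.IsRValued M (blockCoeff B) := fun x =>
    Cfsg.Agent.Helper15.memLocalRing_blockCoeff_of_isPBlock hM hM' hB x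
  have hdiff := Cfsg.Agent.Helper77.memLocalIdeal_omega_sub (M := M) χ.2 ψ.2 h
    (Cfsg.Agent.Helper77.isClassFunction_blockCoeff B) hR
  rw [Cfsg.Agent.Helper77.omega_blockCoeff, Cfsg.Agent.Helper77.omega_blockCoeff] at hdiff
  have hψB : ψ ∈ B := by
    by_contra hn
    rw [if_pos hχB, if_neg hn, sub_zero] at hdiff
    exact Cfsg.Agent.Helper77.not_memLocalIdeal_one (M := M) hdiff
  -- so `χ` and `ψ` are in the same `M'`-block
  have hsame : SameBlock M' (χ : G → ℂ) (ψ : G → ℂ) := hψB
  have h1 := Cfsg.Agent.Helper77.centralChar_mem_algInt χ.2 g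
  have h2 := Cfsg.Agent.Helper77.centralChar_mem_algInt ψ.2 g
  refine ⟨⟨_, h1⟩ - ⟨_, h2⟩, ?_, ?_⟩
  · rw [← Cfsg.Agent.Helper77.memLocalIdeal_algInt_iff (M := M')]
    have := hsame g
    simpa using this
  · simp
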