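import Cfsg.Statements.S0903
import Mathlib

set_option autoImplicit false
open Cfsg

namespace Cfsg.Agent.S0903

variable {G : Type*} [Group G]

/-- the set of pairs -/
def pairSet (c g h : G) : Set (G × G) :=
  {xy | IsConj g xy.1 ∧ IsConj h xy.2 ∧ xy.1 * xy.2 = c}

lemma conj_mem_pairSet (P : Subgroup G) (c g h : G)
    (hc : c ∈ Subgroup.centralizer (P : Set G)) (u : P) (xy : G × G)
    (hxy : xy ∈ pairSet c g h) :
    ((u : G) * xy.1 * (u : G)⁻¹, (u : G) * xy.2 * (u : G)⁻¹) ∈ pairSet c g h := by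
  obtain ⟨h1, h2, h3⟩ := hxy
  refine ⟨?_, ?_, ?_⟩
  · exact h1.trans (isConj_iff.mpr ⟨u, rfl⟩)
  · exact h2.trans (isConj_iff.mpr ⟨u, rfl⟩)
  · have hcu : (u : G) * c = c * (u : G) := (hc (u : G) u.2)
    calc (u : G) * xy.1 * (u : G)⁻¹ * ((u : G) * xy.2 * (u : G)⁻¹)
        = (u : G) * (xy.1 * xy.2) * (u : G)⁻¹ := by group
      _ = (u : G) * c * (u : G)⁻¹ := by rw [h3]
      _ = c := by rw [hcu]; group

/-- conjugation action of `P` on the set of pairs -/
@[reducible] noncomputable def act (P : Subgroup G) (c g h : G)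
    (hc : c ∈ Subgroup.centralizer (P : Set G)) : MulAction P (pairSet c g h) where
  smul u xy := ⟨((u : G) * xy.1.1 * (u : G)⁻¹, (u : G) * xy.1.2 * (u : G)⁻¹),
    conj_mem_pairSet P c g h hc u xy.1 xy.2⟩
  one_smul xy := by
    apply Subtype.ext
    show (((1 : P) : G) * xy.1.1 * ((1 : P) : G)⁻¹, ((1 : P) : G) * xy.1.2 * ((1 : P) : G)⁻¹) = xy.1
    simp
  mul_smul u v xy := by
    apply Subtype.ext
    show (((u * v : P) : G) * xy.1.1 * ((u * v : P) : G)⁻¹,
      ((u * v : P) : G) * xy.1.2 * ((u * v : P) : G)⁻¹) =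
      ((u : G) * ((v : G) * xy.1.1 * (v : G)⁻¹) * (u : G)⁻¹,
        (u : G) * ((v : G) * xy.1.2 * (v : G)⁻¹) * (u : G)⁻¹)
    simp only [Subgroup.coe_mul, mul_inv_rev, mul_assoc]

/-- Let P be a p-subgroup of the finite group G, let c centralize P and let g, h ∈ G. The number of pairs (x, y) with x conjugate to g, y conjugate to h and x * y = c is congruent modulo p to the number of such pairs in which x and y both centralize P. (This is why the Brauer map on class sums is multiplicative.) -/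
theorem result {G : Type*} [Group G] [Finite G] (p : ℕ) [Fact p.Prime] (P : Subgroup G) (hP : IsPGroup p P) (c : G) (hc : c ∈ Subgroup.centralizer (P : Set G)) (g h : G) : Nat.card {xy : G × G // IsConj g xy.1 ∧ IsConj h xy.2 ∧ xy.1 * xy.2 = c} ≡ Nat.card {xy : G × G // IsConj g xy.1 ∧ IsConj h xy.2 ∧ xy.1 * xy.2 = c ∧ xy.1 ∈ Subgroup.centralizer (P : Set G) ∧ xy.2 ∈ Subgroup.centralizer (P : Set G)} [MOD p] := by
  let _ := act P c g h hc
  have key := hP.card_modEq_card_fixedPoints (pairSet c g h)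
  have e : (MulAction.fixedPoints P (pairSet c g h)) ≃ {xy : G × G // IsConj g xy.1 ∧ IsConj h xy.2 ∧ xy.1 * xy.2 = c ∧ xy.1 ∈ Subgroup.centralizer (P : Set G) ∧ xy.2 ∈ Subgroup.centralizer (P : Set G)} := by
    refine
      { toFun := fun z => ⟨z.1.1, z.1.2.1, z.1.2.2.1, z.1.2.2.2, ?_, ?_⟩
        invFun := fun w => ⟨⟨w.1, w.2.1, w.2.2.1, w.2.2.2.1⟩, ?_⟩
        left_inv := fun z => rfl
        right_inv := fun w => rfl }
    · intro u hu
      have := z.2 ⟨u, hu⟩
      have h1 : (u : G) * z.1.1.1 * (u : G)⁻¹ = z.1.1.1 := congrArg (fun t => t.1.1) this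
      calc u * z.1.1.1 = (u * z.1.1.1 * u⁻¹) * u := by group
        _ = z.1.1.1 * u := by rw [h1]
    · intro u hu
      have := z.2 ⟨u, hu⟩
      have h1 : (u : G) * z.1.1.2 * (u : G)⁻¹ = z.1.1.2 := congrArg (fun t => t.1.2) this
      calc u * z.1.1.2 = (u * z.1.1.2 * u⁻¹) * u := by group
        _ = z.1.1.2 * u := by rw [h1]
    · intro u
      apply Subtype.ext
      show ((u : G) * w.1.1 * (u : G)⁻¹, (u : G) * w.1.2 * (u : G)⁻¹) = w.1
      have h1 := w.2.2.2.2.1 (u : G) u.2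
      have h2 := w.2.2.2.2.2 (u : G) u.2
      ext
      · show (u : G) * w.1.1 * (u : G)⁻¹ = w.1.1
        rw [h1]; group
      · show (u : G) * w.1.2 * (u : G)⁻¹ = w.1.2
        rw [h2]; group
  have h1 : Nat.card {xy : G × G // IsConj g xy.1 ∧ IsConj h xy.2 ∧ xy.1 * xy.2 = c} = Nat.card (pairSet c g h) := rfl
  rw [h1, ← Nat.card_congr e]
  exact key

end Cfsg.Agent.S0903
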