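import Cfsg.Statements.S0910
import Cfsg.Agent.S0142
import Cfsg.Agent.Lib.Helper79.Linear
import Cfsg.Agent.Lib.Helper77.LocalRing

set_option autoImplicit false
open Cfsg

namespace Cfsg.Agent.S0910

open Cfsg.Agent.Helper79

/-- a nontrivial irreducible character of a simple group with trivial centre vanishes at
`g ≠ 1` when its degree is coprime to the class size of `g` -/
theorem eq_zero_of_coprime {G : Type*} [Group G] [Finite G] [IsSimpleGroup G]
    (g : G) (hg : g ≠ 1) (hZ : Subgroup.center G = ⊥) (χ : IrrCharacter G) (hχ : χ ≠ trivChar G)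
    (hcop' : Nat.Coprime (charDegree (χ : G → ℂ)) (Subgroup.centralizer ({g} : Set G)).index) :
    (χ : G → ℂ) g = 0 := by
  have := Fintype.ofFinite G
  classical
  obtain ⟨n, ρ, hρ, hχρ, hker⟩ := irr_exists_rep χ
  have hn : Module.finrank ℂ (Fin n → ℂ) = charDegree (χ : G → ℂ) := by
    have h1 := (irr_one_eq χ).1
    have h2 : (χ : G → ℂ) 1 = ρ.character 1 := by rw [hχρ]
    rw [h2, Representation.char_one] at h1
    exact_mod_cast h1
  have hcop : Nat.Coprime (Module.finrank ℂ (Fin n → ℂ)) (Subgroup.centralizer ({g} : Set G)).index := by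
    rw [hn]; exact hcop'
  rcases Cfsg.Agent.S0142.result ρ g hcop with h0 | hnorm
  · rw [← hχρ]; exact h0
  exfalso
  obtain ⟨ω, hω⟩ := (Cfsg.Agent.Helper3.norm_char_eq_iff ρ g).1 hnorm
  -- commutators of g lie in the kernel
  have hcomm : ∀ x : G, g * x * g⁻¹ * x⁻¹ ∈ irrKer χ := by
    intro x
    rw [mem_irrKer, hker]
    rw [map_mul, map_mul, map_mul, hω]
    have h1 : ρ g⁻¹ * ρ g = 1 := by rw [← map_mul, inv_mul_cancel, map_one]
    rw [hω] at h1
    have h2 : ρ x * ρ x⁻¹ = 1 := by rw [← map_mul, mul_inv_cancel, map_one]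
    apply LinearMap.ext
    intro v
    have h1v := congrArg (fun f => f (ρ x⁻¹ v)) h1
    have h2v := congrArg (fun f => f v) h2
    simp only [Module.End.mul_apply, LinearMap.smul_apply, LinearMap.id_coe, id_eq,
      Module.End.one_apply] at h1v h2v ⊢
    rw [map_smul] at h1v
    rw [← map_smul, h1v, h2v]
  rcases (irrKer_normal χ).eq_bot_or_eq_top with hbot | htop
  · apply hg
    have hmem : g ∈ Subgroup.center G := by
      rw [Subgroup.mem_center_iff]
      intro x
      have := hcomm x
      rw [hbot, Subgroup.mem_bot] at this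
      have h3 : g * x = x * g := by
        have := congrArg (fun y => y * x * g) this
        simpa [mul_assoc] using this
      exact h3.symm
    rw [hZ, Subgroup.mem_bot] at hmem
    exact hmem
  · apply hχ
    have hall : ∀ x : G, (χ : G → ℂ) x = (χ : G → ℂ) 1 := by
      intro x
      have : x ∈ irrKer χ := by rw [htop]; trivial
      exact this
    by_contra hne
    have h1 := irr_orthonormal χ (trivChar G)
    rw [if_neg hne] at h1
    unfold pair at h1
    simp only [trivChar_apply, mul_one, hall, Finset.sum_const, Finset.card_univ, nsmul_eq_mul] at h1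
    rw [← Nat.card_eq_fintype_card, ← mul_assoc, inv_mul_cancel₀ card_ne_zero_complex, one_mul] at h1
    exact irr_one_ne_zero χ h1

/-- there is a nonidentity element whose class size is prime to `p` -/
theorem exists_pprime_class {G : Type*} [Group G] [Finite G] [Nontrivial G] (p : ℕ) [Fact p.Prime] :
    ∃ g : G, g ≠ 1 ∧ ¬ p ∣ (Subgroup.centralizer ({g} : Set G)).index := by
  by_cases hp : p ∣ Nat.card G
  · obtain ⟨P⟩ : Nonempty (Sylow p G) := inferInstance
    have hPnt : Nontrivial (P : Subgroup G) := by
      rw [← Finite.one_lt_card_iff_nontrivial]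
      have hcard := P.card_eq_multiplicity
      rw [hcard]
      have hpos : 0 < (Nat.card G).factorization p :=
        (Fact.out : p.Prime).factorization_pos_of_dvd Nat.card_pos.ne' hp
      exact Nat.one_lt_pow hpos.ne' (Fact.out : p.Prime).one_lt
    have hcnt := P.isPGroup'.center_nontrivial
    obtain ⟨z, hz⟩ := exists_ne (1 : Subgroup.center (P : Subgroup G))
    refine ⟨((z : (P : Subgroup G)) : G), ?_, ?_⟩
    · intro h
      apply hz
      apply Subtype.ext
      apply Subtype.ext
      exact h
    · have hle : (P : Subgroup G) ≤ Subgroup.centralizer ({((z : (P : Subgroup G)) : G)} : Set G) := by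
        intro x hx
        rw [Subgroup.mem_centralizer_iff]
        intro y hy
        rw [Set.mem_singleton_iff] at hy
        subst hy
        have := Subgroup.mem_center_iff.mp z.2 ⟨x, hx⟩
        exact (congrArg Subtype.val this).symm
      intro hdvd
      exact P.not_dvd_index (dvd_trans hdvd (Subgroup.index_dvd_of_le hle))
  · obtain ⟨g, hg⟩ := exists_ne (1 : G)
    exact ⟨g, hg, fun h => hp (dvd_trans h (Subgroup.index_dvd_card _))⟩

/-- Let G be a non-abelian finite simple group and p a prime. If an irreducible character χ lies in the principal block (relative to a maximal ideal of the algebraic integers containing p) and χ 1 is a power of p, then χ is the principal character. -/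
theorem result {G : Type*} [Group G] [Finite G] (p : ℕ) [Fact p.Prime] (M : Ideal Cfsg.AlgInt) (hM : Cfsg.IsPModular p M) [IsSimpleGroup G] (hna : ∃ a b : G, a * b ≠ b * a) (χ : Cfsg.IrrCharacter G) (hχ : χ ∈ Cfsg.principalBlock M G) (k : ℕ) (hdeg : (χ : G → ℂ) 1 = (p : ℂ) ^ k) : (χ : G → ℂ) = fun _ => 1 := by
  classical
  have := Fintype.ofFinite G
  by_contra hne
  have hne' : χ ≠ trivChar G := by
    intro h
    apply hne
    rw [h]
    funext g
    exact trivChar_apply g
  have hZ : Subgroup.center G = ⊥ := by
    rcases (inferInstance : (Subgroup.center G).Normal).eq_bot_or_eq_top with h | h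
    · exact h
    · exfalso
      obtain ⟨a, b, hab⟩ := hna
      apply hab
      have : b ∈ Subgroup.center G := by rw [h]; trivial
      exact ((Subgroup.mem_center_iff.1 this) a)
  have hdeg' : charDegree (χ : G → ℂ) = p ^ k := by
    unfold charDegree
    rw [hdeg]
    have : ((p : ℂ) ^ k) = ((p ^ k : ℕ) : ℂ) := by push_cast; rfl
    rw [this, Complex.natCast_re, Nat.floor_natCast]
  obtain ⟨g, hg1, hgp⟩ := exists_pprime_class (G := G) p
  have hcop : Nat.Coprime (charDegree (χ : G → ℂ)) (Subgroup.centralizer ({g} : Set G)).index := by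
    rw [hdeg']
    exact Nat.Coprime.pow_left _ ((Nat.Prime.coprime_iff_not_dvd (Fact.out : p.Prime)).2 hgp)
  have h0 := eq_zero_of_coprime g hg1 hZ χ hne' hcop
  have hblock : MemLocalIdeal M (centralChar (fun _ : G => (1 : ℂ)) g - centralChar (χ : G → ℂ) g) :=
    hχ g
  simp only [centralChar, h0, mul_zero, zero_div, sub_zero, mul_one, div_one] at hblock
  exact hgp ((Cfsg.Agent.Helper77.memLocalIdeal_natCast_iff hM _).mp hblock)

end Cfsg.Agent.S0910
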