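import Cfsg.Statements.S0904
import Mathlib
import Cfsg.Agent.S0907
import Cfsg.Agent.S0910
import Cfsg.Agent.Lib.Helper74.DefectZero
import Cfsg.Agent.Lib.Helper77.Principal
import Cfsg.Agent.Lib.Helper77.LocalRing
import Cfsg.Agent.Lib.Helper79.Integrality
import Cfsg.Agent.Lib.Helper79.CharBasic

set_option autoImplicit false
open Cfsg

namespace Cfsg.Agent.S0904

open Cfsg.Agent.Helper79 Cfsg.Agent.Helper77
open scoped ComplexConjugate

theorem conj_mem_algInt' {z : ℂ} (hz : IsIntegral ℤ z) : conj z ∈ AlgInt := by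
  have : IsIntegral ℤ (conj z) := by
    have h := hz.map ((starRingEnd ℂ : ℂ →+* ℂ).toIntAlgHom)
    exact h
  exact this

/-- Core of the Brauer–Tuan argument: in a non-abelian simple group of order `s^a t^b r` there is no
element whose order is divisible by both `s` and `r`. -/
theorem no_rs_element {G : Type*} [Group G] [Finite G] [IsSimpleGroup G]
    (s t r a b : ℕ) (hs : s.Prime) (ht : t.Prime) (hr : r.Prime)
    (hsr : s ≠ r) (htr : t ≠ r)
    (hcard : Nat.card G = s ^ a * t ^ b * r) (hna : ∃ x y : G, x * y ≠ y * x)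
    (y : G) (hys : s ∣ orderOf y) (hyr : r ∣ orderOf y) : False := by
  classical
  have : Fact s.Prime := ⟨hs⟩
  have : Fact t.Prime := ⟨ht⟩
  obtain ⟨M, hM⟩ := Cfsg.Agent.Helper74.DZ.exists_isPModular s hs
  obtain ⟨M', hM'⟩ := Cfsg.Agent.Helper74.DZ.exists_isPModular t ht
  have : M.IsPrime := isPrime_of_isPModular hM
  have : M'.IsPrime := isPrime_of_isPModular hM'
  have hB := isPBlock_principalBlock (G := G) M
  have hx : ¬ s ∣ orderOf (1 : G) := by
    rw [orderOf_one]; exact fun h => hs.one_lt.ne' (Nat.dvd_one.mp h)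
  have hsum := Cfsg.Agent.S0907.result s M hM (principalBlock M G) hB 1 y hx hys
  rw [finsum_mem_eq_finite_toFinset_sum _ (Set.toFinite _)] at hsum
  have htriv : trivIrr G ∈ (Set.toFinite (principalBlock M G)).toFinset := by
    rw [Set.Finite.mem_toFinset]; exact trivIrr_mem_principalBlock M
  rw [← Finset.add_sum_erase _ _ htriv] at hsum
  simp only [trivIrr_apply, map_one, mul_one] at hsum
  have hrnd : ¬ r ∣ s ^ a * t ^ b := by
    intro h
    rcases (Nat.Prime.dvd_mul hr).1 h with h | h
    · exact hsr ((Nat.prime_dvd_prime_iff_eq hr hs).1 (hr.dvd_of_dvd_pow h)).symm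
    · exact htr ((Nat.prime_dvd_prime_iff_eq hr ht).1 (hr.dvd_of_dvd_pow h)).symm
  have hfac : (Nat.card G).factorization r = 1 := by
    rw [hcard, Nat.factorization_mul (Nat.mul_ne_zero (pow_ne_zero _ hs.ne_zero) (pow_ne_zero _ ht.ne_zero)) hr.ne_zero, Finsupp.add_apply,
      Nat.factorization_eq_zero_of_not_dvd hrnd, hr.factorization_self]
  have hrest : MemLocalIdeal M' (∑ χ ∈ ((Set.toFinite (principalBlock M G)).toFinset).erase (trivIrr G),
      (χ : G → ℂ) 1 * conj ((χ : G → ℂ) y)) := by
    apply memLocalIdeal_sum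
    intro χ hχ
    rw [Finset.mem_erase, Set.Finite.mem_toFinset] at hχ
    obtain ⟨hne, hmem⟩ := hχ
    have hd := irr_one_eq χ
    have hdvd := irr_degree_dvd_card χ
    by_cases hrd : r ∣ charDegree (χ : G → ℂ)
    · have h0 := Cfsg.Agent.Helper74.DZ.irr_vanish_of_defect_zero χ r hr
        (by rw [hfac, pow_one]; exact hrd) y hyr
      rw [h0, map_zero, mul_zero]
      exact memLocalIdeal_zero (ne_top_of_isPModular hM')
    · have htd : t ∣ charDegree (χ : G → ℂ) := by
        by_contra htd
        have hcop_r : Nat.Coprime (charDegree (χ : G → ℂ)) r :=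
          (Nat.Coprime.symm ((Nat.Prime.coprime_iff_not_dvd hr).2 hrd))
        have hcop_t : Nat.Coprime (charDegree (χ : G → ℂ)) (t ^ b) :=
          Nat.Coprime.pow_right _ (Nat.Coprime.symm ((Nat.Prime.coprime_iff_not_dvd ht).2 htd))
        rw [hcard] at hdvd
        have h1 : charDegree (χ : G → ℂ) ∣ s ^ a * t ^ b := hcop_r.dvd_of_dvd_mul_right hdvd
        have h2 : charDegree (χ : G → ℂ) ∣ s ^ a := hcop_t.dvd_of_dvd_mul_right h1
        obtain ⟨k, _, hk'⟩ := (Nat.dvd_prime_pow hs).1 h2
        have h3 := Cfsg.Agent.S0910.result s M hM hna χ hmem k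
          (by rw [hd.1, hk']; push_cast; rfl)
        apply hne
        apply Subtype.ext
        rw [h3]
        rfl
      rw [hd.1]
      apply memLocalIdeal_mul_right
      · exact (memLocalIdeal_natCast_iff hM' _).2 htd
      · exact memLocalRing_algInt (ne_top_of_isPModular hM')
          ⟨_, conj_mem_algInt' (irr_isIntegral χ y)⟩
  have h1 : MemLocalIdeal M' 1 := by
    have h2 : (1 : ℂ) = -(∑ χ ∈ ((Set.toFinite (principalBlock M G)).toFinset).erase (trivIrr G),
      (χ : G → ℂ) 1 * conj ((χ : G → ℂ) y)) := by linear_combination hsum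
    rw [h2]; exact memLocalIdeal_neg hrest
  exact not_memLocalIdeal_one h1

/-- Let G be a finite simple group of order p ^ a * q ^ b * r with p, q, r distinct primes. Then every Sylow r-subgroup S of G satisfies C_G(S) = S. -/
theorem result {G : Type*} [Group G] [Finite G] [IsSimpleGroup G] (p q r a b : ℕ) (hp : p.Prime) (hq : q.Prime) [Fact r.Prime] (hpq : p ≠ q) (hpr : p ≠ r) (hqr : q ≠ r) (hcard : Nat.card G = p ^ a * q ^ b * r) (S : Sylow r G) : Subgroup.centralizer (S : Set G) = (S : Subgroup G) := by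
  classical
  have hr : r.Prime := Fact.out
  have hrnd : ¬ r ∣ p ^ a * q ^ b := by
    intro h
    rcases (Nat.Prime.dvd_mul hr).1 h with h | h
    · exact hpr ((Nat.prime_dvd_prime_iff_eq hr hp).1 (hr.dvd_of_dvd_pow h)).symm
    · exact hqr ((Nat.prime_dvd_prime_iff_eq hr hq).1 (hr.dvd_of_dvd_pow h)).symm
  have hfac : (Nat.card G).factorization r = 1 := by
    rw [hcard, Nat.factorization_mul (Nat.mul_ne_zero (pow_ne_zero _ hp.ne_zero) (pow_ne_zero _ hq.ne_zero)) hr.ne_zero, Finsupp.add_apply,
      Nat.factorization_eq_zero_of_not_dvd hrnd, hr.factorization_self]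
  have hcardS : Nat.card (S : Subgroup G) = r := by
    rw [S.card_eq_multiplicity, hfac, pow_one]
  -- S is abelian
  have hcyc : IsCyclic (S : Subgroup G) := isCyclic_of_prime_card hcardS
  have hle : (S : Subgroup G) ≤ Subgroup.centralizer (S : Set G) := by
    intro x hx
    rw [Subgroup.mem_centralizer_iff]
    intro y hy
    have hcomm := isMulCommutative_iff.1 hcyc.isMulCommutative
    have h1 := hcomm (⟨y, hy⟩ : (S : Subgroup G)) ⟨x, hx⟩
    exact congrArg Subtype.val h1
  by_contra hne
  -- the centralizer is strictly bigger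
  set C : Subgroup G := Subgroup.centralizer (S : Set G) with hC
  have hCcard_dvd : Nat.card C ∣ p ^ a * q ^ b * r := hcard ▸ Subgroup.card_subgroup_dvd_card C
  have hSC : Nat.card (S : Subgroup G) ∣ Nat.card C := Subgroup.card_dvd_of_le hle
  rw [hcardS] at hSC
  obtain ⟨k, hk⟩ := hSC
  have hk1 : k ≠ 1 := by
    intro h1
    apply hne
    rw [h1, mul_one] at hk
    symm
    exact Subgroup.eq_of_le_of_card_ge hle (by rw [hk, hcardS])
  have hk0 : k ≠ 0 := by
    intro h0
    rw [h0, mul_zero] at hk
    exact Nat.card_pos.ne' hk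
  -- a prime divisor s of k
  obtain ⟨s, hs, hsk⟩ := Nat.exists_prime_and_dvd hk1
  have hsC : s ∣ Nat.card C := hk ▸ Dvd.dvd.mul_left hsk r
  have hsr : s ≠ r := by
    intro h
    subst h
    apply hrnd
    have h2 : s * s ∣ p ^ a * q ^ b * s := by
      refine dvd_trans ?_ hCcard_dvd
      rw [hk]
      exact Nat.mul_dvd_mul_left s hsk
    exact Nat.dvd_of_mul_dvd_mul_right hs.pos h2
  have hsG : s ∣ p ^ a * q ^ b := by
    have h2 : s ∣ p ^ a * q ^ b * r := dvd_trans hsC hCcard_dvd
    rcases (Nat.Prime.dvd_mul hs).1 h2 with h | h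
    · exact h
    · exact absurd ((Nat.prime_dvd_prime_iff_eq hs hr).1 h) hsr
  -- elements
  have : Fact s.Prime := ⟨hs⟩
  obtain ⟨v, hv⟩ := exists_prime_orderOf_dvd_card' (G := C) s hsC
  obtain ⟨u, hu⟩ := exists_prime_orderOf_dvd_card' (G := (S : Subgroup G)) r (by rw [hcardS])
  have hv' : orderOf (v : G) = s := by rw [Subgroup.orderOf_coe]; exact hv
  have hu' : orderOf (u : G) = r := by rw [Subgroup.orderOf_coe]; exact hu
  have hcomm : Commute (u : G) (v : G) := by
    have := (Subgroup.mem_centralizer_iff.1 v.2) (u : G) u.2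
    exact this
  have hcop : Nat.Coprime (orderOf (u : G)) (orderOf (v : G)) := by
    rw [hv', hu']
    exact (Nat.coprime_primes hr hs).2 (Ne.symm hsr)
  have hy := hcomm.orderOf_mul_eq_mul_orderOf_of_coprime hcop
  rw [hu', hv'] at hy
  have hys : s ∣ orderOf ((u : G) * (v : G)) := by rw [hy]; exact Dvd.intro_left r rfl
  have hyr : r ∣ orderOf ((u : G) * (v : G)) := by rw [hy]; exact Dvd.intro s rfl
  -- nonabelian
  have hna : ∃ x y : G, x * y ≠ y * x := by
    by_contra hall
    push Not at hall
    let _ : CommGroup G := { (inferInstance : Group G) with mul_comm := hall }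
    have hprime : (Nat.card G).Prime := IsSimpleGroup.prime_card
    have hdvd : r * s ∣ Nat.card G := by rw [← hy]; exact orderOf_dvd_natCard _
    rcases (Nat.dvd_prime hprime).1 hdvd with h | h
    · have := Nat.eq_one_of_mul_eq_one_right h
      exact hr.one_lt.ne' this
    · have h2 : r ∣ Nat.card G := by rw [hcard]; exact Dvd.intro_left _ rfl
      rcases (Nat.dvd_prime hprime).1 h2 with h3 | h3
      · exact hr.one_lt.ne' h3
      · rw [← h3] at h
        have : s = 1 := by
          have h4 : r * s = r * 1 := by rw [mul_one]; exact h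
          exact Nat.eq_of_mul_eq_mul_left hr.pos h4
        exact hs.one_lt.ne' this
  rcases (Nat.Prime.dvd_mul hs).1 hsG with h | h
  · have hsp : s = p := (Nat.prime_dvd_prime_iff_eq hs hp).1 (hs.dvd_of_dvd_pow h)
    subst hsp
    exact no_rs_element s q r a b hs hq hr hsr hqr hcard hna _ hys hyr
  · have hsq : s = q := (Nat.prime_dvd_prime_iff_eq hs hq).1 (hs.dvd_of_dvd_pow h)
    subst hsq
    have hcard' : Nat.card G = s ^ b * p ^ a * r := by rw [hcard, mul_comm (p ^ a)]
    exact no_rs_element s p r b a hs hp hr hsr hpr hcard' hna _ hys hyr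

end Cfsg.Agent.S0904
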