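import Cfsg.Statements.S0912
import Mathlib
import Cfsg.Agent.Lib.Helper77.Nil

set_option autoImplicit false
open Cfsg

namespace Cfsg.Agent.S0912

open Cfsg.Agent.Helper77

/-- Let B be a block of the finite group G relative to a maximal ideal M of the algebraic integers containing the prime p. Every defect group of B contains the largest normal p-subgroup O_p(G). -/
theorem result {G : Type*} [Group G] [Finite G] (p : ℕ) [Fact p.Prime] (M : Ideal Cfsg.AlgInt) (hM : Cfsg.IsPModular p M) (B : Set (Cfsg.IrrCharacter G)) (hB : Cfsg.IsPBlock M B) (D : Subgroup G) (hD : Cfsg.IsDefectGroup p M B D) : Cfsg.pCore p G ≤ D := by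
  classical
  have := Fintype.ofFinite G
  have hpr := isPrime_of_isPModular hM
  obtain ⟨g, hg, P, rfl⟩ := hD
  obtain ⟨χ, hχ⟩ := nonempty_of_isPBlock hB
  have hnot := hg.2.2 χ hχ
  apply sSup_le
  rintro N ⟨hN1, hN2⟩
  have hgN : g ∈ Subgroup.centralizer (N : Set G) := by
    by_contra hcon
    exact hnot (memLocalIdeal_centralChar_of_notMem_centralizer hM N hN2 g hcon χ.2)
  have hNC : N ≤ Subgroup.centralizer ({g} : Set G) := by
    intro u hu
    rw [Subgroup.mem_centralizer_iff]
    intro y hy
    rw [Set.mem_singleton_iff] at hy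
    subst hy
    exact (hgN u hu).symm
  have hnorm : (N.subgroupOf (Subgroup.centralizer ({g} : Set G))).Normal := inferInstance
  have hpg : IsPGroup p (N.subgroupOf (Subgroup.centralizer ({g} : Set G))) :=
    hN2.comap_subtype
  have hle := hpg.le_sylow_of_normal P
  intro u hu
  exact ⟨⟨u, hNC hu⟩, hle (Subgroup.mem_subgroupOf.mpr hu), rfl⟩

end Cfsg.Agent.S0912
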