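import Cfsg.Statements.S0916
import Mathlib
import Cfsg.Agent.Lib.Helper16.SylowIn

set_option autoImplicit false
open Cfsg

namespace Cfsg.Agent.S0916

open Cfsg.Agent.Helper16

variable {G : Type*} [Group G]

theorem mem_centralizer_singleton_iff {g x : G} :
    x ∈ Subgroup.centralizer ({g} : Set G) ↔ g * x = x * g := by
  rw [Subgroup.mem_centralizer_iff]
  simp

theorem card_centralizer_conj' [Finite G] (g c : G) :
    Nat.card (Subgroup.centralizer ({c * g * c⁻¹} : Set G)) = Nat.card (Subgroup.centralizer ({g} : Set G)) := by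
  refine Nat.card_congr ?_
  refine
    { toFun := fun a => ⟨c⁻¹ * a.1 * c, ?_⟩
      invFun := fun a => ⟨c * a.1 * c⁻¹, ?_⟩
      left_inv := ?_
      right_inv := ?_ }
  · have ha := a.2
    rw [mem_centralizer_singleton_iff] at ha ⊢
    have e1 : g * (c⁻¹ * a.1 * c) = c⁻¹ * (c * g * c⁻¹ * a.1) * c := by group
    rw [e1, ha]; group
  · have ha := a.2
    rw [mem_centralizer_singleton_iff] at ha ⊢
    have e1 : c * g * c⁻¹ * (c * a.1 * c⁻¹) = c * (g * a.1) * c⁻¹ := by group
    rw [e1, ha]; group
  · intro a; ext; simp only; group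
  · intro a; ext; simp only; group

/-- the conjugate subgroup `y⁻¹ P y`. -/
def conjSub (y : G) (P : Subgroup G) : Subgroup G := P.map (MulAut.conj y⁻¹).toMonoidHom

theorem mem_conjSub {y x : G} {P : Subgroup G} : x ∈ conjSub y P ↔ y * x * y⁻¹ ∈ P := by
  unfold conjSub
  constructor
  · rintro ⟨z, hz, rfl⟩
    have : y * ((MulAut.conj y⁻¹).toMonoidHom z) * y⁻¹ = z := by
      simp [MulAut.conj_apply, mul_assoc]
    rw [this]; exact hz
  · intro h
    exact ⟨y * x * y⁻¹, h, by simp [mul_assoc]⟩

theorem card_conjSub (y : G) (P : Subgroup G) : Nat.card (conjSub y P) = Nat.card P := by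
  unfold conjSub
  exact Subgroup.card_map_of_injective (MulAut.conj y⁻¹).injective

theorem le_centralizer_singleton {P : Subgroup G} {c : G}
    (hc : c ∈ Subgroup.centralizer (P : Set G)) : P ≤ Subgroup.centralizer ({c} : Set G) := by
  intro x hx
  rw [mem_centralizer_singleton_iff]
  rw [Subgroup.mem_centralizer_iff] at hc
  exact (hc x hx).symm

/-- Let P be a p-subgroup of the finite group G, C its centralizer and N its normalizer. Say that a conjugacy class (of G, or of N) has defect group P when P is a Sylow p-subgroup of the centralizer (in G, respectively in N) of some element of the class. Then: (i) if the class of g in G has defect group P, the elements of that class lying in C form a single N-class, again with defect group P; (ii) every N-class with defect group P arises this way from exactly one G-class with defect group P. -/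
theorem result {G : Type*} [Group G] [Finite G] (p : ℕ) [Fact p.Prime] (P : Subgroup G) (hP : IsPGroup p P) : (∀ g : G, (∃ S : Sylow p (Subgroup.centralizer ({g} : Set G)), (S : Subgroup (Subgroup.centralizer ({g} : Set G))).map (Subgroup.centralizer ({g} : Set G)).subtype = P) → (∃ c : G, IsConj g c ∧ c ∈ Subgroup.centralizer (P : Set G)) ∧ (∀ c₁ c₂ : G, IsConj g c₁ → IsConj g c₂ → c₁ ∈ Subgroup.centralizer (P : Set G) → c₂ ∈ Subgroup.centralizer (P : Set G) → ∃ n ∈ Subgroup.normalizer (P : Set G), n * c₁ * n⁻¹ = c₂)) ∧ (∀ c : G, c ∈ Subgroup.centralizer (P : Set G) → (∃ S : Sylow p (Subgroup.centralizer ({c} : Set G) ⊓ Subgroup.normalizer (P : Set G) : Subgroup G), (S : Subgroup ↥(Subgroup.centralizer ({c} : Set G) ⊓ Subgroup.normalizer (P : Set G))).map (Subgroup.centralizer ({c} : Set G) ⊓ Subgroup.normalizer (P : Set G)).subtype = P) → ∃ S : Sylow p (Subgroup.centralizer ({c} : Set G)), (S : Subgroup (Subgroup.centralizer ({c} : Set G))).map (Subgroup.centralizer ({c} : Set G)).subtype = P) := by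
  refine ⟨?_, ?_⟩
  · intro g hS
    have hS' : IsSylowIn p (Subgroup.centralizer ({g} : Set G)) P := hS
    have hcardP := hS'.card
    refine ⟨⟨g, IsConj.refl g, ?_⟩, ?_⟩
    · rw [Subgroup.mem_centralizer_iff]
      intro x hx
      have := hS'.le hx
      rw [mem_centralizer_singleton_iff] at this
      exact this.symm
    · intro c₁ c₂ h1 h2 hc1 hc2
      obtain ⟨a, ha⟩ := isConj_iff.mp h1
      obtain ⟨b, hb⟩ := isConj_iff.mp h2
      -- c₂ = y c₁ y⁻¹
      set y := b * a⁻¹ with hy
      have hyc : y * c₁ * y⁻¹ = c₂ := by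
        rw [hy, ← ha, ← hb]; group
      have hcard1 : Nat.card (Subgroup.centralizer ({c₁} : Set G))
          = Nat.card (Subgroup.centralizer ({g} : Set G)) := by
        rw [← ha]; exact card_centralizer_conj' g a
      -- P is Sylow in C(c₁)
      have hP1 : IsSylowIn p (Subgroup.centralizer ({c₁} : Set G)) P :=
        isSylowIn_of_card (le_centralizer_singleton hc1) (by rw [hcard1]; exact hcardP)
      -- y⁻¹ P y is Sylow in C(c₁)
      have hQ1 : IsSylowIn p (Subgroup.centralizer ({c₁} : Set G)) (conjSub y P) := by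
        refine isSylowIn_of_card ?_ (by rw [card_conjSub, hcard1]; exact hcardP)
        intro x hx
        rw [mem_conjSub] at hx
        have h3 := le_centralizer_singleton hc2 hx
        rw [mem_centralizer_singleton_iff] at h3 ⊢
        rw [← hyc] at h3
        -- y c₁ y⁻¹ * (y x y⁻¹) = (y x y⁻¹) * y c₁ y⁻¹
        have e1 : c₁ * x = y⁻¹ * (y * c₁ * y⁻¹ * (y * x * y⁻¹)) * y := by group
        rw [e1, h3]; group
      obtain ⟨z, hzK, hz⟩ := hQ1.exists_conj hP1
      -- x ∈ P ↔ z⁻¹ x z ∈ y⁻¹ P y ↔ y z⁻¹ x z y⁻¹ ∈ P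
      refine ⟨y * z⁻¹, ?_, ?_⟩
      · rw [Subgroup.mem_normalizer_iff]
        intro x
        rw [hz x, mem_conjSub]
        have : y * (z⁻¹ * x * z) * y⁻¹ = y * z⁻¹ * x * (y * z⁻¹)⁻¹ := by group
        rw [this]
      · rw [mem_centralizer_singleton_iff] at hzK
        rw [← hyc]
        have e1 : y * z⁻¹ * c₁ * (y * z⁻¹)⁻¹ = y * (z⁻¹ * (c₁ * z)) * y⁻¹ := by group
        rw [e1, hzK]; group
  · intro c _ hS
    exact isSylowIn_of_isSylowIn_inf_normalizer hS

end Cfsg.Agent.S0916
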