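import Cfsg.Statements.S0924
import Cfsg.Agent.S0923
import Cfsg.Agent.Lib.Helper16.SecondMain2
import Cfsg.Agent.Lib.Helper77.DefectInd
import Cfsg.Agent.Lib.Helper77.FMT
import Mathlib

set_option autoImplicit false
set_option linter.style.haveILetI false
set_option linter.unusedSectionVars false
open Cfsg

namespace Cfsg.Agent.S0924

open Cfsg.Agent.Helper16 Cfsg.Agent.Helper77

/-- A class function is the sum of its block parts. -/
theorem sum_blockPart_allBlocks {G : Type*} [Group G] [Fintype G] (M : Ideal AlgInt) [M.IsPrime]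
    {ϑ : G → ℂ} (hϑ : IsClassFunction G ϑ) (y : G) :
    ∑ b ∈ allBlocks M G, blockPart b ϑ y = ϑ y := by
  classical
  simp_rw [blockPart_eq_sum_blockCoeff _ hϑ y]
  rw [Finset.sum_comm]
  have h1 : ∀ k : G, ∑ b ∈ allBlocks M G, blockCoeff b k * ϑ (k * y) =
      (delta : G → ℂ) k * ϑ (k * y) := by
    intro k
    rw [← Finset.sum_mul, ← sum_blockCoeff_allBlocks (M := M), Finset.sum_apply]
  simp_rw [h1]
  rw [Finset.sum_eq_single (1 : G)]
  · unfold delta
    simp
  · intro k _ hk
    unfold delta
    rw [if_neg hk, zero_mul]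
  · intro h
    exact absurd (Finset.mem_univ _) h

/-- Let χ be an irreducible character of the finite group G and g ∈ G, and fix a maximal ideal M of the algebraic integers containing the prime p. If the p-part of g is contained in no defect group of the block of χ, then χ g = 0. -/
theorem result {G : Type*} [Group G] [Finite G] (p : ℕ) [Fact p.Prime] (M : Ideal Cfsg.AlgInt) (hM : Cfsg.IsPModular p M) (χ : Cfsg.IrrCharacter G) (g x : G) (hx : Cfsg.IsPPart p g x) (hD : ∀ D : Subgroup G, Cfsg.IsDefectGroup p M (Cfsg.blockOf M (χ : G → ℂ)) D → x ∉ D) : (χ : G → ℂ) g = 0 := by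
  classical
  haveI : Fintype G := Fintype.ofFinite G
  haveI : Fintype (Subgroup.centralizer ({x} : Set G)) := Fintype.ofFinite _
  haveI hpr := isPrime_of_isPModular hM
  have hp : p.Prime := hM.1
  have hχcl := isClassFunction_of_isIrrCharacter χ.2
  obtain ⟨y, hxy, hc, hxord, hy⟩ := hx
  set B := blockOf M (χ : G → ℂ) with hBdef
  have hB : IsPBlock M B := isPBlock_blockOf χ
  have hχB : χ ∈ B := mem_blockOf_self χ
  have hyC : y ∈ Subgroup.centralizer ({x} : Set G) :=
    (mem_centralizer_singleton_iff' x y).2 hc.eq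
  have hxC : x ∈ Subgroup.centralizer ({x} : Set G) := (mem_centralizer_singleton_iff' x x).2 rfl
  set y' : Subgroup.centralizer ({x} : Set G) := ⟨y, hyC⟩ with hy'
  set x' : Subgroup.centralizer ({x} : Set G) := ⟨x, hxC⟩ with hx'
  have hy'ord : ¬ p ∣ orderOf y' := by
    rw [← Subgroup.orderOf_coe]
    exact hy
  -- the class function
  set ϑ : Subgroup.centralizer ({x} : Set G) → ℂ := fun c => (χ : G → ℂ) (x * (c : G)) with hϑdef
  have hϑ : IsClassFunction (Subgroup.centralizer ({x} : Set G)) ϑ := by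
    intro c k
    show (χ : G → ℂ) (x * ((k * c * k⁻¹ : Subgroup.centralizer ({x} : Set G)) : G)) =
      (χ : G → ℂ) (x * (c : G))
    have hkx : x * (k : G) = (k : G) * x := (mem_centralizer_singleton_iff' x (k : G)).1 k.2
    have : x * ((k * c * k⁻¹ : Subgroup.centralizer ({x} : Set G)) : G) =
        (k : G) * (x * (c : G)) * (k : G)⁻¹ := by
      push_cast
      calc x * ((k : G) * (c : G) * (k : G)⁻¹) = (x * (k : G)) * (c : G) * (k : G)⁻¹ := by group
        _ = ((k : G) * x) * (c : G) * (k : G)⁻¹ := by rw [hkx]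
        _ = (k : G) * (x * (c : G)) * (k : G)⁻¹ := by group
    rw [this, hχcl]
  have hgoal : (χ : G → ℂ) g = ϑ y' := by
    rw [← hxy]
  rw [hgoal, ← sum_blockPart_allBlocks M hϑ y']
  refine Finset.sum_eq_zero fun b hb => ?_
  have hbB : IsPBlock M b := mem_allBlocks.1 hb
  refine Cfsg.Agent.S0923.result p M hM x hxord B hB χ hχB b hbB ?_ y' hy'ord
  intro hind
  -- defect groups
  obtain ⟨Db, hDb⟩ := exists_isDefectGroup (M := M) p hbB
  obtain ⟨E, hE, hDE⟩ := exists_isDefectGroup_of_isInducedBlock hM _ hind Db hDb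
  have hcentral : ∀ c : Subgroup.centralizer ({x} : Set G), c * x' = x' * c := by
    intro c
    apply Subtype.ext
    push_cast
    exact ((mem_centralizer_singleton_iff' x (c : G)).1 c.2).symm
  haveI hN : (Subgroup.zpowers x').Normal := by
    refine ⟨fun n hn c => ?_⟩
    obtain ⟨k, rfl⟩ := Subgroup.mem_zpowers_iff.1 hn
    have hcomm : Commute c (x' ^ k) := Commute.zpow_right (show Commute c x' from hcentral c) k
    have : c * x' ^ k * c⁻¹ = x' ^ k := by
      rw [hcomm.eq, mul_inv_cancel_right]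
    rw [this]
    exact Subgroup.zpow_mem_zpowers x' k
  have hNp : IsPGroup p (Subgroup.zpowers x') := by
    apply isPGroup_zpowers
    obtain ⟨k, hk⟩ := hxord
    refine ⟨k, ?_⟩
    rw [← hk, ← Subgroup.orderOf_coe]
  have hle := normal_le_of_isDefectGroup hM hbB hDb (Subgroup.zpowers x') hNp
  have hx'Db : x' ∈ Db := hle (Subgroup.mem_zpowers x')
  have hxE : x ∈ E := hDE ⟨x', hx'Db, rfl⟩
  exact hD E hE hxE

end Cfsg.Agent.S0924
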