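import Cfsg.Statements.S0926
import Cfsg.Agent.S0924
import Cfsg.Agent.Lib.Helper78.DefectClass
import Cfsg.Agent.Lib.Helper77.PairConjugacy

set_option autoImplicit false
open Cfsg

namespace Cfsg.Agent.S0926

open Cfsg.Agent.Helper77

/-- Let B be a block of the finite group G with defect group D (relative to a maximal ideal M of the algebraic integers containing p), let χ ∈ B have height zero, and let x be a p-element. Then some conjugate of x lies in D if and only if χ does not vanish on the whole p-section of x (the elements whose p-part is conjugate to x). -/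
theorem result {G : Type*} [Group G] [Finite G] (p : ℕ) [Fact p.Prime] (M : Ideal Cfsg.AlgInt) (hM : Cfsg.IsPModular p M) (B : Set (Cfsg.IrrCharacter G)) (hB : Cfsg.IsPBlock M B) (D : Subgroup G) (hD : Cfsg.IsDefectGroup p M B D) (χ : Cfsg.IrrCharacter G) (hχ : χ ∈ B) (h0 : Cfsg.blockHeight p B (χ : G → ℂ) = 0) (x : G) (hx : ∃ k : ℕ, orderOf x = p ^ k) : (∃ g : G, g * x * g⁻¹ ∈ D) ↔ ∃ u : G, (∃ z : G, Cfsg.IsPPart p u z ∧ IsConj x z) ∧ (χ : G → ℂ) u ≠ 0 := by
  classical
  haveI : Fintype G := Fintype.ofFinite G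
  haveI hpr := isPrime_of_isPModular hM
  have hp : p.Prime := hM.1
  have hBeq : B = blockOf M (χ : G → ℂ) := eq_blockOf_of_mem hB hχ
  constructor
  · rintro ⟨g, hg⟩
    obtain ⟨g₀, hg₀, P, hDP⟩ := hD
    obtain ⟨k, hk⟩ := hx
    set x' := g * x * g⁻¹ with hx'
    have hx'ord : orderOf x' = p ^ k := by
      rw [← hk]
      have : x' = MulAut.conj g x := by simp [hx', MulAut.conj_apply]
      rw [this]
      exact orderOf_injective (MulAut.conj g).toMonoidHom (MulAut.conj g).injective x
    -- x' ∈ D ≤ C(g₀)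
    have hx'c : x' ∈ Subgroup.centralizer ({g₀} : Set G) := by
      rw [hDP] at hg
      obtain ⟨w, -, hw⟩ := hg
      rw [← hw]
      exact w.2
    have hcomm : Commute x' g₀ := by
      have := Subgroup.mem_centralizer_iff.1 hx'c g₀ rfl
      exact this.symm
    have hreg : ¬ p ∣ orderOf g₀ :=
      (Cfsg.Agent.Helper74.DO.defect_le_of_blockCoeff hM hB g₀ hg₀.2.1).1
    have hht : (charDegree (χ : G → ℂ)).factorization p = Cfsg.Agent.Helper74.DO.minVal p B := by
      have h1 := Cfsg.Agent.Helper74.DO.minVal_le (p := p) hχ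
      unfold blockHeight at h0
      unfold Cfsg.Agent.Helper74.DO.minVal at h1 ⊢
      omega
    have hne := Cfsg.Agent.Helper78.not_memLocalIdeal_irr_mul_defectClass hM hB hg₀ x' hcomm k
      hx'ord hχ hht
    refine ⟨x' * g₀, ⟨x', ⟨g₀, rfl, hcomm, ⟨k, hx'ord⟩, hreg⟩, ?_⟩, ?_⟩
    · exact isConj_iff.2 ⟨g, rfl⟩
    · intro h
      apply hne
      rw [h]
      exact memLocalIdeal_zero hpr.ne_top
  · rintro ⟨u, ⟨z, hz, hxz⟩, hu⟩
    by_contra hcon
    apply hu
    apply Cfsg.Agent.S0924.result p M hM χ u z hz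
    intro E hE hzE
    rw [← hBeq] at hE
    obtain ⟨y, hy⟩ := exists_conj_eq_of_isDefectGroup hM hB hD hE
    apply hcon
    obtain ⟨c, hc⟩ := isConj_iff.1 hxz
    refine ⟨y * c, ?_⟩
    rw [← hy]
    refine ⟨z, hzE, ?_⟩
    simp only [MulEquiv.coe_toMonoidHom, MulAut.conj_apply]
    rw [← hc]
    group

end Cfsg.Agent.S0926
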