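import Cfsg.Statements.S0927
import Cfsg.Agent.Lib.Helper78.DefectClass

set_option autoImplicit false
open Cfsg

namespace Cfsg.Agent.S0927

/-- Let B be a block of the finite group G relative to a maximal ideal M of the algebraic integers containing p, let y represent a defect class of B and let P be a Sylow p-subgroup of the centralizer of y. (a) If x ∈ P and χ ∈ B has height zero, then χ (x * y) is not in the local ideal at M. (b) If x lies in the centre of P, then for every χ ∈ B the central character of χ at x * y is not in the local ideal at M. -/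
theorem result {G : Type*} [Group G] [Finite G] (p : ℕ) [Fact p.Prime] (M : Ideal Cfsg.AlgInt) (hM : Cfsg.IsPModular p M) (B : Set (Cfsg.IrrCharacter G)) (hB : Cfsg.IsPBlock M B) (y : G) (hy : Cfsg.IsDefectClass M B y) (P : Sylow p (Subgroup.centralizer ({y} : Set G))) (x : Subgroup.centralizer ({y} : Set G)) (hx : x ∈ (P : Subgroup (Subgroup.centralizer ({y} : Set G)))) : (∀ χ ∈ B, Cfsg.blockHeight p B (χ : G → ℂ) = 0 → ¬ Cfsg.MemLocalIdeal M ((χ : G → ℂ) ((x : G) * y))) ∧ ((∀ w ∈ (P : Subgroup (Subgroup.centralizer ({y} : Set G))), x * w = w * x) → ∀ χ ∈ B, ¬ Cfsg.MemLocalIdeal M (Cfsg.centralChar (χ : G → ℂ) ((x : G) * y))) := by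
  classical
  have := Fintype.ofFinite G
  have hp : p.Prime := Fact.out
  have hPp : IsPGroup p (P : Subgroup (Subgroup.centralizer ({y} : Set G))) := P.isPGroup'
  obtain ⟨k, hk⟩ := (IsPGroup.iff_orderOf.1 hPp) ⟨x, hx⟩
  have hxord : orderOf (x : G) = p ^ k := by
    rw [← hk, Subgroup.orderOf_mk, Subgroup.orderOf_coe]
  have hxy : Commute (x : G) y := by
    have := Subgroup.mem_centralizer_iff.1 x.2 y rfl
    exact this.symm
  refine ⟨fun χ hχ hht => ?_, fun hcen χ hχ => ?_⟩
  · apply Cfsg.Agent.Helper78.not_memLocalIdeal_irr_mul_defectClass hM hB hy (x : G) hxy k hxord hχ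
    have h1 := Cfsg.Agent.Helper74.DO.minVal_le (p := p) hχ
    unfold Cfsg.blockHeight at hht
    unfold Cfsg.Agent.Helper74.DO.minVal at h1 ⊢
    omega
  · have hQy : (P : Subgroup (Subgroup.centralizer ({y} : Set G))).map
        (Subgroup.centralizer ({y} : Set G)).subtype ≤ Subgroup.centralizer ({y} : Set G) := by
      rintro w ⟨w₀, -, rfl⟩
      exact w₀.2
    have hQx : (P : Subgroup (Subgroup.centralizer ({y} : Set G))).map
        (Subgroup.centralizer ({y} : Set G)).subtype ≤
        Subgroup.centralizer ({(x : G)} : Set G) := by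
      rintro w ⟨w₀, hw₀, rfl⟩
      rw [Subgroup.mem_centralizer_iff]
      intro h hh
      rw [Set.mem_singleton_iff] at hh
      subst hh
      have h2 := congrArg (fun t : Subgroup.centralizer ({y} : Set G) => (t : G)) (hcen w₀ hw₀)
      simpa using h2
    have hQcard : Nat.card ((P : Subgroup (Subgroup.centralizer ({y} : Set G))).map
        (Subgroup.centralizer ({y} : Set G)).subtype) =
        p ^ (Nat.card (Subgroup.centralizer ({y} : Set G))).factorization p := by
      rw [Subgroup.card_map_of_injective (Subgroup.subtype_injective _)]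
      exact P.card_eq_multiplicity
    exact Cfsg.Agent.Helper78.not_memLocalIdeal_centralChar_mul_defectClass hM hB hy (x : G) hxy k
      hxord _ hQy hQx hQcard hχ

end Cfsg.Agent.S0927
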