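import Cfsg.Statements.S0929
import Cfsg.Agent.Lib.Helper78.NormalDefect
import Cfsg.Agent.Lib.Helper77.FMT

set_option autoImplicit false
open Cfsg

namespace Cfsg.Agent.S0929

/-- Let B be a block of the finite group G with defect group P (relative to a maximal ideal M of the algebraic integers containing p), and let g be an element at which the central character of some member of B is not in the local ideal at M. Then some conjugate x of g centralizes P and has its p-part in the centre of P. -/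
theorem result {G : Type*} [Group G] [Finite G] (p : ℕ) [Fact p.Prime] (M : Ideal Cfsg.AlgInt) (hM : Cfsg.IsPModular p M) (B : Set (Cfsg.IrrCharacter G)) (hB : Cfsg.IsPBlock M B) (P : Subgroup G) (hP : Cfsg.IsDefectGroup p M B P) (g : G) (hg : ∃ χ ∈ B, ¬ Cfsg.MemLocalIdeal M (Cfsg.centralChar (χ : G → ℂ) g)) : ∃ x : G, IsConj g x ∧ x ∈ Subgroup.centralizer (P : Set G) ∧ ∀ z : G, Cfsg.IsPPart p x z → z ∈ P ∧ ∀ w ∈ P, z * w = w * z := by
  classical
  have := Fintype.ofFinite G
  have hp : p.Prime := Fact.out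
  have hpr := Cfsg.Agent.Helper77.isPrime_of_isPModular hM
  have hPp : IsPGroup p P := Cfsg.Agent.Helper77.isPGroup_of_isDefectGroup hP
  have : Fintype (Subgroup.normalizer (P : Set G)) := Fintype.ofFinite _
  obtain ⟨b, hb, hbD, hind⟩ := Cfsg.Agent.Helper77.fmt_exists hM P hPp hB hP
  have hPN : P ≤ Subgroup.normalizer (P : Set G) := Subgroup.le_normalizer
  have hnorm : (P.subgroupOf (Subgroup.normalizer (P : Set G))).Normal :=
    (Subgroup.normal_subgroupOf_iff_le_normalizer hPN).mpr le_rfl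
  obtain ⟨ξ, hξ, hvan⟩ := Cfsg.Agent.Helper78.exists_mem_block_vanish hM
    (P.subgroupOf (Subgroup.normalizer (P : Set G))) hb hbD
  obtain ⟨χ, hχ, hχg⟩ := hg
  have h1 := hind.2.2 ξ hξ χ hχ g
  have h2 := Cfsg.Agent.Helper77.memLocalIdeal_induced_sub_brauer hM P
    (Subgroup.normalizer (P : Set G)) hPp hPN le_rfl ξ.2 g
  have h3 : ¬ Cfsg.MemLocalIdeal M
      (Cfsg.brauerCentralChar P (Subgroup.normalizer (P : Set G)) (ξ : _ → ℂ) g) := by
    intro hcon
    apply hχg
    have := Cfsg.Agent.Helper77.memLocalIdeal_sub (Cfsg.Agent.Helper77.memLocalIdeal_add hcon h2) h1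
    convert this using 1
    ring
  have h4 : Cfsg.brauerCentralChar P (Subgroup.normalizer (P : Set G)) (ξ : _ → ℂ) g ≠ 0 := by
    intro h0
    apply h3
    rw [h0]
    exact Cfsg.Agent.Helper77.memLocalIdeal_zero hpr.ne_top
  unfold Cfsg.brauerCentralChar at h4
  obtain ⟨h, hh, hne⟩ := exists_ne_zero_of_finsum_mem_ne_zero h4
  refine ⟨(h : G), hh.1, hh.2, ?_⟩
  intro z hz
  have hzN : z ∈ Subgroup.normalizer (P : Set G) :=
    Cfsg.Agent.Helper78.isPPart_mem_of_mem hz _ h.2
  have hz' : Cfsg.IsPPart p h (⟨z, hzN⟩ : Subgroup.normalizer (P : Set G)) := by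
    obtain ⟨y, hxy, hc, ⟨k, hk⟩, hy⟩ := hz
    have hyN : y ∈ Subgroup.normalizer (P : Set G) := by
      have e : y = z⁻¹ * (h : G) := by rw [← hxy]; group
      rw [e]
      exact Subgroup.mul_mem _ (Subgroup.inv_mem _ hzN) h.2
    refine ⟨⟨y, hyN⟩, Subtype.ext hxy, Subtype.ext hc.eq, ⟨k, ?_⟩, ?_⟩
    · rw [← hk]
      exact Subgroup.orderOf_mk z hzN
    · rwa [Subgroup.orderOf_mk]
  constructor
  · by_contra hzP
    apply hne
    rw [hvan h ⟨z, hzN⟩ hz' (fun hmem => hzP (Subgroup.mem_subgroupOf.1 hmem)), zero_div]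
  · intro w hw
    obtain ⟨m, hm⟩ := Cfsg.Agent.Helper78.isPPart_exists_pow hz
    have hcent := Subgroup.mem_centralizer_iff.1 hh.2 w hw
    have hcomm : Commute (h : G) w := hcent.symm
    rw [← hm]
    exact (hcomm.pow_left m).eq

end Cfsg.Agent.S0929
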