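import Cfsg.Statements.S0930
import Cfsg.Agent.S0929

set_option autoImplicit false
open Cfsg

namespace Cfsg.Agent.S0930

/-- Let H be a subgroup of the finite group G and fix a maximal ideal M of the algebraic integers containing the prime p. If the block b of H with defect group D induces the block B of G with defect group P, then every element of the centre of P is conjugate in G to an element of the centre of D. -/
theorem result {G : Type*} [Group G] [Finite G] (p : ℕ) [Fact p.Prime] (M : Ideal Cfsg.AlgInt) (hM : Cfsg.IsPModular p M) (H : Subgroup G) (b : Set (Cfsg.IrrCharacter H)) (B : Set (Cfsg.IrrCharacter G)) (hind : Cfsg.IsInducedBlock M H b B) (D : Subgroup H) (hD : Cfsg.IsDefectGroup p M b D) (P : Subgroup G) (hP : Cfsg.IsDefectGroup p M B P) (x : G) (hx : x ∈ P) (hxc : ∀ w ∈ P, x * w = w * x) : ∃ g : G, g * x * g⁻¹ ∈ D.map H.subtype ∧ ∀ w ∈ D.map H.subtype, (g * x * g⁻¹) * w = w * (g * x * g⁻¹) := by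
  classical
  have := Fintype.ofFinite G
  have : Fintype H := Fintype.ofFinite H
  have : Fintype (ConjClasses H) := Fintype.ofFinite _
  have hp : p.Prime := Fact.out
  have hpr := Cfsg.Agent.Helper77.isPrime_of_isPModular hM
  obtain ⟨hb, hB, hcong⟩ := hind
  obtain ⟨y₁, hy₁, P₁, rfl⟩ := hP
  obtain ⟨ξ, hξ⟩ := Cfsg.Agent.Helper77.nonempty_of_isPBlock hb
  obtain ⟨χ, hχ⟩ := Cfsg.Agent.Helper77.nonempty_of_isPBlock hB
  -- `x` is a `p`-element commuting with `y₁`
  have hPp : IsPGroup p ((P₁ : Subgroup (Subgroup.centralizer ({y₁} : Set G))).map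
      (Subgroup.centralizer ({y₁} : Set G)).subtype) :=
    Cfsg.Agent.Helper77.sylow_map_isPGroup y₁ P₁
  obtain ⟨k, hk⟩ := (IsPGroup.iff_orderOf.1 hPp) ⟨x, hx⟩
  have hxord : orderOf x = p ^ k := by
    rw [← hk, Subgroup.orderOf_mk]
  have hPy : (P₁ : Subgroup (Subgroup.centralizer ({y₁} : Set G))).map
      (Subgroup.centralizer ({y₁} : Set G)).subtype ≤ Subgroup.centralizer ({y₁} : Set G) :=
    Cfsg.Agent.Helper77.sylow_map_le_centralizer y₁ P₁
  have hxy : Commute x y₁ := by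
    have := Subgroup.mem_centralizer_iff.1 (hPy hx) y₁ rfl
    exact this.symm
  have hPx : (P₁ : Subgroup (Subgroup.centralizer ({y₁} : Set G))).map
      (Subgroup.centralizer ({y₁} : Set G)).subtype ≤ Subgroup.centralizer ({x} : Set G) := by
    intro w hw
    rw [Subgroup.mem_centralizer_iff]
    intro h hh
    rw [Set.mem_singleton_iff] at hh
    subst hh
    exact hxc w hw
  have hPcard : Nat.card ((P₁ : Subgroup (Subgroup.centralizer ({y₁} : Set G))).map
      (Subgroup.centralizer ({y₁} : Set G)).subtype) =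
      p ^ (Nat.card (Subgroup.centralizer ({y₁} : Set G))).factorization p := by
    rw [Subgroup.card_map_of_injective (Subgroup.subtype_injective _)]
    exact P₁.card_eq_multiplicity
  have hnot := Cfsg.Agent.Helper78.not_memLocalIdeal_centralChar_mul_defectClass hM hB hy₁ x hxy k
    hxord _ hPy hPx hPcard hχ
  have hy₁reg : ¬ p ∣ orderOf y₁ :=
    (Cfsg.Agent.Helper74.DO.defect_le_of_blockCoeff hM hB y₁ hy₁.2.1).1
  -- the induced central character does not vanish
  have h1 := hcong ξ hξ χ hχ (x * y₁)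
  have h2 : ¬ Cfsg.MemLocalIdeal M (Cfsg.inducedCentralChar H (ξ : H → ℂ) (x * y₁)) := by
    intro hcon
    apply hnot
    have := Cfsg.Agent.Helper77.memLocalIdeal_sub hcon h1
    rwa [sub_sub_cancel] at this
  rw [Cfsg.Agent.Helper77.inducedCentralChar_eq_omega,
    Cfsg.Agent.Helper77.omega_eq_sum_conjClasses
      (Cfsg.Agent.Helper77.isClassFunction_of_isIrrCharacter ξ.2)
      (Cfsg.Agent.Helper77.isClassFunction_restr H
        (fun u _ z => Cfsg.Agent.Helper77.isClassFunction_classInd (x * y₁) z u))] at h2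
  have h3 : ∃ K : ConjClasses H, ¬ Cfsg.MemLocalIdeal M
      (Cfsg.Agent.Helper77.restr H (Cfsg.Agent.Helper77.classInd (x * y₁)) (Quotient.out K) *
        Cfsg.centralChar (ξ : H → ℂ) (Quotient.out K)) := by
    by_contra hcon
    push Not at hcon
    exact h2 (Cfsg.Agent.Helper77.memLocalIdeal_sum _ _ fun K _ => hcon K)
  obtain ⟨K, hK⟩ := h3
  have hconjK : IsConj (x * y₁) ((Quotient.out K : H) : G) := by
    by_contra hnc
    apply hK
    have : Cfsg.Agent.Helper77.restr H (Cfsg.Agent.Helper77.classInd (x * y₁)) (Quotient.out K) = 0 := by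
      unfold Cfsg.Agent.Helper77.restr Cfsg.Agent.Helper77.classInd
      rw [if_neg hnc]
    rw [this, zero_mul]
    exact Cfsg.Agent.Helper77.memLocalIdeal_zero hpr.ne_top
  have hcK : ¬ Cfsg.MemLocalIdeal M (Cfsg.centralChar (ξ : H → ℂ) (Quotient.out K)) := by
    intro hcon
    apply hK
    have hR : Cfsg.MemLocalRing M
        (Cfsg.Agent.Helper77.restr H (Cfsg.Agent.Helper77.classInd (x * y₁)) (Quotient.out K)) := by
      unfold Cfsg.Agent.Helper77.restr Cfsg.Agent.Helper77.classInd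
      rw [if_pos hconjK]
      exact Cfsg.Agent.Helper77.memLocalRing_one hpr.ne_top
    exact Cfsg.Agent.Helper77.memLocalIdeal_mul_left hR hcon
  -- apply S0929 inside `H`
  obtain ⟨x', hx'conj, hx'cent, hx'part⟩ := Cfsg.Agent.S0929.result p M hM b hb D hD (Quotient.out K)
    ⟨ξ, hξ, hcK⟩
  have hconj2 : IsConj (x * y₁) (x' : G) :=
    hconjK.trans (Cfsg.Agent.Helper77.isConj_coe_of_isConj hx'conj)
  obtain ⟨c, hc⟩ := isConj_iff.1 hconj2
  -- the `p`-part of `x'`
  have hpart : Cfsg.IsPPart p (x' : G) (c * x * c⁻¹) := by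
    refine ⟨c * y₁ * c⁻¹, ?_, ?_, ⟨k, ?_⟩, ?_⟩
    · rw [← hc]; group
    · show (c * x * c⁻¹) * (c * y₁ * c⁻¹) = (c * y₁ * c⁻¹) * (c * x * c⁻¹)
      have e1 : (c * x * c⁻¹) * (c * y₁ * c⁻¹) = c * (x * y₁) * c⁻¹ := by group
      have e2 : (c * y₁ * c⁻¹) * (c * x * c⁻¹) = c * (y₁ * x) * c⁻¹ := by group
      rw [e1, e2, hxy.eq]
    · rw [Cfsg.Agent.Helper78.orderOf_conj_eq, hxord]
    · rwa [Cfsg.Agent.Helper78.orderOf_conj_eq]
  have hzH : c * x * c⁻¹ ∈ H := Cfsg.Agent.Helper78.isPPart_mem_of_mem hpart H x'.2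
  have hpart' : Cfsg.IsPPart p x' (⟨c * x * c⁻¹, hzH⟩ : H) := by
    obtain ⟨y, hzy, hcy, ⟨k', hk'⟩, hy⟩ := hpart
    have hyH : y ∈ H := by
      have e : y = (c * x * c⁻¹)⁻¹ * (x' : G) := by rw [← hzy]; group
      rw [e]
      exact H.mul_mem (H.inv_mem hzH) x'.2
    refine ⟨⟨y, hyH⟩, Subtype.ext hzy, Subtype.ext hcy.eq, ⟨k', ?_⟩, ?_⟩
    · rw [← hk']
      exact Subgroup.orderOf_mk _ hzH
    · rwa [Subgroup.orderOf_mk]
  obtain ⟨hzD, hzcomm⟩ := hx'part _ hpart'
  refine ⟨c, ⟨⟨c * x * c⁻¹, hzH⟩, hzD, rfl⟩, ?_⟩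
  rintro w ⟨w₀, hw₀, rfl⟩
  have := congrArg (fun t : H => (t : G)) (hzcomm w₀ hw₀)
  exact this

end Cfsg.Agent.S0930
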