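import Cfsg.Statements.S0931
import Cfsg.Agent.Lib.Helper78.DefectClass
import Cfsg.Agent.Lib.Helper77.DefectInd
import Cfsg.Agent.Lib.Helper74.DefectZero

set_option autoImplicit false
open Cfsg

namespace Cfsg.Agent.S0931

/-- Let H be a subgroup of the finite group G and fix a maximal ideal M of the algebraic integers containing the prime p. If the block b of H induces the block B of G, then b has defect 0 if and only if B has defect 0. -/
theorem result {G : Type*} [Group G] [Finite G] (p : ℕ) [Fact p.Prime] (M : Ideal Cfsg.AlgInt) (hM : Cfsg.IsPModular p M) (H : Subgroup G) (b : Set (Cfsg.IrrCharacter H)) (B : Set (Cfsg.IrrCharacter G)) (hind : Cfsg.IsInducedBlock M H b B) : Cfsg.blockDefect p b = 0 ↔ Cfsg.blockDefect p B = 0 := by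
  classical
  have := Fintype.ofFinite G
  have hp : p.Prime := Fact.out
  have hpr := Cfsg.Agent.Helper77.isPrime_of_isPModular hM
  obtain ⟨hb, hB, hcong⟩ := hind
  constructor
  · -- `b` of defect zero: the induced central character vanishes at `p`-singular elements
    intro h0
    by_contra hne
    have hd : 0 < Cfsg.blockDefect p B := Nat.pos_of_ne_zero hne
    obtain ⟨g, hg, hgB⟩ :=
      Cfsg.Agent.Helper78.exists_singular_not_memLocalIdeal_centralChar hM hB hd
    obtain ⟨ξ, hξ⟩ := Cfsg.Agent.Helper77.nonempty_of_isPBlock hb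
    obtain ⟨χ, hχ⟩ := Cfsg.Agent.Helper77.nonempty_of_isPBlock hB
    apply hgB χ hχ
    have hzero : Cfsg.inducedCentralChar H (ξ : H → ℂ) g = 0 := by
      unfold Cfsg.inducedCentralChar
      apply finsum_mem_eq_zero_of_forall_eq_zero
      intro h hh
      have hconj : IsConj g (h : G) := hh
      have hord : orderOf h = orderOf g := by
        obtain ⟨c, hc⟩ := isConj_iff.1 hconj
        rw [← Subgroup.orderOf_coe, ← hc, Cfsg.Agent.Helper78.orderOf_conj_eq]
      have hdeg : p ^ (Nat.card H).factorization p ∣ Cfsg.charDegree (ξ : H → ℂ) := by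
        have h1 := Cfsg.Agent.Helper74.DO.minVal_le (p := p) hξ
        rw [Cfsg.Agent.Helper74.DO.blockDefect_eq] at h0
        have h2 : (Nat.card H).factorization p ≤
            (Cfsg.charDegree (ξ : H → ℂ)).factorization p := by omega
        exact (pow_dvd_pow p h2).trans (Nat.ordProj_dvd _ p)
      rw [Cfsg.Agent.Helper74.DZ.irr_vanish_of_defect_zero ξ p hp hdeg h (hord ▸ hg), zero_div]
    have h1 := hcong ξ hξ χ hχ g
    rw [hzero, zero_sub] at h1
    have := Cfsg.Agent.Helper77.memLocalIdeal_neg h1
    rwa [neg_neg] at this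
  · -- defect groups of `b` embed in defect groups of `B`
    intro h0
    obtain ⟨h₀, hh₀⟩ := Cfsg.Agent.Helper77.exists_isDefectClass hb
    obtain ⟨P₀⟩ : Nonempty (Sylow p (Subgroup.centralizer ({h₀} : Set H))) := inferInstance
    have hD : Cfsg.IsDefectGroup p M b ((P₀ : Subgroup (Subgroup.centralizer ({h₀} : Set H))).map
        (Subgroup.centralizer ({h₀} : Set H)).subtype) := ⟨h₀, hh₀, P₀, rfl⟩
    obtain ⟨E, hE, hDE⟩ := Cfsg.Agent.Helper77.exists_isDefectGroup_of_isInducedBlock hM H
      ⟨hb, hB, hcong⟩ _ hD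
    have hEcard := Cfsg.Agent.Helper74.DO.card_defectGroup hM hB E hE
    have hDcard := Cfsg.Agent.Helper74.DO.card_defectGroup hM hb _ hD
    rw [h0, pow_zero] at hEcard
    have hdvd := Subgroup.card_dvd_of_le hDE
    rw [hEcard, Subgroup.card_map_of_injective (Subgroup.subtype_injective _), hDcard,
      Nat.dvd_one] at hdvd
    by_contra hne
    have : 1 < p ^ Cfsg.blockDefect p b := Nat.one_lt_pow hne hp.one_lt
    omega

end Cfsg.Agent.S0931
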