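import Cfsg.Statements.S0933
import Mathlib
import Cfsg.Agent.Lib.Helper16.BlockBasic
import Cfsg.Agent.S0932

set_option autoImplicit false
open Cfsg

namespace Cfsg.Agent.S0933

open Cfsg.Agent.Helper16 Cfsg.Agent.Helper77

/-- Let H be a subgroup of the finite group G and ξ an irreducible character of H such that the induced function ξ^G is an irreducible character of G. Then, relative to any maximal ideal M of the algebraic integers containing the prime p, the block of ξ induces the block of ξ^G. -/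
theorem result {G : Type*} [Group G] [Fintype G] (p : ℕ) [Fact p.Prime] (M : Ideal Cfsg.AlgInt) (hM : Cfsg.IsPModular p M) (H : Subgroup G) (ξ : Cfsg.IrrCharacter H) (hind : Cfsg.IsIrrCharacter G (Cfsg.indFun H (ξ : H → ℂ))) : Cfsg.IsInducedBlock M H (Cfsg.blockOf M (ξ : H → ℂ)) (Cfsg.blockOf M (Cfsg.indFun H (ξ : H → ℂ))) := by
  classical
  have := isPrime_of_isPModular hM
  have : Fintype H := Fintype.ofFinite H
  refine ⟨⟨ξ, rfl⟩, ⟨⟨_, hind⟩, rfl⟩, ?_⟩
  intro ξ' hξ' χ' hχ' g
  have h1 : SameBlock M (ξ : H → ℂ) (ξ' : H → ℂ) := hξ'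
  have h2 : SameBlock M (Cfsg.indFun H (ξ : H → ℂ)) (χ' : G → ℂ) := hχ'
  have e1 := inducedCentralChar_sub_memLocalIdeal hM H
    (isClassFunction_of_isIrrCharacter ξ.2) (isClassFunction_of_isIrrCharacter ξ'.2) h1 g
  have e2 := Cfsg.Agent.S0932.result H (ξ : H → ℂ) (Cfsg.Agent.Helper80.isCharacter_of_irr ξ.2) g
  have e3 := h2 g
  have : inducedCentralChar H (ξ' : H → ℂ) g - centralChar (χ' : G → ℂ) g
      = -(inducedCentralChar H (ξ : H → ℂ) g - inducedCentralChar H (ξ' : H → ℂ) g)
        + (centralChar (Cfsg.indFun H (ξ : H → ℂ)) g - centralChar (χ' : G → ℂ) g) := by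
    rw [← e2]; ring
  rw [this]
  exact memLocalIdeal_add (memLocalIdeal_neg e1) e3

end Cfsg.Agent.S0933
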