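import Mathlib
import Cfsg.Statements.S0934
import Cfsg.Agent.Lib.Helper16.Passman

set_option autoImplicit false
open Cfsg

namespace Cfsg.Agent.S0934

open Cfsg.Agent.Helper16 Cfsg.Agent.Helper77
open scoped ComplexConjugate

/-- Let H be a subgroup of the finite group G and fix a maximal ideal M of the algebraic integers containing the prime p. If the block b of H induces the block B of G and ξ ∈ b, then there is χ ∈ B whose restriction to H has nonzero inner product with ξ. -/
theorem result {G : Type*} [Group G] [Fintype G] (p : ℕ) [Fact p.Prime] (M : Ideal Cfsg.AlgInt) (hM : Cfsg.IsPModular p M) (H : Subgroup G) [Fintype H] (b : Set (Cfsg.IrrCharacter H)) (B : Set (Cfsg.IrrCharacter G)) (hind : Cfsg.IsInducedBlock M H b B) (ξ : Cfsg.IrrCharacter H) (hξ : ξ ∈ b) : ∃ χ ∈ B, Cfsg.classInner (fun h : H => (χ : G → ℂ) h) (ξ : H → ℂ) ≠ 0 := by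
  classical
  have := isPrime_of_isPModular hM
  have hne := ne_top_of_isPModular hM
  obtain ⟨hb, hB, hcong⟩ := hind
  obtain ⟨χ₀, hχ₀⟩ := Cfsg.Agent.Helper77.nonempty_of_isPBlock hB
  by_contra hcon
  push Not at hcon
  have hecl := isClassFunction_blockCoeff B
  have heR : ∀ g, MemLocalRing M (blockCoeff B g) := memLocalRing_blockCoeff hB
  have key : MemLocalIdeal M (omega (ξ : H → ℂ) (fun h : H => blockCoeff B h)
      - omega (χ₀ : G → ℂ) (blockCoeff B)) := by
    rw [← sum_conjClasses_mul_inducedCentralChar H (ξ : H → ℂ) _ hecl,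
      omega_eq_sum_conjClasses _ _ (isClassFunction_of_isIrrCharacter' χ₀.2) hecl,
      ← Finset.sum_sub_distrib]
    apply memLocalIdeal_sum
    intro c _
    rw [← mul_sub]
    exact memLocalIdeal_mul_left (heR _) (hcong ξ hξ χ₀ hχ₀ c.out)
  rw [omega_blockCoeff, if_pos hχ₀] at key
  have hsum : ∀ ψ ∈ B, ∑ h : H, conj ((ψ : G → ℂ) h) * (ξ : H → ℂ) h = 0 := by
    intro ψ hψ
    have h0 := hcon ψ hψ
    unfold classInner at h0
    have hH : (Nat.card H : ℂ)⁻¹ ≠ 0 := by
      apply inv_ne_zero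
      exact_mod_cast Nat.card_pos.ne'
    have h1 := (mul_eq_zero.mp h0).resolve_left hH
    have h2 := congrArg conj h1
    rw [map_sum, map_zero] at h2
    rw [← h2]
    refine Finset.sum_congr rfl fun h _ => ?_
    rw [map_mul, Complex.conj_conj]
  have hzero : omega (ξ : H → ℂ) (fun h : H => blockCoeff B h) = 0 := by
    unfold omega
    simp only [blockCoeff_eq_sum]
    have : ∑ x : H, (Nat.card G : ℂ)⁻¹ *
        (∑ ψ ∈ (Set.toFinite B).toFinset, (ψ : G → ℂ) 1 * conj ((ψ : G → ℂ) x)) * (ξ : H → ℂ) x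
        = (Nat.card G : ℂ)⁻¹ * ∑ ψ ∈ (Set.toFinite B).toFinset, (ψ : G → ℂ) 1 *
            ∑ x : H, conj ((ψ : G → ℂ) x) * (ξ : H → ℂ) x := by
      simp only [Finset.mul_sum, Finset.sum_mul]
      rw [Finset.sum_comm]
      refine Finset.sum_congr rfl fun ψ _ => ?_
      refine Finset.sum_congr rfl fun x _ => ?_
      ring
    rw [this, Finset.sum_eq_zero, mul_zero, zero_div]
    intro ψ hψ
    rw [hsum ψ ((Set.Finite.mem_toFinset _).mp hψ), mul_zero]
  rw [hzero, zero_sub] at key
  have := memLocalIdeal_neg key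
  rw [neg_neg] at this
  exact not_memLocalIdeal_one this

end Cfsg.Agent.S0934
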