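import Cfsg.Statements.S0935
import Cfsg.Agent.Lib.Helper16.RegNorm

set_option autoImplicit false
set_option linter.style.haveILetI false
open Cfsg

namespace Cfsg.Agent.S0935

open scoped ComplexConjugate
open Cfsg.Agent.Helper16 Cfsg.Agent.Helper77 Cfsg.Agent.Helper78

/-- If `b^G = B`, `χ ∉ B` and `ψ ∈ b`, then `∑_{h ∈ H p-regular} ψ(h) conj χ(h) / ψ(1)` lies in
the local ideal. -/
theorem memLocalIdeal_regSum_of_induced_of_notMem {G : Type*} [Group G] [Fintype G] {p : ℕ}
    [Fact p.Prime] {M : Ideal AlgInt} (hM : IsPModular p M) (H : Subgroup G) [Fintype H]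
    {b : Set (IrrCharacter H)} {B : Set (IrrCharacter G)} (hind : IsInducedBlock M H b B)
    {χ : IrrCharacter G} (hχ : χ ∉ B) {ψ : IrrCharacter H} (hψ : ψ ∈ b) :
    MemLocalIdeal M
      (regSum p (ψ : H → ℂ) (fun h : H => (χ : G → ℂ) h) / (ψ : H → ℂ) 1) := by
  classical
  haveI hpr := isPrime_of_isPModular hM
  obtain ⟨χ', hχ'⟩ := nonempty_of_isPBlock hind.2.1
  have hcong := omega_restr_congr_of_isInducedBlock H hind hψ hχ'
    (isClassFunction_regConj p (isClassFunction_of_isIrrCharacter χ.2))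
    (isRValued_regConj (M := M) (p := p) χ)
  have h1 : restr H (fun g : G => if p ∣ orderOf g then 0 else conj ((χ : G → ℂ) g)) =
      (fun h : H => if p ∣ orderOf h then 0 else conj ((χ : G → ℂ) h)) := by
    funext h
    unfold restr
    simp only [Subgroup.orderOf_coe]
  rw [h1, ← regSum_div_eq_omega, ← regSum_div_eq_omega] at hcong
  have hns : ¬ SameBlock M (χ' : G → ℂ) (χ : G → ℂ) := fun h =>
    hχ (Cfsg.Agent.Helper77.mem_of_sameBlock hind.2.1 hχ' h)
  have h0' : regSum p (χ' : G → ℂ) (χ : G → ℂ) = 0 :=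
    sum_regular_eq_zero_of_not_sameBlock hM χ' χ hns
  rw [h0', zero_div, sub_zero] at hcong
  exact hcong

/-- Let H be a subgroup of the finite group G and χ an irreducible character of G whose restriction to H is irreducible; fix a maximal ideal M of the algebraic integers containing the prime p and suppose χ and its restriction have height zero in their blocks B and b. If e is a block of H whose induced block is defined, then e induces B if and only if e = b. -/
theorem result {G : Type*} [Group G] [Finite G] (p : ℕ) [Fact p.Prime] (M : Ideal Cfsg.AlgInt) (hM : Cfsg.IsPModular p M) (H : Subgroup G) (χ : Cfsg.IrrCharacter G) (hres : Cfsg.IsIrrCharacter H (fun h : H => (χ : G → ℂ) h)) (hχ0 : Cfsg.blockHeight p (Cfsg.blockOf M (χ : G → ℂ)) (χ : G → ℂ) = 0) (hψ0 : Cfsg.blockHeight p (Cfsg.blockOf M (fun h : H => (χ : G → ℂ) h)) (fun h : H => (χ : G → ℂ) h) = 0) (e : Set (Cfsg.IrrCharacter H)) (he : Cfsg.InducedBlockDefined M H e) : Cfsg.IsInducedBlock M H e (Cfsg.blockOf M (χ :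 G → ℂ)) ↔ e = Cfsg.blockOf M (fun h : H => (χ : G → ℂ) h) := by
  classical
  haveI : Fintype G := Fintype.ofFinite G
  haveI : Fintype H := Fintype.ofFinite H
  haveI hpr := isPrime_of_isPModular hM
  set ψ : IrrCharacter H := ⟨fun h : H => (χ : G → ℂ) h, hres⟩ with hψdef
  have hψcoe : (ψ : H → ℂ) = fun h : H => (χ : G → ℂ) h := rfl
  have hBχ : IsPBlock M (blockOf M (χ : G → ℂ)) := isPBlock_blockOf χ
  have hbψ : IsPBlock M (blockOf M (ψ : H → ℂ)) := isPBlock_blockOf ψ
  have hχmem : χ ∈ blockOf M (χ : G → ℂ) := mem_blockOf_self χ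
  have hψmem : ψ ∈ blockOf M (ψ : H → ℂ) := mem_blockOf_self ψ
  have hhtχ : (charDegree (χ : G → ℂ)).factorization p =
      Cfsg.Agent.Helper74.DO.minVal p (blockOf M (χ : G → ℂ)) := by
    have h1 := Cfsg.Agent.Helper74.DO.minVal_le (p := p) hχmem
    unfold blockHeight at hχ0
    unfold Cfsg.Agent.Helper74.DO.minVal at h1 ⊢
    omega
  have hhtψ : (charDegree (ψ : H → ℂ)).factorization p =
      Cfsg.Agent.Helper74.DO.minVal p (blockOf M (ψ : H → ℂ)) := by
    have h1 := Cfsg.Agent.Helper74.DO.minVal_le (p := p) hψmem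
    rw [hψcoe] at h1 ⊢
    unfold blockHeight at hψ0
    unfold Cfsg.Agent.Helper74.DO.minVal at h1 ⊢
    omega
  constructor
  · intro hind
    obtain ⟨ψ₀, hψ₀⟩ := nonempty_of_isPBlock hind.1
    have hB := not_memLocalIdeal_regSum_of_induced hM H hind hχmem hhtχ hψ₀
    have hsame : SameBlock M (ψ₀ : H → ℂ) (ψ : H → ℂ) := by
      by_contra hns
      apply hB
      have h0' : regSum p (ψ₀ : H → ℂ) (ψ : H → ℂ) = 0 :=
        sum_regular_eq_zero_of_not_sameBlock hM ψ₀ ψ hns
      rw [hψcoe] at h0'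
      rw [h0', zero_div]
      exact memLocalIdeal_zero hpr.ne_top
    have hψe : ψ ∈ e := Cfsg.Agent.Helper77.mem_of_sameBlock hind.1 hψ₀ hsame
    exact eq_blockOf_of_mem hind.1 hψe
  · intro heq
    obtain ⟨B', hind'⟩ := he
    have hψe : ψ ∈ e := by
      rw [heq]; exact hψmem
    have hχB' : χ ∈ B' := by
      by_contra hχ
      have h1 := memLocalIdeal_regSum_of_induced_of_notMem hM H hind' hχ hψe
      exact not_memLocalIdeal_regSum_self hM hbψ hψmem hhtψ h1
    have : B' = blockOf M (χ : G → ℂ) := eq_blockOf_of_mem hind'.2.1 hχB'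
    rw [← this]
    exact hind'

end Cfsg.Agent.S0935
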