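import Cfsg.Statements.S0936
-- import your own Cfsg.Agent.* helpers here
import Cfsg.Agent.Lib.Helper76.ThirdMain

set_option autoImplicit false
set_option linter.style.haveILetI false
open Cfsg

namespace Cfsg.Agent.S0936

/-- Brauer's Third Main Theorem. Let H be a subgroup of the finite group G and b a block of H (relative to a maximal ideal M of the algebraic integers containing the prime p) whose induced block in G is defined. Then b induces the principal block of G if and only if b is the principal block of H. -/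
theorem result {G : Type*} [Group G] [Finite G] (p : ℕ) [Fact p.Prime] (M : Ideal Cfsg.AlgInt) (hM : Cfsg.IsPModular p M) (H : Subgroup G) (b : Set (Cfsg.IrrCharacter H)) (hdef : Cfsg.InducedBlockDefined M H b) : Cfsg.IsInducedBlock M H b (Cfsg.principalBlock M G) ↔ b = Cfsg.principalBlock M H := by
  haveI hpr := Cfsg.Agent.Helper77.isPrime_of_isPModular hM
  constructor
  · intro hind
    obtain ⟨hb, hB, hcong⟩ := hind
    obtain ⟨ξ, hξ⟩ := Cfsg.Agent.Helper77.nonempty_of_isPBlock hb
    have hχ₀ : Cfsg.Agent.Helper77.trivIrr G ∈ Cfsg.principalBlock M G :=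
      Cfsg.Agent.Helper77.trivIrr_mem_principalBlock M
    have hξprin : ξ ∈ Cfsg.principalBlock M H :=
      (Cfsg.Agent.Helper76.ThirdMainGen.mem_principalBlock_iff_of_cong hM H ξ
        (Cfsg.Agent.Helper77.trivIrr G) (fun g => hcong ξ hξ _ hχ₀ g)).mpr hχ₀
    exact Cfsg.Agent.Helper77.eq_of_isPBlock_of_mem hb
      (Cfsg.Agent.Helper77.isPBlock_principalBlock M) hξ hξprin
  · intro hbeq
    obtain ⟨B, hind⟩ := hdef
    obtain ⟨hb, hB, hcong⟩ := hind
    obtain ⟨χ, hχ⟩ := Cfsg.Agent.Helper77.nonempty_of_isPBlock hB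
    have hξ₀ : Cfsg.Agent.Helper77.trivIrr H ∈ b := by
      rw [hbeq]
      exact Cfsg.Agent.Helper77.trivIrr_mem_principalBlock M
    have hξ₀' : Cfsg.Agent.Helper77.trivIrr H ∈ Cfsg.principalBlock M H :=
      Cfsg.Agent.Helper77.trivIrr_mem_principalBlock M
    have hχprin : χ ∈ Cfsg.principalBlock M G :=
      (Cfsg.Agent.Helper76.ThirdMainGen.mem_principalBlock_iff_of_cong hM H
        (Cfsg.Agent.Helper77.trivIrr H) χ (fun g => hcong _ hξ₀ χ hχ g)).mp hξ₀'
    have hBeq : B = Cfsg.principalBlock M G :=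
      Cfsg.Agent.Helper77.eq_of_isPBlock_of_mem hB
        (Cfsg.Agent.Helper77.isPBlock_principalBlock M) hχ hχprin
    rw [← hBeq]
    exact ⟨hb, hB, hcong⟩

end Cfsg.Agent.S0936
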