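import Cfsg.Statements.S0937
import Cfsg.Agent.Lib.Helper16.RegNorm
import Cfsg.Agent.Lib.Helper16.NormalSub

set_option autoImplicit false
set_option linter.style.haveILetI false
open Cfsg

namespace Cfsg.Agent.S0937

open scoped ComplexConjugate
open Cfsg.Agent.Helper16 Cfsg.Agent.Helper77 Cfsg.Agent.Helper78

/-- Let H be a subgroup of the finite group G and fix a maximal ideal M of the algebraic integers containing the prime p. If the block b of H induces the block B of G and χ ∈ B has height zero, then there is ξ ∈ b of height zero whose multiplicity in the restriction of χ to H is a natural number not divisible by p. -/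
theorem result {G : Type*} [Group G] [Fintype G] (p : ℕ) [Fact p.Prime] (M : Ideal Cfsg.AlgInt) (hM : Cfsg.IsPModular p M) (H : Subgroup G) [Fintype H] (b : Set (Cfsg.IrrCharacter H)) (B : Set (Cfsg.IrrCharacter G)) (hind : Cfsg.IsInducedBlock M H b B) (χ : Cfsg.IrrCharacter G) (hχ : χ ∈ B) (h0 : Cfsg.blockHeight p B (χ : G → ℂ) = 0) : ∃ ξ ∈ b, Cfsg.blockHeight p b (ξ : H → ℂ) = 0 ∧ ∃ n : ℕ, Cfsg.classInner (fun h : H => (χ : G → ℂ) h) (ξ : H → ℂ) = (n : ℂ) ∧ ¬ p ∣ n := by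
  classical
  haveI hpr := isPrime_of_isPModular hM
  have hp : p.Prime := hM.1
  have hb := hind.1
  have hB := hind.2.1
  have hht : (charDegree (χ : G → ℂ)).factorization p = Cfsg.Agent.Helper74.DO.minVal p B := by
    have h1 := Cfsg.Agent.Helper74.DO.minVal_le (p := p) hχ
    unfold blockHeight at h0
    unfold Cfsg.Agent.Helper74.DO.minVal at h1 ⊢
    omega
  -- decomposition of the restriction
  obtain ⟨m, hm⟩ := Cfsg.Agent.Helper78.IsCharacter.exists_irr_decomp
    (Cfsg.Agent.Helper16.isCharacter_restrict H (Cfsg.Agent.Helper78.IsIrrCharacter.isCharacter χ.2))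
  have hinner : ∀ ξ : IrrCharacter H,
      classInner (fun h : H => (χ : G → ℂ) h) (ξ : H → ℂ) = (m ξ : ℂ) := by
    intro ξ
    rw [hm]
    exact classInner_decomp _ ξ
  -- a height zero character of `b`
  obtain ⟨ψ₀, hψ₀, hmin⟩ := Cfsg.Agent.Helper74.DO.exists_minVal (p := p) (nonempty_of_isPBlock hb)
  obtain ⟨hone₀, hpos₀⟩ := Cfsg.Agent.Helper79.irr_one_eq ψ₀
  have hψ₀1 : (ψ₀ : H → ℂ) 1 ≠ 0 := by
    rw [hone₀]; exact_mod_cast hpos₀.ne'
  have hT := not_memLocalIdeal_regSum_of_induced hM H hind hχ hht hψ₀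
  -- expansion of the regular sum
  have hexp : regSum p (ψ₀ : H → ℂ) (fun h : H => (χ : G → ℂ) h) =
      ∑ ξ : IrrCharacter H, (m ξ : ℂ) * regSum p (ψ₀ : H → ℂ) (ξ : H → ℂ) := by
    rw [hm]
    unfold regSum
    simp_rw [Finset.sum_apply, Pi.smul_apply, smul_eq_mul, map_sum, map_mul, Complex.conj_natCast,
      Finset.mul_sum]
    rw [Finset.sum_comm]
    refine Finset.sum_congr rfl fun ξ _ => ?_
    refine Finset.sum_congr rfl fun x _ => ?_
    ring
  set a₀ := regSum p (ψ₀ : H → ℂ) (ψ₀ : H → ℂ) / (ψ₀ : H → ℂ) 1 with ha₀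
  have ha₀R : MemLocalRing M a₀ :=
    Cfsg.Agent.Helper74.DO.memLocalRing_of_isIntegral (isIntegral_sum_regular_div p ψ₀ ψ₀)
  set c : IrrCharacter H → ℂ := fun ξ =>
    if ξ ∈ b then (m ξ : ℂ) * ((charDegree (ξ : H → ℂ) : ℂ) / (charDegree (ψ₀ : H → ℂ) : ℂ)) else 0
    with hc
  have hclaim1 : ∀ ξ : IrrCharacter H, MemLocalIdeal M
      ((m ξ : ℂ) * (regSum p (ψ₀ : H → ℂ) (ξ : H → ℂ) / (ψ₀ : H → ℂ) 1) - a₀ * c ξ) := by
    intro ξ
    by_cases hξ : ξ ∈ b
    · obtain ⟨hone, hpos⟩ := Cfsg.Agent.Helper79.irr_one_eq ξ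
      have hsame := sameBlock_of_mem hb hξ hψ₀
      have h1 := memLocalIdeal_omega_sub (M := M) ξ.2 ψ₀.2 hsame
        (isClassFunction_regConj p (isClassFunction_of_isIrrCharacter ψ₀.2))
        (isRValued_regConj (M := M) (p := p) ψ₀)
      rw [← regSum_div_eq_omega, ← regSum_div_eq_omega] at h1
      have hR : MemLocalRing M ((charDegree (ξ : H → ℂ) : ℂ) / (charDegree (ψ₀ : H → ℂ) : ℂ)) := by
        apply memLocalRing_natCast_div hM _ _ hpos₀.ne'
        rw [hmin]
        exact Cfsg.Agent.Helper74.DO.minVal_le (p := p) hξ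
      have h2 := memLocalIdeal_mul_left (memLocalRing_natCast (M := M) (m ξ))
        (memLocalIdeal_mul_right h1 hR)
      convert h2 using 1
      simp only [hc, if_pos hξ]
      rw [regSum_comm p ψ₀ ξ, ha₀, hone, hone₀]
      have h3 : (charDegree (ξ : H → ℂ) : ℂ) ≠ 0 := by exact_mod_cast hpos.ne'
      have h4 : (charDegree (ψ₀ : H → ℂ) : ℂ) ≠ 0 := by exact_mod_cast hpos₀.ne'
      field_simp
    · have hns : ¬ SameBlock M (ψ₀ : H → ℂ) (ξ : H → ℂ) := fun h =>
        hξ (Cfsg.Agent.Helper77.mem_of_sameBlock hb hψ₀ h)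
      have h0' : regSum p (ψ₀ : H → ℂ) (ξ : H → ℂ) = 0 :=
        sum_regular_eq_zero_of_not_sameBlock hM ψ₀ ξ hns
      simp only [hc, if_neg hξ, h0']
      simp only [zero_div, mul_zero, sub_zero]
      exact memLocalIdeal_zero hpr.ne_top
  -- some `c ξ` is a unit
  have hex : ∃ ξ : IrrCharacter H, ¬ MemLocalIdeal M (c ξ) := by
    by_contra hno
    push Not at hno
    apply hT
    rw [hexp, Finset.sum_div]
    have : ∀ ξ : IrrCharacter H, (m ξ : ℂ) * regSum p (ψ₀ : H → ℂ) (ξ : H → ℂ) / (ψ₀ : H → ℂ) 1 =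
        ((m ξ : ℂ) * (regSum p (ψ₀ : H → ℂ) (ξ : H → ℂ) / (ψ₀ : H → ℂ) 1) - a₀ * c ξ) +
          a₀ * c ξ := by
      intro ξ; ring
    simp_rw [this]
    apply memLocalIdeal_sum
    intro ξ _
    exact memLocalIdeal_add (hclaim1 ξ) (memLocalIdeal_mul_left ha₀R (hno ξ))
  obtain ⟨ξ, hξc⟩ := hex
  have hξ : ξ ∈ b := by
    by_contra hξ
    apply hξc
    simp only [hc, if_neg hξ]
    exact memLocalIdeal_zero hpr.ne_top
  simp only [hc, if_pos hξ] at hξc
  obtain ⟨hone, hpos⟩ := Cfsg.Agent.Helper79.irr_one_eq ξ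
  have hR : MemLocalRing M ((charDegree (ξ : H → ℂ) : ℂ) / (charDegree (ψ₀ : H → ℂ) : ℂ)) := by
    apply memLocalRing_natCast_div hM _ _ hpos₀.ne'
    rw [hmin]
    exact Cfsg.Agent.Helper74.DO.minVal_le (p := p) hξ
  refine ⟨ξ, hξ, ?_, m ξ, hinner ξ, ?_⟩
  · -- height zero
    have hle : (charDegree (ξ : H → ℂ)).factorization p ≤
        (charDegree (ψ₀ : H → ℂ)).factorization p := by
      by_contra hlt
      push Not at hlt
      apply hξc
      exact memLocalIdeal_mul_left (memLocalRing_natCast (M := M) (m ξ))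
        (Cfsg.Agent.Helper74.DO.memLocalIdeal_natCast_div hM _ _ hpos.ne' hpos₀.ne' hlt)
    rw [hmin] at hle
    unfold blockHeight
    unfold Cfsg.Agent.Helper74.DO.minVal at hle
    omega
  · intro hdvd
    apply hξc
    exact memLocalIdeal_mul_right ((memLocalIdeal_natCast_iff hM (m ξ)).2 hdvd) hR

end Cfsg.Agent.S0937
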