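import Cfsg.Statements.S0938
import Cfsg.Agent.Lib.Helper16.QuotBlock
import Cfsg.Agent.Lib.Helper77.BrauerMap
import Cfsg.Agent.S0939

set_option autoImplicit false
open Cfsg

namespace Cfsg.Agent.S0938

open Cfsg.Agent.Helper77 Cfsg.Agent.Helper78 Cfsg.Agent.Helper79
open scoped ComplexConjugate

section

variable {G : Type*} [Group G] [Finite G]

/-- the kernel of a set of irreducible characters, as a subgroup -/
def kerSubgroup (B : Set (IrrCharacter G)) : Subgroup G where
  carrier := blockKer B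
  one_mem' := fun _ _ => rfl
  mul_mem' := by
    intro a b ha hb χ hχ
    exact (irrKer χ).mul_mem (ha χ hχ) (hb χ hχ)
  inv_mem' := by
    intro a ha χ hχ
    exact (irrKer χ).inv_mem (ha χ hχ)

theorem mem_kerSubgroup (B : Set (IrrCharacter G)) (g : G) :
    g ∈ kerSubgroup B ↔ ∀ χ ∈ B, (χ : G → ℂ) g = (χ : G → ℂ) 1 := Iff.rfl

instance kerSubgroup_normal (B : Set (IrrCharacter G)) : (kerSubgroup B).Normal := by
  constructor
  intro n hn g χ hχ
  rw [irr_class]
  exact hn χ hχ

end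

section

variable {G : Type*} [Group G] [Fintype G]

theorem blockCoeff_mul_right (B : Set (IrrCharacter G)) (g k : G) (hk : k ∈ kerSubgroup B) :
    blockCoeff B (g * k) = blockCoeff B g := by
  rw [blockCoeff_eq_sum, blockCoeff_eq_sum]
  congr 1
  apply Finset.sum_congr rfl
  intro ψ hψ
  rw [Set.Finite.mem_toFinset] at hψ
  rw [irr_mul_of_mem_irrKer ψ g k (hk ψ hψ)]

theorem blockCoeff_mul_left (B : Set (IrrCharacter G)) (g k : G) (hk : k ∈ kerSubgroup B) :
    blockCoeff B (k * g) = blockCoeff B g := by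
  have h1 : k * g = g * (g⁻¹ * k * g) := by group
  rw [h1]
  apply blockCoeff_mul_right
  have := (kerSubgroup_normal B).conj_mem k hk g⁻¹
  simpa using this

/-- sums of functions invariant under a normal subgroup -/
theorem sum_eq_card_mul_sum_out (K : Subgroup G) [K.Normal] [Fintype (G ⧸ K)] (F : G → ℂ)
    (hF : ∀ x : G, ∀ k ∈ K, F (x * k) = F x) :
    ∑ x : G, F x = (Nat.card K : ℂ) * ∑ q : G ⧸ K, F q.out := by
  rw [← Cfsg.Agent.Helper16.sum_comp_mk K (fun q => F q.out)]
  apply Finset.sum_congr rfl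
  intro x _
  obtain ⟨h, hh⟩ := QuotientGroup.mk_out_eq_mul K x
  rw [hh, hF x h h.2]

theorem memLocalRing_blockCoeff_div_pow {p : ℕ} {M : Ideal AlgInt} (hM : IsPModular p M)
    {B : Set (IrrCharacter G)} (hB : IsPBlock M B) :
    ∀ n : ℕ, ∀ g : G,
      MemLocalRing M (blockCoeff B g / (Nat.card (kerSubgroup B) : ℂ) ^ n) := by
  have := isPrime_of_isPModular hM
  have : Fintype (G ⧸ kerSubgroup B) := Fintype.ofFinite _
  have hc0 : (Nat.card (kerSubgroup B) : ℂ) ≠ 0 := by exact_mod_cast Nat.card_pos.ne'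
  intro n
  induction n with
  | zero => intro g; simpa using memLocalRing_blockCoeff hB g
  | succ n ih =>
    intro g
    have h1 : blockCoeff B g = ∑ x, blockCoeff B x * blockCoeff B (x⁻¹ * g) := by
      conv_lhs => rw [← conv_blockCoeff_self B]
      rfl
    have h2 := sum_eq_card_mul_sum_out (kerSubgroup B)
      (fun x => blockCoeff B x * blockCoeff B (x⁻¹ * g)) (by
        intro x k hk
        rw [blockCoeff_mul_right B x k hk, mul_inv_rev, mul_assoc,
          blockCoeff_mul_left B _ k⁻¹ (inv_mem hk)])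
    rw [h1, h2]
    have h3 : ((Nat.card (kerSubgroup B) : ℂ) * (∑ q : G ⧸ kerSubgroup B,
        blockCoeff B q.out * blockCoeff B (q.out⁻¹ * g))) / (Nat.card (kerSubgroup B) : ℂ) ^ (n + 1) =
        ∑ q : G ⧸ kerSubgroup B,
          (blockCoeff B q.out / (Nat.card (kerSubgroup B) : ℂ) ^ n) * blockCoeff B (q.out⁻¹ * g) := by
      rw [Finset.mul_sum, Finset.sum_div]
      apply Finset.sum_congr rfl
      intro q _
      field_simp
      ring
    rw [h3]
    apply memLocalRing_sum
    intro q _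
    exact memLocalRing_mul (ih _) (memLocalRing_blockCoeff hB _)

theorem not_dvd_card_kerSubgroup {p : ℕ} [Fact p.Prime] {M : Ideal AlgInt} (hM : IsPModular p M)
    {B : Set (IrrCharacter G)} (hB : IsPBlock M B) : ¬ p ∣ Nat.card (kerSubgroup B) := by
  classical
  have := isPrime_of_isPModular hM
  have hp0 : (p : ℂ) ≠ 0 := by exact_mod_cast hM.1.ne_zero
  have hG0 : (Nat.card G : ℂ) ≠ 0 := natCard_ne_zero_complex
  intro hdvd
  obtain ⟨c', hc'⟩ := hdvd
  have hmem : ∀ ψ, ψ ∈ (Set.toFinite B).toFinset ↔ ψ ∈ B := fun ψ => Set.Finite.mem_toFinset _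
  have hs : blockCoeff B 1 =
      ((∑ ψ ∈ (Set.toFinite B).toFinset, (charDegree (ψ : G → ℂ)) ^ 2 : ℕ) : ℂ) / (Nat.card G : ℂ) := by
    rw [blockCoeff_eq_sum]
    push_cast
    rw [div_eq_inv_mul]
    congr 1
    apply Finset.sum_congr rfl
    intro ψ _
    rw [(irr_charDegree ψ.2).1, Complex.conj_natCast]
    ring
  obtain ⟨χ0, hχ0⟩ := nonempty_of_isPBlock hB
  have hspos : 0 < ∑ ψ ∈ (Set.toFinite B).toFinset, (charDegree (ψ : G → ℂ)) ^ 2 := by
    apply Finset.sum_pos'
    · intro ψ _; exact Nat.zero_le _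
    · exact ⟨χ0, (hmem χ0).2 hχ0, Nat.pow_pos (irr_charDegree χ0.2).2⟩
  have hdiv : ∀ n, p ^ n ∣ ∑ ψ ∈ (Set.toFinite B).toFinset, (charDegree (ψ : G → ℂ)) ^ 2 := by
    intro n
    apply Cfsg.Agent.S0939.pow_dvd_of_memLocalRing_div hM _ n
    have h1 := memLocalRing_blockCoeff_div_pow hM hB n 1
    have e : ((∑ ψ ∈ (Set.toFinite B).toFinset, (charDegree (ψ : G → ℂ)) ^ 2 : ℕ) : ℂ) / (p : ℂ) ^ n =
        (blockCoeff B 1 / (Nat.card (kerSubgroup B) : ℂ) ^ n) *
          ((Nat.card G : ℂ) * (c' : ℂ) ^ n) := by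
      have hc0 : (c' : ℂ) ≠ 0 := by
        intro h0
        have h2 : c' = 0 := by exact_mod_cast h0
        rw [h2, mul_zero] at hc'
        exact Nat.card_pos.ne' hc'
      rw [hs, hc']
      push_cast
      field_simp
      ring
    rw [e]
    exact memLocalRing_mul h1 (memLocalRing_mul (memLocalRing_natCast _)
      (memLocalRing_pow (memLocalRing_natCast _) n))
  have h1 := Nat.le_of_dvd hspos
    (hdiv (∑ ψ ∈ (Set.toFinite B).toFinset, (charDegree (ψ : G → ℂ)) ^ 2))
  have h2 := Nat.lt_pow_self (Fact.out : p.Prime).one_lt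
    (n := ∑ ψ ∈ (Set.toFinite B).toFinset, (charDegree (ψ : G → ℂ)) ^ 2)
  omega

end

/-- Let B be a block of the finite group G relative to a maximal ideal M of the algebraic integers containing the prime p, and let χ ∈ B. Then the kernel of B (the set of g with ψ g = ψ 1 for all ψ ∈ B) is a normal subgroup of order prime to p contained in the kernel of χ, and it contains every normal subgroup of order prime to p on which χ takes the value χ(1); that is, it is O_p' of the kernel of χ. -/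
theorem result {G : Type*} [Group G] [Finite G] (p : ℕ) [Fact p.Prime] (M : Ideal Cfsg.AlgInt) (hM : Cfsg.IsPModular p M) (B : Set (Cfsg.IrrCharacter G)) (hB : Cfsg.IsPBlock M B) (χ : Cfsg.IrrCharacter G) (hχ : χ ∈ B) : ∃ K : Subgroup G, K.Normal ∧ (K : Set G) = Cfsg.blockKer B ∧ ¬ p ∣ Nat.card K ∧ (∀ g ∈ K, (χ : G → ℂ) g = (χ : G → ℂ) 1) ∧ ∀ N : Subgroup G, N.Normal → ¬ p ∣ Nat.card N → (∀ g ∈ N, (χ : G → ℂ) g = (χ : G → ℂ) 1) → N ≤ K := by
  classical
  have := Fintype.ofFinite G
  have hprime := isPrime_of_isPModular hM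
  refine ⟨kerSubgroup B, kerSubgroup_normal B, rfl, not_dvd_card_kerSubgroup hM hB,
    fun g hg => hg χ hχ, ?_⟩
  intro N hN hpN hNχ g hg ψ hψ
  have : Fintype N := Fintype.ofFinite N
  have hsb := sameBlock_of_mem hB hχ hψ
  exact Cfsg.Agent.Helper16.ker_of_sameBlock_of_pprime N hM hpN χ ψ hsb (fun n => hNχ n n.2) ⟨g, hg⟩

end Cfsg.Agent.S0938
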