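import Cfsg.Statements.S0946
import Mathlib
import Cfsg.Agent.S0945

set_option autoImplicit false
open Cfsg

namespace Cfsg.Agent.S0946

open Cfsg.Agent.Helper16
open scoped Pointwise

variable {G : Type*} [Group G]

/-- every involution is conjugate into a given Sylow 2-subgroup -/
theorem exists_conj_mem_sylow [Finite G] (P : Sylow 2 G) (s : G) (hs : orderOf s = 2) :
    ∃ g : G, g * s * g⁻¹ ∈ (P : Subgroup G) := by
  have : Fact (Nat.Prime 2) := ⟨Nat.prime_two⟩
  have hp : IsPGroup 2 (Subgroup.zpowers s) := by
    apply IsPGroup.of_card (n := 1)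
    rw [Nat.card_zpowers, hs, pow_one]
  obtain ⟨Q, hQ⟩ := hp.exists_le_sylow
  obtain ⟨g, hg⟩ := MulAction.exists_smul_eq G Q P
  refine ⟨g, ?_⟩
  have hsQ : s ∈ (Q : Subgroup G) := hQ (Subgroup.mem_zpowers s)
  have h1 : MulAut.conj g • s ∈ MulAut.conj g • (Q : Subgroup G) :=
    Subgroup.smul_mem_pointwise_smul _ _ _ hsQ
  have h2 : ((g • Q : Sylow 2 G) : Subgroup G) = MulAut.conj g • (Q : Subgroup G) :=
    Sylow.coe_subgroup_smul
  rw [← h2, hg] at h1
  simpa [MulAut.smul_def] using h1

/-- Let P be a Sylow 2-subgroup of the finite group G isomorphic to Z/2^m × Z/2^m with m ≥ 1. Then either P has a normal complement in G, or all involutions of G are conjugate. -/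
theorem result {G : Type*} [Group G] [Finite G] (P : Sylow 2 G) (m : ℕ) (hm : 1 ≤ m) (e : (P : Subgroup G) ≃* Multiplicative (ZMod (2 ^ m) × ZMod (2 ^ m))) : (∃ N : Subgroup G, N.Normal ∧ Subgroup.IsComplement' N (P : Subgroup G)) ∨ ∀ s t : G, orderOf s = 2 → orderOf t = 2 → IsConj s t := by
  classical
  have : Fact (Nat.Prime 2) := ⟨Nat.prime_two⟩
  obtain ⟨h13, -⟩ := Cfsg.Agent.S0945.result P m hm e
  rcases h13 with h1 | h3
  · left
    have hP : Subgroup.normalizer ((P : Subgroup G) : Set G) ≤ Subgroup.centralizer ((P : Subgroup G) : Set G) :=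
      Subgroup.relIndex_eq_one.mp h1
    exact ⟨(MonoidHom.transferSylow P hP).ker, inferInstance,
      MonoidHom.ker_transferSylow_isComplement' P hP⟩
  · right
    -- A = range of N(P) → Aut(P), of order 3, acts regularly on the involutions of P
    have hc : ∀ x y : (P : Subgroup G), x * y = y * x := comm_of_equiv m e
    have hA : Nat.card (P : Subgroup G).normalizerMonoidHom.range = 3 := by
      rw [← Cfsg.Agent.S0945.relIndex_eq_card_range]; exact h3
    have hoddA : Odd (Nat.card (P : Subgroup G).normalizerMonoidHom.range) := by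
      rw [hA]; decide
    obtain ⟨k, rfl⟩ : ∃ k, m = k + 1 := ⟨m - 1, by omega⟩
    have hcard := card_invol k e
    have : Finite (Invol (P : Subgroup G)) := Nat.finite_of_card_ne_zero (by rw [hcard]; norm_num)
    -- transitivity on involutions of P
    have htrans : ∀ ω ω' : Invol (P : Subgroup G),
        ∃ a : (P : Subgroup G).normalizerMonoidHom.range, a.1 • ω = ω' := by
      intro ω ω'
      have hinj : Function.Injective
          (fun a : (P : Subgroup G).normalizerMonoidHom.range => a.1 • ω) := by
        intro a b hab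
        simp only at hab
        have h1 : (b.1⁻¹ * a.1) • ω = ω := by
          rw [mul_smul, hab, inv_smul_smul]
        have h2 : (b⁻¹ * a : (P : Subgroup G).normalizerMonoidHom.range)
            ^ Nat.card (P : Subgroup G).normalizerMonoidHom.range = 1 := pow_card_eq_one'
        have h3 : (b.1⁻¹ * a.1) ^ Nat.card (P : Subgroup G).normalizerMonoidHom.range = 1 := by
          have := congrArg Subtype.val h2
          rw [Subgroup.coe_pow, Subgroup.coe_mul, Subgroup.coe_inv] at this
          exact this
        have h4 := aut_eq_one_of_fix (k + 1) hm e (b.1⁻¹ * a.1) _ hoddA h3 ω.1 ω.2.2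
          (congrArg Subtype.val h1)
        apply Subtype.ext
        have : a.1 = b.1 * (b.1⁻¹ * a.1) := by group
        rw [this, h4, mul_one]
      have hbij : Function.Bijective
          (fun a : (P : Subgroup G).normalizerMonoidHom.range => a.1 • ω) := by
        rw [Nat.bijective_iff_injective_and_card]
        exact ⟨hinj, by rw [hA, hcard]⟩
      exact hbij.2 ω'
    -- involutions of P are conjugate under N(P)
    have hP : ∀ s t : G, s ∈ (P : Subgroup G) → t ∈ (P : Subgroup G) → orderOf s = 2 →
        orderOf t = 2 → IsConj s t := by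
      intro s t hs ht hs2 ht2
      have hinv : ∀ x : G, ∀ hx : x ∈ (P : Subgroup G), orderOf x = 2 →
          (⟨x, hx⟩ : (P : Subgroup G)) ^ 2 = 1 ∧ (⟨x, hx⟩ : (P : Subgroup G)) ≠ 1 := by
        intro x hx hx2
        constructor
        · apply Subtype.ext
          rw [Subgroup.coe_pow, Subgroup.coe_one]
          show x ^ 2 = 1
          rw [← hx2]; exact pow_orderOf_eq_one x
        · intro h
          have : x = 1 := congrArg Subtype.val h
          rw [this, orderOf_one] at hx2
          norm_num at hx2
      obtain ⟨⟨a, n, rfl⟩, ha⟩ := htrans ⟨⟨s, hs⟩, hinv s hs hs2⟩ ⟨⟨t, ht⟩, hinv t ht ht2⟩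
      have h5 := congrArg (fun w : Invol (P : Subgroup G) => ((w.1 : (P : Subgroup G)) : G)) ha
      simp only [invol_smul_val] at h5
      have h6 : (n : G) * s * (n : G)⁻¹ = t := h5
      rw [isConj_iff]
      exact ⟨n, h6⟩
    intro s t hs ht
    obtain ⟨g, hg⟩ := exists_conj_mem_sylow P s hs
    obtain ⟨g', hg'⟩ := exists_conj_mem_sylow P t ht
    have h1 : IsConj s (g * s * g⁻¹) := isConj_iff.mpr ⟨g, rfl⟩
    have h2 : IsConj t (g' * t * g'⁻¹) := isConj_iff.mpr ⟨g', rfl⟩
    have hord : ∀ (c x : G), orderOf (c * x * c⁻¹) = orderOf x := by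
      intro c x
      have := orderOf_injective (MulAut.conj c).toMonoidHom (MulAut.conj c).injective x
      simpa [MulAut.conj_apply] using this
    have h3 := hP _ _ hg hg' ((hord g s).trans hs) ((hord g' t).trans ht)
    exact h1.trans (h3.trans h2.symm)

end Cfsg.Agent.S0946
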