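import Cfsg.Statements.S0957
import Mathlib

set_option autoImplicit false
open Cfsg

namespace Cfsg.Agent.S0957

variable {G : Type*} [Group G]

/-- The set of pairs. -/
abbrev Pairs (g h : G) (P : Subgroup G) : Type _ :=
  {yz : G × G // IsConj g yz.1 ∧ IsConj h yz.2 ∧ yz.2 * yz.1⁻¹ ∈ P}

theorem isConj_conj_right {g y : G} (x : G) (hy : IsConj g y) : IsConj g (x * y * x⁻¹) := by
  rw [isConj_iff] at hy ⊢
  obtain ⟨c, hc⟩ := hy
  exact ⟨x * c, by rw [← hc]; group⟩

instance pairsAction (g h : G) (P : Subgroup G) : MulAction P (Pairs g h P) where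
  smul x yz := ⟨(x.1 * yz.1.1 * x.1⁻¹, x.1 * yz.1.2 * x.1⁻¹),
    isConj_conj_right x.1 yz.2.1, isConj_conj_right x.1 yz.2.2.1, by
      have h3 := yz.2.2.2
      have : x.1 * yz.1.2 * x.1⁻¹ * (x.1 * yz.1.1 * x.1⁻¹)⁻¹
          = x.1 * (yz.1.2 * yz.1.1⁻¹) * x.1⁻¹ := by group
      rw [this]
      exact P.mul_mem (P.mul_mem x.2 h3) (P.inv_mem x.2)⟩
  one_smul yz := by
    apply Subtype.ext
    show ((1 : P).1 * yz.1.1 * (1 : P).1⁻¹, (1 : P).1 * yz.1.2 * (1 : P).1⁻¹) = yz.1
    simp
  mul_smul a b yz := by
    apply Subtype.ext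
    show ((a * b).1 * yz.1.1 * (a * b).1⁻¹, (a * b).1 * yz.1.2 * (a * b).1⁻¹)
      = (a.1 * (b.1 * yz.1.1 * b.1⁻¹) * a.1⁻¹, a.1 * (b.1 * yz.1.2 * b.1⁻¹) * a.1⁻¹)
    simp only [Subgroup.coe_mul, mul_inv_rev, Prod.mk.injEq]
    constructor <;> group

theorem smul_fst (g h : G) (P : Subgroup G) (x : P) (yz : Pairs g h P) :
    (x • yz).1.1 = x.1 * yz.1.1 * x.1⁻¹ := rfl

theorem card_centralizer_conj [Finite G] {g y : G} (hy : IsConj g y) :
    Nat.card (Subgroup.centralizer ({y} : Set G)) = Nat.card (Subgroup.centralizer ({g} : Set G)) := by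
  obtain ⟨c, hc⟩ := isConj_iff.mp hy
  refine Nat.card_congr ?_
  refine
    { toFun := fun a => ⟨c⁻¹ * a.1 * c, ?_⟩
      invFun := fun a => ⟨c * a.1 * c⁻¹, ?_⟩
      left_inv := ?_
      right_inv := ?_ }
  · have ha := a.2
    rw [Subgroup.mem_centralizer_iff] at ha ⊢
    intro k hk
    rw [Set.mem_singleton_iff] at hk
    subst hk
    have h1 := ha (c * k * c⁻¹) (by rw [Set.mem_singleton_iff, hc])
    have e1 : k * (c⁻¹ * a.1 * c) = c⁻¹ * (c * k * c⁻¹ * a.1) * c := by group
    rw [e1, h1]; group
  · have ha := a.2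
    rw [Subgroup.mem_centralizer_iff] at ha ⊢
    intro k hk
    rw [Set.mem_singleton_iff] at hk
    subst hk
    have h1 := ha g rfl
    rw [← hc]
    have e1 : c * g * c⁻¹ * (c * a.1 * c⁻¹) = c * (g * a.1) * c⁻¹ := by group
    rw [e1, h1]; group
  · intro a; ext; simp only; group
  · intro a; ext; simp only; group

/-- Let P be a Sylow p-subgroup of the finite group G, let g, h ∈ G and let p ^ d be the order of a Sylow p-subgroup of the centralizer of g. Then the number of pairs (y, z) with y conjugate to g, z conjugate to h and z * y⁻¹ ∈ P is divisible by the order of P divided by p ^ d. -/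
theorem result {G : Type*} [Group G] [Finite G] (p : ℕ) [Fact p.Prime] (P : Sylow p G) (g h : G) (S : Sylow p (Subgroup.centralizer ({g} : Set G))) : Nat.card P / Nat.card S ∣ Nat.card {yz : G × G // IsConj g yz.1 ∧ IsConj h yz.2 ∧ yz.2 * yz.1⁻¹ ∈ (P : Subgroup G)} := by
  classical
  have hp : p.Prime := Fact.out
  show Nat.card P / Nat.card S ∣ Nat.card (Pairs g h (P : Subgroup G))
  -- every orbit has size divisible by |P|/|S|
  have horb : ∀ yz : Pairs g h (P : Subgroup G),
      Nat.card P / Nat.card S ∣ Nat.card (MulAction.orbit (P : Subgroup G) yz) := by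
    intro yz
    set St := MulAction.stabilizer (P : Subgroup G) yz with hSt
    have hidx : St.index = Nat.card (MulAction.orbit (P : Subgroup G) yz) := by
      rw [MulAction.index_stabilizer, Nat.card_coe_set_eq]
    rw [← hidx]
    -- St is a p-group mapping injectively into the centralizer of y
    have hPg : IsPGroup p (P : Subgroup G) := P.isPGroup'
    have hStp : IsPGroup p St := hPg.to_subgroup St
    obtain ⟨c, hc⟩ := hStp.exists_card_eq
    -- St embeds in centralizer of y
    have hle : (St.map (P : Subgroup G).subtype) ≤ Subgroup.centralizer ({yz.1.1} : Set G) := by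
      rintro _ ⟨x, hx, rfl⟩
      rw [Subgroup.mem_centralizer_iff]
      intro k hk
      rw [Set.mem_singleton_iff] at hk
      subst hk
      have hx' : x • yz = yz := hx
      have := congrArg (fun t : Pairs g h (P : Subgroup G) => t.1.1) hx'
      simp only [smul_fst] at this
      show yz.1.1 * x.1 = x.1 * yz.1.1
      calc yz.1.1 * x.1 = (x.1 * yz.1.1 * x.1⁻¹) * x.1 := by rw [this]
        _ = x.1 * yz.1.1 := by group
    have hcardmap : Nat.card (St.map (P : Subgroup G).subtype) = Nat.card St :=
      Subgroup.card_map_of_injective (Subgroup.subtype_injective _)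
    have hdvd1 : Nat.card St ∣ Nat.card (Subgroup.centralizer ({yz.1.1} : Set G)) := by
      rw [← hcardmap]
      exact Subgroup.card_dvd_of_le hle
    rw [card_centralizer_conj yz.2.1] at hdvd1
    have hScard := S.card_eq_multiplicity
    have hPcard := P.card_eq_multiplicity
    have hcG : Nat.card (Subgroup.centralizer ({g} : Set G)) ≠ 0 := Nat.card_pos.ne'
    -- c ≤ factorization
    have hc_le : c ≤ (Nat.card (Subgroup.centralizer ({g} : Set G))).factorization p := by
      rw [hc] at hdvd1
      exact (hp.pow_dvd_iff_le_factorization hcG).mp hdvd1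
    have hcentdvd : Nat.card (Subgroup.centralizer ({g} : Set G)) ∣ Nat.card G :=
      Subgroup.card_subgroup_dvd_card _
    have hd_le : (Nat.card (Subgroup.centralizer ({g} : Set G))).factorization p
        ≤ (Nat.card G).factorization p := by
      have hG0 : Nat.card G ≠ 0 := Nat.card_pos.ne'
      exact (Nat.factorization_le_iff_dvd hcG hG0).mpr hcentdvd p
    set a := (Nat.card G).factorization p
    set d := (Nat.card (Subgroup.centralizer ({g} : Set G))).factorization p
    -- index of St
    have hmul : Nat.card St * St.index = Nat.card P := Subgroup.card_mul_index St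
    have hPc : Nat.card (P : Subgroup G) = p ^ a := hPcard
    have hidx' : St.index = p ^ (a - c) := by
      have hpos : 0 < p ^ c := pow_pos hp.pos c
      have : p ^ c * St.index = p ^ c * p ^ (a - c) := by
        rw [← hc, hmul, hc, ← pow_add, hPc]
        congr 1; omega
      exact Nat.eq_of_mul_eq_mul_left hpos this
    rw [hidx', hPc, hScard, Nat.pow_div hd_le hp.pos]
    exact pow_dvd_pow p (by omega)
  -- decompose into orbits
  have e := MulAction.selfEquivSigmaOrbits (P : Subgroup G) (Pairs g h (P : Subgroup G))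
  rw [Nat.card_congr e]
  haveI : Finite (Pairs g h (P : Subgroup G)) := inferInstance
  haveI : Fintype (MulAction.orbitRel.Quotient (P : Subgroup G) (Pairs g h (P : Subgroup G))) :=
    Fintype.ofFinite _
  rw [Nat.card_sigma]
  exact Finset.dvd_sum (fun ω _ => horb _)

end Cfsg.Agent.S0957
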