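import Cfsg.Statements.S0958
import Mathlib
import Cfsg.Agent.Lib.Helper77.Extended

set_option autoImplicit false
open Cfsg

namespace Cfsg.Agent.S0958

open Cfsg.Agent.Helper77

/-- Let P be a p-subgroup of the finite group G and H a subgroup with P ⊔ C_G(P) ≤ H ≤ N_G(P); fix a maximal ideal M of the algebraic integers containing p. Then a block B of G is induced by some block of H if and only if some conjugate of P is contained in a defect group of B. -/
theorem result {G : Type*} [Group G] [Finite G] (p : ℕ) [Fact p.Prime] (M : Ideal Cfsg.AlgInt) (hM : Cfsg.IsPModular p M) (P H : Subgroup G) (hP : IsPGroup p P) (hPH : P ⊔ Subgroup.centralizer (P : Set G) ≤ H) (hHN : H ≤ Subgroup.normalizer (P : Set G)) (B : Set (Cfsg.IrrCharacter G)) (hB : Cfsg.IsPBlock M B) : (∃ b : Set (Cfsg.IrrCharacter H), Cfsg.IsInducedBlock M H b B) ↔ ∃ D : Subgroup G, Cfsg.IsDefectGroup p M B D ∧ ∃ x : G, P.map (MulAut.conj x).toMonoidHom ≤ D := by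
  classical
  have := Fintype.ofFinite G
  have : Fintype H := Fintype.ofFinite _
  have hpr := isPrime_of_isPModular hM
  have hPH' : P ≤ H := le_sup_left.trans hPH
  have hCH : Subgroup.centralizer (P : Set G) ≤ H := le_sup_right.trans hPH
  constructor
  · rintro ⟨b, hind⟩
    haveI : (P.subgroupOf H).Normal :=
      (Subgroup.normal_subgroupOf_iff_le_normalizer hPH').mpr hHN
    obtain ⟨E', hE'⟩ := exists_isDefectGroup (M := M) p hind.1
    have hle := normal_le_of_isDefectGroup hM hind.1 hE' (P.subgroupOf H) hP.comap_subtype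
    obtain ⟨E, hE, hE'E⟩ := exists_isDefectGroup_of_isInducedBlock hM _ hind E' hE'
    refine ⟨E, hE, 1, ?_⟩
    have h1 : P.map (MulAut.conj (1 : G)).toMonoidHom = P := by
      ext y
      simp
    rw [h1]
    calc P = (P.subgroupOf H).map H.subtype := (Subgroup.map_subgroupOf_eq_of_le hPH').symm
      _ ≤ E'.map H.subtype := Subgroup.map_mono hle
      _ ≤ E := hE'E
  · rintro ⟨D, hD, x, hx⟩
    have hD' := isDefectGroup_conj hD x⁻¹
    have hPD : P ≤ D.map (MulAut.conj x⁻¹).toMonoidHom := by
      intro u hu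
      refine ⟨x * u * x⁻¹, hx ⟨u, hu, by simp [MulAut.conj_apply]⟩, ?_⟩
      simp [MulAut.conj_apply, mul_assoc]
    exact exists_isInducedBlock_of_le_defect hM P H hP hPH' hCH hHN hB hD' hPD

end Cfsg.Agent.S0958
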