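import Cfsg.Statements.S0959
import Mathlib
import Cfsg.Agent.Lib.Helper77.MinMax

set_option autoImplicit false
open Cfsg

namespace Cfsg.Agent.S0959

open Cfsg.Agent.Helper77

/-- Let B be a block of the finite group G with defect group D (relative to a maximal ideal M of the algebraic integers containing the prime p), and let P be a p-subgroup. Then there is an element g whose idempotent coefficient for B is a local integer outside the local ideal at M and which has a conjugate centralizing P, if and only if some conjugate of P is contained in D. -/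
theorem result {G : Type*} [Group G] [Finite G] (p : ℕ) [Fact p.Prime] (M : Ideal Cfsg.AlgInt) (hM : Cfsg.IsPModular p M) (B : Set (Cfsg.IrrCharacter G)) (hB : Cfsg.IsPBlock M B) (D : Subgroup G) (hD : Cfsg.IsDefectGroup p M B D) (P : Subgroup G) (hP : IsPGroup p P) : (∃ g : G, Cfsg.MemLocalRing M (Cfsg.blockCoeff B g) ∧ ¬ Cfsg.MemLocalIdeal M (Cfsg.blockCoeff B g) ∧ ∃ c : G, IsConj g c ∧ c ∈ Subgroup.centralizer (P : Set G)) ↔ ∃ x : G, P.map (MulAut.conj x).toMonoidHom ≤ D := by
  classical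
  have := Fintype.ofFinite G
  have hpr := isPrime_of_isPModular hM
  obtain ⟨χ₀, hχ₀⟩ := nonempty_of_isPBlock hB
  obtain ⟨g₀, hg₀, P₀, rfl⟩ := hD
  constructor
  · rintro ⟨g, _, hg, c, hgc, hc⟩
    have key := defectLE_blockCoeff hM hB g₀ P₀ hχ₀ (hg₀.2.2 χ₀ hχ₀)
    have hcl : blockCoeff B c = blockCoeff B g := by
      obtain ⟨k, hk⟩ := isConj_iff.mp hgc
      rw [← hk]
      exact isClassFunction_blockCoeff B g k
    refine key c (by rw [hcl]; exact hg) P hP ?_
    intro u hu
    rw [Subgroup.mem_centralizer_iff]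
    intro y hy
    rw [Set.mem_singleton_iff] at hy
    subst hy
    exact (hc u hu).symm
  · rintro ⟨x, hx⟩
    refine ⟨g₀, hg₀.1, hg₀.2.1, x⁻¹ * g₀ * x, isConj_iff.mpr ⟨x⁻¹, by simp⟩, ?_⟩
    intro u hu
    have h1 : x * u * x⁻¹ ∈ Subgroup.centralizer ({g₀} : Set G) :=
      sylow_map_le_centralizer g₀ P₀ (hx ⟨u, hu, by simp [MulAut.conj_apply]⟩)
    rw [Subgroup.mem_centralizer_iff] at h1
    have h2 := h1 g₀ rfl
    calc u * (x⁻¹ * g₀ * x) = x⁻¹ * (x * u * x⁻¹ * g₀) * x := by group
      _ = x⁻¹ * (g₀ * (x * u * x⁻¹)) * x := by rw [h2]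
      _ = x⁻¹ * g₀ * x * u := by group

end Cfsg.Agent.S0959
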