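import Cfsg.Statements.S0962
import Cfsg.Agent.Lib.Helper74.BlockCount

set_option autoImplicit false
open Cfsg

namespace Cfsg.Agent.S0962

open Cfsg.Agent.Helper77 Cfsg.Agent.Helper74.DO Cfsg.Agent.Helper74.BC in
/-- Fix a maximal ideal M of the algebraic integers containing the prime p and a natural number d. The number of blocks of the finite group G of defect at least d is at most the number of conjugacy classes of p-regular elements of G of defect at least d, where the defect of a class is the exponent of p in the order of the centralizer of any of its elements. -/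
theorem result {G : Type*} [Group G] [Finite G] (p : ℕ) [Fact p.Prime] (M : Ideal Cfsg.AlgInt) (hM : Cfsg.IsPModular p M) (d : ℕ) : Nat.card {B : Set (Cfsg.IrrCharacter G) // Cfsg.IsPBlock M B ∧ d ≤ Cfsg.blockDefect p B} ≤ Nat.card {C : ConjClasses G // ∃ g : G, ConjClasses.mk g = C ∧ Cfsg.IsPRegular p g ∧ d ≤ (Nat.card (Subgroup.centralizer ({g} : Set G))).factorization p} := by
  classical
  have hfin : Fintype G := Fintype.ofFinite G
  haveI hp := isPrime_of_isPModular hM
  refine card_blocks_le hM (fun B => IsPBlock M B ∧ d ≤ blockDefect p B) (fun B h => h.1)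
    (fun C => ∃ g : G, ConjClasses.mk g = C ∧ IsPRegular p g ∧
      d ≤ (Nat.card (Subgroup.centralizer ({g} : Set G))).factorization p) ?_
  intro B B' hB hB' χ hχ K hK
  by_cases ha : MemLocalIdeal M (blockCoeff B' (Quotient.out K))
  · exact memLocalIdeal_mul_right ha (memLocalRing_centralChar χ.2 _)
  by_cases hω : MemLocalIdeal M (centralChar (χ : G → ℂ) (Quotient.out K))
  · exact memLocalIdeal_mul_left (memLocalRing_blockCoeff hB'.1 _) hω
  exfalso
  apply hK
  obtain ⟨hreg, hle⟩ := defect_le_of_blockCoeff hM hB'.1 _ ha
  have hge := defect_ge_of_centralChar hM hB.1 hχ _ hω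
  have hm1 := minVal_le_card (p := p) (nonempty_of_isPBlock hB.1)
  have hd1 := hB.2
  rw [blockDefect_eq] at hd1
  refine ⟨Quotient.out K, mk_out_conjClasses K, hreg, ?_⟩
  omega

end Cfsg.Agent.S0962
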