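import Cfsg.Statements.S0963
import Mathlib
import Cfsg.Agent.Lib.Helper16.NormalSub
import Cfsg.Agent.S0932

set_option autoImplicit false
open Cfsg

namespace Cfsg.Agent.S0963

open Cfsg.Agent.Helper16 Cfsg.Agent.Helper77
open scoped ComplexConjugate

set_option linter.unusedSectionVars false

variable {G : Type*} [Group G] [Fintype G]

theorem classInd_supp (N : Subgroup G) [N.Normal] (n : N) (g : G) (hg : g ∉ N) :
    classInd (n : G) g = 0 := by
  classical
  unfold classInd
  rw [if_neg]
  intro hc
  obtain ⟨c, hc⟩ := isConj_iff.mp hc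
  apply hg
  rw [← hc]
  exact Subgroup.Normal.conj_mem inferInstance _ n.2 c

theorem forward (N : Subgroup G) [N.Normal] [Fintype N] (χ : IrrCharacter G) (θ : IrrCharacter N)
    (hcon : classInner (fun n : N => (χ : G → ℂ) n) (θ : N → ℂ) ≠ 0) (n : N) :
    centralChar (χ : G → ℂ) (n : G) = inducedCentralChar N (θ : N → ℂ) (n : G) := by
  classical
  rw [← omega_classInd_of_irr χ.2, inducedCentralChar_eq_omega,
    omega_eq_omega_of_constituent N χ θ hcon (isClassFunction_classInd _) (classInd_supp N n)]
  congr 1

theorem extendByZero_of_mem (N : Subgroup G) (f : N → ℂ) {g : G} (hg : g ∈ N) :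
    extendByZero N f g = f ⟨g, hg⟩ := by
  unfold extendByZero
  have : g = ((⟨g, hg⟩ : N) : G) := rfl
  conv_lhs => rw [this]
  rw [Subtype.val_injective.extend_apply]

/-- the conjugated representation -/
def conjRepN (N : Subgroup G) [N.Normal] {k : ℕ} (σ : Representation ℂ N (Fin k → ℂ)) (x : G) :
    Representation ℂ N (Fin k → ℂ) :=
  MonoidHom.comp σ (MulAut.conjNormal x⁻¹ : MulAut N).toMonoidHom

/-- the character of the conjugated representation -/
theorem conj_char (N : Subgroup G) [hN : N.Normal] {k : ℕ} (σ : Representation ℂ N (Fin k → ℂ))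
    (x : G) (n : N) :
    (conjRepN N σ x).character n = extendByZero N σ.character (x⁻¹ * (n : G) * x) := by
  have hmem : x⁻¹ * (n : G) * x ∈ N := by
    have := hN.conj_mem n n.2 x⁻¹
    rwa [inv_inv] at this
  rw [extendByZero_of_mem N _ hmem]
  unfold Representation.character conjRepN
  have : (MulAut.conjNormal x⁻¹ : MulAut N).toMonoidHom n = ⟨x⁻¹ * (n : G) * x, hmem⟩ := by
    apply Subtype.ext
    simp [MulAut.conjNormal_apply]
  rw [MonoidHom.comp_apply, this]

theorem backward (N : Subgroup G) [hN : N.Normal] [Fintype N] (χ : IrrCharacter G)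
    (θ : IrrCharacter N)
    (h : ∀ n : N, centralChar (χ : G → ℂ) (n : G) = inducedCentralChar N (θ : N → ℂ) (n : G)) :
    classInner (fun n : N => (χ : G → ℂ) n) (θ : N → ℂ) ≠ 0 := by
  classical
  obtain ⟨θf, k, σ, hσirr, hσ⟩ := θ
  subst hσ
  have hθ1 : σ.character 1 ≠ 0 := irrChar_one_ne_zero ⟨k, σ, hσirr, rfl⟩
  have hχ1 : (χ : G → ℂ) 1 ≠ 0 := irrChar_one_ne_zero χ.2
  have hG : (Nat.card G : ℂ) ≠ 0 := by exact_mod_cast Nat.card_pos.ne'
  -- the conjugate characters
  set ψ : G → N → ℂ := fun x => (conjRepN N σ x).character with hψ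
  have hψext : ∀ x : G, ∀ n : N, ψ x n = extendByZero N σ.character (x⁻¹ * (n : G) * x) := by
    intro x n
    exact conj_char N σ x n
  -- formula for χ on N
  have hform : ∀ n : N, (χ : G → ℂ) n
      = ((χ : G → ℂ) 1 / ((Nat.card G : ℂ) * σ.character 1)) * ∑ x : G, ψ x n := by
    intro n
    have h1 := h n
    unfold centralChar inducedCentralChar at h1
    rw [Cfsg.Agent.S0932.finsum_subgroup_conj N (fun m => σ.character m / σ.character 1) (n : G)] at h1
    have hext : ∀ g : G, extendByZero N (fun m => σ.character m / σ.character 1) g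
        = extendByZero N σ.character g / σ.character 1 := by
      intro g
      unfold extendByZero
      by_cases hg : g ∈ N
      · have : g = ((⟨g, hg⟩ : N) : G) := rfl
        rw [this, Subtype.val_injective.extend_apply, Subtype.val_injective.extend_apply]
      · rw [Function.extend_apply', Function.extend_apply']
        · simp
        · rintro ⟨m, rfl⟩; exact hg m.2
        · rintro ⟨m, rfl⟩; exact hg m.2
    simp only [hext] at h1
    rw [← Finset.sum_div] at h1
    have h2 := Cfsg.Agent.S0932.sum_conj_eq (n : G) (extendByZero N σ.character)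
    simp only [← hψext] at h2
    rw [h2]
    have hidx : ((Subgroup.centralizer ({(n : G)} : Set G)).index : ℂ) *
        (Nat.card (Subgroup.centralizer ({(n : G)} : Set G)) : ℂ) = (Nat.card G : ℂ) := by
      rw [← Nat.cast_mul, mul_comm, Subgroup.card_mul_index]
    have hC : (Nat.card (Subgroup.centralizer ({(n : G)} : Set G)) : ℂ) ≠ 0 := by
      exact_mod_cast Nat.card_pos.ne'
    set S := ∑ k ∈ Finset.univ.filter (fun k : G => IsConj (n : G) k), extendByZero N σ.character k
    have hS : S = ((Subgroup.centralizer ({(n : G)} : Set G)).index : ℂ) * (χ : G → ℂ) n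
        / (χ : G → ℂ) 1 * σ.character 1 := by
      rw [h1]; field_simp
    have hidx0 : ((Subgroup.centralizer ({(n : G)} : Set G)).index : ℂ) ≠ 0 := by
      intro h0
      rw [h0, zero_mul] at hidx
      exact hG hidx.symm
    rw [hS, ← hidx]
    field_simp
  -- inner products are natural numbers
  have hd : ∀ x : G, ∃ d : ℕ, classInner (ψ x) σ.character = (d : ℂ) := by
    intro x
    exact ⟨_, Cfsg.Agent.Helper78.classInner_rep_eq_finrank (conjRepN N σ x) σ⟩
  choose d hd using hd
  have hψ1 : ψ 1 = σ.character := by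
    funext n
    rw [hψext]
    simp only [inv_one, one_mul, mul_one]
    rw [extendByZero_of_mem N _ n.2]
  have hd1 : d 1 = 1 := by
    have h1 := hd 1
    rw [hψ1] at h1
    have h2 := Cfsg.Agent.Helper78.classInner_irr_self (⟨σ.character, k, σ, hσirr, rfl⟩ : IrrCharacter N)
    rw [h2] at h1
    exact_mod_cast h1.symm
  -- compute the inner product
  have hfun : (fun n : N => (χ : G → ℂ) n)
      = ((χ : G → ℂ) 1 / ((Nat.card G : ℂ) * σ.character 1)) • ∑ x : G, ψ x := by
    funext n
    rw [hform n]
    simp only [Pi.smul_apply, Finset.sum_apply, smul_eq_mul]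
  show classInner (fun n : N => (χ : G → ℂ) n) σ.character ≠ 0
  rw [hfun, Cfsg.Agent.Helper78.classInner_smul_left, Cfsg.Agent.Helper78.classInner_sum_left]
  simp only [hd]
  rw [← Nat.cast_sum]
  apply mul_ne_zero
  · exact div_ne_zero hχ1 (mul_ne_zero hG hθ1)
  · have : 0 < ∑ x : G, d x := by
      apply Finset.sum_pos'
      · intro x _; exact Nat.zero_le _
      · exact ⟨1, Finset.mem_univ _, by rw [hd1]; norm_num⟩
    exact_mod_cast this.ne'

/-- Let N be a normal subgroup of the finite group G, χ an irreducible character of G and θ an irreducible character of N. Then θ occurs in the restriction of χ to N if and only if, for every n ∈ N, the central character of χ at n (class size in G times χ n over χ 1) equals the sum of θ m / θ 1 over the elements m of N conjugate in G to n. -/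
theorem result {G : Type*} [Group G] [Fintype G] (N : Subgroup G) [N.Normal] [Fintype N] (χ : Cfsg.IrrCharacter G) (θ : Cfsg.IrrCharacter N) : Cfsg.classInner (fun n : N => (χ : G → ℂ) n) (θ : N → ℂ) ≠ 0 ↔ ∀ n : N, Cfsg.centralChar (χ : G → ℂ) (n : G) = Cfsg.inducedCentralChar N (θ : N → ℂ) (n : G) :=
  ⟨fun h n => forward N χ θ h n, backward N χ θ⟩

end Cfsg.Agent.S0963
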