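import Mathlib
import Cfsg.Statements.S0965
import Cfsg.Agent.Lib.Helper16.Passman
import Cfsg.Agent.S0963

set_option autoImplicit false
open Cfsg

namespace Cfsg.Agent.S0965

open Cfsg.Agent.Helper16 Cfsg.Agent.Helper77

/-- Let N be a normal subgroup of the finite group G and let B, b be blocks of G and of N relative to a maximal ideal M of the algebraic integers containing the prime p. Then some χ ∈ B has a constituent in b on restriction to N if and only if, for all χ ∈ B, θ ∈ b and n ∈ N, the central character of χ at n is congruent modulo the local ideal at M to the sum of θ m / θ 1 over the elements m ∈ N conjugate in G to n. -/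
theorem result {G : Type*} [Group G] [Fintype G] (p : ℕ) [Fact p.Prime] (M : Ideal Cfsg.AlgInt) (hM : Cfsg.IsPModular p M) (N : Subgroup G) [N.Normal] [Fintype N] (B : Set (Cfsg.IrrCharacter G)) (hB : Cfsg.IsPBlock M B) (b : Set (Cfsg.IrrCharacter N)) (hb : Cfsg.IsPBlock M b) : (∃ χ ∈ B, ∃ θ ∈ b, Cfsg.classInner (fun n : N => (χ : G → ℂ) n) (θ : N → ℂ) ≠ 0) ↔ ∀ χ ∈ B, ∀ θ ∈ b, ∀ n : N, Cfsg.MemLocalIdeal M (Cfsg.centralChar (χ : G → ℂ) (n : G) - Cfsg.inducedCentralChar N (θ : N → ℂ) (n : G)) := by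
  classical
  have := isPrime_of_isPModular hM
  have hne := ne_top_of_isPModular hM
  constructor
  · rintro ⟨χ₀, hχ₀, θ₀, hθ₀, hcon⟩ χ hχ θ hθ n
    have h1 : SameBlock M (χ : G → ℂ) (χ₀ : G → ℂ) :=
      Cfsg.Agent.Helper77.sameBlock_of_mem hB hχ hχ₀
    have h2 : SameBlock M (θ₀ : N → ℂ) (θ : N → ℂ) :=
      Cfsg.Agent.Helper77.sameBlock_of_mem hb hθ₀ hθ
    have e1 := h1 (n : G)
    have e2 := Cfsg.Agent.S0963.forward N χ₀ θ₀ hcon n
    have e3 := inducedCentralChar_sub_memLocalIdeal hM N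
      (isClassFunction_of_isIrrCharacter' θ₀.2) (isClassFunction_of_isIrrCharacter' θ.2) h2 (n : G)
    have := memLocalIdeal_add e1 e3
    rw [e2] at this
    rwa [sub_add_sub_cancel] at this
  · intro h
    obtain ⟨χ, hχ⟩ := Cfsg.Agent.Helper77.nonempty_of_isPBlock hB
    obtain ⟨θ, hθ⟩ := Cfsg.Agent.Helper77.nonempty_of_isPBlock hb
    obtain ⟨θ₁, hθ₁⟩ := exists_constituent N χ
    have hC : ∀ x : G, ∀ θ' ∈ conjClosure N b, conjIrr N x θ' ∈ conjClosure N b :=
      fun x θ' hθ' => conjClosure_conj_closed N b x θ' hθ'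
    have key := omega_sub_omega_restrict_memLocalIdeal N hM χ θ (h χ hχ θ hθ)
      (idemFun N (conjClosure N b)) (isClassFunction_idemFun N _ hC)
      (fun g hg => idemFun_of_not_mem N _ hg) (memLocalRing_idemFun_conjClosure N hM hb)
    rw [omega_idemFun_of_constituent N _ hC χ θ₁ hθ₁, omega_idemFun_restrict,
      if_pos (subset_conjClosure N b hθ)] at key
    have hmem : θ₁ ∈ conjClosure N b := by
      by_contra hcon
      rw [if_neg hcon, zero_sub] at key
      have := memLocalIdeal_neg key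
      rw [neg_neg] at this
      exact not_memLocalIdeal_one this
    rw [mem_conjClosure] at hmem
    obtain ⟨g, hg⟩ := hmem
    refine ⟨χ, hχ, conjIrr N g θ₁, hg, ?_⟩
    rw [classInner_restrict_conjIrr]
    exact hθ₁

end Cfsg.Agent.S0965
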