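import Cfsg.Statements.S0967
import Mathlib
import Cfsg.Agent.Lib.Helper16.QuotBlock

set_option autoImplicit false
open Cfsg

namespace Cfsg.Agent.S0967

open Cfsg.Agent.Helper16 Cfsg.Agent.Helper77

/-- Let N be a normal subgroup of the finite group G of order prime to p and fix a maximal ideal M of the algebraic integers containing p. If χ is an irreducible character of G ⧸ N and ψ lies in the block of its inflation χ ∘ (quotient map), then ψ is itself inflated from an irreducible character ψ' of G ⧸ N lying in the block of χ. (Over a normal p'-subgroup, blocks of the quotient are whole blocks of G.) -/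
theorem result {G : Type*} [Group G] [Finite G] (p : ℕ) [Fact p.Prime] (M : Ideal Cfsg.AlgInt) (hM : Cfsg.IsPModular p M) (N : Subgroup G) [N.Normal] (hN : ¬ p ∣ Nat.card N) (χ : Cfsg.IrrCharacter (G ⧸ N)) (ψ : Cfsg.IrrCharacter G) (hψ : ψ ∈ Cfsg.blockOf M ((χ : G ⧸ N → ℂ) ∘ QuotientGroup.mk)) : ∃ ψ' : Cfsg.IrrCharacter (G ⧸ N), (ψ : G → ℂ) = (ψ' : G ⧸ N → ℂ) ∘ QuotientGroup.mk ∧ Cfsg.SameBlock M (χ : G ⧸ N → ℂ) (ψ' : G ⧸ N → ℂ) := by
  classical
  have : Fintype G := Fintype.ofFinite G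
  have : Fintype N := Fintype.ofFinite N
  have : Fintype (G ⧸ N) := Fintype.ofFinite _
  have hsb : SameBlock M ((Cfsg.Agent.Helper79.inflate N χ : IrrCharacter G) : G → ℂ)
      (ψ : G → ℂ) := hψ
  -- N is in the kernel of ψ
  have hker : ∀ n : N, (ψ : G → ℂ) n = (ψ : G → ℂ) 1 := by
    apply ker_of_sameBlock_of_pprime N hM hN (Cfsg.Agent.Helper79.inflate N χ) ψ hsb
    intro n
    rw [Cfsg.Agent.Helper79.inflate_apply, Cfsg.Agent.Helper79.inflate_apply]
    have h1 : (QuotientGroup.mk (n : G) : G ⧸ N) = 1 := (QuotientGroup.eq_one_iff (n : G)).2 n.2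
    rw [h1, QuotientGroup.mk_one]
  have hle : N ≤ Cfsg.Agent.Helper79.irrKer ψ := by
    intro n hn
    rw [Cfsg.Agent.Helper79.mem_irrKer]
    exact hker ⟨n, hn⟩
  obtain ⟨ψ', hψ'⟩ := Cfsg.Agent.Helper79.exists_deflate N ψ hle
  refine ⟨ψ', ?_, ?_⟩
  · rw [← hψ']
    rfl
  · apply sameBlock_of_sameBlock_inflate N hM hN χ.2 ψ'.2
    have : ((ψ' : G ⧸ N → ℂ) ∘ (QuotientGroup.mk : G → G ⧸ N)) = (ψ : G → ℂ) := by
      rw [← hψ']; rfl
    rw [this]
    exact hψ

end Cfsg.Agent.S0967
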