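import Cfsg.Statements.S0968
import Cfsg.Agent.Lib.Helper78.PCentral2
import Cfsg.Agent.Lib.Helper80.CharBasic

set_option autoImplicit false
open Cfsg

namespace Cfsg.Agent.S0968

/-- Let P be a p-subgroup of the finite group G with P ⊔ C_G(P) = G, and let B be a block with defect group P relative to a maximal ideal M of the algebraic integers containing p. Then there is exactly one θ ∈ B with θ x = θ 1 for all x ∈ P; for this θ the exponent of p in θ(1) equals the exponent of p in the index of P; and the number of members of B equals the number of conjugacy classes of P. -/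
theorem result {G : Type*} [Group G] [Finite G] (p : ℕ) [Fact p.Prime] (M : Ideal Cfsg.AlgInt) (hM : Cfsg.IsPModular p M) (P : Subgroup G) (hP : IsPGroup p P) (hG : P ⊔ Subgroup.centralizer (P : Set G) = ⊤) (B : Set (Cfsg.IrrCharacter G)) (hB : Cfsg.IsPBlock M B) (hD : Cfsg.IsDefectGroup p M B P) : (∃! θ : Cfsg.IrrCharacter G, θ ∈ B ∧ ∀ x ∈ P, (θ : G → ℂ) x = (θ : G → ℂ) 1) ∧ (∀ θ ∈ B, (∀ x ∈ P, (θ : G → ℂ) x = (θ : G → ℂ) 1) → (Cfsg.charDegree (θ : G → ℂ)).factorization p = P.index.factorization p) ∧ Nat.card B = Nat.card (ConjClasses P) := by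
  classical
  have := Fintype.ofFinite G
  have hPn := Cfsg.Agent.Helper78.normal_of_sup_centralizer P hG
  obtain ⟨ψ₀, f, h₀, huniq, hdeg, hbij, -, -⟩ :=
    Cfsg.Agent.Helper78.pcentral_main hM P hP hG hB hD
  have hker : ∀ x ∈ P, (Cfsg.Agent.Helper79.inflate P ψ₀ : G → ℂ) x =
      (Cfsg.Agent.Helper79.inflate P ψ₀ : G → ℂ) 1 := by
    intro x hx
    rw [Cfsg.Agent.Helper79.inflate_apply, Cfsg.Agent.Helper79.inflate_apply,
      (QuotientGroup.eq_one_iff x).2 hx, QuotientGroup.mk_one]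
  refine ⟨⟨Cfsg.Agent.Helper79.inflate P ψ₀, ⟨h₀, hker⟩, fun θ hθ => huniq θ hθ.1 hθ.2⟩, ?_, ?_⟩
  · intro θ hθ hk
    rw [huniq θ hθ hk, Cfsg.Agent.Helper79.charDegree_inflate]
    exact hdeg
  · rw [← Cfsg.Agent.Helper80.card_irr, Nat.card_congr (Set.BijOn.equiv f hbij),
      Nat.card_congr (Equiv.Set.univ _)]

end Cfsg.Agent.S0968
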