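import Cfsg.Statements.S0971
import Mathlib
import Cfsg.Agent.Lib.Helper77.Cover
import Cfsg.Agent.Lib.Helper77.Support

set_option autoImplicit false
open Cfsg

namespace Cfsg.Agent.S0971

open Cfsg.Agent.Helper77

/-- Let Q be a normal p-subgroup of the finite group G, let N = Q ⊔ C_G(Q) (a normal subgroup) and let b be a block of N relative to a maximal ideal M of the algebraic integers containing p. Then b induces some block of G, and every block B of G containing a character whose restriction to N has a constituent in b is induced by b. -/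
theorem result {G : Type*} [Group G] [Fintype G] (p : ℕ) [Fact p.Prime] (M : Ideal Cfsg.AlgInt) (hM : Cfsg.IsPModular p M) (Q : Subgroup G) [Q.Normal] (hQ : IsPGroup p Q) [Fintype ↥(Q ⊔ Subgroup.centralizer (Q : Set G))] (b : Set (Cfsg.IrrCharacter ↥(Q ⊔ Subgroup.centralizer (Q : Set G)))) (hb : Cfsg.IsPBlock M b) : Cfsg.InducedBlockDefined M (Q ⊔ Subgroup.centralizer (Q : Set G)) b ∧ ∀ B : Set (Cfsg.IrrCharacter G), Cfsg.IsPBlock M B → (∃ χ ∈ B, ∃ θ ∈ b, Cfsg.classInner (fun n : ↥(Q ⊔ Subgroup.centralizer (Q : Set G)) => (χ : G → ℂ) n) (θ : ↥(Q ⊔ Subgroup.centralizer (Q : Set G)) → ℂ) ≠ 0) → Cfsg.IsInducedBlock M (Q ⊔ Subgroup.centralizer (Q : Set G)) b B := by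
  classical
  have hpr := isPrime_of_isPModular hM
  have hQN : Q ≤ Q ⊔ Subgroup.centralizer (Q : Set G) := le_sup_left
  have hCN : Subgroup.centralizer (Q : Set G) ≤ Q ⊔ Subgroup.centralizer (Q : Set G) := le_sup_right
  have hNN : Q ⊔ Subgroup.centralizer (Q : Set G) ≤ Subgroup.normalizer (Q : Set G) := by
    rw [Subgroup.normalizer_eq_top]
    exact le_top
  have hCnorm : (Subgroup.centralizer (Q : Set G)).Normal := inferInstance
  have hNnorm : (Q ⊔ Subgroup.centralizer (Q : Set G)).Normal := inferInstance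
  constructor
  · obtain ⟨ξ, hξ⟩ := nonempty_of_isPBlock hb
    have hw := isModHom_wOf hM Q _ hQ hQN hCN hNN ξ.2
    obtain ⟨B, hB, hB1⟩ := hw.exists_block
    exact ⟨B, isInducedBlock_of_isModHom _ hb hξ hw hB hB1⟩
  · rintro B hB ⟨χ, hχ, θ, hθ, hne⟩
    refine ⟨hb, hB, fun ξ hξ χ' hχ' g => ?_⟩
    have e1 : MemLocalIdeal M (inducedCentralChar (Q ⊔ Subgroup.centralizer (Q : Set G)) (ξ : ↥(Q ⊔ Subgroup.centralizer (Q : Set G)) → ℂ) g -
        inducedCentralChar (Q ⊔ Subgroup.centralizer (Q : Set G)) (θ : ↥(Q ⊔ Subgroup.centralizer (Q : Set G)) → ℂ) g) := by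
      rw [inducedCentralChar_eq_omega, inducedCentralChar_eq_omega]
      exact memLocalIdeal_omega_sub ξ.2 θ.2 (sameBlock_of_mem hb hξ hθ)
        (isClassFunction_restr _ (fun u _ x => isClassFunction_classInd g x u))
        (isRValued_restr _ (isRValued_classInd g))
    have e2 : MemLocalIdeal M (centralChar (χ : G → ℂ) g - centralChar (χ' : G → ℂ) g) :=
      sameBlock_of_mem hB hχ hχ' g
    have e3 : MemLocalIdeal M (inducedCentralChar (Q ⊔ Subgroup.centralizer (Q : Set G)) (θ : ↥(Q ⊔ Subgroup.centralizer (Q : Set G)) → ℂ) g - centralChar (χ : G → ℂ) g) := by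
      rw [inducedCentralChar_eq_omega]
      by_cases hg : g ∈ Q ⊔ Subgroup.centralizer (Q : Set G)
      · rw [← omega_eq_of_constituent _ χ θ hne (isClassFunction_classInd g)
          (classInd_support _ hg), omega_classInd_of_irr χ.2, sub_self]
        exact memLocalIdeal_zero hpr.ne_top
      · have hz : restr (Q ⊔ Subgroup.centralizer (Q : Set G)) (classInd g) = 0 := by
          funext h
          simp only [restr, Pi.zero_apply]
          unfold classInd
          rw [if_neg]
          intro hc
          obtain ⟨k, hk⟩ := isConj_iff.mp hc.symm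
          apply hg
          rw [← hk]
          exact hNnorm.conj_mem _ h.2 k
        have h0 : omega (θ : ↥(Q ⊔ Subgroup.centralizer (Q : Set G)) → ℂ) (0 : ↥(Q ⊔ Subgroup.centralizer (Q : Set G)) → ℂ) = 0 := by
          unfold omega; simp
        rw [hz, h0, zero_sub]
        exact memLocalIdeal_neg (memLocalIdeal_centralChar_of_notMem_centralizer hM Q hQ g
          (fun h => hg (hCN h)) χ.2)
    have := memLocalIdeal_add (memLocalIdeal_add e1 e3) e2
    convert this using 1
    ring

end Cfsg.Agent.S0971
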