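import Cfsg.Statements.S0974
import Cfsg.Agent.Lib.Helper17.PrimeTIOrders

set_option autoImplicit false
open Cfsg

namespace Cfsg.Agent.S0974

theorem count_aux : ∀ n ∈ Nat.divisors 192, n % 19 = 1 → n ≠ 1 → n * 2 = 192 := by decide +kernel

theorem arith_aux : ∀ x ∈ Nat.divisors 3648, 1 < x →
    ¬ ((19 ∣ x - 1 ∧ x + 1 ∣ 3648) ∨ (19 ∣ x + 1 ∧ x - 1 ∣ 3648)) := by decide +kernel

/-- No finite simple group has order 3648 = 2^6 * 3 * 19. -/
theorem result {G : Type*} [Group G] [Finite G] [IsSimpleGroup G] : Nat.card G ≠ 3648 := by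
  intro hG
  have : Fact (Nat.Prime 19) := ⟨by norm_num⟩
  have := Fintype.ofFinite G
  obtain ⟨P⟩ : Nonempty (Sylow 19 G) := inferInstance
  obtain ⟨hP, hN, hC⟩ := Cfsg.Agent.Helper17.PrimeTI.forced_sylow 19 192 2 Nat.prime_two
    (by rw [hG]) (by norm_num) (by norm_num)
    (fun n hn => count_aux n (Nat.mem_divisors.2 ⟨hn, by norm_num⟩)) P
  have hperf : commutator G = ⊤ :=
    Cfsg.Agent.Helper17.PrimeTI.perfect_of_simple (by rw [hG]; norm_num)
  obtain ⟨x, hx1, hxd, hx⟩ := Cfsg.Agent.Helper17.PrimeTI.dihedral_normalizer_degrees hperf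
    (P : Subgroup G) 19 9 hP hC hN (by norm_num) (by norm_num)
  rw [hG] at hxd hx
  exact arith_aux x (Nat.mem_divisors.2 ⟨hxd, by norm_num⟩) hx1 hx

end Cfsg.Agent.S0974
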