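import Cfsg.Statements.S0976
import Cfsg.Agent.Lib.Helper17.Order4032
import Cfsg.Agent.Lib.Helper17.Order4032B
import Cfsg.Agent.Lib.Helper17.DihedralBSW2

set_option autoImplicit false
open Cfsg

namespace Cfsg.Agent.S0976

open Cfsg.Agent.S1017 Cfsg.Agent.Helper17.Order4032 Cfsg.Agent.Helper17.Dihedral
  Cfsg.Agent.Helper17.PrimeTI

theorem arith_aux : ∀ x ∈ Nat.divisors 4032, 1 < x →
    ((7 ∣ x - 1 ∧ x + 1 ∣ 4032) → x = 8) ∧ ¬ (7 ∣ x + 1 ∧ x - 1 ∣ 4032) := by decide +kernel

/-- `8 a² = b²` has no integer solution with `a ≠ 0`. -/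
theorem no_sq_eight (a b : ℤ) (ha : a ≠ 0) : 8 * a ^ 2 ≠ b ^ 2 := by
  intro h
  have hA : a.natAbs ≠ 0 := Int.natAbs_ne_zero.2 ha
  have h' : 8 * a.natAbs ^ 2 = b.natAbs ^ 2 := by
    have := congrArg Int.natAbs h
    rw [Int.natAbs_mul, Int.natAbs_pow, Int.natAbs_pow] at this
    exact this
  have hB : b.natAbs ≠ 0 := by
    intro hb
    rw [hb] at h'
    have : 0 < 8 * a.natAbs ^ 2 := by positivity
    omega
  have h1 : padicValNat 2 (8 * a.natAbs ^ 2) = 3 + 2 * padicValNat 2 a.natAbs := by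
    rw [padicValNat.mul (by norm_num) (pow_ne_zero _ hA), padicValNat.pow]
    congr 1
    have : (8 : ℕ) = 2 ^ 3 := by norm_num
    rw [this, padicValNat.prime_pow]
  have h2 : padicValNat 2 (b.natAbs ^ 2) = 2 * padicValNat 2 b.natAbs := padicValNat.pow _ _
  rw [h'] at h1
  omega

section

variable {G : Type*} [Group G] [Finite G]

theorem case288_4032 [IsSimpleGroup G] (hG : Nat.card G = 4032) (P : Sylow 7 G)
    (hP : Nat.card (P : Subgroup G) = 7)
    (hC : Nat.card (Subgroup.centralizer ((P : Subgroup G) : Set G)) = 7)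
    (hN : Nat.card (Subgroup.normalizer ((P : Subgroup G) : Set G)) = 14) : False := by
  classical
  have := Fintype.ofFinite G
  have hCeq : Subgroup.centralizer ((P : Subgroup G) : Set G) = (P : Subgroup G) :=
    (Subgroup.eq_of_le_of_card_ge (le_centralizer_self P hP) (by rw [hC, hP])).symm
  -- an element of the normalizer outside `P`
  obtain ⟨u, hu, huP⟩ : ∃ u ∈ Subgroup.normalizer ((P : Subgroup G) : Set G),
      u ∉ (P : Subgroup G) := by
    by_contra hno
    push Not at hno
    have hle : Subgroup.normalizer ((P : Subgroup G) : Set G) ≤ (P : Subgroup G) := hno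
    have := Subgroup.card_le_of_le hle
    omega
  obtain ⟨X, δ, r, d, hδ, hXne, hr, hcong, hd, hddvd, hform⟩ :=
    dihedral_bsw (P : Subgroup G) 7 3 hP hCeq (by rw [hN]) (by norm_num) (by norm_num) u hu huP
  have hperf : commutator G = ⊤ := perfect_of_simple (by rw [hG]; norm_num)
  have hxdvd : charDegree (X : G → ℂ) ∣ Nat.card G := Cfsg.Agent.Helper79.irr_degree_dvd_card X
  have hxpos : 0 < charDegree (X : G → ℂ) := (Cfsg.Agent.Helper79.irr_one_eq X).2
  have hx1 : charDegree (X : G → ℂ) ≠ 1 := by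
    intro h
    apply hXne
    apply Subtype.ext
    exact linear_trivial_of_perfect hperf X h
  rw [hG] at hxdvd hddvd
  obtain ⟨ha, hb⟩ := arith_aux _ (Nat.mem_divisors.2 ⟨hxdvd, by norm_num⟩) (by omega)
  -- `X` is faithful, so `X u ≠ X 1`
  have hu1 : u ≠ 1 := fun h => huP (h ▸ Subgroup.one_mem _)
  have hrx : (r : ℤ) ≠ (charDegree (X : G → ℂ) : ℤ) := by
    intro hrx
    have hker : u ∈ Cfsg.Agent.Helper79.irrKer X := by
      rw [Cfsg.Agent.Helper79.mem_irrKer, hr, hrx, (Cfsg.Agent.Helper79.irr_one_eq X).1]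
      push_cast; rfl
    rcases (inferInstance : (Cfsg.Agent.Helper79.irrKer X).Normal).eq_bot_or_eq_top with hk | hk
    · rw [hk, Subgroup.mem_bot] at hker
      exact hu1 hker
    · have hall : ∀ g : G, (X : G → ℂ) g = (X : G → ℂ) 1 := by
        intro g
        have : g ∈ Cfsg.Agent.Helper79.irrKer X := by rw [hk]; exact Subgroup.mem_top g
        exact (Cfsg.Agent.Helper79.mem_irrKer X g).1 this
      have hne : (X : G → ℂ) ≠ fun _ => 1 := fun h => hXne (Subtype.ext h)
      have h0 := Cfsg.Agent.Helper81.irr_orthonormal X.2 Cfsg.Agent.Helper81.isIrrCharacter_one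
      rw [if_neg hne] at h0
      unfold classInner at h0
      have hsum : ∑ g : G, (X : G → ℂ) g * (starRingEnd ℂ) ((fun _ : G => (1 : ℂ)) g) =
          (Nat.card G : ℂ) * (X : G → ℂ) 1 := by
        rw [Finset.sum_congr rfl (fun g _ => by rw [hall g, map_one, mul_one]),
          Finset.sum_const, Finset.card_univ, nsmul_eq_mul, Nat.card_eq_fintype_card]
      rw [hsum] at h0
      have hg0 : (Nat.card G : ℂ) ≠ 0 := by exact_mod_cast Nat.card_pos.ne'
      rw [← mul_assoc, inv_mul_cancel₀ hg0, one_mul, (Cfsg.Agent.Helper79.irr_one_eq X).1] at h0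
      have : (charDegree (X : G → ℂ) : ℂ) ≠ 0 := by exact_mod_cast hxpos.ne'
      exact this h0
  -- the arithmetic
  rcases hδ with hδ1 | hδ1
  · rw [hδ1] at hcong hd
    have h7 : 7 ∣ charDegree (X : G → ℂ) - 1 := by
      have : ((charDegree (X : G → ℂ) - 1 : ℕ) : ℤ) = (charDegree (X : G → ℂ) : ℤ) - 1 := by
        rw [Nat.cast_sub (by omega)]; simp
      rw [← this] at hcong
      exact_mod_cast hcong
    have hdx : d = charDegree (X : G → ℂ) + 1 := by omega
    rw [hdx] at hddvd
    have hx8 := ha ⟨h7, hddvd⟩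
    rw [hG, hx8, hdx, hx8] at hform
    apply no_sq_eight (8 - r) (Nat.card (Subgroup.centralizer ({u} : Set G)) : ℤ)
    · intro h
      apply hrx
      rw [hx8]
      push_cast
      linarith
    · push_cast at hform
      linarith
  · rw [hδ1] at hcong hd
    have h7 : 7 ∣ charDegree (X : G → ℂ) + 1 := by
      have : ((charDegree (X : G → ℂ) + 1 : ℕ) : ℤ) = (charDegree (X : G → ℂ) : ℤ) - (-1) := by
        push_cast; ring
      rw [← this] at hcong
      exact_mod_cast hcong
    have hdx : d = charDegree (X : G → ℂ) - 1 := by omega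
    rw [hdx] at hddvd
    exact hb ⟨h7, hddvd⟩

theorem main4032 [IsSimpleGroup G] (hG : Nat.card G = 4032) : False := by
  obtain ⟨P⟩ : Nonempty (Sylow 7 G) := inferInstance
  have hP : Nat.card (P : Subgroup G) = 7 := by
    have := sylow_card_eq P 1 576 (by rw [hG]; norm_num) (by norm_num)
    simpa using this
  obtain ⟨k, c, hk, hk1, hC, hN⟩ := normalizer_structure P hP (by rw [hG]; norm_num)
  have hmul := card_sylow_mul_card_normalizer P
  have hmod := card_sylow_mod (G := G) (p := 7)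
  have hn1 := sylow_count_ne_one P (by rw [hP]; norm_num) (by rw [hP, hG]; norm_num)
  rw [hN, hG] at hmul
  rcases numerics4032 _ k c hmul hk hk1 hmod hn1 with ⟨h8, hc⟩ | ⟨h36, hk2, hc8⟩ |
    ⟨h64, hk3, hc3⟩ | ⟨h288, hk2, hc1⟩
  · exact case8_2016 P hP h8 c hC hc
  · subst hk2
    subst hc8
    exact case36_4032 hG P hP h36 (by rw [hC]) (by rw [hN])
  · subst hk3
    subst hc3
    exact case64_4032 hG P hP h64 (by rw [hC]) (by rw [hN])
  · subst hk2
    subst hc1
    exact case288_4032 hG P hP (by rw [hC]) (by rw [hN])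

end

/-- No finite simple group has order 4032 = 2^6 * 3^2 * 7. -/
theorem result {G : Type*} [Group G] [Finite G] [IsSimpleGroup G] : Nat.card G ≠ 4032 :=
  fun hG => main4032 hG

end Cfsg.Agent.S0976
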