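-- Statement S0977: no finite simple group has order 4320 (helper50's lemma server O4320).
import Cfsg.Statements.S0977
import Cfsg.Agent.Lib.Helper50.O4320Main

set_option autoImplicit false
open Cfsg

namespace Cfsg.Agent.S0977

/-- No finite simple group has order 4320 = 2^5 * 3^3 * 5. -/
theorem result {G : Type*} [Group G] [Finite G] [IsSimpleGroup G] : Nat.card G ≠ 4320 :=
  Cfsg.Agent.Helper50.O4320.h50_main

end Cfsg.Agent.S0977
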