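import Cfsg.Statements.S0979
import Cfsg.Agent.Lib.Helper17.PrimeTIOrders
import Cfsg.Agent.Lib.Helper17.PrimeTIApp3

set_option autoImplicit false
open Cfsg

namespace Cfsg.Agent.S0979

theorem count_aux : ∀ n ∈ Nat.divisors 288, n % 19 = 1 → n ≠ 1 → n * 3 = 288 := by decide +kernel

theorem arith_aux : ∀ x ∈ Nat.divisors 5472, 1 < x →
    (19 ∣ x - 1 → x = 96) ∧ (19 ∣ x + 1 → x = 18) := by decide +kernel

/-- No finite simple group has order 5472 = 2^5 * 3^2 * 19. -/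
theorem result {G : Type*} [Group G] [Finite G] [IsSimpleGroup G] : Nat.card G ≠ 5472 := by
  intro hG
  have : Fact (Nat.Prime 19) := ⟨by norm_num⟩
  have := Fintype.ofFinite G
  obtain ⟨P⟩ : Nonempty (Sylow 19 G) := inferInstance
  obtain ⟨hP, hN, hC⟩ := Cfsg.Agent.Helper17.PrimeTI.forced_sylow 19 288 3 Nat.prime_three
    (by rw [hG]) (by norm_num) (by norm_num)
    (fun n hn => count_aux n (Nat.mem_divisors.2 ⟨hn, by norm_num⟩)) P
  have hperf : commutator G = ⊤ :=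
    Cfsg.Agent.Helper17.PrimeTI.perfect_of_simple (by rw [hG]; norm_num)
  have hsq : ∀ w : ℤ, w ^ 2 ≠ ((6 : ℕ) : ℤ) + 1 := by
    intro w h
    push_cast at h
    have h1 : w ≤ 2 := by nlinarith
    have h2 : -2 ≤ w := by nlinarith
    interval_cases w <;> norm_num at h
  obtain ⟨x₁, x₂, hx1, hx2, hxd1, hxd2, hx⟩ :=
    Cfsg.Agent.Helper17.PrimeTI.frob3_normalizer_degrees hperf
      (P : Subgroup G) 19 6 hP hC hN (by norm_num) (by norm_num) hsq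
  rw [hG] at hxd1 hxd2 hx
  obtain ⟨ha1, hb1⟩ := arith_aux x₁ (Nat.mem_divisors.2 ⟨hxd1, by norm_num⟩) hx1
  obtain ⟨ha2, hb2⟩ := arith_aux x₂ (Nat.mem_divisors.2 ⟨hxd2, by norm_num⟩) hx2
  rcases hx with ⟨h1, h2, h3⟩ | ⟨h1, h2, h3⟩ | ⟨h1, h2, h3⟩ | ⟨h1, h2, h3⟩
  · rw [ha1 h1, ha2 h2] at h3
    norm_num at h3
  · rw [ha1 h1, hb2 h2] at h3
    norm_num at h3
  · rw [hb1 h1, ha2 h2] at h3
    norm_num at h3
  · rw [hb1 h1, hb2 h2] at h3
    norm_num at h3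

end Cfsg.Agent.S0979
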