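import Cfsg.Statements.S0983
-- import your own Cfsg.Agent.* helpers here
import Cfsg.Agent.S0974
import Cfsg.Agent.S0975
import Cfsg.Agent.S0976
import Cfsg.Agent.S0977
import Cfsg.Agent.S0978
import Cfsg.Agent.S0979
import Cfsg.Agent.S0980
import Cfsg.Agent.Lib.Helper55.O983Table
import Cfsg.Agent.Lib.Helper82.O983Bridge
import Cfsg.Agent.Lib.Helper82.O983Inter

set_option autoImplicit false
open Cfsg

namespace Cfsg.Agent.S0983

/-- A non-abelian finite simple group of order greater than 3640 and at most 6232 has order 4080, 5616, 6048 or 6072. -/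
theorem result {G : Type*} [Group G] [Finite G] [IsSimpleGroup G] (hG : ¬ IsMulCommutative G) (h1 : 3640 < Nat.card G) (h2 : Nat.card G ≤ 6232) : Nat.card G = 4080 ∨ Nat.card G = 5616 ∨ Nat.card G = 6048 ∨ Nat.card G = 6072 := by
  by_cases hs : Cfsg.Agent.Helper55.O983.Skip (Nat.card G)
  · have r3648 := Cfsg.Agent.S0974.result (G := G)
    have r3744 := Cfsg.Agent.S0975.result (G := G)
    have r4032 := Cfsg.Agent.S0976.result (G := G)
    have r4320 := Cfsg.Agent.S0977.result (G := G)
    have r5040 := Cfsg.Agent.S0978.result (G := G)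
    have r5472 := Cfsg.Agent.S0979.result (G := G)
    have r5760 := Cfsg.Agent.S0980.result (G := G)
    have i3840 := Cfsg.Agent.Helper82.O983.no_3840 (G := G)
    have i4500 := Cfsg.Agent.Helper82.O983.no_4500 (G := G)
    have i5292 := Cfsg.Agent.Helper82.O983.no_5292 (G := G)
    have i6000 := Cfsg.Agent.Helper82.O983.no_6000 (G := G)
    have b3696 := Cfsg.Agent.Helper82.O983.no_3696 (G := G)
    have b3780 := Cfsg.Agent.Helper82.O983.no_3780 (G := G)
    have b3960 := Cfsg.Agent.Helper82.O983.no_3960 (G := G)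
    have b4160 := Cfsg.Agent.Helper82.O983.no_4160 (G := G)
    have b4200 := Cfsg.Agent.Helper82.O983.no_4200 (G := G)
    have b4212 := Cfsg.Agent.Helper82.O983.no_4212 (G := G)
    have b4400 := Cfsg.Agent.Helper82.O983.no_4400 (G := G)
    have b4480 := Cfsg.Agent.Helper82.O983.no_4480 (G := G)
    have b4536 := Cfsg.Agent.Helper82.O983.no_4536 (G := G)
    have b4620 := Cfsg.Agent.Helper82.O983.no_4620 (G := G)
    have b4680 := Cfsg.Agent.Helper82.O983.no_4680 (G := G)
    have b4760 := Cfsg.Agent.Helper82.O983.no_4760 (G := G)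
    have b4800 := Cfsg.Agent.Helper82.O983.no_4800 (G := G)
    have b4928 := Cfsg.Agent.Helper82.O983.no_4928 (G := G)
    have b4960 := Cfsg.Agent.Helper82.O983.no_4960 (G := G)
    have b5104 := Cfsg.Agent.Helper82.O983.no_5104 (G := G)
    have b5148 := Cfsg.Agent.Helper82.O983.no_5148 (G := G)
    have b5200 := Cfsg.Agent.Helper82.O983.no_5200 (G := G)
    have b5236 := Cfsg.Agent.Helper82.O983.no_5236 (G := G)
    have b5376 := Cfsg.Agent.Helper82.O983.no_5376 (G := G)
    have b5400 := Cfsg.Agent.Helper82.O983.no_5400 (G := G)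
    have b5460 := Cfsg.Agent.Helper82.O983.no_5460 (G := G)
    have b5600 := Cfsg.Agent.Helper82.O983.no_5600 (G := G)
    have b5724 := Cfsg.Agent.Helper82.O983.no_5724 (G := G)
    have b5852 := Cfsg.Agent.Helper82.O983.no_5852 (G := G)
    have b5880 := Cfsg.Agent.Helper82.O983.no_5880 (G := G)
    have b5940 := Cfsg.Agent.Helper82.O983.no_5940 (G := G)
    have b6160 := Cfsg.Agent.Helper82.O983.no_6160 (G := G)
    simp only [Cfsg.Agent.Helper55.O983.Skip, List.mem_cons, List.not_mem_nil, or_false] at hs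
    omega
  · exact absurd rfl (Cfsg.Agent.Helper55.O983.noSimple_of_range (Nat.card G) h1 h2 hs G hG)

end Cfsg.Agent.S0983
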