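import Cfsg.Statements.S0986
import Mathlib
import Cfsg.Agent.Lib.Helper17.SylowNormal

set_option autoImplicit false
open Cfsg

namespace Cfsg.Agent.S0986

open Cfsg.Agent.Helper17

/-- The main statement with abbreviations for `D = P ⊓ Q` and `N = N_G(D)`. -/
theorem main {G : Type*} [Group G] [Finite G] (p : ℕ) [Fact p.Prime] (P Q : Sylow p G)
    (hPQ : P ≠ Q) (D N : Subgroup G) (hD : D = (P : Subgroup G) ⊓ (Q : Subgroup G))
    (hN : N = Subgroup.normalizer (D : Set G))
    (hmax : ∀ P' Q' : Sylow p G, P' ≠ Q' →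
      Nat.card ↥((P' : Subgroup G) ⊓ (Q' : Subgroup G)) ≤ Nat.card ↥D) :
    1 < Nat.card (Sylow p ↥N) ∧
    (∀ S T : Sylow p ↥N, S ≠ T → (S : Subgroup ↥N) ⊓ (T : Subgroup ↥N) = D.subgroupOf N) ∧
    ∀ S : Sylow p ↥N, ∃! T : Sylow p G, (S : Subgroup ↥N).map N.subtype ≤ (T : Subgroup G) := by
  classical
  have hDN : D ≤ N := by rw [hN]; exact Subgroup.le_normalizer
  have hDnorm : (D.subgroupOf N).Normal := by
    rw [hN]; exact Subgroup.normal_in_normalizer
  have hDP : D ≤ (P : Subgroup G) := by rw [hD]; exact inf_le_left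
  have hDQ : D ≤ (Q : Subgroup G) := by rw [hD]; exact inf_le_right
  have hDp : IsPGroup p D := P.2.to_le hDP
  have hD'p : IsPGroup p (D.subgroupOf N) := hDp.comap_subtype
  have hcardPQ : Nat.card (P : Subgroup G) = Nat.card (Q : Subgroup G) := by
    rw [Sylow.card_eq_multiplicity, Sylow.card_eq_multiplicity]
  -- D is a proper subgroup of P and of Q
  have hDltP : D < (P : Subgroup G) := by
    refine lt_of_le_of_ne hDP ?_
    intro h
    apply hPQ
    have hPleQ : (P : Subgroup G) ≤ Q := h ▸ hDQ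
    exact Sylow.ext (Subgroup.eq_of_le_of_card_ge hPleQ hcardPQ.ge)
  have hDltQ : D < (Q : Subgroup G) := by
    refine lt_of_le_of_ne hDQ ?_
    intro h
    apply hPQ
    have hQleP : (Q : Subgroup G) ≤ P := h ▸ hDP
    exact (Sylow.ext (Subgroup.eq_of_le_of_card_ge hQleP hcardPQ.le)).symm
  obtain ⟨x, hxP, hxN, hxD⟩ := exists_mem_normalizer_not_mem _ D P.2 hDltP
  obtain ⟨y, hyQ, hyN, hyD⟩ := exists_mem_normalizer_not_mem _ D Q.2 hDltQ
  rw [← hN] at hxN hyN
  -- D ≤ every Sylow of N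
  have hDle : ∀ S : Sylow p ↥N, D.subgroupOf N ≤ (S : Subgroup ↥N) :=
    fun S => normal_pgroup_le_sylow _ hD'p S
  have hDle' : ∀ (S : Sylow p ↥N) (T : Sylow p G),
      (S : Subgroup ↥N).map N.subtype ≤ (T : Subgroup G) → D ≤ (T : Subgroup G) := by
    intro S T hST d hd
    apply hST
    exact ⟨⟨d, hDN hd⟩, hDle S (by rw [Subgroup.mem_subgroupOf]; exact hd), rfl⟩
  -- key: if a Sylow R of G contains D and an element of P outside D, then R = P
  have keyP : ∀ R : Sylow p G, D ≤ (R : Subgroup G) → x ∈ (R : Subgroup G) → R = P := by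
    intro R hDR hxR
    by_contra hne
    have h1 := hmax R P hne
    have hle : D ≤ (R : Subgroup G) ⊓ (P : Subgroup G) := le_inf hDR hDP
    have heq : D = (R : Subgroup G) ⊓ (P : Subgroup G) := Subgroup.eq_of_le_of_card_ge hle h1
    apply hxD
    rw [heq]
    exact ⟨hxR, hxP⟩
  have keyQ : ∀ R : Sylow p G, D ≤ (R : Subgroup G) → y ∈ (R : Subgroup G) → R = Q := by
    intro R hDR hyR
    by_contra hne
    have h1 := hmax R Q hne
    have hle : D ≤ (R : Subgroup G) ⊓ (Q : Subgroup G) := le_inf hDR hDQ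
    have heq : D = (R : Subgroup G) ⊓ (Q : Subgroup G) := Subgroup.eq_of_le_of_card_ge hle h1
    apply hyD
    rw [heq]
    exact ⟨hyR, hyQ⟩
  -- p-subgroups of N built from P and Q
  have hPNp : IsPGroup p (((P : Subgroup G) ⊓ N).subgroupOf N) :=
    (P.2.to_le inf_le_left).comap_subtype
  have hQNp : IsPGroup p (((Q : Subgroup G) ⊓ N).subgroupOf N) :=
    (Q.2.to_le inf_le_left).comap_subtype
  have hxmem : (⟨x, hxN⟩ : ↥N) ∈ ((P : Subgroup G) ⊓ N).subgroupOf N := by
    rw [Subgroup.mem_subgroupOf]; exact ⟨hxP, hxN⟩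
  have hymem : (⟨y, hyN⟩ : ↥N) ∈ ((Q : Subgroup G) ⊓ N).subgroupOf N := by
    rw [Subgroup.mem_subgroupOf]; exact ⟨hyQ, hyN⟩
  -- existence of a Sylow of G above a Sylow of N
  have hex : ∀ S : Sylow p ↥N, ∃ T : Sylow p G, (S : Subgroup ↥N).map N.subtype ≤ (T : Subgroup G) :=
    fun S => (S.2.map N.subtype).exists_le_sylow
  refine ⟨?_, ?_, ?_⟩
  · -- more than one Sylow subgroup in N
    by_contra hcon
    have hsub : Subsingleton (Sylow p ↥N) := by
      rw [← Finite.card_le_one_iff_subsingleton]; omega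
    obtain ⟨S1, hS1⟩ := hPNp.exists_le_sylow
    obtain ⟨S2, hS2⟩ := hQNp.exists_le_sylow
    have h12 : S2 = S1 := Subsingleton.elim _ _
    rw [h12] at hS2
    obtain ⟨R, hR⟩ := hex S1
    have hxR : x ∈ (R : Subgroup G) := hR ⟨⟨x, hxN⟩, hS1 hxmem, rfl⟩
    have hyR : y ∈ (R : Subgroup G) := hR ⟨⟨y, hyN⟩, hS2 hymem, rfl⟩
    have hDR := hDle' S1 R hR
    exact hPQ ((keyP R hDR hxR).symm.trans (keyQ R hDR hyR))
  · -- intersection of two distinct Sylow subgroups of N
    intro S T hST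
    obtain ⟨S', hS'⟩ := hex S
    obtain ⟨T', hT'⟩ := hex T
    have hne : S' ≠ T' := by
      rintro rfl
      have hMp : IsPGroup p (((S' : Subgroup G) ⊓ N).subgroupOf N) :=
        (S'.2.to_le inf_le_left).comap_subtype
      have hSM : (S : Subgroup ↥N) ≤ ((S' : Subgroup G) ⊓ N).subgroupOf N := by
        intro g hg
        rw [Subgroup.mem_subgroupOf]
        exact ⟨hS' ⟨g, hg, rfl⟩, g.2⟩
      have hTM : (T : Subgroup ↥N) ≤ ((S' : Subgroup G) ⊓ N).subgroupOf N := by
        intro g hg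
        rw [Subgroup.mem_subgroupOf]
        exact ⟨hT' ⟨g, hg, rfl⟩, g.2⟩
      have e1 := S.is_maximal' hMp hSM
      have e2 := T.is_maximal' hMp hTM
      exact hST (Sylow.ext (e1.symm.trans e2))
    have h1 := hmax S' T' hne
    have hle : D ≤ (S' : Subgroup G) ⊓ (T' : Subgroup G) :=
      le_inf (hDle' S S' hS') (hDle' T T' hT')
    have heq : D = (S' : Subgroup G) ⊓ (T' : Subgroup G) := Subgroup.eq_of_le_of_card_ge hle h1
    apply le_antisymm
    · intro g hg
      rw [Subgroup.mem_subgroupOf, heq]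
      exact ⟨hS' ⟨g, hg.1, rfl⟩, hT' ⟨g, hg.2, rfl⟩⟩
    · exact le_inf (hDle S) (hDle T)
  · -- uniqueness of the Sylow subgroup of G above a Sylow subgroup of N
    intro S
    obtain ⟨T, hT⟩ := hex S
    refine ⟨T, hT, ?_⟩
    intro T' hT'
    by_contra hne
    have h1 := hmax T' T hne
    have hle : D ≤ (T' : Subgroup G) ⊓ (T : Subgroup G) :=
      le_inf (hDle' S T' hT') (hDle' S T hT)
    have heq : D = (T' : Subgroup G) ⊓ (T : Subgroup G) := Subgroup.eq_of_le_of_card_ge hle h1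
    -- then S = D.subgroupOf N
    have hSD : (S : Subgroup ↥N) ≤ D.subgroupOf N := by
      intro g hg
      rw [Subgroup.mem_subgroupOf, heq]
      exact ⟨hT' ⟨g, hg, rfl⟩, hT ⟨g, hg, rfl⟩⟩
    have hSM : (S : Subgroup ↥N) ≤ ((P : Subgroup G) ⊓ N).subgroupOf N := by
      intro g hg
      have := hSD hg
      rw [Subgroup.mem_subgroupOf] at this ⊢
      exact ⟨hDP this, g.2⟩
    have e1 := S.is_maximal' hPNp hSM
    have : (⟨x, hxN⟩ : ↥N) ∈ D.subgroupOf N := hSD (e1 ▸ hxmem)
    rw [Subgroup.mem_subgroupOf] at this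
    exact hxD this

/-- Let P and Q be distinct Sylow p-subgroups of a finite group G chosen so that the order of P ∩ Q is as large as possible among intersections of two distinct Sylow p-subgroups, and let N be the normalizer of P ∩ Q. Then N has more than one Sylow p-subgroup, any two distinct Sylow p-subgroups of N intersect exactly in P ∩ Q, and each Sylow p-subgroup of N lies in exactly one Sylow p-subgroup of G. -/
theorem result {G : Type*} [Group G] [Finite G] (p : ℕ) [Fact p.Prime] (P Q : Sylow p G) (hPQ : P ≠ Q) (hmax : ∀ P' Q' : Sylow p G, P' ≠ Q' → Nat.card ↥((P' : Subgroup G) ⊓ (Q' : Subgroup G)) ≤ Nat.card ↥((P : Subgroup G) ⊓ (Q : Subgroup G))) : 1 < Nat.card (Sylow p ↥(Subgroup.normalizer (((P : Subgroup G) ⊓ (Q : Subgroup G) : Subgroup G) : Set G))) ∧ (∀ S T : Sylow p ↥(Subgroup.normalizer (((P : Subgroup G) ⊓ (Q : Subgroup G) : Subgroup G) : Set G)), S ≠ T → (S : Subgroup _) ⊓ (T : Subgroup _) = ((P : Subgroup G) ⊓ (Q : Subgroup G)).subgroupOf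 (Subgroup.normalizer (((P : Subgroup G) ⊓ (Q : Subgroup G) : Subgroup G) : Set G))) ∧ ∀ S : Sylow p ↥(Subgroup.normalizer (((P : Subgroup G) ⊓ (Q : Subgroup G) : Subgroup G) : Set G)), ∃! T : Sylow p G, (S : Subgroup _).map (Subgroup.normalizer (((P : Subgroup G) ⊓ (Q : Subgroup G) : Subgroup G) : Set G)).subtype ≤ (T : Subgroup G) := by
  exact main p P Q hPQ _ _ rfl rfl hmax

end Cfsg.Agent.S0986
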