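import Cfsg.Statements.S0987
import Cfsg.Agent.Lib.Helper17.Counting
import Cfsg.Agent.Lib.Helper17.PrimeSylow
import Cfsg.Agent.Lib.Helper17.EmbedNormalizer

set_option autoImplicit false
open Cfsg

namespace Cfsg.Agent.S0987

open Cfsg.Agent.Helper17

theorem not_dvd_mul_of_lt {a b r : ℕ} (hr : r.Prime) (ha : 0 < a) (hb : 0 < b) (har : a < r)
    (hbr : b < r) : ¬ r ∣ a * b := by
  intro h
  rcases (hr.dvd_mul).1 h with h | h
  · exact absurd (Nat.le_of_dvd ha h) (by omega)
  · exact absurd (Nat.le_of_dvd hb h) (by omega)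

/-- If a finite group has order pqr for primes p < q < r, then its Sylow r-subgroups are normal. -/
theorem result {G : Type*} [Group G] [Finite G] (p q r : ℕ) (hp : p.Prime) (hq : q.Prime) [Fact r.Prime] (hpq : p < q) (hqr : q < r) (hG : Nat.card G = p * q * r) (R : Sylow r G) : (R : Subgroup G).Normal := by
  classical
  have hr : r.Prime := Fact.out
  have : Fact p.Prime := ⟨hp⟩
  have : Fact q.Prime := ⟨hq⟩
  have hp2 := hp.two_le
  have hq2 := hq.two_le
  have hr2 := hr.two_le
  -- Sylow data for r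
  have hfr : Nat.card G = r ^ 1 * (p * q) := by rw [hG]; ring
  have hndr : ¬ r ∣ p * q := not_dvd_mul_of_lt hr hp.pos hq.pos (by omega) hqr
  obtain ⟨hdr, hmr⟩ := sylow_count (G := G) hfr hndr
  by_contra hnorm
  have hnr1 : Nat.card (Sylow r G) ≠ 1 := by
    intro h1
    have : Subsingleton (Sylow r G) := (Nat.card_eq_one_iff_unique.1 h1).1
    exact hnorm R.normal_of_subsingleton
  have hnr : Nat.card (Sylow r G) = p * q := by
    rcases dvd_prime_mul_prime hp hq hdr with h | h | h | h
    · exact absurd h hnr1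
    · rw [h, Nat.mod_eq_of_lt (by omega)] at hmr; omega
    · rw [h, Nat.mod_eq_of_lt hqr] at hmr; omega
    · exact h
  have hcR : ∀ R' : Sylow r G, Nat.card (R' : Subgroup G) = r := by
    intro R'
    have := sylow_card_eq R' hfr hndr
    simpa using this
  -- normalizer of R has order r
  have hNR := card_normalizer_mul_sylow_count R
  rw [hnr, hG] at hNR
  have hNr : Nat.card ↥(Subgroup.normalizer ((R : Subgroup G) : Set G)) = r := by
    have hpq : 0 < p * q := Nat.mul_pos hp.pos hq.pos
    have : Nat.card ↥(Subgroup.normalizer ((R : Subgroup G) : Set G)) * (p * q) = r * (p * q) := by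
      rw [hNR]; ring
    exact Nat.eq_of_mul_eq_mul_right hpq this
  -- Sylow data for q
  have hfq : Nat.card G = q ^ 1 * (p * r) := by rw [hG]; ring
  have hndq : ¬ q ∣ p * r := by
    intro h
    rcases (hq.dvd_mul).1 h with h | h
    · exact absurd (Nat.le_of_dvd hp.pos h) (by omega)
    · rcases (Nat.dvd_prime hr).1 h with h | h <;> omega
  obtain ⟨hdq, hmq⟩ := sylow_count (G := G) hfq hndq
  have hcQ : ∀ Q' : Sylow q G, Nat.card (Q' : Subgroup G) = q := by
    intro Q'
    have := sylow_card_eq Q' hfq hndq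
    simpa using this
  -- Sylow data for p
  have hfp : Nat.card G = p ^ 1 * (q * r) := by rw [hG]; ring
  have hndp : ¬ p ∣ q * r := by
    intro h
    rcases (hp.dvd_mul).1 h with h | h
    · rcases (Nat.dvd_prime hq).1 h with h | h <;> omega
    · rcases (Nat.dvd_prime hr).1 h with h | h <;> omega
  obtain ⟨hdp, hmp⟩ := sylow_count (G := G) hfp hndp
  have hcP : ∀ P' : Sylow p G, Nat.card (P' : Subgroup G) = p := by
    intro P'
    have := sylow_card_eq P' hfp hndp
    simpa using this
  -- if a Sylow q or Sylow p subgroup is normal we get a contradiction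
  have hcaseq : Nat.card (Sylow q G) ≠ 1 := by
    intro h1
    have : Subsingleton (Sylow q G) := (Nat.card_eq_one_iff_unique.1 h1).1
    obtain ⟨Q⟩ : Nonempty (Sylow q G) := inferInstance
    have : (Q : Subgroup G).Normal := Q.normal_of_subsingleton
    have := mul_dvd_card_normalizer_of_normal R (hcR R) (Q : Subgroup G) q (hcQ Q) hq hqr
    rw [hNr] at this
    have := Nat.le_of_dvd hr.pos this
    nlinarith
  have hcasep : Nat.card (Sylow p G) ≠ 1 := by
    intro h1
    have : Subsingleton (Sylow p G) := (Nat.card_eq_one_iff_unique.1 h1).1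
    obtain ⟨P⟩ : Nonempty (Sylow p G) := inferInstance
    have : (P : Subgroup G).Normal := P.normal_of_subsingleton
    have := mul_dvd_card_normalizer_of_normal R (hcR R) (P : Subgroup G) p (hcP P) hp (by omega)
    rw [hNr] at this
    have := Nat.le_of_dvd hr.pos this
    nlinarith
  -- lower bounds on Sylow numbers
  have hnq : r ≤ Nat.card (Sylow q G) := by
    rcases dvd_prime_mul_prime hp hr hdq with h | h | h | h
    · exact absurd h hcaseq
    · rw [h, Nat.mod_eq_of_lt hpq] at hmq; omega
    · omega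
    · rw [h]; nlinarith
  have hnp : q ≤ Nat.card (Sylow p G) := by
    rcases dvd_prime_mul_prime hq hr hdp with h | h | h | h
    · exact absurd h hcasep
    · omega
    · omega
    · rw [h]; nlinarith
  -- counting elements
  have hcount := sum_card_orderOf_le (G := G) ({1, p, q, r} : Finset ℕ)
  have h1pqr : (1 : ℕ) ∉ ({p, q, r} : Finset ℕ) := by simp; omega
  have hpqr : p ∉ ({q, r} : Finset ℕ) := by simp; omega
  have hqr' : q ∉ ({r} : Finset ℕ) := by simp; omega
  rw [Finset.sum_insert h1pqr, Finset.sum_insert hpqr, Finset.sum_insert hqr',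
    Finset.sum_singleton, card_orderOf_eq_prime hcP, card_orderOf_eq_prime hcQ,
    card_orderOf_eq_prime hcR, hnr, hG] at hcount
  have hone : Nat.card {g : G // orderOf g = 1} = 1 := by
    rw [Nat.card_eq_one_iff_unique]
    refine ⟨⟨?_⟩, ⟨⟨1, orderOf_one⟩⟩⟩
    rintro ⟨a, ha⟩ ⟨b, hb⟩
    apply Subtype.ext
    rw [orderOf_eq_one_iff] at ha hb
    exact ha.trans hb.symm
  rw [hone] at hcount
  obtain ⟨p', rfl⟩ : ∃ p', p = p' + 2 := ⟨p - 2, by omega⟩
  obtain ⟨q', rfl⟩ : ∃ q', q = q' + 2 := ⟨q - 2, by omega⟩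
  obtain ⟨r', rfl⟩ : ∃ r', r = r' + 2 := ⟨r - 2, by omega⟩
  simp only [show p' + 2 - 1 = p' + 1 by omega, show q' + 2 - 1 = q' + 1 by omega,
    show r' + 2 - 1 = r' + 1 by omega] at hcount
  have e1 : (q' + 2) * (p' + 1) ≤ Nat.card (Sylow (p' + 2) G) * (p' + 1) :=
    Nat.mul_le_mul_right _ hnp
  have e2 : (r' + 2) * (q' + 1) ≤ Nat.card (Sylow (q' + 2) G) * (q' + 1) :=
    Nat.mul_le_mul_right _ hnq
  nlinarith

end Cfsg.Agent.S0987
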