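import Cfsg.Statements.S0988
import Mathlib
import Cfsg.Agent.S0144
import Cfsg.Agent.Lib.Helper17.Simple
import Cfsg.Agent.Lib.Helper17.Burnside
import Cfsg.Agent.Lib.Helper17.Counting
import Cfsg.Agent.Lib.Helper17.PrimeSylow
import Cfsg.Agent.Lib.Helper17.AutPSq

set_option autoImplicit false
open Cfsg

namespace Cfsg.Agent.S0988

open Cfsg.Agent.Helper17

/-- A simple group whose order involves at most two primes has prime order. -/
theorem prime_card_of_two_primes {G : Type*} [Group G] [Finite G] [IsSimpleGroup G] (p q a b : ℕ)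
    (hp : p.Prime) (hq : q.Prime) (hcard : Nat.card G = p ^ a * q ^ b) : (Nat.card G).Prime := by
  have hsol : Group.IsSolvable G := Cfsg.Agent.S0144.result p q a b hp hq hcard
  have hcomm : ∀ a b : G, a * b = b * a := IsSimpleGroup.comm_iff_isSolvable.2 hsol
  exact prime_card_of_comm ⟨⟨hcomm⟩⟩

/-- No simple group has order 132. -/
theorem not_card_132 {G : Type*} [Group G] [Finite G] [IsSimpleGroup G] (hG : ¬ IsMulCommutative G)
    (hcard : Nat.card G = 132) : False := by
  have : Fact (Nat.Prime 11) := ⟨by norm_num⟩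
  have : Fact (Nat.Prime 3) := ⟨by norm_num⟩
  have hf11 : Nat.card G = 11 ^ 1 * 12 := by rw [hcard]; norm_num
  have hn11 : ¬ 11 ∣ 12 := by norm_num
  have hf3 : Nat.card G = 3 ^ 1 * 44 := by rw [hcard]; norm_num
  have hn3 : ¬ 3 ∣ 44 := by norm_num
  obtain ⟨hd11, hm11⟩ := sylow_count (G := G) hf11 hn11
  obtain ⟨hd3, hm3⟩ := sylow_count (G := G) hf3 hn3
  have h11ne := sylow_count_ne_one (G := G) hf11 hn11 (by norm_num) (by norm_num)
  have h3ne := sylow_count_ne_one (G := G) hf3 hn3 (by norm_num) (by norm_num)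
  have h3fact := sylow_count_factorial (p := 3) hG h3ne
  have hc11 : ∀ S : Sylow 11 G, Nat.card (S : Subgroup G) = 11 := by
    intro S; have := sylow_card_eq S hf11 hn11; simpa using this
  have hc3 : ∀ S : Sylow 3 G, Nat.card (S : Subgroup G) = 3 := by
    intro S; have := sylow_card_eq S hf3 hn3; simpa using this
  have h11 : Nat.card (Sylow 11 G) = 12 := by
    have hle : Nat.card (Sylow 11 G) ≤ 12 := Nat.le_of_dvd (by norm_num) hd11
    generalize Nat.card (Sylow 11 G) = n at *
    interval_cases n <;> omega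
  have h3 : Nat.card (Sylow 3 G) = 22 := by
    have hle : Nat.card (Sylow 3 G) ≤ 44 := Nat.le_of_dvd (by norm_num) hd3
    generalize Nat.card (Sylow 3 G) = n at *
    interval_cases n <;> first | omega | (exfalso; rw [hcard] at h3fact; revert h3fact; decide)
  have hcount := sum_card_orderOf_le (G := G) ({3, 11} : Finset ℕ)
  rw [Finset.sum_insert (by decide), Finset.sum_singleton, card_orderOf_eq_prime hc3,
    card_orderOf_eq_prime hc11, h3, h11, hcard] at hcount
  omega

/-- The case of three distinct primes with `q < r`. -/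
theorem main {G : Type*} [Group G] [Finite G] [IsSimpleGroup G] (p q r : ℕ) (hp : p.Prime)
    (hq : q.Prime) (hr : r.Prime) (hpq : p ≠ q) (hpr : p ≠ r) (hqr : q < r)
    (hG : Nat.card G = p ^ 2 * q * r) : Nat.card G = 60 := by
  classical
  have hp2 := hp.two_le
  have hq2 := hq.two_le
  have hr2 := hr.two_le
  have hnotprime : ¬ (Nat.card G).Prime := by
    rw [hG, show p ^ 2 * q * r = p * (p * q * r) by ring]
    apply Nat.not_prime_mul (by omega)
    have : 0 < p * q := Nat.mul_pos hp.pos hq.pos
    nlinarith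
  have hnc : ¬ IsMulCommutative G := not_comm_of_not_prime hnotprime
  have : Fact p.Prime := ⟨hp⟩
  have : Fact q.Prime := ⟨hq⟩
  have : Fact r.Prime := ⟨hr⟩
  -- the smallest prime divisor
  have hpp : 4 ≤ p ^ 2 := by nlinarith
  have hqr4 : 4 ≤ q * r := by nlinarith
  have hcard16 : 16 ≤ p ^ 2 * q * r := by
    calc 16 = 4 * 4 := rfl
      _ ≤ p ^ 2 * (q * r) := Nat.mul_le_mul hpp hqr4
      _ = p ^ 2 * q * r := by ring
  have hcard_ne_one : Nat.card G ≠ 1 := by rw [hG]; omega
  have hmin_prime : (Nat.card G).minFac.Prime := Nat.minFac_prime hcard_ne_one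
  have hmin_dvd : (Nat.card G).minFac ∣ p ^ 2 * q * r := hG ▸ Nat.minFac_dvd _
  have hmin_mem : (Nat.card G).minFac = p ∨ (Nat.card G).minFac = q ∨ (Nat.card G).minFac = r := by
    rcases (hmin_prime.dvd_mul).1 hmin_dvd with h | h
    · rcases (hmin_prime.dvd_mul).1 h with h | h
      · left; exact (Nat.prime_dvd_prime_iff_eq hmin_prime hp).1 (hmin_prime.dvd_of_dvd_pow h)
      · right; left; exact (Nat.prime_dvd_prime_iff_eq hmin_prime hq).1 h
    · right; right; exact (Nat.prime_dvd_prime_iff_eq hmin_prime hr).1 h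
  have hmin_le : ∀ s : ℕ, s.Prime → s ∣ Nat.card G → (Nat.card G).minFac ≤ s :=
    fun s hs hd => Nat.minFac_le_of_dvd hs.two_le hd
  have hpd : p ∣ Nat.card G := by rw [hG]; exact Dvd.intro _ (by ring : p * (p * q * r) = _)
  have hqd : q ∣ Nat.card G := by rw [hG]; exact Dvd.intro _ (by ring : q * (p ^ 2 * r) = _)
  have hrd : r ∣ Nat.card G := by rw [hG]; exact Dvd.intro_left _ rfl
  -- Claim A: p < q
  have hpq' : p < q := by
    by_contra hcon
    have hqp : q < p := by omega
    have hminq : (Nat.card G).minFac = q := by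
      have h1 := hmin_le q hq hqd
      rcases hmin_mem with h | h | h <;> omega
    obtain ⟨Q⟩ : Nonempty (Sylow q G) := inferInstance
    have hfq : Nat.card G = q ^ 1 * (p ^ 2 * r) := by rw [hG]; ring
    have hnq : ¬ q ∣ p ^ 2 * r := by
      intro h
      rcases (hq.dvd_mul).1 h with h | h
      · exact hpq ((Nat.prime_dvd_prime_iff_eq hq hp).1 (hq.dvd_of_dvd_pow h)).symm
      · exact hqr.ne ((Nat.prime_dvd_prime_iff_eq hq hr).1 h)
    have hcQ : Nat.card (Q : Subgroup G) = q := by
      have := sylow_card_eq Q hfq hnq; simpa using this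
    have hcyc : IsCyclic ↥(Q : Subgroup G) := isCyclic_of_prime_card hcQ
    have hNC := IsCyclic.normalizer_le_centralizer hminq hcyc
    refine not_normalizer_le_centralizer Q ?_ ?_ hNC
    · rw [hcQ]; omega
    · rw [hcQ, hG]
      intro h
      have h4 : 4 ≤ p ^ 2 * r := by nlinarith
      have : q * 1 = q * (p ^ 2 * r) := by
        rw [mul_one]
        calc q = p ^ 2 * q * r := h
          _ = q * (p ^ 2 * r) := by ring
      have := Nat.eq_of_mul_eq_mul_left hq.pos this
      omega
  have hminp : (Nat.card G).minFac = p := by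
    have h1 := hmin_le p hp hpd
    rcases hmin_mem with h | h | h <;> omega
  -- the Sylow p-subgroup
  obtain ⟨P⟩ : Nonempty (Sylow p G) := inferInstance
  have hfp : Nat.card G = p ^ 2 * (q * r) := by rw [hG]; ring
  have hnp : ¬ p ∣ q * r := by
    intro h
    rcases (hp.dvd_mul).1 h with h | h
    · exact hpq ((Nat.prime_dvd_prime_iff_eq hp hq).1 h)
    · exact hpr ((Nat.prime_dvd_prime_iff_eq hp hr).1 h)
  have hcP : Nat.card (P : Subgroup G) = p ^ 2 := sylow_card_eq P hfp hnp
  have hPi : (P : Subgroup G).index = q * r := sylow_index_eq P hfp hnp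
  have hP1 : Nat.card (P : Subgroup G) ≠ 1 := by
    rw [hcP]; nlinarith
  have hPG : Nat.card (P : Subgroup G) ≠ Nat.card G := by
    rw [hcP, hfp]
    intro h
    have : p ^ 2 * 1 = p ^ 2 * (q * r) := by rw [mul_one]; exact h
    have := Nat.eq_of_mul_eq_mul_left (pow_pos hp.pos 2) this
    omega
  have hNC := not_normalizer_le_centralizer P hP1 hPG
  have hPcomm : IsMulCommutative ↥(P : Subgroup G) :=
    IsPGroup.isMulCommutative_of_card_eq_prime_sq hcP
  set N : Subgroup G := Subgroup.normalizer ((P : Subgroup G) : Set G) with hN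
  set C : Subgroup G := Subgroup.centralizer ((P : Subgroup G) : Set G) with hC
  have key := Subgroup.card_dvd_of_injective _
    (QuotientGroup.kerLift_injective (P : Subgroup G).normalizerMonoidHom)
  rw [Subgroup.normalizerMonoidHom_ker, ← Subgroup.index, ← Subgroup.relIndex] at key
  change C.relIndex N ∣ Nat.card (MulAut ↥(P : Subgroup G)) at key
  have hPC : (P : Subgroup G) ≤ C := Subgroup.le_centralizer _
  have hPN : (P : Subgroup G) ≤ N := Subgroup.le_normalizer
  have hm_dvd : C.relIndex N ∣ q * r := by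
    have h1 : C.relIndex N ∣ (P : Subgroup G).relIndex N := Subgroup.relIndex_dvd_of_le_left _ hPC
    have h3 : (P : Subgroup G).relIndex N ∣ (P : Subgroup G).index :=
      Subgroup.relIndex_dvd_index_of_le hPN
    exact hPi ▸ (h1.trans h3)
  have hm_ne : C.relIndex N ≠ 1 := by
    intro h
    rw [Subgroup.relIndex_eq_one] at h
    exact hNC h
  -- a prime s ∈ {q, r} dividing the order of Aut(P)
  obtain ⟨s, hs, hsm⟩ := Nat.exists_prime_and_dvd hm_ne
  have hs_mem : s = q ∨ s = r := by
    rcases (hs.dvd_mul).1 (hsm.trans hm_dvd) with h | h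
    · left; exact (Nat.prime_dvd_prime_iff_eq hs hq).1 h
    · right; exact (Nat.prime_dvd_prime_iff_eq hs hr).1 h
  have : Fact s.Prime := ⟨hs⟩
  obtain ⟨α, hα⟩ := exists_prime_orderOf_dvd_card' (G := MulAut ↥(P : Subgroup G)) s
    (hsm.trans key)
  have hps : p < s := by rcases hs_mem with rfl | rfl <;> omega
  have hsp1 := aut_order_of_card_sq hp hs hcP α hα hps
  -- p = 2 and s = 3
  have hp_eq : p = 2 := by
    rcases hp.eq_two_or_odd with h | h
    · exact h
    · exfalso
      have h2 : 2 ∣ s := by omega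
      have := (Nat.prime_dvd_prime_iff_eq Nat.prime_two hs).1 h2
      omega
  have hs_eq : s = 3 := by omega
  have hq_eq : q = 3 := by
    rcases hs_mem with h | h
    · omega
    · exfalso
      have : q = 2 := by omega
      omega
  subst hp_eq
  subst hq_eq
  -- now |G| = 12 r
  have hr5 : 5 ≤ r := by
    by_contra hcon
    have : r = 4 := by omega
    rw [this] at hr
    exact absurd hr (by norm_num)
  have hfr : Nat.card G = r ^ 1 * 12 := by rw [hG]; ring
  have hnr : ¬ r ∣ 12 := by
    intro h
    have hle := Nat.le_of_dvd (by norm_num) h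
    interval_cases r <;> first | omega | (exact absurd hr (by norm_num))
  obtain ⟨hdr, hmr⟩ := sylow_count (G := G) hfr hnr
  have hrne := sylow_count_ne_one (G := G) hfr hnr (by norm_num) (by norm_num)
  have hle12 : Nat.card (Sylow r G) ≤ 12 := Nat.le_of_dvd (by norm_num) hdr
  have hrdvd : r ∣ Nat.card (Sylow r G) - 1 := by
    have := Nat.div_add_mod (Nat.card (Sylow r G)) r
    rw [hmr] at this
    exact Dvd.intro (Nat.card (Sylow r G) / r) (by omega)
  have hnpos : 0 < Nat.card (Sylow r G) := Nat.card_pos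
  generalize Nat.card (Sylow r G) = n at *
  have hn_cases : n = 6 ∨ n = 12 := by
    have hle' := Nat.le_of_dvd (by omega) hrdvd
    interval_cases n <;> omega
  rcases hn_cases with rfl | rfl
  · have : r = 5 := by
      have h5 : r ∣ 5 := hrdvd
      exact (Nat.prime_dvd_prime_iff_eq hr (by norm_num)).1 h5
    rw [hG, this]; norm_num
  · exfalso
    have : r = 11 := by
      have h11 : r ∣ 11 := hrdvd
      exact (Nat.prime_dvd_prime_iff_eq hr (by norm_num)).1 h11
    apply not_card_132 hnc
    rw [hG, this]; norm_num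

/-- If a finite simple group has order p^2 * q * r with p, q and r prime, then its order is 60. -/
theorem result {G : Type*} [Group G] [Finite G] [IsSimpleGroup G] (p q r : ℕ) (hp : p.Prime) (hq : q.Prime) (hr : r.Prime) (hG : Nat.card G = p ^ 2 * q * r) : Nat.card G = 60 := by
  have hnotprime : ¬ (Nat.card G).Prime := by
    rw [hG, show p ^ 2 * q * r = p * (p * q * r) by ring]
    apply Nat.not_prime_mul (by have := hp.two_le; omega)
    have : 0 < p * q := Nat.mul_pos hp.pos hq.pos
    have := hr.two_le
    nlinarith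
  by_cases hpq : p = q
  · exfalso
    subst hpq
    exact hnotprime (prime_card_of_two_primes p r 3 1 hp hr (by rw [hG]; ring))
  by_cases hpr : p = r
  · exfalso
    subst hpr
    exact hnotprime (prime_card_of_two_primes p q 3 1 hp hq (by rw [hG]; ring))
  by_cases hqr : q = r
  · exfalso
    subst hqr
    exact hnotprime (prime_card_of_two_primes p q 2 2 hp hq (by rw [hG]; ring))
  rcases Nat.lt_or_gt_of_ne hqr with h | h
  · exact main p q r hp hq hr hpq hpr h hG
  · exact main p r q hp hr hq hpr hpq h (by rw [hG]; ring)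

end Cfsg.Agent.S0988
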