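import Cfsg.Statements.S0994
import Cfsg.Agent.Lib.Helper17.EmbedNormalizer

set_option autoImplicit false
open Cfsg

namespace Cfsg.Agent.S0994

open Cfsg.Agent.Helper17

/-- No finite simple group has order 1188 = 2^2 * 3^3 * 11. -/
theorem result {G : Type*} [Group G] [Finite G] [IsSimpleGroup G] : Nat.card G ≠ 1188 := by
  intro hcard
  have hG : ¬ IsMulCommutative G := not_comm_of_not_prime (by rw [hcard]; norm_num)
  have : Fact (Nat.Prime 11) := ⟨by norm_num⟩
  have hfac : Nat.card G = 11 ^ 1 * 108 := by rw [hcard]; norm_num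
  have hnd : ¬ 11 ∣ 108 := by norm_num
  obtain ⟨hdvd, hmod⟩ := sylow_count (G := G) hfac hnd
  have hne1 := sylow_count_ne_one (G := G) hfac hnd (by norm_num) (by norm_num)
  have hle : Nat.card (Sylow 11 G) ≤ 108 := Nat.le_of_dvd (by norm_num) hdvd
  have h12 : Nat.card (Sylow 11 G) = 11 + 1 := by
    generalize Nat.card (Sylow 11 G) = n at *
    interval_cases n <;> omega
  obtain ⟨P⟩ : Nonempty (Sylow 11 G) := inferInstance
  have hcP : Nat.card (P : Subgroup G) = 11 := by
    have := sylow_card_eq P hfac hnd
    simpa using this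
  have key := two_mul_card_normalizer_dvd hG (by norm_num) P hcP h12
  have hN := card_normalizer_mul_sylow_count P
  rw [h12, hcard] at hN
  have h99 : Nat.card ↥(Subgroup.normalizer ((P : Subgroup G) : Set G)) = 99 := by omega
  rw [h99] at key
  revert key; decide

end Cfsg.Agent.S0994
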