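import Cfsg.Statements.S1002
import Mathlib

set_option autoImplicit false
open Cfsg

namespace Cfsg.Agent.S1002

section

open MulAction Subgroup

open scoped Pointwise

instance fact7 : Fact (Nat.Prime 7) := ⟨by norm_num⟩

instance fact13 : Fact (Nat.Prime 13) := ⟨by norm_num⟩

instance fact409 : Fact (Nat.Prime 409) := ⟨by norm_num⟩

variable {G : Type*} [Group G] [Finite G]

theorem sylow_card_eq {q : ℕ} [Fact q.Prime] (T : Sylow q G) (k m : ℕ) (hG : Nat.card G = q ^ k * m)
    (hm : ¬ q ∣ m) : Nat.card (T : Subgroup G) = q ^ k := by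
  have hq : q.Prime := Fact.out
  have hm0 : m ≠ 0 := fun h => hm (h ▸ dvd_zero q)
  rw [T.card_eq_multiplicity, hG, Nat.factorization_mul (pow_ne_zero _ hq.ne_zero) hm0, Finsupp.add_apply,
    hq.factorization_pow, Finsupp.single_eq_same, Nat.factorization_eq_zero_of_not_dvd hm, add_zero]

theorem card_sylow_mul_card_normalizer {q : ℕ} [Fact q.Prime] (S : Sylow q G) :
    Nat.card (Sylow q G) * Nat.card (Subgroup.normalizer ((S : Subgroup G) : Set G)) = Nat.card G := by
  have h1 := S.card_eq_index_normalizer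
  have h2 := Subgroup.card_mul_index (Subgroup.normalizer ((S : Subgroup G) : Set G))
  have h1' : Nat.card (Sylow q G) = (Subgroup.normalizer ((S : Subgroup G) : Set G)).index := h1
  rw [h1', mul_comm]
  exact h2

theorem card_ne_subtype {α : Type*} [Finite α] (a : α) :
    Nat.card {x : α // x ≠ a} = Nat.card α - 1 := by
  classical
  have := Fintype.ofFinite α
  rw [Nat.card_eq_fintype_card, Nat.card_eq_fintype_card]
  simp [Fintype.card_subtype_compl]

/-- In a subgroup of prime order, any nontrivial element generates the subgroup. -/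
theorem zpowers_eq_of_card_prime {p : ℕ} [hp : Fact p.Prime]
    (P : Subgroup G) (hP : Nat.card P = p) (g : G) (hg : g ∈ P) (hg1 : g ≠ 1) :
    Subgroup.zpowers g = P ∧ orderOf g = p := by
  have hord : orderOf g = p := by
    have h1 : orderOf (⟨g, hg⟩ : P) ∣ p := by rw [← hP]; exact orderOf_dvd_natCard _
    have h2 : orderOf (⟨g, hg⟩ : P) = orderOf g := Subgroup.orderOf_mk g hg
    rw [h2] at h1
    rcases (Nat.dvd_prime hp.out).1 h1 with h | h
    · exact absurd (orderOf_eq_one_iff.1 h) hg1
    · exact h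
  refine ⟨?_, hord⟩
  have hle : Subgroup.zpowers g ≤ P := (Subgroup.zpowers_le).2 hg
  apply Subgroup.eq_of_le_of_card_ge hle
  rw [Nat.card_zpowers, hord, hP]

/-- An element of order `p` lies in some Sylow `p`-subgroup. -/
theorem exists_sylow_mem_of_orderOf {p : ℕ} [Fact p.Prime]
    (g : G) (hg : orderOf g = p) : ∃ P : Sylow p G, g ∈ (P : Subgroup G) := by
  have hpg : IsPGroup p (Subgroup.zpowers g) := by
    apply IsPGroup.of_card (n := 1)
    rw [Nat.card_zpowers, hg, pow_one]
  obtain ⟨P, hP⟩ := hpg.exists_le_sylow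
  exact ⟨P, hP (Subgroup.mem_zpowers g)⟩

theorem sigma_sylow_ext {p : ℕ} (P Q : Sylow p G)
    (x : {x : ↥(P : Subgroup G) // x ≠ 1}) (y : {y : ↥(Q : Subgroup G) // y ≠ 1}) (hPQ : P = Q)
    (hxy : (x.1.1 : G) = y.1.1) :
    (⟨P, x⟩ : Σ P : Sylow p G, {x : ↥(P : Subgroup G) // x ≠ 1}) = ⟨Q, y⟩ := by
  subst hPQ
  congr
  exact Subtype.ext (Subtype.ext hxy)

/-- If Sylow `p`-subgroups have order `p`, the number of elements of order `p` is `n_p * (p - 1)`. -/
theorem card_orderOf_eq_prime {p : ℕ} [hp : Fact p.Prime]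
    (h : ∀ P : Sylow p G, Nat.card (P : Subgroup G) = p) :
    Nat.card {g : G // orderOf g = p} = Nat.card (Sylow p G) * (p - 1) := by
  classical
  have := Fintype.ofFinite (Sylow p G)
  have hp1 : p ≠ 1 := hp.out.one_lt.ne'
  let e : {g : G // orderOf g = p} ≃ Σ P : Sylow p G, {x : ↥(P : Subgroup G) // x ≠ 1} :=
    { toFun := fun g =>
        ⟨Classical.choose (exists_sylow_mem_of_orderOf g.1 g.2),
          ⟨⟨g.1, Classical.choose_spec (exists_sylow_mem_of_orderOf g.1 g.2)⟩, by
            intro h1
            have h2 : g.1 = 1 := congrArg Subtype.val h1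
            have h3 := g.2
            rw [h2, orderOf_one] at h3
            exact hp1 h3.symm⟩⟩
      invFun := fun x =>
        ⟨x.2.1.1, (zpowers_eq_of_card_prime _ (h x.1) x.2.1.1 x.2.1.2 (by
            intro h1
            apply x.2.2
            exact Subtype.ext h1)).2⟩
      left_inv := fun g => rfl
      right_inv := by
        rintro ⟨P, ⟨⟨x, hx⟩, hx1⟩⟩
        have hx1' : x ≠ 1 := fun h1 => hx1 (Subtype.ext h1)
        have hord : orderOf x = p := (zpowers_eq_of_card_prime _ (h P) x hx hx1').2
        have hQ := Classical.choose_spec (exists_sylow_mem_of_orderOf x hord)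
        have hPQ : Classical.choose (exists_sylow_mem_of_orderOf x hord) = P := by
          apply Sylow.ext
          rw [← (zpowers_eq_of_card_prime _ (h P) x hx hx1').1,
            ← (zpowers_eq_of_card_prime _ (h _) x hQ hx1').1]
        exact sigma_sylow_ext _ _ _ _ hPQ rfl }
  rw [Nat.card_congr e, Nat.card_sigma]
  have : ∀ P : Sylow p G, Nat.card {x : ↥(P : Subgroup G) // x ≠ 1} = p - 1 := by
    intro P
    rw [card_ne_subtype, h P]
  simp only [this, Finset.sum_const, Finset.card_univ, smul_eq_mul, Nat.card_eq_fintype_card]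

/-- Class size times centralizer order is the group order. -/
theorem card_carrier_mul_card_centralizer (g : G) :
    Nat.card (ConjClasses.mk g).carrier * Nat.card (Subgroup.centralizer ({g} : Set G)) =
      Nat.card G := by
  rw [Subgroup.nat_card_centralizer_nat_card_stabilizer, ← ConjAct.orbit_eq_carrier_conjClasses,
    _root_.Nat.card_coe_set_eq, ← index_stabilizer, mul_comm, Subgroup.card_mul_index]
  exact Nat.card_congr ConjAct.ofConjAct.toEquiv

/-- Conjugate elements have the same order. -/
theorem orderOf_eq_of_isConj {a b : G} (h : IsConj a b) :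
    orderOf a = orderOf b := by
  obtain ⟨c, rfl⟩ := isConj_iff.1 h
  have : c * a * c⁻¹ = (MulAut.conj c).toMonoidHom a := by simp
  rw [this, orderOf_injective _ (MulAut.conj c).injective]

/-- Elements of pairwise distinct orders are distinct. -/
theorem sum_card_orderOf_le (S : Finset ℕ) :
    ∑ d ∈ S, Nat.card {g : G // orderOf g = d} ≤ Nat.card G := by
  classical
  let f : (Σ d : ↥S, {g : G // orderOf g = d.1}) → G := fun x => x.2.1
  have hf : Function.Injective f := by
    rintro ⟨⟨d, hd⟩, ⟨g, hg⟩⟩ ⟨⟨d', hd'⟩, ⟨g', hg'⟩⟩ h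
    change g = g' at h
    subst h
    have : d = d' := hg.symm.trans hg'
    subst this
    rfl
  have h1 := Nat.card_le_card_of_injective f hf
  rw [Nat.card_sigma] at h1
  rw [← Finset.sum_coe_sort S (fun d => Nat.card {g : G // orderOf g = d})]
  exact h1

theorem normal_card_absurd [IsSimpleGroup G] (H : Subgroup G)
    (hn : H.Normal) (h1 : Nat.card H ≠ 1) (h2 : Nat.card H ≠ Nat.card G) : False := by
  rcases hn.eq_bot_or_eq_top with h | h
  · apply h1; rw [h]; exact Subgroup.card_bot
  · apply h2; rw [h]; exact Subgroup.card_top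

/-- In a simple group, a proper nontrivial Sylow subgroup is not central in its normalizer. -/
theorem not_normalizer_le_centralizer [IsSimpleGroup G] {p : ℕ}
    [Fact p.Prime] (P : Sylow p G) (h1 : Nat.card (P : Subgroup G) ≠ 1)
    (h2 : Nat.card (P : Subgroup G) ≠ Nat.card G) :
    ¬ Subgroup.normalizer ((P : Subgroup G) : Set G) ≤
      Subgroup.centralizer ((P : Subgroup G) : Set G) := by
  intro hP
  have hKc := (MonoidHom.ker_transferSylow_isComplement' P hP).card_mul_card
  have hpos : 0 < Nat.card (P : Subgroup G) := Nat.card_pos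
  apply normal_card_absurd (MonoidHom.transferSylow P hP).ker inferInstance
  · intro hK1
    rw [hK1, one_mul] at hKc
    exact h2 hKc
  · intro hKG
    rw [hKG] at hKc
    have : Nat.card G * Nat.card (P : Subgroup G) = Nat.card G * 1 := by rw [hKc, mul_one]
    exact h1 (Nat.eq_of_mul_eq_mul_left Nat.card_pos this)

theorem sylow_count_ne_one [IsSimpleGroup G] {p : ℕ}
    [hp : Fact p.Prime] (P : Sylow p G) (h1 : Nat.card (P : Subgroup G) ≠ 1)
    (h2 : Nat.card (P : Subgroup G) ≠ Nat.card G) : Nat.card (Sylow p G) ≠ 1 := by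
  intro hc
  have : Subsingleton (Sylow p G) := (Nat.card_eq_one_iff_unique.1 hc).1
  have hn : (P : Subgroup G).Normal := P.normal_of_subsingleton
  exact normal_card_absurd (P : Subgroup G) hn h1 h2

end

section

open MulAction Subgroup

open scoped Pointwise

variable {G : Type*} [Group G] [Finite G]

theorem le_centralizer_self {p : ℕ} [hp : Fact p.Prime] (R : Sylow p G)
    (hR : Nat.card (R : Subgroup G) = p) :
    (R : Subgroup G) ≤ Subgroup.centralizer ((R : Subgroup G) : Set G) := by
  have hcyc : IsCyclic ↥(R : Subgroup G) := isCyclic_of_prime_card hR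
  have hcomm : IsMulCommutative ↥(R : Subgroup G) := ⟨⟨IsCyclic.commGroup.mul_comm⟩⟩
  exact Subgroup.le_centralizer_iff_isMulCommutative.2 hcomm

/-- Structure of the normalizer of a Sylow subgroup of prime order in a simple group. -/
theorem normalizer_structure [IsSimpleGroup G] {p : ℕ} [hp : Fact p.Prime] (R : Sylow p G)
    (hR : Nat.card (R : Subgroup G) = p) (hne : Nat.card G ≠ p) :
    ∃ k c : ℕ, k ∣ p - 1 ∧ k ≠ 1 ∧
      Nat.card (Subgroup.centralizer ((R : Subgroup G) : Set G)) = p * c ∧
      Nat.card (Subgroup.normalizer ((R : Subgroup G) : Set G)) = k * (p * c) := by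
  have hcyc : IsCyclic (R : Subgroup G) := isCyclic_of_prime_card hR
  have key := Subgroup.card_dvd_of_injective _
    (QuotientGroup.kerLift_injective (R : Subgroup G).normalizerMonoidHom)
  rw [Subgroup.normalizerMonoidHom_ker, ← Subgroup.index, ← Subgroup.relIndex, hcyc.card_mulAut, hR,
    Nat.totient_prime hp.out] at key
  have hCN : Subgroup.centralizer ((R : Subgroup G) : Set G) ≤
      Subgroup.normalizer ((R : Subgroup G) : Set G) := Subgroup.centralizer_le_normalizer _
  have hRC := le_centralizer_self R hR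
  obtain ⟨c, hc⟩ : p ∣ Nat.card (Subgroup.centralizer ((R : Subgroup G) : Set G)) := by
    conv_lhs => rw [← hR]
    exact Subgroup.card_dvd_of_le hRC
  refine ⟨(Subgroup.centralizer ((R : Subgroup G) : Set G)).relIndex
    (Subgroup.normalizer ((R : Subgroup G) : Set G)), c, key, ?_, hc, ?_⟩
  · intro h1
    rw [Subgroup.relIndex_eq_one] at h1
    exact not_normalizer_le_centralizer R (by rw [hR]; exact hp.out.one_lt.ne')
      (by rw [hR]; exact hne.symm) h1
  · have h := Subgroup.relIndex_mul_relIndex (⊥ : Subgroup G) _ _ bot_le hCN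
    rw [Subgroup.relIndex_bot_left, Subgroup.relIndex_bot_left] at h
    rw [← hc, ← h, mul_comm]

/-- If elements of order `q` are self-centralizing, then `q` does not divide the order of the centralizer
of a Sylow `p`-subgroup of prime order `p ≠ q`. -/
theorem not_dvd_card_centralizer {q : ℕ} [hq : Fact q.Prime]
    (hcent : ∀ y : G, orderOf y = q → Subgroup.centralizer ({y} : Set G) = Subgroup.zpowers y)
    {p : ℕ} [hp : Fact p.Prime] (hpq : p ≠ q) (R : Sylow p G)
    (hR : Nat.card (R : Subgroup G) = p) :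
    ¬ q ∣ Nat.card (Subgroup.centralizer ((R : Subgroup G) : Set G)) := by
  intro hdvd
  obtain ⟨y', hy'⟩ := exists_prime_orderOf_dvd_card' q hdvd
  have hy : orderOf (y' : G) = q := by rw [Subgroup.orderOf_coe]; exact hy'
  have hle : (R : Subgroup G) ≤ Subgroup.centralizer ({(y' : G)} : Set G) := by
    intro r hr
    rw [Subgroup.mem_centralizer_iff]
    intro z hz
    rw [Set.mem_singleton_iff] at hz
    subst hz
    have := y'.2
    rw [Subgroup.mem_centralizer_iff] at this
    exact (this r hr).symm
  rw [hcent _ hy] at hle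
  have := Subgroup.card_dvd_of_le hle
  rw [hR, Nat.card_zpowers, hy] at this
  exact hpq ((Nat.prime_dvd_prime_iff_eq hp.out hq.out).1 this)

/-- If all Sylow `p`-subgroups have order `p` and are self-centralizing, then every element of order `p`
is self-centralizing. -/
theorem centralizer_singleton_eq {p : ℕ} [hp : Fact p.Prime]
    (hP : ∀ P : Sylow p G, Nat.card ↥(P : Subgroup G) = p)
    (hC : ∀ P : Sylow p G, Subgroup.centralizer ((P : Subgroup G) : Set G) = (P : Subgroup G))
    (x : G) (hx : orderOf x = p) :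
    Subgroup.centralizer ({x} : Set G) = Subgroup.zpowers x := by
  obtain ⟨P, hxP⟩ := exists_sylow_mem_of_orderOf x hx
  have hx1 : x ≠ 1 := by
    rintro rfl
    rw [orderOf_one] at hx
    exact hp.out.one_lt.ne' hx.symm
  have hz := (zpowers_eq_of_card_prime (P : Subgroup G) (hP P) x hxP hx1).1
  rw [← Subgroup.centralizer_closure, ← Subgroup.zpowers_eq_closure, hz]
  exact hC P

/-- Self-centralizing from the order of the centralizer. -/
theorem centralizer_eq_self {p : ℕ} [hp : Fact p.Prime] (R : Sylow p G)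
    (hR : Nat.card (R : Subgroup G) = p)
    (hc : Nat.card (Subgroup.centralizer ((R : Subgroup G) : Set G)) = p) :
    Subgroup.centralizer ((R : Subgroup G) : Set G) = (R : Subgroup G) :=
  (Subgroup.eq_of_le_of_card_ge (le_centralizer_self R hR) (by rw [hc, hR])).symm

theorem numerics409 (n k c : ℕ) (h : n * (k * (409 * c)) = 1004913) (hk : k ∣ 409 - 1) (hk1 : k ≠ 1)
    (hn : n % 409 = 1) (hn1 : n ≠ 1) : c = 1 ∧ k = 3 ∧ n = 819 := by
  have h' : n * (k * c) = 2457 := by
    have : 409 * (n * (k * c)) = 409 * 2457 := by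
      rw [show (409 : ℕ) * 2457 = 1004913 by norm_num, ← h]; ring
    exact Nat.eq_of_mul_eq_mul_left (by norm_num) this
  have hnd : n ∣ 2457 := Dvd.intro _ h'
  have hnle : n ≤ 2457 := Nat.le_of_dvd (by norm_num) hnd
  have hn819 : n = 819 := by
    obtain ⟨t, ht⟩ : ∃ t, n = 409 * t + 1 := ⟨n / 409, by omega⟩
    have ht6 : t ≤ 6 := by omega
    subst ht
    interval_cases t <;> first | omega | (exfalso; revert hnd; decide)
  subst hn819
  have hkc : k * c = 3 := by omega
  have hk3 : k ∣ 3 := Dvd.intro _ hkc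
  rcases (Nat.dvd_prime Nat.prime_three).1 hk3 with h1 | h3
  · exact absurd h1 hk1
  · subst h3
    refine ⟨by omega, rfl, rfl⟩

theorem numerics13 (n k c : ℕ) (h : n * (k * (13 * c)) = 1004913) (hk : k ∣ 13 - 1) (hk1 : k ≠ 1)
    (hn : n % 13 = 1) (h409 : ¬ 409 ∣ c) : c = 1 ∧ k = 3 ∧ n = 25767 := by
  have h' : k * (n * c) = 77301 := by
    have : 13 * (k * (n * c)) = 13 * 77301 := by
      rw [show (13 : ℕ) * 77301 = 1004913 by norm_num, ← h]; ring
    exact Nat.eq_of_mul_eq_mul_left (by norm_num) this
  have hkd : k ∣ 77301 := Dvd.intro _ h'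
  have hk3 : k = 3 := by
    have hkle : k ≤ 12 := Nat.le_of_dvd (by norm_num) hk
    interval_cases k <;> first | rfl | omega | (exfalso; revert hkd; decide) | (exfalso; revert hk; decide)
  subst hk3
  have h'' : c * n = 25767 := by
    have : 3 * (c * n) = 3 * 25767 := by
      rw [show (3 : ℕ) * 25767 = 77301 by norm_num, ← h']; ring
    exact Nat.eq_of_mul_eq_mul_left (by norm_num) this
  have hcd : c ∣ 63 * 409 := by norm_num; exact Dvd.intro _ h''
  have hcop : Nat.Coprime c 409 :=
    ((Nat.Prime.coprime_iff_not_dvd (by norm_num : Nat.Prime 409)).2 h409).symm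
  have hc63 : c ∣ 63 := hcop.dvd_of_dvd_mul_right hcd
  have hcle : c ≤ 63 := Nat.le_of_dvd (by norm_num) hc63
  have hc0 : 0 < c := Nat.pos_of_dvd_of_pos hc63 (by norm_num)
  have hc1 : c = 1 := by
    interval_cases c <;> first | rfl | omega
  subst hc1
  refine ⟨rfl, rfl, by omega⟩

theorem numerics7 (n k c : ℕ) (h : n * (k * (7 * c)) = 1004913) (hk : k ∣ 7 - 1) (hk1 : k ≠ 1)
    (hn : n % 7 = 1) (h409 : ¬ 409 ∣ c) : c = 1 ∧ k = 3 ∧ n = 47853 := by
  have h' : k * (n * c) = 143559 := by
    have : 7 * (k * (n * c)) = 7 * 143559 := by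
      rw [show (7 : ℕ) * 143559 = 1004913 by norm_num, ← h]; ring
    exact Nat.eq_of_mul_eq_mul_left (by norm_num) this
  have hkd : k ∣ 143559 := Dvd.intro _ h'
  have hk3 : k = 3 := by
    have hkle : k ≤ 6 := Nat.le_of_dvd (by norm_num) hk
    interval_cases k <;> first | rfl | omega | (exfalso; revert hkd; decide) | (exfalso; revert hk; decide)
  subst hk3
  have h'' : c * n = 47853 := by
    have : 3 * (c * n) = 3 * 47853 := by
      rw [show (3 : ℕ) * 47853 = 143559 by norm_num, ← h']; ring
    exact Nat.eq_of_mul_eq_mul_left (by norm_num) this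
  have hcd : c ∣ 117 * 409 := by norm_num; exact Dvd.intro _ h''
  have hcop : Nat.Coprime c 409 :=
    ((Nat.Prime.coprime_iff_not_dvd (by norm_num : Nat.Prime 409)).2 h409).symm
  have hc117 : c ∣ 117 := hcop.dvd_of_dvd_mul_right hcd
  have hcle : c ≤ 117 := Nat.le_of_dvd (by norm_num) hc117
  have hc0 : 0 < c := Nat.pos_of_dvd_of_pos hc117 (by norm_num)
  have hc1 : c = 1 := by
    interval_cases c <;> first | rfl | omega
  subst hc1
  refine ⟨rfl, rfl, by omega⟩

end

section

open MulAction Subgroup

open scoped Pointwise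

variable {G : Type*} [Group G] [Finite G]

theorem card_sylow_mod {p : ℕ} [hp : Fact p.Prime] : Nat.card (Sylow p G) % p = 1 := by
  have := card_sylow_modEq_one p G
  rw [Nat.ModEq, Nat.mod_eq_of_lt hp.out.one_lt] at this
  exact this

theorem data409 [IsSimpleGroup G] (hG : Nat.card G = 1004913) (P : Sylow 409 G) :
    Nat.card (Sylow 409 G) = 819 ∧ Nat.card (P : Subgroup G) = 409 ∧
      Subgroup.centralizer ((P : Subgroup G) : Set G) = (P : Subgroup G) ∧
      Nat.card (Subgroup.normalizer ((P : Subgroup G) : Set G)) = 1227 := by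
  have hP : Nat.card (P : Subgroup G) = 409 := by
    have := sylow_card_eq P 1 2457 (by rw [hG]; norm_num) (by norm_num)
    simpa using this
  obtain ⟨k, c, hk, hk1, hC, hN⟩ := normalizer_structure P hP (by rw [hG]; norm_num)
  have hmul := card_sylow_mul_card_normalizer P
  rw [hN, hG] at hmul
  have hn1 : Nat.card (Sylow 409 G) ≠ 1 :=
    sylow_count_ne_one P (by rw [hP]; norm_num) (by rw [hP, hG]; norm_num)
  obtain ⟨rfl, rfl, hn⟩ := numerics409 _ k c hmul hk hk1 card_sylow_mod hn1
  refine ⟨hn, hP, centralizer_eq_self P hP (by rw [hC]), by rw [hN]⟩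

theorem cent409 [IsSimpleGroup G] (hG : Nat.card G = 1004913) (y : G) (hy : orderOf y = 409) :
    Subgroup.centralizer ({y} : Set G) = Subgroup.zpowers y :=
  centralizer_singleton_eq (fun P => (data409 hG P).2.1) (fun P => (data409 hG P).2.2.1) y hy

theorem data13 [IsSimpleGroup G] (hG : Nat.card G = 1004913) (R : Sylow 13 G) :
    Nat.card (Sylow 13 G) = 25767 ∧ Nat.card (R : Subgroup G) = 13 ∧
      Subgroup.centralizer ((R : Subgroup G) : Set G) = (R : Subgroup G) := by
  have hR : Nat.card (R : Subgroup G) = 13 := by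
    have := sylow_card_eq R 1 77301 (by rw [hG]; norm_num) (by norm_num)
    simpa using this
  obtain ⟨k, c, hk, hk1, hC, hN⟩ := normalizer_structure R hR (by rw [hG]; norm_num)
  have hmul := card_sylow_mul_card_normalizer R
  rw [hN, hG] at hmul
  have h409 : ¬ 409 ∣ c := by
    intro hd
    apply not_dvd_card_centralizer (cent409 hG) (by norm_num : (13 : ℕ) ≠ 409) R hR
    rw [hC]
    exact Dvd.dvd.mul_left hd 13
  obtain ⟨rfl, rfl, hn⟩ := numerics13 _ k c hmul hk hk1 card_sylow_mod h409
  refine ⟨hn, hR, centralizer_eq_self R hR (by rw [hC])⟩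

theorem data7 [IsSimpleGroup G] (hG : Nat.card G = 1004913) (R : Sylow 7 G) :
    Nat.card (Sylow 7 G) = 47853 ∧ Nat.card (R : Subgroup G) = 7 ∧
      Subgroup.centralizer ((R : Subgroup G) : Set G) = (R : Subgroup G) := by
  have hR : Nat.card (R : Subgroup G) = 7 := by
    have := sylow_card_eq R 1 143559 (by rw [hG]; norm_num) (by norm_num)
    simpa using this
  obtain ⟨k, c, hk, hk1, hC, hN⟩ := normalizer_structure R hR (by rw [hG]; norm_num)
  have hmul := card_sylow_mul_card_normalizer R
  rw [hN, hG] at hmul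
  have h409 : ¬ 409 ∣ c := by
    intro hd
    apply not_dvd_card_centralizer (cent409 hG) (by norm_num : (7 : ℕ) ≠ 409) R hR
    rw [hC]
    exact Dvd.dvd.mul_left hd 7
  obtain ⟨rfl, rfl, hn⟩ := numerics7 _ k c hmul hk hk1 card_sylow_mod h409
  refine ⟨hn, hR, centralizer_eq_self R hR (by rw [hC])⟩

theorem cent13 [IsSimpleGroup G] (hG : Nat.card G = 1004913) (y : G) (hy : orderOf y = 13) :
    Subgroup.centralizer ({y} : Set G) = Subgroup.zpowers y :=
  centralizer_singleton_eq (fun P => (data13 hG P).2.1) (fun P => (data13 hG P).2.2) y hy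

theorem cent7 [IsSimpleGroup G] (hG : Nat.card G = 1004913) (y : G) (hy : orderOf y = 7) :
    Subgroup.centralizer ({y} : Set G) = Subgroup.zpowers y :=
  centralizer_singleton_eq (fun P => (data7 hG P).2.1) (fun P => (data7 hG P).2.2) y hy

end

section

open MulAction Subgroup

open scoped Pointwise

variable {G : Type*} [Group G] [Finite G]

theorem fixed_iff {p : ℕ} [Fact p.Prime] (P Q : Sylow p G) :
    (∀ x ∈ (P : Subgroup G), x • Q = Q) ↔ Q = P := by
  constructor
  · intro h
    have hmem : Q ∈ fixedPoints (P : Subgroup G) (Sylow p G) := by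
      intro x; exact h x.1 x.2
    rw [P.2.sylow_mem_fixedPoints_iff] at hmem
    exact Sylow.ext (P.3 Q.2 hmem)
  · rintro rfl x hx
    exact Sylow.smul_eq_iff_mem_normalizer.mpr (Subgroup.le_normalizer hx)

/-- A nontrivial element of a Sylow subgroup `P` of prime order fixes no other Sylow subgroup. -/
theorem eq_one_of_smul_eq {p : ℕ} [Fact p.Prime] (P Q : Sylow p G)
    (hP : Nat.card (P : Subgroup G) = p) (hne : Q ≠ P) (g : G) (hg : g ∈ (P : Subgroup G))
    (hgQ : g • Q = Q) : g = 1 := by
  by_contra hg1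
  apply hne
  rw [← fixed_iff]
  intro y hy
  have hz := (zpowers_eq_of_card_prime (P : Subgroup G) hP g hg hg1).1
  have hle : Subgroup.zpowers g ≤ stabilizer G Q := by
    rw [Subgroup.zpowers_le]
    exact hgQ
  rw [hz] at hle
  exact hle hy

theorem uniqueness {p : ℕ} [hp : Fact p.Prime] (P : Sylow p G)
    (hP : Nat.card (P : Subgroup G) = p)
    (hCP : Subgroup.centralizer ((P : Subgroup G) : Set G) = (P : Subgroup G))
    (x : G) (hxN : x ∈ Subgroup.normalizer ((P : Subgroup G) : Set G)) (hx : ¬ orderOf x ∣ p)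
    (Q : Sylow p G) (hQP : Q ≠ P) (hxQ : x • Q = Q)
    (a : G) (ha : a ∈ (P : Subgroup G)) (haQ : x • (a • Q) = a • Q) : a = 1 := by
  have hxa : x * a * x⁻¹ ∈ (P : Subgroup G) := (Subgroup.mem_normalizer_iff.mp hxN a).mp ha
  have h1 : (x * a * x⁻¹) • Q = a • Q := by
    calc (x * a * x⁻¹) • Q = (x * a * x⁻¹) • (x • Q) := by rw [hxQ]
      _ = x • (a • Q) := by rw [smul_smul, smul_smul]; congr 1; group
      _ = a • Q := haQ
  have h2 : (a⁻¹ * (x * a * x⁻¹)) • Q = Q := by
    rw [mul_smul, h1, inv_smul_smul]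
  have h3 := eq_one_of_smul_eq P Q hP hQP _ ((P : Subgroup G).mul_mem (inv_mem ha) hxa) h2
  have hcomm : x * a = a * x := by
    have : x * a * x⁻¹ = a := by
      have := congrArg (fun t => a * t) h3
      simpa [mul_assoc] using this
    calc x * a = (x * a * x⁻¹) * x := by group
      _ = a * x := by rw [this]
  by_contra ha1
  apply hx
  have hz := (zpowers_eq_of_card_prime (P : Subgroup G) hP a ha ha1).1
  have hxC : x ∈ Subgroup.centralizer ((P : Subgroup G) : Set G) := by
    rw [← hz, Subgroup.zpowers_eq_closure, Subgroup.centralizer_closure]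
    rw [Subgroup.mem_centralizer_iff]
    intro y hy
    rw [Set.mem_singleton_iff] at hy
    subst hy
    exact hcomm.symm
  rw [hCP] at hxC
  have := orderOf_dvd_natCard (⟨x, hxC⟩ : (P : Subgroup G))
  rwa [Subgroup.orderOf_mk, hP] at this

theorem centralizer_card_ne (P : Sylow 409 G) (h819 : Nat.card (Sylow 409 G) = 819)
    (hP : Nat.card (P : Subgroup G) = 409)
    (hCP : Subgroup.centralizer ((P : Subgroup G) : Set G) = (P : Subgroup G))
    (hNP : Nat.card (Subgroup.normalizer ((P : Subgroup G) : Set G)) = 1227)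
    (x : G) (hxN : x ∈ Subgroup.normalizer ((P : Subgroup G) : Set G)) (hx3 : orderOf x = 3) :
    Nat.card (Subgroup.centralizer ({x} : Set G)) ≠ 27 := by
  intro h27
  have hfin : Finite (Sylow 409 G) := Nat.finite_of_card_ne_zero (by rw [h819]; norm_num)
  have hxP : x • P = P := Sylow.smul_eq_iff_mem_normalizer.mpr hxN
  have hx409 : ¬ orderOf x ∣ 409 := by rw [hx3]; norm_num
  -- orbit-stabilizer
  have hos : Nat.card (orbit ↥(Subgroup.centralizer ({x} : Set G)) P) *
      Nat.card (stabilizer ↥(Subgroup.centralizer ({x} : Set G)) P) = 27 := by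
    rw [← Nat.card_prod, Nat.card_congr (orbitProdStabilizerEquivGroup _ P), h27]
  have hst3 : Nat.card (stabilizer ↥(Subgroup.centralizer ({x} : Set G)) P) ∣ 3 := by
    have h1 : Nat.card (stabilizer ↥(Subgroup.centralizer ({x} : Set G)) P) ∣ 27 :=
      h27 ▸ Subgroup.card_subgroup_dvd_card _
    have h2 : Nat.card (stabilizer ↥(Subgroup.centralizer ({x} : Set G)) P) ∣ 1227 := by
      have hle : (stabilizer ↥(Subgroup.centralizer ({x} : Set G)) P).map
          (Subgroup.centralizer ({x} : Set G)).subtype ≤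
          Subgroup.normalizer ((P : Subgroup G) : Set G) := by
        rintro _ ⟨s, hs, rfl⟩
        exact Sylow.smul_eq_iff_mem_normalizer.mp hs
      have := Subgroup.card_dvd_of_le hle
      rwa [Subgroup.card_subtype, hNP] at this
    have := Nat.dvd_gcd h1 h2
    norm_num at this
    exact this
  have horb : 9 ≤ (orbit ↥(Subgroup.centralizer ({x} : Set G)) P).ncard := by
    rw [← _root_.Nat.card_coe_set_eq]
    have := Nat.le_of_dvd (by norm_num) hst3
    nlinarith
  have hD : 8 ≤ (orbit ↥(Subgroup.centralizer ({x} : Set G)) P \ {P}).ncard := by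
    rw [Set.ncard_sdiff_singleton_of_mem (mem_orbit_self P)]
    omega
  have hfix : ∀ Q ∈ orbit ↥(Subgroup.centralizer ({x} : Set G)) P, x • Q = Q := by
    rintro _ ⟨s, rfl⟩
    have hsx : x * (s : G) = (s : G) * x := by
      have := s.2
      rw [Subgroup.mem_centralizer_iff] at this
      exact this x rfl
    change x • ((s : G) • P) = (s : G) • P
    rw [smul_smul, hsx, mul_smul, hxP]
  -- injective map
  have hwd : ∀ (a : ↥(P : Subgroup G))
      (Q : ↥(orbit ↥(Subgroup.centralizer ({x} : Set G)) P \ {P})),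
      (a : G) • (Q : Sylow 409 G) ≠ P := by
    intro a Q h
    apply Q.2.2
    rw [Set.mem_singleton_iff]
    have h2 : (a : G)⁻¹ • P = P := (fixed_iff P P).mpr rfl _ (inv_mem a.2)
    calc (Q : Sylow 409 G) = (a : G)⁻¹ • ((a : G) • (Q : Sylow 409 G)) := by rw [inv_smul_smul]
      _ = P := by rw [h, h2]
  let f : ↥(P : Subgroup G) × ↥(orbit ↥(Subgroup.centralizer ({x} : Set G)) P \ {P}) →
      {Q : Sylow 409 G // Q ≠ P} := fun z => ⟨(z.1 : G) • (z.2 : Sylow 409 G), hwd z.1 z.2⟩
  have hf : Function.Injective f := by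
    rintro ⟨a, Q⟩ ⟨b, Q'⟩ h
    have h' : (a : G) • (Q : Sylow 409 G) = (b : G) • (Q' : Sylow 409 G) :=
      congrArg Subtype.val h
    have hQ' : (Q' : Sylow 409 G) = ((b : G)⁻¹ * (a : G)) • (Q : Sylow 409 G) := by
      rw [mul_smul, h', inv_smul_smul]
    have hQne : (Q : Sylow 409 G) ≠ P := fun h => Q.2.2 (Set.mem_singleton_iff.mpr h)
    have hba : (b : G)⁻¹ * (a : G) = 1 := by
      apply uniqueness P hP hCP x hxN hx409 Q hQne (hfix _ Q.2.1) _
        ((P : Subgroup G).mul_mem (inv_mem b.2) a.2)
      rw [← hQ']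
      exact hfix _ Q'.2.1
    have hab : a = b := by
      apply Subtype.ext
      have := congrArg (fun t => (b : G) * t) hba
      simpa using this
    have hQQ : Q = Q' := by
      apply Subtype.ext
      rw [hQ', hba, one_smul]
    rw [hab, hQQ]
  have hcard := Nat.card_le_card_of_injective f hf
  rw [Nat.card_prod, hP, _root_.Nat.card_coe_set_eq, card_ne_subtype, h819] at hcard
  omega

end

section

open MulAction Subgroup

open scoped Pointwise

variable {G : Type*} [Group G] [Finite G]

/-- If elements of order `r` are self-centralizing and `x` has order `3 ≠ r`, then `r` does not divide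
the order of the centralizer of `x`. -/
theorem not_dvd_card_centralizer_singleton {r : ℕ} [hr : Fact r.Prime]
    (hcent : ∀ y : G, orderOf y = r → Subgroup.centralizer ({y} : Set G) = Subgroup.zpowers y)
    (x : G) (hx3 : orderOf x = 3) (hr3 : r ≠ 3) :
    ¬ r ∣ Nat.card (Subgroup.centralizer ({x} : Set G)) := by
  intro hdvd
  obtain ⟨y', hy'⟩ := exists_prime_orderOf_dvd_card' r hdvd
  have hy : orderOf (y' : G) = r := by rw [Subgroup.orderOf_coe]; exact hy'
  have hxy : x ∈ Subgroup.centralizer ({(y' : G)} : Set G) := by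
    rw [Subgroup.mem_centralizer_iff]
    intro z hz
    rw [Set.mem_singleton_iff] at hz
    subst hz
    have := y'.2
    rw [Subgroup.mem_centralizer_iff] at this
    exact (this x rfl).symm
  rw [hcent _ hy] at hxy
  have := orderOf_dvd_of_mem_zpowers hxy
  rw [hx3, hy] at this
  exact hr3 ((Nat.prime_dvd_prime_iff_eq Nat.prime_three hr.out).1 this).symm

theorem main [IsSimpleGroup G] (hG : Nat.card G = 1004913) : False := by
  obtain ⟨P⟩ : Nonempty (Sylow 409 G) := inferInstance
  obtain ⟨h819, hP, hCP, hNP⟩ := data409 hG P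
  obtain ⟨x', hx'⟩ := exists_prime_orderOf_dvd_card'
    (G := ↥(Subgroup.normalizer ((P : Subgroup G) : Set G))) 3 (by rw [hNP]; norm_num)
  have hx3 : orderOf (x' : G) = 3 := by rw [Subgroup.orderOf_coe]; exact hx'
  have hcdvd : Nat.card (Subgroup.centralizer ({(x' : G)} : Set G)) ∣ 27 * 37219 := by
    have := Subgroup.card_subgroup_dvd_card (Subgroup.centralizer ({(x' : G)} : Set G))
    rw [hG] at this
    norm_num
    exact this
  have h7 := not_dvd_card_centralizer_singleton (cent7 hG) (x' : G) hx3 (by norm_num)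
  have h13 := not_dvd_card_centralizer_singleton (cent13 hG) (x' : G) hx3 (by norm_num)
  have h409 := not_dvd_card_centralizer_singleton (cent409 hG) (x' : G) hx3 (by norm_num)
  have hne27 := centralizer_card_ne P h819 hP hCP hNP (x' : G) x'.2 hx3
  have hcls := card_carrier_mul_card_centralizer (x' : G)
  rw [hG] at hcls
  generalize Nat.card (Subgroup.centralizer ({(x' : G)} : Set G)) = c at hcdvd h7 h13 h409 hne27 hcls
  have hcop : Nat.Coprime c 37219 := by
    have e : (37219 : ℕ) = 7 * (13 * 409) := by norm_num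
    rw [e]
    apply Nat.Coprime.mul_right
    · exact ((Nat.Prime.coprime_iff_not_dvd (by norm_num : Nat.Prime 7)).2 h7).symm
    apply Nat.Coprime.mul_right
    · exact ((Nat.Prime.coprime_iff_not_dvd (by norm_num : Nat.Prime 13)).2 h13).symm
    · exact ((Nat.Prime.coprime_iff_not_dvd (by norm_num : Nat.Prime 409)).2 h409).symm
  have hc27 : c ∣ 3 ^ 3 := by
    have := hcop.dvd_of_dvd_mul_right hcdvd
    norm_num
    exact this
  obtain ⟨m, hm, rfl⟩ := (Nat.dvd_prime_pow Nat.prime_three).1 hc27
  have hc9 : 3 ^ m ≤ 9 := by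
    interval_cases m <;> first | omega | (exfalso; exact hne27 rfl)
  -- the class of x consists of elements of order 3
  have hle : Nat.card (ConjClasses.mk (x' : G)).carrier ≤ Nat.card {g : G // orderOf g = 3} := by
    let f : (ConjClasses.mk (x' : G)).carrier → {g : G // orderOf g = 3} := fun g => ⟨g.1, by
      have h1 : ConjClasses.mk g.1 = ConjClasses.mk (x' : G) := ConjClasses.mem_carrier_iff_mk_eq.1 g.2
      rw [ConjClasses.mk_eq_mk_iff_isConj] at h1
      rw [orderOf_eq_of_isConj h1]; exact hx3⟩
    apply Nat.card_le_card_of_injective f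
    intro a b hab
    have : (f a).1 = (f b).1 := congrArg Subtype.val hab
    exact Subtype.ext this
  have hsum := sum_card_orderOf_le (G := G) ({3, 7, 13, 409} : Finset ℕ)
  rw [Finset.sum_insert (by decide), Finset.sum_insert (by decide), Finset.sum_insert (by decide),
    Finset.sum_singleton, hG,
    card_orderOf_eq_prime (fun Q => (data7 hG Q).2.1),
    card_orderOf_eq_prime (fun Q => (data13 hG Q).2.1),
    card_orderOf_eq_prime (fun Q => (data409 hG Q).2.1)] at hsum
  obtain ⟨Q7⟩ : Nonempty (Sylow 7 G) := inferInstance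
  obtain ⟨Q13⟩ : Nonempty (Sylow 13 G) := inferInstance
  rw [(data7 hG Q7).1, (data13 hG Q13).1, h819] at hsum
  have h3le : Nat.card {g : G // orderOf g = 3} ≤ 74439 := by omega
  have : Nat.card (ConjClasses.mk (x' : G)).carrier ≤ 74439 := hle.trans h3le
  nlinarith

end

/-- No finite simple group has order 1004913 = 3^3 * 7 * 13 * 409. -/
theorem result {G : Type*} [Group G] [Finite G] [IsSimpleGroup G] : Nat.card G ≠ 1004913 :=
  fun hG => main hG

end Cfsg.Agent.S1002
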