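import Cfsg.Statements.S1008
import Mathlib
import Cfsg.Agent.Lib.Helper17.Order168H

set_option autoImplicit false
open Cfsg

namespace Cfsg.Agent.S1008

open Cfsg.Agent.Helper17

theorem card_of_iso_S4 {G : Type*} [Group G] (M : Subgroup G)
    (ψ : ↥M ≃* Equiv.Perm (Fin 4)) : Nat.card M = 24 := by
  rw [Nat.card_congr ψ.toEquiv, Nat.card_eq_fintype_card, Fintype.card_perm]
  rfl

/-- A maximal subgroup isomorphic to `S₄` is the normalizer of a Klein four-subgroup. -/
theorem exists_klein_normalizer_eq {G : Type*} [Group G] [Finite G] [IsSimpleGroup G]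
    (h : Nat.card G = 168) (M : Subgroup G) (ψ : ↥M ≃* Equiv.Perm (Fin 4)) :
    ∃ H : Subgroup G, IsKleinFour ↥H ∧ M = Subgroup.normalizer (H : Set G) := by
  have hMc : Nat.card M = 24 := card_of_iso_S4 M ψ
  set V' : Subgroup ↥M := S4.V₄.map ψ.symm.toMonoidHom with hV'
  have hV'n : V'.Normal := S4.V₄_normal.map _ ψ.symm.surjective
  have hV'k : IsKleinFour ↥V' :=
    isKleinFour_of_mulEquiv (ψ.symm.subgroupMap S4.V₄) S4.isKleinFour_V₄
  set H : Subgroup G := V'.map M.subtype with hH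
  have hHM : H ≤ M := Subgroup.map_subtype_le _
  have hHk : IsKleinFour ↥H :=
    isKleinFour_of_mulEquiv (Subgroup.equivMapOfInjective _ _ M.subtype_injective) hV'k
  have hMN : M ≤ Subgroup.normalizer (H : Set G) := by
    rw [← Subgroup.normal_subgroupOf_iff_le_normalizer hHM]
    have : H.subgroupOf M = V' := Subgroup.comap_map_eq_self_of_injective M.subtype_injective _
    rw [this]
    exact hV'n
  exact ⟨H, hHk, Subgroup.eq_of_le_of_card_ge hMN
    (by rw [O168.card_normalizer_klein h H hHk, hMc])⟩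

theorem result {G : Type*} [Group G] [Finite G] [IsSimpleGroup G] (h : Nat.card G = 168) : (∀ M : Subgroup G, IsCoatom M → Nonempty (↥M ≃* Equiv.Perm (Fin 4)) ∨ (Nat.card ↥M = 21 ∧ ¬ IsMulCommutative ↥M)) ∧ (∀ M M' : Subgroup G, IsCoatom M → IsCoatom M' → Nat.card ↥M = 21 → Nat.card ↥M' = 21 → ∃ g : G, M' = M.map (MulAut.conj g).toMonoidHom) ∧ ∃ M₁ M₂ : Subgroup G, IsCoatom M₁ ∧ IsCoatom M₂ ∧ Nonempty (↥M₁ ≃* Equiv.Perm (Fin 4)) ∧ Nonempty (↥M₂ ≃* Equiv.Perm (Fin 4)) ∧ (∀ g : G, M₂ ≠ M₁.map (MulAut.conj g).toMonoidHom) ∧ ∀ M : Subgroup G, IsCoatom M → Nonempty (↥M ≃* Equiv.Perm (Fin 4)) → ∃ g : G, M = M₁.map (MulAut.conj g).toMonoidHom ∨ M = M₂.map (MulAut.conj g).toMonoidHom := by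
  classical
  refine ⟨?_, ?_, ?_⟩
  · intro M hM
    rcases O168.card_coatom h M hM with h21 | h24
    · exact Or.inr ⟨h21, O168.not_comm_of_card21 h M h21⟩
    · exact Or.inl (O168.iso_S4_of_card24 h M h24)
  · intro M M' _ _ hM hM'
    exact O168.conj_of_card21 h M M' hM hM'
  · obtain ⟨T⟩ : Nonempty (Sylow 2 G) := inferInstance
    obtain ⟨a, b, hab, huniv⟩ := Nat.card_eq_two_iff.1 (O168.card_klein_in_sylow h T)
    have hc1 := O168.card_normalizer_klein h a.1 a.2.2
    have hc2 := O168.card_normalizer_klein h b.1 b.2.2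
    refine ⟨Subgroup.normalizer (a.1 : Set G), Subgroup.normalizer (b.1 : Set G),
      O168.isCoatom_of_card24 h _ hc1, O168.isCoatom_of_card24 h _ hc2,
      O168.normalizer_klein_iso h a.1 a.2.2, O168.normalizer_klein_iso h b.1 b.2.2, ?_, ?_⟩
    · intro g hg
      rw [← O168.normalizer_map_conj] at hg
      have hVk : IsKleinFour ↥(a.1.map (MulAut.conj g).toMonoidHom) :=
        isKleinFour_of_mulEquiv ((MulAut.conj g).subgroupMap a.1) a.2.2
      have hbV := O168.klein_eq_of_normalizer_eq h b.1 _ b.2.2 hVk hg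
      have := O168.klein_not_conj h T a.1 b.1 a.2.1 b.2.1 a.2.2 b.2.2 g hbV.symm
      exact hab (Subtype.ext this)
    · rintro M hM ⟨ψ⟩
      obtain ⟨H, hHk, hMH⟩ := exists_klein_normalizer_eq h M ψ
      have hHc : Nat.card H = 4 := hHk.card_four
      have hpH : IsPGroup 2 ↥H := IsPGroup.of_card (n := 2) (by rw [hHc]; norm_num)
      obtain ⟨S', hHS'⟩ := hpH.exists_le_sylow
      obtain ⟨c, hc⟩ := MulAction.exists_smul_eq G T S'
      set H' : Subgroup G := H.map (MulAut.conj c⁻¹).toMonoidHom with hH'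
      have hH'T : H' ≤ (T : Subgroup G) := by
        rintro y ⟨z, hz, rfl⟩
        have hz' : z ∈ ((c • T : Sylow 2 G) : Subgroup G) := by rw [hc]; exact hHS' hz
        rw [mem_smul_sylow_iff] at hz'
        simpa using hz'
      have hH'k : IsKleinFour ↥H' :=
        isKleinFour_of_mulEquiv ((MulAut.conj c⁻¹).subgroupMap H) hHk
      have hHH' : H = H'.map (MulAut.conj c).toMonoidHom := by
        rw [hH', Subgroup.map_map]
        have : (MulAut.conj c).toMonoidHom.comp (MulAut.conj c⁻¹).toMonoidHom = MonoidHom.id G := by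
          ext z; simp [mul_assoc]
        rw [this, Subgroup.map_id]
      have hmem : (⟨H', hH'T, hH'k⟩ : {U : Subgroup G // U ≤ (T : Subgroup G) ∧ IsKleinFour ↥U}) ∈
          ({a, b} : Set _) := by rw [huniv]; exact Set.mem_univ _
      refine ⟨c, ?_⟩
      rcases hmem with hm | hm
      · left
        have : H' = a.1 := congrArg Subtype.val hm
        rw [hMH, hHH', O168.normalizer_map_conj, this]
      · right
        have : H' = b.1 := congrArg Subtype.val hm
        rw [hMH, hHH', O168.normalizer_map_conj, this]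

end Cfsg.Agent.S1008
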