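import Cfsg.Statements.S1009
import Cfsg.Agent.Lib.Helper17.SylowSub

set_option autoImplicit false
open Cfsg

namespace Cfsg.Agent.S1009

open Cfsg.Agent.Helper17

/-- Brodkey's Theorem: if a finite group has abelian Sylow p-subgroups, then there are two Sylow p-subgroups whose intersection equals the intersection of all Sylow p-subgroups. -/
theorem result {G : Type*} [Group G] [Finite G] (p : ℕ) [Fact p.Prime] (hab : ∀ P : Sylow p G, IsMulCommutative ↥(P : Subgroup G)) : ∃ P Q : Sylow p G, (P : Subgroup G) ⊓ (Q : Subgroup G) = ⨅ R : Sylow p G, (R : Subgroup G) := by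
  classical
  obtain ⟨⟨P, Q⟩, hmin⟩ := Finite.exists_min
    (fun PQ : Sylow p G × Sylow p G => Nat.card ↥((PQ.1 : Subgroup G) ⊓ (PQ.2 : Subgroup G)))
  refine ⟨P, Q, ?_⟩
  set D : Subgroup G := (P : Subgroup G) ⊓ (Q : Subgroup G) with hD
  set N : Subgroup G := Subgroup.normalizer (D : Set G) with hN
  have hcomm : ∀ (S : Sylow p G) (a b : G), a ∈ (S : Subgroup G) → b ∈ (S : Subgroup G) →
      a * b = b * a := by
    intro S a b ha hb
    have := (hab S).is_comm.comm ⟨a, ha⟩ ⟨b, hb⟩
    exact congrArg Subtype.val this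
  have hPN : (P : Subgroup G) ≤ N := by
    rw [hN, Subgroup.le_normalizer_iff]
    intro h hh k hk
    have : h * k * h⁻¹ = k := by
      rw [hcomm P h k hh hk.1]; group
    rw [this]; exact hk
  have hQN : (Q : Subgroup G) ≤ N := by
    rw [hN, Subgroup.le_normalizer_iff]
    intro h hh k hk
    have : h * k * h⁻¹ = k := by
      rw [hcomm Q h k hh hk.2]; group
    rw [this]; exact hk
  apply le_antisymm
  · apply le_iInf
    intro R
    have hKp : IsPGroup p ↥((R : Subgroup G) ⊓ N) := R.2.to_le inf_le_left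
    obtain ⟨x, hxN, hx⟩ := exists_conj_sylow_ge N P hPN ((R : Subgroup G) ⊓ N) hKp inf_le_right
    have hxQN : ((x • Q : Sylow p G) : Subgroup G) ≤ N := by
      intro g hg
      rw [mem_smul_sylow_iff] at hg
      have h1 : x⁻¹ * g * x ∈ N := hQN hg
      have : g = x * (x⁻¹ * g * x) * x⁻¹ := by group
      rw [this]
      exact N.mul_mem (N.mul_mem hxN h1) (N.inv_mem hxN)
    have hle : (R : Subgroup G) ⊓ ((x • Q : Sylow p G) : Subgroup G) ≤ D := by
      intro g hg
      have hgN : g ∈ N := hxQN hg.2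
      have hgP : g ∈ ((x • P : Sylow p G) : Subgroup G) := hx ⟨hg.1, hgN⟩
      have hgQ : g ∈ ((x • Q : Sylow p G) : Subgroup G) := hg.2
      rw [mem_smul_sylow_iff] at hgP hgQ
      have hgD : x⁻¹ * g * x ∈ D := ⟨hgP, hgQ⟩
      have hxN' : x ∈ Subgroup.normalizer (D : Set G) := hxN
      rw [Subgroup.mem_normalizer_iff] at hxN'
      have := (hxN' (x⁻¹ * g * x)).1 hgD
      have h2 : x * (x⁻¹ * g * x) * x⁻¹ = g := by group
      rw [h2] at this
      exact this
    have hcard : Nat.card ↥D ≤ Nat.card ↥((R : Subgroup G) ⊓ ((x • Q : Sylow p G) : Subgroup G)) :=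
      hmin (R, x • Q)
    have heq : (R : Subgroup G) ⊓ ((x • Q : Sylow p G) : Subgroup G) = D :=
      Subgroup.eq_of_le_of_card_ge hle hcard
    rw [← heq]
    exact inf_le_left
  · exact le_inf (iInf_le _ P) (iInf_le _ Q)

end Cfsg.Agent.S1009
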