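import Cfsg.Statements.S1013
import Cfsg.Agent.Lib.Helper17.PrimeDegree
import Cfsg.Agent.Lib.Helper17.Burnside
import Cfsg.Agent.Lib.Helper17.PrimeSylow
import Cfsg.Agent.Lib.Helper17.SylowSub
import Cfsg.Agent.Lib.Helper17.EmbedNormalizer

set_option autoImplicit false
open Cfsg

namespace Cfsg.Agent.S1013

open Cfsg.Agent.Helper17 MulAction

/-- Let G be a transitive permutation group of prime degree p having more than one Sylow p-subgroup, and suppose a Sylow p-subgroup P has prime index in its normalizer. Then G is simple. -/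
theorem result {α : Type*} [Fintype α] [DecidableEq α] {p : ℕ} [Fact p.Prime] (hα : Fintype.card α = p) (G : Subgroup (Equiv.Perm α)) [MulAction.IsPretransitive ↥G α] (P : Sylow p ↥G) (hn : 1 < Nat.card (Sylow p ↥G)) (ht : (((P : Subgroup ↥G).subgroupOf (Subgroup.normalizer ((P : Subgroup ↥G) : Set ↥G))).index).Prime) : IsSimpleGroup ↥G := by
  classical
  have hp : p.Prime := Fact.out
  have hpα : (Nat.card α).Prime := by rw [Nat.card_eq_fintype_card, hα]; exact hp
  have : Nonempty α := by
    rw [← Fintype.card_pos_iff, hα]; exact hp.pos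
  have hfaithG : ∀ x : ↥G, (∀ a : α, x • a = a) → x = 1 :=
    fun x hx => Subtype.ext (Equiv.ext hx)
  -- order of G
  have hpG : p ∣ Nat.card ↥G := by
    have := card_dvd_of_pretransitive (X := ↥G) (α := α)
    rwa [Nat.card_eq_fintype_card, hα] at this
  have hGfact : Nat.card ↥G ∣ (p).factorial := by
    have := Subgroup.card_subgroup_dvd_card G
    rwa [Nat.card_eq_fintype_card (α := Equiv.Perm α), Fintype.card_perm, hα] at this
  obtain ⟨m, hm⟩ := hpG
  have hp1 : 1 ≤ p := hp.one_le
  have hfac : (p).factorial = p * (p - 1).factorial := by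
    conv_lhs => rw [show p = (p - 1) + 1 by omega, Nat.factorial_succ]
    rw [show p - 1 + 1 = p by omega]
  have hndm : ¬ p ∣ m := by
    intro hpm
    rw [hm, hfac] at hGfact
    have h1 : m ∣ (p - 1).factorial := Nat.dvd_of_mul_dvd_mul_left hp.pos hGfact
    have h2 := hpm.trans h1
    rw [hp.dvd_factorial] at h2
    omega
  have hfacG : Nat.card ↥G = p ^ 1 * m := by rw [hm, pow_one]
  have hcS : ∀ S : Sylow p ↥G, Nat.card (S : Subgroup ↥G) = p := by
    intro S
    have := sylow_card_eq S hfacG hndm
    simpa using this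
  have hcP := hcS P
  -- P is commutative
  have hPcomm : ∀ a b : ↥G, a ∈ (P : Subgroup ↥G) → b ∈ (P : Subgroup ↥G) → a * b = b * a := by
    intro a b ha hb
    have : IsCyclic ↥(P : Subgroup ↥G) := isCyclic_of_prime_card hcP
    have h := (IsCyclic.commGroup (α := ↥(P : Subgroup ↥G))).mul_comm ⟨a, ha⟩ ⟨b, hb⟩
    exact congrArg Subtype.val h
  refine { exists_pair_ne := ?_, eq_bot_or_eq_top_of_normal := ?_ }
  · have : Nontrivial ↥G := by
      rw [← Finite.one_lt_card_iff_nontrivial, hm]
      have hm0 : m ≠ 0 := fun h => hndm (h ▸ dvd_zero p)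
      have := hp.two_le
      nlinarith [Nat.pos_of_ne_zero hm0]
    exact exists_pair_ne _
  · intro H hHn
    by_contra hcon
    push Not at hcon
    obtain ⟨hHbot, hHtop⟩ := hcon
    have hHtrans : IsPretransitive ↥H α := normal_pretransitive_of_prime hfaithG hpα H hHbot
    have hpH : p ∣ Nat.card ↥H := by
      have := card_dvd_of_pretransitive (X := ↥H) (α := α)
      rwa [Nat.card_eq_fintype_card, hα] at this
    -- P ≤ H
    have hPH : (P : Subgroup ↥G) ≤ H := by
      obtain ⟨h, hh⟩ := exists_prime_orderOf_dvd_card' p hpH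
      have hh' : orderOf (h : ↥G) = p := by rw [Subgroup.orderOf_coe]; exact hh
      obtain ⟨S, hS⟩ := exists_sylow_mem_of_orderOf (h : ↥G) hh'
      obtain ⟨g, rfl⟩ := MulAction.exists_smul_eq ↥G P S
      rw [mem_smul_sylow_iff] at hS
      have h1 : g⁻¹ * (h : ↥G) * g ≠ 1 := by
        intro h1
        have : (h : ↥G) = 1 := by
          have : (h : ↥G) = g * (g⁻¹ * (h : ↥G) * g) * g⁻¹ := by group
          rw [this, h1]; group
        rw [this, orderOf_one] at hh'
        exact hp.one_lt.ne' hh'.symm
      have hgen := (zpowers_eq_of_card_prime _ hcP _ hS h1).1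
      rw [← hgen, Subgroup.zpowers_le]
      have := hHn.conj_mem (h : ↥G) h.2 g⁻¹
      simpa [mul_assoc] using this
    have hfr : Subgroup.normalizer ((P : Subgroup ↥G) : Set ↥G) ⊔ H = ⊤ :=
      Sylow.normalizer_sup_eq_top' P hPH
    set N : Subgroup ↥G := Subgroup.normalizer ((P : Subgroup ↥G) : Set ↥G) with hN
    have hPN : (P : Subgroup ↥G) ≤ N := Subgroup.le_normalizer
    have hmul : (P : Subgroup ↥G).relIndex (H ⊓ N) * (H ⊓ N).relIndex N =
        (P : Subgroup ↥G).relIndex N :=
      Subgroup.relIndex_mul_relIndex _ _ _ (le_inf hPH hPN) inf_le_right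
    have ht' : ((P : Subgroup ↥G).relIndex N).Prime := ht
    rw [← hmul] at ht'
    rcases (Nat.prime_mul_iff.1 ht') with ⟨_, hb⟩ | ⟨_, ha⟩
    · -- N ≤ H
      rw [Subgroup.relIndex_eq_one] at hb
      have hNH : N ≤ H := hb.trans inf_le_left
      apply hHtop
      rw [← hfr]
      exact (sup_eq_right.2 hNH).symm
    · -- H ⊓ N = P
      rw [Subgroup.relIndex_eq_one] at ha
      set Q : Sylow p ↥H := P.subtype hPH with hQ
      have hQcoe : (Q : Subgroup ↥H) = (P : Subgroup ↥G).subgroupOf H := Sylow.coe_subtype _ hPH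
      have hQnc : Subgroup.normalizer ((Q : Subgroup ↥H) : Set ↥H) ≤
          Subgroup.centralizer ((Q : Subgroup ↥H) : Set ↥H) := by
        intro x hx
        rw [hQcoe, ← Subgroup.subgroupOf_normalizer_eq hPH, Subgroup.mem_subgroupOf] at hx
        have hxP : (x : ↥G) ∈ (P : Subgroup ↥G) := ha ⟨x.2, hx⟩
        rw [Subgroup.mem_centralizer_iff]
        intro y hy
        have hyP : (y : ↥G) ∈ (P : Subgroup ↥G) := by
          have : y ∈ (Q : Subgroup ↥H) := hy
          rw [hQcoe, Subgroup.mem_subgroupOf] at this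
          exact this
        apply Subtype.ext
        exact hPcomm _ _ hyP hxP
      obtain ⟨K, hKn, hKc, hKp⟩ := exists_normal_pcomplement Q hQnc
      have hcQ : Nat.card (Q : Subgroup ↥H) = p := by
        rw [hQcoe]
        exact (Nat.card_congr (Subgroup.subgroupOfEquivOfLe hPH).toEquiv).trans hcP
      rw [hcQ] at hKc
      by_cases hKbot : K = ⊥
      · rw [hKbot, Subgroup.card_bot, one_mul] at hKc
        have hHP : (P : Subgroup ↥G) = H :=
          Subgroup.eq_of_le_of_card_ge hPH (by rw [hcP, hKc])
        have hPn : (P : Subgroup ↥G).Normal := by rw [hHP]; exact hHn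
        have h1 := card_normalizer_mul_sylow_count P
        rw [Subgroup.normalizer_eq_top_iff.2 hPn, Subgroup.card_top] at h1
        have hpos : 0 < Nat.card ↥G := Nat.card_pos
        have : Nat.card (Sylow p ↥G) = 1 := by
          have : Nat.card ↥G * Nat.card (Sylow p ↥G) = Nat.card ↥G * 1 := by rw [h1, mul_one]
          exact Nat.eq_of_mul_eq_mul_left hpos this
        omega
      · have hfaithH : ∀ x : ↥H, (∀ a : α, x • a = a) → x = 1 := by
          intro x hx
          apply Subtype.ext
          exact hfaithG x.1 hx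
        have hKtrans : IsPretransitive ↥K α :=
          normal_pretransitive_of_prime hfaithH hpα K hKbot
        have hpK : p ∣ Nat.card ↥K := by
          have := card_dvd_of_pretransitive (X := ↥K) (α := α)
          rwa [Nat.card_eq_fintype_card, hα] at this
        exact hKp hpK

end Cfsg.Agent.S1013
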