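import Cfsg.Statements.S1015
import Cfsg.Agent.Lib.Helper17.Simple
import Cfsg.Agent.Lib.Helper17.SylowInter
import Cfsg.Agent.Lib.Helper17.SylowInter2

set_option autoImplicit false
open Cfsg

namespace Cfsg.Agent.S1015

open Cfsg.Agent.Helper17

/-- No finite simple group has order 1200 = 2^4 * 3 * 5^2. -/
theorem result {G : Type*} [Group G] [Finite G] [IsSimpleGroup G] : Nat.card G ≠ 1200 := by
  intro hcard
  have hG : ¬ IsMulCommutative G := not_comm_of_not_prime (by rw [hcard]; norm_num)
  have : Fact (Nat.Prime 5) := ⟨by norm_num⟩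
  have hfac : Nat.card G = 5 ^ 2 * 48 := by rw [hcard]; norm_num
  have h548 : ¬ 5 ∣ 48 := by norm_num
  obtain ⟨hdvd, hmod⟩ := sylow_count (G := G) hfac h548
  have hne1 := sylow_count_ne_one (G := G) hfac h548 (by norm_num) (by norm_num)
  have hfact := sylow_count_factorial (p := 5) hG hne1
  have hle : Nat.card (Sylow 5 G) ≤ 48 := Nat.le_of_dvd (by norm_num) hdvd
  have hcases : Nat.card (Sylow 5 G) = 6 ∨ Nat.card (Sylow 5 G) = 16 := by
    generalize Nat.card (Sylow 5 G) = n at *
    interval_cases n <;> omega
  rcases hcases with h6 | h16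
  · rw [h6, hcard] at hfact
    revert hfact; decide
  · have hnot : ¬ Nat.card (Sylow 5 G) ≡ 1 [MOD 5 ^ 2] := by
      rw [h16]; decide
    obtain ⟨P⟩ : Nonempty (Sylow 5 G) := inferInstance
    obtain ⟨R, hPR, hidx⟩ := exists_sylow_large_inter 5 2 hnot P
    have hcP : Nat.card (P : Subgroup G) = 25 := sylow_card_eq P hfac h548
    have hcR : Nat.card (R : Subgroup G) = 25 := sylow_card_eq R hfac h548
    change (R : Subgroup G).relIndex (P : Subgroup G) ≤ 5 ^ (2 - 1) at hidx
    have hd : (R : Subgroup G).relIndex (P : Subgroup G) ∣ 25 := by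
      rw [← hcP]; exact Subgroup.relIndex_dvd_card _ _
    have hne : (R : Subgroup G).relIndex (P : Subgroup G) ≠ 1 := by
      intro h1
      rw [Subgroup.relIndex_eq_one] at h1
      apply hPR
      apply Sylow.ext
      exact Subgroup.eq_of_le_of_card_ge h1 (by rw [hcP, hcR])
    have h5 : (R : Subgroup G).relIndex (P : Subgroup G) = 5 := by
      generalize (R : Subgroup G).relIndex (P : Subgroup G) = n at *
      interval_cases n <;> omega
    have h5' : (P : Subgroup G).relIndex (R : Subgroup G) = 5 := by
      rw [← sylow_relIndex_symm]; exact h5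
    have hcD : Nat.card ↥((P : Subgroup G) ⊓ (R : Subgroup G)) = 5 := by
      have := card_inf_mul_relIndex (P : Subgroup G) (R : Subgroup G)
      rw [h5', hcR] at this
      omega
    set D : Subgroup G := (P : Subgroup G) ⊓ (R : Subgroup G) with hD
    have hPN : (P : Subgroup G) ≤ Subgroup.normalizer (D : Set G) :=
      le_normalizer_inf_of_relIndex_eq_prime P R h5
    have hRN : (R : Subgroup G) ≤ Subgroup.normalizer (D : Set G) := by
      rw [hD, inf_comm]
      exact le_normalizer_inf_of_relIndex_eq_prime R P h5'
    set N : Subgroup G := Subgroup.normalizer (D : Set G) with hN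
    -- N is a proper subgroup
    have hNtop : N ≠ ⊤ := by
      intro htop
      have hn : D.Normal := Subgroup.normalizer_eq_top_iff.1 htop
      exact normal_card_absurd D hn (by rw [hcD]; norm_num) (by rw [hcD, hcard]; norm_num)
    have hfactN := two_mul_card_dvd_factorial hG N hNtop
    -- index of N is at most 8
    have h1 := Subgroup.relIndex_mul_index hPN
    have hPi : (P : Subgroup G).index = 48 := sylow_index_eq P hfac h548
    rw [hPi] at h1
    have hrel : (P : Subgroup G).relIndex (R : Subgroup G) ≤ (P : Subgroup G).relIndex N := by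
      apply Subgroup.relIndex_le_of_le_right hRN
      intro h0
      rw [h0] at h1
      omega
    rw [h5'] at hrel
    have hidx8 : N.index ≤ 8 := by
      generalize (P : Subgroup G).relIndex N = a at *
      generalize N.index = b at *
      have ha : a ∣ 48 := Dvd.intro _ h1
      have ha48 : a ≤ 48 := Nat.le_of_dvd (by norm_num) ha
      interval_cases a <;> omega
    have hdvd8 : (N.index).factorial ∣ (8).factorial := Nat.factorial_dvd_factorial hidx8
    have := hfactN.trans hdvd8
    rw [hcard] at this
    revert this; decide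

end Cfsg.Agent.S1015
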