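import Cfsg.Statements.S1030
import Cfsg.Agent.Lib.Helper6.ChevSL2Data

set_option autoImplicit false
open Cfsg

namespace Cfsg.Agent.S1030

/-- There is a homomorphism `SL₂(F) → GL` with image `⟨X_r, X_{-r}⟩` sending `[[1,t],[0,1]]` to `x_r(t)` and `[[1,0],[t,1]]` to `x_{-r}(t)`. -/
theorem result {F : Type*} [Field F] (D : Cfsg.Lie.ChevalleyDatum) (hD : D ∈ [Cfsg.Lie.chevG2, Cfsg.Lie.chevB2, Cfsg.Lie.chevD4, Cfsg.Lie.chevF4, Cfsg.Lie.chevE6, Cfsg.Lie.chevE7, Cfsg.Lie.chevE8]) (r : ℕ) (hr : r < D.nroots) :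
    ∃ φ : Matrix.SpecialLinearGroup (Fin 2) F →* GL D.Idx F,
      φ.range = D.rootSubgroup F r ⊔ D.rootSubgroup F (D.neg r) ∧
      ∀ (g : Matrix.SpecialLinearGroup (Fin 2) F) (t : F),
        ((g : Matrix (Fin 2) (Fin 2) F) = !![1, t; 0, 1] → ((φ g : GL D.Idx F) : Matrix D.Idx D.Idx F) = D.x F r t) ∧
        ((g : Matrix (Fin 2) (Fin 2) F) = !![1, 0; t, 1] → ((φ g : GL D.Idx F) : Matrix D.Idx D.Idx F) = D.x F (D.neg r) t) := by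
  have hD' := hD
  simp only [List.mem_cons, List.not_mem_nil, or_false] at hD
  rcases hD with rfl | rfl | rfl | rfl | rfl | rfl | rfl
  · exact Cfsg.Agent.Helper6.ChevSL2.exists_sl2_hom' _ hD' Cfsg.Agent.Helper6.Chev.nData_G2
      Cfsg.Agent.Helper6.Chev.signOK_G2 Cfsg.Agent.Helper6.ChevSL2.sl2OK_G2 r hr
  · exact Cfsg.Agent.Helper6.ChevSL2.exists_sl2_hom' _ hD' Cfsg.Agent.Helper6.Chev.nData_B2
      Cfsg.Agent.Helper6.Chev.signOK_B2 Cfsg.Agent.Helper6.ChevSL2.sl2OK_B2 r hr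
  · exact Cfsg.Agent.Helper6.ChevSL2.exists_sl2_hom' _ hD' Cfsg.Agent.Helper6.Chev.nData_D4
      Cfsg.Agent.Helper6.Chev.signOK_D4 Cfsg.Agent.Helper6.ChevSL2.sl2OK_D4 r hr
  · exact Cfsg.Agent.Helper6.ChevSL2.exists_sl2_hom' _ hD' Cfsg.Agent.Helper6.Chev.nData_F4
      Cfsg.Agent.Helper6.Chev.signOK_F4 Cfsg.Agent.Helper6.ChevSL2.sl2OK_F4 r hr
  · exact Cfsg.Agent.Helper6.ChevSL2.exists_sl2_hom' _ hD' Cfsg.Agent.Helper6.Chev.nData_E6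
      Cfsg.Agent.Helper6.Chev.signOK_E6 Cfsg.Agent.Helper6.ChevSL2.sl2OK_E6 r hr
  · exact Cfsg.Agent.Helper6.ChevSL2.exists_sl2_hom' _ hD' Cfsg.Agent.Helper6.Chev.nData_E7
      Cfsg.Agent.Helper6.Chev.signOK_E7 Cfsg.Agent.Helper6.ChevSL2.sl2OK_E7 r hr
  · exact Cfsg.Agent.Helper6.ChevSL2.exists_sl2_hom' _ hD' Cfsg.Agent.Helper6.Chev.nData_E8
      Cfsg.Agent.Helper6.Chev.signOK_E8 Cfsg.Agent.Helper6.ChevSL2.sl2OK_E8 r hr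

end Cfsg.Agent.S1030
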