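import Cfsg.Statements.S1044
import Cfsg.Agent.Lib.Helper18.UiAll
import Cfsg.Agent.Lib.Helper18.TorusAll
import Cfsg.Agent.Lib.Helper18.ConjAll
import Cfsg.Agent.Lib.Helper18.ChevBNPair2
import Cfsg.Agent.Lib.Helper18.ChevPara1
import Cfsg.Agent.S1038

set_option autoImplicit false
open Cfsg

namespace Cfsg.Agent.S1044

/-- For a fundamental root `p` the set `B ∪ B n_p B` is (the carrier of) a subgroup of the general linear group. -/
theorem result {F : Type*} [Field F] (D : Cfsg.Lie.ChevalleyDatum) (hD : D ∈ [Cfsg.Lie.chevG2, Cfsg.Lie.chevB2, Cfsg.Lie.chevD4, Cfsg.Lie.chevF4, Cfsg.Lie.chevE6, Cfsg.Lie.chevE7, Cfsg.Lie.chevE8]) (i : ℕ) (hi : i < D.rank) (n : GL D.Idx F)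
    (hn : (n : Matrix D.Idx D.Idx F) = D.nMat F (D.simple i) 1) :
    ∃ P : Subgroup (GL D.Idx F), (P : Set (GL D.Idx F)) =
      (D.borelSubgroup F : Set (GL D.Idx F)) ∪ DoubleCoset.doubleCoset n (D.borelSubgroup F : Set (GL D.Idx F)) (D.borelSubgroup F) := by
  obtain ⟨tbl, hT⟩ := Cfsg.Agent.Helper18.torusData_all D hD
  have hHN : D.diagonalSubgroup F ≤ D.monomialSubgroup F := le_sup_left
  have hNH := (Subgroup.normal_subgroupOf_iff_le_normalizer hHN).mp (Cfsg.Agent.S1038.result (F := F) D hD)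
  have hB := Cfsg.Agent.Helper18.bnFacts_all D hD
  have hU := Cfsg.Agent.Helper18.uiFacts_all D hD
  have hconj : ∀ i < D.rank, ∀ s < D.nroots, Cfsg.Agent.Helper18.ConjGoal' F D i s :=
    fun i hi s hs => Cfsg.Agent.Helper18.conjGoal_all D hD i s hi hs
  have hS : ∀ i < D.rank, Cfsg.Agent.Helper18.ConjGoalS' F D i :=
    fun i hi => Cfsg.Agent.Helper18.conjGoalS_all D hD i hi
  exact Cfsg.Agent.Helper18.rank_one_parabolic D hD hB hU hT hconj hS hNH i hi n hn

end Cfsg.Agent.S1044
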