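import Cfsg.Statements.S1046
import Cfsg.Agent.Lib.Helper18.UiAll
import Cfsg.Agent.Lib.Helper18.TorusAll
import Cfsg.Agent.Lib.Helper18.ConjAll
import Cfsg.Agent.Lib.Helper18.ChevHConj
import Cfsg.Agent.S1038

set_option autoImplicit false
open Cfsg

namespace Cfsg.Agent.S1046

/-- Two elements of `H` conjugate in the Chevalley group are conjugate by an element of `N`. -/
theorem result {F : Type*} [Field F] (D : Cfsg.Lie.ChevalleyDatum) (hD : D ∈ [Cfsg.Lie.chevG2, Cfsg.Lie.chevB2, Cfsg.Lie.chevD4, Cfsg.Lie.chevF4, Cfsg.Lie.chevE6, Cfsg.Lie.chevE7, Cfsg.Lie.chevE8]) (h₁ h₂ g : GL D.Idx F) (h1 : h₁ ∈ D.diagonalSubgroup F) (h2 : h₂ ∈ D.diagonalSubgroup F)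
    (hg : g ∈ D.group F) (hc : g * h₁ * g⁻¹ = h₂) :
    ∃ n ∈ D.monomialSubgroup F, n * h₁ * n⁻¹ = h₂ := by
  obtain ⟨tbl, hT⟩ := Cfsg.Agent.Helper18.torusData_all D hD
  have hHN : D.diagonalSubgroup F ≤ D.monomialSubgroup F := le_sup_left
  have hNH := (Subgroup.normal_subgroupOf_iff_le_normalizer hHN).mp (Cfsg.Agent.S1038.result (F := F) D hD)
  have hB := Cfsg.Agent.Helper18.bnFacts_all D hD
  have hU := Cfsg.Agent.Helper18.uiFacts_all D hD
  have hconj : ∀ i < D.rank, ∀ s < D.nroots, Cfsg.Agent.Helper18.ConjGoal' F D i s :=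
    fun i hi s hs => Cfsg.Agent.Helper18.conjGoal_all D hD i s hi hs
  have hS : ∀ i < D.rank, Cfsg.Agent.Helper18.ConjGoalS' F D i :=
    fun i hi => Cfsg.Agent.Helper18.conjGoalS_all D hD i hi
  exact Cfsg.Agent.Helper18.diag_conj_monomial D hD hB hU hT (Cfsg.Agent.Helper17.triOK_of_mem D hD)
    (Cfsg.Agent.Helper18.negTriOK_of_mem D hD) hconj hS hNH h₁ h₂ g h1 h2 hg hc

end Cfsg.Agent.S1046
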