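import Cfsg.Statements.S1057
import Cfsg.Agent.Lib.Helper37.ExcB
import Cfsg.Agent.Lib.Helper37.ExcP

set_option autoImplicit false
open Cfsg

namespace Cfsg.Agent.S1057

/-- G₂(2)′ ≅ PSU₃(3). -/
theorem result {F K : Type*} [Field F] [Fintype F] [Field K] [Fintype K] (hF : Fintype.card F = 2) (hK : Fintype.card K = 9) :
    Nonempty (↥(commutator ↥(Cfsg.Lie.chevG2.group F)) ≃* Cfsg.PSU 3 K 3) := by
  classical
  have eF : F ≃+* ZMod 2 := (ZMod.ringEquivOfPrime F Nat.prime_two hF).symm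
  have eK : K ≃+* Cfsg.Agent.Helper37.Exc.F9 :=
    FiniteField.ringEquivOfCardEq (K := K) (K' := Cfsg.Agent.Helper37.Exc.F9)
      (by rw [hK, Cfsg.Agent.Helper37.Exc.card_F9]; norm_num)
  -- transport on the Chevalley side
  let φ : ↥(Cfsg.Lie.chevG2.group F) ≃* ↥(Cfsg.Lie.chevG2.group (ZMod 2)) :=
    Cfsg.Agent.Helper37.Exc.chevCongr Cfsg.Lie.chevG2 eF
  have e1 : ↥(commutator ↥(Cfsg.Lie.chevG2.group F)) ≃*
      ↥(commutator ↥(Cfsg.Lie.chevG2.group (ZMod 2))) :=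
    (φ.subgroupMap (commutator ↥(Cfsg.Lie.chevG2.group F))).trans
      (MulEquiv.subgroupCongr (by
        rw [commutator_def, commutator_def]
        have h : Subgroup.map φ.toMonoidHom (⊤ : Subgroup ↥(Cfsg.Lie.chevG2.group F)) = ⊤ := by
          rw [← MonoidHom.range_eq_map]
          exact MonoidHom.range_eq_top.2 φ.surjective
        show Subgroup.map φ.toMonoidHom ⁅(⊤ : Subgroup ↥(Cfsg.Lie.chevG2.group F)), ⊤⁆ = _
        rw [Subgroup.map_commutator, h]))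
  -- transport on the unitary side
  let ψ : Cfsg.SU 3 K 3 ≃* Cfsg.SU 3 Cfsg.Agent.Helper37.Exc.F9 3 :=
    Cfsg.Agent.Helper37.Exc.suCongr eK 3 3
  have hK2 : Fintype.card K = 3 ^ 2 := by rw [hK]; norm_num
  have hcenK : Subgroup.center (Cfsg.SU 3 K 3) = ⊥ := by
    apply Subgroup.eq_bot_of_card_eq
    rw [Cfsg.Agent.Helper5.card_center_SU_of_two_le hK2 (by norm_num)]
    rfl
  have hcen9 : Subgroup.center (Cfsg.SU 3 Cfsg.Agent.Helper37.Exc.F9 3) = ⊥ := by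
    apply Subgroup.eq_bot_of_card_eq
    rw [Cfsg.Agent.Helper5.card_center_SU_of_two_le Cfsg.Agent.Helper37.Exc.card_F9
      (by norm_num)]
    rfl
  have e3 : Cfsg.PSU 3 K 3 ≃* Cfsg.PSU 3 Cfsg.Agent.Helper37.Exc.F9 3 :=
    ((QuotientGroup.quotientMulEquivOfEq hcenK).trans QuotientGroup.quotientBot).trans
      (ψ.trans ((QuotientGroup.quotientMulEquivOfEq hcen9).trans QuotientGroup.quotientBot).symm)
  obtain ⟨e2⟩ := Cfsg.Agent.Helper37.Exc.g22_comm_equiv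
  exact ⟨e1.trans (e2.trans e3.symm)⟩

end Cfsg.Agent.S1057
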