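import Cfsg.Statements.S1060
import Cfsg.Agent.Lib.Helper18.ChevOrder
import Cfsg.Agent.Lib.Helper18.CellsB2
import Cfsg.Agent.S1035

set_option autoImplicit false
open Cfsg

namespace Cfsg.Agent.S1060

/-- `gcd(2, q-1) · |B₂(q)| = q⁴ (q² - 1)(q⁴ - 1)`. -/
theorem result {F : Type*} [Field F] [Fintype F] {q : ℕ} (hq : Fintype.card F = q) : Nat.gcd 2 (q - 1) * Nat.card ↥(Cfsg.Lie.chevB2.group F) = q ^ 4 * (q ^ 2 - 1) * (q ^ 4 - 1) := by
  have h := Cfsg.Agent.Helper18.chev_card_formula (F := F) Cfsg.Lie.chevB2 (by simp [Cfsg.Agent.S1043.Good])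
    Cfsg.Agent.Helper18.permTblB2 Cfsg.Agent.Helper18.cellRB2 Cfsg.Agent.Helper18.cellNxtB2
    Cfsg.Agent.Helper18.cellCntB2 Cfsg.Agent.Helper18.permTblB2_ok Cfsg.Agent.Helper18.cellChkB2
    Cfsg.Agent.Helper18.cellCntChkB2
  have hH := Cfsg.Agent.S1035.result (F := F) hq (Cfsg.Lie.chevB2, Nat.gcd 2 (q - 1)) (by simp)
  have hH' : Nat.gcd 2 (q - 1) * Nat.card ↥(Cfsg.Lie.chevB2.diagonalSubgroup F) = (q - 1) ^ 2 := by
    have e : Cfsg.Lie.chevB2.rank = 2 := rfl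
    simpa [e] using hH
  have hN : Cfsg.Lie.chevB2.nroots / 2 = 4 := rfl
  have hq1 : 1 ≤ q := by
    rw [← hq]
    exact Fintype.card_pos
  rw [h, hN, hq]
  have e1 : Nat.gcd 2 (q - 1) * (q ^ 4 * Nat.card ↥(Cfsg.Lie.chevB2.diagonalSubgroup F) *
      ∑ j ∈ Finset.range Cfsg.Agent.Helper18.cellCntB2.length,
        Cfsg.Agent.Helper18.lget Cfsg.Agent.Helper18.cellCntB2 j 0 * q ^ j) =
      q ^ 4 * (Nat.gcd 2 (q - 1) * Nat.card ↥(Cfsg.Lie.chevB2.diagonalSubgroup F)) *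
      ∑ j ∈ Finset.range Cfsg.Agent.Helper18.cellCntB2.length,
        Cfsg.Agent.Helper18.lget Cfsg.Agent.Helper18.cellCntB2 j 0 * q ^ j := by ring
  rw [e1, hH']
  simp only [Cfsg.Agent.Helper18.cellCntB2, List.length_cons, List.length_nil, Finset.sum_range_succ,
    Finset.sum_range_zero, Cfsg.Agent.Helper18.lget]
  have h2 : 1 ≤ q ^ 2 := Nat.one_le_pow _ _ hq1
  have h4 : 1 ≤ q ^ 4 := Nat.one_le_pow _ _ hq1
  zify [hq1, h2, h4]
  ring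

end Cfsg.Agent.S1060
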