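import Cfsg.Statements.S1061
import Cfsg.Agent.Lib.Helper18.ChevOrder
import Cfsg.Agent.Lib.Helper18.CellsD4
import Cfsg.Agent.S1035

set_option autoImplicit false
open Cfsg

namespace Cfsg.Agent.S1061

/-- `gcd(2, q-1)² · |D₄(q)| = q¹² (q² - 1)(q⁴ - 1)(q⁴ - 1)(q⁶ - 1)`. -/
theorem result {F : Type*} [Field F] [Fintype F] {q : ℕ} (hq : Fintype.card F = q) : Nat.gcd 2 (q - 1) ^ 2 * Nat.card ↥(Cfsg.Lie.chevD4.group F) = q ^ 12 * (q ^ 2 - 1) * (q ^ 4 - 1) * (q ^ 4 - 1) * (q ^ 6 - 1) := by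
  have h := Cfsg.Agent.Helper18.chev_card_formula (F := F) Cfsg.Lie.chevD4 (by simp [Cfsg.Agent.S1043.Good])
    Cfsg.Agent.Helper18.permTblD4 Cfsg.Agent.Helper18.cellRD4 Cfsg.Agent.Helper18.cellNxtD4
    Cfsg.Agent.Helper18.cellCntD4 Cfsg.Agent.Helper18.permTblD4_ok Cfsg.Agent.Helper18.cellChkD4
    Cfsg.Agent.Helper18.cellCntChkD4
  have hH := Cfsg.Agent.S1035.result (F := F) hq (Cfsg.Lie.chevD4, Nat.gcd 2 (q - 1) ^ 2) (by simp)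
  have hH' : Nat.gcd 2 (q - 1) ^ 2 * Nat.card ↥(Cfsg.Lie.chevD4.diagonalSubgroup F) = (q - 1) ^ 4 := by
    have e : Cfsg.Lie.chevD4.rank = 4 := rfl
    simpa [e] using hH
  have hN : Cfsg.Lie.chevD4.nroots / 2 = 12 := rfl
  have hq1 : 1 ≤ q := by
    rw [← hq]
    exact Fintype.card_pos
  rw [h, hN, hq]
  have e1 : Nat.gcd 2 (q - 1) ^ 2 * (q ^ 12 * Nat.card ↥(Cfsg.Lie.chevD4.diagonalSubgroup F) *
      ∑ j ∈ Finset.range Cfsg.Agent.Helper18.cellCntD4.length,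
        Cfsg.Agent.Helper18.lget Cfsg.Agent.Helper18.cellCntD4 j 0 * q ^ j) =
      q ^ 12 * (Nat.gcd 2 (q - 1) ^ 2 * Nat.card ↥(Cfsg.Lie.chevD4.diagonalSubgroup F)) *
      ∑ j ∈ Finset.range Cfsg.Agent.Helper18.cellCntD4.length,
        Cfsg.Agent.Helper18.lget Cfsg.Agent.Helper18.cellCntD4 j 0 * q ^ j := by ring
  rw [e1, hH']
  simp only [Cfsg.Agent.Helper18.cellCntD4, List.length_cons, List.length_nil, Finset.sum_range_succ,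
    Finset.sum_range_zero, Cfsg.Agent.Helper18.lget]
  have h2 : 1 ≤ q ^ 2 := Nat.one_le_pow _ _ hq1
  have h4 : 1 ≤ q ^ 4 := Nat.one_le_pow _ _ hq1
  have h6 : 1 ≤ q ^ 6 := Nat.one_le_pow _ _ hq1
  zify [hq1, h2, h4, h6]
  ring

end Cfsg.Agent.S1061
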