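import Cfsg.Statements.S1072
import Cfsg.Agent.Lib.Helper18.TwSimpleF4
import Cfsg.Agent.Lib.Helper18.TwFixF4
import Cfsg.Agent.S1112
import Cfsg.Agent.S1113

set_option autoImplicit false
open Cfsg

namespace Cfsg.Agent.S1072

/-- ²F₄(2^(2m+1)) is simple for `m ≥ 1`. -/
theorem result {K : Type*} [Field K] [Fintype K] {m : ℕ} (hm : 1 ≤ m) (hK : Fintype.card K = 2 ^ (2 * m + 1)) :
    IsSimpleGroup ↥(Cfsg.Lie.twistedF4 K (2 ^ m)) ∧ ¬ IsMulCommutative ↥(Cfsg.Lie.twistedF4 K (2 ^ m)) := by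
  have : Fact (Nat.Prime 2) := ⟨by norm_num⟩
  have : CharP K 2 := charP_of_card_eq_prime_pow hK
  have FD := Cfsg.Agent.Helper15.Ree4.fieldData_of_card hK
  have hperf : ∀ x : K, ∃ y : K, y ^ 2 = x := fun x => ⟨(x ^ 2 ^ m) ^ 2 ^ m, FD.sq x⟩
  obtain ⟨α, hα⟩ := Cfsg.Agent.Helper6.ChevGraph.F4.exists_aut hperf
  exact Cfsg.Agent.Helper18.TwSimpleF4.simple_F4 FD α hα (Cfsg.Agent.Helper18.TwFixF4.hfixX FD α hα)
    (Cfsg.Agent.S1112.result hK hm) (Cfsg.Agent.S1113.result hK)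

end Cfsg.Agent.S1072
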