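import Cfsg.Statements.S1117
import Cfsg.Agent.Lib.Helper36.ReeCoreG2

set_option autoImplicit false
open Cfsg

namespace Cfsg.Agent.S1117

/-- The normal core of `B¹ = G¹ ∩ B` in ²G₂(3^(2m+1)) is trivial. -/
theorem result {K : Type*} [Field K] [Fintype K] {m : ℕ} (hK : Fintype.card K = 3 ^ (2 * m + 1)) :
    ((Cfsg.Lie.chevG2.borelSubgroup K ⊓ Cfsg.Lie.twistedG2 K (3 ^ m)).subgroupOf (Cfsg.Lie.twistedG2 K (3 ^ m))).normalCore = ⊥ := by
  classical
  -- the characteristic is three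
  have hchar : CharP K 3 := by
    obtain ⟨p, hp, n, hprime, hcard⟩ := FiniteField.card' K
    have hdvd : p ∣ 3 := by
      have h1 : p ∣ 3 ^ (2 * m + 1) := by
        rw [← hK, hcard]
        exact dvd_pow_self p n.ne_zero
      exact hprime.dvd_of_dvd_pow h1
    have hp3 : p = 3 := (Nat.prime_dvd_prime_iff_eq hprime Nat.prime_three).mp hdvd
    rw [← hp3]
    exact hp
  have : Fact (Nat.Prime 3) := ⟨Nat.prime_three⟩
  have : ExpChar K 3 := ExpChar.prime Nat.prime_three
  exact Cfsg.Agent.Helper36.Ree.core_twistedG2 (iterateFrobenius K 3 m) m (fun x => rfl)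

end Cfsg.Agent.S1117
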