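import Cfsg.Statements.S1073
import Cfsg.Agent.Lib.Helper6.ReeQ
import Cfsg.Agent.S1116
import Cfsg.Agent.S1117

set_option autoImplicit false
open Cfsg

namespace Cfsg.Agent.S1073

/-- ²G₂(3^(2m+1)) is simple for `m ≥ 1`. -/
theorem result {K : Type*} [Field K] [Fintype K] {m : ℕ} (hm : 1 ≤ m) (hK : Fintype.card K = 3 ^ (2 * m + 1)) :
    IsSimpleGroup ↥(Cfsg.Lie.twistedG2 K (3 ^ m)) ∧ ¬ IsMulCommutative ↥(Cfsg.Lie.twistedG2 K (3 ^ m)) := by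

  have : Fact (Nat.Prime 3) := ⟨by norm_num⟩
  have : CharP K 3 := charP_of_card_eq_prime_pow hK
  have FD := Cfsg.Agent.Helper15.Ree.fieldData_of_card hK
  have hperf : ∀ x : K, ∃ y : K, y ^ 3 = x := fun x => ⟨(x ^ 3 ^ m) ^ 3 ^ m, FD.cube x⟩
  obtain ⟨α, hα⟩ := Cfsg.Agent.Helper6.G2C3.exists_graph_aut hperf
  exact Cfsg.Agent.Helper6.ReeS.simple_ree FD α hα (Cfsg.Agent.S1116.result hK hm) (Cfsg.Agent.S1117.result hK)

end Cfsg.Agent.S1073
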