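import Cfsg.Statements.S1089
import Cfsg.Agent.Lib.Helper18.TwBNF4
import Cfsg.Agent.Lib.Helper18.TwFixF4

set_option autoImplicit false
open Cfsg

namespace Cfsg.Agent.S1089

/-- ²F₄(2^(2m+1)) has a (B,N)-pair: B¹ = G¹ ∩ B and N¹ = G¹ ∩ N, intersections with the ambient Chevalley group's B = UH and N. -/
theorem result {K : Type*} [Field K] [Fintype K] {m : ℕ} (hK : Fintype.card K = 2 ^ (2 * m + 1)) :
    ∃ P : Cfsg.BNPair ↥(Cfsg.Lie.twistedF4 K (2 ^ m)),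
      P.B = (Cfsg.Lie.chevF4.borelSubgroup K ⊓ Cfsg.Lie.twistedF4 K (2 ^ m)).subgroupOf (Cfsg.Lie.twistedF4 K (2 ^ m)) ∧
      P.N = (Cfsg.Lie.chevF4.monomialSubgroup K ⊓ Cfsg.Lie.twistedF4 K (2 ^ m)).subgroupOf (Cfsg.Lie.twistedF4 K (2 ^ m)) := by
  have : Fact (Nat.Prime 2) := ⟨by norm_num⟩
  have : CharP K 2 := charP_of_card_eq_prime_pow hK
  have FD := Cfsg.Agent.Helper15.Ree4.fieldData_of_card hK
  have hperf : ∀ x : K, ∃ y : K, y ^ 2 = x := fun x => ⟨(x ^ 2 ^ m) ^ 2 ^ m, FD.sq x⟩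
  obtain ⟨α, hα⟩ := Cfsg.Agent.Helper6.ChevGraph.F4.exists_aut hperf
  obtain ⟨P, hB, hN, _⟩ := Cfsg.Agent.Helper18.TwBNF4.exists_bnPair_F4' FD α hα
    (Cfsg.Agent.Helper18.TwFixF4.hfixX FD α hα)
  exact ⟨P, hB, hN⟩

end Cfsg.Agent.S1089
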