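import Cfsg.Statements.S1099
import Cfsg.Agent.Lib.Helper6.G2Char3C

set_option autoImplicit false
open Cfsg

namespace Cfsg.Agent.S1099

/-- Graph automorphism of G₂ in characteristic 3 (K perfect): `x_a(t) ↦ x_b(t³)`, `x_b(t) ↦ x_a(t)`, `x_{-a}(t) ↦ x_{-b}(t³)`, `x_{-b}(t) ↦ x_{-a}(t)` extend to an automorphism of the group. -/
theorem result {K : Type*} [Field K] [CharP K 3] (hperf : ∀ x : K, ∃ y : K, y ^ 3 = x) :
    ∃ α : ↥(Cfsg.Lie.chevG2.group K) ≃* ↥(Cfsg.Lie.chevG2.group K), ∀ (g : ↥(Cfsg.Lie.chevG2.group K)) (t : K),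
      (((g : GL Cfsg.Lie.chevG2.Idx K) : Matrix _ _ K) = Cfsg.Lie.chevG2.x K Cfsg.Lie.g2a t →
        ((α g : GL Cfsg.Lie.chevG2.Idx K) : Matrix _ _ K) = Cfsg.Lie.chevG2.x K Cfsg.Lie.g2b (t ^ 3)) ∧
      (((g : GL Cfsg.Lie.chevG2.Idx K) : Matrix _ _ K) = Cfsg.Lie.chevG2.x K Cfsg.Lie.g2b t →
        ((α g : GL Cfsg.Lie.chevG2.Idx K) : Matrix _ _ K) = Cfsg.Lie.chevG2.x K Cfsg.Lie.g2a t) ∧
      (((g : GL Cfsg.Lie.chevG2.Idx K) : Matrix _ _ K) = Cfsg.Lie.chevG2.x K Cfsg.Lie.g2ma t →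
        ((α g : GL Cfsg.Lie.chevG2.Idx K) : Matrix _ _ K) = Cfsg.Lie.chevG2.x K Cfsg.Lie.g2mb (t ^ 3)) ∧
      (((g : GL Cfsg.Lie.chevG2.Idx K) : Matrix _ _ K) = Cfsg.Lie.chevG2.x K Cfsg.Lie.g2mb t →
        ((α g : GL Cfsg.Lie.chevG2.Idx K) : Matrix _ _ K) = Cfsg.Lie.chevG2.x K Cfsg.Lie.g2ma t) := by

  obtain ⟨α, hα⟩ := Cfsg.Agent.Helper6.G2C3.exists_graph_aut hperf
  refine ⟨α, fun g t => ⟨?_, ?_, ?_, ?_⟩⟩
  · exact Cfsg.Agent.Helper6.G2C3.aut_apply α hα 7 (by decide) 6 (fun t => t ^ 3) (by decide)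
      (fun t => by simp [Cfsg.Agent.Helper6.G2C3.isShort]) g t
  · exact Cfsg.Agent.Helper6.G2C3.aut_apply α hα 6 (by decide) 7 (fun t => t) (by decide)
      (fun t => by simp [Cfsg.Agent.Helper6.G2C3.isShort]) g t
  · exact Cfsg.Agent.Helper6.G2C3.aut_apply α hα 4 (by decide) 5 (fun t => t ^ 3) (by decide)
      (fun t => by simp [Cfsg.Agent.Helper6.G2C3.isShort]) g t
  · exact Cfsg.Agent.Helper6.G2C3.aut_apply α hα 5 (by decide) 4 (fun t => t) (by decide)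
      (fun t => by simp [Cfsg.Agent.Helper6.G2C3.isShort]) g t

end Cfsg.Agent.S1099
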