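import Cfsg.Statements.S1118
import Cfsg.Agent.Lib.Helper19.RankOne

set_option autoImplicit false
open Cfsg

namespace Cfsg.Agent.S1118

open Cfsg.Agent.Helper19 MulAction

/-- In the rank-one set-up (`G` finite and doubly transitive on `Ω`, `t` an involution moving `a`, `Q` normal in `G_a` with `G_a = Q D`, `Q ⊓ D = 1` for the two-point stabiliser `D = G_a ⊓ G_{t • a}`, `|Q|` even, `|D|` odd), the normaliser of a subset of `Q` containing a non-identity element lies in `G_a`; consequently `N_G(Q) = N_G(G_a) = G_a`. -/
theorem result {G Ω : Type*} [Group G] [Finite G] [MulAction G Ω] {a : Ω} {t : G} {Q : Subgroup G}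
    (hS : Cfsg.IsRankOneSetup G Ω a t Q) :
    (∀ X : Set G, X ⊆ (Q : Set G) → (∃ x ∈ X, x ≠ 1) → Subgroup.normalizer X ≤ MulAction.stabilizer G a) ∧
      Subgroup.normalizer (Q : Set G) = MulAction.stabilizer G a ∧
      Subgroup.normalizer (MulAction.stabilizer G a : Set G) = MulAction.stabilizer G a := by
  have key : ∀ X : Set G, X ⊆ (Q : Set G) → (∃ x ∈ X, x ≠ 1) →
      Subgroup.normalizer X ≤ MulAction.stabilizer G a := by
    intro X hXQ ⟨x, hxX, hx1⟩ g hg
    rw [Subgroup.mem_set_normalizer_iff] at hg
    have h1 : g * x * g⁻¹ ∈ Q := hXQ ((hg x).mp hxX)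
    have h2 : g * x * g⁻¹ ≠ 1 := by
      intro h
      apply hx1
      have : x = g⁻¹ * (g * x * g⁻¹) * g := by group
      rw [this, h]; group
    have h3 : (g * x * g⁻¹) • (g • a) = g • a := by
      rw [mul_smul, inv_smul_smul, mul_smul, Q_fix_a hS (hXQ hxX)]
    exact fix_eq hS h1 h2 h3
  refine ⟨key, ?_, ?_⟩
  · apply le_antisymm
    · exact key _ (le_refl _) (by obtain ⟨x, hx, hx1⟩ := exists_ne_one hS; exact ⟨x, hx, hx1⟩)
    · intro g hg
      rw [Subgroup.mem_normalizer_iff]
      intro n
      exact stab_conj hS hg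
  · apply le_antisymm
    · intro g hg
      rw [Subgroup.mem_normalizer_iff] at hg
      obtain ⟨x, hx, hx1⟩ := exists_ne_one hS
      have h1 : g⁻¹ * x * g ∈ stabilizer G a := by
        have := (hg (g⁻¹ * x * g)).mpr (by
          have : g * (g⁻¹ * x * g) * g⁻¹ = x := by group
          rw [this]; exact hS.le hx)
        exact this
      have h2 : x • (g • a) = g • a := by
        have h3 : (g⁻¹ * x * g) • a = a := h1
        rw [mul_smul, mul_smul] at h3
        have := congrArg (fun y => g • y) h3
        simpa using this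
      exact fix_eq hS hx hx1 h2
    · intro g hg
      rw [Subgroup.mem_normalizer_iff]
      intro n
      constructor
      · intro hn; exact mul_mem (mul_mem hg hn) (inv_mem hg)
      · intro hn
        have := mul_mem (mul_mem (inv_mem hg) hn) hg
        simpa [mul_assoc] using this

end Cfsg.Agent.S1118
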