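import Cfsg.Statements.S1119
import Cfsg.Agent.Lib.Helper19.RankOne

set_option autoImplicit false
open Cfsg

namespace Cfsg.Agent.S1119

open Cfsg.Agent.Helper19 MulAction

theorem sylow_le {G Ω : Type*} [Group G] [Finite G] [MulAction G Ω] {a : Ω} {t : G} {Q : Subgroup G}
    (hS : Cfsg.IsRankOneSetup G Ω a t Q) : ∃ P : Sylow 2 G, (P : Subgroup G) ≤ Q := by
  have : Fact (Nat.Prime 2) := ⟨Nat.prime_two⟩
  obtain ⟨P₀⟩ : Nonempty (Sylow 2 Q) := inferInstance
  have hcard : Nat.card (P₀.map Q.subtype : Subgroup G) = 2 ^ (Nat.card G).factorization 2 := by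
    have h1 : Nat.card ((P₀ : Subgroup Q).map Q.subtype : Subgroup G) = Nat.card (P₀ : Subgroup Q) :=
      Subgroup.card_map_of_injective Q.subtype_injective
    rw [h1, P₀.card_eq_multiplicity]
    congr 1
    rw [card_G hS]
    have hQ : Nat.card Q ≠ 0 := Nat.card_pos.ne'
    have hD : Nat.card ↥(stabilizer G a ⊓ stabilizer G (t • a)) ≠ 0 := Nat.card_pos.ne'
    rw [Nat.factorization_mul (mul_ne_zero hQ hD) (by omega), Nat.factorization_mul hQ hD]
    have h2 : (Nat.card ↥(stabilizer G a ⊓ stabilizer G (t • a))).factorization 2 = 0 := by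
      apply Nat.factorization_eq_zero_of_not_dvd
      intro h
      have := hS.odd_card
      rw [← Nat.not_even_iff_odd] at this
      exact this (even_iff_two_dvd.mpr h)
    have h3 : (Nat.card Q + 1).factorization 2 = 0 := by
      apply Nat.factorization_eq_zero_of_not_dvd
      intro h
      have h4 := hS.even_card
      rw [even_iff_two_dvd] at h4
      omega
    rw [Finsupp.add_apply, Finsupp.add_apply, h2, h3, add_zero, add_zero]
  refine ⟨Sylow.ofCard _ hcard, ?_⟩
  rw [Sylow.coe_ofCard]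
  exact Subgroup.map_subtype_le _

/-- In the rank-one set-up (`G` finite and doubly transitive on `Ω`, `t` an involution moving `a`, `Q` normal in `G_a` with `G_a = Q D`, `Q ⊓ D = 1` for the two-point stabiliser `D = G_a ⊓ G_{t • a}`, `|Q|` even, `|D|` odd): `Q` acts regularly on `Ω` minus `a`; hence `|Ω| = |Q| + 1`, `|G| = |Q| |D| (|Q| + 1)`, some Sylow 2-subgroup of `G` lies in `Q`, and each `g ∉ G_a` is uniquely `x t y` with `x ∈ G_a`, `y ∈ Q` (canonical form). -/
theorem result {G Ω : Type*} [Group G] [Finite G] [MulAction G Ω] {a : Ω} {t : G} {Q : Subgroup G}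
    (hS : Cfsg.IsRankOneSetup G Ω a t Q) :
    (∀ b c : Ω, b ≠ a → c ≠ a → ∃! x : Q, (x : G) • b = c) ∧
      Nat.card Ω = Nat.card Q + 1 ∧
      Nat.card G = Nat.card Q * Nat.card ↥(MulAction.stabilizer G a ⊓ MulAction.stabilizer G (t • a)) * (Nat.card Q + 1) ∧
      (∃ P : Sylow 2 G, (P : Subgroup G) ≤ Q) ∧
      ∀ g : G, g ∉ MulAction.stabilizer G a → ∃! p : G × G, p.1 ∈ MulAction.stabilizer G a ∧ p.2 ∈ Q ∧ g = p.1 * t * p.2 := by
  refine ⟨?_, card_Omega hS, card_G hS, sylow_le hS, ?_⟩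
  · intro b c hb hc
    obtain ⟨x, hx, hxb⟩ := exists_Q_smul hS hb hc
    refine ⟨⟨x, hx⟩, hxb, ?_⟩
    rintro ⟨y, hy⟩ hyb
    apply Subtype.ext
    exact Q_smul_unique hS hb hy hx (by rw [hxb]; exact hyb)
  · intro g hg
    have htinv : t⁻¹ = t := inv_eq_of_mul_eq_one_left hS.mul_self
    have hg' : g⁻¹ • a ≠ a := by
      intro h
      apply hg
      rw [mem_stabilizer_iff]
      have := congrArg (fun y => g • y) h
      simpa using this.symm
    obtain ⟨z, hz, hza⟩ := exists_Q_smul hS (ta_ne hS) hg'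
    refine ⟨(g * z * t, z⁻¹), ⟨?_, inv_mem hz, ?_⟩, ?_⟩
    · rw [mem_stabilizer_iff, mul_smul, mul_smul, hza, smul_inv_smul]
    · have : g * z * t * t * z⁻¹ = g * z * (t * t) * z⁻¹ := by group
      rw [this, hS.mul_self]; group
    · rintro ⟨x, y⟩ ⟨hx, hy, hxy⟩
      simp only at hx hy hxy
      have h1 : y⁻¹ • (t • a) = g⁻¹ • a := by
        rw [hxy]
        have hx' : x⁻¹ • a = a := by
          have : x • a = a := hx
          rw [inv_smul_eq_iff, this]
        simp only [mul_inv_rev, mul_smul, hx', htinv]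
      have h2 : y⁻¹ = z := Q_smul_unique hS (ta_ne hS) (inv_mem hy) hz (by rw [h1, hza])
      have h3 : y = z⁻¹ := by rw [← h2, inv_inv]
      subst h3
      have h4 : x = g * z * t := by
        rw [hxy]
        have : x * t * z⁻¹ * z * t = x * (t * t) := by group
        rw [this, hS.mul_self, mul_one]
      rw [h4]

end Cfsg.Agent.S1119
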