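import Cfsg.Statements.S1120
import Cfsg.Agent.Lib.Helper19.RankOneInvol
import Cfsg.Agent.Lib.Helper19.Klein
import Cfsg.Agent.Lib.Helper48.CoprimeGen

set_option autoImplicit false
open Cfsg

namespace Cfsg.Agent.S1120

open Cfsg.Agent.Helper19 MulAction

/-- A normal subgroup of odd order lies in the point stabiliser, given two commuting involutions. -/
theorem normal_odd_le_stab {G Ω : Type*} [Group G] [Finite G] [MulAction G Ω] {a : Ω} {t : G} {Q : Subgroup G}
    (hS : Cfsg.IsRankOneSetup G Ω a t Q)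
    (h2 : ∃ x y : G, x ≠ 1 ∧ y ≠ 1 ∧ x ≠ y ∧ x * x = 1 ∧ y * y = 1 ∧ x * y = y * x)
    (N : Subgroup G) (hN : N.Normal) (hcop : (Nat.card N).Coprime 2) : N ≤ stabilizer G a := by
  obtain ⟨x, y, hx1, hy1, hxy, hx2, hy2, hcomm⟩ := h2
  -- common fixed point
  obtain ⟨c, hc⟩ := invol_exists_fix hS hx2
  have hyc : y • c = c := comm_invol_fix hS hx1 hx2 hc hcomm.symm
  have := isPretransitive hS
  obtain ⟨g, hg⟩ := MulAction.exists_smul_eq G c a
  -- conjugate into `G_a`
  have conj_sq : ∀ z : G, z * z = 1 → (g * z * g⁻¹) * (g * z * g⁻¹) = 1 := by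
    intro z hz
    have : (g * z * g⁻¹) * (g * z * g⁻¹) = g * (z * z) * g⁻¹ := by group
    rw [this, hz]; group
  have conj_ne : ∀ z : G, z ≠ 1 → g * z * g⁻¹ ≠ 1 := by
    intro z hz e
    apply hz
    have : z = g⁻¹ * (g * z * g⁻¹) * g := by group
    rw [this, e]; group
  have conj_fix : ∀ z : G, z • c = c → (g * z * g⁻¹) • a = a := by
    intro z hz
    rw [mul_smul, mul_smul, ← hg, inv_smul_smul, hz]
  have hcomm' : (g * x * g⁻¹) * (g * y * g⁻¹) = (g * y * g⁻¹) * (g * x * g⁻¹) := by
    have e1 : (g * x * g⁻¹) * (g * y * g⁻¹) = g * (x * y) * g⁻¹ := by group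
    have e2 : (g * y * g⁻¹) * (g * x * g⁻¹) = g * (y * x) * g⁻¹ := by group
    rw [e1, e2, hcomm]
  have hne' : g * x * g⁻¹ ≠ g * y * g⁻¹ := by
    intro e
    apply hxy
    have : x = g⁻¹ * (g * x * g⁻¹) * g := by group
    rw [this, e]; group
  set x' := g * x * g⁻¹ with hx'
  set y' := g * y * g⁻¹ with hy'
  have hx'2 := conj_sq x hx2
  have hy'2 := conj_sq y hy2
  have : Fact (Nat.Prime 2) := ⟨Nat.prime_two⟩
  apply Cfsg.Agent.Helper48.le_of_forall_inf_centralizer_le (p := 2)
    (kleinFour x' y' hx'2 hy'2 hcomm') N (stabilizer G a)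
    (kleinFour_comm hx'2 hy'2 hcomm') (kleinFour_sq hx'2 hy'2 hcomm')
    (kleinFour_card hx'2 hy'2 hcomm' (conj_ne x hx1) (conj_ne y hy1) hne')
  · intro z _
    rw [Subgroup.mem_normalizer_iff]
    intro h
    constructor
    · intro hh; exact hN.conj_mem h hh z
    · intro hh
      have := hN.conj_mem _ hh z⁻¹
      simpa [mul_assoc] using this
  · exact hcop
  · intro z hz hz1 n hn
    obtain ⟨hnN, hnc⟩ := Subgroup.mem_inf.mp hn
    have hzn : z * n = n * z := (Subgroup.mem_centralizer_iff.mp hnc) z (Set.mem_singleton z)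
    have hz2 : z * z = 1 := by
      have := kleinFour_sq hx'2 hy'2 hcomm' z hz
      rwa [pow_two] at this
    have hza : z • a = a := by
      rcases hz with rfl | rfl | rfl | rfl
      · exact one_smul _ _
      · exact conj_fix x hc
      · exact conj_fix y hyc
      · rw [mul_smul, conj_fix y hyc, conj_fix x hc]
    exact comm_invol_fix hS hz1 hz2 hza hzn.symm

/-- In the rank-one set-up (`G` finite and doubly transitive on `Ω`, `t` an involution moving `a`, `Q` normal in `G_a` with `G_a = Q D`, `Q ⊓ D = 1` for the two-point stabiliser `D = G_a ⊓ G_{t • a}`, `|Q|` even, `|D|` odd), if `G` has 2-rank at least 2 then `O_{2'}(G)` equals the normal core of `G_a`. -/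
theorem result {G Ω : Type*} [Group G] [Finite G] [MulAction G Ω] {a : Ω} {t : G} {Q : Subgroup G}
    (hS : Cfsg.IsRankOneSetup G Ω a t Q)
    (h2 : ∃ x y : G, x ≠ 1 ∧ y ≠ 1 ∧ x ≠ y ∧ x * x = 1 ∧ y * y = 1 ∧ x * y = y * x) :
    Cfsg.pPrimeCore 2 G = (MulAction.stabilizer G a).normalCore := by
  apply le_antisymm
  · unfold Cfsg.pPrimeCore
    apply sSup_le
    rintro N ⟨hN, hcop⟩
    have := normal_odd_le_stab hS h2 N hN hcop
    exact (Subgroup.normal_le_normalCore (hN := hN)).mpr this
  · unfold Cfsg.pPrimeCore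
    apply le_sSup
    refine ⟨Subgroup.normalCore_normal _, ?_⟩
    -- the core lies in `D`, of odd order
    have hle : (stabilizer G a).normalCore ≤ stabilizer G a ⊓ stabilizer G (t • a) := by
      intro n hn
      have h1 : n ∈ stabilizer G a := Subgroup.normalCore_le _ hn
      have h2' : t⁻¹ * n * t ∈ (stabilizer G a).normalCore := by
        have := (Subgroup.normalCore_normal (stabilizer G a)).conj_mem n hn t⁻¹
        simpa using this
      have h3 : t⁻¹ * n * t ∈ stabilizer G a := Subgroup.normalCore_le _ h2'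
      refine Subgroup.mem_inf.mpr ⟨h1, ?_⟩
      rw [mem_stabilizer_iff] at h3 ⊢
      rw [mul_smul, mul_smul] at h3
      have := congrArg (fun z => t • z) h3
      simpa using this
    have hdvd : Nat.card (stabilizer G a).normalCore ∣
        Nat.card ↥(stabilizer G a ⊓ stabilizer G (t • a)) := Subgroup.card_dvd_of_le hle
    have hodd : Odd (Nat.card (stabilizer G a).normalCore) := by
      obtain ⟨k, hk⟩ := hdvd
      have := hS.odd_card
      rw [hk] at this
      exact (Nat.odd_mul.mp this).1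
    exact Nat.coprime_two_right.mpr hodd

end Cfsg.Agent.S1120
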