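import Cfsg.Statements.S1125
import Cfsg.Agent.Lib.Helper19.RankOneFix

set_option autoImplicit false
open Cfsg

namespace Cfsg.Agent.S1125

open Cfsg.Agent.Helper19 MulAction

/-- In the rank-one set-up (`G` finite and doubly transitive on `Ω`, `t` an involution moving `a`, `Q` normal in `G_a` with `G_a = Q D`, `Q ⊓ D = 1` for the two-point stabiliser `D = G_a ⊓ G_{t • a}`, `|Q|` even, `|D|` odd), let `X ⊆ D` fix at least three points of `Ω`. Then `C_G(X)` is doubly transitive on the fixed-point set of `X`, `|C_Q(X)|` is even, and `C_{G_a}(X) = C_Q(X) C_D(X)`. -/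
theorem result {G Ω : Type*} [Group G] [Finite G] [MulAction G Ω] {a : Ω} {t : G} {Q : Subgroup G}
    (hS : Cfsg.IsRankOneSetup G Ω a t Q)
    (X : Set G) (hX : X ⊆ ((MulAction.stabilizer G a ⊓ MulAction.stabilizer G (t • a)) : Set G))
    (h3 : ∃ b c d : Ω, b ≠ c ∧ b ≠ d ∧ c ≠ d ∧ ∀ x ∈ X, x • b = b ∧ x • c = c ∧ x • d = d) :
    (∀ b₁ b₂ c₁ c₂ : Ω, (∀ x ∈ X, x • b₁ = b₁ ∧ x • b₂ = b₂ ∧ x • c₁ = c₁ ∧ x • c₂ = c₂) →
        b₁ ≠ b₂ → c₁ ≠ c₂ → ∃ g ∈ Subgroup.centralizer X, g • b₁ = c₁ ∧ g • b₂ = c₂) ∧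
      Even (Nat.card ↥(Subgroup.centralizer X ⊓ Q)) ∧
      (Subgroup.centralizer X ⊓ Q) ⊔ (Subgroup.centralizer X ⊓ (MulAction.stabilizer G a ⊓ MulAction.stabilizer G (t • a))) = Subgroup.centralizer X ⊓ MulAction.stabilizer G a := by
  have ha : ∀ x ∈ X, x • a = a := fun x hx => (hX hx).1
  have hb : ∀ x ∈ X, x • (t • a) = t • a := fun x hx => (hX hx).2
  refine ⟨?_, ?_, ?_⟩
  · intro b₁ b₂ c₁ c₂ hfix hb12 hc12
    exact cent_two_trans hS h3 (fun x hx => (hfix x hx).1) (fun x hx => (hfix x hx).2.1)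
      (fun x hx => (hfix x hx).2.2.1) (fun x hx => (hfix x hx).2.2.2) hb12 hc12
  · obtain ⟨s, hs, hs1, hs2⟩ := exists_invol_cent hS ha h3
    exact even_card_of_invol hs hs1 hs2
  · apply le_antisymm
    · apply sup_le
      · exact inf_le_inf_left _ hS.le
      · exact inf_le_inf_left _ inf_le_left
    · intro g hg
      obtain ⟨hgc, hga⟩ := Subgroup.mem_inf.mp hg
      have hga' : g • a = a := hga
      have hgb : ∀ x ∈ X, x • (g • (t • a)) = g • (t • a) := by
        intro x hx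
        rw [← mul_smul, (Subgroup.mem_centralizer_iff.mp hgc) x hx, mul_smul, hb x hx]
      have hne : g • (t • a) ≠ a := by
        intro e
        have e' : g • (t • a) = g • a := by rw [e, hga']
        exact ta_ne hS (smul_left_cancel _ e')
      obtain ⟨r', hr', hr'b⟩ := exists_Q_smul hS (ta_ne hS) hne
      -- compare `r` and `r'`: `r'⁻¹ r ∈ D`
      -- instead, decompose `g = r' * (r'⁻¹ g)` with `r'` in the centralizer
      have hr'c : r' ∈ Subgroup.centralizer X := by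
        rw [Subgroup.mem_centralizer_iff]
        intro x hx
        have hxa : x ∈ stabilizer G a := ha x hx
        have h1 : x * r' * x⁻¹ ∈ Q := hS.conj_mem x hxa r' hr'
        have hxinv : x⁻¹ • (t • a) = t • a := by rw [inv_smul_eq_iff, hb x hx]
        have h2 : (x * r' * x⁻¹) • (t • a) = r' • (t • a) := by
          rw [mul_smul, mul_smul, hxinv, hr'b, hgb x hx]
        have h3 := Q_smul_unique hS (ta_ne hS) h1 hr' h2
        have : x * r' = (x * r' * x⁻¹) * x := by group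
        rw [this, h3]
      have hdec : g = r' * (r'⁻¹ * g) := by group
      rw [hdec]
      apply Subgroup.mul_mem_sup
      · exact Subgroup.mem_inf.mpr ⟨hr'c, hr'⟩
      · refine Subgroup.mem_inf.mpr ⟨mul_mem (inv_mem hr'c) hgc, Subgroup.mem_inf.mpr ⟨?_, ?_⟩⟩
        · rw [mem_stabilizer_iff, mul_smul, hga', inv_smul_eq_iff, Q_fix_a hS hr']
        · rw [mem_stabilizer_iff, mul_smul, inv_smul_eq_iff, hr'b]

end Cfsg.Agent.S1125
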