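import Cfsg.Statements.S1127
import Cfsg.Agent.Lib.Helper19.RankOneCent

set_option autoImplicit false
open Cfsg

namespace Cfsg.Agent.S1127

open Cfsg.Agent.Helper19 MulAction

/-- In the rank-one set-up (`G` finite and doubly transitive on `Ω`, `t` an involution moving `a`, `Q` normal in `G_a` with `G_a = Q D`, `Q ⊓ D = 1` for the two-point stabiliser `D = G_a ⊓ G_{t • a}`, `|Q|` even, `|D|` odd): if `s` is an involution of `G_a` and `r ∈ Q` satisfy `t s t = r⁻¹ t r`, then `C_D(t) = C_D(s)`; moreover `C_D(t) ⊓ C_D(K) = C_D(I ∩ G_a)`, where `K` is the set of elements of `D` inverted by `t` and `I ∩ G_a` the set of involutions of `G_a`. -/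
theorem result {G Ω : Type*} [Group G] [Finite G] [MulAction G Ω] {a : Ω} {t : G} {Q : Subgroup G}
    (hS : Cfsg.IsRankOneSetup G Ω a t Q) :
    (∀ s r : G, s ∈ Cfsg.involutionsIn (MulAction.stabilizer G a : Set G) → r ∈ Q → t * s * t = r⁻¹ * t * r →
        (MulAction.stabilizer G a ⊓ MulAction.stabilizer G (t • a)) ⊓ Subgroup.centralizer {t} = (MulAction.stabilizer G a ⊓ MulAction.stabilizer G (t • a)) ⊓ Subgroup.centralizer {s}) ∧
      (MulAction.stabilizer G a ⊓ MulAction.stabilizer G (t • a)) ⊓ Subgroup.centralizer {t} ⊓ Subgroup.centralizer (Cfsg.invertedBy (MulAction.stabilizer G a ⊓ MulAction.stabilizer G (t • a)) t) =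
        (MulAction.stabilizer G a ⊓ MulAction.stabilizer G (t • a)) ⊓ Subgroup.centralizer (Cfsg.involutionsIn (MulAction.stabilizer G a : Set G)) := by
  refine ⟨fun s r hs hr h => cent_t_eq_cent_s hS hs hr h, ?_⟩
  have ht2 := hS.mul_self
  have htinv : t⁻¹ = t := inv_eq_self_of_mul_self ht2
  obtain ⟨s₀, r₀, hs₀, hr₀, h₀⟩ := pair_exists hS
  apply le_antisymm
  · intro d hd
    obtain ⟨hd1, hdK⟩ := Subgroup.mem_inf.mp hd
    have hdD := (Subgroup.mem_inf.mp hd1).1
    refine Subgroup.mem_inf.mpr ⟨hdD, ?_⟩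
    rw [Subgroup.mem_centralizer_iff]
    intro s' hs'
    have hc₀ : s₀ * d = d * s₀ := cent_t_le_cent_s hS hs₀ hr₀ h₀ hd1
    obtain ⟨k, hk, hks⟩ := inverted_trans hS hs₀ hs'
    have hkd : k * d = d * k := (Subgroup.mem_centralizer_iff.mp hdK) k hk
    have hkd' : k⁻¹ * d = d * k⁻¹ := by
      have : k⁻¹ * d = k⁻¹ * (d * k) * k⁻¹ := by group
      rw [this, ← hkd]; group
    rw [← hks]
    have e1 : k⁻¹ * s₀ * k * d = k⁻¹ * s₀ * (k * d) := by group
    rw [e1, hkd]
    have e2 : k⁻¹ * s₀ * (d * k) = k⁻¹ * (s₀ * d) * k := by group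
    rw [e2, hc₀]
    have e3 : k⁻¹ * (d * s₀) * k = (k⁻¹ * d) * s₀ * k := by group
    rw [e3, hkd']
    group
  · intro d hd
    obtain ⟨hdD, hdI⟩ := Subgroup.mem_inf.mp hd
    have hcomm : ∀ s' ∈ Cfsg.involutionsIn (stabilizer G a : Set G), s' * d = d * s' :=
      fun s' hs' => (Subgroup.mem_centralizer_iff.mp hdI) s' hs'
    have hdt : d ∈ (stabilizer G a ⊓ stabilizer G (t • a)) ⊓ Subgroup.centralizer {t} := by
      rw [cent_t_eq_cent_s hS hs₀ hr₀ h₀]
      refine Subgroup.mem_inf.mpr ⟨hdD, ?_⟩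
      rw [Subgroup.mem_centralizer_iff]
      intro y hy
      rw [Set.mem_singleton_iff] at hy
      rw [hy]
      exact hcomm s₀ hs₀
    refine Subgroup.mem_inf.mpr ⟨hdt, ?_⟩
    have htd : t * d = d * t :=
      (Subgroup.mem_centralizer_iff.mp (Subgroup.mem_inf.mp hdt).2) t (Set.mem_singleton t)
    rw [Subgroup.mem_centralizer_iff]
    intro k hk
    have hka : k • a = a := hk.1.1
    have hu2 : (t * k) * (t * k) = 1 := by
      have h := hk.2
      rw [htinv] at h
      have : (t * k) * (t * k) = (t * k * t) * k := by group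
      rw [this, h, inv_mul_cancel]
    have hua : (t * k) • a = t • a := by rw [mul_smul, hka]
    have hS' := setup_of_swap hS hu2 hua
    obtain ⟨s', r', hs', hr', h'⟩ := pair_exists hS'
    have hd' : d ∈ (stabilizer G a ⊓ stabilizer G ((t * k) • a)) ⊓ Subgroup.centralizer {t * k} := by
      rw [cent_t_eq_cent_s hS' hs' hr' h', hua]
      refine Subgroup.mem_inf.mpr ⟨hdD, ?_⟩
      rw [Subgroup.mem_centralizer_iff]
      intro y hy
      rw [Set.mem_singleton_iff] at hy
      rw [hy]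
      exact hcomm s' hs'
    have htkd : (t * k) * d = d * (t * k) :=
      (Subgroup.mem_centralizer_iff.mp (Subgroup.mem_inf.mp hd').2) (t * k) (Set.mem_singleton _)
    have e1 : k * d = t⁻¹ * ((t * k) * d) := by group
    rw [e1, htkd]
    have e2 : t⁻¹ * (d * (t * k)) = t⁻¹ * (d * t) * k := by group
    rw [e2, ← htd]
    group

end Cfsg.Agent.S1127
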