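import Cfsg.Statements.S1134
import Cfsg.Agent.Lib.Helper19.RankOneFPF

set_option autoImplicit false
open Cfsg

namespace Cfsg.Agent.S1134

open Cfsg.Agent.Helper19 MulAction

theorem fusion {G Ω : Type*} [Group G] [Finite G] [MulAction G Ω] {a : Ω} {t : G} {Q : Subgroup G}
    (hS : Cfsg.IsRankOneSetup G Ω a t Q)
    (X : Set G) (hX : X ⊆ (((stabilizer G a ⊓ stabilizer G (t • a)) ⊓ Subgroup.centralizer {t} : Subgroup G) : Set G)) (g : G)
    (hY : (fun x => g * x * g⁻¹) '' X ⊆ (((stabilizer G a ⊓ stabilizer G (t • a)) ⊓ Subgroup.centralizer {t} : Subgroup G) : Set G)) :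
    ∃ v ∈ (stabilizer G a ⊓ stabilizer G (t • a)) ⊓ Subgroup.centralizer {t},
      ∀ x ∈ X, v * x * v⁻¹ = g * x * g⁻¹ := by
  have ht2 := hS.mul_self
  have htinv : t⁻¹ = t := inv_eq_self_of_mul_self ht2
  obtain ⟨c₀, hc₀⟩ := invol_exists_fix hS ht2
  have hc₀a : c₀ ≠ a := by
    intro h
    rw [h] at hc₀
    exact ta_ne hS hc₀
  have hc₀b : c₀ ≠ t • a := by
    intro h
    rw [h, t_smul_ta hS] at hc₀
    exact ta_ne hS hc₀.symm
  have hXa : ∀ x ∈ X, x • a = a := fun x hx => (hX hx).1.1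
  have hXb : ∀ x ∈ X, x • (t • a) = t • a := fun x hx => (hX hx).1.2
  have hXt : ∀ x ∈ X, t * x = x * t := fun x hx =>
    (Subgroup.mem_centralizer_iff.mp (hX hx).2) t (Set.mem_singleton t)
  have hXc : ∀ x ∈ X, x • c₀ = c₀ := fun x hx =>
    comm_invol_fix hS hS.ne_one ht2 hc₀ (hXt x hx).symm
  have h3 : ∃ b c d : Ω, b ≠ c ∧ b ≠ d ∧ c ≠ d ∧ ∀ x ∈ X, x • b = b ∧ x • c = c ∧ x • d = d :=
    ⟨a, t • a, c₀, Ne.symm (ta_ne hS), Ne.symm hc₀a, Ne.symm hc₀b,
      fun x hx => ⟨hXa x hx, hXb x hx, hXc x hx⟩⟩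
  have hYmem : ∀ x ∈ X, g * x * g⁻¹ ∈
      ((stabilizer G a ⊓ stabilizer G (t • a)) ⊓ Subgroup.centralizer {t} : Subgroup G) :=
    fun x hx => hY ⟨x, hx, rfl⟩
  have hXga : ∀ x ∈ X, x • (g⁻¹ • a) = g⁻¹ • a := by
    intro x hx
    have h1 : (g * x * g⁻¹) • a = a := (hYmem x hx).1.1
    rw [mul_smul, mul_smul] at h1
    exact eq_inv_smul_iff.mpr h1
  have hXgb : ∀ x ∈ X, x • (g⁻¹ • (t • a)) = g⁻¹ • (t • a) := by
    intro x hx
    have h1 : (g * x * g⁻¹) • (t • a) = t • a := (hYmem x hx).1.2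
    rw [mul_smul, mul_smul] at h1
    exact eq_inv_smul_iff.mpr h1
  have hne : g⁻¹ • a ≠ g⁻¹ • (t • a) := by
    intro e
    exact ta_ne hS (smul_left_cancel _ e).symm
  obtain ⟨h, hh, hha, hhb⟩ := cent_two_trans hS h3 hXa hXb hXga hXgb (Ne.symm (ta_ne hS)) hne
  -- `d = g h ∈ D` conjugates like `g`
  have hdD : g * h ∈ stabilizer G a ⊓ stabilizer G (t • a) := by
    refine Subgroup.mem_inf.mpr ⟨?_, ?_⟩
    · rw [mem_stabilizer_iff, mul_smul, hha, smul_inv_smul]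
    · rw [mem_stabilizer_iff, mul_smul, hhb, smul_inv_smul]
  have hdx : ∀ x ∈ X, (g * h) * x * (g * h)⁻¹ = g * x * g⁻¹ := by
    intro x hx
    have := (Subgroup.mem_centralizer_iff.mp hh) x hx
    have e : (g * h) * x * (g * h)⁻¹ = g * (h * x) * h⁻¹ * g⁻¹ := by group
    rw [e, ← this]; group
  set d := g * h with hd
  -- the involution `t' = d t d⁻¹` swaps `a` and `t • a`
  have hdinv_a : d⁻¹ • a = a := by
    have : d • a = a := hdD.1
    rw [inv_smul_eq_iff, this]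
  have ht'2 : (d * t * d⁻¹) * (d * t * d⁻¹) = 1 := by
    have : (d * t * d⁻¹) * (d * t * d⁻¹) = d * (t * t) * d⁻¹ := by group
    rw [this, ht2]; group
  have ht'a : (d * t * d⁻¹) • a = t • a := by
    rw [mul_smul, mul_smul, hdinv_a]
    exact hdD.2
  obtain ⟨m, hm, hmt, hmm⟩ := swap_invol_conj hS ht'2 ht'a
  -- every `y = d x d⁻¹` commutes with `m`
  obtain ⟨j, hj⟩ := hS.odd_card
  have hmpow : (m * m) ^ (j + 1) = m := sq_pow_eq hj hm.1
  have hym : ∀ x ∈ X, Commute (d * x * d⁻¹) m := by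
    intro x hx
    have c1 : Commute (d * x * d⁻¹) t := by
      have := (Subgroup.mem_centralizer_iff.mp (hYmem x hx).2) t (Set.mem_singleton t)
      rw [← hdx x hx] at this
      exact this.symm
    have c2 : Commute (d * x * d⁻¹) (d * t * d⁻¹) := by
      have := hXt x hx
      show d * x * d⁻¹ * (d * t * d⁻¹) = d * t * d⁻¹ * (d * x * d⁻¹)
      have e1 : d * x * d⁻¹ * (d * t * d⁻¹) = d * (x * t) * d⁻¹ := by group
      have e2 : d * t * d⁻¹ * (d * x * d⁻¹) = d * (t * x) * d⁻¹ := by group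
      rw [e1, e2, this]
    have c3 : Commute (d * x * d⁻¹) (m * m) := by
      rw [hmm]
      exact c1.mul_right c2
    rw [← hmpow]
    exact c3.pow_right _
  refine ⟨m * d, Subgroup.mem_inf.mpr ⟨?_, ?_⟩, ?_⟩
  · exact mul_mem hm.1 hdD
  · rw [Subgroup.mem_centralizer_iff]
    intro y hy
    rw [Set.mem_singleton_iff] at hy
    rw [hy]
    -- `t (m d) = (m d) t` since `m d t d⁻¹ m⁻¹ = t`
    have e1 : (m * d) * t * (m * d)⁻¹ = m * (d * t * d⁻¹) * m⁻¹ := by group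
    have e2 : (m * d) * t * (m * d)⁻¹ = t := by
      rw [e1, ← hmt]; group
    have e3 : m * d * t = (m * d) * t * (m * d)⁻¹ * (m * d) := by group
    rw [e3, e2]
  · intro x hx
    have e1 : (m * d) * x * (m * d)⁻¹ = m * (d * x * d⁻¹) * m⁻¹ := by group
    rw [e1, ← (hym x hx).eq, ← hdx x hx]; group

/-- In the rank-one set-up (`G` finite and doubly transitive on `Ω`, `t` an involution moving `a`, `Q` normal in `G_a` with `G_a = Q D`, `Q ⊓ D = 1` for the two-point stabiliser `D = G_a ⊓ G_{t • a}`, `|Q|` even, `|D|` odd), with the action faithful and `G` containing two distinct commuting involutions, with `V = C_D(t)`: subsets of `V` conjugate in `G` are conjugate in `V`. -/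
theorem result {G Ω : Type*} [Group G] [Finite G] [MulAction G Ω] [FaithfulSMul G Ω] {a : Ω} {t : G} {Q : Subgroup G}
    (hS : Cfsg.IsRankOneSetup G Ω a t Q)
    (h2 : ∃ x y : G, x ≠ 1 ∧ y ≠ 1 ∧ x ≠ y ∧ x * x = 1 ∧ y * y = 1 ∧ x * y = y * x)
    (X : Set G) (hX : X ⊆ (((MulAction.stabilizer G a ⊓ MulAction.stabilizer G (t • a)) ⊓ Subgroup.centralizer {t} : Subgroup G) : Set G)) (g : G)
    (hY : (fun x => g * x * g⁻¹) '' X ⊆ (((MulAction.stabilizer G a ⊓ MulAction.stabilizer G (t • a)) ⊓ Subgroup.centralizer {t} : Subgroup G) : Set G)) :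
    ∃ v ∈ (MulAction.stabilizer G a ⊓ MulAction.stabilizer G (t • a)) ⊓ Subgroup.centralizer {t}, (fun x => v * x * v⁻¹) '' X = (fun x => g * x * g⁻¹) '' X := by
  obtain ⟨v, hv, hvx⟩ := fusion hS X hX g hY
  exact ⟨v, hv, Set.image_congr hvx⟩

end Cfsg.Agent.S1134
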