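import Cfsg.Statements.S1139
import Mathlib
import Cfsg.Agent.S1137
import Cfsg.Agent.Lib.Helper87.TypeA
import Cfsg.Agent.Lib.Helper87.ExtIso
import Cfsg.Agent.Lib.Helper87.RegField
import Cfsg.Agent.Lib.Helper87.LinPoly

set_option autoImplicit false
set_option linter.style.haveILetI false
open Cfsg

namespace Cfsg.Agent.S1139

open Cfsg.Agent.Helper87

theorem exists_invol_pow {G : Type*} [Group G] [Finite G] (h2 : IsPGroup 2 G) (x : G)
    (hx : x ≠ 1) : ∃ m : ℕ, x ^ m ≠ 1 ∧ x ^ m * x ^ m = 1 := by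
  haveI : Fact (Nat.Prime 2) := ⟨Nat.prime_two⟩
  obtain ⟨j, hj⟩ := (IsPGroup.iff_orderOf.mp h2) x
  have hj0 : j ≠ 0 := by
    rintro rfl
    rw [pow_zero, orderOf_eq_one_iff] at hj
    exact hx hj
  obtain ⟨i, rfl⟩ := Nat.exists_eq_succ_of_ne_zero hj0
  refine ⟨2 ^ i, ?_, ?_⟩
  · apply pow_ne_one_of_lt_orderOf (by positivity)
    rw [hj]
    exact Nat.pow_lt_pow_right (by norm_num) (Nat.lt_succ_self i)
  · rw [← pow_add, ← two_mul, ← pow_succ', ← hj, pow_orderOf_eq_one]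

theorem comm_of_sq {G : Type*} [Group G] (h : ∀ a : G, a * a = 1) (a b : G) :
    a * b = b * a := by
  have h1 : (a * b) * (a * b) = (a * b) * (b * a) := by
    rw [h (a * b)]
    have h2 : a * b * (b * a) = a * (b * b) * a := by group
    rw [h2, h b, mul_one, h a]
  exact mul_left_cancel h1

set_option maxHeartbeats 1600000 in
theorem phaseI {P : Type*} [Group P] (hP : Cfsg.IsSuzukiTwoGroup P)
    (hcard : Nat.card P = Nat.card (Subgroup.center P) ^ 2)
    (F : Type*) [Field F] [Finite F] (hF : Nat.card F = Nat.card (Subgroup.center P)) :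
    ∃ (EV EQ : P → F) (eZ : Subgroup.center P → F) (θ : Fˣ → Fˣ),
      Function.Surjective EV ∧ (∀ x y, EV (x * y) = EV x + EV y) ∧
      (∀ x, EV x = 0 ↔ x ∈ Subgroup.center P) ∧
      Function.Bijective eZ ∧ (∀ a b, eZ (a * b) = eZ a + eZ b) ∧
      (∀ x, ∃ h : x * x ∈ Subgroup.center P, EQ x = eZ ⟨x * x, h⟩) ∧
      Function.Injective θ ∧ (∀ (u : Fˣ) (x y : P), EV y = u * EV x → EQ y = θ u * EQ x) ∧
      (∀ x, EQ x = 0 ↔ x ∈ Subgroup.center P) := by
  classical
  obtain ⟨hinv, hZ2⟩ := Cfsg.Agent.S1137.result hP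
  obtain ⟨hfin, h2, hna, ⟨i₁, i₂, hi12, hi1, hi1s, hi2, hi2s⟩, K, hKcyc, hreg⟩ := hP
  haveI := hfin
  haveI : Fact (Nat.Prime 2) := ⟨Nat.prime_two⟩
  -- `K` is commutative
  have hKc : ∀ k l : K, k * l = l * k := by
    obtain ⟨g, hg⟩ := hKcyc.exists_generator
    intro k l
    obtain ⟨m, rfl⟩ := Subgroup.mem_zpowers_iff.mp (hg k)
    obtain ⟨n, rfl⟩ := Subgroup.mem_zpowers_iff.mp (hg l)
    rw [← zpow_add, ← zpow_add, add_comm]
  -- `K` is semiregular on `P`
  have hsemi : ∀ (k : K) (x : P), x ≠ 1 → (k : MulAut P) x = x → k = 1 := by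
    intro k x hx hkx
    obtain ⟨m, hm1, hm2⟩ := exists_invol_pow h2 x hx
    have hk : (k : MulAut P) (x ^ m) = x ^ m := by rw [map_pow, hkx]
    obtain ⟨k0, -, huniq⟩ := hreg (x ^ m) (x ^ m) hm1 hm2 hm1 hm2
    rw [huniq k hk, ← huniq 1 (by simp)]
  have hi1Z : i₁ ∈ Subgroup.center P := ((hinv i₁).mp ⟨hi1, hi1s⟩).1
  let z₀ : Subgroup.center P := ⟨i₁, hi1Z⟩
  have hz₀ : z₀ ≠ 1 := fun h => hi1 (congrArg Subtype.val h)
  -- the action on the centre
  let actZ : K → Subgroup.center P → Subgroup.center P :=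
    fun k z => ⟨(k : MulAut P) z, Cfsg.Agent.S1137.center_map _ _ z.2⟩
  have hactZ1 : ∀ a, actZ 1 a = a := fun a => Subtype.ext (by simp [actZ])
  have hactZmul : ∀ k l a, actZ (k * l) a = actZ k (actZ l a) :=
    fun k l a => Subtype.ext (by simp [actZ])
  have hactZhom : ∀ k a b, actZ k (a * b) = actZ k a * actZ k b :=
    fun k a b => Subtype.ext (by simp [actZ])
  have hZc : ∀ a b : Subgroup.center P, a * b = b * a :=
    fun a b => Subtype.ext (Subgroup.mem_center_iff.mp b.2 a)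
  obtain ⟨eZ, χZ, heZ, hχZ, heZ0, heZadd, heZact⟩ :=
    RegField.exists_coords (A := Subgroup.center P) (K := K) (F := F)
      hZc hKc actZ hactZ1 hactZmul hactZhom z₀ hz₀
      (by
        intro a ha
        have ha1 : (a : P) ≠ 1 := fun h => ha (Subtype.ext h)
        have ha2 : (a : P) * a = 1 := hZ2 a a.2
        obtain ⟨k, hk, hu⟩ := hreg i₁ a hi1 hi1s ha1 ha2
        exact ⟨k, Subtype.ext hk, fun l hl => hu l (congrArg Subtype.val hl)⟩)
      hF.symm
  -- the action on the quotient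
  have hle : ∀ k : K, Subgroup.center P ≤
      (Subgroup.center P).comap ((k : MulAut P).toMonoidHom) :=
    fun k z hz => Cfsg.Agent.S1137.center_map _ z hz
  let actV : K → (P ⧸ Subgroup.center P) → (P ⧸ Subgroup.center P) :=
    fun k => QuotientGroup.map (Subgroup.center P) (Subgroup.center P)
      ((k : MulAut P).toMonoidHom) (hle k)
  have hactVmk : ∀ (k : K) (x : P), actV k (x : P ⧸ Subgroup.center P) =
      (((k : MulAut P) x : P) : P ⧸ Subgroup.center P) := fun k x => rfl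
  have hactV1 : ∀ a, actV 1 a = a := by
    intro a
    induction a using QuotientGroup.induction_on with
    | H x => rw [hactVmk]; simp
  have hactVmul : ∀ k l a, actV (k * l) a = actV k (actV l a) := by
    intro k l a
    induction a using QuotientGroup.induction_on with
    | H x => rw [hactVmk, hactVmk, hactVmk]; simp
  have hactVhom : ∀ k a b, actV k (a * b) = actV k a * actV k b := fun k a b => map_mul _ a b
  have hactVone : ∀ k, actV k 1 = 1 := fun k => map_one _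
  -- cardinalities
  have hZpos : 0 < Nat.card (Subgroup.center P) := Nat.card_pos
  have hcardV : Nat.card (P ⧸ Subgroup.center P) = Nat.card (Subgroup.center P) := by
    have h1 := Subgroup.card_eq_card_quotient_mul_card_subgroup (Subgroup.center P)
    rw [hcard, pow_two] at h1
    exact (Nat.eq_of_mul_eq_mul_right hZpos h1).symm
  have hcardK : Nat.card K + 1 = Nat.card (Subgroup.center P) := by
    rw [Nat.card_eq_of_bijective χZ hχZ, ← Nat.card_eq_card_units_add_one, hF]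
  -- `K` is semiregular on the quotient
  have hsemiV : ∀ (k : K) (v : P ⧸ Subgroup.center P), v ≠ 1 → actV k v = v → k = 1 := by
    intro k v
    induction v using QuotientGroup.induction_on with
    | H x =>
      intro hv hkv
      by_contra hk1
      have hxZ : x ∉ Subgroup.center P := fun h => hv ((QuotientGroup.eq_one_iff x).mpr h)
      rw [hactVmk] at hkv
      have hz : x⁻¹ * (k : MulAut P) x ∈ Subgroup.center P := QuotientGroup.eq.mp hkv.symm
      let μ : Subgroup.center P →* Subgroup.center P :=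
        MonoidHom.mk' (fun w => w * actZ k w) (by
          intro a b
          rw [hactZhom, mul_assoc, mul_assoc, ← mul_assoc b, hZc b (actZ k a), mul_assoc])
      have hμ : Function.Injective μ := by
        rw [injective_iff_map_eq_one]
        intro w hw
        by_contra hw1
        have hw' : (w : P) * (k : MulAut P) w = 1 := congrArg Subtype.val hw
        have hww : (w : P) * w = 1 := hZ2 w w.2
        have hkw : (k : MulAut P) w = w := mul_left_cancel (hw'.trans hww.symm)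
        exact hk1 (hsemi k w (fun h => hw1 (Subtype.ext h)) hkw)
      obtain ⟨w, hw⟩ := (Finite.injective_iff_surjective.mp hμ) ⟨_, hz⟩
      have hw' : (w : P) * (k : MulAut P) w = x⁻¹ * (k : MulAut P) x := congrArg Subtype.val hw
      have hkwZ : (k : MulAut P) w ∈ Subgroup.center P := Cfsg.Agent.S1137.center_map _ _ w.2
      have hkw2 : (k : MulAut P) w * (k : MulAut P) w = 1 := hZ2 _ hkwZ
      have hkx : (k : MulAut P) x = x * (w * (k : MulAut P) w) := by rw [hw']; group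
      have hfix : (k : MulAut P) (x * w) = x * w := by
        rw [map_mul, hkx, mul_assoc, mul_assoc, hkw2, mul_one]
      have hxw : x * (w : P) ≠ 1 := by
        intro h
        apply hxZ
        have : x = (w : P)⁻¹ := eq_inv_of_mul_eq_one_left h
        rw [this]
        exact (Subgroup.center P).inv_mem w.2
      exact hk1 (hsemi k _ hxw hfix)
  -- a base point of order two in the quotient
  have h2V : IsPGroup 2 (P ⧸ Subgroup.center P) := h2.to_quotient _
  have hVnt : Nontrivial (P ⧸ Subgroup.center P) := by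
    rw [← Finite.one_lt_card_iff_nontrivial, hcardV, Finite.one_lt_card_iff_nontrivial]
    exact ⟨⟨z₀, 1, hz₀⟩⟩
  obtain ⟨v₀, hv₀⟩ := exists_ne (1 : P ⧸ Subgroup.center P)
  obtain ⟨m, hm1, hm2⟩ := exists_invol_pow h2V v₀ hv₀
  set v₁ := v₀ ^ m with hv₁
  -- transitivity
  have hactVinj : ∀ k a, actV k a = 1 → a = 1 := by
    intro k a ha
    have h1 : actV k⁻¹ (actV k a) = a := by rw [← hactVmul, inv_mul_cancel, hactV1]
    rw [← h1, ha, hactVone]
  have hfree : ∀ k l : K, actV k v₁ = actV l v₁ → k = l := by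
    intro k l hkl
    have h1 : actV (l⁻¹ * k) v₁ = v₁ := by
      rw [hactVmul, hkl, ← hactVmul, inv_mul_cancel, hactV1]
    have h3 := hsemiV _ v₁ hm1 h1
    exact (inv_mul_eq_one.mp h3).symm
  let g : Option K → P ⧸ Subgroup.center P := fun o => Option.elim o 1 (fun k => actV k v₁)
  have hg : Function.Injective g := by
    rintro (_ | k) (_ | l) h
    · rfl
    · exfalso
      exact hm1 (hactVinj l v₁ h.symm)
    · exfalso
      exact hm1 (hactVinj k v₁ h)
    · exact congrArg some (hfree k l h)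
  have hgb : Function.Bijective g := hg.bijective_of_nat_card_le (by
    rw [Finite.card_option, hcardK, hcardV])
  have htrans : ∀ v : P ⧸ Subgroup.center P, v ≠ 1 → ∃! k, actV k v₁ = v := by
    intro v hv
    obtain ⟨o, ho⟩ := hgb.2 v
    rcases o with _ | k
    · exact absurd ho.symm hv
    · exact ⟨k, ho, fun l hl => hfree l k (hl.trans ho.symm)⟩
  have hexp : ∀ v : P ⧸ Subgroup.center P, v * v = 1 := by
    intro v
    by_cases hv : v = 1
    · rw [hv, mul_one]
    · obtain ⟨k, hk, -⟩ := htrans v hv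
      rw [← hk, ← hactVhom, hm2, hactVone]
  obtain ⟨eV, χV, heV, hχV, heV0, heVadd, heVact⟩ :=
    RegField.exists_coords (A := P ⧸ Subgroup.center P) (K := K) (F := F)
      (comm_of_sq hexp) hKc actV hactV1 hactVmul hactVhom v₁ hm1 htrans
      (by rw [hcardV, hF])
  -- squares are central
  have hsq : ∀ x : P, x * x ∈ Subgroup.center P := by
    intro x
    rw [← QuotientGroup.eq_one_iff]
    exact hexp (x : P ⧸ Subgroup.center P)
  have heZone : eZ 1 = 0 := by
    have h1 := heZadd 1 1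
    rw [mul_one] at h1
    exact left_eq_add.mp h1
  have heVone : eV 1 = 0 := by
    have h1 := heVadd 1 1
    rw [mul_one] at h1
    exact left_eq_add.mp h1
  refine ⟨fun x => eV (x : P ⧸ Subgroup.center P), fun x => eZ ⟨x * x, hsq x⟩, eZ,
    fun u => χZ (Function.surjInv hχV.2 u), ?_, ?_, ?_, heZ, heZadd, ?_, ?_, ?_, ?_⟩
  · exact heV.2.comp QuotientGroup.mk_surjective
  · intro x y
    show eV ((x : P ⧸ Subgroup.center P) * (y : P ⧸ Subgroup.center P)) = _
    exact heVadd _ _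
  · intro x
    show eV (x : P ⧸ Subgroup.center P) = 0 ↔ _
    rw [← heVone, heV.1.eq_iff, QuotientGroup.eq_one_iff]
  · intro x
    exact ⟨hsq x, rfl⟩
  · exact hχZ.1.comp (Function.injective_surjInv hχV.2)
  · intro u x y hxy
    set k := Function.surjInv hχV.2 u with hk
    have hku : χV k = u := Function.surjInv_eq hχV.2 u
    have h1 : eV (((k : MulAut P) x : P) : P ⧸ Subgroup.center P) = eV (y : P ⧸ Subgroup.center P) := by
      rw [← hactVmk, heVact, hku]
      exact hxy.symm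
    have h3 : ((k : MulAut P) x)⁻¹ * y ∈ Subgroup.center P := QuotientGroup.eq.mp (heV.1 h1)
    have h4 : y * y = (k : MulAut P) x * (k : MulAut P) x := by
      have h5 := hZ2 _ h3
      have h6 := Subgroup.mem_center_iff.mp h3 ((k : MulAut P) x)
      have h7 : y = (k : MulAut P) x * (((k : MulAut P) x)⁻¹ * y) := by group
      rw [h7, mul_assoc, ← mul_assoc _ ((k : MulAut P) x) _, ← h6, mul_assoc, h5, mul_one]
    have h8 : (⟨y * y, hsq y⟩ : Subgroup.center P) = actZ k ⟨x * x, hsq x⟩ :=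
      Subtype.ext (by
        show y * y = (k : MulAut P) (x * x)
        rw [h4, map_mul])
    show eZ ⟨y * y, hsq y⟩ = χZ k * eZ ⟨x * x, hsq x⟩
    rw [h8, heZact]
  · intro x
    show eZ ⟨x * x, hsq x⟩ = 0 ↔ _
    rw [← heZone, heZ.1.eq_iff]
    constructor
    · intro h
      have hxx : x * x = 1 := congrArg Subtype.val h
      by_cases hx : x = 1
      · rw [hx]; exact Subgroup.one_mem _
      · exact ((hinv x).mp ⟨hx, hxx⟩).1
    · intro h
      exact Subtype.ext (hZ2 x h)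

set_option maxHeartbeats 1600000 in
theorem phaseII {P : Type*} [Group P] [Finite P] (hna : ∃ x y : P, x * y ≠ y * x)
    (F : Type) [Field F] [Fintype F] [CharP F 2] {n : ℕ} (hq : Fintype.card F = 2 ^ n)
    (EV EQ : P → F) (eZ : Subgroup.center P → F) (θ : Fˣ → Fˣ)
    (h1 : Function.Surjective EV) (h2 : ∀ x y, EV (x * y) = EV x + EV y)
    (h3 : ∀ x, EV x = 0 ↔ x ∈ Subgroup.center P)
    (h4 : Function.Bijective eZ) (h5 : ∀ a b, eZ (a * b) = eZ a + eZ b)
    (h6 : ∀ x, ∃ h : x * x ∈ Subgroup.center P, EQ x = eZ ⟨x * x, h⟩)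
    (h7 : Function.Injective θ)
    (h8 : ∀ (u : Fˣ) (x y : P), EV y = u * EV x → EQ y = θ u * EQ x)
    (h9 : ∀ x, EQ x = 0 ↔ x ∈ Subgroup.center P) :
    ∃ φ : F ≃+* F, φ ≠ RingEquiv.refl F ∧ Odd (orderOf φ) ∧
      Nonempty (P ≃* Cfsg.suzukiTypeA F (φ : F →+* F)) := by
  classical
  -- basic facts
  have hEV1 : EV 1 = 0 := by
    have h := h2 1 1
    rw [mul_one] at h
    exact left_eq_add.mp h
  have heZ1 : eZ 1 = 0 := by
    have h := h5 1 1
    rw [mul_one] at h
    exact left_eq_add.mp h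
  have hcos : ∀ x y, EV x = EV y → EQ x = EQ y := by
    intro x y hxy
    have e1 := h8 1 x y (by rw [Units.val_one, one_mul, hxy])
    have e2 := h8 1 x x (by rw [Units.val_one, one_mul])
    rw [e1, ← e2]
  let Qf : F → F := fun v => EQ (Function.surjInv h1 v)
  have hQf : ∀ x, Qf (EV x) = EQ x := fun x => hcos _ _ (Function.surjInv_eq h1 (EV x))
  have hQf0 : ∀ v, Qf v = 0 ↔ v = 0 := by
    intro v
    obtain ⟨x, rfl⟩ := h1 v
    rw [hQf, h9, h3]
  have hQfθ : ∀ (u : Fˣ) (v : F), Qf (u * v) = θ u * Qf v := by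
    intro u v
    obtain ⟨x, rfl⟩ := h1 v
    obtain ⟨y, hy⟩ := h1 (u * EV x)
    rw [← hy, hQf, hQf]
    exact h8 u x y hy
  -- the polar form
  have hsq : ∀ x : P, x * x ∈ Subgroup.center P := fun x => (h6 x).1
  have hEQ : ∀ x, EQ x = eZ ⟨x * x, hsq x⟩ := fun x => (h6 x).2
  have hcz : ∀ x y : P, x⁻¹ * y * x * y⁻¹ ∈ Subgroup.center P := by
    intro x y
    have e : x⁻¹ * y * x * y⁻¹ = (x * x)⁻¹ * ((x * y) * (x * y)) * (y * y)⁻¹ := by group
    rw [e]
    exact Subgroup.mul_mem _ (Subgroup.mul_mem _ (Subgroup.inv_mem _ (hsq x)) (hsq (x * y)))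
      (Subgroup.inv_mem _ (hsq y))
  have hpol : ∀ x y, EQ (x * y) = EQ x + eZ ⟨x⁻¹ * y * x * y⁻¹, hcz x y⟩ + EQ y := by
    intro x y
    rw [hEQ, hEQ, hEQ, ← h5, ← h5]
    congr 1
    apply Subtype.ext
    show x * y * (x * y) = x * x * (x⁻¹ * y * x * y⁻¹) * (y * y)
    group
  have hczmul : ∀ x x' y, (⟨(x * x')⁻¹ * y * (x * x') * y⁻¹, hcz (x * x') y⟩ : Subgroup.center P) =
      ⟨x⁻¹ * y * x * y⁻¹, hcz x y⟩ * ⟨x'⁻¹ * y * x' * y⁻¹, hcz x' y⟩ := by
    intro x x' y
    apply Subtype.ext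
    show (x * x')⁻¹ * y * (x * x') * y⁻¹ = (x⁻¹ * y * x * y⁻¹) * (x'⁻¹ * y * x' * y⁻¹)
    have hc := Subgroup.mem_center_iff.mp (hcz x y) x'⁻¹
    calc (x * x')⁻¹ * y * (x * x') * y⁻¹
        = x'⁻¹ * (x⁻¹ * y * x * y⁻¹) * (y * x' * y⁻¹) := by group
      _ = (x⁻¹ * y * x * y⁻¹) * x'⁻¹ * (y * x' * y⁻¹) := by rw [hc]
      _ = (x⁻¹ * y * x * y⁻¹) * (x'⁻¹ * y * x' * y⁻¹) := by group
  have hBp : ∀ x y, EQ (x * y) - EQ x - EQ y = eZ ⟨x⁻¹ * y * x * y⁻¹, hcz x y⟩ := by
    intro x y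
    rw [hpol]; ring
  have hBadd : ∀ x x' y, EQ (x * x' * y) - EQ (x * x') - EQ y =
      (EQ (x * y) - EQ x - EQ y) + (EQ (x' * y) - EQ x' - EQ y) := by
    intro x x' y
    rw [hBp, hBp, hBp, hczmul, h5]
  -- normalisation
  set c := Qf 1 with hc
  have hc0 : c ≠ 0 := fun h => one_ne_zero ((hQf0 1).mp h)
  have hQfu : ∀ u : Fˣ, Qf u = θ u * c := by
    intro u
    have := hQfθ u 1
    rwa [mul_one] at this
  let ι : F → F := fun v => c⁻¹ * Qf v
  have hιdef : ∀ v, ι v = c⁻¹ * Qf v := fun v => rfl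
  have hQf00 : Qf 0 = 0 := (hQf0 0).mpr rfl
  have hιmul : ∀ u v, ι (u * v) = ι u * ι v := by
    intro u v
    by_cases hu : u = 0
    · rw [hu, zero_mul, hιdef, hQf00, mul_zero, zero_mul]
    · have e1 := hQfθ (Units.mk0 u hu) v
      have e2 := hQfu (Units.mk0 u hu)
      rw [Units.val_mk0] at e1 e2
      rw [hιdef, hιdef, hιdef, e1, e2]
      field_simp
  have hιB : ∀ v v' w, ι (v + v' + w) - ι (v + v') - ι w =
      (ι (v + w) - ι v - ι w) + (ι (v' + w) - ι v' - ι w) := by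
    intro v v' w
    obtain ⟨x, rfl⟩ := h1 v
    obtain ⟨x', rfl⟩ := h1 v'
    obtain ⟨y, rfl⟩ := h1 w
    simp only [hιdef]
    rw [← h2, ← h2, ← h2, ← h2, hQf, hQf, hQf, hQf, hQf, hQf, hQf]
    rw [← mul_sub, ← mul_sub, ← mul_sub, ← mul_sub, ← mul_sub, ← mul_sub, ← mul_add, hBadd]
  have hιne : ∃ v w, ι (v + w) - ι v - ι w ≠ 0 := by
    obtain ⟨x, y, hxy⟩ := hna
    refine ⟨EV x, EV y, ?_⟩
    simp only [hιdef]
    rw [← h2, hQf, hQf, hQf, ← mul_sub, ← mul_sub, hBp]
    refine mul_ne_zero (inv_ne_zero hc0) ?_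
    rw [← heZ1]
    intro h
    have h' := congrArg Subtype.val (h4.1 h)
    have h'' : x⁻¹ * y * x * y⁻¹ = 1 := h'
    apply hxy
    have e : y * x = x * (x⁻¹ * y * x * y⁻¹) * y := by group
    rw [e, h'', mul_one]
  obtain ⟨a₀, b₀, ha₀, hb₀, hab₀, hι₀⟩ := LinPoly.mono hq ι hιmul hιB hιne
  -- normalise to a < b
  obtain ⟨a, s, hs0, hsn, hι⟩ : ∃ a s : ℕ, 0 < s ∧ s < n ∧
      ∀ u, ι u = u ^ (2 ^ a) * u ^ (2 ^ (a + s)) := by
    rcases Nat.lt_or_gt_of_ne hab₀ with h | h
    · refine ⟨a₀, b₀ - a₀, by omega, by omega, fun u => ?_⟩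
      rw [hι₀, Nat.add_sub_cancel' h.le]
    · refine ⟨b₀, a₀ - b₀, by omega, by omega, fun u => ?_⟩
      rw [hι₀, Nat.add_sub_cancel' h.le, mul_comm]
  have hι1 : ι 1 = 1 := by rw [hι, one_pow, one_pow, one_mul]
  have hιinj : Function.Injective ι := by
    intro u u' huu
    have hQ : Qf u = Qf u' := mul_left_cancel₀ (inv_ne_zero hc0) huu
    by_cases hu : u = 0
    · rw [hu, hQf00] at hQ
      rw [hu, (hQf0 u').mp hQ.symm]
    · have hu' : u' ≠ 0 := by
        intro h0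
        rw [h0, hQf00] at hQ
        exact hu ((hQf0 u).mp hQ)
      have e1 := hQfu (Units.mk0 u hu)
      have e2 := hQfu (Units.mk0 u' hu')
      rw [Units.val_mk0] at e1 e2
      rw [e1, e2] at hQ
      have e3 : θ (Units.mk0 u hu) = θ (Units.mk0 u' hu') :=
        Units.ext (mul_right_cancel₀ hc0 hQ)
      have e4 := congrArg Units.val (h7 e3)
      simpa using e4
  have hinj : ∀ v : F, v * v ^ (2 ^ s) = 1 → v = 1 := by
    intro v hv
    apply hιinj
    rw [hι1, hι, pow_add, pow_mul, pow_right_comm v (2 ^ a) (2 ^ s), ← mul_pow, hv, one_pow]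
  set φ : F ≃+* F := iterateFrobeniusEquiv F 2 s with hφ
  have hφne : φ ≠ RingEquiv.refl F := LinPoly.iter_ne_refl hq hs0 hsn
  have hφodd : Odd (orderOf φ) :=
    Odd.of_dvd_nat (LinPoly.odd_quot hq hs0 hinj) (LinPoly.orderOf_iter_dvd hq s)
  refine ⟨φ, hφne, hφodd, ?_⟩
  -- the isomorphism
  let φ' : F →+* F := (φ : F →+* F)
  have hφ' : ∀ x : F, φ' x = x ^ 2 ^ s := fun x => rfl
  have hEVinv : ∀ x, EV x⁻¹ = EV x := by
    intro x
    have h := h2 x x⁻¹
    rw [mul_inv_cancel, hEV1] at h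
    have h' : EV x⁻¹ = -EV x := by
      rw [eq_neg_iff_add_eq_zero, add_comm]
      exact h.symm
    rw [h', CharTwo.neg_eq]
  let D : Subgroup (P × TypeA.TA F φ') :=
    { carrier := {g | (EV g.1) ^ 2 ^ a = g.2.x}
      one_mem' := by
        show (EV (1 : P × TypeA.TA F φ').1) ^ 2 ^ a = (1 : P × TypeA.TA F φ').2.x
        rw [Prod.fst_one, Prod.snd_one, hEV1, TypeA.one_x, zero_pow (by positivity)]
      mul_mem' := by
        intro g g' hg hg'
        show (EV (g * g').1) ^ 2 ^ a = (g * g').2.x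
        rw [Prod.fst_mul, Prod.snd_mul, h2, add_pow_char_pow, TypeA.mul_x]
        rw [show (EV g.1) ^ 2 ^ a = g.2.x from hg, show (EV g'.1) ^ 2 ^ a = g'.2.x from hg']
      inv_mem' := by
        intro g hg
        show (EV (g⁻¹).1) ^ 2 ^ a = (g⁻¹).2.x
        rw [Prod.fst_inv, Prod.snd_inv, hEVinv, TypeA.inv_x, CharTwo.neg_eq]
        exact hg }
  have hD : ∀ p t, (p, t) ∈ D ↔ (EV p) ^ 2 ^ a = t.x := fun p t => Iff.rfl
  let ζ : Subgroup.center P →* TypeA.TA F φ' :=
    MonoidHom.mk' (fun z => TypeA.zmap F φ' (c⁻¹ * eZ z)) (by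
      intro z z'
      show TypeA.zmap F φ' (c⁻¹ * eZ (z * z')) = _
      rw [h5, mul_add, TypeA.zmap_add])
  have hζ : ∀ z, ζ z = TypeA.zmap F φ' (c⁻¹ * eZ z) := fun z => rfl
  have hs1 : ∀ p, ∃ t, (p, t) ∈ D := fun p => ⟨⟨(EV p) ^ 2 ^ a, 0⟩, rfl⟩
  have hs2 : ∀ t, ∃ p, (p, t) ∈ D := by
    intro t
    obtain ⟨p, hp⟩ := h1 ((iterateFrobeniusEquiv F 2 a).symm t.x)
    refine ⟨p, ?_⟩
    rw [hD, hp, ← iterateFrobeniusEquiv_def F 2 a, RingEquiv.apply_symm_apply]
  have hk1 : ∀ p, (p, (1 : TypeA.TA F φ')) ∈ D ↔ p ∈ Subgroup.center P := by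
    intro p
    rw [hD, TypeA.one_x, pow_eq_zero_iff (by positivity), h3]
  have hk2 : ∀ t, ((1 : P), t) ∈ D ↔ t ∈ TypeA.ZZ F φ' := by
    intro t
    rw [hD, hEV1, zero_pow (by positivity), TypeA.mem_ZZ, eq_comm]
  have hζinj : Function.Injective ζ := by
    intro z z' hzz
    have h : c⁻¹ * eZ z = c⁻¹ * eZ z' := congrArg TypeA.TA.y hzz
    exact h4.1 (mul_left_cancel₀ (inv_ne_zero hc0) h)
  have hζrange : ∀ b, b ∈ TypeA.ZZ F φ' ↔ ∃ z, ζ z = b := by
    intro b
    constructor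
    · intro hb
      obtain ⟨z, hz⟩ := h4.2 (c * b.y)
      refine ⟨z, ?_⟩
      rw [hζ, hz]
      apply TypeA.TA.ext
      · exact ((TypeA.mem_ZZ b).mp hb).symm
      · show c⁻¹ * (c * b.y) = b.y
        field_simp
    · rintro ⟨z, rfl⟩
      rfl
  have hsqD : ∀ p t, (p, t) ∈ D → ∃ h : p * p ∈ Subgroup.center P, ζ ⟨p * p, h⟩ = t * t := by
    intro p t hpt
    refine ⟨hsq p, ?_⟩
    have hpt' : (EV p) ^ 2 ^ a = t.x := hpt
    rw [hζ, TypeA.sq_eq, ← hEQ, ← hQf]
    congr 1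
    have h := hι (EV p)
    rw [hιdef] at h
    rw [h, hφ', ← hpt', ← pow_mul, pow_add 2 a s, mul_comm]
  obtain ⟨e⟩ := ExtIso.ext_iso (Subgroup.center P) (TypeA.ZZ F φ') D hs1 hs2 hk1 hk2 ζ hζinj
    hζrange hsqD
  exact ⟨e.trans TypeA.equivSuzukiTypeA⟩

/-- A Suzuki 2-group `P` with `|P| = |Z(P)|²` is of type A: for some finite field `F` with `|F| = |Z(P)|` and some field automorphism `φ ≠ 1` of odd order, `P` is isomorphic to the group of lower unitriangular matrices with rows `(1,0,0)`, `(x,1,0)`, `(y, φ x, 1)`. -/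
theorem result {P : Type*} [Group P] (hP : Cfsg.IsSuzukiTwoGroup P)
    (hcard : Nat.card P = Nat.card (Subgroup.center P) ^ 2) :
    ∃ (F : Type) (_ : Field F) (_ : Fintype F) (φ : F ≃+* F), Fintype.card F = Nat.card (Subgroup.center P) ∧
      φ ≠ RingEquiv.refl F ∧ Odd (orderOf φ) ∧ Nonempty (P ≃* Cfsg.suzukiTypeA F (φ : F →+* F)) := by
  haveI : Finite P := hP.1
  haveI : Fact (Nat.Prime 2) := ⟨Nat.prime_two⟩
  have h2 : IsPGroup 2 P := hP.2.1
  have hna := hP.2.2.1
  obtain ⟨n, hn⟩ := IsPGroup.iff_card.mp (h2.to_subgroup (Subgroup.center P))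
  have hn0 : n ≠ 0 := by
    rintro rfl
    rw [pow_zero] at hn
    obtain ⟨i₁, i₂, -, hi1, hi1s, -, -⟩ := hP.2.2.2.1
    have hi1Z : i₁ ∈ Subgroup.center P := (((Cfsg.Agent.S1137.result hP).1 i₁).mp ⟨hi1, hi1s⟩).1
    haveI : Subsingleton (Subgroup.center P) := (Nat.card_eq_one_iff_unique.mp hn).1
    have h := Subsingleton.elim (⟨i₁, hi1Z⟩ : Subgroup.center P) 1
    exact hi1 (congrArg Subtype.val h)
  letI : Fintype (GaloisField 2 n) := Fintype.ofFinite _
  have hcF : Fintype.card (GaloisField 2 n) = 2 ^ n := by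
    rw [← Nat.card_eq_fintype_card, GaloisField.card 2 n hn0]
  have hF : Nat.card (GaloisField 2 n) = Nat.card (Subgroup.center P) := by
    rw [GaloisField.card 2 n hn0, hn]
  obtain ⟨EV, EQ, eZ, θ, h1, h2', h3, h4, h5, h6, h7, h8, h9⟩ :=
    phaseI hP hcard (GaloisField 2 n) hF
  obtain ⟨φ, hφ1, hφ2, hφ3⟩ := phaseII hna (GaloisField 2 n) hcF EV EQ eZ θ h1 h2' h3 h4 h5 h6 h7 h8 h9
  exact ⟨GaloisField 2 n, inferInstance, inferInstance, φ, by rw [hcF, hn], hφ1, hφ2, hφ3⟩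

end Cfsg.Agent.S1139
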