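import Cfsg.Statements.S1160
import Mathlib
import Cfsg.Agent.S0636
import Cfsg.Agent.Lib.Helper32.PGroupCenter
import Cfsg.Agent.Lib.Helper96.FpfAction
import Cfsg.Agent.Lib.Helper96.FrobCompl

set_option autoImplicit false
open Cfsg

namespace Cfsg.Agent.S1160

open scoped Pointwise

section Nrm

variable {P E : Type*} [Group P] [AddCommGroup E] [DistribMulAction P E]

/-- The norm map `v ↦ ∑_{b ∈ B} b • v` of a finite subgroup. -/
noncomputable def nrm (B : Subgroup P) [Finite B] : E →+ E :=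
  letI := Fintype.ofFinite B
  ∑ b : B, DistribSMul.toAddMonoidHom E (b : P)

theorem nrm_apply (B : Subgroup P) [Finite B] [inst : Fintype B] (v : E) :
    nrm B v = ∑ b : B, (b : P) • v := by
  have : inst = Fintype.ofFinite B := Subsingleton.elim _ _
  subst this
  simp [nrm]

theorem smul_nrm_of_mem (B : Subgroup P) [Finite B] {b : P} (hb : b ∈ B) (v : E) :
    b • nrm B v = nrm B v := by
  let _ := Fintype.ofFinite B
  rw [nrm_apply, Finset.smul_sum]
  exact Fintype.sum_equiv (Equiv.mulLeft ⟨b, hb⟩) _ _ (fun c => by simp [mul_smul])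

theorem nrm_of_fixed (B : Subgroup P) [Finite B] {v : E} (hv : ∀ b ∈ B, b • v = v) :
    nrm B v = Nat.card B • v := by
  let _ := Fintype.ofFinite B
  rw [nrm_apply]
  have : ∀ b : B, (b : P) • v = v := fun b => hv b b.2
  simp [this, Nat.card_eq_fintype_card]

theorem smul_nrm_of_commute (B : Subgroup P) [Finite B] {m : P} (hm : ∀ b ∈ B, m * b = b * m)
    {v : E} (hv : m • v = v) : m • nrm B v = nrm B v := by
  let _ := Fintype.ofFinite B
  rw [nrm_apply, Finset.smul_sum]
  refine Finset.sum_congr rfl (fun b _ => ?_)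
  rw [← mul_smul, hm b b.2, mul_smul, hv]

theorem nrm_smul_of_central (B : Subgroup P) [Finite B] (hB : B ≤ Subgroup.center P) (g : P)
    (v : E) : nrm B (g • v) = g • nrm B v := by
  let _ := Fintype.ofFinite B
  rw [nrm_apply, nrm_apply, Finset.smul_sum]
  refine Finset.sum_congr rfl (fun b _ => ?_)
  rw [← mul_smul, ← mul_smul, (Subgroup.mem_center_iff.mp (hB b.2) g)]

end Nrm

open MulAction in
/-- two-vector lemma -/
theorem stab_eq_of_sum {P E : Type*} [Group P] [Finite P]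
    [AddCommGroup E] [DistribMulAction P E]
    (hconst : ∀ a b : E, a ≠ 0 → b ≠ 0 →
      Nat.card (MulAction.stabilizer P a) = Nat.card (MulAction.stabilizer P b))
    (v₁ v₂ : E) (h1 : v₁ ≠ 0) (h2 : v₂ ≠ 0) (h12 : v₁ + v₂ ≠ 0)
    (h : ∀ g : P, g • (v₁ + v₂) = v₁ + v₂ → g • v₁ = v₁) :
    stabilizer P v₁ = stabilizer P v₂ := by
  have hle1 : stabilizer P (v₁ + v₂) ≤ stabilizer P v₁ := fun g hg =>
    mem_stabilizer_iff.mpr (h g (mem_stabilizer_iff.mp hg))
  have hle2 : stabilizer P (v₁ + v₂) ≤ stabilizer P v₂ := fun g hg => by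
    have hg' := mem_stabilizer_iff.mp hg
    have hg1 := h g hg'
    rw [smul_add, hg1] at hg'
    exact mem_stabilizer_iff.mpr (add_left_cancel hg')
  have e1 := Subgroup.eq_of_le_of_card_ge hle1 (hconst _ _ h12 h1).ge
  have e2 := Subgroup.eq_of_le_of_card_ge hle2 (hconst _ _ h12 h2).ge
  rw [← e1, e2]

/-- central subgroups of order `p` act without fixed points -/
theorem central_fpf {P E : Type*} [Group P] [Finite P]
    [AddCommGroup E] [DistribMulAction P E] [FaithfulSMul P E]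
    {p : ℕ} (hp1 : p ≠ 1) (hcop : ∀ v : E, p • v = 0 → v = 0)
    (hconst : ∀ a b : E, a ≠ 0 → b ≠ 0 →
      Nat.card (MulAction.stabilizer P a) = Nat.card (MulAction.stabilizer P b))
    (Z : Subgroup P) (hZc : Z ≤ Subgroup.center P) (hZ : Nat.card Z = p)
    (v₁ : E) (hv₁ : ∀ z ∈ Z, z • v₁ = v₁) : v₁ = 0 := by
  by_contra hv₁0
  -- a vector with `nrm Z u ≠ p • u`
  have hex : ∃ u : E, nrm Z u ≠ p • u := by
    by_contra hall
    push Not at hall
    have hZbot : Z = ⊥ := by
      rw [Subgroup.eq_bot_iff_forall]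
      intro z hz
      apply FaithfulSMul.eq_of_smul_eq_smul (α := E)
      intro u
      rw [one_smul]
      apply sub_eq_zero.mp
      apply hcop
      rw [smul_sub, ← smul_comm z p u, ← hall u, smul_nrm_of_mem Z hz, sub_self]
    rw [hZbot, Subgroup.card_bot] at hZ
    exact hp1 hZ.symm
  obtain ⟨u, hu⟩ := hex
  obtain ⟨v₂, hv₂def⟩ : ∃ v₂ : E, v₂ = p • u - nrm Z u := ⟨_, rfl⟩
  have hv₂0 : v₂ ≠ 0 := by
    rw [hv₂def]
    intro h
    exact hu (sub_eq_zero.mp h).symm
  have hnn : nrm Z (nrm Z u) = p • nrm Z u := by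
    rw [nrm_of_fixed Z (fun z hz => smul_nrm_of_mem Z hz u), hZ]
  have hv₂n : nrm Z v₂ = 0 := by
    rw [hv₂def, map_sub, map_nsmul, hnn, sub_self]
  -- the intersection is zero
  have hint : ∀ d : E, (∀ z ∈ Z, z • d = d) → nrm Z d = 0 → d = 0 := by
    intro d hd hnd
    apply hcop
    rw [← hZ, ← nrm_of_fixed Z hd, hnd]
  have h12 : v₁ + v₂ ≠ 0 := by
    intro h
    have hv₂' : v₂ = -v₁ := by rw [eq_neg_iff_add_eq_zero, add_comm]; exact h
    apply hv₂0
    apply hint
    · intro z hz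
      rw [hv₂', smul_neg, hv₁ z hz]
    · exact hv₂n
  have hstab := stab_eq_of_sum hconst v₁ v₂ hv₁0 hv₂0 h12 (by
    intro g hg
    apply sub_eq_zero.mp
    have hd : g • v₁ - v₁ = v₂ - g • v₂ := by
      rw [smul_add] at hg
      rw [sub_eq_sub_iff_add_eq_add, add_comm v₂]
      exact hg
    apply hint
    · intro z hz
      rw [smul_sub, hv₁ z hz, ← mul_smul, ← Subgroup.mem_center_iff.mp (hZc hz) g, mul_smul,
        hv₁ z hz]
    · rw [hd, map_sub, nrm_smul_of_central Z hZc, hv₂n, smul_zero, sub_self])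
  apply hv₂0
  apply hint _ _ hv₂n
  intro z hz
  have : z ∈ MulAction.stabilizer P v₁ := MulAction.mem_stabilizer_iff.mpr (hv₁ z hz)
  rw [hstab] at this
  exact MulAction.mem_stabilizer_iff.mp this

/-- The multiplicative version of a distributive action. -/
@[reducible] def mdma (B : Type*) [Monoid B] (E : Type*) [AddCommGroup E] [DistribMulAction B E] :
    MulDistribMulAction B (Multiplicative E) where
  smul b v := Multiplicative.ofAdd (b • Multiplicative.toAdd v)
  one_smul v := by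
    show Multiplicative.ofAdd ((1 : B) • Multiplicative.toAdd v) = v
    rw [one_smul]; rfl
  mul_smul a b v := by
    show Multiplicative.ofAdd ((a * b) • Multiplicative.toAdd v) =
      Multiplicative.ofAdd (a • Multiplicative.toAdd (Multiplicative.ofAdd (b • Multiplicative.toAdd v)))
    rw [mul_smul]; rfl
  smul_mul b v w := by
    show Multiplicative.ofAdd (b • Multiplicative.toAdd (v * w)) =
      Multiplicative.ofAdd (b • Multiplicative.toAdd v) * Multiplicative.ofAdd (b • Multiplicative.toAdd w)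
    rw [toAdd_mul, smul_add]; rfl
  smul_one b := by
    show Multiplicative.ofAdd (b • Multiplicative.toAdd (1 : Multiplicative E)) = 1
    rw [toAdd_one, smul_zero]; rfl

open MulAction Helper96 in
theorem noncyclic_false {P E : Type*} [Group P] [Finite P]
    [AddCommGroup E] [Finite E] [Nontrivial E] [DistribMulAction P E] [FaithfulSMul P E]
    {p : ℕ} [Fact p.Prime] (hp2 : p ≠ 2) (hP : IsPGroup p P)
    (hcop : ∀ v : E, p • v = 0 → v = 0)
    (hconst : ∀ a b : E, a ≠ 0 → b ≠ 0 →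
      Nat.card (MulAction.stabilizer P a) = Nat.card (MulAction.stabilizer P b))
    (M : Subgroup P) (hMn : M.Normal) (hMc : ∀ x ∈ M, ∀ y ∈ M, x * y = y * x)
    (hMe : ∀ a ∈ M, a ^ p = 1) (hMcard : Nat.card M = p ^ 2) : False := by
  have hpp : p.Prime := Fact.out
  have hMbot : M ≠ ⊥ := by
    intro h
    rw [h, Subgroup.card_bot] at hMcard
    have := Nat.one_lt_pow (n := 2) (by norm_num) hpp.one_lt
    omega
  -- central elements of `M` fix nothing
  have hcent : ∀ c ∈ Subgroup.center P, c ∈ M → c ≠ 1 → ∀ v : E, c • v = v → v = 0 := by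
    intro c hcc hcM hc1 v hv
    have hcord : orderOf c = p := orderOf_eq_prime (hMe c hcM) hc1
    apply central_fpf hpp.ne_one hcop hconst (Subgroup.zpowers c) (Subgroup.zpowers_le.mpr hcc)
      (by rw [Nat.card_zpowers, hcord]) v
    intro y hy
    have : Subgroup.zpowers c ≤ stabilizer P v :=
      Subgroup.zpowers_le.mpr (mem_stabilizer_iff.mpr hv)
    exact mem_stabilizer_iff.mp (this hy)
  obtain ⟨z, hzM, hz1, hzc⟩ := Helper32.exists_ne_one_mem_center_of_normal hP M hMbot
  have hZfix : ∀ v : E, z • v = v → v = 0 := hcent z hzc hzM hz1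
  -- two distinct subgroups of order `p` of `M` have no common fixed vector
  have hBB : ∀ B B' : Subgroup P, B ≤ M → B' ≤ M → Nat.card B = p → Nat.card B' = p → B ≠ B' →
      ∀ w : E, (∀ b ∈ B, b • w = w) → (∀ b ∈ B', b • w = w) → w = 0 := by
    intro B B' hB hB' hcB hcB' hne w hw hw'
    apply hZfix
    have hBS : B ≤ stabilizer P w := fun b hb => mem_stabilizer_iff.mpr (hw b hb)
    have hB'S : B' ≤ stabilizer P w := fun b hb => mem_stabilizer_iff.mpr (hw' b hb)
    have hsup : B ⊔ B' = M := by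
      have hlt : B < B ⊔ B' := by
        apply lt_of_le_of_ne le_sup_left
        intro h
        have hB'B : B' ≤ B := by
          rw [h]; exact le_sup_right
        exact hne (Subgroup.eq_of_le_of_card_ge hB'B (by rw [hcB, hcB'])).symm
      have hle : B ⊔ B' ≤ M := sup_le hB hB'
      have hdvd : Nat.card (B ⊔ B' : Subgroup P) ∣ p ^ 2 := by
        rw [← hMcard]; exact Subgroup.card_dvd_of_le hle
      obtain ⟨k, hk, hkc⟩ := (Nat.dvd_prime_pow hpp).mp hdvd
      have hcardlt : p < Nat.card (B ⊔ B' : Subgroup P) := by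
        by_contra hle'
        push Not at hle'
        exact hlt.ne (Subgroup.eq_of_le_of_card_ge le_sup_left (by rw [hcB]; exact hle'))
      have hk2 : k = 2 := by
        rw [hkc] at hcardlt
        interval_cases k
        · simp at hcardlt; have := hpp.one_lt; omega
        · simp at hcardlt
        · rfl
      apply Subgroup.eq_of_le_of_card_ge hle
      rw [hMcard, hkc, hk2]
    have : z ∈ B ⊔ B' := by rw [hsup]; exact hzM
    exact mem_stabilizer_iff.mp ((sup_le hBS hB'S) this)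
  have hnrm0 : ∀ B B' : Subgroup P, B ≤ M → B' ≤ M → Nat.card B = p → Nat.card B' = p → B ≠ B' →
      ∀ w : E, (∀ b ∈ B', b • w = w) → nrm B w = 0 := by
    intro B B' hB hB' hcB hcB' hne w hw
    apply hBB B B' hB hB' hcB hcB' hne (nrm B w)
    · intro b hb; exact smul_nrm_of_mem B hb w
    · intro b' hb'
      exact smul_nrm_of_commute B (fun b hb => hMc b' (hB' hb') b (hB hb)) (hw b' hb')
  -- conjugation
  have hconjM : ∀ (B : Subgroup P) (g : P), B ≤ M → MulAut.conj g • B ≤ M := by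
    intro B g hB x hx
    rw [mem_conj_smul_iff] at hx
    have := hMn.conj_mem _ (hB hx) g
    have e : g * (g⁻¹ * x * g) * g⁻¹ = x := by group
    rwa [e] at this
  have hconjfix : ∀ (B : Subgroup P) (g : P) (w : E), (∀ b ∈ B, b • w = w) →
      ∀ y ∈ MulAut.conj g • B, y • (g • w) = g • w := by
    intro B g w hw y hy
    rw [mem_conj_smul_iff] at hy
    have := hw _ hy
    have e : y * g = g * (g⁻¹ * y * g) := by group
    rw [← mul_smul, e, mul_smul, this]
  -- an element of `M` with a fixed vector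
  have hex : ∃ b ∈ M, b ≠ 1 ∧ ∃ v : E, v ≠ 0 ∧ b • v = v := by
    by_contra hno
    push Not at hno
    let _ := mdma M E
    apply Helper96.fpf_false_of_card_sq (B := M) (𝕍 := Multiplicative E) ?_ p hpp hMcard ?_
    · intro a ha v hv
      by_contra hv1
      exact hno a a.2 (fun h => ha (Subtype.ext h)) (Multiplicative.toAdd v)
        (fun h => hv1 (by rw [← ofAdd_toAdd v, h]; rfl)) hv
    · intro b
      exact Subtype.ext (by simpa using hMe b b.2)
  obtain ⟨b, hbM, hb1, v₁, hv₁0, hbv₁⟩ := hex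
  have hbord : orderOf b = p := orderOf_eq_prime (hMe b hbM) hb1
  obtain ⟨B₁, hB₁def⟩ : ∃ B₁ : Subgroup P, B₁ = Subgroup.zpowers b := ⟨_, rfl⟩
  have hB₁M : B₁ ≤ M := by rw [hB₁def]; exact Subgroup.zpowers_le.mpr hbM
  have hB₁c : Nat.card B₁ = p := by rw [hB₁def, Nat.card_zpowers, hbord]
  have hB₁fix : ∀ y ∈ B₁, y • v₁ = v₁ := by
    intro y hy
    have : B₁ ≤ stabilizer P v₁ := by
      rw [hB₁def]; exact Subgroup.zpowers_le.mpr (mem_stabilizer_iff.mpr hbv₁)
    exact mem_stabilizer_iff.mp (this hy)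
  have hbB₁ : b ∈ B₁ := by rw [hB₁def]; exact Subgroup.mem_zpowers b
  -- `B₁` is not normal
  have hexh : ∃ h : P, MulAut.conj h • B₁ ≠ B₁ := by
    by_contra hall
    push Not at hall
    have hB₁n : B₁.Normal := ⟨fun n hn g => by
      rw [← hall g]; exact conj_mem_conj_smul B₁ g n hn⟩
    have hB₁bot : B₁ ≠ ⊥ := by
      intro h
      rw [h, Subgroup.mem_bot] at hbB₁
      exact hb1 hbB₁
    obtain ⟨c, hcB, hc1, hcc⟩ := Helper32.exists_ne_one_mem_center_of_normal hP B₁ hB₁bot
    exact hv₁0 (hcent c hcc (hB₁M hcB) hc1 v₁ (hB₁fix c hcB))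
  obtain ⟨h, hh⟩ := hexh
  obtain ⟨B₂, hB₂def⟩ : ∃ B₂ : Subgroup P, B₂ = MulAut.conj h • B₁ := ⟨_, rfl⟩
  obtain ⟨v₂, hv₂def⟩ : ∃ v₂ : E, v₂ = h • v₁ := ⟨_, rfl⟩
  have hB₂M : B₂ ≤ M := by rw [hB₂def]; exact hconjM B₁ h hB₁M
  have hB₂c : Nat.card B₂ = p := by rw [hB₂def, card_conj_smul, hB₁c]
  have hB₂fix : ∀ y ∈ B₂, y • v₂ = v₂ := by
    rw [hB₂def, hv₂def]; exact hconjfix B₁ h v₁ hB₁fix
  have hv₂0 : v₂ ≠ 0 := by
    rw [hv₂def]
    intro h0
    apply hv₁0
    have := congrArg (fun w => h⁻¹ • w) h0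
    simpa using this
  have hB12 : B₁ ≠ B₂ := by rw [hB₂def]; exact fun e => hh e.symm
  have h12 : v₁ + v₂ ≠ 0 := by
    intro h0
    have hv₂' : v₂ = -v₁ := by rw [eq_neg_iff_add_eq_zero, add_comm]; exact h0
    apply hv₂0
    apply hBB B₁ B₂ hB₁M hB₂M hB₁c hB₂c hB12 v₂ _ hB₂fix
    intro y hy
    rw [hv₂', smul_neg, hB₁fix y hy]
  -- the key step: no swap
  have key : ∀ g : P, g • (v₁ + v₂) = v₁ + v₂ → g • v₁ = v₁ := by
    intro g hg
    rw [smul_add] at hg
    obtain ⟨B₁', hB₁'def⟩ : ∃ B₁' : Subgroup P, B₁' = MulAut.conj g • B₁ := ⟨_, rfl⟩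
    obtain ⟨B₂', hB₂'def⟩ : ∃ B₂' : Subgroup P, B₂' = MulAut.conj g • B₂ := ⟨_, rfl⟩
    have hB₁'M : B₁' ≤ M := by rw [hB₁'def]; exact hconjM B₁ g hB₁M
    have hB₂'M : B₂' ≤ M := by rw [hB₂'def]; exact hconjM B₂ g hB₂M
    have hB₁'c : Nat.card B₁' = p := by rw [hB₁'def, card_conj_smul, hB₁c]
    have hB₂'c : Nat.card B₂' = p := by rw [hB₂'def, card_conj_smul, hB₂c]
    have hB₁'fix : ∀ y ∈ B₁', y • (g • v₁) = g • v₁ := by
      rw [hB₁'def]; exact hconjfix B₁ g v₁ hB₁fix
    have hB₂'fix : ∀ y ∈ B₂', y • (g • v₂) = g • v₂ := by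
      rw [hB₂'def]; exact hconjfix B₂ g v₂ hB₂fix
    have hB12' : B₁' ≠ B₂' := by
      rw [hB₁'def, hB₂'def]
      intro e
      exact hB12 (smul_left_cancel _ e)
    have e1 : nrm B₁ (g • v₁) + nrm B₁ (g • v₂) = p • v₁ := by
      rw [← map_add, hg, map_add, nrm_of_fixed B₁ hB₁fix, hB₁c,
        hnrm0 B₁ B₂ hB₁M hB₂M hB₁c hB₂c hB12 v₂ hB₂fix, add_zero]
    have e2 : nrm B₂ (g • v₁) + nrm B₂ (g • v₂) = p • v₂ := by
      rw [← map_add, hg, map_add, nrm_of_fixed B₂ hB₂fix, hB₂c,
        hnrm0 B₂ B₁ hB₂M hB₁M hB₂c hB₁c hB12.symm v₁ hB₁fix, zero_add]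
    by_cases c1 : B₁' = B₁
    · have c2 : B₁ ≠ B₂' := fun h => hB12' (c1.trans h)
      rw [hnrm0 B₁ B₂' hB₁M hB₂'M hB₁c hB₂'c c2 (g • v₂) hB₂'fix, add_zero,
        nrm_of_fixed B₁ (c1 ▸ hB₁'fix), hB₁c] at e1
      apply sub_eq_zero.mp
      apply hcop
      rw [smul_sub, e1, sub_self]
    · exfalso
      rw [hnrm0 B₁ B₁' hB₁M hB₁'M hB₁c hB₁'c (fun h => c1 h.symm) (g • v₁) hB₁'fix, zero_add] at e1
      by_cases c2 : B₂' = B₁
      · have c2' : B₂ ≠ B₂' := fun h => hB12 (c2.symm.trans h.symm)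
        rw [hnrm0 B₂ B₂' hB₂M hB₂'M hB₂c hB₂'c c2' (g • v₂) hB₂'fix, add_zero] at e2
        by_cases c3 : B₁' = B₂
        · -- the swap: `g ^ 2` normalizes `B₁`
          have hg2 : g ^ 2 ∈ (stabilizer (MulAut P) B₁).comap (MulAut.conj : P →* MulAut P) := by
            rw [Subgroup.mem_comap, mem_stabilizer_iff, map_pow, pow_two, mul_smul,
              ← hB₁'def, c3, ← hB₂'def, c2]
          have hgmem : g ∈ (stabilizer (MulAut P) B₁).comap (MulAut.conj : P →* MulAut P) := by
            obtain ⟨n, hn⟩ := hP g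
            have hodd : Odd (p ^ n) := (hpp.odd_of_ne_two hp2).pow
            obtain ⟨m, hm⟩ := hodd
            have : g = ((g ^ 2) ^ m)⁻¹ := by
              rw [eq_inv_iff_mul_eq_one, ← pow_mul, ← pow_succ', ← hm, hn]
            rw [this]
            exact Subgroup.inv_mem _ (Subgroup.pow_mem _ hg2 m)
          rw [Subgroup.mem_comap, mem_stabilizer_iff, ← hB₁'def] at hgmem
          exact c1 hgmem
        · rw [hnrm0 B₂ B₁' hB₂M hB₁'M hB₂c hB₁'c (fun h => c3 h.symm) (g • v₁) hB₁'fix] at e2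
          exact hv₂0 (hcop v₂ e2.symm)
      · rw [hnrm0 B₁ B₂' hB₁M hB₂'M hB₁c hB₂'c (fun h => c2 h.symm) (g • v₂) hB₂'fix] at e1
        exact hv₁0 (hcop v₁ e1.symm)
  have hstab := stab_eq_of_sum hconst v₁ v₂ hv₁0 hv₂0 h12 key
  apply hv₂0
  apply hBB B₁ B₂ hB₁M hB₂M hB₁c hB₂c hB12 v₂ _ hB₂fix
  intro y hy
  have : y ∈ stabilizer P v₁ := mem_stabilizer_iff.mpr (hB₁fix y hy)
  rw [hstab] at this
  exact mem_stabilizer_iff.mp this

/-- Let `p ≠ 2` be prime and `P` a finite `p`-group acting faithfully by additive automorphisms on a finite elementary abelian `q`-group `E` (`q` prime), such that `|P_a|` is the same for all `a ≠ 0`. Then `P` is cyclic and every non-identity element of `P` fixes only `0`. -/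
theorem result {P E : Type*} [Group P] [Finite P]
    [AddCommGroup E] [Finite E] [DistribMulAction P E] [FaithfulSMul P E]
    {p q : ℕ} [Fact p.Prime] (hp2 : p ≠ 2) (hP : IsPGroup p P) (hq : q.Prime) (hE : ∀ e : E, q • e = 0)
    (hconst : ∀ a b : E, a ≠ 0 → b ≠ 0 →
      Nat.card (MulAction.stabilizer P a) = Nat.card (MulAction.stabilizer P b)) :
    IsCyclic P ∧ ∀ g : P, g ≠ 1 → ∀ a : E, g • a = a → a = 0 := by
  classical
  have hpp : p.Prime := Fact.out
  by_cases hEs : Subsingleton E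
  · have hPs : Subsingleton P :=
      ⟨fun g h => FaithfulSMul.eq_of_smul_eq_smul (α := E) (fun a => Subsingleton.elim _ _)⟩
    exact ⟨isCyclic_of_subsingleton, fun g hg => absurd (Subsingleton.elim g 1) hg⟩
  rw [not_subsingleton_iff_nontrivial] at hEs
  by_cases hqp : q = p
  · subst hqp
    have hPs : Subsingleton P := by
      obtain ⟨e, he⟩ := exists_ne (0 : E)
      have hdvd : q ∣ Nat.card E := by
        have : addOrderOf e = q := addOrderOf_eq_prime (hE e) he
        rw [← this]; exact addOrderOf_dvd_natCard e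
      have h0 : (0 : E) ∈ MulAction.fixedPoints P E := fun g => smul_zero g
      obtain ⟨b, hb, hb0⟩ := hP.exists_fixed_point_of_prime_dvd_card_of_fixed_point E hdvd h0
      have hbtop : MulAction.stabilizer P b = ⊤ := by
        ext g
        simp [MulAction.mem_stabilizer_iff, hb g]
      have hfix : ∀ (g : P) (a : E), g • a = a := by
        intro g a
        by_cases ha : a = 0
        · rw [ha, smul_zero]
        · have hc := hconst a b ha (Ne.symm hb0)
          rw [hbtop] at hc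
          have htop : MulAction.stabilizer P a = ⊤ :=
            Subgroup.eq_top_of_card_eq _ (hc.trans Subgroup.card_top)
          have hg : g ∈ MulAction.stabilizer P a := htop ▸ Subgroup.mem_top g
          exact MulAction.mem_stabilizer_iff.mp hg
      refine ⟨fun g h => FaithfulSMul.eq_of_smul_eq_smul (α := E) (fun a => ?_)⟩
      rw [hfix g a, hfix h a]
    exact ⟨isCyclic_of_subsingleton, fun g hg => absurd (Subsingleton.elim g 1) hg⟩
  have hcop : ∀ v : E, p • v = 0 → v = 0 := by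
    intro v hv
    have hc : Nat.Coprime p q := (Nat.coprime_primes hpp hq).mpr (Ne.symm hqp)
    have h1 : addOrderOf v ∣ p := addOrderOf_dvd_of_nsmul_eq_zero hv
    have h2 : addOrderOf v ∣ q := addOrderOf_dvd_of_nsmul_eq_zero (hE v)
    have h3 := Nat.eq_one_of_dvd_coprimes hc h1 h2
    exact AddMonoid.addOrderOf_eq_one_iff.mp h3
  have hcyc : IsCyclic P := by
    by_contra hnc
    have hnc' : ¬ IsCyclic (⊤ : Subgroup P) :=
      fun h => hnc ((MulEquiv.isCyclic Subgroup.topEquiv).mp h)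
    obtain ⟨M, -, hMn, hMc, hMe, hMcard⟩ := S0636.main hp2 hP ⊤ hnc'
    exact noncyclic_false hp2 hP hcop hconst M hMn hMc hMe hMcard
  refine ⟨hcyc, ?_⟩
  intro g hg a hga
  have hcomm : ∀ x y : P, x * y = y * x := by
    obtain ⟨γ, hγ⟩ := hcyc.exists_generator
    intro x y
    obtain ⟨m, rfl⟩ := Subgroup.mem_zpowers_iff.mp (hγ x)
    obtain ⟨n, rfl⟩ := Subgroup.mem_zpowers_iff.mp (hγ y)
    exact zpow_mul_comm γ m n
  have hgo : orderOf g ≠ 1 := by rwa [Ne, orderOf_eq_one_iff]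
  obtain ⟨k, hk⟩ := IsPGroup.iff_orderOf.mp hP g
  have hk0 : k ≠ 0 := by
    rintro rfl
    exact hgo (by simpa using hk)
  obtain ⟨j, rfl⟩ := Nat.exists_eq_succ_of_ne_zero hk0
  obtain ⟨x, hxdef⟩ : ∃ x : P, x = g ^ (p ^ j) := ⟨_, rfl⟩
  have hxo : orderOf x = p := by
    rw [hxdef, orderOf_pow_of_dvd (pow_ne_zero _ hpp.ne_zero)
      (hk ▸ pow_dvd_pow p (Nat.le_succ j)), hk, pow_succ,
      Nat.mul_div_cancel_left _ (pow_pos hpp.pos j)]
  have hxa : x • a = a := by
    have : g ∈ MulAction.stabilizer P a := MulAction.mem_stabilizer_iff.mpr hga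
    rw [hxdef]
    exact MulAction.mem_stabilizer_iff.mp (Subgroup.pow_mem _ this _)
  apply central_fpf hpp.ne_one hcop hconst (Subgroup.zpowers x) ?_
    (by rw [Nat.card_zpowers, hxo]) a
  · intro y hy
    have : Subgroup.zpowers x ≤ MulAction.stabilizer P a :=
      Subgroup.zpowers_le.mpr (MulAction.mem_stabilizer_iff.mpr hxa)
    exact MulAction.mem_stabilizer_iff.mp (this hy)
  · intro y _
    rw [Subgroup.mem_center_iff]
    intro w
    exact hcomm w y

end Cfsg.Agent.S1160
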