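import Cfsg.Statements.S1166
import Mathlib
import Cfsg.Agent.Lib.Helper20.RankOne

set_option autoImplicit false
open Cfsg Cfsg.Agent.Helper20

namespace Cfsg.Agent.S1166

/-- In the rank-one set-up (`G` finite and doubly transitive on `Ω`, `t` an involution moving `a`, `Q` normal in `G_a` with `G_a = Q D`, `Q ⊓ D = 1` for the two-point stabiliser `D = G_a ⊓ G_{t • a}`, `|Q|` even, `|D|` odd), with `t x t = g_x h_x t f_x` and `t y t = g_y h_y t f_y` (`g, f ∈ Q`, `h ∈ D`) for `x, y ∈ Q ∖ 1` with `x y ≠ 1`: then `z = f_x g_y ≠ 1`, and if `t z t = g_z h_z t f_z` and `t (x y) t = g' h' t f'` then `f' = (t h_y t)⁻¹ f_z (t h_y t) f_y` and `h' = h_x h_z h_y` (H6). -/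
theorem result {G Ω : Type*} [Group G] [Finite G] [MulAction G Ω] {a : Ω} {t : G} {Q : Subgroup G}
    (hS : Cfsg.IsRankOneSetup G Ω a t Q)
    (x y gx hx fx gy hy fy : G) (hxQ : x ∈ Q) (hx1 : x ≠ 1) (hyQ : y ∈ Q) (hy1 : y ≠ 1) (hxy : x * y ≠ 1)
    (hgx : gx ∈ Q) (hhx : hx ∈ (MulAction.stabilizer G a ⊓ MulAction.stabilizer G (t • a))) (hfx : fx ∈ Q) (ex : t * x * t = gx * hx * t * fx)
    (hgy : gy ∈ Q) (hhy : hy ∈ (MulAction.stabilizer G a ⊓ MulAction.stabilizer G (t • a))) (hfy : fy ∈ Q) (ey : t * y * t = gy * hy * t * fy) :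
    fx * gy ≠ 1 ∧
      ∀ gz hz fz g' h' f' : G, gz ∈ Q → hz ∈ (MulAction.stabilizer G a ⊓ MulAction.stabilizer G (t • a)) → fz ∈ Q → t * (fx * gy) * t = gz * hz * t * fz →
        g' ∈ Q → h' ∈ (MulAction.stabilizer G a ⊓ MulAction.stabilizer G (t • a)) → f' ∈ Q → t * (x * y) * t = g' * h' * t * f' →
          f' = (t * hy * t)⁻¹ * fz * (t * hy * t) * fy ∧ h' = hx * hz * hy := by
  have hti := r1_t_inv hS
  have htt := hS.mul_self
  have hprod : t * (x * y) * t = gx * hx * t * (fx * gy) * hy * t * fy := by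
    calc t * (x * y) * t = t * x * 1 * y * t := by group
      _ = t * x * (t * t) * y * t := by rw [htt]
      _ = (t * x * t) * (t * y * t) := by group
      _ = (gx * hx * t * fx) * (gy * hy * t * fy) := by rw [ex, ey]
      _ = _ := by group
  refine ⟨?_, ?_⟩
  · intro h1
    apply hxy
    have hmem : t * (x * y) * t ∈ MulAction.stabilizer G a := by
      rw [hprod, h1]
      have e : gx * hx * t * 1 * hy * t * fy = gx * hx * (t * hy * t) * fy := by group
      rw [e]
      have hd := r1_D_conj hS hhy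
      exact Subgroup.mul_mem _ (Subgroup.mul_mem _ (Subgroup.mul_mem _ (hS.le hgx)
        (Subgroup.mem_inf.mp hhx).1) (Subgroup.mem_inf.mp hd).1) (hS.le hfy)
    have h2 : x * y ∈ Q ⊓ MulAction.stabilizer G (t • a) := by
      refine Subgroup.mem_inf.mpr ⟨Subgroup.mul_mem _ hxQ hyQ, ?_⟩
      rw [MulAction.mem_stabilizer_iff] at hmem ⊢
      rw [mul_smul, mul_smul] at hmem
      have := congrArg (fun w => t • w) hmem
      simp only [r1_tt_smul hS] at this
      exact this
    rw [hS.inf_eq_bot, Subgroup.mem_bot] at h2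
    exact h2
  · intro gz hz fz g' h' f' hgz hhz hfz ez hg' hh' hf' e'
    have hd := r1_D_conj hS hhy
    have htdt : t * (t * hy * t) * t = hy := by
      calc t * (t * hy * t) * t = (t * t) * hy * (t * t) := by group
        _ = hy := by rw [htt, one_mul, mul_one]
    have key : t * (x * y) * t = (gx * (hx * gz * hx⁻¹)) * (hx * hz * hy) * t *
        ((t * hy * t)⁻¹ * fz * (t * hy * t) * fy) := by
      rw [hprod]
      have h1 : t * (fx * gy) = gz * hz * t * fz * t := by
        calc t * (fx * gy) = t * (fx * gy) * 1 := by group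
          _ = t * (fx * gy) * (t * t) := by rw [htt]
          _ = (t * (fx * gy) * t) * t := by group
          _ = _ := by rw [ez]
      calc gx * hx * t * (fx * gy) * hy * t * fy = gx * hx * (t * (fx * gy)) * hy * t * fy := by group
        _ = gx * hx * (gz * hz * t * fz * t) * hy * t * fy := by rw [h1]
        _ = gx * hx * gz * hz * t * fz * (t * hy * t) * fy := by group
        _ = _ := ?_
      generalize hd_def : t * hy * t = d at *
      have h2 : t * d = hy * t := by
        calc t * d = (t * d * t) * t⁻¹ := by group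
          _ = hy * t := by rw [htdt, hti]
      calc gx * hx * gz * hz * t * fz * d * fy = gx * hx * gz * hz * (t * d) * (d⁻¹ * fz * d) * fy := by group
        _ = gx * hx * gz * hz * (hy * t) * (d⁻¹ * fz * d) * fy := by rw [h2]
        _ = _ := by group
    have m1 : gx * (hx * gz * hx⁻¹) ∈ Q := Subgroup.mul_mem _ hgx (r1_Q_conj hS hhx hgz)
    have m2 : hx * hz * hy ∈ MulAction.stabilizer G a ⊓ MulAction.stabilizer G (t • a) :=
      Subgroup.mul_mem _ (Subgroup.mul_mem _ hhx hhz) hhy
    have m3 : (t * hy * t)⁻¹ * fz * (t * hy * t) * fy ∈ Q :=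
      Subgroup.mul_mem _ (r1_Q_conj' hS hd hfz) hfy
    have := r1_unique hS hg' hh' hf' m1 m2 m3 (e'.symm.trans key)
    exact ⟨this.2.2, this.2.1⟩


end Cfsg.Agent.S1166
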