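import Cfsg.Statements.S1167
import Cfsg.Agent.Lib.Helper19.ZassStructEq
import Cfsg.Agent.Lib.Helper4.ZassFeitAbel

set_option autoImplicit false
open Cfsg

namespace Cfsg.Agent.S1167

/-- Let `G` be a finite simple Zassenhaus group on `Ω`, `U` a normal subgroup of `G_a` regular on `Ω` minus `a` which is an abelian 2-group, and `v` an involution with `v • a ≠ a`. Then there is a unique `u₀ ∈ U`, `u₀ ≠ 1`, with `v u₀ v = u₀ v u₀`. -/
theorem result {G Ω : Type*} [Group G] [Finite G] [MulAction G Ω] [Finite Ω]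
    (hZ : Cfsg.IsZassenhausGroup G Ω) [IsSimpleGroup G] {a : Ω}
    (U : Subgroup G) (hUle : U ≤ MulAction.stabilizer G a)
    (hUn : ∀ h ∈ MulAction.stabilizer G a, ∀ u ∈ U, h * u * h⁻¹ ∈ U)
    (hreg : ∀ c d : Ω, c ≠ a → d ≠ a → ∃! u : U, (u : G) • c = d)
    (hU2 : IsPGroup 2 U) (hUab : ∀ u ∈ U, ∀ u' ∈ U, u * u' = u' * u)
    (v : G) (hv1 : v ≠ 1) (hv2 : v * v = 1) (hva : v • a ≠ a) :
    ∃! u₀ : G, u₀ ∈ U ∧ u₀ ≠ 1 ∧ v * u₀ * v = u₀ * v * u₀ := by
  classical
  haveI : Fintype Ω := Fintype.ofFinite Ω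
  have hva' : a ≠ v • a := fun h => hva h.symm
  -- `U` as the Frobenius kernel
  have hUfix : ∀ u ∈ U, u ≠ 1 → ∀ c : Ω, u • c = c → c = a := by
    intro u hu hu1 c hc
    by_contra hca
    obtain ⟨w, _, hw⟩ := hreg c c hca hca
    have h1 := hw ⟨u, hu⟩ hc
    have h2 := hw 1 (one_smul _ _)
    exact hu1 (congrArg Subtype.val (h1.trans h2.symm))
  have hUa : ∀ u ∈ U, u • a = a := fun u hu => MulAction.mem_stabilizer_iff.mp (hUle hu)
  have h3 : 3 ≤ Fintype.card Ω := Cfsg.Agent.Helper96.zass_card_ge_three hZ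
  have hUcard : Nat.card U + 1 = Fintype.card Ω := by
    have e : U ≃ {z : Ω // ¬ z = a} := Equiv.ofBijective
      (fun u => ⟨(u : G) • (v • a), by
        intro h
        have : (u : G) • (v • a) = (u : G) • a := by rw [h, hUa u u.2]
        exact hva (smul_left_cancel _ this)⟩) ⟨by
          intro u w huw
          have huw' : (u : G) • (v • a) = (w : G) • (v • a) := congrArg Subtype.val huw
          obtain ⟨x, _, hx⟩ := hreg (v • a) ((w : G) • (v • a)) hva (by
            intro h
            have : (w : G) • (v • a) = (w : G) • a := by rw [h, hUa w w.2]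
            exact hva (smul_left_cancel _ this))
          exact (hx u huw').trans (hx w rfl).symm, by
          rintro ⟨z, hz⟩
          obtain ⟨u, hu, -⟩ := hreg (v • a) z hva hz
          exact ⟨u, Subtype.ext hu⟩⟩
    rw [Nat.card_congr e, Nat.card_eq_fintype_card, Fintype.card_subtype_compl,
      Fintype.card_subtype_eq]
    omega
  -- the two-point stabiliser has odd order
  have hfree : ∀ g : G, g • a = a → g • (v • a) = v • a → ∀ y : Ω, y ≠ a → y ≠ v • a →
      g • y = y → g = 1 :=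
    fun g ha hb y hya hyb hy => hZ.2.2.1 g a (v • a) y hva' (Ne.symm hyb) (Ne.symm hya) ha hb hy
  have hdvd : Nat.card ↥(MulAction.stabilizer G a ⊓ MulAction.stabilizer G (v • a)) ∣
      Nat.card U - 1 :=
    Cfsg.Agent.S0738.card_sub_one_dvd hfree hva' U hUle
      (fun u hu hub => by
        by_contra hu1
        exact hva (hUfix u hu hu1 _ hub))
      (fun h hh u hu => hUn h (Subgroup.mem_inf.mp hh).1 u hu)
  have hodd : Odd (Nat.card ↥(MulAction.stabilizer G a ⊓ MulAction.stabilizer G (v • a))) := by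
    apply Odd.of_dvd_nat _ hdvd
    obtain ⟨k, hk⟩ := IsPGroup.exists_card_eq hU2
    have hk0 : k ≠ 0 := by
      rintro rfl
      rw [pow_zero] at hk
      omega
    rw [hk]
    have : Even (2 ^ k) := (Nat.even_pow' hk0).mpr even_two
    have hpos : 0 < 2 ^ k := by positivity
    exact Nat.Even.sub_odd hpos this odd_one
  have hbound := Cfsg.Agent.Helper4.ZassFeitAbel.bound hZ hva' hodd U hUle hUcard hUfix hUab
  exact Cfsg.Agent.Helper19.ZassStructEq.structure_equation hZ U hUle hUn hreg hU2 v hv1 hv2 hva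
    hbound

end Cfsg.Agent.S1167
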