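import Cfsg.Statements.S1176
import Mathlib
import Cfsg.Agent.Lib.Helper20.Isolated

set_option autoImplicit false
open Cfsg Cfsg.Agent.Helper20
open scoped commutatorElement

namespace Cfsg.Agent.S1176

/-- Let x₀ be an involution of the finite group G and D its conjugacy class. Assume (a) for each x ∈ D the subgroup W(x) generated by the members of D commuting with x is a 2-group of nilpotency class at most 2, and (b) the product of two distinct commuting members of D again lies in D. Then for all x, y ∈ D, if xy has even order greater than 2, its order is 4. -/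
theorem result {G : Type*} [Group G] [Finite G] (x₀ : G) (hx₀ : orderOf x₀ = 2) (ha : ∀ x : G, IsConj x₀ x → IsPGroup 2 ↥(Subgroup.closure {y : G | IsConj x₀ y ∧ Commute y x}) ∧ ⁅⁅Subgroup.closure {y : G | IsConj x₀ y ∧ Commute y x}, Subgroup.closure {y : G | IsConj x₀ y ∧ Commute y x}⁆, Subgroup.closure {y : G | IsConj x₀ y ∧ Commute y x}⁆ = ⊥) (hb : ∀ x y : G, IsConj x₀ x → IsConj x₀ y → x ≠ y → Commute x y → IsConj x₀ (x * y)) (x y : G) (hx : IsConj x₀ x) (hy : IsConj x₀ y) (heven : Even (orderOf (x * y))) (hgt : 2 < orderOf (x * y)) : orderOf (x * y) = 4 := by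
  have hx02 : x₀ * x₀ = 1 := by
    have h2 : x₀ ^ 2 = 1 := by rw [← hx₀]; exact pow_orderOf_eq_one x₀
    rwa [pow_two] at h2
  have conj_sq : ∀ w : G, IsConj x₀ w → w * w = 1 := by
    intro w hw
    obtain ⟨c, hc⟩ := isConj_iff.mp hw
    rw [← hc]
    calc c * x₀ * c⁻¹ * (c * x₀ * c⁻¹) = c * (x₀ * x₀) * c⁻¹ := by group
      _ = 1 := by rw [hx02]; group

  have hxx := conj_sq x hx
  have hyy := conj_sq y hy
  obtain ⟨k, hk⟩ := heven
  have hk0 : 0 < k := by omega
  have hu2 : ((x * y) ^ k) * ((x * y) ^ k) = 1 := by rw [← pow_add, ← hk, pow_orderOf_eq_one]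
  have hu1 : (x * y) ^ k ≠ 1 := by
    intro h
    have := orderOf_le_of_pow_eq_one hk0 h
    omega
  have hux : x * (x * y) ^ k * x⁻¹ = (x * y) ^ k := by
    rw [invol_conj_pow hxx hyy]; exact inv_eq_of_mul_eq_one_left hu2
  have huy : y * (x * y) ^ k * y⁻¹ = (x * y) ^ k := by
    rw [invol_conj_pow' hxx hyy]; exact inv_eq_of_mul_eq_one_left hu2
  have hcux : x * (x * y) ^ k = (x * y) ^ k * x := by
    calc x * (x * y) ^ k = (x * (x * y) ^ k * x⁻¹) * x := by group
      _ = _ := by rw [hux]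
  have hcuy : y * (x * y) ^ k = (x * y) ^ k * y := by
    calc y * (x * y) ^ k = (y * (x * y) ^ k * y⁻¹) * y := by group
      _ = _ := by rw [huy]
  -- w = u * x is in D
  have hw : IsConj x₀ ((x * y) ^ k * x) := by
    rcases Nat.even_or_odd' k with ⟨j, hj | hj⟩
    · have : (x * y) ^ k * x = (x * y) ^ j * x * ((x * y) ^ j)⁻¹ := by
        rw [rot_conj_z hxx hyy, hj]
      rw [this]
      exact hx.trans (isConj_iff.mpr ⟨_, rfl⟩)
    · have : (x * y) ^ k * x = (x * y) ^ (j+1) * y * ((x * y) ^ (j+1))⁻¹ := by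
        rw [rot_conj_t hxx hyy, hj]
        have e : (x * y) ^ (2 * (j + 1)) = (x * y) ^ (2 * j + 1) * (x * y) := by
          rw [← pow_succ]; congr 1
        rw [e, mul_assoc ((x * y) ^ (2 * j + 1)), mul_assoc x y y, hyy, mul_one]
      rw [this]
      exact hy.trans (isConj_iff.mpr ⟨_, rfl⟩)
  have hwne : x ≠ (x * y) ^ k * x := by
    intro h
    apply hu1
    have : 1 * x = (x * y) ^ k * x := by rw [one_mul]; exact h
    exact (mul_right_cancel this).symm
  have hcomm : Commute x ((x * y) ^ k * x) := by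
    show x * ((x * y) ^ k * x) = (x * y) ^ k * x * x
    rw [← mul_assoc, hcux]
  have hu : IsConj x₀ ((x * y) ^ k) := by
    have := hb x _ hx hw hwne hcomm
    have e : x * ((x * y) ^ k * x) = (x * y) ^ k := by
      rw [← mul_assoc, hcux, mul_assoc, hxx, mul_one]
    rwa [e] at this
  obtain ⟨-, hcl⟩ := ha _ hu
  set W := Subgroup.closure {y' : G | IsConj x₀ y' ∧ Commute y' ((x * y) ^ k)} with hW
  have hxW : x ∈ W := Subgroup.subset_closure ⟨hx, hcux⟩
  have hyW : y ∈ W := Subgroup.subset_closure ⟨hy, hcuy⟩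
  have h1 : ⁅⁅x, y⁆, x⁆ ∈ ⁅⁅W, W⁆, W⁆ :=
    Subgroup.commutator_mem_commutator (Subgroup.commutator_mem_commutator hxW hyW) hxW
  rw [hcl, Subgroup.mem_bot] at h1
  have hxi := invol_inv hxx
  have hyi := invol_inv hyy
  have e1 : ⁅x, y⁆ = (x * y) ^ 2 := by
    rw [commutatorElement_def, hxi, hyi, pow_two]; group
  have e2 : ⁅(x * y) ^ 2, x⁆ = (x * y) ^ 4 := by
    rw [commutatorElement_def]
    have := invol_conj_pow hxx hyy 2
    calc (x * y) ^ 2 * x * ((x * y) ^ 2)⁻¹ * x⁻¹ = (x * y) ^ 2 * (x * (x * y) ^ 2 * x⁻¹)⁻¹ := by group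
      _ = (x * y) ^ 2 * (x * y) ^ 2 := by rw [this, inv_inv]
      _ = (x * y) ^ 4 := by rw [← pow_add]
  rw [e1, e2] at h1
  have hd : orderOf (x * y) ∣ 4 := orderOf_dvd_of_pow_eq_one h1
  have hle : orderOf (x * y) ≤ 4 := Nat.le_of_dvd (by norm_num) hd
  have : orderOf (x * y) ≠ 3 := by
    intro h3; rw [h3] at hd; norm_num at hd
  omega


end Cfsg.Agent.S1176
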