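import Cfsg.Statements.S1177
import Mathlib

set_option autoImplicit false
open Cfsg

namespace Cfsg.Agent.S1177

/-- Let A be a nontrivial elementary abelian 2-subgroup of a finite group G which is a T.I. set (each conjugate of A meets A trivially or equals A) and which does not commute elementwise with any conjugate of A other than A itself. Then for every a ∈ A, a ≠ 1, every conjugate of A contained in C_G(a) is equal to A (A is weakly closed in C_G(a)). -/
theorem result {G : Type*} [Group G] [Finite G] (A : Subgroup G) (hA : Cfsg.IsElementaryAbelian 2 A) (hA1 : A ≠ ⊥) (hTI : ∀ g : G, A.map (MulAut.conj g).toMonoidHom ⊓ A = ⊥ ∨ A.map (MulAut.conj g).toMonoidHom = A) (hb : ∀ g : G, (∀ a ∈ A, ∀ b ∈ A.map (MulAut.conj g).toMonoidHom, a * b = b * a) → A.map (MulAut.conj g).toMonoidHom = A) (a : G) (ha : a ∈ A) (ha1 : a ≠ 1) (g : G) (hg : A.map (MulAut.conj g).toMonoidHom ≤ Subgroup.centralizer ({a} : Set G)) : A.map (MulAut.conj g).toMonoidHom = A := by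
  -- notation-free helper facts
  have mem_conj : ∀ (K : Subgroup G) (k x : G),
      x ∈ K.map (MulAut.conj k).toMonoidHom ↔ k⁻¹ * x * k ∈ K := by
    intro K k x
    constructor
    · rintro ⟨y, hy, rfl⟩
      have : k⁻¹ * (MulAut.conj k).toMonoidHom y * k = y := by
        simp [MulAut.conj_apply, mul_assoc]
      rw [this]; exact hy
    · intro h
      refine ⟨k⁻¹ * x * k, h, ?_⟩
      simp [MulAut.conj_apply, mul_assoc]
  have conj_conj : ∀ (K : Subgroup G) (k h : G),
      (K.map (MulAut.conj k).toMonoidHom).map (MulAut.conj h).toMonoidHom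
        = K.map (MulAut.conj (h * k)).toMonoidHom := by
    intro K k h
    ext x
    rw [mem_conj, mem_conj, mem_conj]
    have : k⁻¹ * (h⁻¹ * x * h) * k = (h * k)⁻¹ * x * (h * k) := by group
    rw [this]
  obtain ⟨hAc, hA2⟩ := hA
  have hAcomm : ∀ x ∈ A, ∀ y ∈ A, x * y = y * x := by
    intro x hx y hy
    have := hAc.is_comm.comm ⟨x, hx⟩ ⟨y, hy⟩
    exact congrArg Subtype.val this
  have hAsq : ∀ x ∈ A, x * x = 1 := by
    intro x hx; have := hA2 x hx; rwa [pow_two] at this
  have hAinv : ∀ x ∈ A, x⁻¹ = x := fun x hx => inv_eq_of_mul_eq_one_left (hAsq x hx)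
  set B := A.map (MulAut.conj g).toMonoidHom with hB
  have hBmem : ∀ x, x ∈ B ↔ g⁻¹ * x * g ∈ A := fun x => mem_conj A g x
  have hBcomm : ∀ x ∈ B, ∀ y ∈ B, x * y = y * x := by
    intro x hx y hy
    have := hAcomm _ ((hBmem x).mp hx) _ ((hBmem y).mp hy)
    have e : x * y = g * ((g⁻¹ * x * g) * (g⁻¹ * y * g)) * g⁻¹ := by group
    rw [e, this]; group
  have hBsq : ∀ x ∈ B, x * x = 1 := by
    intro x hx
    have := hAsq _ ((hBmem x).mp hx)
    have e : x * x = g * ((g⁻¹ * x * g) * (g⁻¹ * x * g)) * g⁻¹ := by group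
    rw [e, this]; group
  -- TI and the non-commuting condition for B
  have hTIB : ∀ h : G, B.map (MulAut.conj h).toMonoidHom ⊓ B = ⊥ ∨
      B.map (MulAut.conj h).toMonoidHom = B := by
    intro h
    rcases hTI (g⁻¹ * h * g) with h1 | h1
    · left
      rw [eq_bot_iff]
      intro x hx
      obtain ⟨hx1, hx2⟩ := Subgroup.mem_inf.mp hx
      rw [mem_conj, hBmem] at hx1
      rw [hBmem] at hx2
      have : g⁻¹ * x * g ∈ A.map (MulAut.conj (g⁻¹ * h * g)).toMonoidHom ⊓ A := by
        refine Subgroup.mem_inf.mpr ⟨?_, hx2⟩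
        rw [mem_conj]
        have e : (g⁻¹ * h * g)⁻¹ * (g⁻¹ * x * g) * (g⁻¹ * h * g) = g⁻¹ * (h⁻¹ * x * h) * g := by
          group
        rw [e]; exact hx1
      rw [h1, Subgroup.mem_bot] at this
      rw [Subgroup.mem_bot]
      have e : x = g * (g⁻¹ * x * g) * g⁻¹ := by group
      rw [e, this]; group
    · right
      rw [hB, conj_conj]
      have : h * g = g * (g⁻¹ * h * g) := by group
      rw [this, ← conj_conj, h1]
  have hbB : ∀ h : G, (∀ b ∈ B, ∀ b' ∈ B.map (MulAut.conj h).toMonoidHom, b * b' = b' * b) →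
      B.map (MulAut.conj h).toMonoidHom = B := by
    intro h hcomm
    have key := hb (g⁻¹ * h * g) ?_
    · rw [hB, conj_conj]
      have : h * g = g * (g⁻¹ * h * g) := by group
      rw [this, ← conj_conj, key]
    · intro a₁ ha₁ b₁ hb₁
      rw [mem_conj] at hb₁
      have m1 : g * a₁ * g⁻¹ ∈ B := by
        rw [hBmem]
        have : g⁻¹ * (g * a₁ * g⁻¹) * g = a₁ := by group
        rw [this]; exact ha₁
      have m2 : g * b₁ * g⁻¹ ∈ B.map (MulAut.conj h).toMonoidHom := by
        rw [mem_conj, hBmem]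
        have : g⁻¹ * (h⁻¹ * (g * b₁ * g⁻¹) * h) * g
            = (g⁻¹ * h * g)⁻¹ * b₁ * (g⁻¹ * h * g) := by group
        rw [this]; exact hb₁
      have := hcomm _ m1 _ m2
      have e : a₁ * b₁ = g⁻¹ * ((g * a₁ * g⁻¹) * (g * b₁ * g⁻¹)) * g := by group
      rw [e, this]; group
  -- main argument
  apply hb g
  rcases hTI g with hdis | heq
  swap
  · intro x hx y hy
    rw [heq] at hy
    exact hAcomm x hx y hy
  have hdisj : ∀ x, x ∈ A → x ∈ B → x = 1 := by
    intro x hxA hxB
    have : x ∈ B ⊓ A := Subgroup.mem_inf.mpr ⟨hxB, hxA⟩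
    rw [hdis, Subgroup.mem_bot] at this
    exact this
  -- Step 1: B normalizes A
  have step1 : ∀ b ∈ B, ∀ x ∈ A, b * x * b⁻¹ ∈ A := by
    intro b hbB' x hx
    have hba : b * a = a * b := by
      have := Subgroup.mem_centralizer_iff.mp (hg hbB') a rfl
      exact this.symm
    have hAb : A.map (MulAut.conj b).toMonoidHom = A := by
      rcases hTI b with h1 | h1
      · exfalso
        apply ha1
        have : a ∈ A.map (MulAut.conj b).toMonoidHom ⊓ A := by
          refine Subgroup.mem_inf.mpr ⟨?_, ha⟩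
          rw [mem_conj]
          have : b⁻¹ * a * b = a := by
            calc b⁻¹ * a * b = b⁻¹ * (a * b) := by group
              _ = b⁻¹ * (b * a) := by rw [hba]
              _ = a := by group
          rw [this]; exact ha
        rw [h1, Subgroup.mem_bot] at this
        exact this
      · exact h1
    rw [← hAb, mem_conj]
    have : b⁻¹ * (b * x * b⁻¹) * b = x := by group
    rw [this]; exact hx
  -- Step 3
  have step3 : ∀ c ∈ A, ∀ b₀ ∈ B, b₀ ≠ 1 → c * b₀ = b₀ * c → ∀ b ∈ B, c * b = b * c := by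
    intro c hc b₀ hb₀ hb₀1 hcb b hbB'
    have hBc : B.map (MulAut.conj c).toMonoidHom = B := by
      rcases hTIB c with h1 | h1
      · exfalso
        apply hb₀1
        have : b₀ ∈ B.map (MulAut.conj c).toMonoidHom ⊓ B := by
          refine Subgroup.mem_inf.mpr ⟨?_, hb₀⟩
          rw [mem_conj]
          have : c⁻¹ * b₀ * c = b₀ := by
            calc c⁻¹ * b₀ * c = c⁻¹ * (b₀ * c) := by group
              _ = c⁻¹ * (c * b₀) := by rw [hcb]
              _ = b₀ := by group
          rw [this]; exact hb₀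
        rw [h1, Subgroup.mem_bot] at this
        exact this
      · exact h1
    have m1 : c * b * c⁻¹ ∈ B := by
      rw [← hBc, mem_conj]
      have : c⁻¹ * (c * b * c⁻¹) * c = b := by group
      rw [this]; exact hbB'
    have m2 : c * b * c⁻¹ * b⁻¹ ∈ B := B.mul_mem m1 (B.inv_mem hbB')
    have m3 : c * b * c⁻¹ * b⁻¹ ∈ A := by
      have : c * b * c⁻¹ * b⁻¹ = c * (b * c⁻¹ * b⁻¹) := by group
      rw [this]
      exact A.mul_mem hc (step1 b hbB' _ (A.inv_mem hc))
    have := hdisj _ m3 m2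
    calc c * b = (c * b * c⁻¹ * b⁻¹) * b * c := by group
      _ = b * c := by rw [this, one_mul]
  -- Step 4: the commutator c = a' b a'⁻¹ b⁻¹ is in A and centralizes B
  have step4 : ∀ a' ∈ A, ∀ b ∈ B, a' * b * a'⁻¹ * b⁻¹ ∈ A ∧
      ∀ b' ∈ B, (a' * b * a'⁻¹ * b⁻¹) * b' = b' * (a' * b * a'⁻¹ * b⁻¹) := by
    intro a' ha' b hbB'
    have mA : a' * b * a'⁻¹ * b⁻¹ ∈ A := by
      have : a' * b * a'⁻¹ * b⁻¹ = a' * (b * a'⁻¹ * b⁻¹) := by group
      rw [this]
      exact A.mul_mem ha' (step1 b hbB' _ (A.inv_mem ha'))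
    refine ⟨mA, ?_⟩
    by_cases hb1 : b = 1
    · subst hb1
      intro b' _
      have : a' * 1 * a'⁻¹ * 1⁻¹ = 1 := by group
      rw [this, one_mul, mul_one]
    · apply step3 _ mA b hbB' hb1
      -- c commutes with b
      have hbi : b⁻¹ = b := inv_eq_of_mul_eq_one_left (hBsq b hbB')
      have hai : a'⁻¹ = a' := hAinv a' ha'
      have hbab : b * a' * b ∈ A := by
        have := step1 b hbB' a' ha'
        rwa [hbi] at this
      rw [hai, hbi]
      have h1 : a' * (b * a' * b) = (b * a' * b) * a' := hAcomm _ ha' _ hbab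
      calc a' * b * a' * b * b = (a' * (b * a' * b)) * b := by group
        _ = ((b * a' * b) * a') * b := by rw [h1]
        _ = b * (a' * b * a' * b) := by group
  -- Step 5: A normalizes B
  have step5 : ∀ a' ∈ A, ∀ b ∈ B, a' * b * a'⁻¹ ∈ B := by
    intro a' ha' b hbB'
    have hBa : B.map (MulAut.conj a').toMonoidHom = B := by
      apply hbB
      intro b₁ hb₁ b₂ hb₂
      rw [mem_conj] at hb₂
      obtain ⟨-, hc⟩ := step4 a' ha' _ hb₂
      -- b₂ = a' b₃ a'⁻¹ with b₃ := a'⁻¹ b₂ a'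
      have e : b₂ = (a' * (a'⁻¹ * b₂ * a') * a'⁻¹ * (a'⁻¹ * b₂ * a')⁻¹) * (a'⁻¹ * b₂ * a') := by group
      have h1 := hc b₁ hb₁
      have h2 := hBcomm _ hb₂ _ hb₁
      rw [e]
      generalize a' * (a'⁻¹ * b₂ * a') * a'⁻¹ * (a'⁻¹ * b₂ * a')⁻¹ = c at *
      generalize a'⁻¹ * b₂ * a' = b₃ at *
      calc b₁ * (c * b₃) = (b₁ * c) * b₃ := by group
        _ = (c * b₁) * b₃ := by rw [h1]
        _ = c * (b₁ * b₃) := by group
        _ = c * (b₃ * b₁) := by rw [h2]
        _ = c * b₃ * b₁ := by group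
    rw [← hBa, mem_conj]
    have : a'⁻¹ * (a' * b * a'⁻¹) * a' = b := by group
    rw [this]; exact hbB'
  -- Step 6
  intro a' ha' b hbB'
  have m1 : a' * b * a'⁻¹ * b⁻¹ ∈ B := B.mul_mem (step5 a' ha' b hbB') (B.inv_mem hbB')
  have m2 := (step4 a' ha' b hbB').1
  have := hdisj _ m2 m1
  calc a' * b = (a' * b * a'⁻¹ * b⁻¹) * b * a' := by group
    _ = b * a' := by rw [this, one_mul]


end Cfsg.Agent.S1177
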