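import Cfsg.Statements.S1178
import Mathlib

set_option autoImplicit false
open Cfsg

namespace Cfsg.Agent.S1178

/-- Let A be a subgroup of a Sylow 2-subgroup S of the finite group G which is weakly closed in S. If a conjugate g A g⁻¹ commutes elementwise with A, then g A g⁻¹ = A. -/
theorem result {G : Type*} [Group G] [Finite G] (S : Sylow 2 G) (A : Subgroup G) (hW : Cfsg.IsWeaklyClosed A (S : Subgroup G)) (g : G) (hc : ∀ a ∈ A, ∀ b ∈ A.map (MulAut.conj g).toMonoidHom, a * b = b * a) : A.map (MulAut.conj g).toMonoidHom = A := by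
  have : Fact (Nat.Prime 2) := ⟨Nat.prime_two⟩
  have hA2 : IsPGroup 2 A := S.isPGroup'.to_le hW.1
  have hB2 : IsPGroup 2 (A.map (MulAut.conj g).toMonoidHom) := hA2.map _
  have hnorm : A ≤ Subgroup.normalizer ((A.map (MulAut.conj g).toMonoidHom : Subgroup G) : Set G) := by
    intro a ha
    rw [Subgroup.mem_normalizer_iff]
    intro b
    constructor
    · intro hb
      have := hc a ha b hb
      have e : a * b * a⁻¹ = b := by rw [this]; group
      rw [e]; exact hb
    · intro hb
      have := hc a ha _ hb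
      have e : a * b * a⁻¹ = b := by
        have h2 : a * (a * b * a⁻¹) = a * b := by rw [this]; group
        exact mul_left_cancel h2
      rw [← e]; exact hb
  have hAB : IsPGroup 2 (A ⊔ A.map (MulAut.conj g).toMonoidHom : Subgroup G) :=
    IsPGroup.to_sup_of_normal_right' hA2 hB2 hnorm
  obtain ⟨Q, hQ⟩ := hAB.exists_le_sylow
  obtain ⟨h, hh⟩ := MulAction.exists_smul_eq G Q S
  have hmem : ∀ x ∈ (Q : Subgroup G), h * x * h⁻¹ ∈ (S : Subgroup G) := by
    intro x hx
    rw [← hh, Sylow.coe_subgroup_smul]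
    have := Subgroup.smul_mem_pointwise_smul x (MulAut.conj h) (Q : Subgroup G) hx
    simpa using this
  have h1 : A.map (MulAut.conj h).toMonoidHom ≤ S := by
    rintro _ ⟨a, ha, rfl⟩
    exact hmem a (hQ (Subgroup.mem_sup_left ha))
  have h2 : A.map (MulAut.conj (h * g)).toMonoidHom ≤ S := by
    rintro _ ⟨a, ha, rfl⟩
    have : g * a * g⁻¹ ∈ A.map (MulAut.conj g).toMonoidHom := ⟨a, ha, rfl⟩
    have := hmem _ (hQ (Subgroup.mem_sup_right this))
    have e : (MulAut.conj (h * g)).toMonoidHom a = h * (g * a * g⁻¹) * h⁻¹ := by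
      simp [MulAut.conj_apply, mul_assoc]
    rw [e]; exact this
  have e1 := hW.2 h h1
  have e2 := hW.2 (h * g) h2
  ext x
  constructor
  · rintro ⟨a, ha, rfl⟩
    -- g a g⁻¹ ∈ A : h (g a g⁻¹) h⁻¹ ∈ A, and A^h = A
    have m1 : (MulAut.conj (h * g)).toMonoidHom a ∈ A := by
      rw [← e2]; exact ⟨a, ha, rfl⟩
    rw [← e1] at m1
    obtain ⟨a', ha', hx⟩ := m1
    have : (MulAut.conj g).toMonoidHom a = a' := by
      simp only [MulEquiv.toMonoidHom_eq_coe, MonoidHom.coe_coe, MulAut.conj_apply] at hx ⊢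
      have : h * a' * h⁻¹ = h * (g * a * g⁻¹) * h⁻¹ := by rw [hx]; group
      exact (mul_left_cancel (mul_right_cancel this)).symm
    rw [this]; exact ha'
  · intro hx
    -- x ∈ A ; h x h⁻¹ ∈ A = A^(hg)
    have m1 : (MulAut.conj h).toMonoidHom x ∈ A := by
      rw [← e1]; exact ⟨x, hx, rfl⟩
    rw [← e2] at m1
    obtain ⟨a', ha', hx'⟩ := m1
    refine ⟨a', ha', ?_⟩
    simp only [MulEquiv.toMonoidHom_eq_coe, MonoidHom.coe_coe, MulAut.conj_apply] at hx' ⊢
    have : h * (g * a' * g⁻¹) * h⁻¹ = h * x * h⁻¹ := by rw [← hx']; group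
    exact mul_left_cancel (mul_right_cancel this)


end Cfsg.Agent.S1178
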