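import Cfsg.Statements.S1182
import Mathlib
import Cfsg.Agent.Lib.Helper20.Isolated

set_option autoImplicit false
open Cfsg Cfsg.Agent.Helper20

namespace Cfsg.Agent.S1182

/-- Let z be an isolated involution of the finite group G and H a subgroup normalized by z. If x, y ∈ H both commute with z and y = h x h⁻¹ for some h ∈ H, then y = c x c⁻¹ for some c ∈ H commuting with z. -/
theorem result {G : Type*} [Group G] [Finite G] (z : G) (hz : Cfsg.IsIsolatedInvolution z) (H : Subgroup G) (hzH : z ∈ Subgroup.normalizer (H : Set G)) (x y : G) (hx : x ∈ H) (hy : y ∈ H) (hxz : Commute x z) (hyz : Commute y z) (h : G) (hh : h ∈ H) (hconj : h * x * h⁻¹ = y) : ∃ c ∈ H, Commute c z ∧ c * x * c⁻¹ = y := by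
  have hzz := iso_sq hz
  have hzi := iso_inv hz
  have hk := isoK_conj hz h⁻¹
  rw [inv_inv] at hk
  have hxz' : x * z = z * x := hxz
  have hyz' : y * z = z * y := hyz
  -- z * (h⁻¹ z h) ∈ H and commutes with x
  have hmemH : z * (h⁻¹ * z * h) ∈ H := by
    have h1 : z * h⁻¹ * z⁻¹ ∈ H := (Subgroup.mem_normalizer_iff.mp hzH h⁻¹).mp (H.inv_mem hh)
    have : z * (h⁻¹ * z * h) = (z * h⁻¹ * z⁻¹) * h := by rw [hzi]; group
    rw [this]; exact H.mul_mem h1 hh
  have hcx : (z * (h⁻¹ * z * h)) * x = x * (z * (h⁻¹ * z * h)) := by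
    have e1 : h⁻¹ * z * h * x = x * (h⁻¹ * z * h) := by
      calc h⁻¹ * z * h * x = h⁻¹ * (z * (h * x * h⁻¹)) * h := by group
        _ = h⁻¹ * (z * y) * h := by rw [hconj]
        _ = h⁻¹ * (y * z) * h := by rw [hyz']
        _ = h⁻¹ * ((h * x * h⁻¹) * z) * h := by rw [hconj]
        _ = _ := by group
    calc (z * (h⁻¹ * z * h)) * x = z * (h⁻¹ * z * h * x) := by group
      _ = z * (x * (h⁻¹ * z * h)) := by rw [e1]
      _ = (z * x) * (h⁻¹ * z * h) := by group
      _ = (x * z) * (h⁻¹ * z * h) := by rw [hxz']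
      _ = _ := by group
  have hkH : isoK z h⁻¹ ∈ H := by
    unfold isoK; rw [inv_inv]; exact H.pow_mem hmemH _
  have hkx : isoK z h⁻¹ * x = x * isoK z h⁻¹ := by
    unfold isoK; rw [inv_inv]
    exact (Commute.pow_left (show Commute (z * (h⁻¹ * z * h)) x from hcx) _)
  set k := isoK z h⁻¹
  refine ⟨h * k, H.mul_mem hh hkH, ?_, ?_⟩
  · show h * k * z = z * (h * k)
    calc h * k * z = h * (k * z * k⁻¹) * k := by group
      _ = h * (h⁻¹ * z * h) * k := by rw [hk]
      _ = _ := by group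
  · calc h * k * x * (h * k)⁻¹ = h * (k * x) * k⁻¹ * h⁻¹ := by group
      _ = h * (x * k) * k⁻¹ * h⁻¹ := by rw [hkx]
      _ = h * x * h⁻¹ := by group
      _ = y := hconj


end Cfsg.Agent.S1182
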