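import Cfsg.Statements.S1183
import Mathlib
import Cfsg.Agent.Lib.Helper20.Isolated
import Cfsg.Agent.Lib.Helper20.O2
import Cfsg.Agent.S1182

set_option autoImplicit false
open Cfsg Cfsg.Agent.Helper20
open scoped commutatorElement

namespace Cfsg.Agent.S1183

variable {G : Type*} [Group G]

lemma sylow_le_centralizer [Finite G] {z : G} (hz : Cfsg.IsIsolatedInvolution z) :
    Odd (Subgroup.centralizer ({z} : Set G)).index := by
  have : Fact (Nat.Prime 2) := ⟨Nat.prime_two⟩
  have hP : IsPGroup 2 (Subgroup.zpowers z) := by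
    apply IsPGroup.of_card (n := 1)
    rw [Nat.card_zpowers, hz.1, pow_one]
  obtain ⟨S, hS⟩ := hP.exists_le_sylow
  have hzS : z ∈ (S : Subgroup G) := hS (Subgroup.mem_zpowers z)
  have hle : (S : Subgroup G) ≤ Subgroup.centralizer ({z} : Set G) := by
    intro s hs
    rw [Subgroup.mem_centralizer_iff]
    intro y hy
    rw [Set.mem_singleton_iff] at hy
    subst hy
    have hr : y * (s * y * s⁻¹) ∈ (S : Subgroup G) :=
      Subgroup.mul_mem _ hzS (Subgroup.mul_mem _ (Subgroup.mul_mem _ hs hzS) (Subgroup.inv_mem _ hs))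
    have hodd := iso_odd hz s
    obtain ⟨k, hk⟩ := S.isPGroup' ⟨_, hr⟩
    have hk' : (y * (s * y * s⁻¹)) ^ 2 ^ k = 1 := by
      have := congrArg Subtype.val hk
      simpa using this
    have hd : orderOf (y * (s * y * s⁻¹)) ∣ 2 ^ k := orderOf_dvd_of_pow_eq_one hk'
    obtain ⟨j, -, hj⟩ := (Nat.dvd_prime_pow Nat.prime_two).mp hd
    have hj0 : j = 0 := by
      by_contra h0
      rw [hj] at hodd
      have : Even (2 ^ j) := (Nat.even_pow' h0).mpr even_two
      exact (Nat.not_odd_iff_even.mpr this) hodd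
    rw [hj0, pow_zero, orderOf_eq_one_iff] at hj
    have h1 : s * y * s⁻¹ = y⁻¹ := (eq_inv_of_mul_eq_one_right hj)
    rw [iso_inv hz] at h1
    calc y * s = (s * y * s⁻¹) * s := by rw [h1]
      _ = s * y := by group
  have h1 : (Subgroup.centralizer ({z} : Set G)).index ∣ (S : Subgroup G).index :=
    Subgroup.index_dvd_of_le hle
  have h2 : ¬ 2 ∣ (S : Subgroup G).index := S.not_dvd_index
  rw [← Nat.not_even_iff_odd, even_iff_two_dvd]
  intro h3
  exact h2 (dvd_trans h3 h1)

/-- the centralizer of an isolated involution controls its own fusion, so its focal subgroup is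
its commutator subgroup -/
lemma focal_le_commutator [Finite G] {z : G} (hz : Cfsg.IsIsolatedInvolution z) :
    (Subgroup.centralizer ({z} : Set G)).focalSubgroupOf ≤
      commutator ↥(Subgroup.centralizer ({z} : Set G)) := by
  rw [Subgroup.focalSubgroupOf_eq_closure, Subgroup.closure_le]
  rintro g ⟨x, hx, u, hg⟩
  have hxz : Commute x z := (Subgroup.mem_centralizer_iff.mp hx z rfl).symm
  have hgC := g.2
  rw [hg] at hgC
  -- u x⁻¹ u⁻¹ ∈ C
  have hy : u * x⁻¹ * u⁻¹ ∈ Subgroup.centralizer ({z} : Set G) := by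
    have : u * x⁻¹ * u⁻¹ = x⁻¹ * ⁅x, u⁆ := by rw [commutatorElement_def]; group
    rw [this]
    exact Subgroup.mul_mem _ (Subgroup.inv_mem _ hx) hgC
  have hyz : Commute (u * x⁻¹ * u⁻¹) z := (Subgroup.mem_centralizer_iff.mp hy z rfl).symm
  obtain ⟨c, -, hcz, hc⟩ := Cfsg.Agent.S1182.result z hz ⊤
    (by rw [Subgroup.mem_normalizer_iff]; intro h; simp) x⁻¹ (u * x⁻¹ * u⁻¹)
    trivial trivial hxz.inv_left hyz u trivial rfl
  have hcC : c ∈ Subgroup.centralizer ({z} : Set G) := by
    rw [Subgroup.mem_centralizer_iff]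
    intro y hy'
    rw [Set.mem_singleton_iff] at hy'
    subst hy'
    exact hcz.eq.symm
  have hgeq : g = ⁅(⟨x, hx⟩ : Subgroup.centralizer ({z} : Set G)), ⟨c, hcC⟩⁆ := by
    apply Subtype.ext
    rw [hg, commutatorElement_def, commutatorElement_def]
    simp only [Subgroup.coe_mul, Subgroup.coe_inv]
    calc x * u * x⁻¹ * u⁻¹ = x * (u * x⁻¹ * u⁻¹) := by group
      _ = x * (c * x⁻¹ * c⁻¹) := by rw [hc]
      _ = _ := by group
  rw [hgeq, commutator_def]
  exact Subgroup.commutator_mem_commutator (Subgroup.mem_top _) (Subgroup.mem_top _)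


open scoped IsMulCommutative in
/-- if `G` is generated by odd-order elements, a fixed odd power kills `C / C*` -/
lemma odd_pow_mem_focal [Finite G] {z : G} (hz : Cfsg.IsIsolatedInvolution z)
    (hG : Cfsg.pResidual 2 G = ⊤) :
    ∃ m : ℕ, Odd m ∧ ∀ c : ↥(Subgroup.centralizer ({z} : Set G)),
      c ^ m ∈ (Subgroup.centralizer ({z} : Set G)).focalSubgroupOf := by
  obtain ⟨a, e, he, hcard⟩ := Nat.exists_eq_two_pow_mul_odd
    (n := Nat.card (↥(Subgroup.centralizer ({z} : Set G)) ⧸
      (Subgroup.centralizer ({z} : Set G)).focalSubgroupOf)) Nat.card_pos.ne'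
  refine ⟨(Subgroup.centralizer ({z} : Set G)).index * e, (sylow_le_centralizer hz).mul he, ?_⟩
  let ψ : G →* (↥(Subgroup.centralizer ({z} : Set G)) ⧸
      (Subgroup.centralizer ({z} : Set G)).focalSubgroupOf) :=
    (powMonoidHom e).comp (Subgroup.centralizer ({z} : Set G)).transferFocal
  have hker : ψ.ker = ⊤ := by
    rw [eq_top_iff, ← hG]
    unfold Cfsg.pResidual
    rw [Subgroup.closure_le]
    intro g hg
    have hg' : Nat.Coprime (orderOf g) 2 := hg
    show ψ g = 1
    show ((Subgroup.centralizer ({z} : Set G)).transferFocal g) ^ e = 1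
    apply orderOf_dvd_iff_pow_eq_one.mp
    have h1 : orderOf ((Subgroup.centralizer ({z} : Set G)).transferFocal g) ∣ orderOf g :=
      orderOf_map_dvd _ g
    have h2 : orderOf ((Subgroup.centralizer ({z} : Set G)).transferFocal g) ∣ 2 ^ a * e := by
      rw [← hcard]; exact orderOf_dvd_natCard _
    have h3 : Nat.Coprime (orderOf ((Subgroup.centralizer ({z} : Set G)).transferFocal g)) (2 ^ a) :=
      (Nat.Coprime.coprime_dvd_left h1 hg').pow_right a
    exact h3.dvd_of_dvd_mul_left h2
  intro c
  have h1 : ψ (c : G) = 1 := by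
    have : (c : G) ∈ ψ.ker := by rw [hker]; trivial
    exact this
  have h2 : ((Subgroup.centralizer ({z} : Set G)).transferFocal (c : G)) ^ e = 1 := h1
  rw [Subgroup.transferFocal_eq_pow, ← pow_mul, ← QuotientGroup.mk_pow, QuotientGroup.eq_one_iff] at h2
  exact h2

/-- Let z be an isolated involution of the finite group G and C = C_G(z). Then the subgroup of G generated by its elements of odd order is all of G if and only if the subgroup of C generated by its elements of odd order is all of C. -/
theorem result {G : Type*} [Group G] [Finite G] (z : G) (hz : Cfsg.IsIsolatedInvolution z) : Cfsg.pResidual 2 G = ⊤ ↔ Cfsg.pResidual 2 ↥(Subgroup.centralizer ({z} : Set G)) = ⊤ := by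
  have : Fact (Nat.Prime 2) := ⟨Nat.prime_two⟩
  constructor
  · intro hG
    obtain ⟨m, hm, hpow⟩ := odd_pow_mem_focal hz hG
    have hfc := focal_le_commutator hz
    have hnorm := pResidual_normal' (N := ↥(Subgroup.centralizer ({z} : Set G))) 2
    have hP := quotient_pResidual_isPGroup' (N := ↥(Subgroup.centralizer ({z} : Set G))) 2
    apply QuotientGroup.subgroup_eq_top_of_subsingleton
    apply pgroup_perfect_subsingleton 2 hP
    rw [eq_top_iff]
    intro q _
    obtain ⟨c, rfl⟩ := QuotientGroup.mk_surjective q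
    have h1 : c ^ m ∈ commutator ↥(Subgroup.centralizer ({z} : Set G)) := hfc (hpow c)
    have h2 : ((c : ↥(Subgroup.centralizer ({z} : Set G)) ⧸ Cfsg.pResidual 2 _)) ^ m ∈
        commutator (↥(Subgroup.centralizer ({z} : Set G)) ⧸ Cfsg.pResidual 2 _) := by
      rw [← QuotientGroup.mk_pow]
      have h3 : (QuotientGroup.mk' (Cfsg.pResidual 2 ↥(Subgroup.centralizer ({z} : Set G)))) (c ^ m) ∈
          (commutator ↥(Subgroup.centralizer ({z} : Set G))).map (QuotientGroup.mk' _) :=
        Subgroup.mem_map_of_mem _ h1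
      rw [commutator_def, Subgroup.map_commutator] at h3
      rw [commutator_def]
      exact Subgroup.commutator_mono le_top le_top h3
    obtain ⟨k, hk⟩ := hP (c : ↥(Subgroup.centralizer ({z} : Set G)) ⧸ Cfsg.pResidual 2 _)
    have hd : orderOf (c : ↥(Subgroup.centralizer ({z} : Set G)) ⧸ Cfsg.pResidual 2 _) ∣ 2 ^ k :=
      orderOf_dvd_of_pow_eq_one hk
    have hcop : Nat.Coprime m
        (orderOf (c : ↥(Subgroup.centralizer ({z} : Set G)) ⧸ Cfsg.pResidual 2 _)) := by
      apply Nat.Coprime.coprime_dvd_right hd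
      apply Nat.Coprime.pow_right
      exact Nat.coprime_two_right.mpr hm
    obtain ⟨u, hu⟩ := exists_pow_eq_self_of_coprime hcop
    rw [← hu]
    exact Subgroup.pow_mem _ h2 u
  · intro hC
    rw [eq_top_iff]
    intro g _
    have hk : isoK z g ∈ Cfsg.pResidual 2 G := by
      apply Subgroup.subset_closure
      show Nat.Coprime (orderOf (isoK z g)) 2
      exact Nat.coprime_two_right.mpr (isoK_odd hz g)
    have hc : (isoK z g)⁻¹ * g ∈ Subgroup.centralizer ({z} : Set G) := by
      have h1 : g⁻¹ * isoK z g ∈ Subgroup.centralizer ({z} : Set G) := by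
        rw [mem_centralizer_iff_conj_eq]; exact isoK_conj hz g
      have := Subgroup.inv_mem _ h1
      simpa using this
    have hc' : (isoK z g)⁻¹ * g ∈ Cfsg.pResidual 2 G := by
      apply pResidual_map_subtype_le 2 (Subgroup.centralizer ({z} : Set G))
      refine ⟨⟨_, hc⟩, ?_, rfl⟩
      rw [hC]; trivial
    have := Subgroup.mul_mem _ hk hc'
    simpa using this

end Cfsg.Agent.S1183
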