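import Cfsg.Statements.S1184
import Mathlib
import Cfsg.Agent.Lib.Helper20.Isolated

set_option autoImplicit false
open Cfsg Cfsg.Agent.Helper20

namespace Cfsg.Agent.S1184

/-- Let z be an isolated involution of the finite group G. If s and t are distinct conjugates of z, then st does not commute with z. -/
theorem result {G : Type*} [Group G] [Finite G] (z : G) (hz : Cfsg.IsIsolatedInvolution z) (g h : G) (hne : g * z * g⁻¹ ≠ h * z * h⁻¹) : ¬ Commute (g * z * g⁻¹ * (h * z * h⁻¹)) z := by
  intro hc
  have hs := iso_conj hz g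
  have hss := iso_sq hs
  have htt := iso_sq (iso_conj hz h)
  -- t is a conjugate of s
  have ht_conj : h * z * h⁻¹ = (h * g⁻¹) * (g * z * g⁻¹) * (h * g⁻¹)⁻¹ := by group
  have hodd : Odd (orderOf ((g * z * g⁻¹) * (h * z * h⁻¹))) := by
    rw [ht_conj]; exact iso_odd hs _
  have hinv := invol_conj_mul hss htt
  generalize hs_def : g * z * g⁻¹ = s at *
  generalize ht_def : h * z * h⁻¹ = t at *
  -- k conjugates z to s and normalizes ⟨r⟩
  have hk := isoK_conj hz g
  rw [hs_def] at hk
  have hkmem := isoK_mem_closure z g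
  rw [hs_def] at hkmem
  have hP : ∀ x ∈ Subgroup.closure ({z, s} : Set G),
      x * (s * t) * x⁻¹ = s * t ∨ x * (s * t) * x⁻¹ = (s * t)⁻¹ := by
    intro x hx
    induction hx using Subgroup.closure_induction with
    | mem x hx =>
      rcases hx with rfl | hx
      · left
        have : (s * t) * x = x * (s * t) := hc
        rw [← this]; group
      · rw [Set.mem_singleton_iff] at hx
        subst hx
        right; exact hinv
    | one => left; group
    | mul x y _ _ hx hy =>
      have e : x * y * (s * t) * (x * y)⁻¹ = x * (y * (s * t) * y⁻¹) * x⁻¹ := by group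
      rw [e]
      rcases hy with hy | hy <;> rcases hx with hx | hx
      · left; rw [hy, hx]
      · right; rw [hy, hx]
      · right; rw [hy]
        have : x * (s * t)⁻¹ * x⁻¹ = (x * (s * t) * x⁻¹)⁻¹ := by group
        rw [this, hx]
      · left; rw [hy]
        have : x * (s * t)⁻¹ * x⁻¹ = (x * (s * t) * x⁻¹)⁻¹ := by group
        rw [this, hx, inv_inv]
    | inv x _ hx =>
      rcases hx with hx | hx
      · left
        calc x⁻¹ * (s * t) * x⁻¹⁻¹ = x⁻¹ * (x * (s * t) * x⁻¹) * x := by rw [hx]; group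
          _ = s * t := by group
      · right
        calc x⁻¹ * (s * t) * x⁻¹⁻¹ = (x⁻¹ * (s * t)⁻¹ * x)⁻¹ := by group
          _ = (x⁻¹ * (x * (s * t) * x⁻¹) * x)⁻¹ := by rw [hx]
          _ = (s * t)⁻¹ := by group
  -- s commutes with r
  have hsr : s * (s * t) * s⁻¹ = s * t := by
    have hz_r : z * (s * t) * z⁻¹ = s * t := by
      have : (s * t) * z = z * (s * t) := hc
      rw [← this]; group
    set k := isoK z g
    have e : s * (s * t) * s⁻¹ = k * (z * (k⁻¹ * (s * t) * k) * z⁻¹) * k⁻¹ := by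
      rw [← hk]; group
    have hk' := hP k⁻¹ (Subgroup.inv_mem _ hkmem)
    rw [inv_inv] at hk'
    rcases hk' with hk' | hk'
    · rw [e, hk', hz_r]
      calc k * (s * t) * k⁻¹ = k * (k⁻¹ * (s * t) * k) * k⁻¹ := by rw [hk']
        _ = s * t := by group
    · rw [e, hk']
      have : z * (s * t)⁻¹ * z⁻¹ = (z * (s * t) * z⁻¹)⁻¹ := by group
      rw [this, hz_r]
      calc k * (s * t)⁻¹ * k⁻¹ = k * (k⁻¹ * (s * t) * k) * k⁻¹ := by rw [hk']
        _ = s * t := by group
  rw [hinv] at hsr
  -- r⁻¹ = r, so r * r = 1, so r = 1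
  have hr2 : (s * t) * (s * t) = 1 * 1 := by
    rw [one_mul]; nth_rewrite 1 [← hsr]; group
  have h1 : s * t = 1 := odd_sq_inj hodd (by simp) hr2
  apply hne
  have : s = t⁻¹ := eq_inv_of_mul_eq_one_left h1
  rw [this, invol_inv htt]


end Cfsg.Agent.S1184
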