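import Cfsg.Statements.S1185
import Mathlib
import Cfsg.Agent.Lib.Helper20.Isolated

set_option autoImplicit false
open Cfsg

namespace Cfsg.Agent.S1185

/-- Let z be an isolated involution of the finite group G with centralizer C. Then for every g ∈ G there is exactly one element k in the coset gC that has odd order and is inverted by z. -/
theorem result {G : Type*} [Group G] [Finite G] (z : G) (hz : Cfsg.IsIsolatedInvolution z) (g : G) : ∃! k : G, (Odd (orderOf k) ∧ z * k * z⁻¹ = k⁻¹) ∧ g⁻¹ * k ∈ Subgroup.centralizer ({z} : Set G) := by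
  refine ⟨Cfsg.Agent.Helper20.isoK z g, ⟨⟨Cfsg.Agent.Helper20.isoK_odd hz g,
    Cfsg.Agent.Helper20.isoK_inverted hz g⟩, ?_⟩, ?_⟩
  · rw [Cfsg.Agent.Helper20.mem_centralizer_iff_conj_eq]
    exact Cfsg.Agent.Helper20.isoK_conj hz g
  · rintro k ⟨⟨hk1, hk2⟩, hk3⟩
    rw [Cfsg.Agent.Helper20.mem_centralizer_iff_conj_eq] at hk3
    apply Cfsg.Agent.Helper20.iso_unique hk1 (Cfsg.Agent.Helper20.isoK_odd hz g) hk2
      (Cfsg.Agent.Helper20.isoK_inverted hz g)
    rw [hk3, Cfsg.Agent.Helper20.isoK_conj hz g]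


end Cfsg.Agent.S1185
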