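import Cfsg.Statements.S1186
import Mathlib
import Cfsg.Agent.Lib.Helper20.Isolated

set_option autoImplicit false
open Cfsg Cfsg.Agent.Helper20

namespace Cfsg.Agent.S1186

variable {G : Type*} [Group G]

/-- elements of `B` are inverted by `s` -/
lemma s_inverts {z s b : G} (hzi : z⁻¹ = z)
    (hb : z * b * z⁻¹ = b⁻¹) (hc : Commute b (s * z)) : s * b * s⁻¹ = b⁻¹ := by
  have h1 : s * b * s⁻¹ = (s * z) * (z⁻¹ * b * z) * (s * z)⁻¹ := by group
  have h2 : z⁻¹ * b * z = b⁻¹ := by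
    rw [← hb]; nth_rewrite 1 [hzi]; rw [hzi]
  have h3 : (s * z) * b⁻¹ = b⁻¹ * (s * z) := (hc.inv_left).eq.symm
  rw [h1, h2, h3]; group

lemma pow4_inj {x y : G} (hx : Odd (orderOf x)) (hy : Odd (orderOf y))
    (h : x * x * x * x = y * y * y * y) : x = y := by
  have hx2 : Odd (orderOf (x * x)) := by
    rw [← pow_two]; exact Odd.of_dvd_nat hx (orderOf_pow_dvd 2)
  have hy2 : Odd (orderOf (y * y)) := by
    rw [← pow_two]; exact Odd.of_dvd_nat hy (orderOf_pow_dvd 2)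
  have : (x * x) * (x * x) = (y * y) * (y * y) := by
    rw [← mul_assoc, ← mul_assoc, h]
  exact odd_sq_inj hx hy (odd_sq_inj hx2 hy2 this)

lemma inj_aux {z s a b a' b' : G} (hz : Cfsg.IsIsolatedInvolution z)
    (hss : s * s = 1) (hsz : Commute s z)
    (ha1 : Odd (orderOf a)) (ha2 : z * a * z⁻¹ = a⁻¹) (ha3 : Commute a s)
    (hb1 : Odd (orderOf b)) (hb2 : z * b * z⁻¹ = b⁻¹) (hb3 : Commute b (s * z))
    (ha1' : Odd (orderOf a')) (ha2' : z * a' * z⁻¹ = a'⁻¹) (ha3' : Commute a' s)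
    (hb1' : Odd (orderOf b')) (hb2' : z * b' * z⁻¹ = b'⁻¹) (hb3' : Commute b' (s * z))
    (h : (a * b) * z * (a * b)⁻¹ = (a' * b') * z * (a' * b')⁻¹) : a = a' ∧ b = b' := by
  have hzi := iso_inv hz
  have hsi : s⁻¹ = s := invol_inv hss
  -- P(a,b) = t * (s t s⁻¹)⁻¹
  have P : ∀ a b : G, z * b * z⁻¹ = b⁻¹ → Commute a s → Commute b (s * z) →
      ((a * b) * z * (a * b)⁻¹) * (s * ((a * b) * z * (a * b)⁻¹) * s⁻¹)⁻¹
        = a * (b * b * b * b) * a⁻¹ := by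
    intro a b hb2 ha3 hb3
    have hsb := s_inverts hzi hb2 hb3
    have hsa : s * a * s⁻¹ = a := by rw [← ha3.eq]; group
    have hszz : s * z * s⁻¹ = z := by rw [hsz.eq]; group
    have e1 : s * ((a * b) * z * (a * b)⁻¹) * s⁻¹
        = (s * a * s⁻¹) * (s * b * s⁻¹) * (s * z * s⁻¹) * (s * b * s⁻¹)⁻¹ * (s * a * s⁻¹)⁻¹ := by
      group
    rw [e1, hsb, hsa, hszz]
    have e2 : z * b = b⁻¹ * z := by
      calc z * b = (z * b * z⁻¹) * z := by group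
        _ = _ := by rw [hb2]
    calc a * b * z * (a * b)⁻¹ * (a * b⁻¹ * z * b⁻¹⁻¹ * a⁻¹)⁻¹
        = a * b * (z * b⁻¹ * b⁻¹ * z⁻¹) * b * a⁻¹ := by group
      _ = a * b * (b * b) * b * a⁻¹ := by
          have : z * b⁻¹ * b⁻¹ * z⁻¹ = b * b := by
            calc z * b⁻¹ * b⁻¹ * z⁻¹ = ((z * b * z⁻¹) * (z * b * z⁻¹))⁻¹ := by group
              _ = b * b := by rw [hb2]; simp
          rw [this]
      _ = _ := by group
  have hP := P a b hb2 ha3 hb3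
  have hP' := P a' b' hb2' ha3' hb3'
  rw [h, hP'] at hP
  -- c = a'⁻¹ a conjugates b to b'
  have hconj : (a'⁻¹ * a * b * (a'⁻¹ * a)⁻¹) * (a'⁻¹ * a * b * (a'⁻¹ * a)⁻¹) *
      (a'⁻¹ * a * b * (a'⁻¹ * a)⁻¹) * (a'⁻¹ * a * b * (a'⁻¹ * a)⁻¹) = b' * b' * b' * b' := by
    calc _ = a'⁻¹ * (a * (b * b * b * b) * a⁻¹) * a' := by group
      _ = a'⁻¹ * (a' * (b' * b' * b' * b') * a'⁻¹) * a' := by rw [← hP]
      _ = _ := by group
  have hord : Odd (orderOf (a'⁻¹ * a * b * (a'⁻¹ * a)⁻¹)) := by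
    have := orderOf_injective (MulAut.conj (a'⁻¹ * a)).toMonoidHom (MulAut.conj (a'⁻¹ * a)).injective b
    simp only [MulEquiv.toMonoidHom_eq_coe, MonoidHom.coe_coe, MulAut.conj_apply] at this
    rw [this]; exact hb1
  have hb_eq := pow4_inj hord hb1' hconj
  -- c centralizes z
  have hcz : a * z * a⁻¹ = a' * z * a'⁻¹ := by
    have h1 : a * b * z * (a * b)⁻¹ = a' * ((a'⁻¹ * a * b * (a'⁻¹ * a)⁻¹) * (a'⁻¹ * a * z * a⁻¹ * a') *
        (a'⁻¹ * a * b * (a'⁻¹ * a)⁻¹)⁻¹) * a'⁻¹ := by group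
    have h2 : a' * b' * z * (a' * b')⁻¹ = a' * (b' * z * b'⁻¹) * a'⁻¹ := by group
    rw [h1, h2, hb_eq] at h
    have h3 := mul_left_cancel (mul_right_cancel h)
    have h4 := mul_left_cancel (mul_right_cancel h3)
    calc a * z * a⁻¹ = a' * (a'⁻¹ * a * z * a⁻¹ * a') * a'⁻¹ := by group
      _ = a' * z * a'⁻¹ := by rw [h4]
  have ha_eq := iso_unique ha1 ha1' ha2 ha2' hcz
  subst ha_eq
  refine ⟨rfl, ?_⟩
  rw [← hb_eq]; group


lemma conj_odd {x : G} (c : G) (hx : Odd (orderOf x)) : Odd (orderOf (c * x * c⁻¹)) := by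
  have := orderOf_injective (MulAut.conj c).toMonoidHom (MulAut.conj c).injective x
  simp only [MulEquiv.toMonoidHom_eq_coe, MonoidHom.coe_coe, MulAut.conj_apply] at this
  rw [this]; exact hx

lemma surj_aux [Finite G] {z s : G} (hz : Cfsg.IsIsolatedInvolution z)
    (hss : s * s = 1) (hsz : Commute s z) (g : G) :
    ∃ a b : G, (Odd (orderOf a) ∧ z * a * z⁻¹ = a⁻¹ ∧ Commute a s) ∧
      (Odd (orderOf b) ∧ z * b * z⁻¹ = b⁻¹ ∧ Commute b (s * z)) ∧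
      (a * b) * z * (a * b)⁻¹ = g * z * g⁻¹ := by
  have hzi := iso_inv hz
  have hzz := iso_sq hz
  have hsi : s⁻¹ = s := invol_inv hss
  have hszz : s * z * s⁻¹ = z := by rw [hsz.eq]; group
  have ht := iso_conj hz g
  have htt := iso_sq ht
  have hti := iso_inv ht
  have ht't' : (s * (g * z * g⁻¹) * s⁻¹) * (s * (g * z * g⁻¹) * s⁻¹) = 1 := iso_sq (iso_conj ht s)
  obtain ⟨e, he⟩ := iso_odd ht s
  obtain ⟨t, ht_def⟩ : ∃ t, t = g * z * g⁻¹ := ⟨_, rfl⟩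
  rw [← ht_def] at ht htt hti ht't' he ⊢
  obtain ⟨r, hr_def⟩ : ∃ r, r = t * (s * t * s⁻¹) := ⟨_, rfl⟩
  rw [← hr_def] at he
  have hr1 : r ^ (2 * e + 1) = 1 := by rw [← he]; exact pow_orderOf_eq_one r
  have htr : t * r * t⁻¹ = r⁻¹ := by rw [hr_def]; exact invol_conj_mul htt ht't'
  have hsr : s * r * s⁻¹ = r⁻¹ := by
    have h1 : s * r * s⁻¹ = (s * t * s⁻¹) * ((s * s) * t * (s * s)⁻¹) := by rw [hr_def]; group
    have h2 : r⁻¹ = (s * t⁻¹ * s⁻¹) * t⁻¹ := by rw [hr_def]; group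
    rw [h1, h2, hss, hti]; group
  have hst : s * t * s⁻¹ = r⁻¹ * t := by
    have : s * t * s⁻¹ = t⁻¹ * r := by rw [hr_def]; group
    rw [this, hti]
    calc t * r = (t * r * t⁻¹) * t := by group
      _ = _ := by rw [htr]
  -- the midpoint u
  obtain ⟨u, hu_def⟩ : ∃ u, u = r ^ e * t := ⟨_, rfl⟩
  have hu_conj : u = (r ^ (e * (e + 1)) * g) * z * (r ^ (e * (e + 1)) * g)⁻¹ := by
    have h1 := rot_conj_z htt ht't' (e * (e + 1))
    rw [← hr_def] at h1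
    have h2 : r ^ (2 * (e * (e + 1))) = r ^ e := by
      rw [show 2 * (e * (e + 1)) = (2 * e + 1) * e + e by ring, pow_add, pow_mul, hr1, one_pow,
        one_mul]
    rw [h2] at h1
    rw [hu_def, ← h1, ht_def]; group
  have hsu : s * u * s⁻¹ = u := by
    have h1 : s * u * s⁻¹ = (s * r * s⁻¹) ^ e * (s * t * s⁻¹) := by
      rw [hu_def, ← conj_pow']; group
    rw [h1, hsr, hst, hu_def]
    have h2 : (r⁻¹) ^ e * r⁻¹ = r ^ e := by
      rw [← pow_succ, inv_pow]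
      apply inv_eq_of_mul_eq_one_left
      rw [← pow_add, show e + (e + 1) = 2 * e + 1 by ring, hr1]
    rw [← mul_assoc, h2]
  -- a
  obtain ⟨a, ha_def⟩ : ∃ a, a = isoK z (r ^ (e * (e + 1)) * g) := ⟨_, rfl⟩
  have ha1 : Odd (orderOf a) := by rw [ha_def]; exact isoK_odd hz _
  have ha2 : z * a * z⁻¹ = a⁻¹ := by rw [ha_def]; exact isoK_inverted hz _
  have ha4 : a * z * a⁻¹ = u := by rw [ha_def, hu_conj]; exact isoK_conj hz _
  have ha3 : Commute a s := by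
    have k1 : Odd (orderOf (s * a * s⁻¹)) := conj_odd s ha1
    have k2 : z * (s * a * s⁻¹) * z⁻¹ = (s * a * s⁻¹)⁻¹ := by
      have hzs : z * s = s * z := hsz.eq.symm
      calc z * (s * a * s⁻¹) * z⁻¹ = (z * s) * a * (z * s)⁻¹ := by group
        _ = (s * z) * a * (s * z)⁻¹ := by rw [hzs]
        _ = s * (z * a * z⁻¹) * s⁻¹ := by group
        _ = _ := by rw [ha2]; group
    have k3 : (s * a * s⁻¹) * z * (s * a * s⁻¹)⁻¹ = a * z * a⁻¹ := by
      have hszz' : s⁻¹ * z * s = z := by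
        calc s⁻¹ * z * s = s⁻¹ * (z * s) := by group
          _ = s⁻¹ * (s * z) := by rw [hsz.eq]
          _ = z := by group
      calc (s * a * s⁻¹) * z * (s * a * s⁻¹)⁻¹ = s * a * (s⁻¹ * z * s) * a⁻¹ * s⁻¹ := by group
        _ = s * (a * z * a⁻¹) * s⁻¹ := by rw [hszz']; group
        _ = _ := by rw [ha4, hsu]
    have := iso_unique k1 ha1 k2 ha2 k3
    show a * s = s * a
    calc a * s = (s * a * s⁻¹) * s := by rw [this]
      _ = s * a := by group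
  -- b
  obtain ⟨b, hb_def⟩ : ∃ b, b = isoK z (a⁻¹ * g) := ⟨_, rfl⟩
  have hb1 : Odd (orderOf b) := by rw [hb_def]; exact isoK_odd hz _
  have hb2 : z * b * z⁻¹ = b⁻¹ := by rw [hb_def]; exact isoK_inverted hz _
  have hb4 : b * z * b⁻¹ = a⁻¹ * t * a := by
    rw [hb_def, isoK_conj hz, ht_def]; group
  have ht1sq : (a⁻¹ * t * a) * (a⁻¹ * t * a) = 1 := by
    calc (a⁻¹ * t * a) * (a⁻¹ * t * a) = a⁻¹ * (t * t) * a := by group
      _ = 1 := by rw [htt]; group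
  -- t₁ = ρ z
  obtain ⟨ρ, hρ_def⟩ : ∃ ρ, ρ = a⁻¹ * (r ^ e)⁻¹ * a := ⟨_, rfl⟩
  have ht1 : a⁻¹ * t * a = ρ * z := by
    have h1 : t = (r ^ e)⁻¹ * u := by rw [hu_def]; group
    have h2 : a⁻¹ * u * a = z := by rw [← ha4]; group
    calc a⁻¹ * t * a = a⁻¹ * ((r ^ e)⁻¹ * u) * a := by rw [← h1]
      _ = (a⁻¹ * (r ^ e)⁻¹ * a) * (a⁻¹ * u * a) := by group
      _ = _ := by rw [h2, hρ_def]
  have hsρ : s * ρ * s⁻¹ = ρ⁻¹ := by
    have hsa : s * a * s⁻¹ = a := by rw [← ha3.eq]; group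
    have hsa' : s * a⁻¹ * s⁻¹ = a⁻¹ := by
      calc s * a⁻¹ * s⁻¹ = (s * a * s⁻¹)⁻¹ := by group
        _ = _ := by rw [hsa]
    have h1 : s * ρ * s⁻¹ = (s * a⁻¹ * s⁻¹) * ((s * r * s⁻¹) ^ e)⁻¹ * (s * a * s⁻¹) := by
      rw [hρ_def, ← conj_pow']; group
    rw [h1, hsa, hsa', hsr, hρ_def]; group
  have hzρ : z * ρ * z⁻¹ = ρ⁻¹ := by
    rw [ht1] at ht1sq
    rw [hzi]
    have : ρ * (z * ρ * z) = 1 := by rw [← ht1sq]; group
    exact (inv_eq_of_mul_eq_one_right this).symm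
  have hb3 : Commute b (s * z) := by
    have k1 : Odd (orderOf ((s * z) * b * (s * z)⁻¹)) := conj_odd _ hb1
    have hzsz : z * (s * z) = (s * z) * z := by
      rw [← mul_assoc, hsz.eq.symm]
    have k2 : z * ((s * z) * b * (s * z)⁻¹) * z⁻¹ = ((s * z) * b * (s * z)⁻¹)⁻¹ := by
      calc z * ((s * z) * b * (s * z)⁻¹) * z⁻¹ = (z * (s * z)) * b * (z * (s * z))⁻¹ := by group
        _ = ((s * z) * z) * b * ((s * z) * z)⁻¹ := by rw [hzsz]
        _ = (s * z) * (z * b * z⁻¹) * (s * z)⁻¹ := by group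
        _ = _ := by rw [hb2]; group
    have k3 : ((s * z) * b * (s * z)⁻¹) * z * ((s * z) * b * (s * z)⁻¹)⁻¹ = b * z * b⁻¹ := by
      have h0 : (s * z)⁻¹ * z * (s * z) = z := by
        calc (s * z)⁻¹ * z * (s * z) = (s * z)⁻¹ * (z * (s * z)) := by group
          _ = (s * z)⁻¹ * ((s * z) * z) := by rw [hzsz]
          _ = z := by group
      calc ((s * z) * b * (s * z)⁻¹) * z * ((s * z) * b * (s * z)⁻¹)⁻¹
          = (s * z) * b * ((s * z)⁻¹ * z * (s * z)) * b⁻¹ * (s * z)⁻¹ := by group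
        _ = (s * z) * (b * z * b⁻¹) * (s * z)⁻¹ := by rw [h0]; group
        _ = (s * z) * (ρ * z) * (s * z)⁻¹ := by rw [hb4, ht1]
        _ = s * ((z * ρ * z⁻¹) * z) * s⁻¹ := by group
        _ = (s * ρ * s⁻¹)⁻¹ * (s * z * s⁻¹) := by rw [hzρ]; group
        _ = ρ * z := by rw [hsρ, hszz, inv_inv]
        _ = _ := by rw [hb4, ht1]
    have := iso_unique k1 hb1 k2 hb2 k3
    show b * (s * z) = (s * z) * b
    calc b * (s * z) = ((s * z) * b * (s * z)⁻¹) * (s * z) := by rw [this]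
      _ = (s * z) * b := by group
  refine ⟨a, b, ⟨ha1, ha2, ha3⟩, ⟨hb1, hb2, hb3⟩, ?_⟩
  calc (a * b) * z * (a * b)⁻¹ = a * (b * z * b⁻¹) * a⁻¹ := by group
    _ = t := by rw [hb4]; group

/-- Let z be an isolated involution of the finite group G, C = C_G(z), K the set of elements of odd order inverted by z, and s an involution of C. Then |G| = |C| · |C_K(sz)| · |C_K(s)|. -/
theorem result {G : Type*} [Group G] [Finite G] (z : G) (hz : Cfsg.IsIsolatedInvolution z) (s : G) (hs : orderOf s = 2) (hsz : Commute s z) : Nat.card G = Nat.card (Subgroup.centralizer ({z} : Set G)) * Nat.card {k : G // Odd (orderOf k) ∧ z * k * z⁻¹ = k⁻¹ ∧ Commute k (s * z)} * Nat.card {k : G // Odd (orderOf k) ∧ z * k * z⁻¹ = k⁻¹ ∧ Commute k s} := by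
  have hss : s * s = 1 := by
    have h2 : s ^ 2 = 1 := by rw [← hs]; exact pow_orderOf_eq_one s
    rwa [pow_two] at h2
  let Φ : {k : G // Odd (orderOf k) ∧ z * k * z⁻¹ = k⁻¹ ∧ Commute k (s * z)} ×
      {k : G // Odd (orderOf k) ∧ z * k * z⁻¹ = k⁻¹ ∧ Commute k s} →
      G ⧸ Subgroup.centralizer ({z} : Set G) := fun p => QuotientGroup.mk (p.2.1 * p.1.1)
  have hΦ : Function.Bijective Φ := by
    constructor
    · rintro ⟨⟨b, hb1, hb2, hb3⟩, ⟨a, ha1, ha2, ha3⟩⟩ ⟨⟨b', hb1', hb2', hb3'⟩, ⟨a', ha1', ha2', ha3'⟩⟩ h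
      have h' : ((a * b : G) : G ⧸ Subgroup.centralizer ({z} : Set G)) = ((a' * b' : G) : G ⧸ _) := h
      rw [QuotientGroup.eq, mem_centralizer_iff_conj_eq] at h'
      obtain ⟨rfl, rfl⟩ := inj_aux hz hss hsz ha1 ha2 ha3 hb1 hb2 hb3 ha1' ha2' ha3' hb1' hb2' hb3' h'.symm
      rfl
    · intro q
      obtain ⟨g, rfl⟩ := QuotientGroup.mk_surjective q
      obtain ⟨a, b, ha, hb, h⟩ := surj_aux hz hss hsz g
      refine ⟨⟨⟨b, hb⟩, ⟨a, ha⟩⟩, ?_⟩
      show ((a * b : G) : G ⧸ Subgroup.centralizer ({z} : Set G)) = ((g : G) : G ⧸ _)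
      rw [eq_comm, QuotientGroup.eq, mem_centralizer_iff_conj_eq]
      exact h
  have h1 := Nat.card_congr (Equiv.ofBijective Φ hΦ)
  rw [Nat.card_prod] at h1
  rw [Subgroup.card_eq_card_quotient_mul_card_subgroup (Subgroup.centralizer ({z} : Set G)), ← h1]
  ring

end Cfsg.Agent.S1186
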