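import Cfsg.Statements.S1192
import Mathlib
import Cfsg.Agent.Lib.Helper20.QDMax

set_option autoImplicit false
open Cfsg Cfsg.Agent.Helper20

namespace Cfsg.Agent.S1192

/-- A quasi-dihedral group S of order 2^(n+1) has exactly three maximal subgroups; one is cyclic, one is isomorphic to the generalized quaternion group of order 2^n and one to the dihedral group of order 2^n. -/
theorem result {S : Type*} [Group S] [Finite S] (hS : Cfsg.IsQuasiDihedral S) (n : ℕ) (hn : Nat.card S = 2 ^ (n + 1)) : ∃ M₁ M₂ M₃ : Subgroup S, IsCoatom M₁ ∧ IsCoatom M₂ ∧ IsCoatom M₃ ∧ M₁ ≠ M₂ ∧ M₁ ≠ M₃ ∧ M₂ ≠ M₃ ∧ (∀ M : Subgroup S, IsCoatom M → M = M₁ ∨ M = M₂ ∨ M = M₃) ∧ IsCyclic M₁ ∧ Nonempty (M₂ ≃* QuaternionGroup (2 ^ (n - 2))) ∧ Nonempty (M₃ ≃* DihedralGroup (2 ^ (n - 1))) := by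
  obtain ⟨k, hcard, ⟨φ⟩⟩ := exists_iso_SD hS
  have hnk : n = k + 3 := by
    rw [hn] at hcard
    have := Nat.pow_right_injective (le_refl 2) hcard
    omega
  subst hnk
  have e1 : k + 3 - 2 = k + 1 := by omega
  have e2 : k + 3 - 1 = k + 2 := by omega
  rw [e1, e2]
  refine ⟨SD.Rot.map φ.toMonoidHom, SD.Qt.map φ.toMonoidHom, SD.Dih.map φ.toMonoidHom,
    ?_, ?_, ?_, ?_, ?_, ?_, ?_, ?_, ?_, ?_⟩
  · exact (isCoatom_map_iff φ _).mpr ((SD.coatom_iff _).mpr (Or.inl rfl))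
  · exact (isCoatom_map_iff φ _).mpr ((SD.coatom_iff _).mpr (Or.inr (Or.inl rfl)))
  · exact (isCoatom_map_iff φ _).mpr ((SD.coatom_iff _).mpr (Or.inr (Or.inr rfl)))
  · intro h; exact SD.Rot_ne_Qt (Subgroup.map_injective φ.injective h)
  · intro h; exact SD.Rot_ne_Dih (Subgroup.map_injective φ.injective h)
  · intro h; exact SD.Qt_ne_Dih (Subgroup.map_injective φ.injective h)
  · intro M hM
    have hM' : IsCoatom (M.map φ.symm.toMonoidHom) := (isCoatom_map_iff φ.symm M).mpr hM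
    rcases (SD.coatom_iff _).mp hM' with h | h | h
    · left; rw [← h, map_symm_map]
    · right; left; rw [← h, map_symm_map]
    · right; right; rw [← h, map_symm_map]
  · exact (isCyclic_map_iff φ _).mpr inferInstance
  · exact ⟨((SD.Qt (k := k)).equivMapOfInjective φ.toMonoidHom φ.injective).symm.trans SD.qtEquiv⟩
  · exact ⟨((SD.Dih (k := k)).equivMapOfInjective φ.toMonoidHom φ.injective).symm.trans SD.dihEquiv⟩


end Cfsg.Agent.S1192
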