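import Cfsg.Statements.S1193
import Mathlib
import Cfsg.Agent.Lib.Helper20.QDFrat

set_option autoImplicit false
open Cfsg Cfsg.Agent.Helper20

namespace Cfsg.Agent.S1193

/-- Let S be quasi-dihedral of order 2^(n+1). Then S' = Φ(S) is cyclic of order 2^(n-1), the centre of S has order 2, and the subgroup generated by the involutions of S is dihedral of order 2^n. -/
theorem result {S : Type*} [Group S] [Finite S] (hS : Cfsg.IsQuasiDihedral S) (n : ℕ) (hn : Nat.card S = 2 ^ (n + 1)) : commutator S = frattini S ∧ IsCyclic (commutator S) ∧ Nat.card (commutator S) = 2 ^ (n - 1) ∧ Nat.card (Subgroup.center S) = 2 ∧ Nonempty (↥(Subgroup.closure {x : S | orderOf x = 2}) ≃* DihedralGroup (2 ^ (n - 1))) := by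
  obtain ⟨k, hcard, ⟨φ⟩⟩ := exists_iso_SD hS
  have hnk : n = k + 3 := by
    rw [hn] at hcard
    have := Nat.pow_right_injective (le_refl 2) hcard
    omega
  subst hnk
  have e2 : k + 3 - 1 = k + 2 := by omega
  rw [e2]
  have hc : commutator S = (commutator (SD k)).map φ.toMonoidHom := (map_commutator_equiv φ).symm
  refine ⟨?_, ?_, ?_, ?_, ?_⟩
  · rw [hc, ← map_frattini_equiv φ, SD.commutator_eq_frattini]
  · rw [hc]
    exact (isCyclic_map_iff φ _).mpr inferInstance
  · rw [hc, card_map_equiv, SD.card_commutator]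
  · rw [← map_center_equiv φ, card_map_equiv, SD.card_center]
  · rw [← map_closure_orderOf_equiv φ 2]
    exact ⟨((Subgroup.closure {p : SD k | orderOf p = 2}).equivMapOfInjective φ.toMonoidHom
      φ.injective).symm.trans ((MulEquiv.subgroupCongr SD.closure_involutions_eq).trans SD.dihEquiv)⟩


end Cfsg.Agent.S1193
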