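import Cfsg.Statements.S1194
import Mathlib
import Cfsg.Agent.Lib.Helper20.QDSub

set_option autoImplicit false
open Cfsg Cfsg.Agent.Helper20

namespace Cfsg.Agent.S1194

/-- In a quasi-dihedral 2-group S, every proper normal subgroup is either a maximal subgroup or a cyclic subgroup contained in the derived subgroup S'. -/
theorem result {S : Type*} [Group S] [Finite S] (hS : Cfsg.IsQuasiDihedral S) (N : Subgroup S) [N.Normal] (hN : N ≠ ⊤) : IsCoatom N ∨ (IsCyclic N ∧ N ≤ commutator S) := by
  obtain ⟨k, -, ⟨φ⟩⟩ := exists_iso_SD hS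
  have hnorm : (N.map φ.symm.toMonoidHom).Normal :=
    Subgroup.Normal.map inferInstance _ φ.symm.surjective
  have hne : N.map φ.symm.toMonoidHom ≠ ⊤ := by
    intro h; exact hN ((map_eq_top_iff φ.symm N).mp h)
  rcases SD.normal_coatom_or_cyclic (N.map φ.symm.toMonoidHom) hne with h | ⟨h1, h2⟩
  · left; exact (isCoatom_map_iff φ.symm N).mp h
  · right
    refine ⟨(isCyclic_map_iff φ.symm N).mp h1, ?_⟩
    rw [← map_commutator_equiv φ.symm] at h2
    exact (map_le_map_iff_equiv φ.symm _ _).mp h2


end Cfsg.Agent.S1194
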