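import Cfsg.Statements.S1196
import Cfsg.Agent.Lib.Helper98.WrSubgroups

set_option autoImplicit false
open Cfsg

namespace Cfsg.Agent.S1196

open Cfsg.Agent.Helper98 in
/-- A wreathed 2-group S of order 2^(2n+1) has a unique commutative subgroup of order 2^(2n), and this subgroup is isomorphic to the direct product of two cyclic groups of order 2^n. -/
theorem result {S : Type*} [Group S] [Finite S] (hS : Cfsg.IsWreathed S) (n : ℕ) (hn : Nat.card S = 2 ^ (2 * n + 1)) : (∃! U : Subgroup S, IsMulCommutative U ∧ Nat.card U = 2 ^ (2 * n)) ∧ ∀ U : Subgroup S, IsMulCommutative U → Nat.card U = 2 ^ (2 * n) → Nonempty (U ≃* Multiplicative (ZMod (2 ^ n) × ZMod (2 ^ n))) := by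
  obtain ⟨n', x, y, z, hn', D⟩ := exists_wrData hS
  have hnn : n' = n := by
    have h := D.card
    rw [hn] at h
    have := Nat.pow_right_injective (le_refl 2) h
    omega
  subst hnn
  set φ := D.iso with hφ
  have hinj : Function.Injective φ.toMonoidHom := φ.injective
  have hsurj : Function.Surjective φ.toMonoidHom := φ.surjective
  have hN3 : 3 ≤ 2 ^ n' := by
    calc 3 ≤ 2 ^ 2 := by norm_num
      _ ≤ 2 ^ n' := Nat.pow_le_pow_right (by norm_num) hn'
  have hNN : 2 ^ (2 * n') = 2 ^ n' * 2 ^ n' := by rw [two_mul, pow_add]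
  -- key: every commutative subgroup of that order is the image of the base group
  have key : ∀ U : Subgroup S, IsMulCommutative U → Nat.card U = 2 ^ (2 * n') →
      U = (Wr.base (2 ^ n')).map φ.toMonoidHom := by
    intro U hU hcard
    have hU' : IsMulCommutative (U.comap φ.toMonoidHom) :=
      Subgroup.comap_injective_isMulCommutative U hinj
    have hmc : (U.comap φ.toMonoidHom).map φ.toMonoidHom = U :=
      Subgroup.map_comap_eq_self_of_surjective hsurj U
    have hcard' : Nat.card (U.comap φ.toMonoidHom) = 2 ^ n' * 2 ^ n' := by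
      rw [← Subgroup.card_map_of_injective hinj, hmc, hcard, hNN]
    have := Wr.eq_base_of_comm hN3 (U.comap φ.toMonoidHom) hcard'
    rw [← hmc, this]
  have hbase_comm : IsMulCommutative ((Wr.base (2 ^ n')).map φ.toMonoidHom) := inferInstance
  have hbase_card : Nat.card ((Wr.base (2 ^ n')).map φ.toMonoidHom) = 2 ^ (2 * n') := by
    rw [Subgroup.card_map_of_injective hinj, Wr.card_base, hNN]
  refine ⟨⟨_, ⟨hbase_comm, hbase_card⟩, fun U hU => key U hU.1 hU.2⟩, ?_⟩
  intro U hU hcard
  rw [key U hU hcard]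
  exact ⟨((φ.subgroupMap (Wr.base (2 ^ n'))).symm).trans (Wr.baseEquiv (2 ^ n'))⟩

end Cfsg.Agent.S1196
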