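import Cfsg.Statements.S1197
import Cfsg.Agent.Lib.Helper98.WrCenter

set_option autoImplicit false
open Cfsg

namespace Cfsg.Agent.S1197

open Cfsg.Agent.Helper98 in
/-- Let S be a wreathed 2-group of order 2^(2n+1). Then Z(S) is cyclic of order 2^n, the derived subgroup S' is cyclic of order 2^n, and S/Z(S) is isomorphic to the dihedral group of order 2^(n+1). -/
theorem result {S : Type*} [Group S] [Finite S] (hS : Cfsg.IsWreathed S) (n : ℕ) (hn : Nat.card S = 2 ^ (2 * n + 1)) : IsCyclic (Subgroup.center S) ∧ Nat.card (Subgroup.center S) = 2 ^ n ∧ IsCyclic (commutator S) ∧ Nat.card (commutator S) = 2 ^ n ∧ Nonempty (S ⧸ Subgroup.center S ≃* DihedralGroup (2 ^ n)) := by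
  obtain ⟨n', x, y, z, hn', D⟩ := exists_wrData hS
  have hnn : n' = n := by
    have h := D.card
    rw [hn] at h
    have := Nat.pow_right_injective (le_refl 2) h
    omega
  subst hnn
  set φ := D.iso with hφ
  have hN2 : 2 ≤ 2 ^ n' := by
    calc 2 ≤ 2 ^ 2 := by norm_num
      _ ≤ 2 ^ n' := Nat.pow_le_pow_right (by norm_num) hn'
  -- centre
  let e1 : Subgroup.center S ≃* Multiplicative (ZMod (2 ^ n')) :=
    ((Subgroup.centerCongr φ).symm.trans (MulEquiv.subgroupCongr (Wr.center_eq hN2))).trans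
      (Wr.diagEquiv (2 ^ n'))
  -- commutator
  let e2 : commutator S ≃* Multiplicative (ZMod (2 ^ n')) :=
    ((MulEquiv.subgroupCongr (map_commutator_eq φ)).symm.trans
      ((φ.subgroupMap (commutator (Wr (2 ^ n')))).symm.trans
        (MulEquiv.subgroupCongr Wr.commutator_eq))).trans (Wr.antidiagEquiv (2 ^ n'))
  have hcardZ : Nat.card (Multiplicative (ZMod (2 ^ n'))) = 2 ^ n' := by
    simp [Nat.card_eq_fintype_card, ZMod.card]
  refine ⟨?_, ?_, ?_, ?_, ?_⟩
  · exact isCyclic_of_surjective e1.symm e1.symm.surjective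
  · rw [Nat.card_congr e1.toEquiv, hcardZ]
  · exact isCyclic_of_surjective e2.symm e2.symm.surjective
  · rw [Nat.card_congr e2.toEquiv, hcardZ]
  · exact ⟨(QuotientGroup.congr (Subgroup.center (Wr (2 ^ n'))) (Subgroup.center S) φ
      (map_center_eq φ)).symm.trans (Wr.quotCenterEquiv hN2)⟩

end Cfsg.Agent.S1197
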