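import Cfsg.Statements.S1198
import Cfsg.Agent.Lib.Helper98.WrKlein

set_option autoImplicit false
open Cfsg

namespace Cfsg.Agent.S1198

open Cfsg.Agent.Helper98 in
/-- A wreathed 2-group S has a normal Klein four-subgroup T such that every Klein four-subgroup of S other than T is conjugate in S to any other such subgroup; in particular S has exactly two conjugacy classes of Klein four-subgroups. -/
theorem result {S : Type*} [Group S] [Finite S] (hS : Cfsg.IsWreathed S) : ∃ T : Subgroup S, IsKleinFour T ∧ T.Normal ∧ (∃ T₀ : Subgroup S, IsKleinFour T₀ ∧ T₀ ≠ T) ∧ ∀ T₁ T₂ : Subgroup S, IsKleinFour T₁ → IsKleinFour T₂ → T₁ ≠ T → T₂ ≠ T → ∃ s : S, T₁.map (MulAut.conj s).toMonoidHom = T₂ := by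
  obtain ⟨n, x, y, z, hn, D⟩ := exists_wrData hS
  have hNM : 2 ^ n = 2 * 2 ^ (n - 1) := two_pow_eq_two_mul (by omega)
  have : NeZero (2 ^ (n - 1)) := ⟨by positivity⟩
  set M := 2 ^ (n - 1) with hM
  set φ : Wr (2 * M) ≃* S := (Wr.castEquiv hNM).symm.trans D.iso with hφ
  have hinj : Function.Injective φ.toMonoidHom := φ.injective
  have hsurj : Function.Surjective φ.toMonoidHom := φ.surjective
  refine ⟨(Wr.four M).map φ.toMonoidHom, ?_, ?_, ?_, ?_⟩
  · exact isKleinFour_of_mulEquiv (φ.subgroupMap (Wr.four M))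
  · exact Subgroup.Normal.map inferInstance _ hsurj
  · refine ⟨(Wr.vee M).map φ.toMonoidHom, isKleinFour_of_mulEquiv (φ.subgroupMap (Wr.vee M)), ?_⟩
    intro h
    exact Wr.vee_ne_four (Subgroup.map_injective hinj h)
  · intro T₁ T₂ h1 h2 hne1 hne2
    have key : ∀ T : Subgroup S, IsKleinFour T → T ≠ (Wr.four M).map φ.toMonoidHom →
        ∃ c : Wr (2 * M), ((Wr.vee M).map (MulAut.conj c).toMonoidHom).map φ.toMonoidHom = T := by
      intro T hT hne
      have hK : IsKleinFour (T.comap φ.toMonoidHom) :=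
        isKleinFour_of_mulEquiv (comapMulEquiv φ T).symm
      have hne' : T.comap φ.toMonoidHom ≠ Wr.four M := by
        intro h
        apply hne
        rw [← h, map_comap_equiv]
      obtain ⟨c, hc⟩ := Wr.exists_conj_vee (T.comap φ.toMonoidHom) hne'
      exact ⟨c, by rw [hc, map_comap_equiv]⟩
    obtain ⟨c1, hc1⟩ := key T₁ h1 hne1
    obtain ⟨c2, hc2⟩ := key T₂ h2 hne2
    refine ⟨φ (c2 * c1⁻¹), ?_⟩
    rw [← hc1, ← hc2, ← map_conj_map]
    congr 1
    rw [Subgroup.map_map]
    congr 1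
    refine MonoidHom.ext fun g => ?_
    simp only [MonoidHom.comp_apply, MulEquiv.coe_toMonoidHom, MulAut.conj_apply]
    group

end Cfsg.Agent.S1198
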