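import Cfsg.Statements.S1199
import Cfsg.Agent.Lib.Helper98.Transport
import Cfsg.Agent.Lib.Helper98.WrQuat

set_option autoImplicit false
open Cfsg

namespace Cfsg.Agent.S1199

open Cfsg.Agent.Helper98 in
/-- A wreathed 2-group S of order 2^(2n+1) has exactly one subgroup of order 2^(n+1) isomorphic to a generalized quaternion group, and that subgroup is normal in S. -/
theorem result {S : Type*} [Group S] [Finite S] (hS : Cfsg.IsWreathed S) (n : ℕ) (hn : Nat.card S = 2 ^ (2 * n + 1)) : (∃! Y : Subgroup S, Nat.card Y = 2 ^ (n + 1) ∧ Nonempty (Y ≃* QuaternionGroup (2 ^ (n - 1)))) ∧ ∀ Y : Subgroup S, Nat.card Y = 2 ^ (n + 1) → Nonempty (Y ≃* QuaternionGroup (2 ^ (n - 1))) → Y.Normal := by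
  obtain ⟨n', x, y, z, hn', D⟩ := exists_wrData hS
  have hnn : n' = n := by
    have h := D.card
    rw [hn] at h
    have := Nat.pow_right_injective (le_refl 2) h
    omega
  subst hnn
  have hNM : 2 ^ n' = 2 * 2 ^ (n' - 1) := two_pow_eq_two_mul (by omega)
  have : NeZero (2 ^ (n' - 1)) := ⟨by positivity⟩
  have hM2 : 2 ≤ 2 ^ (n' - 1) := by
    calc 2 = 2 ^ 1 := rfl
      _ ≤ 2 ^ (n' - 1) := Nat.pow_le_pow_right (by norm_num) (by omega)
  have h4M : 2 ^ (n' + 1) = 4 * 2 ^ (n' - 1) := by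
    have : n' + 1 = (n' - 1) + 2 := by omega
    rw [this, pow_add]; ring
  set M := 2 ^ (n' - 1) with hM
  set φ : Wr (2 * M) ≃* S := (Wr.castEquiv hNM).symm.trans D.iso with hφ
  have hsurj : Function.Surjective φ.toMonoidHom := φ.surjective
  have key : ∀ Y : Subgroup S, Nat.card Y = 2 ^ (n' + 1) → Nonempty (Y ≃* QuaternionGroup M) →
      Y = (Wr.quat M).map φ.toMonoidHom := by
    intro Y hY ⟨ψ⟩
    have e := comapMulEquiv φ Y
    have hc : Nat.card (Y.comap φ.toMonoidHom) = 4 * M := by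
      rw [Nat.card_congr e.toEquiv, hY, h4M]
    have := Wr.quat_unique hM2 (Y.comap φ.toMonoidHom) hc (e.trans ψ)
    rw [← this, map_comap_equiv]
  have hnorm : ((Wr.quat M).map φ.toMonoidHom).Normal := Subgroup.Normal.map inferInstance _ hsurj
  refine ⟨⟨(Wr.quat M).map φ.toMonoidHom, ⟨?_, ?_⟩, ?_⟩, ?_⟩
  · have h := Nat.card_congr (φ.subgroupMap (Wr.quat M)).toEquiv
    rw [Wr.card_quat] at h
    rw [h4M]
    exact h.symm
  · obtain ⟨ψ⟩ := Wr.quat_iso (M := M)
    exact ⟨(φ.subgroupMap (Wr.quat M)).symm.trans ψ⟩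
  · rintro Y ⟨hY, hQ⟩
    exact key Y hY hQ
  · intro Y hY hQ
    rw [key Y hY hQ]
    exact hnorm

end Cfsg.Agent.S1199
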