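import Cfsg.Statements.S1200
import Cfsg.Agent.Lib.Helper98.WrOmega

set_option autoImplicit false
open Cfsg

namespace Cfsg.Agent.S1200

open Cfsg.Agent.Helper98 in
/-- Let S be a wreathed 2-group of order 2^(2n+1) and Ω the subgroup generated by its involutions. Then Ω has order 2^(n+2) and S/Ω is cyclic: some s ∈ S together with Ω generates S. -/
theorem result {S : Type*} [Group S] [Finite S] (hS : Cfsg.IsWreathed S) (n : ℕ) (hn : Nat.card S = 2 ^ (2 * n + 1)) : Nat.card (Subgroup.closure {x : S | orderOf x = 2}) = 2 ^ (n + 2) ∧ ∃ s : S, Subgroup.closure {x : S | orderOf x = 2} ⊔ Subgroup.zpowers s = ⊤ := by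
  obtain ⟨n', x, y, z, hn', D⟩ := exists_wrData hS
  have hnn : n' = n := by
    have h := D.card
    rw [hn] at h
    have := Nat.pow_right_injective (le_refl 2) h
    omega
  subst hnn
  have hNM : 2 ^ n' = 2 * 2 ^ (n' - 1) := two_pow_eq_two_mul (by omega)
  have : NeZero (2 ^ (n' - 1)) := ⟨by positivity⟩
  set φ : Wr (2 * 2 ^ (n' - 1)) ≃* S := (Wr.castEquiv hNM).symm.trans D.iso with hφ
  have hinj : Function.Injective φ.toMonoidHom := φ.injective
  have hcl := map_closure_orderOf_eq φ 2
  rw [Wr.closure_invol] at hcl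
  constructor
  · rw [← hcl, Subgroup.card_map_of_injective hinj, Wr.card_omega, ← hNM]
    rw [pow_add]; ring
  · refine ⟨φ ⟨1, 0, false⟩, ?_⟩
    rw [← hcl]
    have h := congrArg (Subgroup.map φ.toMonoidHom) (Wr.omega_sup_zpowers (M := 2 ^ (n' - 1)))
    rw [Subgroup.map_sup, MonoidHom.map_zpowers, ← MonoidHom.range_eq_map,
      MonoidHom.range_eq_top.mpr φ.surjective] at h
    exact h

end Cfsg.Agent.S1200
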