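import Cfsg.Statements.S1201
import Cfsg.Agent.Lib.Helper98.WrSubgroups

set_option autoImplicit false
open Cfsg

namespace Cfsg.Agent.S1201

open Cfsg.Agent.Helper98 in
/-- If X is a non-commutative subgroup of a wreathed 2-group S, then Z(X) ≤ Z(S). -/
theorem result {S : Type*} [Group S] [Finite S] (hS : Cfsg.IsWreathed S) (X : Subgroup S) (hX : ¬ IsMulCommutative X) : (Subgroup.center X).map X.subtype ≤ Subgroup.center S := by
  obtain ⟨n, x, y, z, hn, D⟩ := exists_wrData hS
  set φ := D.iso with hφ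
  have hN2 : 2 ≤ 2 ^ n := by
    calc 2 ≤ 2 ^ 2 := by norm_num
      _ ≤ 2 ^ n := Nat.pow_le_pow_right (by norm_num) hn
  rintro _ ⟨⟨c, hcX⟩, hc, rfl⟩
  rw [SetLike.mem_coe, Subgroup.mem_center_iff] at hc
  simp only [Subgroup.coe_subtype]
  -- pull back to the model
  have hX' : ¬ ∀ p ∈ X.comap φ.toMonoidHom, ∀ q ∈ X.comap φ.toMonoidHom, p * q = q * p := by
    intro hall
    apply hX
    refine ⟨⟨fun a b => ?_⟩⟩
    obtain ⟨a, ha⟩ := a
    obtain ⟨b, hb⟩ := b
    apply Subtype.ext
    show a * b = b * a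
    have h := hall (φ.symm a) (by simpa using ha) (φ.symm b) (by simpa using hb)
    have := congrArg φ h
    simpa using this
  have hc' : ∀ u ∈ X.comap φ.toMonoidHom, φ.symm c * u = u * φ.symm c := by
    intro u hu
    have hu' : φ u ∈ X := hu
    have := hc ⟨φ u, hu'⟩
    have h2 : φ u * c = c * φ u := congrArg Subtype.val this
    apply φ.injective
    simp [h2]
  have hmem := Wr.center_of_nonabelian hN2 (X.comap φ.toMonoidHom) hX' (φ.symm c)
    (by simpa using hcX) hc'
  rw [Subgroup.mem_center_iff] at hmem ⊢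
  intro s
  have := congrArg φ (hmem (φ.symm s))
  simpa using this

end Cfsg.Agent.S1201
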