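import Cfsg.Statements.S1202
import Cfsg.Agent.Lib.Helper98.WrSelfCent
import Cfsg.Agent.Lib.Helper98.Transport
import Cfsg.Agent.Lib.Helper73.CyclicSylowSimple

set_option autoImplicit false
set_option linter.unusedSectionVars false
set_option linter.style.haveILetI false
open Cfsg

namespace Cfsg.Agent.S1202

open Cfsg.Agent.Helper98

theorem relIndex_normalizer_map_equiv {G H : Type*} [Group G] [Group H] (f : G ≃* H)
    (Y : Subgroup G) :
    (Y.map f.toMonoidHom).relIndex
      (Subgroup.normalizer ((Y.map f.toMonoidHom : Subgroup H) : Set H)) =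
      Y.relIndex (Subgroup.normalizer (Y : Set G)) := by
  rw [← Subgroup.map_equiv_normalizer_eq, Subgroup.relIndex_map_map_of_injective _ _ f.injective]

section core

variable {S : Type*} [Group S] {M : ℕ} [NeZero M] (n K : ℕ) (hNM : 2 * M = 2 ^ n)
  (hK : M = 2 * K) (φ : Wr (2 * M) ≃* S)
include hNM hK φ

theorem pull (X : Subgroup S) (hC : Subgroup.centralizer (X : Set S) ≤ X)
    (hA : ¬ IsPGroup 2 (MulAut X)) :
    X.comap φ.toMonoidHom = Wr.base (2 * M) ∨
      ∃ g : Wr (2 * M), (Wr.good M).map (MulAut.conj g).toMonoidHom = X.comap φ.toMonoidHom := by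
  apply Wr.classify n hNM K hK
  · intro p hp
    rw [Subgroup.mem_comap]
    apply hC
    rw [Subgroup.mem_centralizer_iff] at hp ⊢
    intro s hs
    have h1 : φ.symm s ∈ ((X.comap φ.toMonoidHom : Subgroup (Wr (2 * M))) : Set (Wr (2 * M))) := by
      rw [SetLike.mem_coe, Subgroup.mem_comap]
      simpa using hs
    have := congrArg φ (hp (φ.symm s) h1)
    simpa using this
  · intro h
    apply hA
    exact h.of_equiv (MulAut.congr (comapMulEquiv φ X))

theorem comm_of_base (X : Subgroup S) (h : X.comap φ.toMonoidHom = Wr.base (2 * M)) :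
    IsMulCommutative X := by
  refine ⟨⟨fun a b => ?_⟩⟩
  apply Subtype.ext
  have ha : φ.symm a.1 ∈ Wr.base (2 * M) := by
    rw [← h, Subgroup.mem_comap]; simp
  have hb : φ.symm b.1 ∈ Wr.base (2 * M) := by
    rw [← h, Subgroup.mem_comap]; simp
  have := congrArg φ (Wr.base_mul_comm ha hb)
  simpa using this

theorem good_of_not_comm (X : Subgroup S) (hC : Subgroup.centralizer (X : Set S) ≤ X)
    (hA : ¬ IsPGroup 2 (MulAut X)) (hX : ¬ IsMulCommutative X) :
    ∃ g : Wr (2 * M), ((Wr.good M).map (MulAut.conj g).toMonoidHom).map φ.toMonoidHom = X := by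
  rcases pull n K hNM hK φ X hC hA with h | ⟨g, hg⟩
  · exact absurd (comm_of_base n K hNM hK φ X h) hX
  · exact ⟨g, by rw [hg, map_comap_equiv]⟩

theorem core [Finite S] (X : Subgroup S) (hC : Subgroup.centralizer (X : Set S) ≤ X)
    (hA : ¬ IsPGroup 2 (MulAut X)) :
    X.relIndex (Subgroup.normalizer (X : Set S)) = 2 ∧
    ((IsMulCommutative X ∧ Nat.card X = 2 ^ (2 * n)) ∨
      ∃ Q : Subgroup S, Nonempty (Q ≃* QuaternionGroup 2) ∧ X = Q ⊔ Subgroup.center S) ∧
    ∀ X' : Subgroup S, Subgroup.centralizer (X' : Set S) ≤ X' → ¬ IsPGroup 2 (MulAut X') →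
      ¬ IsMulCommutative X → ¬ IsMulCommutative X' →
      ∃ s : S, X.map (MulAut.conj s).toMonoidHom = X' := by
  refine ⟨?_, ?_, ?_⟩
  · rcases pull n K hNM hK φ X hC hA with h | ⟨g, hg⟩
    · have hX : X = (Wr.base (2 * M)).map φ.toMonoidHom := by rw [← h, map_comap_equiv]
      rw [hX, relIndex_normalizer_map_equiv, Wr.relIndex_base]
    · have hX : X = ((Wr.good M).map (MulAut.conj g).toMonoidHom).map φ.toMonoidHom := by
        rw [hg, map_comap_equiv]
      rw [hX, relIndex_normalizer_map_equiv, relIndex_normalizer_map_equiv, Wr.relIndex_good K hK]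
  · rcases pull n K hNM hK φ X hC hA with h | ⟨g, hg⟩
    · left
      refine ⟨comm_of_base n K hNM hK φ X h, ?_⟩
      rw [← Nat.card_congr (comapMulEquiv φ X).toEquiv, h, Wr.card_base, hNM, ← pow_add]
      congr 1; ring
    · right
      obtain ⟨Q, ⟨eQ⟩, hQ⟩ := Wr.good_eq_sup (M := M) K hK
      set e : Wr (2 * M) ≃* S := (MulAut.conj g).trans φ with he
      have hX : X = (Wr.good M).map e.toMonoidHom := by
        rw [← map_comap_equiv φ X, ← hg, Subgroup.map_map]
        rfl
      refine ⟨Q.map e.toMonoidHom, ⟨?_⟩, ?_⟩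
      · exact (Q.equivMapOfInjective e.toMonoidHom e.injective).symm.trans eQ
      · rw [hX, hQ, Subgroup.map_sup, map_center_eq]
  · intro X' hC' hA' hX hX'
    obtain ⟨g, hg⟩ := good_of_not_comm n K hNM hK φ X hC hA hX
    obtain ⟨g', hg'⟩ := good_of_not_comm n K hNM hK φ X' hC' hA' hX'
    refine ⟨φ (g' * g⁻¹), ?_⟩
    rw [← hg, ← map_conj_map, ← Cfsg.Agent.Helper73.map_conj_mul, inv_mul_cancel_right, hg']

end core

/-- Let S be a wreathed 2-group of order 2^(2n+1) and X a subgroup with C_S(X) ≤ X such that Aut(X) is not a 2-group. Then |N_S(X) : X| = 2, and either X is the commutative subgroup of order 2^(2n), or X = Q·Z(S) for some subgroup Q ≅ Q₈; in the latter case any two such subgroups are conjugate in S. -/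
theorem result {S : Type*} [Group S] [Finite S] (hS : Cfsg.IsWreathed S) (n : ℕ) (hn : Nat.card S = 2 ^ (2 * n + 1)) (X : Subgroup S) (hC : Subgroup.centralizer (X : Set S) ≤ X) (hA : ¬ IsPGroup 2 (MulAut X)) : X.relIndex (Subgroup.normalizer (X : Set S)) = 2 ∧ ((IsMulCommutative X ∧ Nat.card X = 2 ^ (2 * n)) ∨ ∃ Q : Subgroup S, Nonempty (Q ≃* QuaternionGroup 2) ∧ X = Q ⊔ Subgroup.center S) ∧ ∀ X' : Subgroup S, Subgroup.centralizer (X' : Set S) ≤ X' → ¬ IsPGroup 2 (MulAut X') → ¬ IsMulCommutative X → ¬ IsMulCommutative X' → ∃ s : S, X.map (MulAut.conj s).toMonoidHom = X' := by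
  obtain ⟨n', x, y, z, hn', D⟩ := exists_wrData hS
  have hnn : n' = n := by
    have h1 := D.card.symm.trans hn
    have h2 := Nat.pow_right_injective (le_refl 2) h1
    omega
  subst hnn
  obtain ⟨k, rfl⟩ : ∃ k, n' = k + 2 := ⟨n' - 2, by omega⟩
  have hNM : 2 * (2 * 2 ^ k) = 2 ^ (k + 2) := by ring
  haveI : NeZero (2 * 2 ^ k) := ⟨by positivity⟩
  exact core (M := 2 * 2 ^ k) (k + 2) (2 ^ k) hNM rfl ((Wr.castEquiv hNM).trans D.iso) X hC hA

end Cfsg.Agent.S1202
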