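import Cfsg.Statements.S1204
import Mathlib
import Cfsg.Agent.Lib.Helper20.QDFus2
import Cfsg.Agent.Lib.Helper20.QDFus3
import Cfsg.Agent.Lib.Helper20.QDFus4
import Cfsg.Agent.Lib.Helper98.Transport

set_option autoImplicit false
open Cfsg Cfsg.Agent.Helper20

namespace Cfsg.Agent.S1204

/-- Let G be a finite group with quasi-dihedral Sylow 2-subgroup S, T a Klein four-subgroup and Q a quaternion subgroup of order 8 of S, with |N_G(T) : C_G(T)| = 6 and |N_G(Q) : Q C_G(Q)| = 6. Then G has no subgroup of index 2, exactly one conjugacy class of involutions and exactly one conjugacy class of elements of order 4. -/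
theorem result {G : Type*} [Group G] [Finite G] (S : Sylow 2 G) (hS : Cfsg.IsQuasiDihedral (S : Subgroup G)) (T : Subgroup G) (hT : IsKleinFour T) (hTS : T ≤ S) (Q : Subgroup G) (hQS : Q ≤ S) (eQ : Q ≃* QuaternionGroup 2) (h₁ : (Subgroup.centralizer (T : Set G)).relIndex (Subgroup.normalizer (T : Set G)) = 6) (h₂ : (Q ⊔ Subgroup.centralizer (Q : Set G)).relIndex (Subgroup.normalizer (Q : Set G)) = 6) : (∀ H : Subgroup G, H.index ≠ 2) ∧ Nat.card {C : ConjClasses G // ∃ t : G, orderOf t = 2 ∧ ConjClasses.mk t = C} = 1 ∧ Nat.card {C : ConjClasses G // ∃ t : G, orderOf t = 4 ∧ ConjClasses.mk t = C} = 1 := by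
  obtain ⟨k, ι, hinj, hrange⟩ := exists_coord (S : Subgroup G) hS
  obtain ⟨b, hTb⟩ := klein_eq_map S ι hinj hrange T hT hTS
  obtain ⟨c, hQc⟩ := quat_eq_map S ι hinj hrange Q ⟨eQ⟩ hQS
  obtain ⟨n₁, hn₁, hzt⟩ := exists_conj_z_t_of_six S ι hinj hrange b T hT.card_four hTb h₁
  obtain ⟨n₂, hn₂, hvu⟩ := exists_conj_v_u_of_six S ι hinj hrange c Q eQ hQc h₂
  have hzt' : IsConj (ι ⟨hN k, false⟩) (ι ⟨2 * b, true⟩) := isConj_iff.mpr ⟨n₁, hzt⟩
  have hvu' : IsConj (ι ⟨qN k, false⟩) (ι ⟨2 * c + 1, true⟩) := by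
    rcases hvu with h | h
    · exact isConj_iff.mpr ⟨n₂, h⟩
    · have h1 : IsConj (ι ⟨qN k, false⟩) (ι ⟨2 * c + 1, true⟩)⁻¹ := isConj_iff.mpr ⟨n₂, h⟩
      rw [← map_inv] at h1
      exact h1.trans (ι.map_isConj (SD.isConj_inv_uS c))
  refine ⟨?_, ?_, ?_⟩
  · intro H hH
    have hcomm : ∀ x g : G, x⁻¹ * (g * x * g⁻¹) ∈ H := by
      intro x g
      exact comm_mem_of_relIndex_two H ⊤ (by rwa [Subgroup.relIndex_top_right]) x g
        (Subgroup.mem_top _) (Subgroup.mem_top _)
    have hN : H.comap ι = ⊤ := by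
      apply SD.eq_top_of_fusion _ ?_ b ?_ c ?_
      · intro s₁ s₂
        rw [Subgroup.mem_comap]
        simp only [map_mul, map_inv]
        exact hcomm _ _
      · rw [Subgroup.mem_comap, map_mul, map_inv, ← hzt]
        exact hcomm _ _
      · rcases hvu with h | h
        · left
          rw [Subgroup.mem_comap, map_mul, map_inv, ← h]
          exact hcomm _ _
        · right
          rw [Subgroup.mem_comap, map_mul, map_inv, map_inv, ← h]
          exact hcomm _ _
    have hSH : (S : Subgroup G) ≤ H := by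
      rw [← hrange]
      rintro _ ⟨p, rfl⟩
      have : p ∈ H.comap ι := hN ▸ Subgroup.mem_top p
      exact this
    have := Subgroup.index_dvd_of_le hSH
    rw [hH] at this
    exact S.not_dvd_index this
  · apply Cfsg.Agent.Helper98.card_classes_eq_one 2 (ι ⟨hN k, false⟩)
    · rw [orderOf_injective ι hinj, SD.orderOf_eq_two_iff]; left; rfl
    · intro t ht
      rcases isConj_involution S ι hinj hrange b t ht with h | h
      · exact h
      · exact h.trans hzt'.symm
  · apply Cfsg.Agent.Helper98.card_classes_eq_one 4 (ι ⟨qN k, false⟩)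
    · rw [orderOf_injective ι hinj]; exact SD.orderOf_vS
    · intro t ht
      rcases isConj_order_four S ι hinj hrange c t ht with h | h
      · exact h
      · exact h.trans hvu'.symm


end Cfsg.Agent.S1204
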