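import Cfsg.Statements.S1210
import Cfsg.Agent.Lib.Helper20.WrR

set_option autoImplicit false
open Cfsg Cfsg.Agent.Helper20

namespace Cfsg.Agent.S1210

/-- Let G be a finite group whose Sylow 2-subgroup S is wreathed of order 2^(2n+1), U the commutative subgroup of index 2 in S, Q a quaternion subgroup of order 8 of S and V = Q Z(S). If |N_G(U) : C_G(U)| = 2 and |N_G(V) : V C_G(V)| = 6, then G has a normal subgroup K of index 2^n whose Sylow 2-subgroups are generalized quaternion and which has no subgroup of index 2; every subgroup of Z(S) is weakly closed in S; and G has exactly two classes of involutions. -/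
theorem result {G : Type*} [Group G] [Finite G] (S : Sylow 2 G) (hS : Cfsg.IsWreathed (S : Subgroup G)) (n : ℕ) (hn : Nat.card S = 2 ^ (2 * n + 1)) (U : Subgroup G) (hUS : U ≤ S) (hUab : IsMulCommutative U) (hUcard : Nat.card U = 2 ^ (2 * n)) (Q : Subgroup G) (hQS : Q ≤ S) (eQ : Q ≃* QuaternionGroup 2) (h₁ : (Subgroup.centralizer (U : Set G)).relIndex (Subgroup.normalizer (U : Set G)) = 2) (h₂ : ((Q ⊔ ((Subgroup.center (S : Subgroup G)).map (S : Subgroup G).subtype)) ⊔ Subgroup.centralizer ((Q ⊔ ((Subgroup.center (S : Subgroup G)).map (S : Subgroup G).subtype) : Subgroup G) : Set G)).relIndex (Subgroup.normalizer ((Q ⊔ ((Subgroup.center (S : Subgroup G)).map (S : Subgroup G).subtype) : Subgroup G) : Set G)) = 6) : (∃ K : Subgroup G, K.Normal ∧ K.index = 2 ^ n ∧ (∀ P : Sylow 2 ↥K, ∃ m : ℕ, 1 ≤ m ∧ Nonempty ((P : Subgroup ↥K) ≃* QuaternionGroup (2 ^ m))) ∧ (∀ H : Subgroup ↥K, H.index ≠ 2)) ∧ (∀ Z₀ : Subgroup G, Z₀ ≤ ((Subgroup.center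 (S : Subgroup G)).map (S : Subgroup G).subtype) → Cfsg.IsWeaklyClosed Z₀ (S : Subgroup G)) ∧ Nat.card {C : ConjClasses G // ∃ t : G, orderOf t = 2 ∧ ConjClasses.mk t = C} = 2 := by
  obtain ⟨hn2, ι, hinj, hrange⟩ := exists_wr_coord' (S : Subgroup G) hS n hn
  obtain ⟨h, hh⟩ := exists_quarter n hn2
  have hM : 2 ≤ 2 ^ (n - 1) := two_le_two_pow_pred n hn2
  have hU : U = (Cfsg.Agent.Helper98.Wr.base (2 * 2 ^ (n - 1))).map ι :=
    comm_eq_base_map S ι hinj hrange hM U hUS hUab (by rw [hUcard, two_pow_sq_eq n hn2])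
  rw [center_S_eq S ι hinj hrange] at h₂ ⊢
  rw [hU] at h₁
  have hN : 2 * 2 ^ (n - 1) = 2 ^ n := (Cfsg.Agent.Helper98.two_pow_eq_two_mul (by omega)).symm
  have hK : 2 ^ (n - 1) = 2 * 2 ^ (n - 2) := by
    have : n - 1 = (n - 2) + 1 := by omega
    rw [this, pow_succ]; ring
  obtain ⟨⟨K, hKn, hKi, hKsyl, hKno⟩, hwc, hcl⟩ :=
    wreathed_two_six S ι hinj hrange h hh n hN (2 ^ (n - 2)) hK Q hQS eQ h₁ h₂
  exact ⟨⟨K, hKn, hKi.trans hN, fun P => ⟨n - 1, by omega, hKsyl P⟩, hKno⟩, hwc, hcl⟩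


end Cfsg.Agent.S1210
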