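import Cfsg.Statements.S1214
import Cfsg.Agent.Lib.Helper20.SimpQD
import Cfsg.Agent.Lib.Helper20.SimpWr

set_option autoImplicit false
open Cfsg Cfsg.Agent.Helper20

namespace Cfsg.Agent.S1214

/-- Let G be a finite group with quasi-dihedral or wreathed Sylow 2-subgroups and no subgroup of index 2. Then G/O(G), the quotient by the largest normal subgroup of odd order, has a normal subgroup of odd index which is a non-abelian simple group. -/
theorem result {G : Type*} [Group G] [Finite G] (S : Sylow 2 G) (hS : Cfsg.IsQuasiDihedral (S : Subgroup G) ∨ Cfsg.IsWreathed (S : Subgroup G)) (hG : ∀ H : Subgroup G, H.index ≠ 2) : ∃ L : Subgroup (G ⧸ Cfsg.oddCore G), L.Normal ∧ Odd L.index ∧ IsSimpleGroup L ∧ ¬ IsMulCommutative L := by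
  haveI : Fact (Nat.Prime 2) := ⟨Nat.prime_two⟩
  show ∃ L : Subgroup (G ⧸ Cfsg.pPrimeCore 2 G),
    L.Normal ∧ Odd L.index ∧ IsSimpleGroup L ∧ ¬ IsMulCommutative L
  have hsurj : Function.Surjective (QuotientGroup.mk' (Cfsg.pPrimeCore 2 G)) :=
    QuotientGroup.mk'_surjective _
  have hcoe : ((S.mapSurjective hsurj : Sylow 2 (G ⧸ Cfsg.pPrimeCore 2 G)) :
      Subgroup (G ⧸ Cfsg.pPrimeCore 2 G)) =
      (S : Subgroup G).map (QuotientGroup.mk' (Cfsg.pPrimeCore 2 G)) :=
    Sylow.coe_mapSurjective hsurj S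
  obtain ⟨e⟩ := sylow_quotient_core_equiv S
  have e' : ↥(S : Subgroup G) ≃*
      ↥((S.mapSurjective hsurj : Sylow 2 (G ⧸ Cfsg.pPrimeCore 2 G)) :
        Subgroup (G ⧸ Cfsg.pPrimeCore 2 G)) :=
    e.trans (MulEquiv.subgroupCongr hcoe.symm)
  have hG' : ∀ H : Subgroup (G ⧸ Cfsg.pPrimeCore 2 G), H.index ≠ 2 := by
    intro H hH
    apply hG (H.comap (QuotientGroup.mk' (Cfsg.pPrimeCore 2 G)))
    rw [Subgroup.index_comap_of_surjective _ hsurj]
    exact hH
  have hO' : Cfsg.pPrimeCore 2 (G ⧸ Cfsg.pPrimeCore 2 G) = ⊥ :=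
    Cfsg.Agent.Helper55.pPrimeCore_quotient_eq_bot 2
  rcases hS with hS | hS
  · exact qd_simple (S.mapSurjective hsurj) (isQuasiDihedral_of_equiv e' hS) hO' hG'
  · exact wr_simple (S.mapSurjective hsurj) (isWreathed_of_equiv e' hS) hO' hG'


end Cfsg.Agent.S1214
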