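import Cfsg.Statements.S1218
import Mathlib
import Cfsg.Agent.Lib.Helper73.GU2Sylow

set_option autoImplicit false
open scoped MatrixGroups
open Cfsg

namespace Cfsg.Agent.S1218

open Cfsg.Agent.Helper73

theorem main {F : Type*} [Field F] [Fintype F] (q : ℕ) (hF : Fintype.card F = q ^ 2) (hq : Odd q)
    (P : Sylow 2 ↥(Cfsg.GU 2 F q)) :
    (q % 4 = 1 → Cfsg.IsQuasiDihedral (P : Subgroup ↥(Cfsg.GU 2 F q))) ∧
    (q % 4 = 3 → Cfsg.IsWreathed (P : Subgroup ↥(Cfsg.GU 2 F q))) := by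
  have h2 : Fact (Nat.Prime 2) := ⟨Nat.prime_two⟩
  have hq2 := Cfsg.Agent.Helper19.herm_two_le hF
  have hcard : Nat.card ↥(P : Subgroup ↥(Cfsg.GU 2 F q)) =
      2 ^ (q * ((q + 1) * (q ^ 2 - 1))).factorization 2 := by
    have := P.card_eq_multiplicity
    rwa [card_GU2 hF] at this
  constructor
  · intro hq1
    obtain ⟨hv, hm⟩ := v2_card_GU2_one q hq1 (by omega)
    set a := (q - 1).factorization 2 with hadef
    have hne : q - 1 ≠ 0 := by omega
    have hdvd : 2 ^ a ∣ q - 1 := Nat.ordProj_dvd _ 2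
    obtain ⟨u, hu⟩ := hdvd
    have huodd : u % 2 = 1 := by
      by_contra hcon
      have hu2 : 2 ∣ u := by omega
      obtain ⟨u', rfl⟩ := hu2
      have : 2 ^ (a + 1) ∣ q - 1 := ⟨u', by rw [hu, pow_succ]; ring⟩
      have := (Nat.Prime.pow_dvd_iff_le_factorization Nat.prime_two hne).1 this
      omega
    obtain ⟨t, ht⟩ : ∃ t, u = 2 * t + 1 := ⟨u / 2, by omega⟩
    rw [ht] at hu
    have hq' : q = 2 ^ a * (2 * t + 1) + 1 := by omega
    obtain ⟨x, y, hxG, hyG, hx, hy, hxy⟩ := qd_elements_GU hF a t (by omega) hq'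
    obtain ⟨x1, y1, hx1, hy1, hxy1⟩ := qd_to_subgroup (Cfsg.GU 2 F q) x y (a + 1) (2 ^ a - 1)
      hxG hyG hx hy hxy
    obtain ⟨x', y', hx', hy', hxy'⟩ := exists_qd_in_sylow P x1 y1 (a + 1) (2 ^ a - 1) hx1 hy1 hxy1
    refine ⟨a + 1, by omega, ?_, x', y', hx', hy', ?_⟩
    · rw [hcard, hv]
    · rw [Nat.add_sub_cancel]; exact hxy'
  · intro hq3
    obtain ⟨hv, hn⟩ := v2_card_GU2_three q hq3
    set n := (q + 1).factorization 2 with hndef
    have hdvd : 2 ^ n ∣ q + 1 := Nat.ordProj_dvd _ 2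
    have hdvd' : 2 ^ n ∣ Nat.card F - 1 := by
      rw [Nat.card_eq_fintype_card, hF]
      have : q ^ 2 - 1 = (q + 1) * (q - 1) := by
        apply Nat.sub_eq_of_eq_add
        obtain ⟨r, rfl⟩ : ∃ r, q = r + 1 := ⟨q - 1, by omega⟩
        rw [Nat.add_sub_cancel]; ring
      rw [this]
      exact Dvd.dvd.mul_right hdvd _
    obtain ⟨ω, hω⟩ := exists_unit_orderOf (K := F) (2 ^ n) hdvd'
    obtain ⟨x, y, z, hxG, hyG, hzG, hx, hxy, hd, hz, hzx⟩ := wr_elements_GU hF n ω hω hdvd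
    obtain ⟨x1, y1, z1, a1, a2, a3, a4, a5⟩ := wr_to_subgroup (Cfsg.GU 2 F q) x y z n
      hxG hyG hzG hx hxy hd hz hzx
    obtain ⟨x', y', z', b1, b2, b3, b4, b5⟩ := exists_wr_in_sylow P x1 y1 z1 n a1 a2 a3 a4 a5
    refine ⟨n, hn, ?_, x', y', z', b1, b2, b3, b4, b5⟩
    rw [hcard, hv]

/-- Let F be a finite field with q² elements, q odd, let GU be the subgroup of GL(2,F) preserving the Hermitian form u₁v₁^q + u₂v₂^q, and P a Sylow 2-subgroup of GU. If q ≡ 1 (mod 4) then P is quasi-dihedral; if q ≡ 3 (mod 4) then P is wreathed. -/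
theorem result {F : Type*} [Field F] [Fintype F] (q : ℕ) (hF : Fintype.card F = q ^ 2) (hq : Odd q) (P : Sylow 2 ↥(Cfsg.preserving (Units.coeHom (Matrix (Fin 2) (Fin 2) F)) (Cfsg.hermForm 2 F q))) : (q % 4 = 1 → Cfsg.IsQuasiDihedral (P : Subgroup ↥(Cfsg.preserving (Units.coeHom (Matrix (Fin 2) (Fin 2) F)) (Cfsg.hermForm 2 F q)))) ∧ (q % 4 = 3 → Cfsg.IsWreathed (P : Subgroup ↥(Cfsg.preserving (Units.coeHom (Matrix (Fin 2) (Fin 2) F)) (Cfsg.hermForm 2 F q)))) := by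
  exact main q hF hq P

end Cfsg.Agent.S1218
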