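import Cfsg.Statements.S1219
import Mathlib

set_option autoImplicit false
open scoped MatrixGroups
open Cfsg

namespace Cfsg.Agent.S1219

open Matrix

section blk

variable {F : Type*} [Field F]

/-- The block matrix `diag(A, e)`. -/
def blk (A : Matrix (Fin 2) (Fin 2) F) (e : F) : Matrix (Fin 3) (Fin 3) F :=
  !![A 0 0, A 0 1, 0; A 1 0, A 1 1, 0; 0, 0, e]

lemma blk_mul (A B : Matrix (Fin 2) (Fin 2) F) (e f : F) :
    blk A e * blk B f = blk (A * B) (e * f) := by
  ext i j
  fin_cases i <;> fin_cases j <;>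
    simp [blk, Matrix.mul_apply, Fin.sum_univ_three, Fin.sum_univ_two]

lemma det_blk (A : Matrix (Fin 2) (Fin 2) F) (e : F) : (blk A e).det = A.det * e := by
  simp [blk, Matrix.det_fin_three, Matrix.det_fin_two]
  ring

lemma blk_one : blk (1 : Matrix (Fin 2) (Fin 2) F) 1 = 1 := by
  ext i j
  fin_cases i <;> fin_cases j <;> simp [blk]

/-- The block embedding `A ↦ diag(A, (det A)⁻¹)`. -/
noncomputable def phi : GL (Fin 2) F →* Matrix.SpecialLinearGroup (Fin 3) F where
  toFun A := ⟨blk (A : Matrix (Fin 2) (Fin 2) F) ((A : Matrix (Fin 2) (Fin 2) F).det)⁻¹, by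
    rw [det_blk]; exact mul_inv_cancel₀ (Matrix.GeneralLinearGroup.det_ne_zero A)⟩
  map_one' := by
    apply Subtype.ext
    simp [blk_one]
  map_mul' A B := by
    apply Subtype.ext
    show blk _ _ = blk _ _ * blk _ _
    rw [blk_mul, Matrix.GeneralLinearGroup.coe_mul, Matrix.det_mul, mul_inv]

lemma phi_coe (A : GL (Fin 2) F) :
    ((phi A : Matrix.SpecialLinearGroup (Fin 3) F) : Matrix (Fin 3) (Fin 3) F) =
      blk (A : Matrix (Fin 2) (Fin 2) F) ((A : Matrix (Fin 2) (Fin 2) F).det)⁻¹ := rfl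

end blk

section eigen

variable {F : Type*} [Field F]

/-- An involutory matrix over a field of characteristic `≠ 2` has a basis of eigenvectors. -/
lemma exists_eigenbasis (g : Matrix (Fin 3) (Fin 3) F) (h2 : (2 : F) ≠ 0) (hg : g * g = 1) :
    ∃ (P : Matrix (Fin 3) (Fin 3) F) (ε : Fin 3 → F), P.det ≠ 0 ∧
      (∀ j, ε j = 1 ∨ ε j = -1) ∧ g * P = P * Matrix.diagonal ε := by
  classical
  set s : Set (Fin 3 → F) := {v | g.mulVec v = v} ∪ {v | g.mulVec v = -v} with hs_def
  have hs : ⊤ ≤ Submodule.span F s := by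
    intro v _
    have hgg : ∀ w : Fin 3 → F, g.mulVec (g.mulVec w) = w := by
      intro w
      rw [Matrix.mulVec_mulVec, hg, Matrix.one_mulVec]
    have h1 : v + g.mulVec v ∈ s := by
      left
      show g.mulVec (v + g.mulVec v) = v + g.mulVec v
      rw [Matrix.mulVec_add, hgg, add_comm]
    have h3 : v - g.mulVec v ∈ s := by
      right
      show g.mulVec (v - g.mulVec v) = -(v - g.mulVec v)
      rw [Matrix.mulVec_sub, hgg, neg_sub]
    have hv : v = (2 : F)⁻¹ • (v + g.mulVec v) + (2 : F)⁻¹ • (v - g.mulVec v) := by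
      rw [← smul_add]
      have : v + g.mulVec v + (v - g.mulVec v) = (2 : F) • v := by
        rw [two_smul]; abel
      rw [this, smul_smul, inv_mul_cancel₀ h2, one_smul]
    rw [hv]
    exact Submodule.add_mem _ (Submodule.smul_mem _ _ (Submodule.subset_span h1))
      (Submodule.smul_mem _ _ (Submodule.subset_span h3))
  obtain ⟨ι, b, hbs⟩ : ∃ (ι : Type _) (b : Module.Basis ι F (Fin 3 → F)), ∀ i, b i ∈ s :=
    ⟨_, Module.Basis.ofSpan hs, fun i => Module.Basis.ofSpan_subset hs ⟨i, rfl⟩⟩
  let _ : Fintype ι := FiniteDimensional.fintypeBasisIndex b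
  have hcard : Fintype.card ι = 3 := by
    rw [← Module.finrank_eq_card_basis b]
    simp
  let e := Fintype.equivFinOfCardEq hcard
  let b' := b.reindex e
  have hb's : ∀ j, b' j ∈ s := by
    intro j
    have : b' j = b (e.symm j) := by simp [b']
    rw [this]
    exact hbs _
  refine ⟨Matrix.of (fun i j => b' j i), fun j => if g.mulVec (b' j) = b' j then 1 else -1,
    ?_, ?_, ?_⟩
  · have hli : LinearIndependent F (Matrix.of (fun i j => b' j i)).col := by
      have : (Matrix.of (fun i j => b' j i)).col = b' := by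
        ext j i; rfl
      rw [this]
      exact b'.linearIndependent
    have hu := Matrix.linearIndependent_cols_iff_isUnit.mp hli
    rw [Matrix.isUnit_iff_isUnit_det] at hu
    exact hu.ne_zero
  · intro j
    by_cases h : g.mulVec (b' j) = b' j
    · left; simp [h]
    · right; simp [h]
  · ext i j
    rw [Matrix.mul_diagonal]
    have hmv : (g * Matrix.of (fun i j => b' j i)) i j = g.mulVec (b' j) i := by
      simp [Matrix.mul_apply, Matrix.mulVec, dotProduct]
    rw [hmv]
    by_cases h : g.mulVec (b' j) = b' j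
    · simp [h]
    · have h' : g.mulVec (b' j) = - b' j := by
        rcases hb's j with h1 | h1
        · exact absurd h1 h
        · exact h1
      rw [if_neg h, h']
      simp

lemma perm_cols (g P : Matrix (Fin 3) (Fin 3) F) (ε : Fin 3 → F) (σ : Equiv.Perm (Fin 3))
    (h : g * P = P * Matrix.diagonal ε) :
    g * P.submatrix id σ = P.submatrix id σ * Matrix.diagonal (ε ∘ σ) := by
  ext i j
  rw [Matrix.mul_diagonal]
  have := congr_fun (congr_fun h i) (σ j)
  rw [Matrix.mul_diagonal] at this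
  simpa [Matrix.mul_apply] using this

lemma diag_eq_blk : Matrix.diagonal ![(-1 : F), -1, 1] = blk (-1) 1 := by
  ext i j
  fin_cases i <;> fin_cases j <;> simp [blk]

lemma phi_neg_one_coe :
    ((phi (-1 : GL (Fin 2) F) : Matrix.SpecialLinearGroup (Fin 3) F) :
      Matrix (Fin 3) (Fin 3) F) = blk (-1) 1 := by
  rw [phi_coe]
  simp [Matrix.det_fin_two]

/-- Normal form of a non-trivial involution of `SL₃(F)`, `char F ≠ 2`. -/
lemma exists_conj (g : Matrix.SpecialLinearGroup (Fin 3) F) (h2 : (2 : F) ≠ 0)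
    (hg : g * g = 1) (hg1 : g ≠ 1) :
    ∃ P : Matrix.SpecialLinearGroup (Fin 3) F, g * P = P * phi (-1 : GL (Fin 2) F) := by
  have hgm : (g : Matrix (Fin 3) (Fin 3) F) * (g : Matrix (Fin 3) (Fin 3) F) = 1 := by
    rw [← Matrix.SpecialLinearGroup.coe_mul, hg, Matrix.SpecialLinearGroup.coe_one]
  obtain ⟨P, ε, hP, hε, hgP⟩ := exists_eigenbasis (g : Matrix (Fin 3) (Fin 3) F) h2 hgm
  have hprod : ε 0 * ε 1 * ε 2 = 1 := by
    have := congr_arg Matrix.det hgP
    rw [Matrix.det_mul, Matrix.det_mul, g.det_coe, Matrix.det_diagonal, Fin.prod_univ_three,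
      one_mul] at this
    exact (mul_left_cancel₀ hP (by rw [mul_one]; exact this)).symm
  have hneg : (-1 : F) ≠ 1 := by
    intro h
    apply h2
    have : (1 : F) + 1 = 0 := by nth_rewrite 1 [← h]; ring
    rw [← this]; norm_num
  -- key: some permutation brings `ε` to `(-1,-1,1)`
  have key : ∃ σ : Equiv.Perm (Fin 3), ε ∘ σ = ![(-1 : F), -1, 1] := by
    rcases hε 0 with h0 | h0 <;> rcases hε 1 with h1 | h1 <;> rcases hε 2 with h3 | h3
    · exfalso
      apply hg1
      have hε1 : ε = fun _ => 1 := by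
        funext j; fin_cases j <;> assumption
      have hd : Matrix.diagonal ε = 1 := by
        rw [hε1]; exact Matrix.diagonal_one
      rw [hd, mul_one] at hgP
      have hu : IsUnit P := (Matrix.isUnit_iff_isUnit_det P).mpr (isUnit_iff_ne_zero.mpr hP)
      apply Subtype.ext
      rw [Matrix.SpecialLinearGroup.coe_one]
      have := hu.mul_left_injective (a₁ := (g : Matrix (Fin 3) (Fin 3) F)) (a₂ := 1)
      apply this
      simp only [hgP, one_mul]
    · exfalso; rw [h0, h1, h3] at hprod; apply hneg; simpa using hprod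
    · exfalso; rw [h0, h1, h3] at hprod; apply hneg; simpa using hprod
    · refine ⟨Equiv.swap 0 2, ?_⟩
      funext j; fin_cases j <;> simp [h0, h1, h3, Equiv.swap_apply_of_ne_of_ne]
    · exfalso; rw [h0, h1, h3] at hprod; apply hneg; simpa using hprod
    · refine ⟨Equiv.swap 1 2, ?_⟩
      funext j; fin_cases j <;> simp [h0, h1, h3, Equiv.swap_apply_of_ne_of_ne]
    · refine ⟨1, ?_⟩
      funext j; fin_cases j <;> simp [h0, h1, h3]
    · exfalso; rw [h0, h1, h3] at hprod; apply hneg; simpa using hprod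
  obtain ⟨σ, hσ⟩ := key
  have h1 := perm_cols _ P ε σ hgP
  rw [hσ] at h1
  set P' := P.submatrix id σ with hP'
  have hP'det : P'.det ≠ 0 := by
    rw [hP', Matrix.det_permute']
    apply mul_ne_zero _ hP
    rcases Int.units_eq_one_or (Equiv.Perm.sign σ) with h | h <;> rw [h] <;> simp
  set P'' : Matrix (Fin 3) (Fin 3) F := P' * Matrix.diagonal ![(1 : F), 1, (P'.det)⁻¹] with hP''
  have hP''det : P''.det = 1 := by
    rw [hP'', Matrix.det_mul, Matrix.det_diagonal, Fin.prod_univ_three]
    simp [hP'det]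
  have h3 : (g : Matrix (Fin 3) (Fin 3) F) * P'' = P'' * Matrix.diagonal ![(-1 : F), -1, 1] := by
    rw [hP'', ← mul_assoc, h1, mul_assoc, mul_assoc, Matrix.diagonal_mul_diagonal,
      Matrix.diagonal_mul_diagonal]
    congr 2
    funext j
    fin_cases j <;> simp
  obtain ⟨Q, hQ⟩ : ∃ Q : Matrix.SpecialLinearGroup (Fin 3) F,
      (Q : Matrix (Fin 3) (Fin 3) F) = P'' := ⟨⟨P'', hP''det⟩, rfl⟩
  refine ⟨Q, ?_⟩
  apply Subtype.ext
  rw [Matrix.SpecialLinearGroup.coe_mul, Matrix.SpecialLinearGroup.coe_mul, phi_neg_one_coe,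
    ← diag_eq_blk, hQ]
  exact h3

end eigen

section cent

variable {F : Type*} [Field F]

/-- A matrix in `SL₃` commuting with `diag(-1,-1,1)` is in the image of `phi`. -/
lemma exists_phi_eq (h2 : (2 : F) ≠ 0) (h : Matrix.SpecialLinearGroup (Fin 3) F)
    (hc : h * phi (-1 : GL (Fin 2) F) = phi (-1 : GL (Fin 2) F) * h) :
    ∃ A : GL (Fin 2) F, phi A = h := by
  have hm : (h : Matrix (Fin 3) (Fin 3) F) * blk (-1) 1 = blk (-1) 1 * (h : Matrix (Fin 3) (Fin 3) F) := by
    have := congr_arg (fun x : Matrix.SpecialLinearGroup (Fin 3) F =>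
      (x : Matrix (Fin 3) (Fin 3) F)) hc
    simpa only [Matrix.SpecialLinearGroup.coe_mul, phi_neg_one_coe] using this
  have hz : ∀ x : F, x = -x → x = 0 := by
    intro x hx
    have : (2 : F) * x = 0 := by
      rw [two_mul]; nth_rewrite 1 [hx]; ring
    rcases mul_eq_zero.mp this with h | h
    · exact absurd h h2
    · exact h
  have e02 : (h : Matrix (Fin 3) (Fin 3) F) 0 2 = 0 := by
    apply hz
    have := congr_fun (congr_fun hm 0) 2
    simpa [blk, Matrix.mul_apply, Fin.sum_univ_three] using this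
  have e12 : (h : Matrix (Fin 3) (Fin 3) F) 1 2 = 0 := by
    apply hz
    have := congr_fun (congr_fun hm 1) 2
    simpa [blk, Matrix.mul_apply, Fin.sum_univ_three] using this
  have e20 : (h : Matrix (Fin 3) (Fin 3) F) 2 0 = 0 := by
    apply hz
    have := congr_fun (congr_fun hm 2) 0
    simpa [blk, Matrix.mul_apply, Fin.sum_univ_three] using this.symm
  have e21 : (h : Matrix (Fin 3) (Fin 3) F) 2 1 = 0 := by
    apply hz
    have := congr_fun (congr_fun hm 2) 1
    simpa [blk, Matrix.mul_apply, Fin.sum_univ_three] using this.symm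
  set A : Matrix (Fin 2) (Fin 2) F :=
    !![(h : Matrix (Fin 3) (Fin 3) F) 0 0, (h : Matrix (Fin 3) (Fin 3) F) 0 1;
       (h : Matrix (Fin 3) (Fin 3) F) 1 0, (h : Matrix (Fin 3) (Fin 3) F) 1 1] with hA
  have hblk : (h : Matrix (Fin 3) (Fin 3) F) = blk A ((h : Matrix (Fin 3) (Fin 3) F) 2 2) := by
    ext i j
    fin_cases i <;> fin_cases j <;> simp [blk, A, e02, e12, e20, e21]
  have hdet : A.det * (h : Matrix (Fin 3) (Fin 3) F) 2 2 = 1 := by
    rw [← det_blk, ← hblk, h.det_coe]
  have hAdet : A.det ≠ 0 := by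
    intro h0; rw [h0, zero_mul] at hdet; exact zero_ne_one hdet
  refine ⟨Matrix.GeneralLinearGroup.mkOfDetNeZero A hAdet, ?_⟩
  apply Subtype.ext
  rw [phi_coe, hblk]
  have : ((Matrix.GeneralLinearGroup.mkOfDetNeZero A hAdet : GL (Fin 2) F) :
      Matrix (Fin 2) (Fin 2) F) = A := rfl
  rw [this]
  congr 1
  exact (eq_inv_of_mul_eq_one_right hdet).symm

/-- Central elements of `SL₃` have order dividing `3`. -/
lemma center_pow_three (z : Matrix.SpecialLinearGroup (Fin 3) F)
    (hz : z ∈ Subgroup.center (Matrix.SpecialLinearGroup (Fin 3) F)) : z ^ 3 = 1 := by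
  obtain ⟨r, hr, hz'⟩ := Matrix.SpecialLinearGroup.mem_center_iff.mp hz
  rw [Fintype.card_fin] at hr
  apply Subtype.ext
  rw [Matrix.SpecialLinearGroup.coe_pow, ← hz', ← map_pow, hr, map_one,
    Matrix.SpecialLinearGroup.coe_one]

/-- If the images of `h` and an involution `d` commute in `PSL₃`, then `h` and `d` commute. -/
lemma commute_of_mk (h d : Matrix.SpecialLinearGroup (Fin 3) F) (hd : d * d = 1)
    (hc : (QuotientGroup.mk h : Matrix.ProjectiveSpecialLinearGroup (Fin 3) F) *
        QuotientGroup.mk d = QuotientGroup.mk d * QuotientGroup.mk h) : h * d = d * h := by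
  have hz : (d * h)⁻¹ * (h * d) ∈ Subgroup.center (Matrix.SpecialLinearGroup (Fin 3) F) := by
    rw [← QuotientGroup.eq]
    exact hc.symm
  set z := (d * h)⁻¹ * (h * d) with hz_def
  have e1 : h * d = d * h * z := by rw [hz_def]; group
  have hzc : ∀ x, x * z = z * x := Subgroup.mem_center_iff.mp hz
  have e2 : h * d * h⁻¹ = d * z := by
    rw [e1, mul_assoc d h z, hzc h, ← mul_assoc, mul_assoc (d * z), mul_inv_cancel, mul_one]
  have e3 : (h * d * h⁻¹) ^ 2 = 1 := by
    rw [conj_pow, pow_two, hd, mul_one, mul_inv_cancel]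
  have e4 : (d * z) ^ 2 = z ^ 2 := by
    have hcz : Commute d z := hzc d
    rw [hcz.mul_pow, pow_two d, hd, one_mul]
  have z2 : z ^ 2 = 1 := by rw [← e4, ← e2, e3]
  have z3 : z ^ 3 = 1 := center_pow_three z hz
  have z1 : z = 1 := by
    have : z ^ 3 = z ^ 2 * z := pow_succ z 2
    rw [z3, z2, one_mul] at this
    exact this.symm
  rw [e1, z1, mul_one]

/-- The composite `GL₂ → SL₃ → PSL₃`. -/
noncomputable def psi : GL (Fin 2) F →* Matrix.ProjectiveSpecialLinearGroup (Fin 3) F :=
  (QuotientGroup.mk' (Subgroup.center (Matrix.SpecialLinearGroup (Fin 3) F))).comp phi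

lemma psi_apply (A : GL (Fin 2) F) :
    psi A = (QuotientGroup.mk (phi A) : Matrix.ProjectiveSpecialLinearGroup (Fin 3) F) := rfl

lemma range_psi (h2 : (2 : F) ≠ 0) :
    (psi (F := F)).range = Subgroup.centralizer {psi (-1 : GL (Fin 2) F)} := by
  ext x
  rw [Subgroup.mem_centralizer_singleton_iff]
  constructor
  · rintro ⟨A, rfl⟩
    rw [← map_mul, ← map_mul]
    congr 1
    simp
  · intro hx
    obtain ⟨h, rfl⟩ := QuotientGroup.mk_surjective x
    have hd : phi (-1 : GL (Fin 2) F) * phi (-1 : GL (Fin 2) F) = 1 := by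
      rw [← map_mul]; simp
    have hcomm := commute_of_mk h (phi (-1 : GL (Fin 2) F)) hd hx
    obtain ⟨A, hA⟩ := exists_phi_eq h2 h hcomm
    exact ⟨A, by rw [psi_apply, hA]⟩

lemma ker_psi : (psi (F := F)).ker =
    ((powMonoidHom 3 : Fˣ →* Fˣ).ker).map (Matrix.GeneralLinearGroup.scalar (Fin 2)) := by
  ext A
  rw [MonoidHom.mem_ker, Subgroup.mem_map, psi_apply, QuotientGroup.eq_one_iff,
    Matrix.SpecialLinearGroup.mem_center_iff]
  constructor
  · rintro ⟨r, hr, hrA⟩
    rw [Fintype.card_fin] at hr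
    have hr0 : r ≠ 0 := by
      rintro rfl
      simp at hr
    refine ⟨Units.mk0 r hr0, ?_, ?_⟩
    · rw [MonoidHom.mem_ker, powMonoidHom_apply]
      ext
      simpa using hr
    · rw [phi_coe] at hrA
      have e00 := congr_fun (congr_fun hrA 0) 0
      have e01 := congr_fun (congr_fun hrA 0) 1
      have e10 := congr_fun (congr_fun hrA 1) 0
      have e11 := congr_fun (congr_fun hrA 1) 1
      simp [blk] at e00 e01 e10 e11
      apply Matrix.GeneralLinearGroup.ext
      intro i j
      fin_cases i <;> fin_cases j <;> simp [← e00, ← e01, ← e10, ← e11]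
  · rintro ⟨u, hu, rfl⟩
    rw [MonoidHom.mem_ker, powMonoidHom_apply] at hu
    have hu3 : (u : F) ^ 3 = 1 := by
      have := congr_arg Units.val hu
      simpa using this
    refine ⟨(u : F), by rw [Fintype.card_fin]; exact hu3, ?_⟩
    rw [phi_coe]
    have hinv : (u : F) = ((u : F) ^ 2)⁻¹ := by
      apply eq_inv_of_mul_eq_one_left
      rw [← hu3]; ring
    ext i j
    fin_cases i <;> fin_cases j <;> simp [blk, ← hinv]

end cent

/-- Centralizers of conjugate elements are isomorphic. -/
noncomputable def centralizerConjEquiv {G : Type*} [Group G] (a x : G) :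
    Subgroup.centralizer ({a * x * a⁻¹} : Set G) ≃* Subgroup.centralizer ({x} : Set G) where
  toFun y := ⟨a⁻¹ * y * a, by
    have := Subgroup.mem_centralizer_singleton_iff.mp y.2
    rw [Subgroup.mem_centralizer_singleton_iff]
    calc a⁻¹ * y * a * x = a⁻¹ * (y * (a * x * a⁻¹)) * a := by group
      _ = a⁻¹ * ((a * x * a⁻¹) * y) * a := by rw [this]
      _ = x * (a⁻¹ * y * a) := by group⟩
  invFun y := ⟨a * y * a⁻¹, by
    have := Subgroup.mem_centralizer_singleton_iff.mp y.2
    rw [Subgroup.mem_centralizer_singleton_iff]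
    calc a * y * a⁻¹ * (a * x * a⁻¹) = a * (y * x) * a⁻¹ := by group
      _ = a * (x * y) * a⁻¹ := by rw [this]
      _ = a * x * a⁻¹ * (a * y * a⁻¹) := by group⟩
  left_inv y := by
    apply Subtype.ext
    show a * (a⁻¹ * y * a) * a⁻¹ = y
    group
  right_inv y := by
    apply Subtype.ext
    show a⁻¹ * (a * y * a⁻¹) * a = y
    group
  map_mul' y z := by
    apply Subtype.ext
    show a⁻¹ * (y * z) * a = (a⁻¹ * y * a) * (a⁻¹ * z * a)
    group

lemma scalar_injective {F : Type*} [Field F] :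
    Function.Injective (Matrix.GeneralLinearGroup.scalar (Fin 2) : Fˣ →* GL (Fin 2) F) := by
  intro u v h
  have := congr_arg (fun A : GL (Fin 2) F => (A : Matrix (Fin 2) (Fin 2) F) 0 0) h
  simp at this
  exact Units.ext this

/-- Let F be a finite field of odd order q and t an involution of PSL(3,F). Then C(t) is isomorphic to the quotient of GL(2,F) by a central subgroup of order gcd(q−1, 3). -/
theorem result {F : Type*} [Field F] [Fintype F] (hF : Odd (Fintype.card F)) (t : Matrix.ProjectiveSpecialLinearGroup (Fin 3) F) (ht : orderOf t = 2) : ∃ (Z : Subgroup (GL (Fin 2) F)) (_ : Z.Normal), Z ≤ Subgroup.center (GL (Fin 2) F) ∧ Nat.card Z = Nat.gcd (Fintype.card F - 1) 3 ∧ Nonempty (↥(Subgroup.centralizer ({t} : Set (Matrix.ProjectiveSpecialLinearGroup (Fin 3) F))) ≃* GL (Fin 2) F ⧸ Z) := by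
  classical
  have h2 : (2 : F) ≠ 0 := by
    apply Ring.two_ne_zero
    intro hch
    have := FiniteField.even_card_of_char_two hch
    rcases hF with ⟨k, hk⟩
    omega
  obtain ⟨g0, rfl⟩ := QuotientGroup.mk_surjective t
  have ht2 : (QuotientGroup.mk g0 : Matrix.ProjectiveSpecialLinearGroup (Fin 3) F) ^ 2 = 1 := by
    rw [← ht]; exact pow_orderOf_eq_one _
  have ht1 : (QuotientGroup.mk g0 : Matrix.ProjectiveSpecialLinearGroup (Fin 3) F) ≠ 1 := by
    intro h
    rw [h, orderOf_one] at ht
    omega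
  have hg0 : g0 ^ 2 ∈ Subgroup.center (Matrix.SpecialLinearGroup (Fin 3) F) := by
    rw [← QuotientGroup.eq_one_iff]
    exact ht2
  set g := g0 ^ 3 with hg_def
  have hgg : g * g = 1 := by
    have := center_pow_three _ hg0
    calc g * g = (g0 ^ 2) ^ 3 := by rw [hg_def]; group
      _ = 1 := this
  have hgt : (QuotientGroup.mk g : Matrix.ProjectiveSpecialLinearGroup (Fin 3) F) =
      QuotientGroup.mk g0 := by
    rw [hg_def, QuotientGroup.mk_pow, pow_succ, ht2, one_mul]
  have hg1 : g ≠ 1 := by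
    intro h
    apply ht1
    rw [← hgt, h]
    rfl
  obtain ⟨P, hP⟩ := exists_conj g h2 hgg hg1
  have hconj : (QuotientGroup.mk g0 : Matrix.ProjectiveSpecialLinearGroup (Fin 3) F) =
      QuotientGroup.mk P * psi (-1 : GL (Fin 2) F) * (QuotientGroup.mk P)⁻¹ := by
    rw [← hgt, eq_mul_inv_iff_mul_eq, psi_apply, ← QuotientGroup.mk_mul, ← QuotientGroup.mk_mul, hP]
  refine ⟨(psi (F := F)).ker, inferInstance, ?_, ?_, ?_⟩
  · rw [ker_psi, Matrix.GeneralLinearGroup.center_eq_range_scalar]
    exact Subgroup.map_le_range _ _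
  · rw [ker_psi, Subgroup.card_map_of_injective scalar_injective, IsCyclic.card_powMonoidHom_ker,
      Nat.card_eq_fintype_card, Fintype.card_units]
  · rw [hconj]
    exact ⟨(centralizerConjEquiv _ _).trans
      ((MulEquiv.subgroupCongr (range_psi h2).symm).trans
        (QuotientGroup.quotientKerEquivRange psi).symm)⟩

end Cfsg.Agent.S1219
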