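import Cfsg.Statements.S1226
import Mathlib
import Cfsg.Agent.Lib.Helper45.StronglyEmbedded

set_option autoImplicit false
open Cfsg

namespace Cfsg.Agent.S1226

open Cfsg.Agent.Helper45.SE

/-- A subgroup all of whose elements square to one is a 2-group. -/
theorem isPGroup_of_sq {G : Type*} [Group G] (K : Subgroup G) (h : ∀ c ∈ K, c ^ 2 = 1) :
    IsPGroup 2 K := by
  intro c
  refine ⟨1, ?_⟩
  apply Subtype.ext
  rw [pow_one, Subgroup.coe_pow, h c.1 c.2, Subgroup.coe_one]

/-- an involution normalizing a Sylow 2-subgroup lies in it -/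
theorem mem_of_mem_normalizer {G : Type*} [Group G] (T : Sylow 2 G) {s : G} (hs : orderOf s = 2)
    (hsN : s ∈ Subgroup.normalizer ((T : Subgroup G) : Set G)) : s ∈ (T : Subgroup G) := by
  have hz : IsPGroup 2 (Subgroup.zpowers s) := by
    intro c
    refine ⟨1, ?_⟩
    obtain ⟨c, k, rfl⟩ := c
    apply Subtype.ext
    simp only [pow_one, Subgroup.coe_pow, Subgroup.coe_one]
    rw [← zpow_natCast, ← zpow_mul, mul_comm, zpow_mul, zpow_natCast]
    have : s ^ 2 = 1 := by rw [← hs]; exact pow_orderOf_eq_one s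
    rw [this, one_zpow]
  have hle : Subgroup.zpowers s ≤ Subgroup.normalizer ((T : Subgroup G) : Set G) := by
    rw [Subgroup.zpowers_le]; exact hsN
  have hsup := IsPGroup.to_sup_of_normal_left' T.isPGroup' hz hle
  have := T.is_maximal' hsup le_sup_left
  have h2 : Subgroup.zpowers s ≤ (T : Subgroup G) := by
    rw [← this]; exact le_sup_right
  exact h2 (Subgroup.mem_zpowers s)

/-- Let G be a finite group with a Sylow 2-subgroup T that is neither cyclic nor normal, such that the centralizer of every involution is an elementary abelian 2-group. Then N_G(T) is a strongly embedded subgroup of G. -/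
theorem result {G : Type*} [Group G] [Finite G] (T : Sylow 2 G) (hnc : ¬ IsCyclic (T : Subgroup G)) (hnn : ¬ (T : Subgroup G).Normal) (hC : ∀ t : G, orderOf t = 2 → IsMulCommutative (Subgroup.centralizer ({t} : Set G)) ∧ ∀ c ∈ Subgroup.centralizer ({t} : Set G), c ^ 2 = 1) : Cfsg.IsStronglyEmbedded (Subgroup.normalizer ((T : Subgroup G) : Set G)) := by
  have : Fact (Nat.Prime 2) := ⟨Nat.prime_two⟩
  -- T is nontrivial
  have hTnt : Nontrivial (T : Subgroup G) := by
    by_contra h
    rw [not_nontrivial_iff_subsingleton] at h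
    exact hnc inferInstance
  -- a central involution z of T
  have hcen : Nontrivial (Subgroup.center (T : Subgroup G)) := T.isPGroup'.center_nontrivial
  have hceven : Even (Nat.card (Subgroup.center (T : Subgroup G))) := by
    have hp : IsPGroup 2 (Subgroup.center (T : Subgroup G)) :=
      T.isPGroup'.to_subgroup _
    obtain ⟨n, hn⟩ := IsPGroup.iff_card.mp hp
    rw [hn]
    have hn0 : n ≠ 0 := by
      intro h0
      rw [h0, pow_zero] at hn
      have := (Nat.card_eq_one_iff_unique.mp hn).1
      exact not_subsingleton _ this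
    exact (Nat.even_pow.mpr ⟨even_two, hn0⟩)
  have h2dvd : 2 ∣ Nat.card (Subgroup.center (T : Subgroup G)) := even_iff_two_dvd.mp hceven
  obtain ⟨z, hz⟩ := exists_prime_orderOf_dvd_card' (G := Subgroup.center (T : Subgroup G)) 2 h2dvd
  have hzG : orderOf ((z : (T : Subgroup G)) : G) = 2 := by
    rw [Subgroup.orderOf_coe, Subgroup.orderOf_coe, hz]
  have hzT : ((z : (T : Subgroup G)) : G) ∈ (T : Subgroup G) := (z : (T : Subgroup G)).2
  -- T ≤ C(z)
  have hTz : (T : Subgroup G) ≤ Subgroup.centralizer ({((z : (T : Subgroup G)) : G)} : Set G) := by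
    intro n hn
    rw [Subgroup.mem_centralizer_singleton_iff]
    have := Subgroup.mem_center_iff.mp z.2 ⟨n, hn⟩
    have h2 := congrArg (Subtype.val) this
    simpa using h2
  have hCz : Subgroup.centralizer ({((z : (T : Subgroup G)) : G)} : Set G) = (T : Subgroup G) :=
    T.is_maximal' (isPGroup_of_sq _ (hC _ hzG).2) hTz
  -- T commutative
  have hTcomm : ∀ a ∈ (T : Subgroup G), ∀ b ∈ (T : Subgroup G), a * b = b * a := by
    intro a ha b hb
    have hc := (hC _ hzG).1
    rw [hCz] at hc
    have := hc.is_comm.comm (⟨a, ha⟩ : (T : Subgroup G)) ⟨b, hb⟩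
    exact congrArg Subtype.val this
  -- C(s) = T for any involution s of T
  have hCs : ∀ s : G, orderOf s = 2 → s ∈ (T : Subgroup G) →
      Subgroup.centralizer ({s} : Set G) = (T : Subgroup G) := by
    intro s hs hsT
    apply T.is_maximal' (isPGroup_of_sq _ (hC _ hs).2)
    intro n hn
    rw [Subgroup.mem_centralizer_singleton_iff]
    exact hTcomm n hn s hsT
  refine ⟨?_, ?_, ?_⟩
  · intro h
    exact hnn (Subgroup.normalizer_eq_top_iff.mp h)
  · exact even_card_of_mem _ hzG (Subgroup.le_normalizer hzT)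
  · intro g hg
    rw [← Nat.not_even_iff_odd]
    intro hev
    apply hg
    obtain ⟨s, hsmem, hs⟩ := exists_invol_of_even _ hev
    have hsT : s ∈ (T : Subgroup G) := mem_of_mem_normalizer T hs hsmem.1
    have hs' : orderOf (g⁻¹ * s * g) = 2 := by
      have := orderOf_conj' g⁻¹ s
      rw [inv_inv] at this
      rw [this, hs]
    have hs'T : g⁻¹ * s * g ∈ (T : Subgroup G) :=
      mem_of_mem_normalizer T hs' ((mem_conj_map _ g s).mp hsmem.2)
    have h1 := hCs s hs hsT
    have h2 := hCs _ hs' hs'T
    rw [Subgroup.mem_normalizer_iff]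
    intro n
    have e1 : g * n * g⁻¹ ∈ (T : Subgroup G) ↔ g * n * g⁻¹ * s = s * (g * n * g⁻¹) := by
      rw [← h1, Subgroup.mem_centralizer_singleton_iff]
    have e2 : n ∈ (T : Subgroup G) ↔ n * (g⁻¹ * s * g) = (g⁻¹ * s * g) * n := by
      rw [← h2, Subgroup.mem_centralizer_singleton_iff]
    rw [e1, e2]
    constructor
    · intro h
      have : g * n * g⁻¹ * s = g * (n * (g⁻¹ * s * g)) * g⁻¹ := by group
      rw [this, h]; group
    · intro h
      have : n * (g⁻¹ * s * g) = g⁻¹ * (g * n * g⁻¹ * s) * g := by group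
      rw [this, h]; group

end Cfsg.Agent.S1226
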