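import Cfsg.Statements.S1231
import Cfsg.Agent.Lib.Helper19.PRank
-- import your own Cfsg.Agent.* helpers here

set_option autoImplicit false
open Cfsg

namespace Cfsg.Agent.S1231

open Cfsg.Agent.Helper19 in
theorem key {G : Type*} [Group G] [Finite G] {p : ℕ} [Fact p.Prime] (k : ℕ) (H : Subgroup G)
    (P : Sylow p ↥H)
    (hyp1 : ∀ X : Subgroup G, X ≤ (P : Subgroup ↥H).map H.subtype →
      ¬ Cfsg.PRankLE p (k - 1) ↥X → Subgroup.normalizer (X : Set G) ≤ H)
    (hPrank : ¬ Cfsg.PRankLE p (k - 1) ↥((P : Subgroup ↥H).map H.subtype)) :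
    ∀ m : ℕ, ∀ (g : G) (Q : Subgroup G), g ∉ H → Q ≤ H →
      Q ≤ H.map (MulAut.conj g).toMonoidHom → IsPGroup p Q →
      ¬ Cfsg.PRankLE p (k - 1) ↥Q → Nat.card G - Nat.card Q = m → False := by
  intro m
  induction m using Nat.strong_induction_on with
  | _ m ih =>
  intro g Q hg hQH hQHg hQp hQrank hm
  have hP'p : IsPGroup p ((P : Subgroup ↥H).map H.subtype) := P.2.map _
  -- Step 1
  obtain ⟨h, hh, hQ1⟩ := exists_conj_le_sylow H P hQH hQp
  have hg1 : h * g ∉ H := fun hc => hg (by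
    have := H.mul_mem (H.inv_mem hh) hc
    simpa using this)
  have hQ1p : IsPGroup p (Q.map (MulAut.conj h).toMonoidHom) := isPGroup_map_conj hQp h
  have hQ1rank : ¬ Cfsg.PRankLE p (k - 1) ↥(Q.map (MulAut.conj h).toMonoidHom) :=
    fun hc => hQrank (prankLE_of_map_conj h hc)
  have hQ1card : Nat.card (Q.map (MulAut.conj h).toMonoidHom) = Nat.card Q := card_map_conj Q h
  have hQ1Hg : Q.map (MulAut.conj h).toMonoidHom ≤ H.map (MulAut.conj (h * g)).toMonoidHom := by
    rw [← map_conj_map_conj]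
    exact Subgroup.map_mono hQHg
  generalize Q.map (MulAut.conj h).toMonoidHom = Q1 at *
  generalize h * g = g1 at *
  -- Step 2
  have hQ1'H : Q1.map (MulAut.conj g1⁻¹).toMonoidHom ≤ H := by
    rintro _ ⟨x, hx, rfl⟩
    have := mem_map_conj.1 (hQ1Hg hx)
    simpa [MulAut.conj_apply] using this
  obtain ⟨h', hh', hQ2⟩ := exists_conj_le_sylow H P hQ1'H (isPGroup_map_conj hQ1p _)
  rw [map_conj_map_conj] at hQ2
  have hg2 : g1 * h'⁻¹ ∉ H := fun hc => hg1 (by
    have := H.mul_mem hc hh'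
    simpa using this)
  have hQ1Hg2 : Q1 ≤ H.map (MulAut.conj (g1 * h'⁻¹)).toMonoidHom := by
    intro x hx
    have := mem_map_conj.1 (hQ1Hg hx)
    rw [mem_map_conj]
    have e : (g1 * h'⁻¹)⁻¹ * x * (g1 * h'⁻¹) = h' * (g1⁻¹ * x * g1) * h'⁻¹ := by group
    rw [e]
    exact H.mul_mem (H.mul_mem hh' this) (H.inv_mem hh')
  have hQ1P'g2 : Q1 ≤ ((P : Subgroup ↥H).map H.subtype).map
      (MulAut.conj (g1 * h'⁻¹)).toMonoidHom := by
    intro x hx
    rw [mem_map_conj]
    have : (MulAut.conj (h' * g1⁻¹)) x ∈ (P : Subgroup ↥H).map H.subtype :=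
      hQ2 ⟨x, hx, rfl⟩
    have e : (g1 * h'⁻¹)⁻¹ * x * (g1 * h'⁻¹) = (MulAut.conj (h' * g1⁻¹)) x := by
      simp [MulAut.conj_apply, mul_assoc]
    rw [e]
    exact this
  generalize g1 * h'⁻¹ = g2 at *
  -- Step 3
  have hN1 : Subgroup.normalizer (Q1 : Set G) ≤ H := hyp1 Q1 hQ1 hQ1rank
  have hQ3P' : Q1.map (MulAut.conj g2⁻¹).toMonoidHom ≤ (P : Subgroup ↥H).map H.subtype := by
    rintro _ ⟨x, hx, rfl⟩
    have := mem_map_conj.1 (hQ1P'g2 hx)
    simpa [MulAut.conj_apply] using this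
  have hQ3rank : ¬ Cfsg.PRankLE p (k - 1) ↥(Q1.map (MulAut.conj g2⁻¹).toMonoidHom) :=
    fun hc => hQ1rank ((prankLE_map_conj_iff _).1 hc)
  have hN3 := hyp1 _ hQ3P' hQ3rank
  have hN1' : Subgroup.normalizer (Q1 : Set G) ≤ H.map (MulAut.conj g2).toMonoidHom := by
    intro x hx
    rw [mem_map_conj]
    apply hN3
    rw [normalizer_map_conj, mem_map_conj]
    have e : g2⁻¹⁻¹ * (g2⁻¹ * x * g2) * g2⁻¹ = x := by group
    rw [e]
    exact hx
  -- Step 4
  by_cases hcase : Q1 = (P : Subgroup ↥H).map H.subtype ∧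
      Q1 = ((P : Subgroup ↥H).map H.subtype).map (MulAut.conj g2).toMonoidHom
  · obtain ⟨e1, e2⟩ := hcase
    have hmem : g2 ∈ Subgroup.normalizer
        (((P : Subgroup ↥H).map H.subtype : Subgroup G) : Set G) := by
      rw [Subgroup.mem_normalizer_iff]
      intro y
      constructor
      · intro hy
        have h1 : g2 * y * g2⁻¹ ∈ ((P : Subgroup ↥H).map H.subtype).map
            (MulAut.conj g2).toMonoidHom := by
          rw [mem_map_conj]
          have e : g2⁻¹ * (g2 * y * g2⁻¹) * g2 = y := by group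
          rw [e]; exact hy
        rw [← e2, e1] at h1
        exact h1
      · intro hy
        have h1 : g2 * y * g2⁻¹ ∈ ((P : Subgroup ↥H).map H.subtype).map
            (MulAut.conj g2).toMonoidHom := by
          rw [← e2, e1]; exact hy
        have := mem_map_conj.1 h1
        have e : g2⁻¹ * (g2 * y * g2⁻¹) * g2 = y := by group
        rw [e] at this
        exact this
    exact hg2 (hyp1 _ le_rfl hPrank hmem)
  · have hex : ∃ R : Subgroup G, IsPGroup p R ∧ Q1 < R := by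
      by_cases h1 : Q1 = (P : Subgroup ↥H).map H.subtype
      · have h2 : Q1 ≠ ((P : Subgroup ↥H).map H.subtype).map (MulAut.conj g2).toMonoidHom :=
          fun h2 => hcase ⟨h1, h2⟩
        exact ⟨_, isPGroup_map_conj hP'p g2, lt_of_le_of_ne hQ1P'g2 h2⟩
      · exact ⟨_, hP'p, lt_of_le_of_ne hQ1 h1⟩
    obtain ⟨R, hRp, hlt⟩ := hex
    have hlt2 := lt_inf_normalizer_of_lt hRp hlt
    have hQ2p : IsPGroup p ↥(R ⊓ Subgroup.normalizer (Q1 : Set G)) := hRp.to_le inf_le_left
    have hQ2rank : ¬ Cfsg.PRankLE p (k - 1) ↥(R ⊓ Subgroup.normalizer (Q1 : Set G)) :=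
      fun hc => hQ1rank (prankLE_mono hlt2.le hc)
    have hcard := card_lt_card_of_lt hlt2
    have hQ2le : Nat.card ↥(R ⊓ Subgroup.normalizer (Q1 : Set G)) ≤ Nat.card G :=
      Subgroup.card_le_card_group _
    exact ih (Nat.card G - Nat.card ↥(R ⊓ Subgroup.normalizer (Q1 : Set G))) (by omega) g2
      (R ⊓ Subgroup.normalizer (Q1 : Set G)) hg2 (inf_le_right.trans hN1)
      (inf_le_right.trans hN1') hQ2p hQ2rank rfl

/-- Let H be a subgroup of the finite group G, p a prime, k ≥ 1, and P a Sylow p-subgroup of H whose p-rank is at least k. Then N_G(X) ≤ H for every subgroup X of P of p-rank at least k if and only if H ∩ gHg⁻¹ has p-rank less than k for every g ∉ H. -/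
theorem result {G : Type*} [Group G] [Finite G] {p : ℕ} [Fact p.Prime] (k : ℕ) (hk : 1 ≤ k) (H : Subgroup G) (P : Sylow p ↥H) (hP : ¬ Cfsg.PRankLE p (k - 1) ↥(P : Subgroup ↥H)) : (∀ X : Subgroup G, X ≤ (P : Subgroup ↥H).map H.subtype → ¬ Cfsg.PRankLE p (k - 1) ↥X → Subgroup.normalizer (X : Set G) ≤ H) ↔ (∀ g : G, g ∉ H → Cfsg.PRankLE p (k - 1) ↥(H ⊓ H.map (MulAut.conj g).toMonoidHom)) := by
  classical
  have hP'H : (P : Subgroup ↥H).map H.subtype ≤ H := Subgroup.map_subtype_le _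
  have hP'rank : ¬ Cfsg.PRankLE p (k - 1) ↥((P : Subgroup ↥H).map H.subtype) := by
    intro h
    apply hP
    rw [Cfsg.Agent.Helper19.prankLE_subgroup_iff] at h ⊢
    intro X hX hc he
    have := h (X.map H.subtype) (Subgroup.map_mono hX) ?_ ?_
    · rwa [Subgroup.card_map_of_injective H.subtype_injective] at this
    · rintro _ ⟨a, ha, rfl⟩ _ ⟨b, hb, rfl⟩
      rw [← map_mul, ← map_mul, hc a ha b hb]
    · rintro _ ⟨a, ha, rfl⟩
      rw [← map_pow, he a ha, map_one]
  constructor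
  · intro hyp1 g hg
    by_contra hrank
    rw [Cfsg.Agent.Helper19.prankLE_subgroup_iff] at hrank
    push Not at hrank
    obtain ⟨A, hAle, hc, he, hcard⟩ := hrank
    have hAp : IsPGroup p A := by
      intro x
      refine ⟨1, ?_⟩
      apply Subtype.ext
      rw [pow_one]
      exact he x.1 x.2
    have hArank : ¬ Cfsg.PRankLE p (k - 1) ↥A := by
      rw [Cfsg.Agent.Helper19.prankLE_subgroup_iff]
      push Not
      exact ⟨A, le_rfl, hc, he, hcard⟩
    exact key k H P hyp1 hP'rank (Nat.card G - Nat.card A) g A hg (hAle.trans inf_le_left)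
      (hAle.trans inf_le_right) hAp hArank rfl
  · intro hyp2 X hXP hXrank g hgN
    by_contra hgH
    have h2 := hyp2 g hgH
    apply hXrank
    refine Cfsg.Agent.Helper19.prankLE_mono ?_ h2
    refine le_inf (hXP.trans hP'H) ?_
    intro x hx
    rw [Cfsg.Agent.Helper19.mem_map_conj]
    have hinv : g⁻¹ ∈ Subgroup.normalizer (X : Set G) := inv_mem hgN
    have := (Subgroup.mem_normalizer_iff.1 hinv x).1 hx
    rw [inv_inv] at this
    exact hP'H (hXP this)

end Cfsg.Agent.S1231
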