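import Cfsg.Statements.S1236
-- import your own Cfsg.Agent.* helpers here

set_option autoImplicit false
open Cfsg

namespace Cfsg.Agent.S1236

/-- A subgroup of a cyclic group `⟨x⟩` all of whose elements square to one has at most two elements. -/
theorem card_le_two_of_le_zpowers {Q : Type*} [Group Q] [Finite Q] (x : Q) (K : Subgroup Q)
    (hK : K ≤ Subgroup.zpowers x) (h2 : ∀ g ∈ K, g ^ 2 = 1) : Nat.card K ≤ 2 := by
  have hcyc : IsCyclic K := Subgroup.isCyclic_of_le hK
  obtain ⟨k, hk⟩ := IsCyclic.exists_generator (α := K)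
  have h1 : orderOf k = Nat.card K := orderOf_eq_card_of_forall_mem_zpowers hk
  have h3 : k ^ 2 = 1 := by
    apply Subtype.ext
    simpa using h2 k.1 k.2
  have h4 : orderOf k ∣ 2 := orderOf_dvd_of_pow_eq_one h3
  rw [← h1]
  exact Nat.le_of_dvd (by norm_num) h4

/-- Abstract lemma. -/
theorem lemmaQ {Q : Type*} [Group Q] [Finite Q] (x : Q) (hx : (Subgroup.zpowers x).index = 2)
    (hc : ∀ w : Q, w ∉ Subgroup.zpowers x → ∀ g ∈ Subgroup.zpowers x, g * w = w * g → g ^ 2 = 1)
    (V : Subgroup Q) (hV4 : Nat.card V = 4) (hVc : ∀ a ∈ V, ∀ b ∈ V, a * b = b * a)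
    (hV2 : ∀ a ∈ V, a ^ 2 = 1) : Subgroup.centralizer (V : Set Q) = V := by
  classical
  -- an element of V outside ⟨x⟩
  have hex : ∃ w ∈ V, w ∉ Subgroup.zpowers x := by
    by_contra hcon
    push Not at hcon
    have hle : V ≤ Subgroup.zpowers x := hcon
    have := card_le_two_of_le_zpowers x V hle hV2
    omega
  obtain ⟨w, hwV, hwx⟩ := hex
  -- the centralizer of w
  set C : Subgroup Q := Subgroup.centralizer ({w} : Set Q) with hC
  have hCle : Subgroup.centralizer (V : Set Q) ≤ C :=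
    Subgroup.centralizer_le (by simpa using hwV)
  have hVC : V ≤ Subgroup.centralizer (V : Set Q) := by
    intro a ha
    rw [Subgroup.mem_centralizer_iff]
    intro b hb
    exact hVc b hb a ha
  have h1 : Nat.card (C ⊓ Subgroup.zpowers x : Subgroup Q) ≤ 2 := by
    apply card_le_two_of_le_zpowers x _ inf_le_right
    intro g hg
    have hg1 := (Subgroup.mem_inf.1 hg).1
    have hg2 := (Subgroup.mem_inf.1 hg).2
    apply hc w hwx g hg2
    rw [hC, Subgroup.mem_centralizer_iff] at hg1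
    exact (hg1 w (Set.mem_singleton w)).symm
  have h2 : (Subgroup.zpowers x).relIndex C ≤ 2 := by
    have hne : (Subgroup.zpowers x).relIndex (⊤ : Subgroup Q) ≠ 0 := by
      rw [Subgroup.relIndex_top_right, hx]; norm_num
    have := Subgroup.relIndex_le_of_le_right (H := Subgroup.zpowers x) (le_top : C ≤ ⊤) hne
    rwa [Subgroup.relIndex_top_right, hx] at this
  have h3 : Nat.card (C ⊓ Subgroup.zpowers x : Subgroup Q) * (Subgroup.zpowers x).relIndex C
      = Nat.card C := by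
    have := Subgroup.relIndex_mul_relIndex (⊥ : Subgroup Q) (C ⊓ Subgroup.zpowers x) C bot_le inf_le_left
    rw [Subgroup.relIndex_bot_left, Subgroup.relIndex_bot_left, inf_comm,
      Subgroup.inf_relIndex_right] at this
    rw [inf_comm]
    exact this
  have h4 : Nat.card C ≤ 4 := by
    rw [← h3]
    calc _ ≤ 2 * 2 := Nat.mul_le_mul h1 h2
      _ = 4 := by norm_num
  have h5 : Nat.card (Subgroup.centralizer (V : Set Q)) ≤ Nat.card V := by
    rw [hV4]
    exact le_trans (Subgroup.card_le_of_le hCle) h4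
  exact (Subgroup.eq_of_le_of_card_ge hVC h5).symm

/-- Dihedral case. -/
theorem dihedral_case {Q : Type*} [Group Q] [Finite Q] (m : ℕ) (hm : 2 ≤ m)
    (e : Q ≃* DihedralGroup m)
    (V : Subgroup Q) (hV4 : Nat.card V = 4) (hVc : ∀ a ∈ V, ∀ b ∈ V, a * b = b * a)
    (hV2 : ∀ a ∈ V, a ^ 2 = 1) : Subgroup.centralizer (V : Set Q) = V := by
  have : NeZero m := ⟨by omega⟩
  set x : Q := e.symm (DihedralGroup.r 1) with hxdef
  have hox : orderOf x = m := by
    rw [hxdef, MulEquiv.orderOf_eq, DihedralGroup.orderOf_r_one]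
  have hcardQ : Nat.card Q = 2 * m := by
    rw [Nat.card_congr e.toEquiv, DihedralGroup.nat_card]
  have hidx : (Subgroup.zpowers x).index = 2 := by
    have h1 := Subgroup.card_mul_index (Subgroup.zpowers x)
    rw [Nat.card_zpowers, hox, hcardQ] at h1
    have hm0 : 0 < m := by omega
    have : m * (Subgroup.zpowers x).index = m * 2 := by rw [h1]; ring
    exact Nat.eq_of_mul_eq_mul_left hm0 this
  apply lemmaQ x hidx _ V hV4 hVc hV2
  intro w hw g hg hcomm
  -- e g = r k
  obtain ⟨k, rfl⟩ := Subgroup.mem_zpowers_iff.1 hg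
  have heg : e (x ^ k) = DihedralGroup.r (k : ZMod m) := by
    rw [map_zpow, hxdef, MulEquiv.apply_symm_apply, DihedralGroup.r_one_zpow]
  -- e w = sr i
  have hew : ∃ i, e w = DihedralGroup.sr i := by
    rcases hh : e w with i | i
    · exfalso
      apply hw
      have : w = x ^ (i.val) := by
        apply e.injective
        rw [map_pow, hxdef, MulEquiv.apply_symm_apply, DihedralGroup.r_one_pow, hh,
          ZMod.natCast_zmod_val]
      rw [this]
      exact Subgroup.pow_mem _ (Subgroup.mem_zpowers x) _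
    · exact ⟨i, rfl⟩
  obtain ⟨i, hi⟩ := hew
  have h1 : e (x ^ k) * e w = e w * e (x ^ k) := by
    rw [← map_mul, ← map_mul, hcomm]
  rw [heg, hi, DihedralGroup.r_mul_sr, DihedralGroup.sr_mul_r] at h1
  have h2 : i - (k : ZMod m) = i + (k : ZMod m) := by
    injection h1
  have h3 : (k : ZMod m) + (k : ZMod m) = 0 := by
    have : (k : ZMod m) + (k : ZMod m) = (i + k) - (i - k) := by ring
    rw [this, h2]; ring
  apply e.injective
  rw [map_pow, heg, pow_two, DihedralGroup.r_mul_r, h3, map_one]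
  rfl

/-- arithmetic: an element whose order divides `2^n` and `2^(n-1) - 2` (`n ≥ 3`) squares to one. -/
theorem sq_eq_one_of_pow {Q : Type*} [Group Q] (n : ℕ) (hn : 3 ≤ n) (g : Q)
    (h1 : g ^ (2 ^ n) = 1) (h2 : g ^ (2 ^ (n - 1) - 2) = 1) : g ^ 2 = 1 := by
  have hd1 : orderOf g ∣ 2 ^ n := orderOf_dvd_of_pow_eq_one h1
  have hd2 : orderOf g ∣ 2 ^ (n - 1) - 2 := orderOf_dvd_of_pow_eq_one h2
  obtain ⟨k, hk, hk2⟩ := (Nat.dvd_prime_pow Nat.prime_two).1 hd1
  have hk1 : k ≤ 1 := by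
    by_contra hcon
    push Not at hcon
    have h4 : 4 ∣ orderOf g := by
      rw [hk2]
      have : (4 : ℕ) = 2 ^ 2 := by norm_num
      rw [this]
      exact pow_dvd_pow 2 hcon
    have h5 : 4 ∣ 2 ^ (n - 1) - 2 := dvd_trans h4 hd2
    have h6 : 4 ∣ 2 ^ (n - 1) := by
      have : (4 : ℕ) = 2 ^ 2 := by norm_num
      rw [this]
      exact pow_dvd_pow 2 (by omega)
    have h7 : 4 ≤ 2 ^ (n - 1) := Nat.le_of_dvd (by positivity) h6
    omega
  apply orderOf_dvd_iff_pow_eq_one.1
  rw [hk2]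
  have : (2 : ℕ) = 2 ^ 1 := by norm_num
  calc 2 ^ k ∣ 2 ^ 1 := pow_dvd_pow 2 hk1
    _ = 2 := by norm_num

/-- Quasi-dihedral case. -/
theorem quasidihedral_case {Q : Type*} [Group Q] [Finite Q] (hQ : Cfsg.IsQuasiDihedral Q)
    (V : Subgroup Q) (hV4 : Nat.card V = 4) (hVc : ∀ a ∈ V, ∀ b ∈ V, a * b = b * a)
    (hV2 : ∀ a ∈ V, a ^ 2 = 1) : Subgroup.centralizer (V : Set Q) = V := by
  obtain ⟨n, hn, hcard, x, y, hox, hoy, hyx⟩ := hQ
  have hidx : (Subgroup.zpowers x).index = 2 := by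
    have h1 := Subgroup.card_mul_index (Subgroup.zpowers x)
    rw [Nat.card_zpowers, hox, hcard, pow_succ] at h1
    exact Nat.eq_of_mul_eq_mul_left (by positivity) h1
  have hbig : 4 ≤ 2 ^ (n - 1) := by
    have : (4 : ℕ) = 2 ^ 2 := by norm_num
    rw [this]
    exact Nat.pow_le_pow_right (by norm_num) (by omega)
  have hlt : 2 ^ (n - 1) < 2 ^ n := Nat.pow_lt_pow_right (by norm_num) (by omega)
  -- conjugation by y on ⟨x⟩
  have hconj : ∀ g ∈ Subgroup.zpowers x, y * g * y⁻¹ = g ^ (2 ^ (n - 1) - 1) := by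
    intro g hg
    obtain ⟨k, rfl⟩ := Subgroup.mem_zpowers_iff.1 hg
    have : y * x ^ k * y⁻¹ = (y * x * y⁻¹) ^ k := by
      rw [conj_zpow]
    rw [this, hyx, ← zpow_natCast, ← zpow_natCast, ← zpow_mul, ← zpow_mul, mul_comm]
  -- elements of ⟨x⟩ commuting with y square to 1
  have hkey : ∀ g ∈ Subgroup.zpowers x, g * y = y * g → g ^ 2 = 1 := by
    intro g hg hcomm
    have h1 : g ^ (2 ^ n) = 1 := by
      obtain ⟨k, rfl⟩ := Subgroup.mem_zpowers_iff.1 hg
      rw [← zpow_natCast, ← zpow_mul, mul_comm, zpow_mul, zpow_natCast, ← hox, pow_orderOf_eq_one,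
        one_zpow]
    have h2 : y * g * y⁻¹ = g := by
      rw [← hcomm, mul_inv_cancel_right]
    have h3 : g ^ (2 ^ (n - 1) - 1) = g := by rw [← hconj g hg, h2]
    have h4 : g ^ (2 ^ (n - 1) - 2) = 1 := by
      have h5 : 2 ^ (n - 1) - 1 = (2 ^ (n - 1) - 2) + 1 := by omega
      rw [h5, pow_succ] at h3
      exact mul_eq_right.1 h3
    exact sq_eq_one_of_pow n hn g h1 h4
  -- y ∉ ⟨x⟩
  have hy : y ∉ Subgroup.zpowers x := by
    intro hyx'
    have h1 : x * y = y * x := by
      obtain ⟨k, rfl⟩ := Subgroup.mem_zpowers_iff.1 hyx'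
      have := (Commute.refl x).zpow_right k
      exact this.eq
    have h2 := hkey x (Subgroup.mem_zpowers x) h1
    have h3 : orderOf x ∣ 2 := orderOf_dvd_of_pow_eq_one h2
    rw [hox] at h3
    have := Nat.le_of_dvd (by norm_num) h3
    omega
  apply lemmaQ x hidx _ V hV4 hVc hV2
  intro w hw g hg hcomm
  -- y⁻¹ * w ∈ ⟨x⟩
  have hyw : y⁻¹ * w ∈ Subgroup.zpowers x := by
    rw [Subgroup.mul_mem_iff_of_index_two hidx, Subgroup.inv_mem_iff]
    exact ⟨fun h => absurd h hy, fun h => absurd h hw⟩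
  set c := y⁻¹ * w with hcdef
  have hw' : w = y * c := by rw [hcdef, mul_inv_cancel_left]
  -- g commutes with c
  have hgc : g * c = c * g := by
    obtain ⟨k, hk⟩ := Subgroup.mem_zpowers_iff.1 hg
    obtain ⟨l, hl⟩ := Subgroup.mem_zpowers_iff.1 hyw
    rw [← hk, ← hl]
    exact ((Commute.refl x).zpow_zpow k l).eq
  apply hkey g hg
  have h1 : g * y * c = y * g * c := by
    calc g * y * c = g * (y * c) := by rw [mul_assoc]
      _ = g * w := by rw [hw']
      _ = w * g := hcomm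
      _ = y * c * g := by rw [hw']
      _ = y * (c * g) := by rw [mul_assoc]
      _ = y * (g * c) := by rw [hgc]
      _ = y * g * c := by rw [mul_assoc]
  exact mul_right_cancel h1

/-- Let R be a finite group, t a central involution of R such that R ⧸ ⟨t⟩ is dihedral (of order ≥ 4) or quasi-dihedral, and A ≤ R an elementary abelian subgroup of order 8 containing t. Then C_R(A) = A. -/
theorem result {R : Type*} [Group R] [Finite R] (t : R) (ht : orderOf t = 2) (htz : t ∈ Subgroup.center R) [(Subgroup.zpowers t).Normal] (hq : (∃ m : ℕ, 2 ≤ m ∧ Nonempty (R ⧸ Subgroup.zpowers t ≃* DihedralGroup m)) ∨ Cfsg.IsQuasiDihedral (R ⧸ Subgroup.zpowers t)) (A : Subgroup R) (hA : Cfsg.IsElementaryAbelian 2 A) (hA8 : Nat.card A = 8) (htA : t ∈ A) : Subgroup.centralizer (A : Set R) = A := by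
  obtain ⟨hAc, hA2⟩ := hA
  have hAcomm : ∀ a ∈ A, ∀ b ∈ A, a * b = b * a := by
    intro a ha b hb
    have := hAc.is_comm.comm ⟨a, ha⟩ ⟨b, hb⟩
    exact congrArg Subtype.val this
  set Z : Subgroup R := Subgroup.zpowers t with hZ
  have hZA : Z ≤ A := by
    rw [hZ, Subgroup.zpowers_le]; exact htA
  set π : R →* R ⧸ Z := QuotientGroup.mk' Z with hπ
  have hker : π.ker = Z := QuotientGroup.ker_mk' Z
  set V : Subgroup (R ⧸ Z) := A.map π with hVdef
  have hV4 : Nat.card V = 4 := by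
    have h1 := Subgroup.relIndex_ker (K := A) π
    rw [hker] at h1
    have h2 := Subgroup.relIndex_mul_relIndex (⊥ : Subgroup R) Z A bot_le hZA
    have hZ2 : Nat.card Z = 2 := by rw [hZ, Nat.card_zpowers, ht]
    rw [Subgroup.relIndex_bot_left, Subgroup.relIndex_bot_left, hA8, h1, hZ2] at h2
    rw [hVdef]
    omega
  have hVc : ∀ a ∈ V, ∀ b ∈ V, a * b = b * a := by
    intro a ha b hb
    obtain ⟨a', ha', rfl⟩ := Subgroup.mem_map.1 ha
    obtain ⟨b', hb', rfl⟩ := Subgroup.mem_map.1 hb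
    rw [← map_mul, ← map_mul, hAcomm a' ha' b' hb']
  have hV2 : ∀ a ∈ V, a ^ 2 = 1 := by
    intro a ha
    obtain ⟨a', ha', rfl⟩ := Subgroup.mem_map.1 ha
    rw [← map_pow, hA2 a' ha', map_one]
  have hCV : Subgroup.centralizer (V : Set (R ⧸ Z)) = V := by
    rcases hq with ⟨m, hm, ⟨e⟩⟩ | hqd
    · exact dihedral_case m hm e V hV4 hVc hV2
    · exact quasidihedral_case hqd V hV4 hVc hV2
  apply le_antisymm
  · intro g hg
    have h1 : π g ∈ Subgroup.centralizer (V : Set (R ⧸ Z)) := by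
      rw [Subgroup.mem_centralizer_iff]
      intro b hb
      obtain ⟨b', hb', rfl⟩ := Subgroup.mem_map.1 hb
      rw [Subgroup.mem_centralizer_iff] at hg
      rw [← map_mul, ← map_mul, hg b' hb']
    rw [hCV] at h1
    obtain ⟨a, ha, hag⟩ := Subgroup.mem_map.1 h1
    have h2 : a⁻¹ * g ∈ Z := by
      rw [← hker, MonoidHom.mem_ker, map_mul, map_inv, hag, inv_mul_cancel]
    have h3 : a * (a⁻¹ * g) ∈ A := A.mul_mem ha (hZA h2)
    rwa [mul_inv_cancel_left] at h3
  · intro a ha
    rw [Subgroup.mem_centralizer_iff]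
    intro b hb
    exact hAcomm b hb a ha

end Cfsg.Agent.S1236
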