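import Cfsg.Statements.S1241
import Cfsg.Agent.Lib.Helper21.TransferEval

set_option autoImplicit false
open Cfsg

namespace Cfsg.Agent.S1241

open Cfsg.Agent.Helper21

/-- Let G be a finite group, p a prime, H a subgroup of index prime to p, K a subgroup of H normal in H with H/K commutative, and g ∈ H ∖ K an element of p-power order such that for all integers m and all a ∈ G with a g^m a⁻¹ ∈ H one has a g^m a⁻¹ ∈ g^m K. Then g ∉ G'. -/
theorem result {G : Type*} [Group G] [Finite G] {p : ℕ} [Fact p.Prime] (H K : Subgroup G) (hHK : K ≤ H) (hKn : (K.subgroupOf H).Normal) (hab : ∀ x ∈ H, ∀ y ∈ H, x * y * x⁻¹ * y⁻¹ ∈ K) (hidx : Nat.Coprime p H.index) (g : G) (hgH : g ∈ H) (hgK : g ∉ K) (hgp : ∃ k : ℕ, orderOf g = p ^ k) (hctrl : ∀ (m : ℤ) (a : G), a * g ^ m * a⁻¹ ∈ H → (a * g ^ m * a⁻¹) * (g ^ m)⁻¹ ∈ K) : g ∉ commutator G := by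
  classical
  -- the commutative quotient H / K
  let Q := ↥H ⧸ K.subgroupOf H
  let inst : CommGroup Q :=
    { (inferInstance : Group Q) with
      mul_comm := by
        intro a b
        induction a using QuotientGroup.induction_on with | _ x => ?_
        induction b using QuotientGroup.induction_on with | _ y => ?_
        rw [← QuotientGroup.mk_mul, ← QuotientGroup.mk_mul, QuotientGroup.eq,
          Subgroup.mem_subgroupOf]
        have := hab (y : G)⁻¹ (H.inv_mem y.2) (x : G)⁻¹ (H.inv_mem x.2)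
        have e : ((x * y)⁻¹ * (y * x) : H) = (y : G)⁻¹ * (x : G)⁻¹ * ((y : G)⁻¹)⁻¹ * ((x : G)⁻¹)⁻¹ := by
          simp [mul_assoc]
        rw [e]; exact this }
  let ϕ : ↥H →* Q := QuotientGroup.mk' (K.subgroupOf H)
  have hϕ1 : ∀ (x : G) (hx : x ∈ H), ϕ ⟨x, hx⟩ = 1 ↔ x ∈ K := by
    intro x hx
    show (QuotientGroup.mk' (K.subgroupOf H)) ⟨x, hx⟩ = 1 ↔ _
    rw [QuotientGroup.mk'_apply, QuotientGroup.eq_one_iff, Subgroup.mem_subgroupOf]
  have hpowmem : ∀ m : ℕ, g ^ m ∈ H := fun m => H.pow_mem hgH m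
  have hctrl' : ∀ (m : ℕ) (a : G) (h : a⁻¹ * g ^ m * a ∈ H),
      ϕ ⟨a⁻¹ * g ^ m * a, h⟩ = ϕ ⟨g, hgH⟩ ^ m := by
    intro m a h
    have h1 : a⁻¹ * g ^ (m : ℤ) * a⁻¹⁻¹ ∈ H := by
      rw [zpow_natCast, inv_inv]; exact h
    have h2 := hctrl (m : ℤ) a⁻¹ h1
    rw [zpow_natCast, inv_inv] at h2
    have h3 : (⟨a⁻¹ * g ^ m * a, h⟩ : H) = ⟨(a⁻¹ * g ^ m * a) * (g ^ m)⁻¹,
        H.mul_mem h (H.inv_mem (hpowmem m))⟩ * (⟨g, hgH⟩ : H) ^ m := by
      apply Subtype.ext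
      simp
    rw [h3, map_mul, map_pow, (hϕ1 _ _).2 h2, one_mul]
  have htr := transfer_eq_pow_index ϕ g hgH hctrl'
  intro hgc
  have hker : g ∈ (MonoidHom.transfer ϕ).ker :=
    Abelianization.commutator_subset_ker (MonoidHom.transfer ϕ) hgc
  rw [MonoidHom.mem_ker, htr] at hker
  obtain ⟨k, hk⟩ := hgp
  have hpk : ϕ ⟨g, hgH⟩ ^ p ^ k = 1 := by
    rw [← map_pow]
    have : (⟨g, hgH⟩ : H) ^ p ^ k = 1 := by
      apply Subtype.ext
      simp only [Subgroup.coe_pow, Subgroup.coe_one]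
      rw [← hk]; exact pow_orderOf_eq_one g
    rw [this, map_one]
  have h1 := eq_one_of_pow_eq_one_of_coprime _ k H.index hpk hker hidx
  exact hgK ((hϕ1 g hgH).1 h1)

end Cfsg.Agent.S1241
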