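import Cfsg.Statements.S1242
import Cfsg.Agent.Lib.Helper21.TransferEval
import Cfsg.Agent.Lib.Helper86.GroupLemmas

set_option autoImplicit false
open Cfsg

namespace Cfsg.Agent.S1242

open Cfsg.Agent.Helper21
open scoped IsMulCommutative

/-- Let G be a finite group, p a prime and H a subgroup of index prime to p such that any two elements of H of p-power order that are conjugate in G are conjugate in H. Then (O^p(G)·G') ∩ H = O^p(H)·H', where O^p denotes the subgroup generated by the elements of order prime to p. -/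
theorem result {G : Type*} [Group G] [Finite G] {p : ℕ} [Fact p.Prime] (H : Subgroup G) (hidx : Nat.Coprime p H.index) (hfus : ∀ g ∈ H, (∃ k : ℕ, orderOf g = p ^ k) → ∀ a : G, a * g * a⁻¹ ∈ H → ∃ h ∈ H, h * g * h⁻¹ = a * g * a⁻¹) : (Cfsg.pResidual p G ⊔ commutator G) ⊓ H = (Cfsg.pResidual p ↥H ⊔ commutator ↥H).map H.subtype := by
  classical
  have hp : p.Prime := Fact.out
  have hnorm1 : (Cfsg.pResidual p ↥H).Normal := Cfsg.Agent.Helper86.pResidual_normal p ↥H
  set K' : Subgroup ↥H := Cfsg.pResidual p ↥H ⊔ commutator ↥H with hK'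
  have hK'n : K'.Normal := inferInstance
  have hcomm : IsMulCommutative (↥H ⧸ K') :=
    Subgroup.Normal.quotient_commutative_iff_commutator_le.2 le_sup_right
  let ϕ : ↥H →* ↥H ⧸ K' := QuotientGroup.mk' K'
  have hϕ1 : ∀ h : ↥H, ϕ h = 1 ↔ h ∈ K' := by
    intro h
    show (QuotientGroup.mk' K') h = 1 ↔ _
    rw [QuotientGroup.mk'_apply, QuotientGroup.eq_one_iff]
  -- the quotient is a p-group
  have hQp : ∀ h : ↥H, ∃ e : ℕ, ϕ h ^ p ^ e = 1 := by
    intro h
    obtain ⟨e, m, hm, hem⟩ :=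
      Nat.exists_eq_pow_mul_and_not_dvd (orderOf_pos h).ne' p hp.ne_one
    refine ⟨e, ?_⟩
    rw [← map_pow, hϕ1]
    apply Subgroup.mem_sup_left
    apply Subgroup.subset_closure
    exact Cfsg.Agent.Helper86.coprime_orderOf_pow_of_not_dvd h hm hem
  have hQp' : ∀ y : ↥H ⧸ K', ∃ e : ℕ, y ^ p ^ e = 1 := by
    intro y
    obtain ⟨h, rfl⟩ := QuotientGroup.mk'_surjective K' y
    exact hQp h
  -- the kernel of the transfer
  have hker : Cfsg.pResidual p G ⊔ commutator G ≤ (MonoidHom.transfer ϕ).ker := by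
    apply sup_le
    · unfold Cfsg.pResidual
      rw [Subgroup.closure_le]
      intro x hx
      have hx' : Nat.Coprime (orderOf x) p := hx
      show MonoidHom.transfer ϕ x = 1
      obtain ⟨e, he⟩ := hQp' (MonoidHom.transfer ϕ x)
      have h2 : orderOf (MonoidHom.transfer ϕ x) ∣ orderOf x := orderOf_map_dvd _ x
      have h3 : (MonoidHom.transfer ϕ x) ^ orderOf x = 1 :=
        orderOf_dvd_iff_pow_eq_one.1 h2
      exact eq_one_of_pow_eq_one_of_coprime _ e (orderOf x) he h3 hx'.symm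
    · exact Abelianization.commutator_subset_ker (MonoidHom.transfer ϕ)
  apply le_antisymm
  · intro x hx
    obtain ⟨hx1, hxH⟩ := Subgroup.mem_inf.1 hx
    have hVx : MonoidHom.transfer ϕ x = 1 := hker hx1
    obtain ⟨e, m, hm, hem⟩ :=
      Nat.exists_eq_pow_mul_and_not_dvd (orderOf_pos x).ne' p hp.ne_one
    set u := x ^ m with hu
    have huH : u ∈ H := H.pow_mem hxH m
    have hue : u ^ p ^ e = 1 := by
      rw [hu, ← pow_mul, mul_comm, ← hem, pow_orderOf_eq_one]
    have hVu : MonoidHom.transfer ϕ u = 1 := by rw [hu, map_pow, hVx, one_pow]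
    -- powers of u are p-elements
    have hpow : ∀ m' : ℕ, ∃ k : ℕ, orderOf (u ^ m') = p ^ k := by
      intro m'
      have h1 : (u ^ m') ^ p ^ e = 1 := by rw [← pow_mul, mul_comm, pow_mul, hue, one_pow]
      obtain ⟨j, -, hj⟩ := (Nat.dvd_prime_pow hp).1 (orderOf_dvd_of_pow_eq_one h1)
      exact ⟨j, hj⟩
    have hctrl : ∀ (m' : ℕ) (a : G) (h : a⁻¹ * u ^ m' * a ∈ H),
        ϕ ⟨a⁻¹ * u ^ m' * a, h⟩ = ϕ ⟨u, huH⟩ ^ m' := by
      intro m' a h
      have h1 : a⁻¹ * u ^ m' * a⁻¹⁻¹ ∈ H := by rw [inv_inv]; exact h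
      obtain ⟨c, hc, hc'⟩ := hfus (u ^ m') (H.pow_mem huH m') (hpow m') a⁻¹ h1
      rw [inv_inv] at hc'
      have h3 : (⟨a⁻¹ * u ^ m' * a, h⟩ : H) = ⟨c, hc⟩ * (⟨u, huH⟩ : H) ^ m' * ⟨c, hc⟩⁻¹ := by
        apply Subtype.ext
        simp only [Subgroup.coe_mul, Subgroup.coe_pow, Subgroup.coe_inv]
        exact hc'.symm
      rw [h3, map_mul, map_mul, map_inv, map_pow, mul_comm' (ϕ ⟨c, hc⟩), mul_assoc,
        mul_inv_cancel, mul_one]
    have htr := transfer_eq_pow_index ϕ u huH hctrl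
    rw [hVu] at htr
    -- ϕ x ^ (m * index) = 1
    have h4 : ϕ ⟨x, hxH⟩ ^ (m * H.index) = 1 := by
      rw [pow_mul, ← map_pow]
      have : (⟨x, hxH⟩ : H) ^ m = ⟨u, huH⟩ := Subtype.ext (by simp [hu])
      rw [this, ← htr]
    obtain ⟨e', he'⟩ := hQp ⟨x, hxH⟩
    have hcop : Nat.Coprime p (m * H.index) :=
      Nat.Coprime.mul_right ((Nat.Prime.coprime_iff_not_dvd hp).2 hm) hidx
    have h5 := eq_one_of_pow_eq_one_of_coprime _ e' _ he' h4 hcop
    exact ⟨⟨x, hxH⟩, (hϕ1 _).1 h5, rfl⟩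
  · rintro _ ⟨h, hh, rfl⟩
    refine Subgroup.mem_inf.2 ⟨?_, h.2⟩
    have hle : K'.map H.subtype ≤ Cfsg.pResidual p G ⊔ commutator G := by
      rw [hK', Subgroup.map_sup]
      apply sup_le_sup
      · unfold Cfsg.pResidual
        rw [MonoidHom.map_closure, Subgroup.closure_le]
        rintro _ ⟨y, hy, rfl⟩
        apply Subgroup.subset_closure
        show Nat.Coprime (orderOf (y : G)) p
        rw [Subgroup.orderOf_coe]
        exact hy
      · rw [_root_.commutator_def, Subgroup.map_commutator, _root_.commutator_def]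
        exact Subgroup.commutator_mono le_top le_top
    exact hle ⟨h, hh, rfl⟩

end Cfsg.Agent.S1242
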