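import Cfsg.Statements.S1243

set_option autoImplicit false
open Cfsg

namespace Cfsg.Agent.S1243

open scoped Pointwise

variable {G : Type*} [Group G]

theorem mem_conj_map {W : Subgroup G} {g x : G} :
    x ∈ W.map (MulAut.conj g).toMonoidHom ↔ g⁻¹ * x * g ∈ W := by
  rw [Subgroup.mem_map_equiv]
  simp [MulAut.conj_symm_apply]

theorem conj_map_mul (W : Subgroup G) (a b : G) :
    W.map (MulAut.conj (a * b)).toMonoidHom =
      (W.map (MulAut.conj b).toMonoidHom).map (MulAut.conj a).toMonoidHom := by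
  ext x
  simp only [mem_conj_map]
  constructor <;> intro h <;> convert h using 1 <;> group

/-- weak closure transfers to any `p`-subgroup containing both `W` and a conjugate. -/
theorem weaklyClosed_key [Finite G] {p : ℕ} [Fact p.Prime] (T : Sylow p G) (W : Subgroup G)
    (hW : Cfsg.IsWeaklyClosed W (T : Subgroup G)) (X : Subgroup G) (hX : IsPGroup p X)
    (hWX : W ≤ X) (u : G) (hu : W.map (MulAut.conj u).toMonoidHom ≤ X) :
    W.map (MulAut.conj u).toMonoidHom = W := by
  obtain ⟨T', hT'⟩ := hX.exists_le_sylow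
  obtain ⟨y, hy⟩ := MulAction.exists_smul_eq G T T'
  have hT'mem : ∀ x : G, x ∈ (T' : Subgroup G) ↔ y⁻¹ * x * y ∈ (T : Subgroup G) := by
    intro x
    rw [← hy, Sylow.coe_subgroup_smul, Subgroup.mem_pointwise_smul_iff_inv_smul_mem]
    simp [MulAut.smul_def]
  have h1 : W.map (MulAut.conj y⁻¹).toMonoidHom = W := by
    apply hW.2
    intro x hx
    rw [mem_conj_map] at hx
    have := (hT'mem _).1 (hT' (hWX hx))
    simpa [mul_assoc] using this
  have h2 : W.map (MulAut.conj (y⁻¹ * u)).toMonoidHom = W := by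
    apply hW.2
    intro x hx
    rw [conj_map_mul, mem_conj_map] at hx
    have := (hT'mem _).1 (hT' (hu hx))
    simpa [mul_assoc] using this
  rw [conj_map_mul] at h2
  have h3 : (W.map (MulAut.conj u).toMonoidHom).map (MulAut.conj y⁻¹).toMonoidHom
      = W.map (MulAut.conj y⁻¹).toMonoidHom := by rw [h2, h1]
  exact Subgroup.map_injective (MulAut.conj y⁻¹).injective h3

/-- Let T be a Sylow p-subgroup of the finite group G and W ≤ T a subgroup weakly closed in T. If d and g d g⁻¹ both centralize W, then g d g⁻¹ = h d h⁻¹ for some h ∈ N_G(W). -/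
theorem result {G : Type*} [Group G] [Finite G] {p : ℕ} [Fact p.Prime] (T : Sylow p G) (W : Subgroup G) (hW : Cfsg.IsWeaklyClosed W (T : Subgroup G)) (d g : G) (hd : d ∈ Subgroup.centralizer (W : Set G)) (hgd : g * d * g⁻¹ ∈ Subgroup.centralizer (W : Set G)) : ∃ h ∈ Subgroup.normalizer (W : Set G), h * d * h⁻¹ = g * d * g⁻¹ := by
  set C : Subgroup G := Subgroup.centralizer ({d} : Set G) with hC
  have hWp : IsPGroup p W := T.isPGroup'.to_le hW.1
  -- W ≤ C
  have hWC : W ≤ C := by
    intro w hw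
    rw [hC, Subgroup.mem_centralizer_singleton_iff]
    exact (hd w hw)
  -- g⁻¹ W g ≤ C
  set W2 : Subgroup G := W.map (MulAut.conj g⁻¹).toMonoidHom with hW2
  have hW2C : W2 ≤ C := by
    intro x hx
    rw [hW2, mem_conj_map] at hx
    rw [hC, Subgroup.mem_centralizer_singleton_iff]
    have := hgd _ hx
    simp only [inv_inv] at this
    -- (g x g⁻¹) (g d g⁻¹) = (g d g⁻¹) (g x g⁻¹)
    have h2 : g * (x * d) * g⁻¹ = g * (d * x) * g⁻¹ := by
      have e1 : g * (x * d) * g⁻¹ = (g * x * g⁻¹) * (g * d * g⁻¹) := by group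
      have e2 : g * (d * x) * g⁻¹ = (g * d * g⁻¹) * (g * x * g⁻¹) := by group
      rw [e1, e2]; exact this
    have h3 : x * d = d * x := mul_left_cancel (mul_right_cancel h2)
    exact h3
  have hW2p : IsPGroup p W2 := hWp.map _
  -- Sylow subgroups of C
  have hp1 : IsPGroup p (W.subgroupOf C) := hWp.comap_subtype
  have hp2 : IsPGroup p (W2.subgroupOf C) := hW2p.comap_subtype
  obtain ⟨R, hR⟩ := hp1.exists_le_sylow
  obtain ⟨R2, hR2⟩ := hp2.exists_le_sylow
  obtain ⟨c, hc⟩ := MulAction.exists_smul_eq C R2 R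
  -- X = image of R in G
  set X : Subgroup G := (R : Subgroup C).map C.subtype with hX
  have hXp : IsPGroup p X := R.isPGroup'.map _
  have hWX : W ≤ X := by
    intro w hw
    exact ⟨⟨w, hWC hw⟩, hR (by rw [Subgroup.mem_subgroupOf]; exact hw), rfl⟩
  have hcd : (c : G) * d = d * (c : G) := by
    have h0 : (c : G) ∈ Subgroup.centralizer ({d} : Set G) := c.2
    rw [Subgroup.mem_centralizer_singleton_iff] at h0
    exact h0
  have hu : W.map (MulAut.conj ((c : G) * g⁻¹)).toMonoidHom ≤ X := by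
    intro x hx
    rw [conj_map_mul, mem_conj_map] at hx
    -- c⁻¹ x c ∈ W2
    have hx2 : (c : G)⁻¹ * x * c ∈ W2 := hx
    have hxC : (c : G)⁻¹ * x * c ∈ C := hW2C hx2
    have h1 : (⟨(c : G)⁻¹ * x * c, hxC⟩ : C) ∈ (R2 : Subgroup C) :=
      hR2 (by rw [Subgroup.mem_subgroupOf]; exact hx2)
    have h2 : c * (⟨(c : G)⁻¹ * x * c, hxC⟩ : C) * c⁻¹ ∈ ((c • R2 : Sylow p C) : Subgroup C) := by
      rw [Sylow.coe_subgroup_smul, Subgroup.mem_pointwise_smul_iff_inv_smul_mem]
      have : (MulAut.conj c)⁻¹ • (c * (⟨(c : G)⁻¹ * x * c, hxC⟩ : C) * c⁻¹)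
          = (⟨(c : G)⁻¹ * x * c, hxC⟩ : C) := by
        rw [MulAut.smul_def, MulAut.conj_inv_apply]; group
      rw [this]; exact h1
    rw [hc] at h2
    refine ⟨_, h2, ?_⟩
    simp only [Subgroup.subtype_apply, Subgroup.coe_mul, Subgroup.coe_inv]
    group
  have hkey := weaklyClosed_key T W hW X hXp hWX _ hu
  refine ⟨g * (c : G)⁻¹, ?_, ?_⟩
  · -- normalizer membership
    have hn : (c : G) * g⁻¹ ∈ Subgroup.normalizer (W : Set G) := by
      rw [Subgroup.mem_normalizer_iff]
      intro w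
      constructor
      · intro hw
        have : (c : G) * g⁻¹ * w * ((c : G) * g⁻¹)⁻¹ ∈ W.map (MulAut.conj ((c : G) * g⁻¹)).toMonoidHom := by
          rw [mem_conj_map]
          convert hw using 1
          group
        rw [hkey] at this; exact this
      · intro hw
        rw [← hkey, mem_conj_map] at hw
        convert hw using 1
        group
    have := inv_mem hn
    simpa using this
  · have : g * (c : G)⁻¹ * d * (g * (c : G)⁻¹)⁻¹ = g * ((c : G)⁻¹ * (d * c)) * g⁻¹ := by group
    rw [this, ← hcd]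
    group

end Cfsg.Agent.S1243
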