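import Cfsg.Statements.S1244
import Cfsg.Agent.Lib.Helper21.TransferEval
import Cfsg.Agent.Lib.Helper21.AbelianTransfer

set_option autoImplicit false
open Cfsg

namespace Cfsg.Agent.S1244

open Cfsg.Agent.Helper21
open scoped IsMulCommutative

/-- Let G be a finite group with no subgroup of index 2 whose Sylow 2-subgroup S is commutative, and let R ≤ S be a subgroup whose 2-rank is exactly one less than the 2-rank r of S. Then every involution of S is conjugate, by an element of N_G(S), to an element of R. -/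
theorem result {G : Type*} [Group G] [Finite G] (hG : ∀ H : Subgroup G, H.index ≠ 2) (S : Sylow 2 G) (hS : IsMulCommutative (S : Subgroup G)) (r : ℕ) (hr1 : 1 ≤ r) (hSr : Cfsg.PRankLE 2 r (S : Subgroup G) ∧ ¬ Cfsg.PRankLE 2 (r - 1) (S : Subgroup G)) (R : Subgroup G) (hRS : R ≤ S) (hRr : Cfsg.PRankLE 2 (r - 1) R ∧ (r = 1 ∨ ¬ Cfsg.PRankLE 2 (r - 2) R)) (t : G) (ht : orderOf t = 2) (htS : t ∈ S) : ∃ n ∈ Subgroup.normalizer ((S : Subgroup G) : Set G), n * t * n⁻¹ ∈ R := by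
  classical
  by_contra hcon
  push Not at hcon
  have hprime : Fact (Nat.Prime 2) := ⟨Nat.prime_two⟩
  have ht2 : t ^ 2 = 1 := by rw [← ht]; exact pow_orderOf_eq_one t
  have hRcomm : IsMulCommutative ↥R := by
    refine ⟨⟨fun a b => Subtype.ext ?_⟩⟩
    have h := mul_comm' (⟨a.1, hRS a.2⟩ : ↥(S : Subgroup G)) ⟨b.1, hRS b.2⟩
    have h2 : (a.1 * b.1 : G) = b.1 * a.1 := congrArg Subtype.val h
    exact h2
  -- cardinalities of the `Ω₁`'s
  have hcardS : Nat.card (omegaTwo ↥(S : Subgroup G)) = 2 ^ r :=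
    card_omegaTwo_eq hSr.1 (Or.inr hSr.2)
  have hcardR : Nat.card (omegaTwo ↥R) = 2 ^ (r - 1) := by
    apply card_omegaTwo_eq hRr.1
    rcases hRr.2 with h | h
    · left; omega
    · right; rwa [show r - 1 - 1 = r - 2 by omega]
  -- the image of `Ω₁(R)` in `S`
  set Ω : Subgroup ↥(S : Subgroup G) := omegaTwo ↥(S : Subgroup G) with hΩ
  set E' : Subgroup ↥(S : Subgroup G) := (omegaTwo ↥R).map (Subgroup.inclusion hRS) with hE'
  have hE'mem : ∀ x : ↥(S : Subgroup G), x ∈ E' ↔ (x : G) ∈ R ∧ (x : G) ^ 2 = 1 := by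
    intro x
    constructor
    · rintro ⟨y, hy, rfl⟩
      refine ⟨y.2, ?_⟩
      have h1 : y ^ 2 = 1 := hy
      have h2 := congrArg Subtype.val h1
      simpa using h2
    · rintro ⟨hxR, hx2⟩
      refine ⟨⟨(x : G), hxR⟩, ?_, Subtype.ext rfl⟩
      show (⟨(x : G), hxR⟩ : ↥R) ^ 2 = 1
      exact Subtype.ext (by simpa using hx2)
  have hΩmem : ∀ x : ↥(S : Subgroup G), x ∈ Ω ↔ (x : G) ^ 2 = 1 := by
    intro x
    rw [hΩ, mem_omegaTwo]
    constructor
    · intro h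
      have h2 := congrArg Subtype.val h
      simpa using h2
    · intro h
      exact Subtype.ext (by simpa using h)
  have hE'Ω : E' ≤ Ω := fun x hx => (hΩmem x).2 ((hE'mem x).1 hx).2
  have hcardE' : Nat.card E' = 2 ^ (r - 1) := by
    rw [hE', Subgroup.card_map_of_injective (Subgroup.inclusion_injective hRS), hcardR]
  have hidx : (E'.subgroupOf Ω).index = 2 := by
    have h1 := (E'.subgroupOf Ω).card_mul_index
    rw [Nat.card_congr (Subgroup.subgroupOfEquivOfLe hE'Ω).toEquiv, hcardE', hcardS] at h1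
    have h2 : 2 ^ r = 2 ^ (r - 1) * 2 := by
      rw [← pow_succ]; congr 1; omega
    rw [h2] at h1
    exact Nat.eq_of_mul_eq_mul_left (by positivity) h1
  -- two elements of `Ω` outside `E'` are congruent modulo `E'`
  have hcong : ∀ x y : ↥(S : Subgroup G), x ∈ Ω → y ∈ Ω → x ∉ E' → y ∉ E' → x⁻¹ * y ∈ E' := by
    intro x y hx hy hxE hyE
    have h := Subgroup.mul_mem_iff_of_index_two hidx (a := (⟨x, hx⟩ : ↥Ω)⁻¹) (b := ⟨y, hy⟩)
    have h1 : (⟨x, hx⟩ : ↥Ω)⁻¹ ∉ E'.subgroupOf Ω := by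
      rw [inv_mem_iff]
      intro hc
      exact hxE (Subgroup.mem_subgroupOf.1 hc)
    have h2 : (⟨y, hy⟩ : ↥Ω) ∉ E'.subgroupOf Ω := fun hc => hyE (Subgroup.mem_subgroupOf.1 hc)
    have h3 := h.2 ⟨fun hc => absurd hc h1, fun hc => absurd hc h2⟩
    exact Subgroup.mem_subgroupOf.1 h3
  -- the quotient
  have hcommA : IsMulCommutative (↥(S : Subgroup G) ⧸ E') := by
    refine ⟨⟨fun a b => ?_⟩⟩
    induction a using QuotientGroup.induction_on
    induction b using QuotientGroup.induction_on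
    rw [← QuotientGroup.mk_mul, ← QuotientGroup.mk_mul, mul_comm']
  have hPA : IsPGroup 2 (↥(S : Subgroup G) ⧸ E') := S.isPGroup'.to_quotient E'
  let ϕ : ↥(S : Subgroup G) →* ↥(S : Subgroup G) ⧸ E' := QuotientGroup.mk' E'
  have hϕ1 : ∀ h : ↥(S : Subgroup G), ϕ h = 1 ↔ h ∈ E' := by
    intro h
    show (QuotientGroup.mk' E') h = 1 ↔ _
    rw [QuotientGroup.mk'_apply, QuotientGroup.eq_one_iff]
  have hϕeq : ∀ a b : ↥(S : Subgroup G), a⁻¹ * b ∈ E' → ϕ a = ϕ b := by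
    intro a b hab
    show (QuotientGroup.mk' E') a = (QuotientGroup.mk' E') b
    rw [QuotientGroup.mk'_apply, QuotientGroup.mk'_apply]
    exact QuotientGroup.eq.2 hab
  -- the transfer is trivial
  have hV : ∀ g : G, MonoidHom.transfer ϕ g = 1 :=
    fun g => hom_eq_one_of_no_index_two hG hPA (MonoidHom.transfer ϕ) g
  -- `t` is in `Ω` and not in `E'`
  have htΩ : (⟨t, htS⟩ : ↥(S : Subgroup G)) ∈ Ω := (hΩmem _).2 ht2
  have htR : t ∉ R := by
    have := hcon 1 (one_mem _)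
    simpa using this
  have htE : (⟨t, htS⟩ : ↥(S : Subgroup G)) ∉ E' := fun hc => htR ((hE'mem _).1 hc).1
  have hc2 : ϕ ⟨t, htS⟩ ^ 2 = 1 := by
    rw [← map_pow]
    have : (⟨t, htS⟩ : ↥(S : Subgroup G)) ^ 2 = 1 := Subtype.ext (by simpa using ht2)
    rw [this, map_one]
  -- control of fusion
  have hctrl : ∀ (m : ℕ) (a : G) (h : a⁻¹ * t ^ m * a ∈ (S : Subgroup G)),
      ϕ ⟨a⁻¹ * t ^ m * a, h⟩ = ϕ ⟨t, htS⟩ ^ m := by
    intro m a h
    rcases Nat.even_or_odd' m with ⟨k, rfl | rfl⟩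
    · have h1 : t ^ (2 * k) = 1 := by rw [pow_mul, ht2, one_pow]
      have h2 : (⟨a⁻¹ * t ^ (2 * k) * a, h⟩ : ↥(S : Subgroup G)) = 1 :=
        Subtype.ext (by simp [h1])
      rw [h2, map_one, pow_mul, hc2, one_pow]
    · have h1 : t ^ (2 * k + 1) = t := by rw [pow_succ, pow_mul, ht2, one_pow, one_mul]
      have hx : a⁻¹ * t * a ∈ (S : Subgroup G) := by rw [← h1]; exact h
      have h2 : (⟨a⁻¹ * t ^ (2 * k + 1) * a, h⟩ : ↥(S : Subgroup G)) = ⟨a⁻¹ * t * a, hx⟩ :=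
        Subtype.ext (by simp [h1])
      rw [h2, pow_succ, pow_mul, hc2, one_pow, one_mul]
      obtain ⟨n, hn, hn'⟩ := S.conj_eq_normalizer_conj_of_mem t a htS hx
      have hxR : a⁻¹ * t * a ∉ R := by
        rw [hn']
        have := hcon n⁻¹ (inv_mem hn)
        rwa [inv_inv] at this
      have hxΩ : (⟨a⁻¹ * t * a, hx⟩ : ↥(S : Subgroup G)) ∈ Ω := by
        rw [hΩmem]
        show (a⁻¹ * t * a) ^ 2 = 1
        rw [pow_two]
        have : a⁻¹ * t * a * (a⁻¹ * t * a) = a⁻¹ * (t ^ 2) * a := by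
          rw [pow_two]; group
        rw [this, ht2, mul_one, inv_mul_cancel]
      have hxE : (⟨a⁻¹ * t * a, hx⟩ : ↥(S : Subgroup G)) ∉ E' :=
        fun hc => hxR ((hE'mem _).1 hc).1
      exact hϕeq _ _ (hcong _ _ hxΩ htΩ hxE htE)
  have htr := transfer_eq_pow_index ϕ t htS hctrl
  rw [hV t] at htr
  -- the index is odd
  have hodd : ¬ 2 ∣ (S : Subgroup G).index := S.not_dvd_index
  obtain ⟨k, hk⟩ : ∃ k, (S : Subgroup G).index = 2 * k + 1 := by
    refine ⟨(S : Subgroup G).index / 2, ?_⟩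
    omega
  rw [hk, pow_succ, pow_mul, hc2, one_pow, one_mul] at htr
  exact htE ((hϕ1 _).1 htr.symm)

end Cfsg.Agent.S1244
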