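import Cfsg.Statements.S1249

set_option autoImplicit false
open Cfsg

namespace Cfsg.Agent.S1249

open scoped Pointwise in
/-- Let P and Q be Sylow p-subgroups of the finite group G both containing the subgroup A. If A is strongly closed in P, then A is strongly closed in Q. -/
theorem result {G : Type*} [Group G] [Finite G] {p : ℕ} [Fact p.Prime] (P Q : Sylow p G) (A : Subgroup G) (hAQ : A ≤ Q) (hA : Cfsg.IsStronglyClosed A (P : Subgroup G)) : Cfsg.IsStronglyClosed A (Q : Subgroup G) := by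
  obtain ⟨hAP, hcl⟩ := hA
  refine ⟨hAQ, ?_⟩
  obtain ⟨g, hg⟩ := MulAction.exists_smul_eq G P Q
  have hQ : ∀ x : G, x ∈ (Q : Subgroup G) ↔ g⁻¹ * x * g ∈ (P : Subgroup G) := by
    intro x
    rw [← hg, Sylow.coe_subgroup_smul, Subgroup.mem_pointwise_smul_iff_inv_smul_mem]
    simp [MulAut.smul_def]
  -- conjugation by g⁻¹ maps A into A
  have hin : ∀ a ∈ A, g⁻¹ * a * g ∈ A := by
    intro a ha
    have h1 : g⁻¹ * a * g ∈ (P : Subgroup G) := (hQ a).1 (hAQ ha)
    have := hcl a ha g⁻¹ (by simpa using h1)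
    simpa using this
  -- hence it is a bijection of A
  let f : A → A := fun a => ⟨g⁻¹ * a * g, hin a a.2⟩
  have hf : Function.Injective f := by
    intro a b hab
    have : g⁻¹ * (a : G) * g = g⁻¹ * (b : G) * g := congrArg Subtype.val hab
    apply Subtype.ext
    simpa using this
  have hsurj : Function.Surjective f := Finite.injective_iff_surjective.1 hf
  intro x hx h hh
  have h1 : g⁻¹ * (h * x * h⁻¹) * g ∈ (P : Subgroup G) := (hQ _).1 hh
  have h2 : (g⁻¹ * h) * x * (g⁻¹ * h)⁻¹ ∈ A := by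
    apply hcl x hx
    have : g⁻¹ * h * x * (g⁻¹ * h)⁻¹ = g⁻¹ * (h * x * h⁻¹) * g := by group
    rw [this]; exact h1
  obtain ⟨a, ha⟩ := hsurj ⟨_, h2⟩
  have h3 : g⁻¹ * (a : G) * g = (g⁻¹ * h) * x * (g⁻¹ * h)⁻¹ := congrArg Subtype.val ha
  have h4 : h * x * h⁻¹ = (a : G) := by
    have : (a : G) = g * ((g⁻¹ * h) * x * (g⁻¹ * h)⁻¹) * g⁻¹ := by
      rw [← h3]; group
    rw [this]; group
  rw [h4]
  exact a.2

end Cfsg.Agent.S1249
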