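import Cfsg.Statements.S1250

set_option autoImplicit false
open Cfsg

namespace Cfsg.Agent.S1250

open scoped Pointwise

/-- A `p`-element `y` of a subgroup `K` containing the Sylow subgroup `S` is `K`-conjugate
into `S`. -/
theorem exists_conj_mem_sylow {G : Type*} [Group G] [Finite G] {p : ℕ} [Fact p.Prime]
    (S : Sylow p G) (K : Subgroup G) (hSK : (S : Subgroup G) ≤ K) (y : G) (hyK : y ∈ K)
    (k : ℕ) (hy : y ^ p ^ k = 1) : ∃ c ∈ K, c * y * c⁻¹ ∈ (S : Subgroup G) := by
  let y' : K := ⟨y, hyK⟩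
  have hy' : y' ^ p ^ k = 1 := Subtype.ext (by simpa [y'] using hy)
  have hpg : IsPGroup p (Subgroup.zpowers y') := by
    obtain ⟨j, -, hj⟩ := (Nat.dvd_prime_pow (Fact.out : p.Prime)).1 (orderOf_dvd_of_pow_eq_one hy')
    exact IsPGroup.of_card (n := j) (by rw [Nat.card_zpowers, hj])
  obtain ⟨Q, hQ⟩ := hpg.exists_le_sylow
  obtain ⟨c, hc⟩ := MulAction.exists_smul_eq K Q (S.subtype hSK)
  refine ⟨c, c.2, ?_⟩
  have h1 : y' ∈ (Q : Subgroup K) := hQ (Subgroup.mem_zpowers y')
  have h2 : c * y' * c⁻¹ ∈ ((c • Q : Sylow p K) : Subgroup K) := by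
    rw [Sylow.coe_subgroup_smul, Subgroup.mem_pointwise_smul_iff_inv_smul_mem]
    have : (MulAut.conj c)⁻¹ • (c * y' * c⁻¹) = y' := by
      rw [MulAut.smul_def, MulAut.conj_inv_apply]; group
    rw [this]; exact h1
  rw [hc] at h2
  have h3 : ((c * y' * c⁻¹ : K) : G) ∈ (S : Subgroup G) := by
    have := h2
    rw [Sylow.coe_subtype, Subgroup.mem_subgroupOf] at this
    exact this
  simpa [y'] using h3

/-- Let S be a Sylow p-subgroup of the finite group G, A ≤ S strongly closed in S, and N a normal subgroup. Then the image of A in G ⧸ N is strongly closed in the image of S (which is a Sylow p-subgroup of G ⧸ N). -/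
theorem result {G : Type*} [Group G] [Finite G] {p : ℕ} [Fact p.Prime] (S : Sylow p G) (A : Subgroup G) (hA : Cfsg.IsStronglyClosed A (S : Subgroup G)) (N : Subgroup G) [N.Normal] : Cfsg.IsStronglyClosed (A.map (QuotientGroup.mk' N)) ((S : Subgroup G).map (QuotientGroup.mk' N)) := by
  obtain ⟨hAS, hcl⟩ := hA
  refine ⟨Subgroup.map_mono hAS, ?_⟩
  rintro _ ⟨a, ha, rfl⟩ gbar hg
  obtain ⟨g, rfl⟩ := QuotientGroup.mk'_surjective N gbar
  obtain ⟨s, hs, hs'⟩ := hg
  set y := g * a * g⁻¹ with hy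
  have hs'' : QuotientGroup.mk' N s = QuotientGroup.mk' N y := by
    rw [hs']; simp [y]
  -- y ∈ S ⊔ N
  have hyK : y ∈ (S : Subgroup G) ⊔ N := by
    have h1 : s⁻¹ * y ∈ N := by
      have := (QuotientGroup.eq (s := N) (a := s) (b := y)).1 (by simpa using hs'')
      exact this
    have : y = s * (s⁻¹ * y) := by group
    rw [this]
    exact mul_mem (Subgroup.mem_sup_left hs) (Subgroup.mem_sup_right h1)
  -- y is a p-element
  obtain ⟨k, hk⟩ := S.isPGroup' ⟨a, hAS ha⟩
  have hak : a ^ p ^ k = 1 := by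
    have := congrArg Subtype.val hk
    simpa using this
  have hyk : y ^ p ^ k = 1 := by
    rw [hy, conj_pow, hak]; simp
  obtain ⟨c, hcK, hc⟩ := exists_conj_mem_sylow S _ le_sup_left y hyK k hyk
  -- write c = s' * n'
  obtain ⟨s', hs'S, n', hn', rfl⟩ := Subgroup.mem_sup_of_normal_right.1 hcK
  have h1 : n' * y * n'⁻¹ ∈ (S : Subgroup G) := by
    have : n' * y * n'⁻¹ = s'⁻¹ * (s' * n' * y * (s' * n')⁻¹) * s' := by group
    rw [this]
    exact mul_mem (mul_mem (inv_mem hs'S) hc) hs'S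
  have h2 : (n' * g) * a * (n' * g)⁻¹ ∈ A := by
    apply hcl a ha
    have : n' * g * a * (n' * g)⁻¹ = n' * y * n'⁻¹ := by rw [hy]; group
    rw [this]; exact h1
  refine ⟨_, h2, ?_⟩
  have hn1 : QuotientGroup.mk' N n' = 1 := by
    rw [QuotientGroup.mk'_apply, QuotientGroup.eq_one_iff]; exact hn'
  simp only [map_mul, map_inv, hn1, one_mul]

end Cfsg.Agent.S1250
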