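import Cfsg.Statements.S1254
import Cfsg.Agent.Lib.Helper34.Dihedral2
import Cfsg.Agent.Lib.Helper2.Frobenius

set_option autoImplicit false
open Cfsg

namespace Cfsg.Agent.S1254

open Cfsg.Agent.Helper34.Dih Cfsg.Agent.Helper2

/-- If `B` normalizes `A`, every element of `A ⊔ B` is a product `a * b`. -/
theorem mem_sup_of_le_normalizer {G : Type*} [Group G] {A B : Subgroup G}
    (h : ∀ b ∈ B, ∀ a ∈ A, b * a * b⁻¹ ∈ A) {x : G}
    (hx : x ∈ A ⊔ B) : ∃ a ∈ A, ∃ b ∈ B, x = a * b := by
  rw [Subgroup.sup_eq_closure] at hx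
  induction hx using Subgroup.closure_induction with
  | mem x hx =>
    rcases hx with hx | hx
    · exact ⟨x, hx, 1, B.one_mem, by simp⟩
    · exact ⟨1, A.one_mem, x, hx, by simp⟩
  | one => exact ⟨1, A.one_mem, 1, B.one_mem, by simp⟩
  | mul x y _ _ ihx ihy =>
    obtain ⟨a1, ha1, b1, hb1, rfl⟩ := ihx
    obtain ⟨a2, ha2, b2, hb2, rfl⟩ := ihy
    refine ⟨a1 * (b1 * a2 * b1⁻¹), A.mul_mem ha1 (h b1 hb1 a2 ha2), b1 * b2, B.mul_mem hb1 hb2, ?_⟩
    group
  | inv x _ ih =>
    obtain ⟨a, ha, b, hb, rfl⟩ := ih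
    refine ⟨b⁻¹ * a⁻¹ * b⁻¹⁻¹, h b⁻¹ (B.inv_mem hb) a⁻¹ (A.inv_mem ha), b⁻¹, B.inv_mem hb, ?_⟩
    group

/-- the normalizer of a subgroup normalizes its centralizer -/
theorem conj_mem_centralizer {G : Type*} [Group G] (Q : Subgroup G) (n c : G)
    (hn : n ∈ Subgroup.normalizer (Q : Set G)) (hc : c ∈ Subgroup.centralizer (Q : Set G)) :
    n * c * n⁻¹ ∈ Subgroup.centralizer (Q : Set G) := by
  rw [Subgroup.mem_centralizer_iff] at hc ⊢
  intro q hq
  have hq' : n⁻¹ * q * n ∈ Q := by
    have := (Subgroup.mem_normalizer_iff.mp (Subgroup.inv_mem _ hn) q).mp hq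
    simpa using this
  have h1 := hc _ hq'
  calc q * (n * c * n⁻¹) = n * ((n⁻¹ * q * n) * c) * n⁻¹ := by group
    _ = n * (c * (n⁻¹ * q * n)) * n⁻¹ := by rw [h1]
    _ = n * c * n⁻¹ * q := by group

/-- (⇐) -/
theorem frobCond_of_hyp {X : Type*} [Group X] [Finite X] (S : Sylow 2 X) (m : ℕ)
    (eS : (S : Subgroup X) ≃* DihedralGroup m)
    (h : ∀ U : Subgroup X, U ≤ S → IsKleinFour U → Subgroup.normalizer (U : Set X) =
      Subgroup.centralizer (U : Set X) ⊔ ((S : Subgroup X) ⊓ Subgroup.normalizer (U : Set X))) :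
    FrobCond 2 X := by
  have : Fact (Nat.Prime 2) := ⟨Nat.prime_two⟩
  have hD : DihLike (S : Subgroup X) := dihLike_of_equiv _ m eS
  apply frobCond_of_sylow S
  intro Q hQS g hg hgo
  have hQ2 : IsPGroup 2 Q := S.2.to_le hQS
  by_cases hv : ∃ v ∈ Q, v * v ≠ 1
  · exact hD.centralizes_of_sq_ne_one Q hQS hQ2 g hg hgo hv
  · push Not at hv
    have hcard := hD.card_le_four Q hQS hv
    obtain ⟨k, hk⟩ := IsPGroup.iff_card.mp hQ2
    have hk2 : k ≤ 2 := by
      by_contra hlt
      push Not at hlt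
      have : 2 ^ 3 ≤ 2 ^ k := Nat.pow_le_pow_right (by norm_num) hlt
      omega
    interval_cases k
    · -- trivial group
      have : IsCyclic Q := by
        have : Subsingleton Q := (Nat.card_eq_one_iff_unique.mp (by simpa using hk)).1
        exact isCyclic_of_subsingleton
      exact centralizes_cyclic_two Q hQ2 g hg hgo
    · have : IsCyclic Q := isCyclic_of_prime_card (p := 2) (by simpa using hk)
      exact centralizes_cyclic_two Q hQ2 g hg hgo
    · -- Klein four
      have hK : IsKleinFour Q := by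
        refine ⟨by simpa using hk, ?_⟩
        have h1 : Monoid.exponent Q ∣ 2 := by
          apply Monoid.exponent_dvd_of_forall_pow_eq_one
          intro q
          apply Subtype.ext
          have := hv q q.2
          simp [pow_two, this]
        rcases (Nat.dvd_prime Nat.prime_two).mp h1 with h2 | h2
        · exfalso
          have := Monoid.exp_eq_one_iff.mp h2
          have h3 : Nat.card Q = 1 := Nat.card_eq_one_iff_unique.mpr ⟨this, ⟨1⟩⟩
          omega
        · exact h2
      have hN := h Q hQS hK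
      have hg' : g ∈ Subgroup.centralizer (Q : Set X) ⊔
          ((S : Subgroup X) ⊓ Subgroup.normalizer (Q : Set X)) := by rw [← hN]; exact hg
      obtain ⟨c, hc, s, hs, hgcs⟩ := mem_sup_of_le_normalizer (fun b hb a ha =>
        conj_mem_centralizer Q b a (Subgroup.mem_inf.mp hb).2 ha) hg'
      have hsS : s ∈ (S : Subgroup X) := (Subgroup.mem_inf.mp hs).1
      have hsN : s ∈ Subgroup.normalizer (Q : Set X) := (Subgroup.mem_inf.mp hs).2
      have hcN : c ∈ Subgroup.normalizer (Q : Set X) := Subgroup.centralizer_le_normalizer _ hc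
      set f := Q.normalizerMonoidHom with hf
      have hfc : f ⟨c, hcN⟩ = 1 := by
        have : (⟨c, hcN⟩ : Subgroup.normalizer (Q : Set X)) ∈ f.ker := by
          rw [hf, Subgroup.normalizerMonoidHom_ker, Subgroup.mem_subgroupOf]
          exact hc
        exact this
      have hfg : f ⟨g, hg⟩ = f ⟨s, hsN⟩ := by
        have : (⟨g, hg⟩ : Subgroup.normalizer (Q : Set X)) = ⟨c, hcN⟩ * ⟨s, hsN⟩ :=
          Subtype.ext hgcs
        rw [this, map_mul, hfc, one_mul]
      have h1 : orderOf (f ⟨g, hg⟩) ∣ orderOf g := by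
        have := orderOf_map_dvd f (⟨g, hg⟩ : Subgroup.normalizer (Q : Set X))
        rwa [Subgroup.orderOf_mk] at this
      obtain ⟨j, hj⟩ := S.2 ⟨s, hsS⟩
      have hsj : s ^ 2 ^ j = 1 := by
        have := congrArg Subtype.val hj
        simpa using this
      have h2 : orderOf (f ⟨g, hg⟩) ∣ 2 ^ j := by
        rw [hfg]
        have h3 := orderOf_map_dvd f (⟨s, hsN⟩ : Subgroup.normalizer (Q : Set X))
        rw [Subgroup.orderOf_mk] at h3
        exact h3.trans (orderOf_dvd_of_pow_eq_one hsj)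
      have h4 : orderOf (f ⟨g, hg⟩) = 1 :=
        Nat.eq_one_of_dvd_coprimes (Nat.Coprime.pow_right j hgo) h1 h2
      have h5 : (⟨g, hg⟩ : Subgroup.normalizer (Q : Set X)) ∈ f.ker := orderOf_eq_one_iff.mp h4
      rw [hf, Subgroup.normalizerMonoidHom_ker, Subgroup.mem_subgroupOf] at h5
      exact h5

/-- (⇒) -/
theorem normalizer_eq_of_complement {X : Type*} [Group X] [Finite X] (S : Sylow 2 X)
    (hX : Cfsg.HasNormalPComplement 2 X) (U : Subgroup X) (hUS : U ≤ S) :
    Subgroup.normalizer (U : Set X) =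
      Subgroup.centralizer (U : Set X) ⊔ ((S : Subgroup X) ⊓ Subgroup.normalizer (U : Set X)) := by
  have : Fact (Nat.Prime 2) := ⟨Nat.prime_two⟩
  obtain ⟨P, K, hKn, hKP⟩ := hX
  apply le_antisymm
  · intro g hg
    -- K is a complement to S as well
    have hcardPS : Nat.card (P : Subgroup X) = Nat.card (S : Subgroup X) := by
      rw [Sylow.card_eq_multiplicity, Sylow.card_eq_multiplicity]
    have hKS : K.IsComplement' (S : Subgroup X) := by
      apply Subgroup.isComplement'_of_coprime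
      · rw [← hcardPS]; exact hKP.card_mul_card
      · have h1 : (P : Subgroup X).index = Nat.card K := hKP.index_eq_card
        rw [← hcardPS, ← h1]
        exact (Sylow.card_coprime_index P).symm
    have hdisj : K ⊓ (S : Subgroup X) = ⊥ := disjoint_iff.mp hKS.disjoint
    obtain ⟨⟨⟨k, hk⟩, ⟨s, hs⟩⟩, hks, -⟩ := Subgroup.isComplement_iff_existsUnique.mp hKS g
    simp only at hks
    -- k centralizes s U s⁻¹
    have hkey : ∀ u ∈ U, g * u * g⁻¹ = s * u * s⁻¹ := by
      intro u hu
      set w := s * u * s⁻¹ with hw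
      have hwS : w ∈ (S : Subgroup X) :=
        Subgroup.mul_mem _ (Subgroup.mul_mem _ hs (hUS hu)) (Subgroup.inv_mem _ hs)
      have hgu : g * u * g⁻¹ ∈ U := (Subgroup.mem_normalizer_iff.mp hg u).mp hu
      have hkw : k * w * k⁻¹ = g * u * g⁻¹ := by rw [← hks, hw]; group
      have h1 : k * w * k⁻¹ * w⁻¹ ∈ K := by
        have : k * w * k⁻¹ * w⁻¹ = k * (w * k⁻¹ * w⁻¹) := by group
        rw [this]
        exact K.mul_mem hk (hKn.conj_mem _ (K.inv_mem hk) w)
      have h2 : k * w * k⁻¹ * w⁻¹ ∈ (S : Subgroup X) := by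
        rw [hkw]
        exact Subgroup.mul_mem _ (hUS hgu) (Subgroup.inv_mem _ hwS)
      have h3 : k * w * k⁻¹ * w⁻¹ ∈ K ⊓ (S : Subgroup X) := Subgroup.mem_inf.mpr ⟨h1, h2⟩
      rw [hdisj, Subgroup.mem_bot] at h3
      rw [← hkw]
      calc k * w * k⁻¹ = (k * w * k⁻¹ * w⁻¹) * w := by group
        _ = w := by rw [h3, one_mul]
    have hsN : s ∈ Subgroup.normalizer (U : Set X) := by
      apply mem_normalizer_of_conj_mem'
      intro u hu
      rw [← hkey u hu]
      exact (Subgroup.mem_normalizer_iff.mp hg u).mp hu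
    have hkC : k ∈ Subgroup.centralizer (U : Set X) := by
      rw [Subgroup.mem_centralizer_iff]
      intro u' hu'
      -- u' = s u s⁻¹ with u = s⁻¹ u' s
      have hu : s⁻¹ * u' * s ∈ U := by
        have := (Subgroup.mem_normalizer_iff.mp (Subgroup.inv_mem _ hsN) u').mp hu'
        simpa using this
      have h1 := hkey _ hu
      have h2 : s * (s⁻¹ * u' * s) * s⁻¹ = u' := by group
      rw [h2, ← hks] at h1
      -- k s (s⁻¹ u' s) s⁻¹ k⁻¹ = u'
      have h3 : k * u' * k⁻¹ = u' := by
        have e : k * s * (s⁻¹ * u' * s) * (k * s)⁻¹ = k * u' * k⁻¹ := by group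
        rw [← e]; exact h1
      calc u' * k = (k * u' * k⁻¹) * k := by rw [h3]
        _ = k * u' := by group
    rw [← hks]
    exact Subgroup.mul_mem _ (Subgroup.mem_sup_left hkC)
      (Subgroup.mem_sup_right (Subgroup.mem_inf.mpr ⟨hs, hsN⟩))
  · exact sup_le (Subgroup.centralizer_le_normalizer _) inf_le_right

/-- Let X be a finite group whose Sylow 2-subgroup S is dihedral (of order at least 4). Then X has a normal 2-complement if and only if, for every Klein four-subgroup U ≤ S, the normalizer N_X(U) is generated by C_X(U) and N_S(U). -/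
theorem result {X : Type*} [Group X] [Finite X] (S : Sylow 2 X) (m : ℕ) (hm : 2 ≤ m) (eS : (S : Subgroup X) ≃* DihedralGroup m) : Cfsg.HasNormalPComplement 2 X ↔ ∀ U : Subgroup X, U ≤ S → IsKleinFour U → Subgroup.normalizer (U : Set X) = Subgroup.centralizer (U : Set X) ⊔ ((S : Subgroup X) ⊓ Subgroup.normalizer (U : Set X)) := by
  have : Fact (Nat.Prime 2) := ⟨Nat.prime_two⟩
  constructor
  · intro hX U hUS _
    exact normalizer_eq_of_complement S hX U hUS
  · intro h
    exact frobenius 2 (frobCond_of_hyp S m eS h)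

end Cfsg.Agent.S1254
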