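import Cfsg.Statements.S1255
import Cfsg.Agent.S0107
import Cfsg.Agent.S1244
import Cfsg.Agent.Lib.Helper21.KleinFour
import Cfsg.Agent.Lib.Helper86.GroupLemmas

set_option autoImplicit false
open Cfsg

namespace Cfsg.Agent.S1255

open Subgroup Cfsg.Agent.Helper21

section Aux

variable {X : Type*} [Group X] [Finite X]

/-- A `p`-element is conjugate into a given Sylow `p`-subgroup. -/
theorem exists_conj_mem_sylow {p : ℕ} [Fact p.Prime] (S : Sylow p X) (a : X)
    (ha : IsPGroup p ↥(zpowers a)) : ∃ g : X, g * a * g⁻¹ ∈ (S : Subgroup X) := by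
  obtain ⟨Q, hQ⟩ := ha.exists_le_sylow
  obtain ⟨g, rfl⟩ := MulAction.exists_smul_eq X Q S
  refine ⟨g, ?_⟩
  rw [Sylow.coe_subgroup_smul, Subgroup.mem_smul_pointwise_iff_exists]
  exact ⟨a, hQ (mem_zpowers a), by simp [MulAut.smul_def]⟩

theorem isPGroup_zpowers_of_orderOf_two (a : X) (ha : orderOf a = 2) : IsPGroup 2 ↥(zpowers a) := by
  have : Fact (Nat.Prime 2) := ⟨Nat.prime_two⟩
  rw [IsPGroup.iff_card]
  exact ⟨1, by rw [Nat.card_zpowers, ha, pow_one]⟩

theorem sq_eq_one_of_orderOf_two {a : X} (ha : orderOf a = 2) : a * a = 1 := by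
  rw [← pow_two, ← ha]; exact pow_orderOf_eq_one a

theorem ne_one_of_orderOf_two {a : X} (ha : orderOf a = 2) : a ≠ 1 := by
  rintro rfl
  rw [orderOf_one] at ha
  omega

theorem orderOf_two_of_sq {a : X} (h2 : a * a = 1) (h1 : a ≠ 1) : orderOf a = 2 := by
  have : Fact (Nat.Prime 2) := ⟨Nat.prime_two⟩
  apply orderOf_eq_prime
  · rw [pow_two]; exact h2
  · exact h1

/-- No subgroup of index `2` implies `O^2(X) = X`. -/
theorem pResidual_eq_top_of_no_index_two (hG : ∀ H : Subgroup X, H.index ≠ 2) :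
    Cfsg.pResidual 2 X = ⊤ := by
  have : Fact (Nat.Prime 2) := ⟨Nat.prime_two⟩
  have hn : (Cfsg.pResidual 2 X).Normal := Cfsg.Agent.Helper86.pResidual_normal 2 X
  have hq : IsPGroup 2 (X ⧸ Cfsg.pResidual 2 X) :=
    Cfsg.Agent.Helper86.isPGroup_quotient_pResidual 2 X
  rw [eq_top_iff]
  intro g _
  have := hom_eq_one_of_no_index_two hG hq (QuotientGroup.mk' (Cfsg.pResidual 2 X)) g
  rwa [QuotientGroup.mk'_apply, QuotientGroup.eq_one_iff] at this

end Aux

section Dihedral

open DihedralGroup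

/-- existence of an element of order two in `ZMod m`, `m` even -/
theorem exists_half {m : ℕ} (hm : 2 ≤ m) (heven : Even m) : ∃ h : ZMod m, h + h = 0 ∧ h ≠ 0 := by
  obtain ⟨c, hc⟩ := heven
  refine ⟨(c : ZMod m), ?_, ?_⟩
  · rw [← Nat.cast_add, ← hc, ZMod.natCast_self]
  · intro h0
    rw [ZMod.natCast_eq_zero_iff] at h0
    have hcpos : 0 < c := by omega
    have := Nat.le_of_dvd hcpos h0
    omega

variable {X : Type*} [Group X] [Finite X]

/-- the embedding of the dihedral group onto the Sylow subgroup -/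
def emb (S : Sylow 2 X) {m : ℕ} (eS : (S : Subgroup X) ≃* DihedralGroup m) : DihedralGroup m →* X :=
  (S : Subgroup X).subtype.comp eS.symm.toMonoidHom

theorem emb_mem (S : Sylow 2 X) {m : ℕ} (eS : (S : Subgroup X) ≃* DihedralGroup m)
    (a : DihedralGroup m) : emb S eS a ∈ (S : Subgroup X) := (eS.symm a).2

theorem emb_injective (S : Sylow 2 X) {m : ℕ} (eS : (S : Subgroup X) ≃* DihedralGroup m) :
    Function.Injective (emb S eS) := by
  intro a b hab
  have : eS.symm a = eS.symm b := Subtype.ext hab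
  exact eS.symm.injective this

theorem exists_emb_eq (S : Sylow 2 X) {m : ℕ} (eS : (S : Subgroup X) ≃* DihedralGroup m) {x : X}
    (hx : x ∈ (S : Subgroup X)) : ∃ a, emb S eS a = x :=
  ⟨eS ⟨x, hx⟩, by simp [emb]⟩

/-- the order of the Sylow subgroup, and `m` is a power of two -/
theorem card_and_pow (S : Sylow 2 X) {m : ℕ} (hm : 2 ≤ m)
    (eS : (S : Subgroup X) ≃* DihedralGroup m) :
    Nat.card (S : Subgroup X) = 2 * m ∧ ∃ k : ℕ, 1 ≤ k ∧ m = 2 ^ k := by
  have : Fact (Nat.Prime 2) := ⟨Nat.prime_two⟩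
  have hcard : Nat.card (S : Subgroup X) = 2 * m := by
    rw [Nat.card_congr eS.toEquiv, DihedralGroup.nat_card]
  refine ⟨hcard, ?_⟩
  obtain ⟨j, hj⟩ := IsPGroup.iff_card.1 S.isPGroup'
  rw [hcard] at hj
  rcases j with _ | j
  · omega
  · refine ⟨j, ?_, ?_⟩
    · rcases j with _ | j
      · omega
      · omega
    · rw [pow_succ] at hj
      omega

theorem orderOf_emb_sr (S : Sylow 2 X) {m : ℕ} (eS : (S : Subgroup X) ≃* DihedralGroup m)
    (i : ZMod m) : orderOf (emb S eS (sr i)) = 2 := by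
  rw [orderOf_injective (emb S eS) (emb_injective S eS), DihedralGroup.orderOf_sr]

theorem emb_sr_ne_one (S : Sylow 2 X) {m : ℕ} (eS : (S : Subgroup X) ≃* DihedralGroup m)
    (i : ZMod m) : emb S eS (sr i) ≠ 1 := ne_one_of_orderOf_two (orderOf_emb_sr S eS i)

theorem emb_r_ne_one (S : Sylow 2 X) {m : ℕ} (eS : (S : Subgroup X) ≃* DihedralGroup m)
    {j : ZMod m} (hj : j ≠ 0) : emb S eS (r j) ≠ 1 := by
  intro hc
  apply hj
  have h1 : emb S eS (r j) = emb S eS 1 := by rw [hc, map_one]
  have h2 := emb_injective S eS h1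
  rw [DihedralGroup.one_def] at h2
  exact DihedralGroup.r.inj h2

theorem emb_r_mul_self (S : Sylow 2 X) {m : ℕ} (eS : (S : Subgroup X) ≃* DihedralGroup m)
    {j : ZMod m} (hj : j + j = 0) : emb S eS (r j) * emb S eS (r j) = 1 := by
  rw [← map_mul, r_mul_r, hj, r_zero, map_one]

theorem emb_sr_mul_self (S : Sylow 2 X) {m : ℕ} (eS : (S : Subgroup X) ≃* DihedralGroup m)
    (i : ZMod m) : emb S eS (sr i) * emb S eS (sr i) = 1 := by
  rw [← map_mul, sr_mul_self, map_one]

theorem emb_r_sr_comm (S : Sylow 2 X) {m : ℕ} (eS : (S : Subgroup X) ≃* DihedralGroup m)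
    {j : ZMod m} (hj : j + j = 0) (i : ZMod m) :
    emb S eS (r j) * emb S eS (sr i) = emb S eS (sr i) * emb S eS (r j) := by
  rw [← map_mul, ← map_mul, r_mul_sr, sr_mul_r]
  have : i - j = i + j := by
    have hneg : -j = j := by
      have := eq_neg_of_add_eq_zero_left hj
      exact this.symm
    rw [sub_eq_add_neg, hneg]
  rw [this]

theorem emb_r_ne_sr (S : Sylow 2 X) {m : ℕ} (eS : (S : Subgroup X) ≃* DihedralGroup m)
    (j i : ZMod m) : emb S eS (r j) ≠ emb S eS (sr i) := by
  intro hc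
  have := emb_injective S eS hc
  cases this

theorem orderOf_emb_r (S : Sylow 2 X) {m : ℕ} (eS : (S : Subgroup X) ≃* DihedralGroup m)
    {j : ZMod m} (hj : j + j = 0) (hj0 : j ≠ 0) : orderOf (emb S eS (r j)) = 2 :=
  orderOf_two_of_sq (emb_r_mul_self S eS hj) (emb_r_ne_one S eS hj0)

end Dihedral

section Main

open DihedralGroup

variable {X : Type*} [Group X] [Finite X]

/-- Under hypothesis B, two distinct commuting involutions of `S` are conjugate. -/
theorem isConj_of_four (S : Sylow 2 X)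
    (hB : ∀ U : Subgroup X, U ≤ S → IsKleinFour U → (Subgroup.centralizer (U : Set X)).relIndex (Subgroup.normalizer (U : Set X)) = (if Nat.card S = 4 then 3 else 6))
    {a b : X} (haS : a ∈ (S : Subgroup X)) (hbS : b ∈ (S : Subgroup X)) (ha : a * a = 1)
    (hb : b * b = 1) (hab : a * b = b * a) (ha1 : a ≠ 1) (hb1 : b ≠ 1) (hne : a ≠ b) :
    IsConj a b := by
  have hK := isKleinFour_fourSub ha hb hab ha1 hb1 hne
  have h3 : 3 ∣ (centralizer ((fourSub a b ha hb hab : Subgroup X) : Set X)).relIndex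
      (normalizer ((fourSub a b ha hb hab : Subgroup X) : Set X)) := by
    rw [hB _ (fourSub_le ha hb hab haS hbS) hK]
    split_ifs <;> norm_num
  obtain ⟨g, hg⟩ := exists_conj_of_three_dvd_relIndex _ h3 (left_mem_fourSub ha hb hab) ha1
    (right_mem_fourSub ha hb hab) hb1
  exact isConj_iff.2 ⟨g, hg⟩

/-- Under hypothesis B, every involution of `S` is conjugate to the central involution. -/
theorem isConj_emb_r_half (S : Sylow 2 X) {m : ℕ} (eS : (S : Subgroup X) ≃* DihedralGroup m)
    (hB : ∀ U : Subgroup X, U ≤ S → IsKleinFour U → (Subgroup.centralizer (U : Set X)).relIndex (Subgroup.normalizer (U : Set X)) = (if Nat.card S = 4 then 3 else 6))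
    (h : ZMod m) (hh : h + h = 0) (hh0 : h ≠ 0) {x : X} (hxS : x ∈ (S : Subgroup X))
    (hx : orderOf x = 2) : IsConj x (emb S eS (r h)) := by
  obtain ⟨a, rfl⟩ := exists_emb_eq S eS hxS
  have hsr : ∀ i, IsConj (emb S eS (sr i)) (emb S eS (r h)) := by
    intro i
    apply IsConj.symm
    exact isConj_of_four S hB (emb_mem S eS _) (emb_mem S eS _) (emb_r_mul_self S eS hh)
      (emb_sr_mul_self S eS i) (emb_r_sr_comm S eS hh i) (emb_r_ne_one S eS hh0)
      (emb_sr_ne_one S eS i) (emb_r_ne_sr S eS h i)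
  cases a with
  | r j =>
    by_cases hj : j = h
    · subst hj; exact IsConj.refl _
    · have hsq := sq_eq_one_of_orderOf_two hx
      have hjj : j + j = 0 := by
        rw [← map_mul, r_mul_r] at hsq
        have h1 : emb S eS (r (j + j)) = emb S eS 1 := by rw [hsq, map_one]
        have h2 := emb_injective S eS h1
        rw [DihedralGroup.one_def] at h2
        exact DihedralGroup.r.inj h2
      have hj0 : j ≠ 0 := by
        rintro rfl
        apply ne_one_of_orderOf_two hx
        rw [r_zero, map_one]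
      have h1 := isConj_of_four S hB (emb_mem S eS _) (emb_mem S eS _) (emb_r_mul_self S eS hjj)
        (emb_sr_mul_self S eS 0) (emb_r_sr_comm S eS hjj 0) (emb_r_ne_one S eS hj0)
        (emb_sr_ne_one S eS 0) (emb_r_ne_sr S eS j 0)
      exact h1.trans (hsr 0)
  | sr j => exact hsr j

theorem even_of_pow {m k : ℕ} (hk1 : 1 ≤ k) (hk : m = 2 ^ k) : Even m := by
  rw [hk]
  exact (Nat.even_pow.2 ⟨even_two, by omega⟩)

/-- Hypothesis B implies that all involutions are conjugate. -/
theorem all_conj_of_hB (S : Sylow 2 X) {m : ℕ} (hm : 2 ≤ m)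
    (eS : (S : Subgroup X) ≃* DihedralGroup m)
    (hB : ∀ U : Subgroup X, U ≤ S → IsKleinFour U → (Subgroup.centralizer (U : Set X)).relIndex (Subgroup.normalizer (U : Set X)) = (if Nat.card S = 4 then 3 else 6)) :
    ∀ a b : X, orderOf a = 2 → orderOf b = 2 → IsConj a b := by
  obtain ⟨hcard, k, hk1, hk⟩ := card_and_pow S hm eS
  obtain ⟨h, hh, hh0⟩ := exists_half hm (even_of_pow hk1 hk)
  have key : ∀ a : X, orderOf a = 2 → IsConj a (emb S eS (r h)) := by
    intro a ha
    obtain ⟨g, hg⟩ := exists_conj_mem_sylow S a (isPGroup_zpowers_of_orderOf_two a ha)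
    have h1 : IsConj a (g * a * g⁻¹) := isConj_iff.2 ⟨g, rfl⟩
    have h2 : orderOf (g * a * g⁻¹) = 2 := by
      have := orderOf_injective (MulAut.conj g).toMonoidHom (MulAut.conj g).injective a
      simp only [MulEquiv.toMonoidHom_eq_coe, MonoidHom.coe_coe, MulAut.conj_apply] at this
      rw [this, ha]
    exact h1.trans (isConj_emb_r_half S eS hB h hh hh0 hg h2)
  intro a b ha hb
  exact (key a ha).trans (key b hb).symm

/-- If all involutions are conjugate there is no subgroup of index two. -/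
theorem no_index_two (S : Sylow 2 X) {m : ℕ} (hm : 2 ≤ m)
    (eS : (S : Subgroup X) ≃* DihedralGroup m)
    (hall : ∀ a b : X, orderOf a = 2 → orderOf b = 2 → IsConj a b) (H : Subgroup X) :
    H.index ≠ 2 := by
  intro hH
  have : Fact (Nat.Prime 2) := ⟨Nat.prime_two⟩
  have hHn : H.Normal := Subgroup.normal_of_index_eq_two hH
  obtain ⟨hcard, k, hk1, hk⟩ := card_and_pow S hm eS
  obtain ⟨h, hh, hh0⟩ := exists_half hm (even_of_pow hk1 hk)
  have hconj : ∀ a b : X, IsConj a b → (a ∈ H ↔ b ∈ H) := by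
    intro a b hab
    obtain ⟨g, rfl⟩ := isConj_iff.1 hab
    constructor
    · intro ha; exact hHn.conj_mem a ha g
    · intro hb
      have := hHn.conj_mem _ hb g⁻¹
      simpa [mul_assoc] using this
  have hab : emb S eS (sr 0) * emb S eS (sr h) = emb S eS (r h) := by
    rw [← map_mul, sr_mul_sr, sub_zero]
  have ha2 := orderOf_emb_sr S eS 0
  have hb2 := orderOf_emb_sr S eS h
  have hc2 := orderOf_emb_r S eS hh hh0
  by_cases haH : emb S eS (sr 0) ∈ H
  · have hinv : ∀ x : X, orderOf x = 2 → x ∈ H :=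
      fun x hx => (hconj _ x (hall _ x ha2 hx)).1 haH
    have hSH : (S : Subgroup X) ≤ H := by
      intro x hx
      obtain ⟨d, rfl⟩ := exists_emb_eq S eS hx
      cases d with
      | r i =>
        have : (r i : DihedralGroup m) = sr 0 * sr i := by rw [sr_mul_sr, sub_zero]
        rw [this, map_mul]
        exact H.mul_mem (hinv _ (orderOf_emb_sr S eS 0)) (hinv _ (orderOf_emb_sr S eS i))
      | sr i => exact hinv _ (orderOf_emb_sr S eS i)
    have h2 : H.index ∣ (S : Subgroup X).index := Subgroup.index_dvd_of_le hSH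
    rw [hH] at h2
    exact S.not_dvd_index h2
  · have hbH : emb S eS (sr h) ∉ H := fun hb => haH ((hconj _ _ (hall _ _ ha2 hb2)).2 hb)
    have hcH : emb S eS (r h) ∉ H := fun hc => haH ((hconj _ _ (hall _ _ ha2 hc2)).2 hc)
    have := (Subgroup.mul_mem_iff_of_index_two hH (a := emb S eS (sr 0))
      (b := emb S eS (sr h))).2 ⟨fun h' => absurd h' haH, fun h' => absurd h' hbH⟩
    rw [hab] at this
    exact hcH this

/-- If all involutions are conjugate there is no isolated involution. -/
theorem no_isolated (S : Sylow 2 X) {m : ℕ} (hm : 2 ≤ m)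
    (eS : (S : Subgroup X) ≃* DihedralGroup m)
    (hall : ∀ a b : X, orderOf a = 2 → orderOf b = 2 → IsConj a b) (z : X) :
    ¬ Cfsg.IsIsolatedInvolution z := by
  rintro ⟨hz2, hziso⟩
  obtain ⟨hcard, k, hk1, hk⟩ := card_and_pow S hm eS
  obtain ⟨h, hh, hh0⟩ := exists_half hm (even_of_pow hk1 hk)
  have ha2 := orderOf_emb_sr S eS 0
  have hc2 := orderOf_emb_r S eS hh hh0
  have hac := emb_r_sr_comm S eS hh 0
  obtain ⟨g, hg⟩ := isConj_iff.1 (hall z _ hz2 ha2)
  obtain ⟨w, hw⟩ := isConj_iff.1 (hall z _ hz2 hc2)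
  have hz : z = g⁻¹ * emb S eS (sr 0) * g := by rw [← hg]; group
  have hc' : (g⁻¹ * w) * z * (g⁻¹ * w)⁻¹ = g⁻¹ * emb S eS (r h) * g := by rw [← hw]; group
  have hcomm : Commute z ((g⁻¹ * w) * z * (g⁻¹ * w)⁻¹) := by
    rw [hc']
    show z * (g⁻¹ * emb S eS (r h) * g) = (g⁻¹ * emb S eS (r h) * g) * z
    rw [hz]
    calc g⁻¹ * emb S eS (sr 0) * g * (g⁻¹ * emb S eS (r h) * g)
        = g⁻¹ * (emb S eS (sr 0) * emb S eS (r h)) * g := by group
      _ = g⁻¹ * (emb S eS (r h) * emb S eS (sr 0)) * g := by rw [hac]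
      _ = g⁻¹ * emb S eS (r h) * g * (g⁻¹ * emb S eS (sr 0) * g) := by group
  have h1 := hziso (g⁻¹ * w) hcomm
  rw [hc'] at h1
  have h2 : emb S eS (r h) = emb S eS (sr 0) := by
    have : g⁻¹ * emb S eS (r h) * g = g⁻¹ * emb S eS (sr 0) * g := by rw [h1, ← hz]
    have h3 := mul_right_cancel this
    exact mul_left_cancel h3
  exact emb_r_ne_sr S eS h 0 h2

/-- The case `|S| = 4`: no subgroup of index two implies all involutions are conjugate. -/
theorem all_conj_of_card_four (S : Sylow 2 X) (eS : (S : Subgroup X) ≃* DihedralGroup 2)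
    (hG : ∀ H : Subgroup X, H.index ≠ 2) :
    ∀ a b : X, orderOf a = 2 → orderOf b = 2 → IsConj a b := by
  classical
  have : Fact (Nat.Prime 2) := ⟨Nat.prime_two⟩
  have hcard : Nat.card (S : Subgroup X) = 4 := by
    rw [Nat.card_congr eS.toEquiv, DihedralGroup.nat_card]
  have hScomm : IsMulCommutative ↥(S : Subgroup X) :=
    IsPGroup.isMulCommutative_of_card_eq_prime_sq (p := 2) (by rw [hcard]; norm_num)
  -- every element of `S` has square one
  have hsq : ∀ x : ↥(S : Subgroup X), x ^ 2 = 1 := by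
    intro x
    apply eS.injective
    rw [map_pow, map_one]
    generalize eS x = d
    cases d with
    | r i =>
      rw [pow_two, r_mul_r, DihedralGroup.one_def]
      congr 1
      revert i; decide
    | sr i => rw [pow_two, sr_mul_self]
  have hSr : Cfsg.PRankLE 2 2 ↥(S : Subgroup X) ∧ ¬ Cfsg.PRankLE 2 (2 - 1) ↥(S : Subgroup X) := by
    constructor
    · intro A _ _
      calc Nat.card ↥A ≤ Nat.card ↥(S : Subgroup X) := Subgroup.card_le_card_group A
        _ = 2 ^ 2 := by rw [hcard]; norm_num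
    · intro hcon
      have := hcon ⊤ inferInstance (fun a _ => hsq a)
      rw [Subgroup.card_top, hcard] at this
      norm_num at this
  -- the subgroup `R`
  set u : X := emb S eS (sr 0) with hu
  have hu2 : orderOf u = 2 := orderOf_emb_sr S eS 0
  have huS : u ∈ (S : Subgroup X) := emb_mem S eS _
  set R : Subgroup X := zpowers u with hR
  have hRS : R ≤ (S : Subgroup X) := by rw [hR, Subgroup.zpowers_le]; exact huS
  have hRcard : Nat.card ↥R = 2 := by rw [hR, Nat.card_zpowers, hu2]
  have hRsq : ∀ x : ↥R, x ^ 2 = 1 := by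
    intro x
    have h1 : x ^ Nat.card ↥R = 1 := pow_card_eq_one'
    rwa [hRcard] at h1
  have hRr : Cfsg.PRankLE 2 (2 - 1) ↥R ∧ (2 = 1 ∨ ¬ Cfsg.PRankLE 2 (2 - 2) ↥R) := by
    constructor
    · intro A _ _
      calc Nat.card ↥A ≤ Nat.card ↥R := Subgroup.card_le_card_group A
        _ = 2 ^ (2 - 1) := by rw [hRcard]; norm_num
    · right
      intro hcon
      have hRc : IsMulCommutative ↥R := by rw [hR]; infer_instance
      have := hcon ⊤ inferInstance (fun a _ => hRsq a)
      rw [Subgroup.card_top, hRcard] at this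
      norm_num at this
  have key : ∀ t : X, orderOf t = 2 → IsConj t u := by
    intro t ht
    obtain ⟨g, hg⟩ := exists_conj_mem_sylow S t (isPGroup_zpowers_of_orderOf_two t ht)
    have h2 : orderOf (g * t * g⁻¹) = 2 := by
      have := orderOf_injective (MulAut.conj g).toMonoidHom (MulAut.conj g).injective t
      simp only [MulEquiv.toMonoidHom_eq_coe, MonoidHom.coe_coe, MulAut.conj_apply] at this
      rw [this, ht]
    obtain ⟨n, -, hn⟩ := Cfsg.Agent.S1244.result hG S hScomm 2 (by norm_num) hSr R hRS hRr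
      (g * t * g⁻¹) h2 hg
    -- `n (g t g⁻¹) n⁻¹ ∈ R` is an involution, hence equals `u`
    have h3 : orderOf (n * (g * t * g⁻¹) * n⁻¹) = 2 := by
      have := orderOf_injective (MulAut.conj n).toMonoidHom (MulAut.conj n).injective (g * t * g⁻¹)
      simp only [MulEquiv.toMonoidHom_eq_coe, MonoidHom.coe_coe, MulAut.conj_apply] at this
      rw [this, h2]
    have h4 : n * (g * t * g⁻¹) * n⁻¹ = u := by
      rw [hR, mem_zpowers_iff_mem_range_orderOf, hu2] at hn
      simp only [Finset.mem_image, Finset.mem_range] at hn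
      obtain ⟨j, hj, hj'⟩ := hn
      interval_cases j
      · exfalso
        rw [pow_zero] at hj'
        exact ne_one_of_orderOf_two h3 hj'.symm
      · rw [pow_one] at hj'
        exact hj'.symm
    refine isConj_iff.2 ⟨n * g, ?_⟩
    rw [← h4]
    group
  intro a b ha hb
  exact (key a ha).trans (key b hb).symm

/-- No subgroup of index two implies all involutions are conjugate. -/
theorem all_conj_of_no_index_two (S : Sylow 2 X) {m : ℕ} (hm : 2 ≤ m)
    (eS : (S : Subgroup X) ≃* DihedralGroup m) (hG : ∀ H : Subgroup X, H.index ≠ 2) :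
    ∀ a b : X, orderOf a = 2 → orderOf b = 2 → IsConj a b := by
  obtain ⟨hcard, k, hk1, hk⟩ := card_and_pow S hm eS
  subst hk
  rcases Nat.lt_or_ge k 2 with hk2 | hk2
  · have hk' : k = 1 := by omega
    subst hk'
    exact all_conj_of_card_four S eS hG
  · intro a b ha hb
    obtain ⟨g, hg⟩ := Cfsg.Agent.S0107.result S k hk2 ⟨eS⟩
      (pResidual_eq_top_of_no_index_two hG) a b ha hb
    exact isConj_iff.2 ⟨g, hg⟩

end Main

/-- Let X be a finite group whose Sylow 2-subgroup S is dihedral of order 2m ≥ 4. Then X has no subgroup of index 2 and no isolated involution if and only if either all involutions of X are conjugate, or for every Klein four-subgroup U ≤ S the index |N_X(U) : C_X(U)| equals 3 when |S| = 4 and equals 6 when |S| > 4. -/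
theorem result {X : Type*} [Group X] [Finite X] (S : Sylow 2 X) (m : ℕ) (hm : 2 ≤ m) (eS : (S : Subgroup X) ≃* DihedralGroup m) : ((∀ H : Subgroup X, H.index ≠ 2) ∧ (∀ z : X, ¬ Cfsg.IsIsolatedInvolution z)) ↔ ((∀ a b : X, orderOf a = 2 → orderOf b = 2 → IsConj a b) ∨ (∀ U : Subgroup X, U ≤ S → IsKleinFour U → (Subgroup.centralizer (U : Set X)).relIndex (Subgroup.normalizer (U : Set X)) = (if Nat.card S = 4 then 3 else 6))) := by
  constructor
  · rintro ⟨hG, -⟩
    exact Or.inl (all_conj_of_no_index_two S hm eS hG)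
  · intro h
    have hall : ∀ a b : X, orderOf a = 2 → orderOf b = 2 → IsConj a b := by
      rcases h with h | h
      · exact h
      · exact all_conj_of_hB S hm eS h
    exact ⟨fun H => no_index_two S hm eS hall H, fun z => no_isolated S hm eS hall z⟩

end Cfsg.Agent.S1255
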