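import Cfsg.Statements.S1256
import Mathlib
import Cfsg.Agent.Lib.Helper53.DihSyl3
import Cfsg.Agent.Lib.Helper17.KleinD4

set_option autoImplicit false
open Cfsg

namespace Cfsg.Agent.S1256

open Cfsg.Agent.Helper53.Soft Cfsg.Agent.Helper53.DihSyl Cfsg.Agent.Helper19

variable {X : Type*} [Group X]

/-- dihedral data from an isomorphism with a dihedral group -/
theorem dd_of_equiv (D : Subgroup X) (n : ℕ) (e : D ≃* DihedralGroup n) :
    DD D ((e.symm (DihedralGroup.r 1) : D) : X) ((e.symm (DihedralGroup.sr 0) : D) : X) := by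
  set a : D := e.symm (DihedralGroup.r 1) with ha
  have hchar : ∀ x : D, (x : X) ∈ Subgroup.zpowers (a : X) ↔ ∃ i, e x = DihedralGroup.r i := by
    intro x
    constructor
    · intro hx
      obtain ⟨k, hk⟩ := Subgroup.mem_zpowers_iff.mp hx
      have hx' : x = a ^ k := by
        apply Subtype.ext
        rw [← hk]; simp
      refine ⟨(k : ZMod n), ?_⟩
      rw [hx', map_zpow, ha, MulEquiv.apply_symm_apply, DihedralGroup.r_one_zpow]
    · rintro ⟨i, hi⟩
      have hx' : x = e.symm (DihedralGroup.r i) := by rw [← hi, MulEquiv.symm_apply_apply]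
      obtain ⟨k, hk⟩ : ∃ k : ℤ, (k : ZMod n) = i := ⟨i.cast, by simp⟩
      have : x = a ^ k := by
        rw [hx', ha, ← map_zpow, DihedralGroup.r_one_zpow, hk]
      rw [this]
      have : ((a ^ k : D) : X) = (a : X) ^ k := by simp
      rw [this]
      exact Subgroup.zpow_mem_zpowers _ k
  have hnot : ∀ x : D, (x : X) ∉ Subgroup.zpowers (a : X) → ∃ i, e x = DihedralGroup.sr i := by
    intro x hx
    rcases h : e x with i | i
    · exact absurd ((hchar x).mpr ⟨i, h⟩) hx
    · exact ⟨i, rfl⟩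
  refine ⟨a.2, (e.symm (DihedralGroup.sr 0)).2, ?_, ?_, ?_⟩
  · intro hh
    obtain ⟨i, hi⟩ := (hchar _).mp hh
    rw [MulEquiv.apply_symm_apply] at hi
    cases hi
  · intro x hx hxR
    obtain ⟨i, hi⟩ := hnot ⟨x, hx⟩ hxR
    have h1 : e (⟨x, hx⟩ * ⟨x, hx⟩) = 1 := by
      rw [map_mul, hi, DihedralGroup.sr_mul_sr, sub_self]; rfl
    have h2 : (⟨x, hx⟩ * ⟨x, hx⟩ : D) = 1 := by
      have := congrArg e.symm h1
      simpa using this
    have := congrArg Subtype.val h2
    simpa using this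
  · intro x hx y hy hxR hyR
    obtain ⟨i, hi⟩ := hnot ⟨x, hx⟩ hxR
    obtain ⟨j, hj⟩ := hnot ⟨y, hy⟩ hyR
    have := (hchar (⟨x, hx⟩ * ⟨y, hy⟩)).mpr ⟨j - i, by
      rw [map_mul, hi, hj, DihedralGroup.sr_mul_sr]⟩
    simpa using this

theorem orderOf_a (D : Subgroup X) (n : ℕ) (e : D ≃* DihedralGroup n) :
    orderOf ((e.symm (DihedralGroup.r 1) : D) : X) = n := by
  rw [Subgroup.orderOf_coe, MulEquiv.orderOf_eq, DihedralGroup.orderOf_r_one]

theorem map_conj_eq_cj (x : X) (U : Subgroup X) : U.map (MulAut.conj x).toMonoidHom = cj x U := rfl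

/-- Let X be a finite group whose Sylow 2-subgroup S is dihedral of order 2m ≥ 4. If |S| = 4, any two Klein four-subgroups of X are conjugate; if |S| > 4, there are Klein four-subgroups U₁, U₂ of X that are not conjugate, and every Klein four-subgroup of X is conjugate to U₁ or to U₂. -/
theorem result {X : Type*} [Group X] [Finite X] (S : Sylow 2 X) (m : ℕ) (hm : 2 ≤ m) (eS : (S : Subgroup X) ≃* DihedralGroup m) : (Nat.card S = 4 → ∀ U V : Subgroup X, IsKleinFour U → IsKleinFour V → (∃ x : X, U.map (MulAut.conj x).toMonoidHom = V)) ∧ (4 < Nat.card S → ∃ U₁ U₂ : Subgroup X, IsKleinFour U₁ ∧ IsKleinFour U₂ ∧ ¬ (∃ x : X, U₁.map (MulAut.conj x).toMonoidHom = U₂) ∧ ∀ V : Subgroup X, IsKleinFour V → (∃ x : X, V.map (MulAut.conj x).toMonoidHom = U₁) ∨ (∃ x : X, V.map (MulAut.conj x).toMonoidHom = U₂)) := by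
  have hm0 : NeZero m := ⟨by omega⟩
  have hcardS : Nat.card (S : Subgroup X) = 2 * m := by
    rw [Nat.card_congr eS.toEquiv, DihedralGroup.nat_card]
  constructor
  · -- order 4
    intro h4 U V hU hV
    have h4' : Nat.card (S : Subgroup X) = 4 := h4
    obtain ⟨hU4, _⟩ := (Cfsg.Agent.Helper17.isKleinFour_subgroup_iff U).mp hU
    obtain ⟨hV4, _⟩ := (Cfsg.Agent.Helper17.isKleinFour_subgroup_iff V).mp hV
    have hUp : IsPGroup 2 U := IsPGroup.of_card (n := 2) (by rw [hU4]; norm_num)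
    have hVp : IsPGroup 2 V := IsPGroup.of_card (n := 2) (by rw [hV4]; norm_num)
    obtain ⟨g₁, hg₁⟩ := exists_cj_le_sylow S hUp
    obtain ⟨g₂, hg₂⟩ := exists_cj_le_sylow S hVp
    have e₁ : cj g₁ U = (S : Subgroup X) :=
      Subgroup.eq_of_le_of_card_ge hg₁ (by rw [card_cj, hU4, h4'])
    have e₂ : cj g₂ V = (S : Subgroup X) :=
      Subgroup.eq_of_le_of_card_ge hg₂ (by rw [card_cj, hV4, h4'])
    refine ⟨g₂⁻¹ * g₁, ?_⟩
    rw [map_conj_eq_cj, cj_mul, e₁, ← e₂, cj_inv_cj]
  · -- order > 4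
    intro h4
    have h4' : 4 < Nat.card (S : Subgroup X) := h4
    have hm3 : 3 ≤ m := by omega
    -- m is even
    obtain ⟨k, hk⟩ := IsPGroup.iff_card.mp S.2
    have hk' : 2 * m = 2 ^ k := by rw [← hcardS]; exact hk
    have hk3 : 3 ≤ k := by
      by_contra hlt
      push Not at hlt
      have : 2 ^ k ≤ 2 ^ 2 := Nat.pow_le_pow_right (by norm_num) (by omega)
      omega
    obtain ⟨m', hm'⟩ : ∃ m', m = 2 * m' := by
      refine ⟨2 ^ (k - 2), ?_⟩
      have : 2 ^ k = 2 * (2 * 2 ^ (k - 2)) := by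
        rw [← pow_succ', ← pow_succ']; congr 1; omega
      omega
    have hm'pos : 0 < m' := by omega
    set a : X := ((eS.symm (DihedralGroup.r 1) : (S : Subgroup X)) : X) with ha
    set t : X := ((eS.symm (DihedralGroup.sr 0) : (S : Subgroup X)) : X) with ht
    have hdd : DD (S : Subgroup X) a t := dd_of_equiv (S : Subgroup X) m eS
    have hdih := Cfsg.Agent.Helper34.Dih.dihLike_of_equiv (S : Subgroup X) m eS
    have hord : orderOf a = m := orderOf_a (S : Subgroup X) m eS
    have haa : a * a ≠ 1 := by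
      rw [← pow_two]
      apply pow_ne_one_of_lt_orderOf (by norm_num)
      rw [hord]; omega
    set z : X := a ^ m' with hz
    have hzR : z ∈ Subgroup.zpowers a := Subgroup.npow_mem_zpowers a m'
    have hzz : z * z = 1 := by
      rw [hz, ← pow_add, ← two_mul, ← hm', ← hord, pow_orderOf_eq_one]
    have hz1 : z ≠ 1 := by
      apply pow_ne_one_of_lt_orderOf hm'pos.ne'
      rw [hord]; omega
    have htt : t * t = 1 := hdd.sq t hdd.ht hdd.htR
    have ht1 : t ≠ 1 := fun e => hdd.htR (e ▸ (Subgroup.zpowers a).one_mem)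
    have hzt : z ≠ t := fun e => hdd.htR (e ▸ hzR)
    have hat2 : a * t * (a * t) = 1 := hdd.sq _ hdd.at_mem hdd.at_not_mem
    have hat1 : a * t ≠ 1 := fun e => hdd.at_not_mem (e ▸ (Subgroup.zpowers a).one_mem)
    have hzat : z ≠ a * t := fun e => hdd.at_not_mem (e ▸ hzR)
    set U₁ := kleinFour z t hzz htt (hdd.comm_invol hdd.ht hdd.htR hzR hzz) with hU₁
    set U₂ := kleinFour z (a * t) hzz hat2 (hdd.comm_invol hdd.at_mem hdd.at_not_mem hzR hzz)
      with hU₂
    have hcardle : ∀ (x y : X) (hx : x * x = 1) (hy : y * y = 1) (hxy : x * y = y * x),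
        Nat.card (kleinFour x y hx hy hxy) ≤ 4 := by
      classical
      intro x y hx hy hxy
      have hsub : ((kleinFour x y hx hy hxy : Subgroup X) : Set X)
          ⊆ (({1, x, y, x * y} : Finset X) : Set X) := by
        intro g hg
        have := mem_kleinFour.mp hg
        simpa using this
      have h1 : Nat.card (kleinFour x y hx hy hxy) = ((kleinFour x y hx hy hxy : Subgroup X) : Set X).ncard :=
        (Nat.card_coe_set_eq _)
      have h2 := Set.ncard_le_ncard hsub (Finset.finite_toSet _)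
      rw [Set.ncard_coe_finset] at h2
      have h3 : ({1, x, y, x * y} : Finset X).card ≤ 4 := Finset.card_le_four
      omega
    have hK₁ : IsKleinFour U₁ := by
      rw [Cfsg.Agent.Helper17.isKleinFour_subgroup_iff]
      refine ⟨?_, ?_⟩
      · have h1 := kleinFour_card hzz htt (hdd.comm_invol hdd.ht hdd.htR hzR hzz) hz1 ht1 hzt
        have h2 := hcardle z t hzz htt (hdd.comm_invol hdd.ht hdd.htR hzR hzz)
        rw [hU₁]; omega
      · intro x hx
        have := kleinFour_sq hzz htt (hdd.comm_invol hdd.ht hdd.htR hzR hzz) x hx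
        rwa [pow_two] at this
    have hK₂ : IsKleinFour U₂ := by
      rw [Cfsg.Agent.Helper17.isKleinFour_subgroup_iff]
      refine ⟨?_, ?_⟩
      · have h1 := kleinFour_card hzz hat2 (hdd.comm_invol hdd.at_mem hdd.at_not_mem hzR hzz)
          hz1 hat1 hzat
        have h2 := hcardle z (a * t) hzz hat2 (hdd.comm_invol hdd.at_mem hdd.at_not_mem hzR hzz)
        rw [hU₂]; omega
      · intro x hx
        have := kleinFour_sq hzz hat2 (hdd.comm_invol hdd.at_mem hdd.at_not_mem hzR hzz) x hx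
        rwa [pow_two] at this
    refine ⟨U₁, U₂, hK₁, hK₂, ?_, ?_⟩
    · -- not conjugate
      rintro ⟨x, hx⟩
      rw [map_conj_eq_cj] at hx
      have hU₁S : U₁ ≤ (S : Subgroup X) := by
        intro g hg
        rcases mem_kleinFour.mp hg with e | e | e | e
        · rw [e]; exact (S : Subgroup X).one_mem
        · rw [e]; exact hdd.zpowers_le hzR
        · rw [e]; exact hdd.ht
        · rw [e]; exact (S : Subgroup X).mul_mem (hdd.zpowers_le hzR) hdd.ht
      have hU₂S : U₂ ≤ (S : Subgroup X) := by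
        intro g hg
        rcases mem_kleinFour.mp hg with e | e | e | e
        · rw [e]; exact (S : Subgroup X).one_mem
        · rw [e]; exact hdd.zpowers_le hzR
        · rw [e]; exact hdd.at_mem
        · rw [e]; exact (S : Subgroup X).mul_mem (hdd.zpowers_le hzR) hdd.at_mem
      have hzU₁ : z ∈ U₁ := mem_kleinFour.mpr (Or.inr (Or.inl rfl))
      have htU₁ : t ∈ U₁ := mem_kleinFour.mpr (Or.inr (Or.inr (Or.inl rfl)))
      have hatU₂ : a * t ∈ U₂ := mem_kleinFour.mpr (Or.inr (Or.inr (Or.inl rfl)))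
      have hne : U₁ ≠ (S : Subgroup X) := by
        intro e
        have h1 : Nat.card U₁ = 4 := ((Cfsg.Agent.Helper17.isKleinFour_subgroup_iff U₁).mp hK₁).1
        rw [e] at h1
        omega
      exact no_fusion S hdd hdih haa hzR hzz hz1 (Nat.card (S : Subgroup X)) U₁ U₂ hU₁S hU₂S
        hzU₁ htU₁ hatU₂ hne (Nat.sub_le _ _) ⟨x, hx⟩
    · -- classification
      intro V hV
      obtain ⟨hV4, hVsq⟩ := (Cfsg.Agent.Helper17.isKleinFour_subgroup_iff V).mp hV
      obtain ⟨g, hg | hg⟩ := klein_conj S hdd hzR hzz hz1 V hV4 hVsq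
      · exact Or.inl ⟨g, by rw [map_conj_eq_cj]; exact hg⟩
      · exact Or.inr ⟨g, by rw [map_conj_eq_cj]; exact hg⟩

end Cfsg.Agent.S1256
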