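import Cfsg.Statements.S1258
import Cfsg.Agent.Lib.Helper21.Quasisimple

set_option autoImplicit false
open Cfsg

namespace Cfsg.Agent.S1258

open Subgroup

/-- If the central quotient of a finite group X is non-abelian simple, then X = X' Z(X) and the commutator subgroup X' is quasisimple. -/
theorem result {X : Type*} [Group X] [Finite X] (hs : IsSimpleGroup (X ⧸ Subgroup.center X)) (hna : ¬ IsMulCommutative (X ⧸ Subgroup.center X)) : commutator X ⊔ Subgroup.center X = ⊤ ∧ Cfsg.IsQuasisimple ↥(commutator X) := by
  set Z := center X with hZ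
  set π := QuotientGroup.mk' Z with hπ
  set D := commutator X with hD
  -- (1)
  have h1 : D.map π = ⊤ := by
    have hn : (D.map π).Normal :=
      Subgroup.Normal.map inferInstance _ (QuotientGroup.mk'_surjective _)
    rcases hn.eq_bot_or_eq_top with h0 | h0
    · exfalso
      apply hna
      rw [← commutator_eq_bot_iff]
      have := map_commutator_eq (G := X) π
      rw [MonoidHom.range_eq_top_of_surjective π (QuotientGroup.mk'_surjective _)] at this
      rw [_root_.commutator_def, ← this]
      exact h0
    · exact h0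
  have h2 : D ⊔ Z = ⊤ := by
    have := congrArg (Subgroup.comap π) h1
    rw [Subgroup.comap_map_eq, QuotientGroup.ker_mk', Subgroup.comap_top] at this
    exact this
  refine ⟨h2, ?_⟩
  -- (2) perfect
  have h3 : ⁅D, D⁆ = D :=
    le_antisymm (Subgroup.commutator_le_self D)
      (Cfsg.Agent.Helper21.commutator_le_of_sup_center_eq_top D h2)
  have hperf : Group.IsPerfect ↥D := Subgroup.isPerfect_iff.2 h3
  refine ⟨hperf, ?_⟩
  -- (3) the quotient by the centre
  let φ : ↥D →* X ⧸ Z := π.comp D.subtype
  have hφ : Function.Surjective φ := by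
    intro y
    obtain ⟨x, rfl⟩ := QuotientGroup.mk'_surjective Z y
    have hx : x ∈ D ⊔ Z := h2 ▸ mem_top x
    obtain ⟨d, hd, z, hz, rfl⟩ := Subgroup.mem_sup_of_normal_right.1 hx
    refine ⟨⟨d, hd⟩, ?_⟩
    show π d = π (d * z)
    have hz1 : π z = 1 := by
      rw [hπ, QuotientGroup.mk'_apply, QuotientGroup.eq_one_iff]; exact hz
    rw [map_mul, hz1, mul_one]
  have hker : φ.ker = center ↥D := by
    ext d
    rw [MonoidHom.mem_ker, Subgroup.mem_center_iff]
    show π (d : X) = 1 ↔ _
    rw [hπ, QuotientGroup.mk'_apply, QuotientGroup.eq_one_iff, hZ, Subgroup.mem_center_iff]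
    constructor
    · intro h g
      exact Subtype.ext (h g)
    · intro h x
      have hx : x ∈ D ⊔ Z := h2 ▸ mem_top x
      obtain ⟨d', hd', z, hz, rfl⟩ := Subgroup.mem_sup_of_normal_right.1 hx
      have e1 : d' * (d : X) = (d : X) * d' := congrArg Subtype.val (h ⟨d', hd'⟩)
      rw [hZ, Subgroup.mem_center_iff] at hz
      calc d' * z * (d : X) = d' * (z * (d : X)) := by group
        _ = d' * ((d : X) * z) := by rw [← hz (d : X)]
        _ = (d' * (d : X)) * z := by group
        _ = ((d : X) * d') * z := by rw [e1]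
        _ = (d : X) * (d' * z) := by group
  have e : ↥D ⧸ center ↥D ≃* X ⧸ Z :=
    (QuotientGroup.quotientMulEquivOfEq hker.symm).trans
      (QuotientGroup.quotientKerEquivOfSurjective φ hφ)
  exact e.isSimpleGroup_congr.2 hs

end Cfsg.Agent.S1258
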