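import Cfsg.Statements.S1264
import Cfsg.Agent.Lib.Helper21.FStar

set_option autoImplicit false
open Cfsg

namespace Cfsg.Agent.S1264

open Cfsg.Agent.Helper21

/-- Let G be finite, C = C_G(F(G)) the centralizer of the Fitting subgroup, and N a solvable subgroup of C normalized by C. Then N ≤ Z(F(G)). -/
theorem result {G : Type*} [Group G] [Finite G] (N : Subgroup G) (hN : N ≤ Subgroup.centralizer (Cfsg.fittingSubgroup G : Set G)) (hnorm : Subgroup.centralizer (Cfsg.fittingSubgroup G : Set G) ≤ Subgroup.normalizer (N : Set G)) (hsolv : Group.IsSolvable ↥N) : N ≤ (Subgroup.center ↥(Cfsg.fittingSubgroup G)).map (Cfsg.fittingSubgroup G).subtype := by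
  intro x hx
  have h := solvable_le_fitting_of_le_centralizer N hN hnorm hsolv hx
  obtain ⟨h1, h2⟩ := Subgroup.mem_inf.1 h
  show x ∈ zOf (Cfsg.fittingSubgroup G)
  rw [mem_zOf]
  exact ⟨h2, fun y hy => Subgroup.mem_centralizer_iff.1 h1 y hy⟩

end Cfsg.Agent.S1264
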