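import Cfsg.Statements.S1272
import Cfsg.Agent.Lib.Helper21.PGen

set_option autoImplicit false
open Cfsg

namespace Cfsg.Agent.S1272

open Cfsg.Agent.Helper21

/-- Let X be finite and Q = X / O_{p'}(X). For every component Kbar of Q there is a unique p-component K of X whose image in Q is Kbar; and the image of the p-layer L_{p'}(X) in Q is E(Q). -/
theorem result {X : Type*} [Group X] [Finite X] (p : ℕ) [Fact p.Prime] : (∀ Kbar : Subgroup (X ⧸ Cfsg.pPrimeCore p X), Cfsg.IsComponent Kbar → ∃! K : Subgroup X, Cfsg.IsPComponent p K ∧ K.map (QuotientGroup.mk' (Cfsg.pPrimeCore p X)) = Kbar) ∧ (Cfsg.pLayer p X).map (QuotientGroup.mk' (Cfsg.pPrimeCore p X)) = Cfsg.layer (X ⧸ Cfsg.pPrimeCore p X) := by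
  have hex : ∀ Kbar : Subgroup (X ⧸ Cfsg.pPrimeCore p X), Cfsg.IsComponent Kbar →
      ∃! K : Subgroup X, Cfsg.IsPComponent p K ∧
        K.map (QuotientGroup.mk' (Cfsg.pPrimeCore p X)) = Kbar := by
    intro Kbar hK
    refine ⟨pGen p (Kbar.comap (QuotientGroup.mk' (Cfsg.pPrimeCore p X))),
      ⟨isPComponent_pGen_comap p Kbar hK, map_pGen_comap_eq p Kbar hK⟩, ?_⟩
    rintro K ⟨hKp, hKmap⟩
    rw [pComponent_eq_pGen p hKp, hKmap]
  refine ⟨hex, ?_⟩
  apply le_antisymm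
  · unfold Cfsg.pLayer
    rw [Subgroup.map_le_iff_le_comap]
    apply sSup_le
    intro K hK
    rw [← Subgroup.map_le_iff_le_comap]
    exact le_sSup hK.2.1
  · unfold Cfsg.layer
    apply sSup_le
    intro Kbar hK
    obtain ⟨K, ⟨hKp, hKmap⟩, -⟩ := hex Kbar hK
    rw [← hKmap]
    exact Subgroup.map_mono (le_sSup hKp)

end Cfsg.Agent.S1272
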