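import Cfsg.Statements.S1273
import Cfsg.Agent.Lib.Helper34.Components2

set_option autoImplicit false
open Cfsg

namespace Cfsg.Agent.S1273

/-- Let K be a p-component of the finite group X and N a normal subgroup of K whose index in K is prime to p. Then N = K. -/
theorem result {X : Type*} [Group X] [Finite X] (p : ℕ) [Fact p.Prime] (K : Subgroup X) (hK : Cfsg.IsPComponent p K) (N : Subgroup ↥K) [N.Normal] (hidx : (N.index).Coprime p) : N = ⊤ := by
  classical
  set O := Cfsg.pPrimeCore p X with hO
  set π := QuotientGroup.mk' O with hπ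
  set N' : Subgroup X := N.map K.subtype with hN'
  have hN'K : N' ≤ K := Subgroup.map_subtype_le N
  have hsub : N'.IsSubnormal := (Subgroup.Normal.isSubnormal inferInstance).trans' hK.1
  have hnorm : K ≤ Subgroup.normalizer (N' : Set X) := by
    have h := Subgroup.le_normalizer_map (H := N) K.subtype
    rw [Subgroup.normalizer_eq_top, ← MonoidHom.range_eq_map, Subgroup.range_subtype] at h
    exact h
  have hrel : N'.relIndex K = N.index := by
    unfold Subgroup.relIndex Subgroup.subgroupOf
    rw [hN', Subgroup.comap_map_eq_self_of_injective K.subtype_injective]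
  have h1 : K.map π ≤ N'.map π := by
    apply Cfsg.Agent.Helper34.IsPComponent.le_of_normal_of_coprime_relIndex hK
    · exact (Subgroup.map_mono hnorm).trans (Subgroup.le_normalizer_map π)
    · have := Cfsg.Agent.Helper34.relIndex_map_dvd π hN'K
      rw [hrel] at this
      exact Nat.Coprime.coprime_dvd_left this hidx
  have h2 : N' = K := hK.2.2 N' hsub hN'K (le_antisymm (Subgroup.map_mono hN'K) h1)
  rw [eq_top_iff]
  intro k _
  have hkN : (k : X) ∈ N' := by rw [h2]; exact k.2
  obtain ⟨k', hk', hkk'⟩ := hkN
  have hk'k : k' = k := Subtype.ext hkk'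
  rw [← hk'k]; exact hk'

end Cfsg.Agent.S1273
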