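import Cfsg.Statements.S1276
import Cfsg.Agent.Lib.Helper34.Components2

set_option autoImplicit false
open Cfsg

namespace Cfsg.Agent.S1276

open Cfsg.Agent.Helper34

/-- Let K be a 2-component of the finite group X. Then K is quasisimple if and only if ⁅K, O(K)⁆ = 1. -/
theorem result {X : Type*} [Group X] [Finite X] (K : Subgroup X) (hK : Cfsg.IsPComponent 2 K) : Cfsg.IsQuasisimple ↥K ↔ ⁅K, ((Cfsg.oddCore ↥K).map K.subtype)⁆ = ⊥ := by
  have hcore : ((Cfsg.oddCore ↥K).map K.subtype) = K ⊓ Cfsg.pPrimeCore 2 X :=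
    IsSubnormal.coreIn_eq_inf 2 hK.1
  constructor
  · intro hq
    -- `O(K)` is a normal subgroup of the quasisimple group `K`
    rcases normal_eq_top_or_le_center hq (Cfsg.oddCore ↥K) with h | h
    · exfalso
      have h1 : K ≤ Cfsg.pPrimeCore 2 X := by
        have h2 : ((Cfsg.oddCore ↥K).map K.subtype) = K := by
          rw [h, ← MonoidHom.range_eq_map, Subgroup.range_subtype]
        rw [hcore] at h2
        exact inf_eq_left.mp h2
      have hbot : K.map (QuotientGroup.mk' (Cfsg.pPrimeCore 2 X)) = ⊥ := by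
        rw [Subgroup.map_eq_bot_iff, QuotientGroup.ker_mk']
        exact h1
      have hnt := IsQuasisimple_nontrivial hK.2.1.2
      rw [hbot] at hnt
      exact not_subsingleton _ (inferInstance : Subsingleton (⊥ : Subgroup (X ⧸ Cfsg.pPrimeCore 2 X)))
    · rw [Subgroup.commutator_eq_bot_iff_le_centralizer]
      rintro k hk _ ⟨z, hz, rfl⟩
      have := Subgroup.mem_center_iff.mp (h hz) ⟨k, hk⟩
      exact (congrArg Subtype.val this).symm
  · intro hc
    rw [hcore] at hc
    exact IsPComponent.isQuasisimple_of_commutator_inf_eq_bot hK hc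

end Cfsg.Agent.S1276
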