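import Cfsg.Statements.S1278
import Cfsg.Agent.Lib.Helper21.PGen

set_option autoImplicit false
open Cfsg

namespace Cfsg.Agent.S1278

open Cfsg.Agent.Helper21 Subgroup

theorem map_oddCore_eq {X : Type*} [Group X] [Finite X] (K : Subgroup X) (hK : K.IsSubnormal) :
    (Cfsg.oddCore ↥K).map K.subtype = Cfsg.pPrimeCore 2 X ⊓ K := by
  show (Cfsg.pPrimeCore 2 ↥K).map K.subtype = _
  rw [← subgroupOf_pPrimeCore_eq 2 hK, Subgroup.subgroupOf_map_subtype]

/-- Let K ≠ L be 2-components of the finite group X. Then ⁅K, L⁆ ≤ O(K) ⊓ O(L), and if K is quasisimple then ⁅K, L⁆ = 1. -/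
theorem result {X : Type*} [Group X] [Finite X] (K L : Subgroup X) (hK : Cfsg.IsPComponent 2 K) (hL : Cfsg.IsPComponent 2 L) (hne : K ≠ L) : ⁅K, L⁆ ≤ ((Cfsg.oddCore ↥K).map K.subtype) ⊓ ((Cfsg.oddCore ↥L).map L.subtype) ∧ (Cfsg.IsQuasisimple ↥K → ⁅K, L⁆ = ⊥) := by
  have : Fact (Nat.Prime 2) := ⟨Nat.prime_two⟩
  set π := QuotientGroup.mk' (Cfsg.pPrimeCore 2 X) with hπ
  have hbarne : K.map π ≠ L.map π := fun h => hne (pComponent_eq_of_map_eq 2 hK hL h)
  have hbar : ⁅K.map π, L.map π⁆ = ⊥ :=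
    component_commutator_eq_bot_of_ne _ _ hK.2.1 hL.2.1 hbarne
  have h1 : ⁅K, L⁆ ≤ Cfsg.pPrimeCore 2 X := by
    rw [← QuotientGroup.ker_mk' (Cfsg.pPrimeCore 2 X), ← Subgroup.map_eq_bot_iff,
      Subgroup.map_commutator]
    exact hbar
  have h2 : ⁅K, L⁆ ≤ K :=
    le_normalizer_iff_commutator_le_left.1 (pComponent_le_normalizer_pComponent 2 hK hL)
  have h3 : ⁅K, L⁆ ≤ L := by
    rw [commutator_comm]
    exact le_normalizer_iff_commutator_le_left.1 (pComponent_le_normalizer_pComponent 2 hL hK)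
  refine ⟨?_, ?_⟩
  · rw [map_oddCore_eq K hK.1, map_oddCore_eq L hL.1]
    exact le_inf (le_inf h1 h2) (le_inf h1 h3)
  · intro hq
    have hKc : Cfsg.IsComponent K := ⟨hK.1, hq⟩
    rcases component_le_or_commutator_eq_bot K L hKc hL.1 with h | h
    · exfalso
      apply component_not_le_of_commutative _ hK.2.1
      exact le_bot_iff.1 ((commutator_mono le_rfl (Subgroup.map_mono h)).trans hbar.le)
    · exact h

end Cfsg.Agent.S1278
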