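import Cfsg.Statements.S1279
import Cfsg.Agent.Lib.Helper29.Balance

set_option autoImplicit false
open Cfsg

namespace Cfsg.Agent.S1279

open Cfsg.Agent.Helper29

/-- If A is a noncyclic elementary abelian p-subgroup of a finite group G and C_G(a) is solvable for every nontrivial a in A, then a ↦ O_{p'}(C_G(a)) is a solvable A-signalizer functor. -/
theorem result {G : Type*} [Group G] [Finite G] (p : ℕ) [Fact p.Prime] (A : Subgroup G) (hA : Cfsg.IsElementaryAbelian p A) (hA2 : p ^ 2 ≤ Nat.card ↥A) (hsolv : ∀ a ∈ A, a ≠ 1 → Group.IsSolvable ↥(Subgroup.centralizer ({a} : Set G))) : Cfsg.IsSolvableSignalizerFunctor p A (fun a => Cfsg.centralizerPPrimeCore p a) := by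
  obtain ⟨hcomm, hAp⟩ := hA
  have hAc : ∀ x ∈ A, ∀ y ∈ A, x * y = y * x := by
    intro x hx y hy
    have := mul_comm' (⟨x, hx⟩ : A) ⟨y, hy⟩
    exact congrArg Subtype.val this
  refine ⟨⟨?_, ?_, ?_, ?_⟩, ?_⟩
  · intro a _ _
    exact centralizerPPrimeCore_le p a
  · intro a _ _
    have := card_centralizerPPrimeCore_coprime (G := G) p a
    exact (Nat.Prime.coprime_iff_not_dvd Fact.out).mp this.symm
  · intro a ha _ b hb x hx
    apply conj_mem_centralizerPPrimeCore p _ hx
    rw [Subgroup.mem_centralizer_singleton_iff]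
    exact hAc b hb a ha
  · intro a ha _ b hb hb1
    haveI := hsolv b hb hb1
    exact centralizerPPrimeCore_inf_le (hAc a ha b hb) (hAp a ha)
      (isPConstrained_of_isSolvable p)
  · intro a ha ha1
    haveI := hsolv a ha ha1
    exact isSolvable_centralizerPPrimeCore p a

end Cfsg.Agent.S1279
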