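import Cfsg.Statements.S1281
import Cfsg.Agent.Lib.Helper34.Cover

set_option autoImplicit false
open Cfsg

namespace Cfsg.Agent.S1281

/-- Let θ be a solvable A-signalizer functor on the finite group G (A a noncyclic elementary abelian p-subgroup) and N a normal subgroup of order prime to p. Then for all non-identity a, b ∈ A, the image of θ a in G / N meets the centralizer of the image of b inside the image of θ b. -/
theorem result {G : Type*} [Group G] [Finite G] (p : ℕ) [Fact p.Prime] (A : Subgroup G) (hA : Cfsg.IsElementaryAbelian p A) (hA2 : p ^ 2 ≤ Nat.card ↥A) (θ : G → Subgroup G) (hθ : Cfsg.IsSolvableSignalizerFunctor p A θ) (N : Subgroup G) [N.Normal] (hN : ¬ p ∣ Nat.card ↥N) (a b : G) (ha : a ∈ A) (ha1 : a ≠ 1) (hb : b ∈ A) (hb1 : b ≠ 1) : (θ a).map (QuotientGroup.mk' N) ⊓ Subgroup.centralizer {QuotientGroup.mk' N b} ≤ (θ b).map (QuotientGroup.mk' N) := by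
  obtain ⟨⟨hcent, hcard, hinv, hbal⟩, hsolv⟩ := hθ
  rintro _ ⟨⟨x, hx, rfl⟩, hxc'⟩
  set π := QuotientGroup.mk' N with hπ
  have hxc : π x * π b = π b * π x := Subgroup.mem_centralizer_singleton_iff.1 hxc'
  -- O = θ a ⊓ N
  set O : Subgroup G := θ a ⊓ N with hO
  have hOcard : ¬ p ∣ Nat.card O := fun h => hN (h.trans (Subgroup.card_dvd_of_le inf_le_right))
  have hbp : b ^ p ^ 1 = 1 := by rw [pow_one]; exact hA.2 b hb
  have hbinv : b⁻¹ ∈ A := A.inv_mem hb
  have hbO : b ∈ Subgroup.normalizer (O : Set G) := by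
    rw [Subgroup.mem_normalizer_iff]
    intro o
    constructor
    · intro h
      obtain ⟨h1, h2⟩ := Subgroup.mem_inf.1 h
      exact Subgroup.mem_inf.2
        ⟨hinv a ha ha1 b hb o h1, Subgroup.Normal.conj_mem inferInstance o h2 b⟩
    · intro h
      obtain ⟨h1, h2⟩ := Subgroup.mem_inf.1 h
      have e : o = b⁻¹ * (b * o * b⁻¹) * b⁻¹⁻¹ := by group
      rw [e]
      exact Subgroup.mem_inf.2
        ⟨hinv a ha ha1 b⁻¹ hbinv _ h1, Subgroup.Normal.conj_mem inferInstance _ h2 b⁻¹⟩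
  have hk : x⁻¹ * b * x * b⁻¹ ∈ O := by
    have hk1 : x⁻¹ * b * x * b⁻¹ ∈ θ a := by
      have : x⁻¹ * b * x * b⁻¹ = x⁻¹ * (b * x * b⁻¹) := by group
      rw [this]
      exact (θ a).mul_mem ((θ a).inv_mem hx) (hinv a ha ha1 b hb x hx)
    have hk2 : x⁻¹ * b * x * b⁻¹ ∈ N := by
      rw [← QuotientGroup.ker_mk' N, MonoidHom.mem_ker]
      simp only [map_mul, map_inv]
      rw [← hπ, mul_assoc (π x)⁻¹, ← hxc]
      group
    exact Subgroup.mem_inf.2 ⟨hk1, hk2⟩
  obtain ⟨o, ho, hfix⟩ := Cfsg.Agent.Helper34.exists_fixed_in_coset O hOcard hbp hbO hk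
  have hxo : x * o ∈ θ b := by
    apply hbal a ha ha1 b hb hb1
    refine Subgroup.mem_inf.2 ⟨(θ a).mul_mem hx (Subgroup.mem_inf.1 ho).1, ?_⟩
    rw [Subgroup.mem_centralizer_singleton_iff]
    have : b * (x * o) = (b * (x * o) * b⁻¹) * b := by group
    rw [this, hfix]
  refine ⟨x * o, hxo, ?_⟩
  have ho1 : π o = 1 := by
    rw [hπ, QuotientGroup.mk'_apply, QuotientGroup.eq_one_iff]; exact (Subgroup.mem_inf.1 ho).2
  rw [map_mul, ho1, mul_one]

end Cfsg.Agent.S1281
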