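import Cfsg.Statements.S1286

set_option autoImplicit false
open Cfsg

namespace Cfsg.Agent.S1286

/-- the ambient group `S₅` -/
abbrev S5 := Equiv.Perm (Fin 5)

/-- the involution `(0 1)` -/
def a : S5 := Equiv.swap 0 1
/-- the involution `(2 3)` -/
def b : S5 := Equiv.swap 2 3
/-- a 3-cycle on `{2,3,4}` -/
def x : S5 := Equiv.swap 2 3 * Equiv.swap 3 4
/-- a 3-cycle on `{0,1,4}` -/
def y : S5 := Equiv.swap 0 1 * Equiv.swap 1 4

/-- the four-group -/
def A : Subgroup S5 where
  carrier := {g | g = 1 ∨ g = a ∨ g = b ∨ g = a * b}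
  mul_mem' := by
    rintro _ _ (rfl | rfl | rfl | rfl) (rfl | rfl | rfl | rfl) <;> decide
  one_mem' := Or.inl rfl
  inv_mem' := by
    rintro _ (rfl | rfl | rfl | rfl) <;> decide

theorem mem_A {g : S5} : g ∈ A ↔ g = 1 ∨ g = a ∨ g = b ∨ g = a * b := Iff.rfl

instance : DecidablePred (· ∈ A) := fun g =>
  decidable_of_iff (g = 1 ∨ g = a ∨ g = b ∨ g = a * b) Iff.rfl

theorem card_A : Nat.card ↥A = 4 := by
  rw [Nat.card_eq_fintype_card, Fintype.card_subtype]
  decide +kernel

theorem mem3 {z : S5} (hz : z ^ 3 = 1) {u : S5} (hu : u ∈ Subgroup.zpowers z) :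
    u = 1 ∨ u = z ∨ u = z ^ 2 := by
  obtain ⟨k, rfl⟩ := hu
  have hz' : z ^ (3 : ℤ) = 1 := by
    rw [show (3 : ℤ) = ((3 : ℕ) : ℤ) from rfl, zpow_natCast, hz]
  have h1 := zpow_eq_zpow_emod k hz'
  have h2 : 0 ≤ k % 3 := Int.emod_nonneg k (by norm_num)
  have h3 : k % 3 < 3 := Int.emod_lt_of_pos k (by norm_num)
  have h4 : k % 3 = 0 ∨ k % 3 = 1 ∨ k % 3 = 2 := by omega
  rcases h4 with h | h | h
  · left; change z ^ k = 1; rw [h1, h, zpow_zero]
  · right; left; change z ^ k = z; rw [h1, h, zpow_one]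
  · right; right; change z ^ k = z ^ 2
    rw [h1, h, show (2 : ℤ) = ((2 : ℕ) : ℤ) from rfl, zpow_natCast]

theorem x_pow : x ^ 3 = 1 := by decide
theorem y_pow : y ^ 3 = 1 := by decide
theorem x_ne : x ≠ 1 := by decide
theorem y_ne : y ≠ 1 := by decide

theorem orderOf_x : orderOf x = 3 := by
  haveI : Fact (Nat.Prime 3) := ⟨by norm_num⟩
  exact orderOf_eq_prime x_pow x_ne

theorem orderOf_y : orderOf y = 3 := by
  haveI : Fact (Nat.Prime 3) := ⟨by norm_num⟩
  exact orderOf_eq_prime y_pow y_ne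

/-- the signalizer functor -/
def θ (g : S5) : Subgroup S5 :=
  if g = a then Subgroup.zpowers x else if g = b then Subgroup.zpowers y else ⊥

theorem θ_a : θ a = Subgroup.zpowers x := if_pos rfl

theorem θ_b : θ b = Subgroup.zpowers y := by
  unfold θ
  rw [if_neg (by decide), if_pos rfl]

theorem θ_ab : θ (a * b) = ⊥ := by
  unfold θ
  rw [if_neg (by decide), if_neg (by decide)]

theorem conj_mem_zpowers {z h u : S5} (hz : h * z * h⁻¹ = z ∨ h * z * h⁻¹ = z⁻¹)
    (hu : u ∈ Subgroup.zpowers z) : h * u * h⁻¹ ∈ Subgroup.zpowers z := by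
  obtain ⟨k, rfl⟩ := hu
  change h * z ^ k * h⁻¹ ∈ Subgroup.zpowers z
  rw [← conj_zpow]
  apply Subgroup.zpow_mem
  rcases hz with h1 | h1
  · rw [h1]; exact Subgroup.mem_zpowers z
  · rw [h1]; exact Subgroup.inv_mem _ (Subgroup.mem_zpowers z)

theorem xa : ∀ h : S5, h ∈ A → h * x * h⁻¹ = x ∨ h * x * h⁻¹ = x⁻¹ := by
  rintro _ (rfl | rfl | rfl | rfl) <;> decide

theorem ya : ∀ h : S5, h ∈ A → h * y * h⁻¹ = y ∨ h * y * h⁻¹ = y⁻¹ := by
  rintro _ (rfl | rfl | rfl | rfl) <;> decide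

theorem x_cent : ∀ u : S5, (u = 1 ∨ u = x ∨ u = x ^ 2) →
    (u * b = b * u ∨ u * (a * b) = (a * b) * u) → u = 1 := by
  rintro _ (rfl | rfl | rfl) <;> decide

theorem y_cent : ∀ u : S5, (u = 1 ∨ u = y ∨ u = y ^ 2) →
    (u * a = a * u ∨ u * (a * b) = (a * b) * u) → u = 1 := by
  rintro _ (rfl | rfl | rfl) <;> decide

theorem isSignalizerFunctor : Cfsg.IsSignalizerFunctor 2 A θ := by
  refine ⟨?_, ?_, ?_, ?_⟩
  · rintro g (rfl | rfl | rfl | rfl) hg1
    · exact absurd rfl hg1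
    · rw [θ_a, Subgroup.zpowers_le, Subgroup.mem_centralizer_singleton_iff]
      decide
    · rw [θ_b, Subgroup.zpowers_le, Subgroup.mem_centralizer_singleton_iff]
      decide
    · rw [θ_ab]; exact bot_le
  · rintro g (rfl | rfl | rfl | rfl) hg1
    · exact absurd rfl hg1
    · rw [θ_a, Nat.card_zpowers, orderOf_x]; decide
    · rw [θ_b, Nat.card_zpowers, orderOf_y]; decide
    · rw [θ_ab, Subgroup.card_bot]; decide
  · rintro g (rfl | rfl | rfl | rfl) hg1 h hh u hu
    · exact absurd rfl hg1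
    · rw [θ_a] at hu ⊢
      exact conj_mem_zpowers (xa h hh) hu
    · rw [θ_b] at hu ⊢
      exact conj_mem_zpowers (ya h hh) hu
    · rw [θ_ab] at hu ⊢
      rw [Subgroup.mem_bot] at hu ⊢
      rw [hu, mul_one, mul_inv_cancel]
  · rintro g (rfl | rfl | rfl | rfl) hg1 h (rfl | rfl | rfl | rfl) hh1
    all_goals first
      | exact absurd rfl hg1
      | exact absurd rfl hh1
      | exact inf_le_left
      | skip
    · -- g = a, h = b
      intro u hu
      rw [θ_a] at hu
      have := x_cent u (mem3 x_pow hu.1)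
        (Or.inl (Subgroup.mem_centralizer_singleton_iff.mp hu.2))
      rw [this]; exact Subgroup.one_mem _
    · intro u hu
      rw [θ_a] at hu
      have := x_cent u (mem3 x_pow hu.1)
        (Or.inr (Subgroup.mem_centralizer_singleton_iff.mp hu.2))
      rw [this]; exact Subgroup.one_mem _
    · intro u hu
      rw [θ_b] at hu
      have := y_cent u (mem3 y_pow hu.1)
        (Or.inl (Subgroup.mem_centralizer_singleton_iff.mp hu.2))
      rw [this]; exact Subgroup.one_mem _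
    · intro u hu
      rw [θ_b] at hu
      have := y_cent u (mem3 y_pow hu.1)
        (Or.inr (Subgroup.mem_centralizer_singleton_iff.mp hu.2))
      rw [this]; exact Subgroup.one_mem _
    · rw [θ_ab]; exact inf_le_left.trans bot_le
    · rw [θ_ab]; exact inf_le_left.trans bot_le

theorem solvable_θ : ∀ g ∈ A, g ≠ 1 → Group.IsSolvable ↥(θ g) := by
  rintro g (rfl | rfl | rfl | rfl) hg1
  · exact absurd rfl hg1
  · rw [θ_a]
    exact Group.isSolvable_of_comm (fun u v => mul_comm' u v)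
  · rw [θ_b]
    exact Group.isSolvable_of_comm (fun u v => mul_comm' u v)
  · rw [θ_ab]
    infer_instance

theorem w_pow : (x * y * x * y⁻¹) ^ 2 = 1 := by decide
theorem w_ne : x * y * x * y⁻¹ ≠ 1 := by decide

theorem not_complete : ¬ Cfsg.IsCompleteSignalizerFunctor 2 A θ := by
  rintro ⟨-, Y, -, hodd, hY⟩
  have hx : x ∈ Y := by
    have h := hY a (Or.inr (Or.inl rfl)) (by decide)
    have : x ∈ θ a := by rw [θ_a]; exact Subgroup.mem_zpowers x
    rw [← h] at this
    exact this.1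
  have hy : y ∈ Y := by
    have h := hY b (Or.inr (Or.inr (Or.inl rfl))) (by decide)
    have : y ∈ θ b := by rw [θ_b]; exact Subgroup.mem_zpowers y
    rw [← h] at this
    exact this.1
  have hw : x * y * x * y⁻¹ ∈ Y := Y.mul_mem (Y.mul_mem (Y.mul_mem hx hy) hx) (Y.inv_mem hy)
  have ho : orderOf (x * y * x * y⁻¹) = 2 := by
    haveI : Fact (Nat.Prime 2) := ⟨by norm_num⟩
    exact orderOf_eq_prime w_pow w_ne
  apply hodd
  rw [← ho]
  exact Subgroup.orderOf_dvd_natCard Y hw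

/-- There is a finite group with a Klein four-subgroup A and a solvable A-signalizer functor (for p = 2) that is not complete. -/
theorem result : ∃ (X : Type) (_ : Group X) (_ : Finite X) (A : Subgroup X) (θ : X → Subgroup X), Cfsg.IsElementaryAbelian 2 A ∧ Nat.card ↥A = 4 ∧ Cfsg.IsSolvableSignalizerFunctor 2 A θ ∧ ¬ Cfsg.IsCompleteSignalizerFunctor 2 A θ := by
  refine ⟨S5, inferInstance, inferInstance, A, θ, ⟨⟨⟨?_⟩⟩, ?_⟩, card_A,
    ⟨isSignalizerFunctor, solvable_θ⟩, not_complete⟩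
  · rintro ⟨g, hg⟩ ⟨h, hh⟩
    apply Subtype.ext
    change g * h = h * g
    rcases hg with rfl | rfl | rfl | rfl <;> rcases hh with rfl | rfl | rfl | rfl <;> decide
  · rintro g (rfl | rfl | rfl | rfl) <;> decide

end Cfsg.Agent.S1286
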