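import Cfsg.Statements.S1289
import Cfsg.Agent.Lib.Helper34.Components
import Cfsg.Agent.Lib.Helper34.PPrimeCore
import Cfsg.Agent.Lib.Helper34.PComponents

set_option autoImplicit false
open Cfsg

namespace Cfsg.Agent.S1289

open Cfsg.Agent.Helper34

/-- A perfect subnormal subgroup whose image in `X / O_{p'}(X)` is trivial has `p'`-order. -/
theorem coprime_card_of_map_eq_bot {X : Type*} [Group X] [Finite X] (p : ℕ) {H : Subgroup X}
    (h : H.map (QuotientGroup.mk' (Cfsg.pPrimeCore p X)) = ⊥) : (Nat.card H).Coprime p := by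
  have hle : H ≤ Cfsg.pPrimeCore p X := by
    intro x hx
    have h1 : QuotientGroup.mk' (Cfsg.pPrimeCore p X) x ∈
        H.map (QuotientGroup.mk' (Cfsg.pPrimeCore p X)) := Subgroup.mem_map_of_mem _ hx
    rw [h, Subgroup.mem_bot] at h1
    exact (QuotientGroup.eq_one_iff x).mp h1
  exact Nat.Coprime.coprime_dvd_left (Subgroup.card_dvd_of_le hle) (card_pPrimeCore_coprime p)

/-- A p-component K of the finite group X is subnormal, perfect, of order divisible by p, and minimal among the subnormal perfect subgroups of X of order divisible by p. -/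
theorem result {X : Type*} [Group X] [Finite X] (p : ℕ) [Fact p.Prime] (K : Subgroup X) (hK : Cfsg.IsPComponent p K) : K.IsSubnormal ∧ ⁅K, K⁆ = K ∧ p ∣ Nat.card ↥K ∧ ∀ H : Subgroup X, H ≤ K → H.IsSubnormal → ⁅H, H⁆ = H → p ∣ Nat.card ↥H → H = K := by
  have hp : p.Prime := Fact.out
  set O := Cfsg.pPrimeCore p X with hO
  set π := QuotientGroup.mk' O with hπ
  have hKnt : Nontrivial ↥(K.map π) := IsQuasisimple_nontrivial hK.2.1.2
  refine ⟨hK.1, IsPComponent.commutator_eq_self hK, ?_, ?_⟩
  · by_contra hnd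
    have hc : (Nat.card K).Coprime p := ((Nat.Prime.coprime_iff_not_dvd hp).mpr hnd).symm
    have hle : K ≤ O := IsSubnormal.le_pPrimeCore hK.1 hc
    have hbot : K.map π = ⊥ := by
      rw [eq_bot_iff]
      rintro _ ⟨k, hk, rfl⟩
      rw [Subgroup.mem_bot]
      exact (QuotientGroup.eq_one_iff k).mpr (hle hk)
    rw [hbot] at hKnt
    exact not_subsingleton _ (inferInstance : Subsingleton (⊥ : Subgroup (X ⧸ O)))
  · intro H hHK hHsn hHperf hpH
    have hle : H.map π ≤ K.map π := Subgroup.map_mono hHK
    have hHbar_sn : (H.map π).IsSubnormal := hHsn.map (QuotientGroup.mk'_surjective O)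
    have hsub : ((H.map π).subgroupOf (K.map π)).IsSubnormal := hHbar_sn.subgroupOf
    have hHbar_perf : ⁅H.map π, H.map π⁆ = H.map π := by
      rw [← Subgroup.map_commutator, hHperf]
    rcases subnormal_eq_top_or_le_center hK.2.1.2 hsub with h | h
    · have h1 : K.map π ≤ H.map π := Subgroup.subgroupOf_eq_top.mp h
      exact hK.2.2 H hHsn hHK (le_antisymm hle h1)
    · exfalso
      have hcomm : ⁅H.map π, H.map π⁆ = ⊥ := by
        rw [Subgroup.commutator_eq_bot_iff_le_centralizer]
        intro a ha b hb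
        have h1 : (⟨a, hle ha⟩ : K.map π) ∈ Subgroup.center ↥(K.map π) :=
          h (Subgroup.mem_subgroupOf.mpr ha)
        have h2 := Subgroup.mem_center_iff.mp h1 ⟨b, hle hb⟩
        exact congrArg Subtype.val h2
      rw [hHbar_perf] at hcomm
      have hc := coprime_card_of_map_eq_bot p hcomm
      exact (Nat.Prime.coprime_iff_not_dvd hp).mp hc.symm hpH

end Cfsg.Agent.S1289
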