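import Cfsg.Statements.S1292
import Cfsg.Agent.Lib.Helper22.CharP

set_option autoImplicit false
open Cfsg

namespace Cfsg.Agent.S1292

open Cfsg.Agent.Helper22 Cfsg.Agent.Helper54 Subgroup

/-- A nontrivial finite `2`-subgroup has a central involution. -/
theorem exists_central_involution {G : Type*} [Group G] [Finite G] (T : Subgroup G)
    (hT : IsPGroup 2 ↥T) (hT1 : T ≠ ⊥) :
    ∃ t ∈ T, orderOf t = 2 ∧ ∀ x ∈ T, x * t = t * x := by
  haveI : Fact (Nat.Prime 2) := ⟨Nat.prime_two⟩
  haveI : Nontrivial T := (Subgroup.nontrivial_iff_ne_bot T).mpr hT1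
  have hZ : Nontrivial (Subgroup.center T) := hT.center_nontrivial
  have hZp : IsPGroup 2 (Subgroup.center T) := hT.to_subgroup _
  have h2 : 2 ∣ Nat.card (Subgroup.center T) := by
    rcases hZp.card_eq_or_dvd with h | h
    · exact absurd h (Finite.one_lt_card_iff_nontrivial.mpr hZ).ne'
    · exact h
  obtain ⟨z, hz⟩ := exists_prime_orderOf_dvd_card' 2 h2
  refine ⟨((z : T) : G), (z : T).2, ?_, ?_⟩
  · rw [Subgroup.orderOf_coe, Subgroup.orderOf_coe]; exact hz
  · intro x hx
    have := (Subgroup.mem_center_iff.mp z.2) ⟨x, hx⟩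
    exact congrArg Subtype.val this

/-- Let G be a finite group such that F*(C_G(t)) = O_2(C_G(t)) for every involution t. Then F*(N_G(T)) = O_2(N_G(T)) for every nontrivial 2-subgroup T of G. -/
theorem result {G : Type*} [Group G] [Finite G] (h : ∀ t : G, orderOf t = 2 → Cfsg.generalizedFittingSubgroup ↥(Subgroup.centralizer ({t} : Set G)) = Cfsg.pCore 2 ↥(Subgroup.centralizer ({t} : Set G))) (T : Subgroup G) (hT : IsPGroup 2 ↥T) (hT1 : T ≠ ⊥) : Cfsg.generalizedFittingSubgroup ↥(Subgroup.normalizer (T : Set G)) = Cfsg.pCore 2 ↥(Subgroup.normalizer (T : Set G)) := by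
  haveI : Fact (Nat.Prime 2) := ⟨Nat.prime_two⟩
  obtain ⟨t, htT, hto, htc⟩ := exists_central_involution T hT hT1
  set C := Subgroup.centralizer ({t} : Set G) with hCdef
  have hC : IsCharP 2 ↥C := isCharP_of_generalizedFitting_eq (h t hto)
  have hTC : T ≤ C := by
    intro x hx
    rw [hCdef, mem_centralizer_iff]
    intro z hz
    rw [Set.mem_singleton_iff] at hz
    subst hz
    exact (htc x hx).symm
  set T' : Subgroup C := T.subgroupOf C with hT'
  have hT'p : IsPGroup 2 T' := hT.comap_subtype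
  have hNC : IsCharP 2 ↥(Subgroup.normalizer (T' : Set C)) := isCharP_normalizer hC T' hT'p
  set N := Subgroup.normalizer (T : Set G) with hN
  set tN : N := ⟨t, le_normalizer htT⟩ with htN
  set M := Subgroup.centralizer ({tN} : Set N) with hM
  have hnorm_eq : (Subgroup.normalizer (T : Set G)).subgroupOf C = Subgroup.normalizer (T' : Set C) :=
    subgroupOf_normalizer_eq hTC
  -- the isomorphism `N_C(T) ≃* C_N(t)`
  let f₁ : ↥(Subgroup.normalizer (T' : Set C)) →* G :=
    C.subtype.comp (Subgroup.normalizer (T' : Set C)).subtype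
  have hf₁N : ∀ x, f₁ x ∈ N := by
    intro x
    have hx : (x : C) ∈ (Subgroup.normalizer (T : Set G)).subgroupOf C := by
      rw [hnorm_eq]; exact x.2
    exact mem_subgroupOf.mp hx
  let f₂ : ↥(Subgroup.normalizer (T' : Set C)) →* N := f₁.codRestrict N hf₁N
  have hf₂M : ∀ x, f₂ x ∈ M := by
    intro x
    rw [hM, mem_centralizer_iff]
    intro z hz
    rw [Set.mem_singleton_iff] at hz
    subst hz
    apply Subtype.ext
    show t * ((x : C) : G) = ((x : C) : G) * t
    have hxC : ((x : C) : G) ∈ C := (x : C).2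
    exact (mem_centralizer_iff.mp hxC) t rfl
  let f₃ : ↥(Subgroup.normalizer (T' : Set C)) →* M := f₂.codRestrict M hf₂M
  have hbij : Function.Bijective f₃ := by
    constructor
    · intro x y hxy
      have h1 : ((x : C) : G) = ((y : C) : G) := congrArg (fun m : M => ((m : N) : G)) hxy
      exact Subtype.ext (Subtype.ext h1)
    · intro m
      have hgN : ((m : N) : G) ∈ N := (m : N).2
      have hgC : ((m : N) : G) ∈ C := by
        rw [hCdef, mem_centralizer_iff]
        intro z hz
        rw [Set.mem_singleton_iff] at hz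
        subst hz
        have := (mem_centralizer_iff.mp m.2) tN rfl
        exact congrArg Subtype.val this
      have hgN' : (⟨((m : N) : G), hgC⟩ : C) ∈ Subgroup.normalizer (T' : Set C) := by
        rw [← hnorm_eq, mem_subgroupOf]; exact hgN
      exact ⟨⟨⟨((m : N) : G), hgC⟩, hgN'⟩, Subtype.ext (Subtype.ext rfl)⟩
  have hMchar : IsCharP 2 ↥M := IsCharP.of_mulEquiv (MulEquiv.ofBijective f₃ hbij) hNC
  have htQ : tN ∈ Cfsg.pCore 2 ↥N := by
    have h1 : T.subgroupOf N ≤ Cfsg.pCore 2 ↥N :=
      Cfsg.Agent.Helper22.le_pCore normal_in_normalizer hT.comap_subtype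
    exact h1 (mem_subgroupOf.mpr htT)
  exact generalizedFitting_eq_of_isCharP (isCharP_of_centralizer_isCharP tN htQ hMchar)

end Cfsg.Agent.S1292
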