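import Cfsg.Statements.S1326
import Cfsg.Agent.Lib.Helper22.Bender

set_option autoImplicit false
open Cfsg

namespace Cfsg.Agent.S1326

open Cfsg.Agent.Helper22 Subgroup

/-- For a finite group X: the Fitting subgroup contains its centralizer if and only if the layer of X is trivial. -/
theorem result {X : Type*} [Group X] [Finite X] : Subgroup.centralizer (Cfsg.fittingSubgroup X : Set X) ≤ Cfsg.fittingSubgroup X ↔ Cfsg.layer X = ⊥ := by
  constructor
  · intro h
    rw [layer_eq_bot_iff]
    intro K hK
    have h1 : K ≤ Subgroup.centralizer (Cfsg.fittingSubgroup X : Set X) :=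
      component_le_centralizer_fittingSubgroup hK
    have h2 : K ≤ Cfsg.fittingSubgroup X := h1.trans h
    have h3 : ⁅K, K⁆ ≤ ⁅K, Cfsg.fittingSubgroup X⁆ := commutator_mono le_rfl h2
    have h4 : ⁅K, Cfsg.fittingSubgroup X⁆ = ⊥ := commutator_eq_bot_iff_le_centralizer.mpr h1
    rw [h4, le_bot_iff] at h3
    exact IsQuasisimple.not_commutator_eq_bot hK.2 h3
  · intro h
    have h1 : Cfsg.generalizedFittingSubgroup X = Cfsg.fittingSubgroup X := by
      rw [generalizedFittingSubgroup_eq, h, bot_sup_eq]
    have := centralizer_generalizedFittingSubgroup_le (G := X)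
    rwa [h1] at this

end Cfsg.Agent.S1326
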