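import Cfsg.Statements.S1293
import Cfsg.Agent.S1327
import Cfsg.Agent.Lib.Helper54.PConstrained

set_option autoImplicit false
open Cfsg

namespace Cfsg.Agent.S1293

open Cfsg.Agent.Helper54

/-- Let G be finite with L_{p'}(G) = 1, and H = N_G(P) for a nontrivial p-subgroup P. Then L_{p'}(H) = 1 and O_{p'}(H) ≤ O_{p'}(G). -/
theorem result {G : Type*} [Group G] [Finite G] (p : ℕ) [Fact p.Prime] (hL : Cfsg.pLayer p G = ⊥) (P : Subgroup G) (hP : IsPGroup p ↥P) (hP1 : P ≠ ⊥) : Cfsg.pLayer p ↥(Subgroup.normalizer (P : Set G)) = ⊥ ∧ (Cfsg.pPrimeCore p ↥(Subgroup.normalizer (P : Set G))).map (Subgroup.normalizer (P : Set G)).subtype ≤ Cfsg.pPrimeCore p G := by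
  have hG : IsPConstrained p G := (Cfsg.Agent.S1327.result p).mpr hL
  refine ⟨(Cfsg.Agent.S1327.result p).mp (IsPConstrained.normalizer hG P hP), ?_⟩
  rw [isPConstrained_iff_isCharP_quotient] at hG
  set K := pPrimeCore p G with hKdef
  have hKn : K.Normal := pPrimeCore_normal' p
  have hKc : (Nat.card K).Coprime p := pPrimeCore_coprime p
  have : Finite (G ⧸ K) := inferInstance
  set N := Subgroup.normalizer (P : Set G) with hN
  set N' := Subgroup.normalizer ((P.map (QuotientGroup.mk' K) : Subgroup (G ⧸ K)) : Set (G ⧸ K)) with hN'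
  have ha : ∀ x ∈ N, (QuotientGroup.mk' K) x ∈ N' := by
    intro x hx
    exact Subgroup.le_normalizer_map _ (Subgroup.mem_map_of_mem _ hx)
  have hb : ∀ c : G, (QuotientGroup.mk' K) c ∈ N' → ∃ k ∈ K, c * k ∈ N := by
    intro c hc
    apply exists_mul_mem_normalizer K hKc P hP c
    intro t ht
    have h1 : (QuotientGroup.mk' K) c * (QuotientGroup.mk' K) t * ((QuotientGroup.mk' K) c)⁻¹ ∈
        P.map (QuotientGroup.mk' K) :=
      (Subgroup.mem_normalizer_iff.mp hc _).mp (Subgroup.mem_map_of_mem _ ht)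
    obtain ⟨t', ht', h2⟩ := h1
    have h3 : t'⁻¹ * (c * t * c⁻¹) ∈ K := by
      rw [← QuotientGroup.eq_one_iff, ← QuotientGroup.mk'_apply]
      simp only [map_mul, map_inv]
      rw [h2]
      group
    have h4 : c * t * c⁻¹ = t' * (t'⁻¹ * (c * t * c⁻¹)) := by group
    rw [h4]
    exact Subgroup.mul_mem _ (Subgroup.mem_sup_left ht') (Subgroup.mem_sup_right h3)
  have hc : IsCharP p N' := isCharP_normalizer hG _ (hP.map _)
  set f : N →* N' := ((QuotientGroup.mk' K).comp N.subtype).codRestrict N' (fun x => ha x x.2) with hf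
  have hsurj : Function.Surjective f := by
    rintro ⟨n', hn'⟩
    obtain ⟨c, rfl⟩ := QuotientGroup.mk'_surjective K n'
    obtain ⟨k, hk, hck⟩ := hb c hn'
    refine ⟨⟨c * k, hck⟩, ?_⟩
    apply Subtype.ext
    show (QuotientGroup.mk' K) (c * k) = (QuotientGroup.mk' K) c
    rw [map_mul, QuotientGroup.mk'_apply, QuotientGroup.mk'_apply, (QuotientGroup.eq_one_iff k).mpr hk,
      mul_one]
  have hbot : pPrimeCore p N' = ⊥ := hc.pPrimeCore_eq_bot
  have hmap : (pPrimeCore p N).map f ≤ pPrimeCore p N' := by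
    apply le_sSup
    refine ⟨Subgroup.Normal.map (pPrimeCore_normal' p) f hsurj, ?_⟩
    have h1 : Nat.card ((pPrimeCore p N).map f) ∣ Nat.card (pPrimeCore p N) :=
      Subgroup.card_map_dvd _ _
    exact Nat.Coprime.coprime_dvd_left h1 (pPrimeCore_coprime p)
  rw [hbot, le_bot_iff, Subgroup.map_eq_bot_iff] at hmap
  rintro _ ⟨x, hx, rfl⟩
  have hx' : f x = 1 := MonoidHom.mem_ker.mp (hmap hx)
  have h2 : (QuotientGroup.mk' K) (x : G) = 1 := congrArg Subtype.val hx'
  rwa [QuotientGroup.mk'_apply, QuotientGroup.eq_one_iff] at h2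

end Cfsg.Agent.S1293
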