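import Cfsg.Statements.S1297
import Cfsg.Agent.S1271
import Cfsg.Agent.Lib.Helper21.LocalBalance

set_option autoImplicit false
open Cfsg

namespace Cfsg.Agent.S1297

open Subgroup
open scoped commutatorElement

/-- Coprime lifting: if the images of `c` and of the involution `x` commute modulo the odd-order
normal subgroup `N`, then `c N` contains an element commuting with `x`. -/
theorem exists_lift_centralizer {C : Type*} [Group C] [Finite C] (N : Subgroup C) [hN : N.Normal]
    (hco : (Nat.card N).Coprime 2) (x c : C) (hx : x ^ 2 = 1)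
    (hc : (QuotientGroup.mk' N x) * (QuotientGroup.mk' N c) =
      (QuotientGroup.mk' N c) * (QuotientGroup.mk' N x)) :
    ∃ c₂ : C, c₂ ∈ centralizer ({x} : Set C) ∧ QuotientGroup.mk' N c₂ = QuotientGroup.mk' N c := by
  have hxinv : x⁻¹ = x := by
    rw [inv_eq_iff_mul_eq_one, ← pow_two, hx]
  have h1 : (c * x)⁻¹ * (x * c) ∈ N := by
    apply QuotientGroup.eq.1
    have : QuotientGroup.mk' N (c * x) = QuotientGroup.mk' N (x * c) := by
      rw [map_mul, map_mul, hc]
    exact this
  set u : C := c⁻¹ * (x * c * x⁻¹) with hu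
  have huN : u ∈ N := by
    have := hN.conj_mem _ h1 x
    have e : x * ((c * x)⁻¹ * (x * c)) * x⁻¹ = x * x⁻¹ * c⁻¹ * (x * c * x⁻¹) := by group
    rw [e, mul_inv_cancel, one_mul] at this
    exact this
  have hxc : x * c * x⁻¹ = c * u := by rw [hu, mul_inv_cancel_left]
  have hxu : x * u * x⁻¹ = u⁻¹ := by
    have e1 : x * u * x⁻¹ = (x * c * x⁻¹)⁻¹ * (x * (x * c * x⁻¹) * x⁻¹) := by rw [hu]; group
    have e2 : x * (x * c * x⁻¹) * x⁻¹ = c := by
      have : x * (x * c * x⁻¹) * x⁻¹ = (x * x) * c * (x * x)⁻¹ := by group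
      rw [this, ← pow_two, hx]; simp
    rw [e1, e2, hxc]; group
  -- odd order of u
  have hodd : Odd (orderOf u) := by
    have h2 : orderOf u ∣ Nat.card N := by
      have := orderOf_dvd_natCard (⟨u, huN⟩ : ↥N)
      rwa [← Subgroup.orderOf_coe] at this
    exact (Nat.Coprime.coprime_dvd_left h2 hco).odd_of_right
  obtain ⟨r, hr⟩ := hodd
  set v : C := u ^ (r + 1) with hv
  have hvN : v ∈ N := N.pow_mem huN _
  have hvv : v * v = u := by
    rw [hv, ← pow_add]
    have : r + 1 + (r + 1) = orderOf u + 1 := by omega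
    rw [this, pow_succ, pow_orderOf_eq_one, one_mul]
  have hxv : x * v * x⁻¹ = v⁻¹ := by
    have : x * u ^ (r + 1) * x⁻¹ = (x * u * x⁻¹) ^ (r + 1) := by rw [conj_pow]
    rw [hv, this, hxu, inv_pow]
  refine ⟨c * v, ?_, ?_⟩
  · rw [Subgroup.mem_centralizer_iff]
    intro z hz
    rw [Set.mem_singleton_iff] at hz
    subst hz
    have h3 : z * (c * v) * z⁻¹ = c * v := by
      calc z * (c * v) * z⁻¹ = (z * c * z⁻¹) * (z * v * z⁻¹) := by group
        _ = c * u * v⁻¹ := by rw [hxc, hxv]
        _ = c * (v * v) * v⁻¹ := by rw [hvv]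
        _ = c * v := by group
    exact mul_inv_eq_iff_eq_mul.1 h3
  · rw [map_mul]
    have : QuotientGroup.mk' N v = 1 := (QuotientGroup.eq_one_iff v).2 hvN
    rw [this, mul_one]

/-- One inclusion of balance. -/
theorem half {G : Type*} [Group G] [Finite G]
    (h : ∀ x : G, orderOf x = 2 → ∀ K : Subgroup (↥(Subgroup.centralizer ({x} : Set G)) ⧸ Cfsg.oddCore ↥(Subgroup.centralizer ({x} : Set G))), Cfsg.IsComponent K → Cfsg.IsLocallyBalanced (↥K ⧸ Subgroup.center ↥K))
    (x y : G) (hx : orderOf x = 2) (hy : orderOf y = 2) (hxy : x * y = y * x) :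
    centralizerPPrimeCore 2 x ⊓ centralizer ({y} : Set G) ≤ centralizerPPrimeCore 2 y := by
  set C : Subgroup G := centralizer ({y} : Set G) with hC
  set N : Subgroup ↥C := pPrimeCore 2 ↥C with hN
  have hNn : N.Normal := inferInstance
  have hNco : (Nat.card N).Coprime 2 := Helper30.pPrimeCore_coprime 2
  set π : ↥C →* ↥C ⧸ N := QuotientGroup.mk' N with hπ
  have hQbot : pPrimeCore 2 (↥C ⧸ N) = ⊥ := Helper30.pPrimeCore_quotient_eq_bot 2
  -- the quotient is balanced for 2
  have hbal : IsBalancedFor 2 (↥C ⧸ N) := by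
    apply Cfsg.Agent.S1271.result 2 hQbot
    intro L hL H hLH hLn hCn
    have hHN : H ≤ normalizer (L : Set (↥C ⧸ N)) :=
      (Subgroup.normal_subgroupOf_iff_le_normalizer hLH).1 hLn
    exact Helper21.isBalancedFor_two_of_isLocallyBalanced L H hL hLH hHN (h y hy L hL)
  -- x as an element of C
  have hxC : x ∈ C := by
    rw [hC, Subgroup.mem_centralizer_iff]
    intro z hz
    rw [Set.mem_singleton_iff] at hz
    rw [hz]; exact hxy.symm
  set x' : ↥C := ⟨x, hxC⟩ with hx'
  have hx2 : x' ^ 2 = 1 := by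
    apply Subtype.ext
    rw [Subgroup.coe_pow, Subgroup.coe_one]
    show x ^ 2 = 1
    rw [← hx]; exact pow_orderOf_eq_one x
  have hord : orderOf (π x') = 2 := by
    apply orderOf_eq_prime
    · rw [← map_pow, hx2, map_one]
    · intro h1
      have h2 : x' ∈ N := (QuotientGroup.eq_one_iff x').1 h1
      have h3 : orderOf x' ∣ Nat.card N := by
        have := orderOf_dvd_natCard (⟨x', h2⟩ : ↥N)
        rwa [← Subgroup.orderOf_coe] at this
      have h4 : orderOf x' = 2 := by
        rw [← hx, hx', ← Subgroup.orderOf_coe]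
      rw [h4] at h3
      have := Nat.Coprime.eq_one_of_dvd hNco.symm h3
      omega
  have hb := hbal (π x') hord
  rw [hQbot] at hb
  -- the subgroup D
  set D : Subgroup G := centralizerPPrimeCore 2 x ⊓ C with hD
  have hDco : (Nat.card D).Coprime 2 :=
    Nat.Coprime.coprime_dvd_left (Subgroup.card_dvd_of_le inf_le_left)
      (Helper30.centralizerPPrimeCore_coprime 2 x)
  have hDx : D ≤ centralizer ({x} : Set G) :=
    inf_le_left.trans (Helper30.centralizerPPrimeCore_le_centralizer 2 x)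
  -- conjugation by elements of C(x) ∩ C(y) preserves D
  have hDconj : ∀ g : G, g ∈ centralizer ({x} : Set G) → g ∈ C → ∀ d ∈ D, g * d * g⁻¹ ∈ D := by
    intro g hgx hgC d hd
    exact Subgroup.mem_inf.2 ⟨Helper30.conj_mem_centralizerPPrimeCore 2 x (Subgroup.mem_inf.1 hd).1 hgx,
      C.mul_mem (C.mul_mem hgC (Subgroup.mem_inf.1 hd).2) (C.inv_mem hgC)⟩
  set D' : Subgroup ↥C := D.subgroupOf C with hD'
  set Nb : Subgroup (↥C ⧸ N) := D'.map π with hNb
  intro d hd
  have hdC : d ∈ C := (Subgroup.mem_inf.1 hd).2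
  have hmem : π ⟨d, hdC⟩ ∈ centralizerPPrimeCore 2 (π x') := by
    rw [Helper21.mem_centralizerPPrimeCore_iff]
    refine ⟨Nb, ?_, ?_, ?_, ?_⟩
    · rintro _ ⟨d₁, hd₁, rfl⟩
      rw [Subgroup.mem_centralizer_iff]
      intro z hz
      rw [Set.mem_singleton_iff] at hz
      subst hz
      rw [← map_mul, ← map_mul]
      congr 1
      apply Subtype.ext
      show x * (d₁ : G) = (d₁ : G) * x
      exact (Subgroup.mem_centralizer_iff.1 (hDx (Subgroup.mem_subgroupOf.1 hd₁))) x
        (Set.mem_singleton x)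
    · intro cb hcb
      obtain ⟨c, rfl⟩ := QuotientGroup.mk'_surjective N cb
      have hcomm : π x' * π c = π c * π x' :=
        (Subgroup.mem_centralizer_iff.1 hcb) _ (Set.mem_singleton _)
      obtain ⟨c₂, hc₂, hc₂e⟩ := exists_lift_centralizer N hNco x' c hx2 hcomm
      have hc₂x : (c₂ : G) ∈ centralizer ({x} : Set G) := by
        rw [Subgroup.mem_centralizer_iff]
        intro z hz
        rw [Set.mem_singleton_iff] at hz
        subst hz
        have := (Subgroup.mem_centralizer_iff.1 hc₂) x' (Set.mem_singleton _)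
        exact congrArg Subtype.val this
      apply Helper21.mem_normalizer_of_conj_mem
      rintro _ ⟨d₁, hd₁, rfl⟩
      refine ⟨c₂ * d₁ * c₂⁻¹, ?_, ?_⟩
      · rw [SetLike.mem_coe, hD', Subgroup.mem_subgroupOf]
        exact hDconj (c₂ : G) hc₂x c₂.2 (d₁ : G) (Subgroup.mem_subgroupOf.1 hd₁)
      · rw [map_mul, map_mul, map_inv]
        rw [show π c₂ = π c from hc₂e]
    · have h1 : Nat.card Nb ∣ Nat.card D' := Subgroup.card_map_dvd _ π
      have h2 : Nat.card D' ∣ Nat.card D :=
        Subgroup.card_comap_dvd_of_injective _ C.subtype C.subtype_injective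
      exact Nat.Coprime.coprime_dvd_left (h1.trans h2) hDco
    · exact ⟨⟨d, hdC⟩, Subgroup.mem_subgroupOf.2 hd, rfl⟩
  have h1 := hb hmem
  rw [Subgroup.mem_bot] at h1
  have h2 : (⟨d, hdC⟩ : ↥C) ∈ N := (QuotientGroup.eq_one_iff _).1 h1
  exact ⟨⟨d, hdC⟩, h2, rfl⟩

/-- Let G be finite. Suppose that for every involution x, writing C = C_G(x), every component K of C / O(C) has K / Z(K) locally balanced. Then G is balanced. -/
theorem result {G : Type*} [Group G] [Finite G] (h : ∀ x : G, orderOf x = 2 → ∀ K : Subgroup (↥(Subgroup.centralizer ({x} : Set G)) ⧸ Cfsg.oddCore ↥(Subgroup.centralizer ({x} : Set G))), Cfsg.IsComponent K → Cfsg.IsLocallyBalanced (↥K ⧸ Subgroup.center ↥K)) : Cfsg.IsBalanced G := by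
  intro x y hx hy hxy
  apply le_antisymm
  · exact le_inf (half h x y hx hy hxy)
      (inf_le_left.trans (Helper30.centralizerPPrimeCore_le_centralizer 2 x))
  · exact le_inf (half h y x hy hx hxy.symm)
      (inf_le_left.trans (Helper30.centralizerPPrimeCore_le_centralizer 2 y))

end Cfsg.Agent.S1297
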