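import Cfsg.Statements.S1299
import Cfsg.Agent.Lib.Helper29.DeltaSystem
import Cfsg.Agent.Lib.Helper31.Balance

set_option autoImplicit false
open Cfsg

namespace Cfsg.Agent.S1299

open Subgroup

theorem comm_of_elemAb {G : Type*} [Group G] {p : ℕ} {A : Subgroup G}
    (hA : Cfsg.IsElementaryAbelian p A) : ∀ x ∈ A, ∀ y ∈ A, x * y = y * x := by
  intro x hx y hy
  have := hA.1
  have h1 := mul_comm' (⟨x, hx⟩ : ↥A) ⟨y, hy⟩
  exact congrArg Subtype.val h1

theorem exists_le_card_eq {G : Type*} [Group G] [Finite G] {p k : ℕ} [hp : Fact p.Prime]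
    {A D : Subgroup G} (hAp : ∀ x ∈ A, x ^ p = 1) (hD : D ≤ A) (hDk : p ^ k ≤ Nat.card D) :
    ∃ D₀ : Subgroup G, D₀ ≤ D ∧ Nat.card D₀ = p ^ k := by
  have hDp : IsPGroup p D := fun g => ⟨1, by
    apply Subtype.ext
    simpa using hAp g.1 (hD g.2)⟩
  obtain ⟨m, hm⟩ := IsPGroup.iff_card.mp hDp
  have hkm : k ≤ m := by
    rw [hm] at hDk
    exact (Nat.pow_le_pow_iff_right hp.out.one_lt).mp hDk
  have hdvd : p ^ k ∣ Nat.card D := by
    rw [hm]
    exact pow_dvd_pow p hkm
  obtain ⟨K, hK⟩ := Sylow.exists_subgroup_card_pow_prime p hdvd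
  refine ⟨K.map D.subtype, map_subtype_le K, ?_⟩
  rw [card_map_of_injective D.subtype_injective]
  exact hK

theorem kbal_ext {G : Type*} [Group G] [Finite G] {p k : ℕ} [Fact p.Prime]
    (hbal : Cfsg.IsKBalanced p k G) {A : Subgroup G} (hA : Cfsg.IsElementaryAbelian p A)
    {D : Subgroup G} (hD : D ≤ A) (hDk : p ^ k ≤ Nat.card D) {y : G} (hy : y ∈ A) (hy1 : y ≠ 1) :
    Cfsg.signalizerDelta p D ⊓ centralizer {y} ≤ Cfsg.centralizerPPrimeCore p y := by
  obtain ⟨D₀, hD₀, hD₀k⟩ := exists_le_card_eq hA.2 hD hDk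
  have hAc := comm_of_elemAb hA
  have hD₀ea : Cfsg.IsElementaryAbelian p D₀ :=
    ⟨⟨⟨fun a b => Subtype.ext (hAc a.1 (hD (hD₀ a.2)) b.1 (hD (hD₀ b.2)))⟩⟩,
      fun a ha => hA.2 a (hD (hD₀ ha))⟩
  have hord : orderOf y = p := orderOf_eq_prime (hA.2 y hy) hy1
  have := hbal D₀ hD₀ea hD₀k y hord (fun a ha => hAc a (hD (hD₀ ha)) y hy)
  exact le_trans (inf_le_inf_right _ (Cfsg.Agent.Helper31.signalizerDelta_anti p hD₀)) this

theorem delta_inf_centralizer {G : Type*} [Group G] [Finite G] {p k : ℕ} [Fact p.Prime]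
    (hbal : Cfsg.IsKBalanced p k G) {A : Subgroup G} (hA : Cfsg.IsElementaryAbelian p A)
    {D : Subgroup G} (hD : D ≤ A) (hDk : p ^ k ≤ Nat.card D) {S : Subgroup G} (hS : S ≤ A) :
    Cfsg.signalizerDelta p D ⊓ centralizer (S : Set G) = Cfsg.signalizerDelta p (D ⊔ S) := by
  apply le_antisymm
  · intro x hx
    obtain ⟨hxD, hxS⟩ := mem_inf.mp hx
    unfold Cfsg.signalizerDelta
    rw [mem_iInf]
    rintro ⟨y, hy, hy1⟩
    have hyA : y ∈ A := (sup_le hD hS) hy
    have hDle : D ≤ centralizer ({x} : Set G) := by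
      intro d hd
      rw [mem_centralizer_singleton_iff]
      by_cases hd1 : d = 1
      · subst hd1; simp
      · have := ((Cfsg.Agent.Helper31.signalizerDelta_le p D hd hd1).trans
          (Cfsg.Agent.Helper31.centralizerPPrimeCore_le_centralizer p d)) hxD
        exact (mem_centralizer_singleton_iff.mp this).symm
    have hSle : S ≤ centralizer ({x} : Set G) := by
      intro s hs
      rw [mem_centralizer_singleton_iff]
      exact (mem_centralizer_iff.mp hxS s hs)
    have hyx := (sup_le hDle hSle) hy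
    have hxy : x ∈ centralizer ({y} : Set G) := by
      rw [mem_centralizer_singleton_iff]
      exact (mem_centralizer_singleton_iff.mp hyx).symm
    exact kbal_ext hbal hA hD hDk hyA hy1 (mem_inf.mpr ⟨hxD, hxy⟩)
  · apply le_inf
    · exact Cfsg.Agent.Helper31.signalizerDelta_anti p le_sup_left
    · intro x hx
      rw [mem_centralizer_iff]
      intro s hs
      by_cases hs1 : s = 1
      · subst hs1; simp
      · have := ((Cfsg.Agent.Helper31.signalizerDelta_le p (D ⊔ S) (mem_sup_right hs) hs1).trans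
          (Cfsg.Agent.Helper31.centralizerPPrimeCore_le_centralizer p s)) hx
        exact (mem_centralizer_singleton_iff.mp this).symm

theorem le_normalizer_delta_inf {G : Type*} [Group G] {p : ℕ} {A : Subgroup G}
    (hAc : ∀ x ∈ A, ∀ y ∈ A, x * y = y * x) (U : Subgroup G) (hU : U ≤ A) {a : G} (ha : a ∈ A) :
    A ≤ normalizer ((Cfsg.signalizerDelta p U ⊓ centralizer {a} : Subgroup G) : Set G) := by
  apply Cfsg.Agent.Helper29.le_normalizer_inf'
  · intro b hb
    exact Cfsg.Agent.Helper31.mem_normalizer_signalizerDelta p U (fun u hu => hAc b hb u (hU hu))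
  · apply Cfsg.Agent.Helper29.le_normalizer_centralizer'
    intro b hb
    rw [mem_centralizer_singleton_iff]
    exact hAc b hb a ha

theorem isDeltaSystem {G : Type*} [Group G] [Finite G] {p k : ℕ} [Fact p.Prime]
    (hbal : Cfsg.IsKBalanced p k G) {A : Subgroup G} (hA : Cfsg.IsElementaryAbelian p A)
    {a : G} (ha : a ∈ A) (ha1 : a ≠ 1) :
    Cfsg.Agent.Helper29.IsDeltaSystem p k A (Cfsg.centralizerPPrimeCore p a)
      (fun U => Cfsg.signalizerDelta p U ⊓ centralizer {a}) where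
  le U hU hUk := kbal_ext hbal hA hU hUk ha ha1
  norm U hU _ := le_normalizer_delta_inf (comm_of_elemAb hA) U hU ha
  cent U hU hUk S hS := by
    rw [inf_right_comm, delta_inf_centralizer hbal hA hU hUk hS]

/-- Let G be finite and k-balanced for the prime p (k ≥ 1), A an elementary abelian p-subgroup of order at least p^(k+2) such that O_{p'}(C_G(a)) is solvable for every non-identity a ∈ A. For a ∈ A put θ a = the subgroup generated by the Δ_G(D) ∩ C_G(a) over the subgroups D ≤ A of order p^k. Then θ is an A-signalizer functor. -/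
theorem result {G : Type*} [Group G] [Finite G] (p k : ℕ) [Fact p.Prime] (hk : 1 ≤ k) (hbal : Cfsg.IsKBalanced p k G) (A : Subgroup G) (hA : Cfsg.IsElementaryAbelian p A) (hAk : p ^ (k + 2) ≤ Nat.card ↥A) (hsolv : ∀ a ∈ A, a ≠ 1 → Group.IsSolvable ↥(Cfsg.centralizerPPrimeCore p a)) : Cfsg.IsSignalizerFunctor p A (fun a => ⨆ D : {D : Subgroup G // D ≤ A ∧ Nat.card ↥D = p ^ k}, Cfsg.signalizerDelta p (D : Subgroup G) ⊓ Subgroup.centralizer {a}) := by
  have hp : p.Prime := Fact.out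
  have hAc := comm_of_elemAb hA
  have hAp := hA.2
  have hA1 : A ≠ ⊥ := by
    intro h
    rw [h, Subgroup.card_bot] at hAk
    have h2 : 1 < p ^ (k + 2) := Nat.one_lt_pow (by omega) hp.one_lt
    omega
  have hθW : ∀ a ∈ A, a ≠ 1 →
      (⨆ D : {D : Subgroup G // D ≤ A ∧ Nat.card ↥D = p ^ k},
        Cfsg.signalizerDelta p (D : Subgroup G) ⊓ Subgroup.centralizer {a}) ≤
        Cfsg.centralizerPPrimeCore p a := fun a ha ha1 =>
    iSup_le fun D => kbal_ext hbal hA D.2.1 (le_of_eq D.2.2.symm) ha ha1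
  have hθA : ∀ a ∈ A, A ≤ normalizer
      ((⨆ D : {D : Subgroup G // D ≤ A ∧ Nat.card ↥D = p ^ k},
        Cfsg.signalizerDelta p (D : Subgroup G) ⊓ Subgroup.centralizer {a} : Subgroup G) : Set G) :=
    fun a ha => Cfsg.Agent.Helper29.le_normalizer_iSup' _ _
      (fun D => le_normalizer_delta_inf hAc D.1 D.2.1 ha)
  refine ⟨?_, ?_, ?_, ?_⟩
  · intro a _ _
    exact iSup_le fun D => inf_le_right
  · intro a ha ha1 hdvd
    have hcop := Nat.Coprime.coprime_dvd_left (card_dvd_of_le (hθW a ha ha1))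
      (Cfsg.Agent.Helper31.card_centralizerPPrimeCore_coprime p a)
    exact (Nat.Prime.coprime_iff_not_dvd hp).mp hcop.symm hdvd
  · intro a ha _ b hb x hx
    exact (mem_normalizer_iff.mp (hθA a ha hb) x).mp hx
  · intro a ha ha1 b hb hb1
    have hΔ := isDeltaSystem hbal hA ha ha1
    have hWp := Cfsg.Agent.Helper31.card_centralizerPPrimeCore_coprime (G := G) p a
    have hmain := fun E₀ hE₀ => hΔ.inf_centralizer_le hAc hAp hAk hWp (hsolv a ha ha1) E₀ hE₀
    -- θ a ≤ Y_a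
    have hθY : (⨆ D : {D : Subgroup G // D ≤ A ∧ Nat.card ↥D = p ^ k},
        Cfsg.signalizerDelta p (D : Subgroup G) ⊓ Subgroup.centralizer {a}) ≤
        ⨆ E : {E : Subgroup G // E ⋖ A},
          Cfsg.signalizerDelta p (E : Subgroup G) ⊓ Subgroup.centralizer {a} :=
      iSup_le fun D => hΔ.le_iSup_max hAc hAp hAk hWp D.1 D.2.1 (le_of_eq D.2.2.symm)
    -- generation for X_b
    have hXnorm : A ≤ normalizer (((⨆ D : {D : Subgroup G // D ≤ A ∧ Nat.card ↥D = p ^ k},
        Cfsg.signalizerDelta p (D : Subgroup G) ⊓ Subgroup.centralizer {a}) ⊓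
        centralizer {b} : Subgroup G) : Set G) := by
      apply Cfsg.Agent.Helper29.le_normalizer_inf' _ _ _ (hθA a ha)
      apply Cfsg.Agent.Helper29.le_normalizer_centralizer'
      intro c hc
      rw [mem_centralizer_singleton_iff]
      exact hAc c hc b hb
    have hXcop : (Nat.card ((⨆ D : {D : Subgroup G // D ≤ A ∧ Nat.card ↥D = p ^ k},
        Cfsg.signalizerDelta p (D : Subgroup G) ⊓ Subgroup.centralizer {a}) ⊓
        centralizer {b} : Subgroup G)).Coprime p :=
      Nat.Coprime.coprime_dvd_left (card_dvd_of_le (inf_le_left.trans (hθW a ha ha1))) hWp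
    refine le_trans (Cfsg.Agent.Helper29.le_iSup_covBy A _ hAc hAp hA1 hXnorm hXcop)
      (iSup_le fun B => ?_)
    obtain ⟨B, hB⟩ := B
    have hBk : p ^ k ≤ Nat.card B :=
      le_trans (Nat.pow_le_pow_right hp.pos (Nat.le_succ k))
        (Cfsg.Agent.Helper29.pow_le_card_covBy hAc hAp hAk hB)
    obtain ⟨D₀, hD₀, hD₀k⟩ := exists_le_card_eq hAp hB.le hBk
    have h1 := hmain B hB
    -- (θ a ⊓ C(b)) ⊓ C(B) ≤ Δ(B) ⊓ C(b)
    intro x hx
    obtain ⟨hx1, hxB⟩ := mem_inf.mp hx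
    obtain ⟨hxθ, hxb⟩ := mem_inf.mp hx1
    have hx2 := h1 (mem_inf.mpr ⟨hθY hxθ, hxB⟩)
    have hx3 : x ∈ Cfsg.signalizerDelta p D₀ ⊓ centralizer {b} :=
      mem_inf.mpr ⟨Cfsg.Agent.Helper31.signalizerDelta_anti p hD₀ (mem_inf.mp hx2).1, hxb⟩
    exact (le_iSup (fun D : {D : Subgroup G // D ≤ A ∧ Nat.card ↥D = p ^ k} =>
      Cfsg.signalizerDelta p (D : Subgroup G) ⊓ Subgroup.centralizer {b})
      ⟨D₀, hD₀.trans hB.le, hD₀k⟩) hx3

end Cfsg.Agent.S1299
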