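import Cfsg.Statements.S1300
import Mathlib

set_option autoImplicit false
open Cfsg

namespace Cfsg.Agent.S1300

lemma cppc_le {G : Type*} [Group G] (p : ℕ) (x : G) :
    centralizerPPrimeCore p x ≤ Subgroup.centralizer {x} := by
  unfold centralizerPPrimeCore
  exact Subgroup.map_subtype_le _

lemma mem_zpowers_inv {G : Type*} [Group G] {x a : G} (hx : orderOf x = 2) (ha : a ∈ Subgroup.zpowers x) :
    a = 1 ∨ a = x := by
  have hx2 : x ^ 2 = 1 := by rw [← hx]; exact pow_orderOf_eq_one x
  obtain ⟨k, rfl⟩ := ha
  show x ^ k = 1 ∨ x ^ k = x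
  rcases Int.emod_two_eq_zero_or_one k with h | h
  · left
    have : k = 2 * (k / 2) := by omega
    rw [this, zpow_mul, zpow_ofNat, hx2, one_zpow]
  · right
    have : k = 2 * (k / 2) + 1 := by omega
    rw [this, zpow_add, zpow_mul, zpow_ofNat, hx2, one_zpow, one_mul, zpow_one]

/-- For a finite group G, balance in the sense of commuting involutions is the same as 1-balance for the prime 2. -/
theorem result {G : Type*} [Group G] [Finite G] : Cfsg.IsBalanced G ↔ Cfsg.IsKBalanced 2 1 G := by
  constructor
  · intro hbal A hA hcard b hb hcomm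
    have hnt : Nontrivial A := by
      rw [← Finite.one_lt_card_iff_nontrivial, hcard]; norm_num
    obtain ⟨⟨x, hxA⟩, hx1⟩ := exists_ne (1 : A)
    have hx1' : x ≠ 1 := fun h => hx1 (Subtype.ext h)
    have hx2 : x ^ 2 = 1 := hA.2 x hxA
    have hox : orderOf x = 2 := orderOf_eq_prime hx2 hx1'
    have h1 : signalizerDelta 2 A ≤ centralizerPPrimeCore 2 x := by
      unfold signalizerDelta
      exact iInf_le (fun a : {a : G // a ∈ A ∧ a ≠ 1} => centralizerPPrimeCore 2 (a : G)) ⟨x, hxA, hx1'⟩
    have h2 := hbal x b hox hb (hcomm x hxA)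
    calc signalizerDelta 2 A ⊓ Subgroup.centralizer {b}
        ≤ centralizerPPrimeCore 2 x ⊓ Subgroup.centralizer {b} := inf_le_inf_right _ h1
      _ = centralizerPPrimeCore 2 b ⊓ Subgroup.centralizer {x} := h2
      _ ≤ centralizerPPrimeCore 2 b := inf_le_left
  · intro hk
    have key : ∀ x y : G, orderOf x = 2 → orderOf y = 2 → x * y = y * x →
        centralizerPPrimeCore 2 x ⊓ Subgroup.centralizer {y} ≤
          centralizerPPrimeCore 2 y ⊓ Subgroup.centralizer {x} := by
      intro x y hx hy hxy
      have hx2 : x ^ 2 = 1 := by rw [← hx]; exact pow_orderOf_eq_one x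
      have hEA : IsElementaryAbelian 2 (Subgroup.zpowers x) := by
        refine ⟨inferInstance, ?_⟩
        intro a ha
        rcases mem_zpowers_inv hx ha with rfl | rfl
        · simp
        · exact hx2
      have hcard : Nat.card (Subgroup.zpowers x) = 2 ^ 1 := by
        rw [Nat.card_zpowers, hx]; norm_num
      have hcomm : ∀ a ∈ Subgroup.zpowers x, a * y = y * a := by
        intro a ha
        rcases mem_zpowers_inv hx ha with rfl | rfl
        · simp
        · exact hxy
      have h1 := hk (Subgroup.zpowers x) hEA hcard y hy hcomm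
      have h2 : centralizerPPrimeCore 2 x ≤ signalizerDelta 2 (Subgroup.zpowers x) := by
        unfold signalizerDelta
        refine le_iInf ?_
        rintro ⟨a, ha, ha1⟩
        rcases mem_zpowers_inv hx ha with rfl | rfl
        · exact absurd rfl ha1
        · exact le_rfl
      refine le_inf ?_ ?_
      · exact le_trans (inf_le_inf_right _ h2) h1
      · exact le_trans inf_le_left (cppc_le 2 x)
    intro x y hx hy hxy
    exact le_antisymm (key x y hx hy hxy) (key y x hy hx hxy.symm)

end Cfsg.Agent.S1300
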