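import Cfsg.Statements.S1301
import Mathlib
import Cfsg.Agent.Lib.Helper22.LBal8
import Cfsg.Agent.Lib.Helper23.ExtLayer
import Cfsg.Agent.Lib.Helper34.PPrimeCore
import Cfsg.Agent.S1277
import Cfsg.Agent.Lib.Helper96.GlaubB2

set_option autoImplicit false
open Cfsg
open scoped commutatorElement

namespace Cfsg.Agent.S1301

open Subgroup Cfsg.Agent.Helper22 Cfsg.Agent.Helper22.LBal Cfsg.Agent.Helper96.Glaub

/-- The image in `X / O(X)` of a `2`-component of `C_X(T)`, `T` a 2-subgroup, lies in the layer.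
No Schreier-type hypothesis is needed: the outer automorphism step is replaced by the perfect form
of Glauberman's `Z*`-theorem (`Cfsg.Agent.Helper96.Glaub.thmB`). -/
theorem pComponent_map_le_layer {X : Type*} [Group X] [Finite X]
    (T : Subgroup X) (hT : IsPGroup 2 ↥T) (Y : Subgroup X)
    (hY : Y = Subgroup.centralizer (T : Set X))
    (I₀ : Subgroup ↥Y) (hI₀ : Cfsg.IsPComponent 2 I₀) :
    ((I₀.map Y.subtype).map
      (QuotientGroup.mk' (Cfsg.pPrimeCore 2 X))) ≤ Cfsg.layer (X ⧸ Cfsg.pPrimeCore 2 X) := by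
  have hp : Fact (Nat.Prime 2) := ⟨Nat.prime_two⟩
  set O := Cfsg.pPrimeCore 2 X with hO
  set π := QuotientGroup.mk' O with hπ
  set P : Subgroup (X ⧸ O) := T.map π with hP
  set Ibar : Subgroup (X ⧸ O) := (I₀.map Y.subtype).map π with hIbar
  set W : Subgroup (X ⧸ O) := ((Cfsg.pPrimeCore 2 ↥Y).map Y.subtype).map π with hW
  have hOcop : (Nat.card O).Coprime 2 := card_pPrimeCore_coprime 2
  have hperf0 : Group.IsPerfect ↥I₀ := isPerfect_of_isPComponent hI₀
  have hperf1 : Group.IsPerfect ↥(I₀.map Y.subtype) := Group.IsPerfect.map _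
  have hperf : Group.IsPerfect ↥Ibar := Group.IsPerfect.map _
  -- π maps Y into the centralizer of P
  have hπY : ∀ y : ↥Y, π (y : X) ∈ centralizer (P : Set (X ⧸ O)) := by
    intro y
    rw [Subgroup.mem_centralizer_iff]
    rintro _ ⟨t, ht, rfl⟩
    have hy : (y : X) ∈ centralizer (T : Set X) := hY ▸ y.2
    have := Subgroup.mem_centralizer_iff.mp hy t ht
    rw [← map_mul, ← map_mul, this]
  have hyp : Hyp 2 P Ibar W := by
    refine ⟨Cfsg.Agent.Helper34.pPrimeCore_quotient_eq_bot 2, hT.map π, ?_, ?_, ?_⟩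
    · rintro _ ⟨_, ⟨y, hy, rfl⟩, rfl⟩
      exact hπY y
    · have h1 : Nat.card W ∣ Nat.card (Cfsg.pPrimeCore 2 ↥Y) :=
        (Subgroup.card_map_dvd _ _).trans (Subgroup.card_map_dvd _ _)
      exact Nat.Coprime.coprime_dvd_left h1 (card_pPrimeCore_coprime 2)
    · intro D hDc hDn
      set D₀ : Subgroup ↥Y := D.comap (π.comp Y.subtype) with hD₀
      have hD₀n : D₀.Normal := by
        refine ⟨fun d hd y => ?_⟩
        rw [hD₀, Subgroup.mem_comap] at hd ⊢
        have := hDn _ (Subgroup.centralizer_le_normalizer _ (hπY y)) _ hd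
        simpa using this
      rcases pComponent_le_or_commutator_le hI₀ D₀ with h1 | h1
      · left
        rintro _ ⟨_, ⟨y, hy, rfl⟩, rfl⟩
        exact h1 hy
      · right
        rw [Subgroup.commutator_le]
        rintro _ ⟨_, ⟨y, hy, rfl⟩, rfl⟩ d hd
        -- lift d to Y
        obtain ⟨x, rfl⟩ := QuotientGroup.mk'_surjective O d
        have hdc := Subgroup.mem_centralizer_iff.mp (hDc hd)
        have hfix : ∀ z ∈ T, z * x * z⁻¹ * x⁻¹ ∈ O := by
          intro z hz
          have h2 : π z * π x = π x * π z := hdc (π z) ⟨z, hz, rfl⟩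
          have h3 : π (z * x * z⁻¹ * x⁻¹) = 1 := by
            simp only [map_mul, map_inv]
            rw [h2]; group
          rw [hπ, QuotientGroup.mk'_apply, QuotientGroup.eq_one_iff] at h3
          exact h3
        obtain ⟨w, hw, hwz⟩ := exists_fixed_in_coset O T hOcop hT
          (by rw [normalizer_eq_top]; exact le_top) x hfix
        have hwxY : w * x ∈ Y := by
          rw [hY, Subgroup.mem_centralizer_iff]
          intro z hz
          have := hwz z hz
          calc z * (w * x) = z * (w * x) * z⁻¹ * z := by group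
            _ = w * x * z := by rw [this]
        set yd : ↥Y := ⟨w * x, hwxY⟩ with hyd
        have hπyd : π (yd : X) = π x := by
          show π (w * x) = π x
          rw [map_mul]
          have : π w = 1 := by
            rw [hπ, QuotientGroup.mk'_apply, QuotientGroup.eq_one_iff]; exact hw
          rw [this, one_mul]
        have hydD : yd ∈ D₀ := by
          rw [hD₀, Subgroup.mem_comap]
          show π (yd : X) ∈ D
          rw [hπyd]; exact hd
        have h5 : ⁅y, yd⁆ ∈ Cfsg.pPrimeCore 2 ↥Y :=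
          h1 (Subgroup.commutator_mem_commutator hy hydD)
        have h6 : π (Y.subtype ⁅y, yd⁆) ∈ W := ⟨_, ⟨_, h5, rfl⟩, rfl⟩
        rw [map_commutatorElement, map_commutatorElement] at h6
        have h7 : π (Y.subtype yd) = π x := hπyd
        rw [h7] at h6
        exact h6
  have hEn : (Cfsg.layer (X ⧸ O)).Normal := layer_normal
  have hDn : ∀ n ∈ normalizer (P : Set (X ⧸ O)),
      ∀ d ∈ Cfsg.layer (X ⧸ O) ⊓ centralizer (P : Set (X ⧸ O)),
      n * d * n⁻¹ ∈ Cfsg.layer (X ⧸ O) ⊓ centralizer (P : Set (X ⧸ O)) := by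
    intro n hn d hd
    rw [Subgroup.mem_inf] at hd ⊢
    exact ⟨hEn.conj_mem d hd.1 n, conj_mem_centralizer_of_mem_normalizer hn hd.2⟩
  rcases hyp.dich _ inf_le_right hDn with h1 | hD
  · exact h1.trans inf_le_left
  · have hIF := hyp.le_centralizer_fitting
    apply le_layer_of_le_sup_centralizer _ hIF
    have hEO : Cfsg.oddCore ↥(Cfsg.layer (X ⧸ O)) = ⊥ :=
      Cfsg.Agent.Helper54.pPrimeCore_eq_bot_of_normal 2 _ hyp.core
    have hI2₀ : Perf2 I₀ := by
      refine ⟨Subgroup.isPerfect_iff.mp hperf0, le_antisymm ?_ ?_⟩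
      · rw [Subgroup.closure_le]
        rintro d ⟨hd, -⟩
        exact hd
      · exact pComponent_le_of_pelements hI₀ fun g hg hk => Subgroup.subset_closure ⟨hg, hk⟩
    have hI2 : Perf2 Ibar := (hI2₀.map Y.subtype).map π
    have hcent := thmB (Cfsg.layer (X ⧸ O)) hEO P hyp.hP Ibar hyp.cent hI2 W hyp.hW hD
    exact hcent.trans le_sup_right

/-- L-balance: for a finite group X and a 2-subgroup T ≤ X, L_{2'}(C_X(T)) ≤ L_{2'}(X). -/
theorem result {X : Type*} [Group X] [Finite X] (T : Subgroup X) (hT : IsPGroup 2 ↥T) : (Cfsg.pLayer 2 ↥(Subgroup.centralizer (T : Set X))).map (Subgroup.centralizer (T : Set X)).subtype ≤ Cfsg.pLayer 2 X := by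
  have hp : Fact (Nat.Prime 2) := ⟨Nat.prime_two⟩
  set Y := Subgroup.centralizer (T : Set X) with hY
  set O := Cfsg.pPrimeCore 2 X with hO
  have hOcop : (Nat.card O).Coprime 2 := card_pPrimeCore_coprime 2
  have hLn : (Cfsg.pLayer 2 X).Normal := Cfsg.Agent.Helper23.pLayer_normal 2
  have key : ∀ I₀ : Subgroup ↥Y, Cfsg.IsPComponent 2 I₀ →
      I₀ ≤ (Cfsg.pLayer 2 X).comap Y.subtype := by
    intro I₀ hI₀
    have h1 := pComponent_map_le_layer T hT Y hY I₀ hI₀
    rw [← Cfsg.Agent.S1277.pLayer_map_eq 2] at h1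
    apply pComponent_le_of_pelements hI₀
    rintro g hg ⟨k, hk⟩
    rw [Subgroup.mem_comap]
    have h2 : QuotientGroup.mk' O (Y.subtype g) ∈ (Cfsg.pLayer 2 X).map (QuotientGroup.mk' O) :=
      h1 ⟨_, ⟨g, hg, rfl⟩, rfl⟩
    obtain ⟨l, hl, hlg⟩ := h2
    have h3 : l⁻¹ * Y.subtype g ∈ O := by
      have : QuotientGroup.mk' O (l⁻¹ * Y.subtype g) = 1 := by
        rw [map_mul, map_inv, hlg]; group
      rw [QuotientGroup.mk'_apply, QuotientGroup.eq_one_iff] at this
      exact this
    have h4 : Y.subtype g ∈ Cfsg.pLayer 2 X ⊔ O := by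
      have : Y.subtype g = l * (l⁻¹ * Y.subtype g) := by group
      rw [this]
      exact Subgroup.mul_mem _ (Subgroup.mem_sup_left hl) (Subgroup.mem_sup_right h3)
    have hk' : (Y.subtype g) ^ 2 ^ k = 1 := by
      rw [← map_pow, hk, map_one]
    exact mem_of_mem_sup_of_pelement (Cfsg.pLayer 2 X) O hOcop h4 hk'
  rw [Subgroup.map_le_iff_le_comap]
  show sSup {K : Subgroup ↥Y | Cfsg.IsPComponent 2 K} ≤ _
  exact sSup_le fun I₀ hI₀ => key I₀ hI₀

end Cfsg.Agent.S1301
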