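import Cfsg.Statements.S1304
import Mathlib

set_option autoImplicit false
open Cfsg
open scoped commutatorElement

namespace Cfsg.Agent.S1304

/-- Let X be a perfect group and α an automorphism of X with α(x) x⁻¹ central for every x. Then α is the identity. -/
theorem result {X : Type*} [Group X] (hperf : commutator X = ⊤) (α : X ≃* X) (h : ∀ x : X, α x * x⁻¹ ∈ Subgroup.center X) : ∀ x : X, α x = x := by
  have key : ∀ a b : X, α ⁅a, b⁆ = ⁅a, b⁆ := by
    intro a b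
    obtain ⟨z, hz, hza⟩ : ∃ z ∈ Subgroup.center X, α a = z * a := ⟨α a * a⁻¹, h a, by group⟩
    obtain ⟨w, hw, hwb⟩ : ∃ w ∈ Subgroup.center X, α b = w * b := ⟨α b * b⁻¹, h b, by group⟩
    rw [Subgroup.mem_center_iff] at hz hw
    simp only [commutatorElement_def, map_mul, map_inv, hza, hwb, mul_inv_rev]
    have e1 : ∀ g : X, g * z⁻¹ = z⁻¹ * g := fun g => by
      have := hz g; calc g * z⁻¹ = z⁻¹ * (z * g) * z⁻¹ := by group
        _ = z⁻¹ * (g * z) * z⁻¹ := by rw [this]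
        _ = z⁻¹ * g := by group
    have e2 : ∀ g : X, g * w⁻¹ = w⁻¹ * g := fun g => by
      have := hw g; calc g * w⁻¹ = w⁻¹ * (w * g) * w⁻¹ := by group
        _ = w⁻¹ * (g * w) * w⁻¹ := by rw [this]
        _ = w⁻¹ * g := by group
    calc z * a * (w * b) * (a⁻¹ * z⁻¹) * (b⁻¹ * w⁻¹)
        = z * (a * w) * b * a⁻¹ * (z⁻¹ * b⁻¹) * w⁻¹ := by group
      _ = z * (w * a) * b * a⁻¹ * (b⁻¹ * z⁻¹) * w⁻¹ := by rw [hw a, e1 b⁻¹]
      _ = (z * w) * (a * b * a⁻¹ * b⁻¹) * z⁻¹ * w⁻¹ := by group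
      _ = (a * b * a⁻¹ * b⁻¹) * (z * w) * z⁻¹ * w⁻¹ := by
          rw [show (z * w) * (a * b * a⁻¹ * b⁻¹) = (a * b * a⁻¹ * b⁻¹) * (z * w) from by
            rw [mul_assoc z, ← hw, ← mul_assoc, ← hz, mul_assoc]]
      _ = (a * b * a⁻¹ * b⁻¹) * z * (w * z⁻¹) * w⁻¹ := by group
      _ = (a * b * a⁻¹ * b⁻¹) * z * (z⁻¹ * w) * w⁻¹ := by rw [e1 w]
      _ = a * b * a⁻¹ * b⁻¹ := by group
  have hle : commutator X ≤ (MonoidHom.eqLocus α.toMonoidHom (MonoidHom.id X)) := by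
    rw [commutator_def, Subgroup.commutator_le]
    intro a _ b _
    exact key a b
  rw [hperf] at hle
  intro x
  exact hle (Subgroup.mem_top x)

end Cfsg.Agent.S1304
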