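import Cfsg.Statements.S1305
import Cfsg.Agent.Lib.Helper22.MaxComp5
import Cfsg.Agent.S1301

set_option autoImplicit false
open Cfsg

namespace Cfsg.Agent.S1305

open Cfsg.Agent.Helper22 Cfsg.Agent.Helper22.LBal Cfsg.Agent.Helper22.BBal Cfsg.Agent.Helper22.MaxComp
open scoped commutatorElement

/-- Let G be a finite group of component type with the B-property and no nontrivial normal subgroup of odd order. Let a be an involution and K a component of C_G(a) such that (a) |K| is maximal among the orders of components of centralizers of involutions of G, (b) subject to (a) the 2-rank of the centralizer of K in C_G(a) is as large as possible, and (c) K has 2-rank at least 2. If B is an elementary abelian 2-subgroup of that centralizer of the largest possible order, then K is a component of C_G(b) for every non-identity b ∈ B. -/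
theorem result {G : Type*} [Group G] [Finite G] (hO : Cfsg.oddCore G = ⊥) (hB : Cfsg.HasBProperty G) (hct : Cfsg.IsComponentType G) (a : G) (ha : orderOf a = 2) (K : Subgroup G) (hKa : K ≤ Subgroup.centralizer ({a} : Set G)) (hK : Cfsg.IsComponent (K.subgroupOf (Subgroup.centralizer ({a} : Set G)))) (hmax : ∀ y : G, orderOf y = 2 → ∀ K' : Subgroup G, K' ≤ Subgroup.centralizer ({y} : Set G) → Cfsg.IsComponent (K'.subgroupOf (Subgroup.centralizer ({y} : Set G))) → Nat.card ↥K' ≤ Nat.card ↥K ∧ (Nat.card ↥K' = Nat.card ↥K → ∀ k : ℕ, Cfsg.PRankLE 2 k ↥(Subgroup.centralizer ({a} : Set G) ⊓ Subgroup.centralizer (K : Set G)) → Cfsg.PRankLE 2 k ↥(Subgroup.centralizer ({y} : Set G) ⊓ Subgroup.centralizer (K' : Set G)))) (hrk : ¬ Cfsg.PRankLE 2 1 ↥K) (B : Subgroup G) (hBle : B ≤ Subgroup.centralizer ({a} : Set G) ⊓ Subgroup.centralizer (K : Set G)) (hBel : Cfsg.IsElementaryAbelian 2 B) (hBmax : ∀ B' : Subgroup G, B' ≤ Subgroup.centralizer ({a} : Set G) ⊓ Subgroup.centralizer (K : Set G) → Cfsg.IsElementaryAbelian 2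 B' → Nat.card ↥B' ≤ Nat.card ↥B) (b : G) (hb : b ∈ B) (hb1 : b ≠ 1) : K ≤ Subgroup.centralizer ({b} : Set G) ∧ Cfsg.IsComponent (K.subgroupOf (Subgroup.centralizer ({b} : Set G))) := by
  classical
  have : Fact (Nat.Prime 2) := ⟨Nat.prime_two⟩
  -- basic facts
  have hBCa : B ≤ Subgroup.centralizer ({a} : Set G) := hBle.trans inf_le_left
  have hBCK : B ≤ Subgroup.centralizer (K : Set G) := hBle.trans inf_le_right
  have hbK : b ∈ Subgroup.centralizer (K : Set G) := hBCK hb
  have hKb : K ≤ Subgroup.centralizer ({b} : Set G) := by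
    intro k hk
    rw [Subgroup.mem_centralizer_singleton_iff]
    exact Subgroup.mem_centralizer_iff.mp hbK k hk
  refine ⟨hKb, ?_⟩
  have hb2 : b ^ 2 = 1 := hBel.2 b hb
  have hbo : orderOf b = 2 := orderOf_eq_prime hb2 hb1
  have hab : a * b = b * a := (Subgroup.mem_centralizer_singleton_iff.mp (hBCa hb)).symm
  have haCb : a ∈ Subgroup.centralizer ({b} : Set G) := by
    rw [Subgroup.mem_centralizer_singleton_iff]; exact hab
  have ha2 : a * a = 1 := by rw [← pow_two, ← ha]; exact pow_orderOf_eq_one a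
  have hBCb : B ≤ Subgroup.centralizer ({b} : Set G) := by
    intro x hx
    rw [Subgroup.mem_centralizer_singleton_iff]
    exact elemAb_comm hBel hx hb
  set Cb := Subgroup.centralizer ({b} : Set G) with hCb
  set Ca := Subgroup.centralizer ({a} : Set G) with hCa
  let a' : ↥Cb := ⟨a, haCb⟩
  have ha'2 : a' * a' = 1 := Subtype.ext ha2
  set KX : Subgroup ↥Cb := K.subgroupOf Cb with hKX
  have hKq : Cfsg.IsQuasisimple ↥K :=
    IsQuasisimple.of_mulEquiv (Subgroup.subgroupOfEquivOfLe hKa) hK.2
  have hKXq : Cfsg.IsQuasisimple ↥KX :=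
    IsQuasisimple.of_mulEquiv (Subgroup.subgroupOfEquivOfLe hKb).symm hKq
  have hKXcard : Nat.card KX = Nat.card K := card_subgroupOf_of_le hKb
  have hKXa : KX ≤ Subgroup.centralizer ({a'} : Set ↥Cb) := by
    intro x hx
    rw [Subgroup.mem_centralizer_singleton_iff]
    apply Subtype.ext
    exact Subgroup.mem_centralizer_singleton_iff.mp (hKa (Subgroup.mem_subgroupOf.mp hx))
  have hCaX : Ca.subgroupOf Cb = Subgroup.centralizer ({a'} : Set ↥Cb) := by
    ext x
    rw [Subgroup.mem_subgroupOf, hCa, Subgroup.mem_centralizer_singleton_iff,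
      Subgroup.mem_centralizer_singleton_iff, Subtype.ext_iff]
    rfl
  have hKXsn : SubnormalIn KX (Subgroup.centralizer ({a'} : Set ↥Cb)) := by
    have h1 : SubnormalIn K Ca := ⟨hKa, hK.1⟩
    have := h1.subgroupOf Cb
    rwa [hCaX] at this
  -- K has even order
  obtain ⟨A₀, hA₀K, hA₀el, hA₀card⟩ := exists_elemAb_of_not_pRankLE hrk
  have h2K : 2 ∣ Nat.card K :=
    (two_dvd_card_of_elemAb hA₀el hA₀card).trans (Subgroup.card_dvd_of_le hA₀K)
  -- L-balance
  have hKXE : KX ≤ Cfsg.layer ↥Cb := by
    set T : Subgroup ↥Cb := Subgroup.zpowers a' with hT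
    have hTp : IsPGroup 2 ↥T := by
      have h1 : Nat.card ↥T = 2 ^ 1 := by
        rw [hT, Nat.card_zpowers, pow_one]
        have : orderOf a' = orderOf (a' : G) := (Subgroup.orderOf_coe a').symm
        rw [this]; exact ha
      exact IsPGroup.of_card h1
    have hY : Subgroup.centralizer ((T : Subgroup ↥Cb) : Set ↥Cb) =
        Subgroup.centralizer ({a'} : Set ↥Cb) := by
      apply le_antisymm
      · refine Subgroup.centralizer_le ?_
        intro x hx
        rw [Set.mem_singleton_iff] at hx
        rw [hx]; exact Subgroup.mem_zpowers a'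
      · intro x hx
        rw [Subgroup.mem_centralizer_iff]
        intro h hh
        obtain ⟨i, rfl⟩ := Subgroup.mem_zpowers_iff.mp hh
        have hc : Commute a' x := (Subgroup.mem_centralizer_singleton_iff.mp hx).symm
        exact (hc.zpow_left i).eq
    have hLB := Cfsg.Agent.S1301.result T hTp
    have hsn : SubnormalIn KX (Subgroup.centralizer ((T : Subgroup ↥Cb) : Set ↥Cb)) := by
      rw [hY]; exact hKXsn
    set Y := Subgroup.centralizer ((T : Subgroup ↥Cb) : Set ↥Cb) with hYdef
    have hKY : Cfsg.IsComponent (KX.subgroupOf Y) :=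
      ⟨hsn.2, IsQuasisimple.of_mulEquiv (Subgroup.subgroupOfEquivOfLe hsn.1).symm hKXq⟩
    have hKYcard : 2 ∣ Nat.card (KX.subgroupOf Y) := by
      rw [card_subgroupOf_of_le hsn.1, hKXcard]; exact h2K
    have h1 : KX.subgroupOf Y ≤ Cfsg.pLayer 2 ↥Y := component_le_pLayer hKY hKYcard
    have h2 : KX ≤ Cfsg.pLayer 2 ↥Cb := by
      have := Subgroup.map_mono (f := Y.subtype) h1
      rw [Subgroup.map_subgroupOf_eq_of_le hsn.1] at this
      exact this.trans hLB
    have h3 := hB b hbo
    rw [hO] at h3
    have h4 : ⁅Cfsg.pLayer 2 ↥Cb, Cfsg.pPrimeCore 2 ↥Cb⁆ = ⊥ :=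
      (Subgroup.map_eq_bot_iff_of_injective _ Cb.subtype_injective).mp (le_bot_iff.mp h3)
    exact h2.trans (pLayer_le_layer_of_commutator_eq_bot h4)
  -- the dichotomy
  obtain ⟨L, hL, hcase⟩ := exists_component_le_or_diag ha'2 hKXq hKXa hKXsn hKXE
  have hLG : L.map Cb.subtype ≤ Cb := Subgroup.map_subtype_le L
  have hLGe : (L.map Cb.subtype).subgroupOf Cb = L :=
    Subgroup.comap_map_eq_self_of_injective Cb.subtype_injective L
  have hmaxL := hmax b hbo (L.map Cb.subtype) hLG (by rw [hLGe]; exact hL)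
  rw [card_map_subtype] at hmaxL
  rcases hcase with hle | ⟨hne, hdiag⟩
  · have : KX = L := Subgroup.eq_of_le_of_card_ge hle (by rw [hKXcard]; exact hmaxL.1)
    rw [this]; exact hL
  · exfalso
    have hKL : Nat.card KX ≤ Nat.card L := by
      have hdiag' := hdiag
      choose! g hgL hg using hdiag'
      refine Nat.card_le_card_of_injective (fun k : ↥KX => (⟨g k, hgL k k.2⟩ : ↥L)) ?_
      intro k k' hkk
      have h1 : g k = g k' := congrArg Subtype.val hkk
      apply Subtype.ext
      rw [hg k k.2, hg k' k'.2, h1]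
    have hLcard : Nat.card L = Nat.card K := le_antisymm hmaxL.1 (hKXcard ▸ hKL)
    -- data for the construction
    have hBxK : B.subgroupOf Cb ≤ Subgroup.centralizer (KX : Set ↥Cb) := by
      intro x hx
      rw [Subgroup.mem_centralizer_iff]
      intro k hk
      apply Subtype.ext
      exact Subgroup.mem_centralizer_iff.mp (hBCK (Subgroup.mem_subgroupOf.mp hx)) k
        (Subgroup.mem_subgroupOf.mp hk)
    have hBxa : B.subgroupOf Cb ≤ Subgroup.centralizer ({a'} : Set ↥Cb) := by
      intro x hx
      rw [Subgroup.mem_centralizer_singleton_iff]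
      apply Subtype.ext
      exact Subgroup.mem_centralizer_singleton_iff.mp (hBCa (Subgroup.mem_subgroupOf.mp hx))
    have hAX : A₀.subgroupOf Cb ≤ KX := by
      intro x hx
      exact Subgroup.mem_subgroupOf.mpr (hA₀K (Subgroup.mem_subgroupOf.mp hx))
    obtain ⟨W, hWel, hWc, hWcard⟩ := exists_large_elementary ha'2 hKXq hL hne hdiag
      (by rw [hKXcard, hLcard]) hBxK hBxa (elemAb_subgroupOf Cb hBel) hAX
      (elemAb_subgroupOf Cb hA₀el)
      (by rw [card_subgroupOf_of_le (hA₀K.trans hKb)]; exact hA₀card)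
    rw [card_subgroupOf_of_le hBCb] at hWcard
    -- the second component
    set L' : Subgroup ↥Cb := conjS a' L with hL'
    have hL'c : Cfsg.IsComponent L' := IsComponent.conj hL a'
    have hL'G : L'.map Cb.subtype ≤ Cb := Subgroup.map_subtype_le L'
    have hL'Ge : (L'.map Cb.subtype).subgroupOf Cb = L' :=
      Subgroup.comap_map_eq_self_of_injective Cb.subtype_injective L'
    have hmaxL' := hmax b hbo (L'.map Cb.subtype) hL'G (by rw [hL'Ge]; exact hL'c)
    rw [card_map_subtype] at hmaxL'
    have hL'card : Nat.card L' = Nat.card K := by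
      rw [hL', card_conjS]; exact hLcard
    obtain ⟨k, hk⟩ := exists_card_eq_two_pow hBel
    have hPR : Cfsg.PRankLE 2 k ↥(Ca ⊓ Subgroup.centralizer (K : Set G)) := by
      apply pRankLE_of_forall
      intro W' hW'le hW'el
      rw [← hk]
      exact hBmax W' hW'le hW'el
    have hPR' := hmaxL'.2 hL'card k hPR
    have hWG : W.map Cb.subtype ≤
        Cb ⊓ Subgroup.centralizer ((L'.map Cb.subtype : Subgroup G) : Set G) := by
      refine le_inf (Subgroup.map_subtype_le W) ?_
      rintro _ ⟨w, hw, rfl⟩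
      rw [Subgroup.mem_centralizer_iff]
      rintro _ ⟨y, hy, rfl⟩
      have := Subgroup.mem_centralizer_iff.mp (hWc hw) y hy
      exact congrArg Subtype.val this
    have h5 := card_le_of_pRankLE hPR' hWG (elemAb_map Cb.subtype hWel)
    rw [card_map_subtype, ← hk] at h5
    have hBpos : 0 < Nat.card B := Nat.card_pos
    omega

end Cfsg.Agent.S1305
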