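import Cfsg.Statements.S1306
import Cfsg.Agent.Lib.Helper22.Components

set_option autoImplicit false
open Cfsg

namespace Cfsg.Agent.S1306

open Cfsg.Agent.Helper22 Subgroup

variable {G : Type*} [Group G]

theorem conj_centralizer_singleton (g y : G) :
    (centralizer ({y} : Set G)).map ((MulAut.conj g : G ≃* G) : G →* G) =
      centralizer ({g * y * g⁻¹} : Set G) := by
  ext z
  simp only [mem_map, mem_centralizer_iff, Set.mem_singleton_iff, forall_eq, MonoidHom.coe_coe,
    MulAut.conj_apply]
  constructor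
  · rintro ⟨c, hc, rfl⟩
    calc g * y * g⁻¹ * (g * c * g⁻¹) = g * (y * c) * g⁻¹ := by group
      _ = g * (c * y) * g⁻¹ := by rw [hc]
      _ = g * c * g⁻¹ * (g * y * g⁻¹) := by group
  · intro hz
    refine ⟨g⁻¹ * z * g, ?_, by group⟩
    calc y * (g⁻¹ * z * g) = g⁻¹ * (g * y * g⁻¹ * z) * g := by group
      _ = g⁻¹ * (z * (g * y * g⁻¹)) * g := by rw [hz]
      _ = g⁻¹ * z * g * y := by group

theorem mem_map_conj_iff {K : Subgroup G} {g y : G} :
    y ∈ K.map ((MulAut.conj g : G ≃* G) : G →* G) ↔ g⁻¹ * y * g ∈ K := by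
  simp only [mem_map, MonoidHom.coe_coe, MulAut.conj_apply]
  constructor
  · rintro ⟨k, hk, rfl⟩
    have : g⁻¹ * (g * k * g⁻¹) * g = k := by group
    rwa [this]
  · intro h
    exact ⟨g⁻¹ * y * g, h, by group⟩

theorem normalizer_le_normalizer_centralizer (L : Subgroup G) :
    normalizer (L : Set G) ≤ normalizer ((centralizer (L : Set G) : Subgroup G) : Set G) := by
  intro g hg
  rw [mem_normalizer_iff]
  intro k
  simp only [mem_centralizer_iff, SetLike.mem_coe]
  have hg' : g⁻¹ ∈ normalizer (L : Set G) := inv_mem hg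
  constructor
  · intro hk l hl
    have hl' : g⁻¹ * l * g ∈ L := by
      have := (mem_normalizer_iff.mp hg' l).mp hl
      simpa using this
    have := hk _ hl'
    calc l * (g * k * g⁻¹) = g * (g⁻¹ * l * g * k) * g⁻¹ := by group
      _ = g * (k * (g⁻¹ * l * g)) * g⁻¹ := by rw [this]
      _ = g * k * g⁻¹ * l := by group
  · intro hk l hl
    have hl' : g * l * g⁻¹ ∈ L := (mem_normalizer_iff.mp hg l).mp hl
    have := hk _ hl'
    calc l * k = g⁻¹ * (g * l * g⁻¹ * (g * k * g⁻¹)) * g := by group
      _ = g⁻¹ * (g * k * g⁻¹ * (g * l * g⁻¹)) * g := by rw [this]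
      _ = k * l := by group

/-- Let G be finite, x an involution and L ≤ C_G(x) a component of C_G(x). Suppose L is a component of C_G(y) for every involution y ∈ C_G(L), and ⁅L, g L g⁻¹⁆ ≠ 1 whenever g L g⁻¹ ≠ L. Then L is a standard subgroup of G. -/
theorem result {G : Type*} [Group G] [Finite G] (x : G) (hx : orderOf x = 2) (L : Subgroup G) (hLx : L ≤ Subgroup.centralizer ({x} : Set G)) (hL : Cfsg.IsComponent (L.subgroupOf (Subgroup.centralizer ({x} : Set G)))) (hne : ∀ y : G, orderOf y = 2 → y ∈ Subgroup.centralizer (L : Set G) → L ≤ Subgroup.centralizer ({y} : Set G) ∧ Cfsg.IsComponent (L.subgroupOf (Subgroup.centralizer ({y} : Set G)))) (hnc : ∀ g : G, L.map (MulAut.conj g).toMonoidHom ≠ L → ⁅L, L.map (MulAut.conj g).toMonoidHom⁆ ≠ ⊥) : Cfsg.IsStandardSubgroup L := by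
  set K := Subgroup.centralizer (L : Set G) with hK
  have hxK : x ∈ K := by
    rw [hK, mem_centralizer_iff]
    intro l hl
    have := mem_centralizer_iff.mp (hLx hl) x rfl
    exact this.symm
  -- core: an involution in `K ∩ K^g` forces `L^g = L`
  have core : ∀ g y : G, orderOf y = 2 → y ∈ K →
      y ∈ K.map ((MulAut.conj g : G ≃* G) : G →* G) →
      L.map ((MulAut.conj g : G ≃* G) : G →* G) = L := by
    intro g y hy hyK hyKg
    obtain ⟨h1, h2⟩ := hne y hy hyK
    rw [mem_map_conj_iff] at hyKg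
    set y' := g⁻¹ * y * g with hy'
    have hy'o : orderOf y' = 2 := by
      have : y' = (MulAut.conj g⁻¹ : G ≃* G) y := by simp [hy', MulAut.conj_apply]
      rw [this, MulEquiv.orderOf_eq]; exact hy
    obtain ⟨h3, h4⟩ := hne y' hy'o hyKg
    have h5 := IsComponent.subgroupOf_map_mulEquiv (MulAut.conj g : G ≃* G) h3 h4
    have h6 : g * y' * g⁻¹ = y := by rw [hy']; group
    rw [conj_centralizer_singleton, h6] at h5
    have h7 : L.map ((MulAut.conj g : G ≃* G) : G →* G) ≤ centralizer ({y} : Set G) := by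
      have := Subgroup.map_mono (f := ((MulAut.conj g : G ≃* G) : G →* G)) h3
      rwa [conj_centralizer_singleton, h6] at this
    rcases relative_component_eq_or_commute h7 h1 h5 h2 with h | h
    · exact h
    · by_contra hcon
      have := hnc g hcon
      apply this
      rw [commutator_comm]
      exact h
  refine ⟨?_, ⟨?_, ?_⟩, hnc, ?_⟩
  · exact IsQuasisimple.of_mulEquiv (subgroupOfEquivOfLe hLx) hL.2
  · -- even order
    have h2 : orderOf (⟨x, hxK⟩ : K) = 2 := by
      rw [← hx]; exact Subgroup.orderOf_mk x hxK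
    have := orderOf_dvd_natCard (⟨x, hxK⟩ : K)
    rw [h2] at this
    exact even_iff_two_dvd.mpr this
  · intro g hg
    by_contra hodd
    rw [Nat.not_odd_iff_even, even_iff_two_dvd] at hodd
    haveI : Fact (Nat.Prime 2) := ⟨Nat.prime_two⟩
    obtain ⟨⟨y, hyKK⟩, hyo⟩ := exists_prime_orderOf_dvd_card' 2 hodd
    have hyo' : orderOf y = 2 := by
      rw [← hyo]; exact (Subgroup.orderOf_mk y hyKK).symm
    have hLg := core g y hyo' hyKK.1 hyKK.2
    apply hg
    apply normalizer_le_normalizer_centralizer L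
    rw [mem_normalizer_iff_map_conj_eq]
    exact hLg
  · apply le_antisymm (normalizer_le_normalizer_centralizer L)
    intro g hg
    rw [mem_normalizer_iff_map_conj_eq] at hg ⊢
    have hxKg : x ∈ K.map ((MulAut.conj g : G ≃* G) : G →* G) := by
      rw [hg]; exact hxK
    exact core g x hx hxK hxKg

end Cfsg.Agent.S1306
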