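import Cfsg.Statements.S1313
import Cfsg.Agent.Lib.Helper22.Bender

set_option autoImplicit false
open Cfsg

namespace Cfsg.Agent.S1313

open Cfsg.Agent.Helper22 Subgroup

theorem card_mulAut_mul_card_le {F : Type*} [Group F] [Finite F] :
    Nat.card (MulAut F) * Nat.card F ≤ Nat.factorial (Nat.card F) := by
  rw [← Nat.card_perm, ← Nat.card_prod]
  let f : MulAut F × F → Equiv.Perm F := fun ez => ez.1.toEquiv.trans (Equiv.mulRight ez.2)
  have hf : Function.Injective f := by
    rintro ⟨e, z⟩ ⟨e', z'⟩ h
    have h1 : ∀ x, e x * z = e' x * z' := by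
      intro x
      have := congrArg (fun σ : Equiv.Perm F => σ x) h
      simpa [f] using this
    have hz : z = z' := by simpa using h1 1
    subst hz
    have he : e = e' := by
      apply MulEquiv.ext
      intro x
      exact mul_right_cancel (h1 x)
    rw [he]
  exact Nat.card_le_card_of_injective f hf

/-- For a finite group H, |H| ≤ |F*(H)|!. -/
theorem result {H : Type*} [Group H] [Finite H] : Nat.card H ≤ Nat.factorial (Nat.card ↥(Cfsg.generalizedFittingSubgroup H)) := by
  set Fs := Cfsg.generalizedFittingSubgroup H with hFs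
  let φ : H →* MulAut Fs := MulAut.conjNormal
  have hker : φ.ker ≤ Fs := by
    intro g hg
    apply centralizer_generalizedFittingSubgroup_le
    rw [mem_centralizer_iff]
    intro x hx
    rw [MonoidHom.mem_ker] at hg
    have := congrArg (fun e : MulAut Fs => ((e ⟨x, hx⟩ : Fs) : H)) hg
    simp only [φ, MulAut.conjNormal_apply, MulAut.one_apply] at this
    calc x * g = (g * x * g⁻¹) * g := by rw [this]
      _ = g * x := by group
  have h1 : Nat.card φ.ker * Nat.card φ.range = Nat.card H := by
    rw [← Subgroup.index_ker]; exact Subgroup.card_mul_index _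
  have h2 : Nat.card φ.ker ≤ Nat.card Fs := Subgroup.card_le_of_le hker
  have h3 : Nat.card φ.range ≤ Nat.card (MulAut Fs) := Subgroup.card_le_card_group _
  calc Nat.card H = Nat.card φ.ker * Nat.card φ.range := h1.symm
    _ ≤ Nat.card Fs * Nat.card (MulAut Fs) := Nat.mul_le_mul h2 h3
    _ = Nat.card (MulAut Fs) * Nat.card Fs := mul_comm _ _
    _ ≤ Nat.factorial (Nat.card Fs) := card_mulAut_mul_card_le

end Cfsg.Agent.S1313
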