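import Cfsg.Statements.S1314

set_option autoImplicit false
open Cfsg

namespace Cfsg.Agent.S1314

open scoped commutatorElement

/-- If `A` and `B` commute elementwise, every element of `A ⊔ B` is a product `a * b`. -/
theorem mem_sup_of_commute {G : Type*} [Group G] {A B : Subgroup G}
    (h : ∀ a ∈ A, ∀ b ∈ B, b * a = a * b) {x : G}
    (hx : x ∈ A ⊔ B) : ∃ a ∈ A, ∃ b ∈ B, x = a * b := by
  rw [Subgroup.sup_eq_closure] at hx
  induction hx using Subgroup.closure_induction with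
  | mem x hx =>
    rcases hx with hx | hx
    · exact ⟨x, hx, 1, B.one_mem, by simp⟩
    · exact ⟨1, A.one_mem, x, hx, by simp⟩
  | one => exact ⟨1, A.one_mem, 1, B.one_mem, by simp⟩
  | mul x y _ _ ihx ihy =>
    obtain ⟨a1, ha1, b1, hb1, rfl⟩ := ihx
    obtain ⟨a2, ha2, b2, hb2, rfl⟩ := ihy
    refine ⟨a1 * a2, A.mul_mem ha1 ha2, b1 * b2, B.mul_mem hb1 hb2, ?_⟩
    have hc : b1 * a2 = a2 * b1 := h a2 ha2 b1 hb1
    calc a1 * b1 * (a2 * b2) = a1 * (b1 * a2) * b2 := by group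
      _ = a1 * (a2 * b1) * b2 := by rw [hc]
      _ = a1 * a2 * (b1 * b2) := by group
  | inv x _ ih =>
    obtain ⟨a, ha, b, hb, rfl⟩ := ih
    refine ⟨a⁻¹, A.inv_mem ha, b⁻¹, B.inv_mem hb, ?_⟩
    have hc : b⁻¹ * a⁻¹ = a⁻¹ * b⁻¹ := h a⁻¹ (A.inv_mem ha) b⁻¹ (B.inv_mem hb)
    rw [mul_inv_rev, hc]

/-- Central factors drop out of commutators. -/
theorem comm_central {G : Type*} [Group G] (p1 p2 c1 c2 : G)
    (h12 : c1 * p2 = p2 * c1) (h21 : c2 * p1 = p1 * c2) (hcc : c1 * c2 = c2 * c1) :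
    ⁅p1 * c1, p2 * c2⁆ = ⁅p1, p2⁆ := by
  rw [commutatorElement_def, commutatorElement_def]
  have e2 : c2 * p1⁻¹ = p1⁻¹ * c2 := by
    calc c2 * p1⁻¹ = p1⁻¹ * (p1 * c2) * p1⁻¹ := by group
      _ = p1⁻¹ * (c2 * p1) * p1⁻¹ := by rw [h21]
      _ = p1⁻¹ * c2 := by group
  calc p1 * c1 * (p2 * c2) * (p1 * c1)⁻¹ * (p2 * c2)⁻¹
      = p1 * (c1 * p2) * c2 * c1⁻¹ * p1⁻¹ * c2⁻¹ * p2⁻¹ := by group
    _ = p1 * (p2 * c1) * c2 * c1⁻¹ * p1⁻¹ * c2⁻¹ * p2⁻¹ := by rw [h12]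
    _ = p1 * p2 * (c1 * c2) * c1⁻¹ * p1⁻¹ * c2⁻¹ * p2⁻¹ := by group
    _ = p1 * p2 * (c2 * c1) * c1⁻¹ * p1⁻¹ * c2⁻¹ * p2⁻¹ := by rw [hcc]
    _ = p1 * p2 * (c2 * p1⁻¹) * c2⁻¹ * p2⁻¹ := by group
    _ = p1 * p2 * (p1⁻¹ * c2) * c2⁻¹ * p2⁻¹ := by rw [e2]
    _ = p1 * p2 * p1⁻¹ * p2⁻¹ := by group

/-- Let x be an involution of a group G and L a perfect subgroup with ⁅L, x L x⁻¹⁆ = 1. Then l ↦ l (x l x⁻¹) is a group homomorphism π from L to G whose kernel is central in L and whose image lies in C_G(x); and the commutator subgroup of C_{L ⊔ xLx⁻¹}(x) equals the image of π. -/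
theorem result {G : Type*} [Group G] [Finite G] (x : G) (hx : orderOf x = 2) (L : Subgroup G) (hperf : ⁅L, L⁆ = L) (hcomm : ⁅L, L.map (MulAut.conj x).toMonoidHom⁆ = ⊥) : ∃ π : ↥L →* G, (∀ l : ↥L, π l = (l : G) * (x * (l : G) * x⁻¹)) ∧ π.ker ≤ Subgroup.center ↥L ∧ π.range ≤ Subgroup.centralizer ({x} : Set G) ∧ ⁅(L ⊔ L.map (MulAut.conj x).toMonoidHom) ⊓ Subgroup.centralizer ({x} : Set G), (L ⊔ L.map (MulAut.conj x).toMonoidHom) ⊓ Subgroup.centralizer ({x} : Set G)⁆ = π.range := by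
  have hx2 : x * x = 1 := by rw [← pow_two, ← hx, pow_orderOf_eq_one]
  have hxinv : x⁻¹ = x := inv_eq_of_mul_eq_one_left hx2
  set Lx := L.map (MulAut.conj x).toMonoidHom with hLx
  have hmemLx : ∀ g : G, g ∈ Lx ↔ ∃ b ∈ L, g = x * b * x⁻¹ := by
    intro g
    rw [hLx, Subgroup.mem_map]
    constructor
    · rintro ⟨b, hb, rfl⟩
      exact ⟨b, hb, rfl⟩
    · rintro ⟨b, hb, rfl⟩
      exact ⟨b, hb, rfl⟩
  -- `L` and `L^x` commute
  have hc' : ∀ a ∈ L, ∀ g ∈ Lx, g * a = a * g := by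
    intro a ha g hg
    exact (Subgroup.commutator_eq_bot_iff_le_centralizer.mp hcomm) ha g hg
  have hc : ∀ a ∈ L, ∀ b ∈ L, (x * b * x⁻¹) * a = a * (x * b * x⁻¹) := by
    intro a ha b hb
    exact hc' a ha _ ((hmemLx _).mpr ⟨b, hb, rfl⟩)
  -- the homomorphism
  let π : ↥L →* G :=
    { toFun := fun l => (l : G) * (x * (l : G) * x⁻¹)
      map_one' := by simp
      map_mul' := by
        intro a b
        have h1 := hc b b.2 a a.2
        show ((a * b : L) : G) * (x * ((a * b : L) : G) * x⁻¹) = _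
        rw [Subgroup.coe_mul]
        calc (a : G) * b * (x * ((a : G) * b) * x⁻¹)
            = (a : G) * (b * (x * a * x⁻¹)) * (x * b * x⁻¹) := by group
          _ = (a : G) * ((x * a * x⁻¹) * b) * (x * b * x⁻¹) := by rw [h1]
          _ = (a : G) * (x * a * x⁻¹) * (b * (x * b * x⁻¹)) := by group }
  have hπ : ∀ l : ↥L, π l = (l : G) * (x * (l : G) * x⁻¹) := fun l => rfl
  -- range is in the centralizer
  have hrange : π.range ≤ Subgroup.centralizer ({x} : Set G) := by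
    rintro _ ⟨l, rfl⟩
    rw [Subgroup.mem_centralizer_singleton_iff, hπ]
    have h1 := hc l l.2 l l.2
    have e1 : x * ((l : G) * (x * l * x⁻¹)) = (x * l * x⁻¹) * ((x * x) * l * (x * x)⁻¹) * x := by
      group
    rw [e1, hx2]
    simp only [one_mul, inv_one, mul_one]
    rw [h1]
  -- elements of `L ∩ L^x` commute with `L` and with `L^x`
  have hcentL : ∀ z ∈ L, z ∈ Lx → ∀ a ∈ L, z * a = a * z := by
    intro z _ hzx a ha
    exact hc' a ha z hzx
  have hcentLx : ∀ z ∈ L, z ∈ Lx → ∀ g ∈ Lx, z * g = g * z := by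
    intro z hz _ g hg
    exact (hc' z hz g hg).symm
  -- conjugation by `x` swaps `L` and `L^x`
  have hswap1 : ∀ z ∈ L, x * z * x⁻¹ ∈ Lx := fun z hz => (hmemLx _).mpr ⟨z, hz, rfl⟩
  have hswap2 : ∀ z ∈ Lx, x * z * x⁻¹ ∈ L := by
    intro z hz
    obtain ⟨b, hb, rfl⟩ := (hmemLx _).mp hz
    have : x * (x * b * x⁻¹) * x⁻¹ = (x * x) * b * (x * x)⁻¹ := by group
    rw [this, hx2]
    simpa using hb
  -- kernel
  have hker : π.ker ≤ Subgroup.center ↥L := by
    intro l hl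
    rw [MonoidHom.mem_ker, hπ] at hl
    have h1 : x * (l : G) * x⁻¹ = (l : G)⁻¹ := by
      rw [eq_inv_iff_mul_eq_one]
      have : (x * (l : G) * x⁻¹) * l = l * (x * l * x⁻¹) := hc l l.2 l l.2
      rw [this, hl]
    have h2 : (l : G)⁻¹ ∈ Lx := by
      rw [← h1]
      exact hswap1 _ l.2
    have h3 : (l : G) ∈ Lx := by simpa using Lx.inv_mem h2
    rw [Subgroup.mem_center_iff]
    intro a
    apply Subtype.ext
    rw [Subgroup.coe_mul, Subgroup.coe_mul]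
    exact (hcentL l l.2 h3 a a.2).symm
  refine ⟨π, hπ, hker, hrange, ?_⟩
  set D := (L ⊔ Lx) ⊓ Subgroup.centralizer ({x} : Set G) with hD
  apply le_antisymm
  · -- `[D, D] ≤ range π`
    -- structure of elements of `D`
    have hstruct : ∀ d ∈ D, ∃ a : ↥L, ∃ c : G, d = π a * c ∧ c ∈ L ∧
        (∀ g ∈ L, c * g = g * c) ∧ (∀ g ∈ Lx, c * g = g * c) := by
      intro d hd
      obtain ⟨hd1, hd2⟩ := Subgroup.mem_inf.mp hd
      obtain ⟨a, ha, b', hb', rfl⟩ := mem_sup_of_commute hc' hd1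
      obtain ⟨b, hb, rfl⟩ := (hmemLx _).mp hb'
      rw [Subgroup.mem_centralizer_singleton_iff] at hd2
      -- hd2 : x * (a * (x * b * x⁻¹)) = a * (x * b * x⁻¹) * x
      have h1 : (x * a * x⁻¹) * b = a * (x * b * x⁻¹) := by
        have e1 : (x * a * x⁻¹) * ((x * x) * b * (x * x)⁻¹) = x * (a * (x * b * x⁻¹)) * x⁻¹ := by
          group
        rw [hx2] at e1
        simp only [one_mul, inv_one, mul_one] at e1
        rw [e1, ← hd2]
        group
      -- z = a⁻¹ * b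
      have h2 : a⁻¹ * b = x * (b * a⁻¹) * x⁻¹ := by
        have e1 : b * (x * a * x⁻¹) = (x * a * x⁻¹) * b := (hc b hb a ha).symm
        have e2 : x * (b * a⁻¹) * x⁻¹ = (x * b * x⁻¹) * (x * a * x⁻¹)⁻¹ := by group
        rw [e2, eq_mul_inv_iff_mul_eq]
        calc a⁻¹ * b * (x * a * x⁻¹) = a⁻¹ * (b * (x * a * x⁻¹)) := by group
          _ = a⁻¹ * ((x * a * x⁻¹) * b) := by rw [e1]
          _ = a⁻¹ * (a * (x * b * x⁻¹)) := by rw [h1]
          _ = x * b * x⁻¹ := by group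
      have hzL : a⁻¹ * b ∈ L := L.mul_mem (L.inv_mem ha) hb
      have hzLx : a⁻¹ * b ∈ Lx := by
        rw [h2]
        exact hswap1 _ (L.mul_mem hb (L.inv_mem ha))
      set z := a⁻¹ * b with hz
      have hzxL : x * z * x⁻¹ ∈ L := hswap2 z hzLx
      have hzxLx : x * z * x⁻¹ ∈ Lx := hswap1 z hzL
      refine ⟨⟨a, ha⟩, x * z * x⁻¹, ?_, hzxL, ?_, ?_⟩
      · rw [hπ]
        show a * (x * b * x⁻¹) = a * (x * a * x⁻¹) * (x * z * x⁻¹)
        rw [hz]
        group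
      · intro g hg
        exact hcentL _ hzxL hzxLx g hg
      · intro g hg
        exact hcentLx _ hzxL hzxLx g hg
    rw [Subgroup.commutator_le]
    intro d1 hd1 d2 hd2
    obtain ⟨a1, c1, rfl, hc1mem, hc1L, hc1Lx⟩ := hstruct d1 hd1
    obtain ⟨a2, c2, rfl, hc2mem, hc2L, hc2Lx⟩ := hstruct d2 hd2
    -- `c1`, `c2` commute with `π a` for every `a`
    have hcπ : ∀ c : G, (∀ g ∈ L, c * g = g * c) → (∀ g ∈ Lx, c * g = g * c) →
        ∀ a : ↥L, c * π a = π a * c := by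
      intro c h1 h2 a
      rw [hπ]
      have e1 := h1 a a.2
      have e2 := h2 _ (hswap1 a a.2)
      calc c * ((a : G) * (x * a * x⁻¹)) = (c * a) * (x * a * x⁻¹) := by group
        _ = (a * c) * (x * a * x⁻¹) := by rw [e1]
        _ = a * (c * (x * a * x⁻¹)) := by group
        _ = a * ((x * a * x⁻¹) * c) := by rw [e2]
        _ = (a : G) * (x * a * x⁻¹) * c := by group
    have hcc : c1 * c2 = c2 * c1 := hc1L c2 hc2mem
    rw [comm_central (π a1) (π a2) c1 c2 (hcπ c1 hc1L hc1Lx a2) (hcπ c2 hc2L hc2Lx a1) hcc,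
      ← map_commutatorElement]
    exact ⟨_, rfl⟩
  · -- `range π ≤ [D, D]`
    have hle : π.range ≤ D := by
      apply le_inf _ hrange
      rintro _ ⟨l, rfl⟩
      rw [hπ]
      exact Subgroup.mul_mem _ (Subgroup.mem_sup_left l.2) (Subgroup.mem_sup_right (hswap1 _ l.2))
    have hperf' : ⁅π.range, π.range⁆ = π.range := by
      have htop : (⊤ : Subgroup ↥L) = ⁅(⊤ : Subgroup ↥L), ⊤⁆ := by
        apply Subgroup.map_injective L.subtype_injective
        rw [Subgroup.map_commutator]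
        simp only [← MonoidHom.range_eq_map, Subgroup.range_subtype]
        exact hperf.symm
      rw [MonoidHom.range_eq_map, ← Subgroup.map_commutator, ← htop]
    calc π.range = ⁅π.range, π.range⁆ := hperf'.symm
      _ ≤ ⁅D, D⁆ := Subgroup.commutator_mono hle hle

end Cfsg.Agent.S1314
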