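import Cfsg.Statements.S1316
import Cfsg.Agent.Lib.Helper22.Components
import Cfsg.Agent.Lib.Helper70.Fitting

set_option autoImplicit false
open Cfsg

namespace Cfsg.Agent.S1316

open Subgroup

theorem layer_le_commutator (X : Type*) [Group X] :
    Cfsg.layer X ≤ ⁅Cfsg.layer X, Cfsg.layer X⁆ := by
  unfold Cfsg.layer
  apply sSup_le
  intro K hK
  have h1 : ⁅K, K⁆ = K := Cfsg.Agent.Helper22.IsQuasisimple.commutator_eq hK.2
  have h2 : K ≤ sSup {K : Subgroup X | Cfsg.IsComponent K} := le_sSup hK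
  calc K = ⁅K, K⁆ := h1.symm
    _ ≤ _ := Subgroup.commutator_mono h2 h2

theorem layer_le_derived (X : Type*) [Group X] (n : ℕ) :
    Cfsg.layer X ≤ (derivedSeries ↥(Cfsg.generalizedFittingSubgroup X) n).map
      (Cfsg.generalizedFittingSubgroup X).subtype := by
  induction n with
  | zero =>
    rw [derivedSeries_zero, ← MonoidHom.range_eq_map, Subgroup.range_subtype]
    exact le_sup_left
  | succ n ih =>
    rw [derivedSeries_succ, Subgroup.map_commutator]
    exact le_trans (layer_le_commutator X) (Subgroup.commutator_mono ih ih)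

theorem exists_derived_le (X : Type*) [Group X] [Finite X] :
    ∃ n : ℕ, (derivedSeries ↥(Cfsg.generalizedFittingSubgroup X) n).map
      (Cfsg.generalizedFittingSubgroup X).subtype ≤ Cfsg.layer X := by
  have hEn : (Cfsg.layer X).Normal := Cfsg.Agent.Helper22.layer_normal
  have hFle : Cfsg.fittingSubgroup X ≤ Cfsg.generalizedFittingSubgroup X := le_sup_right
  haveI : ((Cfsg.layer X).subgroupOf (Cfsg.generalizedFittingSubgroup X)).Normal :=
    hEn.subgroupOf _
  let φ : ↥(Cfsg.fittingSubgroup X) →*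
      ↥(Cfsg.generalizedFittingSubgroup X) ⧸
        (Cfsg.layer X).subgroupOf (Cfsg.generalizedFittingSubgroup X) :=
    (QuotientGroup.mk' _).comp (Subgroup.inclusion hFle)
  have hsurj : Function.Surjective φ := by
    intro q
    induction q using QuotientGroup.induction_on with | _ x => ?_
    obtain ⟨x, hx⟩ := x
    have hx' : x ∈ Cfsg.layer X ⊔ Cfsg.fittingSubgroup X := hx
    rw [Subgroup.mem_sup_of_normal_left] at hx'
    obtain ⟨e, he, f, hf, hef⟩ := hx'
    refine ⟨⟨f, hf⟩, ?_⟩
    change (QuotientGroup.mk (Subgroup.inclusion hFle ⟨f, hf⟩) : _ ⧸ _) = QuotientGroup.mk _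
    rw [QuotientGroup.eq, Subgroup.mem_subgroupOf]
    have : (((Subgroup.inclusion hFle ⟨f, hf⟩)⁻¹ *
        (⟨x, hx⟩ : ↥(Cfsg.generalizedFittingSubgroup X)) :
        ↥(Cfsg.generalizedFittingSubgroup X)) : X) = f⁻¹ * e * f := by
      simp [← hef, mul_assoc]
    rw [this]
    have := hEn.conj_mem e he f⁻¹
    simpa using this
  haveI : Group.IsNilpotent ↥(Cfsg.fittingSubgroup X) :=
    Cfsg.Agent.Helper70.fittingSubgroup_isNilpotent X
  have hsol : Group.IsSolvable (↥(Cfsg.generalizedFittingSubgroup X) ⧸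
      (Cfsg.layer X).subgroupOf (Cfsg.generalizedFittingSubgroup X)) :=
    Group.isSolvable_of_surjective hsurj
  obtain ⟨n, hn⟩ := (Group.isSolvable_def _).mp hsol
  refine ⟨n, ?_⟩
  have h1 := map_derivedSeries_le_derivedSeries
    (QuotientGroup.mk' ((Cfsg.layer X).subgroupOf (Cfsg.generalizedFittingSubgroup X))) n
  rw [hn, le_bot_iff, Subgroup.map_eq_bot_iff, QuotientGroup.ker_mk'] at h1
  have h2 := h1
  refine le_trans (Subgroup.map_mono h2) ?_
  rw [Subgroup.subgroupOf_map_subtype]
  exact inf_le_left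

theorem result {X : Type*} [Group X] [Finite X] : (⨅ n : ℕ, (derivedSeries ↥(Cfsg.generalizedFittingSubgroup X) n).map (Cfsg.generalizedFittingSubgroup X).subtype) = Cfsg.layer X := by
  obtain ⟨n, hn⟩ := exists_derived_le X
  exact le_antisymm ((iInf_le _ n).trans hn) (le_iInf (layer_le_derived X))

end Cfsg.Agent.S1316
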