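import Cfsg.Statements.S1317
import Cfsg.Agent.Lib.Helper22.Bender

set_option autoImplicit false
open Cfsg

namespace Cfsg.Agent.S1317

open Cfsg.Agent.Helper22 Subgroup

/-- For a finite group X, the centre of the layer E(X) is F(X) ∩ E(X). -/
theorem result {X : Type*} [Group X] [Finite X] : (Subgroup.center ↥(Cfsg.layer X)).map (Cfsg.layer X).subtype = Cfsg.fittingSubgroup X ⊓ Cfsg.layer X := by
  apply le_antisymm
  · refine le_inf ?_ (map_subtype_le _)
    have hn : ((Subgroup.center ↥(Cfsg.layer X)).map (Cfsg.layer X).subtype).Normal :=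
      ConjAct.normal_of_characteristic_of_normal
    refine le_fittingSubgroup hn ?_
    have e : Subgroup.center ↥(Cfsg.layer X) ≃*
        ((Subgroup.center ↥(Cfsg.layer X)).map (Cfsg.layer X).subtype) :=
      (Subgroup.center ↥(Cfsg.layer X)).equivMapOfInjective _ (Subgroup.subtype_injective _)
    have hc : Group.IsNilpotent (Subgroup.center ↥(Cfsg.layer X)) :=
      ⟨⟨1, Subgroup.upperCentralSeries_one_eq_top_iff.mpr inferInstance⟩⟩
    exact (Group.isNilpotent_congr e).mp hc
  · rintro x ⟨hxF, hxE⟩
    refine ⟨⟨x, hxE⟩, ?_, rfl⟩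
    rw [SetLike.mem_coe, mem_center_iff]
    intro g
    apply Subtype.ext
    have hg : (g : X) ∈ Subgroup.centralizer (Cfsg.fittingSubgroup X : Set X) :=
      layer_le_centralizer_fittingSubgroup g.2
    have := (mem_centralizer_iff.mp hg) x hxF
    simpa using this.symm

end Cfsg.Agent.S1317
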