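import Cfsg.Statements.S1318
import Cfsg.Agent.Lib.Helper22.Structure

set_option autoImplicit false
open Cfsg

namespace Cfsg.Agent.S1318

open Cfsg.Agent.Helper22 Subgroup

/-- Let X be finite and S ≤ F*(X) a subgroup subnormal in F*(X). Then F(S) = F(X) ∩ S (inside X) and S = F(S)E(S). -/
theorem result {X : Type*} [Group X] [Finite X] (S : Subgroup X) (hS : S ≤ Cfsg.generalizedFittingSubgroup X) (hsn : (S.subgroupOf (Cfsg.generalizedFittingSubgroup X)).IsSubnormal) : (Cfsg.fittingSubgroup ↥S).map S.subtype = Cfsg.fittingSubgroup X ⊓ S ∧ Cfsg.fittingSubgroup ↥S ⊔ Cfsg.layer ↥S = ⊤ := by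
  have hSsn : S.IsSubnormal :=
    IsSubnormal.trans hS hsn (Subgroup.Normal.isSubnormal inferInstance)
  refine ⟨le_antisymm (le_inf (map_fittingSubgroup_le hSsn) (map_subtype_le _))
    (fittingSubgroup_inf_le_map_fittingSubgroup S), ?_⟩
  have h1 := subnormal_le_map_generalizedFittingSubgroup hS hSsn
  rw [sup_comm, ← generalizedFittingSubgroup_eq, eq_top_iff]
  have h2 : (⊤ : Subgroup S).map S.subtype ≤ (Cfsg.generalizedFittingSubgroup S).map S.subtype := by
    rw [← MonoidHom.range_eq_map, range_subtype]; exact h1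
  exact (map_le_map_iff_of_injective S.subtype_injective).mp h2

end Cfsg.Agent.S1318
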