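import Cfsg.Statements.S1320
import Cfsg.Agent.Lib.Helper22.Structure

set_option autoImplicit false
open Cfsg

namespace Cfsg.Agent.S1320

open Cfsg.Agent.Helper22 Subgroup

/-- Let B be a normal subgroup of the finite group A. Then F*(A) ∩ B = F*(B). -/
theorem result {A : Type*} [Group A] [Finite A] (B : Subgroup A) [B.Normal] : Cfsg.generalizedFittingSubgroup A ⊓ B = (Cfsg.generalizedFittingSubgroup ↥B).map B.subtype := by
  have hBsn : B.IsSubnormal := Subgroup.Normal.isSubnormal inferInstance
  apply le_antisymm
  · have hSn : (Cfsg.generalizedFittingSubgroup A ⊓ B).Normal := inferInstance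
    have h1 := subnormal_le_generalizedFitting_decomp
      (S := Cfsg.generalizedFittingSubgroup A ⊓ B) inf_le_left (Subgroup.Normal.isSubnormal hSn)
    refine h1.trans ?_
    rw [generalizedFittingSubgroup_eq (G := B), Subgroup.map_sup]
    refine sup_le_sup ?_ ?_
    · refine le_trans ?_ (sSup_components_le_map_layer B)
      refine sSup_le ?_
      rintro L ⟨hL, hLS⟩
      exact le_sSup ⟨hL, hLS.trans inf_le_right⟩
    · refine le_trans ?_ (fittingSubgroup_inf_le_map_fittingSubgroup B)
      exact inf_le_inf_left _ inf_le_right
  · exact le_inf (map_generalizedFittingSubgroup_le hBsn) (map_subtype_le _)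

end Cfsg.Agent.S1320
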