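import Cfsg.Statements.S1321
import Cfsg.Agent.Lib.Helper22.Components

set_option autoImplicit false
open Cfsg

namespace Cfsg.Agent.S1321

open Cfsg.Agent.Helper22 Subgroup

/-- Let X be finite and U ≤ X. Then E(X) is generated by C_{E(X)}(U) together with ⁅E(X), U⁆ (indeed it is their product, ⁅E(X), U⁆ being normal in E(X)). -/
theorem result {X : Type*} [Group X] [Finite X] (U : Subgroup X) : Cfsg.layer X = (Cfsg.layer X ⊓ Subgroup.centralizer (U : Set X)) ⊔ ⁅Cfsg.layer X, U⁆ ∧ ⁅Cfsg.layer X, U⁆ ≤ Cfsg.layer X := by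
  set E : Subgroup X := Cfsg.layer X with hE
  have hEn : E.Normal := layer_normal
  have hN : ⁅E, U⁆ ≤ E := commutator_le_left _ _
  refine ⟨le_antisymm ?_ (sup_le inf_le_left hN), hN⟩
  have hEsn : E.IsSubnormal := Subgroup.Normal.isSubnormal hEn
  have hNsn : (⁅E, U⁆ : Subgroup X).IsSubnormal := by
    refine IsSubnormal.step _ E hN hEsn ?_
    rw [normal_subgroupOf_iff_le_normalizer hN]
    exact normalizer_commutator_ge_left (H₁ := E) (H₂ := U)
  have key : ∀ L : Subgroup X, Cfsg.IsComponent L → L ≤ (E ⊓ Subgroup.centralizer (U : Set X)) ⊔ ⁅E, U⁆ := by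
    intro L hL
    have hLE : L ≤ E := IsComponent.le_layer hL
    rcases component_le_or_commutator_eq_bot hL hNsn with h | h
    · exact le_trans h le_sup_right
    · refine le_trans ?_ le_sup_left
      refine le_inf hLE ?_
      have h0 : ⁅⁅L, U⁆, L⁆ ≤ ⁅⁅E, U⁆, L⁆ :=
        commutator_mono (commutator_mono hLE le_rfl) le_rfl
      have h0' : ⁅⁅E, U⁆, L⁆ = ⊥ := (commutator_comm _ _).trans h
      have h1 : ⁅⁅L, U⁆, L⁆ = ⊥ := le_bot_iff.mp (h0' ▸ h0)
      have h2 : ⁅⁅U, L⁆, L⁆ = ⊥ := by rw [commutator_comm U L]; exact h1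
      have h3 : ⁅⁅L, L⁆, U⁆ = ⊥ := commutator_commutator_eq_bot_of_rotate h1 h2
      rw [IsQuasisimple.commutator_eq hL.2] at h3
      exact commutator_eq_bot_iff_le_centralizer.mp h3
  rw [hE]
  exact sSup_le key

end Cfsg.Agent.S1321
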