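import Cfsg.Statements.S1323
import Mathlib

set_option autoImplicit false
open Cfsg

namespace Cfsg.Agent.S1323

open Equiv Equiv.Perm

section General

variable {α : Type*} [Fintype α] [DecidableEq α]

/-- pointwise stabiliser of `T` in the alternating group. -/
def fixer (T : Finset α) : Subgroup (alternatingGroup α) where
  carrier := {g | ∀ t ∈ T, (g : Perm α) t = t}
  one_mem' := by intro t _; simp
  mul_mem' := by
    intro a b ha hb t ht
    simp [Subgroup.coe_mul, Perm.mul_apply, hb t ht, ha t ht]
  inv_mem' := by
    intro a ha t ht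
    have := ha t ht
    show ((a : Perm α))⁻¹ t = t
    rw [Perm.inv_eq_iff_eq]; exact this.symm

theorem mem_fixer {T : Finset α} {g : alternatingGroup α} :
    g ∈ fixer T ↔ ∀ t ∈ T, (g : Perm α) t = t := Iff.rfl

theorem exists_notMem_of_card_lt (s : Finset α) (h : s.card < Fintype.card α) : ∃ x, x ∉ s := by
  by_contra hc
  push Not at hc
  have : s = Finset.univ := Finset.eq_univ_iff_forall.2 hc
  rw [this, Finset.card_univ] at h
  exact lt_irrefl _ h

/-- the 3-cycle `a → c → b → a`. -/
def c3 (a b c : α) (hab : a ≠ b) (hac : a ≠ c) (hbc : b ≠ c) : alternatingGroup α :=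
  ⟨swap a b * swap a c, (isThreeCycle_swap_mul_swap_same hab hac hbc).mem_alternatingGroup⟩

theorem c3_apply_a (a b c : α) (hab : a ≠ b) (hac : a ≠ c) (hbc : b ≠ c) :
    (c3 a b c hab hac hbc : Perm α) a = c := by
  simp [c3, swap_apply_of_ne_of_ne hac.symm hbc.symm]

theorem c3_apply_c (a b c : α) (hab : a ≠ b) (hac : a ≠ c) (hbc : b ≠ c) :
    (c3 a b c hab hac hbc : Perm α) c = b := by
  simp [c3]

theorem c3_apply_b (a b c : α) (hab : a ≠ b) (hac : a ≠ c) (hbc : b ≠ c) :
    (c3 a b c hab hac hbc : Perm α) b = a := by
  simp [c3, swap_apply_of_ne_of_ne hab.symm hbc]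

theorem c3_apply_of_ne (a b c : α) (hab : a ≠ b) (hac : a ≠ c) (hbc : b ≠ c) (x : α)
    (hxa : x ≠ a) (hxb : x ≠ b) (hxc : x ≠ c) :
    (c3 a b c hab hac hbc : Perm α) x = x := by
  simp [c3, swap_apply_of_ne_of_ne hxa hxc, swap_apply_of_ne_of_ne hxa hxb]

theorem c3_mem_fixer (T : Finset α) (a b c : α) (hab : a ≠ b) (hac : a ≠ c) (hbc : b ≠ c)
    (ha : a ∉ T) (hb : b ∉ T) (hc : c ∉ T) : c3 a b c hab hac hbc ∈ fixer T := by
  intro t ht
  apply c3_apply_of_ne
  · rintro rfl; exact ha ht
  · rintro rfl; exact hb ht
  · rintro rfl; exact hc ht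

/-- a simple perfect group is quasisimple. -/
theorem quasisimple_of_simple_perfect {H : Type*} [Group H] [IsSimpleGroup H]
    [Group.IsPerfect H] : IsQuasisimple H := by
  refine ⟨inferInstance, ?_⟩
  have hc : Subgroup.center H ≠ ⊤ := by
    intro h
    have hcomm : ∀ a b : H, a * b = b * a := by
      intro a b
      have hb : b ∈ Subgroup.center H := h ▸ Subgroup.mem_top b
      exact (Subgroup.mem_center_iff.1 hb a)
    have : commutator H = ⊥ := by
      rw [commutator_def, Subgroup.commutator_eq_bot_iff_le_centralizer]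
      intro a _
      rw [Subgroup.mem_centralizer_iff]
      intro b _
      exact hcomm b a
    have h2 : (⊤ : Subgroup H) = ⊥ := by
      rw [← Group.IsPerfect.commutator_eq_top (G := H)]; exact this
    obtain ⟨x, y, hxy⟩ := (IsSimpleGroup.toNontrivial (G := H)).exists_pair_ne
    have hx : x ∈ (⊥ : Subgroup H) := h2 ▸ Subgroup.mem_top x
    have hy : y ∈ (⊥ : Subgroup H) := h2 ▸ Subgroup.mem_top y
    rw [Subgroup.mem_bot] at hx hy
    exact hxy (hx.trans hy.symm)
  have : Nontrivial (H ⧸ Subgroup.center H) := QuotientGroup.nontrivial_iff.2 hc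
  exact IsSimpleGroup.isSimpleGroup_of_surjective (QuotientGroup.mk' (Subgroup.center H))
    (QuotientGroup.mk'_surjective _)

/-- the embedding of the alternating group of the complement of `T`. -/
def embA (T : Finset α) : alternatingGroup {x // x ∉ T} →* alternatingGroup α :=
  ((ofSubtype (p := fun x => x ∉ T)).comp (alternatingGroup {x // x ∉ T}).subtype).codRestrict
    (alternatingGroup α) (by
      intro σ
      rw [mem_alternatingGroup]
      simp only [MonoidHom.coe_comp, Subgroup.coe_subtype, Function.comp_apply]
      rw [sign_ofSubtype]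
      exact σ.2)

theorem embA_coe (T : Finset α) (σ : alternatingGroup {x // x ∉ T}) :
    ((embA T σ : alternatingGroup α) : Perm α) = ofSubtype (σ : Perm {x // x ∉ T}) := rfl

theorem embA_mem (T : Finset α) (σ : alternatingGroup {x // x ∉ T}) : embA T σ ∈ fixer T := by
  intro t ht
  rw [embA_coe]
  exact ofSubtype_apply_of_not_mem _ (by simpa using ht)

theorem embA_injective (T : Finset α) : Function.Injective (embA T) := by
  intro σ τ h
  have h1 : ((embA T σ : alternatingGroup α) : Perm α) = (embA T τ : alternatingGroup α) := by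
    rw [h]
  rw [embA_coe, embA_coe] at h1
  exact Subtype.ext (ofSubtype_injective h1)

theorem embA_surj (T : Finset α) (g : alternatingGroup α) (hg : g ∈ fixer T) :
    ∃ σ, embA T σ = g := by
  have h1 : ∀ x, (fun x => x ∉ T) ((g : Perm α) x) ↔ (fun x => x ∉ T) x := by
    intro x
    constructor
    · intro hx hxT
      exact hx (by rw [hg x hxT]; exact hxT)
    · intro hx hxT
      apply hx
      have := hg _ hxT
      have h2 : (g : Perm α) x = x := (g : Perm α).injective this
      rw [← h2]; exact hxT
  have h2 : ∀ x, (g : Perm α) x ≠ x → (fun x => x ∉ T) x := by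
    intro x hx hxT
    exact hx (hg x hxT)
  refine ⟨⟨subtypePerm (g : Perm α) h1, ?_⟩, ?_⟩
  · rw [mem_alternatingGroup, sign_subtypePerm _ h1 h2]
    exact g.2
  · apply Subtype.ext
    rw [embA_coe]
    exact ofSubtype_subtypePerm h1 h2

/-- the isomorphism between the alternating group of the complement and the fixer. -/
noncomputable def isoA (T : Finset α) : alternatingGroup {x // x ∉ T} ≃* fixer T :=
  MulEquiv.ofBijective ((embA T).codRestrict (fixer T) (embA_mem T))
    ⟨fun σ τ h => embA_injective T (by
        have := congrArg (fun z : fixer T => (z : alternatingGroup α)) h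
        simpa using this),
      fun g => by
        obtain ⟨σ, hσ⟩ := embA_surj T g.1 g.2
        exact ⟨σ, Subtype.ext hσ⟩⟩

theorem card_compl (T : Finset α) : Nat.card {x // x ∉ T} = Fintype.card α - T.card := by
  rw [Nat.card_eq_fintype_card, Fintype.card_subtype_compl, Fintype.card_coe]

theorem quasisimple_fixer (T : Finset α) (h : T.card + 5 ≤ Fintype.card α) :
    IsQuasisimple (fixer T) := by
  have h5 : 5 ≤ Nat.card {x // x ∉ T} := by rw [card_compl]; omega
  have : IsSimpleGroup (alternatingGroup {x // x ∉ T}) := alternatingGroup.isSimpleGroup h5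
  have : Group.IsPerfect (alternatingGroup {x // x ∉ T}) :=
    ⟨commutator_alternatingGroup_eq_top h5⟩
  have : IsSimpleGroup (fixer T) := (isoA T).symm.isSimpleGroup
  have : Group.IsPerfect (fixer T) :=
    Group.IsPerfect.ofSurjective (f := (isoA T).toMonoidHom) (isoA T).surjective
  exact quasisimple_of_simple_perfect

theorem mem_map_conj_fixer (T : Finset α) (g x : alternatingGroup α) :
    x ∈ (fixer T).map (MulAut.conj g).toMonoidHom ↔
      ∀ t ∈ T, (x : Perm α) ((g : Perm α) t) = (g : Perm α) t := by
  rw [Subgroup.mem_map_equiv, MulAut.conj_symm_apply, mem_fixer]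
  constructor
  · intro h t ht
    have := h t ht
    simp only [Subgroup.coe_mul, Subgroup.coe_inv, Perm.mul_apply] at this
    rw [Perm.inv_eq_iff_eq] at this
    exact this
  · intro h t ht
    simp only [Subgroup.coe_mul, Subgroup.coe_inv, Perm.mul_apply]
    rw [Perm.inv_eq_iff_eq]
    exact h t ht

theorem map_conj_fixer (T : Finset α) (g : alternatingGroup α) :
    (fixer T).map (MulAut.conj g).toMonoidHom = fixer (T.image (g : Perm α)) := by
  ext x
  rw [mem_map_conj_fixer, mem_fixer]
  constructor
  · intro h t ht
    obtain ⟨s, hs, rfl⟩ := Finset.mem_image.1 ht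
    exact h s hs
  · intro h t ht
    exact h _ (Finset.mem_image_of_mem _ ht)

omit [Fintype α] in
theorem card_image_perm (T : Finset α) (g : Perm α) : (T.image g).card = T.card :=
  Finset.card_image_of_injective _ g.injective

/-- elements of the centraliser of the fixer fix all points outside `T`. -/
theorem centralizer_fix (T : Finset α) (hcard : T.card + 4 ≤ Fintype.card α)
    (k : alternatingGroup α) (hk : k ∈ Subgroup.centralizer (fixer T : Set (alternatingGroup α)))
    (x : α) (hx : x ∉ T) : (k : Perm α) x = x := by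
  by_contra hne
  rw [Subgroup.mem_centralizer_iff] at hk
  obtain ⟨y, hy⟩ : ∃ y, y = (k : Perm α) x := ⟨_, rfl⟩
  rw [← hy] at hne
  by_cases hyT : y ∈ T
  · obtain ⟨p, hp⟩ := exists_notMem_of_card_lt (insert x T) (by
      have := Finset.card_insert_le x T; omega)
    obtain ⟨q, hq⟩ := exists_notMem_of_card_lt (insert p (insert x T)) (by
      have := Finset.card_insert_le x T
      have := Finset.card_insert_le p (insert x T); omega)
    simp only [Finset.mem_insert, not_or] at hp hq
    have hxp : x ≠ p := fun h => hp.1 h.symm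
    have hxq : x ≠ q := fun h => hq.2.1 h.symm
    have hpq : p ≠ q := fun h => hq.1 h.symm
    have ha := c3_mem_fixer T x p q hxp hxq hpq hx hp.2 hq.2.2
    have hcomm := hk _ ha
    have h1 := congrArg (fun z : alternatingGroup α => (z : Perm α) x) hcomm
    simp only [Subgroup.coe_mul, Perm.mul_apply] at h1
    rw [← hy, ha y hyT, c3_apply_a] at h1
    -- h1 : y = k q
    rw [hy] at h1
    exact hxq ((k : Perm α).injective h1)
  · obtain ⟨p, hp⟩ := exists_notMem_of_card_lt (insert y (insert x T)) (by
      have := Finset.card_insert_le x T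
      have := Finset.card_insert_le y (insert x T); omega)
    obtain ⟨q, hq⟩ := exists_notMem_of_card_lt (insert p (insert y (insert x T))) (by
      have := Finset.card_insert_le x T
      have := Finset.card_insert_le y (insert x T)
      have := Finset.card_insert_le p (insert y (insert x T)); omega)
    simp only [Finset.mem_insert, not_or] at hp hq
    have hyp : y ≠ p := fun h => hp.1 h.symm
    have hyq : y ≠ q := fun h => hq.2.1 h.symm
    have hpq : p ≠ q := fun h => hq.1 h.symm
    have ha := c3_mem_fixer T y p q hyp hyq hpq hyT hp.2.2 hq.2.2.2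
    have hcomm := hk _ ha
    have h1 := congrArg (fun z : alternatingGroup α => (z : Perm α) x) hcomm
    simp only [Subgroup.coe_mul, Perm.mul_apply] at h1
    rw [← hy, c3_apply_a, c3_apply_of_ne y p q hyp hyq hpq x (fun h => hne h.symm)
      (fun h => hp.2.1 h.symm) (fun h => hq.2.2.1 h.symm), ← hy] at h1
    exact hyq h1.symm

/-- an even involution supported on a 4-set moves all four points. -/
theorem invol_support (x : Perm α) (hx2 : orderOf x = 2) (hs : sign x = 1) (T : Finset α)
    (hT : T.card = 4) (hsub : x.support ⊆ T) : x.support = T := by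
  obtain ⟨n, hn⟩ := cycleType_prime_order (σ := x) (by rw [hx2]; exact Nat.prime_two)
  rw [hx2] at hn
  have h1 := sign_of_cycleType x
  have h2 := sum_cycleType x
  rw [hn] at h1 h2
  rw [Multiset.sum_replicate] at h1 h2
  rw [Multiset.card_replicate, hs] at h1
  have h3 : Even ((n + 1) • 2 + (n + 1)) :=
    (neg_one_pow_eq_one_iff_even (R := ℤˣ) (by decide)).1 h1.symm
  simp only [smul_eq_mul] at h2 h3
  have h4 : Even (n + 1) := by
    rcases h3 with ⟨r, hr⟩
    exact ⟨r - (n + 1), by omega⟩
  rcases h4 with ⟨r, hr⟩
  exact Finset.eq_of_subset_of_card_le hsub (by omega)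

omit [Fintype α] in
theorem image_eq_of_subset (T : Finset α) (g : Perm α) (h : T.image g ⊆ T) : T.image g = T :=
  Finset.eq_of_subset_of_card_le h (by rw [card_image_perm])

omit [Fintype α] in
theorem image_eq_of_subset' (T : Finset α) (g : Perm α) (h : T ⊆ T.image g) : T.image g = T :=
  (Finset.eq_of_subset_of_card_le h (by rw [card_image_perm])).symm

/-- the setwise stabiliser of `T` normalises the fixer. -/
theorem mem_normalizer_fixer (T : Finset α) (g : alternatingGroup α)
    (h : T.image (g : Perm α) = T) : g ∈ Subgroup.normalizer (fixer T : Set (alternatingGroup α)) := by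
  rw [Subgroup.mem_normalizer_iff]
  intro x
  have h1 : g * x * g⁻¹ ∈ fixer T ↔ x ∈ (fixer T).map (MulAut.conj g⁻¹).toMonoidHom := by
    rw [Subgroup.mem_map_equiv, MulAut.conj_symm_apply, inv_inv]
  rw [h1, map_conj_fixer]
  have h2 : T.image ((g⁻¹ : alternatingGroup α) : Perm α) = T := by
    apply image_eq_of_subset'
    intro t ht
    rw [Finset.mem_image]
    refine ⟨(g : Perm α) t, ?_, ?_⟩
    · rw [← h]; exact Finset.mem_image_of_mem _ ht
    · simp
  rw [h2]

/-- the normaliser of a subgroup normalises its centraliser. -/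
theorem normalizer_le_normalizer_centralizer {G : Type*} [Group G] (L : Subgroup G) :
    Subgroup.normalizer (L : Set G) ≤
      Subgroup.normalizer (Subgroup.centralizer (L : Set G) : Set G) := by
  have key : ∀ g : G, g ∈ Subgroup.normalizer (L : Set G) →
      ∀ k, k ∈ Subgroup.centralizer (L : Set G) → g * k * g⁻¹ ∈ Subgroup.centralizer (L : Set G) := by
    intro g hg k hk
    rw [Subgroup.mem_centralizer_iff] at hk ⊢
    intro h hh
    have hg' : g⁻¹ ∈ Subgroup.normalizer (L : Set G) := inv_mem hg
    have h1 : g⁻¹ * h * g ∈ L := by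
      have := (Subgroup.mem_normalizer_iff.1 hg' h).1 hh
      simpa using this
    have h2 := hk _ h1
    calc h * (g * k * g⁻¹) = g * ((g⁻¹ * h * g) * k) * g⁻¹ := by group
      _ = g * (k * (g⁻¹ * h * g)) * g⁻¹ := by rw [h2]
      _ = g * k * g⁻¹ * h := by group
  intro g hg
  rw [Subgroup.mem_normalizer_iff]
  intro k
  refine ⟨key g hg k, fun hk => ?_⟩
  have := key g⁻¹ (inv_mem hg) _ hk
  simpa [mul_assoc] using this

section Four

variable (a b c d : α) (hab : a ≠ b) (hac : a ≠ c) (had : a ≠ d) (hbc : b ≠ c) (hbd : b ≠ d)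
  (hcd : c ≠ d)

/-- the double transposition `(a b)(c d)`. -/
def k0 : alternatingGroup α :=
  ⟨swap a b * swap c d, by
    rw [mem_alternatingGroup, map_mul, sign_swap hab, sign_swap hcd]; decide⟩

include hab hcd in
theorem k0_coe : ((k0 a b c d hab hcd : alternatingGroup α) : Perm α) = swap a b * swap c d := rfl

include hab hac had hbc hbd hcd in
theorem k0_ne (t : α) (ht : t ∈ ({a, b, c, d} : Finset α)) :
    ((k0 a b c d hab hcd : alternatingGroup α) : Perm α) t ≠ t := by
  simp only [Finset.mem_insert, Finset.mem_singleton] at ht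
  rw [k0_coe]
  rcases ht with rfl | rfl | rfl | rfl
  · rw [Perm.mul_apply, swap_apply_of_ne_of_ne hac had, swap_apply_left]; exact hab.symm
  · rw [Perm.mul_apply, swap_apply_of_ne_of_ne hbc hbd, swap_apply_right]; exact hab
  · rw [Perm.mul_apply, swap_apply_left, swap_apply_of_ne_of_ne had.symm hbd.symm]; exact hcd.symm
  · rw [Perm.mul_apply, swap_apply_right, swap_apply_of_ne_of_ne hac.symm hbc.symm]; exact hcd

include hab hcd in
theorem k0_mem_centralizer :
    k0 a b c d hab hcd ∈
      Subgroup.centralizer (fixer ({a, b, c, d} : Finset α) : Set (alternatingGroup α)) := by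
  rw [Subgroup.mem_centralizer_iff]
  intro h hh
  have ha : (h : Perm α) a = a := hh a (by simp)
  have hb : (h : Perm α) b = b := hh b (by simp)
  have hc : (h : Perm α) c = c := hh c (by simp)
  have hd : (h : Perm α) d = d := hh d (by simp)
  have ha' : (h : Perm α)⁻¹ a = a := by rw [Perm.inv_eq_iff_eq]; exact ha.symm
  have hb' : (h : Perm α)⁻¹ b = b := by rw [Perm.inv_eq_iff_eq]; exact hb.symm
  have hc' : (h : Perm α)⁻¹ c = c := by rw [Perm.inv_eq_iff_eq]; exact hc.symm
  have hd' : (h : Perm α)⁻¹ d = d := by rw [Perm.inv_eq_iff_eq]; exact hd.symm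
  apply Subtype.ext
  rw [Subgroup.coe_mul, Subgroup.coe_mul, k0_coe]
  have e1 : swap a b * (h : Perm α) = (h : Perm α) * swap a b := by
    rw [swap_mul_eq_mul_swap, ha', hb']
  have e2 : swap c d * (h : Perm α) = (h : Perm α) * swap c d := by
    rw [swap_mul_eq_mul_swap, hc', hd']
  calc (h : Perm α) * (swap a b * swap c d) = ((h : Perm α) * swap a b) * swap c d := by
        rw [mul_assoc]
    _ = (swap a b * (h : Perm α)) * swap c d := by rw [e1]
    _ = swap a b * ((h : Perm α) * swap c d) := by rw [mul_assoc]
    _ = swap a b * (swap c d * (h : Perm α)) := by rw [e2]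
    _ = swap a b * swap c d * (h : Perm α) := by rw [mul_assoc]

omit [Fintype α] in
include hab hac had hbc hbd hcd in
theorem card_four : ({a, b, c, d} : Finset α).card = 4 := by
  rw [Finset.card_insert_of_notMem, Finset.card_insert_of_notMem, Finset.card_insert_of_notMem,
    Finset.card_singleton]
  · simp [hcd]
  · simp [hbc, hbd]
  · simp [hab, hac, had]

include hab hac had hbc hbd hcd in
/-- the normaliser of the centraliser stabilises `T` setwise. -/
theorem image_eq_of_mem_normalizer_centralizer (hcard : 8 ≤ Fintype.card α)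
    (g : alternatingGroup α)
    (hg : g ∈ Subgroup.normalizer (Subgroup.centralizer
      (fixer ({a, b, c, d} : Finset α) : Set (alternatingGroup α)) : Set (alternatingGroup α))) :
    ({a, b, c, d} : Finset α).image (g : Perm α) = {a, b, c, d} := by
  have h4 := card_four a b c d hab hac had hbc hbd hcd
  apply image_eq_of_subset
  intro s hs
  obtain ⟨t, ht, rfl⟩ := Finset.mem_image.1 hs
  by_contra hnot
  have h1 := (Subgroup.mem_normalizer_iff.1 hg _).1 (k0_mem_centralizer a b c d hab hcd)
  have h2 := centralizer_fix _ (by rw [h4]; omega) _ h1 _ hnot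
  simp only [Subgroup.coe_mul, Subgroup.coe_inv, Perm.mul_apply, Equiv.Perm.coe_inv,
    Equiv.symm_apply_apply] at h2
  exact k0_ne a b c d hab hac had hbc hbd hcd t ht ((g : Perm α).injective h2)

include hab hac had hbc hbd hcd in
theorem standard_fixer (hcard : 9 ≤ Fintype.card α) :
    IsStandardSubgroup (fixer ({a, b, c, d} : Finset α)) := by
  have h4 := card_four a b c d hab hac had hbc hbd hcd
  obtain ⟨T, hT⟩ : ∃ T : Finset α, T = {a, b, c, d} := ⟨_, rfl⟩
  rw [← hT] at h4 ⊢
  have hNL : ∀ g : alternatingGroup α, T.image (g : Perm α) = T →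
      g ∈ Subgroup.normalizer (Subgroup.centralizer
        (fixer T : Set (alternatingGroup α)) : Set (alternatingGroup α)) := fun g hg =>
    normalizer_le_normalizer_centralizer _ (mem_normalizer_fixer T g hg)
  have hk0 : k0 a b c d hab hcd ∈
      Subgroup.centralizer (fixer T : Set (alternatingGroup α)) := by
    rw [hT]; exact k0_mem_centralizer a b c d hab hcd
  refine ⟨quasisimple_fixer T (by omega), ⟨?_, ?_⟩, ?_, ?_⟩
  · -- even order
    have h2 : orderOf (⟨k0 a b c d hab hcd, hk0⟩ :
        Subgroup.centralizer (fixer T : Set (alternatingGroup α))) = 2 := by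
      have : Fact (Nat.Prime 2) := ⟨Nat.prime_two⟩
      apply orderOf_eq_prime
      · apply Subtype.ext
        apply Subtype.ext
        simp only [Subgroup.coe_pow, Subgroup.coe_one]
        rw [k0_coe, sq]
        calc swap a b * swap c d * (swap a b * swap c d)
            = swap a b * (swap c d * swap a b) * swap c d := by simp only [mul_assoc]
          _ = swap a b * (swap a b * swap c d) * swap c d := by
              rw [swap_mul_eq_mul_swap (swap a b) c d]
              simp [swap_apply_of_ne_of_ne hac.symm hbc.symm, swap_apply_of_ne_of_ne had.symm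
                hbd.symm]
          _ = 1 := by simp
      · intro h
        have h3 := congrArg (fun z : Subgroup.centralizer (fixer T : Set (alternatingGroup α)) =>
          ((z : alternatingGroup α) : Perm α) a) h
        simp only [Subgroup.coe_one, Perm.one_apply] at h3
        exact k0_ne a b c d hab hac had hbc hbd hcd a (by simp) h3
    rw [even_iff_two_dvd, ← h2]
    exact orderOf_dvd_natCard _
  · -- odd intersections
    intro g hg
    by_contra hodd
    rw [Nat.not_odd_iff_even, even_iff_two_dvd] at hodd
    have : Fact (Nat.Prime 2) := ⟨Nat.prime_two⟩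
    obtain ⟨x, hx⟩ := exists_prime_orderOf_dvd_card' 2 hodd
    apply hg
    apply hNL
    apply image_eq_of_subset'
    have hx1 : orderOf (((x : alternatingGroup α)) : Perm α) = 2 := by
      rw [Subgroup.orderOf_coe, Subgroup.orderOf_coe]; exact hx
    have hxK := (Subgroup.mem_inf.1 x.2).1
    have hxKg := (Subgroup.mem_inf.1 x.2).2
    have hsupp : (((x : alternatingGroup α)) : Perm α).support = T := by
      apply invol_support _ hx1 (x : alternatingGroup α).2 T h4
      intro z hz
      rw [Perm.mem_support] at hz
      by_contra hzT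
      exact hz (centralizer_fix T (by omega) _ hxK z hzT)
    intro t ht
    rw [← hsupp, Perm.mem_support] at ht
    by_contra htg
    apply ht
    rw [Subgroup.mem_map_equiv, MulAut.conj_symm_apply] at hxKg
    have hz : (g : Perm α)⁻¹ t ∉ T := by
      intro hz
      apply htg
      rw [Finset.mem_image]
      exact ⟨_, hz, by simp⟩
    have := centralizer_fix T (by omega) _ hxKg _ hz
    simp only [Subgroup.coe_mul, Subgroup.coe_inv, Perm.mul_apply, Equiv.Perm.coe_inv,
      Equiv.apply_symm_apply] at this
    exact (g : Perm α).symm.injective this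
  · -- non-commuting conjugates
    intro g hg hcomm
    rw [map_conj_fixer] at hg hcomm
    obtain ⟨T', hT'⟩ : ∃ T' : Finset α, T' = T.image (g : Perm α) := ⟨_, rfl⟩
    rw [← hT'] at hg hcomm
    have hc' : T'.card = 4 := by rw [hT', card_image_perm, h4]
    have hne : T' ≠ T := fun h => hg (by rw [h])
    have h1 : ∃ u ∈ T, u ∉ T' := by
      by_contra hcon
      push Not at hcon
      exact hne (Finset.eq_of_subset_of_card_le hcon (by omega)).symm
    have h2 : ∃ y ∈ T', y ∉ T := by
      by_contra hcon
      push Not at hcon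
      exact hne (Finset.eq_of_subset_of_card_le hcon (by omega))
    obtain ⟨u, huT, huT'⟩ := h1
    obtain ⟨y, hyT', hyT⟩ := h2
    obtain ⟨x, hx⟩ := exists_notMem_of_card_lt (T ∪ T') (by
      have := Finset.card_union_le T T'; omega)
    rw [Finset.mem_union, not_or] at hx
    obtain ⟨z, hz⟩ := exists_notMem_of_card_lt (insert x (insert y T)) (by
      have := Finset.card_insert_le y T
      have := Finset.card_insert_le x (insert y T); omega)
    obtain ⟨v, hv⟩ := exists_notMem_of_card_lt (insert x (insert u T')) (by
      have := Finset.card_insert_le u T'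
      have := Finset.card_insert_le x (insert u T'); omega)
    simp only [Finset.mem_insert, not_or] at hz hv
    have hxy : x ≠ y := by rintro rfl; exact hx.2 hyT'
    have hxu : x ≠ u := by rintro rfl; exact hx.1 huT
    have hxz : x ≠ z := fun h => hz.1 h.symm
    have hzy : z ≠ y := hz.2.1
    have hxv : x ≠ v := fun h => hv.1 h.symm
    have hvu : v ≠ u := hv.2.1
    have hA := c3_mem_fixer T x z y hxz hxy hzy hx.1 hz.2.2 hyT
    have hB := c3_mem_fixer T' x v u hxv hxu hvu hx.2 hv.2.2 huT'
    rw [Subgroup.commutator_eq_bot_iff_le_centralizer] at hcomm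
    have h3 := Subgroup.mem_centralizer_iff.1 (hcomm hA) _ hB
    have h5 := congrArg (fun w : alternatingGroup α => (w : Perm α) x) h3
    simp only [Subgroup.coe_mul, Perm.mul_apply] at h5
    rw [c3_apply_a, c3_apply_a, hA u huT, hB y hyT'] at h5
    rw [h5] at hyT'
    exact huT' hyT'
  · -- normalisers
    apply le_antisymm (normalizer_le_normalizer_centralizer _)
    intro g hg
    apply mem_normalizer_fixer
    rw [hT] at hg ⊢
    exact image_eq_of_mem_normalizer_centralizer a b c d hab hac had hbc hbd hcd (by omega) g hg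

end Four

end General

theorem iInf_eq_fixer (n : ℕ) (h4 : 4 ≤ n) :
    (⨅ i : Fin 4, MulAction.stabilizer ↥(alternatingGroup (Fin n)) (Fin.castLE h4 i : Fin n)) =
      fixer ({Fin.castLE h4 0, Fin.castLE h4 1, Fin.castLE h4 2, Fin.castLE h4 3} :
        Finset (Fin n)) := by
  ext g
  rw [Subgroup.mem_iInf, mem_fixer]
  simp only [MulAction.mem_stabilizer_iff, Subgroup.smul_def, Perm.smul_def, Finset.mem_insert,
    Finset.mem_singleton]
  constructor
  · intro h t ht
    rcases ht with rfl | rfl | rfl | rfl
    · exact h 0
    · exact h 1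
    · exact h 2
    · exact h 3
  · intro h i
    apply h
    fin_cases i
    · left; rfl
    · right; left; rfl
    · right; right; left; rfl
    · right; right; right; rfl

/-- For n ≥ 9, the subgroup of the alternating group on Fin n fixing each of the points 0, 1, 2, 3 is a standard subgroup. -/
theorem result (n : ℕ) (h4 : 4 ≤ n) (hn : 9 ≤ n) : Cfsg.IsStandardSubgroup (⨅ i : Fin 4, MulAction.stabilizer ↥(alternatingGroup (Fin n)) (Fin.castLE h4 i : Fin n)) := by
  rw [iInf_eq_fixer]
  have inj : Function.Injective (Fin.castLE h4) := Fin.castLE_injective h4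
  apply standard_fixer
  · exact fun h => absurd (inj h) (by decide)
  · exact fun h => absurd (inj h) (by decide)
  · exact fun h => absurd (inj h) (by decide)
  · exact fun h => absurd (inj h) (by decide)
  · exact fun h => absurd (inj h) (by decide)
  · exact fun h => absurd (inj h) (by decide)
  · simpa using hn

end Cfsg.Agent.S1323
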