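import Cfsg.Statements.S1331
import Cfsg.Agent.Lib.Helper29.CoprimeHyp

set_option autoImplicit false
open Cfsg

namespace Cfsg.Agent.S1331

/-- Let θ be a solvable A-signalizer functor on the finite group G for the prime p, A elementary abelian of rank at least 3, X a member of the family of θ, and B ≤ A with |B| ≥ p². Then X is generated by the subgroups X ∩ ⋂_{d ∈ D, d ≠ 1} θ d, D ranging over the subgroups of index p in B. -/
theorem result {G : Type*} [Group G] [Finite G] (p : ℕ) [Fact p.Prime] (A : Subgroup G) (hA : Cfsg.IsElementaryAbelian p A) (hA3 : p ^ 3 ≤ Nat.card ↥A) (θ : G → Subgroup G) (hθ : Cfsg.IsSolvableSignalizerFunctor p A θ) (X : Subgroup G) (hX : X ∈ Cfsg.signalizerFamily p A θ) (B : Subgroup G) (hB : B ≤ A) (hB2 : p ^ 2 ≤ Nat.card ↥B) : X = ⨆ D : {D : Subgroup G // D ≤ B ∧ D.relIndex B = p}, X ⊓ Cfsg.signalizerInf (D : Subgroup G) θ := by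
  have hp : p.Prime := Fact.out
  obtain ⟨hcomm, hAp⟩ := hA
  obtain ⟨-, hXp, hinv, hfam⟩ := hX
  have hBc : ∀ x ∈ B, ∀ y ∈ B, x * y = y * x := by
    intro x hx y hy
    have := mul_comm' (⟨x, hB hx⟩ : A) ⟨y, hB hy⟩
    exact congrArg Subtype.val this
  have hBp : ∀ x ∈ B, x ^ p = 1 := fun x hx => hAp x (hB hx)
  have hB1 : B ≠ ⊥ := by
    intro h
    rw [h, Subgroup.card_bot] at hB2
    have := hp.one_lt
    nlinarith
  have hXcop : (Nat.card X).Coprime p := ((Nat.Prime.coprime_iff_not_dvd hp).mpr hXp).symm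
  have hBX : B ≤ Subgroup.normalizer (X : Set G) := by
    intro b hb
    apply Subgroup.mem_normalizer_fintype
    intro u hu
    exact hinv b (hB hb) u hu
  apply le_antisymm
  · refine le_trans (Cfsg.Agent.Helper29.le_iSup_covBy B X hBc hBp hB1 hBX hXcop) ?_
    apply iSup_le
    rintro ⟨D, hD⟩
    refine le_trans ?_ (le_iSup (fun D : {D : Subgroup G // D ≤ B ∧ D.relIndex B = p} =>
      X ⊓ Cfsg.signalizerInf (D : Subgroup G) θ)
      ⟨D, hD.le, Cfsg.Agent.Helper29.relIndex_eq_of_covBy B D hBc hBp hD⟩)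
    apply le_inf inf_le_left
    unfold Cfsg.signalizerInf
    apply le_iInf
    rintro ⟨d, hdD, hd1⟩
    refine le_trans ?_ (hfam d (hB (hD.le hdD)) hd1)
    apply inf_le_inf_left
    apply Subgroup.centralizer_le
    intro x hx
    rw [Set.mem_singleton_iff] at hx
    rw [hx]
    exact hdD
  · exact iSup_le fun _ => inf_le_left

end Cfsg.Agent.S1331
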