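import Cfsg.Statements.S1335
import Cfsg.Agent.Lib.Helper29.PGroupNorm

set_option autoImplicit false
open Cfsg

namespace Cfsg.Agent.S1335

/-- Let H be a subgroup of the finite group G, p a prime, k ≥ 1, P a Sylow p-subgroup of H of p-rank at least k, and suppose N_G(X) ≤ H for every subgroup X ≤ P of p-rank at least k. Then P is a Sylow p-subgroup of G. -/
theorem result {G : Type*} [Group G] [Finite G] {p : ℕ} [Fact p.Prime] (k : ℕ) (hk : 1 ≤ k) (H : Subgroup G) (P : Sylow p ↥H) (hP : ¬ Cfsg.PRankLE p (k - 1) ↥(P : Subgroup ↥H)) (hΓ : (∀ X : Subgroup G, X ≤ (P : Subgroup ↥H).map H.subtype → ¬ Cfsg.PRankLE p (k - 1) ↥X → Subgroup.normalizer (X : Set G) ≤ H)) : ∃ Q : Sylow p G, (Q : Subgroup G) = (P : Subgroup ↥H).map H.subtype := by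
  set P' : Subgroup G := (P : Subgroup ↥H).map H.subtype with hP'
  have hP'p : IsPGroup p P' := P.isPGroup'.map _
  have hrank : ¬ Cfsg.PRankLE p (k - 1) ↥P' := by
    intro h
    apply hP
    exact Cfsg.Agent.Helper29.pRankLE_of_mulEquiv
      ((P : Subgroup ↥H).equivMapOfInjective H.subtype H.subtype_injective).symm h
  have hN : Subgroup.normalizer (P' : Set G) ≤ H := hΓ P' le_rfl hrank
  obtain ⟨S, hS⟩ := hP'p.exists_le_sylow
  refine ⟨S, ?_⟩
  by_contra hne
  have hlt : P' < (S : Subgroup G) := lt_of_le_of_ne hS (Ne.symm hne)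
  obtain ⟨g, hgS, hgP, hgN⟩ := Cfsg.Agent.Helper29.exists_mem_normalizer_not_mem_of_lt S.isPGroup' hlt
  -- the p-subgroup (S ⊓ N(P')) of H contains P
  have hD : IsPGroup p ↥((S : Subgroup G) ⊓ Subgroup.normalizer (P' : Set G)) :=
    S.isPGroup'.to_le inf_le_left
  have hDH : IsPGroup p ↥(((S : Subgroup G) ⊓ Subgroup.normalizer (P' : Set G)).subgroupOf H) :=
    hD.comap_subtype
  have hle : (P : Subgroup ↥H) ≤ ((S : Subgroup G) ⊓ Subgroup.normalizer (P' : Set G)).subgroupOf H := by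
    intro x hx
    rw [Subgroup.mem_subgroupOf]
    have hx' : (x : G) ∈ P' := ⟨x, hx, rfl⟩
    exact ⟨hS hx', Subgroup.le_normalizer hx'⟩
  have heq := P.is_maximal' hDH hle
  have hgH : g ∈ H := hN hgN
  have : (⟨g, hgH⟩ : ↥H) ∈ ((S : Subgroup G) ⊓ Subgroup.normalizer (P' : Set G)).subgroupOf H := by
    rw [Subgroup.mem_subgroupOf]
    exact ⟨hgS, hgN⟩
  rw [heq] at this
  exact hgP ⟨⟨g, hgH⟩, this, rfl⟩

end Cfsg.Agent.S1335
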