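import Cfsg.Statements.S1336
import Mathlib

set_option autoImplicit false
open Cfsg

namespace Cfsg.Agent.S1336

section
variable {G : Type*} [Group G]

/-- conjugate of a subgroup -/
abbrev cj (g : G) (A : Subgroup G) : Subgroup G := A.map (MulAut.conj g).toMonoidHom

theorem mem_cj {g : G} {A : Subgroup G} {x : G} : x ∈ cj g A ↔ g⁻¹ * x * g ∈ A := by
  constructor
  · rintro ⟨a, ha, rfl⟩
    simpa [MulAut.conj_apply, mul_assoc] using ha
  · intro h
    exact ⟨g⁻¹ * x * g, h, by simp [MulAut.conj_apply, mul_assoc]⟩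

theorem conj_mem_cj {g : G} {A : Subgroup G} {a : G} (ha : a ∈ A) : g * a * g⁻¹ ∈ cj g A := by
  rw [mem_cj]; simpa [mul_assoc] using ha

theorem cj_one (A : Subgroup G) : cj 1 A = A := by
  ext x; rw [mem_cj]; simp

theorem cj_mul (g h : G) (A : Subgroup G) : cj (g * h) A = cj g (cj h A) := by
  ext x
  rw [mem_cj, mem_cj, mem_cj]
  simp [mul_assoc]

theorem cj_mono (g : G) {A B : Subgroup G} (h : A ≤ B) : cj g A ≤ cj g B := Subgroup.map_mono h

theorem cj_self {A : Subgroup G} {a : G} (ha : a ∈ A) : cj a A = A := by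
  ext x
  rw [mem_cj]
  constructor
  · intro h
    have : x = a * (a⁻¹ * x * a) * a⁻¹ := by group
    rw [this]
    exact A.mul_mem (A.mul_mem ha h) (A.inv_mem ha)
  · intro h
    exact A.mul_mem (A.mul_mem (A.inv_mem ha) h) ha

theorem card_cj (g : G) (A : Subgroup G) : Nat.card ↥(cj g A) = Nat.card ↥A :=
  (Nat.card_congr (A.equivMapOfInjective (MulAut.conj g).toMonoidHom
    (MulAut.conj g).injective).toEquiv).symm

theorem elemAb_cj {p : ℕ} (g : G) {A : Subgroup G} (hA : Cfsg.IsElementaryAbelian p A) :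
    Cfsg.IsElementaryAbelian p (cj g A) := by
  obtain ⟨hc, he⟩ := hA
  refine ⟨⟨⟨?_⟩⟩, ?_⟩
  · rintro ⟨x, hx⟩ ⟨y, hy⟩
    apply Subtype.ext
    rw [mem_cj] at hx hy
    have h1 := congrArg Subtype.val (mul_comm' (⟨_, hx⟩ : ↥A) ⟨_, hy⟩)
    have h2 : g⁻¹ * x * g * (g⁻¹ * y * g) = g⁻¹ * y * g * (g⁻¹ * x * g) := h1
    change x * y = y * x
    calc x * y = g * (g⁻¹ * x * g * (g⁻¹ * y * g)) * g⁻¹ := by group
      _ = g * (g⁻¹ * y * g * (g⁻¹ * x * g)) * g⁻¹ := by rw [h2]
      _ = y * x := by group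
  · intro x hx
    rw [mem_cj] at hx
    have := he _ hx
    have h3 : (g⁻¹ * x * g) ^ p = g⁻¹ * x ^ p * g := by
      have := conj_pow (a := g⁻¹) (b := x) (i := p)
      simpa using this
    rw [h3] at this
    calc x ^ p = g * (g⁻¹ * x ^ p * g) * g⁻¹ := by group
      _ = 1 := by rw [this]; group

/-- the relation from `IsKConnected p 1` -/
def Rel (p : ℕ) (A B : Subgroup G) : Prop :=
  Cfsg.IsElementaryAbelian p A ∧ p ^ 1 ≤ Nat.card ↥A ∧ Cfsg.IsElementaryAbelian p B ∧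
    p ^ 1 ≤ Nat.card ↥B ∧ ∀ a ∈ A, ∀ b ∈ B, a * b = b * a

theorem Rel.symm {p : ℕ} {A B : Subgroup G} (h : Rel p A B) : Rel p B A :=
  ⟨h.2.2.1, h.2.2.2.1, h.1, h.2.1, fun b hb a ha => (h.2.2.2.2 a ha b hb).symm⟩

theorem Rel.conjBy {p : ℕ} {A B : Subgroup G} (h : Rel p A B) (g : G) : Rel p (cj g A) (cj g B) := by
  refine ⟨elemAb_cj g h.1, by rw [card_cj]; exact h.2.1, elemAb_cj g h.2.2.1,
    by rw [card_cj]; exact h.2.2.2.1, ?_⟩
  intro a ha b hb
  rw [mem_cj] at ha hb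
  have := h.2.2.2.2 _ ha _ hb
  calc a * b = g * (g⁻¹ * a * g * (g⁻¹ * b * g)) * g⁻¹ := by group
    _ = g * (g⁻¹ * b * g * (g⁻¹ * a * g)) * g⁻¹ := by rw [this]
    _ = b * a := by group

abbrev Conn (p : ℕ) (A B : Subgroup G) : Prop := Relation.ReflTransGen (Rel p) A B

theorem Conn.symm {p : ℕ} {A B : Subgroup G} (h : Conn p A B) : Conn p B A := by
  induction h with
  | refl => exact Relation.ReflTransGen.refl
  | tail _ hbc ih => exact Relation.ReflTransGen.head (Rel.symm hbc) ih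

theorem Conn.conjBy {p : ℕ} {A B : Subgroup G} (h : Conn p A B) (g : G) :
    Conn p (cj g A) (cj g B) := by
  induction h with
  | refl => exact Relation.ReflTransGen.refl
  | tail _ hbc ih => exact Relation.ReflTransGen.tail ih (Rel.conjBy hbc g)

theorem isPGroup_of_elemAb {p : ℕ} {A : Subgroup G} (hA : Cfsg.IsElementaryAbelian p A) :
    IsPGroup p ↥A := by
  intro a
  refine ⟨1, ?_⟩
  apply Subtype.ext
  rw [pow_one]
  exact hA.2 a a.2

theorem dvd_card_of_mem {p : ℕ} [Fact p.Prime] [Finite G] {A : Subgroup G}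
    (hA : Cfsg.IsElementaryAbelian p A) (hc : p ^ 1 ≤ Nat.card ↥A) : p ∣ Nat.card ↥A := by
  obtain ⟨n, hn⟩ := (isPGroup_of_elemAb hA).exists_card_eq
  rw [hn] at hc ⊢
  have hp : 1 < p := (Fact.out : p.Prime).one_lt
  have : n ≠ 0 := by
    intro h0
    rw [h0, pow_zero, pow_one] at hc
    omega
  exact dvd_pow_self p this

theorem elemAb_zpowers {p : ℕ} {x : G} (hx : orderOf x = p) :
    Cfsg.IsElementaryAbelian p (Subgroup.zpowers x) := by
  refine ⟨inferInstance, ?_⟩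
  intro a ha
  obtain ⟨k, rfl⟩ := Subgroup.mem_zpowers_iff.mp ha
  rw [← zpow_natCast, ← zpow_mul, mul_comm, zpow_mul, zpow_natCast, ← hx, pow_orderOf_eq_one,
    one_zpow]

theorem card_zpowers_ge {p : ℕ} {x : G} (hx : orderOf x = p) :
    p ^ 1 ≤ Nat.card ↥(Subgroup.zpowers x) := by
  rw [Nat.card_zpowers, hx, pow_one]

end

/-- the forward direction -/
theorem forward {G : Type*} [Group G] [Finite G] (p : ℕ) [Fact p.Prime] (H : Subgroup G)
    (hH : H ≠ ⊤) (hp : p ∣ Nat.card ↥H)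
    (hse : ∀ g : G, g ∉ H → ¬ p ∣ Nat.card ↥(H ⊓ H.map (MulAut.conj g).toMonoidHom))
    (hconn : ∀ E E' : Subgroup G, Cfsg.IsElementaryAbelian p E → p ^ 1 ≤ Nat.card ↥E →
      Cfsg.IsElementaryAbelian p E' → p ^ 1 ≤ Nat.card ↥E' → Conn p E E') : False := by
  obtain ⟨x, hx⟩ := exists_prime_orderOf_dvd_card' (G := ↥H) p hp
  have hx' : orderOf (x : G) = p := by rw [Subgroup.orderOf_coe]; exact hx
  set E₀ := Subgroup.zpowers (x : G) with hE₀
  have hE₀H : E₀ ≤ H := by
    rw [hE₀, Subgroup.zpowers_le]; exact x.2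
  have hE₀e := elemAb_zpowers hx'
  have hE₀c := card_zpowers_ge hx'
  -- key claim
  have key : ∀ A B : Subgroup G, A ≤ H → Rel p A B → B ≤ H := by
    intro A B hAH hR b hb
    by_contra hbH
    apply hse b hbH
    have hle : A ≤ H ⊓ cj b H := by
      intro a ha
      refine ⟨hAH ha, ?_⟩
      change a ∈ cj b H
      rw [mem_cj]
      have := hR.2.2.2.2 a ha b hb
      have h2 : b⁻¹ * a * b = a := by
        rw [mul_assoc, this, ← mul_assoc, inv_mul_cancel, one_mul]
      rw [h2]; exact hAH ha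
    exact (dvd_card_of_mem hR.1 hR.2.1).trans (Subgroup.card_dvd_of_le hle)
  have chain : ∀ B : Subgroup G, Conn p E₀ B → B ≤ H := by
    intro B hB
    induction hB with
    | refl => exact hE₀H
    | tail _ hR ih => exact key _ _ ih hR
  obtain ⟨g, hg⟩ : ∃ g, g ∉ H := by
    by_contra hcon
    push Not at hcon
    exact hH ((Subgroup.eq_top_iff' H).mpr hcon)
  have h1 : cj g E₀ ≤ H :=
    chain _ (hconn _ _ hE₀e hE₀c (elemAb_cj g hE₀e) (by rw [card_cj]; exact hE₀c))
  have h2 : cj g E₀ ≤ H ⊓ cj g H := le_inf h1 (cj_mono g hE₀H)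
  apply hse g hg
  have h3 : p ∣ Nat.card ↥(cj g E₀) := by
    rw [card_cj]; exact dvd_card_of_mem hE₀e hE₀c
  exact h3.trans (Subgroup.card_dvd_of_le h2)

/-- the stabilizer of the component of `E` -/
def stab {G : Type*} [Group G] (p : ℕ) (E : Subgroup G) : Subgroup G where
  carrier := {g | Conn p E (cj g E)}
  one_mem' := by
    change Conn p E (cj 1 E)
    rw [cj_one]
  mul_mem' := by
    intro g h hg hh
    change Conn p E (cj (g * h) E)
    rw [cj_mul]
    exact Relation.ReflTransGen.trans hg (Conn.conjBy hh g)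
  inv_mem' := by
    intro g hg
    change Conn p E (cj g⁻¹ E)
    have := (Conn.conjBy hg g⁻¹).symm
    rwa [← cj_mul, inv_mul_cancel, cj_one] at this

theorem mem_stab {G : Type*} [Group G] {p : ℕ} {E : Subgroup G} {g : G} :
    g ∈ stab p E ↔ Conn p E (cj g E) := Iff.rfl

theorem le_stab_of_conn {G : Type*} [Group G] {p : ℕ} {E A : Subgroup G} (h : Conn p E A) :
    A ≤ stab p E := by
  intro a ha
  rw [mem_stab]
  have h1 := (Conn.conjBy h a)
  rw [cj_self ha] at h1
  exact Relation.ReflTransGen.trans h h1.symm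

/-- key claim (★) -/
theorem conn_of_le_stab {G : Type*} [Group G] [Finite G] (p : ℕ) [Fact p.Prime]
    (E : Subgroup G) (hE : Cfsg.IsElementaryAbelian p E) (hEc : p ^ 1 ≤ Nat.card ↥E)
    (A : Subgroup G) (hA : Cfsg.IsElementaryAbelian p A) (hAc : p ^ 1 ≤ Nat.card ↥A)
    (hAH : A ≤ stab p E) : Conn p E A := by
  set H := stab p E with hH
  have hEH : E ≤ H := le_stab_of_conn Relation.ReflTransGen.refl
  -- Sylow subgroups of H
  have hEp : IsPGroup p ↥(E.subgroupOf H) := (isPGroup_of_elemAb hE).comap_subtype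
  have hAp : IsPGroup p ↥(A.subgroupOf H) := (isPGroup_of_elemAb hA).comap_subtype
  obtain ⟨Q₁, hQ₁⟩ := hEp.exists_le_sylow
  obtain ⟨Q, hQ⟩ := hAp.exists_le_sylow
  obtain ⟨h, hh⟩ := MulAction.exists_smul_eq ↥H Q₁ Q
  -- nontrivial centre
  have hp1 : 1 < p := (Fact.out : p.Prime).one_lt
  have hEnt : ∃ e ∈ E, e ≠ 1 := by
    by_contra hcon
    push Not at hcon
    have : E = ⊥ := (Subgroup.eq_bot_iff_forall E).mpr hcon
    rw [this, Subgroup.card_bot, pow_one] at hEc
    omega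
  obtain ⟨e, heE, he1⟩ := hEnt
  have hnt : Nontrivial ↥(Q₁ : Subgroup ↥H) := by
    refine ⟨⟨⟨⟨e, hEH heE⟩, hQ₁ (Subgroup.mem_subgroupOf.mpr heE)⟩, 1, ?_⟩⟩
    intro h1
    apply he1
    have := congrArg (fun q : ↥(Q₁ : Subgroup ↥H) => ((q : ↥H) : G)) h1
    exact this
  have hcnt : Nontrivial (Subgroup.center ↥(Q₁ : Subgroup ↥H)) := Q₁.isPGroup'.center_nontrivial
  have hcp : IsPGroup p (Subgroup.center ↥(Q₁ : Subgroup ↥H)) :=
    Q₁.isPGroup'.to_subgroup _
  have hdvd : p ∣ Nat.card (Subgroup.center ↥(Q₁ : Subgroup ↥H)) := by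
    obtain ⟨n, hn⟩ := hcp.exists_card_eq
    have hn0 : n ≠ 0 := by
      intro h0
      rw [h0, pow_zero] at hn
      have := (Nat.card_eq_one_iff_unique.mp hn).1
      exact not_subsingleton _ this
    rw [hn]; exact dvd_pow_self p hn0
  obtain ⟨z, hz⟩ := exists_prime_orderOf_dvd_card' (G := Subgroup.center ↥(Q₁ : Subgroup ↥H)) p hdvd
  -- z as an element of G
  set zG : G := (((z : ↥(Q₁ : Subgroup ↥H)) : ↥H) : G) with hzG
  have hzo : orderOf zG = p := by
    rw [hzG, Subgroup.orderOf_coe, Subgroup.orderOf_coe, Subgroup.orderOf_coe]; exact hz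
  have hzcomm : ∀ q : ↥H, q ∈ (Q₁ : Subgroup ↥H) → (q : G) * zG = zG * (q : G) := by
    intro q hq
    have := Subgroup.mem_center_iff.mp z.2 ⟨q, hq⟩
    have := congrArg (fun q : ↥(Q₁ : Subgroup ↥H) => ((q : ↥H) : G)) this
    exact this
  set Z₁ := Subgroup.zpowers zG with hZ₁
  have hZ₁e := elemAb_zpowers hzo
  have hZ₁c := card_zpowers_ge hzo
  -- E commutes with Z₁
  have hR1 : Rel p E Z₁ := by
    refine ⟨hE, hEc, hZ₁e, hZ₁c, ?_⟩
    intro a ha b hb
    obtain ⟨k, rfl⟩ := Subgroup.mem_zpowers_iff.mp hb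
    have hq : (⟨a, hEH ha⟩ : ↥H) ∈ (Q₁ : Subgroup ↥H) := hQ₁ (Subgroup.mem_subgroupOf.mpr ha)
    have hc : Commute a zG := hzcomm ⟨a, hEH ha⟩ hq
    exact (hc.zpow_right k).eq
  -- conjugate by h
  have hhH : (h : G) ∈ H := h.2
  have hconn1 : Conn p E (cj (h : G) E) := mem_stab.mp hhH
  have hconn2 : Conn p E (cj (h : G) Z₁) :=
    Relation.ReflTransGen.trans hconn1 (Conn.conjBy (Relation.ReflTransGen.single hR1) (h : G))
  -- cj h Z₁ commutes with A
  have hR2 : Rel p (cj (h : G) Z₁) A := by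
    refine ⟨elemAb_cj _ hZ₁e, by rw [card_cj]; exact hZ₁c, hA, hAc, ?_⟩
    intro b hb a ha
    rw [mem_cj] at hb
    obtain ⟨k, hk⟩ := Subgroup.mem_zpowers_iff.mp hb
    -- a ∈ Q = h • Q₁
    have haQ : (⟨a, hAH ha⟩ : ↥H) ∈ (Q : Subgroup ↥H) := hQ (Subgroup.mem_subgroupOf.mpr ha)
    rw [← hh, Sylow.smul_def] at haQ
    have haQ' : h⁻¹ * ⟨a, hAH ha⟩ * h ∈ (Q₁ : Subgroup ↥H) := by
      have := (Subgroup.mem_pointwise_smul_iff_inv_smul_mem).mp haQ
      simpa [MulAut.smul_def, MulAut.conj_apply, mul_assoc] using this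
    have hc : Commute ((h : G)⁻¹ * a * (h : G)) zG := hzcomm _ haQ'
    have hc2 := (hc.zpow_right k).eq
    rw [hk] at hc2
    -- hc2 : h⁻¹ a h * (h⁻¹ b h) = (h⁻¹ b h) * h⁻¹ a h
    calc b * a = (h : G) * (((h : G)⁻¹ * b * (h : G)) * ((h : G)⁻¹ * a * (h : G))) * (h : G)⁻¹ := by
          group
      _ = (h : G) * (((h : G)⁻¹ * a * (h : G)) * ((h : G)⁻¹ * b * (h : G))) * (h : G)⁻¹ := by
          rw [hc2]
      _ = a * b := by group
  exact Relation.ReflTransGen.tail hconn2 hR2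

/-- Let G be finite and p prime. Then G has a proper subgroup H with p ∣ |H| and p ∤ |H ∩ gHg⁻¹| for every g ∉ H (a strongly p-embedded subgroup) if and only if G is not 1-connected for p. -/
theorem result {G : Type*} [Group G] [Finite G] (p : ℕ) [Fact p.Prime] : (∃ H : Subgroup G, H ≠ ⊤ ∧ p ∣ Nat.card ↥H ∧ ∀ g : G, g ∉ H → ¬ p ∣ Nat.card ↥(H ⊓ H.map (MulAut.conj g).toMonoidHom)) ↔ ¬ Cfsg.IsKConnected p 1 G := by
  constructor
  · rintro ⟨H, hH, hp, hse⟩ hconn
    exact forward p H hH hp hse hconn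
  · intro hnc
    unfold Cfsg.IsKConnected at hnc
    push Not at hnc
    obtain ⟨E, E', hE, hEc, hE', hE'c, hnot⟩ := hnc
    have hnot' : ¬ Conn p E E' := hnot
    refine ⟨stab p E, ?_, ?_, ?_⟩
    · intro htop
      apply hnot'
      apply conn_of_le_stab p E hE hEc E' hE' hE'c
      rw [htop]; exact le_top
    · have hEH : E ≤ stab p E := le_stab_of_conn Relation.ReflTransGen.refl
      exact (dvd_card_of_mem hE hEc).trans (Subgroup.card_dvd_of_le hEH)
    · intro g hg hdvd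
      apply hg
      obtain ⟨x, hx⟩ := exists_prime_orderOf_dvd_card' (G := ↥(stab p E ⊓ cj g (stab p E))) p hdvd
      have hxo : orderOf (x : G) = p := by rw [Subgroup.orderOf_coe]; exact hx
      set X := Subgroup.zpowers (x : G) with hX
      have hXe := elemAb_zpowers hxo
      have hXc := card_zpowers_ge hxo
      have hXH : X ≤ stab p E := by
        rw [hX, Subgroup.zpowers_le]; exact x.2.1
      have hXg : X ≤ cj g (stab p E) := by
        rw [hX, Subgroup.zpowers_le]; exact x.2.2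
      have h1 : Conn p E X := conn_of_le_stab p E hE hEc X hXe hXc hXH
      -- cj g⁻¹ X ≤ stab
      have hXg' : cj g⁻¹ X ≤ stab p E := by
        intro y hy
        rw [mem_cj] at hy
        have := hXg hy
        rw [mem_cj] at this
        simpa [mul_assoc] using this
      have h2 : Conn p E (cj g⁻¹ X) :=
        conn_of_le_stab p E hE hEc _ (elemAb_cj _ hXe) (by rw [card_cj]; exact hXc) hXg'
      have h3 : Conn p (cj g E) X := by
        have := Conn.conjBy h2 g
        rwa [← cj_mul, mul_inv_cancel, cj_one] at this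
      rw [mem_stab]
      exact Relation.ReflTransGen.trans h1 h3.symm

end Cfsg.Agent.S1336
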