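import Cfsg.Statements.S1338
import Cfsg.Agent.Lib.Helper22.CubeBound
import Cfsg.Agent.S0122
import Cfsg.Agent.S1337

set_option autoImplicit false
open Cfsg

namespace Cfsg.Agent.S1338

open Cfsg.Agent.Helper22

/-- A finite 3-group of 3-rank at least 4 is 2-connected for the prime 3: its commuting graph on elementary abelian subgroups of order ≥ 9 is connected. -/
theorem result {P : Type*} [Group P] [Finite P] (hP : IsPGroup 3 P) (hrk : ¬ Cfsg.PRankLE 3 3 P) : Cfsg.IsKConnected 3 2 P := by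
  have : Fact (Nat.Prime 3) := ⟨Nat.prime_three⟩
  unfold PRankLE at hrk
  push Not at hrk
  obtain ⟨E, hE1, hE2, hE3⟩ := hrk
  have hEe : IsElementaryAbelian 3 E := ⟨hE1, hE2⟩
  obtain ⟨k, hk⟩ := IsPGroup.iff_card.mp (hP.to_subgroup E)
  have hk4 : 4 ≤ k := by
    rw [hk] at hE3
    have := (Nat.pow_lt_pow_iff_right (by norm_num : 1 < 3)).mp hE3
    omega
  obtain ⟨E₄', hE₄'⟩ := Sylow.exists_subgroup_card_pow_prime (G := E) 3
    (show 3 ^ 4 ∣ Nat.card E by rw [hk]; exact pow_dvd_pow 3 hk4)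
  set E₄ : Subgroup P := E₄'.map E.subtype with hE₄
  have hE₄e : IsElementaryAbelian 3 E₄ := Helper10.elemAb_mono hEe (Subgroup.map_subtype_le _)
  have hE₄c : Nat.card E₄ = 3 ^ 4 := by
    rw [hE₄, Subgroup.card_map_of_injective E.subtype_injective]
    exact hE₄'
  obtain ⟨N, hNn, hNe, hNc⟩ := Cfsg.Agent.S0122.result (by norm_num) hP E₄ hE₄e hE₄c
  have hrk2 : ¬ PRankLE 3 2 P := by
    intro h
    have := h E hE1 hE2
    omega
  obtain ⟨U, hUn, hUe, hUc, hU⟩ := Cfsg.Agent.S1337.result 3 hP hrk2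
  intro X X' hX hXc hX' hX'c
  have h1 := (hU X hX hXc).mpr (not_pRankLE_centralizer_of_normal_E81 hP N hNe hNc X hX hXc)
  have h2 := (hU X' hX' hX'c).mpr
    (not_pRankLE_centralizer_of_normal_E81 hP N hNe hNc X' hX' hX'c)
  have hsymm : ∀ A B : Subgroup P, (IsElementaryAbelian 3 A ∧
      3 ^ 2 ≤ Nat.card ↥A ∧ IsElementaryAbelian 3 B ∧ 3 ^ 2 ≤ Nat.card ↥B ∧
      ∀ a ∈ A, ∀ b ∈ B, a * b = b * a) → (IsElementaryAbelian 3 B ∧
      3 ^ 2 ≤ Nat.card ↥B ∧ IsElementaryAbelian 3 A ∧ 3 ^ 2 ≤ Nat.card ↥A ∧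
      ∀ b ∈ B, ∀ a ∈ A, b * a = a * b) := by
    rintro A B ⟨hA, hAc, hB, hBc, hcomm⟩
    exact ⟨hB, hBc, hA, hAc, fun b hb a ha => (hcomm a ha b hb).symm⟩
  have h2' : Relation.ReflTransGen (fun A B : Subgroup P => IsElementaryAbelian 3 A ∧
      3 ^ 2 ≤ Nat.card ↥A ∧ IsElementaryAbelian 3 B ∧ 3 ^ 2 ≤ Nat.card ↥B ∧
      ∀ a ∈ A, ∀ b ∈ B, a * b = b * a) U X' := by
    rw [← Relation.reflTransGen_swap]
    exact Relation.ReflTransGen.mono (fun A B h => hsymm A B h) _ _ h2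
  exact h1.trans h2'

end Cfsg.Agent.S1338
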