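import Cfsg.Statements.S1340
import Cfsg.Agent.Lib.Helper22.SLQuasi
import Cfsg.Agent.Lib.Helper22.BlockGL
import Cfsg.Agent.Lib.Helper34.Cover
import Cfsg.Agent.S1289

set_option autoImplicit false
open Cfsg

namespace Cfsg.Agent.S1340

open Matrix Cfsg.Agent.Helper22.BlockGL

variable {F : Type*} [Field F] {m : ℕ}

/-- the involution `diag(-1, 1, …, 1)` -/
def tInv (F : Type*) [Field F] (m : ℕ) : GL (Fin (m + 1)) F :=
  ⟨blkd (-1) 1, blkd (-1) 1, by rw [blkd_mul]; simp [blkd_one], by rw [blkd_mul]; simp [blkd_one]⟩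

lemma tInv_val : ((tInv F m : GL (Fin (m + 1)) F) : Matrix (Fin (m + 1)) (Fin (m + 1)) F) =
    blkd (-1) 1 := rfl

/-- the block embedding `SL_m → GL_{m+1}` -/
def phi (F : Type*) [Field F] (m : ℕ) : SpecialLinearGroup (Fin m) F →* GL (Fin (m + 1)) F :=
  MonoidHom.toHomUnits
    { toFun := fun A => blkd 1 (A : Matrix (Fin m) (Fin m) F)
      map_one' := by simp [blkd_one]
      map_mul' := fun A B => by simp [blkd_mul] }

lemma phi_val (A : SpecialLinearGroup (Fin m) F) :
    ((phi F m A : GL (Fin (m + 1)) F) : Matrix (Fin (m + 1)) (Fin (m + 1)) F) =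
      blkd 1 (A : Matrix (Fin m) (Fin m) F) := rfl

lemma phi_comm (A : SpecialLinearGroup (Fin m) F) : phi F m A * tInv F m = tInv F m * phi F m A := by
  apply Units.ext
  rw [Units.val_mul, Units.val_mul, phi_val, tInv_val, blkd_mul, blkd_mul]
  simp

lemma phi_injective : Function.Injective (phi F m) := by
  intro A B h
  have h1 := congrArg (fun g : GL (Fin (m + 1)) F => (g : Matrix (Fin (m + 1)) (Fin (m + 1)) F)) h
  simp only [phi_val] at h1
  exact Subtype.ext (blkd_injective h1).2

lemma entries_of_comm (h2 : (2 : F) ≠ 0) (c : Matrix (Fin (m + 1)) (Fin (m + 1)) F)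
    (hc : c * blkd (-1) 1 = blkd (-1) 1 * c) :
    (∀ j : Fin m, c 0 j.succ = 0) ∧ (∀ i : Fin m, c i.succ 0 = 0) := by
  refine ⟨fun j => ?_, fun i => ?_⟩
  · have h := congrFun (congrFun hc 0) j.succ
    simp [Matrix.mul_apply, Fin.sum_univ_succ, Matrix.one_apply] at h
    have h3 : (2 : F) * c 0 j.succ = 0 := by linear_combination h
    exact (mul_eq_zero.mp h3).resolve_left h2
  · have h := congrFun (congrFun hc i.succ) 0
    simp [Matrix.mul_apply, Fin.sum_univ_succ, Matrix.one_apply] at h
    have h3 : (2 : F) * c i.succ 0 = 0 := by linear_combination -h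
    exact (mul_eq_zero.mp h3).resolve_left h2


/-- an involution in `SL_m`, `m ≥ 2` -/
lemma exists_involution_SL (h2 : (2 : F) ≠ 0) (hm : 2 ≤ m) :
    ∃ s : SpecialLinearGroup (Fin m) F, orderOf s = 2 := by
  classical
  set i0 : Fin m := ⟨0, by omega⟩ with hi0
  set i1 : Fin m := ⟨1, by omega⟩ with hi1
  have h01 : i0 ≠ i1 := by simp [hi0, hi1, Fin.ext_iff]
  set d : Fin m → F := fun i => (if i = i0 then (-1 : F) else 1) * (if i = i1 then (-1 : F) else 1)
    with hd
  have hdet : (Matrix.diagonal d).det = 1 := by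
    rw [Matrix.det_diagonal, hd, Finset.prod_mul_distrib, Finset.prod_ite_eq', Finset.prod_ite_eq']
    simp
  have hdd : ∀ i, d i * d i = 1 := by
    intro i
    simp only [hd]
    split_ifs <;> ring
  have hne1 : (-1 : F) ≠ 1 := by
    intro h
    apply h2
    linear_combination -h
  let s : SpecialLinearGroup (Fin m) F := ⟨Matrix.diagonal d, hdet⟩
  have hsval : (s : Matrix (Fin m) (Fin m) F) = Matrix.diagonal d := rfl
  refine ⟨s, ?_⟩
  apply orderOf_eq_prime
  · rw [pow_two]
    apply Subtype.ext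
    change (s : Matrix (Fin m) (Fin m) F) * (s : Matrix (Fin m) (Fin m) F) = 1
    rw [hsval, Matrix.diagonal_mul_diagonal, ← Matrix.diagonal_one]
    congr 1
    funext i
    exact hdd i
  · intro h
    have h1 := congrArg (fun A : SpecialLinearGroup (Fin m) F =>
      (A : Matrix (Fin m) (Fin m) F) i0 i0) h
    simp only [hsval, Matrix.diagonal_apply_eq] at h1
    simp only [hd, if_neg h01] at h1
    simp at h1
    exact hne1 h1

theorem main [Fintype F] [DecidableEq F] (hF : Odd (Fintype.card F)) (hm : 2 ≤ m)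
    (h33 : 3 ≤ m ∨ 4 ≤ Fintype.card F) :
    ∃ t : GL (Fin (m + 1)) F, orderOf t = 2 ∧ t ∉ Subgroup.center (GL (Fin (m + 1)) F) ∧
      Cfsg.HasComponent (↥(Subgroup.centralizer ({t} : Set (GL (Fin (m + 1)) F))) ⧸
        Cfsg.oddCore ↥(Subgroup.centralizer ({t} : Set (GL (Fin (m + 1)) F)))) := by
  classical
  have h2 : (2 : F) ≠ 0 := by
    apply Ring.two_ne_zero
    intro hch
    have := (FiniteField.even_card_iff_char_two (F := F)).mp hch
    rcases hF with ⟨k, hk⟩
    omega
  have hne1 : (-1 : F) ≠ 1 := by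
    intro h
    apply h2
    linear_combination -h
  refine ⟨tInv F m, ?_, ?_, ?_⟩
  · apply orderOf_eq_prime
    · apply Units.ext
      rw [pow_two, Units.val_mul, tInv_val, blkd_mul]
      simp [blkd_one]
    · intro h
      have h1 := congrArg (fun g : GL (Fin (m + 1)) F =>
        (g : Matrix (Fin (m + 1)) (Fin (m + 1)) F) 0 0) h
      simp only [tInv_val, blkd_zero_zero, Units.val_one, Matrix.one_apply_eq] at h1
      exact hne1 h1
  · intro hcen
    rw [Subgroup.mem_center_iff] at hcen
    set j0 : Fin m := ⟨0, by omega⟩ with hj0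
    have hij : (0 : Fin (m + 1)) ≠ j0.succ := (Fin.succ_ne_zero j0).symm
    set g : GL (Fin (m + 1)) F :=
      ⟨Matrix.transvection 0 j0.succ 1, Matrix.transvection 0 j0.succ (-1),
        by rw [Matrix.transvection_mul_transvection_same _ _ hij 1 (-1)]; simp,
        by rw [Matrix.transvection_mul_transvection_same _ _ hij (-1) 1]; simp⟩ with hg
    have h1 := hcen g
    have h3 : (g : Matrix (Fin (m + 1)) (Fin (m + 1)) F) * blkd (-1) 1 =
        blkd (-1) 1 * (g : Matrix (Fin (m + 1)) (Fin (m + 1)) F) := by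
      have := congrArg (fun x : GL (Fin (m + 1)) F =>
        (x : Matrix (Fin (m + 1)) (Fin (m + 1)) F)) h1
      simpa [Units.val_mul, tInv_val] using this
    have h4 := (entries_of_comm h2 _ h3).1 j0
    simp [hg, Matrix.transvection, hij] at h4
  · set t := tInv F m with ht
    set C := Subgroup.centralizer ({t} : Set (GL (Fin (m + 1)) F)) with hC
    have hmemC : ∀ c : GL (Fin (m + 1)) F, c ∈ C →
        (c : Matrix (Fin (m + 1)) (Fin (m + 1)) F) * blkd (-1) 1 =
          blkd (-1) 1 * (c : Matrix (Fin (m + 1)) (Fin (m + 1)) F) := by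
      intro c hc
      rw [hC, Subgroup.mem_centralizer_singleton_iff] at hc
      have := congrArg (fun x : GL (Fin (m + 1)) F =>
        (x : Matrix (Fin (m + 1)) (Fin (m + 1)) F)) hc
      simpa [Units.val_mul, ht, tInv_val] using this
    let φ' : SpecialLinearGroup (Fin m) F →* ↥C :=
      (phi F m).codRestrict C
        (fun A => Subgroup.mem_centralizer_singleton_iff.mpr (phi_comm A))
    have hφ'val : ∀ A, ((φ' A : ↥C) : GL (Fin (m + 1)) F) = phi F m A := fun A => rfl
    have hφ'inj : Function.Injective φ' := by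
      intro A B h
      apply phi_injective
      have := congrArg (fun x : ↥C => (x : GL (Fin (m + 1)) F)) h
      simpa [hφ'val] using this
    let L : Subgroup ↥C := φ'.range
    have hLn : L.Normal := by
      constructor
      rintro _ ⟨A, rfl⟩ c
      set M : Matrix (Fin (m + 1)) (Fin (m + 1)) F :=
        ((c : GL (Fin (m + 1)) F) : Matrix (Fin (m + 1)) (Fin (m + 1)) F) with hM
      set M' : Matrix (Fin (m + 1)) (Fin (m + 1)) F :=
        (((c⁻¹ : ↥C) : GL (Fin (m + 1)) F) : Matrix (Fin (m + 1)) (Fin (m + 1)) F) with hM'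
      obtain ⟨e1, e2⟩ := entries_of_comm h2 M (hmemC _ c.2)
      obtain ⟨e1', e2'⟩ := entries_of_comm h2 M' (hmemC _ (c⁻¹).2)
      have hMb := eq_blkd M e1 e2
      have hM'b := eq_blkd M' e1' e2'
      have hMM' : M * M' = 1 := by
        rw [hM, hM', ← Units.val_mul, ← Subgroup.coe_mul, mul_inv_cancel]
        rfl
      set B := M.submatrix Fin.succ Fin.succ with hB
      set B' := M'.submatrix Fin.succ Fin.succ with hB'
      rw [hMb, hM'b, blkd_mul, ← blkd_one] at hMM'
      obtain ⟨ha, hBB'⟩ := blkd_injective hMM'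
      have hdetA' : (B * (A : Matrix (Fin m) (Fin m) F) * B').det = 1 := by
        rw [Matrix.det_mul, Matrix.det_mul, A.2, mul_one, ← Matrix.det_mul, hBB', Matrix.det_one]
      refine ⟨⟨B * (A : Matrix (Fin m) (Fin m) F) * B', hdetA'⟩, ?_⟩
      apply Subtype.ext
      apply Units.ext
      change blkd 1 (B * (A : Matrix (Fin m) (Fin m) F) * B') = M * blkd 1 (A : Matrix (Fin m) (Fin m) F) * M'
      rw [hMb, hM'b, blkd_mul, blkd_mul, mul_one, ha]
    set O := Cfsg.oddCore ↥C with hO
    let ψ : SpecialLinearGroup (Fin m) F →* (↥C ⧸ O) := (QuotientGroup.mk' O).comp φ'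
    have hKeq : ψ.range = L.map (QuotientGroup.mk' O) := (MonoidHom.map_range _ _).symm
    have hKn : (ψ.range).Normal := by
      rw [hKeq]
      exact hLn.map _ (QuotientGroup.mk'_surjective O)
    have hQ : Cfsg.IsQuasisimple (SpecialLinearGroup (Fin m) F) :=
      Cfsg.Agent.Helper22.SLQuasi.sl_isQuasisimple m hm h33
    have hnt : Nontrivial ↥ψ.range := by
      by_contra hnt
      rw [not_nontrivial_iff_subsingleton] at hnt
      have hbot : ψ.range = ⊥ := Subgroup.eq_bot_of_subsingleton _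
      rw [hKeq] at hbot
      have hcop := Cfsg.Agent.S1289.coprime_card_of_map_eq_bot 2 hbot
      obtain ⟨s, hs⟩ := exists_involution_SL h2 hm
      have hs' : orderOf (φ' s) = 2 := by rw [orderOf_injective φ' hφ'inj s, hs]
      have hdvd : 2 ∣ Nat.card L := by
        rw [← hs']
        exact Subgroup.orderOf_dvd_natCard L ⟨s, rfl⟩
      have := Nat.Coprime.eq_one_of_dvd hcop.symm hdvd
      omega
    refine ⟨ψ.range, hKn.isSubnormal, ?_⟩
    exact Cfsg.Agent.Helper34.isQuasisimple_of_surjective hQ ψ.rangeRestrict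
      ψ.rangeRestrict_surjective

/-- Let F be a finite field of odd order and n ≥ 3 with (n, |F|) ≠ (3, 3). Then GL(n, F) has a non-central involution t such that C(t) / O(C(t)) has a component. -/
theorem result {F : Type*} [Field F] [Fintype F] [DecidableEq F] (hF : Odd (Fintype.card F)) (n : ℕ) (hn : 3 ≤ n) (h33 : ¬ (n = 3 ∧ Fintype.card F = 3)) : ∃ t : Matrix.GeneralLinearGroup (Fin n) F, orderOf t = 2 ∧ t ∉ Subgroup.center (Matrix.GeneralLinearGroup (Fin n) F) ∧ Cfsg.HasComponent (↥(Subgroup.centralizer ({t} : Set (Matrix.GeneralLinearGroup (Fin n) F))) ⧸ Cfsg.oddCore ↥(Subgroup.centralizer ({t} : Set (Matrix.GeneralLinearGroup (Fin n) F)))) := by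
  obtain ⟨m, rfl⟩ : ∃ m, n = m + 1 := ⟨n - 1, by omega⟩
  have hm : 2 ≤ m := by omega
  have hcard1 : 1 < Fintype.card F := Fintype.one_lt_card
  have h33' : 3 ≤ m ∨ 4 ≤ Fintype.card F := by
    by_cases h3 : 3 ≤ m
    · exact Or.inl h3
    · right
      have hm2 : m = 2 := by omega
      rcases hF with ⟨k, hk⟩
      have : Fintype.card F ≠ 3 := fun h => h33 ⟨by omega, h⟩
      omega
  exact main hF hm h33'

end Cfsg.Agent.S1340
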