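import Mathlib
import Cfsg.Statements.S1341
import Cfsg.Agent.Lib.Helper23.ExtLayer2
-- import your own Cfsg.Agent.* helpers here

set_option autoImplicit false
open Cfsg

namespace Cfsg.Agent.S1341

open Cfsg.Agent.Helper23

/-- Let X be finite and T a Sylow 2-subgroup of L_{2'}(X) O_{2',2}(X). Then L*_{2'}(X) = L_{2'}(X) ⊔ O(X) ⊔ O(C_X(T)). -/
theorem result {X : Type*} [Group X] [Finite X] (T : Sylow 2 ↥(Cfsg.pLayer 2 X ⊔ Cfsg.pPrimePCore 2 X)) : Cfsg.extendedTwoLayer X = Cfsg.pLayer 2 X ⊔ Cfsg.oddCore X ⊔ ((Cfsg.oddCore ↥(Subgroup.centralizer (((T : Subgroup ↥(Cfsg.pLayer 2 X ⊔ Cfsg.pPrimePCore 2 X)).map (Cfsg.pLayer 2 X ⊔ Cfsg.pPrimePCore 2 X).subtype : Subgroup X) : Set X))).map (Subgroup.centralizer (((T : Subgroup ↥(Cfsg.pLayer 2 X ⊔ Cfsg.pPrimePCore 2 X)).map (Cfsg.pLayer 2 X ⊔ Cfsg.pPrimePCore 2 X).subtype : Subgroup X) : Set X)).subtype) :=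 by
  have : Fact (Nat.Prime 2) := ⟨Nat.prime_two⟩
  have hext : extendedTwoLayer X = pLayer 2 X ⊔ pPrimeCore 2 X ⊔
      ⨆ T : Sylow 2 ↥(pLayer 2 X ⊔ pPrimePCore 2 X),
        ocOf 2 ((T : Subgroup ↥(pLayer 2 X ⊔ pPrimePCore 2 X)).map (pLayer 2 X ⊔ pPrimePCore 2 X).subtype) := rfl
  rw [hext]
  show _ = pLayer 2 X ⊔ pPrimeCore 2 X ⊔
    ocOf 2 ((T : Subgroup ↥(pLayer 2 X ⊔ pPrimePCore 2 X)).map (pLayer 2 X ⊔ pPrimePCore 2 X).subtype)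
  apply le_antisymm
  · apply sup_le le_sup_left
    apply iSup_le
    intro T'
    exact ocOf_sylow_le 2 T T'
  · apply sup_le le_sup_left
    exact le_trans (le_iSup (fun T : Sylow 2 ↥(pLayer 2 X ⊔ pPrimePCore 2 X) =>
      ocOf 2 ((T : Subgroup ↥(pLayer 2 X ⊔ pPrimePCore 2 X)).map (pLayer 2 X ⊔ pPrimePCore 2 X).subtype)) T)
      le_sup_right

end Cfsg.Agent.S1341
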