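import Mathlib
import Cfsg.Statements.S1342
import Cfsg.Agent.Lib.Helper23.ExtLayer2
-- import your own Cfsg.Agent.* helpers here

set_option autoImplicit false
open Cfsg

namespace Cfsg.Agent.S1342

open Cfsg.Agent.Helper23

/-- For a finite group X, L*_{2'}(X) is normal in X. -/
theorem result {X : Type*} [Group X] [Finite X] : (Cfsg.extendedTwoLayer X).Normal := by
  have : Fact (Nat.Prime 2) := ⟨Nat.prime_two⟩
  have hLn : (pLayer 2 X).Normal := pLayer_normal 2
  have hPn : (pPrimePCore 2 X).Normal := pPrimePCore_normal 2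
  have hWn : (pPrimeCore 2 X).Normal := inferInstance
  have hNn : (pLayer 2 X ⊔ pPrimePCore 2 X).Normal := inferInstance
  have hext : extendedTwoLayer X = pLayer 2 X ⊔ pPrimeCore 2 X ⊔
      ⨆ T : Sylow 2 ↥(pLayer 2 X ⊔ pPrimePCore 2 X),
        ocOf 2 ((T : Subgroup ↥(pLayer 2 X ⊔ pPrimePCore 2 X)).map (pLayer 2 X ⊔ pPrimePCore 2 X).subtype) := rfl
  have key : ∀ g : X, cj (extendedTwoLayer X) g ≤ extendedTwoLayer X := by
    intro g
    rw [hext]
    unfold cj
    rw [Subgroup.map_sup, Subgroup.map_sup, Subgroup.map_iSup]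
    apply sup_le
    · apply sup_le
      · exact (cj_eq_of_normal (pLayer 2 X) g).le.trans (le_sup_left.trans le_sup_left)
      · exact (cj_eq_of_normal (pPrimeCore 2 X) g).le.trans (le_sup_right.trans le_sup_left)
    · apply iSup_le
      intro T
      have h1 := ocOf_cj 2 ((T : Subgroup ↥(pLayer 2 X ⊔ pPrimePCore 2 X)).map
        (pLayer 2 X ⊔ pPrimePCore 2 X).subtype) g
      have h2 := sylow_conjNormal_map_subtype T g
      unfold cj at h1 h2
      rw [← h1, ← h2]
      exact le_trans (le_iSup (fun T : Sylow 2 ↥(pLayer 2 X ⊔ pPrimePCore 2 X) =>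
        ocOf 2 ((T : Subgroup ↥(pLayer 2 X ⊔ pPrimePCore 2 X)).map (pLayer 2 X ⊔ pPrimePCore 2 X).subtype))
        (MulAut.conjNormal (H := pLayer 2 X ⊔ pPrimePCore 2 X) g • T)) le_sup_right
  constructor
  intro n hn g
  exact key g (conj_mem_cj hn)

end Cfsg.Agent.S1342
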