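import Mathlib
import Cfsg.Statements.S1343
import Cfsg.Agent.Lib.Helper23.ExtLayer
-- import your own Cfsg.Agent.* helpers here

set_option autoImplicit false
open Cfsg

namespace Cfsg.Agent.S1343

open Cfsg.Agent.Helper23

/-- Let X be finite. Then L*_{2'}(X) = L_{2'}(X) ⊔ F for some subgroup F of odd order normalized by a Sylow 2-subgroup of X. -/
theorem result {X : Type*} [Group X] [Finite X] : ∃ F : Subgroup X, Odd (Nat.card ↥F) ∧ (∃ S : Sylow 2 X, (S : Subgroup X) ≤ Subgroup.normalizer (F : Set X)) ∧ Cfsg.extendedTwoLayer X = Cfsg.pLayer 2 X ⊔ F := by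
  have : Fact (Nat.Prime 2) := ⟨Nat.prime_two⟩
  have hLn : (pLayer 2 X).Normal := pLayer_normal 2
  have hPn : (pPrimePCore 2 X).Normal := pPrimePCore_normal 2
  have hWn : (pPrimeCore 2 X).Normal := inferInstance
  have hext : extendedTwoLayer X = pLayer 2 X ⊔ pPrimeCore 2 X ⊔
      ⨆ T : Sylow 2 ↥(pLayer 2 X ⊔ pPrimePCore 2 X),
        ocOf 2 ((T : Subgroup ↥(pLayer 2 X ⊔ pPrimePCore 2 X)).map (pLayer 2 X ⊔ pPrimePCore 2 X).subtype) := rfl
  rw [hext]
  set Lyr := pLayer 2 X with hLyr
  set W := pPrimeCore 2 X with hW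
  set P := pPrimePCore 2 X with hP
  set N := Lyr ⊔ P with hN
  have hNn : N.Normal := inferInstance
  obtain ⟨T₀⟩ : Nonempty (Sylow 2 ↥N) := inferInstance
  set Q₀ := (T₀ : Subgroup ↥N).map N.subtype with hQ₀
  refine ⟨W ⊔ ocOf 2 Q₀, ?_, ?_, ?_⟩
  · -- odd
    have h1 : Nat.card ↥(W ⊔ ocOf 2 Q₀) ∣ Nat.card W * Nat.card (ocOf 2 Q₀) :=
      Cfsg.Agent.Helper30.card_sup_dvd_mul' W _
    have h2 : (Nat.card W * Nat.card (ocOf 2 Q₀)).Coprime 2 :=
      Nat.Coprime.mul_left (Cfsg.Agent.Helper30.pPrimeCore_coprime 2) (card_ppcOf_coprime 2 _)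
    have h3 := Nat.Coprime.coprime_dvd_left h1 h2
    exact Nat.coprime_two_right.mp h3
  · -- Sylow
    have hQ₀p : IsPGroup 2 Q₀ := T₀.isPGroup'.map _
    obtain ⟨S, hS⟩ := hQ₀p.exists_le_sylow
    refine ⟨S, ?_⟩
    have hQ₀N : Q₀ ≤ N := Subgroup.map_subtype_le _
    have hSQ : (S : Subgroup X) ≤ Subgroup.normalizer (Q₀ : Set X) := by
      have hmax : ∀ x ∈ (S : Subgroup X), x ∈ N → x ∈ Q₀ := by
        intro x hxS hxN
        have hp : IsPGroup 2 ((S : Subgroup X).subgroupOf N) := S.isPGroup'.comap_subtype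
        have hle : (T₀ : Subgroup ↥N) ≤ (S : Subgroup X).subgroupOf N := by
          intro y hy
          rw [Subgroup.mem_subgroupOf]
          exact hS (Subgroup.mem_map_of_mem _ hy)
        have heq := T₀.is_maximal' hp hle
        have : (⟨x, hxN⟩ : ↥N) ∈ (T₀ : Subgroup ↥N) := by
          rw [← heq]; exact Subgroup.mem_subgroupOf.mpr hxS
        exact ⟨⟨x, hxN⟩, this, rfl⟩
      have key : ∀ s ∈ (S : Subgroup X), ∀ h ∈ Q₀, s * h * s⁻¹ ∈ Q₀ := by
        intro s hs h hh
        apply hmax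
        · exact (S : Subgroup X).mul_mem ((S : Subgroup X).mul_mem hs (hS hh)) ((S : Subgroup X).inv_mem hs)
        · exact hNn.conj_mem h (hQ₀N hh) s
      intro s hs
      rw [Subgroup.mem_set_normalizer_iff]
      intro h
      constructor
      · exact key s hs h
      · intro hh
        have := key s⁻¹ (inv_mem hs) _ hh
        have e : s⁻¹ * (s * h * s⁻¹) * s⁻¹⁻¹ = h := by group
        rwa [e] at this
    have h1 : (S : Subgroup X) ≤ Subgroup.normalizer ((ocOf 2 Q₀ : Subgroup X) : Set X) :=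
      hSQ.trans (normalizer_le_normalizer_ocOf 2 Q₀)
    have h2 : (S : Subgroup X) ≤ Subgroup.normalizer (W : Set X) := by
      rw [Subgroup.normalizer_eq_top]; exact le_top
    exact (le_inf h2 h1).trans (normalizer_inf_le_normalizer_sup _ _)
  · -- equality
    apply le_antisymm
    · apply sup_le
      · exact sup_le le_sup_left (le_sup_left.trans le_sup_right)
      · apply iSup_le
        intro T
        obtain ⟨n, hn⟩ := MulAction.exists_smul_eq ↥N T₀ T
        have hMn : (Lyr ⊔ W).Normal := inferInstance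
        have hM : ((Lyr ⊔ W).subgroupOf N) ⊔ (T₀ : Subgroup ↥N) = ⊤ := by
          have : ((Lyr ⊔ W).subgroupOf N).Normal := inferInstance
          apply sup_eq_top_of_pow_mem 2
          · intro g
            obtain ⟨l, hl, q, hq, hlq⟩ := Subgroup.mem_sup_of_normal_right.mp g.2
            obtain ⟨k, hk⟩ := exists_pow_mem_pPrimeCore hq
            refine ⟨k, ?_⟩
            rw [Subgroup.mem_subgroupOf, Subgroup.coe_pow, ← hlq]
            rw [← QuotientGroup.eq_one_iff (N := Lyr ⊔ W), QuotientGroup.mk_pow, QuotientGroup.mk_mul]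
            have e1 : (QuotientGroup.mk l : X ⧸ (Lyr ⊔ W)) = 1 :=
              (QuotientGroup.eq_one_iff _).mpr ((le_sup_left : Lyr ≤ Lyr ⊔ W) hl)
            rw [e1, one_mul, ← QuotientGroup.mk_pow, QuotientGroup.eq_one_iff]
            exact (le_sup_right : W ≤ Lyr ⊔ W) hk
          · exact T₀.not_dvd_index
        have hn' : n ∈ ((Lyr ⊔ W).subgroupOf N) ⊔ (T₀ : Subgroup ↥N) := hM ▸ Subgroup.mem_top n
        obtain ⟨m, hm, t, ht, hmt⟩ := Subgroup.mem_sup_of_normal_left.mp hn'
        have hT : T = m • T₀ := by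
          rw [← hn, ← hmt, mul_smul]
          congr 1
          exact Sylow.smul_eq_iff_mem_normalizer.mpr (Subgroup.le_normalizer ht)
        rw [hT, sylow_smul_map_subtype, ocOf_cj]
        apply cj_le_of_mem
        · exact le_sup_right.trans le_sup_right
        · have : (m : X) ∈ Lyr ⊔ W := Subgroup.mem_subgroupOf.mp hm
          have hle : Lyr ⊔ W ≤ Lyr ⊔ (W ⊔ ocOf 2 Q₀) := sup_le le_sup_left (le_sup_left.trans le_sup_right)
          exact hle this
    · apply sup_le
      · exact le_sup_left.trans le_sup_left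
      · apply sup_le
        · exact le_sup_right.trans le_sup_left
        · exact le_trans (le_iSup (fun T : Sylow 2 ↥N => ocOf 2 ((T : Subgroup ↥N).map N.subtype)) T₀)
            le_sup_right

end Cfsg.Agent.S1343
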