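import Mathlib
import Cfsg.Statements.S1344
import Cfsg.Agent.Lib.Helper23.ExtLayer3
-- import your own Cfsg.Agent.* helpers here

set_option autoImplicit false
open Cfsg

namespace Cfsg.Agent.S1344

open Cfsg.Agent.Helper23

/-- Let K be a 2-component of the finite group X. Then K ≤ L*_{2'}(X) and K is normal in L*_{2'}(X). -/
theorem result {X : Type*} [Group X] [Finite X] (K : Subgroup X) (hK : Cfsg.IsPComponent 2 K) : K ≤ Cfsg.extendedTwoLayer X ∧ (K.subgroupOf (Cfsg.extendedTwoLayer X)).Normal := by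
  have : Fact (Nat.Prime 2) := ⟨Nat.prime_two⟩
  have hLn : (pLayer 2 X).Normal := pLayer_normal 2
  have hPn : (pPrimePCore 2 X).Normal := pPrimePCore_normal 2
  have hext : extendedTwoLayer X = pLayer 2 X ⊔ pPrimeCore 2 X ⊔
      ⨆ T : Sylow 2 ↥(pLayer 2 X ⊔ pPrimePCore 2 X),
        ocOf 2 ((T : Subgroup ↥(pLayer 2 X ⊔ pPrimePCore 2 X)).map (pLayer 2 X ⊔ pPrimePCore 2 X).subtype) := rfl
  have hKL : K ≤ pLayer 2 X := Cfsg.Agent.Helper21.pComponent_le_pLayer 2 hK
  have hKext : K ≤ extendedTwoLayer X := by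
    rw [hext]; exact hKL.trans (le_sup_left.trans le_sup_left)
  refine ⟨hKext, ?_⟩
  rw [Subgroup.normal_subgroupOf_iff_le_normalizer hKext, hext]
  apply sup_le
  · apply sup_le
    · exact Cfsg.Agent.Helper21.pLayer_le_normalizer_pComponent 2 hK
    · exact pPrimeCore_le_normalizer_pComponent hK
  · apply iSup_le
    intro T d hd
    have hdC : d ∈ Subgroup.centralizer (((T : Subgroup ↥(pLayer 2 X ⊔ pPrimePCore 2 X)).map
        (pLayer 2 X ⊔ pPrimePCore 2 X).subtype : Subgroup X) : Set X) := (ppcOf_le 2 _) hd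
    apply mem_normalizer_pComponent_of_centralizes hK _ ?_ hdC
    have hT'p : IsPGroup 2 ↥((T : Subgroup ↥(pLayer 2 X ⊔ pPrimePCore 2 X)).map
        (pLayer 2 X ⊔ pPrimePCore 2 X).subtype) := T.isPGroup'.map _
    have h1 : ¬ 2 ∣ ((T : Subgroup ↥(pLayer 2 X ⊔ pPrimePCore 2 X)).map
        (pLayer 2 X ⊔ pPrimePCore 2 X).subtype).relIndex (pLayer 2 X ⊔ pPrimePCore 2 X) := by
      have h0 : ((T : Subgroup ↥(pLayer 2 X ⊔ pPrimePCore 2 X)).map
          (pLayer 2 X ⊔ pPrimePCore 2 X).subtype).subgroupOf (pLayer 2 X ⊔ pPrimePCore 2 X) =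
          (T : Subgroup ↥(pLayer 2 X ⊔ pPrimePCore 2 X)) :=
        Subgroup.comap_map_eq_self_of_injective (Subgroup.subtype_injective _) _
      rw [Subgroup.relIndex, h0]; exact T.not_dvd_index
    have hLN : pLayer 2 X ≤ pLayer 2 X ⊔ pPrimePCore 2 X := le_sup_left
    have hNL : pLayer 2 X ⊔ pPrimePCore 2 X ≤ Subgroup.normalizer ((pLayer 2 X : Subgroup X) : Set X) := by
      rw [Subgroup.normalizer_eq_top (H := pLayer 2 X)]; exact le_top
    have h2 := not_dvd_relIndex_inf_of_normal hLN hNL hT'p h1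
    have h3 := not_dvd_relIndex_inf_of_normal hKL
      (Cfsg.Agent.Helper21.pLayer_le_normalizer_pComponent 2 hK) (hT'p.to_le inf_le_left) h2
    rwa [inf_assoc, inf_eq_right.mpr hKL] at h3

end Cfsg.Agent.S1344
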