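import Cfsg.Statements.S1357
import Cfsg.Agent.S1350
import Cfsg.Agent.S1375
import Cfsg.Agent.S1404
import Cfsg.Agent.S1405
import Cfsg.Agent.S1414
import Cfsg.Agent.S1417
import Cfsg.Agent.S1426
import Cfsg.Agent.S1437
import Cfsg.Agent.S1439
import Cfsg.Agent.Lib.Helper55.BGFit
import Cfsg.Agent.Lib.Helper55.BGHall
import Cfsg.Agent.Lib.Helper60.BG144b
import Cfsg.Agent.Lib.Helper95.BG15.FitSigma
import Cfsg.Agent.Lib.Helper38.BG128b
import Cfsg.Agent.Lib.Helper20.BG157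

set_option autoImplicit false
open Cfsg

namespace Cfsg.Agent.S1357

/-- Let G be a minimal simple group of odd order and M a maximal subgroup with standard factorisation M = K U M_σ. If M_F ≠ M_σ then U = 1, the Fitting subgroup F(M) meets its conjugates by elements outside its normalizer trivially, and K has prime order. -/
theorem result {G : Type*} [Group G] [Finite G] (hG : Cfsg.IsMinSimpleOddOrder G)
    (M : Subgroup G) (hM : IsCoatom M) (K U : Subgroup G) (hKU : Cfsg.IsSigmaDecomposition M K U) (hne : Cfsg.fittingHallOf M ≠ Cfsg.sigmaCore M) :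
    U = ⊥ ∧ Cfsg.IsTISubset (Cfsg.fittingOf M : Set G) ∧ (Nat.card K).Prime := by
  classical
  obtain ⟨hU, -, hKp, hqpr, hqdvd, hqβ, -⟩ := Cfsg.Agent.S1437.result hG M hM K U hKU hne
  refine ⟨hU, ?_, hKp⟩
  generalize Nat.card ↥(Cfsg.sigmaCore M ⊓ Subgroup.centralizer (K : Set G)) = q
    at hqpr hqdvd hqβ
  obtain ⟨hHall, -, -⟩ := Cfsg.Agent.S1350.result hG M hM
  have hFHσ : Cfsg.fittingHallOf M ≤ Cfsg.sigmaCore M :=
    Cfsg.Agent.Helper60.BG144.fittingHallOf_le_sigmaCore hG hM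
  -- Step 1: τ₂(M) is empty, hence F(M) ≤ M_σ
  have hτ2 : ∀ r : ℕ, r ∉ Cfsg.tau2 M := by
    intro r hr
    haveI : Fact r.Prime := ⟨hr.1⟩
    obtain ⟨A, hAM, hAe, hAc⟩ :=
      Cfsg.Agent.Helper38.BG128.exists_elemAb_sq (M := M) (p := r) hr.2.2.2
    have hnil := (Cfsg.Agent.S1417.result hG M hM r hr A ⟨hAM, hAe, hAc⟩).1
    exact hne (le_antisymm hFHσ
      (Cfsg.Agent.Helper60.BG144.sigmaCore_le_fittingHallOf_of_nil hHall hnil))
  obtain ⟨-, hYτ, hFdec⟩ := Cfsg.Agent.S1439.result hG M hM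
  have hY : Cfsg.piCoreOf {q | q.Prime ∧ q ∉ Cfsg.sigma M} (Cfsg.fittingOf M) = ⊥ := by
    rw [← Subgroup.card_eq_one]
    by_contra h
    obtain ⟨r, hr, hrd⟩ := Nat.exists_prime_and_dvd h
    exact hτ2 r (hYτ r hr hrd)
  have hFσ : Cfsg.fittingOf M ≤ Cfsg.sigmaCore M := by
    rw [hFdec, hY, sup_bot_eq]
    exact Cfsg.Agent.Helper55.BGB.fittingOf_le _
  -- the TI clause
  intro g hgN x hxF hgx
  by_contra hx1
  have hgM : g ∉ M := fun h => hgN (Cfsg.Agent.Helper55.BGB.le_normalizer_fittingOf M h)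
  -- Step 2: an element y of prime order p
  have hox : orderOf x ≠ 1 := by rwa [Ne, orderOf_eq_one_iff]
  obtain ⟨p, hp, hpd⟩ := Nat.exists_prime_and_dvd hox
  haveI : Fact p.Prime := ⟨hp⟩
  obtain ⟨k, hk⟩ := hpd
  have hox0 : orderOf x ≠ 0 := (orderOf_pos x).ne'
  have hk0 : k ≠ 0 := by
    rintro rfl
    exact hox0 (by rw [hk, mul_zero])
  have hoy : orderOf (x ^ k) = p := by
    rw [orderOf_pow_of_dvd hk0 ⟨p, by rw [hk, mul_comm]⟩, hk,
      Nat.mul_div_cancel _ (Nat.pos_of_ne_zero hk0)]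
  generalize hy_def : x ^ k = y at hoy
  have hy1 : y ≠ 1 := by
    intro h
    rw [h, orderOf_one] at hoy
    exact hp.one_lt.ne hoy
  have hyF : y ∈ Cfsg.fittingOf M := by rw [← hy_def]; exact pow_mem hxF k
  have hgy : g * y * g⁻¹ ∈ Cfsg.fittingOf M := by
    rw [← hy_def, ← conj_pow]; exact pow_mem hgx k
  have hyσ : y ∈ Cfsg.sigmaCore M := hFσ hyF
  have hyM : y ∈ M := Cfsg.Agent.Helper55.BGB.sigmaCore_le M hyσ
  have hpdσ : p ∣ Nat.card (Cfsg.sigmaCore M) := by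
    rw [← hoy]; exact Subgroup.orderOf_dvd_natCard _ hyσ
  have hpσ : p ∈ Cfsg.sigma M := Cfsg.Agent.Helper55.BGB.isPi_sigmaCore M p hp hpdσ
  have hXp : IsPGroup p (Subgroup.zpowers y) := by
    apply IsPGroup.of_card (n := 1)
    rw [Nat.card_zpowers, hoy, pow_one]
  have hX1 : Subgroup.zpowers y ≠ ⊥ := by rwa [Ne, Subgroup.zpowers_eq_bot]
  have hXM : Subgroup.zpowers y ≤ M := by rwa [Subgroup.zpowers_le]
  have hgX : (Subgroup.zpowers y).map (MulAut.conj g).toMonoidHom ≤ M := by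
    rw [Subgroup.map_le_iff_le_comap, Subgroup.zpowers_le, Subgroup.mem_comap]
    simpa [MulAut.conj_apply] using Cfsg.Agent.Helper55.BGB.fittingOf_le M hgy
  obtain ⟨m, hm, c, hc, hgmc⟩ :=
    (Cfsg.Agent.S1404.result hG M hM p hpσ _ hXp hX1 hXM).1 g hgX
  have hcy : c ∈ Subgroup.centralizer ({y} : Set G) :=
    Subgroup.centralizer_le (by simp) hc
  have hcM : c ∉ M := fun h => hgM (hgmc ▸ M.mul_mem hm h)
  have hyC : ¬ Subgroup.centralizer ({y} : Set G) ≤ M := fun h => hcM (h hcy)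
  -- Step 3: p ∉ β(M)
  obtain ⟨E, hE⟩ := Cfsg.Agent.Helper55.BGB.exists_compl_sigmaCore hHall
  obtain ⟨-, hpβ', -⟩ := (Cfsg.Agent.S1426.result hG M hM E hE).2.2 g hgM
  have hpβ : p ∉ Cfsg.beta M := by
    apply hpβ' p hp
    have hmem : g * y * g⁻¹ ∈ Cfsg.sigmaCore M ⊓ M.map (MulAut.conj g).toMonoidHom :=
      ⟨hFσ hgy, ⟨y, hyM, by simp [MulAut.conj_apply]⟩⟩
    have h1 := Subgroup.orderOf_dvd_natCard _ hmem
    have h2 : orderOf (g * y * g⁻¹) = orderOf y := by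
      have := orderOf_injective (MulAut.conj g).toMonoidHom (MulAut.conj g).injective y
      simpa [MulAut.conj_apply] using this
    rwa [h2, hoy] at h1
  -- Step 4: the maximal subgroup N containing C_G(y)
  obtain ⟨N, ⟨hN, hCN⟩, -, -, -, -, hMN, -⟩ :=
    Cfsg.Agent.S1375.result hG M hM y hyσ hy1 hyC
  -- Step 5: the normal p-complement Q of M_σ is centralized by y
  obtain ⟨-, ⟨P, Q, hQn, hQc⟩, -⟩ :=
    (Cfsg.Agent.S1414.result hG M hM).2.2.2.2 p hp hpσ.2.1 hpβ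
  haveI := hQn
  have hQcop : (Nat.card Q).Coprime p :=
    Cfsg.Agent.Helper20.BG157.card_normal_pcompl_coprime P Q hQc
  have hQ'card : Nat.card ↥(Q.map (Cfsg.sigmaCore M).subtype) = Nat.card Q :=
    Nat.card_congr (Q.equivMapOfInjective (Cfsg.sigmaCore M).subtype
      (Cfsg.sigmaCore M).subtype_injective).symm.toEquiv
  have hQ'σ : Q.map (Cfsg.sigmaCore M).subtype ≤ Cfsg.sigmaCore M := Subgroup.map_subtype_le _
  have hOpσ : Cfsg.Agent.Helper95.BG15.FitSigma.Op M p ≤ Cfsg.sigmaCore M :=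
    Cfsg.Agent.Helper55.BGB.le_sigmaCore_of_isPGroup hp hHall hpσ
      (Cfsg.Agent.Helper95.BG15.FitSigma.Op_le M p)
      (Cfsg.Agent.Helper95.BG15.FitSigma.Op_isPGroup M p)
  have hyOp : y ∈ Cfsg.Agent.Helper95.BG15.FitSigma.Op M p := by
    apply Cfsg.Agent.Helper95.BG15.FitSigma.mem_Op_of_mem_fittingOf M p hyF (j := 1)
    rw [pow_one, ← hoy]; exact pow_orderOf_eq_one y
  have hdisj : Cfsg.Agent.Helper95.BG15.FitSigma.Op M p ⊓ Q.map (Cfsg.sigmaCore M).subtype = ⊥ := by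
    rw [← disjoint_iff]
    apply Subgroup.disjoint_of_coprime_natCard
    obtain ⟨n, hn⟩ := (Cfsg.Agent.Helper95.BG15.FitSigma.Op_isPGroup M p).exists_card_eq
    rw [hn, hQ'card]
    exact Nat.Coprime.pow_left n hQcop.symm
  have hcomm : ∀ a ∈ Q.map (Cfsg.sigmaCore M).subtype, y * a = a * y :=
    fun a ha => Cfsg.Agent.Helper20.BG157.commute_of_norm_disjoint
      (hOpσ.trans (Cfsg.Agent.Helper55.BGB.le_normalizer_map_subtype (Cfsg.sigmaCore M) Q))
      ((hQ'σ.trans (Cfsg.Agent.Helper55.BGB.sigmaCore_le M)).trans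
        (Cfsg.Agent.Helper95.BG15.FitSigma.Op_norm M p))
      hdisj y hyOp a ha
  -- Step 6: an elementary abelian q-subgroup of rank 3 in M ∩ N
  have hqp : q ≠ p := fun h => hpβ (h ▸ hqβ)
  obtain ⟨hqP, hqr⟩ := hqβ.1
  haveI : Fact q.Prime := ⟨hqP⟩
  have hqσ : q ∈ Cfsg.sigma M :=
    Cfsg.Agent.Helper55.BGB.isPi_sigmaCore M q hqP
      (hqdvd.trans (Subgroup.card_dvd_of_le hFHσ))
  have hqr' := hqr
  unfold Cfsg.PRankLE at hqr'
  push_neg at hqr'
  obtain ⟨A, hAc, hAe, hAcard⟩ := hqr'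
  have hAq : IsPGroup q A := by
    intro a
    refine ⟨1, ?_⟩
    rw [pow_one]
    exact Subtype.ext (by rw [Subgroup.coe_pow, Subgroup.coe_one]; exact hAe a.1 a.2)
  have hA'q : IsPGroup q ↥(A.map M.subtype) := hAq.map M.subtype
  have hA'M : A.map M.subtype ≤ M := Subgroup.map_subtype_le _
  have hA'σ : A.map M.subtype ≤ Cfsg.sigmaCore M :=
    Cfsg.Agent.Helper55.BGB.le_sigmaCore_of_isPGroup hqP hHall hqσ hA'M hA'q
  have hA'Q : A.map M.subtype ≤ Q.map (Cfsg.sigmaCore M).subtype := by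
    intro a ha
    refine ⟨⟨a, hA'σ ha⟩, ?_, rfl⟩
    apply Cfsg.Agent.Helper20.BG157.mem_normal_pcompl P Q hQc
    have h1 : orderOf (⟨a, hA'σ ha⟩ : ↥(Cfsg.sigmaCore M)) = orderOf a :=
      Subgroup.orderOf_mk a (hA'σ ha)
    rw [h1]
    obtain ⟨j, hj⟩ := (IsPGroup.iff_orderOf.mp hA'q) ⟨a, ha⟩
    rw [Subgroup.orderOf_mk] at hj
    rw [hj]
    exact Nat.Coprime.pow_left j ((Nat.coprime_primes hqP hp).mpr hqp)
  have hA'N : A.map M.subtype ≤ N := by
    intro a ha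
    apply hCN
    rw [Subgroup.mem_centralizer_iff]
    intro z hz
    rw [Set.mem_singleton_iff] at hz
    rw [hz]
    exact hcomm a (hA'Q ha)
  have hqαN : ¬ Cfsg.PRankLE q 2 ↥N :=
    Cfsg.Agent.Helper20.BG157.not_prankLE_of_map_le A hAc hAe hAcard hA'N
  obtain ⟨hαN, -, hαleN, -⟩ := Cfsg.Agent.S1405.result hG N hN
  obtain ⟨hHallN, -, -⟩ := Cfsg.Agent.S1350.result hG N hN
  have hqσN : q ∈ Cfsg.sigma N := by
    by_contra h
    exact hqαN (Cfsg.Agent.Helper55.BGB.prankLE_two_of_not_mem_sigma hqP hαN hαleN h)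
  have hqdA : q ∣ Nat.card ↥(A.map M.subtype) := by
    have h2 : Nat.card ↥(A.map M.subtype) = Nat.card A :=
      Nat.card_congr (A.equivMapOfInjective M.subtype M.subtype_injective).symm.toEquiv
    obtain ⟨n, hn⟩ := hAq.exists_card_eq
    rw [h2, hn]
    have hn0 : n ≠ 0 := by
      rintro rfl
      rw [hn, pow_zero] at hAcard
      have := Nat.one_le_two_pow (n := 0)
      have h3 : 1 ≤ q ^ 2 := Nat.one_le_pow _ _ hqP.pos
      omega
    exact dvd_pow_self q hn0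
  have hqdMN : q ∣ Nat.card ↥(M ⊓ N) :=
    hqdA.trans (Subgroup.card_dvd_of_le (le_inf hA'M hA'N))
  exact Cfsg.Agent.Helper38.BG128.not_mem_sigma_of_dvd' hHallN hMN hqP hqdMN hqσN

end Cfsg.Agent.S1357
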