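import Cfsg.Statements.S1358
import Cfsg.Agent.S1350
import Cfsg.Agent.S1405
import Cfsg.Agent.S1420
import Cfsg.Agent.Lib.Helper55.BGHall

set_option autoImplicit false
open Cfsg

namespace Cfsg.Agent.S1358

/-- Let G be a minimal simple group of odd order and M a maximal subgroup with standard factorisation M = K U M_σ. Then for every prime p, every Sylow p-subgroup of U is abelian and has no elementary abelian subgroup of order p ^ 3. -/
theorem result {G : Type*} [Group G] [Finite G] (hG : Cfsg.IsMinSimpleOddOrder G)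
    (M : Subgroup G) (hM : IsCoatom M) (K U : Subgroup G) (hKU : Cfsg.IsSigmaDecomposition M K U) :
    ∀ (p : ℕ), p.Prime → ∀ P : Sylow p U, IsMulCommutative (P : Subgroup U) ∧ Cfsg.PRankLE p 2 (P : Subgroup U) := by
  intro p hp P
  haveI := Fact.mk hp
  obtain ⟨hHallσ, -, -⟩ := Cfsg.Agent.S1350.result hG M hM
  obtain ⟨hα, -, hle, -, -⟩ := Cfsg.Agent.S1405.result hG M hM
  obtain ⟨E, hE⟩ := Cfsg.Agent.Helper55.BGB.exists_compl_sigmaCore hHallσ
  obtain ⟨h20a, -, -, -⟩ := Cfsg.Agent.S1420.result hG M hM E hE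
  have hUM : U ≤ M := hKU.compl.1
  have hP'U : (P : Subgroup U).map U.subtype ≤ U := Subgroup.map_subtype_le _
  have hP'p : IsPGroup p ((P : Subgroup U).map U.subtype) := P.isPGroup'.map _
  by_cases hpσ : p ∈ Cfsg.sigma M
  · have h1 : (P : Subgroup U).map U.subtype ≤ Cfsg.sigmaCore M :=
      Cfsg.Agent.Helper55.BGB.le_sigmaCore_of_isPGroup hp hHallσ hpσ (hP'U.trans hUM) hP'p
    have h2 : U ⊓ (K ⊔ Cfsg.sigmaCore M) = ⊥ := hKU.compl.2.2.1
    have h3 : (P : Subgroup U).map U.subtype = ⊥ := by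
      rw [eq_bot_iff, ← h2]; exact le_inf hP'U (h1.trans le_sup_right)
    have h4 : (P : Subgroup U) = ⊥ :=
      (Subgroup.map_eq_bot_iff_of_injective _ U.subtype_injective).mp h3
    have hsub : ∀ a : ↥(P : Subgroup U), a = 1 := by
      intro a
      have : (a : U) ∈ (⊥ : Subgroup U) := h4 ▸ a.2
      exact Subtype.ext (Subgroup.mem_bot.mp this)
    constructor
    · refine ⟨⟨?_⟩⟩
      intro a b
      rw [hsub a, hsub b]
    · intro A _ _
      have hA1 : Nat.card A = 1 := by
        rw [Nat.card_eq_one_iff_unique]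
        refine ⟨⟨?_⟩, ⟨1⟩⟩
        intro a b
        apply Subtype.ext
        rw [hsub a.1, hsub b.1]
      rw [hA1]
      exact Nat.one_le_pow _ _ hp.pos
  · have hcomm : IsMulCommutative ((P : Subgroup U).map U.subtype) := by
      refine h20a _ (hP'U.trans hUM) hP'p.isNilpotent ?_
      intro q hq hqd
      obtain ⟨n, hn⟩ := (IsPGroup.iff_card).mp hP'p
      rw [hn] at hqd
      have hqp : q = p := (Nat.prime_dvd_prime_iff_eq hq hp).mp (hq.dvd_of_dvd_pow hqd)
      rw [hqp]; exact hpσ
    constructor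
    · refine ⟨⟨?_⟩⟩
      intro a b
      have ha : ((a : U) : G) ∈ (P : Subgroup U).map U.subtype := ⟨(a : U), a.2, rfl⟩
      have hb : ((b : U) : G) ∈ (P : Subgroup U).map U.subtype := ⟨(b : U), b.2, rfl⟩
      have := hcomm.is_comm.comm ⟨_, ha⟩ ⟨_, hb⟩
      have h5 : ((a : U) : G) * ((b : U) : G) = ((b : U) : G) * ((a : U) : G) := congrArg Subtype.val this
      apply Subtype.ext
      apply Subtype.ext
      exact h5
    · have hr : Cfsg.PRankLE p 2 M :=
        Cfsg.Agent.Helper55.BGB.prankLE_two_of_not_mem_sigma hp hα hle hpσ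
      refine Cfsg.Agent.Helper55.BGB.prankLE_of_injective
        ((Subgroup.inclusion hUM).comp (P : Subgroup U).subtype) ?_ hr
      intro a b hab
      have h6 := congrArg Subtype.val hab
      simp only [MonoidHom.comp_apply, Subgroup.subtype_apply, Subgroup.coe_inclusion] at h6
      exact Subtype.ext (Subtype.ext h6)

end Cfsg.Agent.S1358
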