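import Cfsg.Statements.S1359
import Cfsg.Agent.Lib.Helper3.BG15C

set_option autoImplicit false
open Cfsg

namespace Cfsg.Agent.S1359

/-- Let G be a minimal simple group of odd order and M a maximal subgroup with standard factorisation M = K U M_σ. Then the subgroup generated by those elements of U which centralize some non-identity element of M_σ is abelian. -/
theorem result {G : Type*} [Group G] [Finite G] (hG : Cfsg.IsMinSimpleOddOrder G)
    (M : Subgroup G) (hM : IsCoatom M) (K U : Subgroup G) (hKU : Cfsg.IsSigmaDecomposition M K U) :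
    IsMulCommutative (Subgroup.closure ((U : Set G) ∩ Cfsg.sigmaHat M)) := by
  obtain ⟨A₀, hA₀c, hA₀⟩ := Cfsg.Agent.H3BG15.abelian_of_centralizes hG hM hKU
  refine Cfsg.Agent.H3BG15.isMulCommutative_of_le ?_ hA₀c
  rw [Subgroup.closure_le]
  rintro u ⟨huU, -, y, hy, hy1, huy⟩
  refine hA₀ y hy hy1 (Subgroup.mem_inf.mpr ⟨huU, ?_⟩)
  rw [Subgroup.mem_centralizer_iff]
  intro h hh
  rw [Set.mem_singleton_iff] at hh
  rw [hh]; exact huy.symm

end Cfsg.Agent.S1359
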