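import Cfsg.Statements.S1361
import Cfsg.Agent.S1417
import Cfsg.Agent.Lib.Helper3.BG15C

set_option autoImplicit false
open Cfsg

namespace Cfsg.Agent.S1361

/-- Let G be a minimal simple group of odd order and M a maximal subgroup with standard factorisation M = K U M_σ. If X is a nontrivial subgroup of U centralizing some non-identity element of M_σ, then C_G(X) ≤ M and M is the unique maximal subgroup of G containing C_G(X). -/
theorem result {G : Type*} [Group G] [Finite G] (hG : Cfsg.IsMinSimpleOddOrder G)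
    (M : Subgroup G) (hM : IsCoatom M) (K U : Subgroup G) (hKU : Cfsg.IsSigmaDecomposition M K U) (X : Subgroup G) (hXU : X ≤ U) (hX : X ≠ ⊥)
    (hXc : Cfsg.sigmaCore M ⊓ Subgroup.centralizer (X : Set G) ≠ ⊥) :
    Subgroup.centralizer (X : Set G) ≤ M ∧ ∀ L : Subgroup G, IsCoatom L → Subgroup.centralizer (X : Set G) ≤ L → L = M := by
  classical
  obtain ⟨y, hy1⟩ := (Subgroup.ne_bot_iff_exists_ne_one).mp hXc
  have hyM : (y : G) ∈ Cfsg.sigmaCore M := (Subgroup.mem_inf.mp y.2).1
  have hyC : (y : G) ∈ Subgroup.centralizer (X : Set G) := (Subgroup.mem_inf.mp y.2).2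
  have hy1' : (y : G) ≠ 1 := fun h => hy1 (Subtype.ext h)
  have hUM : U ≤ M := hKU.compl.1
  have hcomm : ∀ x ∈ X, x * (y : G) = (y : G) * x := fun x hx =>
    (Subgroup.mem_centralizer_iff.mp hyC) x hx
  -- elements
  have key : ∀ x' ∈ X, x' ≠ 1 → (∀ p : ℕ, p.Prime → p ∣ orderOf x' → p ∈ Cfsg.tau2 M) ∧
      (Subgroup.centralizer ({x'} : Set G) ≤ M ∧
        ∀ L : Subgroup G, IsCoatom L → Subgroup.centralizer ({x'} : Set G) ≤ L → L = M) := by
    intro x' hx' hx'1
    refine Cfsg.Agent.H3BG15.uniq_of_commute hG hM hKU (hUM (hXU hx')) hx'1 ?_ hyM hy1' (hcomm x' hx')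
    intro p _ hpd
    exact hpd.trans (Subgroup.orderOf_dvd_natCard U (hXU hx'))
  -- X is abelian
  obtain ⟨A₀, hA₀c, hA₀⟩ := Cfsg.Agent.H3BG15.abelian_of_centralizes hG hM hKU
  have hXA₀ : X ≤ A₀ := by
    intro x hx
    refine hA₀ y hyM hy1' (Subgroup.mem_inf.mpr ⟨hXU hx, ?_⟩)
    rw [Subgroup.mem_centralizer_iff]
    intro h hh
    rw [Set.mem_singleton_iff] at hh
    rw [hh]; exact (hcomm x hx).symm
  have hXc' : IsMulCommutative X := Cfsg.Agent.H3BG15.isMulCommutative_of_le hXA₀ hA₀c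
  -- X has rank one
  have hrank : ∀ r : ℕ, r.Prime → Cfsg.PRankLE r 1 X := by
    intro r hr
    haveI := Fact.mk hr
    by_contra hnr
    obtain ⟨A, hAX, hAe, hAc⟩ := Cfsg.Agent.Helper34.BG.exists_elemAb_of_not_pRankLE hnr
    obtain ⟨B, hBA, hBe, hBc⟩ := Cfsg.Agent.Helper34.BG.exists_elemAb_card_eq hAe hAc
    have hBX : B ≤ X := hBA.trans hAX
    have hB1 : B ≠ ⊥ := by
      intro h
      rw [h, Subgroup.card_bot] at hBc
      have : 1 < r ^ (1 + 1) := Nat.one_lt_pow (by norm_num) hr.one_lt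
      omega
    obtain ⟨b, hb1⟩ := (Subgroup.ne_bot_iff_exists_ne_one).mp hB1
    have hb1' : (b : G) ≠ 1 := fun h => hb1 (Subtype.ext h)
    have hbo : orderOf (b : G) = r := orderOf_eq_prime (hBe.2 b b.2) hb1'
    have hτ : r ∈ Cfsg.tau2 M := (key b (hBX b.2) hb1').1 r hr (by rw [hbo])
    obtain ⟨-, -, -, h4, -, -⟩ := Cfsg.Agent.S1417.result hG M hM r hτ B
      ⟨hBX.trans (hXU.trans hUM), hBe, hBc⟩
    have : (y : G) ∈ Cfsg.sigmaCore M ⊓ Subgroup.centralizer (B : Set G) :=
      Subgroup.mem_inf.mpr ⟨hyM, Subgroup.centralizer_le (by exact_mod_cast hBX) hyC⟩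
    rw [h4, Subgroup.mem_bot] at this
    exact hy1' this
  -- hence cyclic
  have hcyc : IsCyclic X := by
    haveI : IsZGroup X := by
      refine ⟨fun r hr P => ?_⟩
      haveI := Fact.mk hr
      by_cases hrX : r ∣ Nat.card X
      · exact Cfsg.Agent.Helper34.BG.isCyclic_of_pRankLE_one
          (Cfsg.Agent.Helper34.BG.prime_ne_two hG X hrX) P.isPGroup'
          (Cfsg.Agent.Helper34.BG.pRankLE_subgroup_type (hrank r hr) (P : Subgroup X))
      · obtain ⟨n, hn⟩ := (IsPGroup.iff_card).mp P.isPGroup'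
        have hn0 : n = 0 := by
          by_contra hne
          apply hrX
          have h1 : r ∣ Nat.card (P : Subgroup X) := by rw [hn]; exact dvd_pow_self r hne
          exact h1.trans (Subgroup.card_subgroup_dvd_card _)
        rw [hn0, pow_zero] at hn
        haveI : Subsingleton (P : Subgroup X) := (Nat.card_eq_one_iff_unique.mp hn).1
        exact isCyclic_of_subsingleton
    haveI := hXc'
    open scoped IsMulCommutative in
    exact inferInstance
  have hex : ∃ x₀ : G, x₀ ∈ X ∧ X = Subgroup.zpowers x₀ := by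
    obtain ⟨g, hg⟩ := hcyc.exists_generator
    refine ⟨(g : G), g.2, ?_⟩
    apply le_antisymm
    · intro x hx
      obtain ⟨k, hk⟩ := Subgroup.mem_zpowers_iff.mp (hg ⟨x, hx⟩)
      rw [Subgroup.mem_zpowers_iff]
      refine ⟨k, ?_⟩
      have := congrArg Subtype.val hk
      simpa using this
    · exact (Subgroup.zpowers_le).mpr g.2
  obtain ⟨x₀, hx₀X, hXz⟩ := hex
  have hg1 : x₀ ≠ 1 := by
    intro h
    apply hX
    rw [hXz, h, Subgroup.zpowers_one_eq_bot]
  have hC : Subgroup.centralizer (X : Set G) = Subgroup.centralizer ({x₀} : Set G) := by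
    rw [hXz]; exact Cfsg.Agent.H3BG15.centralizer_zpowers _
  rw [hC]
  exact (key x₀ hx₀X hg1).2

end Cfsg.Agent.S1361
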