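import Cfsg.Statements.S1362
import Cfsg.Agent.Lib.Helper19.BGZhat
import Cfsg.Agent.Lib.Helper22.Structure
import Cfsg.Agent.Lib.Helper3.BG15C

open Pointwise

set_option autoImplicit false
open Cfsg

namespace Cfsg.Agent.S1362

/-- Let G be a minimal simple group of odd order and M a maximal subgroup with standard factorisation M = K U M_σ, and let A(M) be the set of elements of U M_σ centralizing some non-identity element of M_σ. Then A(M) with M_σ removed is a TI-subset of G. -/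
theorem result {G : Type*} [Group G] [Finite G] (hG : Cfsg.IsMinSimpleOddOrder G)
    (M : Subgroup G) (hM : IsCoatom M) (K U : Subgroup G) (hKU : Cfsg.IsSigmaDecomposition M K U) :
    Cfsg.IsTISubset (Cfsg.sigmaA M U \ (Cfsg.sigmaCore M : Set G)) := by
  classical
  intro g hg x hx hgx
  exfalso
  apply hg
  obtain ⟨hHallσ, -, -⟩ := Cfsg.Agent.S1350.result hG M hM
  have hUM : U ≤ M := hKU.compl.1
  have hMsN : M ≤ Subgroup.normalizer ((Cfsg.sigmaCore M : Subgroup G) : Set G) :=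
    Cfsg.Agent.Helper55.BGB.le_normalizer_sigmaCore M
  have hUMsN : M ≤ Subgroup.normalizer ((U ⊔ Cfsg.sigmaCore M : Subgroup G) : Set G) :=
    Cfsg.Agent.Helper19.BGZhat.le_normalizer_U_sup hKU
  -- M normalizes the set
  have hMN : M ≤ Subgroup.normalizer (Cfsg.sigmaA M U \ (Cfsg.sigmaCore M : Set G)) := by
    apply Cfsg.Agent.H3BG15.le_set_normalizer_of_forall
    rintro m hm n ⟨⟨⟨hnM, y, hy, hy1, hny⟩, hnU⟩, hnMs⟩
    refine ⟨⟨⟨mul_mem (mul_mem hm hnM) (inv_mem hm), m * y * m⁻¹,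
      Cfsg.Agent.H3BG15.conj_mem_sigmaCore hm hy, ?_, ?_⟩, ?_⟩, ?_⟩
    · intro h1
      apply hy1
      have := congrArg (fun z => m⁻¹ * z * m) h1
      simpa [mul_assoc] using this
    · calc m * n * m⁻¹ * (m * y * m⁻¹) = m * (n * y) * m⁻¹ := by group
        _ = m * (y * n) * m⁻¹ := by rw [hny]
        _ = m * y * m⁻¹ * (m * n * m⁻¹) := by group
    · exact (Subgroup.mem_normalizer_iff.mp (hUMsN hm) n).mp hnU
    · intro h1
      apply hnMs
      have := Cfsg.Agent.H3BG15.conj_mem_sigmaCore (inv_mem hm) h1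
      simpa [mul_assoc] using this
  refine hMN ?_
  -- g ∈ M
  obtain ⟨⟨⟨hxM, y, hy, hy1, hxy⟩, hxU⟩, hxMs⟩ := hx
  obtain ⟨⟨⟨hgxM, y', hy', hy'1, hgxy⟩, -⟩, -⟩ := hgx
  obtain ⟨u, hu, s, hs, hus⟩ :=
    (Cfsg.Agent.Helper22.mem_sup_of_le_normalizer (hUM.trans hMsN)).mp hxU
  have hu1 : u ≠ 1 := by
    rintro rfl
    apply hxMs
    rw [← hus, one_mul]; exact hs
  have hdisj : U ⊓ Cfsg.sigmaCore M = ⊥ := by
    rw [eq_bot_iff, ← hKU.compl.2.2.1]
    exact inf_le_inf_left U le_sup_right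
  have hdvd : orderOf u ∣ orderOf x := by
    rw [← hus]
    exact Cfsg.Agent.H3BG15.orderOf_dvd_orderOf_mul (hUM.trans hMsN) hdisj hu hs
  have ho : orderOf u ≠ 1 := fun h => hu1 (orderOf_eq_one_iff.mp h)
  obtain ⟨q, hq, hqu⟩ := Nat.exists_prime_and_dvd ho
  have hqU : q ∣ Nat.card U := hqu.trans (Subgroup.orderOf_dvd_natCard U hu)
  have hqx : q ∣ orderOf x := hqu.trans hdvd
  have hpos : orderOf x ≠ 0 := (orderOf_pos x).ne'
  set k := orderOf x / q with hk
  have hx'o : orderOf (x ^ k) = q := orderOf_pow_orderOf_div hpos hqx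
  have hx'1 : x ^ k ≠ 1 := by
    intro h
    rw [h, orderOf_one] at hx'o
    exact hq.one_lt.ne hx'o
  have hprimes : ∀ p : ℕ, p.Prime → p ∣ orderOf (x ^ k) → p ∣ Nat.card U := by
    intro p hp hpd
    rw [hx'o] at hpd
    rw [(Nat.prime_dvd_prime_iff_eq hp hq).mp hpd]; exact hqU
  have hc1 : x ^ k * y = y * x ^ k := by
    have hc : Commute x y := hxy
    exact (hc.pow_left k).eq
  obtain ⟨-, -, hu1'⟩ := Cfsg.Agent.H3BG15.uniq_of_commute hG hM hKU (pow_mem hxM k) hx'1 hprimes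
    hy hy1 hc1
  -- the conjugate
  have hconj : (g * x * g⁻¹) ^ k = g * x ^ k * g⁻¹ := conj_pow
  have hx''o : orderOf (g * x ^ k * g⁻¹) = q := by
    rw [← hx'o]
    exact orderOf_injective (MulAut.conj g).toMonoidHom (MulAut.conj g).injective (x ^ k)
  have hx''1 : g * x ^ k * g⁻¹ ≠ 1 := by
    intro h
    rw [h, orderOf_one] at hx''o
    exact hq.one_lt.ne hx''o
  have hprimes' : ∀ p : ℕ, p.Prime → p ∣ orderOf (g * x ^ k * g⁻¹) → p ∣ Nat.card U := by
    intro p hp hpd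
    rw [hx''o] at hpd
    rw [(Nat.prime_dvd_prime_iff_eq hp hq).mp hpd]; exact hqU
  have hc2 : g * x ^ k * g⁻¹ * y' = y' * (g * x ^ k * g⁻¹) := by
    have hc : Commute (g * x * g⁻¹) y' := hgxy
    rw [← hconj]
    exact (hc.pow_left k).eq
  have hx''M : g * x ^ k * g⁻¹ ∈ M := by rw [← hconj]; exact pow_mem hgxM k
  obtain ⟨-, hle, -⟩ := Cfsg.Agent.H3BG15.uniq_of_commute hG hM hKU hx''M hx''1 hprimes'
    hy' hy'1 hc2
  have hL : Subgroup.centralizer ({x ^ k} : Set G) ≤ MulAut.conj g⁻¹ • M := by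
    intro c hc
    rw [Cfsg.Agent.Helper33.mem_conj_smul, inv_inv]
    apply hle
    rw [Subgroup.mem_centralizer_iff] at hc ⊢
    intro h hh
    rw [Set.mem_singleton_iff] at hh
    have h3 := hc (x ^ k) (Set.mem_singleton _)
    rw [hh]
    calc g * x ^ k * g⁻¹ * (g * c * g⁻¹) = g * (x ^ k * c) * g⁻¹ := by group
      _ = g * (c * x ^ k) * g⁻¹ := by rw [h3]
      _ = g * c * g⁻¹ * (g * x ^ k * g⁻¹) := by group
  have hLM := hu1' _ (Cfsg.Agent.Helper34.BG.isCoatom_conj hM g⁻¹) hL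
  have h4 : g⁻¹ ∈ Subgroup.normalizer (M : Set G) :=
    Cfsg.Agent.Helper33.mem_normalizer_iff_smul_eq.mpr hLM
  rw [Cfsg.Agent.Helper34.BG.normalizer_coatom hG hM] at h4
  simpa using M.inv_mem h4

end Cfsg.Agent.S1362
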