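import Cfsg.Statements.S1376
import Cfsg.Agent.S1350
import Cfsg.Agent.S1351
import Cfsg.Agent.S1352
import Cfsg.Agent.S1353
import Cfsg.Agent.S1365
import Cfsg.Agent.S1366
import Cfsg.Agent.S1367
import Cfsg.Agent.S1372
import Cfsg.Agent.S1375
import Cfsg.Agent.S1414
import Cfsg.Agent.S1417
import Cfsg.Agent.S1418
import Cfsg.Agent.S1419
import Cfsg.Agent.S1420
import Cfsg.Agent.S1423
import Cfsg.Agent.S1424
import Cfsg.Agent.S1429
import Cfsg.Agent.S1430
import Cfsg.Agent.S1431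
import Cfsg.Agent.S1432
import Cfsg.Agent.S1435
import Cfsg.Agent.S1437
import Cfsg.Agent.Lib.Helper99.FrobFR
import Cfsg.Agent.Lib.Helper30.BG144cMain

set_option autoImplicit false
open Cfsg

namespace Cfsg.Agent.S1376

/-- Let G be a minimal simple group of odd order, M a maximal subgroup, x ≠ 1 in M_σ with C_G(x) not contained in M, and N a maximal subgroup containing C_G(x) with κ(N) nonempty. Then κ(M) is empty, M has a cyclic Frobenius complement (M is a Frobenius group), and M_F is not a TI-subset of G. -/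
theorem result {G : Type*} [Group G] [Finite G] (hG : Cfsg.IsMinSimpleOddOrder G)
    (M : Subgroup G) (hM : IsCoatom M) (x : G) (hx : x ∈ Cfsg.sigmaCore M) (hx1 : x ≠ 1) (hxM : ¬ Subgroup.centralizer ({x} : Set G) ≤ M)
    (N : Subgroup G) (hN : IsCoatom N) (hxN : Subgroup.centralizer ({x} : Set G) ≤ N) (hkN : (Cfsg.kappa N).Nonempty) :
    Cfsg.kappa M = ∅ ∧ (∃ E : Subgroup ↥M, Cfsg.IsFrobeniusComplement E ∧ IsCyclic E) ∧ ¬ Cfsg.IsTISubset (Cfsg.fittingHallOf M : Set G) := by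
  exact Cfsg.Agent.Helper30.BG144c.s1376 hG
    (Cfsg.Agent.S1350.result hG) (Cfsg.Agent.S1351.result hG) (Cfsg.Agent.S1352.result hG)
    (Cfsg.Agent.S1353.result hG) (Cfsg.Agent.S1365.result hG) (Cfsg.Agent.S1366.result hG)
    (Cfsg.Agent.S1367.result hG) (Cfsg.Agent.S1372.result hG) (Cfsg.Agent.S1375.result hG)
    (Cfsg.Agent.S1414.result hG) (Cfsg.Agent.S1417.result hG) (Cfsg.Agent.S1418.result hG)
    (Cfsg.Agent.S1419.result hG) (Cfsg.Agent.S1420.result hG) (Cfsg.Agent.S1423.result hG)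
    (Cfsg.Agent.S1424.result hG) (Cfsg.Agent.S1429.result hG) (Cfsg.Agent.S1430.result hG)
    (Cfsg.Agent.S1431.result hG) (Cfsg.Agent.S1432.result hG) (Cfsg.Agent.S1435.result hG)
    (Cfsg.Agent.S1437.result hG)
    (fun hp hq hr hp2 hq2 hpq hpr hqr X K x hX hK hKX hxX hxK hxr hKgen hΩ =>
      Cfsg.Agent.Helper99.FrobFR.frob_centralizes' hp hq hr hp2 hq2 hpq hpr hqr X K x hX hK hKX hxX
        hxK hxr hKgen hΩ)
    M hM x hx hx1 hxM N hN hxN hkN

end Cfsg.Agent.S1376
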