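import Cfsg.Statements.S1381
import Cfsg.Agent.Lib.Helper25.BGTypeIIMk
import Cfsg.Agent.Lib.Helper25.BGTypeIIB2
import Cfsg.Agent.Lib.Helper68.BGTypeIIB1

set_option autoImplicit false
open Cfsg

namespace Cfsg.Agent.S1381

/-- Let G be a minimal simple group of odd order and M a maximal subgroup with standard factorisation M = K U M_σ. Then M is of Type II if and only if K ≠ 1 and U ≠ 1. -/
theorem result {G : Type*} [Group G] [Finite G] (hG : Cfsg.IsMinSimpleOddOrder G)
    (M : Subgroup G) (hM : IsCoatom M) (K U : Subgroup G) (hKU : Cfsg.IsSigmaDecomposition M K U) :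
    Cfsg.IsOfTypeII M ↔ (K ≠ ⊥ ∧ U ≠ ⊥) := by
  constructor
  · rintro ⟨W₁, U', W₂, hP, hU'1, hprime, -, -, hN, -, -⟩
    have h50 := (Cfsg.Agent.S1350.result hG M hM).1
    obtain ⟨-, h55b, h55c, -, -⟩ := Cfsg.Agent.S1355.result hG M hM
    constructor
    · -- `#W₁ ∈ κ(M)` divides `#M`, hence `#K`
      have hκ : Nat.card W₁ ∈ Cfsg.kappa M :=
        Cfsg.Agent.Helper68.BGTypeII.card_mem_kappa_of_typeP hP hprime h50 h55c h55b
      intro hK
      have hdvd : Nat.card W₁ ∣ Nat.card M := hκ.2.1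
      have hrel : Nat.card K * K.relIndex M = Nat.card M :=
        Cfsg.Agent.Helper55.BGB.card_mul_relIndex hKU.hall.1
      rw [hK, Subgroup.card_bot, one_mul] at hrel
      rw [← hrel] at hdvd
      exact hKU.hall.2.2 _ hprime hκ (hK ▸ hdvd)
    · intro hU
      exact hN (Cfsg.Agent.Helper25.BGTypeII.normalizer_le_of_U_eq_bot hKU hU hP hU'1 h50 h55c)
  · rintro ⟨hK, hU⟩
    exact Cfsg.Agent.Helper25.BGTypeII.isOfTypeII_of_ne_bot hG M hM K U hKU hK hU

end Cfsg.Agent.S1381
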