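import Cfsg.Statements.S1383
import Cfsg.Agent.S1350
import Cfsg.Agent.S1354
import Cfsg.Agent.S1355
import Cfsg.Agent.S1356
import Cfsg.Agent.S1363
import Cfsg.Agent.S1364
import Cfsg.Agent.S1365
import Cfsg.Agent.S1366
import Cfsg.Agent.S1368
import Cfsg.Agent.S1370
import Cfsg.Agent.S1373
import Cfsg.Agent.S1375
import Cfsg.Agent.S1404
import Cfsg.Agent.S1412
import Cfsg.Agent.S1420
import Cfsg.Agent.S1422
import Cfsg.Agent.S1426
import Cfsg.Agent.S1430
import Cfsg.Agent.S1431
import Cfsg.Agent.S1454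
import Cfsg.Agent.Lib.Helper2.BG157Main

set_option autoImplicit false
open Cfsg

namespace Cfsg.Agent.S1383

/-- Let G be a minimal simple group of odd order and M a maximal subgroup with standard factorisation M = K U M_σ. Then M is of Type V if and only if K ≠ 1, U = 1 and M_F = M_σ. -/
theorem result {G : Type*} [Group G] [Finite G] (hG : Cfsg.IsMinSimpleOddOrder G)
    (M : Subgroup G) (hM : IsCoatom M) (K U : Subgroup G) (hKU : Cfsg.IsSigmaDecomposition M K U) :
    Cfsg.IsOfTypeV M ↔ (K ≠ ⊥ ∧ U = ⊥ ∧ Cfsg.fittingHallOf M = Cfsg.sigmaCore M) := by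
  exact Cfsg.Agent.Helper2.BG157.s1383 hG
    {
      r1350 := Cfsg.Agent.S1350.result hG
      r1354 := Cfsg.Agent.S1354.result hG
      r1355 := Cfsg.Agent.S1355.result hG
      r1356 := Cfsg.Agent.S1356.result hG
      r1363 := Cfsg.Agent.S1363.result hG
      r1364 := Cfsg.Agent.S1364.result hG
      r1365 := Cfsg.Agent.S1365.result hG
      r1366 := Cfsg.Agent.S1366.result hG
      r1368 := Cfsg.Agent.S1368.result hG
      r1370 := Cfsg.Agent.S1370.result hG
      r1373 := Cfsg.Agent.S1373.result hG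
      r1375 := Cfsg.Agent.S1375.result hG
      r1404 := Cfsg.Agent.S1404.result hG
      r1412 := Cfsg.Agent.S1412.result hG
      r1420 := Cfsg.Agent.S1420.result hG
      r1422 := Cfsg.Agent.S1422.result hG
      r1426 := Cfsg.Agent.S1426.result hG
      r1430 := Cfsg.Agent.S1430.result hG
      r1431 := Cfsg.Agent.S1431.result hG
      r1454 := fun p _ hp R A => Cfsg.Agent.S1454.result p hp R A }
    M hM K U hKU

end Cfsg.Agent.S1383
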