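import Cfsg.Statements.S1386
import Mathlib
import Cfsg.Agent.Lib.Helper23.Basic

set_option autoImplicit false
open Cfsg

namespace Cfsg.Agent.S1386

/-- Let G be a finite group, W₁, W₂ subgroups forming a self-normalizing cyclic pair, S a subgroup with W₂ ≤ S and W₁ a complement to S' in S, and (W₁, U, W₂') type-P data for S. Then W₂' = W₂ (that is, C_{S'}(W₁) = W₂). -/
theorem result {G : Type*} [Group G] [Finite G] (W₁ W₂ S U W₂' : Subgroup G) (hW : Cfsg.IsSelfNormalizingCyclic W₁ W₂)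
    (hSW : Cfsg.IsComplIn ⁅S, S⁆ W₁ S) (hW₂S : W₂ ≤ S) (hP : Cfsg.IsTypePWith S W₁ U W₂') :
    W₂' = W₂ := by
  obtain ⟨hW₁ne, hW₂ne, hinf, hcomm, hcyc, hnorm⟩ := hW
  obtain ⟨hS'S, hW₁S, hS'W₁, hprod⟩ := hSW
  obtain ⟨x, hxW₁, hx1⟩ := Cfsg.Agent.Helper23.exists_ne_one_of_ne_bot hW₁ne
  obtain ⟨y₀, hy₀W₂, hy₀1⟩ := Cfsg.Agent.Helper23.exists_ne_one_of_ne_bot hW₂ne
  have hcent := hP.W₂_centralizer x hxW₁ hx1
  -- Step A: W₂ ≤ S'
  have hA : W₂ ≤ ⁅S, S⁆ := by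
    intro y hy
    obtain ⟨a, ha, b, hb, hyab⟩ := hprod y (hW₂S hy)
    have hyb : b * y = y * b := hcomm b hb y hy
    have hbW : b ∈ W₁ ⊔ W₂ := (le_sup_left : W₁ ≤ W₁ ⊔ W₂) hb
    have ha' : a = y * b⁻¹ := by rw [hyab]; group
    have hcomm' : Commute y b⁻¹ := (Commute.inv_right (show Commute y b from hyb.symm))
    have hpow : a ^ Nat.card W₂ = (b ^ Nat.card W₂)⁻¹ := by
      rw [ha', hcomm'.mul_pow]
      have h1 : y ^ Nat.card W₂ = 1 := Cfsg.Agent.Helper23.pow_natCard_of_mem W₂ hy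
      rw [h1, one_mul, inv_pow]
    have hbn : b ^ Nat.card W₂ ∈ ⁅S, S⁆ ⊓ W₁ := by
      refine ⟨?_, W₁.pow_mem hb _⟩
      have : (b ^ Nat.card W₂) = (a ^ Nat.card W₂)⁻¹ := by rw [hpow, inv_inv]
      rw [this]
      exact Subgroup.inv_mem _ (Subgroup.pow_mem _ ha _)
    rw [hS'W₁, Subgroup.mem_bot] at hbn
    have hbW₂ : b ∈ W₂ :=
      Cfsg.Agent.Helper23.mem_of_pow_card_eq_one_of_isCyclic (W₁ ⊔ W₂) W₂ hcyc le_sup_right hbW hbn
    have hb1 : b = 1 := by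
      have : b ∈ W₁ ⊓ W₂ := ⟨hb, hbW₂⟩
      rwa [hinf, Subgroup.mem_bot] at this
    rw [hyab, hb1, mul_one]
    exact ha
  -- Step B: W₂ ≤ W₂'
  have hB : W₂ ≤ W₂' := by
    intro y hy
    rw [← hcent]
    refine Subgroup.mem_inf.mpr ⟨hA hy, ?_⟩
    rw [Subgroup.mem_centralizer_iff]
    intro z hz
    rw [Set.mem_singleton_iff] at hz
    subst hz
    exact hcomm z hxW₁ y hy
  -- Step C: W₂' ≤ W₂
  apply le_antisymm _ hB
  intro w hw
  -- z = x * y₀ is outside W₁ ∪ W₂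
  have hzW : x * y₀ ∈ W₁ ⊔ W₂ :=
    Subgroup.mul_mem _ ((le_sup_left : W₁ ≤ W₁ ⊔ W₂) hxW₁) ((le_sup_right : W₂ ≤ W₁ ⊔ W₂) hy₀W₂)
  have hz1 : x * y₀ ∉ W₁ := by
    intro h
    have : y₀ ∈ W₁ := by
      have := W₁.mul_mem (W₁.inv_mem hxW₁) h
      simpa using this
    have : y₀ ∈ W₁ ⊓ W₂ := ⟨this, hy₀W₂⟩
    rw [hinf, Subgroup.mem_bot] at this
    exact hy₀1 this
  have hz2 : x * y₀ ∉ W₂ := by
    intro h
    have : x ∈ W₂ := by
      have := W₂.mul_mem h (W₂.inv_mem hy₀W₂)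
      simpa using this
    have : x ∈ W₁ ⊓ W₂ := ⟨hxW₁, this⟩
    rw [hinf, Subgroup.mem_bot] at this
    exact hx1 this
  have hN := hnorm {x * y₀} (by
    intro t ht
    rw [Set.mem_singleton_iff] at ht
    subst ht
    exact ⟨hzW, fun h => h.elim hz1 hz2⟩) (Set.singleton_nonempty _)
  -- w commutes with x and with y₀
  have hwx : w * x = x * w := by
    rw [← hcent] at hw
    have := (Subgroup.mem_inf.mp hw).2
    rw [Subgroup.mem_centralizer_iff] at this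
    exact (this x rfl).symm
  have hwy : w * y₀ = y₀ * w := by
    have hcyc' := hP.selfNormalizing.2.2.2.2.1
    have hw' : w ∈ W₁ ⊔ W₂' := (le_sup_right : W₂' ≤ W₁ ⊔ W₂') hw
    have hy' : y₀ ∈ W₁ ⊔ W₂' := (le_sup_right : W₂' ≤ W₁ ⊔ W₂') (hB hy₀W₂)
    have := hcyc'
    have hc : (⟨w, hw'⟩ : ↥(W₁ ⊔ W₂')) * ⟨y₀, hy'⟩ = ⟨y₀, hy'⟩ * ⟨w, hw'⟩ := by
      let _ := IsCyclic.commGroup (α := ↥(W₁ ⊔ W₂'))
      exact mul_comm _ _
    have := congrArg (fun z : ↥(W₁ ⊔ W₂') => (z : G)) hc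
    simpa using this
  have hwN : w ∈ Subgroup.normalizer ({x * y₀} : Set G) := by
    rw [Subgroup.mem_set_normalizer_iff]
    intro h
    simp only [Set.mem_singleton_iff]
    have key : w * (x * y₀) * w⁻¹ = x * y₀ := by
      calc w * (x * y₀) * w⁻¹ = (w * x) * y₀ * w⁻¹ := by group
        _ = x * (w * y₀) * w⁻¹ := by rw [hwx]; group
        _ = x * y₀ := by rw [hwy]; group
    constructor
    · intro hh
      subst hh
      exact key
    · intro hh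
      have : h = w⁻¹ * (x * y₀) * w := by rw [← hh]; group
      rw [this]
      have : w⁻¹ * (x * y₀) * w = w⁻¹ * (w * (x * y₀) * w⁻¹) * w := by rw [key]
      rw [this]; group
  rw [hN] at hwN
  obtain ⟨b, hb, y', hy', hwby⟩ := Cfsg.Agent.Helper23.mem_sup_of_commute W₁ W₂ hcomm hwN
  have hwS' : w ∈ ⁅S, S⁆ := by
    rw [← hcent] at hw
    exact (Subgroup.mem_inf.mp hw).1
  have hbS' : b ∈ ⁅S, S⁆ ⊓ W₁ := by
    refine ⟨?_, hb⟩
    have : b = w * y'⁻¹ := by rw [hwby]; group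
    rw [this]
    exact Subgroup.mul_mem _ hwS' (Subgroup.inv_mem _ (hA hy'))
  rw [hS'W₁, Subgroup.mem_bot] at hbS'
  rw [hwby, hbS', one_mul]
  exact hy'

end Cfsg.Agent.S1386
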