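import Cfsg.Statements.S1387
import Mathlib
import Cfsg.Agent.Lib.Helper23.FittingHall

set_option autoImplicit false
open Cfsg

namespace Cfsg.Agent.S1387

/-- Let M be a subgroup of a finite group G with type-P data (W₁, U, W₂) and H = M_F. Then the Fitting subgroup F(M) is generated by H and the centralizer of H in U. -/
theorem result {G : Type*} [Group G] [Finite G] (M W₁ U W₂ : Subgroup G) (hP : Cfsg.IsTypePWith M W₁ U W₂) :
    Cfsg.fittingOf M = Cfsg.fittingHallOf M ⊔ (U ⊓ Subgroup.centralizer (Cfsg.fittingHallOf M : Set G)) := by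
  obtain ⟨hHM', hUM', hHU, hprod⟩ := hP.U_compl
  have hM'M : ⁅M, M⁆ ≤ M := Subgroup.commutator_le_self M
  rw [← hP.fitting_eq]
  apply le_antisymm
  · apply sup_le le_sup_left
    intro c hc
    have hcM : c ∈ M := (Subgroup.mem_inf.mp hc).1
    have hcC : c ∈ Subgroup.centralizer (Cfsg.fittingHallOf M : Set G) := (Subgroup.mem_inf.mp hc).2
    have hcF : c ∈ Cfsg.fittingOf M := by
      rw [← hP.fitting_eq]
      exact (le_sup_right : _ ≤ Cfsg.fittingHallOf M ⊔ _) hc
    have hcM' : c ∈ ⁅M, M⁆ := hP.fitting_le hcF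
    obtain ⟨a, ha, b, hb, hcab⟩ := hprod c hcM'
    have hac : Commute a c := by
      rw [Subgroup.mem_centralizer_iff] at hcC
      exact hcC a ha
    set k := Nat.card ↥(Cfsg.fittingHallOf M) with hk
    set j := (Cfsg.fittingHall ↥M).index with hj
    have hkj : k.Coprime j := by
      rw [hk, Cfsg.Agent.Helper23.card_fittingHallOf]
      exact Cfsg.Agent.Helper23.fittingHall_coprime ↥M
    have hb' : b = a⁻¹ * c := by rw [hcab]; group
    have hck : c ^ k ∈ U ⊓ Subgroup.centralizer (Cfsg.fittingHallOf M : Set G) := by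
      refine Subgroup.mem_inf.mpr ⟨?_, Subgroup.pow_mem _ hcC _⟩
      have : c ^ k = b ^ k := by
        rw [hb', (Commute.inv_left hac).mul_pow, inv_pow,
          Cfsg.Agent.Helper23.pow_natCard_of_mem _ ha]
        simp
      rw [this]
      exact U.pow_mem hb _
    have hcj : c ^ j ∈ Cfsg.fittingHallOf M :=
      Cfsg.Agent.Helper23.pow_index_mem_fittingHallOf M hcM
    rw [sup_comm]
    exact Cfsg.Agent.Helper23.mem_sup_of_pow_mem_of_coprime _ _ hkj hck hcj
  · exact sup_le_sup_left (inf_le_inf_right _ (hUM'.trans hM'M)) _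

end Cfsg.Agent.S1387
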