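import Cfsg.Statements.S1388
import Mathlib
import Cfsg.Agent.Lib.Helper23.FittingHall
import Cfsg.Agent.S1387

set_option autoImplicit false
open Cfsg

namespace Cfsg.Agent.S1388

open Cfsg.Agent.Helper23
open scoped commutatorElement

/-- Let M be a subgroup of a finite group G with type-P data (W₁, U, W₂) and H = M_F. Then the derived subgroup of U centralizes H, and if U ≠ 1 then U does not centralize H. -/
theorem result {G : Type*} [Group G] [Finite G] (M W₁ U W₂ : Subgroup G) (hP : Cfsg.IsTypePWith M W₁ U W₂) :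
    ⁅U, U⁆ ≤ Subgroup.centralizer (Cfsg.fittingHallOf M : Set G) ∧ (U ≠ ⊥ → ¬ U ≤ Subgroup.centralizer (Cfsg.fittingHallOf M : Set G)) := by
  have hcompl := hP.U_compl
  obtain ⟨hHM', hUM', hHU, hprod⟩ := hP.U_compl
  have hM'M : ⁅M, M⁆ ≤ M := Subgroup.commutator_le_self M
  have hUM : U ≤ M := hUM'.trans hM'M
  have hS1387 := Cfsg.Agent.S1387.result M W₁ U W₂ hP
  constructor
  · intro w hw
    have hwU : w ∈ U := Subgroup.commutator_le_self U hw
    have hwM'' : w ∈ ⁅⁅M, M⁆, ⁅M, M⁆⁆ := Subgroup.commutator_mono hUM' hUM' hw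
    have hwF : w ∈ Cfsg.fittingOf M := by
      rw [← hP.fitting_eq]
      exact hP.derived_two_le hwM''
    rw [hS1387] at hwF
    have hcomm : ∀ a ∈ Cfsg.fittingHallOf M,
        ∀ b ∈ U ⊓ Subgroup.centralizer (Cfsg.fittingHallOf M : Set G), a * b = b * a := by
      intro a ha b hb
      have := (Subgroup.mem_inf.mp hb).2
      rw [Subgroup.mem_centralizer_iff] at this
      exact this a ha
    obtain ⟨h, hh, d, hd, hwhd⟩ := mem_sup_of_commute _ _ hcomm hwF
    have hdU : d ∈ U := (Subgroup.mem_inf.mp hd).1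
    have hh1 : h ∈ Cfsg.fittingHallOf M ⊓ U := by
      refine Subgroup.mem_inf.mpr ⟨hh, ?_⟩
      have : h = w * d⁻¹ := by rw [hwhd]; group
      rw [this]
      exact U.mul_mem hwU (U.inv_mem hdU)
    rw [hHU, Subgroup.mem_bot] at hh1
    rw [hwhd, hh1, one_mul]
    exact (Subgroup.mem_inf.mp hd).2
  · intro hUne hUC
    -- notation
    set H := Cfsg.fittingHallOf M with hH
    set k := Nat.card ↥H with hk
    set j := (Cfsg.fittingHall ↥M).index with hj
    have hkj : k.Coprime j := by
      rw [hk, hH, card_fittingHallOf]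
      exact fittingHall_coprime ↥M
    have hcommHU : ∀ a ∈ H, ∀ b ∈ U, a * b = b * a := by
      intro a ha b hb
      have := hUC hb
      rw [Subgroup.mem_centralizer_iff] at this
      exact this a ha
    -- every element of U is killed by j
    have hUj : ∀ u ∈ U, u ^ j = 1 := by
      intro u hu
      have h1 : u ^ j ∈ H := pow_index_mem_fittingHallOf M (hUM hu)
      have h2 : u ^ j ∈ H ⊓ U := Subgroup.mem_inf.mpr ⟨h1, U.pow_mem hu _⟩
      rwa [hHU, Subgroup.mem_bot] at h2
    -- U is normalized by M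
    have hnorm : ∀ m ∈ M, ∀ u ∈ U, m * u * m⁻¹ ∈ U := by
      intro m hm u hu
      have hconjM' : m * u * m⁻¹ ∈ ⁅M, M⁆ := by
        have h1 : ⁅m, u⁆ ∈ ⁅M, M⁆ := Subgroup.commutator_mem_commutator hm (hUM hu)
        have h2 : m * u * m⁻¹ = ⁅m, u⁆ * u := by
          rw [commutatorElement_def]; group
        rw [h2]
        exact Subgroup.mul_mem _ h1 (hUM' hu)
      obtain ⟨a, ha, b, hb, hab⟩ := hprod _ hconjM'
      have hpow : (m * u * m⁻¹) ^ j = 1 := by
        rw [conj_pow, hUj u hu]; group
      have hcomm_ab : Commute a b := hcommHU a ha b hb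
      rw [hab, hcomm_ab.mul_pow, hUj b hb, mul_one] at hpow
      have hak : a ^ k = 1 := pow_natCard_of_mem H ha
      have ha1 : a ∈ (⊥ : Subgroup G) ⊔ ⊥ :=
        mem_sup_of_pow_mem_of_coprime ⊥ ⊥ hkj (by rw [hak]; exact Subgroup.one_mem _)
          (by rw [hpow]; exact Subgroup.one_mem _)
      rw [sup_idem, Subgroup.mem_bot] at ha1
      rw [hab, ha1, one_mul]
      exact hb
    -- cardinalities
    have hcardM' : Nat.card ↥⁅M, M⁆ = k * Nat.card U := card_of_isComplIn hcompl
    have hcardM : Nat.card M = Nat.card ↥⁅M, M⁆ * Nat.card W₁ := card_of_isComplIn hP.W₁_compl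
    have hW₁M : W₁ ≤ M := hP.W₁_compl.2.1
    have hW₁rel : W₁.relIndex M = k * Nat.card U := by
      have h1 : Nat.card W₁ * W₁.relIndex M = Nat.card M := by
        have := Subgroup.relIndex_mul_relIndex ⊥ W₁ M bot_le hW₁M
        simpa [Subgroup.relIndex_bot_left] using this
      rw [hcardM, hcardM', mul_comm] at h1
      exact Nat.eq_of_mul_eq_mul_right Nat.card_pos h1
    have hUrel : U.relIndex M = k * Nat.card W₁ := by
      have h1 : Nat.card U * U.relIndex M = Nat.card M := by
        have := Subgroup.relIndex_mul_relIndex ⊥ U M bot_le hUM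
        simpa [Subgroup.relIndex_bot_left] using this
      rw [hcardM, hcardM'] at h1
      have h2 : Nat.card U * U.relIndex M = Nat.card U * (k * Nat.card W₁) := by
        rw [h1]; ring
      exact Nat.eq_of_mul_eq_mul_left Nat.card_pos h2
    have hjeq : j = Nat.card U * Nat.card W₁ := by
      have h1 : Nat.card ↥(Cfsg.fittingHall ↥M) * j = Nat.card M :=
        Subgroup.card_mul_index _
      rw [← card_fittingHallOf, hcardM, hcardM'] at h1
      have h2 : k * j = k * (Nat.card U * Nat.card W₁) := by
        rw [h1]; ring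
      exact Nat.eq_of_mul_eq_mul_left Nat.card_pos h2
    have hcopU : (Nat.card U).Coprime (k * Nat.card W₁) := by
      apply Nat.Coprime.mul_right
      · have : k.Coprime (Nat.card U) := by
          rw [hjeq] at hkj
          exact Nat.Coprime.coprime_mul_right_right hkj
        exact this.symm
      · have h := hP.W₁_hall
        rw [hW₁rel] at h
        exact (Nat.Coprime.coprime_mul_left_right h).symm
    -- U as a subgroup of M lies in the Fitting-Hall subgroup
    have hmem : U.subgroupOf M ∈ {N : Subgroup ↥M | N.Normal ∧ Group.IsNilpotent N ∧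
        (Nat.card N).Coprime N.index} := by
      refine ⟨⟨?_⟩, ?_, ?_⟩
      · rintro ⟨u, huM⟩ hu ⟨m, hm⟩
        rw [Subgroup.mem_subgroupOf] at hu ⊢
        exact hnorm m hm u hu
      · have := hP.U_nilpotent
        exact (Group.isNilpotent_congr (Subgroup.subgroupOfEquivOfLe hUM)).mpr this
      · rw [Nat.card_congr (Subgroup.subgroupOfEquivOfLe hUM).toEquiv]
        show (Nat.card U).Coprime (U.relIndex M)
        rw [hUrel]
        exact hcopU
    have hle : U.subgroupOf M ≤ Cfsg.fittingHall ↥M := le_sSup hmem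
    have hUH : U ≤ H := by
      have := Subgroup.map_mono (f := M.subtype) hle
      rwa [Subgroup.map_subgroupOf_eq_of_le hUM] at this
    apply hUne
    rw [← inf_of_le_right hUH, hHU]

end Cfsg.Agent.S1388
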