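import Cfsg.Statements.S1389
import Mathlib
import Cfsg.Agent.S1350
import Cfsg.Agent.S1351
import Cfsg.Agent.S1352
import Cfsg.Agent.S1355
import Cfsg.Agent.S1381
import Cfsg.Agent.S1437
import Cfsg.Agent.Lib.Helper45.CNMax
import Cfsg.Agent.Lib.Helper15.BGV.Sigma
import Cfsg.Agent.Lib.Helper82.BG1215a
import Cfsg.Agent.Lib.Helper25.BGTypeIIB2
import Cfsg.Agent.Lib.Helper25.BGTypeIIAux
import Cfsg.Agent.Lib.Helper68.BGTypeIIB1
import Cfsg.Agent.Lib.Helper23.FittingHall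
import Cfsg.Agent.Lib.Helper55.BGDecomp
import Cfsg.Agent.Lib.Helper55.BGFit

set_option autoImplicit false
open Cfsg

namespace Cfsg.Agent.S1389

open scoped Pointwise

/-- A nontrivial Sylow `p`-subgroup forces `p` to divide the order. -/
theorem dvd_card_of_sylow_ne_bot {H : Type*} [Group H] [Finite H] {p : ℕ} [Fact p.Prime]
    (P : Sylow p H) (hP : (P : Subgroup H) ≠ ⊥) : p ∣ Nat.card H := by
  by_contra hnd
  apply hP
  rw [← Subgroup.card_eq_one, P.card_eq_multiplicity, Nat.factorization_eq_zero_of_not_dvd hnd,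
    pow_zero]

/-- the case `M_s = M_σ`. -/
theorem sigma_case {G : Type*} [Group G] [Finite G] (hG : Cfsg.IsMinSimpleOddOrder G)
    (M : Subgroup G) (hM : IsCoatom M) (T : Subgroup G) (hT : T = Cfsg.sigmaCore M) :
    (∀ (p : ℕ), p.Prime → ∀ (P : Sylow p ↥T), (P : Subgroup ↥T) ≠ ⊥ →
        Subgroup.normalizer ((((P : Subgroup ↥T).map T.subtype : Subgroup G)) : Set G) ≤ M) ∧
      (Nat.card T).Coprime T.index := by
  subst hT
  obtain ⟨h1, h2, -⟩ := Cfsg.Agent.S1350.result hG M hM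
  refine ⟨?_, ?_⟩
  · intro p hp P hP
    have : Fact p.Prime := ⟨hp⟩
    have hpd : p ∣ Nat.card (Cfsg.sigmaCore M) := dvd_card_of_sylow_ne_bot P hP
    have hps : p ∈ Cfsg.sigma M := h1.2.1 p hp hpd
    apply Cfsg.Agent.Helper15.BGV.normalizer_le_of_mem_sigma hps
      ((Subgroup.map_subtype_le _).trans h1.1)
    rw [Cfsg.Agent.Helper52.card_sylow_map p (Cfsg.sigmaCore M) P]
    exact Cfsg.Agent.Helper15.BGV.sylCard_sigmaCore h1 hps
  · apply Nat.Coprime.symm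
    apply Nat.coprime_of_dvd
    intro k hk hk2 hk1
    exact h2.2 k hk (h2.1 k hk hk1) hk2

/-- the case `M_s = M_F`. -/
theorem fit_case {G : Type*} [Group G] [Finite G] (hG : Cfsg.IsMinSimpleOddOrder G)
    (M : Subgroup G) (hM : IsCoatom M) (T : Subgroup G) (hT : T = Cfsg.fittingHallOf M) :
    ∀ (p : ℕ), p.Prime → ∀ (P : Sylow p ↥T), (P : Subgroup ↥T) ≠ ⊥ →
        Subgroup.normalizer ((((P : Subgroup ↥T).map T.subtype : Subgroup G)) : Set G) ≤ M := by
  subst hT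
  intro p hp P hP
  have : Fact p.Prime := ⟨hp⟩
  have hnil : Group.IsNilpotent ↥(Cfsg.fittingHallOf M) :=
    Cfsg.Agent.Helper45.CNMax.nilpotent_fittingHallOf M
  have hPn : (P : Subgroup ↥(Cfsg.fittingHallOf M)).Normal := inferInstance
  have hsub : Subsingleton (Sylow p ↥(Cfsg.fittingHallOf M)) :=
    (Sylow.unique_of_normal P hPn).instSubsingleton
  have hPd : P = default := Subsingleton.elim _ _
  have hdvd : p ∣ Nat.card (Cfsg.fittingHallOf M) := dvd_card_of_sylow_ne_bot P hP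
  have h := (Cfsg.Agent.Helper45.CNMax.sylowPart_fittingHallOf hG hM hdvd).1
  rw [hPd]
  exact h.le

/-- Two complements `U'`, `V` of the normal Hall subgroup `F` of the solvable group `D ≤ M`:
if `N_G(U') ≤ M` then `N_G(V) ≤ M`. -/
theorem normalizer_compl_le {G : Type*} [Group G] [Finite G] {M D F U' V : Subgroup G}
    (hsolv : Group.IsSolvable ↥D) (hDM : D ≤ M)
    (hFn : D ≤ Subgroup.normalizer (F : Set G))
    (hcop : (Nat.card F).Coprime (F.relIndex D))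
    (hU' : Cfsg.IsComplIn F U' D) (hV : Cfsg.IsComplIn F V D)
    (hN : Subgroup.normalizer (U' : Set G) ≤ M) : Subgroup.normalizer (V : Set G) ≤ M := by
  have hc1 : Nat.card D = Nat.card F * Nat.card U' := Cfsg.Agent.Helper23.card_of_isComplIn hU'
  have hc2 : Nat.card D = Nat.card F * Nat.card V := Cfsg.Agent.Helper23.card_of_isComplIn hV
  have hFpos : 0 < Nat.card F := Nat.card_pos
  have hcardUV : Nat.card V = Nat.card U' :=
    Nat.eq_of_mul_eq_mul_left hFpos (hc2.symm.trans hc1)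
  have hrel : F.relIndex D = Nat.card V := by
    have h1 := Subgroup.relIndex_mul_relIndex ⊥ F D bot_le hV.1
    rw [Subgroup.relIndex_bot_left, Subgroup.relIndex_bot_left, hc2] at h1
    exact Nat.eq_of_mul_eq_mul_left hFpos h1
  have hY : (Nat.card V).Coprime (Nat.card F) := by
    rw [← hrel]; exact hcop.symm
  have hdec : ∀ k ∈ D, ∃ b ∈ F, ∃ c ∈ U', k = b * c := hU'.2.2.2
  obtain ⟨k, hkD, hle⟩ := Cfsg.Agent.Helper82.BG1215.exists_conj_le_of_dec hsolv hU'.1 hFn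
    hU'.2.1 hdec hcop hV.2.1 hY
  have heq : MulAut.conj k • V = U' := by
    apply Subgroup.eq_of_le_of_card_ge hle
    rw [← Nat.card_congr (Subgroup.equivSMul (MulAut.conj k) V).toEquiv, hcardUV]
  -- membership in `U'`
  have hmem : ∀ y : G, y ∈ U' ↔ k⁻¹ * y * k ∈ V := by
    intro y
    rw [← heq, Subgroup.mem_pointwise_smul_iff_inv_smul_mem]
    simp [MulAut.smul_def]
  intro x hx
  rw [Subgroup.mem_normalizer_iff] at hx
  have hkx : k * x * k⁻¹ ∈ Subgroup.normalizer (U' : Set G) := by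
    rw [Subgroup.mem_normalizer_iff]
    intro y
    rw [hmem y, hmem (k * x * k⁻¹ * y * (k * x * k⁻¹)⁻¹), hx (k⁻¹ * y * k)]
    have e : k⁻¹ * (k * x * k⁻¹ * y * (k * x * k⁻¹)⁻¹) * k = x * (k⁻¹ * y * k) * x⁻¹ := by group
    rw [e]
  have hkM : k ∈ M := hDM hkD
  have h1 : k * x * k⁻¹ ∈ M := hN hkx
  have e : x = k⁻¹ * (k * x * k⁻¹) * k := by group
  rw [e]
  exact M.mul_mem (M.mul_mem (M.inv_mem hkM) h1) hkM

/-- For `M` of Type III or IV, `M' = M_σ`. -/
theorem derived_eq_sigmaCore {G : Type*} [Group G] [Finite G] (hG : Cfsg.IsMinSimpleOddOrder G)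
    (M : Subgroup G) (hM : IsCoatom M) (h : Cfsg.IsOfTypeIII M ∨ Cfsg.IsOfTypeIV M) :
    ⁅M, M⁆ = Cfsg.sigmaCore M := by
  obtain ⟨W₁, U', W₂, hP, hU'1, hprime, hN⟩ : ∃ W₁ U' W₂ : Subgroup G,
      Cfsg.IsTypePWith M W₁ U' W₂ ∧ U' ≠ ⊥ ∧ (Nat.card W₁).Prime ∧
        Subgroup.normalizer (U' : Set G) ≤ M := by
    rcases h with ⟨W₁, U', W₂, hP, hU'1, hprime, -, -, hN⟩ | ⟨W₁, U', W₂, hP, hU'1, hprime, -, -, hN⟩
    · exact ⟨W₁, U', W₂, hP, hU'1, hprime, hN⟩
    · exact ⟨W₁, U', W₂, hP, hU'1, hprime, hN⟩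
  have h50 := (Cfsg.Agent.S1350.result hG M hM).1
  obtain ⟨-, h55b, h55c, -, -⟩ := Cfsg.Agent.S1355.result hG M hM
  obtain ⟨⟨K, hK⟩, hKc⟩ := Cfsg.Agent.S1351.result hG M hM
  obtain ⟨⟨U, hKU⟩, -⟩ := Cfsg.Agent.S1352.result hG M hM K (hKc K hK) hK
  -- `K ≠ 1`
  have hK1 : K ≠ ⊥ := by
    have hκ : Nat.card W₁ ∈ Cfsg.kappa M :=
      Cfsg.Agent.Helper68.BGTypeII.card_mem_kappa_of_typeP hP hprime h50 h55c h55b
    intro hK0
    have hdvd : Nat.card W₁ ∣ Nat.card M := hκ.2.1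
    have hrel : Nat.card K * K.relIndex M = Nat.card M :=
      Cfsg.Agent.Helper55.BGB.card_mul_relIndex hKU.hall.1
    rw [hK0, Subgroup.card_bot, one_mul] at hrel
    rw [← hrel] at hdvd
    exact hKU.hall.2.2 _ hprime hκ (hK0 ▸ hdvd)
  have hDM : ⁅M, M⁆ ≤ M := hP.W₁_compl.1
  -- `U = 1`
  have hU : U = ⊥ := by
    by_contra hU
    obtain ⟨V₁, V, V₂, hQ, -, -, -, -, hNV, -, -⟩ :=
      (Cfsg.Agent.S1381.result hG M hM K U hKU).mpr ⟨hK1, hU⟩
    apply hNV
    have hMsolv : Group.IsSolvable ↥M := hG.2.2.2 M hM.1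
    have hsolv : Group.IsSolvable ↥(⁅M, M⁆ : Subgroup G) := by
      have : Group.IsSolvable ↥M := hMsolv
      exact Group.isSolvable_of_isSolvable_injective (Subgroup.inclusion_injective hDM)
    have hFn : (⁅M, M⁆ : Subgroup G) ≤ Subgroup.normalizer (Cfsg.fittingHallOf M : Set G) :=
      hDM.trans (Cfsg.Agent.Helper45.CNMax.le_normalizer_fittingHallOf M)
    have hcop : (Nat.card (Cfsg.fittingHallOf M)).Coprime
        ((Cfsg.fittingHallOf M).relIndex ⁅M, M⁆) := by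
      have h1 := Cfsg.Agent.Helper25.BGTypeII.coprime_card_relIndex_fittingHallOf M
      have h2 := Subgroup.relIndex_mul_relIndex (Cfsg.fittingHallOf M) ⁅M, M⁆ M hP.U_compl.1 hDM
      rw [← h2] at h1
      exact Nat.Coprime.coprime_mul_right_right h1
    exact normalizer_compl_le hsolv hDM hFn hcop hP.U_compl hQ.U_compl hN
  -- `M_F ≠ M_σ`
  have hne : Cfsg.fittingHallOf M ≠ Cfsg.sigmaCore M := by
    intro heq
    have hKM : K ≤ M := hKU.hall.1
    have hSn : M ≤ Subgroup.normalizer ((Cfsg.sigmaCore M : Subgroup G) : Set G) :=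
      Cfsg.Agent.Helper55.BGB.le_normalizer_sigmaCore M
    have hdec : ∀ m ∈ M, ∃ k ∈ K, ∃ s ∈ Cfsg.sigmaCore M, m = k * s := by
      intro m hm
      obtain ⟨a, ha, b, hb, hab⟩ := hKU.compl.2.2.2 m hm
      rw [hU, Subgroup.mem_bot] at ha
      rw [ha, one_mul] at hab
      have hb' : b ∈ ((K ⊔ Cfsg.sigmaCore M : Subgroup G) : Set G) := hb
      rw [Subgroup.coe_mul_of_left_le_normalizer_right K (Cfsg.sigmaCore M) (hKM.trans hSn),
        Set.mem_mul] at hb'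
      obtain ⟨k, hk, s, hs, e⟩ := hb'
      exact ⟨k, hk, s, hs, by rw [hab, e]⟩
    have hKcomm : ∀ a ∈ K, ∀ b ∈ K, a * b = b * a := by
      intro a ha b hb
      have := hKU.cyclic
      have := (IsCyclic.isMulCommutative (α := K)).is_comm.comm ⟨a, ha⟩ ⟨b, hb⟩
      exact congrArg Subtype.val this
    have hD : ⁅M, M⁆ ≤ Cfsg.sigmaCore M :=
      Cfsg.Agent.Helper25.BGTypeII.commutator_le_of_mul hdec hKcomm hKM hSn
    apply hU'1
    rw [eq_bot_iff]
    have h1 : U' ≤ Cfsg.fittingHallOf M ⊓ U' := by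
      apply le_inf _ le_rfl
      rw [heq]
      exact hP.U_compl.2.1.trans hD
    rw [hP.U_compl.2.2.1] at h1
    exact h1
  exact (Cfsg.Agent.S1437.result hG M hM K U hKU hne).2.1.symm

theorem result {G : Type*} [Group G] [Finite G] (hG : Cfsg.IsMinSimpleOddOrder G)
    (M : Subgroup G) (hM : IsCoatom M) :
    (∀ (p : ℕ), p.Prime → ∀ (P : Sylow p ↥(Cfsg.typeCore M)), (P : Subgroup ↥(Cfsg.typeCore M)) ≠ ⊥ →
        Subgroup.normalizer ((((P : Subgroup ↥(Cfsg.typeCore M)).map (Cfsg.typeCore M).subtype : Subgroup G)) : Set G) ≤ M) ∧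
      (Nat.card (Cfsg.fittingHallOf M)).Coprime (Cfsg.fittingHallOf M).index ∧
      (Nat.card (Cfsg.typeCore M)).Coprime (Cfsg.typeCore M).index := by
  have hF := Cfsg.Agent.Helper45.CNMax.fittingHallOf_coprime hG hM
  by_cases h : Cfsg.IsOfTypeIII M ∨ Cfsg.IsOfTypeIV M
  · have hT : Cfsg.typeCore M = Cfsg.sigmaCore M := by
      unfold Cfsg.typeCore
      rw [if_pos h]
      exact derived_eq_sigmaCore hG M hM h
    obtain ⟨ha, hb⟩ := sigma_case hG M hM (Cfsg.typeCore M) hT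
    exact ⟨ha, hF, hb⟩
  · have hT : Cfsg.typeCore M = Cfsg.fittingHallOf M := by
      unfold Cfsg.typeCore
      rw [if_neg h]
    refine ⟨fit_case hG M hM (Cfsg.typeCore M) hT, hF, ?_⟩
    rw [hT]
    exact hF

end Cfsg.Agent.S1389
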