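import Cfsg.Statements.S1390
import Cfsg.Agent.S1350
import Cfsg.Agent.S1351
import Cfsg.Agent.S1352
import Cfsg.Agent.S1355
import Cfsg.Agent.S1358
import Cfsg.Agent.S1361
import Cfsg.Agent.S1362
import Cfsg.Agent.S1364
import Cfsg.Agent.S1365
import Cfsg.Agent.S1437
import Cfsg.Agent.Lib.Helper38.BG16a

set_option autoImplicit false
open Cfsg

namespace Cfsg.Agent.S1390

/-- Let G be a minimal simple group of odd order, M a maximal subgroup and H = M_F; suppose M is of Type I and U is a complement to H in M, or M is of Type II and U is a complement to H in M'. Then every Sylow subgroup of U is abelian with no elementary abelian subgroup of order p ^ 3; for every nonempty set X of non-identity elements of U centralizing a non-identity element of H, C_G(X) ≤ M and M is the unique maximal subgroup containing C_G(X); and A(M) with A₁(M) removed is a TI-subset of G. -/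
theorem result {G : Type*} [Group G] [Finite G] (hG : Cfsg.IsMinSimpleOddOrder G)
    (M : Subgroup G) (hM : IsCoatom M) (U : Subgroup G)
    (hU : (Cfsg.IsOfTypeI M ∧ Cfsg.IsComplIn (Cfsg.fittingHallOf M) U M) ∨ (Cfsg.IsOfTypeII M ∧ Cfsg.IsComplIn (Cfsg.fittingHallOf M) U ⁅M, M⁆)) :
    (∀ (p : ℕ), p.Prime → ∀ P : Sylow p U, IsMulCommutative (P : Subgroup U) ∧ Cfsg.PRankLE p 2 (P : Subgroup U)) ∧
      (∀ X : Set G, X ⊆ (U : Set G) \ {1} → X.Nonempty → Cfsg.fittingHallOf M ⊓ Subgroup.centralizer X ≠ ⊥ →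
        Subgroup.centralizer X ≤ M ∧ ∀ L : Subgroup G, IsCoatom L → Subgroup.centralizer X ≤ L → L = M) ∧
      Cfsg.IsTISubset (Cfsg.typeA M \ Cfsg.typeA1 M) := by
  have hσ := (Cfsg.Agent.S1350.result hG M hM).1
  obtain ⟨-, hFσ, hσD, -, -⟩ := Cfsg.Agent.S1355.result hG M hM
  have h5152 : ∃ K U : Subgroup G, Cfsg.IsSigmaDecomposition M K U := by
    obtain ⟨⟨K, hK⟩, hcyc⟩ := Cfsg.Agent.S1351.result hG M hM
    obtain ⟨⟨U₀, hU₀⟩, -⟩ := Cfsg.Agent.S1352.result hG M hM K (hcyc K hK) hK
    exact ⟨K, U₀, hU₀⟩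
  obtain ⟨K, hKU, hFeq, hset⟩ := Cfsg.Agent.Helper38.BG16.exists_decomp hG hM hσ hFσ hσD h5152
    (fun K U hKU hK1 =>
      ⟨(Cfsg.Agent.S1364.result hG M hM K U hKU hK1).2.1,
        (Cfsg.Agent.S1364.result hG M hM K U hKU hK1).2.2.1⟩)
    (fun K U hKU hK1 => (Cfsg.Agent.S1365.result hG M hM K U hKU hK1).1)
    (fun K U hKU hne =>
      ⟨(Cfsg.Agent.S1437.result hG M hM K U hKU hne).1,
        (Cfsg.Agent.S1437.result hG M hM K U hKU hne).2.2.1⟩)
    U hU
  refine ⟨Cfsg.Agent.S1358.result hG M hM K U hKU, ?_, ?_⟩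
  · intro X hXU hXne hXc
    have hcl : Subgroup.closure X ≤ U := (Subgroup.closure_le U).2 (fun x hx => (hXU hx).1)
    have hne : Subgroup.closure X ≠ ⊥ := by
      obtain ⟨x, hx⟩ := hXne
      intro h
      have h1 : x ∈ Subgroup.closure X := Subgroup.subset_closure hx
      rw [h, Subgroup.mem_bot] at h1
      exact (hXU hx).2 h1
    have hcent : Subgroup.centralizer ((Subgroup.closure X : Subgroup G) : Set G) =
        Subgroup.centralizer X := Subgroup.centralizer_closure X
    have h61 := Cfsg.Agent.S1361.result hG M hM K U hKU (Subgroup.closure X) hcl hne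
      (by rw [hcent, ← hFeq]; exact hXc)
    rw [hcent] at h61
    exact h61
  · rw [hset]
    exact Cfsg.Agent.S1362.result hG M hM K U hKU

end Cfsg.Agent.S1390
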