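import Cfsg.Statements.S1400
import Cfsg.Agent.S1399
import Cfsg.Agent.Lib.Helper15.BGU.Conn2

set_option autoImplicit false
open Cfsg

namespace Cfsg.Agent.S1400

/-- Let G be a minimal simple group of odd order, p a prime, A an abelian p-subgroup containing an elementary abelian subgroup of order p ^ 3 and lying in exactly one maximal subgroup, and B a noncyclic p-subgroup whose centralizer contains an elementary abelian subgroup of order p ^ 3. Then B lies in exactly one maximal subgroup of G. -/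
theorem result {G : Type*} [Group G] [Finite G] (hG : Cfsg.IsMinSimpleOddOrder G)
    (p : ℕ) [Fact p.Prime] (A B : Subgroup G) (hAp : IsPGroup p A) (hAc : IsMulCommutative A) (hA3 : ¬ Cfsg.PRankLE p 2 ↥A)
    (hAU : Cfsg.InUniqueMaximal A) (hBp : IsPGroup p B) (hBnc : ¬ IsCyclic B) (hB3 : ¬ Cfsg.PRankLE p 2 ↥(Subgroup.centralizer (B : Set G))) :
    Cfsg.InUniqueMaximal B := by
  classical
  have hpp : p.Prime := Fact.out
  -- elementary abelian subgroups of rank ≥ 3
  obtain ⟨A₁, hA₁A, hA₁e, hA₁c⟩ := Cfsg.Agent.Helper15.BGU.exists_of_not_pRankLE hA3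
  obtain ⟨Bs, hBsC, hBse, hBsc⟩ := Cfsg.Agent.Helper15.BGU.exists_of_not_pRankLE hB3
  have hp1 : p < p ^ 2 := by
    calc p = p ^ 1 := (pow_one p).symm
      _ < p ^ 2 := Nat.pow_lt_pow_right hpp.one_lt (by norm_num)
  have hA₁p : IsPGroup p A₁ := Cfsg.Agent.Helper15.BGU.isPGroup_of_isElementaryAbelian hA₁e
  have hBsp : IsPGroup p Bs := Cfsg.Agent.Helper15.BGU.isPGroup_of_isElementaryAbelian hBse
  have hp2 : p ≠ 2 := Cfsg.Agent.Helper15.BGU.p_ne_two_of_odd hG.1 hA₁p (by omega)
  -- A₁ ∈ 𝓤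
  have hAcent : A ≤ Subgroup.centralizer (A : Set G) :=
    Subgroup.le_centralizer_iff_isMulCommutative.mpr hAc
  have hA₁U : Cfsg.InUniqueMaximal A₁ :=
    Cfsg.Agent.S1399.result hG A A₁ hAU (hA₁A.trans hAcent)
      (Cfsg.Agent.Helper15.BGU.not_rankLE_one_of le_rfl hA₁e (by omega))
  -- the p-group D = B Bs and Sylow subgroups
  have hBsN : Bs ≤ Subgroup.normalizer (B : Set G) :=
    hBsC.trans (Subgroup.centralizer_le_normalizer (B : Set G))
  have hDp : IsPGroup p (Bs ⊔ B : Subgroup G) := IsPGroup.to_sup_of_normal_right' hBsp hBp hBsN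
  obtain ⟨SA, hSA⟩ := hA₁p.exists_le_sylow
  obtain ⟨S, hS⟩ := hDp.exists_le_sylow
  obtain ⟨g, hg⟩ := MulAction.exists_smul_eq G SA S
  have hA₁'S : A₁.map (MulAut.conj g).toMonoidHom ≤ (S : Subgroup G) := by
    rw [← hg, Sylow.coe_subgroup_smul, Cfsg.Agent.Helper52.conj_smul_eq_map]
    exact Subgroup.map_mono hSA
  set A₁' := A₁.map (MulAut.conj g).toMonoidHom with hA₁'
  have hA₁'U : Cfsg.InUniqueMaximal A₁' := Cfsg.Agent.Helper15.BGU.inUniqueMaximal_conj g hA₁U
  have hA₁'e : Cfsg.IsElementaryAbelian p A₁' :=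
    Cfsg.Agent.Helper15.BGU.isElementaryAbelian_conj hA₁e g
  have hA₁'c : p ^ 2 < Nat.card A₁' := by
    rw [hA₁', Cfsg.Agent.Helper15.BGU.card_conj]; exact hA₁c
  have hBsS : Bs ≤ (S : Subgroup G) := le_sup_left.trans hS
  have hBS : B ≤ (S : Subgroup G) := le_sup_right.trans hS
  have hSnc : ¬ IsCyclic ↥(S : Subgroup G) :=
    Cfsg.Agent.Helper15.BGU.not_isCyclic_of_le hBsS hBse (by omega)
  obtain ⟨z, e, hzS, heS, hzc, hz1, hzp, hep, hez, hcent⟩ :=
    Cfsg.Agent.Helper15.BGU.exists_pair_in hp2 S.isPGroup' hSnc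
  -- the rank two subgroup E' = ⟨z, e⟩
  set E' : Subgroup G := Subgroup.zpowers z ⊔ Subgroup.zpowers e with hE'
  have hze : z * e = e * z := (hzc e heS).symm
  have hE'e : Cfsg.IsElementaryAbelian p E' := by
    apply Cfsg.Agent.Helper24.RankThree.elemAb_sup
      (Cfsg.Agent.Helper15.BGU.isElementaryAbelian_zpowers hzp)
      (Cfsg.Agent.Helper15.BGU.isElementaryAbelian_zpowers hep)
    rw [Subgroup.zpowers_le, Subgroup.mem_centralizer_iff]
    intro y hy
    obtain ⟨k, rfl⟩ := Subgroup.mem_zpowers_iff.mp hy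
    exact ((Commute.zpow_left (show Commute e z from hze.symm) k)).eq
  have hE'c : p < Nat.card E' := by
    have h1 : Nat.card (Subgroup.zpowers z) = p := by
      rw [Nat.card_zpowers]; exact orderOf_eq_prime hzp hz1
    have h2 : Subgroup.zpowers z ≤ E' := le_sup_left
    have h3 : Subgroup.zpowers z ≠ E' := by
      intro h
      apply hez
      rw [h]
      exact (le_sup_right : Subgroup.zpowers e ≤ E') (Subgroup.mem_zpowers e)
    by_contra hcon
    rw [not_lt, ← h1] at hcon
    exact h3 (Subgroup.eq_of_le_of_card_ge h2 hcon)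
  -- centralizers of e
  have hCle : ∀ F : Subgroup G, F ≤ (S : Subgroup G) →
      F ⊓ Subgroup.centralizer ({e} : Set G) ≤ Subgroup.centralizer (E' : Set G) := by
    intro F hFS x hx
    obtain ⟨hxF, hxe⟩ := Subgroup.mem_inf.mp hx
    have hxz : x * z = z * x := hzc x (hFS hxF)
    have hxe' : e * x = x * e := (Subgroup.mem_centralizer_iff.mp hxe) e (Set.mem_singleton e)
    have hE'le : E' ≤ Subgroup.centralizer ({x} : Set G) := by
      rw [hE']
      apply sup_le
      · rw [Subgroup.zpowers_le, Subgroup.mem_centralizer_iff]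
        intro y hy
        rw [Set.mem_singleton_iff] at hy
        rw [hy]; exact hxz
      · rw [Subgroup.zpowers_le, Subgroup.mem_centralizer_iff]
        intro y hy
        rw [Set.mem_singleton_iff] at hy
        rw [hy]; exact hxe'.symm
    rw [Subgroup.mem_centralizer_iff]
    intro y hy
    have := (Subgroup.mem_centralizer_iff.mp (hE'le hy)) x (Set.mem_singleton x)
    exact this.symm
  -- the chain
  set CA := A₁' ⊓ Subgroup.centralizer ({e} : Set G) with hCA
  set CB := Bs ⊓ Subgroup.centralizer ({e} : Set G) with hCB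
  have hCAc : p < Nat.card CA := hcent A₁' hA₁'S hA₁'c
  have hCBc : p < Nat.card CB := hcent Bs hBsS hBsc
  have hCAe : Cfsg.IsElementaryAbelian p CA :=
    Cfsg.Agent.Helper15.BGU.isElementaryAbelian_of_le hA₁'e inf_le_left
  have hCBe : Cfsg.IsElementaryAbelian p CB :=
    Cfsg.Agent.Helper15.BGU.isElementaryAbelian_of_le hBse inf_le_left
  have hCAU : Cfsg.InUniqueMaximal CA := by
    apply Cfsg.Agent.S1399.result hG A₁' CA hA₁'U
    · exact inf_le_left.trans (Subgroup.le_centralizer_iff_isMulCommutative.mpr hA₁'e.1)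
    · exact Cfsg.Agent.Helper15.BGU.not_rankLE_one_of le_rfl hCAe hCAc
  have hE'U : Cfsg.InUniqueMaximal E' := by
    apply Cfsg.Agent.S1399.result hG CA E' hCAU
    · exact Subgroup.le_centralizer_iff.mp (hCle A₁' hA₁'S)
    · exact Cfsg.Agent.Helper15.BGU.not_rankLE_one_of le_rfl hE'e hE'c
  have hCBU : Cfsg.InUniqueMaximal CB := by
    apply Cfsg.Agent.S1399.result hG E' CB hE'U
    · exact hCle Bs hBsS
    · exact Cfsg.Agent.Helper15.BGU.not_rankLE_one_of le_rfl hCBe hCBc
  have hBsU : Cfsg.InUniqueMaximal Bs := by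
    apply Cfsg.Agent.S1399.result hG CB Bs hCBU
    · have h1 : Bs ≤ Subgroup.centralizer (Bs : Set G) :=
        Subgroup.le_centralizer_iff_isMulCommutative.mpr hBse.1
      exact h1.trans (Subgroup.centralizer_le (by
        intro x hx; exact (inf_le_left : CB ≤ Bs) hx))
    · exact Cfsg.Agent.Helper15.BGU.not_rankLE_one_of le_rfl hBse (by omega)
  -- finally B
  apply Cfsg.Agent.S1399.result hG Bs B hBsU
  · exact Subgroup.le_centralizer_iff.mp hBsC
  · -- B has rank at least 2
    obtain ⟨zB, eB, hzB, heB, hzBc, hzB1, hzBp, heBp, heBz, -⟩ :=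
      Cfsg.Agent.Helper15.BGU.exists_pair_in hp2 hBp hBnc
    set EB : Subgroup G := Subgroup.zpowers zB ⊔ Subgroup.zpowers eB with hEB
    have hzeB : zB * eB = eB * zB := (hzBc eB heB).symm
    have hEBe : Cfsg.IsElementaryAbelian p EB := by
      apply Cfsg.Agent.Helper24.RankThree.elemAb_sup
        (Cfsg.Agent.Helper15.BGU.isElementaryAbelian_zpowers hzBp)
        (Cfsg.Agent.Helper15.BGU.isElementaryAbelian_zpowers heBp)
      rw [Subgroup.zpowers_le, Subgroup.mem_centralizer_iff]
      intro y hy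
      obtain ⟨k, rfl⟩ := Subgroup.mem_zpowers_iff.mp hy
      exact ((Commute.zpow_left (show Commute eB zB from hzeB.symm) k)).eq
    have hEBc : p < Nat.card EB := by
      have h1 : Nat.card (Subgroup.zpowers zB) = p := by
        rw [Nat.card_zpowers]; exact orderOf_eq_prime hzBp hzB1
      have h2 : Subgroup.zpowers zB ≤ EB := le_sup_left
      have h3 : Subgroup.zpowers zB ≠ EB := by
        intro h
        apply heBz
        rw [h]
        exact (le_sup_right : Subgroup.zpowers eB ≤ EB) (Subgroup.mem_zpowers eB)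
      by_contra hcon
      rw [not_lt, ← h1] at hcon
      exact h3 (Subgroup.eq_of_le_of_card_ge h2 hcon)
    have hEBB : EB ≤ B := by
      rw [hEB]
      exact sup_le ((Subgroup.zpowers_le).mpr hzB) ((Subgroup.zpowers_le).mpr heB)
    exact Cfsg.Agent.Helper15.BGU.not_rankLE_one_of hEBB hEBe hEBc

end Cfsg.Agent.S1400
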