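import Cfsg.Statements.S1441
import Mathlib

set_option autoImplicit false
open Cfsg

namespace Cfsg.Agent.S1441

/-- a p-element of `A` centralizes `H` when `p` does not divide `|H|` -/
theorem key {G : Type*} [Group G] [Finite G] (H A : Subgroup G)
    (n : ℕ) (c : Fin (n + 1) → Subgroup G) (hc0 : c 0 = H) (hcn : c (Fin.last n) = ⊥) (hanti : Antitone c)
    (htriv : ∀ i : Fin n, ⁅c i.castSucc, A⁆ ≤ c i.succ)
    (a : G) (haA : a ∈ A) (m : ℕ) (ham : a ^ m = 1) (hcop : m.Coprime (Nat.card H)) :
    ∀ i : Fin (n + 1), ∀ h ∈ c i, h * a = a * h := by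
  intro i
  induction i using Fin.reverseInduction with
  | last =>
    intro h hh
    rw [hcn, Subgroup.mem_bot] at hh
    subst hh; simp
  | cast i ih =>
    intro h hh
    set z := h * a * h⁻¹ * a⁻¹ with hz
    have hzmem : z ∈ c i.succ := by
      apply htriv i
      exact Subgroup.commutator_mem_commutator hh haA
    have hza : z * a = a * z := ih z hzmem
    have hzH : z ∈ H := by
      rw [← hc0]
      exact hanti (Fin.zero_le _) hzmem
    -- a^k * h⁻¹ * a^(-k) = h⁻¹ * z^k
    have hpow : ∀ k : ℕ, a ^ k * h⁻¹ = h⁻¹ * z ^ k * a ^ k := by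
      intro k
      induction k with
      | zero => simp
      | succ k ihk =>
        have hzk : z ^ k * a = a * z ^ k := by
          have : Commute (z ^ k) a := (Commute.pow_left (show Commute z a from hza) k)
          exact this
        have h1 : a * h⁻¹ = h⁻¹ * z * a := by
          rw [hz]; group
        calc a ^ (k + 1) * h⁻¹ = a * (a ^ k * h⁻¹) := by rw [pow_succ']; group
          _ = a * (h⁻¹ * z ^ k * a ^ k) := by rw [ihk]
          _ = (a * h⁻¹) * z ^ k * a ^ k := by group
          _ = h⁻¹ * z * (a * z ^ k) * a ^ k := by rw [h1]; group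
          _ = h⁻¹ * z * (z ^ k * a) * a ^ k := by rw [hzk]
          _ = h⁻¹ * z ^ (k + 1) * a ^ (k + 1) := by rw [pow_succ' z k, pow_succ' a k]; group
    have hzm : z ^ m = 1 := by
      have := hpow m
      rw [ham] at this
      simpa using this
    have hzH' : z ^ (Nat.card H) = 1 := by
      have h3 : (⟨z, hzH⟩ : H) ^ (Nat.card H) = 1 := pow_card_eq_one'
      have h4 := congrArg (fun x : H => (x : G)) h3
      simpa only [Subgroup.coe_pow, Subgroup.coe_one] using h4
    have hz1 : z = 1 := by
      have h1 : orderOf z ∣ m := orderOf_dvd_of_pow_eq_one hzm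
      have h2 : orderOf z ∣ Nat.card H := orderOf_dvd_of_pow_eq_one hzH'
      have : orderOf z ∣ 1 := by
        have := Nat.dvd_gcd h1 h2
        rwa [hcop] at this
      exact orderOf_eq_one_iff.mp (Nat.dvd_one.mp this)
    have : h * a * h⁻¹ * a⁻¹ = 1 := hz1
    calc h * a = (h * a * h⁻¹ * a⁻¹) * a * h := by group
      _ = a * h := by rw [this]; group

/-- Let G be a finite group, H a solvable subgroup and A a subgroup normalizing H. Suppose there is a chain H = H₀ ≥ H₁ ≥ ⋯ ≥ H_n = 1 of subgroups normal in H and normalized by A such that A acts trivially on each factor H_{i-1}/H_i (that is, [H_{i-1}, A] ≤ H_i). Then every prime dividing the index of C_A(H) in A divides the order of H. -/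
theorem result {G : Type*} [Group G] [Finite G] (H A : Subgroup G) (hH : Group.IsSolvable H) (hA : (A ≤ Subgroup.normalizer (H : Set G)))
    (n : ℕ) (c : Fin (n + 1) → Subgroup G) (hc0 : c 0 = H) (hcn : c (Fin.last n) = ⊥) (hanti : Antitone c)
    (hcN : ∀ i, H ≤ Subgroup.normalizer ((c i : Subgroup G) : Set G)) (hcA : ∀ i, A ≤ Subgroup.normalizer ((c i : Subgroup G) : Set G))
    (htriv : ∀ i : Fin n, ⁅c i.castSucc, A⁆ ≤ c i.succ) :
    ∀ p : ℕ, p.Prime → p ∣ (A ⊓ Subgroup.centralizer (H : Set G)).relIndex A → p ∣ Nat.card H := by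
  intro p hp hdvd
  by_contra hnd
  have : Fact p.Prime := ⟨hp⟩
  obtain ⟨Q⟩ : Nonempty (Sylow p A) := inferInstance
  have hQle : (Q : Subgroup A) ≤ (A ⊓ Subgroup.centralizer (H : Set G)).subgroupOf A := by
    intro a haQ
    rw [Subgroup.mem_subgroupOf]
    refine ⟨a.2, ?_⟩
    obtain ⟨k, hk⟩ := (Q.isPGroup' ) ⟨a, haQ⟩
    have hk' : (a : G) ^ (p ^ k) = 1 := by
      have := congrArg (fun x : Q => ((x : A) : G)) hk
      simpa using this
    have hcop : (p ^ k).Coprime (Nat.card H) := by
      apply Nat.Coprime.pow_left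
      exact (Nat.Prime.coprime_iff_not_dvd hp).mpr hnd
    have := key H A n c hc0 hcn hanti htriv (a : G) a.2 (p ^ k) hk' hcop 0
    rw [hc0] at this
    show (a : G) ∈ Subgroup.centralizer (H : Set G)
    rw [Subgroup.mem_centralizer_iff]
    intro h hh
    exact this h hh
  have h1 : ((A ⊓ Subgroup.centralizer (H : Set G)).subgroupOf A).index ∣ (Q : Subgroup A).index :=
    Subgroup.index_dvd_of_le hQle
  have h2 : ¬ p ∣ (Q : Subgroup A).index := Q.not_dvd_index
  exact h2 (dvd_trans hdvd h1)

end Cfsg.Agent.S1441
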