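import Mathlib
import Cfsg.Statements.S1447
import Cfsg.Agent.Lib.Helper24.MetaCoprime
import Cfsg.Agent.Lib.Helper24.SZInternal
import Cfsg.Agent.Lib.Helper24.Averaging
import Cfsg.Agent.Lib.Helper49.UniqueOrderP

set_option autoImplicit false
open Cfsg

namespace Cfsg.Agent.S1447

open Subgroup
open scoped commutatorElement

/-- a noncyclic `p`-subgroup (`p` odd) contains two elements of order `p`, the second outside the
powers of the first -/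
theorem exists_two_of_not_cyclic {G : Type*} [Group G] [Finite G] {p : ℕ} [Fact p.Prime]
    (hp : p ≠ 2) (H : Subgroup G) (hH : IsPGroup p H) (hnc : ¬ IsCyclic H) :
    ∃ y ∈ H, ∃ z ∈ H, orderOf y = p ∧ orderOf z = p ∧ z ∉ zpowers y := by
  by_contra hcon
  push Not at hcon
  apply hnc
  have h1 : ∀ y z : H, orderOf y = p → orderOf z = p → z ∈ zpowers y := by
    intro y z hy hz
    have hy' : orderOf (y : G) = p := by rw [Subgroup.orderOf_coe]; exact hy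
    have hz' : orderOf (z : G) = p := by rw [Subgroup.orderOf_coe]; exact hz
    have h := hcon y y.2 z z.2 hy' hz'
    obtain ⟨k, hk⟩ := Subgroup.mem_zpowers_iff.mp h
    refine Subgroup.mem_zpowers_iff.mpr ⟨k, ?_⟩
    apply Subtype.ext
    rw [Subgroup.coe_zpow]
    exact hk
  have hHtop : IsPGroup p (⊤ : Subgroup H) := IsPGroup.to_subgroup hH ⊤
  have h2 := Cfsg.Agent.Helper49.isCyclic_of_unique_order_p hp h1 ⊤ hHtop
  exact isCyclic_of_surjective (Subgroup.topEquiv : (⊤ : Subgroup H) ≃* H).toMonoidHom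
    (Subgroup.topEquiv : (⊤ : Subgroup H) ≃* H).surjective

/-- in a metacyclic `p`-group (`p` odd), two subgroups meeting trivially, the second nontrivial:
the first is cyclic -/
theorem isCyclic_of_inf_eq_bot {G : Type*} [Group G] [Finite G] {p : ℕ} [Fact p.Prime]
    (hp : p ≠ 2) (R : Subgroup G) (hR : IsPGroup p R) (hRm : Cfsg.IsMetacyclic R)
    (H L : Subgroup G) (hHR : H ≤ R) (hLR : L ≤ R) (hHL : H ⊓ L = ⊥) (hL : L ≠ ⊥) :
    IsCyclic H := by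
  classical
  have hpp : p.Prime := Fact.out
  by_contra hnc
  obtain ⟨Ω, hΩ, hcardΩ⟩ := Cfsg.Agent.Helper24.Meta.exists_omega hp hR hRm
  obtain ⟨y, hy, z, hz, hoy, hoz, hzy⟩ := exists_two_of_not_cyclic hp H (hR.to_le hHR) hnc
  -- an element of order p in L
  have hLp : IsPGroup p L := hR.to_le hLR
  obtain ⟨x, hxL, hox⟩ : ∃ x ∈ L, orderOf x = p := by
    obtain ⟨n, hn⟩ := hLp.exists_card_eq
    have hn0 : n ≠ 0 := by
      rintro rfl
      rw [pow_zero] at hn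
      exact hL (Subgroup.eq_bot_of_card_eq L hn)
    have hdvd : p ∣ Nat.card L := by rw [hn]; exact dvd_pow_self p hn0
    obtain ⟨x, hx⟩ := exists_prime_orderOf_dvd_card' p hdvd
    exact ⟨(x : G), x.2, by rw [Subgroup.orderOf_coe]; exact hx⟩
  -- T = Ω ⊓ H (inside R)
  obtain ⟨T, hT⟩ : ∃ T : Subgroup R, T = Ω ⊓ H.subgroupOf R := ⟨_, rfl⟩
  have hTΩ : T ≤ Ω := by rw [hT]; exact inf_le_left
  have hyR : y ∈ R := hHR hy
  have hzR : z ∈ R := hHR hz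
  have hyp : (⟨y, hyR⟩ : R) ^ p = 1 := by
    apply Subtype.ext
    rw [Subgroup.coe_pow]
    change y ^ p = 1
    rw [← hoy]; exact pow_orderOf_eq_one y
  have hzp : (⟨z, hzR⟩ : R) ^ p = 1 := by
    apply Subtype.ext
    rw [Subgroup.coe_pow]
    change z ^ p = 1
    rw [← hoz]; exact pow_orderOf_eq_one z
  have hyT : (⟨y, hyR⟩ : R) ∈ T := by
    rw [hT]
    exact Subgroup.mem_inf.mpr ⟨(hΩ _).mpr hyp, Subgroup.mem_subgroupOf.mpr hy⟩
  have hzT : (⟨z, hzR⟩ : R) ∈ T := by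
    rw [hT]
    exact Subgroup.mem_inf.mpr ⟨(hΩ _).mpr hzp, Subgroup.mem_subgroupOf.mpr hz⟩
  have hYT : zpowers (⟨y, hyR⟩ : R) ≤ T := by
    rw [Subgroup.zpowers_le]; exact hyT
  have hcardY : Nat.card (zpowers (⟨y, hyR⟩ : R)) = p := by
    rw [Nat.card_zpowers, ← Subgroup.orderOf_coe]
    exact hoy
  have hTdvd : Nat.card T ∣ p ^ 2 := (Subgroup.card_dvd_of_le hTΩ).trans hcardΩ
  obtain ⟨m, hm2, hm⟩ := (Nat.dvd_prime_pow hpp).mp hTdvd
  have hpT : p ∣ Nat.card T := by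
    rw [← hcardY]; exact Subgroup.card_dvd_of_le hYT
  have hm2' : m = 2 := by
    interval_cases m
    · exfalso
      rw [hm, pow_zero] at hpT
      exact hpp.one_lt.ne' (Nat.dvd_one.mp hpT)
    · exfalso
      rw [pow_one] at hm
      have hYeq : zpowers (⟨y, hyR⟩ : R) = T :=
        Subgroup.eq_of_le_of_card_ge hYT (by rw [hm, hcardY])
      have hz' : (⟨z, hzR⟩ : R) ∈ zpowers (⟨y, hyR⟩ : R) := by rw [hYeq]; exact hzT
      obtain ⟨k, hk⟩ := Subgroup.mem_zpowers_iff.mp hz'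
      apply hzy
      refine Subgroup.mem_zpowers_iff.mpr ⟨k, ?_⟩
      have := congrArg Subtype.val hk
      rw [Subgroup.coe_zpow] at this
      exact this
    · rfl
  rw [hm2'] at hm
  have hTeq : T = Ω := by
    apply Subgroup.eq_of_le_of_card_ge hTΩ
    rw [hm]
    exact Nat.le_of_dvd (pow_pos hpp.pos 2) hcardΩ
  -- x ∈ Ω, so x ∈ H
  have hxR : x ∈ R := hLR hxL
  have hxp : (⟨x, hxR⟩ : R) ^ p = 1 := by
    apply Subtype.ext
    rw [Subgroup.coe_pow]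
    change x ^ p = 1
    rw [← hox]; exact pow_orderOf_eq_one x
  have hxΩ : (⟨x, hxR⟩ : R) ∈ Ω := (hΩ _).mpr hxp
  rw [← hTeq, hT] at hxΩ
  have hxH : x ∈ H := Subgroup.mem_subgroupOf.mp (Subgroup.mem_inf.mp hxΩ).2
  have hx1 : x ∈ H ⊓ L := Subgroup.mem_inf.mpr ⟨hxH, hxL⟩
  rw [hHL, Subgroup.mem_bot] at hx1
  rw [hx1, orderOf_one] at hox
  exact hpp.one_lt.ne hox

/-- Let G be a finite group, p an odd prime, R a metacyclic p-subgroup and A a subgroup of order coprime to p normalizing R. Then [R, A] is abelian; R is generated by [R, A] and R ∩ C_G(A), which meet trivially; and if R is non-abelian and A does not centralize R, then [R, A] and R ∩ C_G(A) are nontrivial cyclic groups and [R, R] ≤ [R, A]. -/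
theorem result {G : Type*} [Group G] [Finite G] (p : ℕ) [Fact p.Prime] (hp : p ≠ 2) (R A : Subgroup G) (hR : IsPGroup p R) (hRm : Cfsg.IsMetacyclic R)
    (hA : (A ≤ Subgroup.normalizer (R : Set G))) (hcop : (Nat.card A).Coprime p) :
    IsMulCommutative ↥⁅R, A⁆ ∧ ⁅R, A⁆ ⊔ (R ⊓ Subgroup.centralizer (A : Set G)) = R ∧ ⁅R, A⁆ ⊓ (R ⊓ Subgroup.centralizer (A : Set G)) = ⊥ ∧
      (¬ IsMulCommutative R → ¬ A ≤ Subgroup.centralizer (R : Set G) →
        ⁅R, A⁆ ≠ ⊥ ∧ IsCyclic ↥⁅R, A⁆ ∧ (R ⊓ Subgroup.centralizer (A : Set G)) ≠ ⊥ ∧ IsCyclic ↥(R ⊓ Subgroup.centralizer (A : Set G)) ∧ ⁅R, R⁆ ≤ ⁅R, A⁆) := by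
  classical
  have hpp : p.Prime := Fact.out
  have hcopR : (Nat.card A).Coprime (Nat.card R) := by
    obtain ⟨n, hn⟩ := hR.exists_card_eq
    rw [hn]; exact hcop.pow_right n
  have hsolv : Group.IsSolvable R := by
    have := hR.isNilpotent
    infer_instance
  have hKR : ⁅R, A⁆ ≤ R := Cfsg.Agent.Helper24.commutator_le_of_le_normalizer R A hA
  have hKp : IsPGroup p (⁅R, A⁆ : Subgroup G) := hR.to_le hKR
  have hKm : Cfsg.IsMetacyclic (⁅R, A⁆ : Subgroup G) :=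
    Cfsg.Agent.Helper64.isMetacyclic_of_injective (Subgroup.inclusion hKR)
      (Subgroup.inclusion_injective hKR) hRm
  have hAK : A ≤ normalizer ((⁅R, A⁆ : Subgroup G) : Set G) :=
    Subgroup.normalizer_commutator_ge_right R A
  have hRK : R ≤ normalizer ((⁅R, A⁆ : Subgroup G) : Set G) :=
    Subgroup.normalizer_commutator_ge_left R A
  have hKA : ⁅⁅R, A⁆, A⁆ = ⁅R, A⁆ :=
    Cfsg.Agent.Helper24.commutator_commutator_eq R A hA hcopR hsolv
  have hKK : ⁅⁅R, A⁆, ⁅R, A⁆⁆ = ⊥ :=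
    Cfsg.Agent.Helper24.Meta.commutator_eq_bot_of_commutator_eq hp ⁅R, A⁆ A hKp hKm hAK hcop hKA
  have hKcomm : ∀ a ∈ ⁅R, A⁆, ∀ b ∈ ⁅R, A⁆, a * b = b * a := by
    intro a ha b hb
    have h1 : ⁅a, b⁆ ∈ ⁅⁅R, A⁆, ⁅R, A⁆⁆ := Subgroup.commutator_mem_commutator ha hb
    rw [hKK, Subgroup.mem_bot, commutatorElement_eq_one_iff_mul_comm] at h1
    exact h1
  have h2 : ⁅R, A⁆ ⊔ (R ⊓ Subgroup.centralizer (A : Set G)) = R :=
    (Cfsg.Agent.Helper24.eq_commutator_sup_centralizer R A hA hcopR hsolv).symm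
  have hcopK : (Nat.card (⁅R, A⁆ : Subgroup G)).Coprime (Nat.card A) :=
    Nat.Coprime.coprime_dvd_left (Subgroup.card_dvd_of_le hKR) hcopR.symm
  have h3 : ⁅R, A⁆ ⊓ (R ⊓ Subgroup.centralizer (A : Set G)) = ⊥ := by
    rw [eq_bot_iff]
    intro x hx
    have hx1 : x ∈ ⁅R, A⁆ := (Subgroup.mem_inf.mp hx).1
    have hx2 : x ∈ Subgroup.centralizer (A : Set G) :=
      (Subgroup.mem_inf.mp (Subgroup.mem_inf.mp hx).2).2
    have hx3 : x ∈ ⁅⁅R, A⁆, A⁆ := by rw [hKA]; exact hx1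
    have := Cfsg.Agent.Helper24.inf_centralizer_inf_commutator_le ⁅R, A⁆ A hAK hcopK
      (Subgroup.mem_inf.mpr ⟨Subgroup.mem_inf.mpr ⟨hx1, hx2⟩, hx3⟩)
    rw [hKK] at this
    exact this
  refine ⟨⟨⟨fun a b => Subtype.ext (hKcomm a a.2 b b.2)⟩⟩, h2, h3, ?_⟩
  intro hna hnc
  have hKne : ⁅R, A⁆ ≠ ⊥ := by
    intro h
    apply hnc
    rw [Subgroup.commutator_eq_bot_iff_le_centralizer] at h
    intro a ha
    rw [Subgroup.mem_centralizer_iff]
    intro r hr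
    have := (Subgroup.mem_centralizer_iff.mp (h hr)) a ha
    exact this.symm
  have hCne : R ⊓ Subgroup.centralizer (A : Set G) ≠ ⊥ := by
    intro h
    apply hna
    rw [h, sup_bot_eq] at h2
    have hRle : R ≤ ⁅R, A⁆ := h2.ge
    exact ⟨⟨fun a b => Subtype.ext (hKcomm a (hRle a.2) b (hRle b.2))⟩⟩
  have hKcyc : IsCyclic ↥⁅R, A⁆ :=
    isCyclic_of_inf_eq_bot hp R hR hRm ⁅R, A⁆ (R ⊓ Subgroup.centralizer (A : Set G)) hKR
      inf_le_left h3 hCne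
  have hCcyc : IsCyclic ↥(R ⊓ Subgroup.centralizer (A : Set G)) :=
    isCyclic_of_inf_eq_bot hp R hR hRm (R ⊓ Subgroup.centralizer (A : Set G)) ⁅R, A⁆
      inf_le_left hKR (by rw [inf_comm]; exact h3) hKne
  refine ⟨hKne, hKcyc, hCne, hCcyc, ?_⟩
  -- [R,R] ≤ [R,A]
  have hCcomm : ∀ a ∈ R ⊓ Subgroup.centralizer (A : Set G),
      ∀ b ∈ R ⊓ Subgroup.centralizer (A : Set G), a * b = b * a := by
    intro a ha b hb
    obtain ⟨g, hg⟩ := hCcyc.exists_generator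
    obtain ⟨i, hi⟩ := Subgroup.mem_zpowers_iff.mp (hg ⟨a, ha⟩)
    obtain ⟨j, hj⟩ := Subgroup.mem_zpowers_iff.mp (hg ⟨b, hb⟩)
    have hi' : (g : G) ^ i = a := by
      have := congrArg Subtype.val hi
      rw [Subgroup.coe_zpow] at this
      exact this
    have hj' : (g : G) ^ j = b := by
      have := congrArg Subtype.val hj
      rw [Subgroup.coe_zpow] at this
      exact this
    rw [← hi', ← hj', ← zpow_add, ← zpow_add, add_comm]
  have hconj : ∀ r ∈ R, ∀ k ∈ ⁅R, A⁆, r * k * r⁻¹ ∈ ⁅R, A⁆ := by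
    intro r hr k hk
    exact (Subgroup.mem_normalizer_iff.mp (hRK hr) k).mp hk
  rw [Subgroup.commutator_le]
  intro r₁ hr₁ r₂ hr₂
  obtain ⟨k₁, hk₁, c₁, hc₁, rfl⟩ :=
    Cfsg.Agent.Helper24.exists_commutator_mul_centralizer R A hA hcopR hsolv r₁ hr₁
  obtain ⟨k₂, hk₂, c₂, hc₂, rfl⟩ :=
    Cfsg.Agent.Helper24.exists_commutator_mul_centralizer R A hA hcopR hsolv r₂ hr₂
  have hcc : c₁ * c₂ = c₂ * c₁ := hCcomm c₁ hc₁ c₂ hc₂
  have hcc' : c₁ * c₂ * c₁⁻¹ = c₂ := by rw [hcc]; group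
  have hexp : ⁅k₁ * c₁, k₂ * c₂⁆ = k₁ * (c₁ * k₂ * c₁⁻¹) * (c₂ * k₁⁻¹ * c₂⁻¹) * k₂⁻¹ := by
    rw [commutatorElement_def]
    calc k₁ * c₁ * (k₂ * c₂) * (k₁ * c₁)⁻¹ * (k₂ * c₂)⁻¹
        = k₁ * (c₁ * k₂ * c₁⁻¹) * ((c₁ * c₂ * c₁⁻¹) * k₁⁻¹ * c₂⁻¹) * k₂⁻¹ := by group
      _ = k₁ * (c₁ * k₂ * c₁⁻¹) * (c₂ * k₁⁻¹ * c₂⁻¹) * k₂⁻¹ := by rw [hcc']
  rw [hexp]
  have hc₁R : c₁ ∈ R := (Subgroup.mem_inf.mp hc₁).1
  have hc₂R : c₂ ∈ R := (Subgroup.mem_inf.mp hc₂).1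
  exact Subgroup.mul_mem _ (Subgroup.mul_mem _ (Subgroup.mul_mem _ hk₁ (hconj c₁ hc₁R k₂ hk₂))
    (hconj c₂ hc₂R k₁⁻¹ (Subgroup.inv_mem _ hk₁))) (Subgroup.inv_mem _ hk₂)

end Cfsg.Agent.S1447
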