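import Mathlib
import Cfsg.Statements.S1454
import Cfsg.Agent.S0640
import Cfsg.Agent.Lib.Helper24.NarrowSolv
import Cfsg.Agent.Lib.Helper24.RankTwoAut
import Cfsg.Agent.Lib.Helper24.RankTwoCube
import Cfsg.Agent.Lib.Helper24.MetaCoprime
import Cfsg.Agent.Lib.Helper55.Cores

set_option autoImplicit false
open Cfsg

namespace Cfsg.Agent.S1454

open scoped commutatorElement

/-- if the derived subgroup is a `p`-group, it lies in `O_p` and `O_p` is a Sylow `p`-subgroup -/
theorem pCore_of_isPGroup_commutator {H : Type*} [Group H] [Finite H] {p : ℕ} [Fact p.Prime]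
    (hcommP : IsPGroup p (commutator H)) :
    commutator H ≤ pCore p H ∧ ((pCore p H).index).Coprime p := by
  have hp : p.Prime := Fact.out
  have h1 : commutator H ≤ pCore p H := Cfsg.Agent.Helper55.le_pCore inferInstance hcommP
  refine ⟨h1, ?_⟩
  obtain ⟨S⟩ : Nonempty (Sylow p H) := inferInstance
  have hQS : pCore p H ≤ S := Cfsg.Agent.Helper55.pCore_le_sylow S
  have hSn : (S : Subgroup H).Normal := by
    constructor
    intro s hs g
    have : g * s * g⁻¹ = ⁅g, s⁆ * s := by rw [commutatorElement_def]; group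
    rw [this]
    refine Subgroup.mul_mem _ (hQS (h1 ?_)) hs
    rw [commutator_def]
    exact Subgroup.commutator_mem_commutator (Subgroup.mem_top g) (Subgroup.mem_top s)
  have hSQ : (S : Subgroup H) ≤ pCore p H := Cfsg.Agent.Helper55.le_pCore hSn S.isPGroup'
  have heq : pCore p H = S := le_antisymm hQS hSQ
  rw [heq]
  exact ((Nat.Prime.coprime_iff_not_dvd hp).mpr S.not_dvd_index).symm

/-- Let G be a finite group, p an odd prime, R a narrow p-subgroup and A a solvable subgroup of odd order normalizing R with A ∩ C_G(R) = 1. Then [A, A] ≤ O_p(A) and the index of O_p(A) in A is coprime to p; if R has an elementary abelian subgroup of order p ^ 3 then the order of every element of A of order coprime to p divides p − 1; and if the order of A is a prime not dividing p(p − 1), then 2·#A divides p + 1, and if in addition [R, A] = R and R is non-abelian then #R = p ^ 3. -/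
theorem result {G : Type*} [Group G] [Finite G] (p : ℕ) [Fact p.Prime] (hp : p ≠ 2) (R A : Subgroup G) (hR : IsPGroup p R) (hRn : Cfsg.IsNarrow p R)
    (hA : (A ≤ Subgroup.normalizer (R : Set G))) (hAs : Group.IsSolvable A) (hAodd : Odd (Nat.card A)) (hfaith : A ⊓ Subgroup.centralizer (R : Set G) = ⊥) :
    (commutator ↥A ≤ Cfsg.pCore p ↥A ∧ ((Cfsg.pCore p ↥A).index).Coprime p) ∧
      (¬ Cfsg.PRankLE p 2 R → ∀ a ∈ A, (orderOf a).Coprime p → orderOf a ∣ p - 1) ∧
      ((Nat.card A).Prime → ¬ Nat.card A ∣ p * (p - 1) →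
        2 * Nat.card A ∣ p + 1 ∧ (⁅R, A⁆ = R → ¬ IsMulCommutative R → Nat.card R = p ^ 3)) := by
  classical
  have hpp : p.Prime := Fact.out
  let φ : A →* MulAut ↥R := (Subgroup.normalizerMonoidHom R).comp (Subgroup.inclusion hA)
  have hφ : ∀ (a : A) (r : R), ((φ a r : R) : G) = (a : G) * r * (a : G)⁻¹ := fun _ _ => rfl
  have hφinj : Function.Injective φ := by
    rw [injective_iff_map_eq_one]
    intro a ha
    have hmem : (a : G) ∈ A ⊓ Subgroup.centralizer (R : Set G) := by
      rw [Subgroup.mem_inf]
      refine ⟨a.2, ?_⟩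
      rw [Subgroup.mem_centralizer_iff]
      intro r hr
      have h1 : ((φ a ⟨r, hr⟩ : R) : G) = r := by rw [ha]; rfl
      rw [hφ] at h1
      calc r * (a : G) = ((a : G) * r * (a : G)⁻¹) * (a : G) := by rw [h1]
        _ = (a : G) * r := by group
    rw [hfaith, Subgroup.mem_bot] at hmem
    exact Subtype.ext hmem
  -- part 2 as a statement on elements of A
  have hpart2 : ¬ PRankLE p 2 R → ∀ a ∈ A, (orderOf a).Coprime p → orderOf a ∣ p - 1 := by
    intro hr a ha hcop
    obtain ⟨E, hE, hE2, hEmax⟩ :=
      Cfsg.Agent.Helper24.NarrowSolv.exists_max_elemAb_sq_of_isNarrow hR hRn hr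
    have h1 := Cfsg.Agent.Helper24.NarrowAut.pow_eq_one_of_coprime hp hR hr E hE hE2 hEmax
      φ hφinj ⟨a, ha⟩ (by rwa [Subgroup.orderOf_mk])
    have h2 := congrArg Subtype.val h1
    rw [Subgroup.coe_pow, Subgroup.coe_one] at h2
    exact orderOf_dvd_of_pow_eq_one h2
  refine ⟨?_, hpart2, ?_⟩
  · apply pCore_of_isPGroup_commutator
    by_cases hr : PRankLE p 2 R
    · exact Cfsg.Agent.Helper24.RankTwoAut.isPGroup_commutator_of_rank_two hp hR hr φ hφinj
        hAodd hAs
    · obtain ⟨E, hE, hE2, hEmax⟩ :=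
        Cfsg.Agent.Helper24.NarrowSolv.exists_max_elemAb_sq_of_isNarrow hR hRn hr
      exact Cfsg.Agent.Helper24.NarrowAut.isPGroup_commutator hp hR hr E hE hE2 hEmax φ hφinj
  · intro hq hnd
    have hqF : Fact (Nat.card A).Prime := ⟨hq⟩
    have hqp : Nat.card A ≠ p := by
      intro h
      apply hnd
      rw [h]
      exact Dvd.intro _ rfl
    have hq1 : ¬ Nat.card A ∣ p - 1 := fun h => hnd (Dvd.dvd.mul_left h p)
    have hcopA : (Nat.card A).Coprime p := (Nat.coprime_primes hq hpp).mpr hqp
    -- R has rank at most 2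
    have hrk : PRankLE p 2 R := by
      by_contra hr
      obtain ⟨a, ha⟩ := exists_prime_orderOf_dvd_card' (G := A) (Nat.card A) dvd_rfl
      have h1 := hpart2 hr a.1 a.2 (by rw [Subgroup.orderOf_coe, ha]; exact hcopA)
      rw [Subgroup.orderOf_coe, ha] at h1
      exact hq1 h1
    have hdvd : Nat.card A ∣ Nat.card (MulAut ↥R) := by
      have h1 : Nat.card φ.range = Nat.card A :=
        (Nat.card_congr (MonoidHom.ofInjective hφinj).toEquiv).symm
      rw [← h1]
      exact Subgroup.card_subgroup_dvd_card _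
    obtain ⟨hd1, hd2⟩ := Cfsg.Agent.S0640.result hp hR hrk (Nat.card A) hq hqp hdvd
    have hq3 : 3 ≤ Nat.card A := by
      have h2 := hq.two_le
      have : Nat.card A ≠ 2 := by
        intro h
        rw [h] at hAodd
        exact absurd hAodd (by decide)
      omega
    constructor
    · have h1 : p ^ 2 - 1 = (p + 1) * (p - 1) := by
        have := Nat.sq_sub_sq p 1
        rwa [one_pow] at this
      rw [h1] at hd1
      have h2 : Nat.card A ∣ p + 1 := by
        rcases (Nat.Prime.dvd_mul hq).mp hd1 with h | h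
        · exact h
        · exact absurd h hq1
      have h3 : 2 ∣ p + 1 := by
        rcases hpp.eq_two_or_odd with h | h
        · exact absurd h hp
        · omega
      have h4 : Nat.Coprime 2 (Nat.card A) := by
        rw [Nat.coprime_two_left]
        exact hAodd
      exact Nat.Coprime.mul_dvd_of_dvd_of_dvd h4 h3 h2
    · intro hRA hnc
      have hp3 : 3 < p := by omega
      apply Cfsg.Agent.Helper24.RankTwoCube.card_eq_cube hp3 hR hrk
        (Γ := Set.range φ)
      · intro hcomm
        exact hnc ⟨⟨hcomm⟩⟩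
      · intro hm
        have h1 := Cfsg.Agent.Helper24.Meta.commutator_eq_bot_of_commutator_eq hp R A hR hm hA
          hcopA hRA
        apply hnc
        refine ⟨⟨fun a b => Subtype.ext ?_⟩⟩
        have h2 : ⁅(a : G), (b : G)⁆ ∈ ⁅R, R⁆ := Subgroup.commutator_mem_commutator a.2 b.2
        rw [h1, Subgroup.mem_bot, commutatorElement_eq_one_iff_mul_comm] at h2
        exact h2
      · rintro _ ⟨a, rfl⟩
        have h1 : orderOf (φ a) ∣ Nat.card A :=
          (orderOf_map_dvd φ a).trans (orderOf_dvd_natCard a)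
        have h2 : (Nat.card A).Coprime (p * (p - 1)) :=
          (Nat.Prime.coprime_iff_not_dvd hq).mpr hnd
        exact Nat.Coprime.coprime_dvd_left h1 h2
      · intro K hKn hK
        rw [eq_top_iff]
        intro x _
        have hle : ⁅R, A⁆ ≤ K.map R.subtype := by
          rw [Subgroup.commutator_le]
          intro r hr a ha
          have h1 := hK (φ ⟨a, ha⟩) ⟨⟨a, ha⟩, rfl⟩ ⟨r, hr⟩
          have h2 := K.inv_mem h1
          refine ⟨_, h2, ?_⟩
          show ((((φ ⟨a, ha⟩ ⟨r, hr⟩ * (⟨r, hr⟩ : R)⁻¹)⁻¹ : R) : G)) = ⁅r, a⁆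
          rw [Subgroup.coe_inv, Subgroup.coe_mul, Subgroup.coe_inv, hφ, commutatorElement_def]
          group
        have hx : (x : G) ∈ K.map R.subtype := by
          apply hle
          rw [hRA]
          exact x.2
        obtain ⟨k, hk, hkx⟩ := hx
        have : k = x := Subtype.ext hkx
        rw [← this]
        exact hk

end Cfsg.Agent.S1454
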