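import Cfsg.Statements.S1458
import Cfsg.Agent.Lib.Helper2.ZJe7
import Cfsg.Agent.Lib.Helper54.OddPStable

set_option autoImplicit false
open Cfsg

namespace Cfsg.Agent.S1458

/-- Let G be a solvable group of odd order, p a prime and S a Sylow p-subgroup of G. Then the subgroup generated by the centre of the Thompson subgroup of S and O_{p'}(G) is normal in G. -/
theorem result {G : Type*} [Group G] [Finite G] [Group.IsSolvable G] (hodd : Odd (Nat.card G)) (p : ℕ) [Fact p.Prime] (S : Sylow p G) :
    (Cfsg.centerThompsonOf p (S : Subgroup G) ⊔ Cfsg.pPrimeCore p G).Normal := by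
  haveI hKn : (pPrimeCore p G).Normal := Cfsg.Agent.Helper54.pPrimeCore_normal' p
  by_cases hp : p = 2
  · -- `S` is trivial
    have hS : (S : Subgroup G) = ⊥ := by
      obtain ⟨k, hk⟩ := IsPGroup.iff_card.mp S.isPGroup'
      have hdvd : Nat.card (S : Subgroup G) ∣ Nat.card G := Subgroup.card_subgroup_dvd_card _
      have hk0 : k = 0 := by
        by_contra hne
        have h2 : 2 ∣ Nat.card G := by
          refine dvd_trans ?_ hdvd
          rw [hk, hp]
          exact dvd_pow_self 2 hne
        exact (Nat.not_even_iff_odd.mpr hodd) (even_iff_two_dvd.mpr h2)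
      rw [hk0, pow_zero] at hk
      exact Subgroup.card_eq_one.mp hk
    have hZ : centerThompsonOf p (S : Subgroup G) = ⊥ := by
      rw [eq_bot_iff, ← hS]
      exact Cfsg.Agent.Helper2.ZJe.centerThompsonOf_le _
    rw [hZ, bot_sup_eq]
    exact hKn
  · have hodd' : Odd (Nat.card (G ⧸ pPrimeCore p G)) := by
      have h1 : Nat.card G = Nat.card (G ⧸ pPrimeCore p G) * Nat.card (pPrimeCore p G) :=
        Subgroup.card_eq_card_quotient_mul_card_subgroup _
      rw [h1] at hodd
      exact (Nat.odd_mul.mp hodd).1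
    have hbot : pPrimeCore p (G ⧸ pPrimeCore p G) = ⊥ :=
      Cfsg.Agent.Helper54.pPrimeCore_quotient_eq_bot p
    have hc := Cfsg.Agent.Helper54.centralizer_pCore_le (G := G ⧸ pPrimeCore p G) p hbot
    exact Cfsg.Agent.Helper2.ZJe.centerThompsonOf_sup_pPrimeCore_normal hp S hc
      (fun V _ hV => Cfsg.Agent.Helper54.isPStableOn_of_odd_solvable hodd' hp V hV)

end Cfsg.Agent.S1458
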