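import Cfsg.Statements.S1460
import Mathlib
import Cfsg.Agent.Lib.Helper24.SZInternal

set_option autoImplicit false
open Cfsg

namespace Cfsg.Agent.S1460

open Cfsg.Agent.Helper24 Subgroup

/-- part 3 -/
theorem part3 {G : Type*} [Group G] [Finite G] [Group.IsSolvable G] (K U H : Subgroup G) [K.Normal]
    (hKU : K ⊔ U = ⊤) (hH : H ≤ U) (hcop : (Nat.card H).Coprime (Nat.card K)) :
    ∀ g : G, H.map (MulAut.conj g).toMonoidHom ≤ U →
      ∃ u ∈ U, ∃ c ∈ K ⊓ Subgroup.centralizer (H : Set G), g = u * c := by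
  intro g hg
  have hginv : g⁻¹ ∈ K ⊔ U := by rw [hKU]; trivial
  obtain ⟨k', hk', u', hu', hku⟩ := mem_sup_of_normal_left.mp hginv
  set u := u'⁻¹ with hu
  set k := k'⁻¹ with hk
  have hgeq : g = u * k := by
    have : g = (g⁻¹)⁻¹ := by simp
    rw [this, ← hku, hu, hk]; group
  have huU : u ∈ U := U.inv_mem hu'
  have hkK : k ∈ K := K.inv_mem hk'
  -- k H k⁻¹ ≤ U
  have hkH : ∀ a ∈ H, k * a * k⁻¹ ∈ U := by
    intro a ha
    have h1 : g * a * g⁻¹ ∈ U := hg ⟨a, ha, by simp⟩
    have h2 : k * a * k⁻¹ = u⁻¹ * (g * a * g⁻¹) * u := by rw [hgeq]; group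
    rw [h2]
    exact U.mul_mem (U.mul_mem (U.inv_mem huU) h1) huU
  have hKn : H ≤ normalizer (K : Set G) := by
    rw [normalizer_eq_top]; exact le_top
  have hUn : H ≤ normalizer (U : Set G) := hH.trans le_normalizer
  have hKUn : H ≤ normalizer ((K ⊓ U : Subgroup G) : Set G) := by
    intro a ha
    rw [mem_normalizer_iff]
    intro x
    have h1 := mem_normalizer_iff.mp (hKn ha) x
    have h2 := mem_normalizer_iff.mp (hUn ha) x
    simp only [mem_inf]
    rw [h1, h2]
  have hsolv : Group.IsSolvable (K ⊓ U : Subgroup G) := inferInstance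
  obtain ⟨n, hn, c, hc, hkeq⟩ := exists_mul_centralizer_of_comm_mem K (K ⊓ U) H inf_le_left hKn hKUn hcop
    hsolv k hkK (by
      intro a ha
      refine ⟨?_, ?_⟩
      · have h3 : a * k⁻¹ * a⁻¹ ∈ K := (inferInstance : K.Normal).conj_mem _ (K.inv_mem hkK) a
        have h4 : k * a * k⁻¹ * a⁻¹ = k * (a * k⁻¹ * a⁻¹) := by group
        rw [h4]; exact K.mul_mem hkK h3
      · exact U.mul_mem (hkH a ha) (U.inv_mem (hH ha)))
  refine ⟨u * n, U.mul_mem huU hn.2, c, hc, ?_⟩
  rw [hgeq, hkeq]; group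

/-- Let G be a finite solvable group, K a normal subgroup and U a subgroup with G = KU, and H ≤ U a subgroup whose order is coprime to that of K. Then H ∩ G' = H ∩ U'; N_G(H) is generated by K ∩ C_G(H) and U ∩ N_G(H); and if gHg⁻¹ ≤ U for some g ∈ G then g = u c with u ∈ U and c ∈ K ∩ C_G(H). -/
theorem result {G : Type*} [Group G] [Finite G] [Group.IsSolvable G] (K U H : Subgroup G) [K.Normal] (hKU : K ⊔ U = ⊤) (hH : H ≤ U) (hcop : (Nat.card H).Coprime (Nat.card K)) :
    H ⊓ commutator G = H ⊓ ⁅U, U⁆ ∧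
      Subgroup.normalizer (H : Set G) = (K ⊓ Subgroup.centralizer (H : Set G)) ⊔ (U ⊓ Subgroup.normalizer (H : Set G)) ∧
      ∀ g : G, H.map (MulAut.conj g).toMonoidHom ≤ U → ∃ u ∈ U, ∃ c ∈ K ⊓ Subgroup.centralizer (H : Set G), g = u * c := by
  have h3 := part3 K U H hKU hH hcop
  refine ⟨?_, ?_, h3⟩
  · -- part 1
    apply le_antisymm
    · -- G' ≤ U' ⊔ K
      set π := QuotientGroup.mk' K with hπ
      have hπs : Function.Surjective π := QuotientGroup.mk'_surjective K
      have hmapU : (⊤ : Subgroup G).map π = U.map π := by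
        rw [← hKU, Subgroup.map_sup, QuotientGroup.map_mk'_self, bot_sup_eq]
      have hcomm : (commutator G).map π = (⁅U, U⁆).map π := by
        rw [commutator_def, Subgroup.map_commutator, Subgroup.map_commutator, hmapU]
      have hle : commutator G ≤ ⁅U, U⁆ ⊔ K := by
        have h1 : commutator G ≤ ((commutator G).map π).comap π := Subgroup.le_comap_map π _
        rw [hcomm, Subgroup.comap_map_eq, QuotientGroup.ker_mk'] at h1
        exact h1
      intro h hh
      refine ⟨hh.1, ?_⟩
      have hhU : h ∈ U := hH hh.1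
      obtain ⟨u', hu', k, hk, huk⟩ := mem_sup_of_normal_right.mp (hle hh.2)
      have hu'U : u' ∈ U := Subgroup.commutator_le_self U hu'
      have hkU : k ∈ U := by
        have : k = u'⁻¹ * h := by rw [← huk]; group
        rw [this]; exact U.mul_mem (U.inv_mem hu'U) hhU
      -- work in U / U'
      set ρ := QuotientGroup.mk' (commutator U) with hρ
      have hu'c : (⟨u', hu'U⟩ : U) ∈ commutator U := by
        rw [← Subgroup.map_subtype_commutator] at hu'
        obtain ⟨x, hx, hxe⟩ := hu'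
        have : x = ⟨u', hu'U⟩ := Subtype.ext hxe
        rwa [this] at hx
      have hρeq : ρ ⟨h, hhU⟩ = ρ ⟨k, hkU⟩ := by
        have : (⟨h, hhU⟩ : U) = ⟨u', hu'U⟩ * ⟨k, hkU⟩ := Subtype.ext huk.symm
        rw [this, map_mul]
        have : ρ ⟨u', hu'U⟩ = 1 := (QuotientGroup.eq_one_iff _).mpr hu'c
        rw [this, one_mul]
      have h1 : (ρ ⟨h, hhU⟩) ^ (Nat.card H) = 1 := by
        rw [← map_pow]
        have : (⟨h, hhU⟩ : U) ^ (Nat.card H) = 1 := by
          apply Subtype.ext
          simpa using pow_card_subgroup_eq_one H h hh.1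
        rw [this, map_one]
      have h2 : (ρ ⟨h, hhU⟩) ^ (Nat.card K) = 1 := by
        rw [hρeq, ← map_pow]
        have : (⟨k, hkU⟩ : U) ^ (Nat.card K) = 1 := by
          apply Subtype.ext
          simpa using pow_card_subgroup_eq_one K k hk
        rw [this, map_one]
      have h4 : ρ ⟨h, hhU⟩ = 1 := by
        have ho1 : orderOf (ρ ⟨h, hhU⟩) ∣ Nat.card H := orderOf_dvd_of_pow_eq_one h1
        have ho2 : orderOf (ρ ⟨h, hhU⟩) ∣ Nat.card K := orderOf_dvd_of_pow_eq_one h2
        have : orderOf (ρ ⟨h, hhU⟩) ∣ 1 := by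
          have := Nat.dvd_gcd ho1 ho2
          rwa [hcop] at this
        exact orderOf_eq_one_iff.mp (Nat.dvd_one.mp this)
      have h5 : (⟨h, hhU⟩ : U) ∈ commutator U := (QuotientGroup.eq_one_iff _).mp h4
      rw [← Subgroup.map_subtype_commutator]
      exact ⟨⟨h, hhU⟩, h5, rfl⟩
    · apply inf_le_inf_left
      rw [commutator_def]
      exact Subgroup.commutator_mono le_top le_top
  · -- part 2
    apply le_antisymm
    · intro g hg
      have hgH : H.map (MulAut.conj g).toMonoidHom ≤ U := by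
        rintro x ⟨a, ha, rfl⟩
        apply hH
        exact (mem_normalizer_iff.mp hg a).mp ha
      obtain ⟨u, hu, c, hc, rfl⟩ := h3 g hgH
      have hcN : c ∈ normalizer (H : Set G) := centralizer_le_normalizer _ hc.2
      have huN : u ∈ normalizer (H : Set G) := by
        have : u = (u * c) * c⁻¹ := by group
        rw [this]
        exact Subgroup.mul_mem _ hg (Subgroup.inv_mem _ hcN)
      exact Subgroup.mul_mem _ (mem_sup_right ⟨hu, huN⟩) (mem_sup_left hc)
    · apply sup_le
      · exact inf_le_right.trans (centralizer_le_normalizer _)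
      · exact inf_le_right

end Cfsg.Agent.S1460
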