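import Cfsg.Statements.S1461
import Mathlib
import Cfsg.Agent.Lib.Helper24.PLength
import Cfsg.Agent.S1460

set_option autoImplicit false
open Cfsg

namespace Cfsg.Agent.S1461

open Cfsg.Agent.Helper24 Subgroup

/-- Let G be a finite solvable group, p a prime with G = O_{p',p,p'}(G), and S a Sylow p-subgroup. Then: if S ≤ G' then S ≤ [N_G(S), N_G(S)]; if Y ⊆ S and xYx⁻¹ ⊆ S then x = g c for some g ∈ N_G(S) and c centralizing Y; and for every p-subgroup Q there is x ∈ C_G(Q ∩ S) with xQx⁻¹ ≤ S. -/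
theorem result {G : Type*} [Group G] [Finite G] [Group.IsSolvable G] (p : ℕ) [Fact p.Prime] (hpl : Cfsg.PLengthLE p 1 G) (S : Sylow p G) :
    ((S : Subgroup G) ≤ commutator G → (S : Subgroup G) ≤ ⁅Subgroup.normalizer ((S : Subgroup G) : Set G), Subgroup.normalizer ((S : Subgroup G) : Set G)⁆) ∧
      (∀ (Y : Set G) (x : G), Y ⊆ (S : Subgroup G) → (fun y => x * y * x⁻¹) '' Y ⊆ (S : Subgroup G) →
        ∃ g ∈ Subgroup.normalizer ((S : Subgroup G) : Set G), ∃ c ∈ Subgroup.centralizer Y, g * c = x) ∧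
      ∀ Q : Subgroup G, IsPGroup p Q → ∃ x ∈ Subgroup.centralizer ((Q ⊓ (S : Subgroup G) : Subgroup G) : Set G), Q.map (MulAut.conj x).toMonoidHom ≤ (S : Subgroup G) := by
  obtain ⟨hcopK, hKSn, hfrat, hpsub, hdisj⟩ := plength_one_structure p hpl S
  set K := pPrimeCore p G with hK
  set N := Subgroup.normalizer ((S : Subgroup G) : Set G) with hN
  have hKn : K.Normal := inferInstance
  -- key: k ∈ K, y ∈ S, k y k⁻¹ ∈ S ⇒ k y = y k
  have hkey : ∀ k ∈ K, ∀ y ∈ (S : Subgroup G), k * y * k⁻¹ ∈ (S : Subgroup G) → y * k = k * y := by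
    intro k hk y hy hkyk
    have h1 : k * y * k⁻¹ * y⁻¹ ∈ (S : Subgroup G) :=
      Subgroup.mul_mem _ hkyk (Subgroup.inv_mem _ hy)
    have h2 : k * y * k⁻¹ * y⁻¹ ∈ K := by
      have h3 : y * k⁻¹ * y⁻¹ ∈ K := hKn.conj_mem _ (K.inv_mem hk) y
      have h4 : k * y * k⁻¹ * y⁻¹ = k * (y * k⁻¹ * y⁻¹) := by group
      rw [h4]; exact K.mul_mem hk h3
    have h5 : k * y * k⁻¹ * y⁻¹ = 1 := Subgroup.disjoint_def.mp hdisj h2 h1
    calc y * k = (k * y * k⁻¹ * y⁻¹)⁻¹ * (k * y) := by group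
      _ = k * y := by rw [h5]; group
  refine ⟨?_, ?_, ?_⟩
  · intro hS
    have hcop : (Nat.card (S : Subgroup G)).Coprime (Nat.card K) := by
      obtain ⟨n, hn⟩ := IsPGroup.iff_card.mp S.isPGroup'
      rw [hn]
      exact (Nat.Coprime.pow_right n hcopK).symm
    have hKN : K ⊔ N = ⊤ := by rw [sup_comm]; exact hfrat
    have h1 := (Cfsg.Agent.S1460.result K N (S : Subgroup G) hKN le_normalizer hcop).1
    have h2 : (S : Subgroup G) ≤ (S : Subgroup G) ⊓ commutator G := le_inf le_rfl hS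
    rw [h1] at h2
    exact h2.trans inf_le_right
  · intro Y x hY hxY
    have hx : x ∈ N ⊔ K := by rw [hfrat]; trivial
    obtain ⟨n, hn, k, hk, hnk⟩ := mem_sup_of_normal_right.mp hx
    refine ⟨n, hn, k, ?_, hnk⟩
    rw [mem_centralizer_iff]
    intro y hy
    apply hkey k hk y (hY hy)
    have h1 : x * y * x⁻¹ ∈ (S : Subgroup G) := hxY ⟨y, hy, rfl⟩
    have h2 : k * y * k⁻¹ = n⁻¹ * (x * y * x⁻¹) * n⁻¹⁻¹ := by rw [← hnk]; group
    rw [h2]
    exact (mem_normalizer_iff.mp (Subgroup.inv_mem _ hn) _).mp h1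
  · intro Q hQ
    obtain ⟨g, hg⟩ := hQ.exists_le_sylow
    obtain ⟨g0, hg0⟩ := MulAction.exists_smul_eq G g S
    -- g0 • g = S so g0 Q g0⁻¹ ≤ S
    have hgQ : Q.map (MulAut.conj g0).toMonoidHom ≤ (S : Subgroup G) := by
      rw [← hg0]
      rintro x ⟨q, hq, rfl⟩
      rw [Sylow.coe_subgroup_smul, Subgroup.mem_pointwise_smul_iff_inv_smul_mem]
      apply hg
      simpa [MulAut.smul_def, mul_assoc] using hq
    have hx : g0 ∈ N ⊔ K := by rw [hfrat]; trivial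
    obtain ⟨n, hn, k, hk, hnk⟩ := mem_sup_of_normal_right.mp hx
    have hkQ : ∀ q ∈ Q, k * q * k⁻¹ ∈ (S : Subgroup G) := by
      intro q hq
      have h1 : g0 * q * g0⁻¹ ∈ (S : Subgroup G) := hgQ ⟨q, hq, by simp⟩
      have h2 : k * q * k⁻¹ = n⁻¹ * (g0 * q * g0⁻¹) * n⁻¹⁻¹ := by rw [← hnk]; group
      rw [h2]
      exact (mem_normalizer_iff.mp (Subgroup.inv_mem _ hn) _).mp h1
    refine ⟨k, ?_, ?_⟩
    · rw [mem_centralizer_iff]
      intro y hy
      exact hkey k hk y hy.2 (hkQ y hy.1)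
    · rintro x ⟨q, hq, rfl⟩
      simpa using hkQ q hq

end Cfsg.Agent.S1461
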