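import Cfsg.Statements.S1462
import Mathlib
import Cfsg.Agent.Lib.Helper24.PLength
import Cfsg.Agent.Lib.Helper24.SZInternal
import Cfsg.Agent.Lib.Helper10.ElemAb
import Cfsg.Agent.Lib.Helper76.PSolvable
import Cfsg.Agent.S1443

set_option autoImplicit false
open Cfsg

namespace Cfsg.Agent.S1462

open Cfsg.Agent.Helper24 Subgroup
open scoped commutatorElement

/-- Let G be a finite solvable group, p an odd prime with G = O_{p',p,p'}(G), E an elementary abelian p-subgroup contained in no larger elementary abelian p-subgroup of G, and L a subgroup of order coprime to p normalized by E. Then L ≤ O_{p'}(G). -/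
theorem result {G : Type*} [Group G] [Finite G] [Group.IsSolvable G] (p : ℕ) [Fact p.Prime] (hp : p ≠ 2) (hpl : Cfsg.PLengthLE p 1 G) (E L : Subgroup G) (hE : Cfsg.IsElementaryAbelian p E)
    (hEmax : ∀ B : Subgroup G, Cfsg.IsElementaryAbelian p B → E ≤ B → B = E) (hL : (Nat.card L).Coprime p) (hEL : E ≤ Subgroup.normalizer (L : Set G)) :
    L ≤ Cfsg.pPrimeCore p G := by
  have hpp : p.Prime := Fact.out
  have hEp : IsPGroup p E := Helper10.elemAb_isPGroup hE
  obtain ⟨S, hES⟩ := hEp.exists_le_sylow
  obtain ⟨hcopK, hKSn, hfrat, hpsub, hdisj⟩ := plength_one_structure p hpl S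
  set K := pPrimeCore p G with hK
  have hKn : K.Normal := inferInstance
  obtain ⟨nS, hnS⟩ := IsPGroup.iff_card.mp S.isPGroup'
  set π := QuotientGroup.mk' K with hπ
  have hsurj : Function.Surjective π := QuotientGroup.mk'_surjective K
  have hker : ∀ x : G, π x = 1 ↔ x ∈ K := fun x => QuotientGroup.eq_one_iff x
  -- Lemma A
  have hA : ∀ x ∈ K ⊔ (S : Subgroup G), ∀ m : ℕ, m.Coprime p → x ^ m = 1 → x ∈ K := by
    intro x hx m hm hxm
    obtain ⟨k, hk, s, hs, rfl⟩ := mem_sup_of_normal_left.mp hx
    have h1 : π (k * s) = π s := by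
      rw [map_mul, (hker k).mpr hk, one_mul]
    have h2 : (π s) ^ (p ^ nS) = 1 := by
      rw [← map_pow, ← hnS, pow_card_subgroup_eq_one (S : Subgroup G) s hs, map_one]
    have h3 : (π s) ^ m = 1 := by
      rw [← h1, ← map_pow, hxm, map_one]
    have h4 : π s = 1 := by
      have ho1 := orderOf_dvd_of_pow_eq_one h2
      have ho2 := orderOf_dvd_of_pow_eq_one h3
      have : orderOf (π s) ∣ 1 := by
        have := Nat.dvd_gcd ho2 ho1
        rwa [Nat.Coprime.pow_right nS hm] at this
      exact orderOf_eq_one_iff.mp (Nat.dvd_one.mp this)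
    rw [← hker, h1, h4]
  -- coprime decomposition of L
  have hcopEL : (Nat.card E).Coprime (Nat.card L) := by
    obtain ⟨k, hk⟩ := IsPGroup.iff_card.mp hEp
    rw [hk]; exact (Nat.Coprime.pow_right k hL).symm
  have hLsolv : Group.IsSolvable L := inferInstance
  have hdec := eq_commutator_sup_centralizer L E hEL hcopEL hLsolv
  -- [L,E] ≤ K
  have hEKS : E ≤ K ⊔ (S : Subgroup G) := hES.trans le_sup_right
  have h1 : ⁅L, E⁆ ≤ K := by
    intro x hx
    have hxKS : x ∈ K ⊔ (S : Subgroup G) := by
      have : ⁅L, E⁆ ≤ ⁅(⊤ : Subgroup G), K ⊔ (S : Subgroup G)⁆ := commutator_mono le_top hEKS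
      exact commutator_le_right _ _ (this hx)
    have hxL : x ∈ L := commutator_le_of_le_normalizer L E hEL hx
    exact hA x hxKS (Nat.card L) hL (pow_card_subgroup_eq_one L x hxL)
  -- D = C_L(E) ≤ K
  set D := L ⊓ centralizer (E : Set G) with hD
  have h2 : D ≤ K := by
    set Pb := pCore p (G ⧸ K) with hPb
    have hPbp : IsPGroup p Pb := Helper55.isPGroup_pCore
    have hPbn : Pb.Normal := inferInstance
    have hSbn : ((S : Subgroup G).map π).Normal := by
      have h3 : (K ⊔ (S : Subgroup G)).map π = (S : Subgroup G).map π := by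
        rw [Subgroup.map_sup, hπ, QuotientGroup.map_mk'_self, bot_sup_eq]
      rw [← h3]
      exact Subgroup.Normal.map hKSn π hsurj
    have hSbPb : (S : Subgroup G).map π ≤ Pb :=
      Helper55.le_pCore hSbn (S.isPGroup'.map π)
    have hPbSb : Pb ≤ (S : Subgroup G).map π := by
      have := Helper55.pCore_le_sylow (S.mapSurjective hsurj)
      rwa [Sylow.coe_mapSurjective] at this
    set Eb := E.map π with hEb
    have hEbPb : Eb ≤ Pb := (Subgroup.map_mono hES).trans hSbPb
    have hEbe : IsElementaryAbelian p Eb := Helper10.elemAb_map hE π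
    set Db := D.map π with hDb
    have hDbN : Db ≤ normalizer (Pb : Set (G ⧸ K)) := by
      rw [normalizer_eq_top]; exact le_top
    have hDcop : (Nat.card D).Coprime p :=
      Nat.Coprime.coprime_dvd_left (card_dvd_of_le inf_le_left) hL
    have hDbcop : (Nat.card Db).Coprime p :=
      Nat.Coprime.coprime_dvd_left (card_map_dvd D π) hDcop
    have hfix : ∀ x ∈ (Pb ⊓ centralizer (Eb : Set (G ⧸ K))), orderOf x = p →
        Db ≤ centralizer ({x} : Set (G ⧸ K)) := by
      intro xb hxb hxo
      obtain ⟨s, hs, rfl⟩ := hPbSb hxb.1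
      -- s commutes with E
      have hsE : ∀ e ∈ E, s * e = e * s := by
        intro e he
        have h3 : π e * π s = π s * π e :=
          (mem_centralizer_iff.mp hxb.2) (π e) (Subgroup.mem_map_of_mem π he)
        have h4 : s * e * s⁻¹ * e⁻¹ ∈ K := by
          rw [← hker]
          simp only [map_mul, map_inv]
          rw [← h3]; group
        have h5 : s * e * s⁻¹ * e⁻¹ ∈ (S : Subgroup G) :=
          Subgroup.mul_mem _ (Subgroup.mul_mem _ (Subgroup.mul_mem _ hs (hES he))
            (Subgroup.inv_mem _ hs)) (Subgroup.inv_mem _ (hES he))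
        have h6 : s * e * s⁻¹ * e⁻¹ = 1 := disjoint_def.mp hdisj h4 h5
        calc s * e = (s * e * s⁻¹ * e⁻¹) * e * s := by group
          _ = e * s := by rw [h6]; group
      have hsp : s ^ p = 1 := by
        have h3 : (π s) ^ p = 1 := by rw [← hxo]; exact pow_orderOf_eq_one _
        have h4 : s ^ p ∈ K := by rw [← hker, map_pow]; exact h3
        exact disjoint_def.mp hdisj h4 (Subgroup.pow_mem _ hs p)
      have hB : IsElementaryAbelian p (E ⊔ zpowers s) := by
        apply Helper10.elemAb_sup_of_commute hE (Helper10.isElementaryAbelian_zpowers hsp)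
        intro a ha b hb
        obtain ⟨k, rfl⟩ := mem_zpowers_iff.mp hb
        exact ((Commute.zpow_right (show Commute a s from (hsE a ha).symm) k)).eq
      have hBE : E ⊔ zpowers s = E := hEmax _ hB le_sup_left
      have hsmemE : s ∈ E := by
        rw [← hBE]; exact mem_sup_right (mem_zpowers s)
      rintro db ⟨d, hd, rfl⟩
      rw [mem_centralizer_iff]
      intro y hy
      rw [Set.mem_singleton_iff] at hy
      subst hy
      have h7 : s * d = d * s := (mem_centralizer_iff.mp hd.2) s hsmemE
      rw [← map_mul, ← map_mul, h7]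
    have h3 : Db ≤ centralizer (Pb : Set (G ⧸ K)) :=
      Cfsg.Agent.S1443.result p hp Pb Eb Db hPbp hEbPb hEbe hDbN hDbcop hfix
    -- Hall-Higman 1.2.3
    have hcore : pPrimeCore p (G ⧸ K) = ⊥ := Helper55.pPrimeCore_quotient_eq_bot p
    have hpsolv : IsPSolvable p (G ⧸ K) := by
      refine ⟨2, ![⊥, Pb, ⊤], rfl, rfl, ?_, ?_, ?_⟩
      · rw [Fin.monotone_iff_le_succ]
        intro i
        fin_cases i
        · exact bot_le
        · exact le_top
      · intro i
        fin_cases i
        · exact (inferInstance : (⊥ : Subgroup (G ⧸ K)).Normal)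
        · exact hPbn
        · exact (inferInstance : (⊤ : Subgroup (G ⧸ K)).Normal)
      · intro i
        fin_cases i
        · left
          obtain ⟨m, hm⟩ := IsPGroup.iff_card.mp hPbp
          refine ⟨m, ?_⟩
          show (⊥ : Subgroup (G ⧸ K)).relIndex Pb = p ^ m
          rw [relIndex_bot_left, hm]
        · right
          show (Pb.relIndex ⊤).Coprime p
          rw [relIndex_top_right]
          have h4 : Pb.index ∣ ((S : Subgroup G).map π).index := index_dvd_of_le hSbPb
          have h5 : ¬ p ∣ ((S : Subgroup G).map π).index := by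
            have := (S.mapSurjective hsurj).not_dvd_index
            rwa [Sylow.coe_mapSurjective] at this
          have h6 : ¬ p ∣ Pb.index := fun h => h5 (dvd_trans h h4)
          exact ((Nat.Prime.coprime_iff_not_dvd hpp).mpr h6).symm
    have hHH : centralizer (Pb : Set (G ⧸ K)) ≤ Pb := Helper76.centralizer_pCore_le hpsolv hcore
    have h4 : Db ≤ Pb := h3.trans hHH
    intro d hd
    have h5 : π d ∈ Db := Subgroup.mem_map_of_mem π hd
    obtain ⟨k, hk⟩ := (hPbp.to_le h4) ⟨π d, h5⟩
    have hk' : (π d) ^ (p ^ k) = 1 := by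
      have := congrArg (fun x : Db => (x : G ⧸ K)) hk
      simpa using this
    have h6 : (π d) ^ (Nat.card D) = 1 := by
      rw [← map_pow, pow_card_subgroup_eq_one D d hd, map_one]
    have h7 : π d = 1 := by
      have ho1 := orderOf_dvd_of_pow_eq_one hk'
      have ho2 := orderOf_dvd_of_pow_eq_one h6
      have : orderOf (π d) ∣ 1 := by
        have := Nat.dvd_gcd ho2 ho1
        rwa [Nat.Coprime.pow_right k hDcop] at this
      exact orderOf_eq_one_iff.mp (Nat.dvd_one.mp this)
    exact (hker d).mp h7
  rw [hdec]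
  exact sup_le h1 h2

end Cfsg.Agent.S1462
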