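import Cfsg.Statements.S1463
import Cfsg.Agent.Lib.Helper41.SL2NormCent

set_option autoImplicit false
open scoped MatrixGroups
open Cfsg

namespace Cfsg.Agent.S1463

open Matrix

section LinAlg

variable {F : Type*} [Field F]

theorem sq_eq_trace_smul_sub (N : Matrix (Fin 2) (Fin 2) F) :
    N * N = N.trace • N - N.det • (1 : Matrix (Fin 2) (Fin 2) F) := by
  ext i j
  fin_cases i <;> fin_cases j <;>
    simp [Matrix.mul_apply, Fin.sum_univ_two, Matrix.trace_fin_two, Matrix.det_fin_two] <;> ring

/-- a nilpotent `2 × 2` matrix squares to zero -/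
theorem sq_eq_zero_of_pow_eq_zero (N : Matrix (Fin 2) (Fin 2) F) (m : ℕ) (hN : N ^ m = 0) :
    N * N = 0 := by
  have hnil : IsNilpotent N := ⟨m, hN⟩
  have hdet : N.det = 0 := by
    have h1 : N.det ^ m = 0 := by rw [← Matrix.det_pow, hN, Matrix.det_zero]
    exact pow_eq_zero_iff (n := m) (by
      rintro rfl
      rw [pow_zero] at hN
      have := congrFun (congrFun hN 0) 0
      simp at this) |>.mp h1
  have htr : N.trace = 0 := (Matrix.isNilpotent_trace_of_isNilpotent hnil).eq_zero
  rw [sq_eq_trace_smul_sub, hdet, htr, zero_smul, zero_smul, sub_zero]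

/-- the fixed space of a nontrivial unipotent `2 × 2` matrix is a line -/
theorem exists_fixed_line (p : ℕ) [Fact p.Prime] [CharP F p] (M : Matrix (Fin 2) (Fin 2) F)
    (hM1 : M ≠ 1) (k : ℕ) (hMk : M ^ (p ^ k) = 1) :
    ∃ v : Fin 2 → F, v ≠ 0 ∧ M.mulVec v = v ∧
      ∀ u : Fin 2 → F, M.mulVec u = u → u ∈ Submodule.span F {v} := by
  have : CharP (Matrix (Fin 2) (Fin 2) F) p := Matrix.charP p
  set N := M - 1 with hN
  have hNk : N ^ (p ^ k) = 0 := by
    rw [hN, sub_pow_char_pow_of_commute (p := p) (h := Commute.one_right M), one_pow, hMk, sub_self]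
  have hN2 : N * N = 0 := sq_eq_zero_of_pow_eq_zero N _ hNk
  have hN0 : N ≠ 0 := fun h => hM1 (sub_eq_zero.mp h)
  have hMN : M = N + 1 := by rw [hN]; abel
  have hfix : ∀ u : Fin 2 → F, M.mulVec u = u ↔ N.mulVec u = 0 := by
    intro u
    rw [hMN, Matrix.add_mulVec, Matrix.one_mulVec]
    constructor
    · intro h; exact add_eq_right.mp h
    · intro h; rw [h, zero_add]
  -- a nonzero column of `N`
  obtain ⟨j, hj⟩ : ∃ j : Fin 2, N.mulVec (Pi.single j 1) ≠ 0 := by
    by_contra hcon
    push Not at hcon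
    apply hN0
    ext i j
    have := congrFun (hcon j) i
    simpa using this
  refine ⟨N.mulVec (Pi.single j 1), hj, ?_, ?_⟩
  · rw [hfix, Matrix.mulVec_mulVec, hN2, Matrix.zero_mulVec]
  · intro u hu
    rw [hfix] at hu
    set v := N.mulVec (Pi.single j 1) with hv
    have hvN : N.mulVec v = 0 := by rw [hv, Matrix.mulVec_mulVec, hN2, Matrix.zero_mulVec]
    have e1 : ∀ i, N i 0 * v 0 + N i 1 * v 1 = 0 := by
      intro i
      have := congrFun hvN i
      simpa [Matrix.mulVec, dotProduct, Fin.sum_univ_two] using this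
    have e2 : ∀ i, N i 0 * u 0 + N i 1 * u 1 = 0 := by
      intro i
      have := congrFun hu i
      simpa [Matrix.mulVec, dotProduct, Fin.sum_univ_two] using this
    have hD : v 0 * u 1 - v 1 * u 0 = 0 := by
      by_contra hD
      apply hN0
      ext i j
      fin_cases j
      · have : N i 0 * (v 0 * u 1 - v 1 * u 0) = 0 := by
          linear_combination u 1 * e1 i - v 1 * e2 i
        rcases mul_eq_zero.mp this with h | h
        · simpa using h
        · exact absurd h hD
      · have : N i 1 * (v 0 * u 1 - v 1 * u 0) = 0 := by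
          linear_combination v 0 * e2 i - u 0 * e1 i
        rcases mul_eq_zero.mp this with h | h
        · simpa using h
        · exact absurd h hD
    rw [Submodule.mem_span_singleton]
    by_cases h0 : v 0 = 0
    · have h1 : v 1 ≠ 0 := by
        intro h1
        apply hj
        ext i
        fin_cases i
        · exact h0
        · exact h1
      refine ⟨u 1 / v 1, ?_⟩
      ext i
      fin_cases i
      · simp only [Pi.smul_apply, smul_eq_mul, Fin.zero_eta]
        field_simp
        linear_combination hD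
      · simp only [Pi.smul_apply, smul_eq_mul, Fin.mk_one]
        field_simp
    · refine ⟨u 0 / v 0, ?_⟩
      ext i
      fin_cases i
      · simp only [Pi.smul_apply, smul_eq_mul, Fin.zero_eta]
        field_simp
      · simp only [Pi.smul_apply, smul_eq_mul, Fin.mk_one]
        field_simp
        linear_combination -hD

end LinAlg

/-- Let F be a field of odd characteristic p and H a finite subgroup of odd order of GL(2, F) that leaves no 1-dimensional subspace of F² invariant. Then p does not divide the order of H. -/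
theorem result {F : Type*} [Field F] (p : ℕ) [Fact p.Prime] [CharP F p] (hp : p ≠ 2)
    (H : Subgroup (GL (Fin 2) F)) [Finite H] (hodd : Odd (Nat.card H))
    (hirr : ∀ v : Fin 2 → F, v ≠ 0 → ∃ g ∈ H, (g : Matrix (Fin 2) (Fin 2) F).mulVec v ∉ Submodule.span F {v}) :
    ¬ p ∣ Nat.card H := by
  intro hpH
  have hpp : p.Prime := Fact.out
  -- `d ^ (p ^ k) = 1 → d = 1` in `F`
  have hroot : ∀ (d : F) (k : ℕ), d ^ (p ^ k) = 1 → d = 1 := by
    intro d k hd
    have h1 : (d - 1) ^ (p ^ k) = 0 := by
      rw [sub_pow_char_pow, hd, one_pow, sub_self]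
    exact sub_eq_zero.mp (pow_eq_zero_iff (pow_ne_zero k hpp.ne_zero) |>.mp h1)
  -- the determinant-one subgroup
  let detH : H →* Fˣ := (Matrix.GeneralLinearGroup.det).comp H.subtype
  set K : Subgroup H := detH.ker with hK
  have hKdet : ∀ x : K, (((x : H) : GL (Fin 2) F) : Matrix (Fin 2) (Fin 2) F).det = 1 := by
    intro x
    have h1 : detH (x : H) = 1 := x.2
    have h2 := congrArg Units.val h1
    simpa [detH] using h2
  let φ : K →* Matrix.SpecialLinearGroup (Fin 2) F :=
    { toFun := fun x => (⟨(((x : H) : GL (Fin 2) F) : Matrix (Fin 2) (Fin 2) F), hKdet x⟩ :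
        Matrix.SpecialLinearGroup (Fin 2) F)
      map_one' := by apply Subtype.ext; simp
      map_mul' := fun x y => by
        apply Subtype.ext
        rfl }
  have hφ : Function.Injective φ := by
    intro x y hxy
    have h1 := congrArg Subtype.val hxy
    apply Subtype.ext
    apply Subtype.ext
    apply Units.ext
    exact h1
  have hKodd : Odd (Nat.card K) := Odd.of_dvd_nat hodd (Subgroup.card_subgroup_dvd_card K)
  have huniq : ∀ P Q : Sylow p K, P = Q :=
    Cfsg.Agent.Helper41.sylow_char_unique_of_odd p hKodd φ hφ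
  -- `p`-elements of `H` lie in `K`
  have hpK : ∀ (y : H) (k : ℕ), y ^ (p ^ k) = 1 → y ∈ K := by
    intro y k hy
    rw [hK, MonoidHom.mem_ker]
    have h1 : (detH y) ^ (p ^ k) = 1 := by rw [← map_pow, hy, map_one]
    have h2 : ((detH y : Fˣ) : F) ^ (p ^ k) = 1 := by
      have := congrArg Units.val h1
      simpa using this
    exact Units.ext (hroot _ k h2)
  -- `p` divides `|K|`
  obtain ⟨x₀, hx₀⟩ := exists_prime_orderOf_dvd_card' p hpH
  have hx₀K : x₀ ∈ K := hpK x₀ 1 (by rw [pow_one, ← hx₀]; exact pow_orderOf_eq_one x₀)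
  have hpKc : p ∣ Nat.card K := by
    have h1 : orderOf (⟨x₀, hx₀K⟩ : K) = p := by
      rw [← hx₀]
      exact Subgroup.orderOf_mk x₀ hx₀K
    rw [← h1]; exact orderOf_dvd_natCard _
  have P : Sylow p K := default
  have hPne : (P : Subgroup K) ≠ ⊥ := Sylow.ne_bot_of_dvd_card P hpKc
  have hPnt : Nontrivial (P : Subgroup K) := (Subgroup.nontrivial_iff_ne_bot _).mpr hPne
  have hPc : Nontrivial (Subgroup.center (P : Subgroup K)) := P.isPGroup'.center_nontrivial
  obtain ⟨z, hz1⟩ := exists_ne (1 : Subgroup.center (P : Subgroup K))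
  obtain ⟨k, hzk⟩ := P.isPGroup' (z : (P : Subgroup K))
  -- the matrix of `z`
  set x : H := (((z : (P : Subgroup K)) : K) : H) with hx
  have hxk : x ^ (p ^ k) = 1 := by
    have h1 := congrArg (fun w : (P : Subgroup K) => ((w : K) : H)) hzk
    simpa using h1
  have hx1 : x ≠ 1 := by
    intro h
    apply hz1
    apply Subtype.ext
    apply Subtype.ext
    apply Subtype.ext
    exact h
  set M : Matrix (Fin 2) (Fin 2) F := ((x : GL (Fin 2) F) : Matrix (Fin 2) (Fin 2) F) with hM
  have hM1 : M ≠ 1 := by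
    intro h
    apply hx1
    apply Subtype.ext
    apply Units.ext
    exact h
  have hMk : M ^ (p ^ k) = 1 := by
    have h1 := congrArg (fun w : H => ((w : GL (Fin 2) F) : Matrix (Fin 2) (Fin 2) F)) hxk
    simpa using h1
  obtain ⟨v, hv0, hMv, hline⟩ := exists_fixed_line p M hM1 k hMk
  obtain ⟨g, hg, hgv⟩ := hirr v hv0
  apply hgv
  apply hline
  -- `y = g⁻¹ x g` commutes with `x`
  set h : H := ⟨g, hg⟩ with hh
  set y : H := h⁻¹ * x * h with hy
  have hyk : y ^ (p ^ k) = 1 := by
    have : y ^ (p ^ k) = h⁻¹ * x ^ (p ^ k) * h := by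
      rw [hy]
      have := conj_pow (a := h⁻¹) (i := p ^ k) (b := x)
      simpa using this
    rw [this, hxk]; group
  have hyK : y ∈ K := hpK y k hyk
  have hyP : (⟨y, hyK⟩ : K) ∈ (P : Subgroup K) := by
    have hpg : IsPGroup p (Subgroup.zpowers (⟨y, hyK⟩ : K)) := by
      apply IsPGroup.of_card (n := (Nat.card (Subgroup.zpowers (⟨y, hyK⟩ : K))).factorization p)
      rw [Nat.card_zpowers]
      have hdvd : orderOf (⟨y, hyK⟩ : K) ∣ p ^ k := by
        apply orderOf_dvd_of_pow_eq_one
        apply Subtype.ext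
        simpa using hyk
      obtain ⟨j, _, hj⟩ := (Nat.dvd_prime_pow hpp).mp hdvd
      rw [hj, hpp.factorization_pow]
      simp
    obtain ⟨Q, hQ⟩ := hpg.exists_le_sylow
    rw [huniq P Q]
    exact hQ (Subgroup.mem_zpowers _)
  have hcomm : x * y = y * x := by
    have h1 := Subgroup.mem_center_iff.mp z.2 ⟨⟨y, hyK⟩, hyP⟩
    have h2 := congrArg (fun w : (P : Subgroup K) => ((w : K) : H)) h1
    simpa using h2.symm
  set Y : Matrix (Fin 2) (Fin 2) F := ((y : GL (Fin 2) F) : Matrix (Fin 2) (Fin 2) F) with hY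
  have hMY : M * Y = Y * M := by
    have h1 := congrArg (fun w : H => ((w : GL (Fin 2) F) : Matrix (Fin 2) (Fin 2) F)) hcomm
    simpa using h1
  have hYk : Y ^ (p ^ k) = 1 := by
    have h1 := congrArg (fun w : H => ((w : GL (Fin 2) F) : Matrix (Fin 2) (Fin 2) F)) hyk
    simpa using h1
  -- `Y v` is fixed by `M`, hence a multiple of `v`
  have h1 : M.mulVec (Y.mulVec v) = Y.mulVec v := by
    rw [Matrix.mulVec_mulVec, hMY, ← Matrix.mulVec_mulVec, hMv]
  obtain ⟨lam, hlam⟩ := Submodule.mem_span_singleton.mp (hline _ h1)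
  have hpow : ∀ n : ℕ, (Y ^ n).mulVec v = lam ^ n • v := by
    intro n
    induction n with
    | zero => simp
    | succ n ih =>
      rw [pow_succ, ← Matrix.mulVec_mulVec, ← hlam, Matrix.mulVec_smul, ih, smul_smul, pow_succ,
        mul_comm]
  have hlam1 : lam = 1 := by
    apply hroot lam k
    have h2 := hpow (p ^ k)
    rw [hYk, Matrix.one_mulVec] at h2
    by_contra hne
    apply hv0
    have h3 : (lam ^ (p ^ k) - 1) • v = 0 := by rw [sub_smul, one_smul, ← h2, sub_self]
    rcases smul_eq_zero.mp h3 with h4 | h4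
    · exact absurd (sub_eq_zero.mp h4) hne
    · exact h4
  have hYv : Y.mulVec v = v := by rw [← hlam, hlam1, one_smul]
  -- so `g v` is fixed by `M`
  set Gm : Matrix (Fin 2) (Fin 2) F := (g : Matrix (Fin 2) (Fin 2) F) with hGm
  have hGY : Gm * Y = M * Gm := by
    have e : h * y = x * h := by rw [hy]; group
    have h1 := congrArg (fun w : H => ((w : GL (Fin 2) F) : Matrix (Fin 2) (Fin 2) F)) e
    simpa using h1
  calc M.mulVec (Gm.mulVec v) = (M * Gm).mulVec v := by rw [Matrix.mulVec_mulVec]
    _ = (Gm * Y).mulVec v := by rw [hGY]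
    _ = Gm.mulVec v := by rw [← Matrix.mulVec_mulVec, hYv]

end Cfsg.Agent.S1463
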