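import Cfsg.Statements.S1464
import Cfsg.Agent.Lib.Helper54.OddPStable

set_option autoImplicit false
open Cfsg

namespace Cfsg.Agent.S1464

open Subgroup Cfsg.Agent.Helper54
open scoped commutatorElement

/-- transport of membership in `O_p` of a quotient along an equality of the kernels -/
theorem mem_pCore_quot_of_eq {X : Type*} [Group X] {p : ℕ} (K₁ K₂ : Subgroup X) [K₁.Normal] [K₂.Normal]
    (h : K₁ = K₂) (a : X)
    (ha : (QuotientGroup.mk a : X ⧸ K₁) ∈ Cfsg.pCore p (X ⧸ K₁)) :
    (QuotientGroup.mk a : X ⧸ K₂) ∈ Cfsg.pCore p (X ⧸ K₂) := by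
  subst h
  exact ha

/-- `C_G(P) ∩ N_G(P)`, inside `N_G(P)`, is the centralizer of `P`. -/
theorem centralizer_subgroupOf_normalizer {G : Type*} [Group G] (P : Subgroup G) :
    centralizer ((P.subgroupOf (normalizer (P : Set G)) : Subgroup (normalizer (P : Set G))) :
        Set (normalizer (P : Set G))) =
      (centralizer (P : Set G)).subgroupOf (normalizer (P : Set G)) := by
  ext x
  rw [mem_subgroupOf, mem_centralizer_iff, mem_centralizer_iff]
  constructor
  · intro h y hy
    have := h ⟨y, le_normalizer hy⟩ (mem_subgroupOf.mpr hy)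
    exact congrArg Subtype.val this
  · intro h y hy
    apply Subtype.ext
    exact h y.1 (mem_subgroupOf.mp hy)

/-- Let p be an odd prime and G a solvable group of odd order, P a p-subgroup with O_{p'}(G)P normal in G, and A a p-subgroup of N_G(P) with [[P, A], A] = 1. Then the image of A in the quotient N_G(P)/C_G(P) is contained in the p-core of that quotient. -/
theorem result {G : Type*} [Group G] [Finite G] [Group.IsSolvable G] (hodd : Odd (Nat.card G)) (p : ℕ) [Fact p.Prime] (hp : p ≠ 2) (P A : Subgroup G) (hP : IsPGroup p P) (hPn : (Cfsg.pPrimeCore p G ⊔ P).Normal)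
    (hA : IsPGroup p A) (hAN : A ≤ Subgroup.normalizer (P : Set G)) (hquad : ⁅⁅P, A⁆, A⁆ = ⊥) :
    (A.subgroupOf (Subgroup.normalizer (P : Set G))).map
        (QuotientGroup.mk' ((Subgroup.centralizer (P : Set G)).subgroupOf (Subgroup.normalizer (P : Set G))))
      ≤ Cfsg.pCore p _ := by
  set N := normalizer (P : Set G) with hN
  have hoddN : Odd (Nat.card N) := Odd.of_dvd_nat hodd (Subgroup.card_subgroup_dvd_card N)
  have hP' : IsPGroup p (P.subgroupOf N) := hP.comap_subtype
  have hst := isPStableOn_of_odd_solvable hoddN hp (P.subgroupOf N) hP'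
  rintro _ ⟨a', ha', rfl⟩
  have haA : (a' : G) ∈ A := mem_subgroupOf.mp ha'
  have hz : zpowers (a' : G) ≤ A := by
    rw [zpowers_le]; exact haA
  have hq : ⁅⁅P, zpowers (a' : G)⁆, zpowers (a' : G)⁆ = ⊥ := by
    rw [eq_bot_iff, ← hquad]
    exact commutator_mono (commutator_mono le_rfl hz) hz
  have hq' : ⁅⁅P.subgroupOf N, zpowers a'⁆, zpowers a'⁆ = ⊥ := by
    apply Cfsg.Agent.Helper10.quad_of_map N.subtype N.subtype_injective
    rw [map_subgroupOf_eq_of_le le_normalizer]
    exact hq
  have h1 := hst a' hq'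
  exact mem_pCore_quot_of_eq _ _ (centralizer_subgroupOf_normalizer P) a' h1

end Cfsg.Agent.S1464
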