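import Cfsg.Statements.S1470
import Mathlib

set_option autoImplicit false
open Cfsg

namespace Cfsg.Agent.S1470

/-- Let p and q be odd primes with (p^q − 1)/(p − 1) coprime to p − 1, and let E be the set of elements a of the field with p ^ q elements whose norm to the prime field is 1 and for which 2 − a also has norm 1. If a⁻¹ ∈ E for every a ∈ E and E has at least two elements, then p ≤ q. -/
theorem result (p q : ℕ) [Fact p.Prime] [Fact q.Prime] (hp : p ≠ 2) (hq : q ≠ 2) (hA : Nat.Coprime ((p ^ q - 1) / (p - 1)) (p - 1))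
    (hinv : ∀ a ∈ {a : GaloisField p q | Algebra.norm (ZMod p) a = 1 ∧ Algebra.norm (ZMod p) (2 - a) = 1}, a⁻¹ ∈ {a : GaloisField p q | Algebra.norm (ZMod p) a = 1 ∧ Algebra.norm (ZMod p) (2 - a) = 1})
    (h2 : 2 ≤ Set.ncard {a : GaloisField p q | Algebra.norm (ZMod p) a = 1 ∧ Algebra.norm (ZMod p) (2 - a) = 1}) :
    p ≤ q := by
  classical
  have hp' : p.Prime := Fact.out
  have hq' : q.Prime := Fact.out
  have hq0 : q ≠ 0 := hq'.ne_zero
  have hfr : Module.finrank (ZMod p) (GaloisField p q) = q := GaloisField.finrank p hq0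
  have hcard : Nat.card (ZMod p) = p := by simp
  have hN : ∀ x : GaloisField p q, algebraMap (ZMod p) (GaloisField p q) (Algebra.norm (ZMod p) x)
      = ∏ i ∈ Finset.range q, x ^ (p ^ i) := by
    intro x
    rw [FiniteField.algebraMap_norm_eq_prod_pow, hfr, hcard]
  have hne0 : ∀ x : GaloisField p q, Algebra.norm (ZMod p) x = 1 → x ≠ 0 := by
    intro x hx h0
    rw [h0, Algebra.norm_zero] at hx
    exact zero_ne_one hx
  -- an element of E different from 1
  obtain ⟨a, haE, ha1⟩ : ∃ a : GaloisField p q,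
      (Algebra.norm (ZMod p) a = 1 ∧ Algebra.norm (ZMod p) (2 - a) = 1) ∧ a ≠ 1 := by
    have hfin : ({a : GaloisField p q | Algebra.norm (ZMod p) a = 1 ∧
        Algebra.norm (ZMod p) (2 - a) = 1}).Finite := Set.toFinite _
    obtain ⟨x, y, hx, hy, hxy⟩ := (Set.one_lt_ncard_iff hfin).mp h2
    by_cases hx1 : x = 1
    · exact ⟨y, hy, fun h => hxy (by rw [hx1, h])⟩
    · exact ⟨x, hx, hx1⟩
  obtain ⟨c, hc⟩ : ∃ c : GaloisField p q, c = (a - 1)⁻¹ := ⟨_, rfl⟩
  -- the orbit under a ↦ 2 - a⁻¹
  have horbit : ∀ k : ℕ, ∃ b : GaloisField p q,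
      (Algebra.norm (ZMod p) b = 1 ∧ Algebra.norm (ZMod p) (2 - b) = 1) ∧ b ≠ 1 ∧
        (b - 1)⁻¹ = c + k := by
    intro k
    induction k with
    | zero => exact ⟨a, haE, ha1, by rw [hc]; simp⟩
    | succ k ih =>
      obtain ⟨b, hbE, hb1, hbc⟩ := ih
      have hb0 : b ≠ 0 := hne0 b hbE.1
      have hinvb := hinv b hbE
      have hb1' : b - 1 ≠ 0 := sub_ne_zero.mpr hb1
      refine ⟨2 - b⁻¹, ⟨hinvb.2, ?_⟩, ?_, ?_⟩
      · have : (2 : GaloisField p q) - (2 - b⁻¹) = b⁻¹ := by ring
        rw [this]; exact hinvb.1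
      · intro h
        apply hb1
        have : b⁻¹ = 1 := by linear_combination -h
        rw [inv_eq_one] at this
        exact this
      · have e : (2 : GaloisField p q) - b⁻¹ - 1 = (b - 1) * b⁻¹ := by
          field_simp
          ring
        rw [e, mul_inv, inv_inv]
        push_cast
        rw [← add_assoc, ← hbc]
        field_simp
        ring
  -- the norm is constant along c + k
  have hstep : ∀ k : ℕ, Algebra.norm (ZMod p) (c + (k : GaloisField p q) + 1)
      = Algebra.norm (ZMod p) (c + (k : GaloisField p q)) := by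
    intro k
    obtain ⟨b, hbE, hb1, hbc⟩ := horbit k
    have hb1' : b - 1 ≠ 0 := sub_ne_zero.mpr hb1
    have e : b * (b - 1)⁻¹ = (b - 1)⁻¹ + 1 := by
      field_simp
      ring
    rw [← hbc, ← e, map_mul, hbE.1, one_mul]
  have hconst : ∀ k : ℕ, Algebra.norm (ZMod p) (c + (k : GaloisField p q))
      = Algebra.norm (ZMod p) c := by
    intro k
    induction k with
    | zero => simp
    | succ k ih =>
      rw [← ih, ← hstep k]
      push_cast
      rw [add_assoc]
  -- the polynomial
  obtain ⟨g, hg⟩ : ∃ g : Polynomial (GaloisField p q), g =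
      (∏ i ∈ Finset.range q, (Polynomial.X + Polynomial.C (c ^ (p ^ i))))
        - Polynomial.C (algebraMap (ZMod p) (GaloisField p q) (Algebra.norm (ZMod p) c)) := ⟨_, rfl⟩
  have hdeg : g.natDegree = q := by
    rw [hg, Polynomial.natDegree_sub_C, Polynomial.natDegree_prod_of_monic]
    · rw [Finset.sum_congr rfl (fun i _ => Polynomial.natDegree_X_add_C _)]
      simp
    · intro i _
      exact Polynomial.monic_X_add_C _
  have hg0 : g ≠ 0 := by
    intro h
    rw [h, Polynomial.natDegree_zero] at hdeg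
    exact hq0 hdeg.symm
  have hnat : ∀ (k i : ℕ), ((k : GaloisField p q)) ^ (p ^ i) = (k : GaloisField p q) := by
    intro k i
    have h1 : ((k : ZMod p)) ^ (p ^ i) = (k : ZMod p) := ZMod.pow_card_pow _
    have h2 := congrArg (algebraMap (ZMod p) (GaloisField p q)) h1
    rw [map_pow, map_natCast] at h2
    exact h2
  have hroot : ∀ k : ℕ, Polynomial.eval (k : GaloisField p q) g = 0 := by
    intro k
    rw [hg, Polynomial.eval_sub, Polynomial.eval_prod, Polynomial.eval_C, ← hconst k, hN]
    rw [sub_eq_zero]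
    apply Finset.prod_congr rfl
    intro i _
    rw [Polynomial.eval_add, Polynomial.eval_X, Polynomial.eval_C, add_pow_char_pow, hnat, add_comm]
  have hinj : Set.InjOn (Nat.cast : ℕ → GaloisField p q) (Finset.range p : Set ℕ) := by
    have := CharP.natCast_injOn_Iio (GaloisField p q) p
    intro x hx y hy hxy
    apply this _ _ hxy
    · simpa using hx
    · simpa using hy
  have hZ : ((Finset.range p).image (Nat.cast : ℕ → GaloisField p q)).card = p := by
    rw [Finset.card_image_of_injOn hinj, Finset.card_range]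
  have hsub : ((Finset.range p).image (Nat.cast : ℕ → GaloisField p q)).val ⊆ g.roots := by
    intro x hx
    rw [Finset.mem_val, Finset.mem_image] at hx
    obtain ⟨k, _, rfl⟩ := hx
    rw [Polynomial.mem_roots hg0]
    exact hroot k
  have := Polynomial.card_le_degree_of_subset_roots hsub
  rw [hZ, hdeg] at this
  exact this

end Cfsg.Agent.S1470
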