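import Cfsg.Statements.S1472
import Cfsg.Agent.Lib.Helper12.PetLIN
import Cfsg.Agent.Lib.Helper26.PetTC
import Cfsg.Agent.Lib.Helper26.PetTG
import Cfsg.Agent.Lib.Helper30.PetE
import Cfsg.Agent.Lib.Helper33.PetMAX
import Cfsg.Agent.Lib.Helper45.PetSETUPa
import Cfsg.Agent.Lib.Helper46.PetTH
import Cfsg.Agent.Lib.Helper66.PetR
import Cfsg.Agent.Lib.Helper77.PetFL
import Cfsg.Agent.Lib.Helper81.PetEN
import Cfsg.Agent.Lib.Helper85.PetGEN
import Cfsg.Agent.Lib.Helper9.PetNQ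
import Cfsg.Agent.Lib.Helper16.PetFIN
import Cfsg.Agent.Lib.Helper16.PetFIX
import Cfsg.Agent.Lib.Helper41.PetCV
import Cfsg.Agent.Lib.Helper41.PetGE
import Cfsg.Agent.Lib.Helper47.PetQ1
import Cfsg.Agent.Lib.Helper47.PetS3
import Cfsg.Agent.Lib.Helper66.PetFF
import Cfsg.Agent.Lib.Helper8.PetPS
import Cfsg.Agent.Lib.Helper9.PetTwoPoint
import Cfsg.Agent.Lib.Helper48.Pet.FourTerm

set_option autoImplicit false
open Cfsg
open Cfsg.Agent.Helper48.Pet

namespace Cfsg.Agent.S1472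

/-- the core: no configuration with `q < p` -/
theorem cfg_false {G : Type*} [Group G] [Finite G] {F : Type*} [Field F] [Finite F] {p q : ℕ}
    (C : Cfg G F p q) (a b : NN F p q) (ha : a ≠ 1) (hab : val a + val b = 2) : False := by
  have _hc : CharP F p := C.hchar
  have hFL : FLProp F p q := Cfsg.Agent.Helper77.Pet.fl C.hp C.hq.pos C.hcard
  have hT := Cfsg.Agent.Helper46.Pet.thetaPow C
  have hM := Cfsg.Agent.Helper33.Pet.maximal C
  have h3 := Cfsg.Agent.Helper47.Pet.step3 C hM hT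
  have hQ := Cfsg.Agent.Helper47.Pet.q1Facts C
  have hG := Cfsg.Agent.Helper85.Pet.gen C hQ
  have hR := Cfsg.Agent.Helper66.Pet.relR C
  have hTC := Cfsg.Agent.Helper26.Pet.tc C hR hT
  have hTG := Cfsg.Agent.Helper26.Pet.tGen C hTC
  have hN := Cfsg.Agent.Helper9.Pet.nq1u C hM hQ hT
  have h2 := Cfsg.Agent.Helper9.Pet.twoPoint C h3 hN hT
  have h4 := Cfsg.Agent.Helper48.Pet.fourTerm C hQ h2 hT
  have hE := Cfsg.Agent.Helper81.Pet.engine C hQ hG
  have hL := Cfsg.Agent.Helper12.Pet.lin0 C hTC hE hQ hT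
  have hfix := Cfsg.Agent.Helper16.Pet.fixTheta C hL hFL
  have hgam := Cfsg.Agent.Helper41.Pet.gamEq C hQ hG hT
  have hP := Cfsg.Agent.Helper8.Pet.pstarP0 C hfix hgam
  have hC := Cfsg.Agent.Helper41.Pet.conv C hTG hE hP h4 hQ hT
  exact ha (Cfsg.Agent.Helper16.Pet.final C hC hFL a b hab)

/-- Let p, q be primes with (p^q − 1)/(p − 1) coprime to p − 1, G a finite group, F a field with p ^ q elements, and P, U, Q subgroups of G with: f : G → F bijective from P onto F and additive on P; U normalizing P and acting through ψ : G → F, injective and multiplicative on U with ψ(u) ≠ 0 and f(uxu⁻¹) = ψ(u) f(x); #U · (p − 1) = p^q − 1; Q abelian of order coprime to p, normalized by every x ∈ P with f(x) in the prime field; and some y ∈ Q such that y x y⁻¹ normalizes U for every such x. Then p ≤ q. -/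
theorem result {G : Type*} [Group G] [Finite G] (p q : ℕ) [Fact p.Prime] [Fact q.Prime] (hA : Nat.Coprime ((p ^ q - 1) / (p - 1)) (p - 1))
    (F : Type*) [Field F] [Fintype F] (hF : Fintype.card F = p ^ q) (P U Q : Subgroup G) (f ψ : G → F)
    (hf : Set.BijOn f (P : Set G) Set.univ) (hfadd : ∀ x ∈ P, ∀ z ∈ P, f (x * z) = f x + f z)
    (hUP : U ≤ Subgroup.normalizer (P : Set G)) (hψ : ∀ u ∈ U, ψ u ≠ 0 ∧ ∀ x ∈ P, f (u * x * u⁻¹) = ψ u * f x)
    (hψmul : ∀ u ∈ U, ∀ v ∈ U, ψ (u * v) = ψ u * ψ v) (hψinj : Set.InjOn ψ (U : Set G)) (hUcard : Nat.card U * (p - 1) = p ^ q - 1)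
    (hQ : IsMulCommutative Q) (hQp : (Nat.card Q).Coprime p) (hP0Q : ∀ x ∈ P, f x ^ p = f x → x ∈ Subgroup.normalizer (Q : Set G))
    (y : G) (hy : y ∈ Q) (hP0U : ∀ x ∈ P, f x ^ p = f x → y * x * y⁻¹ ∈ Subgroup.normalizer (U : Set G)) :
    p ≤ q := by
  have hp : p.Prime := Fact.out
  have hq : q.Prime := Fact.out
  by_contra hlt
  replace hlt : q < p := Nat.lt_of_not_le hlt
  -- `q < p`
  have hp2 : p ≠ 2 := by
    intro h
    have := hq.two_le
    omega
  have hq2 : q ≠ 2 := by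
    intro h
    subst h
    -- (p^2-1)/(p-1) = p+1, gcd(p+1,p-1) = 1 impossible for odd p
    have hp3 : 3 ≤ p := by have := hp.two_le; omega
    have h1 : (p ^ 2 - 1) / (p - 1) = p + 1 := by
      have : p ^ 2 - 1 = (p + 1) * (p - 1) := by
        have h2 : p ^ 2 = (p + 1) * (p - 1) + 1 := by
          obtain ⟨m, rfl⟩ : ∃ m, p = m + 1 := ⟨p - 1, by omega⟩
          simp; ring
        omega
      rw [this]
      exact Nat.mul_div_cancel _ (by omega)
    rw [h1] at hA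
    have hodd : ¬ 2 ∣ p := by
      intro h2
      have := (Nat.prime_dvd_prime_iff_eq Nat.prime_two hp).mp h2
      omega
    have hd1 : 2 ∣ p + 1 := by omega
    have hd2 : 2 ∣ p - 1 := by omega
    have := Nat.dvd_gcd hd1 hd2
    rw [Nat.Coprime] at hA
    rw [hA] at this
    omega
  obtain ⟨C⟩ := Cfsg.Agent.Helper45.Pet.exists_cfg_of_ff (G := G) (F := F) (p := p) (q := q)
    (Cfsg.Agent.Helper66.Pet.field_facts hp hq hF hA) hF P U Q f ψ hf hfadd hUP hψ hψmul hψinj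
    hUcard hQ hQp hP0Q y hy hP0U hq2 hlt
  obtain ⟨a, b, ha, hab⟩ := Cfsg.Agent.Helper30.Pet.exists_E (F := F) (p := p) (q := q) hp2 hq2 hF
  exact cfg_false C a b ha hab

end Cfsg.Agent.S1472
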