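import Cfsg.Statements.S1480
import Cfsg.Agent.Lib.Helper54.Transitivity

set_option autoImplicit false
open Cfsg

namespace Cfsg.Agent.S1480

open Subgroup in
/-- a subgroup all of whose prime divisors equal `q` is a `q`-group -/
theorem isPGroup_of_primes {G : Type*} [Group G] [Finite G] (q : ℕ) [Fact q.Prime] (Q : Subgroup G)
    (h : ∀ r : ℕ, r.Prime → r ∣ Nat.card Q → r ∈ ({q} : Set ℕ)) : IsPGroup q Q := by
  have h1 : Nat.card Q = q ^ (Nat.card Q).primeFactorsList.length :=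
    Nat.eq_prime_pow_of_unique_prime_dvd Nat.card_pos.ne' (fun {d} hd hdvd => h d hd hdvd)
  exact IsPGroup.of_card h1

theorem primes_of_isPGroup {G : Type*} [Group G] [Finite G] (q : ℕ) [hq : Fact q.Prime] (Q : Subgroup G)
    (h : IsPGroup q Q) : ∀ r : ℕ, r.Prime → r ∣ Nat.card Q → r ∈ ({q} : Set ℕ) := by
  intro r hr hrd
  obtain ⟨n, hn⟩ := IsPGroup.iff_card.mp h
  rw [hn] at hrd
  exact (Nat.prime_dvd_prime_iff_eq hr hq.out).mp (hr.dvd_of_dvd_pow hrd)

/-- Let G be a finite group and p a prime such that the normalizer of every nontrivial p-subgroup of G is p-constrained; if p = 2 assume also that the Sylow 2-subgroups of G have nilpotency class at most 2. Let E be an abelian p-subgroup containing an elementary abelian subgroup of order p ^ 3 and containing every element of p-power order of C_G(E). Then for every prime q ≠ p, any two maximal E-invariant q-subgroups of G are conjugate by an element of O_{p'}(C_G(E)). -/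
theorem result {G : Type*} [Group G] [Finite G] (p : ℕ) [Fact p.Prime]
    (hloc : ∀ T : Subgroup G, IsPGroup p T → T ≠ ⊥ → Cfsg.IsPConstrained p ↥(Subgroup.normalizer (T : Set G)))
    (h2 : p = 2 → ∀ S : Sylow p G, Group.IsNilpotent (S : Subgroup G) ∧ Group.nilpotencyClass (S : Subgroup G) ≤ 2)
    (E : Subgroup G) (hEp : IsPGroup p E) (hEc : IsMulCommutative E) (hE3 : ¬ Cfsg.PRankLE p 2 E)
    (hEfull : ∀ x ∈ Subgroup.centralizer (E : Set G), IsPGroup p (Subgroup.zpowers x) → x ∈ E)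
    (q : ℕ) [Fact q.Prime] (hqp : q ≠ p) :
    ∀ Q₁ ∈ Cfsg.maxInvSubgroups ⊤ E {q}, ∀ Q₂ ∈ Cfsg.maxInvSubgroups ⊤ E {q},
        ∃ k ∈ Cfsg.piCoreOf (Cfsg.primesNotDvd p) (Subgroup.centralizer (E : Set G)), Q₂ = Q₁.map (MulAut.conj k).toMonoidHom := by
  classical
  have hpp : p.Prime := Fact.out
  have hEc' : E ≤ Subgroup.centralizer (E : Set G) := by
    intro x hx
    rw [Subgroup.mem_centralizer_iff]
    intro y hy
    have := hEc.is_comm.comm ⟨y, hy⟩ ⟨x, hx⟩
    exact congrArg Subtype.val this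
  -- an elementary abelian subgroup of order at least `p ^ 3`
  unfold Cfsg.PRankLE at hE3
  push Not at hE3
  obtain ⟨A₀, _, hA₀e, hA₀card⟩ := hE3
  set A : Subgroup G := A₀.map E.subtype with hAdef
  have hAE : A ≤ E := Subgroup.map_subtype_le _
  have hA : Cfsg.IsElementaryAbelian p A := by
    refine ⟨⟨⟨fun x y => ?_⟩⟩, fun a ha => ?_⟩
    · apply Subtype.ext
      have := Subgroup.mem_centralizer_iff.mp (hEc' (hAE y.2)) x.1 (hAE x.2)
      simp only [Subgroup.coe_mul]
      exact this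
    · obtain ⟨a₀, ha₀, rfl⟩ := Subgroup.mem_map.mp ha
      have := hA₀e a₀ ha₀
      rw [← map_pow, this, map_one]
  have hA3 : p ^ 3 ≤ Nat.card A := by
    rw [hAdef, Subgroup.card_map_of_injective (Subgroup.subtype_injective _)]
    have hA₀p : IsPGroup p A₀ := hEp.to_subgroup A₀
    obtain ⟨k, hk⟩ := IsPGroup.iff_card.mp hA₀p
    rw [hk] at hA₀card ⊢
    have : 2 < k := (Nat.pow_lt_pow_iff_right hpp.one_lt).mp hA₀card
    exact Nat.pow_le_pow_right hpp.pos this
  set K := Cfsg.piCoreOf (Cfsg.primesNotDvd p) (Subgroup.centralizer (E : Set G)) with hKdef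
  have hKE : K ≤ Subgroup.centralizer (E : Set G) := Subgroup.map_subtype_le _
  have hK : ∀ Y : Subgroup G, Y ≤ Subgroup.centralizer (E : Set G) → (Nat.card Y).Coprime p → Y ≤ K :=
    fun Y hY hYc => Cfsg.Agent.Helper54.le_piCoreOf_centralizer p E hEp hEfull Y hY hYc
  have hcase : p ≠ 2 ∨ ∀ S : Sylow p G, ∀ x ∈ (S : Subgroup G), ∀ y ∈ (S : Subgroup G),
      ∀ z ∈ (S : Subgroup G), (x * y * x⁻¹ * y⁻¹) * z = z * (x * y * x⁻¹ * y⁻¹) := by
    by_cases hp2 : p = 2
    · right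
      intro S x hx y hy z hz
      obtain ⟨hn, hc⟩ := h2 hp2 S
      have htop : Subgroup.upperCentralSeries ↥(S : Subgroup G) 2 = ⊤ :=
        Subgroup.upperCentralSeries_eq_top_iff_nilpotencyClass_le.mpr hc
      have hx2 : (⟨x, hx⟩ : ↥(S : Subgroup G)) ∈ Subgroup.upperCentralSeries ↥(S : Subgroup G) (1 + 1) := by
        rw [show (1 + 1 : ℕ) = 2 from rfl, htop]; exact Subgroup.mem_top _
      have h3 := Subgroup.mem_upperCentralSeries_succ_iff.mp hx2 ⟨y, hy⟩
      rw [Subgroup.upperCentralSeries_one, Subgroup.mem_center_iff] at h3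
      have h4 := h3 ⟨z, hz⟩
      have h5 := congrArg Subtype.val h4
      simp only [Subgroup.coe_mul, commutatorElement_def, Subgroup.coe_inv] at h5
      exact h5.symm
    · left; exact hp2
  have hloc' : ∀ a ∈ A, a ≠ 1 → Cfsg.IsPConstrained p ↥(Subgroup.centralizer ({a} : Set G)) := by
    intro a haA ha1
    have hza : IsPGroup p (Subgroup.zpowers a) := hEp.to_le (Subgroup.zpowers_le.mpr (hAE haA))
    exact Cfsg.Agent.Helper54.isPConstrained_centralizer_singleton a hza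
      (hloc _ hza (Subgroup.zpowers_ne_bot.mpr ha1))
  have hconv : ∀ Q ∈ Cfsg.maxInvSubgroups ⊤ E {q}, Cfsg.Agent.Helper54.IsMaxInvQ E q Q := by
    intro Q hQ
    obtain ⟨⟨_, hQq, hEQ⟩, hmax⟩ := hQ
    refine ⟨isPGroup_of_primes q Q hQq, hEQ, fun R hRq hER hle => ?_⟩
    exact hmax R ⟨le_top, primes_of_isPGroup q R hRq, hER⟩ hle
  intro Q₁ hQ₁ Q₂ hQ₂
  obtain ⟨c, hc, hcQ⟩ := Cfsg.Agent.Helper54.transitivity_of_isPConstrained p E A K hEp hEc' hEfull
    hAE hA hA3 hKE hK hcase hloc' q hqp Q₁ Q₂ (hconv Q₁ hQ₁) (hconv Q₂ hQ₂)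
  exact ⟨c, hc, hcQ.symm⟩

end Cfsg.Agent.S1480
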