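import Cfsg.Statements.S1481
import Cfsg.Agent.Lib.Helper54.BenderLocalD

set_option autoImplicit false
open Cfsg

namespace Cfsg.Agent.S1481

open Subgroup in
/-- a subgroup all of whose prime divisors equal `q` is a `q`-group -/
theorem isPGroup_of_primes' {G : Type*} [Group G] [Finite G] (q : ℕ) [Fact q.Prime] (Q : Subgroup G)
    (h : ∀ r : ℕ, r.Prime → r ∣ Nat.card Q → r ∈ ({q} : Set ℕ)) : IsPGroup q Q := by
  have h1 : Nat.card Q = q ^ (Nat.card Q).primeFactorsList.length :=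
    Nat.eq_prime_pow_of_unique_prime_dvd Nat.card_pos.ne' (fun {d} hd hdvd => h d hd hdvd)
  exact IsPGroup.of_card h1

theorem primes_of_isPGroup' {G : Type*} [Group G] [Finite G] (q : ℕ) [hq : Fact q.Prime] (Q : Subgroup G)
    (h : IsPGroup q Q) : ∀ r : ℕ, r.Prime → r ∣ Nat.card Q → r ∈ ({q} : Set ℕ) := by
  intro r hr hrd
  obtain ⟨n, hn⟩ := IsPGroup.iff_card.mp h
  rw [hn] at hrd
  exact (Nat.prime_dvd_prime_iff_eq hr hq.out).mp (hr.dvd_of_dvd_pow hrd)

open Subgroup Cfsg.Agent.Helper54 Cfsg.Agent.Helper54.BenderLocal in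
open Cfsg.Agent.Helper52 (sylCard) in
open Cfsg.Agent.Helper54.SemiSimp (le_normalizer_inf le_normalizer_centralizer) in
/-- Let G be a finite group and H a local subgroup (the normalizer of a nontrivial subgroup of prime-power order) not properly contained in any local subgroup; let F = F(H), suppose at least two primes divide #F, put X = H ∩ C_G(F), let M ≤ F with F ∩ C_G(M) ≤ M, and let R be a solvable subgroup normalized by M and by X. Then for every prime q not dividing #F there is exactly one maximal M-invariant q-subgroup of R, and it is a Sylow q-subgroup of the largest normal subgroup of R of order coprime to #F. -/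
theorem result {G : Type*} [Group G] [Finite G] (H : Subgroup G) (hH : Cfsg.IsLocalSubgroup H) (hHmax : ∀ L : Subgroup G, Cfsg.IsLocalSubgroup L → H ≤ L → L = H)
    (hF2 : 2 ≤ (Nat.card (Cfsg.fittingOf H)).primeFactors.card)
    (M : Subgroup G) (hM : M ≤ Cfsg.fittingOf H) (hCM : Cfsg.fittingOf H ⊓ Subgroup.centralizer (M : Set G) ≤ M)
    (R : Subgroup G) (hR : Group.IsSolvable R) (hMR : M ≤ Subgroup.normalizer (R : Set G))
    (hXR : H ⊓ Subgroup.centralizer (Cfsg.fittingOf H : Set G) ≤ Subgroup.normalizer (R : Set G))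
    (q : ℕ) [Fact q.Prime] (hq : ¬ q ∣ Nat.card (Cfsg.fittingOf H)) :
    ∃! Q : Subgroup G, Q ∈ Cfsg.maxInvSubgroups R M {q} ∧
      (∀ Q' : Subgroup G, Q' ∈ Cfsg.maxInvSubgroups R M {q} →
        Q' ≤ Cfsg.piCoreOf (Cfsg.primesNotDvd (Nat.card (Cfsg.fittingOf H))) R ∧
        ¬ q ∣ Q'.relIndex (Cfsg.piCoreOf (Cfsg.primesNotDvd (Nat.card (Cfsg.fittingOf H))) R)) := by
  classical
  set F := Cfsg.fittingOf H with hF
  set π' := Cfsg.primesNotDvd (Nat.card F) with hπ'
  set K := Cfsg.piCoreOf π' R with hK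
  have hqp : q.Prime := Fact.out
  have hKR : K ≤ R := piCoreOf_le π' R
  have hMK : M ≤ normalizer (K : Set G) :=
    hMR.trans (normalizer_le_normalizer_map_of_characteristic R (Cfsg.piCore π' R))
  have hKpi := isPi_piCoreOf π' R
  have hKcopF : (Nat.card K).Coprime (Nat.card F) := coprime_of_isPi_primesNotDvd F K hKpi
  have hMcopK : (Nat.card M).Coprime (Nat.card K) :=
    Nat.Coprime.coprime_dvd_left (Subgroup.card_dvd_of_le hM) hKcopF.symm
  have hMsolv : Group.IsSolvable M :=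
    isSolvable_of_le hM (by have := isNilpotent_fittingOf H; infer_instance)
  -- every invariant `q`-subgroup lies in `K`
  have claimA : ∀ Q' ∈ Cfsg.invSubgroups R M {q}, Q' ≤ K := by
    rintro Q' ⟨hQ'R, hQ'pi, hMQ'⟩
    exact le_piCoreOf_of_invariant H M R hHmax hF2 hM hCM hR hMR hXR q hq Q' hQ'R
      (isPGroup_of_primes' q Q' hQ'pi) hMQ'
  -- `C_K(M) = 1`
  have hCKM : K ⊓ centralizer (M : Set G) = ⊥ := by
    obtain ⟨t, htpf⟩ : ∃ t, t ∈ (Nat.card F).primeFactors := by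
      apply Finset.card_pos.mp; omega
    have htp := (Nat.mem_primeFactors.mp htpf).1
    have htF := (Nat.mem_primeFactors.mp htpf).2.1
    have : Fact t.Prime := ⟨htp⟩
    obtain ⟨Z, hZne, hZp, hZM, hMZ, hZH, _⟩ := exists_Z H M hHmax hM hCM t htF
    apply eq_bot_of_invariant H M R hM hCM hR hXR
    · exact inf_le_right.trans ((centralizer_le hZM).trans hZH)
    · exact inf_le_left.trans hKR
    · exact le_normalizer_inf hMK (le_normalizer_centralizer le_normalizer)
    · exact Nat.Coprime.coprime_dvd_left (Subgroup.card_dvd_of_le inf_le_left) hKcopF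
  -- an invariant Sylow `q`-subgroup of `K`
  obtain ⟨Q0, hQ0K, hQ0card, hMQ0⟩ :=
    Cfsg.Agent.Helper52.exists_invariant_sylow M K hMK hMcopK (Or.inl hMsolv) q
  have hQ0q : IsPGroup q Q0 :=
    IsPGroup.of_card (show Nat.card Q0 = q ^ (Nat.card K).factorization q from hQ0card)
  have hQ0inv : Q0 ∈ Cfsg.invSubgroups R M {q} :=
    ⟨hQ0K.trans hKR, primes_of_isPGroup' q Q0 hQ0q, hMQ0⟩
  -- every maximal member is a Sylow subgroup of `K`
  have hmaxSyl : ∀ Q' ∈ Cfsg.maxInvSubgroups R M {q}, Q' ≤ K ∧ Nat.card Q' = sylCard q K := by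
    rintro Q' ⟨hQ'inv, hQ'max⟩
    have hQ'K := claimA Q' hQ'inv
    obtain ⟨hQ'R, hQ'pi, hMQ'⟩ := hQ'inv
    have hQ'q := isPGroup_of_primes' q Q' hQ'pi
    obtain ⟨Q2, hQ2K, hQ2card, hQ'Q2, hMQ2⟩ := Cfsg.Agent.Helper52.exists_invariant_sylow_ge M K hMK
      hMcopK (Or.inl hMsolv) q Q' hQ'K hQ'q hMQ'
    have hQ2q : IsPGroup q Q2 :=
      IsPGroup.of_card (show Nat.card Q2 = q ^ (Nat.card K).factorization q from hQ2card)
    have hQ2inv : Q2 ∈ Cfsg.invSubgroups R M {q} :=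
      ⟨hQ2K.trans hKR, primes_of_isPGroup' q Q2 hQ2q, hMQ2⟩
    have h := hQ'max Q2 hQ2inv hQ'Q2
    rw [← h]; exact ⟨hQ2K, hQ2card⟩
  -- `Q0` is maximal
  have hQ0max : Q0 ∈ Cfsg.maxInvSubgroups R M {q} := by
    refine ⟨hQ0inv, fun Q1 hQ1 hle => ?_⟩
    have hQ1K := claimA Q1 hQ1
    obtain ⟨_, hQ1pi, _⟩ := hQ1
    have hQ1q := isPGroup_of_primes' q Q1 hQ1pi
    obtain ⟨n, hn⟩ := IsPGroup.iff_card.mp hQ1q
    have hd : q ^ n ∣ Nat.card K := hn ▸ Subgroup.card_dvd_of_le hQ1K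
    have hn' : n ≤ (Nat.card K).factorization q :=
      (hqp.pow_dvd_iff_le_factorization Nat.card_pos.ne').mp hd
    have hc : Nat.card Q1 ≤ Nat.card Q0 := by
      rw [hn, hQ0card]
      exact Nat.pow_le_pow_right hqp.pos hn'
    exact (Subgroup.eq_of_le_of_card_ge hle hc).symm
  have hidx : ∀ Q' : Subgroup G, Q' ∈ Cfsg.maxInvSubgroups R M {q} →
      Q' ≤ K ∧ ¬ q ∣ Q'.relIndex K := by
    intro Q' hQ'
    obtain ⟨h1, h2⟩ := hmaxSyl Q' hQ'
    refine ⟨h1, ?_⟩
    have h3 := Cfsg.Agent.Helper52.card_mul_relIndex_eq h1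
    intro hdvd
    have h5 : q ^ (Nat.card K).factorization q * Q'.relIndex K = Nat.card K := by
      have h6 := h3
      rw [h2] at h6
      exact h6
    have h4 : q ^ ((Nat.card K).factorization q + 1) ∣ Nat.card K := by
      rw [pow_succ]
      calc q ^ (Nat.card K).factorization q * q
          ∣ q ^ (Nat.card K).factorization q * Q'.relIndex K := Nat.mul_dvd_mul_left _ hdvd
        _ = Nat.card K := h5
    exact Nat.pow_succ_factorization_not_dvd Nat.card_pos.ne' hqp h4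
  refine ⟨Q0, ⟨hQ0max, hidx⟩, ?_⟩
  rintro Q1 ⟨hQ1max, _⟩
  obtain ⟨h1K, h1c⟩ := hmaxSyl Q1 hQ1max
  have hMQ1 : M ≤ normalizer (Q1 : Set G) := hQ1max.1.2.2
  obtain ⟨c, hc, hcc⟩ := Cfsg.Agent.Helper52.exists_centralizer_conj_of_invariant M K hMK hMcopK
    (Or.inl hMsolv) q Q0 Q1 hQ0K h1K hQ0card h1c hMQ0 hMQ1
  rw [hCKM, mem_bot] at hc
  rw [hcc, hc]
  ext x
  simp

end Cfsg.Agent.S1481
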