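import Cfsg.Statements.S1484
import Mathlib
import Cfsg.Agent.Lib.Helper45.CNMax

set_option autoImplicit false
open Cfsg

namespace Cfsg.Agent.S1484

open Cfsg.Agent.Helper45.MaxNilp Cfsg.Agent.Helper45.CNMax Cfsg.Agent.Helper45.CNSimple

theorem prod_dvd_of_coprime' {ι : Type*} (t : Finset ι) (s : ι → ℕ) (z : ℕ)
    (Hs : ∀ i ∈ t, ∀ j ∈ t, i ≠ j → (s i).Coprime (s j)) (Hs1 : ∀ i ∈ t, s i ∣ z) :
    ∏ x ∈ t, s x ∣ z := by
  classical
  induction t using Finset.induction_on with
  | empty => simp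
  | insert a r har ih =>
    rw [Finset.prod_insert har]
    refine Nat.Coprime.mul_dvd_of_dvd_of_dvd ?_ ?_ ?_
    · apply Nat.Coprime.prod_right
      intro i hir
      exact Hs a (Finset.mem_insert_self a r) i (Finset.mem_insert_of_mem hir)
        (fun h => har (h ▸ hir))
    · exact Hs1 a (Finset.mem_insert_self a r)
    · exact ih (fun i hi j hj hij => Hs i (Finset.mem_insert_of_mem hi) j
        (Finset.mem_insert_of_mem hj) hij) (fun i hi => Hs1 i (Finset.mem_insert_of_mem hi))

/-- Let G be a minimal simple group of odd order in which every non-identity element has nilpotent centralizer, and M₁, …, M_k maximal subgroups, pairwise non-conjugate, such that every maximal subgroup is conjugate to some M_i. Let H_i be the largest normal nilpotent Hall subgroup of M_i. Then the orders of the H_i are pairwise coprime, their product is the order of G, and every element of G is conjugate to an element of some H_i. -/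
theorem result {G : Type*} [Group G] [Finite G] (hG : Cfsg.IsMinSimpleOddOrder G) (hCN : Cfsg.IsCNGroup G) (k : ℕ) (Mrep : Fin k → Subgroup G) (hmax : ∀ i, IsCoatom (Mrep i))
    (hnc : ∀ i j, i ≠ j → ∀ g : G, Mrep j ≠ (Mrep i).map (MulAut.conj g).toMonoidHom) (hall : ∀ M : Subgroup G, IsCoatom M → ∃ i, ∃ g : G, M = (Mrep i).map (MulAut.conj g).toMonoidHom) :
    (∀ i j, i ≠ j → (Nat.card (Cfsg.fittingHallOf (Mrep i))).Coprime (Nat.card (Cfsg.fittingHallOf (Mrep j)))) ∧
      ∏ i, Nat.card (Cfsg.fittingHallOf (Mrep i)) = Nat.card G ∧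
      ∀ x : G, ∃ i, ∃ g : G, g * x * g⁻¹ ∈ Cfsg.fittingHallOf (Mrep i) := by
  classical
  have hHi : ∀ i, IsMaxNilp (Cfsg.fittingHallOf (Mrep i)) := fun i =>
    fittingHallOf_isMaxNilp hG hCN (hmax i) (coatom_not_nilpotent hG hCN (hmax i))
  have hNi : ∀ i, Subgroup.normalizer (Cfsg.fittingHallOf (Mrep i) : Set G) = Mrep i := fun i =>
    normalizer_fittingHallOf hG hCN (hmax i)
  have hK : ∀ H : Subgroup G, IsMaxNilp H → ∃ i, ∃ g : G,
      H = (Cfsg.fittingHallOf (Mrep i)).map (MulAut.conj g).toMonoidHom := by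
    intro H hH
    obtain ⟨hcoat, hHeq⟩ := eq_fittingHallOf_normalizer hG hCN hH
    obtain ⟨i, g, hMg⟩ := hall _ hcoat
    refine ⟨i, g, ?_⟩
    have hH' := isMaxNilp_map_conj (hHi i) g
    obtain ⟨-, hH'eq⟩ := eq_fittingHallOf_normalizer hG hCN hH'
    have hN' : Subgroup.normalizer
        (((Cfsg.fittingHallOf (Mrep i)).map (MulAut.conj g).toMonoidHom : Subgroup G) : Set G) =
        Subgroup.normalizer (H : Set G) := by
      rw [Cfsg.Agent.Helper46.normalizer_map_conj, hNi i, ← hMg]
    rw [hN'] at hH'eq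
    rw [hH'eq]
    exact hHeq
  have hcop : ∀ i j, i ≠ j → (Nat.card (Cfsg.fittingHallOf (Mrep i))).Coprime
      (Nat.card (Cfsg.fittingHallOf (Mrep j))) := by
    intro i j hij
    by_contra hc
    obtain ⟨r, hr, hr₁, hr₂⟩ := Nat.Prime.not_coprime_iff_dvd.mp hc
    obtain ⟨g, hg⟩ := conj_of_common_prime hCN (hHi i) (hHi j) hr hr₁ hr₂
    apply hnc i j hij g
    rw [← hNi j, hg, Cfsg.Agent.Helper46.normalizer_map_conj, hNi i]
  refine ⟨hcop, ?_, ?_⟩
  · apply Nat.dvd_antisymm
    · apply prod_dvd_of_coprime'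
      · intro i _ j _ hij
        exact hcop i j hij
      · intro i _
        exact Subgroup.card_subgroup_dvd_card _
    · rw [Nat.dvd_iff_prime_pow_dvd_dvd]
      intro p n hp hpn
      have hpF : Fact p.Prime := ⟨hp⟩
      have hG0 : Nat.card G ≠ 0 := Nat.card_pos.ne'
      have hle : n ≤ (Nat.card G).factorization p :=
        (Nat.Prime.pow_dvd_iff_le_factorization hp hG0).mp hpn
      have hPnil : Group.IsNilpotent ((default : Sylow p G) : Subgroup G) :=
        (default : Sylow p G).isPGroup'.isNilpotent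
      obtain ⟨H, hH, hPH⟩ := exists_maxNilp hPnil
      obtain ⟨i, g, hHeq⟩ := hK H hH
      have h1 : p ^ n ∣ Nat.card ((default : Sylow p G) : Subgroup G) := by
        rw [Sylow.card_eq_multiplicity]
        exact pow_dvd_pow p hle
      have h2 : Nat.card ((default : Sylow p G) : Subgroup G) ∣ Nat.card H :=
        Subgroup.card_dvd_of_le hPH
      have h3 : Nat.card H = Nat.card (Cfsg.fittingHallOf (Mrep i)) := by
        rw [hHeq]
        exact Nat.card_congr ((Cfsg.fittingHallOf (Mrep i)).equivMapOfInjective _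
          (MulAut.conj g).injective).symm.toEquiv
      rw [h3] at h2
      exact (h1.trans h2).trans (Finset.dvd_prod_of_mem _ (Finset.mem_univ i))
  · intro x
    by_cases hx1 : x = 1
    · have hnt : (⊥ : Subgroup G) ≠ ⊤ := by
        intro h
        apply hG.2.2.1
        refine ⟨⟨fun a b => ?_⟩⟩
        have ha : a ∈ (⊥ : Subgroup G) := h ▸ Subgroup.mem_top a
        have hb : b ∈ (⊥ : Subgroup G) := h ▸ Subgroup.mem_top b
        rw [Subgroup.mem_bot] at ha hb
        rw [ha, hb]
      obtain ⟨M, hM, -⟩ := (eq_top_or_exists_le_coatom (⊥ : Subgroup G)).resolve_left hnt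
      obtain ⟨i, -, -⟩ := hall M hM
      refine ⟨i, 1, ?_⟩
      rw [hx1]
      simp
    · obtain ⟨H, hH, hle⟩ := exists_maxNilp (hCN x hx1)
      have hxH : x ∈ H := hle (by rw [Subgroup.mem_centralizer_singleton_iff])
      obtain ⟨i, g, hHeq⟩ := hK H hH
      rw [hHeq] at hxH
      obtain ⟨h, hh, hhx⟩ := Subgroup.mem_map.mp hxH
      have hhx' : g * h * g⁻¹ = x := hhx
      refine ⟨i, g⁻¹, ?_⟩
      have : g⁻¹ * x * g⁻¹⁻¹ = h := by
        rw [← hhx']
        group
      rw [this]
      exact hh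

end Cfsg.Agent.S1484
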