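import Cfsg.Statements.S1485
import Mathlib
import Cfsg.Agent.Lib.Helper81.CharClifford

set_option autoImplicit false
open Cfsg

namespace Cfsg.Agent.S1485

open Cfsg.Agent.Helper81

universe u

/-- the sum of all conjugates equals `|T|` times the sum of the distinct conjugates -/
theorem sum_conjFun {G : Type u} [Group G] [Fintype G] (H : Subgroup G) (hN : H.Normal) (θ : H → ℂ) :
    ∑ x : G, Helper81.conjFun H hN θ x =
      (Nat.card {g : G // Helper81.conjFun H hN θ g = θ} : ℂ) •
        ∑ᶠ ψ ∈ conjSet H hN θ, ψ := by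
  classical
  have hS := conjSet_finite H hN θ
  rw [finsum_mem_eq_finite_toFinset_sum _ hS]
  have himg : hS.toFinset = Finset.univ.image (Helper81.conjFun H hN θ) := by
    ext ψ
    simp only [Set.Finite.mem_toFinset, conjSet, Set.mem_ofPred_eq, Finset.mem_image, Finset.mem_univ,
      true_and]
    constructor
    · rintro ⟨g, rfl⟩; exact ⟨g, rfl⟩
    · rintro ⟨g, rfl⟩; exact ⟨g, rfl⟩
  rw [himg]
  have h1 := Finset.sum_comp (s := (Finset.univ : Finset G)) (f := fun ψ : H → ℂ => ψ)
    (g := Helper81.conjFun H hN θ)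
  rw [h1, Finset.smul_sum]
  apply Finset.sum_congr rfl
  intro ψ hψ
  rw [Finset.mem_image] at hψ
  obtain ⟨g₀, -, rfl⟩ := hψ
  have hcard : (Finset.univ.filter (fun x : G => Helper81.conjFun H hN θ x = Helper81.conjFun H hN θ g₀)).card
      = Nat.card {g : G // Helper81.conjFun H hN θ g = θ} := by
    rw [Nat.card_eq_fintype_card, Fintype.card_subtype]
    symm
    apply Finset.card_bij (fun t _ => t * g₀)
    · intro t ht
      simp only [Finset.mem_filter, Finset.mem_univ, true_and] at ht ⊢
      rw [← Helper81.conjFun_mul, ht]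
    · intro a _ b _ hab
      exact mul_right_cancel hab
    · intro x hx
      simp only [Finset.mem_filter, Finset.mem_univ, true_and] at hx ⊢
      refine ⟨x * g₀⁻¹, ?_, by group⟩
      rw [← Helper81.conjFun_mul, hx, Helper81.conjFun_mul, mul_inv_cancel, Helper81.conjFun_one]
  rw [hcard, Nat.cast_smul_eq_nsmul]

/-- Let H be a normal subgroup of the finite group G and θ an irreducible character of H. On H, the function induced from θ equals r times the sum of the distinct G-conjugates of θ, where r is the number of elements of G fixing θ under conjugation divided by the order of H (the index of H in the inertia group). -/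
theorem result {G : Type*} [Group G] [Fintype G] (H : Subgroup G) [hN : H.Normal] (θ : H → ℂ) (hθ : Cfsg.IsIrrCharacter H θ) : (fun h : H => Cfsg.indFun H θ h) = ((Nat.card {g : G // ∀ h : H, θ ⟨g * h * g⁻¹, hN.conj_mem h h.2 g⟩ = θ h} : ℂ) / (Nat.card H : ℂ)) • ∑ᶠ ψ ∈ {ψ : H → ℂ | ∃ g : G, ψ = fun h : H => θ ⟨g * h * g⁻¹, hN.conj_mem h h.2 g⟩}, ψ := by
  rw [indFun_restrict_normal H hN θ, sum_conjFun H hN θ]
  have hcard : Nat.card {g : G // Helper81.conjFun H hN θ g = θ} =
      Nat.card {g : G // ∀ h : H, θ ⟨g * h * g⁻¹, hN.conj_mem h h.2 g⟩ = θ h} := by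
    apply Nat.card_congr
    apply Equiv.subtypeEquivRight
    intro g
    constructor
    · intro h x
      exact congrFun h x
    · intro h
      funext x
      exact h x
  rw [hcard, smul_smul, div_eq_mul_inv, mul_comm]
  rfl

end Cfsg.Agent.S1485
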