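import Cfsg.Statements.S1488
import Mathlib
import Cfsg.Agent.Lib.Helper81.CharInd

set_option autoImplicit false
open Cfsg

namespace Cfsg.Agent.S1488

open Cfsg.Agent.Helper81

theorem sum_mk {G : Type*} [Group G] [Fintype G] (A : Subgroup G) [Fintype (G ⧸ A)]
    (F : G ⧸ A → ℂ) :
    ∑ x : G, F (QuotientGroup.mk x) = (Nat.card A : ℂ) * ∑ q : G ⧸ A, F q := by
  classical
  have h1 := Finset.sum_comp (s := (Finset.univ : Finset G)) (f := F)
    (g := (QuotientGroup.mk : G → G ⧸ A))
  rw [h1, Finset.mul_sum]
  have himg : (Finset.univ : Finset G).image (QuotientGroup.mk : G → G ⧸ A) = Finset.univ := by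
    apply Finset.eq_univ_of_forall
    intro q
    obtain ⟨x, rfl⟩ := QuotientGroup.mk_surjective q
    exact Finset.mem_image_of_mem _ (Finset.mem_univ x)
  rw [himg]
  apply Finset.sum_congr rfl
  intro q _
  obtain ⟨x₀, rfl⟩ := QuotientGroup.mk_surjective q
  have hcard : (Finset.univ.filter (fun x : G => (QuotientGroup.mk x : G ⧸ A) = QuotientGroup.mk x₀)).card
      = Nat.card A := by
    have : Fintype A := Fintype.ofFinite A
    rw [Nat.card_eq_fintype_card, ← Finset.card_univ]
    symm
    apply Finset.card_bij (fun (a : A) _ => x₀ * (a : G))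
    · intro a _
      simp only [Finset.mem_filter, Finset.mem_univ, true_and]
      rw [QuotientGroup.eq]
      simp
    · intro a _ b _ hab
      exact Subtype.ext (mul_left_cancel hab)
    · intro x hx
      simp only [Finset.mem_filter, Finset.mem_univ, true_and] at hx
      rw [QuotientGroup.eq] at hx
      have hx' : x₀⁻¹ * x ∈ A := by
        have := A.inv_mem hx
        simpa using this
      exact ⟨⟨x₀⁻¹ * x, hx'⟩, Finset.mem_univ _, by simp⟩
  rw [hcard, nsmul_eq_mul]

theorem card_eq {G : Type*} [Group G] [Finite G] (A H : Subgroup G) [A.Normal] (hAH : A ≤ H) :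
    Nat.card H = Nat.card A * Nat.card (H.map (QuotientGroup.mk' A)) := by
  set f : H →* G ⧸ A := (QuotientGroup.mk' A).domRestrict H with hf
  have h1 : Nat.card f.ker * f.ker.index = Nat.card H := Subgroup.card_mul_index _
  have h2 : f.ker.index = Nat.card f.range := Subgroup.index_ker f
  have h3 : f.range = H.map (QuotientGroup.mk' A) := MonoidHom.domRestrict_range H _
  have h4 : f.ker = A.subgroupOf H := by
    rw [hf, MonoidHom.ker_domRestrict, QuotientGroup.ker_mk']
  have h5 : Nat.card (A.subgroupOf H) = Nat.card A :=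
    Nat.card_congr (Subgroup.subgroupOfEquivOfLe hAH).toEquiv
  rw [← h1, h2, h3, h4, h5]

/-- Let A be a normal subgroup of the finite group G contained in the subgroup H, let θ be a function on H and θ₁ a function on the image of H in G ⧸ A whose composite with the projection is θ. Then the function induced from θ₁ to G ⧸ A, composed with the projection G → G ⧸ A, equals the function induced from θ to G. -/
theorem result {G : Type*} [Group G] [Fintype G] (A H : Subgroup G) [A.Normal] (hAH : A ≤ H) [Fintype (G ⧸ A)] [Fintype ↥(H.map (QuotientGroup.mk' A))] (θ : H → ℂ) (θ₁ : ↥(H.map (QuotientGroup.mk' A)) → ℂ) (hθ : ∀ x : H, θ₁ ⟨QuotientGroup.mk' A x, Subgroup.mem_map_of_mem _ x.2⟩ = θ x) (g : G) : Cfsg.indFun (H.map (QuotientGroup.mk' A)) θ₁ (QuotientGroup.mk' A g) = Cfsg.indFun H θ g := by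
  classical
  have hext : ∀ y : G, extendByZero H θ y =
      extendByZero (H.map (QuotientGroup.mk' A)) θ₁ (QuotientGroup.mk y) := by
    intro y
    by_cases hy : y ∈ H
    · have hy' : (QuotientGroup.mk y : G ⧸ A) ∈ H.map (QuotientGroup.mk' A) :=
        Subgroup.mem_map_of_mem _ hy
      rw [extendByZero_apply_mem H θ hy, extendByZero_apply_mem _ θ₁ hy']
      exact (hθ ⟨y, hy⟩).symm
    · have hy' : (QuotientGroup.mk y : G ⧸ A) ∉ H.map (QuotientGroup.mk' A) := by
        rintro ⟨h, hh, hhy⟩
        apply hy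
        have : h⁻¹ * y ∈ A := by
          rw [← QuotientGroup.eq]; exact hhy
        have e : y = h * (h⁻¹ * y) := by group
        rw [e]
        exact H.mul_mem hh (hAH this)
      rw [extendByZero_apply_not_mem H θ hy, extendByZero_apply_not_mem _ θ₁ hy']
  rw [indFun_apply, indFun_apply]
  have hsum : ∑ x : G, extendByZero H θ (x⁻¹ * g * x) =
      ∑ x : G, (fun q : G ⧸ A => extendByZero (H.map (QuotientGroup.mk' A)) θ₁
        (q⁻¹ * QuotientGroup.mk' A g * q)) (QuotientGroup.mk x) := by
    apply Finset.sum_congr rfl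
    intro x _
    rw [hext]
    rfl
  rw [hsum, sum_mk A (fun q : G ⧸ A => extendByZero (H.map (QuotientGroup.mk' A)) θ₁
        (q⁻¹ * QuotientGroup.mk' A g * q)), card_eq A H hAH]
  have hA : (Nat.card A : ℂ) ≠ 0 := by exact_mod_cast (Nat.card_pos (α := A)).ne'
  have hHbar : (Nat.card (H.map (QuotientGroup.mk' A)) : ℂ) ≠ 0 := by
    exact_mod_cast (Nat.card_pos (α := (H.map (QuotientGroup.mk' A)))).ne'
  push_cast
  field_simp

end Cfsg.Agent.S1488
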