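import Cfsg.Statements.S1489
import Cfsg.Agent.Lib.Helper81.CharCorr

set_option autoImplicit false
open Cfsg

namespace Cfsg.Agent.S1489

open Cfsg.Agent.Helper81 in
theorem aux {G : Type*} [Group G] [Fintype G] (H T : Subgroup G) [Fintype H] [Fintype T]
    (hHT : H ≤ T) (θ : H → ℂ) (ψ : T → ℂ) (hψ : Cfsg.IsIrrCharacter T ψ)
    (hc : Cfsg.classInner (Cfsg.indFun (H.subgroupOf T)
      (fun x => θ ⟨(x : T), Subgroup.mem_subgroupOf.mp x.2⟩)) ψ ≠ 0) :
    Cfsg.classInner (resTo hHT ψ) θ ≠ 0 := by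
  haveI : Fintype (H.subgroupOf T) := Fintype.ofFinite _
  have hψc := isClassFunction_of_isCharacter (IsIrrCharacter.isCharacter hψ)
  rw [frobenius_reciprocity (H.subgroupOf T) _ hψc, classInner_conj_symm] at hc
  have h1 : Cfsg.classInner (fun h' : H.subgroupOf T => ψ h')
      (fun x => θ ⟨(x : T), Subgroup.mem_subgroupOf.mp x.2⟩) = Cfsg.classInner (resTo hHT ψ) θ :=
    classInner_comp_equiv (Subgroup.subgroupOfEquivOfLe hHT) (resTo hHT ψ) θ
  rw [h1] at hc
  intro h0
  rw [h0] at hc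
  simp at hc

/-- Let H be a normal subgroup of the finite group G, θ an irreducible character of H, and T the inertia group of θ (the elements g with θ(g h g⁻¹) = θ(h) for all h ∈ H). If ψ and ψ' are irreducible characters of T having nonzero inner product with the function induced from θ to T, then the function induced from ψ to G is an irreducible character of G, and it equals the one induced from ψ' only if ψ = ψ'. -/
theorem result {G : Type*} [Group G] [Fintype G] (H T : Subgroup G) [hN : H.Normal] [Fintype T] (θ : H → ℂ) (hθ : Cfsg.IsIrrCharacter H θ) (hT : ∀ g : G, g ∈ T ↔ ∀ h : H, θ ⟨g * h * g⁻¹, hN.conj_mem h h.2 g⟩ = θ h) (hHT : H ≤ T) (ψ ψ' : T → ℂ) (hψ : Cfsg.IsIrrCharacter T ψ) (hψ' : Cfsg.IsIrrCharacter T ψ') (hc : Cfsg.classInner (Cfsg.indFun (H.subgroupOf T) (fun x => θ ⟨(x : T), Subgroup.mem_subgroupOf.mp x.2⟩)) ψ ≠ 0) (hc' : Cfsg.classInner (Cfsg.indFun (H.subgroupOf T) (fun x => θ ⟨(x : T), Subgroup.mem_subgroupOf.mp x.2⟩)) ψ'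 ≠ 0) : Cfsg.IsIrrCharacter G (Cfsg.indFun T ψ) ∧ (Cfsg.indFun T ψ = Cfsg.indFun T ψ' → ψ = ψ') := by
  haveI : Fintype H := Fintype.ofFinite _
  have hT' : ∀ g : G, g ∈ T ↔ Cfsg.Agent.Helper81.conjFun H hN θ g = θ := by
    intro g
    rw [hT g]
    constructor
    · intro h; funext n; exact h n
    · intro h n; exact congrFun h n
  have h1 := aux H T hHT θ ψ hψ hc
  have h2 := aux H T hHT θ ψ' hψ' hc'
  exact ⟨(Cfsg.Agent.Helper81.clifford_corr_irr H T hN hHT hθ hT' hψ h1).1,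
    Cfsg.Agent.Helper81.clifford_corr_inj H T hN hHT hθ hT' hψ hψ' h1 h2⟩

end Cfsg.Agent.S1489
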