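import Cfsg.Statements.S1492
import Cfsg.Agent.Lib.Helper79.Scalar

set_option autoImplicit false
open Cfsg

namespace Cfsg.Agent.S1492

open Cfsg.Agent.Helper79

/-- natural-number form -/
theorem aux {G : Type*} [Group G] [Finite G] (χ : IrrCharacter G) (B C D : Subgroup G)
    (hDC : D ≤ C)
    (hcent : ∀ d ∈ D, ∀ c ∈ C, d * c * d⁻¹ * c⁻¹ ∈ B)
    (hker : ∀ b ∈ B, b ∈ C → (χ : G → ℂ) b = (χ : G → ℂ) 1) :
    (charDegree (χ : G → ℂ)) ^ 2 * Nat.card C * Nat.card D ≤ (Nat.card G) ^ 2 := by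
  classical
  obtain ⟨n, hexp, hsq⟩ := res_expansion χ C
  set d := charDegree (χ : G → ℂ) with hd
  set c := Nat.card C with hc
  set e := Nat.card D with he
  have hcpos : 0 < c := Nat.card_pos
  -- the image of `B ∩ C` in `C`
  set B' : Set C := {x : C | (x : G) ∈ B} with hB'
  have hcons : ∀ θ : IrrCharacter C, n θ ≠ 0 → ∀ b ∈ B', (θ : C → ℂ) b = (θ : C → ℂ) 1 := by
    intro θ hθ b hb
    exact constituent_trivial_of_eq_one χ C n hexp b (hker _ hb b.2) θ hθ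
  have hDcard : Nat.card (D.subgroupOf C) = e :=
    Nat.card_congr (Subgroup.subgroupOfEquivOfLe hDC).toEquiv
  have hdeg : ∀ θ : IrrCharacter C, n θ ≠ 0 → e * (charDegree (θ : C → ℂ)) ^ 2 ≤ c := by
    intro θ hθ
    have := card_mul_sq_le_of_commutators θ B' (hcons θ hθ) (D.subgroupOf C) (by
      intro x hx g
      exact hcent _ hx _ g.2)
    rwa [hDcard] at this
  -- degree formula
  have hdsum : d = ∑ ψ : IrrCharacter C, n ψ * charDegree (ψ : C → ℂ) := by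
    have h1 := hexp 1
    rw [Subgroup.coe_one, (irr_one_eq χ).1] at h1
    have h2 : ((d : ℕ) : ℂ) = ((∑ ψ : IrrCharacter C, n ψ * charDegree (ψ : C → ℂ) : ℕ) : ℂ) := by
      rw [h1]
      push_cast
      apply Finset.sum_congr rfl
      intro ψ _
      rw [(irr_one_eq ψ).1]
    exact_mod_cast h2
  set supp := Finset.univ.filter (fun ψ : IrrCharacter C => n ψ ≠ 0) with hsupp
  have hdsum' : d = ∑ ψ ∈ supp, n ψ * charDegree (ψ : C → ℂ) := by
    rw [hdsum, hsupp, Finset.sum_filter]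
    apply Finset.sum_congr rfl
    intro ψ _
    by_cases h : n ψ = 0
    · simp [h]
    · simp [h]
  set S := ∑ ψ : IrrCharacter C, (n ψ) ^ 2 with hS
  set S1 := ∑ ψ ∈ supp, (n ψ) ^ 2 with hS1
  set T := ∑ ψ ∈ supp, (charDegree (ψ : C → ℂ)) ^ 2 with hT
  have h1 : d ^ 2 ≤ S1 * T := by
    rw [hdsum']
    exact Finset.sum_mul_sq_le_sq_mul_sq supp _ _
  have h2 : S1 ≤ S := Finset.sum_le_sum_of_subset_of_nonneg (Finset.filter_subset _ _)
    (fun _ _ _ => Nat.zero_le _)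
  have h3 : e * T ≤ supp.card * c := by
    rw [hT, Finset.mul_sum]
    calc ∑ ψ ∈ supp, e * (charDegree (ψ : C → ℂ)) ^ 2 ≤ ∑ ψ ∈ supp, c :=
          Finset.sum_le_sum (fun ψ hψ => hdeg ψ (Finset.mem_filter.1 hψ).2)
      _ = supp.card * c := by rw [Finset.sum_const, smul_eq_mul]
  have h4 : supp.card ≤ S1 := by
    rw [hS1, Finset.card_eq_sum_ones]
    apply Finset.sum_le_sum
    intro ψ hψ
    have : n ψ ≠ 0 := (Finset.mem_filter.1 hψ).2
    exact Nat.one_le_iff_ne_zero.2 (pow_ne_zero 2 this)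
  -- combine: d² e ≤ S1 (e T) ≤ S · S · c, so d² e c ≤ (S c)² ≤ |G|²
  calc d ^ 2 * c * e ≤ (S1 * T) * c * e := by
        exact Nat.mul_le_mul_right _ (Nat.mul_le_mul_right _ h1)
    _ = S1 * (e * T) * c := by ring
    _ ≤ S * (supp.card * c) * c :=
        Nat.mul_le_mul_right _ (Nat.mul_le_mul h2 h3)
    _ ≤ S * (S * c) * c :=
        Nat.mul_le_mul_right _ (Nat.mul_le_mul_left _ (Nat.mul_le_mul_right _ (h4.trans h2)))
    _ = (S * c) ^ 2 := by ring
    _ ≤ (Nat.card G) ^ 2 := Nat.pow_le_pow_left hsq 2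

/-- Let ψ be an irreducible character of the finite group G and B ≤ D ≤ C subgroups with B normal in C, every commutator of an element of D with an element of C lying in B (so D/B is central in C/B), and ψ constant equal to ψ 1 on B. Then ψ(1) ^ 2 * |C| * |D| ≤ |G| ^ 2. -/
theorem result {G : Type*} [Group G] [Finite G] (ψ : G → ℂ) (hψ : Cfsg.IsIrrCharacter G ψ) (B C D : Subgroup G) (hBD : B ≤ D) (hDC : D ≤ C) (hBn : ∀ c ∈ C, ∀ b ∈ B, c * b * c⁻¹ ∈ B) (hcent : ∀ d ∈ D, ∀ c ∈ C, d * c * d⁻¹ * c⁻¹ ∈ B) (hker : ∀ b ∈ B, ψ b = ψ 1) : ‖ψ 1‖ ^ 2 * (Nat.card C : ℝ) * (Nat.card D : ℝ) ≤ (Nat.card G : ℝ) ^ 2 := by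
  set χ : IrrCharacter G := ⟨ψ, hψ⟩ with hχ
  have h := aux χ B C D hDC hcent (fun b hb _ => hker b hb)
  have h1 : ψ 1 = (charDegree (χ : G → ℂ) : ℂ) := (irr_one_eq χ).1
  rw [h1, Complex.norm_natCast]
  exact_mod_cast h

end Cfsg.Agent.S1492
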