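import Cfsg.Statements.S1494
import Mathlib
import Cfsg.Agent.Lib.Helper81.CharInd
import Cfsg.Agent.Lib.Helper15.LinearChar
import Cfsg.Agent.Lib.Helper79.CharBasic
import Cfsg.Agent.S0187

set_option autoImplicit false
set_option linter.style.haveILetI false
open Cfsg

namespace Cfsg.Agent.S1494

open Cfsg.Agent.Helper81

/-- The statement for an honest character. -/
theorem character_case {G : Type*} [Group G] [Finite G] (χ : G → ℂ) (hχ : Cfsg.IsCharacter G χ)
    (p : ℕ) (hp : p.Prime) (x y : G) (hx : orderOf x = p) (hxy : x * y = y * x) :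
    ∃ ω : ℂ, IsIntegral ℤ ω ∧
      χ (x * y) - χ y = (1 - Complex.exp (2 * Real.pi * Complex.I / p)) * ω := by
  classical
  set ε : ℂ := Complex.exp (2 * Real.pi * Complex.I / p) with hε
  have hprim : IsPrimitiveRoot ε p := Complex.isPrimitiveRoot_exp p hp.ne_zero
  have hεint : IsIntegral ℤ ε := hprim.isIntegral hp.pos
  haveI : NeZero p := ⟨hp.ne_zero⟩
  -- the abelian subgroup generated by x and y
  set A : Subgroup G := Subgroup.closure {x, y} with hA
  have hxA : x ∈ A := Subgroup.subset_closure (by simp)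
  have hyA : y ∈ A := Subgroup.subset_closure (by simp)
  have hcommS : ∀ a ∈ ({x, y} : Set G), ∀ b ∈ ({x, y} : Set G), a * b = b * a := by
    intro a ha b hb
    simp only [Set.mem_insert_iff, Set.mem_singleton_iff] at ha hb
    rcases ha with rfl | rfl <;> rcases hb with rfl | rfl
    · rfl
    · exact hxy
    · exact hxy.symm
    · rfl
  have hmc : IsMulCommutative A := Subgroup.isMulCommutative_closure hcommS
  have hcommA : ∀ a b : A, a * b = b * a := fun a b => hmc.is_comm.comm a b
  haveI : Fintype A := Fintype.ofFinite A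
  haveI : Fintype (IrrCharacter A) := @Fintype.ofFinite _ irr_finite
  have hres : IsCharacter A (fun a : A => χ a) := isCharacter_restrict A hχ
  obtain ⟨m, hm⟩ := exists_nat_decomp hres
  set x' : A := ⟨x, hxA⟩ with hx'
  set y' : A := ⟨y, hyA⟩ with hy'
  have hlin : ∀ lam : IrrCharacter A, IsCharacter A (lam : A → ℂ) ∧ (lam : A → ℂ) 1 = 1 :=
    fun lam => ⟨IsIrrCharacter.isCharacter lam.2, (Cfsg.Agent.S0187.result.mp hcommA) lam⟩
  have hmul : ∀ (lam : IrrCharacter A) (a b : A),
      (lam : A → ℂ) (a * b) = (lam : A → ℂ) a * (lam : A → ℂ) b :=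
    fun lam a b => Cfsg.Agent.Helper15.linear_char_mul _ (hlin lam) a b
  -- λ(x)^p = 1
  have hxp : ∀ lam : IrrCharacter A, (lam : A → ℂ) x' ^ p = 1 := by
    intro lam
    have h1 := map_pow (Cfsg.Agent.Helper15.linearCharHom _ (hlin lam)) x' p
    have h2 : x' ^ p = 1 := by
      apply Subtype.ext
      show x ^ p = 1
      rw [← hx]; exact pow_orderOf_eq_one x
    rw [h2, map_one] at h1
    exact h1.symm
  have hex : ∀ lam : IrrCharacter A, ∃ j : ℕ, j < p ∧ ε ^ j = (lam : A → ℂ) x' :=
    fun lam => hprim.eq_pow_of_pow_eq_one (hxp lam)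
  choose j _ hj using hex
  -- the algebraic integer
  refine ⟨∑ lam : IrrCharacter A, (m lam : ℂ) *
    (-(∑ l ∈ Finset.range (j lam), ε ^ l) * (lam : A → ℂ) y'), ?_, ?_⟩
  · apply IsIntegral.sum
    intro lam _
    apply IsIntegral.mul (isIntegral_natCast _)
    apply IsIntegral.mul
    · apply IsIntegral.neg
      apply IsIntegral.sum
      intro l _
      exact hεint.pow l
    · exact Cfsg.Agent.Helper79.irr_isIntegral lam y'
  · have h1 : χ (x * y) = ∑ lam : IrrCharacter A, (m lam : ℂ) * ((lam : A → ℂ) x' * (lam : A → ℂ) y') := by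
      have := congrFun hm (x' * y')
      simp only [Finset.sum_apply, Pi.smul_apply, smul_eq_mul] at this
      rw [show χ (x * y) = χ ((x' * y' : A) : G) from rfl, this]
      exact Finset.sum_congr rfl fun lam _ => by rw [hmul]
    have h2 : χ y = ∑ lam : IrrCharacter A, (m lam : ℂ) * (lam : A → ℂ) y' := by
      have := congrFun hm y'
      simp only [Finset.sum_apply, Pi.smul_apply, smul_eq_mul] at this
      exact this
    rw [h1, h2, ← Finset.sum_sub_distrib, Finset.mul_sum]
    refine Finset.sum_congr rfl fun lam _ => ?_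
    rw [← hj lam]
    have hgeom : ε ^ (j lam) - 1 = (∑ l ∈ Finset.range (j lam), ε ^ l) * (ε - 1) :=
      (geom_sum_mul ε (j lam)).symm
    have : ε ^ (j lam) = 1 + (∑ l ∈ Finset.range (j lam), ε ^ l) * (ε - 1) := by
      rw [← hgeom]; ring
    rw [this]
    ring

/-- If x has prime order p and commutes with y, then for every generalized character χ the difference χ(xy) − χ(y) is (1 − ε) times an algebraic integer, ε a primitive p-th root of unity. -/
theorem result {G : Type*} [Group G] [Finite G] (χ : G → ℂ) (hχ : Cfsg.IsGeneralizedCharacter G χ) (p : ℕ) (hp : p.Prime) (x y : G) (hx : orderOf x = p) (hxy : x * y = y * x) : ∃ ω : ℂ, IsIntegral ℤ ω ∧ χ (x * y) - χ y = (1 - Complex.exp (2 * Real.pi * Complex.I / p)) * ω := by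
  obtain ⟨α, β, hα, hβ, rfl⟩ := hχ
  obtain ⟨ω₁, h1, h1'⟩ := character_case α hα p hp x y hx hxy
  obtain ⟨ω₂, h2, h2'⟩ := character_case β hβ p hp x y hx hxy
  refine ⟨ω₁ - ω₂, h1.sub h2, ?_⟩
  simp only [Pi.sub_apply]
  rw [mul_sub, ← h1', ← h2']
  ring

end Cfsg.Agent.S1494
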