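import Cfsg.Statements.S1495
import Mathlib

set_option autoImplicit false
open Cfsg

namespace Cfsg.Agent.S1495

open Finset

/-- if `n = (1 - ζ) ω` with `ω` integral and `ζ` a primitive `p`-th root of unity then `p ∣ n` -/
theorem dvd_of_primitiveRoot (p : ℕ) (hp : p.Prime) (ζ : ℂ) (hζ : IsPrimitiveRoot ζ p) (n : ℤ) (ω : ℂ)
    (hω : IsIntegral ℤ ω) (h : (n : ℂ) = (1 - ζ) * ω) : (p : ℤ) ∣ n := by
  obtain ⟨q, rfl⟩ : ∃ q, p = q + 1 := ⟨p - 1, by have := hp.pos; omega⟩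
  have hζint : IsIntegral ℤ ζ := hζ.isIntegral (by omega)
  have hprod := hζ.prod_one_sub_pow_eq_order
  -- for each k, n = (1 - ζ^(k+1)) * ω_k
  have hk : ∀ k ∈ range q, ∃ ωk : ℂ, IsIntegral ℤ ωk ∧ (n : ℂ) = (1 - ζ ^ (k + 1)) * ωk := by
    intro k hk
    rw [mem_range] at hk
    have hcop : Nat.Coprime (k + 1) (q + 1) := by
      rw [Nat.coprime_comm]
      apply (Nat.Prime.coprime_iff_not_dvd hp).mpr
      intro hdvd
      have := Nat.le_of_dvd (by omega) hdvd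
      omega
    obtain ⟨m, -, hm⟩ := Nat.exists_mul_mod_eq_one_of_coprime hcop hp.one_lt
    have hζm : (ζ ^ (k + 1)) ^ m = ζ := by
      rw [← pow_mul]
      have hdm := Nat.div_add_mod ((k + 1) * m) (q + 1)
      rw [hm] at hdm
      rw [← hdm, pow_succ, pow_mul, hζ.pow_eq_one, one_pow, one_mul]
    refine ⟨(∑ i ∈ range m, (ζ ^ (k + 1)) ^ i) * ω, ?_, ?_⟩
    · apply IsIntegral.mul _ hω
      apply IsIntegral.sum
      intro i _
      exact (hζint.pow _).pow _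
    · rw [h, ← mul_assoc, mul_neg_geom_sum, hζm]
  choose! ωk hωk hnk using hk
  have hpow : (n : ℂ) ^ q = ((q + 1 : ℕ) : ℂ) * ∏ k ∈ range q, ωk k := by
    calc (n : ℂ) ^ q = ∏ k ∈ range q, (n : ℂ) := by simp
      _ = ∏ k ∈ range q, ((1 - ζ ^ (k + 1)) * ωk k) := by
        apply prod_congr rfl
        intro k hk
        exact hnk k hk
      _ = (∏ k ∈ range q, (1 - ζ ^ (k + 1))) * ∏ k ∈ range q, ωk k := prod_mul_distrib
      _ = ((q + 1 : ℕ) : ℂ) * ∏ k ∈ range q, ωk k := by rw [hprod]; push_cast; rfl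
  have hΩ : IsIntegral ℤ (∏ k ∈ range q, ωk k) := IsIntegral.prod _ (fun k hk => hωk k hk)
  have hpne : ((q + 1 : ℕ) : ℂ) ≠ 0 := by exact_mod_cast hp.ne_zero
  have hΩeq : ∏ k ∈ range q, ωk k = algebraMap ℚ ℂ ((n : ℚ) ^ q / ((q + 1 : ℕ) : ℚ)) := by
    have : ∏ k ∈ range q, ωk k = (n : ℂ) ^ q / ((q + 1 : ℕ) : ℂ) := by
      rw [eq_div_iff hpne, mul_comm]; exact hpow.symm
    rw [this]
    simp
  rw [hΩeq] at hΩ
  have hΩ' : IsIntegral ℤ ((n : ℚ) ^ q / ((q + 1 : ℕ) : ℚ)) :=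
    (isIntegral_algebraMap_iff (algebraMap ℚ ℂ).injective).mp hΩ
  obtain ⟨y, hy⟩ := IsIntegrallyClosed.isIntegral_iff.mp hΩ'
  have hpneQ : ((q + 1 : ℕ) : ℚ) ≠ 0 := by exact_mod_cast hp.ne_zero
  have hnq : n ^ q = ((q + 1 : ℕ) : ℤ) * y := by
    have : ((n ^ q : ℤ) : ℚ) = (((q + 1 : ℕ) : ℤ) * y : ℤ) := by
      push_cast
      rw [eq_div_iff hpneQ] at hy
      simp only [algebraMap_int_eq, eq_intCast] at hy
      push_cast at hy
      rw [← hy]; ring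
    exact_mod_cast this
  have hdvd : ((q + 1 : ℕ) : ℤ) ∣ n ^ q := ⟨y, hnq⟩
  exact Int.Prime.dvd_pow' hp hdvd

/-- Let p be a prime, ε = exp(2πi/p), and n an integer such that n = (1 − ε) * ω for some algebraic integer ω. Then p divides n. -/
theorem result (p : ℕ) (hp : p.Prime) (n : ℤ) (ω : ℂ) (hω : IsIntegral ℤ ω) (h : (n : ℂ) = (1 - Complex.exp (2 * Real.pi * Complex.I / p)) * ω) : (p : ℤ) ∣ n := by
  exact dvd_of_primitiveRoot p hp _ (Complex.isPrimitiveRoot_exp p hp.ne_zero) n ω hω h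

end Cfsg.Agent.S1495
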