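import Cfsg.Statements.S1497
import Mathlib

set_option autoImplicit false
open Cfsg

namespace Cfsg.Agent.S1497

theorem mem_L_of_conj {G : Type*} [Group G] (A : Set G) (L : Subgroup G)
    (hD : Cfsg.DadeHypothesis A L (fun _ => ⊥)) (g a : G) (ha : a ∈ A) (hga : g * a * g⁻¹ ∈ A) :
    g ∈ L := by
  obtain ⟨x, hxL, hx⟩ := hD.fusion a ha g hga
  have hc : x⁻¹ * g ∈ Subgroup.centralizer ({a} : Set G) := by
    rw [Subgroup.mem_centralizer_singleton_iff]
    have : a = x⁻¹ * (g * a * g⁻¹) * x := by rw [← hx]; group
    calc x⁻¹ * g * a = x⁻¹ * (g * a * g⁻¹) * x * (x⁻¹ * g) := by group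
      _ = a * (x⁻¹ * g) := by rw [← this]
  have h2 := hD.sup_eq a ha
  simp only [bot_sup_eq] at h2
  rw [← h2] at hc
  have h3 : x⁻¹ * g ∈ L := hc.1
  have : g = x * (x⁻¹ * g) := by group
  rw [this]
  exact L.mul_mem hxL h3

/-- Let A be a nonempty subset of the finite group G not containing 1 and L a subgroup. Then A is a TI-subset whose normaliser is L if and only if the Dade hypothesis holds for A, L and the constant choice H(a) = ⊥. -/
theorem result {G : Type*} [Group G] [Finite G] (A : Set G) (hA : A.Nonempty) (h1 : (1 : G) ∉ A) (L : Subgroup G) : (Cfsg.IsTISubset A ∧ Subgroup.normalizer A = L) ↔ Cfsg.DadeHypothesis A L (fun _ => ⊥) := by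
  constructor
  · rintro ⟨hTI, hN⟩
    have key : ∀ g a : G, a ∈ A → g * a * g⁻¹ ∈ A → g ∈ L := by
      intro g a ha hga
      by_contra hg
      rw [← hN] at hg
      have := hTI g hg a ha hga
      rw [this] at ha
      exact h1 ha
    refine
      { one_not_mem := h1
        subset := ?_
        conj_mem := ?_
        fusion := ?_
        le_centralizer := ?_
        conj_mem_H := ?_
        inf_eq_bot := ?_
        sup_eq := ?_
        coprime := ?_ }
    · intro a ha
      apply key a a ha
      simpa using ha
    · intro x hx a ha
      rw [← hN] at hx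
      exact (Subgroup.mem_set_normalizer_iff.mp hx a).mp ha
    · intro a ha g hga
      exact ⟨g, key g a ha hga, rfl⟩
    · intro a ha
      exact bot_le
    · intro a ha c hc u hu
      rw [Subgroup.mem_bot] at hu
      subst hu
      simp
    · intro a ha
      simp
    · intro a ha
      simp only [bot_sup_eq]
      apply le_antisymm inf_le_right
      intro c hc
      refine ⟨?_, hc⟩
      apply key c a ha
      rw [Subgroup.mem_centralizer_singleton_iff] at hc
      have : c * a * c⁻¹ = a := by rw [hc]; group
      rw [this]; exact ha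
    · intro a ha b hb
      simp
  · intro hD
    have hN : Subgroup.normalizer A = L := by
      apply le_antisymm
      · intro g hg
        obtain ⟨a, ha⟩ := hA
        exact mem_L_of_conj A L hD g a ha ((Subgroup.mem_set_normalizer_iff.mp hg a).mp ha)
      · intro x hx
        rw [Subgroup.mem_set_normalizer_iff]
        intro n
        constructor
        · intro hn
          exact hD.conj_mem x hx n hn
        · intro hn
          have := hD.conj_mem x⁻¹ (L.inv_mem hx) _ hn
          have e : x⁻¹ * (x * n * x⁻¹) * x⁻¹⁻¹ = n := by group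
          rw [e] at this
          exact this
    refine ⟨?_, hN⟩
    intro g hg x hx hgx
    exfalso
    apply hg
    rw [hN]
    exact mem_L_of_conj A L hD g x hx hgx

end Cfsg.Agent.S1497
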