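import Cfsg.Statements.S1500
import Mathlib
import Cfsg.Agent.Lib.Helper25.Dade

set_option autoImplicit false
open Cfsg

namespace Cfsg.Agent.S1500

open scoped ComplexConjugate

theorem part_two {G : Type*} [Group G] [Fintype G] (A : Set G) (L : Subgroup G) [Fintype L]
    (H : G → Subgroup G) (hD : Cfsg.DadeHypothesis A L H) (α : L → ℂ)
    (hα : Cfsg.IsClassFunction L α) (hαA : ∀ x : L, (x : G) ∉ A → α x = 0)
    (χ : G → ℂ) (ψ : L → ℂ) (hχ : Cfsg.IsClassFunction G χ)
    (hψ : ∀ a : L, (a : G) ∈ A → ψ a = (Nat.card (H a) : ℂ)⁻¹ * ∑ᶠ u ∈ (H a : Set G), χ (a * u)) :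
    Cfsg.classInner (Cfsg.dadeIsometry A L H α) χ = Cfsg.classInner α ψ := by
  classical
  obtain ⟨F, hFdef⟩ : ∃ F : G → ℂ, F = fun g => Cfsg.dadeIsometry A L H α g * conj (χ g) :=
    ⟨_, rfl⟩
  have hτc := Helper25.dadeIsometry_isClassFunction hD α hα
  have hF : ∀ g x : G, F (x * g * x⁻¹) = F g := by
    intro g x
    rw [hFdef]
    show Cfsg.dadeIsometry A L H α (x * g * x⁻¹) * conj (χ (x * g * x⁻¹)) = _
    rw [hτc g x, hχ g x]
  have hF0 : ∀ g : G, (if Helper25.InD A H g then F g else 0) = F g := by
    intro g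
    split_ifs with h
    · rfl
    · rw [hFdef]
      show (0 : ℂ) = Cfsg.dadeIsometry A L H α g * conj (χ g)
      rw [Helper25.dadeIsometry_apply_of_not α (fun h' => h ((Helper25.inD_iff hD g).mpr h')),
        zero_mul]
  have hsum := Helper25.dade_sum (K := ℂ) hD F hF
  rw [Finset.sum_congr rfl (fun g _ => hF0 g)] at hsum
  have hterm : ∀ a : L, (if (a : G) ∈ A then
      ((Nat.card (H a) : ℂ))⁻¹ * ∑ u : G, (if u ∈ H a then F ((a : G) * u) else 0) else 0)
      = α a * conj (ψ a) := by
    intro a
    split_ifs with ha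
    · rw [hψ a ha, Helper25.finsum_mem_eq_sum_ite, map_mul, map_inv₀, map_natCast, map_sum]
      rw [mul_comm (α a), mul_assoc]
      congr 1
      rw [Finset.sum_mul]
      apply Finset.sum_congr rfl
      intro u _
      by_cases hu : u ∈ H a
      · rw [if_pos hu, if_pos (show u ∈ (H a : Set G) from hu), hFdef]
        show Cfsg.dadeIsometry A L H α ((a : G) * u) * conj (χ ((a : G) * u)) = _
        rw [Helper25.dadeIsometry_apply hD α hα a ha hu (x := 1) (by group)]
        ring
      · rw [if_neg hu, if_neg (show ¬ u ∈ (H a : Set G) from hu), map_zero, zero_mul]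
    · rw [hαA a ha, zero_mul]
  rw [Finset.sum_congr rfl (fun a _ => hterm a)] at hsum
  unfold Cfsg.classInner
  have hL : (Nat.card L : ℂ) ≠ 0 := by exact_mod_cast (Nat.card_pos (α := L)).ne'
  have hG : (Nat.card G : ℂ) ≠ 0 := by exact_mod_cast (Nat.card_pos (α := G)).ne'
  have e : ∑ g : G, Cfsg.dadeIsometry A L H α g * conj (χ g) = ∑ g : G, F g := by
    rw [hFdef]
  rw [e]
  field_simp
  linear_combination hsum

/-- Under the Dade hypothesis for (A, L, H), let α be a class function of L vanishing outside A. Then (i) for every class function β of L vanishing outside A, the inner product over G of the Dade images of α and β equals the inner product of α and β over L; and (ii) for every class function χ of G and every function ψ on L whose value at each a ∈ A is the average of χ over the coset a·H(a), the inner product over G of the Dade image of α with χ equals the inner product over L of α with ψ. -/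
theorem result {G : Type*} [Group G] [Fintype G] (A : Set G) (L : Subgroup G) [Fintype L] (H : G → Subgroup G) (hD : Cfsg.DadeHypothesis A L H) (α : L → ℂ) (hα : Cfsg.IsClassFunction L α) (hαA : ∀ x : L, (x : G) ∉ A → α x = 0) : (∀ β : L → ℂ, Cfsg.IsClassFunction L β → (∀ x : L, (x : G) ∉ A → β x = 0) → Cfsg.classInner (Cfsg.dadeIsometry A L H α) (Cfsg.dadeIsometry A L H β) = Cfsg.classInner α β) ∧ (∀ (χ : G → ℂ) (ψ : L → ℂ), Cfsg.IsClassFunction G χ → (∀ a : L, (a : G) ∈ A → ψ a = (Nat.card (H a) : ℂ)⁻¹ * ∑ᶠ u ∈ (H a : Set G), χ (a * u)) → Cfsg.classInner (Cfsg.dadeIsometry A L H α) χ = Cfsg.classInner α ψ) := by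
  classical
  constructor
  · intro β hβ hβA
    apply part_two A L H hD α hα hαA (Cfsg.dadeIsometry A L H β) β
      (Helper25.dadeIsometry_isClassFunction hD β hβ)
    intro a ha
    rw [Helper25.finsum_mem_eq_sum_ite]
    have : ∀ u : G, (if u ∈ (H a : Set G) then Cfsg.dadeIsometry A L H β ((a : G) * u) else 0)
        = if u ∈ (H a : Set G) then β a else 0 := by
      intro u
      split_ifs with hu
      · exact Helper25.dadeIsometry_apply hD β hβ a ha hu (x := 1) (by group)
      · rfl
    rw [Finset.sum_congr rfl (fun u _ => this u), ← Finset.sum_filter, Finset.sum_const,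
      nsmul_eq_mul]
    have hcard : (Finset.univ.filter (fun u : G => u ∈ (H a : Set G))).card = Nat.card (H a) := by
      rw [Nat.card_eq_fintype_card]
      exact (Fintype.card_of_subtype _ (by simp)).symm
    rw [hcard]
    have hne : (Nat.card (H a) : ℂ) ≠ 0 := by
      exact_mod_cast (Nat.card_pos (α := H a)).ne'
    rw [← mul_assoc, inv_mul_cancel₀ hne, one_mul]
  · intro χ ψ hχ hψ
    exact part_two A L H hD α hα hαA χ ψ hχ hψ

end Cfsg.Agent.S1500
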