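import Cfsg.Statements.S1501
import Mathlib
import Cfsg.Agent.S1500
import Cfsg.Agent.Lib.Helper25.DadeVC

set_option autoImplicit false
open Cfsg

namespace Cfsg.Agent.S1501

open scoped ComplexConjugate

theorem sum_subgroup_eq_sum_ite {G : Type*} [Group G] [Fintype G] (K : Subgroup G) [Fintype K]
    [DecidablePred (· ∈ K)] (f : G → ℂ) :
    ∑ u : K, f u = ∑ u : G, if u ∈ K then f u else 0 := by
  rw [← Finset.sum_filter]
  exact (Finset.sum_subtype (Finset.univ.filter (· ∈ K)) (by simp) f).symm

/-- Under the Dade hypothesis for (A, L, H): if α is a generalized character of L vanishing outside A, then its image under the Dade map is a generalized character of G. -/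
theorem result {G : Type*} [Group G] [Fintype G] (A : Set G) (L : Subgroup G) [Fintype L] (H : G → Subgroup G) (hD : Cfsg.DadeHypothesis A L H) (α : L → ℂ) (hα : Cfsg.IsGeneralizedCharacter L α) (hαA : ∀ x : L, (x : G) ∉ A → α x = 0) : Cfsg.IsGeneralizedCharacter G (Cfsg.dadeIsometry A L H α) := by
  classical
  have hαc : IsClassFunction L α := by
    obtain ⟨χ₁, χ₂, h₁, h₂, rfl⟩ := hα
    intro g h
    show χ₁ _ - χ₂ _ = χ₁ _ - χ₂ _
    rw [Helper81.isClassFunction_of_isCharacter h₁ g h,
      Helper81.isClassFunction_of_isCharacter h₂ g h]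
  have : Fintype (IrrCharacter G) := @Fintype.ofFinite _ Helper81.irr_finite
  have hcf := Helper25.dadeIsometry_isClassFunction hD α hαc
  have hint : ∀ χ : IrrCharacter G, ∃ m : ℤ,
      classInner (dadeIsometry A L H α) (χ : G → ℂ) = (m : ℂ) := by
    intro χ
    have hχ : IsCharacter G (χ : G → ℂ) := Cfsg.Agent.Helper81.IsIrrCharacter.isCharacter χ.2
    have hχc : IsClassFunction G (χ : G → ℂ) := Helper81.isClassFunction_of_isCharacter hχ
    obtain ⟨ψ, hψ⟩ : ∃ ψ : L → ℂ, ∀ a : L, ψ a =
        (Nat.card (H a) : ℂ)⁻¹ * ∑ᶠ u ∈ (H a : Set G), (χ : G → ℂ) (a * u) := ⟨_, fun _ => rfl⟩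
    have h1 := (Cfsg.Agent.S1500.result A L H hD α hαc hαA).2 (χ : G → ℂ) ψ hχc
      (fun a _ => hψ a)
    obtain ⟨m, hm⟩ := Helper25.dade_inner_int hD hα hαA hχ
    refine ⟨m, ?_⟩
    rw [h1]
    unfold classInner
    have hconj : ∀ a : L, conj (ψ a) = Helper25.dAvg (χ : G → ℂ) (H a) a := by
      intro a
      rw [hψ, Helper25.finsum_mem_eq_sum_ite, map_mul, map_inv₀, map_natCast, map_sum]
      unfold Helper25.dAvg
      congr 1
      rw [sum_subgroup_eq_sum_ite (H a) (fun u => conj ((χ : G → ℂ) ((a : G) * u)))]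
      apply Finset.sum_congr rfl
      intro u _
      by_cases hu : u ∈ H a
      · rw [if_pos hu, if_pos (show u ∈ (H a : Set G) from hu)]
      · rw [if_neg hu, if_neg (show ¬ u ∈ (H a : Set G) from hu), map_zero]
    rw [Finset.sum_congr rfl (fun a _ => by rw [hconj a]), hm]
    have hL : (Nat.card L : ℂ) ≠ 0 := by exact_mod_cast (Nat.card_pos (α := L)).ne'
    field_simp
  choose m hm using hint
  rw [Helper81.class_function_expansion hcf]
  rw [Finset.sum_congr rfl (fun χ _ => by rw [hm χ])]
  exact Helper82.isGeneralizedCharacter_int_comb m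

end Cfsg.Agent.S1501
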