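import Cfsg.Statements.S1503
import Mathlib
import Cfsg.Agent.Lib.Helper25.DualProd

set_option autoImplicit false
open Cfsg

namespace Cfsg.Agent.S1503

/-- Let W₁, W₂ ≤ G with W = W₁ ⊔ W₂ and let χ an orthonormal family of irreducible characters of G up to sign, indexed by the linear characters ω of W, with χ_1 = 1, χ_ω = ω on W outside W₁ ∪ W₂, and the induction identity for (1 − φ)(1 − ψ). If θ is an irreducible character of G orthogonal to χ ω for every linear character ω of W, then θ vanishes at every element of W lying outside W₁ ∪ W₂. -/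
theorem result {G : Type*} [Group G] [Fintype G] (W₁ W₂ : Subgroup G) (hW : Cfsg.IsSelfNormalizingCyclic W₁ W₂) (χ : (↥(W₁ ⊔ W₂) →* ℂˣ) → (G → ℂ)) (hχ : Cfsg.IsCyclicTIFamily W₁ W₂ χ) (θ : G → ℂ) (hθ : Cfsg.IsIrrCharacter G θ) (horth : ∀ ω, Cfsg.classInner θ (χ ω) = 0) (w : ↥(W₁ ⊔ W₂)) (hw₁ : (w : G) ∉ W₁) (hw₂ : (w : G) ∉ W₂) : θ w = 0 := by
  classical
  have hinf := hW.2.2.1
  have hcomm := hW.2.2.2.1
  have hcyc : IsCyclic ↥(W₁ ⊔ W₂) := hW.2.2.2.2.1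
  have hcommW : ∀ a b : ↥(W₁ ⊔ W₂), a * b = b * a :=
    isMulCommutative_iff.mp IsCyclic.isMulCommutative
  have : Fintype ↥(W₁ ⊔ W₂) := Fintype.ofFinite _
  have : Fintype (↥(W₁ ⊔ W₂) →* ℂˣ) := Fintype.ofFinite _
  have hθc : IsClassFunction G θ := Helper81.isClassFunction_of_isCharacter (Helper81.IsIrrCharacter.isCharacter hθ)
  obtain ⟨f, hf⟩ : ∃ f : ↥(W₁ ⊔ W₂) → ℂ, f = fun v : ↥(W₁ ⊔ W₂) => θ (v : G) := ⟨_, rfl⟩
  obtain ⟨c, hc⟩ : ∃ c : (↥(W₁ ⊔ W₂) →* ℂˣ) → ℂ, c = fun ω => classInner f (Helper25.cf ω) :=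
    ⟨_, rfl⟩
  -- rectangle identity
  have hrect : ∀ φ ψ : ↥(W₁ ⊔ W₂) →* ℂˣ, (∀ v : ↥(W₁ ⊔ W₂), (v : G) ∈ W₂ → φ v = 1) →
      (∀ v : ↥(W₁ ⊔ W₂), (v : G) ∈ W₁ → ψ v = 1) → c (φ * ψ) = c φ + c ψ - c 1 := by
    intro φ ψ hφ hψ
    by_cases hφ1 : φ = 1
    · subst hφ1
      have e : (1 : ↥(W₁ ⊔ W₂) →* ℂˣ) * ψ = ψ := one_mul ψ
      rw [e]; ring
    by_cases hψ1 : ψ = 1
    · subst hψ1
      have e : φ * (1 : ↥(W₁ ⊔ W₂) →* ℂˣ) = φ := mul_one φ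
      rw [e]; ring
    have h1 := hχ.induced_eq φ ψ hφ1 hψ1 hφ hψ
    have h2 : indFun (W₁ ⊔ W₂) (Helper25.alphaFun W₁ W₂ φ ψ) = χ 1 - χ φ - χ ψ + χ (φ * ψ) := by
      unfold Helper25.alphaFun
      rw [h1, hχ.map_one]
      funext g
      simp
    have h3 : classInner θ (indFun (W₁ ⊔ W₂) (Helper25.alphaFun W₁ W₂ φ ψ)) = 0 := by
      rw [h2, Helper81.classInner_add_right, Helper25.classInner_sub_right,
        Helper25.classInner_sub_right, horth, horth, horth, horth]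
      ring
    rw [Helper81.classInner_conj_symm, Helper81.frobenius_reciprocity _ _ hθc] at h3
    have h4 : classInner (Helper25.alphaFun W₁ W₂ φ ψ) f = 0 := by
      have := (map_eq_zero (starRingEnd ℂ)).mp h3
      rw [hf]; exact this
    rw [Helper81.classInner_conj_symm, Helper25.alphaFun_eq_cf, Helper81.classInner_add_right,
      Helper25.classInner_sub_right, Helper25.classInner_sub_right] at h4
    have h5 := (map_eq_zero (starRingEnd ℂ)).mp h4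
    rw [hc]
    show classInner f (Helper25.cf (φ * ψ)) = classInner f (Helper25.cf φ)
      + classInner f (Helper25.cf ψ) - classInner f (Helper25.cf 1)
    linear_combination h5
  -- the two subgroups of the dual
  obtain ⟨P₁, hP₁⟩ : ∃ P₁ : Finset (↥(W₁ ⊔ W₂) →* ℂˣ),
      ∀ φ, φ ∈ P₁ ↔ ∀ v : ↥(W₁ ⊔ W₂), (v : G) ∈ W₂ → φ v = 1 :=
    ⟨Finset.univ.filter (fun φ => ∀ v : ↥(W₁ ⊔ W₂), (v : G) ∈ W₂ → φ v = 1), by simp⟩
  obtain ⟨P₂, hP₂⟩ : ∃ P₂ : Finset (↥(W₁ ⊔ W₂) →* ℂˣ),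
      ∀ ψ, ψ ∈ P₂ ↔ ∀ v : ↥(W₁ ⊔ W₂), (v : G) ∈ W₁ → ψ v = 1 :=
    ⟨Finset.univ.filter (fun ψ => ∀ v : ↥(W₁ ⊔ W₂), (v : G) ∈ W₁ → ψ v = 1), by simp⟩
  have hS₁ : ∑ φ ∈ P₁, ((φ w : ℂˣ) : ℂ) = 0 := by
    apply Helper25.sum_triv_eq_zero {v : ↥(W₁ ⊔ W₂) | (v : G) ∈ W₂} P₁ hP₁ w
    obtain ⟨φ, h1, h2⟩ := Helper25.exists_ne_one_left W₁ W₂ hinf hcomm hcyc w hw₂
    exact ⟨φ, (hP₁ φ).mpr h1, h2⟩
  have hS₂ : ∑ ψ ∈ P₂, ((ψ w : ℂˣ) : ℂ) = 0 := by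
    apply Helper25.sum_triv_eq_zero {v : ↥(W₁ ⊔ W₂) | (v : G) ∈ W₁} P₂ hP₂ w
    obtain ⟨ψ, h1, h2⟩ := Helper25.exists_ne_one_right W₁ W₂ hinf hcomm hcyc w hw₁
    exact ⟨ψ, (hP₂ ψ).mpr h1, h2⟩
  have hmain : θ w = f w := by rw [hf]
  rw [hmain, Helper25.dual_complete hcommW f w,
    Helper25.sum_dual_prod W₁ W₂ hinf hcomm hcyc P₁ P₂ hP₁ hP₂]
  have h6 : ∀ φ ∈ P₁, ∑ ψ ∈ P₂, classInner f (Helper25.cf (φ * ψ)) * (((φ * ψ) w : ℂˣ) : ℂ)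
      = (c φ - c 1) * ((φ w : ℂˣ) : ℂ) * ∑ ψ ∈ P₂, ((ψ w : ℂˣ) : ℂ)
        + ((φ w : ℂˣ) : ℂ) * ∑ ψ ∈ P₂, c ψ * ((ψ w : ℂˣ) : ℂ) := by
    intro φ hφ
    rw [Finset.mul_sum, Finset.mul_sum, ← Finset.sum_add_distrib]
    apply Finset.sum_congr rfl
    intro ψ hψ
    have := hrect φ ψ ((hP₁ φ).mp hφ) ((hP₂ ψ).mp hψ)
    rw [hc] at this
    simp only at this
    rw [this, MonoidHom.mul_apply, Units.val_mul, hc]
    ring
  rw [Finset.sum_congr rfl h6, hS₂]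
  simp only [mul_zero, zero_add]
  rw [← Finset.sum_mul, hS₁, zero_mul]

end Cfsg.Agent.S1503
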