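import Cfsg.Statements.S1507
import Mathlib
import Cfsg.Agent.Lib.Helper25.DualProd2
import Cfsg.Agent.Lib.Helper25.MatrixLemma

set_option autoImplicit false
open Cfsg

namespace Cfsg.Agent.S1507

open Classical in
/-- Let W₁, W₂ ≤ G form a self-normalising cyclic subgroup W = W₁ ⊔ W₂ of odd order with Nat.card W₁ < Nat.card W₂, and χ an orthonormal family of irreducible characters of G up to sign, indexed by the linear characters ω of W, with χ_1 = 1, χ_ω = ω on W outside W₁ ∪ W₂, and the induction identity for (1 − φ)(1 − ψ). Let θ be a class function of G vanishing on W outside W₁ ∪ W₂, and suppose fewer than 2 · Nat.card W₁ linear characters ω of W have ⟨θ, χ ω⟩ ≠ 0. Then one of: all ⟨θ, χ ω⟩ vanish; or there are ψ₀ and a with ⟨θ, χ ω⟩ = a when ω ψ₀⁻¹ is trivial on W₂ and 0 otherwise; or there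 are φ₀ and a with ⟨θ, χ ω⟩ = a when ω φ₀⁻¹ is trivial on W₁ and 0 otherwise. -/
theorem result {G : Type*} [Group G] [Fintype G] (W₁ W₂ : Subgroup G) (hW : Cfsg.IsSelfNormalizingCyclic W₁ W₂) (hodd : Odd (Nat.card ↥(W₁ ⊔ W₂))) (χ : (↥(W₁ ⊔ W₂) →* ℂˣ) → (G → ℂ)) (hχ : Cfsg.IsCyclicTIFamily W₁ W₂ χ) (hlt : Nat.card W₁ < Nat.card W₂) (θ : G → ℂ) (hθ : Cfsg.IsClassFunction G θ) (hθV : ∀ w : ↥(W₁ ⊔ W₂), (w : G) ∉ W₁ → (w : G) ∉ W₂ → θ w = 0) (hfew : Nat.card {ω : ↥(W₁ ⊔ W₂) →* ℂˣ // Cfsg.classInner θ (χ ω) ≠ 0} < 2 * Nat.card W₁) : (∀ ω, Cfsg.classInner θ (χ ω) = 0) ∨ (∃ (ψ₀ : ↥(W₁ ⊔ W₂) →* ℂˣ) (a : ℂ), ∀ ω, Cfsg.classInner θ (χ ω) = if (∀ w : ↥(W₁ ⊔ W₂), (w : G) ∈ W₂ → (ω * ψ₀⁻¹) w = 1) then a else 0) ∨ (∃ (φ₀ : ↥(W₁ ⊔ W₂) →* ℂˣ) (a : ℂ), ∀ ω, Cfsg.classInner θ (χ ω) = if (∀ w : ↥(W₁ ⊔ W₂), (w : G)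 ∈ W₁ → (ω * φ₀⁻¹) w = 1) then a else 0) := by
  classical
  have hinf := hW.2.2.1
  have hcomm := hW.2.2.2.1
  have hcyc : IsCyclic ↥(W₁ ⊔ W₂) := hW.2.2.2.2.1
  have : Fintype ↥(W₁ ⊔ W₂) := Fintype.ofFinite _
  have : Fintype (↥(W₁ ⊔ W₂) →* ℂˣ) := Fintype.ofFinite _
  obtain ⟨a, ha⟩ : ∃ a : (↥(W₁ ⊔ W₂) →* ℂˣ) → ℂ, a = fun ω => classInner θ (χ ω) := ⟨_, rfl⟩
  have ha' : ∀ ω, classInner θ (χ ω) = a ω := fun ω => by rw [ha]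
  have hrect : ∀ φ ψ : ↥(W₁ ⊔ W₂) →* ℂˣ, (∀ v : ↥(W₁ ⊔ W₂), (v : G) ∈ W₂ → φ v = 1) →
      (∀ v : ↥(W₁ ⊔ W₂), (v : G) ∈ W₁ → ψ v = 1) → a (φ * ψ) = a φ + a ψ - a 1 := by
    intro φ ψ hφ hψ
    rw [ha]
    exact Helper25.coeff_mul W₁ W₂ χ hχ θ hθ hθV φ ψ hφ hψ
  obtain ⟨P₁, hP₁⟩ : ∃ P₁ : Finset (↥(W₁ ⊔ W₂) →* ℂˣ),
      ∀ φ, φ ∈ P₁ ↔ ∀ v : ↥(W₁ ⊔ W₂), (v : G) ∈ W₂ → φ v = 1 :=
    ⟨Finset.univ.filter (fun φ => ∀ v : ↥(W₁ ⊔ W₂), (v : G) ∈ W₂ → φ v = 1), by simp⟩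
  obtain ⟨P₂, hP₂⟩ : ∃ P₂ : Finset (↥(W₁ ⊔ W₂) →* ℂˣ),
      ∀ ψ, ψ ∈ P₂ ↔ ∀ v : ↥(W₁ ⊔ W₂), (v : G) ∈ W₁ → ψ v = 1 :=
    ⟨Finset.univ.filter (fun ψ => ∀ v : ↥(W₁ ⊔ W₂), (v : G) ∈ W₁ → ψ v = 1), by simp⟩
  obtain ⟨hc1, hc2⟩ := Helper25.card_triv W₁ W₂ hinf hcomm hcyc P₁ P₂ hP₁ hP₂
  have hcardW := Helper25.card_sup_of_comm W₁ W₂ hinf hcomm
  rw [hcardW] at hodd
  obtain ⟨ho1, ho2⟩ := Nat.odd_mul.mp hodd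
  have hge : Nat.card W₁ + 2 ≤ Nat.card W₂ := by
    obtain ⟨k₁, hk₁⟩ := ho1
    obtain ⟨k₂, hk₂⟩ := ho2
    omega
  obtain ⟨f, hf⟩ : ∃ f : ↥P₁ → ℂ, f = fun i => a i.1 - a 1 := ⟨_, rfl⟩
  obtain ⟨g, hg⟩ : ∃ g : ↥P₂ → ℂ, g = fun j => a j.1 := ⟨_, rfl⟩
  have hM : ∀ (i : ↥P₁) (j : ↥P₂), f i + g j = a (i.1 * j.1) := by
    intro i j
    rw [hrect i.1 j.1 ((hP₁ _).mp i.2) ((hP₂ _).mp j.2), hf, hg]
    ring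
  have hcount : Helper25.nzCount f g = Nat.card {ω : ↥(W₁ ⊔ W₂) →* ℂˣ // classInner θ (χ ω) ≠ 0} := by
    rw [Nat.card_eq_fintype_card, Fintype.card_subtype, Finset.card_filter,
      Helper25.sum_dual_prod W₁ W₂ hinf hcomm hcyc P₁ P₂ hP₁ hP₂]
    unfold Helper25.nzCount
    rw [Finset.card_filter, Fintype.sum_prod_type]
    rw [← Finset.sum_coe_sort P₁]
    apply Finset.sum_congr rfl
    intro i _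
    rw [← Finset.sum_coe_sort P₂]
    apply Finset.sum_congr rfl
    intro j _
    rw [hM i j, ha' (i.1 * j.1)]
  have hlem := Helper25.matrix_lemma f g
    (by rw [Fintype.card_coe, Fintype.card_coe, hc1, hc2]; exact hge)
    (by rw [hcount, Fintype.card_coe, hc1]; exact hfew)
  obtain ⟨p₁, p₂, A1, A2, A3, A4⟩ := Helper25.exists_decomp W₁ W₂ hinf hcomm hcyc
  have hω : ∀ ω, classInner θ (χ ω) = f ⟨p₁ ω, (hP₁ _).mpr (A1 ω)⟩ + g ⟨p₂ ω, (hP₂ _).mpr (A2 ω)⟩ := by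
    intro ω
    rw [hM, ha']
    show a ω = a (p₁ ω * p₂ ω)
    rw [A3 ω]
  rcases hlem with h | ⟨j₁, a₀, h⟩ | ⟨i₁, a₀, h⟩
  · left
    intro ω
    rw [hω ω]
    exact h _ _
  · right; left
    refine ⟨j₁.1, a₀, fun ω => ?_⟩
    rw [hω ω, h]
    have hiff := Helper25.mul_inv_triv_right_iff W₁ W₂ hcomm (p₁ ω) (p₂ ω) j₁.1 (A1 ω) (A2 ω)
      ((hP₂ _).mp j₁.2)
    rw [A3 ω] at hiff
    by_cases hc : p₂ ω = j₁.1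
    · rw [if_pos (Subtype.ext hc), if_pos (hiff.mpr hc)]
    · rw [if_neg (fun h' => hc (congrArg Subtype.val h')), if_neg (fun h' => hc (hiff.mp h'))]
  · right; right
    refine ⟨i₁.1, a₀, fun ω => ?_⟩
    rw [hω ω, h]
    have hiff := Helper25.mul_inv_triv_left_iff W₁ W₂ hcomm (p₁ ω) (p₂ ω) i₁.1 (A1 ω) (A2 ω)
      ((hP₁ _).mp i₁.2)
    rw [A3 ω] at hiff
    by_cases hc : p₁ ω = i₁.1
    · rw [if_pos (Subtype.ext hc), if_pos (hiff.mpr hc)]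
    · rw [if_neg (fun h' => hc (congrArg Subtype.val h')), if_neg (fun h' => hc (hiff.mp h'))]

end Cfsg.Agent.S1507
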