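import Cfsg.Statements.S1508
import Mathlib
import Cfsg.Agent.Lib.Helper25.CyclicTwist
import Cfsg.Agent.Lib.Helper79.Glaub.Cyclo

set_option autoImplicit false
open Cfsg

namespace Cfsg.Agent.S1508

theorem int_of_stable {G : Type*} [Group G] [Fintype G] {n : ℕ} (ρ : Representation ℂ G (Fin n → ℂ))
    (g : G) (hstab : ∀ k : ℕ, k.Coprime (orderOf g) → ρ.character (g ^ k) = ρ.character g) :
    ∃ z : ℤ, ρ.character g = z := by
  obtain ⟨μ, hμ1, hμ2⟩ := Helper75.exists_eigenvalues ρ g (orderOf g) (orderOf_pos g)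
    (pow_orderOf_eq_one g)
  have h1 : ρ.character g = ∑ i, μ i := by
    have := hμ2 1
    simp only [pow_one] at this
    exact this
  obtain ⟨z, hz⟩ := Helper79.Glaub.int_of_galois_stable (orderOf g) (orderOf_pos g) μ
    (fun _ => 1) hμ1 (by
      intro k hk
      simp only [Nat.cast_one, one_mul]
      rw [← hμ2 k, ← h1]
      exact hstab k hk)
  refine ⟨z, ?_⟩
  rw [h1, ← hz]
  simp only [Nat.cast_one, one_mul]

/-- Let W₁, W₂ ≤ G form a self-normalising cyclic subgroup W = W₁ ⊔ W₂ of odd order and χ an orthonormal family of irreducible characters of G up to sign, indexed by the linear characters ω of W, with χ_1 = 1, χ_ω = ω on W outside W₁ ∪ W₂, and the induction identity for (1 − φ)(1 − ψ). Let ω be a linear character of W and g an element of G whose order is coprime to the order of ω. Then χ ω g is an integer. -/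
theorem result {G : Type*} [Group G] [Fintype G] (W₁ W₂ : Subgroup G) (hW : Cfsg.IsSelfNormalizingCyclic W₁ W₂) (hodd : Odd (Nat.card ↥(W₁ ⊔ W₂))) (χ : (↥(W₁ ⊔ W₂) →* ℂˣ) → (G → ℂ)) (hχ : Cfsg.IsCyclicTIFamily W₁ W₂ χ) (ω : ↥(W₁ ⊔ W₂) →* ℂˣ) (g : G) (hg : Nat.Coprime (orderOf g) (orderOf ω)) : ∃ n : ℤ, χ ω g = n := by
  classical
  have htw : ∀ k : ℕ, k.Coprime (Nat.card G) → ∀ x : G, χ ω (x ^ k) = χ (ω ^ k) x :=
    fun k hk x => congrFun (Helper25.family_twist hW hodd hχ hk ω) x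
  have hstab : ∀ k : ℕ, k.Coprime (orderOf g) → χ ω (g ^ k) = χ ω g := by
    intro k hk
    obtain ⟨k', hk'n, hk'd, hk'e⟩ := Helper25.exists_coprime_lift_crt (n := Nat.card G)
      (d := orderOf g) (e := orderOf ω) (Nat.card_pos (α := G)).ne' (orderOf_dvd_natCard g)
      (Helper25.hom_orderOf_dvd ω) hg k hk
    have e1 : g ^ k' = g ^ k := pow_eq_pow_iff_modEq.mpr hk'd
    have e2 : ω ^ k' = ω := by
      have h1 : k' % orderOf ω = 1 % orderOf ω := hk'e
      rw [← pow_mod_orderOf ω k', h1, pow_mod_orderOf ω 1]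
      exact pow_one ω
    rw [← e1, htw k' hk'n g, e2]
  rcases hχ.irr_or_neg ω with ⟨n, ρ, _, hρχ⟩ | ⟨n, ρ, _, hρχ⟩
  · obtain ⟨z, hz⟩ := int_of_stable ρ g (by
      intro k hk
      rw [hρχ]
      exact hstab k hk)
    refine ⟨z, ?_⟩
    rw [← hz, hρχ]
  · obtain ⟨z, hz⟩ := int_of_stable ρ g (by
      intro k hk
      rw [hρχ]
      show -(χ ω (g ^ k)) = -(χ ω g)
      rw [hstab k hk])
    refine ⟨-z, ?_⟩
    rw [hρχ] at hz
    have hz' : -(χ ω g) = (z : ℂ) := hz
    push_cast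
    rw [← hz', neg_neg]

end Cfsg.Agent.S1508
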