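import Cfsg.Statements.S1509
import Mathlib
import Cfsg.Agent.Lib.Helper81.CharCore

set_option autoImplicit false
open Cfsg

namespace Cfsg.Agent.S1509

open Cfsg.Agent.Helper81
open scoped ComplexConjugate

universe u

variable {X : Type u} [Group X]

theorem signed (α : X → ℂ) (h : Cfsg.IsIrrCharacter X α ∨ Cfsg.IsIrrCharacter X (-α)) :
    ∃ (ε : ℝ) (μ : X → ℂ), (ε = 1 ∨ ε = -1) ∧ Cfsg.IsIrrCharacter X μ ∧ α = (ε : ℂ) • μ := by
  rcases h with h | h
  · exact ⟨1, α, Or.inl rfl, h, by simp⟩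
  · refine ⟨-1, -α, Or.inr rfl, h, ?_⟩
    ext x
    simp

theorem degree_pos {μ : X → ℂ} (h : Cfsg.IsIrrCharacter X μ) : ∃ d : ℝ, 0 < d ∧ μ 1 = (d : ℂ) := by
  obtain ⟨n, ρ, hρ, rfl⟩ := h
  refine ⟨n, ?_, ?_⟩
  · have hnt := nontrivial_of_isIrreducible ρ
    rcases Nat.eq_zero_or_pos n with h0 | h0
    · subst h0
      exact absurd hnt (not_nontrivial_iff_subsingleton.mpr inferInstance)
    · exact_mod_cast h0
  · rw [Representation.char_one]; simp

theorem classInner_sub_right' [Fintype X] (φ ψ₁ ψ₂ : X → ℂ) :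
    classInner φ (ψ₁ - ψ₂) = classInner φ ψ₁ - classInner φ ψ₂ := by
  simp only [classInner, Pi.sub_apply, map_sub, mul_sub, Finset.sum_sub_distrib]

open scoped Classical in
theorem inner_signed [Fintype X] (ε ε' : ℝ) {μ μ' : X → ℂ} (hμ : Cfsg.IsIrrCharacter X μ)
    (hμ' : Cfsg.IsIrrCharacter X μ') :
    classInner ((ε : ℂ) • μ) ((ε' : ℂ) • μ') = ((ε * ε' * (if μ = μ' then 1 else 0) : ℝ) : ℂ) := by
  rw [classInner_smul_left, classInner_smul_right, irr_orthonormal hμ hμ']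
  split_ifs <;> simp

theorem real_core (P Q dc dd x1 x2 x3 x4 : ℝ) (hP : P ≠ 0) (hQ : Q ≠ 0) (hdc : 0 < dc) (hdd : 0 < dd)
    (h2 : P * dc = Q * dd) (hx1 : x1 = 0 ∨ x1 = 1) (hx2 : x2 = 0 ∨ x2 = 1) (hx3 : x3 = 0 ∨ x3 = 1)
    (hx4 : x4 = 0 ∨ x4 = 1) (h12 : x1 * x2 = 0) (h34 : x3 * x4 = 0) (h13 : x1 * x3 = 0)
    (h24 : x2 * x4 = 0) (hmix : P * x1 - Q * x2 - P * x3 + Q * x4 = 0) :
    x1 = 0 ∧ x2 = 0 ∧ x3 = 0 ∧ x4 = 0 := by
  have hPQ : 0 < P * Q := by
    have e1 : P * Q * dc = Q ^ 2 * dd := by linear_combination Q * h2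
    have e2 : 0 < Q ^ 2 * dd := mul_pos (by positivity) hdd
    rw [← e1] at e2
    exact (mul_pos_iff_of_pos_right hdc).mp e2
  rcases hx1 with rfl | rfl <;> rcases hx2 with rfl | rfl <;> rcases hx3 with rfl | rfl <;>
    rcases hx4 with rfl | rfl <;> simp at h12 h34 h13 h24 hmix ⊢
  · exact hQ hmix
  · exact hP hmix
  · exact hQ hmix
  · nlinarith [sq_nonneg Q, sq_nonneg P]
  · exact hP hmix
  · nlinarith [sq_nonneg Q, sq_nonneg P]

/-- Let α, β, γ, δ be functions on a finite group X each of which is an irreducible character or the negative of one, and u, v nonzero real numbers. Suppose ⟨α, β⟩ = ⟨γ, δ⟩ = 0, ⟨α − β, uγ − vδ⟩ = 0, α 1 = β 1 and u γ 1 = v δ 1. Then also ⟨α, γ⟩ = ⟨α, δ⟩ = ⟨β, γ⟩ = ⟨β, δ⟩ = 0. -/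
theorem result {X : Type*} [Group X] [Fintype X] (α β γ δ : X → ℂ) (hα : Cfsg.IsIrrCharacter X α ∨ Cfsg.IsIrrCharacter X (-α)) (hβ : Cfsg.IsIrrCharacter X β ∨ Cfsg.IsIrrCharacter X (-β)) (hγ : Cfsg.IsIrrCharacter X γ ∨ Cfsg.IsIrrCharacter X (-γ)) (hδ : Cfsg.IsIrrCharacter X δ ∨ Cfsg.IsIrrCharacter X (-δ)) (u v : ℝ) (hu : u ≠ 0) (hv : v ≠ 0) (hab : Cfsg.classInner α β = 0) (hcd : Cfsg.classInner γ δ = 0) (hmix : Cfsg.classInner (α - β) ((u : ℂ) • γ - (v : ℂ) • δ) = 0) (h1 : α 1 = β 1) (h2 : (u : ℂ) * γ 1 = (v : ℂ) * δ 1) : Cfsg.classInner α γ = 0 ∧ Cfsg.classInner α δ = 0 ∧ Cfsg.classInner β γ = 0 ∧ Cfsg.classInner β δ = 0 := by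
  classical
  obtain ⟨εa, μa, hεa, hμa, rfl⟩ := signed α hα
  obtain ⟨εb, μb, hεb, hμb, rfl⟩ := signed β hβ
  obtain ⟨εc, μc, hεc, hμc, rfl⟩ := signed γ hγ
  obtain ⟨εd, μd, hεd, hμd, rfl⟩ := signed δ hδ
  obtain ⟨da, hda, hda'⟩ := degree_pos hμa
  obtain ⟨db, hdb, hdb'⟩ := degree_pos hμb
  obtain ⟨dc, hdc, hdc'⟩ := degree_pos hμc
  obtain ⟨dd, hdd, hdd'⟩ := degree_pos hμd
  have hεa0 : εa ≠ 0 := by rcases hεa with h | h <;> rw [h] <;> norm_num
  have hεb0 : εb ≠ 0 := by rcases hεb with h | h <;> rw [h] <;> norm_num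
  have hεc0 : εc ≠ 0 := by rcases hεc with h | h <;> rw [h] <;> norm_num
  have hεd0 : εd ≠ 0 := by rcases hεd with h | h <;> rw [h] <;> norm_num
  -- translate hypotheses
  rw [inner_signed εa εb hμa hμb] at hab
  rw [inner_signed εc εd hμc hμd] at hcd
  have hab' : μa ≠ μb := by
    intro h
    rw [if_pos h] at hab
    have : εa * εb * 1 = 0 := by exact_mod_cast hab
    simp [hεa0, hεb0] at this
  have hcd' : μc ≠ μd := by
    intro h
    rw [if_pos h] at hcd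
    have : εc * εd * 1 = 0 := by exact_mod_cast hcd
    simp [hεc0, hεd0] at this
  simp only [Pi.smul_apply, smul_eq_mul, hda', hdb', hdc', hdd'] at h1 h2
  have h1' : εa * da = εb * db := by exact_mod_cast h1
  have h2' : u * (εc * dc) = v * (εd * dd) := by exact_mod_cast h2
  have hεab : εa = εb := by
    rcases hεa with h | h <;> rcases hεb with h' | h' <;> rw [h, h'] at h1' ⊢ <;> nlinarith
  -- expand hmix
  rw [classInner_sub_left, classInner_sub_right', classInner_sub_right', smul_smul, smul_smul] at hmix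
  have e1 : (u : ℂ) * (εc : ℂ) = ((u * εc : ℝ) : ℂ) := by push_cast; ring
  have e2 : (v : ℂ) * (εd : ℂ) = ((v * εd : ℝ) : ℂ) := by push_cast; ring
  rw [e1, e2, inner_signed εa (u * εc) hμa hμc, inner_signed εa (v * εd) hμa hμd,
    inner_signed εb (u * εc) hμb hμc, inner_signed εb (v * εd) hμb hμd] at hmix
  set x1 : ℝ := if μa = μc then 1 else 0 with hx1
  set x2 : ℝ := if μa = μd then 1 else 0 with hx2
  set x3 : ℝ := if μb = μc then 1 else 0 with hx3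
  set x4 : ℝ := if μb = μd then 1 else 0 with hx4
  have hmix' : εa * (u * εc) * x1 - εa * (v * εd) * x2 - (εb * (u * εc) * x3 - εb * (v * εd) * x4) = 0 := by
    exact_mod_cast hmix
  have hεa2 : εa * εa = 1 := by rcases hεa with h | h <;> rw [h] <;> norm_num
  have hmix'' : (u * εc) * x1 - (v * εd) * x2 - (u * εc) * x3 + (v * εd) * x4 = 0 := by
    have : εa * (εa * (u * εc) * x1 - εa * (v * εd) * x2 - (εb * (u * εc) * x3 - εb * (v * εd) * x4)) = 0 := by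
      rw [hmix', mul_zero]
    rw [← hεab] at this
    have e : εa * (εa * (u * εc) * x1 - εa * (v * εd) * x2 - (εa * (u * εc) * x3 - εa * (v * εd) * x4))
        = (εa * εa) * ((u * εc) * x1 - (v * εd) * x2 - (u * εc) * x3 + (v * εd) * x4) := by ring
    rw [e, hεa2, one_mul] at this
    exact this
  have hx1' : x1 = 0 ∨ x1 = 1 := by rw [hx1]; split_ifs <;> simp
  have hx2' : x2 = 0 ∨ x2 = 1 := by rw [hx2]; split_ifs <;> simp
  have hx3' : x3 = 0 ∨ x3 = 1 := by rw [hx3]; split_ifs <;> simp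
  have hx4' : x4 = 0 ∨ x4 = 1 := by rw [hx4]; split_ifs <;> simp
  have h12 : x1 * x2 = 0 := by
    rw [hx1, hx2]
    split_ifs with ha hb <;> simp
    exact hcd' (ha.symm.trans hb)
  have h34 : x3 * x4 = 0 := by
    rw [hx3, hx4]
    split_ifs with ha hb <;> simp
    exact hcd' (ha.symm.trans hb)
  have h13 : x1 * x3 = 0 := by
    rw [hx1, hx3]
    split_ifs with ha hb <;> simp
    exact hab' (ha.trans hb.symm)
  have h24 : x2 * x4 = 0 := by
    rw [hx2, hx4]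
    split_ifs with ha hb <;> simp
    exact hab' (ha.trans hb.symm)
  have hP : u * εc ≠ 0 := mul_ne_zero hu hεc0
  have hQ : v * εd ≠ 0 := mul_ne_zero hv hεd0
  have h2'' : (u * εc) * dc = (v * εd) * dd := by linarith [h2']
  obtain ⟨r1, r2, r3, r4⟩ := real_core (u * εc) (v * εd) dc dd x1 x2 x3 x4 hP hQ hdc hdd h2''
    hx1' hx2' hx3' hx4' h12 h34 h13 h24 hmix''
  rw [inner_signed εa εc hμa hμc, inner_signed εa εd hμa hμd, inner_signed εb εc hμb hμc,
    inner_signed εb εd hμb hμd]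
  rw [← hx1, ← hx2, ← hx3, ← hx4, r1, r2, r3, r4]
  simp

end Cfsg.Agent.S1509
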