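import Cfsg.Statements.S1510
import Mathlib

set_option autoImplicit false
open Cfsg

namespace Cfsg.Agent.S1510

variable {G : Type*} [Group G]

/-- a uniform exponent extracting the `a`-part -/
theorem extract_uniform {a b : ℕ} (hab : Nat.Coprime a b) :
    ∃ j : ℕ, ∀ c g : G, c * g = g * c → g ^ a = 1 → c ^ b = 1 → (c * g) ^ j = g := by
  obtain ⟨j, hj1, hj2⟩ := Nat.chineseRemainder hab 1 0
  refine ⟨j, fun c g hcg hg hc => ?_⟩
  have hcomm : Commute c g := hcg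
  rw [hcomm.mul_pow]
  have h1 : c ^ j = 1 := by
    have : b ∣ j := (Nat.modEq_zero_iff_dvd).mp hj2
    obtain ⟨t, rfl⟩ := this
    rw [pow_mul, hc, one_pow]
  have h2 : g ^ j = g := by
    have : g ^ j = g ^ 1 := by
      rw [pow_eq_pow_iff_modEq]
      exact hj1.of_dvd (orderOf_dvd_of_pow_eq_one hg)
    simpa using this
  rw [h1, h2, one_mul]

/-- Let L be a finite group with a normal subgroup K and a nontrivial cyclic subgroup W₁ of order coprime to its index, K ⊓ W₁ = ⊥ and K ⊔ W₁ = ⊤; let W₂ ≠ ⊥ be a cyclic subgroup of K with K ⊓ C_L(x) = W₂ for every non-identity x ∈ W₁, and suppose W₁ ⊔ W₂ has odd order. Then (W₁, W₂) is a self-normalising cyclic pair in L. -/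
theorem result {L : Type*} [Group L] [Fintype L] (K W₁ W₂ : Subgroup L) [hK : K.Normal] (hKW₁ : K ⊓ W₁ = ⊥) (hKW₁' : K ⊔ W₁ = ⊤) (hW₁ : W₁ ≠ ⊥) (hW₁c : IsCyclic W₁) (hHall : Nat.Coprime (Nat.card W₁) W₁.index) (hW₂ : W₂ ≠ ⊥) (hW₂c : IsCyclic W₂) (hW₂K : W₂ ≤ K) (hC : ∀ x ∈ W₁, x ≠ 1 → K ⊓ Subgroup.centralizer ({x} : Set L) = W₂) (hodd : Odd (Nat.card ↥(W₁ ⊔ W₂))) : Cfsg.IsSelfNormalizingCyclic W₁ W₂ := by
  classical
  have hcompl : Subgroup.IsComplement' K W₁ :=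
    Subgroup.isComplement'_of_disjoint_and_mul_eq_univ (disjoint_iff.mpr hKW₁)
      (by rw [← Subgroup.normal_mul, hKW₁']; rfl)
  have hidx : W₁.index = Nat.card K := hcompl.index_eq_card
  have hcop : Nat.Coprime (Nat.card W₁) (Nat.card W₂) := by
    rw [hidx] at hHall
    exact Nat.Coprime.coprime_dvd_right (Subgroup.card_dvd_of_le hW₂K) hHall
  have hdisj : W₁ ⊓ W₂ = ⊥ := by
    apply le_antisymm _ bot_le
    calc W₁ ⊓ W₂ ≤ W₁ ⊓ K := inf_le_inf_left _ hW₂K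
      _ = K ⊓ W₁ := inf_comm _ _
      _ = ⊥ := hKW₁
  have hcomm : ∀ a ∈ W₁, ∀ b ∈ W₂, a * b = b * a := by
    intro a ha b hb
    by_cases ha1 : a = 1
    · subst ha1; simp
    · have := hC a ha ha1
      rw [← this] at hb
      exact (Subgroup.mem_centralizer_singleton_iff.mp hb.2).symm
  -- generators
  obtain ⟨⟨a₀, ha₀W⟩, ha₀⟩ := hW₁c.exists_generator
  obtain ⟨⟨b₀, hb₀W⟩, hb₀⟩ := hW₂c.exists_generator
  have hW₁z : ∀ a ∈ W₁, a ∈ Subgroup.zpowers a₀ := by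
    intro a ha
    obtain ⟨k, hk⟩ := Subgroup.mem_zpowers_iff.mp (ha₀ ⟨a, ha⟩)
    refine Subgroup.mem_zpowers_iff.mpr ⟨k, ?_⟩
    have := congrArg Subtype.val hk
    simpa using this
  have hW₂z : ∀ b ∈ W₂, b ∈ Subgroup.zpowers b₀ := by
    intro b hb
    obtain ⟨k, hk⟩ := Subgroup.mem_zpowers_iff.mp (hb₀ ⟨b, hb⟩)
    refine Subgroup.mem_zpowers_iff.mpr ⟨k, ?_⟩
    have := congrArg Subtype.val hk
    simpa using this
  have hpow1 : ∀ a ∈ W₁, a ^ (Nat.card W₁) = 1 := by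
    intro a ha
    exact orderOf_dvd_iff_pow_eq_one.mp (Subgroup.orderOf_dvd_natCard W₁ ha)
  have hpow2 : ∀ b ∈ W₂, b ^ (Nat.card W₂) = 1 := by
    intro b hb
    exact orderOf_dvd_iff_pow_eq_one.mp (Subgroup.orderOf_dvd_natCard W₂ hb)
  obtain ⟨j1, hj1⟩ := extract_uniform (G := L) hcop
  obtain ⟨j2, hj2⟩ := extract_uniform (G := L) hcop.symm
  have hab₀ : a₀ * b₀ = b₀ * a₀ := hcomm a₀ ha₀W b₀ hb₀W
  -- W = zpowers (a₀ b₀)
  have hWeq : W₁ ⊔ W₂ = Subgroup.zpowers (b₀ * a₀) := by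
    apply le_antisymm
    · apply sup_le
      · intro a ha
        have h1 : a₀ ∈ Subgroup.zpowers (b₀ * a₀) := by
          have h0 : (b₀ * a₀) ^ j1 ∈ Subgroup.zpowers (b₀ * a₀) :=
            Subgroup.pow_mem _ (Subgroup.mem_zpowers _) _
          rwa [hj1 b₀ a₀ hab₀.symm (hpow1 a₀ ha₀W) (hpow2 b₀ hb₀W)] at h0
        exact (Subgroup.zpowers_le.mpr h1) (hW₁z a ha)
      · intro b hb
        have h1 : b₀ ∈ Subgroup.zpowers (b₀ * a₀) := by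
          have h0 : (b₀ * a₀) ^ j2 ∈ Subgroup.zpowers (b₀ * a₀) :=
            Subgroup.pow_mem _ (Subgroup.mem_zpowers _) _
          rw [← hab₀] at h0
          rw [hj2 a₀ b₀ hab₀ (hpow2 b₀ hb₀W) (hpow1 a₀ ha₀W)] at h0
          rw [← hab₀]
          exact h0
        exact (Subgroup.zpowers_le.mpr h1) (hW₂z b hb)
    · rw [Subgroup.zpowers_le]
      exact Subgroup.mul_mem _ (Subgroup.mem_sup_right hb₀W) (Subgroup.mem_sup_left ha₀W)
  have hWcyc : IsCyclic ↥(W₁ ⊔ W₂) := by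
    rw [hWeq]; infer_instance
  have hWcomm : ∀ u ∈ W₁ ⊔ W₂, ∀ v ∈ W₁ ⊔ W₂, u * v = v * u := by
    intro u hu v hv
    rw [hWeq] at hu hv
    obtain ⟨i, rfl⟩ := Subgroup.mem_zpowers_iff.mp hu
    obtain ⟨k, rfl⟩ := Subgroup.mem_zpowers_iff.mp hv
    rw [← zpow_add, ← zpow_add, add_comm]
  -- decomposition of elements of W
  have hdecomp : ∀ u ∈ W₁ ⊔ W₂, ∃ a ∈ W₁, ∃ b ∈ W₂, u = b * a := by
    intro u hu
    rw [hWeq] at hu
    obtain ⟨i, rfl⟩ := Subgroup.mem_zpowers_iff.mp hu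
    refine ⟨a₀ ^ i, Subgroup.zpow_mem _ ha₀W i, b₀ ^ i, Subgroup.zpow_mem _ hb₀W i, ?_⟩
    have hc : Commute b₀ a₀ := hab₀.symm
    exact hc.mul_zpow i
  refine ⟨hW₁, hW₂, hdisj, hcomm, hWcyc, ?_⟩
  intro X hX hXne
  have hWle : W₁ ⊔ W₂ ≤ Subgroup.normalizer X := by
    intro w hw
    rw [Subgroup.mem_set_normalizer_iff]
    intro n
    constructor
    · intro hn
      have hnW : n ∈ W₁ ⊔ W₂ := (hX hn).1
      have : w * n * w⁻¹ = n := by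
        rw [hWcomm w hw n hnW]; group
      rw [this]; exact hn
    · intro hn
      have hnW : w * n * w⁻¹ ∈ W₁ ⊔ W₂ := (hX hn).1
      have hnW' : n ∈ W₁ ⊔ W₂ := by
        have : n = w⁻¹ * (w * n * w⁻¹) * w := by group
        rw [this]
        exact Subgroup.mul_mem _ (Subgroup.mul_mem _ (Subgroup.inv_mem _ hw) hnW) hw
      have : w * n * w⁻¹ = n := by
        rw [hWcomm w hw n hnW']; group
      rw [this] at hn; exact hn
  apply le_antisymm _ hWle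
  intro g hg
  have hgtop : g ∈ K ⊔ W₁ := by rw [hKW₁']; trivial
  rw [Subgroup.mem_sup_of_normal_left] at hgtop
  obtain ⟨k, hk, w, hw, rfl⟩ := hgtop
  have hwN : w ∈ Subgroup.normalizer X := hWle (Subgroup.mem_sup_left hw)
  have hkN : k ∈ Subgroup.normalizer X := by
    have : k = (k * w) * w⁻¹ := by group
    rw [this]
    exact Subgroup.mul_mem _ hg (Subgroup.inv_mem _ hwN)
  obtain ⟨x₀, hx₀⟩ := hXne
  have hx₀W : x₀ ∈ W₁ ⊔ W₂ := (hX hx₀).1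
  have hx₀not : x₀ ∉ (W₁ : Set L) ∪ W₂ := (hX hx₀).2
  have hkx : k * x₀ * k⁻¹ ∈ X := (Subgroup.mem_set_normalizer_iff.mp hkN x₀).mp hx₀
  have hkxW : k * x₀ * k⁻¹ ∈ W₁ ⊔ W₂ := (hX hkx).1
  obtain ⟨a, ha, b, hb, hx₀eq⟩ := hdecomp x₀ hx₀W
  obtain ⟨a', ha', b', hb', hkxeq⟩ := hdecomp _ hkxW
  have ha1 : a ≠ 1 := by
    intro h1
    apply hx₀not
    right
    rw [hx₀eq, h1, mul_one]; exact hb
  -- a' = a
  have haa' : a' = a := by
    have h1 : k * x₀ * k⁻¹ * x₀⁻¹ ∈ K := by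
      have : k * x₀ * k⁻¹ * x₀⁻¹ = k * (x₀ * k⁻¹ * x₀⁻¹) := by group
      rw [this]
      exact K.mul_mem hk (hK.conj_mem _ (K.inv_mem hk) x₀)
    have h2 : k * x₀ * k⁻¹ * x₀⁻¹ = (b' * b⁻¹) * (a' * a⁻¹) := by
      rw [hkxeq, hx₀eq]
      have e1 : a' * b⁻¹ = b⁻¹ * a' := hcomm a' ha' b⁻¹ (W₂.inv_mem hb)
      have e2 : a⁻¹ * b⁻¹ = b⁻¹ * a⁻¹ := hcomm a⁻¹ (W₁.inv_mem ha) b⁻¹ (W₂.inv_mem hb)
      calc b' * a' * (b * a)⁻¹ = b' * a' * (a⁻¹ * b⁻¹) := by group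
        _ = b' * a' * (b⁻¹ * a⁻¹) := by rw [e2]
        _ = b' * (a' * b⁻¹) * a⁻¹ := by group
        _ = b' * (b⁻¹ * a') * a⁻¹ := by rw [e1]
        _ = (b' * b⁻¹) * (a' * a⁻¹) := by group
    have h3 : a' * a⁻¹ ∈ K := by
      have : a' * a⁻¹ = (b' * b⁻¹)⁻¹ * (k * x₀ * k⁻¹ * x₀⁻¹) := by rw [h2]; group
      rw [this]
      exact K.mul_mem (K.inv_mem (K.mul_mem (hW₂K hb') (K.inv_mem (hW₂K hb)))) h1
    have h4 : a' * a⁻¹ ∈ K ⊓ W₁ := ⟨h3, W₁.mul_mem ha' (W₁.inv_mem ha)⟩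
    rw [hKW₁, Subgroup.mem_bot] at h4
    exact mul_inv_eq_one.mp h4
  subst haa'
  -- k commutes with a'
  have hka : k * a' * k⁻¹ = a' := by
    have e1 : (b * a') ^ j1 = a' := hj1 b a' (hcomm a' ha' b hb).symm (hpow1 a' ha') (hpow2 b hb)
    have e2 : (b' * a') ^ j1 = a' := hj1 b' a' (hcomm a' ha' b' hb').symm (hpow1 a' ha') (hpow2 b' hb')
    calc k * a' * k⁻¹ = k * (b * a') ^ j1 * k⁻¹ := by rw [e1]
      _ = (k * (b * a') * k⁻¹) ^ j1 := by rw [conj_pow]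
      _ = (b' * a') ^ j1 := by rw [← hx₀eq, hkxeq]
      _ = a' := e2
  have hkW₂ : k ∈ W₂ := by
    rw [← hC a' ha ha1]
    refine ⟨hk, Subgroup.mem_centralizer_singleton_iff.mpr ?_⟩
    calc k * a' = k * a' * k⁻¹ * k := by group
      _ = a' * k := by rw [hka]
  exact Subgroup.mul_mem _ (Subgroup.mem_sup_right hkW₂) (Subgroup.mem_sup_left hw)

end Cfsg.Agent.S1510
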