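import Cfsg.Statements.S1511
import Mathlib
import Cfsg.Agent.Lib.Helper25.EqualDegree
import Cfsg.Agent.Lib.Helper25.KW
import Cfsg.Agent.Lib.Helper25.DualProd2

set_option autoImplicit false
open Cfsg
open scoped ComplexConjugate

namespace Cfsg.Agent.S1511

open Cfsg.Agent.Helper25

/-- Let L be a finite group with K normal with complement W₁ ≠ 1 a cyclic Hall subgroup, and W₂ ≠ 1 a cyclic subgroup of K equal to C_K(x) for every non-identity x ∈ W₁, with W₁W₂ of odd order. Then there are a map μ from the linear characters of W = W₁ ⊔ W₂ to irreducible characters of L, injective, and a sign δ(ω) ∈ {1, −1} depending only on the values of ω on W₂, such that: for ω, ω' agreeing on W₂, the function induced to L from ω − ω' equals δ(ω) • (μ ω − μ ω'); μ ω x = δ(ω) ω x for x ∈ W outside W₂; every irreducible character of L not of the form μ ω vanishes on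 W outside W₂; and μ ω 1 − δ(ω) is an integer multiple of Nat.card W₁. -/
theorem result {L : Type*} [Group L] [Fintype L] (K W₁ W₂ : Subgroup L) [hK : K.Normal] (hKW₁ : K ⊓ W₁ = ⊥) (hKW₁' : K ⊔ W₁ = ⊤) (hW₁ : W₁ ≠ ⊥) (hW₁c : IsCyclic W₁) (hHall : Nat.Coprime (Nat.card W₁) W₁.index) (hW₂ : W₂ ≠ ⊥) (hW₂c : IsCyclic W₂) (hW₂K : W₂ ≤ K) (hC : ∀ x ∈ W₁, x ≠ 1 → K ⊓ Subgroup.centralizer ({x} : Set L) = W₂) (hodd : Odd (Nat.card ↥(W₁ ⊔ W₂))) : ∃ (μ : (↥(W₁ ⊔ W₂) →* ℂˣ) → (L → ℂ)) (δ : (↥(W₁ ⊔ W₂) →* ℂˣ) → ℂ), Function.Injective μ ∧ (∀ ω, Cfsg.IsIrrCharacter L (μ ω)) ∧ (∀ ω, δ ω = 1 ∨ δ ω = -1) ∧ (∀ ω ω' : ↥(W₁ ⊔ W₂) →* ℂˣ, (∀ w : ↥(W₁ ⊔ W₂), (w : L) ∈ W₂ → ω w = ω' w) → δ ω = δ ω' ∧ Cfsg.indFun (W₁ ⊔ W₂) (fun w => (ω w : ℂ) - (ω' w : ℂ)) = δ ω • (μ ω - μ ω')) ∧ (∀ ω, ∀ w : ↥(W₁ ⊔ W₂), (w : L) ∉ W₂ → μ ω w = δ ω * (ω w : ℂ)) ∧ (∀ θ : L → ℂ, Cfsg.IsIrrCharacter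 L θ → (∀ ω, θ ≠ μ ω) → ∀ w : ↥(W₁ ⊔ W₂), (w : L) ∉ W₂ → θ w = 0) ∧ (∀ ω, ∃ n : ℤ, μ ω 1 - δ ω = n * (Nat.card W₁ : ℂ)) := by
  classical
  obtain ⟨hcomm12, hinf, hcop12, hcyc, hTI0⟩ :=
    kw_struct K W₁ W₂ hKW₁ hKW₁' hW₁c hHall hW₂c hW₂K hC
  have hFW : Fintype ↥(W₁ ⊔ W₂) := Fintype.ofFinite _
  have hFD : Fintype (↥(W₁ ⊔ W₂) →* ℂˣ) := Fintype.ofFinite _
  have hcommW : ∀ a b : ↥(W₁ ⊔ W₂), a * b = b * a :=
    isMulCommutative_iff.mp IsCyclic.isMulCommutative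
  have hTI : ∀ w : L, w ∈ W₁ ⊔ W₂ → w ∉ (W₂ : Set L) → ∀ x : L, x⁻¹ * w * x ∈ W₁ ⊔ W₂ →
      x⁻¹ * w * x ∉ (W₂ : Set L) → x ∈ W₁ ⊔ W₂ := fun w hw hw2 x hx _ => hTI0 w hw hw2 x hx
  obtain ⟨p₁, p₂, A1, A2, A3, A4⟩ := exists_decomp W₁ W₂ hinf hcomm12 hcyc
  -- the relation "agree on W₂"
  obtain ⟨r, hrdef⟩ : ∃ r : (↥(W₁ ⊔ W₂) →* ℂˣ) → (↥(W₁ ⊔ W₂) →* ℂˣ) → Prop,
      r = fun ω ω' => ∀ w : ↥(W₁ ⊔ W₂), (w : L) ∈ W₂ → ω w = ω' w := ⟨_, rfl⟩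
  have hr : ∀ ω ω', r ω ω' ↔ ∀ w : ↥(W₁ ⊔ W₂), (w : L) ∈ W₂ → ω w = ω' w := by
    intro ω ω'; rw [hrdef]
  have hr_refl : ∀ ω, r ω ω := fun ω => (hr ω ω).mpr (fun _ _ => rfl)
  have hr_symm : ∀ ω ω', r ω ω' → r ω' ω := fun ω ω' h =>
    (hr ω' ω).mpr (fun w hw => ((hr ω ω').mp h w hw).symm)
  have hr_trans : ∀ ω ω' ω'', r ω ω' → r ω' ω'' → r ω ω'' := fun ω ω' ω'' h h' =>
    (hr ω ω'').mpr (fun w hw => ((hr ω ω').mp h w hw).trans ((hr ω' ω'').mp h' w hw))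
  have hr_rep : ∀ ω, r (p₂ ω) ω := by
    intro ω
    rw [hr]
    intro w hw
    conv_rhs => rw [← A3 ω]
    rw [MonoidHom.mul_apply, A1 ω w hw, one_mul]
  have hr_eq : ∀ ω ω', r ω ω' → p₂ ω = p₂ ω' := by
    intro ω ω' h
    apply eq_of_eq_on_right W₁ W₂ hcomm12 _ _ (A2 ω) (A2 ω')
    intro w hw
    have h1 := (hr _ _).mp (hr_rep ω) w hw
    have h2 := (hr _ _).mp (hr_rep ω') w hw
    rw [h1, h2]
    exact (hr _ _).mp h w hw
  have hr_mul : ∀ ω φ, (∀ w : ↥(W₁ ⊔ W₂), (w : L) ∈ W₂ → φ w = 1) → r ω (ω * φ) := by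
    intro ω φ hφ
    rw [hr]
    intro w hw
    rw [MonoidHom.mul_apply, hφ w hw, mul_one]
  -- class construction
  have hCC : ∀ ρ : ↥(W₁ ⊔ W₂) →* ℂˣ, ∃ (δ : ℂ) (μ : (↥(W₁ ⊔ W₂) →* ℂˣ) → (L → ℂ)),
      (δ = 1 ∨ δ = -1) ∧ (∀ ω ∈ {ω | r ρ ω}, IsIrrCharacter L (μ ω)) ∧
      ∀ ω ∈ {ω | r ρ ω}, ∀ ω' ∈ {ω | r ρ ω},
        indFun (W₁ ⊔ W₂) (cf ω - cf ω') = δ • (μ ω - μ ω') := by
    intro ρ
    apply equal_degree_coherence (W₁ ⊔ W₂) hcommW (W₂ : Set L) (W₂.one_mem) hTI {ω | r ρ ω}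
    · intro ω hω ω' hω' w hw
      exact (hr _ _).mp (hr_trans _ _ _ (hr_symm _ _ hω) hω') w hw
    · exact hr_refl ρ
  choose δ₀ μ₀ hδ₀ hμ₀irr hμ₀ind using hCC
  obtain ⟨μ, hμdef⟩ : ∃ μ : (↥(W₁ ⊔ W₂) →* ℂˣ) → (L → ℂ), μ = fun ω => μ₀ (p₂ ω) ω := ⟨_, rfl⟩
  obtain ⟨δ, hδdef⟩ : ∃ δ : (↥(W₁ ⊔ W₂) →* ℂˣ) → ℂ, δ = fun ω => δ₀ (p₂ ω) := ⟨_, rfl⟩
  have hirr : ∀ ω, IsIrrCharacter L (μ ω) := by
    intro ω; rw [hμdef]; exact hμ₀irr (p₂ ω) ω (hr_rep ω)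
  have hsign : ∀ ω, δ ω = 1 ∨ δ ω = -1 := by
    intro ω; rw [hδdef]; exact hδ₀ (p₂ ω)
  have hδeq : ∀ ω ω', r ω ω' → δ ω = δ ω' := by
    intro ω ω' h; rw [hδdef]; simp only; rw [hr_eq ω ω' h]
  have hind : ∀ ω ω', r ω ω' → indFun (W₁ ⊔ W₂) (cf ω - cf ω') = δ ω • (μ ω - μ ω') := by
    intro ω ω' h
    rw [hδdef, hμdef]
    simp only
    rw [← hr_eq ω ω' h]
    exact hμ₀ind (p₂ ω) ω (hr_rep ω) ω' (hr_trans _ _ _ (hr_rep ω) h)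
  have hvanW₂ : ∀ ω ω', r ω ω' → ∀ w : ↥(W₁ ⊔ W₂), (w : L) ∈ (W₂ : Set L) → (cf ω - cf ω') w = 0 := by
    intro ω ω' h w hw
    simp only [Pi.sub_apply, cf]
    rw [(hr _ _).mp h w hw, sub_self]
  have hδne : ∀ ω, δ ω ≠ 0 := by
    intro ω
    rcases hsign ω with h | h <;> rw [h] <;> norm_num
  -- injectivity inside a class
  have hinj1 : ∀ ω ω', r ω ω' → μ ω = μ ω' → ω = ω' := by
    intro ω ω' h heq
    have h1 := hind ω ω' h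
    rw [heq, sub_self, smul_zero] at h1
    have h2 := classInner_indFun_indFun_of_TI_gen (W₁ ⊔ W₂) hcommW (W₂ : Set L) hTI _ _
      (hvanW₂ ω ω' h) (hvanW₂ ω ω' h)
    rw [h1] at h2
    rw [classInner_sub_left, classInner_sub_right, classInner_sub_right,
      classInner_cf, classInner_cf, classInner_cf, classInner_cf, if_pos rfl, if_pos rfl] at h2
    by_contra hne
    rw [if_neg hne, if_neg (Ne.symm hne)] at h2
    have h3 : classInner (0 : L → ℂ) (0 : L → ℂ) = 0 := by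
      simp [classInner]
    rw [h3] at h2
    norm_num at h2
  -- characters trivial on W₂ / on W₁
  obtain ⟨P₁, hP₁def⟩ : ∃ P₁ : Finset (↥(W₁ ⊔ W₂) →* ℂˣ), P₁ = Finset.univ.filter
      (fun φ => ∀ w : ↥(W₁ ⊔ W₂), (w : L) ∈ W₂ → φ w = 1) := ⟨_, rfl⟩
  obtain ⟨P₂, hP₂def⟩ : ∃ P₂ : Finset (↥(W₁ ⊔ W₂) →* ℂˣ), P₂ = Finset.univ.filter
      (fun ψ => ∀ w : ↥(W₁ ⊔ W₂), (w : L) ∈ W₁ → ψ w = 1) := ⟨_, rfl⟩
  have hP₁ : ∀ φ, φ ∈ P₁ ↔ ∀ w : ↥(W₁ ⊔ W₂), (w : L) ∈ W₂ → φ w = 1 := by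
    intro φ; rw [hP₁def]; simp
  have hP₂ : ∀ ψ, ψ ∈ P₂ ↔ ∀ w : ↥(W₁ ⊔ W₂), (w : L) ∈ W₁ → ψ w = 1 := by
    intro ψ; rw [hP₂def]; simp
  obtain ⟨hcardP₁, hcardP₂⟩ := card_triv W₁ W₂ hinf hcomm12 hcyc P₁ P₂ hP₁ hP₂
  have hcardW : Nat.card ↥(W₁ ⊔ W₂) = Nat.card W₁ * Nat.card W₂ :=
    card_sup_of_comm W₁ W₂ hinf hcomm12
  have hn3 : 3 ≤ Nat.card W₁ := by
    rw [hcardW] at hodd
    have hodd1 : Odd (Nat.card W₁) := (Nat.odd_mul.mp hodd).1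
    have hne1 : Nat.card W₁ ≠ 1 := by
      intro h; apply hW₁; exact Subgroup.card_eq_one.mp h
    have hpos : 0 < Nat.card W₁ := Nat.card_pos
    obtain ⟨t, ht⟩ := hodd1
    omega
  have hthree : ∃ φ φ' : ↥(W₁ ⊔ W₂) →* ℂˣ, φ ∈ P₁ ∧ φ' ∈ P₁ ∧ φ ≠ 1 ∧ φ' ≠ 1 ∧ φ ≠ φ' := by
    have h2 : 2 < P₁.card := by rw [hcardP₁]; omega
    obtain ⟨a, ha, b, hb, c, hc, hab, hac, hbc⟩ := Finset.two_lt_card.mp h2
    by_cases ha1 : a = 1
    · exact ⟨b, c, hb, hc, by rw [← ha1]; exact hab.symm, by rw [← ha1]; exact hac.symm, hbc⟩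
    · by_cases hb1 : b = 1
      · exact ⟨a, c, ha, hc, ha1, by rw [← hb1]; exact hbc.symm, hac⟩
      · exact ⟨a, b, ha, hb, ha1, hb1, hab⟩
  have hinj : Function.Injective μ := by
    intro ω ω' heq
    by_cases hrr : r ω ω'
    · exact hinj1 ω ω' hrr heq
    exfalso
    obtain ⟨φ, φ', hφ, hφ', hφ1, hφ'1, hφφ'⟩ := hthree
    have hω₁r : r ω (ω * φ) := hr_mul ω φ ((hP₁ φ).mp hφ)
    have hmulne : ∀ (ω₀ ψ : ↥(W₁ ⊔ W₂) →* ℂˣ), ψ ≠ 1 → ω₀ * ψ ≠ ω₀ := by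
      intro ω₀ ψ hψ h
      apply hψ
      have h' : ω₀ * ψ = ω₀ * 1 := h.trans (mul_one ω₀).symm
      exact mul_left_cancel h'
    have hω₁ne : ω * φ ≠ ω := hmulne ω φ hφ1
    have hex : ∃ ω₁', r ω' ω₁' ∧ ω₁' ≠ ω' ∧ μ ω₁' ≠ μ (ω * φ) := by
      by_contra hcon
      have h1 : μ (ω' * φ) = μ (ω * φ) := by
        by_contra h
        exact hcon ⟨ω' * φ, hr_mul ω' φ ((hP₁ φ).mp hφ), hmulne ω' φ hφ1, h⟩
      have h2 : μ (ω' * φ') = μ (ω * φ) := by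
        by_contra h
        exact hcon ⟨ω' * φ', hr_mul ω' φ' ((hP₁ φ').mp hφ'), hmulne ω' φ' hφ'1, h⟩
      have h3 : r (ω' * φ) (ω' * φ') :=
        hr_trans _ _ _ (hr_symm _ _ (hr_mul ω' φ ((hP₁ φ).mp hφ))) (hr_mul ω' φ' ((hP₁ φ').mp hφ'))
      have h4 := hinj1 _ _ h3 (h1.trans h2.symm)
      exact hφφ' (mul_left_cancel h4)
    obtain ⟨ω₁', hr', hne', hμne⟩ := hex
    have hn1 : ω ≠ ω' := fun h => hrr (h ▸ hr_refl ω)
    have hn2 : ω ≠ ω₁' := fun h => hrr (hr_symm _ _ (h ▸ hr'))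
    have hn3' : ω * φ ≠ ω' := fun h => hrr (h ▸ hω₁r)
    have hn4 : ω * φ ≠ ω₁' := fun h =>
      hrr (hr_trans _ _ _ hω₁r (hr_symm _ _ (h ▸ hr')))
    have h0 : classInner (cf ω - cf (ω * φ)) (cf ω' - cf ω₁') = 0 := by
      rw [classInner_sub_left, classInner_sub_right, classInner_sub_right,
        classInner_cf, classInner_cf, classInner_cf, classInner_cf,
        if_neg hn1, if_neg hn2, if_neg hn3', if_neg hn4]
      ring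
    have h1 := classInner_indFun_indFun_of_TI_gen (W₁ ⊔ W₂) hcommW (W₂ : Set L) hTI
      (cf ω - cf (ω * φ)) (cf ω' - cf ω₁') (hvanW₂ _ _ hω₁r) (hvanW₂ _ _ hr')
    rw [hind ω (ω * φ) hω₁r, hind ω' ω₁' hr', classInner_smul_smul, h0] at h1
    have h2 := classInner_irr_sub_sub (⟨μ ω, hirr ω⟩ : IrrCharacter L) ⟨μ (ω * φ), hirr _⟩
      ⟨μ ω', hirr ω'⟩ ⟨μ ω₁', hirr ω₁'⟩
    have e1 : (⟨μ ω, hirr ω⟩ : IrrCharacter L) = ⟨μ ω', hirr ω'⟩ := Subtype.ext heq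
    have e2 : (⟨μ ω, hirr ω⟩ : IrrCharacter L) ≠ ⟨μ ω₁', hirr ω₁'⟩ := by
      intro h
      have h' : μ ω' = μ ω₁' := by
        rw [← heq]; exact congrArg Subtype.val h
      exact hne' (hinj1 ω' ω₁' hr' h').symm
    have e3 : (⟨μ (ω * φ), hirr _⟩ : IrrCharacter L) ≠ ⟨μ ω', hirr ω'⟩ := by
      intro h
      have h' : μ (ω * φ) = μ ω := by
        rw [heq]; exact congrArg Subtype.val h
      exact hω₁ne (hinj1 ω (ω * φ) hω₁r h'.symm).symm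
    have e4 : (⟨μ (ω * φ), hirr _⟩ : IrrCharacter L) ≠ ⟨μ ω₁', hirr ω₁'⟩ := by
      intro h
      exact hμne (congrArg Subtype.val h).symm
    rw [if_pos e1, if_neg e2, if_neg e3, if_neg e4] at h2
    simp only at h2
    rw [h2] at h1
    have h5 : δ ω * conj (δ ω') ≠ 0 := mul_ne_zero (hδne ω) (by
      rw [Ne, map_eq_zero]; exact hδne ω')
    apply h5
    have : δ ω * conj (δ ω') * (((1 : ℤ) - 0 - 0 + 0 : ℤ) : ℂ) = 0 := h1
    simpa using this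
  have hcardD : Fintype.card (↥(W₁ ⊔ W₂) →* ℂˣ) = Nat.card ↥(W₁ ⊔ W₂) := by
    rw [← Nat.card_eq_fintype_card]; exact dual_card hcommW
  have hFI : Fintype (IrrCharacter L) := Fintype.ofFinite _
  have hMinj : Function.Injective (fun ω => (⟨μ ω, hirr ω⟩ : IrrCharacter L)) := by
    intro ω ω' h
    exact hinj (congrArg Subtype.val h)
  have hunit : ∀ (ω : ↥(W₁ ⊔ W₂) →* ℂˣ) (v : ↥(W₁ ⊔ W₂)),
      ((ω v : ℂˣ) : ℂ) * conj ((ω v : ℂˣ) : ℂ) = 1 := by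
    intro ω v
    rw [conj_hom_apply, ← Units.val_mul, mul_inv_cancel, Units.val_one]
  have hval_van : ∀ w : ↥(W₁ ⊔ W₂), (w : L) ∉ W₂ →
      (∀ ω, μ ω w = δ ω * ((ω w : ℂˣ) : ℂ)) ∧
      (∀ θ : L → ℂ, IsIrrCharacter L θ → (∀ ω, θ ≠ μ ω) → θ w = 0) := by
    intro w hw
    obtain ⟨z, hzdef⟩ : ∃ z : (↥(W₁ ⊔ W₂) →* ℂˣ) → ℂ,
        z = fun ω => δ ω * μ ω (w : L) - ((ω w : ℂˣ) : ℂ) := ⟨_, rfl⟩
    have hz : ∀ ω ω', r ω ω' → z ω = z ω' := by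
      intro ω ω' h
      have h1 := congrFun (hind ω ω' h) (w : L)
      rw [indFun_apply_of_TI_gen (W₁ ⊔ W₂) hcommW (W₂ : Set L) hTI _ (hvanW₂ ω ω' h) w hw] at h1
      simp only [Pi.sub_apply, Pi.smul_apply, smul_eq_mul, cf] at h1
      rw [hzdef]; simp only
      rw [← hδeq ω ω' h]
      linear_combination (-1 : ℂ) * h1
    have hμz : ∀ ω, μ ω (w : L) = δ ω * (((ω w : ℂˣ) : ℂ) + z ω) := by
      intro ω
      rw [hzdef]; simp only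
      rcases hsign ω with h | h <;> rw [h] <;> ring
    have hsumφ : ∑ φ ∈ P₁, ((φ w : ℂˣ) : ℂ) = 0 := by
      apply sum_triv_eq_zero {v : ↥(W₁ ⊔ W₂) | (v : L) ∈ W₂} P₁ (fun ψ => by
        rw [hP₁]; rfl) w
      obtain ⟨φ, hφ, hne⟩ := exists_ne_one_left W₁ W₂ hinf hcomm12 hcyc w hw
      exact ⟨φ, (hP₁ φ).mpr hφ, hne⟩
    have hzmul : ∀ φ ∈ P₁, ∀ ψ, z (φ * ψ) = z ψ := by
      intro φ hφ ψ
      apply hz
      rw [hr]; intro v hv; rw [MonoidHom.mul_apply, (hP₁ φ).mp hφ v hv, one_mul]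
    have hS1 : ∑ ω : ↥(W₁ ⊔ W₂) →* ℂˣ, ((ω w : ℂˣ) : ℂ) * conj (z ω) = 0 := by
      rw [sum_dual_prod W₁ W₂ hinf hcomm12 hcyc P₁ P₂ hP₁ hP₂]
      have h1 : ∀ φ ∈ P₁, ∑ ψ ∈ P₂, (((φ * ψ) w : ℂˣ) : ℂ) * conj (z (φ * ψ)) =
          ((φ w : ℂˣ) : ℂ) * ∑ ψ ∈ P₂, ((ψ w : ℂˣ) : ℂ) * conj (z ψ) := by
        intro φ hφ
        rw [Finset.mul_sum]
        apply Finset.sum_congr rfl
        intro ψ _
        rw [hzmul φ hφ ψ, MonoidHom.mul_apply, Units.val_mul]; ring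
      rw [Finset.sum_congr rfl h1, ← Finset.sum_mul, hsumφ, zero_mul]
    have hS2 : ∑ ω : ↥(W₁ ⊔ W₂) →* ℂˣ, conj ((ω w : ℂˣ) : ℂ) * z ω = 0 := by
      rw [sum_dual_prod W₁ W₂ hinf hcomm12 hcyc P₁ P₂ hP₁ hP₂]
      have h1 : ∀ φ ∈ P₁, ∑ ψ ∈ P₂, conj ((((φ * ψ) w : ℂˣ) : ℂ)) * z (φ * ψ) =
          conj ((φ w : ℂˣ) : ℂ) * ∑ ψ ∈ P₂, conj ((ψ w : ℂˣ) : ℂ) * z ψ := by
        intro φ hφ
        rw [Finset.mul_sum]
        apply Finset.sum_congr rfl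
        intro ψ _
        rw [hzmul φ hφ ψ, MonoidHom.mul_apply, Units.val_mul, map_mul]; ring
      rw [Finset.sum_congr rfl h1, ← Finset.sum_mul, ← map_sum, hsumφ, map_zero, zero_mul]
    -- second orthogonality
    have hcent : Subgroup.centralizer ({(w : L)} : Set L) = W₁ ⊔ W₂ := by
      ext g
      rw [Subgroup.mem_centralizer_singleton_iff]
      constructor
      · intro hg
        apply hTI0 (w : L) w.2 hw g
        have h1 : g⁻¹ * (w : L) * g = (w : L) := by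
          rw [mul_assoc, ← hg, inv_mul_cancel_left]
        rw [h1]; exact w.2
      · intro hg
        have := congrArg Subtype.val (hcommW ⟨g, hg⟩ w)
        simpa using this
    have hso := Cfsg.Agent.Helper80.irr_second_orthogonality (w : L) (w : L)
    rw [finsum_eq_sum_of_fintype, if_pos (IsConj.refl _), hcent] at hso
    have hsplit : ∑ χ : IrrCharacter L, (χ : L → ℂ) (w : L) * conj ((χ : L → ℂ) (w : L)) =
        ∑ χ ∈ Finset.univ \ Finset.univ.image (fun ω => (⟨μ ω, hirr ω⟩ : IrrCharacter L)),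
          (χ : L → ℂ) (w : L) * conj ((χ : L → ℂ) (w : L))
        + ∑ ω, μ ω (w : L) * conj (μ ω (w : L)) := by
      rw [← Finset.sum_sdiff (Finset.subset_univ
        (Finset.univ.image (fun ω => (⟨μ ω, hirr ω⟩ : IrrCharacter L))))]
      congr 1
      rw [Finset.sum_image (fun a _ b _ h => hMinj h)]
    have hexpand : ∑ ω, μ ω (w : L) * conj (μ ω (w : L)) =
        (Nat.card ↥(W₁ ⊔ W₂) : ℂ) + ∑ ω, z ω * conj (z ω) := by
      have h1 : ∀ ω, μ ω (w : L) * conj (μ ω (w : L)) =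
          1 + ((ω w : ℂˣ) : ℂ) * conj (z ω) + conj ((ω w : ℂˣ) : ℂ) * z ω + z ω * conj (z ω) := by
        intro ω
        rw [hμz ω, map_mul, map_add]
        have hu := hunit ω w
        have hδ2 : δ ω * conj (δ ω) = 1 := by
          rcases hsign ω with h | h <;> rw [h] <;> simp
        linear_combination (((ω w : ℂˣ) : ℂ) + z ω) * (conj ((ω w : ℂˣ) : ℂ) + conj (z ω)) * hδ2 + hu
      rw [Finset.sum_congr rfl (fun ω _ => h1 ω), Finset.sum_add_distrib, Finset.sum_add_distrib,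
        Finset.sum_add_distrib, hS1, hS2, Finset.sum_const, Finset.card_univ, hcardD]
      simp
    rw [hsplit, hexpand] at hso
    have hzero : ∑ χ ∈ Finset.univ \ Finset.univ.image (fun ω => (⟨μ ω, hirr ω⟩ : IrrCharacter L)),
          (χ : L → ℂ) (w : L) * conj ((χ : L → ℂ) (w : L)) + ∑ ω, z ω * conj (z ω) = 0 := by
      linear_combination hso
    simp only [Complex.mul_conj] at hzero
    have hzeroR : ∑ χ ∈ Finset.univ \ Finset.univ.image (fun ω => (⟨μ ω, hirr ω⟩ : IrrCharacter L)),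
          Complex.normSq ((χ : L → ℂ) (w : L)) + ∑ ω, Complex.normSq (z ω) = 0 := by
      have : ((∑ χ ∈ Finset.univ \ Finset.univ.image (fun ω => (⟨μ ω, hirr ω⟩ : IrrCharacter L)),
          Complex.normSq ((χ : L → ℂ) (w : L)) + ∑ ω, Complex.normSq (z ω) : ℝ) : ℂ) = 0 := by
        push_cast
        exact hzero
      exact_mod_cast this
    have hnn1 : 0 ≤ ∑ χ ∈ Finset.univ \ Finset.univ.image (fun ω => (⟨μ ω, hirr ω⟩ : IrrCharacter L)),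
          Complex.normSq ((χ : L → ℂ) (w : L)) := Finset.sum_nonneg (fun _ _ => Complex.normSq_nonneg _)
    have hnn2 : 0 ≤ ∑ ω, Complex.normSq (z ω) := Finset.sum_nonneg (fun _ _ => Complex.normSq_nonneg _)
    obtain ⟨hR0, hZ0⟩ := (add_eq_zero_iff_of_nonneg hnn1 hnn2).mp hzeroR
    have hzall : ∀ ω, z ω = 0 := by
      intro ω
      have := (Finset.sum_eq_zero_iff_of_nonneg (fun _ _ => Complex.normSq_nonneg _)).mp hZ0 ω
        (Finset.mem_univ ω)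
      exact Complex.normSq_eq_zero.mp this
    refine ⟨?_, ?_⟩
    · intro ω
      rw [hμz ω, hzall ω, add_zero]
    · intro θ hθ hne
      have hmem : (⟨θ, hθ⟩ : IrrCharacter L) ∈
          Finset.univ \ Finset.univ.image (fun ω => (⟨μ ω, hirr ω⟩ : IrrCharacter L)) := by
        rw [Finset.mem_sdiff]
        refine ⟨Finset.mem_univ _, ?_⟩
        intro h
        obtain ⟨ω, _, hω⟩ := Finset.mem_image.mp h
        exact hne ω (congrArg Subtype.val hω).symm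
      have := (Finset.sum_eq_zero_iff_of_nonneg (fun _ _ => Complex.normSq_nonneg _)).mp hR0 _ hmem
      exact Complex.normSq_eq_zero.mp this
  have hdeg : ∀ ω, ∃ n : ℤ, μ ω 1 - δ ω = n * (Nat.card W₁ : ℂ) := by
    intro ω
    have hFW₁ : Fintype ↥W₁ := Fintype.ofFinite _
    have hres : IsCharacter W₁ (fun x : W₁ => μ ω (x : L)) :=
      Cfsg.Agent.Helper81.isCharacter_restrict W₁
        (Cfsg.Agent.Helper81.IsIrrCharacter.isCharacter (hirr ω))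
    obtain ⟨k, hk⟩ := Cfsg.Agent.Helper81.exists_nat_classInner_char hres
      (isCharacter_cf (1 : W₁ →* ℂˣ))
    obtain ⟨ω₁, hω₁def⟩ : ∃ ω₁ : W₁ →* ℂˣ,
        ω₁ = ω.comp (Subgroup.inclusion (le_sup_left : W₁ ≤ W₁ ⊔ W₂)) := ⟨_, rfl⟩
    have hω₁ : ∀ x : W₁, ω₁ x = ω ⟨x, Subgroup.mem_sup_left x.2⟩ := by
      intro x; rw [hω₁def]; rfl
    have hvals : ∀ x : W₁, μ ω (x : L) =
        δ ω * ((ω₁ x : ℂˣ) : ℂ) + (if x = 1 then μ ω 1 - δ ω else 0) := by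
      intro x
      by_cases hx : x = 1
      · rw [if_pos hx, hx]; simp
      · rw [if_neg hx, add_zero, hω₁]
        have hxW₂ : (x : L) ∉ W₂ := by
          intro h
          have h' : (x : L) ∈ W₁ ⊓ W₂ := Subgroup.mem_inf.mpr ⟨x.2, h⟩
          rw [hinf, Subgroup.mem_bot] at h'
          exact hx (Subtype.ext h')
        exact (hval_van ⟨x, Subgroup.mem_sup_left x.2⟩ hxW₂).1 ω
    have hsumω₁ := classInner_hom ω₁ 1
    unfold classInner at hk hsumω₁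
    have hn0 : (Nat.card W₁ : ℂ) ≠ 0 := by
      exact_mod_cast (Nat.card_pos (α := W₁)).ne'
    have hk' : ∑ x : W₁, μ ω (x : L) = (Nat.card W₁ : ℂ) * k := by
      have h1 : ∑ x : W₁, μ ω (x : L) * conj (cf (1 : W₁ →* ℂˣ) x) = ∑ x : W₁, μ ω (x : L) := by
        apply Finset.sum_congr rfl
        intro x _
        simp [cf]
      rw [h1] at hk
      field_simp at hk
      linear_combination hk
    obtain ⟨e, he⟩ : ∃ e : ℤ, (if ω₁ = 1 then (1 : ℂ) else 0) = (e : ℂ) := by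
      by_cases h : ω₁ = 1
      · exact ⟨1, by rw [if_pos h]; simp⟩
      · exact ⟨0, by rw [if_neg h]; simp⟩
    have he' : ∑ x : W₁, ((ω₁ x : ℂˣ) : ℂ) = (Nat.card W₁ : ℂ) * e := by
      have h1 : ∑ x : W₁, ((ω₁ x : ℂˣ) : ℂ) * conj ((((1 : W₁ →* ℂˣ) x : ℂˣ) : ℂ)) =
          ∑ x : W₁, ((ω₁ x : ℂˣ) : ℂ) := by
        apply Finset.sum_congr rfl
        intro x _
        simp
      rw [h1, he] at hsumω₁
      field_simp at hsumω₁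
      linear_combination hsumω₁
    have hsum : ∑ x : W₁, μ ω (x : L) = δ ω * ∑ x : W₁, ((ω₁ x : ℂˣ) : ℂ) + (μ ω 1 - δ ω) := by
      rw [Finset.sum_congr rfl (fun x _ => hvals x), Finset.sum_add_distrib, ← Finset.mul_sum,
        Finset.sum_ite_eq' Finset.univ (1 : W₁)]
      simp
    rw [hk', he'] at hsum
    rcases hsign ω with h | h
    · refine ⟨(k : ℤ) - e, ?_⟩
      rw [h] at hsum ⊢
      push_cast
      linear_combination (-1 : ℂ) * hsum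
    · refine ⟨(k : ℤ) + e, ?_⟩
      rw [h] at hsum ⊢
      push_cast
      linear_combination (-1 : ℂ) * hsum
  refine ⟨μ, δ, hinj, hirr, hsign, ?_, ?_, ?_, hdeg⟩
  · intro ω ω' h
    have hrr : r ω ω' := (hr ω ω').mpr h
    exact ⟨hδeq ω ω' hrr, hind ω ω' hrr⟩
  · intro ω w hw
    exact (hval_van w hw).1 ω
  · intro θ hθ hne w hw
    exact (hval_van w hw).2 θ hθ hne

end Cfsg.Agent.S1511
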