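import Cfsg.Statements.S1513
import Mathlib
import Cfsg.Agent.Lib.Helper25.BrauerPermEq
import Cfsg.Agent.Lib.Helper25.Glauberman
import Cfsg.Agent.S1491

set_option autoImplicit false
open Cfsg
open scoped Pointwise

namespace Cfsg.Agent.S1513

/-- The stabilizer in `L` of a function on the normal subgroup `K`. -/
def stab {L : Type*} [Group L] (K : Subgroup L) [hK : K.Normal] (θ : K → ℂ) : Subgroup L where
  carrier := {g | ∀ k : K, θ ⟨g * k * g⁻¹, hK.conj_mem (k : L) k.2 g⟩ = θ k}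
  one_mem' := by
    intro k
    congr 1
    apply Subtype.ext
    simp
  mul_mem' := by
    intro a b ha hb k
    have h1 := ha ⟨b * k * b⁻¹, hK.conj_mem (k : L) k.2 b⟩
    have h2 := hb k
    rw [← h2, ← h1]
    congr 1
    apply Subtype.ext
    simp only [mul_inv_rev]
    group
  inv_mem' := by
    intro a ha k
    have h1 := ha ⟨a⁻¹ * k * a⁻¹⁻¹, hK.conj_mem (k : L) k.2 a⁻¹⟩
    rw [← h1]
    congr 1
    apply Subtype.ext
    simp only [inv_inv]
    group

theorem mem_stab {L : Type*} [Group L] (K : Subgroup L) [hK : K.Normal] (θ : K → ℂ) (g : L) :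
    g ∈ stab K θ ↔ ∀ k : K, θ ⟨g * k * g⁻¹, hK.conj_mem (k : L) k.2 g⟩ = θ k := Iff.rfl

theorem mem_stab_iff_fun {L : Type*} [Group L] (K : Subgroup L) [hK : K.Normal] (θ : K → ℂ) (g : L) :
    g ∈ stab K θ ↔ (fun k : K => θ ⟨g * k * g⁻¹, hK.conj_mem (k : L) k.2 g⟩) = θ := by
  rw [mem_stab]
  constructor
  · intro h; funext k; exact h k
  · intro h k; exact congrFun h k

theorem mem_stab_iff_comp {L : Type*} [Group L] (K : Subgroup L) [hK : K.Normal] (θ : K → ℂ) (g : L) :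
    g ∈ stab K θ ↔ θ ∘ (MulAut.conjNormal g : MulAut K) = θ := by
  rw [mem_stab_iff_fun]
  have : (fun k : K => θ ⟨g * k * g⁻¹, hK.conj_mem (k : L) k.2 g⟩) =
      θ ∘ (MulAut.conjNormal g : MulAut K) := by
    funext k
    simp only [Function.comp_apply]
    congr 1
  rw [this]

/-- Let L be a finite group with K normal with complement W₁ ≠ 1 a cyclic Hall subgroup, and W₂ ≠ 1 a cyclic subgroup of K equal to C_K(x) for every non-identity x ∈ W₁, with W₁W₂ of odd order. For an irreducible character θ of K: if θ is not fixed under conjugation by some element of W₁, then the function induced from θ to L is an irreducible character of L; and the irreducible characters of K fixed by all of W₁ are exactly Nat.card W₂ in number, each inducing to the sum of Nat.card W₁ pairwise distinct irreducible characters of L. -/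
theorem result {L : Type*} [Group L] [Fintype L] (K W₁ W₂ : Subgroup L) [hK : K.Normal] (hKW₁ : K ⊓ W₁ = ⊥) (hKW₁' : K ⊔ W₁ = ⊤) (hW₁ : W₁ ≠ ⊥) (hW₁c : IsCyclic W₁) (hHall : Nat.Coprime (Nat.card W₁) W₁.index) (hW₂ : W₂ ≠ ⊥) (hW₂c : IsCyclic W₂) (hW₂K : W₂ ≤ K) (hC : ∀ x ∈ W₁, x ≠ 1 → K ⊓ Subgroup.centralizer ({x} : Set L) = W₂) (hodd : Odd (Nat.card ↥(W₁ ⊔ W₂))) : (∀ θ : K → ℂ, Cfsg.IsIrrCharacter K θ → (∃ x ∈ W₁, (fun k : K => θ ⟨x * k * x⁻¹, hK.conj_mem (k : L) k.2 x⟩) ≠ θ) → Cfsg.IsIrrCharacter L (Cfsg.indFun K θ)) ∧ Nat.card {θ : Cfsg.IrrCharacter K // ∀ x ∈ W₁, (fun k : K => (θ : K → ℂ) ⟨x * k * x⁻¹, hK.conj_mem (k : L) k.2 x⟩) = θ} = Nat.card W₂ ∧ (∀ θ : K → ℂ, Cfsg.IsIrrCharacter K θ → (∀ x ∈ W₁, (fun k : K => θ ⟨x * k * x⁻¹, hK.conj_mem (k : L) k.2 x⟩) = θ) → ∃ C : Finset (L → ℂ), C.card = Nat.card W₁ ∧ (∀ μ ∈ C, Cfsg.IsIrrCharacter L μ) ∧ Cfsg.indFun K θ = ∑ μ ∈ C, μ) := by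
  classical
  -- complement facts
  have hmul : (K : Set L) * (W₁ : Set L) = Set.univ := by
    rw [← Subgroup.normal_mul, hKW₁']; rfl
  have hcompl : K.IsComplement' W₁ :=
    Subgroup.isComplement'_of_disjoint_and_mul_eq_univ (disjoint_iff.mpr hKW₁) hmul
  have hidxW : W₁.index = Nat.card K := hcompl.index_eq_card
  have hidxK : K.index = Nat.card W₁ := hcompl.symm.index_eq_card
  have hcop : Nat.Coprime (Nat.card W₁) (Nat.card K) := by rw [← hidxW]; exact hHall
  have hdecomp : ∀ g : L, ∃ k ∈ K, ∃ y ∈ W₁, g = k * y := by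
    intro g
    have : g ∈ (K : Set L) * (W₁ : Set L) := by rw [hmul]; trivial
    obtain ⟨k, hk, y, hy, hky⟩ := Set.mem_mul.mp this
    exact ⟨k, hk, y, hy, hky.symm⟩
  have hordcop : ∀ x ∈ W₁, Nat.Coprime (orderOf x) (Nat.card K) := by
    intro x hx
    exact Nat.Coprime.coprime_dvd_left (Subgroup.orderOf_dvd_natCard W₁ hx) hcop
  -- W₂ commutative
  have hcomm : ∀ a ∈ W₂, ∀ b ∈ W₂, a * b = b * a := by
    intro a ha b hb
    obtain ⟨g, hg⟩ := hW₂c.exists_generator
    obtain ⟨m, hm⟩ := Subgroup.mem_zpowers_iff.mp (hg ⟨a, ha⟩)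
    obtain ⟨n, hn⟩ := Subgroup.mem_zpowers_iff.mp (hg ⟨b, hb⟩)
    have hm' : (g : L) ^ m = a := by
      have := congrArg Subtype.val hm
      simpa using this
    have hn' : (g : L) ^ n = b := by
      have := congrArg Subtype.val hn
      simpa using this
    rw [← hm', ← hn', ← zpow_add, ← zpow_add, add_comm]
  -- count of fixed characters
  have hfixcard : ∀ x ∈ W₁, x ≠ 1 →
      Nat.card {χ : IrrCharacter K // (χ : K → ℂ) ∘ (MulAut.conjNormal x : MulAut K) = χ}
        = Nat.card W₂ := by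
    intro x hx hx1
    rw [Cfsg.Agent.Helper25.brauer_perm_eq]
    exact Cfsg.Agent.Helper25.card_fixed_classes K W₂ x (hordcop x hx) (hC x hx hx1) hcomm
  -- generator of W₁
  obtain ⟨g₀, hg₀⟩ := hW₁c.exists_generator
  have hg₀1 : (g₀ : L) ≠ 1 := by
    intro h
    apply hW₁
    rw [Subgroup.eq_bot_iff_forall]
    intro y hy
    obtain ⟨m, hm⟩ := Subgroup.mem_zpowers_iff.mp (hg₀ ⟨y, hy⟩)
    have hm' : (g₀ : L) ^ m = y := by
      have := congrArg Subtype.val hm
      simpa using this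
    rw [← hm', h, one_zpow]
  have hgen : ∀ (θ : K → ℂ), (g₀ : L) ∈ stab K θ → W₁ ≤ stab K θ := by
    intro θ h y hy
    obtain ⟨m, hm⟩ := Subgroup.mem_zpowers_iff.mp (hg₀ ⟨y, hy⟩)
    have hm' : (g₀ : L) ^ m = y := by
      have := congrArg Subtype.val hm
      simpa using this
    rw [← hm']
    exact Subgroup.zpow_mem _ h m
  -- class functions are K-stable
  have hKstab : ∀ (θ : K → ℂ), IsIrrCharacter K θ → K ≤ stab K θ := by
    intro θ hθ g hg k
    have hcf := Cfsg.Agent.Helper16.isClassFunction_of_isIrrCharacter' hθ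
    have := hcf k ⟨g, hg⟩
    rw [← this]
    congr 1
  -- an element of W₁# fixing θ forces all of W₁ to fix θ
  have hkey : ∀ (θ : K → ℂ), IsIrrCharacter K θ → ∀ y ∈ W₁, y ≠ 1 → y ∈ stab K θ →
      W₁ ≤ stab K θ := by
    intro θ hθ y hy hy1 hyθ
    apply hgen
    have hsub : {χ : IrrCharacter K | (χ : K → ℂ) ∘ (MulAut.conjNormal (g₀ : L) : MulAut K) = χ} ⊆
        {χ : IrrCharacter K | (χ : K → ℂ) ∘ (MulAut.conjNormal y : MulAut K) = χ} := by
      intro χ hχ
      have h1 : (g₀ : L) ∈ stab K (χ : K → ℂ) := (mem_stab_iff_comp K _ _).mpr hχ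
      have h2 := hgen _ h1 hy
      exact (mem_stab_iff_comp K _ _).mp h2
    have hcard1 : Set.ncard {χ : IrrCharacter K |
        (χ : K → ℂ) ∘ (MulAut.conjNormal (g₀ : L) : MulAut K) = χ} = Nat.card W₂ := by
      rw [← hfixcard (g₀ : L) g₀.2 hg₀1, ← Nat.card_coe_set_eq]; rfl
    have hcard2 : Set.ncard {χ : IrrCharacter K |
        (χ : K → ℂ) ∘ (MulAut.conjNormal y : MulAut K) = χ} = Nat.card W₂ := by
      rw [← hfixcard y hy hy1, ← Nat.card_coe_set_eq]; rfl
    have heq := Set.eq_of_subset_of_ncard_le hsub (by rw [hcard1, hcard2]) (Set.toFinite _)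
    have hmem : (⟨θ, hθ⟩ : IrrCharacter K) ∈ {χ : IrrCharacter K |
        (χ : K → ℂ) ∘ (MulAut.conjNormal y : MulAut K) = χ} :=
      (mem_stab_iff_comp K θ y).mp hyθ
    rw [← heq] at hmem
    exact (mem_stab_iff_comp K θ _).mpr hmem
  -- L/K abelian
  have hab : ∀ x y : L, x * y * x⁻¹ * y⁻¹ ∈ K := by
    intro x y
    obtain ⟨k₁, hk₁, y₁, hy₁, rfl⟩ := hdecomp x
    obtain ⟨k₂, hk₂, y₂, hy₂, rfl⟩ := hdecomp y
    rw [← QuotientGroup.eq_one_iff]
    have e1 : ((k₁ : L) : L ⧸ K) = 1 := (QuotientGroup.eq_one_iff _).mpr hk₁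
    have e2 : ((k₂ : L) : L ⧸ K) = 1 := (QuotientGroup.eq_one_iff _).mpr hk₂
    have hyy : y₁ * y₂ = y₂ * y₁ := by
      obtain ⟨m, hm⟩ := Subgroup.mem_zpowers_iff.mp (hg₀ ⟨y₁, hy₁⟩)
      obtain ⟨n, hn⟩ := Subgroup.mem_zpowers_iff.mp (hg₀ ⟨y₂, hy₂⟩)
      have hm' : (g₀ : L) ^ m = y₁ := by
        have := congrArg Subtype.val hm
        simpa using this
      have hn' : (g₀ : L) ^ n = y₂ := by
        have := congrArg Subtype.val hn
        simpa using this
      rw [← hm', ← hn', ← zpow_add, ← zpow_add, add_comm]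
    simp only [QuotientGroup.mk_mul, QuotientGroup.mk_inv, e1, e2, one_mul]
    rw [← QuotientGroup.mk_mul, hyy]
    simp
  refine ⟨?_, ?_, ?_⟩
  · -- part 1
    intro θ hθ hmoved
    obtain ⟨x, hx, hxθ⟩ := hmoved
    have hT : ∀ g : L, g ∈ K ↔ ∀ h : K, θ ⟨g * h * g⁻¹, hK.conj_mem h h.2 g⟩ = θ h := by
      intro g
      constructor
      · intro hg
        exact (mem_stab K θ g).mp (hKstab θ hθ hg)
      · intro hg
        have hgs : g ∈ stab K θ := (mem_stab K θ g).mpr hg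
        obtain ⟨k, hk, y, hy, rfl⟩ := hdecomp g
        have hys : y ∈ stab K θ := by
          have := (stab K θ).mul_mem ((stab K θ).inv_mem (hKstab θ hθ hk)) hgs
          simpa using this
        by_cases hy1 : y = 1
        · rw [hy1, mul_one]; exact hk
        · exfalso
          apply hxθ
          exact (mem_stab_iff_fun K θ x).mp (hkey θ hθ y hy hy1 hys hx)
    obtain ⟨C, hCirr, hCcard, hCsum, -⟩ := Cfsg.Agent.S1491.result K K θ hθ hT
      (fun a ha b hb => hab a b) (by rw [Subgroup.relIndex_self]; exact Nat.coprime_one_right _)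
    rw [Subgroup.relIndex_self] at hCcard
    obtain ⟨χ, hχ⟩ := Finset.card_eq_one.mp hCcard
    rw [hχ, Finset.sum_singleton] at hCsum
    rw [hCsum]
    exact hCirr χ (by rw [hχ]; exact Finset.mem_singleton_self χ)
  · -- part 2
    rw [← hfixcard (g₀ : L) g₀.2 hg₀1]
    refine Nat.card_congr (Equiv.subtypeEquivRight fun χ => ?_)
    constructor
    · intro h
      have := h (g₀ : L) g₀.2
      exact (mem_stab_iff_comp K _ _).mp ((mem_stab_iff_fun K _ _).mpr this)
    · intro h x hx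
      have h1 : (g₀ : L) ∈ stab K (χ : K → ℂ) := (mem_stab_iff_comp K _ _).mpr h
      exact (mem_stab_iff_fun K _ _).mp (hgen _ h1 hx)
  · -- part 3
    intro θ hθ hfixed
    have hW₁stab : W₁ ≤ stab K θ := fun x hx => (mem_stab_iff_fun K θ x).mpr (hfixed x hx)
    have hT : ∀ g : L, g ∈ (⊤ : Subgroup L) ↔
        ∀ h : K, θ ⟨g * h * g⁻¹, hK.conj_mem h h.2 g⟩ = θ h := by
      intro g
      constructor
      · intro _
        obtain ⟨k, hk, y, hy, rfl⟩ := hdecomp g
        exact (mem_stab K θ _).mp ((stab K θ).mul_mem (hKstab θ hθ hk) (hW₁stab hy))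
      · intro _; trivial
    obtain ⟨C, hCirr, hCcard, hCsum, -⟩ := Cfsg.Agent.S1491.result K ⊤ θ hθ hT
      (fun a _ b _ => hab a b)
      (by rw [Subgroup.relIndex_top_right, hidxK]; exact hcop.symm)
    rw [Subgroup.relIndex_top_right, hidxK] at hCcard
    exact ⟨C, hCcard, hCirr, hCsum⟩

end Cfsg.Agent.S1513
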