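import Mathlib
import Cfsg.Statements.S1514
import Cfsg.Agent.Lib.Helper82.GenChar
import Cfsg.Agent.S1509

set_option autoImplicit false
open Cfsg

namespace Cfsg.Agent.S1514

open Cfsg.Agent.Helper81 Cfsg.Agent.Helper82
open scoped ComplexConjugate

theorem classInner_conj_conj {X : Type*} [Group X] [Fintype X] (φ χ : X → ℂ) :
    classInner (Cfsg.conjFun φ) (Cfsg.conjFun χ) = conj (classInner φ χ) := by
  simp only [classInner, Cfsg.conjFun, map_mul, map_sum, map_inv₀, Complex.conj_natCast,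
    Complex.conj_conj]

theorem classInner_conj_left {X : Type*} [Group X] [Fintype X] (φ χ : X → ℂ) :
    classInner (Cfsg.conjFun φ) χ = conj (classInner φ (Cfsg.conjFun χ)) := by
  simp only [classInner, Cfsg.conjFun, map_mul, map_sum, map_inv₀, Complex.conj_natCast,
    Complex.conj_conj]

/-- Let S be a nonempty set of irreducible characters of the finite group L, closed under complex conjugation and containing no real-valued member, and τ a linear isometry on the integer combinations of S vanishing at 1, with values virtual characters of G vanishing at 1. Then there is a choice R making (S, τ, R) a coherence system. -/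
theorem result {L : Type*} [Group L] [Fintype L] {G : Type*} [Group G] [Fintype G] (S : Set (L → ℂ)) (hS : S.Nonempty) (hirr : ∀ χ ∈ S, Cfsg.IsIrrCharacter L χ) (hconj : ∀ χ ∈ S, Cfsg.conjFun χ ∈ S ∧ Cfsg.conjFun χ ≠ χ) (τ : (L → ℂ) → (G → ℂ)) (hτ : Cfsg.IsLinearIsometryOn (Cfsg.zspanOn S {1}ᶜ) τ) (hτ1 : ∀ α ∈ Cfsg.zspanOn S {1}ᶜ, τ α 1 = 0) : ∃ R : (L → ℂ) → Finset (G → ℂ), Cfsg.IsCoherenceSystem S τ R := by
  classical
  obtain ⟨hadd, hsmul, hiso, hgen⟩ := hτ
  -- χ - conj χ lies in the domain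
  have hdom : ∀ χ ∈ S, χ - Cfsg.conjFun χ ∈ Cfsg.zspanOn S {1}ᶜ := by
    intro χ hχ
    refine ⟨Submodule.sub_mem _ (Submodule.subset_span hχ)
      (Submodule.subset_span (hconj χ hχ).1), ?_⟩
    intro x hx
    have hx1 : x = 1 := by
      by_contra h
      exact hx h
    subst hx1
    obtain ⟨n, _, hn⟩ := irr_degree_pos (hirr χ hχ)
    simp [Cfsg.conjFun, hn]
  have hcc : ∀ χ ∈ S, classInner χ (Cfsg.conjFun χ) = 0 := by
    intro χ hχ
    rw [irr_orthonormal (hirr χ hχ) (hirr _ (hconj χ hχ).1), if_neg (hconj χ hχ).2.symm]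
  have hcc' : ∀ χ ∈ S, classInner (Cfsg.conjFun χ) χ = 0 := by
    intro χ hχ
    rw [irr_orthonormal (hirr _ (hconj χ hχ).1) (hirr χ hχ), if_neg (hconj χ hχ).2]
  have hnorm : ∀ χ ∈ S, classInner (τ (χ - Cfsg.conjFun χ)) (τ (χ - Cfsg.conjFun χ)) = 2 := by
    intro χ hχ
    rw [hiso _ (hdom χ hχ) _ (hdom χ hχ), classInner_sub_left, classInner_sub_right,
      classInner_sub_right, hcc χ hχ, hcc' χ hχ, irr_orthonormal (hirr χ hχ) (hirr χ hχ),
      irr_orthonormal (hirr _ (hconj χ hχ).1) (hirr _ (hconj χ hχ).1), if_pos rfl, if_pos rfl]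
    ring
  have hdec : ∀ χ ∈ S, ∃ μ₁ μ₂ : G → ℂ, IsIrrCharacter G μ₁ ∧ IsIrrCharacter G μ₂ ∧ μ₁ ≠ μ₂ ∧
      τ (χ - Cfsg.conjFun χ) = μ₁ - μ₂ := fun χ hχ =>
    genChar_norm_two (hgen _ (hdom χ hχ)) (hnorm χ hχ) (hτ1 _ (hdom χ hχ))
  choose! m₁ m₂ hm using hdec
  have hne : ∀ χ ∈ S, m₁ χ ≠ -m₂ χ := by
    intro χ hχ h
    obtain ⟨a, ha, ha1⟩ := irr_degree_pos (hm χ hχ).1
    obtain ⟨b, hb, hb1⟩ := irr_degree_pos (hm χ hχ).2.1
    have h1 := congrFun h 1
    rw [Pi.neg_apply, ha1, hb1] at h1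
    have h2 : ((a + b : ℕ) : ℂ) = 0 := by push_cast; linear_combination h1
    have h3 : a + b = 0 := by exact_mod_cast h2
    omega
  have hdeg : ∀ χ ∈ S, m₁ χ 1 = m₂ χ 1 := by
    intro χ hχ
    have h1 := hτ1 _ (hdom χ hχ)
    rw [(hm χ hχ).2.2.2, Pi.sub_apply] at h1
    exact sub_eq_zero.1 h1
  have h12 : ∀ χ ∈ S, classInner (m₁ χ) (m₂ χ) = 0 := by
    intro χ hχ
    rw [irr_orthonormal (hm χ hχ).1 (hm χ hχ).2.1, if_neg (hm χ hχ).2.2.1]
  refine ⟨fun χ => {m₁ χ, -m₂ χ}, ?_⟩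
  refine
    { nonempty := hS
      isCharacter := fun χ hχ => IsIrrCharacter.isCharacter (hirr χ hχ)
      conj_mem := fun χ hχ => (hconj χ hχ).1
      conj_ne := fun χ hχ => (hconj χ hχ).2
      isometry := ⟨hadd, hsmul, hiso, hgen⟩
      map_one := hτ1
      orthogonal := ?_
      orthonormal := ?_
      virtual := ?_
      sum_eq := ?_
      disjoint := ?_ }
  · intro χ hχ φ hφ hne'
    rw [irr_orthonormal (hirr χ hχ) (hirr φ hφ), if_neg hne']
  · intro χ hχ α hα β hβ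
    simp only [Finset.mem_insert, Finset.mem_singleton] at hα hβ
    have h11 : classInner (m₁ χ) (m₁ χ) = 1 := by
      rw [irr_orthonormal (hm χ hχ).1 (hm χ hχ).1, if_pos rfl]
    have h22 : classInner (m₂ χ) (m₂ χ) = 1 := by
      rw [irr_orthonormal (hm χ hχ).2.1 (hm χ hχ).2.1, if_pos rfl]
    have h21 : classInner (m₂ χ) (m₁ χ) = 0 := by
      rw [irr_orthonormal (hm χ hχ).2.1 (hm χ hχ).1, if_neg (hm χ hχ).2.2.1.symm]
    rcases hα with rfl | rfl <;> rcases hβ with rfl | rfl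
    · rw [if_pos rfl, h11]
    · rw [if_neg (hne χ hχ), classInner_neg_right, h12 χ hχ, neg_zero]
    · rw [if_neg (hne χ hχ).symm, classInner_neg_left, h21, neg_zero]
    · rw [if_pos rfl, classInner_neg_left, classInner_neg_right, h22, neg_neg]
  · intro χ hχ α hα
    simp only [Finset.mem_insert, Finset.mem_singleton] at hα
    rcases hα with rfl | rfl
    · exact isGeneralizedCharacter_of_isCharacter (IsIrrCharacter.isCharacter (hm χ hχ).1)
    · exact isGeneralizedCharacter_neg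
        (isGeneralizedCharacter_of_isCharacter (IsIrrCharacter.isCharacter (hm χ hχ).2.1))
  · intro χ hχ
    rw [Finset.sum_pair (hne χ hχ), (hm χ hχ).2.2.2, sub_eq_add_neg]
  · intro χ hχ φ hφ h1 h2 α hα β hβ
    simp only [Finset.mem_insert, Finset.mem_singleton] at hα hβ
    have hmix : classInner (m₁ φ - m₂ φ) ((((1 : ℝ) : ℂ)) • m₁ χ - (((1 : ℝ) : ℂ)) • m₂ χ) = 0 := by
      rw [Complex.ofReal_one, one_smul, one_smul, ← (hm χ hχ).2.2.2, ← (hm φ hφ).2.2.2,
        hiso _ (hdom φ hφ) _ (hdom χ hχ), classInner_sub_left, classInner_sub_right,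
        classInner_sub_right, h1, h2, classInner_conj_conj, h1, classInner_conj_left, h2]
      simp
    obtain ⟨r1, r2, r3, r4⟩ := Cfsg.Agent.S1509.result (m₁ φ) (m₂ φ) (m₁ χ) (m₂ χ)
      (Or.inl (hm φ hφ).1) (Or.inl (hm φ hφ).2.1) (Or.inl (hm χ hχ).1) (Or.inl (hm χ hχ).2.1)
      1 1 one_ne_zero one_ne_zero (h12 φ hφ) (h12 χ hχ) hmix (hdeg φ hφ)
      (by rw [hdeg χ hχ])
    rcases hα with rfl | rfl <;> rcases hβ with rfl | rfl
    · exact r1
    · rw [classInner_neg_right, r2, neg_zero]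
    · rw [classInner_neg_left, r3, neg_zero]
    · rw [classInner_neg_left, classInner_neg_right, r4, neg_neg]

end Cfsg.Agent.S1514
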