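import Mathlib
import Cfsg.Statements.S1516
import Cfsg.Agent.Lib.Helper82.CoherenceSys

set_option autoImplicit false
set_option linter.style.haveILetI false
open Cfsg

namespace Cfsg.Agent.S1516

open Cfsg.Agent.Helper81 Cfsg.Agent.Helper82
open scoped ComplexConjugate

/-- Let (S, τ, R) be a coherence system from L to G with degrees φ 1 = d φ and squared norms ⟨φ, φ⟩ = n φ for φ ∈ S. Let S₁ ⊆ S be a finite subset closed under complex conjugation such that (S₁, L minus 1, τ) is coherent, let χ ∈ S with χ ∉ S₁ and conj χ ∉ S₁, and let χ₁ ∈ S₁ with d χ₁ dividing d χ and 2 d χ d χ₁ < Σ_{φ ∈ S₁} (d φ)² / n φ. Then S₁ together with χ and conj χ is coherent. -/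
theorem result {L : Type*} [Group L] [Fintype L] {G : Type*} [Group G] [Fintype G] (S : Set (L → ℂ)) (τ : (L → ℂ) → (G → ℂ)) (R : (L → ℂ) → Finset (G → ℂ)) (hS : Cfsg.IsCoherenceSystem S τ R) (d n : (L → ℂ) → ℕ) (hd : ∀ φ ∈ S, φ 1 = (d φ : ℂ)) (hn : ∀ φ ∈ S, Cfsg.classInner φ φ = (n φ : ℂ)) (S₁ : Finset (L → ℂ)) (hS₁ : ↑S₁ ⊆ S) (hS₁c : ∀ φ ∈ S₁, Cfsg.conjFun φ ∈ S₁) (hcoh : Cfsg.IsCoherent (↑S₁ : Set (L → ℂ)) {1}ᶜ τ) (χ : L → ℂ) (hχ : χ ∈ S) (hχ₁ : χ ∉ S₁) (hχ₂ : Cfsg.conjFun χ ∉ S₁) (χ₁ : L → ℂ) (hχ₁S : χ₁ ∈ S₁) (hdvd : d χ₁ ∣ d χ) (hineq : (2 * d χ * d χ₁ : ℝ) < ∑ φ ∈ S₁, ((d φ : ℝ) ^ 2 / (n φ : ℝ))) : Cfsg.IsCoherent (↑S₁ ∪ {χ, Cfsg.conjFun χ} : Set (L → ℂ)) {1}ᶜ τ := by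
  classical
  obtain ⟨hnz, τ₁, hτ₁, hτ₁τ⟩ := hcoh
  have hτ₁L : ZLinOn (↑S₁ : Set (L → ℂ)) τ₁ := zlinOn_of_isLinearIsometryOn hτ₁
  obtain ⟨hτadd, hτsmul, hτiso, hτgen⟩ := hS.isometry
  have hχc : Cfsg.conjFun χ ∈ S := hS.conj_mem χ hχ
  have hS₁' : ∀ φ ∈ S₁, φ ∈ S := fun φ hφ => hS₁ hφ
  have hχ₁' : χ₁ ∈ S := hS₁' χ₁ hχ₁S
  -- positivity
  have hne0 : ∀ φ ∈ S, φ ≠ 0 := by
    intro φ hφ h0
    apply hS.conj_ne φ hφ
    rw [h0]; ext x; simp [Cfsg.conjFun]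
  have hnpos : ∀ φ ∈ S, 0 < n φ := by
    intro φ hφ
    rcases Nat.eq_zero_or_pos (n φ) with h | h
    · exfalso
      apply hne0 φ hφ
      apply eq_zero_of_classInner_self
      rw [hn φ hφ, h]; simp
    · exact h
  have hdpos : ∀ φ ∈ S, 0 < d φ := by
    intro φ hφ
    have hd' := hd φ hφ
    have hne := hne0 φ hφ
    obtain ⟨k, ρ, rfl⟩ := hS.isCharacter φ hφ
    rw [Representation.char_one] at hd'
    have hk : Module.finrank ℂ (Fin k → ℂ) = k := by simp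
    rw [hk] at hd'
    have hkd : k = d ρ.character := by exact_mod_cast hd'
    rcases Nat.eq_zero_or_pos k with h0 | h0
    · exfalso
      apply hne
      ext g
      exact character_eq_zero_of_finrank_eq_zero ρ (by rw [hk, h0]) g
    · omega
  -- orthogonality in L
  have horthS : ∀ φ ∈ S, ∀ φ' ∈ S, classInner φ φ' = if φ = φ' then (n φ : ℂ) else 0 := by
    intro φ hφ φ' hφ'
    by_cases h : φ = φ'
    · subst h; rw [if_pos rfl, hn φ hφ]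
    · rw [if_neg h, hS.orthogonal φ hφ φ' hφ' h]
  have hχφ : ∀ φ ∈ S₁, classInner χ φ = 0 := by
    intro φ hφ
    rw [horthS χ hχ φ (hS₁' φ hφ), if_neg]
    rintro rfl; exact hχ₁ hφ
  have hφχ : ∀ φ ∈ S₁, classInner φ χ = 0 := by
    intro φ hφ
    rw [horthS φ (hS₁' φ hφ) χ hχ, if_neg]
    rintro rfl; exact hχ₁ hφ
  have hcφ : ∀ φ ∈ S₁, classInner (Cfsg.conjFun χ) φ = 0 := by
    intro φ hφ
    rw [horthS _ hχc φ (hS₁' φ hφ), if_neg]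
    rintro rfl; exact hχ₂ hφ
  have hφc : ∀ φ ∈ S₁, classInner φ (Cfsg.conjFun χ) = 0 := by
    intro φ hφ
    rw [horthS φ (hS₁' φ hφ) _ hχc, if_neg]
    rintro rfl; exact hχ₂ hφ
  obtain ⟨a, ha⟩ := hdvd
  set P : ℕ := d χ₁ with hP
  have hPpos : 0 < P := hdpos χ₁ hχ₁'
  set n₁ : ℕ := n χ₁ with hn₁
  have hn₁pos : 0 < n₁ := hnpos χ₁ hχ₁'
  -- β = χ - a χ₁
  set ψ : L → ℂ := (a : ℤ) • χ₁ with hψ
  have hψmem : ψ ∈ Cfsg.zspan S := zspan_smul_mem _ (subset_zspan hχ₁')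
  have hβmem : χ - ψ ∈ Cfsg.zspanOn S {1}ᶜ := by
    refine mem_zspanOn_compl_one.2 ⟨zspan_sub_mem (subset_zspan hχ) hψmem, ?_⟩
    rw [hψ, Pi.sub_apply, Pi.smul_apply, hd χ hχ, hd χ₁ hχ₁', zsmul_eq_mul, ha]
    push_cast; ring
  have hχψ : classInner χ ψ = 0 := by
    rw [hψ, classInner_zsmul_right, hχφ χ₁ hχ₁S, mul_zero]
  have hcψ : classInner (Cfsg.conjFun χ) ψ = 0 := by
    rw [hψ, classInner_zsmul_right, hcφ χ₁ hχ₁S, mul_zero]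
  have hψχ : classInner ψ χ = 0 := by
    rw [classInner_conj_symm χ ψ, hχψ, map_zero]
  have hψψ : classInner ψ ψ = ((a : ℂ)) ^ 2 * (n₁ : ℂ) := by
    rw [hψ, classInner_zsmul_left, classInner_zsmul_right, hn χ₁ hχ₁']
    push_cast; ring
  set Δ := τ (χ - ψ) with hΔ
  have hΔgen : IsGeneralizedCharacter G Δ := hτgen _ hβmem
  have hΔΔ : classInner Δ Δ = (n χ : ℂ) + (a : ℂ) ^ 2 * (n₁ : ℂ) := by
    rw [hΔ, hτiso _ hβmem _ hβmem, classInner_sub_left, classInner_sub_right,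
      classInner_sub_right, hn χ hχ, hχψ, hψχ, hψψ]
    ring
  have hsub2 : Cfsg.zspan {χ - ψ, χ - Cfsg.conjFun χ} ⊆ Cfsg.zspanOn S {1}ᶜ := by
    apply zspan_subset_zspanOn
    rintro y (rfl | rfl)
    · exact hβmem
    · exact cs_sub_conj_mem hS hχ
  have key := Cfsg.Agent.S1515.result S τ R hS χ hχ ψ hψmem hχψ hcψ τ
    (isLinearIsometryOn_mono hS.isometry hsub2) (fun _ => rfl)
  rw [← hΔ] at key
  have hE1 := cs_R_one hS hχ
  have hE0 := cs_R_zero hS hχ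
  set X : G → ℂ := projE (R χ) Δ with hX
  set W : G → ℂ := Δ - X with hW
  have hpyth := norm_decomp_projE hE1 hE0 Δ
  rw [← hX, ← hW, hΔΔ, sum_mul_conj_eq_norm_sq] at hpyth
  -- coherent images lie in the spans of the R-sets
  have himg : ∀ φ ∈ S₁, τ₁ φ = projE (R φ) (τ₁ φ) := fun φ hφ =>
    cs_coherent_image hS hS₁ hτ₁ hτ₁τ (Finset.mem_coe.2 hφ) (Finset.mem_coe.2 (hS₁c φ hφ))
  have hRorth : ∀ φ ∈ S₁, ∀ e ∈ R χ, classInner (τ₁ φ) e = 0 := by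
    intro φ hφ e he
    rw [himg φ hφ]
    apply inner_projE_left_of_orth
    intro e' he'
    rw [classInner_conj_symm e' e, hS.disjoint χ hχ φ (hS₁' φ hφ) (hφχ φ hφ) (hφc φ hφ) e' he' e he,
      map_zero]
  have hXφ : ∀ φ ∈ S₁, classInner X (τ₁ φ) = 0 := fun φ hφ =>
    inner_projE_left_of_orth Δ (τ₁ φ) (hRorth φ hφ)
  have hSgφ : ∀ φ ∈ S₁, classInner (∑ α ∈ R χ, α) (τ₁ φ) = 0 := by
    intro φ hφ
    rw [classInner_sum_left]
    apply Finset.sum_eq_zero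
    intro e he
    rw [classInner_conj_symm (τ₁ φ) e, hRorth φ hφ e he, map_zero]
  -- integrality
  have hint : ∀ φ ∈ S₁, ∃ k : ℤ, classInner Δ (τ₁ φ) = (k : ℂ) := fun φ hφ =>
    genChar_inner_int hΔgen (hτ₁.2.2.2 φ (subset_zspan (Finset.mem_coe.2 hφ)))
  choose! x hx using hint
  have hWφ : ∀ φ ∈ S₁, classInner W (τ₁ φ) = (x φ : ℂ) := by
    intro φ hφ
    rw [hW, classInner_sub_left, hx φ hφ, hXφ φ hφ, sub_zero]
  have hτ₁orth : ∀ φ ∈ S₁, ∀ φ' ∈ S₁,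
      classInner (τ₁ φ) (τ₁ φ') = if φ = φ' then (n φ : ℂ) else 0 := by
    intro φ hφ φ' hφ'
    rw [hτ₁.2.2.1 _ (subset_zspan (Finset.mem_coe.2 hφ)) _ (subset_zspan (Finset.mem_coe.2 hφ'))]
    exact horthS φ (hS₁' φ hφ) φ' (hS₁' φ' hφ')
  -- β_φ
  have hβφ : ∀ φ ∈ S₁, ((d φ : ℤ) • χ₁ + (-(P : ℤ)) • φ) ∈
      Cfsg.zspanOn (↑S₁ : Set (L → ℂ)) {1}ᶜ := by
    intro φ hφ
    refine mem_zspanOn_compl_one.2 ⟨zspan_add_mem
      (zspan_smul_mem _ (subset_zspan (Finset.mem_coe.2 hχ₁S)))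
      (zspan_smul_mem _ (subset_zspan (Finset.mem_coe.2 hφ))), ?_⟩
    rw [Pi.add_apply, Pi.smul_apply, Pi.smul_apply, hd χ₁ hχ₁', hd φ (hS₁' φ hφ), zsmul_eq_mul,
      zsmul_eq_mul]
    push_cast; ring
  set m : ℤ := x χ₁ + (a : ℤ) * (n₁ : ℤ) with hm
  have hstar : ∀ φ ∈ S₁, (P : ℤ) * x φ =
      (d φ : ℤ) * m - (if φ = χ₁ then (a : ℤ) * P * n₁ else 0) := by
    intro φ hφ
    have h1 : classInner Δ (τ₁ ((d φ : ℤ) • χ₁ + (-(P : ℤ)) • φ)) =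
        classInner (χ - ψ) ((d φ : ℤ) • χ₁ + (-(P : ℤ)) • φ) := by
      rw [hτ₁τ _ (hβφ φ hφ)]
      exact hτiso _ hβmem _ (zspanOn_mono hS₁ _ (hβφ φ hφ))
    rw [hτ₁L.add _ (zspan_smul_mem _ (subset_zspan (Finset.mem_coe.2 hχ₁S))) _
      (zspan_smul_mem _ (subset_zspan (Finset.mem_coe.2 hφ))),
      hτ₁L.smul _ (subset_zspan (Finset.mem_coe.2 hχ₁S)),
      hτ₁L.smul _ (subset_zspan (Finset.mem_coe.2 hφ)), hψ] at h1
    simp only [classInner_add_right, classInner_zsmul_right, classInner_sub_left,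
      classInner_zsmul_left, hx χ₁ hχ₁S, hx φ hφ, hχφ χ₁ hχ₁S, hχφ φ hφ,
      horthS χ₁ hχ₁' χ₁ hχ₁', horthS χ₁ hχ₁' φ (hS₁' φ hφ), if_pos] at h1
    by_cases hφ1 : φ = χ₁
    · subst hφ1
      simp
      ring
    · rw [if_neg hφ1]
      rw [if_neg (Ne.symm hφ1)] at h1
      have h2 : (((P : ℤ) * x φ : ℤ) : ℂ) = (((d φ : ℤ) * m - 0 : ℤ) : ℂ) := by
        rw [hm]
        push_cast at h1 ⊢
        linear_combination -h1
      exact Int.cast_injective h2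
  -- Bessel
  have hbessel : ∑ φ ∈ S₁, ((x φ : ℤ) : ℝ) ^ 2 / (n φ : ℝ) ≤ (classInner W W).re := by
    apply bessel_orth S₁ (fun φ => τ₁ φ) (fun φ => (n φ : ℝ))
    · intro φ hφ
      exact_mod_cast hnpos φ (hS₁' φ hφ)
    · intro φ hφ φ' hφ'
      rw [hτ₁orth φ hφ φ' hφ']
      push_cast; rfl
    · intro φ hφ
      rw [hWφ φ hφ]
      push_cast; rfl
  have hWre : (classInner W W).re = (n χ : ℝ) + (a : ℝ) ^ 2 * (n₁ : ℝ) -
      ∑ α ∈ R χ, ‖classInner Δ α‖ ^ 2 := by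
    have h2 : ((n χ : ℂ) + (a : ℂ) ^ 2 * (n₁ : ℂ)) =
        (((n χ : ℝ) + (a : ℝ) ^ 2 * (n₁ : ℝ) : ℝ) : ℂ) := by
      push_cast; ring
    have h3 := hpyth
    rw [h2] at h3
    have := congrArg Complex.re h3
    rw [Complex.ofReal_re, Complex.add_re, Complex.ofReal_re] at this
    linarith
  have hkey1 : (n χ : ℝ) ≤ ∑ α ∈ R χ, ‖classInner Δ α‖ ^ 2 := by
    have := key.1
    rw [hn χ hχ, Complex.natCast_re] at this
    exact this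
  -- the weighted sum
  set D' : ℝ := ∑ φ ∈ S₁, ((d φ : ℝ) ^ 2 / (n φ : ℝ)) with hD'
  have hsumsq : (P : ℝ) ^ 2 * ∑ φ ∈ S₁, ((x φ : ℤ) : ℝ) ^ 2 / (n φ : ℝ) =
      (m : ℝ) ^ 2 * D' - 2 * (m : ℝ) * (a : ℝ) * (P : ℝ) ^ 2 +
        (a : ℝ) ^ 2 * (P : ℝ) ^ 2 * (n₁ : ℝ) := by
    rw [Finset.mul_sum]
    have h1 : ∀ φ ∈ S₁, (P : ℝ) ^ 2 * (((x φ : ℤ) : ℝ) ^ 2 / (n φ : ℝ)) =
        (m : ℝ) ^ 2 * ((d φ : ℝ) ^ 2 / (n φ : ℝ)) -
          (if φ = χ₁ then 2 * (m : ℝ) * (a : ℝ) * (P : ℝ) ^ 2 else 0) +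
          (if φ = χ₁ then (a : ℝ) ^ 2 * (P : ℝ) ^ 2 * (n₁ : ℝ) else 0) := by
      intro φ hφ
      have hnφ : (n φ : ℝ) ≠ 0 := by
        have := hnpos φ (hS₁' φ hφ)
        exact_mod_cast this.ne'
      have h2 : ((P : ℝ) * ((x φ : ℤ) : ℝ)) = (d φ : ℝ) * (m : ℝ) -
          (if φ = χ₁ then (a : ℝ) * (P : ℝ) * (n₁ : ℝ) else 0) := by
        have := congrArg (fun z : ℤ => (z : ℝ)) (hstar φ hφ)
        push_cast at this
        rw [this]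
      have h3 : (P : ℝ) ^ 2 * (((x φ : ℤ) : ℝ) ^ 2 / (n φ : ℝ)) =
          ((P : ℝ) * ((x φ : ℤ) : ℝ)) ^ 2 / (n φ : ℝ) := by ring
      rw [h3, h2]
      by_cases hφ1 : φ = χ₁
      · subst hφ1
        simp only [if_pos]
        field_simp
        ring
      · simp only [if_neg hφ1]
        field_simp
        ring
    rw [Finset.sum_congr rfl h1, Finset.sum_add_distrib, Finset.sum_sub_distrib,
      Finset.sum_ite_eq' S₁ χ₁, Finset.sum_ite_eq' S₁ χ₁, if_pos hχ₁S, if_pos hχ₁S,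
      ← Finset.mul_sum]
  have hineq' : 2 * (a : ℝ) * (P : ℝ) ^ 2 < D' := by
    have : (d χ : ℝ) = (P : ℝ) * (a : ℝ) := by rw [ha]; push_cast; ring
    rw [this] at hineq
    have h2 : (2 * ((P : ℝ) * (a : ℝ)) * (d χ₁ : ℝ) : ℝ) = 2 * (a : ℝ) * (P : ℝ) ^ 2 := by
      rw [hP]; ring
    rw [h2] at hineq
    exact hineq
  have hPR : (0 : ℝ) < (P : ℝ) ^ 2 := by
    have : (0 : ℝ) < (P : ℝ) := by exact_mod_cast hPpos
    positivity
  have hm0 : m = 0 := by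
    by_contra hmne
    have h1 : (P : ℝ) ^ 2 * ∑ φ ∈ S₁, ((x φ : ℤ) : ℝ) ^ 2 / (n φ : ℝ) ≤
        (P : ℝ) ^ 2 * ((a : ℝ) ^ 2 * (n₁ : ℝ)) := by
      apply mul_le_mul_of_nonneg_left _ hPR.le
      linarith
    rw [hsumsq] at h1
    have hmm : (m : ℝ) ≤ (m : ℝ) ^ 2 := by
      have : m ≤ m ^ 2 := by nlinarith [sq_nonneg (m - 1), sq_nonneg m, sq_nonneg (2 * m - 1)]
      exact_mod_cast this
    have hm2 : (0 : ℝ) < (m : ℝ) ^ 2 := by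
      have : (m : ℝ) ≠ 0 := by exact_mod_cast hmne
      positivity
    have ha0 : (0 : ℝ) ≤ (a : ℝ) := by positivity
    have h3 : (m : ℝ) ^ 2 * (2 * (a : ℝ) * (P : ℝ) ^ 2) < (m : ℝ) ^ 2 * D' :=
      mul_lt_mul_of_pos_left hineq' hm2
    have h4 : 2 * (m : ℝ) * (a : ℝ) * (P : ℝ) ^ 2 ≤ (m : ℝ) ^ 2 * (2 * (a : ℝ) * (P : ℝ) ^ 2) := by
      have : 0 ≤ ((m : ℝ) ^ 2 - (m : ℝ)) * (2 * (a : ℝ) * (P : ℝ) ^ 2) :=
        mul_nonneg (by linarith) (by positivity)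
      nlinarith
    linarith
  have hxχ₁ : x χ₁ = -((a : ℤ) * (n₁ : ℤ)) := by linarith
  have hxχ₁c : (x χ₁ : ℂ) = -((a : ℂ) * (n₁ : ℂ)) := by rw [hxχ₁]; push_cast; ring
  have hsumval : ∑ φ ∈ S₁, ((x φ : ℤ) : ℝ) ^ 2 / (n φ : ℝ) = (a : ℝ) ^ 2 * (n₁ : ℝ) := by
    rw [hm0] at hsumsq
    have h1 : (P : ℝ) ^ 2 * ∑ φ ∈ S₁, ((x φ : ℤ) : ℝ) ^ 2 / (n φ : ℝ) =
        (P : ℝ) ^ 2 * ((a : ℝ) ^ 2 * (n₁ : ℝ)) := by
      rw [hsumsq]; push_cast; ring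
    exact mul_left_cancel₀ hPR.ne' h1
  have hWge : (a : ℝ) ^ 2 * (n₁ : ℝ) ≤ (classInner W W).re := by rw [← hsumval]; exact hbessel
  have hψre : (classInner ψ ψ).re = (a : ℝ) ^ 2 * (n₁ : ℝ) := by
    rw [hψψ]
    have : ((a : ℂ) ^ 2 * (n₁ : ℂ)) = (((a : ℝ) ^ 2 * (n₁ : ℝ) : ℝ) : ℂ) := by push_cast; ring
    rw [this, Complex.ofReal_re]
  have hΔre : (classInner Δ Δ).re = (n χ : ℝ) + (a : ℝ) ^ 2 * (n₁ : ℝ) := by
    rw [hΔΔ]
    have : ((n χ : ℂ) + (a : ℂ) ^ 2 * (n₁ : ℂ)) =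
        (((n χ : ℝ) + (a : ℝ) ^ 2 * (n₁ : ℝ) : ℝ) : ℂ) := by push_cast; ring
    rw [this, Complex.ofReal_re]
  obtain ⟨hsum, h01⟩ := key.2 (by rw [hψre, hΔre]; linarith)
  have hsum' : ∑ α ∈ R χ, ‖classInner Δ α‖ ^ 2 = (n χ : ℝ) := by
    rw [hsum, hn χ hχ, Complex.natCast_re]
  obtain ⟨hXX, hXSg, hSgX⟩ := cs_X_facts hS hχ Δ h01 hsum'
  have hWW : classInner W W = (a : ℂ) ^ 2 * (n₁ : ℂ) := by
    rw [hsum'] at hpyth
    push_cast at hpyth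
    linear_combination -hpyth
  have hV : W + (a : ℤ) • τ₁ χ₁ = 0 := by
    apply eq_zero_of_classInner_self
    simp only [classInner_add_left, classInner_add_right, classInner_zsmul_left,
      classInner_zsmul_right]
    rw [hWW, hWφ χ₁ hχ₁S, classInner_conj_symm W (τ₁ χ₁), hWφ χ₁ hχ₁S, hτ₁orth χ₁ hχ₁S χ₁ hχ₁S,
      if_pos rfl, map_intCast, hxχ₁c, ← hn₁]
    push_cast; ring
  have hΔeq : Δ = X - (a : ℤ) • τ₁ χ₁ := by
    have h1 : W = -((a : ℤ) • τ₁ χ₁) := eq_neg_of_add_eq_zero_left hV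
    rw [hW] at h1
    rw [sub_eq_add_neg, ← h1]; ring
  -- the extension
  have hXgen : IsGeneralizedCharacter G X :=
    isGeneralizedCharacter_projE (fun e he => genChar_inner_int hΔgen (hS.virtual χ hχ e he))
      (fun e he => hS.virtual χ hχ e he)
  have hSggen : IsGeneralizedCharacter G (∑ α ∈ R χ, α) :=
    isGeneralizedCharacter_sum _ _ (fun e he => hS.virtual χ hχ e he)
  have hSgSg := cs_norm_sum_R hS hχ (hn χ hχ)
  set Sg : G → ℂ := ∑ α ∈ R χ, α with hSg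
  let g : (L → ℂ) → (G → ℂ) := fun φ => if φ ∈ S₁ then τ₁ φ else if φ = χ then X else X - Sg
  set S₂ : Finset (L → ℂ) := insert χ (insert (Cfsg.conjFun χ) S₁) with hS₂
  have hS₂S : ∀ φ ∈ S₂, φ ∈ S := by
    intro φ hφ
    rw [hS₂, Finset.mem_insert, Finset.mem_insert] at hφ
    rcases hφ with rfl | rfl | hφ
    · exact hχ
    · exact hχc
    · exact hS₁' φ hφ
  have hS₂0 : ∀ φ ∈ S₂, classInner φ φ ≠ 0 := by
    intro φ hφ
    rw [hn φ (hS₂S φ hφ)]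
    have := hnpos φ (hS₂S φ hφ)
    exact_mod_cast this.ne'
  have hS₂orth : ∀ φ ∈ S₂, ∀ φ' ∈ S₂, φ ≠ φ' → classInner φ φ' = 0 := fun φ hφ φ' hφ' hne =>
    hS.orthogonal φ (hS₂S φ hφ) φ' (hS₂S φ' hφ') hne
  have hcne : Cfsg.conjFun χ ≠ χ := hS.conj_ne χ hχ
  have hTS₁ : ∀ φ ∈ S₁, extOrth S₂ g φ = τ₁ φ := by
    intro φ hφ
    rw [extOrth_mem g hS₂0 hS₂orth (by rw [hS₂]; simp [hφ])]
    simp only [g, if_pos hφ]
  have hTχ : extOrth S₂ g χ = X := by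
    rw [extOrth_mem g hS₂0 hS₂orth (by rw [hS₂]; simp)]
    simp only [g, if_neg hχ₁, if_pos]
  have hTc : extOrth S₂ g (Cfsg.conjFun χ) = X - Sg := by
    rw [extOrth_mem g hS₂0 hS₂orth (by rw [hS₂]; simp)]
    simp only [g, if_neg hχ₂, if_neg hcne]
  set A : Set (L → ℂ) := (↑S₁ ∪ {χ, Cfsg.conjFun χ} : Set (L → ℂ)) with hA
  have hTL : ZLinOn A (extOrth S₂ g) := extOrth_zlinOn S₂ g A
  have hTy : ∀ y ∈ Cfsg.zspan (↑S₁ : Set (L → ℂ)), extOrth S₂ g y = τ₁ y := fun y hy =>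
    (extOrth_zlinOn S₂ g _).eq_of_span hτ₁L (fun b hb => hTS₁ b (Finset.mem_coe.1 hb)) hy
  have hAmem : ∀ b ∈ A, b ∈ S₁ ∨ b = χ ∨ b = Cfsg.conjFun χ := by
    intro b hb
    rcases hb with hb | hb | hb
    · exact Or.inl (Finset.mem_coe.1 hb)
    · exact Or.inr (Or.inl hb)
    · exact Or.inr (Or.inr hb)
  have hAS : A ⊆ S := by
    intro b hb
    rcases hAmem b hb with h | h | h
    · exact hS₁' b h
    · rw [h]; exact hχ
    · rw [h]; exact hχc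
  have hS₁A : (↑S₁ : Set (L → ℂ)) ⊆ A := Set.subset_union_left
  -- inner products of the images
  have hφX : ∀ φ ∈ S₁, classInner (τ₁ φ) X = 0 := fun φ hφ => by
    rw [classInner_conj_symm X (τ₁ φ), hXφ φ hφ, map_zero]
  have hφSg : ∀ φ ∈ S₁, classInner (τ₁ φ) Sg = 0 := fun φ hφ => by
    rw [classInner_conj_symm Sg (τ₁ φ), hSgφ φ hφ, map_zero]
  have hcc := cs_inner_conj hS hχ
  have hcc' := cs_inner_conj' hS hχ
  have hncc := cs_norm_conj (hn χ hχ)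
  refine ⟨?_, extOrth S₂ g, ⟨hTL.add, hTL.smul, ?_, ?_⟩, ?_⟩
  · obtain ⟨α, hα, hα0⟩ := hnz
    exact ⟨α, zspanOn_mono hS₁A _ hα, hα0⟩
  · intro θ hθ θ' hθ'
    refine inner_eq_of_span hTL ?_ hθ hθ'
    intro b hb c hc
    rcases hAmem b hb with hb' | hb' | hb' <;> rcases hAmem c hc with hc' | hc' | hc'
    · rw [hTS₁ b hb', hTS₁ c hc']
      exact hτ₁.2.2.1 _ (subset_zspan (Finset.mem_coe.2 hb')) _ (subset_zspan (Finset.mem_coe.2 hc'))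
    · rw [hc', hTS₁ b hb', hTχ, hφX b hb', hφχ b hb']
    · rw [hc', hTS₁ b hb', hTc, classInner_sub_right, hφX b hb', hφSg b hb', hφc b hb', sub_zero]
    · rw [hb', hTχ, hTS₁ c hc', hXφ c hc', hχφ c hc']
    · rw [hb', hc', hTχ, hXX, hn χ hχ]
    · rw [hb', hc', hTχ, hTc, classInner_sub_right, hXX, hXSg, hcc, sub_self]
    · rw [hb', hTc, hTS₁ c hc', classInner_sub_left, hXφ c hc', hSgφ c hc', hcφ c hc', sub_zero]
    · rw [hb', hc', hTc, hTχ, classInner_sub_left, hXX, hSgX, hcc', sub_self]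
    · rw [hb', hc', hTc, classInner_sub_left, classInner_sub_right, classInner_sub_right, hXX,
        hXSg, hSgX, hSgSg, hncc]
      ring
  · intro θ hθ
    refine hTL.induction (IsGeneralizedCharacter G) ?_ isGeneralizedCharacter_zero
      (fun _ _ => isGeneralizedCharacter_add) (fun k _ => isGeneralizedCharacter_zsmul k) hθ
    intro b hb
    rcases hAmem b hb with hb' | hb' | hb'
    · rw [hTS₁ b hb']
      exact hτ₁.2.2.2 _ (subset_zspan (Finset.mem_coe.2 hb'))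
    · rw [hb', hTχ]; exact hXgen
    · rw [hb', hTc]; exact isGeneralizedCharacter_sub hXgen hSggen
  · intro θ hθ
    obtain ⟨hθ1, hθ0⟩ := mem_zspanOn_compl_one.1 hθ
    rw [mem_zspan, hA, Submodule.span_union, Submodule.mem_sup] at hθ1
    obtain ⟨y, hy, z, hz, rfl⟩ := hθ1
    rw [Submodule.mem_span_pair] at hz
    obtain ⟨p, q, rfl⟩ := hz
    have hy' : y ∈ Cfsg.zspan (↑S₁ : Set (L → ℂ)) := hy
    have hc1 : Cfsg.conjFun χ 1 = (d χ : ℂ) := by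
      simp [Cfsg.conjFun, hd χ hχ]
    have hy1 : y 1 = -(((p : ℂ) + (q : ℂ)) * ((P : ℂ) * (a : ℂ))) := by
      rw [Pi.add_apply, Pi.add_apply, Pi.smul_apply, Pi.smul_apply, hd χ hχ, hc1, ha,
        zsmul_eq_mul, zsmul_eq_mul] at hθ0
      push_cast at hθ0
      linear_combination hθ0
    have hy'mem : (y + ((p + q) * (a : ℤ)) • χ₁) ∈ Cfsg.zspanOn (↑S₁ : Set (L → ℂ)) {1}ᶜ := by
      refine mem_zspanOn_compl_one.2 ⟨zspan_add_mem hy'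
        (zspan_smul_mem _ (subset_zspan (Finset.mem_coe.2 hχ₁S))), ?_⟩
      rw [Pi.add_apply, Pi.smul_apply, hy1, hd χ₁ hχ₁', zsmul_eq_mul, ← hP]
      push_cast; ring
    have hθeq : y + (p • χ + q • Cfsg.conjFun χ) = (p + q) • (χ - ψ) +
        ((-q) • (χ - Cfsg.conjFun χ) + (y + ((p + q) * (a : ℤ)) • χ₁)) := by
      rw [hψ]
      ext t
      simp only [Pi.add_apply, Pi.sub_apply, Pi.smul_apply]
      simp only [zsmul_eq_mul]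
      push_cast; ring
    have hm2 := cs_sub_conj_mem hS hχ
    have hτθ : τ (y + (p • χ + q • Cfsg.conjFun χ)) = (p + q) • Δ +
        ((-q) • Sg + τ₁ (y + ((p + q) * (a : ℤ)) • χ₁)) := by
      rw [hθeq, hτadd _ (zspanOn_smul_mem _ hβmem) _
        (zspanOn_add_mem (zspanOn_smul_mem _ hm2) (zspanOn_mono hS₁ _ hy'mem)),
        hτadd _ (zspanOn_smul_mem _ hm2) _ (zspanOn_mono hS₁ _ hy'mem),
        hτsmul _ hβmem, hτsmul _ hm2, hS.sum_eq χ hχ, hτ₁τ _ hy'mem]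
    have hχA : χ ∈ A := Or.inr (Or.inl rfl)
    have hcA : Cfsg.conjFun χ ∈ A := Or.inr (Or.inr rfl)
    rw [hτθ, hTL.add _ (zspan_mono hS₁A hy') _ (zspan_add_mem (zspan_smul_mem p (subset_zspan hχA))
      (zspan_smul_mem q (subset_zspan hcA))),
      hTL.add _ (zspan_smul_mem p (subset_zspan hχA)) _ (zspan_smul_mem q (subset_zspan hcA)),
      hTL.smul _ (subset_zspan hχA), hTL.smul _ (subset_zspan hcA), hTχ, hTc, hTy y hy', hΔeq,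
      hτ₁L.add _ hy' _ (zspan_smul_mem _ (subset_zspan (Finset.mem_coe.2 hχ₁S))),
      hτ₁L.smul _ (subset_zspan (Finset.mem_coe.2 hχ₁S))]
    ext t
    simp only [Pi.add_apply, Pi.sub_apply, Pi.smul_apply]
    simp only [zsmul_eq_mul]
    push_cast; ring

end Cfsg.Agent.S1516
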