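import Mathlib
import Cfsg.Statements.S1517
import Cfsg.Agent.Lib.Helper82.CoherenceSys

set_option autoImplicit false
set_option linter.style.haveILetI false
open Cfsg

namespace Cfsg.Agent.S1517

open Cfsg.Agent.Helper81 Cfsg.Agent.Helper82
open scoped ComplexConjugate

/-- Inner product of sub-sums of an orthonormal family. -/
theorem inner_sum_subset {M : Type*} [Group M] [Fintype M] {E A : Finset (M → ℂ)}
    (hE1 : ∀ α ∈ E, classInner α α = 1)
    (hE0 : ∀ α ∈ E, ∀ β ∈ E, α ≠ β → classInner α β = 0) (hA : A ⊆ E) :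
    classInner (∑ α ∈ A, α) (∑ β ∈ E, β) = (A.card : ℂ) ∧
    classInner (∑ α ∈ A, α) (∑ β ∈ A, β) = (A.card : ℂ) := by
  classical
  constructor
  · rw [classInner_sum_left]
    have : ∀ α ∈ A, classInner α (∑ β ∈ E, β) = 1 := by
      intro α hα
      rw [classInner_sum_right, Finset.sum_eq_single α]
      · exact hE1 α (hA hα)
      · intro b hb hbα
        exact hE0 α (hA hα) b hb (Ne.symm hbα)
      · intro h; exact absurd (hA hα) h
    rw [Finset.sum_congr rfl this]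
    simp
  · rw [classInner_sum_left]
    have : ∀ α ∈ A, classInner α (∑ β ∈ A, β) = 1 := by
      intro α hα
      rw [classInner_sum_right, Finset.sum_eq_single α]
      · exact hE1 α (hA hα)
      · intro b hb hbα
        exact hE0 α (hA hα) b (hA hb) (Ne.symm hbα)
      · intro h; exact absurd hα h
    rw [Finset.sum_congr rfl this]
    simp

/-- Let (S, τ, R) be a coherence system from L to G such that φ 1 = ψ 1 for all φ, ψ ∈ S. Then (S, L minus 1, τ) is coherent. -/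
theorem result {L : Type*} [Group L] [Fintype L] {G : Type*} [Group G] [Fintype G] (S : Set (L → ℂ)) (τ : (L → ℂ) → (G → ℂ)) (R : (L → ℂ) → Finset (G → ℂ)) (hS : Cfsg.IsCoherenceSystem S τ R) (hdeg : ∀ φ ∈ S, ∀ ψ ∈ S, φ 1 = ψ 1) : Cfsg.IsCoherent S {1}ᶜ τ := by
  classical
  obtain ⟨φ₀, hφ₀⟩ := hS.nonempty
  obtain ⟨hτadd, hτsmul, hτiso, hτgen⟩ := hS.isometry
  obtain ⟨n₀, hn₀pos, hn₀⟩ := cs_norm_pos hS hφ₀
  obtain ⟨d₀, hd₀pos, hd₀⟩ := cs_degree_pos hS hφ₀
  have hφ₀c := hS.conj_mem φ₀ hφ₀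
  have hdegS : ∀ φ ∈ S, φ 1 = (d₀ : ℂ) := fun φ hφ => (hdeg φ hφ φ₀ hφ₀).trans hd₀
  have hd₀ne : (d₀ : ℂ) ≠ 0 := by exact_mod_cast hd₀pos.ne'
  have hmem : ∀ φ ∈ S, φ₀ - φ ∈ Cfsg.zspanOn S {1}ᶜ := fun φ hφ =>
    mem_zspanOn_compl_one.2 ⟨zspan_sub_mem (subset_zspan hφ₀) (subset_zspan hφ), by
      rw [Pi.sub_apply, hdegS φ hφ, hd₀, sub_self]⟩
  have hτ0 : τ 0 = 0 := cs_tau_zero hS
  have hE1 := cs_R_one hS hφ₀
  have hE0 := cs_R_zero hS hφ₀
  -- existence of X₀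
  have hX : ∃ X₀ : G → ℂ, IsGeneralizedCharacter G X₀ ∧ classInner X₀ X₀ = (n₀ : ℂ) ∧
      ∀ φ ∈ S, φ ≠ φ₀ → classInner X₀ (τ (φ₀ - φ)) = (n₀ : ℂ) := by
    by_cases hcase : ∃ φ' ∈ S, φ' ≠ φ₀ ∧ φ' ≠ Cfsg.conjFun φ₀
    · obtain ⟨φ', hφ', h1, h2⟩ := hcase
      obtain ⟨n', -, hn'⟩ := cs_norm_pos hS hφ'
      obtain ⟨pA, p01, -⟩ := cs_pair hS hφ₀ hφ' h1 h2 (hdeg φ₀ hφ₀ φ' hφ') hn₀ hn'
      set Δ₀ := τ (φ₀ - φ') with hΔ₀
      obtain ⟨hXX, hXSg, -⟩ := cs_X_facts hS hφ₀ Δ₀ p01 pA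
      have hΔ₀gen : IsGeneralizedCharacter G Δ₀ := hτgen _ (hmem φ' hφ')
      refine ⟨projE (R φ₀) Δ₀, ?_, hXX, ?_⟩
      · exact isGeneralizedCharacter_projE
          (fun e he => genChar_inner_int hΔ₀gen (hS.virtual φ₀ hφ₀ e he))
          (fun e he => hS.virtual φ₀ hφ₀ e he)
      · intro φ hφ hφne
        by_cases hφc : φ = Cfsg.conjFun φ₀
        · rw [hφc, hS.sum_eq φ₀ hφ₀]
          exact hXSg
        · -- split τ (φ₀ - φ) = Δ₀ + τ (φ' - φ)
          have hdis₀ : ∀ α ∈ R φ', ∀ β ∈ R φ₀, classInner α β = 0 :=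
            cs_R_disjoint hS hφ₀ hφ' h1 h2
          have hdisφ : ∀ α ∈ R φ, ∀ β ∈ R φ₀, classInner α β = 0 :=
            cs_R_disjoint hS hφ₀ hφ hφne hφc
          have hm' : φ' - φ ∈ Cfsg.zspanOn S {1}ᶜ :=
            mem_zspanOn_compl_one.2 ⟨zspan_sub_mem (subset_zspan hφ') (subset_zspan hφ), by
              rw [Pi.sub_apply, hdegS φ hφ, hdegS φ' hφ', sub_self]⟩
          have hsplit : τ (φ₀ - φ) = Δ₀ + τ (φ' - φ) := by
            rw [hΔ₀, ← hτadd _ (hmem φ' hφ') _ hm']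
            congr 1; ring
          have horth : ∀ e ∈ R φ₀, classInner (τ (φ' - φ)) e = 0 := by
            intro e he
            by_cases e1 : φ = φ'
            · rw [e1, sub_self, hτ0, classInner_zero_left]
            · by_cases e2 : φ = Cfsg.conjFun φ'
              · rw [e2, hS.sum_eq φ' hφ', classInner_sum_left]
                exact Finset.sum_eq_zero (fun β hβ => hdis₀ β hβ e he)
              · obtain ⟨nφ, -, hnφ⟩ := cs_norm_pos hS hφ
                obtain ⟨-, -, psplit⟩ := cs_pair hS hφ' hφ e1 e2 (hdeg φ' hφ' φ hφ) hn' hnφ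
                rw [psplit, classInner_add_left,
                  inner_projE_left_of_orth _ e (fun e' he' => by
                    rw [classInner_conj_symm e' e, hdis₀ e' he' e he, map_zero]),
                  inner_projE_left_of_orth _ e (fun e' he' => by
                    rw [classInner_conj_symm e' e, hdisφ e' he' e he, map_zero]), add_zero]
          rw [hsplit, classInner_add_right, inner_projE_left_of_orth Δ₀ _ horth, add_zero]
          have h3 : classInner (projE (R φ₀) Δ₀) (Δ₀ - projE (R φ₀) Δ₀) = 0 :=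
            inner_projE_left_of_orth Δ₀ _ (fun e he => inner_sub_projE hE1 hE0 Δ₀ he)
          rw [classInner_sub_right, hXX] at h3
          exact (sub_eq_zero.1 h3)
    · push Not at hcase
      -- S ⊆ {φ₀, conj φ₀}
      have hcard : (R φ₀).card = 2 * n₀ := by
        have h1 := cs_norm_sum_R hS hφ₀ hn₀
        rw [(inner_sum_subset hE1 hE0 (Finset.Subset.refl _)).1] at h1
        exact_mod_cast h1
      obtain ⟨A, hAR, hAcard⟩ := Finset.exists_subset_card_eq (s := R φ₀) (n := n₀) (by omega)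
      obtain ⟨i1, i2⟩ := inner_sum_subset hE1 hE0 hAR
      refine ⟨∑ α ∈ A, α, ?_, ?_, ?_⟩
      · exact isGeneralizedCharacter_sum _ _ (fun e he => hS.virtual φ₀ hφ₀ e (hAR he))
      · rw [i2, hAcard]
      · intro φ hφ hφne
        rw [hcase φ hφ hφne, hS.sum_eq φ₀ hφ₀, i1, hAcard]
  obtain ⟨X₀, hX₀gen, hX₀X₀, hX₀τ⟩ := hX
  -- uniform formula for ⟨X₀, τ (φ₀ - φ)⟩
  have horthS : ∀ φ ∈ S, classInner φ₀ φ = if φ = φ₀ then (n₀ : ℂ) else 0 := by
    intro φ hφ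
    by_cases h : φ = φ₀
    · rw [if_pos h, h, hn₀]
    · rw [if_neg h, hS.orthogonal φ₀ hφ₀ φ hφ (Ne.symm h)]
  have hX₀τ' : ∀ φ ∈ S, classInner X₀ (τ (φ₀ - φ)) = (n₀ : ℂ) - classInner φ₀ φ := by
    intro φ hφ
    rw [horthS φ hφ]
    by_cases h : φ = φ₀
    · rw [if_pos h, h, sub_self, hτ0, classInner_zero_right, sub_self]
    · rw [if_neg h, hX₀τ φ hφ h, sub_zero]
  have hτX₀ : ∀ φ ∈ S, classInner (τ (φ₀ - φ)) X₀ = (n₀ : ℂ) - classInner φ φ₀ := by
    intro φ hφ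
    rw [classInner_conj_symm X₀ _, hX₀τ' φ hφ, map_sub, Complex.conj_natCast,
      ← classInner_conj_symm φ₀ φ]
  -- the extension
  let c : (L → ℂ) → ℂ := fun θ => θ 1 / (d₀ : ℂ)
  let T : (L → ℂ) → (G → ℂ) := fun θ => τ (θ - c θ • φ₀) + c θ • X₀
  have hcint : ∀ θ ∈ Cfsg.zspan S, ∃ k : ℤ, c θ = (k : ℂ) := by
    intro θ hθ
    rw [mem_zspan] at hθ
    induction hθ using Submodule.span_induction with
    | mem a ha => exact ⟨1, by simp only [c]; rw [hdegS a ha, div_self hd₀ne]; simp⟩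
    | zero => exact ⟨0, by simp [c]⟩
    | add a b _ _ iha ihb =>
      obtain ⟨k, hk⟩ := iha
      obtain ⟨l, hl⟩ := ihb
      refine ⟨k + l, ?_⟩
      simp only [c] at hk hl ⊢
      rw [Pi.add_apply, add_div, hk, hl]; push_cast; ring
    | smul m a _ iha =>
      obtain ⟨k, hk⟩ := iha
      refine ⟨m * k, ?_⟩
      simp only [c] at hk ⊢
      rw [Pi.smul_apply, zsmul_eq_mul, mul_div_assoc, hk]; push_cast; ring
  have hred : ∀ θ ∈ Cfsg.zspan S, θ - c θ • φ₀ ∈ Cfsg.zspanOn S {1}ᶜ := by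
    intro θ hθ
    obtain ⟨k, hk⟩ := hcint θ hθ
    have h1 : c θ • φ₀ = k • φ₀ := by rw [hk]; ext t; simp
    refine mem_zspanOn_compl_one.2 ⟨?_, ?_⟩
    · rw [h1]; exact zspan_sub_mem hθ (zspan_smul_mem k (subset_zspan hφ₀))
    · rw [Pi.sub_apply, Pi.smul_apply, smul_eq_mul, hd₀]
      simp only [c]
      field_simp
      ring
  have hTL : ZLinOn S T := by
    refine ⟨?_, ?_⟩
    · intro θ hθ θ' hθ'
      have h1 : c (θ + θ') = c θ + c θ' := by simp only [c]; rw [Pi.add_apply, add_div]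
      have h2 : (θ + θ') - c (θ + θ') • φ₀ = (θ - c θ • φ₀) + (θ' - c θ' • φ₀) := by
        rw [h1, add_smul]; ring
      show τ ((θ + θ') - c (θ + θ') • φ₀) + c (θ + θ') • X₀ =
        (τ (θ - c θ • φ₀) + c θ • X₀) + (τ (θ' - c θ' • φ₀) + c θ' • X₀)
      rw [h2, hτadd _ (hred θ hθ) _ (hred θ' hθ'), h1, add_smul]
      ring
    · intro θ hθ m
      have h1 : c (m • θ) = (m : ℂ) * c θ := by
        simp only [c]; rw [Pi.smul_apply, zsmul_eq_mul, mul_div_assoc]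
      have h2 : (m • θ) - c (m • θ) • φ₀ = m • (θ - c θ • φ₀) := by
        rw [h1]; ext t
        simp only [Pi.sub_apply, Pi.smul_apply]
        simp only [smul_eq_mul, zsmul_eq_mul]
        ring
      show τ ((m • θ) - c (m • θ) • φ₀) + c (m • θ) • X₀ = m • (τ (θ - c θ • φ₀) + c θ • X₀)
      rw [h2, hτsmul _ (hred θ hθ), h1]
      ext t
      simp only [Pi.add_apply, Pi.smul_apply]
      simp only [smul_eq_mul, zsmul_eq_mul]
      ring
  have hTgen : ∀ φ ∈ S, T φ = X₀ - τ (φ₀ - φ) := by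
    intro φ hφ
    have h1 : c φ = 1 := by simp only [c]; rw [hdegS φ hφ, div_self hd₀ne]
    show τ (φ - c φ • φ₀) + c φ • X₀ = X₀ - τ (φ₀ - φ)
    rw [h1, one_smul, one_smul]
    have h2 : φ - φ₀ = -(φ₀ - φ) := by ring
    rw [h2, cs_tau_neg hS (hmem φ hφ)]
    ring
  refine ⟨?_, T, ⟨hTL.add, hTL.smul, ?_, ?_⟩, ?_⟩
  · refine ⟨φ₀ - Cfsg.conjFun φ₀, cs_sub_conj_mem hS hφ₀, ?_⟩
    intro h
    exact hS.conj_ne φ₀ hφ₀ (sub_eq_zero.1 h).symm
  · intro θ hθ θ' hθ'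
    refine inner_eq_of_span hTL ?_ hθ hθ'
    intro b hb e he
    rw [hTgen b hb, hTgen e he, classInner_sub_left, classInner_sub_right, classInner_sub_right,
      hX₀X₀, hX₀τ' e he, hτX₀ b hb, hτiso _ (hmem b hb) _ (hmem e he), classInner_sub_left,
      classInner_sub_right, classInner_sub_right, hn₀]
    ring
  · intro θ hθ
    refine hTL.induction (IsGeneralizedCharacter G) ?_ isGeneralizedCharacter_zero
      (fun _ _ => isGeneralizedCharacter_add) (fun k _ => isGeneralizedCharacter_zsmul k) hθ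
    intro b hb
    rw [hTgen b hb]
    exact isGeneralizedCharacter_sub hX₀gen (hτgen _ (hmem b hb))
  · intro θ hθ
    obtain ⟨-, hθ0⟩ := mem_zspanOn_compl_one.1 hθ
    have h1 : c θ = 0 := by simp only [c]; rw [hθ0, zero_div]
    show τ (θ - c θ • φ₀) + c θ • X₀ = τ θ
    rw [h1, zero_smul, zero_smul, sub_zero, add_zero]

end Cfsg.Agent.S1517
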