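import Cfsg.Statements.S1518
import Mathlib
import Cfsg.Agent.S1500
import Cfsg.Agent.S1501
import Cfsg.Agent.Lib.Helper80.ConjIrr
import Cfsg.Agent.Lib.Helper3.CharDecomp
import Cfsg.Agent.Lib.Helper82.GenChar

set_option autoImplicit false
open Cfsg

namespace Cfsg.Agent.S1518

open scoped ComplexConjugate

section aux
universe u
variable {X : Type u} [Group X] [Fintype X]

omit [Group X] [Fintype X] in
theorem conjFun_conjFun' (φ : X → ℂ) : Cfsg.conjFun (Cfsg.conjFun φ) = φ := by
  funext x
  simp [Cfsg.conjFun]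

theorem irr_one_real' {χ : X → ℂ} (h : Cfsg.IsIrrCharacter X χ) : conj (χ 1) = χ 1 := by
  obtain ⟨n, hn, hn1⟩ := Helper82.irr_degree_pos h
  rw [hn1, Complex.conj_natCast]

theorem isIrr_conjFun {χ : X → ℂ} (h : Cfsg.IsIrrCharacter X χ) :
    Cfsg.IsIrrCharacter X (Cfsg.conjFun χ) :=
  Helper80.isIrrCharacter_cconj h

end aux

/-- Under the Dade hypothesis for (A, L, H): if χ is an irreducible character of L vanishing at every non-identity element of L outside A, then the Dade image of χ − conj χ equals μ − conj μ for some irreducible character μ of G. -/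
theorem result {G : Type*} [Group G] [Fintype G] (A : Set G) (L : Subgroup G) [Fintype L] (H : G → Subgroup G) (hD : Cfsg.DadeHypothesis A L H) (χ : L → ℂ) (hχ : Cfsg.IsIrrCharacter L χ) (hsupp : ∀ x : L, x ≠ 1 → (x : G) ∉ A → χ x = 0) : ∃ μ : G → ℂ, Cfsg.IsIrrCharacter G μ ∧ Cfsg.dadeIsometry A L H (χ - Cfsg.conjFun χ) = μ - Cfsg.conjFun μ := by
  classical
  have hχbar : IsIrrCharacter L (conjFun χ) := isIrr_conjFun hχ
  by_cases hreal : conjFun χ = χ
  · refine ⟨fun _ => 1, Helper3.isIrrCharacter_one, ?_⟩
    rw [hreal, sub_self]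
    funext g
    have h1 : dadeIsometry A L H (0 : L → ℂ) g = 0 := by
      unfold dadeIsometry
      split_ifs
      · rfl
      · rfl
    rw [h1]
    show (0 : ℂ) = 1 - conj 1
    simp
  · obtain ⟨α, hαdef⟩ : ∃ α : L → ℂ, α = χ - conjFun χ := ⟨_, rfl⟩
    rw [← hαdef]
    have hα : IsGeneralizedCharacter L α :=
      ⟨χ, conjFun χ, Cfsg.Agent.Helper81.IsIrrCharacter.isCharacter hχ,
        Cfsg.Agent.Helper81.IsIrrCharacter.isCharacter hχbar, hαdef⟩
    have hαc : IsClassFunction L α := by
      rw [hαdef]
      intro g h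
      show χ _ - conjFun χ _ = χ _ - conjFun χ _
      rw [Helper81.isClassFunction_of_isCharacter
          (Cfsg.Agent.Helper81.IsIrrCharacter.isCharacter hχ) g h,
        Helper81.isClassFunction_of_isCharacter
          (Cfsg.Agent.Helper81.IsIrrCharacter.isCharacter hχbar) g h]
    have hαA : ∀ x : L, (x : G) ∉ A → α x = 0 := by
      intro x hx
      rw [hαdef]
      show χ x - conj (χ x) = 0
      by_cases h1 : x = 1
      · rw [h1, irr_one_real' hχ, sub_self]
      · rw [hsupp x h1 hx, map_zero, sub_self]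
    have hgen := Cfsg.Agent.S1501.result A L H hD α hα hαA
    have hnormL : classInner α α = 2 := by
      rw [hαdef, Helper81.classInner_sub_left, Helper82.classInner_sub_right,
        Helper82.classInner_sub_right, Helper81.irr_orthonormal hχ hχ,
        Helper81.irr_orthonormal hχ hχbar, Helper81.irr_orthonormal hχbar hχ,
        Helper81.irr_orthonormal hχbar hχbar, if_pos rfl, if_pos rfl, if_neg hreal,
        if_neg (fun h => hreal h.symm)]
      norm_num
    have hnorm : classInner (dadeIsometry A L H α) (dadeIsometry A L H α) = 2 := by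
      rw [(Cfsg.Agent.S1500.result A L H hD α hαc hαA).1 α hαc hαA, hnormL]
    have h1 : dadeIsometry A L H α 1 = 0 := by
      apply Helper25.dadeIsometry_apply_of_not
      rintro ⟨a, ha, x, u, hu, hx⟩
      have hau : (a : G) * u = 1 := by rw [← hx]; group
      have hu' : u = (a : G)⁻¹ := eq_inv_of_mul_eq_one_right hau
      have haH : (a : G) ∈ H (a : G) := by
        have := (H (a : G)).inv_mem hu
        rw [hu', inv_inv] at this
        exact this
      have hmem : (a : G) ∈ H (a : G) ⊓ (L ⊓ Subgroup.centralizer ({(a : G)} : Set G)) :=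
        Subgroup.mem_inf.mpr ⟨haH, Subgroup.mem_inf.mpr ⟨a.2,
          Subgroup.mem_centralizer_singleton_iff.mpr rfl⟩⟩
      rw [hD.inf_eq_bot (a : G) ha, Subgroup.mem_bot] at hmem
      rw [hmem] at ha
      exact hD.one_not_mem ha
    obtain ⟨μ₁, μ₂, hμ₁, hμ₂, hne, heq⟩ := Helper82.genChar_norm_two hgen hnorm h1
    -- conjugation symmetry
    have hconjα : conjFun α = -α := by
      rw [hαdef]
      funext x
      show conj (χ x - conj (χ x)) = -(χ x - conj (χ x))
      rw [map_sub, Complex.conj_conj]
      ring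
    have hconjτ : conjFun (dadeIsometry A L H α) = dadeIsometry A L H (conjFun α) := by
      funext g
      unfold conjFun dadeIsometry
      split_ifs
      · rfl
      · exact map_zero _
    have hnegτ : dadeIsometry A L H (-α) = -dadeIsometry A L H α := by
      funext g
      show dadeIsometry A L H (-α) g = -(dadeIsometry A L H α g)
      unfold dadeIsometry
      split_ifs
      · rfl
      · exact neg_zero.symm
    have hsym : conjFun μ₁ - conjFun μ₂ = μ₂ - μ₁ := by
      have h2 : conjFun (μ₁ - μ₂) = -(μ₁ - μ₂) := by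
        rw [← heq, hconjτ, hconjα, hnegτ]
      have h3 : conjFun (μ₁ - μ₂) = conjFun μ₁ - conjFun μ₂ := by
        funext g
        show conj (μ₁ g - μ₂ g) = conj (μ₁ g) - conj (μ₂ g)
        rw [map_sub]
      rw [← h3, h2]
      ring
    have hμ₁bar := isIrr_conjFun hμ₁
    have hμ₂bar := isIrr_conjFun hμ₂
    have hkey : conjFun μ₂ = μ₁ := by
      by_contra hcon
      have h4 : conjFun μ₁ + μ₁ = μ₂ + conjFun μ₂ := by
        have := hsym
        rw [sub_eq_sub_iff_add_eq_add] at this
        rw [this]
      have h5 : classInner (conjFun μ₁ + μ₁) μ₁ = classInner (μ₂ + conjFun μ₂) μ₁ := by rw [h4]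
      have e1 : classInner μ₁ μ₁ = 1 := by
        rw [Helper81.irr_orthonormal hμ₁ hμ₁, if_pos rfl]
      have e2 : classInner μ₂ μ₁ = 0 := by
        rw [Helper81.irr_orthonormal hμ₂ hμ₁, if_neg (fun h => hne h.symm)]
      have e3 : classInner (conjFun μ₂) μ₁ = 0 := by
        rw [Helper81.irr_orthonormal hμ₂bar hμ₁, if_neg hcon]
      have e4 : classInner (conjFun μ₁) μ₁ = 0 ∨ classInner (conjFun μ₁) μ₁ = 1 := by
        rw [Helper81.irr_orthonormal hμ₁bar hμ₁]
        by_cases h6 : conjFun μ₁ = μ₁
        · right; rw [if_pos h6]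
        · left; rw [if_neg h6]
      rw [Helper81.classInner_add_left, Helper81.classInner_add_left, e1, e2, e3] at h5
      rcases e4 with e4 | e4
      · rw [e4] at h5
        norm_num at h5
      · rw [e4] at h5
        norm_num at h5
    refine ⟨μ₁, hμ₁, ?_⟩
    rw [heq, ← hkey, conjFun_conjFun']

end Cfsg.Agent.S1518
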