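import Cfsg.Statements.S1519
import Mathlib
import Cfsg.Agent.S1516
import Cfsg.Agent.Lib.Helper25.Coh62a
import Cfsg.Agent.Lib.Helper25.Coh62b
import Cfsg.Agent.Lib.Helper25.Coh62c

set_option autoImplicit false
open Cfsg

namespace Cfsg.Agent.S1519

open Cfsg.Agent Cfsg.Agent.Helper25.Coh62
open scoped ComplexConjugate

theorem arith (e dθ r ci rel cD cC cK cL : ℕ) (he : 0 < e) (hD : 0 < cD) (hC : 0 < cC)
    (hb : dθ ^ 2 * cD * cC ≤ cK ^ 2) (hL1 : cL = e * cK) (hL2 : cL = ci * cC)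
    (hC2 : cC = rel * cD) (hlt : 4 * ci ^ 2 * rel < (r - 1) ^ 2) :
    2 * (e * dθ) * e < e * (r - 1) := by
  have h1 : (2 * e * dθ) ^ 2 * (cD * cC) ≤ (4 * ci ^ 2 * rel) * (cD * cC) := by
    calc (2 * e * dθ) ^ 2 * (cD * cC) = 4 * e ^ 2 * (dθ ^ 2 * cD * cC) := by ring
      _ ≤ 4 * e ^ 2 * cK ^ 2 := Nat.mul_le_mul_left _ hb
      _ = 4 * cL ^ 2 := by rw [hL1]; ring
      _ = 4 * (ci * cC) ^ 2 := by rw [hL2]
      _ = (4 * ci ^ 2 * rel) * (cD * cC) := by rw [hC2]; ring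
  have h2 : (2 * e * dθ) ^ 2 < (r - 1) ^ 2 := by
    have hm : 0 < cD * cC := Nat.mul_pos hD hC
    have := lt_of_le_of_lt h1 (Nat.mul_lt_mul_of_pos_right hlt hm)
    exact Nat.lt_of_mul_lt_mul_right this
  have h3 : 2 * e * dθ < r - 1 := lt_of_pow_lt_pow_left₀ 2 (Nat.zero_le _) h2
  calc 2 * (e * dθ) * e = e * (2 * e * dθ) := by ring
    _ < e * (r - 1) := Nat.mul_lt_mul_of_pos_left h3 he

theorem card_subgroupOf_of_le {L : Type*} [Group L] {H K : Subgroup L} (h : H ≤ K) :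
    Nat.card (H.subgroupOf K) = Nat.card H :=
  Nat.card_congr (Subgroup.subgroupOfEquivOfLe h).toEquiv

/-- One step of the extension: adding a conjugate pair from `S(B)`. -/
theorem step {L : Type*} [Group L] [Fintype L] {G : Type*} [Group G] [Fintype G] (K : Subgroup L)
    [hK : K.Normal] (hsolv : Group.IsSolvable K) (τ : (L → ℂ) → (G → ℂ))
    (R : (L → ℂ) → Finset (G → ℂ)) (S : Set (L → ℂ)) (hSdef : S = Cfsg.inducedIrrAbove K ⊥)
    (hS : Cfsg.IsCoherenceSystem S τ R)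
    (A B C D : Subgroup L) [A.Normal] [B.Normal] [C.Normal] [D.Normal] (hAK : A < K)
    (hBD : B ≤ D) (hDC : D ≤ C) (hCK : C ≤ K)
    (hcent : ∀ x ∈ D, ∀ y ∈ C, x * y * x⁻¹ * y⁻¹ ∈ B)
    (hlt : 4 * C.index ^ 2 * D.relIndex C < (A.relIndex K - 1) ^ 2)
    (d n : (L → ℂ) → ℕ) (hd : ∀ φ ∈ S, φ 1 = (d φ : ℂ))
    (hn : ∀ φ ∈ S, Cfsg.classInner φ φ = (n φ : ℂ))
    (T : Finset (L → ℂ)) (hTS : (↑T : Set (L → ℂ)) ⊆ S)
    (hTA : Cfsg.inducedIrrAbove K A ⊆ (↑T : Set (L → ℂ)))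
    (hTc : ∀ φ ∈ T, Cfsg.conjFun φ ∈ T) (hTcoh : Cfsg.IsCoherent (↑T : Set (L → ℂ)) {1}ᶜ τ)
    (χ : L → ℂ) (hχ : χ ∈ Cfsg.inducedIrrAbove K B) (hχT : χ ∉ T) :
    Cfsg.IsCoherent (↑T ∪ {χ, Cfsg.conjFun χ} : Set (L → ℂ)) {1}ᶜ τ := by
  classical
  have hχS : χ ∈ S := by rw [hSdef]; exact inducedIrrAbove_subset_bot K B hχ
  have hcT : Cfsg.conjFun χ ∉ T := by
    intro h
    have := hTc _ h
    rw [Helper82.conjFun_conjFun] at this
    exact hχT this
  obtain ⟨θ, hθ, hθ1, hθB, hχθ⟩ := hχ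
  subst hχθ
  -- the anchor
  have _iA : (A.subgroupOf K).Normal := Subgroup.Normal.subgroupOf inferInstance K
  have hAne : A.subgroupOf K ≠ ⊤ := fun h =>
    (not_le_of_gt hAK) (Subgroup.subgroupOf_eq_top.mp h)
  obtain ⟨lam, hlamA, hlam1, hlamd⟩ := exists_linear_above hsolv (A.subgroupOf K) hAne
  have hlamIA : lam ∈ IA K A := by
    unfold IA
    exact Finset.mem_filter.mpr ⟨Finset.mem_univ _, hlamA, hlam1⟩
  have hχ₁A : Cfsg.indFun K (lam : K → ℂ) ∈ Cfsg.inducedIrrAbove K A :=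
    ind_mem_of_mem_IA K A lam hlamIA
  have hχ₁T : Cfsg.indFun K (lam : K → ℂ) ∈ T := hTA hχ₁A
  -- degrees
  have hdχ₁ : d (Cfsg.indFun K (lam : K → ℂ)) = K.index := by
    have h1 := hd _ (hTS hχ₁T)
    rw [Helper81.indFun_one, (Helper79.irr_one_eq lam).1, hlamd] at h1
    have h2 : ((K.index : ℕ) : ℂ) = (d (Cfsg.indFun K (lam : K → ℂ)) : ℂ) := by
      rw [← h1]; simp
    exact (Nat.cast_injective h2).symm
  have h1θ : θ 1 = (charDegree θ : ℂ) := (Helper79.irr_one_eq (⟨θ, hθ⟩ : IrrCharacter K)).1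
  have hdχ : d (Cfsg.indFun K θ) = K.index * charDegree θ := by
    have h1 := hd _ hχS
    rw [Helper81.indFun_one, h1θ] at h1
    have h2 : ((K.index * charDegree θ : ℕ) : ℂ) = (d (Cfsg.indFun K θ) : ℂ) := by
      rw [← h1]; push_cast; ring
    exact (Nat.cast_injective h2).symm
  -- the degree bound
  have hDK : D ≤ K := hDC.trans hCK
  have hbound := degree_bound (B.subgroupOf K) (C.subgroupOf K) (D.subgroupOf K)
    (fun x hx => Subgroup.mem_subgroupOf.mpr (hDC (Subgroup.mem_subgroupOf.mp hx)))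
    (fun x hx y hy => by
      rw [Subgroup.mem_subgroupOf] at hx hy ⊢
      have := hcent _ hx _ hy
      simpa using this)
    (⟨θ, hθ⟩ : IrrCharacter K)
    (fun a ha => (Helper79.mem_irrKer _ a).2 (hθB a (Subgroup.mem_subgroupOf.mp ha)))
  rw [card_subgroupOf_of_le hDK, card_subgroupOf_of_le hCK] at hbound
  have hC2 : Nat.card C = D.relIndex C * Nat.card D := by
    have := Subgroup.index_mul_card (D.subgroupOf C)
    rw [card_subgroupOf_of_le hDC] at this
    exact this.symm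
  have harith := arith K.index (charDegree θ) (A.relIndex K) C.index (D.relIndex C)
    (Nat.card D) (Nat.card C) (Nat.card K) (Nat.card L)
    (Nat.pos_of_ne_zero Subgroup.index_ne_zero_of_finite) Nat.card_pos Nat.card_pos hbound
    (Subgroup.index_mul_card K).symm (Subgroup.index_mul_card C).symm hC2 hlt
  -- the lower bound
  have hlow := lower_bound K A T d n (fun φ hφ => hd φ (hTS hφ)) (fun φ hφ => hn φ (hTS hφ))
    (fun φ hφ => by
      obtain ⟨m, hm, hm2⟩ := Helper82.cs_norm_pos hS (hTS hφ)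
      rw [hn φ (hTS hφ)] at hm2
      have : n φ = m := Nat.cast_injective hm2
      rw [this]; exact hm)
    (fun φ hφ ψ hψ hne => hS.orthogonal φ (hTS hφ) ψ (hTS hψ) hne) hTA
  refine Cfsg.Agent.S1516.result S τ R hS d n hd hn T hTS hTc hTcoh _ hχS hχT hcT
    (Cfsg.indFun K (lam : K → ℂ)) hχ₁T ?_ ?_
  · rw [hdχ₁, hdχ]
    exact dvd_mul_right _ _
  · rw [hdχ₁, hdχ]
    calc (2 * ((K.index * charDegree θ : ℕ) : ℝ) * (K.index : ℝ))
        = ((2 * (K.index * charDegree θ) * K.index : ℕ) : ℝ) := by push_cast; ring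
      _ < ((K.index * (A.relIndex K - 1) : ℕ) : ℝ) := by exact_mod_cast harith
      _ ≤ _ := hlow


/-- Let K be a solvable normal subgroup of the finite group L and (S, τ, R) a coherence system from L to G where S is the set of functions induced from non-principal irreducible characters of K; write S(A) for those induced from characters whose kernel contains A. Let A, B, C, D be normal subgroups of L with A < K, B < K, B ≤ D ≤ C ≤ K and every commutator of D with C in B. If S(A) is coherent and 4 * [L:C]^2 * [C:D] < ([K:A] − 1)^2, then S(B) is coherent. -/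
theorem result {L : Type*} [Group L] [Fintype L] {G : Type*} [Group G] [Fintype G] (K : Subgroup L) [hK : K.Normal] (hsolv : Group.IsSolvable K) (τ : (L → ℂ) → (G → ℂ)) (R : (L → ℂ) → Finset (G → ℂ)) (hS : Cfsg.IsCoherenceSystem (Cfsg.inducedIrrAbove K ⊥) τ R) (A B C D : Subgroup L) [A.Normal] [B.Normal] [C.Normal] [D.Normal] (hAK : A < K) (hBK : B < K) (hBD : B ≤ D) (hDC : D ≤ C) (hCK : C ≤ K) (hcent : ∀ x ∈ D, ∀ y ∈ C, x * y * x⁻¹ * y⁻¹ ∈ B) (hA : Cfsg.IsCoherent (Cfsg.inducedIrrAbove K A) {1}ᶜ τ) (hlt : 4 * C.index ^ 2 * D.relIndex C < (A.relIndex K - 1) ^ 2) : Cfsg.IsCoherent (Cfsg.inducedIrrAbove K B) {1}ᶜ τ := by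
  classical
  -- the ambient set and its finiteness
  obtain ⟨S, hSdef⟩ : ∃ S : Set (L → ℂ), S = Cfsg.inducedIrrAbove K ⊥ := ⟨_, rfl⟩
  rw [← hSdef] at hS
  have hSfin : S.Finite := by rw [hSdef]; exact inducedIrrAbove_finite K ⊥
  have hSA : Cfsg.inducedIrrAbove K A ⊆ S := by rw [hSdef]; exact inducedIrrAbove_subset_bot K A
  have hSB : Cfsg.inducedIrrAbove K B ⊆ S := by rw [hSdef]; exact inducedIrrAbove_subset_bot K B
  have hSAfin : (Cfsg.inducedIrrAbove K A).Finite := inducedIrrAbove_finite K A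
  -- degrees and norms
  obtain ⟨d, hd⟩ : ∃ d : (L → ℂ) → ℕ, ∀ φ ∈ S, φ 1 = (d φ : ℂ) := by
    refine ⟨fun φ => if h : ∃ k : ℕ, φ 1 = (k : ℂ) then h.choose else 0, fun φ hφ => ?_⟩
    have h := Helper82.isCharacter_one_nat (hS.isCharacter φ hφ)
    simp only [dif_pos h]
    exact h.choose_spec
  obtain ⟨n, hn⟩ : ∃ n : (L → ℂ) → ℕ, ∀ φ ∈ S, Cfsg.classInner φ φ = (n φ : ℂ) := by
    refine ⟨fun φ => if h : ∃ k : ℕ, Cfsg.classInner φ φ = (k : ℂ) then h.choose else 0,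
      fun φ hφ => ?_⟩
    have h := Helper82.cs_norm_nat hS hφ
    simp only [dif_pos h]
    exact h.choose_spec
  -- the family of admissible coherent subsets
  obtain ⟨F, hF⟩ : ∃ F : Finset (Finset (L → ℂ)), F = hSfin.toFinset.powerset.filter
      (fun T : Finset (L → ℂ) => Cfsg.inducedIrrAbove K A ⊆ (↑T : Set (L → ℂ)) ∧
        (∀ φ ∈ T, Cfsg.conjFun φ ∈ T) ∧
        Cfsg.IsCoherent (↑T : Set (L → ℂ)) {1}ᶜ τ) := ⟨_, rfl⟩
  have hmemF : ∀ T : Finset (L → ℂ), T ∈ F ↔ ((↑T : Set (L → ℂ)) ⊆ S ∧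
      Cfsg.inducedIrrAbove K A ⊆ (↑T : Set (L → ℂ)) ∧ (∀ φ ∈ T, Cfsg.conjFun φ ∈ T) ∧
        Cfsg.IsCoherent (↑T : Set (L → ℂ)) {1}ᶜ τ) := by
    intro T
    rw [hF, Finset.mem_filter, Finset.mem_powerset]
    constructor
    · rintro ⟨h1, h2⟩
      refine ⟨fun φ hφ => ?_, h2⟩
      exact (Set.Finite.mem_toFinset hSfin).mp (h1 hφ)
    · rintro ⟨h1, h2⟩
      refine ⟨fun φ hφ => ?_, h2⟩
      exact (Set.Finite.mem_toFinset hSfin).mpr (h1 hφ)
  have hFne : F.Nonempty := by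
    refine ⟨hSAfin.toFinset, (hmemF _).mpr ?_⟩
    rw [Set.Finite.coe_toFinset]
    refine ⟨hSA, subset_rfl, fun φ hφ => ?_, hA⟩
    rw [Set.Finite.mem_toFinset] at hφ ⊢
    exact conj_mem_inducedIrrAbove K A hφ
  obtain ⟨T, hTF, hTmax⟩ := Finset.exists_max_image F Finset.card hFne
  obtain ⟨hTS, hTA, hTc, hTcoh⟩ := (hmemF T).mp hTF
  -- every member of S(B) lies in T
  have hBT : Cfsg.inducedIrrAbove K B ⊆ (↑T : Set (L → ℂ)) := by
    intro χ hχ
    by_contra hχT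
    have hχT' : χ ∉ T := hχT
    have hcoh' := step K hsolv τ R S hSdef hS A B C D hAK hBD hDC hCK hcent hlt d n hd hn T hTS hTA
      hTc hTcoh χ hχ hχT'
    have hcT : Cfsg.conjFun χ ∉ T := by
      intro h
      have := hTc _ h
      rw [Helper82.conjFun_conjFun] at this
      exact hχT' this
    obtain ⟨T', hT'⟩ : ∃ T' : Finset (L → ℂ), T' = insert χ (insert (Cfsg.conjFun χ) T) := ⟨_, rfl⟩
    have hcoe : (↑T' : Set (L → ℂ)) = ↑T ∪ {χ, Cfsg.conjFun χ} := by
      rw [hT', Finset.coe_insert, Finset.coe_insert]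
      ext φ
      simp only [Set.mem_insert_iff, Set.mem_union, Finset.mem_coe, Set.mem_singleton_iff]
      tauto
    have hT'F : T' ∈ F := by
      rw [hmemF, hcoe]
      refine ⟨?_, ?_, ?_, hcoh'⟩
      · intro φ hφ
        rcases hφ with hφ | hφ | hφ
        · exact hTS hφ
        · rw [hφ]; exact hSB hχ
        · rw [Set.mem_singleton_iff] at hφ
          rw [hφ]; exact hS.conj_mem χ (hSB hχ)
      · exact fun φ hφ => Or.inl (hTA hφ)
      · intro φ hφ
        rw [hT', Finset.mem_insert, Finset.mem_insert] at hφ ⊢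
        rcases hφ with hφ | hφ | hφ
        · rw [hφ]; exact Or.inr (Or.inl rfl)
        · rw [hφ, Helper82.conjFun_conjFun]; exact Or.inl rfl
        · exact Or.inr (Or.inr (hTc φ hφ))
    have hcard : T.card < T'.card := by
      rw [hT', Finset.card_insert_of_notMem, Finset.card_insert_of_notMem hcT]
      · omega
      · rw [Finset.mem_insert]
        rintro (h | h)
        · exact hS.conj_ne χ (hSB hχ) h.symm
        · exact hχT' h
    exact absurd (hTmax T' hT'F) (not_le.mpr hcard)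
  -- S(B) is coherent as a subset of T
  refine isCoherent_mono hTcoh hBT ?_
  have _iB : (B.subgroupOf K).Normal := Subgroup.Normal.subgroupOf inferInstance K
  have hBne : B.subgroupOf K ≠ ⊤ := by
    intro h
    exact (not_le_of_gt hBK) (Subgroup.subgroupOf_eq_top.mp h)
  obtain ⟨ζ, hζB, hζ1, -⟩ := exists_linear_above hsolv (B.subgroupOf K) hBne
  have hmem : Cfsg.indFun K (ζ : K → ℂ) ∈ Cfsg.inducedIrrAbove K B := by
    refine ⟨(ζ : K → ℂ), ζ.2, ?_, ?_, rfl⟩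
    · intro h
      exact hζ1 ((Helper79.eq_trivChar_iff ζ).mpr h)
    · intro a ha
      exact (Helper79.mem_irrKer ζ a).1 (hζB (Subgroup.mem_subgroupOf.mpr ha))
  refine exists_ne_zero_of_mem hmem (conj_mem_inducedIrrAbove K B hmem)
    (hS.conj_ne _ (hSB hmem)) ?_
  rw [hd _ (hSB hmem), Complex.conj_natCast]

end Cfsg.Agent.S1519
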