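import Cfsg.Statements.S1520
import Mathlib
import Cfsg.Agent.S1519
import Cfsg.Agent.Lib.Helper55.CohGroup

set_option autoImplicit false
open Cfsg

namespace Cfsg.Agent.S1520

open Cfsg.Agent

theorem arith2 (e k x : ℕ) (hk : 1 ≤ k) (hx : 4 * e ^ 2 + 2 ≤ x) :
    4 * (e * k) ^ 2 * x < (x * k - 1) ^ 2 := by
  have hxk : 1 ≤ x * k := Nat.mul_pos (by omega) hk
  obtain ⟨y, hy⟩ : ∃ y, x * k = y + 1 := ⟨x * k - 1, by omega⟩
  rw [hy]
  simp only [Nat.add_sub_cancel]
  have h1 : (4 * e ^ 2 + 2) * x * k ^ 2 ≤ (y + 1) ^ 2 := by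
    rw [← hy]
    calc (4 * e ^ 2 + 2) * x * k ^ 2 ≤ x * x * k ^ 2 :=
          Nat.mul_le_mul_right _ (Nat.mul_le_mul_right _ hx)
      _ = (x * k) ^ 2 := by ring
  have h2 : y + 1 ≤ x * k ^ 2 := by
    rw [← hy]
    calc x * k = x * k ^ 1 := by ring
      _ ≤ x * k ^ 2 := Nat.mul_le_mul_left _ (Nat.pow_le_pow_right hk (by norm_num))
  nlinarith [h1, h2]

/-- Descending induction: from a coherent `S(A)` with `M ≤ A ≤ H₁` down to `S(M)`. -/
theorem descend {L : Type*} [Group L] [Fintype L] {G : Type*} [Group G] [Fintype G]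
    (K : Subgroup L) [hK : K.Normal] (hsolv : Group.IsSolvable K) (τ : (L → ℂ) → (G → ℂ))
    (R : (L → ℂ) → Finset (G → ℂ))
    (hS : Cfsg.IsCoherenceSystem (Cfsg.inducedIrrAbove K ⊥) τ R) (M H₁ H : Subgroup L)
    [M.Normal] [H₁.Normal] [H.Normal] (hH₁H : H₁ ≤ H) (hHK : H ≤ K)
    [(M.subgroupOf H).Normal] (hnil : Group.IsNilpotent (↥H ⧸ M.subgroupOf H))
    (hbig : 4 * K.index ^ 2 + 1 < H₁.relIndex H) :
    ∀ (c : ℕ) (A : Subgroup L), A.Normal → Nat.card A = c → M ≤ A → A ≤ H₁ →
      Cfsg.IsCoherent (Cfsg.inducedIrrAbove K A) {1}ᶜ τ →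
      Cfsg.IsCoherent (Cfsg.inducedIrrAbove K M) {1}ᶜ τ := by
  intro c
  induction c using Nat.strong_induction_on with
  | _ c ih =>
    intro A hAn hc hMA hAH₁ hcohA
    by_cases hAM : A = M
    · rw [← hAM]; exact hcohA
    · have hlt : M < A := lt_of_le_of_ne hMA (Ne.symm hAM)
      have _iA : A.Normal := hAn
      have hAH : A ≤ H := hAH₁.trans hH₁H
      obtain ⟨B, hBn, hMB, hBA, hcomm⟩ :=
        Helper55.CohGroup.exists_central_step M A H hlt hAH hnil
      have _iB : B.Normal := hBn
      have hnH : ¬ H ≤ H₁ := by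
        intro h
        rw [Subgroup.relIndex_eq_one.mpr h] at hbig
        omega
      have hAK : A < K := by
        refine lt_of_le_of_ne (hAH.trans hHK) ?_
        intro h
        apply hnH
        rw [← h] at hHK
        exact hHK.trans hAH₁
      have hBK : B < K := lt_of_lt_of_le hBA hAK.le
      have hineq : 4 * H.index ^ 2 * A.relIndex H < (A.relIndex K - 1) ^ 2 := by
        have e1 : H.relIndex K * K.index = H.index := Subgroup.relIndex_mul_index hHK
        have e2 : A.relIndex H * H.relIndex K = A.relIndex K :=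
          Subgroup.relIndex_mul_relIndex A H K hAH hHK
        have e3 : A.relIndex H₁ * H₁.relIndex H = A.relIndex H :=
          Subgroup.relIndex_mul_relIndex A H₁ H hAH₁ hH₁H
        have hk : 1 ≤ H.relIndex K :=
          Nat.pos_of_ne_zero (Subgroup.index_ne_zero_of_finite (H := H.subgroupOf K))
        have h1 : 1 ≤ A.relIndex H₁ :=
          Nat.pos_of_ne_zero (Subgroup.index_ne_zero_of_finite (H := A.subgroupOf H₁))
        have hx : 4 * K.index ^ 2 + 2 ≤ A.relIndex H := by
          rw [← e3]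
          calc 4 * K.index ^ 2 + 2 ≤ H₁.relIndex H := hbig
            _ = 1 * H₁.relIndex H := (one_mul _).symm
            _ ≤ A.relIndex H₁ * H₁.relIndex H := Nat.mul_le_mul_right _ h1
        have := arith2 K.index (H.relIndex K) (A.relIndex H) hk hx
        rw [e2] at this
        rw [← e1]
        calc 4 * (H.relIndex K * K.index) ^ 2 * A.relIndex H
            = 4 * (K.index * H.relIndex K) ^ 2 * A.relIndex H := by ring
          _ < _ := this
      have hcohB := Cfsg.Agent.S1519.result K hsolv τ R hS A B H A hAK hBK hBA.le hAH hHK hcomm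
        hcohA hineq
      have hcard : Nat.card B < c := by
        rw [← hc]
        refine lt_of_le_of_ne (Subgroup.card_le_of_le hBA.le) ?_
        intro h
        exact hBA.ne (Subgroup.eq_of_le_of_card_ge hBA.le h.ge)
      exact ih (Nat.card B) hcard B hBn rfl hMB (hBA.le.trans hAH₁) hcohB


/-- Let K be a solvable normal subgroup of the finite group L and (S, τ, R) a coherence system from L to G with S the functions induced from non-principal irreducible characters of K; S(A) the members of S induced from characters whose kernel contains A. Let M ≤ H₁ ≤ H ≤ K be normal subgroups of L such that every term of the lower central series of H eventually lies in M (H/M nilpotent), S(H₁) is coherent and [H:H₁] > 4 * [L:K]^2 + 1. Then S(M) is coherent. -/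
theorem result {L : Type*} [Group L] [Fintype L] {G : Type*} [Group G] [Fintype G] (K : Subgroup L) [hK : K.Normal] (hsolv : Group.IsSolvable K) (τ : (L → ℂ) → (G → ℂ)) (R : (L → ℂ) → Finset (G → ℂ)) (hS : Cfsg.IsCoherenceSystem (Cfsg.inducedIrrAbove K ⊥) τ R) (M H₁ H : Subgroup L) [M.Normal] [H₁.Normal] [H.Normal] (hMH₁ : M ≤ H₁) (hH₁H : H₁ ≤ H) (hHK : H ≤ K) [(M.subgroupOf H).Normal] (hnil : Group.IsNilpotent (↥H ⧸ M.subgroupOf H)) (hcoh : Cfsg.IsCoherent (Cfsg.inducedIrrAbove K H₁) {1}ᶜ τ) (hbig : 4 * K.index ^ 2 + 1 < H₁.relIndex H) : Cfsg.IsCoherent (Cfsg.inducedIrrAbove K M) {1}ᶜ τ := by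
  exact descend K hsolv τ R hS M H₁ H hH₁H hHK hnil hbig (Nat.card H₁) H₁ inferInstance rfl hMH₁
    le_rfl hcoh

end Cfsg.Agent.S1520
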