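import Cfsg.Statements.S1521
import Mathlib
import Cfsg.Agent.S1517
import Cfsg.Agent.S1520
import Cfsg.Agent.Lib.Helper55.CohGroup
import Cfsg.Agent.Lib.Helper79.LinearDeg

set_option autoImplicit false
open Cfsg

namespace Cfsg.Agent.S1521

open Cfsg.Agent Cfsg.Agent.Helper25.Coh62

/-- A nonempty conjugation-closed subset of a coherence system is a coherence system. -/
theorem cs_subset {L : Type*} [Group L] [Fintype L] {G : Type*} [Group G] [Fintype G]
    {S S' : Set (L → ℂ)} {τ : (L → ℂ) → (G → ℂ)} {R : (L → ℂ) → Finset (G → ℂ)}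
    (hS : Cfsg.IsCoherenceSystem S τ R) (hsub : S' ⊆ S) (hne : S'.Nonempty)
    (hc : ∀ χ ∈ S', Cfsg.conjFun χ ∈ S') : Cfsg.IsCoherenceSystem S' τ R where
  nonempty := hne
  isCharacter := fun χ hχ => hS.isCharacter χ (hsub hχ)
  conj_mem := hc
  conj_ne := fun χ hχ => hS.conj_ne χ (hsub hχ)
  isometry := Helper82.isLinearIsometryOn_mono hS.isometry (Helper82.zspanOn_mono hsub _)
  map_one := fun α hα => hS.map_one α (Helper82.zspanOn_mono hsub _ hα)
  orthogonal := fun χ hχ φ hφ h => hS.orthogonal χ (hsub hχ) φ (hsub hφ) h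
  orthonormal := fun χ hχ => hS.orthonormal χ (hsub hχ)
  virtual := fun χ hχ => hS.virtual χ (hsub hχ)
  sum_eq := fun χ hχ => hS.sum_eq χ (hsub hχ)
  disjoint := fun χ hχ φ hφ => hS.disjoint χ (hsub hχ) φ (hsub hφ)

theorem ar1 (e a : ℕ) (he : Odd e) (ha : Odd a) (ha1 : 1 < a) (hd : e ∣ a - 1) :
    2 * e + 1 ≤ a := by
  obtain ⟨t, ht⟩ := hd
  have ht0 : t ≠ 0 := by
    rintro rfl
    omega
  rcases Nat.even_or_odd t with hte | hto
  · obtain ⟨s, hs⟩ := hte
    have hs0 : 1 ≤ s := by omega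
    have : 2 * e ≤ e * t := by
      rw [hs]
      nlinarith
    omega
  · exfalso
    have h1 : Odd (e * t) := he.mul hto
    rw [← ht] at h1
    obtain ⟨u, hu⟩ := ha
    obtain ⟨v, hv⟩ := h1
    omega

theorem ar2 (e a b : ℕ) (ha : 1 ≤ a) (hb : 1 ≤ b) (h1 : e ∣ a - 1) (h2 : e ∣ a * b - 1) :
    e ∣ b - 1 := by
  have hab : 1 ≤ a * b := Nat.mul_pos ha hb
  have m1 : 1 ≡ a [MOD e] := (Nat.modEq_iff_dvd' ha).mpr h1
  have m2 : 1 ≡ a * b [MOD e] := (Nat.modEq_iff_dvd' hab).mpr h2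
  have m3 : 1 ≡ b [MOD e] := by
    calc 1 ≡ a * b [MOD e] := m2
      _ ≡ 1 * b [MOD e] := (m1.symm.mul_right b)
      _ = b := one_mul b
  exact (Nat.modEq_iff_dvd' hb).mp m3

theorem ar3 (e a b : ℕ) (ha : 2 * e + 1 ≤ a) (hb : 2 * e + 1 ≤ b) (he : 1 ≤ e) :
    4 * e ^ 2 + 1 < a * b := by
  have := Nat.mul_le_mul ha hb
  nlinarith

/-- The characters in `S(H₁)` are induced from linear characters when `K' ≤ H₁`. -/
theorem deg_of_mem {L : Type*} [Group L] [Fintype L] (K H₁ : Subgroup L) (hab : ⁅K, K⁆ ≤ H₁)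
    {φ : L → ℂ} (hφ : φ ∈ Cfsg.inducedIrrAbove K H₁) : φ 1 = (K.index : ℂ) := by
  obtain ⟨θ, hθ, -, hθH, rfl⟩ := hφ
  have h1 : commutator K ≤ Helper79.irrKer (⟨θ, hθ⟩ : Cfsg.IrrCharacter K) := by
    intro k hk
    rw [Helper79.mem_irrKer]
    refine hθH k (hab ?_)
    rw [← Subgroup.map_subtype_commutator]
    exact Subgroup.mem_map.mpr ⟨k, hk, rfl⟩
  have h2 := Helper79.degree_one_of_commutator_le_irrKer _ h1
  have h3 : θ 1 = (Cfsg.charDegree θ : ℂ) :=
    (Helper79.irr_one_eq (⟨θ, hθ⟩ : Cfsg.IrrCharacter K)).1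
  have h4 : Cfsg.charDegree θ = 1 := h2
  rw [Helper81.indFun_one, h3, h4]
  simp

/-- `S(H₁)` is coherent when `K' ≤ H₁ < K`. -/
theorem coh_H₁ {L : Type*} [Group L] [Fintype L] {G : Type*} [Group G] [Fintype G]
    (K : Subgroup L) [hK : K.Normal] (hsolv : Group.IsSolvable K) (τ : (L → ℂ) → (G → ℂ))
    (R : (L → ℂ) → Finset (G → ℂ))
    (hS : Cfsg.IsCoherenceSystem (Cfsg.inducedIrrAbove K ⊥) τ R) (H₁ : Subgroup L) [H₁.Normal]
    (hab : ⁅K, K⁆ ≤ H₁) (hH₁K : H₁ < K) :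
    Cfsg.IsCoherent (Cfsg.inducedIrrAbove K H₁) {1}ᶜ τ := by
  have _i : (H₁.subgroupOf K).Normal := Subgroup.Normal.subgroupOf inferInstance K
  have hne : H₁.subgroupOf K ≠ ⊤ := fun h =>
    (not_le_of_gt hH₁K) (Subgroup.subgroupOf_eq_top.mp h)
  obtain ⟨ζ, hζ, hζ1, -⟩ := exists_linear_above hsolv (H₁.subgroupOf K) hne
  have hmem : Cfsg.indFun K (ζ : K → ℂ) ∈ Cfsg.inducedIrrAbove K H₁ := by
    refine ⟨(ζ : K → ℂ), ζ.2, ?_, ?_, rfl⟩
    · intro h
      exact hζ1 ((Helper79.eq_trivChar_iff ζ).mpr h)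
    · intro a ha
      exact (Helper79.mem_irrKer ζ a).1 (hζ (Subgroup.mem_subgroupOf.mpr ha))
  have hcs := cs_subset hS (inducedIrrAbove_subset_bot K H₁) ⟨_, hmem⟩
    (fun χ hχ => conj_mem_inducedIrrAbove K H₁ hχ)
  exact Cfsg.Agent.S1517.result _ τ R hcs (fun φ hφ ψ hψ => by
    rw [deg_of_mem K H₁ hab hφ, deg_of_mem K H₁ hab hψ])


/-- Let K be a solvable normal subgroup of the finite group L of odd order and (S, τ, R) a coherence system from L to G with S the functions induced from non-principal irreducible characters of K; S(A) as before. Let M ≤ K be normal in L with K/M nilpotent, H₁ = [K, K] ⊔ M, H₁ < K < L, and suppose every element of K outside H₁ is centralised modulo H₁ only from inside K (L/H₁ is a Frobenius group with kernel K/H₁). Suppose one of the following: some normal subgroup of L lies strictly between H₁ and K; or [K:H₁] > 4[L:K]^2 + 1; or [K:M] is not a prime power; or [K,K] ≤ M; or [K:M] is a power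 of a prime p with [L:K] dividing p − 1. Then S(M) is coherent. -/
theorem result {L : Type*} [Group L] [Fintype L] {G : Type*} [Group G] [Fintype G] (K : Subgroup L) [hK : K.Normal] (hsolv : Group.IsSolvable K) (τ : (L → ℂ) → (G → ℂ)) (R : (L → ℂ) → Finset (G → ℂ)) (hS : Cfsg.IsCoherenceSystem (Cfsg.inducedIrrAbove K ⊥) τ R) (hodd : Odd (Nat.card L)) (M : Subgroup L) [M.Normal] (hMK : M ≤ K) [(M.subgroupOf K).Normal] (hnil : Group.IsNilpotent (↥K ⧸ M.subgroupOf K)) (H₁ : Subgroup L) (hH₁ : H₁ = ⁅K, K⁆ ⊔ M) (hH₁K : H₁ < K) (hKL : K < ⊤) (hfrob : ∀ k ∈ K, k ∉ H₁ → ∀ x : L, x * k * x⁻¹ * k⁻¹ ∈ H₁ → x ∈ K) (hgood : (∃ N : Subgroup L, N.Normal ∧ H₁ < N ∧ N < K) ∨ 4 * K.index ^ 2 + 1 < H₁.relIndex K ∨ (¬ ∃ p m : ℕ, p.Prime ∧ M.relIndex K = p ^ m) ∨ ⁅K, K⁆ ≤ M ∨ (∃ p m : ℕ, p.Prime ∧ M.relIndex K = p ^ m ∧ K.index ∣ p - 1)) : Cfsg.IsCoherent (Cfsg.inducedIrrAbove K M) {1}ᶜ τ := by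
  classical
  have hab : ⁅K, K⁆ ≤ H₁ := hH₁ ▸ le_sup_left
  have hMH₁ : M ≤ H₁ := hH₁ ▸ le_sup_right
  have _iH₁ : H₁.Normal := by
    rw [hH₁]
    infer_instance
  have hcohH₁ := coh_H₁ K hsolv τ R hS H₁ hab hH₁K
  -- case (d)
  have caseD : ⁅K, K⁆ ≤ M → Cfsg.IsCoherent (Cfsg.inducedIrrAbove K M) {1}ᶜ τ := by
    intro h
    have : H₁ = M := by rw [hH₁]; exact sup_eq_right.mpr h
    rw [← this]
    exact hcohH₁
  -- case (b)
  have caseB : 4 * K.index ^ 2 + 1 < H₁.relIndex K →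
      Cfsg.IsCoherent (Cfsg.inducedIrrAbove K M) {1}ᶜ τ := by
    intro hbig
    exact Cfsg.Agent.S1520.result K hsolv τ R hS M H₁ K hMH₁ hH₁K.le le_rfl hnil hcohH₁ hbig
  have heodd : Odd K.index := Odd.of_dvd_nat hodd (Subgroup.index_dvd_card K)
  have he1 : 1 ≤ K.index := Nat.pos_of_ne_zero Subgroup.index_ne_zero_of_finite
  -- case (a)
  have caseA : (∃ N : Subgroup L, N.Normal ∧ H₁ < N ∧ N < K) →
      Cfsg.IsCoherent (Cfsg.inducedIrrAbove K M) {1}ᶜ τ := by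
    rintro ⟨N, hNn, hH₁N, hNK⟩
    have _iN : N.Normal := hNn
    apply caseB
    have d1 := Helper55.CohGroup.frob_index_dvd K H₁ N hH₁N.le hNK.le hab hfrob
    have d2 := Helper55.CohGroup.frob_index_dvd K H₁ K hH₁K.le le_rfl hab hfrob
    have e1 : H₁.relIndex N * N.relIndex K = H₁.relIndex K :=
      Subgroup.relIndex_mul_relIndex H₁ N K hH₁N.le hNK.le
    have ha1 : 1 < H₁.relIndex N := by
      have h0 : H₁.relIndex N ≠ 0 := Subgroup.index_ne_zero_of_finite (H := H₁.subgroupOf N)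
      have h1 : H₁.relIndex N ≠ 1 := fun h =>
        (not_le_of_gt hH₁N) (Subgroup.relIndex_eq_one.mp h)
      omega
    have hb1 : 1 < N.relIndex K := by
      have h0 : N.relIndex K ≠ 0 := Subgroup.index_ne_zero_of_finite (H := N.subgroupOf K)
      have h1 : N.relIndex K ≠ 1 := fun h =>
        (not_le_of_gt hNK) (Subgroup.relIndex_eq_one.mp h)
      omega
    have haodd : Odd (H₁.relIndex N) :=
      Odd.of_dvd_nat hodd ((Subgroup.relIndex_dvd_card H₁ N).trans (Subgroup.card_subgroup_dvd_card N))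
    have hbodd : Odd (N.relIndex K) :=
      Odd.of_dvd_nat hodd ((Subgroup.relIndex_dvd_card N K).trans (Subgroup.card_subgroup_dvd_card K))
    rw [← e1] at d2
    have d3 := ar2 K.index (H₁.relIndex N) (N.relIndex K) ha1.le hb1.le d1 d2
    rw [← e1]
    exact ar3 K.index _ _ (ar1 _ _ heodd haodd ha1 d1) (ar1 _ _ heodd hbodd hb1 d3) he1
  rcases hgood with h | h | h | h | h
  · exact caseA h
  · exact caseB h
  · exact caseA (Helper55.CohGroup.exists_between_of_not_prime_pow K M H₁ hMK hnil hH₁ h)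
  · exact caseD h
  · obtain ⟨p, m, hp, hpm, hdvd⟩ := h
    by_cases hKM : ⁅K, K⁆ ≤ M
    · exact caseD hKM
    · apply caseB
      have hsq := Helper55.CohGroup.sq_le_relIndex_of_nonabelian K M H₁ hMK hH₁ p m hp hpm hKM
      have hm0 : m ≠ 0 := by
        rintro rfl
        rw [pow_zero] at hpm
        have hKleM : K ≤ M := Subgroup.relIndex_eq_one.mp hpm
        exact hKM ((Subgroup.commutator_le_self K).trans hKleM)
      have hpodd : Odd p := by
        refine Odd.of_dvd_nat hodd ?_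
        have h1 : p ∣ M.relIndex K := by
          rw [hpm]
          exact dvd_pow_self p hm0
        exact h1.trans ((Subgroup.relIndex_dvd_card M K).trans (Subgroup.card_subgroup_dvd_card K))
      have hp1 : 1 < p := hp.one_lt
      have hp2 := ar1 K.index p heodd hpodd hp1 hdvd
      calc 4 * K.index ^ 2 + 1 < p * p := ar3 K.index p p hp2 hp2 he1
        _ = p ^ 2 := (pow_two p).symm
        _ ≤ H₁.relIndex K := hsq

end Cfsg.Agent.S1521
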