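import Cfsg.Statements.S1522
import Mathlib
import Cfsg.Agent.S1516
import Cfsg.Agent.S1517
import Cfsg.Agent.S1521
import Cfsg.Agent.Lib.Helper25.Coh65c
import Cfsg.Agent.Lib.Helper55.CohGroup

set_option autoImplicit false
open Cfsg

namespace Cfsg.Agent.S1522

open Cfsg.Agent Cfsg.Agent.Helper25.Coh62 Cfsg.Agent.Helper25.Coh65
open scoped ComplexConjugate

theorem arith65 (e a b : ℕ) (he : 0 < e) (hb : 0 < b) (h : 2 * a < b) :
    2 * (e * b) * (e * a) < e ^ 2 * b ^ 2 := by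
  have h1 : 0 < e ^ 2 * b := Nat.mul_pos (pow_pos he 2) hb
  calc 2 * (e * b) * (e * a) = e ^ 2 * b * (2 * a) := by ring
    _ < e ^ 2 * b * b := Nat.mul_lt_mul_of_pos_left h h1
    _ = e ^ 2 * b ^ 2 := by ring

/-- One extension step for Peterfalvi 6.5 in the `p`-group case. -/
theorem step65 {L : Type*} [Group L] [Fintype L] {G : Type*} [Group G] [Fintype G]
    (K : Subgroup L) [hK : K.Normal] (τ : (L → ℂ) → (G → ℂ)) (R : (L → ℂ) → Finset (G → ℂ))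
    (S : Set (L → ℂ)) (hSdef : S = Cfsg.inducedIrrAbove K ⊥) (hS : Cfsg.IsCoherenceSystem S τ R)
    (Z : Subgroup L) [Z.Normal] (hZK : Z ≤ K) (hZc : Z.subgroupOf K ≤ Subgroup.center K)
    (hirr : ∀ ζ ∈ NZ K Z, Cfsg.IsIrrCharacter L (Cfsg.indFun K (ζ : K → ℂ)))
    (p m : ℕ) (hp : p.Prime) (hp3 : 3 ≤ p) (hcard : Nat.card K = p ^ m)
    (hcop : Nat.Coprime K.index p) (n : (L → ℂ) → ℕ)
    (hd : ∀ φ ∈ S, φ 1 = (Cfsg.charDegree φ : ℂ))
    (hn : ∀ φ ∈ S, Cfsg.classInner φ φ = (n φ : ℂ))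
    (T : Finset (L → ℂ))
    (hTS₁ : ∀ φ ∈ T, φ ∈ Cfsg.inducedIrrAbove K ⊥ \ Cfsg.inducedIrrAbove K Z)
    (hTc : ∀ φ ∈ T, Cfsg.conjFun φ ∈ T) (hTcoh : Cfsg.IsCoherent (↑T : Set (L → ℂ)) {1}ᶜ τ)
    (χ₁ : L → ℂ) (hχ₁T : χ₁ ∈ T) (χ : L → ℂ)
    (hχ : χ ∈ Cfsg.inducedIrrAbove K ⊥ \ Cfsg.inducedIrrAbove K Z) (hχT : χ ∉ T)
    (hlt : Cfsg.charDegree χ₁ < Cfsg.charDegree χ)
    (hdown : ∀ ψ ∈ Cfsg.inducedIrrAbove K ⊥ \ Cfsg.inducedIrrAbove K Z,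
      Cfsg.charDegree ψ < Cfsg.charDegree χ → ψ ∈ T) :
    Cfsg.IsCoherent (↑T ∪ {χ, Cfsg.conjFun χ} : Set (L → ℂ)) {1}ᶜ τ := by
  classical
  have hTS : (↑T : Set (L → ℂ)) ⊆ S := by
    intro φ hφ
    rw [hSdef]
    exact (hTS₁ φ hφ).1
  have hχS : χ ∈ S := by rw [hSdef]; exact hχ.1
  have hcT : Cfsg.conjFun χ ∉ T := by
    intro h
    have := hTc _ h
    rw [Helper82.conjFun_conjFun] at this
    exact hχT this
  obtain ⟨θ, hθNZ, hχθ⟩ := exists_NZ_of_mem_diff K Z hχ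
  obtain ⟨ζ₁, hζ₁NZ, hχ₁eq⟩ := exists_NZ_of_mem_diff K Z (hTS₁ χ₁ hχ₁T)
  have he : 0 < K.index := Nat.pos_of_ne_zero Subgroup.index_ne_zero_of_finite
  have hdχ : Cfsg.charDegree χ = K.index * Cfsg.charDegree (θ : K → ℂ) := by
    rw [hχθ, charDegree_ind]
  have hdχ₁ : Cfsg.charDegree χ₁ = K.index * Cfsg.charDegree (ζ₁ : K → ℂ) := by
    rw [hχ₁eq, charDegree_ind]
  have hab : Cfsg.charDegree (ζ₁ : K → ℂ) < Cfsg.charDegree (θ : K → ℂ) := by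
    rw [hdχ, hdχ₁] at hlt
    exact Nat.lt_of_mul_lt_mul_left hlt
  have hTb_ne : (Tb K Z (Cfsg.charDegree (θ : K → ℂ))).Nonempty :=
    ⟨ζ₁, (mem_Tb K Z _ ζ₁).mpr ⟨hζ₁NZ, hab⟩⟩
  have hkey := key_bound K Z hirr p m hp hcard hcop hZc θ hTb_ne
  have hFbT : Fb K Z (Cfsg.charDegree (θ : K → ℂ)) ⊆ T := by
    intro φ hφ
    unfold Fb at hφ
    obtain ⟨ζ, hζ, rfl⟩ := Finset.mem_image.mp hφ
    obtain ⟨hζNZ, hζlt⟩ := (mem_Tb K Z _ ζ).mp hζ
    refine hdown _ (ind_mem_diff K Z hZK ζ hζNZ) ?_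
    rw [charDegree_ind, hdχ]
    exact Nat.mul_lt_mul_of_pos_left hζlt he
  have hn1 : ∀ φ ∈ T, n φ = 1 := by
    intro φ hφ
    obtain ⟨ζ, hζNZ, rfl⟩ := exists_NZ_of_mem_diff K Z (hTS₁ φ hφ)
    have h1 := hn _ (hTS hφ)
    rw [Helper81.irr_orthonormal (hirr ζ hζNZ) (hirr ζ hζNZ), if_pos rfl] at h1
    exact_mod_cast h1.symm
  have hsum : ((K.index ^ 2 * (Cfsg.charDegree (θ : K → ℂ)) ^ 2 : ℕ) : ℝ)
      ≤ ∑ φ ∈ T, ((Cfsg.charDegree φ : ℝ) ^ 2 / (n φ : ℝ)) := by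
    have h1 : ∑ φ ∈ T, ((Cfsg.charDegree φ : ℝ) ^ 2 / (n φ : ℝ))
        = ((∑ φ ∈ T, (Cfsg.charDegree φ) ^ 2 : ℕ) : ℝ) := by
      push_cast
      refine Finset.sum_congr rfl fun φ hφ => ?_
      rw [hn1 φ hφ]
      simp
    rw [h1]
    have h2 : ∑ φ ∈ Fb K Z (Cfsg.charDegree (θ : K → ℂ)), (Cfsg.charDegree φ) ^ 2
        ≤ ∑ φ ∈ T, (Cfsg.charDegree φ) ^ 2 :=
      Finset.sum_le_sum_of_subset hFbT
    exact_mod_cast hkey.trans h2
  obtain ⟨β, hβ⟩ := degree_eq_pow K p m hp hcard θ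
  obtain ⟨α, hα⟩ := degree_eq_pow K p m hp hcard ζ₁
  have hαβ : α < β := by
    rw [hα, hβ] at hab
    exact (Nat.pow_lt_pow_iff_right hp.one_lt).mp hab
  have hdvd : Cfsg.charDegree (ζ₁ : K → ℂ) ∣ Cfsg.charDegree (θ : K → ℂ) := by
    rw [hα, hβ]
    exact pow_dvd_pow p hαβ.le
  have h2a : 2 * Cfsg.charDegree (ζ₁ : K → ℂ) < Cfsg.charDegree (θ : K → ℂ) := by
    rw [hα, hβ]
    have h1 : p ^ (α + 1) ≤ p ^ β := Nat.pow_le_pow_right hp.pos hαβ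
    have h2 : 0 < p ^ α := pow_pos hp.pos α
    calc 2 * p ^ α < 3 * p ^ α := by omega
      _ ≤ p * p ^ α := Nat.mul_le_mul_right _ hp3
      _ = p ^ (α + 1) := by ring
      _ ≤ p ^ β := h1
  have hbpos : 0 < Cfsg.charDegree (θ : K → ℂ) := (Helper79.irr_one_eq θ).2
  refine Cfsg.Agent.S1516.result S τ R hS (fun φ => Cfsg.charDegree φ) n hd hn T hTS hTc hTcoh
    χ hχS hχT hcT χ₁ hχ₁T ?_ ?_
  · show Cfsg.charDegree χ₁ ∣ Cfsg.charDegree χ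
    rw [hdχ, hdχ₁]
    exact Nat.mul_dvd_mul_left _ hdvd
  · show (2 * (Cfsg.charDegree χ : ℝ) * (Cfsg.charDegree χ₁ : ℝ))
      < ∑ φ ∈ T, ((Cfsg.charDegree φ : ℝ) ^ 2 / (n φ : ℝ))
    rw [hdχ, hdχ₁]
    have har := arith65 K.index (Cfsg.charDegree (ζ₁ : K → ℂ)) (Cfsg.charDegree (θ : K → ℂ))
      he hbpos h2a
    calc (2 * ((K.index * Cfsg.charDegree (θ : K → ℂ) : ℕ) : ℝ)
          * ((K.index * Cfsg.charDegree (ζ₁ : K → ℂ) : ℕ) : ℝ))
        = ((2 * (K.index * Cfsg.charDegree (θ : K → ℂ))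
            * (K.index * Cfsg.charDegree (ζ₁ : K → ℂ)) : ℕ) : ℝ) := by push_cast; ring
      _ < ((K.index ^ 2 * (Cfsg.charDegree (θ : K → ℂ)) ^ 2 : ℕ) : ℝ) := by exact_mod_cast har
      _ ≤ _ := hsum

theorem charDegree_conjFun {L : Type*} [Group L] (φ : L → ℂ) :
    Cfsg.charDegree (Cfsg.conjFun φ) = Cfsg.charDegree φ := by
  show ⌊(conj (φ 1)).re⌋₊ = ⌊(φ 1).re⌋₊
  rw [Complex.conj_re]

/-- Peterfalvi 6.5, the `p`-group case. -/
theorem caseII {L : Type*} [Group L] [Fintype L] {G : Type*} [Group G] [Fintype G]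
    (K : Subgroup L) [hK : K.Normal] (τ : (L → ℂ) → (G → ℂ)) (R : (L → ℂ) → Finset (G → ℂ))
    (hS : Cfsg.IsCoherenceSystem (Cfsg.inducedIrrAbove K ⊥) τ R)
    (Z : Subgroup L) [Z.Normal] (hZ1 : Z ≠ ⊥) (hZK : Z ≤ K)
    (hZc : Z.subgroupOf K ≤ Subgroup.center K)
    (hirr : ∀ ζ ∈ NZ K Z, Cfsg.IsIrrCharacter L (Cfsg.indFun K (ζ : K → ℂ)))
    (p m : ℕ) (hp : p.Prime) (hp3 : 3 ≤ p) (hcard : Nat.card K = p ^ m)
    (hcop : Nat.Coprime K.index p) :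
    Cfsg.IsCoherent (Cfsg.inducedIrrAbove K ⊥ \ Cfsg.inducedIrrAbove K Z) {1}ᶜ τ := by
  classical
  obtain ⟨S, hSdef⟩ : ∃ S : Set (L → ℂ), S = Cfsg.inducedIrrAbove K ⊥ := ⟨_, rfl⟩
  obtain ⟨S₁, hS₁def⟩ : ∃ S₁ : Set (L → ℂ),
    S₁ = Cfsg.inducedIrrAbove K ⊥ \ Cfsg.inducedIrrAbove K Z := ⟨_, rfl⟩
  rw [← hS₁def]
  rw [← hSdef] at hS
  have hS₁S : S₁ ⊆ S := by
    rw [hS₁def, hSdef]
    exact Set.sdiff_subset
  have hS₁fin : S₁.Finite := by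
    refine Set.Finite.subset (inducedIrrAbove_finite K ⊥) ?_
    rw [hS₁def]
    exact Set.sdiff_subset
  -- degrees and norms
  have hd : ∀ φ ∈ S, φ 1 = (Cfsg.charDegree φ : ℂ) := by
    intro φ hφ
    rw [hSdef] at hφ
    obtain ⟨θ, hθ, -, -, rfl⟩ := hφ
    have h1 := ind_one K (⟨θ, hθ⟩ : Cfsg.IrrCharacter K)
    have h2 := charDegree_ind K (⟨θ, hθ⟩ : Cfsg.IrrCharacter K)
    rw [h2]
    exact h1
  obtain ⟨n, hn⟩ : ∃ n : (L → ℂ) → ℕ, ∀ φ ∈ S, Cfsg.classInner φ φ = (n φ : ℂ) := by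
    refine ⟨fun φ => if h : ∃ k : ℕ, Cfsg.classInner φ φ = (k : ℂ) then h.choose else 0,
      fun φ hφ => ?_⟩
    have h := Helper82.cs_norm_nat hS hφ
    simp only [dif_pos h]
    exact h.choose_spec
  -- closure under conjugation
  have hconj : ∀ φ ∈ S₁, Cfsg.conjFun φ ∈ S₁ := by
    intro φ hφ
    rw [hS₁def] at hφ ⊢
    refine ⟨conj_mem_inducedIrrAbove K ⊥ hφ.1, fun h => hφ.2 ?_⟩
    have := conj_mem_inducedIrrAbove K Z h
    rw [Helper82.conjFun_conjFun] at this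
    exact this
  -- nonemptiness
  obtain ⟨ζ₀, hζ₀⟩ := NZ_nonempty K Z hZK hZ1
  have hne : hS₁fin.toFinset.Nonempty :=
    ⟨_, (Set.Finite.mem_toFinset hS₁fin).mpr (hS₁def ▸ ind_mem_diff K Z hZK ζ₀ hζ₀)⟩
  obtain ⟨φmin, hφmin, hmin⟩ := Finset.exists_min_image hS₁fin.toFinset
    (fun φ => Cfsg.charDegree φ) hne
  have hφminS₁ : φmin ∈ S₁ := (Set.Finite.mem_toFinset hS₁fin).mp hφmin
  -- the bottom layer
  obtain ⟨T₀, hT₀⟩ : ∃ T₀ : Finset (L → ℂ), T₀ = hS₁fin.toFinset.filter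
      (fun φ => Cfsg.charDegree φ = Cfsg.charDegree φmin) := ⟨_, rfl⟩
  have hmemT₀ : ∀ φ, φ ∈ T₀ ↔ φ ∈ S₁ ∧ Cfsg.charDegree φ = Cfsg.charDegree φmin := by
    intro φ
    rw [hT₀, Finset.mem_filter, Set.Finite.mem_toFinset]
  have hφminT₀ : φmin ∈ T₀ := (hmemT₀ _).mpr ⟨hφminS₁, rfl⟩
  have hT₀c : ∀ φ ∈ T₀, Cfsg.conjFun φ ∈ T₀ := by
    intro φ hφ
    rw [hmemT₀] at hφ ⊢
    exact ⟨hconj φ hφ.1, by rw [charDegree_conjFun]; exact hφ.2⟩
  have hT₀coh : Cfsg.IsCoherent (↑T₀ : Set (L → ℂ)) {1}ᶜ τ := by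
    have hsub : (↑T₀ : Set (L → ℂ)) ⊆ S := fun φ hφ => hS₁S ((hmemT₀ φ).mp hφ).1
    have hcs := Cfsg.Agent.S1521.cs_subset hS hsub ⟨φmin, hφminT₀⟩ (fun φ hφ => hT₀c φ hφ)
    refine Cfsg.Agent.S1517.result _ τ R hcs (fun φ hφ ψ hψ => ?_)
    rw [hd φ (hsub hφ), hd ψ (hsub hψ), ((hmemT₀ φ).mp hφ).2, ((hmemT₀ ψ).mp hψ).2]
  -- the family
  obtain ⟨F, hF⟩ : ∃ F : Finset (Finset (L → ℂ)), F = hS₁fin.toFinset.powerset.filter
      (fun T : Finset (L → ℂ) => T₀ ⊆ T ∧ (∀ φ ∈ T, Cfsg.conjFun φ ∈ T) ∧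
        (∀ φ ∈ T, ∀ ψ ∈ S₁, Cfsg.charDegree ψ < Cfsg.charDegree φ → ψ ∈ T) ∧
        Cfsg.IsCoherent (↑T : Set (L → ℂ)) {1}ᶜ τ) := ⟨_, rfl⟩
  have hmemF : ∀ T : Finset (L → ℂ), T ∈ F ↔ ((∀ φ ∈ T, φ ∈ S₁) ∧ T₀ ⊆ T ∧
      (∀ φ ∈ T, Cfsg.conjFun φ ∈ T) ∧
      (∀ φ ∈ T, ∀ ψ ∈ S₁, Cfsg.charDegree ψ < Cfsg.charDegree φ → ψ ∈ T) ∧
      Cfsg.IsCoherent (↑T : Set (L → ℂ)) {1}ᶜ τ) := by
    intro T
    rw [hF, Finset.mem_filter, Finset.mem_powerset]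
    constructor
    · rintro ⟨h1, h2⟩
      exact ⟨fun φ hφ => (Set.Finite.mem_toFinset hS₁fin).mp (h1 hφ), h2⟩
    · rintro ⟨h1, h2⟩
      exact ⟨fun φ hφ => (Set.Finite.mem_toFinset hS₁fin).mpr (h1 φ hφ), h2⟩
  have hFne : F.Nonempty := by
    refine ⟨T₀, (hmemF _).mpr ⟨fun φ hφ => ((hmemT₀ φ).mp hφ).1, subset_rfl, hT₀c, ?_, hT₀coh⟩⟩
    intro φ hφ ψ hψ hlt
    exfalso
    have h1 := hmin ψ ((Set.Finite.mem_toFinset hS₁fin).mpr hψ)
    rw [((hmemT₀ φ).mp hφ).2] at hlt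
    exact absurd h1 (not_le.mpr hlt)
  obtain ⟨T, hTF, hTmax⟩ := Finset.exists_max_image F Finset.card hFne
  obtain ⟨hTS₁, hT₀T, hTc, hTdown, hTcoh⟩ := (hmemF T).mp hTF
  -- T is everything
  have hall : ∀ φ ∈ S₁, φ ∈ T := by
    by_contra hnot
    have hdiff : (hS₁fin.toFinset \ T).Nonempty := by
      by_contra hemp
      apply hnot
      intro φ hφ
      by_contra hφT
      exact hemp ⟨φ, Finset.mem_sdiff.mpr ⟨(Set.Finite.mem_toFinset hS₁fin).mpr hφ, hφT⟩⟩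
    obtain ⟨χ, hχmem, hχmin⟩ := Finset.exists_min_image (hS₁fin.toFinset \ T)
      (fun φ => Cfsg.charDegree φ) hdiff
    obtain ⟨hχS₁f, hχT⟩ := Finset.mem_sdiff.mp hχmem
    have hχS₁ : χ ∈ S₁ := (Set.Finite.mem_toFinset hS₁fin).mp hχS₁f
    have hdown : ∀ ψ ∈ S₁, Cfsg.charDegree ψ < Cfsg.charDegree χ → ψ ∈ T := by
      intro ψ hψ hlt
      by_contra hψT
      have := hχmin ψ (Finset.mem_sdiff.mpr ⟨(Set.Finite.mem_toFinset hS₁fin).mpr hψ, hψT⟩)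
      exact absurd this (not_le.mpr hlt)
    have hlt : Cfsg.charDegree φmin < Cfsg.charDegree χ := by
      refine lt_of_le_of_ne (hmin χ hχS₁f) ?_
      intro h
      exact hχT (hT₀T ((hmemT₀ χ).mpr ⟨hχS₁, h.symm⟩))
    have hcoh' := step65 K τ R S hSdef hS Z hZK hZc hirr p m hp hp3 hcard hcop n hd hn T
      (fun φ hφ => hS₁def ▸ hTS₁ φ hφ) hTc hTcoh φmin (hT₀T hφminT₀) χ (hS₁def ▸ hχS₁) hχT hlt
      (fun ψ hψ h => hdown ψ (hS₁def ▸ hψ) h)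
    have hcT : Cfsg.conjFun χ ∉ T := by
      intro h
      have := hTc _ h
      rw [Helper82.conjFun_conjFun] at this
      exact hχT this
    obtain ⟨T', hT'⟩ : ∃ T' : Finset (L → ℂ), T' = insert χ (insert (Cfsg.conjFun χ) T) := ⟨_, rfl⟩
    have hcoe : (↑T' : Set (L → ℂ)) = ↑T ∪ {χ, Cfsg.conjFun χ} := by
      rw [hT', Finset.coe_insert, Finset.coe_insert]
      ext φ
      simp only [Set.mem_insert_iff, Set.mem_union, Finset.mem_coe, Set.mem_singleton_iff]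
      tauto
    have hmemT' : ∀ φ, φ ∈ T' ↔ (φ = χ ∨ φ = Cfsg.conjFun χ ∨ φ ∈ T) := by
      intro φ
      rw [hT', Finset.mem_insert, Finset.mem_insert]
    have hT'F : T' ∈ F := by
      rw [hmemF]
      refine ⟨?_, ?_, ?_, ?_, ?_⟩
      · intro φ hφ
        rcases (hmemT' φ).mp hφ with h | h | h
        · rw [h]; exact hχS₁
        · rw [h]; exact hconj χ hχS₁
        · exact hTS₁ φ h
      · exact fun φ hφ => (hmemT' φ).mpr (Or.inr (Or.inr (hT₀T hφ)))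
      · intro φ hφ
        rw [hmemT'] at hφ ⊢
        rcases hφ with h | h | h
        · rw [h]; exact Or.inr (Or.inl rfl)
        · rw [h, Helper82.conjFun_conjFun]; exact Or.inl rfl
        · exact Or.inr (Or.inr (hTc φ h))
      · intro φ hφ ψ hψ hlt'
        rw [hmemT'] at hφ ⊢
        right; right
        rcases hφ with h | h | h
        · rw [h] at hlt'; exact hdown ψ hψ hlt'
        · rw [h, charDegree_conjFun] at hlt'; exact hdown ψ hψ hlt'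
        · exact hTdown φ h ψ hψ hlt'
      · rw [hcoe]; exact hcoh'
    have hcard' : T.card < T'.card := by
      rw [hT', Finset.card_insert_of_notMem, Finset.card_insert_of_notMem hcT]
      · omega
      · rw [Finset.mem_insert]
        rintro (h | h)
        · exact hS.conj_ne χ (hS₁S hχS₁) h.symm
        · exact hχT h
    exact absurd (hTmax T' hT'F) (not_le.mpr hcard')
  have hTeq : (↑T : Set (L → ℂ)) = S₁ := by
    ext φ
    exact ⟨fun h => hTS₁ φ h, fun h => hall φ h⟩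
  rw [← hTeq]
  exact hTcoh


/-- Let K be a nilpotent normal subgroup of the finite group L of odd order with [K,K] < K < L and L/[K,K] a Frobenius group with kernel K/[K,K] (elements of K outside [K,K] are centralised modulo [K,K] only from inside K); let (S, τ, R) be a coherence system from L to G with S the functions induced from non-principal irreducible characters of K. Let Z be a nontrivial normal subgroup of L contained in the centre of K, and suppose every member of S outside S(Z) is an irreducible character of L. Then S minus S(Z) is the set of irreducible characters χ of L with χ z ≠ χ 1 for some z ∈ Z, and it is coherent. -/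
theorem result {L : Type*} [Group L] [Fintype L] {G : Type*} [Group G] [Fintype G] (K : Subgroup L) [hK : K.Normal] (hsolv : Group.IsSolvable K) (τ : (L → ℂ) → (G → ℂ)) (R : (L → ℂ) → Finset (G → ℂ)) (hS : Cfsg.IsCoherenceSystem (Cfsg.inducedIrrAbove K ⊥) τ R) (hodd : Odd (Nat.card L)) (hnil : Group.IsNilpotent K) (hH₁K : ⁅K, K⁆ < K) (hKL : K < ⊤) (hfrob : ∀ k ∈ K, k ∉ ⁅K, K⁆ → ∀ x : L, x * k * x⁻¹ * k⁻¹ ∈ ⁅K, K⁆ → x ∈ K) (Z : Subgroup L) [Z.Normal] (hZ1 : Z ≠ ⊥) (hZK : Z ≤ K) (hZc : ∀ z ∈ Z, ∀ k ∈ K, z * k = k * z) (hirr : ∀ χ ∈ Cfsg.inducedIrrAbove K ⊥ \ Cfsg.inducedIrrAbove K Z, Cfsg.IsIrrCharacter L χ) : Cfsg.inducedIrrAbove K ⊥ \ Cfsg.inducedIrrAbove K Z = {χ | Cfsg.IsIrrCharacter L χ ∧ ∃ z ∈ Z, χ z ≠ χ 1} ∧ Cfsg.IsCoherent (Cfsg.inducedIrrAbove K ⊥ \ Cfsg.inducedIrrAbove K Z) {1}ᶜ τ := by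
  classical
  have hZc' : Z.subgroupOf K ≤ Subgroup.center K := by
    intro z hz
    rw [Subgroup.mem_center_iff]
    intro g
    apply Subtype.ext
    have := hZc (z : L) (Subgroup.mem_subgroupOf.mp hz) (g : L) g.2
    show (g : L) * (z : L) = (z : L) * (g : L)
    exact this.symm
  have hirr' : ∀ ζ ∈ NZ K Z, Cfsg.IsIrrCharacter L (Cfsg.indFun K (ζ : K → ℂ)) :=
    fun ζ hζ => hirr _ (ind_mem_diff K Z hZK ζ hζ)
  constructor
  · -- the set equality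
    ext χ
    constructor
    · intro hχ
      refine ⟨hirr χ hχ, ?_⟩
      obtain ⟨ζ, hζ, rfl⟩ := exists_NZ_of_mem_diff K Z hχ
      by_contra hno
      have h1 : ∀ a : L, a ∈ Z → Cfsg.indFun K (ζ : K → ℂ) a = Cfsg.indFun K (ζ : K → ℂ) 1 := by
        intro a ha
        by_contra h
        exact hno ⟨a, ha, h⟩
      have h2 := (Cfsg.Agent.S1487.result Z K hZK (ζ : K → ℂ) ζ.2).mpr h1
      rw [mem_NZ] at hζ
      exact hζ (le_irrKer_of_triv K Z ζ h2)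
    · rintro ⟨hχ, z, hz, hne⟩
      obtain ⟨ζ, hζ, rfl⟩ := irr_eq_ind K Z hZK hirr' hχ z hz hne
      exact ind_mem_diff K Z hZK ζ hζ
  · -- coherence
    by_cases hpp : ∃ p m : ℕ, p.Prime ∧ (⊥ : Subgroup L).relIndex K = p ^ m
    · obtain ⟨p, m, hp, hpm⟩ := hpp
      rw [Subgroup.relIndex_bot_left] at hpm
      have hKbot : K ≠ ⊥ := by
        intro h
        rw [h] at hH₁K
        exact absurd hH₁K not_lt_bot
      have hm0 : m ≠ 0 := by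
        rintro rfl
        rw [pow_zero] at hpm
        exact hKbot ((Subgroup.card_le_one_iff_eq_bot K).mp hpm.le)
      have hpK : p ∣ Nat.card K := by
        rw [hpm]
        exact dvd_pow_self p hm0
      have hpodd : Odd p := Odd.of_dvd_nat hodd (hpK.trans (Subgroup.card_subgroup_dvd_card K))
      have hp3 : 3 ≤ p := by
        have h2 := hp.two_le
        rcases hpodd with ⟨t, ht⟩
        omega
      have hcop : Nat.Coprime K.index p := by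
        refine Nat.Coprime.symm ((Nat.Prime.coprime_iff_not_dvd hp).mpr ?_)
        intro hpe
        have d1 := Helper55.CohGroup.frob_index_dvd K ⁅K, K⁆ K hH₁K.le le_rfl le_rfl hfrob
        have hr : (⁅K, K⁆ : Subgroup L).relIndex K ∣ p ^ m := by
          rw [← hpm]
          exact Subgroup.relIndex_dvd_card _ K
        obtain ⟨j, -, hj⟩ := (Nat.dvd_prime_pow hp).mp hr
        have hj0 : j ≠ 0 := by
          rintro rfl
          rw [pow_zero] at hj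
          exact (not_le_of_gt hH₁K) (Subgroup.relIndex_eq_one.mp hj)
        rw [hj] at d1
        have h1 : p ∣ p ^ j - 1 := hpe.trans d1
        have h2 : p ∣ p ^ j := dvd_pow_self p hj0
        have h3 : 1 ≤ p ^ j := Nat.one_le_pow _ _ hp.pos
        have h4 : p ∣ p ^ j - (p ^ j - 1) := Nat.dvd_sub h2 h1
        have h5 : p ^ j - (p ^ j - 1) = 1 := by omega
        rw [h5] at h4
        exact hp.one_lt.ne' (Nat.dvd_one.mp h4)
      exact caseII K τ R hS Z hZ1 hZK hZc' hirr' p m hp hp3 hpm hcop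
    · have _iBot : ((⊥ : Subgroup L).subgroupOf K).Normal :=
        Subgroup.Normal.subgroupOf inferInstance K
      have _iNil : Group.IsNilpotent K := hnil
      have hnil' : Group.IsNilpotent (↥K ⧸ (⊥ : Subgroup L).subgroupOf K) := inferInstance
      have hcohS := Cfsg.Agent.S1521.result K hsolv τ R hS hodd ⊥ bot_le hnil' ⁅K, K⁆
        (sup_bot_eq _).symm hH₁K hKL hfrob (Or.inr (Or.inr (Or.inl hpp)))
      refine isCoherent_mono hcohS Set.sdiff_subset ?_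
      obtain ⟨ζ₀, hζ₀⟩ := NZ_nonempty K Z hZK hZ1
      have hmem := ind_mem_diff K Z hZK ζ₀ hζ₀
      have hcmem : Cfsg.conjFun (Cfsg.indFun K (ζ₀ : K → ℂ))
          ∈ Cfsg.inducedIrrAbove K ⊥ \ Cfsg.inducedIrrAbove K Z := by
        refine ⟨conj_mem_inducedIrrAbove K ⊥ hmem.1, fun h => hmem.2 ?_⟩
        have := conj_mem_inducedIrrAbove K Z h
        rw [Helper82.conjFun_conjFun] at this
        exact this
      refine exists_ne_zero_of_mem hmem hcmem (hS.conj_ne _ hmem.1) ?_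
      rw [ind_one, Complex.conj_natCast]

end Cfsg.Agent.S1522
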