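import Cfsg.Statements.S1524
import Mathlib
import Cfsg.Agent.Lib.Helper82.SibFrob
import Cfsg.Agent.Lib.Helper82.TIFrobNorm
import Cfsg.Agent.Lib.Helper25.TIHall
import Cfsg.Agent.Lib.Helper83.SibleyAuxA

set_option autoImplicit false
set_option linter.style.haveILetI false
open Cfsg

namespace Cfsg.Agent.S1524

/-- Let G be a finite group and H ≤ L subgroups with L of odd order, H ≠ ⊥ nilpotent and normal in L with a nontrivial complement W₁ in L (H ⊓ W₁ = ⊥, H ⊔ W₁ = L) acting on H without non-identity fixed points (L is a Frobenius group with kernel H), and suppose the underlying set of H is a TI-subset of G whose normaliser is L. Let S be the set of functions on L induced from the non-principal irreducible characters of H. Then (S, L minus 1, induction to G) is coherent. -/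
theorem result {G : Type*} [Group G] [Fintype G] (H L W₁ : Subgroup G) [Fintype L] (hodd : Odd (Nat.card L)) (hHL : H ≤ L) (hW₁L : W₁ ≤ L) (hH1 : H ≠ ⊥) (hW1 : W₁ ≠ ⊥) (hnil : Group.IsNilpotent H) (hHn : ∀ x ∈ L, ∀ h ∈ H, x * h * x⁻¹ ∈ H) (hinf : H ⊓ W₁ = ⊥) (hsup : H ⊔ W₁ = L) (hfpf : ∀ w ∈ W₁, w ≠ 1 → ∀ h ∈ H, w * h = h * w → h = 1) (hTI : Cfsg.IsTISubset (H : Set G)) (hN : Subgroup.normalizer (H : Set G) = L) : Cfsg.IsCoherent (Cfsg.inducedIrrAbove (H.subgroupOf L) ⊥) {1}ᶜ (fun α : L → ℂ => Cfsg.indFun L α) := by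
  classical
  subst hN
  have hKn : (H.subgroupOf (Subgroup.normalizer (H : Set G))).Normal := ⟨fun n hn g => by
    rw [Subgroup.mem_subgroupOf] at hn ⊢
    have := hHn g g.2 n hn
    simpa using this⟩
  haveI : Fintype (H.subgroupOf (Subgroup.normalizer (H : Set G))) := Fintype.ofFinite _
  have hsup' : H.subgroupOf (Subgroup.normalizer (H : Set G)) ⊔
      W₁.subgroupOf (Subgroup.normalizer (H : Set G)) = ⊤ := by
    rw [← Subgroup.subgroupOf_sup hHL hW₁L, hsup, Subgroup.subgroupOf_self]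
  have hinf' : H.subgroupOf (Subgroup.normalizer (H : Set G)) ⊓
      W₁.subgroupOf (Subgroup.normalizer (H : Set G)) = ⊥ := by
    ext x
    rw [Subgroup.mem_inf, Subgroup.mem_subgroupOf, Subgroup.mem_subgroupOf, Subgroup.mem_bot]
    constructor
    · rintro ⟨h1, h2⟩
      have h3 : (x : G) ∈ H ⊓ W₁ := ⟨h1, h2⟩
      rw [hinf, Subgroup.mem_bot] at h3
      exact Subtype.ext h3
    · rintro rfl
      exact ⟨H.one_mem, W₁.one_mem⟩
  have hfpf' : ∀ w ∈ W₁.subgroupOf (Subgroup.normalizer (H : Set G)), w ≠ 1 →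
      ∀ k ∈ H.subgroupOf (Subgroup.normalizer (H : Set G)), w * k = k * w → k = 1 := by
    intro w hw hw1 k hk hwk
    have h1 := hfpf (w : G) hw (fun h => hw1 (Subtype.ext h)) (k : G) hk
      (by exact_mod_cast congrArg Subtype.val hwk)
    exact Subtype.ext h1
  have hE : W₁.subgroupOf (Subgroup.normalizer (H : Set G)) ≠ ⊥ := by
    intro h
    apply hW1
    rw [eq_bot_iff]
    intro w hw
    have h1 : (⟨w, hW₁L hw⟩ : Subgroup.normalizer (H : Set G)) ∈
        W₁.subgroupOf (Subgroup.normalizer (H : Set G)) := hw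
    rw [h, Subgroup.mem_bot] at h1
    exact congrArg Subtype.val h1
  have hK : H.subgroupOf (Subgroup.normalizer (H : Set G)) ≠ ⊥ := by
    intro h
    apply hH1
    rw [eq_bot_iff]
    intro w hw
    have h1 : (⟨w, hHL hw⟩ : Subgroup.normalizer (H : Set G)) ∈
        H.subgroupOf (Subgroup.normalizer (H : Set G)) := hw
    rw [h, Subgroup.mem_bot] at h1
    exact congrArg Subtype.val h1
  have hnil' : Group.IsNilpotent (H.subgroupOf (Subgroup.normalizer (H : Set G))) :=
    (Group.isNilpotent_congr (Subgroup.subgroupOfEquivOfLe hHL)).mpr hnil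
  have hC := Cfsg.Agent.Helper83.FrobAbs.frob_centralizer_le
    (H.subgroupOf (Subgroup.normalizer (H : Set G)))
    (W₁.subgroupOf (Subgroup.normalizer (H : Set G))) hsup' hfpf'
  have hCG : ∀ h ∈ H, h ≠ 1 → Subgroup.centralizer ({h} : Set G) ≤ H := by
    intro h hh hh1 c hc
    have hcomm : h * c = c * h := Subgroup.mem_centralizer_iff.mp hc h rfl
    have hch : c * h * c⁻¹ = h := by rw [← hcomm]; group
    have hcN : c ∈ Subgroup.normalizer (H : Set G) := by
      by_contra hcn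
      exact hh1 (hTI c hcn h hh (by rw [hch]; exact hh))
    have h1 := hC ⟨h, hHL hh⟩ hh (fun e => hh1 (congrArg Subtype.val e))
      (x := ⟨c, hcN⟩) (by
        rw [Subgroup.mem_centralizer_iff]
        intro y hy
        rw [Set.mem_singleton_iff] at hy
        rw [hy]
        exact Subtype.ext hcomm)
    exact h1
  have hlt : H < Subgroup.normalizer (H : Set G) := by
    refine lt_of_le_of_ne hHL (fun h => hW1 ?_)
    rw [eq_bot_iff, ← hinf]
    intro w hw
    exact ⟨by rw [h]; exact hW₁L hw, hw⟩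
  have hind := Cfsg.Agent.Helper82.tifn_hind H hTI hlt hCG
  have hcardK : Nat.card (H.subgroupOf (Subgroup.normalizer (H : Set G))) = Nat.card H :=
    Nat.card_congr (Subgroup.subgroupOfEquivOfLe hHL).toEquiv
  have hcop : Nat.Coprime (Nat.card H) (H.relIndex (Subgroup.normalizer (H : Set G))) := by
    have h1 := Cfsg.Agent.Helper83.FrobAbs.frob_coprime
      (H.subgroupOf (Subgroup.normalizer (H : Set G)))
      (W₁.subgroupOf (Subgroup.normalizer (H : Set G))) hinf' hsup' hfpf' hE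
    rwa [hcardK] at h1
  refine Cfsg.Agent.Helper82.sib_frobenius (Subgroup.normalizer (H : Set G))
    (H.subgroupOf (Subgroup.normalizer (H : Set G))) hind hodd
    (W₁.subgroupOf (Subgroup.normalizer (H : Set G))) hinf' hsup' hfpf' hE hK hnil' ?_
  intro χ hχ z hzK hzc hz1 hreal
  have hzH : (z : G) ∈ H := hzK
  have hz1' : (z : G) ≠ 1 := fun e => hz1 (Subtype.ext e)
  have hzcG : ∀ h ∈ H, (z : G) * h = h * (z : G) := fun h hh => by
    have h1 := congrArg Subtype.val (hzc ⟨h, hHL hh⟩ hh)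
    rw [Subgroup.coe_mul, Subgroup.coe_mul] at h1
    exact h1
  obtain ⟨α, hα, hsum⟩ := Cfsg.Agent.Helper25.TIHall.ti_hall_congruence H
    (Subgroup.normalizer (H : Set G)) hHL hTI rfl hcop χ hχ (z : G) hzH hzcG hz1' hreal
  have hB3a : ∑ x : Subgroup.normalizer (H : Set G),
      χ ((z : G) * ((x : G) * (z : G) * (x : G)⁻¹)) =
      (Nat.card ↥(Subgroup.normalizer (H : Set G) ⊓ Subgroup.centralizer ({(z : G)} : Set G)) : ℂ)
        * ∑ y : G, if (∃ x ∈ Subgroup.normalizer (H : Set G), x * (z : G) * x⁻¹ = y) then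
          χ ((z : G) * y) else 0 :=
    Cfsg.Agent.Helper83.SibleyAux.sum_conj_eq_card_mul (Subgroup.normalizer (H : Set G)) (z : G)
      (fun y => χ ((z : G) * y))
  have hB3b : ∑ x : Subgroup.normalizer (H : Set G),
      χ ((z : G) * ((x : G) * (z : G)⁻¹ * (x : G)⁻¹)) =
      (Nat.card ↥(Subgroup.normalizer (H : Set G) ⊓
        Subgroup.centralizer ({(z : G)⁻¹} : Set G)) : ℂ)
        * ∑ y : G, if (∃ x ∈ Subgroup.normalizer (H : Set G), x * (z : G)⁻¹ * x⁻¹ = y) then
          χ ((z : G) * y) else 0 :=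
    Cfsg.Agent.Helper83.SibleyAux.sum_conj_eq_card_mul (Subgroup.normalizer (H : Set G)) (z : G)⁻¹
      (fun y => χ ((z : G) * y))
  have hcz : Subgroup.normalizer (H : Set G) ⊓ Subgroup.centralizer ({(z : G)} : Set G) = H := by
    refine le_antisymm (fun x hx => hCG _ hzH hz1' hx.2)
      (fun h hh => Subgroup.mem_inf.mpr ⟨hHL hh, ?_⟩)
    rw [Subgroup.mem_centralizer_iff]
    intro y hy
    rw [Set.mem_singleton_iff] at hy
    rw [hy]
    exact hzcG h hh
  have hczi : Subgroup.normalizer (H : Set G) ⊓ Subgroup.centralizer ({(z : G)⁻¹} : Set G) = H := by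
    refine le_antisymm (fun x hx => hCG _ (H.inv_mem hzH) (by simpa using hz1') hx.2)
      (fun h hh => Subgroup.mem_inf.mpr ⟨hHL hh, ?_⟩)
    rw [Subgroup.mem_centralizer_iff]
    intro y hy
    rw [Set.mem_singleton_iff] at hy
    rw [hy]
    have := hzcG h hh
    calc (z : G)⁻¹ * h = (z : G)⁻¹ * (h * (z : G)) * (z : G)⁻¹ := by group
      _ = (z : G)⁻¹ * ((z : G) * h) * (z : G)⁻¹ := by rw [this]
      _ = h * (z : G)⁻¹ := by group
  refine ⟨α, hα, ?_⟩
  have h1 : ∀ x : Subgroup.normalizer (H : Set G), χ ((x * z * x⁻¹ * z : Subgroup.normalizer (H : Set G)) : G) =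
      χ ((z : G) * ((x : G) * (z : G) * (x : G)⁻¹)) := by
    intro x
    push_cast
    exact Cfsg.Agent.Helper79.irr_mul_comm ⟨χ, hχ⟩ _ _
  have h2 : ∀ x : Subgroup.normalizer (H : Set G), χ ((x * z⁻¹ * x⁻¹ * z : Subgroup.normalizer (H : Set G)) : G) =
      χ ((z : G) * ((x : G) * (z : G)⁻¹ * (x : G)⁻¹)) := by
    intro x
    push_cast
    exact Cfsg.Agent.Helper79.irr_mul_comm ⟨χ, hχ⟩ _ _
  rw [Finset.sum_sub_distrib, Finset.sum_congr rfl (fun x _ => h1 x),
    Finset.sum_congr rfl (fun x _ => h2 x), hB3a, hB3b, hcz, hczi, hcardK, ← mul_sub, hsum]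
  ring

end Cfsg.Agent.S1524
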