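import Cfsg.Statements.S1525
import Mathlib
import Cfsg.Agent.Lib.Helper25.Dade

set_option autoImplicit false
open Cfsg

namespace Cfsg.Agent.S1525

theorem avg_sq_le {ι : Type*} (S : Finset ι) (z : ι → ℂ) (n : ℕ) (hn : S.card = n) (hpos : 0 < n) :
    ‖(n : ℂ)⁻¹ * ∑ u ∈ S, z u‖ ^ 2 ≤ (n : ℝ)⁻¹ * ∑ u ∈ S, ‖z u‖ ^ 2 := by
  have hnR : (0 : ℝ) < n := by exact_mod_cast hpos
  rw [norm_mul, norm_inv, Complex.norm_natCast, mul_pow]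
  have h1 : ‖∑ u ∈ S, z u‖ ≤ ∑ u ∈ S, ‖z u‖ := norm_sum_le _ _
  have h2 : (∑ u ∈ S, ‖z u‖) ^ 2 ≤ (S.card : ℝ) * ∑ u ∈ S, ‖z u‖ ^ 2 :=
    sq_sum_le_card_mul_sum_sq
  rw [hn] at h2
  have h3 : ‖∑ u ∈ S, z u‖ ^ 2 ≤ (n : ℝ) * ∑ u ∈ S, ‖z u‖ ^ 2 :=
    le_trans (pow_le_pow_left₀ (norm_nonneg _) h1 2) h2
  have h4 : ((n : ℝ)⁻¹) ^ 2 * ‖∑ u ∈ S, z u‖ ^ 2 ≤ ((n : ℝ)⁻¹) ^ 2 * ((n : ℝ) * ∑ u ∈ S, ‖z u‖ ^ 2) :=
    mul_le_mul_of_nonneg_left h3 (by positivity)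
  have h5 : ((n : ℝ)⁻¹) ^ 2 * ((n : ℝ) * ∑ u ∈ S, ‖z u‖ ^ 2) = (n : ℝ)⁻¹ * ∑ u ∈ S, ‖z u‖ ^ 2 := by
    field_simp
  rw [h5] at h4
  exact h4

/-- Under the Dade hypothesis for (A, L, H), let χ be a class function of G and let ψ be a function on L whose value at each a ∈ A is the average of χ over the coset a·H(a). Then (1/|G|) Σ |χ g|² over the elements g of G conjugate into some coset a·H(a) with a ∈ A is at least (1/|L|) Σ_{a ∈ A ∩ L} |ψ a|². -/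
theorem result {G : Type*} [Group G] [Fintype G] (A : Set G) (L : Subgroup G) [Fintype L] (H : G → Subgroup G) (hD : Cfsg.DadeHypothesis A L H) (χ : G → ℂ) (hχ : Cfsg.IsClassFunction G χ) (ψ : L → ℂ) (hψ : ∀ a : L, (a : G) ∈ A → ψ a = (Nat.card (H a) : ℂ)⁻¹ * ∑ᶠ u ∈ (H a : Set G), χ (a * u)) : (Nat.card L : ℝ)⁻¹ * ∑ᶠ a ∈ {a : L | (a : G) ∈ A}, ‖ψ a‖ ^ 2 ≤ (Nat.card G : ℝ)⁻¹ * ∑ᶠ g ∈ {g : G | ∃ a ∈ A, ∃ u ∈ H a, ∃ x : G, x * g * x⁻¹ = a * u}, ‖χ g‖ ^ 2 := by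
  classical
  obtain ⟨F, hFdef⟩ : ∃ F : G → ℝ, F = fun g => ‖χ g‖ ^ 2 := ⟨_, rfl⟩
  have hF : ∀ g x : G, F (x * g * x⁻¹) = F g := by
    intro g x
    rw [hFdef]
    show ‖χ (x * g * x⁻¹)‖ ^ 2 = ‖χ g‖ ^ 2
    rw [hχ g x]
  have hsum := Helper25.dade_sum (K := ℝ) hD F hF
  have hL : (0 : ℝ) < (Nat.card L : ℝ) := by exact_mod_cast (Nat.card_pos (α := L))
  have hG : (0 : ℝ) < (Nat.card G : ℝ) := by exact_mod_cast (Nat.card_pos (α := G))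
  have hR : (Nat.card G : ℝ)⁻¹ * ∑ᶠ g ∈ {g : G | ∃ a ∈ A, ∃ u ∈ H a, ∃ x : G, x * g * x⁻¹ = a * u},
      ‖χ g‖ ^ 2 = (Nat.card L : ℝ)⁻¹ * ∑ a : L, (if (a : G) ∈ A then
          ((Nat.card (H a) : ℝ))⁻¹ * ∑ u : G, (if u ∈ H a then F ((a : G) * u) else 0) else 0) := by
    have e : ∑ᶠ g ∈ {g : G | ∃ a ∈ A, ∃ u ∈ H a, ∃ x : G, x * g * x⁻¹ = a * u}, ‖χ g‖ ^ 2
        = ∑ g : G, (if Helper25.InD A H g then F g else 0) := by
      rw [Helper25.finsum_mem_eq_sum_ite]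
      apply Finset.sum_congr rfl
      intro g _
      by_cases h : Helper25.InD A H g
      · rw [if_pos h, if_pos (show g ∈ {g : G | ∃ a ∈ A, ∃ u ∈ H a, ∃ x : G, x * g * x⁻¹ = a * u}
          from h), hFdef]
      · rw [if_neg h, if_neg (show ¬ g ∈ {g : G | ∃ a ∈ A, ∃ u ∈ H a, ∃ x : G, x * g * x⁻¹ = a * u}
          from h)]
    rw [e]
    generalize (∑ g : G, (if Helper25.InD A H g then F g else 0)) = X at hsum ⊢
    generalize (∑ a : L, (if (a : G) ∈ A then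
          ((Nat.card (H a) : ℝ))⁻¹ * ∑ u : G, (if u ∈ H a then F ((a : G) * u) else 0) else 0)) = Y
      at hsum ⊢
    field_simp
    linear_combination hsum
  rw [hR, Helper25.finsum_mem_eq_sum_ite]
  apply mul_le_mul_of_nonneg_left _ (le_of_lt (inv_pos.mpr hL))
  apply Finset.sum_le_sum
  intro a _
  by_cases ha : (a : G) ∈ A
  · rw [if_pos (show a ∈ {a : L | (a : G) ∈ A} from ha), if_pos ha, hψ a ha,
      Helper25.finsum_mem_eq_sum_ite]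
    have hcard : (Finset.univ.filter (fun u : G => u ∈ (H a : Set G))).card = Nat.card (H a) := by
      rw [Nat.card_eq_fintype_card]
      exact (Fintype.card_of_subtype _ (by simp)).symm
    have hpos : 0 < Nat.card (H a) := Nat.card_pos
    have := avg_sq_le (Finset.univ.filter (fun u : G => u ∈ (H a : Set G)))
      (fun u => χ ((a : G) * u)) (Nat.card (H a)) hcard hpos
    rw [Finset.sum_filter, Finset.sum_filter] at this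
    rw [hFdef]
    exact this
  · rw [if_neg (show ¬ a ∈ {a : L | (a : G) ∈ A} from ha), if_neg ha]

end Cfsg.Agent.S1525
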