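import Cfsg.Statements.S1528
import Cfsg.Agent.Lib.Helper81.CharFrob

set_option autoImplicit false
open Cfsg

namespace Cfsg.Agent.S1528

open Cfsg.Agent.Helper81

/-- Let N be a normal subgroup of the finite group G such that every element of G commuting with a non-identity element of N lies in N. If χ is an irreducible character of G with χ n ≠ χ 1 for some n ∈ N, then χ is the function induced from some irreducible character of N. -/
theorem result {G : Type*} [Group G] [Fintype G] (N : Subgroup G) [N.Normal] (hC : ∀ n ∈ N, n ≠ 1 → Subgroup.centralizer ({n} : Set G) ≤ N) (χ : G → ℂ) (hχ : Cfsg.IsIrrCharacter G χ) (hker : ∃ n ∈ N, χ n ≠ χ 1) : ∃ φ : N → ℂ, Cfsg.IsIrrCharacter N φ ∧ χ = Cfsg.indFun N φ := by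
  classical
  have hN : N.Normal := inferInstance
  haveI : Fintype N := Fintype.ofFinite N
  haveI : Fintype (IrrCharacter N) := @Fintype.ofFinite _ irr_finite
  have hχc := isClassFunction_of_isCharacter (IsIrrCharacter.isCharacter hχ)
  -- a nonprincipal constituent of the restriction
  obtain ⟨m, hm⟩ := exists_nat_decomp (isCharacter_restrict N (IsIrrCharacter.isCharacter hχ))
  have hex : ∃ φ : IrrCharacter N, m φ ≠ 0 ∧ (φ : N → ℂ) ≠ fun _ => 1 := by
    by_contra hcon
    push Not at hcon
    obtain ⟨n, hn, hne⟩ := hker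
    apply hne
    have h1 : ∀ x : N, χ x = (m ⟨fun _ => 1, isIrrCharacter_one⟩ : ℂ) := by
      intro x
      have := congrFun hm x
      simp only [Finset.sum_apply, Pi.smul_apply, smul_eq_mul] at this
      rw [this, Finset.sum_eq_single ⟨fun _ => 1, isIrrCharacter_one⟩]
      · simp
      · intro b _ hb
        by_cases hmb : m b = 0
        · rw [hmb]; simp
        · exfalso
          apply hb
          exact Subtype.ext (hcon b hmb)
      · intro h; exact absurd (Finset.mem_univ _) h
    have h2 := h1 ⟨n, hn⟩
    have h3 := h1 1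
    simp only at h2
    rw [h2]
    have : χ ((1 : N) : G) = χ 1 := rfl
    rw [← this, h3]
  obtain ⟨φ, hmφ, hφ1⟩ := hex
  refine ⟨φ, φ.2, ?_⟩
  have hT : ∀ g : G, g ∈ N ↔ Helper81.conjFun N hN (φ : N → ℂ) g = (φ : N → ℂ) := by
    intro g
    constructor
    · intro hg
      ext n
      rw [Helper81.conjFun_apply]
      have hφc := isClassFunction_of_isCharacter (IsIrrCharacter.isCharacter φ.2)
      have := hφc n ⟨g, hg⟩
      convert this using 2
      apply Subtype.ext
      simp
    · intro hfix
      by_contra hg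
      exact conjFun_ne_of_centralizer N hN hC hg φ.2 hφ1 hfix
  have hself : classInner (resTo (le_refl N) (φ : N → ℂ)) (φ : N → ℂ) ≠ 0 := by
    have : resTo (le_refl N) (φ : N → ℂ) = (φ : N → ℂ) := rfl
    rw [this, irr_orthonormal φ.2 φ.2, if_pos rfl]
    exact one_ne_zero
  obtain ⟨hirr, -⟩ := clifford_corr_irr N N hN (le_refl N) φ.2 hT φ.2 hself
  have h3 : classInner (fun n : N => χ n) (φ : N → ℂ) = (m φ : ℂ) := by
    conv_lhs => rw [hm]
    exact classInner_nat_decomp (fun χ' => (m χ' : ℂ)) φ
  have h4 : classInner (indFun N (φ : N → ℂ)) χ ≠ 0 := by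
    rw [frobenius_reciprocity N _ hχc, classInner_conj_symm, h3]
    simpa using hmφ
  exact (eq_of_classInner_ne_zero hirr hχ h4).symm

end Cfsg.Agent.S1528
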