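import Mathlib
import Cfsg.Statements.S1530
import Cfsg.Agent.Lib.Helper82.Coherence

set_option autoImplicit false
set_option linter.style.haveILetI false
open Cfsg

namespace Cfsg.Agent.S1530

open Cfsg.Agent.Helper81 Cfsg.Agent.Helper82
open scoped ComplexConjugate

/-- Let N be a subgroup of the finite group G and S₀ a finite set of irreducible characters of N, χ an irreducible character of N not in S₀, with degrees ξ 1 = d ξ. Let τ be a linear isometry on the integer combinations of S₀ ∪ {χ} vanishing at 1, with values virtual characters of G vanishing at 1, such that (S₀, N minus 1, τ) is coherent. If some ψ ∈ S₀ has d ψ dividing d χ and 2 · d ψ · d χ < Σ_{ξ ∈ S₀} (d ξ)², then (S₀ ∪ {χ}, N minus 1, τ) is coherent. -/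
theorem result {G : Type*} [Group G] [Fintype G] (N : Subgroup G) [Fintype N] (S₀ : Finset (N → ℂ)) (χ : N → ℂ) (hirr : ∀ ξ ∈ S₀, Cfsg.IsIrrCharacter N ξ) (hχ : Cfsg.IsIrrCharacter N χ) (hχS : χ ∉ S₀) (d : (N → ℂ) → ℕ) (hd : ∀ ξ ∈ insert χ S₀, ξ 1 = (d ξ : ℂ)) (τ : (N → ℂ) → (G → ℂ)) (hτ : Cfsg.IsLinearIsometryOn (Cfsg.zspanOn (↑(insert χ S₀) : Set (N → ℂ)) {1}ᶜ) τ) (hτ1 : ∀ α ∈ Cfsg.zspanOn (↑(insert χ S₀) : Set (N → ℂ)) {1}ᶜ, τ α 1 = 0) (hcoh : Cfsg.IsCoherent (↑S₀ : Set (N → ℂ)) {1}ᶜ τ) (ψ : N → ℂ) (hψ : ψ ∈ S₀) (hdvd : d ψ ∣ d χ) (hlt : 2 * d ψ * d χ < ∑ ξ ∈ S₀, d ξ ^ 2) : Cfsg.IsCoherent (↑(insert χ S₀) : Set (N → ℂ)) {1}ᶜ τ := by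
  classical
  haveI : Fintype (IrrCharacter N) := @Fintype.ofFinite _ irr_finite
  obtain ⟨hnz, τs, hτs, hτsτ⟩ := hcoh
  have hcoe : (↑(insert χ S₀) : Set (N → ℂ)) = insert χ (↑S₀ : Set (N → ℂ)) :=
    Finset.coe_insert χ S₀
  set S : Set (N → ℂ) := (↑(insert χ S₀) : Set (N → ℂ)) with hS
  have hS₀S : (↑S₀ : Set (N → ℂ)) ⊆ S := by rw [hcoe]; exact Set.subset_insert _ _
  have hχmem : χ ∈ S := by rw [hcoe]; exact Set.mem_insert _ _
  have hτsL : ZLinOn (↑S₀ : Set (N → ℂ)) τs := zlinOn_of_isLinearIsometryOn hτs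
  obtain ⟨hτadd, hτsmul, hτiso, hτgen⟩ := hτ
  -- degrees
  have hdχ : χ 1 = (d χ : ℂ) := hd χ (Finset.mem_insert_self _ _)
  have hdS : ∀ ξ ∈ S₀, ξ 1 = (d ξ : ℂ) := fun ξ hξ => hd ξ (Finset.mem_insert_of_mem hξ)
  have hdpos : ∀ ξ ∈ S₀, 0 < d ξ := by
    intro ξ hξ
    obtain ⟨n, hn, hn1⟩ := irr_degree_pos (hirr ξ hξ)
    have : (d ξ : ℂ) = (n : ℂ) := by rw [← hdS ξ hξ, hn1]
    have : d ξ = n := by exact_mod_cast this
    omega
  have hdχpos : 0 < d χ := by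
    obtain ⟨n, hn, hn1⟩ := irr_degree_pos hχ
    have : (d χ : ℂ) = (n : ℂ) := by rw [← hdχ, hn1]
    have : d χ = n := by exact_mod_cast this
    omega
  obtain ⟨a, ha⟩ := hdvd
  have hapos : 0 < a := by
    rcases Nat.eq_zero_or_pos a with h | h
    · rw [h, mul_zero] at ha; omega
    · exact h
  -- orthonormality in N
  have horth : ∀ ξ ∈ S₀, ∀ ξ' ∈ S₀, classInner ξ ξ' = if ξ = ξ' then 1 else 0 :=
    fun ξ hξ ξ' hξ' => irr_orthonormal (hirr ξ hξ) (hirr ξ' hξ')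
  have hχξ : ∀ ξ ∈ S₀, classInner χ ξ = 0 := by
    intro ξ hξ
    rw [irr_orthonormal hχ (hirr ξ hξ), if_neg]
    rintro rfl; exact hχS hξ
  have hξχ : ∀ ξ ∈ S₀, classInner ξ χ = 0 := by
    intro ξ hξ
    rw [irr_orthonormal (hirr ξ hξ) hχ, if_neg]
    rintro rfl; exact hχS hξ
  have hχχ : classInner χ χ = 1 := by rw [irr_orthonormal hχ hχ, if_pos rfl]
  -- δ₀ = χ - a ψ
  set δ₀ : N → ℂ := χ + (-(a : ℤ)) • ψ with hδ₀
  have hδ₀mem : δ₀ ∈ Cfsg.zspanOn S {1}ᶜ := by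
    refine mem_zspanOn_compl_one.2 ⟨zspan_add_mem (subset_zspan hχmem)
      (zspan_smul_mem _ (subset_zspan (hS₀S hψ))), ?_⟩
    rw [hδ₀, Pi.add_apply, Pi.smul_apply, hdχ, hdS ψ hψ, zsmul_eq_mul, ha]
    push_cast; ring
  set Δ := τ δ₀ with hΔ
  have hΔgen : IsGeneralizedCharacter G Δ := hτgen _ hδ₀mem
  have hΔΔ : classInner Δ Δ = 1 + (a : ℂ) ^ 2 := by
    rw [hΔ, hτiso _ hδ₀mem _ hδ₀mem, hδ₀]
    simp only [classInner_add_left, classInner_add_right, classInner_zsmul_left,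
      classInner_zsmul_right, hχχ, hχξ ψ hψ, hξχ ψ hψ, horth ψ hψ ψ hψ, if_pos]
    push_cast; ring
  -- integrality of the coefficients
  have hint : ∀ ξ ∈ S₀, ∃ k : ℤ, classInner Δ (τs ξ) = (k : ℂ) := fun ξ hξ =>
    genChar_inner_int hΔgen (hτs.2.2.2 ξ (subset_zspan hξ))
  choose! x hx using hint
  have hτsorth : ∀ ξ ∈ S₀, ∀ ξ' ∈ S₀, classInner (τs ξ) (τs ξ') = if ξ = ξ' then 1 else 0 := by
    intro ξ hξ ξ' hξ'
    rw [hτs.2.2.1 _ (subset_zspan hξ) _ (subset_zspan hξ')]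
    exact horth ξ hξ ξ' hξ'
  -- β_ξ = d ξ • ψ - d ψ • ξ
  have hβmem : ∀ ξ ∈ S₀, ((d ξ : ℤ) • ψ + (-(d ψ : ℤ)) • ξ) ∈
      Cfsg.zspanOn (↑S₀ : Set (N → ℂ)) {1}ᶜ := by
    intro ξ hξ
    refine mem_zspanOn_compl_one.2 ⟨zspan_add_mem (zspan_smul_mem _ (subset_zspan hψ))
      (zspan_smul_mem _ (subset_zspan hξ)), ?_⟩
    rw [Pi.add_apply, Pi.smul_apply, Pi.smul_apply, hdS ψ hψ, hdS ξ hξ, zsmul_eq_mul,
      zsmul_eq_mul]
    push_cast; ring
  -- the key relation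
  have hstar : ∀ ξ ∈ S₀, (d ψ : ℤ) * x ξ =
      (d ξ : ℤ) * (x ψ + a) - (if ξ = ψ then (a : ℤ) * d ψ else 0) := by
    intro ξ hξ
    have h1 : classInner Δ (τs ((d ξ : ℤ) • ψ + (-(d ψ : ℤ)) • ξ)) =
        classInner δ₀ ((d ξ : ℤ) • ψ + (-(d ψ : ℤ)) • ξ) := by
      rw [hτsτ _ (hβmem ξ hξ)]
      exact hτiso _ hδ₀mem _ (zspanOn_mono hS₀S _ (hβmem ξ hξ))
    rw [hτsL.add _ (zspan_smul_mem _ (subset_zspan hψ)) _ (zspan_smul_mem _ (subset_zspan hξ)),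
      hτsL.smul _ (subset_zspan hψ), hτsL.smul _ (subset_zspan hξ), hδ₀] at h1
    simp only [classInner_add_left, classInner_add_right, classInner_zsmul_left,
      classInner_zsmul_right, hx ψ hψ, hx ξ hξ, hχξ ψ hψ, hχξ ξ hξ, horth ψ hψ ψ hψ,
      horth ψ hψ ξ hξ] at h1
    by_cases hξψ : ξ = ψ
    · subst hξψ
      simp
      ring
    · rw [if_neg hξψ]
      rw [if_neg (Ne.symm hξψ)] at h1
      have h2 : (((d ψ : ℤ) * x ξ : ℤ) : ℂ) = (((d ξ : ℤ) * (x ψ + a) - 0 : ℤ) : ℂ) := by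
        push_cast at h1 ⊢
        linear_combination -h1
      exact Int.cast_injective h2
  -- Γ : the part of Δ orthogonal to the images
  set Γ : G → ℂ := Δ - ∑ ξ ∈ S₀, (x ξ) • τs ξ with hΓ
  have hΓgen : IsGeneralizedCharacter G Γ :=
    isGeneralizedCharacter_sub hΔgen (isGeneralizedCharacter_sum _ _ (fun ξ hξ =>
      isGeneralizedCharacter_zsmul _ (hτs.2.2.2 ξ (subset_zspan hξ))))
  have hsum1 : ∀ ξ ∈ S₀, classInner (∑ ξ' ∈ S₀, (x ξ') • τs ξ') (τs ξ) = (x ξ : ℂ) := by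
    intro ξ hξ
    rw [classInner_sum_left, Finset.sum_eq_single ξ]
    · rw [classInner_zsmul_left, hτsorth ξ hξ ξ hξ, if_pos rfl, mul_one]
    · intro b hb hbξ
      rw [classInner_zsmul_left, hτsorth b hb ξ hξ, if_neg hbξ, mul_zero]
    · intro h; exact absurd hξ h
  have hΓorth : ∀ ξ ∈ S₀, classInner Γ (τs ξ) = 0 := by
    intro ξ hξ
    rw [hΓ, classInner_sub_left, hsum1 ξ hξ, hx ξ hξ, sub_self]
  have hΓΓ : classInner Γ Γ = 1 + (a : ℂ) ^ 2 - ∑ ξ ∈ S₀, ((x ξ : ℤ) : ℂ) ^ 2 := by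
    have h1 : classInner Γ Γ = classInner Γ Δ := by
      conv_lhs => rw [hΓ]
      rw [← hΓ, classInner_sub_right, classInner_sum_right]
      have : ∑ ξ ∈ S₀, classInner Γ ((x ξ) • τs ξ) = 0 := by
        apply Finset.sum_eq_zero
        intro ξ hξ
        rw [classInner_zsmul_right, hΓorth ξ hξ, mul_zero]
      rw [this, sub_zero]
    rw [h1, hΓ, classInner_sub_left, hΔΔ, classInner_sum_left]
    congr 1
    apply Finset.sum_congr rfl
    intro ξ hξ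
    rw [classInner_zsmul_left, classInner_conj_symm Δ (τs ξ), hx ξ hξ]
    simp [sq]
  obtain ⟨γ, hγ⟩ := genChar_inner_int hΓgen hΓgen
  have hγ0 : 0 ≤ γ := by
    have := classInner_self_re_nonneg Γ
    rw [hγ] at this
    simpa using this
  have hγeq : γ = 1 + (a : ℤ) ^ 2 - ∑ ξ ∈ S₀, (x ξ) ^ 2 := by
    have : ((γ : ℤ) : ℂ) = ((1 + (a : ℤ) ^ 2 - ∑ ξ ∈ S₀, (x ξ) ^ 2 : ℤ) : ℂ) := by
      rw [← hγ, hΓΓ]; push_cast; ring
    exact Int.cast_injective this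
  -- arithmetic
  set P : ℤ := (d ψ : ℤ) with hP
  set A : ℤ := (a : ℤ) with hA
  set m : ℤ := x ψ + A with hm
  set Dz : ℤ := ∑ ξ ∈ S₀, (d ξ : ℤ) ^ 2 with hDz
  have hPpos : 0 < P := by rw [hP]; exact_mod_cast hdpos ψ hψ
  have hApos : 1 ≤ A := by rw [hA]; exact_mod_cast hapos
  have hltz : 2 * P * (P * A) < Dz := by
    have : ((2 * d ψ * d χ : ℕ) : ℤ) < ((∑ ξ ∈ S₀, d ξ ^ 2 : ℕ) : ℤ) := by exact_mod_cast hlt
    rw [ha] at this
    push_cast at this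
    rw [hP, hA, hDz]
    linarith
  have hsumsq : P ^ 2 * ∑ ξ ∈ S₀, (x ξ) ^ 2 = m ^ 2 * Dz - 2 * m * A * P ^ 2 + A ^ 2 * P ^ 2 := by
    rw [Finset.mul_sum]
    have h1 : ∀ ξ ∈ S₀, P ^ 2 * (x ξ) ^ 2 = m ^ 2 * (d ξ : ℤ) ^ 2 -
        (if ξ = ψ then 2 * m * A * P ^ 2 else 0) + (if ξ = ψ then A ^ 2 * P ^ 2 else 0) := by
      intro ξ hξ
      have h2 : P ^ 2 * (x ξ) ^ 2 = (P * x ξ) ^ 2 := by ring
      rw [h2, hstar ξ hξ]
      by_cases hξψ : ξ = ψ
      · subst hξψ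
        simp only [if_pos]
        ring
      · simp only [if_neg hξψ]
        ring
    rw [Finset.sum_congr rfl h1, Finset.sum_add_distrib, Finset.sum_sub_distrib,
      Finset.sum_ite_eq' S₀ ψ, Finset.sum_ite_eq' S₀ ψ, if_pos hψ, if_pos hψ, ← Finset.mul_sum]
  have hmain : P ^ 2 * γ = P ^ 2 + 2 * m * A * P ^ 2 - m ^ 2 * Dz := by
    rw [hγeq, mul_sub, hsumsq]; ring
  -- values at 1 of the images
  have ht : ∀ ξ ∈ S₀, (d ξ : ℂ) * τs ψ 1 = (d ψ : ℂ) * τs ξ 1 := by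
    intro ξ hξ
    have h1 := hτ1 _ (zspanOn_mono hS₀S _ (hβmem ξ hξ))
    rw [← hτsτ _ (hβmem ξ hξ), hτsL.add _ (zspan_smul_mem _ (subset_zspan hψ)) _
      (zspan_smul_mem _ (subset_zspan hξ)), hτsL.smul _ (subset_zspan hψ),
      hτsL.smul _ (subset_zspan hξ), Pi.add_apply, Pi.smul_apply, Pi.smul_apply, zsmul_eq_mul,
      zsmul_eq_mul] at h1
    push_cast at h1
    linear_combination h1
  have htψ : τs ψ 1 ≠ 0 := by
    have h1 : classInner (τs ψ) (τs ψ) = 1 := by rw [hτsorth ψ hψ ψ hψ, if_pos rfl]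
    rcases genChar_norm_one (hτs.2.2.2 ψ (subset_zspan hψ)) h1 with h | h
    · obtain ⟨n, hn, hn1⟩ := irr_degree_pos h
      rw [hn1]
      exact_mod_cast hn.ne'
    · obtain ⟨n, hn, hn1⟩ := irr_degree_pos h
      rw [Pi.neg_apply] at hn1
      intro h0
      rw [h0, neg_zero] at hn1
      have : n = 0 := by exact_mod_cast hn1.symm
      omega
  have hm0 : m = 0 := by
    by_contra hmne
    have hmm : 0 ≤ m * (m - 1) := by
      rcases le_or_gt m 0 with h | h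
      · exact mul_nonneg_of_nonpos_of_nonpos h (by omega)
      · exact mul_nonneg (by omega) (by omega)
    have hm2 : 1 ≤ m ^ 2 := by
      have : 0 < m ^ 2 := by positivity
      omega
    have h5 : P ^ 2 * γ + m ^ 2 ≤ P ^ 2 * (1 - 2 * A * (m * (m - 1))) := by
      have : m ^ 2 * (2 * P * (P * A) + 1) ≤ m ^ 2 * Dz :=
        mul_le_mul_of_nonneg_left (by omega) (by positivity)
      nlinarith
    have hP2 : 0 < P ^ 2 := by positivity
    have hmm0 : m * (m - 1) = 0 := by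
      by_contra hne
      have h6 : 1 ≤ m * (m - 1) := by omega
      have h7 : P ^ 2 * (1 - 2 * A * (m * (m - 1))) ≤ P ^ 2 * (1 - 2 * 1 * 1) := by
        apply mul_le_mul_of_nonneg_left _ hP2.le
        nlinarith
      have h8 : 0 ≤ P ^ 2 * γ := mul_nonneg hP2.le hγ0
      nlinarith
    have hm1 : m = 1 := by
      rcases mul_eq_zero.1 hmm0 with h | h
      · exact absurd h hmne
      · omega
    have hγ00 : γ = 0 := by
      rw [hmm0] at h5
      by_contra hne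
      have : 1 ≤ γ := by omega
      nlinarith
    have hDz1 : Dz = P ^ 2 + 2 * A * P ^ 2 := by
      rw [hγ00, hm1] at hmain
      linarith
    -- Γ = 0
    have hΓ0 : Γ = 0 := by
      apply eq_zero_of_classInner_self
      rw [hγ, hγ00]; simp
    have hΔsum : Δ = ∑ ξ ∈ S₀, (x ξ) • τs ξ := by
      have := sub_eq_zero.1 (hΓ ▸ hΓ0)
      exact this
    have hΔ1 : Δ 1 = 0 := hτ1 _ hδ₀mem
    rw [hΔsum, Finset.sum_apply] at hΔ1
    have h9 : (P : ℂ) ^ 2 * ∑ ξ ∈ S₀, ((x ξ) • τs ξ) 1 =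
        τs ψ 1 * ((m : ℂ) * (Dz : ℂ) - (A : ℂ) * (P : ℂ) ^ 2) := by
      rw [Finset.mul_sum]
      have h10 : ∀ ξ ∈ S₀, (P : ℂ) ^ 2 * ((x ξ) • τs ξ) 1 =
          τs ψ 1 * ((m : ℂ) * ((d ξ : ℤ) : ℂ) ^ 2) -
            (if ξ = ψ then τs ψ 1 * ((A : ℂ) * (P : ℂ) ^ 2) else 0) := by
        intro ξ hξ
        rw [Pi.smul_apply, zsmul_eq_mul]
        have h11 : ((P * x ξ : ℤ) : ℂ) = (((d ξ : ℤ) * m - (if ξ = ψ then A * P else 0) : ℤ) : ℂ) := by
          rw [hstar ξ hξ]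
        have h12 := ht ξ hξ
        by_cases hξψ : ξ = ψ
        · subst hξψ
          simp only [if_pos] at h11 ⊢
          push_cast at h11
          have hPc : ((d ξ : ℕ) : ℂ) = (P : ℂ) := by rw [hP]; push_cast; rfl
          rw [hPc] at h12
          push_cast
          rw [hPc]
          linear_combination (P : ℂ) * τs ξ 1 * h11
        · simp only [if_neg hξψ] at h11 ⊢
          push_cast at h11
          have hPc : ((d ψ : ℕ) : ℂ) = (P : ℂ) := by rw [hP]; push_cast; rfl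
          rw [hPc] at h12
          push_cast
          linear_combination (P : ℂ) * τs ξ 1 * h11 - (m : ℂ) * (d ξ : ℂ) * h12
      rw [Finset.sum_congr rfl h10, Finset.sum_sub_distrib, Finset.sum_ite_eq' S₀ ψ, if_pos hψ,
        ← Finset.mul_sum, ← Finset.mul_sum, hDz]
      push_cast
      ring
    rw [hΔ1, mul_zero] at h9
    have h13 : (m : ℂ) * (Dz : ℂ) - (A : ℂ) * (P : ℂ) ^ 2 = 0 := by
      rcases mul_eq_zero.1 h9.symm with h | h
      · exact absurd h htψ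
      · exact h
    have h14 : m * Dz - A * P ^ 2 = 0 := by
      have : ((m * Dz - A * P ^ 2 : ℤ) : ℂ) = ((0 : ℤ) : ℂ) := by push_cast; exact h13
      exact Int.cast_injective this
    rw [hm1, hDz1] at h14
    nlinarith
  -- consequences of m = 0
  have hxψ : x ψ = -A := by omega
  have hxξ : ∀ ξ ∈ S₀, ξ ≠ ψ → x ξ = 0 := by
    intro ξ hξ hne
    have h1 := hstar ξ hξ
    rw [hm0, if_neg hne, mul_zero, sub_zero] at h1
    rcases mul_eq_zero.1 h1 with h | h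
    · omega
    · exact h
  have hγ1 : γ = 1 := by
    rw [hm0] at hmain
    have h1 : P ^ 2 * γ = P ^ 2 * 1 := by linarith
    exact mul_left_cancel₀ (pow_ne_zero 2 hPpos.ne') h1
  have hΓΓ1 : classInner Γ Γ = 1 := by rw [hγ, hγ1]; simp
  have hΓeq : Γ = Δ + A • τs ψ := by
    rw [hΓ, Finset.sum_eq_single ψ, hxψ]
    · rw [neg_smul, sub_neg_eq_add]
    · intro b hb hbne
      rw [hxξ b hb hbne, zero_smul]
    · intro h; exact absurd hψ h
  -- the extension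
  let f : IrrCharacter N → (G → ℂ) := fun ξ =>
    if (ξ : N → ℂ) ∈ S₀ then τs ξ else if (ξ : N → ℂ) = χ then Γ else 0
  have hTS₀ : ∀ y ∈ Cfsg.zspan (↑S₀ : Set (N → ℂ)), extIrr f y = τs y := by
    intro y hy
    refine (extIrr_zlinOn f _).eq_of_span hτsL (fun b hb => ?_) hy
    have hb' : b ∈ S₀ := hb
    have := extIrr_irr f ⟨b, hirr b hb'⟩
    rw [this]
    simp only [f, if_pos hb']
  have hTχ : extIrr f χ = Γ := by
    have := extIrr_irr f ⟨χ, hχ⟩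
    rw [this]
    simp only [f, if_neg hχS, if_pos]
  have hTL : ZLinOn S (extIrr f) := extIrr_zlinOn f S
  have hSmem : ∀ b ∈ S, b = χ ∨ b ∈ S₀ := by
    intro b hb
    rw [hcoe, Set.mem_insert_iff] at hb
    exact hb
  refine ⟨?_, extIrr f, ⟨hTL.add, hTL.smul, ?_, ?_⟩, ?_⟩
  · obtain ⟨α, hα, hα0⟩ := hnz
    exact ⟨α, zspanOn_mono hS₀S _ hα, hα0⟩
  · intro θ hθ θ' hθ'
    refine inner_eq_of_span hTL ?_ hθ hθ'
    intro b hb c hc
    rcases hSmem b hb with rfl | hb' <;> rcases hSmem c hc with rfl | hc'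
    · rw [hTχ, hΓΓ1, hχχ]
    · rw [hTχ, hTS₀ c (subset_zspan hc'), hΓorth c hc', hχξ c hc']
    · rw [hTχ, hTS₀ b (subset_zspan hb'), classInner_conj_symm Γ (τs b), hΓorth b hb',
        hξχ b hb', map_zero]
    · rw [hTS₀ b (subset_zspan hb'), hTS₀ c (subset_zspan hc')]
      exact hτs.2.2.1 _ (subset_zspan hb') _ (subset_zspan hc')
  · intro θ hθ
    refine hTL.induction (IsGeneralizedCharacter G) ?_ isGeneralizedCharacter_zero
      (fun _ _ => isGeneralizedCharacter_add) (fun n _ => isGeneralizedCharacter_zsmul n) hθ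
    intro b hb
    rcases hSmem b hb with rfl | hb'
    · rw [hTχ]; exact hΓgen
    · rw [hTS₀ b (subset_zspan hb')]
      exact hτs.2.2.2 _ (subset_zspan hb')
  · intro θ hθ
    obtain ⟨hθ1, hθ0⟩ := mem_zspanOn_compl_one.1 hθ
    rw [mem_zspan, hcoe, Submodule.mem_span_insert] at hθ1
    obtain ⟨n, y, hy, rfl⟩ := hθ1
    have hy' : y ∈ Cfsg.zspan (↑S₀ : Set (N → ℂ)) := hy
    have hy1 : y 1 = -((n : ℂ) * ((P : ℂ) * (A : ℂ))) := by
      rw [Pi.add_apply, Pi.smul_apply, hdχ, ha, zsmul_eq_mul] at hθ0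
      push_cast at hθ0
      have hPc : ((d ψ : ℕ) : ℂ) = (P : ℂ) := by rw [hP]; push_cast; rfl
      have hAc : ((a : ℕ) : ℂ) = (A : ℂ) := by rw [hA]; push_cast; rfl
      rw [hPc, hAc] at hθ0
      linear_combination hθ0
    have hy'mem : (y + (n * A) • ψ) ∈ Cfsg.zspanOn (↑S₀ : Set (N → ℂ)) {1}ᶜ := by
      refine mem_zspanOn_compl_one.2 ⟨zspan_add_mem hy' (zspan_smul_mem _ (subset_zspan hψ)), ?_⟩
      rw [Pi.add_apply, Pi.smul_apply, hy1, hdS ψ hψ, zsmul_eq_mul]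
      have hPc : ((d ψ : ℕ) : ℂ) = (P : ℂ) := by rw [hP]; push_cast; rfl
      rw [hPc]
      push_cast; ring
    have hθeq : n • χ + y = n • δ₀ + (y + (n * A) • ψ) := by
      rw [hδ₀]
      ext g
      simp only [Pi.add_apply, Pi.smul_apply]
      simp only [zsmul_eq_mul]
      push_cast; ring
    have hτθ : τ (n • χ + y) = n • Δ + τs (y + (n * A) • ψ) := by
      rw [hθeq, hτadd _ (zspanOn_smul_mem n hδ₀mem) _ (zspanOn_mono hS₀S _ hy'mem),
        hτsmul _ hδ₀mem, hτsτ _ hy'mem]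
    rw [hτθ, hTL.add _ (zspan_smul_mem n (subset_zspan hχmem)) _ (zspan_mono hS₀S hy'),
      hTL.smul _ (subset_zspan hχmem), hTχ, hTS₀ y hy', hΓeq,
      hτsL.add _ hy' _ (zspan_smul_mem _ (subset_zspan hψ)), hτsL.smul _ (subset_zspan hψ)]
    ext g
    simp only [Pi.add_apply, Pi.smul_apply]
    simp only [zsmul_eq_mul]
    push_cast; ring

end Cfsg.Agent.S1530
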