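import Mathlib
import Cfsg.Statements.S1531
import Cfsg.Agent.Lib.Helper82.Coherence
import Cfsg.Agent.S1529

set_option autoImplicit false
set_option linter.style.haveILetI false
open Cfsg

namespace Cfsg.Agent.S1531

open Cfsg.Agent.Helper81 Cfsg.Agent.Helper82
open scoped ComplexConjugate

/-- Let N be a subgroup of the finite group G, S a set of irreducible characters of N, and α a linear isometry on the integer combinations of S vanishing at 1 with values virtual characters of G vanishing at 1. Let X, Y ⊆ S be disjoint, each with at least two members, and σ, τ linear isometries on ℤ[X], ℤ[Y] into virtual characters agreeing with α on the members vanishing at 1. Then ⟨σ χ, τ η⟩ = 0 for χ ∈ X, η ∈ Y; and if for some χ₀ ∈ X, η₀ ∈ Y with degrees c = χ₀ 1, e = η₀ 1 one has α (c • η₀ − e • χ₀) = c • τ η₀ − e • σ χ₀, then (X ∪ Y, N minus 1, α) is coherent. -/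
theorem result {G : Type*} [Group G] [Fintype G] (N : Subgroup G) [Fintype N] (S X Y : Set (N → ℂ)) (hirr : ∀ ξ ∈ S, Cfsg.IsIrrCharacter N ξ) (hXS : X ⊆ S) (hYS : Y ⊆ S) (hXY : Disjoint X Y) (hX2 : ∃ a ∈ X, ∃ b ∈ X, a ≠ b) (hY2 : ∃ a ∈ Y, ∃ b ∈ Y, a ≠ b) (α : (N → ℂ) → (G → ℂ)) (hα : Cfsg.IsLinearIsometryOn (Cfsg.zspanOn S {1}ᶜ) α) (hα1 : ∀ θ ∈ Cfsg.zspanOn S {1}ᶜ, α θ 1 = 0) (σ τ : (N → ℂ) → (G → ℂ)) (hσ : Cfsg.IsLinearIsometryOn (Cfsg.zspan X) σ) (hσα : ∀ θ ∈ Cfsg.zspanOn X {1}ᶜ, σ θ = α θ) (hτ : Cfsg.IsLinearIsometryOn (Cfsg.zspan Y) τ) (hτα : ∀ θ ∈ Cfsg.zspanOn Y {1}ᶜ, τ θ = α θ) : (∀ χ ∈ X, ∀ η ∈ Y, Cfsg.classInner (σ χ) (τ η) = 0) ∧ ((∃ χ₀ ∈ X, ∃ η₀ ∈ Y, α (χ₀ 1 • η₀ - η₀ 1 • χ₀) = χ₀ 1 • τ η₀ - η₀ 1 • σ χ₀) → Cfsg.IsCoherent (X ∪ Y) {1}ᶜ α) := by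
  classical
  haveI : Fintype (IrrCharacter N) := @Fintype.ofFinite _ irr_finite
  have hσL : ZLinOn X σ := zlinOn_of_isLinearIsometryOn hσ
  have hτL : ZLinOn Y τ := zlinOn_of_isLinearIsometryOn hτ
  have hirrX : ∀ ξ ∈ X, IsIrrCharacter N ξ := fun ξ h => hirr ξ (hXS h)
  have hirrY : ∀ ξ ∈ Y, IsIrrCharacter N ξ := fun ξ h => hirr ξ (hYS h)
  have hXY' : ∀ a ∈ X, ∀ b ∈ Y, a ≠ b := fun a ha b hb h =>
    Set.disjoint_left.1 hXY ha (h ▸ hb)
  have horthXY : ∀ a ∈ X, ∀ b ∈ Y, classInner a b = 0 := fun a ha b hb => by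
    rw [irr_orthonormal (hirrX a ha) (hirrY b hb), if_neg (hXY' a ha b hb)]
  -- orthogonality of the spans
  have hC2 : ∀ x ∈ Cfsg.zspan X, ∀ y ∈ Cfsg.zspan Y, classInner x y = 0 := fun x hx y hy =>
    inner_eq_zero_of_span (ZLinOn.id X) (ZLinOn.id Y) horthXY hx hy
  have h0X : ∀ θ ∈ Cfsg.zspan X, θ 1 = 0 → σ θ 1 = 0 := by
    intro θ hθ h1
    have hθ' : θ ∈ Cfsg.zspanOn X {1}ᶜ := mem_zspanOn_compl_one.2 ⟨hθ, h1⟩
    rw [hσα θ hθ']
    exact hα1 θ (zspanOn_mono hXS _ hθ')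
  have h0Y : ∀ θ ∈ Cfsg.zspan Y, θ 1 = 0 → τ θ 1 = 0 := by
    intro θ hθ h1
    have hθ' : θ ∈ Cfsg.zspanOn Y {1}ᶜ := mem_zspanOn_compl_one.2 ⟨hθ, h1⟩
    rw [hτα θ hθ']
    exact hα1 θ (zspanOn_mono hYS _ hθ')
  obtain ⟨p, hp, hpirr, hpinj⟩ := Cfsg.Agent.S1529.result N X hirrX hX2 σ hσ h0X
  obtain ⟨q, hq, hqirr, hqinj⟩ := Cfsg.Agent.S1529.result N Y hirrY hY2 τ hτ h0Y
  have hpp : p * p = 1 := by rcases hp with rfl | rfl <;> norm_num
  have hqq : q * q = 1 := by rcases hq with rfl | rfl <;> norm_num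
  have hqc : conj q = q := by rcases hq with rfl | rfl <;> simp
  have hp0 : p ≠ 0 := fun h => by rw [h] at hpp; norm_num at hpp
  have hq0 : q ≠ 0 := fun h => by rw [h] at hqq; norm_num at hqq
  have key : ∀ χ₁ ∈ X, ∀ η₁ ∈ Y, p * q * classInner (σ χ₁) (τ η₁) =
      if p • σ χ₁ = q • τ η₁ then 1 else 0 := by
    intro χ₁ h₁ η₁ h₂
    rw [← irr_orthonormal (hpirr χ₁ h₁) (hqirr η₁ h₂), classInner_smul_left,
      classInner_smul_right, hqc]
    ring
  -- elements of degree zero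
  have hother : ∀ (Z : Set (N → ℂ)), (∃ a ∈ Z, ∃ b ∈ Z, a ≠ b) → ∀ z, ∃ z' ∈ Z, z' ≠ z := by
    rintro Z ⟨a, ha, b, hb, hab⟩ z
    by_cases h : a = z
    · exact ⟨b, hb, fun hb' => hab (h.trans hb'.symm)⟩
    · exact ⟨a, ha, h⟩
  have part1 : ∀ χ ∈ X, ∀ η ∈ Y, Cfsg.classInner (σ χ) (τ η) = 0 := by
    intro χ hχ η hη
    by_contra hne
    have e1 : p • σ χ = q • τ η := by
      by_contra h
      apply hne
      have := key χ hχ η hη
      rw [if_neg h] at this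
      rcases mul_eq_zero.1 this with h' | h'
      · exact absurd h' (mul_ne_zero hp0 hq0)
      · exact h'
    obtain ⟨χ', hχ', hχne⟩ := hother X hX2 χ
    obtain ⟨η', hη', hηne⟩ := hother Y hY2 η
    have e2 : p • σ χ' ≠ q • τ η := by
      intro h
      have h1 : p • σ χ' = p • σ χ := h.trans e1.symm
      have h2 : σ χ' = σ χ := by
        have := congrArg (fun f => p⁻¹ • f) h1
        simpa [smul_smul, inv_mul_cancel₀ hp0] using this
      exact hχne (hpinj χ' hχ' χ hχ h2)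
    have e3 : p • σ χ ≠ q • τ η' := by
      intro h
      have h1 : q • τ η' = q • τ η := h.symm.trans e1
      have h2 : τ η' = τ η := by
        have := congrArg (fun f => q⁻¹ • f) h1
        simpa [smul_smul, inv_mul_cancel₀ hq0] using this
      exact hηne (hqinj η' hη' η hη h2)
    have I1 : p * q * classInner (σ χ) (τ η) = 1 := by rw [key χ hχ η hη, if_pos e1]
    have I2 : classInner (σ χ) (τ η') = 0 := by
      have := key χ hχ η' hη'
      rw [if_neg e3] at this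
      rcases mul_eq_zero.1 this with h' | h'
      · exact absurd h' (mul_ne_zero hp0 hq0)
      · exact h'
    have I3 : classInner (σ χ') (τ η) = 0 := by
      have := key χ' hχ' η hη
      rw [if_neg e2] at this
      rcases mul_eq_zero.1 this with h' | h'
      · exact absurd h' (mul_ne_zero hp0 hq0)
      · exact h'
    have I4 : p * q * classInner (σ χ') (τ η') = 0 ∨ p * q * classInner (σ χ') (τ η') = 1 := by
      rw [key χ' hχ' η' hη']
      split_ifs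
      · right; rfl
      · left; rfl
    obtain ⟨nχ, hnχ, hχ1⟩ := irr_degree_pos (hirrX χ hχ)
    obtain ⟨nχ', hnχ', hχ'1⟩ := irr_degree_pos (hirrX χ' hχ')
    obtain ⟨nη, hnη, hη1⟩ := irr_degree_pos (hirrY η hη)
    obtain ⟨nη', hnη', hη'1⟩ := irr_degree_pos (hirrY η' hη')
    have ha : ((nχ' : ℤ) • χ + (-(nχ : ℤ)) • χ') ∈ Cfsg.zspanOn X {1}ᶜ := by
      refine mem_zspanOn_compl_one.2 ⟨zspan_add_mem (zspan_smul_mem _ (subset_zspan hχ))
        (zspan_smul_mem _ (subset_zspan hχ')), ?_⟩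
      rw [Pi.add_apply, Pi.smul_apply, Pi.smul_apply, hχ1, hχ'1, zsmul_eq_mul, zsmul_eq_mul]
      push_cast; ring
    have hb : ((nη' : ℤ) • η + (-(nη : ℤ)) • η') ∈ Cfsg.zspanOn Y {1}ᶜ := by
      refine mem_zspanOn_compl_one.2 ⟨zspan_add_mem (zspan_smul_mem _ (subset_zspan hη))
        (zspan_smul_mem _ (subset_zspan hη')), ?_⟩
      rw [Pi.add_apply, Pi.smul_apply, Pi.smul_apply, hη1, hη'1, zsmul_eq_mul, zsmul_eq_mul]
      push_cast; ring
    have hzero : classInner (σ ((nχ' : ℤ) • χ + (-(nχ : ℤ)) • χ'))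
        (τ ((nη' : ℤ) • η + (-(nη : ℤ)) • η')) = 0 := by
      rw [hσα _ ha, hτα _ hb, hα.2.2.1 _ (zspanOn_mono hXS _ ha) _ (zspanOn_mono hYS _ hb)]
      exact hC2 _ ha.1 _ hb.1
    rw [hσL.add _ (zspan_smul_mem _ (subset_zspan hχ)) _ (zspan_smul_mem _ (subset_zspan hχ')),
      hσL.smul _ (subset_zspan hχ), hσL.smul _ (subset_zspan hχ'),
      hτL.add _ (zspan_smul_mem _ (subset_zspan hη)) _ (zspan_smul_mem _ (subset_zspan hη')),
      hτL.smul _ (subset_zspan hη), hτL.smul _ (subset_zspan hη')] at hzero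
    simp only [classInner_add_left, classInner_add_right, classInner_zsmul_left,
      classInner_zsmul_right, I2, I3] at hzero
    have hzero' : (nχ' : ℂ) * (nη' : ℂ) * (p * q * classInner (σ χ) (τ η)) +
        (nχ : ℂ) * (nη : ℂ) * (p * q * classInner (σ χ') (τ η')) = 0 := by
      have := congrArg (fun z => p * q * z) hzero
      simp only [mul_zero] at this
      push_cast at this
      linear_combination this
    rw [I1] at hzero'
    rcases I4 with h4 | h4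
    · rw [h4] at hzero'
      have : ((nχ' * nη' : ℕ) : ℂ) = 0 := by push_cast; linear_combination hzero'
      have h5 : nχ' * nη' = 0 := by exact_mod_cast this
      have : 0 < nχ' * nη' := Nat.mul_pos hnχ' hnη'
      omega
    · rw [h4] at hzero'
      have : ((nχ' * nη' + nχ * nη : ℕ) : ℂ) = 0 := by push_cast; linear_combination hzero'
      have h5 : nχ' * nη' + nχ * nη = 0 := by exact_mod_cast this
      have : 0 < nχ' * nη' := Nat.mul_pos hnχ' hnη'
      omega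
  refine ⟨part1, ?_⟩
  rintro ⟨χ₀, hχ₀, η₀, hη₀, hlink⟩
  -- orthogonality of the images of the spans
  have hC1 : ∀ x ∈ Cfsg.zspan X, ∀ y ∈ Cfsg.zspan Y, classInner (σ x) (τ y) = 0 :=
    fun x hx y hy => inner_eq_zero_of_span hσL hτL part1 hx hy
  -- the extension
  let f : IrrCharacter N → (G → ℂ) := fun ξ =>
    if (ξ : N → ℂ) ∈ X then σ ξ else if (ξ : N → ℂ) ∈ Y then τ ξ else 0
  have hTX : ∀ x ∈ Cfsg.zspan X, extIrr f x = σ x := by
    intro x hx
    refine (extIrr_zlinOn f X).eq_of_span hσL (fun a ha => ?_) hx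
    have := extIrr_irr f ⟨a, hirrX a ha⟩
    rw [this]
    simp only [f, if_pos ha]
  have hTY : ∀ y ∈ Cfsg.zspan Y, extIrr f y = τ y := by
    intro y hy
    refine (extIrr_zlinOn f Y).eq_of_span hτL (fun a ha => ?_) hy
    have := extIrr_irr f ⟨a, hirrY a ha⟩
    rw [this]
    have hnX : a ∉ X := fun h => hXY' a h a ha rfl
    simp only [f, if_neg hnX, if_pos ha]
  have hTdec : ∀ x ∈ Cfsg.zspan X, ∀ y ∈ Cfsg.zspan Y, extIrr f (x + y) = σ x + τ y := by
    intro x hx y hy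
    rw [extIrr_add, hTX x hx, hTY y hy]
  refine ⟨?_, extIrr f, ⟨fun θ _ θ' _ => extIrr_add f θ θ', fun θ _ n => extIrr_zsmul f n θ,
    ?_, ?_⟩, ?_⟩
  · -- a nonzero element of degree zero
    obtain ⟨a, ha, b, hb, hab⟩ := hX2
    obtain ⟨na, hna, ha1⟩ := irr_degree_pos (hirrX a ha)
    obtain ⟨nb, hnb, hb1⟩ := irr_degree_pos (hirrX b hb)
    refine ⟨(nb : ℤ) • a + (-(na : ℤ)) • b, ?_, ?_⟩
    · refine mem_zspanOn_compl_one.2 ⟨zspan_add_mem
        (zspan_smul_mem _ (subset_zspan (Or.inl ha)))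
        (zspan_smul_mem _ (subset_zspan (Or.inl hb))), ?_⟩
      rw [Pi.add_apply, Pi.smul_apply, Pi.smul_apply, ha1, hb1, zsmul_eq_mul, zsmul_eq_mul]
      push_cast; ring
    · intro h0
      have h1 : classInner ((nb : ℤ) • a + (-(na : ℤ)) • b) a = 0 := by
        rw [h0, classInner_zero_left]
      rw [classInner_add_left, classInner_zsmul_left, classInner_zsmul_left,
        irr_orthonormal (hirrX a ha) (hirrX a ha), irr_orthonormal (hirrX b hb) (hirrX a ha),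
        if_pos rfl, if_neg (Ne.symm hab)] at h1
      have h2 : ((nb : ℕ) : ℂ) = 0 := by
        push_cast at h1 ⊢
        linear_combination h1
      have : nb = 0 := by exact_mod_cast h2
      omega
  · -- isometry
    intro θ hθ θ' hθ'
    obtain ⟨x, hx, y, hy, rfl⟩ := zspan_union_decomp hθ
    obtain ⟨x', hx', y', hy', rfl⟩ := zspan_union_decomp hθ'
    rw [hTdec x hx y hy, hTdec x' hx' y' hy']
    simp only [classInner_add_left, classInner_add_right]
    rw [hσ.2.2.1 x hx x' hx', hτ.2.2.1 y hy y' hy', hC1 x hx y' hy', hC2 x hx y' hy',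
      classInner_conj_symm (σ x') (τ y), hC1 x' hx' y hy,
      classInner_conj_symm x' y, hC2 x' hx' y hy]
  · -- values are generalized characters
    intro θ hθ
    obtain ⟨x, hx, y, hy, rfl⟩ := zspan_union_decomp hθ
    rw [hTdec x hx y hy]
    exact isGeneralizedCharacter_add (hσ.2.2.2 x hx) (hτ.2.2.2 y hy)
  · -- agreement with α
    intro θ hθ
    obtain ⟨hθ1, hθ0⟩ := mem_zspanOn_compl_one.1 hθ
    obtain ⟨x, hx, y, hy, rfl⟩ := zspan_union_decomp hθ1
    rw [hTdec x hx y hy]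
    have hXYS : X ∪ Y ⊆ S := Set.union_subset hXS hYS
    have hθS : x + y ∈ Cfsg.zspanOn S {1}ᶜ := zspanOn_mono hXYS _ hθ
    obtain ⟨k, hk⟩ := zspan_value_int (1 : N) (fun a ha => by
      obtain ⟨n, _, hn⟩ := irr_degree_pos (hirrX a ha)
      exact ⟨n, by rw [hn]; simp⟩) hx
    have hy1 : y 1 = -(k : ℂ) := by
      rw [Pi.add_apply, hk] at hθ0
      linear_combination hθ0
    obtain ⟨c, hc, hc1⟩ := irr_degree_pos (hirrX χ₀ hχ₀)
    obtain ⟨e, he, he1⟩ := irr_degree_pos (hirrY η₀ hη₀)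
    -- the three pieces
    have hu : ((c : ℤ) • x + (-k) • χ₀) ∈ Cfsg.zspanOn X {1}ᶜ := by
      refine mem_zspanOn_compl_one.2 ⟨zspan_add_mem (zspan_smul_mem _ hx)
        (zspan_smul_mem _ (subset_zspan hχ₀)), ?_⟩
      rw [Pi.add_apply, Pi.smul_apply, Pi.smul_apply, hk, hc1, zsmul_eq_mul, zsmul_eq_mul]
      push_cast; ring
    have hv : ((e : ℤ) • y + k • η₀) ∈ Cfsg.zspanOn Y {1}ᶜ := by
      refine mem_zspanOn_compl_one.2 ⟨zspan_add_mem (zspan_smul_mem _ hy)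
        (zspan_smul_mem _ (subset_zspan hη₀)), ?_⟩
      rw [Pi.add_apply, Pi.smul_apply, Pi.smul_apply, hy1, he1, zsmul_eq_mul, zsmul_eq_mul]
      push_cast; ring
    have hweq : χ₀ 1 • η₀ - η₀ 1 • χ₀ = (c : ℤ) • η₀ + (-(e : ℤ)) • χ₀ := by
      ext g
      simp only [Pi.sub_apply, Pi.add_apply, Pi.smul_apply]
      simp only [smul_eq_mul, zsmul_eq_mul, hc1, he1]
      push_cast; ring
    have hw : ((c : ℤ) • η₀ + (-(e : ℤ)) • χ₀) ∈ Cfsg.zspanOn S {1}ᶜ := by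
      refine mem_zspanOn_compl_one.2 ⟨zspan_add_mem (zspan_smul_mem _ (subset_zspan (hYS hη₀)))
        (zspan_smul_mem _ (subset_zspan (hXS hχ₀))), ?_⟩
      rw [Pi.add_apply, Pi.smul_apply, Pi.smul_apply, hc1, he1, zsmul_eq_mul, zsmul_eq_mul]
      push_cast; ring
    have huS := zspanOn_mono hXS _ hu
    have hvS := zspanOn_mono hYS _ hv
    have hident : ((e : ℤ) * (c : ℤ)) • (x + y) = (e : ℤ) • ((c : ℤ) • x + (-k) • χ₀) +
        (c : ℤ) • ((e : ℤ) • y + k • η₀) + (-k) • ((c : ℤ) • η₀ + (-(e : ℤ)) • χ₀) := by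
      ext g
      simp only [Pi.add_apply, Pi.smul_apply]
      simp only [zsmul_eq_mul]
      push_cast; ring
    have hαlin : α (((e : ℤ) * (c : ℤ)) • (x + y)) = (e : ℤ) • α ((c : ℤ) • x + (-k) • χ₀) +
        (c : ℤ) • α ((e : ℤ) • y + k • η₀) + (-k) • α ((c : ℤ) • η₀ + (-(e : ℤ)) • χ₀) := by
      rw [hident, hα.1 _ (zspanOn_add_mem (zspanOn_smul_mem _ huS) (zspanOn_smul_mem _ hvS)) _
        (zspanOn_smul_mem _ hw), hα.1 _ (zspanOn_smul_mem _ huS) _ (zspanOn_smul_mem _ hvS),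
        hα.2.1 _ huS, hα.2.1 _ hvS, hα.2.1 _ hw]
    rw [hα.2.1 _ hθS, ← hσα _ hu, ← hτα _ hv, ← hweq, hlink,
      hσL.add _ (zspan_smul_mem _ hx) _ (zspan_smul_mem _ (subset_zspan hχ₀)),
      hσL.smul _ hx, hσL.smul _ (subset_zspan hχ₀),
      hτL.add _ (zspan_smul_mem _ hy) _ (zspan_smul_mem _ (subset_zspan hη₀)),
      hτL.smul _ hy, hτL.smul _ (subset_zspan hη₀)] at hαlin
    ext g
    have hg := congrFun hαlin g
    simp only [Pi.add_apply, Pi.sub_apply, Pi.smul_apply] at hg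
    simp only [zsmul_eq_mul, smul_eq_mul, hc1, he1] at hg
    push_cast at hg
    have hce : ((e : ℂ) * (c : ℂ)) ≠ 0 := by
      have : 0 < e * c := Nat.mul_pos he hc
      exact_mod_cast this.ne'
    rw [Pi.add_apply]
    apply mul_left_cancel₀ hce
    linear_combination -hg

end Cfsg.Agent.S1531
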