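import Cfsg.Statements.S1532
import Mathlib
import Cfsg.Agent.Lib.Helper82.SibSylow
import Cfsg.Agent.Lib.Helper82.Coh62Aux
import Cfsg.Agent.S0161

set_option autoImplicit false
set_option linter.style.haveILetI false
open Cfsg

namespace Cfsg.Agent.S1532

/-- Let G be a finite group, p an odd prime and P a Sylow p-subgroup that is non-abelian, whose underlying set is a TI-subset of G, with P properly contained in its set normaliser N and C_G(x) ≤ P for every non-identity x ∈ P. Let Z be a nontrivial subgroup of the centre of P normalised by N. Then the set of irreducible characters χ of N with χ z ≠ χ 1 for some z ∈ Z is coherent for the map induced by induction from N to G. -/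
theorem result {G : Type*} [Group G] [Fintype G] (p : ℕ) [Fact p.Prime] (hp : p ≠ 2) (P : Sylow p G) (hna : ¬ IsMulCommutative (P : Subgroup G)) (hTI : Cfsg.IsTISubset ((P : Subgroup G) : Set G)) (hlt : (P : Subgroup G) < Subgroup.normalizer ((P : Subgroup G) : Set G)) (hC : ∀ k ∈ (P : Subgroup G), k ≠ 1 → Subgroup.centralizer ({k} : Set G) ≤ (P : Subgroup G)) [Fintype ↥(Subgroup.normalizer ((P : Subgroup G) : Set G))] (Z : Subgroup G) (hZ1 : Z ≠ ⊥) (hZP : ∀ z ∈ Z, z ∈ (P : Subgroup G) ∧ ∀ y ∈ (P : Subgroup G), z * y = y * z) (hZn : ∀ x ∈ Subgroup.normalizer ((P : Subgroup G) : Set G), ∀ z ∈ Z, x * z * x⁻¹ ∈ Z) : Cfsg.IsCoherent {χ : ↥(Subgroup.normalizer ((P : Subgroup G) : Set G)) → ℂ | Cfsg.IsIrrCharacter ↥(Subgroup.normalizer ((P : Subgroup G) : Set G)) χ ∧ ∃ z : ↥(Subgroup.normalizer ((P : Subgroup G) : Set G)), (z : G) ∈ Z ∧ χ z ≠ χ 1} {1}ᶜ (fun α => Cfsg.indFun (Subgroup.normalizer ((P : Subgroup G) : Set G)) α) := by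
  classical
  haveI := Cfsg.Agent.Helper82.SibTI.normal_subgroupOf_normalizer (P : Subgroup G)
  haveI : Fintype ((P : Subgroup G).subgroupOf (Subgroup.normalizer ((P : Subgroup G) : Set G))) :=
    Fintype.ofFinite _
  have hC' := Cfsg.Agent.Helper82.tifn_hC' (P : Subgroup G)
    (Subgroup.normalizer ((P : Subgroup G) : Set G)) hC
  have hKtop : (P : Subgroup G).subgroupOf (Subgroup.normalizer ((P : Subgroup G) : Set G)) ≠ ⊤ := by
    intro h
    apply hlt.ne
    apply le_antisymm hlt.le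
    intro x hx
    have : (⟨x, hx⟩ : Subgroup.normalizer ((P : Subgroup G) : Set G)) ∈
        (P : Subgroup G).subgroupOf (Subgroup.normalizer ((P : Subgroup G) : Set G)) := by
      rw [h]; trivial
    exact this
  have hP1 : (P : Subgroup G) ≠ ⊥ := by
    intro h
    apply hZ1
    rw [eq_bot_iff]
    intro z hz
    rw [← h]
    exact (hZP z hz).1
  have hodd : Odd (Nat.card ↥(Subgroup.normalizer ((P : Subgroup G) : Set G))) := by
    rcases Cfsg.Agent.Helper82.SibSylow.odd_or_comm p hp P hC with hodd | hcomm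
    · exact hodd
    · exact absurd (⟨⟨fun a b => Subtype.ext (hcomm a a.2 b b.2)⟩⟩ :
        IsMulCommutative (P : Subgroup G)) hna
  have hcoh := Cfsg.Agent.Helper82.SibTI.sib_ti (P : Subgroup G) hodd hP1 P.isPGroup'.isNilpotent
    hTI hlt hC (Cfsg.Agent.Helper82.SibSylow.sylow_coprime p P hlt.le)
  rw [← Cfsg.Agent.Helper82.coe_sibS,
    Cfsg.Agent.Helper82.SibSylow.coe_sibS_eq_relevant _ _ hC' hKtop] at hcoh
  have h12 : {χ : ↥(Subgroup.normalizer ((P : Subgroup G) : Set G)) → ℂ |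
      Cfsg.IsIrrCharacter ↥(Subgroup.normalizer ((P : Subgroup G) : Set G)) χ ∧
      ∃ z : ↥(Subgroup.normalizer ((P : Subgroup G) : Set G)), (z : G) ∈ Z ∧ χ z ≠ χ 1} ⊆
      {χ : ↥(Subgroup.normalizer ((P : Subgroup G) : Set G)) → ℂ |
        IsIrrCharacter ↥(Subgroup.normalizer ((P : Subgroup G) : Set G)) χ ∧
        ∃ k ∈ (P : Subgroup G).subgroupOf (Subgroup.normalizer ((P : Subgroup G) : Set G)),
          χ k ≠ χ 1} := by
    rintro χ ⟨hχ, z, hz, hne⟩
    exact ⟨hχ, z, (hZP _ hz).1, hne⟩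
  obtain ⟨-, τ₁, hτ₁, hagree⟩ := hcoh
  refine ⟨?_, τ₁, Cfsg.Agent.Helper82.isLinearIsometryOn_mono hτ₁
    (Cfsg.Agent.Helper82.zspan_mono h12),
    fun α hα => hagree α (Cfsg.Agent.Helper82.zspanOn_mono h12 _ hα)⟩
  -- a member of the set
  obtain ⟨⟨z, hzZ⟩, hz1'⟩ := (Subgroup.ne_bot_iff_exists_ne_one).mp hZ1
  have hz1 : z ≠ 1 := fun h => hz1' (Subtype.ext h)
  have hzN : z ∈ Subgroup.normalizer ((P : Subgroup G) : Set G) := hlt.le (hZP z hzZ).1
  obtain ⟨χ, hχ⟩ : ∃ χ : IrrCharacter ↥(Subgroup.normalizer ((P : Subgroup G) : Set G)),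
      (χ : ↥(Subgroup.normalizer ((P : Subgroup G) : Set G)) → ℂ) ⟨z, hzN⟩ ≠
        (χ : ↥(Subgroup.normalizer ((P : Subgroup G) : Set G)) → ℂ) 1 := by
    by_contra hno
    push Not at hno
    have h1 := Cfsg.Agent.Helper78.sum_irr_mul_conj
      (⟨z, hzN⟩ : ↥(Subgroup.normalizer ((P : Subgroup G) : Set G))) 1
    have h2 := Cfsg.Agent.Helper78.sum_irr_mul_conj
      (1 : ↥(Subgroup.normalizer ((P : Subgroup G) : Set G))) 1
    rw [if_pos (IsConj.refl _)] at h2
    rw [if_neg (fun h => hz1 (by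
      have := isConj_one_left.mp h
      exact congrArg Subtype.val this))] at h1
    rw [Finset.sum_congr rfl (fun χ _ => by rw [hno χ])] at h1
    rw [h1] at h2
    have hpos : 0 < Nat.card ↥(Subgroup.centralizer
      ({(1 : ↥(Subgroup.normalizer ((P : Subgroup G) : Set G)))} :
        Set ↥(Subgroup.normalizer ((P : Subgroup G) : Set G)))) := Nat.card_pos
    have : (Nat.card ↥(Subgroup.centralizer
      ({(1 : ↥(Subgroup.normalizer ((P : Subgroup G) : Set G)))} :
        Set ↥(Subgroup.normalizer ((P : Subgroup G) : Set G)))) : ℂ) = 0 := h2.symm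
    exact hpos.ne' (by exact_mod_cast this)
  have hχirr := χ.2
  have hχc : Cfsg.conjFun (χ : ↥(Subgroup.normalizer ((P : Subgroup G) : Set G)) → ℂ) ≠
      (χ : ↥(Subgroup.normalizer ((P : Subgroup G) : Set G)) → ℂ) := by
    intro h
    have hreal : ∀ g, ((χ : ↥(Subgroup.normalizer ((P : Subgroup G) : Set G)) → ℂ) g).im = 0 :=
      fun g => Complex.conj_eq_iff_im.mp (congrFun h g)
    have h1 := Cfsg.Agent.S0161.result hodd χ hreal
    apply hχ
    rw [h1]
  refine ⟨(χ : ↥(Subgroup.normalizer ((P : Subgroup G) : Set G)) → ℂ) -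
    Cfsg.conjFun (χ : ↥(Subgroup.normalizer ((P : Subgroup G) : Set G)) → ℂ), ?_,
    fun h => hχc (sub_eq_zero.mp h).symm⟩
  refine Cfsg.Agent.Helper82.mem_zspanOn_compl_one.mpr
    ⟨Cfsg.Agent.Helper82.zspan_sub_mem (Cfsg.Agent.Helper82.subset_zspan ⟨hχirr, ⟨z, hzN⟩, hzZ, hχ⟩)
      (Cfsg.Agent.Helper82.subset_zspan ⟨Cfsg.Agent.Helper80.isIrrCharacter_cconj hχirr,
        ⟨z, hzN⟩, hzZ, ?_⟩), ?_⟩
  · intro h
    apply hχ
    have h1 : (starRingEnd ℂ) ((χ : ↥(Subgroup.normalizer ((P : Subgroup G) : Set G)) → ℂ) ⟨z, hzN⟩) =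
        (starRingEnd ℂ) ((χ : ↥(Subgroup.normalizer ((P : Subgroup G) : Set G)) → ℂ) 1) := h
    exact (starRingEnd ℂ).injective h1
  · rw [Pi.sub_apply]
    show _ - (starRingEnd ℂ) ((χ : ↥(Subgroup.normalizer ((P : Subgroup G) : Set G)) → ℂ) 1) = 0
    rw [Cfsg.Agent.Helper82.irr_one_conj hχirr, sub_self]

end Cfsg.Agent.S1532
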