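import Cfsg.Statements.S1536
import Mathlib
import Cfsg.Agent.Lib.Helper25.BrauerPermEq
import Cfsg.Agent.S1512

set_option autoImplicit false
open Cfsg

namespace Cfsg.Agent.S1536

/-- Let H be a normal subgroup of the finite group M whose order is coprime to its index. For x ∈ M: some non-principal irreducible character of H is unchanged under h ↦ θ(x h x⁻¹) if and only if some non-identity element of H commutes with x. -/
theorem result {M : Type*} [Group M] [Finite M] (H : Subgroup M) [hN : H.Normal] (hHall : Nat.Coprime (Nat.card H) H.index) (x : M) : (∃ θ : H → ℂ, Cfsg.IsIrrCharacter H θ ∧ θ ≠ (fun _ => 1) ∧ (fun h : H => θ ⟨x * h * x⁻¹, hN.conj_mem h h.2 x⟩) = θ) ↔ ∃ h ∈ H, h ≠ 1 ∧ x * h = h * x := by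
  classical
  have := Fintype.ofFinite H
  obtain ⟨φ, hφdef⟩ : ∃ φ : H ≃* H, φ = (MulAut.conjNormal x : MulAut H) := ⟨_, rfl⟩
  have hφ : ∀ h : H, φ h = ⟨x * h * x⁻¹, hN.conj_mem h h.2 x⟩ := by
    intro h; rw [hφdef]; exact Subtype.ext (MulAut.conjNormal_apply x h)
  have hcomp : ∀ θ : H → ℂ,
      (fun h : H => θ ⟨x * h * x⁻¹, hN.conj_mem h h.2 x⟩) = θ ∘ φ := by
    intro θ; funext h; simp only [Function.comp_apply, hφ]
  have hperm := Cfsg.Agent.Helper25.brauer_perm_eq φ
  have htrivIrr : IsIrrCharacter H (fun _ => (1 : ℂ)) := Cfsg.Agent.Helper3.isIrrCharacter_one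
  have hmapmk : ∀ k : H, ConjClasses.map (φ : H →* H) (ConjClasses.mk k) = ConjClasses.mk (φ k) :=
    fun k => rfl
  constructor
  · rintro ⟨θ, hθ, hθ1, hθfix⟩
    by_cases hxd : x ^ H.index = 1
    · -- x has order coprime to |H|
      have hord : Nat.Coprime (orderOf x) (Nat.card H) :=
        (Nat.Coprime.coprime_dvd_left (orderOf_dvd_of_pow_eq_one hxd) hHall.symm)
      rw [hcomp] at hθfix
      have hnt : Nontrivial {χ : IrrCharacter H // (χ : H → ℂ) ∘ φ = χ} := by
        refine ⟨⟨⟨⟨θ, hθ⟩, hθfix⟩, ⟨⟨fun _ => 1, htrivIrr⟩, rfl⟩, ?_⟩⟩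
        intro h
        apply hθ1
        have := congrArg (fun a => (a.1 : H → ℂ)) h
        exact this
      have hlt : 1 < Nat.card {C : ConjClasses H // ConjClasses.map (φ : H →* H) C = C} := by
        rw [← hperm]; exact Finite.one_lt_card_iff_nontrivial.mpr hnt
      have hnt2 := Finite.one_lt_card_iff_nontrivial.mp hlt
      obtain ⟨C, hC⟩ := exists_ne (⟨ConjClasses.mk 1, by rw [hmapmk, map_one]⟩ :
        {C : ConjClasses H // ConjClasses.map (φ : H →* H) C = C})
      have hCfix : ConjClasses.map (MulEquiv.toMonoidHom ((MulAut.conjNormal x : MulAut H))) C.1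
          = C.1 := by
        have hh := C.2
        subst hφdef
        exact hh
      obtain ⟨w, hw, hwC⟩ := Cfsg.Agent.S1512.exists_rep H (H ⊓ Subgroup.centralizer ({x} : Set M)) x
        hord rfl C.1 hCfix
      refine ⟨(w : M), hw, ?_, ?_⟩
      · intro hw1
        apply hC
        apply Subtype.ext
        rw [← hwC]
        congr 1
        exact Subtype.ext hw1
      · have hw2 : (w : M) ∈ Subgroup.centralizer ({x} : Set M) := (Subgroup.mem_inf.mp w.2).2
        rw [Subgroup.mem_centralizer_singleton_iff] at hw2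
        exact hw2.symm
    · exact ⟨x ^ H.index, Subgroup.pow_index_mem H x, hxd, (Commute.self_pow x _).eq⟩
  · rintro ⟨h, hh, hh1, hcomm⟩
    have hφh : φ ⟨h, hh⟩ = ⟨h, hh⟩ := by
      rw [hφ]; apply Subtype.ext
      show x * h * x⁻¹ = h
      rw [hcomm]; group
    have hnt : Nontrivial {C : ConjClasses H // ConjClasses.map (φ : H →* H) C = C} := by
      refine ⟨⟨⟨ConjClasses.mk ⟨h, hh⟩, by rw [hmapmk, hφh]⟩,
        ⟨ConjClasses.mk 1, by rw [hmapmk, map_one]⟩, ?_⟩⟩
      intro heq
      have h2 := congrArg Subtype.val heq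
      simp only at h2
      rw [ConjClasses.mk_eq_mk_iff_isConj, isConj_one_left] at h2
      exact hh1 (congrArg Subtype.val h2)
    have hlt : 1 < Nat.card {χ : IrrCharacter H // (χ : H → ℂ) ∘ φ = χ} := by
      rw [hperm]; exact Finite.one_lt_card_iff_nontrivial.mpr hnt
    have hnt2 := Finite.one_lt_card_iff_nontrivial.mp hlt
    obtain ⟨χ, hχ⟩ := exists_ne (⟨⟨fun _ => 1, htrivIrr⟩, rfl⟩ :
      {χ : IrrCharacter H // (χ : H → ℂ) ∘ φ = χ})
    refine ⟨χ.1.1, χ.1.2, ?_, ?_⟩
    · intro h1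
      apply hχ
      apply Subtype.ext
      apply Subtype.ext
      exact h1
    · rw [hcomp]; exact χ.2

end Cfsg.Agent.S1536
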