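import Cfsg.Statements.S1537
import Cfsg.Agent.Lib.Helper11.BG1537Main
import Cfsg.Agent.S1350
import Cfsg.Agent.S1351
import Cfsg.Agent.S1352
import Cfsg.Agent.S1354
import Cfsg.Agent.S1355
import Cfsg.Agent.S1357
import Cfsg.Agent.S1362
import Cfsg.Agent.S1363
import Cfsg.Agent.S1364
import Cfsg.Agent.S1365
import Cfsg.Agent.S1366
import Cfsg.Agent.S1371
import Cfsg.Agent.S1374
import Cfsg.Agent.S1375
import Cfsg.Agent.S1378
import Cfsg.Agent.S1381
import Cfsg.Agent.S1432
import Cfsg.Agent.S1434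
import Cfsg.Agent.S1436

set_option autoImplicit false
open Cfsg

namespace Cfsg.Agent.S1537

/-- Let G be a minimal simple group of odd order and M a maximal subgroup. For A equal to A₁(M), A(M) or A₀(M): the set normaliser of A is M, and the Dade hypothesis holds for A, M and the function a ↦ R(a). -/
theorem result {G : Type*} [Group G] [Finite G] (hG : Cfsg.IsMinSimpleOddOrder G) (M : Subgroup G) (hM : IsCoatom M) (A : Set G) (hA : A = Cfsg.typeA1 M ∨ A = Cfsg.typeA M ∨ A = Cfsg.typeA0 M) : Subgroup.normalizer A = M ∧ Cfsg.DadeHypothesis A M (Cfsg.supportR M) := by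
  have rows : Cfsg.Agent.Helper11.BG1537.Rows G :=
    ⟨Cfsg.Agent.S1350.result hG, Cfsg.Agent.S1351.result hG, Cfsg.Agent.S1352.result hG,
      Cfsg.Agent.S1354.result hG, Cfsg.Agent.S1355.result hG, Cfsg.Agent.S1357.result hG,
      Cfsg.Agent.S1362.result hG, Cfsg.Agent.S1363.result hG, Cfsg.Agent.S1364.result hG,
      Cfsg.Agent.S1365.result hG, Cfsg.Agent.S1366.result hG, Cfsg.Agent.S1371.result hG,
      Cfsg.Agent.S1374.result hG, Cfsg.Agent.S1375.result hG, Cfsg.Agent.S1378.result hG,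
      Cfsg.Agent.S1381.result hG, Cfsg.Agent.S1432.result hG, Cfsg.Agent.S1434.result hG,
      Cfsg.Agent.S1436.result hG⟩
  obtain ⟨⟨K, hK⟩, hKc⟩ := Cfsg.Agent.S1351.result hG M hM
  obtain ⟨⟨U, hKU⟩, -⟩ := Cfsg.Agent.S1352.result hG M hM K (hKc K hK) hK
  exact Cfsg.Agent.Helper11.BG1537.main hG rows hM hKU A hA

end Cfsg.Agent.S1537
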