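import Cfsg.Statements.S1542
import Cfsg.Agent.S1537
import Cfsg.Agent.S1535
import Cfsg.Agent.S1524
import Cfsg.Agent.S1500
import Cfsg.Agent.S1501
import Cfsg.Agent.Lib.Helper29.PF1542
import Cfsg.Agent.Lib.Helper23.PF1542E2
import Cfsg.Agent.Lib.Helper65.PF1542F1
import Cfsg.Agent.Lib.Helper10.TypeIIa
import Cfsg.Agent.Lib.Helper23.FittingHall
import Cfsg.Agent.Lib.Helper45.FittingHall

set_option autoImplicit false
set_option linter.style.haveILetI false
set_option maxHeartbeats 1000000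
open Cfsg

namespace Cfsg.Agent.S1542

open Cfsg.Agent.Helper29.PF1542

/-- Let G be a minimal simple group of odd order and L a maximal subgroup of Type I in which every non-identity element of H = L_F has its centraliser within L inside H. Let S be the set of functions on L induced from non-principal irreducible characters of H. Then every member of S is an irreducible character of L, and (S, L minus 1, τ) is coherent for τ the Dade map relative to A(L), L and a ↦ R(a). -/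
theorem result {G : Type*} [Group G] [Fintype G] (hG : Cfsg.IsMinSimpleOddOrder G) (L : Subgroup G) [Fintype L] (hL : IsCoatom L) (hI : Cfsg.IsOfTypeI L) (hfrob : ∀ x ∈ Cfsg.fittingHallOf L, x ≠ 1 → L ⊓ Subgroup.centralizer ({x} : Set G) ≤ Cfsg.fittingHallOf L) : (∀ χ ∈ Cfsg.inducedIrrAbove (Cfsg.fittingHall L) ⊥, Cfsg.IsIrrCharacter L χ) ∧ Cfsg.IsCoherent (Cfsg.inducedIrrAbove (Cfsg.fittingHall L) ⊥) {1}ᶜ (Cfsg.dadeIsometry (Cfsg.typeA L) L (Cfsg.supportR L)) := by
  classical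
  have hI' := hI
  obtain ⟨hF, htri⟩ := hI
  obtain ⟨hsolv, hodd, hH1, hH2, U, hU1, hcompl, -, -⟩ := hF
  haveI : IsSimpleGroup G := hG.2.1
  haveI : Fintype (Cfsg.fittingHall L) := Fintype.ofFinite _
  have hC := centralizer_le_fittingHall L hfrob
  -- the two descriptions of S
  have hSeq : Cfsg.inducedIrrAbove (Cfsg.fittingHall L) ⊥ =
      {χ : L → ℂ | Cfsg.IsIrrCharacter L χ ∧ ∃ h ∈ Cfsg.fittingHall L, χ h ≠ χ 1} := by
    rw [← Cfsg.Agent.H3Feit.coe_frobS (Cfsg.fittingHall L) hC hH2]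
    ext ξ
    rw [Finset.mem_coe, Cfsg.Agent.H3Feit.mem_frobS]
    constructor
    · rintro ⟨θ, hθ, hne, -, rfl⟩
      exact ⟨⟨θ, hθ⟩, hne, rfl⟩
    · rintro ⟨θ, hne, rfl⟩
      refine ⟨θ, θ.2, hne, ?_, rfl⟩
      intro a ha
      have : a = 1 := Subtype.ext (Subgroup.mem_bot.mp ha)
      rw [this]
  refine ⟨fun χ hχ => ?_, ?_⟩
  · rw [hSeq] at hχ
    exact hχ.1
  -- the Dade hypothesis
  have hDade := (Cfsg.Agent.S1537.result hG L hL (Cfsg.typeA L) (Or.inr (Or.inl rfl))).2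
  have hA : Cfsg.typeA L =
      {a | a ∈ L ∧ a ≠ 1 ∧ ∃ x ∈ Cfsg.fittingHallOf L, x ≠ 1 ∧ a * x = x * a} := by
    unfold Cfsg.typeA
    rw [if_pos hI']
  -- members of Z[S, L^#]
  have hprops : ∀ α ∈ Cfsg.zspanOn (Cfsg.inducedIrrAbove (Cfsg.fittingHall L) ⊥) ({1}ᶜ : Set L),
      Cfsg.IsClassFunction L α ∧ Cfsg.IsGeneralizedCharacter L α ∧
        ∀ x : L, (x : G) ∉ Cfsg.typeA L → α x = 0 := by
    intro α hα
    have hspan : α ∈ Cfsg.zspan (↑(Cfsg.Agent.Helper82.sibS L (Cfsg.fittingHall L)) : Set (L → ℂ)) := by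
      rw [Cfsg.Agent.Helper82.coe_sibS]
      exact hα.1
    obtain ⟨h1, h2, h3⟩ := Cfsg.Agent.Helper82.sibS_span_props L (Cfsg.fittingHall L) hC hspan
    refine ⟨h1, h3, ?_⟩
    intro x hx
    by_cases hxH : x ∈ Cfsg.fittingHall L
    · by_cases hx1 : x = 1
      · subst hx1
        exact hα.2 1 (by simp)
      · exfalso
        apply hx
        rw [hA]
        have hx1G : (x : G) ≠ 1 := fun e => hx1 (Subtype.ext e)
        exact ⟨x.2, hx1G, (x : G), ⟨x, hxH, rfl⟩, hx1G, rfl⟩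
    · exact h2 x hxH
  set τ := Cfsg.dadeIsometry (Cfsg.typeA L) L (Cfsg.supportR L) with hτdef
  have hτ : Cfsg.IsLinearIsometryOn
      (Cfsg.zspanOn (Cfsg.inducedIrrAbove (Cfsg.fittingHall L) ⊥) ({1}ᶜ : Set L)) τ := by
    refine ⟨fun α _ β _ => dade_add _ _ _ α β, fun α _ n => dade_zsmul _ _ _ n α, ?_, ?_⟩
    · intro α hα β hβ
      obtain ⟨ha1, -, ha3⟩ := hprops α hα
      obtain ⟨hb1, -, hb3⟩ := hprops β hβ
      exact (Cfsg.Agent.S1500.result _ L _ hDade α ha1 ha3).1 β hb1 hb3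
    · intro α hα
      obtain ⟨-, ha2, ha3⟩ := hprops α hα
      exact Cfsg.Agent.S1501.result _ L _ hDade α ha2 ha3
  have hτ1 : ∀ α ∈ Cfsg.zspanOn (Cfsg.inducedIrrAbove (Cfsg.fittingHall L) ⊥) ({1}ᶜ : Set L),
      τ α 1 = 0 := fun α _ => dade_one _ _ _ hDade α
  -- parity
  have hcardmul := Subgroup.card_mul_index (Cfsg.fittingHall L)
  have hoddH : Odd (Nat.card (Cfsg.fittingHall L)) := by
    rw [← hcardmul] at hodd
    exact (Nat.odd_mul.mp hodd).1
  have hoddI : Odd (Cfsg.fittingHall L).index := by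
    rw [← hcardmul] at hodd
    exact (Nat.odd_mul.mp hodd).2
  have he : Nat.card (Cfsg.fittingHall L) ≠ (Cfsg.fittingHall L).index + 1 := by
    obtain ⟨a, ha⟩ := hoddH
    obtain ⟨b, hb⟩ := hoddI
    omega
  have key := Cfsg.Agent.S1535.result (G := G) (Cfsg.fittingHall L) hH1 hH2 hC he τ
  rw [← hSeq] at key
  rcases key hτ hτ1 with hcoh | ⟨p, hp, ⟨m, hm⟩, hnc, hidx⟩
  · exact hcoh
  -- the exceptional case
  have hm0 : m ≠ 0 := by
    rintro rfl
    rw [pow_zero] at hm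
    exact hH1 ((Subgroup.card_eq_one).mp hm)
  have hpH : p ∣ Nat.card (Cfsg.fittingHall L) := by
    rw [hm]
    exact dvd_pow_self p hm0
  have hsq := sq_le_index_commutator (Cfsg.fittingHall L) hp ⟨m, hm⟩ hnc
  rcases htri with hTI | ⟨hab, -, -⟩ | ⟨hexp, -⟩
  · -- H is a TI-subset: Sibley
    have hHL : Cfsg.fittingHallOf L ≤ L := Cfsg.Agent.Helper23.fittingHallOf_le L
    have hHne : ∃ s ∈ (Cfsg.fittingHallOf L : Set G), s ≠ 1 := by
      obtain ⟨⟨x, hx⟩, hx1⟩ := (Subgroup.ne_bot_iff_exists_ne_one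
        (H := Cfsg.fittingHall L)).mp hH1
      exact ⟨(x : G), ⟨x, hx, rfl⟩, fun e => hx1 (Subtype.ext (Subtype.ext e))⟩
    have hHn : ∀ x ∈ L, ∀ h ∈ Cfsg.fittingHallOf L, x * h * x⁻¹ ∈ Cfsg.fittingHallOf L := by
      rintro x hx _ ⟨h, hh, rfl⟩
      refine ⟨(⟨x, hx⟩ : L) * h * (⟨x, hx⟩ : L)⁻¹, ?_, rfl⟩
      exact (Cfsg.fittingHall_normal L).conj_mem h hh _
    have hNorm : Subgroup.normalizer (Cfsg.fittingHallOf L : Set G) = L :=
      Cfsg.Agent.Helper10.TypeII.normalizer_set_eq hL hHL hHne hHn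
    -- elements of A(L) lie in H^#
    have hAH : ∀ a ∈ Cfsg.typeA L, a ∈ Cfsg.fittingHallOf L ∧ a ≠ 1 := by
      intro a ha
      rw [hA] at ha
      obtain ⟨haL, ha1, x, hx, hx1, hax⟩ := ha
      refine ⟨hfrob x hx hx1 (Subgroup.mem_inf.mpr ⟨haL, ?_⟩), ha1⟩
      rw [Subgroup.mem_centralizer_iff]
      intro y hy
      rw [Set.mem_singleton_iff] at hy
      subst hy
      exact hax.symm
    have hTIN : ∀ a ∈ Cfsg.fittingHallOf L, a ≠ 1 → ∀ z : G,
        z * a * z⁻¹ ∈ Cfsg.fittingHallOf L → z ∈ L := by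
      intro a ha ha1 z hz
      by_contra hzL
      rw [← hNorm] at hzL
      exact ha1 (hTI z hzL a ha hz)
    have hN : ∀ a ∈ Cfsg.typeA L, ∀ z : G, z * a * z⁻¹ ∈ Cfsg.typeA L → z ∈ L :=
      fun a ha z hz => hTIN a (hAH a ha).1 (hAH a ha).2 z (hAH _ hz).1
    have hR : ∀ a ∈ Cfsg.typeA L, Cfsg.supportR L a = ⊥ := by
      intro a ha
      unfold Cfsg.supportR
      rw [dif_neg]
      rintro ⟨hnot, -⟩
      apply hnot
      intro g hg
      apply hTIN a (hAH a ha).1 (hAH a ha).2 g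
      have h1 : g * a * g⁻¹ = a := by
        have h2 := (Subgroup.mem_centralizer_iff.mp hg) a rfl
        rw [← h2]
        group
      rw [h1]
      exact (hAH a ha).1
    -- Sibley's theorem
    have hnilH : Group.IsNilpotent (Cfsg.fittingHallOf L) := by
      have h1 : Group.IsNilpotent (Cfsg.fittingHall L) :=
        Cfsg.Agent.Helper45.FH.fittingHall_nilpotent
      exact (Group.isNilpotent_congr
        (Subgroup.equivMapOfInjective _ _ L.subtype_injective)).mp h1
    have hW₁L : U.map L.subtype ≤ L := Subgroup.map_subtype_le U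
    have hW1 : U.map L.subtype ≠ ⊥ :=
      (Subgroup.map_eq_bot_iff_of_injective U L.subtype_injective).not.mpr hU1
    have hinf : Cfsg.fittingHallOf L ⊓ U.map L.subtype = ⊥ := by
      unfold Cfsg.fittingHallOf
      rw [← Subgroup.map_inf _ _ _ L.subtype_injective, hcompl.disjoint.eq_bot, Subgroup.map_bot]
    have hsup : Cfsg.fittingHallOf L ⊔ U.map L.subtype = L := by
      unfold Cfsg.fittingHallOf
      rw [← Subgroup.map_sup, hcompl.sup_eq_top, ← MonoidHom.range_eq_map, Subgroup.range_subtype]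
    have hfpf : ∀ w ∈ U.map L.subtype, w ≠ 1 → ∀ h ∈ Cfsg.fittingHallOf L,
        w * h = h * w → h = 1 := by
      rintro _ ⟨w, hw, rfl⟩ hw1 _ ⟨h, hh, rfl⟩ hwh
      by_contra hh1
      have hh1' : h ≠ 1 := fun e => hh1 (by rw [e]; rfl)
      have hwc : w ∈ Subgroup.centralizer ({h} : Set L) := by
        rw [Subgroup.mem_centralizer_iff]
        intro y hy
        rw [Set.mem_singleton_iff] at hy
        subst hy
        apply Subtype.ext
        exact hwh.symm
      have hwH := hC h hh hh1' hwc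
      have hwbot : w ∈ Cfsg.fittingHall L ⊓ U := Subgroup.mem_inf.mpr ⟨hwH, hw⟩
      rw [hcompl.disjoint.eq_bot, Subgroup.mem_bot] at hwbot
      exact hw1 (by rw [hwbot]; rfl)
    have hsib := Cfsg.Agent.S1524.result (Cfsg.fittingHallOf L) L (U.map L.subtype) hodd hHL hW₁L
      (fun e => by
        obtain ⟨s, hs, hs1⟩ := hHne
        rw [e] at hs
        exact hs1 (Subgroup.mem_bot.mp hs))
      hW1 hnilH hHn hinf hsup hfpf hTI hNorm
    have hsub : (Cfsg.fittingHallOf L).subgroupOf L = Cfsg.fittingHall L := by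
      unfold Cfsg.fittingHallOf
      ext x
      rw [Subgroup.mem_subgroupOf]
      constructor
      · rintro ⟨y, hy, hyx⟩
        have : y = x := Subtype.ext hyx
        rwa [← this]
      · intro hx
        exact ⟨x, hx, rfl⟩
    rw [hsub] at hsib
    obtain ⟨hne, τ₁, hτ₁, hagree⟩ := hsib
    refine ⟨hne, τ₁, hτ₁, fun α hα => ?_⟩
    obtain ⟨ha1, -, ha3⟩ := hprops α hα
    rw [hagree α hα]
    exact (Cfsg.Agent.Helper65.PF1542.dade_eq_indFun _ L _ hDade hR hN α ha1 ha3).symm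
  · -- H abelian
    exfalso
    apply hnc
    refine ⟨⟨fun a b => ?_⟩⟩
    have := hab.is_comm.comm ⟨(a : G), ⟨a, a.2, rfl⟩⟩ ⟨(b : G), ⟨b, b.2, rfl⟩⟩
    have h2 : ((a : L) : G) * ((b : L) : G) = ((b : L) : G) * ((a : L) : G) :=
      congrArg Subtype.val this
    apply Subtype.ext
    apply Subtype.ext
    exact h2
  · -- exponent condition
    exfalso
    have h1 := hexp p hp (by rw [Cfsg.Agent.Helper23.card_fittingHallOf]; exact hpH)
    rw [Cfsg.Agent.Helper23.PF1542.exponent_quotient_eq_index (Cfsg.fittingHall L) U hodd hH1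
      hcompl hC] at h1
    have hpodd : Odd p := by
      rcases Nat.even_or_odd p with h | h
      · exfalso
        have h2 : 2 ∣ Nat.card (Cfsg.fittingHall L) := (even_iff_two_dvd.mp h).trans hpH
        obtain ⟨a, ha⟩ := hoddH
        omega
      · exact h
    have := four_sq_lt hoddI hpodd hp.one_lt h1
    omega

end Cfsg.Agent.S1542
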