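import Cfsg.Statements.S1546
import Mathlib

set_option autoImplicit false
open Cfsg

namespace Cfsg.Agent.S1546

lemma geom_eq (p q : ℕ) (hp : 2 ≤ p) : (p ^ q - 1) / (p - 1) = ∑ i ∈ Finset.range q, p ^ i :=
  (Nat.geomSum_eq hp q).symm

lemma sum_mod (p q m : ℕ) (h : p % m = 1 % m) : (∑ i ∈ Finset.range q, p ^ i) % m = q % m := by
  have h1 : ∀ i, p ^ i ≡ 1 [MOD m] := by
    intro i
    have : p ≡ 1 [MOD m] := h
    simpa using this.pow i
  have : (∑ i ∈ Finset.range q, p ^ i) ≡ ∑ _i ∈ Finset.range q, 1 [MOD m] := by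
    induction q with
    | zero => simp [Nat.ModEq]
    | succ n ih =>
      rw [Finset.sum_range_succ, Finset.sum_range_succ]
      exact ih.add (h1 n)
  simpa [Nat.ModEq] using this

theorem result (p q : ℕ) (hp : p.Prime) (hq : q.Prime) (hp2 : p ≠ 2) (hq2 : q ≠ 2) : Odd ((p ^ q - 1) / (p - 1)) ∧ (p % q = 1 → q ∣ (p ^ q - 1) / (p - 1)) ∧ (p % q ≠ 1 → Nat.Coprime ((p ^ q - 1) / (p - 1)) (p - 1) ∧ ∀ x : ℕ, x ∣ (p ^ q - 1) / (p - 1) → x % q = 1) := by
  have hp2' : 2 ≤ p := hp.two_le
  have hq2' : 2 ≤ q := hq.two_le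
  have hpodd : Odd p := hp.odd_of_ne_two hp2
  have hqodd : Odd q := hq.odd_of_ne_two hq2
  rw [geom_eq p q hp2']
  set N := ∑ i ∈ Finset.range q, p ^ i with hN
  have hNmul : N * (p - 1) = p ^ q - 1 := by
    have h := geom_sum_mul_add (p - 1) q
    have hp1 : p - 1 + 1 = p := by omega
    rw [hp1] at h
    rw [hN]; omega
  have hNpos : 0 < N := by
    rw [hN]
    apply Finset.sum_pos
    · intro i _; positivity
    · exact ⟨0, Finset.mem_range.mpr hq.pos⟩
  refine ⟨?_, ?_, ?_⟩
  · -- N odd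
    have h := sum_mod p q 2 (by rcases hpodd with ⟨k, rfl⟩; omega)
    rw [Nat.odd_iff, h]
    exact Nat.odd_iff.mp hqodd
  · intro h1
    have h := sum_mod p q q (by rw [h1, Nat.mod_eq_of_lt hq.one_lt])
    rw [Nat.mod_self] at h
    exact Nat.dvd_of_mod_eq_zero h
  · intro hne
    have hq_not_dvd : ¬ q ∣ p - 1 := by
      intro hd
      apply hne
      obtain ⟨k, hk⟩ := hd
      have : p = q * k + 1 := by omega
      rw [this, Nat.mul_add_mod, Nat.mod_eq_of_lt hq.one_lt]
    have hcop : Nat.Coprime N (p - 1) := by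
      have h := sum_mod p q (p - 1) (by
        have : p = (p - 1) + 1 := by omega
        conv_lhs => rw [this]
        simp)
      -- gcd N (p-1) = gcd (N % (p-1)) (p-1) = gcd (q % (p-1)) (p-1) = gcd q (p-1)
      have : Nat.gcd N (p - 1) = Nat.gcd q (p - 1) := by
        rw [Nat.gcd_comm N, Nat.gcd_comm q, Nat.gcd_rec, h, ← Nat.gcd_rec]
      rw [Nat.Coprime, this]
      exact (Nat.Prime.coprime_iff_not_dvd hq).mpr hq_not_dvd
    refine ⟨hcop, ?_⟩
    -- prime divisors
    have hprime : ∀ r : ℕ, r.Prime → r ∣ N → r % q = 1 := by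
      intro r hr hrN
      have : Fact r.Prime := ⟨hr⟩
      have hrpq : r ∣ p ^ q - 1 := by
        rw [← hNmul]; exact Dvd.dvd.mul_right hrN _
      have hpq1 : 1 ≤ p ^ q := Nat.one_le_pow _ _ (by omega)
      have hpow : ((p : ZMod r)) ^ q = 1 := by
        have : ((p ^ q - 1 : ℕ) : ZMod r) = 0 := (ZMod.natCast_eq_zero_iff _ _).mpr hrpq
        rw [Nat.cast_sub hpq1] at this
        push_cast at this
        exact sub_eq_zero.mp this
      have hp_ne : (p : ZMod r) ≠ 0 := by
        intro h0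
        rw [h0, zero_pow hq.ne_zero] at hpow
        exact zero_ne_one hpow
      have hp1 : (p : ZMod r) ≠ 1 := by
        intro h1
        have : r ∣ p - 1 := by
          have h2 : ((p - 1 : ℕ) : ZMod r) = 0 := by
            rw [Nat.cast_sub (by omega)]; push_cast; rw [h1]; simp
          exact (ZMod.natCast_eq_zero_iff _ _).mp h2
        have h3 : r ∣ Nat.gcd N (p - 1) := Nat.dvd_gcd hrN this
        rw [hcop] at h3
        exact hr.one_lt.ne' (Nat.dvd_one.mp h3)
      -- order of p in ZMod r is q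
      have hord : orderOf (p : ZMod r) = q := by
        have hdiv := orderOf_dvd_of_pow_eq_one hpow
        rcases (Nat.dvd_prime hq).mp hdiv with h | h
        · exact absurd (orderOf_eq_one_iff.mp h) hp1
        · exact h
      have hferm : (p : ZMod r) ^ (r - 1) = 1 := ZMod.pow_card_sub_one_eq_one hp_ne
      have hqr : q ∣ r - 1 := by
        rw [← hord]; exact orderOf_dvd_of_pow_eq_one hferm
      obtain ⟨k, hk⟩ := hqr
      have : r = q * k + 1 := by have := hr.one_lt; omega
      rw [this, Nat.mul_add_mod, Nat.mod_eq_of_lt hq.one_lt]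
    intro x hx
    have hx0 : x ≠ 0 := by
      rintro rfl
      exact hNpos.ne' (Nat.eq_zero_of_zero_dvd hx)
    induction x using Nat.recOnMul with
    | zero => exact absurd rfl hx0
    | one => exact Nat.mod_eq_of_lt hq.one_lt
    | prime r hr => exact hprime r hr hx
    | mul a b iha ihb =>
      have ha0 : a ≠ 0 := fun h => hx0 (by simp [h])
      have hb0 : b ≠ 0 := fun h => hx0 (by simp [h])
      have ha := iha (Dvd.dvd.trans (Dvd.intro _ rfl) hx) ha0
      have hb := ihb (Dvd.dvd.trans (Dvd.intro_left _ rfl) hx) hb0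
      rw [Nat.mul_mod, ha, hb]
      simp [Nat.mod_eq_of_lt hq.one_lt]

end Cfsg.Agent.S1546
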