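import Cfsg.Statements.S1552
import Mathlib
import Cfsg.Agent.Lib.Helper26.SextetOrbits
import Cfsg.Agent.Lib.Helper26.Primitive

set_option autoImplicit false
open scoped Pointwise
open Cfsg

namespace Cfsg.Agent.S1552

open Cfsg.Agent.Helper26

/-- The sextets with a given pattern relative to `S`. -/
def Ocl (S : Finset (Finset GolayPt)) (i : ℕ) : Set (Finset (Finset GolayPt)) :=
  {X | X ∈ sextets ∧ pat S X = sxPat i}

theorem orbit_eq {S X : Finset (Finset GolayPt)} (hS : S ∈ sextets) {i : ℕ} (hX : X ∈ Ocl S i) :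
    MulAction.orbit ↥(MulAction.stabilizer M24 S) X = Ocl S i := by
  ext Y
  constructor
  · rintro ⟨⟨⟨g, hg⟩, hstab⟩, rfl⟩
    have hgS : g • S = S := hstab
    refine ⟨smul_mem_sextets hg hX.1, ?_⟩
    show pat S (g • X) = sxPat i
    conv_lhs => rw [← hgS]
    rw [pat_smul]
    exact hX.2
  · intro hY
    obtain ⟨g, hg, h1, h2⟩ := sextet_trans hS hX.1 hY.1 (hX.2.trans hY.2.symm)
    exact ⟨⟨⟨g, hg⟩, h1⟩, h2⟩

theorem orbit_M24 {S : Finset (Finset GolayPt)} (hS : S ∈ sextets) :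
    MulAction.orbit M24 S = sextets := by
  ext X
  constructor
  · rintro ⟨⟨g, hg⟩, rfl⟩
    exact smul_mem_sextets hg hS
  · intro hX
    obtain ⟨g, hg, h⟩ := sextets_transitive hS hX
    exact ⟨⟨g, hg⟩, h⟩

/-- The suborbit sizes. -/
def nn : Fin 3 → ℕ := ![90, 240, 1440]

theorem arith : ∀ I : Finset (Fin 3), (1 + ∑ i ∈ I, nn i) ∣ 1771 → I = ∅ ∨ 1 + ∑ i ∈ I, nn i = 1771 := by
  decide

theorem count_eq (S : Finset (Finset GolayPt)) (hS : S ∈ sextets) (i : Fin 3) :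
    (Ocl S (i.val + 1)).ncard = nn i := by
  have := sextet_count hS (i := i.val + 1) (by omega)
  unfold Ocl
  rw [this]
  fin_cases i <;> rfl

theorem exists_mem_Ocl (S : Finset (Finset GolayPt)) (hS : S ∈ sextets) (i : Fin 3) :
    ∃ X, X ∈ Ocl S (i.val + 1) := by
  have h := count_eq S hS i
  have : (Ocl S (i.val + 1)).Nonempty := by
    apply Set.nonempty_of_ncard_ne_zero
    rw [h]
    fin_cases i <;> simp [nn]
  exact this

/-- The suborbits of a sextet stabiliser on the 1771 sextets have lengths 1, 90, 240 and 1440; consequently the stabiliser is a maximal subgroup. -/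
theorem result (S : Finset (Finset Cfsg.GolayPt)) (hS : S ∈ Cfsg.sextets) : ∃ X₁ ∈ Cfsg.sextets, ∃ X₂ ∈ Cfsg.sextets, ∃ X₃ ∈ Cfsg.sextets, (MulAction.orbit ↥(MulAction.stabilizer Cfsg.M24 S) X₁).ncard = 90 ∧ (MulAction.orbit ↥(MulAction.stabilizer Cfsg.M24 S) X₂).ncard = 240 ∧ (MulAction.orbit ↥(MulAction.stabilizer Cfsg.M24 S) X₃).ncard = 1440 ∧ Cfsg.sextets = {S} ∪ MulAction.orbit ↥(MulAction.stabilizer Cfsg.M24 S) X₁ ∪ MulAction.orbit ↥(MulAction.stabilizer Cfsg.M24 S) X₂ ∪ MulAction.orbit ↥(MulAction.stabilizer Cfsg.M24 S) X₃ ∧ IsCoatom (MulAction.stabilizer Cfsg.M24 S) := by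
  obtain ⟨X₁, hX₁⟩ := exists_mem_Ocl S hS 0
  obtain ⟨X₂, hX₂⟩ := exists_mem_Ocl S hS 1
  obtain ⟨X₃, hX₃⟩ := exists_mem_Ocl S hS 2
  refine ⟨X₁, hX₁.1, X₂, hX₂.1, X₃, hX₃.1, ?_, ?_, ?_, ?_, ?_⟩
  · rw [orbit_eq hS hX₁]; exact count_eq S hS 0
  · rw [orbit_eq hS hX₂]; exact count_eq S hS 1
  · rw [orbit_eq hS hX₃]; exact count_eq S hS 2
  · rw [orbit_eq hS hX₁, orbit_eq hS hX₂, orbit_eq hS hX₃]
    ext X
    simp only [Set.mem_union, Set.mem_singleton_iff]
    constructor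
    · intro hX
      obtain ⟨i, hi, hp⟩ := sextet_class hS hX
      interval_cases i
      · exact Or.inl (Or.inl (Or.inl ((sextet_pat_zero hS hX).mp hp)))
      · exact Or.inl (Or.inl (Or.inr ⟨hX, hp⟩))
      · exact Or.inl (Or.inr ⟨hX, hp⟩)
      · exact Or.inr ⟨hX, hp⟩
    · rintro (((rfl | h) | h) | h)
      · exact hS
      · exact h.1
      · exact h.1
      · exact h.1
  · refine isCoatom_stabilizer_of_suborbits (G := M24) S 3 (fun i => Ocl S (i.val + 1)) nn 1771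
      ?_ ?_ ?_ ?_ ?_ ?_ arith (by norm_num)
    · rw [orbit_M24 hS, ncard_sextets]
    · intro X hX
      rw [orbit_M24 hS] at hX
      obtain ⟨i, hi, hp⟩ := sextet_class hS hX
      interval_cases i
      · exact Or.inl ((sextet_pat_zero hS hX).mp hp)
      · exact Or.inr ⟨0, hX, hp⟩
      · exact Or.inr ⟨1, hX, hp⟩
      · exact Or.inr ⟨2, hX, hp⟩
    · intro i X hX Y hY
      obtain ⟨g, hg, h1, h2⟩ := sextet_trans hS hX.1 hY.1 (hX.2.trans hY.2.symm)
      exact ⟨⟨g, hg⟩, h1, h2⟩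
    · intro i hi
      have h0 := (sextet_pat_zero hS hS).mpr rfl
      have := sxPat_inj 0 (by norm_num) (i.val + 1) (by omega) (h0.symm.trans hi.2)
      omega
    · intro i j hij
      rw [Set.disjoint_left]
      intro X hX hX'
      apply hij
      have := sxPat_inj (i.val + 1) (by omega) (j.val + 1) (by omega) (hX.2.symm.trans hX'.2)
      exact Fin.ext (by omega)
    · intro i
      exact count_eq S hS i

end Cfsg.Agent.S1552
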