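import Cfsg.Statements.S1555
import Mathlib
import Cfsg.Agent.Lib.Helper27.Trans
import Cfsg.Agent.Lib.Helper27.Subs

set_option autoImplicit false
set_option maxRecDepth 1000000
open scoped Pointwise
open Cfsg

namespace Cfsg.Agent.S1555

open Cfsg.Agent.Helper27

/-- Submasks of the base octad. -/
def subs : List ℕ := subsOf (bitsOf oct0)

/-- Number of octads meeting the base octad exactly in the mask `m`. -/
def cnt (m : ℕ) : ℕ := (octadList.filter fun o' => Nat.beq (Nat.land oct0 o') m).length

theorem check2 : (subs.filter fun m => pop m == 2).all (fun m => cnt m == 16) = true := by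
  decide +kernel

theorem check4 : (subs.filter fun m => pop m == 4).all (fun m => cnt m == 4) = true := by
  decide +kernel

theorem base_set_eq (m : ℕ) (hm : m < 2 ^ 24) :
    {s : Finset GolayPt | s ∈ octads ∧ toFinset oct0 ∩ s = toFinset m} =
      {s | ∃ k ∈ octadList.filter (fun o' => Nat.beq (Nat.land oct0 o') m), s = toFinset k} := by
  ext s
  simp only [Set.mem_ofPred_eq]
  constructor
  · rintro ⟨hs, hc⟩
    obtain ⟨k, hk, rfl⟩ := mem_octads_iff'.mp hs
    refine ⟨k, ?_, rfl⟩
    rw [List.mem_filter]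
    refine ⟨hk, ?_⟩
    rw [← toFinset_and] at hc
    have hlt : oct0 &&& k < 2 ^ 24 := lt_of_le_of_lt Nat.and_le_right (octadList_lt hk)
    have := toFinset_inj hlt hm hc
    show Nat.beq (oct0 &&& k) m = true
    rw [this]
    exact Nat.beq_refl m
  · rintro ⟨k, hk, rfl⟩
    rw [List.mem_filter] at hk
    obtain ⟨hk1, hk2'⟩ := hk
    have hk2 : oct0 &&& k = m := Nat.eq_of_beq_eq_true hk2'
    refine ⟨toFinset_mem_octads hk1, ?_⟩
    rw [← toFinset_and]
    exact congrArg toFinset hk2

theorem base_count (m : ℕ) (hm : m < 2 ^ 24) :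
    {s : Finset GolayPt | s ∈ octads ∧ toFinset oct0 ∩ s = toFinset m}.ncard = cnt m := by
  rw [base_set_eq m hm, ncard_of_list]
  · rfl
  · exact octadList_nodup.filter _
  · intro k hk
    exact octadList_lt (List.mem_of_mem_filter hk)

theorem base_result (s0 : Finset GolayPt) (hs0 : s0 ⊆ toFinset oct0) :
    (s0.card = 2 → {o' : Finset GolayPt | o' ∈ octads ∧ toFinset oct0 ∩ o' = s0}.ncard = 16) ∧
    (s0.card = 4 → {o' : Finset GolayPt | o' ∈ octads ∧ toFinset oct0 ∩ o' = s0}.ncard = 4) := by
  obtain ⟨m, hm, hlt, rfl⟩ := exists_submask hs0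
  rw [base_count m hlt, card_toFinset]
  constructor
  · intro h
    have := List.all_eq_true.mp check2 m (List.mem_filter.mpr ⟨hm, by simpa using h⟩)
    simpa using this
  · intro h
    have := List.all_eq_true.mp check4 m (List.mem_filter.mpr ⟨hm, by simpa using h⟩)
    simpa using this

/-- Bottom row of the Leech triangle: an octad is met in a prescribed pair of its points by exactly 16 octads and in a prescribed 4-subset by exactly 4 octads. -/
theorem result (o : Finset Cfsg.GolayPt) (ho : o ∈ Cfsg.octads) (s : Finset Cfsg.GolayPt) (hs : s ⊆ o) : (s.card = 2 → {o' : Finset Cfsg.GolayPt | o' ∈ Cfsg.octads ∧ o ∩ o' = s}.ncard = 16) ∧ (s.card = 4 → {o' : Finset Cfsg.GolayPt | o' ∈ Cfsg.octads ∧ o ∩ o' = s}.ncard = 4) := by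
  obtain ⟨h, hh, rfl⟩ := octads_transitive ho
  have hs0 : h⁻¹ • s ⊆ toFinset oct0 := by
    rw [← Finset.subset_smul_finset_iff]
    exact hs
  have hcard : (h⁻¹ • s).card = s.card := Finset.card_smul_finset _ _
  have htr : {o' : Finset GolayPt | o' ∈ octads ∧ h • toFinset oct0 ∩ o' = s}.ncard =
      {o' : Finset GolayPt | o' ∈ octads ∧ toFinset oct0 ∩ o' = h⁻¹ • s}.ncard := by
    apply ncard_transport h
    intro s'
    simp only [Set.mem_ofPred_eq]
    rw [smul_mem_octads hh, ← Finset.smul_finset_inter, smul_eq_iff_eq_inv_smul]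
  rw [htr, ← hcard]
  exact base_result _ hs0

end Cfsg.Agent.S1555
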