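import Cfsg.Statements.S1557
import Mathlib
import Cfsg.Agent.Lib.Helper26.GolayCount

set_option autoImplicit false
open scoped Pointwise
open Cfsg

namespace Cfsg.Agent.S1557

open Cfsg.Agent.Helper26

lemma compl_union_mem {o o' : Finset GolayPt} (ho : o ∈ octads) (ho' : o' ∈ octads)
    (hd : Disjoint o o') : (o ∪ o')ᶜ ∈ octads := by
  have h1 : symmDiff o o' = o ∪ o' := Disjoint.symmDiff_eq_sup hd
  have h2 : o ∪ o' ∈ codeSets := h1 ▸ codeSets_symmDiff ho.1 ho'.1
  have h3 : (o ∪ o')ᶜ = symmDiff (o ∪ o') Finset.univ := by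
    ext x; simp [Finset.mem_symmDiff]
  refine ⟨h3 ▸ codeSets_symmDiff h2 univ_mem_codeSets, ?_⟩
  rw [Finset.card_compl, card_golayPt, Finset.card_union_of_disjoint hd, ho.2, ho'.2]

lemma octad_nonempty {o : Finset GolayPt} (ho : o ∈ octads) : o.Nonempty := by
  rw [← Finset.card_pos, ho.2]; norm_num

lemma ne_of_disjoint_octads {o o' : Finset GolayPt} (ho : o ∈ octads) (hd : Disjoint o o') :
    o ≠ o' := by
  rintro rfl
  exact (octad_nonempty ho).ne_empty (Finset.disjoint_self_iff_empty _ |>.mp hd)

/-- The third octad of a trio is determined by the other two. -/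
lemma third_eq {o o' o'' : Finset GolayPt} (ho : o ∈ octads) (ho' : o' ∈ octads)
    (ho'' : o'' ∈ octads) (h1 : Disjoint o o') (h2 : Disjoint o o'') (h3 : Disjoint o' o'') :
    o'' = (o ∪ o')ᶜ := by
  apply Finset.eq_of_subset_of_card_le
  · intro x hx
    rw [Finset.mem_compl, Finset.mem_union]
    rintro (h | h)
    · exact Finset.disjoint_left.mp h2 h hx
    · exact Finset.disjoint_left.mp h3 h hx
  · rw [(compl_union_mem ho ho' h1).2, ho''.2]

open scoped Classical in
/-- The trios, as a finset. -/
noncomputable def trioFinset : Finset (Finset (Finset GolayPt)) :=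
  (octadFinset.powersetCard 3).filter (fun T => ∀ o ∈ T, ∀ o' ∈ T, o ≠ o' → Disjoint o o')

lemma mem_trioFinset (T : Finset (Finset GolayPt)) : T ∈ trioFinset ↔ T ∈ trios := by
  classical
  simp only [trioFinset, Finset.mem_filter, Finset.mem_powersetCard, trios, Set.mem_ofPred_eq]
  constructor
  · rintro ⟨⟨hsub, hcard⟩, hd⟩
    exact ⟨hcard, fun o ho => (mem_octadFinset o).mp (hsub ho), hd⟩
  · rintro ⟨hcard, hoct, hd⟩
    exact ⟨⟨fun o ho => (mem_octadFinset o).mpr (hoct o ho), hcard⟩, hd⟩

/-- The trio determined by two disjoint octads. -/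
def trioOf (o o' : Finset GolayPt) : Finset (Finset GolayPt) := {o, o', (o ∪ o')ᶜ}

lemma trioOf_mem {o o' : Finset GolayPt} (ho : o ∈ octads) (ho' : o' ∈ octads)
    (hd : Disjoint o o') : trioOf o o' ∈ trios := by
  have h3 := compl_union_mem ho ho' hd
  have hd1 : Disjoint o (o ∪ o')ᶜ := by
    rw [Finset.disjoint_left]; intro x hx hx'
    exact (Finset.mem_compl.mp hx') (Finset.mem_union_left _ hx)
  have hd2 : Disjoint o' (o ∪ o')ᶜ := by
    rw [Finset.disjoint_left]; intro x hx hx'
    exact (Finset.mem_compl.mp hx') (Finset.mem_union_right _ hx)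
  have hne1 := ne_of_disjoint_octads ho hd
  have hne2 := ne_of_disjoint_octads ho hd1
  have hne3 := ne_of_disjoint_octads ho' hd2
  refine ⟨?_, ?_, ?_⟩
  · rw [trioOf, Finset.card_insert_of_notMem, Finset.card_insert_of_notMem,
      Finset.card_singleton]
    · simpa using hne3
    · simp only [Finset.mem_insert, Finset.mem_singleton, not_or]; exact ⟨hne1, hne2⟩
  · intro x hx
    simp only [trioOf, Finset.mem_insert, Finset.mem_singleton] at hx
    rcases hx with rfl | rfl | rfl <;> assumption
  · intro x hx y hy hxy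
    simp only [trioOf, Finset.mem_insert, Finset.mem_singleton] at hx hy
    rcases hx with rfl | rfl | rfl <;> rcases hy with rfl | rfl | rfl
    · exact absurd rfl hxy
    · exact hd
    · exact hd1
    · exact hd.symm
    · exact absurd rfl hxy
    · exact hd2
    · exact hd1.symm
    · exact hd2.symm
    · exact absurd rfl hxy

/-- A trio is determined by any two distinct members. -/
lemma eq_trioOf {T : Finset (Finset GolayPt)} (hT : T ∈ trios) {o o' : Finset GolayPt}
    (ho : o ∈ T) (ho' : o' ∈ T) (hne : o ≠ o') : T = trioOf o o' := by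
  classical
  obtain ⟨hcard, hoct, hdis⟩ := hT
  have hsub : ({o, o'} : Finset (Finset GolayPt)) ⊆ T := by
    intro x hx
    simp only [Finset.mem_insert, Finset.mem_singleton] at hx
    rcases hx with rfl | rfl <;> assumption
  have hc2 : ({o, o'} : Finset (Finset GolayPt)).card = 2 := Finset.card_pair hne
  have hex : ∃ o'' ∈ T, o'' ∉ ({o, o'} : Finset (Finset GolayPt)) := by
    by_contra hcon
    push Not at hcon
    have : T ⊆ {o, o'} := hcon
    have := Finset.card_le_card this
    omega
  obtain ⟨o'', ho'', hnot⟩ := hex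
  simp only [Finset.mem_insert, Finset.mem_singleton, not_or] at hnot
  have h1 := hdis o ho o' ho' hne
  have h2 := hdis o ho o'' ho'' (Ne.symm hnot.1)
  have h3 := hdis o' ho' o'' ho'' (Ne.symm hnot.2)
  have h4 := third_eq (hoct o ho) (hoct o' ho') (hoct o'' ho'') h1 h2 h3
  symm
  apply Finset.eq_of_subset_of_card_le
  · intro x hx
    simp only [trioOf, Finset.mem_insert, Finset.mem_singleton] at hx
    rcases hx with rfl | rfl | rfl
    · exact ho
    · exact ho'
    · rw [← h4]; exact ho''
  · rw [hcard, (trioOf_mem (hoct o ho) (hoct o' ho') h1).1]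

open scoped Classical in
/-- Ordered pairs of disjoint octads. -/
noncomputable def disjPairs : Finset (Σ _ : Finset GolayPt, Finset GolayPt) :=
  octadFinset.sigma (fun o => octadFinset.filter (fun o' => Disjoint o o'))

lemma card_disjPairs : disjPairs.card = 759 * 30 := by
  classical
  rw [disjPairs, Finset.card_sigma]
  have : ∀ o ∈ octadFinset, (octadFinset.filter (fun o' => Disjoint o o')).card = 30 := by
    intro o ho
    exact card_disjoint_octads ((mem_octadFinset o).mp ho)
  rw [Finset.sum_congr rfl this, Finset.sum_const, card_octadFinset, smul_eq_mul]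

open scoped Classical in
/-- Trios with an ordered pair of distinct members. -/
noncomputable def flagged : Finset (Σ _ : Finset (Finset GolayPt), Finset GolayPt × Finset GolayPt) :=
  trioFinset.sigma (fun T => T.offDiag)

lemma card_flagged : flagged.card = trioFinset.card * 6 := by
  classical
  rw [flagged, Finset.card_sigma]
  have : ∀ T ∈ trioFinset, T.offDiag.card = 6 := by
    intro T hT
    rw [Finset.offDiag_card, ((mem_trioFinset T).mp hT).1]
  rw [Finset.sum_congr rfl this, Finset.sum_const, smul_eq_mul]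

lemma card_flagged_eq : flagged.card = disjPairs.card := by
  classical
  refine Finset.card_bij (fun x _ => ⟨x.2.1, x.2.2⟩) ?_ ?_ ?_
  · rintro ⟨T, o, o'⟩ hx
    simp only [flagged, Finset.mem_sigma, Finset.mem_offDiag] at hx
    obtain ⟨hT, ho, ho', hne⟩ := hx
    have hT' := (mem_trioFinset T).mp hT
    simp only [disjPairs, Finset.mem_sigma, Finset.mem_filter, mem_octadFinset]
    exact ⟨hT'.2.1 o ho, hT'.2.1 o' ho', hT'.2.2 o ho o' ho' hne⟩
  · rintro ⟨T, o, o'⟩ hx ⟨T', p, p'⟩ hy heq
    simp only [flagged, Finset.mem_sigma, Finset.mem_offDiag] at hx hy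
    simp only [Sigma.mk.injEq, heq_eq_eq] at heq
    obtain ⟨rfl, rfl⟩ := heq
    have e1 := eq_trioOf ((mem_trioFinset T).mp hx.1) hx.2.1 hx.2.2.1 hx.2.2.2
    have e2 := eq_trioOf ((mem_trioFinset T').mp hy.1) hy.2.1 hy.2.2.1 hy.2.2.2
    rw [e1, e2]
  · rintro ⟨o, o'⟩ hy
    simp only [disjPairs, Finset.mem_sigma, Finset.mem_filter, mem_octadFinset] at hy
    obtain ⟨ho, ho', hd⟩ := hy
    refine ⟨⟨trioOf o o', o, o'⟩, ?_, rfl⟩
    simp only [flagged, Finset.mem_sigma, Finset.mem_offDiag, mem_trioFinset]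
    refine ⟨trioOf_mem ho ho' hd, ?_, ?_, ne_of_disjoint_octads ho hd⟩
    · simp [trioOf]
    · simp [trioOf]

theorem result : (∀ o o' : Finset Cfsg.GolayPt, o ∈ Cfsg.octads → o' ∈ Cfsg.octads → Disjoint o o' → (o ∪ o')ᶜ ∈ Cfsg.octads) ∧ Cfsg.trios.ncard = 3795 := by
  refine ⟨fun o o' ho ho' hd => compl_union_mem ho ho' hd, ?_⟩
  have h1 : trios = ↑trioFinset := by
    ext T; exact (mem_trioFinset T).symm
  rw [h1, Set.ncard_coe_finset]
  have h2 := card_flagged
  rw [card_flagged_eq, card_disjPairs] at h2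
  omega

end Cfsg.Agent.S1557
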