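import Cfsg.Statements.S1559
import Mathlib
import Cfsg.Agent.Lib.Helper26.TrioOrbits
import Cfsg.Agent.Lib.Helper26.Primitive

set_option autoImplicit false
open scoped Pointwise
open Cfsg

namespace Cfsg.Agent.S1559

open Cfsg.Agent.Helper26

/-- The trios with a given pattern relative to `T`. -/
def Ocl (T : Finset (Finset GolayPt)) (i : ℕ) : Set (Finset (Finset GolayPt)) :=
  {X | X ∈ trios ∧ pat T X = trPat i}

theorem orbit_eq {T X : Finset (Finset GolayPt)} (hT : T ∈ trios) {i : ℕ} (hX : X ∈ Ocl T i) :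
    MulAction.orbit ↥(MulAction.stabilizer M24 T) X = Ocl T i := by
  ext Y
  constructor
  · rintro ⟨⟨⟨g, hg⟩, hstab⟩, rfl⟩
    have hgT : g • T = T := hstab
    refine ⟨smul_mem_trios hg hX.1, ?_⟩
    show pat T (g • X) = trPat i
    conv_lhs => rw [← hgT]
    rw [pat_smul]
    exact hX.2
  · intro hY
    obtain ⟨g, hg, h1, h2⟩ := trio_trans hT hX.1 hY.1 (hX.2.trans hY.2.symm)
    exact ⟨⟨⟨g, hg⟩, h1⟩, h2⟩

theorem orbit_M24 {T : Finset (Finset GolayPt)} (hT : T ∈ trios) :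
    MulAction.orbit M24 T = trios := by
  ext X
  constructor
  · rintro ⟨⟨g, hg⟩, rfl⟩
    exact smul_mem_trios hg hT
  · intro hX
    obtain ⟨g, hg, h⟩ := trios_transitive hT hX
    exact ⟨⟨g, hg⟩, h⟩

/-- The suborbit sizes. -/
def nn : Fin 4 → ℕ := ![42, 56, 1008, 2688]

theorem arith : ∀ I : Finset (Fin 4), (1 + ∑ i ∈ I, nn i) ∣ 3795 → I = ∅ ∨ 1 + ∑ i ∈ I, nn i = 3795 := by
  decide

theorem count_eq (T : Finset (Finset GolayPt)) (hT : T ∈ trios) (i : Fin 4) :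
    (Ocl T (i.val + 1)).ncard = nn i := by
  have := trio_count hT (i := i.val + 1) (by omega)
  unfold Ocl
  rw [this]
  fin_cases i <;> rfl

theorem exists_mem_Ocl (T : Finset (Finset GolayPt)) (hT : T ∈ trios) (i : Fin 4) :
    ∃ X, X ∈ Ocl T (i.val + 1) := by
  have h := count_eq T hT i
  have : (Ocl T (i.val + 1)).Nonempty := by
    apply Set.nonempty_of_ncard_ne_zero
    rw [h]
    fin_cases i <;> simp [nn]
  exact this

/-- The suborbits of a trio stabiliser on the 3795 trios have lengths 1, 42, 56, 1008 and 2688; consequently the stabiliser is a maximal subgroup. -/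
theorem result (T : Finset (Finset Cfsg.GolayPt)) (hT : T ∈ Cfsg.trios) : ∃ X₁ ∈ Cfsg.trios, ∃ X₂ ∈ Cfsg.trios, ∃ X₃ ∈ Cfsg.trios, ∃ X₄ ∈ Cfsg.trios, (MulAction.orbit ↥(MulAction.stabilizer Cfsg.M24 T) X₁).ncard = 42 ∧ (MulAction.orbit ↥(MulAction.stabilizer Cfsg.M24 T) X₂).ncard = 56 ∧ (MulAction.orbit ↥(MulAction.stabilizer Cfsg.M24 T) X₃).ncard = 1008 ∧ (MulAction.orbit ↥(MulAction.stabilizer Cfsg.M24 T) X₄).ncard = 2688 ∧ Cfsg.trios = {T} ∪ MulAction.orbit ↥(MulAction.stabilizer Cfsg.M24 T) X₁ ∪ MulAction.orbit ↥(MulAction.stabilizer Cfsg.M24 T) X₂ ∪ MulAction.orbit ↥(MulAction.stabilizer Cfsg.M24 T) X₃ ∪ MulAction.orbit ↥(MulAction.stabilizer Cfsg.M24 T) X₄ ∧ IsCoatom (MulAction.stabilizer Cfsg.M24 T) := by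
  obtain ⟨X₁, hX₁⟩ := exists_mem_Ocl T hT 0
  obtain ⟨X₂, hX₂⟩ := exists_mem_Ocl T hT 1
  obtain ⟨X₃, hX₃⟩ := exists_mem_Ocl T hT 2
  obtain ⟨X₄, hX₄⟩ := exists_mem_Ocl T hT 3
  refine ⟨X₁, hX₁.1, X₂, hX₂.1, X₃, hX₃.1, X₄, hX₄.1, ?_, ?_, ?_, ?_, ?_, ?_⟩
  · rw [orbit_eq hT hX₁]; exact count_eq T hT 0
  · rw [orbit_eq hT hX₂]; exact count_eq T hT 1
  · rw [orbit_eq hT hX₃]; exact count_eq T hT 2
  · rw [orbit_eq hT hX₄]; exact count_eq T hT 3
  · rw [orbit_eq hT hX₁, orbit_eq hT hX₂, orbit_eq hT hX₃, orbit_eq hT hX₄]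
    ext X
    simp only [Set.mem_union, Set.mem_singleton_iff]
    constructor
    · intro hX
      obtain ⟨i, hi, hp⟩ := trio_class hT hX
      interval_cases i
      · exact Or.inl (Or.inl (Or.inl (Or.inl ((trio_pat_zero hT hX).mp hp))))
      · exact Or.inl (Or.inl (Or.inl (Or.inr ⟨hX, hp⟩)))
      · exact Or.inl (Or.inl (Or.inr ⟨hX, hp⟩))
      · exact Or.inl (Or.inr ⟨hX, hp⟩)
      · exact Or.inr ⟨hX, hp⟩
    · rintro ((((rfl | h) | h) | h) | h)
      · exact hT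
      · exact h.1
      · exact h.1
      · exact h.1
      · exact h.1
  · refine isCoatom_stabilizer_of_suborbits (G := M24) T 4 (fun i => Ocl T (i.val + 1)) nn 3795
      ?_ ?_ ?_ ?_ ?_ ?_ arith (by norm_num)
    · rw [orbit_M24 hT, ncard_trios]
    · intro X hX
      rw [orbit_M24 hT] at hX
      obtain ⟨i, hi, hp⟩ := trio_class hT hX
      interval_cases i
      · exact Or.inl ((trio_pat_zero hT hX).mp hp)
      · exact Or.inr ⟨0, hX, hp⟩
      · exact Or.inr ⟨1, hX, hp⟩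
      · exact Or.inr ⟨2, hX, hp⟩
      · exact Or.inr ⟨3, hX, hp⟩
    · intro i X hX Y hY
      obtain ⟨g, hg, h1, h2⟩ := trio_trans hT hX.1 hY.1 (hX.2.trans hY.2.symm)
      exact ⟨⟨g, hg⟩, h1, h2⟩
    · intro i hi
      have h0 := (trio_pat_zero hT hT).mpr rfl
      have := trPat_inj 0 (by norm_num) (i.val + 1) (by omega) (h0.symm.trans hi.2)
      omega
    · intro i j hij
      rw [Set.disjoint_left]
      intro X hX hX'
      apply hij
      have := trPat_inj (i.val + 1) (by omega) (j.val + 1) (by omega) (hX.2.symm.trans hX'.2)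
      exact Fin.ext (by omega)
    · intro i
      exact count_eq T hT i

end Cfsg.Agent.S1559
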