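import Cfsg.Statements.S1560
import Mathlib
import Cfsg.Agent.Lib.Helper27.Trans
import Cfsg.Agent.Lib.Helper26.GolayFacts

set_option autoImplicit false
set_option maxRecDepth 1000000
open scoped Pointwise
open Cfsg

namespace Cfsg.Agent.S1560

open Cfsg.Agent.Helper27

/-- intersection size with the base dodecad -/
def inv0 (m : ℕ) : ℕ := pop (dod0 &&& m)

theorem count4 : (dodecadList.filter fun m => inv0 m == 4).length = 495 := by decide +kernel

theorem count6 : (dodecadList.filter fun m => inv0 m == 6).length = 1584 := by decide +kernel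

theorem count8 : (dodecadList.filter fun m => inv0 m == 8).length = 495 := by decide +kernel

theorem base_set_eq (k : ℕ) :
    {s : Finset GolayPt | s ∈ dodecads ∧ (toFinset dod0 ∩ s).card = k} =
      {s | ∃ m ∈ dodecadList.filter (fun m => inv0 m == k), s = toFinset m} := by
  ext s
  simp only [Set.mem_ofPred_eq]
  constructor
  · rintro ⟨hs, hc⟩
    obtain ⟨m, hm, rfl⟩ := mem_dodecads_iff'.mp hs
    refine ⟨m, ?_, rfl⟩
    rw [List.mem_filter, beq_iff_eq]
    refine ⟨hm, ?_⟩
    unfold inv0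
    rw [← card_toFinset, toFinset_and, hc]
  · rintro ⟨m, hm, rfl⟩
    rw [List.mem_filter, beq_iff_eq] at hm
    obtain ⟨hm1, hm2⟩ := hm
    refine ⟨toFinset_mem_dodecads hm1, ?_⟩
    unfold inv0 at hm2
    rw [← toFinset_and, card_toFinset, hm2]

theorem base_count (k : ℕ) :
    {s : Finset GolayPt | s ∈ dodecads ∧ (toFinset dod0 ∩ s).card = k}.ncard =
      (dodecadList.filter (fun m => inv0 m == k)).length := by
  rw [base_set_eq, ncard_of_list]
  · exact dodecadList_nodup.filter _
  · intro m hm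
    exact dodecadList_lt (List.mem_of_mem_filter hm)

theorem count_transport (h : Equiv.Perm GolayPt) (hh : h ∈ M24) (k : ℕ) :
    {s : Finset GolayPt | s ∈ dodecads ∧ (h • toFinset dod0 ∩ s).card = k}.ncard =
      (dodecadList.filter (fun m => inv0 m == k)).length := by
  rw [← base_count]
  apply ncard_transport h
  intro s
  simp only [Set.mem_ofPred_eq]
  rw [smul_mem_dodecads hh, card_smul_inter]

theorem result (d : Finset Cfsg.GolayPt) (hd : d ∈ Cfsg.dodecads) : (∀ d' ∈ Cfsg.dodecads, d' ≠ d → (d ∩ d').card = 0 ∨ (d ∩ d').card = 4 ∨ (d ∩ d').card = 6 ∨ (d ∩ d').card = 8) ∧ {d' : Finset Cfsg.GolayPt | d' ∈ Cfsg.dodecads ∧ (d ∩ d').card = 4}.ncard = 495 ∧ {d' : Finset Cfsg.GolayPt | d' ∈ Cfsg.dodecads ∧ (d ∩ d').card = 6}.ncard = 1584 ∧ {d' : Finset Cfsg.GolayPt | d' ∈ Cfsg.dodecads ∧ (d ∩ d').card = 8}.ncard = 495 := by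
  refine ⟨?_, ?_⟩
  · intro d' hd' hne
    have h := Cfsg.Agent.Helper26.card_symmDiff_add d d'
    have hne' : symmDiff d d' ≠ ∅ := by
      intro h0
      apply hne
      have : symmDiff d d' = ⊥ := h0
      exact (symmDiff_eq_bot.mp this).symm
    have hmem := Cfsg.Agent.Helper26.codeSets_symmDiff hd.1 hd'.1
    have h3 := Cfsg.Agent.Helper26.card_of_mem_codeSets hmem
    have h0 : (symmDiff d d').card ≠ 0 := fun h => hne' (Finset.card_eq_zero.mp h)
    rw [hd.2, hd'.2] at h
    omega
  · obtain ⟨h, hh, rfl⟩ := dodecads_transitive hd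
    refine ⟨?_, ?_, ?_⟩
    · rw [count_transport h hh 4, count4]
    · rw [count_transport h hh 6, count6]
    · rw [count_transport h hh 8, count8]

end Cfsg.Agent.S1560
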