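import Cfsg.Statements.S1561
import Mathlib
import Cfsg.Agent.Lib.Helper27.Trans

set_option autoImplicit false
set_option maxRecDepth 1000000
open scoped Pointwise
open Cfsg

namespace Cfsg.Agent.S1561

open Cfsg.Agent.Helper27

/-- Generators (with inverses) of a subgroup of the stabiliser of the base dodecad. -/
def gens2 : List (ℕ × ℕ) :=
  [(540633548127200360497010307201780931, 431756821791781880285010891046404342),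
   (351112202149195266680554018776154403, 482090678061091397921155638045460642),
   (431756821791781880285010891046404342, 540633548127200360497010307201780931),
   (482090678061091397921155638045460642, 351112202149195266680554018776154403)]

def words2 : List (List ℕ) :=
  [[], [], [1,1,0,3,2], [0,1,1,0,3,2,2], [1,2,3,3,0,0], [0,1,0,3,0,0], [2,1,0,3,3], [0,3,3,2,3,2],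
   [0,1,0,1,2,1], [3,0,0], [], [1,2,2,2], [1,2,2], [0,0,0,1,0], [0,3,0,1,1], [1,0,0,3,0,3],
   [0,0,0,1,0,3,2], [2,3,2,3], [1,2,3,2,2,1], [0,1,2,3,3], [2,1,2,3,3,3], [1,1,0,3,0,0,3],
   [1,1,0,3], [3,3,0,3,0,0], [1,2,3,2,2,1], [3,3,3], [3,0,1,1,2,1], [1,2,1,1,1,0,0], [0,1,0,0,1,2],
   [3,0,3,2], [0,0,3,3,0], [2,3,3,3,3,2,3], [0,1,0,0,1,1], [2,2,1,1,2,1], [0,3,3,0,1,2,3,2],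
   [0,3,0,1,1,0], [1,0,1,1,2,3], [1,2,2,1], [0,3,2,2,1,1,1], [2,1,0,0,1,0,0], [1,2,1],
   [3,0,0,1,0,3], [3,3,2,3,2,3], [0,3,3,2,3], [2,2,3,2,2,3,0], [3,2,2,3], [1,1,0,1,0], [0,3,0,1,2],
   [2,1,0,1,0,1], [1,0,3], [3,3,3,2], [2,3,3,0], [0,1,2,1,0,1], [3,0,3,2,2], [3,0,3,3,0],
   [1,0,1,1,1,1], [1,1,1,2,1,0], [1,0,0,1,2,3], [1,0,0,3,3], [2,3,0,3,2,3], [1,2,1,2],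
   [0,1,0,1,2,1], [0,1,0,0,0,0], [2,3,2,3,2], [1,0,0,3], [2,1,2,1,0,0], [0,3,3,2,1,0], [1,0,0,3,3],
   [0,3,0,1,2,2], [2,3,0,0,1,1], [0,0,1,1,0,3,3,3], [1,2,2,1,2], [0,0,0,1], [2,2,2,3,0,1],
   [1,0,1,2,2,2,1,0], [1,0,0,0,3], [0,1,2,2,2,2,1], [2,1,0,3,2,1], [0,1,2,3,3], [1,0,3,3,3,3],
   [0,0,0,3], [0,0,0,1,1], [3,3,2,2], [1,0,0,0,1,0], [1,1,2,2,2,3], [0,0,0,3], [2,3,2,1,2,1,0],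
   [0,3,2,2,3,2,2], [3,2,2,1,0], [0,3,0,0,1], [0,0,0,3,3,3,3], [1,1,1,1,0,0,0], [0,1,1,2,2,3],
   [3,3,0,3,0,0], [0,3,3,2,1,1,2], [2,1,0,0,3], [1,2,3,2,3,2], [0,0,3,2,1,1], [2,1,1,1,2,2,3],
   [3,0,0,1,1,0], [1,2,1,0,1,0], [2,2,1,1,1,2], [1,1,1,2,3], [3,0,0,1,1,0], [0,1,0,0,3,3,2],
   [1,1,2], [1,2,3,2,1,2], [1,0,0,0], [2,3,0,3,2,3], [], [3,2,1,2,1,0], [0,1,0,3,0,1],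
   [2,2,2,2,1,0], [2,2,2,2,3,0,1], [1,0,1,1,1,1], [1,1,0,0,1,2,1], [1,1,2,1,2,3,3], [1,0,0,1,0,3],
   [3,3,3,3,2,2], [0,0,0,0,1,0,3], [1,2,3], [1,2,2,2,2,1], [1,1,1,0,1,0], [2,1,1,0],
   [2,1,1,1,0,3,3], [1,2,1,0,3,2], [3,0,3,3,0,0], [1,1,0,0,1], [3,2,2,3,3], [0,1,1,2,3,2,3],
   [0,0,0,1,2,2,1], [0,3,3,0,0,0], [0,0,0,1,0,3], [1,2,1,2,3,0], [1,0,0,0,3,2,2], [3,0,0,1],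
   [2,2,1,1], [0,3,0,0,0,3], [3,3,3,0,0,1], [3,0,3,3,0,0], [3,3,2,2,1,0], [2,3,0,0,1,1,0], [1,2],
   [0,1,0,1], [1,2,2,2,2,1], [2,2,2,2,3,2], [1,0,0,3,3,0,3], [3,0,0,0], [0,1,2,1,0,0,3,3],
   [2,2,1,1,1], [1,2,2,2,1], [3,0,1,0,1,0,1], [3,3,3,3,3], [1,1,2,1,0], [3,0,1], [0,0,0,0,1,2],
   [2,1,1,2,2], [0,1,1,0,1], [0,0,1,0,0,1], [3,2,2,3,3], [0], [3,3,3,3,3], [3,2,3,2], [0,1,0,1,1],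
   [1,1,0,1,2,2,3], [0,1,1,1,0], [0,1,1,0,3,2], [3,2,1,1,1,2], [1,1,0,0,1,1,2], [1,2,1,2,3,0],
   [2,1,1,2,2], [1,2,3,2,1], [0,0,0,0,0,3,0], [1,0,0,3,0], [0,3,2,1], [2,3,3,0,1,2,3],
   [0,1,2,1,2,3], [2,1,2,1,2], [0,3,3,2,3,2], [3,2,2,2,3,2,2], [2,3,3,0,0,3], [0,0,0,1,0,3],
   [1,0,1,0,1,2,1], [1,0,0,3,3,0], [0,1,0,0,0,0,0], [0,3,2,1], [0,1,1,2,3,2], [0,1,0,1,2,1,0], [0],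
   [0,0,1,0,1,0], [1,0,3,3,0,3], [3,3,0,0,1,2], [1,0,3,3,3,0], [0,0,3,2], [0,1,0,1,1,2],
   [1,2,3,0,0,3], [1,1,2,3,0], [0,3,0,0,1,2,2], [1,0,0,0,3,3], [1,0,0,3,2,3], [1,2,1,0,3,0],
   [2,2,2,2,1,2,1], [0,3,0,3,2,1,1], [0,3,0,0], [0,3,3,3,2,1,0], [2,3,0,1,0,0], [0,3,2,1,2,3,3,0],
   [2,3,0,0,3,3,3], [2,3,2,2], [3,3,0,1], [1,2,3,0,0,3], [0,0,3,3,3,0,1], [2,2,3,3,2],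
   [3,3,2,2,1,1], [1,2,3], [0,3,2,1,0,0,0], [0,3,3,3,0,1], [1,1,1,0,1,1], [2,1,1,0], [2,3,0,3,2],
   [2,1,0,3,2], [2,3,2,2,3], [0,0,0,3,2,3,3,0], [1,0,3,3,3,0], [2,3,3,2,2,1], [0,3,3,3,0,1,1],
   [3,2,1,1,2,1], [0,0,3,2,1], [0,3,0,0,0,3], [0,3,2,3,3,0,1,1], [3,0,1,1,0,1], [3,0,0,0],
   [0,0,1,0,0,0,0], [1,2], [0,0,0,1,2,2,1,2], [2,1,2,2,3], [2,1], [3,2,3,0,3], [0,3,0,0,0,0],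
   [2,1,1,1,1,0], [0,3,2,1,0,0,3], [2,1], [2,2,2,3,3,2], [1,0,3,2,3], [3,3,0,1], [2,3,2,2],
   [2,3,3,2,1,2], [0,0,1,2,3,3], [0,0,1,2,1,0], [0,0,0,0,3,2,3], [2,1,0,3,3,2,3], [1,1,0,1,1,0],
   [1,1,1,0,3,3], [3,3,0,0,0], [3,3,0,1,1], [0,3,0,3,3,3,2], [1,0,1,2,3,3], [1,1,2,2,2,3],
   [3,3,2,1,0,0,3], [3,3,2,2,2,3,2], [0,0,0,1,1,2,3], [2,3,0,0,1,1,1], [0,3,3,0,0,1],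
   [0,0,1,2,3,2,2], [2,2,2,3,0,1,1], [0,1,2,1,2,3], [0,3,0,3,0,0,1], [3,0,1,2], [2,3,0,3,3,2],
   [0,0,3,2,1], [1,0,3,0,1,0], [1,2,3,3,3,3,3], [0,0,1,2,2,2,2,2], [0,0,1,0,3,0,1],
   [1,0,0,1,0,3,2,2], [0,1,1,0,0,1,1,2], [1,0,3,3,3,0], [1,0,0,3,3], [0,1,1,0,0,1,0], [1,0,1,2,3,3],
   [0,1,1,0,3,3], [0,3,0], [2,1,2], [1,1,0,1,1], [0,3,0,0,0], [2,2,1,0,0], [0,3,0,0,1,2],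
   [2,2,3,0,1,0], [0,0,1,2,3,3,2], [1,2,1,0,3], [3,0,3,3], [3,3,2,2,2], [3,3,3,3,0], [0,1,1,0,0,1],
   [0,0,3,2,1,2], [2,3,2,2,3,0], [0,1,0,1,0], [0,0,0,1,2], [0,0,3,2,1,0], [1,1,2,2],
   [0,0,1,0,0,0,0,0], [0,1,0,1,0,1,1], [1,0,0,0,3,2], [3,3,3,3,2,1], [3,0,0,1,1], [0,1,1,1,1,0,0],
   [1,0,0,3,3,2], [3,0,0,0,0], [0,1,0,3,0,1,2], [2,3,3,2,2,1,0], [0,0,3,0,3,0], [1,1,1], [3,2,1,0],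
   [1,1,0,0,1,0], [2,3,2], [0,1,2,1], [1,0,3,3,0,1], [2,2,1,2,3,2], [0,3,3,3,0,0,0],
   [1,0,0,0,0,0,3], [1,1,0,3,2], [3,0,3,3,3,2,2], [3,3,2,1], [0,0,3,3,3,3], [3,3,0,3,2,3],
   [2,2,2,1,0], [0,1,2,1,2,1], [1,2,3,3,3,3], [0,1,0,1,0], [1,1,2,2], [1,0,3,3,2], [3,2,2,2,3,0,0],
   [2,2,1,1,1,0], [3,0,3,3,3,3], [1,0,0,0,3,0,3], [0,0,0,1,2,3,3], [1,0,1,0,1,1,1], [2,3,0,3],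
   [2,3,2,1,2,3], [0,3,0,0,0,3,0], [1,1,0,3,2], [2,2,3,3], [3,0,3,3,2,1,1], [0,1,1,2,1,2,1,2],
   [3,0,0,0,0], [0,3,3,0,3,3], [1,1,0,3,0,1], [2,2,2,2,3], [1,1,0,1,0], [1,0,0,3,0,0,3],
   [1,2,1,0,0,3], [0,3,0,0,1,2], [0,3,0,1,1,2,1], [2,3,2,2,2], [3,2,2,2,1], [1,2,1,2,1],
   [3,0,3,2,2,2], [1,0,1,1,0,1], [2,3,2,2,2], [1,1,1,2,2,3], [0,3,2,3,3,2,1], [1,1,1,2,1], [1,0,3],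
   [2,3,3], [0,1,1,2,3,0,1], [0,1,1,2,2,3,2], [1,2,3,0,0], [1,1,1,1,0,0], [1,1,0,1,1],
   [1,1,2,2,1,2,3], [0,0,0,1,1,2], [1,1,1,2,1,0], [2,2,1,0,3,2,1], [1,0,0], [2,2,3,2,3,0],
   [2,1,0,3,0,1,1], [0,1,2,3,0], [2,3,3,0,1], [3,2,1,2,1], [1,0,1,0,1,0,0], [1,1,2,1,1], [3,0,0],
   [0,0,0,3,2,3,3], [1,0,0,3,3,2], [0,0,1,1,2,1], [1,2,2], [1,2,1,1,2,3], [1,2,3,0,0,1,2,3],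
   [2,3,2,1,2,2,3], [0,1,2,2,1,1], [3,3,2,2,1,1,1], [3,0,0,1,1], [1,0,0,3,0,3], [1,0,0,3,2],
   [0,1,1,2,1,0], [1,0,1,2], [0,1,2,2,2,2,3], [0,1,2,1], [0,0,1,1,0,0,1], [0,0,0,1,1],
   [1,2,2,1,2,1], [2,2,3,2,2], [1,0,1,1], [2,2,3,2,2], [0,1,0,0,3,2,1], [3,0,0,0,1], [1,0,0,0,1,0],
   [3,2,1,1,0], [0,1,2,1], [2,1,0,0,3], [0,0,3,0], [3,0,1,1,0,0,0], [0,3,0,3,3,0,3,3], [2,3,3],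
   [1,0,0,1,1,0,0], [0,1,2,2,1,1,1,2], [2,1,0,3,0], [0,0,0,1,2], [1,0,0,3], [2,1,1,1,2],
   [2,3,3,0,1], [2,1,0,3,0], [0,1,1,2,1,0], [0,0,0,0,0], [1,0,3,3,2], [0,1,2,3,0,0], [0,1,2,2],
   [3,2,1,2,3], [1,0,1,1,0,3,0], [0,0,0,3,2,3,2], [1,2,3,0,0], [0,3,0,1,2], [1,0,0,0,1,1,0,1],
   [2,3,2,1,2,2,2], [2,3,3], [2,1,1,1,2,3,2], [2,3,3,0,1], [1,2,1], [3,3,0,3,0,3,3], [0,0,0,0,0],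
   [0,0,3], [0,0,3], [2,3,0,0,0,1], [0,1,2,3,2,3], [1,1,0,3,0,3], [0,3,3,2,3,0,3], [0,0,0,0],
   [1,0,0,1,2,2], [1,2,2,3,0], [2,3,3,2,3,3,3], [2,3,2,1,1,1], [0,1,0,3,0,0], [0,3,0], [1,2,3,0],
   [1,1,0,0,1], [3,0,1,0,3], [3,2,2,3,3,0], [0,1,2,2,2,2,2,3], [1], [3,3,0,0,1,1,1], [2,3,0,3,3,3],
   [0,1,0,3,2,2,1], [2,1,0,3], [1,1,2,1,1,2], [0,3,3,0,1,1,0], [2,2,1,1,0], [0,1,1,2,2,2,3],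
   [3,3,2,3], [0,0,1,0,1,1], [3,0,0,0,3,0], [2,2,2,2,2,3,2], [1,1,0,3,2,1,2,3], [3,2,1,2,3,2],
   [0,3,2,2,1,1,0], [2,1,1,0,1], [0,3,0,3,3,3,3], [2,2,1,1], [1,2,3,0], [1,2,2,2], [1,2,2,2],
   [3,3,2,1,2,1], [2,1,0,3], [2,1,1,0,0], [0,0,1,1,0,3,2,2], [1,1,0,3,2,1], [2,1,2,1,1,1],
   [0,1,1,2,1,1,2], [0,1,2,2,3,2,2], [0,1,2,1,2,1,2], [1,0,0,0,0,3,3], [0,3,0,1,1,1],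
   [0,0,0,3,2,1,2], [0,1,2,1,2,2,2], [0,1,0,1,1], [1,0,0,0,1,1,2], [0,3,3,3,0,0,1], [1,2,2,3,0],
   [0,3,2,2,2,3,3], [2,2,2,1,1], [3,3,2,1], [1,2,3,2,1,0,3], [0,3,2,2,3,3], [0,0,1,0,3,2,1],
   [1,1,0,0,1,1], [0,0,3], [3,0,1,0,3], [0,1,0,0,1,1], [2,1,1,0,0], [0,1,0,1,0], [1,1,0,3,0,3],
   [3,0,1,1,1,1,1], [0,0,0,1,0,3,2,1], [3,2,3,2,2,1], [1,2,3,0,3,0], [1], [2,1,1,2,2,1,0],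
   [3,0,0,1,0], [0,3,2,1,2,1], [2,2,2,2,3], [0,1,1,2,3,0,0], [0,1,2,1,0,0,3], [2,1,1,1,0,3],
   [0,3,0,3,0,3,3], [1,0,0,0,3,2], [0,0,0,0,3,3,2], [0,3,3,0,0,0,1], [2,1,1,0,0], [0,3,0,3,2,2,3],
   [2,2,2,2,3,0,3], [1,1,2,2,1,0,0,1], [3,3,3,2,1], [0,1,1,0,3,3], [0,3,2,2,2,2,1],
   [0,1,0,1,0,0,3,0], [0,1,2,2,1,2,3,2], [0,0,0,1,1,2,2], [3,2,2,2,1], [1,1,2,1,2,3], [1,0,0,0,3,3],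
   [0,1,2,2,1,2,3], [0,3,0,0], [1,1,0,1,1,2], [0,3,0,0,0], [2,2,3,2,2,2], [2,1,0,0,0,1],
   [1,0,0,0,3,3], [0,1,1,2,1], [1,0,0,0,3,3,0], [1,2,1,2,1,2], [3,0,0,0,1,2], [1,2,1,2,2], [1,2,3],
   [1,2,1,2], [1,0,0,3,2,2], [0,1,0,0,0,0,1], [0,1,2,3,0], [2,2,1,1,0], [0,0,0,0], [0,1,0,1,2,1,1],
   [1,0], [2,2,2,3,2,2,1], [0,3,3,2,3,2,2,1], [0,3,3,0,1,1,0,0], [0,3,0], [1,0,0,3,2], [2,2,3,2,3],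
   [2,2,2,2,2,3], [0,1,1,0,3,3], [1,1,2,3,0,1], [1,0,1,0,1,0], [0,3,0,0], [2,1,0,0,3,0,3],
   [0,1,0,0,0,0,1], [2,2,1,1,0,0], [2,1,1,2,3,0], [1,1,0,0,1,0], [0,1,1,0,3,0,0], [0,3,0,0,0,0],
   [2,3,0,0,0,1], [3,2,2,2,1,0], [1,2,1,0,1,1,2], [1,0,0,1,2], [2,1,1,1,1,0], [3,3,3,0,3,0,3],
   [0,0,0,0,1,2], [1,0,1,1], [1,2,1,1,2,2], [2,3,0,0,3,2,2], [3,2,1,2,1,1,2], [0,1,1,2,3,3,2],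
   [3,0,1,0,3], [0,0,1,2,1,0], [0,0,3,0], [2,1,2], [0,1,2,3,2,3,0], [0,0,0,0,1,2], [3,2,2,1,2,1],
   [0,0,3,3,3,0,1,1], [0,1,0,0,3,2,3], [0,3,2,1,2,1], [2,2,3,3,2], [3,0,0], [0,1,2,2,3,3],
   [0,0,1,1,0,3,3], [1,1,2,1,1], [0,0,0,3,2,1,0,3], [1,1,2,3,3,2], [2,3,3,3,3], [1,1,2,1,1],
   [2,1,0,3], [0,3,0,0,0], [2,3,0,0,3,3], [2,2,1,1], [1,2,3,0], [0,3,3,2,2,3], [1,2,2], [0,1,1,1],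
   [0,0,0,3,3,0], [0,0,0,1,0,3,3], [0,1,0,0,1,2,2], [1,2,3,3,0], [1,2,3,2], [3,0,1,1,1,1],
   [0,0,3,2,3,0], [3,2,3,2,2], [0,3,3,3,2,1], [1,2,2,1,0,1], [1,2,3,2,1,1], [2,3,0,3,3,3,3],
   [1,1,0,1], [0,3,0,0,0,3,3], [0,0,1,0,1], [1,2,2,2,2], [0,1,0,1,2], [0,0,3,3], [0,1,2,1,2,3,2],
   [2,2,1,1,2], [2,1,0,0,1,0], [3,0,1,0,1,0,0], [0,3,2,1,2], [0,3,0,3,0,1,1], [2,1,1,0,3,0],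
   [0,0,0,3,3,0], [1,0,3,3,0], [3,0], [0,3,0,3,3,0,0], [0,0,3,2,2,2,2], [0,1,0,1,2,3], [1,2,2,3,3],
   [0,3,3,2], [0,1,0,0,3], [1,1,1,0,0,0], [1,0,1,0], [0,3,2,2,2], [0,3,3,0,1,2], [2,2,1,2],
   [2,3,0,0,0,0], [1,1,2,3,2,1,2], [0,1], [0,0,1,1,1,1,2], [0,0,0,1,1,1,1,0], [1,2,2,3,2,2],
   [0,3,2,3,3], [0,0,1,1,0,0,0], [2,2,1,0,1,1], [3,2,2], [1,1,0], [3,3,3,0,1], [3,0,0,3,0,3,2],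
   [2,2,2,1,1,1,1], [0,0,1,0,3,0,0,3], [2,2,1,0,3,3,2], [0,1,1], [1,1,1,1,1,2], [3,3,0,0,3,3],
   [3,2,3,2,1,1], [0,0,3,3,0], [0,1,0,0,1,0,1], [0,3,0,1,1], [0,1], [0,1,0,3,2,1,1],
   [0,1,2,3,2,3,3,0], [0,0,0,1,0], [0,0,3,2,2,1,2], [3,3,0,1,2,3,3], [2,1,2,3,0], [2,3,0,0,0,0],
   [3,2,2], [0,3,2,3,0,0], [0,3,3,3,0], [0,0,3,0,1,1], [2,3,0,3,0,1], [1,1,2,1], [1,1,1,0,1],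
   [3,3,0,3,0], [2,2,1,1,0,3], [0,3,3,0,0], [1,0,1,2,3], [1,1,2,1], [2,1,1], [1,1,0,0,1,0,3],
   [3,2,1,2,3,3], [2], [2,1,0,3,0,3], [1,2,1,1,1,0], [0,0,1,1,1,2,3,0], [0,1,0,3,0],
   [0,1,2,2,3,3,3], [2,2,2,2,3,2,2], [0,3,3,2,3,2,2], [2,3,2,1,0], [3,3,0,0,1,2,2], [1,2,1,2,3],
   [2,2,3,2,3,0,3], [3,3,2,2,1], [2,1,0,0,1], [1,2,1,2,3], [1,0,1,1,2,3,2], [0,3,2,1,2],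
   [2,2,3,2,2,3], [3,0,3,3,0], [0,0,0,1,0,3,2,2], [0,0,0,0,0,3], [3,0,0,0,0,0,1], [2],
   [3,0,0,1,1,0,3], [3,3,2,3,0,0], [0,1,2,3,0,0,3], [2,1,0,3,3,2], [0,1,1,2,1,0,3], [2,2,1,0,1,2,2],
   [2,1,0,3,2,3], [3,0,0,1,1,2,3], [1,0,0,1,0], [0,3,3,3,0,3], [1,1,1,0,1], [2,3,3,0,3,3],
   [2,3,0,0], [2,1,0,0], [0,1,1,2,1,2,3], [2,2,3,0,0,0], [0,1,1,1,0,1,1], [3,0,0,3,3,3], [2,2,1,2],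
   [2,1,1,2,1,2], [3,2,3,0,1,1], [0,0,3,0,3,0,0,1], [3,3,0,1,1,1], [1,0,0,1,0], [1,1,2,2,1,1,0],
   [0,1,0,0,1,2], [3,0,3,2], [1,2,2,3,3], [1,2,2,3,0,3,2], [1,0,0,0], [0,1,0,3,0,1,1], [1,1,0],
   [0,1,2,3,2,1,2], [0,1,1,2,3,0,3], [0,1,1,2,2], [2,1,0,3,2,3], [0,0,1,2], [1,0,1,2,2,3,0],
   [0,0,3,0,1,1], [1,1,2,1,1,0,0], [0,3,0,0,1,1], [2,1,0,3,3,2], [2,3,0,1,0,3,3], [0,1,1,1,0,1,1],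
   [1,1,2,2,3,2], [1,0,3,0,3], [2,3,3,3,3,0,0], [0,1,2,2,2,3,2], [1,1,0], [3,0,3,3,3,2,1],
   [0,0,1,2,3], [3,0,0,0,3], [3,3,2,1,2], [3,0,1,0,1,1], [3,3,2,1,2], [1,2,2,3], [3,0,3,3,2],
   [0,0,3,3,0,1], [3,2,1], [3,0,3,3,2,1], [2,2,2,1], [0,0,0,1,0,3,3], [0,1,2,1,2], [2,2,1,0], [0,3],
   [0,3], [0,1,0,0,1,0], [0,3,3,3,0,0], [2,2,2,2,3,3], [0,0,0,1,2,2], [2,2,1,0,1,1,1],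
   [1,1,0,3,0,1,2], [1,2,1,2,3,0,3,0], [1,0,0,3,3,2,2], [0,0,3,2,2,1,1], [1,2,2,2,2], [1,0,3,3,2,2],
   [1,2,3,0,3], [2,3,2,3,3], [3,2,1,1,1,1,1], [1,1,0,0,0,0,0], [2,2,1,1,2], [0,1,0,1],
   [2,1,1,2,2,1], [3,3,3,3], [0,3,3,0,1,1], [2,3,2,1,2,3,2], [0,0,1,1,1,2,1], [0,3,3,3,0,0],
   [2,1,1,0,3,0], [0,3,2,2,1,1], [0,3,2,1,1], [3,0,1,0,3,3], [0,3,2,2,1], [0,0,0,1,2,3,0],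
   [0,1,0,0,1,2,1], [0,0,3,3,0,1], [0,1,0,3,2], [1,1,1,1,1,0,3], [2,2,1,1,2,3], [0,3,3,3,2],
   [0,1,2,2,3,0], [2,1,0,1,2], [1,0,1,0,0,1], [0,1,1,1,0,1], [3,0,0,3,0], [0,0,1,0,3,3],
   [0,1,0,0,1,0], [0,1,0,3,2], [2,3,3,0,0], [2,2,1,0,3], [0,1,0,0,1,0,3], [0,1,0,3,2,1],
   [3,0,0,3,0], [1,1,0,0,0,3], [0,0,3,2,2,2,1], [2,2,2,3,2], [1,1,2,3,2,1,1], [0,0,1,0,1],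
   [3,3,0,1,2,3], [3,3,3,0,1], [3,3,2,3,2], [2,1,0,3,0,1,0], [3,0,3,3,2], [3,2,1],
   [1,0,0,3,2,2,1,0], [1,1,2,2,3,0], [0,0,1,1,1,1,1], [3,3,0,0,3], [1,0,1,0,0,1,1], [0,3,3,0,1,1],
   [0,1,1,1,1,2], [0,1,1,0,0,0], [3,2,2,3], [3,2,2], [3,2,3,2,1], [2,2,2,3,2,3], [0,0,0,1,0,3],
   [2,1,0,3,2,2,2], [2,3,0,0,1], [3,3,3,0,3,0,0], [1,2,2,3], [0,0,3,3,2,1], [0,3,0,0,3], [0,0,0],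
   [0,3,0,0,3], [0,0,3,0,1,1,1], [1,1,1,2], [0,1,2,1,2,1,2,2], [0,1,0,0,3,0,1], [0,0,3,2],
   [2,2,3,0,1], [1,1,0,0,1,2], [0,0,3,0,3], [3,3,2,1,0,0], [0,1,0,3,0], [0,0,1,2,3,3,2,2],
   [1,0,0,0,1,1,0], [1,2,2,3,2,1,1], [0,0,3,2], [2,1,2,2], [3,0,0,0,3], [0,1,1,2,3,0], [2,1,1,0],
   [0,3,0,3,2,1], [2,1,0,3,2], [3,2,2,2,3,0], [1,0,0,3,3,3], [1,1,0,0,3,0], [1,0,3,3,0,0,1],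
   [0,3,2,3,3,0,1], [1,1,2,2,2], [1,1,0,1], [0,1,1,1,1,0], [0,1,0,1], [0,1,2,3,0,3,3,0],
   [1,1,2,1,1,2,2], [0,0,3,2,1,2,2], [0,1,1,2,3,0], [2,3,2,2,3], [2,2,2,3,3,2,1], [1,1,0,3,2,2],
   [3,3,3,3,2,1,2], [1,2,2,2,2], [1,1,2,2,2], [3,0,3,3,0,3], [0,1,0,3,0,3], [0,0,3,0,0,0],
   [1,0,3,2,3], [3,2,1,0,3,0], [0,1,0,3,0,3], [1,1,2,3,0], [3,3,2,2,2,2], [3,3,2,2,3,2,2],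
   [2,3,0,1,0,3], [1,1,0,0,1,2,3], [0,1,0,0,1,2,1], [1,1,1,2], [1,0,1,2,2,2], [0,1,1,1,0],
   [1,0,0,1,0], [0,1,1,1,0,1], [1,1,0,1,2,3,0], [0,1,1,1,0], [0,1,1,1,0,0,0], [1,0,3,2,3],
   [3,3,2,2,3,3], [0,1,1,1,2,1], [1,0,1,2,2,2], [2,3,0,3,3,0], [2,1,2,2,3], [1,0,3,0],
   [3,2,1,2,3,3,3], [2,3,0,3,2], [3,3,2,3,2], [3,3,2,3,3,0], [2,2,1,2,1], [0,0,1,2,2,3,0],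
   [2,2,3,2,2,3,3], [0,1,1,1,0,1], [1,0,1,1,1,1], [0,1,2,3,0,0,3], [3,2,3,2,1], [1,0,0,1,0,3],
   [2,3,0,3,2], [3,3,0,1,1], [0,0,0,1,0,0,1], [2,1,0,1,1,0], [2,1,2,2,3,2], [3,3,0,1,2],
   [0,0,0,3,2], [0,1,0,0,1,1,0,3], [3,2,2,1], [0,3,2,1,2,3,3], [1,2,3,2,1,1], [2,3,2,1,2,1],
   [3,3,0,0], [3,0,1,1], [1,2,3,2,3,3], [3,3,0,1,2], [1,2,1,0,0,1], [0,3,3,3,2,1], [2,1,0,1,2,1],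
   [1,0,0,1,2,1,0], [0,1,2,1,0,0], [0,3,3,2,1], [0,0,1,0,0,0], [3,3,2,3,3,3,3], [2,1,2,3,3],
   [2,2,2,2,1], [3,3,0,1,1,2,3], [0,1,2,1,1,0], [1,0,0,1,1,1,0], [3,3,0,1,0,3], [2,3,3,2,2,1,2],
   [3,3,0,0,1,0,0], [1,2,2,1,1], [1,2,3,2], [2,1,2,1,2,3], [3,3,2,3,2,1], [1,1,1,1,1,0],
   [0,3,2,2,3,2,3], [1,1,2,2,2,3,2], [1,2,3,2,3,3], [0,0,3,3,0,1,1], [0,1,0,1,0,0,0], [1,2,2,2,1,1],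
   [0,3,2,2,3,2,1], [1,1,0,0,3,3,3], [0,1,1,1,2,2], [2,3,0,1,1,0,3], [3,3,0,0,0,3,2], [0,3,2,3],
   [0,1,0,0,3], [2,2,3], [3,3], [2,3,3,3,0], [0,0,3,2,3,2], [3,3], [2,1,0,0,0,0], [3,2,2,1],
   [2,3,2,1,1,0], [2,2,2,3,2,1], [0,3,2,3,3], [3,2,1,1,0,3,0], [0,1,0,1,1,1], [3,2,1,1,2,2],
   [3,0,1,1], [3,2,3,2,2], [0,0,1,0,3], [0,3,0,3,0], [0,1,0,3,3,2,2], [3,0,0,0,3,3,2],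
   [0,1,1,0,0,3], [1,0,3,3,2,1,0], [0,3,0,1,2,1], [1,1,0,3,2,3,0], [0,0,0,1,0,1], [3,2,2,3,2,1],
   [1,1,1,1,2,2,1], [0,3,0,3,3], [0,1,1], [0,0,1,2,1,0,3,2], [1,2,2,3,2,1,2], [0,1,0,3,3,3],
   [2,1,1,0,3,2], [0,0,0,1,0], [2,2,2,2,1], [2,3,3,0,0,1], [0,1], [1,0,3,3,0], [1,1,0,0,0],
   [0,0,3,3,0], [1,0,0,3,3,0,1], [0,3,3,3,2,3], [1,2,3,0,0,1,1], [0,1,1,1,2,3,0], [1,0,1,0,0,3,0],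
   [2,1,1,1,1], [0,0,0,0,3,2,1,1], [1,0,0,1,0,1], [3,2,3,0,3,2], [1,0,0,0,1], [1,0,3,3,3],
   [1,1,1,1,0], [0,0,1,2,1], [3,3,0,3,0], [2,3,0,1,0], [0,0,0,3,2], [0,0,1,1,1,0], [1,0,3,2],
   [0,3,2,3,0,0], [2,3,0,3,2,1], [1,1,2,3], [2,3,3,3,2,3], [1,2,1,2,3,3,3], [0,1,2,3,3,2],
   [0,1,2,2,2,2,1,2], [2,3,3,3,3,0,3], [0,0,0,1,1,1,0], [2,2,3,3,2,2], [2,1,2,1,0], [0,1,1,2,3,3,3],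
   [1,0,3,3,3], [1,1,0,1,2,3,3], [1,0,3,3,3], [0,3,0,1,2,2,2], [1,2,1,0,1], [0,1,2,1,2,3,2],
   [0,0,0,1,1,0,3], [2,1,1], [2], [0,0,3,0,0,0,1], [0,3,3,2,2,2,3], [3,0,1,2,2], [0,3,0,0,0,3,2],
   [1,0,1,2,2,2,1], [1,2,3,2,1,2,2], [0,3,2,1,0,0], [0,1,0,0,0], [1,0,3,0,1], [0,0,1,2,2,1,0],
   [1,0,1,0], [0,3,3,2,2,1], [2,1,1,2,1,2,1], [2,1,1,1,2,1,0], [0,0,0,0,1,0], [0,1,0,1,2,3],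
   [2,3,0,0], [0,1,2,3,0,1,0], [3,3,3,2,2], [0,3,3,3,3,0], [1,0,0,1,2,3,2], [2,2,1,2],
   [2,3,3,3,3,3,2], [1,2,3,2,1,1], [1,0,1,2,3], [2,3,2,2,1], [1,2,1,2,2,3,2], [2,2,3,2,1],
   [2,3,0,3,0,3], [1,0,1,2,3], [3,3,0,0], [3,3,2,2,3], [1,2,3,3,3,3], [0,0,0,1,2], [3,0,3,2,1],
   [2,1,1,1,2], [0,1,1,2,2], [1,1,2,2,1,0], [1,1,1,2,3,2], [3,2,2,2,2], [0,3,0,1,1,2,3],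
   [1,2,2,1,1], [3,0,0,3,3], [0,1,2,3,0,3,2], [0,1,0,0,0], [0,1,2,3,0,0], [0,3,3,0,3,2,3],
   [1,2,1,0,3], [0,3,0,1,1], [1,0,0,3], [0,0,0,0,3,2], [0,3,2,2,2,1], [2,1,1,2,3], [1,0,1,1,2],
   [1,2,2,2,3,0], [0,0,1,0,3,0,0], [2,3,3,2], [1,1,0,3,0,0], [0,0,1,1,0,1,0], [3,2,2,1,2,1,2],
   [0,1,0,0], [1,2,1,1,0,0,1], [1,0,1,1,2], [0,0,1,1,1,1,0,0], [3,2,1,1], [0,3,2,1,0,3],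
   [3,3,3,0,0,0], [2,3,0,0,1,0], [0,3,3,2,3,2,1], [0,1,0,1,2,2,1,1], [0,3,3,2,3,3], [2,2,2,3,0,0],
   [1,0,0,0,0,3,2,3], [0,1,1,0,1,1], [3,0,1,1,0,0], [0,3,3,2,1], [1,0,1,0,1], [0,0,0,1,2,2],
   [2,3,3,3,3,2], [1,1,2,2,3,3], [0,1,2,2,1,1,2], [0,1,0,0,3,2,3,2], [0,1,2,2,2], [0,1,2,3],
   [1,0,0,0,0,1], [0,3], [0,1,2,2,3,0,1], [3,0], [1,0,3,3,2,2], [1,1,2,1,0,1], [3,0], [2,2,1,1,2],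
   [2,3,3,2], [0,1,2,3,3,0,3], [0,1,0,0,3,3,3], [1,1,1,1,2,2,3], [2,3,3,0,1,2], [0,1,1,1,2,3,2],
   [0,0,1,1,1,1,0,3], [0,0,1,1], [0,0,3,2,2,1,0,3], [0,0,1,1], [0,0,3,2,2,3], [3,3,0,3,2],
   [1,1,0,3,0,0], [2,2,3,0,3,2], [1,2,2,2,3,0], [0,0,1,2,1,2,2], [0,1,2,2,1,0], [1,0,0,1,1,2],
   [0,3,0,3,0], [2,2,1,0], [3,0,0,3,0,1], [2,1,2,2,2,2], [0,0,3,3,3,0,3,2], [2,2,1,0], [2,1,1,2,3],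
   [1,0,1,1,0,1,2], [1,0,1,0,3,3], [0,1,0,1,0,1,0], [1,2,3,2,2,1,1], [3,2,3,3], [2,1,0,3,3,0],
   [0,0,1,2,3,0,0], [0,0,3,0,0,1,2], [3,3,3,0,1], [2,1,0,3,3,0], [1,1,2,2], [3,0,0,1,0],
   [1,1,0,1,0,3,0], [2,1,1,2,1,1], [3,0,0,3,0,1], [0,1,2,2,2], [1,0,0,1,1,2], [3,3,3,3],
   [1,1,0,1,2,2], [0,0,0,0,1,1,2], [0,1,1,2,3,2], [0,3,2,1,1], [1,2,1,1,0,1], [0,1,1,2,1,2],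
   [1,2,1,0,1,0,1], [0,1,1,0,3,0], [0,1,0,1,0,0,3], [1,0,0,0,1], [3,3,3,2,1], [0,0,1,2,1],
   [1,0,0,1,1,0], [0,3,2,1,1,2,3], [1,1,1,1,0], [0,1,1,0,3,0], [2,1,1,1,1,0,1], [2,2,1,2,3,3],
   [2,1,2,2], [1,1,0,3,3], [1,1,1,2,1], [0,0,0,1,1,2], [1,0,3,2], [0,1,2,1,2], [2,1,1,1,1],
   [0,0,0,0,1,0,0,1], [3,2,3,0], [0,0,3,0,3], [0,1,2,3], [0,3,0,1,0,0], [2,1,0,3,2], [0,0,0,0],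
   [2,3,3,0,3], [3,0,0,1,1,2], [3,0,0,0,3], [1,0,1,1,0,3], [2,3,3,0,3], [2,1,1,1,2,2],
   [1,2,3,3,2,2,2,1], [0,0,0], [0,1,2,1,0,3], [1,1,2,3,0,1], [0,1,1,2,1], [2,2,3,3,3], [1,2,3,2],
   [1,0,0,1,1,0], [3,3], [1,1,2,1,2,3], [0,0,3,0,0,0], [1,0,0,1,2], [0,0,0,3,3,3], [1,0,0,0,1],
   [0,1,2,3,3,3,3], [1,0,0,0,1,2,3,2], [0,1,0,1,2,3], [3,3,0,3,3,2], [3,2,3,0], [3,3,0,1,0,0],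
   [1,1,2,1,2,3], [1,0,0,1,0,1], [0,0,0,0,1,0], [1,1,1,2], [3,3,2,2,3], [1,1,1,0,3], [0,1,2,3],
   [0,0,1,2,2,2], [0,3,3,2,1], [1], [1,0,3,0,0,3,0], [1,0,0,0,3,0,0], [0,0,1,1,0,0,3], [1,1,0,1],
   [1,0,3,2], [1,0,3,3,0], [1,0,1,0,3,3], [1,1,1,0,3], [0,3,3,2,1,1], [2,3,0,0,0], [2,2,1],
   [3,3,2,3,3], [1,2,2,3,2], [0,1,0,3,2,1,2], [0,1,0,0,1], [2,1,2,1,1], [1,1,1,1,1], [1,0,3,3,2,3],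
   [0,1,0,0,1], [0,1,2], [0,1,1,1,2,2,1,1], [1,1,2,2,3], [3,3,3,3,2], [2,1,1,0,3], [0,1,1,2],
   [2,1,2,2,2,1], [3,2,2,1,1,1], [2,1,2,3], [0,0,3,3,0,0], [0,1,1,0], [1,1,2,2,3], [0,3,0,1,0,1],
   [0,3,3,2,3,0], [0,0,3,0,1,1,0], [1,0,1,0,1,1], [0,0,3,3,0,0], [0,3,2,2,1,1,2], [1,1],
   [2,1,1,2,1], [1,0,0,0,1,0,0], [0,1,0,0,3,0], [2,1,0,1,2,1,1], [1,0,0,1,0,0], [3,3,2,1,1,2],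
   [0,1,1,2,1,2,3,0], [1,1,1,1,2,2], [0,0,1,1,1,1], [2,1,1,2,1], [1,1,2,3,2,1], [0,0,3,3,0,3,2],
   [0,3,2,1,0,1], [2,1,1,0,1,1], [3,3,3,0], [0,3,2,2], [3,3,0,3,0,0,0], [2,2,1,0,1,2], [1,2,1,0],
   [1,0,0,0,0], [1,1,1,1,1,0,1], [3,0,1,1,1], [0,3,0,1,1,0], [0,1,2,2,2,3], [0,0,3,2,2,1],
   [3,0,1,1,1,2], [1,0,0,0,0], [3,2], [1,1,0,0,3,2,2], [1,0,1,1,2,3], [0,1,2,2,3,0,3],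
   [2,2,2,1,0,1,2], [0,1,2,3,2,1], [3,2,2,3,3,0,1], [0,1,0,0,3,3], [2,3,3,3,0,3], [3,2],
   [0,1,0,0,3,3], [1,1,2,2,3], [3,3,3,2,1,2,1], [0,0,1], [0,1,0,3,3,3,3], [0,0,3,2,3], [0,0,3,0,0],
   [2,3,2,2,3,3], [2,2,2,3,2,2], [1,2,1,2,2,3], [1,0,1,1,0], [3,3,2,1,0], [0,3,2,2,2,2], [2,3,3,0],
   [0,0,0,1,1,1,1], [0,0,0,3,2,2,1], [3,2,1,0,0], [3,3,2,2,3,0], [1,0,1], [0,3,0,3,0,0],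
   [2,3,3,3,3,3], [0,1,1,1,2], [1,1,1,2,3,3], [2,3,0,0,0], [1,0,3,3,2,3], [3,2,2,2],
   [0,0,3,0,3,2,1], [1,0,3,3], [0,1,2,3,0,3], [2,1,1,0,3], [3,2,2,2], [0,0,0,0,3], [1,1,0,1,2],
   [2,3,2,2,2,1], [1,1,2,2,1,0,0], [0,3,2,1,1,2], [3,0,0,3,3,0], [1,0,0,3,2,2,1], [1,1,0,0,0,0],
   [0,1,2], [1,0,1,0,1,1], [0,1,2,1,2,2,1], [3,3,3,2,1,1], [0,0,0,1], [0,1,1,2,1,2,1],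
   [2,1,1,1,2,3], [3,0,3,2,1,0], [0,3,2,3,3,0], [1,2,3,3,2,2,2], [0,1,0,1,0,0,3,3], [1,0,3,3,3,3],
   [1,1,1,2,1,1], [2,2,3,0], [1,0,0,0,1,0,0], [3,3,3,2], [3,0,0,0,3,3], [1,1,1,0], [0,3,3,3,2,2],
   [1,0,0,3,2,1], [2,3,0,0,3], [0,1,2,3,3], [1,1,0,3], [0,1,0,1,0,3,2], [1,1,2,2,1,0,3],
   [0,0,1,2,2,1,0,0], [3,2,1,0,3,0,3], [1,1,1,2,1,1], [1,0,0,1,2,3], [2,1,0,0,3,0], [3,3,2,1,0,1],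
   [0,1,0,1,2,1], [0,3,2,1,0,0,1], [1,1,0,1,0,0], [3,3,3,0,3,0,1], [2,3,2,1,2,2], [0,1,0,3,3,3,0],
   [1,2,1,2,3,3], [1,2,1,0], [2,3,0,3,0], [1,0,3,3,0,0], [2,1,1,1], [2,1,1,1,1,0,1,1],
   [0,1,2,3,0,0,0], [0,0,1,2,1,1,1], [1,0,3,2,3,3], [0,3,0,0,1], [1,2,2,1,1,0], [1,0,0,0,3],
   [0,1,1,0], [2,2,2,2,2], [2,2,2,2,1,0], [3,2,3,0,1], [2,2,2,2,2], [3,0,0,3,0,1,2],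
   [1,1,1,0,0,0,0], [0,1,1,0,1,1,2], [0,3,2,3,2], [0,0,0,1,2,1], [0,1,0], [2,2,1,0,0,3], [2,2,1],
   [0,0,0,0,3,3,2,3], [1,1,0,3,0], [2,1,0,3,2,3,0], [0,3,3,2,1,1], [0,1,1,1,0,3], [1,0,0,1,1,2,2],
   [0,0,1,0,3,2], [3,0,1,1,2], [0,1,1,1,0,1,1,0], [3,3,2], [2,2,3,0,1,2,1], [2,1,0,3,3], [1,1,0,0],
   [0,3,0,1], [0,1,0,3,0,0,3], [1,1,0,1,2,2,2], [3,3,3,3,2], [1,1,0,0], [3,0,3,3,0,0,3],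
   [0,1,0,0,1,1,0], [0,0,1,2,3,0], [0,3,0,3,3,2], [1,0,1,0,1,2], [1,0,3,0,3,0], [0,3,2,2,2,1,1],
   [2,2,1,0,1,1,0], [0,1,0,3,0,1,0], [0,3,2,2,3,3,3], [1,1,1,1,1], [0,1,0,0,3,3,3,2], [1,2,2,3,0,3],
   [1,1,0,1,0,3], [2,1,2,3,3,2], [1,0,3,2,2,1], [0,3,3], [1,2,3,2,3], [3,0,1,1,1,0,1], [0,3,3,0,1],
   [3,0,3], [0,0,0,1,1,0], [1,2,3,2,3], [0,0,1,1,1,2], [3,0,0,3,3,3,0], [3,0,3], [2,3,3,0,3,3,0],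
   [0,3,2,2,3,2], [1,0,1,0,0], [1,2,3,2,2,1,0], [1,2,2,2,1], [2,2,1,2,3], [2,3,0,1,1],
   [0,1,2,3,3,0], [0,1,1,0,0,0,3], [0,0,1,0,3,2], [3,0,1], [3,3,0,0,3,3,3], [0,0,3,2,2,2],
   [1,1,0,3,2,1,2], [0,0,0,3,3,0,3], [2,1,0,3,2,2,1], [0,0,0,1,0,0], [1,2,3,2,1], [0,1,0],
   [1,2,2,1,0], [3,0,3], [0,3,2,2,2,3,2], [0,3,2,1,2,3], [2,2,2,3,0,0,3], [0,3,0,1], [3,0,0,3,0,3],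
   [0], [2,1,1,2,3,3], [0,0,1,1,1,2], [1,0,0,0,0,3,2], [0,1,2,2,2,3], [3,0,0,1,1,0,0],
   [0,3,3,0,1,2,3], [2,2,1,1,1], [2,2,1,0,3,3], [2,3,2,1,1,1,1], [3,2,1,1,0,0], [3,0,1,1,0],
   [2,2,3,2], [2,3,2,2,1,0], [3,2,1,1,2], [0,1,2,1,0], [2,2,3,2,3,3], [1,0,1,1,2,2], [3,3,0],
   [0,0,0,3,2,3,3,3], [2,2,2,1,0,0], [3,3,0,0,0,3], [3,2,2,1,2], [0,0,1,0,3,0], [2,2,1],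
   [0,0,1,1,0,0,1,0], [3,2,2,1,0,3], [2,2,2,3,2,1,0], [3,2,1,1,0,3], [3,3,0], [1,1,1,1,0,1],
   [0,1,1,1,2,2,2], [1,0,3,3,2,2,2], [0,3,2,2,3,0,1], [1,2,1,1,2,3,3], [0,1,1,2], [1,2,2,1,1,2],
   [2,3,3,0,1,0], [1,0,3,3], [0,1,0,0,0,0], [0,3,0,0,3,2,1], [1,2,1,0,0,3,0], [1,1,0,1,2,1],
   [3,0,0,1], [0,0,1,2,1,0,3], [1,1,2,1,2,3,3,3], [0,0,0,1], [2,3,3,0], [3,3,3,2,1,1],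
   [1,2,1,2,2,1], [0,0,3,3,0,0], [0,1,0,1,0,0], [2,1,0,3,3], [3,2,1,2,3,0], [2,2,2,2,3,0],
   [1,0,0,1,1,1], [0,1,0,3,3,2], [0,0,0,1,1,0], [1,2,3,2,3], [0,1,0,0,3,0], [2,2,1,2,3,3,3],
   [0,1,0,0,0,3], [0,0,3,2,3], [0,1,2,2,1,1,1], [0,0,0,0,1,0,0], [0,0,3,2,1,2,2,3], [2,3],
   [0,1,2,1,0], [3,2,3,2], [0,0,3,0,3,0,0], [2,2,3,2], [0,0,3,3,3,3,0], [0,1,1,1,2], [0,1,2,1,0],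
   [3,2,2,1,0], [3,0,3,3,3,2], [1,0,1,0,0], [2,2,1,2,3], [0,1,1,2,1,0,0], [3,3,0,0,0], [0,1,0],
   [0,0,1,1,1,0,1], [0,1,1,2], [1,0,0,3,0], [3,0,0,0,0,0], [1,2,2,3,2,1], [2,3,3,0,1,0], [2,1,1,1],
   [0,0,3,0,3,3], [1,1,2,2,1,2], [1,1,2], [0,0,0,3,2,3], [0,0,0,1,0,0], [1,2,3,2,1], [1,1,0,3],
   [1,1,1,2,3], [1,0,3,2,3,3], [0,3,0,1], [2,1,2,2,2], [0,1,1,1,0,0], [1,1,0,0,3], [0,1,1,1,0,1,2],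
   [1,1,0,0,3,3], [0,1,0,3], [3,3,0,1,1,0], [0,1,0,3,0,3,0], [1,1,2,2,1,1], [0,0,0,1,0,0,3],
   [3,3,2,3,3], [2,1,0], [2,1,1,2], [0,1,0,3], [0,0,0,0,3,2,2,1], [0,3,3,3], [0,0], [0,0,1,0,0,3,3],
   [0,3,2,3,2,3], [1,0,0,1,0,3,2], [0,1,1,1,1], [3,3,2,3,3,3], [3,3,0,1,1,0], [0,1,1,2,2,2],
   [0,0,1,2,3,0,3], [2,2,1,2,1,2], [0,1,1,2,3], [3,3,0,1,1,2], [3,0,3,3], [2,3,3,0,0,3,0],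
   [1,2,3,3,3,2,3], [0,0,1,0,1,1,1], [3,3,0,1,0,1], [2,1,0,3,3,2,2], [2,1,0,3,2,2], [1,2,1,2,3,2],
   [0,1,1,1,0,1,2], [0,0,1,2,3,2], [0,0,1,0,1,0,0], [3,3,3,0,1,0], [2,3,0,3,3], [1,0,1,2,2,3],
   [2,2,1,2,2,1], [0,0,3,0,1,2], [1,1,0,1,2,3,0,0], [0,1,0,1,1,0], [1,1,1], [1,1,0,0,3,3],
   [2,1,0,1], [1,1,1,0,3,3,0], [1,0,3,2,3,0], [2,2,1,0,3,0], [0,0,0,3,3,2], [0,0,1,2,3,2,1],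
   [2,2,2,3], [2,2,2,3], [0,0,3,0,1,2], [3,2,1,1,1], [2,3,2], [0,1,1,2,2,2,1], [1,0,1,1,1,2],
   [3,3,2,2,2], [0,3,0,3,3,3], [3,0,1,0], [2,3,0,0,1,2], [3,2,3,0,3,0], [3,2,3,0,1,2],
   [0,0,0,1,1,2,3,0], [3,3,0,1,2,1], [3,2,1,0], [1,0,1,2,3,3,0], [2,3,0,3], [0,1,2,3,3,3,2],
   [3,3,0,0,1], [2,3,2,2,1,1,2], [1,2,2,3,3,2,3], [0,0,3,3,2,2], [0,1,2,1,2,3,0], [0,3,3,2,3],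
   [3,2], [0,1,0,1,2,2], [0,1,2,2,2,2,2], [0,1,2,3,2,1], [2,2,1,1,2,1], [2,3,3,2,3,3],
   [3,3,0,1,2,3,0], [1,2,1,2,3,0,0], [2,3,0,3], [1,1,1,0,3,0], [3,3,0,3], [1,1,0,1,2,3], [1,0,0,1],
   [1,1,1,2,2], [1,0,0,0,1,2,3], [0,1,1,2,3,3], [1,0,0,0,1,1], [1,0,0,1], [2,3,0,1,0,3,2],
   [0,0,3,0,3,3,3], [2,1,1,1,2,2,1], [3,3,2,2,3,0], [0,1,0,3,3,2,3], [1,0,0,0,1,1], [1,0,1,2,2,2,2],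
   [3,3,2,1,0], [2,1,0,3,0,3,2], [0,0,3,0,0], [1,2,2,3,2], [1,1,2,1,2], [1,0,1,1,0], [1,1,0,1,2],
   [2,3,3,3,3,0], [1,0,3,2,3,2,1], [0,0,0,0,3,3], [2,3,0,3,2,2,1], [0,0,1,2,2,3], [0,1,2,3,0,3,3],
   [1,1,1,2,2,1], [2,3,0,3,2,2], [0,0,1,2,2], [0,1,1,2,3], [1,2,1,2,1,1], [1,1,0,1,2,3],
   [0,1,0,0,3,2,3,0], [0,1,1,2,3], [0,1,1,0,3,0,1], [1,0,3], [1,1,2,1,1,0], [3,2,1,2,1,1,1],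
   [1,1,2,1,1,0], [2,1,0,3,3,0,0], [0,3,3,2,1,0], [0,0,0,0,0,3,2], [0,1,2,2,3,3,0], [2,3,3,3,2],
   [2,3,3,2,2,3], [1,1,2,1,2,3,0], [0,0,3,3,3,0,3], [0,0,0,1,1,2,1], [0,3,3,2,2,2], [1,0,1,1,0,1],
   [2,3,0,0,3,2], [1,1,1], [0,0,1,1,0], [0,1,0,0,3,2,2], [3,3,0,3,3], [2,2,3,0,3], [0,0,1,1,2,2],
   [1,0,0,0,1,0], [0,1,2,1,2,1], [2,3,3,3,2], [1,0,0,3,2,1], [0,1,2,2,3,2], [3,0,0,0,1],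
   [0,3,3,0,3,0,3], [0,1,2,2,1,2], [0,0,3,2,2,3,0], [0,0,1,2,1,0,0], [0,0,3,0,0,1], [1,0,3,3,2,1,2],
   [1,0,1,0,3,2], [2,1,0,3,0], [3,3,0,3,0,3,2], [3,3,0,3,3], [0,1,2,2], [1,2,3,0,0,1,2],
   [1,1,0,1,1,1], [2,1,0,0,0,3], [2,1,2,2,1], [3,2,3,3,0], [2,3,2], [1,2,1], [0,0,0,0,1,1],
   [3,2,1,2,2], [1,2,1,1,0,3], [2,2,3,3], [1,2,2,3,3,2,1], [1,1,1,0,3,2], [1,0,3,2,2], [1,0,3,2,2],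
   [1,1,1,2,1,2], [0,3,3,3,3], [0,1,1,0,3], [0,1,1,1,0,3,3], [3,3,0,1,0], [3,3,2,2,3,2],
   [3,2,2,3,3,0], [2,2,1,1,2,3,0], [0,0,0,3,3,3,2], [0,1,0,1,2,3,2], [0,1,0,0,1,0,0], [0,0,0,0,1],
   [0,1,1,1,0,0], [0,0,0,1,2,2,1], [0,1,0,3,2,1,0], [2,2,2,3,3], [2,3,0,1], [3,2,3],
   [3,0,0,3,3,2,1], [0,0,1,2,3,3,0], [0,1,0,3,0,3,2,1], [0,0,1,2,2,2,2], [3,0,0,3,3,2],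
   [3,2,3,2,1,0], [1,0,3,2,2], [0,0,0,0,3,2,2], [2,1,2,1], [3,2,2,3,0], [3,3,2,3,3,3],
   [0,0,1,1,1,1,1,0], [3,0,3,2,1,2], [0,1,1,0,0,1,1], [0,0], [1,0,1,2,2,3], [2,3,0,3,3], [2,1,1,2],
   [0,1,1,2,2,2], [1,0,3,0,0,3], [0,1,2,2,2,3,3], [0,3,2,1,0], [3,3,2,2,2,3], [0,1,2,3,2],
   [0,0,1,0,0,3], [1,0,3,2,3,0], [1,1,2,1,2,2], [3,3,3,3,3,0], [1,2,3,3,3,2], [1,1,0,1,1,0,0],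
   [1,2,1,0,0,1,1], [1,1,1,0,1,2,1], [3,0,1,1,1,0,3], [1,0,1,2,2], [1,1,0,0,0,3,0], [1,2,2,2,1,0],
   [2,3,0,1,1], [3,3,3,0,3], [1,0,1,2,2], [2,1,0], [2,1,1,0,3,3,2], [1,1,2,1,2,2], [0,0,3,0,3,2,2],
   [2,3,3,2,1], [2,2,2,3,0,0,1], [1,2,3,3,2,3], [1,1,1,0,0,3], [3,0,0,3,3,2], [3,3,3,3,2,1,1],
   [0,0,0,1,1,1,2], [3,3,2,3], [2,1,2,1,2], [2,2,2,3,2,2,3,2], [0,1,2,1,1,2], [3,3,2,3],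
   [3,3,3,2,3,2], [0,1,1,1,1], [1,1,1,0,1,2,3], [1,1,0,0,1,1], [1,0,1,0,1,2], [3,0,1], [3,3,2,1],
   [0,3,2,1,0], [1,2,2,2,1], [1,0,3,0,0], [3,2,2,2,3,2], [1,0,0,0,1,2], [0,1,1,1,2,3], [3,2,3,0,0],
   [1,2,1,0,1,1], [0,0,0,1,1,2,2], [2,3,3,3,2,3,2], [3,2,1,2,1,1], [0,0,1,2,1,2,3], [0,0,1,0,3,0,3],
   [0,1,2,1,2,2], [0,0,1,2,2,1], [3,3,0,3,3,2,2], [1,0,0,1,1], [1,0,1,2,3,2], [0,0,0,0,1],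
   [0,1,2,3,0,1], [0,1,1,1,2,3], [0,1,1,0,3], [1,0,3,2,3,3,3], [0,0,1,2,1,2], [0,0,0,0,1], [3,3,0],
   [2,1,2,2,2], [0,1,2,3,0,1], [3,2,3,0,3,2,1], [1,0,0,1,1], [1,1,0,1,2], [3,2,2,1,2,3],
   [2,3,2,2,2,1], [0,1,2,3,0], [1,0,1,1,0,3,2], [0,1,1,1,2,2,2,3], [1,0,3,3], [2,1,1,1,1,1],
   [1,1,1,2,3,3], [3,2,2,2,1,1], [3,0,0,0], [0,0,1,2,1,1], [1,0,3,0,1,2], [1,2], [1,1,0,1,2,1],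
   [2,3,3,3,3,0,3,2], [1,1,1,1,0,0,1], [2,1], [2,1,1,2,3,0], [0,0,1,1,0,3,2], [0,1,0,3,3,2],
   [1,2,1,1,2], [0,0,0,3,2,1], [0,3,2,3,0,3], [0,0,1,0,1,2,3], [0,3,3,2,2,2], [1,0,1,1], [0,0,3,0],
   [1,0,0,1,2,3], [0,1,1,0,3], [0,1,1,2,1,1], [0,1,1,2,1,1], [3,3,0,1], [1,1,1,2,2,2], [1,1,2],
   [0,0,1,0,1,2,3], [1,0], [1,0], [0,3,2,1,1,0], [1,1,1,2,1,0,1], [1,1,2,3,3], [0,3,0,0,0,0],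
   [1,0,0,0,3], [0,1,0,3,3,0,3], [0,3,3,2,3], [0,1,2,3,0,1,1], [0,0,3,0,1,0], [0,1,0,3,2,2],
   [3,0,3,3,2,2], [0,3,0,3], [0,0,1,0,1,2,2,1], [1,2,3,3], [0,3,2], [0,0,0,1,2,3],
   [0,0,1,2,3,0,0,1], [1,2,3,2,2], [0,3,2], [1,2,3,0,3,0,3], [2,1,1,2,2,3], [1,1,1,0,0],
   [1,1,1,0,0], [0,0,3,3,0,3], [2,1,1,2,2,3], [0,1,0,1,0,3], [0,0,3,3], [0,0,3,2,1,2,3],
   [2,3,0,3,0,0], [3,0,3,3,2,2], [3], [3,3,0,0,1,1], [0,0,0,1,2,2,2], [1,2,2,2,2,2], [0,1,1,0,0],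
   [0,1,2,3,2,3,3], [0,3,3,0,1,1,2], [1,1,2,1,0,3], [3,2,3,2,2,1,1], [2,3,0,3,0,0], [1,2,1,2,3,0,3],
   [3,0,1,1,1,0], [0,1,0,1,0,3], [2,2,1,2,3,2,3], [1,0,1,0,3,0], [0,0,3,0,3,0,3], [3,0,1,0,1,0],
   [0,0,1,1,1,2,1,2], [0,1,2,1,1,2,1], [3,2,3,0,1,0], [3,2,2,3,3,3,2], [0,1,0,1,1,1,1], [0,3,3,2],
   [1,2,3,3,2], [1,1,0,0,0,1], [1,2,1,1,0,0], [1,2,2,2,2,3], [0,3,2,2,2], [2,3,3,0,0,1,1],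
   [1,2,2,2,2,3], [1,2,3,3,2,2], [2,3,0,0,3,0], [3,0,3,3,2,3], [1,1,0,1,2,2,1], [3,3,3,0],
   [0,3,2,2], [1,1,1,1,1,2,3], [1,1,0,0,1,1,1], [2,2,1,0,1], [1,2,1,1,0,0,0], [1,2,2,2,2,3,2],
   [3,3,3,0], [1,2,2,3,3,3], [3,3,3], [3,2,1,1,1,1], [1,0,0,0,0], [2,3,3,2,3,0], [0,0,1,0],
   [2,3,3,2,3], [3,3,0,1,0,3,3], [0,1,2,3,2,1,0], [3,0,1,0,1], [2,2,2,2], [3,0,1,0,1,2],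
   [2,1,1,1,0,0], [1,0,0,0,0,0], [0,0,1,0], [1,0,1,0,3], [3,2,3,3,3], [2,1,1,1,0], [2,2,2,1,1,1],
   [3,2,2,3,2], [0,3,3,2,1,2,2], [0,0,1], [1,0,0,1,1,2,1], [3,2,1,1,1,1,2], [0,3,3,3,0], [3,2,1,2],
   [0,3,3,0,3,0,0], [3,0,0,3], [1,2,3,3,3,0], [2,2,1,0,3,2], [0,0,1,1,1,1,2,2], [1,2,3,3],
   [2,1,0,1,0], [0,1,0,0,3,2], [3,3,2,1,2,2], [3,0,0,3], [0,0,1,1,0,0], [3,2,3,2,2,2],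
   [0,0,0,1,2,3], [1,0,1], [3,0,1,1,1,1,2], [1,2,3,3,3,0], [0,1,2,2,3], [0,0,0,3,3],
   [3,0,1,0,1,1,2], [0,0,1,2,2,2,1], [2,2,3,3,2,3], [0,0,3,3,2], [1,2,3,3], [0,1,1,2,2,1],
   [0,1,0,1,2], [0,3,0,3,3,0], [2,1,0,3,0,1], [1,1,0,1,1,1,1], [2,1,0,0,1], [0,1,0,0,0,0,3],
   [0,1,1,0,3,3,3], [3,2,1,2], [0,3,2,2,2,3,0], [0,3,0,1,1,2], [0,1,2,3,3,3], [0,3,3,3,0],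
   [3,2,3,0,3,3], [0,3,3,2,3,0], [1,1,0,0,1,0,1], [0,0,1,0,1,2], [3,2,3,3,0,0], [2,3,0,0,0],
   [0,0,0,3,3], [0,0,1,0,1,2], [3,3,2,2], [1,2,1,1,0], [1,0,0,3,2,1,0], [0,0,3,0,1], [2,3,2,1,1,2],
   [3,3,0,3,3,0], [0,3,0,3,2], [2,3,3,0,3,3], [0,0,0,0,3,2,1], [0,1,1,2,2,2,1,0], [0,1,0,1,2,2,1,2],
   [0,3,2,2,2,2], [1,2,2,3,3,3], [0,1,1,2,1,1,1], [1,0,3,2,1], [1,1,1,0], [0,3,3,2], [2,3,0,0,3],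
   [1,0,3,2,3,0,0], [0,3,2,3,3,0], [0,3,3,2,2], [0,1,0,3,0,3,3], [0,0,3,0,1], [3,3,3],
   [0,3,0,0,3,3], [0,0,1,2], [0,0,3,3,2], [2,3,2,2,1,1], [0,0,0,0,3], [3,3,0,3,0,3], [2,3,0,3,0],
   [1,2,3,0,0,1], [0,0,3,3,2], [1,2,1,0], [1,1,2,3,0,3], [0,1,1,1,1,1,2], [1,0,0,0], [1,2,2,1],
   [3,0,3,3,2,2,2], [1,0,1,0,3], [0,0,3,0,1], [3,3,0,0,1,1,2], [1,2,2,2,3], [0,3,0,3], [3,3,3,0,0],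
   [2,1,1,2,1,0], [1,2,2,3,3,3,0], [3,0,3,3,3], [3,0,3,3,2,3,0], [1,2,2,2,3], [2,1,0,1,1],
   [2,3,2,1,1], [3,2,2,3,3,3], [1,1,2,3,2,1,0], [1,0,0,0,1,1,2,3], [1,1,0,3,0], [2,2,1,0,1,0],
   [3,0,0,0,3,3,0], [0,3,2,2,2,1,2], [0,1,0,0,1,2,3], [3,2,1,0,1], [3,0,1,1,2], [0,0,1,1,1,1,0],
   [3,2,3,2,3], [1,1,1,2,1,1,0], [3,3,2], [2,1,1,1,0,0,0], [0,0,0,1,0,3,2,3], [1,0,0,0,3,0],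
   [2,2,1,0,3,0,1], [2,1,1,0,3,2,2], [1,2,2,2,3], [0,3,3,2,1,2], [0,1,2,1,1], [0,3,3,3,2,3,2], [3],
   [0,3,3,0,0,0,3], [0,1,0,1,0,1], [3,2,1,1,1,2,3], [1,1,0,3,2,3], [0,0,3,3], [0,3,2],
   [0,0,3,2,2,1,0], [1,1,0,1,0,0,0], [1,2,3,2,2], [1,1,0,3,2,3], [0,1,1,1,1,1], [0,0,1,0,0],
   [0,3,3], [0,3,3,3,2], [0,3,2,1,0,1,0], [0,3,3], [1,1,0,3,0,1,1], [0,1,0,1,2,2,1], [1,2,3,3,2,1],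
   [0,3,0,3,0,1], [3,3,3,0,0,0,3], [1,2,3,2,3,3,3], [3,3,2,1,1], [1,2,3,3,2,2], [2,3,2,1,1,0,3],
   [0,3,2,3,2], [0,1,0,3,2,3], [1,0,0,0,1,1,2,1], [1,0,1,2,2,1,1], [0,0,3,3,0,3], [1,1,1,1,2],
   [2,2,3,0,1,2,2], [0,3,3,0,1], [0,3,0,3,0,3], [3,0,1,1,1], [3,2,3,3,3,0], [2,3,2,1,2], [2,2,2],
   [2,2,2,1,0,1], [0,3,3,3,2], [2,1,0,0,1,0,3], [0,3,3,3,0,0,3], [0,0,3,3,0,1], [3,2,3,2,2,3],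
   [3,2,1], [1,2,1,0,0], [3,2,2,3], [1,1,0,0,3,2], [3,2,3,2,2,3], [2,2,2,2], [3,0,3,3,2],
   [1,1,2,2,3,0], [1,2,1,0,0], [0,1,2,1,2,2,2,1], [0,0,1,1,0,1], [0,3,2,3,3,2], [0,3,3,0,3,0,1],
   [2,2,2,3,0], [0,0,3,0,0,1,1], [0,1,2,2,1], [2,3,0,0,1], [1,2,1,0,0,1,2], [0,0,1,1,2],
   [2,1,0,0,0], [2,3,3,2,2], [1,0,1,1,1], [0,3,0,3], [1,0,1,1,0,1,0], [0,3,2,1,0,3,2],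
   [1,0,0,1,2,1], [1,1,2,1], [2,3,3,3], [2,1,1,2,3,2], [3,2,3,2,2,2], [1,0,1,1,1], [2,3,3,3],
   [1,2,3,2,1,1,2], [0,1,0,0,3,2], [2,3,3,2,2], [0,1,2,2,1], [2,3,3,0,1,1], [0,0,0,1,2,2,2],
   [0,0,3,3,3,0], [0,0,0,1,2,1], [2,2,2,2,1,2], [0,1,2,2,2,2], [2,2,2,2,1,2], [1,0,3,3,2,1],
   [3,3,0,1,2,1,0], [2,2,1,0,1,0], [0,1,2], [0,3,3,3,3,0,1], [1,2,3,3,3,0], [3,0,0,1], [3],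
   [3,3,0,0,1,0], [2,2,3,0], [2,3], [2,2,3,0], [0,3,3,0,3,2], [0,3,3,0,0,3], [2,1,0,1,1],
   [1,1,2,1,2,2,3,2], [1,2,3,0,1,0], [0,3,0,3,3,3,0], [0,0,3,2,2,3,0,1], [3,3,2,2], [0,1,1,1,2],
   [1,1,2,1,1,1], [3,3,2,2,3,3], [1,0,1,1,1], [0,1,0,0,1,2,3], [1,1,0,0,3,3,0], [1,1,1,0],
   [2,2,1,2,1], [2,3], [0,0,3,0,3,3], [3,2,1,1,0,1], [0,0,3,0,1,1,2,2], [2,3,3,3,2,1],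
   [0,1,0,0,0,1], [0,0,3,2,3], [3,3,0,1,1], [3,2,3,0,1], [2,2,1,1,1], [0,0,0,0,1,2,1],
   [0,1,0,3,2,3,0], [0,1,2,1,2,3,0,1], [3,3,2,1,1,0], [0,3,0,0,3,2], [2,2,3,0,0], [3,2,2,1,0,0],
   [0,1,1,1], [0,0,3,3,2,2,1], [2,2,3,0,1,2], [2,2], [0,1,0,3,0,3,2], [2,3,0], [1,1,1,0,1,2],
   [0,1,0,0,3,0,0], [1,0,1,0,0,0], [0,0,1,1,1,2,3], [3,2,1,0,3], [1,1,1,0,1,2], [0,3,3,0],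
   [0,0,3,2,2], [1,1,2,1,2,2,3], [0,3,2,1,2,1,1], [2,2,1,2,2], [0,1,1,1], [0,3,0,3,2,1,2],
   [1,0,3,2,2,3], [0,0,3,0,3,3,0], [0,1,1,1,2,2,1], [2,2], [0,0,3,0,1,1,2], [0,3,0,0,1,2,1,1],
   [3,2,2,1,1], [1,2,2,3,3,2], [2,3,2,1], [1,1,0,0,3], [0,1,1,1,0,0,3], [3,0,3,3], [1,1],
   [3,3,2,3,3], [3,0,1,1,1,0], [1,0,1,1,2,3,3], [0,0,3,2,3,0], [1,0,0,0,0,3], [3,3,2,2,1,2],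
   [3,2,3,2,1,2], [1,0,3,2,3,0,3], [3,3,3,0,0,3], [0,3,0,0,1,2,1], [3,2,3,0,3,0,1],
   [0,1,0,3,2,3,0,3], [0,0,3,0,1,2,1], [1,2,3,3,3], [0,1,1,1,2,2], [1,0,3,3,0,1], [0,3,0,3,2,2,1],
   [2,2,3], [0,1,0,1,1,1], [1,2,3,3,2], [1,0,1,0,0,0], [0,3,2,3,3], [0,1,2,2,2,1,1],
   [1,2,2,2,2,3,3], [3,0,1,1], [0,3,0,3,2,2], [3,3,2,1,2,2,2], [0,1,2,1,0,0], [0,3,3,3], [3,0,1,0],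
   [0,0,3,3,3], [2,3,2,1], [0,0,0,1,0,1], [1,2,1,0,0,0], [0,0,1,0,1,2,2], [0,0,3,3,2,2],
   [0,1,0,3,2,2,3], [1,0,0,3,0,0], [0,0,3,2,3,2], [0,3,0,3,3], [2,2,2,2,1,2,2], [0,0,3,0,3,3,0],
   [0,3,3,3], [0,0,3,3,2,2], [1,2,3,2,1,0], [1,2,3,2,1,0], [0,3,3,3,2,3], [0,3,2,2,2,3],
   [2,1,1,1,0], [2,2,1,0,1], [0,0,3,0,3,2], [1,2,1,1,1], [1,0,3,2,3,2], [0,0,1,0,3,0,3,3],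
   [0,3,2,2,3,0], [1,0,0,1], [0,0,3,2,3,3], [0,3,0,0,3,2], [3,0,1,1,0,3], [2,1,1,0,3,3],
   [1,2,3,0,0,1,2,1], [1,1,1,2,2], [0,3,2,3,0], [3,2,2,2,1,0,1], [2,3,2,1,2,1], [0,1,2,2,3],
   [1,1,2,1,2], [0,0,0,3,2,1,0], [0,1,0,3], [3,0,0,0,3,3,3], [1,1,2,3], [0,0,1,1,0,3],
   [3,3,3,0,3,0], [0,0,3,2,3,3], [2,2,3,2,2,1], [3,2,3,0,0,3], [1,1,0,1,2,3,3], [2,2,2,3,2,2,3],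
   [0,1,0,0,0,0,3], [1,0,0], [3,3,2,3,0], [2,1,2,1,0], [0,3,0,0,1,1,2], [3,2,2,2,3], [0,1,0,1,2],
   [0,3,3,2,3,0], [3,0,0,3,3,0], [2,1,1], [3,3,3,2,3], [1,1], [0,3,0,0,0,0,1], [3,2,1,0,0],
   [0,3,3,0,3,0], [1,2,3,3,3], [2,2,3], [0,3,2,2,2,2,2], [0,3,0,3,3,0,3], [1,0,0,3,2,1,1],
   [0,1,2,3,0,0,1], [3,3,3,2], [0,3,3,0,3,0], [2,1,0,0], [1,0,1,2], [1,2,1,1], [0,3,0,3,2],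
   [0,3,3,2,2], [2,1,0,1], [1,2,3,0,1], [1,1,2,1,2], [0,1,0,3,3,0], [3,0,0,0,1,1], [0,3,2,3,3,3,0],
   [1,0,0], [2,3,2,1], [1,2,3,3,3], [2,3,0,0], [0,3,0,1,2,1], [0,1,1,0,3,3,3,2], [3,3,2,3,0],
   [3,0,1,0], [0,1,1,0], [3,3,3,2,3], [1,1,1,1], [0,0,0,1,0,0,3,3], [1,0,1,1,1,0], [2,1,0,0,0,0,1],
   [0,3,3,2,2,1,2], [3,3,3,0,1,0,3], [2,3,0,1,1,0], [3,0,3,3,3], [2,3,0], [1,0,3,2,3,0,1],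
   [1,1,1,1], [0,1,0,3,3], [0,3,3,0,1,0], [1,1,2,3,2], [3,3,2], [0,1,0,1,0,0,3,2], [0,0,3,2,2,2,3],
   [3,2,3], [1,0,1,0,0,3], [3,3,3,2,1,2], [2,3,0,1], [0,0,1,1,1], [3,2,2,3,0], [0,1,0,0],
   [0,3,3,2,1,2], [3,2,2,2,2,2], [0,3,0,1,0], [0,0,1,0,3,2,3], [2,2,2,1,0,1,0], [2,2,1,2,3,2,1],
   [0,0,3,2,3,2,1], [1,1,1,0,3,2], [2,3,3,3,0,1], [1,1,2,2,1], [0,3,2,1,2,3,0], [0,1,0,0],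
   [0,0,1,1,1], [0,0,0,1,2,2], [0,0,1,0,3,2,3], [0,1,2,3,2], [2,3,3,0,3,2], [1,0,3,3,3,2],
   [1,2,1,1,1,2], [1,1,0,3,2,1], [2,1,0,1,2], [0,3,2,3], [1,1,0,1,0,1], [0,1,2,3,2,1,1], [0,3,2,3],
   [0,0,3,2,3,3,2], [0,3,3,0,3], [3,3,0,3,2], [3,2,3,2,3,3], [3,0,3,3,3], [0,0,1,0,3], [0,3,3,0],
   [0,3,3,3,3], [1,2,2,3,0,1], [0,3,2,2,3], [3,0,3,3,2,3], [0,1,2,2,2,1], [0,3,3,0,3],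
   [3,2,3,2,2,1], [3,2,1,0], [0,3,0,1,0], [2,3,0], [2,2,2], [0,1,1], [1,0,1,2,2,1], [0,0],
   [2,1,1,2], [0,3,2,3,3,3], [3,3,0,3], [1,1,1,2,2], [2,3,2,1,1], [0,1,2,3,3,2,2], [1,0,0,0,1,2],
   [3,3,3,2,2,2], [0,0,0,3,2,2], [3,3,3,2,1], [2,1,1,1,2,1], [1,1,0,3,2,1,0], [0,3,2,3,0],
   [1,0,0,0,1,1], [1,0,1], [2,1,1,1,1,2], [0,0,1,0,3,0], [2,3,3,3,2,3], [3,2,3,0,3,2,2],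
   [0,0,3,0,0], [2,2], [1,0,0,0,3,0], [0,0,0,1,1,1], [0,3,0,1,1,2], [0,0,0], [0,1,2,1,1],
   [1,0,1,0,1], [3,3,0,3], [0,3,2,1,0,0], [1,0,1,0,0,3], [0,1,1,1,1,0], [2,1,1,1,2,2],
   [0,3,3,3,3,0], [1,0,0,1,1,0,0,1], [0,1,0,3,3], [1,0,1,2], [0,1,0,3,3,0,1], [1,2,1,1],
   [1,2,1,1,2], [1,0,0,0,1,0,1], [2,1,0], [1,0,0,1,2], [2,3,3,2,1,0], [1,1,1,2,1], [3,0,0,3,3],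
   [2,3,2,1,2], [0,3,0,1,0,0], [0,1,2,1,1], [2,1,2,1], []]

def inv2 (m : ℕ) : ℕ := pop (dod0 &&& m)

def rep2 (k : ℕ) : ℕ :=
  if k = 0 then 8531954 else if k = 4 then 9875698 else if k = 6 then 10743859
  else if k = 8 then 15953934 else dod0

theorem gens2_ok : ∀ g ∈ gens2, genOK [dod0] g = true := by decide +kernel

theorem cert2 : certCheck gens2 (fun m => [rep2 (inv2 m)]) (fun m => [m]) dodecadList words2 = true := by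
  decide +kernel

/-- The stabiliser of the base dodecad is transitive on the dodecads meeting it in a given number of points. -/
theorem base_orbit (s s' : Finset GolayPt) (hs : s ∈ dodecads) (hs' : s' ∈ dodecads)
    (h : (toFinset dod0 ∩ s).card = (toFinset dod0 ∩ s').card) :
    ∃ g ∈ stabOf [dod0], g • s = s' := by
  obtain ⟨m1, hm1, rfl⟩ := mem_dodecads_iff'.mp hs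
  obtain ⟨m2, hm2, rfl⟩ := mem_dodecads_iff'.mp hs'
  apply same_orbit_of_cert gens2_ok inv2 rep2 dodecadList words2 cert2 m1 hm1 m2 hm2
  unfold inv2
  rw [← card_toFinset, ← card_toFinset, toFinset_and, toFinset_and, h]

theorem result (d d' d'' : Finset Cfsg.GolayPt) (hd : d ∈ Cfsg.dodecads) (hd' : d' ∈ Cfsg.dodecads) (hd'' : d'' ∈ Cfsg.dodecads) (h : (d ∩ d').card = (d ∩ d'').card) : ∃ g : Equiv.Perm Cfsg.GolayPt, g ∈ Cfsg.M24 ∧ g • d = d ∧ g • d' = d'' := by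
  obtain ⟨a, ha, rfl⟩ := dodecads_transitive hd
  have hs' : a⁻¹ • d' ∈ dodecads := (smul_mem_dodecads (M24.inv_mem ha)).mpr hd'
  have hs'' : a⁻¹ • d'' ∈ dodecads := (smul_mem_dodecads (M24.inv_mem ha)).mpr hd''
  have hc : (toFinset dod0 ∩ a⁻¹ • d').card = (toFinset dod0 ∩ a⁻¹ • d'').card := by
    have e1 := card_smul_inter a (toFinset dod0) (a⁻¹ • d')
    have e2 := card_smul_inter a (toFinset dod0) (a⁻¹ • d'')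
    rw [smul_inv_smul] at e1 e2
    rw [← e1, ← e2, h]
  obtain ⟨g0, hg0, e⟩ := base_orbit _ _ hs' hs'' hc
  refine ⟨a * g0 * a⁻¹, conj_mem_M24 ha hg0, conj_fix hg0 (by simp), ?_⟩
  have := conj_smul a g0 _ _ e
  rwa [smul_inv_smul, smul_inv_smul] at this

end Cfsg.Agent.S1561
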