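import Cfsg.Statements.S1562
import Mathlib
import Cfsg.Agent.Lib.Helper27.Pairs
import Cfsg.Agent.Lib.Helper7.M24Trans

set_option autoImplicit false
set_option maxRecDepth 1000000
open scoped Pointwise
open Cfsg

namespace Cfsg.Agent.S1562

open Cfsg.Agent.Helper27

theorem three_union {α : Type*} [DecidableEq α] (a b c : α) :
    ({a} ∪ {b} ∪ {c} : Finset α) = {a, b, c} := by
  ext p; simp only [Finset.mem_union, Finset.mem_insert, Finset.mem_singleton]; tauto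

theorem perm_acb {α : Type*} [DecidableEq α] (a b c : α) : ({a, b, c} : Finset α) = {a, c, b} := by
  ext p; simp only [Finset.mem_insert, Finset.mem_singleton]; tauto

theorem perm_cab {α : Type*} [DecidableEq α] (a b c : α) : ({a, b, c} : Finset α) = {c, a, b} := by
  ext p; simp only [Finset.mem_insert, Finset.mem_singleton]; tauto

theorem perm_bac {α : Type*} [DecidableEq α] (a b c : α) : ({a, b, c} : Finset α) = {b, a, c} := by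
  ext p; simp only [Finset.mem_insert, Finset.mem_singleton]; tauto

theorem perm_bca {α : Type*} [DecidableEq α] (a b c : α) : ({a, b, c} : Finset α) = {b, c, a} := by
  ext p; simp only [Finset.mem_insert, Finset.mem_singleton]; tauto

theorem perm_cba {α : Type*} [DecidableEq α] (a b c : α) : ({a, b, c} : Finset α) = {c, b, a} := by
  ext p; simp only [Finset.mem_insert, Finset.mem_singleton]; tauto


/-- The base triad: points 0, 1, 2. -/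
def T0 : ℕ := 7

def ci (c : ℕ) : ℕ := c % 24
def cj (c : ℕ) : ℕ := (c / 24) % 24
def ck (c : ℕ) : ℕ := c / 576

/-- The mask of the triple coded by `c = 576 k + 24 j + i`. -/
def tmask (c : ℕ) : ℕ := 2 ^ ci c ||| 2 ^ cj c ||| 2 ^ ck c

/-- Codes of the triples `3 ≤ i < j < k < 24`. -/
def tripleCodes : List ℕ :=
  (List.range 13824).filter fun c => decide (3 ≤ ci c) && decide (ci c < cj c) && decide (cj c < ck c)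

/-- The 21 octads containing the base triad. -/
def octs3 : List ℕ := [5902343, 3416079, 12656663, 8536111, 45159, 4505735, 11010247, 622863, 1065303, 2183687, 786999, 140167, 459847, 5279, 6292775, 9471495, 2263063, 1116327, 8657159, 4196943, 551943]

theorem octs3_eq : octs3 = octadList.filter (fun o => o &&& 7 == 7) := by decide +kernel

/-- 1 if the triple together with the base triad lies in an octad, else 0. -/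
def inOct (m : ℕ) : ℕ := if octs3.any (fun o => m &&& o == m) then 1 else 0

def rep2 (k : ℕ) : ℕ := if k = 1 then 152 else 56

/-- Generators (with inverses) of a subgroup of the setwise stabiliser of the base triad. -/
def gens2 : List (ℕ × ℕ) :=
  [(836823792392674050960126575158756416, 389005706545977983276090483330483264),
   (348098978445402655607882930615092288, 176029227390689729885570542140228672),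
   (389005706545977983276090483330483264, 836823792392674050960126575158756416),
   (176029227390689729885570542140228672, 348098978445402655607882930615092288)]

def words2 : List (List ℕ) :=
  [[], [1,0,1,0,1,2], [1,1,1,2,3], [0,0,1,2,3,3,3], [], [1,0,1,0,3,3], [2,1,1,1,0,3], [0,1,2,3,2,1,1],
   [1,2,3,3,3,0,1], [0,1,0,0,3,3,2,1], [1,0,0,1,0,1,0], [0,1,0,0,3], [2,2,1,0,0,3], [3,2,2,1,2,3,3],
   [0,3,3,0], [1,1,2,3,3,3,0], [0,1,1,2,2,3,2], [1,1,0,0,0,1,2], [2,3,3,3,3,0], [0,0,3,3,2,1,1],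
   [1,2,2,1], [1,2,3,3,3,0], [0,1,0,3,3], [1,2,2,1], [2,2,1,2,3], [2,1,0,0,3,2], [1,0,0,1,0],
   [2,1,0,0,3,0,0], [0,1,2,2,1,0], [3,3,3,3,3,3], [2,2,3,2], [1,1,0,3,3,2], [0,3,2,3,3,0,3],
   [2,3,3,0,0,1], [0,1,1,2], [1,1,1,2], [0,1,0,0,1,1,2,3], [0,0,3,2,1,2,3], [1,1,0,3,2,3],
   [1,1,1,2], [0,0,0,1,0,3,2,2], [1,0,0,1,0], [1,2,2,1,1], [0,1,2], [0,1,1,0,1,0,3], [2,2,3,2,1,0],
   [2,3,2,2,3], [0,1,0,0,0], [0,3,2,3,2,1], [2,3,3,3,3,3,2], [1,0,3,0,0], [0,0,1,1,0,0,3],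
   [1,1,0,0], [2,2,3,0,1], [3,2,2,1,1,1], [2,3,2,1,2,1], [1,0,3,3,2,2], [1,0,1,0,1,2,3],
   [0,0,1,1,2,3], [1,1,1,2,3], [2,3,0,3], [1,1,0,3,2,3,3], [1,2,1,1,2], [2,2,3,3,3,2], [0,3,3,2,2],
   [3,2,3,2,1,1], [2,1,1,1,0,3,0], [1,0,0,1,0,0,1], [2,1,2,3,2,3], [3,0,3,2,3,2], [2,3,2,1,2,2,1],
   [3], [1,1,2,3,2,1,2], [0,1,2,3,2,1], [0,1,1,0,0], [0,3,3,3,3], [1,0,1,1,2,3,2], [0,0,3,0],
   [3,0,1,1,1], [2,3,2,3,3,0], [0,1,1,0,0,3,0], [0,0,3,2,1,2,2,1], [0,3,2,3,3,2,3], [0,1,0,0,1,0,0],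
   [0,3,3,2,1], [3,3,2], [1,2,3,0,0,1,2], [3,0,1,0,3,0], [0,0,0,1,2,1,1,1], [0,1,0,1,1,0], [1,2,1],
   [3,0,3], [0,3,2,2,1,1], [0,1,0,3], [0,1,0,1,0,0,0], [3,0,1,0,0,0], [2,1,0,1,1], [0,3,0,3,2,2],
   [0,0,3,0,0,3], [0,0,1,0,1,2,3,2], [0,3,3,3,2,1,1], [1,0,0,0,3,2,1], [2,1,2,3,2,2,3],
   [1,0,0,1,1,1], [2,1,1,0,3,2,2], [2,1,2,3,3], [0,0,3,0,0,0], [1,1,1,1,0], [3,2,1,1], [3,2,1,1],
   [3,2,2,3,2], [0,3,3,2,3,3], [0,3,3,3,0,3], [1,2,1,1,1], [3,0,1], [2,3,0,3,2,1], [1,2,1], [3,0,1],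
   [2,1,1,0,3,0], [3,0,0,0,1,0], [0,0,3,0,1], [1,2,2,3,2], [0,0,0], [1,1,2,2,3,2,2],
   [0,1,0,0,1,1,2], [0,0,0], [1,1,2,2,3,0], [1,0,3,0,0,1], [3,3,0,3], [1,1,0,0,1], [3,3,2,1,1,1],
   [2,3,0,1], [1,0,3,3,0], [3,0,0,1,1], [2,3,3,0,1], [0,1,0,1,0,0,3], [1,2,3,3,3,2,2],
   [1,1,2,3,3,2], [1,0,0,1,2,2], [1,0,3,2], [3,0,0,0], [0,3,2,3,3,0,0], [1,1,0,3,2], [0,0,3,2,3,0],
   [2,1,0,1,1,1,0], [2,1,2,3,0,0], [0,0,1,2,3], [1,0,3,2,2,1], [1,0,3,3,3,0,1], [3,2,1,0],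
   [3,3,3,0,1,1], [0,0,1,0,0,3], [2,2,1,0,1], [0,0,1,2,3,3,3,0], [2,2,3,0,0], [2,2,3,0,0],
   [1,2,1,0,0,3], [3,3,0,0], [0,0,1,2,1,0], [0,1,2,1], [1,0,1,2,3,0], [1,1,1,1,1,2], [1,1,2,2,1],
   [0,3,3,0,0,1,2], [0,1,0,1], [2,3,3,2,3], [3,0,0,3], [2,3,2,1,2,3], [0,3,3,2,3,0], [1,0,1,0,3],
   [1,0,3,2,2,3], [2,3,0,0,1,1], [0,1,1,1,0,0,1], [1,2,1,1,2,2], [1,1,2,2,3], [2,3,3,0,3,3],
   [0,1,1,1], [0,0,3,3,0,1], [1,0,0,0,1], [2,3,3,0,1], [2,2,3,2,2,3], [2,3,2,1,0,0,3],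
   [0,3,2,2,3,3,0], [0,0,1,1,0], [0,0,3,2,1,0], [1,0,3,0,3], [0,1,1,0,0,1], [0,0,1,0,3,3,3],
   [3,3,0,0,3,2,2], [0,3,0,0,3,3], [3,2,1,0,3,2,2], [0,0,1,2,3,3,0,3], [3,0,3,3,3,3], [3,2,1,2,1],
   [0,1,1,2,2], [1,0,1,2,3,3,0], [2,3,3,2,3,2,2], [0,3,3,3,2], [2,2], [2,2,1,1,1,0,3], [0,0,1],
   [3,3,2,3,3,2], [0,0,0,3,3,0,0], [0,0,1,0,1,1], [0,0,0,3,2,1,1], [1,0,3,0,1,1], [1,0,1,1,2],
   [1,2,3,3], [0,0,1], [2,3,2,1,1,1,2], [1,1,0,0,1,0], [0,1,2,1,0], [0,3,3,3,2,2], [3,0,1,1,0,0],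
   [2,3,0,0,1,1,2], [0,1,0,0,1,1], [2,2,1,1,1,2], [1,0,0,1,2], [2,2], [0,0,3,2,3,0,1,0],
   [3,3,3,3,3,0], [1,0,3,3,3], [1,2,3,0,1,0,1], [2,1,2,3,2], [0,1,0,0], [2,2,3,0], [3,2,1,0,3,2],
   [2,2,3,2,1], [0,0,3], [0,3,2,3,3,0], [2,2,3,2], [2,2,1,0,0,1,2], [0,0,3,2,3,3], [2,2,1,1,0,1],
   [2,3,3,2,1,1], [0,0,1,1,0,1,0], [1,1,2], [3,3,2,1,1,2], [1,1,0,3,0,3], [2,3], [0,1,0,0,1,2],
   [1,2,3,2,3,3], [3,2,2,1,2,3], [0,3,0,3,3,2,1], [3,2,3,3,3,3,3], [3,0,3,2,3,3], [3,2,2,1,2,3,0],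
   [0,3,3,0,1,2], [0,1], [0,1], [0,1,2,2,3,0,0], [0,1,1,0,1], [3,3,0,0,3,2], [1,2,2,1,0,1],
   [0,3,0,0,0,1,1], [0,3,3,3,0,0,1], [1,1,2,3,3,3,3], [2,2,3,3], [0,0,3], [2,2,3,3],
   [3,2,1,1,0,0,0], [1,1,2,3,2,1,1], [2,2,1,1,2,1], [1,0,0,0,1,1], [1,0,3,3,2,1], [0,3,2,3,3,2],
   [2,2,3,2,1,0,1], [0,0,1,2], [0,0,3,2,3], [0,1,1,0,0,1,2], [1,1,1], [1,0,3,2], [0,3,2,3,2,1,1],
   [0,0,0,1,0,3,2], [0,1,0,1], [2,1,2,3,0,0,0], [0,1,1,0,1,0,0], [1,2,2,1,0,0,3], [2,1,2,3,0],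
   [1,0,0,1], [1,1,0,3], [2,2,1,2,2], [0,3,2,2,3,3,3], [3,3,3,3,3,2], [3,0,3,2,2,3,0],
   [2,2,1,0,0,1,1], [0,3,3,3,0], [2,3,0,3,3], [3,0,1,0,1,1], [3,0,1,1], [3,3,2,1], [0,0,1,0,0,3,2],
   [3,0,1,1,2], [2,2,1,0,1,0,0], [0,3,0,1,1], [0,0,3,0,0,1,1,0], [0], [1,1,0,0,0,3], [0,1,1,0],
   [0,3,3,3,0,0], [2,3,3,2,3,0], [2,2,1,1,1,0,0], [0,0,0,1,2,2,1], [3,2,3,2,1], [0,0,3,2,1,2,2],
   [0,0,1,1,2,2], [3,2,1,2,1,1,0], [3,2,1,0,3], [2,1,0,0,3,3], [0,1,1,0,1,2], [3,0,1,1,0],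
   [2,1,2,3,2,2], [0,0,3,2,3,2], [2,2,1,0], [1,0,1,0,3,3,0], [1,0,0,0,1,2], [1,0,1,1,0,0],
   [0,0,3,0,3], [2,1,1,1], [0], [2,1,1,1], [1,0,3,3,3,0], [1,0,0,0,1,2,3], [1,2,1,0,3,0,1],
   [0,0,0,3,3,2], [0,1,0,1,1,0], [1,0,1,0,3,2,3], [0,0,1,1,1,0,1], [2,1,1], [1,1,1,2,3,0,3],
   [1,0,1,1,0,0], [1,1,0,0,1,2,2], [2,1,2,3], [3,3,3,3,2,3], [3,0,1,1,0], [0,3,3,2,3], [1,0,1,0,1],
   [1,2,1,0,3,3], [2,1,2,3], [1,1,1,2,3,0], [3,0,0,3,0,3], [0,0,3,0,0,1,1], [2,2,3,2,3,3],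
   [0,1,1,1,2,2,3], [1,1,0,0,1,2], [1,1,0,0,1,0,0], [0,0,3,0,1,0], [0,0,1,1,0], [0,3,2,3,3],
   [1,2,2,3], [3,3,3], [1,1,2,2,3,2], [3,0,1,1], [3,3,0,0,3,0], [0,1,1,0,0,3], [2,1,0,1,1,1],
   [0,1,1,0,0,1,0], [1,1,1], [0,0,1,2,3,3,2], [0,3,0,3,2,2,1], [2,3,0,3,2,2,3], [3,2,1,2,3],
   [3,2,2,3,2,1], [0,1,0,3,3,2,3], [0,1,1], [1,0,1,1,0], [1,0,3,2,3,3,3], [2,3,3,2,3,0,0],
   [1,0,3,3], [0,3,0,0,3,3,3], [2,3,0,3,3,2], [0,1,0,0,3,2], [2,3,0,1,0,0], [1,2,2,3,2,2],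
   [1,1,0,0,0,1], [0,3,0,1,0,1,2], [0,3,0,1,0,1], [1,0,1,2,3,3,2], [1,0,1,1], [0,1,1,1,0,0],
   [2,2,1,1], [0,3,0,1,2,1], [0,1,0,0,1,0,1], [2,3], [1,0,0], [0,1,1,0,1,1], [1,0,0,1,2,3],
   [0,1,2,2,3,0], [1,1,1,0], [1,1,0,3,0], [2,2,1,0,0,1], [3,0,0,1,2,3,0], [2,3,0,3,2,2], [1,0,3,3],
   [0,0,0,3,0,1], [0,1,1,0,0], [0,0,3,3,0,1,0], [0,0,0,3,2,1,2], [2,3,0,0,1], [0,0,3,2,3,3,0],
   [2,2,3,2,3,3,3], [3,2,3,0,1,2], [0,3,3,0,0,0], [0,3,2,3,3,3], [3,0,0,3,2], [0,1,0,3,3,2,3,3],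
   [1,0,0,1,2,1,0], [3,2,2,3,3,0], [0,0,3,0,0,1], [0,0,3,3,3,3,3], [1,2,3,2,3], [1,0,1,2,3,3],
   [0,3,3,3,0,0,0], [3,0,0,3,2], [0,3,3,0,0], [0,3,0,3,3], [3,2,3,3,3,3], [2,2,1,0,3,3,2],
   [0,1,0,3,2,3], [0,1,2,2,1], [2,3,3,3,3], [0,0,0,3,2,1], [2,3,2,3], [3,0,0,1,2,1], [2,3,0,1,0],
   [1,0,0], [0,0,3,2], [1,0,3,3,0,0], [1,1,1,2,1,1,0], [3,0,0,1,1,0], [2,3,3,3,3,3], [0,1,0,0],
   [2,3,2,3,3], [0,0,3,2,3], [0,1,0,0,1,2,1], [0,1,2,2,3], [3,0,0,1,2], [2,2,1,1,0,1,1], [0,1,2,2],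
   [2,1,0,0,1,0,0], [0,3,2,3,2,1,0], [0,1,2,2], [0,1,1,2,2,3], [1,1,2,3,3,3], [1,1,0,0,0,1,0],
   [0,0], [1,1,1,2,3,2], [1,0,1,2,2,1], [1,1,2,3,0], [2,2,3], [3,2,1,2], [1,2,2,3,3],
   [1,0,0,0,1,1,1], [3,3,2,1,1,1,0], [1,0,3,3,0,0,3], [2,3,2,1,1,1,0], [1,0,1,1,0], [3,0,1,2],
   [3,3,2,3,3,0], [1,2,2,3,2,1], [0,1,0,1,2], [2,2,3,0,0,1], [0,1,0,1,0,0], [1,0,1,2,1,1],
   [1,1,2,3,3,2,1], [2,1,0,0], [0,1,1,0,3,3,0], [0,1,2,3,0,1], [0,1,0,3,2,3,2], [2,3,3,3,2,1],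
   [0,3,2], [1,1,2], [0,3,2], [3,0,3,2,1,0], [2,3,2,1,1], [0,0,1,0,3], [0,0,1,0,0],
   [1,1,2,2,3,2,2,1], [3,2,2,3,0], [0,0,0,1], [0,3,3,0,0,1,0], [2,1,0,0,1,0], [1,0,1,0,0,0],
   [1,1,1,2,3,0,1], [3,2,1,2,3,3,2], [3,3,0,1,1,1], [3,3,3,3,2], [1,2,1,0,3], [3,3,3,3,2],
   [0,0,1,1,1], [0,1,0,3,0,3], [0,3,0,0,1,0], [0,0,0,3,0,3,2], [0,0,1,2,1,0], [0,1,1,0,0,0,1],
   [0,1,1,1,2,1], [0,0,0,1,2,3], [3,2,3,3,0], [0,1,2,1,1], [1,2,1,0,3], [3,3,3,2], [1,0,1,1,2,2],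
   [0,0,1,2,2,1,1], [0,0,3,2,3,0,1], [3,0,1,2,1,0], [1,1,1,2,1,1], [0,3,0,0], [3,0,3,2,2,3],
   [2,1,2], [0,1,1,0,1,0,1], [0,0,1,0,3,2,3], [0,0,3,3,3,3], [0,3,0,3], [1,0,1,2,3], [0,3,0,3],
   [1,0,1,0,0,3], [0,3,2,2,3], [3,2,1,1,0,0], [1,0,0,0,3,3,3], [3,0,3,2], [3,2,3,3,3],
   [0,1,2,3,0,1,2,3], [3,2,2,3,2,2], [3,0,0,0,1], [1,0,3,3,0,1], [3,0,0,0,1], [3,2,2,3,3], [1,0,1],
   [0,3,0,3,2,3], [1,0,1,0,1,1], [3,3,0,1,2], [0,0,1,2], [1,1,0,3], [0,1,0,1,1], [1,2,1,0,0],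
   [0,0,0,3,3,3], [0,0,3,0,3], [3,0,1,0,3], [0,3,2,3,3,3,2], [0,0,0,1,0,1], [0,1,2,1,1],
   [3,0,0,3,0], [3,3,3], [0,0,0,3,2,1,1,2], [0,1,0,3,2], [3,2,1,1,2], [3,3,3,3,0,3], [2,1,0,1,1,2],
   [3,0,1,2], [0,0,1,2,1], [3,3,2,2], [0,3,3,0,0], [1,2,3,2,1,0], [0,0,3,2], [3,2,3,0,1,0],
   [2,1,1,0,0,1,0], [0,0,1,0,1,1,2], [0,3,2,2,1,1,2], [1,1,1,1], [0,1,0,1,1], [0,3,2,2,1,0,3],
   [3,0,0,3], [3,3,3,3,0], [3,3,0,1,1,1,1], [1,0,1,1,0,1], [2,1,2,2], [0,0,1,1,1,1], [2,1,0],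
   [0,1,1,0,3,2,1], [0,3,2,1], [2,1,2,1], [0,3,3,0], [3,2,3,0,1], [0,0,1,0,1,1,2,2],
   [3,3,3,3,0,3,2], [1,2,3,0], [2,1,0], [2,1,2,2], [2,1,1,0], [2,1,1,2,2], [0,0,0,3,2,3],
   [3,2,1,1,2,2], [0,1,1,2,1,0], [1,0,1,0,1,1,2], [0,0,1,2,2], [3,0,3,2,1,0,1], [0,0,0,1,1],
   [2,3,0,1,1,2], [3,0,0,3,0,1], [0,1,0,1,1,1], [0,3,3,2,2], [0,0,0,3,3], [0,0,0,1,0,1,1],
   [1,2,3,0,0,1], [1,0,1,1,1,1,0], [0,0,3,0], [0,3,3,2,1], [1,1,0,0,3,2,3], [1,2,1,0,1,2,1],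
   [3,3,3,0], [3,0,3], [0,0,0,3,0,3], [0,0,0,1,2,3,0], [3,3,0,1], [0,0,1,2,1,0,0], [0,1,0,3,0],
   [3,2,3,0,3], [0,3,2,3,3,3,0], [3,2,2,3,0,1], [1,0,1,0,0,0,1], [0,3,2,2,1,1,2,2], [1,2,3,2,2],
   [0,0,0,1,1], [3,0,3,2,2], [2,2,3,3,2,1], [0,0,3,3,2,3], [3,3,3,3,0], [1,1,0,0,3,3], [3,0,1,2,1],
   [1,0,0,0,3,2,3], [3,3,0,0,0], [0,0,0,1,0,0], [0,1,0,1,0], [0,1,0,1,1,1], [0,1,2,3,2,3],
   [0,0,3,2,1], [3,2,1,1,0], [2,1,0,0,1], [0,1,0,3,0,3,2], [0,1,2,3,0,1,1], [0,0,1,0], [0,0,3,2,2],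
   [1,0,0,1,2,1,1], [0,3,0,3,3,3], [1,1,1,1,0,0], [0,1,2,1,1,0], [3,2,1,1,0], [0,3,3,0,0,1],
   [1,2,1,0], [0,1,0,0,3,3,3], [3,3,3,3,2,2], [0,0,1,2,1,0,1], [3,3,2,3,3], [0,0,0,3,0,3],
   [0,0,0,1,2], [1,0,1,1,0,3,3], [3,3], [0,3,0,0,1,0,0], [0,1,2,1,1,1], [0,3,2,2,1,2,3],
   [0,0,0,1,2], [0,0,0,3,3,3,2], [0,1,2,3,0,1,2], [3,3,0,1,1,0,3], [3,0,0,0,1,1], [1,0,1,1],
   [3,0,1,2,2], [3,0,0,0,3,0,1], [3,0,0,0,1,2], [2,1,0,1,1,0], [1,2,2,3,3], [0,3,0,3,2],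
   [1,1,1,1,1], [3,2,2,3], [0,1,0,1,2,2], [2,1,2,1], [3,3,3,2,1], [0,0,0,3,3,3], [0,0,1,2,2,1,1,1],
   [0,3,0,0,1], [2,1,1,0,0,1], [1,2,3,3,2,1], [3,3,0,1,2,2], [0,0,1,0,1,0,3,3], [0,0,0,3,3,0,1],
   [3,0,3,2,2], [0,1,1,0,3,0,3], [3,3,0,1,0], [0,3,3,2,1,0], [0,0,1,2,1], [3,2,1,2,1,1],
   [1,1,2,1,0], [1,0,1,1,2,3,0], [1,2,1,0,3,3,2], [3,0,0], [2,2,3,0], [2,2,1,1,1,0], [2,2,3,2,2],
   [3,2], [3,0,0,1,0,0,3], [1,1,2,3], [1,0], [2,3,0,0,1,2], [0,3,0,3,3,2], [0,1,1,1,0],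
   [2,3,2,1,0,0,0], [0,1,1,2,3,3], [0,1,2,3,0,0,1], [3,2,2,1,1], [2,3,3,3,0], [2,3,3],
   [0,0,1,2,3,3,2,2], [2,3,3,3,2,3], [1,0,0,1,2,2,3], [1,0,3,2,2], [0,0,1,1,0,1], [1,0,3,2,3],
   [1,0,1,2], [1,2,2], [1,2,3,0,1,1,0], [1,2,2], [0,1,1,1,2,2], [3,0,3,3,2], [1,0,3,0,1,2],
   [1,0,0,1,0,3], [0,1,1,1,0,1,2], [0,0,0,1,2,2], [0,0,0,3,2,3,2], [1,0,1,1,1,1], [2,2,1,0,3],
   [1,2,3], [0,0,3,0,1,1,0], [0,0,1,1,2,2,3], [2,3,0,1,1,0], [3,0,0,3,2,1,1], [0,0,1,1],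
   [1,0,3,0,3,2], [0,0,0,3,2,2,1], [1,0,1,0,0,0,3], [3,0,3,3,3], [1,0], [2,3,2,1], [0,3,0,0,3],
   [0,3,2,3], [0,0,0,1,0], [0,0,1,1,0,0,0], [0,1,1,2,2], [3,2,2,1], [1,0,1,2,3], [1,0,0,1], [2,3,2],
   [0,1,1,2,3,2], [2,3,2], [2,3,3,3,0,1,2], [2,1,1,0,0,0], [0,0,3,2,1], [2,2,1], [2,3,3,0,3],
   [0,1,0,0,1,0], [0,0,3,3,0,1,1], [1,0,3,0], [3,0,0,1,2,3], [2,3,3], [0,3,0,3,3,3], [3,0,0,1,0],
   [1,1,2,1,1,1], [0,0,1,2,3,3,0], [1,1,1,2,1,0], [0,0,3,2,1,0,0,0], [0,3,3,3,3,0,0], [0,1,1,0],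
   [0,0,1,0,1,1,1], [1,2,3], [0,3,0,0,0,1], [0,3,3,3,3,3], [2,2,3,0,0,3], [3,3], [2,1,1], [0,0,1,1],
   [1,0,0,1,0,3,3], [2,3,0,0], [3,2,3,2,1,2], [2,3,2,1,0,3], [0,0,1,1,0,3], [1,2,2,1,0,0],
   [1,2,3,3,3], [2,2,1,2,2,3], [0,1,1,1,1,0], [2,1,2,3,0,1], [0,1,0,3,3,2], [2,1,0,0,0],
   [0,3,2,2,3,3], [0,1,2,2,1], [1,1,0], [2,1,0,0,3,2,2], [2,2,1], [1,1,0,0,1,0,1], [2,1,1,0,3],
   [1,1,2,2,1,2], [1,1,2,2,1,0,0], [1,0,0,1,2,1], [0,0,3,2,1,1], [1,2,3,2,2,3], [1,2,3,0,3],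
   [0,0,0,1,2,3], [1,2,3,3,2], [1,0,0,1,1,1,2], [3,0,0,0,3,0], [1,0,0,1,1,1,0,0], [0,0,0,1,0,0,3],
   [1,0,0,0,3,3], [0,0,1,0,3,2], [0,1,2,3,3], [0,3,0], [0,3,2,2], [1,2,3,2,1], [0,1,2,3,0,0,0,3],
   [1,0,1,2], [3,0,3,3,2], [3,0,3,2,1], [0,3,2,2,3,2], [2,3,2,1,1,2], [1,0,1,0,0], [3,0,3,2,1],
   [1,1,0], [3,2,3,3], [1,0,3,0,1,0,3], [0,0,1,2,3,3,3,3], [0,0,1,0,1,0], [0,3,3,2,2,1], [3,0,0],
   [1,0,1,1,0,3,2], [0,0,1,1,2,3,3,2], [1,2,3,0,1], [3,2], [0,1,2,3], [1,2,3,0,1,0], [3,3,2,3,0,0],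
   [2,2,3,0,3], [0,3,0,3,3,2], [2,3,3,0,0,3,0], [3,0,3,3,2,1], [1,0,0,0,3], [0,1,0,0,3,3,2],
   [0,1,2,3], [0,1,2,3,0,0,0], [0,0,3,3], [0,0,0,3], [2,3,2,3,3,3,2], [0,0,0,3], [2,1,2,2,1],
   [2,1,1,0,1], [0,0,1,2,3], [0,3,0,1], [3], [2,3,0,3], [3,3,2,3,2], [3,3,3,3,2,2,1], [0,0,0,1,2,1],
   [0,0,1,0,1,2], [2,1,0,1,2], [1,2,2,3,2,3], [3,0,1,0,1], [1,2,1,0,1], [0,3,0,0,1,1,1],
   [0,1,1,0,1,2,3], [2,3,0,3,2,3], [0,1,0,3,0,1,0], [0,3,0,1], [3,3,3,3,2,3,3], [2,1,2,2,3,0],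
   [0,0,3,0,1], [1,1,1,1,0,3,0], [0,1,0,1,2,3], [3,2,2,3,0,3], [3,3,3,0,3,3], [3,0,0,0],
   [1,0,1,2,1], [0,0,1,2,2,1], [1,0,1,1,0,3], [0,0,0,3,3,3,3], [2,1,0,1,1,0,1], [2,3,3,0,0,3],
   [2,2,3,0,3], [3,3,0,1,1,0], [2,1,1,0,3,3,0], [0,1,0,0,1,0,3], [3,2,3], [0,0,0,3,2,2],
   [1,1,2,1,0,3], [0,1,1,0,3], [2,1,1,0,3,3], [2,1,1,0,1,0], [1,0,0,0,3], [1,2,1,0,1,0,1],
   [3,2,3,0,1,1], [0,0,0,3,2], [2,3,2,3,3,3], [1,2,3,2,1,1], [1,0,1,2,3,3,3], [0,0,0,3,0],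
   [1,2,1,1,1,0,1], [3,0,1,2,3], [2,1,1,0,1,2], [0,0,1,1,2,3,3], [0,3,3,2,1,1], [1,1,0,3,2,3,3,3],
   [2,3,2,3,3,0,3], [0,3,3,2,2,1,2], [3,2,3,3,2,1], [0,3,2,3,2,2], [3,3,3,0,1], [1,1,1,1,0,3,2],
   [0,0,0,3,3,2], [3,3,0,1,1], [1,2,2,3], [0,0,0,3,0], [1,1,1,1,0,0,1], [0,0,3,3,0], [3,3,2,3,2,2],
   [0,1,0,1,2,3,2], [2,2,1,0,3,3,3], [3,3,2,3,0,0,0], [1,0,1,0,0,1], [0,3,3,3,2,2,3], [3,0,0,3,3],
   [2,1,2,1,1,0,0], [0,3,0,3,3], [3,2,2], [0,0,0,3,2], [0,1,2,1,1,0,1], [3,0,3,2,2,1],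
   [0,1,0,3,0,1], [2,1,2,2,3], [3,0,1,0,1,0,0], [1,2,3,2,2,1], [2,1,2,1,1,0], [0,1,1,0,3,2],
   [3,2,2,3,0,1,1], [3,0,0,3,3], [3,0,3,2,2,1,0], [0,0,0,1,1,1], [0,1,2,3,3,3], [0,1,0,1,2,3,3,0],
   [0,3,3,2,2,3], [3,2,1,1,0,1], [0,0,1,0,1,0,3], [2,1,2,1,1], [3,0,0,3,3,2], [0,0,0,3,3],
   [0,1,1,0,3,0], [1,2,1,0,1,0], [3,2,3], [0,1,0,1,2,3,3], [0,3,3,2,1,0,1], [3,0,3,2,2,1,2],
   [2,1,2,2,3,3], [0,0,1,2,1,1], [2,1,1,0,0,1,1], [3,0,1,0,1,0], [2,1,2,2,3,2], [3,0,3,2,2,1],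
   [2,1,0,1,0], [0,0,3,3,2], [0,0,3,3,0,0], [1,1,0,0,3], [0,1,0,3,3,3], [0,3,2,2,1,0,0],
   [0,1,2,2,1,0,3], [0,3,0,1,0,0], [0,3,2,2,1,2], [3,2,3,2], [0,3,2,3], [0,1,2,3,0,0], [0,3,0,1,2],
   [0,1,2,3,2], [0,3,3,0,0,1,1], [0,3,0,1,2], [0,1,1,0,3,0], [1,2,1,1,2,1], [0,0,0,1,2,1,1],
   [0,0,0,1,0,1,0,3], [2,1,1,1,0], [1,0,1,0,3], [3,2,1], [0,3,3,3], [1,0,0,1,0,1], [1,0,3,3,0,0,0],
   [1,2,2,3,0], [2,2,3,3,3], [1,0,1,2,2,3], [1,0,3,3,0], [1,0,0,0,1], [0,1,1,2], [3,0,3,3],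
   [0,3,2,2,3,0,3], [0,1,0,3,3], [3,2,1], [2,3,3,3,0,1], [2,3,2,1,0,0,1], [3,3,0,0,3],
   [0,1,2,3,2,1,1,1], [0,1,2], [0,3,3,0,0,1,2,3], [3,3,3,3,3], [0,1,0], [3,0,0,1,0,0], [0,3,3,2],
   [3,0,1,1,2,1], [0,0,0,3,0,1,0], [0,1,1,1,2,2], [0,0,1,1,2,2,1], [0,0,1,1,2,3,0], [1,2],
   [1,2,1,0,0,3,3], [1,2,1,0,3,0], [0,3,3], [0,1,0,1,1,0,3], [3,0,0,3,0,0], [2,3,3,3,0,1,1],
   [3,2,1,2,3,3], [1,2,2,1,2,1], [1,2,2,3,0,1], [0,1,1,0,3,3,2], [2,2,3,2,3,3,2], [0,1,1,1,2],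
   [0,1,1,0,0,0], [0,1,2,1], [2,3,3,2,3,2], [2,2,1,2,1], [0,1,1,1,2], [0,1,1,0,1,0],
   [0,3,0,0,1,0,3], [3,3,3,3], [2,2,1,0,1,0], [2,3,0,3,3,2,1], [2,2,1,0,3,3], [1,0,3,0,0,1,2], [2],
   [1,1,2,1,1], [1,2,3,3], [0,0,0,1,0,3], [0,0,0,1,2,2,3], [2,1], [1,1,0,3,0,1], [2,1,0,0,3,3,2],
   [2,3,2,2,3,2], [3,0,1,1,1,2], [1,1,0,3,2,2], [0,0,1,0], [3,0,1,1,1,0], [0,1,1,1,0,1],
   [0,1,0,3,2,3,3], [2,3,2,3,3,0,0], [0,1,1,2,1], [0,0,1,0,3,3,3,2], [1,0,1,1,1], [1,2,1,1],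
   [0,3,3], [2,3,0,3,2], [0,3,2,2,1,1,1], [3,2,1,2,1,0], [1,0,3,3,2], [1,2], [0,1,0], [1,0,1,0,3,2],
   [1,0,1,1,0,0,3], [3,2,1,1,1], [3,0,0,3,2,1], [0,0,3,0,0], [3,0,1,0,1,1,2], [0,3,0,0,0,3],
   [0,0,0,3,2,1], [0,0], [2], [1,0,0,1,0,0,1,0], [1,0,3,0,1], [0,3,2,3,3,0,1], [2,1,2,3,2,3,0],
   [3,3,3,3], [3,0,3,2,3], [2,1,1,0,0,0,3], [2,3,3,2,1,1,1], [0,0,1,2,3,3,3,2], [2,2,1,0,1,1],
   [3,0,1,0,0], [3,3,3,0,3], [3,3,0], [1,0,3,2,1], [0,0,1,1,0,0,1], [3,0,3,3], [2,2,3,3,2],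
   [0,3,3,2], [2,3,3,2,3,2,1], [0,0,0,3,3,0], [3,0,3,2], [0,0,3,0,0], [1,0,1,2,3,0,1],
   [0,1,2,3,2,3,3], [1,2,1,0], [0,1,1,0,3,3], [0,0,3,0,0,1,0], [1,0,1,1,0,0,0], [2,3,2,1,1,1],
   [1,2,1,1,1,0], [0,0,3,0,1,1,2], [1,0,3,3,2,1,0], [3,0,1,0], [1,0,3,2,1,1], [0,0,3,3,3,3,2],
   [0,1,0,1,0], [2,3,3,3,2,1,1], [0,1,1,1,2,1,1], [3,0,1,0], [3,0,1,2,1,0,1], [0,3,3,3,2,1],
   [0,0,3,3,3,2,3], [1,1,2,3,2,1,2,2], [0,3,3,2,3,3,3], [1,2,2,1,2], [2,2,1,1,2], [1,0,0,1,1],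
   [1,1,2,2], [0,3,0,1,2,1,0,0], [2,1], [3,2,3,3,0,3], [2,1,0,0,3,0], [2,3,3,0,1,1], [2,2,1,2,3,2],
   [1,0,0,1,1], [1,2,1,0,0,1,0], [0,3,0], [0,0,0,1,2,1,0], [3,3,2,3,0], [2,3,0,3,2], [1,1,1,1,0,3],
   [2,1,1,2,2,1], [0,0,3,3], [0,3,2,2,1], [0,3,2,1,1], [3,3,2,3], [2,1,2,1,1,2], [0,0,1,2,1,0,3],
   [1,0,1,1,1], [0,3,3,0,0,0,3], [3,0], [0,0,1,0,1], [1,2,1,0,1,2], [0,3,0,0,1,1], [1,0,0,0,3,2],
   [0,3,0,0,0,1,2], [2,3,0], [1,0,3,0,1,0], [0,0,1,1,2], [1], [0,3,2,3,2], [0,0,3,2,1,0,0],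
   [1,1,2,3,2], [1,0,0,0], [0,1,0,3], [0,1,0,3,3,0,1], [0,1,2,2,3,3,3], [2,2,1,1,0],
   [0,3,2,2,3,3,2], [0,1,1,1,1,2,1], [2,3,3,3,0,0], [0,1,1,1,1,2], [0,0,3,3,2,1], [0,0,1,0,3,3,2],
   [0,1,1,2,3], [2,3,3,2,1], [2,3,0], [0,1,1,1,0,1,0], [3,0,0,1], [0,0,1,2,3,3], [2,2,1,2], [1,1],
   [2,3,3,0], [0,1,2,2,1,0,0], [0,1,0,3,3,0], [0,3,0,1,2,1,0], [3,2,3,2,1,0], [2,2,3,3,3,3],
   [2,2,3,2,3], [0,1,1,2,2,3,2,3], [3,3,2,1,1], [2,3,2,1,1,0], [3,0,3,3,0], [3,0,3,3,2,2],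
   [0,0,0,1,0,1,0], [0,3,2,2,3,0], [1,1], [0,0,3,3,3,2], [1,0,1,0], [0,3], [3,0,1,1,1,1], [2,3,2,2],
   [0,1,0,0,1,0,1,0], [0,0,3,2,1,2], [0,0,1,1,0,0], [0,1,2,2,1,2], [2,3,3,3,2], [1,1,1,2,1],
   [2,1,0,0,3], [2,3,2,1,1,2,2], [1,0,3], [0,1,1,1], [0,0,3,3,0,1], [1,0,3,2,3,3], [2,2,1,1,1],
   [1,2,3,3,3,2], [2,3,2,1,0], [1,0,3], [1,1,2,3,3], [0,3,0,0,0], [1,0,0,1,2], [2,2,3,0,0,3,2],
   [1,0,3,2,3,2], [3,3,2,3,0,0,1], [2,2,1,0,0], [1,1,0,3,3,2,1], [0,1,2,2,3,3], [1,0,1],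
   [0,3,3,0,1], [1,1,0,0,0], [1,0,1,2,2], [2,3,2,2], [0,0,1,1,0,1,2], [1,0,0,1,0,0], [3,0,3,3,0],
   [1,2,1,0,1,1], [0,3,2,3,3,2,3,3], [2,2,3,2,2,3,0], [1,2,2,1,0], [2,3,2,1,2,2], [0,0,1,1,0,1,0,0],
   [1,2,3,3,3,0,0], [0,3], [1,2,2,1,0], [1,0,3,0,1,2,3], [1,0,3,0,0,0], [0,1,1], [1,2,3,3,3,2,3],
   [1,0,0,0], [0,0,0,3,2,2,1,2], [1,1,2,1], [1,1,0,3,3], [2,3,3,0], [0,1,0,0,1], [2,3,3,0,3,3,3],
   [0,0,1,0,3,0], [3,2,2,1,2], [3,2,2], [2,3,0,1,0,3], [2,2,3], [2,1,1,2], [0,0,3,0,1,1],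
   [1,1,1,1,0,3,0,1], [0,0,0,1], [0,0,0,1,0,0,0], [2,1,0,0], [1,0,3,0,3,2,1], [1,1,2,1,1,1,2],
   [2,1,2], [0,1,1,1,2,1], [2,1,1,0,0], [1,2,3,2], [2,3,0,1,1], [1,2,3,0,0], [3,3,0,0,0,3],
   [1,0,0,1,1,1,0], [1,0,0,0,3,0,3], [1,2,3,0,3,2], [2,1,1,0], [1,1,2,1], [0,0,3,0,1,1,1],
   [0,1,2,1,0,1,2], [3,0,0,0,3], [1,2,1,0,0,1], [3,2,3,3,2], [2,1,2,1,1,0,3], [1,1,2,2,1,0],
   [0,3,3,2,3,3,0], [0,0,1,0,1,2,3], [2,1,1,0,3,2], [0,0,0,1,2,3,2], [0,1,1,2,2,1], [2,3,3,2],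
   [2,3,3,0,0], [2,3,2,1,2], [2,3,2,1,0,0], [0,1,1,1,1], [0,1,1,2,3], [1,0,1,0], [2,2,3,2,3],
   [1,0,3,0,3,2,1,0], [0,0,1,0,3,3], [2,3,3,3], [1,0,0,3], [3,2,2,1,1,2], [1,0,3,0,3,3],
   [0,1,2,1,0,1], [0,0,3,3,3], [0,1,2,3,2,2], [0,3,2,2,1,0], [2,1,2,1,1,1], [0,3,2,3,2], [2,1,0,1],
   [1,0,0,0,3,0], [0,0,1,0,3,2,1], [0,3,0,1,2,2], [0,1,0,0,3,3], [0,1,1,0,3], [0,1,2,3,0],
   [1,0,1,2,1,0], [0,3,0,1,0], [1,1,0,0,3,2], [0,0,3,3,0], [3,2,3,0], [0,3,0,1,0], [3,3,3,3,0,1],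
   [0,3,3,3,3,0], [1], [1,2,3,0,1,1], [2,1,1,1,0], [3,2,1,2,1,1,2], [1,1,2,3,2,1], [2,3,3,2,2],
   [2,3,3,0,3,2], [0,1,2,3,2,1,0], [0,0,1,1,1,0], [0,1,1,0,0,0], [2,2,3,0,0,0], [2,3,3,3,2,3,2],
   [3,0], [1,0,1,1,2,3], [0,0,0,3,0,3,3], [0,1,0,1,0,0,1], [0,1,1,2,3,3,2], [2,1,0,1]]

theorem gens2_ok : ∀ g ∈ gens2, genOK [T0] g = true := by decide +kernel

theorem cert2 :
    certCheck gens2 (fun c => [rep2 (inOct (tmask c))]) (fun c => [tmask c]) tripleCodes words2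
      = true := by
  decide +kernel

theorem codes_ok : tripleCodes.all (fun c => decide (pop (tmask c) = 3) && decide (tmask c &&& 7 = 0)
    && decide (tmask c < 2 ^ 24)) = true := by decide +kernel

/-- The triples in an octad with the base triad / not in one. -/
def Lk (k : ℕ) : List ℕ := (tripleCodes.filter (fun c => inOct (tmask c) == k)).map tmask

theorem L1_length : (Lk 1).length = 210 := by decide +kernel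

theorem L0_length : (Lk 0).length = 1120 := by decide +kernel

def isIncr : List ℕ → Bool
  | [] => true
  | [_] => true
  | a :: b :: l => decide (a < b) && isIncr (b :: l)

theorem pairwise_of_isIncr : ∀ l : List ℕ, isIncr l = true → l.Pairwise (· < ·)
  | [], _ => List.Pairwise.nil
  | [_], _ => List.pairwise_singleton _ _
  | a :: b :: l, h => by
    simp only [isIncr, Bool.and_eq_true, decide_eq_true_eq] at h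
    have ih := pairwise_of_isIncr (b :: l) h.2
    refine List.pairwise_cons.mpr ⟨?_, ih⟩
    intro x hx
    rcases List.mem_cons.mp hx with rfl | hx
    · exact h.1
    · exact lt_trans h.1 ((List.pairwise_cons.mp ih).1 x hx)

theorem L1_nodup : (Lk 1).Nodup :=
  (pairwise_of_isIncr _ (by decide +kernel)).imp (fun h => ne_of_lt h)

theorem L0_nodup : (Lk 0).Nodup :=
  (pairwise_of_isIncr _ (by decide +kernel)).imp (fun h => ne_of_lt h)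

theorem toFinset_T0 : toFinset T0 = {pt 0, pt 1, pt 2} := by
  have : T0 = 2 ^ 0 ||| 2 ^ 1 ||| 2 ^ 2 := by decide
  rw [this, toFinset_or, toFinset_or, toFinset_two_pow (by norm_num), toFinset_two_pow (by norm_num),
    toFinset_two_pow (by norm_num)]
  exact three_union _ _ _

theorem mem_toFinset_T0 (p : GolayPt) : p ∈ toFinset T0 ↔ idx p < 3 := by
  rw [mem_toFinset]
  have h := idx_lt p
  generalize idx p = i at h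
  unfold T0
  interval_cases i <;> decide

theorem subset_iff {a b : ℕ} (ha : a < 2 ^ 24) : toFinset a ⊆ toFinset b ↔ a &&& b = a := by
  rw [← Finset.inter_eq_left, ← toFinset_and]
  constructor
  · intro h
    exact toFinset_inj (lt_of_le_of_lt Nat.and_le_left ha) ha h
  · intro h; rw [h]

theorem code_props {c : ℕ} (hc : c ∈ tripleCodes) :
    pop (tmask c) = 3 ∧ tmask c &&& 7 = 0 ∧ tmask c < 2 ^ 24 := by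
  have := List.all_eq_true.mp codes_ok c hc
  simp only [Bool.and_eq_true, decide_eq_true_eq] at this
  exact ⟨this.1.1, this.1.2, this.2⟩

theorem disjoint_of_code {c : ℕ} (hc : c ∈ tripleCodes) :
    Disjoint (toFinset T0) (toFinset (tmask c)) := by
  rw [Finset.disjoint_iff_inter_eq_empty, ← toFinset_and]
  have : T0 &&& tmask c = 0 := by
    rw [Nat.land_comm]; exact (code_props hc).2.1
  rw [this, toFinset_zero]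

/-- Every 3-set disjoint from the base triad is coded. -/
theorem exists_code (U : Finset GolayPt) (hU : U.card = 3) (hd : Disjoint (toFinset T0) U) :
    ∃ c ∈ tripleCodes, U = toFinset (tmask c) := by
  obtain ⟨x, y, z, hxy, hxz, hyz, rfl⟩ := Finset.card_eq_three.mp hU
  have key : ∀ a b c : GolayPt, idx a < idx b → idx b < idx c →
      Disjoint (toFinset T0) ({a, b, c} : Finset GolayPt) →
      ∃ cd ∈ tripleCodes, ({a, b, c} : Finset GolayPt) = toFinset (tmask cd) := by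
    intro a b c hab hbc hdis
    have ha := idx_lt a
    have hb := idx_lt b
    have hc := idx_lt c
    have ha3 : 3 ≤ idx a := by
      by_contra hlt
      have : a ∈ toFinset T0 := (mem_toFinset_T0 a).mpr (by omega)
      exact Finset.disjoint_left.mp hdis this (by simp)
    refine ⟨576 * idx c + 24 * idx b + idx a, ?_, ?_⟩
    · unfold tripleCodes
      rw [List.mem_filter, List.mem_range]
      refine ⟨by omega, ?_⟩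
      have e1 : ci (576 * idx c + 24 * idx b + idx a) = idx a := by unfold ci; omega
      have e2 : cj (576 * idx c + 24 * idx b + idx a) = idx b := by unfold cj; omega
      have e3 : ck (576 * idx c + 24 * idx b + idx a) = idx c := by unfold ck; omega
      rw [e1, e2, e3]
      simp only [Bool.and_eq_true, decide_eq_true_eq]
      exact ⟨⟨ha3, hab⟩, hbc⟩
    · have e1 : ci (576 * idx c + 24 * idx b + idx a) = idx a := by unfold ci; omega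
      have e2 : cj (576 * idx c + 24 * idx b + idx a) = idx b := by unfold cj; omega
      have e3 : ck (576 * idx c + 24 * idx b + idx a) = idx c := by unfold ck; omega
      unfold tmask
      rw [e1, e2, e3, toFinset_or, toFinset_or, toFinset_two_pow ha, toFinset_two_pow hb,
        toFinset_two_pow hc, pt_idx, pt_idx, pt_idx]
      exact (three_union a b c).symm
  have hx' : idx x ≠ idx y := fun h => hxy (idx_injective h)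
  have hy' : idx x ≠ idx z := fun h => hxz (idx_injective h)
  have hz' : idx y ≠ idx z := fun h => hyz (idx_injective h)
  rcases Nat.lt_or_gt_of_ne hx' with h1 | h1 <;> rcases Nat.lt_or_gt_of_ne hy' with h2 | h2 <;>
    rcases Nat.lt_or_gt_of_ne hz' with h3 | h3
  · exact key x y z h1 h3 hd
  · have e : ({x, y, z} : Finset GolayPt) = {x, z, y} := perm_acb x y z
    rw [e] at hd ⊢
    exact key x z y h2 h3 hd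
  · omega
  · have e : ({x, y, z} : Finset GolayPt) = {z, x, y} := perm_cab x y z
    rw [e] at hd ⊢
    exact key z x y h2 h1 hd
  · have e : ({x, y, z} : Finset GolayPt) = {y, x, z} := perm_bac x y z
    rw [e] at hd ⊢
    exact key y x z h1 h2 hd
  · omega
  · have e : ({x, y, z} : Finset GolayPt) = {y, z, x} := perm_bca x y z
    rw [e] at hd ⊢
    exact key y z x h3 h2 hd
  · have e : ({x, y, z} : Finset GolayPt) = {z, y, x} := perm_cba x y z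
    rw [e] at hd ⊢
    exact key z y x h3 h1 hd

/-- The octad property in mask form. -/
theorem inOct_iff {m : ℕ} (hm : m < 2 ^ 24) (hm7 : m &&& 7 = 0) :
    (∃ o ∈ octads, toFinset T0 ∪ toFinset m ⊆ o) ↔ inOct m = 1 := by
  have h7 : (7 : ℕ) < 2 ^ 24 := by norm_num
  unfold inOct
  constructor
  · rintro ⟨o, ho, hsub⟩
    obtain ⟨mo, hmo, rfl⟩ := mem_octads_iff'.mp ho
    have h1 : toFinset T0 ⊆ toFinset mo := (Finset.union_subset_iff.mp hsub).1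
    have h2 : toFinset m ⊆ toFinset mo := (Finset.union_subset_iff.mp hsub).2
    have e1 : 7 &&& mo = 7 := (subset_iff h7).mp h1
    have e2 := (subset_iff hm).mp h2
    have : octs3.any (fun o => m &&& o == m) = true := by
      rw [List.any_eq_true]
      refine ⟨mo, ?_, by simpa using e2⟩
      rw [octs3_eq, List.mem_filter]
      refine ⟨hmo, ?_⟩
      rw [Nat.land_comm] at e1
      simpa using e1
    rw [if_pos this]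
  · intro h
    by_cases hany : octs3.any (fun o => m &&& o == m) = true
    · rw [List.any_eq_true] at hany
      obtain ⟨mo, hmo, e2⟩ := hany
      rw [octs3_eq, List.mem_filter] at hmo
      refine ⟨toFinset mo, toFinset_mem_octads hmo.1, ?_⟩
      apply Finset.union_subset
      · apply (subset_iff h7).mpr
        have := hmo.2
        rw [Nat.land_comm]
        simpa using this
      · apply (subset_iff hm).mpr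
        simpa using e2
    · rw [if_neg hany] at h
      exact absurd h (by norm_num)

theorem base_set_eq (k : ℕ) (hk : k = 0 ∨ k = 1) :
    {U : Finset GolayPt | U.card = 3 ∧ Disjoint (toFinset T0) U ∧
        ((∃ o ∈ octads, toFinset T0 ∪ U ⊆ o) ↔ k = 1)} =
      {s | ∃ m ∈ Lk k, s = toFinset m} := by
  ext U
  simp only [Set.mem_ofPred_eq]
  constructor
  · rintro ⟨hU, hd, hoct⟩
    obtain ⟨c, hc, rfl⟩ := exists_code U hU hd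
    refine ⟨tmask c, ?_, rfl⟩
    unfold Lk
    rw [List.mem_map]
    refine ⟨c, ?_, rfl⟩
    rw [List.mem_filter, beq_iff_eq]
    refine ⟨hc, ?_⟩
    obtain ⟨_, h7, hlt⟩ := code_props hc
    rw [inOct_iff hlt h7] at hoct
    rcases hk with rfl | rfl
    · have : inOct (tmask c) ≠ 1 := fun h => absurd (hoct.mp h) (by norm_num)
      unfold inOct at this ⊢
      split_ifs at this ⊢ with h
      · exact absurd rfl this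
      · rfl
    · exact hoct.mpr rfl
  · rintro ⟨m, hm, rfl⟩
    unfold Lk at hm
    rw [List.mem_map] at hm
    obtain ⟨c, hc, rfl⟩ := hm
    rw [List.mem_filter, beq_iff_eq] at hc
    obtain ⟨hc, hk'⟩ := hc
    obtain ⟨hp, h7, hlt⟩ := code_props hc
    refine ⟨by rw [card_toFinset, hp], disjoint_of_code hc, ?_⟩
    rw [inOct_iff hlt h7, hk']

theorem Lk_lt (k : ℕ) : ∀ m ∈ Lk k, m < 2 ^ 24 := by
  intro m hm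
  unfold Lk at hm
  rw [List.mem_map] at hm
  obtain ⟨c, hc, rfl⟩ := hm
  exact (code_props (List.mem_of_mem_filter hc)).2.2

theorem base_count1 :
    {U : Finset GolayPt | U.card = 3 ∧ Disjoint (toFinset T0) U ∧
        (∃ o ∈ octads, toFinset T0 ∪ U ⊆ o)}.ncard = 210 := by
  have h := base_set_eq 1 (Or.inr rfl)
  simp only [iff_true] at h
  rw [h, ncard_of_list _ L1_nodup (Lk_lt 1), L1_length]

theorem base_count0 :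
    {U : Finset GolayPt | U.card = 3 ∧ Disjoint (toFinset T0) U ∧
        ¬ (∃ o ∈ octads, toFinset T0 ∪ U ⊆ o)}.ncard = 1120 := by
  have h := base_set_eq 0 (Or.inl rfl)
  simp only [zero_ne_one, iff_false] at h
  rw [h, ncard_of_list _ L0_nodup (Lk_lt 0), L0_length]

/-- Base transitivity. -/
theorem base_orbit (U U' : Finset GolayPt) (hU : U.card = 3) (hU' : U'.card = 3)
    (hd : Disjoint (toFinset T0) U) (hd' : Disjoint (toFinset T0) U')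
    (h : (∃ o ∈ octads, toFinset T0 ∪ U ⊆ o) ↔ (∃ o ∈ octads, toFinset T0 ∪ U' ⊆ o)) :
    ∃ g ∈ stabOf [T0], g • U = U' := by
  obtain ⟨c1, hc1, rfl⟩ := exists_code U hU hd
  obtain ⟨c2, hc2, rfl⟩ := exists_code U' hU' hd'
  obtain ⟨_, h71, hlt1⟩ := code_props hc1
  obtain ⟨_, h72, hlt2⟩ := code_props hc2
  rw [inOct_iff hlt1 h71, inOct_iff hlt2 h72] at h
  have hinv : inOct (tmask c1) = inOct (tmask c2) := by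
    have b1 : inOct (tmask c1) = 0 ∨ inOct (tmask c1) = 1 := by unfold inOct; split_ifs <;> simp
    have b2 : inOct (tmask c2) = 0 ∨ inOct (tmask c2) = 1 := by unfold inOct; split_ifs <;> simp
    rcases b1 with b1 | b1 <;> rcases b2 with b2 | b2
    · rw [b1, b2]
    · exact absurd (h.mpr b2) (by rw [b1]; norm_num)
    · exact absurd (h.mp b1) (by rw [b2]; norm_num)
    · rw [b1, b2]
  obtain ⟨g1, hg1, e1⟩ := reach_single (certCheck_spec gens2_ok _ _ _ _ cert2 c1 hc1)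
  obtain ⟨g2, hg2, e2⟩ := reach_single (certCheck_spec gens2_ok _ _ _ _ cert2 c2 hc2)
  refine ⟨g2 * g1⁻¹, (stabOf [T0]).mul_mem hg2 ((stabOf [T0]).inv_mem hg1), ?_⟩
  rw [mul_smul, ← e1, inv_smul_smul, hinv, e2]

theorem smul_octad_prop (a : Equiv.Perm GolayPt) (ha : a ∈ M24) (T U : Finset GolayPt) :
    (∃ o ∈ octads, a • T ∪ a • U ⊆ o) ↔ (∃ o ∈ octads, T ∪ U ⊆ o) := by
  constructor
  · rintro ⟨o, ho, hsub⟩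
    refine ⟨a⁻¹ • o, (smul_mem_octads (M24.inv_mem ha)).mpr ho, ?_⟩
    rw [← Finset.smul_finset_union] at hsub
    intro x hx
    have : a • x ∈ a • (T ∪ U) := Finset.smul_mem_smul_finset hx
    have := hsub this
    rw [Finset.mem_inv_smul_finset_iff]
    exact this
  · rintro ⟨o, ho, hsub⟩
    refine ⟨a • o, (smul_mem_octads ha).mpr ho, ?_⟩
    rw [← Finset.smul_finset_union]
    exact Finset.smul_finset_subset_smul_finset hsub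

theorem disjoint_smul_iff (a : Equiv.Perm GolayPt) (T U : Finset GolayPt) :
    Disjoint (a • T) (a • U) ↔ Disjoint T U := by
  rw [Finset.disjoint_iff_inter_eq_empty, Finset.disjoint_iff_inter_eq_empty,
    ← Finset.smul_finset_inter]
  constructor
  · intro h
    have := congrArg (fun s => a⁻¹ • s) h
    simpa using this
  · intro h; rw [h, Finset.smul_finset_empty]

theorem result (T : Finset Cfsg.GolayPt) (hT : T.card = 3) : {U : Finset Cfsg.GolayPt | U.card = 3 ∧ Disjoint T U ∧ (∃ o ∈ Cfsg.octads, T ∪ U ⊆ o)}.ncard = 210 ∧ {U : Finset Cfsg.GolayPt | U.card = 3 ∧ Disjoint T U ∧ ¬ (∃ o ∈ Cfsg.octads, T ∪ U ⊆ o)}.ncard = 1120 ∧ ∀ U U' : Finset Cfsg.GolayPt, U.card = 3 → U'.card = 3 → Disjoint T U → Disjoint T U' → ((∃ o ∈ Cfsg.octads, T ∪ U ⊆ o) ↔ (∃ o ∈ Cfsg.octads, T ∪ U' ⊆ o)) → ∃ g : Equiv.Perm Cfsg.GolayPt,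 g ∈ Cfsg.M24 ∧ g • T = T ∧ g • U = U' := by
  obtain ⟨x, y, z, hxy, hxz, hyz, rfl⟩ := Finset.card_eq_three.mp hT
  obtain ⟨a, ha, hmap⟩ := Cfsg.Agent.Helper7.m24_five_trans [pt 0, pt 1, pt 2] [x, y, z]
    (by
      simp only [List.nodup_cons, List.mem_cons, List.not_mem_nil, or_false, not_or,
        List.nodup_nil, and_true, not_false_eq_true]
      refine ⟨⟨?_, ?_⟩, ?_⟩
      · intro h; have := pt_injective (by norm_num) (by norm_num) h; omega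
      · intro h; have := pt_injective (by norm_num) (by norm_num) h; omega
      · intro h; have := pt_injective (by norm_num) (by norm_num) h; omega)
    (by simp [hxy, hxz, hyz]) rfl (by simp)
  simp only [List.map_cons, List.map_nil, List.cons.injEq, and_true] at hmap
  obtain ⟨e0, e1, e2⟩ := hmap
  have hT0 : a • toFinset T0 = ({x, y, z} : Finset GolayPt) := by
    rw [toFinset_T0, ← e0, ← e1, ← e2]
    ext p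
    simp only [Finset.mem_smul_finset, Finset.mem_insert, Finset.mem_singleton, Equiv.Perm.smul_def]
    constructor
    · rintro ⟨q, hq, rfl⟩
      rcases hq with rfl | rfl | rfl <;> simp
    · rintro (rfl | rfl | rfl)
      · exact ⟨pt 0, by simp, rfl⟩
      · exact ⟨pt 1, by simp, rfl⟩
      · exact ⟨pt 2, by simp, rfl⟩
  rw [← hT0]
  refine ⟨?_, ?_, ?_⟩
  · rw [← base_count1]
    apply ncard_transport a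
    intro s
    simp only [Set.mem_ofPred_eq]
    rw [Finset.card_smul_finset, disjoint_smul_iff, smul_octad_prop a ha]
  · rw [← base_count0]
    apply ncard_transport a
    intro s
    simp only [Set.mem_ofPred_eq]
    rw [Finset.card_smul_finset, disjoint_smul_iff, smul_octad_prop a ha]
  · intro U U' hU hU' hd hd' hoct
    have hU1 : (a⁻¹ • U).card = 3 := by rw [Finset.card_smul_finset, hU]
    have hU1' : (a⁻¹ • U').card = 3 := by rw [Finset.card_smul_finset, hU']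
    have hd1 : Disjoint (toFinset T0) (a⁻¹ • U) := by
      rw [← disjoint_smul_iff a, smul_inv_smul]; exact hd
    have hd1' : Disjoint (toFinset T0) (a⁻¹ • U') := by
      rw [← disjoint_smul_iff a, smul_inv_smul]; exact hd'
    have hoct1 : (∃ o ∈ octads, toFinset T0 ∪ a⁻¹ • U ⊆ o) ↔
        (∃ o ∈ octads, toFinset T0 ∪ a⁻¹ • U' ⊆ o) := by
      rw [← smul_octad_prop a ha, ← smul_octad_prop a ha (toFinset T0) (a⁻¹ • U'), smul_inv_smul,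
        smul_inv_smul]
      exact hoct
    obtain ⟨g0, hg0, e⟩ := base_orbit _ _ hU1 hU1' hd1 hd1' hoct1
    refine ⟨a * g0 * a⁻¹, conj_mem_M24 ha hg0, conj_fix hg0 (by simp), ?_⟩
    have := conj_smul a g0 _ _ e
    rwa [smul_inv_smul, smul_inv_smul] at this

end Cfsg.Agent.S1562
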