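import Cfsg.Statements.S1563
import Mathlib
import Cfsg.Agent.Lib.Helper26.SubsetTrans
import Cfsg.Agent.Lib.Helper26.Primitive

set_option autoImplicit false
open scoped Pointwise
open Cfsg

namespace Cfsg.Agent.S1563

open Cfsg.Agent.Helper26

/-- The suborbit sizes. -/
def nn : Fin 2 → ℕ := ![44, 231]

/-- The intersection sizes. -/
def kk : Fin 2 → ℕ := ![1, 0]

theorem arith : ∀ I : Finset (Fin 2), (1 + ∑ i ∈ I, nn i) ∣ 276 → I = ∅ ∨ 1 + ∑ i ∈ I, nn i = 276 := by
  decide

theorem kk_le (i : Fin 2) : kk i ≤ 2 := by fin_cases i <;> simp [kk]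

/-- The stabiliser of a duad (a 2-subset of the 24 points) in the group of the length-24 code is a maximal subgroup. -/
theorem result (s : Finset Cfsg.GolayPt) (hs : s.card = 2) : IsCoatom (MulAction.stabilizer Cfsg.M24 s) := by
  have horb := orbit_of_card_le_five s (by omega)
  rw [hs] at horb
  refine isCoatom_stabilizer_of_suborbits (G := M24) s 2
    (fun i => {t : Finset GolayPt | t.card = 2 ∧ (s ∩ t).card = kk i}) nn 276 ?_ ?_ ?_ ?_ ?_ ?_
    arith (by norm_num)
  · rw [horb, ncard_card_eq, card_golayPt']
    decide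
  · intro y hy
    rw [horb] at hy
    have hy2 : y.card = 2 := hy
    have hle : (s ∩ y).card ≤ 2 := by
      rw [← hs]; exact Finset.card_le_card Finset.inter_subset_left
    interval_cases h : (s ∩ y).card
    · exact Or.inr ⟨1, hy2, h⟩
    · exact Or.inr ⟨0, hy2, h⟩
    · left
      have h1 : s ∩ y = s := Finset.eq_of_subset_of_card_le Finset.inter_subset_left (by rw [h, hs])
      have h2 : s ⊆ y := Finset.inter_eq_left.mp h1
      exact (Finset.eq_of_subset_of_card_le h2 (by rw [hs, hy2])).symm
  · intro i x hx y hy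
    have hx1 : x.card = 2 := hx.1
    have hy1 : y.card = 2 := hy.1
    have hx2 : (s ∩ x).card = kk i := hx.2
    have hy2 : (s ∩ y).card = kk i := hy.2
    have hsx := Finset.card_sdiff_add_card_inter s x
    have hsy := Finset.card_sdiff_add_card_inter s y
    have hxs := Finset.card_sdiff_add_card_inter x s
    have hys := Finset.card_sdiff_add_card_inter y s
    rw [Finset.inter_comm x s] at hxs
    rw [Finset.inter_comm y s] at hys
    have hu := Finset.card_union_add_card_inter s x
    have hk := kk_le i
    obtain ⟨g, hg, e1, e2⟩ := m24_trans_pair s x y (by omega) (by omega) (by omega) (by omega)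
    exact ⟨⟨g, hg⟩, e1, e2⟩
  · intro i hi
    have h2 : (s ∩ s).card = 2 := by rw [Finset.inter_self, hs]
    have := hi.2
    rw [h2] at this
    fin_cases i <;> simp [kk] at this
  · intro i j hij
    rw [Set.disjoint_left]
    intro t ht ht'
    apply hij
    have := ht.2.symm.trans ht'.2
    fin_cases i <;> fin_cases j <;> simp [kk] at this ⊢
  · intro i
    rw [ncard_inter_card s 2 (kk i) (kk_le i), hs, card_golayPt']
    fin_cases i <;> decide

end Cfsg.Agent.S1563
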