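import Cfsg.Statements.S1564
import Mathlib
import Cfsg.Agent.Lib.Helper26.SubsetTrans
import Cfsg.Agent.Lib.Helper26.Primitive
import Cfsg.Agent.S1562

set_option autoImplicit false
open scoped Pointwise
open Cfsg

namespace Cfsg.Agent.S1564

open Cfsg.Agent.Helper26

/-- The suborbit sizes. -/
def nn : Fin 4 → ℕ := ![63, 630, 210, 1120]

theorem arith : ∀ I : Finset (Fin 4), (1 + ∑ i ∈ I, nn i) ∣ 2024 → I = ∅ ∨ 1 + ∑ i ∈ I, nn i = 2024 := by
  decide

/-- The four suborbits. -/
def OO (s : Finset GolayPt) : Fin 4 → Set (Finset GolayPt) :=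
  ![{t | t.card = 3 ∧ (s ∩ t).card = 2}, {t | t.card = 3 ∧ (s ∩ t).card = 1},
    {t | t.card = 3 ∧ Disjoint s t ∧ (∃ o ∈ Cfsg.octads, s ∪ t ⊆ o)},
    {t | t.card = 3 ∧ Disjoint s t ∧ ¬ (∃ o ∈ Cfsg.octads, s ∪ t ⊆ o)}]

theorem trans_inter (s x y : Finset GolayPt) (hs : s.card = 3) (hx1 : x.card = 3) (hy1 : y.card = 3)
    (k : ℕ) (hk : 1 ≤ k) (hx2 : (s ∩ x).card = k) (hy2 : (s ∩ y).card = k) :
    ∃ g ∈ MulAction.stabilizer M24 s, g • x = y := by
  have hsx := Finset.card_sdiff_add_card_inter s x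
  have hsy := Finset.card_sdiff_add_card_inter s y
  have hxs := Finset.card_sdiff_add_card_inter x s
  have hys := Finset.card_sdiff_add_card_inter y s
  rw [Finset.inter_comm x s] at hxs
  rw [Finset.inter_comm y s] at hys
  have hu := Finset.card_union_add_card_inter s x
  obtain ⟨g, hg, e1, e2⟩ := m24_trans_pair s x y (by omega) (by omega) (by omega) (by omega)
  exact ⟨⟨g, hg⟩, e1, e2⟩

theorem disjoint_iff_card (s t : Finset GolayPt) : Disjoint s t ↔ (s ∩ t).card = 0 := by
  rw [Finset.card_eq_zero, Finset.disjoint_iff_inter_eq_empty]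

/-- The intersection sizes. -/
def kk : Fin 4 → ℕ := ![2, 1, 0, 0]

theorem kk_inj : ∀ i j : Fin 4, kk i = kk j → i = j ∨ (i = 2 ∧ j = 3) ∨ (i = 3 ∧ j = 2) := by
  decide

theorem key1 (s t : Finset GolayPt) (i : Fin 4) (h : t ∈ OO s i) : (s ∩ t).card = kk i := by
  fin_cases i
  · exact h.2
  · exact h.2
  · exact (disjoint_iff_card s t).mp h.2.1
  · exact (disjoint_iff_card s t).mp h.2.1

/-- The stabiliser of a triad (a 3-subset of the 24 points) in the group of the length-24 code is a maximal subgroup. -/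
theorem result (s : Finset Cfsg.GolayPt) (hs : s.card = 3) : IsCoatom (MulAction.stabilizer Cfsg.M24 s) := by
  have horb := orbit_of_card_le_five s (by omega)
  rw [hs] at horb
  obtain ⟨c210, c1120, htr⟩ := Cfsg.Agent.S1562.result s hs
  refine isCoatom_stabilizer_of_suborbits (G := M24) s 4 (OO s) nn 2024 ?_ ?_ ?_ ?_ ?_ ?_
    arith (by norm_num)
  · rw [horb, ncard_card_eq, card_golayPt']
    decide
  · intro y hy
    rw [horb] at hy
    have hy2 : y.card = 3 := hy
    have hle : (s ∩ y).card ≤ 3 := by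
      rw [← hs]; exact Finset.card_le_card Finset.inter_subset_left
    interval_cases h : (s ∩ y).card
    · right
      have hd : Disjoint s y := (disjoint_iff_card s y).mpr h
      by_cases ho : ∃ o ∈ Cfsg.octads, s ∪ y ⊆ o
      · exact ⟨2, hy2, hd, ho⟩
      · exact ⟨3, hy2, hd, ho⟩
    · exact Or.inr ⟨1, hy2, h⟩
    · exact Or.inr ⟨0, hy2, h⟩
    · left
      have h1 : s ∩ y = s := Finset.eq_of_subset_of_card_le Finset.inter_subset_left (by rw [h, hs])
      have h2 : s ⊆ y := Finset.inter_eq_left.mp h1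
      exact (Finset.eq_of_subset_of_card_le h2 (by rw [hs, hy2])).symm
  · intro i x hx y hy
    fin_cases i
    · exact trans_inter s x y hs hx.1 hy.1 2 (by norm_num) hx.2 hy.2
    · exact trans_inter s x y hs hx.1 hy.1 1 (by norm_num) hx.2 hy.2
    · obtain ⟨g, hg, e1, e2⟩ := htr x y hx.1 hy.1 hx.2.1 hy.2.1 (iff_of_true hx.2.2 hy.2.2)
      exact ⟨⟨g, hg⟩, e1, e2⟩
    · obtain ⟨g, hg, e1, e2⟩ := htr x y hx.1 hy.1 hx.2.1 hy.2.1 (iff_of_false hx.2.2 hy.2.2)
      exact ⟨⟨g, hg⟩, e1, e2⟩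
  · intro i hi
    have h2 : (s ∩ s).card = 3 := by rw [Finset.inter_self, hs]
    have hnd : ¬ Disjoint s s := by
      rw [disjoint_iff_card, h2]; norm_num
    fin_cases i
    · have := hi.2; rw [h2] at this; omega
    · have := hi.2; rw [h2] at this; omega
    · exact hnd hi.2.1
    · exact hnd hi.2.1
  · intro i j hij
    rw [Set.disjoint_left]
    intro t ht ht'
    have k1 := key1 s t i ht
    have k2 := key1 s t j ht'
    rcases kk_inj i j (k1.symm.trans k2) with h | ⟨rfl, rfl⟩ | ⟨rfl, rfl⟩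
    · exact hij h
    · exact ht'.2.2 ht.2.2
    · exact ht.2.2 ht'.2.2
  · intro i
    fin_cases i
    · show {t : Finset GolayPt | t.card = 3 ∧ (s ∩ t).card = 2}.ncard = 63
      rw [ncard_inter_card s 3 2 (by norm_num), hs, card_golayPt']
      decide
    · show {t : Finset GolayPt | t.card = 3 ∧ (s ∩ t).card = 1}.ncard = 630
      rw [ncard_inter_card s 3 1 (by norm_num), hs, card_golayPt']
      decide
    · exact c210
    · exact c1120

end Cfsg.Agent.S1564
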