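import Cfsg.Statements.S1565
import Mathlib
import Cfsg.Agent.Lib.Helper27.Trans
import Cfsg.Agent.Lib.Helper26.GolayFacts
import Cfsg.Agent.Lib.Helper26.Primitive
import Cfsg.Agent.S1556

set_option autoImplicit false
set_option maxRecDepth 1000000
open scoped Pointwise
open Cfsg

namespace Cfsg.Agent.S1565

open Cfsg.Agent.Helper27

def inv0 (m : ℕ) : ℕ := pop (oct0 &&& m)

theorem count0 : (octadList.filter fun m => inv0 m == 0).length = 30 := by decide +kernel

theorem count2 : (octadList.filter fun m => inv0 m == 2).length = 448 := by decide +kernel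

theorem count4 : (octadList.filter fun m => inv0 m == 4).length = 280 := by decide +kernel

theorem base_set_eq (k : ℕ) :
    {s : Finset GolayPt | s ∈ octads ∧ (toFinset oct0 ∩ s).card = k} =
      {s | ∃ m ∈ octadList.filter (fun m => inv0 m == k), s = toFinset m} := by
  ext s
  simp only [Set.mem_ofPred_eq]
  constructor
  · rintro ⟨hs, hc⟩
    obtain ⟨m, hm, rfl⟩ := mem_octads_iff'.mp hs
    refine ⟨m, ?_, rfl⟩
    rw [List.mem_filter, beq_iff_eq]
    refine ⟨hm, ?_⟩
    unfold inv0
    rw [← card_toFinset, toFinset_and, hc]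
  · rintro ⟨m, hm, rfl⟩
    rw [List.mem_filter, beq_iff_eq] at hm
    obtain ⟨hm1, hm2⟩ := hm
    refine ⟨toFinset_mem_octads hm1, ?_⟩
    unfold inv0 at hm2
    rw [← toFinset_and, card_toFinset, hm2]

theorem base_count (k : ℕ) :
    {s : Finset GolayPt | s ∈ octads ∧ (toFinset oct0 ∩ s).card = k}.ncard =
      (octadList.filter (fun m => inv0 m == k)).length := by
  rw [base_set_eq, ncard_of_list]
  · exact octadList_nodup.filter _
  · intro m hm
    exact octadList_lt (List.mem_of_mem_filter hm)

theorem count_transport (h : Equiv.Perm GolayPt) (hh : h ∈ M24) (k : ℕ) :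
    {s : Finset GolayPt | s ∈ octads ∧ (h • toFinset oct0 ∩ s).card = k}.ncard =
      (octadList.filter (fun m => inv0 m == k)).length := by
  rw [← base_count]
  apply ncard_transport h
  intro s
  simp only [Set.mem_ofPred_eq]
  rw [smul_mem_octads hh, card_smul_inter]

/-- Number of octads meeting a given octad in `k` points. -/
theorem count_inter (o : Finset GolayPt) (ho : o ∈ octads) (k : ℕ) :
    {s : Finset GolayPt | s ∈ octads ∧ (o ∩ s).card = k}.ncard =
      (octadList.filter (fun m => inv0 m == k)).length := by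
  obtain ⟨h, hh, rfl⟩ := octads_transitive ho
  exact count_transport h hh k

theorem orbit_eq (o : Finset GolayPt) (ho : o ∈ octads) :
    MulAction.orbit M24 o = octads := by
  ext s
  constructor
  · rintro ⟨⟨g, hg⟩, rfl⟩
    exact (smul_mem_octads hg).mpr ho
  · intro hs
    obtain ⟨a, ha, rfl⟩ := octads_transitive ho
    obtain ⟨b, hb, rfl⟩ := octads_transitive hs
    refine ⟨⟨b * a⁻¹, M24.mul_mem hb (M24.inv_mem ha)⟩, ?_⟩
    show (b * a⁻¹) • a • toFinset oct0 = b • toFinset oct0
    rw [mul_smul, inv_smul_smul]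

/-- The suborbit sizes. -/
def nn : Fin 3 → ℕ := ![30, 448, 280]

/-- The intersection sizes. -/
def kk : Fin 3 → ℕ := ![0, 2, 4]

theorem arith : ∀ I : Finset (Fin 3), (1 + ∑ i ∈ I, nn i) ∣ 759 → I = ∅ ∨ 1 + ∑ i ∈ I, nn i = 759 := by
  decide

theorem result (o : Finset Cfsg.GolayPt) (ho : o ∈ Cfsg.octads) : IsCoatom (MulAction.stabilizer Cfsg.M24 o) := by
  refine Cfsg.Agent.Helper26.isCoatom_stabilizer_of_suborbits (G := M24) o 3
    (fun i => {s : Finset GolayPt | s ∈ octads ∧ (o ∩ s).card = kk i}) nn 759 ?_ ?_ ?_ ?_ ?_ ?_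
    arith (by norm_num)
  · rw [orbit_eq o ho, Cfsg.Agent.Helper26.octads_ncard]
  · intro y hy
    rw [orbit_eq o ho] at hy
    rcases Cfsg.Agent.Helper26.card_inter_octads ho hy with h | h | h | h
    · exact Or.inr ⟨0, hy, h⟩
    · exact Or.inr ⟨1, hy, h⟩
    · exact Or.inr ⟨2, hy, h⟩
    · left
      have h1 : o ∩ y = o := Finset.eq_of_subset_of_card_le Finset.inter_subset_left (by rw [h, ho.2])
      have h2 : o ⊆ y := Finset.inter_eq_left.mp h1
      exact (Finset.eq_of_subset_of_card_le h2 (by rw [ho.2, hy.2])).symm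
  · intro i x hx y hy
    obtain ⟨g, hg, e1, e2⟩ := Cfsg.Agent.S1556.result o x y ho hx.1 hy.1 (by rw [hx.2, hy.2])
    exact ⟨⟨g, hg⟩, e1, e2⟩
  · intro i hi
    have h8 : (o ∩ o).card = 8 := by rw [Finset.inter_self, ho.2]
    have := hi.2
    rw [h8] at this
    fin_cases i <;> simp [kk] at this
  · intro i j hij
    rw [Set.disjoint_left]
    intro s hs hs'
    apply hij
    have := hs.2.symm.trans hs'.2
    fin_cases i <;> fin_cases j <;> simp [kk] at this ⊢
  · intro i
    rw [count_inter o ho]
    fin_cases i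
    · exact count0
    · exact count2
    · exact count4

end Cfsg.Agent.S1565
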