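import Cfsg.Statements.S1566
import Mathlib
import Cfsg.Agent.Lib.Helper27.Trans
import Cfsg.Agent.Lib.Helper26.GolayFacts
import Cfsg.Agent.Lib.Helper26.Primitive
import Cfsg.Agent.S1560
import Cfsg.Agent.S1561

set_option autoImplicit false
open scoped Pointwise
open Cfsg

namespace Cfsg.Agent.S1566

open Cfsg.Agent.Helper26

/-- The pair consisting of a set and its complement. -/
def P (e : Finset GolayPt) : Finset (Finset GolayPt) := {e, eᶜ}

theorem compl_mem_dodecads {e : Finset GolayPt} (he : e ∈ dodecads) : eᶜ ∈ dodecads := by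
  refine ⟨?_, ?_⟩
  · have h := codeSets_symmDiff univ_mem_codeSets he.1
    have h2 : symmDiff (Finset.univ : Finset GolayPt) e = eᶜ := by
      ext x
      simp [Finset.mem_symmDiff]
    rwa [h2] at h
  · rw [Finset.card_compl, he.2]
    decide

theorem ne_compl (e : Finset GolayPt) : e ≠ eᶜ := by
  intro h
  have h1 : (none : GolayPt) ∈ e ↔ (none : GolayPt) ∈ eᶜ := by rw [← h]
  rw [Finset.mem_compl] at h1
  tauto

theorem P_compl (e : Finset GolayPt) : P eᶜ = P e := by
  unfold P
  rw [compl_compl, Finset.pair_comm]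

theorem P_eq_iff (e e' : Finset GolayPt) : P e = P e' ↔ e' = e ∨ e' = eᶜ := by
  constructor
  · intro h
    have h1 : e' ∈ P e := by
      rw [h]; unfold P; exact Finset.mem_insert_self _ _
    unfold P at h1
    rw [Finset.mem_insert, Finset.mem_singleton] at h1
    exact h1
  · rintro (rfl | rfl)
    · rfl
    · exact (P_compl e).symm

theorem smul_compl (g : Equiv.Perm GolayPt) (e : Finset GolayPt) : g • eᶜ = (g • e)ᶜ := by
  ext x
  rw [Finset.mem_compl, ← Finset.inv_smul_mem_iff, ← Finset.inv_smul_mem_iff (s := e),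
    Finset.mem_compl]

theorem smul_P (g : Equiv.Perm GolayPt) (e : Finset GolayPt) : g • P e = P (g • e) := by
  unfold P
  rw [Finset.smul_finset_insert, Finset.smul_finset_singleton, smul_compl]

theorem card_inter_compl (d e : Finset GolayPt) (hd : d.card = 12) :
    (d ∩ eᶜ).card = 12 - (d ∩ e).card := by
  have h1 : d ∩ eᶜ = d \ e := by
    ext x
    simp [Finset.mem_sdiff]
  rw [h1]
  have := Finset.card_sdiff_add_card_inter d e
  omega

theorem card_image_P (D : Finset (Finset GolayPt)) (hD : ∀ e ∈ D, eᶜ ∈ D) :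
    (D.image P).card * 2 = D.card := by
  have hfib : ∀ b ∈ D.image P, (D.filter (fun a => P a = b)).card = 2 := by
    intro b hb
    obtain ⟨e0, he0, rfl⟩ := Finset.mem_image.mp hb
    have : D.filter (fun a => P a = P e0) = {e0, e0ᶜ} := by
      ext a
      rw [Finset.mem_filter, Finset.mem_insert, Finset.mem_singleton, eq_comm, P_eq_iff]
      constructor
      · exact fun h => h.2
      · rintro (rfl | rfl)
        · exact ⟨he0, Or.inl rfl⟩
        · exact ⟨hD _ he0, Or.inr rfl⟩
    rw [this, Finset.card_pair (ne_compl e0)]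
  rw [Finset.card_eq_sum_card_fiberwise (f := P) (s := D) (t := D.image P)
    (fun x hx => Finset.mem_image_of_mem P hx), Finset.sum_const_nat hfib]

theorem ncard_image_P (S : Set (Finset GolayPt)) (D : Finset (Finset GolayPt))
    (hSD : ∀ e, e ∈ S ↔ e ∈ D) (hD : ∀ e ∈ D, eᶜ ∈ D) : (P '' S).ncard * 2 = D.card := by
  rw [← card_image_P D hD, ← Set.ncard_coe_finset]
  congr 2
  ext x
  simp only [Set.mem_image, Finset.coe_image, Finset.mem_coe, hSD]

open Cfsg.Agent.Helper27 in
theorem dod_trans {d e : Finset GolayPt} (hd : d ∈ dodecads) (he : e ∈ dodecads) :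
    ∃ g ∈ M24, g • d = e := by
  obtain ⟨a, ha, rfl⟩ := dodecads_transitive hd
  obtain ⟨b, hb, rfl⟩ := dodecads_transitive he
  refine ⟨b * a⁻¹, M24.mul_mem hb (M24.inv_mem ha), ?_⟩
  rw [mul_smul, inv_smul_smul]

theorem orbit_eq (d : Finset GolayPt) (hd : d ∈ dodecads) :
    MulAction.orbit M24 (P d) = P '' dodecads := by
  ext y
  constructor
  · rintro ⟨⟨g, hg⟩, rfl⟩
    exact ⟨g • d, (Cfsg.Agent.Helper27.smul_mem_dodecads hg).mpr hd, (smul_P g d).symm⟩
  · rintro ⟨e, he, rfl⟩
    obtain ⟨g, hg, e2⟩ := dod_trans hd he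
    exact ⟨⟨g, hg⟩, by show g • P d = P e; rw [smul_P, e2]⟩

/-- The suborbit sizes. -/
def nn : Fin 2 → ℕ := ![495, 792]

theorem arith : ∀ I : Finset (Fin 2), (1 + ∑ i ∈ I, nn i) ∣ 1288 → I = ∅ ∨ 1 + ∑ i ∈ I, nn i = 1288 := by
  decide

/-- The two suborbits. -/
def OO (d : Finset GolayPt) : Fin 2 → Set (Finset (Finset GolayPt)) :=
  ![P '' {e | e ∈ dodecads ∧ ((d ∩ e).card = 4 ∨ (d ∩ e).card = 8)},
    P '' {e | e ∈ dodecads ∧ (d ∩ e).card = 6}]

theorem filter_card (d : Finset GolayPt) (k : ℕ) :
    (dodecadFinset.filter (fun e => (d ∩ e).card = k)).card =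
      {d' : Finset GolayPt | d' ∈ dodecads ∧ (d ∩ d').card = k}.ncard := by
  rw [← Set.ncard_coe_finset]
  congr 1
  ext e
  simp [mem_dodecadFinset]

/-- The stabiliser of a pair of complementary dodecads in the group of the length-24 code is a maximal subgroup. -/
theorem result (d : Finset Cfsg.GolayPt) (hd : d ∈ Cfsg.dodecads) : IsCoatom (MulAction.stabilizer Cfsg.M24 ({d, dᶜ} : Finset (Finset Cfsg.GolayPt))) := by
  show IsCoatom (MulAction.stabilizer Cfsg.M24 (P d))
  obtain ⟨hcases, c4, c6, c8⟩ := Cfsg.Agent.S1560.result d hd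
  have hd12 : d.card = 12 := hd.2
  refine isCoatom_stabilizer_of_suborbits (G := M24) (P d) 2 (OO d) nn 1288 ?_ ?_ ?_ ?_ ?_ ?_
    arith (by norm_num)
  · rw [orbit_eq d hd]
    have := ncard_image_P dodecads dodecadFinset (fun e => (mem_dodecadFinset e).symm)
      (fun e he => (mem_dodecadFinset _).mpr (compl_mem_dodecads ((mem_dodecadFinset e).mp he)))
    rw [card_dodecadFinset] at this
    omega
  · intro y hy
    rw [orbit_eq d hd] at hy
    obtain ⟨e, he, rfl⟩ := hy
    by_cases hed : e = d
    · left; rw [hed]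
    · rcases hcases e he hed with h | h | h | h
      · left
        have h1 : e ⊆ dᶜ := by
          intro x hx
          rw [Finset.mem_compl]
          intro hxd
          have : x ∈ d ∩ e := Finset.mem_inter.mpr ⟨hxd, hx⟩
          rw [Finset.card_eq_zero.mp h] at this
          exact absurd this (Finset.notMem_empty x)
        have h2 : e = dᶜ := Finset.eq_of_subset_of_card_le h1 (by
          rw [(compl_mem_dodecads hd).2, he.2])
        rw [h2, P_compl]
      · exact Or.inr ⟨0, e, ⟨he, Or.inl h⟩, rfl⟩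
      · exact Or.inr ⟨1, e, ⟨he, h⟩, rfl⟩
      · exact Or.inr ⟨0, e, ⟨he, Or.inr h⟩, rfl⟩
  · intro i x hx y hy
    have key : ∀ e e' : Finset GolayPt, e ∈ dodecads → e' ∈ dodecads →
        (d ∩ e).card = (d ∩ e').card → ∃ g ∈ MulAction.stabilizer M24 (P d), g • P e = P e' := by
      intro e e' he he' h
      obtain ⟨g, hg, e1, e2⟩ := Cfsg.Agent.S1561.result d e e' hd he he' h
      refine ⟨⟨g, hg⟩, ?_, ?_⟩
      · show g • P d = P d
        rw [smul_P, e1]
      · show g • P e = P e'
        rw [smul_P, e2]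
    fin_cases i
    · obtain ⟨e, ⟨he, h⟩, rfl⟩ := hx
      obtain ⟨e', ⟨he', h'⟩, rfl⟩ := hy
      by_cases heq : (d ∩ e).card = (d ∩ e').card
      · exact key e e' he he' heq
      · have := key e e'ᶜ he (compl_mem_dodecads he') (by
          rw [card_inter_compl d e' hd12]; omega)
        rwa [P_compl] at this
    · obtain ⟨e, ⟨he, h⟩, rfl⟩ := hx
      obtain ⟨e', ⟨he', h'⟩, rfl⟩ := hy
      exact key e e' he he' (h.trans h'.symm)
  · intro i hi
    have hself : (d ∩ d).card = 12 := by rw [Finset.inter_self, hd12]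
    have hcompl : (d ∩ dᶜ).card = 0 := by rw [card_inter_compl d d hd12, hself]
    fin_cases i
    · obtain ⟨e, ⟨he, h⟩, heq⟩ := hi
      rcases (P_eq_iff e d).mp heq with rfl | h2
      · omega
      · have : e = dᶜ := by rw [h2, compl_compl]
        rw [this] at h; omega
    · obtain ⟨e, ⟨he, h⟩, heq⟩ := hi
      rcases (P_eq_iff e d).mp heq with rfl | h2
      · omega
      · have : e = dᶜ := by rw [h2, compl_compl]
        rw [this] at h; omega
  · intro i j hij
    rw [Set.disjoint_left]
    intro t ht ht'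
    have main : ∀ e e' : Finset GolayPt, ((d ∩ e).card = 4 ∨ (d ∩ e).card = 8) →
        (d ∩ e').card = 6 → P e = P e' → False := by
      intro e e' h h' heq
      rcases (P_eq_iff e e').mp heq with rfl | rfl
      · omega
      · rw [card_inter_compl d e hd12] at h'; omega
    fin_cases i <;> fin_cases j
    · exact hij rfl
    · obtain ⟨e, ⟨he, h⟩, rfl⟩ := ht
      obtain ⟨e', ⟨he', h'⟩, heq⟩ := ht'
      exact main e e' h h' heq.symm
    · obtain ⟨e, ⟨he, h⟩, rfl⟩ := ht
      obtain ⟨e', ⟨he', h'⟩, heq⟩ := ht'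
      exact main e' e h' h heq
    · exact hij rfl
  · intro i
    fin_cases i
    · show (P '' {e | e ∈ dodecads ∧ ((d ∩ e).card = 4 ∨ (d ∩ e).card = 8)}).ncard = 495
      have := ncard_image_P {e | e ∈ dodecads ∧ ((d ∩ e).card = 4 ∨ (d ∩ e).card = 8)}
        (dodecadFinset.filter (fun e => (d ∩ e).card = 4 ∨ (d ∩ e).card = 8))
        (fun e => by rw [Finset.mem_filter, mem_dodecadFinset]; rfl)
        (fun e he => by
          rw [Finset.mem_filter, mem_dodecadFinset] at he ⊢
          refine ⟨compl_mem_dodecads he.1, ?_⟩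
          rw [card_inter_compl d e hd12]
          omega)
      rw [Finset.filter_or, Finset.card_union_of_disjoint, filter_card, filter_card, c4, c8] at this
      · omega
      · rw [Finset.disjoint_filter]
        intro e _ h1 h2
        omega
    · show (P '' {e | e ∈ dodecads ∧ (d ∩ e).card = 6}).ncard = 792
      have := ncard_image_P {e | e ∈ dodecads ∧ (d ∩ e).card = 6}
        (dodecadFinset.filter (fun e => (d ∩ e).card = 6))
        (fun e => by simp [mem_dodecadFinset])
        (fun e he => by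
          rw [Finset.mem_filter, mem_dodecadFinset] at he ⊢
          refine ⟨compl_mem_dodecads he.1, ?_⟩
          rw [card_inter_compl d e hd12]
          omega)
      rw [filter_card, c6] at this
      omega

end Cfsg.Agent.S1566
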