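import Cfsg.Statements.S1568
import Cfsg.Agent.Lib.Helper7.LeechShapes
-- import your own Cfsg.Agent.* helpers here

set_option autoImplicit false
set_option maxRecDepth 100000
open Cfsg

namespace Cfsg.Agent.S1568

/-- Shape census of the lattice vectors of sum of squares 48 (customary norm 6): the four families (2^12, 0^12), (±3^3, ±1^21), (±4, ±2^8, 0^15) and (±5, ±1^23) have 5275648, 8290304, 3108864 and 98304 members. -/
theorem result : {x : Cfsg.GolayPt → ℤ | x ∈ Cfsg.leechLattice ∧ Cfsg.sqNorm x = 48 ∧ ∀ i, x i = 0 ∨ x i = 2 ∨ x i = -2}.ncard = 5275648 ∧ {x : Cfsg.GolayPt → ℤ | x ∈ Cfsg.leechLattice ∧ Cfsg.sqNorm x = 48 ∧ ∃ i j k, i ≠ j ∧ j ≠ k ∧ i ≠ k ∧ |x i| = 3 ∧ |x j| = 3 ∧ |x k| = 3}.ncard = 8290304 ∧ {x : Cfsg.GolayPt → ℤ | x ∈ Cfsg.leechLattice ∧ Cfsg.sqNorm x = 48 ∧ ∃ i, |x i| = 4}.ncard = 3108864 ∧ {x : Cfsg.GolayPt → ℤ | x ∈ Cfsg.leechLattice ∧ Cfsg.sqNorm x = 48 ∧ ∃ i, |x i| = 5}.ncard = 98304 := by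
  have ha : Cfsg.Agent.Helper7.leechNum (fun t => decide (t = 0 ∨ t = 2 ∨ t = -2)) 48 = 5275648 := by
    decide +kernel
  have hb : Cfsg.Agent.Helper7.leechNum Cfsg.Agent.Helper7.rOddNo5 48 = 8290304 := by
    decide +kernel
  have htot : Cfsg.Agent.Helper7.leechNum (fun _ => true) 48 = 16773120 := by decide +kernel
  have hc : Cfsg.Agent.Helper7.leechNum (fun t => !decide (t.natAbs = 4)) 48 = 13664256 := by
    decide +kernel
  have hd : Cfsg.Agent.Helper7.leechNum (fun t => !decide (t.natAbs = 5)) 48 = 16674816 := by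
    decide +kernel
  refine ⟨?_, ?_, ?_, ?_⟩
  · rw [← ha, ← Cfsg.Agent.Helper7.leech_ncard _ 48 (by norm_num)]
    congr 1
    ext x
    simp only [Set.mem_ofPred_eq, decide_eq_true_eq]
    norm_num
  · rw [← hb, ← Cfsg.Agent.Helper7.leech_ncard _ 48 (by norm_num)]
    congr 1
    ext x
    simp only [Set.mem_ofPred_eq]
    constructor
    · rintro ⟨h1, h2, h3⟩
      exact ⟨h1, by exact_mod_cast h2,
        (Cfsg.Agent.Helper7.three_threes_iff x h1 h2).mp h3⟩
    · rintro ⟨h1, h2, h3⟩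
      have h2' : Cfsg.sqNorm x = 48 := by exact_mod_cast h2
      exact ⟨h1, h2', (Cfsg.Agent.Helper7.three_threes_iff x h1 h2').mpr h3⟩
  · have := Cfsg.Agent.Helper7.leech_ncard_exists (fun t => decide (t.natAbs = 4)) 48 (by norm_num)
    rw [htot, hc] at this
    have e : 16773120 - 13664256 = 3108864 := by norm_num
    rw [e] at this
    have hset : {x : Cfsg.GolayPt → ℤ | x ∈ Cfsg.leechLattice ∧ Cfsg.sqNorm x = 48 ∧ ∃ i, |x i| = 4} =
        {x : Cfsg.GolayPt → ℤ | x ∈ Cfsg.leechLattice ∧ Cfsg.sqNorm x = ((48 : ℕ) : ℤ) ∧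
          ∃ i, decide ((x i).natAbs = 4) = true} := by
      ext x
      simp only [Set.mem_ofPred_eq, decide_eq_true_eq, Nat.cast_ofNat]
      constructor
      · rintro ⟨h1, h2, i, hi⟩
        exact ⟨h1, h2, i, by rw [Int.abs_eq_natAbs] at hi; omega⟩
      · rintro ⟨h1, h2, i, hi⟩
        exact ⟨h1, h2, i, by rw [Int.abs_eq_natAbs]; omega⟩
    rw [hset]
    exact this
  · have := Cfsg.Agent.Helper7.leech_ncard_exists (fun t => decide (t.natAbs = 5)) 48 (by norm_num)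
    rw [htot, hd] at this
    have e : 16773120 - 16674816 = 98304 := by norm_num
    rw [e] at this
    have hset : {x : Cfsg.GolayPt → ℤ | x ∈ Cfsg.leechLattice ∧ Cfsg.sqNorm x = 48 ∧ ∃ i, |x i| = 5} =
        {x : Cfsg.GolayPt → ℤ | x ∈ Cfsg.leechLattice ∧ Cfsg.sqNorm x = ((48 : ℕ) : ℤ) ∧
          ∃ i, decide ((x i).natAbs = 5) = true} := by
      ext x
      simp only [Set.mem_ofPred_eq, decide_eq_true_eq, Nat.cast_ofNat]
      constructor
      · rintro ⟨h1, h2, i, hi⟩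
        exact ⟨h1, h2, i, by rw [Int.abs_eq_natAbs] at hi; omega⟩
      · rintro ⟨h1, h2, i, hi⟩
        exact ⟨h1, h2, i, by rw [Int.abs_eq_natAbs]; omega⟩
    rw [hset]
    exact this

end Cfsg.Agent.S1568
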