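import Mathlib
import Cfsg.Statements.S1574
import Cfsg.Agent.Lib.Helper26.LeechOrb
import Cfsg.Agent.Lib.Helper7.Census32

set_option autoImplicit false
open Cfsg

namespace Cfsg.Agent.S1574

open Cfsg.Agent.Helper7 Cfsg.Agent.Helper26

/-- packed base vector -/
def kv0 : ℕ := 42255020007607646716556773580

/-- packed start vector -/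
def kx0 : ℕ := 42255020007607646716556774532

/-- generator data 0 -/
def gl0 : List ℕ := [0, 1, 15, 7, 23, 14, 20, 4, 10, 6, 8, 3, 5, 19, 2, 21, 13, 22, 11, 16, 9, 12, 17, 18]

/-- generator data 0 -/
def gi0 : List ℕ := [0, 1, 14, 11, 7, 12, 9, 3, 10, 20, 8, 18, 21, 16, 5, 2, 19, 22, 23, 13, 6, 15, 17, 4]

/-- generator data 0 -/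
def gt0 : List ℕ := [0, 2, 28, 22, 14, 24, 18, 6, 20, 40, 16, 36, 42, 32, 10, 4, 38, 44, 46, 26, 12, 30, 34, 8]

theorem gok0 : monoOK gl0 gi0 0 gt0 = true := by decide +kernel

/-- generator data 1 -/
def gl1 : List ℕ := [0, 1, 21, 2, 11, 13, 19, 15, 22, 23, 17, 7, 4, 12, 18, 8, 10, 3, 9, 5, 16, 14, 6, 20]

/-- generator data 1 -/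
def gi1 : List ℕ := [0, 1, 3, 17, 12, 19, 22, 11, 15, 18, 16, 4, 13, 5, 21, 7, 20, 10, 14, 6, 23, 2, 8, 9]

/-- generator data 1 -/
def gt1 : List ℕ := [0, 2, 6, 34, 24, 38, 44, 22, 30, 36, 32, 8, 26, 10, 42, 14, 40, 20, 28, 12, 46, 4, 16, 18]

theorem gok1 : monoOK gl1 gi1 0 gt1 = true := by decide +kernel

/-- generator data 2 -/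
def gl2 : List ℕ := [0, 1, 4, 14, 6, 9, 10, 2, 22, 23, 20, 18, 8, 16, 15, 11, 5, 13, 17, 12, 19, 7, 21, 3]

/-- generator data 2 -/
def gi2 : List ℕ := [0, 1, 7, 23, 2, 16, 4, 21, 12, 5, 6, 15, 19, 17, 3, 14, 13, 18, 11, 20, 10, 22, 8, 9]

/-- generator data 2 -/
def gt2 : List ℕ := [0, 2, 14, 46, 4, 32, 8, 42, 24, 10, 12, 30, 38, 34, 6, 28, 26, 36, 22, 40, 20, 44, 16, 18]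

theorem gok2 : monoOK gl2 gi2 0 gt2 = true := by decide +kernel

/-- generator data 3 -/
def gl3 : List ℕ := [0, 1, 2, 3, 4, 5, 6, 7, 8, 9, 10, 11, 12, 13, 14, 15, 16, 17, 18, 19, 20, 21, 22, 23]

/-- generator data 3 -/
def gi3 : List ℕ := [0, 1, 2, 3, 4, 5, 6, 7, 8, 9, 10, 11, 12, 13, 14, 15, 16, 17, 18, 19, 20, 21, 22, 23]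

/-- generator data 3 -/
def gt3 : List ℕ := [0, 2, 5, 7, 8, 10, 12, 14, 16, 18, 20, 22, 24, 26, 28, 31, 32, 35, 36, 39, 41, 43, 44, 47]

theorem gok3 : monoOK gl3 gi3 12222476 gt3 = true := by decide +kernel

/-- generator data 4 -/
def gl4 : List ℕ := [23, 22, 0, 8, 12, 19, 16, 4, 18, 11, 10, 5, 20, 15, 14, 7, 21, 9, 6, 13, 17, 2, 3, 1]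

/-- generator data 4 -/
def gi4 : List ℕ := [2, 23, 21, 22, 7, 11, 18, 15, 3, 17, 10, 9, 4, 19, 14, 13, 6, 20, 8, 5, 12, 16, 1, 0]

/-- generator data 4 -/
def gt4 : List ℕ := [4, 46, 42, 44, 14, 22, 36, 30, 6, 34, 20, 18, 8, 38, 28, 26, 12, 40, 16, 10, 24, 32, 2, 0]

theorem gok4 : monoOK gl4 gi4 0 gt4 = true := by decide +kernel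

/-- the base vector -/
def v0 : leechLattice := ⟨vecK kv0, vecK_mem kv0 0 0 (by decide +kernel)⟩

/-- the start vector -/
def x0 : leechLattice := ⟨vecK kx0, vecK_mem kx0 0 0 (by decide +kernel)⟩

/-- the composite generator -/
def etaW : List LOp := [LOp.xi, LOp.mono gl4 gi4 0 gt4]

/-- the generators -/
def gens : List (ℕ → Option ℕ) := [fun k => some (monoKey gt0 k), fun k => some (monoKey gt1 k), fun k => some (monoKey gt2 k), fun k => some (monoKey gt3 k), fun k => packChk (wordFn etaW (unpackL k))]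

theorem hgens : ∀ F ∈ gens, ∃ g ∈ fixH [v0], ImplKey g F := by
  intro F hF
  simp only [gens, List.mem_cons, List.not_mem_nil, or_false] at hF
  rcases hF with rfl | rfl | rfl | rfl | rfl
  · exact mono_gen gok0 (fun b hb => by
      rw [List.mem_singleton.mp hb]; exact ⟨kv0, by decide +kernel, rfl, by decide +kernel⟩)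
  · exact mono_gen gok1 (fun b hb => by
      rw [List.mem_singleton.mp hb]; exact ⟨kv0, by decide +kernel, rfl, by decide +kernel⟩)
  · exact mono_gen gok2 (fun b hb => by
      rw [List.mem_singleton.mp hb]; exact ⟨kv0, by decide +kernel, rfl, by decide +kernel⟩)
  · exact mono_gen gok3 (fun b hb => by
      rw [List.mem_singleton.mp hb]; exact ⟨kv0, by decide +kernel, rfl, by decide +kernel⟩)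
  · exact word_gen etaW (by simp only [etaW, List.all_cons, List.all_nil, LOp.ok, gok4, Bool.and_self]) (fun b hb => by
      rw [List.mem_singleton.mp hb]; exact ⟨kv0, by decide +kernel, rfl, by decide +kernel⟩)

set_option maxRecDepth 1000000 in
/-- the spanning tree program -/
def prog : List ℕ := [0, 1, 0, 1, 3, 5, 5, 5, 1, 5, 5, 2, 0, 3, 5, 5, 2, 1, 5, 5, 5, 3, 1, 0, 5, 1, 5, 5, 2, 2, 1, 5, 5, 5, 5, 4, 0, 0, 0, 0, 0, 3, 5, 5, 3, 0, 5, 2, 2, 2, 5, 5, 3, 2, 5, 5, 5, 5, 5, 1, 0, 1, 2, 5, 5, 3, 5, 5, 1, 5, 3, 0, 3, 5, 5, 1, 5, 5, 5, 2, 0, 0, 3, 5, 5, 1, 2, 5, 5, 3, 0, 3, 5, 5, 5, 5, 1, 0, 5, 1, 5, 2, 2, 5, 5, 3, 5, 5, 2, 1, 5, 2, 5, 5,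 3, 0, 3, 5, 5, 1, 5, 5, 5, 3, 0, 0, 5, 2, 3, 5, 5, 3, 1, 5, 2, 5, 5, 5, 2, 0, 5, 1, 1, 5, 2, 5, 5, 2, 1, 5, 5, 3, 1, 5, 5, 5, 5, 5, 1, 0, 0, 5, 1, 1, 2, 5, 5, 3, 0, 5, 5, 5, 2, 1, 1, 5, 5, 2, 1, 5, 5, 3, 1, 5, 2, 5, 5, 5, 3, 0, 0, 5, 1, 5, 5, 1, 1, 3, 5, 5, 5, 2, 0, 5, 2, 5, 5, 5, 5, 1, 0, 0, 2, 5, 5, 5, 1, 0, 5, 1, 1, 5, 5, 3, 1, 5, 5, 5, 2, 0, 3, 5, 5, 1, 2, 5, 5, 2, 1, 5, 3, 1, 5, 5, 5, 5, 3, 0, 3, 5, 5, 1, 2, 5, 5, 2, 0, 5, 1, 2, 5, 5, 2, 3, 5, 5, 5, 5, 5, 2, 1, 0, 0, 5, 1, 5, 5, 1, 5, 3, 2, 5, 5, 5, 2, 0, 5, 1, 2, 5, 5, 2, 0, 5, 3, 5, 5, 3, 0, 5, 2, 2, 5, 5, 5, 5, 3, 0, 5, 1, 3, 5, 5, 2, 2, 5, 5, 5, 5, 3, 0, 1, 1, 1, 5, 5, 2, 5, 3,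 5, 5, 2, 2, 3, 5, 5, 5, 3, 1, 2, 5, 5, 5, 5, 1, 1, 1, 5, 5, 2, 0, 5, 1, 5, 2, 1, 5, 5, 5, 5, 2, 0, 0, 5, 5, 1, 1, 5, 3, 5, 5, 2, 1, 5, 2, 2, 5, 5, 5, 3, 1, 3, 5, 5, 2, 1, 5, 2, 5, 5, 5, 5, 5, 5, 2, 0, 1, 3, 5, 5, 2, 5, 3, 1, 0, 5, 3, 5, 5, 2, 2, 5, 5, 5, 5, 1, 1, 0, 2, 5, 5, 1, 5, 5, 3, 0, 5, 5, 5, 2, 0, 1, 3, 5, 5, 3, 5, 5, 1, 0, 2, 2, 5, 5, 5, 3, 5, 5, 2, 1, 0, 5, 5, 2, 0, 5, 2, 3, 5, 5, 5, 5, 3, 0, 1, 5, 3, 5, 5, 1, 0, 5, 5, 5, 5, 3, 0, 1, 1, 5, 2, 5, 5, 2, 0, 5, 5, 3, 2, 5, 5, 5, 1, 1, 1, 5, 5, 2, 5, 3, 5, 5, 2, 0, 0, 5, 1, 5, 3, 5, 5, 1, 0, 5, 1, 0, 5, 1, 5, 5, 5, 3, 5, 5, 5, 5, 3, 0, 3, 0, 5, 5, 5, 1, 0, 2, 2, 3, 5, 5, 3, 5, 5, 5,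 1, 0, 5, 1, 1, 5, 5, 3, 5, 5, 2, 1, 1, 5, 5, 5, 3, 0, 2, 5, 5, 1, 0, 5, 1, 5, 5, 2, 1, 5, 5, 5, 5, 2, 0, 1, 5, 5, 1, 3, 0, 5, 5, 5, 2, 0, 3, 5, 5, 1, 0, 5, 5, 2, 5, 3, 0, 5, 5, 5, 3, 0, 1, 5, 2, 5, 5, 1, 5, 2, 0, 0, 5, 5, 1, 0, 5, 5, 5, 5, 5, 5, 5, 1, 0, 0, 0, 1, 3, 5, 5, 3, 0, 5, 1, 5, 5, 5, 1, 0, 2, 5, 3, 5, 5, 2, 1, 5, 2, 5, 5, 5, 2, 2, 1, 5, 3, 1, 5, 5, 5, 5, 5, 1, 0, 0, 0, 5, 5, 5, 1, 1, 5, 5, 2, 0, 5, 1, 2, 3, 5, 5, 5, 2, 0, 5, 1, 5, 2, 5, 5, 5, 5, 2, 1, 1, 5, 2, 0, 5, 1, 5, 5, 5, 2, 0, 5, 1, 2, 5, 5, 2, 0, 5, 1, 5, 5, 5, 3, 0, 1, 5, 5, 1, 5, 5, 5, 3, 0, 0, 0, 1, 5, 5, 1, 5, 5, 1, 0, 5, 1, 5, 2, 5, 5, 5, 1, 1, 5, 2, 0, 5, 1, 2, 5,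 5, 2, 5, 5, 5, 2, 1, 2, 0, 5, 1, 5, 5, 5, 2, 0, 5, 1, 5, 2, 1, 5, 2, 5, 5, 5, 3, 1, 5, 5, 5, 5, 5, 1, 0, 0, 1, 5, 2, 5, 5, 1, 0, 2, 5, 5, 2, 1, 5, 2, 5, 5, 5, 2, 1, 3, 5, 5, 2, 1, 5, 2, 3, 5, 5, 5, 3, 0, 5, 1, 5, 2, 2, 5, 5, 5, 5, 3, 0, 0, 5, 1, 5, 2, 5, 5, 1, 0, 2, 5, 5, 1, 5, 5, 2, 0, 1, 5, 5, 1, 5, 2, 5, 5, 5, 5, 1, 1, 0, 1, 5, 5, 1, 5, 2, 3, 5, 5, 5, 3, 0, 3, 5, 5, 1, 5, 2, 5, 5, 5, 2, 1, 0, 3, 5, 5, 2, 2, 5, 5, 3, 2, 5, 5, 5, 2, 0, 2, 5, 3, 5, 5, 3, 0, 5, 1, 5, 5, 5, 3, 1, 0, 5, 2, 2, 5, 5, 3, 5, 5, 2, 0, 1, 5, 5, 2, 5, 5, 5, 5, 3, 0, 0, 2, 5, 5, 1, 5, 2, 0, 1, 5, 5, 1, 3, 5, 5, 2, 5, 3, 0, 5, 1, 5, 2, 5, 5, 5, 3, 0, 5, 1, 5, 2, 1,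 5, 2, 5, 5, 5, 5, 1, 0, 5, 1, 1, 2, 5, 5, 5, 2, 0, 0, 5, 2, 5, 5, 3, 5, 5, 3, 1, 1, 5, 5, 5, 5, 2, 1, 1, 5, 3, 5, 5, 2, 2, 0, 5, 5, 3, 5, 5, 3, 1, 3, 5, 5, 2, 0, 5, 5, 5, 5, 5, 5, 2, 0, 0, 0, 2, 5, 5, 5, 1, 0, 3, 5, 5, 1, 5, 3, 0, 5, 2, 5, 5, 5, 3, 5, 5, 1, 0, 0, 5, 3, 1, 5, 2, 5, 5, 5, 1, 1, 0, 5, 1, 5, 3, 1, 5, 5, 5, 2, 5, 3, 5, 5, 2, 0, 3, 5, 5, 1, 0, 5, 2, 5, 3, 5, 5, 2, 5, 5, 3, 0, 5, 1, 1, 5, 5, 5, 5, 3, 1, 1, 5, 2, 0, 5, 1, 5, 5, 3, 0, 5, 1, 1, 5, 5, 5, 5, 2, 0, 0, 5, 1, 5, 5, 5, 5, 5, 3, 0, 0, 0, 0, 1, 5, 2, 5, 5, 1, 3, 5, 5, 5, 1, 5, 2, 2, 3, 5, 5, 5, 5, 1, 0, 2, 5, 5, 1, 2, 0, 5, 5, 5, 2, 0, 5, 1, 2, 5, 5, 2, 1, 5, 5, 5, 5, 2,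 3, 5, 5, 3, 0, 1, 5, 5, 1, 5, 2, 5, 5, 5, 1, 0, 1, 0, 5, 5, 2, 1, 5, 2, 2, 5, 5, 5, 3, 5, 5, 1, 1, 5, 3, 0, 5, 1, 5, 5, 5, 2, 1, 0, 5, 1, 2, 5, 5, 2, 5, 3, 5, 5, 2, 0, 1, 5, 5, 3, 5, 5, 5, 5, 2, 1, 0, 5, 1, 2, 5, 5, 3, 0, 5, 1, 5, 5, 5, 2, 1, 5, 2, 3, 5, 5, 5, 3, 1, 3, 5, 5, 2, 5, 5, 5, 5, 5, 2, 0, 0, 0, 0, 5, 1, 5, 3, 0, 5, 5, 5, 1, 0, 3, 5, 5, 1, 5, 2, 2, 5, 5, 3, 1, 5, 2, 5, 5, 5, 2, 5, 3, 1, 5, 5, 5, 1, 0, 0, 5, 5, 1, 2, 0, 5, 5, 3, 5, 5, 2, 0, 1, 5, 3, 5, 5, 2, 0, 1, 5, 5, 1, 5, 5, 5, 3, 0, 5, 2, 0, 5, 2, 1, 5, 5, 5, 5, 5, 2, 0, 0, 1, 5, 5, 1, 3, 0, 5, 5, 5, 2, 0, 5, 2, 5, 3, 5, 5, 3, 1, 5, 2, 5, 5, 5, 2, 0, 3, 0, 5, 2, 5, 5, 5, 1,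 0, 5, 3, 5, 5, 5, 3, 0, 1, 5, 5, 1, 0, 5, 2, 5, 5, 2, 5, 5, 5, 3, 0, 0, 0, 5, 5, 1, 0, 5, 2, 5, 3, 5, 5, 2, 0, 5, 1, 5, 2, 0, 5, 1, 5, 5, 5, 3, 5, 5, 1, 0, 5, 2, 5, 5, 2, 0, 0, 5, 1, 5, 5, 1, 2, 1, 5, 5, 5, 2, 0, 0, 5, 1, 5, 2, 5, 5, 1, 5, 5, 3, 0, 0, 5, 1, 5, 5, 2, 5, 5, 5, 5, 5, 1, 0, 0, 2, 3, 5, 5, 3, 2, 5, 5, 5, 3, 0, 5, 2, 5, 5, 5, 1, 1, 0, 5, 1, 3, 5, 5, 2, 0, 5, 3, 5, 5, 5, 3, 1, 5, 5, 5, 2, 0, 0, 5, 5, 2, 0, 3, 5, 5, 1, 5, 2, 0, 5, 5, 3, 0, 5, 1, 5, 5, 5, 3, 0, 5, 1, 0, 5, 2, 5, 5, 2, 5, 5, 5, 3, 0, 0, 5, 1, 5, 5, 1, 0, 5, 1, 5, 2, 1, 5, 5, 3, 5, 5, 2, 5, 5, 5, 2, 0, 0, 0, 5, 1, 0, 5, 3, 5, 5, 3, 0, 5, 1, 5, 2, 5, 5, 5, 2, 0, 0,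 5, 1, 5, 2, 5, 5, 5, 3, 0, 1, 5, 3, 5, 5, 1, 0, 5, 1, 5, 5, 2, 5, 5, 5, 1, 0, 1, 5, 5, 2, 0, 0, 5, 1, 5, 3, 5, 5, 2, 0, 5, 3, 1, 5, 5, 5, 3, 0, 5, 1, 0, 5, 5, 2, 5, 5, 5, 3, 2, 5, 5, 5, 2, 0, 0, 1, 5, 2, 5, 3, 5, 5, 3, 0, 2, 5, 5, 5, 5, 1, 0, 5, 1, 5, 2, 3, 5, 5, 5, 3, 2, 5, 5, 5, 3, 0, 0, 0, 5, 1, 2, 5, 5, 2, 5, 5, 1, 1, 2, 5, 5, 2, 5, 5, 2, 0, 5, 5, 5, 1, 2, 0, 5, 2, 5, 5, 3, 1, 5, 2, 5, 5, 5, 2, 0, 5, 2, 1, 5, 5, 3, 2, 5, 5, 5, 5, 5, 3, 0, 0, 1, 5, 2, 1, 5, 5, 3, 1, 5, 2, 5, 5, 5, 3, 0, 1, 5, 3, 5, 5, 2, 0, 1, 5, 5, 5, 5, 5, 1, 1, 0, 3, 5, 5, 1, 3, 5, 5, 2, 5, 5, 3, 0, 5, 1, 5, 5, 5, 2, 1, 1, 5, 2, 0, 5, 3, 5, 5, 5, 2, 2, 5, 5, 3, 0,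 0, 1, 5, 5, 2, 5, 5, 1, 2, 5, 5, 2, 2, 5, 5, 5, 5, 5, 5, 3, 0, 1, 1, 2, 0, 5, 1, 5, 2, 5, 5, 3, 5, 5, 2, 5, 3, 2, 5, 5, 5, 2, 0, 1, 5, 2, 5, 3, 0, 2, 5, 5, 5, 5, 1, 0, 0, 5, 5, 1, 5, 3, 5, 5, 2, 0, 1, 5, 5, 2, 5, 3, 5, 5, 3, 0, 3, 5, 5, 1, 3, 5, 5, 2, 5, 5, 5, 3, 2, 0, 1, 5, 5, 1, 0, 5, 3, 5, 5, 2, 0, 1, 5, 5, 2, 5, 5, 3, 1, 5, 5, 5, 5, 5, 2, 0, 0, 0, 5, 2, 5, 5, 1, 0, 0, 5, 3, 5, 5, 1, 5, 2, 0, 3, 5, 5, 2, 5, 5, 3, 2, 5, 5, 5, 2, 0, 0, 5, 2, 5, 3, 1, 5, 2, 5, 5, 5, 1, 1, 5, 2, 5, 5, 2, 1, 5, 5, 3, 0, 5, 5, 5, 3, 0, 3, 5, 5, 1, 5, 5, 5, 1, 0, 0, 3, 5, 5, 1, 5, 2, 5, 5, 1, 0, 3, 5, 5, 1, 2, 5, 5, 2, 0, 5, 3, 5, 5, 3, 5, 5, 3, 1, 3, 5, 5,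 5, 5, 2, 0, 0, 2, 5, 5, 2, 0, 5, 5, 5, 1, 2, 0, 5, 1, 5, 5, 3, 1, 5, 2, 5, 5, 5, 2, 0, 5, 2, 5, 3, 5, 5, 3, 0, 0, 5, 1, 5, 5, 1, 3, 5, 5, 2, 3, 5, 5, 5, 5, 3, 0, 0, 3, 5, 5, 1, 2, 5, 5, 3, 5, 5, 1, 1, 5, 3, 0, 5, 1, 5, 5, 5, 2, 0, 2, 5, 5, 1, 1, 5, 5, 2, 2, 5, 5, 5, 5, 5, 5, 5, 1, 0, 0, 0, 1, 0, 5, 2, 1, 5, 5, 3, 0, 3, 5, 5, 5, 5, 2, 0, 0, 5, 5, 3, 5, 5, 3, 1, 0, 5, 5, 2, 5, 5, 5, 1, 1, 0, 5, 2, 3, 5, 5, 5, 2, 3, 5, 5, 3, 0, 1, 1, 5, 5, 5, 1, 2, 5, 5, 2, 3, 5, 5, 5, 5, 2, 0, 3, 2, 5, 5, 5, 2, 1, 2, 5, 3, 5, 5, 3, 5, 5, 3, 0, 1, 5, 3, 5, 5, 1, 5, 2, 1, 5, 5, 5, 5, 3, 0, 0, 5, 1, 0, 5, 3, 5, 5, 2, 5, 3, 1, 5, 5, 5, 1, 2, 5, 3, 5, 5, 2, 0,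 5, 1, 5, 2, 0, 5, 1, 5, 3, 5, 5, 3, 5, 5, 5, 5, 1, 0, 0, 0, 0, 5, 5, 5, 2, 2, 5, 3, 5, 5, 3, 0, 2, 5, 5, 2, 3, 5, 5, 5, 5, 1, 1, 5, 2, 1, 5, 2, 0, 5, 5, 5, 3, 5, 5, 2, 0, 1, 5, 5, 1, 0, 0, 5, 5, 1, 1, 3, 5, 5, 3, 5, 5, 5, 2, 0, 5, 1, 1, 1, 5, 5, 5, 3, 2, 5, 5, 5, 3, 0, 1, 5, 5, 1, 5, 5, 5, 3, 0, 0, 5, 1, 5, 3, 5, 5, 1, 1, 5, 3, 0, 5, 1, 5, 5, 5, 2, 0, 5, 1, 0, 5, 1, 3, 5, 5, 5, 5, 5, 5, 3, 0, 0, 1, 3, 5, 5, 5, 1, 0, 5, 3, 5, 5, 2, 2, 5, 5, 3, 0, 1, 5, 5, 1, 5, 2, 1, 5, 2, 1, 5, 5, 5, 5, 5, 1, 1, 1, 5, 2, 5, 3, 1, 5, 5, 5, 2, 0, 5, 1, 0, 5, 1, 5, 5, 5, 5, 2, 0, 0, 5, 2, 1, 5, 2, 5, 5, 3, 0, 5, 5, 5, 1, 1, 2, 5, 5, 2, 5, 3, 5, 5, 2, 1, 2,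 2, 5, 5, 3, 5, 5, 5, 5, 5, 5, 1, 1, 0, 2, 0, 5, 1, 5, 2, 0, 5, 3, 5, 5, 3, 2, 0, 5, 5, 5, 5, 3, 1, 0, 5, 5, 2, 5, 5, 5, 2, 0, 0, 3, 5, 5, 3, 0, 5, 5, 5, 1, 1, 5, 3, 1, 5, 5, 5, 3, 2, 5, 5, 5, 3, 0, 0, 5, 1, 0, 5, 5, 2, 2, 0, 5, 5, 5, 5, 1, 0, 1, 5, 5, 1, 5, 5, 5, 5, 2, 0, 0, 2, 0, 5, 3, 5, 5, 3, 0, 5, 5, 5, 3, 0, 5, 2, 3, 5, 5, 5, 5, 1, 0, 0, 1, 5, 3, 5, 5, 1, 5, 3, 5, 5, 1, 0, 0, 5, 2, 5, 5, 1, 5, 5, 2, 2, 0, 5, 5, 3, 5, 5, 5, 2, 0, 3, 0, 5, 1, 5, 5, 5, 1, 0, 1, 5, 5, 2, 1, 5, 5, 3, 5, 5, 3, 1, 5, 5, 5, 5, 3, 0, 0, 0, 0, 5, 1, 1, 5, 5, 2, 5, 5, 2, 1, 0, 5, 5, 5, 5, 1, 1, 1, 5, 5, 2, 0, 5, 2, 5, 5, 3, 5, 5, 2, 0, 5, 2, 1, 5, 5, 5, 3, 0,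 5, 1, 5, 2, 5, 5, 5, 1, 1, 0, 0, 5, 5, 1, 3, 5, 5, 3, 0, 5, 1, 5, 5, 5, 2, 0, 0, 5, 2, 5, 5, 1, 5, 2, 0, 5, 2, 5, 5, 3, 1, 5, 5, 5, 3, 0, 3, 5, 5, 1, 5, 5, 5, 2, 0, 0, 0, 5, 3, 5, 5, 3, 5, 5, 1, 0, 0, 5, 5, 2, 5, 5, 2, 0, 3, 5, 5, 1, 2, 5, 3, 5, 5, 2, 3, 5, 5, 3, 1, 5, 2, 5, 5, 5, 5, 5, 5, 2, 0, 0, 0, 0, 5, 5, 3, 5, 5, 1, 1, 0, 5, 3, 5, 5, 2, 0, 1, 5, 5, 5, 3, 5, 5, 2, 0, 0, 0, 5, 1, 5, 5, 2, 5, 3, 0, 5, 5, 5, 1, 0, 5, 2, 2, 5, 5, 5, 5, 3, 0, 0, 2, 5, 5, 5, 1, 1, 3, 5, 5, 2, 5, 3, 5, 5, 2, 0, 5, 1, 5, 5, 5, 5, 1, 0, 0, 0, 5, 2, 5, 3, 0, 5, 5, 5, 1, 2, 2, 5, 5, 5, 2, 1, 5, 2, 3, 5, 5, 5, 5, 1, 0, 2, 5, 5, 1, 0, 0, 5, 5, 5, 2, 1, 5, 3, 5,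 5, 3, 5, 5, 2, 0, 0, 0, 5, 1, 5, 2, 5, 3, 5, 5, 3, 2, 5, 5, 5, 1, 1, 5, 5, 2, 0, 1, 5, 3, 5, 5, 1, 0, 5, 3, 5, 5, 3, 5, 5, 3, 0, 0, 5, 3, 5, 5, 1, 5, 5, 5, 3, 0, 0, 0, 3, 5, 5, 5, 1, 2, 5, 5, 2, 0, 5, 1, 5, 5, 5, 1, 1, 5, 5, 2, 0, 0, 5, 1, 1, 5, 5, 5, 1, 1, 5, 2, 5, 5, 3, 0, 5, 1, 5, 2, 5, 5, 5, 5, 5, 2, 0, 1, 3, 5, 5, 2, 1, 5, 3, 5, 5, 3, 1, 5, 2, 5, 5, 5, 1, 0, 2, 1, 5, 5, 5, 2, 1, 3, 5, 5, 2, 5, 5, 5, 2, 0, 1, 5, 3, 2, 5, 5, 5, 1, 3, 5, 5, 2, 0, 0, 5, 1, 5, 5, 2, 3, 0, 5, 2, 5, 5, 5, 5, 3, 0, 1, 5, 3, 5, 5, 1, 3, 5, 5, 2, 5, 5, 5, 3, 0, 0, 5, 1, 5, 3, 0, 5, 5, 5, 1, 0, 5, 1, 3, 5, 5, 2, 5, 5, 2, 0, 1, 5, 2, 5, 3, 5, 5, 1, 3, 5, 5, 2,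 2, 5, 5, 3, 1, 5, 2, 5, 5, 5, 5, 5, 3, 0, 0, 5, 1, 0, 5, 1, 5, 5, 2, 0, 5, 1, 5, 2, 1, 5, 5, 5, 5, 1, 1, 1, 5, 5, 2, 1, 5, 5, 3, 1, 5, 5, 5, 5, 5, 3, 0, 0, 0, 1, 3, 5, 5, 3, 1, 5, 2, 5, 5, 5, 1, 0, 1, 5, 5, 3, 5, 5, 2, 0, 5, 1, 5, 3, 2, 5, 5, 5, 3, 1, 3, 5, 5, 5, 5, 1, 1, 0, 0, 5, 5, 3, 5, 5, 3, 5, 5, 2, 0, 0, 5, 5, 1, 1, 5, 3, 1, 1, 5, 5, 5, 5, 2, 1, 3, 5, 5, 2, 3, 5, 5, 5, 5, 3, 0, 1, 3, 5, 5, 2, 5, 5, 1, 1, 1, 5, 5, 2, 0, 5, 5, 5, 5, 5, 1, 0, 0, 0, 1, 5, 5, 2, 5, 5, 2, 2, 5, 5, 5, 1, 3, 5, 5, 3, 0, 1, 5, 2, 5, 5, 1, 1, 5, 3, 5, 5, 2, 2, 5, 5, 5, 5, 2, 1, 1, 3, 5, 5, 2, 0, 0, 5, 5, 1, 5, 5, 3, 1, 0, 5, 5, 2, 0, 0, 5, 5, 1, 5, 5, 5, 5,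 2, 1, 5, 2, 1, 3, 5, 5, 2, 5, 3, 1, 3, 5, 5, 2, 5, 5, 5, 3, 2, 1, 5, 5, 5, 5, 3, 1, 0, 0, 5, 1, 5, 2, 5, 5, 1, 0, 5, 5, 2, 5, 3, 5, 5, 5, 5, 5, 5, 2, 0, 0, 0, 1, 5, 2, 5, 3, 0, 5, 5, 5, 2, 0, 1, 5, 3, 0, 5, 5, 5, 1, 2, 3, 5, 5, 3, 5, 5, 2, 0, 5, 1, 5, 2, 5, 3, 1, 5, 5, 5, 5, 3, 0, 5, 2, 0, 5, 2, 3, 5, 5, 5, 5, 5, 1, 0, 1, 2, 1, 5, 2, 5, 3, 5, 5, 5, 3, 1, 5, 5, 5, 1, 0, 3, 5, 5, 1, 0, 5, 5, 2, 0, 5, 3, 0, 5, 5, 5, 3, 0, 3, 5, 5, 1, 0, 5, 1, 5, 5, 2, 0, 5, 5, 5, 5, 2, 1, 2, 5, 5, 3, 5, 5, 3, 1, 0, 3, 5, 5, 2, 0, 5, 2, 5, 5, 5, 2, 5, 5, 5, 2, 3, 5, 5, 3, 0, 0, 0, 5, 5, 1, 5, 2, 1, 1, 5, 5, 2, 3, 5, 5, 5, 3, 0, 5, 2, 2, 5, 5, 5, 5, 1, 3, 0,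 5, 1, 5, 5, 5, 2, 1, 0, 5, 5, 2, 0, 5, 3, 5, 5, 3, 5, 5, 5, 5, 1, 0, 0, 0, 0, 5, 1, 5, 5, 1, 1, 5, 2, 5, 5, 2, 0, 5, 3, 5, 5, 3, 1, 1, 5, 5, 5, 5, 1, 0, 0, 1, 5, 5, 2, 5, 3, 5, 5, 1, 1, 2, 5, 5, 2, 0, 5, 5, 5, 3, 0, 0, 5, 5, 1, 0, 5, 1, 5, 5, 2, 5, 5, 5, 2, 0, 0, 3, 5, 5, 1, 5, 2, 1, 5, 5, 5, 1, 5, 2, 0, 2, 5, 5, 1, 3, 5, 5, 2, 5, 3, 1, 5, 2, 5, 5, 5, 5, 3, 0, 5, 2, 2, 3, 5, 5, 5, 5, 5, 1, 1, 0, 1, 5, 3, 5, 5, 2, 1, 5, 2, 3, 5, 5, 5, 3, 0, 5, 1, 0, 5, 1, 3, 5, 5, 2, 5, 3, 5, 5, 2, 2, 5, 5, 5, 5, 2, 1, 1, 5, 5, 3, 5, 5, 3, 1, 2, 5, 5, 5, 5, 2, 0, 0, 5, 1, 5, 3, 5, 5, 1, 0, 2, 5, 5, 1, 1, 5, 5, 2, 0, 5, 1, 5, 3, 0, 5, 1, 5, 5, 5, 3, 1, 0,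 5, 5, 2, 5, 5, 5, 2, 2, 3, 5, 5, 3, 5, 5, 3, 0, 0, 5, 1, 1, 5, 2, 5, 5, 5, 1, 0, 5, 1, 1, 5, 5, 2, 0, 5, 3, 5, 5, 5, 5, 5, 3, 0, 0, 1, 1, 5, 5, 3, 0, 5, 1, 5, 5, 5, 2, 2, 5, 5, 3, 5, 5, 1, 0, 5, 1, 1, 5, 5, 2, 3, 5, 5, 5, 2, 1, 0, 5, 2, 5, 3, 5, 5, 2, 5, 3, 5, 5, 5, 5, 2, 0, 0, 0, 1, 5, 3, 5, 5, 1, 0, 5, 2, 5, 3, 0, 5, 2, 5, 5, 5, 2, 2, 5, 5, 3, 0, 5, 1, 2, 5, 5, 2, 2, 5, 5, 5, 5, 1, 0, 3, 2, 5, 5, 5, 1, 3, 2, 5, 5, 5, 2, 1, 5, 5, 3, 0, 2, 5, 5, 1, 5, 2, 5, 5, 5, 3, 0, 2, 5, 3, 2, 5, 5, 5, 2, 0, 5, 2, 5, 5, 5, 5, 1, 0, 0, 1, 5, 2, 5, 3, 5, 5, 1, 0, 3, 5, 5, 1, 1, 5, 5, 3, 5, 5, 2, 0, 3, 5, 5, 3, 2, 5, 5, 5, 3, 1, 5, 2, 5, 5, 5, 1, 0, 0,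 5, 2, 5, 5, 1, 1, 5, 3, 5, 5, 3, 0, 0, 5, 2, 5, 5, 1, 5, 2, 1, 5, 2, 5, 5, 5, 5, 2, 1, 2, 5, 3, 5, 5, 2, 1, 5, 2, 0, 5, 3, 5, 5, 3, 5, 5, 5, 3, 0, 1, 0, 5, 5, 2, 3, 5, 5, 5, 1, 0, 0, 0, 5, 5, 3, 5, 5, 1, 1, 5, 5, 5, 2, 3, 5, 5, 5, 5, 2, 0, 1, 1, 5, 5, 3, 0, 5, 1, 5, 2, 5, 5, 5, 2, 0, 2, 5, 5, 2, 1, 0, 5, 3, 5, 5, 5, 5, 3, 2, 5, 5, 5, 3, 0, 0, 1, 0, 5, 2, 5, 5, 2, 0, 5, 1, 5, 3, 5, 5, 3, 0, 5, 5, 5, 1, 0, 2, 5, 5, 2, 1, 5, 5, 5, 2, 0, 5, 2, 0, 5, 5, 3, 2, 5, 5, 5, 3, 2, 5, 5, 5, 1, 0, 3, 5, 5, 2, 0, 5, 2, 0, 5, 1, 5, 5, 3, 5, 5, 3, 0, 5, 1, 1, 5, 3, 5, 5, 5, 5, 2, 0, 0, 5, 1, 5, 5, 1, 0, 5, 1, 2, 5, 5, 2, 5, 5, 2, 1, 5, 5, 3, 2, 5, 5, 5,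 5, 5, 3, 0, 0, 0, 3, 5, 5, 2, 0, 3, 5, 5, 2, 5, 5, 5, 1, 3, 5, 5, 2, 0, 0, 3, 5, 5, 3, 0, 5, 1, 5, 5, 5, 1, 3, 5, 5, 3, 0, 5, 5, 5, 3, 1, 1, 0, 5, 1, 5, 5, 2, 5, 5, 2, 0, 5, 2, 0, 5, 3, 5, 5, 3, 5, 5, 5, 5, 1, 0, 1, 0, 5, 5, 2, 5, 5, 1, 0, 3, 5, 5, 3, 0, 5, 5, 5, 3, 0, 2, 5, 3, 5, 5, 1, 5, 2, 2, 5, 3, 5, 5, 5, 5, 2, 0, 0, 1, 5, 2, 5, 5, 1, 3, 5, 5, 3, 0, 5, 2, 2, 5, 5, 5, 5, 1, 0, 3, 5, 5, 1, 0, 0, 5, 5, 1, 5, 3, 1, 5, 2, 5, 5, 5, 2, 1, 5, 3, 5, 5, 5, 3, 0, 1, 5, 5, 5, 5, 5, 4, 0, 0, 0, 0, 3, 1, 0, 5, 2, 5, 3, 5, 5, 2, 0, 5, 3, 0, 5, 5, 5, 5, 5, 1, 3, 1, 5, 5, 5, 2, 0, 3, 0, 5, 1, 5, 5, 5, 2, 5, 3, 0, 1, 5, 3, 5, 5, 5, 5, 3, 0, 0, 2, 5,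 5, 3, 5, 5, 1, 0, 5, 1, 5, 2, 0, 5, 3, 5, 5, 5, 2, 0, 3, 5, 5, 1, 5, 5, 5, 5, 1, 0, 3, 0, 0, 5, 3, 2, 5, 5, 5, 1, 0, 5, 1, 5, 5, 5, 5, 1, 1, 5, 3, 0, 5, 2, 5, 5, 5, 2, 3, 0, 1, 5, 5, 1, 1, 5, 5, 5, 5, 3, 0, 1, 1, 5, 2, 5, 5, 2, 5, 3, 5, 5, 1, 1, 5, 3, 1, 5, 2, 0, 5, 5, 5, 5, 2, 0, 1, 5, 2, 5, 5, 2, 1, 5, 3, 5, 5, 3, 0, 5, 1, 1, 5, 5, 2, 5, 5, 5, 5, 5, 2, 0, 1, 2, 5, 3, 5, 5, 3, 1, 0, 3, 5, 5, 2, 5, 5, 2, 5, 5, 5, 2, 3, 0, 5, 1, 0, 5, 3, 5, 5, 5, 5, 3, 0, 0, 0, 5, 5, 1, 1, 5, 5, 3, 0, 5, 5, 5, 1, 3, 1, 5, 5, 5, 2, 0, 1, 5, 5, 1, 2, 5, 3, 5, 5, 3, 0, 5, 2, 5, 5, 5, 5, 5, 3, 0, 0, 5, 3, 0, 5, 2, 2, 5, 5, 5, 5, 1, 0, 3, 0, 5, 5, 5, 5, 5, 5,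 1, 0, 0, 1, 3, 1, 3, 5, 5, 5, 5, 2, 3, 0, 5, 5, 5, 3, 0, 5, 1, 5, 2, 0, 5, 5, 5, 5, 1, 2, 3, 5, 5, 3, 0, 1, 5, 5, 1, 2, 5, 3, 5, 5, 2, 5, 5, 5, 2, 1, 3, 0, 5, 1, 5, 2, 5, 5, 5, 3, 0, 0, 5, 1, 5, 5, 1, 5, 2, 5, 5, 5, 3, 0, 3, 0, 5, 1, 5, 5, 5, 1, 1, 5, 2, 2, 5, 3, 5, 5, 3, 1, 5, 5, 5, 2, 1, 3, 5, 5, 3, 0, 5, 1, 5, 5, 5, 5, 5, 1, 0, 0, 5, 1, 3, 5, 5, 2, 3, 0, 5, 5, 5, 3, 0, 5, 1, 3, 5, 5, 2, 5, 5, 5, 1, 0, 5, 3, 1, 5, 2, 5, 5, 5, 3, 0, 0, 2, 5, 5, 2, 5, 3, 0, 5, 5, 5, 1, 0, 2, 5, 3, 5, 5, 2, 3, 5, 5, 5, 2, 0, 5, 2, 2, 5, 5, 5, 5, 5, 2, 0, 1, 3, 5, 5, 2, 3, 2, 5, 5, 5, 5, 1, 0, 5, 1, 3, 0, 5, 5, 5, 5, 2, 2, 5, 5, 3, 0, 1, 1, 5, 2, 5, 3, 5,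 5, 2, 3, 5, 5, 3, 0, 5, 2, 5, 5, 5, 2, 0, 5, 1, 2, 5, 5, 2, 1, 5, 5, 3, 5, 5, 5, 5, 3, 0, 0, 2, 5, 3, 5, 5, 1, 0, 2, 5, 3, 5, 5, 1, 5, 2, 3, 5, 5, 5, 3, 0, 0, 5, 5, 5, 5, 1, 0, 1, 3, 5, 5, 3, 0, 2, 5, 5, 5, 5, 1, 0, 2, 5, 5, 1, 5, 2, 0, 5, 5, 3, 1, 5, 5, 5, 2, 0, 2, 5, 5, 1, 2, 5, 3, 5, 5, 2, 0, 5, 5, 5, 5, 2, 0, 5, 1, 2, 2, 5, 3, 5, 5, 3, 1, 5, 2, 5, 5, 5, 2, 0, 5, 2, 5, 3, 5, 5, 3, 2, 5, 5, 5, 5, 5, 2, 1, 0, 2, 5, 5, 1, 3, 1, 0, 5, 5, 2, 3, 5, 5, 5, 5, 3, 0, 0, 5, 1, 1, 5, 5, 5, 1, 0, 5, 1, 0, 5, 2, 5, 3, 5, 5, 2, 5, 5, 5, 5, 3, 0, 0, 0, 5, 2, 5, 3, 5, 5, 1, 1, 0, 5, 5, 3, 0, 5, 5, 5, 2, 5, 3, 1, 5, 5, 5, 2, 0, 2, 3, 5, 5, 5, 1, 2, 5,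 3, 1, 5, 5, 5, 2, 1, 0, 5, 2, 5, 5, 2, 5, 3, 1, 5, 2, 5, 5, 5, 3, 0, 1, 5, 5, 2, 5, 5, 5, 5, 5, 3, 0, 1, 3, 0, 0, 5, 1, 5, 5, 2, 5, 5, 5, 2, 0, 5, 2, 3, 0, 5, 2, 5, 5, 5, 3, 5, 5, 3, 0, 5, 1, 1, 5, 2, 3, 5, 5, 3, 5, 5, 5, 5, 1, 0, 2, 5, 5, 2, 0, 3, 5, 5, 2, 5, 3, 0, 3, 5, 5, 2, 2, 5, 5, 5, 5, 3, 5, 5, 2, 0, 0, 5, 3, 0, 5, 2, 5, 5, 5, 1, 1, 3, 5, 5, 3, 1, 0, 5, 5, 2, 2, 5, 5, 5, 5, 3, 0, 0, 5, 1, 3, 5, 5, 2, 0, 5, 2, 5, 5, 3, 5, 5, 1, 0, 3, 5, 5, 1, 3, 5, 5, 2, 3, 5, 5, 3, 0, 5, 5, 5, 2, 0, 5, 1, 3, 5, 5, 2, 3, 5, 5, 3, 1, 5, 5, 5, 5, 5, 5, 5, 1, 0, 0, 1, 3, 0, 5, 1, 5, 5, 5, 2, 3, 0, 5, 1, 1, 5, 5, 5, 5, 3, 0, 1, 5, 5, 2, 2, 1, 5, 3, 5,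 5, 5, 5, 5, 1, 0, 0, 5, 3, 1, 5, 2, 5, 5, 5, 1, 5, 2, 0, 5, 1, 5, 5, 3, 0, 0, 5, 2, 0, 5, 5, 3, 2, 5, 5, 5, 1, 0, 5, 1, 5, 2, 5, 5, 2, 0, 5, 2, 5, 5, 5, 5, 3, 0, 0, 2, 1, 5, 3, 5, 5, 3, 5, 5, 1, 2, 0, 5, 1, 5, 2, 5, 5, 3, 2, 1, 5, 5, 5, 5, 2, 0, 2, 5, 5, 1, 1, 5, 5, 2, 5, 3, 1, 5, 2, 5, 5, 5, 3, 0, 2, 5, 5, 1, 1, 5, 3, 5, 5, 2, 0, 5, 2, 5, 5, 5, 5, 1, 1, 0, 2, 5, 5, 1, 0, 5, 5, 5, 2, 2, 2, 5, 5, 5, 3, 0, 5, 1, 5, 5, 5, 2, 0, 1, 3, 5, 5, 2, 2, 5, 5, 3, 5, 5, 2, 1, 5, 2, 0, 5, 3, 5, 5, 3, 5, 5, 3, 5, 5, 5, 5, 1, 1, 0, 0, 5, 2, 3, 5, 5, 3, 2, 5, 5, 5, 2, 0, 3, 5, 5, 3, 2, 5, 5, 5, 3, 0, 0, 0, 5, 5, 1, 1, 5, 5, 3, 5, 5, 1, 2, 5, 3, 5, 5, 2,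 0, 5, 3, 0, 5, 5, 5, 5, 5, 2, 1, 3, 1, 5, 5, 5, 2, 0, 5, 3, 1, 5, 2, 5, 5, 5, 3, 1, 5, 5, 5, 3, 0, 0, 1, 5, 2, 3, 5, 5, 5, 1, 1, 1, 5, 5, 2, 5, 5, 2, 1, 5, 2, 3, 5, 5, 5, 3, 0, 5, 1, 5, 5, 5, 1, 0, 3, 5, 5, 1, 0, 2, 5, 5, 1, 5, 5, 2, 0, 5, 3, 0, 5, 5, 5, 3, 1, 3, 5, 5, 5, 5, 2, 0, 3, 5, 5, 1, 1, 5, 3, 5, 5, 2, 2, 5, 5, 3, 0, 5, 5, 5, 5, 5, 2, 0, 0, 0, 5, 5, 1, 5, 2, 2, 3, 5, 5, 3, 1, 5, 2, 5, 5, 5, 3, 0, 0, 5, 1, 5, 5, 1, 5, 2, 5, 5, 5, 1, 0, 2, 5, 5, 2, 2, 5, 3, 5, 5, 3, 5, 5, 2, 0, 0, 5, 5, 1, 2, 5, 3, 0, 3, 5, 5, 1, 1, 5, 5, 5, 5, 3, 5, 5, 3, 0, 0, 2, 5, 5, 2, 2, 0, 5, 5, 3, 5, 5, 3, 0, 5, 5, 5, 1, 0, 5, 1, 0, 5, 1, 5, 5, 2, 0, 5, 3,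 5, 5, 3, 0, 5, 1, 5, 5, 5, 5, 5, 3, 0, 0, 5, 1, 3, 0, 5, 2, 5, 5, 5, 3, 0, 0, 5, 1, 5, 5, 5, 5, 1, 0, 3, 0, 5, 2, 2, 5, 5, 5, 5, 1, 3, 5, 5, 2, 3, 0, 5, 1, 5, 5, 5, 3, 0, 5, 1, 0, 5, 1, 5, 5, 2, 2, 5, 5, 5, 5, 2, 3, 1, 0, 3, 5, 5, 1, 5, 5, 2, 5, 5, 5, 5, 5, 2, 1, 0, 3, 1, 0, 5, 2, 5, 5, 2, 5, 5, 5, 1, 0, 2, 3, 5, 5, 5, 1, 3, 0, 5, 5, 5, 2, 1, 3, 5, 5, 3, 0, 5, 1, 5, 5, 5, 3, 0, 0, 5, 5, 1, 1, 5, 3, 5, 5, 5, 5, 2, 0, 5, 3, 0, 0, 0, 5, 3, 5, 5, 1, 5, 3, 5, 5, 1, 1, 5, 5, 2, 5, 5, 5, 3, 0, 1, 2, 1, 5, 5, 5, 2, 0, 5, 2, 5, 3, 5, 5, 3, 0, 5, 2, 5, 5, 5, 1, 1, 3, 5, 5, 2, 0, 5, 3, 5, 5, 3, 0, 5, 1, 5, 5, 5, 2, 2, 5, 3, 5, 5, 5, 5, 2, 0, 0, 3,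 0, 3, 5, 5, 2, 5, 5, 5, 1, 5, 3, 0, 1, 3, 5, 5, 2, 3, 5, 5, 3, 5, 5, 2, 5, 5, 5, 1, 3, 0, 0, 5, 3, 0, 5, 2, 5, 5, 5, 5, 5, 3, 0, 0, 2, 5, 3, 5, 5, 1, 3, 0, 5, 5, 5, 2, 2, 5, 5, 3, 0, 5, 1, 5, 5, 5, 1, 1, 1, 5, 5, 3, 5, 5, 2, 1, 5, 3, 0, 0, 5, 1, 5, 5, 1, 5, 5, 5, 5, 5, 3, 0, 0, 0, 5, 1, 2, 5, 5, 2, 5, 3, 0, 5, 1, 0, 5, 5, 2, 2, 5, 5, 5, 5, 1, 0, 5, 1, 3, 5, 5, 2, 0, 5, 2, 5, 5, 3, 2, 5, 5, 5, 2, 0, 1, 5, 5, 1, 3, 5, 5, 3, 1, 3, 5, 5, 5, 5, 3, 0, 1, 5, 2, 5, 3, 5, 5, 1, 1, 5, 5, 2, 3, 5, 5, 5, 5, 1, 0, 0, 1, 5, 5, 1, 5, 2, 1, 5, 2, 5, 3, 5, 5, 5, 1, 2, 2, 5, 5, 3, 0, 5, 5, 5, 2, 1, 0, 5, 3, 5, 5, 2, 5, 3, 0, 3, 5, 5, 1, 5, 2, 5, 5, 5, 3,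 0, 3, 5, 5, 1, 2, 0, 5, 5, 3, 2, 5, 5, 5, 2, 2, 5, 5, 5, 5, 2, 0, 0, 0, 5, 1, 5, 2, 5, 5, 1, 1, 5, 3, 5, 5, 3, 0, 5, 5, 5, 1, 2, 0, 5, 5, 3, 0, 3, 5, 5, 1, 5, 5, 5, 2, 0, 0, 5, 1, 5, 5, 2, 1, 5, 3, 5, 5, 5, 3, 1, 0, 5, 5, 2, 2, 5, 3, 5, 5, 5, 5, 5, 5, 3, 0, 0, 2, 3, 0, 5, 5, 5, 3, 2, 0, 5, 3, 5, 5, 5, 5, 2, 0, 0, 3, 5, 5, 1, 5, 5, 1, 5, 2, 1, 5, 3, 5, 5, 3, 5, 5, 3, 0, 0, 5, 1, 2, 5, 5, 2, 0, 5, 3, 5, 5, 3, 2, 2, 5, 5, 5, 5, 1, 0, 3, 5, 5, 1, 5, 2, 2, 5, 5, 5, 2, 0, 0, 5, 3, 5, 5, 1, 2, 5, 5, 2, 2, 5, 5, 3, 2, 5, 5, 5, 5, 5, 1, 0, 2, 3, 1, 3, 5, 5, 2, 5, 5, 5, 3, 1, 3, 5, 5, 2, 5, 5, 5, 1, 0, 3, 0, 5, 2, 5, 5, 5, 1, 3, 5, 5, 2, 5, 3, 5,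 5, 2, 5, 3, 1, 5, 5, 5, 2, 0, 3, 0, 3, 5, 5, 1, 0, 5, 2, 5, 3, 5, 5, 2, 5, 5, 5, 2, 0, 2, 5, 5, 2, 1, 3, 5, 5, 2, 5, 3, 5, 5, 3, 5, 5, 3, 0, 3, 1, 5, 5, 5, 2, 5, 5, 5, 5, 5, 5, 3, 0, 0, 0, 3, 2, 0, 5, 5, 5, 5, 1, 1, 2, 5, 5, 2, 1, 5, 5, 3, 2, 5, 5, 5, 2, 3, 2, 5, 5, 5, 3, 0, 5, 2, 3, 5, 5, 5, 5, 1, 1, 0, 2, 2, 5, 3, 5, 5, 3, 2, 5, 5, 5, 2, 2, 3, 5, 5, 5, 5, 3, 0, 0, 0, 5, 5, 5, 2, 3, 5, 5, 5, 5, 3, 0, 0, 2, 5, 5, 1, 1, 5, 3, 5, 5, 2, 0, 5, 2, 5, 3, 5, 5, 5, 5, 5, 1, 0, 0, 1, 2, 3, 5, 5, 5, 2, 3, 2, 5, 5, 5, 3, 1, 2, 5, 3, 5, 5, 2, 2, 5, 5, 5, 5, 2, 0, 0, 5, 2, 5, 5, 1, 1, 5, 5, 2, 1, 3, 5, 5, 2, 2, 5, 5, 3, 5, 5, 3, 0, 2, 5, 5, 1, 5, 2,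 5, 5, 5, 5, 1, 0, 2, 1, 5, 5, 3, 2, 5, 5, 5, 1, 1, 5, 3, 5, 5, 2, 0, 0, 3, 5, 5, 5, 1, 2, 3, 5, 5, 5, 2, 2, 2, 5, 5, 5, 5, 3, 0, 1, 5, 2, 5, 5, 1, 5, 2, 0, 0, 5, 5, 1, 5, 2, 5, 5, 5, 5, 2, 1, 0, 0, 5, 1, 5, 2, 5, 5, 1, 0, 5, 5, 2, 2, 5, 5, 3, 1, 5, 2, 5, 5, 5, 2, 0, 5, 1, 0, 5, 1, 5, 5, 2, 1, 5, 2, 5, 5, 3, 0, 5, 1, 5, 5, 5, 3, 0, 5, 1, 1, 5, 3, 5, 5, 5, 5, 3, 0, 0, 1, 5, 2, 5, 5, 5, 2, 0, 1, 5, 2, 5, 5, 1, 2, 1, 5, 5, 3, 5, 5, 2, 2, 1, 5, 5, 3, 5, 5, 3, 1, 5, 5, 5, 5, 5, 2, 0, 0, 0, 3, 5, 5, 2, 2, 5, 5, 3, 2, 5, 5, 5, 1, 0, 3, 5, 5, 2, 3, 5, 5, 3, 2, 5, 5, 5, 2, 2, 3, 5, 5, 3, 0, 5, 5, 5, 3, 5, 5, 1, 0, 0, 0, 5, 2, 5, 3, 5, 5, 1, 0, 5,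 3, 5, 5, 3, 5, 5, 1, 0, 5, 1, 1, 5, 2, 5, 3, 5, 5, 3, 0, 5, 5, 5, 2, 1, 1, 5, 5, 2, 5, 3, 5, 5, 3, 0, 5, 2, 3, 5, 5, 5, 5, 2, 0, 0, 1, 5, 3, 5, 5, 1, 3, 5, 5, 3, 5, 5, 1, 0, 0, 3, 5, 5, 2, 3, 5, 5, 3, 5, 5, 1, 0, 5, 5, 3, 0, 2, 5, 5, 1, 0, 5, 1, 5, 5, 5, 5, 2, 0, 1, 5, 3, 1, 5, 5, 5, 1, 0, 5, 2, 5, 5, 2, 2, 5, 5, 3, 2, 5, 5, 5, 3, 0, 0, 1, 5, 2, 5, 5, 1, 3, 5, 5, 2, 5, 3, 5, 5, 1, 0, 5, 5, 2, 2, 2, 5, 5, 3, 2, 5, 5, 5, 5, 5, 3, 0, 0, 0, 5, 2, 2, 5, 5, 3, 0, 5, 2, 5, 5, 5, 1, 1, 2, 5, 5, 5, 2, 1, 5, 5, 3, 0, 5, 5, 5, 1, 0, 1, 0, 5, 5, 2, 5, 5, 1, 3, 5, 5, 2, 2, 5, 5, 3, 0, 0, 5, 5, 5, 5, 2, 0, 1, 2, 5, 3, 5, 5, 3, 5, 5, 1, 0, 2, 5, 3, 5,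 5, 1, 1, 5, 5, 5, 3, 0, 1, 5, 5, 5, 5, 5, 5, 5, 4, 0, 0, 0, 0, 3, 2, 3, 5, 5, 5, 5, 1, 0, 1, 5, 5, 1, 3, 1, 5, 5, 5, 2, 3, 5, 5, 3, 2, 3, 5, 5, 5, 5, 2, 2, 3, 5, 5, 3, 0, 5, 1, 2, 5, 3, 5, 5, 2, 3, 5, 5, 5, 5, 3, 0, 1, 0, 5, 1, 5, 5, 3, 0, 5, 5, 5, 1, 1, 2, 5, 5, 2, 1, 5, 5, 3, 1, 5, 2, 5, 5, 5, 2, 0, 5, 3, 0, 5, 1, 5, 2, 5, 5, 5, 5, 5, 1, 0, 1, 3, 0, 5, 5, 5, 2, 5, 3, 0, 5, 1, 1, 5, 2, 5, 3, 5, 5, 5, 5, 1, 0, 3, 5, 5, 3, 0, 5, 2, 5, 5, 5, 2, 0, 5, 2, 0, 5, 5, 3, 0, 3, 5, 5, 2, 5, 5, 5, 3, 0, 1, 5, 2, 5, 3, 5, 5, 1, 0, 5, 3, 5, 5, 2, 0, 5, 3, 1, 5, 5, 5, 5, 5, 2, 1, 1, 1, 5, 3, 5, 5, 3, 5, 5, 2, 0, 1, 5, 3, 5, 5, 1, 5, 5, 3, 0, 1, 5, 2,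 5, 3, 5, 5, 1, 5, 2, 1, 5, 2, 5, 5, 5, 5, 3, 0, 2, 2, 5, 3, 5, 5, 3, 0, 5, 2, 5, 5, 5, 1, 0, 5, 2, 5, 3, 5, 5, 2, 0, 0, 5, 5, 1, 3, 1, 5, 5, 5, 3, 5, 5, 5, 5, 1, 1, 0, 0, 3, 2, 5, 5, 5, 3, 5, 5, 1, 2, 3, 0, 5, 5, 5, 3, 1, 5, 5, 5, 2, 0, 3, 5, 5, 2, 0, 5, 5, 3, 2, 2, 5, 5, 5, 5, 3, 0, 0, 2, 5, 5, 3, 5, 5, 1, 0, 5, 1, 2, 5, 5, 2, 0, 5, 1, 5, 5, 3, 5, 5, 2, 0, 0, 5, 5, 1, 2, 5, 5, 2, 5, 3, 5, 5, 5, 5, 2, 0, 0, 3, 5, 5, 1, 5, 2, 3, 5, 5, 3, 2, 5, 5, 5, 1, 3, 5, 5, 3, 0, 2, 5, 3, 5, 5, 1, 0, 5, 2, 5, 3, 1, 5, 5, 5, 2, 0, 5, 2, 5, 5, 5, 5, 3, 0, 0, 1, 5, 3, 5, 5, 1, 0, 5, 2, 5, 3, 5, 5, 3, 0, 5, 2, 0, 5, 5, 5, 5, 1, 0, 0, 2, 5, 5, 5, 1, 1, 5,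 5, 2, 0, 5, 2, 5, 5, 3, 0, 5, 5, 5, 2, 0, 0, 5, 1, 2, 5, 5, 2, 2, 5, 5, 3, 5, 5, 1, 0, 2, 5, 5, 2, 5, 5, 3, 0, 5, 1, 5, 5, 5, 5, 5, 2, 0, 0, 2, 5, 3, 5, 5, 2, 1, 3, 5, 5, 3, 0, 5, 5, 5, 5, 1, 1, 2, 2, 5, 3, 0, 5, 5, 5, 3, 5, 5, 2, 0, 5, 1, 5, 3, 0, 5, 1, 5, 5, 5, 3, 0, 0, 2, 5, 5, 1, 5, 2, 5, 3, 5, 5, 2, 1, 3, 5, 5, 3, 5, 5, 5, 5, 2, 2, 3, 0, 5, 1, 5, 5, 5, 3, 0, 1, 5, 3, 5, 5, 2, 1, 5, 2, 5, 5, 5, 5, 3, 0, 0, 2, 5, 3, 1, 5, 2, 5, 5, 5, 1, 5, 3, 0, 5, 1, 0, 5, 1, 5, 2, 5, 5, 5, 5, 1, 2, 5, 5, 2, 0, 1, 5, 2, 1, 5, 5, 3, 2, 5, 5, 5, 1, 3, 5, 5, 2, 1, 2, 5, 3, 5, 5, 2, 5, 5, 3, 0, 5, 1, 5, 2, 5, 5, 5, 5, 5, 3, 0, 0, 0, 0, 5, 1, 5, 2, 5, 5,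 1, 1, 5, 5, 2, 0, 3, 5, 5, 5, 5, 2, 0, 0, 5, 1, 5, 2, 5, 5, 1, 2, 5, 5, 2, 2, 2, 5, 5, 3, 5, 5, 5, 3, 0, 1, 5, 2, 5, 3, 5, 5, 1, 1, 5, 5, 5, 5, 1, 1, 0, 2, 5, 3, 5, 5, 1, 1, 5, 5, 2, 0, 5, 1, 5, 2, 5, 5, 3, 0, 3, 5, 5, 1, 5, 2, 0, 5, 5, 5, 5, 2, 1, 2, 5, 3, 0, 5, 5, 5, 2, 2, 5, 3, 0, 5, 5, 5, 3, 0, 5, 2, 5, 5, 5, 3, 0, 2, 5, 3, 5, 5, 1, 5, 5, 5, 2, 1, 2, 0, 5, 3, 5, 5, 3, 2, 5, 5, 5, 2, 0, 2, 5, 5, 1, 3, 1, 5, 5, 5, 2, 2, 5, 3, 5, 5, 3, 0, 5, 1, 5, 2, 5, 5, 5, 3, 0, 0, 1, 5, 5, 1, 5, 2, 5, 5, 1, 5, 2, 0, 5, 5, 5, 5, 5, 5, 1, 1, 0, 0, 2, 5, 5, 1, 5, 2, 5, 3, 0, 2, 5, 5, 1, 1, 5, 2, 5, 5, 2, 2, 5, 3, 5, 5, 5, 5, 1, 0, 0, 1, 5, 5, 3, 5, 5,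 1, 1, 5, 3, 0, 3, 5, 5, 5, 5, 3, 0, 1, 5, 5, 1, 1, 5, 3, 5, 5, 2, 1, 5, 2, 5, 3, 5, 5, 5, 5, 3, 0, 2, 3, 5, 5, 5, 2, 2, 2, 5, 3, 2, 5, 5, 5, 5, 5, 5, 2, 0, 0, 1, 0, 5, 3, 5, 5, 3, 5, 5, 1, 3, 5, 5, 2, 2, 5, 5, 3, 0, 0, 5, 2, 5, 3, 5, 5, 5, 5, 2, 0, 0, 5, 5, 2, 0, 5, 1, 0, 5, 5, 2, 5, 3, 0, 5, 5, 5, 3, 1, 0, 5, 5, 2, 5, 5, 5, 3, 0, 0, 1, 5, 5, 1, 0, 5, 2, 5, 3, 5, 5, 2, 3, 5, 5, 5, 1, 1, 3, 1, 5, 2, 5, 5, 5, 2, 3, 5, 5, 3, 0, 5, 1, 5, 5, 5, 2, 0, 2, 5, 5, 1, 2, 5, 3, 5, 5, 3, 1, 5, 2, 5, 5, 5, 5, 5, 3, 0, 0, 3, 1, 1, 5, 5, 5, 5, 1, 0, 5, 3, 5, 5, 3, 0, 3, 5, 5, 1, 5, 2, 3, 5, 5, 5, 5, 1, 1, 1, 2, 5, 3, 5, 5, 3, 2, 5, 5, 5, 3, 0, 5, 1, 1,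 5, 5, 2, 1, 5, 5, 5, 5, 2, 1, 3, 0, 5, 1, 5, 5, 5, 3, 0, 1, 5, 2, 5, 3, 5, 5, 1, 0, 5, 3, 5, 5, 5, 5, 5, 5, 2, 0, 0, 0, 0, 5, 1, 5, 2, 5, 5, 2, 3, 5, 5, 3, 0, 5, 5, 5, 1, 0, 3, 1, 5, 2, 5, 5, 5, 2, 1, 5, 5, 3, 0, 5, 5, 5, 3, 0, 0, 0, 5, 3, 5, 5, 2, 0, 5, 5, 3, 5, 5, 2, 0, 5, 1, 0, 5, 2, 5, 5, 2, 1, 5, 5, 3, 1, 5, 2, 5, 5, 5, 5, 5, 1, 0, 0, 2, 5, 3, 5, 5, 3, 0, 1, 5, 5, 1, 0, 5, 5, 2, 5, 5, 5, 1, 3, 0, 2, 5, 5, 1, 1, 5, 5, 5, 5, 2, 2, 1, 5, 5, 5, 3, 0, 1, 1, 5, 2, 5, 5, 2, 3, 1, 5, 5, 5, 3, 5, 5, 1, 1, 1, 5, 5, 3, 5, 5, 2, 1, 5, 2, 3, 5, 5, 3, 1, 5, 5, 5, 5, 5, 2, 0, 0, 1, 5, 3, 0, 5, 2, 5, 5, 5, 1, 0, 5, 3, 5, 5, 2, 5, 3, 0, 5, 1, 2, 5,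 5, 2, 5, 5, 5, 1, 1, 3, 0, 5, 5, 5, 2, 0, 5, 1, 5, 5, 5, 2, 0, 0, 5, 2, 3, 5, 5, 3, 0, 5, 2, 5, 5, 5, 1, 0, 3, 5, 5, 5, 2, 5, 3, 0, 0, 5, 5, 1, 0, 5, 2, 5, 5, 5, 5, 3, 0, 3, 5, 5, 1, 2, 5, 5, 5, 5, 3, 0, 0, 1, 0, 5, 3, 0, 5, 1, 5, 5, 5, 2, 0, 5, 1, 5, 3, 5, 5, 5, 1, 0, 2, 5, 3, 5, 5, 1, 3, 0, 5, 5, 5, 2, 5, 3, 0, 5, 5, 5, 2, 1, 5, 2, 1, 5, 3, 5, 5, 3, 1, 5, 5, 5, 3, 0, 5, 1, 0, 5, 1, 5, 5, 5, 5, 1, 0, 1, 5, 2, 5, 3, 0, 5, 5, 5, 1, 0, 5, 1, 1, 5, 2, 5, 5, 3, 5, 5, 2, 0, 2, 5, 5, 3, 0, 5, 1, 5, 5, 5, 3, 0, 0, 5, 5, 2, 0, 5, 1, 5, 5, 5, 5, 2, 0, 0, 3, 5, 5, 1, 2, 5, 3, 5, 5, 2, 5, 5, 1, 0, 5, 2, 5, 3, 1, 5, 5, 5, 2, 0, 3, 5, 5, 1, 2, 5, 5,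 2, 1, 5, 5, 3, 0, 3, 5, 5, 1, 5, 5, 5, 3, 0, 1, 5, 5, 2, 1, 0, 5, 5, 2, 5, 3, 0, 5, 5, 5, 5, 5, 5, 5, 3, 0, 0, 1, 2, 2, 5, 5, 5, 2, 0, 5, 1, 0, 5, 3, 5, 5, 2, 0, 5, 5, 3, 0, 5, 1, 5, 2, 5, 5, 5, 3, 1, 1, 5, 5, 5, 5, 1, 0, 0, 1, 5, 5, 1, 5, 2, 0, 5, 1, 5, 5, 3, 5, 5, 1, 0, 5, 2, 5, 3, 2, 5, 5, 5, 2, 0, 3, 0, 5, 5, 5, 1, 1, 5, 5, 5, 3, 0, 5, 1, 0, 5, 2, 5, 5, 2, 5, 5, 5, 2, 0, 2, 1, 5, 3, 5, 5, 3, 5, 5, 1, 2, 1, 5, 5, 3, 5, 5, 2, 5, 3, 0, 1, 5, 2, 5, 5, 1, 2, 5, 5, 2, 1, 5, 5, 5, 5, 3, 0, 0, 1, 5, 3, 5, 5, 1, 2, 5, 5, 2, 0, 5, 5, 5, 1, 0, 0, 5, 1, 5, 5, 1, 2, 5, 5, 2, 0, 1, 5, 5, 1, 5, 2, 5, 5, 3, 0, 5, 5, 5, 2, 0, 0, 1, 5, 5, 3, 5, 5, 1,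 0, 0, 5, 5, 2, 5, 5, 2, 3, 5, 5, 5, 5, 5, 1, 0, 0, 1, 5, 2, 3, 5, 5, 3, 0, 5, 2, 5, 5, 5, 1, 0, 5, 1, 1, 5, 5, 2, 5, 3, 0, 5, 2, 5, 5, 5, 2, 2, 0, 5, 1, 5, 3, 5, 5, 5, 3, 0, 3, 5, 5, 5, 5, 1, 0, 0, 1, 5, 5, 1, 3, 5, 5, 5, 1, 1, 2, 5, 5, 2, 3, 5, 5, 3, 5, 5, 2, 0, 5, 1, 0, 5, 3, 5, 5, 5, 5, 2, 0, 0, 1, 5, 5, 1, 5, 3, 5, 5, 1, 1, 2, 5, 5, 2, 0, 5, 5, 3, 0, 5, 1, 5, 5, 5, 2, 0, 1, 5, 3, 5, 5, 2, 0, 5, 5, 3, 5, 5, 3, 0, 1, 0, 5, 5, 5, 2, 0, 5, 5, 5, 5, 3, 2, 0, 0, 5, 5, 1, 3, 5, 5, 2, 3, 5, 5, 3, 2, 5, 5, 5, 5, 5, 2, 0, 0, 0, 5, 1, 5, 3, 5, 5, 1, 1, 1, 5, 5, 2, 1, 5, 5, 3, 5, 5, 2, 0, 5, 1, 0, 5, 5, 2, 0, 5, 5, 3, 5, 5, 3, 0, 1, 5, 2, 5, 5,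 1, 5, 2, 2, 5, 5, 5, 5, 1, 0, 1, 1, 5, 3, 5, 5, 3, 0, 5, 5, 5, 1, 0, 3, 5, 5, 1, 0, 5, 1, 5, 3, 5, 5, 2, 3, 5, 5, 3, 1, 5, 5, 5, 2, 1, 0, 5, 2, 5, 5, 5, 5, 2, 0, 1, 5, 2, 5, 3, 0, 5, 5, 5, 1, 0, 5, 1, 5, 2, 5, 5, 2, 0, 5, 1, 5, 2, 5, 5, 3, 0, 5, 1, 5, 5, 5, 3, 0, 0, 1, 5, 5, 1, 3, 5, 5, 2, 3, 5, 5, 3, 2, 5, 5, 5, 1, 2, 1, 5, 5, 5, 2, 0, 5, 1, 1, 5, 5, 2, 0, 5, 5, 3, 5, 5, 5, 5, 5, 5, 5, 5, 1, 0, 0, 1, 5, 5, 5, 1, 5, 2, 5, 3, 0, 0, 1, 5, 5, 5, 1, 5, 2, 5, 5, 5, 2, 0, 1, 1, 5, 3, 1, 5, 5, 5, 3, 5, 5, 2, 1, 3, 5, 5, 5, 5, 3, 2, 2, 5, 5, 4, 0, 1, 1, 3, 5, 5, 3, 5, 5, 2, 2, 5, 5, 3, 0, 1, 2, 5, 5, 5, 2, 2, 5, 5, 5, 5, 1, 0, 0, 1, 3, 5, 5, 5,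 3, 0, 5, 5, 5, 1, 1, 5, 3, 1, 5, 5, 5, 2, 0, 5, 5, 5, 2, 0, 1, 1, 5, 5, 5, 1, 1, 5, 2, 3, 2, 5, 5, 5, 5, 2, 5, 3, 0, 1, 5, 2, 5, 5, 1, 1, 5, 5, 2, 5, 5, 5, 5, 5]

set_option maxRecDepth 100000 in
theorem cert : certOK gens prog kx0 4600 4601 13 = true := by decide +kernel

theorem v0_norm : sqNorm v0.1 = 32 := by
  show sqNorm (vecK kv0) = 32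
  rw [sqNorm_vecK]; decide +kernel

theorem x0_norm : sqNorm x0.1 = 32 := by
  show sqNorm (vecK kx0) = 32
  rw [sqNorm_vecK]; decide +kernel

theorem x0_dot : dotInt v0.1 x0.1 = -16 := by
  show dotInt (vecK kv0) (vecK kx0) = -16
  rw [dotInt_vecK]; decide +kernel

theorem key : ∀ y ∈ {w : GolayPt → ℤ | w ∈ leechLattice ∧ sqNorm w = 32 ∧ dotInt v0.1 w = -16},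
    ∃ g ∈ fixH [v0], (g x0).1 = y := by
  refine cert_trans (fixH [v0]) x0 kx0 rfl gens hgens prog 4600 4601 13 _ (census32 v0.1 v0.2 v0_norm).1
    (by norm_num) ?_ cert
  intro g hg
  refine ⟨(g x0).2, ?_, ?_⟩
  · rw [fixH_norm hg, x0_norm]
  · rw [fixH_dot hg List.mem_cons_self, x0_dot]

/-- The stabiliser of a minimal vector is transitive on the minimal vectors of customary inner product −2 with it. -/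
theorem result (v w w' : ↥Cfsg.leechLattice) (hv : Cfsg.sqNorm (v : Cfsg.GolayPt → ℤ) = 32) (hw : Cfsg.sqNorm (w : Cfsg.GolayPt → ℤ) = 32) (hw' : Cfsg.sqNorm (w' : Cfsg.GolayPt → ℤ) = 32) (hd : Cfsg.dotInt (v : Cfsg.GolayPt → ℤ) (w : Cfsg.GolayPt → ℤ) = -16) (hd' : Cfsg.dotInt (v : Cfsg.GolayPt → ℤ) (w' : Cfsg.GolayPt → ℤ) = -16) : ∃ g : ↥Cfsg.Co0, g • v = v ∧ g • w = w' := by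
  obtain ⟨g0, hg0, hgv⟩ := co0_trans32 v v0 hv v0_norm
  have hw1 : (g0 w).1 ∈ {y : GolayPt → ℤ | y ∈ leechLattice ∧ sqNorm y = 32 ∧ dotInt v0.1 y = -16} :=
    ⟨(g0 w).2, by rw [hg0.2]; exact hw, by rw [← hgv, co0_dot g0 hg0]; exact hd⟩
  have hw2 : (g0 w').1 ∈ {y : GolayPt → ℤ | y ∈ leechLattice ∧ sqNorm y = 32 ∧ dotInt v0.1 y = -16} :=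
    ⟨(g0 w').2, by rw [hg0.2]; exact hw', by rw [← hgv, co0_dot g0 hg0]; exact hd'⟩
  obtain ⟨h, hh, hhw⟩ := trans_of_key key hw1 hw2
  have hhv : h v0 = v0 := hh.2 v0 List.mem_cons_self
  refine ⟨⟨g0⁻¹ * h * g0, Co0.mul_mem (Co0.mul_mem (Co0.inv_mem hg0) hh.1) hg0⟩, ?_, ?_⟩
  · show (g0⁻¹ * h * g0) v = v
    simp only [Equiv.Perm.mul_apply]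
    rw [hgv, hhv, ← hgv]
    simp
  · show (g0⁻¹ * h * g0) w = w'
    simp only [Equiv.Perm.mul_apply]
    rw [hhw]
    simp

end Cfsg.Agent.S1574
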