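import Mathlib
import Cfsg.Statements.S1580
import Cfsg.Agent.Lib.Helper26.LO1580Facts

set_option autoImplicit false
open Cfsg

namespace Cfsg.Agent.S1580

/-- The McLaughlin configuration: for u of customary norm 6 and v minimal with u − v minimal, there are 275 further such summands x of customary inner product 2 with v, permuted transitively by the stabiliser of u and v. -/
theorem result (u v : ↥Cfsg.leechLattice) (hu : Cfsg.sqNorm (u : Cfsg.GolayPt → ℤ) = 48) (hv : Cfsg.sqNorm (v : Cfsg.GolayPt → ℤ) = 32 ∧ Cfsg.sqNorm ((u - v) : Cfsg.GolayPt → ℤ) = 32) : {x : ↥Cfsg.leechLattice | Cfsg.sqNorm (x : Cfsg.GolayPt → ℤ) = 32 ∧ Cfsg.sqNorm ((u - x) : Cfsg.GolayPt → ℤ) = 32 ∧ Cfsg.dotInt (v : Cfsg.GolayPt → ℤ) (x : Cfsg.GolayPt → ℤ) = 16}.ncard = 275 ∧ ∀ x ∈ {x : ↥Cfsg.leechLattice | Cfsg.sqNorm (x : Cfsg.GolayPt → ℤ) = 32 ∧ Cfsg.sqNorm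 ((u - x) : Cfsg.GolayPt → ℤ) = 32 ∧ Cfsg.dotInt (v : Cfsg.GolayPt → ℤ) (x : Cfsg.GolayPt → ℤ) = 16}, ∀ x' ∈ {x : ↥Cfsg.leechLattice | Cfsg.sqNorm (x : Cfsg.GolayPt → ℤ) = 32 ∧ Cfsg.sqNorm ((u - x) : Cfsg.GolayPt → ℤ) = 32 ∧ Cfsg.dotInt (v : Cfsg.GolayPt → ℤ) (x : Cfsg.GolayPt → ℤ) = 16}, ∃ g : ↥Cfsg.Co0, g • u = u ∧ g • v = v ∧ g • x = x' := by
  open Cfsg.Agent.Helper7 Cfsg.Agent.Helper26 Cfsg.Agent.Helper26.LOX Cfsg.Agent.Helper26.LO1580 in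
  obtain ⟨g0, hg0, eu, ev⟩ := move_base u v hu hv.1 hv.2
  open Cfsg.Agent.Helper7 Cfsg.Agent.Helper26 Cfsg.Agent.Helper26.LOX Cfsg.Agent.Helper26.LO1580 in
  have hA : ∀ x : ↥Cfsg.leechLattice,
      (Cfsg.sqNorm (x : Cfsg.GolayPt → ℤ) = 32 ∧ Cfsg.sqNorm ((u : Cfsg.GolayPt → ℤ) - (x : Cfsg.GolayPt → ℤ)) = 32 ∧
        Cfsg.dotInt (v : Cfsg.GolayPt → ℤ) (x : Cfsg.GolayPt → ℤ) = 16) ↔ (g0 x).1 ∈ Xf := by
    intro x
    have h1 : Cfsg.sqNorm ((g0 x : ↥Cfsg.leechLattice) : Cfsg.GolayPt → ℤ) = Cfsg.sqNorm (x : Cfsg.GolayPt → ℤ) := hg0.2 x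
    have h2' : Cfsg.sqNorm (u0.1 - (g0 x).1) = Cfsg.sqNorm ((u - x : ↥Cfsg.leechLattice) : Cfsg.GolayPt → ℤ) := by
      rw [← hg0.2 (u - x), co0_sub g0 hg0, eu]; rfl
    have h2 : Cfsg.sqNorm (u0.1 - (g0 x).1) = Cfsg.sqNorm ((u : Cfsg.GolayPt → ℤ) - (x : Cfsg.GolayPt → ℤ)) := h2'
    have h3 : Cfsg.dotInt v0.1 (g0 x).1 = Cfsg.dotInt (v : Cfsg.GolayPt → ℤ) (x : Cfsg.GolayPt → ℤ) := by
      rw [← ev, co0_dot g0 hg0]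
    constructor
    · rintro ⟨a, b, c⟩
      exact ⟨(g0 x).2, by rw [h1]; exact a, by rw [h2]; exact b, by rw [h3]; exact c⟩
    · rintro ⟨_, a, b, c⟩
      exact ⟨by rw [← h1]; exact a, by rw [← h2]; exact b, by rw [← h3]; exact c⟩
  open Cfsg.Agent.Helper7 Cfsg.Agent.Helper26 Cfsg.Agent.Helper26.LOX Cfsg.Agent.Helper26.LO1580 in
  refine ⟨?_, ?_⟩
  · have e1 : (g0 '' {x : ↥Cfsg.leechLattice | Cfsg.sqNorm (x : Cfsg.GolayPt → ℤ) = 32 ∧ Cfsg.sqNorm ((u : Cfsg.GolayPt → ℤ) - (x : Cfsg.GolayPt → ℤ)) = 32 ∧ Cfsg.dotInt (v : Cfsg.GolayPt → ℤ) (x : Cfsg.GolayPt → ℤ) = 16}) =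
        {x : ↥Cfsg.leechLattice | (fun y => Cfsg.sqNorm y = 32 ∧ Cfsg.sqNorm (u0.1 - y) = 32 ∧ Cfsg.dotInt v0.1 y = 16) x.1} := by
      ext y
      simp only [Set.mem_image, Set.mem_ofPred_eq]
      constructor
      · rintro ⟨x, hx, rfl⟩
        exact ((hA x).mp hx).2
      · intro hy
        refine ⟨g0.symm y, (hA _).mpr ?_, by simp⟩
        rw [Equiv.apply_symm_apply]
        exact ⟨y.2, hy⟩
    rw [← Set.ncard_image_of_injective _ g0.injective, e1,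
      ncard_subtype (fun y => Cfsg.sqNorm y = 32 ∧ Cfsg.sqNorm (u0.1 - y) = 32 ∧ Cfsg.dotInt v0.1 y = 16)]
    exact Xf_ncard
  · intro x hx x' hx'
    obtain ⟨h, hh, e⟩ := Xf_trans ((hA x).mp hx) ((hA x').mp hx')
    refine ⟨⟨g0⁻¹ * h * g0, Cfsg.Co0.mul_mem (Cfsg.Co0.mul_mem (Cfsg.Co0.inv_mem hg0) hh.1) hg0⟩, ?_, ?_, ?_⟩
    · show (g0⁻¹ * h * g0) u = u
      simp only [Equiv.Perm.mul_apply]
      rw [eu, H2_u0 hh, ← eu]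
      simp
    · show (g0⁻¹ * h * g0) v = v
      simp only [Equiv.Perm.mul_apply]
      rw [ev, hh.2 v0 (by simp), ← ev]
      simp
    · show (g0⁻¹ * h * g0) x = x'
      simp only [Equiv.Perm.mul_apply]
      rw [e]
      simp

end Cfsg.Agent.S1580
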