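import Mathlib
import Cfsg.Statements.S1581
import Cfsg.Agent.Lib.Helper26.LO1581Facts
-- import your own Cfsg.Agent.* helpers here

set_option autoImplicit false
open Cfsg

namespace Cfsg.Agent.S1581

/-- The McLaughlin group acts with rank 3 and subdegrees 1, 112, 162 on its 275 points: the point stabiliser has two orbits on the remaining points, distinguished by customary inner product 1 or 2 with the fixed point. -/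
theorem result (u v x : ↥Cfsg.leechLattice) (hu : Cfsg.sqNorm (u : Cfsg.GolayPt → ℤ) = 48) (hv : Cfsg.sqNorm (v : Cfsg.GolayPt → ℤ) = 32 ∧ Cfsg.sqNorm ((u - v) : Cfsg.GolayPt → ℤ) = 32) (hx : x ∈ {x : ↥Cfsg.leechLattice | Cfsg.sqNorm (x : Cfsg.GolayPt → ℤ) = 32 ∧ Cfsg.sqNorm ((u - x) : Cfsg.GolayPt → ℤ) = 32 ∧ Cfsg.dotInt (v : Cfsg.GolayPt → ℤ) (x : Cfsg.GolayPt → ℤ) = 16}) : {y : ↥Cfsg.leechLattice | y ∈ {x : ↥Cfsg.leechLattice | Cfsg.sqNorm (x : Cfsg.GolayPt → ℤ) = 32 ∧ Cfsg.sqNorm ((u - x) : Cfsg.GolayPt → ℤ) = 32 ∧ Cfsg.dotInt (v : Cfsg.GolayPt → ℤ) (x : Cfsg.GolayPt → ℤ) = 16} ∧ Cfsg.dotInt (x : Cfsg.GolayPt → ℤ) (y : Cfsg.GolayPt → ℤ) = 8}.ncard = 112 ∧ {y : ↥Cfsg.leechLattice | y ∈ {x : ↥Cfsg.leechLattice | Cfsg.sqNorm (x : Cfsg.GolayPt → ℤ) = 32 ∧ Cfsg.sqNorm ((u - x) : Cfsg.GolayPt → ℤ) = 32 ∧ Cfsg.dotInt (v :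 Cfsg.GolayPt → ℤ) (x : Cfsg.GolayPt → ℤ) = 16} ∧ y ≠ x ∧ Cfsg.dotInt (x : Cfsg.GolayPt → ℤ) (y : Cfsg.GolayPt → ℤ) = 16}.ncard = 162 ∧ ∀ y ∈ {x : ↥Cfsg.leechLattice | Cfsg.sqNorm (x : Cfsg.GolayPt → ℤ) = 32 ∧ Cfsg.sqNorm ((u - x) : Cfsg.GolayPt → ℤ) = 32 ∧ Cfsg.dotInt (v : Cfsg.GolayPt → ℤ) (x : Cfsg.GolayPt → ℤ) = 16}, ∀ y' ∈ {x : ↥Cfsg.leechLattice | Cfsg.sqNorm (x : Cfsg.GolayPt → ℤ) = 32 ∧ Cfsg.sqNorm ((u - x) : Cfsg.GolayPt → ℤ) = 32 ∧ Cfsg.dotInt (v : Cfsg.GolayPt → ℤ) (x : Cfsg.GolayPt → ℤ) = 16}, y ≠ x → y' ≠ x → Cfsg.dotInt (x : Cfsg.GolayPt → ℤ) (y : Cfsg.GolayPt → ℤ) = Cfsg.dotInt (x : Cfsg.GolayPt → ℤ) (y' : Cfsg.GolayPt → ℤ) → ∃ g : ↥Cfsg.Co0, g • u = u ∧ g • v = v ∧ g • x = x ∧ g • y = y' := by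
  open Cfsg.Agent.Helper7 Cfsg.Agent.Helper26 Cfsg.Agent.Helper26.LOX Cfsg.Agent.Helper26.LO1580 Cfsg.Agent.Helper26.LO1581 in
  obtain ⟨g0, hg0, eu, ev, ex⟩ := move3 u v x hu hv.1 hv.2 hx
  open Cfsg.Agent.Helper7 Cfsg.Agent.Helper26 Cfsg.Agent.Helper26.LOX Cfsg.Agent.Helper26.LO1580 Cfsg.Agent.Helper26.LO1581 in
  have hA : ∀ z : ↥Cfsg.leechLattice,
      (Cfsg.sqNorm (z : Cfsg.GolayPt → ℤ) = 32 ∧ Cfsg.sqNorm ((u : Cfsg.GolayPt → ℤ) - (z : Cfsg.GolayPt → ℤ)) = 32 ∧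
        Cfsg.dotInt (v : Cfsg.GolayPt → ℤ) (z : Cfsg.GolayPt → ℤ) = 16) ↔ (g0 z).1 ∈ Xf :=
    fun z => X_transport hg0 eu ev z
  open Cfsg.Agent.Helper7 Cfsg.Agent.Helper26 Cfsg.Agent.Helper26.LOX Cfsg.Agent.Helper26.LO1580 Cfsg.Agent.Helper26.LO1581 in
  have hD : ∀ z : ↥Cfsg.leechLattice, Cfsg.dotInt x0.1 (g0 z).1 = Cfsg.dotInt (x : Cfsg.GolayPt → ℤ) (z : Cfsg.GolayPt → ℤ) := by
    intro z
    rw [← ex, co0_dot g0 hg0]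
  open Cfsg.Agent.Helper7 Cfsg.Agent.Helper26 Cfsg.Agent.Helper26.LOX Cfsg.Agent.Helper26.LO1580 Cfsg.Agent.Helper26.LO1581 in
  refine ⟨?_, ?_, ?_⟩
  · have e1 : (g0 '' {y : ↥Cfsg.leechLattice | y ∈ {x : ↥Cfsg.leechLattice | Cfsg.sqNorm (x : Cfsg.GolayPt → ℤ) = 32 ∧ Cfsg.sqNorm ((u : Cfsg.GolayPt → ℤ) - (x : Cfsg.GolayPt → ℤ)) = 32 ∧ Cfsg.dotInt (v : Cfsg.GolayPt → ℤ) (x : Cfsg.GolayPt → ℤ) = 16} ∧ Cfsg.dotInt (x : Cfsg.GolayPt → ℤ) (y : Cfsg.GolayPt → ℤ) = 8}) =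
        {y : ↥Cfsg.leechLattice | (fun y => (Cfsg.sqNorm y = 32 ∧ Cfsg.sqNorm (u0.1 - y) = 32 ∧ Cfsg.dotInt v0.1 y = 16) ∧ Cfsg.dotInt x0.1 y = 8) y.1} := by
      ext y
      simp only [Set.mem_image, Set.mem_ofPred_eq]
      constructor
      · rintro ⟨z, ⟨hz1, hz2⟩, rfl⟩
        exact ⟨((hA z).mp hz1).2, by rw [hD]; exact hz2⟩
      · rintro ⟨hy1, hy2⟩
        refine ⟨g0.symm y, ⟨(hA _).mpr ?_, ?_⟩, by simp⟩
        · rw [Equiv.apply_symm_apply]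
          exact ⟨y.2, hy1⟩
        · rw [← hD, Equiv.apply_symm_apply]; exact hy2
    rw [← Set.ncard_image_of_injective _ g0.injective, e1,
      ncard_subtype (fun y => (Cfsg.sqNorm y = 32 ∧ Cfsg.sqNorm (u0.1 - y) = 32 ∧ Cfsg.dotInt v0.1 y = 16) ∧ Cfsg.dotInt x0.1 y = 8)]
    exact Y1f_ncard
  · have e1 : (g0 '' {y : ↥Cfsg.leechLattice | y ∈ {x : ↥Cfsg.leechLattice | Cfsg.sqNorm (x : Cfsg.GolayPt → ℤ) = 32 ∧ Cfsg.sqNorm ((u : Cfsg.GolayPt → ℤ) - (x : Cfsg.GolayPt → ℤ)) = 32 ∧ Cfsg.dotInt (v : Cfsg.GolayPt → ℤ) (x : Cfsg.GolayPt → ℤ) = 16} ∧ y ≠ x ∧ Cfsg.dotInt (x : Cfsg.GolayPt → ℤ) (y : Cfsg.GolayPt → ℤ) = 16}) =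
        {y : ↥Cfsg.leechLattice | (fun y => (Cfsg.sqNorm y = 32 ∧ Cfsg.sqNorm (u0.1 - y) = 32 ∧ Cfsg.dotInt v0.1 y = 16) ∧ y ≠ x0.1 ∧ Cfsg.dotInt x0.1 y = 16) y.1} := by
      ext y
      simp only [Set.mem_image, Set.mem_ofPred_eq]
      constructor
      · rintro ⟨z, ⟨hz1, hz2, hz3⟩, rfl⟩
        refine ⟨((hA z).mp hz1).2, ?_, by rw [hD]; exact hz3⟩
        intro e
        apply hz2
        apply g0.injective
        rw [ex]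
        exact Subtype.ext e
      · rintro ⟨hy1, hy2, hy3⟩
        refine ⟨g0.symm y, ⟨(hA _).mpr ?_, ?_, ?_⟩, by simp⟩
        · rw [Equiv.apply_symm_apply]
          exact ⟨y.2, hy1⟩
        · intro e
          apply hy2
          have : y = g0 x := by rw [← e]; simp
          rw [this, ex]
        · rw [← hD, Equiv.apply_symm_apply]; exact hy3
    rw [← Set.ncard_image_of_injective _ g0.injective, e1,
      ncard_subtype (fun y => (Cfsg.sqNorm y = 32 ∧ Cfsg.sqNorm (u0.1 - y) = 32 ∧ Cfsg.dotInt v0.1 y = 16) ∧ y ≠ x0.1 ∧ Cfsg.dotInt x0.1 y = 16)]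
    exact Y2f_ncard
  · intro y hy y' hy' hyx hyx' hd
    have hgy : g0 y ≠ x0 := by
      intro e
      apply hyx
      apply g0.injective
      rw [e, ex]
    have hgy' : g0 y' ≠ x0 := by
      intro e
      apply hyx'
      apply g0.injective
      rw [e, ex]
    obtain ⟨h, hh, e⟩ := base_trans ((hA y).mp hy) ((hA y').mp hy') hgy hgy'
      (by rw [hD, hD]; exact hd)
    have hh2 := H3_le hh
    refine ⟨⟨g0⁻¹ * h * g0, Cfsg.Co0.mul_mem (Cfsg.Co0.mul_mem (Cfsg.Co0.inv_mem hg0) hh.1) hg0⟩, ?_, ?_, ?_, ?_⟩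
    · show (g0⁻¹ * h * g0) u = u
      simp only [Equiv.Perm.mul_apply]
      rw [eu, H2_u0 hh2, ← eu]
      simp
    · show (g0⁻¹ * h * g0) v = v
      simp only [Equiv.Perm.mul_apply]
      rw [ev, hh2.2 v0 (by simp), ← ev]
      simp
    · show (g0⁻¹ * h * g0) x = x
      simp only [Equiv.Perm.mul_apply]
      rw [ex, H3_x0 hh, ← ex]
      simp
    · show (g0⁻¹ * h * g0) y = y'
      simp only [Equiv.Perm.mul_apply]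
      rw [e]
      simp

end Cfsg.Agent.S1581
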