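import Cfsg.Statements.S1589
import Cfsg.Agent.Lib.Helper27.Idx759d

set_option autoImplicit false
open scoped Pointwise
open Cfsg

namespace Cfsg.Agent.S1589

open Cfsg.Agent.Helper27.Idx759 Cfsg.Agent.Helper26

/-- The order of the image of a subgroup of given index. -/
theorem card_of_index (H : Subgroup ↥Cfsg.M24) (n m : ℕ) (hi : H.index = n)
    (hnm : n * m = 244823040) (hn : 0 < n) : Nat.card ↥(H.map (Cfsg.M24).subtype) = m := by
  rw [Subgroup.card_map_of_injective (Cfsg.M24).subtype_injective]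
  have h := H.index_mul_card
  rw [hi, card_M24'] at h
  exact Nat.eq_of_mul_eq_mul_left hn (h.trans hnm.symm)

theorem map_le (H : Subgroup ↥Cfsg.M24) : H.map (Cfsg.M24).subtype ≤ Cfsg.M24 := by
  rintro _ ⟨x, _, rfl⟩
  exact x.2

/-- Back from the image. -/
theorem eq_stab_of_map {β : Type*} [MulAction (Equiv.Perm GolayPt) β] (H : Subgroup ↥Cfsg.M24)
    (X : β) (h : H.map (Cfsg.M24).subtype =
      Cfsg.M24 ⊓ MulAction.stabilizer (Equiv.Perm GolayPt) X) :
    H = MulAction.stabilizer ↥Cfsg.M24 X := by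
  apply Subgroup.map_injective (Cfsg.M24).subtype_injective
  rw [h, stabilizer_map_subtype]

/-- Subgroups of the group of the length-24 code of index 759, 276 and 1771 are exactly the octad, duad and sextet stabilisers, and no subgroup has index 253. -/
theorem result : (∀ H : Subgroup ↥Cfsg.M24, H.index = 759 → ∃ o ∈ Cfsg.octads, H = MulAction.stabilizer Cfsg.M24 o) ∧ (∀ H : Subgroup ↥Cfsg.M24, H.index = 276 → ∃ s : Finset Cfsg.GolayPt, s.card = 2 ∧ H = MulAction.stabilizer Cfsg.M24 s) ∧ (∀ H : Subgroup ↥Cfsg.M24, H.index = 1771 → ∃ S ∈ Cfsg.sextets, H = MulAction.stabilizer Cfsg.M24 S) ∧ ∀ H : Subgroup ↥Cfsg.M24, H.index ≠ 253 := by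
  refine ⟨?_, ?_, ?_, ?_⟩
  · intro H hH
    obtain ⟨o, ho, e⟩ := part759 _ (map_le H) (card_of_index H 759 322560 hH (by norm_num)
      (by norm_num))
    exact ⟨o, ho, eq_stab_of_map H o e⟩
  · intro H hH
    obtain ⟨s, hs, e⟩ := part276 _ (map_le H) (card_of_index H 276 887040 hH (by norm_num)
      (by norm_num))
    exact ⟨s, hs, eq_stab_of_map H s e⟩
  · intro H hH
    obtain ⟨S, hS, e⟩ := part1771 _ (map_le H) (card_of_index H 1771 138240 hH (by norm_num)
      (by norm_num))
    exact ⟨S, hS, eq_stab_of_map H S e⟩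
  · intro H hH
    exact part253 _ (map_le H) (card_of_index H 253 967680 hH (by norm_num) (by norm_num))

end Cfsg.Agent.S1589
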