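import Cfsg.Statements.S1591
import Mathlib
import Cfsg.Agent.Lib.Helper27.TGolay

set_option autoImplicit false
set_option maxRecDepth 1000000
open scoped Pointwise
open Cfsg

namespace Cfsg.Agent.S1591

open Cfsg.Agent.Helper27.TG

theorem basis_orth : ∀ k l : Fin 6, ∑ p : ArrayPt, bvec k.val p * bvec l.val p = 0 := by
  decide +kernel

/-- The length-12 ternary code is self-orthogonal. -/
theorem result (x y : Cfsg.ArrayPt → ZMod 3) (hx : x ∈ Cfsg.ternaryGolayCode) (hy : y ∈ Cfsg.ternaryGolayCode) : ∑ p, x p * y p = 0 := by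
  obtain ⟨a, rfl⟩ := mem_iff.mp hx
  obtain ⟨c, rfl⟩ := mem_iff.mp hy
  simp only [Finset.sum_apply, Pi.smul_apply, smul_eq_mul, Finset.sum_mul_sum]
  rw [Finset.sum_comm]
  apply Finset.sum_eq_zero
  intro k _
  rw [Finset.sum_comm]
  apply Finset.sum_eq_zero
  intro l _
  have h := basis_orth k l
  calc ∑ p : ArrayPt, a k * bvec k.val p * (c l * bvec l.val p)
      = ∑ p : ArrayPt, (a k * c l) * (bvec k.val p * bvec l.val p) := by
        apply Finset.sum_congr rfl; intro p _; ring
    _ = (a k * c l) * ∑ p : ArrayPt, bvec k.val p * bvec l.val p := by rw [Finset.mul_sum]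
    _ = 0 := by rw [h, mul_zero]

end Cfsg.Agent.S1591
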