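-- Statement S1595: Leech triangle of S(5,6,12).
import Cfsg.Statements.S1595
import Cfsg.Agent.Lib.Helper8.SteinerThrough
import Mathlib

set_option autoImplicit false
open Cfsg

namespace Cfsg.Agent.S1595

open Cfsg.Agent.Helper8 Finset

variable {α : Type*} [Fintype α] [DecidableEq α]

/-- The blocks meeting `b` exactly in `s`, as a filter of the blocks through `s` other than `b`. -/
theorem exact_set_eq {B : Set (Finset α)} {b s : Finset α} (hs : s ⊆ b) (hsb : s ≠ b) :
    {c : Finset α | c ∈ B ∧ b ∩ c = s} =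
      ↑((((blocksF B).filter (fun c => s ⊆ c)).erase b).filter
        (fun c => ((b \ s) ∩ c).card = 0)) := by
  ext c
  simp only [Set.mem_ofPred_eq, coe_filter, mem_erase, mem_filter, mem_blocksF, card_eq_zero]
  constructor
  · rintro ⟨hc, hbc⟩
    refine ⟨⟨?_, hc, ?_⟩, ?_⟩
    · rintro rfl
      rw [inter_self] at hbc
      exact hsb hbc.symm
    · rw [← hbc]; exact inter_subset_right
    · rw [← hbc]
      ext x
      simp only [mem_inter, mem_sdiff, notMem_empty, iff_false]
      tauto
  · rintro ⟨⟨_, hc, hsc⟩, hZ⟩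
    refine ⟨hc, ?_⟩
    ext x
    constructor
    · intro hx
      by_contra hxs
      have : x ∈ (b \ s) ∩ c := by
        simp only [mem_inter, mem_sdiff] at hx ⊢
        exact ⟨⟨hx.1, hxs⟩, hx.2⟩
      rw [hZ] at this
      exact absurd this (notMem_empty x)
    · intro hx
      exact mem_inter.mpr ⟨hs hx, hsc hx⟩

/-- For a block `c ≠ b` through `s ⊆ b`, `|(b \ s) ∩ c| + |s| ≤ 4` in an S(5,6,12). -/
theorem extra_le {B : Set (Finset α)} (hB : IsSteinerSystem 5 6 B) {b s : Finset α}
    (hb : b ∈ B) (hs : s ⊆ b) :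
    ∀ c ∈ ((blocksF B).filter (fun c => s ⊆ c)).erase b, ((b \ s) ∩ c).card + s.card ≤ 4 := by
  intro c hc
  rw [mem_erase, mem_filter, mem_blocksF] at hc
  have h5 := card_inter_lt hB hb hc.2.1 (Ne.symm hc.1)
  have hd : Disjoint ((b \ s) ∩ c) s := by
    rw [disjoint_left]
    intro x hx hxs
    simp only [mem_inter, mem_sdiff] at hx
    exact hx.1.2 hxs
  have hsub : ((b \ s) ∩ c) ∪ s ⊆ b ∩ c := by
    intro x hx
    simp only [mem_union, mem_inter, mem_sdiff] at hx ⊢
    rcases hx with hx | hx
    · exact ⟨hx.1.1, hx.2⟩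
    · exact ⟨hs hx, hc.2.2 hx⟩
  have := card_le_card hsub
  rw [card_union_of_disjoint hd] at this
  omega

/-- Leech triangle of S(5, 6, 12): blocks meet in 0, 2, 3 or 4 points, and a block is met exactly in a given 2-, 3- or 4-subset by 3, 2, 3 blocks respectively. -/
theorem result {α : Type*} [Fintype α] [DecidableEq α] (hα : Fintype.card α = 12) {B : Set (Finset α)} (hB : Cfsg.IsSteinerSystem 5 6 B) (b : Finset α) (hb : b ∈ B) : (∀ c ∈ B, c ≠ b → (b ∩ c).card = 0 ∨ (b ∩ c).card = 2 ∨ (b ∩ c).card = 3 ∨ (b ∩ c).card = 4) ∧ ∀ s ⊆ b, (s.card = 2 → {c : Finset α | c ∈ B ∧ b ∩ c = s}.ncard = 3) ∧ (s.card = 3 → {c : Finset α | c ∈ B ∧ b ∩ c = s}.ncard = 2) ∧ (s.card = 4 → {c : Finset α | c ∈ B ∧ b ∩ c = s}.ncard = 3) := by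
  have hbk : b.card = 6 := hB.1 b hb
  constructor
  · -- intersection sizes
    intro c hc hcb
    obtain ⟨h0, h1, h2, h3, h4⟩ := sums_5_6_12 hα hB hb
    have hi : ∀ c ∈ (blocksF B).erase b, (b ∩ c).card ≤ 4 := by
      intro c hc
      rw [mem_erase_blocksF] at hc
      have := card_inter_lt hB hb hc.2 (Ne.symm hc.1)
      omega
    have key := termwise ((blocksF B).erase b) (fun c => (b ∩ c).card)
      (fun n => 2 * Nat.choose n 2 + 4 * Nat.choose n 4) (fun n => n + 3 * Nat.choose n 3) 4 hi
      (by intro n hn; interval_cases n <;> decide)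
      (by
        show ∑ c ∈ (blocksF B).erase b,
            (2 * Nat.choose (b ∩ c).card 2 + 4 * Nat.choose (b ∩ c).card 4) =
          ∑ c ∈ (blocksF B).erase b, ((b ∩ c).card + 3 * Nat.choose (b ∩ c).card 3)
        rw [Finset.sum_add_distrib, Finset.sum_add_distrib, ← Finset.mul_sum, ← Finset.mul_sum,
          ← Finset.mul_sum, h1, h2, h3, h4]; norm_num)
    have hcE : c ∈ (blocksF B).erase b := mem_erase_blocksF.mpr ⟨hcb, hc⟩
    have hk : 2 * Nat.choose (b ∩ c).card 2 + 4 * Nat.choose (b ∩ c).card 4 =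
        (b ∩ c).card + 3 * Nat.choose (b ∩ c).card 3 := key c hcE
    have hle := hi c hcE
    have : (b ∩ c).card = 0 ∨ (b ∩ c).card = 1 ∨ (b ∩ c).card = 2 ∨ (b ∩ c).card = 3 ∨
        (b ∩ c).card = 4 := by omega
    rcases this with h | h | h | h | h
    · exact Or.inl h
    · rw [h] at hk; norm_num [Nat.choose] at hk
    · exact Or.inr (Or.inl h)
    · exact Or.inr (Or.inr (Or.inl h))
    · exact Or.inr (Or.inr (Or.inr h))
  · intro s hs
    have hsZ : Disjoint s (b \ s) := disjoint_sdiff
    have hZcard : (b \ s).card + s.card = 6 := by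
      rw [card_sdiff_of_subset hs, hbk]
      have := card_le_card hs
      omega
    have hbE : b ∈ (blocksF B).filter (fun c => s ⊆ c) :=
      mem_filter.mpr ⟨mem_blocksF.mpr hb, hs⟩
    have hZb : (b \ s) ∩ b = b \ s := inter_eq_left.mpr sdiff_subset
    have hle := extra_le hB hb hs
    refine ⟨?_, ?_, ?_⟩
    · -- |s| = 2
      intro h2
      have hsb : s ≠ b := by rintro rfl; omega
      have hZ : (b \ s).card = 4 := by omega
      rw [exact_set_eq hs hsb, Set.ncard_coe_finset, card_filter]
      have m0 := moment_through hB s (b \ s) hsZ 0 (by omega)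
      have m1 := moment_through hB s (b \ s) hsZ 1 (by omega)
      have m2 := moment_through hB s (b \ s) hsZ 2 (by omega)
      rw [hα, h2, hZ] at m0 m1 m2
      rw [← Finset.add_sum_erase _ _ hbE, hZb, hZ] at m0 m1 m2
      norm_num [Nat.choose] at m0 m1 m2
      have hid : ∀ c ∈ ((blocksF B).filter (fun c => s ⊆ c)).erase b,
          (if ((b \ s) ∩ c).card = 0 then 1 else 0) + ((b \ s) ∩ c).card =
            1 + Nat.choose ((b \ s) ∩ c).card 2 := by
        intro c hc
        have := hle c hc
        have hx : ((b \ s) ∩ c).card ≤ 2 := by omega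
        interval_cases ((b \ s) ∩ c).card <;> decide
      have hsum := Finset.sum_congr rfl hid
      rw [Finset.sum_add_distrib, Finset.sum_add_distrib, sum_const, smul_eq_mul] at hsum
      omega
    · -- |s| = 3
      intro h3
      have hsb : s ≠ b := by rintro rfl; omega
      have hZ : (b \ s).card = 3 := by omega
      rw [exact_set_eq hs hsb, Set.ncard_coe_finset, card_filter]
      have m0 := moment_through hB s (b \ s) hsZ 0 (by omega)
      have m1 := moment_through hB s (b \ s) hsZ 1 (by omega)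
      rw [hα, h3, hZ] at m0 m1
      rw [← Finset.add_sum_erase _ _ hbE, hZb, hZ] at m0 m1
      norm_num [Nat.choose] at m0 m1
      have hid : ∀ c ∈ ((blocksF B).filter (fun c => s ⊆ c)).erase b,
          (if ((b \ s) ∩ c).card = 0 then 1 else 0) + ((b \ s) ∩ c).card = 1 := by
        intro c hc
        have := hle c hc
        have hx : ((b \ s) ∩ c).card ≤ 1 := by omega
        interval_cases ((b \ s) ∩ c).card <;> decide
      have hsum := Finset.sum_congr rfl hid
      rw [Finset.sum_add_distrib, sum_const, smul_eq_mul] at hsum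
      omega
    · -- |s| = 4
      intro h4
      have hsb : s ≠ b := by rintro rfl; omega
      have hZ : (b \ s).card = 2 := by omega
      rw [exact_set_eq hs hsb, Set.ncard_coe_finset, card_filter]
      have m0 := moment_through hB s (b \ s) hsZ 0 (by omega)
      rw [hα, h4, hZ] at m0
      rw [← Finset.add_sum_erase _ _ hbE, hZb, hZ] at m0
      norm_num [Nat.choose] at m0
      have hid : ∀ c ∈ ((blocksF B).filter (fun c => s ⊆ c)).erase b,
          (if ((b \ s) ∩ c).card = 0 then 1 else 0) = 1 := by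
        intro c hc
        have := hle c hc
        have hx : ((b \ s) ∩ c).card = 0 := by omega
        rw [if_pos hx]
      have hsum := Finset.sum_congr rfl hid
      rw [sum_const, smul_eq_mul] at hsum
      omega

end Cfsg.Agent.S1595
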