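import Cfsg.Statements.S1596
import Mathlib
import Cfsg.Agent.Lib.Helper27.QuartetsTrans

set_option autoImplicit false
open scoped Pointwise
open Cfsg

namespace Cfsg.Agent.S1596

open Cfsg.Agent.Helper27

/-- The base case: the fixed dodecad `toFinset dod0`. -/
theorem base_case (t u : Finset GolayPt) (ht : t.card = 3) (hu : u.card = 3)
    (htu : Disjoint t u) (hh : t ∪ u ∈ hexadsOn (toFinset dod0)) :
    ∃! Q : Finset (Finset GolayPt), Q ∈ quartets (toFinset dod0) ∧ t ∈ Q ∧ u ∈ Q := by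
  have hsub : t ∪ u ⊆ toFinset dod0 := by
    obtain ⟨_, o, _, e⟩ := hh
    rw [← e]; exact Finset.inter_subset_right
  have hts : t ⊆ toFinset dod0 := Finset.union_subset_left hsub
  have hus : u ⊆ toFinset dod0 := Finset.union_subset_right hsub
  obtain ⟨a, ha0, _, rfl⟩ := exists_submask hts
  obtain ⟨b, hb0, _, rfl⟩ := exists_submask hus
  have ha : a ∈ sub3 := mem_sub3_iff.mpr ⟨ha0, by rw [← card_toFinset, ht]⟩
  have hb : b ∈ sub3 := mem_sub3_iff.mpr ⟨hb0, by rw [← card_toFinset, hu]⟩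
  have hne : toFinset a ≠ toFinset b := by
    intro e
    rw [e, disjoint_self, Finset.bot_eq_empty] at htu
    rw [htu] at hu; simp at hu
  have hbn : b ∈ nbrs a := mem_nbrs_iff.mpr ⟨hb, (union_hexad_iff ha0 hb0).mp hh⟩
  obtain ⟨_, j, hj, hs⟩ := compat_spec ha hbn
  have hQ0 : toQ (a :: b :: compatIn (nbrs a) b) ∈ quartets (toFinset dod0) := by
    rw [← toQ_sort4, hs]
    apply quartet_valid
    unfold quartetList
    rw [List.mem_map]
    exact ⟨j, List.mem_range.mpr hj, rfl⟩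
  refine ⟨toQ (a :: b :: compatIn (nbrs a) b), ⟨hQ0, ?_, ?_⟩, ?_⟩
  · exact mem_toQ.mpr ⟨a, by simp, rfl⟩
  · exact mem_toQ.mpr ⟨b, by simp, rfl⟩
  · rintro Q ⟨hQ, hta, hub⟩
    exact (quartet_struct hQ ha hb hta hub hne).2

/-- A quartet of a dodecad is determined by any two of its triples: two disjoint triples uniting to a hexad extend to exactly one quartet. -/
theorem result (d : Finset Cfsg.GolayPt) (hd : d ∈ Cfsg.dodecads) (t u : Finset Cfsg.GolayPt) (ht : t.card = 3) (hu : u.card = 3) (htu : Disjoint t u) (hh : t ∪ u ∈ Cfsg.hexadsOn d) : ∃! Q : Finset (Finset Cfsg.GolayPt), Q ∈ Cfsg.quartets d ∧ t ∈ Q ∧ u ∈ Q := by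
  obtain ⟨h, hhm, rfl⟩ := dodecads_transitive hd
  have hinv := M24.inv_mem hhm
  have hh' : h⁻¹ • t ∪ h⁻¹ • u ∈ hexadsOn (toFinset dod0) := by
    have := (smul_mem_hexadsOn hinv (h • toFinset dod0) (t ∪ u)).mpr hh
    rwa [inv_smul_smul, Finset.smul_finset_union] at this
  have hdis : Disjoint (h⁻¹ • t) (h⁻¹ • u) := by
    rw [Finset.disjoint_iff_inter_eq_empty] at htu ⊢
    rw [← Finset.smul_finset_inter, htu, Finset.smul_finset_empty]
  obtain ⟨Q0, ⟨hQ0, ht0, hu0⟩, huniq⟩ := base_case (h⁻¹ • t) (h⁻¹ • u)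
    (by rw [Finset.card_smul_finset, ht]) (by rw [Finset.card_smul_finset, hu]) hdis hh'
  refine ⟨h • Q0, ⟨(smul_mem_quartets hhm _ _).mpr hQ0, ?_, ?_⟩, ?_⟩
  · have := Finset.smul_mem_smul_finset (a := h) ht0
    rwa [smul_inv_smul] at this
  · have := Finset.smul_mem_smul_finset (a := h) hu0
    rwa [smul_inv_smul] at this
  · rintro Q ⟨hQ, htQ, huQ⟩
    have hQ' : h⁻¹ • Q ∈ quartets (toFinset dod0) := by
      have := (smul_mem_quartets hinv _ _).mpr hQ
      rwa [inv_smul_smul] at this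
    have := huniq (h⁻¹ • Q) ⟨hQ', Finset.smul_mem_smul_finset htQ, Finset.smul_mem_smul_finset huQ⟩
    rw [← this, smul_inv_smul]

end Cfsg.Agent.S1596
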