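import Cfsg.Statements.S1597
import Mathlib
import Cfsg.Agent.Lib.Helper27.QuartetsTrans

set_option autoImplicit false
open scoped Pointwise
open Cfsg

namespace Cfsg.Agent.S1597

open Cfsg.Agent.Helper27

/-- A dodecad has 220 quartets and its stabiliser is transitive on them. -/
theorem result (d : Finset Cfsg.GolayPt) (hd : d ∈ Cfsg.dodecads) : (Cfsg.quartets d).ncard = 220 ∧ ∀ Q ∈ Cfsg.quartets d, ∀ Q' ∈ Cfsg.quartets d, ∃ g : Equiv.Perm Cfsg.GolayPt, g ∈ Cfsg.M24 ∧ g • d = d ∧ g • Q = Q' := by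
  obtain ⟨h, hh, rfl⟩ := dodecads_transitive hd
  have hmem : ∀ Q : Finset (Finset GolayPt),
      Q ∈ quartets (h • toFinset dod0) ↔ h⁻¹ • Q ∈ quartets (toFinset dod0) := by
    intro Q
    have := smul_mem_quartets hh (toFinset dod0) (h⁻¹ • Q)
    rw [smul_inv_smul] at this
    exact this
  refine ⟨?_, ?_⟩
  · have : quartets (h • toFinset dod0) = (fun Q => h • Q) '' quartets (toFinset dod0) := by
      ext Q
      rw [hmem]
      constructor
      · intro hQ
        exact ⟨h⁻¹ • Q, hQ, smul_inv_smul h Q⟩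
      · rintro ⟨P, hP, rfl⟩
        rw [inv_smul_smul]; exact hP
    rw [this, Set.ncard_image_of_injective _ (MulAction.injective h), ncard_quartets_base]
  · intro Q hQ Q' hQ'
    obtain ⟨g1, hg1, e1⟩ := quartets_base_transitive ((hmem Q).mp hQ)
    obtain ⟨g2, hg2, e2⟩ := quartets_base_transitive ((hmem Q').mp hQ')
    have hg0 : g2 * g1⁻¹ ∈ stabOf [dod0] := (stabOf [dod0]).mul_mem hg2 ((stabOf [dod0]).inv_mem hg1)
    refine ⟨h * (g2 * g1⁻¹) * h⁻¹, conj_mem_M24 hh hg0, conj_fix hg0 (by simp), ?_⟩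
    rw [mul_smul, mul_smul, mul_smul, ← e1, inv_smul_smul, e2, smul_inv_smul]

end Cfsg.Agent.S1597
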