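import Cfsg.Statements.S1598
import Mathlib
import Cfsg.Agent.Lib.Helper27.QuartetOrbits
import Cfsg.Agent.Lib.Helper27.TabHom
import Cfsg.Agent.Lib.Helper27.GL23
import Cfsg.Agent.Lib.Helper27.SplitExt
import Cfsg.Agent.Lib.Helper7.M12
import Cfsg.Agent.Lib.Helper27.Pairs

set_option autoImplicit false
set_option maxRecDepth 1000000
open scoped Pointwise
open Cfsg

namespace Cfsg.Agent.S1598

open Cfsg.Agent.Helper27
open Cfsg.Agent.Helper27.GL23

/-- Tables (with inverses) of a complement `GL(2,3)` in the stabiliser of the base dodecad and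
quartet, indexed by the code of the matrix (invalid codes carry a dummy). -/
def tabK : List (ℕ × ℕ) :=
  [(0, 0),
   (0, 0),
   (0, 0),
   (0, 0),
   (0, 0),
   (0, 0),
   (0, 0),
   (0, 0),
   (0, 0),
   (0, 0),
   (0, 0),
   (0, 0),
   (959301744814060458140028599544791093, 959301744814060458140028599544791093),
   (419297725487101535827479299107540020, 348614159383652238044781437939040309),
   (253145611578501118464190490900577330, 185120682646872406103065427005095989),
   (419301407430414708047571048310985776, 170148604985084899715367911802224693),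
   (253151745184501770721649718924365875, 351293888577372002033253565957095477),
   (959302970452297029815484122883573807, 971594093282127647136948268117475381),
   (0, 0),
   (0, 0),
   (0, 0),
   (170148604985084899715367911802224693, 419301407430414708047571048310985776),
   (211692130612271158555349839133424690, 224023809594784293644881221286319152),
   (460918612693004220749390797632654388, 558942745741435753642035672966190128),
   (211693351143854040069960586287076400, 211693351143854040069960586287076400),
   (460924754500583794981567562499115055, 434387815040789933395811638620935216),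
   (170152283833472840121586900348129331, 556186796581990228466409999043351600),
   (0, 0),
   (984818244535754528103549039458486304, 984818244535754528103549039458486304),
   (444610170142328297188851916301502496, 444610170142328297188851916301502496),
   (0, 0),
   (434391522284956073246735478469789728, 265564586144762153820853248797542432),
   (268195153026948482477577069584812064, 268195153026948482477577069584812064),
   (0, 0),
   (265564586144762153820853248797542432, 434391522284956073246735478469789728),
   (971592882964418941354553515258775584, 971592882964418941354553515258775584),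
   (0, 0),
   (195582721578478820511212868901228595, 361719051984486795819667447264721970),
   (236924650223850276496927787966676018, 236924650223850276496927787966676018),
   (185120682646872406103065427005095989, 253145611578501118464190490900577330),
   (0, 0),
   (475927573926119764823710613639677999, 268201277425127880358266745371638834),
   (224023809594784293644881221286319152, 211692130612271158555349839133424690),
   (473134741195345538546917901698812980, 351291433665016121857499192588909618),
   (0, 0),
   (0, 0),
   (361719051984486795819667447264721970, 195582721578478820511212868901228595),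
   (569208101384615818994733511929712691, 569208101384615818994733511929712691),
   (351293888577372002033253565957095477, 253151745184501770721649718924365875),
   (558945205450960314157571228771436591, 265558423601157895494838118034919475),
   (0, 0),
   (556186796581990228466409999043351600, 170152283833472840121586900348129331),
   (0, 0),
   (348616612052393302851577695833639988, 556184342056263971129995355483492403),
   (0, 0),
   (195586430370107816537794898377670690, 195586430370107816537794898377670690),
   (236923441066521525176871970173714466, 236923441066521525176871970173714466),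
   (0, 0),
   (224025064015429352963918643794640930, 224025064015429352963918643794640930),
   (473128624611662826287163826251071522, 185117017958217570683466288065511458),
   (0, 0),
   (475933736082641786795943807898714146, 475933736082641786795943807898714146),
   (185117017958217570683466288065511458, 473128624611662826287163826251071522),
   (0, 0),
   (361716591346469213948507189867400244, 361716591346469213948507189867400244),
   (569205647400752109992972822634711087, 444613833283520756970236484211133492),
   (348614159383652238044781437939040309, 419297725487101535827479299107540020),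
   (556184342056263971129995355483492403, 348616612052393302851577695833639988),
   (0, 0),
   (558942745741435753642035672966190128, 460918612693004220749390797632654388),
   (0, 0),
   (351291433665016121857499192588909618, 473134741195345538546917901698812980),
   (0, 0),
   (984816996382143113407695328201033775, 984816996382143113407695328201033775),
   (444613833283520756970236484211133492, 569205647400752109992972822634711087),
   (971594093282127647136948268117475381, 959302970452297029815484122883573807),
   (0, 0),
   (265558423601157895494838118034919475, 558945205450960314157571228771436591),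
   (434387815040789933395811638620935216, 460924754500583794981567562499115055),
   (268201277425127880358266745371638834, 475927573926119764823710613639677999),
   (0, 0)]

/-- Tables of the nine elements of the normal subgroup, indexed by `a + 3 b`. -/
def tabN : List (ℕ × ℕ) :=
  [(984818244535754528103549039458486304, 984818244535754528103549039458486304),
   (443317003509782464989413823260756224, 270910417595426372206477461354023328),
   (270910417595426372206477461354023328, 443317003509782464989413823260756224),
   (195581552035012960500210918819368130, 361741148363048591556764171813060963),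
   (235626591175795527082169656081911522, 63226113257140776664435695909142691),
   (478608399932861705420406980428696898, 567926031260037366476521289063399555),
   (361741148363048591556764171813060963, 195581552035012960500210918819368130),
   (567926031260037366476521289063399555, 478608399932861705420406980428696898),
   (63226113257140776664435695909142691, 235626591175795527082169656081911522)]

/-- Generators (with inverses) of the stabiliser of the base dodecad and quartet. -/
def gensH : List (ℕ × ℕ) :=
  [(236914375244611743992094391981313218, 569228853824742727731408511705350499),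
   (569228853824742727731408511705350499, 236914375244611743992094391981313218),
   (41681202474007895901447824175911118, 268176689151236571474650160451732214),
   (268176689151236571474650160451732214, 41681202474007895901447824175911118)]

def wordsD : List (List ℕ) :=
  [[], [0], [1], [0,2,0], [2], [2,1], [0,3], [2,0], [1,2], [0,2], [1,3], [3]]

def tK (c : ℕ) : ℕ × ℕ := tabK.getD c (0, 0)
def tN (i : ℕ) : ℕ × ℕ := tabN.getD i (0, 0)

/-- The table describes an element of `M24` fixing the base dodecad and the base quartet. -/
def memOK (g : ℕ × ℕ) : Bool :=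
  checkInv g.1 g.2 && inM24 g.2 && (permMask g.2 dod0 == dod0) &&
    (sort4 ((qEntry 0).map (permMask g.2)) == qEntry 0)

theorem K1 : (List.range 81).all (fun c => !valid c || memOK (tK c)) = true := by decide +kernel

theorem K2 : (List.range 9).all (fun i => memOK (tN i)) = true := by decide +kernel

theorem K3 : (List.range 81).all (fun c1 => !valid c1 || (List.range 81).all (fun c2 =>
    !valid c2 || tabMulOK (tK c1) (tK c2) (tK (mulc c1 c2)))) = true := by decide +kernel

theorem K3one : (List.range 24).all (fun i => lk (tK 28).1 i == i) = true := by decide +kernel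

theorem N3one : (List.range 24).all (fun i => lk (tN 0).1 i == i) = true := by decide +kernel

def addN (i j : ℕ) : ℕ := (i % 3 + j % 3) % 3 + 3 * ((i / 3 + j / 3) % 3)

theorem K4 : (List.range 9).all (fun i => (List.range 9).all (fun j =>
    tabMulOK (tN i) (tN j) (tN (addN i j)))) = true := by decide +kernel

def actN (c i : ℕ) : ℕ :=
  ((c % 3) * (i % 3) + (c / 3 % 3) * (i / 3)) % 3 +
    3 * (((c / 9 % 3) * (i % 3) + (c / 27 % 3) * (i / 3)) % 3)

theorem K5 : (List.range 81).all (fun c => !valid c || (List.range 9).all (fun i =>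
    tabConjOK (tK c) (tN i) (tN (actN c i)))) = true := by decide +kernel

theorem K6 : (List.range 81).all (fun c => !valid c || (List.range 9).all (fun i =>
    !tabEq (tK c) (tN i) || (c == 28 && i == 0))) = true := by decide +kernel

theorem K7 : (List.range 9).all (fun i => (List.range 9).all (fun j =>
    !tabEq (tN i) (tN j) || i == j)) = true := by decide +kernel

theorem addN_lt : ∀ i < 9, ∀ j < 9, addN i j < 9 := by decide
theorem addN_inv : ∀ i < 9, addN i (addN i i) = 0 := by decide
theorem actN_lt : ∀ c < 81, ∀ i < 9, actN c i < 9 := by decide +kernel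


theorem all_guard {P : ℕ → Bool} {n : ℕ}
    (h : (List.range n).all (fun c => !valid c || P c) = true) {c : ℕ} (hc : c < n)
    (hv : valid c = true) : P c = true := by
  have := List.all_eq_true.mp h c (List.mem_range.mpr hc)
  rw [hv] at this
  simp only [Bool.not_true, Bool.false_or] at this
  exact this

theorem all_plain {P : ℕ → Bool} {n : ℕ}
    (h : (List.range n).all P = true) {c : ℕ} (hc : c < n) : P c = true :=
  List.all_eq_true.mp h c (List.mem_range.mpr hc)

/-! ### The base group -/

abbrev d0 : Finset GolayPt := toFinset dod0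
abbrev Q0 : Finset (Finset GolayPt) := toQ (qEntry 0)

/-- The stabiliser of the base dodecad and the base quartet. -/
abbrev G0 : Subgroup ↥M24 := MulAction.stabilizer Cfsg.M24 d0 ⊓ MulAction.stabilizer Cfsg.M24 Q0

/-- The underlying permutation. -/
def val2 : ↥G0 →* Equiv.Perm GolayPt := M24.subtype.comp G0.subtype

theorem val2_injective : Function.Injective val2 := by
  intro a b h
  exact Subtype.ext (Subtype.ext h)

theorem memOK_spec {g : ℕ × ℕ} (h : memOK g = true) :
    checkInv g.1 g.2 = true ∧ permOf g ∈ M24 ∧ permOf g • d0 = d0 ∧ permOf g • Q0 = Q0 := by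
  unfold memOK at h
  simp only [Bool.and_eq_true, beq_iff_eq] at h
  obtain ⟨⟨⟨h1, h2⟩, h3⟩, h4⟩ := h
  refine ⟨h1, permOf_mem_M24 h1 h2, ?_, ?_⟩
  · rw [permOf_smul h1, h3]
  · have e : ((qEntry 0).map (permMask g.2)).map toFinset =
        (qEntry 0).map (fun m => permOf g • toFinset m) := by
      rw [List.map_map]
      apply List.map_congr_left
      intro m _
      simp only [Function.comp, toFinset_permMask' h1]
    rw [← smul_toQ (permOf g) _ _ e, ← toQ_sort4, h4]

/-- The element of the base group described by a table. -/
def mk (g : ℕ × ℕ) (h : memOK g = true) : ↥G0 :=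
  ⟨⟨permOf g, (memOK_spec h).2.1⟩, ⟨(memOK_spec h).2.2.1, (memOK_spec h).2.2.2⟩⟩

theorem val2_mk (g : ℕ × ℕ) (h : memOK g = true) : val2 (mk g h) = permOf g := rfl

theorem tK_ok (x : X) : memOK (tK (code x)) = true := by
  exact all_guard K1 (code_lt x) (code_valid x)

theorem tN_ok {i : ℕ} (hi : i < 9) : memOK (tN i) = true :=
  List.all_eq_true.mp K2 i (List.mem_range.mpr hi)

/-- The homomorphism from `GL(2,3)`. -/
def ψ : X →* ↥G0 where
  toFun x := mk (tK (code x)) (tK_ok x)
  map_one' := by
    apply val2_injective
    rw [val2_mk, map_one, code_one]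
    exact permOf_eq_one (memOK_spec (by have := tK_ok 1; rwa [code_one] at this)).1 K3one
  map_mul' x y := by
    apply val2_injective
    rw [map_mul, val2_mk, val2_mk, val2_mk, code_mul]
    have h' : tabMulOK (tK (code x)) (tK (code y)) (tK (mulc (code x) (code y))) = true :=
      all_guard (all_guard K3 (code_lt x) (code_valid x)) (code_lt y) (code_valid y)
    have hxy := tK_ok (x * y)
    rw [code_mul] at hxy
    exact permOf_mul_of_tables (memOK_spec (tK_ok x)).1 (memOK_spec (tK_ok y)).1
      (memOK_spec hxy).1 h'

theorem val2_ψ (x : X) : val2 (ψ x) = permOf (tK (code x)) := rfl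

/-- The subgroup of order 9. -/
def N0 : Subgroup ↥G0 where
  carrier := {h | ∃ i < 9, val2 h = permOf (tN i)}
  one_mem' := ⟨0, by norm_num, by
    rw [map_one]
    exact (permOf_eq_one (memOK_spec (tN_ok (by norm_num))).1 N3one).symm⟩
  mul_mem' := by
    rintro a b ⟨i, hi, ha⟩ ⟨j, hj, hb⟩
    refine ⟨addN i j, addN_lt i hi j hj, ?_⟩
    rw [map_mul, ha, hb]
    have h := List.all_eq_true.mp (List.all_eq_true.mp K4 i (List.mem_range.mpr hi)) j
      (List.mem_range.mpr hj)
    exact (permOf_mul_of_tables (memOK_spec (tN_ok hi)).1 (memOK_spec (tN_ok hj)).1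
      (memOK_spec (tN_ok (addN_lt i hi j hj))).1 h).symm
  inv_mem' := by
    rintro a ⟨i, hi, ha⟩
    have hii := addN_lt i hi i hi
    refine ⟨addN i i, hii, ?_⟩
    rw [map_inv, ha]
    have h := List.all_eq_true.mp (List.all_eq_true.mp K4 i (List.mem_range.mpr hi)) (addN i i)
      (List.mem_range.mpr hii)
    rw [addN_inv i hi] at h
    have h2 := permOf_mul_of_tables (memOK_spec (tN_ok hi)).1 (memOK_spec (tN_ok hii)).1
      (memOK_spec (tN_ok (by norm_num : 0 < 9))).1 h
    rw [permOf_eq_one (memOK_spec (tN_ok (by norm_num : 0 < 9))).1 N3one] at h2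
    exact inv_eq_of_mul_eq_one_right h2.symm

theorem mem_N0 {h : ↥G0} : h ∈ N0 ↔ ∃ i < 9, val2 h = permOf (tN i) := Iff.rfl

theorem card_N0 : Nat.card ↥N0 = 9 := by
  have hbij : Function.Bijective (fun i : Fin 9 =>
      (⟨mk (tN i.val) (tN_ok i.isLt), ⟨i.val, i.isLt, rfl⟩⟩ : ↥N0)) := by
    constructor
    · intro i j hij
      have h1 : permOf (tN i.val) = permOf (tN j.val) := by
        have := congrArg (fun z : ↥N0 => val2 z.1) hij
        exact this
      have h2 := tabEq_of_permOf_eq (memOK_spec (tN_ok i.isLt)).1 (memOK_spec (tN_ok j.isLt)).1 h1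
      have h3 := List.all_eq_true.mp (List.all_eq_true.mp K7 i.val (List.mem_range.mpr i.isLt))
        j.val (List.mem_range.mpr j.isLt)
      rw [h2] at h3
      simp only [Bool.not_true, Bool.false_or, beq_iff_eq] at h3
      exact Fin.ext h3
    · rintro ⟨h, i, hi, e⟩
      refine ⟨⟨i, hi⟩, ?_⟩
      apply Subtype.ext
      apply val2_injective
      rw [val2_mk, e]
  rw [← Nat.card_eq_of_bijective _ hbij, Nat.card_fin]

theorem ψ_mem_N0 (x : X) (hx : ψ x ∈ N0) : x = 1 := by
  obtain ⟨i, hi, e⟩ := hx
  rw [val2_ψ] at e
  have h2 := tabEq_of_permOf_eq (memOK_spec (tK_ok x)).1 (memOK_spec (tN_ok hi)).1 e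
  have h3 := all_plain (all_guard K6 (code_lt x) (code_valid x)) hi
  rw [h2] at h3
  simp only [Bool.not_true, Bool.false_or, Bool.and_eq_true, beq_iff_eq] at h3
  apply code_injective
  rw [h3.1, code_one]

theorem ψ_conj_N0 (x : X) (m : ↥G0) (hm : m ∈ N0) : ψ x * m * (ψ x)⁻¹ ∈ N0 := by
  obtain ⟨i, hi, e⟩ := hm
  have hc := code_lt x
  have hl := actN_lt (code x) hc i hi
  refine ⟨actN (code x) i, hl, ?_⟩
  have h := all_plain (all_guard K5 hc (code_valid x)) hi
  have h2 := permOf_conj_of_tables (memOK_spec (tK_ok x)).1 (memOK_spec (tN_ok hi)).1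
    (memOK_spec (tN_ok hl)).1 h
  rw [map_mul, map_mul, map_inv, e, val2_ψ, h2, mul_assoc, mul_inv_cancel, mul_one]

/-! ### The order of the base group -/

theorem d0_mem : d0 ∈ dodecads := by
  rw [mem_dodecads_iff']
  exact ⟨dod0, by decide +kernel, rfl⟩

theorem card_G0 : Nat.card ↥G0 = 432 := by
  have hM := Cfsg.Agent.Helper7.card_stab_dodecad d0_mem
  have hos := Nat.card_congr (MulAction.orbitProdStabilizerEquivGroup
    ↥(MulAction.stabilizer Cfsg.M24 d0) Q0)
  rw [Nat.card_prod, hM] at hos
  have horb : MulAction.orbit ↥(MulAction.stabilizer Cfsg.M24 d0) Q0 = quartets d0 := by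
    ext Q
    constructor
    · rintro ⟨⟨⟨g, hg⟩, h1⟩, rfl⟩
      change g • d0 = d0 at h1
      change g • Q0 ∈ quartets d0
      have := (smul_mem_quartets hg d0 Q0).mpr qEntry_zero_mem
      rwa [h1] at this
    · intro hQ
      obtain ⟨g, hg, e⟩ := quartets_base_transitive hQ
      exact ⟨⟨⟨g, hg.1⟩, hg.2 dod0 (by simp)⟩, e⟩
  rw [horb, Nat.card_coe_set_eq, ncard_quartets_base] at hos
  have hequiv : ↥G0 ≃ ↥(MulAction.stabilizer ↥(MulAction.stabilizer Cfsg.M24 d0) Q0) :=
    { toFun := fun g => ⟨⟨g.1, g.2.1⟩, g.2.2⟩
      invFun := fun g => ⟨g.1.1, g.1.2, g.2⟩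
      left_inv := fun g => rfl
      right_inv := fun g => rfl }
  rw [Nat.card_congr hequiv]
  omega

theorem base_structure :
    ∃ (N : Subgroup ↥G0) (_ : N.Normal), Nat.card N = 9 ∧
      Nonempty (↥G0 ⧸ N ≃* GL (Fin 2) (ZMod 3)) := by
  have : Finite ↥G0 := Nat.finite_of_card_ne_zero (by rw [card_G0]; norm_num)
  obtain ⟨hN, hq⟩ := splitExt_of_card ψ N0 ψ_mem_N0 ψ_conj_N0
    (by rw [card_G0, card_N0, card_X])
  exact ⟨N0, hN, card_N0, hq⟩

/-! ### Transitivity on the base dodecad -/

theorem gensH_ok : ∀ g ∈ gensH, genOK [dod0] g = true := by decide +kernel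

def bitsD : List ℕ := [0, 2, 3, 12, 14, 15, 16, 18, 19, 20, 21, 22]

def norm5 (x : List ℕ) : List ℕ := sort4 (x.take 4) ++ x.drop 4

theorem point_cert :
    certCheckN gensH norm5 (fun _ => qEntry 0 ++ [2 ^ 0]) (fun b => qEntry 0 ++ [2 ^ b])
      bitsD wordsD = true := by
  decide +kernel

theorem bitsD_spec : ∀ i < 24, dod0.testBit i = true → i ∈ bitsD := by decide +kernel

theorem base_point_trans {p : GolayPt} (hp : p ∈ d0) :
    ∃ g ∈ M24, g • d0 = d0 ∧ g • Q0 = Q0 ∧ g (pt 0) = p := by
  have hi := idx_lt p
  have hb : idx p ∈ bitsD := bitsD_spec (idx p) hi (by rwa [mem_toFinset] at hp)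
  obtain ⟨x, hx, g, hg, e⟩ := certCheckN_spec gensH_ok norm5 _ _ _ _ point_cert (idx p) hb
  have hlen : x.length = 5 := by
    have := congrArg List.length e
    simpa [qEntry] using this
  have e1 : (x.take 4).map toFinset = (qEntry 0).map (fun m => g • toFinset m) := by
    rw [List.map_take, e, List.map_append, List.take_left' (by simp [qEntry])]
  have e2 : (x.drop 4).map toFinset = [2 ^ 0].map (fun m => g • toFinset m) := by
    rw [List.map_drop, e, List.map_append, List.drop_left' (by simp [qEntry])]
  unfold norm5 at hx
  have hs := List.append_inj hx (by simp [sort4, qEntry, hlen])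
  refine ⟨g, hg.1, hg.2 dod0 (by simp), ?_, ?_⟩
  · rw [← smul_toQ g _ _ e1, ← toQ_sort4, hs.1]
  · rw [hs.2] at e2
    simp only [List.map_cons, List.map_nil, List.cons.injEq, and_true] at e2
    have := apply_pt_of_smul (by norm_num) hi e2.symm
    rw [this, pt_idx]

/-! ### Transport to an arbitrary dodecad and quartet -/

/-- Conjugation by `k ∈ M24` identifies the stabiliser of `(k • d, k • Q)` with that of `(d, Q)`. -/
def conjEquiv {k : Equiv.Perm GolayPt} (hk : k ∈ M24) (d : Finset GolayPt)
    (Q : Finset (Finset GolayPt)) :
    ↥(MulAction.stabilizer Cfsg.M24 (k • d) ⊓ MulAction.stabilizer Cfsg.M24 (k • Q)) ≃*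
      ↥(MulAction.stabilizer Cfsg.M24 d ⊓ MulAction.stabilizer Cfsg.M24 Q) where
  toFun g := ⟨⟨k⁻¹ * g.1.1 * k, M24.mul_mem (M24.mul_mem (M24.inv_mem hk) g.1.2) hk⟩, by
    have h1 : g.1.1 • (k • d) = k • d := g.2.1
    have h2 : g.1.1 • (k • Q) = k • Q := g.2.2
    constructor
    · show (k⁻¹ * g.1.1 * k) • d = d
      rw [mul_smul, mul_smul, h1, inv_smul_smul]
    · show (k⁻¹ * g.1.1 * k) • Q = Q
      rw [mul_smul, mul_smul, h2, inv_smul_smul]⟩
  invFun g := ⟨⟨k * g.1.1 * k⁻¹, M24.mul_mem (M24.mul_mem hk g.1.2) (M24.inv_mem hk)⟩, by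
    have h1 : g.1.1 • d = d := g.2.1
    have h2 : g.1.1 • Q = Q := g.2.2
    constructor
    · show (k * g.1.1 * k⁻¹) • (k • d) = k • d
      rw [mul_smul, mul_smul, inv_smul_smul, h1]
    · show (k * g.1.1 * k⁻¹) • (k • Q) = k • Q
      rw [mul_smul, mul_smul, inv_smul_smul, h2]⟩
  left_inv g := by
    apply Subtype.ext
    apply Subtype.ext
    show k * (k⁻¹ * g.1.1 * k) * k⁻¹ = g.1.1
    group
  right_inv g := by
    apply Subtype.ext
    apply Subtype.ext
    show k⁻¹ * (k * g.1.1 * k⁻¹) * k = g.1.1
    group
  map_mul' a b := by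
    apply Subtype.ext
    apply Subtype.ext
    show k⁻¹ * (a.1.1 * b.1.1) * k = (k⁻¹ * a.1.1 * k) * (k⁻¹ * b.1.1 * k)
    group

theorem apply_mem_smul_iff (g : Equiv.Perm GolayPt) (s : Finset GolayPt) (x : GolayPt) :
    g x ∈ g • s ↔ x ∈ s := by
  rw [← Equiv.Perm.smul_def, Finset.smul_mem_smul_finset_iff]

/-- A quartet stabiliser inside the dodecad stabiliser has order 432, a normal subgroup of order 9 with quotient GL(2, 3), and is transitive on the dodecad. -/
theorem result (d : Finset Cfsg.GolayPt) (hd : d ∈ Cfsg.dodecads) (Q : Finset (Finset Cfsg.GolayPt)) (hQ : Q ∈ Cfsg.quartets d) : Nat.card ↥(MulAction.stabilizer Cfsg.M24 d ⊓ MulAction.stabilizer Cfsg.M24 Q) = 432 ∧ (∃ (N : Subgroup ↥(MulAction.stabilizer Cfsg.M24 d ⊓ MulAction.stabilizer Cfsg.M24 Q)) (_ : N.Normal), Nat.card N = 9 ∧ Nonempty (↥(MulAction.stabilizer Cfsg.M24 d ⊓ MulAction.stabilizer Cfsg.M24 Q) ⧸ N ≃* GL (Fin 2) (ZMod 3))) ∧ ∀ p ∈ d, ∀ q ∈ d, ∃ g ∈ (MulAction.stabilizer Cfsg.M24 d ⊓ MulAction.stabilizer Cfsg.M24 Q), ((g : ↥Cfsg.M24) : Equiv.Perm Cfsg.GolayPt) p = q := by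
  -- move to the base pair
  obtain ⟨h, hh, rfl⟩ := dodecads_transitive hd
  have hQ' : h⁻¹ • Q ∈ quartets (toFinset dod0) := by
    have := (smul_mem_quartets (M24.inv_mem hh) _ _).mpr hQ
    rwa [inv_smul_smul] at this
  obtain ⟨g1, hg1, e1⟩ := quartets_base_transitive hQ'
  have hk : h * g1 ∈ M24 := M24.mul_mem hh hg1.1
  have hd0 : (h * g1) • toFinset dod0 = h • toFinset dod0 := by
    rw [mul_smul, hg1.2 dod0 (by simp)]
  have hQ0 : (h * g1) • Q0 = Q := by
    rw [mul_smul, e1, smul_inv_smul]
  rw [← hd0, ← hQ0]
  generalize h * g1 = k at hk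
  refine ⟨?_, ?_, ?_⟩
  · rw [Nat.card_congr (conjEquiv hk d0 Q0).toEquiv]
    exact card_G0
  · exact exists_normal_quotient_of_mulEquiv (conjEquiv hk d0 Q0) 9 base_structure
  · intro p hp q hq
    have hp' : k⁻¹ p ∈ d0 := by
      have := (apply_mem_smul_iff k⁻¹ (k • d0) p).mpr hp
      rwa [inv_smul_smul] at this
    have hq' : k⁻¹ q ∈ d0 := by
      have := (apply_mem_smul_iff k⁻¹ (k • d0) q).mpr hq
      rwa [inv_smul_smul] at this
    obtain ⟨a, ha, a1, a2, a3⟩ := base_point_trans hp'
    obtain ⟨b, hb, b1, b2, b3⟩ := base_point_trans hq'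
    have hmem : k * (b * a⁻¹) * k⁻¹ ∈ M24 :=
      M24.mul_mem (M24.mul_mem hk (M24.mul_mem hb (M24.inv_mem ha))) (M24.inv_mem hk)
    have ha1 : a⁻¹ • d0 = d0 := by rw [inv_smul_eq_iff, a1]
    have ha2 : a⁻¹ • Q0 = Q0 := by rw [inv_smul_eq_iff, a2]
    refine ⟨⟨k * (b * a⁻¹) * k⁻¹, hmem⟩, ⟨?_, ?_⟩, ?_⟩
    · show (k * (b * a⁻¹) * k⁻¹) • (k • d0) = k • d0
      rw [mul_smul, mul_smul, mul_smul, inv_smul_smul, ha1, b1]
    · show (k * (b * a⁻¹) * k⁻¹) • (k • Q0) = k • Q0
      rw [mul_smul, mul_smul, mul_smul, inv_smul_smul, ha2, b2]
    · show (k * (b * a⁻¹) * k⁻¹) p = q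
      simp only [Equiv.Perm.coe_mul, Function.comp]
      have : a⁻¹ (k⁻¹ p) = pt 0 := by rw [← a3]; simp
      rw [this, b3]
      simp

end Cfsg.Agent.S1598
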