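import Cfsg.Statements.S1599
import Mathlib
import Cfsg.Agent.Lib.Helper27.QuartetOrbits

set_option autoImplicit false
set_option maxRecDepth 1000000
open scoped Pointwise
open Cfsg

namespace Cfsg.Agent.S1599

open Cfsg.Agent.Helper27

/-- Generators (with inverses) of the stabiliser of the base dodecad and the base quartet. -/
def gensH : List (ℕ × ℕ) :=
  [(236914375244611743992094391981313218, 569228853824742727731408511705350499),
   (569228853824742727731408511705350499, 236914375244611743992094391981313218),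
   (41681202474007895901447824175911118, 268176689151236571474650160451732214),
   (268176689151236571474650160451732214, 41681202474007895901447824175911118)]

theorem gensH_ok : ∀ g ∈ gensH, genOK [dod0] g = true := by decide +kernel

/-- For each listed quartet, the index of the representative of its orbit. -/
def repTbl : List ℕ :=
  [0, 1, 1, 1, 4, 5, 6, 5, 6, 4, 5, 5, 4, 5, 6, 5, 5, 6, 5, 4, 4, 6, 5, 5, 5, 6, 5, 4, 6, 6, 6, 5,
   5, 6, 6, 6, 6, 6, 1, 6, 4, 5, 6, 5, 6, 4, 5, 5, 4, 5, 5, 6, 6, 4, 5, 5, 4, 6, 5, 5, 6, 4, 5, 5,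
   6, 1, 6, 6, 5, 6, 6, 6, 6, 6, 6, 5, 4, 6, 5, 5, 5, 6, 4, 5, 6, 5, 5, 5, 4, 5, 6, 6, 6, 1, 5, 6,
   6, 6, 6, 5, 6, 5, 6, 6, 6, 1, 6, 6, 5, 6, 6, 5, 6, 6, 5, 6, 6, 5, 6, 6, 6, 6, 6, 1, 6, 5, 5, 5,
   6, 6, 6, 5, 5, 5, 5, 6, 5, 6, 5, 6, 5, 5, 6, 5, 6, 6, 6, 1, 6, 6, 6, 6, 5, 6, 4, 5, 6, 5, 5, 6,
   5, 5, 6, 1, 1, 5, 6, 4, 6, 6, 6, 6, 1, 6, 6, 6, 4, 6, 5, 6, 6, 5, 4, 6, 5, 4, 5, 6, 4, 5, 6, 6,
   6, 4, 4, 6, 6, 6, 6, 5, 6, 4, 4, 6, 6, 6, 6, 6, 5, 5, 6, 6, 6, 6, 5, 6, 5, 4, 4, 6]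

def rep (k : ℕ) : ℕ := repTbl.getD k 0

def orbWords : List (List ℕ) :=
  [[], [], [0], [1], [], [], [], [2,0,3,0,2,0], [0,3,1,2,0], [0,2,1,1], [0,3,1,2,0], [1,1,2],
   [1,2], [3,0,0], [0,0,2,1,1,3], [2,0,3,1,2,1], [1,3,1,2], [0,0,0], [2,0], [0,0,0], [0,0,3],
   [1,3,0,0,2], [3,0,3,1,2], [0,2,0,3], [3,1], [0,3,0,2], [0,3,0,2], [3], [3,1], [3,0,0], [0,3,1],
   [1,2,0], [1,3,0,3,1], [0,0,3,0], [0,0,3,1,1], [0,3,0], [0,3,0,3], [0,0,0,2,1], [1,3], [3,0,2,0],
   [3,1], [0,3,0,2,1], [3,0,0,2], [3,1,1], [0,0], [0,0], [2], [1,3,1,2,1], [0,2], [1,3,0,2,0],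
   [1,1,3], [2,0,0,3], [0,0,0,2,1,2], [1,1], [1,3,1,1], [0,2,0,2,0], [3,0], [2,0,3], [3,1,3,1],
   [2,0,3], [1,2,0,2], [0,0,3,0], [3,0,3,1], [0,3,0,0], [0,2], [0,3], [1,1,3,0,2], [0,3,1,3,1],
   [0,2,1], [1,3,0], [2,1,1,2], [1,1,3,0], [3,0,0,0], [2,0,0,2], [1,2,0,0,2], [0,3,1,3], [1,3],
   [1,1,2,0], [1,1,2,0], [0,3,1,2], [0,2], [3,1,2,0], [1,1,2,1], [3,0,3,1,3], [3,0,0,0,2],
   [1,3,1,3], [0,2,0,0], [0,3,0,3], [0,0,2], [0,2,1,1], [3,1,2,1], [0,3,1,2], [0,2,0,3], [2],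
   [2,0,3,0,2], [3,1,3], [0,0,0,2], [1,1,2], [3,0,0,0,3], [3,0], [2], [1,1], [0,0,2,0],
   [0,0,0,2,0], [2,1,1,3], [2,1], [0,0,3], [0,0,2,1,1], [0,3,1,2,1], [1,2,0], [2,0], [2,0,3,1],
   [0], [2,1,3,1,3], [3,1,3,1,2], [0,2,0,3,1], [0,0,3,0,3], [3,0,0,0], [0,0,3,1,3], [0,2,0,0],
   [2,0,0], [1,3,0,2], [1,1,2,1], [0,2], [0,2,0], [1,3,0,3], [0,2,0], [0,2,0,2], [3,0,2,1],
   [1,2,0,0,3], [3,1,1,2], [3,0,0,3], [3], [0,3,0,2,0], [1,3,1,2,0], [1,1], [2,0,3,0], [2,1,3],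
   [0,3], [0,2,0,2], [1,3,0], [3,0,3], [1,2,1,2], [0,3,0], [1,1,3,1], [1,3,1,1], [3,1,1], [3],
   [0,3,1,3], [1,1,3,0,0], [1,3,0,0], [2,1,1,2,0], [0,2,0,2,0,2], [3,1,1,3,0], [1,1,2], [0,3,1],
   [3,1,3,0], [0,2,1,1,2], [3,1,3], [0,2,1,2], [1,3,1], [1,3], [2,0,0,0,3], [0,2,0], [2,0], [0],
   [2,1], [0,3], [0,2,1,1], [2,1,1], [0,2,0,2,0], [3,0], [1,2], [3,0,0,3], [2,1,2,0], [2,0,3,1],
   [0,2,1], [0,2,1], [1,3,0,3,0], [1,3], [2,1,3,0], [2,0,2], [2,0,2], [2,0,2], [1,3,0,2], [1,2,0],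
   [2,0,3,1,2], [0,2,0,0,3], [0], [1,3,1,3,1], [3,1,2], [1,3,1], [3,0,3], [1], [1,2,1], [0,0,2],
   [1,1,3], [2,0,0,2,1], [1,2,0,0], [1], [2,0,0,0], [2], [2,0], [1,2,1], [0,0,2,1], [3,1,1,3],
   [3,0,2], [1,2], [1,2], [0,3,0,3,0], [2,1,3,1], [2,1,2], [3], [0,3], [1,2,1], [0,0,3,1],
   [1,1,2,1], [1,3,0], [3,1,2], [1]]

def norm8 (x : List ℕ) : List ℕ := sort4 (x.take 4) ++ sort4 (x.drop 4)

theorem orbit_cert :
    certCheckN gensH norm8 (fun k => qEntry 0 ++ qEntry (rep k)) (fun k => qEntry 0 ++ qEntry k)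
      (List.range 220) orbWords = true := by
  decide +kernel

/-- The `k`-th listed quartet. -/
def qOf (k : ℕ) : Finset (Finset GolayPt) := toQ (qEntry k)

theorem qEntry_mem {k : ℕ} (hk : k < 220) : qEntry k ∈ quartetList := by
  unfold quartetList
  exact List.mem_map.mpr ⟨k, List.mem_range.mpr hk, rfl⟩

theorem qOf_mem {k : ℕ} (hk : k < 220) : qOf k ∈ quartets (toFinset dod0) :=
  quartet_valid (qEntry_mem hk)

theorem exists_qOf {X : Finset (Finset GolayPt)} (hX : X ∈ quartets (toFinset dod0)) :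
    ∃ k < 220, X = qOf k := by
  obtain ⟨c, hc, rfl⟩ := mem_quartets_base.mp hX
  unfold quartetList at hc
  obtain ⟨k, hk, rfl⟩ := List.mem_map.mp hc
  exact ⟨k, List.mem_range.mp hk, rfl⟩

theorem qOf_inj {k k' : ℕ} (hk : k < 220) (hk' : k' < 220) (h : qOf k = qOf k') : k = k' := by
  have h1 := toQ_injOn (qEntry_mem hk) (qEntry_mem hk') h
  have hnd : ((List.range 220).map qEntry).Nodup := quartetList_nodup
  exact List.inj_on_of_nodup_map hnd (List.mem_range.mpr hk) (List.mem_range.mpr hk') h1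

/-- Each listed quartet lies in the orbit of its representative. -/
theorem mem_orbSet_rep {k : ℕ} (hk : k < 220) :
    qOf k ∈ orbSet (toFinset dod0) (qOf 0) (qOf (rep k)) := by
  obtain ⟨x, hx, g, hg, e⟩ :=
    certCheckN_spec gensH_ok norm8 _ _ _ _ orbit_cert k (List.mem_range.mpr hk)
  have hlen : x.length = 8 := by
    have := congrArg List.length e
    simpa [qEntry] using this
  have e1 : (x.take 4).map toFinset = (qEntry 0).map (fun m => g • toFinset m) := by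
    rw [List.map_take, e, List.map_append, List.take_left' (by simp [qEntry])]
  have e2 : (x.drop 4).map toFinset = (qEntry (rep k)).map (fun m => g • toFinset m) := by
    rw [List.map_drop, e, List.map_append, List.drop_left' (by simp [qEntry])]
  unfold norm8 at hx
  have hs := List.append_inj hx (by simp [sort4, qEntry, hlen])
  refine ⟨g, hg.1, hg.2 dod0 (by simp), ?_, ?_⟩
  · unfold qOf
    rw [← smul_toQ g _ _ e1, ← toQ_sort4, hs.1]
  · unfold qOf
    rw [← smul_toQ g _ _ e2, ← toQ_sort4, hs.2]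

/-! ### The separating invariant -/

def patOf (k : ℕ) : ℕ := patL (qEntry 0) (qEntry k)

theorem pat_table :
    (List.range 220).all (fun k => patOf k == patOf (rep k) &&
      decide (rep k ∈ [0, 1, 4, 5, 6])) = true := by
  decide +kernel

theorem pat_reps : patOf 0 = 4012 ∧ patOf 1 = 1096 ∧ patOf 4 = 448 ∧ patOf 5 = 367 ∧
    patOf 6 = 205 := by
  decide +kernel

theorem pat_rep {k : ℕ} (hk : k < 220) : patOf k = patOf (rep k) ∧ rep k ∈ [0, 1, 4, 5, 6] := by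
  have := List.all_eq_true.mp pat_table k (List.mem_range.mpr hk)
  simpa using this

theorem rep_eq_of_pat {i j : ℕ} (hi : i ∈ [0, 1, 4, 5, 6]) (hj : j ∈ [0, 1, 4, 5, 6])
    (h : patOf i = patOf j) : i = j := by
  obtain ⟨h0, h1, h4, h5, h6⟩ := pat_reps
  simp only [List.mem_cons, List.not_mem_nil, or_false] at hi hj
  rcases hi with rfl | rfl | rfl | rfl | rfl <;> rcases hj with rfl | rfl | rfl | rfl | rfl <;>
    first | rfl | (exfalso; omega)

theorem map_toFinset_nodup {k : ℕ} (hk : k < 220) : ((qEntry k).map toFinset).Nodup := by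
  obtain ⟨hs, hlt⟩ := quartetList_sorted (qEntry_mem hk)
  have hnd : (qEntry k).Nodup := hs.imp (fun h => Nat.ne_of_lt h)
  exact List.Nodup.map_on (fun a ha b hb e => toFinset_inj (hlt a ha) (hlt b hb) e) hnd

theorem pat_qOf {k : ℕ} (hk : k < 220) : pat (qOf 0) (qOf k) = patOf k :=
  pat_toQ (map_toFinset_nodup (by norm_num)) (map_toFinset_nodup hk)

theorem pat_of_mem_orbSet {X Y : Finset (Finset GolayPt)}
    (h : Y ∈ orbSet (toFinset dod0) (qOf 0) X) : pat (qOf 0) Y = pat (qOf 0) X := by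
  obtain ⟨g, _, _, h2, rfl⟩ := h
  conv_lhs => rw [← h2]
  exact pat_smul g _ _

theorem orbSet_subset {X : Finset (Finset GolayPt)} (hX : X ∈ quartets (toFinset dod0)) :
    orbSet (toFinset dod0) (qOf 0) X ⊆ quartets (toFinset dod0) := by
  rintro Y ⟨g, hg, h1, _, rfl⟩
  have := (smul_mem_quartets hg (toFinset dod0) X).mpr hX
  rwa [h1] at this

/-- The class of indices with a given representative. -/
def cls (i : ℕ) : Finset ℕ := (Finset.range 220).filter (fun k => rep k = i)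

theorem orbSet_eq {i : ℕ} (hi : i ∈ [0, 1, 4, 5, 6]) :
    orbSet (toFinset dod0) (qOf 0) (qOf i) = qOf '' (↑(cls i) : Set ℕ) := by
  have hi220 : i < 220 := by
    simp only [List.mem_cons, List.not_mem_nil, or_false] at hi
    omega
  ext Y
  constructor
  · intro hY
    obtain ⟨k, hk, rfl⟩ := exists_qOf (orbSet_subset (qOf_mem hi220) hY)
    refine ⟨k, ?_, rfl⟩
    have hp := pat_of_mem_orbSet hY
    rw [pat_qOf hk, pat_qOf hi220] at hp
    obtain ⟨h1, h2⟩ := pat_rep hk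
    have : rep k = i := rep_eq_of_pat h2 hi (by rw [← h1, hp])
    simp only [cls, Finset.coe_filter, Finset.mem_range, Set.mem_setOf_eq]
    exact ⟨hk, this⟩
  · rintro ⟨k, hk, rfl⟩
    simp only [cls, Finset.coe_filter, Finset.mem_range, Set.mem_setOf_eq] at hk
    have := mem_orbSet_rep hk.1
    rwa [hk.2] at this

theorem cls_card : (cls 1).card = 12 ∧ (cls 4).card = 27 ∧ (cls 5).card = 72 ∧
    (cls 6).card = 108 := by
  decide +kernel

theorem ncard_orbSet {i : ℕ} (hi : i ∈ [0, 1, 4, 5, 6]) :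
    (orbSet (toFinset dod0) (qOf 0) (qOf i)).ncard = (cls i).card := by
  rw [orbSet_eq hi, Set.InjOn.ncard_image, Set.ncard_coe_finset]
  intro a ha b hb hab
  simp only [cls, Finset.coe_filter, Finset.mem_range, Set.mem_setOf_eq] at ha hb
  exact qOf_inj ha.1 hb.1 hab

theorem base_union : quartets (toFinset dod0) =
    {qOf 0} ∪ orbSet (toFinset dod0) (qOf 0) (qOf 1) ∪ orbSet (toFinset dod0) (qOf 0) (qOf 4) ∪
      orbSet (toFinset dod0) (qOf 0) (qOf 5) ∪ orbSet (toFinset dod0) (qOf 0) (qOf 6) := by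
  apply Set.Subset.antisymm
  · intro X hX
    obtain ⟨k, hk, rfl⟩ := exists_qOf hX
    obtain ⟨_, h2⟩ := pat_rep hk
    have hm := mem_orbSet_rep hk
    simp only [List.mem_cons, List.not_mem_nil, or_false] at h2
    simp only [Set.mem_union, Set.mem_singleton_iff]
    rcases h2 with h | h | h | h | h <;> rw [h] at hm
    · obtain ⟨g, _, _, e1, e2⟩ := hm
      left; left; left; left
      rw [← e2, e1]
    · left; left; left; right; exact hm
    · left; left; right; exact hm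
    · left; right; exact hm
    · right; exact hm
  · intro X hX
    simp only [Set.mem_union, Set.mem_singleton_iff] at hX
    rcases hX with (((rfl | h) | h) | h) | h
    · exact qOf_mem (by norm_num)
    · exact orbSet_subset (qOf_mem (by norm_num)) h
    · exact orbSet_subset (qOf_mem (by norm_num)) h
    · exact orbSet_subset (qOf_mem (by norm_num)) h
    · exact orbSet_subset (qOf_mem (by norm_num)) h

/-- A quartet stabiliser has five orbits on the quartets of its dodecad, of sizes 1, 12, 27, 72, 108. -/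
theorem result (d : Finset Cfsg.GolayPt) (hd : d ∈ Cfsg.dodecads) (Q : Finset (Finset Cfsg.GolayPt)) (hQ : Q ∈ Cfsg.quartets d) : ∃ X₁ ∈ Cfsg.quartets d, ∃ X₂ ∈ Cfsg.quartets d, ∃ X₃ ∈ Cfsg.quartets d, ∃ X₄ ∈ Cfsg.quartets d, (MulAction.orbit ↥(MulAction.stabilizer Cfsg.M24 d ⊓ MulAction.stabilizer Cfsg.M24 Q) X₁).ncard = 12 ∧ (MulAction.orbit ↥(MulAction.stabilizer Cfsg.M24 d ⊓ MulAction.stabilizer Cfsg.M24 Q) X₂).ncard = 27 ∧ (MulAction.orbit ↥(MulAction.stabilizer Cfsg.M24 d ⊓ MulAction.stabilizer Cfsg.M24 Q) X₃).ncard = 72 ∧ (MulAction.orbit ↥(MulAction.stabilizer Cfsg.M24 d ⊓ MulAction.stabilizer Cfsg.M24 Q) X₄).ncard = 108 ∧ Cfsg.quartets d = {Q} ∪ MulAction.orbit ↥(MulAction.stabilizer Cfsg.M24 d ⊓ MulAction.stabilizer Cfsg.M24 Q) X₁ ∪ MulAction.orbit ↥(MulAction.stabilizer Cfsg.M24 d ⊓ MulAction.stabilizer Cfsg.M24 Q) X₂ ∪ MulAction.orbit ↥(MulAction.stabilizer Cfsg.M24 d ⊓ MulAction.stabilizer Cfsg.M24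 Q) X₃ ∪ MulAction.orbit ↥(MulAction.stabilizer Cfsg.M24 d ⊓ MulAction.stabilizer Cfsg.M24 Q) X₄ := by
  -- move to the base pair
  obtain ⟨h, hh, rfl⟩ := dodecads_transitive hd
  have hQ' : h⁻¹ • Q ∈ quartets (toFinset dod0) := by
    have := (smul_mem_quartets (M24.inv_mem hh) _ _).mpr hQ
    rwa [inv_smul_smul] at this
  obtain ⟨g1, hg1, e1⟩ := quartets_base_transitive hQ'
  have hk : h * g1 ∈ M24 := M24.mul_mem hh hg1.1
  have hd0 : (h * g1) • toFinset dod0 = h • toFinset dod0 := by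
    rw [mul_smul, hg1.2 dod0 (by simp)]
  have hQ0 : (h * g1) • qOf 0 = Q := by
    unfold qOf
    rw [mul_smul, e1, smul_inv_smul]
  rw [← hd0, ← hQ0]
  generalize h * g1 = k at hk
  simp only [orbit_eq_orbSet]
  have hmem : ∀ {i : ℕ}, i < 220 → k • qOf i ∈ quartets (k • toFinset dod0) := fun hi =>
    (smul_mem_quartets hk _ _).mpr (qOf_mem hi)
  obtain ⟨c1, c4, c5, c6⟩ := cls_card
  refine ⟨k • qOf 1, hmem (by norm_num), k • qOf 4, hmem (by norm_num), k • qOf 5,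
    hmem (by norm_num), k • qOf 6, hmem (by norm_num), ?_, ?_, ?_, ?_, ?_⟩
  · rw [orbSet_conj hk, Set.ncard_image_of_injective _ (MulAction.injective k),
      ncard_orbSet (by simp), c1]
  · rw [orbSet_conj hk, Set.ncard_image_of_injective _ (MulAction.injective k),
      ncard_orbSet (by simp), c4]
  · rw [orbSet_conj hk, Set.ncard_image_of_injective _ (MulAction.injective k),
      ncard_orbSet (by simp), c5]
  · rw [orbSet_conj hk, Set.ncard_image_of_injective _ (MulAction.injective k),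
      ncard_orbSet (by simp), c6]
  · rw [quartets_smul hk, base_union, orbSet_conj hk, orbSet_conj hk, orbSet_conj hk,
      orbSet_conj hk]
    simp only [Set.image_union, Set.image_singleton]

end Cfsg.Agent.S1599
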