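import Cfsg.Statements.S1600
import Mathlib
import Cfsg.Agent.Lib.Helper27.Pairs
import Cfsg.Agent.Lib.Helper7.M12

set_option autoImplicit false
set_option maxRecDepth 1000000
open scoped Pointwise
open Cfsg

namespace Cfsg.Agent.S1600

open Cfsg.Agent.Helper27

/-- Generators (with inverses) of the stabiliser of the base dodecad and of its points
`pt 0`, `pt 2`, `pt 3`. -/
def gensK : List (ℕ × ℕ) :=
  [(400479483171447487436579676521335136, 309578801368457449753053183689722016),
   (309578801368457449753053183689722016, 400479483171447487436579676521335136),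
   (65491451683321396129510387921029312, 351234792836758687225904649378826976),
   (351234792836758687225904649378826976, 65491451683321396129510387921029312)]

theorem gensK_ok : ∀ g ∈ gensK, genOK [dod0, 2 ^ 0, 2 ^ 2, 2 ^ 3] g = true := by decide +kernel

/-- The indices of the points outside the base dodecad. -/
def compList : List ℕ := [1, 4, 5, 6, 7, 8, 9, 10, 11, 13, 17, 23]

def wordsK : List (List ℕ) :=
  [[], [0,2,2], [1], [2], [0,2], [0,0], [1,2], [0,2,1], [0], [0,2,1,2], [0,3], [3]]

theorem comp_cert :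
    certCheck gensK (fun _ => [2 ^ 1]) (fun f => [2 ^ f]) compList wordsK = true := by
  decide +kernel

theorem compList_spec : ∀ i < 24, dod0.testBit i = false → i ∈ compList := by decide +kernel

theorem compList_lt : ∀ i ∈ compList, i < 24 := by decide

/-- Base case: the stabiliser of the base dodecad and three of its points moves `pt 1` to any
point outside the dodecad. -/
theorem base_trans {x : GolayPt} (hx : x ∉ toFinset dod0) :
    ∃ g ∈ stabOf [dod0, 2 ^ 0, 2 ^ 2, 2 ^ 3], g (pt 1) = x := by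
  have hi := idx_lt x
  have hx' : dod0.testBit (idx x) = false := by
    rw [mem_toFinset] at hx
    simpa using hx
  have hmem := compList_spec (idx x) hi hx'
  obtain ⟨g, hg, e⟩ := reach_single (certCheck_spec gensK_ok _ _ _ _ comp_cert (idx x) hmem)
  refine ⟨g, hg, ?_⟩
  have := apply_pt_of_smul (by norm_num) hi e
  rw [this, pt_idx]

theorem dod0_mem : toFinset dod0 ∈ dodecads := by
  rw [mem_dodecads_iff']
  exact ⟨dod0, by decide +kernel, rfl⟩

theorem pt0_mem : pt 0 ∈ toFinset dod0 := by rw [pt_mem_toFinset (by norm_num)]; decide +kernel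
theorem pt2_mem : pt 2 ∈ toFinset dod0 := by rw [pt_mem_toFinset (by norm_num)]; decide +kernel
theorem pt3_mem : pt 3 ∈ toFinset dod0 := by rw [pt_mem_toFinset (by norm_num)]; decide +kernel

theorem smul_mem_smul_iff' (g : Equiv.Perm GolayPt) (s : Finset GolayPt) (x : GolayPt) :
    g x ∈ g • s ↔ x ∈ s := by
  rw [← Equiv.Perm.smul_def, Finset.smul_mem_smul_finset_iff]

/-- The subgroup in the statement corresponds to a pointwise stabiliser in `setStab d`. -/
theorem map_eq (d : Finset GolayPt) (p q r : GolayPt) :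
    (MulAction.stabilizer Cfsg.M24 d ⊓ MulAction.stabilizer Cfsg.M24 p ⊓
      MulAction.stabilizer Cfsg.M24 q ⊓ MulAction.stabilizer Cfsg.M24 r).map M24.subtype =
      Cfsg.Agent.Helper7.stabL (Cfsg.Agent.Helper7.setStab d) [p, q, r] := by
  ext g
  rw [Subgroup.mem_map, Cfsg.Agent.Helper7.mem_stabL, Cfsg.Agent.Helper7.mem_setStab]
  constructor
  · rintro ⟨⟨g, hg⟩, ⟨⟨⟨h1, h2⟩, h3⟩, h4⟩, rfl⟩
    refine ⟨⟨hg, h1⟩, ?_⟩
    intro b hb
    simp only [List.mem_cons, List.not_mem_nil, or_false] at hb
    rcases hb with rfl | rfl | rfl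
    · exact h2
    · exact h3
    · exact h4
  · rintro ⟨⟨hg, h1⟩, h2⟩
    exact ⟨⟨g, hg⟩, ⟨⟨⟨h1, h2 p (by simp)⟩, h2 q (by simp)⟩, h2 r (by simp)⟩, rfl⟩

/-- The pointwise stabiliser of three points of a dodecad inside the dodecad stabiliser (order 72) is transitive on the complementary dodecad. -/
theorem result (d : Finset Cfsg.GolayPt) (hd : d ∈ Cfsg.dodecads) (p q r : Cfsg.GolayPt) (hp : p ∈ d) (hq : q ∈ d) (hr : r ∈ d) (hpq : p ≠ q) (hpr : p ≠ r) (hqr : q ≠ r) : Nat.card ↥(MulAction.stabilizer Cfsg.M24 d ⊓ MulAction.stabilizer Cfsg.M24 p ⊓ MulAction.stabilizer Cfsg.M24 q ⊓ MulAction.stabilizer Cfsg.M24 r) = 72 ∧ ∀ x ∉ d, ∀ y ∉ d, ∃ g ∈ (MulAction.stabilizer Cfsg.M24 d ⊓ MulAction.stabilizer Cfsg.M24 p ⊓ MulAction.stabilizer Cfsg.M24 q ⊓ MulAction.stabilizer Cfsg.M24 r), ((g : ↥Cfsg.M24) : Equiv.Perm Cfsg.GolayPt) x = y := by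
  constructor
  · have h := Cfsg.Agent.Helper7.card_m12_stabL hd [p, q, r] (by simp [hpq, hpr, hqr])
      (by simp [hp, hq, hr]) (by simp)
    rw [← map_eq, Cfsg.Agent.Helper7.card_map_subtype] at h
    simp only [List.length_cons, List.length_nil] at h
    have h2 : Nat.descFactorial 12 3 = 1320 := by decide
    rw [show (0 + 1 + 1 + 1 : ℕ) = 3 from rfl, h2] at h
    omega
  · -- transport to the base configuration
    obtain ⟨h, hh, rfl⟩ := dodecads_transitive hd
    obtain ⟨g0, hg0, hmap⟩ := Cfsg.Agent.Helper7.m12_five_trans hd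
      [h (pt 0), h (pt 2), h (pt 3)] [p, q, r]
      (by
        have h02 : pt 0 ≠ pt 2 := fun e => absurd (pt_injective (by norm_num) (by norm_num) e) (by norm_num)
        have h03 : pt 0 ≠ pt 3 := fun e => absurd (pt_injective (by norm_num) (by norm_num) e) (by norm_num)
        have h23 : pt 2 ≠ pt 3 := fun e => absurd (pt_injective (by norm_num) (by norm_num) e) (by norm_num)
        simp [h02, h03, h23])
      (by simp [hpq, hpr, hqr])
      (by
        intro x hx
        simp only [List.mem_cons, List.not_mem_nil, or_false] at hx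
        rcases hx with rfl | rfl | rfl
        · exact (smul_mem_smul_iff' h _ _).mpr pt0_mem
        · exact (smul_mem_smul_iff' h _ _).mpr pt2_mem
        · exact (smul_mem_smul_iff' h _ _).mpr pt3_mem)
      (by simp [hp, hq, hr]) rfl (by simp)
    rw [Cfsg.Agent.Helper7.mem_setStab] at hg0
    simp only [List.map_cons, List.map_nil, List.cons.injEq, and_true] at hmap
    obtain ⟨ep, eq, er⟩ := hmap
    -- the combined element
    have hk : g0 * h ∈ M24 := M24.mul_mem hg0.1 hh
    have hkd : (g0 * h) • toFinset dod0 = h • toFinset dod0 := by rw [mul_smul, hg0.2]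
    have hkp : (g0 * h) (pt 0) = p := by simpa using ep
    have hkq : (g0 * h) (pt 2) = q := by simpa using eq
    have hkr : (g0 * h) (pt 3) = r := by simpa using er
    rw [← hkd, ← hkp, ← hkq, ← hkr]
    generalize g0 * h = k at hk
    intro x hx y hy
    have hx' : k⁻¹ x ∉ toFinset dod0 := by
      intro hmem
      apply hx
      have := (smul_mem_smul_iff' k _ _).mpr hmem
      simpa using this
    have hy' : k⁻¹ y ∉ toFinset dod0 := by
      intro hmem
      apply hy
      have := (smul_mem_smul_iff' k _ _).mpr hmem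
      simpa using this
    obtain ⟨g1, hg1, e1⟩ := base_trans hx'
    obtain ⟨g2, hg2, e2⟩ := base_trans hy'
    have hg : g2 * g1⁻¹ ∈ stabOf [dod0, 2 ^ 0, 2 ^ 2, 2 ^ 3] :=
      (stabOf _).mul_mem hg2 ((stabOf _).inv_mem hg1)
    refine ⟨⟨k * (g2 * g1⁻¹) * k⁻¹, conj_mem_M24 hk hg⟩, ⟨⟨⟨?_, ?_⟩, ?_⟩, ?_⟩, ?_⟩
    · exact conj_fix hg (by simp)
    · exact conj_fix_pt hg (by norm_num) (by simp)
    · exact conj_fix_pt hg (by norm_num) (by simp)
    · exact conj_fix_pt hg (by norm_num) (by simp)
    · change (k * (g2 * g1⁻¹) * k⁻¹) x = y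
      simp only [Equiv.Perm.coe_mul, Function.comp]
      have : g1⁻¹ (k⁻¹ x) = pt 1 := by rw [← e1]; simp
      rw [this, e2]
      simp

end Cfsg.Agent.S1600
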