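import Cfsg.Statements.S1602
import Mathlib
import Cfsg.Agent.Lib.Helper27.Duads
import Cfsg.Agent.Lib.Helper27.Subs
import Cfsg.Agent.Lib.Helper27.FaithfulSym
import Cfsg.Agent.Lib.Helper7.M12

set_option autoImplicit false
set_option maxRecDepth 1000000
open scoped Pointwise
open Cfsg

namespace Cfsg.Agent.S1602

open Cfsg.Agent.Helper27

/-- Generators (with inverses) of the stabiliser of the base dodecad and of its point `pt 0`. -/
def gensM : List (ℕ × ℕ) :=
  [(475975684706018166880916999474925984, 483738772164269899536165094603372832),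
   (483738772164269899536165094603372832, 475975684706018166880916999474925984),
   (232500685486104406373082207318262112, 274399080923777053937793046350040608),
   (274399080923777053937793046350040608, 232500685486104406373082207318262112)]

theorem gensM_ok : ∀ g ∈ gensM, genOK [dod0, 2 ^ 0] g = true := by decide +kernel

/-- The masks of the 66 pairs of points outside the base dodecad. -/
def pairList : List ℕ :=
  [18, 34, 66, 130, 258, 514, 1026, 2050, 8194, 131074, 8388610, 48, 80, 144, 272, 528, 1040, 2064,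
   8208, 131088, 8388624, 96, 160, 288, 544, 1056, 2080, 8224, 131104, 8388640, 192, 320, 576,
   1088, 2112, 8256, 131136, 8388672, 384, 640, 1152, 2176, 8320, 131200, 8388736, 768, 1280, 2304,
   8448, 131328, 8388864, 1536, 2560, 8704, 131584, 8389120, 3072, 9216, 132096, 8389632, 10240,
   133120, 8390656, 139264, 8396800, 8519680]

def wordsM : List (List ℕ) :=
  [[], [3,3,1,2], [3,0,2,1], [3,1], [2,2,1,2], [1,2], [0,2,0,3], [0,2,1,3], [1,2,0], [0,2,1,2],
   [2,1], [3,0], [2,2,0], [0,2,2,2], [3,0,2,2], [3,1,3,0], [0,3], [3,3], [0,2,1,2,0], [2,2], [0,2],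
   [0,2,0,0,3], [0,0], [0,2,0,0,2], [1,2,1], [0,3,3,0], [2,1,2], [0,2,2], [3,1,3], [2,0],
   [2,2,0,0], [0,3,0], [3,0,0], [0,0,2,1], [0,2,0], [0], [2,1,3], [2,0,3], [0,0,2], [1,2,1,2],
   [0,3,0,0], [0,3,1,3], [3,0,2], [2,2,1], [0,2,0,0], [0,2,0,3,1], [0,0,2,2], [3,1,2], [0,3,3],
   [0,3,1], [0,3,3,0,3], [3,0,0,3], [1,3], [3,1,3,0,2], [1], [1,2,1,3], [2,1,3,3], [2,2,0,3],
   [0,0,2,0], [0,3,0,2], [2], [0,2,1], [3,1,3,3], [3], [3,0,3], [3,3,1]]

theorem pair_cert :
    certCheck gensM (fun _ => [18]) (fun m => [m]) pairList wordsM = true := by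
  decide +kernel

theorem pairList_spec :
    duadList.all (fun m => (pop (m &&& dod0) != 0) || pairList.contains m) = true := by
  decide +kernel

/-- Base case: transitivity on the pairs outside the base dodecad. -/
theorem base_pairs {s : Finset GolayPt} (hs : s.card = 2) (hdis : Disjoint s (toFinset dod0)) :
    ∃ g ∈ stabOf [dod0, 2 ^ 0], g • toFinset 18 = s := by
  obtain ⟨m, hm, rfl⟩ := card_eq_two_iff.mp hs
  have h1 := List.all_eq_true.mp pairList_spec m hm
  have h2 : pop (m &&& dod0) = 0 := by
    rw [← card_toFinset, toFinset_and, Finset.card_eq_zero, ← Finset.disjoint_iff_inter_eq_empty]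
    exact hdis
  have h3 : m ∈ pairList := by
    simpa [h2] using h1
  exact reach_single (certCheck_spec gensM_ok _ _ _ _ pair_cert m h3)

/-! ### The invariant 5-set -/

theorem octad_spec :
    octadList.all (fun m => (m &&& 19 != 19) || ((dod0 ||| 18) &&& m != m) || m == 1413139) = true := by
  decide +kernel

theorem O1_mem : 1413139 ∈ octadList := by decide +kernel

theorem testBit_T0 : ∀ i < 24, Nat.testBit 1413120 i =
    (Nat.testBit 1413139 i && !Nat.testBit 19 i) := by decide

theorem T0_eq : toFinset 1413120 = toFinset 1413139 \ toFinset 19 := by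
  ext p
  simp only [mem_toFinset, Finset.mem_sdiff]
  rw [testBit_T0 _ (idx_lt p)]
  simp

theorem base_invariant {g : Equiv.Perm GolayPt} (hg : g ∈ M24)
    (hd : g • toFinset dod0 = toFinset dod0) (hp : g (pt 0) = pt 0)
    (hs : g • toFinset 18 = toFinset 18) : g • toFinset 1413120 = toFinset 1413120 := by
  have hu : g • toFinset 19 = toFinset 19 := by
    have : (19 : ℕ) = 18 ||| 2 ^ 0 := by decide
    rw [this, toFinset_or, Finset.smul_finset_union, hs, toFinset_two_pow (by norm_num),
      smul_singleton_pt, hp]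
  have hw : g • toFinset (dod0 ||| 18) = toFinset (dod0 ||| 18) := by
    rw [toFinset_or, Finset.smul_finset_union, hs, hd]
  have ho : g • toFinset 1413139 ∈ octads := (smul_mem_octads hg).mpr (toFinset_mem_octads O1_mem)
  obtain ⟨m, hm, e⟩ := mem_octads_iff'.mp ho
  have hmlt := octadList_lt hm
  have h1 : toFinset 19 ⊆ toFinset m := by
    rw [← e, ← hu]
    apply Finset.smul_finset_subset_smul_finset
    rw [toFinset_subset_iff (by norm_num)]
    decide
  have h2 : toFinset m ⊆ toFinset (dod0 ||| 18) := by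
    rw [← e, ← hw]
    apply Finset.smul_finset_subset_smul_finset
    rw [toFinset_subset_iff (by norm_num)]
    decide +kernel
  rw [toFinset_subset_iff (by norm_num)] at h1
  rw [toFinset_subset_iff hmlt] at h2
  have h3 := List.all_eq_true.mp octad_spec m hm
  have h4 : m = 1413139 := by
    simpa [h1, h2] using h3
  rw [T0_eq, Finset.smul_finset_sdiff, hu, e, h4]

theorem T0_card : (toFinset 1413120).card = 5 := by
  rw [card_toFinset]; decide +kernel

theorem T0_subset : toFinset 1413120 ⊆ toFinset dod0 := by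
  rw [toFinset_subset_iff (by norm_num)]
  decide +kernel

theorem dod0_mem : toFinset dod0 ∈ dodecads := by
  rw [mem_dodecads_iff']
  exact ⟨dod0, by decide +kernel, rfl⟩

theorem pt0_mem : pt 0 ∈ toFinset dod0 := by rw [pt_mem_toFinset (by norm_num)]; decide +kernel

theorem s0_card : (toFinset 18).card = 2 := by
  rw [card_toFinset]; decide +kernel

theorem s0_disjoint : Disjoint (toFinset 18) (toFinset dod0) := by
  rw [Finset.disjoint_iff_inter_eq_empty, ← toFinset_and, ← Finset.card_eq_zero, card_toFinset]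
  decide +kernel

theorem apply_mem_smul_iff (g : Equiv.Perm GolayPt) (s : Finset GolayPt) (x : GolayPt) :
    g x ∈ g • s ↔ x ∈ s := by
  rw [← Equiv.Perm.smul_def, Finset.smul_mem_smul_finset_iff]

/-! ### The general configuration -/

/-- Data attached to a configuration `(d, p, s)`: it is the image of the base configuration. -/
theorem exists_base (d : Finset GolayPt) (hd : d ∈ dodecads) (p : GolayPt) (hp : p ∈ d)
    (s : Finset GolayPt) (hs : s.card = 2) (hsd : Disjoint s d) :
    ∃ k ∈ M24, k • toFinset dod0 = d ∧ k (pt 0) = p ∧ k • toFinset 18 = s := by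
  obtain ⟨h, hh, rfl⟩ := dodecads_transitive hd
  obtain ⟨g0, hg0, hmap⟩ := Cfsg.Agent.Helper7.m12_five_trans hd [h (pt 0)] [p] (by simp) (by simp)
    (by
      intro x hx
      simp only [List.mem_cons, List.not_mem_nil, or_false] at hx
      rw [hx]
      exact (apply_mem_smul_iff h _ _).mpr pt0_mem)
    (by simp [hp]) rfl (by simp)
  rw [Cfsg.Agent.Helper7.mem_setStab] at hg0
  simp only [List.map_cons, List.map_nil, List.cons.injEq, and_true] at hmap
  -- k1 = g0 * h maps the base dodecad and point to (d, p)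
  have hk1 : g0 * h ∈ M24 := M24.mul_mem hg0.1 hh
  have hk1d : (g0 * h) • toFinset dod0 = h • toFinset dod0 := by rw [mul_smul, hg0.2]
  have hk1p : (g0 * h) (pt 0) = p := by simpa using hmap
  generalize g0 * h = k1 at hk1 hk1d hk1p
  have hs' : ((k1⁻¹ • s : Finset GolayPt)).card = 2 := by rw [Finset.card_smul_finset, hs]
  have hsd' : Disjoint (k1⁻¹ • s) (toFinset dod0) := by
    rw [Finset.disjoint_iff_inter_eq_empty] at hsd ⊢
    have : toFinset dod0 = k1⁻¹ • (h • toFinset dod0) := by rw [← hk1d, inv_smul_smul]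
    rw [this, ← Finset.smul_finset_inter, hsd, Finset.smul_finset_empty]
  obtain ⟨m0, hm0, e0⟩ := base_pairs hs' hsd'
  refine ⟨k1 * m0, M24.mul_mem hk1 hm0.1, ?_, ?_, ?_⟩
  · rw [mul_smul, hm0.2 dod0 (by simp), hk1d]
  · rw [Equiv.Perm.coe_mul, Function.comp, stabOf_fix_pt hm0 (by norm_num) (by simp), hk1p]
  · rw [mul_smul, e0, smul_inv_smul]

theorem card_compl_dodecad {d : Finset GolayPt} (hd : d ∈ dodecads) : dᶜ.card = 12 := by
  have h24 : Fintype.card GolayPt = 24 := by
    unfold GolayPt
    rw [Fintype.card_option, ZMod.card]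
  have h12 : d.card = 12 := by
    obtain ⟨m, hm, rfl⟩ := mem_dodecads_iff'.mp hd
    rw [card_toFinset]
    exact dodecadList_pop hm
  rw [Finset.card_compl, h24, h12]

/-- The subgroup `M'` (a copy of `M11`) has order 7920. -/
theorem card_M11 {d : Finset GolayPt} (hd : d ∈ dodecads) {p : GolayPt} (hp : p ∈ d) :
    Nat.card ↥(MulAction.stabilizer Cfsg.M24 d ⊓ MulAction.stabilizer Cfsg.M24 p) = 7920 := by
  have hmap : (MulAction.stabilizer Cfsg.M24 d ⊓ MulAction.stabilizer Cfsg.M24 p).map M24.subtype =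
      Cfsg.Agent.Helper7.stabL (Cfsg.Agent.Helper7.setStab d) [p] := by
    ext g
    rw [Subgroup.mem_map, Cfsg.Agent.Helper7.mem_stabL, Cfsg.Agent.Helper7.mem_setStab]
    constructor
    · rintro ⟨⟨g, hg⟩, ⟨h1, h2⟩, rfl⟩
      refine ⟨⟨hg, h1⟩, ?_⟩
      intro b hb
      simp only [List.mem_cons, List.not_mem_nil, or_false] at hb
      rw [hb]; exact h2
    · rintro ⟨⟨hg, h1⟩, h2⟩
      exact ⟨⟨g, hg⟩, ⟨h1, h2 p (by simp)⟩, rfl⟩
  have h := Cfsg.Agent.Helper7.card_m12_stabL hd [p] (by simp) (by simp [hp]) (by simp)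
  rw [← hmap, Cfsg.Agent.Helper7.card_map_subtype] at h
  simp only [List.length_cons, List.length_nil] at h
  have h2 : Nat.descFactorial 12 1 = 12 := by decide
  rw [show (0 + 1 : ℕ) = 1 from rfl, h2] at h
  omega

/-- For a dodecad `d`, a point `p` of `d` and a pair `s` outside `d`, the joint stabiliser is
isomorphic to the symmetric group of degree 5. -/
theorem main (d : Finset GolayPt) (hd : d ∈ dodecads) (p : GolayPt) (hp : p ∈ d)
    (s : Finset GolayPt) (hs : s.card = 2) (hsd : Disjoint s d) :
    Nonempty (↥(MulAction.stabilizer Cfsg.M24 d ⊓ MulAction.stabilizer Cfsg.M24 p ⊓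
      MulAction.stabilizer Cfsg.M24 s) ≃* Equiv.Perm (Fin 5)) := by
  obtain ⟨k, hk, rfl, rfl, rfl⟩ := exists_base d hd p hp s hs hsd
  set d := k • toFinset dod0 with hd_def
  set p := k (pt 0) with hp_def
  set s := k • toFinset 18 with hs_def
  -- the order of the group
  have hcardG : Nat.card ↥(MulAction.stabilizer Cfsg.M24 d ⊓ MulAction.stabilizer Cfsg.M24 p ⊓
      MulAction.stabilizer Cfsg.M24 s) = 120 := by
    have hM := card_M11 hd hp
    have hos := Nat.card_congr (MulAction.orbitProdStabilizerEquivGroup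
      ↥(MulAction.stabilizer Cfsg.M24 d ⊓ MulAction.stabilizer Cfsg.M24 p) s)
    rw [Nat.card_prod, hM] at hos
    -- the orbit consists of all pairs outside `d`
    have horb : MulAction.orbit ↥(MulAction.stabilizer Cfsg.M24 d ⊓ MulAction.stabilizer Cfsg.M24 p) s
        = ↑(Finset.powersetCard 2 dᶜ) := by
      ext t
      rw [Finset.mem_coe, Finset.mem_powersetCard]
      constructor
      · rintro ⟨⟨⟨g, hg⟩, h1, h2⟩, rfl⟩
        change g • d = d at h1
        change (g • s : Finset GolayPt) ⊆ dᶜ ∧ (g • s : Finset GolayPt).card = 2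
        refine ⟨?_, by rw [Finset.card_smul_finset, hs]⟩
        rw [Finset.subset_compl_iff_disjoint_right, Finset.disjoint_iff_inter_eq_empty] at *
        rw [← h1, ← Finset.smul_finset_inter, hsd, Finset.smul_finset_empty]
      · rintro ⟨h1, h2⟩
        rw [Finset.subset_compl_iff_disjoint_right] at h1
        obtain ⟨k', hk', e1, e2, e3⟩ := exists_base d hd p hp t h2 h1
        -- k' * k⁻¹ lies in M' and maps s to t
        refine ⟨⟨⟨k' * k⁻¹, M24.mul_mem hk' (M24.inv_mem hk)⟩, ?_, ?_⟩, ?_⟩
        · change (k' * k⁻¹) • d = d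
          rw [mul_smul, hd_def, inv_smul_smul, e1]
        · change (k' * k⁻¹) p = p
          rw [Equiv.Perm.coe_mul, Function.comp, hp_def]
          have hkk : k⁻¹ (k (pt 0)) = pt 0 := by simp
          rw [hkk]
          exact e2
        · change (k' * k⁻¹) • s = t
          rw [mul_smul, hs_def, inv_smul_smul, e3]
    have horbc : Nat.card ↥(MulAction.orbit
        ↥(MulAction.stabilizer Cfsg.M24 d ⊓ MulAction.stabilizer Cfsg.M24 p) s) = 66 := by
      rw [horb, Nat.card_coe_set_eq, Set.ncard_coe_finset, Finset.card_powersetCard,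
        card_compl_dodecad hd]
      decide
    rw [horbc] at hos
    -- identify the stabiliser
    have hequiv : ↥(MulAction.stabilizer Cfsg.M24 d ⊓ MulAction.stabilizer Cfsg.M24 p ⊓
        MulAction.stabilizer Cfsg.M24 s) ≃ ↥(MulAction.stabilizer
          ↥(MulAction.stabilizer Cfsg.M24 d ⊓ MulAction.stabilizer Cfsg.M24 p) s) :=
      { toFun := fun g => ⟨⟨g.1, g.2.1⟩, g.2.2⟩
        invFun := fun g => ⟨g.1.1, g.1.2, g.2⟩
        left_inv := fun g => rfl
        right_inv := fun g => rfl }
    rw [Nat.card_congr hequiv]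
    omega
  -- the invariant 5-set
  have hTinv : ∀ g : ↥(MulAction.stabilizer Cfsg.M24 d ⊓ MulAction.stabilizer Cfsg.M24 p ⊓
      MulAction.stabilizer Cfsg.M24 s), ∀ x,
      ((g : ↥M24) : Equiv.Perm GolayPt) x ∈ k • toFinset 1413120 ↔ x ∈ k • toFinset 1413120 := by
    rintro ⟨⟨g, hg⟩, ⟨h1, h2⟩, h3⟩ x
    change g • d = d at h1
    change g p = p at h2
    change g • s = s at h3
    change g x ∈ k • toFinset 1413120 ↔ x ∈ k • toFinset 1413120
    have hconj : (k⁻¹ * g * k) • toFinset 1413120 = toFinset 1413120 := by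
      apply base_invariant (M24.mul_mem (M24.mul_mem (M24.inv_mem hk) hg) hk)
      · rw [mul_smul, mul_smul, ← hd_def, h1, hd_def, inv_smul_smul]
      · simp only [Equiv.Perm.coe_mul, Function.comp]
        rw [← hp_def, h2, hp_def]
        simp
      · rw [mul_smul, mul_smul, ← hs_def, h3, hs_def, inv_smul_smul]
    have hgT : g • (k • toFinset 1413120) = k • toFinset 1413120 := by
      conv_rhs => rw [← hconj]
      simp only [mul_smul, smul_inv_smul]
    conv_lhs => rw [← hgT]
    exact apply_mem_smul_iff g _ x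
  let ι : ↥(MulAction.stabilizer Cfsg.M24 d ⊓ MulAction.stabilizer Cfsg.M24 p ⊓
      MulAction.stabilizer Cfsg.M24 s) →* Equiv.Perm GolayPt :=
    M24.subtype.comp (Subgroup.subtype _)
  have hTcard : (k • toFinset 1413120).card = 5 := by rw [Finset.card_smul_finset, T0_card]
  have hTsub : k • toFinset 1413120 ⊆ d := Finset.smul_finset_subset_smul_finset T0_subset
  refine mulEquiv_perm_of_injective (k • toFinset 1413120) hTcard
    (restrictHom ι _ hTinv) ?_ (by rw [hcardG]; decide)
  -- injectivity from sharp 5-transitivity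
  rw [injective_iff_map_eq_one]
  intro g hg1
  have hfix : ∀ x ∈ k • toFinset 1413120, ι g x = x := by
    intro x hx
    have h1 := DFunLike.congr_fun hg1 ⟨x, hx⟩
    have h2 := congrArg Subtype.val h1
    exact h2
  have hmem : ι g ∈ Cfsg.Agent.Helper7.stabL (Cfsg.Agent.Helper7.setStab d)
      (k • toFinset 1413120).toList := by
    rw [Cfsg.Agent.Helper7.mem_stabL, Cfsg.Agent.Helper7.mem_setStab]
    refine ⟨⟨g.1.2, g.2.1.1⟩, ?_⟩
    intro b hb
    exact hfix b (Finset.mem_toList.mp hb)
  have hc := Cfsg.Agent.Helper7.card_m12_stabL hd (k • toFinset 1413120).toList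
    (Finset.nodup_toList _) (fun x hx => hTsub (Finset.mem_toList.mp hx))
    (by rw [Finset.length_toList, hTcard])
  rw [Finset.length_toList, hTcard] at hc
  have h5 : Nat.descFactorial 12 5 = 95040 := by decide
  rw [h5] at hc
  have hc1 : Nat.card ↥(Cfsg.Agent.Helper7.stabL (Cfsg.Agent.Helper7.setStab d)
      (k • toFinset 1413120).toList) = 1 := by omega
  have hbot := Subgroup.card_eq_one.mp hc1
  rw [hbot, Subgroup.mem_bot] at hmem
  apply Subtype.ext
  apply Subtype.ext
  exact hmem

/-- In the 12-point action of the smallest Mathieu group the setwise stabiliser of a pair is isomorphic to the symmetric group of degree 5. -/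
theorem result (d : Finset Cfsg.GolayPt) (hd : d ∈ Cfsg.dodecads) (p q q' : Cfsg.GolayPt) (hp : p ∈ d) (hq : q ∉ d) (hq' : q' ∉ d) (hqq' : q ≠ q') : Nonempty (↥(MulAction.stabilizer Cfsg.M24 d ⊓ MulAction.stabilizer Cfsg.M24 p ⊓ MulAction.stabilizer Cfsg.M24 ({q, q'} : Finset Cfsg.GolayPt)) ≃* Equiv.Perm (Fin 5)) := by
  apply main d hd p hp
  · exact Finset.card_pair hqq'
  · rw [Finset.disjoint_left]
    intro x hx
    simp only [Finset.mem_insert, Finset.mem_singleton] at hx
    rcases hx with rfl | rfl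
    · exact hq
    · exact hq'

end Cfsg.Agent.S1602
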