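import Cfsg.Statements.S1601
import Mathlib
import Cfsg.Agent.Lib.Helper27.PSL211Data
import Cfsg.Agent.Lib.Helper7.M12
import Cfsg.Agent.Lib.Helper40.SL2
import Cfsg.Agent.S1602

set_option autoImplicit false
set_option maxRecDepth 1000000
open scoped Pointwise
open Cfsg

namespace Cfsg.Agent.S1601

open Cfsg.Agent.Helper27
open Cfsg.Agent.Helper27.SL211
open Cfsg.Agent.Helper27.PSL211


/-! ### The base group -/

abbrev d0 : Finset GolayPt := toFinset dod0

/-- The stabiliser of the base dodecad, of `pt 0` and of `pt 1`. -/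
abbrev G0 : Subgroup ↥M24 :=
  MulAction.stabilizer Cfsg.M24 d0 ⊓ MulAction.stabilizer Cfsg.M24 (pt 0) ⊓
    MulAction.stabilizer Cfsg.M24 (pt 1)

/-- The same group as a subgroup of the symmetric group. -/
def G0perm : Subgroup (Equiv.Perm GolayPt) where
  carrier := {g | g ∈ M24 ∧ g • d0 = d0 ∧ g (pt 0) = pt 0 ∧ g (pt 1) = pt 1}
  one_mem' := ⟨M24.one_mem, one_smul _ _, rfl, rfl⟩
  mul_mem' := by
    rintro a b ⟨a1, a2, a3, a4⟩ ⟨b1, b2, b3, b4⟩
    refine ⟨M24.mul_mem a1 b1, by rw [mul_smul, b2, a2], ?_, ?_⟩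
    · rw [Equiv.Perm.mul_apply, b3, a3]
    · rw [Equiv.Perm.mul_apply, b4, a4]
  inv_mem' := by
    rintro a ⟨a1, a2, a3, a4⟩
    refine ⟨M24.inv_mem a1, by rw [inv_smul_eq_iff, a2], ?_, ?_⟩
    · rw [Equiv.Perm.inv_eq_iff_eq, a3]
    · rw [Equiv.Perm.inv_eq_iff_eq, a4]

theorem memOK_spec {g : ℕ × ℕ} (h : memOK g = true) : permOf g ∈ G0perm := by
  unfold memOK at h
  simp only [Bool.and_eq_true, beq_iff_eq] at h
  obtain ⟨⟨⟨⟨h1, h2⟩, h3⟩, h4⟩, h5⟩ := h
  refine ⟨permOf_mem_M24 h1 h2, ?_, ?_, ?_⟩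
  · rw [permOf_smul h1, h3]
  · apply apply_pt_of_smul (by norm_num) (by norm_num)
    rw [permOf_smul h1, h4]
  · apply apply_pt_of_smul (by norm_num) (by norm_num)
    rw [permOf_smul h1, h5]

theorem tK_inv (x : Y) : checkInv (tK (code x)).1 (tK (code x)).2 = true :=
  all_guard C1 (code_lt x) (code_valid x)

/-- The underlying map into the symmetric group. -/
def ψ0 (x : Y) : Equiv.Perm GolayPt := permOf (tK (code x))

theorem code_one : code (1 : Y) = 1332 := by
  unfold code codeOf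
  simp only [Matrix.SpecialLinearGroup.coe_one, Matrix.one_apply_eq, Matrix.one_apply_ne, ne_eq,
    zero_ne_one, one_ne_zero, not_false_eq_true]
  rfl

theorem code_U1 : code (U 1) = 1343 := by
  unfold code codeOf
  rw [coe_U]
  simp only [Matrix.of_apply, Matrix.cons_val', Matrix.cons_val_zero, Matrix.cons_val_one,
    Matrix.cons_val_fin_one]
  rfl

theorem code_L1 : code (L 1) = 1453 := by
  unfold code codeOf
  rw [coe_L]
  simp only [Matrix.of_apply, Matrix.cons_val', Matrix.cons_val_zero, Matrix.cons_val_one,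
    Matrix.cons_val_fin_one]
  rfl

theorem ψ0_one : ψ0 1 = 1 := by
  unfold ψ0
  have h := tK_inv 1
  rw [code_one] at h ⊢
  exact permOf_eq_one h C3.1

theorem ψ0_mul (x y : Y) : ψ0 (x * y) = ψ0 x * ψ0 y := by
  apply map_mul_of_gens ψ0 {U 1, L 1} closure_eq_top ψ0_one
  intro s hs z
  have hc := all_guard C2 (code_lt z) (code_valid z)
  rw [Bool.and_eq_true] at hc
  unfold ψ0
  have hsz := tK_inv (s * z)
  rw [code_mul] at hsz ⊢
  have hs' := tK_inv s
  simp only [Set.mem_insert_iff, Set.mem_singleton_iff] at hs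
  rcases hs with rfl | rfl
  · rw [code_U1] at hsz hs' ⊢
    exact permOf_mul_of_tables hs' (tK_inv z) hsz hc.1
  · rw [code_L1] at hsz hs' ⊢
    exact permOf_mul_of_tables hs' (tK_inv z) hsz hc.2

/-- The homomorphism into the symmetric group. -/
def ψ' : Y →* Equiv.Perm GolayPt := MonoidHom.mk' ψ0 ψ0_mul

theorem ψ'_mem (x : Y) : ψ' x ∈ G0perm := by
  have h : (⊤ : Subgroup Y) ≤ G0perm.comap ψ' := by
    rw [← closure_eq_top, Subgroup.closure_le]
    intro s hs
    simp only [Set.mem_insert_iff, Set.mem_singleton_iff] at hs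
    rw [SetLike.mem_coe, Subgroup.mem_comap]
    show permOf (tK (code s)) ∈ G0perm
    rcases hs with rfl | rfl
    · rw [code_U1]; exact memOK_spec C1gen.1
    · rw [code_L1]; exact memOK_spec C1gen.2
  exact h (Subgroup.mem_top x)

/-- The underlying permutation of an element of the base group. -/
def val2 : ↥G0 →* Equiv.Perm GolayPt := M24.subtype.comp G0.subtype

theorem val2_injective : Function.Injective val2 := by
  intro a b h
  exact Subtype.ext (Subtype.ext h)

/-- The homomorphism into the base group. -/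
def ψ : Y →* ↥G0 where
  toFun x := ⟨⟨ψ' x, (ψ'_mem x).1⟩, ⟨⟨(ψ'_mem x).2.1, (ψ'_mem x).2.2.1⟩, (ψ'_mem x).2.2.2⟩⟩
  map_one' := by
    apply val2_injective
    show ψ' 1 = 1
    exact map_one ψ'
  map_mul' x y := by
    apply val2_injective
    show ψ' (x * y) = ψ' x * ψ' y
    exact map_mul ψ' x y

theorem val2_ψ (x : Y) : val2 (ψ x) = permOf (tK (code x)) := rfl

/-- The matrix `-1`. -/
def negOne : Y := ⟨!![-1, 0; 0, -1], by simp [Matrix.det_fin_two]⟩

theorem coe_negOne : negOne.val = !![-1, 0; 0, -1] := rfl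

theorem code_negOne : code negOne = 13320 := by
  unfold code codeOf
  rw [coe_negOne]
  simp only [Matrix.of_apply, Matrix.cons_val', Matrix.cons_val_zero, Matrix.cons_val_one,
    Matrix.cons_val_fin_one]
  rfl

theorem one_ne_negOne : (1 : Y) ≠ negOne := by
  intro h
  have := congrArg code h
  rw [code_one, code_negOne] at this
  omega

theorem ψ_eq_one_iff (x : Y) : ψ x = 1 ↔ x = 1 ∨ x = negOne := by
  constructor
  · intro h
    have h1 : permOf (tK (code x)) = permOf (tK 1332) := by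
      have := congrArg val2 h
      rw [val2_ψ, map_one] at this
      rw [this]
      have h1 := tK_inv 1
      rw [code_one] at h1
      exact (permOf_eq_one h1 C3.1).symm
    have hi := tK_inv 1
    rw [code_one] at hi
    have h2 := tabEq_of_permOf_eq (tK_inv x) hi h1
    have h3 := all_guard C4 (code_lt x) (code_valid x)
    rw [h2] at h3
    simp only [Bool.not_true, Bool.false_or, Bool.or_eq_true, beq_iff_eq] at h3
    rcases h3 with h3 | h3
    · left; apply code_injective; rw [h3, code_one]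
    · right; apply code_injective; rw [h3, code_negOne]
  · rintro (rfl | rfl)
    · exact map_one ψ
    · apply val2_injective
      rw [val2_ψ, map_one, code_negOne]
      have h1 := tK_inv negOne
      rw [code_negOne] at h1
      exact permOf_eq_one h1 C3.2

theorem sq_eq_one : ∀ r : ZMod 11, r ^ 2 = 1 → r = 1 ∨ r = -1 := by decide

theorem mem_center_iff' (z : Y) : z ∈ Subgroup.center Y ↔ z = 1 ∨ z = negOne := by
  rw [Matrix.SpecialLinearGroup.mem_center_iff]
  constructor
  · rintro ⟨r, hr, e⟩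
    rw [Fintype.card_fin] at hr
    rcases sq_eq_one r hr with rfl | rfl
    · left
      apply Subtype.ext
      rw [← e]
      simp
    · right
      apply Subtype.ext
      rw [← e]
      ext i j
      fin_cases i <;> fin_cases j <;> simp [negOne]
  · rintro (rfl | rfl)
    · exact ⟨1, by simp, by simp⟩
    · refine ⟨-1, by norm_num, ?_⟩
      ext i j
      fin_cases i <;> fin_cases j <;> simp [negOne]

theorem card_center : Nat.card ↥(Subgroup.center Y) = 2 := by
  have h : ((Subgroup.center Y : Subgroup Y) : Set Y) = {1, negOne} := by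
    ext z
    rw [SetLike.mem_coe, mem_center_iff']
    simp
  rw [← SetLike.coe_sort_coe, Nat.card_coe_set_eq, h, Set.ncard_pair one_ne_negOne]

theorem card_PSL : Nat.card (Matrix.ProjectiveSpecialLinearGroup (Fin 2) (ZMod 11)) = 660 := by
  have h1 := Subgroup.card_eq_card_quotient_mul_card_subgroup (Subgroup.center Y)
  rw [card_center, Cfsg.Agent.Helper40.card_SL2, ZMod.card] at h1
  have h2 : Nat.card (Y ⧸ Subgroup.center Y) = 660 := by omega
  exact h2

/-! ### Transitivity on the complement of the base dodecad -/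

theorem pt1_not_mem : pt 1 ∉ d0 := by
  rw [pt_mem_toFinset (by norm_num)]
  decide +kernel

theorem base_points {q : GolayPt} (hq : q ∉ d0) :
    ∃ g ∈ stabOf [dod0, 2 ^ 0], g (pt 1) = q := by
  have hi := idx_lt q
  have hb : idx q ∈ compList := compList_spec (idx q) hi (by
    rw [mem_toFinset] at hq
    simpa using hq)
  obtain ⟨g, hg, e⟩ := reach_single (certCheck_spec gensM_ok _ _ _ _ comp_cert (idx q) hb)
  refine ⟨g, hg, ?_⟩
  have := apply_pt_of_smul (by norm_num) hi e
  rw [this, pt_idx]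

theorem apply_mem_smul_iff (g : Equiv.Perm GolayPt) (s : Finset GolayPt) (x : GolayPt) :
    g x ∈ g • s ↔ x ∈ s := by
  rw [← Equiv.Perm.smul_def, Finset.smul_mem_smul_finset_iff]

theorem exists_base (d : Finset GolayPt) (hd : d ∈ dodecads) (p : GolayPt) (hp : p ∈ d)
    (q : GolayPt) (hq : q ∉ d) :
    ∃ k ∈ M24, k • d0 = d ∧ k (pt 0) = p ∧ k (pt 1) = q := by
  obtain ⟨h, hh, rfl⟩ := dodecads_transitive hd
  obtain ⟨g0, hg0, hmap⟩ := Cfsg.Agent.Helper7.m12_five_trans hd [h (pt 0)] [p] (by simp) (by simp)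
    (by
      intro x hx
      simp only [List.mem_cons, List.not_mem_nil, or_false] at hx
      rw [hx]
      exact (apply_mem_smul_iff h _ _).mpr Cfsg.Agent.S1602.pt0_mem)
    (by simp [hp]) rfl (by simp)
  rw [Cfsg.Agent.Helper7.mem_setStab] at hg0
  simp only [List.map_cons, List.map_nil, List.cons.injEq, and_true] at hmap
  have hk1 : g0 * h ∈ M24 := M24.mul_mem hg0.1 hh
  have hk1d : (g0 * h) • toFinset dod0 = h • toFinset dod0 := by rw [mul_smul, hg0.2]
  have hk1p : (g0 * h) (pt 0) = p := by simpa using hmap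
  generalize g0 * h = k1 at hk1 hk1d hk1p
  have hq' : k1⁻¹ q ∉ d0 := by
    intro hc
    apply hq
    have := (apply_mem_smul_iff k1 _ _).mpr hc
    rw [hk1d] at this
    simpa using this
  obtain ⟨m0, hm0, e0⟩ := base_points hq'
  refine ⟨k1 * m0, M24.mul_mem hk1 hm0.1, ?_, ?_, ?_⟩
  · rw [mul_smul, hm0.2 dod0 (by simp), hk1d]
  · rw [Equiv.Perm.coe_mul, Function.comp, stabOf_fix_pt hm0 (by norm_num) (by simp), hk1p]
  · rw [Equiv.Perm.coe_mul, Function.comp, e0]
    simp

/-! ### The order of the base group -/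

theorem dod0_mem : d0 ∈ dodecads := Cfsg.Agent.S1602.dod0_mem

theorem card_G0 : Nat.card ↥G0 = 660 := by
  have hM := Cfsg.Agent.S1602.card_M11 dod0_mem Cfsg.Agent.S1602.pt0_mem
  have hos := Nat.card_congr (MulAction.orbitProdStabilizerEquivGroup
    ↥(MulAction.stabilizer Cfsg.M24 d0 ⊓ MulAction.stabilizer Cfsg.M24 (pt 0)) (pt 1))
  rw [Nat.card_prod, hM] at hos
  have horb : MulAction.orbit
      ↥(MulAction.stabilizer Cfsg.M24 d0 ⊓ MulAction.stabilizer Cfsg.M24 (pt 0)) (pt 1)
        = ↑(d0ᶜ : Finset GolayPt) := by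
    ext t
    rw [Finset.mem_coe, Finset.mem_compl]
    constructor
    · rintro ⟨⟨⟨g, hg⟩, h1, h2⟩, rfl⟩
      change g • d0 = d0 at h1
      change g (pt 1) ∉ d0
      intro hc
      rw [← h1, apply_mem_smul_iff] at hc
      exact pt1_not_mem hc
    · intro ht
      obtain ⟨m0, hm0, e0⟩ := base_points ht
      refine ⟨⟨⟨m0, hm0.1⟩, ?_, ?_⟩, e0⟩
      · change m0 • d0 = d0
        exact hm0.2 dod0 (by simp)
      · change m0 (pt 0) = pt 0
        exact stabOf_fix_pt hm0 (by norm_num) (by simp)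
  have horbc : Nat.card ↥(MulAction.orbit
      ↥(MulAction.stabilizer Cfsg.M24 d0 ⊓ MulAction.stabilizer Cfsg.M24 (pt 0)) (pt 1)) = 12 := by
    rw [horb, Nat.card_coe_set_eq, Set.ncard_coe_finset,
      Cfsg.Agent.S1602.card_compl_dodecad dod0_mem]
  rw [horbc] at hos
  have hequiv : ↥G0 ≃ ↥(MulAction.stabilizer
      ↥(MulAction.stabilizer Cfsg.M24 d0 ⊓ MulAction.stabilizer Cfsg.M24 (pt 0)) (pt 1)) :=
    { toFun := fun g => ⟨⟨g.1, g.2.1⟩, g.2.2⟩
      invFun := fun g => ⟨g.1.1, g.1.2, g.2⟩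
      left_inv := fun g => rfl
      right_inv := fun g => rfl }
  rw [Nat.card_congr hequiv]
  omega

/-! ### The isomorphism at the base -/

theorem center_le_ker : Subgroup.center Y ≤ ψ.ker := by
  intro z hz
  rw [MonoidHom.mem_ker, ψ_eq_one_iff, ← mem_center_iff']
  exact hz

/-- The induced map on the projective group. -/
def φ : Matrix.ProjectiveSpecialLinearGroup (Fin 2) (ZMod 11) →* ↥G0 :=
  QuotientGroup.lift (Subgroup.center Y) ψ center_le_ker

theorem φ_injective : Function.Injective φ := by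
  rw [injective_iff_map_eq_one]
  intro x hx
  induction x using QuotientGroup.induction_on with
  | H z =>
    change ψ z = 1 at hx
    rw [ψ_eq_one_iff, ← mem_center_iff'] at hx
    exact (QuotientGroup.eq_one_iff z).mpr hx

theorem base_equiv : Nonempty (↥G0 ≃* Matrix.ProjectiveSpecialLinearGroup (Fin 2) (ZMod 11)) := by
  have : Finite (Matrix.ProjectiveSpecialLinearGroup (Fin 2) (ZMod 11)) :=
    Nat.finite_of_card_ne_zero (by rw [card_PSL]; norm_num)
  have : Finite ↥G0 := Nat.finite_of_card_ne_zero (by rw [card_G0]; norm_num)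
  have hbij : Function.Bijective φ := by
    rw [Nat.bijective_iff_injective_and_card]
    exact ⟨φ_injective, by rw [card_PSL, card_G0]⟩
  exact ⟨(MulEquiv.ofBijective φ hbij).symm⟩

/-! ### Transport to an arbitrary configuration -/

/-- Conjugation by `k ∈ M24` identifies the stabiliser of `(k • d, k p, k q)` with that of
`(d, p, q)`. -/
def conjEquiv {k : Equiv.Perm GolayPt} (hk : k ∈ M24) (d : Finset GolayPt) (p q : GolayPt) :
    ↥(MulAction.stabilizer Cfsg.M24 (k • d) ⊓ MulAction.stabilizer Cfsg.M24 (k p) ⊓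
      MulAction.stabilizer Cfsg.M24 (k q)) ≃*
      ↥(MulAction.stabilizer Cfsg.M24 d ⊓ MulAction.stabilizer Cfsg.M24 p ⊓
        MulAction.stabilizer Cfsg.M24 q) where
  toFun g := ⟨⟨k⁻¹ * g.1.1 * k, M24.mul_mem (M24.mul_mem (M24.inv_mem hk) g.1.2) hk⟩, by
    have h1 : g.1.1 • (k • d) = k • d := g.2.1.1
    have h2 : g.1.1 (k p) = k p := g.2.1.2
    have h3 : g.1.1 (k q) = k q := g.2.2
    refine ⟨⟨?_, ?_⟩, ?_⟩
    · show (k⁻¹ * g.1.1 * k) • d = d
      rw [mul_smul, mul_smul, h1, inv_smul_smul]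
    · show (k⁻¹ * g.1.1 * k) p = p
      simp only [Equiv.Perm.coe_mul, Function.comp]
      rw [h2]; simp
    · show (k⁻¹ * g.1.1 * k) q = q
      simp only [Equiv.Perm.coe_mul, Function.comp]
      rw [h3]; simp⟩
  invFun g := ⟨⟨k * g.1.1 * k⁻¹, M24.mul_mem (M24.mul_mem hk g.1.2) (M24.inv_mem hk)⟩, by
    have h1 : g.1.1 • d = d := g.2.1.1
    have h2 : g.1.1 p = p := g.2.1.2
    have h3 : g.1.1 q = q := g.2.2
    refine ⟨⟨?_, ?_⟩, ?_⟩
    · show (k * g.1.1 * k⁻¹) • (k • d) = k • d
      rw [mul_smul, mul_smul, inv_smul_smul, h1]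
    · show (k * g.1.1 * k⁻¹) (k p) = k p
      simp only [Equiv.Perm.coe_mul, Function.comp]
      simp [h2]
    · show (k * g.1.1 * k⁻¹) (k q) = k q
      simp only [Equiv.Perm.coe_mul, Function.comp]
      simp [h3]⟩
  left_inv g := by
    apply Subtype.ext
    apply Subtype.ext
    show k * (k⁻¹ * g.1.1 * k) * k⁻¹ = g.1.1
    group
  right_inv g := by
    apply Subtype.ext
    apply Subtype.ext
    show k⁻¹ * (k * g.1.1 * k⁻¹) * k = g.1.1
    group
  map_mul' a b := by
    apply Subtype.ext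
    apply Subtype.ext
    show k⁻¹ * (a.1.1 * b.1.1) * k = (k⁻¹ * a.1.1 * k) * (k⁻¹ * b.1.1 * k)
    group

/-- In the 3-transitive action of the smallest Mathieu group on the complementary dodecad, a point stabiliser is isomorphic to PSL(2, 11). -/
theorem result (d : Finset Cfsg.GolayPt) (hd : d ∈ Cfsg.dodecads) (p q : Cfsg.GolayPt) (hp : p ∈ d) (hq : q ∉ d) : Nonempty (↥(MulAction.stabilizer Cfsg.M24 d ⊓ MulAction.stabilizer Cfsg.M24 p ⊓ MulAction.stabilizer Cfsg.M24 q) ≃* Matrix.ProjectiveSpecialLinearGroup (Fin 2) (ZMod 11)) := by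
  obtain ⟨k, hk, rfl, rfl, rfl⟩ := exists_base d hd p hp q hq
  obtain ⟨e⟩ := base_equiv
  exact ⟨(conjEquiv hk d0 (pt 0) (pt 1)).trans e⟩

end Cfsg.Agent.S1601
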