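import Cfsg.Statements.S1603
import Mathlib
import Cfsg.Agent.Lib.Helper27.Trans
import Cfsg.Agent.Lib.Helper27.Pairs
import Cfsg.Agent.Lib.Helper27.TabHom
import Cfsg.Agent.Lib.Helper27.GL23
import Cfsg.Agent.Lib.Helper27.M12Faithful
import Cfsg.Agent.Lib.Helper7.M12

set_option autoImplicit false
set_option maxRecDepth 1000000
open scoped Pointwise
open Cfsg

namespace Cfsg.Agent.S1603

open Cfsg.Agent.Helper27
open Cfsg.Agent.Helper27.GL23

/-- Tables of the images of the elements of `GL(2,3)` (indexed by their codes) under an isomorphism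
onto the centraliser of the base involution. -/
def tabK : List (ℕ × ℕ) :=
  [(0, 0),
   (0, 0),
   (0, 0),
   (0, 0),
   (0, 0),
   (0, 0),
   (0, 0),
   (0, 0),
   (0, 0),
   (0, 0),
   (0, 0),
   (0, 0),
   (981940551097502478945506534821562624, 981940551097502478945506534821562624),
   (402503630227795896569801413624352000, 195298148858977001612409694616901024),
   (227959211680170047201035764110866688, 726217593582900941215390010556662112),
   (195304526608607064402047185188310272, 236761734817539243002279770514374912),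
   (310349392966685239142816830533810432, 317236552488550420656773728772380000),
   (275981975290880559127463383089121536, 435370377643557511159306391780428192),
   (0, 0),
   (0, 0),
   (0, 0),
   (236761734817539243002279770514374912, 195304526608607064402047185188310272),
   (400475488996632850611427762527866112, 726220009929372052167320552216792480),
   (975004073317716598130243522224664832, 981931796266104179916311779837921632),
   (317245544765066591324360195501526272, 317245544765066591324360195501526272),
   (186299105836243744752815141084934400, 435367723387743372728192409171152224),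
   (277929148391282795622759404934906112, 236755436061540085478180563642403232),
   (0, 0),
   (984818244535754528103549039458486304, 984818244535754528103549039458486304),
   (192873144711494498428164440126409760, 192873144711494498428164440126409760),
   (0, 0),
   (394196814103550627411337261889375584, 234524336769643673678083631903816096),
   (320076217646668375161344459074320736, 320076217646668375161344459074320736),
   (0, 0),
   (234524336769643673678083631903816096, 394196814103550627411337261889375584),
   (269457463453808158538670065522411936, 269457463453808158538670065522411936),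
   (0, 0),
   (732214718399089393344248436605173792, 186301681369206261794512098593166368),
   (735500604421669808992593446508235808, 735500604421669808992593446508235808),
   (726217593582900941215390010556662112, 227959211680170047201035764110866688),
   (0, 0),
   (735506823216880864081882592195326304, 444616627852716917718774450802276704),
   (726220009929372052167320552216792480, 400475488996632850611427762527866112),
   (732223710830335065728596640686092704, 275990928689514655571689275759613280),
   (0, 0),
   (0, 0),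
   (186301681369206261794512098593166368, 732214718399089393344248436605173792),
   (975001419139280808564148490343204896, 975001419139280808564148490343204896),
   (317236552488550420656773728772380000, 310349392966685239142816830533810432),
   (400484282705832864801499755306469728, 441495531456345824106617264158423456),
   (0, 0),
   (236755436061540085478180563642403232, 277929148391282795622759404934906112),
   (0, 0),
   (277935407457037180359212596087838112, 402510047667661277470382315857955232),
   (0, 0),
   (234533249665645500472276891828076576, 234533249665645500472276891828076576),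
   (320082436790076063084281086149200928, 320082436790076063084281086149200928),
   (0, 0),
   (394194199305898229263366056566656416, 394194199305898229263366056566656416),
   (192864310499632669893534797346058656, 269459919258370105387962652262252896),
   (0, 0),
   (984811787173512905694926555891315040, 984811787173512905694926555891315040),
   (269459919258370105387962652262252896, 192864310499632669893534797346058656),
   (0, 0),
   (310346976542855869343689751344534560, 310346976542855869343689751344534560),
   (227961706749441965174425011863865376, 441486776779706571488709263782071328),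
   (195298148858977001612409694616901024, 402503630227795896569801413624352000),
   (402510047667661277470382315857955232, 277935407457037180359212596087838112),
   (0, 0),
   (981931796266104179916311779837921632, 975004073317716598130243522224664832),
   (0, 0),
   (275990928689514655571689275759613280, 732223710830335065728596640686092704),
   (0, 0),
   (444610170142328297188851916301502496, 444610170142328297188851916301502496),
   (441486776779706571488709263782071328, 227961706749441965174425011863865376),
   (435370377643557511159306391780428192, 275981975290880559127463383089121536),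
   (0, 0),
   (441495531456345824106617264158423456, 400484282705832864801499755306469728),
   (435367723387743372728192409171152224, 186299105836243744752815141084934400),
   (444616627852716917718774450802276704, 735506823216880864081882592195326304),
   (0, 0)]

/-- The base involution: it interchanges `pt 2`, `pt 3` and `pt 12`, `pt 14`. -/
def x0T : ℕ × ℕ := (320082436790076063084281086149200928, 320082436790076063084281086149200928)

def tK (c : ℕ) : ℕ × ℕ := tabK.getD c (0, 0)

/-- The table describes an element of `M24` fixing the base dodecad and `pt 0`. -/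
def memOK (g : ℕ × ℕ) : Bool :=
  checkInv g.1 g.2 && inM24 g.2 && (permMask g.2 dod0 == dod0) && (lk g.1 0 == 0)

theorem X0ok : memOK x0T = true ∧ lk x0T.1 2 = 3 ∧ lk x0T.1 3 = 2 ∧ lk x0T.1 12 = 14 ∧
    lk x0T.1 14 = 12 ∧ lk x0T.1 15 = 15 ∧ lk x0T.1 20 = 20 := by decide +kernel

theorem K1 : (List.range 81).all (fun c => !valid c ||
    (memOK (tK c) && tabConjOK (tK c) x0T x0T)) = true := by decide +kernel

theorem K3 : (List.range 81).all (fun c1 => !valid c1 || (List.range 81).all (fun c2 =>
    !valid c2 || tabMulOK (tK c1) (tK c2) (tK (mulc c1 c2)))) = true := by decide +kernel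

theorem K3one : (List.range 24).all (fun i => lk (tK 28).1 i == i) = true := by decide +kernel

theorem K4 : (List.range 81).all (fun c => !valid c || (!tabEq (tK c) (tK 28) || c == 28)) = true := by
  decide +kernel

/-- The fixed points of the base involution in the base dodecad, other than `pt 0`. -/
def maskF : ℕ := 2 ^ 15 + 2 ^ 20 + 2 ^ 22

/-- The points of the base dodecad moved by the base involution. -/
def maskV : ℕ := 2 ^ 2 + 2 ^ 3 + 2 ^ 12 + 2 ^ 14 + 2 ^ 16 + 2 ^ 18 + 2 ^ 19 + 2 ^ 21

theorem F_spec : ∀ i < 24, dod0.testBit i = true → i ≠ 0 → lk x0T.1 i = i →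
    maskF.testBit i = true := by decide +kernel

theorem V_spec : ∀ i < 24, dod0.testBit i = true → lk x0T.1 i ≠ i →
    maskV.testBit i = true := by decide +kernel

theorem all_guard {P : ℕ → Bool} {n : ℕ}
    (h : (List.range n).all (fun c => !valid c || P c) = true) {c : ℕ} (hc : c < n)
    (hv : valid c = true) : P c = true := by
  have := List.all_eq_true.mp h c (List.mem_range.mpr hc)
  rw [hv] at this
  simp only [Bool.not_true, Bool.false_or] at this
  exact this

/-! ### Generalities -/

/-- An isomorphism of groups identifies centralisers. -/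
def centralizerEquiv {G H : Type*} [Group G] [Group H] (e : G ≃* H) (x : G) :
    ↥(Subgroup.centralizer ({x} : Set G)) ≃* ↥(Subgroup.centralizer ({e x} : Set H)) where
  toFun g := ⟨e g.1, by
    rw [Subgroup.mem_centralizer_iff]
    intro h hh
    rw [Set.mem_singleton_iff] at hh
    subst hh
    have := Subgroup.mem_centralizer_iff.mp g.2 x rfl
    rw [← map_mul, ← map_mul, this]⟩
  invFun g := ⟨e.symm g.1, by
    rw [Subgroup.mem_centralizer_iff]
    intro h hh
    rw [Set.mem_singleton_iff] at hh
    subst hh
    have := Subgroup.mem_centralizer_iff.mp g.2 (e h) rfl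
    apply e.injective
    rw [map_mul, map_mul, e.apply_symm_apply]
    exact this⟩
  left_inv g := Subtype.ext (e.symm_apply_apply _)
  right_inv g := Subtype.ext (e.apply_symm_apply _)
  map_mul' a b := Subtype.ext (map_mul e _ _)

theorem apply_mem_smul_iff (g : Equiv.Perm GolayPt) (s : Finset GolayPt) (x : GolayPt) :
    g x ∈ g • s ↔ x ∈ s := by
  rw [← Equiv.Perm.smul_def, Finset.smul_mem_smul_finset_iff]

theorem permOf_pt {g : ℕ × ℕ} (h : checkInv g.1 g.2 = true) {i j : ℕ} (hi : i < 24)
    (hl : lk g.1 i = j) : permOf g (pt i) = pt j := by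
  rw [permOf_apply h, idx_pt hi, hl]

/-! ### The base group -/

abbrev d0 : Finset GolayPt := toFinset dod0

theorem d0_mem : d0 ∈ dodecads := by
  rw [mem_dodecads_iff']
  exact ⟨dod0, by decide +kernel, rfl⟩

theorem pt_mem_d0 {i : ℕ} (hi : i < 24) (h : dod0.testBit i = true) : pt i ∈ d0 := by
  rw [pt_mem_toFinset hi]; exact h

/-- The stabiliser of the base dodecad and of `pt 0`. -/
abbrev M0 : Subgroup ↥M24 :=
  MulAction.stabilizer Cfsg.M24 d0 ⊓ MulAction.stabilizer Cfsg.M24 (pt 0)

/-- The underlying permutation. -/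
def val2 : ↥M0 →* Equiv.Perm GolayPt := M24.subtype.comp M0.subtype

theorem val2_injective : Function.Injective val2 := by
  intro a b h
  exact Subtype.ext (Subtype.ext h)

theorem val2_mem (g : ↥M0) : val2 g ∈ M24 := g.1.2

theorem val2_smul (g : ↥M0) : val2 g • d0 = d0 := g.2.1

theorem val2_pt0 (g : ↥M0) : val2 g (pt 0) = pt 0 := g.2.2

theorem val2_mem_d0 (g : ↥M0) (p : GolayPt) : val2 g p ∈ d0 ↔ p ∈ d0 := by
  conv_lhs => rw [← val2_smul g]
  exact apply_mem_smul_iff _ _ _

theorem memOK_spec {g : ℕ × ℕ} (h : memOK g = true) :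
    checkInv g.1 g.2 = true ∧ permOf g ∈ M24 ∧ permOf g • d0 = d0 ∧ permOf g (pt 0) = pt 0 := by
  unfold memOK at h
  simp only [Bool.and_eq_true, beq_iff_eq] at h
  obtain ⟨⟨⟨h1, h2⟩, h3⟩, h4⟩ := h
  refine ⟨h1, permOf_mem_M24 h1 h2, ?_, ?_⟩
  · rw [permOf_smul h1, h3]
  · exact permOf_pt h1 (by norm_num) h4

/-- The element of the base group described by a table. -/
def mk (g : ℕ × ℕ) (h : memOK g = true) : ↥M0 :=
  ⟨⟨permOf g, (memOK_spec h).2.1⟩, ⟨(memOK_spec h).2.2.1, (memOK_spec h).2.2.2⟩⟩

theorem val2_mk (g : ℕ × ℕ) (h : memOK g = true) : val2 (mk g h) = permOf g := rfl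

/-- The base involution. -/
def x0 : ↥M0 := mk x0T X0ok.1

theorem x0_inv : checkInv x0T.1 x0T.2 = true := (memOK_spec X0ok.1).1

theorem x0_2 : val2 x0 (pt 2) = pt 3 := permOf_pt x0_inv (by norm_num) X0ok.2.1
theorem x0_3 : val2 x0 (pt 3) = pt 2 := permOf_pt x0_inv (by norm_num) X0ok.2.2.1
theorem x0_12 : val2 x0 (pt 12) = pt 14 := permOf_pt x0_inv (by norm_num) X0ok.2.2.2.1
theorem x0_14 : val2 x0 (pt 14) = pt 12 := permOf_pt x0_inv (by norm_num) X0ok.2.2.2.2.1
theorem x0_15 : val2 x0 (pt 15) = pt 15 := permOf_pt x0_inv (by norm_num) X0ok.2.2.2.2.2.1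
theorem x0_20 : val2 x0 (pt 20) = pt 20 := permOf_pt x0_inv (by norm_num) X0ok.2.2.2.2.2.2

/-- An element of the base group fixing five points of the base dodecad is trivial. -/
theorem eq_one_of_fix (g : ↥M0) (T : Finset GolayPt) (hT : 5 ≤ T.card) (hTd : T ⊆ d0)
    (hfix : ∀ p ∈ T, val2 g p = p) : g = 1 := by
  apply val2_injective
  rw [map_one]
  exact eq_one_of_fix_five d0_mem (val2_mem g) (val2_smul g) T hT hTd hfix

/-! ### Conjugacy of involutions -/

theorem pts_nodup : ([pt 0, pt 2, pt 3, pt 12, pt 14] : List GolayPt).Nodup := by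
  have h : ∀ i < 24, ∀ j < 24, i ≠ j → pt i ≠ pt j := fun i hi j hj hij h =>
    hij (pt_injective hi hj h)
  simp only [List.nodup_cons, List.mem_cons, List.not_mem_nil, or_false, not_or, List.nodup_nil,
    and_true, not_false_eq_true]
  refine ⟨⟨?_, ?_, ?_, ?_⟩, ⟨?_, ?_, ?_⟩, ⟨?_, ?_⟩, ?_⟩ <;>
    exact h _ (by norm_num) _ (by norm_num) (by norm_num)

theorem conj_to_base (x : ↥M0) (hx : orderOf x = 2) : ∃ m : ↥M0, m * x * m⁻¹ = x0 := by
  have hx2 : x ^ 2 = 1 ∧ x ≠ 1 := by
    have : Fact (Nat.Prime 2) := ⟨Nat.prime_two⟩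
    exact orderOf_eq_prime_iff.mp hx
  have hsq : ∀ p, val2 x (val2 x p) = p := by
    intro p
    have h := congrArg (fun g => val2 g p) hx2.1
    simpa [pow_two] using h
  -- a moved point
  have h1 : ∃ a ∈ d0, val2 x a ≠ a := by
    by_contra hcon
    push Not at hcon
    exact hx2.2 (eq_one_of_fix x d0 (by
      have := ((Cfsg.Agent.Helper7.mem_dodecads_iff d0).mp d0_mem).2
      omega) (Finset.Subset.refl _) hcon)
  obtain ⟨a, had, ha⟩ := h1
  set b := val2 x a with hb
  have hbd : b ∈ d0 := (val2_mem_d0 x a).mpr had
  have hxb : val2 x b = a := hsq a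
  -- a second moved point
  have h2 : ∃ c ∈ d0, c ≠ a ∧ c ≠ b ∧ val2 x c ≠ c := by
    by_contra hcon
    push Not at hcon
    have hcard : 5 ≤ ((d0.erase a).erase b).card := by
      have h12 := ((Cfsg.Agent.Helper7.mem_dodecads_iff d0).mp d0_mem).2
      have h1 := Finset.card_erase_of_mem had
      have h2 : b ∈ d0.erase a := Finset.mem_erase.mpr ⟨fun h => ha h, hbd⟩
      have h3 := Finset.card_erase_of_mem h2
      omega
    have := eq_one_of_fix x ((d0.erase a).erase b) hcard
      (fun p hp => Finset.mem_of_mem_erase (Finset.mem_of_mem_erase hp))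
      (fun p hp => by
        have hp1 := Finset.mem_erase.mp hp
        have hp2 := Finset.mem_erase.mp hp1.2
        exact hcon p hp2.2 hp2.1 hp1.1)
    exact hx2.2 this
  obtain ⟨c, hcd, hca, hcb, hc⟩ := h2
  set e := val2 x c with he
  have hed : e ∈ d0 := (val2_mem_d0 x c).mpr hcd
  have hxe : val2 x e = c := hsq c
  have h0 := val2_pt0 x
  -- distinctness
  have ha0 : a ≠ pt 0 := fun h => ha (by rw [hb, h]; exact h0)
  have hb0 : b ≠ pt 0 := fun h => ha (by
    have : a = pt 0 := by rw [← hxb, h, h0]
    exact h.trans this.symm)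
  have hc0 : c ≠ pt 0 := fun h => hc (by rw [he, h]; exact h0)
  have he0 : e ≠ pt 0 := fun h => hc (by
    have : c = pt 0 := by rw [← hxe, h, h0]
    exact h.trans this.symm)
  have hea : e ≠ a := fun h => hcb (by rw [← hxe, h])
  have heb : e ≠ b := fun h => hca ((val2 x).injective h)
  have hnd : ([pt 0, a, b, c, e] : List GolayPt).Nodup := by
    simp only [List.nodup_cons, List.mem_cons, List.not_mem_nil, or_false, not_or, List.nodup_nil,
      and_true, not_false_eq_true]
    exact ⟨⟨Ne.symm ha0, Ne.symm hb0, Ne.symm hc0, Ne.symm he0⟩,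
      ⟨fun h => ha h.symm, Ne.symm hca, Ne.symm hea⟩, ⟨Ne.symm hcb, Ne.symm heb⟩, fun h => hc h.symm⟩
  have hp0 : pt 0 ∈ d0 := pt_mem_d0 (by norm_num) (by decide +kernel)
  obtain ⟨g, hg, hmap⟩ := Cfsg.Agent.Helper7.m12_five_trans d0_mem [pt 0, a, b, c, e]
    [pt 0, pt 2, pt 3, pt 12, pt 14] hnd pts_nodup
    (by
      intro y hy
      simp only [List.mem_cons, List.not_mem_nil, or_false] at hy
      rcases hy with rfl | rfl | rfl | rfl | rfl <;> assumption)
    (by
      intro y hy
      simp only [List.mem_cons, List.not_mem_nil, or_false] at hy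
      rcases hy with rfl | rfl | rfl | rfl | rfl <;>
        exact pt_mem_d0 (by norm_num) (by decide +kernel))
    rfl (by simp)
  rw [Cfsg.Agent.Helper7.mem_setStab] at hg
  simp only [List.map_cons, List.map_nil, List.cons.injEq, and_true] at hmap
  obtain ⟨g0, ga, gb, gc, ge⟩ := hmap
  let m : ↥M0 := ⟨⟨g, hg.1⟩, ⟨hg.2, g0⟩⟩
  have hm : ∀ p, val2 m p = g p := fun p => rfl
  have hmi : ∀ p q, g p = q → val2 m⁻¹ q = p := by
    intro p q h
    rw [map_inv, ← h]
    show g⁻¹ (g p) = p
    simp
  refine ⟨m, ?_⟩
  -- compare with the base involution on five points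
  have key : x0⁻¹ * (m * x * m⁻¹) = 1 := by
    apply eq_one_of_fix _ ([pt 0, pt 2, pt 3, pt 12, pt 14] : List GolayPt).toFinset
    · rw [List.toFinset_card_of_nodup pts_nodup]; rfl
    · intro y hy
      simp only [List.toFinset_cons, List.toFinset_nil, Finset.mem_insert, Finset.mem_singleton,
        insert_empty_eq] at hy
      rcases hy with rfl | rfl | rfl | rfl | rfl <;>
        exact pt_mem_d0 (by norm_num) (by decide +kernel)
    · intro y hy
      have hinv : ∀ p q, val2 x0 p = q → val2 x0⁻¹ q = p := by
        intro p q h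
        rw [map_inv, ← h]
        show (val2 x0)⁻¹ (val2 x0 p) = p
        simp
      simp only [List.toFinset_cons, List.toFinset_nil, Finset.mem_insert, Finset.mem_singleton,
        insert_empty_eq] at hy
      simp only [map_mul, Equiv.Perm.coe_mul, Function.comp]
      rcases hy with rfl | rfl | rfl | rfl | rfl
      · rw [hmi _ _ g0, h0, hm, g0]; exact hinv _ _ (val2_pt0 x0)
      · rw [hmi _ _ ga, ← hb, hm, gb]; exact hinv _ _ x0_2
      · rw [hmi _ _ gb, hxb, hm, ga]; exact hinv _ _ x0_3
      · rw [hmi _ _ gc, ← he, hm, ge]; exact hinv _ _ x0_12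
      · rw [hmi _ _ ge, hxe, hm, gc]; exact hinv _ _ x0_14
  exact (inv_mul_eq_one.mp key).symm

/-! ### The centraliser of the base involution -/

/-- The centraliser of the base involution. -/
abbrev C0 : Subgroup ↥M0 := Subgroup.centralizer ({x0} : Set ↥M0)

theorem tK_ok (x : X) :
    memOK (tK (code x)) = true ∧ tabConjOK (tK (code x)) x0T x0T = true := by
  have := all_guard K1 (code_lt x) (code_valid x)
  rwa [Bool.and_eq_true] at this

theorem mk_mem_C0 (x : X) : mk (tK (code x)) (tK_ok x).1 ∈ C0 := by
  rw [Subgroup.mem_centralizer_iff]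
  intro h hh
  rw [Set.mem_singleton_iff] at hh
  subst hh
  apply val2_injective
  rw [map_mul, map_mul, val2_mk]
  exact (permOf_conj_of_tables (memOK_spec (tK_ok x).1).1 x0_inv x0_inv (tK_ok x).2).symm

/-- The homomorphism from `GL(2,3)`. -/
def ψ : X →* ↥C0 where
  toFun x := ⟨mk (tK (code x)) (tK_ok x).1, mk_mem_C0 x⟩
  map_one' := by
    apply Subtype.ext
    apply val2_injective
    show permOf (tK (code 1)) = val2 1
    rw [map_one, code_one]
    exact permOf_eq_one (memOK_spec (by have := (tK_ok 1).1; rwa [code_one] at this)).1 K3one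
  map_mul' x y := by
    apply Subtype.ext
    apply val2_injective
    show permOf (tK (code (x * y))) = val2 (mk _ (tK_ok x).1 * mk _ (tK_ok y).1)
    rw [map_mul, val2_mk, val2_mk, code_mul]
    have h' : tabMulOK (tK (code x)) (tK (code y)) (tK (mulc (code x) (code y))) = true :=
      all_guard (all_guard K3 (code_lt x) (code_valid x)) (code_lt y) (code_valid y)
    have hxy := (tK_ok (x * y)).1
    rw [code_mul] at hxy
    exact permOf_mul_of_tables (memOK_spec (tK_ok x).1).1 (memOK_spec (tK_ok y).1).1
      (memOK_spec hxy).1 h'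

theorem val2_ψ (x : X) : val2 (ψ x).1 = permOf (tK (code x)) := rfl

theorem ψ_injective : Function.Injective ψ := by
  rw [injective_iff_map_eq_one]
  intro x hx
  have h1 : permOf (tK (code x)) = permOf (tK 28) := by
    have := congrArg (fun g : ↥C0 => val2 g.1) hx
    simp only [val2_ψ] at this
    rw [this]
    have h28 := (tK_ok 1).1
    rw [code_one] at h28
    rw [permOf_eq_one (memOK_spec h28).1 K3one]
    rfl
  have h28 := (tK_ok 1).1
  rw [code_one] at h28
  have h2 := tabEq_of_permOf_eq (memOK_spec (tK_ok x).1).1 (memOK_spec h28).1 h1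
  have h3 := all_guard K4 (code_lt x) (code_valid x)
  rw [h2] at h3
  simp only [Bool.not_true, Bool.false_or, beq_iff_eq] at h3
  apply code_injective
  rw [h3, code_one]

/-- The fixed points of the base involution in the base dodecad, other than `pt 0`. -/
def Fx : Finset GolayPt := toFinset maskF

/-- The points of the base dodecad moved by the base involution. -/
def Vx : Finset GolayPt := toFinset maskV

theorem card_Fx : Fx.card = 3 := by
  rw [Fx, card_toFinset]; decide +kernel

theorem card_Vx : Vx.card = 8 := by
  rw [Vx, card_toFinset]; decide +kernel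

theorem lk_eq_of_apply {p q : GolayPt} (h : val2 x0 p = q) : lk x0T.1 (idx p) = idx q := by
  have h1 : permOf x0T p = q := h
  rw [permOf_apply x0_inv p] at h1
  have hlt : lk x0T.1 (idx p) < 24 := (checkInv_spec x0_inv (idx_lt p)).1
  rw [← idx_pt hlt, h1]

theorem mem_Fx {p : GolayPt} (hp : p ∈ d0) (h0 : p ≠ pt 0) (hfix : val2 x0 p = p) : p ∈ Fx := by
  rw [Fx, mem_toFinset]
  apply F_spec (idx p) (idx_lt p) (by rwa [mem_toFinset] at hp)
  · intro h
    apply h0
    rw [← pt_idx p, h]
  · exact lk_eq_of_apply hfix

theorem mem_Vx {p : GolayPt} (hp : p ∈ d0) (hmv : val2 x0 p ≠ p) : p ∈ Vx := by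
  rw [Vx, mem_toFinset]
  apply V_spec (idx p) (idx_lt p) (by rwa [mem_toFinset] at hp)
  intro h
  apply hmv
  have h1 : permOf x0T p = pt (lk x0T.1 (idx p)) := permOf_apply x0_inv p
  show permOf x0T p = p
  rw [h1, h, pt_idx]

theorem comm_apply (g : ↥C0) (p : GolayPt) : val2 x0 (val2 g.1 p) = val2 g.1 (val2 x0 p) := by
  have h := Subgroup.mem_centralizer_iff.mp g.2 x0 rfl
  have := congrArg (fun t => val2 t p) h
  simpa using this

theorem card_C0_le : Nat.card ↥C0 ≤ 48 := by
  have hp15 : pt 15 ∈ d0 := pt_mem_d0 (by norm_num) (by decide +kernel)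
  have hp20 : pt 20 ∈ d0 := pt_mem_d0 (by norm_num) (by decide +kernel)
  have hp2 : pt 2 ∈ d0 := pt_mem_d0 (by norm_num) (by decide +kernel)
  have hp3 : pt 3 ∈ d0 := pt_mem_d0 (by norm_num) (by decide +kernel)
  have hp0 : pt 0 ∈ d0 := pt_mem_d0 (by norm_num) (by decide +kernel)
  have hne : ∀ i < 24, ∀ j < 24, i ≠ j → pt i ≠ pt j := fun i hi j hj hij h =>
    hij (pt_injective hi hj h)
  -- images of fixed points are fixed points
  have hfix : ∀ (g : ↥C0) (p : GolayPt), p ∈ d0 → p ≠ pt 0 → val2 x0 p = p →
      val2 g.1 p ∈ Fx := by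
    intro g p hp hp0 hpf
    apply mem_Fx ((val2_mem_d0 g.1 p).mpr hp)
    · intro h
      apply hp0
      apply (val2 g.1).injective
      rw [h, val2_pt0]
    · rw [comm_apply, hpf]
  let Φ : ↥C0 → {t : (GolayPt × GolayPt) × GolayPt // t ∈ Fx.offDiag ×ˢ Vx} := fun g =>
    ⟨((val2 g.1 (pt 15), val2 g.1 (pt 20)), val2 g.1 (pt 2)), by
      rw [Finset.mem_product, Finset.mem_offDiag]
      refine ⟨⟨hfix g _ hp15 (hne _ (by norm_num) _ (by norm_num) (by norm_num)) x0_15,
        hfix g _ hp20 (hne _ (by norm_num) _ (by norm_num) (by norm_num)) x0_20, ?_⟩, ?_⟩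
      · intro h
        exact hne 15 (by norm_num) 20 (by norm_num) (by norm_num) ((val2 g.1).injective h)
      · apply mem_Vx ((val2_mem_d0 g.1 _).mpr hp2)
        rw [comm_apply, x0_2]
        intro h
        exact hne 3 (by norm_num) 2 (by norm_num) (by norm_num) ((val2 g.1).injective h)⟩
  have hinj : Function.Injective Φ := by
    intro g g' h
    have h' := congrArg Subtype.val h
    simp only [Φ, Prod.mk.injEq] at h'
    obtain ⟨⟨e1, e2⟩, e3⟩ := h'
    have e4 : val2 g.1 (pt 3) = val2 g'.1 (pt 3) := by
      rw [← x0_2, ← comm_apply, ← comm_apply, e3]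
    have key : g.1⁻¹ * g'.1 = 1 := by
      apply eq_one_of_fix _ ([pt 0, pt 15, pt 20, pt 2, pt 3] : List GolayPt).toFinset
      · rw [List.toFinset_card_of_nodup]
        · rfl
        · simp only [List.nodup_cons, List.mem_cons, List.not_mem_nil, or_false, not_or,
            List.nodup_nil, and_true, not_false_eq_true]
          refine ⟨⟨?_, ?_, ?_, ?_⟩, ⟨?_, ?_, ?_⟩, ⟨?_, ?_⟩, ?_⟩ <;>
            exact hne _ (by norm_num) _ (by norm_num) (by norm_num)
      · intro y hy
        simp only [List.toFinset_cons, List.toFinset_nil, Finset.mem_insert, Finset.mem_singleton,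
          insert_empty_eq] at hy
        rcases hy with rfl | rfl | rfl | rfl | rfl <;> assumption
      · intro y hy
        have hinv : ∀ p, val2 g.1 p = val2 g'.1 p → val2 (g.1⁻¹ * g'.1) p = p := by
          intro p hp
          rw [map_mul, map_inv, Equiv.Perm.coe_mul, Function.comp, ← hp]
          show (val2 g.1)⁻¹ (val2 g.1 p) = p
          simp
        simp only [List.toFinset_cons, List.toFinset_nil, Finset.mem_insert, Finset.mem_singleton,
          insert_empty_eq] at hy
        rcases hy with rfl | rfl | rfl | rfl | rfl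
        · exact hinv _ (by rw [val2_pt0, val2_pt0])
        · exact hinv _ e1
        · exact hinv _ e2
        · exact hinv _ e3
        · exact hinv _ e4
    apply Subtype.ext
    exact inv_mul_eq_one.mp key
  have h1 := Nat.card_le_card_of_injective Φ hinj
  have h2 : Nat.card {t : (GolayPt × GolayPt) × GolayPt // t ∈ Fx.offDiag ×ˢ Vx} = 48 := by
    rw [Nat.card_eq_fintype_card, Fintype.card_coe, Finset.card_product, Finset.offDiag_card,
      card_Fx, card_Vx]
  rw [h2] at h1
  exact h1

theorem base_equiv : Nonempty (↥C0 ≃* X) := by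
  have hfin : Finite ↥C0 := inferInstance
  have hbij : Function.Bijective ψ := by
    rw [Nat.bijective_iff_injective_and_card]
    refine ⟨ψ_injective, le_antisymm ?_ ?_⟩
    · exact Nat.card_le_card_of_injective ψ ψ_injective
    · rw [card_X]; exact card_C0_le
  exact ⟨(MulEquiv.ofBijective ψ hbij).symm⟩

/-! ### Transport to an arbitrary dodecad and point -/

/-- Conjugation by `k ∈ M24` identifies the stabiliser of `(k • d, k p)` with that of `(d, p)`. -/
def conjEquiv {k : Equiv.Perm GolayPt} (hk : k ∈ M24) (d : Finset GolayPt) (p : GolayPt) :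
    ↥(MulAction.stabilizer Cfsg.M24 (k • d) ⊓ MulAction.stabilizer Cfsg.M24 (k p)) ≃*
      ↥(MulAction.stabilizer Cfsg.M24 d ⊓ MulAction.stabilizer Cfsg.M24 p) where
  toFun g := ⟨⟨k⁻¹ * g.1.1 * k, M24.mul_mem (M24.mul_mem (M24.inv_mem hk) g.1.2) hk⟩, by
    have h1 : g.1.1 • (k • d) = k • d := g.2.1
    have h2 : g.1.1 (k p) = k p := g.2.2
    refine ⟨?_, ?_⟩
    · show (k⁻¹ * g.1.1 * k) • d = d
      rw [mul_smul, mul_smul, h1, inv_smul_smul]
    · show (k⁻¹ * g.1.1 * k) p = p
      simp only [Equiv.Perm.coe_mul, Function.comp]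
      rw [h2]; simp⟩
  invFun g := ⟨⟨k * g.1.1 * k⁻¹, M24.mul_mem (M24.mul_mem hk g.1.2) (M24.inv_mem hk)⟩, by
    have h1 : g.1.1 • d = d := g.2.1
    have h2 : g.1.1 p = p := g.2.2
    refine ⟨?_, ?_⟩
    · show (k * g.1.1 * k⁻¹) • (k • d) = k • d
      rw [mul_smul, mul_smul, inv_smul_smul, h1]
    · show (k * g.1.1 * k⁻¹) (k p) = k p
      simp only [Equiv.Perm.coe_mul, Function.comp]
      simp [h2]⟩
  left_inv g := by
    apply Subtype.ext
    apply Subtype.ext
    show k * (k⁻¹ * g.1.1 * k) * k⁻¹ = g.1.1
    group
  right_inv g := by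
    apply Subtype.ext
    apply Subtype.ext
    show k⁻¹ * (k * g.1.1 * k⁻¹) * k = g.1.1
    group
  map_mul' a b := by
    apply Subtype.ext
    apply Subtype.ext
    show k⁻¹ * (a.1.1 * b.1.1) * k = (k⁻¹ * a.1.1 * k) * (k⁻¹ * b.1.1 * k)
    group

theorem exists_base (d : Finset GolayPt) (hd : d ∈ dodecads) (p : GolayPt) (hp : p ∈ d) :
    ∃ k ∈ M24, k • d0 = d ∧ k (pt 0) = p := by
  obtain ⟨h, hh, rfl⟩ := dodecads_transitive hd
  have hp0 : pt 0 ∈ d0 := pt_mem_d0 (by norm_num) (by decide +kernel)
  obtain ⟨g0, hg0, hmap⟩ := Cfsg.Agent.Helper7.m12_five_trans hd [h (pt 0)] [p] (by simp) (by simp)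
    (by
      intro x hx
      simp only [List.mem_cons, List.not_mem_nil, or_false] at hx
      rw [hx]
      exact (apply_mem_smul_iff h _ _).mpr hp0)
    (by simp [hp]) rfl (by simp)
  rw [Cfsg.Agent.Helper7.mem_setStab] at hg0
  simp only [List.map_cons, List.map_nil, List.cons.injEq, and_true] at hmap
  refine ⟨g0 * h, M24.mul_mem hg0.1 hh, ?_, ?_⟩
  · rw [mul_smul, hg0.2]
  · simpa using hmap

theorem base_result (x : ↥M0) (hx : orderOf x = 2) :
    Nonempty (↥(Subgroup.centralizer ({x} : Set ↥M0)) ≃* X) := by
  obtain ⟨m, hm⟩ := conj_to_base x hx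
  obtain ⟨e⟩ := base_equiv
  have e1 := centralizerEquiv (MulAut.conj m) x
  have h : (MulAut.conj m) x = x0 := by rw [MulAut.conj_apply]; exact hm
  rw [h] at e1
  exact ⟨e1.trans e⟩

/-- Involution centralisers in the smallest Mathieu group are isomorphic to GL(2, 3). -/
theorem result (d : Finset Cfsg.GolayPt) (hd : d ∈ Cfsg.dodecads) (p : Cfsg.GolayPt) (hp : p ∈ d) (x : ↥(MulAction.stabilizer Cfsg.M24 d ⊓ MulAction.stabilizer Cfsg.M24 p)) (hx : orderOf x = 2) : Nonempty (↥(Subgroup.centralizer ({x} : Set ↥(MulAction.stabilizer Cfsg.M24 d ⊓ MulAction.stabilizer Cfsg.M24 p))) ≃* GL (Fin 2) (ZMod 3)) := by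
  obtain ⟨k, hk, rfl, rfl⟩ := exists_base d hd p hp
  have e := conjEquiv hk d0 (pt 0)
  have hx' : orderOf (e x) = 2 := by rw [MulEquiv.orderOf_eq]; exact hx
  obtain ⟨e2⟩ := base_result (e x) hx'
  exact ⟨(centralizerEquiv e x).trans e2⟩

end Cfsg.Agent.S1603
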