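import Cfsg.Statements.S1604
import Mathlib
import Cfsg.Agent.Lib.Helper27.Pairs

set_option autoImplicit false
set_option maxRecDepth 1000000
open scoped Pointwise
open Cfsg

namespace Cfsg.Agent.S1604

open Cfsg.Agent.Helper27

/-- The base octad (through the two base points). -/
def b0 : ℕ := 9347075

/-- Generators of the stabiliser of the two base points. -/
def gens22 : List (ℕ × ℕ) :=
  [(178348722225088932800424691700893728, 522054546307270992807962573179947040),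
   (522054546307270992807962573179947040, 178348722225088932800424691700893728),
   (752466751415993770411534166825282592, 840721871451685391930314277439355936),
   (840721871451685391930314277439355936, 752466751415993770411534166825282592)]

def wordsB : List (List ℕ) :=
  [[], [3,3], [3,3,1,3], [3,3,1], [3,1,2,1], [2,1], [1,2,0], [0,2,0,3,0,3], [1,1,2], [2,0,3,0],
   [3,1,2], [0,3,3,1,2], [1,1,2,2], [3,1], [1,3,1], [0,3], [1,1,2,2,0], [0,0,3,0,2,1], [1,2,0,2],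
   [2,1,3], [3,1,1,2], [0,2], [1,2,0,3], [0,0,2,0,0], [0,0,3], [3,3,0,0], [1,2,2], [0,0,2],
   [2,0,0], [0,3,3,1], [0,0,2,1,1], [2], [2,0,3,0,2], [1,2,2,1], [0,0,2,0], [3,1,2,0], [0,0,3,1,1],
   [3,1,3], [0,0,2,1], [0,2,1], [0,0,2,2], [0,0,2,1,3], [1,2,0,3,0], [1,2], [0,2,0], [0], [2,0,3],
   [1,2,0,2,0], [0,0,3,1,2], [2,0], [0,3,1], [0,0,2,2,1], [3,1,3,3], [3,3,0], [0,0,3,0,2], [0,0],
   [0,0,3,0], [1], [0,3,3,1,2,1], [3], [0,2,1,2], [0,2,0,3], [3,3,1,1], [0,2,0,3,0], [2,1,1,2,0],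
   [2,1,1], [0,3,3], [1,1], [2,1,1,2], [3,3,1,2], [1,3], [2,2], [0,2,2], [0,3,0], [3,1,1],
   [0,3,3,1,1], [0,0,3,1]]

/-- Generators of the stabiliser of the two base points and the base octad. -/
def gens3 : List (ℕ × ℕ) :=
  [(627427135056678743290189350555523104, 799999814130440573743749526734967840),
   (799999814130440573743749526734967840, 627427135056678743290189350555523104),
   (712772583288673723248122048860860448, 637527569912342640794316896665776160),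
   (637527569912342640794316896665776160, 712772583288673723248122048860860448)]

def wordsC : List (List ℕ) :=
  [[], [], [2,1,3], [0,0,0], [1,2,1], [1,1,1], [0,3], [2,1], [0,0,2,1,2], [0,0,0,2], [0,0,0,0,3],
   [2], [], [2,0,3], [0,0,2,0], [0,2,1,3], [1,1,1,2], [1,3], [1,1,2,1], [1,1], [1,1,3], [2,0,3,3],
   [0,2,0], [0,3,3], [1], [0,0], [0,0,2], [0,2], [1,3,1], [0,0,3,0], [0,0], [0,2,0,3], [1,2,2],
   [0,2,1,1], [0,3,1], [3], [1,2,0], [0,0,3], [1,3,3,1], [1,2,1,3], [2,2], [2,0,2,0], [0,0,0,2,0],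
   [1,2,0,2], [2,0], [3,0], [0,2,1], [1,2,0], [2,1,2], [1,1], [0], [1,2], [2,1,2,0], [2,1,2,2],
   [3,0,2,1], [2,2,2], [1,3,3], [0,0,2,0,3], [2,1,3,3], [0,0,2,1], [1,2], [1,1,2], [0], [1,2,2,2],
   [0,3,3,1], [3], [0,0,0,0], [2], [0,2], [3,0,2], [1], [2,0,2], [0,0,0,2,2], [1,2,0,3], [1,3],
   [0,0,3], [3,1]]

/-- Octads through both base points. -/
def L : List ℕ := octadList.filter fun m => m.testBit 0 && m.testBit 1

def inv3 (m : ℕ) : ℕ := pop (b0 &&& m)

def rep3 (k : ℕ) : ℕ := if k = 2 then 2162811 else if k = 4 then 5902343 else b0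

theorem gens22_ok : ∀ g ∈ gens22, genOK [2 ^ 0, 2 ^ 1] g = true := by decide +kernel

theorem gens3_ok : ∀ g ∈ gens3, genOK [2 ^ 0, 2 ^ 1, b0] g = true := by decide +kernel

theorem certB : certCheck gens22 (fun _ => [b0]) (fun m => [m]) L wordsB = true := by
  decide +kernel

theorem certC : certCheck gens3 (fun m => [rep3 (inv3 m)]) (fun m => [m]) L wordsC = true := by
  decide +kernel

theorem count2 : (L.filter fun m => inv3 m == 2).length = 16 := by decide +kernel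

theorem count4 : (L.filter fun m => inv3 m == 4).length = 60 := by decide +kernel

theorem b0_mem_L : b0 ∈ L := by decide +kernel

/-- The family under study, for a pair of points. -/
def S (p q : GolayPt) : Set (Finset GolayPt) := {x | x ∈ octads ∧ p ∈ x ∧ q ∈ x}

theorem mem_S_base {s : Finset GolayPt} : s ∈ S (pt 0) (pt 1) ↔ ∃ m ∈ L, s = toFinset m := by
  unfold S L
  simp only [Set.mem_ofPred_eq]
  constructor
  · rintro ⟨hs, hp, hq⟩
    obtain ⟨m, hm, rfl⟩ := mem_octads_iff'.mp hs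
    refine ⟨m, ?_, rfl⟩
    rw [List.mem_filter]
    rw [pt_mem_toFinset (by norm_num)] at hp hq
    refine ⟨hm, ?_⟩
    simp only [Bool.and_eq_true]
    exact ⟨hp, hq⟩
  · rintro ⟨m, hm, rfl⟩
    rw [List.mem_filter] at hm
    simp only [Bool.and_eq_true] at hm
    refine ⟨toFinset_mem_octads hm.1, ?_, ?_⟩
    · rw [pt_mem_toFinset (by norm_num)]; exact hm.2.1
    · rw [pt_mem_toFinset (by norm_num)]; exact hm.2.2

theorem smul_mem_S {h : Equiv.Perm GolayPt} (hh : h ∈ M24) (p q : GolayPt) (s : Finset GolayPt) :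
    h • s ∈ S (h p) (h q) ↔ s ∈ S p q := by
  unfold S
  simp only [Set.mem_ofPred_eq]
  rw [smul_mem_octads hh, smul_mem_smul_iff, smul_mem_smul_iff]

theorem inv_smul_mem_S {h : Equiv.Perm GolayPt} (hh : h ∈ M24) (p q : GolayPt) (s : Finset GolayPt)
    (hs : s ∈ S (h p) (h q)) : h⁻¹ • s ∈ S p q := by
  rw [← smul_mem_S hh, smul_inv_smul]; exact hs

theorem L_lt {m : ℕ} (hm : m ∈ L) : m < 2 ^ 24 := octadList_lt (List.mem_of_mem_filter hm)

theorem L_nodup : L.Nodup := octadList_nodup.filter _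

theorem base_sub_eq (k : ℕ) :
    {s : Finset GolayPt | s ∈ S (pt 0) (pt 1) ∧ (toFinset b0 ∩ s).card = k} =
      {s | ∃ m ∈ L.filter (fun m => inv3 m == k), s = toFinset m} := by
  ext s
  simp only [Set.mem_ofPred_eq]
  constructor
  · rintro ⟨hs, hc⟩
    obtain ⟨m, hm, rfl⟩ := mem_S_base.mp hs
    refine ⟨m, ?_, rfl⟩
    rw [List.mem_filter, beq_iff_eq]
    refine ⟨hm, ?_⟩
    unfold inv3
    rw [← card_toFinset, toFinset_and, hc]
  · rintro ⟨m, hm, rfl⟩
    rw [List.mem_filter, beq_iff_eq] at hm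
    refine ⟨mem_S_base.mpr ⟨m, hm.1, rfl⟩, ?_⟩
    have := hm.2
    unfold inv3 at this
    rw [← toFinset_and, card_toFinset, this]

theorem base_sub_count (k : ℕ) :
    {s : Finset GolayPt | s ∈ S (pt 0) (pt 1) ∧ (toFinset b0 ∩ s).card = k}.ncard =
      (L.filter (fun m => inv3 m == k)).length := by
  rw [base_sub_eq, ncard_of_list]
  · exact L_nodup.filter _
  · intro m hm
    exact L_lt (List.mem_of_mem_filter hm)

theorem sub_count_transport (h : Equiv.Perm GolayPt) (hh : h ∈ M24) (k : ℕ) :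
    {s : Finset GolayPt | s ∈ S (h (pt 0)) (h (pt 1)) ∧ (h • toFinset b0 ∩ s).card = k}.ncard =
      (L.filter (fun m => inv3 m == k)).length := by
  rw [← base_sub_count]
  apply ncard_transport h
  intro s
  simp only [Set.mem_ofPred_eq]
  rw [smul_mem_S hh, card_smul_inter]

/-- A hexad stabiliser in the two-point stabiliser has orbits of sizes 1, 16, 60 on the 77 hexads: the 16 hexads disjoint from it and the 60 meeting it in two points. -/
theorem result (p q : Cfsg.GolayPt) (hpq : p ≠ q) (o o' o'' : Finset Cfsg.GolayPt) (ho : o ∈ Cfsg.octads) (ho' : o' ∈ Cfsg.octads) (ho'' : o'' ∈ Cfsg.octads) (hp : p ∈ o ∧ p ∈ o' ∧ p ∈ o'') (hq : q ∈ o ∧ q ∈ o' ∧ q ∈ o'') (h : (o ∩ o').card = (o ∩ o'').card) : {x : Finset Cfsg.GolayPt | x ∈ Cfsg.octads ∧ p ∈ x ∧ q ∈ x ∧ (o ∩ x).card = 2}.ncard = 16 ∧ {x : Finset Cfsg.GolayPt | x ∈ Cfsg.octads ∧ p ∈ x ∧ q ∈ x ∧ (o ∩ x).card = 4}.ncard = 60 ∧ ∃ g : Equiv.Perm Cfsg.GolayPt, g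 ∈ Cfsg.M24 ∧ g p = p ∧ g q = q ∧ g • o = o ∧ g • o' = o'' := by
  obtain ⟨h1, hh1, rfl, rfl⟩ := pairs_transitive hpq
  have hoS : o ∈ S (h1 (pt 0)) (h1 (pt 1)) := ⟨ho, hp.1, hq.1⟩
  have ho'S : o' ∈ S (h1 (pt 0)) (h1 (pt 1)) := ⟨ho', hp.2.1, hq.2.1⟩
  have ho''S : o'' ∈ S (h1 (pt 0)) (h1 (pt 1)) := ⟨ho'', hp.2.2, hq.2.2⟩
  have hset : ∀ k : ℕ, {x : Finset GolayPt | x ∈ octads ∧ h1 (pt 0) ∈ x ∧ h1 (pt 1) ∈ x ∧
      (o ∩ x).card = k} = {x : Finset GolayPt | x ∈ S (h1 (pt 0)) (h1 (pt 1)) ∧ (o ∩ x).card = k} := by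
    intro k
    ext x
    simp only [S, Set.mem_ofPred_eq, and_assoc]
  rw [hset 2, hset 4]
  clear hset
  -- transitivity of the two-point stabiliser on the family
  have trans : ∀ o o' : Finset GolayPt, o ∈ S (h1 (pt 0)) (h1 (pt 1)) →
      o' ∈ S (h1 (pt 0)) (h1 (pt 1)) →
      ∃ g0 ∈ stabOf [2 ^ 0, 2 ^ 1], g0 • (h1⁻¹ • o) = h1⁻¹ • o' := by
    intro o o' ho ho'
    obtain ⟨m, hm, e⟩ := mem_S_base.mp (inv_smul_mem_S hh1 _ _ _ ho)
    obtain ⟨m', hm', e'⟩ := mem_S_base.mp (inv_smul_mem_S hh1 _ _ _ ho')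
    obtain ⟨g0, hg0, eg⟩ := same_orbit_of_cert gens22_ok (fun _ => 0) (fun _ => b0) L wordsB certB
      m hm m' hm' rfl
    exact ⟨g0, hg0, by rw [e, e', eg]⟩
  -- move the base octad to `o`
  have hbase : h1 • toFinset b0 ∈ S (h1 (pt 0)) (h1 (pt 1)) := by
    rw [smul_mem_S hh1]; exact mem_S_base.mpr ⟨b0, b0_mem_L, rfl⟩
  obtain ⟨g0, hg0, eg⟩ := trans _ o hbase hoS
  rw [inv_smul_smul] at eg
  have hp' : (h1 * g0) (pt 0) = h1 (pt 0) := by
    rw [Equiv.Perm.mul_apply, stabOf_fix_pt hg0 (by norm_num) (by simp)]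
  have hq' : (h1 * g0) (pt 1) = h1 (pt 1) := by
    rw [Equiv.Perm.mul_apply, stabOf_fix_pt hg0 (by norm_num) (by simp)]
  have hoe : (h1 * g0) • toFinset b0 = o := by
    rw [mul_smul, eg, smul_inv_smul]
  have hh : h1 * g0 ∈ M24 := M24.mul_mem hh1 hg0.1
  rw [← hp', ← hq'] at ho'S ho''S ⊢
  rw [← hoe] at h ⊢
  generalize h1 * g0 = hg at hh ho'S ho''S h ⊢
  refine ⟨?_, ?_, ?_⟩
  · rw [sub_count_transport hg hh 2, count2]
  · rw [sub_count_transport hg hh 4, count4]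
  · have key : ∀ t : Finset GolayPt, t ∈ S (hg (pt 0)) (hg (pt 1)) →
        ∃ m ∈ L, hg⁻¹ • t = toFinset m ∧ inv3 m = (hg • toFinset b0 ∩ t).card := by
      intro t ht
      obtain ⟨m, hm, e⟩ := mem_S_base.mp (inv_smul_mem_S hh _ _ _ ht)
      refine ⟨m, hm, e, ?_⟩
      unfold inv3
      rw [← card_toFinset, toFinset_and, ← e, ← card_smul_inter hg, smul_inv_smul]
    obtain ⟨m1, hm1, e1, i1⟩ := key o' ho'S
    obtain ⟨m2, hm2, e2, i2⟩ := key o'' ho''S
    obtain ⟨g3, hg3, eg3⟩ := same_orbit_of_cert gens3_ok inv3 rep3 L wordsC certC m1 hm1 m2 hm2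
      (by rw [i1, i2, h])
    refine ⟨hg * g3 * hg⁻¹, conj_mem_M24 hh hg3, ?_, ?_, ?_, ?_⟩
    · exact conj_fix_pt hg3 (by norm_num) (by simp)
    · exact conj_fix_pt hg3 (by norm_num) (by simp)
    · exact conj_fix hg3 (by simp)
    · have := conj_smul hg g3 _ _ eg3
      rwa [← e1, ← e2, smul_inv_smul, smul_inv_smul] at this

end Cfsg.Agent.S1604
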