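import Cfsg.Statements.S1606
import Mathlib
import Cfsg.Agent.Lib.Helper91.M22Core

set_option autoImplicit false
open scoped Pointwise
open Cfsg

namespace Cfsg.Agent.S1606

open Cfsg.Agent.Helper7 Cfsg.Agent.Helper91

theorem factorization_of_eq (p n m e : ℕ) (hp : p.Prime) (h : n = p ^ e * m) (hm : ¬ p ∣ m) :
    n.factorization p = e := by
  subst h
  have hm0 : m ≠ 0 := by
    rintro rfl
    exact hm (dvd_zero p)
  have : Fact p.Prime := ⟨hp⟩
  rw [Nat.factorization_def _ hp, padicValNat.mul (pow_ne_zero _ hp.ne_zero) hm0,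
    padicValNat.prime_pow, padicValNat.eq_zero_of_not_dvd hm, add_zero]

theorem orderOf_m22α : orderOf m22α = 11 := by
  have h1 : m22α ^ 11 = 1 := by
    have h : KTab (m22α * m22α ^ 10) (kmul m22aK (m22aPow.getD 10 kid)) :=
      m22α_tab.mul (m22α_pow_tab 10 (by norm_num))
    rw [m22ab_facts.2.2.2.2.2.2.2.2.2.2] at h
    rw [pow_succ', h.eq_one]
  have h2 : m22α ≠ 1 := by
    intro h
    have := m22α_tab.apply 1 (by norm_num)
    rw [h, Equiv.Perm.one_apply] at this
    have := congrArg idx this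
    rw [idx_pt 1 (by norm_num), idx_pt _ (m22α_tab.kget_lt 1 (by norm_num))] at this
    revert this
    decide +kernel
  have : Fact (Nat.Prime 11) := ⟨by norm_num⟩
  exact orderOf_eq_prime h1 h2

theorem m22α_mem_stab : m22α ∈ stabL M24 [pt 23, pt 0] := by
  rw [mem_stabL]
  refine ⟨m22α_mem, ?_⟩
  intro b hb
  simp only [List.mem_cons, List.not_mem_nil, or_false] at hb
  rcases hb with rfl | rfl
  · exact m22α_fix23
  · exact m22α_fix0

/-- Some element of `M11` moves the point `∞`. -/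
theorem exists_m11_moving : ∃ σ ∈ Spor.M11, σ (pt 23) ≠ pt 23 := by
  obtain ⟨σ, hσ, ht, _⟩ := goodTabs_M11_of_ok m11Syl2_ok
    [0, 1, 4, 12, 2, 14, 9, 7, 18, 6, 10, 17, 3, 13, 5, 15, 16, 11, 8, 20, 19, 21, 23, 22]
    (by decide)
  refine ⟨σ, hσ, ?_⟩
  rw [ht.apply 23 (by norm_num)]
  decide

/-- A subgroup of the stabiliser of `∞, 0` containing `a` and without elements of order 7. -/
theorem base_case (H : Subgroup (Equiv.Perm GolayPt)) (hH : H ≤ stabL M24 [pt 23, pt 0])
    (ha : m22α ∈ H) (h7 : ¬ 7 ∣ Nat.card H) : Nat.card H ∣ 7920 ∧ Nat.card H ≠ 7920 := by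
  have hle : H ≤ Spor.M11 := by
    intro g hg
    have hg' := hH hg
    rcases m22_core g hg' with hQ | ⟨x, hx, hord⟩
    · rw [mem_M11_iff]
      rw [mem_stabL] at hg'
      exact ⟨hg'.1, hQ, hg'.2 _ (by simp)⟩
    · exfalso
      apply h7
      have hxH : x ∈ H := by
        have : Subgroup.closure ({m22α, g} : Set (Equiv.Perm GolayPt)) ≤ H := by
          rw [Subgroup.closure_le]
          rintro z (rfl | hz)
          · exact ha
          · rw [Set.mem_singleton_iff.mp hz]; exact hg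
        exact this hx
      rw [← hord]
      exact Subgroup.orderOf_dvd_natCard H hxH
  refine ⟨?_, ?_⟩
  · rw [← card_M11]
    exact Subgroup.card_dvd_of_le hle
  · intro hcard
    have heq : H = Spor.M11 := Subgroup.eq_of_le_of_card_ge hle (by rw [card_M11, hcard])
    obtain ⟨σ, hσ, hmove⟩ := exists_m11_moving
    rw [← heq] at hσ
    have := hH hσ
    rw [mem_stabL] at this
    exact hmove (this.2 _ (by simp))

/-- A subgroup of the stabiliser of `∞, 0` of order divisible by 11 and not by 7. -/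
theorem conj_case (H : Subgroup (Equiv.Perm GolayPt)) (hH : H ≤ stabL M24 [pt 23, pt 0])
    (h11 : 11 ∣ Nat.card H) (h7 : ¬ 7 ∣ Nat.card H) : Nat.card H ∣ 7920 ∧ Nat.card H ≠ 7920 := by
  have hGcard : Nat.card ↥(stabL M24 [pt 23, pt 0]) = 443520 := card_stab2 _ _ (by decide)
  have : Fact (Nat.Prime 11) := ⟨by norm_num⟩
  obtain ⟨h, hh⟩ := exists_prime_orderOf_dvd_card' (G := ↥H) 11 h11
  let h' : ↥(stabL M24 [pt 23, pt 0]) := ⟨h.1, hH h.2⟩
  let a' : ↥(stabL M24 [pt 23, pt 0]) := ⟨m22α, m22α_mem_stab⟩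
  have hh' : orderOf h' = 11 := by
    rw [← hh, ← Subgroup.orderOf_coe h, ← Subgroup.orderOf_coe h']
  have ha' : orderOf a' = 11 := by
    rw [← orderOf_m22α, ← Subgroup.orderOf_coe a']
  have hfac : (Nat.card ↥(stabL M24 [pt 23, pt 0])).factorization 11 = 1 := by
    rw [hGcard]
    exact factorization_of_eq 11 443520 40320 1 (by norm_num) (by norm_num) (by norm_num)
  have hP1 : IsPGroup 11 ↥(Subgroup.zpowers h') :=
    IsPGroup.of_card (n := 1) (by rw [Nat.card_zpowers, hh', pow_one])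
  have hP2 : IsPGroup 11 ↥(Subgroup.zpowers a') :=
    IsPGroup.of_card (n := 1) (by rw [Nat.card_zpowers, ha', pow_one])
  obtain ⟨Q1, hQ1⟩ := hP1.exists_le_sylow
  obtain ⟨Q2, hQ2⟩ := hP2.exists_le_sylow
  have hQ2card : Nat.card ↥(Q2 : Subgroup ↥(stabL M24 [pt 23, pt 0])) = 11 := by
    rw [Q2.card_eq_multiplicity, hfac, pow_one]
  have hQ2eq : Subgroup.zpowers a' = (Q2 : Subgroup ↥(stabL M24 [pt 23, pt 0])) :=
    Subgroup.eq_of_le_of_card_ge hQ2 (by rw [hQ2card, Nat.card_zpowers, ha'])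
  obtain ⟨c, hc⟩ := MulAction.exists_smul_eq ↥(stabL M24 [pt 23, pt 0]) Q1 Q2
  have hxmem : h' ∈ (Q1 : Subgroup ↥(stabL M24 [pt 23, pt 0])) := hQ1 (Subgroup.mem_zpowers _)
  have hmem : c * h' * c⁻¹ ∈ (Q2 : Subgroup ↥(stabL M24 [pt 23, pt 0])) := by
    rw [← hc, Sylow.coe_subgroup_smul]
    have := Subgroup.smul_mem_pointwise_smul _ (MulAut.conj c) _ hxmem
    rwa [MulAut.smul_def, MulAut.conj_apply] at this
  rw [← hQ2eq] at hmem
  have hord : orderOf (c * h' * c⁻¹) = 11 := by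
    have := MulEquiv.orderOf_eq (MulAut.conj c) h'
    rw [MulAut.conj_apply] at this
    rw [this, hh']
  have hz : Subgroup.zpowers (c * h' * c⁻¹) = Subgroup.zpowers a' :=
    Subgroup.eq_of_le_of_card_ge (Subgroup.zpowers_le.mpr hmem)
      (by rw [Nat.card_zpowers, Nat.card_zpowers, ha', hord])
  have hamem : a' ∈ Subgroup.zpowers (c * h' * c⁻¹) := by
    rw [hz]; exact Subgroup.mem_zpowers a'
  obtain ⟨n, hn⟩ := Subgroup.mem_zpowers_iff.mp hamem
  set H3 := H.map (MulAut.conj (c : Equiv.Perm GolayPt)).toMonoidHom with hH3def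
  have hcard3 : Nat.card ↥H3 = Nat.card ↥H :=
    Subgroup.card_map_of_injective (MulEquiv.injective _)
  have hH3 : H3 ≤ stabL M24 [pt 23, pt 0] := by
    rintro _ ⟨x, hx, rfl⟩
    show (c : Equiv.Perm GolayPt) * x * (c : Equiv.Perm GolayPt)⁻¹ ∈ stabL M24 [pt 23, pt 0]
    exact Subgroup.mul_mem _ (Subgroup.mul_mem _ c.2 (hH hx)) (Subgroup.inv_mem _ c.2)
  have hx3 : (c : Equiv.Perm GolayPt) * h.1 * (c : Equiv.Perm GolayPt)⁻¹ ∈ H3 :=
    ⟨h.1, h.2, rfl⟩
  have ha3 : m22α ∈ H3 := by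
    have e := congrArg Subtype.val hn
    have e' : ((c : Equiv.Perm GolayPt) * h.1 * (c : Equiv.Perm GolayPt)⁻¹) ^ n = m22α := by
      rw [Subgroup.coe_zpow, Subgroup.coe_mul, Subgroup.coe_mul, Subgroup.coe_inv] at e
      exact e
    rw [← e']
    exact Subgroup.zpow_mem _ hx3 n
  have := base_case H3 hH3 ha3 (by rwa [hcard3])
  rwa [hcard3] at this

/-- The same for the stabiliser of any two points. -/
theorem main (H : Subgroup (Equiv.Perm GolayPt)) (p q : GolayPt) (hpq : p ≠ q)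
    (hH : H ≤ stabL M24 [p, q]) (h11 : 11 ∣ Nat.card H) (h7 : ¬ 7 ∣ Nat.card H) :
    Nat.card H ∣ 7920 ∧ Nat.card H ≠ 7920 := by
  obtain ⟨k, hk, hmap⟩ := m24_five_trans [p, q] [pt 23, pt 0] (by simp [hpq]) (by decide) rfl
    (by simp)
  simp only [List.map_cons, List.map_nil, List.cons.injEq, and_true] at hmap
  obtain ⟨kp, kq⟩ := hmap
  set H2 := H.map (MulAut.conj k).toMonoidHom with hH2def
  have hcard2 : Nat.card ↥H2 = Nat.card ↥H :=
    Subgroup.card_map_of_injective (MulEquiv.injective _)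
  have hH2 : H2 ≤ stabL M24 [pt 23, pt 0] := by
    rintro _ ⟨x, hx, rfl⟩
    have hx' := hH hx
    rw [mem_stabL] at hx' ⊢
    refine ⟨?_, ?_⟩
    · show k * x * k⁻¹ ∈ M24
      exact M24.mul_mem (M24.mul_mem hk hx'.1) (M24.inv_mem hk)
    · intro b hb
      simp only [List.mem_cons, List.not_mem_nil, or_false] at hb
      show (k * x * k⁻¹) b = b
      rcases hb with rfl | rfl
      · have hkinv : k⁻¹ (k p) = p := by rw [Equiv.Perm.inv_eq_iff_eq]
        rw [Equiv.Perm.mul_apply, Equiv.Perm.mul_apply, ← kp, hkinv, hx'.2 p (by simp)]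
      · have hkinv : k⁻¹ (k q) = q := by rw [Equiv.Perm.inv_eq_iff_eq]
        rw [Equiv.Perm.mul_apply, Equiv.Perm.mul_apply, ← kq, hkinv, hx'.2 q (by simp)]
  have := conj_case H2 hH2 (by rwa [hcard2]) (by rwa [hcard2])
  rwa [hcard2] at this

/-- The stabiliser of two points in the group of the length-24 code has no subgroups of index 56 or 210. -/
theorem result (p q : Cfsg.GolayPt) (hpq : p ≠ q) (H : Subgroup ↥(MulAction.stabilizer Cfsg.M24 p ⊓ MulAction.stabilizer Cfsg.M24 q)) : H.index ≠ 56 ∧ H.index ≠ 210 := by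
  have hG : Nat.card ↥(MulAction.stabilizer ↥M24 p ⊓ MulAction.stabilizer ↥M24 q) = 443520 := by
    rw [card_stabilizer_inf, card_stab2 p q hpq]
  have hidx := H.index_mul_card
  rw [hG] at hidx
  -- the image of `H` in the symmetric group
  set H1 : Subgroup (Equiv.Perm GolayPt) :=
    (H.map (MulAction.stabilizer ↥M24 p ⊓ MulAction.stabilizer ↥M24 q).subtype).map M24.subtype
    with hH1def
  have hcard1 : Nat.card ↥H1 = Nat.card ↥H := by
    rw [hH1def, Subgroup.card_map_of_injective M24.subtype_injective,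
      Subgroup.card_map_of_injective (Subgroup.subtype_injective _)]
  have hH1 : H1 ≤ stabL M24 [p, q] := by
    rintro _ ⟨_, ⟨x, _, rfl⟩, rfl⟩
    rw [mem_stabL]
    refine ⟨x.1.2, ?_⟩
    intro b hb
    simp only [List.mem_cons, List.not_mem_nil, or_false] at hb
    have hx := x.2
    rw [Subgroup.mem_inf, MulAction.mem_stabilizer_iff, MulAction.mem_stabilizer_iff] at hx
    rcases hb with rfl | rfl
    · exact hx.1
    · exact hx.2
  constructor
  · intro h56
    rw [h56] at hidx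
    have hc : Nat.card ↥H1 = 7920 := by rw [hcard1]; omega
    have := main H1 p q hpq hH1 (by rw [hc]; norm_num) (by rw [hc]; norm_num)
    exact this.2 hc
  · intro h210
    rw [h210] at hidx
    have hc : Nat.card ↥H1 = 2112 := by rw [hcard1]; omega
    have := main H1 p q hpq hH1 (by rw [hc]; norm_num) (by rw [hc]; norm_num)
    rw [hc] at this
    exact absurd this.1 (by norm_num)

end Cfsg.Agent.S1606
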