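import Cfsg.Statements.S1609
import Cfsg.Agent.Lib.Helper27.Idx253d
import Cfsg.Agent.Lib.Helper7.M24Stab
import Cfsg.Agent.Lib.Helper7.M24Trans

set_option autoImplicit false
open scoped Pointwise
open Cfsg

namespace Cfsg.Agent.S1609

open Cfsg.Agent.Helper27 Cfsg.Agent.Helper27.Idx253

/-- The embedding of the point stabiliser into the symmetric group. -/
noncomputable def emb (x : GolayPt) : ↥(MulAction.stabilizer Cfsg.M24 x) →* Equiv.Perm GolayPt :=
  (Cfsg.M24).subtype.comp (MulAction.stabilizer Cfsg.M24 x).subtype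

theorem emb_injective (x : GolayPt) : Function.Injective (emb x) := by
  intro a b h
  apply Subtype.ext
  apply Subtype.ext
  exact h

theorem emb_mem (x : GolayPt) (k : ↥(MulAction.stabilizer Cfsg.M24 x)) : emb x k ∈ Cfsg.M24 :=
  k.1.2

theorem emb_fix (x : GolayPt) (k : ↥(MulAction.stabilizer Cfsg.M24 x)) : emb x k x = x :=
  k.2

theorem card_stab (x : GolayPt) : Nat.card ↥(MulAction.stabilizer Cfsg.M24 x) = 10200960 := by
  rw [← Cfsg.Agent.Helper7.card_stab1 x]
  have h1 : (⊤ : Subgroup ↥(MulAction.stabilizer Cfsg.M24 x)).map (emb x) =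
      Cfsg.Agent.Helper7.stabIn M24 x := by
    ext g
    rw [Cfsg.Agent.Helper7.mem_stabIn, Subgroup.mem_map]
    constructor
    · rintro ⟨k, _, rfl⟩
      exact ⟨emb_mem x k, emb_fix x k⟩
    · rintro ⟨hg, hgx⟩
      exact ⟨⟨⟨g, hg⟩, hgx⟩, Subgroup.mem_top _, rfl⟩
  rw [← h1, Subgroup.card_map_of_injective (emb_injective x), Subgroup.card_top]

/-- The conclusion, from the description of the image subgroup. -/
theorem key (x : GolayPt) (H : Subgroup ↥(MulAction.stabilizer Cfsg.M24 x)) (h0 : Equiv.Perm GolayPt)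
    (h0M : h0 ∈ Cfsg.M24) (h0x : h0 none = x) (s0 : Finset GolayPt)
    (hH : ∀ k : ↥(MulAction.stabilizer Cfsg.M24 x), k ∈ H ↔ h0⁻¹ * emb x k * h0 ∈ stab23 s0) :
    H = (MulAction.stabilizer Cfsg.M24 (h0 • s0)).subgroupOf (MulAction.stabilizer Cfsg.M24 x) := by
  ext k
  rw [hH, mem_stab23, Subgroup.mem_subgroupOf, MulAction.mem_stabilizer_iff]
  have hM : h0⁻¹ * emb x k * h0 ∈ Cfsg.Spor.M23 := by
    rw [M23Gen.mem_M23]
    refine ⟨M24.mul_mem (M24.mul_mem (M24.inv_mem h0M) (emb_mem x k)) h0M, ?_⟩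
    rw [Equiv.Perm.mul_apply, Equiv.Perm.mul_apply, h0x, emb_fix x k, Equiv.Perm.inv_eq_iff_eq, h0x]
  constructor
  · rintro ⟨_, h2⟩
    show emb x k • h0 • s0 = h0 • s0
    rw [mul_smul, mul_smul] at h2
    rw [inv_smul_eq_iff] at h2
    exact h2
  · intro h2
    refine ⟨hM, ?_⟩
    rw [mul_smul, mul_smul, inv_smul_eq_iff]
    exact h2

/-- Subgroups of index 253 in the Mathieu group of degree 23 are exactly the duad stabilisers and the heptad stabilisers. -/
theorem result (x : Cfsg.GolayPt) (H : Subgroup ↥(MulAction.stabilizer Cfsg.M24 x)) (hH : H.index = 253) : (∃ s : Finset Cfsg.GolayPt, s.card = 2 ∧ x ∉ s ∧ H = (MulAction.stabilizer Cfsg.M24 s).subgroupOf (MulAction.stabilizer Cfsg.M24 x)) ∨ ∃ o ∈ Cfsg.octads, x ∈ o ∧ H = (MulAction.stabilizer Cfsg.M24 o).subgroupOf (MulAction.stabilizer Cfsg.M24 x) := by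
  -- the order of `H`
  have hcardH : Nat.card ↥H = 40320 := by
    have := H.index_mul_card
    rw [hH, card_stab x] at this
    omega
  -- an element of `M24` carrying `∞` to `x`
  obtain ⟨h0, h0M, h0e⟩ := Cfsg.Agent.Helper7.m24_five_trans [none] [x] (by simp) (by simp) rfl
    (by simp)
  have h0x : h0 none = x := by simpa using h0e
  -- the conjugated image of `H`
  set H0 : Subgroup (Equiv.Perm GolayPt) :=
    (H.map (emb x)).map (MulAut.conj h0⁻¹).toMonoidHom with hH0
  have hmem0 : ∀ k : ↥(MulAction.stabilizer Cfsg.M24 x), k ∈ H ↔ h0⁻¹ * emb x k * h0 ∈ H0 := by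
    intro k
    rw [hH0]
    constructor
    · intro hk
      refine ⟨emb x k, ⟨k, hk, rfl⟩, ?_⟩
      simp [MulAut.conj_apply]
    · rintro ⟨_, ⟨k', hk', rfl⟩, e⟩
      have e' : h0⁻¹ * emb x k' * h0 = h0⁻¹ * emb x k * h0 := by
        simpa [MulAut.conj_apply] using e
      have : emb x k' = emb x k := by
        exact mul_left_cancel (mul_right_cancel e')
      rw [← emb_injective x this]
      exact hk'
  have hcard0 : Nat.card ↥H0 = 40320 := by
    rw [hH0, Subgroup.card_map_of_injective (MulAut.conj h0⁻¹).injective,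
      Subgroup.card_map_of_injective (emb_injective x), hcardH]
  have hle0 : H0 ≤ Cfsg.Spor.M23 := by
    rintro _ ⟨_, ⟨k, _, rfl⟩, rfl⟩
    rw [M23Gen.mem_M23]
    refine ⟨?_, ?_⟩
    · simp only [MulEquiv.coe_toMonoidHom, MulAut.conj_apply, inv_inv]
      exact M24.mul_mem (M24.mul_mem (M24.inv_mem h0M) (emb_mem x k)) h0M
    · simp only [MulEquiv.coe_toMonoidHom, MulAut.conj_apply, inv_inv]
      rw [Equiv.Perm.mul_apply, Equiv.Perm.mul_apply, h0x, emb_fix x k, Equiv.Perm.inv_eq_iff_eq,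
        h0x]
  rcases main1 H0 hle0 hcard0 with ⟨s0, hs0, hx0, hHs⟩ | ⟨o0, ho0, hx0, hHo⟩
  · left
    refine ⟨h0 • s0, by rw [Finset.card_smul_finset, hs0], ?_, ?_⟩
    · rw [← h0x]
      intro hmem
      exact hx0 ((smul_mem_smul_iff h0 none s0).mp hmem)
    · apply key x H h0 h0M h0x s0
      intro k
      rw [hmem0, hHs]
  · right
    refine ⟨h0 • o0, (smul_mem_octads h0M).mpr ho0, ?_, ?_⟩
    · rw [← h0x]
      exact (smul_mem_smul_iff h0 none o0).mpr hx0
    · apply key x H h0 h0M h0x o0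
      intro k
      rw [hmem0, hHo]

end Cfsg.Agent.S1609
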