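import Cfsg.Statements.S5345

set_option autoImplicit false
open Cfsg

namespace Cfsg.Agent.S5345

/-- two involutions whose product lies in a 2-group and has square or cube one commute -/
theorem commute_of_mem {G : Type*} [Group G] {P : Subgroup G} (hP : IsPGroup 2 P) {a b : G}
    (ha : a ^ 2 = 1) (hb : b ^ 2 = 1) (haP : a ∈ P) (hbP : b ∈ P)
    (h : (a * b) ^ 2 = 1 ∨ (a * b) ^ 3 = 1) : Commute a b := by
  have h2 : (a * b) ^ 2 = 1 := by
    rcases h with h | h
    · exact h
    · obtain ⟨k, hk⟩ := hP ⟨a * b, P.mul_mem haP hbP⟩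
      have hk' : (a * b) ^ (2 ^ k) = 1 := by
        have := congrArg Subtype.val hk
        simpa using this
      have h1 : orderOf (a * b) ∣ 2 ^ k := orderOf_dvd_of_pow_eq_one hk'
      have h3 : orderOf (a * b) ∣ 3 := orderOf_dvd_of_pow_eq_one h
      have hcop : Nat.Coprime (2 ^ k) 3 := Nat.Coprime.pow_left _ (by decide)
      have : orderOf (a * b) ∣ Nat.gcd (2 ^ k) 3 := Nat.dvd_gcd h1 h3
      rw [hcop] at this
      have h1 : a * b = 1 := orderOf_eq_one_iff.mp (Nat.dvd_one.mp this)
      rw [h1, one_pow]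
  have hainv : a⁻¹ = a := by rw [inv_eq_iff_mul_eq_one, ← ha, pow_two]
  have hbinv : b⁻¹ = b := by rw [inv_eq_iff_mul_eq_one, ← hb, pow_two]
  show a * b = b * a
  have : a * b * (a * b) = 1 := by rw [← pow_two]; exact h2
  calc a * b = (a * b * (a * b)) * (b⁻¹ * a⁻¹) := by group
    _ = b * a := by rw [this, one_mul, hainv, hbinv]

/-- Let D be a conjugation-invariant generating set of 3-transpositions of a finite group G and T a Sylow 2-subgroup of G. Then the members of D lying in T generate an abelian subgroup, and their number is the width of D (the largest number of pairwise commuting members of D). -/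
theorem result {G : Type*} [Group G] [Finite G] {D : Set G} (hD : Cfsg.IsThreeTranspositionGroup D) (T : Sylow 2 G) : IsMulCommutative (Subgroup.closure {d : G | d ∈ D ∧ d ∈ T}) ∧ {d : G | d ∈ D ∧ d ∈ T}.ncard = Cfsg.commutingWidth D := by
  classical
  obtain ⟨⟨hord, hprod⟩, hconj, -⟩ := hD
  have hsq : ∀ d ∈ D, d ^ 2 = 1 := fun d hd => by
    rw [← hord d hd]; exact pow_orderOf_eq_one d
  have hcomm : ∀ (S : Sylow 2 G), ∀ a ∈ {d : G | d ∈ D ∧ d ∈ S}, ∀ b ∈ {d : G | d ∈ D ∧ d ∈ S}, Commute a b := by
    rintro S a ⟨haD, haT⟩ b ⟨hbD, hbT⟩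
    exact commute_of_mem S.isPGroup' (hsq a haD) (hsq b hbD) haT hbT (hprod a haD b hbD)
  refine ⟨Subgroup.isMulCommutative_closure (fun a ha b hb => hcomm T a ha b hb), ?_⟩
  -- the width
  have hfin : ∀ s : Set G, s.Finite := fun s => Set.toFinite s
  have hbdd : BddAbove {n : ℕ | ∃ E : Set G, E ⊆ D ∧ E.Finite ∧ (∀ a ∈ E, ∀ b ∈ E, Commute a b) ∧ E.ncard = n} := by
    refine ⟨Nat.card G, ?_⟩
    rintro n ⟨E, -, -, -, rfl⟩
    rw [← Set.ncard_univ]
    exact Set.ncard_le_ncard (Set.subset_univ _) (hfin _)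
  apply le_antisymm
  · apply le_csSup hbdd
    exact ⟨_, fun x hx => hx.1, hfin _, fun a ha b hb => hcomm T a ha b hb, rfl⟩
  · apply csSup_le
    · exact ⟨0, ∅, Set.empty_subset _, Set.finite_empty, by simp, by simp⟩
    · rintro n ⟨E, hED, -, hEc, rfl⟩
      -- closure E is a 2-group
      have hcl : ∀ x ∈ Subgroup.closure E, x ^ 2 = 1 := by
        have hcommE := Subgroup.isMulCommutative_closure (k := E) (fun a ha b hb => hEc a ha b hb)
        intro x hx
        induction hx using Subgroup.closure_induction with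
        | mem x hx => exact hsq x (hED hx)
        | one => simp
        | mul x y hx hy ihx ihy =>
          have : Commute x y := setLike_mul_comm (s := Subgroup.closure E) hx hy
          rw [this.mul_pow, ihx, ihy, one_mul]
        | inv x hx ih => rw [inv_pow, ih, inv_one]
      have hP : IsPGroup 2 (Subgroup.closure E) := by
        rintro ⟨x, hx⟩
        refine ⟨1, ?_⟩
        apply Subtype.ext
        simpa using hcl x hx
      obtain ⟨Q, hQ⟩ := hP.exists_le_sylow
      obtain ⟨g, hg⟩ := MulAction.exists_smul_eq G Q T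
      -- conjugation by g maps E into D ∩ T
      have hmaps : ∀ x ∈ E, g * x * g⁻¹ ∈ {d : G | d ∈ D ∧ d ∈ T} := by
        intro x hx
        refine ⟨hconj g x (hED hx), ?_⟩
        have hxQ : x ∈ Q := hQ (Subgroup.subset_closure hx)
        have : g * x * g⁻¹ ∈ g • Q := by
          have h1 := Subgroup.smul_mem_pointwise_smul x (MulAut.conj g) (Q : Subgroup G) hxQ
          have h2 : g * x * g⁻¹ ∈ ((g • Q : Sylow 2 G) : Subgroup G) := by
            rw [Sylow.coe_subgroup_smul]
            simpa [MulAut.smul_def] using h1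
          exact h2
        rw [hg] at this
        exact this
      have hinj : Set.InjOn (fun x => g * x * g⁻¹) E := by
        intro x _ y _ hxy
        simpa using hxy
      calc E.ncard = ((fun x => g * x * g⁻¹) '' E).ncard := (Set.InjOn.ncard_image hinj).symm
        _ ≤ _ := Set.ncard_le_ncard (by rintro _ ⟨x, hx, rfl⟩; exact hmaps x hx) (hfin _)

end Cfsg.Agent.S5345
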