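import Cfsg.Statements.S1612
import Mathlib
import Cfsg.Agent.S0215
import Cfsg.Agent.S5350
import Cfsg.Agent.S5345
import Cfsg.Agent.Lib.Helper88.Rank3Prim

set_option autoImplicit false
open Cfsg

namespace Cfsg.Agent.S1612

open Cfsg.Agent.Helper88 Cfsg.Agent.Helper88.Rank3 Cfsg.Agent.Helper88.TTStruct
  Cfsg.Agent.Helper88.TTBlock Cfsg.Agent.Helper88.TTMod

/-- two `p`-subgroups of a subgroup `K` can be put into a common Sylow `p`-subgroup after
conjugating one of them by a member of `K` -/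
theorem exists_conj_common_sylow {G : Type*} [Group G] [Finite G] {p : ℕ} [Fact p.Prime]
    (K A B : Subgroup G) (hA : IsPGroup p A) (hB : IsPGroup p B) (hAK : A ≤ K) (hBK : B ≤ K) :
    ∃ k ∈ K, ∃ T : Sylow p G, A ≤ (T : Subgroup G) ∧ ∀ b ∈ B, k * b * k⁻¹ ∈ (T : Subgroup G) := by
  have hA' : IsPGroup p (A.subgroupOf K) := hA.comap_subtype
  have hB' : IsPGroup p (B.subgroupOf K) := hB.comap_subtype
  obtain ⟨QA, hQA⟩ := hA'.exists_le_sylow
  obtain ⟨QB, hQB⟩ := hB'.exists_le_sylow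
  obtain ⟨k, hk⟩ := MulAction.exists_smul_eq ↥K QB QA
  have hP : IsPGroup p ((QA : Subgroup K).map K.subtype) := QA.isPGroup'.map _
  obtain ⟨T, hT⟩ := hP.exists_le_sylow
  refine ⟨k, k.2, T, ?_, ?_⟩
  · intro a ha
    apply hT
    exact ⟨⟨a, hAK ha⟩, hQA (Subgroup.mem_subgroupOf.2 ha), rfl⟩
  · intro b hb
    apply hT
    have h1 : (⟨b, hBK hb⟩ : K) ∈ (QB : Subgroup K) := hQB (Subgroup.mem_subgroupOf.2 hb)
    have h2 : MulAut.conj k • (⟨b, hBK hb⟩ : K) ∈ ((k • QB : Sylow p K) : Subgroup K) := by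
      rw [Sylow.smul_def, Sylow.pointwise_smul_def]
      exact Subgroup.smul_mem_pointwise_smul _ _ _ h1
    rw [hk] at h2
    refine ⟨_, h2, ?_⟩
    simp [MulAut.smul_def, MulAut.conj_apply]

/-- In a 3-transposition group (no solvable normal subgroup, perfect derived group), the normaliser of a commuting set of transpositions of maximum size contains a Sylow 2-subgroup and is doubly transitive on the set. -/
theorem result {G : Type*} [Group G] [Finite G] (hsol : ∀ N : Subgroup G, N.Normal → Group.IsSolvable ↥N → N = ⊥) (hperf : ⁅commutator G, commutator G⁆ = commutator G) {D : Set G} (hD : Cfsg.IsThreeTranspositionClass D) {E : Set G} (hE : E ⊆ D) (hc : ∀ a ∈ E, ∀ b ∈ E, Commute a b) (hmax : ∀ E' : Set G, E' ⊆ D → (∀ a ∈ E', ∀ b ∈ E', Commute a b) → E'.ncard ≤ E.ncard) : (∃ P : Sylow 2 G, (P : Subgroup G) ≤ Subgroup.normalizer E) ∧ ∀ a ∈ E, ∀ b ∈ E, ∀ c ∈ E, ∀ d ∈ E, a ≠ b → c ≠ d → ∃ g ∈ Subgroup.normalizer E, g * a * g⁻¹ = c ∧ g * b * g⁻¹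 = d := by
  have hT : TT D := TT.of_class hD
  have hG : IsThreeTranspositionGroup D := class_group hD
  -- members of `D` in a Sylow 2-subgroup commute
  have hcomm2 : ∀ (T : Sylow 2 G), ∀ a ∈ {d : G | d ∈ D ∧ d ∈ T}, ∀ b ∈ {d : G | d ∈ D ∧ d ∈ T},
      Commute a b := by
    intro T a ha b hb
    have h1 := (Cfsg.Agent.S5345.result hG T).1
    have ha' : a ∈ Subgroup.closure {d : G | d ∈ D ∧ d ∈ T} := Subgroup.subset_closure ha
    have hb' : b ∈ Subgroup.closure {d : G | d ∈ D ∧ d ∈ T} := Subgroup.subset_closure hb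
    have := h1.is_comm.comm ⟨a, ha'⟩ ⟨b, hb'⟩
    exact congrArg Subtype.val this
  -- `E` is the set of members of `D` in any Sylow 2-subgroup containing it
  have hET : ∀ (T : Sylow 2 G), (∀ e ∈ E, e ∈ (T : Subgroup G)) → E = {d : G | d ∈ D ∧ d ∈ T} := by
    intro T hsub
    apply Set.eq_of_subset_of_ncard_le
    · intro e he
      exact ⟨hE he, hsub e he⟩
    · exact hmax _ (fun d hd => hd.1) (hcomm2 T)
    · exact Set.toFinite _
  have hE2 : IsPGroup 2 (Subgroup.closure E) :=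
    isPGroup_two_closure (fun x hx => hT.sq x (hE hx)) hc
  have hTnorm : ∀ (T : Sylow 2 G), E = {d : G | d ∈ D ∧ d ∈ T} →
      (T : Subgroup G) ≤ Subgroup.normalizer E := by
    intro T hEq t ht n
    rw [hEq]
    have e : t⁻¹ * (t * n * t⁻¹) * t = n := by group
    constructor
    · rintro ⟨hn, hnT⟩
      exact ⟨hT.conj t n hn,
        (T : Subgroup G).mul_mem ((T : Subgroup G).mul_mem ht hnT) ((T : Subgroup G).inv_mem ht)⟩
    · rintro ⟨hn, hnT⟩
      refine ⟨?_, ?_⟩
      · have := hT.conj' hn t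
        rwa [e] at this
      · have := (T : Subgroup G).mul_mem ((T : Subgroup G).mul_mem ((T : Subgroup G).inv_mem ht) hnT) ht
        rwa [e] at this
  refine ⟨?_, ?_⟩
  · obtain ⟨T, hTle⟩ := hE2.exists_le_sylow
    exact ⟨T, hTnorm T (hET T (fun e he => hTle (Subgroup.subset_closure he)))⟩
  · intro a ha b hb c hcE d hdE hab hcd
    have hZ : Cfsg.Agent.Helper20.ZStarHyp :=
      fun G _ _ P x hx hxP hiso => Cfsg.Agent.S0215.result P x hx hxP hiso
    have hD2 : ∃ a ∈ D, ∃ b ∈ D, a ≠ b := ⟨a, hE ha, b, hE hb, hab⟩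
    have hw : ∃ a ∈ D, ∃ b ∈ D, a ≠ b ∧ Commute a b := ⟨a, hE ha, b, hE hb, hab, hc a ha b hb⟩
    have hprim := primitive_of_fischer hZ hsol hperf hD hD2
    have hP := primHyp_of_primitive hZ hD hprim hw
      (fun d hd => (Cfsg.Agent.S5350.result hD hD2 hd).2)
    obtain ⟨g₁, hg₁⟩ := exists_conj_of_class hD (hE ha) (hE hcE)
    have hb' : g₁ * b * g₁⁻¹ ∈ D := hT.conj g₁ b (hE hb)
    have hb'c : g₁ * b * g₁⁻¹ ≠ c := by
      rw [← hg₁]
      intro h
      apply hab
      have h3 : g₁⁻¹ * (g₁ * b * g₁⁻¹) * g₁ = g₁⁻¹ * (g₁ * a * g₁⁻¹) * g₁ := by rw [h]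
      have e : ∀ t : G, g₁⁻¹ * (g₁ * t * g₁⁻¹) * g₁ = t := fun t => by group
      rw [e, e] at h3
      exact h3.symm
    have hcb' : Commute c (g₁ * b * g₁⁻¹) := by
      rw [← hg₁]
      exact (Commute.conj_iff g₁).2 (hc a ha b hb)
    obtain ⟨g₂, hg₂c, hg₂⟩ := trans_D hP (hE hcE) _ hb' d (hE hdE) hb'c (Ne.symm hcd) hcb'
      (hc c hcE d hdE)
    have hga : (g₂ * g₁) * a * (g₂ * g₁)⁻¹ = c := by
      have e1 : (g₂ * g₁) * a * (g₂ * g₁)⁻¹ = g₂ * (g₁ * a * g₁⁻¹) * g₂⁻¹ := by group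
      rw [e1, hg₁]
      exact conj_eq_of_commute hg₂c
    have hgb : (g₂ * g₁) * b * (g₂ * g₁)⁻¹ = d := by
      have e1 : (g₂ * g₁) * b * (g₂ * g₁)⁻¹ = g₂ * (g₁ * b * g₁⁻¹) * g₂⁻¹ := by group
      rw [e1, hg₂]
    set g : G := g₂ * g₁ with hg
    set K : Subgroup G := Subgroup.centralizer ({c, d} : Set G) with hK
    have hB2 : IsPGroup 2 (Subgroup.closure (cj g E)) := by
      apply isPGroup_two_closure
      · rintro _ ⟨e, he, rfl⟩
        exact hT.sq _ (hT.conj g e (hE he))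
      · rintro _ ⟨e, he, rfl⟩ _ ⟨f, hf, rfl⟩
        exact (Commute.conj_iff g).2 (hc e he f hf)
    have hAK : Subgroup.closure E ≤ K := by
      rw [Subgroup.closure_le]
      intro e he
      rw [SetLike.mem_coe, hK, Subgroup.mem_centralizer_iff]
      rintro y (rfl | rfl)
      · exact (hc y hcE e he).eq
      · exact (hc y hdE e he).eq
    have hBK : Subgroup.closure (cj g E) ≤ K := by
      rw [Subgroup.closure_le]
      rintro _ ⟨e, he, rfl⟩
      rw [SetLike.mem_coe, hK, Subgroup.mem_centralizer_iff]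
      rintro y (rfl | rfl)
      · rw [← hga]
        exact ((Commute.conj_iff g).2 (hc a ha e he)).eq
      · have hy : y = g * b * g⁻¹ := hgb.symm
        rw [hy]
        exact ((Commute.conj_iff g).2 (hc b hb e he)).eq
    obtain ⟨k, hkK, T, hAT, hBT⟩ := exists_conj_common_sylow K _ _ hE2 hB2 hAK hBK
    have hEq := hET T (fun e he => hAT (Subgroup.subset_closure he))
    have himg : ∀ e ∈ E, (k * g) * e * (k * g)⁻¹ ∈ E := by
      intro e he
      rw [hEq]
      refine ⟨hT.conj _ e (hE he), ?_⟩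
      have := hBT (g * e * g⁻¹) (Subgroup.subset_closure ⟨e, he, rfl⟩)
      have e1 : k * g * e * (k * g)⁻¹ = k * (g * e * g⁻¹) * k⁻¹ := by group
      rw [e1]
      exact this
    have himage : cj (k * g) E = E := by
      apply Set.eq_of_subset_of_ncard_le
      · rintro _ ⟨e, he, rfl⟩
        exact himg e he
      · rw [ncard_cj]
      · exact Set.toFinite _
    rw [hK, Subgroup.mem_centralizer_iff] at hkK
    refine ⟨k * g, ?_, ?_, ?_⟩
    · intro n
      constructor
      · exact himg n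
      · intro hn
        rw [← himage, mem_cj] at hn
        have e : (k * g)⁻¹ * ((k * g) * n * (k * g)⁻¹) * (k * g) = n := by group
        rwa [e] at hn
    · have e1 : k * g * a * (k * g)⁻¹ = k * (g * a * g⁻¹) * k⁻¹ := by group
      rw [e1, hga]
      have := hkK c (Or.inl rfl)
      rw [← this]; group
    · have e1 : k * g * b * (k * g)⁻¹ = k * (g * b * g⁻¹) * k⁻¹ := by group
      rw [e1, hgb]
      have := hkK d (Or.inr rfl)
      rw [← this]; group

end Cfsg.Agent.S1612
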