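import Cfsg.Statements.S1615
import Mathlib
import Cfsg.Agent.S0215
import Cfsg.Agent.S5350
import Cfsg.Agent.Lib.Helper88.Rank3Prim
import Cfsg.Agent.Lib.Helper88.TwinCount
import Cfsg.Agent.Lib.Helper88.S5Cox
import Cfsg.Agent.Lib.Helper55.Cores
import Cfsg.Agent.Lib.Helper49.PPrimeCore

set_option autoImplicit false
open Cfsg

namespace Cfsg.Agent.S1615

open Cfsg.Agent.Helper88 Cfsg.Agent.Helper88.Rank3 Cfsg.Agent.Helper88.TTStruct
  Cfsg.Agent.Helper88.TTBlock Cfsg.Agent.Helper88.TTMod Cfsg.Agent.Helper88.Twin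

/-- half of the twin property, from a normal subgroup of odd order containing `y * y'` -/
theorem twin_half {G : Type*} [Group G] {D : Set G} (hT : TT D) (N : Subgroup G)
    (hodd : ∀ m ∈ N, m * m = 1 → m = 1) {x y y' : G}
    (hy : y ∈ dd D x) (hy' : y' ∈ dd D x) (hu : y * y' ∈ N)
    (hNconj : ∀ w ∈ dd D x, ∀ m ∈ N, w * m * w⁻¹ ∈ N) :
    tri D x y ⊆ tri D x y' := by
  rintro w ⟨hwD, hwx, hwy, hxw, hyw⟩
  have hw : w ∈ dd D x := ⟨hwD, hwx, hxw⟩
  have sww := hT.sq w hwD
  have syy := hT.sq y hy.1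
  have sy'y' := hT.sq y' hy'.1
  have hwy_mem : w * y ∈ N → False := by
    intro hmem
    have h1 : (w * y) * (w * y) = 1 := sq_eq_one_of_commute sww syy hyw.symm
    have h2 := hodd _ hmem h1
    apply hwy
    have : w = y⁻¹ := eq_inv_of_mul_eq_one_left h2
    rw [this, hT.inv_eq hy.1]
  have hu' : y' * y ∈ N := by
    have := N.inv_mem hu
    rwa [mul_inv_rev, hT.inv_eq hy.1, hT.inv_eq hy'.1] at this
  have hcomm : Commute y' w := by
    by_contra hnc
    have hb : y' * w * y' = w * y' * w := hT.braid hy'.1 hwD hnc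
    have h1 : w * (y * y') * w⁻¹ ∈ N := hNconj w hw _ hu
    have h2 : (y' * y) * (w * (y * y') * w⁻¹) ∈ N := N.mul_mem hu' h1
    have h3 : (y' * y) * (w * (y * y') * w⁻¹) = w * y' := by
      rw [hT.inv_eq hwD]
      calc (y' * y) * (w * (y * y') * w) = y' * (y * w) * y * y' * w := by group
        _ = y' * (w * y) * y * y' * w := by rw [hyw.eq]
        _ = y' * w * (y * y) * y' * w := by group
        _ = (y' * w * y') * w := by rw [syy]; group
        _ = w * y' * (w * w) := by rw [hb]; group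
        _ = w * y' := by rw [sww, mul_one]
    rw [h3] at h2
    apply hwy_mem
    have h4 : (w * y') * (y' * y) ∈ N := N.mul_mem h2 hu'
    have h5 : (w * y') * (y' * y) = w * y := by
      calc (w * y') * (y' * y) = w * (y' * y') * y := by group
        _ = w * y := by rw [sy'y', mul_one]
    rwa [h5] at h4
  refine ⟨hwD, hwx, ?_, hxw, hcomm⟩
  intro hwy'
  have hc : Commute y y' := by rw [← hwy']; exact hyw
  have h1 : (y * y') * (y * y') = 1 := sq_eq_one_of_commute syy sy'y' hc
  have h2 := hodd _ hu h1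
  apply hwy
  have : y = y'⁻¹ := eq_inv_of_mul_eq_one_left h2
  rw [hwy', this, hT.inv_eq hy'.1]

/-- the members of `D` commuting with `d`, together with one member not commuting with `d`,
generate the group -/
theorem closure_union_eq_top {G : Type*} [Group G] [Finite G] {D : Set G} (hP : PrimHyp D)
    {d b : G} (hd : d ∈ D) (hb : b ∈ D) (hdb : ¬ Commute d b) :
    Subgroup.closure ({y : G | y ∈ D ∧ Commute d y} ∪ {b}) = ⊤ := by
  set C : Set G := {y : G | y ∈ D ∧ Commute d y} with hC
  set H' : Subgroup G := Subgroup.closure (C ∪ {b}) with hH'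
  have hHD : IsDSubgroup D H' := by
    unfold IsDSubgroup
    apply le_antisymm
    · rw [Subgroup.closure_le]
      intro x hx
      exact hx.2
    · rw [hH']
      apply Subgroup.closure_mono
      rintro x (hx | hx)
      · exact ⟨hx.1, Subgroup.subset_closure (Or.inl hx)⟩
      · rw [Set.mem_singleton_iff] at hx
        subst hx
        exact ⟨hb, Subgroup.subset_closure (Or.inr rfl)⟩
  have hM : Subgroup.closure C ≤ H' := Subgroup.closure_mono Set.subset_union_left
  have hbH : b ∈ H' := Subgroup.subset_closure (Or.inr rfl)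
  rcases hP.max d hd H' hHD hM with h | h
  · exfalso
    rw [h] at hbH
    have hcen : Subgroup.closure C ≤ Subgroup.centralizer ({d} : Set G) := by
      rw [Subgroup.closure_le]
      intro y hy
      rw [SetLike.mem_coe, Subgroup.mem_centralizer_iff]
      intro z hz
      rw [Set.mem_singleton_iff] at hz
      subst hz
      exact hy.2.eq
    have := hcen hbH
    rw [Subgroup.mem_centralizer_iff] at this
    exact hdb (this d rfl)
  · exact h

/-- If O(⟨D_x⟩) is not central in ⟨D_x⟩ for some transposition x, the 3-transposition group is the symmetric group of degree 5. -/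
theorem result {G : Type*} [Group G] [Finite G] (hsol : ∀ N : Subgroup G, N.Normal → Group.IsSolvable ↥N → N = ⊥) (hperf : ⁅commutator G, commutator G⁆ = commutator G) {D : Set G} (hD : Cfsg.IsThreeTranspositionClass D) (x : G) (hx : x ∈ D) (h : ¬ Cfsg.oddCore ↥(Subgroup.closure {y : G | y ∈ D ∧ y ≠ x ∧ Commute x y}) ≤ Subgroup.center ↥(Subgroup.closure {y : G | y ∈ D ∧ y ≠ x ∧ Commute x y})) : Nonempty (G ≃* Equiv.Perm (Fin 5)) := by
  have hT : TT D := TT.of_class hD
  set H : Subgroup G := Subgroup.closure {y : G | y ∈ D ∧ y ≠ x ∧ Commute x y} with hH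
  have hHx : ∀ g ∈ H, Commute g x := by
    intro g hg
    have hle : H ≤ Subgroup.centralizer {x} := by
      apply (Subgroup.closure_le _).2
      intro y hy
      rw [SetLike.mem_coe, Subgroup.mem_centralizer_iff]
      rintro _ rfl
      exact hy.2.2.eq
    have := hle hg
    rw [Subgroup.mem_centralizer_iff] at this
    exact (this x rfl).symm
  rw [SetLike.not_le_iff_exists] at h
  obtain ⟨n, hnN, hnZ⟩ := h
  set N : Subgroup G := (Cfsg.oddCore ↥H).map H.subtype with hN
  have hnN' : (n : G) ∈ N := ⟨n, hnN, rfl⟩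
  have hNconj : ∀ g ∈ H, ∀ m ∈ N, g * m * g⁻¹ ∈ N := by
    intro g hg m hm
    exact Cfsg.Agent.Helper49.conj_mem_map_pPrimeCore 2 H g (Subgroup.le_normalizer hg) m hm
  have hodd : ∀ m ∈ N, m * m = 1 → m = 1 := by
    intro m hm hmm
    have hcard : (Nat.card N).Coprime 2 := by
      rw [hN, Subgroup.card_subtype]
      exact Cfsg.Agent.Helper55.pPrimeCore_coprime 2
    have h1 : orderOf m ∣ Nat.card N := Subgroup.orderOf_dvd_natCard N hm
    have h2 : orderOf m ∣ 2 := orderOf_dvd_of_pow_eq_one (by rw [pow_two]; exact hmm)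
    have h3 : orderOf m ∣ 1 := by
      have := Nat.dvd_gcd h1 h2
      rwa [hcard.gcd_eq_one] at this
    exact orderOf_eq_one_iff.1 (Nat.dvd_one.1 h3)
  have hex : ∃ y ∈ dd D x, ¬ Commute (n : G) y := by
    by_contra hcon
    push Not at hcon
    apply hnZ
    rw [Subgroup.mem_center_iff]
    intro g
    have hle : H ≤ Subgroup.centralizer {(n : G)} := by
      apply (Subgroup.closure_le _).2
      intro y hy
      rw [SetLike.mem_coe, Subgroup.mem_centralizer_iff]
      rintro _ rfl
      exact (hcon y hy).eq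
    have := hle g.2
    rw [Subgroup.mem_centralizer_iff] at this
    apply Subtype.ext
    exact (this _ rfl).symm
  obtain ⟨y, hy, hny⟩ := hex
  set n₀ : G := (n : G) with hn₀
  have hn₀H : n₀ ∈ H := n.2
  have hn₀x : Commute n₀ x := hHx n₀ hn₀H
  obtain ⟨y', hy'def⟩ : ∃ y' : G, y' = n₀ * y * n₀⁻¹ := ⟨_, rfl⟩
  have hy' : y' ∈ dd D x := by
    have : n₀ * y * n₀⁻¹ ∈ cj n₀ (dd D x) := conj_mem_cj hy
    rw [hy'def]
    rwa [cj_dd hT, conj_eq_of_commute hn₀x] at this
  have hne : y ≠ y' := by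
    intro h'
    apply hny
    show n₀ * y = y * n₀
    have : y * n₀ = n₀ * y * n₀⁻¹ * n₀ := by rw [← hy'def, ← h']
    rw [this]
    group
  have hyH : y ∈ H := Subgroup.subset_closure hy
  have hu : y * y' ∈ N := by
    have h1 : y * n₀ * y⁻¹ ∈ N := hNconj y hyH n₀ hnN'
    have h2 : y * n₀ * y⁻¹ * n₀⁻¹ ∈ N := N.mul_mem h1 (N.inv_mem hnN')
    have h3 : y * n₀ * y⁻¹ * n₀⁻¹ = y * y' := by
      rw [hy'def, hT.inv_eq hy.1]
      group
    rwa [h3] at h2
  have hu' : y' * y ∈ N := by
    have := N.inv_mem hu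
    rwa [mul_inv_rev, hT.inv_eq hy.1, hT.inv_eq hy'.1] at this
  have hNconj' : ∀ w ∈ dd D x, ∀ m ∈ N, w * m * w⁻¹ ∈ N :=
    fun w hw m hm => hNconj w (Subgroup.subset_closure hw) m hm
  have htw : tri D x y = tri D x y' :=
    Set.Subset.antisymm (twin_half hT N hodd hy hy' hu hNconj')
      (twin_half hT N hodd hy' hy hu' hNconj')
  have hcfg : TwinCfg D x y y' := ⟨hx, hy, hy', hne, htw⟩
  have hZ : Cfsg.Agent.Helper20.ZStarHyp :=
    fun G _ _ P x hx hxP hiso => Cfsg.Agent.S0215.result P x hx hxP hiso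
  have hD2 : ∃ a ∈ D, ∃ b ∈ D, a ≠ b := ⟨y, hy.1, y', hy'.1, hne⟩
  have hw : ∃ a ∈ D, ∃ b ∈ D, a ≠ b ∧ Commute a b := ⟨x, hx, y, hy.1, hy.2.1.symm, hy.2.2⟩
  have hprim := primitive_of_fischer hZ hsol hperf hD hD2
  have hP := primHyp_of_primitive hZ hD hprim hw
    (fun d hd => (Cfsg.Agent.S5350.result hD hD2 hd).2)
  have hdd := dd_eq_of_twin hZ hP hcfg
  obtain ⟨e, he, hey, hey', hex⟩ := exists_e hP hcfg
  have hyy' := hcfg.not_commute
  have hrel : S5Cox.Rel y y' e x :=
    { aa := hT.sq y hy.1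
      bb := hT.sq y' hy'.1
      cc := hT.sq e he
      dd := hT.sq x hx
      ca := hey.eq
      da := hy.2.2.eq
      db := hy'.2.2.eq
      bab := by
        have := hT.braid hy'.1 hy.1 (fun hh => hyy' hh.symm)
        rw [← mul_assoc, ← mul_assoc]
        exact this
      cbc := by
        have := hT.braid he hy'.1 hey'
        rw [← mul_assoc, ← mul_assoc]
        exact this
      dcd := by
        have := hT.braid hx he (fun hh => hex hh.symm)
        rw [← mul_assoc, ← mul_assoc]
        exact this }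
  obtain ⟨φ, hφinj, h0, h1, h2, h3⟩ := S5Cox.main hrel hne
  have hsurj : Function.Surjective φ := by
    rw [← MonoidHom.range_eq_top, eq_top_iff]
    have htop := closure_union_eq_top hP hx he (fun hh => hex hh.symm)
    rw [← htop, Subgroup.closure_le]
    rintro w (hw | hw)
    · by_cases hwx : w = x
      · rw [hwx]
        exact ⟨_, h3⟩
      · have hmem : w ∈ dd D x := ⟨hw.1, hwx, hw.2⟩
        rw [hdd] at hmem
        rcases hmem with hh | hh | hh
        · rw [hh]
          exact ⟨_, h0⟩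
        · rw [hh]
          exact ⟨_, h1⟩
        · rw [hh]
          exact ⟨Equiv.swap 0 1 * Equiv.swap 1 2 * Equiv.swap 0 1, by rw [map_mul, map_mul, h0, h1]⟩
    · rw [Set.mem_singleton_iff] at hw
      rw [hw]
      exact ⟨_, h2⟩
  exact ⟨(MulEquiv.ofBijective φ ⟨hφinj, hsurj⟩).symm⟩

end Cfsg.Agent.S1615
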