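import Cfsg.Statements.S1626
import Cfsg.Agent.Lib.Helper8.J3Iso

set_option autoImplicit false
open scoped MatrixGroups
open Matrix
open Cfsg

namespace Cfsg.Agent.S1626

/-- Orbits of the triple cover of the third Janko group on lines of its 9-space over the field with 4 elements: the line through the first basis vector has exactly 23256 images, and the isotropic lines (nonzero v with Σ v_z³ = 0) form a single orbit. -/
theorem result (F : Type) [Field F] [Fintype F] (hF : Fintype.card F = 4) (ω : F) (hω : ω ^ 2 + ω + 1 = 0) : {L : Submodule F (Cfsg.Spor.F9 → F) | ∃ g ∈ Cfsg.Spor.threeJ3 F ω, L = F ∙ ((g : Matrix Cfsg.Spor.F9 Cfsg.Spor.F9 F) *ᵥ (Pi.single (0 : Cfsg.Spor.F9) (1 : F) : Cfsg.Spor.F9 → F))}.ncard = 23256 ∧ ∀ v w : Cfsg.Spor.F9 → F, v ≠ 0 → w ≠ 0 → ∑ z, (v z) ^ 3 = 0 → ∑ z, (w z) ^ 3 = 0 → ∃ g ∈ Cfsg.Spor.threeJ3 F ω, ∃ c : F, c ≠ 0 ∧ (g : Matrix Cfsg.Spor.F9 Cfsg.Spor.F9 F) *ᵥ v = c • w := by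
  have : Fact (Nat.Prime 2) := ⟨Nat.prime_two⟩
  have : CharP F 2 := by
    have h4 : Fintype.card F = 2 ^ 2 := by rw [hF]; norm_num
    exact charP_of_card_eq_prime_pow h4
  have hω' : ω ^ 2 = ω + 1 := by
    have e : ω ^ 2 = ω ^ 2 + ω + 1 - (ω + 1) := by ring
    rw [e, hω, zero_sub]
    exact CharTwo.neg_eq _
  have hF' : Nat.card F = 4 := by rw [Nat.card_eq_fintype_card]; exact hF
  refine ⟨Cfsg.Agent.Helper8.J3M.lines_ncard ω hω', ?_⟩
  intro v w hv hw hv3 hw3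
  exact Cfsg.Agent.Helper8.J3M.iso_transitive ω hω' hF' v w hv hw hv3 hw3

end Cfsg.Agent.S1626
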