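import Cfsg.Statements.S1628
import Cfsg.Agent.Lib.Helper91.RuMain

set_option autoImplicit false
open Cfsg

namespace Cfsg.Agent.S1628

open Cfsg.Agent.Helper91.Ru in
/-- The Conway–Wales lattice as stored is even with no vectors of true norm 2: stored norms are multiples of 8, never equal to 8, and the minimum over nonzero vectors is 16. -/
theorem result : (∀ x ∈ Cfsg.Spor.ruLattice, (8 : ℤ) ∣ Cfsg.Spor.ruNorm x) ∧ (∀ x ∈ Cfsg.Spor.ruLattice, Cfsg.Spor.ruNorm x ≠ 8) ∧ (∀ x ∈ Cfsg.Spor.ruLattice, x ≠ 0 → 16 ≤ Cfsg.Spor.ruNorm x) ∧ ∃ x ∈ Cfsg.Spor.ruLattice, Cfsg.Spor.ruNorm x = 16 := by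
  refine ⟨fun x hx => norm_dvd x (ruLattice_le x hx),
    fun x hx h8 => no_norm_eight x (ruLattice_le x hx) h8, ?_, ?_⟩
  · intro x hx hx0
    have h8 := norm_dvd x (ruLattice_le x hx)
    have hne : Cfsg.Spor.ruNorm x ≠ 8 := fun h => no_norm_eight x (ruLattice_le x hx) h
    have hpos : 0 < Cfsg.Spor.ruNorm x := by
      rcases (ruNorm_nonneg x).lt_or_eq with h | h
      · exact h
      · exact absurd (ruNorm_eq_zero h.symm) hx0
    omega
  · refine ⟨Cfsg.Spor.ruTable[0]'(by decide), ?_, ?_⟩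
    · rw [Cfsg.Spor.ruLattice, AddSubgroup.mem_sInf]
      intro L hL
      exact hL.1 _ (List.getElem_mem _)
    · decide +kernel

end Cfsg.Agent.S1628
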