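import Mathlib
import Cfsg.Statements.S1630
import Cfsg.Agent.Lib.Helper14.ReflClass
import Cfsg.Agent.Lib.Helper43.OrthMinus
-- import your own Cfsg.Agent.* helpers here

set_option autoImplicit false
open scoped MatrixGroups
open Cfsg

namespace Cfsg.Agent.S1630

/-- The orthogonal transvections of the minus-type orthogonal group in dimension ≥ 6 over the field with two elements form a generating conjugacy class of 3-transpositions. -/
theorem result (m : ℕ) (hm : 2 ≤ m) : Cfsg.IsThreeTranspositionClass {g : ↥(Cfsg.isometryGroup (ZMod 2) (Cfsg.quadFormMinus m (ZMod 2) 1 1)) | (((g : GL ((Fin m ⊕ Fin m) ⊕ Fin 2) (ZMod 2)) : Matrix ((Fin m ⊕ Fin m) ⊕ Fin 2) ((Fin m ⊕ Fin m) ⊕ Fin 2) (ZMod 2)) - 1).rank = 1} := by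
  classical
  have hne : Nonempty ((Fin m ⊕ Fin m) ⊕ Fin 2) := ⟨Sum.inr 0⟩
  have hab : Cfsg.Agent.Helper43.AnisoPair (1 : ZMod 2) 1 := by
    unfold Cfsg.Agent.Helper43.AnisoPair
    decide
  have hQ := Cfsg.Agent.Helper43.stdMinus_nondegenerate (F := ZMod 2) m hab
  obtain ⟨v₀, hv₀⟩ := Cfsg.Agent.Helper14.ReflClass.exists_Q_ne_zero
    (Cfsg.Agent.Helper43.stdMinus (ZMod 2) m 1 1) hQ
  have key := Cfsg.Agent.Helper14.ReflClass.three_transposition_class
    (Cfsg.Agent.Helper43.stdMinus (ZMod 2) m 1 1) hQ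
    (by rw [Fintype.card_sum, Fintype.card_sum, Fintype.card_fin, Fintype.card_fin]; omega) v₀ hv₀
  rw [Cfsg.Agent.Helper43.coe_stdMinus] at key
  exact key

end Cfsg.Agent.S1630
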