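import Cfsg.Statements.S1631
import Mathlib
import Cfsg.Agent.Lib.Helper13.SUGen

set_option autoImplicit false
set_option linter.unusedSimpArgs false
open Cfsg

namespace Cfsg.Agent.S1631

open Cfsg.Agent.Helper13 Matrix

section Tv

variable {F : Type} [Field F] [Fintype F] {n : ℕ} (hF : Fintype.card F = 2 ^ 2)

/-- `g` is the unitary transvection with centre `u` -/
def IsTv (g : ↥(Cfsg.SU n F 2)) (u : Fin n → F) : Prop :=
  u ≠ 0 ∧ stdB hF n u u = 0 ∧ ∀ x, actv g x = x + stdB hF n u x • u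

include hF in
theorem two_zero : (2 : F) = 0 := two_eq_zero_of_q hF rfl

theorem norm_one (x : F) (hx : x ≠ 0) : x * frobQ hF x = 1 := by
  have := FiniteField.pow_card_sub_one_eq_one x hx
  rw [hF] at this
  rw [frobQ_apply, ← pow_succ']
  exact this

theorem norm_one' (x : F) (hx : x ≠ 0) : frobQ hF x * x = 1 := by
  rw [mul_comm]
  exact norm_one hF x hx

theorem exists_ne_zero (u : Fin n → F) (hu : u ≠ 0) : ∃ y, stdB hF n u y ≠ 0 := by
  by_contra hcon
  push Not at hcon
  exact hu ((stdB_nondeg hF n).1 u hcon)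

omit [Fintype F] in
theorem sub_one_mulVec (g : ↥(Cfsg.SU n F 2)) (x : Fin n → F) :
    (((g : Matrix.SpecialLinearGroup (Fin n) F) : Matrix (Fin n) (Fin n) F) - 1) *ᵥ x =
      actv g x - x := by
  rw [Matrix.sub_mulVec, Matrix.one_mulVec]
  rfl

/-- a transvection has `g - 1` of rank one -/
theorem rank_of_isTv (g : ↥(Cfsg.SU n F 2)) (u : Fin n → F) (h : IsTv hF g u) :
    (((g : Matrix.SpecialLinearGroup (Fin n) F) : Matrix (Fin n) (Fin n) F) - 1).rank = 1 := by
  obtain ⟨hu, huu, hg⟩ := h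
  have hM : ((g : Matrix.SpecialLinearGroup (Fin n) F) : Matrix (Fin n) (Fin n) F) - 1 =
      Matrix.vecMulVec u (conjv 2 u) := by
    apply mat_ext
    intro x
    rw [sub_one_mulVec, hg, vecMulVec_mulVec', conjv_dot, add_sub_cancel_left]
    rfl
  apply le_antisymm
  · rw [hM]
    exact Matrix.rank_vecMulVec_le _ _
  · rw [Nat.one_le_iff_ne_zero]
    intro h0
    obtain ⟨y, hy⟩ := exists_ne_zero hF u hu
    have h1 : LinearMap.range (((g : Matrix.SpecialLinearGroup (Fin n) F) :
        Matrix (Fin n) (Fin n) F) - 1).mulVecLin = ⊥ := by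
      rw [← Submodule.finrank_eq_zero]
      exact h0
    rw [LinearMap.range_eq_bot] at h1
    have h2 := LinearMap.congr_fun h1 y
    rw [Matrix.mulVecLin_apply, sub_one_mulVec, hg, add_sub_cancel_left, LinearMap.zero_apply,
      smul_eq_zero] at h2
    rcases h2 with h2 | h2
    · exact hy h2
    · exact hu h2

/-- an element of `SU` with `g - 1` of rank one is a transvection -/
theorem isTv_of_rank (g : ↥(Cfsg.SU n F 2))
    (h : (((g : Matrix.SpecialLinearGroup (Fin n) F) : Matrix (Fin n) (Fin n) F) - 1).rank = 1) :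
    ∃ u, IsTv hF g u := by
  have h2 := two_zero hF
  obtain ⟨M, hM⟩ : ∃ M, M = ((g : Matrix.SpecialLinearGroup (Fin n) F) :
      Matrix (Fin n) (Fin n) F) - 1 := ⟨_, rfl⟩
  rw [← hM] at h
  have hMx : ∀ x, M *ᵥ x = actv g x - x := by
    intro x
    rw [hM, sub_one_mulVec]
  obtain ⟨⟨w, hwR⟩, hw0, hall⟩ := finrank_eq_one_iff'.mp h
  have hw : w ≠ 0 := by
    intro h0
    apply hw0
    exact Subtype.ext h0
  obtain ⟨x₀, hx₀⟩ := hwR
  rw [Matrix.mulVecLin_apply] at hx₀
  have hex : ∀ x, ∃ c : F, M *ᵥ x = c • w := by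
    intro x
    obtain ⟨c, hc⟩ := hall ⟨M *ᵥ x, ⟨x, Matrix.mulVecLin_apply _ _⟩⟩
    exact ⟨c, (congrArg Subtype.val hc).symm⟩
  choose f hf using hex
  have hfx₀ : f x₀ = 1 := by
    have h1 : (f x₀ - 1) • w = 0 := by
      rw [sub_smul, one_smul, ← hf, hx₀, sub_self]
    rcases smul_eq_zero.mp h1 with h1 | h1
    · exact sub_eq_zero.mp h1
    · exact absurd h1 hw
  have hg : ∀ x, actv g x = x + f x • w := by
    intro x
    rw [← hf, hMx]
    abel
  obtain ⟨y₁, hy₁⟩ := exists_ne_zero hF w hw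
  -- the isometry condition at `x₀`
  have hiso : ∀ y, f y * (stdB hF n x₀ w + stdB hF n w w) = -stdB hF n w y := by
    intro y
    have := actv_iso hF g x₀ y
    rw [hg, hg, hfx₀, one_smul] at this
    simp only [map_add, map_smul, LinearMap.add_apply, smul_eq_mul] at this
    linear_combination this
  have hκ : stdB hF n x₀ w + stdB hF n w w ≠ 0 := by
    intro h0
    have := hiso y₁
    rw [h0, mul_zero] at this
    apply hy₁
    linear_combination this
  obtain ⟨c, hc⟩ : ∃ c, c = -(stdB hF n x₀ w + stdB hF n w w)⁻¹ := ⟨_, rfl⟩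
  have hc0 : c ≠ 0 := by
    rw [hc]
    exact neg_ne_zero.mpr (inv_ne_zero hκ)
  have hfy : ∀ y, f y = c * stdB hF n w y := by
    intro y
    rw [hc]
    have := hiso y
    field_simp
    linear_combination this
  -- the determinant
  have hmat : ((g : Matrix.SpecialLinearGroup (Fin n) F) : Matrix (Fin n) (Fin n) F) =
      M1 2 c w w := by
    apply mat_ext
    intro x
    rw [M1_mulVec]
    change actv g x = _
    rw [hg, hfy]
    rfl
  have hdet : (M1 2 c w w).det = 1 := by
    rw [← hmat]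
    exact (g : Matrix.SpecialLinearGroup (Fin n) F).2
  rw [M1_det] at hdet
  have hww : stdB hF n w w = 0 := by
    have h1 : c * Cfsg.hermForm n F 2 w w = 0 := by linear_combination hdet
    rcases mul_eq_zero.mp h1 with h1 | h1
    · exact absurd h1 hc0
    · exact h1
  -- the trace condition
  have htr : c + frobQ hF c = 0 := by
    have := actv_iso hF g y₁ y₁
    rw [hg, hfy] at this
    simp only [map_add, map_smul, LinearMap.add_apply, LinearMap.map_smulₛₗ, LinearMap.smul_apply,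
      smul_eq_mul, hww, map_mul] at this
    have hsym : stdB hF n y₁ w = frobQ hF (stdB hF n w y₁) := ((stdB_isSymm hF n).eq w y₁).symm
    rw [hsym] at this
    have hN : stdB hF n w y₁ * frobQ hF (stdB hF n w y₁) ≠ 0 := by
      rw [norm_one hF _ hy₁]
      exact one_ne_zero
    have h3 : (c + frobQ hF c) * (stdB hF n w y₁ * frobQ hF (stdB hF n w y₁)) = 0 := by
      linear_combination this
    rcases mul_eq_zero.mp h3 with h3 | h3
    · exact h3
    · exact absurd h3 hN
  have hc1 : c = 1 := by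
    rw [frobQ_apply] at htr
    have h3 : c * (c + 1) = 0 := by linear_combination htr
    rcases mul_eq_zero.mp h3 with h3 | h3
    · exact absurd h3 hc0
    · linear_combination h3 - h2
  refine ⟨w, hw, hww, fun x => ?_⟩
  rw [hg, hfy, hc1, one_mul]

theorem isTv_ext (g g' : ↥(Cfsg.SU n F 2)) (u : Fin n → F) (h : IsTv hF g u)
    (h' : IsTv hF g' u) : g = g' := by
  apply SU_ext
  intro x
  change actv g x = actv g' x
  rw [h.2.2, h'.2.2]

theorem isTv_smul (g : ↥(Cfsg.SU n F 2)) (u : Fin n → F) (h : IsTv hF g u) (l : F)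
    (hl : l ≠ 0) : IsTv hF g (l • u) := by
  obtain ⟨hu, huu, hg⟩ := h
  refine ⟨smul_ne_zero hl hu, ?_, fun x => ?_⟩
  · simp only [map_smul, LinearMap.map_smulₛₗ, LinearMap.smul_apply, smul_eq_mul, huu, mul_zero]
  · rw [hg]
    simp only [LinearMap.map_smulₛₗ, LinearMap.smul_apply, smul_eq_mul, smul_smul]
    congr 2
    linear_combination (-(stdB hF n u x)) * norm_one' hF l hl

theorem exists_isTv (u : Fin n → F) (hu : u ≠ 0) (huu : stdB hF n u u = 0) :
    ∃ g : ↥(Cfsg.SU n F 2), IsTv hF g u := by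
  obtain ⟨t, -, ht⟩ := tv1_mem hF rfl ⊤ u trivial huu
  exact ⟨t, hu, huu, ht⟩

theorem isTv_mul_self (g : ↥(Cfsg.SU n F 2)) (u : Fin n → F) (h : IsTv hF g u) : g * g = 1 := by
  obtain ⟨hu, huu, hg⟩ := h
  have h2 := two_zero hF
  apply SU_ext
  intro x
  change actv (g * g) x = actv 1 x
  rw [actv_mul, actv_one, hg, hg]
  simp only [map_add, map_smul, smul_eq_mul, huu, mul_zero, add_zero]
  linear_combination (norm := module) (h2 * stdB hF n u x) • u

theorem isTv_ne_one (g : ↥(Cfsg.SU n F 2)) (u : Fin n → F) (h : IsTv hF g u) : g ≠ 1 := by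
  obtain ⟨hu, huu, hg⟩ := h
  obtain ⟨y, hy⟩ := exists_ne_zero hF u hu
  intro h1
  have := hg y
  rw [h1, actv_one] at this
  have h3 : stdB hF n u y • u = 0 := by
    have h4 : y + stdB hF n u y • u = y + 0 := by rw [add_zero, ← this]
    exact add_left_cancel h4
  rcases smul_eq_zero.mp h3 with h3 | h3
  · exact hy h3
  · exact hu h3

theorem isTv_orderOf (g : ↥(Cfsg.SU n F 2)) (u : Fin n → F) (h : IsTv hF g u) :
    orderOf g = 2 := by
  apply orderOf_eq_prime
  · rw [pow_two]
    exact isTv_mul_self hF g u h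
  · exact isTv_ne_one hF g u h

/-- the product of two transvections has order dividing two or three -/
theorem isTv_mul (d e : ↥(Cfsg.SU n F 2)) (u w : Fin n → F) (hd : IsTv hF d u)
    (he : IsTv hF e w) : (d * e) ^ 2 = 1 ∨ (d * e) ^ 3 = 1 := by
  obtain ⟨hu, huu, hd⟩ := hd
  obtain ⟨hw, hww, he⟩ := he
  have h2 := two_zero hF
  have hwu : stdB hF n w u = frobQ hF (stdB hF n u w) := ((stdB_isSymm hF n).eq u w).symm
  obtain ⟨s, hs⟩ : ∃ s, s = stdB hF n u w := ⟨_, rfl⟩
  rw [← hs] at hwu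
  by_cases hs0 : s = 0
  · left
    rw [hs0, map_zero] at hwu
    rw [hs0] at hs
    apply SU_ext
    intro x
    change actv ((d * e) ^ 2) x = actv 1 x
    rw [pow_two, actv_one, actv_mul, actv_mul, actv_mul, he, hd, he, hd]
    simp only [map_add, map_smul, smul_eq_mul, huu, hww, hwu, ← hs, mul_zero, add_zero]
    linear_combination (norm := module) (h2 * stdB hF n u x) • u + (h2 * stdB hF n w x) • w
  · right
    have hst : s * frobQ hF s = 1 := norm_one hF s hs0
    obtain ⟨t, ht⟩ : ∃ t, t = frobQ hF s := ⟨_, rfl⟩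
    rw [← ht] at hst hwu
    apply SU_ext
    intro x
    change actv ((d * e) ^ 3) x = actv 1 x
    rw [pow_succ, pow_two, actv_one, actv_mul, actv_mul, actv_mul, actv_mul, actv_mul, he, hd, he,
      hd, he, hd]
    simp only [map_add, map_smul, smul_eq_mul, huu, hww, hwu, ← hs, mul_zero, add_zero]
    match_scalars <;> grind

/-- conjugates of transvections are transvections -/
theorem isTv_conj (d t : ↥(Cfsg.SU n F 2)) (u : Fin n → F) (hd : IsTv hF d u) :
    IsTv hF (t * d * t⁻¹) (actv t u) := by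
  obtain ⟨hu, huu, hd⟩ := hd
  have hinv : ∀ x, actv t (actv t⁻¹ x) = x := by
    intro x
    rw [← actv_mul, mul_inv_cancel, actv_one]
  refine ⟨?_, ?_, fun x => ?_⟩
  · intro h0
    apply hu
    have := actv_inv t u _ h0
    rw [← this]
    unfold actv
    rw [Matrix.mulVec_zero]
  · rw [actv_iso, huu]
  · rw [actv_mul, actv_mul, hd, actv_add, actv_smul, hinv]
    have := actv_iso hF t u (actv t⁻¹ x)
    rw [hinv] at this
    rw [this]

/-- for `q = 2` a single transvection moves `a` to `b` when both are isotropic with `B a b = 1` -/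
theorem move_iso (a b : Fin n → F) (haa : stdB hF n a a = 0) (hbb : stdB hF n b b = 0)
    (hab : stdB hF n a b = 1) : ∃ t : ↥(Cfsg.SU n F 2), actv t a = b := by
  have h2 := two_zero hF
  have hba : stdB hF n b a = 1 := by
    rw [← (stdB_isSymm hF n).eq a b, hab, map_one]
  obtain ⟨t, -, ht⟩ := conn_move hF ⊤ a b trivial (by rw [haa, hbb]) (by
    simp only [map_sub, LinearMap.sub_apply, haa, hbb, hab, hba]
    linear_combination -h2) (by
    simp only [map_sub, LinearMap.sub_apply, haa, hba]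
    norm_num)
  exact ⟨t, ht⟩

theorem move_iso' (a b : Fin n → F) (haa : stdB hF n a a = 0) (hbb : stdB hF n b b = 0)
    (hab : stdB hF n a b ≠ 0) : ∃ (t : ↥(Cfsg.SU n F 2)) (l : F), l ≠ 0 ∧ actv t a = l • b := by
  obtain ⟨t, ht⟩ := move_iso hF a ((stdB hF n a b)⁻¹ • b) haa (by
    simp only [map_smul, LinearMap.map_smulₛₗ, LinearMap.smul_apply, smul_eq_mul, hbb, mul_zero])
    (by rw [map_smul, smul_eq_mul, inv_mul_cancel₀ hab])
  exact ⟨t, _, inv_ne_zero hab, ht⟩

/-- two isotropic vectors have a common isotropic non-neighbour -/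
theorem exists_common (u w : Fin n → F) (hu : u ≠ 0) (hw : w ≠ 0) (huu : stdB hF n u u = 0)
    (hww : stdB hF n w w = 0) :
    ∃ x, stdB hF n x x = 0 ∧ stdB hF n u x ≠ 0 ∧ stdB hF n x w ≠ 0 := by
  have h2 := two_zero hF
  have hswap : ∀ a b : Fin n → F, stdB hF n a b ≠ 0 → stdB hF n b a ≠ 0 := by
    intro a b h h0
    exact h (stdB_swap_zero hF _ _ h0)
  obtain ⟨y, huy, hyy⟩ := exists_hyp_partner (stdB hF n) (stdB_isSymm hF n) (frobQ_ne_id hF)
    (frobQ_frobQ hF) (stdB_nondeg hF n) u hu huu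
  by_cases h1 : stdB hF n w y = 0
  swap
  · exact ⟨y, hyy, by rw [huy]; exact one_ne_zero, hswap _ _ h1⟩
  obtain ⟨y', hwy', hy'y'⟩ := exists_hyp_partner (stdB hF n) (stdB_isSymm hF n) (frobQ_ne_id hF)
    (frobQ_frobQ hF) (stdB_nondeg hF n) w hw hww
  by_cases h3 : stdB hF n u y' = 0
  swap
  · exact ⟨y', hy'y', h3, hswap _ _ (by rw [hwy']; exact one_ne_zero)⟩
  have hy'y : stdB hF n y' y = frobQ hF (stdB hF n y y') := ((stdB_isSymm hF n).eq y y').symm
  obtain ⟨l, hl0, hl⟩ : ∃ l : F, l ≠ 0 ∧ l * stdB hF n y y' + frobQ hF (l * stdB hF n y y') = 0 := by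
    by_cases h4 : stdB hF n y y' = 0
    · refine ⟨1, one_ne_zero, ?_⟩
      rw [h4, mul_zero, map_zero, add_zero]
    · refine ⟨(stdB hF n y y')⁻¹, inv_ne_zero h4, ?_⟩
      rw [inv_mul_cancel₀ h4, map_one]
      linear_combination h2
  refine ⟨y + l • y', ?_, ?_, ?_⟩
  · simp only [map_add, map_smul, LinearMap.add_apply, LinearMap.map_smulₛₗ, LinearMap.smul_apply,
      smul_eq_mul, hyy, hy'y', hy'y]
    rw [map_mul] at hl
    linear_combination hl
  · rw [map_add, map_smul, huy, h3, smul_zero, add_zero]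
    exact one_ne_zero
  · apply hswap
    rw [map_add, map_smul, h1, hwy', zero_add, smul_eq_mul, mul_one]
    exact hl0

/-- `SU` is transitive on the isotropic points -/
theorem exists_move (u w : Fin n → F) (hu : u ≠ 0) (hw : w ≠ 0) (huu : stdB hF n u u = 0)
    (hww : stdB hF n w w = 0) :
    ∃ (t : ↥(Cfsg.SU n F 2)) (l : F), l ≠ 0 ∧ actv t u = l • w := by
  obtain ⟨x, hxx, hux, hxw⟩ := exists_common hF u w hu hw huu hww
  obtain ⟨t1, l1, hl1, ht1⟩ := move_iso' hF u x huu hxx hux
  obtain ⟨t2, l2, hl2, ht2⟩ := move_iso' hF x w hxx hww hxw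
  refine ⟨t2 * t1, l1 * l2, mul_ne_zero hl1 hl2, ?_⟩
  rw [actv_mul, ht1, actv_smul, ht2, smul_smul]

theorem isTv_isConj (d e : ↥(Cfsg.SU n F 2)) (u w : Fin n → F) (hd : IsTv hF d u)
    (he : IsTv hF e w) : IsConj d e := by
  obtain ⟨t, l, hl, ht⟩ := exists_move hF u w hd.1 he.1 hd.2.1 he.2.1
  rw [isConj_iff]
  refine ⟨t, ?_⟩
  have h1 := isTv_conj hF d t u hd
  rw [ht] at h1
  exact isTv_ext hF _ _ _ h1 (isTv_smul hF e w he l hl)

/-- an isotropic non-zero vector exists in dimension at least two -/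
theorem exists_isotropic (hn : 2 ≤ n) : ∃ u : Fin n → F, u ≠ 0 ∧ stdB hF n u u = 0 := by
  have h2 := two_zero hF
  have hON0 : ON hF (fun i : Fin 0 => (i.elim0 : Fin n → F)) := fun i => i.elim0
  obtain ⟨e1, he1W, he1⟩ := hON0.exists_unit (by omega)
  have hON1 := hON0.snoc e1 he1 he1W
  obtain ⟨e2, he2W, he2⟩ := hON1.exists_unit (by omega)
  rw [perpS_snoc] at he2W
  have h12 := he2W.2
  have h21 := stdB_swap_zero hF _ _ h12
  refine ⟨e1 + e2, ?_, ?_⟩
  · intro h0
    have : stdB hF n e1 (e1 + e2) = 1 := by rw [map_add, he1, h12, add_zero]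
    rw [h0, map_zero] at this
    exact zero_ne_one this
  · simp only [map_add, LinearMap.add_apply, he1, he2, h12, h21]
    linear_combination h2

include hF in
theorem closure_eq_top (hn : 4 ≤ n) :
    Subgroup.closure {g : ↥(Cfsg.SU n F 2) | (((g : Matrix.SpecialLinearGroup (Fin n) F) :
      Matrix (Fin n) (Fin n) F) - 1).rank = 1} = ⊤ := by
  have h2 := two_zero hF
  rw [eq_top_iff, ← TG_top hF (n := n) (by omega) (by omega)]
  unfold TG
  rw [Subgroup.closure_le]
  rintro g ⟨u, a, huu, ha, -, rfl⟩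
  by_cases h0 : a = 0 ∨ u = 0
  · have : tvSU hF u a huu ha = 1 := by
      apply SU_ext
      intro x
      change actv (tvSU hF u a huu ha) x = actv 1 x
      rw [actv_tvSU, actv_one]
      rcases h0 with h0 | h0
      · rw [h0, zero_mul, zero_smul, add_zero]
      · rw [h0, smul_zero, add_zero]
    rw [this]
    exact Subgroup.one_mem _
  · push Not at h0
    have ha1 : a = 1 := by
      have h3 : a * (a + 1) = 0 := by linear_combination ha
      rcases mul_eq_zero.mp h3 with h3 | h3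
      · exact absurd h3 h0.1
      · linear_combination h3 - h2
    apply Subgroup.subset_closure
    apply rank_of_isTv hF _ u
    refine ⟨h0.2, huu, fun x => ?_⟩
    rw [actv_tvSU, ha1, one_mul]

end Tv

/-- The unitary transvections of SU(n, 2), n ≥ 4, form a generating conjugacy class of 3-transpositions. -/
theorem result (F : Type) [Field F] [Fintype F] [DecidableEq F] (hF : Fintype.card F = 4) (n : ℕ) (hn : 4 ≤ n) : Cfsg.IsThreeTranspositionClass {g : ↥(Cfsg.SU n F 2) | (((g : Matrix.SpecialLinearGroup (Fin n) F) : Matrix (Fin n) (Fin n) F) - 1).rank = 1} := by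
  have hF2 : Fintype.card F = 2 ^ 2 := by rw [hF]; norm_num
  refine ⟨⟨?_, ?_⟩, ?_, closure_eq_top hF2 hn⟩
  · intro d hd
    obtain ⟨u, hu⟩ := isTv_of_rank hF2 d hd
    exact isTv_orderOf hF2 d u hu
  · intro d hd e he
    obtain ⟨u, hu⟩ := isTv_of_rank hF2 d hd
    obtain ⟨w, hw⟩ := isTv_of_rank hF2 e he
    exact isTv_mul hF2 d e u w hu hw
  · obtain ⟨u, hu, huu⟩ := exists_isotropic hF2 (n := n) (by omega)
    obtain ⟨d, hd⟩ := exists_isTv hF2 u hu huu
    refine ⟨d, rank_of_isTv hF2 d u hd, ?_⟩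
    ext e
    change _ ↔ IsConj d e
    constructor
    · intro he
      obtain ⟨w, hw⟩ := isTv_of_rank hF2 e he
      exact isTv_isConj hF2 d e u w hd hw
    · intro hconj
      obtain ⟨t, ht⟩ := isConj_iff.mp hconj
      rw [← ht]
      exact rank_of_isTv hF2 _ _ (isTv_conj hF2 d t u hd)

end Cfsg.Agent.S1631
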