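import Cfsg.Statements.S1635
import Mathlib
import Cfsg.Agent.S0358
import Cfsg.Agent.Lib.Helper93.Golay
-- import your own Cfsg.Agent.* helpers here

set_option autoImplicit false
open Cfsg

namespace Cfsg.Agent.S1635


open Cfsg.Agent.Helper26 Cfsg.Agent.Helper93

/-- a numbering of the 24 points. -/
noncomputable def e24 : Fin 24 ≃ GolayPt :=
  (Fintype.equivFinOfCardEq (show Fintype.card GolayPt = 24 by rfl)).symm

/-- reindexing words along `e24`. -/
noncomputable def L : (GolayPt → ZMod 2) ≃ₗ[ZMod 2] (Fin 24 → ZMod 2) :=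
  LinearEquiv.funCongrLeft (ZMod 2) (ZMod 2) e24

theorem L_apply (w : GolayPt → ZMod 2) (i : Fin 24) : L w i = w (e24 i) := rfl

/-- the transported code. -/
noncomputable def C' : Submodule (ZMod 2) (Fin 24 → ZMod 2) :=
  Submodule.map (L : (GolayPt → ZMod 2) →ₗ[ZMod 2] (Fin 24 → ZMod 2)) golayCode

theorem mem_C'_iff (v : GolayPt → ZMod 2) : L v ∈ C' ↔ v ∈ golayCode := by
  unfold C'
  rw [Submodule.mem_map_equiv, LinearEquiv.symm_apply_apply]

theorem finrank_C' : Module.finrank (ZMod 2) C' = 12 := by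
  unfold C'
  rw [LinearEquiv.finrank_map_eq]
  exact Cfsg.Agent.S0358.result

theorem hammingNorm_L (w : GolayPt → ZMod 2) : hammingNorm (L w) = hammingNorm w := by
  unfold hammingNorm
  apply Finset.card_bij (fun i _ => e24 i)
  · intro i hi
    exact Finset.mem_filter.mpr ⟨Finset.mem_univ _, (Finset.mem_filter.mp hi).2⟩
  · intro i _ j _ h
    exact e24.injective h
  · intro p hp
    refine ⟨e24.symm p, ?_, by simp⟩
    refine Finset.mem_filter.mpr ⟨Finset.mem_univ _, ?_⟩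
    have hp' := (Finset.mem_filter.mp hp).2
    show w (e24 (e24.symm p)) ≠ 0
    rw [Equiv.apply_symm_apply]
    exact hp'

theorem hammingNorm_eq_card_support₂ (w : GolayPt → ZMod 2) :
    hammingNorm w = (support₂ w).card := by
  rfl

theorem hmin_golay (w : GolayPt → ZMod 2) (hw : w ∈ golayCode) (h0 : w ≠ 0) :
    8 ≤ hammingNorm w := by
  rw [hammingNorm_eq_card_support₂]
  apply eight_le_card_of_mem_codeSets ⟨w, hw, rfl⟩
  intro h
  apply h0
  funext p
  by_contra hp
  have : p ∈ support₂ w := by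
    unfold support₂
    simpa using hp
  rw [h] at this
  simp at this

theorem hmin_C' : ∀ u ∈ C', u ≠ 0 → 8 ≤ hammingNorm u := by
  intro u hu hu0
  obtain ⟨v, rfl⟩ := L.surjective u
  rw [hammingNorm_L]
  apply hmin_golay v ((mem_C'_iff v).mp hu)
  rintro rfl
  exact hu0 (map_zero _)

theorem image_eq (w : GolayPt → ZMod 2) :
    L '' {v : GolayPt → ZMod 2 | hammingNorm v ≤ 4 ∧ w - v ∈ golayCode} = leaders C' (L w) := by
  ext u
  obtain ⟨v, rfl⟩ := L.surjective u
  simp only [Set.mem_image, Set.mem_ofPred_eq, leaders]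
  have key : L v - L w ∈ C' ↔ w - v ∈ golayCode := by
    rw [← map_sub, mem_C'_iff, ← neg_sub w v, neg_mem_iff]
  constructor
  · rintro ⟨v', ⟨h1, h2⟩, h3⟩
    have : v' = v := L.injective h3
    subst this
    exact ⟨key.mpr h2, by rw [hammingNorm_L]; exact h1⟩
  · rintro ⟨h1, h2⟩
    exact ⟨v, ⟨by rw [hammingNorm_L] at h2; exact h2, key.mp h1⟩, rfl⟩

/-- Coset leaders of the length-24 code: a coset contains a unique word of weight ≤ 3, or else exactly six words of weight 4 and none lighter. -/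
theorem result (w : Cfsg.GolayPt → ZMod 2) : ({v : Cfsg.GolayPt → ZMod 2 | hammingNorm v ≤ 4 ∧ w - v ∈ Cfsg.golayCode}.ncard = 1 ∧ ∃ v : Cfsg.GolayPt → ZMod 2, hammingNorm v ≤ 3 ∧ w - v ∈ Cfsg.golayCode) ∨ ({v : Cfsg.GolayPt → ZMod 2 | hammingNorm v ≤ 4 ∧ w - v ∈ Cfsg.golayCode}.ncard = 6 ∧ ∀ v : Cfsg.GolayPt → ZMod 2, w - v ∈ Cfsg.golayCode → hammingNorm v ≤ 4 → hammingNorm v = 4) := by
  have hn : {v : Cfsg.GolayPt → ZMod 2 | hammingNorm v ≤ 4 ∧ w - v ∈ Cfsg.golayCode}.ncard =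
      (leaders C' (L w)).ncard := by
    rw [← image_eq, Set.ncard_image_of_injective _ L.injective]
  have key : ∀ v : Cfsg.GolayPt → ZMod 2, L v - L w ∈ C' ↔ w - v ∈ golayCode := by
    intro v
    rw [← map_sub, mem_C'_iff, ← neg_sub w v, neg_mem_iff]
  by_cases h : ∃ v : Cfsg.GolayPt → ZMod 2, hammingNorm v ≤ 3 ∧ w - v ∈ Cfsg.golayCode
  · left
    refine ⟨?_, h⟩
    obtain ⟨v, hv3, hv⟩ := h
    rw [hn, leaders_light hmin_C' (L w) (L v) ((key v).mpr hv) (by rw [hammingNorm_L]; exact hv3)]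
    exact Set.ncard_singleton _
  · right
    have h' : ¬ ∃ u, u - L w ∈ C' ∧ hammingNorm u ≤ 3 := by
      rintro ⟨u, hu1, hu2⟩
      obtain ⟨v, rfl⟩ := L.surjective u
      exact h ⟨v, by rw [hammingNorm_L] at hu2; exact hu2, (key v).mp hu1⟩
    refine ⟨?_, ?_⟩
    · rw [hn]
      exact leaders_heavy_card finrank_C' hmin_C' (L w) h'
    · intro v hv hv4
      by_contra hne
      exact h ⟨v, by omega, hv⟩

end Cfsg.Agent.S1635
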