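import Cfsg.Statements.S1636
import Mathlib
import Cfsg.Agent.Lib.Helper27.Code

set_option autoImplicit false
set_option maxRecDepth 1000000
open scoped Pointwise
open Cfsg

namespace Cfsg.Agent.S1636

open Cfsg.Agent.Helper27

/-- The punctured word attached to an index. -/
def pw (k : ℕ) : ZMod 23 → ZMod 2 := fun x => ofMask (enc k) (some x)

/-- The punctured code. -/
def P : Set (ZMod 23 → ZMod 2) :=
  {u : ZMod 23 → ZMod 2 | ∃ w ∈ Cfsg.golayCode, ∀ x : ZMod 23, u x = w (some x)}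

theorem mem_P_iff (u : ZMod 23 → ZMod 2) : u ∈ P ↔ ∃ k < 4096, u = pw k := by
  constructor
  · rintro ⟨w, hw, h⟩
    obtain ⟨k, hk, rfl⟩ := exists_enc_of_mem hw
    exact ⟨k, hk, funext h⟩
  · rintro ⟨k, -, rfl⟩
    exact ⟨ofMask (enc k), ofMask_enc_mem k, fun x => rfl⟩

theorem pw_apply (k : ℕ) (x : ZMod 23) :
    pw k x = if (enc k).testBit (ZMod.val x) then 1 else 0 := rfl

theorem hammingNorm_pw (k : ℕ) : hammingNorm (pw k) = popAux 23 (enc k) := by
  rw [popAux_eq]
  unfold hammingNorm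
  rw [Finset.card_filter]
  have : ∑ x : ZMod 23, (if pw k x ≠ 0 then 1 else 0)
      = ∑ i ∈ Finset.range 23, ((enc k).testBit i).toNat := by
    refine Finset.sum_bij (fun x _ => ZMod.val x) (fun x _ => Finset.mem_range.mpr (ZMod.val_lt x))
      (fun a _ b _ h => ZMod.val_injective _ h)
      (fun i hi => ⟨(i : ZMod 23), Finset.mem_univ _,
        ZMod.val_natCast_of_lt (Finset.mem_range.mp hi)⟩) ?_
    intro x _
    rw [pw_apply]
    cases (enc k).testBit (ZMod.val x) <;> simp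
  exact this

theorem pw_injOn : Set.InjOn pw {k | k < 4096} := by
  intro k hk k' hk' h
  simp only [Set.mem_ofPred_eq] at hk hk'
  have hbit : ∀ i < 23, (enc k).testBit i = (enc k').testBit i := by
    intro i hi
    have := congrFun h (i : ZMod 23)
    rw [pw_apply, pw_apply, ZMod.val_natCast_of_lt hi] at this
    cases h1 : (enc k).testBit i <;> cases h2 : (enc k').testBit i <;> simp [h1, h2] at this ⊢
  have hmod : enc k % 2 ^ 12 = enc k' % 2 ^ 12 := by
    apply Nat.eq_of_testBit_eq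
    intro i
    rw [Nat.testBit_mod_two_pow, Nat.testBit_mod_two_pow]
    by_cases hi : i < 12
    · rw [hbit i (by omega)]
    · simp [hi]
  have e1 := enc_info k hk
  have e2 := enc_info k' hk'
  norm_num at hmod
  omega

theorem ncard_P : P.ncard = 4096 := by
  have : P = pw '' {k | k < 4096} := by
    ext u
    rw [mem_P_iff]
    constructor
    · rintro ⟨k, hk, rfl⟩; exact ⟨k, hk, rfl⟩
    · rintro ⟨k, hk, rfl⟩; exact ⟨k, hk, rfl⟩
  rw [this, pw_injOn.ncard_image]
  have : {k : ℕ | k < 4096} = ↑(Finset.range 4096) := by ext; simp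
  rw [this, Set.ncard_coe_finset, Finset.card_range]

theorem count (n c : ℕ)
    (h : ((List.range 4096).filter (fun k => popAux 23 (enc k) == n)).length = c) :
    {u : ZMod 23 → ZMod 2 | u ∈ P ∧ hammingNorm u = n}.ncard = c := by
  have : {u : ZMod 23 → ZMod 2 | u ∈ P ∧ hammingNorm u = n} =
      pw '' ↑((Finset.range 4096).filter (fun k => popAux 23 (enc k) = n)) := by
    ext u
    simp only [Set.mem_ofPred_eq, Set.mem_image, Finset.coe_filter, Finset.mem_range]
    rw [mem_P_iff]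
    constructor
    · rintro ⟨⟨k, hk, rfl⟩, h2⟩
      rw [hammingNorm_pw] at h2
      exact ⟨k, ⟨hk, h2⟩, rfl⟩
    · rintro ⟨k, ⟨hk, h2⟩, rfl⟩
      exact ⟨⟨k, hk, rfl⟩, by rw [hammingNorm_pw, h2]⟩
  rw [this, Set.InjOn.ncard_image, Set.ncard_coe_finset]
  · rw [← h, ← List.toFinset_card_of_nodup (List.Nodup.filter _ List.nodup_range)]
    congr 1
    ext k
    simp
  · intro a ha b hb hab
    simp only [Finset.coe_filter, Finset.mem_range, Set.mem_ofPred_eq] at ha hb
    exact pw_injOn ha.1 hb.1 hab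

theorem C7 : ((List.range 4096).filter (fun k => popAux 23 (enc k) == 7)).length = 253 := by
  decide +kernel
theorem C8 : ((List.range 4096).filter (fun k => popAux 23 (enc k) == 8)).length = 506 := by
  decide +kernel
theorem C11 : ((List.range 4096).filter (fun k => popAux 23 (enc k) == 11)).length = 1288 := by
  decide +kernel
theorem C12 : ((List.range 4096).filter (fun k => popAux 23 (enc k) == 12)).length = 1288 := by
  decide +kernel
theorem C15 : ((List.range 4096).filter (fun k => popAux 23 (enc k) == 15)).length = 506 := by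
  decide +kernel
theorem C16 : ((List.range 4096).filter (fun k => popAux 23 (enc k) == 16)).length = 253 := by
  decide +kernel
theorem Cmin : (List.range 4096).all (fun k => k == 0 || decide (7 ≤ popAux 23 (enc k))) = true := by
  decide +kernel

theorem pw_zero : pw 0 = 0 := by
  funext x
  rw [pw_apply, show enc 0 = 0 by decide]
  simp

theorem min_weight (u : ZMod 23 → ZMod 2) (hu : u ∈ P) (h0 : u ≠ 0) : 7 ≤ hammingNorm u := by
  rw [mem_P_iff] at hu
  obtain ⟨k, hk, rfl⟩ := hu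
  have := List.all_eq_true.mp Cmin k (List.mem_range.mpr hk)
  rw [Bool.or_eq_true, beq_iff_eq, decide_eq_true_eq] at this
  rcases this with rfl | h
  · exact absurd pw_zero h0
  · rw [hammingNorm_pw]; exact h


/-- The punctured length-23 code has weight distribution 0^1 7^253 8^506 11^1288 12^1288 15^506 16^253 23^1. -/
theorem result : {u : ZMod 23 → ZMod 2 | ∃ w ∈ Cfsg.golayCode, ∀ x : ZMod 23, u x = w (some x)}.ncard = 4096 ∧ {u : ZMod 23 → ZMod 2 | u ∈ {u : ZMod 23 → ZMod 2 | ∃ w ∈ Cfsg.golayCode, ∀ x : ZMod 23, u x = w (some x)} ∧ hammingNorm u = 7}.ncard = 253 ∧ {u : ZMod 23 → ZMod 2 | u ∈ {u : ZMod 23 → ZMod 2 | ∃ w ∈ Cfsg.golayCode, ∀ x : ZMod 23, u x = w (some x)} ∧ hammingNorm u = 8}.ncard = 506 ∧ {u : ZMod 23 → ZMod 2 | u ∈ {u : ZMod 23 → ZMod 2 | ∃ w ∈ Cfsg.golayCode, ∀ x : ZMod 23, u x = w (some x)} ∧ hammingNorm u = 11}.ncard = 1288 ∧ {u : ZMod 23 → ZMod 2 | u ∈ {u : ZMod 23 → ZMod 2 | ∃ w ∈ Cfsg.golayCode, ∀ x : ZMod 23, u x = w (some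 x)} ∧ hammingNorm u = 12}.ncard = 1288 ∧ {u : ZMod 23 → ZMod 2 | u ∈ {u : ZMod 23 → ZMod 2 | ∃ w ∈ Cfsg.golayCode, ∀ x : ZMod 23, u x = w (some x)} ∧ hammingNorm u = 15}.ncard = 506 ∧ {u : ZMod 23 → ZMod 2 | u ∈ {u : ZMod 23 → ZMod 2 | ∃ w ∈ Cfsg.golayCode, ∀ x : ZMod 23, u x = w (some x)} ∧ hammingNorm u = 16}.ncard = 253 ∧ ∀ u ∈ {u : ZMod 23 → ZMod 2 | ∃ w ∈ Cfsg.golayCode, ∀ x : ZMod 23, u x = w (some x)}, u ≠ 0 → 7 ≤ hammingNorm u := by
  exact ⟨ncard_P, count 7 253 C7, count 8 506 C8, count 11 1288 C11, count 12 1288 C12,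
    count 15 506 C15, count 16 253 C16, min_weight⟩

end Cfsg.Agent.S1636
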