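import Cfsg.Statements.S1637
import Cfsg.Agent.Lib.Helper26.GolayFacts

set_option autoImplicit false
open Cfsg

namespace Cfsg.Agent.S1637

open Cfsg.Agent.Helper26

/-! ### counting binary words of small weight -/

section count
variable {α : Type*} [Fintype α] [DecidableEq α]

/-- support of a binary word -/
def supp (u : α → ZMod 2) : Finset α := Finset.univ.filter fun i => u i ≠ 0

/-- indicator word -/
def indw (s : Finset α) : α → ZMod 2 := fun i => if i ∈ s then 1 else 0

lemma hammingNorm_eq_card_supp (u : α → ZMod 2) : hammingNorm u = (supp u).card := rfl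

lemma supp_indw (s : Finset α) : supp (indw s) = s := by
  ext p
  by_cases h : p ∈ s <;> simp [supp, indw, h]

lemma indw_supp (u : α → ZMod 2) : indw (supp u) = u := by
  funext p
  by_cases h : u p = 0
  · simp [supp, indw, h]
  · have h1 := (zmod2_ne_zero_iff _).mp h
    simp [supp, indw, h1]

/-- words ↔ supports -/
def suppEquiv : (α → ZMod 2) ≃ Finset α where
  toFun := supp
  invFun := indw
  left_inv := indw_supp
  right_inv := supp_indw

lemma card_wt_eq (k : ℕ) :
    (Finset.univ.filter fun u : α → ZMod 2 => hammingNorm u = k).card =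
      Nat.choose (Fintype.card α) k := by
  have h : (Finset.univ.filter fun u : α → ZMod 2 => hammingNorm u = k) =
      (Finset.powersetCard k (Finset.univ : Finset α)).map suppEquiv.symm.toEmbedding := by
    ext u
    simp only [Finset.mem_filter, Finset.mem_univ, true_and, Finset.mem_map,
      Finset.mem_powersetCard, Finset.subset_univ, Equiv.coe_toEmbedding]
    constructor
    · intro h
      exact ⟨supp u, by rw [← hammingNorm_eq_card_supp]; exact h, indw_supp u⟩
    · rintro ⟨s, hs, rfl⟩
      rw [hammingNorm_eq_card_supp]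
      show (supp (indw s)).card = k
      rw [supp_indw]; exact hs
  rw [h, Finset.card_map, Finset.card_powersetCard, Finset.card_univ]

lemma card_wt_le (k : ℕ) :
    (Finset.univ.filter fun u : α → ZMod 2 => hammingNorm u ≤ k).card =
      ∑ j ∈ Finset.range (k + 1), Nat.choose (Fintype.card α) j := by
  have h := Finset.card_eq_sum_card_fiberwise (f := fun u : α → ZMod 2 => hammingNorm u)
    (s := Finset.univ.filter fun u : α → ZMod 2 => hammingNorm u ≤ k) (t := Finset.range (k + 1))
    (by
      intro u hu
      simp only [Finset.coe_filter, Finset.mem_univ, true_and, Set.mem_ofPred_eq] at hu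
      simp only [Finset.coe_range, Set.mem_Iio]
      omega)
  rw [h]
  apply Finset.sum_congr rfl
  intro j hj
  rw [← card_wt_eq j]
  congr 1
  ext u
  simp only [Finset.mem_filter, Finset.mem_univ, true_and]
  rw [Finset.mem_range] at hj
  constructor
  · rintro ⟨_, h2⟩; exact h2
  · intro h2; exact ⟨by omega, h2⟩

end count

lemma card_ball : (Finset.univ.filter fun u : ZMod 23 → ZMod 2 => hammingNorm u ≤ 3).card = 2048 := by
  rw [card_wt_le, ZMod.card]; decide

/-- puncturing: delete the extra coordinate -/
def punct (w : GolayPt → ZMod 2) : ZMod 23 → ZMod 2 := fun x => w (some x)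

lemma punct_sub (w w' : GolayPt → ZMod 2) : punct (w - w') = punct w - punct w' := rfl

lemma norm_sub_eq_dist (a b : ZMod 23 → ZMod 2) : hammingNorm (a - b) = hammingDist a b := by
  simp [hammingNorm, hammingDist, sub_ne_zero]

lemma card_support₂_le (w : GolayPt → ZMod 2) :
    (support₂ w).card ≤ hammingNorm (punct w) + 1 := by
  have hsub : support₂ w ⊆ insert none
      ((supp (punct w)).map ⟨some, Option.some_injective _⟩) := by
    intro p hp
    rcases p with _ | x
    · exact Finset.mem_insert_self _ _
    · apply Finset.mem_insert_of_mem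
      rw [Finset.mem_map]
      refine ⟨x, ?_, rfl⟩
      simp only [support₂, Finset.mem_filter, Finset.mem_univ, true_and] at hp
      exact Finset.mem_filter.mpr ⟨Finset.mem_univ _, hp⟩
  refine le_trans (Finset.card_le_card hsub) ?_
  refine le_trans (Finset.card_insert_le _ _) ?_
  rw [Finset.card_map, hammingNorm_eq_card_supp]

lemma seven_le (w : GolayPt → ZMod 2) (hw : w ∈ golayCode) (hw0 : w ≠ 0) :
    7 ≤ hammingNorm (punct w) := by
  have h1 : support₂ w ∈ codeSets := ⟨w, hw, rfl⟩
  have h2 : support₂ w ≠ ∅ := by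
    intro h
    apply hw0
    apply support₂_injective
    rw [h, support₂_zero]
  have h3 := eight_le_card_of_mem_codeSets h1 h2
  have h4 := card_support₂_le w
  omega

/-- the sphere-packing map -/
def pack (x : ↥golayCode × {e : ZMod 23 → ZMod 2 // hammingNorm e ≤ 3}) : ZMod 23 → ZMod 2 :=
  punct (x.1 : GolayPt → ZMod 2) + x.2.1

lemma pack_injective : Function.Injective pack := by
  rintro ⟨⟨w, hw⟩, ⟨e, he⟩⟩ ⟨⟨w', hw'⟩, ⟨e', he'⟩⟩ h
  simp only [pack] at h
  have h1 : punct (w - w') = e' - e := by
    rw [punct_sub]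
    rw [sub_eq_sub_iff_add_eq_add]
    rw [h, add_comm]
  have h2 : hammingNorm (e' - e) ≤ 6 := by
    rw [norm_sub_eq_dist]
    have := hammingDist_triangle e' 0 e
    rw [hammingDist_zero_right, hammingDist_zero_left] at this
    omega
  have hww : w = w' := by
    by_contra hne
    have h3 := seven_le (w - w') (golayCode.sub_mem hw hw') (sub_ne_zero.mpr hne)
    rw [h1] at h3
    omega
  subst hww
  have : e = e' := add_left_cancel h
  subst this
  rfl

lemma card_dom :
    Nat.card (↥golayCode × {e : ZMod 23 → ZMod 2 // hammingNorm e ≤ 3}) = 2 ^ 23 := by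
  rw [Nat.card_prod]
  have h1 : Nat.card ↥golayCode = 4096 := by
    have := golayCode_ncard
    rw [← Nat.card_coe_set_eq] at this
    exact this
  have h2 : Nat.card {e : ZMod 23 → ZMod 2 // hammingNorm e ≤ 3} = 2048 := by
    rw [Nat.card_eq_fintype_card, Fintype.card_subtype, card_ball]
  rw [h1, h2]
  norm_num

lemma card_cod : Nat.card (ZMod 23 → ZMod 2) = 2 ^ 23 := by
  rw [Nat.card_eq_fintype_card, Fintype.card_fun, ZMod.card, ZMod.card]

lemma pack_bijective : Function.Bijective pack :=
  pack_injective.bijective_of_nat_card_le (by rw [card_dom, card_cod])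

/-- The punctured length-23 code is a perfect 3-error-correcting code: each word of length 23 is within distance 3 of exactly one codeword. -/
theorem result (u : ZMod 23 → ZMod 2) : ∃! c : ZMod 23 → ZMod 2, c ∈ {u : ZMod 23 → ZMod 2 | ∃ w ∈ Cfsg.golayCode, ∀ x : ZMod 23, u x = w (some x)} ∧ hammingDist u c ≤ 3 := by
  obtain ⟨⟨⟨w, hw⟩, ⟨e, he⟩⟩, hwe⟩ := pack_bijective.2 u
  simp only [pack] at hwe
  refine ⟨punct w, ⟨⟨w, hw, fun x => rfl⟩, ?_⟩, ?_⟩
  · rw [← norm_sub_eq_dist, ← hwe, add_sub_cancel_left]
    exact he
  · rintro c' ⟨⟨w', hw', hc'⟩, hd⟩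
    have hc'eq : c' = punct w' := funext hc'
    rw [← norm_sub_eq_dist] at hd
    have h : pack (⟨w', hw'⟩, ⟨u - c', hd⟩) = pack (⟨w, hw⟩, ⟨e, he⟩) := by
      simp only [pack]
      rw [hwe, ← hc'eq, add_sub_cancel]
    have h2 := pack_injective h
    have h3 : w' = w := by
      have := congrArg (fun x => (x.1 : GolayPt → ZMod 2)) h2
      exact this
    rw [hc'eq, h3]

end Cfsg.Agent.S1637
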