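import Cfsg.Statements.S1638
import Mathlib
import Cfsg.Agent.Lib.Helper27.Duads

set_option autoImplicit false
set_option maxRecDepth 1000000
open scoped Pointwise
open Cfsg

namespace Cfsg.Agent.S1638

open Cfsg.Agent.Helper27

/-- Generators of the stabiliser of the two base points. -/
def gens22 : List (ℕ × ℕ) :=
  [(178348722225088932800424691700893728, 522054546307270992807962573179947040),
   (522054546307270992807962573179947040, 178348722225088932800424691700893728),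
   (752466751415993770411534166825282592, 840721871451685391930314277439355936),
   (840721871451685391930314277439355936, 752466751415993770411534166825282592)]

def wordsB : List (List ℕ) :=
  [[], [0,3,3], [2,2,1], [0,3,3,0], [3,3,0], [2,1,2,0,3], [1,1], [2,1,2,0,0], [0,3,1,2], [0,0,3,0],
   [1], [1,2,2,1], [3,3], [0,2,0,2], [0,2,2,0,0], [2,1,3], [0,0,3,0,3,3], [1,1,3,3], [3,1,2,0],
   [2,1,1,2], [3,0,0], [2,1,3,1], [0,2,0,2,2,0], [3,1,2], [1,1,2,0,2], [3,0], [3,1,1,3,0],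
   [2,1,1,3,1], [0,0,2,1,1], [0,3,1,1], [0,0,2,1,3,3], [3,0,0,3], [2,1,1,3,3], [0,3,0,2,2],
   [1,1,2,1,3], [1,1,2,1,1], [0,0,2], [2,1,2,0,2,2], [0,2], [0,0,2,0,2], [1,1,3,0], [0,2,0,3,1],
   [0,3,1,3], [3,0,0,2,0], [2,1,3,0,2], [0,3,3,1,1], [0,0,3,1,1], [0,3,3,1,3,3], [1,2,0,2],
   [2,2,0,0], [1,3,0,0], [3,3,1,3,3], [1,2,1,3,1], [0,2,1,1], [1,3,0,3,0], [0,0,2,0], [0,2,0,3],
   [1,3,3], [0,2,0], [0,3,0], [2,0,3,1], [0,3,1,1,2], [1,2,0], [3,1,1,2], [2], [2,2,0,2,2,0],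
   [0,0,2,1], [0,3,0,3], [0,2,2,0,3], [0,2,2,0,0,3], [1,1,2,1,2], [3,1,1,3,3], [1,1,2,1],
   [0,3,1,3,1], [2,1,1], [2,1], [3,1,3,1], [0,0,3,0,3], [0,0], [2,1,2,1], [0,0,3], [1,3],
   [0,2,2,0], [2,1,2,0], [0,0,2,1,3], [2,1,1,2,1], [2,1,3,3], [0,3], [3,1,2,2], [2,2,1,2], [1,1,3],
   [2,1,3,0], [3,1,1], [2,1,2,2], [0,3,0,2], [1,2,1,1,3], [0,0,3,0,2], [2,1,1,3], [0,2,1,1,3],
   [1,2,1,1], [1,1,2], [3,0,2], [0,3,1,3,0], [2,1,1,2,2], [0,2,1,2,1], [0], [1,2,2], [1,3,1],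
   [2,2], [2,1,2], [2,1,2,1,1], [0,2,1,2,1,1], [0,0,2,1,3,1], [1,1,2,2], [0,0,2,2], [0,2,0,2,0,0],
   [2,1,2,0,3,3], [0,3,1], [0,2,2], [1,1,3,0,2], [2,1,3,0,0], [1,2,0,3], [0,0,3,1,2], [2,1,2,2,0],
   [0,2,1,2], [0,2,0,3,3,1], [0,2,1,1,3,0], [3,0,2,0,2], [2,0,0,3,0], [0,3,3,1,2], [1,3,0,2,0],
   [1,1,2,0], [1,2,1], [2,1,3,1,3], [3,3,1,2], [3,1], [0,0,2,0,0], [2,0,3], [3,0,0,3,1], [2,0,2],
   [2,0,0,3,3], [0,3,0,0], [1,2,0,0], [3,3,0,3,0], [2,0,0], [3,1,1,2,1], [3,0,2,2,1,3], [2,0],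
   [1,2,0,0,2], [0,0,2,0,0,3], [2,0,0,3], [0,2,0,3,0], [0,3,1,3,0,0], [3,1,3,3], [1,2,0,2,2,0],
   [0,3,1,2,1,3], [2,2,1,1,3], [3,1,3,1,2], [1,2,0,2,2], [0,2,1,3], [0,2,1,3,1], [3,0,2,2],
   [0,0,3,1,3], [1,2,1,3,1,2], [0,0,3,1,1,2], [3,3,1,3], [0,3,3,1,3], [0,2,1,3,0], [0,3,3,1,3,1],
   [0,2,1,3,0,0], [3,0,2,2,1], [2,2,0,2], [0,2,0,2,0], [2,2,0,3], [0,0,3,0,0,3], [1,3,0],
   [0,0,3,0,0], [3,0,2,1], [0,3,0,2,0,2], [2,0,2,0], [2,2,0,2,2], [0,0,3,0,0,3,0], [0,0,2,0,2,0],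
   [1,3,0,3], [2,2,0], [1,3,0,2], [3,3,0,0], [0,3,0,2,0], [0,2,0,0], [1,2,0,2,0,3], [2,1,2,0,2],
   [0,2,0,3,3], [2,1,2,1,3], [1,2,2,1,3], [3,1,1,3], [0,2,0,2,2], [0,3,0,3,3], [0,0,3,1,1,3],
   [0,0,3,0,2,2], [1,2], [0,3,0,2,0,0], [3,3,0,3], [3,0,0,2], [3], [0,3,1,1,3], [2,2,1,3],
   [2,2,1,1,2], [2,0,3,3], [1,3,0,0,2], [0,0,3,0,0,2], [0,3,3,1], [1,3,1,1], [2,1,2,0,3,1],
   [2,2,0,3,1], [3,3,1], [2,2,1,1], [1,2,1,3], [1,1,3,3,1], [0,2,1,3,0,2], [3,1,3], [0,2,1,3,1,2],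
   [1,3,0,3,0,0], [0,2,1], [0,3,1,2,1], [0,0,3,1,2,1], [0,0,3,1], [3,0,2,0], [3,0,2,2,1,2],
   [3,0,2,0,3], [1,2,0,2,0], [3,1,2,1]]

/-- Generators of the stabiliser of the two base points and the base duad. -/
def gens3 : List (ℕ × ℕ) :=
  [(184598463554376769275157840168815648, 483183103049214098057089908802128928),
   (483183103049214098057089908802128928, 184598463554376769275157840168815648),
   (638110253158882151011364924434778144, 423725470402338482121954753440221216),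
   (423725470402338482121954753440221216, 638110253158882151011364924434778144)]

def wordsC : List (List ℕ) :=
  [[], [0,0,0,3], [1,2,0,3], [0,2,0,0], [], [0,2,0], [1,2,0,3,1], [0,0,0,3], [3,0,0,3], [0,2,1],
   [3,1,2], [], [1,2,0,3], [0,2,1], [1,2,0], [0,2,0,0,2], [0,3,1,3,0], [1,2,0,2,1], [3,1,1],
   [3,1,2], [0,0], [2,1], [2,1,2,1,1], [3,0,2,1,1], [0,0], [1,1,1,2,0], [1,3,0,2,0], [0,3,1],
   [1,3], [0,3,1], [1,3,0,0,2,0], [2,0,0,0,2], [1,3], [0,0,0,2,1,1], [2,1,2], [1,1], [1,3,0,0],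
   [1,3,0,0], [1,1,2,0], [0,2,0], [0,0,0,3,1,1], [0,2,0,3], [0,0,3], [1,3], [1,2,0,2], [0,2,0,0,3],
   [0,0,0,3], [3,0,0,3,0], [0,2,0], [3,1,2], [1,2,0,2,1,2], [1,2,1,3,1], [0,0,0,0], [3,0,0,2],
   [2,1,1], [0], [2,0,0,2], [0,0,0,3,0], [1,3,1,3,0], [0,2,1,1,3], [0,3,0,0,0,0], [2,0,0,2,0],
   [2,1,3,0,0], [2,1,3,1], [0], [0,2,1,2], [3,1,3], [0,2,1,1,3,1], [3,1,3], [1,2,0,3,1],
   [0,2,1,2,0], [1,2,0], [1,1,3,0], [0,0,0,0], [2,0,2,1], [3,1,3], [1,1,1,2], [0,3,1,3], [1,2],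
   [0,3,0,0,0], [1,1,1,3,0,0], [1,2,0,0,0,0], [0,0,0,0,3], [3,0,0], [2,1], [0,3,1], [2,0,0,0],
   [0,2,0,0,2,1], [1,3,0,2], [2,0,3], [3], [0,0,0,2], [0,3,1,1,2], [3,0,2,1,2], [1,1,1,3,0],
   [3,0,0,0,0], [1,2,0], [2,1,2,1,1,3], [0,2,0,3,1,1], [0,0,0,2], [3], [2,1,1], [2,1,1,1,3], [3,0],
   [2], [0,0,0], [2,1,3,0], [0,0,0], [1,3,0,0,2], [1,1,2,1,1], [2], [0,3,0,0,3,1], [0,3,0,0,3],
   [0,3,1,2,1], [3,0,2,1], [2,1,2,1], [2], [2,0,0,2,1,2], [0,3,1,1], [1,3,0], [0,3], [0,3,1,2,0],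
   [3,0,0,2,1], [1,1,2], [1,1,1], [0,3], [0,3,1,2,1,1], [3,1,1,1,2], [1,3,1,3,0,3], [0,0,0,3,0,3],
   [0,3], [1,2,1,3,0,0], [0,2,0,3,1], [2,0,0], [1,3,1], [0,2,1,3], [3,1], [2,1,1,1], [3,1],
   [2,0,2,1,2], [1,2,0,0], [3,1], [0,3,1,1,1], [2,0], [0,3,0], [1,2,0,2], [0,3,1,3,0,0], [3,0,0,0],
   [1,2], [3], [1,3,0,2,0,0], [0,0,0,2,1], [0,2,0,0,3,0], [1,1,3,1], [1,1,3,1], [0,2,0,0],
   [0,2,0,2,1], [3,1,3,0], [0,2,0,0,2], [0,0], [3,0,2], [0,2,0,2,1,3], [0,2,0,0,3], [2,1,1],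
   [3,1,1,2,0], [3,0], [1,2,1], [1,2,1,3], [1,1,1], [2,0,3,1,1], [1,3,0,3], [0,2], [1,3,1,3],
   [0,2], [2,1,3,1,2], [0,2,1,2,0,0], [0,0,0,0,3,0], [0,2,1,1,3,0], [1,1,2,1], [1,1], [1,2,0,3,0],
   [0], [0,2,1,1], [3,1,1,1], [1,2,0,0,0], [2,0,0,3], [0,2], [1,1,1,3], [1,1,1,3], [1,1,3],
   [0,2,1,2,1], [3,0,3,0], [0,2,0,2], [1,1,3], [0,2,1,1,1], [3,0,0], [2,1], [1,2,1,3,0], [1,1],
   [3,1,1,2], [1,1,3], [0,2,1,2], [1,2], [2,0,3,1], [0,0,0], [3,0,2,0], [0,2,0,0,2,0], [0,2,1,2,1],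
   [3,1,3,0,0], [0,3,1,2], [1], [2,0,0,2,1], [0,2,0,0], [1], [2,0,2], [2,0,0,0,0], [2,1,3],
   [0,3,1,2], [1,2,1,3,0,2], [1,1,2,0,0], [1,3,0,0,0], [1], [0,3,1,3], [0,3,0,0], [3,0,3], [1,3,0],
   [0,0,0,0,2], [3,0,3], [0,0,0,3,1], [2,0,0,0,3]]

/-- Octads through both base points. -/
def oct01 : List ℕ :=
  [9347075, 5902343, 14716939, 3416079, 1413139, 12656663, 3719203, 8536111, 6447171, 806987,
   13893731, 45159, 2162811, 9465987, 4505735, 737427, 2494627, 4726955, 11010247, 1212619,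
   11731203, 622863, 2634003, 4587803, 352547, 1065303, 8421811, 4264387, 2183687, 57883, 4424227,
   786999, 1647171, 8524371, 8716939, 7340691, 13124355, 1053483, 2392899, 140167, 5325835,
   10765331, 8983587, 1188915, 459847, 4752467, 2204803, 5279, 185603, 6292775, 8398155, 1836419,
   4470275, 9471495, 2754059, 18147, 7145475, 210955, 2263063, 9963547, 4216883, 8505411, 1116327,
   272595, 5286147, 8657159, 657763, 2115979, 1460739, 10496547, 4196943, 563843, 551943, 298027,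
   3152963, 12717187, 69395]

theorem oct01_eq : octadList.filter (fun o => o.testBit 0 && o.testBit 1) = oct01 := by
  decide +kernel

/-- Duads avoiding the two base points. -/
def LB : List ℕ := duadList.filter fun m => !m.testBit 0 && !m.testBit 1

/-- The same, without the base duad. -/
def LC : List ℕ := LB.filter fun m => m != 12

def octProp (m : ℕ) : Bool := oct01.any fun o => (o &&& (12 ||| m)) == (12 ||| m)

def inv3 (m : ℕ) : ℕ := 2 * pop (12 &&& m) + (if octProp m then 1 else 0)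

def rep3 (k : ℕ) : ℕ := if k = 0 then 48 else if k = 1 then 144 else 20

theorem gens22_ok : ∀ g ∈ gens22, genOK [2 ^ 0, 2 ^ 1] g = true := by decide +kernel

theorem gens3_ok : ∀ g ∈ gens3, genOK [2 ^ 0, 2 ^ 1, 12] g = true := by decide +kernel

theorem certB : certCheck gens22 (fun _ => [12]) (fun m => [m]) LB wordsB = true := by
  decide +kernel

theorem certC : certCheck gens3 (fun m => [rep3 (inv3 m)]) (fun m => [m]) LC wordsC = true := by
  decide +kernel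

theorem count1 : (LC.filter fun m => inv3 m == 1).length = 30 := by decide +kernel

theorem count0 : (LC.filter fun m => inv3 m == 0).length = 160 := by decide +kernel

theorem twelve_mem_LB : 12 ∈ LB := by decide +kernel

/-- Duads avoiding two points. -/
def D (p q : GolayPt) (t : Finset GolayPt) : Prop := t.card = 2 ∧ p ∉ t ∧ q ∉ t

/-- The octad property. -/
def OP (p q : GolayPt) (s t : Finset GolayPt) : Prop :=
  ∃ o ∈ octads, p ∈ o ∧ q ∈ o ∧ s ∪ t ⊆ o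

theorem D_smul {h : Equiv.Perm GolayPt} (p q : GolayPt) (t : Finset GolayPt) :
    D (h p) (h q) (h • t) ↔ D p q t := by
  unfold D
  rw [Finset.card_smul_finset, smul_mem_smul_iff, smul_mem_smul_iff]

theorem OP_smul {h : Equiv.Perm GolayPt} (hh : h ∈ M24) (p q : GolayPt) (s t : Finset GolayPt) :
    OP (h p) (h q) (h • s) (h • t) ↔ OP p q s t := by
  unfold OP
  constructor
  · rintro ⟨o, ho, hp, hq, hsub⟩
    refine ⟨h⁻¹ • o, (smul_mem_octads (M24.inv_mem hh)).mpr ho, ?_, ?_, ?_⟩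
    · rw [← smul_mem_smul_iff h, smul_inv_smul]; exact hp
    · rw [← smul_mem_smul_iff h, smul_inv_smul]; exact hq
    · rw [← Finset.smul_finset_subset_smul_finset_iff (a := h), smul_inv_smul,
        Finset.smul_finset_union]
      exact hsub
  · rintro ⟨o, ho, hp, hq, hsub⟩
    refine ⟨h • o, (smul_mem_octads hh).mpr ho, ?_, ?_, ?_⟩
    · rw [smul_mem_smul_iff]; exact hp
    · rw [smul_mem_smul_iff]; exact hq
    · rw [← Finset.smul_finset_union, Finset.smul_finset_subset_smul_finset_iff]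
      exact hsub

theorem disjoint_iff_card {s t : Finset GolayPt} : Disjoint s t ↔ (s ∩ t).card = 0 := by
  rw [Finset.card_eq_zero, Finset.disjoint_iff_inter_eq_empty]

theorem disjoint_smul (h : Equiv.Perm GolayPt) (s t : Finset GolayPt) :
    Disjoint (h • s) (h • t) ↔ Disjoint s t := by
  rw [disjoint_iff_card, disjoint_iff_card, card_smul_inter]

theorem toFinset_subset_iff {a b : ℕ} (ha : a < 2 ^ 24) :
    toFinset a ⊆ toFinset b ↔ b &&& a = a := by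
  rw [← Finset.inter_eq_right, ← toFinset_and, toFinset_eq_iff]
  have h1 : b &&& a ≤ a := Nat.and_le_right
  rw [Nat.mod_eq_of_lt (lt_of_le_of_lt h1 ha), Nat.mod_eq_of_lt ha]

theorem mem_LB_iff {t : Finset GolayPt} : D (pt 0) (pt 1) t ↔ ∃ m ∈ LB, t = toFinset m := by
  unfold D LB
  constructor
  · rintro ⟨hc, hp, hq⟩
    obtain ⟨m, hm, rfl⟩ := card_eq_two_iff.mp hc
    refine ⟨m, ?_, rfl⟩
    rw [List.mem_filter]
    rw [pt_mem_toFinset (by norm_num)] at hp hq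
    refine ⟨hm, ?_⟩
    simp only [Bool.and_eq_true, Bool.not_eq_true']
    exact ⟨by simpa using hp, by simpa using hq⟩
  · rintro ⟨m, hm, rfl⟩
    rw [List.mem_filter] at hm
    simp only [Bool.and_eq_true, Bool.not_eq_true'] at hm
    refine ⟨card_eq_two_iff.mpr ⟨m, hm.1, rfl⟩, ?_, ?_⟩
    · rw [pt_mem_toFinset (by norm_num)]; simp [hm.2.1]
    · rw [pt_mem_toFinset (by norm_num)]; simp [hm.2.2]

theorem LB_lt {m : ℕ} (hm : m ∈ LB) : m < 2 ^ 24 := duadList_lt (List.mem_of_mem_filter hm)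

theorem LB_nodup : LB.Nodup := duadList_nodup.filter _

theorem OP_base_iff {m : ℕ} (hm : m < 2 ^ 24) :
    OP (pt 0) (pt 1) (toFinset 12) (toFinset m) ↔ octProp m = true := by
  unfold OP octProp
  rw [List.any_eq_true]
  have hlt : 12 ||| m < 2 ^ 24 := Nat.or_lt_two_pow (by norm_num) hm
  constructor
  · rintro ⟨o, ho, hp, hq, hsub⟩
    obtain ⟨mo, hmo, rfl⟩ := mem_octads_iff'.mp ho
    refine ⟨mo, ?_, ?_⟩
    · rw [← oct01_eq, List.mem_filter]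
      rw [pt_mem_toFinset (by norm_num)] at hp hq
      exact ⟨hmo, by simp [hp, hq]⟩
    · rw [← toFinset_or, toFinset_subset_iff hlt] at hsub
      simpa using hsub
  · rintro ⟨mo, hmo, hsub⟩
    rw [← oct01_eq, List.mem_filter] at hmo
    simp only [Bool.and_eq_true] at hmo
    refine ⟨toFinset mo, toFinset_mem_octads hmo.1, ?_, ?_, ?_⟩
    · rw [pt_mem_toFinset (by norm_num)]; exact hmo.2.1
    · rw [pt_mem_toFinset (by norm_num)]; exact hmo.2.2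
    · rw [← toFinset_or, toFinset_subset_iff hlt]
      simpa using hsub

theorem mem_LC_iff {m : ℕ} : m ∈ LC ↔ m ∈ LB ∧ m ≠ 12 := by
  unfold LC
  rw [List.mem_filter]
  simp

open Classical in
theorem inv3_eq {m : ℕ} (hm : m ∈ LB) :
    inv3 m = 2 * (toFinset 12 ∩ toFinset m).card +
      (if OP (pt 0) (pt 1) (toFinset 12) (toFinset m) then 1 else 0) := by
  unfold inv3
  rw [← toFinset_and, card_toFinset]
  congr 1
  by_cases h : octProp m = true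
  · rw [if_pos h, if_pos ((OP_base_iff (LB_lt hm)).mpr h)]
  · rw [if_neg h, if_neg (fun h' => h ((OP_base_iff (LB_lt hm)).mp h'))]

/-- The two counted families over the base configuration. -/
theorem base_eq (b : Prop) [Decidable b] (k : ℕ) (hk : k = if b then 1 else 0) :
    {t : Finset GolayPt | D (pt 0) (pt 1) t ∧ Disjoint (toFinset 12) t ∧
        (OP (pt 0) (pt 1) (toFinset 12) t ↔ b)} =
      {t | ∃ m ∈ LC.filter (fun m => inv3 m == k), t = toFinset m} := by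
  ext t
  simp only [Set.mem_ofPred_eq]
  constructor
  · rintro ⟨hD, hdis, hop⟩
    obtain ⟨m, hm, rfl⟩ := mem_LB_iff.mp hD
    refine ⟨m, ?_, rfl⟩
    rw [List.mem_filter, beq_iff_eq, mem_LC_iff]
    have hc := disjoint_iff_card.mp hdis
    refine ⟨⟨hm, ?_⟩, ?_⟩
    · rintro rfl
      rw [Finset.inter_self, card_toFinset] at hc
      revert hc
      decide
    · rw [inv3_eq hm, hc, hk]
      by_cases hb : b
      · rw [if_pos hb, if_pos (hop.mpr hb)]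
      · rw [if_neg hb, if_neg (fun h' => hb (hop.mp h'))]
  · rintro ⟨m, hm, rfl⟩
    rw [List.mem_filter, beq_iff_eq, mem_LC_iff] at hm
    obtain ⟨⟨hm1, _⟩, hm3⟩ := hm
    rw [inv3_eq hm1, hk] at hm3
    refine ⟨mem_LB_iff.mpr ⟨m, hm1, rfl⟩, ?_, ?_⟩
    · rw [disjoint_iff_card]
      by_cases hb : b <;>
        by_cases ho : OP (pt 0) (pt 1) (toFinset 12) (toFinset m) <;>
        simp only [hb, ho, if_true, if_false] at hm3 <;> omega
    · by_cases hb : b <;>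
        by_cases ho : OP (pt 0) (pt 1) (toFinset 12) (toFinset m) <;>
        simp only [hb, ho, if_true, if_false] at hm3 ⊢ <;> omega

theorem base_count (b : Prop) [Decidable b] (k : ℕ) (hk : k = if b then 1 else 0) :
    {t : Finset GolayPt | D (pt 0) (pt 1) t ∧ Disjoint (toFinset 12) t ∧
        (OP (pt 0) (pt 1) (toFinset 12) t ↔ b)}.ncard = (LC.filter (fun m => inv3 m == k)).length := by
  rw [base_eq b k hk, ncard_of_list]
  · exact (LB_nodup.filter _).filter _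
  · intro m hm
    exact LB_lt (List.mem_of_mem_filter (List.mem_of_mem_filter hm))

theorem count_transport (h : Equiv.Perm GolayPt) (hh : h ∈ M24) (b : Prop) [Decidable b] (k : ℕ)
    (hk : k = if b then 1 else 0) :
    {t : Finset GolayPt | D (h (pt 0)) (h (pt 1)) t ∧ Disjoint (h • toFinset 12) t ∧
        (OP (h (pt 0)) (h (pt 1)) (h • toFinset 12) t ↔ b)}.ncard =
      (LC.filter (fun m => inv3 m == k)).length := by
  rw [← base_count b k hk]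
  apply ncard_transport h
  intro t
  simp only [Set.mem_ofPred_eq]
  rw [D_smul, disjoint_smul, OP_smul hh]

/-- Fix two points p ≠ q and a pair s of two further points. Among the pairs avoiding p, q and disjoint from s, exactly 30 lie in an octad together with p, q and s and exactly 160 do not; and any two pairs other than s that meet s in equally many points and agree on that octad property are carried to one another by an element of the group of the length-24 code fixing p, q and s. -/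
theorem result (p q : Cfsg.GolayPt) (hpq : p ≠ q) (s : Finset Cfsg.GolayPt) (hs : (s.card = 2 ∧ p ∉ s ∧ q ∉ s)) : {t : Finset Cfsg.GolayPt | (t.card = 2 ∧ p ∉ t ∧ q ∉ t) ∧ Disjoint s t ∧ (∃ o ∈ Cfsg.octads, p ∈ o ∧ q ∈ o ∧ s ∪ t ⊆ o)}.ncard = 30 ∧ {t : Finset Cfsg.GolayPt | (t.card = 2 ∧ p ∉ t ∧ q ∉ t) ∧ Disjoint s t ∧ ¬ (∃ o ∈ Cfsg.octads, p ∈ o ∧ q ∈ o ∧ s ∪ t ⊆ o)}.ncard = 160 ∧ ∀ t t' : Finset Cfsg.GolayPt, (t.card = 2 ∧ p ∉ t ∧ q ∉ t) → (t'.card = 2 ∧ p ∉ t' ∧ q ∉ t') → t ≠ s → t' ≠ s → (s ∩ t).card = (s ∩ t').card → ((∃ o ∈ Cfsg.octads, p ∈ o ∧ q ∈ o ∧ s ∪ t ⊆ o) ↔ (∃ o ∈ Cfsg.octads, p ∈ o ∧ q ∈ o ∧ s ∪ t' ⊆ o)) → ∃ g : Equiv.Perm Cfsg.GolayPt, g ∈ Cfsg.M24 ∧ g p = p ∧ g q = q ∧ g • s = s ∧ g • t = t' := by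
  obtain ⟨h1, hh1, rfl, rfl⟩ := pairs_transitive hpq
  -- move the base duad to `s`
  have hsD : D (pt 0) (pt 1) (h1⁻¹ • s) := by
    rw [← D_smul (h := h1), smul_inv_smul]; exact hs
  obtain ⟨ms, hms, es⟩ := mem_LB_iff.mp hsD
  obtain ⟨g0, hg0, eg⟩ := same_orbit_of_cert gens22_ok (fun _ => 0) (fun _ => 12) LB wordsB certB
    12 twelve_mem_LB ms hms rfl
  have hp' : (h1 * g0) (pt 0) = h1 (pt 0) := by
    rw [Equiv.Perm.mul_apply, stabOf_fix_pt hg0 (by norm_num) (by simp)]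
  have hq' : (h1 * g0) (pt 1) = h1 (pt 1) := by
    rw [Equiv.Perm.mul_apply, stabOf_fix_pt hg0 (by norm_num) (by simp)]
  have hse : (h1 * g0) • toFinset 12 = s := by
    rw [mul_smul, eg, ← es, smul_inv_smul]
  have hh : h1 * g0 ∈ M24 := M24.mul_mem hh1 hg0.1
  rw [← hp', ← hq', ← hse]
  clear hs hsD es eg hp' hq' hse
  generalize h1 * g0 = h at hh
  have e1 : {t : Finset GolayPt | (t.card = 2 ∧ h (pt 0) ∉ t ∧ h (pt 1) ∉ t) ∧
      Disjoint (h • toFinset 12) t ∧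
      (∃ o ∈ octads, h (pt 0) ∈ o ∧ h (pt 1) ∈ o ∧ h • toFinset 12 ∪ t ⊆ o)} =
      {t : Finset GolayPt | D (h (pt 0)) (h (pt 1)) t ∧ Disjoint (h • toFinset 12) t ∧
        (OP (h (pt 0)) (h (pt 1)) (h • toFinset 12) t ↔ True)} := by
    ext t
    simp only [Set.mem_ofPred_eq, iff_true]
    rfl
  have e2 : {t : Finset GolayPt | (t.card = 2 ∧ h (pt 0) ∉ t ∧ h (pt 1) ∉ t) ∧
      Disjoint (h • toFinset 12) t ∧
      ¬ (∃ o ∈ octads, h (pt 0) ∈ o ∧ h (pt 1) ∈ o ∧ h • toFinset 12 ∪ t ⊆ o)} =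
      {t : Finset GolayPt | D (h (pt 0)) (h (pt 1)) t ∧ Disjoint (h • toFinset 12) t ∧
        (OP (h (pt 0)) (h (pt 1)) (h • toFinset 12) t ↔ False)} := by
    ext t
    simp only [Set.mem_ofPred_eq, iff_false]
    rfl
  refine ⟨?_, ?_, ?_⟩
  · rw [e1, count_transport h hh True 1 (by simp), count1]
  · rw [e2, count_transport h hh False 0 (by simp), count0]
  · intro t t' ht ht' hts ht's hc hop
    classical
    have key : ∀ u : Finset GolayPt, D (h (pt 0)) (h (pt 1)) u → u ≠ h • toFinset 12 →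
        ∃ m ∈ LC, h⁻¹ • u = toFinset m ∧ inv3 m = 2 * (h • toFinset 12 ∩ u).card +
          (if OP (h (pt 0)) (h (pt 1)) (h • toFinset 12) u then 1 else 0) := by
      intro u hu hne
      have hu' : D (pt 0) (pt 1) (h⁻¹ • u) := by
        rw [← D_smul (h := h), smul_inv_smul]; exact hu
      obtain ⟨m, hm, e⟩ := mem_LB_iff.mp hu'
      refine ⟨m, mem_LC_iff.mpr ⟨hm, ?_⟩, e, ?_⟩
      · rintro rfl
        apply hne
        rw [← e, smul_inv_smul]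
      · rw [inv3_eq hm, ← e, ← card_smul_inter h, smul_inv_smul]
        congr 1
        have := OP_smul hh (pt 0) (pt 1) (toFinset 12) (h⁻¹ • u)
        rw [smul_inv_smul] at this
        by_cases ho : OP (pt 0) (pt 1) (toFinset 12) (h⁻¹ • u)
        · rw [if_pos ho, if_pos (this.mpr ho)]
        · rw [if_neg ho, if_neg (fun h' => ho (this.mp h'))]
    obtain ⟨m1, hm1, f1, i1⟩ := key t ht hts
    obtain ⟨m2, hm2, f2, i2⟩ := key t' ht' ht's
    have hinv : inv3 m1 = inv3 m2 := by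
      rw [i1, i2, hc]
      have hop' : OP (h (pt 0)) (h (pt 1)) (h • toFinset 12) t ↔
          OP (h (pt 0)) (h (pt 1)) (h • toFinset 12) t' := hop
      simp only [hop']
    obtain ⟨g3, hg3, eg3⟩ := same_orbit_of_cert gens3_ok inv3 rep3 LC wordsC certC m1 hm1 m2 hm2 hinv
    refine ⟨h * g3 * h⁻¹, conj_mem_M24 hh hg3, ?_, ?_, ?_, ?_⟩
    · exact conj_fix_pt hg3 (by norm_num) (by simp)
    · exact conj_fix_pt hg3 (by norm_num) (by simp)
    · exact conj_fix hg3 (by simp)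
    · have := conj_smul h g3 _ _ eg3
      rwa [← f1, ← f2, smul_inv_smul, smul_inv_smul] at this

end Cfsg.Agent.S1638
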