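import Cfsg.Statements.S1639
import Mathlib
import Cfsg.Agent.Lib.Helper27.Trans

set_option autoImplicit false
set_option maxRecDepth 1000000
open scoped Pointwise
open Cfsg

namespace Cfsg.Agent.S1639

open Cfsg.Agent.Helper27

/-- Generators of the stabiliser of the base dodecad. -/
def gens2 : List (ℕ × ℕ) :=
  [(566591793864623591745264863092493872, 190114735145089336269635888638168236),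
   (190114735145089336269635888638168236, 566591793864623591745264863092493872),
   (307143604868030628575237153466974422, 208526844104950529910764434487357570),
   (208526844104950529910764434487357570, 307143604868030628575237153466974422)]

def words2 : List (List ℕ) :=
  [[], [3], [3,1], [1], [2,0,2,1], [2,0,2,0], [0], [2,1], [3,0], [2,0], [2,0,2], [2]]

/-- Generators of the stabiliser of the base dodecad and the base point in it. -/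
def gens3 : List (ℕ × ℕ) :=
  [(475975684706018166880916999474925984, 483738772164269899536165094603372832),
   (483738772164269899536165094603372832, 475975684706018166880916999474925984),
   (232500685486104406373082207318262112, 274399080923777053937793046350040608),
   (274399080923777053937793046350040608, 232500685486104406373082207318262112)]

def words3 : List (List ℕ) :=
  [[], [], [0,3,1,3,0], [2,0,2,1,2], [1,3,0,2,1], [1,3,0,0,2,2], [1,3,0,3,0,3], [], [0,2,1,2,0,2],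
   [2,0,3,1,3,3], [3,0,3,0,3,0,0], [0,2,0,0,3,1], [0,3,0,3,0,3,0], [0,0,2,2,1,3,0,2],
   [0,0,2,1,3,0,2,2], [1,3,1,2,1,2], [0,2,1,2,0,3], [1,2,2,0,0,2], [1,3,3,0,3], [1,3,3,0,3], [2,0],
   [3,0,3,0,3,3], [1,3,0,0,2,0,2], [2,1,3,0,3], [0,2,2,1,2,2,1,3], [0,2,1,2,0,2], [0,0,3,1,3,3],
   [2,1,2,0,0,3], [0], [3,0], [1,2,0,2,2], [3,1], [3,0,3,1,3], [1,2,2,2,0], [0,2], [2,1,3,0],
   [1,3,1,2,0,0,3], [0,2,1,2,0,0,2], [0,2,2,0,2,1,2], [1,3,1], [3,0,3,0,3], [2,0,2], [0,0,3,1,3],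
   [1,3,0,3,0], [1,2,0,2,2], [3,3,1,3,0], [1,2,2,0,3,0], [0,2,0,2,0,2], [0,2,0,3,0,2,2],
   [0,2,2,1,2,0], [1,2,2,0,3], [0,0,2,1,2], [0,2,2,1,2,0], [1,2,2,0,3], [3,3,1,2,2,0],
   [1,2,2,0,2,2], [0,0,2,0,0,3], [1,2,2,2,0], [0,0,2,0,0,3], [0,2,0,3,0,3], [2,0,0,3,0,2,1],
   [1,3,0,2,2,1], [1,3,0,2,2,1], [1,2,2,1,3], [2,2,0,2], [1,3,3,1,2,1], [2,1,2,0,2,2,1],
   [2,1,2,1,2,0,0], [0,3,1,3,0,3,0], [3,3,1,3,1], [1,2,1,3,1,2], [0,0,2,1,2], [0,0,3,3,0,0],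
   [2,0,2,1,3,3], [2,1,3,3,0], [0,0,2,0,0], [1,2,2,0], [2,1,2,2,2,0,3], [3,1,2,2,0], [0,3,1,2,0],
   [0,0,2,1,2,2], [0,0,3,3,0,3], [1,2,0,3,3,0], [0,2,0,2,2,2,0], [0,2,2,0,2,2,1,3], [0,2,0,0,3,1],
   [3,0,3,1,2,0], [1,2,2,0], [0,2,2], [1,2,0,2,2,2], [0,2,0,3,3], [1,2,2,0,2,1], [0,0,3,1,2,2],
   [1,2,0,3,0,2], [1,2,0,3,3,1], [1,2,1,3,1,3], [0,3,3], [3,1,2,2,0], [2,1,3,0,0,2], [1,2,0,3],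
   [3,0,0,2,0,0], [2,1,2,2,2,0,0], [0,3,0,2,2], [1,2,0,0,3,3], [0,2,2,2,0], [0,2,2,2,0],
   [0,3,0,2,2], [0,0,2,0,3,0,3], [2,0,3,0,0,2], [], [0,0,2,2,2,1], [0,2,1,3,3,0,3], [2,2,2,0,2,2],
   [3,0,3,1,2,0], [3,0,3,1,2,1], [1,2,2,0,3,0,2], [0,0,2,0,0,2,1], [2,0,3,3,1,3], [0,0,2,2,2,0],
   [0,0,2,2,0,0,3], [1,3,3,0,2,2], [0,2,1,2,2,2,0], [1,2,2,2,0,0,2], [1,3,1,2,0,0], [0,0,2,2,1,3],
   [1,2,1,3,1,2,2], [0,2,1,3,0,2,1], [3,0,2], [3,0,3,1,2,1], [2,0,2,2], [2,0,3,0,2,1,3], [1,2,2,1],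
   [0,0,2,1,2,2], [0,3,1,3,0,3,0,2], [1,3,1,2], [1,2,0,2,2,2], [2,1,3,1], [1,3,0,3,1], [0,3,3,0,2],
   [0,0,3,3,1,3], [0,0,2,1,3,3], [2,2,0,3,1,3], [0,0,3,0,2,0,3], [2,1,3,3,0,3], [2,1,3,0],
   [1,2,2,0,2,2], [2,1,3,0,2,1,3], [2,1,3,0], [0,0,2,1,3,0,2,0], [2,1,2,0,3,0], [0,0,3,0,2,1,3],
   [3,1,3,3,0,3,0], [0,0,3,3,0,3], [3,3,0], [2,2,0,3,0,3], [2,2,1,3,1,3], [1,3,0,3,0],
   [1,2,0,3,0,3,3], [2,2,2,1,2,0,3], [0,2,0,2,0,2], [2,1,2,0], [2,1], [0,2,0,0,3,0,0],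
   [1,3,3,1,2,0], [0,2,2,1,2,1], [2,0,0,3,0,3], [0,2,1,2,2,0], [1,3,0], [0,2,0,0,3,0,3], [2,0,0,3],
   [0,2,2,1,2,1,2], [2,1,2,1], [2,0,0,3], [1,3,3,1,3,1,3], [0,2,1,2,1,3,1], [2,1,2,2,0],
   [0,2,1,2,1,3,0,3], [0,0,3,0,3,0], [1,3,3,1,3], [1,3,0,3], [1,2,2,2], [2,0,0,3,3], [2,1],
   [1,3,0,2,1,2,0], [2,1,2,0,3], [2,1,2,1,2,0], [2,1,2,1,3], [1,3,0], [0,2,1,2,2,0,3],
   [0,2,0,3,0,2,2,1], [2,0], [1,3,3,1,3], [2,0,0,3,0,0], [0,2,0,0,3], [0,2,1,2,1,3], [3,1,2,0,2],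
   [0,0,3,0,3,0,0], [3,1,3,0,3], [0,2,2,1,3,3,1], [3,1,3,1,3], [1,3,0,2,2,0], [0,2,2,1,2,1],
   [0,3,1,3,0,2,1], [2,1,2,0,2,2], [1], [0,2,1,2,2,1], [0,2,1,2,1,3,0], [0,2,1,2,1,3,1,2],
   [0,2,0,0], [3,1,3,1], [1,3,0,2,2], [3,0,3,1,3], [0,2], [2,0,2,1,2], [0,2,0,0,3,0],
   [0,2,2,1,2,1,2], [1,3,3,1,2], [0,0,3,0,3], [1,3,1], [1,2,2,2,1], [1,2,2,2,1], [1,3,0,2,2],
   [2,1,2,1,2], [3,1,3,0], [2,0,2], [1,2,2,2,1], [3,0,2,0,2], [1,3,0,2,1,2,1], [3,3,0,0,3,3],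
   [0,2,0,3,1,3], [0,2,2,0,2], [0,2,0,0], [1,3,1,2,1,2], [0,2,1,3,0,3], [1,2,2,0,0,2],
   [3,0,2,0,3,3], [0,3,0,3,0,2,2,0], [0,0], [0,0], [0,0,3,0,3,1], [1,2,2,1,3], [2,1,2,1,2,1],
   [0,2,0,3,1,3], [3,0,0,3,0,3], [2,1,2,0,2,2], [3,1,2,0,2], [0,2,1,3,1,3], [1,2,2,2,0],
   [3,0,0,3,0], [3,0,0,2], [3,0,0,2,2,0], [2,0,3,0,3,0], [2,1,2,2,2], [3,0,0,2,0,3],
   [2,1,2,0,0,3,0,2], [3,3,1], [0,3,0,2,2,1,3], [2,0,2,2,0,0], [0,2,1,2,1,2], [2,2,0,0,3,0],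
   [0,2,2,0,2,2], [3,0,0,2], [0,2,0,0,2], [2,1,3,3,1], [3,3,1,2,0], [0,2,0,0,2], [3,0,0,2,1,3],
   [0,2,1,2,2,1,2], [0,2,2], [2,2,0,0,3,3], [3,3,1,2,1], [2,0,3,1,2,0], [2,0,3,0,3,1], [0,0,3,3],
   [3,3,1,3,3,0], [2,0,2,1,3,3], [0,3,0,3,0,3,1], [2,0,3,3,1,2,2], [0,3,3], [3,1,3,3,0,3,1],
   [3,1,2,0,3], [3,0,2,0,0], [3,1,2,0,3], [2,2,1,2,1,3], [0,2,1,2,1,2], [2,0,0,3], [0,2,1,3,3,1,2],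
   [1,2,1,3,0,3], [3,0,0,2,2,1], [0,3,0,0,2], [2,2,0,0,3,1], [2,2,1,2,0,3], [0,3,0,0,3],
   [3,1,2,1,3], [2,0,3,3,1,3], [2,0,2,1,2,1,2], [2,0,0,2], [0,0,2], [3,0,0,3,0], [1,2,2,2,1,2],
   [0,2,2,0,0], [1,3,0,2,2,2], [3,1,2,0,2,2], [2,1,2,1,2,1,2], [2,0,3,0,3,0], [2,1,2,2,2],
   [0,2,2,0,0], [1,2,2,1], [0,2,2,1,2,2,2,1], [1,3,0,2,0,2,2], [0,3,1,3,1,2], [3,1,3,0],
   [2,1,2,0,3,1], [2,2,0,3,1,2,0], [3,1,3,0,2], [1,3,1,2], [0,3,3,0,0], [3,3,0,0,2], [3,1,2,2,1],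
   [0,2,2,0,3,3], [2,0,3,1,2,1], [2,2,2,1,2,1,3], [0,2,0,2,2,2,1], [0,2,1,2,2,2,1], [3,1,3,1],
   [2,0,3,0,3,1], [0,2], [3,0,0,2,1,2], [0,3,1,2,1], [2,2,0,2], [2,2,1,3,0,3], [1,2,1,2], [0,0],
   [3,1,2,1,3], [2,1,3,1], [0,3,0,0,2], [0,2,2,1], [0,0,3,3,0,2,2], [1,2,0], [0,3], [2,1,2,2,2,0],
   [0,3,0,3,0,2], [0,0,2,2,2,0,0], [0,3,3,1], [0,2,0,0,2,1], [1,3,0,3,0,2,0], [0,3,0,2,0,2],
   [0,2,0,3,0,3,3], [1,2,0,2,2,1,3], [0,2,0,3,0,2], [3,1,2,1,2,1], [1,3,0,0,3], [0,0,2,0,0,2],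
   [0,0,3,3,0,0,2], [0,3,0,3,0,0], [3,1,2,2,0,2], [0,0,3,0,0], [1,3,1,2,1], [3,0,3],
   [0,2,1,2,0,0,3], [2,0,2,2,1], [2,0,3], [1,2,0], [0,0,2,1,3,0,2], [2,1,2,2,2,0], [3,3,0,2,1,2],
   [2,0,3,0,2,2], [1,2,2,1,3,3], [3,0,3], [3,1,3,0,2,1], [3,3,1,3,1,3], [2,2,0], [0,3,0,0,2,1],
   [2,0,3,1,3,3], [0,3,1,3,0,3,0,3], [2,1,3,1,3,3], [0,2,2,0,3,3,1], [2,2,1,3,0,3,1],
   [0,0,2,2,2,1,2], [0,3,0,3], [0,2,2,0,3,3,0], [0,3,0,2], [2,0,3,0,0,3,3], [0,0,2,0,3,0,2,2],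
   [0,3,0,3], [0,0,3,1,2], [3,3,0,0,2,0], [0,0,3,3,0,2,0], [0,0,2,0,3,0], [0,2,2,2], [0,3,3,1,2,0],
   [0,2,2,0,3,3,0], [2,0,3,1,2], [0,0,3,1,2,2,0], [2,0,3,0,3], [2,0,2,1,3,3,0], [3,1,2,2,2,0],
   [1,2,0,0,3], [0,2,0,3,0,2], [0,3,3,1], [0,0,3,1,2,0,2], [3,1,2,0,3,0], [2,0,3,1,2,2,0], [2,2,1],
   [0,2,2,0,3,1,2], [1,2,1,3,1,3,3], [1,2,2,0,2,2,1], [3,0,0,2,0,0,3], [2,2,1], [1,2,0,3,0],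
   [3,1,3,3,0,3], [2,2,2,0,2], [2,1,3,0,3], [2,0,3,0,3], [1,2,1,2,2,1,2], [0,3,3,0],
   [0,3,3,0,2,2,2], [1,3,3,1,2,1], [2,0,0,2,1], [3,3,0,3], [1,2,0], [0,3,3,0], [3,3,1,3,0],
   [2,1,3,0,2,2], [2,0,3,0,2], [3,3,0,2,0,3,0], [0,0,2,2,0,0], [0,2,2,0,3,0,0], [0,0,2,1,3],
   [0,3,1,2,0,0,3], [2,0,3,3,1], [2,2,1,3,0,0,3,0], [3,0,3,3,1], [2,2,2], [0,3,3,0,3], [2,1,3,3,0],
   [0,0,2,2,1], [0,3,3,0,3], [0,3,0,2,1,2], [1,3,1,2,2,0], [1,3,0,0,2,2], [0,0,2,2,2,0,0],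
   [3,0,2,1,3], [0,3,3,0,2,2], [2,2,1,3,0,2,1], [0,0,3,0,2,0], [3,0,3,3,0,2], [1,2,0,3,3,1],
   [2,0,2,2,2,0], [3,0,3,3,1,2], [3,0,3,3,0,2], [2,0,3,3], [1,3,1,2,2,1], [3,0,3,3], [0,0,2,2,0,0],
   [0,0,3,0,2,1,2,1], [0,0,2,1,3], [1,2,0,3], [2,0,2,2,2,0], [3,0,3,3], [1,2,0,0,2,2], [3,3,0,3,3],
   [1,3,0,3,3,0], [3,1,3,0,2,2,0], [1,2,0,3,3,0], [1,2,0,3], [3,0,3,3], [0,0,3,1,2,0],
   [1,2,0,3,0,2,2], [2,2,2,0], [1,3,1,2,2], [2,2,2,1,2,0], [3,0,3,0,2], [0,0,2,2,2,0],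
   [2,2,2,0,2,0,2], [1,2,0,0,2], [2,2,2], [0,0,3,1,2], [1,2,0,3,1], [2,2,1,3,1], [3,3,0,2,0,0],
   [2,0,2,2,2], [3,0,2,2,2,0], [3,0,2], [2,2,0,2,2,2], [1,2,0,3,0,3], [0,0,3,0,2,1], [1,2,2,1,2],
   [2,0,3,3,0], [1,2,1,2,2,2,1], [3,0,2,2], [3,3,0,2], [0,0,2,1,3,3,0], [0,0,3,1,2], [1,2,0,3,0,2],
   [1,2,1,2,2,1,3], [3,0,3,3,0], [2,2,0,2,2,2,1], [3,0,3,3,0,0], [0,0,2,1,3,3], [0,0,3,1,2,1],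
   [2,0,2,2,2,0,0], [2,2,0,3,3], [0,0,2,2,1,2], [2,0,2,2,2,1], [3,0,2,1,2,0,3], [1,3,0,3,3,0],
   [0,0,2,2,1], [3,0,2,1,3,0,0], [0,0,2,2,1], [1,2,0,3,0], [0,0,3,1,2,2], [3,1,2,0],
   [1,2,0,2,2,2,1], [3,0,3,0,0], [1,3,0,0,3,0,2], [1,3,3,1,2,0], [2,2,0,2,1,3], [0,2,0,0,3,3],
   [0,3], [0,3,0,2,2,1], [0,0,3,1,2,2,1], [0,2,1,3,1,3,3], [2,0,2,2,0], [2,0,2,2,0], [0,2,2,1],
   [0,0,3], [2,0,2,1,2,2,0], [3,0,0,3], [2,2,0,0,3,0,0], [3,1,2,0], [0,2,1,3,0,2], [0,2,2,1,2,2,2],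
   [0,0,3,0,3,1,3], [1,3,1,3,3], [2,1,2,1,3,3], [1,2,2,1,2,0,2], [0,2,2,1,3,3,1,3], [1,3,0,2,0,3],
   [1,3,1,2,0], [1,3,1,2,0], [1,3,0,3], [2,1,2,0,3], [2,0,0,3,0,0,3], [0,2,0,2,2,0], [0,3,3,1,2,1],
   [1,3,1,2,1], [0,2,0,2,1,3], [0,0,3], [2,1,2,1,3,3], [0,2,2,0], [0,2,2,0], [0,3,1,3,1,3],
   [2,1,3,0,0,3,0,2], [1,3,0], [0,2,0,0,3], [2,2,0,0,2,2], [1,3,1,2,1], [1,2,1,2,0], [0,2,0,2,2,1],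
   [3,1,2,0,0,3], [0,3,0,2,2,0], [0,3,0,0,2,0], [0,3,0,0], [3,1,2,1], [3,1,2,2,2,1], [0,2,0,0,2,2],
   [0,3,0,2,2,1], [0,2,0,3,3,1], [3,1,3,1,2,2], [0,3,0,0], [0,2,1,2,1,2,2], [2,1,2,2,2,1],
   [2,2,0,0,3], [1,2,1], [1,3,1], [0,2,0,2,1,2,2], [2,0,3,1,2,1,3], [1,2,1], [0,2,0,0,2,2],
   [0,2,2,0,2,2,2], [0,0,2,0,3,1], [1,3,1,2,0], [1,3,0,3,0,0], [0,3,0,0,2,0], [0,3,0,0,3,3],
   [1,2,1,3,3], [0,0,2,2,2], [0,2,1,3,1,2,2], [3,1,2,0,3,3], [3,1,2,1,3,0], [2,2,1,3,0,2,2],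
   [2,1,3,3,0,0,2], [2,1,2,0,3], [2,2,2,1,2,1,2], [0,3,1,2,1,3], [2,1,2,2,2,1], [2,2,0],
   [3,1,2,0,2], [3,3,0,0,2,1], [0,0,2,2,0], [0,2,2,0,3], [3,0,0,2,1,2,2], [1,2,2,1,2,0],
   [2,0,0,3,1,2,2], [2,2,0,0,2], [3,0,0,3,3], [0,2,2,0,3], [3,3,1], [0,0,2,2,0], [0,2,0,0,3,3],
   [0,3,3,0,0,2], [1,2,2,2,1,2,2], [1,2,0,0,2,2,1], [2,0,3,3,0,0], [3,1,3,3,1,2], [3,3,0,0,2,1,3],
   [2,1,3,3,1], [0,0,2,2], [0,2,1,2,1,3,1], [2,0,3,3,1], [2,2,2,1,2,1], [0,3], [0,2,1,3,1,2],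
   [2,1,3,0,0,3,0], [0,2,0,3,0,0,3], [2,0,3,3], [0,3,1,3,1,3,3], [3,0,2,2,0], [1,3,1,2,2,2],
   [2,1,2,1,2,0], [1,3,0,3], [3,0,2,1,3,0], [0,2,1,3,1,2,0], [1,2,1,2,2,2], [2,0,3,3],
   [2,2,1,3,0,2], [0,2,1,2,1,3], [0,3,1,2,1,3,3], [3,0,2,0,0], [0,0,2,2,2,1], [1,3,1,2,2,2],
   [3,0,2,1,3,1], [2,2,2,1], [0,2,1,2,1,3,3], [0,2,1,2,1,3,0], [0,2,1,2,2,1], [2,2,1,3,0],
   [3,1,3,0,2,2], [1,2,1,2,2,2,0], [0,3,0,3], [2,0,2,2,2], [0,3,1,2,1,2], [0,3,0,0],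
   [1,2,0,0,2,2,0], [0,3,1,3,1,2,2], [0,0,2,2], [1,2,2,2,0,2,2], [2,1,2,1,2], [2,0,3,3,0],
   [3,0,2,2,0], [0,0,2,2,2], [1,2,0,3,0,0], [2,2,2,0,0,2], [0,0,2,2,2], [0,0,3,1,2,0,0],
   [3,1,3,3,0,3], [0,0,2,1,3], [2,2,2,0,0], [3,3,0], [0,0,2,1,3,3], [3,3,0,2], [1,3,3,0],
   [0,2,2,1,2,2], [0,2,1,2], [1,3,0,0,2], [0,3,1,3,0], [3], [0,2,1,2,0], [2], [1,3,0,2,1],
   [0,2,1,2,2], [1,3,3,0,0], [0,0,2,2,2,0,3,3], [2,1,2,0,0], [0,2,2,1,2,2,0], [1,3,3,0],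
   [1,3,3,0,2], [0,3,1,3,0,2], [0,2,0,2,0], [1,3,0,0], [2,0,2,1], [0,2,1], [0,3,1,3,0,3], [3],
   [1,3,0,2,1,3], [0,3,1,3,0,3], [0,2,2,1,2], [1,3,0,0,2,0], [0,2,0,2,0,3], [0,2,0], [3,1,3],
   [3,3,1,3,0,3], [2,0,3,1,2,0,3,0], [0,2,1,2,2,0,0], [0,2,1,2,0,0], [2,0,0,3,3,1,3], [1,2,0,2],
   [0,0,3,0,0,2], [1,2,0,2], [0,3,0,3,0,2,2], [0,2,2,0,2,1], [1,3,3,0], [0,2,0], [0,3,1,3],
   [1,3,0,0,2,1], [0,2,0,2], [2,0,3,1,3], [0,2,2,1,2,2,1], [0,2,1,2,0,2,2], [0,2,0,0,3,1,2],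
   [0,3,0,3,0,3], [0,2,0,0,3,1,3], [3,1], [0,0,2,1,2,0], [0,0,3,1,3,3,1], [2,1,2,0,0],
   [0,0,2,2,0,0,3,3], [1,3,0,3,1,3], [2,2,0,2,1,2,1], [0,0,2,2,2,0,3], [1,3,3,0,2], [1,3,0,2,1,2],
   [2,0,0,3,3,1], [1,3,3,0,2], [1,3,0,2,1,2], [2], [1,2,0,3,1,3,3], [0,3,3,1,3,3,0], [0,2,2,0,2,0],
   [1,2,0,2,2,1], [1,2,0,3,3,0,3], [2,0,3,1,3], [3,1,2,2,0,3], [1,2,0,2,2,1], [0,0,2,1,2,1],
   [1,3,0,2,1,3,0], [0,3,3,1,3,3], [0,0,2,1,2,1], [1,2,2,0,3,1], [1,3,0,0], [2,1,3,1,3],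
   [1,2,2,2,0,0], [0,2,1], [0,2,1,3,0,0,2], [3,3,1,2,2,0], [1,2,2,0,3,0], [3,0], [1,2,2,1,3,1],
   [0,3,0,2,0,2,2], [0,2,0,3,0], [0,3,0,3,0], [0,3,1], [0,2,2,2,0,3,0], [1,2,1,3,0,0],
   [0,2,0,0,2,1,3], [2,0,3,1], [3,1,2,0,0,3,0], [0,2,0,3,0,2,2,2], [0,0,2,0,0], [1,2,2,2,0,2],
   [3,0,3,1], [0,3,3,1,3], [2,2,1,2,0,0], [0,2,0,0,3,3,1], [3,1,2], [3,0,2,0,0,2,1], [0,0,3,1],
   [3,1,2], [0,2,0,3,0], [0,2,2,1,2,0,2], [3,3,0,0,2,0,3], [0,2,0,2,2], [2,0,3,1], [0,2,2,2,0,3,1],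
   [2,0,2,1,3,0], [0,2,0,0,3,3,0], [1,3,0,0,3,3], [0,2,1,3,3], [0,0,3,3,0,2], [3,1,2,2,2],
   [0,3,0,3,0], [0,2,0,3,3], [0,3,0,2,0], [0,2,1,2,0,3], [3,1,3,3,0], [0,3,0,3,3], [0,2,1,3,3,0,0],
   [0,3,0], [0,3,0], [2,2,1,2], [0,2,1,2,0,0], [1,2,2,0], [0,0,2,0,3,0,2], [2,0,3,0,0,3],
   [0,3,3,1,3,1,2], [1,2,1,3,3,0], [3,0,2,1,3,3], [0,2,1,2], [1,3,0,3,0,2], [1,3,1,2,2,0,3],
   [0,0,2,2,2,0,0,3], [1,3,0,2,2,1,2], [0,2,0,2,0,2,2], [1,3,0,0,2], [2,2], [3,3,1,3,1,2],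
   [0,2,2,0,3,1,3], [3,0,3,0], [1,3,1,3,3,0], [1,3,0,3,1,3], [1,2,0,3,1,3], [0,3,0,0,3,3,0],
   [2,1,2,0,0,2], [1,2,0,3,1,3], [0,0,3,1], [0,2,2,0,2,1,2,2], [2,2,0,2,2], [0,3,0,2,1], [0,2,0,2],
   [1,2,1,2,2,0,3], [0,3,3,0,2], [2,0,3,0], [2,0,3,0], [0,3,3,1,2], [3,3,0,2,1,2,0], [2,0,3,1,2,2],
   [0,3,3,0,3,3], [0,2,2,0,2,2,1,2], [3,1], [1,2,0,0], [0,2,0,2,2,0,0], [2,0,0,2,1,2],
   [3,3,1,3,0,2], [2,2,2,0,2,0], [3,0], [2,2], [0,0,3,1], [3,0,3,0,3,0], [1,3,3], [2,0,0,3,0],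
   [0,0,2,2,2,0,3,3,0], [1,3,3], [2,1,2,1,2,0,2], [3,0,3,0,3,0,3], [2,2,0,2,1,2], [2,0,2,0,2],
   [2,0,0,3,0,2], [1,3,3,1], [1,3,0,2], [2,1,2], [2,1,2,1], [2,0,0,3,0,3,1,3], [1,3],
   [2,0,2,0,2,2], [3,0,3,1,3,3], [1,3], [2,1,2,0,2], [2,1,2,0,2], [2,0,0,3,0], [1,3,0,2], [2,1,2],
   [2,1,2,2,0,3], [0,2,1,2,0,2,2,1], [2,1,3], [2,0,2,0], [0,2,0,0,3,0,3,3], [2,1,2,0],
   [3,0,3,0,3,1], [2,2,0,2,1], [2,1,2,1,3], [3,0,0,2,0,2], [1,2,2,2], [2,0,0,3,3], [1,3,3,1,2,0,2],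
   [1,3,3,0,0], [1,3,0,2,0], [2,0,2,1], [0,0,2,0,2], [1,2,2,2,1,3], [1,2,0,2,2,0], [1,2,2,2],
   [1,3,1,3], [0], [0,2,1,2,1], [1,3,0,2,0,0], [2,1,2,2], [1], [0,3,1,3], [1,3,0,2,1,3,1], [1,3,3],
   [2,0,0,3,0,2], [1,2,2,1,3,0], [2,0,3,1,2,0,3], [2,0,3,0,3,0,3], [1,3,3,1,3,0], [1,3,0,2,0,2],
   [2,1,2,2], [2,0,0,3,0,3,1], [2,1,2,0,3,1,3], [1,3,3,1], [2,0,0], [2,0,0,3,1], [1,3,3,1,3,1],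
   [2,0,0], [2,0,0,3,0,0,2], [0,0,3,0,0,2,0], [0,2,0,2,1], [3,0,0], [0,2,2,1,3,3], [3,0,0],
   [0,0,2,0,2,2], [3,3,1,3], [3,3,1,2,2], [3,3,1,2,2], [2,1,2,0,0,3,0], [0,2,2,1,2], [0,2,2,0,2],
   [2,0,2,1,2,1], [2,1,2,2], [1,3,3,1], [2,0,2,2,0,2], [0,3,1,3,1], [1,3,0,2], [2,1,2,1,3],
   [0,0,3,1,3,3,0], [2,0,2,0,3,3], [0,2,2,1,2,2], [1,2], [0,2,0,3,1], [3,0,2,0,3], [0,2,1,3,0],
   [3,0,2,0,2,2], [0,2,1,2,0,0,3,1], [3,0,3,1], [0,2,2,1,3], [1,3,3,1,3,0,2], [1,2],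
   [1,3,1,2,1,2,2], [3,3,0,0,3], [2,0,2,1,2,2], [0,2,0,2,1,2], [0,3,1], [1,2,1,2,0,3], [1,3],
   [2,2,0,0,3,3], [3,1,3,1,2], [1,3,1,3,3,1], [2,0,2,2,0,3], [2,1], [1,2,0,0,3,0], [0,0,2,0,3],
   [0,2,2,2,0,2,1], [0,3,0,0,2,0,2], [0,3,0,3,1], [1,3,0,0,3,0], [1,2,1,2,0,2], [0,2,1,3,1,2,2,2],
   [2,1,2,0], [1,2], [0,2,0,3,3,1,3], [3,1,2,0,0], [1,2,1,3], [1,2,1,3,0,2], [2,0], [1,3,1,3],
   [1,3,1,2,0,2], [3,1,2,1,2], [0,2,0,0,3,0,2], [2,1,2,1,2,2], [0,2,1,3,1], [0,2,0,3,1], [2,0,0,2],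
   [0,3,0,3,0,2,1], [3,1,3,3,1], [0,0,3,0], [2,0,0,3,1,2], [0,0,3,0,3,1,2], [3,0,2,0,3], [0,0,3,0],
   [2,1,2,1], [1,2,2,1], [1,3,3,1,2], [0,0,2], [2,0,2,2], [1,3,0,2,0,3,1], [1,2,2,2,1,2],
   [1,2,2,2,0,2], [0,2,2,0,3,3], [2,2,0,3,0,0,3], [0,3,0,3,1], [3,3,1,3], [2,2,0,0], [2,2,0,0],
   [1,2,0,0], [3,1,2,0,0,3,1], [1,2,1,2], [1,3,1,2], [0,2,0,3], [0,2,0,0,3,3,0,2], [0,2,0,3],
   [3,0,3,1,2], [0,0,2,0], [0,3,1,3,0,3,3], [0,2,1,2,0], [3,1,3,3], [2,0,2,1,3], [2,1,3,0,3,3],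
   [0,2,0,0,2,1], [0,2,1,3], [1,2,2,0,2], [0,2,0,3,0,0], [3,0,2,0,3,0], [1,2,1,3,1],
   [0,2,2,1,2,2,0], [0,0,3,3,1], [0,3,1,2,0,2], [1,3,0,2,2,1,3], [0,0,2,0,0,2], [3,1,2,0,3,1],
   [1,2,2,0,0], [1,3,1,2,2,1,2], [0,2,2,0,2,1,3], [0,0,2,2,1,3,0], [1,3,0,2,1,3,3], [2,2,0,2,2,1],
   [2,2,1,3,0,0,2], [1,3,0,0,2,0], [0,0,3,0,0], [1,3,3,0,3,3], [0,0,2,2,0,0,2], [0,2,2,1,3,0],
   [0,3,3,0,2,1], [3,3], [0,0,3,0,3,1,2,1], [3,0,2,0,3,0], [2,2,0,3,1,2], [0,2,2,0,2,0,3],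
   [0,0,2,1], [0,2,1,3,0,0], [0,0,2,1], [0,3,1,2,0,0], [0,3,3,1,3,3,0,3], [0,2,2,1,2,0,3],
   [2,0,3,0,0], [3,1,2,2], [0,2,0,2,2,2], [0,2,2,2,0,3], [0,3,3,1,3,1], [1,2,0,3,3], [0,0,3,3,0],
   [0,3,0,3,0,3], [0,2,1,3,3,0], [0,3,0,2,2,2], [3,1,2,2], [0,3,0,2], [3,0,0,2,1], [0,2,2,0,2,2,1],
   [0,2,0,2,1,2,1], [0,2,2,2,0,2], [0,0,3,3,1,3,0], [2,2,1,2,0,0,2], [2,2,1,2,2], [0,2,0,2,0],
   [2,2,0,3,1,3,3], [1,3,0,0,3,3,0], [2], [1,2,2,0,2], [2,1,3,0,0], [0,2,1,2,2,2], [0,2,2,2,0,3],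
   [3,0,2,1], [3,0,2,1,3,3,1], [0,3,0,2,0,0], [3,1,2,2,0,3], [1,3,0,0,2,2,2], [3], [1,2,2,0,2,1,3],
   [3,1,3,3,0,0], [3,0,3], [0,0,3,0,2,0,2], [0,3,0,2,1,3], [3,1,3], [2,1,3,0,0], [0,2,0],
   [2,1,3,3,0,2], [2,1,3,0,2,1], [0,0,2,1,3,0], [0,2,2,0,3,0], [0,0,3,3,0,0], [1,2,1,2,2,0],
   [2,1,2,2,2,0,3], [1,2,1,3,3,0,2], [0,3,3,1,2,2], [1,3,1,2,1,3], [3,0,0,3,3,0], [0,3,0,0,2,1,3],
   [2,2,0,3,1], [2,2,2,1,2,0,0], [0,2,1,2,2], [2,0,3,0,2], [3,1,2], [0,2,2,0,3,1],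
   [1,2,2,0,2,1,3,3], [2,1,3,0,2], [0,0,3,3,1], [0,0,2,0,0], [0,3,1,2,1,3,3,1], [2,1,3,0,0,3],
   [3,1,3,3], [1,2,0,3,1,2], [2,2,0,3], [0,0,3,1,2,1,2], [3,3,0,2,1], [2,2,1,3,0,0], [1,2,0,3,3,1],
   [0,0,3,0,0,3], [0,3,0,3,0], [0,3,3,1,2,2,0], [0,2,2,0,3,0], [2,2,0,2,2,1], [2,2,1,3],
   [1,2,1,2,2,1], [0,3,1,2,1,2,1], [0,2,0,0,3,3,0], [2,2,2,0,0,2,1], [3,3], [2,2,1,3],
   [0,3,3,1,2,2,1], [0,3,3,0,2,2,1], [2,2,1,3,0,0,3], [1,3,0,3,0,2], [0,0,3,3,0], [2,0,3,0,2,1],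
   [0,3,3,0,3,1], [1,2,0,3,3], [3,3,0,2,1,3], [2,2,1,3,3], [3,0,3,3,1], [1,2,0,3,1], [2,2,0,0,2,1],
   [2,2,0,3,0], [0,2,2,0,3,1], [3,0,2,1,2,1], [1,3,0,3,1], [0,0,2,1,2,2,2], [1,2,0,0,2,1],
   [0,0,2,1,3,0], [3,0,2,2,2], [3,0,2,2,2], [1,2,0,3,3,0,3], [1,2,0,3,3], [3,0,2,1,2,0],
   [3,0,3,3,0], [1,3,1,2,2,1], [0,0,3,0,2,1,2], [1,2,0,3,3,0], [3,0,2,2], [1,2,1,2,0,2,2],
   [0,0,2,0], [1,2,2], [1,2,2], [3,3,0,0,3,0], [2,1,2,0,3,3], [2,1,3,3], [1,3,0,3,3], [3,0,0,2,0],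
   [2,2,1,2,1], [2,0,2,1,3], [3,0,3,1,2], [2,0,2,0,3], [1,2,2], [3,3,1,2], [3,0,2,0,0,2],
   [3,0,2,0,3,1], [0,0,2,1,2,2,0], [0,2,0,3,1,3,3], [2,1,2,0,2], [2,1,2], [3,0,2,0], [0,3,3,1,3,0],
   [3,3,1,3,3], [0,3,1,2,1,2,0,2], [1,3,3,1,3,3], [0,0,2,2,0,2], [0,0,2,2,0,2], [0,2,2,1,2,1,3],
   [2,0,3], [1,2,2,2,1,3,3], [2,2,0,3,0,3,1], [0,0,3,3,1,3,1], [2,1,3], [0,2,0,3,0,0], [1,2,2,0,0],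
   [3,0,0,3], [1,3,3,1,3], [3,3,0,0,2,2,2], [0,0,2,0,2], [0,2,0,2,2,2,0,0], [3,3,1,2], [2,2,1,2,0],
   [1,2,1,3,0], [3,1,2,0,0,2], [1,3,1,3,3,1,2], [0,3,1,2], [2,0,2,1,2,2,2], [1], [0,2,2,2],
   [0,2,1,2,1,2,0], [0,2,1,3,3,1], [3,3,0,0], [2,2,0,0,3], [3,1,2,1,3,3], [3,0,0,2,1], [3,0,0,2,2],
   [2,0,0], [0,3,3,0,0,3], [2,0,0,3,0], [2,0,3,3,1,2], [0,3,0,0,3,0], [0,2,1,2,1], [1,3,1,3,3],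
   [0,3,0,3,0,3,1,3], [3,0,0], [2,1,3], [2,0,3], [0,0,3], [1,2,2,0,0], [2,1,3,3,1,2], [0],
   [2,2,0,3,0,0], [0,0,2,0], [0,0,3,0,2], [0,3,1,2,1,2,0], [3,3,0,0,2,2], [0,0,2,1,3,1], [2,1,3,3],
   [1,3,0,3,3], [1,3,1,2,1,3], [0,0,2,1,3,1], [2,1,3,3,0,0], [2,0,2,1,2,1,2,2], [2,1,3,0,2,0],
   [0,2,0,3,1,2], [0,3,1], [3,0,2,0], [3,1,2,0], [0,3,3,0,3,0], [3,3,0,2,0], [2,2,2,1,2],
   [0,0,3,0,2,0,0], [2,2,2,1,2], [0,0,3,3], [3,1,3,3,0], [0,3,3,0,2,2,0], [3,0,2,1,2], [0,0,2,1],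
   [0,0,3,3], [0,3,0], [3,1,2,1,2], [1,2,1,2,2], [3,1,2,1], [1,3,1,2,2], [3,3,0,2,0,3],
   [1,3,1,2,2], [3,0,3,3,1], [1,2,1,2,2], [0,2,2,0,0,2], [3,3,0,0], [1,2,2,1,2], [0,0,2],
   [2,2,0,2,2], [0,3,1,3,1,2,2,2], [3,0,2,1], [2,2,2,1], [1,3,0,3,3], [0,0,2,2], [0,3,0,0,2]]

def pts2 : List ℕ := (List.range 24).filter fun i => dod0.testBit i

/-- Dodecads through the base point. -/
def L3 : List ℕ := dodecadList.filter fun m => m.testBit 0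

def inv3 (m : ℕ) : ℕ := pop (dod0 &&& m)

def rep3 (k : ℕ) : ℕ :=
  if k = 4 then 10887543 else if k = 6 then 10743859 else if k = 8 then 8101915 else dod0

theorem gens2_ok : ∀ g ∈ gens2, genOK [dod0] g = true := by decide +kernel

theorem gens3_ok : ∀ g ∈ gens3, genOK [2 ^ 0, dod0] g = true := by decide +kernel

theorem cert2 : certCheck gens2 (fun _ => [2 ^ 0]) (fun i => [2 ^ i]) pts2 words2 = true := by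
  decide +kernel

theorem cert3 : certCheck gens3 (fun m => [rep3 (inv3 m)]) (fun m => [m]) L3 words3 = true := by
  decide +kernel

theorem count4 : (L3.filter fun m => inv3 m == 4).length = 165 := by decide +kernel

theorem count8 : (L3.filter fun m => inv3 m == 8).length = 330 := by decide +kernel

theorem count6 : (L3.filter fun m => inv3 m == 6).length = 792 := by decide +kernel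

/-- Transitivity on (dodecad, point in it) pairs. -/
theorem flag_transitive (x : GolayPt) (o : Finset GolayPt) (ho : o ∈ dodecads) (hx : x ∈ o) :
    ∃ h ∈ M24, h • toFinset dod0 = o ∧ h (pt 0) = x := by
  obtain ⟨g1, hg1, e1⟩ := dodecads_transitive ho
  have hx' : g1⁻¹ x ∈ toFinset dod0 := by
    rw [← e1, ← Finset.inv_smul_mem_iff] at hx
    simpa using hx
  have hmem : idx (g1⁻¹ x) ∈ pts2 := by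
    unfold pts2
    rw [List.mem_filter, List.mem_range]
    exact ⟨idx_lt _, mem_toFinset.mp hx'⟩
  obtain ⟨g2, hg2, e2⟩ := reach_single (certCheck_spec gens2_ok _ _ _ _ cert2 _ hmem)
  rw [toFinset_two_pow (by norm_num), toFinset_two_pow (idx_lt _), pt_idx, smul_singleton_pt,
    Finset.singleton_inj] at e2
  refine ⟨g1 * g2, M24.mul_mem hg1 hg2.1, ?_, ?_⟩
  · rw [mul_smul, hg2.2 dod0 (by simp), e1]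
  · rw [Equiv.Perm.mul_apply, e2]
    simp

theorem base_set_eq (k : ℕ) :
    {s : Finset GolayPt | s ∈ dodecads ∧ pt 0 ∈ s ∧ (toFinset dod0 ∩ s).card = k} =
      {s | ∃ m ∈ L3.filter (fun m => inv3 m == k), s = toFinset m} := by
  ext s
  simp only [Set.mem_ofPred_eq]
  constructor
  · rintro ⟨hs, hp, hc⟩
    obtain ⟨m, hm, rfl⟩ := mem_dodecads_iff'.mp hs
    refine ⟨m, ?_, rfl⟩
    rw [List.mem_filter, beq_iff_eq]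
    refine ⟨?_, ?_⟩
    · unfold L3
      rw [List.mem_filter]
      refine ⟨hm, ?_⟩
      have := mem_toFinset.mp hp
      rwa [idx_pt (by norm_num)] at this
    · unfold inv3
      rw [← card_toFinset, toFinset_and, hc]
  · rintro ⟨m, hm, rfl⟩
    rw [List.mem_filter, beq_iff_eq] at hm
    obtain ⟨hm1, hm2⟩ := hm
    unfold L3 at hm1
    rw [List.mem_filter] at hm1
    refine ⟨toFinset_mem_dodecads hm1.1, ?_, ?_⟩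
    · rw [mem_toFinset, idx_pt (by norm_num)]; exact hm1.2
    · unfold inv3 at hm2
      rw [← toFinset_and, card_toFinset, hm2]

theorem base_count (k : ℕ) :
    {s : Finset GolayPt | s ∈ dodecads ∧ pt 0 ∈ s ∧ (toFinset dod0 ∩ s).card = k}.ncard =
      (L3.filter (fun m => inv3 m == k)).length := by
  rw [base_set_eq, ncard_of_list]
  · exact (dodecadList_nodup.filter _).filter _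
  · intro m hm
    exact dodecadList_lt (List.mem_of_mem_filter (List.mem_of_mem_filter hm))

theorem count_transport (h : Equiv.Perm GolayPt) (hh : h ∈ M24) (k : ℕ) :
    {s : Finset GolayPt | s ∈ dodecads ∧ h (pt 0) ∈ s ∧ (h • toFinset dod0 ∩ s).card = k}.ncard =
      (L3.filter (fun m => inv3 m == k)).length := by
  rw [← base_count]
  apply ncard_transport h
  intro s
  simp only [Set.mem_ofPred_eq]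
  rw [smul_mem_dodecads hh, smul_mem_smul_iff, card_smul_inter]

/-- The point stabiliser acts on the 1288 dodecads through the point with rank 4 and subdegrees 1, 165, 330, 792, distinguished by intersection 4, 8, 6 with the fixed dodecad. -/
theorem result (x : Cfsg.GolayPt) (d : Finset Cfsg.GolayPt) (hd : d ∈ Cfsg.dodecads) (hx : x ∈ d) : {d' : Finset Cfsg.GolayPt | d' ∈ Cfsg.dodecads ∧ x ∈ d' ∧ (d ∩ d').card = 4}.ncard = 165 ∧ {d' : Finset Cfsg.GolayPt | d' ∈ Cfsg.dodecads ∧ x ∈ d' ∧ (d ∩ d').card = 8}.ncard = 330 ∧ {d' : Finset Cfsg.GolayPt | d' ∈ Cfsg.dodecads ∧ x ∈ d' ∧ (d ∩ d').card = 6}.ncard = 792 ∧ ∀ d' d'' : Finset Cfsg.GolayPt, d' ∈ Cfsg.dodecads → d'' ∈ Cfsg.dodecads → x ∈ d' → x ∈ d'' → (d ∩ d').card = (d ∩ d'').card → ∃ g : Equiv.Perm Cfsg.GolayPt,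 g ∈ Cfsg.M24 ∧ g x = x ∧ g • d = d ∧ g • d' = d'' := by
  obtain ⟨h, hh, rfl, rfl⟩ := flag_transitive x d hd hx
  refine ⟨?_, ?_, ?_, ?_⟩
  · rw [count_transport h hh 4, count4]
  · rw [count_transport h hh 8, count8]
  · rw [count_transport h hh 6, count6]
  · intro o' o'' ho' ho'' hxo' hxo'' hc
    have key : ∀ t : Finset GolayPt, t ∈ dodecads → h (pt 0) ∈ t →
        ∃ m ∈ L3, h⁻¹ • t = toFinset m ∧ inv3 m = (h • toFinset dod0 ∩ t).card := by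
      intro t ht hxt
      have ht' : h⁻¹ • t ∈ dodecads := (smul_mem_dodecads (M24.inv_mem hh)).mpr ht
      obtain ⟨m, hm, e⟩ := mem_dodecads_iff'.mp ht'
      refine ⟨m, ?_, e, ?_⟩
      · unfold L3
        rw [List.mem_filter]
        refine ⟨hm, ?_⟩
        have : pt 0 ∈ h⁻¹ • t := by
          rw [← Finset.inv_smul_mem_iff]
          simpa using hxt
        rw [e, mem_toFinset, idx_pt (by norm_num)] at this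
        exact this
      · unfold inv3
        rw [← card_toFinset, toFinset_and, ← e, ← card_smul_inter h, smul_inv_smul]
    obtain ⟨m1, hm1, e1, i1⟩ := key o' ho' hxo'
    obtain ⟨m2, hm2, e2, i2⟩ := key o'' ho'' hxo''
    obtain ⟨g0, hg0, eg⟩ := same_orbit_of_cert gens3_ok inv3 rep3 L3 words3 cert3 m1 hm1 m2 hm2
      (by rw [i1, i2, hc])
    refine ⟨h * g0 * h⁻¹, conj_mem_M24 hh hg0, ?_, ?_, ?_⟩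
    · exact conj_fix_pt hg0 (by norm_num) (by simp)
    · exact conj_fix hg0 (by simp)
    · have := conj_smul h g0 _ _ eg
      rwa [← e1, ← e2, smul_inv_smul, smul_inv_smul] at this

end Cfsg.Agent.S1639
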