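import Cfsg.Statements.S1642
import Cfsg.Agent.Lib.Helper7.HSInv

set_option autoImplicit false
open Cfsg

namespace Cfsg.Agent.S1642

/-- Some involution of the Higman–Sims group acts without fixed points on its 100 points. -/
theorem result (v w : ↥Cfsg.leechLattice) (hv : Cfsg.sqNorm (v : Cfsg.GolayPt → ℤ) = 48) (hw : Cfsg.sqNorm (w : Cfsg.GolayPt → ℤ) = 48) (hvw : Cfsg.dotInt (v : Cfsg.GolayPt → ℤ) (w : Cfsg.GolayPt → ℤ) = -32) : ∃ g : ↥Cfsg.Co0, g • v = v ∧ g • w = w ∧ orderOf g = 2 ∧ ∀ x ∈ {x : ↥Cfsg.leechLattice | Cfsg.sqNorm (x : Cfsg.GolayPt → ℤ) = 32 ∧ Cfsg.dotInt (v : Cfsg.GolayPt → ℤ) (x : Cfsg.GolayPt → ℤ) = 24 ∧ Cfsg.dotInt (w : Cfsg.GolayPt → ℤ) (x : Cfsg.GolayPt → ℤ) = -24}, g • x ≠ x := by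
  obtain ⟨g, hg, hgv, hgw, hsq, hfix⟩ := Cfsg.Agent.Helper7.inv100 v w hv hw hvw
  have hne : (Cfsg.Agent.Helper7.X100 v w).Nonempty := by
    rw [← Set.ncard_pos ((Set.finite_of_ncard_pos (by
      rw [(Cfsg.Agent.Helper7.trans100 v w hv hw hvw).1]; norm_num)))]
    rw [(Cfsg.Agent.Helper7.trans100 v w hv hw hvw).1]; norm_num
  obtain ⟨x0, hx0⟩ := hne
  refine ⟨⟨g, hg⟩, hgv, hgw, ?_, fun x hx => hfix x hx⟩
  apply orderOf_eq_prime
  · apply Subtype.ext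
    rw [sq]
    exact hsq
  · intro h1
    apply hfix x0 hx0
    have : g = 1 := congrArg Subtype.val h1
    rw [this]
    rfl

end Cfsg.Agent.S1642
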