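import Cfsg.Statements.S1643
import Mathlib
import Cfsg.Agent.Lib.Helper27.Frob23d

set_option autoImplicit false
open scoped Pointwise
open Cfsg

namespace Cfsg.Agent.S1643

open Cfsg.Agent.Helper7 Cfsg.Agent.Helper27.OutAut Cfsg.Agent.Helper27.M24Aut
  Cfsg.Agent.Helper27.M23Gen Cfsg.Agent.Helper27.Frob23

/-- Maximality inside a subgroup, from maximality among the subgroups of the ambient group. -/
theorem isCoatom_subgroupOf {G : Type*} [Group G] {A H : Subgroup G} (hAH : A ≤ H) (hne : A ≠ H)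
    (hmax : ∀ K : Subgroup G, A ≤ K → K ≤ H → K = A ∨ K = H) : IsCoatom (A.subgroupOf H) := by
  constructor
  · intro h
    rw [Subgroup.subgroupOf_eq_top] at h
    exact hne (le_antisymm hAH h)
  · intro B hB
    have hK1 : B.map H.subtype ≤ H := by
      rintro _ ⟨b, _, rfl⟩
      exact b.2
    have hK2 : A ≤ B.map H.subtype := by
      intro a ha
      exact ⟨⟨a, hAH ha⟩, hB.le (Subgroup.mem_subgroupOf.mpr ha), rfl⟩
    have hB' : B = (B.map H.subtype).subgroupOf H := by
      rw [Subgroup.subgroupOf, Subgroup.comap_map_eq_self_of_injective H.subtype_injective]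
    rcases hmax _ hK2 hK1 with h | h
    · exfalso
      rw [h] at hB'
      exact hB.ne hB'.symm
    · rw [hB', h]
      exact Subgroup.subgroupOf_self H

/-- The unit `2` of `ZMod 23`. -/
def u2 : (ZMod 23)ˣ := ⟨2, 12, by decide, by decide⟩

/-- The unit `5` of `ZMod 23`. -/
def u5 : (ZMod 23)ˣ := ⟨5, 14, by decide, by decide⟩

/-- The multiplications by squares. -/
def U : Set (Equiv.Perm GolayPt) :=
  {g | ∃ u : (ZMod 23)ˣ, IsSquare u ∧ g = Equiv.optionCongr (Units.mulLeft u)}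

theorem y_eq : yP = Equiv.optionCongr (Units.mulLeft u2) := by
  apply Equiv.ext
  decide

theorem y_mem_U : yP ∈ U := ⟨u2, ⟨u5, by apply Units.ext; decide⟩, y_eq⟩

theorem U_pow : ∀ r : (ZMod 23)ˣ, ∃ j < 11,
    ∀ p : GolayPt, Equiv.optionCongr (Units.mulLeft (r * r)) p = (yP ^ j) p := by
  decide +kernel

theorem U_sub (g : Equiv.Perm GolayPt) (hg : g ∈ U) : g ∈ Subgroup.zpowers yP := by
  obtain ⟨u, ⟨r, rfl⟩, rfl⟩ := hg
  obtain ⟨j, _, hj⟩ := U_pow r
  have : Equiv.optionCongr (Units.mulLeft (r * r)) = yP ^ j := Equiv.ext hj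
  rw [this]
  exact Subgroup.pow_mem _ (Subgroup.mem_zpowers _) j

theorem closure_A1 : Subgroup.closure (({Equiv.optionCongr (Equiv.addRight (1 : ZMod 23)),
    Cfsg.projInv} : Set (Equiv.Perm GolayPt)) ∪ U) = L := by
  apply le_antisymm
  · rw [Subgroup.closure_le]
    rintro g ((rfl | rfl) | hg)
    · exact Subgroup.subset_closure (by simp)
    · exact Subgroup.subset_closure (by simp)
    · have h1 := U_sub g hg
      have h2 : Subgroup.zpowers yP ≤ L := by
        rw [Subgroup.zpowers_le]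
        exact Subgroup.subset_closure (by simp)
      exact h2 h1
  · rw [L, Subgroup.closure_le]
    rintro g (rfl | rfl | rfl)
    · exact Subgroup.subset_closure (Or.inl (by simp))
    · exact Subgroup.subset_closure (Or.inr y_mem_U)
    · exact Subgroup.subset_closure (Or.inl (by simp))

theorem closure_A2 : Subgroup.closure (({Equiv.optionCongr (Equiv.addRight (1 : ZMod 23))} :
    Set (Equiv.Perm GolayPt)) ∪ U) = F := by
  apply le_antisymm
  · rw [Subgroup.closure_le]
    rintro g (rfl | hg)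
    · exact Subgroup.subset_closure (by simp)
    · have h1 := U_sub g hg
      have h2 : Subgroup.zpowers yP ≤ F := by
        rw [Subgroup.zpowers_le]
        exact Subgroup.subset_closure (by simp)
      exact h2 h1
  · rw [F, Subgroup.closure_le]
    rintro g (rfl | rfl)
    · exact Subgroup.subset_closure (Or.inl (by simp))
    · exact Subgroup.subset_closure (Or.inr y_mem_U)

theorem coatom_L : IsCoatom (L.subgroupOf Cfsg.M24) :=
  isCoatom_subgroupOf L_le_M24 L_ne_M24 max24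

theorem stab_eq : MulAction.stabilizer ↥Cfsg.M24 (none : GolayPt) =
    (Cfsg.Spor.M23).subgroupOf Cfsg.M24 := by
  ext g
  rw [MulAction.mem_stabilizer_iff, Subgroup.mem_subgroupOf, mem_M23]
  constructor
  · intro h
    exact ⟨g.2, h⟩
  · intro h
    exact h.2

theorem coatom_F : IsCoatom ((F.subgroupOf Cfsg.M24).subgroupOf
    (MulAction.stabilizer ↥Cfsg.M24 (none : GolayPt))) := by
  have hM : Cfsg.Spor.M23 ≤ Cfsg.M24 := fun g hg => (mem_M23.mp hg).1
  apply isCoatom_subgroupOf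
  · rw [stab_eq]
    intro g hg
    rw [Subgroup.mem_subgroupOf] at hg ⊢
    exact F_le_M23 hg
  · rw [stab_eq]
    intro h
    apply F_ne_M23
    have h1 := congrArg (Subgroup.map (Cfsg.M24).subtype) h
    rwa [Subgroup.map_subgroupOf_eq_of_le (F_le_M23.trans hM),
      Subgroup.map_subgroupOf_eq_of_le hM] at h1
  · intro K1 hA hS
    rw [stab_eq] at hS ⊢
    have hK1 : K1 = (K1.map (Cfsg.M24).subtype).subgroupOf Cfsg.M24 := by
      rw [Subgroup.subgroupOf,
        Subgroup.comap_map_eq_self_of_injective (Cfsg.M24).subtype_injective]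
    have h1 : F ≤ K1.map (Cfsg.M24).subtype := by
      have := Subgroup.map_mono (f := (Cfsg.M24).subtype) hA
      rwa [Subgroup.map_subgroupOf_eq_of_le (F_le_M23.trans hM)] at this
    have h2 : K1.map (Cfsg.M24).subtype ≤ Cfsg.Spor.M23 := by
      have := Subgroup.map_mono (f := (Cfsg.M24).subtype) hS
      rwa [Subgroup.map_subgroupOf_eq_of_le hM] at this
    rcases max23 _ h1 h2 with h | h
    · left; rw [hK1, h]
    · right; rw [hK1, h]

theorem result : (Subgroup.closure ({Equiv.optionCongr (Equiv.addRight (1 : ZMod 23)), Cfsg.projInv} ∪ {g : Equiv.Perm Cfsg.GolayPt | ∃ u : (ZMod 23)ˣ, IsSquare u ∧ g = Equiv.optionCongr (Units.mulLeft u)}) ≤ Cfsg.M24 ∧ Nat.card ↥(Subgroup.closure ({Equiv.optionCongr (Equiv.addRight (1 : ZMod 23)), Cfsg.projInv} ∪ {g : Equiv.Perm Cfsg.GolayPt | ∃ u : (ZMod 23)ˣ, IsSquare u ∧ g = Equiv.optionCongr (Units.mulLeft u)})) = 6072 ∧ IsCoatom ((Subgroup.closure ({Equiv.optionCongr (Equiv.addRight (1 : ZMod 23)), Cfsg.projInv}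 ∪ {g : Equiv.Perm Cfsg.GolayPt | ∃ u : (ZMod 23)ˣ, IsSquare u ∧ g = Equiv.optionCongr (Units.mulLeft u)})).subgroupOf Cfsg.M24)) ∧ (Subgroup.closure ({Equiv.optionCongr (Equiv.addRight (1 : ZMod 23))} ∪ {g : Equiv.Perm Cfsg.GolayPt | ∃ u : (ZMod 23)ˣ, IsSquare u ∧ g = Equiv.optionCongr (Units.mulLeft u)}) ≤ Cfsg.M24 ⊓ MulAction.stabilizer (Equiv.Perm Cfsg.GolayPt) (none : Cfsg.GolayPt) ∧ Nat.card ↥(Subgroup.closure ({Equiv.optionCongr (Equiv.addRight (1 : ZMod 23))} ∪ {g : Equiv.Perm Cfsg.GolayPt | ∃ u : (ZMod 23)ˣ, IsSquare u ∧ g = Equiv.optionCongr (Units.mulLeft u)})) = 253 ∧ IsCoatom (((Subgroup.closure ({Equiv.optionCongr (Equiv.addRight (1 : ZMod 23))} ∪ {g : Equiv.Perm Cfsg.GolayPt | ∃ u : (ZMod 23)ˣ, IsSquare u ∧ g = Equiv.optionCongr (Units.mulLeft u)})).subgroupOf Cfsg.M24).subgroupOf (MulAction.stabilizer Cfsg.M24 (none : Cfsg.GolayPt)))) := by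
  have e1 := closure_A1
  have e2 := closure_A2
  unfold U at e1 e2
  rw [e1, e2]
  exact ⟨⟨L_le_M24, card_L, coatom_L⟩, F_le_M23, card_F, coatom_F⟩

end Cfsg.Agent.S1643
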