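import Cfsg.Statements.S1691

set_option autoImplicit false
open Cfsg

namespace Cfsg.Agent.S1691

open Cfsg.Spor Cfsg.Spor.Fi24

/-- the parity homomorphism on the free group -/
def par : Gen → Multiplicative (ZMod 2) := fun _ => Multiplicative.ofAdd 1

theorem par_sq (x y : Gen) : par x * par y = 1 := by
  unfold par
  decide

theorem par_rel : ∀ r ∈ (coxRelators edges ∪ {r | r ∈ extra} : Set (FreeGroup Gen)),
    FreeGroup.lift par r = 1 := by
  intro r hr
  rcases hr with hr | hr
  · obtain ⟨x, _, y, _, rfl⟩ := hr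
    simp [par_sq]
  · simp only [extra, Set.mem_ofPred_eq, List.mem_cons, List.not_mem_nil, or_false] at hr
    rcases hr with rfl | rfl
    · simp [par_sq]
      decide
    · simp [par_sq]

/-- the parity homomorphism on Fi24 -/
def phi : Fi24 →* Multiplicative (ZMod 2) := PresentedGroup.toGroup par_rel

theorem phi_of (x : Gen) : phi (PresentedGroup.of x) = Multiplicative.ofAdd 1 :=
  PresentedGroup.toGroup.of par_rel

theorem phi_surj : Function.Surjective phi := by
  intro z
  induction z using Multiplicative.rec with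
  | _ z =>
    fin_cases z
    · exact ⟨1, map_one _⟩
    · exact ⟨PresentedGroup.of Gen.a, phi_of _⟩

theorem two_dvd : 2 ∣ (commutator Fi24).index := by
  have h1 : commutator Fi24 ≤ phi.ker := Abelianization.commutator_subset_ker phi
  have h2 : phi.ker.index = 2 := by
    rw [Subgroup.index_ker, MonoidHom.range_eq_top.mpr phi_surj]
    simp
  rw [← h2]
  exact Subgroup.index_dvd_of_le h1

/-- image of a generator in the abelianization -/
def ab (x : Gen) : Abelianization Fi24 := Abelianization.of (PresentedGroup.of x)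

theorem mem_rels_cox (x y : Gen) (hx : x ∈ coxNodes edges) (hy : y ∈ coxNodes edges) :
    (FreeGroup.of x * FreeGroup.of y) ^ coxLabel edges x y ∈
      (coxRelators edges ∪ {r | r ∈ extra} : Set (FreeGroup Gen)) :=
  Or.inl ⟨x, hx, y, hy, rfl⟩

theorem all_nodes (x : Gen) : x ∈ coxNodes edges := by
  cases x <;> decide

theorem of_sq (x : Gen) : (PresentedGroup.of x : Fi24) * PresentedGroup.of x = 1 := by
  have := PresentedGroup.one_of_mem (mem_rels_cox x x (all_nodes x) (all_nodes x))
  have h : coxLabel edges x x = 1 := by simp [coxLabel]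
  rw [h, pow_one, map_mul] at this
  exact this

theorem of_cube (x y : Gen) (h : coxLabel edges x y = 3) :
    ((PresentedGroup.of x : Fi24) * PresentedGroup.of y) ^ 3 = 1 := by
  have := PresentedGroup.one_of_mem (mem_rels_cox x y (all_nodes x) (all_nodes y))
  rw [h, map_pow, map_mul] at this
  exact this

theorem ab_sq (x : Gen) : ab x * ab x = 1 := by
  unfold ab
  rw [← map_mul, of_sq, map_one]

theorem ab_eq (x y : Gen) (h : coxLabel edges x y = 3) : ab x = ab y := by
  have h3 : (ab x * ab y) ^ 3 = 1 := by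
    unfold ab
    rw [← map_mul, ← map_pow, of_cube x y h, map_one]
  have hx := ab_sq x
  have hy := ab_sq y
  rw [mul_pow] at h3
  have hx3 : ab x ^ 3 = ab x := by
    rw [pow_succ, pow_two, hx, one_mul]
  have hy3 : ab y ^ 3 = ab y := by
    rw [pow_succ, pow_two, hy, one_mul]
  rw [hx3, hy3] at h3
  calc ab x = ab x * (ab y * ab y) := by rw [hy, mul_one]
    _ = (ab x * ab y) * ab y := by rw [mul_assoc]
    _ = ab y := by rw [h3, one_mul]

theorem ab_all (x : Gen) : ab x = ab Gen.d := by
  have hc : ab Gen.c = ab Gen.d := ab_eq _ _ (by decide)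
  have hb : ab Gen.b = ab Gen.d := (ab_eq Gen.b Gen.c (by decide)).trans hc
  have ha : ab Gen.a = ab Gen.d := (ab_eq Gen.a Gen.b (by decide)).trans hb
  have hk : ab Gen.k = ab Gen.d := (ab_eq Gen.k Gen.a (by decide)).trans ha
  have hl : ab Gen.l = ab Gen.d := (ab_eq Gen.l Gen.k (by decide)).trans hk
  have he : ab Gen.e = ab Gen.d := (ab_eq Gen.d Gen.e (by decide)).symm
  have hf : ab Gen.f = ab Gen.d := (ab_eq Gen.e Gen.f (by decide)).symm.trans he
  have hg : ab Gen.g = ab Gen.d := (ab_eq Gen.f Gen.g (by decide)).symm.trans hf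
  have hj : ab Gen.j = ab Gen.d := (ab_eq Gen.g Gen.j (by decide)).symm.trans hg
  have hh : ab Gen.h = ab Gen.d := (ab_eq Gen.d Gen.h (by decide)).symm
  have hi : ab Gen.i = ab Gen.d := (ab_eq Gen.h Gen.i (by decide)).symm.trans hh
  cases x <;> first | rfl | assumption

theorem ab_mem (w : FreeGroup Gen) :
    Abelianization.of (PresentedGroup.mk (coxRelators edges ∪ {r | r ∈ extra}) w) ∈
      Subgroup.zpowers (ab Gen.d) := by
  induction w using FreeGroup.induction_on with
  | C1 =>
    rw [MonoidHom.map_one, MonoidHom.map_one]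
    exact (Subgroup.zpowers (ab Gen.d)).one_mem
  | of x =>
    have : Abelianization.of (PresentedGroup.mk (coxRelators edges ∪ {r | r ∈ extra})
        (FreeGroup.of x)) = ab x := rfl
    rw [this, ab_all x]
    exact Subgroup.mem_zpowers (ab Gen.d)
  | inv_of x h =>
    rw [MonoidHom.map_inv, MonoidHom.map_inv]
    exact (Subgroup.zpowers (ab Gen.d)).inv_mem h
  | mul x y hx hy =>
    rw [MonoidHom.map_mul, MonoidHom.map_mul]
    exact (Subgroup.zpowers (ab Gen.d)).mul_mem hx hy

theorem ab_top : Subgroup.zpowers (ab Gen.d) = ⊤ := by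
  rw [eq_top_iff]
  intro z _
  obtain ⟨g, rfl⟩ : ∃ g, Abelianization.of g = z := QuotientGroup.mk_surjective z
  obtain ⟨w, rfl⟩ := PresentedGroup.mk_surjective _ g
  exact ab_mem w

theorem card_le : Nat.card (Abelianization Fi24) ∣ 2 := by
  have h : Nat.card (Subgroup.zpowers (ab Gen.d)) = Nat.card (Abelianization Fi24) := by
    rw [ab_top]; simp
  rw [← h, Nat.card_zpowers]
  apply orderOf_dvd_of_pow_eq_one
  rw [pow_two]; exact ab_sq _

theorem result : (commutator Cfsg.Spor.Fi24).index = 2 := by
  have h1 := two_dvd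
  have h2 : (commutator Fi24).index ∣ 2 := card_le
  exact Nat.dvd_antisymm h2 h1

end Cfsg.Agent.S1691
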