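-- Statement S1697: the presented Fischer group Fi23 is simple of order 4089470473293004800.
import Cfsg.Statements.S1697
import Cfsg.Agent.S1689
import Cfsg.Agent.Lib.Helper27.Fi23.Simple

set_option autoImplicit false
open Cfsg

namespace Cfsg.Agent.S1697

/-- The presented Fischer group Fi23 is simple of the expected order (that is, it is a simple group of the order of the Fischer group Fi₂₃). -/
theorem result : Cfsg.IsFi23 Cfsg.Spor.Fi23 := by
  exact ⟨Cfsg.Agent.Helper27.Fi23.simple_Fi23 Cfsg.Agent.S1689.result,
    Cfsg.Agent.Helper27.Fi23.card_eq Cfsg.Agent.S1689.result⟩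

end Cfsg.Agent.S1697
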