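import Cfsg.Statements.S1699
import Cfsg.Agent.Lib.Helper28.S1692.Final
import Cfsg.Agent.Lib.Helper28.S1692.HBig
import Cfsg.Agent.Lib.Helper28.L37Card
import Cfsg.Agent.Lib.Helper40.L37Theta
import Cfsg.Agent.Lib.Helper13.L37Phi
import Cfsg.Agent.Lib.Helper13.L37Card
import Cfsg.Agent.Lib.Helper58.L37Strong
import Cfsg.Agent.Lib.Helper60.ONSD
import Cfsg.Agent.Lib.Helper37.ONSFix
import Cfsg.Agent.Lib.Helper37.ONSMain

set_option autoImplicit false
open Cfsg

namespace Cfsg.Agent.S1699

open Cfsg.Agent.Helper28 Cfsg.Agent.Helper28.S1692 in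
/-- the centre of the presented O'Nan group lies in `⟨a, …, f⟩` (helper28's verified coset table + ONS (D)) -/
theorem center_le : Subgroup.center (PresentedGroup rels) ≤ subH rels S :=
  Cfsg.Agent.Helper60.ONS.center_le_subH rels S fwd inv o hfi hif hrel hS
    (repW fwd inv o plet idx) (repW_o fwd inv o plet idx)
    (act_repW fwd inv o hfi hif plet idx htree) (hE_of_ok rels S fwd inv o plet idx hok)
    Cfsg.Agent.Helper37.ONSFix.hfix

/-- the strong form of S1693 (L37 server) -/
theorem strong : ∃ L : Subgroup ↥Cfsg.Agent.Helper37.ONSRel.onH, L.Normal ∧ L.index = 2 ∧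
    Nonempty (L ≃* Matrix.ProjectiveSpecialLinearGroup (Fin 3) (ZMod 7)) ∧
    ∀ M : Subgroup ↥Cfsg.Agent.Helper37.ONSRel.onH, M.Normal → M = ⊥ ∨ L ≤ M := by
  have hK := Cfsg.Agent.Helper28.L37.card_K_le
  have hKfin := hK.1
  have hfin : Finite ↥Cfsg.Agent.Helper13.L37.HSub :=
    Finite.of_surjective _ Cfsg.Agent.Helper13.L37.phiK_surjective
  exact Cfsg.Agent.Helper58.L37.exists_index_two_psl37_strong Cfsg.Agent.Helper40.L37.theta
    Cfsg.Agent.Helper40.L37.inn_le_theta_range Cfsg.Agent.Helper40.L37.theta_out hK.2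
    Cfsg.Agent.Helper13.L37.phiK Cfsg.Agent.Helper13.L37.phiK_surjective
    Cfsg.Agent.Helper28.S1692H.two_lt_card_stmt

/-- The presented O'Nan group is simple of the expected order (that is, it is a simple group of the order of the O'Nan group). -/
theorem result : Cfsg.IsON Cfsg.Spor.ON := by
  exact Cfsg.Agent.Helper37.ONSMain.isON_of Cfsg.Agent.Helper28.S1692.index_thm strong
    Cfsg.Agent.Helper13.L37.card_psl37 center_le

end Cfsg.Agent.S1699
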