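import Cfsg.Statements.S1717
import Mathlib

set_option autoImplicit false
open Cfsg

namespace Cfsg.Agent.S1717


theorem not_two_dvd_index {G : Type*} [Group G] [Finite G] (z : G) (hz : orderOf z = 2)
    (C : Subgroup G) (hC : C = Subgroup.centralizer ({z} : Set G))
    (T : Sylow 2 C)
    (hT : ∀ c ∈ (T : Subgroup C),
      (∀ x ∈ (T : Subgroup C), x * c = c * x) → c = 1 ∨ (c : G) = z) :
    ¬ 2 ∣ ((T : Subgroup C).map (Subgroup.subtype C)).index := by
  have : Fact (Nat.Prime 2) := ⟨Nat.prime_two⟩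
  have hz1 : z ≠ 1 := by
    intro h; rw [h, orderOf_one] at hz; omega
  have hT'p : IsPGroup 2 ((T : Subgroup C).map C.subtype) := T.isPGroup'.map _
  obtain ⟨S, hS⟩ := hT'p.exists_le_sylow
  -- z' in T
  have hzC : z ∈ C := by rw [hC]; exact Subgroup.mem_centralizer_singleton_iff.mpr rfl
  have hcentral : ∀ c : C, c * ⟨z, hzC⟩ = ⟨z, hzC⟩ * c := by
    intro c
    apply Subtype.ext
    have h2 : (c : G) ∈ Subgroup.centralizer ({z} : Set G) := hC ▸ c.2
    exact Subgroup.mem_centralizer_singleton_iff.mp h2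
  have hzT : (⟨z, hzC⟩ : C) ∈ (T : Subgroup C) := by
    have hn : (Subgroup.zpowers (⟨z, hzC⟩ : C)).Normal := by
      constructor
      intro n hn g
      obtain ⟨k, rfl⟩ := Subgroup.mem_zpowers_iff.mp hn
      have : g * (⟨z, hzC⟩ : C) ^ k * g⁻¹ = (⟨z, hzC⟩ : C) ^ k := by
        have hcomm : Commute g (⟨z, hzC⟩ : C) := hcentral g
        have := hcomm.zpow_right k
        rw [this.eq, mul_inv_cancel_right]
      rw [this]; exact Subgroup.zpow_mem_zpowers _ k
    have hp : IsPGroup 2 (Subgroup.zpowers (⟨z, hzC⟩ : C)) := by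
      apply IsPGroup.of_card (n := 1)
      rw [Nat.card_zpowers, pow_one, ← hz]
      exact (Subgroup.orderOf_coe (⟨z, hzC⟩ : C)).symm
    exact hp.le_sylow_of_normal T (Subgroup.mem_zpowers _)
  have hzS : z ∈ (S : Subgroup G) := hS ⟨⟨z, hzC⟩, hzT, rfl⟩
  -- S ∩ C = T
  have hSC : (S : Subgroup G).subgroupOf C = (T : Subgroup C) := by
    apply T.is_maximal' (S.isPGroup'.comap_subtype)
    intro x hx
    change (x : G) ∈ (S : Subgroup G)
    exact hS ⟨x, hx, rfl⟩
  -- center of S
  have hnt : Nontrivial (S : Subgroup G) := ⟨⟨⟨z, hzS⟩, 1, fun h => hz1 (congrArg Subtype.val h)⟩⟩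
  have hcnt : Nontrivial (Subgroup.center (S : Subgroup G)) := S.isPGroup'.center_nontrivial
  obtain ⟨⟨c, hcZ⟩, hc1⟩ := exists_ne (1 : Subgroup.center (S : Subgroup G))
  have hc1' : (c : G) ≠ 1 := by
    intro h
    apply hc1
    apply Subtype.ext
    apply Subtype.ext
    exact h
  have hccomm : ∀ x : G, x ∈ (S : Subgroup G) → x * c = c * x := by
    intro x hx
    have := Subgroup.mem_center_iff.mp hcZ ⟨x, hx⟩
    exact congrArg Subtype.val this
  have hcC : (c : G) ∈ C := by
    rw [hC, Subgroup.mem_centralizer_singleton_iff]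
    exact (hccomm z hzS).symm
  have hcT : (⟨c, hcC⟩ : C) ∈ (T : Subgroup C) := by
    rw [← hSC, Subgroup.mem_subgroupOf]; exact c.2
  have hcz : (c : G) = z := by
    rcases hT ⟨c, hcC⟩ hcT (by
      intro x hx
      apply Subtype.ext
      have hxS : (x : G) ∈ (S : Subgroup G) := by
        have : x ∈ (S : Subgroup G).subgroupOf C := by rw [hSC]; exact hx
        exact Subgroup.mem_subgroupOf.mp this
      exact hccomm x hxS) with h | h
    · exact absurd (congrArg Subtype.val h) hc1'
    · exact h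
  -- S ≤ C, so S ≤ T'
  have hSle : (S : Subgroup G) ≤ (T : Subgroup C).map C.subtype := by
    intro x hx
    have hxC : x ∈ C := by
      rw [hC, Subgroup.mem_centralizer_singleton_iff, ← hcz]
      exact hccomm x hx
    have : (⟨x, hxC⟩ : C) ∈ (S : Subgroup G).subgroupOf C := Subgroup.mem_subgroupOf.mpr hx
    rw [hSC] at this
    exact ⟨⟨x, hxC⟩, this, rfl⟩
  have heq : (T : Subgroup C).map C.subtype = (S : Subgroup G) := le_antisymm hS hSle
  rw [heq]
  exact S.not_dvd_index



local notation "SL5" => Matrix.SpecialLinearGroup (Fin 5) (ZMod 2)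
local notation "M5" => Matrix (Fin 5) (Fin 5) (ZMod 2)

theorem comm_single (g : Matrix (Fin 5) (Fin 5) (ZMod 2)) (i j : Fin 5)
    (h : g * Matrix.single i j 1 = Matrix.single i j 1 * g) (k l : Fin 5) :
    (if l = j then g k i else 0) = (if k = i then g j l else 0) := by
  have := congrFun (congrFun h k) l
  by_cases hl : l = j <;> by_cases hk : k = i
  · subst hl; subst hk
    simpa using this
  · subst hl
    rw [Matrix.single_mul_apply_of_ne _ _ _ _ _ hk] at this
    simpa [hk] using this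
  · subst hk
    rw [Matrix.mul_single_apply_of_ne _ _ _ _ _ hl] at this
    simpa [hl] using this
  · simp [hl, hk]

theorem comm_tv_iff (g t : SL5) (i j : Fin 5)
    (ht : (t : M5) = Matrix.transvection i j 1) :
    g * t = t * g ↔ (g : M5) * Matrix.single i j 1 = Matrix.single i j 1 * (g : M5) := by
  have key : (g * t = t * g) ↔ ((g * t : SL5) : M5) = ((t * g : SL5) : M5) :=
    ⟨fun h => congrArg _ h, fun h => Subtype.ext h⟩
  rw [key, Matrix.SpecialLinearGroup.coe_mul,
    Matrix.SpecialLinearGroup.coe_mul, ht, Matrix.transvection, mul_add, add_mul, mul_one,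
    one_mul]
  exact add_right_inj _

def tv (i j : Fin 5) (h : i ≠ j) : SL5 :=
  ⟨Matrix.transvection i j 1, Matrix.det_transvection_of_ne i j h 1⟩

theorem tv_coe (i j : Fin 5) (h : i ≠ j) : ((tv i j h : SL5) : M5) = Matrix.transvection i j 1 := rfl

def f : Fin 3 → Fin 5 := ![2, 3, 4]

def blk (g : M5) : Matrix (Fin 3) (Fin 3) (ZMod 2) := g.submatrix f f

theorem blk_mul (g g' : M5) (hg : ∀ k, k ≠ 0 → g k 0 = 0) (hg' : ∀ l, l ≠ 1 → g' 1 l = 0) :
    blk (g * g') = blk g * blk g' := by
  ext i j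
  simp only [blk, Matrix.submatrix_apply, Matrix.mul_apply, Fin.sum_univ_five, Fin.sum_univ_three]
  have h1 : g (f i) 0 = 0 := hg _ (by fin_cases i <;> decide)
  have h2 : g' 1 (f j) = 0 := hg' _ (by fin_cases j <;> decide)
  rw [h1, h2]
  simp [f]

theorem cent_entries (g : M5) (h : g * Matrix.single 0 1 1 = Matrix.single 0 1 1 * g) :
    (∀ k, k ≠ 0 → g k 0 = 0) ∧ (∀ l, l ≠ 1 → g 1 l = 0) ∧ g 0 0 = g 1 1 := by
  have key := comm_single g 0 1 h
  refine ⟨fun k hk => ?_, fun l hl => ?_, ?_⟩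
  · have := key k 1; simpa [hk] using this
  · have := key 0 l; simpa [hl] using this.symm
  · have := key 0 1; simpa using this

theorem zmod2_cases : ∀ x : ZMod 2, x = 0 ∨ x = 1 := by decide

theorem diag_eq_one (g : SL5) (h : ∀ k, k ≠ 0 → (g : M5) k 0 = 0) : (g : M5) 0 0 = 1 := by
  rcases zmod2_cases ((g : M5) 0 0) with h0 | h1
  · exfalso
    have hdet : (g : M5).det = 0 := by
      apply Matrix.det_eq_zero_of_column_eq_zero 0
      intro i
      by_cases hi : i = 0
      · rw [hi]; exact h0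
      · exact h i hi
    rw [g.2] at hdet
    exact one_ne_zero hdet
  · exact h1

/-- the shape of elements in the kernel -/
def shape (b1 b2 b3 b4 c2 c3 c4 : ZMod 2) : M5 :=
  !![1, b1, b2, b3, b4; 0, 1, 0, 0, 0; 0, c2, 1, 0, 0; 0, c3, 0, 1, 0; 0, c4, 0, 0, 1]

set_option maxHeartbeats 4000000 in
theorem shape_sq : ∀ b1 b2 b3 b4 c2 c3 c4 : ZMod 2,
    shape b1 b2 b3 b4 c2 c3 c4 * shape b1 b2 b3 b4 c2 c3 c4 =
      shape (b2 * c2 + b3 * c3 + b4 * c4) 0 0 0 0 0 0 := by
  decide +kernel

theorem shape_sq' : ∀ t : ZMod 2, shape t 0 0 0 0 0 0 * shape t 0 0 0 0 0 0 = 1 := by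
  decide +kernel

theorem shape_pow_four (b1 b2 b3 b4 c2 c3 c4 : ZMod 2) :
    shape b1 b2 b3 b4 c2 c3 c4 ^ 4 = 1 := by
  have e : ∀ A : M5, A ^ 4 = (A * A) * (A * A) := by
    intro A
    simp [pow_succ, mul_assoc]
  rw [e, shape_sq, shape_sq']

theorem eq_shape (g : SL5) (h : (g : M5) * Matrix.single 0 1 1 = Matrix.single 0 1 1 * (g : M5))
    (hb : blk (g : M5) = 1) :
    (g : M5) = shape ((g : M5) 0 1) ((g : M5) 0 2) ((g : M5) 0 3) ((g : M5) 0 4)
      ((g : M5) 2 1) ((g : M5) 3 1) ((g : M5) 4 1) := by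
  obtain ⟨h1, h2, h3⟩ := cent_entries _ h
  have h00 := diag_eq_one g h1
  have hblk : ∀ i j : Fin 3, (g : M5) (f i) (f j) = (1 : Matrix (Fin 3) (Fin 3) (ZMod 2)) i j := by
    intro i j
    rw [← hb]; rfl
  ext i j
  fin_cases i <;> fin_cases j <;>
    simp [shape, h00, ← h3, h1, h2] <;>
    first
      | (have := hblk 0 0; simpa [f] using this)
      | (have := hblk 0 1; simpa [f] using this)
      | (have := hblk 0 2; simpa [f] using this)
      | (have := hblk 1 0; simpa [f] using this)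
      | (have := hblk 1 1; simpa [f] using this)
      | (have := hblk 1 2; simpa [f] using this)
      | (have := hblk 2 0; simpa [f] using this)
      | (have := hblk 2 1; simpa [f] using this)
      | (have := hblk 2 2; simpa [f] using this)




theorem rigid (g : SL5)
    (h0 : ∀ j (hj : (0 : Fin 5) ≠ j), g * tv 0 j hj = tv 0 j hj * g)
    (h1 : ∀ i (hi : i ≠ 1), i ≠ 0 → g * tv i 1 hi = tv i 1 hi * g) :
    (g : M5) = 1 ∨ (g : M5) = Matrix.transvection 0 1 1 := by
  have k0 : ∀ j, (0 : Fin 5) ≠ j → ∀ k l,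
      (if l = j then (g : M5) k 0 else 0) = (if k = 0 then (g : M5) j l else 0) :=
    fun j hj => comm_single _ 0 j ((comm_tv_iff g _ 0 j (tv_coe 0 j hj)).mp (h0 j hj))
  have k1 : ∀ i, i ≠ 1 → i ≠ 0 → ∀ k l,
      (if l = 1 then (g : M5) k i else 0) = (if k = i then (g : M5) 1 l else 0) :=
    fun i hi hi0 => comm_single _ i 1 ((comm_tv_iff g _ i 1 (tv_coe i 1 hi)).mp (h1 i hi hi0))
  have c0 : ∀ k, k ≠ 0 → (g : M5) k 0 = 0 := by
    intro k hk
    have := k0 1 (by decide) k 1
    simpa [hk] using this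
  have hrow : ∀ j l, j ≠ 0 → l ≠ j → (g : M5) j l = 0 := by
    intro j l hj hl
    have := k0 j (Ne.symm hj) 0 l
    simpa [hl] using this.symm
  have hdiag : ∀ j, j ≠ 0 → (g : M5) j j = (g : M5) 0 0 := by
    intro j hj
    have := k0 j (Ne.symm hj) 0 j
    simpa using this.symm
  have hrow0 : ∀ i, i ≠ 1 → i ≠ 0 → (g : M5) 0 i = 0 := by
    intro i hi1 hi0
    have := k1 i hi1 hi0 0 1
    simpa [Ne.symm hi0] using this
  have h00 := diag_eq_one g c0
  have hentry : ∀ i j, (g : M5) i j =
      if i = j then 1 else if i = 0 ∧ j = 1 then (g : M5) 0 1 else 0 := by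
    intro i j
    by_cases hij : i = j
    · subst hij
      by_cases hi : i = 0
      · subst hi; simpa using h00
      · simp [hdiag i hi, h00]
    · by_cases hi : i = 0
      · subst hi
        by_cases hj : j = 1
        · subst hj; simp
        · simp [hij, hj, hrow0 j hj (Ne.symm hij)]
      · simp [hij, hi, hrow i j hi (Ne.symm hij)]
  rcases zmod2_cases ((g : M5) 0 1) with hb | hb
  · left
    ext i j
    rw [hentry, hb]
    fin_cases i <;> fin_cases j <;> simp
  · right
    ext i j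
    rw [hentry, hb]
    fin_cases i <;> fin_cases j <;> simp [Matrix.transvection, Matrix.single_apply]

theorem blk_one : blk (1 : M5) = 1 := by decide

def piHom (s : SL5) (hs : (s : M5) = Matrix.transvection 0 1 1) :
    ↥(Subgroup.centralizer ({s} : Set SL5)) →* Matrix (Fin 3) (Fin 3) (ZMod 2) where
  toFun g := blk ((g : SL5) : M5)
  map_one' := blk_one
  map_mul' g g' := by
    have hg := cent_entries _ ((comm_tv_iff g s 0 1 hs).mp
      (Subgroup.mem_centralizer_singleton_iff.mp g.2))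
    have hg' := cent_entries _ ((comm_tv_iff g' s 0 1 hs).mp
      (Subgroup.mem_centralizer_singleton_iff.mp g'.2))
    change blk (((g : SL5) * (g' : SL5) : SL5) : M5) = _
    rw [Matrix.SpecialLinearGroup.coe_mul]
    exact blk_mul _ _ hg.1 hg'.2.1

theorem ker_isPGroup (s : SL5) (hs : (s : M5) = Matrix.transvection 0 1 1) :
    IsPGroup 2 (piHom s hs).ker := by
  rintro ⟨g, hg⟩
  refine ⟨2, ?_⟩
  have hcomm := (comm_tv_iff g s 0 1 hs).mp (Subgroup.mem_centralizer_singleton_iff.mp g.2)
  have hb : blk ((g : SL5) : M5) = 1 := hg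
  have key : (((g : SL5) : M5)) ^ 4 = 1 := by
    rw [eq_shape (g : SL5) hcomm hb]
    exact shape_pow_four _ _ _ _ _ _ _
  apply Subtype.ext
  apply Subtype.ext
  apply Subtype.ext
  change ((((g : SL5) ^ (2 ^ 2) : SL5)) : M5) = 1
  rw [Matrix.SpecialLinearGroup.coe_pow]
  exact key

theorem tv0_comm : ∀ j : Fin 5, (0 : Fin 5) ≠ j →
    (Matrix.transvection 0 j 1 : M5) * Matrix.single 0 1 1 =
      Matrix.single 0 1 1 * Matrix.transvection 0 j 1 := by decide

theorem tvi1_comm : ∀ i : Fin 5, i ≠ 1 → i ≠ 0 →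
    (Matrix.transvection i 1 1 : M5) * Matrix.single 0 1 1 =
      Matrix.single 0 1 1 * Matrix.transvection i 1 1 := by decide

theorem tv0_blk : ∀ j : Fin 5, (0 : Fin 5) ≠ j → blk (Matrix.transvection 0 j 1 : M5) = 1 := by
  decide

theorem tvi1_blk : ∀ i : Fin 5, i ≠ 1 → i ≠ 0 → blk (Matrix.transvection i 1 1 : M5) = 1 := by
  decide

theorem tv0_mem (s : SL5) (hs : (s : M5) = Matrix.transvection 0 1 1) (j : Fin 5)
    (hj : (0 : Fin 5) ≠ j) : tv 0 j hj ∈ Subgroup.centralizer ({s} : Set SL5) := by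
  rw [Subgroup.mem_centralizer_singleton_iff, comm_tv_iff _ s 0 1 hs]
  exact tv0_comm j hj

theorem tvi1_mem (s : SL5) (hs : (s : M5) = Matrix.transvection 0 1 1) (i : Fin 5)
    (hi : i ≠ 1) (hi0 : i ≠ 0) : tv i 1 hi ∈ Subgroup.centralizer ({s} : Set SL5) := by
  rw [Subgroup.mem_centralizer_singleton_iff, comm_tv_iff _ s 0 1 hs]
  exact tvi1_comm i hi hi0

theorem tv0_ker (s : SL5) (hs : (s : M5) = Matrix.transvection 0 1 1) (j : Fin 5)
    (hj : (0 : Fin 5) ≠ j) :
    (⟨tv 0 j hj, tv0_mem s hs j hj⟩ : ↥(Subgroup.centralizer ({s} : Set SL5))) ∈ (piHom s hs).ker :=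
  tv0_blk j hj

theorem tvi1_ker (s : SL5) (hs : (s : M5) = Matrix.transvection 0 1 1) (i : Fin 5)
    (hi : i ≠ 1) (hi0 : i ≠ 0) :
    (⟨tv i 1 hi, tvi1_mem s hs i hi hi0⟩ : ↥(Subgroup.centralizer ({s} : Set SL5))) ∈
      (piHom s hs).ker :=
  tvi1_blk i hi hi0


/-- Let G be a finite group with an involution z whose centraliser C is isomorphic to the centraliser of a transvection of SL(5, 2). Then a Sylow 2-subgroup of C, viewed in G, is a Sylow 2-subgroup of G (its index in G is odd). -/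
theorem result {G : Type*} [Group G] [Finite G] (s : Matrix.SpecialLinearGroup (Fin 5) (ZMod 2)) (hs : (s : Matrix (Fin 5) (Fin 5) (ZMod 2)) = Matrix.transvection 0 1 1) (z : G) (hz : orderOf z = 2) (e : (Subgroup.centralizer ({z} : Set G)) ≃* Subgroup.centralizer ({s} : Set (Matrix.SpecialLinearGroup (Fin 5) (ZMod 2)))) (T : Sylow 2 (Subgroup.centralizer ({z} : Set G))) : ¬ 2 ∣ ((T : Subgroup (Subgroup.centralizer ({z} : Set G))).map (Subgroup.subtype (Subgroup.centralizer ({z} : Set G)))).index := by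
  have : Fact (Nat.Prime 2) := ⟨Nat.prime_two⟩
  apply not_two_dvd_index z hz _ rfl T
  intro c hcT hcc
  have hNp : IsPGroup 2 ((piHom s hs).ker.comap e.toMonoidHom) :=
    (ker_isPGroup s hs).comap_of_injective e.toMonoidHom e.injective
  have hNT : (piHom s hs).ker.comap e.toMonoidHom ≤ T := hNp.le_sylow_of_normal T
  have hrig : ∀ d : ↥(Subgroup.centralizer ({z} : Set G)),
      (∀ x ∈ (T : Subgroup (Subgroup.centralizer ({z} : Set G))), x * d = d * x) →
      (((e d : ↥(Subgroup.centralizer ({s} : Set SL5))) : SL5) : M5) = 1 ∨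
      (((e d : ↥(Subgroup.centralizer ({s} : Set SL5))) : SL5) : M5) = Matrix.transvection 0 1 1 := by
    intro d hd
    apply rigid
    · intro j hj
      have hx : e.symm ⟨tv 0 j hj, tv0_mem s hs j hj⟩ ∈
          (T : Subgroup (Subgroup.centralizer ({z} : Set G))) := by
        apply hNT
        change e (e.symm _) ∈ (piHom s hs).ker
        rw [e.apply_symm_apply]
        exact tv0_ker s hs j hj
      have h1 := congrArg e (hd _ hx)
      rw [map_mul, map_mul, e.apply_symm_apply] at h1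
      exact (congrArg Subtype.val h1).symm
    · intro i hi hi0
      have hx : e.symm ⟨tv i 1 hi, tvi1_mem s hs i hi hi0⟩ ∈
          (T : Subgroup (Subgroup.centralizer ({z} : Set G))) := by
        apply hNT
        change e (e.symm _) ∈ (piHom s hs).ker
        rw [e.apply_symm_apply]
        exact tvi1_ker s hs i hi hi0
      have h1 := congrArg e (hd _ hx)
      rw [map_mul, map_mul, e.apply_symm_apply] at h1
      exact (congrArg Subtype.val h1).symm
  have hzC : z ∈ Subgroup.centralizer ({z} : Set G) := Subgroup.mem_centralizer_singleton_iff.mpr rfl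
  have hz1 : z ≠ 1 := by
    intro h; rw [h, orderOf_one] at hz; omega
  have hzcent : ∀ x : ↥(Subgroup.centralizer ({z} : Set G)), x * ⟨z, hzC⟩ = ⟨z, hzC⟩ * x := by
    intro x
    apply Subtype.ext
    exact Subgroup.mem_centralizer_singleton_iff.mp x.2
  have hez : (((e ⟨z, hzC⟩ : ↥(Subgroup.centralizer ({s} : Set SL5))) : SL5) : M5) =
      Matrix.transvection 0 1 1 := by
    rcases hrig ⟨z, hzC⟩ (fun x _ => hzcent x) with h | h
    · exfalso
      have h2 : e ⟨z, hzC⟩ = 1 := by
        apply Subtype.ext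
        apply Subtype.ext
        exact h
      have h3 : (⟨z, hzC⟩ : ↥(Subgroup.centralizer ({z} : Set G))) = 1 := by
        have := congrArg e.symm h2
        rwa [e.symm_apply_apply, map_one] at this
      exact hz1 (congrArg Subtype.val h3)
    · exact h
  rcases hrig c hcc with h | h
  · left
    have h2 : e c = 1 := by
      apply Subtype.ext
      apply Subtype.ext
      exact h
    have := congrArg e.symm h2
    rwa [e.symm_apply_apply, map_one] at this
  · right
    have h2 : e c = e ⟨z, hzC⟩ := by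
      apply Subtype.ext
      apply Subtype.ext
      rw [h, hez]
    have h3 := e.injective h2
    exact congrArg Subtype.val h3

end Cfsg.Agent.S1717
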