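import Cfsg.Statements.S1753

set_option autoImplicit false
universe u
open Cfsg

namespace Cfsg.Agent.S1753

theorem kproper_of_smaller (K : ∀ (X : Type u) [Group X], Prop) (G : Type u) [Group G] [Finite G]
    (hmin : ∀ (X : Type u) [Group X] [Finite X],
      IsSimpleGroup X → ¬ IsMulCommutative X → Nat.card X < Nat.card G → K X) :
    Cfsg.IsKProperWith K G := by
  intro H hH L N _ hs hna
  apply hmin _ hs hna
  have h1 : Nat.card (↥L ⧸ N) ≤ Nat.card L := Subgroup.card_quotient_dvd_card N |> Nat.le_of_dvd Nat.card_pos
  have h2 : Nat.card L ≤ Nat.card H := Subgroup.card_le_card_group L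
  have h3 : Nat.card H < Nat.card G := by
    have hdvd := Subgroup.card_subgroup_dvd_card H
    rcases lt_or_eq_of_le (Subgroup.card_le_card_group H) with h | h
    · exact h
    · exact absurd ((Subgroup.card_eq_iff_eq_top H).mp h) hH
  omega

/-- Let K be any property of groups. (1) If G is a minimal counterexample relative to K — a finite non-abelian simple group not satisfying K such that every finite non-abelian simple group of smaller order satisfies K — then every proper subgroup of G is a K-group (all its non-abelian simple sections satisfy K), since such sections have smaller order than G. (2) Consequently (induction on the order), if every finite non-abelian simple group all of whose proper subgroups are K-groups satisfies K, then every finite non-abelian simple group satisfies K. -/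
theorem result (K : ∀ (X : Type u) [Group X], Prop) :
    (∀ (G : Type u) [Group G], Cfsg.IsMinCounterexampleWith K G → Cfsg.IsKProperWith K G) ∧
      ((∀ (X : Type u) [Group X] [Finite X], IsSimpleGroup X → ¬ IsMulCommutative X → Cfsg.IsKProperWith K X → K X) →
        ∀ (G : Type u) [Group G] [Finite G], IsSimpleGroup G → ¬ IsMulCommutative G → K G) := by
  refine ⟨?_, ?_⟩
  · intro G _ h
    obtain ⟨hfin, _, _, _, hmin⟩ := h
    exact kproper_of_smaller K G hmin
  · intro hX
    suffices h : ∀ n : ℕ, ∀ (G : Type u) [Group G] [Finite G], Nat.card G = n →
        IsSimpleGroup G → ¬ IsMulCommutative G → K G by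
      intro G _ _ hs hna
      exact h _ G rfl hs hna
    intro n
    induction n using Nat.strong_induction_on with
    | _ n ih =>
      intro G _ _ hn hs hna
      apply hX G hs hna
      apply kproper_of_smaller K G
      intro X _ _ hXs hXna hlt
      exact ih (Nat.card X) (hn ▸ hlt) X rfl hXs hXna

end Cfsg.Agent.S1753
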