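import Cfsg.Statements.S1755
import Cfsg.Agent.Lib.Helper29.Fitting

set_option autoImplicit false
open Cfsg

namespace Cfsg.Agent.S1755

theorem eq_of_orderOf_two_of_isCyclic {H : Type*} [Group H] [Finite H] [IsCyclic H] {x y : H}
    (hx : orderOf x = 2) (hy : orderOf y = 2) : x = y := by
  classical
  have : Fintype H := Fintype.ofFinite H
  have hdvd : 2 ∣ Fintype.card H := by
    rw [← hx]; exact orderOf_dvd_card
  have h := IsCyclic.card_orderOf_eq_totient (α := H) hdvd
  rw [Nat.totient_two] at h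
  have hx' : x ∈ Finset.univ.filter (fun a : H => orderOf a = 2) := by simp [hx]
  have hy' : y ∈ Finset.univ.filter (fun a : H => orderOf a = 2) := by simp [hy]
  exact Finset.card_le_one.mp h.le x hx' y hy'

theorem key {G : Type*} [Group G] [Finite G] (z : G) (hz : orderOf z = 2)
    (Q : Subgroup ↥(Subgroup.centralizer ({z} : Set G))) [hQn : Q.Normal]
    (hzQ : (⟨z, Subgroup.mem_centralizer_singleton_iff.mpr rfl⟩ :
      ↥(Subgroup.centralizer ({z} : Set G))) ∈ Q)
    (hQ : Cfsg.IsOfSymplecticType ↥Q)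
    (B : Subgroup ↥Q) (hBc : B.Characteristic) (hBa : IsMulCommutative ↥B) (g : G) :
    ((B.map Q.subtype).map (Subgroup.centralizer ({z} : Set G)).subtype).map (MulAut.conj g).toMonoidHom =
        (B.map Q.subtype).map (Subgroup.centralizer ({z} : Set G)).subtype ∨
      ((B.map Q.subtype).map (Subgroup.centralizer ({z} : Set G)).subtype).map (MulAut.conj g).toMonoidHom ⊓
        (B.map Q.subtype).map (Subgroup.centralizer ({z} : Set G)).subtype = ⊥ := by
  classical
  -- notation
  have hmap : (B.map Q.subtype).map (Subgroup.centralizer ({z} : Set G)).subtype =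
      B.map ((Subgroup.centralizer ({z} : Set G)).subtype.comp Q.subtype) := Subgroup.map_map _ _ _
  rw [hmap]
  set ι : ↥Q →* G := (Subgroup.centralizer ({z} : Set G)).subtype.comp Q.subtype with hι
  have hιinj : Function.Injective ι := by
    intro a b hab
    apply Subtype.ext
    apply Subtype.ext
    exact hab
  have hιapp : ∀ q : ↥Q, ι q = ((q : ↥(Subgroup.centralizer ({z} : Set G))) : G) := fun q => rfl
  -- the element z inside Q
  set zQ : ↥Q := ⟨⟨z, Subgroup.mem_centralizer_singleton_iff.mpr rfl⟩, hzQ⟩ with hzQdef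
  have hιz : ι zQ = z := rfl
  have hzQord : orderOf zQ = 2 := by
    rw [← orderOf_injective ι hιinj zQ, hιz, hz]
  have hBcyc : IsCyclic ↥B := hQ.2 B hBc hBa
  have hZcyc : IsCyclic ↥(Subgroup.center ↥Q) := hQ.2 _ inferInstance inferInstance
  have hzQcent : zQ ∈ Subgroup.center ↥Q := by
    rw [Subgroup.mem_center_iff]
    intro q
    apply hιinj
    rw [map_mul, map_mul, hιz, hιapp]
    have := q.1.2
    rw [Subgroup.mem_centralizer_singleton_iff] at this
    exact this
  -- (c) an element of order two of B is zQ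
  have hB2 : ∀ b ∈ B, orderOf b = 2 → b = zQ := by
    intro b hb hbo
    have hbcent : b ∈ Subgroup.center ↥Q := by
      rw [Subgroup.mem_center_iff]
      intro q
      have hfix := hBc.fixed (MulAut.conj q)
      have hmem : (MulAut.conj q) b ∈ B := by
        have : b ∈ B.comap (MulAut.conj q).toMonoidHom := by rw [hfix]; exact hb
        exact this
      have ho : orderOf ((MulAut.conj q) b) = 2 := by
        rw [MulEquiv.orderOf_eq]; exact hbo
      have h1 : orderOf (⟨(MulAut.conj q) b, hmem⟩ : ↥B) = 2 := by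
        rw [← Subgroup.orderOf_coe]; exact ho
      have h2 : orderOf (⟨b, hb⟩ : ↥B) = 2 := by
        rw [← Subgroup.orderOf_coe]; exact hbo
      have h3 := eq_of_orderOf_two_of_isCyclic h1 h2
      have h4 : (MulAut.conj q) b = b := congrArg Subtype.val h3
      rw [MulAut.conj_apply] at h4
      calc q * b = q * b * q⁻¹ * q := by group
        _ = b * q := by rw [h4]
    have h1 : orderOf (⟨b, hbcent⟩ : ↥(Subgroup.center ↥Q)) = 2 := by
      rw [← Subgroup.orderOf_coe]; exact hbo
    have h2 : orderOf (⟨zQ, hzQcent⟩ : ↥(Subgroup.center ↥Q)) = 2 := by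
      rw [← Subgroup.orderOf_coe]; exact hzQord
    exact congrArg Subtype.val (eq_of_orderOf_two_of_isCyclic h1 h2)
  -- (d) conjugation by elements of C preserves B
  have hconj : ∀ c : ↥(Subgroup.centralizer ({z} : Set G)), ∀ b ∈ B,
      ∃ b' ∈ B, ι b' = (c : G) * ι b * (c : G)⁻¹ := by
    intro c b hb
    have hfix := hBc.fixed (MulAut.conjNormal c)
    have hmem : (MulAut.conjNormal c) b ∈ B := by
      have : b ∈ B.comap (MulAut.conjNormal c : ↥Q ≃* ↥Q).toMonoidHom := by rw [hfix]; exact hb
      exact this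
    refine ⟨_, hmem, ?_⟩
    rw [hιapp, MulAut.conjNormal_apply]
    rfl
  by_cases hbot : (B.map ι).map (MulAut.conj g).toMonoidHom ⊓ B.map ι = ⊥
  · exact Or.inr hbot
  · left
    obtain ⟨⟨x, hx⟩, hx1'⟩ := (Subgroup.ne_bot_iff_exists_ne_one).mp hbot
    have hx1 : x ≠ 1 := fun h1 => hx1' (Subtype.ext h1)
    obtain ⟨⟨y, ⟨b2, hb2, rfl⟩, hyx⟩, ⟨b1, hb1, hb1x⟩⟩ := hx
    have hyx' : g * ι b2 * g⁻¹ = x := by simpa [MulAut.conj_apply] using hyx
    have hb1ne : b1 ≠ 1 := by
      intro h; apply hx1; rw [← hb1x, h, map_one]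
    obtain ⟨k, hk⟩ := (IsPGroup.iff_orderOf.mp hQ.1) b1
    have hk0 : k ≠ 0 := by
      intro h0
      rw [h0, pow_zero, orderOf_eq_one_iff] at hk
      exact hb1ne hk
    have hord2 : orderOf b2 = 2 ^ k := by
      rw [← hk, ← orderOf_injective ι hιinj b2, ← orderOf_injective ι hιinj b1, hb1x, ← hyx']
      have : g * ι b2 * g⁻¹ = (MulAut.conj g) (ι b2) := by simp [MulAut.conj_apply]
      rw [this, MulEquiv.orderOf_eq]
    have hm : ∀ b : ↥Q, orderOf b = 2 ^ k → orderOf (b ^ 2 ^ (k - 1)) = 2 := by
      intro b hb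
      rw [orderOf_pow_of_dvd (by positivity), hb]
      · obtain ⟨j, rfl⟩ := Nat.exists_eq_succ_of_ne_zero hk0
        rw [Nat.succ_sub_one, pow_succ, Nat.mul_div_cancel_left _ (by positivity)]
      · rw [hb]; exact pow_dvd_pow 2 (Nat.sub_le k 1)
    have e1 : b1 ^ 2 ^ (k - 1) = zQ := hB2 _ (B.pow_mem hb1 _) (hm b1 hk)
    have e2 : b2 ^ 2 ^ (k - 1) = zQ := hB2 _ (B.pow_mem hb2 _) (hm b2 hord2)
    have hgz : g * z * g⁻¹ = z := by
      have h1 : ι (b1 ^ 2 ^ (k - 1)) = z := by rw [e1]; exact hιz
      have h2 : ι (b2 ^ 2 ^ (k - 1)) = z := by rw [e2]; exact hιz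
      rw [map_pow, hb1x, ← hyx', conj_pow, ← map_pow, h2] at h1
      exact h1
    have hgC : g ∈ Subgroup.centralizer ({z} : Set G) := by
      rw [Subgroup.mem_centralizer_singleton_iff]
      calc g * z = g * z * g⁻¹ * g := by group
        _ = z * g := by rw [hgz]
    ext w
    constructor
    · rintro ⟨y, ⟨b, hb, rfl⟩, rfl⟩
      obtain ⟨b', hb', hb'e⟩ := hconj ⟨g, hgC⟩ b hb
      refine ⟨b', hb', ?_⟩
      rw [hb'e]
      simp [MulAut.conj_apply]
    · rintro ⟨b, hb, rfl⟩
      obtain ⟨b', hb', hb'e⟩ := hconj (⟨g, hgC⟩ : ↥(Subgroup.centralizer ({z} : Set G)))⁻¹ b hb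
      refine ⟨ι b', ⟨b', hb', rfl⟩, ?_⟩
      rw [hb'e]
      simp [MulAut.conj_apply, mul_assoc]

/-- Let G be a finite group and let z be an involution of G such that Q, the generalized Fitting subgroup of the centralizer C of z, is a 2-group of symplectic type (every characteristic abelian subgroup of Q is cyclic). Let B be a characteristic abelian subgroup of Q, viewed as a subgroup of G. Then for every g in G, the conjugate of B by g either equals B or meets B trivially. -/
theorem result {G : Type*} [Group G] [Finite G] (z : G) (hz : orderOf z = 2) (hQ : Cfsg.IsOfSymplecticType ↥(Cfsg.generalizedFittingSubgroup ↥(Subgroup.centralizer ({z} : Set G))))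
    (B : Subgroup ↥(Cfsg.generalizedFittingSubgroup ↥(Subgroup.centralizer ({z} : Set G)))) (hBc : B.Characteristic) (hBa : IsMulCommutative ↥B) (g : G) :
    ((B.map (Cfsg.generalizedFittingSubgroup ↥(Subgroup.centralizer ({z} : Set G))).subtype).map (Subgroup.centralizer ({z} : Set G)).subtype).map (MulAut.conj g).toMonoidHom =
        (B.map (Cfsg.generalizedFittingSubgroup ↥(Subgroup.centralizer ({z} : Set G))).subtype).map (Subgroup.centralizer ({z} : Set G)).subtype ∨
      ((B.map (Cfsg.generalizedFittingSubgroup ↥(Subgroup.centralizer ({z} : Set G))).subtype).map (Subgroup.centralizer ({z} : Set G)).subtype).map (MulAut.conj g).toMonoidHom ⊓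
        (B.map (Cfsg.generalizedFittingSubgroup ↥(Subgroup.centralizer ({z} : Set G))).subtype).map (Subgroup.centralizer ({z} : Set G)).subtype = ⊥ := by
  have : (Cfsg.generalizedFittingSubgroup ↥(Subgroup.centralizer ({z} : Set G))).Normal :=
    Cfsg.Agent.Helper29.generalizedFittingSubgroup_normal
  refine key z hz _ ?_ hQ B hBc hBa g
  apply Cfsg.Agent.Helper29.center_le_generalizedFittingSubgroup
  rw [Subgroup.mem_center_iff]
  intro c
  apply Subtype.ext
  have := c.2
  rw [Subgroup.mem_centralizer_singleton_iff] at this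
  exact this

end Cfsg.Agent.S1755
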