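import Cfsg.Statements.S1756
import Mathlib

set_option autoImplicit false
open Cfsg

namespace Cfsg.Agent.S1756

section
variable {P : Type*} [Group P] [Finite P]

omit [Finite P] in
theorem commElt_mem_center (hc : commutator P = Subgroup.center P) (q h : P) :
    q * h * q⁻¹ * h⁻¹ ∈ Subgroup.center P := by
  rw [← hc, commutator_def, ← commutatorElement_def]
  exact Subgroup.commutator_mem_commutator (Subgroup.mem_top q) (Subgroup.mem_top h)

theorem index_centralizer_singleton_le (hc : commutator P = Subgroup.center P)
    (hZ : Nat.card (Subgroup.center P) = 2) (h : P) :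
    (Subgroup.centralizer ({h} : Set P)).index ≤ 2 := by
  let φ : P →* ↥(Subgroup.center P) := MonoidHom.mk'
    (fun q => ⟨q * h * q⁻¹ * h⁻¹, commElt_mem_center hc q h⟩) (by
      intro q q'
      apply Subtype.ext
      have hc' : q' * h * q'⁻¹ * h⁻¹ ∈ Subgroup.center P := commElt_mem_center hc q' h
      have hcomm := Subgroup.mem_center_iff.mp hc'
      change q * q' * h * (q * q')⁻¹ * h⁻¹ = (q * h * q⁻¹ * h⁻¹) * (q' * h * q'⁻¹ * h⁻¹)
      have e1 : q * q' * h * (q * q')⁻¹ * h⁻¹ = q * (q' * h * q'⁻¹ * h⁻¹) * h * q⁻¹ * h⁻¹ := by group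
      rw [e1, hcomm q]
      have e2 : q' * h * q'⁻¹ * h⁻¹ * q * h * q⁻¹ * h⁻¹ = (q' * h * q'⁻¹ * h⁻¹) * (q * h * q⁻¹ * h⁻¹) := by
        group
      rw [e2, ← hcomm (q * h * q⁻¹ * h⁻¹)])
  have hker : φ.ker = Subgroup.centralizer ({h} : Set P) := by
    ext q
    rw [MonoidHom.mem_ker, Subgroup.mem_centralizer_singleton_iff]
    constructor
    · intro hq
      have : q * h * q⁻¹ * h⁻¹ = 1 := congrArg Subtype.val hq
      calc q * h = (q * h * q⁻¹ * h⁻¹) * h * q := by group
        _ = h * q := by rw [this, one_mul]
    · intro hq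
      apply Subtype.ext
      change q * h * q⁻¹ * h⁻¹ = 1
      rw [hq]; group
  rw [← hker, Subgroup.index_ker]
  calc Nat.card φ.range ≤ Nat.card (Subgroup.center P) := Subgroup.card_le_card_group _
    _ = 2 := hZ

theorem index_centralizer_mul_two_le (hc : commutator P = Subgroup.center P)
    (hZ : Nat.card (Subgroup.center P) = 2) (S : Finset P) :
    (Subgroup.centralizer ((Subgroup.center P : Set P) ∪ ↑S)).index * 2 ≤
      Nat.card ↥(Subgroup.closure ((Subgroup.center P : Set P) ∪ ↑S)) := by
  classical
  induction S using Finset.induction_on with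
  | empty =>
    rw [Finset.coe_empty, Set.union_empty, Subgroup.closure_eq, Subgroup.centralizer_center,
      Subgroup.index_top, hZ]
  | insert a S _ ih =>
    set T : Set P := (Subgroup.center P : Set P) ∪ ↑S with hT
    have hT' : (Subgroup.center P : Set P) ∪ ↑(insert a S) = insert a T := by
      rw [Finset.coe_insert, hT, Set.union_insert]
    rw [hT']
    by_cases ha : a ∈ Subgroup.closure T
    · -- nothing changes
      have h1 : Subgroup.closure (insert a T) = Subgroup.closure T := by
        apply le_antisymm
        · rw [Subgroup.closure_le]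
          intro x hx
          rcases hx with rfl | hx
          · exact ha
          · exact Subgroup.subset_closure hx
        · exact Subgroup.closure_mono (Set.subset_insert a T)
      have h2 : Subgroup.centralizer (insert a T) = Subgroup.centralizer T := by
        rw [← Subgroup.centralizer_closure, h1, Subgroup.centralizer_closure]
      rw [h1, h2]
      exact ih
    · have hle : Subgroup.closure T ≤ Subgroup.closure (insert a T) :=
        Subgroup.closure_mono (Set.subset_insert a T)
      have hamem : a ∈ Subgroup.closure (insert a T) :=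
        Subgroup.subset_closure (Set.mem_insert a T)
      have hcard : 2 * Nat.card ↥(Subgroup.closure T) ≤ Nat.card ↥(Subgroup.closure (insert a T)) := by
        obtain ⟨m, hm⟩ := Subgroup.card_dvd_of_le hle
        have hpos : 0 < Nat.card ↥(Subgroup.closure (insert a T)) := Nat.card_pos
        have hpos' : 0 < Nat.card ↥(Subgroup.closure T) := Nat.card_pos
        have hm1 : m ≠ 1 := by
          intro h1
          rw [h1, mul_one] at hm
          have := Subgroup.eq_of_le_of_card_ge hle hm.le
          rw [this] at ha
          exact ha hamem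
        have hm0 : m ≠ 0 := by
          intro h0
          rw [h0, mul_zero] at hm
          omega
        have : 2 ≤ m := by omega
        rw [hm]
        nlinarith
      have hcent : Subgroup.centralizer T ⊓ Subgroup.centralizer ({a} : Set P) ≤
          Subgroup.centralizer (insert a T) := by
        intro g hg
        rw [Subgroup.mem_centralizer_iff]
        intro x hx
        rcases hx with rfl | hx
        · exact (Subgroup.mem_centralizer_iff.mp hg.2) x rfl
        · exact (Subgroup.mem_centralizer_iff.mp hg.1) x hx
      have hidx : (Subgroup.centralizer (insert a T)).index ≤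
          (Subgroup.centralizer T).index * 2 := by
        calc (Subgroup.centralizer (insert a T)).index
            ≤ (Subgroup.centralizer T ⊓ Subgroup.centralizer ({a} : Set P)).index :=
              Subgroup.index_antitone hcent
          _ ≤ (Subgroup.centralizer T).index * (Subgroup.centralizer ({a} : Set P)).index :=
              Subgroup.index_inf_le
          _ ≤ (Subgroup.centralizer T).index * 2 :=
              Nat.mul_le_mul_left _ (index_centralizer_singleton_le hc hZ a)
      nlinarith

omit [Finite P] in
theorem center_le_of_index_two (hc : commutator P = Subgroup.center P)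
    (M : Subgroup P) (hM : M.index = 2) : Subgroup.center P ≤ M := by
  rw [← hc, commutator_def, Subgroup.commutator_le]
  intro a _ b _
  rw [commutatorElement_def]
  have : a * b * a⁻¹ * b⁻¹ = (a * b) * (a⁻¹ * b⁻¹) := by group
  rw [this, Subgroup.mul_mem_iff_of_index_two hM, Subgroup.mul_mem_iff_of_index_two hM,
    Subgroup.mul_mem_iff_of_index_two hM, Subgroup.inv_mem_iff, Subgroup.inv_mem_iff]

theorem exists_mem_centralizer_not_mem_center (hc : commutator P = Subgroup.center P)
    (hZ : Nat.card (Subgroup.center P) = 2) (M : Subgroup P) (hM : M.index = 2) :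
    ∃ w ∈ Subgroup.centralizer (M : Set P), w ∉ Subgroup.center P := by
  classical
  by_contra hcon
  push Not at hcon
  have hle : Subgroup.centralizer (M : Set P) ≤ Subgroup.center P := hcon
  have hZM := center_le_of_index_two hc M hM
  have : Fintype P := Fintype.ofFinite P
  have key := index_centralizer_mul_two_le hc hZ ((M : Set P).toFinset)
  have hT : (Subgroup.center P : Set P) ∪ ↑((M : Set P).toFinset) = (M : Set P) := by
    rw [Set.coe_toFinset]
    exact Set.union_eq_self_of_subset_left hZM
  rw [hT, Subgroup.closure_eq] at key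
  have h1 : (Subgroup.centralizer (M : Set P)).index * Nat.card ↥(Subgroup.centralizer (M : Set P))
      = Nat.card P := Subgroup.index_mul_card _
  have h2 : M.index * Nat.card ↥M = Nat.card P := Subgroup.index_mul_card _
  have h3 : Nat.card ↥(Subgroup.centralizer (M : Set P)) ≤ 2 := by
    rw [← hZ]; exact Subgroup.card_le_of_le hle
  have h4 : 0 < Nat.card ↥M := Nat.card_pos
  rw [hM] at h2
  have h5 : 0 < (Subgroup.centralizer (M : Set P)).index := by
    have := Subgroup.index_ne_zero_of_finite (H := Subgroup.centralizer (M : Set P))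
    omega
  nlinarith

theorem exists_inner (hc : commutator P = Subgroup.center P)
    (hZ : Nat.card (Subgroup.center P) = 2) (α : P ≃* P) (hα : ∀ x, α (α x) = x)
    (M : Subgroup P) (hMα : ∀ x, x ∈ M ↔ α x = x) (hidx : M.index ≤ 2) :
    ∃ w : P, ∀ x, α x = w * x * w⁻¹ := by
  have h0 : M.index ≠ 0 := Subgroup.index_ne_zero_of_finite
  have hcases : M.index = 1 ∨ M.index = 2 := by omega
  rcases hcases with h1 | hM
  · rw [Subgroup.index_eq_one] at h1
    refine ⟨1, fun x => ?_⟩
    have : x ∈ M := by rw [h1]; exact Subgroup.mem_top x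
    rw [(hMα x).mp this]; group
  · have hMn : M.Normal := Subgroup.normal_of_index_eq_two hM
    have hMtop : M ≠ ⊤ := by
      intro h; rw [← Subgroup.index_eq_one] at h; omega
    obtain ⟨x, hx⟩ : ∃ x, x ∉ M := by
      by_contra hcon
      push Not at hcon
      exact hMtop (Subgroup.eq_top_iff' M |>.mpr hcon)
    set c := x⁻¹ * α x with hcdef
    have hαx : α x = x * c := by rw [hcdef]; group
    have hαxM : α x ∉ M := by
      intro h
      have h2 := (hMα (α x)).mp h
      rw [hα x] at h2
      exact hx ((hMα x).mpr h2.symm)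
    have hcM : c ∈ M := by
      rw [hcdef, Subgroup.mul_mem_iff_of_index_two hM, Subgroup.inv_mem_iff]
      exact ⟨fun h => absurd h hx, fun h => absurd h hαxM⟩
    have hαc : α c = c := (hMα c).mp hcM
    have hcc : c * c = 1 := by
      have h1 := hα x
      rw [hαx, map_mul, hαx, hαc] at h1
      have : x * (c * c) = x * 1 := by rw [mul_one, ← mul_assoc]; exact h1
      exact mul_left_cancel this
    have hcinv : c⁻¹ = c := inv_eq_of_mul_eq_one_left hcc
    have hcommM : ∀ m ∈ M, c * m = m * c := by
      intro m hm
      have h1 : x * m * x⁻¹ ∈ M := hMn.conj_mem m hm x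
      have h2 := (hMα _).mp h1
      rw [map_mul, map_mul, map_inv, hαx, (hMα m).mp hm] at h2
      have h3 : c * m * c⁻¹ = m := by
        have : x * (c * m * c⁻¹) * x⁻¹ = x * m * x⁻¹ := by
          rw [← h2]; group
        have := mul_right_cancel this
        exact mul_left_cancel this
      calc c * m = c * m * c⁻¹ * c := by group
        _ = m * c := by rw [h3]
    have hcommx : c * x = x * c := by
      have h1 : x * x ∈ M := Subgroup.mul_self_mem_of_index_two hM x
      have h2 := (hMα _).mp h1
      rw [map_mul, hαx] at h2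
      -- x c x c = x x
      have h3 : c * x * c = x := by
        have : x * (c * x * c) = x * x := by rw [← h2]; group
        exact mul_left_cancel this
      calc c * x = c * x * c * c⁻¹ := by group
        _ = x * c := by rw [h3, hcinv]
    have hdecomp : ∀ y, y ∉ M → x⁻¹ * y ∈ M := by
      intro y hy
      rw [Subgroup.mul_mem_iff_of_index_two hM, Subgroup.inv_mem_iff]
      exact ⟨fun h => absurd h hx, fun h => absurd h hy⟩
    have hccent : c ∈ Subgroup.center P := by
      rw [Subgroup.mem_center_iff]
      intro y
      by_cases hy : y ∈ M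
      · exact (hcommM y hy).symm
      · obtain ⟨m, hm, rfl⟩ : ∃ m ∈ M, y = x * m := ⟨x⁻¹ * y, hdecomp y hy, by group⟩
        calc x * m * c = x * (m * c) := by group
          _ = x * (c * m) := by rw [hcommM m hm]
          _ = (x * c) * m := by group
          _ = (c * x) * m := by rw [hcommx]
          _ = c * (x * m) := by group
    have hc1 : c ≠ 1 := by
      intro h
      rw [h, mul_one] at hαx
      exact hx ((hMα x).mpr hαx)
    obtain ⟨w, hwM, hwZ⟩ := exists_mem_centralizer_not_mem_center hc hZ M hM
    have hwm : ∀ m ∈ M, m * w = w * m := fun m hm => Subgroup.mem_centralizer_iff.mp hwM m hm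
    have hwx : w * x ≠ x * w := by
      intro h
      apply hwZ
      rw [Subgroup.mem_center_iff]
      intro y
      by_cases hy : y ∈ M
      · exact hwm y hy
      · obtain ⟨m, hm, rfl⟩ : ∃ m ∈ M, y = x * m := ⟨x⁻¹ * y, hdecomp y hy, by group⟩
        calc x * m * w = x * (m * w) := by group
          _ = x * (w * m) := by rw [hwm m hm]
          _ = (x * w) * m := by group
          _ = (w * x) * m := by rw [h]
          _ = w * (x * m) := by group
    -- d = w x w⁻¹ x⁻¹ = c
    have hd : w * x * w⁻¹ * x⁻¹ = c := by
      have hdZ : w * x * w⁻¹ * x⁻¹ ∈ Subgroup.center P := commElt_mem_center hc w x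
      have hd1 : w * x * w⁻¹ * x⁻¹ ≠ 1 := by
        intro h
        apply hwx
        calc w * x = (w * x * w⁻¹ * x⁻¹) * x * w := by group
          _ = x * w := by rw [h, one_mul]
      obtain ⟨u, _, huniq⟩ := (Nat.card_eq_two_iff' (1 : ↥(Subgroup.center P))).mp hZ
      have e1 := huniq ⟨_, hdZ⟩ (fun h => hd1 (congrArg Subtype.val h))
      have e2 := huniq ⟨c, hccent⟩ (fun h => hc1 (congrArg Subtype.val h))
      exact congrArg Subtype.val (e1.trans e2.symm)
    have hwxw : w * x * w⁻¹ = α x := by
      rw [hαx]
      calc w * x * w⁻¹ = (w * x * w⁻¹ * x⁻¹) * x := by group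
        _ = c * x := by rw [hd]
        _ = x * c := hcommx
    refine ⟨w, fun y => ?_⟩
    by_cases hy : y ∈ M
    · rw [(hMα y).mp hy, ← hwm y hy]; group
    · obtain ⟨m, hm, rfl⟩ : ∃ m ∈ M, y = x * m := ⟨x⁻¹ * y, hdecomp y hy, by group⟩
      rw [map_mul, (hMα _).mp hm, ← hwxw]
      have := hwm _ hm
      calc w * x * w⁻¹ * m = w * x * w⁻¹ * (m * w) * w⁻¹ := by group
        _ = w * x * w⁻¹ * (w * m) * w⁻¹ := by rw [this]
        _ = w * (x * m) * w⁻¹ := by group

end

/-- Let Q be an extraspecial 2-subgroup of the finite group G (special with centre of order 2) and t an involution of G normalizing Q such that the centralizer of t in Q has index at most 2 in Q. Then t lies in the product of Q with the centralizer of Q. -/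
theorem result {G : Type*} [Group G] [Finite G] (Q : Subgroup G)
    (hQ : Cfsg.IsExtraspecial 2 ↥Q) (t : G) (ht : orderOf t = 2) (htN : t ∈ Subgroup.normalizer (Q : Set G))
    (hi : (Subgroup.centralizer ({t} : Set G) ⊓ Q).relIndex Q ≤ 2) :
    t ∈ Q ⊔ Subgroup.centralizer (Q : Set G) := by
  have hc : commutator ↥Q = Subgroup.center ↥Q := hQ.1.2.2
  have hZ : Nat.card (Subgroup.center ↥Q) = 2 := hQ.2
  have htt : t * t = 1 := by
    have := pow_orderOf_eq_one t
    rw [ht, pow_two] at this
    exact this
  have htinv : t⁻¹ = t := inv_eq_of_mul_eq_one_left htt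
  have hmem : ∀ q : G, q ∈ Q → t * q * t⁻¹ ∈ Q := fun q hq =>
    (Subgroup.mem_normalizer_iff.mp htN q).mp hq
  let α : ↥Q ≃* ↥Q :=
    { toFun := fun q => ⟨t * q * t⁻¹, hmem q q.2⟩
      invFun := fun q => ⟨t * q * t⁻¹, hmem q q.2⟩
      left_inv := by
        intro q
        apply Subtype.ext
        change t * (t * q * t⁻¹) * t⁻¹ = q
        rw [htinv]
        calc t * (t * ↑q * t) * t = (t * t) * ↑q * (t * t) := by group
          _ = q := by rw [htt, one_mul, mul_one]
      right_inv := by
        intro q
        apply Subtype.ext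
        change t * (t * q * t⁻¹) * t⁻¹ = q
        rw [htinv]
        calc t * (t * ↑q * t) * t = (t * t) * ↑q * (t * t) := by group
          _ = q := by rw [htt, one_mul, mul_one]
      map_mul' := by
        intro a b
        apply Subtype.ext
        change t * (a * b) * t⁻¹ = (t * a * t⁻¹) * (t * b * t⁻¹)
        group }
  have hαapp : ∀ q : ↥Q, ((α q : ↥Q) : G) = t * q * t⁻¹ := fun q => rfl
  have hα : ∀ x, α (α x) = x := by
    intro q
    apply Subtype.ext
    rw [hαapp, hαapp, htinv]
    calc t * (t * ↑q * t) * t = (t * t) * ↑q * (t * t) := by group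
      _ = q := by rw [htt, one_mul, mul_one]
  set M : Subgroup ↥Q := (Subgroup.centralizer ({t} : Set G) ⊓ Q).subgroupOf Q with hMdef
  have hMα : ∀ x, x ∈ M ↔ α x = x := by
    intro x
    rw [hMdef, Subgroup.mem_subgroupOf, Subgroup.mem_inf, Subgroup.mem_centralizer_singleton_iff]
    constructor
    · rintro ⟨h1, _⟩
      apply Subtype.ext
      rw [hαapp]
      rw [← h1]; group
    · intro h
      refine ⟨?_, x.2⟩
      have h2 : t * x * t⁻¹ = x := by rw [← hαapp, h]
      calc (x : G) * t = (t * x * t⁻¹) * t := by rw [h2]
        _ = t * x := by group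
  have hidx : M.index ≤ 2 := hi
  obtain ⟨w, hw⟩ := exists_inner hc hZ α hα M hMα hidx
  have hw' : ∀ q : G, q ∈ Q → t * q * t⁻¹ = w * q * (w : G)⁻¹ := by
    intro q hq
    have := congrArg Subtype.val (hw ⟨q, hq⟩)
    rw [hαapp] at this
    exact this
  have hcent : (w : G)⁻¹ * t ∈ Subgroup.centralizer (Q : Set G) := by
    rw [Subgroup.mem_centralizer_iff]
    intro q hq
    have h1 := hw' q hq
    calc q * ((w : G)⁻¹ * t) = (w : G)⁻¹ * ((w : G) * q * (w : G)⁻¹) * t := by group
      _ = (w : G)⁻¹ * (t * q * t⁻¹) * t := by rw [h1]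
      _ = (w : G)⁻¹ * t * q := by group
  have : t = (w : G) * ((w : G)⁻¹ * t) := by group
  rw [this]
  exact Subgroup.mul_mem_sup w.2 hcent

end Cfsg.Agent.S1756
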