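import Cfsg.Statements.S1757

set_option autoImplicit false
open Cfsg

namespace Cfsg.Agent.S1757

/-- Let p be a prime and A, B p-subgroups of the finite group G, each of which meets every conjugate of itself other than itself trivially. Suppose the order of A is at most that of B, A and B intersect trivially, and B normalizes A. Then A and B commute elementwise. -/
theorem result {G : Type*} [Group G] [Finite G] (p : ℕ) [Fact p.Prime] (A B : Subgroup G)
    (hA : IsPGroup p ↥A) (hB : IsPGroup p ↥B)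
    (hAti : ∀ g : G, A.map (MulAut.conj g).toMonoidHom = A ∨ A.map (MulAut.conj g).toMonoidHom ⊓ A = ⊥)
    (hBti : ∀ g : G, B.map (MulAut.conj g).toMonoidHom = B ∨ B.map (MulAut.conj g).toMonoidHom ⊓ B = ⊥)
    (hle : Nat.card ↥A ≤ Nat.card ↥B) (hAB : A ⊓ B = ⊥) (hN : B ≤ Subgroup.normalizer (A : Set G)) : ⁅A, B⁆ = ⊥ := by
  -- membership of `b a⁻¹ b⁻¹` in `A`
  have hmemA : ∀ a ∈ A, ∀ b ∈ B, b * a * b⁻¹ ∈ A := by
    intro a ha b hb
    exact (Subgroup.mem_normalizer_iff.mp (hN hb) a).mp ha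
  -- Step 1: every `a ∈ A` normalizes `B`
  have hnorm : ∀ a ∈ A, B.map (MulAut.conj a).toMonoidHom = B := by
    intro a ha
    rcases hBti a with h | h
    · exact h
    · -- the map b ↦ [a,b] is injective B → A
      let f : B → A := fun b => ⟨a * (b.1 * a⁻¹ * b.1⁻¹), A.mul_mem ha (hmemA a⁻¹ (A.inv_mem ha) b.1 b.2)⟩
      have hf : Function.Injective f := by
        intro b b' hbb
        have h1 : a * (b.1 * a⁻¹ * b.1⁻¹) = a * (b'.1 * a⁻¹ * b'.1⁻¹) := congrArg Subtype.val hbb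
        have h2 : b.1 * a⁻¹ * b.1⁻¹ = b'.1 * a⁻¹ * b'.1⁻¹ := mul_left_cancel h1
        -- c = b'⁻¹ b commutes with a
        have h3 : (b'.1⁻¹ * b.1) * a⁻¹ = a⁻¹ * (b'.1⁻¹ * b.1) := by
          have : b'.1⁻¹ * (b.1 * a⁻¹ * b.1⁻¹) * b.1 = b'.1⁻¹ * (b'.1 * a⁻¹ * b'.1⁻¹) * b.1 := by rw [h2]
          simpa [mul_assoc] using this
        have h4 : a * (b'.1⁻¹ * b.1) * a⁻¹ = b'.1⁻¹ * b.1 := by
          rw [mul_assoc, h3, ← mul_assoc, mul_inv_cancel, one_mul]
        have hc : b'.1⁻¹ * b.1 ∈ B := B.mul_mem (B.inv_mem b'.2) b.2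
        have h5 : b'.1⁻¹ * b.1 ∈ B.map (MulAut.conj a).toMonoidHom ⊓ B := by
          refine ⟨?_, hc⟩
          refine ⟨b'.1⁻¹ * b.1, hc, ?_⟩
          simpa [MulAut.conj_apply] using h4
        rw [h] at h5
        have h6 : b'.1⁻¹ * b.1 = 1 := (Subgroup.mem_bot).mp h5
        have h7 : b.1 = b'.1 := by
          have := inv_mul_eq_one.mp h6
          exact this.symm
        exact Subtype.ext h7
      have hbij := hf.bijective_of_nat_card_le hle
      obtain ⟨b, hb⟩ := hbij.2 ⟨a, ha⟩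
      have h1 : a * (b.1 * a⁻¹ * b.1⁻¹) = a := congrArg Subtype.val hb
      have h2 : b.1 * a⁻¹ * b.1⁻¹ = 1 := by
        have := mul_left_cancel (h1.trans (mul_one a).symm)
        exact this
      have h3 : a = 1 := by
        have : a⁻¹ = 1 := by
          have h4 : b.1⁻¹ * (b.1 * a⁻¹ * b.1⁻¹) * b.1 = b.1⁻¹ * 1 * b.1 := by rw [h2]
          simpa [mul_assoc] using h4
        exact inv_eq_one.mp this
      subst h3
      ext x
      simp [MulAut.conj_apply]
  -- Step 2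
  rw [Subgroup.commutator_eq_bot_iff_le_centralizer]
  intro a ha
  rw [Subgroup.mem_centralizer_iff]
  intro b hb
  have h1 : a * b * a⁻¹ ∈ B := by
    have : a * b * a⁻¹ ∈ B.map (MulAut.conj a).toMonoidHom := ⟨b, hb, by simp [MulAut.conj_apply]⟩
    rwa [hnorm a ha] at this
  have h2 : b * a⁻¹ * b⁻¹ ∈ A := hmemA a⁻¹ (A.inv_mem ha) b hb
  have h3 : a * b * a⁻¹ * b⁻¹ ∈ A ⊓ B := by
    refine ⟨?_, B.mul_mem h1 (B.inv_mem hb)⟩
    have : a * (b * a⁻¹ * b⁻¹) ∈ A := A.mul_mem ha h2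
    simpa [mul_assoc] using this
  rw [hAB, Subgroup.mem_bot] at h3
  have h4 : a * b = b * a := by
    have := mul_inv_eq_one.mp h3
    exact mul_inv_eq_iff_eq_mul.mp this
  exact h4.symm
end Cfsg.Agent.S1757
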