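import Cfsg.Statements.S1775
import Cfsg.Agent.Lib.Helper22.DLayer1

set_option autoImplicit false
open Cfsg

namespace Cfsg.Agent.S1775

open Cfsg.Agent.Helper22 Cfsg.Agent.Helper22.LBal Cfsg.Agent.Helper22.BBal Cfsg.Agent.Helper22.MaxComp
  Cfsg.Agent.Helper22.DLayer
open scoped commutatorElement

theorem aux {G : Type*} [Group G] [Finite G] (x : G) (hx : orderOf x = 2)
    (Cx Cy Lx : Subgroup G) (hCx : Cx = Subgroup.centralizer ({x} : Set G)) (hxCy : x ∈ Cy)
    (hLxCx : Lx ≤ Cx) (hLxN : Cx ≤ Subgroup.normalizer (Lx : Set G))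
    (hBQ : Cfsg.HasBProperty (↥Cy ⧸ Cfsg.oddCore ↥Cy))
    (J : Subgroup ↥(Lx ⊓ Cy)) (hJ : Cfsg.IsPComponent 2 J) :
    Cfsg.IsComponent
        ((((J.map (Subgroup.subtype _)).subgroupOf Cy).map
          (QuotientGroup.mk' (Cfsg.oddCore ↥Cy))).subgroupOf
          (Subgroup.centralizer ({(QuotientGroup.mk' (Cfsg.oddCore ↥Cy) ⟨x, hxCy⟩ :
            ↥Cy ⧸ Cfsg.oddCore ↥Cy)} : Set _))) ∧
      ∀ E : Subgroup G, E ≤ Cx ⊓ Cy → Odd (Nat.card ↥E) →
        (∀ j ∈ J.map (Subgroup.subtype _), ∀ e ∈ E, j * e * j⁻¹ ∈ E) →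
          ⁅J.map (Subgroup.subtype _), E⁆ ≤ (Cfsg.oddCore ↥Cy).map Cy.subtype := by
  classical
  have : Fact (Nat.Prime 2) := ⟨Nat.prime_two⟩
  have hx' : orderOf (⟨x, hxCy⟩ : ↥Cy) = 2 := by
    rw [← hx]; exact Subgroup.orderOf_mk x hxCy
  have hDCy : Lx ⊓ Cy ≤ Cy := inf_le_right
  have hDCx : Lx ⊓ Cy ≤ Cx := inf_le_left.trans hLxCx
  have hJGD : J.map (Lx ⊓ Cy).subtype ≤ Lx ⊓ Cy := Subgroup.map_subtype_le J
  have hJGCy : J.map (Lx ⊓ Cy).subtype ≤ Cy := hJGD.trans hDCy
  have hJlike : PCompLike 2 ↥J := PCompLike.of_isPComponent hJ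
  have hJXlike : PCompLike 2 ↥((J.map (Lx ⊓ Cy).subtype).subgroupOf Cy) :=
    (hJlike.of_mulEquiv (J.equivMapOfInjective (Lx ⊓ Cy).subtype
      (Lx ⊓ Cy).subtype_injective)).of_mulEquiv (Subgroup.subgroupOfEquivOfLe hJGCy).symm
  -- subnormality
  have hsn1 : SubnormalIn (J.map (Lx ⊓ Cy).subtype) (Lx ⊓ Cy) := by
    refine ⟨hJGD, ?_⟩
    have e : (J.map (Lx ⊓ Cy).subtype).subgroupOf (Lx ⊓ Cy) = J :=
      Subgroup.comap_map_eq_self_of_injective (Lx ⊓ Cy).subtype_injective J
    rw [e]; exact hJ.1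
  have hsn2 : SubnormalIn (Lx ⊓ Cy) (Cx ⊓ Cy) := by
    refine SubnormalIn.of_normal (le_inf hDCx hDCy) ?_
    exact (inf_le_inf hLxN Subgroup.le_normalizer).trans (normalizer_inf_le Lx Cy)
  have hsn3 : SubnormalIn (J.map (Lx ⊓ Cy).subtype) (Cx ⊓ Cy) := hsn1.trans hsn2
  have hCxy : (Cx ⊓ Cy).subgroupOf Cy =
      Subgroup.centralizer ({(⟨x, hxCy⟩ : ↥Cy)} : Set ↥Cy) := by
    ext g
    rw [Subgroup.mem_subgroupOf, Subgroup.mem_inf, hCx, Subgroup.mem_centralizer_singleton_iff,
      Subgroup.mem_centralizer_singleton_iff, Subtype.ext_iff]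
    constructor
    · intro h; exact h.1
    · intro h; exact ⟨h, g.2⟩
  have hsn4 : SubnormalIn ((J.map (Lx ⊓ Cy).subtype).subgroupOf Cy)
      (Subgroup.centralizer ({(⟨x, hxCy⟩ : ↥Cy)} : Set ↥Cy)) := by
    have := hsn3.subgroupOf Cy
    rwa [hCxy] at this
  obtain ⟨h1, h2⟩ := image_isComponent_and hx' hJXlike hsn4 hBQ
  refine ⟨h1, ?_⟩
  intro E hE hEodd hinv
  have hECy : E ≤ Cy := hE.trans inf_le_right
  have hEX : E.subgroupOf Cy ≤ Subgroup.centralizer ({(⟨x, hxCy⟩ : ↥Cy)} : Set ↥Cy) := by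
    rw [← hCxy]
    intro g hg
    rw [Subgroup.mem_subgroupOf] at hg ⊢
    exact hE hg
  have hEXodd : (Nat.card (E.subgroupOf Cy)).Coprime 2 := by
    rw [card_subgroupOf_of_le hECy]
    exact Nat.Coprime.symm (Nat.coprime_two_left.mpr hEodd)
  have hEXinv : ∀ j ∈ (J.map (Lx ⊓ Cy).subtype).subgroupOf Cy, ∀ e ∈ E.subgroupOf Cy,
      j * e * j⁻¹ ∈ E.subgroupOf Cy := by
    intro j hj e he
    rw [Subgroup.mem_subgroupOf] at hj he ⊢
    exact hinv _ hj _ he
  have h3 := h2 (E.subgroupOf Cy) hEX hEXodd hEXinv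
  have h4 := Subgroup.map_mono (f := Cy.subtype) h3
  rwa [Subgroup.map_commutator, Subgroup.map_subgroupOf_eq_of_le hJGCy,
    Subgroup.map_subgroupOf_eq_of_le hECy] at h4


/-- Let G be a finite group whose generalized Fitting subgroup is a non-abelian simple group and in which every proper section (every quotient H/N of a proper subgroup H, or of G by a nontrivial normal subgroup) has the B-property. Let x, y be commuting involutions, let D be the intersection of the 2-layer of C_G(x) with C_G(y), and let J be a 2-component of D. Write Q for the quotient of C_G(y) by its largest normal odd-order subgroup. Then (i) the image of J in Q is a component of the centralizer in Q of the image of x; and (ii) for every J-invariant subgroup E of odd order of C_G(x) ∩ C_G(y), the commutator subgroup [J, E] lies in the largest normal odd-order subgroup of C_G(y). -/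
theorem result {G : Type*} [Group G] [Finite G]
    (hF : IsSimpleGroup ↥(Cfsg.generalizedFittingSubgroup G)) (hF' : ¬ IsMulCommutative ↥(Cfsg.generalizedFittingSubgroup G))
    (hsec : ∀ (H : Subgroup G) (N : Subgroup ↥H) [N.Normal], (H ≠ ⊤ ∨ N ≠ ⊥) → Cfsg.HasBProperty (↥H ⧸ N))
    (x y : G) (hx : orderOf x = 2) (hy : orderOf y = 2) (hxy : x * y = y * x)
    (J : Subgroup ↥((Cfsg.pLayer 2 ↥(Subgroup.centralizer ({x} : Set G))).map (Subgroup.centralizer ({x} : Set G)).subtype ⊓ Subgroup.centralizer ({y} : Set G)))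
    (hJ : Cfsg.IsPComponent 2 J) :
    Cfsg.IsComponent
        ((((J.map (Subgroup.subtype _)).subgroupOf (Subgroup.centralizer ({y} : Set G))).map (QuotientGroup.mk' (Cfsg.oddCore ↥(Subgroup.centralizer ({y} : Set G))))).subgroupOf
          (Subgroup.centralizer ({(QuotientGroup.mk' (Cfsg.oddCore ↥(Subgroup.centralizer ({y} : Set G))) ⟨x, Subgroup.mem_centralizer_singleton_iff.mpr hxy⟩ : ↥(Subgroup.centralizer ({y} : Set G)) ⧸ Cfsg.oddCore ↥(Subgroup.centralizer ({y} : Set G)))} : Set _))) ∧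
      ∀ E : Subgroup G, E ≤ Subgroup.centralizer ({x} : Set G) ⊓ Subgroup.centralizer ({y} : Set G) → Odd (Nat.card ↥E) →
        (∀ j ∈ J.map (Subgroup.subtype _), ∀ e ∈ E, j * e * j⁻¹ ∈ E) →
          ⁅J.map (Subgroup.subtype _), E⁆ ≤ (Cfsg.oddCore ↥(Subgroup.centralizer ({y} : Set G))).map (Subgroup.centralizer ({y} : Set G)).subtype := by
  classical
  -- `C_G(y)` is a proper subgroup
  have hCyTop : Subgroup.centralizer ({y} : Set G) ≠ ⊤ := by
    intro htop
    have hyZ : y ∈ Subgroup.center G := by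
      rw [Subgroup.mem_center_iff]
      intro g
      have hg : g ∈ Subgroup.centralizer ({y} : Set G) := htop ▸ Subgroup.mem_top g
      exact Subgroup.mem_centralizer_singleton_iff.mp hg
    have hyF : y ∈ Cfsg.generalizedFittingSubgroup G :=
      centralizer_generalizedFittingSubgroup_le (Subgroup.center_le_centralizer _ hyZ)
    have hcF : Subgroup.center ↥(Cfsg.generalizedFittingSubgroup G) = ⊥ := by
      rcases (inferInstance :
        (Subgroup.center ↥(Cfsg.generalizedFittingSubgroup G)).Normal).eq_bot_or_eq_top with h | h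
      · exact h
      · exfalso
        apply hF'
        refine ⟨⟨fun u v => ?_⟩⟩
        have hu : u ∈ Subgroup.center ↥(Cfsg.generalizedFittingSubgroup G) :=
          h ▸ Subgroup.mem_top u
        exact (Subgroup.mem_center_iff.mp hu v).symm
    have hy1 : (⟨y, hyF⟩ : ↥(Cfsg.generalizedFittingSubgroup G)) ∈
        Subgroup.center ↥(Cfsg.generalizedFittingSubgroup G) := by
      rw [Subgroup.mem_center_iff]
      intro g
      apply Subtype.ext
      exact Subgroup.mem_center_iff.mp hyZ g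
    rw [hcF, Subgroup.mem_bot] at hy1
    have : y = 1 := congrArg Subtype.val hy1
    rw [this, orderOf_one] at hy
    omega
  have hBQ := hsec (Subgroup.centralizer ({y} : Set G))
    (Cfsg.oddCore ↥(Subgroup.centralizer ({y} : Set G))) (Or.inl hCyTop)
  have hLxCx : (Cfsg.pLayer 2 ↥(Subgroup.centralizer ({x} : Set G))).map
      (Subgroup.centralizer ({x} : Set G)).subtype ≤ Subgroup.centralizer ({x} : Set G) :=
    Subgroup.map_subtype_le _
  have hLxN : Subgroup.centralizer ({x} : Set G) ≤ Subgroup.normalizer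
      (((Cfsg.pLayer 2 ↥(Subgroup.centralizer ({x} : Set G))).map
        (Subgroup.centralizer ({x} : Set G)).subtype : Subgroup G) : Set G) := by
    have hn : (Cfsg.pLayer 2 ↥(Subgroup.centralizer ({x} : Set G))).Normal :=
      Cfsg.Agent.Helper23.pLayer_normal 2
    have h1 : (((Cfsg.pLayer 2 ↥(Subgroup.centralizer ({x} : Set G))).map
        (Subgroup.centralizer ({x} : Set G)).subtype).subgroupOf
        (Subgroup.centralizer ({x} : Set G))).Normal := by
      have e : ((Cfsg.pLayer 2 ↥(Subgroup.centralizer ({x} : Set G))).map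
          (Subgroup.centralizer ({x} : Set G)).subtype).subgroupOf
          (Subgroup.centralizer ({x} : Set G)) =
          Cfsg.pLayer 2 ↥(Subgroup.centralizer ({x} : Set G)) :=
        Subgroup.comap_map_eq_self_of_injective (Subgroup.subtype_injective _) _
      rw [e]; exact hn
    exact (Subgroup.normal_subgroupOf_iff_le_normalizer hLxCx).mp h1
  exact aux x hx _ _ _ rfl (Subgroup.mem_centralizer_singleton_iff.mpr hxy) hLxCx hLxN hBQ
    J hJ

end Cfsg.Agent.S1775
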