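import Cfsg.Statements.S1780
import Mathlib

set_option autoImplicit false
open Cfsg

namespace Cfsg.Agent.S1780

/-- The homomorphism `a ↦ a⁻¹ * t a` of a commutative group. -/
def delta {A : Type*} [CommGroup A] (t : MulAut A) : A →* A where
  toFun a := a⁻¹ * t a
  map_one' := by simp
  map_mul' a b := by
    simp only [map_mul, mul_inv_rev]
    ac_rfl

theorem delta_apply {A : Type*} [CommGroup A] (t : MulAut A) (a : A) : delta t a = a⁻¹ * t a := rfl

theorem commute_of_mem_zpowers {A : Type*} [CommGroup A] (t : MulAut A) (s : MulAut A)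
    (hs : s ∈ Subgroup.zpowers t) (a : A) : s (t a) = t (s a) := by
  obtain ⟨n, rfl⟩ := hs
  have h : Commute (t ^ n) t := (Commute.refl t).zpow_left n
  have := congrArg (fun f : MulAut A => f a) h.eq
  simpa [MulAut.mul_apply] using this

theorem smul_mem_range {A : Type*} [CommGroup A] (t : MulAut A) (s : MulAut A)
    (hs : s ∈ Subgroup.zpowers t) (c : A) (hc : c ∈ (delta t).range) : s c ∈ (delta t).range := by
  obtain ⟨a, rfl⟩ := hc
  refine ⟨s a, ?_⟩
  rw [delta_apply, delta_apply, map_mul, map_inv, commute_of_mem_zpowers t s hs]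

/-- The action of `⟨t⟩` on the image of `delta t`. -/
@[reducible] def act {A : Type*} [CommGroup A] (t : MulAut A) :
    MulAction (Subgroup.zpowers t) (delta t).range where
  smul s c := ⟨(s : MulAut A) (c : A), smul_mem_range t s s.2 c c.2⟩
  one_smul c := by
    apply Subtype.ext
    rfl
  mul_smul s₁ s₂ c := by
    apply Subtype.ext
    rfl

theorem result {A : Type*} [CommGroup A] [Finite A]
    (hA : IsPGroup 2 A) (t : MulAut A) (ht : ∃ k : ℕ, orderOf t = 2 ^ k) (hC : ∀ a : A, t (t a) = a → t a = a) :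
    ∀ a : A, t a = a := by
  by_contra hcon
  push Not at hcon
  obtain ⟨a₀, ha₀⟩ := hcon
  obtain ⟨k, hk⟩ := ht
  have : Fact (Nat.Prime 2) := ⟨Nat.prime_two⟩
  -- the cyclic group generated by t is a 2-group
  have hZ : IsPGroup 2 (Subgroup.zpowers t) := by
    apply IsPGroup.of_card (n := k)
    rw [Nat.card_zpowers, hk]
  letI : MulAction (Subgroup.zpowers t) (delta t).range := act t
  -- the range is a nontrivial 2-group
  have hR : IsPGroup 2 (delta t).range := hA.to_subgroup _
  have hne : Nontrivial (delta t).range := by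
    refine ⟨⟨⟨delta t a₀, a₀, rfl⟩, 1, ?_⟩⟩
    intro h
    have h' : delta t a₀ = 1 := congrArg Subtype.val h
    rw [delta_apply, inv_mul_eq_one] at h'
    exact ha₀ h'.symm
  have hdvd : 2 ∣ Nat.card (delta t).range := by
    obtain ⟨n, hn0, hn⟩ := hR.nontrivial_iff_card.mp hne
    rw [hn]; exact dvd_pow_self _ (ne_of_gt hn0)
  have hfix1 : (1 : (delta t).range) ∈ MulAction.fixedPoints (Subgroup.zpowers t) (delta t).range := by
    intro s
    apply Subtype.ext
    show (s : MulAut A) (1 : A) = 1
    simp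
  obtain ⟨c, hcfix, hc1⟩ := hZ.exists_fixed_point_of_prime_dvd_card_of_fixed_point _ hdvd hfix1
  -- c is a nontrivial element of the range fixed by t
  have htc : t (c : A) = c := by
    have := hcfix ⟨t, Subgroup.mem_zpowers t⟩
    exact congrArg Subtype.val this
  have hcne : (c : A) ≠ 1 := by
    intro h
    apply hc1
    apply Subtype.ext
    exact h.symm
  obtain ⟨a, hac⟩ := c.2
  -- order of c is 2^j with j ≥ 1
  obtain ⟨j, hj⟩ := (IsPGroup.iff_orderOf.mp hA) (c : A)
  have hj0 : j ≠ 0 := by
    intro h0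
    rw [h0, pow_zero, orderOf_eq_one_iff] at hj
    exact hcne hj
  obtain ⟨i, rfl⟩ := Nat.exists_eq_succ_of_ne_zero hj0
  set c' : A := (c : A) ^ (2 ^ i) with hc'
  set a' : A := a ^ (2 ^ i) with ha'
  have hc'2 : c' ^ 2 = 1 := by
    rw [hc', ← pow_mul, ← pow_succ, ← hj, pow_orderOf_eq_one]
  have hc'ne : c' ≠ 1 := by
    intro h
    have hdiv : orderOf (c : A) ∣ 2 ^ i := orderOf_dvd_of_pow_eq_one h
    rw [hj] at hdiv
    have := Nat.le_of_dvd (by positivity) hdiv
    have : 2 ^ i < 2 ^ (i + 1) := Nat.pow_lt_pow_right (by norm_num) (Nat.lt_succ_self i)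
    omega
  have htc' : t c' = c' := by
    rw [hc', map_pow, htc]
  have hda' : delta t a' = c' := by
    rw [ha', map_pow, hac]
  have hta' : t a' = a' * c' := by
    rw [← hda', delta_apply, mul_inv_cancel_left]
  have htta' : t (t a') = a' := by
    rw [hta', map_mul, hta', htc', mul_assoc, ← pow_two, hc'2, mul_one]
  have := hC a' htta'
  rw [hta'] at this
  exact hc'ne (by simpa using this)

end Cfsg.Agent.S1780
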