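import Cfsg.Statements.S1781
import Cfsg.Agent.S1780
import Mathlib

set_option autoImplicit false
open Cfsg
open scoped commutatorElement

namespace Cfsg.Agent.S1781

section helpers

variable {G : Type*} [Group G]

theorem mem_cj {A : Subgroup G} {g x : G} :
    x ∈ A.map (MulAut.conj g).toMonoidHom ↔ g⁻¹ * x * g ∈ A := by
  constructor
  · rintro ⟨a, ha, rfl⟩
    simpa [MulAut.conj_apply, mul_assoc] using ha
  · intro h
    exact ⟨g⁻¹ * x * g, h, by simp [MulAut.conj_apply, mul_assoc]⟩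

/-- TI: a nontrivial element of `A` whose conjugate by `b` lies in `A` forces `b` to normalize `A`. -/
theorem ti_norm (A : Subgroup G)
    (hti : ∀ h : G, A.map (MulAut.conj h).toMonoidHom = A ∨ A.map (MulAut.conj h).toMonoidHom ⊓ A = ⊥)
    (x : G) (hx : x ∈ A) (hx1 : x ≠ 1) (b : G) (hb : b * x * b⁻¹ ∈ A) :
    A.map (MulAut.conj b).toMonoidHom = A := by
  rcases hti b with h | h
  · exact h
  · exfalso
    have hmem : b * x * b⁻¹ ∈ A.map (MulAut.conj b).toMonoidHom ⊓ A := by
      refine Subgroup.mem_inf.mpr ⟨?_, hb⟩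
      rw [mem_cj]
      simpa [mul_assoc] using hx
    rw [h, Subgroup.mem_bot] at hmem
    apply hx1
    have : b * x * b⁻¹ = b * 1 * b⁻¹ := by simpa using hmem
    simpa using this

theorem map_conj_eq_iff (A : Subgroup G) (b : G) :
    A.map (MulAut.conj b).toMonoidHom = A ↔ b ∈ Subgroup.normalizer (A : Set G) := by
  rw [Subgroup.mem_normalizer_iff_map_conj_eq]
  rfl

/-- Conjugation by an element of the normalizer, as an automorphism of the subgroup. -/
def conjAut (B : Subgroup G) (d : G) (hd : d ∈ Subgroup.normalizer (B : Set G)) : MulAut ↥B where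
  toFun b := ⟨d * b * d⁻¹, (Subgroup.mem_normalizer_iff.mp hd b).mp b.2⟩
  invFun b := ⟨d⁻¹ * b * d, (Subgroup.mem_normalizer_iff''.mp hd b).mp b.2⟩
  left_inv b := by
    apply Subtype.ext
    simp [mul_assoc]
  right_inv b := by
    apply Subtype.ext
    simp [mul_assoc]
  map_mul' x y := by
    apply Subtype.ext
    simp [mul_assoc]

theorem conjAut_apply (B : Subgroup G) (d : G) (hd : d ∈ Subgroup.normalizer (B : Set G)) (b : ↥B) :
    ((conjAut B d hd b : ↥B) : G) = d * b * d⁻¹ := rfl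

theorem conjAut_pow (B : Subgroup G) (d : G) (hd : d ∈ Subgroup.normalizer (B : Set G)) (n : ℕ) (b : ↥B) :
    (((conjAut B d hd) ^ n) b : G) = d ^ n * b * (d ^ n)⁻¹ := by
  induction n generalizing b with
  | zero => simp
  | succ n ih =>
    rw [pow_succ, MulAut.mul_apply, ih, conjAut_apply, pow_succ]
    simp [mul_assoc]

theorem key [Finite G] (A B : Subgroup G)
    (hA2 : IsPGroup 2 ↥A) (hB2 : IsPGroup 2 ↥B) (hBa : IsMulCommutative ↥B)
    (hti : ∀ h : G, A.map (MulAut.conj h).toMonoidHom = A ∨ A.map (MulAut.conj h).toMonoidHom ⊓ A = ⊥)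
    (hAB : A ⊓ B = ⊥)
    (d : G) (hdA : d ∈ A) (hdN : d ∈ Subgroup.normalizer (B : Set G)) (hd2 : d ^ 2 ≠ 1) :
    (∀ b ∈ B, d * b * d⁻¹ = b) ∧ B ≤ Subgroup.normalizer (A : Set G) := by
  have hd1 : d ≠ 1 := by
    rintro rfl
    simp at hd2
  letI : CommGroup ↥B := { (inferInstance : Group ↥B) with mul_comm := mul_comm' }
  -- order of the induced automorphism is a power of two
  obtain ⟨k, hk⟩ := (IsPGroup.iff_orderOf.mp hA2) ⟨d, hdA⟩
  have hdk : d ^ (2 ^ k) = 1 := by
    have := pow_orderOf_eq_one (⟨d, hdA⟩ : ↥A)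
    rw [hk] at this
    exact congrArg Subtype.val this
  have htk : (conjAut B d hdN) ^ (2 ^ k) = 1 := by
    ext b
    rw [conjAut_pow, hdk]
    simp
  have hto : ∃ j : ℕ, orderOf (conjAut B d hdN) = 2 ^ j := by
    have hdvd := orderOf_dvd_of_pow_eq_one htk
    obtain ⟨j, _, hj⟩ := (Nat.dvd_prime_pow Nat.prime_two).mp hdvd
    exact ⟨j, hj⟩
  have hfix : ∀ b : ↥B, (conjAut B d hdN) ((conjAut B d hdN) b) = b → (conjAut B d hdN) b = b := by
    intro b hb
    have hb' : d * (d * (b : G) * d⁻¹) * d⁻¹ = b := by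
      have := congrArg Subtype.val hb
      simpa [conjAut_apply] using this
    -- d^2 commutes with b, so b d^2 b⁻¹ = d^2 ∈ A
    have hcomm : (b : G) * d ^ 2 * (b : G)⁻¹ = d ^ 2 := by
      have h1 : d ^ 2 * (b : G) = (b : G) * d ^ 2 := by
        calc d ^ 2 * (b : G) = d * (d * (b : G) * d⁻¹) * d⁻¹ * d ^ 2 := by
              simp [pow_two, mul_assoc]
          _ = (b : G) * d ^ 2 := by rw [hb']
      rw [← h1]; simp
    have hd2A : d ^ 2 ∈ A := A.pow_mem hdA 2
    have hbN : A.map (MulAut.conj (b : G)).toMonoidHom = A :=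
      ti_norm A hti (d ^ 2) hd2A hd2 b (by rw [hcomm]; exact hd2A)
    have hbN' : (b : G) ∈ Subgroup.normalizer (A : Set G) := (map_conj_eq_iff A b).mp hbN
    -- the commutator lies in A ⊓ B
    have hc : d * (b : G) * d⁻¹ * (b : G)⁻¹ ∈ A ⊓ B := by
      refine Subgroup.mem_inf.mpr ⟨?_, ?_⟩
      · have : (b : G) * d⁻¹ * (b : G)⁻¹ ∈ A :=
          (Subgroup.mem_normalizer_iff.mp hbN' d⁻¹).mp (A.inv_mem hdA)
        have := A.mul_mem hdA this
        simpa [mul_assoc] using this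
      · exact B.mul_mem ((Subgroup.mem_normalizer_iff.mp hdN b).mp b.2) (B.inv_mem b.2)
    rw [hAB, Subgroup.mem_bot] at hc
    apply Subtype.ext
    rw [conjAut_apply]
    exact mul_inv_eq_one.mp hc
  have hall := Cfsg.Agent.S1780.result hB2 (conjAut B d hdN) hto hfix
  have hcent : ∀ b ∈ B, d * b * d⁻¹ = b := by
    intro b hb
    have := congrArg Subtype.val (hall ⟨b, hb⟩)
    simpa [conjAut_apply] using this
  refine ⟨hcent, ?_⟩
  intro b hb
  rw [← map_conj_eq_iff]
  apply ti_norm A hti d hdA hd1 b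
  have : b * d * b⁻¹ = d := by
    have h := hcent b hb
    calc b * d * b⁻¹ = (d * b * d⁻¹) * d * b⁻¹ := by rw [h]
      _ = d := by simp [mul_assoc]
  rw [this]; exact hdA

end helpers

theorem result {G : Type*} [Group G] [Finite G] (A : Subgroup G)
    (hA2 : IsPGroup 2 ↥A) (hAa : IsMulCommutative ↥A)
    (hti : ∀ h : G, A.map (MulAut.conj h).toMonoidHom = A ∨ A.map (MulAut.conj h).toMonoidHom ⊓ A = ⊥)
    (g : G) (hg : A.map (MulAut.conj g).toMonoidHom ≠ A) :
    Cfsg.IsElementaryAbelian 2 (A ⊓ Subgroup.normalizer ((A.map (MulAut.conj g).toMonoidHom : Subgroup G) : Set G)) ∨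
      ⁅A, A.map (MulAut.conj g).toMonoidHom⁆ = ⊥ := by
  set B : Subgroup G := A.map (MulAut.conj g).toMonoidHom with hB
  have hAB : A ⊓ B = ⊥ := by
    rcases hti g with h | h
    · exact absurd h hg
    · rw [inf_comm]; exact h
  -- B is an abelian 2-group
  have e : ↥A ≃* ↥B := A.equivMapOfInjective _ (MulAut.conj g).injective
  have hB2 : IsPGroup 2 ↥B := hA2.of_equiv e
  have hBa : IsMulCommutative ↥B := by
    constructor; constructor
    intro x y
    have := mul_comm' (e.symm x) (e.symm y)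
    have h2 := congrArg e this
    simpa using h2
  -- TI for B
  have htiB : ∀ h : G, B.map (MulAut.conj h).toMonoidHom = B ∨ B.map (MulAut.conj h).toMonoidHom ⊓ B = ⊥ := by
    intro h
    rcases hti (g⁻¹ * h * g) with h1 | h1
    · left
      ext x
      have e1 : x ∈ B.map (MulAut.conj h).toMonoidHom ↔ g⁻¹ * (h⁻¹ * x * h) * g ∈ A := by
        rw [mem_cj, hB, mem_cj]
      have e2 : x ∈ B ↔ g⁻¹ * x * g ∈ A := by rw [hB, mem_cj]
      have e3 := (mem_cj (A := A) (g := g⁻¹ * h * g) (x := g⁻¹ * x * g))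
      rw [h1] at e3
      have e4 : (g⁻¹ * h * g)⁻¹ * (g⁻¹ * x * g) * (g⁻¹ * h * g) = g⁻¹ * (h⁻¹ * x * h) * g := by
        group
      rw [e4] at e3
      rw [e1, e2, e3]
    · right
      rw [eq_bot_iff]
      intro x hx
      rw [Subgroup.mem_bot]
      have hx1 : g⁻¹ * x * g ∈ A.map (MulAut.conj (g⁻¹ * h * g)).toMonoidHom ⊓ A := by
        refine Subgroup.mem_inf.mpr ⟨?_, ?_⟩
        · have := (Subgroup.mem_inf.mp hx).1
          rw [mem_cj, hB, mem_cj] at this
          rw [mem_cj]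
          have e4 : (g⁻¹ * h * g)⁻¹ * (g⁻¹ * x * g) * (g⁻¹ * h * g) = g⁻¹ * (h⁻¹ * x * h) * g := by
            group
          rw [e4]; exact this
        · have := (Subgroup.mem_inf.mp hx).2
          rw [hB, mem_cj] at this
          exact this
      rw [h1, Subgroup.mem_bot] at hx1
      have : x = g * (g⁻¹ * x * g) * g⁻¹ := by simp [mul_assoc]
      rw [this, hx1]; simp
  by_cases hE : Cfsg.IsElementaryAbelian 2 (A ⊓ Subgroup.normalizer (B : Set G))
  · left; exact hE
  · right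
    -- there is d in A ⊓ N(B) with d^2 ≠ 1
    have hd : ∃ d ∈ A ⊓ Subgroup.normalizer (B : Set G), d ^ 2 ≠ 1 := by
      by_contra hcon
      push Not at hcon
      apply hE
      refine ⟨?_, hcon⟩
      constructor; constructor
      rintro ⟨x, hx⟩ ⟨y, hy⟩
      apply Subtype.ext
      have := mul_comm' (⟨x, (Subgroup.mem_inf.mp hx).1⟩ : ↥A) ⟨y, (Subgroup.mem_inf.mp hy).1⟩
      show x * y = y * x
      exact congrArg Subtype.val this
    obtain ⟨d, hdm, hd2⟩ := hd
    have hdm := Subgroup.mem_inf.mp hdm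
    have hBN : B ≤ Subgroup.normalizer (A : Set G) :=
      (key A B hA2 hB2 hBa hti hAB d hdm.1 hdm.2 hd2).2
    -- the conjugate of d in B
    have hd'B : g * d * g⁻¹ ∈ B := by
      rw [hB, mem_cj]; simpa [mul_assoc] using hdm.1
    have hd'2 : (g * d * g⁻¹) ^ 2 ≠ 1 := by
      intro h
      apply hd2
      have : (g * d * g⁻¹) ^ 2 = g * d ^ 2 * g⁻¹ := by simp [pow_two, mul_assoc]
      rw [this] at h
      have h3 : d ^ 2 = g⁻¹ * (g * d ^ 2 * g⁻¹) * g := by simp [mul_assoc]
      rw [h3, h]; simp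
    have hBA : B ⊓ A = ⊥ := by rw [inf_comm]; exact hAB
    have hAN : A ≤ Subgroup.normalizer (B : Set G) :=
      (key B A hB2 hA2 hAa htiB hBA (g * d * g⁻¹) hd'B (hBN hd'B) hd'2).2
    rw [eq_bot_iff, Subgroup.commutator_le]
    intro a ha b hb
    rw [Subgroup.mem_bot]
    have hc : ⁅a, b⁆ ∈ A ⊓ B := by
      rw [commutatorElement_def]
      refine Subgroup.mem_inf.mpr ⟨?_, ?_⟩
      · have : b * a⁻¹ * b⁻¹ ∈ A :=
          (Subgroup.mem_normalizer_iff.mp (hBN hb) a⁻¹).mp (A.inv_mem ha)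
        have := A.mul_mem ha this
        simpa [mul_assoc] using this
      · exact B.mul_mem ((Subgroup.mem_normalizer_iff.mp (hAN ha) b).mp hb) (B.inv_mem hb)
    rw [hAB, Subgroup.mem_bot] at hc
    exact hc

end Cfsg.Agent.S1781
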