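import Cfsg.Statements.S1783
import Cfsg.Agent.Lib.Helper30.TIFamily
import Cfsg.Agent.Lib.Helper30.CharP
import Cfsg.Agent.S0029

set_option autoImplicit false
open Cfsg

namespace Cfsg.Agent.S1783

open Subgroup Cfsg.Agent.Helper30 Cfsg.Agent.S1782

variable {X : Type*} [Group X]

theorem map_cj_cj (A : Subgroup X) (g k : X) :
    (A.map (MulAut.conj k).toMonoidHom).map (MulAut.conj g).toMonoidHom =
      A.map (MulAut.conj (g * k)).toMonoidHom := by
  ext x
  rw [mem_cj, mem_cj, mem_cj]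
  have : k⁻¹ * (g⁻¹ * x * g) * k = (g * k)⁻¹ * x * (g * k) := by group
  rw [this]

theorem cj_injective (g : X) : Function.Injective (MulAut.conj g).toMonoidHom :=
  (MulAut.conj g).injective

theorem map_cj_one (A : Subgroup X) : A.map (MulAut.conj (1 : X)).toMonoidHom = A := by
  ext x
  rw [mem_cj]
  simp

theorem card_map_cj [Finite X] (A : Subgroup X) (g : X) :
    Nat.card ↥(A.map (MulAut.conj g).toMonoidHom) = Nat.card ↥A :=
  (Nat.card_congr (A.equivMapOfInjective _ (cj_injective g)).toEquiv).symm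

/-- The TI hypothesis for all pairs of conjugates. -/
theorem ti_conj (A : Subgroup X)
    (hti : ∀ h : X, A.map (MulAut.conj h).toMonoidHom = A ∨
      A.map (MulAut.conj h).toMonoidHom ⊓ A = ⊥) (g h : X) :
    A.map (MulAut.conj g).toMonoidHom = A.map (MulAut.conj h).toMonoidHom ∨
      A.map (MulAut.conj g).toMonoidHom ⊓ A.map (MulAut.conj h).toMonoidHom = ⊥ := by
  have e1 : (A.map (MulAut.conj (g⁻¹ * h)).toMonoidHom).map (MulAut.conj g).toMonoidHom =
      A.map (MulAut.conj h).toMonoidHom := by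
    rw [map_cj_cj]; congr 3; group
  rcases hti (g⁻¹ * h) with h1 | h1
  · left
    rw [← e1, h1]
  · right
    rw [inf_comm, ← e1, ← Subgroup.map_inf _ _ _ (cj_injective g), h1, Subgroup.map_bot]

/-- A subgroup all of whose `p'`-elements are trivial is a `p`-group. -/
theorem isPGroup_of_pprime_eq_one [Finite X] {p : ℕ} [hp : Fact p.Prime] (H : Subgroup X)
    (hH : ∀ x ∈ H, (orderOf x).Coprime p → x = 1) : IsPGroup p ↥H := by
  rintro ⟨x, hx⟩
  have hpos : 0 < orderOf x := orderOf_pos x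
  obtain ⟨a, m, hm, hn⟩ := Nat.exists_eq_pow_mul_and_not_dvd hpos.ne' p hp.out.ne_one
  refine ⟨a, ?_⟩
  have h1 : x ^ p ^ a = 1 := by
    apply hH _ (H.pow_mem hx _)
    have hdvd : orderOf (x ^ p ^ a) ∣ m := by
      apply orderOf_dvd_of_pow_eq_one
      rw [← pow_mul, ← hn, pow_orderOf_eq_one]
    have hcop : m.Coprime p := ((Nat.Prime.coprime_iff_not_dvd hp.out).mpr hm).symm
    exact Nat.Coprime.coprime_dvd_left hdvd hcop
  exact Subtype.ext (by rw [Subgroup.coe_pow, h1, Subgroup.coe_one])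

/-- `Φ(Q)` as a subgroup of `X`. -/
def phi (Q : Subgroup X) : Subgroup X := (frattini ↥Q).map Q.subtype

instance phi_normal (Q : Subgroup X) [Q.Normal] : (phi Q).Normal := by
  unfold phi; infer_instance

/-- The elements of `X` acting trivially on `Q / Φ(Q)`. -/
def stab (Q : Subgroup X) [hQ : Q.Normal] : Subgroup X where
  carrier := {x | ∀ q ∈ Q, x * q * x⁻¹ * q⁻¹ ∈ phi Q}
  one_mem' := by
    intro q _
    have : (1 : X) * q * 1⁻¹ * q⁻¹ = 1 := by group
    rw [this]; exact (phi Q).one_mem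
  mul_mem' := by
    intro x y hx hy q hq
    have e : x * y * q * (x * y)⁻¹ * q⁻¹ =
        (x * (y * q * y⁻¹ * q⁻¹) * x⁻¹) * (x * q * x⁻¹ * q⁻¹) := by group
    rw [e]
    exact (phi Q).mul_mem ((phi_normal Q).conj_mem _ (hy q hq) x) (hx q hq)
  inv_mem' := by
    intro x hx q hq
    have hq' : x⁻¹ * q * x ∈ Q := by
      have := hQ.conj_mem q hq x⁻¹
      simpa using this
    have h1 := hx _ hq'
    have e : x⁻¹ * q * x⁻¹⁻¹ * q⁻¹ = (x * (x⁻¹ * q * x) * x⁻¹ * (x⁻¹ * q * x)⁻¹)⁻¹ := by group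
    rw [e]
    exact (phi Q).inv_mem h1

theorem mem_stab (Q : Subgroup X) [Q.Normal] (x : X) :
    x ∈ stab Q ↔ ∀ q ∈ Q, x * q * x⁻¹ * q⁻¹ ∈ phi Q := Iff.rfl

instance stab_normal (Q : Subgroup X) [hQ : Q.Normal] : (stab Q).Normal := by
  refine ⟨?_⟩
  intro x hx g q hq
  have hq' : g⁻¹ * q * g ∈ Q := by
    have := hQ.conj_mem q hq g⁻¹
    simpa using this
  have h1 := hx _ hq'
  have e : g * x * g⁻¹ * q * (g * x * g⁻¹)⁻¹ * q⁻¹ =
      g * (x * (g⁻¹ * q * g) * x⁻¹ * (g⁻¹ * q * g)⁻¹) * g⁻¹ := by group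
  rw [e]
  exact (phi_normal Q).conj_mem _ h1 g

/-- In a finite group `X` with `F*(X) = O_2(X) = Q`, the stabilizer of the chain `Q ≥ Φ(Q)` lies
in `Q`. -/
theorem stab_le_pCore [Finite X] (hX : Cfsg.generalizedFittingSubgroup X = Cfsg.pCore 2 X) :
    haveI : (Cfsg.pCore 2 X).Normal := Helper70.pCore_normal 2 X
    stab (Cfsg.pCore 2 X) ≤ Cfsg.pCore 2 X := by
  have : Fact (Nat.Prime 2) := ⟨Nat.prime_two⟩
  have hQn : (Cfsg.pCore 2 X).Normal := Helper70.pCore_normal 2 X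
  have hQ : IsPGroup 2 ↥(Cfsg.pCore 2 X) := Helper70.pCore_isPGroup
  have hp : IsPGroup 2 ↥(stab (Cfsg.pCore 2 X)) := by
    apply isPGroup_of_pprime_eq_one
    intro x hx hodd
    have hz : zpowers x ≤ stab (Cfsg.pCore 2 X) := Subgroup.zpowers_le.mpr hx
    have hcen : zpowers x ≤ centralizer (Cfsg.pCore 2 X : Set X) := by
      apply Cfsg.Agent.S0029.result (zpowers x) (Cfsg.pCore 2 X)
      · rw [Subgroup.normalizer_eq_top]; exact le_top
      · rw [Nat.card_zpowers]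
        obtain ⟨k, hk⟩ := IsPGroup.iff_card.mp (hQ.to_subgroup (frattini ↥(Cfsg.pCore 2 X)))
        rw [hk]
        exact Nat.Coprime.pow_right k hodd
      · intro a ha k hk
        exact hz ha k hk
    have hxQ : x ∈ Cfsg.pCore 2 X :=
      (IsCharP.centralizer_le (p := 2) hX) (hcen (Subgroup.mem_zpowers x))
    obtain ⟨j, hj⟩ := hQ ⟨x, hxQ⟩
    have hj' : x ^ 2 ^ j = 1 := by
      have := congrArg Subtype.val hj
      simpa using this
    have hdvd : orderOf x ∣ 2 ^ j := orderOf_dvd_of_pow_eq_one hj'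
    have hco : (orderOf x).Coprime (2 ^ j) := Nat.Coprime.pow_right j hodd
    have h1 : orderOf x = 1 := Nat.Coprime.eq_one_of_dvd hco hdvd
    exact orderOf_eq_one_iff.mp h1
  exact Helper70.le_pCore _ hp

/-- Let X be a finite group whose generalized Fitting subgroup equals its largest normal 2-subgroup Q, and let A be an abelian 2-subgroup of X such that every conjugate of A equals A or meets A trivially. Let B be the subgroup generated by the squares of the elements of A. Then B lies in Q, and if B is not an elementary abelian 2-group then the normal closure of B in X is commutative. -/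
theorem result {X : Type*} [Group X] [Finite X]
    (hX : Cfsg.generalizedFittingSubgroup X = Cfsg.pCore 2 X) (A : Subgroup X) (hA2 : IsPGroup 2 ↥A) (hAa : IsMulCommutative ↥A)
    (hti : ∀ h : X, A.map (MulAut.conj h).toMonoidHom = A ∨ A.map (MulAut.conj h).toMonoidHom ⊓ A = ⊥) :
    Subgroup.closure ((fun a : X => a ^ 2) '' (A : Set X)) ≤ Cfsg.pCore 2 X ∧
      (¬ Cfsg.IsElementaryAbelian 2 (Subgroup.closure ((fun a : X => a ^ 2) '' (A : Set X))) →
        IsMulCommutative ↥(Subgroup.normalClosure ((fun a : X => a ^ 2) '' (A : Set X)))) := by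
  have : Fact (Nat.Prime 2) := ⟨Nat.prime_two⟩
  have hQn : (Cfsg.pCore 2 X).Normal := Helper70.pCore_normal 2 X
  have hQ : IsPGroup 2 ↥(Cfsg.pCore 2 X) := Helper70.pCore_isPGroup
  set B := Subgroup.closure ((fun a : X => a ^ 2) '' (A : Set X)) with hB
  have hBA : B ≤ A := by
    rw [hB, Subgroup.closure_le]
    rintro _ ⟨a, ha, rfl⟩
    exact A.pow_mem ha 2
  have hBcomm : IsMulCommutative ↥B :=
    ⟨⟨fun a b => Subtype.ext (setLike_mul_comm (hBA a.2) (hBA b.2))⟩⟩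
  -- Part 1
  have part1 : B ≤ Cfsg.pCore 2 X := by
    by_cases hel : ∀ a ∈ A, a ^ 2 = 1
    · rw [hB, Subgroup.closure_le]
      rintro _ ⟨a, ha, rfl⟩
      show a ^ 2 ∈ Cfsg.pCore 2 X
      rw [hel a ha]; exact Subgroup.one_mem _
    · push Not at hel
      obtain ⟨a₀, ha₀, ha₀2⟩ := hel
      -- the 2-group `S = Q A`
      have hS : IsPGroup 2 ↥(Cfsg.pCore 2 X ⊔ A) := IsPGroup.to_sup_of_normal_left hQ hA2
      have hcomm := ti_family_commute (Cfsg.pCore 2 X ⊔ A) hS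
        {D | ∃ s ∈ Cfsg.pCore 2 X ⊔ A, D = A.map (MulAut.conj s).toMonoidHom} ?_ ?_ ?_ ?_ ?_
      · -- Claim*: `a` commutes with `q a⁻¹ q⁻¹`
        have claim : ∀ a ∈ A, ∀ q ∈ Cfsg.pCore 2 X,
            a * (q * a⁻¹ * q⁻¹) = (q * a⁻¹ * q⁻¹) * a := by
          intro a ha q hq
          by_cases hAq : A.map (MulAut.conj q).toMonoidHom = A
          · have h1 : q * a⁻¹ * q⁻¹ ∈ A := by
              rw [← hAq]; exact conj_mem_cj (A.inv_mem ha)
            exact setLike_mul_comm ha h1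
          · apply hcomm A ⟨1, Subgroup.one_mem _, (map_cj_one A).symm⟩
              (A.map (MulAut.conj q).toMonoidHom) ⟨q, le_sup_left (a := Cfsg.pCore 2 X) hq, rfl⟩
              (Ne.symm hAq) a ha
            exact conj_mem_cj (A.inv_mem ha)
        -- squares of `A` stabilize the chain
        have hstab : B ≤ stab (Cfsg.pCore 2 X) := by
          rw [hB, Subgroup.closure_le]
          rintro _ ⟨a, ha, rfl⟩
          show a ^ 2 ∈ stab (Cfsg.pCore 2 X)
          rw [mem_stab]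
          intro q hq
          have hc : a * q * a⁻¹ * q⁻¹ ∈ Cfsg.pCore 2 X :=
            (Cfsg.pCore 2 X).mul_mem (hQn.conj_mem q hq a) ((Cfsg.pCore 2 X).inv_mem hq)
          have hcm : Commute a (q * a⁻¹ * q⁻¹) := claim a ha q hq
          have e : a ^ 2 * q * (a ^ 2)⁻¹ * q⁻¹ = (a * q * a⁻¹ * q⁻¹) ^ 2 := by
            have e1 : a * q * a⁻¹ * q⁻¹ = a * (q * a⁻¹ * q⁻¹) := by group
            have e2 : a ^ 2 * q * (a ^ 2)⁻¹ * q⁻¹ = a ^ 2 * (q * a⁻¹ * q⁻¹) ^ 2 := by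
              rw [pow_two (q * a⁻¹ * q⁻¹)]; group
            rw [e1, e2, hcm.mul_pow]
          rw [e]
          have h1 := pow_prime_mem_frattini hQ (⟨a * q * a⁻¹ * q⁻¹, hc⟩ : ↥(Cfsg.pCore 2 X))
          exact ⟨_, h1, rfl⟩
        exact hstab.trans (stab_le_pCore hX)
      · -- members lie in `S`
        rintro D ⟨s, hs, rfl⟩ x hx
        rw [mem_cj] at hx
        have h1 : s⁻¹ * x * s ∈ Cfsg.pCore 2 X ⊔ A := le_sup_right (a := Cfsg.pCore 2 X) hx
        have e : x = s * (s⁻¹ * x * s) * s⁻¹ := by group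
        rw [e]
        exact Subgroup.mul_mem _ (Subgroup.mul_mem _ hs h1) (Subgroup.inv_mem _ hs)
      · rintro t ht D ⟨s, hs, rfl⟩
        exact ⟨t * s, Subgroup.mul_mem _ ht hs, map_cj_cj A t s⟩
      · rintro D ⟨s, hs, rfl⟩
        refine ⟨s * a₀ * s⁻¹, conj_mem_cj ha₀, ?_⟩
        intro h
        apply ha₀2
        have e : a₀ ^ 2 = s⁻¹ * (s * a₀ * s⁻¹) ^ 2 * s := by
          rw [pow_two (s * a₀ * s⁻¹), pow_two a₀]; group
        rw [e, h]; group
      · rintro D ⟨s, hs, rfl⟩ D' ⟨s', hs', rfl⟩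
        rw [card_map_cj, card_map_cj]
      · rintro D ⟨s, hs, rfl⟩ D' ⟨s', hs', rfl⟩
        exact ti_conj A hti s s'
  refine ⟨part1, ?_⟩
  -- Part 2
  intro hnel
  have hex : ∃ b₀ ∈ B, b₀ ^ 2 ≠ 1 := by
    by_contra hcon
    push Not at hcon
    exact hnel ⟨hBcomm, hcon⟩
  obtain ⟨b₀, hb₀, hb₀2⟩ := hex
  -- conjugates of `B` are determined by conjugates of `A`
  have hBmap : ∀ g : X, B.map (MulAut.conj g).toMonoidHom =
      Subgroup.closure ((fun a : X => a ^ 2) '' ((A.map (MulAut.conj g).toMonoidHom : Subgroup X) : Set X)) := by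
    intro g
    rw [hB, MonoidHom.map_closure, Subgroup.coe_map]
    congr 1
    ext x
    constructor
    · rintro ⟨_, ⟨a, ha, rfl⟩, rfl⟩
      exact ⟨(MulAut.conj g).toMonoidHom a, ⟨a, ha, rfl⟩, (map_pow _ a 2).symm⟩
    · rintro ⟨_, ⟨a, ha, rfl⟩, rfl⟩
      exact ⟨a ^ 2, ⟨a, ha, rfl⟩, map_pow _ a 2⟩
  have hcomm := ti_family_commute (Cfsg.pCore 2 X) hQ
    {D | ∃ g : X, D = B.map (MulAut.conj g).toMonoidHom} ?_ ?_ ?_ ?_ ?_
  · unfold Subgroup.normalClosure
    apply Subgroup.isMulCommutative_closure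
    intro x hx y hy
    rw [Group.mem_conjugatesOfSet_iff] at hx hy
    obtain ⟨_, ⟨a, ha, rfl⟩, hconj⟩ := hx
    obtain ⟨_, ⟨a', ha', rfl⟩, hconj'⟩ := hy
    obtain ⟨g, rfl⟩ := isConj_iff.mp hconj
    obtain ⟨h, rfl⟩ := isConj_iff.mp hconj'
    have haB : a ^ 2 ∈ B := Subgroup.subset_closure ⟨a, ha, rfl⟩
    have haB' : a' ^ 2 ∈ B := Subgroup.subset_closure ⟨a', ha', rfl⟩
    by_cases heq : B.map (MulAut.conj g).toMonoidHom = B.map (MulAut.conj h).toMonoidHom
    · have h1 : g * a ^ 2 * g⁻¹ ∈ B.map (MulAut.conj g).toMonoidHom := conj_mem_cj haB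
      have h2 : h * a' ^ 2 * h⁻¹ ∈ B.map (MulAut.conj g).toMonoidHom := by
        rw [heq]; exact conj_mem_cj haB'
      obtain ⟨b, hb, hb'⟩ := h1
      obtain ⟨c, hc, hc'⟩ := h2
      rw [← hb', ← hc', ← map_mul, ← map_mul,
        setLike_mul_comm (hBA hb) (hBA hc)]
    · exact hcomm _ ⟨g, rfl⟩ _ ⟨h, rfl⟩ heq _ (conj_mem_cj haB) _ (conj_mem_cj haB')
  · rintro D ⟨g, rfl⟩ x hx
    rw [mem_cj] at hx
    have h1 : g⁻¹ * x * g ∈ Cfsg.pCore 2 X := part1 hx
    have e : x = g * (g⁻¹ * x * g) * g⁻¹ := by group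
    rw [e]
    exact hQn.conj_mem _ h1 g
  · rintro t - D ⟨g, rfl⟩
    exact ⟨t * g, map_cj_cj B t g⟩
  · rintro D ⟨g, rfl⟩
    refine ⟨g * b₀ * g⁻¹, conj_mem_cj hb₀, ?_⟩
    intro h
    apply hb₀2
    have e : b₀ ^ 2 = g⁻¹ * (g * b₀ * g⁻¹) ^ 2 * g := by
      rw [pow_two (g * b₀ * g⁻¹), pow_two b₀]; group
    rw [e, h]; group
  · rintro D ⟨g, rfl⟩ D' ⟨g', rfl⟩
    rw [card_map_cj, card_map_cj]
  · rintro D ⟨g, rfl⟩ D' ⟨g', rfl⟩
    rcases ti_conj A hti g g' with h1 | h1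
    · left
      rw [hBmap, hBmap, h1]
    · right
      rw [eq_bot_iff, ← h1]
      exact inf_le_inf (Subgroup.map_mono hBA) (Subgroup.map_mono hBA)

end Cfsg.Agent.S1783
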