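import Cfsg.Statements.S1784
import Cfsg.Agent.Lib.Helper89.FStarES

set_option autoImplicit false
open Cfsg

namespace Cfsg.Agent.S1784

/-- Let G be a finite group and let z be an involution of G such that Q, the generalized Fitting subgroup of the centralizer C of z, is a 2-group of symplectic type (every characteristic abelian subgroup of Q is cyclic); suppose Q is extraspecial, and view Q inside G. Let α be an involution of C that is not in Q, and let Q₀ be the subgroup of those q ∈ Q whose commutator with α lies in the subgroup generated by z. Then (a) the subgroup generated by the commutators α q α⁻¹ q⁻¹, q ∈ Q, equals the centre of Q₀; and (b) if Q₀ is not contained in the product of the centralizer of α in Q with the subgroup generated by z, then some element of Q conjugates α to α z. -/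
theorem result {G : Type*} [Group G] [Finite G] (z : G) (hz : orderOf z = 2) (hQ : Cfsg.IsOfSymplecticType ↥(Cfsg.generalizedFittingSubgroup ↥(Subgroup.centralizer ({z} : Set G)))) (hE : Cfsg.IsExtraspecial 2 ↥(Cfsg.generalizedFittingSubgroup ↥(Subgroup.centralizer ({z} : Set G))))
    (α : G) (hα : orderOf α = 2) (hαC : α ∈ Subgroup.centralizer ({z} : Set G)) (hαQ : α ∉ (Cfsg.generalizedFittingSubgroup ↥(Subgroup.centralizer ({z} : Set G))).map (Subgroup.centralizer ({z} : Set G)).subtype)
    (Q₀ : Subgroup G) (hQ₀ : ∀ q : G, q ∈ Q₀ ↔ (q ∈ (Cfsg.generalizedFittingSubgroup ↥(Subgroup.centralizer ({z} : Set G))).map (Subgroup.centralizer ({z} : Set G)).subtype ∧ α * q * α⁻¹ * q⁻¹ ∈ Subgroup.zpowers z)) :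
    Subgroup.closure ((fun q : G => α * q * α⁻¹ * q⁻¹) '' ((Cfsg.generalizedFittingSubgroup ↥(Subgroup.centralizer ({z} : Set G))).map (Subgroup.centralizer ({z} : Set G)).subtype : Set G)) = (Subgroup.center ↥Q₀).map Q₀.subtype ∧
      (¬ Q₀ ≤ ((Cfsg.generalizedFittingSubgroup ↥(Subgroup.centralizer ({z} : Set G))).map (Subgroup.centralizer ({z} : Set G)).subtype ⊓ Subgroup.centralizer ({α} : Set G)) ⊔ Subgroup.zpowers z →
        ∃ q ∈ (Cfsg.generalizedFittingSubgroup ↥(Subgroup.centralizer ({z} : Set G))).map (Subgroup.centralizer ({z} : Set G)).subtype, q * α * q⁻¹ = α * z) := by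
  open Cfsg.Agent.Helper89 in
  obtain ⟨z', hES, hQC, hnormC, hselfC⟩ := fstar_setting (Subgroup.centralizer ({z} : Set G)) hE
  set Q := (Cfsg.generalizedFittingSubgroup ↥(Subgroup.centralizer ({z} : Set G))).map
    (Subgroup.centralizer ({z} : Set G)).subtype with hQdef
  have hz1 : z ≠ 1 := by
    intro e
    rw [e, orderOf_one] at hz
    norm_num at hz
  have hzz : z * z = 1 := by
    rw [← pow_two, ← hz]; exact pow_orderOf_eq_one z
  have hzC : z ∈ Subgroup.centralizer ({z} : Set G) :=
    Subgroup.mem_centralizer_singleton_iff.mpr rfl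
  have hzcomm : ∀ q ∈ Q, z * q = q * z := by
    intro q hq
    exact (Subgroup.mem_centralizer_singleton_iff.mp (hQC hq)).symm
  have hzQ : z ∈ Q := hselfC z hzC hzcomm
  have hzz' : z = z' := by
    rcases hES.cent z hzQ hzcomm with e | e
    · exact absurd e hz1
    · exact e
  subst hzz'
  have hα2 : α * α = 1 := by
    rw [← pow_two, ← hα]; exact pow_orderOf_eq_one α
  have hnorm : ∀ q ∈ Q, α * q * α⁻¹ ∈ Q := hnormC α hαC
  have hnt : ∃ q ∈ Q, α * q * α⁻¹ * q⁻¹ ≠ 1 := by
    by_contra hcon
    push Not at hcon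
    apply hαQ
    apply hselfC α hαC
    intro q hq
    exact Cfsg.Agent.Helper89.comm_of_commutator_eq_one (hcon q hq)
  refine ⟨hES.commutator_involution α hα2 hnorm hnt Q₀ hQ₀, ?_⟩
  intro hnle
  obtain ⟨q, hq0, hqn⟩ := SetLike.not_le_iff_exists.mp hnle
  obtain ⟨hqQ, hqz⟩ := (hQ₀ q).mp hq0
  refine ⟨q, hqQ, ?_⟩
  rcases Cfsg.Agent.Helper89.mem_zpowers_of_sq hzz hqz with e | e
  · exfalso
    apply hqn
    apply Subgroup.mem_sup_left
    refine ⟨hqQ, ?_⟩
    show q ∈ Subgroup.centralizer ({α} : Set G)
    rw [Subgroup.mem_centralizer_singleton_iff]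
    exact (Cfsg.Agent.Helper89.comm_of_commutator_eq_one e).symm
  · have e1 : α * q * α⁻¹ = z * q := Cfsg.Agent.Helper89.conj_eq_of_commutator_eq e
    have hαz : α * z = z * α := (Subgroup.mem_centralizer_singleton_iff.mp hαC)
    have hzinv : z⁻¹ = z := inv_eq_of_mul_eq_one_left hzz
    have e2 : α * q = z * q * α := by
      calc α * q = (α * q * α⁻¹) * α := by group
        _ = z * q * α := by rw [e1]
    calc q * α * q⁻¹ = z⁻¹ * (z * q * α) * q⁻¹ := by group
      _ = z⁻¹ * (α * q) * q⁻¹ := by rw [e2]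
      _ = z * α := by rw [hzinv]; group
      _ = α * z := hαz.symm

end Cfsg.Agent.S1784
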