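import Cfsg.Statements.S1785
import Mathlib

set_option autoImplicit false
open Cfsg

namespace Cfsg.Agent.S1785

section helpers

variable {X : Type*} [Group X]

theorem elemAb_iff {A : Subgroup X} :
    IsElementaryAbelian 2 A ↔ A ≤ Subgroup.centralizer (A : Set X) ∧ ∀ a ∈ A, a ^ 2 = 1 := by
  unfold IsElementaryAbelian
  rw [Subgroup.le_centralizer_iff_isMulCommutative]

theorem elemAb_mono {A B : Subgroup X} (hB : IsElementaryAbelian 2 B) (h : A ≤ B) :
    IsElementaryAbelian 2 A := by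
  rw [elemAb_iff] at *
  exact ⟨fun x hx => Subgroup.centralizer_le (SetLike.coe_subset_coe.mpr h) (hB.1 (h hx)),
    fun a ha => hB.2 a (h ha)⟩

theorem elemAb_comm {A : Subgroup X} (hA : IsElementaryAbelian 2 A) {a b : X} (ha : a ∈ A)
    (hb : b ∈ A) : a * b = b * a := by
  rw [elemAb_iff] at hA
  exact (hA.1 hb a ha)

theorem elemAb_sup {A B : Subgroup X} (hA : IsElementaryAbelian 2 A) (hB : IsElementaryAbelian 2 B)
    (hAB : A ≤ Subgroup.centralizer (B : Set X)) : IsElementaryAbelian 2 (A ⊔ B) := by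
  rw [elemAb_iff] at *
  have hBA : B ≤ Subgroup.centralizer (A : Set X) := Subgroup.le_centralizer_iff.mp hAB
  have h1 : A ⊔ B ≤ Subgroup.centralizer (A : Set X) := sup_le hA.1 hBA
  have h2 : A ⊔ B ≤ Subgroup.centralizer (B : Set X) := sup_le hAB hB.1
  have h3 : A ⊔ B ≤ Subgroup.centralizer ((A ⊔ B : Subgroup X) : Set X) :=
    sup_le (Subgroup.le_centralizer_iff.mp h1) (Subgroup.le_centralizer_iff.mp h2)
  refine ⟨h3, ?_⟩
  let S : Subgroup X :=
    { carrier := {x | x ∈ A ⊔ B ∧ x ^ 2 = 1}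
      mul_mem' := by
        rintro x y ⟨hx, hx2⟩ ⟨hy, hy2⟩
        refine ⟨mul_mem hx hy, ?_⟩
        have hc : x * y = y * x := (h3 hy x hx)
        have : (x * y) ^ 2 = x ^ 2 * y ^ 2 := by
          rw [pow_two, pow_two, pow_two]
          calc x * y * (x * y) = x * (y * x) * y := by group
            _ = x * (x * y) * y := by rw [hc]
            _ = x * x * (y * y) := by group
        rw [this, hx2, hy2, mul_one]
      one_mem' := ⟨one_mem _, one_pow 2⟩
      inv_mem' := by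
        rintro x ⟨hx, hx2⟩
        exact ⟨inv_mem hx, by rw [inv_pow, hx2, inv_one]⟩ }
  have hAS : A ≤ S := fun a ha => ⟨Subgroup.mem_sup_left ha, hA.2 a ha⟩
  have hBS : B ≤ S := fun b hb => ⟨Subgroup.mem_sup_right hb, hB.2 b hb⟩
  intro x hx
  exact (sup_le hAS hBS hx).2

/-- Conjugation by an element of the normalizer, as an automorphism of the subgroup. -/
def conjAut (B : Subgroup X) (d : X) (hd : d ∈ Subgroup.normalizer (B : Set X)) : MulAut ↥B where
  toFun b := ⟨d * b * d⁻¹, (Subgroup.mem_normalizer_iff.mp hd b).mp b.2⟩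
  invFun b := ⟨d⁻¹ * b * d, (Subgroup.mem_normalizer_iff''.mp hd b).mp b.2⟩
  left_inv b := by
    apply Subtype.ext
    simp [mul_assoc]
  right_inv b := by
    apply Subtype.ext
    simp [mul_assoc]
  map_mul' x y := by
    apply Subtype.ext
    simp [mul_assoc]

/-- Key counting lemma: an involution normalizing an elementary abelian 2-group `W` fixes at least
`sqrt |W|` elements. -/
theorem card_le_sq_fixed [Finite X] (W : Subgroup X) (hW : IsElementaryAbelian 2 W) (a : X)
    (ha2 : a ^ 2 = 1) (haW : a ∈ Subgroup.normalizer (W : Set X)) :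
    Nat.card ↥W ≤ Nat.card ↥(W ⊓ Subgroup.centralizer ({a} : Set X)) ^ 2 := by
  have hWc := hW.1
  letI : CommGroup ↥W := { (inferInstance : Group ↥W) with mul_comm := mul_comm' }
  let t : MulAut ↥W := conjAut W a haW
  let φ : ↥W →* ↥W := (MonoidHom.id ↥W) * t.toMonoidHom
  have hφ : ∀ w : ↥W, ((φ w : ↥W) : X) = w * (a * w * a⁻¹) := fun w => rfl
  have hainv : a⁻¹ = a := by
    have : a * a = 1 := by rw [← pow_two]; exact ha2
    exact inv_eq_of_mul_eq_one_left this
  set C : Subgroup X := W ⊓ Subgroup.centralizer ({a} : Set X) with hC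
  -- kernel lies in C
  have hker : (φ.ker).map W.subtype ≤ C := by
    rintro x ⟨w, hw, rfl⟩
    refine Subgroup.mem_inf.mpr ⟨w.2, ?_⟩
    rw [Subgroup.mem_centralizer_singleton_iff]
    have h1 : (w : X) * (a * w * a⁻¹) = 1 := by
      have := congrArg Subtype.val (MonoidHom.mem_ker.mp hw)
      rw [hφ] at this
      exact this
    have hw2 : (w : X) * w = 1 := by rw [← pow_two]; exact hW.2 w w.2
    have h2 : a * w * a⁻¹ = w := by
      have : (w : X) * (a * w * a⁻¹) = w * w := by rw [h1, hw2]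
      exact mul_left_cancel this
    show (w : X) * a = a * w
    symm
    calc a * (w : X) = (a * w * a⁻¹) * a := by group
      _ = w * a := by rw [h2]
  -- range lies in C
  have hrange : (φ.range).map W.subtype ≤ C := by
    rintro x ⟨y, ⟨w, rfl⟩, rfl⟩
    refine Subgroup.mem_inf.mpr ⟨(φ w).2, ?_⟩
    rw [Subgroup.mem_centralizer_singleton_iff]
    show ((φ w : ↥W) : X) * a = a * (φ w : ↥W)
    symm
    rw [hφ]
    have hcomm : (w : X) * (a * w * a⁻¹) = (a * w * a⁻¹) * w :=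
      elemAb_comm hW w.2 ((Subgroup.mem_normalizer_iff.mp haW w).mp w.2)
    have haa : a * a = 1 := by rw [← pow_two]; exact ha2
    rw [hainv]
    calc a * ((w : X) * (a * w * a)) = (a * w * a) * (a * a) * w * (a * a) * a := by
          rw [haa]; group
      _ = (a * w * a) * w * a := by rw [haa]; group
      _ = (w : X) * (a * w * a) * a := by
          rw [hainv] at hcomm
          rw [hcomm]
  have hcard : Nat.card ↥W = Nat.card φ.ker * Nat.card φ.range := by
    rw [Subgroup.card_eq_card_quotient_mul_card_subgroup φ.ker, mul_comm]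
    congr 1
    exact Nat.card_congr (QuotientGroup.quotientKerEquivRange φ).toEquiv
  have h1 : Nat.card φ.ker ≤ Nat.card ↥C := by
    rw [← Subgroup.card_map_of_injective (K := φ.ker) W.subtype_injective]
    exact Subgroup.card_le_of_le hker
  have h2 : Nat.card φ.range ≤ Nat.card ↥C := by
    rw [← Subgroup.card_map_of_injective (K := φ.range) W.subtype_injective]
    exact Subgroup.card_le_of_le hrange
  rw [hcard, pow_two]
  exact Nat.mul_le_mul h1 h2

/-- `C_E(S)` -/
def cE (E S : Subgroup X) : Subgroup X := E ⊓ Subgroup.centralizer (S : Set X)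

theorem cE_le (E S : Subgroup X) : cE E S ≤ E := inf_le_left

theorem cE_le_centralizer (E S : Subgroup X) : cE E S ≤ Subgroup.centralizer (S : Set X) := inf_le_right

theorem cE_eq_of_le {E S : Subgroup X} (hE : IsElementaryAbelian 2 E) (h : S ≤ E) : cE E S = E := by
  apply le_antisymm inf_le_left
  apply le_inf le_rfl
  rw [elemAb_iff] at hE
  exact hE.1.trans (Subgroup.centralizer_le (SetLike.coe_subset_coe.mpr h))

theorem card_sup_dvd_of_commute (H K : Subgroup X) (h : H ≤ Subgroup.centralizer (K : Set X)) :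
    Nat.card ↥(H ⊔ K) ∣ Nat.card ↥H * Nat.card ↥K := by
  have hc : ∀ (m : ↥H) (n : ↥K), Commute (H.subtype m) (K.subtype n) := by
    intro m n
    exact (h m.2 n n.2).symm
  let f : ↥H × ↥K →* X := MonoidHom.noncommCoprod H.subtype K.subtype hc
  have hr : f.range = H ⊔ K := by
    rw [MonoidHom.noncommCoprod_range, Subgroup.range_subtype, Subgroup.range_subtype]
  rw [← hr, ← Nat.card_prod]
  exact Subgroup.card_range_dvd f

theorem step_cE [Finite X] (E : Subgroup X) [hEn : E.Normal] (hE : IsElementaryAbelian 2 E)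
    (A : Subgroup X) (hA : IsElementaryAbelian 2 A) (S : Subgroup X) (hS : S ≤ A) (a : X) (ha : a ∈ A) :
    Nat.card ↥(cE E S) ≤ Nat.card ↥(cE E (S ⊔ Subgroup.zpowers a)) ^ 2 := by
  have hW : IsElementaryAbelian 2 (cE E S) := elemAb_mono hE (cE_le E S)
  have ha2 : a ^ 2 = 1 := hA.2 a ha
  have haS : ∀ s ∈ S, a * s = s * a := fun s hs => elemAb_comm hA ha (hS hs)
  have haN : a ∈ Subgroup.normalizer ((cE E S : Subgroup X) : Set X) := by
    have hconj : ∀ b : X, (∀ s ∈ S, b * s = s * b) → ∀ x ∈ cE E S, b * x * b⁻¹ ∈ cE E S := by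
      intro b hb x hx
      refine Subgroup.mem_inf.mpr ⟨hEn.conj_mem x (Subgroup.mem_inf.mp hx).1 b, ?_⟩
      rw [Subgroup.mem_centralizer_iff]
      intro s hs
      have hxs : s * x = x * s := (Subgroup.mem_centralizer_iff.mp (Subgroup.mem_inf.mp hx).2) s hs
      have hbs : b * s = s * b := hb s hs
      have hbs' : b⁻¹ * s = s * b⁻¹ := by
        have : s = b⁻¹ * (b * s) := by group
        calc b⁻¹ * s = b⁻¹ * s * b * b⁻¹ := by group
          _ = b⁻¹ * (s * b) * b⁻¹ := by group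
          _ = b⁻¹ * (b * s) * b⁻¹ := by rw [hbs]
          _ = s * b⁻¹ := by group
      calc s * (b * x * b⁻¹) = (s * b) * x * b⁻¹ := by group
        _ = (b * s) * x * b⁻¹ := by rw [hbs]
        _ = b * (s * x) * b⁻¹ := by group
        _ = b * (x * s) * b⁻¹ := by rw [hxs]
        _ = b * x * (s * b⁻¹) := by group
        _ = b * x * (b⁻¹ * s) := by rw [hbs']
        _ = b * x * b⁻¹ * s := by group
    rw [Subgroup.mem_normalizer_iff]
    intro x
    constructor
    · exact hconj a haS x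
    · intro hx
      have hainvS : ∀ s ∈ S, a⁻¹ * s = s * a⁻¹ := by
        intro s hs
        have := haS s hs
        calc a⁻¹ * s = a⁻¹ * (s * a) * a⁻¹ := by group
          _ = a⁻¹ * (a * s) * a⁻¹ := by rw [this]
          _ = s * a⁻¹ := by group
      have := hconj a⁻¹ hainvS _ hx
      have e : a⁻¹ * (a * x * a⁻¹) * a⁻¹⁻¹ = x := by group
      rw [e] at this
      exact this
  have h1 := card_le_sq_fixed (cE E S) hW a ha2 haN
  have hle : cE E S ⊓ Subgroup.centralizer ({a} : Set X) ≤ cE E (S ⊔ Subgroup.zpowers a) := by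
    intro x hx
    have hx1 := (Subgroup.mem_inf.mp hx).1
    have hx2 := (Subgroup.mem_inf.mp hx).2
    refine Subgroup.mem_inf.mpr ⟨(Subgroup.mem_inf.mp hx1).1, ?_⟩
    have hsup : S ⊔ Subgroup.zpowers a ≤ Subgroup.centralizer ({x} : Set X) := by
      apply sup_le
      · intro s hs
        rw [Subgroup.mem_centralizer_singleton_iff]
        exact ((Subgroup.mem_centralizer_iff.mp (Subgroup.mem_inf.mp hx1).2) s hs)
      · rw [Subgroup.zpowers_le, Subgroup.mem_centralizer_singleton_iff]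
        exact ((Subgroup.mem_centralizer_singleton_iff.mp hx2)).symm
    rw [Subgroup.mem_centralizer_iff]
    intro y hy
    exact ((Subgroup.mem_centralizer_singleton_iff.mp (hsup hy)))
  calc Nat.card ↥(cE E S) ≤ Nat.card ↥(cE E S ⊓ Subgroup.centralizer ({a} : Set X)) ^ 2 := h1
    _ ≤ Nat.card ↥(cE E (S ⊔ Subgroup.zpowers a)) ^ 2 :=
        Nat.pow_le_pow_left (Subgroup.card_le_of_le hle) 2

theorem chain_cE [Finite X] (E : Subgroup X) [hEn : E.Normal] (hE : IsElementaryAbelian 2 E)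
    (A : Subgroup X) (hA : IsElementaryAbelian 2 A) :
    ∀ (n : ℕ) (S : Subgroup X), S ≤ A → Nat.card ↥A ≤ 2 ^ n * Nat.card ↥S →
      Nat.card ↥(cE E S) ≤ Nat.card ↥(cE E A) ^ (2 ^ n) := by
  intro n
  induction n with
  | zero =>
    intro S hS hcard
    have : S = A := Subgroup.eq_of_le_of_card_ge hS (by simpa using hcard)
    rw [this]; simp
  | succ n ih =>
    intro S hS hcard
    by_cases hSA : S = A
    · rw [hSA]
      exact Nat.le_self_pow (by positivity) _
    · have hlt : S < A := lt_of_le_of_ne hS hSA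
      obtain ⟨a, haA, haS⟩ := SetLike.exists_of_lt hlt
      set S' := S ⊔ Subgroup.zpowers a with hS'
      have hS'A : S' ≤ A := sup_le hS (by rw [Subgroup.zpowers_le]; exact haA)
      have hSS' : S ≤ S' := le_sup_left
      have hne : S ≠ S' := by
        intro h
        apply haS
        rw [h]
        exact Subgroup.mem_sup_right (Subgroup.mem_zpowers a)
      have hdvd : Nat.card ↥S ∣ Nat.card ↥S' := Subgroup.card_dvd_of_le hSS'
      have hne' : Nat.card ↥S' ≠ Nat.card ↥S := by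
        intro h
        exact hne (Subgroup.eq_of_le_of_card_ge hSS' (le_of_eq h))
      have h2 : 2 * Nat.card ↥S ≤ Nat.card ↥S' := by
        obtain ⟨k, hk⟩ := hdvd
        have hpos : 0 < Nat.card ↥S' := Nat.card_pos
        have hposS : 0 < Nat.card ↥S := Nat.card_pos
        rcases k with _ | _ | k
        · simp at hk; omega
        · simp at hk; omega
        · rw [hk]; nlinarith
      have h3 : Nat.card ↥A ≤ 2 ^ n * Nat.card ↥S' := by
        calc Nat.card ↥A ≤ 2 ^ (n + 1) * Nat.card ↥S := hcard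
          _ = 2 ^ n * (2 * Nat.card ↥S) := by ring
          _ ≤ 2 ^ n * Nat.card ↥S' := Nat.mul_le_mul_left _ h2
      have h4 := ih S' hS'A h3
      have h5 := step_cE E hE A hA S hS a haA
      calc Nat.card ↥(cE E S) ≤ Nat.card ↥(cE E S') ^ 2 := h5
        _ ≤ (Nat.card ↥(cE E A) ^ (2 ^ n)) ^ 2 := Nat.pow_le_pow_left h4 2
        _ = Nat.card ↥(cE E A) ^ (2 ^ (n + 1)) := by rw [← pow_mul, pow_succ]

theorem card_pow_two [Finite X] (hX : IsPGroup 2 X) (H : Subgroup X) : ∃ n : ℕ, Nat.card ↥H = 2 ^ n := by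
  haveI : Fact (Nat.Prime 2) := ⟨Nat.prime_two⟩
  exact (hX.to_subgroup H).exists_card_eq

theorem exists_between [Finite X] {T V : Subgroup X} (hVT : V ≤ T) {n m : ℕ}
    (hV : Nat.card ↥V = 2 ^ n) (hnm : n ≤ m) (hT : 2 ^ m ∣ Nat.card ↥T) :
    ∃ A : Subgroup X, V ≤ A ∧ A ≤ T ∧ Nat.card ↥A = 2 ^ m := by
  haveI : Fact (Nat.Prime 2) := ⟨Nat.prime_two⟩
  have hH : Nat.card ↥(V.subgroupOf T) = 2 ^ n := by
    rw [← hV]
    exact Nat.card_congr (Subgroup.subgroupOfEquivOfLe hVT).toEquiv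
  obtain ⟨K, hK, hHK⟩ := Sylow.exists_subgroup_card_pow_prime_le 2 hT (V.subgroupOf T) hH hnm
  refine ⟨K.map T.subtype, ?_, ?_, ?_⟩
  · intro v hv
    exact ⟨⟨v, hVT hv⟩, hHK (Subgroup.mem_subgroupOf.mpr hv), rfl⟩
  · rintro x ⟨y, _, rfl⟩
    exact y.2
  · rw [Subgroup.card_map_of_injective T.subtype_injective, hK]

theorem cE_bound [Finite X] (hX : IsPGroup 2 X) (E : Subgroup X) [hEn : E.Normal]
    (hE : IsElementaryAbelian 2 E) (hE32 : 32 ≤ Nat.card ↥E)
    (A : Subgroup X) (hA : IsElementaryAbelian 2 A) :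
    ∃ j c n : ℕ, Nat.card ↥(A ⊓ E) = 2 ^ j ∧ Nat.card ↥A = 2 ^ (n + j) ∧
      Nat.card ↥(cE E A) = 2 ^ c ∧ 5 ≤ c * 2 ^ n := by
  obtain ⟨j, hj⟩ := card_pow_two hX (A ⊓ E)
  obtain ⟨m, hm⟩ := card_pow_two hX A
  obtain ⟨c, hc⟩ := card_pow_two hX (cE E A)
  have hjm : j ≤ m := by
    have := Subgroup.card_dvd_of_le (inf_le_left : A ⊓ E ≤ A)
    rw [hj, hm] at this
    exact (Nat.pow_dvd_pow_iff_le_right (by norm_num)).mp this
  refine ⟨j, c, m - j, hj, by rw [hm]; congr 1; omega, hc, ?_⟩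
  have hcard : Nat.card ↥A ≤ 2 ^ (m - j) * Nat.card ↥(A ⊓ E) := by
    rw [hm, hj, ← pow_add]
    apply le_of_eq; congr 1; omega
  have h1 := chain_cE E hE A hA (m - j) (A ⊓ E) inf_le_left hcard
  rw [cE_eq_of_le hE inf_le_right, hc, ← pow_mul] at h1
  have h2 : 2 ^ 5 ≤ 2 ^ (c * 2 ^ (m - j)) := le_trans (by norm_num; exact hE32) h1
  exact (Nat.pow_le_pow_iff_right (by norm_num)).mp h2

theorem part_b [Finite X] (hX : IsPGroup 2 X) (E : Subgroup X) [hEn : E.Normal]
    (hE : IsElementaryAbelian 2 E) (hE32 : 32 ≤ Nat.card ↥E)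
    (V : Subgroup X) (hV : IsElementaryAbelian 2 V) (hV4 : Nat.card ↥V = 4) :
    ∃ A : Subgroup X, V ≤ A ∧ IsElementaryAbelian 2 A ∧ Nat.card ↥A = 8 := by
  obtain ⟨j, c, n, hj, hm, hc, h5⟩ := cE_bound hX E hE hE32 V hV
  have hnj : n + j = 2 := by
    rw [hV4] at hm
    have : (2 : ℕ) ^ 2 = 2 ^ (n + j) := by rw [← hm]; norm_num
    exact ((Nat.pow_right_injective (le_refl 2)) this).symm
  have hc2 : 2 ≤ c := by
    have hn : n ≤ 2 := by omega
    interval_cases n <;> omega
  set C := cE E V with hC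
  have hCE : IsElementaryAbelian 2 C := elemAb_mono hE (cE_le E V)
  have hVC : V ≤ Subgroup.centralizer (C : Set X) :=
    Subgroup.le_centralizer_iff.mp (cE_le_centralizer E V)
  set T := V ⊔ C with hT
  have hTE : IsElementaryAbelian 2 T := elemAb_sup hV hCE hVC
  obtain ⟨t, ht⟩ := card_pow_two hX T
  have ht3 : 3 ≤ t := by
    by_contra hlt
    push Not at hlt
    have hle : Nat.card ↥T ≤ Nat.card ↥V := by
      rw [ht, hV4]
      calc 2 ^ t ≤ 2 ^ 2 := Nat.pow_le_pow_right (by norm_num) (by omega)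
        _ = 4 := by norm_num
    have hVT : V = T := Subgroup.eq_of_le_of_card_ge le_sup_left hle
    have hCV : C ≤ V := by rw [hVT]; exact le_sup_right
    have hC4 : 4 ≤ Nat.card ↥C := by
      rw [hc]
      calc 4 = 2 ^ 2 := by norm_num
        _ ≤ 2 ^ c := Nat.pow_le_pow_right (by norm_num) hc2
    have hCeqV : C = V := Subgroup.eq_of_le_of_card_ge hCV (by rw [hV4]; exact hC4)
    have hVE : V ≤ E := by rw [← hCeqV]; exact cE_le E V
    have : C = E := cE_eq_of_le hE hVE
    have h32 : 32 ≤ Nat.card ↥V := by rw [← hCeqV, this]; exact hE32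
    omega
  have hdvd : 2 ^ 3 ∣ Nat.card ↥T := by
    rw [ht]; exact pow_dvd_pow 2 ht3
  obtain ⟨A, hVA, hAT, hA8⟩ := exists_between (le_sup_left : V ≤ T) (n := 2) (m := 3)
    (by rw [hV4]; norm_num) (by norm_num) hdvd
  exact ⟨A, hVA, elemAb_mono hTE hAT, by rw [hA8]; norm_num⟩

theorem step_a [Finite X] (hX : IsPGroup 2 X) (E : Subgroup X) [hEn : E.Normal]
    (hE : IsElementaryAbelian 2 E) (hE32 : 32 ≤ Nat.card ↥E)
    (A : Subgroup X) (hA : IsElementaryAbelian 2 A) (hA8 : Nat.card ↥A = 8) (hAE : ¬ A ≤ E) :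
    ∃ A₁ : Subgroup X, IsElementaryAbelian 2 A₁ ∧ Nat.card ↥A₁ = 8 ∧
      A ≤ Subgroup.centralizer (A₁ : Set X) ∧ Nat.card ↥(A ⊓ E) < Nat.card ↥(A₁ ⊓ E) := by
  obtain ⟨j, c, n, hj, hm, hc, h5⟩ := cE_bound hX E hE hE32 A hA
  have hnj : n + j = 3 := by
    rw [hA8] at hm
    have : (2 : ℕ) ^ 3 = 2 ^ (n + j) := by rw [← hm]; norm_num
    exact ((Nat.pow_right_injective (le_refl 2)) this).symm
  have hj3 : j ≠ 3 := by
    intro h
    apply hAE
    have : A ⊓ E = A := Subgroup.eq_of_le_of_card_ge inf_le_left (by rw [hj, hA8, h]; norm_num)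
    rw [← this]; exact inf_le_right
  have hcj : j < c := by
    have hn : n ≤ 3 := by omega
    interval_cases n <;> omega
  -- an element of C_E(A) outside A
  have hz : ∃ z ∈ cE E A, z ∉ A := by
    by_contra hcon
    push Not at hcon
    have hle : cE E A ≤ A ⊓ E := fun z hz => Subgroup.mem_inf.mpr ⟨hcon z hz, cE_le E A hz⟩
    have := Subgroup.card_le_of_le hle
    rw [hc, hj] at this
    have := (Nat.pow_le_pow_iff_right (by norm_num : 1 < 2)).mp this
    omega
  obtain ⟨z, hzC, hzA⟩ := hz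
  have hzE : z ∈ E := cE_le E A hzC
  have hzcent : z ∈ Subgroup.centralizer (A : Set X) := cE_le_centralizer E A hzC
  have hz2 : z ^ 2 = 1 := hE.2 z hzE
  have hz1 : z ≠ 1 := fun h => hzA (h ▸ one_mem A)
  set Z := Subgroup.zpowers z with hZ
  have hZE : Z ≤ E := by rw [hZ, Subgroup.zpowers_le]; exact hzE
  have hZel : IsElementaryAbelian 2 Z := elemAb_mono hE hZE
  have hZA : Z ≤ Subgroup.centralizer (A : Set X) := by rw [hZ, Subgroup.zpowers_le]; exact hzcent
  have hAZ : A ≤ Subgroup.centralizer (Z : Set X) := Subgroup.le_centralizer_iff.mp hZA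
  set T := A ⊔ Z with hT
  have hTel : IsElementaryAbelian 2 T := elemAb_sup hA hZel hAZ
  set D := A ⊓ E with hD
  set D' := D ⊔ Z with hD'
  have hD'E : D' ≤ E := sup_le inf_le_right hZE
  have hD'T : D' ≤ T := sup_le_sup_right inf_le_left Z
  have hZcard : Nat.card ↥Z = 2 := by
    rw [hZ, Nat.card_zpowers]
    exact orderOf_eq_prime hz2 hz1
  have hDZ : D ≤ Subgroup.centralizer (Z : Set X) := inf_le_left.trans hAZ
  have hdvd1 : Nat.card ↥D' ∣ 2 ^ (j + 1) := by
    have := card_sup_dvd_of_commute D Z hDZ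
    rw [hZcard, hj] at this
    rw [pow_succ]; exact this
  obtain ⟨j', hj'⟩ := card_pow_two hX D'
  have hjj' : j ≤ j' := by
    have := Subgroup.card_dvd_of_le (le_sup_left : D ≤ D')
    rw [hj, hj'] at this
    exact (Nat.pow_dvd_pow_iff_le_right (by norm_num)).mp this
  have hj'le : j' ≤ j + 1 := by
    rw [hj'] at hdvd1
    exact (Nat.pow_dvd_pow_iff_le_right (by norm_num)).mp hdvd1
  have hj'ne : j' ≠ j := by
    intro h
    have : D = D' := Subgroup.eq_of_le_of_card_ge le_sup_left (by rw [hj, hj', h])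
    apply hzA
    have hzD' : z ∈ D' := Subgroup.mem_sup_right (Subgroup.mem_zpowers z)
    rw [← this] at hzD'
    exact (Subgroup.mem_inf.mp hzD').1
  have hj'eq : j' = j + 1 := by omega
  have hdvdT : 2 ^ 3 ∣ Nat.card ↥T := by
    have := Subgroup.card_dvd_of_le (le_sup_left : A ≤ T)
    rw [hA8] at this
    exact this
  obtain ⟨A₁, hD'A₁, hA₁T, hA₁8⟩ := exists_between hD'T (n := j') (m := 3) hj' (by omega) hdvdT
  refine ⟨A₁, elemAb_mono hTel hA₁T, by rw [hA₁8]; norm_num, ?_, ?_⟩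
  · have hTT : T ≤ Subgroup.centralizer (T : Set X) := (elemAb_iff.mp hTel).1
    exact (le_sup_left : A ≤ T).trans (hTT.trans (Subgroup.centralizer_le (SetLike.coe_subset_coe.mpr hA₁T)))
  · have hle : D' ≤ A₁ ⊓ E := le_inf hD'A₁ hD'E
    have := Subgroup.card_le_of_le hle
    rw [hj'] at this
    rw [hj]
    calc 2 ^ j < 2 ^ j' := Nat.pow_lt_pow_right (by norm_num) (by omega)
      _ ≤ _ := this

/-- The adjacency relation of the statement. -/
def Adj (C D : Subgroup X) : Prop :=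
  Cfsg.IsElementaryAbelian 2 C ∧ Nat.card ↥C = 8 ∧ Cfsg.IsElementaryAbelian 2 D ∧ Nat.card ↥D = 8 ∧ ⁅C, D⁆ = ⊥

instance adj_symm : Std.Symm (Adj (X := X)) where
  symm := by
    rintro C D ⟨h1, h2, h3, h4, h5⟩
    exact ⟨h3, h4, h1, h2, by rw [Subgroup.commutator_comm]; exact h5⟩

theorem reach [Finite X] (hX : IsPGroup 2 X) (E : Subgroup X) [hEn : E.Normal]
    (hE : IsElementaryAbelian 2 E) (hE32 : 32 ≤ Nat.card ↥E) :
    ∀ (n : ℕ) (A : Subgroup X), IsElementaryAbelian 2 A → Nat.card ↥A = 8 →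
      8 ≤ Nat.card ↥(A ⊓ E) + n →
      ∃ A' : Subgroup X, IsElementaryAbelian 2 A' ∧ Nat.card ↥A' = 8 ∧ A' ≤ E ∧
        Relation.ReflTransGen Adj A A' := by
  intro n
  induction n with
  | zero =>
    intro A hA hA8 h
    have : A ⊓ E = A := Subgroup.eq_of_le_of_card_ge inf_le_left (by rw [hA8]; simpa using h)
    exact ⟨A, hA, hA8, by rw [← this]; exact inf_le_right, Relation.ReflTransGen.refl⟩
  | succ n ih =>
    intro A hA hA8 h
    by_cases hAE : A ≤ E
    · exact ⟨A, hA, hA8, hAE, Relation.ReflTransGen.refl⟩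
    · obtain ⟨A₁, hA₁, hA₁8, hcent, hlt⟩ := step_a hX E hE hE32 A hA hA8 hAE
      obtain ⟨A', hA', hA'8, hA'E, hchain⟩ := ih A₁ hA₁ hA₁8 (by omega)
      refine ⟨A', hA', hA'8, hA'E, Relation.ReflTransGen.head ?_ hchain⟩
      exact ⟨hA, hA8, hA₁, hA₁8, (Subgroup.commutator_eq_bot_iff_le_centralizer).mpr hcent⟩

end helpers

theorem result {X : Type*} [Group X] [Finite X]
    (hX : IsPGroup 2 X) (E : Subgroup X) [E.Normal] (hE : Cfsg.IsElementaryAbelian 2 E) (hE32 : 32 ≤ Nat.card ↥E) :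
    (∀ A B : Subgroup X, Cfsg.IsElementaryAbelian 2 A → Nat.card ↥A = 8 → Cfsg.IsElementaryAbelian 2 B → Nat.card ↥B = 8 →
        Relation.ReflTransGen
          (fun C D : Subgroup X => Cfsg.IsElementaryAbelian 2 C ∧ Nat.card ↥C = 8 ∧ Cfsg.IsElementaryAbelian 2 D ∧ Nat.card ↥D = 8 ∧ ⁅C, D⁆ = ⊥)
          A B) ∧
      (∀ V : Subgroup X, Cfsg.IsElementaryAbelian 2 V → Nat.card ↥V = 4 →
        ∃ A : Subgroup X, V ≤ A ∧ Cfsg.IsElementaryAbelian 2 A ∧ Nat.card ↥A = 8) := by
  refine ⟨?_, fun V hV hV4 => part_b hX E hE hE32 V hV hV4⟩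
  intro A B hA hA8 hB hB8
  obtain ⟨A', hA', hA'8, hA'E, hchainA⟩ := reach hX E hE hE32 8 A hA hA8 (by omega)
  obtain ⟨B', hB', hB'8, hB'E, hchainB⟩ := reach hX E hE hE32 8 B hB hB8 (by omega)
  have hAB : Adj A' B' := by
    refine ⟨hA', hA'8, hB', hB'8, ?_⟩
    rw [Subgroup.commutator_eq_bot_iff_le_centralizer]
    exact hA'E.trans ((elemAb_iff.mp hE).1.trans (Subgroup.centralizer_le (SetLike.coe_subset_coe.mpr hB'E)))
  have hchainB' : Relation.ReflTransGen Adj B' B :=
    (Relation.ReflTransGen.stdSymm (r := Adj (X := X))).symm _ _ hchainB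
  exact (hchainA.tail hAB).trans hchainB'

end Cfsg.Agent.S1785
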