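import Mathlib
import Cfsg.Prelude.Def_QuasithinSetup
import Cfsg.Agent.Lib.Helper47.EvenChar

set_option autoImplicit false
open Cfsg

namespace Cfsg.Agent.S1850

/-- Let G be a non-abelian finite simple QTKE-group and T a Sylow 2-subgroup of G. If U is a nontrivial 2-subgroup of G with U ∩ Z(T) ≠ 1, then F*(N_G(U)) = O₂(N_G(U)). -/
theorem result {G : Type*} [Group G] [Finite G] [IsSimpleGroup G]
    (hG : ¬ IsMulCommutative G) (hQ : Cfsg.IsQTKE G) (T : Sylow 2 G) (U : Subgroup G)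
    (hU : IsPGroup 2 ↥U) (hZ : U ⊓ ((T : Subgroup G) ⊓ Subgroup.centralizer ((T : Subgroup G) : Set G)) ≠ ⊥) :
    Subgroup.normalizer (U : Set G) ∈ Cfsg.calHe G := by
  open Cfsg.Agent.Helper47 in
  exact (by
    -- pick `z ≠ 1` in `U ∩ Z(T)`
    obtain ⟨z, hz1⟩ := (Subgroup.ne_bot_iff_exists_ne_one).mp hZ
    have hzU : (z : G) ∈ U := z.2.1
    have hzT : (z : G) ∈ (T : Subgroup G) := z.2.2.1
    have hzC : (z : G) ∈ Subgroup.centralizer ((T : Subgroup G) : Set G) := z.2.2.2
    have hz1' : (z : G) ≠ 1 := fun h => hz1 (Subtype.ext h)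
    have hV0p : IsPGroup 2 (Subgroup.zpowers (z : G)) :=
      T.isPGroup'.to_le (Subgroup.zpowers_le.mpr hzT)
    have hV01 : Subgroup.zpowers (z : G) ≠ ⊥ := by
      rw [Ne, Subgroup.zpowers_eq_bot]; exact hz1'
    have hTN : (T : Subgroup G) ≤ Subgroup.normalizer ((Subgroup.zpowers (z : G) : Subgroup G) : Set G) := by
      refine le_trans ?_ (Subgroup.centralizer_le_normalizer _)
      intro t ht
      rw [Subgroup.mem_centralizer_iff]
      intro y hy
      obtain ⟨k, rfl⟩ := Subgroup.mem_zpowers_iff.mp hy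
      have h1 : (z : G) * t = t * (z : G) := (Subgroup.mem_centralizer_iff.mp hzC t ht).symm
      exact (Commute.zpow_left (show Commute (z : G) t from h1) k).eq
    have hloc : Cfsg.IsTwoLocal (Subgroup.normalizer ((Subgroup.zpowers (z : G) : Subgroup G) : Set G)) :=
      ⟨_, hV0p, hV01, rfl⟩
    have hchar : Cfsg.Agent.Helper54.IsCharP 2
        ↥(Subgroup.normalizer ((Subgroup.zpowers (z : G) : Subgroup G) : Set G)) :=
      hQ.2.2 _ hloc ⟨T, hTN⟩
    have hfin := isCharP_normalizer_of_le (p := 2) hU _ (Subgroup.zpowers (z : G)) rfl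
      (Subgroup.zpowers_le.mpr hzU) hchar
    exact Cfsg.Agent.Helper22.generalizedFitting_eq_of_isCharP hfin)

end Cfsg.Agent.S1850
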