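import Cfsg.Statements.S1892
import Cfsg.Agent.Lib.Helper76.PSolvable
import Cfsg.Agent.Lib.Helper24.Coprime

set_option autoImplicit false
open Cfsg

namespace Cfsg.Agent.S1892

open Subgroup
open scoped commutatorElement

/-- Let S be a finite p-solvable group with no nontrivial normal subgroup of order prime to p, A a p-subgroup of S, and Q a nontrivial A-invariant subgroup of order prime to p with [A, Q] = Q. Then the commutator [O_p(S), A, Q] is nontrivial. -/
theorem result {S : Type*} [Group S] [Finite S] {p : ℕ} [Fact p.Prime]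
    (hS : Cfsg.IsPSolvable p S) (hred : Cfsg.pPrimeCore p S = ⊥)
    (A Q : Subgroup S) (hA : IsPGroup p A) (hQ : ¬ p ∣ Nat.card Q) (hQ1 : Q ≠ ⊥)
    (hinv : ∀ a ∈ A, ∀ x ∈ Q, a * x * a⁻¹ ∈ Q) (hAQ : ⁅A, Q⁆ = Q) :
    ⁅⁅Cfsg.pCore p S, A⁆, Q⁆ ≠ ⊥ := by
  have hp : p.Prime := Fact.out
  intro hcon
  set R := Cfsg.pCore p S with hR
  have hRn : R.Normal := inferInstance
  have hRp : IsPGroup p R := Cfsg.Agent.Helper55.isPGroup_pCore
  set T := ⁅R, A⁆ with hT
  have hTR : T ≤ R := commutator_le_left R A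
  -- `Q` centralizes `T`
  have hTQ : ∀ t ∈ T, ∀ x ∈ Q, x * t = t * x := by
    intro t ht x hx
    have h1 : T ≤ centralizer (Q : Set S) := commutator_eq_bot_iff_le_centralizer.mp hcon
    exact (mem_centralizer_iff.mp (h1 ht)) x hx
  have hAT : A ≤ normalizer (T : Set S) := normalizer_commutator_ge_right R A
  -- the kernel of the action on `R / T`
  let K : Subgroup S :=
    { carrier := {g | g ∈ normalizer (T : Set S) ∧ ∀ r ∈ R, r * g * r⁻¹ * g⁻¹ ∈ T}
      mul_mem' := by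
        rintro g h ⟨hg, hg'⟩ ⟨hh, hh'⟩
        refine ⟨(normalizer (T : Set S)).mul_mem hg hh, ?_⟩
        intro r hr
        have e : r * (g * h) * r⁻¹ * (g * h)⁻¹ = (r * g * r⁻¹ * g⁻¹) * (g * (r * h * r⁻¹ * h⁻¹) * g⁻¹) := by
          group
        rw [e]
        exact T.mul_mem (hg' r hr) ((mem_normalizer_iff.mp hg _).mp (hh' r hr))
      one_mem' := by
        refine ⟨(normalizer (T : Set S)).one_mem, ?_⟩
        intro r _
        have e : r * 1 * r⁻¹ * (1 : S)⁻¹ = 1 := by group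
        rw [e]; exact T.one_mem
      inv_mem' := by
        rintro g ⟨hg, hg'⟩
        refine ⟨(normalizer (T : Set S)).inv_mem hg, ?_⟩
        intro r hr
        have e : r * g⁻¹ * r⁻¹ * g⁻¹⁻¹ = g⁻¹ * (r * g * r⁻¹ * g⁻¹)⁻¹ * g⁻¹⁻¹ := by group
        rw [e]
        exact (mem_normalizer_iff.mp ((normalizer (T : Set S)).inv_mem hg) _).mp (T.inv_mem (hg' r hr)) }
  have hKmem : ∀ g : S, g ∈ K ↔ (g ∈ normalizer (T : Set S) ∧ ∀ r ∈ R, r * g * r⁻¹ * g⁻¹ ∈ T) :=
    fun g => Iff.rfl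
  have hAK : A ≤ K := by
    intro a ha
    rw [hKmem]
    refine ⟨hAT ha, ?_⟩
    intro r hr
    have := commutator_mem_commutator hr ha
    rwa [commutatorElement_def] at this
  -- `Q` normalizes `T` (it centralizes it)
  have hQT : Q ≤ normalizer (T : Set S) := by
    intro x hx
    rw [mem_normalizer_iff]
    intro t
    constructor
    · intro ht
      have := hTQ t ht x hx
      have e : x * t * x⁻¹ = t := by rw [this]; group
      rw [e]; exact ht
    · intro ht
      have := hTQ _ ht x⁻¹ (Q.inv_mem hx)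
      have e : t = x⁻¹ * (x * t * x⁻¹) * x := by group
      rw [e, this]
      have e2 : x * t * x⁻¹ * x⁻¹ * x = x * t * x⁻¹ := by group
      rw [e2]; exact ht
  -- `Q` normalizes `K`
  have hQK : ∀ x ∈ Q, ∀ g ∈ K, x * g * x⁻¹ ∈ K := by
    intro x hx g hg
    rw [hKmem] at hg ⊢
    refine ⟨?_, ?_⟩
    · exact (normalizer (T : Set S)).mul_mem ((normalizer (T : Set S)).mul_mem (hQT hx) hg.1)
        ((normalizer (T : Set S)).inv_mem (hQT hx))
    · intro r hr
      have hr' : x⁻¹ * r * x ∈ R := by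
        have := hRn.conj_mem r hr x⁻¹
        simpa using this
      have h1 := hg.2 _ hr'
      have e : r * (x * g * x⁻¹) * r⁻¹ * (x * g * x⁻¹)⁻¹ =
          x * ((x⁻¹ * r * x) * g * (x⁻¹ * r * x)⁻¹ * g⁻¹) * x⁻¹ := by group
      rw [e]
      exact (mem_normalizer_iff.mp (hQT hx) _).mp h1
  have hQleK : Q ≤ K := by
    rw [← hAQ, commutator_le]
    intro a ha x hx
    rw [commutatorElement_def]
    have e : a * x * a⁻¹ * x⁻¹ = a * (x * a⁻¹ * x⁻¹) := by group
    rw [e]
    exact K.mul_mem (hAK ha) (hQK x hx _ (K.inv_mem (hAK ha)))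
  -- `[R, Q] ≤ T`
  have hRQT : ⁅R, Q⁆ ≤ T := by
    rw [commutator_le]
    intro r hr x hx
    rw [commutatorElement_def]
    exact ((hKmem x).mp (hQleK hx)).2 r hr
  have h2 : ⁅⁅R, Q⁆, Q⁆ = ⊥ := by
    rw [eq_bot_iff, ← hcon]
    exact commutator_mono hRQT le_rfl
  have hQR : Q ≤ normalizer (R : Set S) := by
    rw [normalizer_eq_top]; exact le_top
  have hcopQ : (Nat.card Q).Coprime p := ((Nat.Prime.coprime_iff_not_dvd hp).mpr hQ).symm
  have hcop : (Nat.card Q).Coprime (Nat.card R) := by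
    obtain ⟨k, hk⟩ := IsPGroup.iff_card.mp hRp
    rw [hk]; exact Nat.Coprime.pow_right k hcopQ
  have h3 := Cfsg.Agent.Helper24.le_centralizer_of_coprime R Q hQR hcop h2
  have h4 : Q ≤ R := h3.trans (Cfsg.Agent.Helper76.centralizer_pCore_le hS hred)
  have hQp : IsPGroup p Q := hRp.to_le h4
  obtain ⟨k, hk⟩ := IsPGroup.iff_card.mp hQp
  apply hQ1
  apply (Subgroup.card_eq_one).mp
  rcases Nat.eq_zero_or_pos k with h0 | hpos
  · rw [hk, h0, pow_zero]
  · exfalso
    apply hQ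
    rw [hk]
    exact dvd_pow_self p hpos.ne'

end Cfsg.Agent.S1892
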