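import Cfsg.Statements.S1894
import Cfsg.Agent.Lib.Helper32.PGroupCenter
import Mathlib.Tactic

set_option autoImplicit false
open Cfsg

namespace Cfsg.Agent.S1894

open Cfsg.Agent.Helper32

/-- Let P be a finite p-group, A a normal subgroup of P and B an abelian subgroup of A that is normal in P. Then some subgroup C of A containing B is normal in P and is self-centralizing and normal in A (C ∈ SCN(A)). -/
theorem result {P : Type*} [Group P] [Finite P] {p : ℕ} [Fact p.Prime] (hP : IsPGroup p P)
    (A : Subgroup P) [A.Normal] (B : Subgroup P) [B.Normal] (hBA : B ≤ A) (hB : IsMulCommutative B) :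
    ∃ C : Subgroup P, C.Normal ∧ B ≤ C ∧ Cfsg.IsSCN A C := by
  let pr : Subgroup P → Prop :=
    fun C => C.Normal ∧ B ≤ C ∧ C ≤ A ∧ (∀ x ∈ C, ∀ y ∈ C, x * y = y * x)
  have hBpr : pr B := by
    refine ⟨inferInstance, le_rfl, hBA, fun x hx y hy => ?_⟩
    have := hB.is_comm.comm (⟨x, hx⟩ : B) ⟨y, hy⟩
    exact congrArg Subtype.val this
  obtain ⟨C, _, hCmax⟩ := Finite.exists_le_maximal hBpr
  obtain ⟨hCn, hBC, hCA, hCcomm⟩ := hCmax.prop
  have := hCn
  refine ⟨C, hCn, hBC, hCA, ?_, ?_⟩
  · intro a _
    exact (Subgroup.normalizer_eq_top C).symm ▸ Subgroup.mem_top a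
  · apply le_antisymm
    · by_contra hne
      set D := A ⊓ Subgroup.centralizer (C : Set P) with hD
      have : D.Normal := by
        rw [hD]; infer_instance
      set Dbar := D.map (QuotientGroup.mk' C) with hDbar
      have : Dbar.Normal := Subgroup.Normal.map inferInstance _ (QuotientGroup.mk'_surjective C)
      have hDbar_ne : Dbar ≠ ⊥ := by
        intro h
        rw [hDbar, Subgroup.map_eq_bot_iff, QuotientGroup.ker_mk'] at h
        exact hne h
      have hPC : IsPGroup p (P ⧸ C) := hP.to_quotient C
      obtain ⟨z, hzD, hz1, hzc⟩ := exists_ne_one_mem_center_of_normal hPC Dbar hDbar_ne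
      obtain ⟨x, hxD, hxz⟩ := hzD
      have hxA : x ∈ A := hxD.1
      have hxcent : ∀ c ∈ C, c * x = x * c := fun c hc => Subgroup.mem_centralizer_iff.mp hxD.2 c hc
      have hxC : x ∉ C := by
        intro h
        apply hz1
        rw [← hxz]
        exact (QuotientGroup.eq_one_iff x).mpr h
      set C' := (Subgroup.zpowers z).comap (QuotientGroup.mk' C) with hC'
      have hzn : (Subgroup.zpowers z).Normal := by
        constructor
        intro y hy g
        have hyc : y ∈ Subgroup.center (P ⧸ C) := (Subgroup.zpowers_le.mpr hzc) hy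
        have := Subgroup.mem_center_iff.mp hyc g
        rw [this, mul_inv_cancel_right]
        exact hy
      have hC'n : C'.Normal := Subgroup.Normal.comap hzn _
      have hCC' : C ≤ C' := by
        intro c hc
        rw [hC', Subgroup.mem_comap]
        have : (QuotientGroup.mk' C) c = 1 := (QuotientGroup.eq_one_iff c).mpr hc
        rw [this]
        exact Subgroup.one_mem _
      have hmem : ∀ y, y ∈ C' → ∃ i : ℤ, ∃ c ∈ C, y = x ^ i * c := by
        intro y hy
        obtain ⟨i, hi⟩ := Subgroup.mem_zpowers_iff.mp (Subgroup.mem_comap.mp hy)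
        refine ⟨i, (x ^ i)⁻¹ * y, ?_, by group⟩
        rw [← hxz] at hi
        have : (QuotientGroup.mk (x ^ i) : P ⧸ C) = QuotientGroup.mk y := by
          simpa using hi
        exact QuotientGroup.eq.mp this
      have hxi : ∀ (i : ℤ), ∀ c ∈ C, c * x ^ i = x ^ i * c := by
        intro i c hc
        have : Commute c x := hxcent c hc
        exact (this.zpow_right i).eq
      have hpr' : pr C' := by
        refine ⟨hC'n, hBC.trans hCC', ?_, ?_⟩
        · intro y hy
          obtain ⟨i, c, hc, rfl⟩ := hmem y hy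
          exact A.mul_mem (A.zpow_mem hxA i) (hCA hc)
        · intro y1 hy1 y2 hy2
          obtain ⟨i, c1, hc1, rfl⟩ := hmem y1 hy1
          obtain ⟨j, c2, hc2, rfl⟩ := hmem y2 hy2
          have e1 : x ^ i * c1 * (x ^ j * c2) = x ^ i * x ^ j * (c1 * c2) := by
            rw [mul_assoc, ← mul_assoc c1, hxi j c1 hc1]; simp only [mul_assoc]
          have e2 : x ^ j * c2 * (x ^ i * c1) = x ^ j * x ^ i * (c2 * c1) := by
            rw [mul_assoc, ← mul_assoc c2, hxi i c2 hc2]; simp only [mul_assoc]
          rw [e1, e2, hCcomm c1 hc1 c2 hc2, (Commute.zpow_zpow_self x i j).eq]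
      have hle : C' ≤ C := hCmax.le_of_ge hpr' hCC'
      apply hxC
      apply hle
      rw [hC', Subgroup.mem_comap]
      rw [← hxz]
      exact Subgroup.mem_zpowers _
    · intro c hc
      refine ⟨hCA hc, ?_⟩
      show c ∈ Subgroup.centralizer (C : Set P)
      rw [Subgroup.mem_centralizer_iff]
      intro y hy
      exact hCcomm y hy c hc

end Cfsg.Agent.S1894
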