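import Cfsg.Statements.S1895
import Cfsg.Agent.Lib.Helper68.ChiefRk2

set_option autoImplicit false
open Cfsg

namespace Cfsg.Agent.S1895

/-- above a normal subgroup of `p`-power index `≠ 1` there is a normal subgroup of index `p`. -/
theorem exists_normal_index_prime_above {H : Type*} [Group H] [Finite H] {p : ℕ} [Fact p.Prime]
    (N : Subgroup H) [N.Normal] (n : ℕ) (hn : n ≠ 0) (hidx : N.index = p ^ n) :
    ∃ M : Subgroup H, N ≤ M ∧ M.Normal ∧ M.index = p := by
  have hpp : p.Prime := Fact.out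
  have hQ : IsPGroup p (H ⧸ N) := IsPGroup.of_card (n := n) (by rw [← hidx]; rfl)
  have hbot : (⊥ : Subgroup (H ⧸ N)) ≠ ⊤ := by
    intro h
    have h1 : Nat.card (H ⧸ N) = 1 := by
      rw [← Subgroup.card_top (G := H ⧸ N), ← h, Subgroup.card_bot]
    have h2 : p ^ n = 1 := by rw [← hidx]; exact h1
    exact hn ((Nat.pow_eq_one.mp h2).resolve_left hpp.one_lt.ne')
  obtain ⟨M', _, hM'n, hM'i⟩ :=
    Cfsg.Agent.Helper68.RegOrbit.exists_normal_index_prime hQ ⊥ hbot
  refine ⟨M'.comap (QuotientGroup.mk' N), ?_, inferInstance, ?_⟩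
  · exact QuotientGroup.le_comap_mk' N M'
  · rw [Subgroup.index_comap_of_surjective _ (QuotientGroup.mk'_surjective N)]; exact hM'i

/-- a normal subgroup of prime index `p` contains all `p`-th powers and all commutators. -/
theorem pow_comm_mem_of_index_prime {H : Type*} [Group H] {p : ℕ} [Fact p.Prime]
    (M : Subgroup H) [M.Normal] (hM : M.index = p) :
    (∀ x : H, x ^ p ∈ M) ∧ (∀ x y : H, x * y * x⁻¹ * y⁻¹ ∈ M) := by
  have hcard : Nat.card (H ⧸ M) = p := hM
  constructor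
  · intro x
    rw [← QuotientGroup.eq_one_iff, QuotientGroup.mk_pow, ← hcard]
    exact pow_card_eq_one'
  · intro x y
    have hcyc : IsCyclic (H ⧸ M) := isCyclic_of_prime_card hcard
    obtain ⟨g, hg⟩ := hcyc.exists_generator
    obtain ⟨a, ha⟩ := Subgroup.mem_zpowers_iff.mp (hg (QuotientGroup.mk x))
    obtain ⟨b, hb⟩ := Subgroup.mem_zpowers_iff.mp (hg (QuotientGroup.mk y))
    rw [← QuotientGroup.eq_one_iff]
    simp only [QuotientGroup.mk_mul, QuotientGroup.mk_inv]
    rw [← ha, ← hb, ← zpow_neg, ← zpow_neg, ← zpow_add, ← zpow_add, ← zpow_add]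
    have : a + b + -a + -b = 0 := by ring
    rw [this, zpow_zero]

/-- the core of the argument, with the Sylow subgroup `R` of `H` abstracted. -/
theorem core {G : Type*} [Group G] [Finite G] {p : ℕ} [Fact p.Prime] (hp : p ≠ 2)
    (hr : Cfsg.PRankLE p 2 G) (H K : Subgroup G) [H.Normal] [K.Normal] (hKH : K ≤ H)
    (hpwH : ∀ x ∈ H, x ^ p ∈ K) (hcmH : ∀ x ∈ H, ∀ y ∈ H, x * y * x⁻¹ * y⁻¹ ∈ K)
    (hchief : ∀ L : Subgroup G, L.Normal → K ≤ L → L ≤ H → L = K ∨ L = H)
    (R : Subgroup G) (hRH : R ≤ H) (hRp : IsPGroup p R) (hKR : K ⊔ R = H)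
    (hfr : Subgroup.normalizer (R : Set G) ⊔ H = ⊤) : K.relIndex H ≤ p ^ 2 := by
  have hKn : K.Normal := inferInstance
  obtain ⟨ZR, hZR⟩ : ∃ ZR : Subgroup G, ZR = R ⊓ Subgroup.centralizer (R : Set G) := ⟨_, rfl⟩
  have hZmem : ∀ z, z ∈ ZR ↔ z ∈ R ∧ ∀ r ∈ R, r * z = z * r := by
    intro z; rw [hZR, Subgroup.mem_inf, Subgroup.mem_centralizer_iff]; rfl
  have hZH : ZR ≤ H := fun z hz => hRH ((hZmem z).mp hz).1
  have hconj : ∀ g z, z ∈ ZR → g * z * g⁻¹ ∈ ZR ⊔ K := by
    intro g z hz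
    have hg : g ∈ Subgroup.normalizer (R : Set G) ⊔ H := by rw [hfr]; trivial
    obtain ⟨n, hn, h, hh, rfl⟩ := Subgroup.mem_sup_of_normal_right.mp hg
    obtain ⟨hzR, hzc⟩ := (hZmem z).mp hz
    have hc : h * z * h⁻¹ * z⁻¹ ∈ K := hcmH h hh z (hZH hz)
    have hnz : n * z * n⁻¹ ∈ ZR := by
      rw [hZmem]
      refine ⟨(Subgroup.mem_normalizer_iff.mp hn z).mp hzR, ?_⟩
      intro r hr
      have hr' : n⁻¹ * r * n ∈ R := (Subgroup.mem_normalizer_iff''.mp hn r).mp hr
      have hcm := hzc _ hr'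
      calc r * (n * z * n⁻¹) = n * ((n⁻¹ * r * n) * z) * n⁻¹ := by group
        _ = n * (z * (n⁻¹ * r * n)) * n⁻¹ := by rw [hcm]
        _ = n * z * n⁻¹ * r := by group
    have e : n * h * z * (n * h)⁻¹ = (n * (h * z * h⁻¹ * z⁻¹) * n⁻¹) * (n * z * n⁻¹) := by group
    rw [e]
    exact Subgroup.mul_mem _ (Subgroup.mem_sup_right (hKn.conj_mem _ hc n))
      (Subgroup.mem_sup_left hnz)
  have hLn : (ZR ⊔ K).Normal := by
    refine ⟨fun x hx g => ?_⟩
    obtain ⟨z, hz, k, hk, rfl⟩ := Subgroup.mem_sup_of_normal_right.mp hx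
    have e : g * (z * k) * g⁻¹ = (g * z * g⁻¹) * (g * k * g⁻¹) := by group
    rw [e]
    exact Subgroup.mul_mem _ (hconj g z hz) (Subgroup.mem_sup_right (hKn.conj_mem k hk g))
  rcases hchief (ZR ⊔ K) hLn le_sup_right (sup_le hZH hKH) with hL | hL
  · -- `Z(R) ≤ K`: Blackburn's classification
    have hZK : ZR ≤ K := by rw [← hL]; exact le_sup_left
    have h1 : K.relIndex H = K.relIndex R := by rw [← hKR, Subgroup.relIndex_sup_left]
    rw [h1]
    have hN : (K.subgroupOf R).Normal := inferInstance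
    show (K.subgroupOf R).index ≤ p ^ 2
    apply Cfsg.Agent.Helper68.ChiefRk2.index_le_sq_of_center_le hp hRp
      (Cfsg.Agent.Helper24.Blk.prankLE_subgroup hr R) (K.subgroupOf R)
    · intro x
      rw [Subgroup.mem_subgroupOf, Subgroup.coe_pow]
      exact hpwH _ (hRH x.2)
    · intro x y
      rw [Subgroup.mem_subgroupOf]
      exact hcmH _ (hRH x.2) _ (hRH y.2)
    · intro z hz
      rw [Subgroup.mem_subgroupOf]
      apply hZK
      rw [hZmem]
      refine ⟨z.2, fun r hr => ?_⟩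
      have h2 := congrArg Subtype.val (hz ⟨r, hr⟩)
      exact h2.symm
  · -- `Z(R) K = H`: abelian groups of rank at most two
    have h1 : K.relIndex H = K.relIndex ZR := by
      rw [← hL, Subgroup.relIndex_sup_right]
    rw [h1]
    apply Cfsg.Agent.Helper68.ChiefRk2.relIndex_le_sq_of_abelian hr ZR K
    · intro x hx y hy
      exact (((hZmem x).mp hx).2 y ((hZmem y).mp hy).1).symm
    · intro x hx; exact hpwH x (hZH hx)

/-- Let p be an odd prime and G a finite p-solvable group with no elementary abelian subgroup of order p³. Then every chief factor H/K of G (H, K normal in G with no normal subgroup of G strictly between them) whose order is a power of p has order p or p². -/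
theorem result {G : Type*} [Group G] [Finite G] {p : ℕ} [Fact p.Prime] (hp : p ≠ 2)
    (hG : Cfsg.IsPSolvable p G) (hr : Cfsg.PRankLE p 2 G)
    (H K : Subgroup G) [H.Normal] [K.Normal] (hKH : K < H) (hpow : ∃ n : ℕ, K.relIndex H = p ^ n)
    (hchief : ∀ L : Subgroup G, L.Normal → K ≤ L → L ≤ H → L = K ∨ L = H) :
    K.relIndex H = p ∨ K.relIndex H = p ^ 2 := by
  classical
  have hpp : p.Prime := Fact.out
  obtain ⟨n, hn⟩ := hpow
  have hn0 : n ≠ 0 := by
    rintro rfl
    rw [pow_zero, Subgroup.relIndex_eq_one] at hn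
    exact (not_le_of_gt hKH) hn
  suffices hle : K.relIndex H ≤ p ^ 2 by
    rw [hn] at hle ⊢
    have h2 : n ≤ 2 := (Nat.pow_le_pow_iff_right hpp.one_lt).mp hle
    have h3 : n = 1 ∨ n = 2 := by omega
    rcases h3 with rfl | rfl
    · left; rw [pow_one]
    · right; rfl
  -- Step 1: `H/K` is elementary abelian
  obtain ⟨M₁, hKM₁, hM₁n, hM₁i⟩ := exists_normal_index_prime_above (K.subgroupOf H) n hn0 hn
  obtain ⟨hpw₁, hcm₁⟩ := pow_comm_mem_of_index_prime M₁ hM₁i
  obtain ⟨M, hM⟩ : ∃ M : Subgroup G, M = M₁.map H.subtype := ⟨_, rfl⟩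
  have hMH : M ≤ H := by rw [hM]; exact Subgroup.map_subtype_le _
  have hKM : K ≤ M := by
    intro k hk
    rw [hM]
    exact ⟨⟨k, hKH.le hk⟩, hKM₁ (Subgroup.mem_subgroupOf.mpr hk), rfl⟩
  have hMne : M ≠ H := by
    intro h
    have h1 : M₁ = ⊤ := by
      apply Subgroup.map_injective H.subtype_injective
      rw [← hM, h, ← MonoidHom.range_eq_map, Subgroup.range_subtype]
    rw [h1, Subgroup.index_top] at hM₁i
    exact hpp.one_lt.ne hM₁i
  have hmemM' : ∀ y : ↥H, y ∈ M₁ → (y : G) ∈ M := by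
    intro y hy; rw [hM]; exact ⟨y, hy, rfl⟩
  have hcore : M.normalCore = K := by
    rcases hchief M.normalCore inferInstance (Subgroup.normal_le_normalCore.mpr hKM)
      ((Subgroup.normalCore_le M).trans hMH) with h | h
    · exact h
    · exfalso
      apply hMne
      exact le_antisymm hMH (h ▸ Subgroup.normalCore_le M)
  have hHn : H.Normal := inferInstance
  have hpwH : ∀ x ∈ H, x ^ p ∈ K := by
    intro x hx
    rw [← hcore]
    show ∀ b : G, b * x ^ p * b⁻¹ ∈ M
    intro b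
    have hb : b * x * b⁻¹ ∈ H := hHn.conj_mem x hx b
    rw [← conj_pow]
    have h1 := hmemM' _ (hpw₁ ⟨_, hb⟩)
    exact h1
  have hcmH : ∀ x ∈ H, ∀ y ∈ H, x * y * x⁻¹ * y⁻¹ ∈ K := by
    intro x hx y hy
    rw [← hcore]
    show ∀ b : G, b * (x * y * x⁻¹ * y⁻¹) * b⁻¹ ∈ M
    intro b
    have hbx : b * x * b⁻¹ ∈ H := hHn.conj_mem x hx b
    have hby : b * y * b⁻¹ ∈ H := hHn.conj_mem y hy b
    have e : b * (x * y * x⁻¹ * y⁻¹) * b⁻¹ =
        (b * x * b⁻¹) * (b * y * b⁻¹) * (b * x * b⁻¹)⁻¹ * (b * y * b⁻¹)⁻¹ := by group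
    rw [e]
    have h1 := hmemM' _ (hcm₁ ⟨_, hbx⟩ ⟨_, hby⟩)
    exact h1
  -- Step 2: a Sylow `p`-subgroup of `H`
  obtain ⟨S⟩ : Nonempty (Sylow p ↥H) := inferInstance
  obtain ⟨R, hR⟩ : ∃ R : Subgroup G, R = (S : Subgroup ↥H).map H.subtype := ⟨_, rfl⟩
  have hRH : R ≤ H := by rw [hR]; exact Subgroup.map_subtype_le _
  have hRp : IsPGroup p R := by rw [hR]; exact S.isPGroup'.map H.subtype
  have hfr : Subgroup.normalizer (R : Set G) ⊔ H = ⊤ := by
    rw [hR]; exact Sylow.normalizer_sup_eq_top S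
  have hKR : K ⊔ R = H := by
    apply le_antisymm (sup_le hKH.le hRH)
    rw [← Subgroup.relIndex_eq_one]
    have h1 : (K ⊔ R).relIndex H ∣ p ^ n :=
      hn ▸ Subgroup.relIndex_dvd_of_le_left (L := H) le_sup_left
    have h2 : (K ⊔ R).relIndex H ∣ R.relIndex H :=
      Subgroup.relIndex_dvd_of_le_left (L := H) le_sup_right
    have h3 : R.relIndex H = (S : Subgroup ↥H).index := by
      rw [hR]
      show ((Subgroup.map H.subtype (S : Subgroup ↥H)).comap H.subtype).index = _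
      rw [Subgroup.comap_map_eq_self_of_injective H.subtype_injective]
    obtain ⟨k, hk, hk'⟩ := (Nat.dvd_prime_pow hpp).mp h1
    rcases Nat.eq_zero_or_pos k with rfl | hkpos
    · simpa using hk'
    · exfalso
      apply S.not_dvd_index
      rw [← h3]
      exact dvd_trans (hk' ▸ dvd_pow_self p hkpos.ne') h2
  exact core hp hr H K hKH.le hpwH hcmH hchief R hRH hRp hKR hfr

end Cfsg.Agent.S1895
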