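import Cfsg.Statements.S1897
import Cfsg.Agent.Lib.Helper57.PSL27Main
import Cfsg.Agent.S0495
-- import your own Cfsg.Agent.* helpers here

set_option autoImplicit false
open Cfsg

namespace Cfsg.Agent.S1897
open Cfsg.Agent.Helper57

/-- The projective special unitary group PSU₃(3) (realised over the field with 9 elements) has a subgroup isomorphic to PSL₂(7). -/
theorem result {F : Type*} [Field F] [Fintype F] (hF : Fintype.card F = 9)
    {K : Type*} [Field K] [Fintype K] (hK : Fintype.card K = 7) :
    ∃ H : Subgroup (Cfsg.PSU 3 F 3), Nonempty (H ≃* Matrix.ProjectiveSpecialLinearGroup (Fin 2) K) := by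
  haveI : Finite (P27.H168 hF) :=
    Nat.finite_of_card_ne_zero (by rw [P27.card_H168]; norm_num)
  haveI : IsSimpleGroup (P27.H168 hF) := P27.simple_H168 hF
  obtain ⟨e⟩ := Cfsg.Agent.S0495.result (G := P27.H168 hF) (P27.card_H168 hF) hK
  have hinj : Function.Injective (QuotientGroup.mk' (Subgroup.center (Cfsg.SU 3 F 3))) := by
    rw [← MonoidHom.ker_eq_bot_iff, QuotientGroup.ker_mk', center_SU_eq_bot hF]
  exact ⟨(P27.H168 hF).map (QuotientGroup.mk' (Subgroup.center (Cfsg.SU 3 F 3))),
    ⟨((P27.H168 hF).equivMapOfInjective _ hinj).symm.trans e⟩⟩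

end Cfsg.Agent.S1897
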