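import Cfsg.Statements.S1898
import Mathlib.Tactic

set_option autoImplicit false
open Cfsg

namespace Cfsg.Agent.S1898

open scoped commutatorElement

variable {X : Type*} [Group X]

theorem pow_fix (f : MulAut X) (a : X) (h : f a = a) (k : ℕ) : (f ^ k) a = a := by
  induction k with
  | zero => simp
  | succ k ih => rw [pow_succ, MulAut.mul_apply, h, ih]

/-- In a group whose commutators are central of order at most 2, fourth powers are multiplicative. -/
theorem pow4_mul (hc : ∀ x y z : X, Commute ⁅x, y⁆ z) (hc2 : ∀ x y : X, ⁅x, y⁆ ^ 2 = 1) (a b : X) :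
    (a * b) ^ 4 = a ^ 4 * b ^ 4 := by
  set c := ⁅b, a⁆ with hcdef
  have hba : b * a = c * (a * b) := by
    rw [hcdef, commutatorElement_def]; group
  have hcz : ∀ z, Commute c z := fun z => hc b a z
  have hcc : c ^ 2 = 1 := hc2 b a
  have h1 : Commute (b ^ 2) a := by
    show b ^ 2 * a = a * b ^ 2
    calc b ^ 2 * a = b * (b * a) := by rw [pow_two, mul_assoc]
      _ = b * (c * (a * b)) := by rw [hba]
      _ = c * ((b * a) * b) := by
          rw [← mul_assoc b c, ← (hcz b).eq, mul_assoc c b, mul_assoc b a b]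
      _ = c * ((c * (a * b)) * b) := by rw [hba]
      _ = c ^ 2 * (a * b ^ 2) := by rw [pow_two, pow_two]; simp only [mul_assoc]
      _ = a * b ^ 2 := by rw [hcc, one_mul]
  have h2 : (a * b) ^ 2 = c * (a ^ 2 * b ^ 2) := by
    calc (a * b) ^ 2 = a * (b * a) * b := by rw [pow_two]; simp only [mul_assoc]
      _ = a * (c * (a * b)) * b := by rw [hba]
      _ = c * (a ^ 2 * b ^ 2) := by
          rw [← mul_assoc a c, ← (hcz a).eq, pow_two, pow_two]; simp only [mul_assoc]
  have h3 : Commute (a ^ 2) (b ^ 2) := (h1.pow_right 2).symm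
  calc (a * b) ^ 4 = ((a * b) ^ 2) ^ 2 := by rw [← pow_mul]
    _ = (c * (a ^ 2 * b ^ 2)) ^ 2 := by rw [h2]
    _ = c ^ 2 * (a ^ 2 * b ^ 2) ^ 2 := (hcz _).mul_pow 2
    _ = (a ^ 2 * b ^ 2) ^ 2 := by rw [hcc, one_mul]
    _ = (a ^ 2) ^ 2 * (b ^ 2) ^ 2 := h3.mul_pow 2
    _ = a ^ 4 * b ^ 4 := by rw [← pow_mul, ← pow_mul]

/-- the fourth power homomorphism -/
def pow4Hom (hc : ∀ x y z : X, Commute ⁅x, y⁆ z) (hc2 : ∀ x y : X, ⁅x, y⁆ ^ 2 = 1) : X →* X where
  toFun x := x ^ 4
  map_one' := one_pow 4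
  map_mul' := pow4_mul hc hc2

theorem step (hc : ∀ x y z : X, Commute ⁅x, y⁆ z) (hc2 : ∀ x y : X, ⁅x, y⁆ ^ 2 = 1)
    (θ : MulAut X) (hθ : ∀ g : X, g ^ 4 = 1 → θ g = g) (y : X) (hy : θ (y ^ 4) = y ^ 4) :
    (θ ^ 4) y = y := by
  set c := y⁻¹ * θ y with hcdef
  have hθy : θ y = y * c := by rw [hcdef]; group
  have hc4 : c ^ 4 = 1 := by
    rw [hcdef, pow4_mul hc hc2, inv_pow, ← map_pow, hy, inv_mul_cancel]
  have hθc : θ c = c := hθ c hc4
  have hiter : ∀ i : ℕ, (θ ^ i) y = y * c ^ i := by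
    intro i
    induction i with
    | zero => simp
    | succ i ih =>
      rw [pow_succ', MulAut.mul_apply, ih, map_mul, map_pow, hθc, hθy, pow_succ']
      simp only [mul_assoc]
  rw [hiter 4, hc4, mul_one]

/-- Let X be a finite 2-group whose derived subgroup is elementary abelian and central. Then the subgroup generated by the elements of order dividing 4 has exponent dividing 4, and every automorphism of X fixing each element of order dividing 4 has 2-power order. -/
theorem result {X : Type*} [Group X] [Finite X] (hX : IsPGroup 2 X)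
    (hel : Cfsg.IsElementaryAbelian 2 (commutator X)) (hcen : commutator X ≤ Subgroup.center X) :
    (∀ x ∈ Subgroup.closure {g : X | g ^ 4 = 1}, x ^ 4 = 1) ∧
      ∀ φ : MulAut X, (∀ g : X, g ^ 4 = 1 → φ g = g) → ∃ k : ℕ, φ ^ (2 ^ k) = 1 := by
  have hmem : ∀ x y : X, ⁅x, y⁆ ∈ commutator X := by
    intro x y
    rw [commutator_def]
    exact Subgroup.commutator_mem_commutator (Subgroup.mem_top x) (Subgroup.mem_top y)
  have hc : ∀ x y z : X, Commute ⁅x, y⁆ z := by
    intro x y z
    have := Subgroup.mem_center_iff.mp (hcen (hmem x y)) z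
    exact this.symm
  have hc2 : ∀ x y : X, ⁅x, y⁆ ^ 2 = 1 := fun x y => hel.2 _ (hmem x y)
  constructor
  · intro x hx
    have hle : Subgroup.closure {g : X | g ^ 4 = 1} ≤ (pow4Hom hc hc2).ker := by
      rw [Subgroup.closure_le]
      intro g hg
      exact MonoidHom.mem_ker.mpr hg
    exact MonoidHom.mem_ker.mp (hle hx)
  · intro φ hφ
    -- the exponent
    obtain ⟨e, he⟩ := IsPGroup.iff_card.mp hX
    have hexp : ∀ x : X, x ^ (4 ^ e) = 1 := by
      intro x
      have h4 : (4 : ℕ) ^ e = Nat.card X * 2 ^ e := by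
        rw [he, ← mul_pow]; norm_num
      rw [h4, pow_mul, pow_card_eq_one', one_pow]
    -- downward induction
    have claim : ∀ i : ℕ, i ≤ e → ∃ k : ℕ, ∀ x : X, (φ ^ (2 ^ k)) (x ^ (4 ^ (e - i))) = x ^ (4 ^ (e - i)) := by
      intro i
      induction i with
      | zero =>
        intro _
        refine ⟨0, fun x => ?_⟩
        simp [hexp]
      | succ i ih =>
        intro hi
        obtain ⟨k, hk⟩ := ih (by omega)
        refine ⟨k + 2, fun x => ?_⟩
        have hθ : ∀ g : X, g ^ 4 = 1 → (φ ^ (2 ^ k)) g = g := fun g hg => pow_fix φ g (hφ g hg) _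
        have e1 : (φ ^ (2 ^ (k + 2))) = (φ ^ (2 ^ k)) ^ 4 := by
          rw [← pow_mul]; congr 1; rw [pow_add]; norm_num
        rw [e1]
        apply step hc hc2 _ hθ
        have e2 : (x ^ 4 ^ (e - (i + 1))) ^ 4 = x ^ 4 ^ (e - i) := by
          rw [← pow_mul, ← pow_succ]
          congr 2
          omega
        rw [e2]
        exact hk x
    obtain ⟨k, hk⟩ := claim e le_rfl
    refine ⟨k, ?_⟩
    ext x
    have := hk x
    simpa using this

end Cfsg.Agent.S1898
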