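import Cfsg.Statements.S1899
import Mathlib.GroupTheory.Complement
import Mathlib.GroupTheory.Index
import Mathlib.Tactic

set_option autoImplicit false
open Cfsg

namespace Cfsg.Agent.S1899

variable {A : Type*} [CommGroup A]

theorem pow_fix (f : MulAut A) (a : A) (h : f a = a) (k : ℕ) : (f ^ k) a = a := by
  induction k with
  | zero => simp
  | succ k ih => rw [pow_succ, MulAut.mul_apply, h, ih]

/-- the norm map `a ↦ a * t a` -/
def nrm (t : MulAut A) : A →* A := MonoidHom.id A * t.toMonoidHom

theorem nrm_apply (t : MulAut A) (a : A) : nrm t a = a * t a := rfl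

theorem card_le_of_disjoint [Finite A] (H K : Subgroup A) (h : H ⊓ K = ⊥) :
    Nat.card H * Nat.card K ≤ Nat.card A := by
  have hinj := Subgroup.mul_injective_of_disjoint (disjoint_iff.mpr h)
  have := Nat.card_le_card_of_injective _ hinj
  rwa [Nat.card_prod] at this

/-- Let a dihedral group of order 2n, n odd and n > 1, act on a finite abelian 2-group A through automorphisms d and t with d^n = 1, t² = 1 and t d t⁻¹ = d⁻¹, and suppose that d fixes only the identity. Then A is the internal direct product of C_A(t) and its image under d. -/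
theorem result {A : Type*} [CommGroup A] [Finite A] (hA : IsPGroup 2 A)
    {n : ℕ} (hn : Odd n) (hn1 : 1 < n) (d t : MulAut A) (hd : d ^ n = 1) (ht : t ^ 2 = 1) (hdt : t * d * t⁻¹ = d⁻¹)
    (hfix : ∀ a : A, d a = a → a = 1) :
    (MulEquiv.toMonoidHom t).eqLocus (MonoidHom.id A) ⊓ ((MulEquiv.toMonoidHom t).eqLocus (MonoidHom.id A)).map d.toMonoidHom = ⊥ ∧
      (MulEquiv.toMonoidHom t).eqLocus (MonoidHom.id A) ⊔ ((MulEquiv.toMonoidHom t).eqLocus (MonoidHom.id A)).map d.toMonoidHom = ⊤ := by
  -- basic facts
  have hd2 : ∀ a : A, d (d a) = a → a = 1 := by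
    intro a ha
    obtain ⟨m, hm⟩ := hn
    apply hfix
    have h2 : (d ^ 2) a = a := by rw [pow_two, MulAut.mul_apply]; exact ha
    have h3 := pow_fix (d ^ 2) a h2 (m + 1)
    have h4 : (d ^ 2) ^ (m + 1) = d := by
      rw [← pow_mul]
      have : 2 * (m + 1) = n + 1 := by omega
      rw [this, pow_succ, hd, one_mul]
    rw [h4] at h3
    exact h3
  have htd : ∀ a : A, t (d a) = d⁻¹ (t a) := by
    intro a
    have h1 : t * d = d⁻¹ * t := by
      rw [← hdt]; group
    have := congrArg (fun f : MulAut A => f a) h1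
    simpa [MulAut.mul_apply] using this
  have htt : ∀ a : A, t (t a) = a := by
    intro a
    have := congrArg (fun f : MulAut A => f a) ht
    simpa [pow_two, MulAut.mul_apply] using this
  set C := (MulEquiv.toMonoidHom t).eqLocus (MonoidHom.id A) with hC
  have memC : ∀ a : A, a ∈ C ↔ t a = a := fun a => Iff.rfl
  set K := (nrm t).ker with hK
  have memK : ∀ a : A, a ∈ K ↔ a * t a = 1 := fun a => MonoidHom.mem_ker
  -- disjointness for C
  have hCd : C ⊓ C.map d.toMonoidHom = ⊥ := by
    rw [eq_bot_iff]
    rintro a ⟨ha1, ha2⟩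
    obtain ⟨c, hc, rfl⟩ := ha2
    have hc' : t c = c := (memC c).mp hc
    have h1 : t (d c) = d c := (memC _).mp ha1
    rw [htd, hc'] at h1
    have h2 : d (d (d c)) = d c := by
      have := congrArg d (congrArg d h1)
      simpa using this.symm
    have := hd2 _ h2
    simpa using this
  -- disjointness for K
  have hKd : K ⊓ K.map d.toMonoidHom = ⊥ := by
    rw [eq_bot_iff]
    rintro a ⟨ha1, ha2⟩
    obtain ⟨c, hc, rfl⟩ := ha2
    have hc' : c * t c = 1 := (memK c).mp hc
    have h1 : d c * t (d c) = 1 := (memK _).mp ha1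
    rw [htd] at h1
    have hc2 : t c = c⁻¹ := by
      rw [eq_inv_iff_mul_eq_one, mul_comm]; exact hc'
    rw [hc2] at h1
    -- d c * d⁻¹ c⁻¹ = 1, so d c = d⁻¹ c
    have h3 : d c = d⁻¹ c := by
      have : d⁻¹ c⁻¹ = (d⁻¹ c)⁻¹ := map_inv _ _
      rw [this, mul_inv_eq_one] at h1
      exact h1
    have h2 : d (d (d c)) = d c := by
      have := congrArg d (congrArg d h3)
      simpa using this
    have := hd2 _ h2
    simpa using this
  -- cardinalities
  have hdinj : Function.Injective d.toMonoidHom := d.injective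
  have cC : Nat.card (C.map d.toMonoidHom) = Nat.card C := Subgroup.card_map_of_injective hdinj
  have cK : Nat.card (K.map d.toMonoidHom) = Nat.card K := Subgroup.card_map_of_injective hdinj
  have i1 := card_le_of_disjoint _ _ hCd
  have i2 := card_le_of_disjoint _ _ hKd
  rw [cC] at i1
  rw [cK] at i2
  have hrange : (nrm t).range ≤ C := by
    rintro _ ⟨a, rfl⟩
    rw [memC, nrm_apply, map_mul, htt, mul_comm]
  have i3 : Nat.card A = Nat.card K * Nat.card (nrm t).range := by
    rw [← Subgroup.index_ker, Subgroup.card_mul_index]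
  have i4 : Nat.card (nrm t).range ≤ Nat.card C := Subgroup.card_le_of_le hrange
  have hpos : 0 < Nat.card A := Nat.card_pos
  have hcard : Nat.card C * Nat.card C = Nat.card A := by
    have i5 : Nat.card A ≤ Nat.card K * Nat.card C := by
      rw [i3]; exact Nat.mul_le_mul_left _ i4
    nlinarith
  refine ⟨hCd, ?_⟩
  have hcompl : Subgroup.IsComplement' C (C.map d.toMonoidHom) := by
    apply Subgroup.isComplement'_of_card_mul_and_disjoint
    · rw [cC]; exact hcard
    · exact disjoint_iff.mpr hCd
  exact hcompl.sup_eq_top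

end Cfsg.Agent.S1899
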