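import Cfsg.Statements.S1900
import Cfsg.Agent.Lib.Helper52.Coprime
import Cfsg.Agent.Lib.Helper48.CoprimeGen

set_option autoImplicit false
open Cfsg

namespace Cfsg.Agent.S1900

open Subgroup
open scoped commutatorElement

section general

variable {G : Type*} [Group G]

/-- the subgroup of all `w` with `[w, c] ∈ N` for all `c ∈ X` (`N` normal). -/
def CN (N : Subgroup G) [N.Normal] (X : Subgroup G) : Subgroup G :=
  (centralizer ((X.map (QuotientGroup.mk' N) : Subgroup (G ⧸ N)) : Set (G ⧸ N))).comap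
    (QuotientGroup.mk' N)

theorem mem_CN_iff (N : Subgroup G) [N.Normal] (X : Subgroup G) (w : G) :
    w ∈ CN N X ↔ ∀ c ∈ X, w * c * w⁻¹ * c⁻¹ ∈ N := by
  unfold CN
  rw [mem_comap, mem_centralizer_iff]
  constructor
  · intro h c hc
    have h1 := h (QuotientGroup.mk' N c) ⟨c, hc, rfl⟩
    rw [← QuotientGroup.eq_one_iff]
    have h2 : ((w * c * w⁻¹ * c⁻¹ : G) : G ⧸ N) =
        (QuotientGroup.mk' N w) * (QuotientGroup.mk' N c) * (QuotientGroup.mk' N w)⁻¹ *
          (QuotientGroup.mk' N c)⁻¹ := by simp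
    rw [h2, ← h1]; group
  · rintro h y ⟨c, hc, rfl⟩
    have h1 := h c hc
    rw [← QuotientGroup.eq_one_iff] at h1
    have h2 : ((w * c * w⁻¹ * c⁻¹ : G) : G ⧸ N) =
        (QuotientGroup.mk' N w) * (QuotientGroup.mk' N c) * (QuotientGroup.mk' N w)⁻¹ *
          (QuotientGroup.mk' N c)⁻¹ := by simp
    rw [h2] at h1
    calc (QuotientGroup.mk' N c) * (QuotientGroup.mk' N w)
        = ((QuotientGroup.mk' N w) * (QuotientGroup.mk' N c) * (QuotientGroup.mk' N w)⁻¹ *
          (QuotientGroup.mk' N c)⁻¹)⁻¹ * ((QuotientGroup.mk' N w) * (QuotientGroup.mk' N c)) := by group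
      _ = (QuotientGroup.mk' N w) * (QuotientGroup.mk' N c) := by rw [h1]; group

/-- three subgroups lemma modulo a normal subgroup. -/
theorem three_subgroups_mod (N : Subgroup G) [N.Normal] (H₁ H₂ H₃ : Subgroup G)
    (h1 : ⁅⁅H₂, H₃⁆, H₁⁆ ≤ N) (h2 : ⁅⁅H₃, H₁⁆, H₂⁆ ≤ N) : ⁅⁅H₁, H₂⁆, H₃⁆ ≤ N := by
  have key : ∀ A B C : Subgroup G, ⁅⁅A, B⁆, C⁆ ≤ N ↔
      ⁅⁅A.map (QuotientGroup.mk' N), B.map (QuotientGroup.mk' N)⁆, C.map (QuotientGroup.mk' N)⁆ = ⊥ := by
    intro A B C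
    rw [← map_commutator, ← map_commutator, Subgroup.map_eq_bot_iff, QuotientGroup.ker_mk']
  rw [key] at h1 h2 ⊢
  exact commutator_commutator_eq_bot_of_rotate h1 h2

theorem le_normalizer_of_conj_mem (K H : Subgroup G)
    (h : ∀ s ∈ K, ∀ w ∈ H, s * w * s⁻¹ ∈ H) : K ≤ normalizer (H : Set G) := by
  intro s hs
  rw [mem_normalizer_iff]
  intro w
  constructor
  · exact h s hs w
  · intro hw
    have := h s⁻¹ (K.inv_mem hs) _ hw
    simpa [mul_assoc] using this


theorem CN_inf_le (N : Subgroup G) [N.Normal] (X₁ X₂ : Subgroup G) :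
    CN N X₁ ⊓ CN N X₂ ≤ CN N (X₁ ⊔ X₂) := by
  intro w hw
  rw [mem_inf] at hw
  unfold CN at hw ⊢
  rw [mem_comap] at hw ⊢
  rw [Subgroup.map_sup]
  have h1 : zpowers (QuotientGroup.mk' N w) ≤
      centralizer ((X₁.map (QuotientGroup.mk' N) : Subgroup (G ⧸ N)) : Set (G ⧸ N)) := by
    rw [zpowers_le]; exact hw.1
  have h2 : zpowers (QuotientGroup.mk' N w) ≤
      centralizer ((X₂.map (QuotientGroup.mk' N) : Subgroup (G ⧸ N)) : Set (G ⧸ N)) := by
    rw [zpowers_le]; exact hw.2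
  rw [le_centralizer_iff] at h1 h2
  have h3 := sup_le h1 h2
  rw [le_centralizer_iff] at h3
  exact h3 (mem_zpowers _)

theorem le_CN_of_normal (N : Subgroup G) [N.Normal] (X : Subgroup G) : N ≤ CN N X := by
  intro n hn
  rw [mem_CN_iff]
  intro c _
  have h : n * c * n⁻¹ * c⁻¹ = n * (c * n⁻¹ * c⁻¹) := by group
  rw [h]
  exact N.mul_mem hn (Subgroup.Normal.conj_mem inferInstance _ (N.inv_mem hn) c)

/-- one half of the inductive step. -/
theorem half_step (P Q : Subgroup G) [P.Normal] (hS : P ⊔ Q = ⊤)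
    (hQcomm : ∀ x ∈ Q, ∀ y ∈ Q, x * y = y * x)
    (N Np : Subgroup G) [N.Normal] [Np.Normal] (hNNp : N ≤ Np) (hNpP : ⁅Np, P⁆ ≤ N)
    (X Y : Subgroup G) (hYQ : Y ≤ Q)
    (A B : Subgroup G) (hAX : A ≤ centralizer (X : Set G)) (hBX : ⁅B, X⁆ = B)
    (hAB : ⁅A, B⁆ ≤ Np) (hgen : Np ≤ (Np ⊓ CN N X) ⊔ (Np ⊓ CN N Y)) :
    ⁅A, B⁆ ≤ Np ⊓ CN N Y := by
  set EX := Np ⊓ CN N X with hEX
  set EY := Np ⊓ CN N Y with hEY
  have hNEY : N ≤ EY := le_inf hNNp (le_CN_of_normal N Y)
  -- `EY` is normal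
  have hEYn : EY.Normal := by
    rw [← normalizer_eq_top_iff, eq_top_iff, ← hS]
    apply sup_le
    · apply le_normalizer_of_conj_mem
      intro s hs w hw
      have h1 : s * w * s⁻¹ = (w * s * w⁻¹ * s⁻¹)⁻¹ * w := by group
      rw [h1]
      apply EY.mul_mem _ hw
      apply EY.inv_mem
      apply hNEY
      apply hNpP
      exact commutator_mem_commutator hw.1 hs
    · apply le_normalizer_of_conj_mem
      intro s hs w hw
      refine ⟨Subgroup.Normal.conj_mem inferInstance _ hw.1 s, ?_⟩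
      show s * w * s⁻¹ ∈ CN N Y
      rw [mem_CN_iff]
      intro c hc
      have hsc : s * c = c * s := hQcomm s hs c (hYQ hc)
      have hsc' : s⁻¹ * c = c * s⁻¹ := hQcomm s⁻¹ (Q.inv_mem hs) c (hYQ hc)
      have hsc'' : s⁻¹ * c⁻¹ = c⁻¹ * s⁻¹ := hQcomm s⁻¹ (Q.inv_mem hs) c⁻¹ (Q.inv_mem (hYQ hc))
      have h1 : s * w * s⁻¹ * c * (s * w * s⁻¹)⁻¹ * c⁻¹ = s * (w * c * w⁻¹ * c⁻¹) * s⁻¹ := by
        calc s * w * s⁻¹ * c * (s * w * s⁻¹)⁻¹ * c⁻¹
            = s * w * (s⁻¹ * c) * s * w⁻¹ * (s⁻¹ * c⁻¹) := by group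
          _ = s * w * (c * s⁻¹) * s * w⁻¹ * (c⁻¹ * s⁻¹) := by rw [hsc', hsc'']
          _ = s * (w * c * w⁻¹ * c⁻¹) * s⁻¹ := by group
      rw [h1]
      exact Subgroup.Normal.conj_mem inferInstance _ ((mem_CN_iff N Y w).mp hw.2 c hc) s
  -- `[Np, X] ≤ EY`
  have hNpX : ⁅Np, X⁆ ≤ EY := by
    have h1 : EX ≤ CN EY X := by
      intro w hw
      rw [mem_CN_iff]
      intro c hc
      exact hNEY ((mem_CN_iff N X w).mp hw.2 c hc)
    have h2 : EY ≤ CN EY X := le_CN_of_normal EY X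
    have h3 : Np ≤ CN EY X := hgen.trans (sup_le h1 h2)
    rw [commutator_le]
    intro w hw c hc
    rw [commutatorElement_def]
    exact (mem_CN_iff EY X w).mp (h3 hw) c hc
  have hXA : ⁅X, A⁆ = ⊥ := by
    rw [commutator_eq_bot_iff_le_centralizer, le_centralizer_iff]; exact hAX
  have h1 : ⁅⁅X, A⁆, B⁆ ≤ EY := by rw [hXA, commutator_bot_left]; exact bot_le
  have h2 : ⁅⁅A, B⁆, X⁆ ≤ EY := (commutator_mono hAB le_rfl).trans hNpX
  have h3 := three_subgroups_mod EY B X A h1 h2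
  rw [hBX, commutator_comm] at h3
  exact h3

end general


/-- Let S = PQ be a finite group with P a normal Sylow p-subgroup and Q elementary abelian of order q², q a prime different from p. If exactly two subgroups X₁, X₂ of order q in Q have a nontrivial centralizer in P, then P is the internal direct product of C_P(X₁) and C_P(X₂): they commute elementwise, meet trivially and generate P. -/
theorem result {S : Type*} [Group S] [Finite S] {p q : ℕ} [Fact p.Prime] [Fact q.Prime] (hpq : p ≠ q)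
    (P : Sylow p S) [(P : Subgroup S).Normal] (Q : Subgroup S) (hQ : Cfsg.IsElementaryAbelian q Q) (hQc : Nat.card Q = q ^ 2)
    (hS : (P : Subgroup S) ⊔ Q = ⊤)
    (X₁ X₂ : Subgroup S) (h₁ : X₁ ≤ Q) (h₂ : X₂ ≤ Q) (h₁₂ : X₁ ≠ X₂) (hc₁ : Nat.card X₁ = q) (hc₂ : Nat.card X₂ = q)
    (hf₁ : (P : Subgroup S) ⊓ Subgroup.centralizer (X₁ : Set S) ≠ ⊥)
    (hf₂ : (P : Subgroup S) ⊓ Subgroup.centralizer (X₂ : Set S) ≠ ⊥)
    (honly : ∀ X : Subgroup S, X ≤ Q → Nat.card X = q →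
      (P : Subgroup S) ⊓ Subgroup.centralizer (X : Set S) ≠ ⊥ → X = X₁ ∨ X = X₂) :
    ⁅(P : Subgroup S) ⊓ Subgroup.centralizer (X₁ : Set S), (P : Subgroup S) ⊓ Subgroup.centralizer (X₂ : Set S)⁆ = ⊥ ∧
      ((P : Subgroup S) ⊓ Subgroup.centralizer (X₁ : Set S)) ⊓ ((P : Subgroup S) ⊓ Subgroup.centralizer (X₂ : Set S)) = ⊥ ∧
      ((P : Subgroup S) ⊓ Subgroup.centralizer (X₁ : Set S)) ⊔ ((P : Subgroup S) ⊓ Subgroup.centralizer (X₂ : Set S)) = P := by
  have hp : p.Prime := Fact.out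
  have hq : q.Prime := Fact.out
  have hQcomm : ∀ x ∈ Q, ∀ y ∈ Q, x * y = y * x := by
    intro x hx y hy
    have h := hQ.1.is_comm.comm (⟨x, hx⟩ : Q) ⟨y, hy⟩
    exact congrArg Subtype.val h
  have hQq : ∀ x ∈ Q, x ^ q = 1 := hQ.2
  have hcopM : ∀ M : Subgroup S, M ≤ (P : Subgroup S) → (Nat.card M).Coprime q := by
    intro M hM
    obtain ⟨k, hk⟩ := IsPGroup.iff_card.mp (P.2.to_le hM)
    rw [hk]
    exact Nat.Coprime.pow_left k ((Nat.coprime_primes hp hq).mpr hpq)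
  have hQsolv : Group.IsSolvable Q :=
    Group.isSolvable_of_comm (fun a b => Subtype.ext (hQcomm a a.2 b b.2))
  -- zpowers facts
  have hzp : ∀ c ∈ Q, c ≠ 1 → Nat.card (zpowers c) = q := by
    intro c hc hc1
    rw [Nat.card_zpowers]
    exact orderOf_eq_prime (hQq c hc) hc1
  have hcent_zp : ∀ c x : S, x ∈ centralizer ({c} : Set S) → x ∈ centralizer ((zpowers c : Subgroup S) : Set S) := by
    intro c x hx
    rw [mem_centralizer_iff] at hx ⊢
    intro h hh
    obtain ⟨k, rfl⟩ := mem_zpowers_iff.mp hh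
    have h0 : Commute c x := hx c (Set.mem_singleton c)
    exact (h0.zpow_left k).eq
  have heqzp : ∀ X : Subgroup S, X ≤ Q → Nat.card X = q → ∀ a ∈ X, a ≠ 1 → X = zpowers a := by
    intro X hX hXc a ha ha1
    symm
    apply eq_of_le_of_card_ge
    · rw [zpowers_le]; exact ha
    · rw [hXc, hzp a (hX ha) ha1]
  -- generation
  have hgen : ∀ M : Subgroup S, M ≤ (P : Subgroup S) → Q ≤ normalizer (M : Set S) →
      M ≤ (M ⊓ centralizer (X₁ : Set S)) ⊔ (M ⊓ centralizer (X₂ : Set S)) := by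
    intro M hMP hQM
    apply Cfsg.Agent.Helper48.le_of_forall_inf_centralizer_le (p := q) Q M _ hQcomm hQq
      (by rw [hQc]) hQM (hcopM M hMP)
    intro c hc hc1
    set X := zpowers c with hX
    have hXQ : X ≤ Q := by rw [hX, zpowers_le]; exact hc
    have hXc : Nat.card X = q := hzp c hc hc1
    have hle : M ⊓ centralizer ({c} : Set S) ≤ M ⊓ centralizer (X : Set S) := by
      intro x hx
      exact ⟨hx.1, hcent_zp c x hx.2⟩
    by_cases hXP : (P : Subgroup S) ⊓ centralizer (X : Set S) = ⊥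
    · intro x hx
      have h1 : x ∈ (P : Subgroup S) ⊓ centralizer (X : Set S) := ⟨hMP (hle hx).1, (hle hx).2⟩
      rw [hXP, mem_bot] at h1
      rw [h1]; exact one_mem _
    · rcases honly X hXQ hXc hXP with h | h
      · rw [h] at hle; exact hle.trans le_sup_left
      · rw [h] at hle; exact hle.trans le_sup_right
  -- nontrivial elements
  have hne₁ : X₁ ≠ ⊥ := by
    intro h; rw [h, card_bot] at hc₁; exact hq.one_lt.ne hc₁
  have hne₂ : X₂ ≠ ⊥ := by
    intro h; rw [h, card_bot] at hc₂; exact hq.one_lt.ne hc₂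
  obtain ⟨a', ha'⟩ := (Subgroup.ne_bot_iff_exists_ne_one).mp hne₁
  obtain ⟨a, haX, ha1⟩ : ∃ a ∈ X₁, a ≠ 1 := ⟨a'.1, a'.2, fun h => ha' (Subtype.ext h)⟩
  obtain ⟨b', hb'⟩ := (Subgroup.ne_bot_iff_exists_ne_one).mp hne₂
  obtain ⟨b, hbX, hb1⟩ : ∃ b ∈ X₂, b ≠ 1 := ⟨b'.1, b'.2, fun h => hb' (Subtype.ext h)⟩
  have hX₁a : X₁ = zpowers a := heqzp X₁ h₁ hc₁ a haX ha1
  have hX₂b : X₂ = zpowers b := heqzp X₂ h₂ hc₂ b hbX hb1
  have hbX₁ : b ∉ X₁ := by
    intro hb
    apply h₁₂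
    symm
    apply eq_of_le_of_card_ge
    · rw [hX₂b, zpowers_le]; exact hb
    · rw [hc₁, hc₂]
  have haX₂ : a ∉ X₂ := by
    intro ha
    apply h₁₂
    apply eq_of_le_of_card_ge
    · rw [hX₁a, zpowers_le]; exact ha
    · rw [hc₁, hc₂]
  have habQ : a * b ∈ Q := Q.mul_mem (h₁ haX) (h₂ hbX)
  have hab1 : a * b ≠ 1 := by
    intro h
    apply hbX₁
    have : b = a⁻¹ := by rw [← mul_right_inj a, h, mul_inv_cancel]
    rw [this]; exact X₁.inv_mem haX
  have hX₃P : (P : Subgroup S) ⊓ centralizer ((zpowers (a * b) : Subgroup S) : Set S) = ⊥ := by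
    by_contra hcon
    have hX₃Q : zpowers (a * b) ≤ Q := by rw [zpowers_le]; exact habQ
    rcases honly _ hX₃Q (hzp _ habQ hab1) hcon with h | h
    · apply hbX₁
      have h3 : a * b ∈ X₁ := by rw [← h]; exact mem_zpowers _
      have h4 : b = a⁻¹ * (a * b) := by group
      rw [h4]; exact X₁.mul_mem (X₁.inv_mem haX) h3
    · apply haX₂
      have h3 : a * b ∈ X₂ := by rw [← h]; exact mem_zpowers _
      have h4 : a = (a * b) * b⁻¹ := by group
      rw [h4]; exact X₂.mul_mem h3 (X₂.inv_mem hbX)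
  -- (F2)
  have hF2 : ∀ x : S, x ∈ (P : Subgroup S) → x ∈ centralizer (X₁ : Set S) → x ∈ centralizer (X₂ : Set S) →
      x = 1 := by
    intro x hxP hx1 hx2
    have h3 : x ∈ (P : Subgroup S) ⊓ centralizer ((zpowers (a * b) : Subgroup S) : Set S) := by
      refine ⟨hxP, hcent_zp (a * b) x ?_⟩
      rw [mem_centralizer_iff]
      intro h hh
      rw [Set.mem_singleton_iff] at hh
      rw [hh]
      have e1 : a * x = x * a := (mem_centralizer_iff.mp hx1) a haX
      have e2 : b * x = x * b := (mem_centralizer_iff.mp hx2) b hbX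
      calc a * b * x = a * (b * x) := by group
        _ = a * (x * b) := by rw [e2]
        _ = (a * x) * b := by group
        _ = x * a * b := by rw [e1]
        _ = x * (a * b) := by group
    rw [hX₃P, mem_bot] at h3
    exact h3
  have hgoal2 : ((P : Subgroup S) ⊓ centralizer (X₁ : Set S)) ⊓ ((P : Subgroup S) ⊓ centralizer (X₂ : Set S)) = ⊥ := by
    rw [eq_bot_iff]
    intro x hx
    rw [mem_bot]
    exact hF2 x hx.1.1 hx.1.2 hx.2.2
  have hgoal3 : ((P : Subgroup S) ⊓ centralizer (X₁ : Set S)) ⊔ ((P : Subgroup S) ⊓ centralizer (X₂ : Set S)) = P := by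
    apply le_antisymm
    · exact sup_le inf_le_left inf_le_left
    · apply hgen (P : Subgroup S) le_rfl
      rw [normalizer_eq_top]; exact le_top
  refine ⟨?_, hgoal2, hgoal3⟩
  set P₁ := (P : Subgroup S) ⊓ centralizer (X₁ : Set S) with hP₁
  set P₂ := (P : Subgroup S) ⊓ centralizer (X₂ : Set S) with hP₂
  -- `Q` normalizes `P_j`
  have hQnorm : ∀ X : Subgroup S, X ≤ Q → Q ≤ normalizer (((P : Subgroup S) ⊓ centralizer (X : Set S) : Subgroup S) : Set S) := by
    intro X hX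
    apply le_normalizer_of_conj_mem
    intro s hs w hw
    refine ⟨Subgroup.Normal.conj_mem inferInstance _ hw.1 s, ?_⟩
    show s * w * s⁻¹ ∈ centralizer (X : Set S)
    rw [mem_centralizer_iff]
    intro c hc
    have hcw : c * w = w * c := (mem_centralizer_iff.mp hw.2) c hc
    have hsc : c * s = s * c := hQcomm c (hX hc) s hs
    have hsc' : s⁻¹ * c = c * s⁻¹ := hQcomm s⁻¹ (Q.inv_mem hs) c (hX hc)
    calc c * (s * w * s⁻¹) = (c * s) * w * s⁻¹ := by group
      _ = s * (c * w) * s⁻¹ := by rw [hsc]; group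
      _ = s * w * (c * s⁻¹) := by rw [hcw]; group
      _ = s * w * s⁻¹ * c := by rw [← hsc']; group
  -- `[P_2, X_1] = P_2` and `[P_1, X_2] = P_1`
  have hcommeq : ∀ X Y : Subgroup S, X ≤ Q → Y ≤ Q →
      (∀ x : S, x ∈ (P : Subgroup S) → x ∈ centralizer (Y : Set S) → x ∈ centralizer (X : Set S) → x = 1) →
      ⁅(P : Subgroup S) ⊓ centralizer (Y : Set S), X⁆ = (P : Subgroup S) ⊓ centralizer (Y : Set S) := by
    intro X Y hX hY hxy
    set B := (P : Subgroup S) ⊓ centralizer (Y : Set S) with hB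
    have hXB : X ≤ normalizer (B : Set S) := hX.trans (hQnorm Y hY)
    have hcop : (Nat.card X).Coprime (Nat.card B) := by
      have h1 := hcopM B inf_le_left
      have h2 : Nat.card X ∣ Nat.card Q := card_dvd_of_le hX
      rw [hQc] at h2
      exact Nat.Coprime.coprime_dvd_left h2 (Nat.Coprime.pow_left 2 h1.symm)
    have hXsolv : Group.IsSolvable X :=
      Group.isSolvable_of_comm (fun a b => Subtype.ext (hQcomm a (hX a.2) b (hX b.2)))
    have h3 := Cfsg.Agent.Helper52.eq_commutator_sup_centralizer B X hXB hcop (Or.inl hXsolv)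
    have h4 : B ⊓ centralizer (X : Set S) = ⊥ := by
      rw [eq_bot_iff]
      intro x hx
      rw [mem_bot]
      exact hxy x hx.1.1 hx.1.2 hx.2
    rw [h4, sup_bot_eq] at h3
    exact h3.symm
  have hB₂ : ⁅P₂, X₁⁆ = P₂ := hcommeq X₁ X₂ h₁ h₂ (fun x h1 h2 h3 => hF2 x h1 h3 h2)
  have hB₁ : ⁅P₁, X₂⁆ = P₁ := hcommeq X₂ X₁ h₂ h₁ (fun x h1 h2 h3 => hF2 x h1 h2 h3)
  -- `Q = X₁ ⊔ X₂`
  have hQsup : X₁ ⊔ X₂ = Q := by
    apply eq_of_le_of_card_ge (sup_le h₁ h₂)
    have h1 : Nat.card ((X₁ ⊔ X₂ : Subgroup S)) ∣ q ^ 2 := by rw [← hQc]; exact card_dvd_of_le (sup_le h₁ h₂)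
    obtain ⟨k, hk2, hk⟩ := (Nat.dvd_prime_pow hq).mp h1
    rw [hQc, hk]
    apply Nat.pow_le_pow_right hq.pos
    by_contra hlt
    have hk1 : k ≤ 1 := by omega
    have h3 : Nat.card ((X₁ ⊔ X₂ : Subgroup S)) ≤ Nat.card X₁ := by
      rw [hk, hc₁]
      calc q ^ k ≤ q ^ 1 := Nat.pow_le_pow_right hq.pos hk1
        _ = q := pow_one q
    have h4 : X₁ = X₁ ⊔ X₂ := eq_of_le_of_card_ge le_sup_left h3
    apply hbX₁
    rw [h4]
    exact (le_sup_right : X₂ ≤ X₁ ⊔ X₂) hbX
  -- the lower central series of `P`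
  have hLn : ∀ i : ℕ, ((P : Subgroup S).lowerCentralSeries i).Normal := by
    intro i
    induction i with
    | zero => rw [Subgroup.lowerCentralSeries_zero]; infer_instance
    | succ i ih =>
      rw [Subgroup.lowerCentralSeries_succ]
      haveI := ih
      infer_instance
  have hLP : ∀ i : ℕ, (P : Subgroup S).lowerCentralSeries i ≤ (P : Subgroup S) := by
    intro i
    have := (P : Subgroup S).lowerCentralSeries_antitone (Nat.zero_le i)
    rwa [Subgroup.lowerCentralSeries_zero] at this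
  have hmain : ∀ i : ℕ, ⁅P₁, P₂⁆ ≤ (P : Subgroup S).lowerCentralSeries i := by
    intro i
    induction i with
    | zero =>
      rw [Subgroup.lowerCentralSeries_zero]
      have : ⁅P₁, P₂⁆ ≤ ⁅(P : Subgroup S), (P : Subgroup S)⁆ := commutator_mono inf_le_left inf_le_left
      exact this.trans (commutator_le_left _ _)
    | succ i ih =>
      set Np := (P : Subgroup S).lowerCentralSeries i with hNp
      set N := (P : Subgroup S).lowerCentralSeries (i + 1) with hN
      have hNn : N.Normal := hLn (i + 1)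
      have hNpn : Np.Normal := hLn i
      have hNNp : N ≤ Np := (P : Subgroup S).lowerCentralSeries_antitone (Nat.le_succ i)
      have hNpP : ⁅Np, (P : Subgroup S)⁆ ≤ N := le_of_eq (Subgroup.lowerCentralSeries_succ _ i).symm
      have hgenNp : Np ≤ (Np ⊓ CN N X₁) ⊔ (Np ⊓ CN N X₂) := by
        have h1 := hgen Np (hLP i) (by rw [normalizer_eq_top]; exact le_top)
        refine h1.trans (sup_le_sup ?_ ?_)
        · intro w hw
          refine ⟨hw.1, ?_⟩
          refine (mem_CN_iff _ _ _).mpr ?_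
          intro c hc
          have := (mem_centralizer_iff.mp hw.2) c hc
          have h2 : w * c * w⁻¹ * c⁻¹ = 1 := by rw [← this]; group
          rw [h2]; exact one_mem _
        · intro w hw
          refine ⟨hw.1, ?_⟩
          refine (mem_CN_iff _ _ _).mpr ?_
          intro c hc
          have := (mem_centralizer_iff.mp hw.2) c hc
          have h2 : w * c * w⁻¹ * c⁻¹ = 1 := by rw [← this]; group
          rw [h2]; exact one_mem _
      have hE₂ : ⁅P₁, P₂⁆ ≤ Np ⊓ CN N X₂ :=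
        half_step (P : Subgroup S) Q hS hQcomm N Np hNNp hNpP X₁ X₂ h₂ P₁ P₂ inf_le_right hB₂ ih hgenNp
      have hE₁ : ⁅P₂, P₁⁆ ≤ Np ⊓ CN N X₁ :=
        half_step (P : Subgroup S) Q hS hQcomm N Np hNNp hNpP X₂ X₁ h₁ P₂ P₁ inf_le_right hB₁
          (by rw [commutator_comm]; exact ih) (by rw [sup_comm]; exact hgenNp)
      rw [commutator_comm] at hE₁
      intro w hw
      have hwNp : w ∈ Np := (hE₂ hw).1
      have hwQ : w ∈ CN N Q := by
        rw [← hQsup]
        exact CN_inf_le N X₁ X₂ ⟨(hE₁ hw).2, (hE₂ hw).2⟩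
      rw [mem_CN_iff] at hwQ
      have hcop : (Nat.card Q).Coprime (Nat.card Np) := by
        rw [hQc]
        exact Nat.Coprime.pow_left 2 (hcopM Np (hLP i)).symm
      obtain ⟨n, hn, c, hc, hwc⟩ := Cfsg.Agent.Helper52.exists_mul_centralizer_of_comm_mem Np N Q hNNp
        (by rw [normalizer_eq_top]; exact le_top) (by rw [normalizer_eq_top]; exact le_top)
        hcop (Or.inr hQsolv) w hwNp hwQ
      have hc1 : c = 1 := by
        apply hF2 c (hLP i hc.1)
        · exact centralizer_le (show (X₁ : Set S) ⊆ Q from h₁) hc.2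
        · exact centralizer_le (show (X₂ : Set S) ⊆ Q from h₂) hc.2
      rw [hwc, hc1, mul_one]
      exact hn
  have hnil : Group.IsNilpotent (P : Subgroup S) := P.2.isNilpotent
  obtain ⟨m, hm⟩ := (Subgroup.isNilpotent_iff_lowerCentralSeries (P : Subgroup S)).mp hnil
  rw [eq_bot_iff, ← hm]
  exact hmain m

end Cfsg.Agent.S1900

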