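import Cfsg.Statements.S1901
import Cfsg.Agent.Lib.Helper76.PSolvable
import Cfsg.Agent.Lib.Helper52.Coprime
import Cfsg.Agent.Lib.Helper32.Basic

set_option autoImplicit false
open Cfsg

namespace Cfsg.Agent.S1901

open Subgroup
open scoped commutatorElement

universe u

/-- If a Sylow `p`-subgroup `P` centralizes `Q`, every `p`-subgroup of `N_G(Q)` centralizes `Q`. -/
theorem le_centralizer_of_sylow_le {G : Type*} [Group G] [Finite G] {p : ℕ} [Fact p.Prime]
    (P : Sylow p G) (Q A : Subgroup G) (hPQ : (P : Subgroup G) ≤ centralizer (Q : Set G))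
    (hA : IsPGroup p A) (hAQ : A ≤ normalizer (Q : Set G)) : A ≤ centralizer (Q : Set G) := by
  set NQ := normalizer (Q : Set G) with hNQ
  have hCN : centralizer (Q : Set G) ≤ NQ := by
    intro c hc
    rw [hNQ, mem_normalizer_iff]
    intro x
    rw [mem_centralizer_iff] at hc
    constructor
    · intro hx
      have := hc x hx
      have e : c * x * c⁻¹ = x := by rw [← this]; group
      rw [e]; exact hx
    · intro hx
      have := hc _ hx
      have e : x = c⁻¹ * (c * x * c⁻¹) * c := by group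
      have e2 : c⁻¹ * (c * x * c⁻¹) * c = c * x * c⁻¹ := by
        calc c⁻¹ * (c * x * c⁻¹) * c = c⁻¹ * ((c * x * c⁻¹) * c) := by group
          _ = c⁻¹ * (c * (c * x * c⁻¹)) := by rw [this]
          _ = c * x * c⁻¹ := by group
      rw [e, e2]; exact hx
  have hPN : (P : Subgroup G) ≤ NQ := hPQ.trans hCN
  let P' : Sylow p NQ := P.subtype hPN
  have hA' : IsPGroup p (A.subgroupOf NQ) := hA.comap_subtype
  obtain ⟨n, hn⟩ := Cfsg.Agent.Helper32.exists_conj_le_sylow P' (A.subgroupOf NQ) hA'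
  intro a ha
  have h1 := hn ⟨a, hAQ ha⟩ (mem_subgroupOf.mpr ha)
  have h2 : ((n * ⟨a, hAQ ha⟩ * n⁻¹ : NQ) : G) ∈ (P : Subgroup G) := by
    have : (n * ⟨a, hAQ ha⟩ * n⁻¹ : NQ) ∈ (P.subtype hPN : Subgroup NQ) := h1
    rw [Sylow.coe_subtype] at this
    exact mem_subgroupOf.mp this
  have h3 : (n : G) * a * (n : G)⁻¹ ∈ centralizer (Q : Set G) := hPQ (by simpa using h2)
  rw [mem_centralizer_iff] at h3 ⊢
  intro x hx
  have hn' : (n : G)⁻¹ ∈ NQ := NQ.inv_mem n.2
  have hx' : (n : G) * x * (n : G)⁻¹ ∈ Q := (mem_normalizer_iff.mp n.2 x).mp hx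
  have h4 := h3 _ hx'
  calc x * a = (n : G)⁻¹ * (((n : G) * x * (n : G)⁻¹) * ((n : G) * a * (n : G)⁻¹)) * (n : G) := by group
    _ = (n : G)⁻¹ * (((n : G) * a * (n : G)⁻¹) * ((n : G) * x * (n : G)⁻¹)) * (n : G) := by rw [h4]
    _ = a * x := by group

/-- the main induction. -/
theorem main (p : ℕ) [hp : Fact p.Prime] : ∀ (n : ℕ) (G : Type u) [Group G] [Finite G],
    Nat.card G = n → Cfsg.IsPSolvable p G → ∀ (Q A : Subgroup G), (Nat.card Q).Coprime p →
    IsPGroup p A → A ≤ normalizer (Q : Set G) → ⁅Q, A⁆ = Q → Q ≠ ⊥ →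
    ∀ P : Sylow p G, ¬ Q ≤ normalizer ((P : Subgroup G) : Set G) := by
  intro n
  induction n using Nat.strong_induction_on with
  | _ n ih =>
  intro G _ _ hcard hG Q A hQ hA hAQ hcomm hQ1 P hQP
  -- a nontrivial normal `p`- or `p'`-subgroup
  have hbt : (⊥ : Subgroup G) < ⊤ := by
    rw [bot_lt_iff_ne_bot]
    intro h
    apply hQ1
    rw [eq_bot_iff, ← h]; exact le_top
  obtain ⟨N, hNn, hN1, -, hN⟩ := Cfsg.Agent.Helper76.IsPSolvable.exists_step hG ⊥ ⊤ hbt
  rw [relIndex_bot_left] at hN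
  have hN1' : N ≠ ⊥ := (bot_lt_iff_ne_bot.mp hN1)
  -- the quotient step
  have hquot : ¬ Q ≤ N → False := by
    intro hQN
    have hlt : Nat.card (G ⧸ N) < n := by
      rw [← hcard, ← N.card_mul_index, ← Subgroup.index_eq_card]
      have h1 : 1 < Nat.card N := by
        rcases Nat.lt_or_ge 1 (Nat.card N) with h | h
        · exact h
        · exfalso
          apply hN1'
          apply (Subgroup.card_eq_one).mp
          have := Nat.card_pos (α := N)
          omega
      have h2 : 0 < N.index := Nat.pos_of_ne_zero (Subgroup.index_ne_zero_of_finite)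
      nlinarith
    set π := QuotientGroup.mk' N with hπ
    have hsurj : Function.Surjective π := QuotientGroup.mk'_surjective N
    have hGq : Cfsg.IsPSolvable p (G ⧸ N) := Cfsg.Agent.Helper76.IsPSolvable.quotient hG N
    refine ih _ hlt (G ⧸ N) rfl hGq (Q.map π) (A.map π) ?_ (hA.map π) ?_ ?_ ?_ (P.mapSurjective hsurj) ?_
    · exact Nat.Coprime.coprime_dvd_left (Subgroup.card_map_dvd Q π) hQ
    · exact (Subgroup.map_mono hAQ).trans (le_normalizer_map π)
    · rw [← map_commutator, hcomm]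
    · intro h
      apply hQN
      rw [Subgroup.map_eq_bot_iff, QuotientGroup.ker_mk'] at h
      exact h
    · rw [Sylow.coe_mapSurjective]
      exact (Subgroup.map_mono hQP).trans (le_normalizer_map π)
  rcases hN with ⟨m, hm⟩ | hNc
  · -- `N` is a `p`-group
    apply hquot
    intro hQN
    apply hQ1
    apply (Subgroup.card_eq_one).mp
    have h1 : Nat.card Q ∣ p ^ m := by rw [← hm]; exact card_dvd_of_le hQN
    exact Nat.Coprime.eq_one_of_dvd (Nat.Coprime.pow_right m hQ) h1
  · -- `N` is a `p'`-group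
    by_cases hQN : Q ≤ N
    swap
    · exact hquot hQN
    -- `P` centralizes `Q`
    have hdisj : (P : Subgroup G) ⊓ N = ⊥ := by
      apply Disjoint.eq_bot
      apply Subgroup.disjoint_of_coprime_natCard
      obtain ⟨k, hk⟩ := IsPGroup.iff_card.mp P.2
      rw [hk]
      exact (Nat.Coprime.pow_right k hNc).symm
    have hPQ : (P : Subgroup G) ≤ centralizer (Q : Set G) := by
      intro x hx
      rw [mem_centralizer_iff]
      intro q hq
      have h1 : q * x * q⁻¹ * x⁻¹ ∈ (P : Subgroup G) := by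
        apply (P : Subgroup G).mul_mem _ ((P : Subgroup G).inv_mem hx)
        exact (mem_normalizer_iff.mp (hQP hq) x).mp hx
      have h2 : q * x * q⁻¹ * x⁻¹ ∈ N := by
        have e : q * x * q⁻¹ * x⁻¹ = q * (x * q⁻¹ * x⁻¹) := by group
        rw [e]
        exact N.mul_mem (hQN hq) (hNn.conj_mem _ (N.inv_mem (hQN hq)) x)
      have h3 : q * x * q⁻¹ * x⁻¹ ∈ (P : Subgroup G) ⊓ N := ⟨h1, h2⟩
      rw [hdisj, mem_bot] at h3
      calc q * x = (q * x * q⁻¹ * x⁻¹) * (x * q) := by group
        _ = x * q := by rw [h3, one_mul]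
    have hAC := le_centralizer_of_sylow_le P Q A hPQ hA hAQ
    apply hQ1
    rw [← hcomm, commutator_eq_bot_iff_le_centralizer, le_centralizer_iff]
    exact hAC

/-- Let G be a finite p-solvable group and Q a subgroup of order prime to p such that p divides the index of C_G(Q) in N_G(Q). Then Q normalizes no Sylow p-subgroup of G. -/
theorem result {G : Type*} [Group G] [Finite G] {p : ℕ} [Fact p.Prime]
    (hG : Cfsg.IsPSolvable p G) (Q : Subgroup G) (hQ : ¬ p ∣ Nat.card Q)
    (hA : p ∣ (Subgroup.centralizer (Q : Set G)).relIndex (Subgroup.normalizer (Q : Set G)))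
    (P : Sylow p G) : ¬ Q ≤ Subgroup.normalizer ((P : Subgroup G) : Set G) := by
  have hp : p.Prime := Fact.out
  intro hQP
  set NQ := normalizer (Q : Set G) with hNQ
  set C := centralizer (Q : Set G) with hC
  have hQcop : (Nat.card Q).Coprime p := ((Nat.Prime.coprime_iff_not_dvd hp).mpr hQ).symm
  -- a Sylow `p`-subgroup of `N_G(Q)`
  obtain ⟨A'⟩ : Nonempty (Sylow p NQ) := inferInstance
  set A : Subgroup G := (A' : Subgroup NQ).map NQ.subtype with hAdef
  have hAp : IsPGroup p A := A'.2.map _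
  have hANQ : A ≤ NQ := map_subtype_le _
  have hAnotC : ¬ A ≤ C := by
    intro hAC
    have h1 : C.relIndex NQ ∣ A.relIndex NQ := relIndex_dvd_of_le_left NQ hAC
    have h2 : A.relIndex NQ = (A' : Subgroup NQ).index := by
      rw [relIndex, hAdef]
      congr 1
      exact comap_map_eq_self_of_injective NQ.subtype_injective _
    have h3 : ¬ p ∣ (A' : Subgroup NQ).index := A'.not_dvd_index
    apply h3
    rw [← h2]
    exact hA.trans h1
  -- `Q₁ = [Q, A]`
  set Q₁ := ⁅Q, A⁆ with hQ₁
  have hQ₁Q : Q₁ ≤ Q := Cfsg.Agent.Helper24.commutator_le_of_le_normalizer Q A hANQ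
  have hcop : (Nat.card A).Coprime (Nat.card Q) := by
    obtain ⟨k, hk⟩ := IsPGroup.iff_card.mp hAp
    rw [hk]
    exact (Nat.Coprime.pow_right k hQcop).symm
  have hAsolv : Group.IsSolvable A := by
    have : Group.IsNilpotent A := hAp.isNilpotent
    infer_instance
  have hcc : ⁅Q₁, A⁆ = Q₁ :=
    Cfsg.Agent.Helper52.commutator_commutator_eq Q A hANQ hcop (Or.inl hAsolv)
  have hQ₁ne : Q₁ ≠ ⊥ := by
    intro h
    apply hAnotC
    rw [hQ₁, commutator_eq_bot_iff_le_centralizer, le_centralizer_iff] at h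
    exact h
  have hQ₁cop : (Nat.card Q₁).Coprime p :=
    Nat.Coprime.coprime_dvd_left (card_dvd_of_le hQ₁Q) hQcop
  exact main p _ G rfl hG Q₁ A hQ₁cop hAp (normalizer_commutator_ge_right Q A) hcc hQ₁ne P
    (hQ₁Q.trans hQP)

end Cfsg.Agent.S1901
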