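import Cfsg.Statements.S1922
import Mathlib.GroupTheory.Perm.Cycle.Type
import Mathlib.GroupTheory.GroupAction.Quotient
import Mathlib.Tactic
import Cfsg.Agent.Lib.Helper32.Basic

set_option autoImplicit false
open Cfsg

namespace Cfsg.Agent.S1922

variable {G : Type*} [Group G]

theorem mem_map_conj_iff (H : Subgroup G) (g x : G) :
    x ∈ H.map (MulAut.conj g).toMonoidHom ↔ g⁻¹ * x * g ∈ H := by
  constructor
  · rintro ⟨y, hy, rfl⟩
    simp only [MulEquiv.coe_toMonoidHom, MulAut.conj_apply]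
    have : g⁻¹ * (g * y * g⁻¹) * g = y := by group
    rw [this]; exact hy
  · intro h
    refine ⟨g⁻¹ * x * g, h, ?_⟩
    simp only [MulEquiv.coe_toMonoidHom, MulAut.conj_apply]
    group

theorem smul_mk_eq_iff (H : Subgroup G) (x g : G) :
    x • (g : G ⧸ H) = (g : G ⧸ H) ↔ g⁻¹ * x * g ∈ H := by
  rw [MulAction.Quotient.smul_mk, QuotientGroup.eq, smul_eq_mul]
  rw [← inv_mem_iff (H := H)]
  have : ((x * g)⁻¹ * g)⁻¹ = g⁻¹ * x * g := by group
  rw [this]

/-- involution on a finite type with exactly one fixed point: odd cardinality -/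
theorem odd_card_of_involution {α : Type*} [Finite α] (f : α → α) (hf : ∀ x, f (f x) = x)
    (a : α) (ha : ∀ x, f x = x ↔ x = a) : Odd (Nat.card α) := by
  classical
  have := Fintype.ofFinite α
  let F : Function.End α := f
  have h2 : F ^ 2 ^ 1 = 1 := by
    funext x
    show (F ^ 2 ^ 1) x = x
    rw [pow_one, pow_two]
    exact hf x
  have key := Equiv.Perm.card_fixedPoints_modEq (p := 2) (n := 1) h2
  have hfix : Fintype.card (Function.fixedPoints F) = 1 := by
    rw [Fintype.card_eq_one_iff]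
    refine ⟨⟨a, (ha a).mpr rfl⟩, ?_⟩
    rintro ⟨x, hx⟩
    ext
    exact (ha x).mp hx
  rw [hfix] at key
  rw [Nat.card_eq_fintype_card, Nat.odd_iff]
  exact key



theorem inv_eq_self_of_sq {x : G} (hx : x * x = 1) : x⁻¹ = x :=
  inv_eq_of_mul_eq_one_right hx

theorem commute_of_involutions {x y : G} (hx : x * x = 1) (hy : y * y = 1)
    (hxy : (x * y) * (x * y) = 1) : Commute x y := by
  show x * y = y * x
  have h1 : (x * y)⁻¹ = x * y := inv_eq_self_of_sq hxy
  rw [mul_inv_rev, inv_eq_self_of_sq hx, inv_eq_self_of_sq hy] at h1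
  exact h1.symm

theorem conj_inv_of_mem_zpowers (a d : G) (had : a * d * a⁻¹ = d⁻¹) (y : G)
    (hy : y ∈ Subgroup.zpowers d) : a * y * a⁻¹ = y⁻¹ := by
  obtain ⟨i, rfl⟩ := Subgroup.mem_zpowers_iff.mp hy
  rw [← conj_zpow, had, inv_zpow]

/-- conjugating the involution `a` by `y` inverted by `a` gives `y^2 * a` -/
theorem conj_eq_sq_mul (a y : G) (ha : a * a = 1) (hay : a * y * a⁻¹ = y⁻¹) :
    y * a * y⁻¹ = y * y * a := by
  have h1 : a * y⁻¹ = y * a := by
    have : a * y⁻¹ * a⁻¹ = y := by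
      have := congrArg (·⁻¹) hay
      simp only [mul_inv_rev, inv_inv] at this
      rw [← mul_assoc] at this
      exact this
    calc a * y⁻¹ = a * y⁻¹ * a⁻¹ * a := by group
      _ = y * a := by rw [this]
  calc y * a * y⁻¹ = y * (a * y⁻¹) := by group
    _ = y * (y * a) := by rw [h1]
    _ = y * y * a := by group

theorem dihedral [Finite G] (a b : G) (ha : a * a = 1) (hb : b * b = 1) :
    (∃ c, IsConj a c ∧ c * c = 1 ∧ c * a * c⁻¹ = b ∧
      ∀ x : G, Commute x a → Commute x b → Commute x c) ∨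
    (∃ a₁ a₂, IsConj a a₁ ∧ (a₂ = a ∨ a₂ = b) ∧ a₁ ≠ a₂ ∧ Commute a₁ a₂ ∧
      Commute (a₁ * a₂) a ∧ Commute (a₁ * a₂) b) := by
  have hai : a⁻¹ = a := inv_eq_self_of_sq ha
  have hbi : b⁻¹ = b := inv_eq_self_of_sq hb
  set d := a * b with hd
  have had : a * d * a⁻¹ = d⁻¹ := by
    rw [hd, mul_inv_rev, hai, hbi, ← mul_assoc, ha, one_mul]
  have hbd : b * d * b⁻¹ = d⁻¹ := by
    rw [hd, mul_inv_rev, hai, hbi, mul_assoc, mul_assoc, hb, mul_one]
  have hkpos : 0 < orderOf d := orderOf_pos d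
  rcases Nat.even_or_odd (orderOf d) with hk | hk
  · -- even case
    right
    obtain ⟨l, hl⟩ := hk
    have hl' : orderOf d = 2 * l := by omega
    have hlpos : 0 < l := by omega
    set w := d ^ l with hw
    have hw1 : w ≠ 1 := by
      apply pow_ne_one_of_lt_orderOf (by omega)
      omega
    have hww : w * w = 1 := by
      rw [hw, ← pow_add, ← two_mul, ← hl', pow_orderOf_eq_one]
    have hwi : w⁻¹ = w := inv_eq_self_of_sq hww
    have hwa : Commute w a := by
      have h1 : a * w * a⁻¹ = w⁻¹ :=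
        conj_inv_of_mem_zpowers a d had w (Subgroup.pow_mem _ (Subgroup.mem_zpowers d) l)
      rw [hwi] at h1
      show w * a = a * w
      calc w * a = a * w * a⁻¹ * a := by rw [h1]
        _ = a * w := by group
    have hwb : Commute w b := by
      have h1 : b * w * b⁻¹ = w⁻¹ :=
        conj_inv_of_mem_zpowers b d hbd w (Subgroup.pow_mem _ (Subgroup.mem_zpowers d) l)
      rw [hwi] at h1
      show w * b = b * w
      calc w * b = b * w * b⁻¹ * b := by rw [h1]
        _ = b * w := by group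
    rcases Nat.even_or_odd l with hle | hlo
    · obtain ⟨i, hi⟩ := hle
      set y := d ^ i with hy
      have hay : a * y * a⁻¹ = y⁻¹ :=
        conj_inv_of_mem_zpowers a d had y (Subgroup.pow_mem _ (Subgroup.mem_zpowers d) i)
      have hyy : y * y = w := by
        rw [hy, hw, ← pow_add, hi]
      have e1 : y * a * y⁻¹ = w * a := by
        rw [conj_eq_sq_mul a y ha hay, hyy]
      have e2 : (y * a * y⁻¹) * a = w := by
        rw [e1, mul_assoc, ha, mul_one]
      refine ⟨y * a * y⁻¹, a, isConj_iff.mpr ⟨y, rfl⟩, Or.inl rfl, ?_, ?_, ?_, ?_⟩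
      · intro h
        rw [e1] at h
        exact hw1 (mul_eq_right.mp h)
      · apply commute_of_involutions _ ha
        · rw [e2]; exact hww
        · rw [e1]
          calc w * a * (w * a) = w * (a * w) * a := by group
            _ = w * (w * a) * a := by rw [hwa.eq]
            _ = (w * w) * (a * a) := by group
            _ = 1 := by rw [hww, ha, one_mul]
      · rw [e2]; exact hwa
      · rw [e2]; exact hwb
    · obtain ⟨i, hi⟩ := hlo
      set y := d ^ i with hy
      have hay : a * y * a⁻¹ = y⁻¹ :=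
        conj_inv_of_mem_zpowers a d had y (Subgroup.pow_mem _ (Subgroup.mem_zpowers d) i)
      have hyy : y * y * d = w := by
        rw [hy, hw, ← pow_add, ← pow_succ, hi]
        congr 1; omega
      have e1 : y * a * y⁻¹ = y * y * a := conj_eq_sq_mul a y ha hay
      have e2 : (y * a * y⁻¹) * b = w := by
        rw [e1, ← hyy, hd]; group
      have e3 : (y * a * y⁻¹) * (y * a * y⁻¹) = 1 := by
        calc (y * a * y⁻¹) * (y * a * y⁻¹) = y * (a * a) * y⁻¹ := by group
          _ = 1 := by rw [ha]; group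
      refine ⟨y * a * y⁻¹, b, isConj_iff.mpr ⟨y, rfl⟩, Or.inr rfl, ?_, ?_, ?_, ?_⟩
      · intro h
        rw [h] at e2
        rw [hb] at e2
        exact hw1 e2.symm
      · apply commute_of_involutions e3 hb
        rw [e2]; exact hww
      · rw [e2]; exact hwa
      · rw [e2]; exact hwb
  · -- odd case
    left
    have hcard : Nat.card (Subgroup.zpowers d) = orderOf d := Nat.card_zpowers d
    have hcop : (Nat.card (Subgroup.zpowers d)).Coprime 4 := by
      rw [hcard]
      have : (orderOf d).Coprime 2 := Nat.Coprime.symm (Nat.coprime_two_left.mpr hk)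
      exact Nat.Coprime.pow_right 2 this
    obtain ⟨⟨y, hy⟩, hy4⟩ := (Nat.Coprime.pow_left_bijective hcop).2
      (⟨d⁻¹, Subgroup.inv_mem _ (Subgroup.mem_zpowers d)⟩ : Subgroup.zpowers d)
    have hy4' : y ^ 4 = d⁻¹ := by
      have := congrArg Subtype.val hy4
      simpa using this
    have hay : a * y * a⁻¹ = y⁻¹ := conj_inv_of_mem_zpowers a d had y hy
    have e1 : y * a * y⁻¹ = y * y * a := conj_eq_sq_mul a y ha hay
    have e3 : (y * a * y⁻¹) * (y * a * y⁻¹) = 1 := by
      calc (y * a * y⁻¹) * (y * a * y⁻¹) = y * (a * a) * y⁻¹ := by group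
        _ = 1 := by rw [ha]; group
    refine ⟨y * a * y⁻¹, isConj_iff.mpr ⟨y, rfl⟩, e3, ?_, ?_⟩
    swap
    · intro x hxa hxb
      have hxd : Commute x d := hxa.mul_right hxb
      have hxy : Commute x y := by
        obtain ⟨i, rfl⟩ := Subgroup.mem_zpowers_iff.mp hy
        exact hxd.zpow_right i
      exact (hxy.mul_right hxa).mul_right hxy.inv_right
    rw [inv_eq_self_of_sq e3, e1]
    have h2 : a * (y * y) = (y * y)⁻¹ * a := by
      have : a * (y * y) * a⁻¹ = (y * y)⁻¹ :=
        conj_inv_of_mem_zpowers a d had (y * y) (Subgroup.mul_mem _ hy hy)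
      calc a * (y * y) = a * (y * y) * a⁻¹ * a := by group
        _ = (y * y)⁻¹ * a := by rw [this]
    calc y * y * a * a * (y * y * a) = y * y * (a * a) * (y * y) * a := by group
      _ = y ^ 4 * a := by
          rw [ha, mul_one, show (4 : ℕ) = 2 + 2 from rfl, pow_add, pow_two]
      _ = d⁻¹ * a := by rw [hy4']
      _ = b := by rw [hd, mul_inv_rev, hai, hbi, mul_assoc, ha, mul_one]


/-- `x` has the unique fixed point `q` on `G ⧸ H` -/
def Uq (H : Subgroup G) (x : G) (q : G ⧸ H) : Prop := ∀ r : G ⧸ H, x • r = r ↔ r = q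

theorem Uq_one_iff (H : Subgroup G) (x : G) :
    Uq H x ((1 : G) : G ⧸ H) ↔ ∀ g : G, x ∈ H.map (MulAut.conj g).toMonoidHom ↔ g ∈ H := by
  constructor
  · intro h g
    rw [mem_map_conj_iff, ← smul_mk_eq_iff, h]
    rw [QuotientGroup.eq]
    constructor
    · intro h1
      have := H.inv_mem h1
      simpa using this
    · intro h1
      have := H.inv_mem h1
      simpa using this
  · intro h r
    induction r using QuotientGroup.induction_on with
    | H g =>
      rw [smul_mk_eq_iff, ← mem_map_conj_iff, h g, QuotientGroup.eq]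
      constructor
      · intro h1
        have := H.inv_mem h1
        simpa using this
      · intro h1
        have := H.inv_mem h1
        simpa using this

theorem Uq.fix {H : Subgroup G} {x : G} {q : G ⧸ H} (h : Uq H x q) : x • q = q := (h q).mpr rfl

theorem Uq.unique {H : Subgroup G} {x : G} {q q' : G ⧸ H} (h : Uq H x q) (h' : Uq H x q') :
    q = q' := (h' q).mp h.fix

theorem Uq.conj {H : Subgroup G} {x : G} {q : G ⧸ H} (h : Uq H x q) (y : G) :
    Uq H (y * x * y⁻¹) (y • q) := by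
  intro r
  rw [mul_smul, mul_smul, smul_eq_iff_eq_inv_smul, h, inv_smul_eq_iff]

theorem Uq.of_commute {H : Subgroup G} {x : G} {q : G ⧸ H} (h : Uq H x q) {y : G}
    (hy : Commute y x) : y • q = q := by
  apply (h _).mp
  rw [← mul_smul, ← hy.eq, mul_smul, h.fix]

section core

variable [Finite G] (H : Subgroup G) (z : G) (hzz : z * z = 1)
  (h0 : Uq H z ((1 : G) : G ⧸ H))
  (hA : ∀ t : G, IsConj z t → t ≠ z → t * z = z * t → Uq H (z * t) ((1 : G) : G ⧸ H))

include hzz in
theorem conj_sq {a : G} (ha : IsConj z a) : a * a = 1 := by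
  obtain ⟨y, rfl⟩ := isConj_iff.mp ha
  calc y * z * y⁻¹ * (y * z * y⁻¹) = y * (z * z) * y⁻¹ := by group
    _ = 1 := by rw [hzz]; group

include h0 in
theorem exists_pt {a : G} (ha : IsConj z a) :
    ∃ y : G, y * z * y⁻¹ = a ∧ Uq H a (y • ((1 : G) : G ⧸ H)) := by
  obtain ⟨y, rfl⟩ := isConj_iff.mp ha
  exact ⟨y, rfl, h0.conj y⟩

include h0 hA in
theorem propA' {a₁ a₂ : G} (h1 : IsConj z a₁) (h2 : IsConj z a₂) (hne : a₁ ≠ a₂)
    (hc : Commute a₁ a₂) {q : G ⧸ H} (hq : Uq H a₁ q) : Uq H (a₁ * a₂) q := by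
  obtain ⟨y, rfl, hy⟩ := exists_pt H z h0 h1
  have hqy : q = y • ((1 : G) : G ⧸ H) := hq.unique hy
  set t := y⁻¹ * a₂ * y with ht
  have ht1 : IsConj z t := by
    obtain ⟨y₂, rfl⟩ := isConj_iff.mp h2
    rw [isConj_iff]
    refine ⟨y⁻¹ * y₂, ?_⟩
    rw [ht]; group
  have ht2 : t ≠ z := by
    intro h
    apply hne
    rw [ht] at h
    rw [← h]; group
  have ht3 : t * z = z * t := by
    have := hc.eq
    rw [ht]
    calc y⁻¹ * a₂ * y * z = y⁻¹ * (a₂ * (y * z * y⁻¹)) * y := by group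
      _ = y⁻¹ * ((y * z * y⁻¹) * a₂) * y := by rw [this]
      _ = z * (y⁻¹ * a₂ * y) := by group
  have := (hA t ht1 ht2 ht3).conj y
  rw [hqy]
  have e : y * (z * t) * y⁻¹ = y * z * y⁻¹ * a₂ := by
    rw [ht]; group
  rw [e] at this
  exact this

include hzz h0 hA in
theorem step1 {a b : G} (ha : IsConj z a) (hb : IsConj z b) {qa qb : G ⧸ H}
    (hqa : Uq H a qa) (hqb : Uq H b qb) (hne : qa ≠ qb) :
    ∃ c, IsConj z c ∧ c * c = 1 ∧ c * a * c⁻¹ = b ∧
      ∀ x : G, Commute x a → Commute x b → Commute x c := by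
  rcases dihedral a b (conj_sq z hzz ha) (conj_sq z hzz hb) with
    ⟨c, hc1, hc2, hc3, hc4⟩ | ⟨a₁, a₂, h1, h2, h3, h4, h5, h6⟩
  · exact ⟨c, ha.trans hc1, hc2, hc3, hc4⟩
  · exfalso
    have h1' : IsConj z a₁ := ha.trans h1
    have h2' : IsConj z a₂ := by
      rcases h2 with rfl | rfl
      · exact ha
      · exact hb
    obtain ⟨y, _, hy⟩ := exists_pt H z h0 h1'
    have hw := propA' H z h0 hA h1' h2' h3 h4 hy
    have e1 : a • (y • ((1 : G) : G ⧸ H)) = y • ((1 : G) : G ⧸ H) := hw.of_commute h5.symm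
    have e2 : b • (y • ((1 : G) : G ⧸ H)) = y • ((1 : G) : G ⧸ H) := hw.of_commute h6.symm
    have e3 := (hqa _).mp e1
    have e4 := (hqb _).mp e2
    exact hne (e3.symm.trans e4)

/-- conjugates of `z` moving the base point to `β` -/
def XSet (β : G ⧸ H) : Type _ := {c : G // IsConj z c ∧ c • ((1 : G) : G ⧸ H) = β}

/-- conjugates of `z` with fixed point `q` -/
def ISet (q : G ⧸ H) : Type _ := {b : G // IsConj z b ∧ Uq H b q}

instance (β : G ⧸ H) : Finite (XSet H z β) := by unfold XSet; infer_instance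
instance (q : G ⧸ H) : Finite (ISet H z q) := by unfold ISet; infer_instance

include hzz h0 hA in
theorem card_XSet_eq {β : G ⧸ H} (hβ : β ≠ ((1 : G) : G ⧸ H)) :
    Nat.card (XSet H z β) = Nat.card (ISet H z β) := by
  apply Nat.card_eq_of_bijective
    (fun c : XSet H z β => (⟨c.1 * z * c.1⁻¹, isConj_iff.mpr ⟨c.1, rfl⟩, by
      have := h0.conj c.1
      rw [c.2.2] at this
      exact this⟩ : ISet H z β))
  -- key: each c in X with c z c⁻¹ = b equals the canonical c₀
  have key : ∀ (b : G) (hb : IsConj z b) (hbq : Uq H b β), ∃ c₀ : G, IsConj z c₀ ∧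
      c₀ • ((1 : G) : G ⧸ H) = β ∧ c₀ * z * c₀⁻¹ = b ∧
      ∀ c : G, IsConj z c → c * z * c⁻¹ = b → c = c₀ := by
    intro b hb hbq
    obtain ⟨c₀, hc1, hc2, hc3, hc4⟩ := step1 H z hzz h0 hA (IsConj.refl z) hb h0 hbq hβ.symm
    have hc₀pt : c₀ • ((1 : G) : G ⧸ H) = β := by
      have := h0.conj c₀
      rw [hc3] at this
      exact this.unique hbq
    refine ⟨c₀, hc1, hc₀pt, hc3, ?_⟩
    intro c hc hcb
    by_contra hne
    have hcc : c * c = 1 := conj_sq z hzz hc
    have hci : c⁻¹ = c := inv_eq_self_of_sq hcc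
    have hc₀i : c₀⁻¹ = c₀ := inv_eq_self_of_sq hc2
    -- c b c⁻¹ = z and c₀ b c₀⁻¹ = z
    have hcb' : c * b * c⁻¹ = z := by
      rw [← hcb, hci]
      calc c * (c * z * c) * c = (c * c) * z * (c * c) := by group
        _ = z := by rw [hcc]; group
    have hc₀b' : c₀ * b * c₀⁻¹ = z := by
      rw [← hc3, hc₀i]
      calc c₀ * (c₀ * z * c₀) * c₀ = (c₀ * c₀) * z * (c₀ * c₀) := by group
        _ = z := by rw [hc2]; group
    set y := c * c₀ with hy
    have hyz : Commute y z := by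
      show y * z = z * y
      have : y * z * y⁻¹ = z := by
        rw [hy]
        calc c * c₀ * z * (c * c₀)⁻¹ = c * (c₀ * z * c₀⁻¹) * c⁻¹ := by group
          _ = z := by rw [hc3, hcb']
      calc y * z = y * z * y⁻¹ * y := by group
        _ = z * y := by rw [this]
    have hyb : Commute y b := by
      show y * b = b * y
      have : y * b * y⁻¹ = b := by
        rw [hy]
        calc c * c₀ * b * (c * c₀)⁻¹ = c * (c₀ * b * c₀⁻¹) * c⁻¹ := by group
          _ = b := by rw [hc₀b', hcb]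
      calc y * b = y * b * y⁻¹ * y := by group
        _ = b * y := by rw [this]
    have hyc₀ : Commute y c₀ := hc4 y hyz hyb
    have hcy : c = y * c₀ := by
      rw [hy, mul_assoc, hc2, mul_one]
    have hcc₀ : Commute c c₀ := by
      rw [hcy]
      exact hyc₀.mul_left (Commute.refl c₀)
    obtain ⟨yc, _, hyc⟩ := exists_pt H z h0 hc
    have hw := propA' H z h0 hA hc hc1 hne hcc₀ hyc
    have e1 := hw.of_commute hyz.symm
    have e2 := hw.of_commute hyb.symm
    have e3 := (h0 _).mp e1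
    have e4 := (hbq _).mp e2
    exact hβ (e4.symm.trans e3)
  constructor
  · rintro ⟨c, hc1, hc2⟩ ⟨c', hc1', hc2'⟩ h
    have h' : c * z * c⁻¹ = c' * z * c'⁻¹ := congrArg Subtype.val h
    have hbq : Uq H (c' * z * c'⁻¹) β := by
      have := h0.conj c'
      rw [hc2'] at this
      exact this
    obtain ⟨c₀, _, _, _, huniq⟩ := key (c' * z * c'⁻¹) (isConj_iff.mpr ⟨c', rfl⟩) hbq
    have e1 := huniq c hc1 h'
    have e2 := huniq c' hc1' rfl
    apply Subtype.ext
    exact e1.trans e2.symm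
  · rintro ⟨b, hb, hbq⟩
    obtain ⟨c₀, h1, h2, h3, _⟩ := key b hb hbq
    exact ⟨⟨c₀, h1, h2⟩, Subtype.ext h3⟩

include hzz h0 hA in
theorem odd_card_XSet {β : G ⧸ H} (hβ : β ≠ ((1 : G) : G ⧸ H)) (c₁ : XSet H z β) :
    Odd (Nat.card (XSet H z β)) := by
  obtain ⟨c₁, hc₁, hc₁β⟩ := c₁
  have hc₁c₁ : c₁ * c₁ = 1 := conj_sq z hzz hc₁
  have hc₁i : c₁⁻¹ = c₁ := inv_eq_self_of_sq hc₁c₁
  have swap : ∀ c : G, c * c = 1 → c • ((1 : G) : G ⧸ H) = β → c • β = ((1 : G) : G ⧸ H) := by
    intro c hcc hcβ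
    rw [← hcβ, ← mul_smul, hcc, one_smul]
  have hc₁β' := swap c₁ hc₁c₁ hc₁β
  let f : XSet H z β → XSet H z β := fun c =>
    ⟨c₁ * c.1 * c₁⁻¹, c.2.1.trans (isConj_iff.mpr ⟨c₁, rfl⟩), by
      rw [mul_smul, mul_smul, hc₁i, hc₁β, swap c.1 (conj_sq z hzz c.2.1) c.2.2, hc₁β]⟩
  apply odd_card_of_involution f _ ⟨c₁, hc₁, hc₁β⟩
  · rintro ⟨c, hc, hcβ⟩
    constructor
    · intro h
      have h' : c₁ * c * c₁⁻¹ = c := congrArg Subtype.val h
      by_contra hne
      have hne' : c ≠ c₁ := fun h => hne (Subtype.ext h)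
      have hcomm : Commute c c₁ := by
        show c * c₁ = c₁ * c
        calc c * c₁ = c₁ * c * c₁⁻¹ * c₁ := by rw [h']
          _ = c₁ * c := by group
      obtain ⟨yc, _, hyc⟩ := exists_pt H z h0 hc
      have hw := propA' H z h0 hA hc hc₁ hne' hcomm hyc
      have e1 : (c * c₁) • ((1 : G) : G ⧸ H) = ((1 : G) : G ⧸ H) := by
        rw [mul_smul, hc₁β, swap c (conj_sq z hzz hc) hcβ]
      have e2 : (c * c₁) • β = β := by
        rw [mul_smul, hc₁β', hcβ]
      have e3 := (hw _).mp e1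
      have e4 := (hw _).mp e2
      exact hβ (e4.trans e3.symm)
    · intro h
      have h' : c = c₁ := congrArg Subtype.val h
      apply Subtype.ext
      show c₁ * c * c₁⁻¹ = c
      rw [h']; group
  · rintro ⟨c, hc, hcβ⟩
    apply Subtype.ext
    show c₁ * (c₁ * c * c₁⁻¹) * c₁⁻¹ = c
    rw [hc₁i]
    calc c₁ * (c₁ * c * c₁) * c₁ = (c₁ * c₁) * c * (c₁ * c₁) := by group
      _ = c := by rw [hc₁c₁]; group

theorem card_ISet_smul (q : G ⧸ H) (y : G) :
    Nat.card (ISet H z q) = Nat.card (ISet H z (y • q)) := by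
  apply Nat.card_congr
  refine ⟨fun b => ⟨y * b.1 * y⁻¹, b.2.1.trans (isConj_iff.mpr ⟨y, rfl⟩), b.2.2.conj y⟩,
    fun b => ⟨y⁻¹ * b.1 * y, b.2.1.trans (isConj_iff.mpr ⟨y⁻¹, by group⟩), ?_⟩, ?_, ?_⟩
  · have := b.2.2.conj y⁻¹
    rw [inv_smul_smul, inv_inv] at this
    exact this
  · rintro ⟨b, hb⟩
    apply Subtype.ext
    show y⁻¹ * (y * b * y⁻¹) * y = b
    group
  · rintro ⟨b, hb⟩
    apply Subtype.ext
    show y * (y⁻¹ * b * y) * y⁻¹ = b
    group

include hzz h0 hA in
theorem odd_card_ISet (hH : H ≠ ⊤) : Odd (Nat.card (ISet H z ((1 : G) : G ⧸ H))) := by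
  obtain ⟨g, hg⟩ : ∃ g : G, g ∉ H := by
    by_contra h
    exact hH (eq_top_iff.mpr fun x _ => by_contra fun hx => h ⟨x, hx⟩)
  set β : G ⧸ H := g • ((1 : G) : G ⧸ H) with hβdef
  have hβ : β ≠ ((1 : G) : G ⧸ H) := by
    intro h
    rw [hβdef, MulAction.Quotient.smul_mk, QuotientGroup.eq] at h
    apply hg
    have := H.inv_mem h
    simpa using this
  rw [card_ISet_smul H z _ g, ← hβdef, ← card_XSet_eq H z hzz h0 hA hβ]
  -- nonempty X
  have hb : Uq H (g * z * g⁻¹) β := h0.conj g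
  obtain ⟨c, hc1, _, hc3, _⟩ := step1 H z hzz h0 hA (IsConj.refl z) (isConj_iff.mpr ⟨g, rfl⟩) h0 hb hβ.symm
  have hcβ : c • ((1 : G) : G ⧸ H) = β := by
    have := h0.conj c
    rw [hc3] at this
    exact this.unique hb
  exact odd_card_XSet H z hzz h0 hA hβ ⟨c, hc1, hcβ⟩

include hzz h0 in
theorem odd_card_quot : Odd (Nat.card (G ⧸ H)) := by
  apply odd_card_of_involution (fun r : G ⧸ H => z • r) _ ((1 : G) : G ⧸ H) (fun r => h0 r)
  intro r
  show z • z • r = r
  rw [← mul_smul, hzz, one_smul]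

include h0 in
theorem card_conj_class :
    Nat.card {a : G // IsConj z a} = Nat.card (G ⧸ H) * Nat.card (ISet H z ((1 : G) : G ⧸ H)) := by
  classical
  have := Fintype.ofFinite (G ⧸ H)
  have e : (Σ q : G ⧸ H, ISet H z q) ≃ {a : G // IsConj z a} := by
    refine Equiv.ofBijective (fun x => ⟨x.2.1, x.2.2.1⟩) ⟨?_, ?_⟩
    · rintro ⟨q, b, hb, hq⟩ ⟨q', b', hb', hq'⟩ h
      have hbb : b = b' := congrArg Subtype.val h
      subst hbb
      have hqq : q = q' := hq.unique hq'
      subst hqq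
      rfl
    · rintro ⟨a, ha⟩
      obtain ⟨y, _, hy⟩ := exists_pt H z h0 ha
      exact ⟨⟨_, a, ha, hy⟩, rfl⟩
  rw [← Nat.card_congr e, Nat.card_sigma]
  have : ∀ q : G ⧸ H, Nat.card (ISet H z q) = Nat.card (ISet H z ((1 : G) : G ⧸ H)) := by
    intro q
    induction q using QuotientGroup.induction_on with
    | H g =>
      have := card_ISet_smul H z ((1 : G) : G ⧸ H) g
      rw [this, MulAction.Quotient.smul_mk, smul_eq_mul, mul_one]
  simp_rw [this]
  rw [Finset.sum_const, Finset.card_univ, smul_eq_mul, ← Nat.card_eq_fintype_card]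

end core

open scoped Pointwise

/-- conjugation action on the class of z -/
@[reducible] def classAction (z : G) : MulAction G {a : G // IsConj z a} where
  smul g a := ⟨g * a.1 * g⁻¹, a.2.trans (isConj_iff.mpr ⟨g, rfl⟩)⟩
  one_smul a := Subtype.ext (by show 1 * a.1 * 1⁻¹ = a.1; group)
  mul_smul g h a := Subtype.ext (by
    show (g * h) * a.1 * (g * h)⁻¹ = g * (h * a.1 * h⁻¹) * g⁻¹; group)

theorem exists_sylow_center [Finite G] (z : G) (hzz : z * z = 1)
    (hodd : Odd (Nat.card {a : G // IsConj z a})) :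
    ∃ P : Sylow 2 G, z ∈ (Subgroup.center ↥(P : Subgroup G)).map (P : Subgroup G).subtype := by
  let _ := classAction z
  obtain ⟨P₀⟩ : Nonempty (Sylow 2 G) := inferInstance
  have hnd : ¬ 2 ∣ Nat.card {a : G // IsConj z a} := by
    rw [← even_iff_two_dvd, Nat.not_even_iff_odd]; exact hodd
  obtain ⟨⟨a, ha⟩, hfix⟩ :=
    P₀.isPGroup'.nonempty_fixed_point_of_prime_not_dvd_card {a : G // IsConj z a} hnd
  have hfix' : ∀ p ∈ (P₀ : Subgroup G), p * a * p⁻¹ = a := by
    intro p hp
    have := hfix ⟨p, hp⟩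
    exact congrArg Subtype.val this
  have hcomm : ∀ p ∈ (P₀ : Subgroup G), a * p * a⁻¹ = p := by
    intro p hp
    have := hfix' p hp
    calc a * p * a⁻¹ = (p * a * p⁻¹) * p * a⁻¹ := by rw [this]
      _ = p := by group
  have haa : a * a = 1 := conj_sq z hzz ha
  have haP : a ∈ (P₀ : Subgroup G) := by
    have h1 : IsPGroup 2 (Subgroup.zpowers a) :=
      Cfsg.Agent.Helper32.isPGroup_zpowers_of_pow_eq_one a ⟨1, by rw [pow_one, pow_two, haa]⟩
    have h2 : Subgroup.zpowers a ≤ Subgroup.normalizer ((P₀ : Subgroup G) : Set G) := by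
      rw [Subgroup.zpowers_le]
      rw [Subgroup.mem_normalizer_iff]
      intro h
      constructor
      · intro hh
        rw [hcomm h hh]; exact hh
      · intro hh
        have hx := hcomm _ hh
        have e : a * h * a⁻¹ = h := by
          have : a⁻¹ * (a * (a * h * a⁻¹) * a⁻¹) * a = a⁻¹ * (a * h * a⁻¹) * a := by rw [hx]
          have l : a⁻¹ * (a * (a * h * a⁻¹) * a⁻¹) * a = a * h * a⁻¹ := by group
          have r : a⁻¹ * (a * h * a⁻¹) * a = h := by group
          rw [l, r] at this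
          exact this
        rw [← e]; exact hh
    have h3 := P₀.isPGroup'.to_sup_of_normal_left' h1 h2
    have h4 := P₀.is_maximal' h3 le_sup_left
    rw [← h4]
    exact Subgroup.mem_sup_right (Subgroup.mem_zpowers a)
  obtain ⟨y, hy⟩ := isConj_iff.mp ha
  refine ⟨y⁻¹ • P₀, ?_⟩
  have hmem : ∀ x : G, x ∈ ((y⁻¹ • P₀ : Sylow 2 G) : Subgroup G) ↔ y * x * y⁻¹ ∈ (P₀ : Subgroup G) := by
    intro x
    rw [Sylow.coe_subgroup_smul, Subgroup.mem_pointwise_smul_iff_inv_smul_mem]
    simp [MulAut.smul_def]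
  have hzP : z ∈ ((y⁻¹ • P₀ : Sylow 2 G) : Subgroup G) := by
    rw [hmem, hy]; exact haP
  refine ⟨⟨z, hzP⟩, Subgroup.mem_center_iff.mpr ?_, rfl⟩
  rintro ⟨p, hp⟩
  apply Subtype.ext
  show p * z = z * p
  have h1 := hfix' _ ((hmem p).mp hp)
  rw [← hy] at h1
  have : p * z * p⁻¹ = z := by
    have e : p * z * p⁻¹ = y⁻¹ * (y * p * y⁻¹ * (y * z * y⁻¹) * (y * p * y⁻¹)⁻¹) * y := by group
    rw [e, h1]; group
  calc p * z = p * z * p⁻¹ * p := by group
    _ = z * p := by rw [this]

/-- Let z be an involution of a finite group G and H a proper subgroup such that z lies in gHg⁻¹ exactly when g ∈ H. Then the following are equivalent: (1) for every conjugate t ≠ z of z commuting with z, the product zt lies in gHg⁻¹ exactly when g ∈ H; (2) z lies in the centre of some Sylow 2-subgroup of G, and for every conjugate t ≠ z of z commuting with z, the centralizer of zt is contained in H. -/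
theorem result {G : Type*} [Group G] [Finite G] (z : G) (hz : orderOf z = 2) (H : Subgroup G) (hH : H ≠ ⊤)
    (h0 : ∀ g : G, z ∈ H.map (MulAut.conj g).toMonoidHom ↔ g ∈ H) :
    (∀ t : G, IsConj z t → t ≠ z → t * z = z * t → ∀ g : G, z * t ∈ H.map (MulAut.conj g).toMonoidHom ↔ g ∈ H) ↔
      ((∃ P : Sylow 2 G, z ∈ (Subgroup.center ↥(P : Subgroup G)).map (P : Subgroup G).subtype) ∧
        ∀ t : G, IsConj z t → t ≠ z → t * z = z * t → Subgroup.centralizer ({z * t} : Set G) ≤ H) := by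
  have hzz : z * z = 1 := by
    have := pow_orderOf_eq_one z
    rw [hz, pow_two] at this
    exact this
  have h0' : Uq H z ((1 : G) : G ⧸ H) := (Uq_one_iff H z).mpr h0
  have mem_of_fix : ∀ c : G, c • ((1 : G) : G ⧸ H) = ((1 : G) : G ⧸ H) → c ∈ H := by
    intro c hc
    rw [smul_mk_eq_iff] at hc
    simpa using hc
  constructor
  · intro hA
    have hA' : ∀ t : G, IsConj z t → t ≠ z → t * z = z * t → Uq H (z * t) ((1 : G) : G ⧸ H) :=
      fun t h1 h2 h3 => (Uq_one_iff H (z * t)).mpr (hA t h1 h2 h3)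
    constructor
    · apply exists_sylow_center z hzz
      rw [card_conj_class H z h0']
      exact (odd_card_quot H z hzz h0').mul (odd_card_ISet H z hzz h0' hA' hH)
    · intro t h1 h2 h3 c hc
      have hcomm : Commute c (z * t) := by
        have := Subgroup.mem_centralizer_singleton_iff.mp hc
        exact this
      exact mem_of_fix c ((hA' t h1 h2 h3).of_commute hcomm)
  · rintro ⟨⟨P, hzP⟩, hB⟩ t h1 h2 h3 g
    obtain ⟨⟨z', hz'P⟩, hz'c, hz'z⟩ := hzP
    have hz'z' : z' = z := hz'z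
    subst hz'z'
    have hzcent : ∀ p ∈ (P : Subgroup G), p * z' = z' * p := by
      intro p hp
      have := Subgroup.mem_center_iff.mp hz'c ⟨p, hp⟩
      exact congrArg Subtype.val this
    have hCz : ∀ c : G, Commute c z' → c ∈ H := fun c hc => mem_of_fix c (h0'.of_commute hc)
    have hPH : (P : Subgroup G) ≤ H := fun p hp => hCz p (hzcent p hp)
    have hzH : z' ∈ H := hCz z' (Commute.refl z')
    have htH : t ∈ H := hCz t h3
    have htt : t * t = 1 := conj_sq z' hzz h1
    constructor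
    · intro hmem
      rw [mem_map_conj_iff] at hmem
      -- u₁ ∈ H, a 2-element
      have hu1 : (g⁻¹ * (z' * t) * g) ^ 2 ^ 1 = 1 := by
        rw [pow_one, pow_two]
        calc g⁻¹ * (z' * t) * g * (g⁻¹ * (z' * t) * g) = g⁻¹ * (z' * (t * z') * t) * g := by group
          _ = g⁻¹ * (z' * (z' * t) * t) * g := by rw [h3]
          _ = g⁻¹ * ((z' * z') * (t * t)) * g := by group
          _ = 1 := by rw [hzz, htt]; group
      have hu1' : (⟨g⁻¹ * (z' * t) * g, hmem⟩ : H) ^ 2 ^ 1 = 1 := by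
        apply Subtype.ext
        simpa using hu1
      obtain ⟨h, hh⟩ := Cfsg.Agent.Helper32.exists_conj_mem_sylow (P.subtype hPH) _ ⟨1, hu1'⟩
      rw [Sylow.coe_subtype, Subgroup.mem_subgroupOf] at hh
      simp only [Subgroup.coe_mul, Subgroup.coe_inv] at hh
      set k := (h : G) * g⁻¹ with hk
      have e : (h : G) * (g⁻¹ * (z' * t) * g) * (h : G)⁻¹ = k * (z' * t) * k⁻¹ := by
        rw [hk]; group
      rw [e] at hh
      have hc1 := hzcent _ hh
      have hc2 : k⁻¹ * z' * k ∈ Subgroup.centralizer ({z' * t} : Set G) := by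
        rw [Subgroup.mem_centralizer_singleton_iff]
        symm
        calc z' * t * (k⁻¹ * z' * k) = k⁻¹ * ((k * (z' * t) * k⁻¹) * z') * k := by group
          _ = k⁻¹ * (z' * (k * (z' * t) * k⁻¹)) * k := by rw [hc1]
          _ = k⁻¹ * z' * k * (z' * t) := by group
      have hc3 := hB t h1 h2 h3 hc2
      rw [← mem_map_conj_iff, h0] at hc3
      have : g = (k⁻¹ * (h : G))⁻¹⁻¹ := by rw [hk]; group
      rw [this, inv_inv]
      exact H.mul_mem (H.inv_mem hc3) h.2
    · intro hg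
      rw [mem_map_conj_iff]
      exact H.mul_mem (H.mul_mem (H.inv_mem hg) (H.mul_mem hzH htH)) hg

end Cfsg.Agent.S1922
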