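import Cfsg.Statements.S1905
import Cfsg.Agent.S1922

set_option autoImplicit false
open Cfsg

namespace Cfsg.Agent.S1905

open Cfsg.Agent.S1922 (dihedral inv_eq_self_of_sq)

variable {S : Type*} [Group S]

theorem sq_of_order {x : S} (hx : orderOf x = 2) : x * x = 1 := by
  have := pow_orderOf_eq_one x
  rw [hx, pow_two] at this
  exact this

theorem ne_one_of_order {x : S} (hx : orderOf x = 2) : x ≠ 1 := by
  intro h
  rw [h, orderOf_one] at hx
  exact absurd hx (by norm_num)

theorem order_of_sq {x : S} (h1 : x * x = 1) (h2 : x ≠ 1) : orderOf x = 2 :=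
  orderOf_eq_prime (by rw [pow_two]; exact h1) h2

theorem order_conj {x : S} (hx : orderOf x = 2) (g : S) : orderOf (g * x * g⁻¹) = 2 := by
  have := (MulAut.conj g).orderOf_eq x
  rw [MulAut.conj_apply] at this
  rw [this]; exact hx

/-- the basic conjugacy lemma -/
theorem conj_of_mem_not_mem [Finite S] (M : Subgroup S)
    (hC : ∀ i ∈ M, orderOf i = 2 → Subgroup.centralizer ({i} : Set S) ≤ M)
    {x y : S} (hx : orderOf x = 2) (hy : orderOf y = 2) (hxM : x ∈ M) (hyM : y ∉ M) :
    ∃ c, c * c = 1 ∧ c * x * c⁻¹ = y := by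
  rcases dihedral x y (sq_of_order hx) (sq_of_order hy) with
    ⟨c, _, hc2, hc3, _⟩ | ⟨a₁, a₂, h1, h2, h3, h4, h5, h6⟩
  · exact ⟨c, hc2, hc3⟩
  · exfalso
    have ha1 : a₁ * a₁ = 1 := by
      obtain ⟨g, rfl⟩ := isConj_iff.mp h1
      exact sq_of_order (order_conj hx g)
    have ha2 : a₂ * a₂ = 1 := by
      rcases h2 with rfl | rfl
      · exact sq_of_order hx
      · exact sq_of_order hy
    set w := a₁ * a₂ with hw
    have hww : w * w = 1 := by
      rw [hw]
      calc a₁ * a₂ * (a₁ * a₂) = a₁ * (a₂ * a₁) * a₂ := by group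
        _ = a₁ * (a₁ * a₂) * a₂ := by rw [h4.eq]
        _ = (a₁ * a₁) * (a₂ * a₂) := by group
        _ = 1 := by rw [ha1, ha2, one_mul]
    have hw1 : w ≠ 1 := by
      intro h
      apply h3
      have : a₁ = a₂⁻¹ := eq_inv_of_mul_eq_one_left h
      rw [this, inv_eq_self_of_sq ha2]
    have hwo : orderOf w = 2 := order_of_sq hww hw1
    have hwM : w ∈ M := by
      apply hC x hxM hx
      rw [Subgroup.mem_centralizer_singleton_iff]
      exact h5.eq
    apply hyM
    apply hC w hwM hwo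
    rw [Subgroup.mem_centralizer_singleton_iff]
    exact h6.eq.symm

theorem exists_invol_mem [Finite S] (M : Subgroup S) (hM : Even (Nat.card M)) :
    ∃ x ∈ M, orderOf x = 2 := by
  haveI : Fact (Nat.Prime 2) := ⟨Nat.prime_two⟩
  obtain ⟨x, hx⟩ := exists_prime_orderOf_dvd_card' (G := M) 2 (even_iff_two_dvd.mp hM)
  exact ⟨x.1, x.2, by rw [Subgroup.orderOf_coe]; exact hx⟩

theorem exists_invol_not_mem [Finite S] (M : Subgroup S) (hM : Even (Nat.card M))
    (hcore : Odd (Nat.card M.normalCore)) : ∃ y : S, y ∉ M ∧ orderOf y = 2 := by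
  by_contra hcon
  have hall : ∀ y : S, orderOf y = 2 → y ∈ M := by
    intro y hy
    by_contra hyM
    exact hcon ⟨y, hyM, hy⟩
  obtain ⟨x, _, hx⟩ := exists_invol_mem M hM
  have hxcore : x ∈ M.normalCore := by
    intro b
    exact hall _ (order_conj hx b)
  have h2 : orderOf (⟨x, hxcore⟩ : M.normalCore) = 2 := by
    rw [← Subgroup.orderOf_coe]; exact hx
  have hdvd : 2 ∣ Nat.card M.normalCore := by
    rw [← h2]; exact orderOf_dvd_natCard _
  exact (Nat.not_even_iff_odd.mpr hcore) (even_iff_two_dvd.mpr hdvd)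

theorem mem_normalizer_of_conj_le [Finite S] (K : Subgroup S) (g : S)
    (h : ∀ x ∈ K, g * x * g⁻¹ ∈ K) : g ∈ Subgroup.normalizer (K : Set S) := by
  rw [Subgroup.mem_normalizer_iff_map_conj_eq]
  apply Subgroup.eq_of_le_of_card_ge
  · rintro _ ⟨x, hx, rfl⟩
    exact h x hx
  · rw [Subgroup.card_map_of_injective (MulAut.conj g).injective]

/-- Let M be a subgroup of even order of a finite group S such that M contains the centralizer in S of each of its involutions and the normal core of M in S has odd order. Then all involutions of S are conjugate. If moreover N_S(X) ≤ M for a Sylow 2-subgroup X of M and I is an involution in the centre of X, then all involutions of M are conjugate in M and M = M₀ C_M(I) for some subgroup M₀ of M of odd order. -/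
theorem result {S : Type*} [Group S] [Finite S] (M : Subgroup S) (hM : Even (Nat.card M))
    (hC : ∀ i ∈ M, orderOf i = 2 → Subgroup.centralizer ({i} : Set S) ≤ M) (hcore : Odd (Nat.card M.normalCore)) :
    (∀ x y : S, orderOf x = 2 → orderOf y = 2 → IsConj x y) ∧
      ∀ (X : Sylow 2 M) (I : M), I ∈ (Subgroup.center ↥(X : Subgroup ↥M)).map (X : Subgroup ↥M).subtype → orderOf I = 2 →
        Subgroup.normalizer (((X : Subgroup M).map M.subtype : Subgroup S) : Set S) ≤ M →
        (∀ x y : M, orderOf x = 2 → orderOf y = 2 → IsConj x y) ∧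
          ∃ M₀ : Subgroup M, Odd (Nat.card M₀) ∧
            ∀ m : M, ∃ a ∈ M₀, ∃ c ∈ Subgroup.centralizer ({I} : Set M), m = a * c := by
  obtain ⟨x₀, hx₀M, hx₀⟩ := exists_invol_mem M hM
  obtain ⟨y₀, hy₀M, hy₀⟩ := exists_invol_not_mem M hM hcore
  have part1 : ∀ x y : S, orderOf x = 2 → orderOf y = 2 → IsConj x y := by
    have key : ∀ x y : S, orderOf x = 2 → orderOf y = 2 → x ∈ M → y ∉ M → IsConj x y := by
      intro x y hx hy hxM hyM
      obtain ⟨c, _, hc⟩ := conj_of_mem_not_mem M hC hx hy hxM hyM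
      exact isConj_iff.mpr ⟨c, hc⟩
    intro x y hx hy
    by_cases hxM : x ∈ M <;> by_cases hyM : y ∈ M
    · exact (key x y₀ hx hy₀ hxM hy₀M).trans (key y y₀ hy hy₀ hyM hy₀M).symm
    · exact key x y hx hy hxM hyM
    · exact (key y x hy hx hyM hxM).symm
    · exact (key x₀ x hx₀ hx hx₀M hxM).symm.trans (key x₀ y hx₀ hy hx₀M hyM)
  refine ⟨part1, ?_⟩
  intro X I hIX hI hN
  set i : S := (I : S) with hi
  have hio : orderOf i = 2 := by rw [hi, Subgroup.orderOf_coe]; exact hI
  have hiM : i ∈ M := I.2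
  obtain ⟨⟨I', hI'X⟩, hI'c, hI'I⟩ := hIX
  have hI'I' : I = I' := hI'I.symm
  subst hI'I'
  -- I commutes with X
  have hIcomm : ∀ x ∈ ((X : Subgroup M).map M.subtype : Subgroup S), x * i = i * x := by
    rintro _ ⟨x, hx, rfl⟩
    have := Subgroup.mem_center_iff.mp hI'c ⟨x, hx⟩
    have h2 := congrArg Subtype.val this
    have h3 := congrArg Subtype.val h2
    simpa using h3
  -- fusion: g i g⁻¹ ∈ M involution implies g ∈ M
  have fus0 : ∀ g : S, g * i * g⁻¹ ∈ M → g ∈ M := by
    intro g hg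
    set j := g * i * g⁻¹ with hj
    have hjo : orderOf j = 2 := order_conj hio g
    have hCj := hC j hg hjo
    -- Y = conjugate of X inside M
    set X' := ((X : Subgroup M).map M.subtype : Subgroup S) with hX'
    have hYM : ∀ x ∈ X', g * x * g⁻¹ ∈ M := by
      intro x hx
      apply hCj
      rw [Subgroup.mem_centralizer_singleton_iff, hj]
      have := hIcomm x hx
      symm
      calc g * i * g⁻¹ * (g * x * g⁻¹) = g * (i * x) * g⁻¹ := by group
        _ = g * (x * i) * g⁻¹ := by rw [this]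
        _ = g * x * g⁻¹ * (g * i * g⁻¹) := by group
    set Y : Subgroup M := (X'.map (MulAut.conj g).toMonoidHom).subgroupOf M with hY
    have hYp : IsPGroup 2 Y := by
      have h1 : IsPGroup 2 X' := X.isPGroup'.map _
      have h2 : IsPGroup 2 (X'.map (MulAut.conj g).toMonoidHom) := h1.map _
      exact h2.comap_of_injective _ (Subgroup.subtype_injective M)
    obtain ⟨h, hh⟩ := Cfsg.Agent.Helper32.exists_conj_le_sylow X Y hYp
    have hnorm : (h : S) * g ∈ Subgroup.normalizer (X' : Set S) := by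
      apply mem_normalizer_of_conj_le
      intro x hx
      have hxY : (⟨g * x * g⁻¹, hYM x hx⟩ : M) ∈ Y := by
        rw [hY, Subgroup.mem_subgroupOf]
        exact ⟨x, hx, rfl⟩
      have := hh _ hxY
      refine ⟨_, this, ?_⟩
      simp only [Subgroup.coe_subtype, Subgroup.coe_mul, Subgroup.coe_inv]
      group
    have := hN hnorm
    have e : g = (h : S)⁻¹ * ((h : S) * g) := by group
    rw [e]
    exact M.mul_mem (M.inv_mem h.2) this
  have part2a : ∀ J : M, orderOf J = 2 → ∃ m : M, m * I * m⁻¹ = J := by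
    intro J hJ
    have hjo : orderOf (J : S) = 2 := by rw [Subgroup.orderOf_coe]; exact hJ
    obtain ⟨g, hg⟩ := isConj_iff.mp (part1 i (J : S) hio hjo)
    have hgM : g ∈ M := fus0 g (by rw [hg]; exact J.2)
    refine ⟨⟨g, hgM⟩, ?_⟩
    apply Subtype.ext
    simpa using hg
  -- general fusion control
  have fus : ∀ (a a' g : S), a ∈ M → a' ∈ M → orderOf a = 2 → g * a * g⁻¹ = a' → g ∈ M := by
    intro a a' g ha ha' hao hg
    have ha'o : orderOf a' = 2 := by rw [← hg]; exact order_conj hao g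
    obtain ⟨m, hm⟩ := part2a ⟨a, ha⟩ (by rw [← Subgroup.orderOf_coe]; exact hao)
    obtain ⟨m', hm'⟩ := part2a ⟨a', ha'⟩ (by rw [← Subgroup.orderOf_coe]; exact ha'o)
    have hm1 : (m : S) * i * (m : S)⁻¹ = a := by
      have := congrArg Subtype.val hm
      simpa using this
    have hm2 : (m' : S) * i * (m' : S)⁻¹ = a' := by
      have := congrArg Subtype.val hm'
      simpa using this
    have h3 : ((m' : S)⁻¹ * g * (m : S)) * i * ((m' : S)⁻¹ * g * (m : S))⁻¹ = i := by
      calc ((m' : S)⁻¹ * g * (m : S)) * i * ((m' : S)⁻¹ * g * (m : S))⁻¹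
          = (m' : S)⁻¹ * (g * ((m : S) * i * (m : S)⁻¹) * g⁻¹) * (m' : S) := by group
        _ = (m' : S)⁻¹ * a' * (m' : S) := by rw [hm1, hg]
        _ = i := by rw [← hm2]; group
    have h4 : (m' : S)⁻¹ * g * (m : S) ∈ M := by
      apply fus0
      rw [h3]; exact hiM
    have e : g = (m' : S) * ((m' : S)⁻¹ * g * (m : S)) * (m : S)⁻¹ := by group
    rw [e]
    exact M.mul_mem (M.mul_mem m'.2 h4) (M.inv_mem m.2)
  constructor
  · intro x y hx hy
    obtain ⟨m, hm⟩ := part2a x hx
    obtain ⟨m', hm'⟩ := part2a y hy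
    exact (isConj_iff.mpr ⟨m, hm⟩).symm.trans (isConj_iff.mpr ⟨m', hm'⟩)
  · -- M₀ = M ∩ y M y⁻¹
    have hy₀y₀ : y₀ * y₀ = 1 := sq_of_order hy₀
    have hy₀i : y₀⁻¹ = y₀ := inv_eq_self_of_sq hy₀y₀
    set D : Subgroup S := M ⊓ M.map (MulAut.conj y₀).toMonoidHom with hD
    have memD : ∀ d : S, d ∈ D ↔ d ∈ M ∧ y₀ * d * y₀ ∈ M := by
      intro d
      rw [hD, Subgroup.mem_inf, Cfsg.Agent.S1922.mem_map_conj_iff, hy₀i]
    refine ⟨D.subgroupOf M, ?_, ?_⟩
    · -- odd order
      rw [← Nat.not_even_iff_odd]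
      intro heven
      haveI : Fact (Nat.Prime 2) := ⟨Nat.prime_two⟩
      obtain ⟨u, hu⟩ := exists_prime_orderOf_dvd_card' (G := D.subgroupOf M) 2
        (even_iff_two_dvd.mp heven)
      have huo : orderOf ((u : M) : S) = 2 := by
        rw [Subgroup.orderOf_coe, Subgroup.orderOf_coe]; exact hu
      have huD : ((u : M) : S) ∈ D := Subgroup.mem_subgroupOf.mp u.2
      obtain ⟨hu1, hu2⟩ := (memD _).mp huD
      apply hy₀M
      apply fus ((u : M) : S) (y₀ * ((u : M) : S) * y₀) y₀ hu1 hu2 huo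
      rw [hy₀i]
    · intro m
      set a' : S := (m : S) * i * (m : S)⁻¹ with ha'
      have ha'M : a' ∈ M := M.mul_mem (M.mul_mem m.2 hiM) (M.inv_mem m.2)
      have ha'o : orderOf a' = 2 := order_conj hio _
      set b' : S := y₀ * a' * y₀⁻¹ with hb'
      have hb'o : orderOf b' = 2 := order_conj ha'o _
      have hb'M : b' ∉ M := by
        intro h
        exact hy₀M (fus a' b' y₀ ha'M h ha'o rfl)
      obtain ⟨c, hcc, hc⟩ := conj_of_mem_not_mem M hC hio hb'o hiM hb'M
      have hci : c⁻¹ = c := inv_eq_self_of_sq hcc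
      set d : S := y₀ * c with hd
      have hdi : d * i * d⁻¹ = a' := by
        rw [hd]
        calc y₀ * c * i * (y₀ * c)⁻¹ = y₀ * (c * i * c⁻¹) * y₀⁻¹ := by group
          _ = a' := by
              rw [hc, hb', hy₀i]
              calc y₀ * (y₀ * a' * y₀) * y₀ = (y₀ * y₀) * a' * (y₀ * y₀) := by group
                _ = a' := by rw [hy₀y₀]; group
      have hdM : d ∈ M := fus i a' d hiM ha'M hio hdi
      have hcy : (c * y₀) * a' * (c * y₀)⁻¹ = i := by
        have h1 : c * b' * c⁻¹ = i := by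
          rw [← hc, hci]
          calc c * (c * i * c) * c = (c * c) * i * (c * c) := by group
            _ = i := by rw [hcc]; group
        calc (c * y₀) * a' * (c * y₀)⁻¹ = c * (y₀ * a' * y₀⁻¹) * c⁻¹ := by group
          _ = i := by rw [← hb', h1]
      have hcyM : c * y₀ ∈ M := fus a' i (c * y₀) ha'M hiM ha'o hcy
      have hdD : d ∈ D := by
        rw [memD]
        refine ⟨hdM, ?_⟩
        have : y₀ * d * y₀ = c * y₀ := by
          rw [hd]
          calc y₀ * (y₀ * c) * y₀ = (y₀ * y₀) * c * y₀ := by group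
            _ = c * y₀ := by rw [hy₀y₀, one_mul]
        rw [this]; exact hcyM
      refine ⟨⟨d, hdM⟩, Subgroup.mem_subgroupOf.mpr hdD, (⟨d, hdM⟩ : M)⁻¹ * m, ?_, by group⟩
      rw [Subgroup.mem_centralizer_singleton_iff]
      apply Subtype.ext
      simp only [Subgroup.coe_mul, Subgroup.coe_inv]
      show d⁻¹ * (m : S) * i = i * (d⁻¹ * (m : S))
      symm
      have h1 : (m : S) * i = a' * (m : S) := by rw [ha']; group
      have h2 : d⁻¹ * a' = i * d⁻¹ := by rw [← hdi]; group
      calc i * (d⁻¹ * (m : S)) = (i * d⁻¹) * (m : S) := by group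
        _ = d⁻¹ * a' * (m : S) := by rw [h2]
        _ = d⁻¹ * (a' * (m : S)) := by group
        _ = d⁻¹ * ((m : S) * i) := by rw [h1]
        _ = d⁻¹ * (m : S) * i := by group

end Cfsg.Agent.S1905
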