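import Cfsg.Statements.S1906
import Cfsg.Agent.Lib.Helper32.CentralTransfer
import Cfsg.Agent.Lib.Helper32.GL3Inv
import Cfsg.Agent.Lib.Helper21.AbelianTransfer
import Cfsg.Agent.Lib.Helper10.Nilp

set_option autoImplicit false
open Cfsg
open scoped commutatorElement

namespace Cfsg.Agent.S1906

/-- Conjugation by an element of the normalizer, as an automorphism of the subgroup. -/
def conjAut {G : Type*} [Group G] (P : Subgroup G) (n : G)
    (hn : n ∈ Subgroup.normalizer (P : Set G)) : ↥P ≃* ↥P where
  toFun x := ⟨n⁻¹ * x * n, by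
    have h := (Subgroup.mem_normalizer_iff.mp (inv_mem hn) (x : G)).mp x.2
    simpa using h⟩
  invFun x := ⟨n * x * n⁻¹, (Subgroup.mem_normalizer_iff.mp hn (x : G)).mp x.2⟩
  left_inv x := by
    apply Subtype.ext
    change n * (n⁻¹ * (x : G) * n) * n⁻¹ = x
    group
  right_inv x := by
    apply Subtype.ext
    change n⁻¹ * (n * (x : G) * n⁻¹) * n = x
    group
  map_mul' x y := by
    apply Subtype.ext
    change n⁻¹ * ((x : G) * y) * n = (n⁻¹ * x * n) * (n⁻¹ * y * n)
    group

theorem conjAut_coe {G : Type*} [Group G] (P : Subgroup G) (n : G)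
    (hn : n ∈ Subgroup.normalizer (P : Set G)) (x : P) :
    ((conjAut P n hn x : P) : G) = n⁻¹ * x * n := rfl

theorem main {G : Type*} [Group G] [Finite G] (hG : ∀ H : Subgroup G, H.index ≠ 2) (P : Subgroup G)
    (hPp : IsPGroup 2 P) (hodd : ¬ 2 ∣ P.index)
    {F : Type*} [Field F] [Fintype F] (hF : Odd (Fintype.card F))
    (f : ↥P →* GL (Fin 3) F) (hf : Function.Injective f)
    (E : Subgroup G) (hE : E ≤ P) (hEa : Cfsg.IsElementaryAbelian 2 E) (hE8 : Nat.card E = 8) :
    IsMulCommutative P := by
  classical
  have : Fact (Nat.Prime 2) := ⟨Nat.prime_two⟩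
  by_contra hnc
  -- characteristic
  have h2 : (2 : F) ≠ 0 := by
    intro h
    have h' : ((2 : ℕ) : F) = 0 := by exact_mod_cast h
    have hch : ringChar F = 2 := CharP.ringChar_of_prime_eq_zero Nat.prime_two h'
    have := FiniteField.even_card_of_char_two hch
    rw [Nat.odd_iff] at hF
    omega
  have hneg1 : (-1 : Fˣ) ≠ 1 := by
    intro h
    have h1 : ((-1 : Fˣ) : F) = ((1 : Fˣ) : F) := by rw [h]
    rw [Units.val_neg, Units.val_one] at h1
    apply h2
    calc (2 : F) = 1 - (-1) := by ring
      _ = 1 - 1 := by rw [h1]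
      _ = 0 := by ring
  have : Group.IsNilpotent P := hPp.isNilpotent
  -- coercion helpers
  have hfmat_mul : ∀ x y : P, ((f (x * y) : GL (Fin 3) F) : Matrix (Fin 3) (Fin 3) F)
      = (f x : Matrix (Fin 3) (Fin 3) F) * (f y : Matrix (Fin 3) (Fin 3) F) := by
    intro x y
    rw [map_mul, Units.val_mul]
  have hfmat_one : ((f 1 : GL (Fin 3) F) : Matrix (Fin 3) (Fin 3) F) = 1 := by
    rw [map_one, Units.val_one]
  have hfmat_inj : ∀ x y : P, (f x : Matrix (Fin 3) (Fin 3) F) = (f y : Matrix (Fin 3) (Fin 3) F)
      → x = y := fun x y h => hf (Units.ext h)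
  -- the element `u` with `f u = -1`
  obtain ⟨u, huE, hfu⟩ : ∃ u : P, (u : G) ∈ E ∧ (f u : Matrix (Fin 3) (Fin 3) F) = -1 := by
    have hinjE : Function.Injective (E.subgroupOf P).subtype := Subtype.val_injective
    set T : Subgroup (GL (Fin 3) F) := (E.subgroupOf P).map f with hT
    have hTmem : ∀ t ∈ T, ∃ x : P, (x : G) ∈ E ∧ f x = t := by
      intro t ht
      obtain ⟨x, hx, rfl⟩ := Subgroup.mem_map.mp ht
      exact ⟨x, Subgroup.mem_subgroupOf.mp hx, rfl⟩
    have hcardT : Nat.card T = 8 := by
      rw [hT, Subgroup.card_map_of_injective hf,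
        Nat.card_congr (Subgroup.subgroupOfEquivOfLe hE).toEquiv, hE8]
    have hcomm := hEa.1
    obtain ⟨t, ht, htm⟩ := Helper32.GL3.neg_one_mem_of_card_eight h2 T
      (by
        intro t ht
        obtain ⟨x, hx, rfl⟩ := hTmem t ht
        rw [← map_mul]
        have : x * x = 1 := by
          apply Subtype.ext
          have := hEa.2 (x : G) hx
          rw [pow_two] at this
          exact this
        rw [this, map_one])
      (by
        intro s hs t ht
        obtain ⟨x, hx, rfl⟩ := hTmem s hs
        obtain ⟨y, hy, rfl⟩ := hTmem t ht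
        rw [← map_mul, ← map_mul]
        congr 1
        apply Subtype.ext
        have h1 := hcomm.is_comm.comm (⟨(x : G), hx⟩ : E) ⟨(y : G), hy⟩
        have h3 : (x : G) * (y : G) = (y : G) * (x : G) := congrArg Subtype.val h1
        exact h3)
      hcardT
    obtain ⟨x, hx, rfl⟩ := hTmem t ht
    exact ⟨x, hx, htm⟩
  have hu2 : u * u = 1 := by
    apply hfmat_inj
    rw [hfmat_mul, hfu, hfmat_one, neg_mul_neg, one_mul]
  have huc : ∀ x : P, x * u = u * x := by
    intro x
    apply hfmat_inj
    rw [hfmat_mul, hfmat_mul, hfu, mul_neg, mul_one, neg_mul, one_mul]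
  -- the determinant character
  set ϕ : P →* Fˣ := (Matrix.GeneralLinearGroup.det).comp f with hϕ
  have hϕval : ∀ x : P, ((ϕ x : Fˣ) : F) = (f x : Matrix (Fin 3) (Fin 3) F).det := by
    intro x
    rw [hϕ, MonoidHom.comp_apply, Matrix.GeneralLinearGroup.val_det_apply]
  have hϕu : ϕ u = -1 := by
    apply Units.ext
    rw [hϕval, hfu, Matrix.det_neg, Matrix.det_one, Units.val_neg, Units.val_one, Fintype.card_fin]
    ring
  have hϕsq : ∀ w : P, w * w = 1 → ϕ w = 1 ∨ ϕ w = -1 := by
    intro w hw
    have h1 : ϕ w * ϕ w = 1 := by rw [← map_mul, hw, map_one]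
    have h3 : ((ϕ w : Fˣ) : F) * (ϕ w : Fˣ) = 1 := by rw [← Units.val_mul, h1, Units.val_one]
    rcases mul_self_eq_one_iff.mp h3 with h4 | h4
    · left; exact Units.ext h4
    · right; exact Units.ext (by simpa using h4)
  -- two distinct central involutions of determinant one force commutativity
  have hL2 : ∀ c c' : P, (∀ x : P, x * c = c * x) → (∀ x : P, x * c' = c' * x) → c * c = 1 →
      c' * c' = 1 → c ≠ 1 → c' ≠ 1 → c ≠ c' → ϕ c = 1 → ϕ c' = 1 → False := by
    intro c c' hc hc' hcc hcc' hc1 hc'1 hne hd hd'
    apply hnc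
    refine ⟨⟨fun x y => ?_⟩⟩
    apply hfmat_inj
    rw [hfmat_mul, hfmat_mul]
    apply Helper32.GL3.commute_of_commute_two_inv h2 (f c : Matrix (Fin 3) (Fin 3) F)
      (f c' : Matrix (Fin 3) (Fin 3) F)
    · rw [← hfmat_mul, hcc, hfmat_one]
    · rw [← hfmat_mul, hcc', hfmat_one]
    · rw [← hfmat_mul, ← hfmat_mul, hc' c]
    · rw [← hϕval, hd, Units.val_one]
    · rw [← hϕval, hd', Units.val_one]
    · intro h; apply hc1; apply hfmat_inj; rw [h, hfmat_one]
    · intro h; apply hc'1; apply hfmat_inj; rw [h, hfmat_one]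
    · intro h; exact hne (hfmat_inj _ _ h)
    · rw [← hfmat_mul, ← hfmat_mul, hc x]
    · rw [← hfmat_mul, ← hfmat_mul, hc' x]
    · rw [← hfmat_mul, ← hfmat_mul, hc y]
    · rw [← hfmat_mul, ← hfmat_mul, hc' y]
  -- a central involution in the commutator subgroup
  have hcomm_ne : commutator P ≠ ⊥ := by
    intro h
    apply hnc
    refine ⟨⟨fun x y => ?_⟩⟩
    have hmem : ⁅x, y⁆ ∈ commutator P := by
      rw [commutator_def]
      exact Subgroup.commutator_mem_commutator (Subgroup.mem_top x) (Subgroup.mem_top y)
    rw [h, Subgroup.mem_bot] at hmem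
    exact commutatorElement_eq_one_iff_mul_comm.mp hmem
  set D : Subgroup P := commutator P ⊓ Subgroup.center P with hD
  have hDne : D ≠ ⊥ := Helper10.normal_inf_center_ne_bot (commutator P) hcomm_ne
  have hDp : IsPGroup 2 D := hPp.to_subgroup D
  obtain ⟨c, hcD, hc1, hcc⟩ : ∃ c : P, c ∈ D ∧ c ≠ 1 ∧ c * c = 1 := by
    have hDfin : Finite D := inferInstance
    have hDnt : Nontrivial D := (Subgroup.nontrivial_iff_ne_bot D).mpr hDne
    obtain ⟨k, hk0, hk⟩ := hDp.nontrivial_iff_card.mp hDnt
    have hdvd : 2 ∣ Nat.card D := by rw [hk]; exact dvd_pow_self 2 hk0.ne'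
    obtain ⟨d, hd⟩ := exists_prime_orderOf_dvd_card' 2 hdvd
    refine ⟨(d : P), d.2, ?_, ?_⟩
    · intro h
      have : d = 1 := Subtype.ext h
      rw [this, orderOf_one] at hd
      omega
    · have := pow_orderOf_eq_one d
      rw [hd, pow_two] at this
      exact congrArg Subtype.val this
  have hcZ : ∀ x : P, x * c = c * x := by
    intro x
    exact (Subgroup.mem_center_iff.mp hcD.2 x)
  have hcϕ : ϕ c = 1 := by
    have := Abelianization.commutator_subset_ker ϕ hcD.1
    exact MonoidHom.mem_ker.mp this
  have huc_ne : u ≠ c := by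
    intro h
    rw [h, hcϕ] at hϕu
    exact hneg1 hϕu.symm
  -- classification of central involutions
  have hdet1 : ∀ w : P, (∀ x : P, x * w = w * x) → w * w = 1 → w ≠ 1 → ϕ w = 1 → w = c := by
    intro w hw hww hw1 hd
    by_contra hne
    exact hL2 c w hcZ hw hcc hww hc1 hw1 (fun h => hne h.symm) hcϕ hd
  have hclass : ∀ w : P, (∀ x : P, x * w = w * x) → w * w = 1 → w ≠ 1 →
      w = u ∨ w = c ∨ w = u * c := by
    intro w hw hww hw1
    rcases hϕsq w hww with hd | hd
    · right; left; exact hdet1 w hw hww hw1 hd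
    · have huw_c : ∀ x : P, x * (u * w) = (u * w) * x := by
        intro x
        rw [← mul_assoc, huc x, mul_assoc, hw x, mul_assoc]
      have huw2 : (u * w) * (u * w) = 1 := by
        calc (u * w) * (u * w) = u * (w * u) * w := by group
          _ = u * (u * w) * w := by rw [huc w]
          _ = (u * u) * (w * w) := by group
          _ = 1 := by rw [hu2, hww, mul_one]
      have huwd : ϕ (u * w) = 1 := by
        rw [map_mul, hϕu, hd, neg_mul_neg, one_mul]
      by_cases huw1 : u * w = 1
      · left
        calc w = (u * u) * w := by rw [hu2, one_mul]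
          _ = u * (u * w) := by rw [mul_assoc]
          _ = u := by rw [huw1, mul_one]
      · right; right
        have := hdet1 (u * w) huw_c huw2 huw1 huwd
        calc w = (u * u) * w := by rw [hu2, one_mul]
          _ = u * (u * w) := by rw [mul_assoc]
          _ = u * c := by rw [this]
  -- `N_G(P)` centralizes `u`
  have hN : ∀ n ∈ Subgroup.normalizer (P : Set G), n⁻¹ * (u : G) * n = u := by
    intro n hn
    set α := conjAut P n hn with hα
    -- `α` fixes `c`
    have hαD : α c ∈ D := by
      constructor
      · have h1 : (commutator P).map α.toMonoidHom = commutator P :=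
          Subgroup.characteristic_iff_map_eq.mp inferInstance α
        rw [← h1]
        exact Subgroup.mem_map_of_mem _ hcD.1
      · have h1 : (Subgroup.center P).map α.toMonoidHom = Subgroup.center P :=
          Subgroup.characteristic_iff_map_eq.mp inferInstance α
        rw [← h1]
        exact Subgroup.mem_map_of_mem _ hcD.2
    have hαc : α c = c := by
      apply hdet1
      · intro x; exact (Subgroup.mem_center_iff.mp hαD.2 x)
      · rw [← map_mul, hcc, map_one]
      · intro h
        apply hc1
        apply α.injective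
        rw [h, map_one]
      · have := Abelianization.commutator_subset_ker ϕ hαD.1
        exact MonoidHom.mem_ker.mp this
    -- `α u` is a central involution
    have hαu_c : ∀ x : P, x * α u = α u * x := by
      intro x
      obtain ⟨y, rfl⟩ := α.surjective x
      rw [← map_mul, ← map_mul, huc y]
    have hαu2 : α u * α u = 1 := by rw [← map_mul, hu2, map_one]
    have hαu1 : α u ≠ 1 := by
      intro h
      have : u = 1 := by
        apply α.injective
        rw [h, map_one]
      rw [this, map_one] at hϕu
      exact hneg1 hϕu.symm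
    have hgoal : α u = u → n⁻¹ * (u : G) * n = u := by
      intro h
      have := congrArg Subtype.val h
      rwa [conjAut_coe] at this
    rcases hclass (α u) hαu_c hαu2 hαu1 with h | h | h
    · exact hgoal h
    · exfalso
      apply huc_ne
      apply α.injective
      rw [h, hαc]
    · exfalso
      -- odd power of `n` lies in `P`
      set N : Subgroup G := Subgroup.normalizer (P : Set G) with hNdef
      have hPN : P ≤ N := Subgroup.le_normalizer
      have : (P.subgroupOf N).Normal := Subgroup.normal_in_normalizer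
      set k := (P.subgroupOf N).index with hk
      have hkodd : Odd k := by
        rw [← Nat.not_even_iff_odd, even_iff_two_dvd]
        intro h2k
        apply hodd
        have : k ∣ P.index := by
          rw [hk]
          exact Subgroup.relIndex_dvd_index_of_le hPN
        exact dvd_trans h2k this
      have hnk : n ^ k ∈ P := by
        have := Subgroup.pow_index_mem (P.subgroupOf N) (⟨n, hn⟩ : N)
        rw [Subgroup.mem_subgroupOf] at this
        simpa using this
      -- conjugation by powers
      have hcu : n⁻¹ * (u : G) * n = (u : G) * c := by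
        have := congrArg Subtype.val h
        rwa [conjAut_coe] at this
      have hcc' : n⁻¹ * (c : G) * n = c := by
        have := congrArg Subtype.val hαc
        rwa [conjAut_coe] at this
      have hpow : ∀ j : ℕ, (n ^ j)⁻¹ * (u : G) * n ^ j = (u : G) * (c : G) ^ j := by
        intro j
        induction j with
        | zero => simp
        | succ j ih =>
          have hcj : n⁻¹ * (c : G) ^ j * n = (c : G) ^ j := by
            have : n⁻¹ * (c : G) ^ j * n = (n⁻¹ * (c : G) * n) ^ j := by
              have h5 := conj_pow (i := j) (a := n⁻¹) (b := (c : G))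
              rw [inv_inv] at h5
              exact h5.symm
            rw [this, hcc']
          calc (n ^ (j + 1))⁻¹ * (u : G) * n ^ (j + 1)
              = n⁻¹ * ((n ^ j)⁻¹ * (u : G) * n ^ j) * n := by rw [pow_succ]; group
            _ = n⁻¹ * ((u : G) * (c : G) ^ j) * n := by rw [ih]
            _ = (n⁻¹ * (u : G) * n) * (n⁻¹ * (c : G) ^ j * n) := by group
            _ = (u : G) * c * (c : G) ^ j := by rw [hcu, hcj]
            _ = (u : G) * (c : G) ^ (j + 1) := by rw [pow_succ', mul_assoc]
      have hck : (c : G) ^ k = c := by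
        obtain ⟨m, hm⟩ := hkodd
        have hcG : (c : G) * c = 1 := congrArg Subtype.val hcc
        rw [hm, pow_succ, pow_mul, pow_two, hcG, one_pow, one_mul]
      have h1 := hpow k
      rw [hck] at h1
      have h3 : (n ^ k)⁻¹ * (u : G) * n ^ k = u := by
        have := huc ⟨n ^ k, hnk⟩
        have h4 : n ^ k * (u : G) = (u : G) * n ^ k := congrArg Subtype.val this
        calc (n ^ k)⁻¹ * (u : G) * n ^ k = (n ^ k)⁻¹ * ((u : G) * n ^ k) := by rw [mul_assoc]
          _ = (n ^ k)⁻¹ * (n ^ k * (u : G)) := by rw [h4]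
          _ = u := by group
      rw [h3] at h1
      apply hc1
      apply Subtype.ext
      have : (u : G) * 1 = (u : G) * c := by rw [mul_one]; exact h1
      exact (mul_left_cancel this).symm
  -- transfer
  have htr : MonoidHom.transfer ϕ (u : G) = ϕ ⟨(u : G), u.2⟩ :=
    Helper32.CT.transfer_central_involution_gen P hPp hodd ϕ (u : G) u.2
      (by
        intro s hs
        exact congrArg Subtype.val (huc ⟨s, hs⟩))
      (congrArg Subtype.val hu2) hN
  have htr' : MonoidHom.transfer ϕ (u : G) = -1 := by
    rw [htr]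
    exact hϕu
  -- kill the odd part
  have hcardne : Nat.card Fˣ ≠ 0 := Nat.card_pos.ne'
  obtain ⟨k, m, hm, hkm⟩ := Nat.exists_eq_two_pow_mul_odd hcardne
  set ψ : G →* Fˣ := (powMonoidHom m).comp (MonoidHom.transfer ϕ) with hψ
  have hR : IsPGroup 2 ψ.range := by
    rintro ⟨y, g, rfl⟩
    refine ⟨k, ?_⟩
    apply Subtype.ext
    change (ψ g) ^ 2 ^ k = 1
    rw [hψ, MonoidHom.comp_apply, powMonoidHom_apply, ← pow_mul, mul_comm, ← hkm]
    exact pow_card_eq_one'
  have hfin : Finite ψ.range := inferInstance
  have h1 := Helper21.hom_eq_one_of_no_index_two hG hR ψ.rangeRestrict (u : G)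
  have h3 : ψ (u : G) = 1 := congrArg Subtype.val h1
  rw [hψ, MonoidHom.comp_apply, powMonoidHom_apply, htr', hm.neg_one_pow] at h3
  exact hneg1 h3


/-- Let G be a finite group with no subgroup of index 2 whose Sylow 2-subgroup X embeds in GL₃(F) for a finite field F of odd order. If X contains an elementary abelian subgroup of order 8, then X is abelian. -/
theorem result {G : Type*} [Group G] [Finite G] (hG : ∀ H : Subgroup G, H.index ≠ 2) (X : Sylow 2 G)
    {F : Type*} [Field F] [Fintype F] (hF : Odd (Fintype.card F))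
    (f : ↥(X : Subgroup G) →* GL (Fin 3) F) (hf : Function.Injective f)
    (E : Subgroup G) (hE : E ≤ (X : Subgroup G)) (hEa : Cfsg.IsElementaryAbelian 2 E) (hE8 : Nat.card E = 8) :
    IsMulCommutative (X : Subgroup G) := by
  have : Fact (Nat.Prime 2) := ⟨Nat.prime_two⟩
  exact main hG (X : Subgroup G) X.isPGroup' X.not_dvd_index hF f hf E hE hEa hE8

end Cfsg.Agent.S1906
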