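import Cfsg.Statements.S1907
import Mathlib
import Cfsg.Agent.Lib.Helper52.Coprime
import Cfsg.Agent.Lib.Helper24.PConstrained
import Cfsg.Agent.Lib.Helper64.Basic
import Cfsg.Agent.Lib.Helper55.Cores
import Cfsg.Agent.Lib.Helper48.CoprimeGen

set_option autoImplicit false
open Cfsg

namespace Cfsg.Agent.S1907

open Subgroup

theorem pPrimePCore_normal' {G : Type*} [Group G] (p : ℕ) : (Cfsg.pPrimePCore p G).Normal := by
  unfold Cfsg.pPrimePCore
  infer_instance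

/-- if `y` normalizes `H` then it normalizes `C_G(H)` -/
theorem mem_normalizer_centralizer {G : Type*} [Group G] {H : Subgroup G} {y : G}
    (hy : y ∈ normalizer (H : Set G)) : y ∈ normalizer ((centralizer (H : Set G) : Subgroup G) : Set G) := by
  have key : ∀ z : G, z ∈ normalizer (H : Set G) → ∀ c ∈ centralizer (H : Set G),
      z * c * z⁻¹ ∈ centralizer (H : Set G) := by
    intro z hz c hc
    rw [mem_centralizer_iff]
    intro h hh
    have h1 : z⁻¹ * h * z ∈ H := by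
      have := (mem_normalizer_iff.mp (Subgroup.inv_mem _ hz) h).mp hh
      simpa using this
    have h2 := mem_centralizer_iff.mp hc _ h1
    calc h * (z * c * z⁻¹) = z * ((z⁻¹ * h * z) * c) * z⁻¹ := by group
      _ = z * (c * (z⁻¹ * h * z)) * z⁻¹ := by rw [h2]
      _ = z * c * z⁻¹ * h := by group
  rw [mem_normalizer_iff]
  intro c
  constructor
  · exact key y hy c
  · intro hc
    have := key y⁻¹ (Subgroup.inv_mem _ hy) _ hc
    simpa [mul_assoc] using this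

section

variable {G : Type*} [Group G] [Finite G] {p : ℕ} [Fact p.Prime] (P : Sylow p G)

/-- part (a) -/
theorem partA :
    ∀ y ∈ Subgroup.normalizer (((P : Subgroup G) ⊓ Cfsg.pPrimePCore p G : Subgroup G) : Set G), (∃ k : ℕ, orderOf y = p ^ k) →
      ∀ d ∈ Cfsg.pPrimeCore p G, d⁻¹ * y * d ∈ Subgroup.normalizer (((P : Subgroup G) ⊓ Cfsg.pPrimePCore p G : Subgroup G) : Set G) →
        ∃ d₁ ∈ Cfsg.pPrimeCore p G ⊓ Subgroup.centralizer ({y} : Set G),
          ∃ d₂ ∈ Cfsg.pPrimeCore p G ⊓ Subgroup.centralizer (((P : Subgroup G) ⊓ Cfsg.pPrimePCore p G : Subgroup G) : Set G), d = d₁ * d₂ := by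
  have hp : p.Prime := Fact.out
  intro y hyN hyo d hdD hdy
  set D := Cfsg.pPrimeCore p G with hD
  set H := (P : Subgroup G) ⊓ Cfsg.pPrimePCore p G with hH
  set N := normalizer (H : Set G) with hN
  have hDn : D.Normal := inferInstance
  have hDcop : (Nat.card D).Coprime p := Cfsg.Agent.Helper55.pPrimeCore_coprime p
  have hHp : IsPGroup p H := P.2.to_le inf_le_left
  -- `H ∩ D = 1`
  have hHD : ∀ x, x ∈ H → x ∈ D → x = 1 := by
    intro x hxH hxD
    obtain ⟨k, hk⟩ := (IsPGroup.iff_orderOf.mp hHp) ⟨x, hxH⟩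
    have h1 : orderOf x = p ^ k := by
      rw [← hk]; exact (Subgroup.orderOf_mk x hxH).symm
    have h2 : orderOf x ∣ Nat.card D := by
      have := orderOf_dvd_natCard (⟨x, hxD⟩ : D)
      rwa [Subgroup.orderOf_mk] at this
    have h3 : (orderOf x).Coprime (Nat.card D) := by
      rw [h1]; exact Nat.Coprime.pow_left k hDcop.symm
    have h4 : orderOf x = 1 := Nat.Coprime.eq_one_of_dvd h3 h2
    exact orderOf_eq_one_iff.mp h4
  set D₀ := D ⊓ centralizer (H : Set G) with hD₀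
  -- `D ∩ N ≤ C(H)`
  have hDN : ∀ x, x ∈ D → x ∈ N → x ∈ D₀ := by
    intro x hxD hxN
    refine Subgroup.mem_inf.mpr ⟨hxD, ?_⟩
    rw [mem_centralizer_iff]
    intro h hh
    have h1 : x * h * x⁻¹ * h⁻¹ ∈ H := H.mul_mem ((mem_normalizer_iff.mp hxN h).mp hh) (H.inv_mem hh)
    have h2 : x * h * x⁻¹ * h⁻¹ ∈ D := by
      have : x * h * x⁻¹ * h⁻¹ = x * (h * x⁻¹ * h⁻¹) := by group
      rw [this]
      exact D.mul_mem hxD (hDn.conj_mem _ (D.inv_mem hxD) h)
    have h3 := hHD _ h1 h2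
    calc h * x = (x * h * x⁻¹ * h⁻¹)⁻¹ * (x * h) := by group
      _ = x * h := by rw [h3]; group
  set A := zpowers y with hA
  have hAN : A ≤ N := by rw [hA, zpowers_le]; exact hyN
  have hAcard : Nat.card A = orderOf y := Nat.card_zpowers y
  have hcop : (Nat.card A).Coprime (Nat.card D) := by
    obtain ⟨k, hk⟩ := hyo
    rw [hAcard, hk]
    exact Nat.Coprime.pow_left k hDcop.symm
  have hAD : A ≤ normalizer (D : Set G) := by
    rw [normalizer_eq_top]; exact le_top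
  have hAD₀ : A ≤ normalizer (D₀ : Set G) := by
    intro a ha
    exact Helper48.mem_normalizer_inf' (hAD ha) (mem_normalizer_centralizer (hAN ha))
  have hsolv : Group.IsSolvable D₀ ∨ Group.IsSolvable A := by
    right
    have : IsMulCommutative A := by rw [hA]; infer_instance
    infer_instance
  have hcomm : ∀ a ∈ A, d⁻¹ * a * d⁻¹⁻¹ * a⁻¹ ∈ D₀ := by
    intro a ha
    rw [inv_inv]
    apply hDN
    · have : d⁻¹ * a * d * a⁻¹ = d⁻¹ * (a * d * a⁻¹) := by group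
      rw [this]
      exact D.mul_mem (D.inv_mem hdD) (hDn.conj_mem d hdD a)
    · obtain ⟨k, rfl⟩ := ha
      have h1 : d⁻¹ * y ^ k * d = (d⁻¹ * y * d) ^ k := by
        have := (MulAut.conj d⁻¹).toMonoidHom.map_zpow y k
        simpa [mul_assoc] using this
      rw [h1]
      exact N.mul_mem (N.zpow_mem hdy k) (N.inv_mem (N.zpow_mem hyN k))
  obtain ⟨n, hn, c, hc, hdnc⟩ := Helper52.exists_mul_centralizer_of_comm_mem D D₀ A inf_le_left hAD
    hAD₀ hcop hsolv d⁻¹ (D.inv_mem hdD) hcomm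
  refine ⟨c⁻¹, ?_, n⁻¹, D₀.inv_mem hn, ?_⟩
  · obtain ⟨hc1, hc2⟩ := Subgroup.mem_inf.mp hc
    refine Subgroup.mem_inf.mpr ⟨D.inv_mem hc1, Subgroup.inv_mem _ ?_⟩
    apply Subgroup.centralizer_le _ hc2
    intro x hx
    rw [Set.mem_singleton_iff] at hx
    subst hx
    exact mem_zpowers x
  · have : d = (d⁻¹)⁻¹ := (inv_inv d).symm
    rw [this, hdnc]
    group

/-- part (b) -/
theorem partB : ∀ x y : G, x ∈ (P : Subgroup G) → y ∈ (P : Subgroup G) → IsConj x y →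
      ∃ n ∈ Subgroup.normalizer (((P : Subgroup G) ⊓ Cfsg.pPrimePCore p G : Subgroup G) : Set G), n * x * n⁻¹ = y := by
  intro x y hx hy hxy
  obtain ⟨c, hc⟩ := isConj_iff.mp hxy
  have hM : (Cfsg.pPrimePCore p G).Normal := pPrimePCore_normal' p
  set D := Cfsg.pPrimeCore p G with hD
  set M := Cfsg.pPrimePCore p G with hMdef
  set H := (P : Subgroup G) ⊓ M with hH
  set N := normalizer (H : Set G) with hN
  have hPN : (P : Subgroup G) ≤ N := Helper64.le_normalizer_inf_normal (P : Subgroup G) M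
  have hHN : H ≤ N := le_normalizer
  have htop : N ⊔ M = ⊤ := Helper64.normalizer_inf_sup_eq_top P M
  have hcmem : c ∈ N ⊔ M := by rw [htop]; trivial
  obtain ⟨n, hn, m, hm, hnm⟩ := mem_sup_of_normal_right.mp hcmem
  have hmap := Helper24.sylow_pPrimePCore_map_eq (Helper64.sylowInfNormal P M)
  rw [Helper64.sylowInfNormal_map] at hmap
  have hm' : QuotientGroup.mk' D m ∈ Cfsg.pCore p (G ⧸ D) := hm
  rw [← hmap] at hm'
  obtain ⟨h, hh, hhm⟩ := hm'
  have hd : h⁻¹ * m ∈ D := by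
    have h1 : (QuotientGroup.mk' D) (h⁻¹ * m) = 1 := by
      rw [map_mul, map_inv, hhm, inv_mul_cancel]
    rw [QuotientGroup.mk'_apply] at h1
    exact (QuotientGroup.eq_one_iff _).mp h1
  set d := h⁻¹ * m with hddef
  set n' := n * h with hn'
  have hn'N : n' ∈ N := N.mul_mem hn (hHN hh)
  have hc' : c = n' * d := by
    rw [← hnm, hn', hddef]; group
  -- `d x d⁻¹ ∈ N`
  have hdx : d⁻¹⁻¹ * x * d⁻¹ ∈ N := by
    have h1 : d⁻¹⁻¹ * x * d⁻¹ = n'⁻¹ * y * n' := by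
      rw [← hc, hc']; group
    rw [h1]
    exact N.mul_mem (N.mul_mem (N.inv_mem hn'N) (hPN hy)) hn'N
  have hxo : ∃ k : ℕ, orderOf x = p ^ k := by
    obtain ⟨k, hk⟩ := (IsPGroup.iff_orderOf.mp P.2) ⟨x, hx⟩
    exact ⟨k, by rw [← hk]; exact (Subgroup.orderOf_mk x hx).symm⟩
  obtain ⟨d₁, hd₁, d₂, hd₂, hdd⟩ := partA P x (hPN hx) hxo d⁻¹ (D.inv_mem hd) hdx
  have hd₁x : d₁ * x = x * d₁ := mem_centralizer_singleton_iff.mp (Subgroup.mem_inf.mp hd₁).2
  have hd₂N : d₂ ∈ N := Subgroup.centralizer_le_normalizer _ (Subgroup.mem_inf.mp hd₂).2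
  refine ⟨n' * d₂⁻¹, N.mul_mem hn'N (N.inv_mem hd₂N), ?_⟩
  have hd_eq : d = d₂⁻¹ * d₁⁻¹ := by
    have : d = (d⁻¹)⁻¹ := (inv_inv d).symm
    rw [this, hdd]; group
  rw [← hc, hc', hd_eq]
  have e : d₁⁻¹ * x * d₁ = x := by
    calc d₁⁻¹ * x * d₁ = d₁⁻¹ * (x * d₁) := by group
      _ = d₁⁻¹ * (d₁ * x) := by rw [hd₁x]
      _ = x := by group
  calc n' * d₂⁻¹ * x * (n' * d₂⁻¹)⁻¹ = n' * d₂⁻¹ * (d₁⁻¹ * x * d₁) * d₂ * n'⁻¹ := by rw [e]; group
    _ = n' * (d₂⁻¹ * d₁⁻¹) * x * (n' * (d₂⁻¹ * d₁⁻¹))⁻¹ := by group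

end

/-- Let P be a Sylow p-subgroup of a finite group G, H = P ∩ O_{p',p}(G), N = N_G(H) and D = O_{p'}(G). (a) If y is an element of p-power order of N and d ∈ D with d⁻¹ y d ∈ N, then d = d₁ d₂ with d₁ ∈ C_D(y) and d₂ ∈ C_D(H). (b) Two elements of P that are conjugate in G are conjugate in N. -/
theorem result {G : Type*} [Group G] [Finite G] {p : ℕ} [Fact p.Prime] (P : Sylow p G) :
    (∀ y ∈ Subgroup.normalizer (((P : Subgroup G) ⊓ Cfsg.pPrimePCore p G : Subgroup G) : Set G), (∃ k : ℕ, orderOf y = p ^ k) →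
      ∀ d ∈ Cfsg.pPrimeCore p G, d⁻¹ * y * d ∈ Subgroup.normalizer (((P : Subgroup G) ⊓ Cfsg.pPrimePCore p G : Subgroup G) : Set G) →
        ∃ d₁ ∈ Cfsg.pPrimeCore p G ⊓ Subgroup.centralizer ({y} : Set G),
          ∃ d₂ ∈ Cfsg.pPrimeCore p G ⊓ Subgroup.centralizer (((P : Subgroup G) ⊓ Cfsg.pPrimePCore p G : Subgroup G) : Set G), d = d₁ * d₂) ∧
    ∀ x y : G, x ∈ (P : Subgroup G) → y ∈ (P : Subgroup G) → IsConj x y →
      ∃ n ∈ Subgroup.normalizer (((P : Subgroup G) ⊓ Cfsg.pPrimePCore p G : Subgroup G) : Set G), n * x * n⁻¹ = y :=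
  ⟨partA P, partB P⟩

end Cfsg.Agent.S1907
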