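import Cfsg.Statements.S1921
import Cfsg.Agent.Lib.Helper34.Components2
import Cfsg.Agent.S1314

set_option autoImplicit false
open Cfsg

namespace Cfsg.Agent.S1921

open Cfsg.Agent.Helper34
open scoped commutatorElement

theorem result {H : Type*} [Group H] [Finite H] (a : H) (ha : orderOf a = 2) (L : Subgroup H) (hL : Cfsg.IsComponent L)
    (hLa : L.map (MulAut.conj a).toMonoidHom ≠ L) (x : H) (hxM : x ∈ L ⊔ L.map (MulAut.conj a).toMonoidHom)
    (hxJ : x ∉ Subgroup.closure {y : H | ∃ l ∈ L, y = l * (a * l * a⁻¹)} ⊔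
      ((L ⊔ L.map (MulAut.conj a).toMonoidHom) ⊓ Subgroup.centralizer ((L ⊔ L.map (MulAut.conj a).toMonoidHom : Subgroup H) : Set H))) :
    Subgroup.closure {y : H | ∃ l ∈ L, y = l * (a * l * a⁻¹)} ⊔ Subgroup.zpowers x = L ⊔ L.map (MulAut.conj a).toMonoidHom := by
  set La := L.map (MulAut.conj a).toMonoidHom with hLadef
  set J := Subgroup.closure {y : H | ∃ l ∈ L, y = l * (a * l * a⁻¹)} with hJ
  set M := L ⊔ La with hM
  have hmemLa : ∀ l ∈ L, a * l * a⁻¹ ∈ La := fun l hl => Subgroup.mem_map.mpr ⟨l, hl, rfl⟩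
  -- `La` is a component
  have hLacomp : Cfsg.IsComponent La := by
    refine ⟨hL.1.map (MulAut.conj a).surjective, ?_⟩
    exact isQuasisimple_of_mulEquiv
      (L.equivMapOfInjective (MulAut.conj a).toMonoidHom (MulAut.conj a).injective).symm hL.2
  -- `L` and `La` commute
  have hcomm : ⁅L, La⁆ = ⊥ := by
    rcases components_eq_or_commute hL hLacomp with h | h
    · exact absurd h.symm hLa
    · exact h
  have hc : ∀ l ∈ L, ∀ k ∈ La, k * l = l * k := by
    intro l hl k hk
    exact (Subgroup.commutator_eq_bot_iff_le_centralizer.mp hcomm) hl k hk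
  have hJgen : ∀ l ∈ L, l * (a * l * a⁻¹) ∈ J := fun l hl => Subgroup.subset_closure ⟨l, hl, rfl⟩
  apply le_antisymm
  · apply sup_le
    · rw [hJ, Subgroup.closure_le]
      rintro _ ⟨l, hl, rfl⟩
      exact Subgroup.mul_mem _ (Subgroup.mem_sup_left hl) (Subgroup.mem_sup_right (hmemLa l hl))
    · rw [Subgroup.zpowers_le]
      exact hxM
  · set K := J ⊔ Subgroup.zpowers x with hK
    have hJK : J ≤ K := le_sup_left
    have hxK : x ∈ K := (le_sup_right : Subgroup.zpowers x ≤ K) (Subgroup.mem_zpowers x)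
    -- decompose `x`
    obtain ⟨l₁, hl₁, k₂, hk₂, hx⟩ := Cfsg.Agent.S1314.mem_sup_of_commute hc hxM
    obtain ⟨l₂, hl₂, rfl⟩ := Subgroup.mem_map.mp hk₂
    have hk₂' : (MulAut.conj a).toMonoidHom l₂ = a * l₂ * a⁻¹ := rfl
    rw [hk₂'] at hx hk₂
    set u := l₁ * l₂⁻¹ with hu
    have huL : u ∈ L := L.mul_mem hl₁ (L.inv_mem hl₂)
    have hxu : x = u * (l₂ * (a * l₂ * a⁻¹)) := by rw [hx, hu]; group
    have huK : u ∈ K := by
      have : u = x * (l₂ * (a * l₂ * a⁻¹))⁻¹ := by rw [hxu]; group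
      rw [this]
      exact K.mul_mem hxK (K.inv_mem (hJK (hJgen l₂ hl₂)))
    -- `u` does not centralize `L`
    have hunc : ∃ l₀ ∈ L, u * l₀ ≠ l₀ * u := by
      by_contra hcon
      push_neg at hcon
      apply hxJ
      rw [hxu]
      apply Subgroup.mul_mem
      · apply Subgroup.mem_sup_right
        refine Subgroup.mem_inf.mpr ⟨Subgroup.mem_sup_left huL, ?_⟩
        -- `u` centralizes `M`
        have hle : M ≤ Subgroup.centralizer ({u} : Set H) := by
          rw [hM]
          apply sup_le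
          · intro l hl
            rw [Subgroup.mem_centralizer_singleton_iff]
            exact (hcon l hl).symm
          · intro k hk
            rw [Subgroup.mem_centralizer_singleton_iff]
            exact hc u huL k hk
        rw [Subgroup.mem_centralizer_iff]
        intro m hm
        have := hle hm
        rw [Subgroup.mem_centralizer_singleton_iff] at this
        exact this
      · exact Subgroup.mem_sup_left (hJgen l₂ hl₂)
    obtain ⟨l₀, hl₀, hne⟩ := hunc
    -- `K ⊓ L` is normal in `L`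
    haveI hN : ((K ⊓ L).subgroupOf L).Normal := by
      constructor
      rintro ⟨n, hnL⟩ hn ⟨l, hl⟩
      rw [Subgroup.mem_subgroupOf] at hn ⊢
      have hnK : n ∈ K := (Subgroup.mem_inf.mp hn).1
      show l * n * l⁻¹ ∈ K ⊓ L
      refine Subgroup.mem_inf.mpr ⟨?_, L.mul_mem (L.mul_mem hl hnL) (L.inv_mem hl)⟩
      have hk := hmemLa l hl
      have e1 : (a * l * a⁻¹) * n = n * (a * l * a⁻¹) := hc n hnL _ hk
      have e2 : (a * l * a⁻¹) * l = l * (a * l * a⁻¹) := hc l hl _ hk
      have e : l * n * l⁻¹ = (l * (a * l * a⁻¹)) * n * (l * (a * l * a⁻¹))⁻¹ := by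
        calc l * n * l⁻¹ = l * (n * (a * l * a⁻¹)) * (a * l * a⁻¹)⁻¹ * l⁻¹ := by group
          _ = l * ((a * l * a⁻¹) * n) * (a * l * a⁻¹)⁻¹ * l⁻¹ := by rw [e1]
          _ = (l * (a * l * a⁻¹)) * n * (l * (a * l * a⁻¹))⁻¹ := by group
      rw [e]
      exact K.mul_mem (K.mul_mem (hJK (hJgen l hl)) hnK) (K.inv_mem (hJK (hJgen l hl)))
    have hLK : L ≤ K := by
      rcases normal_eq_top_or_le_center hL.2 ((K ⊓ L).subgroupOf L) with h | h
      · intro l hl
        have : (⟨l, hl⟩ : L) ∈ (K ⊓ L).subgroupOf L := by rw [h]; exact Subgroup.mem_top _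
        exact (Subgroup.mem_inf.mp (Subgroup.mem_subgroupOf.mp this)).1
      · exfalso
        have h1 : (⟨u, huL⟩ : L) ∈ (K ⊓ L).subgroupOf L :=
          Subgroup.mem_subgroupOf.mpr (Subgroup.mem_inf.mpr ⟨huK, huL⟩)
        have h2 := Subgroup.mem_center_iff.mp (h h1) ⟨l₀, hl₀⟩
        exact hne (congrArg Subtype.val h2).symm
    apply sup_le hLK
    rintro _ ⟨l, hl, rfl⟩
    have : (MulAut.conj a).toMonoidHom l = l⁻¹ * (l * (a * l * a⁻¹)) := by
      show a * l * a⁻¹ = _
      group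
    rw [this]
    exact K.mul_mem (K.inv_mem (hLK hl)) (hJK (hJgen l hl))

end Cfsg.Agent.S1921
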