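import Cfsg.Statements.S1924
import Cfsg.Agent.Lib.Helper21.CosetSign

set_option autoImplicit false
open Cfsg

namespace Cfsg.Agent.S1924

open Cfsg.Agent.Helper21 Cfsg.Agent.Helper47

theorem dihedral_aux (n : ℕ) (hn : 2 ≤ n) (C₀ : Subgroup (DihedralGroup n)) (hcyc : IsCyclic ↥C₀)
    (h2 : C₀.index = 2) (y : DihedralGroup n) (hy : y ∉ C₀) : orderOf y = 2 := by
  have : NeZero n := ⟨by omega⟩
  cases y with
  | sr i => exact DihedralGroup.orderOf_sr i
  | r i =>
    have hcardD : Nat.card (DihedralGroup n) = 2 * n := by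
      rw [Nat.card_eq_fintype_card, DihedralGroup.card]
    have hcardC : Nat.card ↥C₀ = n := by
      have := C₀.card_mul_index
      rw [h2, hcardD] at this
      omega
    obtain ⟨g, hg⟩ := hcyc.exists_generator
    have hordg : orderOf (g : DihedralGroup n) = n := by
      have h1 : orderOf (g : DihedralGroup n) = orderOf g := Subgroup.orderOf_coe g
      have h2 : orderOf g = Nat.card ↥C₀ := orderOf_eq_card_of_forall_mem_zpowers hg
      rw [h1, h2, hcardC]
    have hC₀ : C₀ = Subgroup.zpowers (g : DihedralGroup n) := by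
      ext x
      constructor
      · intro hx
        obtain ⟨k, hk⟩ := Subgroup.mem_zpowers_iff.1 (hg ⟨x, hx⟩)
        refine Subgroup.mem_zpowers_iff.2 ⟨k, ?_⟩
        have := congrArg Subtype.val hk
        simpa using this
      · intro hx
        obtain ⟨k, hk⟩ := Subgroup.mem_zpowers_iff.1 hx
        rw [← hk]
        exact C₀.zpow_mem g.2 k
    rcases hgv : (g : DihedralGroup n) with j | j
    · -- generator is a rotation
      exfalso
      apply hy
      have hle : Subgroup.zpowers (DihedralGroup.r j) ≤ Subgroup.zpowers (DihedralGroup.r (1 : ZMod n)) := by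
        rw [Subgroup.zpowers_le]
        refine Subgroup.mem_zpowers_iff.2 ⟨(j.val : ℤ), ?_⟩
        rw [zpow_natCast, DihedralGroup.r_one_pow, ZMod.natCast_zmod_val]
      have hcard1 : Nat.card ↥(Subgroup.zpowers (DihedralGroup.r (1 : ZMod n))) = n := by
        rw [Nat.card_zpowers, DihedralGroup.orderOf_r_one]
      have hcard2 : Nat.card ↥(Subgroup.zpowers (DihedralGroup.r j)) = n := by
        rw [Nat.card_zpowers, ← hgv, hordg]
      have heq := Subgroup.eq_of_le_of_card_ge hle (by rw [hcard1, hcard2])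
      rw [hC₀, hgv, heq]
      refine Subgroup.mem_zpowers_iff.2 ⟨(i.val : ℤ), ?_⟩
      rw [zpow_natCast, DihedralGroup.r_one_pow, ZMod.natCast_zmod_val]
    · -- generator is a reflection: n = 2
      have hn2 : n = 2 := by
        rw [← hordg, hgv, DihedralGroup.orderOf_sr]
      subst hn2
      have hi : i = 0 ∨ i = 1 := by
        fin_cases i
        · left; rfl
        · right; rfl
      rcases hi with hi | hi
      · exfalso
        apply hy
        rw [hi]
        exact C₀.one_mem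
      · rw [hi]
        exact DihedralGroup.orderOf_r_one

/-- In a dihedral subgroup `D`, every element outside a cyclic subgroup `C` of index 2 is an involution. -/
theorem orderOf_eq_two_of_not_mem {G : Type*} [Group G] (D C : Subgroup G)
    (hDih : ∃ n : ℕ, 2 ≤ n ∧ Nonempty (↥D ≃* DihedralGroup n)) (hCD : C ≤ D) (hC : IsCyclic ↥C)
    (hCi : C.relIndex D = 2) (x : G) (hxD : x ∈ D) (hxC : x ∉ C) : orderOf x = 2 := by
  obtain ⟨n, hn, ⟨e⟩⟩ := hDih
  let C₀ : Subgroup (DihedralGroup n) := (C.subgroupOf D).map e.toMonoidHom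
  have hcyc : IsCyclic ↥C₀ := by
    have e1 : ↥(C.subgroupOf D) ≃* ↥C := Subgroup.subgroupOfEquivOfLe hCD
    have e2 : ↥(C.subgroupOf D) ≃* ↥C₀ :=
      Subgroup.equivMapOfInjective (C.subgroupOf D) e.toMonoidHom e.injective
    have : IsCyclic ↥(C.subgroupOf D) := e1.isCyclic.2 hC
    exact e2.isCyclic.1 this
  have hidx : C₀.index = 2 := by
    have : C₀.index = (C.subgroupOf D).index := Subgroup.index_map_equiv (C.subgroupOf D) e
    rw [this]
    exact hCi
  have hy : e ⟨x, hxD⟩ ∉ C₀ := by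
    rintro ⟨z, hz, hze⟩
    have : z = ⟨x, hxD⟩ := e.injective hze
    rw [this] at hz
    exact hxC (Subgroup.mem_subgroupOf.1 hz)
  have h := dihedral_aux n hn C₀ hcyc hidx _ hy
  rw [MulEquiv.orderOf_eq] at h
  rw [← h]
  exact (Subgroup.orderOf_mk x hxD).symm

theorem card_mul_relIndex {G : Type*} [Group G] {H K : Subgroup G} (h : H ≤ K) :
    Nat.card ↥H * H.relIndex K = Nat.card ↥K := by
  have := Subgroup.relIndex_mul_relIndex ⊥ H K bot_le h
  rwa [Subgroup.relIndex_bot_left, Subgroup.relIndex_bot_left] at this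

/-- `2^u * t = 2^v * t'` with `t, t'` odd forces `2^u = 2^v`. -/
theorem two_pow_eq_of_mul_odd {u v t t' : ℕ} (ht : ¬ 2 ∣ t) (ht' : ¬ 2 ∣ t')
    (h : 2 ^ u * t = 2 ^ v * t') : 2 ^ u = 2 ^ v := by
  have c1 : Nat.Coprime (2 ^ u) t' :=
    Nat.Coprime.pow_left u ((Nat.Prime.coprime_iff_not_dvd Nat.prime_two).2 ht')
  have c2 : Nat.Coprime (2 ^ v) t :=
    Nat.Coprime.pow_left v ((Nat.Prime.coprime_iff_not_dvd Nat.prime_two).2 ht)
  apply Nat.dvd_antisymm
  · apply c1.dvd_of_dvd_mul_right
    rw [← h]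
    exact Dvd.intro _ rfl
  · apply c2.dvd_of_dvd_mul_right
    rw [h]
    exact Dvd.intro _ rfl

/-- A consequence of Thompson's transfer lemma. Let G be a finite group, L a subgroup with O²(L) = L, T a Sylow 2-subgroup of L and S a Sylow 2-subgroup of G containing T. Suppose D ≤ S is a dihedral subgroup of order at least 4 (the four-group counts) with D ∩ T = 1 and S = TD as a set of products (so |S| = |T|·|D|), and C ≤ D is cyclic of index 2 in D. If no involution of D outside C is G-conjugate to an involution of the subgroup generated by T and C, and the involution of C is not G-conjugate to any involution of T, then G has a normal subgroup K, containing every Sylow 2-subgroup of L as a Sylow 2-subgroup, with G = KD. -/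
theorem result {G : Type*} [Group G] [Finite G] (L T S D C : Subgroup G) (hL : Cfsg.pResidual 2 ↥L = ⊤)
    (hTL : T ≤ L) (hT2 : IsPGroup 2 T) (hTsyl : ¬ 2 ∣ T.relIndex L)
    (hS2 : IsPGroup 2 S) (hSsyl : ¬ 2 ∣ S.index) (hTS : T ≤ S)
    (hDS : D ≤ S) (hDih : ∃ n : ℕ, 2 ≤ n ∧ Nonempty (↥D ≃* DihedralGroup n)) (hDT : D ⊓ T = ⊥) (hTD : T ⊔ D = S) (hTDc : Nat.card T * Nat.card D = Nat.card S)
    (hCD : C ≤ D) (hC : IsCyclic ↥C) (hCi : C.relIndex D = 2)
    (h1 : ∀ x ∈ D, x ∉ C → orderOf x = 2 → ∀ g : G, g * x * g⁻¹ ∈ T ⊔ C → False)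
    (h2 : ∀ c ∈ C, orderOf c = 2 → ∀ g : G, g * c * g⁻¹ ∈ T → False) :
    ∃ K : Subgroup G, K.Normal ∧ K ⊔ D = ⊤ ∧
      ∀ T' : Subgroup G, T' ≤ L → IsPGroup 2 T' → ¬ 2 ∣ T'.relIndex L → T' ≤ K ∧ ¬ 2 ∣ T'.relIndex K := by
  classical
  have hfact : Fact (Nat.Prime 2) := ⟨Nat.prime_two⟩
  set K : Subgroup G := pResidual 2 G with hKdef
  have hKn : K.Normal := pResidual_normal
  have hLK : L ≤ K := by
    have hh : (pResidual 2 ↥L).map L.subtype ≤ pResidual 2 G := map_pResidual_le_pResidual L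
    rw [hL] at hh
    have : (⊤ : Subgroup ↥L).map L.subtype = L := by
      rw [← MonoidHom.range_eq_map, Subgroup.range_subtype]
    rwa [this] at hh
  have hTK : T ≤ K := hTL.trans hLK
  have hCT : C ⊓ T = ⊥ := by
    apply le_bot_iff.1
    rw [← hDT]
    exact inf_le_inf_right T hCD
  have hcardD : Nat.card D = 2 * Nat.card C := by
    have := card_mul_relIndex hCD
    rw [hCi] at this
    omega
  have hSodd : Odd S.index := Nat.odd_iff.2 (by omega)
  set Q : Subgroup G := T ⊔ C with hQ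
  have hQS : Q ≤ S := sup_le hTS (hCD.trans hDS)
  obtain ⟨x₀, hx₀D, hx₀C⟩ : ∃ x₀ ∈ D, x₀ ∉ C := by
    by_contra hcon
    push Not at hcon
    have hDC : D ≤ C := hcon
    have : C.relIndex D = 1 := Subgroup.relIndex_eq_one.2 hDC
    omega
  have hx₀2 : orderOf x₀ = 2 := orderOf_eq_two_of_not_mem D C hDih hCD hC hCi x₀ hx₀D hx₀C
  have hQrel : Q.relIndex S = 2 := by
    have hne : T.relIndex Q ≠ 0 := by
      unfold Subgroup.relIndex
      exact Subgroup.index_ne_zero_of_finite
    have hc1 : Nat.card C ≤ T.relIndex Q := by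
      have hb : T.relIndex C = Nat.card C := by
        rw [← Subgroup.inf_relIndex_right, inf_comm, hCT, Subgroup.relIndex_bot_left]
      rw [← hb]
      exact Subgroup.relIndex_le_of_le_right le_sup_right hne
    have hh2 := card_mul_relIndex (le_sup_left : T ≤ Q)
    have hh3 := card_mul_relIndex hQS
    have hTpos : 0 < Nat.card T := Nat.card_pos
    have hh4 : T.relIndex Q * Q.relIndex S = 2 * Nat.card C := by
      have : Nat.card T * (T.relIndex Q * Q.relIndex S) = Nat.card T * (2 * Nat.card C) := by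
        rw [← mul_assoc, hh2, hh3, ← hTDc, hcardD]
      exact Nat.eq_of_mul_eq_mul_left hTpos this
    have hh5 : Q.relIndex S ≠ 1 := by
      intro h
      have hSQ : S ≤ Q := Subgroup.relIndex_eq_one.1 h
      have hx₀Q : x₀ ∈ T ⊔ C := hSQ (hDS hx₀D)
      exact h1 x₀ hx₀D hx₀C hx₀2 1 (by simpa using hx₀Q)
    have hCpos : 0 < Nat.card C := Nat.card_pos
    have hh6 : Q.relIndex S ≠ 0 := by
      unfold Subgroup.relIndex
      exact Subgroup.index_ne_zero_of_finite
    have hh7 : Q.relIndex S ≤ 2 := by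
      by_contra hgt
      push Not at hgt
      have : Nat.card C * 3 ≤ T.relIndex Q * Q.relIndex S := Nat.mul_le_mul hc1 hgt
      omega
    omega
  have hQidx : Q.index = 2 ^ (0 + 1) * S.index := by
    rw [← Subgroup.relIndex_mul_index hQS, hQrel]
    norm_num
  -- the first sign homomorphism
  let s₁ : G →* ℤˣ := cosetSign Q
  have hs₁ : ∀ x ∈ D, x ∉ C → s₁ x = -1 := by
    intro x hxD hxC
    have hx2 : orderOf x = 2 := orderOf_eq_two_of_not_mem D C hDih hCD hC hCi x hxD hxC
    apply cosetSign_eq_neg_one Q x 0 (by simpa using hx2) _ S.index hSodd hQidx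
    intro i g hg
    rcases Nat.even_or_odd i with hi | hi
    · obtain ⟨i', rfl⟩ := hi
      rw [← two_mul, pow_mul, ← hx2, pow_orderOf_eq_one, one_pow]
    · exfalso
      obtain ⟨i', rfl⟩ := hi
      have hxi : x ^ (2 * i' + 1) = x := by
        rw [pow_succ, pow_mul, ← hx2, pow_orderOf_eq_one, one_pow, one_mul]
      rw [hxi] at hg
      exact h1 x hxD hxC hx2 g⁻¹ (by simpa using hg)
  have hKM : K ≤ s₁.ker := pResidual_two_le_ker s₁
  -- a generator of C
  obtain ⟨gC, hgC⟩ := hC.exists_generator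
  set c : G := (gC : G) with hcdef
  have hcC : c ∈ C := gC.2
  have hCpow : ∀ y ∈ C, ∃ i : ℕ, c ^ i = y := by
    intro y hy
    have hmem : (⟨y, hy⟩ : ↥C) ∈ Subgroup.zpowers gC := hgC ⟨y, hy⟩
    rw [← mem_powers_iff_mem_zpowers] at hmem
    obtain ⟨i, hi⟩ := hmem
    refine ⟨i, ?_⟩
    have := congrArg Subtype.val hi
    simpa using this
  have hC2 : IsPGroup 2 ↥C := hS2.to_le (hCD.trans hDS)
  obtain ⟨k, hk⟩ := hC2.exists_card_eq
  have hordc : orderOf c = 2 ^ k := by
    have e1 : orderOf c = orderOf gC := Subgroup.orderOf_coe gC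
    have e2 : orderOf gC = Nat.card ↥C := orderOf_eq_card_of_forall_mem_zpowers hgC
    rw [e1, e2, hk]
  have hcM : c ∈ s₁.ker := by
    rw [MonoidHom.mem_ker]
    have hx₁D : x₀⁻¹ * c ∈ D := D.mul_mem (D.inv_mem hx₀D) (hCD hcC)
    have hx₁C : x₀⁻¹ * c ∉ C := by
      intro h
      apply hx₀C
      have : x₀⁻¹ ∈ C := by
        have := C.mul_mem h (C.inv_mem hcC)
        simpa using this
      simpa using C.inv_mem this
    have : c = x₀ * (x₀⁻¹ * c) := by group
    rw [this, map_mul, hs₁ x₀ hx₀D hx₀C, hs₁ _ hx₁D hx₁C]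
    norm_num
  have hfreeC : ∀ i : ℕ, ∀ g : G, g⁻¹ * c ^ i * g ∈ T → c ^ i = 1 := by
    intro i g hg
    by_contra hne
    set y : G := c ^ i with hy
    have hyC : y ∈ C := C.pow_mem hcC i
    have hydvd : orderOf y ∣ 2 ^ k := by
      rw [← hordc]
      exact orderOf_pow_dvd i
    obtain ⟨l, hl, hyl⟩ := (Nat.dvd_prime_pow Nat.prime_two).1 hydvd
    have hl0 : l ≠ 0 := by
      intro h0
      rw [h0, pow_zero, orderOf_eq_one_iff] at hyl
      exact hne hyl
    obtain ⟨l', rfl⟩ := Nat.exists_eq_succ_of_ne_zero hl0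
    set z : G := y ^ (2 ^ l') with hz
    have hzC : z ∈ C := C.pow_mem hyC _
    have hz2 : orderOf z = 2 := by
      have hz1 : z ^ 2 = 1 := by
        rw [hz, ← pow_mul, ← pow_succ, ← hyl, pow_orderOf_eq_one]
      have hzne : z ≠ 1 := by
        intro h
        have : orderOf y ∣ 2 ^ l' := orderOf_dvd_of_pow_eq_one h
        rw [hyl] at this
        have := Nat.le_of_dvd (by positivity) this
        have hlt : 2 ^ l' < 2 ^ (l' + 1) := Nat.pow_lt_pow_right (by norm_num) (by omega)
        omega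
      exact orderOf_eq_prime hz1 hzne
    apply h2 z hzC hz2 g⁻¹
    have : g⁻¹ * z * g⁻¹⁻¹ = (g⁻¹ * y * g) ^ (2 ^ l') := by
      rw [inv_inv, hz]
      have hconj : ∀ n : ℕ, (g⁻¹ * y * g) ^ n = g⁻¹ * y ^ n * g := by
        intro n
        have := map_pow (MulAut.conj g⁻¹) y n
        simpa [MulAut.conj_apply] using this.symm
      rw [hconj]
    rw [this]
    exact T.pow_mem hg _
  have hTM : T ≤ s₁.ker := hTK.trans hKM
  have hMidx : (s₁.ker).index = 2 := by
    rw [Subgroup.index_ker]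
    have hrange : s₁.range = ⊤ := by
      rw [eq_top_iff]
      intro x _
      rcases Int.units_eq_one_or x with h | h
      · rw [h]; exact Subgroup.one_mem _
      · rw [h, ← hs₁ x₀ hx₀D hx₀C]; exact ⟨x₀, rfl⟩
    rw [hrange, Nat.card_congr Subgroup.topEquiv.toEquiv, Nat.card_eq_fintype_card]
    rfl
  have hTrelS : T.relIndex S = 2 * 2 ^ k := by
    have := card_mul_relIndex hTS
    rw [← hTDc, hcardD, hk] at this
    exact Nat.eq_of_mul_eq_mul_left Nat.card_pos this
  have hTrelM : T.relIndex s₁.ker = 2 ^ k * S.index := by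
    have e1 : T.relIndex s₁.ker * (s₁.ker).index = T.index := Subgroup.relIndex_mul_index hTM
    have e2 : T.relIndex S * S.index = T.index := Subgroup.relIndex_mul_index hTS
    rw [hMidx, ← e2, hTrelS] at e1
    have : T.relIndex s₁.ker * 2 = (2 ^ k * S.index) * 2 := by rw [e1]; ring
    exact Nat.eq_of_mul_eq_mul_right (by norm_num) this
  have hCK : ∀ i : ℕ, c ^ i ∈ K → c ^ i = 1 :=
    pow_eq_one_of_mem_pResidual T hTK k s₁.ker c hKM hcM hordc hfreeC ⟨S.index, hSodd, hTrelM⟩
  -- K ∩ D = 1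
  have hKD : K ⊓ D = ⊥ := by
    rw [eq_bot_iff]
    intro d hd
    obtain ⟨hdK, hdD⟩ := Subgroup.mem_inf.1 hd
    rw [Subgroup.mem_bot]
    by_cases hdC : d ∈ C
    · obtain ⟨i, rfl⟩ := hCpow d hdC
      exact hCK i hdK
    · exfalso
      have h3 := hs₁ d hdD hdC
      have h4 : s₁ d = 1 := MonoidHom.mem_ker.1 (hKM hdK)
      rw [h4] at h3
      exact absurd h3 (by decide)
  -- counting
  have hGK2 : IsPGroup 2 (G ⧸ K) := isPGroup_quotient_of_pResidual_le K le_rfl
  obtain ⟨a, ha⟩ := hGK2.exists_card_eq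
  have hKidx : K.index = 2 ^ a := by rw [Subgroup.index_eq_card]; exact ha
  have hD2 : IsPGroup 2 ↥D := hS2.to_le hDS
  obtain ⟨d, hd⟩ := hD2.exists_card_eq
  have hrelD : K.relIndex (D ⊔ K) = Nat.card D := by
    rw [Subgroup.relIndex_sup_right, ← Subgroup.inf_relIndex_right, hKD, Subgroup.relIndex_bot_left]
  have hcardDK : Nat.card ↥(D ⊔ K) = Nat.card K * Nat.card D := by
    have := card_mul_relIndex (le_sup_right : K ≤ D ⊔ K)
    rw [hrelD] at this
    exact this.symm
  have hcardG1 : Nat.card G = Nat.card K * 2 ^ a := by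
    rw [← hKidx]; exact (K.card_mul_index).symm
  have hcardG2 : Nat.card G = Nat.card T * Nat.card D * S.index := by
    rw [hTDc]; exact (S.card_mul_index).symm
  have hcardK : Nat.card K = Nat.card T * T.relIndex K := (card_mul_relIndex hTK).symm
  have hKpos : 0 < Nat.card K := Nat.card_pos
  have hTpos : 0 < Nat.card T := Nat.card_pos
  have hda : 2 ^ d ≤ 2 ^ a := by
    have hle : Nat.card ↥(D ⊔ K) ≤ Nat.card G := Nat.card_le_card_of_injective _ Subtype.val_injective
    rw [hcardDK, hcardG1, hd] at hle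
    exact Nat.le_of_mul_le_mul_left hle hKpos
  have hmain : T.relIndex K * 2 ^ a = 2 ^ d * S.index := by
    have : Nat.card T * (T.relIndex K * 2 ^ a) = Nat.card T * (2 ^ d * S.index) := by
      rw [← mul_assoc, ← hcardK, ← hcardG1, hcardG2, hd, mul_assoc]
    exact Nat.eq_of_mul_eq_mul_left hTpos this
  have had : 2 ^ a ∣ 2 ^ d := by
    have cop : Nat.Coprime (2 ^ a) S.index :=
      Nat.Coprime.pow_left a ((Nat.Prime.coprime_iff_not_dvd Nat.prime_two).2 hSsyl)
    apply cop.dvd_of_dvd_mul_right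
    rw [← hmain]
    exact Dvd.intro_left _ rfl
  have hadeq : 2 ^ a = 2 ^ d := le_antisymm (Nat.le_of_dvd (by positivity) had) hda
  have hrelTK : T.relIndex K = S.index := by
    rw [hadeq, mul_comm] at hmain
    exact Nat.eq_of_mul_eq_mul_left (by positivity) hmain
  refine ⟨K, hKn, ?_, ?_⟩
  · -- K ⊔ D = ⊤
    rw [sup_comm]
    apply Subgroup.eq_top_of_card_eq
    rw [hcardDK, hcardG1, hd, hadeq]
  · intro T' hT'L hT'2 hT'syl
    have hT'K : T' ≤ K := hT'L.trans hLK
    refine ⟨hT'K, ?_⟩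
    -- |T'| = |T|
    obtain ⟨u, hu⟩ := hT2.exists_card_eq
    obtain ⟨v, hv⟩ := hT'2.exists_card_eq
    have e1 := card_mul_relIndex hTL
    have e2 := card_mul_relIndex hT'L
    have huv : 2 ^ u = 2 ^ v := by
      apply two_pow_eq_of_mul_odd hTsyl hT'syl
      rw [← hu, ← hv, e1, e2]
    have hcardT' : Nat.card T' = Nat.card T := by rw [hu, hv, huv]
    have e3 := card_mul_relIndex hT'K
    rw [hcardT', hcardK] at e3
    have : T'.relIndex K = T.relIndex K := Nat.eq_of_mul_eq_mul_left hTpos e3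
    rw [this, hrelTK]
    exact hSsyl

end Cfsg.Agent.S1924
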