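import Cfsg.Statements.S1939
import Cfsg.Agent.Lib.Helper32.Basic

set_option autoImplicit false
open Cfsg

namespace Cfsg.Agent.S1939

open Cfsg.Agent.Helper32

/-- Let S be a Sylow p-subgroup of the finite group G and a an element of S that is the only G-conjugate of a lying in S. Then every power of a has the same property: for every n, the only G-conjugate of a^n lying in S is a^n. -/
theorem result {G : Type*} [Group G] [Finite G] {p : ℕ} [Fact p.Prime] (S : Sylow p G) (a : G)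
    (haS : a ∈ (S : Subgroup G)) (hwc : ∀ g : G, g * a * g⁻¹ ∈ (S : Subgroup G) → g * a * g⁻¹ = a) (n : ℕ) :
    ∀ g : G, g * a ^ n * g⁻¹ ∈ (S : Subgroup G) → g * a ^ n * g⁻¹ = a ^ n := by
  intro g hg
  set b := g * a ^ n * g⁻¹ with hb
  -- a is central in S
  have hacomm : ∀ s ∈ (S : Subgroup G), s * a = a * s := by
    intro s hs
    have h1 : s * a * s⁻¹ ∈ (S : Subgroup G) :=
      (S : Subgroup G).mul_mem ((S : Subgroup G).mul_mem hs haS) ((S : Subgroup G).inv_mem hs)
    have h2 := hwc s h1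
    calc s * a = s * a * s⁻¹ * s := by group
      _ = a * s := by rw [h2]
  obtain ⟨k, hk⟩ := pow_prime_pow_eq_one_of_mem_sylow S a haS
  let C := Subgroup.centralizer ({b} : Set G)
  have haC : a ∈ C := by
    rw [Subgroup.mem_centralizer_singleton_iff]
    exact (hacomm b hg).symm
  have ha'C : g * a * g⁻¹ ∈ C := by
    rw [Subgroup.mem_centralizer_singleton_iff]
    have : b = (g * a * g⁻¹) ^ n := by rw [hb, conj_pow]
    rw [this]
    exact (Commute.pow_right (Commute.refl _) n).eq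
  -- Sylow of C
  obtain ⟨T⟩ : Nonempty (Sylow p C) := inferInstance
  have hk1 : (⟨a, haC⟩ : C) ^ (p ^ k) = 1 := by
    ext; simp [hk]
  have hk2 : (⟨g * a * g⁻¹, ha'C⟩ : C) ^ (p ^ k) = 1 := by
    ext; simp [conj_pow, hk]
  obtain ⟨c1, hc1⟩ := exists_conj_mem_sylow T ⟨a, haC⟩ ⟨k, hk1⟩
  obtain ⟨c2, hc2⟩ := exists_conj_mem_sylow T ⟨g * a * g⁻¹, ha'C⟩ ⟨k, hk2⟩
  -- map T to G
  have hTp : IsPGroup p ((T : Subgroup C).map C.subtype) := T.isPGroup'.map _
  obtain ⟨h, hh⟩ := exists_conj_le_sylow S _ hTp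
  have e1 := hh _ (Subgroup.mem_map_of_mem C.subtype hc1)
  have e2 := hh _ (Subgroup.mem_map_of_mem C.subtype hc2)
  simp only [Subgroup.coe_subtype, Subgroup.coe_mul, Subgroup.coe_inv] at e1 e2
  have f1 : h * ((c1 : G) * a * (c1 : G)⁻¹) * h⁻¹ = a := by
    have := hwc (h * c1) (by simpa [mul_assoc] using e1)
    simpa [mul_assoc] using this
  have f2 : h * ((c2 : G) * (g * a * g⁻¹) * (c2 : G)⁻¹) * h⁻¹ = a := by
    have := hwc (h * c2 * g) (by simpa [mul_assoc] using e2)
    simpa [mul_assoc] using this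
  have f3 : (c1 : G) * a * (c1 : G)⁻¹ = (c2 : G) * (g * a * g⁻¹) * (c2 : G)⁻¹ := by
    have := f1.trans f2.symm
    simpa using this
  -- take n-th powers
  have f4 : (c1 : G) * a ^ n * (c1 : G)⁻¹ = (c2 : G) * b * (c2 : G)⁻¹ := by
    have := congrArg (· ^ n) f3
    simp only [conj_pow] at this
    rw [hb]; exact this
  have hc2b : (c2 : G) * b * (c2 : G)⁻¹ = b := by
    have := Subgroup.mem_centralizer_singleton_iff.mp c2.2
    rw [this]; group
  have hc1b : (c1 : G)⁻¹ * b * (c1 : G) = b := by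
    have := Subgroup.mem_centralizer_singleton_iff.mp c1.2
    rw [mul_assoc, ← this]; group
  rw [hc2b] at f4
  calc b = (c1 : G)⁻¹ * b * (c1 : G) := hc1b.symm
    _ = (c1 : G)⁻¹ * ((c1 : G) * a ^ n * (c1 : G)⁻¹) * (c1 : G) := by rw [f4]
    _ = a ^ n := by group

end Cfsg.Agent.S1939
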