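import Cfsg.Statements.S1940
import Mathlib.GroupTheory.GroupAction.Quotient
import Mathlib.Tactic

set_option autoImplicit false
open Cfsg

namespace Cfsg.Agent.S1940

/-- Let the finite group L act by automorphisms on the finite abelian group M, and let N be an L-invariant subgroup of M such that M/N is a p-group on which L acts trivially (every l • m lies in the coset mN). If every element of M is a product of an element of N and an element fixed by a Sylow p-subgroup T of L, then every element of M is a product of an element of N and an element fixed by all of L. -/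
theorem result {L : Type*} [Group L] [Finite L] {M : Type*} [CommGroup M] [Finite M] [MulDistribMulAction L M]
    {p : ℕ} [Fact p.Prime] (N : Subgroup M) (hN : ∀ (l : L) (m : M), m ∈ N → l • m ∈ N)
    (hquot : IsPGroup p (M ⧸ N)) (htriv : ∀ (l : L) (m : M), (l • m) * m⁻¹ ∈ N) (T : Sylow p L)
    (hT : ∀ m : M, ∃ n ∈ N, ∃ c : M, (∀ t ∈ (T : Subgroup L), t • c = c) ∧ m = n * c) :
    ∀ m : M, ∃ n ∈ N, ∃ c : M, (∀ l : L, l • c = c) ∧ m = n * c := by
  intro m
  classical
  haveI : Fintype (L ⧸ (T : Subgroup L)) := Fintype.ofFinite _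
  set k := Nat.card (L ⧸ (T : Subgroup L)) with hk
  have hkidx : k = (T : Subgroup L).index := rfl
  have hkp : ¬ p ∣ k := by
    rw [hkidx]; exact T.not_dvd_index
  obtain ⟨e, he⟩ := IsPGroup.iff_card.mp hquot
  have hcop : (Nat.card (M ⧸ N)).Coprime k := by
    rw [he]
    apply Nat.Coprime.pow_left
    exact (Nat.Prime.coprime_iff_not_dvd (Fact.out)).mpr hkp
  -- find m' with m'^k ≡ m mod N
  obtain ⟨y, hy⟩ := (Nat.Coprime.pow_left_bijective hcop).2 (QuotientGroup.mk m : M ⧸ N)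
  obtain ⟨m', rfl⟩ := QuotientGroup.mk_surjective y
  have hy' : (QuotientGroup.mk (m' ^ k) : M ⧸ N) = QuotientGroup.mk m := by
    simpa using hy
  have h1 : (m' ^ k)⁻¹ * m ∈ N := QuotientGroup.eq.mp hy'
  obtain ⟨n₀, hn₀, c₀, hc₀, hm'⟩ := hT m'
  -- define c
  set c : M := ∏ q : L ⧸ (T : Subgroup L), (q.out • c₀) with hc
  have hF : ∀ x : L, ((QuotientGroup.mk x : L ⧸ (T : Subgroup L)).out) • c₀ = x • c₀ := by
    intro x
    obtain ⟨t, ht⟩ := QuotientGroup.mk_out_eq_mul (T : Subgroup L) x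
    rw [ht, mul_smul, hc₀ t t.2]
  have hcfix : ∀ l : L, l • c = c := by
    intro l
    have e1 : l • c = ∏ q : L ⧸ (T : Subgroup L), l • (q.out • c₀) := by
      rw [hc]
      exact map_prod (MulDistribMulAction.toMonoidHom M l) _ _
    rw [e1]
    have e2 : ∀ q : L ⧸ (T : Subgroup L), l • (q.out • c₀) = ((l • q).out) • c₀ := by
      intro q
      have : l • q = QuotientGroup.mk (l * q.out) := by
        conv_lhs => rw [← QuotientGroup.out_eq' q]
        rfl
      rw [this, hF, mul_smul]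
    simp_rw [e2]
    exact Equiv.prod_comp (MulAction.toPerm l : Equiv.Perm (L ⧸ (T : Subgroup L))) (fun q => q.out • c₀)
  -- c ≡ c₀^k mod N
  have h2 : c * (c₀ ^ k)⁻¹ ∈ N := by
    have e3 : c * (c₀ ^ k)⁻¹ = ∏ q : L ⧸ (T : Subgroup L), ((q.out • c₀) * c₀⁻¹) := by
      rw [Finset.prod_mul_distrib, Finset.prod_const, Finset.card_univ, hc, hk,
        Nat.card_eq_fintype_card, inv_pow]
    rw [e3]
    exact Subgroup.prod_mem N (fun q _ => htriv _ _)
  refine ⟨m * c⁻¹, ?_, c, hcfix, by group⟩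
  -- m * c⁻¹ ∈ N
  have e4 : m * c⁻¹ = ((m' ^ k)⁻¹ * m) * n₀ ^ k * (c * (c₀ ^ k)⁻¹)⁻¹ := by
    rw [hm', mul_pow]
    have : ∀ a b c d : M, b * c⁻¹ = ((a * d)⁻¹ * b) * a * (c * d⁻¹)⁻¹ := by
      intro a b c d
      rw [mul_inv_rev, mul_inv_rev, inv_inv]
      have : d⁻¹ * a⁻¹ * b * a * (d * c⁻¹) = b * c⁻¹ * (d⁻¹ * d) * (a⁻¹ * a) := by
        simp only [mul_assoc, mul_comm, mul_left_comm]
      rw [this]; simp
    exact this _ _ _ _
  rw [e4]
  exact N.mul_mem (N.mul_mem h1 (N.pow_mem hn₀ k)) (N.inv_mem h2)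

end Cfsg.Agent.S1940
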