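import Cfsg.Statements.S1941
import Cfsg.Agent.Lib.Helper22.Bender
import Cfsg.Agent.Lib.Helper55.Cores

set_option autoImplicit false
open Cfsg

namespace Cfsg.Agent.S1941

open Subgroup

/-- In a finite group with `O_{p'}(G) = 1`, a normal nilpotent subgroup is a `p`-group. -/
theorem isPGroup_of_normal_nilpotent {G : Type*} [Group G] [Finite G] {p : ℕ} [Fact p.Prime]
    (hcore : Cfsg.pPrimeCore p G = ⊥) (N : Subgroup G) (hNn : N.Normal) (hnil : Group.IsNilpotent N) :
    IsPGroup p N := by
  have hp : p.Prime := Fact.out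
  have hall : ∀ {q : ℕ}, q.Prime → q ∣ Nat.card N → q = p := by
    intro q hq hqN
    by_contra hne
    haveI : Fact q.Prime := ⟨hq⟩
    obtain ⟨Q⟩ : Nonempty (Sylow q N) := inferInstance
    have hQn : (Q : Subgroup N).Normal := inferInstance
    have hQc : (Q : Subgroup N).Characteristic := Sylow.characteristic_of_normal Q hQn
    have hQG : ((Q : Subgroup N).map N.subtype).Normal := inferInstance
    have hcard : Nat.card ((Q : Subgroup N).map N.subtype) = Nat.card (Q : Subgroup N) :=
      card_map_of_injective N.subtype_injective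
    obtain ⟨k, hk⟩ := IsPGroup.iff_card.mp Q.2
    have hcop : (Nat.card ((Q : Subgroup N).map N.subtype)).Coprime p := by
      rw [hcard, hk]
      exact Nat.Coprime.pow_left k ((Nat.coprime_primes hq hp).mpr hne)
    have hle := Cfsg.Agent.Helper55.le_pPrimeCore hQG hcop
    rw [hcore, le_bot_iff] at hle
    have hQbot : (Q : Subgroup N) = ⊥ := by
      rw [eq_bot_iff]
      intro x hx
      have : N.subtype x ∈ (Q : Subgroup N).map N.subtype := ⟨x, hx, rfl⟩
      rw [hle, mem_bot] at this
      rw [mem_bot]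
      exact N.subtype_injective (by rw [this]; rfl)
    have h1 : Nat.card (Q : Subgroup N) = 1 := by rw [hQbot]; exact card_bot
    have h2 : q ∣ Nat.card (Q : Subgroup N) := by
      rw [Sylow.card_eq_multiplicity]
      apply dvd_pow_self
      intro h0
      have := (Nat.factorization_eq_zero_iff (Nat.card N) q).mp h0
      rcases this with h | h | h
      · exact h hq
      · exact h hqN
      · exact Nat.card_pos.ne' h
    rw [h1] at h2
    exact hq.one_lt.ne' (Nat.dvd_one.mp h2)
  have := Nat.eq_prime_pow_of_unique_prime_dvd (Nat.card_pos (α := N)).ne' hall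
  exact IsPGroup.of_card this

/-- Let G be a finite group with no nontrivial normal subgroup of order prime to p, T a Sylow p-subgroup of G and E(G) the layer of G (the subgroup generated by its components). An automorphism of G of p-power order that fixes T and E(G) elementwise is inner. -/
theorem result {G : Type*} [Group G] [Finite G] {p : ℕ} [Fact p.Prime] (hcore : Cfsg.pPrimeCore p G = ⊥)
    (T : Sylow p G) (α : MulAut G) (hα : ∃ j : ℕ, orderOf α = p ^ j) (hfixT : ∀ x ∈ (T : Subgroup G), α x = x)
    (hfixE : ∀ x ∈ Cfsg.layer G, α x = x) : ∃ g : G, ∀ x : G, α x = g * x * g⁻¹ := by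
  classical
  have hp : p.Prime := Fact.out
  -- the fixed-point subgroup
  let Fix : Subgroup G :=
    { carrier := {x | α x = x}
      mul_mem' := by
        intro a b ha hb
        show α (a * b) = a * b
        rw [map_mul, ha, hb]
      one_mem' := map_one α
      inv_mem' := by
        intro a ha
        show α a⁻¹ = a⁻¹
        rw [map_inv, ha] }
  have hFixmem : ∀ x : G, x ∈ Fix ↔ α x = x := fun x => Iff.rfl
  have hTFix : (T : Subgroup G) ≤ Fix := fun x hx => hfixT x hx
  have hEFix : Cfsg.layer G ≤ Fix := fun x hx => hfixE x hx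
  have hnilT : ∀ N : Subgroup G, N.Normal → Group.IsNilpotent N → N ≤ (T : Subgroup G) := by
    intro N hNn hnil
    haveI := hNn
    exact (isPGroup_of_normal_nilpotent hcore N hNn hnil).le_sylow_of_normal T
  have hFFix : Cfsg.fittingSubgroup G ≤ Fix := by
    unfold Cfsg.fittingSubgroup
    apply sSup_le
    intro N hN
    exact (hnilT N hN.1 hN.2).trans hTFix
  set Fs := Cfsg.generalizedFittingSubgroup G with hFs
  have hFsFix : Fs ≤ Fix := sup_le hEFix hFFix
  have hFsn : Fs.Normal := inferInstance
  set Z := centralizer (Fs : Set G) with hZ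
  have hZn : Z.Normal := inferInstance
  have hZF : Z ≤ Fs := Cfsg.Agent.Helper22.centralizer_generalizedFittingSubgroup_le
  have hZcomm : ∀ a ∈ Z, ∀ b ∈ Z, a * b = b * a := by
    intro a ha b hb
    exact (mem_centralizer_iff.mp hb a (hZF ha))
  have hZnil : Group.IsNilpotent Z := by
    haveI : IsMulCommutative Z := ⟨⟨fun a b => Subtype.ext (hZcomm a a.2 b b.2)⟩⟩
    let _ : CommGroup Z := { (inferInstance : Group Z) with mul_comm := fun a b => Subtype.ext (hZcomm a a.2 b b.2) }
    exact CommGroup.isNilpotent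
  have hZT : Z ≤ (T : Subgroup G) := hnilT Z hZn hZnil
  have hZp : IsPGroup p Z := T.2.to_le hZT
  -- the cocycle
  have hβ : ∀ g : G, α g * g⁻¹ ∈ Z := by
    intro g
    rw [hZ, mem_centralizer_iff]
    intro f hf
    have h1 : g⁻¹ * f * g ∈ Fs := by
      have := hFsn.conj_mem f hf g⁻¹
      simpa using this
    have h2 : α (g⁻¹ * f * g) = g⁻¹ * f * g := hFsFix h1
    have h3 : α f = f := hFsFix hf
    rw [map_mul, map_mul, map_inv, h3] at h2
    -- h2 : (α g)⁻¹ * f * α g = g⁻¹ * f * g
    calc f * (α g * g⁻¹) = α g * ((α g)⁻¹ * f * α g) * g⁻¹ := by group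
      _ = α g * (g⁻¹ * f * g) * g⁻¹ := by rw [h2]
      _ = α g * g⁻¹ * f := by group
  -- work in the commutative group `Z`
  let instZ : CommGroup Z := { (inferInstance : Group Z) with mul_comm := fun a b => Subtype.ext (hZcomm a a.2 b b.2) }
  let β : G → Z := fun g => ⟨α g * g⁻¹, hβ g⟩
  have hβmul : ∀ g h : G, ((β (g * h) : Z) : G) = (β g : G) * (g * (β h : G) * g⁻¹) := by
    intro g h
    show α (g * h) * (g * h)⁻¹ = (α g * g⁻¹) * (g * (α h * h⁻¹) * g⁻¹)
    rw [map_mul]; group
  have hβT : ∀ g : G, ∀ t ∈ (T : Subgroup G), β (g * t) = β g := by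
    intro g t ht
    apply Subtype.ext
    show α (g * t) * (g * t)⁻¹ = α g * g⁻¹
    rw [map_mul, hfixT t ht]; group
  -- conjugation action on `Z`
  let cj : G → Z → Z := fun x z => ⟨x * (z : G) * x⁻¹, hZn.conj_mem _ z.2 x⟩
  have hcjmul : ∀ (x : G) (a b : Z), cj x (a * b) = cj x a * cj x b := by
    intro x a b
    apply Subtype.ext
    show x * ((a : G) * (b : G)) * x⁻¹ = (x * (a : G) * x⁻¹) * (x * (b : G) * x⁻¹)
    group
  let cjHom : G → (Z →* Z) := fun x =>
    { toFun := cj x
      map_one' := by
        apply Subtype.ext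
        show x * ((1 : Z) : G) * x⁻¹ = ((1 : Z) : G)
        simp
      map_mul' := hcjmul x }
  letI : Fintype (G ⧸ (T : Subgroup G)) := Fintype.ofFinite _
  set k := Nat.card (G ⧸ (T : Subgroup G)) with hk
  have hkidx : k = (T : Subgroup G).index := rfl
  have hkp : ¬ p ∣ k := by rw [hkidx]; exact T.not_dvd_index
  obtain ⟨e, he⟩ := IsPGroup.iff_card.mp hZp
  have hcop : (Nat.card Z).Coprime k := by
    rw [he]
    exact Nat.Coprime.pow_left e ((Nat.Prime.coprime_iff_not_dvd hp).mpr hkp)
  -- `β` on coset representatives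
  have hF : ∀ x : G, β ((QuotientGroup.mk x : G ⧸ (T : Subgroup G)).out) = β x := by
    intro x
    obtain ⟨t, ht⟩ := QuotientGroup.mk_out_eq_mul (T : Subgroup G) x
    rw [ht]
    exact hβT x t t.2
  set w : Z := ∏ q : G ⧸ (T : Subgroup G), β q.out with hw
  have hkey : ∀ x : G, w = (β x) ^ k * cj x w := by
    intro x
    have e1 : cj x w = ∏ q : G ⧸ (T : Subgroup G), cj x (β q.out) := by
      rw [hw]
      exact map_prod (cjHom x) _ _
    have e2 : (β x) ^ k * cj x w = ∏ q : G ⧸ (T : Subgroup G), (β x * cj x (β q.out)) := by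
      rw [Finset.prod_mul_distrib, Finset.prod_const, Finset.card_univ, e1, hk, Nat.card_eq_fintype_card]
    have e3 : ∀ q : G ⧸ (T : Subgroup G), β x * cj x (β q.out) = β ((x • q).out) := by
      intro q
      have h1 : x • q = QuotientGroup.mk (x * q.out) := by
        conv_lhs => rw [← QuotientGroup.out_eq' q]
        rfl
      rw [h1, hF]
      apply Subtype.ext
      rw [hβmul]
      rfl
    rw [e2]
    simp_rw [e3]
    exact (Equiv.prod_comp (MulAction.toPerm x : Equiv.Perm (G ⧸ (T : Subgroup G))) (fun q => β q.out)).symm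
  -- the `k`-th root
  obtain ⟨u, hu⟩ := (Nat.Coprime.pow_left_bijective hcop).2 w
  have hu' : u ^ k = w := hu
  refine ⟨(u : G), ?_⟩
  intro x
  have h1 : (β x) ^ k = (u * (cj x u)⁻¹) ^ k := by
    have h2 := hkey x
    rw [mul_pow, inv_pow, hu']
    have h3 : (cj x u) ^ k = cj x w := by
      rw [← hu']
      exact (map_pow (cjHom x) u k).symm
    rw [h3, eq_mul_inv_iff_mul_eq]
    exact h2.symm
  have h4 : β x = u * (cj x u)⁻¹ := (Nat.Coprime.pow_left_bijective hcop).1 h1
  have h5 := congrArg Subtype.val h4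
  have h6 : α x * x⁻¹ = (u : G) * (x * (u : G) * x⁻¹)⁻¹ := h5
  calc α x = (α x * x⁻¹) * x := by group
    _ = ((u : G) * (x * (u : G) * x⁻¹)⁻¹) * x := by rw [h6]
    _ = (u : G) * x * (u : G)⁻¹ := by group

end Cfsg.Agent.S1941
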