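import Cfsg.Statements.S1944
import Cfsg.Agent.S1907
import Cfsg.Agent.Lib.Helper32.TraceSplit

set_option autoImplicit false
open Cfsg

namespace Cfsg.Agent.S1944

open Subgroup Cfsg.Agent.Helper32

/-- conjugation action of a subgroup `N` on a subgroup `A` that it normalizes. -/
@[reducible] def conjAct {G : Type*} [Group G] (N A : Subgroup G) [CommGroup A]
    (hNA : N ≤ normalizer (A : Set G)) (hmul : ∀ a b : A, ((a * b : A) : G) = (a : G) * (b : G))
    (hone : ((1 : A) : G) = 1) : MulDistribMulAction N A where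
  smul n a := ⟨(n : G) * (a : G) * (n : G)⁻¹, (mem_normalizer_iff.mp (hNA n.2) a).mp a.2⟩
  one_smul a := by
    apply Subtype.ext
    show ((1 : N) : G) * (a : G) * ((1 : N) : G)⁻¹ = a
    simp
  mul_smul m n a := by
    apply Subtype.ext
    show ((m * n : N) : G) * (a : G) * ((m * n : N) : G)⁻¹ = (m : G) * ((n : G) * (a : G) * (n : G)⁻¹) * (m : G)⁻¹
    simp only [Subgroup.coe_mul]
    group
  smul_mul n a b := by
    apply Subtype.ext
    show (n : G) * ((a * b : A) : G) * (n : G)⁻¹ = _
    rw [hmul, hmul]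
    show (n : G) * ((a : G) * (b : G)) * (n : G)⁻¹ = ((n : G) * (a : G) * (n : G)⁻¹) * ((n : G) * (b : G) * (n : G)⁻¹)
    group
  smul_one n := by
    apply Subtype.ext
    show (n : G) * ((1 : A) : G) * (n : G)⁻¹ = ((1 : A) : G)
    rw [hone]; group

/-- Let S be a Sylow p-subgroup of the finite group G and suppose that the centre Z(S) lies in O_{p',p}(G). The elements of S each of which is its only G-conjugate in S form a subgroup W of Z(S); W is then a direct factor of Z(S): there is a subgroup K of Z(S) with W ∩ K = 1 and WK = Z(S). -/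
theorem result {G : Type*} [Group G] [Finite G] {p : ℕ} [Fact p.Prime] (S : Sylow p G)
    (hZ : ((S : Subgroup G) ⊓ Subgroup.centralizer ((S : Subgroup G) : Set G)) ≤ Cfsg.pPrimePCore p G) :
    ∃ W K : Subgroup G, (∀ x : G, x ∈ W ↔ (x ∈ (S : Subgroup G) ∧ ∀ g : G, g * x * g⁻¹ ∈ (S : Subgroup G) → g * x * g⁻¹ = x)) ∧
      K ≤ ((S : Subgroup G) ⊓ Subgroup.centralizer ((S : Subgroup G) : Set G)) ∧ W ⊓ K = ⊥ ∧ W ⊔ K = ((S : Subgroup G) ⊓ Subgroup.centralizer ((S : Subgroup G) : Set G)) := by
  have hp : p.Prime := Fact.out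
  set K₀ := Cfsg.pPrimePCore p G with hK₀
  set H := (S : Subgroup G) ⊓ K₀ with hH
  set N₀ := normalizer (H : Set G) with hN₀
  set Zs := (S : Subgroup G) ⊓ centralizer ((S : Subgroup G) : Set G) with hZs
  set A := H ⊓ centralizer (H : Set G) with hA
  have hKn : K₀.Normal := Cfsg.Agent.S1907.pPrimePCore_normal' p
  have hSN : (S : Subgroup G) ≤ N₀ := by
    intro z hz
    rw [hN₀, mem_normalizer_iff]
    intro h
    constructor
    · intro hh
      exact ⟨(S : Subgroup G).mul_mem ((S : Subgroup G).mul_mem hz hh.1) ((S : Subgroup G).inv_mem hz),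
        hKn.conj_mem _ hh.2 z⟩
    · intro hh
      refine ⟨?_, ?_⟩
      · have := (S : Subgroup G).mul_mem ((S : Subgroup G).mul_mem ((S : Subgroup G).inv_mem hz) hh.1) hz
        have e : z⁻¹ * (z * h * z⁻¹) * z = h := by group
        rwa [e] at this
      · have := hKn.conj_mem _ hh.2 z⁻¹
        have e : z⁻¹ * (z * h * z⁻¹) * z⁻¹⁻¹ = h := by group
        rwa [e] at this
  have hNA : N₀ ≤ normalizer (A : Set G) := by
    intro n hn
    exact Cfsg.Agent.Helper48.mem_normalizer_inf' hn (Cfsg.Agent.S1907.mem_normalizer_centralizer hn)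
  have hAcomm : ∀ a b : A, a * b = b * a := by
    intro a b
    apply Subtype.ext
    exact (mem_centralizer_iff.mp b.2.2 a a.2.1)
  let instA : CommGroup A := { (inferInstance : Group A) with mul_comm := hAcomm }
  let instAct : MulDistribMulAction N₀ A := conjAct N₀ A hNA (fun _ _ => rfl) rfl
  have hsmul : ∀ (n : N₀) (a : A), ((n • a : A) : G) = (n : G) * (a : G) * (n : G)⁻¹ := fun _ _ => rfl
  have hAp : IsPGroup p A := S.2.to_le (inf_le_left.trans inf_le_left)
  let T' : Sylow p N₀ := S.subtype hSN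
  have hT' : ∀ t : N₀, t ∈ (T' : Subgroup N₀) ↔ (t : G) ∈ (S : Subgroup G) := by
    intro t
    show t ∈ ((S.subtype hSN : Sylow p N₀) : Subgroup N₀) ↔ _
    rw [Sylow.coe_subtype, mem_subgroupOf]
  obtain ⟨K', hK'1, hK'2, hK'3⟩ := exists_complement_fixedSub (L := N₀) (M := A) hAp T'
  -- characterizations
  have c1 : ∀ x : G, x ∈ (fixedSub (M := A) (⊤ : Subgroup N₀)).map A.subtype ↔
      (x ∈ A ∧ ∀ n ∈ N₀, n * x * n⁻¹ = x) := by
    intro x
    constructor
    · rintro ⟨a, ha, rfl⟩
      refine ⟨a.2, ?_⟩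
      intro n hn
      have := ha ⟨n, hn⟩ (mem_top _)
      have h2 := congrArg Subtype.val this
      rw [hsmul] at h2
      exact h2
    · rintro ⟨hxA, hx⟩
      refine ⟨⟨x, hxA⟩, ?_, rfl⟩
      intro n _
      apply Subtype.ext
      rw [hsmul]
      exact hx n n.2
  have c2 : (fixedSub (M := A) (T' : Subgroup N₀)).map A.subtype = Zs := by
    ext x
    constructor
    · rintro ⟨a, ha, rfl⟩
      refine ⟨a.2.1.1, mem_centralizer_iff.mpr ?_⟩
      intro s hs
      have := ha ⟨s, hSN hs⟩ ((hT' _).mpr hs)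
      have h2 := congrArg Subtype.val this
      rw [hsmul] at h2
      show s * (a : G) = (a : G) * s
      have h3 : s * (a : G) * s⁻¹ = (a : G) := h2
      calc s * (a : G) = (s * (a : G) * s⁻¹) * s := by group
        _ = (a : G) * s := by rw [h3]
    · intro hx
      have hxH : x ∈ H := ⟨hx.1, hZ hx⟩
      have hxC : x ∈ centralizer (H : Set G) :=
        centralizer_le (show (H : Set G) ⊆ (S : Subgroup G) from inf_le_left) hx.2
      refine ⟨⟨x, hxH, hxC⟩, ?_, rfl⟩
      intro t ht
      apply Subtype.ext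
      rw [hsmul]
      have hts : (t : G) ∈ (S : Subgroup G) := (hT' t).mp ht
      have := (mem_centralizer_iff.mp hx.2) (t : G) hts
      show (t : G) * x * (t : G)⁻¹ = x
      rw [this]; group
  have hinj : Function.Injective A.subtype := A.subtype_injective
  refine ⟨(fixedSub (M := A) (⊤ : Subgroup N₀)).map A.subtype, K'.map A.subtype, ?_, ?_, ?_, ?_⟩
  · intro x
    rw [c1]
    constructor
    · rintro ⟨hxA, hx⟩
      have hxS : x ∈ (S : Subgroup G) := hxA.1.1
      refine ⟨hxS, ?_⟩
      intro g hg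
      obtain ⟨n, hn, hnx⟩ := (Cfsg.Agent.S1907.result S).2 x (g * x * g⁻¹) hxS hg (isConj_iff.mpr ⟨g, rfl⟩)
      rw [← hnx]
      exact hx n hn
    · rintro ⟨hxS, hx⟩
      have hxZ : x ∈ Zs := by
        refine ⟨hxS, mem_centralizer_iff.mpr ?_⟩
        intro s hs
        have h1 := hx s ((S : Subgroup G).mul_mem ((S : Subgroup G).mul_mem hs hxS) ((S : Subgroup G).inv_mem hs))
        calc s * x = (s * x * s⁻¹) * s := by group
          _ = x * s := by rw [h1]
      have hxH : x ∈ H := ⟨hxS, hZ hxZ⟩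
      have hxC : x ∈ centralizer (H : Set G) :=
        centralizer_le (show (H : Set G) ⊆ (S : Subgroup G) from inf_le_left) hxZ.2
      refine ⟨⟨hxH, hxC⟩, ?_⟩
      intro n hn
      apply hx
      have : n * x * n⁻¹ ∈ H := (mem_normalizer_iff.mp hn x).mp hxH
      exact this.1
  · rw [← c2]
    exact Subgroup.map_mono hK'1
  · rw [← Subgroup.map_inf _ _ _ hinj, hK'2, Subgroup.map_bot]
  · rw [← Subgroup.map_sup, hK'3, c2]

end Cfsg.Agent.S1944
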