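import Mathlib
import Cfsg.Statements.S1948
import Cfsg.Agent.Lib.Helper24.PConstrained
import Cfsg.Agent.Lib.Helper76.PSolvable
import Cfsg.Agent.Lib.Helper11.ZJ1
import Cfsg.Agent.Lib.Helper54.PConstrained
-- import your own Cfsg.Agent.* helpers here

set_option autoImplicit false
open Cfsg

namespace Cfsg.Agent.S1948

variable {G : Type*} [Group G]

theorem pPrimePCore_normal_aux (p : ℕ) : (pPrimePCore p G).Normal := by
  unfold pPrimePCore
  infer_instance

/-- A group with a normal Sylow `p`-subgroup is `p`-solvable. -/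
theorem isPSolvable_of_normal_sylow {H : Type*} [Group H] [Finite H] {p : ℕ} [hp : Fact p.Prime]
    (T : Subgroup H) (hTn : T.Normal) (hTp : IsPGroup p T) (hidx : ¬ p ∣ T.index) :
    IsPSolvable p H := by
  refine ⟨2, ![⊥, T, ⊤], rfl, rfl, ?_, ?_, ?_⟩
  · intro i j hij
    fin_cases i <;> fin_cases j <;> simp at hij ⊢
  · intro i
    fin_cases i
    · show (⊥ : Subgroup H).Normal
      infer_instance
    · exact hTn
    · show (⊤ : Subgroup H).Normal
      infer_instance
  · intro i
    fin_cases i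
    · left
      obtain ⟨m, hm⟩ := IsPGroup.iff_card.mp hTp
      refine ⟨m, ?_⟩
      show (⊥ : Subgroup H).relIndex T = p ^ m
      rw [Subgroup.relIndex_bot_left, hm]
    · right
      show (T.relIndex ⊤).Coprime p
      rw [Subgroup.relIndex_top_right]
      exact ((Nat.Prime.coprime_iff_not_dvd hp.out).mpr hidx).symm

theorem result {G : Type*} [Group G] [Finite G] {p : ℕ} [Fact p.Prime] (S : Sylow p G) :
    Subgroup.normalizer ((S : Subgroup G) : Set G) ⊔ Cfsg.pPrimeCore p G = ⊤ ↔
      (Cfsg.IsPConstrained p G ∧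
        ∀ Q : Subgroup G, Q ≤ (S : Subgroup G) → ∀ g : G, Q.map (MulAut.conj g).toMonoidHom ≤ (S : Subgroup G) →
          ∃ n ∈ Subgroup.normalizer ((S : Subgroup G) : Set G), ∃ c ∈ Subgroup.centralizer (Q : Set G), g = n * c) := by
  have hp : Fact p.Prime := inferInstance
  set K := pPrimeCore p G with hK
  have hKn : K.Normal := inferInstance
  have hKc : (Nat.card K).Coprime p := Cfsg.Agent.Helper55.pPrimeCore_coprime p
  have hSK : K ⊓ (S : Subgroup G) = ⊥ :=
    Cfsg.Agent.Helper54.inf_eq_bot_of_isPGroup_of_coprime K S hKc S.isPGroup'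
  constructor
  · intro hNK
    have hdecomp : ∀ g : G, ∃ n ∈ Subgroup.normalizer ((S : Subgroup G) : Set G), ∃ k ∈ K, n * k = g := by
      intro g
      have : g ∈ Subgroup.normalizer ((S : Subgroup G) : Set G) ⊔ K := by rw [hNK]; trivial
      exact Subgroup.mem_sup_of_normal_right.mp this
    refine ⟨?_, ?_⟩
    · -- p-constraint
      rw [Cfsg.Agent.Helper24.isPConstrained_iff_quotient]
      set π := QuotientGroup.mk' K with hπ
      set Sbar : Subgroup (G ⧸ K) := (S : Subgroup G).map π with hSbar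
      have hSbn : Sbar.Normal := by
        constructor
        intro y hy z
        obtain ⟨g, rfl⟩ := QuotientGroup.mk'_surjective K z
        obtain ⟨s, hs, rfl⟩ := hy
        obtain ⟨n, hn, k, hk, rfl⟩ := hdecomp g
        have hk1 : π k = 1 := by
          rw [hπ, QuotientGroup.mk'_apply]; exact (QuotientGroup.eq_one_iff k).mpr hk
        refine ⟨n * s * n⁻¹, (Subgroup.mem_normalizer_iff.mp hn s).mp hs, ?_⟩
        rw [map_mul π n k, hk1, mul_one, map_mul, map_mul, map_inv]
      have hSbp : IsPGroup p Sbar := S.isPGroup'.map _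
      have hidx : ¬ p ∣ Sbar.index := by
        have h1 : Sbar.index ∣ (S : Subgroup G).index :=
          Subgroup.index_map_dvd _ (QuotientGroup.mk'_surjective K)
        intro h2
        exact S.not_dvd_index (h2.trans h1)
      have hps : IsPSolvable p (G ⧸ K) := isPSolvable_of_normal_sylow Sbar hSbn hSbp hidx
      exact Cfsg.Agent.Helper76.centralizer_pCore_le hps (Cfsg.Agent.Helper55.pPrimeCore_quotient_eq_bot p)
    · -- fusion control
      intro Q hQS g hg
      obtain ⟨n, hn, k, hk, rfl⟩ := hdecomp g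
      refine ⟨n, hn, k, ?_, rfl⟩
      rw [Subgroup.mem_centralizer_iff]
      intro q hq
      have h1 : (n * k) * q * (n * k)⁻¹ ∈ (S : Subgroup G) := hg ⟨q, hq, by simp [MulAut.conj_apply, mul_assoc]⟩
      have h2 : k * q * k⁻¹ ∈ (S : Subgroup G) := by
        have hn' : n⁻¹ ∈ Subgroup.normalizer ((S : Subgroup G) : Set G) := Subgroup.inv_mem _ hn
        have := (Subgroup.mem_normalizer_iff.mp hn' _).mp h1
        have e : n⁻¹ * ((n * k) * q * (n * k)⁻¹) * n⁻¹⁻¹ = k * q * k⁻¹ := by group
        rwa [e] at this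
      have h3 : k * q * k⁻¹ * q⁻¹ ∈ K ⊓ (S : Subgroup G) := by
        refine ⟨?_, Subgroup.mul_mem _ h2 (Subgroup.inv_mem _ (hQS hq))⟩
        have e : k * q * k⁻¹ * q⁻¹ = k * (q * k⁻¹ * q⁻¹) := by group
        rw [e]
        exact Subgroup.mul_mem _ hk (hKn.conj_mem _ (Subgroup.inv_mem _ hk) q)
      rw [hSK, Subgroup.mem_bot] at h3
      calc q * k = (k * q * k⁻¹ * q⁻¹)⁻¹ * k * q := by group
        _ = k * q := by rw [h3]; group
  · rintro ⟨hPC, hF⟩
    have hMn : (pPrimePCore p G).Normal := pPrimePCore_normal_aux p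
    obtain ⟨P, hP⟩ := Cfsg.Agent.Helper11.ZJ.exists_sylow_subgroupOf_normal S (pPrimePCore p G)
    have hPmap : (P : Subgroup ↥(pPrimePCore p G)).map (pPrimePCore p G).subtype
        = (S : Subgroup G) ⊓ pPrimePCore p G := by
      rw [hP, Subgroup.subgroupOf_map_subtype]
    have hcent := hPC P
    rw [hPmap] at hcent
    have hfrat := Cfsg.Agent.Helper11.ZJ.frattini_inf S (pPrimePCore p G)
    have himg := Cfsg.Agent.Helper24.sylow_pPrimePCore_map_eq P
    rw [hPmap] at himg
    rw [eq_top_iff]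
    intro x _
    have hx : x ∈ Subgroup.normalizer ((((S : Subgroup G) ⊓ pPrimePCore p G : Subgroup G)) : Set G) ⊔
        pPrimePCore p G := by rw [hfrat]; trivial
    obtain ⟨y, hy, m, hm, rfl⟩ := Subgroup.mem_sup_of_normal_right.mp hx
    -- y = n * c
    have hyQ : ((S : Subgroup G) ⊓ pPrimePCore p G).map (MulAut.conj y).toMonoidHom ≤ (S : Subgroup G) := by
      rintro _ ⟨q, hq, rfl⟩
      have := (Subgroup.mem_normalizer_iff.mp hy q).mp hq
      exact this.1
    obtain ⟨n, hn, c, hc, rfl⟩ := hF _ inf_le_left y hyQ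
    have hcm : c * m ∈ pPrimePCore p G := Subgroup.mul_mem _ (hcent hc) hm
    -- c * m = q * k
    have h1 : QuotientGroup.mk' K (c * m) ∈ pCore p (G ⧸ K) := hcm
    rw [← himg] at h1
    obtain ⟨q, hq, hqe⟩ := h1
    have hk : q⁻¹ * (c * m) ∈ K := by
      rw [← QuotientGroup.eq_one_iff, ← QuotientGroup.mk'_apply, map_mul, map_inv, hqe]
      group
    have e : n * c * m = (n * q) * (q⁻¹ * (c * m)) := by group
    rw [e]
    exact Subgroup.mul_mem _ (Subgroup.mem_sup_left (Subgroup.mul_mem _ hn (Subgroup.le_normalizer hq.1)))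
      (Subgroup.mem_sup_right hk)

end Cfsg.Agent.S1948
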