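import Cfsg.Statements.S1952
import Cfsg.Agent.Lib.Helper32.CyclicFree

set_option autoImplicit false
open Cfsg

namespace Cfsg.Agent.S1952

open Subgroup Cfsg.Agent.Helper32

/-- Legendre: the `p`-part of `(p²)!` is `p ^ (p+1)`. -/
theorem factorization_factorial_sq (p : ℕ) [hp : Fact p.Prime] :
    ((p ^ 2).factorial).factorization p = p + 1 := by
  have hp' := hp.out
  rw [Nat.factorization_def _ hp']
  have hlog : Nat.log p (p ^ 2) < 3 := by
    rw [Nat.log_pow hp'.one_lt]; norm_num
  rw [padicValNat_factorial hlog]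
  have hI : Finset.Ico 1 3 = {1, 2} := by decide
  rw [hI, Finset.sum_pair (by norm_num)]
  have h1 : p ^ 2 / p ^ 1 = p := by
    rw [pow_one, pow_two]
    exact Nat.mul_div_cancel _ hp'.pos
  have h2 : p ^ 2 / p ^ 2 = 1 := Nat.div_self (pow_pos hp'.pos 2)
  rw [h1, h2]

/-- Let P be a finite p-group with a normal elementary abelian subgroup A of index p, and let x ∈ A and y ∈ P with y outside A. If the product of the p conjugates y^(-i) x y^i (i = 0, …, p−1) is not the identity, then the wreath product Z_p ≀ Z_p, realised as a Sylow p-subgroup of the symmetric group of degree p², is a homomorphic image of P. -/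
theorem result {P : Type*} [Group P] [Finite P] {p : ℕ} [Fact p.Prime] (hP : IsPGroup p P) (A : Subgroup P) [A.Normal]
    (hA : Cfsg.IsElementaryAbelian p A) (hidx : A.index = p) (x y : P) (hx : x ∈ A) (hy : y ∉ A)
    (hprod : ((List.range p).map (fun i => (y ^ i)⁻¹ * x * y ^ i)).prod ≠ 1) :
    ∃ (Q : Sylow p (Equiv.Perm (Fin (p ^ 2)))) (f : P →* ↥(Q : Subgroup (Equiv.Perm (Fin (p ^ 2))))), Function.Surjective f := by
  classical
  have hp : p.Prime := Fact.out
  haveI : NeZero p := ⟨hp.ne_zero⟩
  have hAcomm : ∀ a b : A, a * b = b * a := fun a b => hA.1.is_comm.comm a b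
  letI instA : CommGroup A := { (inferInstance : Group A) with mul_comm := hAcomm }
  have hAexp : ∀ a : A, a ^ p = 1 := by
    intro a
    apply Subtype.ext
    rw [Subgroup.coe_pow]
    exact hA.2 a a.2
  -- the automorphism
  set c : MulAut A := MulAut.conjNormal y⁻¹ with hcdef
  have hcpow : ∀ (n : ℕ) (a : A), (((c ^ n) a : A) : P) = (y ^ n)⁻¹ * (a : P) * y ^ n := by
    intro n a
    rw [hcdef, ← map_pow, MulAut.conjNormal_apply, inv_pow, inv_inv]
  have hyp : y ^ p ∈ A := by
    have := A.pow_index_mem y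
    rwa [hidx] at this
  have hc : c ^ p = 1 := by
    ext a
    rw [hcpow]
    have h1 := hAcomm ⟨y ^ p, hyp⟩ a
    have h2 : y ^ p * (a : P) = (a : P) * y ^ p := congrArg Subtype.val h1
    show (y ^ p)⁻¹ * (a : P) * y ^ p = (a : P)
    rw [mul_assoc, ← h2]; group
  set x' : A := ⟨x, hx⟩ with hx'
  set z' : A := ∏ i : ZMod p, (c ^ i.val) x' with hz'
  -- the list product
  have hlist : ∀ n : ℕ, ((List.range n).map (fun i => (y ^ i)⁻¹ * x * y ^ i)).prod =
      ((∏ i ∈ Finset.range n, (c ^ i) x' : A) : P) := by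
    intro n
    induction n with
    | zero => simp
    | succ n ih =>
      rw [List.range_succ, List.map_append, List.prod_append, ih, Finset.prod_range_succ, Subgroup.coe_mul,
        hcpow]
      simp [hx']
  have hzz : (z' : P) = ((List.range p).map (fun i => (y ^ i)⁻¹ * x * y ^ i)).prod := by
    rw [hlist, hz']
    congr 1
    apply Finset.prod_bij (fun (i : ZMod p) _ => i.val)
    · intro i _
      exact Finset.mem_range.mpr (ZMod.val_lt i)
    · intro i _ j _ h
      exact ZMod.val_injective p h
    · intro b hb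
      refine ⟨(b : ZMod p), Finset.mem_univ _, ?_⟩
      exact ZMod.val_natCast_of_lt (Finset.mem_range.mp hb)
    · intro i _
      rfl
  have hz'ne : z' ≠ 1 := by
    intro h
    apply hprod
    rw [← hzz, h]; rfl
  obtain ⟨U', hzU', hU'idx⟩ := exists_index_p_not_mem hAexp z' hz'ne
  set U : Subgroup P := U'.map A.subtype with hU
  have hUA : U ≤ A := map_subtype_le U'
  have hUidx : U.index = p * p := by
    rw [hU, index_map_subtype, hU'idx, hidx]
  set K₀ := U.normalCore with hK₀
  have hK₀U : K₀ ≤ U := normalCore_le U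
  have hK₀n : K₀.Normal := inferInstance
  set K : Subgroup A := K₀.subgroupOf A with hK
  have hKU' : K ≤ U' := by
    intro a ha
    have h1 : (a : P) ∈ U := hK₀U (mem_subgroupOf.mp ha)
    obtain ⟨b, hb, hba⟩ := h1
    have : b = a := Subtype.ext hba
    rw [← this]; exact hb
  have hKinv : ∀ a ∈ K, c a ∈ K := by
    intro a ha
    rw [hK, mem_subgroupOf] at ha ⊢
    have h1 := hcpow 1 a
    rw [pow_one, pow_one] at h1
    rw [h1]
    have := hK₀n.conj_mem _ ha y⁻¹
    simpa using this
  have hzK : z' ∉ K := fun h => hzU' (hKU' h)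
  have hbound : p ^ p ≤ K.index := pow_le_index_of_norm_not_mem hAexp c hc x' K hKinv hzK
  -- the permutation representation
  set f₀ : P →* Equiv.Perm (P ⧸ U) := MulAction.toPermHom P (P ⧸ U) with hf₀
  have hker₀ : f₀.ker = K₀ := (normalCore_eq_ker U).symm
  have hcardPU : Nat.card (P ⧸ U) = p ^ 2 := by
    rw [← Subgroup.index_eq_card, hUidx, pow_two]
  let e : (P ⧸ U) ≃ Fin (p ^ 2) := Finite.equivFinOfCardEq hcardPU
  set f₁ : P →* Equiv.Perm (Fin (p ^ 2)) := (e.permCongrHom.toMonoidHom).comp f₀ with hf₁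
  have hker₁ : f₁.ker = K₀ := by
    rw [← hker₀]
    ext g
    rw [MonoidHom.mem_ker, MonoidHom.mem_ker, hf₁, MonoidHom.comp_apply]
    constructor
    · intro h
      have : e.permCongrHom (f₀ g) = e.permCongrHom 1 := by rw [map_one]; exact h
      exact e.permCongrHom.injective this
    · intro h
      rw [h]; exact map_one _
  set H := f₁.range with hH
  have hcardH : Nat.card H = K₀.index := by
    rw [← hker₁, index_ker]
  have hK₀idx : K.index * p = K₀.index := by
    have := relIndex_mul_index (hK₀U.trans hUA)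
    rw [hidx] at this
    exact this
  have hHge : p ^ (p + 1) ≤ Nat.card H := by
    rw [hcardH, ← hK₀idx, pow_succ]
    exact Nat.mul_le_mul_right p hbound
  have hHp : IsPGroup p H := hP.of_surjective f₁.rangeRestrict f₁.rangeRestrict_surjective
  obtain ⟨m, hm⟩ := IsPGroup.iff_card.mp hHp
  have hcardPerm : Nat.card (Equiv.Perm (Fin (p ^ 2))) = (p ^ 2).factorial := by
    rw [Nat.card_eq_fintype_card, Fintype.card_perm, Fintype.card_fin]
  have hdvd : p ^ m ∣ (p ^ 2).factorial := by
    rw [← hm, ← hcardPerm]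
    exact Subgroup.card_subgroup_dvd_card H
  have hmle : m ≤ p + 1 := by
    rw [← factorization_factorial_sq p]
    exact (hp.pow_dvd_iff_le_factorization (Nat.factorial_ne_zero _)).mp hdvd
  have hmge : p + 1 ≤ m := by
    rw [hm] at hHge
    exact (Nat.pow_le_pow_iff_right hp.one_lt).mp hHge
  have hmeq : m = p + 1 := le_antisymm hmle hmge
  have hcardH' : Nat.card H = p ^ (Nat.card (Equiv.Perm (Fin (p ^ 2)))).factorization p := by
    rw [hcardPerm, factorization_factorial_sq p, hm, hmeq]
  refine ⟨Sylow.ofCard H hcardH', f₁.rangeRestrict, f₁.rangeRestrict_surjective⟩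

end Cfsg.Agent.S1952
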