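import Cfsg.Statements.S1953
import Cfsg.Agent.Lib.Helper11.CR8

set_option autoImplicit false
open Cfsg

namespace Cfsg.Agent.S1953

/-- Let p be an odd prime and P a Sylow p-subgroup of the finite group G, and suppose that for no p-subgroup Q of G does N_G(Q)/C_G(Q) have a section isomorphic to SL₂(p). Call a subgroup Q of P centric-radical when Z(Q) is a Sylow p-subgroup of C_G(Q) and the only normal subgroup X of N_G(Q) containing Q·C_G(Q) such that the index of Q·C_G(Q) in X is a power of p is Q·C_G(Q) itself (that is, N_G(Q)/Q·C_G(Q) has no nontrivial normal p-subgroup). Then there is a centric-radical subgroup Q of P contained in every centric-radical subgroup of P; it is normal in P, and N_G(Q) controls strong fusion in P: whenever a subgroup A of P has g A g⁻¹ ≤ P, the element g is a product h c with h in N_G(Q) and c centralizing A. -/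
theorem result {G : Type*} [Group G] [Finite G] {p : ℕ} [Fact p.Prime] (hp : p ≠ 2) (P : Sylow p G)
    (hfree : ∀ Q : Subgroup G, IsPGroup p ↥Q → ¬ ∃ (H K : Subgroup G) (_ : (K.subgroupOf H).Normal),
      Subgroup.centralizer (Q : Set G) ≤ K ∧ K ≤ H ∧ H ≤ Subgroup.normalizer (Q : Set G) ∧
      Nonempty ((↥H ⧸ K.subgroupOf H) ≃* Matrix.SpecialLinearGroup (Fin 2) (ZMod p)))
    (cr : Subgroup G → Prop)
    (hcr : ∀ Q : Subgroup G, cr Q ↔ (Q ≤ (P : Subgroup G) ∧
      (∃ R : Sylow p ↥(Subgroup.centralizer (Q : Set G)),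
        (R : Subgroup ↥(Subgroup.centralizer (Q : Set G))).map (Subgroup.centralizer (Q : Set G)).subtype = Q ⊓ Subgroup.centralizer (Q : Set G)) ∧
      ∀ X : Subgroup G, X ≤ Subgroup.normalizer (Q : Set G) →
        (∀ n ∈ Subgroup.normalizer (Q : Set G), X.map (MulAut.conj n).toMonoidHom = X) →
        Q ⊔ Subgroup.centralizer (Q : Set G) ≤ X → (∃ k : ℕ, (Q ⊔ Subgroup.centralizer (Q : Set G)).relIndex X = p ^ k) →
        X = Q ⊔ Subgroup.centralizer (Q : Set G))) :
    ∃ Q : Subgroup G, cr Q ∧ (∀ R : Subgroup G, cr R → Q ≤ R) ∧ (∀ x ∈ (P : Subgroup G), Q.map (MulAut.conj x).toMonoidHom = Q) ∧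
      ∀ A : Subgroup G, A ≤ (P : Subgroup G) → ∀ g : G, A.map (MulAut.conj g).toMonoidHom ≤ (P : Subgroup G) →
        ∃ h ∈ Subgroup.normalizer (Q : Set G), ∃ c ∈ Subgroup.centralizer (A : Set G), g = h * c := by
  have hG : ¬ Cfsg.Agent.Helper11.CR.AutInv p G := Cfsg.Agent.Helper11.CR.not_autInv_of_form hfree
  obtain ⟨Q, hQ, hmax⟩ := Cfsg.Agent.Helper11.CR.exists_largest_fnormal (P : Subgroup G)
  have hcen := Cfsg.Agent.Helper11.CR.centric_of_largest hp hG P Q hQ hmax
  have hPH : (P : Subgroup G) ≤ Subgroup.normalizer (Q : Set G) := hQ.2.1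
  have hsylPH : Cfsg.Agent.Helper33.IsSylIn p (P : Subgroup G) (Subgroup.normalizer (Q : Set G)) :=
    (Cfsg.Agent.Helper33.isSylIn_top P).of_le hPH le_top
  have hHnC : Subgroup.normalizer (Q : Set G) ≤
      Subgroup.normalizer ((Subgroup.centralizer (Q : Set G) : Subgroup G) : Set G) := by
    intro n hn
    apply Subgroup.mem_normalizer_fintype
    intro c hc
    exact Cfsg.Agent.Helper11.CR.conj_mem_centralizer_of_mem_normalizer hn hc
  have hPCeq : (P : Subgroup G) ⊓ Subgroup.centralizer (Q : Set G) =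
      Q ⊓ Subgroup.centralizer (Q : Set G) :=
    le_antisymm (le_inf hcen inf_le_right) (inf_le_inf_right _ hQ.1)
  have hsylC : Cfsg.Agent.Helper33.IsSylIn p (Q ⊓ Subgroup.centralizer (Q : Set G))
      (Subgroup.centralizer (Q : Set G)) := by
    rw [← hPCeq]
    exact hsylPH.inf_normal (Subgroup.centralizer_le_normalizer _) hHnC
  refine ⟨Q, (hcr Q).mpr ⟨hQ.1, Cfsg.Agent.Helper11.CR.exists_sylow_of_isSylIn Q hsylC, ?_⟩, ?_, ?_, ?_⟩
  · intro X hXN hXinv hQCX hidx
    exact Cfsg.Agent.Helper11.CR.radical_of_largest P Q hQ hmax hcen X hXN hXinv hQCX hidx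
  · intro R hR
    obtain ⟨hRP, hRsyl, hRrad⟩ := (hcr R).mp hR
    exact Cfsg.Agent.Helper11.CR.fnormal_le_of_centric_radical (P : Subgroup G) P.isPGroup' Q hQ R hRP
      (Cfsg.Agent.Helper11.CR.centric_of_sylow R (P : Subgroup G) P.isPGroup' hRsyl) hRrad
  · intro x hx
    exact Subgroup.mem_normalizer_iff_map_conj_eq.mp (hPH hx)
  · intro A hA g hAg
    obtain ⟨x, hx, hxa⟩ := hQ.2.2 (A : Set G) g hA (fun a ha => hAg ⟨a, ha, rfl⟩)
    refine ⟨x, hx, x⁻¹ * g, ?_, by group⟩
    rw [Subgroup.mem_centralizer_iff]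
    intro a ha
    have h := hxa a ha
    calc a * (x⁻¹ * g) = x⁻¹ * (x * a * x⁻¹) * g := by group
      _ = x⁻¹ * (g * a * g⁻¹) * g := by rw [h]
      _ = x⁻¹ * g * a := by group

end Cfsg.Agent.S1953
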