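import Cfsg.Statements.S1954
import Cfsg.Agent.Lib.Helper33.LiftControl

set_option autoImplicit false
open Cfsg Cfsg.Agent.Helper33 Pointwise

namespace Cfsg.Agent.S1954

/-- Let N be a normal subgroup of the finite group G, P a Sylow p-subgroup of G, and V a subgroup of P ∩ N normal in P ∩ N such that N_N(V) controls strong fusion in P ∩ N with respect to N (whenever a subgroup A of P ∩ N has n A n⁻¹ ≤ P ∩ N for some n in N, then n = h c with h in N_N(V) and c in C_N(A)). Let W be the subgroup generated by the conjugates of V under N_G(P ∩ N). Then N_G(W) controls strong fusion in P with respect to G. -/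
theorem result {G : Type*} [Group G] [Finite G] {p : ℕ} [Fact p.Prime] (N : Subgroup G) [N.Normal] (P : Sylow p G) (V : Subgroup G)
    (hV : V ≤ (P : Subgroup G) ⊓ N) (hVn : ∀ x ∈ (P : Subgroup G) ⊓ N, V.map (MulAut.conj x).toMonoidHom = V)
    (hctrl : ∀ A : Subgroup G, A ≤ (P : Subgroup G) ⊓ N → ∀ n ∈ N, A.map (MulAut.conj n).toMonoidHom ≤ (P : Subgroup G) ⊓ N →
      ∃ h ∈ N ⊓ Subgroup.normalizer (V : Set G), ∃ c ∈ N ⊓ Subgroup.centralizer (A : Set G), n = h * c)
    (W : Subgroup G) (hW : W = Subgroup.closure (⋃ x ∈ Subgroup.normalizer (((P : Subgroup G) ⊓ N : Subgroup G) : Set G),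
      ((V.map (MulAut.conj x).toMonoidHom : Subgroup G) : Set G))) :
    ∀ A : Subgroup G, A ≤ (P : Subgroup G) → ∀ g : G, A.map (MulAut.conj g).toMonoidHom ≤ (P : Subgroup G) →
        ∃ h ∈ Subgroup.normalizer (W : Set G), ∃ c ∈ Subgroup.centralizer (A : Set G), g = h * c := by
  intro A hA g hg
  have hV1 : Ctl1 N ((P : Subgroup G) ⊓ N) V := by
    intro A hA n hn hnA
    exact hctrl A hA n hn hnA
  let F : Set (Subgroup G) := {U | ∃ x ∈ Subgroup.normalizer
    (((P : Subgroup G) ⊓ N : Subgroup G) : Set G), U = MulAut.conj x • V}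
  have hF : ∀ U ∈ F, U ≤ (P : Subgroup G) ⊓ N ∧ Ctl1 N ((P : Subgroup G) ⊓ N) U := by
    rintro U ⟨x, hx, rfl⟩
    exact ⟨(conj_smul_le_conj_smul hV).trans (smul_eq_of_mem_normalizer hx).le, ctl1_conj hV1 hx⟩
  have hfam := ctlFam_of_finite N _ F (Set.toFinite F) hF
  have hWF : W = sSup F := by
    rw [hW]
    apply le_antisymm
    · rw [Subgroup.closure_le]
      intro y hy
      simp only [Set.mem_iUnion] at hy
      obtain ⟨x, hx, hy⟩ := hy
      have hle : MulAut.conj x • V ≤ sSup F := le_sSup (⟨x, hx, rfl⟩ : MulAut.conj x • V ∈ F)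
      exact hle hy
    · apply sSup_le
      rintro U ⟨x, hx, rfl⟩
      intro y hy
      apply Subgroup.subset_closure
      simp only [Set.mem_iUnion]
      exact ⟨x, hx, hy⟩
  have hWR : W ≤ (P : Subgroup G) ⊓ N := by
    rw [hWF]; exact sSup_le fun U hU => (hF U hU).1
  have hNRW : Subgroup.normalizer (((P : Subgroup G) ⊓ N : Subgroup G) : Set G) ≤
      Subgroup.normalizer (W : Set G) := by
    intro x hx
    apply mem_normalizer_of_conj_smul_le
    rw [hWF]
    apply conj_smul_sSup_le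
    rintro U ⟨y, hy, rfl⟩
    rw [← conj_mul_smul]
    exact le_sSup ⟨x * y, Subgroup.mul_mem _ hx hy, rfl⟩
  have hctlW : ∀ A : Subgroup G, A ≤ (P : Subgroup G) ⊓ N → ∀ n ∈ N,
      MulAut.conj n • A ≤ (P : Subgroup G) ⊓ N →
      ∃ h ∈ Subgroup.normalizer (W : Set G), ∃ c ∈ Subgroup.centralizer (A : Set G), n = h * c := by
    intro A hA n hn hnA
    obtain ⟨h, hhN, hhF, c, hc, rfl⟩ := hfam A hA n hn hnA
    refine ⟨h, ?_, c, (Subgroup.mem_inf.mp hc).2, rfl⟩
    apply mem_normalizer_of_conj_smul_le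
    rw [hWF]
    apply conj_smul_sSup_le
    intro U hU
    rw [smul_eq_of_mem_normalizer (hhF U hU)]
    exact le_sSup hU
  have hsc : ∀ i, ∀ a ∈ W.lowerCentralSeries i, ∀ g : G, g * a * g⁻¹ ∈ (P : Subgroup G) →
      g * a * g⁻¹ ∈ W.lowerCentralSeries i := by
    intro i
    exact stronglyClosed_of_ctl P N W (W.lowerCentralSeries i) hctlW hNRW
      ((lcs_le W i).trans hWR) (normalizer_le_normalizer_lcs W i)
  have hWP : W ≤ (P : Subgroup G) := hWR.trans inf_le_left
  have hPW : (P : Subgroup G) ≤ Subgroup.normalizer (W : Set G) :=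
    (sylow_le_normalizer_inf P N).trans hNRW
  have hTW : ∀ T ∈ centricRad P, Subgroup.normalizer (T : Set G) ≤
      Subgroup.normalizer (W : Set G) := by
    intro T hT h hh
    have hWT := le_of_mem_centricRad P W hWP hPW hsc hT
    apply mem_normalizer_of_conj_smul_le
    rw [conj_smul_le_iff]
    intro w hw
    have h1 : h * w * h⁻¹ ∈ T := conj_mem_of_mem_normalizer hh (hWT hw)
    have := hsc 0 w (by simpa using hw) h (hT.1.1 h1)
    simpa using this
  have hg' : MulAut.conj (g⁻¹)⁻¹ • A ≤ (P : Subgroup G) := by rw [inv_inv]; exact hg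
  obtain ⟨g', hagree, hr⟩ := reachA_centricRad P A hA g⁻¹ hg'
  have hg'W : g' ∈ Subgroup.normalizer (W : Set G) := hr.mem_of_normalizer_le hTW
  refine ⟨g'⁻¹, inv_mem hg'W, g' * g, ?_, by group⟩
  rw [Subgroup.mem_centralizer_iff]
  intro a ha
  have h1 := hagree a ha
  rw [inv_inv] at h1
  calc a * (g' * g) = g' * (g'⁻¹ * a * g') * g := by group
    _ = g' * (g * a * g⁻¹) * g := by rw [h1]
    _ = g' * g * a := by group

end Cfsg.Agent.S1954
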