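import Cfsg.Statements.S1957
import Cfsg.Agent.Lib.Helper29.CoprimeHyp
import Cfsg.Agent.Lib.Helper22.Radical
import Cfsg.Agent.Lib.Helper32.PGroupCenter

set_option autoImplicit false
open Cfsg

namespace Cfsg.Agent.S1957

open Subgroup

/-! ### The stabilizer of the chain `O_2(H) ≥ ⟨c⟩ ≥ 1` lies in `O_2(H)` -/

section Abstract

variable {H : Type*} [Group H]

theorem pCoreN (p : ℕ) : (pCore p H).Normal := Subgroup.sSup_normal _ fun _ h => h.1

theorem conj_mul_central {c : H} (hc : ∀ h : H, h * c = c * h) (x q : H) :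
    x * (q * c) * x⁻¹ = x * q * x⁻¹ * c := by
  calc x * (q * c) * x⁻¹ = x * q * (c * x⁻¹) := by group
    _ = x * q * (x⁻¹ * c) := by rw [hc x⁻¹]
    _ = x * q * x⁻¹ * c := by group

/-- The elements acting trivially on `O_2(H)` modulo the central involution `c`. -/
def chainStab (c : H) (hc : ∀ h : H, h * c = c * h) (hcc : c * c = 1) : Subgroup H where
  carrier := {x | ∀ q ∈ pCore 2 H, x * q * x⁻¹ = q ∨ x * q * x⁻¹ = q * c}
  one_mem' := by
    intro q _
    left
    simp
  mul_mem' := by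
    intro x y hx hy q hq
    have e : x * y * q * (x * y)⁻¹ = x * (y * q * y⁻¹) * x⁻¹ := by group
    rw [e]
    rcases hy q hq with h | h
    · rw [h]; exact hx q hq
    · rw [h, conj_mul_central hc]
      rcases hx q hq with h' | h'
      · right; rw [h']
      · left; rw [h', mul_assoc, hcc, mul_one]
  inv_mem' := by
    intro x hx q hq
    have hq' : x⁻¹ * q * x⁻¹⁻¹ ∈ pCore 2 H := (pCoreN 2).conj_mem q hq x⁻¹
    have e : x * (x⁻¹ * q * x⁻¹⁻¹) * x⁻¹ = q := by group
    rcases hx _ hq' with h | h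
    · left; rw [e] at h; exact h.symm
    · right
      rw [e] at h
      calc x⁻¹ * q * x⁻¹⁻¹ = x⁻¹ * q * x⁻¹⁻¹ * (c * c) := by rw [hcc, mul_one]
        _ = x⁻¹ * q * x⁻¹⁻¹ * c * c := by group
        _ = q * c := by rw [← h]

theorem mem_chainStab {c : H} {hc : ∀ h : H, h * c = c * h} {hcc : c * c = 1} {x : H} :
    x ∈ chainStab c hc hcc ↔ ∀ q ∈ pCore 2 H, x * q * x⁻¹ = q ∨ x * q * x⁻¹ = q * c := Iff.rfl

theorem chainStab_normal (c : H) (hc : ∀ h : H, h * c = c * h) (hcc : c * c = 1) :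
    (chainStab c hc hcc).Normal := by
  constructor
  intro x hx n
  rw [mem_chainStab] at hx ⊢
  intro q hq
  have hq' : n⁻¹ * q * n⁻¹⁻¹ ∈ pCore 2 H := (pCoreN 2).conj_mem q hq n⁻¹
  have e : n * x * n⁻¹ * q * (n * x * n⁻¹)⁻¹ = n * (x * (n⁻¹ * q * n⁻¹⁻¹) * x⁻¹) * n⁻¹ := by group
  rw [e]
  rcases hx _ hq' with h | h
  · left; rw [h]; group
  · right; rw [h, conj_mul_central hc]; group

theorem chainStab_isPGroup [Finite H] (hchar : centralizer (pCore 2 H : Set H) ≤ pCore 2 H)
    (c : H) (hc : ∀ h : H, h * c = c * h) (hcc : c * c = 1) :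
    IsPGroup 2 (chainStab c hc hcc) := by
  rintro ⟨x, hx⟩
  rw [mem_chainStab] at hx
  have hxx : x * x ∈ centralizer (pCore 2 H : Set H) := by
    rw [mem_centralizer_iff]
    intro q hq
    have e : x * x * q * (x * x)⁻¹ = x * (x * q * x⁻¹) * x⁻¹ := by group
    have h1 : x * x * q * (x * x)⁻¹ = q := by
      rw [e]
      rcases hx q hq with h | h
      · rw [h]; exact h
      · rw [h, conj_mul_central hc, h, mul_assoc, hcc, mul_one]
    calc q * (x * x) = (x * x * q * (x * x)⁻¹) * (x * x) := by rw [h1]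
      _ = x * x * q := by group
  have hmem := hchar hxx
  have : Fact (Nat.Prime 2) := ⟨Nat.prime_two⟩
  obtain ⟨k, hk⟩ := (Cfsg.Agent.Helper22.isPGroup_pCore (G := H) 2) ⟨x * x, hmem⟩
  have hk' : (x * x) ^ 2 ^ k = 1 := by
    have := congrArg Subtype.val hk
    simpa using this
  refine ⟨k + 1, ?_⟩
  apply Subtype.ext
  simp only [SubmonoidClass.mk_pow, OneMemClass.coe_one]
  rw [pow_succ', pow_mul, pow_two]
  exact hk'

theorem mem_pCore_of_chain [Finite H] (hchar : centralizer (pCore 2 H : Set H) ≤ pCore 2 H)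
    (c : H) (hc : ∀ h : H, h * c = c * h) (hcc : c * c = 1) (x : H)
    (hx : ∀ q ∈ pCore 2 H, x * q * x⁻¹ = q ∨ x * q * x⁻¹ = q * c) : x ∈ pCore 2 H :=
  Cfsg.Agent.Helper22.le_pCore (chainStab_normal c hc hcc) (chainStab_isPGroup hchar c hc hcc)
    (mem_chainStab.mpr hx)

/-! ### Four-groups -/

theorem four_elts {U : Subgroup H} (hU4 : Nat.card U = 4) (hexp : ∀ a ∈ U, a * a = 1)
    {u z : H} (huU : u ∈ U) (hzU : z ∈ U) (hu1 : u ≠ 1) (hz1 : z ≠ 1) (huz : u ≠ z) :
    ∀ a ∈ U, a = 1 ∨ a = u ∨ a = z ∨ a = u * z := by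
  classical
  have hfin : Finite U := Nat.finite_of_card_ne_zero (by rw [hU4]; norm_num)
  have h1 : u * z ≠ 1 := by
    intro h
    apply huz
    calc u = u * (z * z) := by rw [hexp z hzU, mul_one]
      _ = u * z * z := by group
      _ = z := by rw [h, one_mul]
  have h2 : u * z ≠ u := by
    intro h
    apply hz1
    calc z = u⁻¹ * (u * z) := by group
      _ = 1 := by rw [h]; group
  have h3 : u * z ≠ z := by
    intro h
    apply hu1
    calc u = (u * z) * z⁻¹ := by group
      _ = 1 := by rw [h]; group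
  let s : Finset H := {1, u, z, u * z}
  have hs4 : s.card = 4 := by
    have e1 : (1 : H) ∉ ({u, z, u * z} : Finset H) := by
      simp only [Finset.mem_insert, Finset.mem_singleton, not_or]
      exact ⟨fun h => hu1 h.symm, fun h => hz1 h.symm, fun h => h1 h.symm⟩
    have e2 : u ∉ ({z, u * z} : Finset H) := by
      simp only [Finset.mem_insert, Finset.mem_singleton, not_or]
      exact ⟨huz, fun h => h2 h.symm⟩
    have e3 : z ∉ ({u * z} : Finset H) := by
      simp only [Finset.mem_singleton]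
      exact fun h => h3 h.symm
    change (insert 1 (insert u (insert z {u * z})) : Finset H).card = 4
    rw [Finset.card_insert_of_notMem e1, Finset.card_insert_of_notMem e2,
      Finset.card_insert_of_notMem e3, Finset.card_singleton]
  have hsub : (s : Set H) ⊆ (U : Set H) := by
    intro x hx
    simp only [s, Finset.coe_insert, Finset.coe_singleton, Set.mem_insert_iff,
      Set.mem_singleton_iff] at hx
    rcases hx with rfl | rfl | rfl | rfl
    · exact U.one_mem
    · exact huU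
    · exact hzU
    · exact U.mul_mem huU hzU
  have hcardU : (U : Set H).ncard = 4 := by
    rw [← Nat.card_coe_set_eq]; exact hU4
  have heq : (s : Set H) = (U : Set H) := by
    apply Set.eq_of_subset_of_ncard_le hsub
    rw [hcardU, Set.ncard_coe_finset, hs4]
  intro a ha
  have : a ∈ (s : Set H) := by rw [heq]; exact ha
  simpa [s] using this

theorem conj_four {U : Subgroup H} (hU4 : Nat.card U = 4) (hexp : ∀ a ∈ U, a * a = 1)
    {c : H} (hcU : c ∈ U) (hc1 : c ≠ 1) {t : H} (htU : ∀ a ∈ U, t * a * t⁻¹ ∈ U)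
    (htc : t * c = c * t) : ∀ a ∈ U, t * a * t⁻¹ = a ∨ t * a * t⁻¹ = a * c := by
  intro a ha
  have hcconj : t * c * t⁻¹ = c := by rw [htc]; group
  by_cases ha1 : a = 1
  · left; rw [ha1]; group
  by_cases hac : a = c
  · left; rw [hac]; exact hcconj
  have hall := four_elts hU4 hexp hcU ha hc1 ha1 (fun h => hac h.symm)
  rcases hall _ (htU a ha) with h | h | h | h
  · exfalso
    apply ha1
    calc a = t⁻¹ * (t * a * t⁻¹) * t := by group
      _ = 1 := by rw [h]; group
  · exfalso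
    apply hac
    calc a = t⁻¹ * (t * a * t⁻¹) * t := by group
      _ = t⁻¹ * (t * c * t⁻¹) * t := by rw [h, hcconj]
      _ = c := by group
  · left; exact h
  · right
    rw [h]
    -- `c * a = a * c` since `(c*a)*(c*a) = 1`
    have h1 := hexp _ (U.mul_mem hcU ha)
    calc c * a = (c * a)⁻¹ * (c * a * (c * a)) := by group
      _ = (c * a)⁻¹ := by rw [h1, mul_one]
      _ = a⁻¹ * c⁻¹ := by group
      _ = a⁻¹ * (a * a) * (c⁻¹ * (c * c)) := by rw [hexp a ha, hexp c hcU, mul_one, mul_one]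
      _ = a * c := by group

theorem four_le_pCore [Finite H] (hchar : centralizer (pCore 2 H : Set H) ≤ pCore 2 H)
    (U : Subgroup H) (hU4 : Nat.card U = 4) (hexp : ∀ a ∈ U, a * a = 1)
    (c : H) (hcU : c ∈ U) (hc1 : c ≠ 1) (hc : ∀ h : H, h * c = c * h)
    (hnorm : ∀ q ∈ pCore 2 H, ∀ a ∈ U, q * a * q⁻¹ ∈ U) : U ≤ pCore 2 H := by
  intro a ha
  apply mem_pCore_of_chain hchar c hc (hexp c hcU)
  intro q hq
  have hq' : q⁻¹ ∈ pCore 2 H := (pCore 2 H).inv_mem hq
  rcases conj_four hU4 hexp hcU hc1 (hnorm _ hq') (hc q⁻¹) a ha with h | h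
  · left
    calc a * q * a⁻¹ = q * (q⁻¹ * a * q⁻¹⁻¹) * a⁻¹ := by group
      _ = q := by rw [h]; group
  · right
    calc a * q * a⁻¹ = q * (q⁻¹ * a * q⁻¹⁻¹) * a⁻¹ := by group
      _ = q * (a * c) * a⁻¹ := by rw [h]
      _ = q * (a * c * a⁻¹) := by group
      _ = q * c := by
        congr 1
        rw [hc a]; group

/-- In a cyclic group there is at most one involution. -/
theorem cyc_sq (Z : Subgroup H) [Finite Z] (hZ : IsCyclic Z) {z y : H} (hz : z ∈ Z) (hy : y ∈ Z)
    (hz1 : z ≠ 1) (hzz : z * z = 1) (hyy : y * y = 1) : y = 1 ∨ y = z := by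
  classical
  by_contra hcon
  push Not at hcon
  obtain ⟨hy1, hyz⟩ := hcon
  have := Fintype.ofFinite Z
  have hle := IsCyclic.card_pow_eq_one_le (α := Z) (n := 2) (by norm_num)
  let s : Finset Z := {1, ⟨z, hz⟩, ⟨y, hy⟩}
  have hs3 : s.card = 3 := by
    have e1 : (1 : Z) ∉ ({⟨z, hz⟩, ⟨y, hy⟩} : Finset Z) := by
      simp only [Finset.mem_insert, Finset.mem_singleton, not_or]
      refine ⟨fun h => hz1 ?_, fun h => hy1 ?_⟩
      · exact (congrArg Subtype.val h).symm
      · exact (congrArg Subtype.val h).symm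
    have e2 : (⟨z, hz⟩ : Z) ∉ ({⟨y, hy⟩} : Finset Z) := by
      simp only [Finset.mem_singleton]
      intro h
      exact hyz (congrArg Subtype.val h).symm
    change (insert 1 (insert ⟨z, hz⟩ {⟨y, hy⟩}) : Finset Z).card = 3
    rw [Finset.card_insert_of_notMem e1, Finset.card_insert_of_notMem e2, Finset.card_singleton]
  have hsub : s ⊆ Finset.univ.filter (fun a : Z => a ^ 2 = 1) := by
    intro x hx
    simp only [s, Finset.mem_insert, Finset.mem_singleton] at hx
    simp only [Finset.mem_filter, Finset.mem_univ, true_and]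
    rcases hx with rfl | rfl | rfl
    · simp
    · apply Subtype.ext; simp [pow_two, hzz]
    · apply Subtype.ext; simp [pow_two, hyy]
  have := Finset.card_le_card hsub
  omega

end Abstract

/-! ### In the ambient group -/

section Ambient

variable {G : Type*} [Group G]

theorem mem_zpowers_invol {u y : G} (huu : u * u = 1) (hy : y ∈ zpowers u) : y = 1 ∨ y = u := by
  obtain ⟨k, rfl⟩ := Subgroup.mem_zpowers_iff.mp hy
  have h2 : u ^ (2 : ℤ) = 1 := by rw [zpow_two]; exact huu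
  rw [zpow_eq_zpow_emod k h2]
  rcases Int.emod_two_eq_zero_or_one k with h | h <;> rw [h]
  · left; simp
  · right; simp

theorem centralizer_le_normalizer_zpowers (u : G) :
    centralizer {u} ≤ normalizer ((zpowers u : Subgroup G) : Set G) := by
  intro x hx
  rw [mem_centralizer_singleton_iff] at hx
  apply centralizer_le_normalizer
  rw [mem_centralizer_iff]
  intro y hy
  obtain ⟨k, rfl⟩ := Subgroup.mem_zpowers_iff.mp hy
  have : Commute x (u ^ k) := (show Commute x u from hx).zpow_right k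
  exact this.eq.symm

theorem normalizer_zpowers_commute {u : G} (huu : u * u = 1) (hu1 : u ≠ 1) {n : G}
    (hn : n ∈ normalizer ((zpowers u : Subgroup G) : Set G)) : n * u = u * n := by
  have h1 : n * u * n⁻¹ ∈ zpowers u := (mem_normalizer_iff.mp hn u).mp (mem_zpowers u)
  rcases mem_zpowers_invol huu h1 with h | h
  · exfalso
    apply hu1
    calc u = n⁻¹ * (n * u * n⁻¹) * n := by group
      _ = 1 := by rw [h]; group
  · calc n * u = (n * u * n⁻¹) * n := by group
      _ = u * n := by rw [h]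

theorem centralizes_of_sylow_aux [Finite G] (U : Subgroup G) (hU4 : Nat.card U = 4)
    (hexp : ∀ a ∈ U, a * a = 1) (hUab : ∀ a ∈ U, ∀ b ∈ U, a * b = b * a)
    (u : G) (huU : u ∈ U) (hu1 : u ≠ 1) (N : Subgroup G)
    (hCN : centralizer {u} ≤ N) (hNu : ∀ n ∈ N, n * u = u * n)
    (hchar : IsOfCharacteristicTwo ↥N)
    (T : Sylow 2 ↥N) (hT : ∀ t : ↥N, t ∈ T → (t : G) ∈ normalizer (U : Set G))
    (D : Subgroup G) (hDodd : Odd (Nat.card D)) (hDu : D ≤ centralizer {u})
    (hUD : U ≤ normalizer (D : Set G)) : D ≤ centralizer (U : Set G) := by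
  have : Fact (Nat.Prime 2) := ⟨Nat.prime_two⟩
  have hUN : U ≤ N := by
    intro a ha
    apply hCN
    rw [mem_centralizer_singleton_iff]
    exact hUab a ha u huU
  -- `U ≤ O_2(N)`
  have hUQ : U.subgroupOf N ≤ pCore 2 ↥N := by
    apply four_le_pCore hchar (U.subgroupOf N) _ _ ⟨u, hUN huU⟩
    · rw [mem_subgroupOf]; exact huU
    · intro h; exact hu1 (congrArg Subtype.val h)
    · intro h
      apply Subtype.ext
      simp only [Subgroup.coe_mul]
      exact hNu h h.2
    · intro q hq a ha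
      rw [mem_subgroupOf] at ha ⊢
      have hqT : q ∈ T := by
        have hle : pCore 2 ↥N ≤ (T : Subgroup ↥N) := by
          apply sSup_le
          rintro M ⟨hM, hp⟩
          have := hM
          exact hp.le_sylow_of_normal T
        exact hle hq
      have := (mem_normalizer_iff.mp (hT q hqT) (a : G)).mp ha
      simpa using this
    · rw [Nat.card_congr (subgroupOfEquivOfLe hUN).toEquiv]; exact hU4
    · intro a ha
      rw [mem_subgroupOf] at ha
      apply Subtype.ext
      simp only [Subgroup.coe_mul, Subgroup.coe_one]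
      exact hexp _ ha
  intro d hd
  rw [mem_centralizer_iff]
  intro a ha
  have hdN : d ∈ N := hCN (hDu hd)
  have haN : a ∈ N := hUN ha
  -- the commutator `w = d a d⁻¹ a⁻¹`
  have hwD : d * a * d⁻¹ * a⁻¹ ∈ D := by
    have h1 : a * d⁻¹ * a⁻¹ ∈ D := (mem_normalizer_iff.mp (hUD ha) d⁻¹).mp (D.inv_mem hd)
    have e : d * a * d⁻¹ * a⁻¹ = d * (a * d⁻¹ * a⁻¹) := by group
    rw [e]
    exact D.mul_mem hd h1
  have hwQ : (⟨d, hdN⟩ * ⟨a, haN⟩ * ⟨d, hdN⟩⁻¹ * ⟨a, haN⟩⁻¹ : ↥N) ∈ pCore 2 ↥N := by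
    have haQ : (⟨a, haN⟩ : ↥N) ∈ pCore 2 ↥N := hUQ (by rw [mem_subgroupOf]; exact ha)
    exact (pCore 2 ↥N).mul_mem ((pCoreN 2).conj_mem _ haQ _) ((pCore 2 ↥N).inv_mem haQ)
  obtain ⟨k, hk⟩ := (Cfsg.Agent.Helper22.isPGroup_pCore (G := ↥N) 2) ⟨_, hwQ⟩
  have hk' : (d * a * d⁻¹ * a⁻¹) ^ 2 ^ k = 1 := by
    have := congrArg (fun x : ↥(pCore 2 ↥N) => ((x : ↥N) : G)) hk
    simpa using this
  have hw1 : d * a * d⁻¹ * a⁻¹ = 1 := by
    rw [← orderOf_eq_one_iff]
    have h1 : orderOf (d * a * d⁻¹ * a⁻¹) ∣ 2 ^ k := orderOf_dvd_of_pow_eq_one hk'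
    have h2 : orderOf (d * a * d⁻¹ * a⁻¹) ∣ Nat.card D := Subgroup.orderOf_dvd_natCard D hwD
    have hcop : Nat.Coprime (2 ^ k) (Nat.card D) :=
      Nat.Coprime.pow_left k (Nat.coprime_two_left.mpr hDodd)
    exact Nat.eq_one_of_dvd_coprimes hcop h1 h2
  calc a * d = (d * a * d⁻¹ * a⁻¹)⁻¹ * (d * a) := by group
    _ = d * a := by rw [hw1]; group

theorem centralizes_of_sylow [Finite G] (U : Subgroup G) (hU4 : Nat.card U = 4)
    (hexp : ∀ a ∈ U, a * a = 1) (hUab : ∀ a ∈ U, ∀ b ∈ U, a * b = b * a)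
    (u : G) (huU : u ∈ U) (hu1 : u ≠ 1)
    (hchar : IsOfCharacteristicTwo ↥(normalizer ((zpowers u : Subgroup G) : Set G)))
    (T : Sylow 2 ↥(normalizer ((zpowers u : Subgroup G) : Set G)))
    (hT : ∀ t : ↥(normalizer ((zpowers u : Subgroup G) : Set G)),
      t ∈ T → (t : G) ∈ normalizer (U : Set G))
    (D : Subgroup G) (hDodd : Odd (Nat.card D)) (hDu : D ≤ centralizer {u})
    (hUD : U ≤ normalizer (D : Set G)) : D ≤ centralizer (U : Set G) :=
  centralizes_of_sylow_aux U hU4 hexp hUab u huU hu1 _ (centralizer_le_normalizer_zpowers u)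
    (fun _ hn => normalizer_zpowers_commute (hexp u huU) hu1 hn) hchar T hT D hDodd hDu hUD

/-! ### Existence of a Sylow 2-subgroup of `N_G(⟨u⟩)` normalizing `U` -/

theorem exists_sylow_of_central [Finite G] (P : Sylow 2 G) (U : Subgroup G)
    (hUn : (P : Subgroup G) ≤ normalizer (U : Set G)) (u : G)
    (hu : u ∈ centralizer ((P : Subgroup G) : Set G)) :
    ∃ T : Sylow 2 ↥(normalizer ((zpowers u : Subgroup G) : Set G)),
      ∀ t, t ∈ T → (t : G) ∈ normalizer (U : Set G) := by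
  have hPN : (P : Subgroup G) ≤ normalizer ((zpowers u : Subgroup G) : Set G) := by
    intro x hx
    apply centralizer_le_normalizer_zpowers
    rw [mem_centralizer_singleton_iff]
    exact (mem_centralizer_iff.mp hu x hx)
  have hP' : IsPGroup 2 ((P : Subgroup G).subgroupOf
      (normalizer ((zpowers u : Subgroup G) : Set G))) := P.isPGroup'.comap_subtype
  obtain ⟨T, hT⟩ := hP'.exists_le_sylow
  refine ⟨T, fun t ht => hUn ?_⟩
  have hmap : IsPGroup 2 ((T : Subgroup _).map
      (normalizer ((zpowers u : Subgroup G) : Set G)).subtype) := T.isPGroup'.map _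
  have hle : (P : Subgroup G) ≤ (T : Subgroup _).map
      (normalizer ((zpowers u : Subgroup G) : Set G)).subtype := by
    intro x hx
    exact ⟨⟨x, hPN hx⟩, hT (by rw [mem_subgroupOf]; exact hx), rfl⟩
  have heq := P.is_maximal' hmap hle
  rw [← heq]
  exact ⟨t, ht, rfl⟩

/-- The configuration of the cyclic centre case: `z` is the central involution of `P` in `U`,
`u ∈ U` is not central, `g ∈ P` does not centralize `u`. -/
structure Cfg (P U : Subgroup G) (u z g : G) : Prop where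
  hUP : U ≤ P
  hUn : ∀ x ∈ P, ∀ a ∈ U, x * a * x⁻¹ ∈ U
  hU : ∀ a ∈ U, a = 1 ∨ a = u ∨ a = z ∨ a = u * z
  huU : u ∈ U
  hzU : z ∈ U
  hu1 : u ≠ 1
  hz1 : z ≠ 1
  huz : u ≠ z
  huu : u * u = 1
  hzz : z * z = 1
  hzc : ∀ x ∈ P, x * z = z * x
  hgP : g ∈ P
  hgu : g * u ≠ u * g

namespace Cfg

variable {P U : Subgroup G} {u z g : G}

theorem conj_z (h : Cfg P U u z g) {x : G} (hx : x ∈ P) : x * z * x⁻¹ = z := by
  rw [h.hzc x hx]; group

theorem uz_comm (h : Cfg P U u z g) : u * z = z * u := h.hzc u (h.hUP h.huU)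

theorem conj_u (h : Cfg P U u z g) {x : G} (hx : x ∈ P) :
    x * u * x⁻¹ = u ∨ x * u * x⁻¹ = u * z := by
  rcases h.hU _ (h.hUn x hx u h.huU) with h1 | h1 | h1 | h1
  · exfalso
    apply h.hu1
    calc u = x⁻¹ * (x * u * x⁻¹) * x := by group
      _ = 1 := by rw [h1]; group
  · left; exact h1
  · exfalso
    apply h.huz
    calc u = x⁻¹ * (x * u * x⁻¹) * x := by group
      _ = x⁻¹ * (x * z * x⁻¹) * x := by rw [h1, h.conj_z hx]
      _ = z := by group
  · right; exact h1

theorem conj_u_of_not (h : Cfg P U u z g) {x : G} (hx : x ∈ P) (hxu : x * u ≠ u * x) :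
    x * u * x⁻¹ = u * z := by
  rcases h.conj_u hx with h1 | h1
  · exfalso
    apply hxu
    calc x * u = (x * u * x⁻¹) * x := by group
      _ = u * x := by rw [h1]
  · exact h1

theorem mul_comm_u (h : Cfg P U u z g) {x y : G} (hx : x ∈ P) (hy : y ∈ P)
    (hxu : x * u ≠ u * x) (hyu : y * u ≠ u * y) : (x * y) * u = u * (x * y) := by
  have h1 : x * y * u * (x * y)⁻¹ = u := by
    calc x * y * u * (x * y)⁻¹ = x * (y * u * y⁻¹) * x⁻¹ := by group
      _ = x * (u * z) * x⁻¹ := by rw [h.conj_u_of_not hy hyu]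
      _ = (x * u * x⁻¹) * (x * z * x⁻¹) := by group
      _ = u * z * z := by rw [h.conj_u_of_not hx hxu, h.conj_z hx]
      _ = u := by rw [mul_assoc, h.hzz, mul_one]
  calc x * y * u = (x * y * u * (x * y)⁻¹) * (x * y) := by group
    _ = u * (x * y) := by rw [h1]

theorem inv_not (h : Cfg P U u z g) : g⁻¹ * u ≠ u * g⁻¹ := by
  intro h1
  apply h.hgu
  calc g * u = g * (u * g⁻¹) * g := by group
    _ = g * (g⁻¹ * u) * g := by rw [h1]
    _ = u * g := by group

theorem cent_U (h : Cfg P U u z g) {x : G} (hx : x ∈ P) (hxu : x * u = u * x) :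
    ∀ a ∈ U, x * a = a * x := by
  intro a ha
  rcases h.hU a ha with rfl | rfl | rfl | rfl
  · simp
  · exact hxu
  · exact h.hzc x hx
  · rw [← mul_assoc, hxu, mul_assoc, h.hzc x hx, ← mul_assoc]

theorem conj_comm_u (h : Cfg P U u z g) {x y : G} (hx : x ∈ P) (hxu : x * u = u * x)
    (hy : y ∈ P) : (y * x * y⁻¹) * u = u * (y * x * y⁻¹) := by
  have ha : y⁻¹ * u * y⁻¹⁻¹ ∈ U := h.hUn _ (P.inv_mem hy) u h.huU
  have h1 := h.cent_U hx hxu _ ha
  calc y * x * y⁻¹ * u = y * (x * (y⁻¹ * u * y⁻¹⁻¹)) * y⁻¹ := by group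
    _ = y * ((y⁻¹ * u * y⁻¹⁻¹) * x) * y⁻¹ := by rw [h1]
    _ = u * (y * x * y⁻¹) := by group

/-- Elements of order at most two in `Z(C_P(u))` fixed by `g` are `1` or `z`. -/
theorem zlem [Finite G] (h : Cfg P U u z g)
    (hcyc : IsCyclic ↥(P ⊓ centralizer (P : Set G))) {y : G} (hyP : y ∈ P)
    (hyc : ∀ x ∈ P, x * u = u * x → x * y = y * x) (hgy : g * y = y * g) (hyy : y * y = 1) :
    y = 1 ∨ y = z := by
  have hycent : ∀ x ∈ P, x * y = y * x := by
    intro x hx
    by_cases hxu : x * u = u * x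
    · exact hyc x hx hxu
    · have h1 := h.mul_comm_u hx (P.inv_mem h.hgP) hxu h.inv_not
      have h2 := hyc _ (P.mul_mem hx (P.inv_mem h.hgP)) h1
      calc x * y = (x * g⁻¹) * (g * y) := by group
        _ = (x * g⁻¹) * (y * g) := by rw [hgy]
        _ = ((x * g⁻¹) * y) * g := by group
        _ = (y * (x * g⁻¹)) * g := by rw [h2]
        _ = y * x := by group
  have hyZ : y ∈ P ⊓ centralizer (P : Set G) := by
    rw [Subgroup.mem_inf]
    refine ⟨hyP, ?_⟩
    rw [mem_centralizer_iff]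
    exact hycent
  have hzZ : z ∈ P ⊓ centralizer (P : Set G) := by
    rw [Subgroup.mem_inf]
    refine ⟨h.hUP h.hzU, ?_⟩
    rw [mem_centralizer_iff]
    exact h.hzc
  exact cyc_sq _ hcyc hzZ hyZ h.hz1 h.hzz hyy

/-- `Ω₁(Z(C_P(u))) ≤ U`. -/
theorem omega_le [Finite G] (h : Cfg P U u z g)
    (hcyc : IsCyclic ↥(P ⊓ centralizer (P : Set G))) {b : G} (hbP : b ∈ P)
    (hbu : b * u = u * b) (hbc : ∀ x ∈ P, x * u = u * x → x * b = b * x) (hbb : b * b = 1) :
    b ∈ U := by
  have hgP := h.hgP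
  have hb₁P : g * b * g⁻¹ ∈ P := P.mul_mem (P.mul_mem hgP hbP) (P.inv_mem hgP)
  have hb₁u : (g * b * g⁻¹) * u = u * (g * b * g⁻¹) := h.conj_comm_u hbP hbu hgP
  have hb₁c : ∀ x ∈ P, x * u = u * x → x * (g * b * g⁻¹) = (g * b * g⁻¹) * x := by
    intro x hx hxu
    have h1 : (g⁻¹ * x * g⁻¹⁻¹) * u = u * (g⁻¹ * x * g⁻¹⁻¹) :=
      h.conj_comm_u hx hxu (P.inv_mem hgP)
    have h2 := hbc _ (P.mul_mem (P.mul_mem (P.inv_mem hgP) hx) (P.inv_mem (P.inv_mem hgP))) h1
    calc x * (g * b * g⁻¹) = g * ((g⁻¹ * x * g⁻¹⁻¹) * b) * g⁻¹ := by group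
      _ = g * (b * (g⁻¹ * x * g⁻¹⁻¹)) * g⁻¹ := by rw [h2]
      _ = (g * b * g⁻¹) * x := by group
  have hbb₁ : (g * b * g⁻¹) * b = b * (g * b * g⁻¹) := hbc _ hb₁P hb₁u
  have hgg : (g * g) * u = u * (g * g) := h.mul_comm_u hgP hgP h.hgu h.hgu
  have hggb : (g * g) * b = b * (g * g) := hbc _ (P.mul_mem hgP hgP) hgg
  -- `w = b * b₁`
  have hwP : b * (g * b * g⁻¹) ∈ P := P.mul_mem hbP hb₁P
  have hwc : ∀ x ∈ P, x * u = u * x → x * (b * (g * b * g⁻¹)) = (b * (g * b * g⁻¹)) * x := by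
    intro x hx hxu
    rw [← mul_assoc, hbc x hx hxu, mul_assoc, hb₁c x hx hxu, ← mul_assoc]
  have hgw : g * (b * (g * b * g⁻¹)) = (b * (g * b * g⁻¹)) * g := by
    calc g * (b * (g * b * g⁻¹)) = (g * b * g⁻¹) * ((g * g) * b) * g⁻¹ * g⁻¹ * g := by group
      _ = (g * b * g⁻¹) * (b * (g * g)) * g⁻¹ * g⁻¹ * g := by rw [hggb]
      _ = ((g * b * g⁻¹) * b) * g := by group
      _ = (b * (g * b * g⁻¹)) * g := by rw [hbb₁]
  have hww : (b * (g * b * g⁻¹)) * (b * (g * b * g⁻¹)) = 1 := by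
    calc (b * (g * b * g⁻¹)) * (b * (g * b * g⁻¹))
        = b * ((g * b * g⁻¹) * b) * (g * b * g⁻¹) := by group
      _ = b * (b * (g * b * g⁻¹)) * (g * b * g⁻¹) := by rw [hbb₁]
      _ = (b * b) * (g * (b * b) * g⁻¹) := by group
      _ = 1 := by rw [hbb]; group
  have hbinv : b⁻¹ = b := by
    calc b⁻¹ = b⁻¹ * (b * b) := by rw [hbb, mul_one]
      _ = b := by group
  rcases h.zlem hcyc hwP hwc hgw hww with hw | hw
  · -- `g` centralizes `b`
    have hgb : g * b = b * g := by
      calc g * b = b⁻¹ * (b * (g * b * g⁻¹)) * g := by group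
        _ = b⁻¹ * g := by rw [hw, mul_one]
        _ = b * g := by rw [hbinv]
    rcases h.zlem hcyc hbP hbc hgb hbb with h1 | h1
    · rw [h1]; exact U.one_mem
    · rw [h1]; exact h.hzU
  · -- `g b g⁻¹ = b z`; then `g` centralizes `b u`
    have hb₁ : g * b * g⁻¹ = b * z := by
      calc g * b * g⁻¹ = b⁻¹ * (b * (g * b * g⁻¹)) := by group
        _ = b * z := by rw [hw, hbinv]
    have huP : u ∈ P := h.hUP h.huU
    have hbz : b * z = z * b := h.hzc b hbP
    have hgbu : g * (b * u) = (b * u) * g := by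
      have e : g * (b * u) * g⁻¹ = b * u := by
        calc g * (b * u) * g⁻¹ = (g * b * g⁻¹) * (g * u * g⁻¹) := by group
          _ = (b * z) * (u * z) := by rw [hb₁, h.conj_u_of_not hgP h.hgu]
          _ = b * (z * u) * z := by group
          _ = b * (u * z) * z := by rw [h.uz_comm]
          _ = b * u * (z * z) := by group
          _ = b * u := by rw [h.hzz, mul_one]
      calc g * (b * u) = (g * (b * u) * g⁻¹) * g := by group
        _ = (b * u) * g := by rw [e]
    have hbuc : ∀ x ∈ P, x * u = u * x → x * (b * u) = (b * u) * x := by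
      intro x hx hxu
      rw [← mul_assoc, hbc x hx hxu, mul_assoc, hxu, ← mul_assoc]
    have hbubu : (b * u) * (b * u) = 1 := by
      calc (b * u) * (b * u) = b * (u * b) * u := by group
        _ = b * (b * u) * u := by rw [hbu]
        _ = (b * b) * (u * u) := by group
        _ = 1 := by rw [hbb, h.huu, mul_one]
    have hbeq : b = (b * u) * u := by
      rw [mul_assoc, h.huu, mul_one]
    rcases h.zlem hcyc (P.mul_mem hbP huP) hbuc hgbu hbubu with h1 | h1
    · rw [hbeq, h1, one_mul]; exact h.huU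
    · rw [hbeq, h1, ← h.uz_comm]; exact U.mul_mem h.huU h.hzU

end Cfg

theorem exists_sylow_of_noncentral [Finite G] (P : Sylow 2 G) (U : Subgroup G) {u z g : G}
    (h : Cfg (P : Subgroup G) U u z g)
    (hcyc : IsCyclic ↥((P : Subgroup G) ⊓ centralizer ((P : Subgroup G) : Set G))) :
    ∃ T : Sylow 2 ↥(normalizer ((zpowers u : Subgroup G) : Set G)),
      ∀ t, t ∈ T → (t : G) ∈ normalizer (U : Set G) := by
  have hp2 : Fact (Nat.Prime 2) := ⟨Nat.prime_two⟩
  obtain ⟨P₀, hP₀⟩ : ∃ P₀ : Subgroup G, P₀ = (P : Subgroup G) ⊓ centralizer {u} := ⟨_, rfl⟩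
  have hmem₀ : ∀ x : G, x ∈ P₀ ↔ x ∈ (P : Subgroup G) ∧ x * u = u * x := by
    intro x
    rw [hP₀, Subgroup.mem_inf, mem_centralizer_singleton_iff]
  have hP₀P : P₀ ≤ (P : Subgroup G) := fun x hx => ((hmem₀ x).mp hx).1
  have hP₀N : P₀ ≤ normalizer ((zpowers u : Subgroup G) : Set G) := by
    intro x hx
    apply centralizer_le_normalizer_zpowers
    rw [mem_centralizer_singleton_iff]
    exact ((hmem₀ x).mp hx).2
  have hP₀' : IsPGroup 2 (P₀.subgroupOf (normalizer ((zpowers u : Subgroup G) : Set G))) :=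
    (P.isPGroup'.to_le hP₀P).comap_subtype
  obtain ⟨T, hT⟩ := hP₀'.exists_le_sylow
  refine ⟨T, ?_⟩
  obtain ⟨Tm, hTm⟩ : ∃ Tm : Subgroup G, Tm = (T : Subgroup _).map
      (normalizer ((zpowers u : Subgroup G) : Set G)).subtype := ⟨_, rfl⟩
  have hTm2 : IsPGroup 2 Tm := by rw [hTm]; exact T.isPGroup'.map _
  have hP₀Tm : P₀ ≤ Tm := by
    intro x hx
    rw [hTm]
    exact ⟨⟨x, hP₀N hx⟩, hT (by rw [mem_subgroupOf]; exact hx), rfl⟩
  have hTmu : ∀ t ∈ Tm, t * u = u * t := by
    intro t ht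
    rw [hTm] at ht
    obtain ⟨t', -, rfl⟩ := ht
    exact normalizer_zpowers_commute h.huu h.hu1 t'.2
  -- it suffices that `Tm` maps `U` into itself
  suffices hsuff : ∀ t ∈ Tm, ∀ a ∈ U, t * a * t⁻¹ ∈ U by
    intro t ht
    have htm : (t : G) ∈ Tm := by rw [hTm]; exact ⟨t, ht, rfl⟩
    rw [mem_normalizer_iff]
    intro a
    constructor
    · exact hsuff _ htm a
    · intro ha
      have := hsuff _ (Tm.inv_mem htm) _ ha
      have e : (t : G)⁻¹ * ((t : G) * a * (t : G)⁻¹) * (t : G)⁻¹⁻¹ = a := by group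
      rw [e] at this
      exact this
  by_cases hTP : Tm ≤ (P : Subgroup G)
  · intro t ht a ha
    exact h.hUn t (hTP ht) a ha
  -- the index of `P₀` in `P` is two
  have hidxP : (P₀.subgroupOf (P : Subgroup G)).index = 2 := by
    rw [index_eq_two_iff]
    refine ⟨⟨g, h.hgP⟩, ?_⟩
    intro b
    unfold Xor
    simp only [mem_subgroupOf, Subgroup.coe_mul]
    by_cases hb : (b : G) ∈ P₀
    · right
      refine ⟨hb, fun hbg => h.hgu ?_⟩
      have : g ∈ P₀ := (P₀.mul_mem_cancel_left hb).mp hbg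
      exact ((hmem₀ g).mp this).2
    · left
      refine ⟨?_, hb⟩
      rw [hmem₀]
      have hbu : (b : G) * u ≠ u * (b : G) := fun hh => hb ((hmem₀ _).mpr ⟨b.2, hh⟩)
      exact ⟨(P : Subgroup G).mul_mem b.2 h.hgP, h.mul_comm_u b.2 h.hgP hbu h.hgu⟩
  have hcardP : Nat.card P₀ * 2 = Nat.card (P : Subgroup G) := by
    have := (P₀.subgroupOf (P : Subgroup G)).card_mul_index
    rw [hidxP, Nat.card_congr (subgroupOfEquivOfLe hP₀P).toEquiv] at this
    exact this
  -- the order of `Tm`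
  have hdvd1 : Nat.card P₀ ∣ Nat.card Tm := card_dvd_of_le hP₀Tm
  have hdvd2 : Nat.card Tm ∣ Nat.card (P : Subgroup G) := by
    obtain ⟨Q, hQ⟩ := hTm2.exists_le_sylow
    have := card_dvd_of_le hQ
    rwa [Q.card_eq_multiplicity, ← P.card_eq_multiplicity] at this
  have hne : Nat.card Tm ≠ Nat.card P₀ := by
    intro heq
    have : P₀ = Tm := eq_of_le_of_card_ge hP₀Tm heq.le
    exact hTP (this ▸ hP₀P)
  have hpos : 0 < Nat.card P₀ := Nat.card_pos
  have hcardT : Nat.card Tm = Nat.card P₀ * 2 := by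
    obtain ⟨m, hm⟩ := hdvd1
    rw [hm, ← hcardP] at hdvd2
    have hm2 : m ∣ 2 := (Nat.mul_dvd_mul_iff_left hpos).mp hdvd2
    have hm12 : m = 1 ∨ m = 2 := (Nat.dvd_prime Nat.prime_two).mp hm2
    rcases hm12 with rfl | rfl
    · exfalso; apply hne; rw [hm, mul_one]
    · exact hm
  have hidxT : (P₀.subgroupOf Tm).index = 2 := by
    have := (P₀.subgroupOf Tm).card_mul_index
    rw [Nat.card_congr (subgroupOfEquivOfLe hP₀Tm).toEquiv, hcardT] at this
    exact Nat.eq_of_mul_eq_mul_left hpos this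
  have hnormT : (P₀.subgroupOf Tm).Normal := normal_of_index_eq_two hidxT
  have hconj₀ : ∀ t ∈ Tm, ∀ x ∈ P₀, t * x * t⁻¹ ∈ P₀ := by
    intro t ht x hx
    have := hnormT.conj_mem ⟨x, hP₀Tm hx⟩ (by rw [mem_subgroupOf]; exact hx) ⟨t, ht⟩
    rw [mem_subgroupOf] at this
    simpa using this
  -- conjugates of `z` under `Tm` lie in `U`
  have hzP₀ : z ∈ P₀ := (hmem₀ z).mpr ⟨h.hUP h.hzU, h.uz_comm.symm⟩
  have hconjz : ∀ t ∈ Tm, t * z * t⁻¹ ∈ U := by
    intro t ht
    have hb₀ := hconj₀ t ht z hzP₀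
    obtain ⟨hbP, hbu⟩ := (hmem₀ _).mp hb₀
    apply h.omega_le hcyc hbP hbu
    · intro x hx hxu
      have hx₀ : x ∈ P₀ := (hmem₀ x).mpr ⟨hx, hxu⟩
      have h1 := hconj₀ t⁻¹ (Tm.inv_mem ht) x hx₀
      have h2 := h.hzc _ (hP₀P h1)
      calc x * (t * z * t⁻¹) = t * ((t⁻¹ * x * t⁻¹⁻¹) * z) * t⁻¹ := by group
        _ = t * (z * (t⁻¹ * x * t⁻¹⁻¹)) * t⁻¹ := by rw [h2]
        _ = (t * z * t⁻¹) * x := by group
    · calc (t * z * t⁻¹) * (t * z * t⁻¹) = t * (z * z) * t⁻¹ := by group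
        _ = 1 := by rw [h.hzz]; group
  intro t ht a ha
  have htu : t * u * t⁻¹ = u := by rw [hTmu t ht]; group
  rcases h.hU a ha with rfl | rfl | rfl | rfl
  · have e : t * 1 * t⁻¹ = 1 := by group
    rw [e]; exact U.one_mem
  · rw [htu]; exact h.huU
  · exact hconjz t ht
  · have e : t * (u * z) * t⁻¹ = (t * u * t⁻¹) * (t * z * t⁻¹) := by group
    rw [e, htu]
    exact U.mul_mem h.huU (hconjz t ht)

end Ambient

/-- Let `G` be a finite non-abelian simple group in which every local subgroup is solvable and which is of characteristic 2 type. Let `P` be a Sylow 2-subgroup of `G` and `U` a normal subgroup of `P` that is a four-group, with `U` central in `P` if the centre of `P` is not cyclic. Then `U` centralizes every subgroup of odd order of `G` that it normalizes. -/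
theorem result {G : Type*} [Group G] [Finite G]
    [IsSimpleGroup G] (hna : ¬ IsMulCommutative G) (hN : Cfsg.IsNGroup G) (h2 : Cfsg.IsCharacteristicTwoType G)
    (P : Sylow 2 G) (U : Subgroup G) (hUP : U ≤ (P : Subgroup G)) (hUn : (P : Subgroup G) ≤ Subgroup.normalizer (U : Set G))
    (hU4 : IsKleinFour ↥U)
    (hUZ : ¬ IsCyclic ↥((P : Subgroup G) ⊓ Subgroup.centralizer ((P : Subgroup G) : Set G)) →
      U ≤ Subgroup.centralizer ((P : Subgroup G) : Set G))
    (K : Subgroup G) (hK : Odd (Nat.card K)) (hUK : U ≤ Subgroup.normalizer (K : Set G)) :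
    U ≤ Subgroup.centralizer (K : Set G) := by
  have hp2 : Fact (Nat.Prime 2) := ⟨Nat.prime_two⟩
  have hcard : Nat.card U = 4 := IsKleinFour.card_four
  have hexp : ∀ a ∈ U, a * a = 1 := fun a ha => by
    have := IsKleinFour.mul_self (⟨a, ha⟩ : U)
    exact congrArg Subtype.val this
  have hinv : ∀ a ∈ U, a⁻¹ = a := fun a ha => by
    calc a⁻¹ = a⁻¹ * (a * a) := by rw [hexp a ha, mul_one]
      _ = a := by group
  have hUab : ∀ a ∈ U, ∀ b ∈ U, a * b = b * a := by
    intro a ha b hb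
    have h1 := hexp _ (U.mul_mem ha hb)
    calc a * b = (a * b)⁻¹ * (a * b * (a * b)) := by group
      _ = (a * b)⁻¹ := by rw [h1, mul_one]
      _ = b⁻¹ * a⁻¹ := by group
      _ = b * a := by rw [hinv a ha, hinv b hb]
  have hUnorm : ∀ x ∈ (P : Subgroup G), ∀ a ∈ U, x * a * x⁻¹ ∈ U := fun x hx a ha =>
    (mem_normalizer_iff.mp (hUn hx) a).mp ha
  -- a Sylow 2-subgroup of `N_G(⟨u⟩)` normalizing `U`, for every `u ∈ U#`
  have hexT : ∀ u ∈ U, u ≠ 1 →
      ∃ T : Sylow 2 ↥(normalizer ((zpowers u : Subgroup G) : Set G)),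
        ∀ t, t ∈ T → (t : G) ∈ normalizer (U : Set G) := by
    intro u huU hu1
    by_cases huc : u ∈ centralizer ((P : Subgroup G) : Set G)
    · exact exists_sylow_of_central P U hUn u huc
    · have hcyc : IsCyclic ↥((P : Subgroup G) ⊓ centralizer ((P : Subgroup G) : Set G)) := by
        by_contra hnc
        exact huc (hUZ hnc huU)
      have hUnormal : (U.subgroupOf (P : Subgroup G)).Normal :=
        (normal_subgroupOf_iff_le_normalizer hUP).mpr hUn
      have hUne : U.subgroupOf (P : Subgroup G) ≠ ⊥ := by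
        intro hbot
        have hmem : (⟨u, hUP huU⟩ : ↥(P : Subgroup G)) ∈ U.subgroupOf (P : Subgroup G) := by
          rw [mem_subgroupOf]; exact huU
        rw [hbot, Subgroup.mem_bot] at hmem
        exact hu1 (congrArg Subtype.val hmem)
      obtain ⟨z', hz'U, hz'1, hz'c⟩ :=
        Cfsg.Agent.Helper32.exists_ne_one_mem_center_of_normal P.isPGroup' _ hUne
      rw [mem_subgroupOf] at hz'U
      have hz1 : (z' : G) ≠ 1 := fun hh => hz'1 (Subtype.ext hh)
      have hzc : ∀ x ∈ (P : Subgroup G), x * (z' : G) = (z' : G) * x := by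
        intro x hx
        have := mem_center_iff.mp hz'c ⟨x, hx⟩
        exact congrArg Subtype.val this
      have huz : u ≠ (z' : G) := by
        intro hh
        apply huc
        rw [mem_centralizer_iff]
        intro x hx
        rw [hh]
        exact hzc x hx
      obtain ⟨g, hgP, hgu⟩ : ∃ g ∈ (P : Subgroup G), g * u ≠ u * g := by
        by_contra hcon
        push Not at hcon
        apply huc
        rw [mem_centralizer_iff]
        exact hcon
      have hcfg : Cfg (P : Subgroup G) U u (z' : G) g :=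
        { hUP := hUP
          hUn := hUnorm
          hU := four_elts hcard hexp huU hz'U hu1 hz1 huz
          huU := huU
          hzU := hz'U
          hu1 := hu1
          hz1 := hz1
          huz := huz
          huu := hexp u huU
          hzz := hexp _ hz'U
          hzc := hzc
          hgP := hgP
          hgu := hgu }
      exact exists_sylow_of_noncentral P U hcfg hcyc
  -- generation
  rw [le_centralizer_iff]
  have hU1 : U ≠ ⊥ := by
    intro hbot
    rw [hbot] at hcard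
    simp at hcard
  have hgen := Cfsg.Agent.Helper29.le_iSup_covBy (p := 2) U K hUab
    (fun x hx => by rw [pow_two]; exact hexp x hx) hU1 hUK (Nat.coprime_two_right.mpr hK)
  refine hgen.trans (iSup_le ?_)
  rintro ⟨B, hB⟩
  obtain ⟨u, huB, hu1⟩ : ∃ u ∈ B, u ≠ 1 := by
    by_contra hcon
    push Not at hcon
    have hBbot : B = ⊥ := (eq_bot_iff_forall B).mpr hcon
    obtain ⟨a, haU, ha1⟩ : ∃ a ∈ U, a ≠ 1 := by
      by_contra hcon'
      push Not at hcon'
      exact hU1 ((eq_bot_iff_forall U).mpr hcon')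
    have h1 : zpowers a ≤ U := zpowers_le.mpr haU
    rcases hB.eq_or_eq (hBbot ▸ bot_le) h1 with h | h
    · apply ha1
      have : a ∈ zpowers a := mem_zpowers a
      rw [h, hBbot, Subgroup.mem_bot] at this
      exact this
    · have hc : Nat.card (zpowers a) = 4 := by rw [h]; exact hcard
      rw [Nat.card_zpowers] at hc
      have := orderOf_le_of_pow_eq_one (n := 2) (by norm_num)
        (show a ^ 2 = 1 by rw [pow_two]; exact hexp a haU)
      omega
  have huU : u ∈ U := hB.le huB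
  obtain ⟨T, hT⟩ := hexT u huU hu1
  have hchar : IsOfCharacteristicTwo ↥(normalizer ((zpowers u : Subgroup G) : Set G)) := by
    apply h2.2 (zpowers u)
    · apply IsPGroup.of_card (n := 1)
      rw [Nat.card_zpowers, pow_one]
      exact orderOf_eq_prime (by rw [pow_two]; exact hexp u huU) hu1
    · exact zpowers_ne_bot.mpr hu1
  have hDodd : Odd (Nat.card ↥(K ⊓ centralizer {u})) :=
    Odd.of_dvd_nat hK (card_dvd_of_le inf_le_left)
  have hUD : U ≤ normalizer ((K ⊓ centralizer {u} : Subgroup G) : Set G) := by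
    intro a ha
    have hau : a * u = u * a := hUab a ha u huU
    have haK := mem_normalizer_iff.mp (hUK ha)
    rw [mem_normalizer_iff]
    intro x
    rw [Subgroup.mem_inf, Subgroup.mem_inf, mem_centralizer_singleton_iff,
      mem_centralizer_singleton_iff, ← haK x]
    constructor
    · rintro ⟨hxK, hxu⟩
      refine ⟨hxK, ?_⟩
      calc a * x * a⁻¹ * u = a * x * (a⁻¹ * (u * a)) * a⁻¹ := by group
        _ = a * x * (a⁻¹ * (a * u)) * a⁻¹ := by rw [hau]
        _ = a * (x * u) * a⁻¹ := by group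
        _ = a * (u * x) * a⁻¹ := by rw [hxu]
        _ = (a * u) * x * a⁻¹ := by group
        _ = (u * a) * x * a⁻¹ := by rw [hau]
        _ = u * (a * x * a⁻¹) := by group
    · rintro ⟨hxK, hxu⟩
      refine ⟨hxK, ?_⟩
      calc x * u = a⁻¹ * ((a * x * a⁻¹) * (a * u)) * a⁻¹ * a := by group
        _ = a⁻¹ * ((a * x * a⁻¹) * (u * a)) * a⁻¹ * a := by rw [hau]
        _ = a⁻¹ * (((a * x * a⁻¹) * u) * a) * a⁻¹ * a := by group
        _ = a⁻¹ * ((u * (a * x * a⁻¹)) * a) * a⁻¹ * a := by rw [hxu]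
        _ = a⁻¹ * (u * a) * x := by group
        _ = a⁻¹ * (a * u) * x := by rw [hau]
        _ = u * x := by group
  have hfin := centralizes_of_sylow U hcard hexp hUab u huU hu1 hchar T hT
    (K ⊓ centralizer {u}) hDodd inf_le_right hUD
  refine le_trans ?_ hfin
  exact inf_le_inf_left _ (centralizer_le (Set.singleton_subset_iff.mpr huB))

end Cfsg.Agent.S1957
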