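import Cfsg.Statements.S1987
import Cfsg.Agent.Lib.Helper33.SecFusionG
import Cfsg.Agent.Lib.Helper54.KInfFunctor
import Cfsg.Agent.Lib.Helper34.KStab7
import Cfsg.Agent.S2795

set_option autoImplicit false
universe u
open Cfsg Cfsg.Agent.Helper33

namespace Cfsg.Agent.S1987

/-- Let p be an odd prime and G a finite group every section of which is p-stable in the normalizer form (in each section, an element of the normalizer of a p-subgroup Q acting quadratically on Q maps into O_p of N(Q)/C(Q)). Then for every Sylow p-subgroup S of G the lower K-infinity subgroup of S controls strong fusion in G. -/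
theorem result {G : Type u} [Group G] [Finite G] {p : ℕ} [Fact p.Prime] (hp : p ≠ 2) (hst : ∀ (K R : Subgroup G) [hR : (R.subgroupOf K).Normal], Cfsg.IsNormalizerPStable p (↥K ⧸ R.subgroupOf K)) (S : Sylow p G) : Cfsg.ControlsStrongFusion p (Cfsg.inducedFunctor Cfsg.kInfLower (S : Subgroup G)) := by
  have hfree : ¬ Involves ↥(qd p) G := (Cfsg.Agent.S2795.result hp).mpr hst
  have hW : IsCharPFunctor.{u} p kInfLower := Cfsg.Agent.Helper54.KInf.isCharPFunctor_kInfLower p
  have hW' : ∀ W' ∈ ({kInfLower} : Set (∀ (Q : Type u) [Group Q], Subgroup Q)),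
      IsCharPFunctor.{u} p W' :=
    fun W' h => by rw [Set.mem_singleton_iff.mp h]; exact hW
  have hsec : SecHave (LocHyp.{u} p {kInfLower}) G := by
    intro K R hR hcon
    obtain ⟨T⟩ : Nonempty (Sylow p (↥K ⧸ R.subgroupOf K)) := inferInstance
    have hfree' : ¬ Involves ↥(qd p) (↥K ⧸ R.subgroupOf K) := fun hinv =>
      hfree (Cfsg.Agent.Helper46.involves_of_involves_subgroup K
        (Cfsg.Agent.Helper46.involves_of_involves_quotient (QuotientGroup.mk' (R.subgroupOf K))
          (QuotientGroup.mk'_surjective _) hinv))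
    exact fcsf_of_normal T ⟨kInfLower, rfl, rfl⟩
      (Cfsg.Agent.Helper34.KStab.kInf_normal_of_qdFree hp hfree' hcon T).1
  exact controlsStrongFusion_of_fcsf hW (secFusion hW' G hsec) S

end Cfsg.Agent.S1987
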