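import Cfsg.Statements.S2007
import Cfsg.Agent.Lib.Helper33.PComp

set_option autoImplicit false
open Cfsg

namespace Cfsg.Agent.S2007

/-- Let p be a prime, G a finite group with Sylow p-subgroup S, and T a normal subgroup of S containing C_S(T). If N_G(T)/C_G(T) is a p-group (every element of N_G(T) of order prime to p centralizes T), then N_G(T) has a normal p-complement. -/
theorem result {G : Type*} [Group G] [Finite G] {p : ℕ} [Fact p.Prime] (S : Sylow p G) (T : Subgroup G) (hTS : T ≤ (S : Subgroup G)) (hTn : (S : Subgroup G) ≤ Subgroup.normalizer ((T : Subgroup G) : Set G)) (hC : (S : Subgroup G) ⊓ Subgroup.centralizer ((T : Subgroup G) : Set G) ≤ T) (hN : ∀ g ∈ Subgroup.normalizer ((T : Subgroup G) : Set G), (orderOf g).Coprime p → g ∈ Subgroup.centralizer ((T : Subgroup G) : Set G)) : Cfsg.HasNormalPComplement p ↥(Subgroup.normalizer ((T : Subgroup G) : Set G)) := by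
  have hTn' : (T.subgroupOf (Subgroup.normalizer ((T : Subgroup G) : Set G))).Normal :=
    Subgroup.normal_in_normalizer
  have hC' : ((S.subtype hTn : Sylow p ↥(Subgroup.normalizer ((T : Subgroup G) : Set G))) :
      Subgroup ↥(Subgroup.normalizer ((T : Subgroup G) : Set G))) ⊓
      Subgroup.centralizer ((T.subgroupOf (Subgroup.normalizer ((T : Subgroup G) : Set G)) :
        Subgroup ↥(Subgroup.normalizer ((T : Subgroup G) : Set G))) : Set _) ≤
      T.subgroupOf (Subgroup.normalizer ((T : Subgroup G) : Set G)) := by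
    intro x hx
    rw [Subgroup.mem_inf, Sylow.coe_subtype, Subgroup.mem_subgroupOf] at hx
    rw [Subgroup.mem_subgroupOf]
    apply hC
    refine Subgroup.mem_inf.mpr ⟨hx.1, ?_⟩
    rw [Subgroup.mem_centralizer_iff]
    intro t ht
    have := Subgroup.mem_centralizer_iff.mp hx.2 ⟨t, Subgroup.le_normalizer ht⟩
      (by rw [SetLike.mem_coe, Subgroup.mem_subgroupOf]; exact ht)
    exact congrArg Subtype.val this
  have hN' : ∀ g : ↥(Subgroup.normalizer ((T : Subgroup G) : Set G)), (orderOf g).Coprime p →
      g ∈ Subgroup.centralizer ((T.subgroupOf (Subgroup.normalizer ((T : Subgroup G) : Set G)) :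
        Subgroup ↥(Subgroup.normalizer ((T : Subgroup G) : Set G))) : Set _) := by
    intro g hg
    rw [← Subgroup.orderOf_coe] at hg
    have h1 := hN g g.2 hg
    rw [Subgroup.mem_centralizer_iff] at h1 ⊢
    intro t ht
    rw [SetLike.mem_coe, Subgroup.mem_subgroupOf] at ht
    apply Subtype.ext
    exact h1 t ht
  obtain ⟨K, hKn, hKc⟩ := Cfsg.Agent.Helper33.exists_normal_pcomplement_of_centralizer
    (S.subtype hTn) (T.subgroupOf (Subgroup.normalizer ((T : Subgroup G) : Set G))) hC' hN'
  exact ⟨S.subtype hTn, K, hKn, hKc⟩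

end Cfsg.Agent.S2007
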