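import Cfsg.Statements.S1988
import Cfsg.Agent.S1987
import Cfsg.Agent.S1990
import Cfsg.Agent.S2007
import Cfsg.Agent.S1978
import Cfsg.Agent.Lib.Helper33.WellPlaced

set_option autoImplicit false
universe u
open Cfsg

namespace Cfsg.Agent.S1988

/-- Let p be an odd prime, G a finite group with Sylow p-subgroup S and K the lower K-infinity subgroup of S. If N_G(K) has a normal p-complement, or if N_G(K)/C_G(K) is a p-group (every element of N_G(K) of order prime to p centralizes K), then G has a normal p-complement. -/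
theorem result {G : Type u} [Group G] [Finite G] {p : ℕ} [Fact p.Prime] (hp : p ≠ 2) (S : Sylow p G) (h : Cfsg.HasNormalPComplement p ↥(Subgroup.normalizer ((Cfsg.inducedFunctor Cfsg.kInfLower (S : Subgroup G) : Subgroup G) : Set G)) ∨ ∀ g ∈ Subgroup.normalizer ((Cfsg.inducedFunctor Cfsg.kInfLower (S : Subgroup G) : Subgroup G) : Set G), (orderOf g).Coprime p → g ∈ Subgroup.centralizer ((Cfsg.inducedFunctor Cfsg.kInfLower (S : Subgroup G) : Subgroup G) : Set G)) : Cfsg.HasNormalPComplement p G := by
  have hW : IsCharPFunctor.{u} p kInfLower := Cfsg.Agent.Helper54.KInf.isCharPFunctor_kInfLower p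
  have key : Cfsg.HasNormalPComplement p ↥(Subgroup.normalizer
      ((Cfsg.inducedFunctor Cfsg.kInfLower (S : Subgroup G) : Subgroup G) : Set G)) →
      Cfsg.HasNormalPComplement p G := fun hN =>
    Cfsg.Agent.S1990.result hp kInfLower hW S hN
      (fun K R hR hst T => Cfsg.Agent.S1987.result hp hst T)
  rcases h with h | h
  · exact key h
  · apply key
    refine Cfsg.Agent.S2007.result S _ (Cfsg.Agent.Helper33.indF_le _ _) ?_ ?_ h
    · exact Subgroup.le_normalizer.trans
        (Cfsg.Agent.Helper33.normalizer_le_normalizer_functor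
          (Cfsg.Agent.Helper33.isConjugacyFunctor_indF hW G) S.isPGroup')
    · intro x hx
      obtain ⟨hxS, hxC⟩ := Subgroup.mem_inf.mp hx
      have h1 := (Cfsg.Agent.S1978.result (P := ↥(S : Subgroup G)) S.isPGroup').1
      have h2 : (⟨x, hxS⟩ : ↥(S : Subgroup G)) ∈
          Subgroup.centralizer (Cfsg.kInfLower ↥(S : Subgroup G) : Set ↥(S : Subgroup G)) := by
        intro y hy
        apply Subtype.ext
        have := hxC (y : G) ⟨y, hy, rfl⟩
        simpa using this
      exact ⟨⟨x, hxS⟩, h1 h2, rfl⟩

end Cfsg.Agent.S1988
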