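import Cfsg.Statements.S1989
import Cfsg.Agent.Lib.Helper33.KInfF
import Cfsg.Agent.Lib.Helper33.KInfQd
import Cfsg.Agent.S2795

set_option autoImplicit false
universe u
open Cfsg Cfsg.Agent.Helper33 Pointwise

namespace Cfsg.Agent.S1989

/-- Let p be an odd prime and G a finite group. Then Qd(p) (the natural semidirect product of an elementary abelian group of order p² by SL₂(p)) is not involved in G if and only if, in every section K/R of G and for every Sylow p-subgroup T of K/R, the lower K-infinity subgroup of T controls strong fusion in K/R. -/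
theorem result {G : Type u} [Group G] [Finite G] {p : ℕ} [Fact p.Prime] (hp : p ≠ 2) : ¬ Cfsg.Involves ↥(Cfsg.qd p) G ↔ ∀ (K R : Subgroup G) [hR : (R.subgroupOf K).Normal], ∀ T : Sylow p (↥K ⧸ R.subgroupOf K), Cfsg.ControlsStrongFusion p (Cfsg.inducedFunctor (G := (↥K ⧸ R.subgroupOf K)) Cfsg.kInfLower (T : Subgroup (↥K ⧸ R.subgroupOf K))) := by
  constructor
  · intro hfree K R hR T
    have hst := (Cfsg.Agent.S2795.result hp).mp hfree
    exact (Cfsg.Agent.Helper33.KE.controls_kInf_sections_of_sections_stable hst K R T).1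
  · intro h
    rintro ⟨K, R, hR, ⟨e⟩⟩
    have : CharP (ZMod p) p := ZMod.charP p
    obtain ⟨T, hT⟩ := Cfsg.Agent.Helper33.KQd.not_controls_kInfLower_qdOver (F := ZMod p) (p := p)
    exact hT (Cfsg.Agent.Helper33.KQd.controls_kInfLower_of_mulEquiv e (h K R) T)

end Cfsg.Agent.S1989
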