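import Cfsg.Statements.S1992
import Cfsg.Agent.S1991
import Cfsg.Agent.S0144
import Cfsg.Agent.Lib.Helper55.Solv

set_option autoImplicit false
open Cfsg

namespace Cfsg.Agent.S1992

/-- Let G be a finite group in which, for every prime q dividing the order of G, every Sylow q-subgroup is its own normalizer. Then the order of G is a power of a single prime (G is a q-group for some prime q; for G trivial any prime works). -/
theorem result {G : Type*} [Group G] [Finite G] (h : ∀ q : ℕ, q.Prime → q ∣ Nat.card G → ∀ Q : Sylow q G, Subgroup.normalizer ((Q : Subgroup G) : Set G) = Q) : ∃ q : ℕ, q.Prime ∧ IsPGroup q G := by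
  classical
  by_cases htriv : Nat.card G = 1
  · exact ⟨2, Nat.prime_two, IsPGroup.of_card (n := 0) (by rw [htriv, pow_zero])⟩
  have hnt : Nontrivial G := by
    rw [← Finite.one_lt_card_iff_nontrivial]
    have := Nat.card_pos (α := G)
    omega
  -- a normal subgroup of prime index
  have key : ∃ N : Subgroup G, N.Normal ∧ N.index.Prime := by
    by_cases hbig : ∃ p : ℕ, p.Prime ∧ 5 ≤ p ∧ p ∣ Nat.card G
    · obtain ⟨p, hp, hp5, hpd⟩ := hbig
      have : Fact p.Prime := ⟨hp⟩
      have S : Sylow p G := default
      have hS : (S : Subgroup G) ≠ ⊥ := S.ne_bot_of_dvd_card hpd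
      obtain ⟨N, hNn, hNi⟩ := Cfsg.Agent.S1991.result hp5 S hS (by
        intro g hg hco
        rw [h p hp hpd S] at hg
        obtain ⟨k, hk⟩ := S.isPGroup' ⟨g, hg⟩
        have hk' : g ^ p ^ k = 1 := by
          have := congrArg Subtype.val hk
          simpa using this
        have h1 : orderOf g ∣ p ^ k := orderOf_dvd_of_pow_eq_one hk'
        have h2 : orderOf g = 1 :=
          Nat.eq_one_of_dvd_coprimes (hco.pow_right k) dvd_rfl h1
        rw [orderOf_eq_one_iff] at h2
        rw [h2]
        exact Subgroup.one_mem _)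
      exact ⟨N, hNn, hNi ▸ hp⟩
    · push Not at hbig
      have hsol : Group.IsSolvable G :=
        Cfsg.Agent.S0144.aux 2 3 Nat.prime_two Nat.prime_three (Nat.card G) G rfl (by
          intro r hr hrd
          by_contra hne
          push Not at hne
          have h2 : 2 ≤ r := hr.two_le
          have h4 : r ≠ 4 := by
            rintro rfl
            norm_num at hr
          exact absurd hrd (hbig r hr (by omega)))
      exact Cfsg.Agent.Helper55.exists_normal_prime_index hsol
  obtain ⟨N, hNn, hNp⟩ := key
  refine ⟨N.index, hNp, ?_⟩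
  have hall : ∀ {r : ℕ}, r.Prime → r ∣ Nat.card G → r = N.index := by
    intro r hr hrd
    by_contra hne
    have : Fact r.Prime := ⟨hr⟩
    have R : Sylow r G := default
    have hRN : (R : Subgroup G) ≤ N := by
      intro x hx
      obtain ⟨k, hk⟩ := R.isPGroup' ⟨x, hx⟩
      have hk' : x ^ r ^ k = 1 := by
        have := congrArg Subtype.val hk
        simpa using this
      have h1 : (QuotientGroup.mk' N x) ^ (r ^ k) = 1 := by rw [← map_pow, hk', map_one]
      have h2 : (QuotientGroup.mk' N x) ^ N.index = 1 := by
        rw [Subgroup.index_eq_card]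
        exact pow_card_eq_one'
      have h3 := pow_gcd_eq_one.mpr ⟨h1, h2⟩
      have hco : Nat.Coprime (r ^ k) N.index :=
        ((Nat.coprime_primes hr hNp).mpr hne).pow_left k
      rw [hco, pow_one] at h3
      exact (QuotientGroup.eq_one_iff x).mp h3
    have hfr : Subgroup.normalizer (((R : Subgroup G)) : Set G) ⊔ N = ⊤ :=
      Sylow.normalizer_sup_eq_top' R hRN
    rw [h r hr hrd R, sup_eq_right.mpr hRN] at hfr
    rw [hfr, Subgroup.index_top] at hNp
    exact Nat.not_prime_one hNp
  have : Fact N.index.Prime := ⟨hNp⟩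
  rw [IsPGroup.iff_card]
  exact ⟨_, Nat.eq_prime_pow_of_unique_prime_dvd (Nat.card_pos (α := G)).ne' hall⟩

end Cfsg.Agent.S1992
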