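import Cfsg.Statements.S1998
import Cfsg.Agent.Lib.Helper33.EngelD

set_option autoImplicit false
universe u
open Cfsg Cfsg.Agent.Helper33 Pointwise

namespace Cfsg.Agent.S1998

/-- Let p be a prime, G a finite group with Sylow p-subgroup S, and 𝓦 a nonempty set of isomorphism-invariant p-group functors (W assigns to every group Q a subgroup W(Q), nontrivial whenever Q is a nontrivial finite p-group, and every isomorphism from a finite p-group Q onto a group R carries W(Q) onto W(R)). Suppose the induced conjugacy functors control transfer in every section of G other than G itself, but not in G. Let T be the subgroup generated by the S ∩ (N_G(W(S)))', W ∈ 𝓦, and M = N_G(T ∩ O_p(G)). Then: C_G(O_p(G)) ≤ O_p(G); M is a proper subgroup of G containing every proper subgroup of G that contains S (the unique maximal subgroup over S); [O_p(G), M] ≤ O_p(G) ∩ M' ≤ O_p(G) ∩ T; and every element u of S outside O_p(G) satisfies [X, u, …, u]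 ≰ Y with p − 1 entries u, for some chief factor X/Y of G with X ≤ O_p(G). -/
theorem result {G : Type u} [Group G] [Finite G] {p : ℕ} [Fact p.Prime] (S : Sylow p G) (𝓦 : Set (∀ (Q : Type u) [Group Q], Subgroup Q)) (h𝓦 : ∀ W ∈ 𝓦, Cfsg.IsCharPFunctor.{u} p W) (hne : 𝓦.Nonempty) (hsec : ∀ (K R : Subgroup G) [hR : (R.subgroupOf K).Normal], (K = ⊤ → R ≠ ⊥) → Cfsg.FamilyControlsTransferIn p ((fun W => Cfsg.inducedFunctor (G := (↥K ⧸ R.subgroupOf K)) W) '' 𝓦) ⊤) (hG : ¬ Cfsg.FamilyControlsTransferIn p ((fun W => Cfsg.inducedFunctor (G := G) W) '' 𝓦) ⊤) (T M : Subgroup G) (hT : T = (⨆ W ∈ 𝓦, (S : Subgroup G) ⊓ ⁅Subgroup.normalizer ((Cfsg.inducedFunctor (G := G) W (S : Subgroup G) : Subgroup G) : Set G), Subgroup.normalizer ((Cfsg.inducedFunctor (G := G) W (S : Subgroup G) : Subgroup G) : Set G)⁆)) (hM : M = Subgroup.normalizer ((T ⊓ Cfsg.pCore p G : Subgroup G) : Set G)) : Subgroup.centralizer ((Cfsg.pCore p G : Subgroup G) : Set G) ≤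 Cfsg.pCore p G ∧ (M ≠ ⊤ ∧ ∀ H : Subgroup G, (S : Subgroup G) ≤ H → H ≠ ⊤ → H ≤ M) ∧ (⁅Cfsg.pCore p G, M⁆ ≤ Cfsg.pCore p G ⊓ ⁅M, M⁆ ∧ Cfsg.pCore p G ⊓ ⁅M, M⁆ ≤ Cfsg.pCore p G ⊓ T) ∧ ∀ u : G, u ∈ (S : Subgroup G) → u ∉ Cfsg.pCore p G → ∃ U V : Subgroup G, Cfsg.IsChiefFactor U V ∧ U ≤ Cfsg.pCore p G ∧ ¬ Cfsg.iterCommutator U (Subgroup.zpowers u) (p - 1) ≤ V := by
  classical
  have hfail : ¬ FamilyControlsTransferIn p (indFam 𝓦 G) ⊤ := hG
  have hsub : ∀ K : Subgroup G, K ≠ ⊤ → FamilyControlsTransferIn p (indFam 𝓦 G) K := by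
    intro K hK
    have hbot : (⊥ : Subgroup G).subgroupOf K = ⊥ := Subgroup.bot_subgroupOf _
    haveI : ((⊥ : Subgroup G).subgroupOf K).Normal := by rw [hbot]; infer_instance
    have h1 : FamilyControlsTransferIn p (indFam 𝓦 (↥K ⧸ (⊥ : Subgroup G).subgroupOf K)) ⊤ :=
      hsec K ⊥ (fun h => absurd h hK)
    have e : (↥K ⧸ (⊥ : Subgroup G).subgroupOf K) ≃* ↥K :=
      (QuotientGroup.quotientMulEquivOfEq hbot).trans QuotientGroup.quotientBot
    have h2 := fct_isoInv h𝓦 _ _ e h1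
    have h3 := fct_range h𝓦 K.subtype K.subtype_injective h2
    rwa [Subgroup.range_subtype] at h3
  have hquot : ∀ (N : Subgroup G) [N.Normal], N ≠ ⊥ →
      FamilyControlsTransferIn p (indFam 𝓦 (G ⧸ N)) ⊤ := by
    intro N hNn hN
    have h1 : FamilyControlsTransferIn p (indFam 𝓦 (↥(⊤ : Subgroup G) ⧸ N.subgroupOf ⊤)) ⊤ :=
      hsec ⊤ N (fun _ => hN)
    have e : (↥(⊤ : Subgroup G) ⧸ N.subgroupOf ⊤) ≃* G ⧸ N :=
      QuotientGroup.congr (N.subgroupOf ⊤) N Subgroup.topEquiv (by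
        ext x
        constructor
        · rintro ⟨y, hy, rfl⟩
          exact hy
        · intro hx
          exact ⟨⟨x, Subgroup.mem_top x⟩, hx, rfl⟩)
    exact fct_isoInv h𝓦 _ _ e h1
  have hmf : Engel.MinFail p 𝓦 G := ⟨h𝓦, hne, hsub, hquot, hfail⟩
  have hTeq : T = famD (indFam 𝓦 G) S := by
    rw [hT]
    unfold famD indFam derivedPart
    rw [iSup_image]
    simp only [top_inf_eq]
  rw [hTeq] at hM
  have hMtop := hmf.M_ne_top S
  have hle := hmf.le_M S
  rw [← hM] at hMtop hle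
  have hPS : pCore p G ≤ (S : Subgroup G) := pCore_le_sylow S
  have hSM : (S : Subgroup G) ≤ M := hle _ le_rfl (hmf.sylow_ne_top S)
  have hPn : (pCore p G).Normal := Cfsg.Agent.Helper33.pCore_normal p
  refine ⟨hmf.constr, ⟨hMtop, hle⟩, ⟨?_, ?_⟩, ?_⟩
  · exact le_inf (Subgroup.commutator_le_left _ _) (Subgroup.commutator_mono (hPS.trans hSM) le_rfl)
  · refine le_inf inf_le_left ?_
    rw [hTeq]
    intro z hz
    exact hmf.subT S M hMtop hSM (Subgroup.mem_inf.mpr ⟨hPS hz.1, hz.2⟩)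
  · intro u huS huP
    exact hmf.engel S u huS huP

end Cfsg.Agent.S1998
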