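import Cfsg.Statements.S2001
import Cfsg.Agent.Lib.Helper33.PairTransfer

set_option autoImplicit false
open Cfsg Cfsg.Agent.Helper33 Pointwise

namespace Cfsg.Agent.S2001

/-- Let p be a prime dividing the order of the finite group G, P a Sylow p-subgroup, W a conjugacy functor for p on G with Z(H) ≤ W(H) for every nontrivial p-subgroup H, and V a central functor: a conjugacy functor with V(H) ≤ Z(H), and V(H) ≤ V(K) whenever Z(H) ≤ Z(K), for nontrivial p-subgroups H, K. Say that W with V controls transfer in a subgroup L when some Sylow p-subgroup Q of L satisfies Q ∩ L' = (Q ∩ (N_L(W(Q)))')·(Q ∩ (C_L(V(Q)))') as a product of two subgroups. If W with V controls transfer in N_G(H) for every subgroup H with Z(P) ≤ H ≤ P, then W with V controls transfer in G. -/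
theorem result {G : Type*} [Group G] [Finite G] {p : ℕ} [Fact p.Prime] (hdiv : p ∣ Nat.card G) (P : Sylow p G) (W V : Subgroup G → Subgroup G) (hW : Cfsg.IsConjugacyFunctor p W) (hV : Cfsg.IsConjugacyFunctor p V) (hWZ : ∀ H : Subgroup G, IsPGroup p ↥H → H ⊓ Subgroup.centralizer ((H : Subgroup G) : Set G) ≤ W H) (hVZ : ∀ H : Subgroup G, IsPGroup p ↥H → V H ≤ H ⊓ Subgroup.centralizer ((H : Subgroup G) : Set G)) (hVmono : ∀ H K : Subgroup G, IsPGroup p ↥H → IsPGroup p ↥K → H ≠ ⊥ → K ≠ ⊥ → H ⊓ Subgroup.centralizer ((H : Subgroup G) : Set G) ≤ K ⊓ Subgroup.centralizer ((K : Subgroup G) : Set G) → V H ≤ V K) (hloc : ∀ H : Subgroup G, (P : Subgroup G) ⊓ Subgroup.centralizer (((P : Subgroup G) : Subgroup G) : Set G) ≤ H → H ≤ (P : Subgroup G) → ∃ Q : Subgroup G, Q ≤ Subgroup.normalizer ((H : Subgroup G) : Set G) ∧ IsPGroup p ↥Q ∧ ¬ p ∣ (Q).relIndex (Subgroup.normalizer ((H : Subgroup G) : Set G)) ∧ ∀ x : G, x ∈ Q ⊓ ⁅Subgroup.normalizer ((H : Subgroup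 G) : Set G), Subgroup.normalizer ((H : Subgroup G) : Set G)⁆ ↔ ∃ a ∈ Q ⊓ ⁅Subgroup.normalizer ((H : Subgroup G) : Set G) ⊓ Subgroup.normalizer ((W Q : Subgroup G) : Set G), Subgroup.normalizer ((H : Subgroup G) : Set G) ⊓ Subgroup.normalizer ((W Q : Subgroup G) : Set G)⁆, ∃ b ∈ Q ⊓ ⁅Subgroup.normalizer ((H : Subgroup G) : Set G) ⊓ Subgroup.centralizer ((V Q : Subgroup G) : Set G), Subgroup.normalizer ((H : Subgroup G) : Set G) ⊓ Subgroup.centralizer ((V Q : Subgroup G) : Set G)⁆, x = a * b) : ∃ Q : Subgroup G, IsPGroup p ↥Q ∧ ¬ p ∣ Q.index ∧ ∀ x : G, x ∈ Q ⊓ commutator G ↔ ∃ a ∈ Q ⊓ ⁅Subgroup.normalizer ((W Q : Subgroup G) : Set G), Subgroup.normalizer ((W Q : Subgroup G) : Set G)⁆, ∃ b ∈ Q ⊓ ⁅Subgroup.centralizer ((V Q : Subgroup G) : Set G), Subgroup.centralizer ((V Q : Subgroup G) : Set G)⁆, x = a * b := by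
  have hPne : (P : Subgroup G) ≠ ⊥ := P.ne_bot_of_dvd_card hdiv
  have hloc' : ∀ H : Subgroup G,
      (P : Subgroup G) ⊓ Subgroup.centralizer ((P : Subgroup G) : Set G) ≤ H →
      H ≤ (P : Subgroup G) → LocTr p W V (Subgroup.normalizer (H : Set G)) := by
    intro H hZ hH
    obtain ⟨Q, h1, h2, h3, h4⟩ := hloc H hZ hH
    refine ⟨Q, ⟨h1, h2, h3⟩, ?_⟩
    intro x hx
    obtain ⟨a, ha, b, hb, rfl⟩ := (h4 x).mp hx
    exact Subgroup.mul_mem_sup ha hb
  have hglob := pair_transfer_global hW hV hWZ hVmono P hPne hloc'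
  have hLE : derivedPart W ⊤ (P : Subgroup G) ≤
      Subgroup.normalizer ((derivedPartC V ⊤ (P : Subgroup G) : Subgroup G) : Set G) := by
    intro g hg
    have hgP : g ∈ (P : Subgroup G) := (Subgroup.mem_inf.mp hg).1
    rw [mem_normalizer_iff_smul_eq, derivedPartC_conj hV P.isPGroup' (Subgroup.mem_top g),
      conj_smul_eq_self_of_mem hgP]
  have hAB := Subgroup.coe_mul_of_left_le_normalizer_right _ _ hLE
  refine ⟨P, P.isPGroup', P.not_dvd_index, ?_⟩
  intro x
  constructor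
  · intro hx
    have hx' : x ∈ pairD W V P := hglob (by rwa [commutator_def] at hx)
    have hx'' : x ∈ ((derivedPart W ⊤ (P : Subgroup G) ⊔ derivedPartC V ⊤ (P : Subgroup G) :
        Subgroup G) : Set G) := hx'
    rw [hAB] at hx''
    obtain ⟨a, ha, b, hb, rfl⟩ := hx''
    refine ⟨a, ?_, b, ?_, rfl⟩
    · have : a ∈ derivedPart W ⊤ (P : Subgroup G) := ha
      unfold derivedPart at this
      rwa [top_inf_eq] at this
    · have : b ∈ derivedPartC V ⊤ (P : Subgroup G) := hb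
      unfold derivedPartC at this
      rwa [top_inf_eq] at this
  · rintro ⟨a, ha, b, hb, rfl⟩
    have h1 : ∀ K : Subgroup G, (P : Subgroup G) ⊓ ⁅K, K⁆ ≤ (P : Subgroup G) ⊓ commutator G := by
      intro K
      rw [commutator_def]
      exact inf_le_inf_left _ (Subgroup.commutator_mono le_top le_top)
    exact mul_mem (h1 _ ha) (h1 _ hb)

end Cfsg.Agent.S2001
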