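import Cfsg.Statements.S2008


set_option autoImplicit false
open Cfsg

namespace Cfsg.Agent.S2008

theorem exists_ne_ne {H : Type*} [Group H] (E : Subgroup H) (hE : Nat.card E = 4) (z : H) :
    ∃ e ∈ E, e ≠ 1 ∧ e ≠ z := by
  by_contra h
  push Not at h
  have hsub : (E : Set H) ⊆ {1, z} := by
    intro e he
    by_cases h1 : e = 1
    · simp [h1]
    · simp [h e he h1]
  have h1 : (E : Set H).ncard ≤ ({1, z} : Set H).ncard := Set.ncard_le_ncard hsub (Set.toFinite _)
  have h2 : ({1, z} : Set H).ncard ≤ 2 := (Set.ncard_insert_le _ _).trans (by simp)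
  have h3 : Nat.card E = (E : Set H).ncard := rfl
  omega

/-- Let H be a finite group and z an involution such that every proper normal subgroup of H meets the centralizer of z trivially, and suppose z lies in a Klein four-subgroup E of H all three of whose involutions are conjugate to z in H. Then H has no non-trivial abelian normal subgroup. -/
theorem result {H : Type*} [Group H] [Finite H] (z : H) (hz : orderOf z = 2) (hN : ∀ N : Subgroup H, N.Normal → N ≠ ⊤ → N ⊓ Subgroup.centralizer ({z} : Set H) = ⊥) (E : Subgroup H) (hE : IsKleinFour ↥E) (hzE : z ∈ E) (hc : ∀ e ∈ E, e ≠ 1 → IsConj z e) (N : Subgroup H) [N.Normal] (hab : IsMulCommutative ↥N) : N = ⊥ := by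
  classical
  have hexp : ∀ e ∈ E, e * e = 1 := by
    intro e he
    have h := Monoid.pow_exponent_eq_one (⟨e, he⟩ : E)
    rw [hE.exponent_two] at h
    have h' := congrArg Subtype.val h
    simpa [pow_two] using h'
  obtain ⟨e, heE, he1, hez⟩ := exists_ne_ne E hE.card_four z
  have hz1 : z ≠ 1 := by
    rintro rfl
    simp at hz
  by_cases hNtop : N = ⊤
  · exfalso
    have hcomm : ∀ a b : H, a * b = b * a := by
      intro a b
      have := hab.is_comm.comm ⟨a, by rw [hNtop]; trivial⟩ ⟨b, by rw [hNtop]; trivial⟩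
      exact congrArg Subtype.val this
    obtain ⟨c, hc'⟩ := isConj_iff.mp (hc e heE he1)
    apply hez
    rw [← hc', hcomm c z]
    group
  · have hfix : ∀ e ∈ E, e ≠ 1 → ∀ n ∈ N, e * n * e⁻¹ = n⁻¹ := by
      intro e heE he1 n hn
      obtain ⟨c, hc'⟩ := isConj_iff.mp (hc e heE he1)
      have hee := hexp e heE
      have hinv : e⁻¹ = e := inv_eq_of_mul_eq_one_left hee
      have hmem : e * n * e⁻¹ ∈ N := ‹N.Normal›.conj_mem n hn e
      have hcomm : n * (e * n * e⁻¹) = (e * n * e⁻¹) * n := by
        have := hab.is_comm.comm ⟨n, hn⟩ ⟨_, hmem⟩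
        exact congrArg Subtype.val this
      obtain ⟨x, hx⟩ : ∃ x, x = n * (e * n * e⁻¹) := ⟨_, rfl⟩
      have hxN : x ∈ N := hx ▸ mul_mem hn hmem
      have hxe : e * x * e⁻¹ = x := by
        rw [hx]
        nth_rewrite 2 [hcomm]
        rw [hinv]
        calc e * (n * (e * n * e)) * e = e * n * e * n * (e * e) := by group
          _ = e * n * e * n := by rw [hee, mul_one]
      have hy : c⁻¹ * x * c ∈ N ⊓ Subgroup.centralizer ({z} : Set H) := by
        refine ⟨by simpa using ‹N.Normal›.conj_mem x hxN c⁻¹, ?_⟩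
        show _ ∈ Subgroup.centralizer _
        rw [Subgroup.mem_centralizer_singleton_iff]
        have : e = c * z * c⁻¹ := hc'.symm
        rw [this] at hxe
        calc c⁻¹ * x * c * z = c⁻¹ * x * (c * z * c⁻¹) * c := by group
          _ = c⁻¹ * ((c * z * c⁻¹) * x * (c * z * c⁻¹)⁻¹) * (c * z * c⁻¹) * c := by rw [hxe]
          _ = z * (c⁻¹ * x * c) := by group
      rw [hN N inferInstance hNtop, Subgroup.mem_bot] at hy
      have hx1 : x = 1 := by
        have : x = c * (c⁻¹ * x * c) * c⁻¹ := by group
        rw [this, hy]; group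
      rw [hx] at hx1
      exact eq_inv_of_mul_eq_one_right hx1
    rw [Subgroup.eq_bot_iff_forall]
    intro n hn
    have h1 := hfix z hzE hz1 n hn
    have h2 := hfix e heE he1 n hn
    have hze : z * e ∈ E := mul_mem hzE heE
    have hze1 : z * e ≠ 1 := by
      intro h
      apply hez
      have hzz := hexp z hzE
      have : e = z⁻¹ := eq_inv_of_mul_eq_one_right h
      rw [this]; exact inv_eq_of_mul_eq_one_left hzz
    have h3 := hfix (z * e) hze hze1 n hn
    have h4 : z * e * n * (z * e)⁻¹ = n := by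
      calc z * e * n * (z * e)⁻¹ = z * (e * n * e⁻¹) * z⁻¹ := by group
        _ = z * n⁻¹ * z⁻¹ := by rw [h2]
        _ = (z * n * z⁻¹)⁻¹ := by group
        _ = n := by rw [h1, inv_inv]
    have h5 : n = n⁻¹ := h4.symm.trans h3
    have h6 : n ∈ N ⊓ Subgroup.centralizer ({z} : Set H) := by
      refine ⟨hn, ?_⟩
      show _ ∈ Subgroup.centralizer _
      rw [Subgroup.mem_centralizer_singleton_iff]
      have : z * n * z⁻¹ = n := by rw [h1]; exact h5.symm
      calc n * z = (z * n * z⁻¹) * z := by rw [this]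
        _ = z * n := by group
    rw [hN N inferInstance hNtop, Subgroup.mem_bot] at h6
    exact h6

end Cfsg.Agent.S2008
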