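import Cfsg.Statements.S2009
import Cfsg.Agent.S2008

set_option autoImplicit false
open Cfsg

namespace Cfsg.Agent.S2009

/-- Let H be a finite group and z an involution such that every proper normal subgroup of H meets the centralizer of z trivially, and suppose z lies in a Klein four-subgroup E of H all three of whose involutions are conjugate to z in H. Then H is simple. -/
theorem result {H : Type*} [Group H] [Finite H] (z : H) (hz : orderOf z = 2) (hN : ∀ N : Subgroup H, N.Normal → N ≠ ⊤ → N ⊓ Subgroup.centralizer ({z} : Set H) = ⊥) (E : Subgroup H) (hE : IsKleinFour ↥E) (hzE : z ∈ E) (hc : ∀ e ∈ E, e ≠ 1 → IsConj z e) : IsSimpleGroup H := by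
  classical
  have hz1 : z ≠ 1 := by
    rintro rfl
    simp at hz
  have hzz : z * z = 1 := by
    have := pow_orderOf_eq_one z
    rwa [hz, pow_two] at this
  have hzinv : z⁻¹ = z := inv_eq_of_mul_eq_one_left hzz
  have : Nontrivial H := ⟨⟨z, 1, hz1⟩⟩
  refine ⟨fun N hNn => ?_⟩
  by_cases hNtop : N = ⊤
  · exact Or.inr hNtop
  left
  have hNz := hN N hNn hNtop
  -- z inverts N
  have hinj : Function.Injective (fun n : N => (⟨(n : H)⁻¹ * (z * n * z⁻¹),
      mul_mem (inv_mem n.2) (hNn.conj_mem n n.2 z)⟩ : N)) := by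
    intro n m hnm
    have h := congrArg Subtype.val hnm
    simp only at h
    have hmem : (m : H) * (n : H)⁻¹ ∈ N ⊓ Subgroup.centralizer ({z} : Set H) := by
      refine Subgroup.mem_inf.mpr ⟨mul_mem m.2 (inv_mem n.2), ?_⟩
      rw [Subgroup.mem_centralizer_singleton_iff]
      symm
      have h' : (m : H) * (n : H)⁻¹ = z * m * z⁻¹ * (z * n * z⁻¹)⁻¹ := by
        have e1 : z * ↑n * z⁻¹ = ↑n * ((↑m)⁻¹ * (z * ↑m * z⁻¹)) := by rw [← h]; group
        rw [e1]; group
      calc z * ((m : H) * (n : H)⁻¹) = (z * m * z⁻¹ * (z * n * z⁻¹)⁻¹) * z := by group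
        _ = (m : H) * (n : H)⁻¹ * z := by rw [← h']
    rw [hNz, Subgroup.mem_bot] at hmem
    have : (m : H) = n := by
      have := mul_inv_eq_one.mp hmem
      exact this
    exact Subtype.ext this.symm
  have hsurj := Finite.surjective_of_injective hinj
  have hinv : ∀ x ∈ N, z * x * z⁻¹ = x⁻¹ := by
    intro x hx
    obtain ⟨n, hn⟩ := hsurj ⟨x, hx⟩
    have h := congrArg Subtype.val hn
    simp only at h
    rw [← h, hzinv]
    have e1 : z * ((n : H)⁻¹ * (z * ↑n * z)) * z = z * (n : H)⁻¹ * z * n * (z * z) := by group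
    have e2 : ((n : H)⁻¹ * (z * ↑n * z))⁻¹ = z⁻¹ * (n : H)⁻¹ * z⁻¹ * n := by group
    rw [e1, e2, hzz, hzinv, mul_one]
  have hab : IsMulCommutative ↥N := by
    refine ⟨⟨fun a b => ?_⟩⟩
    apply Subtype.ext
    show (a : H) * b = b * a
    have h1 := hinv _ (mul_mem a.2 b.2)
    have h2 := hinv _ a.2
    have h3 := hinv _ b.2
    have h4 : z * ((a : H) * b) * z⁻¹ = (z * a * z⁻¹) * (z * b * z⁻¹) := by group
    rw [h4, h2, h3] at h1
    have h5 : ((a : H)⁻¹ * (b : H)⁻¹)⁻¹ = (((a : H) * b)⁻¹)⁻¹ := by rw [h1]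
    rw [inv_inv] at h5
    rw [← h5]; group
  have := hNn
  exact Cfsg.Agent.S2008.result z hz hN E hE hzE hc N hab

end Cfsg.Agent.S2009
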