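import Cfsg.Statements.S2015
import Cfsg.Agent.S1984
import Cfsg.Agent.Lib.Helper33.TransferControl
import Cfsg.Agent.Lib.Helper33.SecFusionA

set_option autoImplicit false
universe u
open Cfsg

namespace Cfsg.Agent.S2015

/-- For p ≥ 5, every finite p-group P has a characteristic subgroup K containing Z(P), depending only on P, whose normalizer controls transfer wherever P is a Sylow subgroup: for every finite group G and every embedding ι of P onto a Sylow p-subgroup of G, the intersection of ι(P) with the derived subgroup of G equals its intersection with the derived subgroup of N_G(ι(K)). -/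
theorem result (p : ℕ) [Fact p.Prime] (hp : 5 ≤ p) (P : Type u) [Group P] [Finite P] (hP : IsPGroup p P) : ∃ K : Subgroup P, K.Characteristic ∧ Subgroup.center P ≤ K ∧ ∀ (G : Type u) [Group G] [Finite G] (ι : P →* G), Function.Injective ι → (∃ T : Sylow p G, (T : Subgroup G) = ι.range) → ι.range ⊓ commutator G = ι.range ⊓ (commutator ↥(Subgroup.normalizer ((K.map ι : Subgroup G) : Set G))).map (Subgroup.normalizer ((K.map ι : Subgroup G) : Set G)).subtype := by
  refine ⟨Cfsg.kInfLower P, (Cfsg.Agent.Helper54.KInf.kInf_characteristic P).1,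
    (Cfsg.Agent.Helper54.KInf.center_le_kInf hP).1, ?_⟩
  intro G _ _ ι hinj hT
  obtain ⟨T, hT⟩ := hT
  have hW : Cfsg.IsCharPFunctor.{u} p Cfsg.kInfLower :=
    Cfsg.Agent.Helper54.KInf.isCharPFunctor_kInfLower p
  have hW' := Cfsg.Agent.Helper33.isConjugacyFunctor_indF hW G
  have h := Cfsg.Agent.S1984.result (G := G) (p := p) hp
  have hsyl : Cfsg.Agent.Helper33.IsSylIn p ι.range (⊤ : Subgroup G) := by
    refine ⟨le_top, ?_, ?_⟩
    · rw [← hT]; exact T.isPGroup'
    · rw [Subgroup.relIndex_top_right, ← hT]
      exact T.not_dvd_index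
  have key := Cfsg.Agent.Helper33.controlsTransferIn_at hW' h hsyl
  unfold Cfsg.Agent.Helper33.derivedPart at key
  rw [top_inf_eq] at key
  -- identify `W ι.range` with `K.map ι`
  have hWι : Cfsg.inducedFunctor (G := G) Cfsg.kInfLower ι.range = (Cfsg.kInfLower P).map ι := by
    unfold Cfsg.inducedFunctor
    have e := hW.2 P ↥ι.range hP (MonoidHom.ofInjective hinj)
    rw [← e, Subgroup.map_map]
    congr 1
  rw [hWι] at key
  rw [commutator_def, key, Subgroup.map_subtype_commutator]

end Cfsg.Agent.S2015
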