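import Mathlib
import Cfsg.Statements.S2034
import Cfsg.Agent.Lib.Helper65.TabMeta
import Cfsg.Agent.Lib.Helper65.SylowMult2
import Cfsg.Agent.Lib.Helper91.M11Sylow
-- import your own Cfsg.Agent.* helpers here

set_option autoImplicit false
open Cfsg

namespace Cfsg.Agent.S2034

open Cfsg.Agent.Helper7 Cfsg.Agent.Helper91 Cfsg.Agent.Helper65

/-- a subgroup `3 × S₃` of order 18 containing a Sylow 3-subgroup -/
def q18 : List (List ℕ) := [[0, 1, 2, 3, 4, 5, 6, 7, 8, 9, 10, 11, 12, 13, 14, 15, 16, 17, 18, 19, 20, 21, 22, 23],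
  [0, 1, 4, 3, 12, 20, 8, 7, 13, 18, 10, 22, 2, 6, 19, 14, 9, 11, 16, 15, 21, 5, 17, 23],
  [0, 1, 6, 3, 8, 20, 9, 10, 18, 2, 23, 11, 13, 16, 15, 19, 12, 17, 4, 14, 21, 5, 22, 7],
  [0, 1, 8, 3, 13, 21, 18, 10, 16, 4, 23, 22, 6, 9, 14, 15, 2, 11, 12, 19, 5, 20, 17, 7],
  [0, 1, 9, 3, 18, 21, 2, 23, 4, 6, 7, 11, 16, 12, 19, 14, 13, 17, 8, 15, 5, 20, 22, 10],
  [0, 1, 12, 3, 2, 21, 13, 7, 6, 16, 10, 17, 4, 8, 15, 19, 18, 22, 9, 14, 5, 20, 11, 23],
  [0, 1, 13, 3, 6, 5, 16, 10, 9, 12, 23, 17, 8, 18, 19, 14, 4, 22, 2, 15, 20, 21, 11, 7],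
  [0, 1, 16, 3, 9, 20, 12, 23, 2, 13, 7, 17, 18, 4, 14, 15, 8, 22, 6, 19, 21, 5, 11, 10],
  [0, 1, 18, 3, 16, 5, 4, 23, 12, 8, 7, 22, 9, 2, 15, 19, 6, 11, 13, 14, 20, 21, 17, 10],
  [0, 3, 2, 1, 12, 17, 13, 7, 8, 18, 10, 21, 4, 6, 14, 19, 16, 5, 9, 15, 22, 11, 20, 23],
  [0, 3, 4, 1, 2, 11, 6, 7, 13, 16, 10, 5, 12, 8, 19, 15, 9, 20, 18, 14, 17, 22, 21, 23],
  [0, 3, 6, 1, 13, 17, 16, 10, 18, 4, 23, 5, 8, 9, 15, 14, 12, 20, 2, 19, 22, 11, 21, 7],
  [0, 3, 8, 1, 6, 11, 9, 10, 16, 12, 23, 20, 13, 18, 14, 19, 2, 21, 4, 15, 17, 22, 5, 7],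
  [0, 3, 9, 1, 16, 17, 12, 23, 4, 8, 7, 20, 18, 2, 19, 15, 13, 21, 6, 14, 22, 11, 5, 10],
  [0, 3, 12, 1, 4, 22, 8, 7, 6, 9, 10, 20, 2, 13, 15, 14, 18, 21, 16, 19, 11, 17, 5, 23],
  [0, 3, 13, 1, 8, 22, 18, 10, 9, 2, 23, 21, 6, 16, 19, 15, 4, 5, 12, 14, 11, 17, 20, 7],
  [0, 3, 16, 1, 18, 22, 4, 23, 2, 6, 7, 5, 9, 12, 14, 19, 8, 20, 13, 15, 11, 17, 21, 10],
  [0, 3, 18, 1, 9, 11, 2, 23, 12, 13, 7, 21, 16, 4, 15, 14, 6, 5, 8, 19, 17, 22, 20, 10]]

/-- generators of the semidihedral Sylow 2-subgroup: `a2` of order 8, `b2` an involution -/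
def a2 : List ℕ := [0, 2, 12, 8, 16, 20, 9, 5, 1, 6, 17, 10, 4, 13, 21, 11, 18, 15, 3, 23, 14, 22, 19, 7]
def b2 : List ℕ := [0, 1, 4, 12, 2, 14, 9, 7, 18, 6, 10, 17, 3, 13, 5, 15, 16, 11, 8, 20, 19, 21, 23, 22]
/-- generators of `q18`: `a3` of order 3, `b3` of order 6 inverting `a3` -/
def a3 : List ℕ := [0, 1, 4, 3, 12, 20, 8, 7, 13, 18, 10, 22, 2, 6, 19, 14, 9, 11, 16, 15, 21, 5, 17, 23]
def b3 : List ℕ := [0, 3, 13, 1, 8, 22, 18, 10, 9, 2, 23, 21, 6, 16, 19, 15, 4, 5, 12, 14, 11, 17, 20, 7]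

theorem q18_ok : q18.all m11TabOK = true := by decide +kernel

theorem q18_mul : ∀ l1 ∈ q18, ∀ l2 ∈ q18, mulTab l1 l2 ∈ q18 := by decide +kernel

theorem q18_nodup : q18.Nodup := by decide +kernel

theorem syl2_all : ∀ l ∈ m11Syl2, ∃ i < 8, ∃ j < 2,
    l = mulTab (TabMeta.powTab a2 i) (TabMeta.powTab b2 j) := by decide +kernel

theorem q18_all : ∀ l ∈ q18, ∃ i < 3, ∃ j < 6,
    l = mulTab (TabMeta.powTab a3 i) (TabMeta.powTab b3 j) := by decide +kernel

/-- the semidihedral Sylow 2-subgroup has trivial multiplier -/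
theorem syl2_trivial : Cfsg.HasCyclicSchurMultiplier
    ↥(tabSubgroup Spor.M11 m11Syl2 (goodTabs_M11_of_ok m11Syl2_ok) (by decide) m11Syl2_mul) 1 :=
  TabMeta.trivial_mult_tabSubgroup (goodTabs_M11_of_ok m11Syl2_ok) (by decide) m11Syl2_mul
    m11Syl2_nodup a2 b2 (by decide) (by decide) 8 2 3 (by norm_num) (by norm_num) (by norm_num)
    (by decide) (by decide) (by decide +kernel) (by decide +kernel) (by decide +kernel) syl2_all
    (by decide)

/-- the subgroup `3 × S₃` has trivial multiplier -/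
theorem q18_trivial : Cfsg.HasCyclicSchurMultiplier
    ↥(tabSubgroup Spor.M11 q18 (goodTabs_M11_of_ok q18_ok) (by decide) q18_mul) 1 :=
  TabMeta.trivial_mult_tabSubgroup (goodTabs_M11_of_ok q18_ok) (by decide) q18_mul
    q18_nodup a3 b3 (by decide) (by decide) 3 6 2 (by norm_num) (by norm_num) (by norm_num)
    (by decide) (by decide) (by decide +kernel) (by decide +kernel) (by decide +kernel) q18_all
    (by decide)

theorem sylow_card_prime {G : Type*} [Group G] [Finite G] (r : ℕ) [Fact r.Prime] (M : ℕ)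
    (hc : Nat.card G = r * M) (hM : ¬ r ∣ M) (P : Sylow r G) : Nat.card P = r := by
  have hr : r.Prime := Fact.out
  have hM0 : M ≠ 0 := fun h => hM (h ▸ dvd_zero r)
  rw [Sylow.card_eq_multiplicity, hc, Nat.factorization_mul hr.ne_zero hM0, Finsupp.add_apply,
    hr.factorization_self, Nat.factorization_eq_zero_of_not_dvd hM, add_zero, pow_one]

theorem trivial_of_sylow_prime {G : Type*} [Group G] [Finite G] (r : ℕ) [Fact r.Prime] (M : ℕ)
    (hc : Nat.card G = r * M) (hM : ¬ r ∣ M) :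
    ∃ Q : Subgroup G, ¬ r ∣ Q.index ∧ Cfsg.HasCyclicSchurMultiplier Q 1 := by
  obtain ⟨P⟩ := (inferInstance : Nonempty (Sylow r G))
  refine ⟨P, P.not_dvd_index, ?_⟩
  have hcard := sylow_card_prime r M hc hM P
  have : IsCyclic (P : Subgroup G) := isCyclic_of_prime_card hcard
  exact trivial_mult_of_isCyclic' _

/-- The Schur multiplier of the Mathieu group M₁₁ (the stabiliser of a dodecad and one of its points in the automorphism group of the length-24 binary code) is trivial; here the Schur multiplier is described through stem extensions, as in the definitions: surjective homomorphisms onto the group from a finite group, whose kernel is central in that finite group and contained in that finite group's commutator subgroup. -/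
theorem result : Cfsg.HasCyclicSchurMultiplier ↥Cfsg.Spor.M11 1 := by
  have hfin : Finite ↥Spor.M11 := inferInstance
  apply trivial_mult_of_sylow
  intro r hr hrG
  rw [card_M11] at hrG
  have hcases : r = 2 ∨ r = 3 ∨ r = 5 ∨ r = 11 := by
    have h : (7920 : ℕ) = 2 ^ 4 * 3 ^ 2 * 5 * 11 := by norm_num
    rw [h] at hrG
    rcases (Nat.Prime.dvd_mul hr).1 hrG with h1 | h1
    · rcases (Nat.Prime.dvd_mul hr).1 h1 with h2 | h2
      · rcases (Nat.Prime.dvd_mul hr).1 h2 with h3 | h3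
        · left
          exact (Nat.prime_dvd_prime_iff_eq hr Nat.prime_two).1 (hr.dvd_of_dvd_pow h3)
        · right; left
          exact (Nat.prime_dvd_prime_iff_eq hr Nat.prime_three).1 (hr.dvd_of_dvd_pow h3)
      · right; right; left
        exact (Nat.prime_dvd_prime_iff_eq hr Nat.prime_five).1 h2
    · right; right; right
      exact (Nat.prime_dvd_prime_iff_eq hr (by norm_num)).1 h1
  rcases hcases with rfl | rfl | rfl | rfl
  · refine ⟨_, ?_, syl2_trivial⟩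
    have h1 := Subgroup.card_mul_index
      (tabSubgroup Spor.M11 m11Syl2 (goodTabs_M11_of_ok m11Syl2_ok) (by decide) m11Syl2_mul)
    rw [card_tabSubgroup _ _ _ m11Syl2_nodup, card_M11] at h1
    have h2 : m11Syl2.length = 16 := by decide
    rw [h2] at h1
    omega
  · refine ⟨_, ?_, q18_trivial⟩
    have h1 := Subgroup.card_mul_index
      (tabSubgroup Spor.M11 q18 (goodTabs_M11_of_ok q18_ok) (by decide) q18_mul)
    rw [card_tabSubgroup _ _ _ q18_nodup, card_M11] at h1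
    have h2 : q18.length = 18 := by decide
    rw [h2] at h1
    omega
  · have : Fact (Nat.Prime 5) := ⟨hr⟩
    exact trivial_of_sylow_prime 5 1584 (by rw [card_M11]) (by norm_num)
  · have : Fact (Nat.Prime 11) := ⟨hr⟩
    exact trivial_of_sylow_prime 11 720 (by rw [card_M11]) (by norm_num)

end Cfsg.Agent.S2034
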