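import Mathlib
import Cfsg.Statements.S2035
import Cfsg.Agent.Lib.Helper92.M12Mult
import Cfsg.Agent.Lib.Helper26.M12MultB
import Cfsg.Agent.Lib.Helper27.M12Cover
import Cfsg.Agent.Lib.Helper49.M12MultC
import Cfsg.Agent.Lib.Helper42.M12MultD
-- import your own Cfsg.Agent.* helpers here

set_option autoImplicit false
open Cfsg

namespace Cfsg.Agent.S2035

open Cfsg.Agent.Helper92.M12Mult Cfsg.Agent.Helper92.Mult
open Cfsg.Agent.Helper88.M12Data (card_M12)

/-- primes other than `2` and `3` divide the order of `M12` at most once -/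
theorem factorization_le_one (p : ℕ) (hp : p.Prime) (hp2 : p ≠ 2) (hp3 : p ≠ 3) :
    (Nat.card ↥Cfsg.Spor.M12).factorization p ≤ 1 := by
  rw [card_M12]
  by_contra h
  rw [not_le] at h
  have hdvd : p ^ 2 ∣ 95040 :=
    (hp.pow_dvd_iff_le_factorization (by norm_num)).2 h
  have hpd : p ∣ 95040 := (dvd_pow_self p (by norm_num)).trans hdvd
  have hcases : p = 2 ∨ p = 3 ∨ p = 5 ∨ p = 11 := by
    have h0 : (95040 : ℕ) = 2 ^ 6 * 3 ^ 3 * 5 * 11 := by norm_num
    rw [h0] at hpd
    rcases (Nat.Prime.dvd_mul hp).1 hpd with h1 | h1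
    · rcases (Nat.Prime.dvd_mul hp).1 h1 with h2 | h2
      · rcases (Nat.Prime.dvd_mul hp).1 h2 with h3 | h3
        · left
          exact (Nat.prime_dvd_prime_iff_eq hp Nat.prime_two).1 (hp.dvd_of_dvd_pow h3)
        · right; left
          exact (Nat.prime_dvd_prime_iff_eq hp Nat.prime_three).1 (hp.dvd_of_dvd_pow h3)
      · right; right; left
        exact (Nat.prime_dvd_prime_iff_eq hp Nat.prime_five).1 h2
    · right; right; right
      exact (Nat.prime_dvd_prime_iff_eq hp (by norm_num)).1 h1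
  rcases hcases with rfl | rfl | rfl | rfl
  · exact hp2 rfl
  · exact hp3 rfl
  · revert hdvd; norm_num
  · revert hdvd; norm_num

/-- no finite stem extension of `M12` has a kernel of odd prime order -/
theorem no_odd_prime_cover (Γ : Type) [Group Γ] [Finite Γ] (σ : Γ →* ↥Cfsg.Spor.M12) (z : Γ)
    (p : ℕ) (hp : p.Prime) (hp2 : p ≠ 2) (hsurj : Function.Surjective σ)
    (hker : σ.ker = Subgroup.zpowers z) (hord : orderOf z = p) (hzc : ∀ g : Γ, g * z = z * g)
    (hzcomm : z ∈ commutator Γ) : False := by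
  by_cases hp3 : p = 3
  · subst hp3
    exact no_triple_cover_M12 Γ σ z hsurj hker hord hzc hzcomm
  exact false_of_small_sylow σ z p hp hsurj hker hord hzc hzcomm
    (factorization_le_one p hp hp2 hp3)

/-- in a stem double cover of `M12` the fixed-point-free involutions lift to elements of order
four -/
theorem liftSq_TA (Γ : Type) [Group Γ] [Finite Γ] (σ : Γ →* ↥Cfsg.Spor.M12) (z : Γ)
    (h : Ext2 σ z) (hz : z ∈ commutator Γ) : LiftSq σ TA.g z := by
  rcases liftSq_cases h TA.g ta_sq with hA | hA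
  · exfalso
    have hB := liftSq_TB h
    exact Cfsg.Agent.Helper26.M12Mult.no_double_cover_4sq h hz S2 A.g B.g N.g S.g a_mem b_mem n_mem s_mem hgen2 hidx2 hsab hind
      (liftSq_of_conj h (Or.inl rfl) hB (conj_of_ok TB c_n N rfl))
      (liftSq_of_conj h (Or.inl rfl) hB (conj_of_ok TB c_na (N.mul A) rfl))
      (liftSq_of_conj h (Or.inl rfl) hB (conj_of_ok TB c_nb (N.mul B) rfl))
      (liftSq_of_conj h (Or.inl rfl) hA (conj_of_ok TA c_nab ((N.mul A).mul B) rfl))
      (liftSq_of_conj h (Or.inl rfl) hB (conj_of_ok TB c_aa (A.mul A) rfl))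
      (liftSq_of_conj h (Or.inl rfl) hB (conj_of_ok TB c_bb (B.mul B) rfl))
      (liftSq_of_conj h (Or.inl rfl) hA (conj_of_ok TA c_s S rfl))
      (liftSq_of_conj h (Or.inl rfl) hA (conj_of_ok TA c_sn (S.mul N) rfl))
  · exact hA

/-- no finite stem extension of `M12` has a kernel of order four -/
theorem no_four_cover (Γ : Type) [Group Γ] [Finite Γ] (σ : Γ →* ↥Cfsg.Spor.M12)
    (hσ : Cfsg.IsStemExtension σ) (hcard : Nat.card σ.ker = 4) : False := by
  refine Cfsg.Agent.Helper42.M12Mult.false_of_card_ker_four T1.g T2.g t1_sq t2_sq t12_comm ?_ Γ σ hσ hcard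
  intro Γ' _ _ σ' z' h' hz'
  have hA := liftSq_TA Γ' σ' z' h' hz'
  exact ⟨liftSq_of_conj h' (Or.inr rfl) hA (conj_of_ok TA c_t1 T1 rfl),
    liftSq_of_conj h' (Or.inr rfl) hA (conj_of_ok TA c_t2 T2 rfl),
    liftSq_of_conj h' (Or.inr rfl) hA (conj_of_ok TA c_t12 (T1.mul T2) rfl)⟩

/-- The Schur multiplier of the Mathieu group M₁₂ (the stabiliser of a dodecad in the automorphism group of the length-24 binary code) is cyclic of order 2; here the Schur multiplier is described through stem extensions, as in the definitions: surjective homomorphisms onto the group from a finite group, whose kernel is central in that finite group and contained in that finite group's commutator subgroup. -/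
theorem result : Cfsg.HasCyclicSchurMultiplier ↥Cfsg.Spor.M12 2 :=
  ⟨Cfsg.Agent.Helper27.M12Cover.exists_double_cover_M12,
    Cfsg.Agent.Helper49.M12Mult.exists_surj_zmod_two no_odd_prime_cover no_four_cover⟩

end Cfsg.Agent.S2035
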