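import Mathlib
import Cfsg.Statements.S2038
import Cfsg.Agent.Lib.Helper92.M24Mult3
-- import your own Cfsg.Agent.* helpers here

set_option autoImplicit false
open Cfsg

namespace Cfsg.Agent.S2038

open Cfsg.Agent.Helper7 Cfsg.Agent.Helper65
open Cfsg.Agent.Helper92.M24Mult Cfsg.Agent.Helper92.Mult

/-- primes other than `2` and `3` divide the order of `M24` at most once -/
theorem factorization_le_one (p : ℕ) (hp : p.Prime) (hp2 : p ≠ 2) (hp3 : p ≠ 3) :
    (Nat.card ↥Cfsg.M24).factorization p ≤ 1 := by
  rw [card_M24]
  by_contra h
  rw [not_le] at h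
  have hdvd : p ^ 2 ∣ 244823040 :=
    (hp.pow_dvd_iff_le_factorization (by norm_num)).2 h
  have hpd : p ∣ 244823040 := (dvd_pow_self p (by norm_num)).trans hdvd
  have hcases : p = 2 ∨ p = 3 ∨ p = 5 ∨ p = 7 ∨ p = 11 ∨ p = 23 := by
    have h0 : (244823040 : ℕ) = 2 ^ 10 * 3 ^ 3 * 5 * 7 * 11 * 23 := by norm_num
    rw [h0] at hpd
    rcases (Nat.Prime.dvd_mul hp).1 hpd with h1 | h1
    · rcases (Nat.Prime.dvd_mul hp).1 h1 with h2 | h2
      · rcases (Nat.Prime.dvd_mul hp).1 h2 with h3 | h3
        · rcases (Nat.Prime.dvd_mul hp).1 h3 with h4 | h4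
          · rcases (Nat.Prime.dvd_mul hp).1 h4 with h5 | h5
            · left
              exact (Nat.prime_dvd_prime_iff_eq hp Nat.prime_two).1 (hp.dvd_of_dvd_pow h5)
            · right; left
              exact (Nat.prime_dvd_prime_iff_eq hp Nat.prime_three).1 (hp.dvd_of_dvd_pow h5)
          · right; right; left
            exact (Nat.prime_dvd_prime_iff_eq hp Nat.prime_five).1 h4
        · right; right; right; left
          exact (Nat.prime_dvd_prime_iff_eq hp (by norm_num)).1 h3
      · right; right; right; right; left
        exact (Nat.prime_dvd_prime_iff_eq hp (by norm_num)).1 h2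
    · right; right; right; right; right
      exact (Nat.prime_dvd_prime_iff_eq hp (by norm_num)).1 h1
  rcases hcases with rfl | rfl | rfl | rfl | rfl | rfl
  · exact hp2 rfl
  · exact hp3 rfl
  · revert hdvd; norm_num
  · revert hdvd; norm_num
  · revert hdvd; norm_num
  · revert hdvd; norm_num

/-- no finite stem extension of `M24` has a kernel of prime order -/
theorem no_prime_cover (Γ : Type) [Group Γ] [Finite Γ] (σ : Γ →* ↥Cfsg.M24) (z : Γ) (p : ℕ)
    (hp : p.Prime) (hsurj : Function.Surjective σ) (hker : σ.ker = Subgroup.zpowers z)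
    (hord : orderOf z = p) (hzc : ∀ g : Γ, g * z = z * g) (hzcomm : z ∈ commutator Γ) :
    False := by
  by_cases hp2 : p = 2
  · subst hp2
    exact no_double_cover_M24 Γ σ z (ext2_of_ker σ z hsurj hker hord hzc) hzcomm
  by_cases hp3 : p = 3
  · subst hp3
    exact no_triple_cover_M24 Γ σ z hsurj hker hord hzc hzcomm
  exact false_of_small_sylow σ z p hp hsurj hker hord hzc hzcomm
    (factorization_le_one p hp hp2 hp3)

/-- The Schur multiplier of the Mathieu group M₂₄ (the automorphism group of the length-24 binary code) is trivial; here the Schur multiplier is described through stem extensions, as in the definitions: surjective homomorphisms onto the group from a finite group, whose kernel is central in that finite group and contained in that finite group's commutator subgroup. -/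
theorem result : Cfsg.HasCyclicSchurMultiplier ↥Cfsg.M24 1 := by
  apply trivial_multiplier_of
  exact ker_eq_bot_of_no_prime_cover no_prime_cover

end Cfsg.Agent.S2038
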