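import Cfsg.Statements.S2060
import Mathlib
import Cfsg.Agent.Lib.Helper7.M12
import Cfsg.Agent.Lib.Helper27.M12Faithful

set_option autoImplicit false
set_option maxRecDepth 1000000
open scoped Pointwise
open Cfsg

namespace Cfsg.Agent.S2060

open Cfsg.Agent.Helper7

/-! ### Data: two generators of the smallest Mathieu group, as tables -/

/-- `t ↦ 2t`, an element of order 11. -/
def xL : List ℕ := [0, 2, 4, 6, 8, 10, 12, 14, 16, 18, 20, 22, 1, 3, 5, 7, 9, 11, 13, 15, 17, 19, 21, 23]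
/-- Its inverse. -/
def xiL : List ℕ := [0, 12, 1, 13, 2, 14, 3, 15, 4, 16, 5, 17, 6, 18, 7, 19, 8, 20, 9, 21, 10, 22, 11, 23]
/-- An involution. -/
def yL : List ℕ := [0, 1, 6, 9, 12, 14, 2, 23, 13, 3, 17, 11, 4, 8, 5, 20, 16, 10, 18, 19, 15, 21, 22, 7]
/-- A word for an element normalising `⟨x⟩`. -/
def nW : List ℕ := [1, 2, 2, 2, 2, 2, 1, 0, 1, 0, 1]
def U2W : List (List ℕ) := [[1, 0, 1, 0, 1, 2, 2], [1, 0, 0, 1, 0], [2, 2, 1, 0, 1, 0], [0, 1, 0, 1, 2, 2], [2, 1, 2, 2], [0, 0, 1, 0], [1, 2, 2, 1, 0, 1, 0], [1, 2, 1, 2, 2], [0, 1, 0, 0, 0, 0, 1, 0], []]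
def U3W : List (List ℕ) := [[1, 0, 1, 0, 0, 1], [2, 2, 1, 2, 1], [0, 1, 0, 0], [0, 1, 0, 0, 1], [1], [1, 2, 2, 1, 2, 1], [1, 0, 1, 0, 0], [], [2, 2, 1, 2]]
def U4W : List (List ℕ) := [[], [0, 1, 0, 0, 1, 2, 2, 1, 2], [0, 1, 0, 1, 0, 0, 0, 0, 1, 2, 1, 0], [2, 1, 0, 1, 2, 2, 2, 2, 1, 2, 1, 2], [2, 1, 0, 1, 2, 2, 1, 0, 0, 0, 1], [0, 1, 2, 1, 2, 2, 1, 0], [2, 1, 0, 0, 1, 0, 1, 2], [1, 2, 2, 2, 1, 0, 0, 1, 2, 1, 0]]

/-- The map of points described by a table. -/
def funOf (l : List ℕ) : GolayPt → GolayPt := fun p => pt (l.getD (idx p) 0)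

def xP : Equiv.Perm GolayPt where
  toFun := funOf xL
  invFun := funOf xiL
  left_inv := by unfold Function.LeftInverse; decide
  right_inv := by unfold Function.RightInverse Function.LeftInverse; decide

def yP : Equiv.Perm GolayPt where
  toFun := funOf yL
  invFun := funOf yL
  left_inv := by unfold Function.LeftInverse; decide
  right_inv := by unfold Function.RightInverse Function.LeftInverse; decide

theorem tab_x : Tab xP xL := by unfold Tab; decide
theorem tab_y : Tab yP yL := by unfold Tab; decide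
theorem tab_xi : Tab xP⁻¹ xiL := tab_x.inv (by decide)

/-- The mask of the dodecad of squares. -/
def dM : ℕ := 340831

theorem D_eq : Cfsg.Spor.squareDodecad = ofMask dM := by
  rw [Cfsg.Spor.squareDodecad, qrWord_eq, support₂_decW]
  rfl

theorem D_mem : ofMask dM ∈ dodecads := by
  rw [mem_dodecads_iff]
  exact ⟨(ofMask_mem_iff _ (by decide)).mpr (by decide +kernel), by rw [card_ofMask']; decide +kernel⟩

theorem pt0 : pt 0 = (some 0 : GolayPt) := by decide

theorem mem_M11 {g : Equiv.Perm GolayPt} :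
    g ∈ Cfsg.Spor.M11 ↔ g ∈ M24 ∧ g • ofMask dM = ofMask dM ∧ g (pt 0) = pt 0 := by
  rw [Cfsg.Spor.M11, Cfsg.Spor.M12, D_eq, pt0]
  constructor
  · rintro ⟨⟨h1, h2⟩, h3⟩
    exact ⟨h1, h2, h3⟩
  · rintro ⟨h1, h2, h3⟩
    exact ⟨⟨h1, h2⟩, h3⟩

theorem x_mem : xP ∈ Cfsg.Spor.M11 := by
  rw [mem_M11]
  refine ⟨mem_M24_of_tab tab_x (by decide +kernel), ?_, tab_x.fix 0 (by norm_num) (by decide)⟩
  rw [smul_ofMask tab_x]
  decide +kernel

theorem y_mem : yP ∈ Cfsg.Spor.M11 := by
  rw [mem_M11]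
  refine ⟨mem_M24_of_tab tab_y (by decide +kernel), ?_, tab_y.fix 0 (by norm_num) (by decide)⟩
  rw [smul_ofMask tab_y]
  decide +kernel


/-! ### Words in the generators -/

/-- The subgroup generated by the two generators. -/
abbrev H : Subgroup (Equiv.Perm GolayPt) := Subgroup.closure {xP, yP}

theorem H_le : H ≤ Cfsg.Spor.M11 := by
  rw [Subgroup.closure_le]
  rintro g (rfl | rfl)
  · exact x_mem
  · exact y_mem

def gensL : List (List ℕ) := [xL, yL, xiL]

theorem good_gens : GoodTabs H gensL := by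
  intro l hl
  simp only [gensL, List.mem_cons, List.not_mem_nil, or_false] at hl
  rcases hl with rfl | rfl | rfl
  · exact ⟨xP, Subgroup.subset_closure (by simp), tab_x, rfl⟩
  · exact ⟨yP, Subgroup.subset_closure (by simp), tab_y, rfl⟩
  · exact ⟨xP⁻¹, H.inv_mem (Subgroup.subset_closure (by simp)), tab_xi, rfl⟩

/-- Table of a word (a product of generators, read from left to right). -/
def evalFrom (tabs : List (List ℕ)) (w : List ℕ) (acc : List ℕ) : List ℕ :=
  w.foldl (fun acc j => mulTab acc (tabs.getD j idTab)) acc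

def evalW (w : List ℕ) : List ℕ := evalFrom gensL w idTab

theorem evalFrom_good {K : Subgroup (Equiv.Perm GolayPt)} {tabs : List (List ℕ)}
    (hT : GoodTabs K tabs) (w : List ℕ) (acc : List ℕ)
    (hacc : ∃ σ ∈ K, Tab σ acc ∧ acc.length = 24) :
    ∃ σ ∈ K, Tab σ (evalFrom tabs w acc) ∧ (evalFrom tabs w acc).length = 24 := by
  induction w generalizing acc with
  | nil => exact hacc
  | cons j w ih =>
    rw [evalFrom, List.foldl_cons]
    apply ih
    obtain ⟨σ, hσ, ht, hl⟩ := hacc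
    obtain ⟨τ, hτ, ht', hl'⟩ := hT.getD j
    exact ⟨σ * τ, K.mul_mem hσ hτ, ht.mul ht' hl', by rw [mulTab_length, hl']⟩

theorem evalW_good (w : List ℕ) : ∃ σ ∈ H, Tab σ (evalW w) ∧ (evalW w).length = 24 :=
  evalFrom_good good_gens w idTab ⟨1, H.one_mem, tab_one, rfl⟩

theorem Tab.unique {σ τ : Equiv.Perm GolayPt} {l : List ℕ} (h1 : Tab σ l) (h2 : Tab τ l) : σ = τ := by
  apply Equiv.ext
  intro p
  apply idx_injective
  rw [h1, h2]

/-! ### Stabiliser chain -/

/-- The pointwise stabiliser of the listed points in the smallest Mathieu group. -/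
abbrev S (bs : List ℕ) : Subgroup (Equiv.Perm GolayPt) := stabL Cfsg.Spor.M11 (bs.map pt)

theorem good_level (bs : List ℕ) (hbs : ∀ c ∈ bs, c < 24) (W : List (List ℕ))
    (hfix : ∀ w ∈ W, ∀ c ∈ bs, (evalW w).getD c 0 = c) :
    GoodTabs (H ⊓ S bs) (W.map evalW) := by
  intro l hl
  rw [List.mem_map] at hl
  obtain ⟨w, hw, rfl⟩ := hl
  obtain ⟨σ, hσ, ht, hlen⟩ := evalW_good w
  refine ⟨σ, Subgroup.mem_inf.mpr ⟨hσ, ?_⟩, ht, hlen⟩
  rw [mem_stabL]
  refine ⟨H_le hσ, ?_⟩
  intro p hp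
  rw [List.mem_map] at hp
  obtain ⟨c, hc, rfl⟩ := hp
  exact ht.fix c (hbs c hc) (hfix w hw c hc)

/-- All products of a table of the first list with a table of the second. -/
def prodL (U L : List (List ℕ)) : List (List ℕ) := U.flatMap fun u => L.map (mulTab u)

theorem good_prodL {K : Subgroup (Equiv.Perm GolayPt)} {U L : List (List ℕ)} (hU : GoodTabs K U)
    (hL : GoodTabs K L) : GoodTabs K (prodL U L) := by
  intro l hl
  rw [prodL, List.mem_flatMap] at hl
  obtain ⟨u, hu, hl⟩ := hl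
  rw [List.mem_map] at hl
  obtain ⟨v, hv, rfl⟩ := hl
  obtain ⟨σ, hσ, ht, _⟩ := hU u hu
  obtain ⟨τ, hτ, ht', hl'⟩ := hL v hv
  exact ⟨σ * τ, K.mul_mem hσ hτ, ht.mul ht' hl', by rw [mulTab_length, hl']⟩

/-- Every element of the subgroup has its table in the list. -/
def Covers (K : Subgroup (Equiv.Perm GolayPt)) (L : List (List ℕ)) : Prop :=
  ∀ g ∈ K, ∃ l ∈ L, Tab g l ∧ l.length = 24

theorem mem_D_of_mem {g : Equiv.Perm GolayPt} (hg : g ∈ Cfsg.Spor.M11) (p : GolayPt) :
    g p ∈ ofMask dM ↔ p ∈ ofMask dM := by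
  rw [mem_M11] at hg
  exact setStab_mem_iff (mem_setStab.mpr ⟨hg.1, hg.2.1⟩) p

theorem hit_of_check (bs : List ℕ) (b : ℕ) (hb : b < 24) (hbD : dM.testBit b = true)
    (hbs : b ∉ bs) (U : List (List ℕ))
    (hchk : ∀ q < 24, dM.testBit q = true → q ∉ bs → ∃ l ∈ U, l.getD b 0 = q) :
    ∀ g ∈ S bs, ∃ l ∈ U, l.getD b 0 = idx (g (pt b)) := by
  intro g hg
  rw [mem_stabL] at hg
  apply hchk _ (idx_lt _)
  · rw [← mem_ofMask, mem_D_of_mem hg.1, mem_ofMask, idx_pt b hb]
    exact hbD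
  · intro hq
    have h1 := hg.2 (pt (idx (g (pt b)))) (List.mem_map.mpr ⟨_, hq, rfl⟩)
    rw [pt_idx] at h1
    have h2 : g (pt b) = pt b := g.injective h1
    rw [h2, idx_pt b hb] at hq
    exact hbs hq

theorem cover_step (bs : List ℕ) (b : ℕ) (hb : b < 24) (U L : List (List ℕ))
    (hU : GoodTabs (S bs) U)
    (hit : ∀ g ∈ S bs, ∃ l ∈ U, l.getD b 0 = idx (g (pt b)))
    (hL : Covers (S (bs ++ [b])) L) : Covers (S bs) (prodL U L) := by
  intro g hg
  obtain ⟨u, hu, hub⟩ := hit g hg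
  obtain ⟨σ, hσ, hσt, hσl⟩ := hU u hu
  have h1 : σ (pt b) = g (pt b) := by rw [hσt.apply b hb, hub, pt_idx]
  have hh : σ⁻¹ * g ∈ S (bs ++ [b]) := by
    rw [S, List.map_append, List.map_singleton, stabL_append, mem_stabIn]
    refine ⟨(S bs).mul_mem ((S bs).inv_mem hσ) hg, ?_⟩
    rw [Equiv.Perm.mul_apply, ← h1]
    simp
  obtain ⟨l, hl, hlt, hll⟩ := hL _ hh
  refine ⟨mulTab u l, ?_, ?_, by rw [mulTab_length, hll]⟩
  · rw [prodL, List.mem_flatMap]
    exact ⟨u, hu, List.mem_map.mpr ⟨l, hl, rfl⟩⟩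
  · have := hσt.mul hlt hll
    rwa [mul_inv_cancel_left] at this


/-! ### The concrete chain -/

def U2 : List (List ℕ) := U2W.map evalW
def U3 : List (List ℕ) := U3W.map evalW
def U4 : List (List ℕ) := U4W.map evalW
def L3 : List (List ℕ) := prodL U4 [idTab]
def L2 : List (List ℕ) := prodL U3 L3
def L1 : List (List ℕ) := prodL U2 L2

theorem fix2 : ∀ w ∈ U2W, ∀ c ∈ [0, 1], (evalW w).getD c 0 = c := by decide +kernel
theorem fix3 : ∀ w ∈ U3W, ∀ c ∈ [0, 1, 18], (evalW w).getD c 0 = c := by decide +kernel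
theorem fix4 : ∀ w ∈ U4W, ∀ c ∈ [0, 1, 18, 13], (evalW w).getD c 0 = c := by decide +kernel

theorem hit2 : ∀ q < 24, dM.testBit q = true → q ∉ [0, 1] → ∃ l ∈ U2, l.getD 18 0 = q := by
  decide +kernel
theorem hit3 : ∀ q < 24, dM.testBit q = true → q ∉ [0, 1, 18] → ∃ l ∈ U3, l.getD 13 0 = q := by
  decide +kernel
theorem hit4 : ∀ q < 24, dM.testBit q = true → q ∉ [0, 1, 18, 13] → ∃ l ∈ U4, l.getD 2 0 = q := by
  decide +kernel

theorem good_U2 : GoodTabs (H ⊓ S [0, 1]) U2 := good_level _ (by decide) _ fix2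
theorem good_U3 : GoodTabs (H ⊓ S [0, 1, 18]) U3 := good_level _ (by decide) _ fix3
theorem good_U4 : GoodTabs (H ⊓ S [0, 1, 18, 13]) U4 := good_level _ (by decide) _ fix4

theorem good_id (K : Subgroup (Equiv.Perm GolayPt)) : GoodTabs K [idTab] := by
  intro l hl
  rw [List.mem_singleton] at hl
  subst hl
  exact ⟨1, K.one_mem, tab_one, rfl⟩

theorem good_L1 : GoodTabs H L1 :=
  good_prodL (good_U2.mono inf_le_left) (good_prodL (good_U3.mono inf_le_left)
    (good_prodL (good_U4.mono inf_le_left) (good_id _)))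

theorem cover5 : Covers (S [0, 1, 18, 13, 2]) [idTab] := by
  intro g hg
  rw [mem_stabL, mem_M11] at hg
  obtain ⟨⟨h1, h2, _⟩, h3⟩ := hg
  have hg1 : g = 1 := by
    apply Cfsg.Agent.Helper27.eq_one_of_fix_five D_mem h1 h2 ([0, 1, 18, 13, 2].map pt).toFinset
    · rw [List.toFinset_card_of_nodup]
      · rfl
      · decide
    · intro p hp
      rw [List.mem_toFinset] at hp
      revert p
      decide
    · intro p hp
      rw [List.mem_toFinset] at hp
      exact h3 p hp
  subst hg1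
  exact ⟨idTab, List.mem_singleton.mpr rfl, tab_one, rfl⟩

theorem cover4 : Covers (S [0, 1, 18, 13]) L3 :=
  cover_step [0, 1, 18, 13] 2 (by norm_num) U4 [idTab] (good_U4.mono inf_le_right)
    (hit_of_check _ _ (by norm_num) (by decide) (by decide) _ hit4) cover5

theorem cover3 : Covers (S [0, 1, 18]) L2 :=
  cover_step [0, 1, 18] 13 (by norm_num) U3 L3 (good_U3.mono inf_le_right)
    (hit_of_check _ _ (by norm_num) (by decide) (by decide) _ hit3) cover4

theorem cover2 : Covers (S [0, 1]) L1 :=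
  cover_step [0, 1] 18 (by norm_num) U2 L2 (good_U2.mono inf_le_right)
    (hit_of_check _ _ (by norm_num) (by decide) (by decide) _ hit2) cover3

/-! ### The main check -/

def isInv (l : List ℕ) : Bool := (List.range 24).all fun i => l.getD (l.getD i 0) 0 == i
def isId (l : List ℕ) : Bool := (List.range 24).all fun i => l.getD i 0 == i
def sameT (l m : List ℕ) : Bool := (List.range 24).all fun i => l.getD i 0 == m.getD i 0

/-- Table of `a b a⁴ b a³ b`. -/
def wT (A B : List ℕ) : List ℕ :=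
  mulTab (mulTab (mulTab (mulTab (mulTab (mulTab (mulTab (mulTab (mulTab (mulTab A B) A) A) A) A)
    B) A) A) A) B

def relT (A B : List ℕ) : List ℕ := mulTab (wT A B) (wT A B)

def powT (l : List ℕ) : ℕ → List ℕ
  | 0 => idTab
  | n + 1 => mulTab (powT l n) l

def conjT (i : ℕ) : List ℕ := mulTab (mulTab (powT xL i) yL) (powT xiL i)

def goodT (l : List ℕ) : Bool := (List.range 11).any fun i => sameT l (conjT i)

def chk (l : List ℕ) : Bool :=
  !isInv l || ((!isId (relT xL l) || goodT l) && !isId (relT xiL l))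

theorem main_chk : L1.all chk = true := by decide +kernel

theorem rel_xy : isId (relT xL yL) = true := by decide +kernel

def U1 : List (List ℕ) := (List.range 11).map (powT xL)

theorem hit1 : ∀ q < 24, dM.testBit q = true → q ∉ [0] → ∃ l ∈ U1, l.getD 1 0 = q := by
  decide +kernel

theorem x_pow11 : isId (powT xL 11) = true := by decide +kernel

theorem n_rel : sameT (mulTab (evalW nW) xL) (mulTab (powT xL 5) (evalW nW)) = true := by
  decide +kernel


/-! ### Specifications of the Boolean tests -/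

theorem all_range {n : ℕ} {f : ℕ → Bool} (h : (List.range n).all f = true) {i : ℕ} (hi : i < n) :
    f i = true :=
  List.all_eq_true.mp h i (List.mem_range.mpr hi)

theorem isId_spec {σ : Equiv.Perm GolayPt} {t : List ℕ} (ht : Tab σ t) (h : isId t = true) :
    σ = 1 := by
  apply Equiv.ext
  intro p
  apply idx_injective
  rw [ht]
  have := all_range h (idx_lt p)
  exact beq_iff_eq.mp this

theorem isId_of_one {t : List ℕ} (ht : Tab 1 t) : isId t = true := by
  rw [isId, List.all_eq_true]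
  intro i hi
  rw [List.mem_range] at hi
  have := ht (pt i)
  rw [Equiv.Perm.one_apply, idx_pt i hi] at this
  exact beq_iff_eq.mpr this.symm

theorem isInv_of {z : Equiv.Perm GolayPt} {l : List ℕ} (ht : Tab z l) (hz : z * z = 1) :
    isInv l = true := by
  rw [isInv, List.all_eq_true]
  intro i hi
  rw [List.mem_range] at hi
  have h1 := ht (pt i)
  rw [idx_pt i hi] at h1
  have h2 := ht (z (pt i))
  have h3 : z (z (pt i)) = pt i := by
    have := congrArg (fun g : Equiv.Perm GolayPt => g (pt i)) hz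
    simpa using this
  rw [h3, idx_pt i hi, h1] at h2
  exact beq_iff_eq.mpr h2.symm

theorem sameT_spec {σ τ : Equiv.Perm GolayPt} {l m : List ℕ} (h1 : Tab σ l) (h2 : Tab τ m)
    (h : sameT l m = true) : σ = τ := by
  apply Equiv.ext
  intro p
  apply idx_injective
  rw [h1, h2]
  exact beq_iff_eq.mp (all_range h (idx_lt p))

theorem powT_length (l : List ℕ) (hl : l.length = 24) (n : ℕ) : (powT l n).length = 24 := by
  cases n with
  | zero => rfl
  | succ n => rw [powT, mulTab_length, hl]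

theorem powT_tab {σ : Equiv.Perm GolayPt} {l : List ℕ} (h : Tab σ l) (hl : l.length = 24) (n : ℕ) :
    Tab (σ ^ n) (powT l n) := by
  induction n with
  | zero => rw [pow_zero]; exact tab_one
  | succ n ih => rw [pow_succ, powT]; exact ih.mul h hl

theorem wT_tab {a b : Equiv.Perm GolayPt} {A B : List ℕ} (hA : Tab a A) (hB : Tab b B)
    (lA : A.length = 24) (lB : B.length = 24) :
    Tab (a * b * a * a * a * a * b * a * a * a * b) (wT A B) :=
  ((((((((((hA.mul hB lB).mul hA lA).mul hA lA).mul hA lA).mul hA lA).mul hB lB).mul hA lA).mul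
    hA lA).mul hA lA).mul hB lB)

theorem relT_tab {a b : Equiv.Perm GolayPt} {A B : List ℕ} (hA : Tab a A) (hB : Tab b B)
    (lA : A.length = 24) (lB : B.length = 24) :
    Tab ((a * b * a * a * a * a * b * a * a * a * b) * (a * b * a * a * a * a * b * a * a * a * b))
      (relT A B) :=
  (wT_tab hA hB lA lB).mul (wT_tab hA hB lA lB) (by rw [wT, mulTab_length, lB])

theorem conjT_tab (i : ℕ) : Tab (xP ^ i * yP * xP⁻¹ ^ i) (conjT i) :=
  ((powT_tab tab_x rfl i).mul tab_y rfl).mul (powT_tab tab_xi rfl i) (powT_length _ rfl i)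

/-! ### The two key facts about permutations -/

theorem mem_S01 {z : Equiv.Perm GolayPt} (hz : z ∈ Cfsg.Spor.M11) (hz1 : z (pt 1) = pt 1) :
    z ∈ S [0, 1] := by
  rw [mem_stabL]
  refine ⟨hz, ?_⟩
  intro p hp
  simp only [List.map_cons, List.map_nil, List.mem_cons, List.not_mem_nil, or_false] at hp
  rcases hp with rfl | rfl
  · exact (mem_M11.mp hz).2.2
  · exact hz1

theorem lemmaA {z a : Equiv.Perm GolayPt} (hz : z ∈ Cfsg.Spor.M11) (hz2 : z * z = 1)
    (hz1 : z (pt 1) = pt 1) (ha : a = xP ∨ a = xP⁻¹)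
    (hrel : (a * z * a * a * a * a * z * a * a * a * z) *
      (a * z * a * a * a * a * z * a * a * a * z) = 1) :
    a = xP ∧ ∃ i, z = xP ^ i * yP * xP⁻¹ ^ i := by
  obtain ⟨l, hl, hlt, hll⟩ := cover2 z (mem_S01 hz hz1)
  have hc := List.all_eq_true.mp main_chk l hl
  have hinv : isInv l = true := isInv_of hlt hz2
  rw [chk, hinv] at hc
  simp only [Bool.not_true, Bool.false_or, Bool.and_eq_true, Bool.or_eq_true,
    Bool.not_eq_eq_eq_not] at hc
  rcases ha with rfl | rfl
  · have h1 : isId (relT xL l) = true := by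
      have := relT_tab tab_x hlt rfl hll
      rw [hrel] at this
      exact isId_of_one this
    rcases hc.1 with h | h
    · rw [h1] at h; cases h
    · refine ⟨rfl, ?_⟩
      rw [goodT, List.any_eq_true] at h
      obtain ⟨i, _, hi⟩ := h
      exact ⟨i, sameT_spec hlt (conjT_tab i) hi⟩
  · have h1 : isId (relT xiL l) = true := by
      have := relT_tab tab_xi hlt rfl hll
      rw [hrel] at this
      exact isId_of_one this
    have h2 := hc.2
    rw [h1] at h2
    cases h2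

theorem good_U1 : GoodTabs (H ⊓ S [0]) U1 := by
  intro l hl
  rw [U1, List.mem_map] at hl
  obtain ⟨i, _, rfl⟩ := hl
  refine ⟨xP ^ i, Subgroup.mem_inf.mpr ⟨H.pow_mem (Subgroup.subset_closure (by simp)) i, ?_⟩,
    powT_tab tab_x rfl i, powT_length _ rfl i⟩
  rw [mem_stabL]
  refine ⟨Subgroup.pow_mem _ x_mem i, ?_⟩
  intro p hp
  simp only [List.map_cons, List.map_nil, List.mem_cons, List.not_mem_nil, or_false] at hp
  subst hp
  exact (mem_M11.mp (Subgroup.pow_mem _ x_mem i)).2.2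

theorem cover1 : Covers (S [0]) (prodL U1 L1) :=
  cover_step [0] 1 (by norm_num) U1 L1 (good_U1.mono inf_le_right)
    (hit_of_check _ _ (by norm_num) (by decide) (by decide) _ hit1) cover2

theorem mem_S0 {g : Equiv.Perm GolayPt} (hg : g ∈ Cfsg.Spor.M11) : g ∈ S [0] := by
  rw [mem_stabL]
  refine ⟨hg, ?_⟩
  intro p hp
  simp only [List.map_cons, List.map_nil, List.mem_cons, List.not_mem_nil, or_false] at hp
  subst hp
  exact (mem_M11.mp hg).2.2

theorem M11_le_H : Cfsg.Spor.M11 ≤ H := by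
  intro g hg
  obtain ⟨l, hl, hlt, _⟩ := cover1 g (mem_S0 hg)
  obtain ⟨σ, hσ, hσt, _⟩ := (good_prodL (good_U1.mono inf_le_left) good_L1) l hl
  rw [Tab.unique hlt hσt]
  exact hσ


/-! ### An involution of the group fixes one of the eleven points -/

theorem exists_fixed {z : Equiv.Perm GolayPt} (hz : z ∈ Cfsg.Spor.M11) (hz2 : z * z = 1) :
    ∃ p ∈ ofMask dM, p ≠ pt 0 ∧ z p = p := by
  by_contra hcon
  push Not at hcon
  have hzz : ∀ p, z (z p) = p := by
    intro p
    have := congrArg (fun g : Equiv.Perm GolayPt => g p) hz2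
    simpa using this
  have h0 : z (pt 0) = pt 0 := (mem_M11.mp hz).2.2
  have key : ∑ _x ∈ (ofMask dM).erase (pt 0), (1 : ZMod 2) = 0 := by
    apply Finset.sum_involution (fun a _ => z a)
    · intro a _; decide
    · intro a ha _
      rw [Finset.mem_erase] at ha
      exact hcon a ha.2 ha.1
    · intro a ha
      rw [Finset.mem_erase] at ha ⊢
      refine ⟨?_, (mem_D_of_mem hz a).mpr ha.2⟩
      intro h
      apply ha.1
      apply z.injective
      rw [h, h0]
    · intro a _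
      exact hzz a
  have hcard : ((ofMask dM).erase (pt 0)).card = 11 := by
    rw [Finset.card_erase_of_mem (by decide), card_ofMask']
    decide +kernel
  rw [Finset.sum_const, hcard] at key
  revert key
  decide

/-! ### The abstract group -/

abbrev G : Type := ↥Cfsg.Spor.M11

def X : G := ⟨xP, x_mem⟩
def Y : G := ⟨yP, y_mem⟩

theorem closure_XY : Subgroup.closure ({X, Y} : Set G) = ⊤ := by
  rw [eq_top_iff]
  intro g _
  have hg : g.1 ∈ H := M11_le_H g.2
  have hmap : (Subgroup.closure ({X, Y} : Set G)).map (Cfsg.Spor.M11).subtype = H := by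
    rw [MonoidHom.map_closure, Set.image_pair]
    rfl
  rw [← hmap, Subgroup.mem_map] at hg
  obtain ⟨g', hg', hgg'⟩ := hg
  have : g' = g := Subtype.ext hgg'
  rwa [this] at hg'

theorem xP_pow11 : xP ^ 11 = 1 := isId_spec (powT_tab tab_x rfl 11) x_pow11

theorem X_pow11 : X ^ 11 = 1 := Subtype.ext xP_pow11

theorem X_ne_one : X ≠ 1 := by
  intro h
  have h1 : xP = 1 := congrArg Subtype.val h
  have h2 : xP (pt 1) = pt 2 := tab_x.apply 1 (by norm_num)
  rw [h1] at h2
  revert h2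
  decide

instance fact11 : Fact (Nat.Prime 11) := ⟨by norm_num⟩

theorem orderOf_X : orderOf X = 11 := orderOf_eq_prime X_pow11 X_ne_one

theorem card_G : Nat.card G = 7920 := by
  have h := card_m12_stabL D_mem [pt 0] (by simp)
    (by
      intro x hx
      rw [List.mem_singleton] at hx
      subst hx
      decide) (by simp)
  have heq : stabL (setStab (ofMask dM)) [pt 0] = Cfsg.Spor.M11 := by
    ext g
    rw [mem_stabL, mem_setStab, mem_M11]
    simp only [List.mem_singleton, forall_eq]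
    tauto
  rw [heq] at h
  have h12 : Nat.descFactorial 12 [pt 0].length = 12 := by decide
  rw [h12] at h
  show Nat.card ↥Cfsg.Spor.M11 = 7920
  omega

theorem Y_sq : Y * Y = 1 := by
  apply Subtype.ext
  apply Equiv.ext
  intro p
  exact yP.left_inv p

theorem rel_XY : (X * Y * X * X * X * X * Y * X * X * X * Y) *
    (X * Y * X * X * X * X * Y * X * X * X * Y) = 1 := by
  apply Subtype.ext
  exact isId_spec (relT_tab tab_x tab_y rfl rfl) rel_xy

theorem exists_N : ∃ ν : G, ν * X * ν⁻¹ = X ^ 5 := by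
  obtain ⟨σ, hσ, ht, hl⟩ := evalW_good nW
  refine ⟨⟨σ, H_le hσ⟩, ?_⟩
  have h1 : σ * xP = xP ^ 5 * σ :=
    sameT_spec (ht.mul tab_x rfl) ((powT_tab tab_x rfl 5).mul ht hl) n_rel
  apply Subtype.ext
  show σ * xP * σ⁻¹ = xP ^ 5
  rw [h1]
  group


/-! ### Every automorphism is inner -/

/-- The automorphism is inner. -/
def Inner (φ : G ≃* G) : Prop := ∃ g : G, ∀ t, φ t = g * t * g⁻¹

/-- Follow an automorphism by a conjugation. -/
def tw (a : G) (φ : G ≃* G) : G ≃* G := φ.trans (MulAut.conj a)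

theorem tw_apply (a : G) (φ : G ≃* G) (t : G) : tw a φ t = a * φ t * a⁻¹ := rfl

theorem inner_of_tw (a : G) (φ : G ≃* G) (h : Inner (tw a φ)) : Inner φ := by
  obtain ⟨g, hg⟩ := h
  refine ⟨a⁻¹ * g, fun t => ?_⟩
  have := hg t
  rw [tw_apply] at this
  have h2 : φ t = a⁻¹ * (g * t * g⁻¹) * a := by rw [← this]; group
  rw [h2]; group

theorem inner_of_fix (φ : G ≃* G) (hX : φ X = X) (hY : φ Y = Y) : Inner φ := by
  refine ⟨1, fun t => ?_⟩
  have h : φ.toMonoidHom = MonoidHom.id G := MonoidHom.eq_of_eqOn_dense closure_XY (by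
    intro t ht
    rcases ht with rfl | rfl
    · exact hX
    · exact hY)
  have h2 := congrArg (fun f : G →* G => f t) h
  simpa using h2

theorem inner_of_pm (φ : G ≃* G) (hX : φ X = X ∨ φ X = X⁻¹) : Inner φ := by
  have hsq : φ Y * φ Y = 1 := by rw [← map_mul, Y_sq, map_one]
  have hsq' : (φ Y).1 * (φ Y).1 = 1 := congrArg Subtype.val hsq
  obtain ⟨p, hpD, hp0, hpfix⟩ := exists_fixed (φ Y).2 hsq'
  obtain ⟨l, hl, hlq⟩ := hit1 (idx p) (idx_lt p) ((mem_ofMask _ _).mp hpD) (by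
    rw [List.mem_singleton]
    intro h
    apply hp0
    rw [← pt_idx p, h])
  rw [U1, List.mem_map] at hl
  obtain ⟨i, _, rfl⟩ := hl
  have hxi : (xP ^ i) (pt 1) = p := by
    rw [(powT_tab tab_x rfl i).apply 1 (by norm_num), hlq, pt_idx]
  apply inner_of_tw (X ^ i)⁻¹ φ
  have hψX : tw (X ^ i)⁻¹ φ X = φ X := by
    rw [tw_apply]
    rcases hX with h | h <;> rw [h] <;> group
  have hψY : tw (X ^ i)⁻¹ φ Y = (X ^ i)⁻¹ * φ Y * X ^ i := by rw [tw_apply, inv_inv]
  have hz1 : (tw (X ^ i)⁻¹ φ Y).1 (pt 1) = pt 1 := by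
    rw [hψY]
    show ((xP ^ i)⁻¹ * (φ Y).1 * xP ^ i) (pt 1) = pt 1
    rw [Equiv.Perm.mul_apply, Equiv.Perm.mul_apply, hxi, hpfix, Equiv.Perm.inv_eq_iff_eq, hxi]
  have hzsq : (tw (X ^ i)⁻¹ φ Y).1 * (tw (X ^ i)⁻¹ φ Y).1 = 1 := by
    have : tw (X ^ i)⁻¹ φ Y * tw (X ^ i)⁻¹ φ Y = 1 := by rw [← map_mul, Y_sq, map_one]
    exact congrArg Subtype.val this
  have haX : (tw (X ^ i)⁻¹ φ X).1 = xP ∨ (tw (X ^ i)⁻¹ φ X).1 = xP⁻¹ := by
    rw [hψX]
    rcases hX with h | h
    · left; rw [h]; rfl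
    · right; rw [h]; rfl
  have hrel := congrArg (tw (X ^ i)⁻¹ φ) rel_XY
  simp only [map_mul, map_one] at hrel
  have hrel' := congrArg Subtype.val hrel
  obtain ⟨ha, j, hj⟩ := lemmaA (tw (X ^ i)⁻¹ φ Y).2 hzsq hz1 haX hrel'
  apply inner_of_tw (X ^ j)⁻¹
  apply inner_of_fix
  · have h1 : tw (X ^ i)⁻¹ φ X = X := Subtype.ext ha
    rw [tw_apply, h1]
    group
  · have h1 : tw (X ^ i)⁻¹ φ Y = X ^ j * Y * X⁻¹ ^ j := Subtype.ext hj
    rw [tw_apply, h1]
    group

theorem X_pow10 : X ^ 10 = X⁻¹ := by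
  apply eq_inv_of_mul_eq_one_left
  rw [← pow_succ]
  exact X_pow11

theorem inner_of_pow (φ : G ≃* G) (m : ℕ) (hX : φ X = X ^ m) : Inner φ := by
  obtain ⟨ν, hν⟩ := exists_N
  have hνj : ∀ j : ℕ, ν ^ j * X * (ν ^ j)⁻¹ = X ^ (5 ^ j) := by
    intro j
    induction j with
    | zero => simp
    | succ j ih =>
      have : ν ^ (j + 1) * X * (ν ^ (j + 1))⁻¹ = ν * (ν ^ j * X * (ν ^ j)⁻¹) * ν⁻¹ := by
        rw [pow_succ']; group
      rw [this, ih, ← conj_pow, hν, ← pow_mul, pow_succ']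
  have hm0 : m % 11 ≠ 0 := by
    intro h
    have h1 : X ^ m = 1 := by
      rw [← pow_mod_orderOf, orderOf_X, h, pow_zero]
    rw [h1] at hX
    have : φ X = φ 1 := by rw [hX, map_one]
    exact X_ne_one (φ.injective this)
  have hdec : ∀ m < 11, m ≠ 0 → ∃ j < 5, (5 ^ j * m) % 11 = 1 ∨ (5 ^ j * m) % 11 = 10 := by
    decide
  obtain ⟨j, _, hj⟩ := hdec (m % 11) (Nat.mod_lt _ (by norm_num)) hm0
  have e : (5 ^ j * m) % 11 = (5 ^ j * (m % 11)) % 11 := by
    rw [Nat.mul_mod, Nat.mul_mod (5 ^ j) (m % 11), Nat.mod_mod]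
  rw [← e] at hj
  apply inner_of_tw (ν ^ j) φ
  apply inner_of_pm
  have h1 : tw (ν ^ j) φ X = X ^ ((5 ^ j * m) % 11) := by
    rw [tw_apply, hX, ← conj_pow, hνj j, ← pow_mul]
    conv_rhs => rw [← orderOf_X, pow_mod_orderOf]
  rcases hj with h | h
  · left; rw [h1, h, pow_one]
  · right; rw [h1, h, X_pow10]

theorem exists_sylow (t : G) (ht : orderOf t = 11) :
    ∃ Q : Sylow 11 G, (Q : Subgroup G) = Subgroup.zpowers t := by
  have hP : IsPGroup 11 (Subgroup.zpowers t) :=
    IsPGroup.of_card (n := 1) (by rw [Nat.card_zpowers, ht]; rfl)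
  obtain ⟨Q, hQ⟩ := hP.exists_le_sylow
  refine ⟨Q, ?_⟩
  obtain ⟨n, hn⟩ := IsPGroup.iff_card.mp Q.isPGroup'
  have h1 : Nat.card (Q : Subgroup G) ∣ 7920 := by
    rw [← card_G]; exact Subgroup.card_subgroup_dvd_card _
  have h2 : 11 ∣ Nat.card (Q : Subgroup G) := by
    have := Subgroup.card_dvd_of_le hQ
    rwa [Nat.card_zpowers, ht] at this
  have hn1 : n = 1 := by
    rw [hn] at h1 h2
    have hn0 : n ≠ 0 := by
      rintro rfl
      norm_num at h2
    have hn2 : n < 2 := by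
      by_contra hcon
      push Not at hcon
      have : 11 ^ 2 ∣ 7920 := (pow_dvd_pow 11 hcon).trans h1
      norm_num at this
    omega
  symm
  apply Subgroup.eq_of_le_of_card_ge hQ
  rw [hn, hn1, Nat.card_zpowers, ht]
  norm_num

theorem all_inner (φ : G ≃* G) : Inner φ := by
  obtain ⟨Q, hQ⟩ := exists_sylow X orderOf_X
  obtain ⟨Q', hQ'⟩ := exists_sylow (φ X) (by rw [MulEquiv.orderOf_eq, orderOf_X])
  obtain ⟨g, hg⟩ := MulAction.exists_smul_eq G Q' Q
  have hmem : φ X ∈ (Q' : Subgroup G) := by rw [hQ']; exact Subgroup.mem_zpowers _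
  have h2 := Subgroup.smul_mem_pointwise_smul (φ X) (MulAut.conj g) (Q' : Subgroup G) hmem
  rw [← Sylow.coe_subgroup_smul, hg, hQ, MulAut.smul_def, MulAut.conj_apply,
    Subgroup.mem_zpowers_iff] at h2
  obtain ⟨k, hk⟩ := h2
  apply inner_of_tw g φ
  apply inner_of_pow _ (k % 11).toNat
  rw [tw_apply, ← hk, ← zpow_natCast, Int.toNat_of_nonneg (Int.emod_nonneg _ (by norm_num))]
  have := zpow_mod_orderOf X k
  rw [orderOf_X] at this
  exact this.symm


/-- The outer automorphism group of the Mathieu group M₁₁ is trivial. -/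
theorem result : Nat.card (Cfsg.Out ↥Cfsg.Spor.M11) = 1 := by
  show (Cfsg.Inn ↥Cfsg.Spor.M11).index = 1
  rw [Subgroup.index_eq_one, eq_top_iff]
  intro φ _
  obtain ⟨g, hg⟩ := all_inner φ
  exact ⟨g, MulEquiv.ext (fun t => by rw [MulAut.conj_apply, hg])⟩

end Cfsg.Agent.S2060
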