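import Cfsg.Statements.S2061
import Mathlib
import Cfsg.Agent.Lib.Helper27.M12Out
import Cfsg.Agent.Lib.Helper27.OutAut2

set_option autoImplicit false
open scoped Pointwise
open Cfsg

namespace Cfsg.Agent.S2061

open Cfsg.Agent.Helper7 Cfsg.Agent.Helper27.OutAut Cfsg.Agent.Helper27.M24Aut
  Cfsg.Agent.Helper27.M12Out

abbrev G : Type := ↥Cfsg.Spor.M12

def Y : G := ⟨yP, y_mem12⟩
noncomputable def Δ : G := ⟨cubeTwist, d_mem12⟩
def Zg : G := ⟨zP, z_mem⟩

theorem closure_gens : Subgroup.closure ({Y, Δ, Zg} : Set G) = ⊤ := by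
  rw [eq_top_iff]
  intro g _
  have hg : g.1 ∈ Subgroup.closure {yP, cubeTwist, zP} := by
    rw [closure_eq_M12]; exact g.2
  have hmap : (Subgroup.closure ({Y, Δ, Zg} : Set G)).map (Cfsg.Spor.M12).subtype =
      Subgroup.closure {yP, cubeTwist, zP} := by
    rw [MonoidHom.map_closure]
    congr 1
    ext t
    simp only [Set.mem_image, Set.mem_insert_iff, Set.mem_singleton_iff]
    constructor
    · rintro ⟨s, hs | hs | hs, rfl⟩ <;> rw [hs]
      · left; rfl
      · right; left; rfl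
      · right; right; rfl
    · rintro (rfl | rfl | rfl)
      · exact ⟨Y, Or.inl rfl, rfl⟩
      · exact ⟨Δ, Or.inr (Or.inl rfl), rfl⟩
      · exact ⟨Zg, Or.inr (Or.inr rfl), rfl⟩
  rw [← hmap, Subgroup.mem_map] at hg
  obtain ⟨g', hg', hgg'⟩ := hg
  have : g' = g := Subtype.ext hgg'
  rwa [this] at hg'

instance fact11 : Fact (Nat.Prime 11) := ⟨by norm_num⟩

theorem y_pow11 : yP ^ 11 = 1 :=
  sameT_spec (powT_tab tab_y rfl 11) tab_one (by decide +kernel)

theorem y_ne_one : yP ≠ 1 := by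
  intro h
  have h2 : yP (pt 1) = pt 2 := tab_y.apply 1 (by norm_num)
  rw [h] at h2
  revert h2
  decide

theorem z_sq : zP * zP = 1 :=
  sameT_spec (tab_z.mul tab_z rfl) tab_one (by decide +kernel)

theorem z_ne_one : zP ≠ 1 := by
  intro h
  have h2 : zP (pt 0) = pt 3 := tab_z.apply 0 (by norm_num)
  rw [h] at h2
  revert h2
  decide

theorem zd_comm : zP * cubeTwist = cubeTwist * zP :=
  sameT_spec (tab_z.mul tab_cubeTwist rfl) (tab_cubeTwist.mul tab_z rfl) (by decide +kernel)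

theorem orderOf_Y : orderOf Y = 11 :=
  orderOf_eq_prime (Subtype.ext y_pow11) (fun h => y_ne_one (congrArg Subtype.val h))

theorem card_G : Nat.card G = 11 * 8640 := by
  show Nat.card ↥Cfsg.Spor.M12 = _
  rw [card_M12]

theorem hΔY : Δ * Y = Y ^ 3 * Δ := Subtype.ext dy_rel
theorem hY11 : Y ^ 11 = 1 := Subtype.ext y_pow11
theorem hZΔ : Zg * Δ = Δ * Zg := Subtype.ext zd_comm
theorem hZ2 : Zg * Zg = 1 := Subtype.ext z_sq
theorem Zg_ne_one : Zg ≠ 1 := fun h => z_ne_one (congrArg Subtype.val h)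

/-- The outer automorphism: conjugation by `t ↦ -1/t`. -/
noncomputable def tau : MulAut G where
  toFun t := ⟨projInv * t.1 * projInv⁻¹, conj_mem t.2⟩
  invFun t := ⟨projInv * t.1 * projInv⁻¹, conj_mem t.2⟩
  left_inv t := by
    apply Subtype.ext
    show projInv * (projInv * t.1 * projInv⁻¹) * projInv⁻¹ = t.1
    rw [projInv_inv]
    calc projInv * (projInv * t.1 * projInv) * projInv
        = (projInv * projInv) * t.1 * (projInv * projInv) := by group
      _ = t.1 := by rw [g_sq, one_mul, mul_one]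
  right_inv t := by
    apply Subtype.ext
    show projInv * (projInv * t.1 * projInv⁻¹) * projInv⁻¹ = t.1
    rw [projInv_inv]
    calc projInv * (projInv * t.1 * projInv) * projInv
        = (projInv * projInv) * t.1 * (projInv * projInv) := by group
      _ = t.1 := by rw [g_sq, one_mul, mul_one]
  map_mul' a b := by
    apply Subtype.ext
    show projInv * (a.1 * b.1) * projInv⁻¹ =
      (projInv * a.1 * projInv⁻¹) * (projInv * b.1 * projInv⁻¹)
    group

theorem tau_val (t : G) : (tau t).1 = projInv * t.1 * projInv⁻¹ := rfl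

theorem tau_Y : tau Y = Y⁻¹ := by
  apply Subtype.ext
  show projInv * yP * projInv⁻¹ = yP⁻¹
  rw [gy_rel]; group

theorem tau_not_inner : ¬ Inner (tau : G ≃* G) := by
  rintro ⟨h, hh⟩
  apply not_inner_aux h.1 h.2
  intro t ht
  exact congrArg Subtype.val (hh ⟨t, ht⟩)

/-- Inner, or inner after composing with the outer automorphism. -/
def P (φ : G ≃* G) : Prop := Inner φ ∨ Inner ((φ : MulAut G) * tau)

theorem P_tw (a : G) (φ : G ≃* G) (h : P (tw a φ)) : P φ := by
  rcases h with h | h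
  · exact Or.inl (inner_of_tw a φ h)
  · right
    apply inner_of_tw a
    have e : tw a ((φ : MulAut G) * tau) = ((tw a φ : MulAut G) * tau) := by
      apply MulEquiv.ext; intro t; rfl
    rw [e]; exact h

theorem inner_of_fixY (ψ : G ≃* G) (hY : ψ Y = Y) : Inner ψ := by
  have hrel : ψ Δ * Y = Y ^ 3 * ψ Δ := by
    have := congrArg ψ hΔY
    rwa [map_mul, map_mul, map_pow, hY] at this
  obtain ⟨b, hb⟩ := eq_pow_mul_d (ψ Δ).2 (congrArg Subtype.val hrel)
  have hb' : ψ Δ = Y ^ b * Δ := Subtype.ext hb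
  apply inner_of_tw (Y ^ (6 * b)) ψ
  have h1 : tw (Y ^ (6 * b)) ψ Y = Y := by rw [tw_apply, hY]; group
  have h2 : tw (Y ^ (6 * b)) ψ Δ = Δ := by
    rw [tw_apply, hb']; exact conj_normalise3 hΔY hY11 b
  have h3 : tw (Y ^ (6 * b)) ψ Zg = Zg := by
    apply Subtype.ext
    apply eq_z (tw (Y ^ (6 * b)) ψ Zg).2
    · have := congrArg (tw (Y ^ (6 * b)) ψ) hZΔ
      rw [map_mul, map_mul, h2] at this
      exact congrArg Subtype.val this
    · have := congrArg (tw (Y ^ (6 * b)) ψ) hZ2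
      rw [map_mul, map_one] at this
      exact congrArg Subtype.val this
    · intro h
      have e1 : tw (Y ^ (6 * b)) ψ Zg = 1 := Subtype.ext h
      have e2 : Zg = 1 := by
        apply (tw (Y ^ (6 * b)) ψ).injective
        rw [e1, map_one]
      exact Zg_ne_one e2
  apply inner_of_fix closure_gens
  rintro s (rfl | rfl | rfl)
  exacts [h1, h2, h3]

theorem P_of_pm (ψ : G ≃* G) (h : ψ Y = Y ∨ ψ Y = Y⁻¹) : P ψ := by
  rcases h with h | h
  · exact Or.inl (inner_of_fixY ψ h)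
  · right
    apply inner_of_fixY
    show ψ (tau Y) = Y
    rw [tau_Y, map_inv, h, inv_inv]

theorem arith11 : ∀ k < 11, k ≠ 0 → ∃ j : ℕ, (3 ^ j * k) % 11 = 1 ∨ (3 ^ j * k) % 11 = 11 - 1 := by
  intro k hk hk0
  have h : ∀ k < 11, k ≠ 0 → ∃ j < 5, (3 ^ j * k) % 11 = 1 ∨ (3 ^ j * k) % 11 = 10 := by decide
  obtain ⟨j, _, hj⟩ := h k hk hk0
  exact ⟨j, hj⟩

theorem all_P (φ : G ≃* G) : P φ := by
  obtain ⟨g, k, hk⟩ := exists_conj_pow 11 8640 card_G (by norm_num) Y orderOf_Y φ
  apply P_tw g φ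
  have hν : Δ * Y * Δ⁻¹ = Y ^ 3 := by rw [hΔY]; group
  exact pred_of_pow P P_tw Y Δ 3 11 (by norm_num) orderOf_Y hν arith11 P_of_pm (tw g φ) k hk

/-- The outer automorphism group of the Mathieu group M₁₂ has order 2. -/
theorem result : Nat.card (Cfsg.Out ↥Cfsg.Spor.M12) = 2 :=
  card_out_eq_two tau tau_not_inner all_P

end Cfsg.Agent.S2061
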