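import Cfsg.Statements.S2063
import Mathlib
import Cfsg.Agent.Lib.Helper27.M24Aut2
import Cfsg.Agent.Lib.Helper27.M23Gen

set_option autoImplicit false
open scoped Pointwise
open Cfsg

namespace Cfsg.Agent.S2063

open Cfsg.Agent.Helper7 Cfsg.Agent.Helper27.OutAut Cfsg.Agent.Helper27.M24Aut
  Cfsg.Agent.Helper27.M23Gen

abbrev G : Type := ↥Cfsg.Spor.M23

theorem y_fix : yP (none : GolayPt) = none := tab_y.fix 23 (by decide) (by decide)

theorem y_mem23 : yP ∈ Cfsg.Spor.M23 := mem_M23.mpr ⟨y_mem, y_fix⟩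

def X : G := ⟨gShift, shift_mem23⟩
def Yg : G := ⟨yP, y_mem23⟩
noncomputable def Δ : G := ⟨cubeTwist, cubeTwist_mem23⟩

theorem closure_gens : Subgroup.closure ({X, Δ} : Set G) = ⊤ := by
  rw [eq_top_iff]
  intro g _
  have hg : g.1 ∈ Subgroup.closure {gShift, cubeTwist} := by
    rw [closure_eq_M23]; exact g.2
  have hmap : (Subgroup.closure ({X, Δ} : Set G)).map (Cfsg.Spor.M23).subtype =
      Subgroup.closure {gShift, cubeTwist} := by
    rw [MonoidHom.map_closure]
    congr 1
    ext t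
    simp only [Set.mem_image, Set.mem_insert_iff, Set.mem_singleton_iff]
    constructor
    · rintro ⟨s, hs | hs, rfl⟩ <;> rw [hs]
      · left; rfl
      · right; rfl
    · rintro (rfl | rfl)
      · exact ⟨X, Or.inl rfl, rfl⟩
      · exact ⟨Δ, Or.inr rfl, rfl⟩
  rw [← hmap, Subgroup.mem_map] at hg
  obtain ⟨g', hg', hgg'⟩ := hg
  have : g' = g := Subtype.ext hgg'
  rwa [this] at hg'

instance fact23 : Fact (Nat.Prime 23) := ⟨by norm_num⟩

theorem orderOf_X : orderOf X = 23 :=
  orderOf_eq_prime (Subtype.ext x_pow23') (fun h => x_ne_one (congrArg Subtype.val h))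

theorem card_G : Nat.card G = 23 * 443520 := by
  show Nat.card ↥Cfsg.Spor.M23 = _
  rw [card_M23]

theorem hYX : Yg * X = X ^ 2 * Yg := Subtype.ext yx_rel
theorem hΔY : Δ * Yg = Yg ^ 3 * Δ := Subtype.ext dy_rel
theorem hΔ5 : Δ ^ 5 = 1 := Subtype.ext d_pow5
theorem hXΔ : (X * Δ) ^ 6 = 1 := Subtype.ext xd_pow6
theorem hXΔΔ : (X * Δ * Δ) ^ 5 = 1 := Subtype.ext xdd_pow5

/-- An automorphism fixing `Yg` and sending `X` to `X` or `X⁻¹` is the identity. -/
theorem inner_of_fixY (ψ : G ≃* G) (hX : ψ X = X ∨ ψ X = X⁻¹) (hY : ψ Yg = Yg) : Inner ψ := by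
  have hx : (ψ X).1 = gShift ∨ (ψ X).1 = gShift⁻¹ := by
    rcases hX with h | h
    · left; rw [h]; rfl
    · right; rw [h]; rfl
  -- the image of Δ
  have hΔ : (ψ X).1 = gShift ∧ (ψ Δ).1 = cubeTwist := by
    apply lemmaD hx (mem_M23.mp (ψ Δ).2).1
    · have := congrArg ψ hΔY
      rw [map_mul, map_mul, map_pow, hY] at this
      exact congrArg Subtype.val this
    · have := congrArg ψ hΔ5
      rw [map_pow, map_one] at this
      exact congrArg Subtype.val this
    · have := congrArg ψ hXΔ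
      rw [map_pow, map_mul, map_one] at this
      exact congrArg Subtype.val this
    · have := congrArg ψ hXΔΔ
      rw [map_pow, map_mul, map_mul, map_one] at this
      exact congrArg Subtype.val this
  apply inner_of_fix closure_gens
  rintro s (rfl | rfl)
  · exact Subtype.ext hΔ.1
  · exact Subtype.ext hΔ.2

theorem inner_of_pm (φ : G ≃* G) (hX : φ X = X ∨ φ X = X⁻¹) : Inner φ := by
  have hrel : φ Yg * X = X ^ 2 * φ Yg := by
    have := congrArg φ hYX
    rw [map_mul, map_mul, map_pow] at this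
    rcases hX with h | h
    · rwa [h] at this
    · rw [h] at this
      exact rel_of_inv this
  obtain ⟨b, hb⟩ := eq_of_conj_x (congrArg Subtype.val hrel)
  have hb' : φ Yg = X ^ b * Yg := Subtype.ext hb
  apply inner_of_tw (X ^ b) φ
  apply inner_of_fixY
  · rw [tw_apply]
    rcases hX with h | h
    · left; rw [h]; group
    · right; rw [h]; group
  · rw [tw_apply, hb']
    exact conj_normalise hYX b

theorem all_inner (φ : G ≃* G) : Inner φ := by
  obtain ⟨g, k, hk⟩ := exists_conj_pow 23 443520 card_G (by norm_num) X orderOf_X φ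
  apply inner_of_tw g φ
  have hν : Yg * X * Yg⁻¹ = X ^ 2 := by rw [hYX]; group
  exact inner_of_pow X Yg 2 23 (by norm_num) orderOf_X hν arith23 inner_of_pm (tw g φ) k hk

/-- The outer automorphism group of the Mathieu group M₂₃ is trivial. -/
theorem result : Nat.card (Cfsg.Out ↥Cfsg.Spor.M23) = 1 := card_out_eq_one all_inner

end Cfsg.Agent.S2063
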