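import Cfsg.Statements.S3950
import Mathlib
import Cfsg.Agent.Lib.Helper65.Stem
import Cfsg.Agent.Lib.Helper65.StemPullback
import Cfsg.Agent.Lib.Helper65.Abelian
import Cfsg.Agent.S3951

set_option autoImplicit false
open Cfsg

namespace Cfsg.Agent.S3950

open Cfsg.Agent.Helper65 Cfsg.Agent.S3951

/-- A finite abelian group has trivial Schur multiplier if and only if it is cyclic. -/
theorem result {G : Type*} [CommGroup G] [Finite G] : Cfsg.HasCyclicSchurMultiplier G 1 ↔ IsCyclic G := by
  constructor
  · intro hM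
    by_contra hnc
    obtain ⟨p, hp, χ, hχ⟩ := exists_surj_zmod_sq_of_not_cyclic G hnc
    have : NeZero p := ⟨hp.ne_zero⟩
    have hstem := pullbackFst_stem χ hχ (Heis.proj (m := p) (n := p) (h := dvd_refl p)) Heis.proj_stem
    obtain ⟨π, hπ⟩ := hM.2 (pullback χ (Heis.proj (m := p) (n := p) (h := dvd_refl p)))
      (pullbackFst χ _) hstem
    have hne : (pullbackFst χ (Heis.proj (m := p) (n := p) (h := dvd_refl p))).ker ≠ ⊥ := by
      apply pullbackFst_ker_ne_bot χ _ (⟨0, 0, 1⟩ : Heis p p (dvd_refl p))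
      · rw [Heis.mem_ker_proj]; exact ⟨rfl, rfl⟩
      · intro h
        have hc1 := congrArg Heis.c h
        simp only [Heis.one_c] at hc1
        have : Fact p.Prime := ⟨hp⟩
        exact one_ne_zero hc1
    apply hne
    rw [eq_bot_iff]
    intro z hz
    obtain ⟨k, hk⟩ := hπ ⟨z, hz⟩
    have hk1 : k = 1 := Subsingleton.elim (α := ZMod 1) _ _
    rw [hk1, map_one] at hk
    rw [Subgroup.mem_bot]
    have := congrArg Subtype.val hk
    simpa using this.symm
  · intro hc
    apply trivial_multiplier_of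
    intro Γ _ _ σ hσ
    have hcomm' := MonoidHom.isMulCommutative_of_isCyclic_of_ker_le_center σ hσ.2.1
    have hcomm : ∀ a b : Γ, a * b = b * a := fun a b => hcomm'.is_comm.comm a b
    rw [eq_bot_iff]
    refine hσ.2.2.trans ?_
    rw [commutator_eq_closure, Subgroup.closure_le]
    rintro _ ⟨a, b, rfl⟩
    rw [SetLike.mem_coe, Subgroup.mem_bot, commutatorElement_def, hcomm a b]
    group

end Cfsg.Agent.S3950
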