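import Cfsg.Statements.S3964
import Mathlib
import Cfsg.Agent.Lib.Helper65.Stem

set_option autoImplicit false
open Cfsg

namespace Cfsg.Agent.S3964

open DihedralGroup

theorem closure_gens (n : ℕ) : Subgroup.closure ({r 1, sr 0} : Set (DihedralGroup n)) = ⊤ := by
  rw [eq_top_iff]
  intro g _
  have hr : (r 1 : DihedralGroup n) ∈ Subgroup.closure ({r 1, sr 0} : Set (DihedralGroup n)) :=
    Subgroup.subset_closure (by simp)
  have hs : (sr 0 : DihedralGroup n) ∈ Subgroup.closure ({r 1, sr 0} : Set (DihedralGroup n)) :=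
    Subgroup.subset_closure (by simp)
  have hri : ∀ i : ZMod n, (r i : DihedralGroup n) ∈ Subgroup.closure ({r 1, sr 0} : Set (DihedralGroup n)) := by
    intro i
    have : (r i : DihedralGroup n) = (r 1) ^ (ZMod.cast i : ℤ) := by
      rw [r_one_zpow]; simp
    rw [this]
    exact Subgroup.zpow_mem _ hr _
  cases g with
  | r i => exact hri i
  | sr i =>
    have : (sr i : DihedralGroup n) = sr 0 * r i := by rw [sr_mul_r, zero_add]
    rw [this]
    exact Subgroup.mul_mem _ hs (hri i)

/-- For odd `n` the dihedral group of order `2 n` has trivial Schur multiplier. -/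
theorem result (n : ℕ) (hn : Odd n) : Cfsg.HasCyclicSchurMultiplier (DihedralGroup n) 1 := by
  have : NeZero n := ⟨by rintro rfl; simp at hn⟩
  apply Cfsg.Agent.Helper65.trivial_multiplier_of
  intro Γ _ _ σ hσ
  apply Cfsg.Agent.Helper65.stem_dt_ker_eq_bot σ hσ (r 1) (sr 0) (closure_gens n) ?_ n 0 ?_ ?_
  · simp
  · rw [pow_zero, r_one_pow_n]
  · intro i hi
    have hb : (sr 0 * r 1 * (sr 0)⁻¹ * (r 1)⁻¹ : DihedralGroup n) = r (-2) := by
      simp only [sr_mul_r, inv_sr, sr_mul_sr, inv_r, r_mul_r, zero_add, zero_sub]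
      congr 1; ring
    rw [hb, r_zpow, one_def] at hi
    have h0 : ((-2 : ZMod n) * (i : ZMod n)) = 0 := by
      injection hi
    have h1 : (((-2 * i : ℤ)) : ZMod n) = 0 := by
      push_cast; exact h0
    rw [ZMod.intCast_zmod_eq_zero_iff_dvd] at h1
    have hcop : IsCoprime (n : ℤ) (-2 : ℤ) := by
      rw [IsCoprime.neg_right_iff]
      have : Nat.Coprime n 2 := (Nat.coprime_two_right).2 hn
      exact_mod_cast Nat.isCoprime_iff_coprime.2 this
    exact hcop.dvd_of_dvd_mul_left h1

end Cfsg.Agent.S3964
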