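import Cfsg.Statements.S3965
import Mathlib
import Cfsg.Agent.Lib.Helper65.Stem
import Cfsg.Agent.S3964

set_option autoImplicit false
open Cfsg

namespace Cfsg.Agent.S3965

open DihedralGroup
open scoped commutatorElement

/-- reduction ring hom `ZMod (2n) → ZMod n` -/
noncomputable def red (n : ℕ) : ZMod (2 * n) →+* ZMod n :=
  ZMod.castHom (dvd_mul_left n 2) (ZMod n)

/-- the natural map `D_{2n} → D_n` -/
noncomputable def phi (n : ℕ) : DihedralGroup (2 * n) →* DihedralGroup n where
  toFun g := match g with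
    | r i => r (red n i)
    | sr i => sr (red n i)
  map_one' := by
    show r (red n 0) = 1
    rw [map_zero]; rfl
  map_mul' x y := by
    cases x <;> cases y <;> simp [r_mul_r, r_mul_sr, sr_mul_r, sr_mul_sr, map_add, map_sub]

theorem phi_r (n : ℕ) (i : ZMod (2 * n)) : phi n (r i) = r (red n i) := rfl
theorem phi_sr (n : ℕ) (i : ZMod (2 * n)) : phi n (sr i) = sr (red n i) := rfl

theorem phi_surj (n : ℕ) : Function.Surjective (phi n) := by
  intro g
  cases g with
  | r i =>
    obtain ⟨j, hj⟩ := ZMod.ringHom_surjective (red n) i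
    exact ⟨r j, by rw [phi_r, hj]⟩
  | sr i =>
    obtain ⟨j, hj⟩ := ZMod.ringHom_surjective (red n) i
    exact ⟨sr j, by rw [phi_sr, hj]⟩

theorem mem_ker_phi (n : ℕ) [NeZero n] (g : DihedralGroup (2 * n)) (hg : g ∈ (phi n).ker) :
    ∃ k : ℕ, g = r ((n : ZMod (2 * n)) * (k : ZMod (2 * n))) := by
  rw [MonoidHom.mem_ker] at hg
  cases g with
  | r i =>
    rw [phi_r, one_def] at hg
    have h0 : red n i = 0 := by injection hg
    have h1 : ((i.val : ℕ) : ZMod n) = 0 := by
      have : red n i = ((i.val : ℕ) : ZMod n) := by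
        conv_lhs => rw [← ZMod.natCast_zmod_val i]
        rw [map_natCast]
      rw [← this, h0]
    rw [ZMod.natCast_eq_zero_iff] at h1
    obtain ⟨k, hk⟩ := h1
    refine ⟨k, ?_⟩
    congr 1
    conv_lhs => rw [← ZMod.natCast_zmod_val i, hk]
    push_cast; rfl
  | sr i =>
    rw [phi_sr, one_def] at hg
    cases hg

theorem two_n (n : ℕ) : (2 : ZMod (2 * n)) * (n : ZMod (2 * n)) = 0 := by
  have : ((2 * n : ℕ) : ZMod (2 * n)) = 0 := ZMod.natCast_self _
  rw [← this]; push_cast; ring

theorem phi_stem (n : ℕ) [NeZero n] (hn : Even n) : Cfsg.IsStemExtension (phi n) := by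
  refine ⟨phi_surj n, ?_, ?_⟩
  · intro g hg
    obtain ⟨k, rfl⟩ := mem_ker_phi n g hg
    rw [Subgroup.mem_center_iff]
    intro h
    cases h with
    | r j => rw [r_mul_r, r_mul_r, add_comm]
    | sr j =>
      rw [r_mul_sr, sr_mul_r]
      congr 1
      have := two_n n
      linear_combination ((k : ZMod (2 * n))) * this
  · intro g hg
    obtain ⟨k, rfl⟩ := mem_ker_phi n g hg
    obtain ⟨m, hm⟩ := hn
    have h1 : (r (n : ZMod (2 * n)) : DihedralGroup (2 * n)) ∈ commutator (DihedralGroup (2 * n)) := by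
      have : (r (n : ZMod (2 * n)) : DihedralGroup (2 * n)) = ⁅(sr (0 : ZMod (2 * n)) : DihedralGroup (2 * n)), r (-(m : ZMod (2 * n)))⁆ := by
        rw [commutatorElement_def]
        simp only [sr_mul_r, inv_sr, sr_mul_sr, inv_r, r_mul_r, zero_add, zero_sub, neg_neg]
        congr 1
        rw [hm]; push_cast; ring
      rw [this, commutator_eq_closure]
      exact Subgroup.subset_closure (commutator_mem_commutatorSet _ _)
    have h2 : (r ((n : ZMod (2 * n)) * (k : ZMod (2 * n))) : DihedralGroup (2 * n)) = (r (n : ZMod (2 * n))) ^ k := by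
      rw [r_pow]
    rw [h2]
    exact Subgroup.pow_mem _ h1 k

theorem card_ker_phi (n : ℕ) [NeZero n] : Nat.card (phi n).ker = 2 := by
  have h1 := Subgroup.card_mul_index (phi n).ker
  rw [Subgroup.index_ker, MonoidHom.range_eq_top.2 (phi_surj n), Subgroup.card_top, nat_card,
    nat_card] at h1
  have hn : 0 < n := Nat.pos_of_ne_zero (NeZero.ne n)
  have : Nat.card (phi n).ker * (2 * n) = 2 * (2 * n) := h1
  exact Nat.eq_of_mul_eq_mul_right (by omega) this

/-- For even `n ≥ 2` the dihedral group of order `2 n` has Schur multiplier cyclic of order `2`. -/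
theorem result (n : ℕ) [NeZero n] (hn : Even n) : Cfsg.HasCyclicSchurMultiplier (DihedralGroup n) 2 := by
  constructor
  · haveI : NeZero (2 * n) := ⟨by have := NeZero.ne n; omega⟩
    have : Fact (Nat.Prime 2) := ⟨Nat.prime_two⟩
    refine ⟨DihedralGroup (2 * n), inferInstance, inferInstance, phi n, phi_stem n hn, ⟨?_⟩⟩
    exact mulEquivOfPrimeCardEq (card_ker_phi n) (by simp [Nat.card_eq_fintype_card])
  · intro Γ _ _ σ hσ
    have hconj : (sr 0 * r 1 * (sr 0)⁻¹ : DihedralGroup n) = (r 1)⁻¹ := by simp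
    obtain ⟨a, ha⟩ := hσ.1 (r 1)
    obtain ⟨x, hx⟩ := hσ.1 (sr 0)
    exact Cfsg.Agent.Helper65.exists_surj_of_le_zpowers σ.ker (x * a * x⁻¹ * a⁻¹)
      (Cfsg.Agent.Helper65.stem_dt_ker_le σ hσ (r 1) (sr 0) (Cfsg.Agent.S3964.closure_gens n) hconj a x ha hx)
      2 (Cfsg.Agent.Helper65.stem_dt_sq σ hσ (r 1) (sr 0) (Cfsg.Agent.S3964.closure_gens n) hconj a x ha hx)

end Cfsg.Agent.S3965
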