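import Cfsg.Statements.S2087
import Mathlib
import Cfsg.Agent.Lib.Helper65.SylowMult
import Cfsg.Agent.Lib.Helper65.MultPres
import Cfsg.Agent.S0495
import Cfsg.Agent.S1004
import Cfsg.Agent.S3965
import Cfsg.Agent.S3950
import Cfsg.Agent.Lib.Helper39.Families
import Cfsg.Agent.Lib.Helper5.PSL
import Cfsg.Agent.Lib.Helper5.SLCard

set_option autoImplicit false
open Cfsg

namespace Cfsg.Agent.S2087

open Cfsg.Agent.Helper65

universe u

/-- a finite cyclic group has trivial Schur multiplier -/
theorem trivial_mult_of_isCyclic (Q : Type u) [Group Q] [Finite Q] [hQ : IsCyclic Q] :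
    Cfsg.HasCyclicSchurMultiplier Q 1 := by
  have hne : NeZero (Nat.card Q) := ⟨Nat.card_pos.ne'⟩
  have e : Multiplicative (ZMod (Nat.card Q)) ≃* Q := zmodCyclicMulEquiv hQ
  have hfin : Finite (Multiplicative (ZMod (Nat.card Q))) :=
    inferInstanceAs (Finite (ZMod (Nat.card Q)))
  have h := (Cfsg.Agent.S3950.result (G := Multiplicative (ZMod (Nat.card Q)))).2 inferInstance
  exact hasSchurMultiplier_of_mulEquiv e h

/-- a group of order 2 is `ZMod 2` -/
theorem equiv_zmod2 (K : Type*) [Group K] (hK : Nat.card K = 2) :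
    Nonempty (K ≃* Multiplicative (ZMod 2)) := by
  have : Fact (Nat.Prime 2) := ⟨Nat.prime_two⟩
  have hc : IsCyclic K := isCyclic_of_prime_card hK
  have e := zmodCyclicMulEquiv hc
  rw [hK] at e
  exact ⟨e.symm⟩

/-- Exceptional Schur multiplier: over the field with 2 elements, PSL₃ has Schur multiplier cyclic of order 2 (here the Schur multiplier is described through stem extensions, as in the definitions). -/
theorem result {F : Type*} [Field F] [Fintype F] (hF : Fintype.card F = 2) : Cfsg.HasCyclicSchurMultiplier (Matrix.ProjectiveSpecialLinearGroup (Fin 3) F) 2 := by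
  classical
  have hsimple : IsSimpleGroup (Matrix.ProjectiveSpecialLinearGroup (Fin 3) F) :=
    Cfsg.Agent.Helper5.psl_isSimpleGroup (by simp)
  have hcard : Nat.card (Matrix.ProjectiveSpecialLinearGroup (Fin 3) F) = 168 := by
    have h := Cfsg.Agent.Helper5.card_PSL_mul hF 3 (by norm_num)
    have e1 : ∏ i : Fin 3, (2 ^ 3 - 2 ^ (i : ℕ)) = 168 := by
      rw [Fin.prod_univ_three]; norm_num
    have e2 : Nat.gcd 3 (2 - 1) = 1 := by norm_num
    rw [e1, e2, show (2 : ℕ) - 1 = 1 from rfl, mul_one, mul_one] at h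
    exact h
  have hfin : Finite (Matrix.ProjectiveSpecialLinearGroup (Fin 3) F) :=
    Nat.finite_of_card_ne_zero (by rw [hcard]; norm_num)
  have : Fact (Nat.Prime 2) := ⟨Nat.prime_two⟩
  -- upper bound
  obtain ⟨P₂⟩ : Nonempty (Sylow 2 (Matrix.ProjectiveSpecialLinearGroup (Fin 3) F)) := inferInstance
  obtain ⟨⟨eD⟩, -, -⟩ := Cfsg.Agent.S1004.result hcard P₂
  have hD : Cfsg.HasCyclicSchurMultiplier (DihedralGroup 4) 2 :=
    Cfsg.Agent.S3965.result 4 (by decide)
  have hP₂ : Cfsg.HasCyclicSchurMultiplier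
      (P₂ : Subgroup (Matrix.ProjectiveSpecialLinearGroup (Fin 3) F)) 2 :=
    hasSchurMultiplier_of_mulEquiv eD.symm hD
  have hcardP₂ : Nat.card (mult (fp (P₂ : Subgroup (Matrix.ProjectiveSpecialLinearGroup (Fin 3) F)))) = 2 := by
    rw [card_mult_of_hasSchurMultiplier hP₂]
    show Nat.card (ZMod 2) = 2
    simp
  have hle : Nat.card (mult (fp (Matrix.ProjectiveSpecialLinearGroup (Fin 3) F))) ≤ 2 := by
    rw [← hcardP₂]
    apply card_mult_le_of_sylow 2 P₂
    intro q hq hq2 hqG
    have : Fact q.Prime := ⟨hq⟩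
    obtain ⟨Q⟩ : Nonempty (Sylow q (Matrix.ProjectiveSpecialLinearGroup (Fin 3) F)) := inferInstance
    refine ⟨Q, Q.not_dvd_index, ?_⟩
    have hQcard : Nat.card (Q : Subgroup (Matrix.ProjectiveSpecialLinearGroup (Fin 3) F)) = q := by
      rw [Sylow.card_eq_multiplicity, hcard]
      rw [hcard] at hqG
      have h168 : (168 : ℕ) = 2 ^ 3 * 3 * 7 := by norm_num
      have hq37 : q = 3 ∨ q = 7 := by
        rw [h168] at hqG
        rcases (Nat.Prime.dvd_mul hq).1 hqG with h | h
        · rcases (Nat.Prime.dvd_mul hq).1 h with h | h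
          · exact absurd ((Nat.prime_dvd_prime_iff_eq hq Nat.prime_two).1 (hq.dvd_of_dvd_pow h)) hq2
          · left; exact (Nat.prime_dvd_prime_iff_eq hq Nat.prime_three).1 h
        · right; exact (Nat.prime_dvd_prime_iff_eq hq (by norm_num)).1 h
      rcases hq37 with rfl | rfl
      · have : (168 : ℕ).factorization 3 = 1 := by
          rw [show (168 : ℕ) = 3 * 56 by norm_num]
          rw [Nat.factorization_mul (by norm_num) (by norm_num)]
          simp [Nat.Prime.factorization_self Nat.prime_three,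
            Nat.factorization_eq_zero_of_not_dvd (show ¬ 3 ∣ 56 by norm_num)]
        rw [this, pow_one]
      · have : (168 : ℕ).factorization 7 = 1 := by
          rw [show (168 : ℕ) = 7 * 24 by norm_num]
          rw [Nat.factorization_mul (by norm_num) (by norm_num)]
          simp [Nat.Prime.factorization_self (show Nat.Prime 7 by norm_num),
            Nat.factorization_eq_zero_of_not_dvd (show ¬ 7 ∣ 24 by norm_num)]
        rw [this, pow_one]
    have hcyc : IsCyclic (Q : Subgroup (Matrix.ProjectiveSpecialLinearGroup (Fin 3) F)) :=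
      isCyclic_of_prime_card hQcard
    exact trivial_mult_of_isCyclic _
  -- lower bound: the cover SL₂(7)
  have : Fact (Nat.Prime 7) := ⟨by norm_num⟩
  have h7 : Fintype.card (ZMod 7) = 7 := ZMod.card 7
  obtain ⟨e⟩ := Cfsg.Agent.S0495.result hcard (F := ZMod 7) h7
  set S := Matrix.SpecialLinearGroup (Fin 2) (ZMod 7) with hS
  let σ₀ : S →* Matrix.ProjectiveSpecialLinearGroup (Fin 2) (ZMod 7) :=
    QuotientGroup.mk' (Subgroup.center S)
  have hσ₀ : Cfsg.IsStemExtension σ₀ := by
    refine ⟨QuotientGroup.mk'_surjective _, ?_, ?_⟩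
    · rw [QuotientGroup.ker_mk']
    · rw [Cfsg.Agent.Helper39.sl2_perfect (F := ZMod 7) (by rw [h7]; norm_num)]
      exact le_top
  have hcardS : Nat.card S = 336 := by
    have h := Cfsg.Agent.Helper5.card_SL_mul h7 2 (by norm_num)
    have e1 : ∏ i : Fin 2, (7 ^ 2 - 7 ^ (i : ℕ)) = 2016 := by
      rw [Fin.prod_univ_two]; norm_num
    rw [e1] at h
    show Nat.card (Matrix.SpecialLinearGroup (Fin 2) (ZMod 7)) = 336
    omega
  have hcardPSL : Nat.card (Matrix.ProjectiveSpecialLinearGroup (Fin 2) (ZMod 7)) = 168 := by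
    rw [← Nat.card_congr e.toEquiv, hcard]
  have hcardker : Nat.card σ₀.ker = 2 := by
    rw [QuotientGroup.ker_mk']
    have h := Subgroup.card_eq_card_quotient_mul_card_subgroup (Subgroup.center S)
    rw [hcardS] at h
    have h2 : Nat.card (S ⧸ Subgroup.center S) = 168 := hcardPSL
    rw [h2] at h
    omega
  obtain ⟨hstem, ⟨ek⟩⟩ := stem_transport σ₀ hσ₀ e.symm (MulEquiv.refl S)
  obtain ⟨f, hf⟩ := exists_mult_surj (fp (Matrix.ProjectiveSpecialLinearGroup (Fin 3) F))
    (fp_surj _) _ hstem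
  have hfinM : Finite (mult (fp (Matrix.ProjectiveSpecialLinearGroup (Fin 3) F))) := mult_finite _
  have hge : 2 ≤ Nat.card (mult (fp (Matrix.ProjectiveSpecialLinearGroup (Fin 3) F))) := by
    rw [← hcardker, ← Nat.card_congr ek.toEquiv]
    exact Nat.card_le_card_of_surjective f hf
  have hM : Nat.card (mult (fp (Matrix.ProjectiveSpecialLinearGroup (Fin 3) F))) = 2 :=
    le_antisymm hle hge
  obtain ⟨eM⟩ := equiv_zmod2 _ hM
  exact hasSchurMultiplier_of_mult_equiv (fp _) (fp_surj _) eM

end Cfsg.Agent.S2087
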