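import Cfsg.Statements.S3391
import Mathlib
import Cfsg.Agent.Lib.Helper39.SzFixity

set_option autoImplicit false
open Cfsg

namespace Cfsg.Agent.S3391

open Cfsg.Agent.Helper39

/-- The two realisations of the Suzuki group are isomorphic. -/
noncomputable def lieIso {F : Type*} [Field F] [Fintype F] (m : ℕ) (hm : 1 ≤ m)
    (hF : Fintype.card F = 2 ^ (2 * m + 1)) :
    ↥(Cfsg.Lie.Sz F (2 ^ (m + 1))) ≃* ↥(Cfsg.Sz F m) :=
  MulEquiv.ofBijective
    ((lieSzModel (titsHyp_of_card m hF)).emb (cfsgSzModel m hm hF) (RingHom.id F) (fun _ => rfl))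
    ⟨SzModel.emb_injective _ _ _ _, fun g => by
      have := (SzModel.mem_range_emb_iff (lieSzModel (titsHyp_of_card m hF))
        (cfsgSzModel m hm hF) (RingHom.id F) (fun _ => rfl) g).mpr (fun i j => ⟨_, rfl⟩)
      exact this⟩

/-- Let q = 2^{2m+1} ≥ 8 and let G be isomorphic to the Suzuki group Sz(q). If G acts faithfully and transitively on a finite set Ω with fixity 2 (every non-identity element fixes at most two points, and some fixes exactly two), then either |Ω| = q² + 1 and the action is 2-transitive, or |Ω| = q²(q² + 1) and the point stabilizers have order q − 1. -/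
theorem result {G : Type*} [Group G] [Finite G] (F : Type) [Field F] [Fintype F] (m : ℕ) (hm : 1 ≤ m) (hF : Fintype.card F = 2 ^ (2 * m + 1))
    (e : G ≃* ↥(Cfsg.Lie.Sz F (2 ^ (m + 1)))) {Ω : Type*} [Fintype Ω] [MulAction G Ω] [FaithfulSMul G Ω] (htr : MulAction.IsPretransitive G Ω)
    (hfix : ∀ g : G, g ≠ 1 → Nat.card (MulAction.fixedBy Ω g) ≤ 2) (hex : ∃ g : G, g ≠ 1 ∧ Nat.card (MulAction.fixedBy Ω g) = 2) :
    (Fintype.card Ω = Fintype.card F ^ 2 + 1 ∧ MulAction.IsMultiplyPretransitive G Ω 2) ∨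
    (Fintype.card Ω = Fintype.card F ^ 2 * (Fintype.card F ^ 2 + 1) ∧ ∀ α : Ω, Nat.card (MulAction.stabilizer G α) = Fintype.card F - 1) := by
  classical
  set e' : G ≃* ↥(Cfsg.Sz F m) := e.trans (lieIso m hm hF) with he'
  let _ : MulAction ↥(Cfsg.Sz F m) Ω :=
    MulAction.compHom Ω (e'.symm : ↥(Cfsg.Sz F m) →* G)
  have hsmul : ∀ (s : ↥(Cfsg.Sz F m)) (ω : Ω), s • ω = e'.symm s • ω := fun _ _ => rfl
  have htr' : MulAction.IsPretransitive ↥(Cfsg.Sz F m) Ω := ⟨fun a b => by
    obtain ⟨g, hg⟩ := htr.exists_smul_eq a b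
    exact ⟨e' g, by rw [hsmul, e'.symm_apply_apply]; exact hg⟩⟩
  have hfixset : ∀ s : ↥(Cfsg.Sz F m),
      MulAction.fixedBy Ω s = MulAction.fixedBy Ω (e'.symm s) := by
    intro s
    ext ω
    simp only [MulAction.mem_fixedBy, hsmul]
  have hfix' : ∀ s : ↥(Cfsg.Sz F m), s ≠ 1 → Nat.card (MulAction.fixedBy Ω s) ≤ 2 := by
    intro s hs
    rw [hfixset]
    apply hfix
    intro h0
    apply hs
    have := congrArg e' h0
    simpa using this
  have hex' : ∃ s : ↥(Cfsg.Sz F m), s ≠ 1 ∧ Nat.card (MulAction.fixedBy Ω s) = 2 := by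
    obtain ⟨g, hg1, hg2⟩ := hex
    refine ⟨e' g, ?_, ?_⟩
    · intro h0
      apply hg1
      have := congrArg e'.symm h0
      simpa using this
    · rw [hfixset, e'.symm_apply_apply]
      exact hg2
  rcases SzFix.fixity_two_full hm hF hfix' hex' with ⟨h1, h2⟩ | ⟨h1, h2⟩
  · left
    refine ⟨h1, ?_⟩
    rw [MulAction.is_two_pretransitive_iff] at h2 ⊢
    intro a b c d hab hcd
    obtain ⟨s, hs1, hs2⟩ := h2 hab hcd
    exact ⟨e'.symm s, hs1, hs2⟩
  · right
    refine ⟨h1, fun α => ?_⟩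
    rw [← h2 α]
    apply Nat.card_congr
    exact
      { toFun := fun g => ⟨e' g.1, by
          rw [MulAction.mem_stabilizer_iff, hsmul, e'.symm_apply_apply]
          exact g.2⟩
        invFun := fun s => ⟨e'.symm s.1, s.2⟩
        left_inv := fun g => Subtype.ext (e'.symm_apply_apply g.1)
        right_inv := fun s => Subtype.ext (e'.apply_symm_apply s.1) }

end Cfsg.Agent.S3391
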