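import Cfsg.Statements.S2111
import Mathlib
import Cfsg.Agent.Lib.Helper39.SzMult4
import Cfsg.Agent.S3391

set_option autoImplicit false
open Cfsg

namespace Cfsg.Agent.S2111

open Cfsg.Agent.Helper39

/-- Schur multipliers of the Suzuki groups: for q = 2^(2m+1) with m ≥ 2 the Schur multiplier of Sz(q) is trivial (here the Schur multiplier is described through stem extensions, as in the definitions); q = 8 is exceptional. -/
theorem result {F : Type*} [Field F] [Fintype F] {m : ℕ} (hm : 2 ≤ m) (hF : Fintype.card F = 2 ^ (2 * m + 1)) : Cfsg.HasCyclicSchurMultiplier ↥(Cfsg.Lie.Sz F (2 ^ (m + 1))) 1 := by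
  classical
  have hm1 : 1 ≤ m := by omega
  have hfin : Finite ↥(Cfsg.Lie.Sz F (2 ^ (m + 1))) :=
    (lieSzModel (titsHyp_of_card m hF)).finite_G
  refine ⟨⟨↥(Cfsg.Lie.Sz F (2 ^ (m + 1))), inferInstance, hfin,
    MonoidHom.id _, ⟨Function.surjective_id, ?_, ?_⟩, ?_⟩, ?_⟩
  · intro x hx
    have : x = 1 := by simpa [MonoidHom.mem_ker] using hx
    subst this
    exact Subgroup.one_mem _
  · intro x hx
    have : x = 1 := by simpa [MonoidHom.mem_ker] using hx
    subst this
    exact Subgroup.one_mem _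
  · have h1 : Subsingleton ↥(MonoidHom.id ↥(Cfsg.Lie.Sz F (2 ^ (m + 1)))).ker := by
      constructor
      rintro ⟨a, ha⟩ ⟨b, hb⟩
      have ha' : a = 1 := by simpa [MonoidHom.mem_ker] using ha
      have hb' : b = 1 := by simpa [MonoidHom.mem_ker] using hb
      subst ha' hb'
      rfl
    have h2 : Subsingleton (Multiplicative (ZMod 1)) := by
      change Subsingleton (ZMod 1)
      infer_instance
    refine ⟨⟨⟨fun _ => 1, fun _ => 1, ?_, ?_⟩, ?_⟩⟩
    · intro x; exact Subsingleton.elim _ _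
    · intro x; exact Subsingleton.elim _ _
    · intro x y; exact Subsingleton.elim _ _
  · intro Γ _ _ σ hσ
    obtain ⟨hsurj, hcen, hcomm⟩ := hσ
    set e := Cfsg.Agent.S3391.lieIso m hm1 hF with he
    set σ' : Γ →* ↥(Cfsg.Sz F m) := e.toMonoidHom.comp σ with hσ'
    have hkk : σ'.ker = σ.ker := by
      ext x
      simp only [MonoidHom.mem_ker, hσ', MonoidHom.comp_apply, MulEquiv.coe_toMonoidHom]
      exact e.map_eq_one_iff
    have hsurj' : Function.Surjective σ' := by
      intro g
      obtain ⟨x, hx⟩ := hsurj (e.symm g)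
      exact ⟨x, by simp [hσ', hx]⟩
    have hbot : σ'.ker = ⊥ :=
      Mult.stem_ker_eq_bot hm hF σ' hsurj' (hkk ▸ hcen) (hkk ▸ hcomm)
    rw [hkk] at hbot
    have hker : ∀ x : σ.ker, x = 1 := by
      rintro ⟨x, hx⟩
      have : x ∈ (⊥ : Subgroup Γ) := hbot ▸ hx
      rw [Subgroup.mem_bot] at this
      subst this
      rfl
    refine ⟨1, ?_⟩
    intro y
    exact ⟨1, (hker y).symm ▸ rfl⟩

end Cfsg.Agent.S2111
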