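import Mathlib
import Cfsg.Statements.S2117
import Cfsg.Agent.Lib.Helper65.SL2Borel2
import Cfsg.Agent.Lib.Helper65.MultTransport
import Cfsg.Agent.Lib.Helper5.SL2Cyclic
import Cfsg.Agent.Lib.Helper53.UniqueInvol4
import Cfsg.Agent.S3963
-- import your own Cfsg.Agent.* helpers here

set_option autoImplicit false
open Cfsg

namespace Cfsg.Agent.S2117

open Cfsg.Agent.Helper65 in
theorem exists_unit_sq_ne_one {F : Type*} [Field F] [Fintype F] (hcard : 4 ≤ Fintype.card F) :
    ∃ a : Fˣ, (a : F) ^ 2 ≠ 1 := by
  classical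
  open Polynomial in
  set P : F[X] := X * (X ^ 2 - 1) with hP
  have hmon : P.Monic := by rw [hP]; monicity!
  have hdeg : P.natDegree ≤ 3 := by rw [hP]; compute_degree
  obtain ⟨a, ha⟩ := SL2Mult.exists_not_root P hmon.ne_zero (by omega)
  rw [hP] at ha
  simp only [Polynomial.eval_mul, Polynomial.eval_sub, Polynomial.eval_pow, Polynomial.eval_X,
    Polynomial.eval_one] at ha
  have ha0 : a ≠ 0 := fun h => ha (by rw [h]; ring)
  have ha1 : a ^ 2 - 1 ≠ 0 := fun h => ha (by rw [h]; ring)
  exact ⟨Units.mk0 a ha0, by rw [Units.val_mk0]; exact fun h => ha1 (by rw [h]; ring)⟩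

open Cfsg.Agent.Helper65 in
theorem good_of_card {F : Type*} [Field F] [Fintype F] (p : ℕ) [Fact p.Prime] [CharP F p]
    (hnp : ¬ (Fintype.card F).Prime) (h4 : Fintype.card F ≠ 4) (h9 : Fintype.card F ≠ 9) :
    BorelAbs.Good F ∧ 8 ≤ Fintype.card F := by
  have hp : p.Prime := Fact.out
  obtain ⟨e, -, he⟩ := FiniteField.card F p
  have he1 : (e : ℕ) ≠ 1 := by
    intro h
    apply hnp
    rw [he, h, pow_one]
    exact hp
  have he2 : 2 ≤ (e : ℕ) := by
    have := e.pos
    omega
  by_cases hp2 : p = 2
  · have he3 : 3 ≤ (e : ℕ) := by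
      rcases Nat.lt_or_ge (e : ℕ) 3 with h | h
      · exfalso
        have : (e : ℕ) = 2 := by omega
        apply h4
        rw [he, this, hp2]
        norm_num
      · exact h
    have h8 : 8 ≤ Fintype.card F := by
      rw [he, hp2]
      calc 8 = 2 ^ 3 := by norm_num
        _ ≤ 2 ^ (e : ℕ) := Nat.pow_le_pow_right (by norm_num) he3
    have hchar : ringChar F = 2 := by
      rw [← hp2]
      exact ringChar.eq F p
    exact ⟨BorelAbs.good_of_char_two hchar h8, h8⟩
  · have h2F : (2 : F) ≠ 0 := by
      intro h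
      have h' : ((2 : ℕ) : F) = 0 := by exact_mod_cast h
      rw [CharP.cast_eq_zero_iff F p 2] at h'
      exact hp2 ((Nat.prime_dvd_prime_iff_eq hp Nat.prime_two).1 h')
    have hp3 : 3 ≤ p := by
      have := hp.two_le
      omega
    have h14 : 14 ≤ Fintype.card F := by
      rw [he]
      rcases Nat.lt_or_ge p 4 with h | h
      · have hp3' : p = 3 := by omega
        have he3 : 3 ≤ (e : ℕ) := by
          rcases Nat.lt_or_ge (e : ℕ) 3 with h' | h'
          · exfalso
            have : (e : ℕ) = 2 := by omega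
            apply h9
            rw [he, this, hp3']
            norm_num
          · exact h'
        rw [hp3']
        calc 14 ≤ 3 ^ 3 := by norm_num
          _ ≤ 3 ^ (e : ℕ) := Nat.pow_le_pow_right (by norm_num) he3
      · have hp5 : 5 ≤ p := by
          rcases Nat.lt_or_ge p 5 with h' | h'
          · exfalso
            have : p = 4 := by omega
            rw [this] at hp
            exact absurd hp (by norm_num)
          · exact h'
        calc 14 ≤ 5 ^ 2 := by norm_num
          _ ≤ p ^ 2 := Nat.pow_le_pow_left hp5 2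
          _ ≤ p ^ (e : ℕ) := Nat.pow_le_pow_right hp.pos he2
    exact ⟨BorelAbs.good_of_odd h2F h14, by omega⟩

/-- For a finite field with q elements, q ≠ 4 and q ≠ 9, the special linear group SL₂ has trivial Schur multiplier (here the Schur multiplier is described through stem extensions, as in the definitions). -/
theorem result {F : Type*} [Field F] [Fintype F] (h4 : Fintype.card F ≠ 4) (h9 : Fintype.card F ≠ 9) : Cfsg.HasCyclicSchurMultiplier (Matrix.SpecialLinearGroup (Fin 2) F) 1 := by
  classical
  obtain ⟨p, hpc⟩ := CharP.exists F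
  have hp : p.Prime := CharP.char_is_prime F p
  have : Fact p.Prime := ⟨hp⟩
  apply Cfsg.Agent.Helper65.trivial_mult_of_sylow
  intro r hr _
  have : Fact r.Prime := ⟨hr⟩
  by_cases hrp : r = p
  · subst hrp
    by_cases hprime : (Fintype.card F).Prime
    · obtain ⟨P⟩ := (inferInstance : Nonempty (Sylow r (Matrix.SpecialLinearGroup (Fin 2) F)))
      refine ⟨P, P.not_dvd_index, ?_⟩
      have hcard : Nat.card P = Fintype.card F := Cfsg.Agent.Helper5.card_sylow_SL2 r rfl P
      have : Fact (Fintype.card F).Prime := ⟨hprime⟩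
      have : IsCyclic (P : Subgroup (Matrix.SpecialLinearGroup (Fin 2) F)) :=
        isCyclic_of_prime_card hcard
      exact Cfsg.Agent.Helper65.trivial_mult_of_isCyclic' _
    · obtain ⟨hgood, h8⟩ := good_of_card r hprime h4 h9
      exact ⟨Cfsg.Agent.Helper65.SL2Borel.borel F,
        Cfsg.Agent.Helper65.SL2Borel.not_dvd_index_borel r,
        Cfsg.Agent.Helper65.SL2Borel.borel_trivial_mult hgood
          (exists_unit_sq_ne_one (by omega))⟩
  · obtain ⟨P⟩ := (inferInstance : Nonempty (Sylow r (Matrix.SpecialLinearGroup (Fin 2) F)))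
    refine ⟨P, P.not_dvd_index, ?_⟩
    by_cases hr2 : r = 2
    · subst hr2
      have h2F : (2 : F) ≠ 0 := by
        intro h
        have h' : ((2 : ℕ) : F) = 0 := by exact_mod_cast h
        rw [CharP.cast_eq_zero_iff F p 2] at h'
        exact hrp ((Nat.prime_dvd_prime_iff_eq hp Nat.prime_two).1 h').symm
      have hU : ∀ x y : (P : Subgroup (Matrix.SpecialLinearGroup (Fin 2) F)),
          orderOf x = 2 → orderOf y = 2 → x = y := by
        intro x y hx hy
        apply Subtype.ext
        apply Cfsg.Agent.Helper65.SL2Borel.invol_unique h2F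
        · exact (Subgroup.orderOf_coe x).trans hx
        · exact (Subgroup.orderOf_coe y).trans hy
      rcases Cfsg.Agent.Helper53.isCyclic_or_quaternion_of_unique_invol P.isPGroup' hU with
        hc | ⟨n, hn, ⟨e⟩⟩
      · exact Cfsg.Agent.Helper65.trivial_mult_of_isCyclic' _
      · have : NeZero (2 ^ n) := ⟨by positivity⟩
        exact Cfsg.Agent.Helper65.hasSchurMultiplier_of_mulEquiv e.symm
          (Cfsg.Agent.S3963.result (2 ^ n))
    · have : IsCyclic (P : Subgroup (Matrix.SpecialLinearGroup (Fin 2) F)) :=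
        Cfsg.Agent.Helper5.sylow_isCyclic_sl2 p r hr2 hrp P
      exact Cfsg.Agent.Helper65.trivial_mult_of_isCyclic' _

end Cfsg.Agent.S2117
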