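import Mathlib
import Cfsg.Statements.S2118
import Cfsg.Agent.Lib.Helper65.HexaCover
import Cfsg.Agent.Lib.Helper65.SL29Upper
import Cfsg.Agent.Lib.Helper65.MultPres
-- import your own Cfsg.Agent.* helpers here

set_option autoImplicit false
open Cfsg

namespace Cfsg.Agent.S2118

/-- For the field with 9 elements, the special linear group SL₂ has Schur multiplier cyclic of order 3 (here the Schur multiplier is described through stem extensions, as in the definitions). -/
theorem result {F : Type*} [Field F] [Fintype F] (hF : Fintype.card F = 9) : Cfsg.HasCyclicSchurMultiplier (Matrix.SpecialLinearGroup (Fin 2) F) 3 := by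
  classical
  have hne := Cfsg.Agent.Helper65.HexaGroup.mult_ne_bot hF
  obtain ⟨hle, h2⟩ := Cfsg.Agent.Helper65.SL29.card_mult_sl29 hF
  have hfin : Finite (Cfsg.Agent.Helper65.mult
      (Cfsg.Agent.Helper65.fp (Matrix.SpecialLinearGroup (Fin 2) F))) :=
    Cfsg.Agent.Helper65.mult_finite _
  have hcard : Nat.card (Cfsg.Agent.Helper65.mult
      (Cfsg.Agent.Helper65.fp (Matrix.SpecialLinearGroup (Fin 2) F))) = 3 := by
    have h1 : Nat.card (Cfsg.Agent.Helper65.mult
        (Cfsg.Agent.Helper65.fp (Matrix.SpecialLinearGroup (Fin 2) F))) ≠ 1 := by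
      intro h
      exact hne (Subgroup.card_eq_one.1 h)
    have h0 : 0 < Nat.card (Cfsg.Agent.Helper65.mult
        (Cfsg.Agent.Helper65.fp (Matrix.SpecialLinearGroup (Fin 2) F))) := Nat.card_pos
    omega
  have : Fact (Nat.Prime 3) := ⟨Nat.prime_three⟩
  have hZ : Nat.card (Multiplicative (ZMod 3)) = 3 := by
    rw [Nat.card_eq_fintype_card, Fintype.card_multiplicative, ZMod.card]
  exact Cfsg.Agent.Helper65.hasSchurMultiplier_of_mult_equiv _
    (Cfsg.Agent.Helper65.fp_surj _) (mulEquivOfPrimeCardEq hcard hZ)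

end Cfsg.Agent.S2118
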