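import Cfsg.Statements.S2126
import Mathlib
import Cfsg.Agent.Lib.Helper39.SzAut2
import Cfsg.Agent.Lib.Helper39.SzModels
import Cfsg.Agent.Lib.Helper39.SzSylow

set_option autoImplicit false
open Cfsg

namespace Cfsg.Agent.S2126

open Cfsg.Agent.Helper39

/-- The automorphism group of a field with `2 ^ d` elements has order `d`. -/
theorem card_ringAut {F : Type*} [Field F] [Fintype F] {d : ℕ} (h2 : (2 : F) = 0)
    (hF : Fintype.card F = 2 ^ d) : Nat.card (F ≃+* F) = d := by
  have : CharP F 2 := CharTwo.of_one_ne_zero_of_two_eq_zero one_ne_zero h2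
  let _ : Algebra (ZMod 2) F := ZMod.algebra F 2
  have e : (F ≃+* F) ≃ (F ≃ₐ[ZMod 2] F) :=
    { toFun := fun σ => AlgEquiv.ofRingEquiv (f := σ) (fun x =>
        RingHom.congr_fun (Subsingleton.elim ((σ : F →+* F).comp (algebraMap (ZMod 2) F))
          (algebraMap (ZMod 2) F)) x)
      invFun := fun σ => σ.toRingEquiv
      left_inv := fun σ => by ext; rfl
      right_inv := fun σ => by ext; rfl }
  rw [Nat.card_congr e]
  have hb := FiniteField.bijective_frobeniusAlgEquivOfAlgebraic_pow (ZMod 2) F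
  rw [← Nat.card_congr (Equiv.ofBijective _ hb), Nat.card_eq_fintype_card, Fintype.card_fin]
  have h3 := Module.card_eq_pow_finrank (K := ZMod 2) (V := F)
  rw [hF, ZMod.card] at h3
  exact (Nat.pow_right_injective (le_refl 2) h3).symm

/-- Outer automorphisms of the Suzuki groups: for q = 2^(2m+1) with m ≥ 1 the outer automorphism group of Sz(q) has order 2m + 1 (field automorphisms only). -/
theorem result {F : Type*} [Field F] [Fintype F] {m : ℕ} (hm : 1 ≤ m) (hF : Fintype.card F = 2 ^ (2 * m + 1)) : Nat.card (Cfsg.Out ↥(Cfsg.Lie.Sz F (2 ^ (m + 1)))) = 2 * m + 1 := by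
  have h := titsHyp_of_card m hF
  have hn : 1 ≤ 2 * m + 1 := by omega
  have hcard : 2 < Fintype.card F := by
    rw [hF]
    calc 2 < 2 ^ 2 := by norm_num
      _ ≤ 2 ^ (2 * m + 1) := Nat.pow_le_pow_right (by norm_num) (by omega)
  have hw := exists_ne_zero_one hcard
  set X := lieSzModel h with hX
  rw [← card_ringAut h.two hF]
  symm
  apply Nat.card_congr
  refine Equiv.ofBijective (fun τ : F ≃+* F =>
    (QuotientGroup.mk (X.fieldAutHom τ) : Cfsg.Out ↥(Cfsg.Lie.Sz F (2 ^ (m + 1))))) ⟨?_, ?_⟩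
  · intro τ₁ τ₂ h12
    have h1 : (X.fieldAutHom τ₁)⁻¹ * X.fieldAutHom τ₂ ∈ Cfsg.Inn ↥(Cfsg.Lie.Sz F (2 ^ (m + 1))) :=
      QuotientGroup.eq.mp h12
    rw [← map_inv, ← map_mul] at h1
    obtain ⟨g, hg⟩ := h1
    have h2 := X.eq_one_of_fieldAutHom_eq_conj h hg.symm
    exact inv_mul_eq_one.mp h2
  · intro y
    induction y using QuotientGroup.induction_on with
    | H α =>
      obtain ⟨g, τ, hα⟩ := X.exists_conj_field h hF hn hw α
      refine ⟨τ, ?_⟩
      change (QuotientGroup.mk (X.fieldAutHom τ) : Cfsg.Out ↥(Cfsg.Lie.Sz F (2 ^ (m + 1)))) =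
        QuotientGroup.mk α
      rw [QuotientGroup.eq, hα]
      have h1 : (X.fieldAutHom τ)⁻¹ * (MulAut.conj g * X.fieldAutHom τ) =
          (X.fieldAutHom τ)⁻¹ * MulAut.conj g * ((X.fieldAutHom τ)⁻¹)⁻¹ := by
        rw [inv_inv, mul_assoc]
      rw [h1]
      exact (Cfsg.innNormal _).conj_mem _ ⟨g, rfl⟩ _

end Cfsg.Agent.S2126
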