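import Cfsg.Statements.S2133
import Cfsg.Agent.Lib.Helper89.M24Oct

set_option autoImplicit false
open Cfsg

namespace Cfsg.Agent.S2133

/-- The Mathieu group M₂₄ (the automorphism group of the length-24 binary code) has an involution whose centraliser is isomorphic to the centraliser of a transvection in SL(5, 2) (a group of shape 2^{1+6}:GL(3, 2)). -/
theorem result (s : Matrix.SpecialLinearGroup (Fin 5) (ZMod 2)) (hs : (s : Matrix (Fin 5) (Fin 5) (ZMod 2)) = Matrix.transvection 0 1 1) : ∃ z : ↥Cfsg.M24, orderOf z = 2 ∧ Nonempty (↥(Subgroup.centralizer ({z} : Set ↥Cfsg.M24)) ≃* ↥(Subgroup.centralizer ({s} : Set (Matrix.SpecialLinearGroup (Fin 5) (ZMod 2))))) := by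
  classical
  have : Fact (Nat.Prime 2) := ⟨Nat.prime_two⟩
  have ho := Cfsg.Agent.Helper7.O0_mem
  obtain ⟨hcard, hsq⟩ := Cfsg.Agent.Helper7.octFix_spec ho
  have hex : ∃ g ∈ Cfsg.Agent.Helper7.octFix Cfsg.Agent.Helper7.O0, g ≠ 1 := by
    by_contra h
    push Not at h
    have h1 : Cfsg.Agent.Helper7.octFix Cfsg.Agent.Helper7.O0 = ⊥ :=
      (Subgroup.eq_bot_iff_forall _).mpr h
    rw [h1] at hcard
    simp at hcard
  obtain ⟨g, hg, hg1⟩ := hex
  have hgM : g ∈ Cfsg.M24 := (Cfsg.Agent.Helper7.mem_octFix.mp hg).1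
  have hz : orderOf (⟨g, hgM⟩ : ↥Cfsg.M24) = 2 := by
    apply orderOf_eq_prime
    · apply Subtype.ext
      rw [pow_two]
      exact hsq g hg
    · intro h
      exact hg1 (congrArg Subtype.val h)
  have hmem_o : ∀ q, q ∈ Cfsg.Agent.Helper7.O0 ↔
      ((⟨g, hgM⟩ : ↥Cfsg.M24) : Equiv.Perm Cfsg.GolayPt) q = q := by
    intro q
    constructor
    · exact (Cfsg.Agent.Helper7.mem_octFix.mp hg).2 q
    · intro h
      by_contra hq
      exact hg1 (Cfsg.Agent.Helper26.octFix_semiregular ho hg hq h)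
  obtain ⟨S, z₀, hz₀, hz1, hU2, hz₀z, hcent⟩ :=
    Cfsg.Agent.Helper89.M24Oct.octad_setup ⟨g, hgM⟩ hz Cfsg.Agent.Helper7.O0 ho hmem_o
  refine ⟨⟨g, hgM⟩, hz, ?_⟩
  have hle : Cfsg.Agent.Helper26.setStabM Cfsg.Agent.Helper7.O0 ≤ Cfsg.M24 := inf_le_left
  have hι := Subgroup.inclusion_injective hle
  have hιz : Subgroup.inclusion hle z₀ = ⟨g, hgM⟩ := Subtype.ext hz₀z
  have hCmap : (Subgroup.centralizer ({z₀} : Set ↥(Cfsg.Agent.Helper26.setStabM
      Cfsg.Agent.Helper7.O0))).map (Subgroup.inclusion hle) =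
      Subgroup.centralizer ({(⟨g, hgM⟩ : ↥Cfsg.M24)} : Set ↥Cfsg.M24) := by
    apply le_antisymm
    · rintro _ ⟨c, hc, rfl⟩
      rw [SetLike.mem_coe, Subgroup.mem_centralizer_singleton_iff] at hc
      rw [Subgroup.mem_centralizer_singleton_iff, ← hιz, ← map_mul, ← map_mul, hc]
    · intro c hc
      rw [Subgroup.mem_centralizer_singleton_iff] at hc
      have hcs := hcent c hc
      refine ⟨⟨(c : Equiv.Perm Cfsg.GolayPt), hcs⟩, ?_, Subtype.ext rfl⟩
      rw [SetLike.mem_coe, Subgroup.mem_centralizer_singleton_iff]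
      apply hι
      rw [map_mul, map_mul, hιz]
      exact hc
  have hΦ := S.map_centralizer hz₀ hz1
  have hΦz : S.Φ z₀ = s := Subtype.ext ((S.Φ_z hz₀ hz1).trans hs.symm)
  rw [hΦz] at hΦ
  have e1 := ((Subgroup.centralizer ({z₀} : Set ↥(Cfsg.Agent.Helper26.setStabM
      Cfsg.Agent.Helper7.O0))).equivMapOfInjective (Subgroup.inclusion hle) hι).trans
      (MulEquiv.subgroupCongr hCmap)
  have e2 := ((Subgroup.centralizer ({z₀} : Set ↥(Cfsg.Agent.Helper26.setStabM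
      Cfsg.Agent.Helper7.O0))).equivMapOfInjective S.Φ S.Φ_injective).trans
      (MulEquiv.subgroupCongr hΦ)
  exact ⟨e1.symm.trans e2⟩

end Cfsg.Agent.S2133
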