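import Cfsg.Statements.S2160
-- import your own Cfsg.Agent.* helpers here
import Mathlib
import Cfsg.Agent.Lib.Helper36.ChevGen

set_option autoImplicit false
open Cfsg

namespace Cfsg.Agent.S2160

/-- In a Chevalley group of type G₂, B₂, D₄, F₄, E₆, E₇ or E₈ over a finite field, every field automorphism commutes with every graph automorphism. -/
theorem result {F : Type*} [Field F] [Finite F] (D : Cfsg.Lie.ChevalleyDatum) (hD : D ∈ [Cfsg.Lie.chevG2, Cfsg.Lie.chevB2, Cfsg.Lie.chevD4, Cfsg.Lie.chevF4, Cfsg.Lie.chevE6, Cfsg.Lie.chevE7, Cfsg.Lie.chevE8]) (f g : ↥(D.group F) ≃* ↥(D.group F))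
    (hf : D.IsFieldAut f) (hg : D.IsGraphAut g) (y : ↥(D.group F)) : f (g y) = g (f y) := by
  have hB := Cfsg.Agent.Helper18.bnFacts_all D hD
  obtain ⟨σ, hσ⟩ := hf
  obtain ⟨π, -, hπ⟩ := hg
  have key := Cfsg.Agent.Helper36.ChevGen.hom_ext_simple (F := F) D hD
    (f.toMonoidHom.comp g.toMonoidHom) (g.toMonoidHom.comp f.toMonoidHom) (by
      intro i hi t
      have hπi : ((π ⟨i, hi⟩ : Fin D.rank) : ℕ) < D.rank := (π ⟨i, hi⟩).2
      constructor
      · apply Subtype.ext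
        apply Units.ext
        have h1 := (hπ ⟨Cfsg.Agent.S1043.xU D hD (D.simple i) t,
          Cfsg.Agent.S1043.xU_mem_group D hD _ t⟩ ⟨i, hi⟩ t).1 rfl
        have h2 := hσ _ _ _ (hB.hsimp _ hπi) h1
        have h3 := hσ ⟨Cfsg.Agent.S1043.xU D hD (D.simple i) t,
          Cfsg.Agent.S1043.xU_mem_group D hD _ t⟩ (D.simple i) t (hB.hsimp i hi) rfl
        have h4 := (hπ _ ⟨i, hi⟩ (σ t)).1 h3
        show ((f (g _) : GL D.Idx F) : Matrix D.Idx D.Idx F) = ((g (f _) : GL D.Idx F) : Matrix D.Idx D.Idx F)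
        rw [h2, h4, map_pow]
      · apply Subtype.ext
        apply Units.ext
        have h1 := (hπ ⟨Cfsg.Agent.S1043.xU D hD (D.neg (D.simple i)) t,
          Cfsg.Agent.S1043.xU_mem_group D hD _ t⟩ ⟨i, hi⟩ t).2 rfl
        have h2 := hσ _ _ _ (hB.hnv _ (hB.hsimp _ hπi)) h1
        have h3 := hσ ⟨Cfsg.Agent.S1043.xU D hD (D.neg (D.simple i)) t,
          Cfsg.Agent.S1043.xU_mem_group D hD _ t⟩ (D.neg (D.simple i)) t
          (hB.hnv _ (hB.hsimp i hi)) rfl
        have h4 := (hπ _ ⟨i, hi⟩ (σ t)).2 h3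
        show ((f (g _) : GL D.Idx F) : Matrix D.Idx D.Idx F) = ((g (f _) : GL D.Idx F) : Matrix D.Idx D.Idx F)
        rw [h2, h4, map_pow])
  exact key y

end Cfsg.Agent.S2160
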