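import Cfsg.Statements.S2162
import Mathlib

set_option autoImplicit false
open Cfsg

namespace Cfsg.Agent.S2162

open Module Submodule

variable {F : Type*} [Field F] {V : Type*} [AddCommGroup V] [Module F V] [FiniteDimensional F V]

/-- adapted basis for a square-zero endomorphism -/
theorem exists_adapted_basis (N : V →ₗ[F] V) (hN : ∀ x, N (N x) = 0) (ℓ w : ℕ)
    (hℓ : finrank F (LinearMap.range N) = ℓ) (hw : finrank F V = ℓ + (w + ℓ)) :
    ∃ b : Basis (Fin ℓ ⊕ (Fin w ⊕ Fin ℓ)) F V,
      (∀ i, N (b (Sum.inl i)) = b (Sum.inr (Sum.inr i))) ∧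
      (∀ j, N (b (Sum.inr (Sum.inl j))) = 0) ∧
      (∀ i, N (b (Sum.inr (Sum.inr i))) = 0) := by
  set K := LinearMap.ker N with hK
  set I := LinearMap.range N with hI
  have hIK : I ≤ K := by
    rintro x ⟨y, rfl⟩
    exact hN y
  obtain ⟨Q, hQ⟩ := Submodule.exists_isCompl I
  set W := Q ⊓ K with hW
  have hIW_inf : I ⊓ W = ⊥ := by
    apply le_bot_iff.mp
    calc I ⊓ W ≤ I ⊓ Q := inf_le_inf_left I inf_le_left
      _ = ⊥ := hQ.inf_eq_bot
  have hIW_sup : I ⊔ W = K := by
    rw [hW, ← sup_inf_assoc_of_le Q hIK, hQ.sup_eq_top, top_inf_eq]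
  have hWK : W ≤ K := inf_le_right
  have hKdim : finrank F K = w + ℓ := by
    have := LinearMap.finrank_range_add_finrank_ker N
    rw [← hK, ← hI, hℓ] at this
    omega
  have hWdim : finrank F W = w := by
    have := Submodule.finrank_sup_add_finrank_inf_eq I W
    rw [hIW_inf, hIW_sup, finrank_bot, hKdim, hℓ] at this
    omega
  let bI : Basis (Fin ℓ) F I := Module.finBasisOfFinrankEq F I hℓ
  let bW : Basis (Fin w) F W := Module.finBasisOfFinrankEq F W hWdim
  have hc : ∀ i, ∃ y, N y = (bI i : V) := fun i => (bI i).2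
  choose c hc' using hc
  let Φ : Fin ℓ ⊕ (Fin w ⊕ Fin ℓ) → V :=
    Sum.elim c (Sum.elim (fun j => (bW j : V)) (fun i => (bI i : V)))
  have hbI_li : LinearIndependent F (fun i => (bI i : V)) :=
    bI.linearIndependent.map' I.subtype (Submodule.ker_subtype I)
  have hbW_li : LinearIndependent F (fun j => (bW j : V)) :=
    bW.linearIndependent.map' W.subtype (Submodule.ker_subtype W)
  have hbI_span : span F (Set.range (fun i => (bI i : V))) = I := by
    have := bI.span_eq
    have h2 := congrArg (Submodule.map I.subtype) this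
    rw [Submodule.map_span, Submodule.map_subtype_top, ← Set.range_comp] at h2
    exact h2
  have hbW_span : span F (Set.range (fun j => (bW j : V))) = W := by
    have := bW.span_eq
    have h2 := congrArg (Submodule.map W.subtype) this
    rw [Submodule.map_span, Submodule.map_subtype_top, ← Set.range_comp] at h2
    exact h2
  have hc_li : LinearIndependent F c := by
    apply LinearIndependent.of_comp N
    have : N ∘ c = fun i => (bI i : V) := funext hc'
    rw [this]
    exact hbI_li
  have hinner : LinearIndependent F (Sum.elim (fun j => (bW j : V)) (fun i => (bI i : V))) := by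
    apply LinearIndependent.sum_type hbW_li hbI_li
    rw [hbW_span, hbI_span, disjoint_iff, inf_comm]
    exact hIW_inf
  have hinner_span : span F (Set.range (Sum.elim (fun j => (bW j : V)) (fun i => (bI i : V)))) = K := by
    rw [Set.Sum.elim_range, Submodule.span_union, hbW_span, hbI_span, sup_comm]
    exact hIW_sup
  have hΦ_li : LinearIndependent F Φ := by
    apply LinearIndependent.sum_type hc_li hinner
    rw [hinner_span, disjoint_iff]
    apply le_bot_iff.mp
    rintro x ⟨hx1, hx2⟩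
    rw [SetLike.mem_coe, Submodule.mem_span_range_iff_exists_fun] at hx1
    obtain ⟨α, rfl⟩ := hx1
    have hx2' : N (∑ i, α i • c i) = 0 := hx2
    rw [map_sum] at hx2'
    simp only [map_smul, hc'] at hx2'
    have hα := Fintype.linearIndependent_iff.mp hbI_li α hx2'
    simp [hα]
  have hcard : Fintype.card (Fin ℓ ⊕ (Fin w ⊕ Fin ℓ)) = finrank F V := by
    simp [hw]
  refine ⟨basisOfLinearIndependentOfCardEqFinrank' Φ hΦ_li hcard, ?_, ?_, ?_⟩
  · intro i
    simp only [coe_basisOfLinearIndependentOfCardEqFinrank']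
    exact hc' i
  · intro j
    simp only [coe_basisOfLinearIndependentOfCardEqFinrank']
    exact hWK (bW j).2
  · intro i
    simp only [coe_basisOfLinearIndependentOfCardEqFinrank']
    exact hIK (bI i).2


/-- two square-zero endomorphisms of equal rank are conjugate -/
theorem exists_conj_linear (N M : V →ₗ[F] V) (hN : ∀ x, N (N x) = 0) (hM : ∀ x, M (M x) = 0)
    (hrank : finrank F (LinearMap.range N) = finrank F (LinearMap.range M)) :
    ∃ g : V ≃ₗ[F] V, ∀ x, g (N x) = M (g x) := by
  set ℓ := finrank F (LinearMap.range N) with hℓ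
  have h2 : ℓ + ℓ ≤ finrank F V := by
    have h1 := LinearMap.finrank_range_add_finrank_ker N
    have hle : finrank F (LinearMap.range N) ≤ finrank F (LinearMap.ker N) := by
      apply Submodule.finrank_mono
      rintro x ⟨y, rfl⟩
      exact hN y
    omega
  obtain ⟨w, hw⟩ : ∃ w, finrank F V = ℓ + (w + ℓ) := ⟨finrank F V - (ℓ + ℓ), by omega⟩
  obtain ⟨b, hb1, hb2, hb3⟩ := exists_adapted_basis N hN ℓ w rfl hw
  obtain ⟨b', hb1', hb2', hb3'⟩ := exists_adapted_basis M hM ℓ w hrank.symm hw
  refine ⟨b.equiv b' (Equiv.refl _), ?_⟩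
  intro x
  have : (b.equiv b' (Equiv.refl _)).toLinearMap ∘ₗ N = M ∘ₗ (b.equiv b' (Equiv.refl _)).toLinearMap := by
    apply b.ext
    rintro (i | j | i)
    · simp [hb1, hb1']
    · simp [hb2, hb2']
    · simp [hb3, hb3']
  exact LinearMap.congr_fun this x

open Matrix

/-- matrix version -/
theorem exists_conj_matrix {n : ℕ} (A B : Matrix (Fin n) (Fin n) F)
    (hA : (A - 1) * (A - 1) = 0) (hB : (B - 1) * (B - 1) = 0) (hrank : (A - 1).rank = (B - 1).rank) :
    ∃ G : Matrix (Fin n) (Fin n) F, IsUnit G.det ∧ G * A = B * G := by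
  have hN : ∀ x, Matrix.toLin' (A - 1) (Matrix.toLin' (A - 1) x) = 0 := by
    intro x
    rw [← LinearMap.comp_apply, ← Matrix.toLin'_mul, hA]
    simp
  have hM : ∀ x, Matrix.toLin' (B - 1) (Matrix.toLin' (B - 1) x) = 0 := by
    intro x
    rw [← LinearMap.comp_apply, ← Matrix.toLin'_mul, hB]
    simp
  have hr : finrank F (LinearMap.range (Matrix.toLin' (A - 1))) = finrank F (LinearMap.range (Matrix.toLin' (B - 1))) := by
    have e1 : (A - 1).rank = finrank F (LinearMap.range (Matrix.toLin' (A - 1))) := rfl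
    have e2 : (B - 1).rank = finrank F (LinearMap.range (Matrix.toLin' (B - 1))) := rfl
    rw [← e1, ← e2, hrank]
  obtain ⟨g, hg⟩ := exists_conj_linear _ _ hN hM hr
  refine ⟨LinearMap.toMatrix' g.toLinearMap, ?_, ?_⟩
  · have : LinearMap.toMatrix' g.toLinearMap * LinearMap.toMatrix' g.symm.toLinearMap = 1 := by
      rw [← LinearMap.toMatrix'_comp]
      simp
    exact IsUnit.of_mul_eq_one _ (by rw [← Matrix.det_mul, this, Matrix.det_one])
  · have h1 : LinearMap.toMatrix' g.toLinearMap * (A - 1) = (B - 1) * LinearMap.toMatrix' g.toLinearMap := by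
      apply Matrix.toLin'.injective
      rw [Matrix.toLin'_mul, Matrix.toLin'_mul, Matrix.toLin'_toMatrix']
      apply LinearMap.ext
      intro x
      simp only [LinearMap.comp_apply, LinearEquiv.coe_coe]
      exact hg x
    rw [Matrix.mul_sub, Matrix.sub_mul, Matrix.mul_one, Matrix.one_mul] at h1
    exact sub_left_injective h1


theorem det_one_add_vecMulVec {n : ℕ} (u v : Fin n → F) :
    (1 + vecMulVec u v).det = 1 + v ⬝ᵥ u := by
  rw [Matrix.vecMulVec_eq Unit, Matrix.det_one_add_replicateCol_mul_replicateRow]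

/-- an element of the centralizer of `1 + N` with prescribed square determinant -/
theorem exists_centralizer_det {n : ℕ} (N : Matrix (Fin n) (Fin n) F) (hN : N * N = 0) (hN0 : N ≠ 0)
    (ε : F) : ∃ C : Matrix (Fin n) (Fin n) F, C * N = N * C ∧ C.det = ε * ε := by
  -- pick a nonzero column
  obtain ⟨i₁, j₀, hij⟩ : ∃ i j, N i j ≠ 0 := by
    by_contra h
    push Not at h
    exact hN0 (Matrix.ext h)
  set v : Fin n → F := Pi.single j₀ 1 with hv
  set u : Fin n → F := N *ᵥ v with hu
  have hu_apply : ∀ i, u i = N i j₀ := by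
    intro i
    simp [hu, hv]
  have hNu : N *ᵥ u = 0 := by
    rw [hu, Matrix.mulVec_mulVec, hN, Matrix.zero_mulVec]
  -- an index different from j₀ where u is nonzero
  obtain ⟨i₀, hi₀j, hi₀⟩ : ∃ i₀, i₀ ≠ j₀ ∧ u i₀ ≠ 0 := by
    by_contra h
    push Not at h
    have hsupp : u = (u j₀) • v := by
      ext i
      by_cases hi : i = j₀
      · subst hi; simp [hv]
      · simp [hv, hi, h i hi]
    have : N *ᵥ u = (u j₀) • u := by
      conv_lhs => rw [hsupp]
      rw [Matrix.mulVec_smul]
    rw [hNu] at this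
    have hu1 : u i₁ ≠ 0 := by rw [hu_apply]; exact hij
    have h0 := congrFun this i₁
    simp only [Pi.zero_apply, Pi.smul_apply, smul_eq_mul] at h0
    have huj : u j₀ = 0 := by
      rcases mul_eq_zero.mp h0.symm with h' | h'
      · exact h'
      · exact absurd h' hu1
    have : u i₁ = 0 := by
      by_cases hi : i₁ = j₀
      · rw [hi]; exact huj
      · exact h i₁ hi
    exact hu1 this
  set φ : Fin n → F := Pi.single i₀ (u i₀)⁻¹ with hφ
  set ψ : Fin n → F := φ ᵥ* N with hψ
  have hφu : φ ⬝ᵥ u = 1 := by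
    simp [hφ, inv_mul_cancel₀ hi₀]
  have hφv : φ ⬝ᵥ v = 0 := by
    simp [hφ, hv, hi₀j]
  have hψN : ψ ᵥ* N = 0 := by
    rw [hψ, Matrix.vecMul_vecMul, hN, Matrix.vecMul_zero]
  have hψv : ψ ⬝ᵥ v = 1 := by
    rw [hψ, ← Matrix.dotProduct_mulVec, ← hu, hφu]
  have hψu : ψ ⬝ᵥ u = 0 := by
    rw [hψ, ← Matrix.dotProduct_mulVec, hNu, dotProduct_zero]
  set C₁ : Matrix (Fin n) (Fin n) F := 1 + vecMulVec ((ε - 1) • v) ψ with hC₁
  set C₂ : Matrix (Fin n) (Fin n) F := 1 + vecMulVec ((ε - 1) • u) φ with hC₂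
  refine ⟨C₁ * C₂, ?_, ?_⟩
  · have hprod : C₁ * C₂ = 1 + (ε - 1) • (vecMulVec v ψ + vecMulVec u φ) := by
      rw [hC₁, hC₂, Matrix.add_mul, Matrix.mul_add, Matrix.mul_add, Matrix.one_mul, Matrix.one_mul,
        Matrix.mul_one, Matrix.vecMulVec_mul_vecMulVec]
      have : ψ ⬝ᵥ ((ε - 1) • u) = 0 := by
        rw [dotProduct_smul, hψu, smul_zero]
      rw [this, zero_smul, Matrix.vecMulVec_zero, add_zero, Matrix.smul_vecMulVec, Matrix.smul_vecMulVec,
        smul_add, add_assoc, add_comm ((ε - 1) • vecMulVec u φ)]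
    rw [hprod, Matrix.add_mul, Matrix.mul_add, Matrix.one_mul, Matrix.mul_one, Matrix.smul_mul,
      Matrix.mul_smul, Matrix.add_mul, Matrix.mul_add, Matrix.vecMulVec_mul, Matrix.vecMulVec_mul,
      Matrix.mul_vecMulVec, Matrix.mul_vecMulVec, hψN, hNu, ← hψ, ← hu]
    simp
  · rw [Matrix.det_mul, hC₁, hC₂, det_one_add_vecMulVec, det_one_add_vecMulVec,
      dotProduct_smul, dotProduct_smul, hψv, hφu]
    simp


theorem sq_zero_of_order_two [CharP F 2] {n : ℕ} (A : Matrix (Fin n) (Fin n) F) (hA : A * A = 1) :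
    (A - 1) * (A - 1) = 0 := by
  have h2F : (2 : F) = 0 := CharP.cast_eq_zero F 2
  rw [Matrix.sub_mul, Matrix.mul_sub, Matrix.mul_sub, hA, Matrix.one_mul, Matrix.mul_one, Matrix.mul_one]
  have : (1 : Matrix (Fin n) (Fin n) F) - A - (A - 1) = (2 : F) • (1 - A) := by
    rw [two_smul]; abel
  rw [this, h2F, zero_smul]

theorem coe_mul_self_of_orderOf [CharP F 2] {n : ℕ} (a : Matrix.SpecialLinearGroup (Fin n) F)
    (ha : orderOf a = 2) :
    (a : Matrix (Fin n) (Fin n) F) * (a : Matrix (Fin n) (Fin n) F) = 1 ∧ (a : Matrix (Fin n) (Fin n) F) - 1 ≠ 0 := by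
  constructor
  · have h := pow_orderOf_eq_one a
    rw [ha, pow_two] at h
    have h' := congrArg (fun x : Matrix.SpecialLinearGroup (Fin n) F => (x : Matrix (Fin n) (Fin n) F)) h
    simpa using h'
  · intro h
    have h1 : (a : Matrix (Fin n) (Fin n) F) = 1 := sub_eq_zero.mp h
    have : a = 1 := Subtype.ext (by simpa using h1)
    rw [this, orderOf_one] at ha
    omega

/-- Conjugacy of involutions in the special linear group over a finite field of characteristic two, in dimension at least 3: two elements of order 2 of SL_n(F) are conjugate in SL_n(F) exactly when the matrices a − 1 and b − 1 have the same rank (the rank of a − 1 is the dimension of the commutator space [V, a]). -/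
theorem result {F : Type*} [Field F] [Fintype F] [CharP F 2] {n : ℕ} (hn : 3 ≤ n) (a b : Matrix.SpecialLinearGroup (Fin n) F) (ha : orderOf a = 2) (hb : orderOf b = 2) :
    IsConj a b ↔ ((a : Matrix (Fin n) (Fin n) F) - 1).rank = ((b : Matrix (Fin n) (Fin n) F) - 1).rank := by
  obtain ⟨haa, ha0⟩ := coe_mul_self_of_orderOf a ha
  obtain ⟨hbb, hb0⟩ := coe_mul_self_of_orderOf b hb
  constructor
  · intro h
    obtain ⟨c, hc⟩ := isConj_iff.mp h
    have hc' : (c : Matrix (Fin n) (Fin n) F) * (a : Matrix (Fin n) (Fin n) F) * ((c⁻¹ : Matrix.SpecialLinearGroup (Fin n) F) : Matrix (Fin n) (Fin n) F) = (b : Matrix (Fin n) (Fin n) F) := by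
      rw [← hc]
      simp
    have hcc : (c : Matrix (Fin n) (Fin n) F) * ((c⁻¹ : Matrix.SpecialLinearGroup (Fin n) F) : Matrix (Fin n) (Fin n) F) = 1 := by
      rw [← Matrix.SpecialLinearGroup.coe_mul, mul_inv_cancel, Matrix.SpecialLinearGroup.coe_one]
    have hb1 : (b : Matrix (Fin n) (Fin n) F) - 1 = (c : Matrix (Fin n) (Fin n) F) * ((a : Matrix (Fin n) (Fin n) F) - 1) * ((c⁻¹ : Matrix.SpecialLinearGroup (Fin n) F) : Matrix (Fin n) (Fin n) F) := by
      rw [Matrix.mul_sub, Matrix.sub_mul, Matrix.mul_one, hcc, hc']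
    have hdc : IsUnit (c : Matrix (Fin n) (Fin n) F).det := by
      rw [Matrix.SpecialLinearGroup.det_coe]; exact isUnit_one
    have hdc' : IsUnit ((c⁻¹ : Matrix.SpecialLinearGroup (Fin n) F) : Matrix (Fin n) (Fin n) F).det := by
      rw [Matrix.SpecialLinearGroup.det_coe]; exact isUnit_one
    rw [hb1, Matrix.rank_mul_eq_left_of_isUnit_det _ _ hdc', Matrix.rank_mul_eq_right_of_isUnit_det _ _ hdc]
  · intro hrank
    obtain ⟨G, hGdet, hG⟩ := exists_conj_matrix (a : Matrix (Fin n) (Fin n) F) (b : Matrix (Fin n) (Fin n) F)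
      (sq_zero_of_order_two _ haa) (sq_zero_of_order_two _ hbb) hrank
    have hG0 : G.det ≠ 0 := hGdet.ne_zero
    obtain ⟨ε, hε⟩ := surjective_frobenius F 2 (G.det)⁻¹
    rw [frobenius_def, pow_two] at hε
    obtain ⟨C, hCN, hCdet⟩ := exists_centralizer_det ((a : Matrix (Fin n) (Fin n) F) - 1)
      (sq_zero_of_order_two _ haa) ha0 ε
    have hCA : C * (a : Matrix (Fin n) (Fin n) F) = (a : Matrix (Fin n) (Fin n) F) * C := by
      rw [Matrix.mul_sub, Matrix.sub_mul, Matrix.mul_one, Matrix.one_mul] at hCN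
      exact sub_left_injective hCN
    have hdet : (G * C).det = 1 := by
      rw [Matrix.det_mul, hCdet, hε, mul_inv_cancel₀ hG0]
    let h : Matrix.SpecialLinearGroup (Fin n) F := ⟨G * C, hdet⟩
    apply isConj_iff.mpr
    refine ⟨h, ?_⟩
    rw [mul_inv_eq_iff_eq_mul]
    apply Subtype.ext
    rw [Matrix.SpecialLinearGroup.coe_mul, Matrix.SpecialLinearGroup.coe_mul]
    show G * C * (a : Matrix (Fin n) (Fin n) F) = (b : Matrix (Fin n) (Fin n) F) * (G * C)
    rw [Matrix.mul_assoc, hCA, ← Matrix.mul_assoc, hG, Matrix.mul_assoc]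

end Cfsg.Agent.S2162
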