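import Cfsg.Statements.S2163
import Mathlib

set_option autoImplicit false
open Cfsg

namespace Cfsg.Agent.S2163

open Matrix

/-- the off-diagonal block -/
def E (F : Type*) [Field F] (n ℓ : ℕ) : Matrix (Fin n) (Fin n) F :=
  Matrix.of (fun i j : Fin n => if j.val < ℓ ∧ i.val = j.val + (n - ℓ) then (1 : F) else 0)

theorem E_mul_E {F : Type*} [Field F] {n ℓ : ℕ} (h2 : 2 * ℓ ≤ n) : E F n ℓ * E F n ℓ = 0 := by
  ext i k
  simp only [Matrix.mul_apply, E, Matrix.of_apply, Matrix.zero_apply]
  apply Finset.sum_eq_zero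
  intro j _
  by_cases h : j.val < ℓ ∧ i.val = j.val + (n - ℓ)
  · have : ¬ (k.val < ℓ ∧ j.val = k.val + (n - ℓ)) := by
      rintro ⟨h3, h4⟩
      omega
    simp [this]
  · simp [h]

theorem E_lower {F : Type*} [Field F] {n ℓ : ℕ} (h1 : 1 ≤ ℓ) (h2 : 2 * ℓ ≤ n) (i j : Fin n) (hij : i ≤ j) :
    E F n ℓ i j = 0 := by
  simp only [E, Matrix.of_apply]
  have : ¬ (j.val < ℓ ∧ i.val = j.val + (n - ℓ)) := by
    rintro ⟨h3, h4⟩
    have : i.val ≤ j.val := hij
    omega
  simp [this]

theorem det_one_add_E {F : Type*} [Field F] {n ℓ : ℕ} (h1 : 1 ≤ ℓ) (h2 : 2 * ℓ ≤ n) :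
    (1 + E F n ℓ).det = 1 := by
  rw [Matrix.det_of_isLowerTriangular]
  · apply Finset.prod_eq_one
    intro i _
    simp [E_lower h1 h2 i i le_rfl]
  · intro i j hij
    have hij' : i < j := hij
    simp only [Matrix.add_apply]
    rw [E_lower h1 h2 i j hij'.le, Matrix.one_apply_ne hij'.ne, add_zero]

theorem rank_E {F : Type*} [Field F] {n ℓ : ℕ} (h1 : 1 ≤ ℓ) (h2 : 2 * ℓ ≤ n) :
    (E F n ℓ).rank = ℓ := by
  apply le_antisymm
  · -- factor through Fin ℓ
    let A : Matrix (Fin n) (Fin ℓ) F := Matrix.of fun i k => if i.val = k.val + (n - ℓ) then 1 else 0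
    let B : Matrix (Fin ℓ) (Fin n) F := Matrix.of fun k j => if j.val = k.val then 1 else 0
    have hAB : E F n ℓ = A * B := by
      ext i j
      simp only [E, Matrix.of_apply, Matrix.mul_apply, A, B]
      by_cases hj : j.val < ℓ
      · rw [Finset.sum_eq_single ⟨j.val, hj⟩]
        · simp [hj]
        · intro k _ hk
          have : ¬ (j.val = k.val) := by
            intro h
            apply hk
            ext
            simp [h]
          simp [this]
        · simp
      · have : ∀ k : Fin ℓ, ¬ (j.val = k.val) := by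
          intro k h
          have := k.isLt
          omega
        simp [hj, this]
    rw [hAB]
    calc (A * B).rank ≤ A.rank := Matrix.rank_mul_le_left A B
      _ ≤ Fintype.card (Fin ℓ) := Matrix.rank_le_card_width A
      _ = ℓ := Fintype.card_fin ℓ
  · -- identity submatrix
    have hsub : (E F n ℓ).submatrix (fun k : Fin ℓ => (⟨k.val + (n - ℓ), by have := k.isLt; omega⟩ : Fin n))
        (fun k : Fin ℓ => (⟨k.val, by have := k.isLt; omega⟩ : Fin n)) = (1 : Matrix (Fin ℓ) (Fin ℓ) F) := by
      ext a b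
      simp only [E, Matrix.submatrix_apply, Matrix.of_apply, Matrix.one_apply]
      by_cases hab : a = b
      · subst hab
        simp
      · have hv : ¬ (a.val = b.val) := fun h => hab (Fin.ext h)
        simp [hab, hv]
    calc ℓ = (1 : Matrix (Fin ℓ) (Fin ℓ) F).rank := by rw [Matrix.rank_one, Fintype.card_fin]
      _ = ((E F n ℓ).submatrix _ _).rank := by rw [hsub]
      _ ≤ (E F n ℓ).rank := Matrix.rank_submatrix_le _ _ _

/-- Over a finite field of characteristic two and for n ≥ 3: for every ℓ with 1 ≤ ℓ and 2ℓ ≤ n, the matrix j_ℓ that is the identity plus the entries 1 in positions (n − ℓ + i, i) for i < ℓ (an identity block of size ℓ in the lower left corner) lies in SL_n(F), has order 2, and j_ℓ − 1 has rank ℓ. Together with the conjugacy criterion by rank, these matrices represent the conjugacy classes of involutions of SL_n(F). -/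
theorem result {F : Type*} [Field F] [Fintype F] [CharP F 2] {n : ℕ} (hn : 3 ≤ n) (ℓ : ℕ) (h1 : 1 ≤ ℓ) (h2 : 2 * ℓ ≤ n) :
    ∃ a : Matrix.SpecialLinearGroup (Fin n) F, (a : Matrix (Fin n) (Fin n) F) = 1 + Matrix.of (fun i j : Fin n => if j.val < ℓ ∧ i.val = j.val + (n - ℓ) then (1 : F) else 0) ∧ orderOf a = 2 ∧ ((a : Matrix (Fin n) (Fin n) F) - 1).rank = ℓ := by
  set a : Matrix.SpecialLinearGroup (Fin n) F := ⟨1 + E F n ℓ, det_one_add_E h1 h2⟩ with ha
  have hac : (a : Matrix (Fin n) (Fin n) F) = 1 + E F n ℓ := rfl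
  refine ⟨a, rfl, ?_, ?_⟩
  · have : Fact (Nat.Prime 2) := ⟨Nat.prime_two⟩
    apply orderOf_eq_prime
    · apply Subtype.ext
      rw [Matrix.SpecialLinearGroup.coe_pow, Matrix.SpecialLinearGroup.coe_one, hac]
      rw [pow_two, Matrix.add_mul, Matrix.mul_add, Matrix.mul_add, E_mul_E h2]
      simp only [Matrix.one_mul, Matrix.mul_one, add_zero]
      have h2F : (2 : F) = 0 := CharP.cast_eq_zero F 2
      have : E F n ℓ + E F n ℓ = 0 := by
        rw [← two_smul F (E F n ℓ), h2F, zero_smul]
      rw [add_assoc, this, add_zero]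
    · intro h
      have h' := congrArg (fun a : Matrix.SpecialLinearGroup (Fin n) F => (a : Matrix (Fin n) (Fin n) F)) h
      simp only [Matrix.SpecialLinearGroup.coe_one] at h'
      rw [hac] at h'
      have hE : E F n ℓ = 0 := by
        have := add_left_cancel (a := (1 : Matrix (Fin n) (Fin n) F)) (b := E F n ℓ) (c := 0) (by rw [add_zero]; exact h')
        exact this
      have hr := rank_E (F := F) h1 h2
      rw [hE, Matrix.rank_zero] at hr
      omega
  · rw [hac, add_sub_cancel_left]
    exact rank_E h1 h2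

end Cfsg.Agent.S2163
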