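import Cfsg.Statements.S2165
import Mathlib

set_option autoImplicit false
open Cfsg

namespace Cfsg.Agent.S2165

open Matrix

/-- the permutation matrix -/
def P (F : Type*) [Field F] (n ℓ : ℕ) : Matrix (Fin n) (Fin n) F :=
  Matrix.of (fun i j : Fin n => if (j.val < ℓ ∧ i.val = j.val + (n - ℓ)) ∨ (i.val < ℓ ∧ j.val = i.val + (n - ℓ)) ∨ (i = j ∧ ℓ ≤ i.val ∧ i.val < n - ℓ) then (1 : F) else 0)

/-- the underlying involution on indices -/
def sig (n ℓ : ℕ) (h2 : 2 * ℓ ≤ n) (i : Fin n) : Fin n :=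
  if h : i.val < ℓ then ⟨i.val + (n - ℓ), by omega⟩
  else if h' : n - ℓ ≤ i.val then ⟨i.val - (n - ℓ), by have := i.isLt; omega⟩
  else i

theorem sig_sig (n ℓ : ℕ) (h2 : 2 * ℓ ≤ n) (i : Fin n) : sig n ℓ h2 (sig n ℓ h2 i) = i := by
  have := i.isLt
  unfold sig
  by_cases h : i.val < ℓ
  · simp only [h, dite_true]
    have h3 : ¬ (i.val + (n - ℓ) < ℓ) := by omega
    have h4 : n - ℓ ≤ i.val + (n - ℓ) := by omega
    simp only [h3, h4, dite_true, dite_false]
    ext
    simp
  · by_cases h' : n - ℓ ≤ i.val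
    · simp only [h, h', dite_true, dite_false]
      have h3 : i.val - (n - ℓ) < ℓ := by omega
      simp only [h3, dite_true]
      ext
      simp
      omega
    · simp only [h, h', dite_false]

/-- sig as a permutation -/
def sigEquiv (n ℓ : ℕ) (h2 : 2 * ℓ ≤ n) : Equiv.Perm (Fin n) where
  toFun := sig n ℓ h2
  invFun := sig n ℓ h2
  left_inv := sig_sig n ℓ h2
  right_inv := sig_sig n ℓ h2

theorem P_apply {F : Type*} [Field F] {n ℓ : ℕ} (h2 : 2 * ℓ ≤ n) (i j : Fin n) :
    P F n ℓ i j = if sig n ℓ h2 i = j then 1 else 0 := by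
  have hi := i.isLt
  have hj := j.isLt
  simp only [P, Matrix.of_apply, sig]
  by_cases h : i.val < ℓ
  · simp only [h, dite_true, Fin.ext_iff, true_and]
    have e : ((j.val < ℓ ∧ i.val = j.val + (n - ℓ)) ∨ j.val = i.val + (n - ℓ) ∨ (i.val = j.val ∧ ℓ ≤ i.val ∧ i.val < n - ℓ)) ↔ (i.val + (n - ℓ) = j.val) := by
      omega
    simp only [e]
  · by_cases h' : n - ℓ ≤ i.val
    · simp only [h, h', dite_true, dite_false, Fin.ext_iff, false_and, false_or]
      have e : ((j.val < ℓ ∧ i.val = j.val + (n - ℓ)) ∨ (i.val = j.val ∧ ℓ ≤ i.val ∧ i.val < n - ℓ)) ↔ (i.val - (n - ℓ) = j.val) := by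
        omega
      simp only [e]
    · simp only [h, h', dite_false, Fin.ext_iff, false_and, false_or]
      have e : ((j.val < ℓ ∧ i.val = j.val + (n - ℓ)) ∨ (i.val = j.val ∧ ℓ ≤ i.val ∧ i.val < n - ℓ)) ↔ (i.val = j.val) := by
        omega
      simp only [e]

theorem P_mulVec {F : Type*} [Field F] {n ℓ : ℕ} (h2 : 2 * ℓ ≤ n) (u : Fin n → F) (i : Fin n) :
    (P F n ℓ *ᵥ u) i = u (sig n ℓ h2 i) := by
  simp only [Matrix.mulVec, dotProduct, P_apply h2]
  rw [Finset.sum_eq_single (sig n ℓ h2 i)]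
  · simp
  · intro j _ hj
    simp [Ne.symm hj]
  · simp

theorem P_mul_P {F : Type*} [Field F] {n ℓ : ℕ} (h2 : 2 * ℓ ≤ n) : P F n ℓ * P F n ℓ = 1 := by
  ext i k
  simp only [Matrix.mul_apply, P_apply h2, Matrix.one_apply]
  rw [Finset.sum_eq_single (sig n ℓ h2 i)]
  · simp only [if_true, one_mul, sig_sig]
  · intro j _ hj
    simp [Ne.symm hj]
  · simp

theorem P_eq_perm {F : Type*} [Field F] {n ℓ : ℕ} (h2 : 2 * ℓ ≤ n) :
    P F n ℓ = (sigEquiv n ℓ h2).permMatrix F := by
  ext i j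
  rw [P_apply h2]
  simp [Equiv.Perm.permMatrix, PEquiv.toMatrix_apply, Equiv.toPEquiv_apply, sigEquiv]

theorem det_P {F : Type*} [Field F] [CharP F 2] {n ℓ : ℕ} (h2 : 2 * ℓ ≤ n) : (P F n ℓ).det = 1 := by
  rw [P_eq_perm h2, Matrix.det_permutation]
  have hneg : (-1 : F) = 1 := by
    have h2F : (2 : F) = 0 := CharP.cast_eq_zero F 2
    have : (1 : F) + 1 = 0 := by rw [one_add_one_eq_two, h2F]
    exact neg_eq_of_add_eq_zero_left this
  rcases Int.units_eq_one_or (Equiv.Perm.sign (sigEquiv n ℓ h2)) with h | h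
  · simp [h]
  · simp [h, hneg]


theorem neg_one_eq {F : Type*} [Field F] [CharP F 2] : (-1 : F) = 1 := by
  have h2F : (2 : F) = 0 := CharP.cast_eq_zero F 2
  have : (1 : F) + 1 = 0 := by rw [one_add_one_eq_two, h2F]
  exact neg_eq_of_add_eq_zero_left this

theorem rank_P_sub_one {F : Type*} [Field F] [CharP F 2] {n ℓ : ℕ} (h1 : 1 ≤ ℓ) (h2 : 2 * ℓ ≤ n) :
    (P F n ℓ - 1).rank = ℓ := by
  have h11 : (1 : F) + 1 = 0 := by
    have h2F : (2 : F) = 0 := CharP.cast_eq_zero F 2
    rw [one_add_one_eq_two, h2F]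
  have hsub : ∀ x : F, x - 1 = x + 1 := by
    intro x
    rw [sub_eq_add_neg, neg_one_eq]
  apply le_antisymm
  · let A : Matrix (Fin n) (Fin ℓ) F := Matrix.of fun i k => if (i.val = k.val ∨ i.val = k.val + (n - ℓ)) then 1 else 0
    let B : Matrix (Fin ℓ) (Fin n) F := Matrix.of fun k j => if (j.val = k.val ∨ j.val = k.val + (n - ℓ)) then 1 else 0
    have hAB : P F n ℓ - 1 = A * B := by
      ext i j
      have hi := i.isLt
      have hj := j.isLt
      simp only [Matrix.sub_apply, Matrix.one_apply, P, Matrix.of_apply, Matrix.mul_apply, A, B]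
      by_cases h : i.val < ℓ
      · rw [Finset.sum_eq_single (⟨i.val, h⟩ : Fin ℓ)]
        · simp only [true_or, if_true, one_mul, Fin.ext_iff]
          split_ifs <;> first | (exfalso; omega) | simp [h11, hsub]
        · intro k _ hk
          have hk' : k.val ≠ i.val := fun e => hk (Fin.ext e)
          have hkl := k.isLt
          have : ¬ (i.val = k.val ∨ i.val = k.val + (n - ℓ)) := by omega
          simp [this]
        · simp
      · by_cases h' : n - ℓ ≤ i.val
        · rw [Finset.sum_eq_single (⟨i.val - (n - ℓ), by omega⟩ : Fin ℓ)]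
          · simp only [Fin.ext_iff]
            split_ifs <;> first | (exfalso; omega) | simp [h11, hsub]
          · intro k _ hk
            have hk' : k.val ≠ i.val - (n - ℓ) := fun e => hk (Fin.ext e)
            have hkl := k.isLt
            have : ¬ (i.val = k.val ∨ i.val = k.val + (n - ℓ)) := by omega
            simp [this]
          · simp
        · rw [Finset.sum_eq_zero]
          · simp only [Fin.ext_iff]
            split_ifs <;> first | (exfalso; omega) | simp [h11, hsub]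
          · intro k _
            have hkl := k.isLt
            have : ¬ (i.val = k.val ∨ i.val = k.val + (n - ℓ)) := by omega
            simp [this]
    rw [hAB]
    calc (A * B).rank ≤ A.rank := Matrix.rank_mul_le_left A B
      _ ≤ Fintype.card (Fin ℓ) := Matrix.rank_le_card_width A
      _ = ℓ := Fintype.card_fin ℓ
  · have hsubm : (P F n ℓ - 1).submatrix (fun k : Fin ℓ => (⟨k.val + (n - ℓ), by have := k.isLt; omega⟩ : Fin n))
        (fun k : Fin ℓ => (⟨k.val, by have := k.isLt; omega⟩ : Fin n)) = (1 : Matrix (Fin ℓ) (Fin ℓ) F) := by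
      ext a b
      have ha := a.isLt
      have hb := b.isLt
      simp only [P, Matrix.submatrix_apply, Matrix.sub_apply, Matrix.of_apply, Matrix.one_apply, Fin.ext_iff]
      split_ifs <;> first | (exfalso; omega) | simp [h11, hsub]
    calc ℓ = (1 : Matrix (Fin ℓ) (Fin ℓ) F).rank := by rw [Matrix.rank_one, Fintype.card_fin]
      _ = ((P F n ℓ - 1).submatrix _ _).rank := by rw [hsubm]
      _ ≤ (P F n ℓ - 1).rank := Matrix.rank_submatrix_le _ _ _

theorem P_mem_SU {F : Type*} [Field F] [CharP F 2] {n ℓ q : ℕ} (h2 : 2 * ℓ ≤ n) :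
    (⟨P F n ℓ, det_P h2⟩ : Matrix.SpecialLinearGroup (Fin n) F) ∈ Cfsg.SU n F q := by
  show ∀ u v, _ = _
  intro u v
  have hmat : (Cfsg.slToMat n F) (⟨P F n ℓ, det_P h2⟩ : Matrix.SpecialLinearGroup (Fin n) F) = P F n ℓ := rfl
  rw [hmat]
  unfold Cfsg.hermForm
  simp only [P_mulVec h2]
  exact Equiv.sum_comp (sigEquiv n ℓ h2) (fun i => u i * v i ^ q)


/-- In SU_n(q), q even, n ≥ 3 (matrices of determinant 1 over the field with q² elements preserving Σ u_i v_i^q): for every ℓ with 1 ≤ ℓ and 2ℓ ≤ n, the permutation matrix of the involution of {0, …, n−1} exchanging i and n − ℓ + i for each i < ℓ lies in SU_n(q), has order 2, and differs from the identity by a matrix of rank ℓ. So every rank between 1 and n/2 occurs for involutions of SU_n(q). -/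
theorem result {F : Type*} [Field F] [Fintype F] [CharP F 2] {n q : ℕ} (hF : Fintype.card F = q ^ 2) (hn : 3 ≤ n) (ℓ : ℕ) (h1 : 1 ≤ ℓ) (h2 : 2 * ℓ ≤ n) :
    ∃ a : ↥(Cfsg.SU n F q), (((a : Matrix.SpecialLinearGroup (Fin n) F) : Matrix (Fin n) (Fin n) F) = Matrix.of (fun i j : Fin n => if (j.val < ℓ ∧ i.val = j.val + (n - ℓ)) ∨ (i.val < ℓ ∧ j.val = i.val + (n - ℓ)) ∨ (i = j ∧ ℓ ≤ i.val ∧ i.val < n - ℓ) then (1 : F) else 0)) ∧ orderOf a = 2 ∧ ((((a : Matrix.SpecialLinearGroup (Fin n) F) : Matrix (Fin n) (Fin n) F)) - 1).rank = ℓ := by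
  set a : ↥(Cfsg.SU n F q) := ⟨⟨P F n ℓ, det_P h2⟩, P_mem_SU h2⟩ with ha
  have hac : ((a : Matrix.SpecialLinearGroup (Fin n) F) : Matrix (Fin n) (Fin n) F) = P F n ℓ := rfl
  refine ⟨a, rfl, ?_, ?_⟩
  · have : Fact (Nat.Prime 2) := ⟨Nat.prime_two⟩
    apply orderOf_eq_prime
    · apply Subtype.ext
      apply Subtype.ext
      rw [Subgroup.coe_pow, Matrix.SpecialLinearGroup.coe_pow, Subgroup.coe_one, Matrix.SpecialLinearGroup.coe_one, hac, pow_two, P_mul_P h2]
    · intro h
      have h' : ((a : Matrix.SpecialLinearGroup (Fin n) F) : Matrix (Fin n) (Fin n) F) = 1 := by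
        rw [h]
        rfl
      rw [hac] at h'
      have hr := rank_P_sub_one (F := F) h1 h2
      rw [h', sub_self, Matrix.rank_zero] at hr
      omega
  · rw [hac]
    exact rank_P_sub_one h1 h2

end Cfsg.Agent.S2165
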