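import Cfsg.Statements.S2169
import Mathlib
import Cfsg.Agent.Lib.Helper36.PlusOrth

set_option autoImplicit false
open Cfsg

namespace Cfsg.Agent.S2169

open Matrix Module Cfsg.Agent.Helper36 Cfsg.Agent.Helper36.PlusOrth Cfsg.Agent.S2168

universe u

variable {F : Type u} [Field F] [Fintype F] [CharP F 2] {m : ℕ}

omit [Fintype F] [CharP F 2] in
theorem eq_one_of_rank_zero (t : OPlus m F)
    (h : ((t.1 : Matrix (Fin m ⊕ Fin m) (Fin m ⊕ Fin m) F) - 1).rank = 0) : t = 1 := by
  rw [rank_eq] at h
  have h1 : LinearMap.range ((actHom m F t).toLinearMap - LinearMap.id) = ⊥ :=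
    Submodule.finrank_eq_zero.mp h
  rw [LinearMap.range_eq_bot] at h1
  apply act_ext
  intro v
  rw [act_one]
  have := LinearMap.congr_fun h1 v
  rw [LinearMap.sub_apply, LinearMap.zero_apply, LinearMap.id_apply, LinearEquiv.coe_coe] at this
  exact sub_eq_zero.mp this

omit [Fintype F] [CharP F 2] in
theorem rank_one_eq : (((1 : OPlus m F).1 : Matrix (Fin m ⊕ Fin m) (Fin m ⊕ Fin m) F) - 1).rank = 0 := by
  simp

theorem main_induction (hm : 4 ≤ m) : ∀ (ℓ : ℕ) (t : OPlus m F), t * t = 1 →
    ((t.1 : Matrix (Fin m ⊕ Fin m) (Fin m ⊕ Fin m) F) - 1).rank = ℓ →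
    ((dnat t : ℕ) : ZMod 2) = (ℓ : ZMod 2) ∧
      (Even ℓ → t ∈ Cfsg.Omega F (Cfsg.quadFormPlus m F)) := by
  intro ℓ
  induction ℓ using Nat.strong_induction_on with
  | _ ℓ ih =>
    intro t ht hrank
    by_cases hℓ : ℓ = 0
    · subst hℓ
      have ht1 := eq_one_of_rank_zero t hrank
      subst ht1
      exact ⟨by rw [dnat_one], fun _ => Subgroup.one_mem _⟩
    have ht1 : t ≠ 1 := by
      intro h
      apply hℓ
      rw [← hrank, h]
      exact rank_one_eq
    by_cases halt : ∀ v, Bp m F v (actHom m F t v) = 0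
    · -- alternating type
      have heven := even_rank_of_alt' t ht halt
      rw [hrank] at heven
      obtain ⟨k, hk⟩ := heven
      have hle := rank_le t ht
      obtain ⟨M, hM⟩ := exists_alt_rank (F := F) (m := m) k (by omega)
      have hu_mem := uSym_mem (F := F) (m := m) (by omega) M
      have hu_rank : (((uSym M).1 : Matrix (Fin m ⊕ Fin m) (Fin m ⊕ Fin m) F) - 1).rank = ℓ := by
        unfold uSym
        rw [rank_uS, hM]
        omega
      have hu_sq : uSym M * uSym M = 1 := uS_mul_self _ _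
      have hu1 : uSym M ≠ 1 := by
        intro h
        apply hℓ
        rw [← hu_rank, h]
        exact rank_one_eq
      obtain ⟨c, hc⟩ := conjO hm (uSym M) t hu_sq ht hu1 ht1 (by rw [hu_rank, hrank])
        ⟨fun _ => halt, fun _ => alt_uS _ _⟩
      have hmem : t ∈ Cfsg.Omega F (Cfsg.quadFormPlus m F) := by
        rw [← hc]
        have hn : (Cfsg.Omega F (Cfsg.quadFormPlus m F)).Normal := inferInstance
        exact hn.conj_mem _ hu_mem c
      refine ⟨?_, fun _ => hmem⟩
      have h1 := dnat_even_of_mem t hmem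
      rw [ZMod.natCast_eq_zero_iff_even.mpr h1]
      symm
      rw [ZMod.natCast_eq_zero_iff_even]
      exact ⟨k, hk⟩
    · push Not at halt
      obtain ⟨v, hv⟩ := halt
      obtain ⟨a, ha, hsq', hrank'⟩ := peel t ht v hv
      obtain ⟨t', ht'⟩ : ∃ t', t' = refl a ha * t := ⟨_, rfl⟩
      rw [← ht'] at hsq' hrank'
      have htt' : t = refl a ha * t' := by
        rw [ht', ← mul_assoc, refl_mul_self, one_mul]
      have hr' : ((t'.1 : Matrix (Fin m ⊕ Fin m) (Fin m ⊕ Fin m) F) - 1).rank = ℓ - 1 := by omega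
      obtain ⟨ih1, _⟩ := ih (ℓ - 1) (by omega) t' hsq' hr'
      constructor
      · rw [htt', dnat_mul_cast, dnat_refl, ih1]
        have : ℓ = (ℓ - 1) + 1 := by omega
        conv_rhs => rw [this]
        push_cast
        ring
      · intro heven
        have hodd : ¬ Even (ℓ - 1) := by
          rw [Nat.even_iff] at heven ⊢
          omega
        have halt' : ¬ ∀ v, Bp m F v (actHom m F t' v) = 0 := by
          intro h
          have := even_rank_of_alt' t' hsq' h
          rw [hr'] at this
          exact hodd this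
        push Not at halt'
        obtain ⟨v', hv'⟩ := halt'
        obtain ⟨b, hb, hsq'', hrank''⟩ := peel t' hsq' v' hv'
        obtain ⟨t'', ht''⟩ : ∃ t'', t'' = refl b hb * t' := ⟨_, rfl⟩
        rw [← ht''] at hsq'' hrank''
        have htt'' : t' = refl b hb * t'' := by
          rw [ht'', ← mul_assoc, refl_mul_self, one_mul]
        have hr'' : ((t''.1 : Matrix (Fin m ⊕ Fin m) (Fin m ⊕ Fin m) F) - 1).rank = ℓ - 2 := by
          omega
        obtain ⟨_, ih3⟩ := ih (ℓ - 2) (by omega) t'' hsq'' hr''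
        have h3 := ih3 (by rw [Nat.even_iff] at heven ⊢; omega)
        rw [htt', htt'', ← mul_assoc]
        exact Subgroup.mul_mem _ (refl_mul_refl_mem hm a ha b hb) h3

/-- For the hyperbolic quadratic form Σ x_i y_i in dimension 2m over a finite field F of characteristic two, m ≥ 4 (plus type): an element of order 2 of the full isometry group O lies in the commutator subgroup Ω of O exactly when t − 1 has even rank. -/
theorem result {F : Type*} [Field F] [Fintype F] [CharP F 2] {m : ℕ} (hm : 4 ≤ m) (t : ↥(Cfsg.isometryGroup F (Cfsg.quadFormPlus m F))) (ht : orderOf t = 2) :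
    t ∈ Cfsg.Omega F (Cfsg.quadFormPlus m F) ↔ Even ((((t : ↥(Cfsg.isometryGroup F (Cfsg.quadFormPlus m F))) : GL (Fin m ⊕ Fin m) F) : Matrix (Fin m ⊕ Fin m) (Fin m ⊕ Fin m) F) - 1).rank := by
  have htt : t * t = 1 := by
    have := pow_orderOf_eq_one t
    rw [ht, pow_two] at this
    exact this
  obtain ⟨h1, h2⟩ := main_induction hm _ t htt rfl
  constructor
  · intro hmem
    have h3 := dnat_even_of_mem t hmem
    rw [← ZMod.natCast_eq_zero_iff_even] at h3 ⊢
    rw [← h1]
    exact h3
  · exact h2

end Cfsg.Agent.S2169
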