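import Cfsg.Statements.S2596
import Mathlib
import Cfsg.Agent.S2595
import Cfsg.Agent.S2171
import Cfsg.Agent.Lib.Helper36.InvConj

set_option autoImplicit false
open Cfsg

namespace Cfsg.Agent.S2596

open Matrix Module Cfsg.Agent.Helper36 Cfsg.Agent.Helper36.QuadInv Cfsg.Agent.S2170
  Cfsg.Agent.Helper36.InvConj

universe u

variable {F : Type u} [Field F] [Fintype F] [CharP F 2] {k : ℕ}

/-! ### identification of the polar form with the standard symplectic form -/

/-- the coordinate change -/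
noncomputable def Emap (k : ℕ) (c : F) :
    ((Fin k ⊕ Fin k) ⊕ Fin 2 → F) →ₗ[F] (Fin (k + 1) ⊕ Fin (k + 1) → F) where
  toFun v := Sum.elim
    (Fin.snoc (α := fun _ => F) (fun i : Fin k => v (Sum.inl (Sum.inl i))) (v (Sum.inr 0)))
    (Fin.snoc (α := fun _ => F) (fun i : Fin k => v (Sum.inl (Sum.inr i))) (c * v (Sum.inr 1)))
  map_add' u v := by
    funext x
    rcases x with x | x
    · refine Fin.lastCases ?_ (fun i => ?_) x
      · simp
      · simp
    · refine Fin.lastCases ?_ (fun i => ?_) x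
      · simp [mul_add]
      · simp
  map_smul' a v := by
    funext x
    rcases x with x | x
    · refine Fin.lastCases ?_ (fun i => ?_) x
      · simp
      · simp
    · refine Fin.lastCases ?_ (fun i => ?_) x
      · simp [mul_left_comm]
      · simp

omit [Fintype F] in
theorem Emap_form (c : F) (u v : (Fin k ⊕ Fin k) ⊕ Fin 2 → F) :
    Cfsg.Agent.S2166.Hs (k + 1) F (Emap k c u) (Emap k c v) = Bm k F c u v := by
  rw [PlusOrth.Hs_eq_Bp, Cfsg.Agent.S2168.Bp_apply, Fin.sum_univ_castSucc, Bm_apply,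
    Cfsg.Agent.S2168.Bp_apply]
  simp only [Emap, LinearMap.coe_mk, AddHom.coe_mk, Sum.elim_inl, Sum.elim_inr,
    Fin.snoc_castSucc, Fin.snoc_last, Function.comp_apply]
  ring

omit [Fintype F] in
theorem Emap_injective (c : F) (hc : c ≠ 0) : Function.Injective (Emap (F := F) k c) := by
  rw [injective_iff_map_eq_zero]
  intro u hu
  apply Bm_nondeg c hc
  intro v
  rw [← Emap_form, hu, map_zero, LinearMap.zero_apply]

/-- the coordinate change, as an equivalence -/
noncomputable def Ee (k : ℕ) (c : F) (hc : c ≠ 0) :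
    ((Fin k ⊕ Fin k) ⊕ Fin 2 → F) ≃ₗ[F] (Fin (k + 1) ⊕ Fin (k + 1) → F) :=
  LinearMap.linearEquivOfInjective (Emap k c) (Emap_injective c hc) (by
    rw [Module.finrank_fintype_fun_eq_card, Module.finrank_fintype_fun_eq_card]
    simp only [Fintype.card_sum, Fintype.card_fin]
    omega)

omit [Fintype F] in
theorem Ee_form (c : F) (hc : c ≠ 0) (u v : (Fin k ⊕ Fin k) ⊕ Fin 2 → F) :
    Cfsg.Agent.S2166.Hs (k + 1) F (Ee k c hc u) (Ee k c hc v) = Bm k F c u v := by
  unfold Ee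
  rw [LinearMap.linearEquivOfInjective_apply, LinearMap.linearEquivOfInjective_apply]
  exact Emap_form c u v

/-! ### the embedding of the plus-type group of the hyperbolic part -/

omit [Fintype F] [CharP F 2] in
theorem emb_Q (c d : F) (g : PlusOrth.OPlus k F) (v : (Fin k ⊕ Fin k) ⊕ Fin 2 → F) :
    Cfsg.quadFormMinus k F c d
      (fromBlocks (g.1 : Matrix (Fin k ⊕ Fin k) (Fin k ⊕ Fin k) F) 0 0
        (1 : Matrix (Fin 2) (Fin 2) F) *ᵥ v) = Cfsg.quadFormMinus k F c d v := by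
  rw [minus_eq, minus_eq, fromBlocks_mulVec]
  simp only [Sum.elim_comp_inl, Sum.elim_comp_inr, zero_mulVec, add_zero, zero_add, one_mulVec]
  rw [(PlusOrth.mem_O_iff _).mp g.2]

/-- the embedding -/
noncomputable def emb (c d : F) (g : PlusOrth.OPlus k F) :
    OG F (Cfsg.quadFormMinus k F c d) :=
  ⟨⟨fromBlocks (g.1 : Matrix (Fin k ⊕ Fin k) (Fin k ⊕ Fin k) F) 0 0 1,
    fromBlocks ((g.1⁻¹ : GL (Fin k ⊕ Fin k) F) : Matrix (Fin k ⊕ Fin k) (Fin k ⊕ Fin k) F) 0 0 1,
    by rw [fromBlocks_multiply]; simp [fromBlocks_one],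
    by rw [fromBlocks_multiply]; simp [fromBlocks_one]⟩,
   (mem_O_iff _).mpr (emb_Q c d g)⟩

omit [Fintype F] [CharP F 2] in
theorem act_emb (c d : F) (g : PlusOrth.OPlus k F) (v : (Fin k ⊕ Fin k) ⊕ Fin 2 → F) :
    actHom (Cfsg.quadFormMinus k F c d) (emb c d g) v =
      Sum.elim (PlusOrth.actHom k F g (v ∘ Sum.inl)) (v ∘ Sum.inr) := by
  rw [actHom_apply, PlusOrth.actHom_apply]
  show fromBlocks (g.1 : Matrix (Fin k ⊕ Fin k) (Fin k ⊕ Fin k) F) 0 0 1 *ᵥ v = _
  rw [fromBlocks_mulVec]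
  simp

omit [Fintype F] [CharP F 2] in
theorem emb_sq (c d : F) (g : PlusOrth.OPlus k F) (hg : g * g = 1) :
    emb c d g * emb c d g = 1 := by
  apply act_ext
  intro v
  rw [act_mul, act_one, act_emb, act_emb]
  simp only [Sum.elim_comp_inl, Sum.elim_comp_inr]
  rw [PlusOrth.act_act_of_sq g hg]
  exact Sum.elim_comp_inl_inr v

omit [Fintype F] [CharP F 2] in
theorem rank_emb (c d : F) (g : PlusOrth.OPlus k F) :
    (((emb c d g).1 : Matrix ((Fin k ⊕ Fin k) ⊕ Fin 2) ((Fin k ⊕ Fin k) ⊕ Fin 2) F) - 1).rank =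
      ((g.1 : Matrix (Fin k ⊕ Fin k) (Fin k ⊕ Fin k) F) - 1).rank := by
  have : ((emb c d g).1 : Matrix ((Fin k ⊕ Fin k) ⊕ Fin 2) ((Fin k ⊕ Fin k) ⊕ Fin 2) F) - 1 =
      fromBlocks ((g.1 : Matrix (Fin k ⊕ Fin k) (Fin k ⊕ Fin k) F) - 1) 0 0 0 := by
    show fromBlocks (g.1 : Matrix (Fin k ⊕ Fin k) (Fin k ⊕ Fin k) F) 0 0 1 - 1 = _
    rw [← fromBlocks_one, sub_eq_add_neg, fromBlocks_neg, fromBlocks_add]
    simp [sub_eq_add_neg]
  rw [this, PlusOrth.rank_fromBlocks_11]

omit [Fintype F] in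
theorem type_emb (c d : F) (g : PlusOrth.OPlus k F) (v : (Fin k ⊕ Fin k) ⊕ Fin 2 → F) :
    Bm k F c v (actHom (Cfsg.quadFormMinus k F c d) (emb c d g) v) =
      Cfsg.Agent.S2168.Bp k F (v ∘ Sum.inl) (PlusOrth.actHom k F g (v ∘ Sum.inl)) := by
  rw [act_emb, Bm_apply]
  simp only [Sum.elim_comp_inl, Sum.elim_inr, Function.comp_apply]
  have := char_two_add_self (c * (v (Sum.inr 0) * v (Sum.inr 1)))
  linear_combination this

omit [Fintype F] in
theorem alt_emb_iff (c d : F) (g : PlusOrth.OPlus k F) :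
    (∀ v, Bm k F c v (actHom (Cfsg.quadFormMinus k F c d) (emb c d g) v) = 0) ↔
      (∀ w, Cfsg.Agent.S2168.Bp k F w (PlusOrth.actHom k F g w) = 0) := by
  constructor
  · intro h w
    have h1 := h (Sum.elim w 0)
    rw [type_emb] at h1
    simpa using h1
  · intro h v
    rw [type_emb]
    exact h _

/-! ### the non-singular vector of the anisotropic plane -/

/-- first basis vector of the plane -/
def u0 (k : ℕ) (F : Type u) [Field F] : (Fin k ⊕ Fin k) ⊕ Fin 2 → F :=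
  Sum.elim 0 (Pi.single 0 1)

/-- second basis vector of the plane -/
def u1 (k : ℕ) (F : Type u) [Field F] : (Fin k ⊕ Fin k) ⊕ Fin 2 → F :=
  Sum.elim 0 (Pi.single 1 1)

omit [Fintype F] [CharP F 2] in
theorem Q_u0 (c d : F) : Cfsg.quadFormMinus k F c d (u0 k F) = 1 := by
  rw [minus_eq]
  have h1 : Cfsg.quadFormPlus k F ((u0 k F) ∘ Sum.inl) = 0 := by
    unfold Cfsg.quadFormPlus
    apply Finset.sum_eq_zero
    intro i _
    simp [u0]
  rw [h1, zero_add]
  simp [Rb, u0]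

omit [Fintype F] [CharP F 2] in
theorem Q_u0_ne (c d : F) : Cfsg.quadFormMinus k F c d (u0 k F) ≠ 0 := by
  rw [Q_u0]
  exact one_ne_zero

omit [Fintype F] [CharP F 2] in
theorem Bm_u0_u1 (c : F) : Bm k F c (u0 k F) (u1 k F) = c := by
  rw [Bm_apply]
  have h1 : (u0 k F) ∘ Sum.inl = (0 : Fin k ⊕ Fin k → F) := by
    funext i
    simp [u0]
  rw [h1, map_zero, LinearMap.zero_apply, zero_add]
  simp [u0, u1]

omit [Fintype F] [CharP F 2] in
theorem emb_u0 (c d : F) (g : PlusOrth.OPlus k F) :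
    actHom (Cfsg.quadFormMinus k F c d) (emb c d g) (u0 k F) = u0 k F := by
  rw [act_emb]
  have h1 : (u0 k F) ∘ Sum.inl = (0 : Fin k ⊕ Fin k → F) := by
    funext i
    simp [u0]
  rw [h1, map_zero]
  funext x
  rcases x with x | x <;> rfl

omit [Fintype F] [CharP F 2] in
theorem emb_u1 (c d : F) (g : PlusOrth.OPlus k F) :
    actHom (Cfsg.quadFormMinus k F c d) (emb c d g) (u1 k F) = u1 k F := by
  rw [act_emb]
  have h1 : (u1 k F) ∘ Sum.inl = (0 : Fin k ⊕ Fin k → F) := by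
    funext i
    simp [u1]
  rw [h1, map_zero]
  funext x
  rcases x with x | x <;> rfl

/-! ### the representatives -/

/-- the full swap of the hyperbolic part -/
noncomputable def pOne (k : ℕ) (F : Type u) [Field F] [CharP F 2] : PlusOrth.OPlus k F :=
  Cfsg.Agent.S2595.pO (1 : Matrix (Fin k) (Fin k) F) transpose_one (mul_one 1)

omit [Fintype F] in
theorem pOne_sq : pOne k F * pOne k F = 1 := Cfsg.Agent.S2595.pO_sq _ _ _

omit [Fintype F] in
theorem rank_pOne :
    (((pOne k F).1 : Matrix (Fin k ⊕ Fin k) (Fin k ⊕ Fin k) F) - 1).rank = k := by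
  unfold pOne
  rw [Cfsg.Agent.S2595.rank_pO, Matrix.rank_one, Fintype.card_fin]

/-- the representative of largest rank -/
noncomputable def top (c d : F) : OG F (Cfsg.quadFormMinus k F c d) :=
  refl (isQuad_minus c d) (u0 k F) (Q_u0_ne c d) * emb c d (pOne k F)

omit [Fintype F] in
theorem top_spec (c d : F) (hc : c ≠ 0) :
    top (k := k) c d * top c d = 1 ∧
      (((top (k := k) c d).1 :
        Matrix ((Fin k ⊕ Fin k) ⊕ Fin 2) ((Fin k ⊕ Fin k) ⊕ Fin 2) F) - 1).rank = k + 1 ∧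
      ¬ ∀ v, Bm k F c v (actHom (Cfsg.quadFormMinus k F c d) (top c d) v) = 0 := by
  have hne : Bm k F c (u0 k F) (u1 k F) ≠ 0 := by
    rw [Bm_u0_u1]
    exact hc
  obtain ⟨h1, h2, h3⟩ := rank_refl_mul (isQuad_minus c d) (emb c d (pOne k F))
    (emb_sq c d _ pOne_sq) (u0 k F) (Q_u0_ne c d) (emb_u0 c d _) (u1 k F) (emb_u1 c d _) hne
  refine ⟨h1, ?_, ?_⟩
  · show (((refl (isQuad_minus c d) (u0 k F) (Q_u0_ne c d) * emb c d (pOne k F)).1 :
        Matrix ((Fin k ⊕ Fin k) ⊕ Fin 2) ((Fin k ⊕ Fin k) ⊕ Fin 2) F) - 1).rank = k + 1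
    rw [h2, rank_emb, rank_pOne]
  · intro h
    have h4 := h (u1 k F)
    have h5 : Bm k F c (u1 k F) (actHom (Cfsg.quadFormMinus k F c d)
        (refl (isQuad_minus c d) (u0 k F) (Q_u0_ne c d) * emb c d (pOne k F)) (u1 k F)) = 0 := h4
    rw [h3, emb_u1, (isQuad_minus c d).self, zero_add] at h5
    exact mul_ne_zero (inv_ne_zero (Q_u0_ne c d)) (mul_ne_zero hne hne) h5

/-- the representatives of the classes of involutions -/
noncomputable def rep (c d : F) :
    Fin (k + 1) ⊕ Fin (k / 2) → OG F (Cfsg.quadFormMinus k F c d)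
  | Sum.inl i =>
      if h : i.val < k then
        emb c d (Cfsg.Agent.S2595.pO (Cfsg.Agent.S2593.dmat F k ⟨i.val, h⟩)
          (Cfsg.Agent.S2593.dmat_symm _) (Cfsg.Agent.S2595.dmat_idem _))
      else top c d
  | Sum.inr j => emb c d (PlusOrth.uSym (Cfsg.Agent.S2593.amat F k j))

/-- the rank attached to an index -/
def rk : Fin (k + 1) ⊕ Fin (k / 2) → ℕ
  | Sum.inl i => i.val + 1
  | Sum.inr j => 2 * (j.val + 1)

omit [Fintype F] in
theorem rep_sq (c d : F) (hc : c ≠ 0) (x : Fin (k + 1) ⊕ Fin (k / 2)) :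
    rep c d x * rep c d x = 1 := by
  rcases x with i | j
  · by_cases h : i.val < k
    · simp only [rep, dif_pos h]
      exact emb_sq c d _ (Cfsg.Agent.S2595.pO_sq _ _ _)
    · simp only [rep, dif_neg h]
      exact (top_spec c d hc).1
  · exact emb_sq c d _ (PlusOrth.uS_mul_self _ _)

omit [Fintype F] in
theorem rank_rep (c d : F) (hc : c ≠ 0) (x : Fin (k + 1) ⊕ Fin (k / 2)) :
    (((rep c d x).1 : Matrix ((Fin k ⊕ Fin k) ⊕ Fin 2) ((Fin k ⊕ Fin k) ⊕ Fin 2) F) - 1).rank =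
      rk x := by
  rcases x with i | j
  · by_cases h : i.val < k
    · simp only [rep, dif_pos h, rk]
      rw [rank_emb, Cfsg.Agent.S2595.rank_pO, Cfsg.Agent.S2593.dmat_rank]
    · simp only [rep, dif_neg h, rk]
      rw [(top_spec c d hc).2.1]
      have := i.isLt
      omega
  · show (((emb c d (PlusOrth.uS (Cfsg.Agent.S2593.amat F k j + (Cfsg.Agent.S2593.amat F k j)ᵀ)
        (PlusOrth.isAlt_sym (Cfsg.Agent.S2593.amat F k j)))).1 :
        Matrix ((Fin k ⊕ Fin k) ⊕ Fin 2) ((Fin k ⊕ Fin k) ⊕ Fin 2) F) - 1).rank = 2 * (j.val + 1)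
    rw [rank_emb, PlusOrth.rank_uS, Cfsg.Agent.S2593.amat_rank]

omit [Fintype F] in
theorem type_rep (c d : F) (hc : c ≠ 0) (x : Fin (k + 1) ⊕ Fin (k / 2)) :
    (∀ v, Bm k F c v (actHom (Cfsg.quadFormMinus k F c d) (rep c d x) v) = 0) ↔
      ∃ j, x = Sum.inr j := by
  rcases x with i | j
  · constructor
    · intro halt
      exfalso
      by_cases h : i.val < k
      · simp only [rep, dif_pos h] at halt
        rw [alt_emb_iff] at halt
        obtain ⟨j, hj⟩ := (Cfsg.Agent.S2595.type_rep (F := F) (m := k) (Sum.inl ⟨i.val, h⟩)).mp halt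
        exact absurd hj (by simp)
      · simp only [rep, dif_neg h] at halt
        exact (top_spec c d hc).2.2 halt
    · rintro ⟨j, hj⟩
      exact absurd hj (by simp)
  · constructor
    · intro _
      exact ⟨j, rfl⟩
    · intro _
      show ∀ v, Bm k F c v (actHom (Cfsg.quadFormMinus k F c d)
        (emb c d (PlusOrth.uSym (Cfsg.Agent.S2593.amat F k j))) v) = 0
      rw [alt_emb_iff]
      intro w
      exact PlusOrth.alt_uS (Cfsg.Agent.S2593.amat F k j + (Cfsg.Agent.S2593.amat F k j)ᵀ)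
        (PlusOrth.isAlt_sym (Cfsg.Agent.S2593.amat F k j)) w

omit [Fintype F] in
theorem rep_order (c d : F) (hc : c ≠ 0) (x : Fin (k + 1) ⊕ Fin (k / 2)) :
    orderOf (rep (F := F) c d x) = 2 := by
  apply orderOf_eq_prime
  · rw [pow_two]
    exact rep_sq c d hc x
  · intro h
    have h1 := rank_rep (F := F) c d hc x
    rw [h, rank_one_eq] at h1
    rcases x with i | j <;> simp [rk] at h1

/-! ### counting -/

theorem count_ne_minus' (c d : F)
    (hcd : ∀ z₁ z₂ : F, z₁ ^ 2 + c * z₁ * z₂ + d * z₂ ^ 2 = 0 → z₁ = 0 ∧ z₂ = 0) :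
    Nat.card {v : (Fin k ⊕ Fin k) ⊕ Fin 2 → F // Cfsg.quadFormMinus k F c d v = 0} * Nat.card F ≠
      Nat.card ((Fin k ⊕ Fin k) ⊕ Fin 2 → F) := by
  rcases Nat.eq_zero_or_pos k with h0 | hpos
  · subst h0
    have hz : ∀ v : (Fin 0 ⊕ Fin 0) ⊕ Fin 2 → F, Cfsg.quadFormMinus 0 F c d v = 0 → v = 0 := by
      intro v hv
      rw [minus_eq] at hv
      have h1 : Cfsg.quadFormPlus 0 F (v ∘ Sum.inl) = 0 := by
        unfold Cfsg.quadFormPlus
        simp
      rw [h1, zero_add] at hv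
      have h2 := hcd (v (Sum.inr 0)) (v (Sum.inr 1)) hv
      funext x
      rcases x with x | x
      · rcases x with x | x <;> exact Fin.elim0 x
      · fin_cases x
        · exact h2.1
        · exact h2.2
    have h1 : Nat.card {v : (Fin 0 ⊕ Fin 0) ⊕ Fin 2 → F //
        Cfsg.quadFormMinus 0 F c d v = 0} = 1 := by
      rw [Nat.card_eq_one_iff_unique]
      refine ⟨⟨?_⟩, ⟨⟨0, ?_⟩⟩⟩
      · rintro ⟨v, hv⟩ ⟨w, hw⟩
        apply Subtype.ext
        show v = w
        rw [hz v hv, hz w hw]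
      · rw [minus_eq]
        unfold Cfsg.quadFormPlus Rb
        simp
    rw [h1, one_mul, Nat.card_fun]
    have h2 : Nat.card ((Fin 0 ⊕ Fin 0) ⊕ Fin 2) = 2 := by
      rw [Nat.card_eq_fintype_card]
      simp
    rw [h2]
    have hq : 2 ≤ Nat.card F := by
      rw [Nat.card_eq_fintype_card]
      exact Fintype.one_lt_card
    intro h
    nlinarith [h]
  · exact count_ne_minus hpos c d hcd

theorem exists_rep (c d : F)
    (hcd : ∀ z₁ z₂ : F, z₁ ^ 2 + c * z₁ * z₂ + d * z₂ ^ 2 = 0 → z₁ = 0 ∧ z₂ = 0) (hc : c ≠ 0)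
    (g : OG F (Cfsg.quadFormMinus k F c d)) (hg : orderOf g = 2) :
    ∃ x : Fin (k + 1) ⊕ Fin (k / 2), IsConj (rep c d x) g := by
  have hQ := isQuad_minus (F := F) (k := k) c d
  have hnd := Bm_nondeg (F := F) (k := k) c hc
  have hcount := count_ne_minus' (F := F) (k := k) c d hcd
  have hno := Cfsg.Agent.S2171.noTS (F := F) (k := k) c d hcd hc
  have hcard : Fintype.card ((Fin k ⊕ Fin k) ⊕ Fin 2) = 2 * k + 2 := by
    simp only [Fintype.card_sum, Fintype.card_fin]
    omega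
  have hgg : g * g = 1 := by
    have h := pow_orderOf_eq_one g
    rw [hg, pow_two] at h
    exact h
  have hle := rank_le_half g hgg
  rw [hcard] at hle
  have hpos : 1 ≤ ((g.1 : Matrix ((Fin k ⊕ Fin k) ⊕ Fin 2) ((Fin k ⊕ Fin k) ⊕ Fin 2) F) - 1).rank := by
    by_contra hcon
    have h0 : ((g.1 : Matrix ((Fin k ⊕ Fin k) ⊕ Fin 2) ((Fin k ⊕ Fin k) ⊕ Fin 2) F) - 1).rank = 0 := by
      omega
    have h2 := eq_one_of_rank_zero g h0
    rw [h2, orderOf_one] at hg
    omega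
  have key : ∀ x : Fin (k + 1) ⊕ Fin (k / 2),
      rk x = ((g.1 : Matrix ((Fin k ⊕ Fin k) ⊕ Fin 2) ((Fin k ⊕ Fin k) ⊕ Fin 2) F) - 1).rank →
      ((∃ j, x = Sum.inr j) ↔
        (∀ v, Bm k F c v (actHom (Cfsg.quadFormMinus k F c d) g v) = 0)) →
      IsConj (rep c d x) g := by
    intro x hx1 hx2
    exact conj_of_invariants hQ hnd hcount (Ee k c hc) (Ee_form c hc) (rep c d x) g
      (rep_sq c d hc x) hgg (by rw [rank_rep c d hc, hx1]) ((type_rep c d hc x).trans hx2)
  by_cases halt : ∀ v, Bm k F c v (actHom (Cfsg.quadFormMinus k F c d) g v) = 0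
  · obtain ⟨j, hj⟩ := even_rank_of_alt hQ (Ee k c hc) (Ee_form c hc) g hgg halt
    have hts := hno _ (range_singular hQ g halt)
    rw [← rank_eq g, hcard] at hts
    have hj1 : 1 ≤ j := by omega
    refine ⟨Sum.inr ⟨j - 1, by omega⟩, key _ ?_ ?_⟩
    · show 2 * (j - 1 + 1) = _
      omega
    · exact ⟨fun _ => halt, fun _ => ⟨_, rfl⟩⟩
  · refine ⟨Sum.inl ⟨((g.1 : Matrix ((Fin k ⊕ Fin k) ⊕ Fin 2) ((Fin k ⊕ Fin k) ⊕ Fin 2) F) -
        1).rank - 1, by omega⟩, key _ ?_ ?_⟩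
    · show ((g.1 : Matrix ((Fin k ⊕ Fin k) ⊕ Fin 2) ((Fin k ⊕ Fin k) ⊕ Fin 2) F) - 1).rank -
        1 + 1 = _
      omega
    · constructor
      · rintro ⟨j, hj⟩
        exact absurd hj (by simp)
      · intro h
        exact absurd h halt

omit [Fintype F] in
theorem rep_injective (c d : F) (hc : c ≠ 0) (x y : Fin (k + 1) ⊕ Fin (k / 2))
    (h : IsConj (rep (F := F) c d x) (rep c d y)) : x = y := by
  obtain ⟨h1, h2⟩ := invariants_of_conj (isQuad_minus c d) _ _ h
  rw [rank_rep c d hc, rank_rep c d hc] at h1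
  rw [type_rep c d hc, type_rep c d hc] at h2
  rcases x with i | j <;> rcases y with i' | j'
  · simp only [rk] at h1
    congr 1
    exact Fin.ext (by omega)
  · exfalso
    have := h2.mpr ⟨j', rfl⟩
    obtain ⟨j, hj⟩ := this
    exact absurd hj (by simp)
  · exfalso
    have := h2.mp ⟨j, rfl⟩
    obtain ⟨j', hj'⟩ := this
    exact absurd hj' (by simp)
  · simp only [rk] at h1
    congr 1
    exact Fin.ext (by omega)

theorem main (c d : F)
    (hcd : ∀ z₁ z₂ : F, z₁ ^ 2 + c * z₁ * z₂ + d * z₂ ^ 2 = 0 → z₁ = 0 ∧ z₂ = 0) :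
    Nat.card {C : ConjClasses (OG F (Cfsg.quadFormMinus k F c d)) //
      ∃ g : OG F (Cfsg.quadFormMinus k F c d), ConjClasses.mk g = C ∧ orderOf g = 2} =
      k + 1 + k / 2 := by
  have hc0 : c ≠ 0 := by
    intro hc0
    obtain ⟨y, hy⟩ := exists_sqrt_char_two d
    have := hcd y 1 (by
      rw [hc0, ← hy]
      have h2 := char_two_add_self (y * y)
      linear_combination h2)
    exact one_ne_zero this.2
  let Φ : Fin (k + 1) ⊕ Fin (k / 2) → {C : ConjClasses (OG F (Cfsg.quadFormMinus k F c d)) //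
      ∃ g : OG F (Cfsg.quadFormMinus k F c d), ConjClasses.mk g = C ∧ orderOf g = 2} :=
    fun x => ⟨ConjClasses.mk (rep c d x), rep c d x, rfl, rep_order c d hc0 x⟩
  have hbij : Function.Bijective Φ := by
    constructor
    · intro x y hxy
      have h1 : ConjClasses.mk (rep (F := F) c d x) = ConjClasses.mk (rep c d y) :=
        congrArg Subtype.val hxy
      exact rep_injective c d hc0 x y (ConjClasses.mk_eq_mk_iff_isConj.mp h1)
    · rintro ⟨C, g, rfl, hg⟩
      obtain ⟨x, hx⟩ := exists_rep c d hcd hc0 g hg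
      refine ⟨x, ?_⟩
      apply Subtype.ext
      exact ConjClasses.mk_eq_mk_iff_isConj.mpr hx
  rw [← Nat.card_congr (Equiv.ofBijective Φ hbij), Nat.card_eq_fintype_card, Fintype.card_sum,
    Fintype.card_fin, Fintype.card_fin]

/-- Number of conjugacy classes of involutions in the full orthogonal group O⁻_2m(F) of an elliptic quadratic form (Σ_(i<m−1) x_i y_i plus an anisotropic binary form) over a finite field of characteristic two (m ≥ 1): one class for each odd s ≤ m, two for each even s with 2 ≤ s < m and one for s = m when m is even, where s = rank(t − 1); in all m + ⌊(m − 1)/2⌋. -/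
theorem result {F : Type*} [Field F] [Fintype F] [CharP F 2] {m : ℕ} (hm : 1 ≤ m) (a b : F) (hab : ∀ z₁ z₂ : F, z₁ ^ 2 + a * z₁ * z₂ + b * z₂ ^ 2 = 0 → z₁ = 0 ∧ z₂ = 0) : Nat.card {C : ConjClasses ↥(Cfsg.isometryGroup F (Cfsg.quadFormMinus (m - 1) F a b)) // ∃ g : ↥(Cfsg.isometryGroup F (Cfsg.quadFormMinus (m - 1) F a b)), ConjClasses.mk g = C ∧ orderOf g = 2} = m + (m - 1) / 2 := by
  have h := main (F := F) (k := m - 1) a b hab
  rw [h]
  omega

end Cfsg.Agent.S2596
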