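import Cfsg.Statements.S2173
import Mathlib
import Cfsg.Agent.S2596
import Cfsg.Agent.Lib.Helper36.OmegaChar2

set_option autoImplicit false
open Cfsg

namespace Cfsg.Agent.S2173

open Matrix Module Cfsg.Agent.Helper36 Cfsg.Agent.Helper36.QuadInv Cfsg.Agent.S2170
  Cfsg.Agent.Helper36.OmegaChar2

universe u

/-- the generic no-splitting statement: if every involution fixes a non-singular vector, then
`O`-conjugate involutions are `Ω`-conjugate -/
theorem no_split {F : Type u} [Field F] [Fintype F] [CharP F 2] {ι : Type} [Fintype ι]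
    [DecidableEq ι] {Q : (ι → F) → F} {B : (ι → F) →ₗ[F] (ι → F) →ₗ[F] F}
    (hQ : IsQuad Q B) (hnd : ∀ u, (∀ v, B u v = 0) → u = 0)
    (hcount : Nat.card {v : ι → F // Q v = 0} * Nat.card F ≠ Nat.card (ι → F))
    (hexc : Fintype.card F ≠ 2 ∨ Fintype.card ι ≠ 4)
    (t s : OG F Q) (a : ι → F) (ha : Q a ≠ 0) (hta : actHom Q t a = a)
    (hconj : IsConj t s) : ∃ g ∈ Cfsg.Omega F Q, g * t * g⁻¹ = s := by
  obtain ⟨g, hg⟩ := isConj_iff.mp hconj
  rcases mem_or_mul_refl_mem hQ hnd hcount hexc a ha g with h | h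
  · exact ⟨g, h, hg⟩
  · refine ⟨g * refl hQ a ha, h, ?_⟩
    have hcomm := refl_comm hQ t a ha hta
    have hrr := refl_mul_self hQ a ha
    have hinv : (refl hQ a ha)⁻¹ = refl hQ a ha := inv_eq_of_mul_eq_one_right hrr
    rw [_root_.mul_inv_rev, hinv, ← hg]
    calc g * refl hQ a ha * t * (refl hQ a ha * g⁻¹)
        = g * (refl hQ a ha * t) * refl hQ a ha * g⁻¹ := by group
      _ = g * (t * refl hQ a ha) * refl hQ a ha * g⁻¹ := by rw [hcomm]
      _ = g * t * (refl hQ a ha * refl hQ a ha) * g⁻¹ := by group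
      _ = g * t * g⁻¹ := by rw [hrr, mul_one]

/-- For the quadratic form Σ x_i y_i + (z₁² + c z₁ z₂ + d z₂²) in dimension 2m with anisotropic binary part over a finite field F of characteristic two, m ≥ 4 (minus type): two involutions of the commutator subgroup Ω that are conjugate in the full isometry group O are conjugate by an element of Ω (no class of involutions of O inside Ω splits). -/
theorem result {F : Type*} [Field F] [Fintype F] [CharP F 2] {m : ℕ} (hm : 4 ≤ m) (c d : F) (hcd : ∀ z₁ z₂ : F, z₁ ^ 2 + c * z₁ * z₂ + d * z₂ ^ 2 = 0 → z₁ = 0 ∧ z₂ = 0) (t s : ↥(Cfsg.isometryGroup F (Cfsg.quadFormMinus (m - 1) F c d))) (ht : orderOf t = 2) (hs : orderOf s = 2) (htO : t ∈ Cfsg.Omega F (Cfsg.quadFormMinus (m - 1) F c d)) (hsO : s ∈ Cfsg.Omega F (Cfsg.quadFormMinus (m - 1) F c d)) (hconj : IsConj t s) :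
    ∃ g ∈ Cfsg.Omega F (Cfsg.quadFormMinus (m - 1) F c d), g * t * g⁻¹ = s := by
  have hc0 : c ≠ 0 := by
    intro hc0
    obtain ⟨y, hy⟩ := exists_sqrt_char_two d
    have := hcd y 1 (by
      rw [hc0, ← hy]
      have h2 := char_two_add_self (y * y)
      linear_combination h2)
    exact one_ne_zero this.2
  have htt : t * t = 1 := by
    have := pow_orderOf_eq_one t
    rw [ht, pow_two] at this
    exact this
  have hQ := isQuad_minus (F := F) (k := m - 1) c d
  have hnd := Bm_nondeg (F := F) (k := m - 1) c hc0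
  have hcount := count_ne_minus (F := F) (k := m - 1) (by omega) c d hcd
  have hno := Cfsg.Agent.S2171.noTS (F := F) (k := m - 1) c d hcd hc0
  obtain ⟨a, hta, ha⟩ := exists_fixed_nonsingular hno t htt
  have hexc : Fintype.card F ≠ 2 ∨ Fintype.card ((Fin (m - 1) ⊕ Fin (m - 1)) ⊕ Fin 2) ≠ 4 := by
    right
    simp only [Fintype.card_sum, Fintype.card_fin]
    omega
  exact no_split hQ hnd hcount hexc t s a ha hta hconj

end Cfsg.Agent.S2173
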