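import Cfsg.Statements.S2172
import Mathlib
import Cfsg.Agent.S2173
import Cfsg.Agent.S2630

set_option autoImplicit false
open Cfsg

namespace Cfsg.Agent.S2172

open Matrix Module Cfsg.Agent.Helper36 Cfsg.Agent.Helper36.TotSing Cfsg.Agent.S2168
  Cfsg.Agent.S0831

universe u

section generic

open Cfsg.Agent.Helper36.QuadInv

variable {F : Type u} [Field F] [Fintype F] [CharP F 2] {ι : Type} [Fintype ι] [DecidableEq ι]
variable {Q : (ι → F) → F} {B : (ι → F) →ₗ[F] (ι → F) →ₗ[F] F}

omit [Fintype F] in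
/-- an involution fixes a non-singular vector, unless it has maximal rank and the image of
`t - 1` is totally singular -/
theorem fixed_nonsingular_or (hQ : IsQuad Q B) (hnd : ∀ u, (∀ v, B u v = 0) → u = 0) {n : ℕ}
    (hcard : Fintype.card ι = 2 * n) (t : OG F Q) (ht : t * t = 1) :
    (∃ a, actHom Q t a = a ∧ Q a ≠ 0) ∨
      (((t.1 : Matrix ι ι F) - 1).rank = n ∧ ∀ v, Q (actHom Q t v - v) = 0) := by
  by_cases hex : ∃ a, actHom Q t a = a ∧ Q a ≠ 0
  · left; exact hex
  · right
    push Not at hex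
    obtain ⟨N, hN⟩ : ∃ N : (ι → F) →ₗ[F] (ι → F),
        N = (actHom Q t).toLinearMap - LinearMap.id := ⟨_, rfl⟩
    have hK : ∀ u ∈ LinearMap.ker N, Q u = 0 := by
      intro u hu
      rw [LinearMap.mem_ker, hN] at hu
      exact hex u (sub_eq_zero.mp hu)
    have hQF : IsQF Q B := ⟨hQ.add, hQ.smul⟩
    have hndB := nondegenerate_of hQ hnd
    have hle := hQF.le_orthogonal hK
    have hfr := LinearMap.BilinForm.finrank_orthogonal hndB (LinearMap.ker N)
    rw [Module.finrank_fintype_fun_eq_card, hcard] at hfr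
    have h1 := Submodule.finrank_mono hle
    have hle2 : LinearMap.range N ≤ LinearMap.ker N := by
      rintro w ⟨y, rfl⟩
      rw [LinearMap.mem_ker, hN]
      show actHom Q t (actHom Q t y - y) - (actHom Q t y - y) = 0
      rw [map_sub, act_act_of_sq t ht, vsub_eq_add, vsub_eq_add, vsub_eq_add, add_comm y]
      exact vec_add_self F _
    have h2 := Submodule.finrank_mono hle2
    have h3 := LinearMap.finrank_range_add_finrank_ker N
    rw [Module.finrank_fintype_fun_eq_card, hcard] at h3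
    constructor
    · rw [rank_eq t, ← hN]
      omega
    · intro v
      apply hK
      apply hle2
      exact ⟨v, by rw [hN]; rfl⟩

end generic

section plus

variable {F : Type u} [Field F] [Fintype F] [CharP F 2] {m : ℕ}

/-- the image of `t - 1` -/
noncomputable def Lt (t : PlusOrth.OPlus m F) : Submodule F (Fin m ⊕ Fin m → F) :=
  LinearMap.range ((PlusOrth.actHom m F t).toLinearMap - LinearMap.id)

omit [Fintype F] [CharP F 2] in
theorem Lt_eq (t : PlusOrth.OPlus m F) :
    LinearMap.range (Matrix.toLin' ((t.1 : Matrix (Fin m ⊕ Fin m) (Fin m ⊕ Fin m) F) - 1)) =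
      Lt t := by
  unfold Lt
  congr 1
  apply LinearMap.ext
  intro v
  simp [PlusOrth.actHom_apply]

omit [Fintype F] in
theorem Lt_mts (t : PlusOrth.OPlus m F)
    (hrank : ((t.1 : Matrix (Fin m ⊕ Fin m) (Fin m ⊕ Fin m) F) - 1).rank = m)
    (hP : ∀ v : Fin m ⊕ Fin m → F, Cfsg.quadFormPlus m F
      (v + (t.1 : Matrix (Fin m ⊕ Fin m) (Fin m ⊕ Fin m) F) *ᵥ v) = 0) :
    IsMTS (Cfsg.quadFormPlus m F) m (Lt t) := by
  constructor
  · unfold Lt
    rw [← PlusOrth.rank_eq t, hrank]
  · rintro w ⟨y, rfl⟩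
    show Cfsg.quadFormPlus m F (PlusOrth.actHom m F t y - y) = 0
    rw [PlusOrth.vsub_eq_add, add_comm, PlusOrth.actHom_apply]
    exact hP y

omit [Fintype F] [CharP F 2] in
theorem act_inv_act (g : PlusOrth.OPlus m F) (v : Fin m ⊕ Fin m → F) :
    PlusOrth.actHom m F g⁻¹ (PlusOrth.actHom m F g v) = v := by
  rw [← PlusOrth.act_mul, inv_mul_cancel, PlusOrth.act_one]

omit [Fintype F] [CharP F 2] in
theorem act_act_inv (g : PlusOrth.OPlus m F) (v : Fin m ⊕ Fin m → F) :
    PlusOrth.actHom m F g (PlusOrth.actHom m F g⁻¹ v) = v := by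
  rw [← PlusOrth.act_mul, mul_inv_cancel, PlusOrth.act_one]

omit [Fintype F] [CharP F 2] in
theorem Lt_conj (g t : PlusOrth.OPlus m F) :
    Lt (g * t * g⁻¹) = (Lt t).map (PlusOrth.actHom m F g).toLinearMap := by
  ext w
  constructor
  · rintro ⟨y, rfl⟩
    refine ⟨PlusOrth.actHom m F t (PlusOrth.actHom m F g⁻¹ y) - PlusOrth.actHom m F g⁻¹ y,
      ⟨PlusOrth.actHom m F g⁻¹ y, rfl⟩, ?_⟩
    show PlusOrth.actHom m F g (PlusOrth.actHom m F t (PlusOrth.actHom m F g⁻¹ y) -
      PlusOrth.actHom m F g⁻¹ y) = PlusOrth.actHom m F (g * t * g⁻¹) y - y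
    rw [map_sub, act_act_inv, PlusOrth.act_mul, PlusOrth.act_mul]
  · rintro ⟨z, ⟨x, rfl⟩, rfl⟩
    refine ⟨PlusOrth.actHom m F g x, ?_⟩
    show PlusOrth.actHom m F (g * t * g⁻¹) (PlusOrth.actHom m F g x) - PlusOrth.actHom m F g x =
      PlusOrth.actHom m F g (PlusOrth.actHom m F t x - x)
    rw [map_sub, PlusOrth.act_mul, PlusOrth.act_mul, act_inv_act]

omit [Fintype F] [CharP F 2] in
theorem map_mts (g : PlusOrth.OPlus m F) (M : Submodule F (Fin m ⊕ Fin m → F))
    (hM : IsMTS (Cfsg.quadFormPlus m F) m M) :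
    IsMTS (Cfsg.quadFormPlus m F) m (M.map (PlusOrth.actHom m F g).toLinearMap) := by
  constructor
  · rw [LinearEquiv.finrank_map_eq]
    exact hM.1
  · rintro w ⟨v, hv, rfl⟩
    rw [LinearEquiv.coe_coe, PlusOrth.Q_act]
    exact hM.2 v hv

omit [Fintype F] [CharP F 2] in
/-- the Dickson-type invariant can be computed on any maximal totally singular subspace -/
theorem parity_conj (g : PlusOrth.OPlus m F) (M : Submodule F (Fin m ⊕ Fin m → F))
    (hM : IsMTS (Cfsg.quadFormPlus m F) m M) :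
    Even ((m - finrank F ↥(M ⊓ M.map (PlusOrth.actHom m F g).toLinearMap)) +
      PlusOrth.dnat g) := by
  have hgM := map_mts g M hM
  have hL := stdL_mts (F := F) (m := m)
  have hgL := PlusOrth.imgL_mts g
  have h1 := isQF_plus.parity' Bp_nondegenerate finrank_V hM hL hgM
  have h2 := isQF_plus.parity' Bp_nondegenerate finrank_V hL hgL hgM
  have h3 : finrank F ↥(PlusOrth.imgL g ⊓ M.map (PlusOrth.actHom m F g).toLinearMap) =
      finrank F ↥(M ⊓ stdL m F) := by
    have : PlusOrth.imgL g ⊓ M.map (PlusOrth.actHom m F g).toLinearMap =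
        (stdL m F ⊓ M).map (PlusOrth.actHom m F g).toLinearMap := by
      rw [Submodule.map_inf _ (PlusOrth.actHom m F g).injective]
      rfl
    rw [this, LinearEquiv.finrank_map_eq, inf_comm]
  rw [h3] at h2
  unfold PlusOrth.dnat
  obtain ⟨a, ha⟩ := h1
  obtain ⟨b, hb⟩ := h2
  refine ⟨a + b - (m - finrank F ↥(M ⊓ stdL m F)) -
    (m - finrank F ↥(stdL m F ⊓ M.map (PlusOrth.actHom m F g).toLinearMap)), ?_⟩
  omega

end plus

/-- Splitting of involution classes from O to Ω for the hyperbolic quadratic form Q = Σ x_i y_i in dimension 2m over a finite field F of characteristic two, m ≥ 4. Let t, s be involutions of the commutator subgroup Ω that are conjugate in the full isometry group O. If it is not the case that t − 1 has rank m and Q(v + t v) = 0 for every vector v, then t and s are conjugate by an element of Ω. If t − 1 has rank m and Q(v + t v) = 0 for all v, then t and s are conjugate by an element of Ω exactly when the intersection of the images of t − 1 and s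 − 1 has even dimension (so the class of t in O meets at most two classes of Ω). -/
theorem result {F : Type*} [Field F] [Fintype F] [CharP F 2] {m : ℕ} (hm : 4 ≤ m) (t s : ↥(Cfsg.isometryGroup F (Cfsg.quadFormPlus m F))) (ht : orderOf t = 2) (hs : orderOf s = 2) (htO : t ∈ Cfsg.Omega F (Cfsg.quadFormPlus m F)) (hsO : s ∈ Cfsg.Omega F (Cfsg.quadFormPlus m F)) (hconj : IsConj t s) :
    (¬ (((((t : ↥(Cfsg.isometryGroup F (Cfsg.quadFormPlus m F))) : GL (Fin m ⊕ Fin m) F) : Matrix (Fin m ⊕ Fin m) (Fin m ⊕ Fin m) F) - 1).rank = m ∧ ∀ v : Fin m ⊕ Fin m → F, Cfsg.quadFormPlus m F (v + Matrix.mulVec (((t : ↥(Cfsg.isometryGroup F (Cfsg.quadFormPlus m F))) : GL (Fin m ⊕ Fin m) F) : Matrix (Fin m ⊕ Fin m) (Fin m ⊕ Fin m) F) v) = 0) →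
      ∃ g ∈ Cfsg.Omega F (Cfsg.quadFormPlus m F), g * t * g⁻¹ = s) ∧
    ((((((t : ↥(Cfsg.isometryGroup F (Cfsg.quadFormPlus m F))) : GL (Fin m ⊕ Fin m) F) : Matrix (Fin m ⊕ Fin m) (Fin m ⊕ Fin m) F) - 1).rank = m ∧ ∀ v : Fin m ⊕ Fin m → F, Cfsg.quadFormPlus m F (v + Matrix.mulVec (((t : ↥(Cfsg.isometryGroup F (Cfsg.quadFormPlus m F))) : GL (Fin m ⊕ Fin m) F) : Matrix (Fin m ⊕ Fin m) (Fin m ⊕ Fin m) F) v) = 0) →
      ((∃ g ∈ Cfsg.Omega F (Cfsg.quadFormPlus m F), g * t * g⁻¹ = s) ↔
        Even (Module.finrank F ↥(LinearMap.range (Matrix.toLin' ((((t : ↥(Cfsg.isometryGroup F (Cfsg.quadFormPlus m F))) : GL (Fin m ⊕ Fin m) F) : Matrix (Fin m ⊕ Fin m) (Fin m ⊕ Fin m) F) - 1)) ⊓ LinearMap.range (Matrix.toLin' ((((s : ↥(Cfsg.isometryGroup F (Cfsg.quadFormPlus m F))) : GL (Fin m ⊕ Fin m) F) : Matrix (Fin m ⊕ Fin m) (Fin m ⊕ Fin m) F) - 1)))))) := by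
  have htt : t * t = 1 := by
    have := pow_orderOf_eq_one t
    rw [ht, pow_two] at this
    exact this
  have hQ := isQuad_plus (F := F) (m := m)
  have hnd := Bp_nondeg (F := F) (m := m)
  have hcount := count_ne_plus (F := F) (m := m) (by omega)
  have hcard : Fintype.card (Fin m ⊕ Fin m) = 2 * m := by
    simp only [Fintype.card_sum, Fintype.card_fin]
    omega
  have hexc : Fintype.card F ≠ 2 ∨ Fintype.card (Fin m ⊕ Fin m) ≠ 4 := by
    right
    rw [hcard]
    omega
  constructor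
  · intro hnP
    rcases fixed_nonsingular_or hQ hnd hcard t htt with ⟨a, hta, ha⟩ | ⟨hr, hs0⟩
    · exact Cfsg.Agent.S2173.no_split hQ hnd hcount hexc t s a ha hta hconj
    · exfalso
      apply hnP
      refine ⟨hr, ?_⟩
      intro v
      have := hs0 v
      rw [QuadInv.vsub_eq_add, add_comm, QuadInv.actHom_apply] at this
      exact this
  · rintro ⟨hr, hP⟩
    rw [Lt_eq, Lt_eq]
    have hM := Lt_mts t hr hP
    -- `m` is even
    have halt : ∀ v, Bp m F v (PlusOrth.actHom m F t v) = 0 := by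
      intro v
      have h1 := hP v
      rw [← PlusOrth.actHom_apply, hQ.add, PlusOrth.Q_act] at h1
      have h2 := char_two_add_self (Cfsg.quadFormPlus m F v)
      linear_combination h1 - h2
    have hmeven : Even m := by
      have := PlusOrth.even_rank_of_alt' t htt halt
      rw [hr] at this
      exact this
    -- every conjugating element has the same parity
    have key : ∀ g : PlusOrth.OPlus m F, g * t * g⁻¹ = s →
        (g ∈ Cfsg.Omega F (Cfsg.quadFormPlus m F) ↔ Even (finrank F ↥(Lt t ⊓ Lt s))) := by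
      intro g hg
      rw [Cfsg.Agent.S2630.mem_Omega_iff_dnat (by omega) (Or.inr (by omega)) g, ← hg, Lt_conj]
      have hpar := parity_conj g (Lt t) hM
      have hle : finrank F ↥(Lt t ⊓ (Lt t).map (PlusOrth.actHom m F g).toLinearMap) ≤ m := by
        have := Submodule.finrank_mono (inf_le_left :
          Lt t ⊓ (Lt t).map (PlusOrth.actHom m F g).toLinearMap ≤ Lt t)
        rw [hM.1] at this
        exact this
      obtain ⟨a, ha⟩ := hmeven
      obtain ⟨b, hb⟩ := hpar
      constructor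
      · rintro ⟨c, hc⟩
        refine ⟨a + c - b, ?_⟩
        omega
      · rintro ⟨c, hc⟩
        refine ⟨b + c - a, ?_⟩
        omega
    constructor
    · rintro ⟨g, hgO, hg⟩
      exact (key g hg).mp hgO
    · intro he
      obtain ⟨g, hg⟩ := isConj_iff.mp hconj
      exact ⟨g, (key g hg).mpr he, hg⟩

end Cfsg.Agent.S2172
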