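import Cfsg.Statements.S2177
import Cfsg.Agent.Lib.Helper36.G2Classes

set_option autoImplicit false
open Cfsg

namespace Cfsg.Agent.S2177

/-- Conjugacy classes of involutions in the Chevalley group of type G₂ over a finite field F of characteristic two with at least four elements (the matrix group generated by the root elements x_r(t)). In this problem's root numbering for type G₂ (the Chevalley data module; p₁ = a short, p₂ = b long; roots indexed by coefficient vectors in increasing order) let 11 be the highest root 3a + 2b (long) and 9 the short root 2a + b; consider x_{3a+2b}(1) and x_{2a+b}(1). Then: each invertible matrix equal to one of these two products lies in the group and has order 2; every element of order 2 of the group is conjugate in the group to one of them; and no two of them are conjugate in the group (so, the two matrices being distinct, the group has exactly two conjugacy classes of involutions). -/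
theorem result {F : Type*} [Field F] [Fintype F] [CharP F 2] (hF : 4 ≤ Fintype.card F) :
    (∀ y : GL Cfsg.Lie.chevG2.Idx F, ((y : GL Cfsg.Lie.chevG2.Idx F) : Matrix Cfsg.Lie.chevG2.Idx Cfsg.Lie.chevG2.Idx F) ∈ [Cfsg.Lie.chevG2.x F 11 1, Cfsg.Lie.chevG2.x F 9 1] → y ∈ Cfsg.Lie.chevG2.group F ∧ orderOf y = 2) ∧
    (∀ g ∈ Cfsg.Lie.chevG2.group F, orderOf g = 2 → ∃ y ∈ Cfsg.Lie.chevG2.group F, ((y : GL Cfsg.Lie.chevG2.Idx F) : Matrix Cfsg.Lie.chevG2.Idx Cfsg.Lie.chevG2.Idx F) ∈ [Cfsg.Lie.chevG2.x F 11 1, Cfsg.Lie.chevG2.x F 9 1] ∧ ∃ h ∈ Cfsg.Lie.chevG2.group F, h * g * h⁻¹ = y) ∧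
    (∀ y₁ ∈ Cfsg.Lie.chevG2.group F, ∀ y₂ ∈ Cfsg.Lie.chevG2.group F, ((y₁ : GL Cfsg.Lie.chevG2.Idx F) : Matrix Cfsg.Lie.chevG2.Idx Cfsg.Lie.chevG2.Idx F) ∈ [Cfsg.Lie.chevG2.x F 11 1, Cfsg.Lie.chevG2.x F 9 1] → ((y₂ : GL Cfsg.Lie.chevG2.Idx F) : Matrix Cfsg.Lie.chevG2.Idx Cfsg.Lie.chevG2.Idx F) ∈ [Cfsg.Lie.chevG2.x F 11 1, Cfsg.Lie.chevG2.x F 9 1] →
      (∃ h ∈ Cfsg.Lie.chevG2.group F, h * y₁ * h⁻¹ = y₂) → ((y₁ : GL Cfsg.Lie.chevG2.Idx F) : Matrix Cfsg.Lie.chevG2.Idx Cfsg.Lie.chevG2.Idx F) = ((y₂ : GL Cfsg.Lie.chevG2.Idx F) : Matrix Cfsg.Lie.chevG2.Idx Cfsg.Lie.chevG2.Idx F)) := by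
  have hD := Cfsg.Agent.Helper36.G2.goodG2
  have hlist : ∀ y : GL Cfsg.Lie.chevG2.Idx F,
      ((y : GL Cfsg.Lie.chevG2.Idx F) : Matrix Cfsg.Lie.chevG2.Idx Cfsg.Lie.chevG2.Idx F) ∈
        [Cfsg.Lie.chevG2.x F 11 1, Cfsg.Lie.chevG2.x F 9 1] →
      y = Cfsg.Agent.S1043.xU Cfsg.Lie.chevG2 hD 11 1 ∨ y = Cfsg.Agent.S1043.xU Cfsg.Lie.chevG2 hD 9 1 := by
    intro y hy
    simp only [List.mem_cons, List.not_mem_nil, or_false] at hy
    rcases hy with h | h
    · exact Or.inl (Units.ext h)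
    · exact Or.inr (Units.ext h)
  have hord : ∀ r, r < 12 → Cfsg.Agent.S1043.xU Cfsg.Lie.chevG2 hD r (1 : F) ∈ Cfsg.Lie.chevG2.group F ∧
      orderOf (Cfsg.Agent.S1043.xU Cfsg.Lie.chevG2 hD r (1 : F)) = 2 := by
    intro r hr
    refine ⟨Cfsg.Agent.S1043.xU_mem_group Cfsg.Lie.chevG2 hD r 1, ?_⟩
    have : Fact (Nat.Prime 2) := ⟨Nat.prime_two⟩
    apply orderOf_eq_prime
    · rw [pow_two]
      exact Cfsg.Agent.Helper36.G2.X_sq r 1
    · exact Cfsg.Agent.Helper36.G2.X_ne_one r hr 1 one_ne_zero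
  refine ⟨?_, ?_, ?_⟩
  · intro y hy
    rcases hlist y hy with rfl | rfl
    · exact hord 11 (by omega)
    · exact hord 9 (by omega)
  · intro g hg ho
    obtain ⟨k, hk, hkU⟩ := Cfsg.Agent.Helper36.G2.exists_conj_mem_U g hg ho
    have hg2 : g * g = 1 := by
      have := pow_orderOf_eq_one g
      rwa [ho, pow_two] at this
    have hg1 : g ≠ 1 := by
      intro h
      rw [h, orderOf_one] at ho
      omega
    have hgood : Cfsg.Agent.Helper36.G2.Good g := by
      apply Cfsg.Agent.Helper36.G2.good_of_conj k hk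
      apply Cfsg.Agent.Helper36.G2.good_U _ hkU
      · calc k * g * k⁻¹ * (k * g * k⁻¹) = k * (g * g) * k⁻¹ := by group
          _ = 1 := by rw [hg2]; group
      · intro h1
        exact hg1 (conj_eq_one_iff.mp h1)
    obtain ⟨h, hh, e | e⟩ := hgood
    · exact ⟨_, (hord 11 (by omega)).1, by simp, h, hh, e⟩
    · exact ⟨_, (hord 9 (by omega)).1, by simp, h, hh, e⟩
  · intro y₁ _ y₂ _ h1 h2 hc
    obtain ⟨h, hh, e⟩ := hc
    rcases hlist y₁ h1 with rfl | rfl <;> rcases hlist y₂ h2 with rfl | rfl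
    · rfl
    · exact (Cfsg.Agent.Helper36.G2.not_conj_11_9 h hh e).elim
    · refine (Cfsg.Agent.Helper36.G2.not_conj_11_9 h⁻¹ (inv_mem hh) ?_).elim
      rw [← e]
      group
    · rfl

end Cfsg.Agent.S2177
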