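import Cfsg.Statements.S2186
import Cfsg.Agent.Lib.Helper18.RootPairData
import Cfsg.Agent.Lib.Helper18.CommGenAll
import Cfsg.Agent.Lib.Helper18.TorusAll
import Cfsg.Agent.Lib.Helper18.ConjAll
import Cfsg.Agent.S1038
import Cfsg.Agent.S1100
import Cfsg.Agent.S1027

set_option autoImplicit false
open Cfsg

namespace Cfsg.Agent.S2186

/-- Let G be the Chevalley group of type G₂ (over a field with at least four elements), D₄, E₆, E₇ or E₈ over a finite field F of characteristic two, and let X be the root subgroup of the highest root (the last root index) — a long root subgroup, of order |F|. For every g in G, the subgroup generated by X and its conjugate g X g⁻¹ is either a 2-group or is conjugate by an element of G to the subgroup generated by X and the root subgroup of the lowest root (index 0, the negative of the highest root), which is a copy of SL₂(F). -/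
theorem result {F : Type*} [Field F] [Fintype F] [CharP F 2] (D : Cfsg.Lie.ChevalleyDatum) (hD : D ∈ [Cfsg.Lie.chevG2, Cfsg.Lie.chevD4, Cfsg.Lie.chevE6, Cfsg.Lie.chevE7, Cfsg.Lie.chevE8]) (hF : D = Cfsg.Lie.chevG2 → 4 ≤ Fintype.card F) (g : GL D.Idx F) (hg : g ∈ D.group F) :
    IsPGroup 2 ↥(D.rootSubgroup F (D.nroots - 1) ⊔ (D.rootSubgroup F (D.nroots - 1)).map (MulAut.conj g).toMonoidHom) ∨
    ∃ h ∈ D.group F, (D.rootSubgroup F (D.nroots - 1) ⊔ (D.rootSubgroup F (D.nroots - 1)).map (MulAut.conj g).toMonoidHom).map (MulAut.conj h).toMonoidHom = D.rootSubgroup F (D.nroots - 1) ⊔ D.rootSubgroup F 0 := by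
  have hD7 : D ∈ [Cfsg.Lie.chevG2, Cfsg.Lie.chevB2, Cfsg.Lie.chevD4, Cfsg.Lie.chevF4, Cfsg.Lie.chevE6,
      Cfsg.Lie.chevE7, Cfsg.Lie.chevE8] := by
    simp only [List.mem_cons, List.not_mem_nil, or_false] at hD ⊢
    tauto
  obtain ⟨tbl, hT⟩ := Cfsg.Agent.Helper18.torusData_all D hD7
  have hHN : D.diagonalSubgroup F ≤ D.monomialSubgroup F := le_sup_left
  have hNH := (Subgroup.normal_subgroupOf_iff_le_normalizer hHN).mp (Cfsg.Agent.S1038.result (F := F) D hD7)
  have hB := Cfsg.Agent.Helper18.bnFacts_all D hD7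
  have hconj : ∀ i < D.rank, ∀ s < D.nroots, Cfsg.Agent.Helper18.ConjGoal' F D i s :=
    fun i hi s hs => Cfsg.Agent.Helper18.conjGoal_all D hD7 i s hi hs
  have hS : ∀ i < D.rank, Cfsg.Agent.Helper18.ConjGoalS' F D i :=
    fun i hi => Cfsg.Agent.Helper18.conjGoalS_all D hD7 i hi
  have hcomm := Cfsg.Agent.Helper18.commOK_all (F := F) D hD7
  -- Bruhat decomposition `g = b n u`
  have hBr : ∀ g ∈ D.group F, ∃ b ∈ D.borelSubgroup F, ∃ n ∈ D.monomialSubgroup F,
      ∃ u ∈ D.posUnipotent F, g = b * n * u := by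
    intro g hg
    obtain ⟨b, hb, n, hn, u, hu, e⟩ := (Cfsg.Agent.S1100.result (F := F) D hD7).1 g hg
    refine ⟨b, hb, n, hn, u, ?_, e⟩
    refine Subgroup.closure_mono ?_ hu
    rintro x ⟨r, t, hr, -, hx⟩
    exact ⟨r, t, hr, hx⟩
  -- `U` is a 2-group
  have hUp : IsPGroup 2 (D.posUnipotent F) := by
    have hcard := Cfsg.Agent.S1027.result (F := F) D hD7
    have : Fact (Nat.Prime 2) := ⟨Nat.prime_two⟩
    obtain ⟨e, he⟩ := FiniteField.card F 2
    rw [IsPGroup.iff_card]
    refine ⟨(e : ℕ) * (D.nroots / 2), ?_⟩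
    rw [hcard, he.2, pow_mul]
  -- the data checks
  have key : ∃ (tbls : List ℕ) (words : List (List ℕ)),
      (∀ i < D.rank, Cfsg.Agent.Helper18.permCheck D i (Cfsg.Agent.Helper18.lget tbls i 0) = true) ∧
      Cfsg.Agent.Helper18.pairPosCheck D tbls words = true ∧
      Cfsg.Agent.Helper18.centCheck D = true ∧ D.neg (D.nroots - 1) = 0 ∧
      (∀ s < D.nroots, D.nroots / 2 ≤ s → D.IsPosRoot s) ∧
      (∀ s, D.IsPosRoot s → D.nroots / 2 ≤ s ∧ s < D.nroots) := by
    simp only [List.mem_cons, List.not_mem_nil, or_false] at hD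
    rcases hD with rfl | rfl | rfl | rfl | rfl
    · exact ⟨_, _, Cfsg.Agent.Helper18.permTblG2_ok, Cfsg.Agent.Helper18.rpPairPosG2,
        Cfsg.Agent.Helper18.rpCentG2, Cfsg.Agent.Helper18.rpNegG2,
        Cfsg.Agent.Helper18.posOfRangeG2, Cfsg.Agent.Helper18.posRangeG2⟩
    · exact ⟨_, _, Cfsg.Agent.Helper18.permTblD4_ok, Cfsg.Agent.Helper18.rpPairPosD4,
        Cfsg.Agent.Helper18.rpCentD4, Cfsg.Agent.Helper18.rpNegD4,
        Cfsg.Agent.Helper18.posOfRangeD4, Cfsg.Agent.Helper18.posRangeD4⟩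
    · exact ⟨_, _, Cfsg.Agent.Helper18.permTblE6_ok, Cfsg.Agent.Helper18.rpPairPosE6,
        Cfsg.Agent.Helper18.rpCentE6, Cfsg.Agent.Helper18.rpNegE6,
        Cfsg.Agent.Helper18.posOfRangeE6, Cfsg.Agent.Helper18.posRangeE6⟩
    · exact ⟨_, _, Cfsg.Agent.Helper18.permTblE7_ok, Cfsg.Agent.Helper18.rpPairPosE7,
        Cfsg.Agent.Helper18.rpCentE7, Cfsg.Agent.Helper18.rpNegE7,
        Cfsg.Agent.Helper18.posOfRangeE7, Cfsg.Agent.Helper18.posRangeE7⟩
    · exact ⟨_, _, Cfsg.Agent.Helper18.permTblE8_ok, Cfsg.Agent.Helper18.rpPairPosE8,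
        Cfsg.Agent.Helper18.rpCentE8, Cfsg.Agent.Helper18.rpNegE8,
        Cfsg.Agent.Helper18.posOfRangeE8, Cfsg.Agent.Helper18.posRangeE8⟩
  obtain ⟨tbls, words, hperm, hpp, hcc, hneg0, hpos, hposR⟩ := key
  have hn : 0 < D.nroots := by
    have h := hcc
    rw [Cfsg.Agent.Helper18.centCheck, Bool.and_eq_true, Bool.and_eq_true, decide_eq_true_eq,
      decide_eq_true_eq] at h
    exact h.1.2
  have hwords := Cfsg.Agent.Helper18.hwords_of_check D hB tbls hperm hpos hn words hpp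
  have hcent := Cfsg.Agent.Helper18.hcent_of_check (F := F) D hD7 hcc hposR hcomm
  have main := Cfsg.Agent.Helper18.rootPair_main (F := F) D hD7 hB hT hconj hS hNH (D.nroots - 1)
    (by omega) hBr hcent hwords 2 hUp g hg
  rw [hneg0] at main
  exact main

end Cfsg.Agent.S2186
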