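import Cfsg.Statements.S2202
import Mathlib
import Cfsg.Agent.Lib.Helper4.AbInv.Defs
import Cfsg.Agent.Lib.Helper4.AbInv.Case2
import Cfsg.Agent.Lib.Helper4.AbInv.Reduction
import Cfsg.Agent.Lib.Helper42.AbInvT1a
import Cfsg.Agent.Lib.Helper42.AbInvT1b
import Cfsg.Agent.Lib.Helper42.AbInvT4
import Cfsg.Agent.Lib.Helper76.AbInvT2b

set_option autoImplicit false
open Cfsg

namespace Cfsg.Agent.S2202

open Cfsg.Agent.Helper4.AbInv Subgroup

universe u

/-- case 2 (TI case): all involution centralizers have exponent two -/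
theorem case2 {G : Type*} [Group G] [Finite G] (hab : AbInvHyp G) (hTI : TIHyp G)
    (P : Sylow 2 G) (hnc : ¬ IsCyclic ↥(P : Subgroup G)) (hnn : ¬ (P : Subgroup G).Normal) :
    ∀ t c : G, orderOf t = 2 → c * t = t * c → c ^ 2 = 1 := by
  obtain ⟨hZ2, hZ3a, hZ3b⟩ := Cfsg.Agent.Helper42.AbInv.case2_structure hab hTI P hnc hnn
  exact case2_of_structure
    { hab := hab
      hnc := hnc
      hnn := hnn
      hinv := fun u hu huN d hd hd' =>
        (Cfsg.Agent.Helper42.AbInv.case2_invert hab hTI P hnc hnn u hu huN d hd hd').1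
      hZ2 := hZ2
      hZ3a := hZ3a
      hZ3b := hZ3b }

/-- main induction -/
theorem main (G : Type u) [Group G] [Finite G] (hev : Even (Nat.card G)) (hab : AbInvHyp G) :
    Concl G := by
  induction' hn : Nat.card G using Nat.strong_induction_on with n ih generalizing G
  subst hn
  have IH : ∀ (H : Type u) [Group H] [Finite H], Nat.card H < Nat.card G → Even (Nat.card H) →
      AbInvHyp H → Concl H := fun H _ _ hlt he ha => ih (Nat.card H) hlt H he ha rfl
  by_cases hcyc : ∀ P : Sylow 2 G, IsCyclic ↥(P : Subgroup G)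
  · exact Or.inl hcyc
  by_cases hnor : ∀ P : Sylow 2 G, (P : Subgroup G).Normal
  · exact Or.inr (Or.inl hnor)
  right; right
  push Not at hcyc hnor
  obtain ⟨P, hnc⟩ := hcyc
  obtain ⟨P', hnn'⟩ := hnor
  have hnn : ¬ (P : Subgroup G).Normal := by
    intro hP
    apply hnn'
    obtain ⟨g, rfl⟩ := MulAction.exists_smul_eq G P P'
    have : (g • P : Sylow 2 G) = P := Sylow.smul_eq_of_normal
    rw [this]; exact hP
  by_cases hO : ∃ K : Subgroup G, K.Normal ∧ Odd (Nat.card K) ∧ K ≠ ⊥
  · exact reduction hab P hnc hnn hO IH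
  · push Not at hO
    have hO' : ∀ K : Subgroup G, K.Normal → Odd (Nat.card K) → K = ⊥ := fun K h1 h2 => by
      by_contra h3; exact h3 (hO K h1 h2)
    by_cases hTI : TIHyp G
    · have h := case2 hab hTI P hnc hnn
      refine ⟨⊤, ⊥, inferInstance, bot_le, by simp, by simp, by simp, ?_⟩
      intro t _ ht c _ hc
      exact h t c ht hc
    · exfalso
      refine Cfsg.Agent.Helper76.AbInv.case1 hab P hnc hnn hO' ?_ hTI
      intro Y hY hYe
      have hlt : Nat.card ↥Y < Nat.card G := by
        have h1 := Subgroup.card_mul_index Y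
        have h2 : Y.index ≠ 1 := fun h => hY (Subgroup.index_eq_one.mp h)
        have h3 : Y.index ≠ 0 := Subgroup.index_ne_zero_of_finite
        have h4 : 0 < Nat.card Y := Nat.card_pos
        nlinarith [Nat.two_le_iff Y.index |>.mpr ⟨h3, h2⟩]
      exact IH ↥Y hlt hYe (hab.subgroup Y)

/-- Finite groups in which the centralizer of every involution is abelian. Let G be a finite group of even order in which the centralizer of every element of order 2 is abelian. Then the Sylow 2-subgroups of G are cyclic, or a Sylow 2-subgroup of G is normal, or G is isomorphic to the direct product of SL₂(F) for a finite field F of characteristic two and an abelian group of odd order. -/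
theorem result {G : Type*} [Group G] [Finite G] (heven : Even (Nat.card G)) (h : ∀ t : G, orderOf t = 2 → IsMulCommutative ↥(Subgroup.centralizer ({t} : Set G))) :
    (∀ P : Sylow 2 G, IsCyclic ↥P) ∨ (∀ P : Sylow 2 G, (P : Subgroup G).Normal) ∨
    (∃ (F : Type) (_ : Field F) (_ : Fintype F) (A : Type) (_ : CommGroup A) (_ : Finite A), CharP F 2 ∧ Odd (Nat.card A) ∧ Nonempty (G ≃* Matrix.SpecialLinearGroup (Fin 2) F × A)) := by
  have hab : AbInvHyp G := by
    intro t ht x y hx hy
    have hxm : x ∈ Subgroup.centralizer ({t} : Set G) := Subgroup.mem_centralizer_singleton_iff.mpr hx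
    have hym : y ∈ Subgroup.centralizer ({t} : Set G) := Subgroup.mem_centralizer_singleton_iff.mpr hy
    have := (h t ht).is_comm.comm ⟨x, hxm⟩ ⟨y, hym⟩
    exact congrArg Subtype.val this
  by_cases hcyc : ∀ P : Sylow 2 G, IsCyclic ↥P
  · exact Or.inl hcyc
  by_cases hnor : ∀ P : Sylow 2 G, (P : Subgroup G).Normal
  · exact Or.inr (Or.inl hnor)
  right; right
  rcases main G heven hab with h1 | h1 | h1
  · exact absurd h1 hcyc
  · exact absurd h1 hnor
  · exact Cfsg.Agent.Helper42.AbInv.good_to_external h1 hcyc hnor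

end Cfsg.Agent.S2202
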