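import Cfsg.Statements.S2221
import Mathlib
import Cfsg.Agent.Lib.Helper95.Pron.AltNorm
import Cfsg.Agent.Lib.Helper95.Dec.Ends
import Cfsg.Agent.Lib.Helper95.Dec.Odd
import Cfsg.Agent.Lib.Helper95.Dec.Small

set_option autoImplicit false
open Cfsg

namespace Cfsg.Agent.S2221

/-- Direct decomposability of the Sylow 2-subgroups of the alternating groups. Let n ≥ 4 and let P be a Sylow 2-subgroup of the alternating group of degree n. Then P is the internal direct product of two nontrivial subgroups if and only if n = 4, n = 5, or n ≡ 2, 3 (mod 4) with 4⌊n/4⌋ not a power of 2. In the remaining cases (n ≡ 0, 1 (mod 4) with n ≥ 8, or n ≡ 2, 3 (mod 4) with 4⌊n/4⌋ a power of 2) P is directly indecomposable. -/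
theorem result (n : ℕ) (hn : 4 ≤ n)
    (P : Sylow 2 (alternatingGroup (Fin n))) :
    (∃ S₁ S₂ : Subgroup (alternatingGroup (Fin n)), S₁ ≠ ⊥ ∧ S₂ ≠ ⊥ ∧
        Cfsg.IsInternalDirectProduct S₁ S₂ (P : Subgroup (alternatingGroup (Fin n)))) ↔
      (n = 4 ∨ n = 5 ∨ ((n % 4 = 2 ∨ n % 4 = 3) ∧ ∀ r : ℕ, 4 * (n / 4) ≠ 2 ^ r)) := by
  haveI : Fact (Nat.Prime 2) := ⟨Nat.prime_two⟩
  by_cases h45 : n = 4 ∨ n = 5
  · constructor
    · intro _
      rcases h45 with h | h
      · exact Or.inl h
      · exact Or.inr (Or.inl h)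
    · intro _
      exact Helper95.Dec.Small.small n h45 P
  · have hn6 : 6 ≤ n := by omega
    have hcard : Fintype.card (Fin n) = n := Fintype.card_fin n
    obtain ⟨P0, hP0⟩ := (Helper95.Pron.AltNorm.isPGroup_img P).exists_le_sylow
    obtain ⟨X, rfl⟩ := Helper95.Dec.Match.exists_setup P0
    have himg : (P : Subgroup (alternatingGroup (Fin n))).map (alternatingGroup (Fin n)).subtype
        = X.Q := by
      apply le_antisymm
      · intro g hg
        exact ⟨hP0 hg, Helper95.Pron.AltNorm.img_le P hg⟩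
      · intro g hg
        exact Helper95.Pron.AltNorm.maxi P X.S X.pS hP0 g hg.1 hg.2
    rw [Helper95.Dec.Basic.transfer (P : Subgroup (alternatingGroup (Fin n))), himg]
    have hn6' : 6 ≤ Fintype.card (Fin n) := by rw [hcard]; exact hn6
    by_cases hm : n % 4 = 2 ∨ n % 4 = 3
    · have hm' : Fintype.card (Fin n) % 4 = 2 ∨ Fintype.card (Fin n) % 4 = 3 := by
        rw [hcard]; exact hm
      by_cases hp : ∀ r : ℕ, 4 * (n / 4) ≠ 2 ^ r
      · constructor
        · intro _
          exact Or.inr (Or.inr ⟨hm, hp⟩)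
        · intro _
          exact Helper95.Dec.Odd.decomposable X hn6' hm' (by rw [hcard]; exact hp)
      · push_neg at hp
        obtain ⟨r, hr⟩ := hp
        constructor
        · rintro ⟨A, B, hA, hB, hD⟩
          exact (Helper95.Dec.Odd.indec23 X hn6' hm' (by rw [hcard]; exact hr) hD hA hB).elim
        · rintro (h | h | ⟨_, h⟩)
          · omega
          · omega
          · exact absurd hr (h r)
    · have hm' : Fintype.card (Fin n) % 4 = 0 ∨ Fintype.card (Fin n) % 4 = 1 := by
        rw [hcard]; omega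
      constructor
      · rintro ⟨A, B, hA, hB, hD⟩
        exact (Helper95.Dec.Ends.indec01 X hn6' hm' hD hA hB).elim
      · rintro (h | h | ⟨h, _⟩)
        · omega
        · omega
        · exact absurd h hm

end Cfsg.Agent.S2221
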