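import Cfsg.Statements.S2231

set_option autoImplicit false
open Cfsg

namespace Cfsg.Agent.S2231

open scoped Matrix

/-- All `p`-subgroups of `G` are commutative (elementwise form). -/
def AbP (p : ℕ) (G : Type*) [Group G] : Prop :=
  ∀ P : Subgroup G, IsPGroup p P → ∀ x ∈ P, ∀ y ∈ P, x * y = y * x

theorem AbP.of_injective {p : ℕ} {A H : Type*} [Group A] [Group H]
    (f : H →* A) (hf : Function.Injective f) (h : AbP p A) : AbP p H := by
  intro Q hQ x hx y hy
  have hQ' : IsPGroup p (Q.map f) := hQ.map f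
  have := h (Q.map f) hQ' (f x) (Subgroup.mem_map_of_mem f hx) (f y) (Subgroup.mem_map_of_mem f hy)
  apply hf
  simpa using this

theorem AbP.of_surjective {p : ℕ} [Fact p.Prime] {A H : Type*} [Group A] [Group H] [Finite A]
    (f : A →* H) (hf : Function.Surjective f) (h : AbP p A) : AbP p H := by
  intro Q hQ x hx y hy
  have hf₁ : Function.Surjective (f.subgroupComap Q) :=
    f.subgroupComap_surjective_of_surjective Q hf
  obtain ⟨P⟩ := (inferInstance : Nonempty (Sylow p (Q.comap f)))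
  have htop : (⊤ : Subgroup Q) = (P.mapSurjective hf₁ : Subgroup Q) :=
    (P.mapSurjective hf₁).is_maximal' (hQ.to_subgroup ⊤) le_top
  rw [Sylow.coe_mapSurjective] at htop
  have hx' : (⟨x, hx⟩ : Q) ∈ (P : Subgroup (Q.comap f)).map (f.subgroupComap Q) := by
    rw [← htop]; trivial
  have hy' : (⟨y, hy⟩ : Q) ∈ (P : Subgroup (Q.comap f)).map (f.subgroupComap Q) := by
    rw [← htop]; trivial
  obtain ⟨a, haP, hax⟩ := hx'
  obtain ⟨b, hbP, hby⟩ := hy'
  have hP' : IsPGroup p ((P : Subgroup (Q.comap f)).map (Q.comap f).subtype) :=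
    P.isPGroup'.map _
  have hab := h _ hP' (a : A) (Subgroup.mem_map_of_mem _ haP) (b : A) (Subgroup.mem_map_of_mem _ hbP)
  have hax' : f (a : A) = x := congrArg Subtype.val hax
  have hby' : f (b : A) = y := congrArg Subtype.val hby
  rw [← hax', ← hby', ← map_mul, ← map_mul, hab]

theorem AbP.of_involves {p : ℕ} [Fact p.Prime] {H G : Type*} [Group H] [Group G] [Finite G]
    (h : AbP p G) (hi : Cfsg.Involves H G) : AbP p H := by
  obtain ⟨K, R, hn, ⟨e⟩⟩ := hi
  have hK : AbP p K := AbP.of_injective K.subtype K.subtype_injective h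
  have hq : AbP p (K ⧸ R.subgroupOf K) :=
    AbP.of_surjective (QuotientGroup.mk' (R.subgroupOf K)) (QuotientGroup.mk'_surjective _) hK
  exact AbP.of_surjective e.toMonoidHom e.surjective hq

theorem mat_comm {K : Type*} [Field K] (g h : Matrix (Fin 2) (Fin 2) K) (v : Fin 2 → K) (hv : v ≠ 0)
    (hg : g *ᵥ v = v) (hh : h *ᵥ v = v) (dg : g.det = 1) (dh : h.det = 1) : g * h = h * g := by
  have e1 := congrFun hg 0
  have e2 := congrFun hg 1
  have f1 := congrFun hh 0
  have f2 := congrFun hh 1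
  simp only [Matrix.mulVec, dotProduct, Fin.sum_univ_two] at e1 e2 f1 f2
  rw [Matrix.det_fin_two] at dg dh
  have hv' : v 0 ≠ 0 ∨ v 1 ≠ 0 := by
    by_contra hcon
    rw [not_or, not_not, not_not] at hcon
    apply hv
    ext i; fin_cases i <;> simp [hcon.1, hcon.2]
  ext i j
  fin_cases i <;> fin_cases j <;> simp only [Matrix.mul_apply, Fin.sum_univ_two, Fin.zero_eta, Fin.mk_one] <;>
  rcases hv' with hx | hy <;> grind

theorem AbP_SL2 {p : ℕ} [Fact p.Prime] {K : Type*} [Field K] [Fintype K] [CharP K p] :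
    AbP p (Matrix.SpecialLinearGroup (Fin 2) K) := by
  intro P hP x hx y hy
  have hcard : p ∣ Nat.card (Fin 2 → K) := by
    obtain ⟨n, hp, hn⟩ := FiniteField.card K p
    rw [Nat.card_eq_fintype_card, Fintype.card_fun, hn, Fintype.card_fin]
    exact dvd_pow (dvd_pow_self p n.ne_zero) two_ne_zero
  have h0 : (0 : Fin 2 → K) ∈ MulAction.fixedPoints P (Fin 2 → K) := by
    intro g
    exact smul_zero g
  obtain ⟨v, hvfix, hv0⟩ := hP.exists_fixed_point_of_prime_dvd_card_of_fixed_point (Fin 2 → K) hcard h0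
  have hxv : (x : Matrix (Fin 2) (Fin 2) K) *ᵥ v = v := hvfix ⟨x, hx⟩
  have hyv : (y : Matrix (Fin 2) (Fin 2) K) *ᵥ v = v := hvfix ⟨y, hy⟩
  apply Subtype.ext
  exact mat_comm _ _ v (Ne.symm hv0) hxv hyv x.2 y.2

/-- Upper unitriangular matrices in `SL₃(ZMod p)`. -/
def UT (p : ℕ) : Subgroup (Matrix.SpecialLinearGroup (Fin 3) (ZMod p)) where
  carrier := {M | M.1 1 0 = 0 ∧ M.1 2 0 = 0 ∧ M.1 2 1 = 0 ∧ M.1 0 0 = 1 ∧ M.1 1 1 = 1 ∧ M.1 2 2 = 1}
  mul_mem' := by
    rintro A B ⟨a1, a2, a3, a4, a5, a6⟩ ⟨b1, b2, b3, b4, b5, b6⟩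
    simp only [Set.mem_ofPred_eq, Matrix.SpecialLinearGroup.coe_mul, Matrix.mul_apply,
      Fin.sum_univ_three]
    simp [a1, a2, a3, a4, a5, a6, b1, b2, b3, b4, b5, b6]
  one_mem' := by
    simp
  inv_mem' := by
    rintro A ⟨a1, a2, a3, a4, a5, a6⟩
    simp only [Set.mem_ofPred_eq, Matrix.SpecialLinearGroup.coe_inv, Matrix.adjugate_fin_three]
    simp [a1, a2, a3, a4, a5, a6]

theorem UT_pow {p : ℕ} [Fact p.Prime] (hp : p ≠ 2) (M : Matrix.SpecialLinearGroup (Fin 3) (ZMod p))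
    (hM : M ∈ UT p) : M ^ p = 1 := by
  obtain ⟨a1, a2, a3, a4, a5, a6⟩ := hM
  apply Subtype.ext
  rw [Matrix.SpecialLinearGroup.coe_pow, Matrix.SpecialLinearGroup.coe_one]
  set N : Matrix (Fin 3) (Fin 3) (ZMod p) := M.1 - 1 with hN
  have hM1 : M.1 = 1 + N := by rw [hN]; abel
  have hN3 : N ^ 3 = 0 := by
    rw [pow_succ, pow_two]
    ext i j
    fin_cases i <;> fin_cases j <;>
      simp [hN, Matrix.mul_apply, Fin.sum_univ_three, a1, a2, a3, a4, a5, a6]
  have hp3 : 3 ≤ p := by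
    have := (Fact.out : p.Prime).two_le
    omega
  have hNp : N ^ p = 0 := by
    have : N ^ p = N ^ 3 * N ^ (p - 3) := by
      rw [← pow_add]; congr 1; omega
    rw [this, hN3, zero_mul]
  rw [hM1, add_pow_char_of_commute p (Commute.one_left N), one_pow, hNp, add_zero]

theorem UT_isPGroup {p : ℕ} [Fact p.Prime] (hp : p ≠ 2) : IsPGroup p (UT p) := by
  intro g
  refine ⟨1, ?_⟩
  apply Subtype.ext
  simpa using UT_pow hp g.1 g.2

theorem not_AbP_qd {p : ℕ} [Fact p.Prime] (hp : p ≠ 2) : ¬ AbP p (Cfsg.qd p) := by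
  intro h
  let a : Matrix.SpecialLinearGroup (Fin 3) (ZMod p) :=
    ⟨!![1, 1, 0; 0, 1, 0; 0, 0, 1], by simp [Matrix.det_fin_three]⟩
  let b : Matrix.SpecialLinearGroup (Fin 3) (ZMod p) :=
    ⟨!![1, 0, 0; 0, 1, 1; 0, 0, 1], by simp [Matrix.det_fin_three]⟩
  have ha : a ∈ Cfsg.qd p := Subgroup.subset_closure ⟨rfl, rfl, rfl⟩
  have hb : b ∈ Cfsg.qd p := Subgroup.subset_closure ⟨rfl, rfl, rfl⟩
  have haU : a ∈ UT p := ⟨rfl, rfl, rfl, rfl, rfl, rfl⟩
  have hbU : b ∈ UT p := ⟨rfl, rfl, rfl, rfl, rfl, rfl⟩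
  have hPG : IsPGroup p ((UT p).subgroupOf (Cfsg.qd p)) :=
    (UT_isPGroup hp).comap_of_injective (Cfsg.qd p).subtype (Cfsg.qd p).subtype_injective
  have hab := h _ hPG ⟨a, ha⟩ (by simpa [Subgroup.mem_subgroupOf] using haU) ⟨b, hb⟩
    (by simpa [Subgroup.mem_subgroupOf] using hbU)
  have hab' : a * b = b * a := congrArg Subtype.val hab
  have h02 := congrFun (congrFun (congrArg Subtype.val hab') 0) 2
  rw [Matrix.SpecialLinearGroup.coe_mul, Matrix.SpecialLinearGroup.coe_mul, Matrix.mul_apply,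
    Matrix.mul_apply, Fin.sum_univ_three, Fin.sum_univ_three] at h02
  simp [a, b] at h02

theorem AbP_PSL2 {p : ℕ} [Fact p.Prime] {K : Type*} [Field K] [Fintype K] [CharP K p] :
    AbP p (Matrix.ProjectiveSpecialLinearGroup (Fin 2) K) :=
  AbP.of_surjective (QuotientGroup.mk' _) (QuotientGroup.mk'_surjective _) AbP_SL2

/-- Let p be an odd prime and K a finite field of characteristic p. Then Qd(p) (the natural semidirect product of an elementary abelian group of order p² by SL₂(p)) is not involved in the projective special linear group PSL₂(K). -/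
theorem result {p : ℕ} [Fact p.Prime] (hp : p ≠ 2) {K : Type*} [Field K] [Fintype K] [CharP K p] : ¬ Cfsg.Involves ↥(Cfsg.qd p) (Matrix.ProjectiveSpecialLinearGroup (Fin 2) K) := by
  intro hinv
  exact not_AbP_qd hp (AbP.of_involves AbP_PSL2 hinv)

end Cfsg.Agent.S2231
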