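import Cfsg.Statements.S2238
import Cfsg.Agent.Lib.Helper37.SzPart2

set_option autoImplicit false
open Cfsg

namespace Cfsg.Agent.S2238

open Cfsg.Agent.Helper37 Cfsg.Agent.Helper6 in
/-- The partition of the Suzuki group: with q = 2^(2m+1), m ≥ 1, r = 2^m and the Suzuki group realised as the stabiliser in SL₄ of the Suzuki–Tits ovoid, every non-identity element lies in exactly one subgroup that is either a Sylow 2-subgroup or a cyclic subgroup of order q − 1, q + 2r + 1 or q − 2r + 1. -/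
theorem result {F : Type*} [Field F] [Fintype F] {m : ℕ} (hm : 1 ≤ m) (hF : Fintype.card F = 2 ^ (2 * m + 1)) (g : ↥(Cfsg.Sz F m)) (hg : g ≠ 1) :
    ∃! U : Subgroup ↥(Cfsg.Sz F m), ((∃ P : Sylow 2 ↥(Cfsg.Sz F m), U = (P : Subgroup ↥(Cfsg.Sz F m))) ∨
      (IsCyclic ↥U ∧ Nat.card ↥U ∈ ({2 ^ (2 * m + 1) - 1, 2 ^ (2 * m + 1) + 2 ^ (m + 1) + 1, 2 ^ (2 * m + 1) - 2 ^ (m + 1) + 1} : Set ℕ))) ∧ g ∈ U := by
  have h := szHyp_of_card (m := m) hF
  rcases classify hm hF h g hg with ⟨x, a, b, hne, hgx⟩ | ⟨x, s, hs, hgx⟩ | hX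
  · refine ⟨(Qsub h).map (MulAut.conj x).toMonoidHom, ⟨Or.inl ⟨x • QSyl hm hF h, ?_⟩, ?_⟩, ?_⟩
    · rw [Sylow.coe_subgroup_smul, QSyl_coe]
      rfl
    · rw [mem_conj_Qsub]
      exact ⟨a, b, by rw [hgx]; group⟩
    · rintro U' ⟨hk, hgU'⟩
      exact eq_of_typeU hm hF h hne hgx U' hk hgU'
  · refine ⟨Tsub h x, ⟨Or.inr ⟨isCyclic_Tsub h x, Or.inl (card_Tsub hF h x)⟩,
      (mem_Tsub h).mpr ⟨s, hgx⟩⟩, ?_⟩
    rintro U' ⟨hk, hgU'⟩
    exact eq_of_typeH hm hF h hs hgx U' hk hgU'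
  · have hX' : IsX g := hX
    refine ⟨Subgroup.centralizer ({g} : Set ↥(Cfsg.Sz F m)),
      ⟨Or.inr ⟨X_centralizer_cyclic hm hF h g hX, ?_⟩, mem_centralizer_singleton.mpr rfl⟩, ?_⟩
    · rcases card_centralizer_X hm hF h hX' with hC | hC
      · exact Or.inr (Or.inl hC)
      · exact Or.inr (Or.inr hC)
    · rintro U' ⟨hk, hgU'⟩
      exact eq_of_typeX hm hF h hX' U' hk hgU'

end Cfsg.Agent.S2238
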