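import Cfsg.Statements.S2240
import Cfsg.Agent.Lib.Helper37.SzCenter

set_option autoImplicit false
open Cfsg

namespace Cfsg.Agent.S2240

open Cfsg.Agent.Helper37 Cfsg.Agent.Helper6
open scoped Pointwise

section

variable {F : Type*} [Field F] [Fintype F] {m : ℕ}

/-- existence direction -/
theorem exists_TI (hm : 1 ≤ m) (hF : Fintype.card F = 2 ^ (2 * m + 1)) (n : ℕ) (hn : 2 ≤ n)
    (hdvd : n ∣ 2 * m + 1) :
    ∃ E : Subgroup ↥(Cfsg.Sz F m), Cfsg.IsElementaryAbelian 2 E ∧ Nat.card ↥E = 2 ^ n ∧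
      ∀ x : ↥(Cfsg.Sz F m), E ⊓ E.map (MulAut.conj x).toMonoidHom ≠ ⊥ →
        x ∈ Subgroup.normalizer (E : Set ↥(Cfsg.Sz F m)) := by
  have h : SzHyp F (2 ^ (m + 1)) := szHyp_of_card hF
  haveI : CharP F 2 := by
    have := h.two
    refine (CharP.charP_iff_prime_eq_zero Nat.prime_two).mpr ?_
    exact_mod_cast this
  letI : Algebra (ZMod 2) F := ZMod.algebra F 2
  have hfr : Module.finrank (ZMod 2) F = 2 * m + 1 := by
    have := FiniteField.pow_finrank_eq_card 2 F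
    rw [hF] at this
    exact Nat.pow_right_injective (le_refl 2) this
  have hn0 : n ≠ 0 := by omega
  obtain ⟨ι⟩ := FiniteField.nonempty_algHom_of_finrank_dvd (F := ZMod 2) (K := GaloisField 2 n)
    (L := F) (by rw [GaloisField.finrank 2 hn0, hfr]; exact hdvd)
  have hι : Function.Injective ι := ι.toRingHom.injective
  let E : Subgroup ↥(Cfsg.Sz F m) :=
    { carrier := {g | ∃ u : GaloisField 2 n, g = qG h 0 (ι u)}
      mul_mem' := by
        rintro _ _ ⟨u, rfl⟩ ⟨v, rfl⟩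
        refine ⟨u + v, ?_⟩
        rw [qG_mul, map_add]
        congr 1
        · ring
        · ring
      one_mem' := ⟨0, by rw [map_zero, qG_zero]⟩
      inv_mem' := by
        rintro _ ⟨u, rfl⟩
        refine ⟨u, ?_⟩
        rw [qG_inv, mul_zero, add_zero] }
  have hEmem : ∀ g, g ∈ E ↔ ∃ u : GaloisField 2 n, g = qG h 0 (ι u) := fun g => Iff.rfl
  refine ⟨E, ⟨?_, ?_⟩, ?_, ?_⟩
  · rw [isMulCommutative_iff]
    rintro ⟨_, u, rfl⟩ ⟨_, v, rfl⟩
    apply Subtype.ext
    show qG h 0 (ι u) * qG h 0 (ι v) = qG h 0 (ι v) * qG h 0 (ι u)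
    rw [qG_mul, qG_mul]
    congr 1
    ring
  · rintro _ ⟨u, rfl⟩
    rw [qG_sq, mul_zero, qG_zero]
  · have e : GaloisField 2 n ≃ ↥E :=
      Equiv.ofBijective (fun u => ⟨qG h 0 (ι u), u, rfl⟩) (by
        constructor
        · intro u v huv
          have := qG_injective h (congrArg Subtype.val huv)
          exact hι this.2
        · rintro ⟨_, u, rfl⟩
          exact ⟨u, rfl⟩)
    rw [← Nat.card_congr e, GaloisField.card 2 n hn0]
  · intro x hx
    obtain ⟨g, hg, hg1⟩ : ∃ g, g ∈ E ⊓ E.map (MulAut.conj x).toMonoidHom ∧ g ≠ 1 := by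
      obtain ⟨⟨g, hg⟩, hg1⟩ := Subgroup.ne_bot_iff_exists_ne_one.mp hx
      exact ⟨g, hg, fun h0 => hg1 (Subtype.ext h0)⟩
    obtain ⟨⟨u, hu⟩, ⟨g', ⟨v, hv⟩, hg'⟩⟩ := hg
    have hconj : x * qG h 0 (ι v) * x⁻¹ = qG h 0 (ι u) := by
      rw [← hu, ← hg', hv]
      rfl
    have hne : qG h 0 (ι u) ≠ 1 := by rw [← hu]; exact hg1
    have hxB : x ∈ Bsub F m := mem_Bsub_of_conj h hne hconj
    obtain ⟨lam, hl1, hl2⟩ := exists_lam_of_mem_Bsub hm hF h hxB
    rw [hl1] at hconj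
    have hlv := (qG_injective h hconj).2
    have hv0 : ι v ≠ 0 := by
      intro h0
      rw [h0, mul_zero] at hlv
      apply hne
      rw [← hlv, qG_zero]
    have hlam : (lam : F) = ι (u / v) := by
      rw [map_div₀]
      field_simp
      exact hlv
    rw [Subgroup.mem_normalizer_iff]
    intro y
    constructor
    · rintro ⟨w, rfl⟩
      refine ⟨u / v * w, ?_⟩
      rw [hl1, hlam, map_mul]
    · rintro ⟨w, hw⟩
      refine ⟨(u / v)⁻¹ * w, ?_⟩
      have : y = x⁻¹ * (x * y * x⁻¹) * x := by group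
      rw [this, hw, hl2, hlam, map_mul, map_inv₀]

/-- divisibility direction -/
theorem dvd_of_TI (hm : 1 ≤ m) (hF : Fintype.card F = 2 ^ (2 * m + 1)) (n : ℕ) (hn : 2 ≤ n)
    (E : Subgroup ↥(Cfsg.Sz F m)) (hE : Cfsg.IsElementaryAbelian 2 E) (hcard : Nat.card ↥E = 2 ^ n)
    (hTI : ∀ x : ↥(Cfsg.Sz F m), E ⊓ E.map (MulAut.conj x).toMonoidHom ≠ ⊥ →
        x ∈ Subgroup.normalizer (E : Set ↥(Cfsg.Sz F m))) : n ∣ 2 * m + 1 := by
  have h : SzHyp F (2 ^ (m + 1)) := szHyp_of_card hF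
  have hE2 : IsPGroup 2 E := IsPGroup.of_card hcard
  obtain ⟨P, hP⟩ := hE2.exists_le_sylow
  obtain ⟨x, hx⟩ := exists_conj_Qsub hm hF h P
  let A : Set F := {b | x * qG h 0 b * x⁻¹ ∈ E}
  have hAmem : ∀ b, b ∈ A ↔ x * qG h 0 b * x⁻¹ ∈ E := fun b => Iff.rfl
  -- every element of `E` is of that form
  have hEform : ∀ g ∈ E, ∃ b, g = x * qG h 0 b * x⁻¹ := by
    intro g hg
    have hgP := hP hg
    rw [hx, mem_conj_Qsub] at hgP
    obtain ⟨a, b, hab⟩ := hgP
    have hsq : g ^ 2 = 1 := hE.2 g hg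
    have h2 : (qG h a b) ^ 2 = 1 := by
      rw [← hab]
      have hsq' : g * g = 1 := by rw [← sq]; exact hsq
      have : (x⁻¹ * g * x) ^ 2 = x⁻¹ * (g * g) * x := by rw [sq]; group
      rw [this, hsq']
      group
    rw [qG_sq, qG_eq_one_iff] at h2
    have ha : a = 0 := by
      rcases mul_eq_zero.mp h2.2 with h3 | h3
      · exact pow_eq_zero_iff h.pos |>.mp h3
      · exact h3
    refine ⟨b, ?_⟩
    rw [← ha, ← hab]
    group
  have hconj_inj : ∀ b b' : F, x * qG h 0 b * x⁻¹ = x * qG h 0 b' * x⁻¹ → b = b' := by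
    intro b b' hbb
    have : qG h 0 b = qG h 0 b' := by
      have := congrArg (fun g => x⁻¹ * g * x) hbb
      simpa [mul_assoc] using this
    exact (qG_injective h this).2
  -- `A` has `2 ^ n` elements
  have hAcard : Nat.card A = 2 ^ n := by
    rw [← hcard]
    apply Nat.card_congr
    exact Equiv.ofBijective (fun b : A => (⟨x * qG h 0 b.1 * x⁻¹, b.2⟩ : E)) (by
      constructor
      · rintro ⟨b, hb⟩ ⟨b', hb'⟩ hbb
        have := hconj_inj b b' (congrArg Subtype.val hbb)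
        exact Subtype.ext this
      · rintro ⟨g, hg⟩
        obtain ⟨b, rfl⟩ := hEform g hg
        exact ⟨⟨b, hg⟩, rfl⟩)
  have hA0 : (0 : F) ∈ A := by
    rw [hAmem, qG_zero]
    simp
  have hAfin : A.Finite := Set.toFinite A
  -- a nonzero element of `A`
  obtain ⟨b₁, hb₁A, hb₁⟩ : ∃ b₁ ∈ A, b₁ ≠ 0 := by
    by_contra hcon0
    have hcon : ∀ b ∈ A, b = 0 := fun b hb => by
      by_contra hb0
      exact hcon0 ⟨b, hb, hb0⟩
    have : A = {0} := by
      ext b
      constructor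
      · intro hb
        exact hcon b hb
      · rintro rfl
        exact hA0
    rw [this] at hAcard
    simp at hAcard
    have : 2 ^ n ≥ 2 ^ 2 := Nat.pow_le_pow_right (by norm_num) hn
    omega
  -- the key consequence of the TI property
  have hkey : ∀ lam : Fˣ, ∀ b ∈ A, b ≠ 0 → ∀ b' ∈ A, (lam : F) * b' = b →
      ∀ a ∈ A, (lam : F) * a ∈ A := by
    intro lam b hb hb0 b' hb' hlb
    obtain ⟨t, ht⟩ := lamU_surjective h lam
    have hcz : ∀ β : F, hG h t * qG h 0 β * (hG h t)⁻¹ = qG h 0 ((lam : F) * β) := by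
      intro β
      have := conj_center h 0 0 t β
      rw [qG_zero, one_mul, ht] at this
      exact this
    set y := x * hG h t * x⁻¹ with hy
    have hyc : ∀ β : F, y * (x * qG h 0 β * x⁻¹) * y⁻¹ = x * qG h 0 ((lam : F) * β) * x⁻¹ := by
      intro β
      rw [← hcz β, hy]
      group
    have hyN : y ∈ Subgroup.normalizer (E : Set ↥(Cfsg.Sz F m)) := by
      apply hTI
      rw [Subgroup.ne_bot_iff_exists_ne_one]
      refine ⟨⟨x * qG h 0 b * x⁻¹, ⟨hb, ?_⟩⟩, ?_⟩
      · refine ⟨x * qG h 0 b' * x⁻¹, hb', ?_⟩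
        show y * (x * qG h 0 b' * x⁻¹) * y⁻¹ = _
        rw [hyc, hlb]
      · intro h1
        have h1' : x * qG h 0 b * x⁻¹ = 1 := congrArg Subtype.val h1
        have : x * qG h 0 b * x⁻¹ = x * qG h 0 0 * x⁻¹ := by
          rw [h1', qG_zero]
          group
        exact hb0 (hconj_inj _ _ this)
    intro a ha
    rw [Subgroup.mem_normalizer_iff] at hyN
    have := (hyN _).mp ha
    rw [hyc] at this
    exact this
  -- the stabiliser of `A`
  set S : Subgroup Fˣ := MulAction.stabilizer Fˣ A with hS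
  have hSmem : ∀ lam : Fˣ, lam ∈ S ↔ ∀ a ∈ A, (lam : F) * a ∈ A := by
    intro lam
    rw [hS, MulAction.mem_stabilizer_set' hAfin]
    rfl
  have hScard : Nat.card S = 2 ^ n - 1 := by
    have e : ↥S ≃ {b : F // b ∈ A ∧ b ≠ 0} :=
      Equiv.ofBijective (fun lam => ⟨(lam.1 : F) * b₁, (hSmem lam.1).mp lam.2 b₁ hb₁A,
        mul_ne_zero (Units.ne_zero _) hb₁⟩) (by
        constructor
        · rintro ⟨l1, h1⟩ ⟨l2, h2⟩ h12
          have : (l1 : F) * b₁ = (l2 : F) * b₁ := congrArg Subtype.val h12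
          exact Subtype.ext (Units.ext (mul_right_cancel₀ hb₁ this))
        · rintro ⟨b, hbA, hb0⟩
          have hl0 : b / b₁ ≠ 0 := div_ne_zero hb0 hb₁
          refine ⟨⟨Units.mk0 (b / b₁) hl0, ?_⟩, ?_⟩
          · rw [hSmem]
            apply hkey _ b hbA hb0 b₁ hb₁A
            rw [Units.val_mk0]
            field_simp
          · apply Subtype.ext
            show ((Units.mk0 (b / b₁) hl0 : Fˣ) : F) * b₁ = b
            rw [Units.val_mk0]
            field_simp)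
    rw [Nat.card_congr e]
    have h1 : Nat.card {b : F // b ∈ A ∧ b ≠ 0} = Nat.card ↥(A \ {0}) := by
      apply Nat.card_congr
      exact Equiv.subtypeEquivRight (fun b => by simp)
    rw [h1, Nat.card_coe_set_eq, Set.ncard_sdiff_singleton_of_mem hA0, ← Nat.card_coe_set_eq, hAcard]
  have hdvd : 2 ^ n - 1 ∣ 2 ^ (2 * m + 1) - 1 := by
    have := Subgroup.card_subgroup_dvd_card S
    rw [hScard, Nat.card_units, Nat.card_eq_fintype_card, hF] at this
    exact this
  have hgcd := Nat.pow_sub_one_gcd_pow_sub_one 2 n (2 * m + 1)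
  rw [Nat.gcd_eq_left hdvd] at hgcd
  have h3 : 2 ^ n = 2 ^ Nat.gcd n (2 * m + 1) := by
    have h1 : 1 ≤ 2 ^ n := Nat.one_le_two_pow
    have h2 : 1 ≤ 2 ^ Nat.gcd n (2 * m + 1) := Nat.one_le_two_pow
    omega
  have h4 : n = Nat.gcd n (2 * m + 1) := Nat.pow_right_injective (le_refl 2) h3
  rw [h4]
  exact Nat.gcd_dvd_right _ _

end

/-- Elementary abelian TI-subgroups of the Suzuki group: let q = 2^(2m+1) with m ≥ 1, the group realised as the stabiliser in SL₄ of the Suzuki–Tits ovoid, and n ≥ 2. There is an elementary abelian 2-subgroup E of order 2^n that is a TI-subgroup (every conjugate of E meeting E nontrivially is E itself) if and only if n divides 2m + 1. -/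
theorem result {F : Type*} [Field F] [Fintype F] {m : ℕ} (hm : 1 ≤ m) (hF : Fintype.card F = 2 ^ (2 * m + 1)) (n : ℕ) (hn : 2 ≤ n) :
    (∃ E : Subgroup ↥(Cfsg.Sz F m), Cfsg.IsElementaryAbelian 2 E ∧ Nat.card ↥E = 2 ^ n ∧
      ∀ x : ↥(Cfsg.Sz F m), E ⊓ E.map (MulAut.conj x).toMonoidHom ≠ ⊥ → x ∈ Subgroup.normalizer (E : Set ↥(Cfsg.Sz F m))) ↔ n ∣ 2 * m + 1 := by
  constructor
  · rintro ⟨E, hE, hcard, hTI⟩
    exact dvd_of_TI hm hF n hn E hE hcard hTI
  · exact exists_TI hm hF n hn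

end Cfsg.Agent.S2240
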