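import Cfsg.Statements.S2241
import Cfsg.Agent.Lib.Helper37.SzSylow

set_option autoImplicit false
open Cfsg

namespace Cfsg.Agent.S2241

open Cfsg.Agent.Helper37 Cfsg.Agent.Helper6

/-- Real 2-elements of the Suzuki group: with q = 2^(2m+1), m ≥ 1, and the group realised as the stabiliser in SL₄ of the Suzuki–Tits ovoid, a non-identity element of a Sylow 2-subgroup is conjugate to its inverse if and only if it is an involution; in particular no element of order 4 is conjugate to its inverse. -/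
theorem result {F : Type*} [Field F] [Fintype F] {m : ℕ} (hm : 1 ≤ m) (hF : Fintype.card F = 2 ^ (2 * m + 1)) (P : Sylow 2 ↥(Cfsg.Sz F m)) (g : ↥(Cfsg.Sz F m)) (hg : g ∈ (P : Subgroup ↥(Cfsg.Sz F m))) (h1 : g ≠ 1) :
    IsConj g g⁻¹ ↔ orderOf g = 2 := by
  have h : SzHyp F (2 ^ (m + 1)) := szHyp_of_card hF
  obtain ⟨x, hx⟩ := exists_conj_Qsub hm hF h P
  rw [hx, mem_conj_Qsub] at hg
  obtain ⟨a, b, hab⟩ := hg
  have hne : qG h a b ≠ 1 := by
    rw [← hab]
    intro h0
    apply h1
    have : g = x * (x⁻¹ * g * x) * x⁻¹ := by group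
    rw [this, h0]
    group
  have hgx : g = x * qG h a b * x⁻¹ := by
    rw [← hab]; group
  have e1 : IsConj g g⁻¹ ↔ IsConj (qG h a b) (qG h a b)⁻¹ := by
    have c1 : IsConj (qG h a b) g := isConj_iff.mpr ⟨x, hgx.symm⟩
    have c2 : IsConj (qG h a b)⁻¹ g⁻¹ := by
      refine isConj_iff.mpr ⟨x, ?_⟩
      rw [hgx]; group
    constructor
    · intro hc
      exact c1.trans (hc.trans c2.symm)
    · intro hc
      exact c1.symm.trans (hc.trans c2)
  have e2 : orderOf g = orderOf (qG h a b) := by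
    have hs : SemiconjBy x (qG h a b) g := by
      unfold SemiconjBy
      rw [hgx]; group
    exact (hs.orderOf_eq).symm
  rw [e1, e2, isConj_inv_qG_iff hm hF h hne, orderOf_qG_eq_two_iff h hne]

end Cfsg.Agent.S2241
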