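import Cfsg.Statements.S2247
import Cfsg.Agent.Lib.Helper37.SzMax

set_option autoImplicit false
open Cfsg

namespace Cfsg.Agent.S2247

open Cfsg.Agent.Helper37 Cfsg.Agent.Helper6

theorem coatom_transport {G : Type*} [Group G] (φ : G ≃* G) (Q : Subgroup G)
    (hQ : IsCoatom (Subgroup.normalizer ((Q : Subgroup G) : Set G)) ∧
      ∀ M : Subgroup G, IsCoatom M → Q ≤ M → M = Subgroup.normalizer ((Q : Subgroup G) : Set G)) :
    IsCoatom (Subgroup.normalizer ((Q.map φ.toMonoidHom : Subgroup G) : Set G)) ∧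
      ∀ M : Subgroup G, IsCoatom M → Q.map φ.toMonoidHom ≤ M →
        M = Subgroup.normalizer ((Q.map φ.toMonoidHom : Subgroup G) : Set G) := by
  have key : Subgroup.normalizer ((Q.map φ.toMonoidHom : Subgroup G) : Set G) =
      (Subgroup.normalizer ((Q : Subgroup G) : Set G)).map φ.toMonoidHom :=
    (Subgroup.map_equiv_normalizer_eq Q φ).symm
  have hco : ∀ (ψ : G ≃* G) (K : Subgroup G), IsCoatom (K.map ψ.toMonoidHom) ↔ IsCoatom K :=
    fun ψ K => (MulEquiv.mapSubgroup ψ).isCoatom_iff K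
  rw [key]
  refine ⟨(hco φ _).mpr hQ.1, ?_⟩
  intro M hM hle
  have h1 : IsCoatom (M.map φ.symm.toMonoidHom) := (hco φ.symm M).mpr hM
  have h2 : Q ≤ M.map φ.symm.toMonoidHom := by
    intro q hq
    exact ⟨φ q, hle ⟨q, hq, rfl⟩, by simp⟩
  have h3 := hQ.2 _ h1 h2
  rw [← h3, Subgroup.map_map]
  ext x
  simp

/-- Suzuki groups, the maximal subgroup over a Sylow 2-subgroup (KLST98, Fact 3(b)): with q = 2^(2m+1), m ≥ 1, for a Sylow 2-subgroup P of the Suzuki group the normaliser N(P) is a maximal subgroup, and it is the only maximal subgroup that contains P. -/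
theorem result {F : Type*} [Field F] [Fintype F] {m : ℕ} (hm : 1 ≤ m) (hF : Fintype.card F = 2 ^ (2 * m + 1)) (P : Sylow 2 ↥(Cfsg.Sz F m)) :
    IsCoatom (Subgroup.normalizer ((P : Subgroup ↥(Cfsg.Sz F m)) : Set ↥(Cfsg.Sz F m))) ∧
    ∀ M : Subgroup ↥(Cfsg.Sz F m), IsCoatom M → (P : Subgroup ↥(Cfsg.Sz F m)) ≤ M → M = Subgroup.normalizer ((P : Subgroup ↥(Cfsg.Sz F m)) : Set ↥(Cfsg.Sz F m)) := by
  have h : SzHyp F (2 ^ (m + 1)) := szHyp_of_card hF
  obtain ⟨x, hx⟩ := exists_conj_Qsub hm hF h P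
  rw [hx]
  apply coatom_transport
  rw [normalizer_Qsub hm hF h]
  have hBtop : Bsub F m ≠ ⊤ := by
    intro h0
    apply wG_not_mem_Bsub h
    rw [h0]
    exact Subgroup.mem_top _
  constructor
  · refine ⟨hBtop, ?_⟩
    intro M hM
    apply eq_top_of_Qsub_le hm hF h M ((Qsub_le_Bsub h).trans hM.le)
    exact not_le_of_gt hM
  · intro M hM hQM
    by_cases hMB : M ≤ Bsub F m
    · rcases hM.le_iff.mp hMB with h1 | h1
      · exact absurd h1 hBtop
      · exact h1.symm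
    · exact absurd (eq_top_of_Qsub_le hm hF h M hQM hMB) hM.1

end Cfsg.Agent.S2247
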