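import Cfsg.Statements.S2251
import Mathlib
import Cfsg.Agent.Lib.Helper39.SzSubgroups

set_option autoImplicit false
open Cfsg

namespace Cfsg.Agent.S2251

/-- The subgroups of the Suzuki group: with q = 2^(2m+1), m ≥ 1, r = 2^m and the group realised as the stabiliser in SL₄ of the Suzuki–Tits ovoid, every proper subgroup is contained in the normalizer of a Sylow 2-subgroup, or in the normalizer of a cyclic subgroup of order q − 1, q + 2r + 1 or q − 2r + 1, or in a subgroup isomorphic to a smaller Suzuki group Sz(s) with s = 2^(2k+1) ≥ 8 and 2k+1 a proper divisor of 2m+1. -/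
theorem result {F : Type*} [Field F] [Fintype F] {m : ℕ} (hm : 1 ≤ m) (hF : Fintype.card F = 2 ^ (2 * m + 1)) (M : Subgroup ↥(Cfsg.Sz F m)) (hM : M ≠ ⊤) :
    (∃ P : Sylow 2 ↥(Cfsg.Sz F m), M ≤ Subgroup.normalizer ((P : Subgroup ↥(Cfsg.Sz F m)) : Set ↥(Cfsg.Sz F m))) ∨
    (∃ U : Subgroup ↥(Cfsg.Sz F m), IsCyclic ↥U ∧ Nat.card ↥U ∈ ({2 ^ (2 * m + 1) - 1, 2 ^ (2 * m + 1) + 2 ^ (m + 1) + 1, 2 ^ (2 * m + 1) - 2 ^ (m + 1) + 1} : Set ℕ) ∧
      M ≤ Subgroup.normalizer (U : Set ↥(Cfsg.Sz F m))) ∨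
    (∃ (K : Type) (_ : Field K) (_ : Fintype K) (k : ℕ), 1 ≤ k ∧ k < m ∧ Fintype.card K = 2 ^ (2 * k + 1) ∧ 2 * k + 1 ∣ 2 * m + 1 ∧
      ∃ S : Subgroup ↥(Cfsg.Sz F m), Nonempty (↥S ≃* ↥(Cfsg.Sz K k)) ∧ M ≤ S) := by
  classical
  rcases Cfsg.Agent.Helper39.SzSubgroups.subgroup_cases hm hF M with h1 | ⟨A, hA, hMA⟩ |
    ⟨g₀, E, he, hmem⟩
  · exact Or.inl h1
  · exact Or.inr (Or.inl ⟨A, hA.cyc, hA.card, hMA⟩)
  · right; right
    obtain ⟨k, hk1, hkm, hdiv, hcardE⟩ :=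
      Cfsg.Agent.Helper39.SzSubfield.subfield_card hF E he
    have hklt : k < m := by
      rcases Nat.lt_or_ge k m with h | h
      · exact h
      · exfalso
        have hkeq : k = m := le_antisymm hkm h
        subst hkeq
        apply hM
        rw [eq_top_iff]
        intro x _
        rw [hmem]
        intro i j
        exact Cfsg.Agent.Helper39.SzSubfield.mem_of_card_eq hF E hcardE _
    obtain ⟨K, iK, iK', hK, S₀, ⟨e₀⟩, hS₀⟩ :=
      Cfsg.Agent.Helper39.SzSubfield.exists_subfield_subgroup hm hF E hk1 hdiv hcardE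
    refine ⟨K, iK, iK', k, hk1, hklt, hK, hdiv,
      S₀.map (MulAut.conj g₀).toMonoidHom, ⟨?_⟩, ?_⟩
    · exact ((S₀.equivMapOfInjective (MulAut.conj g₀).toMonoidHom
        (MulAut.conj g₀).injective).symm).trans e₀
    · intro x hx
      refine ⟨g₀⁻¹ * x * g₀, ?_, ?_⟩
      · rw [SetLike.mem_coe, hS₀]
        exact (hmem x).mp hx
      · show g₀ * (g₀⁻¹ * x * g₀) * g₀⁻¹ = x
        group

end Cfsg.Agent.S2251
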