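import Cfsg.Statements.S2254
import Cfsg.Agent.Lib.Helper37.NilpConj

set_option autoImplicit false
open Cfsg

namespace Cfsg.Agent.S2254

open Cfsg.Agent.Helper37

theorem card_sylow_perm (k : ℕ) (P : Sylow 2 (Equiv.Perm (Fin k))) : Nat.card P = b k := by
  rw [Sylow.card_eq_multiplicity, Nat.card_perm, Nat.card_eq_fintype_card, Fintype.card_fin]
  rfl

/-- the regular representation of `ZMod 3`. -/
def rho : Multiplicative (ZMod 3) →* Equiv.Perm (ZMod 3) where
  toFun a := Equiv.addLeft (Multiplicative.toAdd a)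
  map_one' := by
    ext x
    simp
  map_mul' a b := by
    ext x
    simp

theorem rho_injective : Function.Injective rho := by
  intro a b h
  have := congrArg (fun f : Equiv.Perm (ZMod 3) => f 0) h
  simpa [rho] using this

/-- the bijection used to glue `Fin (n - 3)` and `ZMod 3`. -/
def glue (n : ℕ) (hn : 3 ≤ n) : Fin (n - 3) ⊕ ZMod 3 ≃ Fin n :=
  (Equiv.sumCongr (Equiv.refl (Fin (n - 3))) (Equiv.refl (Fin 3))).trans
    (finSumFinEquiv.trans (finCongr (by omega)))

/-- the embedding of `P × C₃` in `S_n`. -/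
def psi (n : ℕ) (hn : 3 ≤ n) (P : Subgroup (Equiv.Perm (Fin (n - 3)))) :
    ↥P × Multiplicative (ZMod 3) →* Equiv.Perm (Fin n) :=
  ((glue n hn).permCongrHom.toMonoidHom).comp
    ((Equiv.Perm.sumCongrHom (Fin (n - 3)) (ZMod 3)).comp (MonoidHom.prodMap P.subtype rho))

theorem psi_injective (n : ℕ) (hn : 3 ≤ n) (P : Subgroup (Equiv.Perm (Fin (n - 3)))) :
    Function.Injective (psi n hn P) := by
  have h1 : Function.Injective (MonoidHom.prodMap P.subtype rho) :=
    Prod.map_injective.mpr ⟨Subtype.val_injective, rho_injective⟩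
  have h2 : Function.Injective (Equiv.Perm.sumCongrHom (Fin (n - 3)) (ZMod 3)) :=
    Equiv.Perm.sumCongrHom_injective
  have h3 : Function.Injective ((glue n hn).permCongrHom) := MulEquiv.injective _
  intro a b hab
  apply h1
  apply h2
  apply h3
  exact hab

/-- Let n ≡ 3 (mod 4). Then every nilpotent subgroup of the symmetric group on n letters has order at most 3 times the order of a Sylow 2-subgroup of the symmetric group on n − 3 letters; the bound is attained by a nilpotent subgroup isomorphic to the direct product of such a Sylow 2-subgroup with a cyclic group of order 3; and any two nilpotent subgroups attaining the bound are conjugate. -/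
theorem result  (n : ℕ) (hn : n % 4 = 3)
    (P : Sylow 2 (Equiv.Perm (Fin (n - 3)))) :
    (∀ N : Subgroup (Equiv.Perm (Fin n)), Group.IsNilpotent N → Nat.card N ≤ 3 * Nat.card P) ∧
    (∃ M : Subgroup (Equiv.Perm (Fin n)), Group.IsNilpotent M ∧ Nat.card M = 3 * Nat.card P ∧
      Nonempty (M ≃* (↥(P : Subgroup (Equiv.Perm (Fin (n - 3)))) × Multiplicative (ZMod 3)))) ∧
    (∀ N₁ N₂ : Subgroup (Equiv.Perm (Fin n)), Group.IsNilpotent N₁ → Group.IsNilpotent N₂ →
      Nat.card N₁ = 3 * Nat.card P → Nat.card N₂ = 3 * Nat.card P →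
      ∃ g : Equiv.Perm (Fin n), N₂ = N₁.map (MulAut.conj g).toMonoidHom) := by
  have hP : Nat.card P = b (n - 3) := card_sylow_perm _ P
  have hn3 : 3 ≤ n := by omega
  refine ⟨?_, ?_, ?_⟩
  · intro N hN
    have h1 := card_le_B_of_nilpotent N hN
    rw [Nat.card_eq_fintype_card (α := Fin n), Fintype.card_fin] at h1
    unfold B at h1
    rw [if_pos hn] at h1
    rw [hP]
    exact h1
  · have hinj := psi_injective n hn3 (P : Subgroup (Equiv.Perm (Fin (n - 3))))
    let e := MonoidHom.ofInjective hinj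
    have : Group.IsNilpotent ↥(P : Subgroup (Equiv.Perm (Fin (n - 3)))) := P.isPGroup'.isNilpotent
    refine ⟨(psi n hn3 (P : Subgroup (Equiv.Perm (Fin (n - 3))))).range, ?_, ?_, ⟨e.symm⟩⟩
    · exact Group.nilpotent_of_mulEquiv e
    · rw [← Nat.card_congr e.toEquiv, Nat.card_prod, mul_comm]
      congr 1
      rw [Nat.card_eq_fintype_card]
      rfl
  · intro N₁ N₂ h₁ h₂ hc₁ hc₂
    rw [hP] at hc₁ hc₂
    obtain ⟨c, Q, hc, hQ, hfix, hN₁⟩ :=
      structure_of_extremal n (by simp) hn N₁ h₁ hc₁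
    obtain ⟨c', Q', hc', hQ', hfix', hN₂⟩ :=
      structure_of_extremal n (by simp) hn N₂ h₂ hc₂
    obtain ⟨g, hg⟩ := conj_of_structure n (by simp) c c' Q Q' hc hc' hQ hQ' hfix hfix'
    exact ⟨g, by rw [hN₁, hN₂, hg]⟩

end Cfsg.Agent.S2254
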