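import Cfsg.Statements.S2255
import Cfsg.Agent.Lib.Helper37.NilpAlt

set_option autoImplicit false
open Cfsg

namespace Cfsg.Agent.S2255

open Cfsg.Agent.Helper37

/-- order of a Sylow 2-subgroup of an alternating group -/
theorem two_mul_card_sylow_alt (n : ℕ) (h2 : 2 ≤ n) (P : Sylow 2 (alternatingGroup (Fin n))) :
    2 * Nat.card P = b n := by
  have : Nontrivial (Fin n) := Fin.nontrivial_iff_two_le.mpr h2
  have h2card : 2 * Nat.card (alternatingGroup (Fin n)) = n.factorial := by
    have := two_mul_card_alternatingGroup (α := Fin n)
    rw [Fintype.card_perm, Fintype.card_fin] at this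
    rw [Nat.card_eq_fintype_card]
    exact this
  have hne : Nat.card (alternatingGroup (Fin n)) ≠ 0 := Nat.card_pos.ne'
  rw [Sylow.card_eq_multiplicity]
  unfold b
  rw [← h2card, Nat.factorization_mul (by norm_num) hne]
  simp only [Finsupp.coe_add, Pi.add_apply]
  rw [Nat.Prime.factorization_self Nat.prime_two, pow_add, pow_one]

/-- Let n be a natural number not congruent to 3 modulo 4, with n ∉ {5, 6, 9}. Then every nilpotent subgroup of the alternating group on n letters has order at most the order of a Sylow 2-subgroup of the alternating group (so the nilpotent subgroups of largest order are exactly the Sylow 2-subgroups). -/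
theorem result  (n : ℕ) (hn : n % 4 ≠ 3)
    (h5 : n ≠ 5) (h6 : n ≠ 6) (h9 : n ≠ 9)
    (N : Subgroup (alternatingGroup (Fin n))) (hN : Group.IsNilpotent N)
    (P : Sylow 2 (alternatingGroup (Fin n))) :
    Nat.card N ≤ Nat.card P := by
  rcases Nat.lt_or_ge n 2 with h2 | h2
  · have h1 : Nat.card (Equiv.Perm (Fin n)) = 1 := by
      rw [Nat.card_perm, Nat.card_eq_fintype_card, Fintype.card_fin]
      interval_cases n <;> rfl
    have h3 : Nat.card (alternatingGroup (Fin n)) ≤ 1 := by
      rw [← h1]
      exact Subgroup.card_le_card_group _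
    have h4 : Nat.card N ≤ Nat.card (alternatingGroup (Fin n)) := Subgroup.card_le_card_group _
    have h5 : 0 < Nat.card P := Nat.card_pos
    omega
  · have hinj : Function.Injective (alternatingGroup (Fin n)).subtype := Subtype.val_injective
    set N' := N.map (alternatingGroup (Fin n)).subtype with hN'
    have hcard : Nat.card N' = Nat.card N := Subgroup.card_map_of_injective hinj
    have hnil : Group.IsNilpotent N' :=
      Group.nilpotent_of_mulEquiv (N.equivMapOfInjective _ hinj)
    have hev : ∀ g ∈ N', Equiv.Perm.sign g = 1 := by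
      rintro _ ⟨g, _, rfl⟩
      exact Equiv.Perm.mem_alternatingGroup.mp g.2
    have hV := card_le_V_of_nilpotent_even n (Fin n) N' (by simp) hnil hev
    rw [hcard, V_eq_of_not_special (by unfold SpecialV; omega), B_eq_of_not_mod3 hn,
      ← two_mul_card_sylow_alt n h2 P] at hV
    omega

end Cfsg.Agent.S2255
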