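import Cfsg.Statements.S2256
import Cfsg.Agent.Lib.Helper37.NilpConjAlt
import Cfsg.Agent.S2254
import Cfsg.Agent.S2255

set_option autoImplicit false
open Cfsg

namespace Cfsg.Agent.S2256

open Cfsg.Agent.Helper37

theorem sign_rho (a : Multiplicative (ZMod 3)) : Equiv.Perm.sign (S2254.rho a) = 1 := by
  have h3 : a ^ 3 = 1 := by
    have h := pow_card_eq_one (x := a)
    rwa [Fintype.card_multiplicative, ZMod.card] at h
  have h1 : (Equiv.Perm.sign (S2254.rho a)) ^ 3 = 1 := by
    rw [← map_pow, ← map_pow, h3, map_one, map_one]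
  rcases Int.units_eq_one_or (Equiv.Perm.sign (S2254.rho a)) with h | h
  · exact h
  · rw [h] at h1
    exact absurd h1 (by decide)

theorem sign_psi (n : ℕ) (hn : 3 ≤ n) (P : Subgroup (Equiv.Perm (Fin (n - 3))))
    (hP : ∀ g ∈ P, Equiv.Perm.sign g = 1) (x : ↥P × Multiplicative (ZMod 3)) :
    Equiv.Perm.sign (S2254.psi n hn P x) = 1 := by
  unfold S2254.psi
  show Equiv.Perm.sign ((S2254.glue n hn).permCongr
    (Equiv.Perm.sumCongr (x.1 : Equiv.Perm (Fin (n - 3))) (S2254.rho x.2))) = 1
  rw [Equiv.Perm.sign_permCongr, Equiv.Perm.sign_sumCongr, hP _ x.1.2, sign_rho, one_mul]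

theorem four_mul_b_le {t : ℕ} (ht : (t + 1) % 4 = 0) : 4 * b t ≤ b (t + 1) := by
  rw [b_succ]
  have h2 := fact2_zero_mod_four ht (by omega)
  have h6 : 2 ^ 2 ≤ 2 ^ ((t + 1).factorization 2) := Nat.pow_le_pow_right (by norm_num) h2
  have := b_pos t
  nlinarith

/-- Let n ≡ 3 (mod 4) with n ≥ 7. Then every nilpotent subgroup of the alternating group on n letters has order at most 3 times the order of a Sylow 2-subgroup of the alternating group on n − 3 letters; the bound is attained by a nilpotent subgroup isomorphic to the direct product of such a Sylow 2-subgroup with a cyclic group of order 3; and any two nilpotent subgroups of the alternating group attaining the bound are conjugate in it. -/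
theorem result  (n : ℕ) (hn : n % 4 = 3) (h7 : 7 ≤ n)
    (P : Sylow 2 (alternatingGroup (Fin (n - 3)))) :
    (∀ N : Subgroup (alternatingGroup (Fin n)), Group.IsNilpotent N → Nat.card N ≤ 3 * Nat.card P) ∧
    (∃ M : Subgroup (alternatingGroup (Fin n)), Group.IsNilpotent M ∧ Nat.card M = 3 * Nat.card P ∧
      Nonempty (M ≃* (↥(P : Subgroup (alternatingGroup (Fin (n - 3)))) × Multiplicative (ZMod 3)))) ∧
    (∀ N₁ N₂ : Subgroup (alternatingGroup (Fin n)), Group.IsNilpotent N₁ → Group.IsNilpotent N₂ →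
      Nat.card N₁ = 3 * Nat.card P → Nat.card N₂ = 3 * Nat.card P →
      ∃ g : alternatingGroup (Fin n), N₂ = N₁.map (MulAut.conj g).toMonoidHom) := by
  have hP : 2 * Nat.card P = b (n - 3) := S2255.two_mul_card_sylow_alt (n - 3) (by omega) P
  have hn3 : 3 ≤ n := by omega
  have hinj : Function.Injective (alternatingGroup (Fin n)).subtype := Subtype.val_injective
  have hBn : B n = 3 * b (n - 3) := by
    unfold B
    rw [if_pos hn]
  refine ⟨?_, ?_, ?_⟩
  · intro N hN
    set N' := N.map (alternatingGroup (Fin n)).subtype with hN'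
    have hcard : Nat.card N' = Nat.card N := Subgroup.card_map_of_injective hinj
    have hnil : Group.IsNilpotent N' :=
      Group.nilpotent_of_mulEquiv (N.equivMapOfInjective _ hinj)
    have hev : ∀ g ∈ N', Equiv.Perm.sign g = 1 := by
      rintro _ ⟨g, _, rfl⟩
      exact Equiv.Perm.mem_alternatingGroup.mp g.2
    have hV := card_le_V_of_nilpotent_even n (Fin n) N' (by simp) hnil hev
    rw [hcard, V_eq_of_not_special (by unfold SpecialV; omega), hBn, ← hP] at hV
    omega
  · have hinj3 : Function.Injective (alternatingGroup (Fin (n - 3))).subtype :=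
      Subtype.val_injective
    set P' := (P : Subgroup (alternatingGroup (Fin (n - 3)))).map
      (alternatingGroup (Fin (n - 3))).subtype with hP'
    let eP : ↥(P : Subgroup (alternatingGroup (Fin (n - 3)))) ≃* ↥P' :=
      (P : Subgroup (alternatingGroup (Fin (n - 3)))).equivMapOfInjective _ hinj3
    have hP'ev : ∀ g ∈ P', Equiv.Perm.sign g = 1 := by
      rintro _ ⟨g, _, rfl⟩
      exact Equiv.Perm.mem_alternatingGroup.mp g.2
    let ψ' : ↥P' × Multiplicative (ZMod 3) →* alternatingGroup (Fin n) :=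
      (S2254.psi n hn3 P').codRestrict (alternatingGroup (Fin n))
        (fun x => Equiv.Perm.mem_alternatingGroup.mpr (sign_psi n hn3 P' hP'ev x))
    have hψ' : Function.Injective ψ' := by
      intro a b hab
      apply S2254.psi_injective n hn3 P'
      exact congrArg Subtype.val hab
    let e := MonoidHom.ofInjective hψ'
    have : Group.IsNilpotent ↥(P : Subgroup (alternatingGroup (Fin (n - 3)))) :=
      P.isPGroup'.isNilpotent
    have : Group.IsNilpotent ↥P' := Group.nilpotent_of_mulEquiv eP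
    refine ⟨ψ'.range, ?_, ?_, ⟨e.symm.trans (MulEquiv.prodCongr eP.symm (MulEquiv.refl _))⟩⟩
    · exact Group.nilpotent_of_mulEquiv e
    · rw [← Nat.card_congr e.toEquiv, Nat.card_prod, mul_comm, ← Nat.card_congr eP.toEquiv]
      congr 1
      rw [Nat.card_eq_fintype_card]
      rfl
  · intro N₁ N₂ h₁ h₂ hc₁ hc₂
    have : Fact (Nat.Prime 2) := ⟨Nat.prime_two⟩
    obtain ⟨k, hk⟩ : ∃ k, Nat.card P = 2 ^ k := ⟨_, Sylow.card_eq_multiplicity P⟩
    rw [hk] at hc₁ hc₂ hP
    have hb4 : b (n - 4) < 2 ^ k := by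
      have := four_mul_b_le (t := n - 4) (by omega)
      rw [show n - 4 + 1 = n - 3 by omega, ← hP] at this
      have := b_pos (n - 4)
      omega
    have key : ∀ N : Subgroup (alternatingGroup (Fin n)), Group.IsNilpotent N →
        Nat.card N = 3 * 2 ^ k →
        ∃ (c : Equiv.Perm (Fin n)) (Q : Subgroup (Equiv.Perm (Fin n))), c.IsThreeCycle ∧
          Nat.card Q = 2 ^ k ∧ (∀ g ∈ Q, ∀ x ∈ c.support, g x = x) ∧
          (∀ g ∈ Q, Equiv.Perm.sign g = 1) ∧
          N.map (alternatingGroup (Fin n)).subtype = Subgroup.zpowers c ⊔ Q := by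
      intro N hN hc
      set N' := N.map (alternatingGroup (Fin n)).subtype with hN'
      have hcard : Nat.card N' = 3 * 2 ^ k := by
        rw [hN', Subgroup.card_map_of_injective hinj, hc]
      have hnil : Group.IsNilpotent N' :=
        Group.nilpotent_of_mulEquiv (N.equivMapOfInjective _ hinj)
      have hev : ∀ g ∈ N', Equiv.Perm.sign g = 1 := by
        rintro _ ⟨g, _, rfl⟩
        exact Equiv.Perm.mem_alternatingGroup.mp g.2
      obtain ⟨c, Q, hc3, hQ, hfix, hNeq⟩ :=
        structure_of_extremal_gen n (by simp) k hb4 N' hnil hcard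
      refine ⟨c, Q, hc3, hQ, hfix, ?_, hNeq⟩
      intro g hg
      apply hev
      rw [hNeq]
      exact Subgroup.mem_sup_right hg
    obtain ⟨c, Q, hc, hQ, hfix, hev, hN₁⟩ := key N₁ h₁ hc₁
    obtain ⟨c', Q', hc', hQ', hfix', hev', hN₂⟩ := key N₂ h₂ hc₂
    obtain ⟨g, hgs, hg⟩ := conj_of_structure_alt n (by simp) (by omega) k hP c c' Q Q' hc hc'
      hQ hQ' hfix hfix' hev hev'
    rw [← hN₁, ← hN₂] at hg
    refine ⟨⟨g, Equiv.Perm.mem_alternatingGroup.mpr hgs⟩, ?_⟩
    ext x
    have hx : x ∈ N₂ ↔ (x : Equiv.Perm (Fin n)) ∈ N₂.map (alternatingGroup (Fin n)).subtype := by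
      constructor
      · intro h
        exact ⟨x, h, rfl⟩
      · rintro ⟨y, hy, hyx⟩
        have : y = x := Subtype.ext hyx
        rwa [← this]
    rw [hx, hg]
    constructor
    · rintro ⟨_, ⟨y, hy, rfl⟩, hyx⟩
      refine ⟨y, hy, ?_⟩
      apply Subtype.ext
      exact hyx
    · rintro ⟨y, hy, rfl⟩
      exact ⟨y, ⟨y, hy, rfl⟩, rfl⟩

end Cfsg.Agent.S2256
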