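import Cfsg.Statements.S2258
import Cfsg.Agent.Lib.Helper37.L3O

set_option autoImplicit false
open Cfsg

namespace Cfsg.Agent.S2258

/-- Let G = PSL_2(F) with F a field of order q = 3^p, p an odd prime, and for x ∈ G call the solubilizer of x the set of y ∈ G such that x and y generate a solvable subgroup. Then the solubilizer of an involution has q(q + 1) elements; that of an element of order 3 has q(q + 5)/2 elements; that of an element of order neither 1 nor 2 dividing q − 1 has q(q − 1) elements; and that of an element of order neither 1 nor 2 dividing q + 1 has q + 1 elements. -/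
theorem result (p : ℕ) (hp : p.Prime) (hodd : Odd p) {F : Type*} [Field F] [Fintype F]
    (hF : Fintype.card F = 3 ^ p) (x : Matrix.ProjectiveSpecialLinearGroup (Fin 2) F) :
    (orderOf x = 2 → Nat.card {y : Matrix.ProjectiveSpecialLinearGroup (Fin 2) F // Group.IsSolvable ↥(Subgroup.closure ({x, y} : Set (Matrix.ProjectiveSpecialLinearGroup (Fin 2) F)))} = 3 ^ p * (3 ^ p + 1)) ∧
    (orderOf x = 3 → 2 * Nat.card {y : Matrix.ProjectiveSpecialLinearGroup (Fin 2) F // Group.IsSolvable ↥(Subgroup.closure ({x, y} : Set (Matrix.ProjectiveSpecialLinearGroup (Fin 2) F)))} = 3 ^ p * (3 ^ p + 5)) ∧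
    (x ≠ 1 → orderOf x ≠ 2 → orderOf x ∣ 3 ^ p - 1 → Nat.card {y : Matrix.ProjectiveSpecialLinearGroup (Fin 2) F // Group.IsSolvable ↥(Subgroup.closure ({x, y} : Set (Matrix.ProjectiveSpecialLinearGroup (Fin 2) F)))} = 3 ^ p * (3 ^ p - 1)) ∧
    (x ≠ 1 → orderOf x ≠ 2 → orderOf x ∣ 3 ^ p + 1 → Nat.card {y : Matrix.ProjectiveSpecialLinearGroup (Fin 2) F // Group.IsSolvable ↥(Subgroup.closure ({x, y} : Set (Matrix.ProjectiveSpecialLinearGroup (Fin 2) F)))} = 3 ^ p + 1) := by
  classical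
  have hp1 : 1 ≤ p := hp.pos
  obtain ⟨k, hk⟩ := hodd
  have hq : Fintype.card F % 8 = 3 := by
    rw [hF, hk, pow_succ, pow_mul, Nat.mul_mod, Nat.pow_mod]
    norm_num
  have hq3 : Fintype.card F % 3 = 0 := by
    rw [hF, hk, pow_succ]
    exact Nat.mul_mod_left _ _
  have h3 : (3 : F) = 0 := by
    have : Fact (Nat.Prime 3) := ⟨Nat.prime_three⟩
    have : CharP F 3 := charP_of_card_eq_prime_pow hF
    have h := CharP.cast_eq_zero F 3
    exact_mod_cast h
  have h2 : (2 : F) ≠ 0 := Cfsg.Agent.Helper37.L3.two_ne_zero_of_mod hq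
  have hq1 : 3 ≤ Fintype.card F := by
    rcases Nat.lt_or_ge (Fintype.card F) 3 with h | h
    · interval_cases (Fintype.card F) <;> omega
    · exact h
  obtain ⟨x₀, rfl⟩ := QuotientGroup.mk_surjective x
  have hS := Cfsg.Agent.Helper37.L3.card_sol_quot h2 x₀
  have hone : (QuotientGroup.mk x₀ : Matrix.ProjectiveSpecialLinearGroup (Fin 2) F) = 1 ↔
      Cfsg.Agent.Helper37.L3.IsSc x₀ := by
    rw [QuotientGroup.eq_one_iff, Cfsg.Agent.Helper37.L3.mem_center_iff_isSc]
  have hpow : ∀ n : ℕ, (QuotientGroup.mk x₀ : Matrix.ProjectiveSpecialLinearGroup (Fin 2) F) ^ n = 1 ↔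
      Cfsg.Agent.Helper37.L3.IsSc (x₀ ^ n) := by
    intro n
    rw [← QuotientGroup.mk_pow, QuotientGroup.eq_one_iff,
      Cfsg.Agent.Helper37.L3.mem_center_iff_isSc]
  have hdvd2 : (QuotientGroup.mk x₀ : Matrix.ProjectiveSpecialLinearGroup (Fin 2) F) ≠ 1 →
      orderOf (QuotientGroup.mk x₀ : Matrix.ProjectiveSpecialLinearGroup (Fin 2) F) ≠ 2 →
      ¬ orderOf (QuotientGroup.mk x₀ : Matrix.ProjectiveSpecialLinearGroup (Fin 2) F) ∣ 2 := by
    intro hx1 hx2 hd
    rcases (Nat.dvd_prime Nat.prime_two).mp hd with h | h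
    · exact hx1 (orderOf_eq_one_iff.mp h)
    · exact hx2 h
  have hord : orderOf (QuotientGroup.mk x₀ : Matrix.ProjectiveSpecialLinearGroup (Fin 2) F) ∣
      Nat.card ↥(Subgroup.centralizer ({x₀} : Set (Matrix.SpecialLinearGroup (Fin 2) F))) := by
    have h1 : orderOf (QuotientGroup.mk x₀ : Matrix.ProjectiveSpecialLinearGroup (Fin 2) F) ∣
        orderOf x₀ :=
      orderOf_map_dvd (QuotientGroup.mk' (Subgroup.center (Matrix.SpecialLinearGroup (Fin 2) F))) x₀
    exact h1.trans (Subgroup.orderOf_dvd_natCard _ (Subgroup.mem_centralizer_singleton_iff.mpr rfl))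
  -- common reductions for the semisimple cases
  have hss : (QuotientGroup.mk x₀ : Matrix.ProjectiveSpecialLinearGroup (Fin 2) F) ≠ 1 →
      orderOf (QuotientGroup.mk x₀ : Matrix.ProjectiveSpecialLinearGroup (Fin 2) F) ≠ 2 →
      ¬ 3 ∣ orderOf (QuotientGroup.mk x₀ : Matrix.ProjectiveSpecialLinearGroup (Fin 2) F) →
      Cfsg.Agent.Helper37.L2.tr x₀ ≠ 0 ∧ Cfsg.Agent.Helper37.L2.tr x₀ ^ 2 ≠ 4 := by
    intro hx1 hx2 hn3
    constructor
    · intro h
      apply hdvd2 hx1 hx2
      apply orderOf_dvd_of_pow_eq_one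
      rw [hpow, pow_two, Cfsg.Agent.Helper37.L3.sq_eq_nOne_of_tr h]
      exact Cfsg.Agent.Helper37.L3.isSc_nOne
    · intro h
      have h1 : Cfsg.Agent.Helper37.L2.tr x₀ ^ 2 = 1 := by linear_combination h + h3
      have hc := Cfsg.Agent.Helper37.L3.isSc_cube_of_tr_sq h1
      have hd : orderOf (QuotientGroup.mk x₀ : Matrix.ProjectiveSpecialLinearGroup (Fin 2) F) ∣ 3 := by
        apply orderOf_dvd_of_pow_eq_one
        rw [hpow, pow_three']
        exact hc
      rcases (Nat.dvd_prime Nat.prime_three).mp hd with h' | h'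
      · exact hx1 (orderOf_eq_one_iff.mp h')
      · exact hn3 (by rw [h'])
  refine ⟨?_, ?_, ?_, ?_⟩
  · intro ho
    have hx1 : (QuotientGroup.mk x₀ : Matrix.ProjectiveSpecialLinearGroup (Fin 2) F) ≠ 1 := by
      intro h
      rw [h, orderOf_one] at ho
      omega
    have hsq : Cfsg.Agent.Helper37.L3.IsSc (x₀ * x₀) := by
      have h := pow_orderOf_eq_one
        (QuotientGroup.mk x₀ : Matrix.ProjectiveSpecialLinearGroup (Fin 2) F)
      rw [ho] at h
      rw [← pow_two]
      exact (hpow 2).mp h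
    have htr : Cfsg.Agent.Helper37.L2.tr x₀ = 0 :=
      (Cfsg.Agent.Helper37.L3.isSc_or_tr_of_sq h2 hsq).resolve_left (fun h => hx1 (hone.mpr h))
    have := Cfsg.Agent.Helper37.L3.card_sol_tr_zero hq hq3 h3 htr
    rw [hS, hF] at this
    apply Nat.eq_of_mul_eq_mul_left (by norm_num : 0 < 2)
    rw [this]; ring
  · intro ho
    have hx1 : (QuotientGroup.mk x₀ : Matrix.ProjectiveSpecialLinearGroup (Fin 2) F) ≠ 1 := by
      intro h
      rw [h, orderOf_one] at ho
      omega
    have hcube : Cfsg.Agent.Helper37.L3.IsSc (x₀ * x₀ * x₀) := by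
      have h := pow_orderOf_eq_one
        (QuotientGroup.mk x₀ : Matrix.ProjectiveSpecialLinearGroup (Fin 2) F)
      rw [ho] at h
      rw [← pow_three']
      exact (hpow 3).mp h
    have hns : ¬ Cfsg.Agent.Helper37.L3.IsSc x₀ := fun h => hx1 (hone.mpr h)
    have hτ1 := Cfsg.Agent.Helper37.L3.tr_sq_of_cube hns hcube
    have hτ : Cfsg.Agent.Helper37.L2.tr x₀ ^ 2 = 4 := by linear_combination hτ1 - h3
    have := Cfsg.Agent.Helper37.L3.card_sol_unip hq h3 hns hτ
    rw [hS, hF] at this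
    exact this
  · intro hx1 hx2 hd
    have hn3 : ¬ 3 ∣ orderOf (QuotientGroup.mk x₀ : Matrix.ProjectiveSpecialLinearGroup (Fin 2) F) := by
      intro h
      have := h.trans hd
      rw [← hF] at this
      omega
    obtain ⟨ht0, hτ⟩ := hss hx1 hx2 hn3
    rcases Cfsg.Agent.Helper37.L3.card_cen_rs hτ with ⟨-, hc⟩ | ⟨⟨a, ha⟩, -⟩
    · exfalso
      rw [hc, hF] at hord
      apply hdvd2 hx1 hx2
      have h := Nat.dvd_sub hord hd
      have e : 3 ^ p + 1 - (3 ^ p - 1) = 2 := by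
        have : 3 ≤ 3 ^ p := by rw [← hF]; exact hq1
        omega
      rwa [e] at h
    · have := Cfsg.Agent.Helper37.L3.card_sol_split hq hq3 hτ ht0 ha
      rw [hS, hF] at this
      apply Nat.eq_of_mul_eq_mul_left (by norm_num : 0 < 2)
      rw [this]; ring
  · intro hx1 hx2 hd
    have hn3 : ¬ 3 ∣ orderOf (QuotientGroup.mk x₀ : Matrix.ProjectiveSpecialLinearGroup (Fin 2) F) := by
      intro h
      have := h.trans hd
      rw [← hF] at this
      omega
    obtain ⟨ht0, hτ⟩ := hss hx1 hx2 hn3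
    rcases Cfsg.Agent.Helper37.L3.card_cen_rs hτ with ⟨-, hc⟩ | ⟨-, hc⟩
    · have := Cfsg.Agent.Helper37.L3.card_sol_ns hq hq3 hτ ht0 hc
      rw [hS, hF] at this
      apply Nat.eq_of_mul_eq_mul_left (by norm_num : 0 < 2)
      rw [this]
    · exfalso
      rw [hc, hF] at hord
      apply hdvd2 hx1 hx2
      have h := Nat.dvd_sub hd hord
      have e : 3 ^ p + 1 - (3 ^ p - 1) = 2 := by
        have : 3 ≤ 3 ^ p := by rw [← hF]; exact hq1
        omega
      rwa [e] at h

end Cfsg.Agent.S2258
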