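import Cfsg.Statements.S2260
import Mathlib

set_option autoImplicit false
open Cfsg

namespace Cfsg.Agent.S2260

lemma nilp_pow_card {F : Type*} [Field F] (d : ℕ) (N : Matrix (Fin d) (Fin d) F)
    (hN : IsNilpotent N) : N ^ d = 0 := by
  have h1 : N.charpoly = Polynomial.X ^ d := by
    have := Matrix.isNilpotent_charpoly_sub_pow_of_isNilpotent hN
    have h2 := this.eq_zero
    rw [Fintype.card_fin] at h2
    exact sub_eq_zero.mp h2
  have h3 := Matrix.aeval_self_charpoly N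
  rw [h1] at h3
  simpa using h3

lemma pow_sub_one {F : Type*} [Field F] (p : ℕ) [Fact p.Prime] [CharP F p] (d : ℕ)
    (M : Matrix (Fin d) (Fin d) F) (k : ℕ) : (M - 1) ^ p ^ k = M ^ p ^ k - 1 := by
  rcases Nat.eq_zero_or_pos d with h | h
  · subst h
    exact Subsingleton.elim _ _
  · haveI : Nonempty (Fin d) := ⟨⟨0, h⟩⟩
    rw [sub_pow_char_pow_of_commute p k (Commute.one_right M), one_pow]

theorem result {F : Type*} [Field F] [Finite F] (p : ℕ) [Fact p.Prime] [CharP F p] (d : ℕ)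
    (u : GL (Fin d) F) (hu : IsNilpotent ((u : Matrix (Fin d) (Fin d) F) - 1)) :
    orderOf u ≤ p ^ Nat.clog p d ∧
    (((u : Matrix (Fin d) (Fin d) F) - 1) ^ (d - 1) ≠ 0 → orderOf u = p ^ Nat.clog p d) := by
  have hp : p.Prime := Fact.out
  have hp1 : 1 < p := hp.one_lt
  have hNd := nilp_pow_card d _ hu
  -- key: u ^ p^k = 1 ↔ (u-1)^(p^k) = 0
  have key : ∀ k : ℕ, u ^ p ^ k = 1 ↔ ((u : Matrix (Fin d) (Fin d) F) - 1) ^ p ^ k = 0 := by
    intro k
    rw [pow_sub_one p d _ k, sub_eq_zero]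
    constructor
    · intro h
      have := congrArg (fun x : GL (Fin d) F => (x : Matrix (Fin d) (Fin d) F)) h
      simpa using this
    · intro h
      apply Units.ext
      simpa using h
  have hle : d ≤ p ^ Nat.clog p d := Nat.le_pow_clog hp1 d
  have h1 : u ^ p ^ Nat.clog p d = 1 := by
    rw [key]
    obtain ⟨e, he⟩ := Nat.exists_eq_add_of_le hle
    rw [he, pow_add, hNd, zero_mul]
  have hdvd : orderOf u ∣ p ^ Nat.clog p d := orderOf_dvd_of_pow_eq_one h1
  refine ⟨Nat.le_of_dvd (pow_pos hp.pos _) hdvd, ?_⟩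
  intro hne
  obtain ⟨j, hj, hoj⟩ := (Nat.dvd_prime_pow hp).mp hdvd
  rcases Nat.lt_or_ge j (Nat.clog p d) with hlt | hge
  · exfalso
    have h2 : p ^ j < d := (Nat.lt_clog_iff_pow_lt hp1).mp hlt
    have h3 : u ^ p ^ j = 1 := by rw [← hoj]; exact pow_orderOf_eq_one u
    rw [key] at h3
    apply hne
    obtain ⟨e, he⟩ := Nat.exists_eq_add_of_le (Nat.le_sub_one_of_lt h2)
    rw [he, pow_add, h3, zero_mul]
  · have : j = Nat.clog p d := le_antisymm hj hge
    rw [hoj, this]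

end Cfsg.Agent.S2260
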