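import Cfsg.Statements.S2261
import Mathlib

set_option autoImplicit false
open Cfsg

namespace Cfsg.Agent.S2261

open Polynomial

/-- all powers of a `d × d` matrix lie in the span of the first `d` powers -/
lemma pow_mem_span {F : Type*} [Field F] (d : ℕ) (A : Matrix (Fin d) (Fin d) F) (k : ℕ) :
    A ^ k ∈ Submodule.span F (Set.range (fun i : Fin d => A ^ (i : ℕ))) := by
  set χ := A.charpoly with hχ
  have hmonic : χ.Monic := Matrix.charpoly_monic A
  have hdeg : χ.natDegree = d := by
    rw [hχ, Matrix.charpoly_natDegree_eq_dim, Fintype.card_fin]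
  have h0 : aeval A χ = 0 := Matrix.aeval_self_charpoly A
  have h1 : A ^ k = aeval A ((X : F[X]) ^ k %ₘ χ) := by
    have := Polynomial.modByMonic_add_div ((X : F[X]) ^ k) χ
    have h2 := congrArg (aeval A) this
    rw [map_add, map_mul, h0, zero_mul, add_zero] at h2
    rw [h2]; simp
  rw [h1]
  rcases Nat.eq_zero_or_pos d with hd | hd
  · subst hd
    have : aeval A ((X : F[X]) ^ k %ₘ χ) = 0 := Subsingleton.elim _ _
    rw [this]; exact Submodule.zero_mem _
  have hlt : ((X : F[X]) ^ k %ₘ χ).natDegree < d := by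
    rw [← hdeg]
    apply Polynomial.natDegree_modByMonic_lt _ hmonic
    intro h
    rw [h] at hdeg
    simp at hdeg
    omega
  rw [Polynomial.aeval_eq_sum_range' hlt]
  apply Submodule.sum_mem
  intro i hi
  apply Submodule.smul_mem
  apply Submodule.subset_span
  exact ⟨⟨i, Finset.mem_range.mp hi⟩, rfl⟩

theorem part1 {F : Type*} [Field F] [Fintype F] (d : ℕ) (hd : 1 ≤ d) (g : GL (Fin d) F) :
    (Fintype.card F - 1) *
      orderOf (QuotientGroup.mk g : GL (Fin d) F ⧸ Subgroup.center (GL (Fin d) F))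
      ≤ Fintype.card F ^ d - 1 := by
  classical
  haveI : Nonempty (Fin d) := ⟨⟨0, hd⟩⟩
  set Z := Subgroup.center (GL (Fin d) F) with hZ
  set n := orderOf (QuotientGroup.mk g : GL (Fin d) F ⧸ Z) with hn
  have hnpos : 0 < n := orderOf_pos _
  set A : Matrix (Fin d) (Fin d) F := (g : Matrix (Fin d) (Fin d) F) with hA
  set W := Submodule.span F (Set.range (fun i : Fin d => A ^ (i : ℕ))) with hW
  -- the map
  have hmem : ∀ (c : Fˣ) (i : ℕ), (c : F) • A ^ i ∈ W := fun c i =>
    Submodule.smul_mem _ _ (pow_mem_span d A i)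
  have hval : ∀ (c : Fˣ) (i : ℕ), (c : F) • A ^ i =
      ((Matrix.GeneralLinearGroup.scalar (Fin d) c * g ^ i : GL (Fin d) F) : Matrix (Fin d) (Fin d) F) := by
    intro c i
    simp [Matrix.GeneralLinearGroup.coe_scalar, hA, Matrix.scalar_apply, Matrix.smul_eq_diagonal_mul]
  have hne : ∀ (c : Fˣ) (i : ℕ), (⟨(c : F) • A ^ i, hmem c i⟩ : W) ≠ 0 := by
    intro c i h
    have h2 : (c : F) • A ^ i = 0 := congrArg Subtype.val h
    rw [hval] at h2
    exact (Matrix.GeneralLinearGroup.scalar (Fin d) c * g ^ i).ne_zero h2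
  let Ψ : Fˣ × Fin n → {w : W // w ≠ 0} := fun x => ⟨⟨(x.1 : F) • A ^ (x.2 : ℕ), hmem _ _⟩, hne _ _⟩
  have hinj : Function.Injective Ψ := by
    rintro ⟨c, i⟩ ⟨c', j⟩ h
    have h1 : (c : F) • A ^ (i : ℕ) = (c' : F) • A ^ (j : ℕ) := by
      have := congrArg (fun w : {w : W // w ≠ 0} => ((w : W) : Matrix (Fin d) (Fin d) F)) h
      exact this
    rw [hval, hval] at h1
    have h2 : Matrix.GeneralLinearGroup.scalar (Fin d) c * g ^ (i : ℕ) =
        Matrix.GeneralLinearGroup.scalar (Fin d) c' * g ^ (j : ℕ) := Units.ext h1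
    have hcZ : ∀ c : Fˣ, Matrix.GeneralLinearGroup.scalar (Fin d) c ∈ Z := by
      intro c
      rw [hZ, Matrix.GeneralLinearGroup.center_eq_range_scalar]
      exact ⟨c, rfl⟩
    have h3 := congrArg (QuotientGroup.mk (s := Z)) h2
    rw [QuotientGroup.mk_mul, QuotientGroup.mk_mul, (QuotientGroup.eq_one_iff _).mpr (hcZ c),
      (QuotientGroup.eq_one_iff _).mpr (hcZ c'), one_mul, one_mul, QuotientGroup.mk_pow,
      QuotientGroup.mk_pow, pow_eq_pow_iff_modEq] at h3
    have hij : (i : ℕ) = (j : ℕ) := by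
      have := Nat.ModEq.eq_of_lt_of_lt h3 i.2 j.2
      exact this
    have hij' : i = j := Fin.ext hij
    subst hij'
    have h4 : Matrix.GeneralLinearGroup.scalar (Fin d) c = Matrix.GeneralLinearGroup.scalar (Fin d) c' :=
      mul_right_cancel h2
    have h5 := congrArg (fun x : GL (Fin d) F => (x : Matrix (Fin d) (Fin d) F) ⟨0, hd⟩ ⟨0, hd⟩) h4
    simp [Matrix.GeneralLinearGroup.coe_scalar] at h5
    have : c = c' := Units.ext h5
    rw [this]
  have hcard := Fintype.card_le_of_injective Ψ hinj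
  rw [Fintype.card_prod, Fintype.card_units, Fintype.card_fin] at hcard
  have hW2 : Fintype.card {w : W // w ≠ 0} = Fintype.card W - 1 := by
    rw [Fintype.card_subtype_compl, Fintype.card_subtype_eq]
  have hW3 : Fintype.card W = Fintype.card F ^ Module.finrank F W := Module.card_eq_pow_finrank
  have hW4 : Module.finrank F W ≤ d := by
    have := finrank_range_le_card (R := F) (fun i : Fin d => A ^ (i : ℕ))
    rw [Fintype.card_fin] at this
    exact this
  rw [hW2, hW3] at hcard
  calc (Fintype.card F - 1) * n ≤ Fintype.card F ^ Module.finrank F W - 1 := hcard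
    _ ≤ Fintype.card F ^ d - 1 := by
      apply Nat.sub_le_sub_right
      exact Nat.pow_le_pow_right Fintype.card_pos hW4


theorem part2 {F : Type*} [Field F] [Fintype F] (d : ℕ) (hd : 1 ≤ d) :
    ∃ g : GL (Fin d) F, Fintype.card F ^ d - 1 ≤ (Fintype.card F - 1) *
      orderOf (QuotientGroup.mk g : GL (Fin d) F ⧸ Subgroup.center (GL (Fin d) F)) := by
  classical
  haveI : Nonempty (Fin d) := ⟨⟨0, hd⟩⟩
  set p := ringChar F with hp
  haveI : CharP F p := ringChar.charP F
  haveI : Fact p.Prime := ⟨CharP.char_is_prime F p⟩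
  haveI : NeZero d := ⟨by omega⟩
  let K := FiniteField.Extension F p d
  have hfr : Module.finrank F K = d := FiniteField.finrank_extension F p d
  let b : Module.Basis (Fin d) F K := Module.finBasisOfFinrankEq F K hfr
  let f : K →ₐ[F] Matrix (Fin d) (Fin d) F := Algebra.leftMulMatrix b
  have hf : Function.Injective f := Algebra.leftMulMatrix_injective b
  let fU : Kˣ →* GL (Fin d) F := Units.map (f : K →* Matrix (Fin d) (Fin d) F)
  have hfU : Function.Injective fU := Units.map_injective hf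
  haveI : Fintype K := Fintype.ofFinite K
  obtain ⟨ζ, hζ⟩ := IsCyclic.exists_generator (α := Kˣ)
  have hoζ : orderOf ζ = Fintype.card F ^ d - 1 := by
    rw [orderOf_eq_card_of_forall_mem_zpowers hζ, Nat.card_units, FiniteField.natCard_extension,
      Nat.card_eq_fintype_card]
  set M := fU ζ with hM
  have hoM : orderOf M = Fintype.card F ^ d - 1 := by
    rw [hM, orderOf_injective fU hfU, hoζ]
  refine ⟨M, ?_⟩
  set Z := Subgroup.center (GL (Fin d) F) with hZ
  set n := orderOf (QuotientGroup.mk M : GL (Fin d) F ⧸ Z) with hn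
  have hnpos : 0 < n := orderOf_pos _
  have h1 : (QuotientGroup.mk M : GL (Fin d) F ⧸ Z) ^ n = 1 := pow_orderOf_eq_one _
  rw [← QuotientGroup.mk_pow, QuotientGroup.eq_one_iff, hZ,
    Matrix.GeneralLinearGroup.center_eq_range_scalar] at h1
  obtain ⟨c, hc⟩ := h1
  have h2 : M ^ (n * (Fintype.card F - 1)) = 1 := by
    rw [pow_mul, ← hc, ← map_pow, ← Fintype.card_units, pow_card_eq_one, map_one]
  have h3 : orderOf M ∣ n * (Fintype.card F - 1) := orderOf_dvd_of_pow_eq_one h2
  rw [hoM] at h3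
  have hq : 0 < Fintype.card F - 1 := by
    have := Fintype.one_lt_card (α := F)
    omega
  rw [mul_comm]
  exact Nat.le_of_dvd (Nat.mul_pos hnpos hq) h3

theorem result {F : Type*} [Field F] [Fintype F] (d : ℕ) (hd : 1 ≤ d) :
    (∀ g : (GL (Fin d) F ⧸ Subgroup.center (GL (Fin d) F)), (Fintype.card F - 1) * orderOf g ≤ Fintype.card F ^ d - 1) ∧
    (∃ g : (GL (Fin d) F ⧸ Subgroup.center (GL (Fin d) F)), (Fintype.card F - 1) * orderOf g = Fintype.card F ^ d - 1) := by
  constructor
  · intro g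
    obtain ⟨g', rfl⟩ := QuotientGroup.mk_surjective g
    exact part1 d hd g'
  · obtain ⟨g, hg⟩ := part2 (F := F) d hd
    exact ⟨QuotientGroup.mk g, le_antisymm (part1 d hd g) hg⟩

end Cfsg.Agent.S2261
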