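import Cfsg.Statements.S2268
import Mathlib

set_option autoImplicit false
open Cfsg

namespace Cfsg.Agent.S2268

open Subgroup MulAction

theorem result {G : Type*} [Group G] [Finite G] {p : ℕ} [Fact p.Prime]
    (P : Sylow p G) (hP : IsMulCommutative (P : Subgroup G)) (Q : Subgroup G) (hQ : Q ≤ (P : Subgroup G)) :
    Subgroup.normalizer (Q : Set G) =
      (Subgroup.normalizer (Q : Set G) ⊓ Subgroup.normalizer ((P : Subgroup G) : Set G)) ⊔ Subgroup.centralizer (Q : Set G) ∧
    ((Subgroup.centralizer (Q : Set G)).subgroupOf (Subgroup.normalizer (Q : Set G))).index ∣ ((Subgroup.centralizer ((P : Subgroup G) : Set G)).subgroupOf (Subgroup.normalizer ((P : Subgroup G) : Set G))).index := by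
  have hcomm : ∀ a ∈ (P : Subgroup G), ∀ b ∈ (P : Subgroup G), a * b = b * a := by
    intro a ha b hb
    have := hP.is_comm.comm (⟨a, ha⟩ : (P : Subgroup G)) ⟨b, hb⟩
    exact congrArg Subtype.val this
  have h1 : (P : Subgroup G) ≤ centralizer (Q : Set G) := by
    intro x hx y hy
    exact hcomm y (hQ hy) x hx
  have hCPQ : centralizer ((P : Subgroup G) : Set G) ≤ centralizer (Q : Set G) :=
    centralizer_le (by exact_mod_cast hQ)
  have hCN : centralizer (Q : Set G) ≤ normalizer (Q : Set G) := centralizer_le_normalizer _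
  have part1 : Subgroup.normalizer (Q : Set G) =
      (Subgroup.normalizer (Q : Set G) ⊓ Subgroup.normalizer ((P : Subgroup G) : Set G)) ⊔ Subgroup.centralizer (Q : Set G) := by
    apply le_antisymm
    · intro g hg
      have h2 : ↑(g • P) ≤ centralizer (Q : Set G) := by
        rintro - ⟨z, hz, rfl⟩
        intro y hy
        -- y ∈ Q, need y * (g z g⁻¹) = (g z g⁻¹) * y
        have hy' : g⁻¹ * y * g ∈ Q := by
          have := (mem_normalizer_iff (H := Q)).mp (inv_mem hg) y
          simpa using this.mp hy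
        have := h1 hz (g⁻¹ * y * g) hy'
        simp only [MulAut.smul_def, MulAut.conj_apply, MulDistribMulAction.toMonoidEnd_apply,
          MulDistribMulAction.toMonoidHom_apply]
        calc y * (g * z * g⁻¹) = g * ((g⁻¹ * y * g) * z) * g⁻¹ := by group
          _ = g * (z * (g⁻¹ * y * g)) * g⁻¹ := by rw [this]
          _ = g * z * g⁻¹ * y := by group
      obtain ⟨h, hh⟩ :=
        exists_smul_eq (centralizer (Q : Set G)) ((g • P).subtype h2) (P.subtype h1)
      simp_rw [Sylow.smul_subtype, Subgroup.smul_def, smul_smul] at hh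
      have hhg : (h : G) * g ∈ normalizer ((P : Subgroup G) : Set G) :=
        Sylow.smul_eq_iff_mem_normalizer.mp (Sylow.subtype_injective hh)
      have : g = (h : G)⁻¹ * ((h : G) * g) := by group
      rw [this]
      apply mul_mem
      · exact mem_sup_right (inv_mem h.2)
      · apply mem_sup_left
        exact ⟨mul_mem (hCN h.2) hg, hhg⟩
    · exact sup_le inf_le_left hCN
  refine ⟨part1, ?_⟩
  set NQ := normalizer (Q : Set G) with hNQ
  set NP := normalizer ((P : Subgroup G) : Set G) with hNP
  set CQ := centralizer (Q : Set G) with hCQ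
  set CP := centralizer ((P : Subgroup G) : Set G) with hCP
  change CQ.relIndex NQ ∣ CP.relIndex NP
  have e1 : CQ.relIndex NQ = CQ.relIndex (NQ ⊓ NP) := by
    have hA : NQ ⊓ NP ≤ NQ := inf_le_left
    have e0 : CQ.relIndex NQ = (CQ.subgroupOf NQ).relIndex ((NQ ⊓ NP ⊔ CQ).subgroupOf NQ) := by
      rw [← part1, relIndex_subgroupOf le_rfl]
    rw [e0, subgroupOf_sup hA hCN]
    have : (CQ.subgroupOf NQ).Normal := normal_subgroupOf_centralizer_normalizer _
    rw [relIndex_sup_right, relIndex_subgroupOf hA]
  have e2 : CQ.relIndex (NQ ⊓ NP) ∣ CP.relIndex (NQ ⊓ NP) := relIndex_dvd_of_le_left _ hCPQ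
  have e3 : CP.relIndex (NQ ⊓ NP) ∣ CP.relIndex NP := by
    have hA : NQ ⊓ NP ≤ NP := inf_le_right
    rw [← relIndex_subgroupOf hA]
    have : (CP.subgroupOf NP).Normal := normal_subgroupOf_centralizer_normalizer _
    exact relIndex_dvd_index_of_normal _ _
  rw [e1]
  exact e2.trans e3

end Cfsg.Agent.S2268
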