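import Cfsg.Statements.S5164
import Cfsg.Agent.S3835

set_option autoImplicit false
open Cfsg

namespace Cfsg.Agent.S5164

open Cfsg.Agent.S3835 Cfsg.Agent.Helper63

/-- the homomorphism `ℤˣ → Perm (Fin 2)` sending `-1` to the transposition -/
def signSwap : ℤˣ →* Equiv.Perm (Fin 2) where
  toFun u := if u = 1 then 1 else Equiv.swap 0 1
  map_one' := by simp
  map_mul' u v := by
    rcases Int.units_eq_one_or u with rfl | rfl <;> rcases Int.units_eq_one_or v with rfl | rfl <;>
      simp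

lemma sign_signSwap (u : ℤˣ) : Equiv.Perm.sign (signSwap u) = u := by
  rcases Int.units_eq_one_or u with rfl | rfl
  · simp [signSwap]
  · have : (-1 : ℤˣ) ≠ 1 := by decide
    simp [signSwap, this]

/-- `S_k` embeds in `A_{k+2}` -/
def toAlt (α : Type*) [Fintype α] [DecidableEq α] : Equiv.Perm α →* Equiv.Perm (α ⊕ Fin 2) :=
  (Equiv.Perm.sumCongrHom α (Fin 2)).comp
    (MonoidHom.prod (MonoidHom.id _) (signSwap.comp Equiv.Perm.sign))

lemma sign_toAlt {α : Type*} [Fintype α] [DecidableEq α] (σ : Equiv.Perm α) :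
    Equiv.Perm.sign (toAlt α σ) = 1 := by
  show Equiv.Perm.sign (Equiv.sumCongr σ (signSwap (Equiv.Perm.sign σ))) = 1
  rw [Equiv.Perm.sign_sumCongr, sign_signSwap, Int.units_mul_self]

lemma toAlt_injective {α : Type*} [Fintype α] [DecidableEq α] :
    Function.Injective (toAlt α) := by
  intro σ τ h
  have h' := Equiv.Perm.sumCongrHom_injective h
  exact congrArg Prod.fst h'

lemma exists_alt_hom {G β : Type*} [Group G] [Fintype β] [DecidableEq β] (n : ℕ)
    (hβ : Fintype.card β ≤ n) (ψ0 : G →* Equiv.Perm β) (hinj : Function.Injective ψ0)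
    (hsign : ∀ g, Equiv.Perm.sign (ψ0 g) = 1) :
    ∃ ψ : G →* alternatingGroup (Fin n), Function.Injective ψ := by
  classical
  let ι : β ↪ Fin n :=
    (Fintype.equivFinOfCardEq rfl).toEmbedding.trans (Fin.castLEEmb hβ)
  let f : β ≃ {x : Fin n // x ∈ Set.range ι} := Equiv.ofInjective ι ι.2
  let ψ1 : G →* Equiv.Perm (Fin n) := (Equiv.Perm.extendDomainHom f).comp ψ0
  have h0 : ∀ M, ψ1 M ∈ alternatingGroup (Fin n) := by
    intro M
    rw [Equiv.Perm.mem_alternatingGroup]
    show Equiv.Perm.sign (Equiv.Perm.extendDomain (ψ0 M) f) = 1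
    rw [Equiv.Perm.sign_extendDomain, hsign]
  refine ⟨ψ1.codRestrict _ h0, ?_⟩
  intro M N h
  have h' : ψ1 M = ψ1 N := congrArg Subtype.val h
  exact hinj (Equiv.Perm.extendDomainHom_injective f h')

lemma exists_Aff_hom (n p : ℕ) [Fact p.Prime] (hn : 6 ≤ n) (hp : p ^ 2 ≤ n) :
    ∃ ψ : Aff p →* alternatingGroup (Fin n), Function.Injective ψ := by
  classical
  by_cases hp2 : p = 2
  · subst hp2
    apply exists_alt_hom n (β := Plane 2 ⊕ Fin 2) ?_ ((toAlt (Plane 2)).comp (phi 2))
      (toAlt_injective.comp phi_injective) (fun g => sign_toAlt _)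
    rw [Fintype.card_sum, ← Nat.card_eq_fintype_card, card_plane]
    simpa using hn
  · exact exists_embedding hp2 n hp

/-- For n ≥ 6 and a prime p, a nontrivial Sylow p-subgroup of the alternating group of degree n is abelian if and only if n < p². -/
theorem result (n p : ℕ) (hn : 6 ≤ n) [Fact p.Prime] (S : Sylow p (alternatingGroup (Fin n))) (hS : (S : Subgroup (alternatingGroup (Fin n))) ≠ ⊥) : IsMulCommutative S ↔ n < p ^ 2 := by
  constructor
  · intro hcomm
    by_contra hlt
    push Not at hlt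
    obtain ⟨ψ, hψ⟩ := exists_Aff_hom n p hn hlt
    obtain ⟨x, y, hxy⟩ := UT_not_comm (p := p)
    let θ : Heis 1 (ZMod p) →* alternatingGroup (Fin n) := ψ.comp (UT p)
    have hU : IsPGroup p θ.range := by
      have h1 : IsPGroup p (Heis 1 (ZMod p)) :=
        IsPGroup.of_card (n := 1 + 2 * 1) (Heis.card_zmod p)
      exact h1.of_surjective θ.rangeRestrict θ.rangeRestrict_surjective
    obtain ⟨Q, hQ⟩ := hU.exists_le_sylow
    obtain ⟨g, hg⟩ := MulAction.exists_smul_eq (alternatingGroup (Fin n)) Q S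
    have hmem : ∀ z : Heis 1 (ZMod p), g * θ z * g⁻¹ ∈ (S : Subgroup (alternatingGroup (Fin n))) := by
      intro z
      rw [← hg, Sylow.coe_subgroup_smul]
      have : θ z ∈ (Q : Subgroup (alternatingGroup (Fin n))) := hQ ⟨z, rfl⟩
      have h2 := Subgroup.smul_mem_pointwise_smul (θ z) (MulAut.conj g) _ this
      simpa [MulAut.smul_def] using h2
    have hc := hcomm.is_comm.comm (⟨_, hmem x⟩ : S) ⟨_, hmem y⟩
    have hc' : (g * θ x * g⁻¹) * (g * θ y * g⁻¹) = (g * θ y * g⁻¹) * (g * θ x * g⁻¹) :=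
      congrArg Subtype.val hc
    apply hxy
    apply hψ
    rw [map_mul, map_mul]
    show θ x * θ y = θ y * θ x
    have e1 : (g * θ x * g⁻¹) * (g * θ y * g⁻¹) = g * (θ x * θ y) * g⁻¹ := by group
    have e2 : (g * θ y * g⁻¹) * (g * θ x * g⁻¹) = g * (θ y * θ x) * g⁻¹ := by group
    rw [e1, e2] at hc'
    exact mul_left_cancel (mul_right_cancel hc')
  · intro hlt
    let ι : alternatingGroup (Fin n) →* Equiv.Perm (Fin n) := (alternatingGroup (Fin n)).subtype
    have hPg : IsPGroup p ((S : Subgroup (alternatingGroup (Fin n))).map ι) := S.2.map ι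
    refine ⟨⟨fun a b => ?_⟩⟩
    have := comm_of_pgroup_small _ hPg (by simpa using hlt)
      ⟨ι a, Subgroup.mem_map_of_mem ι a.2⟩ ⟨ι b, Subgroup.mem_map_of_mem ι b.2⟩
    have h2 : ι a * ι b = ι b * ι a := congrArg Subtype.val this
    apply Subtype.ext
    apply Subtype.ext
    exact h2

end Cfsg.Agent.S5164
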