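import Cfsg.Statements.S2269
-- import your own Cfsg.Agent.* helpers here
import Cfsg.Agent.S5164
import Cfsg.Agent.Lib.Helper57.Alt5Syl

set_option autoImplicit false
open Cfsg

namespace Cfsg.Agent.S2269

/-- Let n ≥ 5 and let P be an abelian Sylow p-subgroup of the alternating group A_n. Then N(P)/C(P) (taken in A_n) has even order, or P is cyclic, except when n = 5 and p = 2, where P is a four-group and N(P)/C(P) has order 3. -/
theorem result (n : ℕ) (hn : 5 ≤ n) {p : ℕ} [Fact p.Prime]
    (P : Sylow p (alternatingGroup (Fin n))) (hP : IsMulCommutative (P : Subgroup (alternatingGroup (Fin n)))) :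
    (¬ (n = 5 ∧ p = 2) → 2 ∣ ((Subgroup.centralizer ((P : Subgroup (alternatingGroup (Fin n))) : Set (alternatingGroup (Fin n)))).subgroupOf (Subgroup.normalizer ((P : Subgroup (alternatingGroup (Fin n))) : Set (alternatingGroup (Fin n))))).index ∨ IsCyclic (P : Subgroup (alternatingGroup (Fin n)))) ∧
    ((n = 5 ∧ p = 2) → ((Subgroup.centralizer ((P : Subgroup (alternatingGroup (Fin n))) : Set (alternatingGroup (Fin n)))).subgroupOf (Subgroup.normalizer ((P : Subgroup (alternatingGroup (Fin n))) : Set (alternatingGroup (Fin n))))).index = 3 ∧ IsKleinFour (P : Subgroup (alternatingGroup (Fin n)))) := by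
  have hp := (Fact.out : p.Prime)
  constructor
  · intro hne
    by_cases hp2 : p = 2
    · -- p = 2, n ≥ 6
      right
      subst hp2
      have hn6 : 6 ≤ n := by
        rcases Nat.lt_or_ge n 6 with h | h
        · exact absurd ⟨by omega, rfl⟩ hne
        · exact h
      by_cases hbot : (P : Subgroup (alternatingGroup (Fin n))) = ⊥
      · have : Subsingleton (P : Subgroup (alternatingGroup (Fin n))) := by
          rw [hbot]; infer_instance
        exact isCyclic_of_subsingleton
      · exfalso
        have := (Cfsg.Agent.S5164.result n 2 hn6 P hbot).mp hP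
        omega
    · by_cases h2p : n < 2 * p
      · right
        have hn2 : n < p ^ 2 := by
          have : 2 * p ≤ p * p := Nat.mul_le_mul_right p hp.two_le
          rw [pow_two]; omega
        have hcard : Nat.card (P : Subgroup (alternatingGroup (Fin n))) = p ^ (n / p) := by
          have := P.card_eq_multiplicity
          rwa [Cfsg.Agent.Helper57.card_alt_factorization n p hp hp2 (by omega) hn2] at this
        have hnp : n / p ≤ 1 := by
          have : n / p < 2 := (Nat.div_lt_iff_lt_mul hp.pos).mpr (by omega)
          omega
        interval_cases h : (n / p)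
        · rw [pow_zero] at hcard
          have : Subsingleton (P : Subgroup (alternatingGroup (Fin n))) :=
            (Nat.card_eq_one_iff_unique.mp hcard).1
          exact isCyclic_of_subsingleton
        · rw [pow_one] at hcard
          exact isCyclic_of_prime_card hcard
      · left
        push Not at h2p
        have hp3 : 3 ≤ p := by
          have := hp.two_le
          omega
        obtain ⟨y, g, hy, hg⟩ :=
          Cfsg.Agent.Helper57.exists_real_order_p n p hp hp2 (by omega)
        have hzp : IsPGroup p (Subgroup.zpowers y) :=
          IsPGroup.of_card (n := 1) (by rw [Nat.card_zpowers, hy, pow_one])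
        obtain ⟨Q, hQ⟩ := hzp.exists_le_sylow
        obtain ⟨c, hc⟩ := MulAction.exists_smul_eq (alternatingGroup (Fin n)) Q P
        have hyQ : y ∈ Q := hQ (Subgroup.mem_zpowers y)
        have hxP : c * y * c⁻¹ ∈ P := by
          rw [← hc]
          exact Cfsg.Agent.Helper57.conj_mem_smul_sylow c y Q hyQ
        have hxo : orderOf (c * y * c⁻¹) = p := by
          rw [← hy]
          exact (MulAut.conj c).orderOf_eq y
        apply Cfsg.Agent.Helper57.even_index_of_real P hP (c * y * c⁻¹) (c * g * c⁻¹) hxP
        · rw [hxo]; exact hp.odd_of_ne_two hp2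
        · intro h1
          rw [h1, orderOf_one] at hxo
          exact hp.one_lt.ne hxo
        · have : c * g * c⁻¹ * (c * y * c⁻¹) * (c * g * c⁻¹)⁻¹ = c * (g * y * g⁻¹) * c⁻¹ := by group
          rw [this, hg]; group
  · rintro ⟨rfl, rfl⟩
    exact Cfsg.Agent.Helper57.alt5_sylow2 P

end Cfsg.Agent.S2269
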