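import Cfsg.Statements.S2270
import Mathlib

set_option autoImplicit false
open Cfsg

namespace Cfsg.Agent.S2270

open Subgroup

lemma even_relIndex {G : Type*} [Group G] [Finite G] (P : Subgroup G) (x t : G) (hx : x ∈ P)
    (ht : t ∈ normalizer (P : Set G)) (hconj : t⁻¹ * x * t = x⁻¹) (hne : x ≠ x⁻¹) :
    2 ∣ ((centralizer (P : Set G)).subgroupOf (normalizer (P : Set G))).index := by
  set N := normalizer (P : Set G) with hN
  set K := (centralizer (P : Set G)).subgroupOf N with hK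
  haveI : K.Normal := normal_subgroupOf_centralizer_normalizer _
  let t' : N := ⟨t, ht⟩
  set m := orderOf (QuotientGroup.mk t' : N ⧸ K) with hm
  have hdvd : m ∣ K.index := by
    rw [Subgroup.index_eq_card]
    exact orderOf_dvd_natCard _
  refine Dvd.dvd.trans ?_ hdvd
  by_contra hodd
  have hodd' : Odd m := Nat.not_even_iff_odd.mp (fun h => hodd (even_iff_two_dvd.mp h))
  obtain ⟨j, hj⟩ := hodd'
  have h1 : (QuotientGroup.mk t' : N ⧸ K) ^ m = 1 := pow_orderOf_eq_one _
  rw [← QuotientGroup.mk_pow, QuotientGroup.eq_one_iff] at h1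
  have h2 : t ^ m ∈ centralizer (P : Set G) := by
    have := (mem_subgroupOf).mp h1
    simpa [t'] using this
  have h3 : x * t ^ m = t ^ m * x := h2 x hx
  -- t^2 commutes with x
  have hc2 : Commute (t ^ 2) x := by
    have e1 : t⁻¹ * x⁻¹ * t = x := by
      have := congrArg (fun y => y⁻¹) hconj
      simp only [mul_inv_rev, inv_inv] at this
      rw [mul_assoc]; exact this
    have : (t ^ 2)⁻¹ * x * t ^ 2 = x := by
      calc (t ^ 2)⁻¹ * x * t ^ 2 = t⁻¹ * (t⁻¹ * x * t) * t := by simp [pow_two, mul_assoc]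
        _ = t⁻¹ * x⁻¹ * t := by rw [hconj]
        _ = x := e1
    have h4 : x * t ^ 2 = t ^ 2 * x := by
      calc x * t ^ 2 = t ^ 2 * ((t ^ 2)⁻¹ * x * t ^ 2) := by simp [mul_assoc]
        _ = t ^ 2 * x := by rw [this]
    exact h4.symm
  have hc2j : Commute (t ^ (2 * j)) x := by
    rw [pow_mul]; exact hc2.pow_left j
  apply hne
  have h5 : t ^ m = t ^ (2 * j) * t := by rw [hj, pow_succ]
  rw [h5] at h3
  -- x * (t^(2j) * t) = t^(2j) * t * x
  have h6 : t⁻¹ * x * t = x := by
    have e : x * (t ^ (2 * j) * t) = t ^ (2 * j) * (x * t) := by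
      rw [← mul_assoc, ← hc2j.eq, mul_assoc]
    rw [e, mul_assoc] at h3
    have h7 : x * t = t * x := mul_left_cancel h3
    rw [mul_assoc, h7]; simp
  rw [← hconj, h6]

theorem result (n : ℕ) (hn : 3 ≤ n) {p : ℕ} [Fact p.Prime] (hp : p ≠ 2) (hpn : p ≤ n)
    (P : Sylow p (Equiv.Perm (Fin n))) (hP : IsMulCommutative (P : Subgroup (Equiv.Perm (Fin n)))) :
    2 ∣ ((Subgroup.centralizer ((P : Subgroup (Equiv.Perm (Fin n))) : Set (Equiv.Perm (Fin n)))).subgroupOf (Subgroup.normalizer ((P : Subgroup (Equiv.Perm (Fin n))) : Set (Equiv.Perm (Fin n))))).index := by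
  have hpp : p.Prime := Fact.out
  -- p divides card of the Sylow subgroup
  have hdvd : p ∣ Nat.card (Equiv.Perm (Fin n)) := by
    rw [Nat.card_eq_fintype_card, Fintype.card_perm, Fintype.card_fin]
    exact (Nat.Prime.dvd_factorial hpp).mpr hpn
  have hdvdP : p ∣ Nat.card (P : Subgroup (Equiv.Perm (Fin n))) := P.dvd_card_of_dvd_card hdvd
  obtain ⟨x', hx'⟩ := exists_prime_orderOf_dvd_card' p hdvdP
  set x : Equiv.Perm (Fin n) := (x' : Equiv.Perm (Fin n)) with hxdef
  have hxP : x ∈ (P : Subgroup (Equiv.Perm (Fin n))) := x'.2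
  have hox : orderOf x = p := by rw [hxdef, Subgroup.orderOf_coe]; exact hx'
  have hne : x ≠ x⁻¹ := by
    intro h
    have h2 : x ^ 2 = 1 := by
      rw [pow_two]; nth_rw 2 [h]; exact mul_inv_cancel x
    have := orderOf_dvd_of_pow_eq_one h2
    rw [hox] at this
    exact hp ((Nat.prime_dvd_prime_iff_eq hpp Nat.prime_two).mp this)
  have hconj : IsConj x x⁻¹ := by
    rw [Equiv.Perm.isConj_iff_cycleType_eq, Equiv.Perm.cycleType_inv]
  obtain ⟨g, hg⟩ := isConj_iff.mp hconj
  haveI := hP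
  obtain ⟨t, ht, hteq⟩ := P.conj_eq_normalizer_conj_of_mem x g⁻¹ hxP (by
    rw [inv_inv, hg]; exact inv_mem hxP)
  rw [inv_inv, hg] at hteq
  exact even_relIndex (P : Subgroup (Equiv.Perm (Fin n))) x t hxP ht hteq.symm hne

end Cfsg.Agent.S2270
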