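import Cfsg.Statements.S2271
import Mathlib
import Cfsg.Agent.Lib.Helper71.AgreeMoves

set_option autoImplicit false
set_option linter.unusedSectionVars false
set_option linter.unusedVariables false
open Cfsg

namespace Cfsg.Agent.S2271

open Equiv Equiv.Perm Cfsg.Agent.Helper71.AgreeMoves

variable {n : ℕ}

theorem fix_eq_agr (a b u : Perm (Fin n)) :
    Nat.card (Function.fixedPoints ⇑(u * a * u⁻¹ * b)) = agr (u * a⁻¹ * u⁻¹) b := by
  have h : (u * a * u⁻¹)⁻¹ = u * a⁻¹ * u⁻¹ := by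
    rw [mul_inv_rev, mul_inv_rev, inv_inv, mul_assoc]
  rw [card_fixedPoints_mul, h]

/-- 3-transitivity of the alternating group of degree at least 5 -/
theorem exists_alt_map3 (hn : 5 ≤ n) (x₀ x₁ x₂ p₀ p₁ p₂ : Fin n)
    (hx01 : x₀ ≠ x₁) (hx02 : x₀ ≠ x₂) (hx12 : x₁ ≠ x₂)
    (hp01 : p₀ ≠ p₁) (hp02 : p₀ ≠ p₂) (hp12 : p₁ ≠ p₂) :
    ∃ u : Perm (Fin n), u ∈ alternatingGroup (Fin n) ∧ u x₀ = p₀ ∧ u x₁ = p₁ ∧ u x₂ = p₂ := by
  have hcard : Nat.card (Fin n) = n := by simp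
  have : MulAction.IsMultiplyPretransitive (alternatingGroup (Fin n)) (Fin n)
      (Nat.card (Fin n) - 2) := alternatingGroup.isMultiplyPretransitive (Fin n)
  have : MulAction.IsMultiplyPretransitive (alternatingGroup (Fin n)) (Fin n) 3 :=
    MulAction.isMultiplyPretransitive_of_le (n := Nat.card (Fin n) - 2) (by omega) (by omega)
  have hxinj : Function.Injective ![x₀, x₁, x₂] := by
    intro i j hij
    fin_cases i <;> fin_cases j <;> simp_all
  have hpinj : Function.Injective ![p₀, p₁, p₂] := by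
    intro i j hij
    fin_cases i <;> fin_cases j <;> simp_all
  obtain ⟨g, hg⟩ := MulAction.exists_smul_eq (alternatingGroup (Fin n))
    (⟨![x₀, x₁, x₂], hxinj⟩ : Fin 3 ↪ Fin n) ⟨![p₀, p₁, p₂], hpinj⟩
  refine ⟨g, g.2, ?_, ?_, ?_⟩
  · have := congrArg (fun e : Fin 3 ↪ Fin n => e 0) hg
    simpa [Subgroup.smul_def] using this
  · have := congrArg (fun e : Fin 3 ↪ Fin n => e 1) hg
    simpa [Subgroup.smul_def] using this
  · have := congrArg (fun e : Fin 3 ↪ Fin n => e 2) hg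
    simpa [Subgroup.smul_def] using this

theorem exists_notMem (hn : 5 ≤ n) (s : Finset (Fin n)) (hs : s.card ≤ 4) : ∃ q, q ∉ s := by
  by_contra hcon
  push Not at hcon
  have : s = Finset.univ := Finset.eq_univ_iff_forall.mpr hcon
  rw [this, Finset.card_univ, Fintype.card_fin] at hs
  omega

theorem exists_moved {a : Perm (Fin n)} (ha : a ≠ 1) : ∃ x, a x ≠ x := by
  by_contra hcon
  push Not at hcon
  exact ha (Perm.ext hcon)

theorem conj_inv_apply (u a : Perm (Fin n)) (w : Fin n) :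
    (u * a⁻¹ * u⁻¹) (u (a w)) = u w := by
  simp

/-- The basic pair: an even `u₀` and a transposition `v` such that passing from `u₀` to `v * u₀`
strictly decreases the number of fixed points. -/
theorem caseA (hn : 5 ≤ n) (a b : Perm (Fin n)) (ha : a ≠ 1) (hb : b ≠ 1) :
    ∃ u₀ v : Perm (Fin n), u₀ ∈ alternatingGroup (Fin n) ∧ Perm.sign v = -1 ∧
      Nat.card (Function.fixedPoints ⇑(v * u₀ * a * (v * u₀)⁻¹ * b)) <
        Nat.card (Function.fixedPoints ⇑(u₀ * a * u₀⁻¹ * b)) := by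
  obtain ⟨x', hx'⟩ := exists_moved ha
  obtain ⟨p, hp⟩ := exists_moved hb
  set x := a x' with hx
  -- auxiliary third points
  obtain ⟨x'', hx''⟩ := exists_notMem hn {x, x'} (by
    have := Finset.card_le_two (a := x) (b := x'); omega)
  obtain ⟨p'', hp''⟩ := exists_notMem hn {p, b p} (by
    have := Finset.card_le_two (a := p) (b := b p); omega)
  simp only [Finset.mem_insert, Finset.mem_singleton, not_or] at hx'' hp''
  obtain ⟨u₀, hu₀, hu1, hu2, -⟩ := exists_alt_map3 hn x x' x'' p (b p) p'' hx'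
    (Ne.symm hx''.1) (Ne.symm hx''.2) (Ne.symm hp) (Ne.symm hp''.1) (Ne.symm hp''.2)
  set P₀ := u₀ * a⁻¹ * u₀⁻¹ with hP₀
  have hP₀p : P₀ p = b p := by
    have h1 : P₀ (u₀ (a x')) = u₀ x' := conj_inv_apply u₀ a x'
    rw [← hx, hu1, hu2] at h1
    exact h1
  obtain ⟨q, hq⟩ := exists_notMem hn {p, b p, P₀⁻¹ (b (b p)), b⁻¹ (P₀ (b p))} (by
    refine (Finset.card_insert_le _ _).trans ?_
    have h1 := Finset.card_insert_le (b p) {P₀⁻¹ (b (b p)), b⁻¹ (P₀ (b p))}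
    have h2 := Finset.card_le_two (a := P₀⁻¹ (b (b p))) (b := b⁻¹ (P₀ (b p)))
    omega)
  simp only [Finset.mem_insert, Finset.mem_singleton, not_or] at hq
  obtain ⟨hq1, hq2, hq3, hq4⟩ := hq
  have hbp' : b (b p) ≠ b p := fun h => hp (b.injective h)
  have hPp' : P₀ (b p) ≠ b p := fun h => hp (P₀.injective (h.trans hP₀p.symm))
  have h2 : swap (b p) q (P₀ q) ≠ b (b p) := by
    by_cases e1 : P₀ q = b p
    · exact absurd (P₀.injective (e1.trans hP₀p.symm)) hq1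
    by_cases e2 : P₀ q = q
    · rw [e2, swap_apply_right]; exact hbp'.symm
    · rw [swap_apply_of_ne_of_ne e1 e2]
      intro h
      exact hq3 (Perm.eq_inv_iff_eq.2 h)
  have h3 : swap (b p) q (P₀ (b p)) ≠ b q := by
    by_cases e2 : P₀ (b p) = q
    · rw [e2, swap_apply_right]
      intro h
      exact hq1 (b.injective h).symm
    · rw [swap_apply_of_ne_of_ne hPp' e2]
      intro h
      exact hq4 (Perm.eq_inv_iff_eq.2 h.symm)
  have hlt := agr_swap_lt P₀ b p q hP₀p hq2 h2 h3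
  refine ⟨u₀, swap (b p) q, hu₀, Perm.sign_swap (Ne.symm hq2), ?_⟩
  rw [fix_eq_agr, fix_eq_agr]
  have e : swap (b p) q * u₀ * a⁻¹ * (swap (b p) q * u₀)⁻¹ = swap (b p) q * P₀ * swap (b p) q := by
    rw [hP₀, mul_inv_rev, swap_inv]
    simp only [mul_assoc]
  rw [e]
  exact hlt

/-- `a` commutes with an odd permutation -/
def OddCent (a : Perm (Fin n)) : Prop := ∃ c : Perm (Fin n), Perm.sign c = -1 ∧ c * a = a * c

theorem no_two_cycle {a : Perm (Fin n)} (h : ¬ OddCent a) (x : Fin n) (hx : a x ≠ x) :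
    a (a x) ≠ x := by
  intro h2
  apply h
  refine ⟨swap x (a x), Perm.sign_swap (Ne.symm hx), ?_⟩
  rw [Equiv.mul_swap_eq_swap_mul, h2, swap_comm]

theorem at_most_one_fix {a : Perm (Fin n)} (h : ¬ OddCent a) (y z : Fin n) (hy : a y = y)
    (hz : a z = z) : y = z := by
  by_contra hne
  apply h
  refine ⟨swap y z, Perm.sign_swap hne, ?_⟩
  rw [Equiv.mul_swap_eq_swap_mul, hy, hz]

/-- Case: one of the permutations commutes with an odd permutation. -/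
theorem main_odd (hn : 5 ≤ n) (a b : Perm (Fin n)) (ha : a ≠ 1) (hb : b ≠ 1)
    (h : OddCent a ∨ OddCent b) :
    ∃ g₁ g₂ : Perm (Fin n), g₁ ∈ alternatingGroup (Fin n) ∧ g₂ ∈ alternatingGroup (Fin n) ∧
      Nat.card (Function.fixedPoints ⇑(g₁ * a * g₁⁻¹ * b)) ≠
        Nat.card (Function.fixedPoints ⇑(g₂ * a * g₂⁻¹ * b)) := by
  obtain ⟨u₀, v, hu₀, hv, hlt⟩ := caseA hn a b ha hb
  rw [mem_alternatingGroup] at hu₀
  rcases h with ⟨c, hc, hca⟩ | ⟨c, hc, hcb⟩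
  · refine ⟨u₀, v * u₀ * c, hu₀, ?_, ?_⟩
    · rw [mem_alternatingGroup, Perm.sign_mul, Perm.sign_mul, hv, hu₀, hc]; decide
    · have e : v * u₀ * c * a * (v * u₀ * c)⁻¹ = v * u₀ * a * (v * u₀)⁻¹ := by
        have : c * a * c⁻¹ = a := by rw [hca, mul_inv_cancel_right]
        calc v * u₀ * c * a * (v * u₀ * c)⁻¹ = v * u₀ * (c * a * c⁻¹) * (v * u₀)⁻¹ := by group
          _ = v * u₀ * a * (v * u₀)⁻¹ := by rw [this]
      rw [e]
      exact (ne_of_lt hlt).symm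
  · refine ⟨u₀, c * (v * u₀), hu₀, ?_, ?_⟩
    · rw [mem_alternatingGroup, Perm.sign_mul, Perm.sign_mul, hv, hu₀, hc]; decide
    · have hb' : c * b * c⁻¹ = b := by rw [hcb, mul_inv_cancel_right]
      have e : c * (v * u₀) * a * (c * (v * u₀))⁻¹ * b =
          c * (v * u₀ * a * (v * u₀)⁻¹ * b) * c⁻¹ := by
        calc c * (v * u₀) * a * (c * (v * u₀))⁻¹ * b
            = c * (v * u₀ * a * (v * u₀)⁻¹) * c⁻¹ * (c * b * c⁻¹) := by rw [hb']; group
          _ = c * (v * u₀ * a * (v * u₀)⁻¹ * b) * c⁻¹ := by group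
      rw [e, card_fixedPoints_conj]
      exact (ne_of_lt hlt).symm

/-- `a` has a cycle of length at least four through `y` (given that it has no 2-cycles) -/
def Long (a : Perm (Fin n)) : Prop := ∃ y, a y ≠ y ∧ a (a (a y)) ≠ y

/-- Case: both permutations have a cycle of length at least 4 (and no 2-cycles). -/
theorem main_long (hn : 5 ≤ n) (a b : Perm (Fin n))
    (h2a : ∀ x, a x ≠ x → a (a x) ≠ x) (h2b : ∀ x, b x ≠ x → b (b x) ≠ x)
    (hLa : Long a) (hLb : Long b) :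
    ∃ g₁ g₂ : Perm (Fin n), g₁ ∈ alternatingGroup (Fin n) ∧ g₂ ∈ alternatingGroup (Fin n) ∧
      Nat.card (Function.fixedPoints ⇑(g₁ * a * g₁⁻¹ * b)) ≠
        Nat.card (Function.fixedPoints ⇑(g₂ * a * g₂⁻¹ * b)) := by
  obtain ⟨y, hy1, hy3⟩ := hLa
  obtain ⟨z, hz1, hz3⟩ := hLb
  have hy2 := h2a y hy1
  have hz2 := h2b z hz1
  have hy12 : a (a y) ≠ a y := fun h => hy1 (a.injective h)
  have hz12 : b (b z) ≠ b z := fun h => hz1 (b.injective h)
  obtain ⟨u₀, hu₀, hu0, hu1, hu2⟩ := exists_alt_map3 hn (a (a y)) (a y) y z (b z) (b (b z))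
    hy12 hy2 hy1 (Ne.symm hz1) (Ne.symm hz2) (Ne.symm hz12)
  set P₀ := u₀ * a⁻¹ * u₀⁻¹ with hP₀
  have hP0 : P₀ z = b z := by
    have h1 : P₀ (u₀ (a (a y))) = u₀ (a y) := conj_inv_apply u₀ a (a y)
    rwa [hu0, hu1] at h1
  have hP1 : P₀ (b z) = b (b z) := by
    have h1 : P₀ (u₀ (a y)) = u₀ y := conj_inv_apply u₀ a y
    rwa [hu1, hu2] at h1
  have hP2 : P₀ (b (b z)) ≠ z := by
    intro h
    rw [← hu2, ← hu0] at h
    have h1 : P₀ (u₀ (a (a (a y)))) = u₀ (a (a y)) := conj_inv_apply u₀ a _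
    have h3 := u₀.injective (P₀.injective (h.trans h1.symm))
    exact hy3 h3.symm
  have hlt := agr_cyc3_path_lt P₀ b z (b z) (b (b z)) (Ne.symm hz1) (Ne.symm hz2) (Ne.symm hz12)
    hP0 rfl hP1 rfl hP2 hz3
  have ht : cyc3 z (b z) (b (b z)) ∈ alternatingGroup (Fin n) :=
    cyc3_mem_alternatingGroup (Ne.symm hz1) (Ne.symm hz12)
  refine ⟨u₀, cyc3 z (b z) (b (b z)) * u₀, hu₀, mul_mem ht hu₀, ?_⟩
  rw [fix_eq_agr, fix_eq_agr]
  have e : cyc3 z (b z) (b (b z)) * u₀ * a⁻¹ * (cyc3 z (b z) (b (b z)) * u₀)⁻¹ =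
      cyc3 z (b z) (b (b z)) * P₀ * (cyc3 z (b z) (b (b z)))⁻¹ := by
    rw [hP₀, mul_inv_rev]
    simp only [mul_assoc]
  rw [e]
  exact (ne_of_lt hlt).symm

/-- Case: `a` consists of 3-cycles (at least two) and at most one fixed point. -/
theorem main_three (hn : 5 ≤ n) (a b : Perm (Fin n)) (ha : a ≠ 1) (hb : b ≠ 1)
    (h2a : ∀ x, a x ≠ x → a (a x) ≠ x) (h2b : ∀ x, b x ≠ x → b (b x) ≠ x)
    (h1a : ∀ y z, a y = y → a z = z → y = z)
    (hLa : ¬ Long a) :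
    ∃ g₁ g₂ : Perm (Fin n), g₁ ∈ alternatingGroup (Fin n) ∧ g₂ ∈ alternatingGroup (Fin n) ∧
      Nat.card (Function.fixedPoints ⇑(g₁ * a * g₁⁻¹ * b)) ≠
        Nat.card (Function.fixedPoints ⇑(g₂ * a * g₂⁻¹ * b)) := by
  have h3a : ∀ x, a x ≠ x → a (a (a x)) = x := by
    intro x hx
    by_contra h
    exact hLa ⟨x, hx, h⟩
  obtain ⟨x, hx⟩ := exists_moved ha
  obtain ⟨z, hz1⟩ := exists_moved hb
  have hz2 := h2b z hz1
  have hz12 : b (b z) ≠ b z := fun h => hz1 (b.injective h)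
  have hx2 := h2a x hx
  have hx3 := h3a x hx
  have hx12 : a (a x) ≠ a x := fun h => hx (a.injective h)
  -- a second moved point outside the cycle of `x`
  obtain ⟨y₁, hy₁⟩ := exists_notMem hn {x, a x, a (a x)} (by
    have := Finset.card_le_three (a := x) (b := a x) (c := a (a x)); omega)
  obtain ⟨y₂, hy₂⟩ := exists_notMem hn {y₁, x, a x, a (a x)} (by
    refine (Finset.card_insert_le _ _).trans ?_
    have := Finset.card_le_three (a := x) (b := a x) (c := a (a x)); omega)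
  simp only [Finset.mem_insert, Finset.mem_singleton, not_or] at hy₁ hy₂
  obtain ⟨x', hx'C, hx'⟩ : ∃ x', (x' ≠ x ∧ x' ≠ a x ∧ x' ≠ a (a x)) ∧ a x' ≠ x' := by
    by_cases h : a y₁ = y₁
    · refine ⟨y₂, ⟨hy₂.2.1, hy₂.2.2.1, hy₂.2.2.2⟩, ?_⟩
      intro h'
      exact hy₂.1 (h1a y₂ y₁ h' h)
    · exact ⟨y₁, ⟨hy₁.1, hy₁.2.1, hy₁.2.2⟩, h⟩
  have hx'3 := h3a x' hx'
  have hx'2 := h2a x' hx'
  -- the cycle of `x` is closed under preimages
  have hpre : ∀ w, (a w = x ∨ a w = a x ∨ a w = a (a x)) → (w = x ∨ w = a x ∨ w = a (a x)) := by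
    intro w hw
    rcases hw with hw | hw | hw
    · right; right
      apply a.injective
      rw [hw, hx3]
    · left; exact a.injective hw
    · right; left; exact a.injective hw
  have hax' : ¬ (a x' = x ∨ a x' = a x ∨ a x' = a (a x)) := by
    intro h
    rcases hpre x' h with h | h | h
    · exact hx'C.1 h
    · exact hx'C.2.1 h
    · exact hx'C.2.2 h
  have haax' : ¬ (a (a x') = x ∨ a (a x') = a x ∨ a (a x') = a (a x)) := by
    intro h
    exact hax' (hpre (a x') h)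
  push Not at hax' haax'
  obtain ⟨u₀, hu₀, hu0, hu1, hu2⟩ := exists_alt_map3 hn x (a (a x)) (a x) z (b z) (b (b z))
    (Ne.symm hx2) (Ne.symm hx) hx12 (Ne.symm hz1) (Ne.symm hz2) (Ne.symm hz12)
  set P₀ := u₀ * a⁻¹ * u₀⁻¹ with hP₀
  have hP1 : P₀ z = b z := by
    have h1 : P₀ (u₀ (a (a (a x)))) = u₀ (a (a x)) := conj_inv_apply u₀ a _
    rwa [hx3, hu0, hu1] at h1
  have hP2 : P₀ (b z) = b (b z) := by
    have h1 : P₀ (u₀ (a (a x))) = u₀ (a x) := conj_inv_apply u₀ a _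
    rwa [hu1, hu2] at h1
  have hP3 : P₀ (b (b z)) = z := by
    have h1 : P₀ (u₀ (a x)) = u₀ x := conj_inv_apply u₀ a _
    rwa [hu2, hu0] at h1
  have hQ1 : P₀ (u₀ x') = u₀ (a (a x')) := by
    have h1 : P₀ (u₀ (a (a (a x')))) = u₀ (a (a x')) := conj_inv_apply u₀ a _
    rwa [hx'3] at h1
  have hQ2 : P₀ (u₀ (a (a x'))) = u₀ (a x') := conj_inv_apply u₀ a _
  have hQ3 : P₀ (u₀ (a x')) = u₀ x' := conj_inv_apply u₀ a _
  have inj : ∀ {s t : Fin n}, s ≠ t → u₀ s ≠ u₀ t := fun h h' => h (u₀.injective h')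
  have hlt := agr_cyc3_two_lt P₀ b z (b z) (b (b z)) (u₀ x') (u₀ (a (a x'))) (u₀ (a x'))
    hP1 hP2 hP3 hQ1 hQ2 hQ3 (Ne.symm hz1) (Ne.symm hz2) (Ne.symm hz12)
    (by rw [← hu0]; exact inj (Ne.symm hx'C.1))
    (by rw [← hu1]; exact inj (Ne.symm hx'C.2.2))
    (by rw [← hu2]; exact inj (Ne.symm hx'C.2.1))
    (by rw [← hu0]; exact inj (Ne.symm haax'.1))
    (by rw [← hu1]; exact inj (Ne.symm haax'.2.2))
    (inj (Ne.symm hx'2)) rfl rfl
  have ht : cyc3 z (b z) (u₀ x') ∈ alternatingGroup (Fin n) :=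
    cyc3_mem_alternatingGroup (Ne.symm hz1) (by rw [← hu1]; exact inj (Ne.symm hx'C.2.2))
  refine ⟨u₀, cyc3 z (b z) (u₀ x') * u₀, hu₀, mul_mem ht hu₀, ?_⟩
  rw [fix_eq_agr, fix_eq_agr]
  have e : cyc3 z (b z) (u₀ x') * u₀ * a⁻¹ * (cyc3 z (b z) (u₀ x') * u₀)⁻¹ =
      cyc3 z (b z) (u₀ x') * P₀ * (cyc3 z (b z) (u₀ x'))⁻¹ := by
    rw [hP₀, mul_inv_rev]
    simp only [mul_assoc]
  rw [e]
  exact (ne_of_lt hlt).symm

theorem main_asym (hn : 5 ≤ n) (a b : Perm (Fin n)) (ha : a ≠ 1) (hb : b ≠ 1) :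
    (∃ g₁ g₂ : Perm (Fin n), g₁ ∈ alternatingGroup (Fin n) ∧ g₂ ∈ alternatingGroup (Fin n) ∧
      Nat.card (Function.fixedPoints ⇑(g₁ * a * g₁⁻¹ * b)) ≠
        Nat.card (Function.fixedPoints ⇑(g₂ * a * g₂⁻¹ * b))) ∨
    (∃ g₁ g₂ : Perm (Fin n), g₁ ∈ alternatingGroup (Fin n) ∧ g₂ ∈ alternatingGroup (Fin n) ∧
      Nat.card (Function.fixedPoints ⇑(g₁ * b * g₁⁻¹ * a)) ≠
        Nat.card (Function.fixedPoints ⇑(g₂ * b * g₂⁻¹ * a))) := by
  by_cases hoa : OddCent a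
  · exact Or.inl (main_odd hn a b ha hb (Or.inl hoa))
  by_cases hob : OddCent b
  · exact Or.inl (main_odd hn a b ha hb (Or.inr hob))
  have h2a := no_two_cycle hoa
  have h2b := no_two_cycle hob
  by_cases hLa : Long a
  · by_cases hLb : Long b
    · exact Or.inl (main_long hn a b h2a h2b hLa hLb)
    · exact Or.inr (main_three hn b a hb ha h2b h2a (at_most_one_fix hob) hLb)
  · exact Or.inl (main_three hn a b ha hb h2a h2b (at_most_one_fix hoa) hLa)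

/-- Let n ≥ 5 and let a, b be non-identity permutations in the symmetric group S_n. Then the number of fixed points is not constant on the set of products a′b′ with a′ conjugate to a and b′ conjugate to b under the alternating group: there are even permutations g₁, h₁, g₂, h₂ such that (g₁ a g₁⁻¹)(h₁ b h₁⁻¹) and (g₂ a g₂⁻¹)(h₂ b h₂⁻¹) have different numbers of fixed points. -/
theorem result (n : ℕ) (hn : 5 ≤ n) (a b : Equiv.Perm (Fin n)) (ha : a ≠ 1) (hb : b ≠ 1) :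
    ∃ g₁ h₁ g₂ h₂ : Equiv.Perm (Fin n), g₁ ∈ alternatingGroup (Fin n) ∧ h₁ ∈ alternatingGroup (Fin n) ∧ g₂ ∈ alternatingGroup (Fin n) ∧ h₂ ∈ alternatingGroup (Fin n) ∧
      Nat.card (Function.fixedPoints ⇑(g₁ * a * g₁⁻¹ * (h₁ * b * h₁⁻¹))) ≠
        Nat.card (Function.fixedPoints ⇑(g₂ * a * g₂⁻¹ * (h₂ * b * h₂⁻¹))) := by
  rcases main_asym hn a b ha hb with ⟨g₁, g₂, h1, h2, hne⟩ | ⟨g₁, g₂, h1, h2, hne⟩
  · refine ⟨g₁, 1, g₂, 1, h1, one_mem _, h2, one_mem _, ?_⟩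
    simpa using hne
  · refine ⟨1, g₁, 1, g₂, one_mem _, h1, one_mem _, h2, ?_⟩
    rw [card_fixedPoints_mul_comm, card_fixedPoints_mul_comm (1 * a * 1⁻¹)]
    simpa using hne

end Cfsg.Agent.S2271
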