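import Mathlib
import Cfsg.Statements.S2277
import Cfsg.Agent.Lib.Helper24.BSPairs

set_option autoImplicit false
open Cfsg

namespace Cfsg.Agent.S2277

/-- p ≥ 3, G = N ⋊ P with N a normal p-complement, P = ⟨C⟩ = ⟨D⟩, and ⟨c^x, d⟩ a p-group for all x ∈ N, c ∈ C, d ∈ D: then [P, N] = 1 and G = N × P. -/
theorem result {G : Type*} [Group G] [Finite G] (p : ℕ) [Fact p.Prime] (hp3 : 3 ≤ p) (P : Sylow p G)
    (N : Subgroup G) [N.Normal] (hN : (Nat.card N).Coprime p) (hNP : N ⊔ (P : Subgroup G) = ⊤)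
    (C D : Set G) (hC : Subgroup.closure C = (P : Subgroup G)) (hD : Subgroup.closure D = (P : Subgroup G))
    (h : ∀ x ∈ N, ∀ c ∈ C, ∀ d ∈ D, IsPGroup p ↥(Subgroup.closure ({x * c * x⁻¹, d} : Set G))) :
    ⁅(P : Subgroup G), N⁆ = ⊥ := by
  rw [Subgroup.commutator_eq_bot_iff_le_centralizer]
  exact Cfsg.Agent.Helper24.BSP.goal_all p hp3 (Nat.card G) G rfl P N inferInstance hN hNP C D hC hD h

end Cfsg.Agent.S2277
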