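import Cfsg.Statements.S2301
import Mathlib

set_option autoImplicit false
open Cfsg

namespace Cfsg.Agent.S2301

open Matrix

variable {F : Type*} [Field F]

local notation "SL2" => Matrix.SpecialLinearGroup (Fin 2) F

lemma det_eq (g : SL2) : g.1 0 0 * g.1 1 1 - g.1 0 1 * g.1 1 0 = 1 := by
  have := g.2
  rwa [Matrix.det_fin_two] at this

lemma mul_entries (x y : SL2) :
    (x * y).1 0 0 = x.1 0 0 * y.1 0 0 + x.1 0 1 * y.1 1 0 ∧
    (x * y).1 0 1 = x.1 0 0 * y.1 0 1 + x.1 0 1 * y.1 1 1 ∧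
    (x * y).1 1 0 = x.1 1 0 * y.1 0 0 + x.1 1 1 * y.1 1 0 ∧
    (x * y).1 1 1 = x.1 1 0 * y.1 0 1 + x.1 1 1 * y.1 1 1 := by
  simp [Matrix.mul_apply, Fin.sum_univ_two]

/-- the standard unipotent elements -/
def u (β : F) : SL2 := ⟨!![1, β; 0, 1], by simp [Matrix.det_fin_two]⟩

@[simp] lemma u00 (β : F) : (u β).1 0 0 = 1 := by simp [u]
@[simp] lemma u01 (β : F) : (u β).1 0 1 = β := by simp [u]
@[simp] lemma u10 (β : F) : (u β).1 1 0 = 0 := by simp [u]
@[simp] lemma u11 (β : F) : (u β).1 1 1 = 1 := by simp [u]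

lemma eq_u (g : SL2) (h00 : g.1 0 0 = 1) (h11 : g.1 1 1 = 1) (h10 : g.1 1 0 = 0) :
    g = u (g.1 0 1) := by
  apply Matrix.SpecialLinearGroup.ext
  intro i j
  fin_cases i <;> fin_cases j <;> simp [h00, h11, h10]

lemma u_mul (β γ : F) : u β * u γ = u (β + γ) := by
  obtain ⟨e00, e01, e10, e11⟩ := mul_entries (u β) (u γ)
  apply Matrix.SpecialLinearGroup.ext
  intro i j
  fin_cases i <;> fin_cases j
  · change (u β * u γ).1 0 0 = (u (β + γ)).1 0 0
    rw [e00]; simp
  · change (u β * u γ).1 0 1 = (u (β + γ)).1 0 1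
    rw [e01]; simp [add_comm]
  · change (u β * u γ).1 1 0 = (u (β + γ)).1 1 0
    rw [e10]; simp
  · change (u β * u γ).1 1 1 = (u (β + γ)).1 1 1
    rw [e11]; simp

lemma u_zero : (u (0 : F)) = 1 := by
  apply Matrix.SpecialLinearGroup.ext
  intro i j
  fin_cases i <;> fin_cases j <;> simp

lemma u_pow (β : F) (n : ℕ) : (u β) ^ n = u (n * β) := by
  induction n with
  | zero => simp [u_zero]
  | succ k ih => rw [pow_succ, ih, u_mul]; congr 1; push_cast; ring

lemma u_order (p : ℕ) [Fact p.Prime] [CharP F p] (β : F) (hβ : β ≠ 0) : orderOf (u β) = p := by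
  apply orderOf_eq_prime
  · rw [u_pow, CharP.cast_eq_zero, zero_mul, u_zero]
  · intro h
    have := congrArg (fun g : SL2 => g.1 0 1) h
    simp at this
    exact hβ this

/-- conjugacy of standard unipotents -/
lemma conj_u_iff (b b' : F) (hb : b ≠ 0) (hb' : b' ≠ 0) :
    IsConj (u b) (u b') ↔ IsSquare (b * b') := by
  constructor
  · intro h
    obtain ⟨x, hx⟩ := isConj_iff.mp h
    rw [mul_inv_eq_iff_eq_mul] at hx
    obtain ⟨l00, l01, l10, l11⟩ := mul_entries x (u b)
    obtain ⟨r00, r01, r10, r11⟩ := mul_entries (u b') x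
    have e00 : (x * u b).1 0 0 = (u b' * x).1 0 0 := by rw [hx]
    have e01 : (x * u b).1 0 1 = (u b' * x).1 0 1 := by rw [hx]
    rw [l00, r00] at e00
    rw [l01, r01] at e01
    simp at e00 e01
    have hs : x.1 1 0 = 0 := by
      rcases e00 with h | h
      · exact absurd h hb'
      · exact h
    have hdet := det_eq x
    rw [hs] at hdet
    simp at hdet
    refine ⟨x.1 0 0 * b, ?_⟩
    have : b' = x.1 0 0 * x.1 0 0 * b := by
      have e : x.1 0 0 * b = b' * x.1 1 1 := by linear_combination e01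
      calc b' = b' * (x.1 0 0 * x.1 1 1) := by rw [hdet, mul_one]
        _ = x.1 0 0 * (b' * x.1 1 1) := by ring
        _ = x.1 0 0 * (x.1 0 0 * b) := by rw [e]
        _ = x.1 0 0 * x.1 0 0 * b := by ring
    rw [this]; ring
  · rintro ⟨r, hr⟩
    have hr0 : r ≠ 0 := by
      intro h
      rw [h, mul_zero] at hr
      exact mul_ne_zero hb hb' hr
    let x : SL2 := ⟨!![r / b, 0; 0, b / r], by
      rw [Matrix.det_fin_two_of]; field_simp; ring⟩
    rw [isConj_iff]
    refine ⟨x, ?_⟩
    rw [mul_inv_eq_iff_eq_mul]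
    obtain ⟨l00, l01, l10, l11⟩ := mul_entries x (u b)
    obtain ⟨r00, r01, r10, r11⟩ := mul_entries (u b') x
    apply Matrix.SpecialLinearGroup.ext
    intro i j
    fin_cases i <;> fin_cases j
    · change (x * u b).1 0 0 = (u b' * x).1 0 0
      rw [l00, r00]; simp [x]
    · change (x * u b).1 0 1 = (u b' * x).1 0 1
      rw [l01, r01]; simp [x]
      field_simp
      linear_combination -hr
    · change (x * u b).1 1 0 = (u b' * x).1 1 0
      rw [l10, r10]; simp [x]
    · change (x * u b).1 1 1 = (u b' * x).1 1 1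
      rw [l11, r11]; simp [x]


lemma nilp_sq (N : Matrix (Fin 2) (Fin 2) F) (hN : IsNilpotent N) : N ^ 2 = 0 := by
  have h1 : N.charpoly = Polynomial.X ^ 2 := by
    have := Matrix.isNilpotent_charpoly_sub_pow_of_isNilpotent hN
    have h2 := this.eq_zero
    rw [Fintype.card_fin] at h2
    exact sub_eq_zero.mp h2
  have h3 := Matrix.aeval_self_charpoly N
  rw [h1] at h3
  simpa using h3

/-- an element of order `p` has trace 2 -/
lemma trace_of_order (p : ℕ) [Fact p.Prime] [CharP F p] (g : SL2) (hg : orderOf g = p) :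
    g.1 0 0 + g.1 1 1 = 2 ∧ g ≠ 1 := by
  have hp : p.Prime := Fact.out
  have hne : g ≠ 1 := by
    intro h
    rw [h, orderOf_one] at hg
    exact hp.ne_one hg.symm
  refine ⟨?_, hne⟩
  have hgp : g ^ p = 1 := by rw [← hg]; exact pow_orderOf_eq_one g
  have hM : (g.1) ^ p = 1 := by
    have := congrArg (fun x : SL2 => x.1) hgp
    simpa using this
  have hnil : IsNilpotent (g.1 - 1) := by
    refine ⟨p, ?_⟩
    have := sub_pow_char_of_commute p (Commute.one_right g.1)
    rw [this, hM, one_pow, sub_self]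
  have hsq := nilp_sq _ hnil
  have e00 := congrFun (congrFun hsq 0) 0
  have e01 := congrFun (congrFun hsq 0) 1
  have e10 := congrFun (congrFun hsq 1) 0
  have e11 := congrFun (congrFun hsq 1) 1
  simp [pow_two, Matrix.mul_apply, Fin.sum_univ_two] at e00 e01 e10 e11
  have hdet := det_eq g
  by_contra hcon
  have ht : g.1 0 0 + g.1 1 1 - 2 ≠ 0 := fun h => hcon (sub_eq_zero.mp h)
  have hb : g.1 0 1 = 0 := by
    have : (g.1 0 0 + g.1 1 1 - 2) * g.1 0 1 = 0 := by linear_combination e01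
    rcases mul_eq_zero.mp this with h | h
    · exact absurd h ht
    · exact h
  rw [hb] at e00 e11
  simp at e00 e11
  apply hcon
  linear_combination e00 + e11

/-- every element of order `p` is conjugate to a standard one -/
lemma conj_std (p : ℕ) [Fact p.Prime] [CharP F p] (g : SL2) (hg : orderOf g = p) :
    ∃ β : F, β ≠ 0 ∧ IsConj (u β) g := by
  obtain ⟨htr, hne⟩ := trace_of_order p g hg
  have hdet := det_eq g
  by_cases hb : g.1 0 1 = 0
  · -- then g00 = g11 = 1
    have h00 : g.1 0 0 = 1 := by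
      rw [hb] at hdet
      have : (g.1 0 0 - 1) ^ 2 = 0 := by linear_combination (-1 : F) * hdet + g.1 0 0 * htr
      have := pow_eq_zero_iff (two_ne_zero) |>.mp this
      exact sub_eq_zero.mp this
    have h11 : g.1 1 1 = 1 := by linear_combination htr - h00
    have hc : g.1 1 0 ≠ 0 := by
      intro hc
      apply hne
      apply Matrix.SpecialLinearGroup.ext
      intro i j
      fin_cases i <;> fin_cases j <;> simp [h00, h11, hb, hc]
    refine ⟨-g.1 1 0, neg_ne_zero.mpr hc, ?_⟩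
    let x : SL2 := ⟨!![0, -1; 1, 0], by simp [Matrix.det_fin_two]⟩
    rw [isConj_iff]
    refine ⟨x, ?_⟩
    rw [mul_inv_eq_iff_eq_mul]
    obtain ⟨l00, l01, l10, l11⟩ := mul_entries x (u (-g.1 1 0))
    obtain ⟨r00, r01, r10, r11⟩ := mul_entries g x
    apply Matrix.SpecialLinearGroup.ext
    intro i j
    fin_cases i <;> fin_cases j
    · change (x * u _).1 0 0 = (g * x).1 0 0
      rw [l00, r00]; simp [x, hb]
    · change (x * u _).1 0 1 = (g * x).1 0 1
      rw [l01, r01]; simp [x, h00]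
    · change (x * u _).1 1 0 = (g * x).1 1 0
      rw [l10, r10]; simp [x, h11]
    · change (x * u _).1 1 1 = (g * x).1 1 1
      rw [l11, r11]; simp [x]
  · refine ⟨g.1 0 1, hb, ?_⟩
    let x : SL2 := ⟨!![1, 0; -(g.1 0 0 - 1) / g.1 0 1, 1], by simp [Matrix.det_fin_two]⟩
    rw [isConj_iff]
    refine ⟨x, ?_⟩
    rw [mul_inv_eq_iff_eq_mul]
    obtain ⟨l00, l01, l10, l11⟩ := mul_entries x (u (g.1 0 1))
    obtain ⟨r00, r01, r10, r11⟩ := mul_entries g x
    apply Matrix.SpecialLinearGroup.ext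
    intro i j
    fin_cases i <;> fin_cases j
    · change (x * u _).1 0 0 = (g * x).1 0 0
      rw [l00, r00]; simp [x]
      field_simp
      ring
    · change (x * u _).1 0 1 = (g * x).1 0 1
      rw [l01, r01]; simp [x]
    · change (x * u _).1 1 0 = (g * x).1 1 0
      rw [l10, r10]; simp [x]
      field_simp
      linear_combination hdet - htr
    · change (x * u _).1 1 1 = (g * x).1 1 1
      rw [l11, r11]; simp [x]
      field_simp
      linear_combination -htr


/-- the conjugates of `u β`, parametrised by the first column of the conjugating element -/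
def ψ (β : F) (v : F × F) : SL2 :=
  ⟨!![1 - β * v.1 * v.2, β * v.1 ^ 2; -β * v.2 ^ 2, 1 + β * v.1 * v.2], by
    rw [Matrix.det_fin_two_of]; ring⟩

@[simp] lemma ψ00 (β : F) (v : F × F) : (ψ β v).1 0 0 = 1 - β * v.1 * v.2 := by simp [ψ]
@[simp] lemma ψ01 (β : F) (v : F × F) : (ψ β v).1 0 1 = β * v.1 ^ 2 := by simp [ψ]
@[simp] lemma ψ10 (β : F) (v : F × F) : (ψ β v).1 1 0 = -β * v.2 ^ 2 := by simp [ψ]
@[simp] lemma ψ11 (β : F) (v : F × F) : (ψ β v).1 1 1 = 1 + β * v.1 * v.2 := by simp [ψ]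

lemma psi_mul (β : F) (x : SL2) : ψ β (x.1 0 0, x.1 1 0) * x = x * u β := by
  obtain ⟨l00, l01, l10, l11⟩ := mul_entries (ψ β (x.1 0 0, x.1 1 0)) x
  obtain ⟨r00, r01, r10, r11⟩ := mul_entries x (u β)
  have hdet := det_eq x
  apply Matrix.SpecialLinearGroup.ext
  intro i j
  fin_cases i <;> fin_cases j
  · change (ψ β _ * x).1 0 0 = (x * u β).1 0 0
    rw [l00, r00]; simp
    ring
  · change (ψ β _ * x).1 0 1 = (x * u β).1 0 1
    rw [l01, r01]; simp
    linear_combination β * x.1 0 0 * hdet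
  · change (ψ β _ * x).1 1 0 = (x * u β).1 1 0
    rw [l10, r10]; simp
    ring
  · change (ψ β _ * x).1 1 1 = (x * u β).1 1 1
    rw [l11, r11]; simp
    linear_combination β * x.1 1 0 * hdet

lemma conj_psi (β : F) (h : SL2) (hc : IsConj (u β) h) :
    ∃ v : F × F, v ≠ 0 ∧ ψ β v = h := by
  obtain ⟨x, hx⟩ := isConj_iff.mp hc
  refine ⟨(x.1 0 0, x.1 1 0), ?_, ?_⟩
  · intro e
    have e1 : x.1 0 0 = 0 := congrArg Prod.fst e
    have e2 : x.1 1 0 = 0 := congrArg Prod.snd e
    have hdet := det_eq x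
    rw [e1, e2] at hdet
    simp at hdet
  · rw [← hx, eq_mul_inv_iff_mul_eq]
    exact psi_mul β x

lemma psi_conj (β : F) (v : F × F) (hv : v ≠ 0) : IsConj (u β) (ψ β v) := by
  obtain ⟨p, s⟩ := v
  have hps : p ≠ 0 ∨ s ≠ 0 := by
    by_contra hcon
    obtain ⟨h1, h2⟩ := not_or.mp hcon
    apply hv
    rw [not_not.mp h1, not_not.mp h2]
    rfl
  obtain ⟨r, t, hrt⟩ : ∃ r t : F, p * t - r * s = 1 := by
    rcases hps with h | h
    · exact ⟨0, p⁻¹, by field_simp; ring⟩
    · exact ⟨-s⁻¹, 0, by field_simp; ring⟩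
  let x : SL2 := ⟨!![p, r; s, t], by rw [Matrix.det_fin_two_of]; linear_combination hrt⟩
  rw [isConj_iff]
  refine ⟨x, ?_⟩
  rw [mul_inv_eq_iff_eq_mul]
  have := psi_mul β x
  simp only [x] at this
  simpa using this.symm

lemma psi_eq_iff (β : F) (hβ : β ≠ 0) (v w : F × F) :
    ψ β w = ψ β v ↔ w = v ∨ w = -v := by
  obtain ⟨p, s⟩ := v
  obtain ⟨p', s'⟩ := w
  constructor
  · intro h
    have e00 := congrArg (fun g : SL2 => g.1 0 0) h
    have e01 := congrArg (fun g : SL2 => g.1 0 1) h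
    have e10 := congrArg (fun g : SL2 => g.1 1 0) h
    simp at e00 e01 e10
    have hp : p' ^ 2 = p ^ 2 := by
      rcases e01 with h | h
      · exact h
      · exact absurd h hβ
    have hs : s' ^ 2 = s ^ 2 := by
      rcases e10 with h | h
      · exact h
      · exact absurd h hβ
    have hps : p' * s' = p * s := by
      have : β * (p' * s') = β * (p * s) := by linear_combination e00
      exact mul_left_cancel₀ hβ this
    rcases sq_eq_sq_iff_eq_or_eq_neg.mp hp with h1 | h1
    · by_cases hp0 : p = 0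
      · rcases sq_eq_sq_iff_eq_or_eq_neg.mp hs with h2 | h2
        · left; rw [h1, h2]
        · right; rw [h1, h2, hp0]; simp
      · left
        rw [h1] at hps
        rw [h1, mul_left_cancel₀ hp0 hps]
    · by_cases hp0 : p = 0
      · rcases sq_eq_sq_iff_eq_or_eq_neg.mp hs with h2 | h2
        · left; rw [h1, h2, hp0]; simp
        · right; rw [h1, h2]; simp
      · right
        rw [h1] at hps
        have : s' = -s := by
          have : p * s' = p * (-s) := by linear_combination -hps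
          exact mul_left_cancel₀ hp0 this
        rw [h1, this]; simp
  · rintro (h | h)
    · rw [h]
    · rw [h]
      apply Matrix.SpecialLinearGroup.ext
      intro i j
      fin_cases i <;> fin_cases j <;> simp


lemma class_card [Fintype F] (h2 : (2 : F) ≠ 0) (β : F) (hβ : β ≠ 0) :
    Nat.card (ConjClasses.mk (u β)).carrier = (Fintype.card F ^ 2 - 1) / 2 := by
  classical
  let T := {v : F × F // v ≠ 0}
  let C := (ConjClasses.mk (u β)).carrier
  have hmem : ∀ h : SL2, h ∈ C ↔ IsConj (u β) h := by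
    intro h
    simp only [C]
    rw [ConjClasses.mem_carrier_iff_mk_eq, ConjClasses.mk_eq_mk_iff_isConj]
    exact ⟨fun h => h.symm, fun h => h.symm⟩
  let Ψ : T → C := fun v => ⟨ψ β v.1, (hmem _).mpr (psi_conj β v.1 v.2)⟩
  have hsurj : Function.Surjective Ψ := by
    rintro ⟨h, hh⟩
    obtain ⟨v, hv, hvh⟩ := conj_psi β h ((hmem h).mp hh)
    exact ⟨⟨v, hv⟩, Subtype.ext hvh⟩
  haveI : Fintype C := Fintype.ofFinite C
  have hfib : ∀ y : C, Nat.card {v : T // Ψ v = y} = 2 := by
    intro y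
    obtain ⟨v, rfl⟩ := hsurj y
    rw [Nat.card_eq_two_iff]
    have hnv : -v.1 ≠ 0 := neg_ne_zero.mpr v.2
    refine ⟨⟨v, rfl⟩, ⟨⟨-v.1, hnv⟩, ?_⟩, ?_, ?_⟩
    · apply Subtype.ext
      exact (psi_eq_iff β hβ v.1 (-v.1)).mpr (Or.inr rfl)
    · intro e
      have e1 : v.1 = -v.1 := congrArg (fun z : {w : T // Ψ w = Ψ v} => z.1.1) e
      have : (2 : F) • v.1 = 0 := by
        rw [two_smul]
        nth_rw 2 [e1]
        exact add_neg_cancel _
      rcases smul_eq_zero.mp this with h | h
      · exact h2 h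
      · exact v.2 h
    · apply Set.eq_univ_of_forall
      rintro ⟨w, hw⟩
      have hw' : ψ β w.1 = ψ β v.1 := congrArg Subtype.val hw
      rcases (psi_eq_iff β hβ v.1 w.1).mp hw' with h | h
      · left
        apply Subtype.ext
        apply Subtype.ext
        exact h
      · right
        rw [Set.mem_singleton_iff]
        apply Subtype.ext
        apply Subtype.ext
        exact h
  have h1 : Nat.card T = Nat.card (Σ y : C, {v : T // Ψ v = y}) :=
    Nat.card_congr (Equiv.sigmaFiberEquiv Ψ).symm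
  rw [Nat.card_sigma] at h1
  simp only [hfib, Finset.sum_const, Finset.card_univ, smul_eq_mul] at h1
  have h3 : Nat.card T = Fintype.card F ^ 2 - 1 := by
    simp only [T]
    rw [Nat.card_eq_fintype_card, Fintype.card_subtype_compl, Fintype.card_subtype_eq,
      Fintype.card_prod, sq]
  rw [h3] at h1
  change Nat.card C = _
  rw [Nat.card_eq_fintype_card, h1]
  simp

theorem result {F : Type*} [Field F] [Fintype F] (p : ℕ) [Fact p.Prime] [CharP F p] (hp : p ≠ 2) :
    Nat.card {C : ConjClasses (Matrix.SpecialLinearGroup (Fin 2) F) // ∃ g : Matrix.SpecialLinearGroup (Fin 2) F, orderOf g = p ∧ ConjClasses.mk g = C} = 2 ∧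
    (∀ g : Matrix.SpecialLinearGroup (Fin 2) F, orderOf g = p → Nat.card (ConjClasses.mk g).carrier = (Fintype.card F ^ 2 - 1) / 2) ∧
    ∀ g h : Matrix.SpecialLinearGroup (Fin 2) F, (g : Matrix (Fin 2) (Fin 2) F) 0 0 = 1 → (g : Matrix (Fin 2) (Fin 2) F) 1 1 = 1 → (g : Matrix (Fin 2) (Fin 2) F) 1 0 = 0 → (g : Matrix (Fin 2) (Fin 2) F) 0 1 ≠ 0 →
      (h : Matrix (Fin 2) (Fin 2) F) 0 0 = 1 → (h : Matrix (Fin 2) (Fin 2) F) 1 1 = 1 → (h : Matrix (Fin 2) (Fin 2) F) 1 0 = 0 → (h : Matrix (Fin 2) (Fin 2) F) 0 1 ≠ 0 →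
      (IsConj g h ↔ IsSquare ((g : Matrix (Fin 2) (Fin 2) F) 0 1 * (h : Matrix (Fin 2) (Fin 2) F) 0 1)) := by
  classical
  have hchar : ringChar F ≠ 2 := by rw [ringChar.eq F p]; exact hp
  have h2 : (2 : F) ≠ 0 := Ring.two_ne_zero hchar
  refine ⟨?_, ?_, ?_⟩
  · obtain ⟨ε, hε⟩ := FiniteField.exists_nonsquare hchar
    have hε0 : ε ≠ 0 := by
      intro h
      apply hε
      rw [h]
      exact IsSquare.zero
    have hset : {C : ConjClasses (Matrix.SpecialLinearGroup (Fin 2) F) | ∃ g : Matrix.SpecialLinearGroup (Fin 2) F, orderOf g = p ∧ ConjClasses.mk g = C} =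
        {ConjClasses.mk (u 1), ConjClasses.mk (u ε)} := by
      ext C
      constructor
      · rintro ⟨g, hg, rfl⟩
        obtain ⟨β, hβ, hc⟩ := conj_std p g hg
        by_cases hsq : IsSquare β
        · left
          rw [ConjClasses.mk_eq_mk_iff_isConj]
          refine hc.symm.trans ?_
          rw [conj_u_iff β 1 hβ one_ne_zero, mul_one]
          exact hsq
        · right
          rw [Set.mem_singleton_iff, ConjClasses.mk_eq_mk_iff_isConj]
          refine hc.symm.trans ?_
          rw [conj_u_iff β ε hβ hε0]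
          rw [← quadraticChar_one_iff_isSquare (mul_ne_zero hβ hε0), map_mul,
            quadraticChar_neg_one_iff_not_isSquare.mpr hsq,
            quadraticChar_neg_one_iff_not_isSquare.mpr hε]
          norm_num
      · rintro (h | h)
        · exact ⟨u 1, u_order p 1 one_ne_zero, h.symm⟩
        · exact ⟨u ε, u_order p ε hε0, h.symm⟩
    have hne : (ConjClasses.mk (u (1 : F))) ≠ ConjClasses.mk (u ε) := by
      intro h
      rw [ConjClasses.mk_eq_mk_iff_isConj, conj_u_iff 1 ε one_ne_zero hε0, one_mul] at h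
      exact hε h
    change Nat.card ↥{C : ConjClasses (Matrix.SpecialLinearGroup (Fin 2) F) | ∃ g : Matrix.SpecialLinearGroup (Fin 2) F, orderOf g = p ∧ ConjClasses.mk g = C} = 2
    rw [hset, Nat.card_coe_set_eq, Set.ncard_pair hne]
  · intro g hg
    obtain ⟨β, hβ, hc⟩ := conj_std p g hg
    have : ConjClasses.mk g = ConjClasses.mk (u β) := by
      rw [ConjClasses.mk_eq_mk_iff_isConj]
      exact hc.symm
    rw [this]
    exact class_card h2 β hβ
  · intro g h g00 g11 g10 g01 h00 h11 h10 h01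
    rw [eq_u g g00 g11 g10, eq_u h h00 h11 h10]
    simp only [u01]
    exact conj_u_iff _ _ g01 h01

end Cfsg.Agent.S2301
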