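import Cfsg.Statements.S2302
import Mathlib

set_option autoImplicit false
open Cfsg

namespace Cfsg.Agent.S2302

open Matrix

variable {F : Type*} [Field F] [CharP F 2]

local notation "SL2" => Matrix.SpecialLinearGroup (Fin 2) F

omit [CharP F 2] in
lemma det_eq (g : SL2) : g.1 0 0 * g.1 1 1 - g.1 0 1 * g.1 1 0 = 1 := by
  have := g.2
  rwa [Matrix.det_fin_two] at this

lemma sq_inj (x y : F) (h : x ^ 2 = y ^ 2) : x = y := by
  have h2 : (2 : F) = 0 := CharTwo.two_eq_zero
  have : (x - y) ^ 2 = 0 := by linear_combination h + (y ^ 2 - x * y) * h2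
  exact sub_eq_zero.mp (pow_eq_zero_iff (two_ne_zero) |>.mp this)

omit [CharP F 2] in
lemma sq_entries (g : SL2) :
    (g * g).1 0 0 = g.1 0 0 * g.1 0 0 + g.1 0 1 * g.1 1 0 ∧
    (g * g).1 0 1 = g.1 0 0 * g.1 0 1 + g.1 0 1 * g.1 1 1 ∧
    (g * g).1 1 0 = g.1 1 0 * g.1 0 0 + g.1 1 1 * g.1 1 0 ∧
    (g * g).1 1 1 = g.1 1 0 * g.1 0 1 + g.1 1 1 * g.1 1 1 := by
  simp [Matrix.mul_apply, Fin.sum_univ_two]

lemma order_two_iff (g : SL2) :
    orderOf g = 2 ↔ g.1 0 0 = g.1 1 1 ∧ (g.1 0 1 ≠ 0 ∨ g.1 1 0 ≠ 0) := by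
  have h2 : (2 : F) = 0 := CharTwo.two_eq_zero
  have hdet := det_eq g
  obtain ⟨s00, s01, s10, s11⟩ := sq_entries g
  constructor
  · intro ho
    have hsq : g * g = 1 := by
      have := pow_orderOf_eq_one g
      rwa [ho, pow_two] at this
    have hne : g ≠ 1 := by
      intro h
      rw [h, orderOf_one] at ho
      exact absurd ho (by norm_num)
    have e00 : g.1 0 0 * g.1 0 0 + g.1 0 1 * g.1 1 0 = 1 := by rw [← s00, hsq]; simp
    have e01 : g.1 0 0 * g.1 0 1 + g.1 0 1 * g.1 1 1 = 0 := by rw [← s01, hsq]; simp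
    have e10 : g.1 1 0 * g.1 0 0 + g.1 1 1 * g.1 1 0 = 0 := by rw [← s10, hsq]; simp
    have e11 : g.1 1 0 * g.1 0 1 + g.1 1 1 * g.1 1 1 = 1 := by rw [← s11, hsq]; simp
    have had : g.1 0 0 = g.1 1 1 := by
      apply sq_inj
      linear_combination e00 - e11
    refine ⟨had, ?_⟩
    by_contra hcon
    obtain ⟨hb, hc⟩ := not_or.mp hcon
    have hb' := not_not.mp hb
    have hc' := not_not.mp hc
    rw [hb', hc'] at e00
    have ha : g.1 0 0 = 1 := by
      apply sq_inj
      linear_combination e00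
    apply hne
    apply Matrix.SpecialLinearGroup.ext
    intro i j
    fin_cases i <;> fin_cases j <;> simp [hb', hc', ha, ← had]
  · rintro ⟨had, hbc⟩
    have hsq : g ^ 2 = 1 := by
      rw [pow_two]
      apply Matrix.SpecialLinearGroup.ext
      intro i j
      fin_cases i <;> fin_cases j
      · change (g * g).1 0 0 = (1 : SL2).1 0 0
        rw [s00]; simp
        linear_combination hdet + g.1 0 0 * (had) + g.1 0 1 * g.1 1 0 * h2
      · change (g * g).1 0 1 = (1 : SL2).1 0 1
        rw [s01, ← had]; simp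
        linear_combination g.1 0 0 * g.1 0 1 * h2
      · change (g * g).1 1 0 = (1 : SL2).1 1 0
        rw [s10, ← had]; simp
        linear_combination g.1 1 0 * g.1 0 0 * h2
      · change (g * g).1 1 1 = (1 : SL2).1 1 1
        rw [s11]; simp
        linear_combination hdet - g.1 1 1 * had + g.1 0 1 * g.1 1 0 * h2
    have hne : g ≠ 1 := by
      intro h
      rw [h] at hbc
      simp at hbc
    have := orderOf_eq_prime hsq hne
    exact this


/-- the standard involution -/
def u : SL2 := ⟨!![1, 1; 0, 1], by simp [Matrix.det_fin_two]⟩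

omit [CharP F 2] in
lemma mul_entries (x y : SL2) :
    (x * y).1 0 0 = x.1 0 0 * y.1 0 0 + x.1 0 1 * y.1 1 0 ∧
    (x * y).1 0 1 = x.1 0 0 * y.1 0 1 + x.1 0 1 * y.1 1 1 ∧
    (x * y).1 1 0 = x.1 1 0 * y.1 0 0 + x.1 1 1 * y.1 1 0 ∧
    (x * y).1 1 1 = x.1 1 0 * y.1 0 1 + x.1 1 1 * y.1 1 1 := by
  simp [Matrix.mul_apply, Fin.sum_univ_two]

lemma conj_u [Finite F] (g : SL2) (hg : orderOf g = 2) : IsConj (u : SL2) g := by
  have h2 : (2 : F) = 0 := CharTwo.two_eq_zero
  obtain ⟨had, hbc⟩ := (order_two_iff g).mp hg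
  have hdet := det_eq g
  obtain ⟨p, hp⟩ := isSquare_of_charTwo' (g.1 0 1)
  obtain ⟨s, hs⟩ := isSquare_of_charTwo' (g.1 1 0)
  have ha : g.1 0 0 = 1 + p * s := by
    apply sq_inj
    rw [hp, hs, ← had] at hdet
    linear_combination hdet - p * s * h2
  have hps : p ≠ 0 ∨ s ≠ 0 := by
    rcases hbc with h | h
    · left; intro h0; apply h; rw [hp, h0]; ring
    · right; intro h0; apply h; rw [hs, h0]; ring
  -- choose r t with p t - r s = 1
  obtain ⟨r, t, hrt⟩ : ∃ r t : F, p * t - r * s = 1 := by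
    rcases hps with h | h
    · exact ⟨0, p⁻¹, by field_simp; ring⟩
    · exact ⟨-s⁻¹, 0, by field_simp; ring⟩
  let x : SL2 := ⟨!![p, r; s, t], by rw [Matrix.det_fin_two_of]; linear_combination hrt⟩
  rw [isConj_iff]
  refine ⟨x, ?_⟩
  rw [mul_inv_eq_iff_eq_mul]
  obtain ⟨l00, l01, l10, l11⟩ := mul_entries x (u : SL2)
  obtain ⟨r00, r01, r10, r11⟩ := mul_entries g x
  have hd : g.1 1 1 = 1 + p * s := by rw [← had, ha]
  apply Matrix.SpecialLinearGroup.ext
  intro i j
  fin_cases i <;> fin_cases j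
  · change (x * u).1 0 0 = (g * x).1 0 0
    rw [l00, r00, ha, hp]
    simp [x, u]
    linear_combination (-(p * p * s)) * h2
  · change (x * u).1 0 1 = (g * x).1 0 1
    rw [l01, r01, ha, hp]
    simp [x, u]
    linear_combination (-p) * hrt - p * r * s * h2
  · change (x * u).1 1 0 = (g * x).1 1 0
    rw [l10, r10, hd, hs]
    simp [x, u]
    linear_combination (-(p * s * s)) * h2
  · change (x * u).1 1 1 = (g * x).1 1 1
    rw [l11, r11, hd, hs]
    simp [x, u]
    linear_combination (-s) * hrt - s * r * s * h2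


omit [CharP F 2] in
lemma order_conj (g h : SL2) (hc : IsConj g h) : orderOf h = orderOf g := by
  obtain ⟨x, hx⟩ := isConj_iff.mp hc
  rw [← hx]
  exact orderOf_injective (MulAut.conj x).toMonoidHom (MulAut.conj x).injective g

lemma card_inv [Fintype F] :
    Nat.card {h : SL2 // orderOf h = 2} = Fintype.card F ^ 2 - 1 := by
  classical
  let φ : {h : SL2 // orderOf h = 2} → {p : F × F // p ≠ 0} := fun h =>
    ⟨(h.1.1 0 1, h.1.1 1 0), by
      intro e
      have e1 : h.1.1 0 1 = 0 := congrArg Prod.fst e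
      have e2 : h.1.1 1 0 = 0 := congrArg Prod.snd e
      rcases ((order_two_iff h.1).mp h.2).2 with h' | h'
      · exact h' e1
      · exact h' e2⟩
  have hinj : Function.Injective φ := by
    rintro ⟨h, hh⟩ ⟨h', hh'⟩ e
    have e1 : h.1 0 1 = h'.1 0 1 := congrArg (fun z : {p : F × F // p ≠ 0} => z.1.1) e
    have e2 : h.1 1 0 = h'.1 1 0 := congrArg (fun z : {p : F × F // p ≠ 0} => z.1.2) e
    have had := ((order_two_iff h).mp hh).1
    have had' := ((order_two_iff h').mp hh').1
    have hd := det_eq h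
    have hd' := det_eq h'
    rw [← had] at hd
    rw [← had'] at hd'
    have e0 : h.1 0 0 = h'.1 0 0 := by
      apply sq_inj
      rw [e1, e2] at hd
      linear_combination hd - hd'
    apply Subtype.ext
    apply Matrix.SpecialLinearGroup.ext
    intro i j
    fin_cases i <;> fin_cases j
    · exact e0
    · exact e1
    · exact e2
    · change h.1 1 1 = h'.1 1 1
      rw [← had, ← had', e0]
  have hsurj : Function.Surjective φ := by
    rintro ⟨⟨b, c⟩, hp⟩
    obtain ⟨a, ha⟩ := isSquare_of_charTwo' (1 + b * c)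
    let h : SL2 := ⟨!![a, b; c, a], by rw [Matrix.det_fin_two_of]; linear_combination -ha⟩
    have hh : orderOf h = 2 := by
      rw [order_two_iff]
      refine ⟨by simp [h], ?_⟩
      by_contra hcon
      obtain ⟨hb, hc⟩ := not_or.mp hcon
      apply hp
      have hb' : b = 0 := by simpa [h] using hb
      have hc' : c = 0 := by simpa [h] using hc
      rw [hb', hc']
      rfl
    refine ⟨⟨h, hh⟩, ?_⟩
    apply Subtype.ext
    simp [φ, h]
  rw [Nat.card_congr (Equiv.ofBijective φ ⟨hinj, hsurj⟩), Nat.card_eq_fintype_card,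
    Fintype.card_subtype_compl, Fintype.card_subtype_eq, Fintype.card_prod, sq]

theorem result {F : Type*} [Field F] [Fintype F] [CharP F 2] (g h : Matrix.SpecialLinearGroup (Fin 2) F) (hg : orderOf g = 2) (hh : orderOf h = 2) :
    IsConj g h ∧ Nat.card (ConjClasses.mk g).carrier = Fintype.card F ^ 2 - 1 := by
  have hconj : ∀ h' : Matrix.SpecialLinearGroup (Fin 2) F, orderOf h' = 2 → IsConj g h' :=
    fun h' hh' => (conj_u g hg).symm.trans (conj_u h' hh')
  refine ⟨hconj h hh, ?_⟩
  have hset : (ConjClasses.mk g).carrier = {h' : Matrix.SpecialLinearGroup (Fin 2) F | orderOf h' = 2} := by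
    ext h'
    rw [ConjClasses.mem_carrier_iff_mk_eq, ConjClasses.mk_eq_mk_iff_isConj]
    change _ ↔ orderOf h' = 2
    constructor
    · intro hc
      exact (order_conj h' g hc).symm.trans hg
    · intro ho
      exact (hconj h' ho).symm
  rw [hset]
  exact card_inv

end Cfsg.Agent.S2302
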