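import Cfsg.Statements.S2303
import Mathlib

set_option autoImplicit false
open Cfsg

namespace Cfsg.Agent.S2303

open Matrix

/-- commuting of 2x2 matrices entrywise -/
lemma comm_iff {F : Type*} [Field F] (g h : Matrix (Fin 2) (Fin 2) F) :
    g * h = h * g ↔
      (g 0 0 * h 0 0 + g 0 1 * h 1 0 = h 0 0 * g 0 0 + h 0 1 * g 1 0 ∧
       g 0 0 * h 0 1 + g 0 1 * h 1 1 = h 0 0 * g 0 1 + h 0 1 * g 1 1 ∧
       g 1 0 * h 0 0 + g 1 1 * h 1 0 = h 1 0 * g 0 0 + h 1 1 * g 1 0 ∧
       g 1 0 * h 0 1 + g 1 1 * h 1 1 = h 1 0 * g 0 1 + h 1 1 * g 1 1) := by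
  rw [← Matrix.ext_iff]
  simp [Fin.forall_fin_two, Matrix.mul_apply, Fin.sum_univ_two]
  tauto

lemma mem_cent {F : Type*} [Field F] (g h : GL (Fin 2) F) :
    h ∈ Subgroup.centralizer ({g} : Set (GL (Fin 2) F)) ↔
      (g : Matrix (Fin 2) (Fin 2) F) * (h : Matrix (Fin 2) (Fin 2) F) =
        (h : Matrix (Fin 2) (Fin 2) F) * (g : Matrix (Fin 2) (Fin 2) F) := by
  rw [Subgroup.mem_centralizer_singleton_iff]
  constructor
  · intro e
    have := congrArg (fun x : GL (Fin 2) F => (x : Matrix (Fin 2) (Fin 2) F)) e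
    simpa using this.symm
  · intro e
    apply Units.ext
    simpa using e.symm

lemma coe_mk {F : Type*} [Field F] (A : Matrix (Fin 2) (Fin 2) F) (h : A.det ≠ 0) :
    ((Matrix.GeneralLinearGroup.mkOfDetNeZero A h : GL (Fin 2) F) : Matrix (Fin 2) (Fin 2) F) = A := rfl

theorem partA {F : Type*} [Field F] [Fintype F] (g : GL (Fin 2) F)
    (h01 : (g : Matrix (Fin 2) (Fin 2) F) 0 1 = 0) (h10 : (g : Matrix (Fin 2) (Fin 2) F) 1 0 = 0)
    (hne : (g : Matrix (Fin 2) (Fin 2) F) 0 0 ≠ (g : Matrix (Fin 2) (Fin 2) F) 1 1) :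
    Nat.card (Subgroup.centralizer ({g} : Set (GL (Fin 2) F))) = (Fintype.card F - 1) ^ 2 := by
  classical
  let f : Fˣ × Fˣ → Subgroup.centralizer ({g} : Set (GL (Fin 2) F)) := fun x =>
    ⟨Matrix.GeneralLinearGroup.mkOfDetNeZero !![(x.1 : F), 0; 0, (x.2 : F)]
      (by simp [Matrix.det_fin_two]), by
      rw [mem_cent, comm_iff]
      simp [Matrix.GeneralLinearGroup.mkOfDetNeZero, h01, h10, mul_comm]⟩
  have hinj : Function.Injective f := by
    rintro ⟨a, b⟩ ⟨a', b'⟩ h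
    have h1 := congrArg (fun x : Subgroup.centralizer ({g} : Set (GL (Fin 2) F)) =>
      ((x : GL (Fin 2) F) : Matrix (Fin 2) (Fin 2) F)) h
    simp only [f, Matrix.GeneralLinearGroup.mkOfDetNeZero] at h1
    have e0 := congrFun (congrFun h1 0) 0
    have e1 := congrFun (congrFun h1 1) 1
    simp at e0 e1
    exact Prod.ext (Units.ext e0) (Units.ext e1)
  have hsurj : Function.Surjective f := by
    rintro ⟨h, hh⟩
    rw [mem_cent, comm_iff] at hh
    simp only [h01, h10, zero_mul, mul_zero, add_zero, zero_add] at hh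
    obtain ⟨-, e2, e3, -⟩ := hh
    have z01 : (h : Matrix (Fin 2) (Fin 2) F) 0 1 = 0 := by
      have : ((g : Matrix (Fin 2) (Fin 2) F) 0 0 - (g : Matrix (Fin 2) (Fin 2) F) 1 1) *
          (h : Matrix (Fin 2) (Fin 2) F) 0 1 = 0 := by linear_combination e2
      rcases mul_eq_zero.mp this with h' | h'
      · exact absurd (sub_eq_zero.mp h') hne
      · exact h'
    have z10 : (h : Matrix (Fin 2) (Fin 2) F) 1 0 = 0 := by
      have : ((g : Matrix (Fin 2) (Fin 2) F) 0 0 - (g : Matrix (Fin 2) (Fin 2) F) 1 1) *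
          (h : Matrix (Fin 2) (Fin 2) F) 1 0 = 0 := by linear_combination -e3
      rcases mul_eq_zero.mp this with h' | h'
      · exact absurd (sub_eq_zero.mp h') hne
      · exact h'
    have hdet : (h : Matrix (Fin 2) (Fin 2) F).det ≠ 0 := by
      have := Matrix.GeneralLinearGroup.det_ne_zero h
      exact this
    rw [Matrix.det_fin_two, z01, z10] at hdet
    simp only [mul_zero, sub_zero] at hdet
    have n00 : (h : Matrix (Fin 2) (Fin 2) F) 0 0 ≠ 0 := left_ne_zero_of_mul hdet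
    have n11 : (h : Matrix (Fin 2) (Fin 2) F) 1 1 ≠ 0 := right_ne_zero_of_mul hdet
    refine ⟨(Units.mk0 _ n00, Units.mk0 _ n11), ?_⟩
    apply Subtype.ext
    apply Matrix.GeneralLinearGroup.ext
    intro i j
    fin_cases i <;> fin_cases j <;> simp [f, Matrix.GeneralLinearGroup.mkOfDetNeZero, z01, z10]
  rw [← Nat.card_congr (Equiv.ofBijective f ⟨hinj, hsurj⟩), Nat.card_prod, Nat.card_eq_fintype_card,
    Fintype.card_units, sq]


lemma eig_contra {F : Type*} [Field F] (g : Matrix (Fin 2) (Fin 2) F)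
    (hE : ∀ (c : F) (v : Fin 2 → F), v ≠ 0 → g.mulVec v ≠ c • v) (c v0 v1 : F)
    (hv : v0 ≠ 0 ∨ v1 ≠ 0) (e0 : g 0 0 * v0 + g 0 1 * v1 = c * v0)
    (e1 : g 1 0 * v0 + g 1 1 * v1 = c * v1) : False := by
  apply hE c ![v0, v1]
  · intro h
    have h0 := congrFun h 0
    have h1 := congrFun h 1
    simp at h0 h1
    rcases hv with hv | hv
    · exact hv h0
    · exact hv h1
  · funext i
    fin_cases i
    · simpa [Matrix.mulVec, dotProduct, Fin.sum_univ_two] using e0
    · simpa [Matrix.mulVec, dotProduct, Fin.sum_univ_two] using e1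

lemma c_ne {F : Type*} [Field F] (g : Matrix (Fin 2) (Fin 2) F)
    (hE : ∀ (c : F) (v : Fin 2 → F), v ≠ 0 → g.mulVec v ≠ c • v) : g 1 0 ≠ 0 := by
  intro h
  exact eig_contra g hE (g 0 0) 1 0 (Or.inl one_ne_zero) (by simp) (by simp [h])

lemma det_ne {F : Type*} [Field F] (g : Matrix (Fin 2) (Fin 2) F)
    (hE : ∀ (c : F) (v : Fin 2 → F), v ≠ 0 → g.mulVec v ≠ c • v) (x y : F)
    (hxy : x ≠ 0 ∨ y ≠ 0) :
    (x + y * g 0 0) * (x + y * g 1 1) - (y * g 0 1) * (y * g 1 0) ≠ 0 := by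
  intro hdet
  have hc := c_ne g hE
  by_cases hy : y = 0
  · subst hy
    simp at hdet
    rcases hxy with h | h
    · exact h hdet
    · exact h rfl
  · apply eig_contra g hE (-x / y) (x + y * g 1 1) (-(y * g 1 0))
      (Or.inr (neg_ne_zero.mpr (mul_ne_zero hy hc)))
    · field_simp
      linear_combination hdet
    · field_simp
      ring

theorem partB {F : Type*} [Field F] [Fintype F] (g : GL (Fin 2) F)
    (hE : ∀ (c : F) (v : Fin 2 → F), v ≠ 0 → (g : Matrix (Fin 2) (Fin 2) F).mulVec v ≠ c • v) :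
    Nat.card (Subgroup.centralizer ({g} : Set (GL (Fin 2) F))) = Fintype.card F ^ 2 - 1 := by
  classical
  have hc := c_ne _ hE
  let f : {p : F × F // p ≠ 0} → Subgroup.centralizer ({g} : Set (GL (Fin 2) F)) := fun p =>
    ⟨Matrix.GeneralLinearGroup.mkOfDetNeZero
      !![p.1.1 + p.1.2 * (g : Matrix (Fin 2) (Fin 2) F) 0 0, p.1.2 * (g : Matrix (Fin 2) (Fin 2) F) 0 1;
         p.1.2 * (g : Matrix (Fin 2) (Fin 2) F) 1 0, p.1.1 + p.1.2 * (g : Matrix (Fin 2) (Fin 2) F) 1 1]
      (by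
        rw [Matrix.det_fin_two_of]
        apply det_ne _ hE
        by_contra hcon
        obtain ⟨h1, h2⟩ := not_or.mp hcon
        exact p.2 (Prod.ext (not_not.mp h1) (not_not.mp h2))), by
      rw [mem_cent, comm_iff, coe_mk]
      simp only [Matrix.of_apply, Matrix.cons_val', Matrix.cons_val_zero, Matrix.cons_val_one,
        Matrix.empty_val', Matrix.cons_val_fin_one]
      refine ⟨?_, ?_, ?_, ?_⟩ <;> ring⟩
  have hinj : Function.Injective f := by
    rintro ⟨⟨x, y⟩, hp⟩ ⟨⟨x', y'⟩, hp'⟩ h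
    have h1 := congrArg (fun x : Subgroup.centralizer ({g} : Set (GL (Fin 2) F)) =>
      ((x : GL (Fin 2) F) : Matrix (Fin 2) (Fin 2) F)) h
    simp only [f, Matrix.GeneralLinearGroup.mkOfDetNeZero] at h1
    have e0 := congrFun (congrFun h1 0) 0
    have e1 := congrFun (congrFun h1 1) 0
    simp at e0 e1
    have hy : y = y' := by
      rcases e1 with e1 | e1
      · exact e1
      · exact absurd e1 hc
    subst hy
    have hx : x = x' := by simpa using e0
    subst hx
    rfl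
  have hsurj : Function.Surjective f := by
    rintro ⟨h, hh⟩
    rw [mem_cent, comm_iff] at hh
    obtain ⟨e1, -, e3, -⟩ := hh
    set y := (h : Matrix (Fin 2) (Fin 2) F) 1 0 / (g : Matrix (Fin 2) (Fin 2) F) 1 0 with hy
    set x := (h : Matrix (Fin 2) (Fin 2) F) 0 0 - y * (g : Matrix (Fin 2) (Fin 2) F) 0 0 with hx
    have hyc : y * (g : Matrix (Fin 2) (Fin 2) F) 1 0 = (h : Matrix (Fin 2) (Fin 2) F) 1 0 := by
      rw [hy]; field_simp
    have h00 : (h : Matrix (Fin 2) (Fin 2) F) 0 0 = x + y * (g : Matrix (Fin 2) (Fin 2) F) 0 0 := by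
      rw [hx]; ring
    have h01 : (h : Matrix (Fin 2) (Fin 2) F) 0 1 = y * (g : Matrix (Fin 2) (Fin 2) F) 0 1 := by
      rw [hy]; field_simp; linear_combination -e1
    have h11 : (h : Matrix (Fin 2) (Fin 2) F) 1 1 = x + y * (g : Matrix (Fin 2) (Fin 2) F) 1 1 := by
      rw [hx, hy]; field_simp; linear_combination -e3
    have hp : (x, y) ≠ (0 : F × F) := by
      intro hxy
      have hx0 : x = 0 := congrArg Prod.fst hxy
      have hy0 : y = 0 := congrArg Prod.snd hxy
      have hdet : (h : Matrix (Fin 2) (Fin 2) F).det ≠ 0 := Matrix.GeneralLinearGroup.det_ne_zero h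
      apply hdet
      rw [Matrix.det_fin_two, h01, h11, h00, ← hyc, hx0, hy0]
      ring
    refine ⟨⟨(x, y), hp⟩, ?_⟩
    apply Subtype.ext
    apply Matrix.GeneralLinearGroup.ext
    intro i j
    simp only [f, coe_mk]
    fin_cases i <;> fin_cases j
    · simpa using h00.symm
    · simpa using h01.symm
    · simpa using hyc
    · simpa using h11.symm
  rw [← Nat.card_congr (Equiv.ofBijective f ⟨hinj, hsurj⟩), Nat.card_eq_fintype_card,
    Fintype.card_subtype_compl, Fintype.card_subtype_eq, Fintype.card_prod, sq]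

theorem result {F : Type*} [Field F] [Fintype F] (g : Matrix.GeneralLinearGroup (Fin 2) F) :
    ((g : Matrix (Fin 2) (Fin 2) F) 0 1 = 0 → (g : Matrix (Fin 2) (Fin 2) F) 1 0 = 0 → (g : Matrix (Fin 2) (Fin 2) F) 0 0 ≠ (g : Matrix (Fin 2) (Fin 2) F) 1 1 →
      Nat.card (Subgroup.centralizer ({g} : Set (Matrix.GeneralLinearGroup (Fin 2) F))) = (Fintype.card F - 1) ^ 2) ∧
    ((∀ (c : F) (v : Fin 2 → F), v ≠ 0 → (g : Matrix (Fin 2) (Fin 2) F).mulVec v ≠ c • v) →
      Nat.card (Subgroup.centralizer ({g} : Set (Matrix.GeneralLinearGroup (Fin 2) F))) = Fintype.card F ^ 2 - 1) :=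
  ⟨partA g, partB g⟩

end Cfsg.Agent.S2303
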