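import Cfsg.Statements.S2306
import Mathlib
import Cfsg.Agent.Lib.Helper38.SL2Borel
import Cfsg.Agent.Lib.Helper38.GL2Borel
import Cfsg.Agent.Lib.Helper15.NormOne

set_option autoImplicit false
open Cfsg

namespace Cfsg.Agent.S2306

open Matrix Cfsg.Agent.Helper38.SL2
open Cfsg.Agent.Helper38 (conj_mulChar mulChar_mul_inv_unit sum_units_mulChar)
open scoped ComplexConjugate

variable {F : Type*} [Field F] [Fintype F] [DecidableEq F]

lemma I1_eq (α : MulChar F ℂ) (a : Fˣ) (ha : a⁻¹ = a) (c : F) :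
    indFun (B1 F) (θ1 α) (bmat1 a c) = (1 + if c = 0 then (Fintype.card F : ℂ) else 0) * α a := by
  by_cases hc : c = 0
  · subst hc
    rw [I1_central α a ha, if_pos rfl]
    ring
  · rw [I1_unip α a ha c hc, if_neg hc]
    ring

lemma T1_eq (α : MulChar F ℂ) (a : Fˣ) :
    ∑ c : F, θ1 α (toB1 (a, c)) * conj (indFun (B1 F) (θ1 α) (toB1 (a, c) : Matrix.SpecialLinearGroup (Fin 2) F)) =
      (Fintype.card F : ℂ) * (1 + (α ^ 2) a) := by
  have hθ : ∀ c : F, θ1 α (toB1 (a, c)) = α a := by
    intro c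
    simp [θ1, toB1]
  simp_rw [hθ]
  have hcoe : ∀ c : F, ((toB1 (a, c) : B1 F) : Matrix.SpecialLinearGroup (Fin 2) F) = bmat1 a c := fun c => rfl
  simp_rw [hcoe]
  have e1 := mulChar_mul_inv_unit α a
  have hpow : (α ^ 2) (a : F) = α a * α a := by
    rw [MulChar.pow_apply_coe, pow_two]
  by_cases ha : a⁻¹ = a
  · simp_rw [I1_eq α a ha]
    have h1 : ∀ c : F, α a * conj ((1 + if c = 0 then (Fintype.card F : ℂ) else 0) * α a)
        = 1 + if c = 0 then (Fintype.card F : ℂ) else 0 := by
      intro c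
      rw [map_mul, conj_mulChar]
      have e3 : conj (1 + if c = 0 then (Fintype.card F : ℂ) else 0) =
          1 + if c = 0 then (Fintype.card F : ℂ) else 0 := by
        split_ifs <;> simp
      rw [e3]
      calc α a * ((1 + if c = 0 then (Fintype.card F : ℂ) else 0) * α⁻¹ a)
          = (1 + if c = 0 then (Fintype.card F : ℂ) else 0) * (α a * α⁻¹ a) := by ring
        _ = _ := by rw [e1]; ring
    simp_rw [h1]
    rw [Finset.sum_add_distrib, Finset.sum_const, Finset.sum_ite_eq', Finset.card_univ, nsmul_eq_mul]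
    simp only [Finset.mem_univ, if_true]
    have haa : α a * α a = 1 := by
      have : (a : F) * a = 1 := by
        rw [← Units.val_mul]
        nth_rw 1 [← ha]
        simp
      rw [← map_mul, this, map_one]
    rw [hpow, haa]
    ring
  · simp_rw [I1_split α a ha]
    rw [Finset.sum_const, Finset.card_univ, nsmul_eq_mul]
    congr 1
    rw [map_add, conj_mulChar, conj_mulChar, MulChar.inv_apply' α ((a⁻¹ : Fˣ) : F), hpow]
    simp only [Units.val_inv_eq_inv_val, inv_inv]
    rw [mul_add, e1]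

theorem norm_eq (α : MulChar F ℂ) :
    classInner (indFun (B1 F) (θ1 α)) (indFun (B1 F) (θ1 α)) = 1 + (if α ^ 2 = 1 then 1 else 0) := by
  haveI : Fintype (B1 F) := Fintype.ofFinite _
  rw [Cfsg.Agent.Helper81.frobenius_reciprocity _ _ (Cfsg.Agent.Helper81.indFun_isClassFunction _ _)]
  unfold classInner
  rw [← Function.Bijective.sum_comp toB1_bijective, Fintype.sum_prod_type]
  simp_rw [T1_eq]
  rw [← Finset.mul_sum, Finset.sum_add_distrib, Finset.sum_const, Finset.card_univ, nsmul_eq_mul,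
    mul_one, card_B1]
  have hn : (Fintype.card Fˣ : ℂ) ≠ 0 := by
    have : Fintype.card Fˣ ≠ 0 := Fintype.card_pos.ne'
    exact_mod_cast this
  have hq : (Fintype.card F : ℂ) ≠ 0 := by
    have : Fintype.card F ≠ 0 := Fintype.card_pos.ne'
    exact_mod_cast this
  by_cases h : α ^ 2 = 1
  · rw [if_pos h, h]
    simp only [MulChar.one_apply_coe, Finset.sum_const, Finset.card_univ, nsmul_eq_mul, mul_one]
    push_cast
    field_simp
  · rw [if_neg h, sum_units_mulChar _ h]
    push_cast
    field_simp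
    ring

theorem result {F : Type*} [Field F] [Fintype F] [DecidableEq F] (α : MulChar F ℂ) :
    Cfsg.IsIrrCharacter (Matrix.SpecialLinearGroup (Fin 2) F) (Cfsg.indFun ((Cfsg.upperTriangularGL 2 F).comap Matrix.SpecialLinearGroup.toGL) (fun b => α (((b : Matrix.SpecialLinearGroup (Fin 2) F) : Matrix (Fin 2) (Fin 2) F) 0 0))) ↔ α ^ 2 ≠ 1 := by
  change IsIrrCharacter _ (indFun (B1 F) (θ1 α)) ↔ _
  constructor
  · intro hirr h
    have h1 := Cfsg.Agent.Helper81.irr_orthonormal hirr hirr
    rw [norm_eq, if_pos h, if_pos rfl] at h1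
    norm_num at h1
  · intro h
    apply Cfsg.Agent.Helper15.isIrrCharacter_of_classInner_eq_one
      (Cfsg.Agent.Helper81.isCharacter_indFun _ (θ1_isCharacter α))
    rw [norm_eq, if_neg h, add_zero]

end Cfsg.Agent.S2306
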