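import Cfsg.Statements.S2307
import Mathlib
import Cfsg.Agent.S2304
import Cfsg.Agent.S2306
import Cfsg.Agent.Lib.Helper38.NormTwo
import Cfsg.Agent.Lib.Helper38.SL2inGL2
import Cfsg.Agent.Lib.Helper81.CharCorr

set_option autoImplicit false
open Cfsg

namespace Cfsg.Agent.S2307

open Matrix Cfsg.Agent.Helper38.SL2
open Cfsg.Agent.Helper38 (θ N ι ι_coe ind_restrict exists_two_irr_of_classInner_eq_two)
open Cfsg.Agent.Helper81

/-- Over a finite field F with q elements, q odd, let α be the multiplicative character of F of order 2. The character of SL₂ induced from the linear character b ↦ α(b₁₁) of the upper triangular subgroup is the sum of two distinct irreducible characters, each of degree (q + 1)/2, which are conjugate under GL₂: some fixed element of GL₂ conjugates the one into the other. -/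
theorem result {F : Type*} [Field F] [Fintype F] [DecidableEq F] (hodd : Odd (Fintype.card F)) (α : MulChar F ℂ)
    (hα : α ^ 2 = 1) (hα1 : α ≠ 1) :
    ∃ χ₁ χ₂ : Matrix.SpecialLinearGroup (Fin 2) F → ℂ, Cfsg.IsIrrCharacter (Matrix.SpecialLinearGroup (Fin 2) F) χ₁ ∧ Cfsg.IsIrrCharacter (Matrix.SpecialLinearGroup (Fin 2) F) χ₂ ∧ χ₁ ≠ χ₂ ∧
      Cfsg.indFun ((Cfsg.upperTriangularGL 2 F).comap Matrix.SpecialLinearGroup.toGL) (fun b => α (((b : Matrix.SpecialLinearGroup (Fin 2) F) : Matrix (Fin 2) (Fin 2) F) 0 0)) = χ₁ + χ₂ ∧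
      χ₁ 1 = (((Fintype.card F + 1) / 2 : ℕ) : ℂ) ∧ χ₂ 1 = (((Fintype.card F + 1) / 2 : ℕ) : ℂ) ∧
      ∃ x : Matrix.GeneralLinearGroup (Fin 2) F, ∀ g h : Matrix.SpecialLinearGroup (Fin 2) F,
        Matrix.SpecialLinearGroup.toGL h = x * Matrix.SpecialLinearGroup.toGL g * x⁻¹ → χ₂ h = χ₁ g := by
  change ∃ χ₁ χ₂ : Matrix.SpecialLinearGroup (Fin 2) F → ℂ, _ ∧ _ ∧ _ ∧
    indFun (B1 F) (θ1 α) = χ₁ + χ₂ ∧ _
  have : Fintype (B1 F) := Fintype.ofFinite _
  have : Fintype (N F) := Fintype.ofFinite _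
  have hψ : IsCharacter _ (indFun (B1 F) (θ1 α)) := isCharacter_indFun _ (θ1_isCharacter α)
  have hnorm : classInner (indFun (B1 F) (θ1 α)) (indFun (B1 F) (θ1 α)) = 2 := by
    rw [Cfsg.Agent.S2306.norm_eq, if_pos hα]; norm_num
  obtain ⟨χ₁, χ₂, h₁, h₂, hne, hsum⟩ := exists_two_irr_of_classInner_eq_two hψ hnorm
  -- the irreducible character of GL₂
  have hΘ : IsIrrCharacter _ (indFun (upperTriangularGL 2 F) (θ α 1)) :=
    Cfsg.Agent.S2304.result α 1 hα1
  set Θ := indFun (upperTriangularGL 2 F) (θ α 1) with hΘdef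
  have hN : (N F).Normal := MonoidHom.normal_ker _
  -- transport to N
  set χ₁' : N F → ℂ := fun n => χ₁ (ι.symm n) with hχ₁'
  set χ₂' : N F → ℂ := fun n => χ₂ (ι.symm n) with hχ₂'
  have h₁' : IsIrrCharacter (N F) χ₁' := isIrrCharacter_comp_equiv ι.symm h₁
  have h₂' : IsIrrCharacter (N F) χ₂' := isIrrCharacter_comp_equiv ι.symm h₂
  have hres : (fun n : N F => Θ n) = fun n => (χ₁ + χ₂) (ι.symm n) := by
    funext n
    obtain ⟨s, rfl⟩ := ι.surjective n
    rw [MulEquiv.symm_apply_apply, ι_coe, hΘdef, ind_restrict, hsum]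
  have hin : ∀ χ : Matrix.SpecialLinearGroup (Fin 2) F → ℂ,
      classInner (fun n : N F => Θ n) (fun n => χ (ι.symm n)) = classInner (χ₁ + χ₂) χ := by
    intro χ
    rw [hres]
    exact classInner_comp_equiv ι.symm (χ₁ + χ₂) χ
  have hin1 : classInner (fun n : N F => Θ n) χ₁' ≠ 0 := by
    rw [hχ₁', hin, classInner_add_left, irr_orthonormal h₁ h₁, irr_orthonormal h₂ h₁, if_pos rfl,
      if_neg (Ne.symm hne)]
    norm_num
  have hin2 : classInner (fun n : N F => Θ n) χ₂' ≠ 0 := by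
    rw [hχ₂', hin, classInner_add_left, irr_orthonormal h₁ h₂, irr_orthonormal h₂ h₂, if_pos rfl,
      if_neg hne]
    norm_num
  have hconj : ∃ g : GL (Fin 2) F, χ₂' = conjFun (N F) hN χ₁' g := by
    by_contra hnc
    exact hin2 (clifford_not_conj (N F) hN hΘ h₁' h₂' hin1 hnc)
  obtain ⟨g₀, hg₀⟩ := hconj
  -- the conjugation statement
  have hconj' : ∀ g h : Matrix.SpecialLinearGroup (Fin 2) F,
      Matrix.SpecialLinearGroup.toGL h = g₀⁻¹ * Matrix.SpecialLinearGroup.toGL g * g₀⁻¹⁻¹ →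
        χ₂ h = χ₁ g := by
    intro g h hgh
    have e1 : χ₂ h = χ₂' (ι h) := by rw [hχ₂']; simp
    rw [e1, hg₀, conjFun_apply, hχ₁']
    simp only
    congr 1
    apply ι.injective
    rw [MulEquiv.apply_symm_apply]
    apply Subtype.ext
    change g₀ * ((ι h : N F) : GL (Fin 2) F) * g₀⁻¹ = ((ι g : N F) : GL (Fin 2) F)
    rw [ι_coe, ι_coe, hgh]
    simp [mul_assoc]
  have hdeg_eq : χ₂ 1 = χ₁ 1 := by
    apply hconj' 1 1
    simp
  have hdeg_sum : χ₁ 1 + χ₂ 1 = (Fintype.card F : ℂ) + 1 := by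
    have h := congrFun hsum 1
    have hb : (bmat1 (1 : Fˣ) (0 : F)) = (1 : Matrix.SpecialLinearGroup (Fin 2) F) := by
      apply Subtype.ext
      ext i j
      fin_cases i <;> fin_cases j <;> simp [bmat1]
    have h2 := I1_central α (1 : Fˣ) (by simp)
    rw [hb] at h2
    rw [h2] at h
    simp only [Units.val_one, map_one, mul_one, Pi.add_apply] at h
    exact h.symm
  have hhalf : χ₁ 1 = (((Fintype.card F + 1) / 2 : ℕ) : ℂ) := by
    obtain ⟨k, hk⟩ := hodd
    rw [hdeg_eq] at hdeg_sum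
    have h3 : (Fintype.card F + 1) / 2 = k + 1 := by omega
    have h4 : (Fintype.card F : ℂ) = 2 * k + 1 := by exact_mod_cast hk
    rw [h3]
    rw [h4] at hdeg_sum
    push_cast
    linear_combination hdeg_sum / 2
  refine ⟨χ₁, χ₂, h₁, h₂, hne, hsum, hhalf, hdeg_eq.trans hhalf, g₀⁻¹, hconj'⟩

end Cfsg.Agent.S2307
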