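import Cfsg.Statements.S2315
import Mathlib
import Cfsg.Agent.Lib.Helper42.Fitting3

set_option autoImplicit false
open Cfsg

namespace Cfsg.Agent.S2315

open Cfsg.Agent.Helper42

section

variable {F : Type*} [Field F] [Fintype F] (p : ℕ) [Fact p.Prime] [CharP F p] (n : ℕ)

lemma unip_iff [NeZero n] (g : Matrix.GeneralLinearGroup (Fin n) F) :
    (∃ k : ℕ, orderOf g = p ^ k) ↔ IsNilpotent (g.val - 1) := by
  have hp : p.Prime := Fact.out
  have key : ∀ k : ℕ, (g.val - 1) ^ p ^ k = g.val ^ p ^ k - 1 := by
    intro k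
    rw [sub_pow_char_pow_of_commute p k (Commute.one_right _), one_pow]
  constructor
  · rintro ⟨k, hk⟩
    refine ⟨p ^ k, ?_⟩
    rw [key, ← Units.val_pow_eq_pow_val, ← hk, pow_orderOf_eq_one]
    simp
  · rintro ⟨m, hm⟩
    have hle : m ≤ p ^ m := (Nat.lt_pow_self hp.one_lt).le
    have h1 : (g.val - 1) ^ p ^ m = 0 := by
      obtain ⟨d, hd⟩ := Nat.exists_eq_add_of_le hle
      rw [hd, pow_add, hm, zero_mul]
    rw [key, sub_eq_zero] at h1
    have h2 : g ^ p ^ m = 1 := by
      apply Units.ext
      rw [Units.val_pow_eq_pow_val, h1]; rfl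
    exact (Nat.dvd_prime_pow hp).mp (orderOf_dvd_of_pow_eq_one h2) |>.imp fun j hj => hj.2

/-- the unit attached to a nilpotent matrix -/
noncomputable def unitOfNil {n : ℕ} (N : Matrix (Fin n) (Fin n) F) (hN : IsNilpotent N) :
    Matrix.GeneralLinearGroup (Fin n) F := (hN.isUnit_one_add).unit

lemma unitOfNil_val {n : ℕ} (N : Matrix (Fin n) (Fin n) F) (hN : IsNilpotent N) :
    (unitOfNil N hN).val = 1 + N := rfl

lemma card_unip [NeZero n] :
    Nat.card {g : Matrix.GeneralLinearGroup (Fin n) F // ∃ k : ℕ, orderOf g = p ^ k} =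
      Nat.card {N : Matrix (Fin n) (Fin n) F // IsNilpotent N} := by
  apply Nat.card_congr
  exact
    { toFun := fun g => ⟨g.1.val - 1, (unip_iff p n g.1).mp g.2⟩
      invFun := fun N => ⟨unitOfNil N.1 N.2, (unip_iff p n _).mpr (by
        rw [unitOfNil_val]; simpa using N.2)⟩
      left_inv := fun g => by
        apply Subtype.ext
        apply Units.ext
        simp [unitOfNil_val]
      right_inv := fun N => by
        apply Subtype.ext
        simp [unitOfNil_val] }

end

/-- Steinberg's count of unipotent elements for the general linear group: over a finite field with q elements of characteristic p, the number of elements of GL_n of p-power order (the unipotent matrices) is q^(n(n−1)). -/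
theorem result {F : Type*} [Field F] [Fintype F] (p : ℕ) [Fact p.Prime] [CharP F p] (n : ℕ) :
    Nat.card {g : Matrix.GeneralLinearGroup (Fin n) F // ∃ k : ℕ, orderOf g = p ^ k} = Fintype.card F ^ (n * (n - 1)) := by
  rcases Nat.eq_zero_or_pos n with rfl | hn
  · have : Unique {g : Matrix.GeneralLinearGroup (Fin 0) F // ∃ k : ℕ, orderOf g = p ^ k} :=
      { default := ⟨1, 0, by simp⟩
        uniq := fun g => Subtype.ext (Subsingleton.elim _ _) }
    rw [Nat.card_unique]
    simp
  · haveI : NeZero n := ⟨hn.ne'⟩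
    rw [card_unip p n, card_nilpotent_matrix]

end Cfsg.Agent.S2315
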