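import Cfsg.Statements.S2317
import Mathlib
import Cfsg.Agent.Lib.Helper42.Jordan6

set_option autoImplicit false
open Cfsg

namespace Cfsg.Agent.S2317

open Cfsg.Agent.Helper42.Jordan

/-- Over a finite field of characteristic p, the conjugacy classes of GL_n consisting of elements of p-power order (the unipotent classes) are as many as the partitions of n. -/
theorem result {F : Type*} [Field F] [Fintype F] (p : ℕ) [Fact p.Prime] [CharP F p] (n : ℕ) :
    Nat.card {C : ConjClasses (Matrix.GeneralLinearGroup (Fin n) F) //
      ∃ g : Matrix.GeneralLinearGroup (Fin n) F, (∃ k : ℕ, orderOf g = p ^ k) ∧ ConjClasses.mk g = C} =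
      Fintype.card (Nat.Partition n) := by
  have h1 := card_classes (F := F) (n := n) (fun _ => True)
  rw [← Nat.card_eq_fintype_card, ← Nat.card_congr (Equiv.subtypeUnivEquiv (fun _ => trivial) :
    {μ : Nat.Partition n // True} ≃ Nat.Partition n), ← h1]
  apply Nat.card_congr
  apply Equiv.subtypeEquivRight
  intro C
  constructor
  · rintro ⟨g, hg, rfl⟩
    exact ⟨g, rfl, (exists_orderOf_pow_iff p g).mp hg, trivial⟩
  · rintro ⟨g, rfl, hg, _⟩
    exact ⟨g, (exists_orderOf_pow_iff p g).mpr hg, rfl⟩

end Cfsg.Agent.S2317
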