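import Cfsg.Statements.S2324
import Mathlib
import Cfsg.Agent.S2322
import Cfsg.Agent.S2299
import Cfsg.Agent.Lib.Helper38.SL2Half

set_option autoImplicit false
set_option linter.unusedSectionVars false
open Cfsg

namespace Cfsg.Agent.S2324

open Matrix Cfsg.Agent.Helper38 Cfsg.Agent.Helper81
open Cfsg.Agent.Helper3 (fintypeIrr)
open Cfsg.Agent.S2305 (dg e dg00 dg01 dg10 dg11)
open Cfsg.Agent.S2322 (fam_of_deg)

section

variable {F : Type*} [Field F] [Fintype F] [DecidableEq F] [Fintype (N F)]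

/-- the partner of a character of half degree -/
theorem half_data (hodd : Odd (Fintype.card F)) (hq : 5 ≤ Fintype.card F)
    (u : Matrix.SpecialLinearGroup (Fin 2) F) (hu : (u : Matrix (Fin 2) (Fin 2) F) = !![1, 1; 0, 1])
    {χ : Matrix.SpecialLinearGroup (Fin 2) F → ℂ}
    (hχ : IsIrrCharacter (Matrix.SpecialLinearGroup (Fin 2) F) χ) (k : ℕ) (s : ℂ)
    (hk : (2 * k = Fintype.card Fˣ + 2 ∧ s = 1) ∨ (2 * k = Fintype.card Fˣ ∧ s = -1))
    (hdeg : χ 1 = (k : ℂ)) :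
    ∃ χ' : Matrix.SpecialLinearGroup (Fin 2) F → ℂ,
      IsIrrCharacter (Matrix.SpecialLinearGroup (Fin 2) F) χ' ∧ χ ≠ χ' ∧ χ' 1 = (k : ℂ) ∧
      χ u + χ' u = s ∧
      (χ u - χ' u) ^ 2 = (-1 : ℂ) ^ ((Fintype.card F - 1) / 2) * (Fintype.card F : ℂ) := by
  classical
  have hF := card_F_eq (F := F)
  have hn : 4 ≤ Fintype.card Fˣ := by omega
  have hψ : IsIrrCharacter (N F) (fun n => χ (ι.symm n)) := isIrrCharacter_comp_equiv ι.symm hχ
  have hχ' : ∀ s, χ s = (fun n => χ (ι.symm n)) (ι s) := by intro s; simp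
  have hιu : (ι u : N F) = uN := by
    apply Subtype.ext
    rw [ι_coe]
    apply Matrix.GeneralLinearGroup.ext
    intro i j
    rw [Matrix.SpecialLinearGroup.coe_GL_coe_matrix, hu]
    change _ = ((un 1 : GL (Fin 2) F) : Matrix (Fin 2) (Fin 2) F) i j
    rw [un_coe]
  generalize (fun n => χ (ι.symm n)) = ψ at hψ hχ'
  obtain ⟨X, hX, hcase⟩ := over_cases hψ
  rcases hcase with hres | ⟨-, ε, hε, hs, ψ', hψ', hneψ, hsum, t, ht⟩
  · exfalso
    have hX1 : X 1 = (k : ℂ) := by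
      have := congrFun hres 1
      simp only [OneMemClass.coe_one] at this
      rw [this, ← hdeg, hχ' 1, map_one]
    rcases fam_of_deg hX k hX1 with ⟨h1, -⟩ | ⟨h1, -⟩ | ⟨h1, -⟩ | ⟨h1, -⟩ <;>
      rcases hk with ⟨h2, -⟩ | ⟨h2, -⟩ <;> omega
  · have hψ1 : ψ' 1 = ψ 1 := by
      rw [ht, conjFun_comm' ψ t 1 (by simp)]
    have hψk : ψ 1 = (k : ℂ) := by rw [← hdeg, hχ' 1, map_one]
    have hX1 : X 1 = ((2 * k : ℕ) : ℂ) := by
      have := congrFun hsum 1
      simp only [OneMemClass.coe_one, Pi.add_apply] at this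
      rw [this, hψ1, hψk]
      push_cast
      ring
    have hXu : X (un 1) = ψ uN + ψ' uN := by
      have := congrFun hsum uN
      simp only [Pi.add_apply] at this
      exact this
    refine ⟨fun s => ψ' (ι s), isIrrCharacter_comp_equiv ι hψ', ?_, ?_, ?_, ?_⟩
    · intro he
      apply hneψ
      funext n
      have := congrFun he (ι.symm n)
      rw [hχ'] at this
      simpa using this
    · simp only [map_one]
      rw [hψ1, hψk]
    · simp only
      rw [hχ' u, hιu, ← hXu]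
      have hc := Cfsg.Agent.S2310.un_cases (⟨X, hX⟩ : IrrCharacter (GL (Fin 2) F))
      have hd := Cfsg.Agent.S2323.deg_of_eq hX _ hX1
      simp only at hc
      rcases hk with ⟨h2, rfl⟩ | ⟨h2, rfl⟩
      · rcases hc with ⟨h3, h4⟩ | ⟨h3, h4⟩ | ⟨h3, h4⟩ | ⟨h3, h4⟩
        · omega
        · omega
        · exact h4
        · omega
      · rcases hc with ⟨h3, h4⟩ | ⟨h3, h4⟩ | ⟨h3, h4⟩ | ⟨h3, h4⟩
        · omega
        · omega
        · omega
        · exact h4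
    · simp only
      rw [hχ' u, hιu]
      exact sq_diff hodd hε hψ hψ' hneψ t ht

/-- in a type with two elements, three elements cannot be pairwise distinct -/
lemma eq_of_card_two {α : Type*} (h : Nat.card α = 2) (a b c : α) (hab : a ≠ b) (hac : a ≠ c) :
    b = c := by
  obtain ⟨x, y, hxy, huniv⟩ := Nat.card_eq_two_iff.mp h
  have hmem : ∀ z : α, z = x ∨ z = y := by
    intro z
    have : z ∈ ({x, y} : Set α) := by rw [huniv]; exact Set.mem_univ z
    simpa using this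
  rcases hmem a with rfl | rfl <;> rcases hmem b with rfl | rfl <;> rcases hmem c with rfl | rfl <;>
    first | rfl | exact absurd rfl hab | exact absurd rfl hac

end

/-- Over a finite field F with q elements, q odd and q ≥ 5, let u be the upper unitriangular matrix of SL₂ with off-diagonal entry 1 and let δ = (−1)^((q−1)/2). Every irreducible complex character χ of SL₂ of degree (q + 1)/2 satisfies (2χ(u) − 1)² = δq, and every irreducible complex character χ of degree (q − 1)/2 satisfies (2χ(u) + 1)² = δq; that is, χ(u) = (1 ± √(δq))/2 in the first case and χ(u) = (−1 ± √(δq))/2 in the second. Moreover two different irreducible characters of degree (q + 1)/2 take the two different values (their values at u add up to 1), and likewise for degree (q − 1)/2 (values adding up to −1). -/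
theorem result {F : Type*} [Field F] [Fintype F] (hodd : Odd (Fintype.card F)) (hq : 5 ≤ Fintype.card F)
    (u : Matrix.SpecialLinearGroup (Fin 2) F) (hu : (u : Matrix (Fin 2) (Fin 2) F) = !![1, 1; 0, 1]) :
    (∀ χ : Matrix.SpecialLinearGroup (Fin 2) F → ℂ, Cfsg.IsIrrCharacter (Matrix.SpecialLinearGroup (Fin 2) F) χ → χ 1 = (((Fintype.card F + 1) / 2 : ℕ) : ℂ) → (2 * χ u - 1) ^ 2 = (-1 : ℂ) ^ ((Fintype.card F - 1) / 2) * (Fintype.card F : ℂ)) ∧
    (∀ χ : Matrix.SpecialLinearGroup (Fin 2) F → ℂ, Cfsg.IsIrrCharacter (Matrix.SpecialLinearGroup (Fin 2) F) χ → χ 1 = (((Fintype.card F - 1) / 2 : ℕ) : ℂ) → (2 * χ u + 1) ^ 2 = (-1 : ℂ) ^ ((Fintype.card F - 1) / 2) * (Fintype.card F : ℂ)) ∧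
    (∀ χ₁ χ₂ : Matrix.SpecialLinearGroup (Fin 2) F → ℂ, Cfsg.IsIrrCharacter (Matrix.SpecialLinearGroup (Fin 2) F) χ₁ → Cfsg.IsIrrCharacter (Matrix.SpecialLinearGroup (Fin 2) F) χ₂ → χ₁ ≠ χ₂ →
      χ₁ 1 = (((Fintype.card F + 1) / 2 : ℕ) : ℂ) → χ₂ 1 = (((Fintype.card F + 1) / 2 : ℕ) : ℂ) → χ₁ u + χ₂ u = 1) ∧
    (∀ χ₁ χ₂ : Matrix.SpecialLinearGroup (Fin 2) F → ℂ, Cfsg.IsIrrCharacter (Matrix.SpecialLinearGroup (Fin 2) F) χ₁ → Cfsg.IsIrrCharacter (Matrix.SpecialLinearGroup (Fin 2) F) χ₂ → χ₁ ≠ χ₂ →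
      χ₁ 1 = (((Fintype.card F - 1) / 2 : ℕ) : ℂ) → χ₂ 1 = (((Fintype.card F - 1) / 2 : ℕ) : ℂ) → χ₁ u + χ₂ u = -1) := by
  classical
  have : Fintype (N F) := Fintype.ofFinite _
  have hF := card_F_eq (F := F)
  obtain ⟨m, hm⟩ := hodd
  have hodd : Odd (Fintype.card F) := ⟨m, hm⟩
  have hk1 : 2 * ((Fintype.card F + 1) / 2) = Fintype.card Fˣ + 2 := by omega
  have hk2 : 2 * ((Fintype.card F - 1) / 2) = Fintype.card Fˣ := by omega
  obtain ⟨-, -, -, -, c5, c6⟩ := (Cfsg.Agent.S2299.result hodd).2 hq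
  refine ⟨?_, ?_, ?_, ?_⟩
  · intro χ hχ hdeg
    obtain ⟨χ', -, -, -, hsum, hsq⟩ := half_data hodd hq u hu hχ _ 1 (Or.inl ⟨hk1, rfl⟩) hdeg
    rw [← hsq]
    congr 1
    linear_combination hsum
  · intro χ hχ hdeg
    obtain ⟨χ', -, -, -, hsum, hsq⟩ := half_data hodd hq u hu hχ _ (-1) (Or.inr ⟨hk2, rfl⟩) hdeg
    rw [← hsq]
    congr 1
    linear_combination hsum
  · intro χ₁ χ₂ h₁ h₂ hne hd₁ hd₂
    obtain ⟨χ', hχ', hne', hd', hsum, -⟩ := half_data hodd hq u hu h₁ _ 1 (Or.inl ⟨hk1, rfl⟩) hd₁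
    have := eq_of_card_two c5 ⟨⟨χ₁, h₁⟩, hd₁⟩ ⟨⟨χ₂, h₂⟩, hd₂⟩ ⟨⟨χ', hχ'⟩, hd'⟩
      (by intro h; exact hne (congrArg (fun x => (x.1 : Matrix.SpecialLinearGroup (Fin 2) F → ℂ)) h))
      (by intro h; exact hne' (congrArg (fun x => (x.1 : Matrix.SpecialLinearGroup (Fin 2) F → ℂ)) h))
    have h2 : χ₂ = χ' := congrArg (fun x => (x.1 : Matrix.SpecialLinearGroup (Fin 2) F → ℂ)) this
    rw [h2]; exact hsum
  · intro χ₁ χ₂ h₁ h₂ hne hd₁ hd₂
    obtain ⟨χ', hχ', hne', hd', hsum, -⟩ := half_data hodd hq u hu h₁ _ (-1) (Or.inr ⟨hk2, rfl⟩) hd₁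
    have := eq_of_card_two c6 ⟨⟨χ₁, h₁⟩, hd₁⟩ ⟨⟨χ₂, h₂⟩, hd₂⟩ ⟨⟨χ', hχ'⟩, hd'⟩
      (by intro h; exact hne (congrArg (fun x => (x.1 : Matrix.SpecialLinearGroup (Fin 2) F → ℂ)) h))
      (by intro h; exact hne' (congrArg (fun x => (x.1 : Matrix.SpecialLinearGroup (Fin 2) F → ℂ)) h))
    have h2 : χ₂ = χ' := congrArg (fun x => (x.1 : Matrix.SpecialLinearGroup (Fin 2) F → ℂ)) this
    rw [h2]; exact hsum

end Cfsg.Agent.S2324
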