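import Cfsg.Statements.S2325
import Cfsg.Agent.Lib.Helper41.SL2ClassOdd

set_option autoImplicit false
open Cfsg

namespace Cfsg.Agent.S2325

open Matrix Cfsg.Agent.Helper41

theorem sum_card_centralizer (G : Type*) [Group G] [Fintype G] :
    ∑ g : G, Nat.card (Subgroup.centralizer ({g} : Set G)) =
      Nat.card (ConjClasses G) * Nat.card G := by
  classical
  rw [← card_comm_eq_card_conjClasses_mul_card,
    Nat.card_congr (Equiv.subtypeProdEquivSigmaSubtype (Commute (S := G))), Nat.card_sigma]
  apply Finset.sum_congr rfl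
  intro g _
  apply Nat.card_congr
  exact Equiv.subtypeEquivRight (fun b => by
    rw [Subgroup.mem_centralizer_singleton_iff]
    exact ⟨fun h => h.symm, fun h => h.symm⟩)

section main

variable {F : Type*} [Field F] [Fintype F] [DecidableEq F]

/-- `|C(g)| * |class of g| = |G|` -/
theorem card_centralizer_mul_ncard (g : SpecialLinearGroup (Fin 2) F) :
    Nat.card (Subgroup.centralizer ({g} : Set (SpecialLinearGroup (Fin 2) F))) *
      Set.ncard {Y : SpecialLinearGroup (Fin 2) F | IsConj g Y} =
      Fintype.card F * (Fintype.card F - 1) * (Fintype.card F + 1) := by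
  rw [← index_centralizer_eq_ncard, Subgroup.card_mul_index, card_sl2]

theorem sum_fiber_generic (s : F) (hs4 : s ^ 2 ≠ 4) :
    ∑ g ∈ Finset.univ.filter
        (fun g : SpecialLinearGroup (Fin 2) F => (g : Matrix (Fin 2) (Fin 2) F).trace = s),
      Nat.card (Subgroup.centralizer ({g} : Set (SpecialLinearGroup (Fin 2) F))) =
      Fintype.card F * (Fintype.card F - 1) * (Fintype.card F + 1) := by
  set Nf := Fintype.card F * (Fintype.card F - 1) +
      Fintype.card F * Fintype.card {a : F // a * (s - a) - 1 = 0} with hNf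
  have hcard : (Finset.univ.filter
      (fun g : SpecialLinearGroup (Fin 2) F => (g : Matrix (Fin 2) (Fin 2) F).trace = s)).card = Nf := by
    rw [hNf, ← ncard_trace_fiber' s, Set.ncard_eq_toFinset_card']
    congr 1
    ext g
    simp
  have hq : 2 ≤ Fintype.card F := Fintype.one_lt_card
  have hNfpos : 0 < Nf := by
    have : 0 < Fintype.card F * (Fintype.card F - 1) := by apply Nat.mul_pos <;> omega
    omega
  have hmul : (∑ g ∈ Finset.univ.filter
        (fun g : SpecialLinearGroup (Fin 2) F => (g : Matrix (Fin 2) (Fin 2) F).trace = s),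
      Nat.card (Subgroup.centralizer ({g} : Set (SpecialLinearGroup (Fin 2) F)))) * Nf =
      (Fintype.card F * (Fintype.card F - 1) * (Fintype.card F + 1)) * Nf := by
    rw [Finset.sum_mul]
    have : ∀ g ∈ Finset.univ.filter
        (fun g : SpecialLinearGroup (Fin 2) F => (g : Matrix (Fin 2) (Fin 2) F).trace = s),
        Nat.card (Subgroup.centralizer ({g} : Set (SpecialLinearGroup (Fin 2) F))) * Nf =
          Fintype.card F * (Fintype.card F - 1) * (Fintype.card F + 1) := by
      intro g hg
      rw [Finset.mem_filter] at hg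
      have h := card_centralizer_mul_ncard g
      rw [sl2_conj_class_eq g (by rw [hg.2]; exact hs4), hg.2, ncard_trace_fiber'] at h
      exact h
    rw [Finset.sum_congr rfl this, Finset.sum_const, hcard, smul_eq_mul, mul_comm]
  exact Nat.eq_of_mul_eq_mul_right hNfpos hmul

theorem card_roots_double (ε : F) (hε : ε ^ 2 = 1) :
    Fintype.card {a : F // a * (2 * ε - a) - 1 = 0} = 1 := by
  rw [Fintype.card_eq_one_iff]
  refine ⟨⟨ε, by linear_combination hε⟩, ?_⟩
  rintro ⟨a, ha⟩
  apply Subtype.ext
  simp only
  have h1 : (a - ε) ^ 2 = 0 := by linear_combination -ha + hε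
  exact sub_eq_zero.mp (pow_eq_zero_iff two_ne_zero |>.mp h1)

theorem sum_fiber_unip (h2 : (2 : F) ≠ 0) (ε : F) (hε : ε ^ 2 = 1) :
    ∑ g ∈ Finset.univ.filter
        (fun g : SpecialLinearGroup (Fin 2) F => (g : Matrix (Fin 2) (Fin 2) F).trace = 2 * ε),
      Nat.card (Subgroup.centralizer ({g} : Set (SpecialLinearGroup (Fin 2) F))) =
      3 * (Fintype.card F * (Fintype.card F - 1) * (Fintype.card F + 1)) := by
  have hq : 2 ≤ Fintype.card F := Fintype.one_lt_card
  obtain ⟨k, hk⟩ : ∃ k, Fintype.card F = k + 1 := ⟨Fintype.card F - 1, by omega⟩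
  have hk1 : 1 ≤ k := by omega
  have hcard : (Finset.univ.filter
      (fun g : SpecialLinearGroup (Fin 2) F =>
        (g : Matrix (Fin 2) (Fin 2) F).trace = 2 * ε)).card = (k + 1) ^ 2 := by
    have h := ncard_trace_fiber' (F := F) (2 * ε)
    rw [card_roots_double ε hε, Set.ncard_eq_toFinset_card', hk] at h
    simp only [Nat.add_sub_cancel, mul_one] at h
    have h3 : (k + 1) ^ 2 = (k + 1) * k + (k + 1) := by ring
    rw [h3, ← h]
    congr 1
    ext g
    simp
  have hzmem : unipSL ε 0 hε ∈ Finset.univ.filter
      (fun g : SpecialLinearGroup (Fin 2) F => (g : Matrix (Fin 2) (Fin 2) F).trace = 2 * ε) := by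
    simp only [Finset.mem_filter, Finset.mem_univ, true_and]
    simp [unipSL, Matrix.trace_fin_two]
    ring
  rw [← Finset.add_sum_erase _ _ hzmem]
  have hz : Nat.card (Subgroup.centralizer
      ({unipSL ε 0 hε} : Set (SpecialLinearGroup (Fin 2) F))) =
      Fintype.card F * (Fintype.card F - 1) * (Fintype.card F + 1) := by
    have htop : Subgroup.centralizer ({unipSL ε 0 hε} : Set (SpecialLinearGroup (Fin 2) F)) = ⊤ := by
      rw [eq_top_iff]
      intro Y _
      rw [Subgroup.mem_centralizer_singleton_iff]
      apply Subtype.ext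
      rw [Matrix.SpecialLinearGroup.coe_mul, Matrix.SpecialLinearGroup.coe_mul]
      ext i j
      fin_cases i <;> fin_cases j <;>
        simp [unipSL, Matrix.mul_apply, Fin.sum_univ_two] <;> ring
    rw [htop, Subgroup.card_top, card_sl2]
  have hrest : ∀ g ∈ (Finset.univ.filter
      (fun g : SpecialLinearGroup (Fin 2) F =>
        (g : Matrix (Fin 2) (Fin 2) F).trace = 2 * ε)).erase (unipSL ε 0 hε),
      Nat.card (Subgroup.centralizer ({g} : Set (SpecialLinearGroup (Fin 2) F))) =
        2 * Fintype.card F := by
    intro g hg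
    rw [Finset.mem_erase, Finset.mem_filter] at hg
    obtain ⟨hgz, -, htr⟩ := hg
    have hns : ¬ ((g : Matrix (Fin 2) (Fin 2) F) 0 1 = 0 ∧ (g : Matrix (Fin 2) (Fin 2) F) 1 0 = 0 ∧
        (g : Matrix (Fin 2) (Fin 2) F) 0 0 = (g : Matrix (Fin 2) (Fin 2) F) 1 1) := by
      rintro ⟨h01, h10, h00⟩
      apply hgz
      rw [Matrix.trace_fin_two, ← h00] at htr
      have h5 : (g : Matrix (Fin 2) (Fin 2) F) 0 0 = ε := by
        have : (2 : F) * ((g : Matrix (Fin 2) (Fin 2) F) 0 0 - ε) = 0 := by linear_combination htr
        rcases mul_eq_zero.mp this with h | h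
        · exact absurd h h2
        · exact sub_eq_zero.mp h
      apply Subtype.ext
      ext i j
      fin_cases i <;> fin_cases j <;> simp [unipSL, h01, h10, h5, ← h00]
    have h1 := card_centralizer_mul_ncard g
    have h3 := two_mul_ncard_class_unip h2 g ε hε htr hns
    rw [hk] at h1 h3 ⊢
    simp only [Nat.add_sub_cancel] at h1
    have h4 : (k + 1) ^ 2 - 1 = k * (k + 2) := by
      have : (k + 1) ^ 2 = k * (k + 2) + 1 := by ring
      rw [this, Nat.add_sub_cancel]
    rw [h4] at h3
    have hpos : 0 < k * (k + 2) := by positivity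
    apply Nat.eq_of_mul_eq_mul_right hpos
    calc Nat.card (Subgroup.centralizer ({g} : Set (SpecialLinearGroup (Fin 2) F))) * (k * (k + 2))
        = 2 * (Nat.card (Subgroup.centralizer ({g} : Set (SpecialLinearGroup (Fin 2) F))) *
            Set.ncard {Y : SpecialLinearGroup (Fin 2) F | IsConj g Y}) := by rw [← h3]; ring
      _ = 2 * (k + 1) * (k * (k + 2)) := by rw [h1]; ring
  rw [Finset.sum_congr rfl hrest, Finset.sum_const, Finset.card_erase_of_mem hzmem, hcard, hz, hk,
    smul_eq_mul]
  simp only [Nat.add_sub_cancel]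
  have h4 : (k + 1) ^ 2 - 1 = k * (k + 2) := by
    have : (k + 1) ^ 2 = k * (k + 2) + 1 := by ring
    rw [this, Nat.add_sub_cancel]
  rw [h4]
  ring

end main

/-- Over a finite field with q elements, q odd, the special linear group SL₂ has exactly q + 4 conjugacy classes. -/
theorem result {F : Type*} [Field F] [Fintype F] (hodd : Odd (Fintype.card F)) :
    Nat.card (ConjClasses (Matrix.SpecialLinearGroup (Fin 2) F)) = Fintype.card F + 4 := by
  classical
  have h2 : (2 : F) ≠ 0 := by
    intro h
    have hchar : ringChar F = 2 :=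
      CharP.ringChar_of_prime_eq_zero Nat.prime_two (by exact_mod_cast h)
    have := FiniteField.even_card_iff_char_two.mp hchar
    rcases hodd with ⟨m, hm⟩
    omega
  have hq : 2 ≤ Fintype.card F := Fintype.one_lt_card
  set N := Fintype.card F * (Fintype.card F - 1) * (Fintype.card F + 1) with hN
  have hNpos : 0 < N := by
    rw [hN]
    apply Nat.mul_pos
    · apply Nat.mul_pos <;> omega
    · omega
  have hsum := sum_card_centralizer (SpecialLinearGroup (Fin 2) F)
  rw [card_sl2, ← hN] at hsum
  have hfib := Finset.sum_fiberwise (Finset.univ : Finset (SpecialLinearGroup (Fin 2) F))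
    (fun g : SpecialLinearGroup (Fin 2) F => (g : Matrix (Fin 2) (Fin 2) F).trace)
    (fun g => Nat.card (Subgroup.centralizer ({g} : Set (SpecialLinearGroup (Fin 2) F))))
  have hinner : ∀ s : F, ∑ g ∈ Finset.univ.filter
        (fun g : SpecialLinearGroup (Fin 2) F => (g : Matrix (Fin 2) (Fin 2) F).trace = s),
      Nat.card (Subgroup.centralizer ({g} : Set (SpecialLinearGroup (Fin 2) F))) =
      N + if s ∈ ({2, -2} : Finset F) then 2 * N else 0 := by
    intro s
    by_cases hs : s ∈ ({2, -2} : Finset F)
    · rw [if_pos hs]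
      simp only [Finset.mem_insert, Finset.mem_singleton] at hs
      rcases hs with rfl | rfl
      · have := sum_fiber_unip h2 (1 : F) (by ring)
        rw [mul_one] at this
        rw [this]; ring
      · have := sum_fiber_unip h2 (-1 : F) (by ring)
        rw [show (2 : F) * -1 = -2 by ring] at this
        rw [this]; ring
    · rw [if_neg hs, add_zero]
      simp only [Finset.mem_insert, Finset.mem_singleton, not_or] at hs
      apply sum_fiber_generic
      intro h
      have : (s - 2) * (s + 2) = 0 := by linear_combination h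
      rcases mul_eq_zero.mp this with h | h
      · exact hs.1 (sub_eq_zero.mp h)
      · exact hs.2 (eq_neg_of_add_eq_zero_left h)
  rw [Finset.sum_congr rfl (fun s _ => hinner s), Finset.sum_add_distrib, Finset.sum_const,
    Finset.card_univ, smul_eq_mul, Finset.sum_ite_mem, Finset.univ_inter, Finset.sum_const,
    smul_eq_mul] at hfib
  have hpair : ({2, -2} : Finset F).card = 2 := by
    apply Finset.card_pair
    intro h
    have h4 : (2 : F) * 2 = 0 := by linear_combination h
    exact h2 (mul_self_eq_zero.mp h4)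
  rw [hpair] at hfib
  have : Nat.card (ConjClasses (SpecialLinearGroup (Fin 2) F)) * N = (Fintype.card F + 4) * N := by
    rw [← hsum, ← hfib]; ring
  exact Nat.eq_of_mul_eq_mul_right hNpos this

end Cfsg.Agent.S2325
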