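import Cfsg.Statements.S2327
import Cfsg.Agent.Lib.Helper39.StbChev
import Cfsg.Agent.Lib.Helper39.StbData
import Cfsg.Agent.Lib.Helper18.UiAll
import Cfsg.Agent.Lib.Helper18.TorusAll
import Cfsg.Agent.Lib.Helper18.ConjAll
import Cfsg.Agent.S1024
import Cfsg.Agent.S1038
import Cfsg.Agent.S1039
import Cfsg.Agent.S1040
import Cfsg.Agent.S1042

set_option autoImplicit false
open Cfsg

namespace Cfsg.Agent.S2327

/-- In a Chevalley group of type G₂, B₂, D₄, F₄, E₆, E₇ or E₈ over a finite field with q elements, the Steinberg character (the alternating sum of the permutation characters on the standard parabolic subgroups) has degree q^N, N the number of positive roots; this is the order of U and the largest power of the characteristic dividing the group order. -/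
theorem result {F : Type*} [Field F] [Fintype F] (D : Cfsg.Lie.ChevalleyDatum) (hD : D ∈ [Cfsg.Lie.chevG2, Cfsg.Lie.chevB2, Cfsg.Lie.chevD4, Cfsg.Lie.chevF4, Cfsg.Lie.chevE6, Cfsg.Lie.chevE7, Cfsg.Lie.chevE8]) :
    D.steinbergCharacter F 1 = (Fintype.card F : ℂ) ^ (D.nroots / 2) := by
  obtain ⟨tbl, hT⟩ := Cfsg.Agent.Helper18.torusData_all D hD
  have hHN : D.diagonalSubgroup F ≤ D.monomialSubgroup F := le_sup_left
  have hNH := (Subgroup.normal_subgroupOf_iff_le_normalizer hHN).mp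
    (Cfsg.Agent.S1038.result (F := F) D hD)
  have hB := Cfsg.Agent.Helper18.bnFacts_all D hD
  have hU := Cfsg.Agent.Helper18.uiFacts_all D hD
  have hconj : ∀ i < D.rank, ∀ s < D.nroots, Cfsg.Agent.Helper18.ConjGoal' F D i s :=
    fun i hi s hs => Cfsg.Agent.Helper18.conjGoal_all D hD i s hi hs
  have hTri := Cfsg.Agent.Helper17.triOK_of_mem D hD
  have hNeg := Cfsg.Agent.Helper18.negTriOK_of_mem D hD
  have hBNP := Cfsg.Agent.S1042.result (F := F) D hD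
  have hinj : ∀ r < D.nroots, ∀ t : F, D.x F r t = 1 → t = 0 :=
    fun r hr t => (Cfsg.Agent.S1024.result D hD r hr t).1
  have hBN := (Cfsg.Agent.S1040.result (F := F) D hD).2
  have hD' := hD
  simp only [List.mem_cons, List.not_mem_nil, or_false] at hD'
  rcases hD' with rfl | rfl | rfl | rfl | rfl | rfl | rfl
  · exact Cfsg.Agent.Helper39.Stb.steinberg_degree (F := F) Cfsg.Lie.chevG2 hD (l := 2) rfl
      (CoxeterMatrix.G₂) Cfsg.Agent.Helper6.Weyl.G2.vd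
      (Cfsg.Agent.Helper6.Weyl.ordersOK_spec Cfsg.Agent.Helper6.Weyl.G2.vd _
        Cfsg.Agent.Helper6.Weyl.G2.orders_ok)
      hBNP (Cfsg.Agent.S1039.result (F := F) (Cfsg.Lie.chevG2, ⟨2, CoxeterMatrix.G₂⟩) (by simp))
      hB hU hT hTri hNeg hconj hNH hinj hBN Cfsg.Agent.Helper39.Stb.card_pos_G2
  · exact Cfsg.Agent.Helper39.Stb.steinberg_degree (F := F) Cfsg.Lie.chevB2 hD (l := 2) rfl
      (CoxeterMatrix.B 2) Cfsg.Agent.Helper6.Weyl.B2.vd
      (Cfsg.Agent.Helper6.Weyl.ordersOK_spec Cfsg.Agent.Helper6.Weyl.B2.vd _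
        Cfsg.Agent.Helper6.Weyl.B2.orders_ok)
      hBNP (Cfsg.Agent.S1039.result (F := F) (Cfsg.Lie.chevB2, ⟨2, CoxeterMatrix.B 2⟩) (by simp))
      hB hU hT hTri hNeg hconj hNH hinj hBN Cfsg.Agent.Helper39.Stb.card_pos_B2
  · exact Cfsg.Agent.Helper39.Stb.steinberg_degree (F := F) Cfsg.Lie.chevD4 hD (l := 4) rfl
      (Cfsg.Lie.coxeterD4) Cfsg.Agent.Helper6.Weyl.D4.vd
      (Cfsg.Agent.Helper6.Weyl.ordersOK_spec Cfsg.Agent.Helper6.Weyl.D4.vd _
        Cfsg.Agent.Helper6.Weyl.D4.orders_ok)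
      hBNP (Cfsg.Agent.S1039.result (F := F) (Cfsg.Lie.chevD4, ⟨4, Cfsg.Lie.coxeterD4⟩) (by simp))
      hB hU hT hTri hNeg hconj hNH hinj hBN Cfsg.Agent.Helper39.Stb.card_pos_D4
  · exact Cfsg.Agent.Helper39.Stb.steinberg_degree (F := F) Cfsg.Lie.chevF4 hD (l := 4) rfl
      (CoxeterMatrix.F₄) Cfsg.Agent.Helper6.Weyl.F4.vd
      (Cfsg.Agent.Helper6.Weyl.ordersOK_spec Cfsg.Agent.Helper6.Weyl.F4.vd _
        Cfsg.Agent.Helper6.Weyl.F4.orders_ok)
      hBNP (Cfsg.Agent.S1039.result (F := F) (Cfsg.Lie.chevF4, ⟨4, CoxeterMatrix.F₄⟩) (by simp))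
      hB hU hT hTri hNeg hconj hNH hinj hBN Cfsg.Agent.Helper39.Stb.card_pos_F4
  · exact Cfsg.Agent.Helper39.Stb.steinberg_degree (F := F) Cfsg.Lie.chevE6 hD (l := 6) rfl
      (CoxeterMatrix.E₆) Cfsg.Agent.Helper6.Weyl.E6.vd
      (Cfsg.Agent.Helper6.Weyl.ordersOK_spec Cfsg.Agent.Helper6.Weyl.E6.vd _
        Cfsg.Agent.Helper6.Weyl.E6.orders_ok)
      hBNP (Cfsg.Agent.S1039.result (F := F) (Cfsg.Lie.chevE6, ⟨6, CoxeterMatrix.E₆⟩) (by simp))
      hB hU hT hTri hNeg hconj hNH hinj hBN Cfsg.Agent.Helper39.Stb.card_pos_E6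
  · exact Cfsg.Agent.Helper39.Stb.steinberg_degree (F := F) Cfsg.Lie.chevE7 hD (l := 7) rfl
      (CoxeterMatrix.E₇) Cfsg.Agent.Helper6.Weyl.E7.vd
      (Cfsg.Agent.Helper6.Weyl.ordersOK_spec Cfsg.Agent.Helper6.Weyl.E7.vd _
        Cfsg.Agent.Helper6.Weyl.E7.orders_ok)
      hBNP (Cfsg.Agent.S1039.result (F := F) (Cfsg.Lie.chevE7, ⟨7, CoxeterMatrix.E₇⟩) (by simp))
      hB hU hT hTri hNeg hconj hNH hinj hBN Cfsg.Agent.Helper39.Stb.card_pos_E7
  · exact Cfsg.Agent.Helper39.Stb.steinberg_degree (F := F) Cfsg.Lie.chevE8 hD (l := 8) rfl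
      (CoxeterMatrix.E₈) Cfsg.Agent.Helper6.Weyl.E8.vd
      (Cfsg.Agent.Helper6.Weyl.ordersOK_spec Cfsg.Agent.Helper6.Weyl.E8.vd _
        Cfsg.Agent.Helper6.Weyl.E8.orders_ok)
      hBNP (Cfsg.Agent.S1039.result (F := F) (Cfsg.Lie.chevE8, ⟨8, CoxeterMatrix.E₈⟩) (by simp))
      hB hU hT hTri hNeg hconj hNH hinj hBN Cfsg.Agent.Helper39.Stb.card_pos_E8

end Cfsg.Agent.S2327
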