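import Cfsg.Statements.S2328
import Cfsg.Agent.Lib.Helper39.StbChev4
import Cfsg.Agent.Lib.Helper39.StbData
import Cfsg.Agent.Lib.Helper18.UiAll
import Cfsg.Agent.Lib.Helper18.TorusAll
import Cfsg.Agent.Lib.Helper18.ConjAll
import Cfsg.Agent.S1024
import Cfsg.Agent.S1027
import Cfsg.Agent.S1035
import Cfsg.Agent.S1036
import Cfsg.Agent.S1038
import Cfsg.Agent.S1039
import Cfsg.Agent.S1040
import Cfsg.Agent.S1042

set_option autoImplicit false
open Cfsg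

namespace Cfsg.Agent.S2328

/-- In a Chevalley group of type G₂, B₂, D₄, F₄, E₆, E₇ or E₈ over a finite field of characteristic p, the Steinberg character vanishes at every element whose order is divisible by p (every element that is not semisimple). -/
theorem result {F : Type*} [Field F] [Fintype F] (p : ℕ) [Fact p.Prime] [CharP F p] (D : Cfsg.Lie.ChevalleyDatum) (hD : D ∈ [Cfsg.Lie.chevG2, Cfsg.Lie.chevB2, Cfsg.Lie.chevD4, Cfsg.Lie.chevF4, Cfsg.Lie.chevE6, Cfsg.Lie.chevE7, Cfsg.Lie.chevE8]) (g : ↥(D.group F)) (hg : p ∣ orderOf g) :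
    D.steinbergCharacter F g = 0 := by
  obtain ⟨tbl, hT⟩ := Cfsg.Agent.Helper18.torusData_all D hD
  have hHN : D.diagonalSubgroup F ≤ D.monomialSubgroup F := le_sup_left
  have hNH := (Subgroup.normal_subgroupOf_iff_le_normalizer hHN).mp
    (Cfsg.Agent.S1038.result (F := F) D hD)
  have hB := Cfsg.Agent.Helper18.bnFacts_all D hD
  have hU := Cfsg.Agent.Helper18.uiFacts_all D hD
  have hconj : ∀ i < D.rank, ∀ s < D.nroots, Cfsg.Agent.Helper18.ConjGoal' F D i s :=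
    fun i hi s hs => Cfsg.Agent.Helper18.conjGoal_all D hD i s hi hs
  have hTri := Cfsg.Agent.Helper17.triOK_of_mem D hD
  have hNeg := Cfsg.Agent.Helper18.negTriOK_of_mem D hD
  have hBNP := Cfsg.Agent.S1042.result (F := F) D hD
  have hinj : ∀ r < D.nroots, ∀ t : F, D.x F r t = 1 → t = 0 :=
    fun r hr t => (Cfsg.Agent.S1024.result D hD r hr t).1
  have hBN := (Cfsg.Agent.S1040.result (F := F) D hD).2
  have hUH := (Cfsg.Agent.S1036.result (F := F) D hD).2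
  have hD' := hD
  simp only [List.mem_cons, List.not_mem_nil, or_false] at hD'
  rcases hD' with rfl | rfl | rfl | rfl | rfl | rfl | rfl
  · exact Cfsg.Agent.Helper39.Stb.steinberg_vanish (F := F) Cfsg.Lie.chevG2 hD p (l := 2) rfl
      (CoxeterMatrix.G₂) Cfsg.Agent.Helper6.Weyl.G2.vd
      (Cfsg.Agent.Helper6.Weyl.ordersOK_spec Cfsg.Agent.Helper6.Weyl.G2.vd _
        Cfsg.Agent.Helper6.Weyl.G2.orders_ok)
      hBNP (Cfsg.Agent.S1039.result (F := F) (Cfsg.Lie.chevG2, ⟨2, CoxeterMatrix.G₂⟩) (by simp))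
      hB hU hT hTri hNeg hconj hNH hinj hBN hUH
      (by rw [Cfsg.Agent.S1027.result Cfsg.Lie.chevG2 hD, Cfsg.Agent.Helper39.Stb.card_pos_G2]; rfl)
      (Cfsg.Agent.S1035.result (F := F) rfl (Cfsg.Lie.chevG2, 1) (by simp)) g hg
  · exact Cfsg.Agent.Helper39.Stb.steinberg_vanish (F := F) Cfsg.Lie.chevB2 hD p (l := 2) rfl
      (CoxeterMatrix.B 2) Cfsg.Agent.Helper6.Weyl.B2.vd
      (Cfsg.Agent.Helper6.Weyl.ordersOK_spec Cfsg.Agent.Helper6.Weyl.B2.vd _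
        Cfsg.Agent.Helper6.Weyl.B2.orders_ok)
      hBNP (Cfsg.Agent.S1039.result (F := F) (Cfsg.Lie.chevB2, ⟨2, CoxeterMatrix.B 2⟩) (by simp))
      hB hU hT hTri hNeg hconj hNH hinj hBN hUH
      (by rw [Cfsg.Agent.S1027.result Cfsg.Lie.chevB2 hD, Cfsg.Agent.Helper39.Stb.card_pos_B2]; rfl)
      (Cfsg.Agent.S1035.result (F := F) rfl (Cfsg.Lie.chevB2, Nat.gcd 2 (Fintype.card F - 1)) (by simp)) g hg
  · exact Cfsg.Agent.Helper39.Stb.steinberg_vanish (F := F) Cfsg.Lie.chevD4 hD p (l := 4) rfl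
      (Cfsg.Lie.coxeterD4) Cfsg.Agent.Helper6.Weyl.D4.vd
      (Cfsg.Agent.Helper6.Weyl.ordersOK_spec Cfsg.Agent.Helper6.Weyl.D4.vd _
        Cfsg.Agent.Helper6.Weyl.D4.orders_ok)
      hBNP (Cfsg.Agent.S1039.result (F := F) (Cfsg.Lie.chevD4, ⟨4, Cfsg.Lie.coxeterD4⟩) (by simp))
      hB hU hT hTri hNeg hconj hNH hinj hBN hUH
      (by rw [Cfsg.Agent.S1027.result Cfsg.Lie.chevD4 hD, Cfsg.Agent.Helper39.Stb.card_pos_D4]; rfl)
      (Cfsg.Agent.S1035.result (F := F) rfl (Cfsg.Lie.chevD4, Nat.gcd 2 (Fintype.card F - 1) ^ 2) (by simp)) g hg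
  · exact Cfsg.Agent.Helper39.Stb.steinberg_vanish (F := F) Cfsg.Lie.chevF4 hD p (l := 4) rfl
      (CoxeterMatrix.F₄) Cfsg.Agent.Helper6.Weyl.F4.vd
      (Cfsg.Agent.Helper6.Weyl.ordersOK_spec Cfsg.Agent.Helper6.Weyl.F4.vd _
        Cfsg.Agent.Helper6.Weyl.F4.orders_ok)
      hBNP (Cfsg.Agent.S1039.result (F := F) (Cfsg.Lie.chevF4, ⟨4, CoxeterMatrix.F₄⟩) (by simp))
      hB hU hT hTri hNeg hconj hNH hinj hBN hUH
      (by rw [Cfsg.Agent.S1027.result Cfsg.Lie.chevF4 hD, Cfsg.Agent.Helper39.Stb.card_pos_F4]; rfl)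
      (Cfsg.Agent.S1035.result (F := F) rfl (Cfsg.Lie.chevF4, 1) (by simp)) g hg
  · exact Cfsg.Agent.Helper39.Stb.steinberg_vanish (F := F) Cfsg.Lie.chevE6 hD p (l := 6) rfl
      (CoxeterMatrix.E₆) Cfsg.Agent.Helper6.Weyl.E6.vd
      (Cfsg.Agent.Helper6.Weyl.ordersOK_spec Cfsg.Agent.Helper6.Weyl.E6.vd _
        Cfsg.Agent.Helper6.Weyl.E6.orders_ok)
      hBNP (Cfsg.Agent.S1039.result (F := F) (Cfsg.Lie.chevE6, ⟨6, CoxeterMatrix.E₆⟩) (by simp))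
      hB hU hT hTri hNeg hconj hNH hinj hBN hUH
      (by rw [Cfsg.Agent.S1027.result Cfsg.Lie.chevE6 hD, Cfsg.Agent.Helper39.Stb.card_pos_E6]; rfl)
      (Cfsg.Agent.S1035.result (F := F) rfl (Cfsg.Lie.chevE6, Nat.gcd 3 (Fintype.card F - 1)) (by simp)) g hg
  · exact Cfsg.Agent.Helper39.Stb.steinberg_vanish (F := F) Cfsg.Lie.chevE7 hD p (l := 7) rfl
      (CoxeterMatrix.E₇) Cfsg.Agent.Helper6.Weyl.E7.vd
      (Cfsg.Agent.Helper6.Weyl.ordersOK_spec Cfsg.Agent.Helper6.Weyl.E7.vd _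
        Cfsg.Agent.Helper6.Weyl.E7.orders_ok)
      hBNP (Cfsg.Agent.S1039.result (F := F) (Cfsg.Lie.chevE7, ⟨7, CoxeterMatrix.E₇⟩) (by simp))
      hB hU hT hTri hNeg hconj hNH hinj hBN hUH
      (by rw [Cfsg.Agent.S1027.result Cfsg.Lie.chevE7 hD, Cfsg.Agent.Helper39.Stb.card_pos_E7]; rfl)
      (Cfsg.Agent.S1035.result (F := F) rfl (Cfsg.Lie.chevE7, Nat.gcd 2 (Fintype.card F - 1)) (by simp)) g hg
  · exact Cfsg.Agent.Helper39.Stb.steinberg_vanish (F := F) Cfsg.Lie.chevE8 hD p (l := 8) rfl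
      (CoxeterMatrix.E₈) Cfsg.Agent.Helper6.Weyl.E8.vd
      (Cfsg.Agent.Helper6.Weyl.ordersOK_spec Cfsg.Agent.Helper6.Weyl.E8.vd _
        Cfsg.Agent.Helper6.Weyl.E8.orders_ok)
      hBNP (Cfsg.Agent.S1039.result (F := F) (Cfsg.Lie.chevE8, ⟨8, CoxeterMatrix.E₈⟩) (by simp))
      hB hU hT hTri hNeg hconj hNH hinj hBN hUH
      (by rw [Cfsg.Agent.S1027.result Cfsg.Lie.chevE8 hD, Cfsg.Agent.Helper39.Stb.card_pos_E8]; rfl)
      (Cfsg.Agent.S1035.result (F := F) rfl (Cfsg.Lie.chevE8, 1) (by simp)) g hg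

end Cfsg.Agent.S2328
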