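import Cfsg.Statements.S2329

set_option autoImplicit false
open Cfsg

namespace Cfsg.Agent.S2329

open Matrix Polynomial

theorem nilp_pow_card {F : Type*} [Field F] {n : Type*} [Fintype n] [DecidableEq n]
    (N : Matrix n n F) (h : IsNilpotent N) : N ^ (Fintype.card n) = 0 := by
  have h1 : N.charpoly = X ^ Fintype.card n := by
    rw [← sub_eq_zero]
    exact (Matrix.isNilpotent_charpoly_sub_pow_of_isNilpotent h).eq_zero
  have h2 := Matrix.aeval_self_charpoly N
  rw [h1] at h2
  simpa using h2

/-- The standard transvection. -/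
noncomputable def u (F : Type*) [Field F] : Matrix.GeneralLinearGroup (Fin 2) F :=
  Matrix.GeneralLinearGroup.mkOfDetNeZero !![1, 1; 0, 1] (by simp [Matrix.det_fin_two])

theorem conj_u {F : Type*} [Field F] [Fintype F] (p : ℕ) [Fact p.Prime] [CharP F p]
    (g : Matrix.GeneralLinearGroup (Fin 2) F) (hg : orderOf g = p) : IsConj (u F) g := by
  have hp : p.Prime := Fact.out
  set A : Matrix (Fin 2) (Fin 2) F := (g : Matrix (Fin 2) (Fin 2) F) with hAdef
  have hA : A ^ p = 1 := by
    have h1 := pow_orderOf_eq_one g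
    rw [hg] at h1
    have h2 := congrArg (fun x : Matrix.GeneralLinearGroup (Fin 2) F => (x : Matrix (Fin 2) (Fin 2) F)) h1
    simpa using h2
  have hN : (A - 1) ^ p = 0 := by
    have : CharP (Matrix (Fin 2) (Fin 2) F) p := Matrix.charP p
    rw [sub_pow_char_of_commute _ (Commute.one_right A), hA, one_pow, sub_self]
  have hN2 : (A - 1) ^ 2 = 0 := by
    have := nilp_pow_card (A - 1) ⟨p, hN⟩
    simpa using this
  have hne : A ≠ 1 := by
    intro h
    have h1 : g = 1 := Units.ext h
    rw [h1, orderOf_one] at hg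
    exact hp.one_lt.ne hg
  have e00 := congrFun (congrFun hN2 0) 0
  have e01 := congrFun (congrFun hN2 0) 1
  have e10 := congrFun (congrFun hN2 1) 0
  have e11 := congrFun (congrFun hN2 1) 1
  simp only [pow_two, Matrix.mul_apply, Fin.sum_univ_two, Matrix.sub_apply, Matrix.one_apply_eq,
    Matrix.zero_apply, ne_eq, zero_ne_one, one_ne_zero, not_false_eq_true, Matrix.one_apply_ne,
    sub_zero, Fin.isValue] at e00 e01 e10 e11
  by_cases hz : A 1 0 = 0
  · by_cases hy : A 0 1 = 0
    · exfalso
      apply hne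
      rw [hz, hy] at e00 e11
      simp only [mul_zero, add_zero, zero_add, mul_self_eq_zero] at e00 e11
      ext i j
      fin_cases i <;> fin_cases j <;> simp [hz, hy, sub_eq_zero.mp e00, sub_eq_zero.mp e11]
    · -- y ≠ 0
      have hdet : Matrix.det !![A 0 1, 0; A 1 1 - 1, 1] ≠ 0 := by
        simpa [Matrix.det_fin_two] using hy
      refine ⟨toUnits (Matrix.GeneralLinearGroup.mkOfDetNeZero _ hdet), ?_⟩
      apply Units.ext
      change !![A 0 1, 0; A 1 1 - 1, 1] * !![1, 1; 0, 1] = A * !![A 0 1, 0; A 1 1 - 1, 1]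
      ext i j
      fin_cases i <;> fin_cases j <;>
        simp [Matrix.mul_apply, Fin.sum_univ_two]
      · linear_combination (-1 : F) * e01
      · linear_combination (-1 : F) * e11
  · have hdet : Matrix.det !![A 0 0 - 1, 1; A 1 0, 0] ≠ 0 := by
      simpa [Matrix.det_fin_two] using hz
    refine ⟨toUnits (Matrix.GeneralLinearGroup.mkOfDetNeZero _ hdet), ?_⟩
    apply Units.ext
    change !![A 0 0 - 1, 1; A 1 0, 0] * !![1, 1; 0, 1] = A * !![A 0 0 - 1, 1; A 1 0, 0]
    ext i j
    fin_cases i <;> fin_cases j <;>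
      simp [Matrix.mul_apply, Fin.sum_univ_two]
    · linear_combination (-1 : F) * e00
    · linear_combination (-1 : F) * e10

theorem result {F : Type*} [Field F] [Fintype F] (p : ℕ) [Fact p.Prime] [CharP F p] (g h : Matrix.GeneralLinearGroup (Fin 2) F)
    (hg : orderOf g = p) (hh : orderOf h = p) : IsConj g h := by
  exact (conj_u p g hg).symm.trans (conj_u p h hh)

end Cfsg.Agent.S2329
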