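import Mathlib
import Cfsg.Statements.S2330

set_option autoImplicit false
open Cfsg

namespace Cfsg.Agent.S2330

open Matrix

variable {F : Type*} [Field F]

/-- The companion matrix with trace `t` and determinant `d`. -/
def comp (t d : F) : Matrix (Fin 2) (Fin 2) F := !![0, -d; 1, t]

theorem det_comp (t d : F) : (comp t d).det = d := by
  simp [comp, Matrix.det_fin_two]

/-- Being a scalar matrix. -/
def IsSc (A : Matrix (Fin 2) (Fin 2) F) : Prop := A 0 1 = 0 ∧ A 1 0 = 0 ∧ A 0 0 = A 1 1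

theorem IsSc.eq_smul {A : Matrix (Fin 2) (Fin 2) F} (h : IsSc A) : A = A 0 0 • (1 : Matrix (Fin 2) (Fin 2) F) := by
  obtain ⟨h1, h2, h3⟩ := h
  ext i j
  fin_cases i <;> fin_cases j <;> simp [h1, h2, h3.symm]

theorem exists_conj_comp (A : Matrix (Fin 2) (Fin 2) F) (h : ¬ IsSc A) :
    ∃ P : Matrix (Fin 2) (Fin 2) F, P.det ≠ 0 ∧
      A * P = P * comp (A 0 0 + A 1 1) (A 0 0 * A 1 1 - A 0 1 * A 1 0) := by
  by_cases hc : A 1 0 = 0
  · by_cases hb : A 0 1 = 0
    · have had : A 0 0 ≠ A 1 1 := fun e => h ⟨hb, hc, e⟩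
      refine ⟨!![1, A 0 0; 1, A 1 1], ?_, ?_⟩
      · simp only [Matrix.det_fin_two_of]
        intro e
        apply had
        linear_combination (-1 : F) * e
      · ext i j
        fin_cases i <;> fin_cases j <;>
          simp [comp, Matrix.mul_apply, Fin.sum_univ_two, hb, hc] <;> ring
    · refine ⟨!![0, A 0 1; 1, A 1 1], ?_, ?_⟩
      · simp only [Matrix.det_fin_two_of]
        simpa using hb
      · ext i j
        fin_cases i <;> fin_cases j <;>
          simp [comp, Matrix.mul_apply, Fin.sum_univ_two] <;> ring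
  · refine ⟨!![1, A 0 0; 0, A 1 0], ?_, ?_⟩
    · simp only [Matrix.det_fin_two_of]
      simpa using hc
    · ext i j
      fin_cases i <;> fin_cases j <;>
        simp [comp, Matrix.mul_apply, Fin.sum_univ_two] <;> ring

/-- The companion matrix as an element of `GL₂`. -/
noncomputable def compGL (t : F) (d : Fˣ) : Matrix.GeneralLinearGroup (Fin 2) F :=
  Matrix.GeneralLinearGroup.mkOfDetNeZero (comp t d) (by rw [det_comp]; exact d.ne_zero)

theorem val_det (g : Matrix.GeneralLinearGroup (Fin 2) F) :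
    ((Matrix.GeneralLinearGroup.det g : Fˣ) : F) = g.1 0 0 * g.1 1 1 - g.1 0 1 * g.1 1 0 := by
  rw [Matrix.GeneralLinearGroup.val_det_apply, Matrix.det_fin_two]

theorem isConj_compGL (g : Matrix.GeneralLinearGroup (Fin 2) F) (h : ¬ IsSc g.1) :
    IsConj (compGL (g.1 0 0 + g.1 1 1) (Matrix.GeneralLinearGroup.det g)) g := by
  obtain ⟨P, hP, hAP⟩ := exists_conj_comp g.1 h
  refine ⟨toUnits (Matrix.GeneralLinearGroup.mkOfDetNeZero P hP), ?_⟩
  apply Units.ext
  change P * comp (g.1 0 0 + g.1 1 1) ((Matrix.GeneralLinearGroup.det g : Fˣ) : F) = g.1 * P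
  rw [val_det, hAP]

theorem conj_eq_of_isSc (g c : Matrix.GeneralLinearGroup (Fin 2) F) (h : IsSc g.1) :
    c * g * c⁻¹ = g := by
  apply Units.ext
  have h1 : (c * g * c⁻¹).1 = c.1 * g.1 * (c⁻¹).1 := rfl
  rw [h1, h.eq_smul]
  simp

theorem isSc_conj_iff (g c : Matrix.GeneralLinearGroup (Fin 2) F) :
    IsSc (c * g * c⁻¹).1 ↔ IsSc g.1 := by
  constructor
  · intro h
    have h2 := conj_eq_of_isSc (c * g * c⁻¹) c⁻¹ h
    have h3 : c⁻¹ * (c * g * c⁻¹) * c⁻¹⁻¹ = g := by group
    rw [h3] at h2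
    rw [h2]
    exact h
  · intro h
    rw [conj_eq_of_isSc g c h]
    exact h

theorem entry_ne_zero_of_isSc (g : Matrix.GeneralLinearGroup (Fin 2) F) (h : IsSc g.1) :
    g.1 0 0 ≠ 0 := by
  intro h0
  have hd := (Matrix.GeneralLinearGroup.det g).ne_zero
  rw [val_det, h.1, h0] at hd
  simp at hd

open Classical in
/-- The complete conjugacy invariant. -/
noncomputable def inv (g : Matrix.GeneralLinearGroup (Fin 2) F) : Fˣ ⊕ (F × Fˣ) :=
  if h : IsSc g.1 then Sum.inl (Units.mk0 (g.1 0 0) (entry_ne_zero_of_isSc g h))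
  else Sum.inr (g.1 0 0 + g.1 1 1, Matrix.GeneralLinearGroup.det g)

theorem inv_conj (g c : Matrix.GeneralLinearGroup (Fin 2) F) : inv (c * g * c⁻¹) = inv g := by
  by_cases h : IsSc g.1
  · rw [conj_eq_of_isSc g c h]
  · have h' : ¬ IsSc (c * g * c⁻¹).1 := fun hh => h ((isSc_conj_iff g c).mp hh)
    unfold inv
    rw [dif_neg h, dif_neg h']
    congr 2
    · have h1 : (c * g * c⁻¹).1 = c.1 * g.1 * (c⁻¹).1 := rfl
      have h2 := Matrix.trace_units_conj c g.1
      rw [Matrix.trace_fin_two, Matrix.trace_fin_two] at h2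
      rw [h1]
      exact h2
    · simp [mul_comm]

theorem inv_eq_of_isConj {g h : Matrix.GeneralLinearGroup (Fin 2) F} (hgh : IsConj g h) :
    inv g = inv h := by
  obtain ⟨c, rfl⟩ := isConj_iff.mp hgh
  exact (inv_conj g c).symm

/-- The invariant on conjugacy classes. -/
noncomputable def invC : ConjClasses (Matrix.GeneralLinearGroup (Fin 2) F) → Fˣ ⊕ (F × Fˣ) :=
  Quotient.lift inv (fun _ _ h => inv_eq_of_isConj h)

theorem invC_mk (g : Matrix.GeneralLinearGroup (Fin 2) F) : invC (ConjClasses.mk g) = inv g := rfl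

theorem invC_injective : Function.Injective (invC (F := F)) := by
  intro x y hxy
  obtain ⟨g, rfl⟩ := ConjClasses.mk_surjective x
  obtain ⟨h, rfl⟩ := ConjClasses.mk_surjective y
  rw [invC_mk, invC_mk] at hxy
  rw [ConjClasses.mk_eq_mk_iff_isConj]
  by_cases hg : IsSc g.1 <;> by_cases hh : IsSc h.1
  · unfold inv at hxy
    rw [dif_pos hg, dif_pos hh] at hxy
    have h00 : g.1 0 0 = h.1 0 0 := by
      have := Sum.inl_injective hxy
      exact congrArg Units.val this
    have : g = h := by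
      apply Units.ext
      rw [hg.eq_smul, hh.eq_smul, h00]
    rw [this]
  · unfold inv at hxy
    rw [dif_pos hg, dif_neg hh] at hxy
    exact absurd hxy (by simp)
  · unfold inv at hxy
    rw [dif_neg hg, dif_pos hh] at hxy
    exact absurd hxy (by simp)
  · unfold inv at hxy
    rw [dif_neg hg, dif_neg hh] at hxy
    have h1 := Sum.inr_injective hxy
    have ht : g.1 0 0 + g.1 1 1 = h.1 0 0 + h.1 1 1 := congrArg Prod.fst h1
    have hd : Matrix.GeneralLinearGroup.det g = Matrix.GeneralLinearGroup.det h :=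
      congrArg Prod.snd h1
    have c1 := isConj_compGL g hg
    have c2 := isConj_compGL h hh
    rw [ht, hd] at c1
    exact c1.symm.trans c2

theorem invC_surjective : Function.Surjective (invC (F := F)) := by
  rintro (a | ⟨t, d⟩)
  · refine ⟨ConjClasses.mk (Matrix.GeneralLinearGroup.mkOfDetNeZero !![(a : F), 0; 0, (a : F)]
      (by simp [Matrix.det_fin_two])), ?_⟩
    rw [invC_mk]
    unfold inv
    have hs : IsSc (Matrix.GeneralLinearGroup.mkOfDetNeZero !![(a : F), 0; 0, (a : F)]
      (by simp [Matrix.det_fin_two])).1 := by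
      refine ⟨?_, ?_, ?_⟩ <;> simp [Matrix.GeneralLinearGroup.mkOfDetNeZero]
    rw [dif_pos hs]
    congr 1
    apply Units.ext
    simp [Matrix.GeneralLinearGroup.mkOfDetNeZero]
  · refine ⟨ConjClasses.mk (compGL t d), ?_⟩
    rw [invC_mk]
    unfold inv
    have hs : ¬ IsSc (compGL t d).1 := by
      intro h
      have := h.2.1
      simp [compGL, comp, Matrix.GeneralLinearGroup.mkOfDetNeZero] at this
    rw [dif_neg hs]
    congr 2
    · simp [compGL, comp, Matrix.GeneralLinearGroup.mkOfDetNeZero]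
    · apply Units.ext
      rw [val_det]
      simp [compGL, comp, Matrix.GeneralLinearGroup.mkOfDetNeZero]

theorem result {F : Type*} [Field F] [Fintype F] :
    Nat.card (ConjClasses (Matrix.GeneralLinearGroup (Fin 2) F)) = Fintype.card F ^ 2 - 1 := by
  rw [Nat.card_congr (Equiv.ofBijective invC ⟨invC_injective, invC_surjective⟩)]
  rw [Nat.card_sum, Nat.card_prod, Nat.card_units, Nat.card_eq_fintype_card]
  have hq : 1 ≤ Fintype.card F := Fintype.card_pos
  obtain ⟨k, hk⟩ : ∃ k, Fintype.card F = k + 1 := ⟨Fintype.card F - 1, by omega⟩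
  rw [hk]
  simp only [Nat.add_sub_cancel]
  have : (k + 1) ^ 2 = k + (k + 1) * k + 1 := by ring
  omega

end Cfsg.Agent.S2330
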