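import Mathlib
import Cfsg.Statements.S2331
import Cfsg.Agent.S2330

set_option autoImplicit false
open Cfsg

namespace Cfsg.Agent.S2331

open Matrix Cfsg.Agent.S2330

variable {F : Type*} [Field F]

/-- The companion matrix of determinant one, in `SL₂`. -/
def compSL (t : F) : Matrix.SpecialLinearGroup (Fin 2) F :=
  ⟨S2330.comp t 1, det_comp t 1⟩

theorem sl_det (g : Matrix.SpecialLinearGroup (Fin 2) F) :
    g.1 0 0 * g.1 1 1 - g.1 0 1 * g.1 1 0 = 1 := by
  have := g.2
  rwa [Matrix.det_fin_two] at this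

/-- In a perfect field of characteristic two, a non-scalar element of `SL₂` is conjugate to the
companion matrix of its trace. -/
theorem isConj_compSL [Fintype F] [CharP F 2] (g : Matrix.SpecialLinearGroup (Fin 2) F)
    (h : ¬ IsSc g.1) : IsConj (compSL (g.1 0 0 + g.1 1 1)) g := by
  obtain ⟨P, hP, hAP⟩ := exists_conj_comp g.1 h
  rw [sl_det] at hAP
  obtain ⟨a, ha⟩ := surjective_frobenius F 2 (P.det)⁻¹
  rw [frobenius_def] at ha
  have hdet : (a • P).det = 1 := by
    rw [Matrix.det_smul, Fintype.card_fin, ha, inv_mul_cancel₀ hP]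
  rw [isConj_iff]
  let c : Matrix.SpecialLinearGroup (Fin 2) F := ⟨a • P, hdet⟩
  refine ⟨c, ?_⟩
  rw [mul_inv_eq_iff_eq_mul]
  apply Subtype.ext
  change (a • P) * S2330.comp (g.1 0 0 + g.1 1 1) 1 = g.1 * (a • P)
  rw [Matrix.smul_mul, Matrix.mul_smul, hAP]

theorem eq_one_of_isSc [CharP F 2] (g : Matrix.SpecialLinearGroup (Fin 2) F) (h : IsSc g.1) :
    g = 1 := by
  have hd := sl_det g
  rw [h.1, ← h.2.2] at hd
  have h1 : (g.1 0 0 + 1) * (g.1 0 0 + 1) = 0 := by
    have h2 : (2 : F) = 0 := CharTwo.two_eq_zero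
    linear_combination hd + (g.1 0 0 + 1) * h2
  have h3 : g.1 0 0 + 1 = 0 := mul_self_eq_zero.mp h1
  have h4 : g.1 0 0 = 1 := by
    have h2 : (2 : F) = 0 := CharTwo.two_eq_zero
    linear_combination h3 - h2
  apply Subtype.ext
  rw [h.eq_smul, h4]
  simp

theorem isSc_one : IsSc (1 : Matrix.SpecialLinearGroup (Fin 2) F).1 := by
  refine ⟨?_, ?_, ?_⟩ <;> simp

open Classical in
/-- The complete conjugacy invariant in characteristic two. -/
noncomputable def inv (g : Matrix.SpecialLinearGroup (Fin 2) F) : Option F :=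
  if g = 1 then none else some (g.1 0 0 + g.1 1 1)

theorem inv_conj (g c : Matrix.SpecialLinearGroup (Fin 2) F) : inv (c * g * c⁻¹) = inv g := by
  by_cases h : g = 1
  · subst h
    simp
  · have h' : ¬ c * g * c⁻¹ = 1 := by
      intro hh
      apply h
      have : g = c⁻¹ * (c * g * c⁻¹) * c := by group
      rw [this, hh]
      group
    unfold inv
    rw [if_neg h, if_neg h']
    congr 1
    have h1 : (c * g * c⁻¹).1 = c.1 * g.1 * (c⁻¹).1 := rfl
    have h2 : (c⁻¹).1 * c.1 = 1 := by
      have : (c⁻¹ * c).1 = (c⁻¹).1 * c.1 := rfl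
      rw [← this, inv_mul_cancel]
      rfl
    have h3 : Matrix.trace (c.1 * g.1 * (c⁻¹).1) = Matrix.trace g.1 := by
      rw [Matrix.trace_mul_comm, ← Matrix.mul_assoc, h2, Matrix.one_mul]
    rw [Matrix.trace_fin_two, Matrix.trace_fin_two] at h3
    rw [h1]
    exact h3

theorem inv_eq_of_isConj {g h : Matrix.SpecialLinearGroup (Fin 2) F} (hgh : IsConj g h) :
    inv g = inv h := by
  obtain ⟨c, rfl⟩ := isConj_iff.mp hgh
  exact (inv_conj g c).symm

/-- The invariant on conjugacy classes. -/
noncomputable def invC : ConjClasses (Matrix.SpecialLinearGroup (Fin 2) F) → Option F :=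
  Quotient.lift inv (fun _ _ h => inv_eq_of_isConj h)

theorem invC_mk (g : Matrix.SpecialLinearGroup (Fin 2) F) : invC (ConjClasses.mk g) = inv g := rfl

theorem invC_injective [Fintype F] [CharP F 2] : Function.Injective (invC (F := F)) := by
  intro x y hxy
  obtain ⟨g, rfl⟩ := ConjClasses.mk_surjective x
  obtain ⟨h, rfl⟩ := ConjClasses.mk_surjective y
  rw [invC_mk, invC_mk] at hxy
  rw [ConjClasses.mk_eq_mk_iff_isConj]
  by_cases hg : g = 1 <;> by_cases hh : h = 1
  · rw [hg, hh]
  · unfold inv at hxy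
    rw [if_pos hg, if_neg hh] at hxy
    exact absurd hxy (by simp)
  · unfold inv at hxy
    rw [if_neg hg, if_pos hh] at hxy
    exact absurd hxy (by simp)
  · unfold inv at hxy
    rw [if_neg hg, if_neg hh] at hxy
    have ht : g.1 0 0 + g.1 1 1 = h.1 0 0 + h.1 1 1 := Option.some_injective _ hxy
    have c1 := isConj_compSL g (fun hs => hg (eq_one_of_isSc g hs))
    have c2 := isConj_compSL h (fun hs => hh (eq_one_of_isSc h hs))
    rw [ht] at c1
    exact c1.symm.trans c2

theorem invC_surjective : Function.Surjective (invC (F := F)) := by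
  rintro (_ | t)
  · refine ⟨ConjClasses.mk 1, ?_⟩
    rw [invC_mk]
    simp [inv]
  · refine ⟨ConjClasses.mk (compSL t), ?_⟩
    rw [invC_mk]
    have hs : ¬ compSL t = 1 := by
      intro h
      have := congrArg (fun x : Matrix.SpecialLinearGroup (Fin 2) F => x.1 1 0) h
      simp [compSL, S2330.comp] at this
    unfold inv
    rw [if_neg hs]
    simp [compSL, S2330.comp]

theorem result {F : Type*} [Field F] [Fintype F] [CharP F 2] :
    Nat.card (ConjClasses (Matrix.SpecialLinearGroup (Fin 2) F)) = Fintype.card F + 1 := by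
  rw [Nat.card_congr (Equiv.ofBijective invC ⟨invC_injective, invC_surjective⟩)]
  rw [Nat.card_eq_fintype_card, Fintype.card_option]

end Cfsg.Agent.S2331
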