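import Cfsg.Statements.S2337
import Mathlib
import Cfsg.Agent.Lib.Helper39.SzRep
import Cfsg.Agent.Lib.Helper39.SzModels

set_option autoImplicit false
open Cfsg

namespace Cfsg.Agent.S2337

open Cfsg.Agent.Helper39 Module

/-- An irreducible representation of dimension at least two of a simple group is faithful. -/
theorem faithful_of_irreducible {G : Type*} [Group G] [IsSimpleGroup G] {k : ℕ}
    (ρ : Representation ℂ G (Fin k → ℂ)) (hρ : ρ.IsIrreducible) (hk : 2 ≤ k) {g : G}
    (hg : g ≠ 1) : ρ g ≠ 1 := by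
  intro hcon
  -- the kernel
  let N : Subgroup G :=
    { carrier := {x | ρ x = 1}
      one_mem' := map_one ρ
      mul_mem' := by
        intro a b ha hb
        change ρ (a * b) = 1
        rw [map_mul, ha, hb, mul_one]
      inv_mem' := by
        intro a ha
        change ρ a⁻¹ = 1
        have h1 : ρ a⁻¹ * ρ a = 1 := by rw [← map_mul, inv_mul_cancel, map_one]
        rw [ha, mul_one] at h1
        exact h1 }
  have hNmem : ∀ x, x ∈ N ↔ ρ x = 1 := fun x => Iff.rfl
  have hNnormal : N.Normal := by
    constructor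
    intro n hn x
    rw [hNmem] at hn ⊢
    rw [map_mul, map_mul, hn, mul_one, ← map_mul, mul_inv_cancel, map_one]
  rcases hNnormal.eq_bot_or_eq_top with hbot | htop
  · have : g ∈ N := hcon
    rw [hbot, Subgroup.mem_bot] at this
    exact hg this
  · have htriv : ∀ x, ρ x = 1 := by
      intro x
      rw [← hNmem, htop]
      trivial
    -- a one-dimensional subrepresentation
    let e₀ : Fin k → ℂ := Pi.single ⟨0, by omega⟩ 1
    have he₀ : e₀ ≠ 0 := by
      intro h0
      have := congrFun h0 ⟨0, by omega⟩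
      simp [e₀] at this
    let S : Subrepresentation ρ :=
      { toSubmodule := Submodule.span ℂ {e₀}
        apply_mem_toSubmodule := by
          intro x v hv
          rw [htriv x]
          exact hv }
    rcases hρ.eq_bot_or_eq_top S with hS | hS
    · have h1 : S.toSubmodule = ⊥ := congrArg Subrepresentation.toSubmodule hS
      have h2 : e₀ ∈ S.toSubmodule := Submodule.subset_span rfl
      rw [h1, Submodule.mem_bot] at h2
      exact he₀ h2
    · have h1 : S.toSubmodule = ⊤ := congrArg Subrepresentation.toSubmodule hS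
      have h2 : finrank ℂ (Submodule.span ℂ {e₀}) = 1 := finrank_span_singleton he₀
      have h3 : finrank ℂ (Submodule.span ℂ {e₀}) = k := by
        change finrank ℂ S.toSubmodule = k
        rw [h1, finrank_top, Module.finrank_fin_fun]
      omega

/-- For the Suzuki group Sz(q), q = 2^(2m+1) with m ≥ 1 (realised inside Sp₄ over the field with q elements), every irreducible complex representation of degree at least 2 has degree at least 2^m·(q − 1). -/
theorem result {F : Type*} [Field F] [Fintype F] (m : ℕ) (hm : 1 ≤ m) (hF : Fintype.card F = 2 ^ (2 * m + 1)) :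
    (∀ (k : ℕ) (ρ : Representation ℂ (Cfsg.Lie.Sz F (2 ^ (m + 1))) (Fin k → ℂ)), ρ.IsIrreducible → 2 ≤ k → 2 ^ m * (2 ^ (2 * m + 1) - 1) ≤ k) := by
  intro k ρ hρ hk
  have h := titsHyp_of_card m hF
  have hw : ∃ w : F, w ≠ 0 ∧ w ≠ 1 := by
    apply exists_ne_zero_one
    rw [hF]
    have : 2 ^ 1 < 2 ^ (2 * m + 1) := Nat.pow_lt_pow_right (by norm_num) (by omega)
    simpa using this
  set X := lieSzModel h with hX
  have : IsSimpleGroup ↥(Cfsg.Lie.Sz F (2 ^ (m + 1))) := X.isSimpleGroup h hw
  have hz : X.zEl h 1 ≠ 1 := by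
    rw [← X.zEl_zero h]
    intro hcon
    exact one_ne_zero (X.zEl_inj h hcon)
  have hfaith := faithful_of_irreducible ρ hρ hk hz
  obtain ⟨d, hd1, hd2⟩ := X.min_degree_aux h ρ hfaith
  rw [Module.finrank_fin_fun, hF] at hd2
  rw [hF] at hd1
  -- 2^m ≤ d
  have hd : 2 ^ m ≤ d := by
    by_contra hlt
    push Not at hlt
    have h1 : d * d < 2 ^ m * 2 ^ m := Nat.mul_self_lt_mul_self hlt
    have h2 : 2 ^ (2 * m + 1) = 2 * (2 ^ m * 2 ^ m) := by ring
    omega
  calc 2 ^ m * (2 ^ (2 * m + 1) - 1) ≤ d * (2 ^ (2 * m + 1) - 1) := Nat.mul_le_mul_right _ hd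
    _ = (2 ^ (2 * m + 1) - 1) * d := mul_comm _ _
    _ ≤ k := hd2

end Cfsg.Agent.S2337
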