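import Cfsg.Statements.S2354
import Mathlib
import Cfsg.Agent.Lib.Helper39.SuzukiEval

set_option autoImplicit false
open Cfsg

namespace Cfsg.Agent.S2354

open Cfsg.Agent.Helper39

theorem arith_aux (ℓ r q : ℕ) (hr : 4 * ℓ + 9 ≤ r) (hq : r * r = 2 * q) :
    2 * ℓ * (2 + r) < q := by
  nlinarith

/-- A non-trivial law holds in only finitely many Suzuki groups: for every non-trivial element w of the free group on countably many generators there is N such that for q = 2^(2m+1) with m ≥ N some substitution of elements of the Suzuki group over the field with q elements into w is not the identity. -/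
theorem result (w : FreeGroup ℕ) (hw : w ≠ 1) :
    ∃ N : ℕ, ∀ (F : Type*) [Field F] [Fintype F] (m : ℕ), 1 ≤ m → N ≤ m →
      Fintype.card F = 2 ^ (2 * m + 1) →
      ∃ f : ℕ → ↥(Cfsg.Lie.Sz F (2 ^ (m + 1))), FreeGroup.lift f w ≠ 1 := by
  classical
  set L := w.toWord with hLdef
  have hred : FreeGroup.IsReduced L := FreeGroup.isReduced_toWord
  have hLne : L ≠ [] := fun h => hw (FreeGroup.toWord_eq_nil_iff.mp h)
  have hwL : w = FreeGroup.mk L := FreeGroup.mk_toWord.symm
  set M := (L.map Prod.fst).sum + 1 with hM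
  have hlt : ∀ l ∈ L, l.1 < M := by
    intro l hl
    have : l.1 ≤ (L.map Prod.fst).sum := List.le_sum_of_mem (List.mem_map_of_mem hl)
    omega
  refine ⟨max (4 * L.length + 9) (M + 1), fun F _ _ m _ hNm hF => ?_⟩
  have h := titsHyp_of_card m hF
  have hm1 : 4 * L.length + 9 ≤ m := le_trans (le_max_left _ _) hNm
  have hm2 : M + 1 ≤ m := le_trans (le_max_right _ _) hNm
  have hr : m + 1 < 2 ^ (m + 1) := Nat.lt_two_pow_self
  have hq : 2 * m + 1 < 2 ^ (2 * m + 1) := Nat.lt_two_pow_self
  have hrr : 2 ^ (m + 1) * 2 ^ (m + 1) = 2 * Fintype.card F := by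
    rw [hF]; ring
  have hcard : 2 * L.length * (2 + 2 ^ (m + 1)) < Fintype.card F :=
    arith_aux L.length (2 ^ (m + 1)) (Fintype.card F) (by omega) hrr
  have hN2 : M ≤ Fintype.card Fˣ := by
    rw [Fintype.card_units, hF]
    omega
  obtain ⟨e⟩ : Nonempty (Fin M ↪ Fˣ) :=
    Function.Embedding.nonempty_of_card_le (by simpa using hN2)
  set c : ℕ → F := fun i => if h : i < M then ((e ⟨i, h⟩ : Fˣ) : F) else 1 with hc
  have h0 : ∀ l ∈ L, c l.1 ≠ 0 := by
    intro l hl
    simp only [hc, dif_pos (hlt l hl)]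
    exact Units.ne_zero _
  have hinj : ∀ l ∈ L, ∀ l' ∈ L, c l.1 = c l'.1 → l.1 = l'.1 := by
    intro l hl l' hl' h
    simp only [hc, dif_pos (hlt l hl), dif_pos (hlt l' hl')] at h
    have := e.injective (Units.ext h)
    simpa using this
  obtain ⟨s, hs⟩ := exists_sz_ne_one h c L hLne hred h0 hinj hcard
  refine ⟨genSz h c s, ?_⟩
  rw [hwL]
  exact hs

end Cfsg.Agent.S2354
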