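import Cfsg.Statements.S2355
import Mathlib
import Cfsg.Agent.S2352
import Cfsg.Agent.Lib.Helper39.Bounds

set_option autoImplicit false
open Cfsg

namespace Cfsg.Agent.S2355

open Cfsg.Agent.Helper39

theorem sq_le_aux (B : ℕ) (hB : 4 ≤ B) : B ≤ B ^ 2 := by nlinarith

/-- A non-trivial law is satisfied by only finitely many finite simple groups that are alternating or classical, up to isomorphism: for every non-trivial element w of the free group on countably many generators there is a bound N such that every alternating group of degree ≥ 5 and every simple classical group (linear, symplectic, unitary or orthogonal, in this problem's sense) in which w is a law has order at most N. -/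
theorem result (w : FreeGroup ℕ) (hw : w ≠ 1) :
    ∃ N : ℕ, ∀ (G : Type*) [Group G] [Finite G],
      (Cfsg.IsAlternating G ∨ Cfsg.IsPSL G ∨ Cfsg.IsPSp G ∨ Cfsg.IsPSU G ∨ Cfsg.IsPOmegaOdd G ∨
          Cfsg.IsPOmegaPlus G ∨ Cfsg.IsPOmegaMinus G) →
      (∀ f : ℕ → G, FreeGroup.lift f w = 1) → Nat.card G ≤ N := by
  obtain ⟨N₁, h₁⟩ := Cfsg.Agent.S2352.result w hw
  set R := max N₁ 5 with hR
  set B := max (lawBound w) 4 with hB
  have hB4 : 4 ≤ B := le_max_right _ _
  have hBsq : B ≤ B ^ 2 := sq_le_aux B hB4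
  refine ⟨max (R.factorial) ((B ^ 2) ^ ((2 * R + 1) ^ 2)), ?_⟩
  intro G _ _ hfam hlaw
  rcases hfam with h | h | h | h | h | h | h
  · -- alternating
    obtain ⟨n, -, ⟨e⟩⟩ := h
    have hl := law_of_mulEquiv e w hlaw
    have hn := alt_bound w N₁ h₁ n hl
    rw [Nat.card_congr e.toEquiv]
    exact le_trans (card_alt_le n R hn.le) (le_max_left _ _)
  · -- PSL
    obtain ⟨F, _, _, n, hn, -, ⟨e⟩⟩ := h
    have hl := law_of_mulEquiv e w hlaw
    obtain ⟨h1, h2⟩ := psl_bounds w hw N₁ h₁ F n hn hl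
    rw [Nat.card_congr e.toEquiv]
    refine le_trans (card_psl_le n (2 * R + 1) (B ^ 2) (by omega) (by omega)) (le_max_right _ _)
  · -- PSp
    obtain ⟨F, _, _, m, hm, -, ⟨e⟩⟩ := h
    have hl := law_of_mulEquiv e w hlaw
    obtain ⟨h1, h2⟩ := psp_bounds w hw N₁ h₁ F m hm hl
    rw [Nat.card_congr e.toEquiv]
    refine le_trans (card_psp_le m (2 * R + 1) (B ^ 2) (by omega) (by omega)) (le_max_right _ _)
  · -- PSU
    obtain ⟨F, _, _, n, q, hF, hn, -, ⟨e⟩⟩ := h
    have hl := law_of_mulEquiv e w hlaw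
    obtain ⟨h1, h2⟩ := psu_bounds w hw N₁ h₁ F n q hn hF hl
    rw [Nat.card_congr e.toEquiv]
    have hFB : Fintype.card F ≤ B ^ 2 := by
      rw [hF]
      exact Nat.pow_le_pow_left h2.le 2
    refine le_trans (card_psu_le n q (2 * R + 1) (B ^ 2) (by omega) hFB) (le_max_right _ _)
  · -- odd orthogonal
    obtain ⟨F, _, _, m, hm, -, ⟨e⟩⟩ := h
    have hl := law_of_mulEquiv e w hlaw
    obtain ⟨h1, h2⟩ := pomega_odd_bounds w hw N₁ h₁ F m (by omega) hl
    rw [Nat.card_congr e.toEquiv]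
    refine le_trans (card_pomega_le (Cfsg.quadFormOdd m F) (2 * R + 1) (B ^ 2)
      (by simp; omega) (by omega)) (le_max_right _ _)
  · -- plus orthogonal
    obtain ⟨F, _, _, m, hm, ⟨e⟩⟩ := h
    have hl := law_of_mulEquiv e w hlaw
    obtain ⟨h1, h2⟩ := pomega_plus_bounds w hw N₁ h₁ F m (by omega) hl
    rw [Nat.card_congr e.toEquiv]
    refine le_trans (card_pomega_le (Cfsg.quadFormPlus m F) (2 * R + 1) (B ^ 2)
      (by simp; omega) (by omega)) (le_max_right _ _)
  · -- minus orthogonal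
    obtain ⟨F, _, _, m, a, b, hm, -, ⟨e⟩⟩ := h
    have hl := law_of_mulEquiv e w hlaw
    obtain ⟨h1, h2⟩ := pomega_minus_bounds w hw N₁ h₁ F (m - 1) (by omega) a b hl
    rw [Nat.card_congr e.toEquiv]
    refine le_trans (card_pomega_le (Cfsg.quadFormMinus (m - 1) F a b) (2 * R + 1) (B ^ 2)
      (by simp; omega) (by omega)) (le_max_right _ _)

end Cfsg.Agent.S2355
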