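import Cfsg.Statements.S2356
import Cfsg.Agent.Lib.Helper63.SU3Graph

set_option autoImplicit false
open Cfsg

namespace Cfsg.Agent.S2356

open Cfsg.Agent.Helper63.SU3

/-- Let q be odd, F the field with q² elements, S = SU_3(F) (determinant-one isometries of the standard Hermitian form) and t an involution of S. Then: exactly q(q−1) involutions other than t commute with t; exactly q(q−2)(q²−1) involutions do not commute with t but commute with some involution commuting with t; exactly (q+1)(q²−1) involutions x do not commute with t and admit no involution commuting with both t and x; and every involution can be reached from t in at most three steps, each step going to an involution that commutes with the previous one (the commuting involution graph is connected of diameter 3). -/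
theorem result {F : Type*} [Field F] [Fintype F] {q : ℕ} (hq : Odd q)
    (hF : Fintype.card F = q ^ 2) (t : ↥(Cfsg.SU 3 F q)) (ht : t ≠ 1) (ht2 : t * t = 1) :
    Nat.card {x : ↥(Cfsg.SU 3 F q) // x ≠ 1 ∧ x * x = 1 ∧ x ≠ t ∧ Commute t x} = q * (q - 1) ∧
    Nat.card {x : ↥(Cfsg.SU 3 F q) // x ≠ 1 ∧ x * x = 1 ∧ ¬ Commute t x ∧
        ∃ y : ↥(Cfsg.SU 3 F q), y ≠ 1 ∧ y * y = 1 ∧ Commute t y ∧ Commute y x} = q * (q - 2) * (q ^ 2 - 1) ∧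
    Nat.card {x : ↥(Cfsg.SU 3 F q) // x ≠ 1 ∧ x * x = 1 ∧ ¬ Commute t x ∧
        ∀ y : ↥(Cfsg.SU 3 F q), y ≠ 1 → y * y = 1 → ¬ (Commute t y ∧ Commute y x)} = (q + 1) * (q ^ 2 - 1) ∧
    ∀ x : ↥(Cfsg.SU 3 F q), x ≠ 1 → x * x = 1 →
      ∃ y z : ↥(Cfsg.SU 3 F q), y ≠ 1 ∧ y * y = 1 ∧ z ≠ 1 ∧ z * z = 1 ∧
        Commute t y ∧ Commute y z ∧ Commute z x := by
  classical
  have hq2 := Cfsg.Agent.Helper19.herm_two_le hF
  have hq3 : 3 ≤ q := by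
    rcases hq with ⟨k, hk⟩
    omega
  have hqq : q ≤ q ^ 2 := by nlinarith
  have h1q : 1 ≤ q ^ 2 := by nlinarith
  obtain ⟨u₀, hu₀⟩ := exists_isRefl (hK := hF) hq t ht ht2
  obtain ⟨l, hl0, hl⟩ := exists_smul_norm_one hu₀.1
  have hu : IsRefl hF (mat t) (l • u₀) := hu₀.smul hl0
  -- the three counts
  have N1 : Nat.card {x : ↥(Cfsg.SU 3 F q) // x ≠ 1 ∧ x * x = 1 ∧ x ≠ t ∧ Commute t x}
      = q * (q - 1) := by
    have h1 := card_transfer (hK := hF) hq t ht ht2 (fun x => x ≠ t ∧ Commute t x)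
      (fun v => Cfsg.Agent.Lead.stdHerm hF 3 v (l • u₀) = 0)
      (fun x v _ hx2 hv => commute_iff_perp hq ht ht2 hu hx2 hv)
    have h2 := card_aniso_perp (hK := hF) hl
    have e : {x : ↥(Cfsg.SU 3 F q) // x ≠ 1 ∧ x * x = 1 ∧ x ≠ t ∧ Commute t x}
        ≃ {x : ↥(Cfsg.SU 3 F q) // (x ≠ 1 ∧ x * x = 1) ∧ (x ≠ t ∧ Commute t x)} :=
      Equiv.subtypeEquivRight (fun x =>
        ⟨fun ⟨a, b, c, d⟩ => ⟨⟨a, b⟩, c, d⟩, fun ⟨⟨a, b⟩, c, d⟩ => ⟨a, b, c, d⟩⟩)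
    rw [Nat.card_congr e]
    set N := Nat.card {x : ↥(Cfsg.SU 3 F q) // (x ≠ 1 ∧ x * x = 1) ∧ (x ≠ t ∧ Commute t x)}
    rw [← h1] at h2
    have h3 : (N : ℤ) * ((q : ℤ) ^ 2 - 1) = (q : ℤ) * ((q : ℤ) - 1) * ((q : ℤ) ^ 2 - 1) := by
      have h4 : ((N * (q ^ 2 - 1) + q ^ 3 + q ^ 2 : ℕ) : ℤ) = ((q ^ 4 + q : ℕ) : ℤ) := by rw [h2]
      push_cast [Nat.cast_sub h1q] at h4
      linear_combination h4
    have h5 : ((q : ℤ) ^ 2 - 1) ≠ 0 := by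
      have : (2 : ℤ) ≤ q := by exact_mod_cast hq2
      nlinarith
    have h6 := mul_right_cancel₀ h5 h3
    have h7 : ((q * (q - 1) : ℕ) : ℤ) = (q : ℤ) * ((q : ℤ) - 1) := by
      push_cast [Nat.cast_sub (show 1 ≤ q by omega)]
      ring
    rw [← h7] at h6
    exact_mod_cast h6
  have N3 : Nat.card {x : ↥(Cfsg.SU 3 F q) // x ≠ 1 ∧ x * x = 1 ∧ ¬ Commute t x ∧
        ∀ y : ↥(Cfsg.SU 3 F q), y ≠ 1 → y * y = 1 → ¬ (Commute t y ∧ Commute y x)}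
      = (q + 1) * (q ^ 2 - 1) := by
    have h1 := card_transfer (hK := hF) hq t ht ht2
      (fun x => ¬ Commute t x ∧
        ∀ y : ↥(Cfsg.SU 3 F q), y ≠ 1 → y * y = 1 → ¬ (Commute t y ∧ Commute y x))
      (fun v => ∃ (α : F) (w : Fin 3 → F), α ≠ 0 ∧ w ≠ 0 ∧
        Cfsg.Agent.Lead.stdHerm hF 3 w (l • u₀) = 0 ∧ Cfsg.Agent.Lead.stdHerm hF 3 w w = 0 ∧
        v = α • (l • u₀) + w)
      (fun x v hx1 hx2 hv => dist_three_iff hq ht ht2 hu hx1 hx2 hv)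
    have h2 := card_tangent (hK := hF) hl
    have e : {x : ↥(Cfsg.SU 3 F q) // x ≠ 1 ∧ x * x = 1 ∧ ¬ Commute t x ∧
        ∀ y : ↥(Cfsg.SU 3 F q), y ≠ 1 → y * y = 1 → ¬ (Commute t y ∧ Commute y x)}
        ≃ {x : ↥(Cfsg.SU 3 F q) // (x ≠ 1 ∧ x * x = 1) ∧ (¬ Commute t x ∧
        ∀ y : ↥(Cfsg.SU 3 F q), y ≠ 1 → y * y = 1 → ¬ (Commute t y ∧ Commute y x))} :=
      Equiv.subtypeEquivRight (fun x =>
        ⟨fun ⟨a, b, c, d⟩ => ⟨⟨a, b⟩, c, d⟩, fun ⟨⟨a, b⟩, c, d⟩ => ⟨a, b, c, d⟩⟩)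
    rw [Nat.card_congr e]
    set N := Nat.card {x : ↥(Cfsg.SU 3 F q) // (x ≠ 1 ∧ x * x = 1) ∧ (¬ Commute t x ∧
        ∀ y : ↥(Cfsg.SU 3 F q), y ≠ 1 → y * y = 1 → ¬ (Commute t y ∧ Commute y x))}
    rw [← h1] at h2
    have hpos : 0 < q ^ 2 - 1 := by omega
    have h3 : (q ^ 2 - 1) * (N + (q + 1)) = (q ^ 2 - 1) * (q ^ 3 + q ^ 2) := by
      rw [← h2]; ring
    have h4 := Nat.eq_of_mul_eq_mul_left hpos h3
    have h5 : (q + 1) * (q ^ 2 - 1) + (q + 1) = q ^ 3 + q ^ 2 := by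
      zify [h1q]
      ring
    omega
  have Ntot := card_involutions (hK := hF) hq t ht ht2
  -- splitting lemma
  have split : ∀ (p r : ↥(Cfsg.SU 3 F q) → Prop),
      Nat.card {x // p x} = Nat.card {x // p x ∧ r x} + Nat.card {x // p x ∧ ¬ r x} := by
    intro p r
    have h1 := Nat.card_congr (Equiv.sumCompl (fun x : {x // p x} => r x.1))
    rw [Nat.card_sum] at h1
    rw [← h1, Nat.card_congr (Equiv.subtypeSubtypeEquivSubtypeInter p r),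
      Nat.card_congr (Equiv.subtypeSubtypeEquivSubtypeInter p (fun x => ¬ r x))]
  have N2 : Nat.card {x : ↥(Cfsg.SU 3 F q) // x ≠ 1 ∧ x * x = 1 ∧ ¬ Commute t x ∧
        ∃ y : ↥(Cfsg.SU 3 F q), y ≠ 1 ∧ y * y = 1 ∧ Commute t y ∧ Commute y x}
      = q * (q - 2) * (q ^ 2 - 1) := by
    have s1 := split (fun x => x ≠ 1 ∧ x * x = 1) (fun x => Commute t x)
    have s2 := split (fun x => (x ≠ 1 ∧ x * x = 1) ∧ Commute t x) (fun x => x = t)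
    have s3 := split (fun x => (x ≠ 1 ∧ x * x = 1) ∧ ¬ Commute t x)
      (fun x => ∃ y : ↥(Cfsg.SU 3 F q), y ≠ 1 ∧ y * y = 1 ∧ Commute t y ∧ Commute y x)
    have c1 : Nat.card {x : ↥(Cfsg.SU 3 F q) // ((x ≠ 1 ∧ x * x = 1) ∧ Commute t x) ∧ x = t}
        = 1 := by
      rw [Nat.card_eq_one_iff_unique]
      refine ⟨⟨?_⟩, ⟨⟨t, ⟨⟨ht, ht2⟩, Commute.refl t⟩, rfl⟩⟩⟩
      rintro ⟨a, _, rfl⟩ ⟨b, _, rfl⟩
      rfl
    have c2 : Nat.card {x : ↥(Cfsg.SU 3 F q) // ((x ≠ 1 ∧ x * x = 1) ∧ Commute t x) ∧ ¬ x = t}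
        = q * (q - 1) := by
      rw [← N1]
      exact Nat.card_congr (Equiv.subtypeEquivRight (fun x =>
        ⟨fun ⟨⟨⟨a, b⟩, c⟩, d⟩ => ⟨a, b, d, c⟩, fun ⟨a, b, c, d⟩ => ⟨⟨⟨a, b⟩, d⟩, c⟩⟩))
    have c3 : Nat.card {x : ↥(Cfsg.SU 3 F q) // ((x ≠ 1 ∧ x * x = 1) ∧ ¬ Commute t x) ∧
        ¬ ∃ y : ↥(Cfsg.SU 3 F q), y ≠ 1 ∧ y * y = 1 ∧ Commute t y ∧ Commute y x}
        = (q + 1) * (q ^ 2 - 1) := by
      rw [← N3]
      apply Nat.card_congr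
      apply Equiv.subtypeEquivRight
      intro x
      constructor
      · rintro ⟨⟨⟨a, b⟩, c⟩, d⟩
        refine ⟨a, b, c, ?_⟩
        intro y hy1 hy2 hcc
        exact d ⟨y, hy1, hy2, hcc.1, hcc.2⟩
      · rintro ⟨a, b, c, d⟩
        refine ⟨⟨⟨a, b⟩, c⟩, ?_⟩
        rintro ⟨y, hy1, hy2, h3, h4⟩
        exact d y hy1 hy2 ⟨h3, h4⟩
    have c4 : Nat.card {x : ↥(Cfsg.SU 3 F q) // ((x ≠ 1 ∧ x * x = 1) ∧ ¬ Commute t x) ∧
        ∃ y : ↥(Cfsg.SU 3 F q), y ≠ 1 ∧ y * y = 1 ∧ Commute t y ∧ Commute y x}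
        = Nat.card {x : ↥(Cfsg.SU 3 F q) // x ≠ 1 ∧ x * x = 1 ∧ ¬ Commute t x ∧
        ∃ y : ↥(Cfsg.SU 3 F q), y ≠ 1 ∧ y * y = 1 ∧ Commute t y ∧ Commute y x} :=
      Nat.card_congr (Equiv.subtypeEquivRight (fun x =>
        ⟨fun ⟨⟨⟨a, b⟩, c⟩, d⟩ => ⟨a, b, c, d⟩, fun ⟨a, b, c, d⟩ => ⟨⟨⟨a, b⟩, c⟩, d⟩⟩))
    rw [← c4]
    set M := Nat.card {x : ↥(Cfsg.SU 3 F q) // ((x ≠ 1 ∧ x * x = 1) ∧ ¬ Commute t x) ∧
        ∃ y : ↥(Cfsg.SU 3 F q), y ≠ 1 ∧ y * y = 1 ∧ Commute t y ∧ Commute y x}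
    rw [c1, c2] at s2
    rw [c3] at s3
    rw [Ntot, s2, s3] at s1
    have h5 : ((q ^ 2 * (q ^ 2 - q + 1) : ℕ) : ℤ)
        = ((1 + q * (q - 1) + (M + (q + 1) * (q ^ 2 - 1)) : ℕ) : ℤ) := by rw [s1]
    push_cast [Nat.cast_sub hqq, Nat.cast_sub h1q, Nat.cast_sub (show 1 ≤ q by omega)] at h5
    have h6 : ((q * (q - 2) * (q ^ 2 - 1) : ℕ) : ℤ) = (M : ℤ) := by
      push_cast [Nat.cast_sub h1q, Nat.cast_sub (show 2 ≤ q by omega)]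
      linear_combination h5
    exact_mod_cast h6.symm
  refine ⟨N1, N2, N3, ?_⟩
  intro x hx1 hx2
  by_cases hc : Commute t x
  · exact ⟨t, x, ht, ht2, hx1, hx2, Commute.refl t, hc, Commute.refl x⟩
  · by_cases hE : ∃ y : ↥(Cfsg.SU 3 F q), y ≠ 1 ∧ y * y = 1 ∧ Commute t y ∧ Commute y x
    · obtain ⟨y, hy1, hy2, h3, h4⟩ := hE
      exact ⟨y, x, hy1, hy2, hx1, hx2, h3, h4, Commute.refl x⟩
    · obtain ⟨v, hv⟩ := exists_isRefl (hK := hF) hq x hx1 hx2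
      have h3 : ¬ Commute t x ∧ ∀ y : ↥(Cfsg.SU 3 F q), y ≠ 1 → y * y = 1 →
          ¬ (Commute t y ∧ Commute y x) := by
        refine ⟨hc, ?_⟩
        intro y hy1 hy2 hcc
        exact hE ⟨y, hy1, hy2, hcc.1, hcc.2⟩
      obtain ⟨α, w, hα0, hw0, hwu, hww, hve⟩ := (dist_three_iff hq ht ht2 hu hx1 hx2 hv).mp h3
      exact exists_path_three hq ht ht2 hu hv hα0 hw0 hwu hww hve

end Cfsg.Agent.S2356
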