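import Cfsg.Statements.S2360
import Cfsg.Agent.Lib.Helper63.SU3Inv

set_option autoImplicit false
open Cfsg

namespace Cfsg.Agent.S2360

open Cfsg.Agent.Helper63.SU3

/-- Let q be odd, F the field with q² elements and S = SU_3(F) (determinant-one isometries of the standard Hermitian form). Then all involutions of S are conjugate; there are exactly q²(q²−q+1) of them; the centralizer of an involution has order q(q+1)(q²−1), the order of the full unitary group of degree 2; and for two distinct commuting involutions t and x there is exactly one further involution commuting with both. -/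
theorem result {F : Type*} [Field F] [Fintype F] {q : ℕ} (hq : Odd q)
    (hF : Fintype.card F = q ^ 2) (t : ↥(Cfsg.SU 3 F q)) (ht : t ≠ 1) (ht2 : t * t = 1) :
    (∀ x : ↥(Cfsg.SU 3 F q), x ≠ 1 → x * x = 1 → ∃ g : ↥(Cfsg.SU 3 F q), g * t * g⁻¹ = x) ∧
    Nat.card {x : ↥(Cfsg.SU 3 F q) // x ≠ 1 ∧ x * x = 1} = q ^ 2 * (q ^ 2 - q + 1) ∧
    Nat.card ↥(Subgroup.centralizer ({t} : Set ↥(Cfsg.SU 3 F q))) = q * (q + 1) * (q ^ 2 - 1) ∧
    ∀ x : ↥(Cfsg.SU 3 F q), x ≠ 1 → x * x = 1 → x ≠ t → Commute t x →
      Nat.card {y : ↥(Cfsg.SU 3 F q) // y ≠ 1 ∧ y * y = 1 ∧ y ≠ t ∧ y ≠ x ∧ Commute t y ∧ Commute x y} = 1 := by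
  have h2 : (2 : F) ≠ 0 := two_ne_zero_of_odd hF hq
  refine ⟨fun x hx hx2 => involutions_conj (hK := hF) hq t x ht ht2 hx hx2,
    card_involutions (hK := hF) hq t ht ht2,
    card_centralizer_involution (hK := hF) hq t ht ht2, ?_⟩
  intro x hx hx2 hxt hc
  have htinv : t⁻¹ = t := inv_eq_of_mul_eq_one_right ht2
  have hxinv : x⁻¹ = x := inv_eq_of_mul_eq_one_right hx2
  have hc' : t * x = x * t := hc.eq
  rw [Nat.card_eq_one_iff_unique]
  constructor
  · -- uniqueness
    constructor
    have key : ∀ y : ↥(Cfsg.SU 3 F q), y ≠ 1 → y * y = 1 → y ≠ t → y ≠ x → Commute t y →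
        Commute x y → y = t * x := by
      intro y hy hy2 hyt hyx hty hxy
      have hyinv : y⁻¹ = y := inv_eq_of_mul_eq_one_right hy2
      have hty' : t * y = y * t := hty.eq
      have hxy' : x * y = y * x := hxy.eq
      by_contra hne
      set z := y * t * x with hz
      have hz1 : z ≠ 1 := by
        intro h
        apply hne
        have : y = (t * x)⁻¹ := by
          rw [eq_inv_iff_mul_eq_one, ← mul_assoc]; exact h
        rw [this, mul_inv_rev, htinv, hxinv, hc']
      have hz2 : z * z = 1 := by
        have : z * z = (y * y) * (t * t) * (x * x) := by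
          rw [hz]
          calc y * t * x * (y * t * x) = y * t * (x * y) * t * x := by group
            _ = y * t * (y * x) * t * x := by rw [hxy']
            _ = y * (t * y) * (x * t) * x := by group
            _ = y * (y * t) * (t * x) * x := by rw [hty', hc']
            _ = (y * y) * (t * t) * (x * x) := by group
        rw [this, hy2, ht2, hx2]; group
      have hzt : z ≠ t := by
        intro h
        apply hyx
        have h3 : y * x * t = t := by
          calc y * x * t = y * (x * t) := by group
            _ = y * (t * x) := by rw [hc']
            _ = z := by rw [hz]; group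
            _ = t := h
        have h4 : y * x = 1 := by
          have := mul_right_cancel (b := t) (a := y * x) (c := 1) (by rw [h3, one_mul])
          exact this
        rw [← hxinv]; exact eq_inv_of_mul_eq_one_left h4
      have hzx : z ≠ x := by
        intro h
        apply hyt
        have h4 : y * t = 1 := by
          have := mul_right_cancel (b := x) (a := y * t) (c := 1) (by rw [one_mul]; exact h)
          exact this
        rw [← htinv]; exact eq_inv_of_mul_eq_one_left h4
      have hzy : z ≠ y := by
        intro h
        have h4 : t * x = 1 := by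
          have : y * (t * x) = y * 1 := by rw [mul_one, ← mul_assoc]; exact h
          exact mul_left_cancel this
        apply hxt
        rw [← htinv]; exact (eq_inv_of_mul_eq_one_right h4)
      have hczt : Commute t z := by
        show t * z = z * t
        rw [hz]
        calc t * (y * t * x) = (t * y) * t * x := by group
          _ = (y * t) * t * x := by rw [hty']
          _ = y * t * (t * x) := by group
          _ = y * t * (x * t) := by rw [hc']
          _ = y * t * x * t := by group
      have hczx : Commute x z := by
        show x * z = z * x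
        rw [hz]
        calc x * (y * t * x) = (x * y) * t * x := by group
          _ = (y * x) * t * x := by rw [hxy']
          _ = y * (x * t) * x := by group
          _ = y * (t * x) * x := by rw [hc']
          _ = y * t * x * x := by group
      have hczy : Commute y z := by
        show y * z = z * y
        rw [hz]
        calc y * (y * t * x) = y * y * t * x := by group
          _ = y * (t * y) * x := by rw [hty']; group
          _ = y * t * (x * y) := by rw [hxy']; group
          _ = y * t * x * y := by group
      obtain ⟨ut, hut⟩ := exists_isRefl (hK := hF) hq t ht ht2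
      obtain ⟨ux, hux⟩ := exists_isRefl (hK := hF) hq x hx hx2
      obtain ⟨uy, huy⟩ := exists_isRefl (hK := hF) hq y hy hy2
      obtain ⟨uz, huz⟩ := exists_isRefl (hK := hF) hq z hz1 hz2
      have p1 := perp_of_commute hq hut hux hx2 (Ne.symm hxt) hc
      have p2 := perp_of_commute hq hut huy hy2 (Ne.symm hyt) hty
      have p3 := perp_of_commute hq hut huz hz2 (Ne.symm hzt) hczt
      have p4 := perp_of_commute hq hux huy hy2 (Ne.symm hyx) hxy
      have p5 := perp_of_commute hq hux huz hz2 (Ne.symm hzx) hczx
      have p6 := perp_of_commute hq huy huz hz2 (Ne.symm hzy) hczy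
      have hq0 := q_ne_zero hF
      have s := fun {a b : Fin 3 → F} (h : Cfsg.Agent.Lead.stdHerm hF 3 a b = 0) =>
        (Cfsg.Agent.Lead.stdHerm hF 3).eq_zero_symm h hq0
      apply no_four_ortho (hK := hF) ![ut, ux, uy, uz]
      · intro i
        fin_cases i
        · exact hut.1
        · exact hux.1
        · exact huy.1
        · exact huz.1
      · intro i j hij
        fin_cases i <;> fin_cases j
        · exact absurd rfl hij
        · exact p1
        · exact p2
        · exact p3
        · exact s p1
        · exact absurd rfl hij
        · exact p4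
        · exact p5
        · exact s p2
        · exact s p4
        · exact absurd rfl hij
        · exact p6
        · exact s p3
        · exact s p5
        · exact s p6
        · exact absurd rfl hij
    rintro ⟨y₁, h1, h2', h3, h4, h5, h6⟩ ⟨y₂, k1, k2, k3, k4, k5, k6⟩
    apply Subtype.ext
    show y₁ = y₂
    rw [key y₁ h1 h2' h3 h4 h5 h6, key y₂ k1 k2 k3 k4 k5 k6]
  · -- existence: `t * x`
    refine ⟨⟨t * x, ?_, ?_, ?_, ?_, ?_, ?_⟩⟩
    · intro h
      apply hxt
      rw [← htinv]; exact eq_inv_of_mul_eq_one_right h
    · calc t * x * (t * x) = t * (x * t) * x := by group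
        _ = t * (t * x) * x := by rw [hc']
        _ = (t * t) * (x * x) := by group
        _ = 1 := by rw [ht2, hx2]; group
    · intro h
      apply hx
      have : t * x = t * 1 := by rw [mul_one]; exact h
      exact mul_left_cancel this
    · intro h
      apply ht
      have : t * x = 1 * x := by rw [one_mul]; exact h
      exact mul_right_cancel this
    · show t * (t * x) = t * x * t
      rw [mul_assoc, hc']
    · show x * (t * x) = t * x * x
      rw [← mul_assoc, hc']

end Cfsg.Agent.S2360
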