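import Cfsg.Statements.S2363
import Cfsg.Agent.Lib.Helper18.O3K0
import Cfsg.Agent.Lib.Helper57.O3K_PSL
import Cfsg.Agent.Lib.Helper25.O3K_PSP
import Cfsg.Agent.Lib.Helper3.O3K_PSU
import Cfsg.Agent.Lib.Helper19.O3K_OODD
import Cfsg.Agent.Lib.Helper19.O3K_OPLUS
import Cfsg.Agent.Lib.Helper78.O3K_OMINUS
import Cfsg.Agent.Lib.Helper18.O3K_G2
import Cfsg.Agent.Lib.Helper18.O3K_F4
import Cfsg.Agent.Lib.Helper60.O3K_E6
import Cfsg.Agent.Lib.Helper60.O3K_E7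
import Cfsg.Agent.Lib.Helper60.O3K_E8
import Cfsg.Agent.Lib.Helper60.O3K_TE6
import Cfsg.Agent.Lib.Helper26.O3K_TD4
import Cfsg.Agent.Lib.Helper1.O3K_SZ
import Cfsg.Agent.Lib.Helper18.O3K_TF4
import Cfsg.Agent.Lib.Helper6.O3K_REE

set_option autoImplicit false
open Cfsg

namespace Cfsg.Agent.S2363

/-- Let G be a finite simple group of Lie type in characteristic p and let p^k be the exact power of p dividing the order of G. Then the order of G is less than p^(3k); and unless G is isomorphic to PSL(2, F) for the field F with p^k elements, the cube of the order of G is less than p^(8k) (that is, the order is below p^(8k/3)). -/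
theorem result {G : Type*} [Group G] [Finite G] (p : ℕ) (hp : p.Prime) (hG : Cfsg.IsLieTypeChar p G) :
    Nat.card G < p ^ (3 * (Nat.card G).factorization p) ∧
      ((¬ ∃ (F : Type) (_ : Field F) (_ : Fintype F), Fintype.card F = p ^ (Nat.card G).factorization p ∧
          Nonempty (G ≃* Matrix.ProjectiveSpecialLinearGroup (Fin 2) F)) →
        Nat.card G ^ 3 < p ^ (8 * (Nat.card G).factorization p)) := by
  suffices h : Cfsg.Agent.Helper18.O3K.Concl p G from h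
  rcases hG with h | h | h | h | h | h | h | h | h | h | h
  · obtain ⟨F, i1, i2, i3, n, hn, h2, ⟨e⟩⟩ := h
    exact Cfsg.Agent.Helper18.O3K.concl_congr e (Cfsg.Agent.Helper57.O3K.concl_psl hp F n hn h2)
  · obtain ⟨F, i1, i2, i3, m, hm, -, ⟨e⟩⟩ := h
    exact Cfsg.Agent.Helper18.O3K.concl_congr e (Cfsg.Agent.Helper25.O3K.concl_psp hp F m hm)
  · obtain ⟨F, i1, i2, i3, n, q, hF, hn, -, ⟨e⟩⟩ := h
    exact Cfsg.Agent.Helper18.O3K.concl_congr e (Cfsg.Agent.Helper3.O3K.concl_psu hp F n q hF hn)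
  · obtain ⟨F, i1, i2, i3, m, hm, hodd, ⟨e⟩⟩ := h
    exact Cfsg.Agent.Helper18.O3K.concl_congr e (Cfsg.Agent.Helper19.O3K.concl_pomega_odd hp F m hm hodd)
  · obtain ⟨F, i1, i2, i3, m, hm, ⟨e⟩⟩ := h
    exact Cfsg.Agent.Helper18.O3K.concl_congr e (Cfsg.Agent.Helper19.O3K.concl_pomega_plus hp F m hm)
  · obtain ⟨F, i1, i2, i3, m, a, b, hm, hab, ⟨e⟩⟩ := h
    exact Cfsg.Agent.Helper18.O3K.concl_congr e (Cfsg.Agent.Helper78.O3K.concl_pomega_minus hp F m a b hm hab)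
  · obtain ⟨F, i1, i2, i3, h⟩ := h
    rcases h with ⟨-, ⟨e⟩⟩ | ⟨⟨e⟩⟩ | ⟨⟨e⟩⟩ | ⟨⟨e⟩⟩ | ⟨⟨e⟩⟩
    · exact Cfsg.Agent.Helper18.O3K.concl_congr e (Cfsg.Agent.Helper18.O3K.concl_g2 hp F)
    · exact Cfsg.Agent.Helper18.O3K.concl_congr e (Cfsg.Agent.Helper18.O3K.concl_f4 hp F)
    · exact Cfsg.Agent.Helper18.O3K.concl_congr e (Cfsg.Agent.Helper60.O3K.concl_e6 hp F)
    · exact Cfsg.Agent.Helper18.O3K.concl_congr e (Cfsg.Agent.Helper60.O3K.concl_e7 hp F)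
    · exact Cfsg.Agent.Helper18.O3K.concl_congr e (Cfsg.Agent.Helper60.O3K.concl_e8 hp F)
  · obtain ⟨K, i1, i2, i3, q, hq, h⟩ := h
    rcases h with ⟨hK, ⟨e⟩⟩ | ⟨hK, ⟨e⟩⟩
    · exact Cfsg.Agent.Helper18.O3K.concl_congr e (Cfsg.Agent.Helper60.O3K.concl_te6 hp K q hq hK)
    · exact Cfsg.Agent.Helper18.O3K.concl_congr e (Cfsg.Agent.Helper26.O3K.concl_td4 hp K q hq hK)
  · obtain ⟨rfl, F, i1, i2, m, hm, hF, ⟨e⟩⟩ := h
    exact Cfsg.Agent.Helper18.O3K.concl_congr e (Cfsg.Agent.Helper1.O3K.concl_sz F m hm hF)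
  · obtain ⟨rfl, K, i1, i2, m, hm, hK, ⟨e⟩⟩ := h
    exact Cfsg.Agent.Helper18.O3K.concl_congr e (Cfsg.Agent.Helper18.O3K.concl_tf4 K m hm hK)
  · obtain ⟨rfl, K, i1, i2, m, hm, hK, ⟨e⟩⟩ := h
    exact Cfsg.Agent.Helper18.O3K.concl_congr e (Cfsg.Agent.Helper6.O3K.concl_ree K m hm hK)

end Cfsg.Agent.S2363
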