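import Cfsg.Statements.S2364
import Mathlib
import Cfsg.Agent.Lib.Helper42.PrimeCent2

set_option autoImplicit false
open Cfsg

namespace Cfsg.Agent.S2364

open Cfsg.Agent.Helper42.PrimeCent

/-- Let F be a finite field of characteristic p, n ≥ 4, and let a, b be commuting elements of PSL(n, F) with a of order p. Then every prime divisor of the order of b divides the order of SL(n − 2, F). -/
theorem result {F : Type*} [Field F] [Fintype F] (p : ℕ) [Fact p.Prime] [CharP F p] (n : ℕ) (hn : 4 ≤ n)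
    (a b : Matrix.ProjectiveSpecialLinearGroup (Fin n) F) (ha : orderOf a = p) (hab : Commute a b) :
    (orderOf b).primeFactors ⊆ (Nat.card (Matrix.SpecialLinearGroup (Fin (n - 2)) F)).primeFactors := by
  intro r hr
  rw [Nat.mem_primeFactors] at hr ⊢
  obtain ⟨hrp, hrdvd, hob⟩ := hr
  have : Fact r.Prime := ⟨hrp⟩
  have hp : p.Prime := Fact.out
  have hm : 2 ≤ n - 2 := by omega
  refine ⟨hrp, ?_, Nat.card_pos.ne'⟩
  by_cases hrp' : r = p
  · rw [hrp']; exact char_dvd_card_SL p (n - 2) hm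
  by_cases hrq : r ∣ Fintype.card F - 1
  · exact dvd_card_SL_of_dvd (n - 2) hm r 1 le_rfl (by omega) (by simpa using hrq)
  -- main case
  have hob' : orderOf (b ^ (orderOf b / r)) = r := orderOf_pow_orderOf_div hob hrdvd
  have hab' : Commute a (b ^ (orderOf b / r)) := hab.pow_right _
  generalize b ^ (orderOf b / r) = b' at hob' hab'
  obtain ⟨a', rfl⟩ := QuotientGroup.mk_surjective a
  obtain ⟨b'', rfl⟩ := QuotientGroup.mk_surjective b'
  -- scalars
  have ha1 : a' ^ p ∈ Subgroup.center (Matrix.SpecialLinearGroup (Fin n) F) := by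
    rw [← QuotientGroup.eq_one_iff, QuotientGroup.mk_pow, ← ha, pow_orderOf_eq_one]
  have hb1 : b'' ^ r ∈ Subgroup.center (Matrix.SpecialLinearGroup (Fin n) F) := by
    rw [← QuotientGroup.eq_one_iff, QuotientGroup.mk_pow]
    conv_lhs => rw [← hob']
    exact pow_orderOf_eq_one _
  obtain ⟨ζ, hζn, hζ⟩ := exists_scalar_of_mem_center _ ha1
  obtain ⟨μ, hμn, hμ⟩ := exists_scalar_of_mem_center _ hb1
  rw [Matrix.SpecialLinearGroup.coe_pow] at hζ hμ
  have hn0 : n ≠ 0 := by omega
  have hζ0 : ζ ≠ 0 := by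
    rintro rfl
    rw [zero_pow hn0] at hζn
    exact zero_ne_one hζn
  have hμ0 : μ ≠ 0 := by
    rintro rfl
    rw [zero_pow hn0] at hμn
    exact zero_ne_one hμn
  obtain ⟨η, hη⟩ : ∃ η : F, η ^ p = ζ :=
    (Finite.injective_iff_surjective.mp (frobenius_inj F p)) ζ
  have hη0 : η ≠ 0 := by
    rintro rfl
    rw [zero_pow hp.ne_zero] at hη
    exact hζ0 hη.symm
  obtain ⟨ν, hν⟩ : ∃ ν : Fˣ, ν ^ r = Units.mk0 μ hμ0 := by
    have hcop : (Nat.card Fˣ).Coprime r := by
      rw [Nat.card_units, Nat.card_eq_fintype_card]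
      exact ((Nat.Prime.coprime_iff_not_dvd hrp).mpr hrq).symm
    exact (powCoprime hcop).surjective _
  have hν' : (ν : F) ^ r = μ := by
    have := congrArg Units.val hν
    simpa using this
  set A : Matrix (Fin n) (Fin n) F := η⁻¹ • a'.val with hAdef
  set B : Matrix (Fin n) (Fin n) F := (ν : F)⁻¹ • b''.val with hBdef
  have hA : A ^ p = 1 := by
    rw [hAdef, smul_pow, hζ, smul_smul, inv_pow, hη, inv_mul_cancel₀ hζ0, one_smul]
  have hB : B ^ r = 1 := by
    rw [hBdef, smul_pow, hμ, smul_smul, inv_pow, hν', inv_mul_cancel₀ hμ0, one_smul]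
  have hA1 : A ≠ 1 := by
    intro h
    have h1 : a'.val = η • (1 : Matrix (Fin n) (Fin n) F) := by
      rw [← h, hAdef, smul_smul, mul_inv_cancel₀ hη0, one_smul]
    have h2 := mem_center_of_scalar a' η h1
    rw [← QuotientGroup.eq_one_iff] at h2
    rw [h2, orderOf_one] at ha
    exact hp.one_lt.ne ha
  have hB1 : B ≠ 1 := by
    intro h
    have h1 : b''.val = (ν : F) • (1 : Matrix (Fin n) (Fin n) F) := by
      rw [← h, hBdef, smul_smul, mul_inv_cancel₀ ν.ne_zero, one_smul]
    have h2 := mem_center_of_scalar b'' ν h1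
    rw [← QuotientGroup.eq_one_iff] at h2
    rw [h2, orderOf_one] at hob'
    exact hrp.one_lt.ne hob'
  -- twisted commutation
  have hcomm : (b'' * a')⁻¹ * (a' * b'') ∈ Subgroup.center (Matrix.SpecialLinearGroup (Fin n) F) := by
    rw [← QuotientGroup.eq]
    exact hab'.eq.symm
  obtain ⟨c, hcn, hc⟩ := exists_scalar_of_mem_center _ hcomm
  have hab1 : a'.val * b''.val = c • (b''.val * a'.val) := by
    have h1 : a' * b'' = (b'' * a') * ((b'' * a')⁻¹ * (a' * b'')) := by group
    have h2 := congrArg Subtype.val h1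
    rw [Matrix.SpecialLinearGroup.coe_mul, Matrix.SpecialLinearGroup.coe_mul, hc,
      Matrix.SpecialLinearGroup.coe_mul] at h2
    rw [h2, Matrix.mul_smul, Matrix.mul_one]
  have hAB1 : A * B = c • (B * A) := by
    rw [hAdef, hBdef, Matrix.smul_mul, Matrix.mul_smul, Matrix.smul_mul, Matrix.mul_smul, hab1]
    simp only [smul_smul]
    congr 1
    ring
  have hcp : c ^ p = 1 := by
    have h1 := twisted_comm_pow A B c hAB1 p
    rw [hA, Matrix.one_mul, Matrix.mul_one] at h1
    have hB0 : B ≠ 0 := by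
      intro h0
      rw [h0, zero_pow hrp.ne_zero] at hB
      have := congrFun (congrFun hB ⟨0, by omega⟩) ⟨0, by omega⟩
      simp at this
    have h2 : (1 - c ^ p) • B = 0 := by
      rw [sub_smul, one_smul, ← h1, sub_self]
    rcases smul_eq_zero.mp h2 with h3 | h3
    · exact (sub_eq_zero.mp h3).symm
    · exact absurd h3 hB0
  have hc1 : c = 1 := by
    apply frobenius_inj F p
    rw [frobenius_def, frobenius_def, hcp, one_pow]
  have hAB : A * B = B * A := by rw [hAB1, hc1, one_smul]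
  obtain ⟨j, hj1, hj2, hj3⟩ := core_matrix (by omega) p r hrp' A B hA hA1 hB hB1 hAB
  exact dvd_card_SL_of_dvd (n - 2) hm r j hj1 (by omega) hj3

end Cfsg.Agent.S2364
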