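import Cfsg.Statements.S2365
import Mathlib
import Cfsg.Agent.Lib.Helper63.PSUCent

set_option autoImplicit false
open Cfsg

namespace Cfsg.Agent.S2365

open Cfsg.Agent.Helper63.PSUCent Matrix

/-- Let q be a power of the prime p, F the field with q² elements, m ≥ 4, and let a, b be commuting elements of PSU(m, q) with a of order p. Then every prime divisor of the order of b divides the order of SU(m − 2, q). -/
theorem result {F : Type*} [Field F] [Fintype F] (p : ℕ) [Fact p.Prime] [CharP F p] (m q : ℕ) (hm : 4 ≤ m) (hF : Fintype.card F = q ^ 2)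
    (a b : Cfsg.PSU m F q) (ha : orderOf a = p) (hab : Commute a b) :
    (orderOf b).primeFactors ⊆ (Nat.card ↥(Cfsg.SU (m - 2) F q)).primeFactors := by
  classical
  intro r hr
  rw [Nat.mem_primeFactors] at hr ⊢
  obtain ⟨hrp, hrdvd, hob⟩ := hr
  have : Fact r.Prime := ⟨hrp⟩
  have hp : p.Prime := Fact.out
  have hm2 : 2 ≤ m - 2 := by omega
  have hq2 := Cfsg.Agent.Helper19.herm_two_le hF
  refine ⟨hrp, ?_, Nat.card_pos.ne'⟩
  by_cases hrp' : r = p
  · rw [hrp']; exact char_dvd_card_SU hF p (m - 2) hm2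
  by_cases hrq : r ∣ q ^ 2 - 1
  · exact hrq.trans (sq_sub_one_dvd_card_SU hF (m - 2) hm2)
  -- main case
  have hob' : orderOf (b ^ (orderOf b / r)) = r := orderOf_pow_orderOf_div hob hrdvd
  have hab' : Commute a (b ^ (orderOf b / r)) := hab.pow_right _
  generalize b ^ (orderOf b / r) = b' at hob' hab'
  obtain ⟨a', rfl⟩ := QuotientGroup.mk_surjective a
  obtain ⟨b'', rfl⟩ := QuotientGroup.mk_surjective b'
  -- scalars
  have ha1 : a' ^ p ∈ Subgroup.center (Cfsg.SU m F q) := by
    rw [← QuotientGroup.eq_one_iff, QuotientGroup.mk_pow, ← ha, pow_orderOf_eq_one]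
  have hb1 : b'' ^ r ∈ Subgroup.center (Cfsg.SU m F q) := by
    rw [← QuotientGroup.eq_one_iff, QuotientGroup.mk_pow]
    conv_lhs => rw [← hob']
    exact pow_orderOf_eq_one _
  obtain ⟨ζ, hζn, hζ⟩ := exists_scalar_of_mem_center hF (by omega) _ ha1
  obtain ⟨μ, hμn, hμ⟩ := exists_scalar_of_mem_center hF (by omega) _ hb1
  rw [mat_pow] at hζ hμ
  have hq1 : q + 1 ≠ 0 := by omega
  have hζ0 : ζ ≠ 0 := by
    rintro rfl
    rw [zero_pow hq1] at hζn
    exact zero_ne_one hζn
  have hμ0 : μ ≠ 0 := by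
    rintro rfl
    rw [zero_pow hq1] at hμn
    exact zero_ne_one hμn
  obtain ⟨η, hη⟩ : ∃ η : F, η ^ p = ζ :=
    (Finite.injective_iff_surjective.mp (frobenius_inj F p)) ζ
  have hη0 : η ≠ 0 := by
    rintro rfl
    rw [zero_pow hp.ne_zero] at hη
    exact hζ0 hη.symm
  have hηn : η ^ (q + 1) = 1 := by
    apply frobenius_inj F p
    rw [frobenius_def, frobenius_def, one_pow, ← pow_mul, mul_comm, pow_mul, hη, hζn]
  have hcop : (Nat.card Fˣ).Coprime r := by
    rw [Nat.card_units, Nat.card_eq_fintype_card, hF]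
    exact ((Nat.Prime.coprime_iff_not_dvd hrp).mpr hrq).symm
  obtain ⟨ν, hν⟩ : ∃ ν : Fˣ, ν ^ r = Units.mk0 μ hμ0 :=
    (powCoprime hcop).surjective _
  have hν' : (ν : F) ^ r = μ := by
    have := congrArg Units.val hν
    simpa using this
  have hνn : (ν : F) ^ (q + 1) = 1 := by
    have h1 : (ν ^ (q + 1)) ^ r = (1 : Fˣ) ^ r := by
      rw [one_pow, ← pow_mul, mul_comm, pow_mul, hν]
      apply Units.ext
      simpa using hμn
    have h2 := (powCoprime hcop).injective h1
    have := congrArg Units.val h2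
    simpa using this
  set A : Matrix (Fin m) (Fin m) F := η⁻¹ • mat a' with hAdef
  set B : Matrix (Fin m) (Fin m) F := (ν : F)⁻¹ • mat b'' with hBdef
  have hA : A ^ p = 1 := by
    rw [hAdef, smul_pow, hζ, smul_smul, inv_pow, hη, inv_mul_cancel₀ hζ0, one_smul]
  have hB : B ^ r = 1 := by
    rw [hBdef, smul_pow, hμ, smul_smul, inv_pow, hν', inv_mul_cancel₀ hμ0, one_smul]
  have hA1 : A ≠ 1 := by
    intro h
    have h1 : mat a' = η • (1 : Matrix (Fin m) (Fin m) F) := by
      rw [← h, hAdef, smul_smul, mul_inv_cancel₀ hη0, one_smul]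
    have h2 := mem_center_of_scalar a' η h1
    rw [← QuotientGroup.eq_one_iff] at h2
    rw [h2, orderOf_one] at ha
    exact hp.one_lt.ne ha
  have hB1 : B ≠ 1 := by
    intro h
    have h1 : mat b'' = (ν : F) • (1 : Matrix (Fin m) (Fin m) F) := by
      rw [← h, hBdef, smul_smul, mul_inv_cancel₀ ν.ne_zero, one_smul]
    have h2 := mem_center_of_scalar b'' ν h1
    rw [← QuotientGroup.eq_one_iff] at h2
    rw [h2, orderOf_one] at hob'
    exact hrp.one_lt.ne hob'
  have hAi : ∀ u v, Cfsg.hermForm m F q (A *ᵥ u) (A *ᵥ v) = Cfsg.hermForm m F q u v := by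
    intro u v
    rw [hAdef, Matrix.smul_mulVec, Matrix.smul_mulVec,
      hermForm_smul_smul _ (by rw [inv_pow, hηn, inv_one]), mat_preserves]
  have hBi : ∀ u v, Cfsg.hermForm m F q (B *ᵥ u) (B *ᵥ v) = Cfsg.hermForm m F q u v := by
    intro u v
    rw [hBdef, Matrix.smul_mulVec, Matrix.smul_mulVec,
      hermForm_smul_smul _ (by rw [inv_pow, hνn, inv_one]), mat_preserves]
  -- twisted commutation
  have hcomm : (b'' * a')⁻¹ * (a' * b'') ∈ Subgroup.center (Cfsg.SU m F q) := by
    rw [← QuotientGroup.eq]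
    exact hab'.eq.symm
  obtain ⟨c, hcn, hc⟩ := exists_scalar_of_mem_center hF (by omega) _ hcomm
  have hab1 : mat a' * mat b'' = c • (mat b'' * mat a') := by
    have h1 : a' * b'' = (b'' * a') * ((b'' * a')⁻¹ * (a' * b'')) := by group
    have h2 := congrArg mat h1
    rw [mat_mul, mat_mul (b'' * a'), hc, mat_mul] at h2
    rw [h2, Matrix.mul_smul, Matrix.mul_one]
  have hAB1 : A * B = c • (B * A) := by
    rw [hAdef, hBdef, Matrix.smul_mul, Matrix.mul_smul, Matrix.smul_mul, Matrix.mul_smul, hab1]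
    simp only [smul_smul]
    congr 1
    ring
  have hcp : c ^ p = 1 := by
    have h1 := Cfsg.Agent.Helper42.PrimeCent.twisted_comm_pow A B c hAB1 p
    rw [hA, Matrix.one_mul, Matrix.mul_one] at h1
    have hB0 : B ≠ 0 := by
      intro h0
      rw [h0, zero_pow hrp.ne_zero] at hB
      have := congrFun (congrFun hB ⟨0, by omega⟩) ⟨0, by omega⟩
      simp at this
    have h2 : (1 - c ^ p) • B = 0 := by
      rw [sub_smul, one_smul, ← h1, sub_self]
    rcases smul_eq_zero.mp h2 with h3 | h3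
    · exact (sub_eq_zero.mp h3).symm
    · exact absurd h3 hB0
  have hc1 : c = 1 := by
    apply frobenius_inj F p
    rw [frobenius_def, frobenius_def, hcp, one_pow]
  have hAB : A * B = B * A := by rw [hAB1, hc1, one_smul]
  obtain ⟨t, ht1, ht2, ht3⟩ :=
    core_matrix_unitary hF hm p r hrp' A B hAi hBi hA hA1 hB hB1 hAB
  have ht : 2 ≤ t := by
    by_contra hlt
    have h1 : t = 1 := by omega
    rw [h1] at ht3
    simp only [Nat.not_even_one, if_false, pow_one] at ht3
    apply hrq
    have h2 : q ^ 2 - 1 = (q + 1) * (q - 1) := by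
      have h3 : 1 ≤ q := by omega
      zify [h3, Nat.one_le_pow 2 q h3]
      ring
    rw [h2]
    exact ht3.mul_right _
  exact dvd_card_SU_of_dvd hF (m - 2) r t ht (by omega) ht3

end Cfsg.Agent.S2365
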