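import Mathlib
import Cfsg.Statements.S2367

set_option autoImplicit false
open Cfsg

namespace Cfsg.Agent.S2367

open Nat Finset

theorem key (N p : ℕ) (hodd : p ≠ 2) (h3 : N.factorization p = 3)
    (hchk : ∀ q ∈ (Nat.primeFactorsList N).dedup, q ≠ 2 → (Nat.primeFactorsList N).count q = 3 →
      q ^ 3 < 2 ^ ((Nat.primeFactorsList N).count 2)) :
    p ^ 3 < 2 ^ N.factorization 2 := by
  rw [← Nat.primeFactorsList_count_eq] at h3 ⊢
  have hmem : p ∈ Nat.primeFactorsList N := by
    rw [← List.count_pos_iff]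
    omega
  exact hchk p (List.mem_dedup.mpr hmem) hodd h3

theorem sporadic_case {G : Type*} [Group G] [Finite G] (hG : Cfsg.IsSporadic G)
    (p : ℕ) (hodd : p ≠ 2) (h3 : (Nat.card G).factorization p = 3) :
    p ^ 3 < 2 ^ (Nat.card G).factorization 2 := by
  rcases hG with h | h | h | h | h | h | h | h | h | h | h | h | h | h | h | h | h | h | h | h |
    h | h | h | h | h | h
  all_goals
    obtain ⟨_, hN⟩ := h
    rw [hN] at h3 ⊢
    refine key _ p hodd h3 ?_
    simp only [Nat.primeFactorsList_ofNat]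
    decide

theorem ineq (m : ℕ) (hm : 3 ≤ m) : 2 * (4 * m + 3) ^ 3 < 27 * 8 ^ m := by
  induction m, hm using Nat.le_induction with
  | base => norm_num
  | succ m hm ih =>
    have h1 : (4 * (m + 1) + 3) ^ 3 ≤ 8 * (4 * m + 3) ^ 3 := by
      have : 4 * (m + 1) + 3 ≤ 2 * (4 * m + 3) := by omega
      calc (4 * (m + 1) + 3) ^ 3 ≤ (2 * (4 * m + 3)) ^ 3 := Nat.pow_le_pow_left this 3
        _ = 8 * (4 * m + 3) ^ 3 := by ring
    calc 2 * (4 * (m + 1) + 3) ^ 3 ≤ 2 * (8 * (4 * m + 3) ^ 3) := by omega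
      _ = 8 * (2 * (4 * m + 3) ^ 3) := by ring
      _ < 8 * (27 * 8 ^ m) := by omega
      _ = 27 * 8 ^ (m + 1) := by ring

theorem alt_arith (n p : ℕ) (hp : p.Prime) (hodd : p ≠ 2) (h3 : (n !).factorization p = 3) :
    p ^ 3 < 2 ^ ((n !).factorization 2 - 1) := by
  have hp2 : 2 ≤ p := hp.two_le
  have hp3 : 3 ≤ p := by omega
  have hn0 : n ≠ 0 := by
    rintro rfl
    simp at h3
  -- n < p^2
  have hA : n < p ^ 2 := by
    by_contra hcon
    rw [not_lt] at hcon
    have hlog : 2 ≤ Nat.log p n := by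
      exact Nat.le_log_of_pow_le hp.one_lt hcon
    have hsum := Nat.factorization_factorial hp (n := n) (b := Nat.log p n + 1) (Nat.lt_succ_self _)
    have hsub : Finset.Ico 1 3 ⊆ Finset.Ico 1 (Nat.log p n + 1) := by
      intro i hi
      rw [Finset.mem_Ico] at hi ⊢
      omega
    have hle : ∑ i ∈ Finset.Ico 1 3, n / p ^ i ≤ ∑ i ∈ Finset.Ico 1 (Nat.log p n + 1), n / p ^ i :=
      Finset.sum_le_sum_of_subset hsub
    have h13 : Finset.Ico 1 3 = {1, 2} := by decide
    rw [h13, Finset.sum_pair (by norm_num)] at hle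
    have h1 : p ≤ n / p ^ 1 := by
      rw [pow_one, Nat.le_div_iff_mul_le hp.pos]
      calc p * p = p ^ 2 := by ring
        _ ≤ n := hcon
    have h2 : 1 ≤ n / p ^ 2 := by
      rw [Nat.le_div_iff_mul_le (pow_pos hp.pos 2)]
      omega
    omega
  -- v_p(n!) = n / p
  have hlog : Nat.log p n < 2 := Nat.log_lt_of_lt_pow hn0 hA
  have hB := Nat.factorization_factorial hp (n := n) (b := 2) hlog
  have h12 : Finset.Ico 1 2 = {1} := by decide
  rw [h12, Finset.sum_singleton, pow_one, h3] at hB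
  have hn1 : 3 * p ≤ n := by
    have := Nat.div_mul_le_self n p
    rw [← hB] at this
    exact this
  have hp5 : 5 ≤ p := by
    have h4 : 3 < p := by
      by_contra hc
      have : p = 3 := by omega
      subst this
      omega
    rcases Nat.lt_or_ge 4 p with h | h
    · omega
    · exfalso
      have : p = 4 := by omega
      subst this
      norm_num at hp
  have hn15 : 15 ≤ n := by omega
  -- 2-adic bound
  have hlog2 : 3 ≤ Nat.log 2 n := by
    exact Nat.le_log_of_pow_le (by norm_num) (by omega)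
  have hsum2 := Nat.factorization_factorial Nat.prime_two (n := n) (b := Nat.log 2 n + 1)
    (Nat.lt_succ_self _)
  have hsub2 : Finset.Ico 1 3 ⊆ Finset.Ico 1 (Nat.log 2 n + 1) := by
    intro i hi
    rw [Finset.mem_Ico] at hi ⊢
    omega
  have hle2 : ∑ i ∈ Finset.Ico 1 3, n / 2 ^ i ≤ ∑ i ∈ Finset.Ico 1 (Nat.log 2 n + 1), n / 2 ^ i :=
    Finset.sum_le_sum_of_subset hsub2
  have h13 : Finset.Ico 1 3 = {1, 2} := by decide
  rw [h13, Finset.sum_pair (by norm_num)] at hle2
  rw [← hsum2] at hle2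
  norm_num at hle2
  set m := n / 4 with hm
  have hm3 : 3 ≤ m := by omega
  have hv : 3 * m ≤ (n !).factorization 2 := by omega
  have hn4 : n ≤ 4 * m + 3 := by omega
  have h27 : 27 * p ^ 3 < 27 * 2 ^ (3 * m - 1) := by
    have e1 : 27 * p ^ 3 = (3 * p) ^ 3 := by ring
    have e2 : (3 * p) ^ 3 ≤ (4 * m + 3) ^ 3 := Nat.pow_le_pow_left (by omega) 3
    have e3 := ineq m hm3
    have e4 : (8 : ℕ) ^ m = 2 * 2 ^ (3 * m - 1) := by
      have : 3 * m = (3 * m - 1) + 1 := by omega
      calc (8 : ℕ) ^ m = (2 ^ 3) ^ m := by norm_num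
        _ = 2 ^ (3 * m) := by rw [← pow_mul]
        _ = 2 ^ ((3 * m - 1) + 1) := by rw [← this]
        _ = 2 * 2 ^ (3 * m - 1) := by rw [pow_succ]; ring
    rw [e4] at e3
    omega
  have hfin : p ^ 3 < 2 ^ (3 * m - 1) := by omega
  exact lt_of_lt_of_le hfin (Nat.pow_le_pow_right (by norm_num) (by omega))

theorem alternating_case {G : Type*} [Group G] [Finite G] (hG : Cfsg.IsAlternating G)
    (p : ℕ) (hp : p.Prime) (hodd : p ≠ 2) (h3 : (Nat.card G).factorization p = 3) :
    p ^ 3 < 2 ^ (Nat.card G).factorization 2 := by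
  obtain ⟨n, hn, ⟨e⟩⟩ := hG
  have hcard : 2 * Nat.card G = n ! := by
    rw [Nat.card_congr e.toEquiv, Nat.card_eq_fintype_card]
    have : Nontrivial (Fin n) := Fin.nontrivial_iff_two_le.mpr (by omega)
    rw [two_mul_card_alternatingGroup, Fintype.card_perm, Fintype.card_fin]
  have hG0 : Nat.card G ≠ 0 := Nat.card_pos.ne'
  have hfp : (n !).factorization p = 3 := by
    rw [← hcard, Nat.factorization_mul (by norm_num) hG0]
    simp only [Finsupp.coe_add, Pi.add_apply, h3]
    have : (2 : ℕ).factorization p = 0 := by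
      rw [Nat.prime_two.factorization]
      simp [hodd.symm]
    omega
  have hf2 : (n !).factorization 2 = 1 + (Nat.card G).factorization 2 := by
    rw [← hcard, Nat.factorization_mul (by norm_num) hG0]
    simp [Nat.prime_two.factorization]
  have := alt_arith n p hp hodd hfp
  rw [hf2] at this
  simpa using this

theorem result {G : Type*} [Group G] [Finite G] (hG : Cfsg.IsAlternating G ∨ Cfsg.IsSporadic G)
    (p : ℕ) (hp : p.Prime) (hodd : p ≠ 2) (h3 : (Nat.card G).factorization p = 3) :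
    p ^ 3 < 2 ^ (Nat.card G).factorization 2 := by
  rcases hG with h | h
  · exact alternating_case h p hp hodd h3
  · exact sporadic_case h p hodd h3

end Cfsg.Agent.S2367
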