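import Mathlib
import Cfsg.Statements.S2368

set_option autoImplicit false
open Cfsg

namespace Cfsg.Agent.S2368

open Matrix Polynomial

theorem nilp_pow_card {F : Type*} [Field F] {n : Type*} [Fintype n] [DecidableEq n]
    (N : Matrix n n F) (h : IsNilpotent N) : N ^ (Fintype.card n) = 0 := by
  have h1 : N.charpoly = X ^ Fintype.card n := by
    rw [← sub_eq_zero]
    exact (Matrix.isNilpotent_charpoly_sub_pow_of_isNilpotent h).eq_zero
  have h2 := Matrix.aeval_self_charpoly N
  rw [h1] at h2
  simpa using h2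

theorem pow_clog_lt (p m : ℕ) (hp : 2 ≤ p) (hm : 1 ≤ m) : p ^ Nat.clog p m < p * m := by
  rcases Nat.lt_or_ge 1 m with h | h
  · have h1 := Nat.pow_pred_clog_lt_self (b := p) (by omega) h
    have h2 := Nat.clog_pos (b := p) (by omega) h
    obtain ⟨k, hk⟩ : ∃ k, Nat.clog p m = k + 1 := ⟨Nat.clog p m - 1, by omega⟩
    rw [hk] at h1 ⊢
    simp only [Nat.pred_eq_sub_one, Nat.add_sub_cancel] at h1
    rw [pow_succ, mul_comm]
    exact Nat.mul_lt_mul_of_pos_left h1 (by omega)
  · have : m = 1 := by omega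
    subst this
    simp
    omega

/-- The nilpotent Jordan block. -/
def J (F : Type*) [Field F] (m : ℕ) : Matrix (Fin m) (Fin m) F :=
  Matrix.of fun a b => if b.val = a.val + 1 then 1 else 0

theorem J_pow (F : Type*) [Field F] (m : ℕ) (i : ℕ) :
    (J F m) ^ i = Matrix.of fun a b => if b.val = a.val + i then (1 : F) else 0 := by
  induction i with
  | zero =>
    ext a b
    simp [Matrix.one_apply, Fin.ext_iff, eq_comm]
  | succ i ih =>
    rw [pow_succ, ih]
    ext a b
    simp only [Matrix.mul_apply, Matrix.of_apply, J]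
    by_cases h : a.val + i < m
    · rw [Finset.sum_eq_single (⟨a.val + i, h⟩ : Fin m)]
      · simp [add_assoc]
      · intro c _ hc
        have : ¬ c.val = a.val + i := fun h' => hc (Fin.ext h')
        simp [this]
      · intro h'; exact absurd (Finset.mem_univ _) h'
    · rw [Finset.sum_eq_zero]
      · have : ¬ b.val = a.val + (i + 1) := by have := b.isLt; omega
        simp [this]
      · intro c _
        have : ¬ c.val = a.val + i := by have := c.isLt; omega
        simp [this]

theorem J_pow_eq_zero (F : Type*) [Field F] (m : ℕ) (i : ℕ) (h : m ≤ i) : (J F m) ^ i = 0 := by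
  rw [J_pow]
  ext a b
  have : ¬ b.val = a.val + i := by have := b.isLt; omega
  simp [this]

theorem J_pow_ne_zero (F : Type*) [Field F] (m : ℕ) (i : ℕ) (h : i < m) : (J F m) ^ i ≠ 0 := by
  rw [J_pow]
  intro h0
  have := congrFun (congrFun h0 ⟨0, by omega⟩) ⟨i, h⟩
  simp at this

theorem result {F : Type*} [Field F] [Fintype F] (p : ℕ) [Fact p.Prime] [CharP F p] (m : ℕ) (hm : 1 ≤ m) :
    (∀ g : Matrix.GeneralLinearGroup (Fin m) F, (∃ j : ℕ, orderOf g = p ^ j) → orderOf g < p * m) ∧
      ∃ g : Matrix.GeneralLinearGroup (Fin m) F, (∃ j : ℕ, orderOf g = p ^ j) ∧ m ≤ orderOf g := by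
  have hp : p.Prime := Fact.out
  have hchar : CharP (Matrix (Fin m) (Fin m) F) p := by
    have : Nonempty (Fin m) := ⟨⟨0, by omega⟩⟩
    exact Matrix.charP p
  have hk : m ≤ p ^ Nat.clog p m := Nat.le_pow_clog hp.one_lt m
  constructor
  · rintro g ⟨j, hj⟩
    set A : Matrix (Fin m) (Fin m) F := (g : Matrix (Fin m) (Fin m) F) with hAdef
    have hA : A ^ (p ^ j) = 1 := by
      have h1 := pow_orderOf_eq_one g
      rw [hj] at h1
      have h2 := congrArg (fun x : Matrix.GeneralLinearGroup (Fin m) F => (x : Matrix (Fin m) (Fin m) F)) h1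
      simpa using h2
    have hN : (A - 1) ^ (p ^ j) = 0 := by
      rw [sub_pow_char_pow_of_commute _ _ (Commute.one_right A), hA, one_pow, sub_self]
    have hN2 : (A - 1) ^ m = 0 := by
      have := nilp_pow_card (A - 1) ⟨p ^ j, hN⟩
      simpa using this
    have hN3 : (A - 1) ^ (p ^ Nat.clog p m) = 0 := pow_eq_zero_of_le hk hN2
    rw [sub_pow_char_pow_of_commute _ _ (Commute.one_right A), one_pow, sub_eq_zero] at hN3
    have hg : g ^ (p ^ Nat.clog p m) = 1 := by
      apply Units.ext
      simpa using hN3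
    have hdvd := orderOf_dvd_of_pow_eq_one hg
    have hle := Nat.le_of_dvd (pow_pos hp.pos _) hdvd
    exact lt_of_le_of_lt hle (pow_clog_lt p m hp.two_le hm)
  · have hpow : (1 + J F m) ^ (p ^ Nat.clog p m) = 1 := by
      rw [add_pow_char_pow_of_commute _ _ (Commute.one_left _), one_pow, J_pow_eq_zero F m _ hk,
        add_zero]
    have hu : IsUnit (1 + J F m) := IsUnit.of_pow_eq_one hpow (pow_pos hp.pos _).ne'
    set g : Matrix.GeneralLinearGroup (Fin m) F := hu.unit with hgdef
    have hgval : (g : Matrix (Fin m) (Fin m) F) = 1 + J F m := rfl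
    have hg : g ^ (p ^ Nat.clog p m) = 1 := by
      apply Units.ext
      simpa [hgval] using hpow
    obtain ⟨j, _, hj⟩ := (Nat.dvd_prime_pow hp).1 (orderOf_dvd_of_pow_eq_one hg)
    refine ⟨g, ⟨j, hj⟩, ?_⟩
    by_contra hlt
    rw [not_le] at hlt
    have h1 := pow_orderOf_eq_one g
    have h2 := congrArg (fun x : Matrix.GeneralLinearGroup (Fin m) F => (x : Matrix (Fin m) (Fin m) F)) h1
    simp only [Units.val_pow_eq_pow_val, hgval, Units.val_one] at h2
    rw [hj] at h2 hlt
    rw [add_pow_char_pow_of_commute _ _ (Commute.one_left _), one_pow, add_eq_left] at h2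
    exact J_pow_ne_zero F m _ hlt h2

end Cfsg.Agent.S2368
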