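import Cfsg.Statements.S2370
import Cfsg.Agent.S1068
import Cfsg.Agent.S1090
import Cfsg.Agent.Lib.Helper18.F4Exp
import Cfsg.Agent.Lib.Helper18.SylowExp

set_option autoImplicit false
open Cfsg

namespace Cfsg.Agent.S2370

/-- Let q = 2^(2m+1) with m ≥ 1. Every element of 2-power order of the large Ree group ²F₄(q) has order at most 32. -/
theorem result {K : Type*} [Field K] [Fintype K] (m : ℕ) (hm : 1 ≤ m) (hK : Fintype.card K = 2 ^ (2 * m + 1))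
    (x : ↥(Cfsg.Lie.twistedF4 K (2 ^ m))) (hx : ∃ j : ℕ, orderOf x = 2 ^ j) : orderOf x ≤ 32 := by
  classical
  have : Fact (Nat.Prime 2) := ⟨Nat.prime_two⟩
  have : CharP K 2 := charP_of_card_eq_prime_pow hK
  have hle : Cfsg.Lie.chevF4.posUnipotent K ⊓ Cfsg.Lie.twistedF4 K (2 ^ m) ≤ Cfsg.Lie.twistedF4 K (2 ^ m) :=
    inf_le_right
  have hS : Nat.card ↥((Cfsg.Lie.chevF4.posUnipotent K ⊓ Cfsg.Lie.twistedF4 K (2 ^ m)).subgroupOf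
      (Cfsg.Lie.twistedF4 K (2 ^ m))) = 2 ^ ((2 * m + 1) * 12) := by
    rw [pow_mul, ← Cfsg.Agent.S1090.result hK]
    exact Nat.card_congr (Subgroup.subgroupOfEquivOfLe hle).toEquiv
  have hq : Even (2 ^ (2 * m + 1)) := (Nat.even_pow.mpr ⟨even_two, by omega⟩)
  have hq1 : 1 ≤ 2 ^ (2 * m + 1) := Nat.one_le_two_pow
  have hodd : Odd ((2 ^ (2 * m + 1) - 1) * ((2 ^ (2 * m + 1)) ^ 3 + 1) * ((2 ^ (2 * m + 1)) ^ 4 - 1) *
      ((2 ^ (2 * m + 1)) ^ 6 + 1)) := by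
    have e3 : Even ((2 ^ (2 * m + 1)) ^ 3) := Nat.even_pow.mpr ⟨hq, by norm_num⟩
    have e4 : Even ((2 ^ (2 * m + 1)) ^ 4) := Nat.even_pow.mpr ⟨hq, by norm_num⟩
    have e6 : Even ((2 ^ (2 * m + 1)) ^ 6) := Nat.even_pow.mpr ⟨hq, by norm_num⟩
    have o1 : Odd (2 ^ (2 * m + 1) - 1) := Nat.Even.sub_odd hq1 hq odd_one
    have o4 : Odd ((2 ^ (2 * m + 1)) ^ 4 - 1) := Nat.Even.sub_odd (Nat.one_le_pow _ _ (by omega)) e4 odd_one
    exact ((o1.mul e3.add_one).mul o4).mul e6.add_one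
  have hG : Nat.card ↥(Cfsg.Lie.twistedF4 K (2 ^ m)) = 2 ^ ((2 * m + 1) * 12) *
      ((2 ^ (2 * m + 1) - 1) * ((2 ^ (2 * m + 1)) ^ 3 + 1) * ((2 ^ (2 * m + 1)) ^ 4 - 1) *
      ((2 ^ (2 * m + 1)) ^ 6 + 1)) := by
    rw [Cfsg.Agent.S1068.result hK, pow_mul]
    ring
  have hexp : ∀ s ∈ (Cfsg.Lie.chevF4.posUnipotent K ⊓ Cfsg.Lie.twistedF4 K (2 ^ m)).subgroupOf
      (Cfsg.Lie.twistedF4 K (2 ^ m)), s ^ 32 = 1 := by
    intro s hs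
    rw [Subgroup.mem_subgroupOf] at hs
    apply Subtype.ext
    rw [Subgroup.coe_pow, Subgroup.coe_one]
    exact Cfsg.Agent.Helper18.F4Exp.pow_32_eq_one _ hs.1
  have h32 : x ^ 32 = 1 :=
    Cfsg.Agent.Helper18.SylowExp.pow_eq_one_of_sylow 2 _ _ _ 32 hS hG
      (Nat.coprime_two_left.mpr hodd) hexp x hx
  exact Nat.le_of_dvd (by norm_num) (orderOf_dvd_of_pow_eq_one h32)

end Cfsg.Agent.S2370
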