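import Cfsg.Statements.S2379
import Cfsg.Agent.Lib.Helper40.SylowGLNum
import Cfsg.Agent.Lib.Helper40.SylowGLTorus
import Cfsg.Agent.Lib.Helper5.SLCard
import Cfsg.Agent.Lib.Helper57.SLSylow
-- import your own Cfsg.Agent.* helpers here

set_option autoImplicit false
open Cfsg

namespace Cfsg.Agent.S2379

open Cfsg.Agent.Helper40.SylGL Cfsg.Agent.Helper57

/-- Sylow subgroups of `SL_n(q)` for large primes. Let `F` be a field with `q` elements and `r` a prime with `r > n` and `r ∤ q` (so `r` does not divide the order `n!` of the Weyl group). Let `d` be the multiplicative order of `q` modulo `r`, `a` the number of integers `i` with `2 ≤ i ≤ n` divisible by `d` (the degrees of the Weyl group are `2, …, n`), and `m` the `r`-part of the value at `q` of the `d`-th cyclotomic polynomial. Then every Sylow `r`-subgroup of `SL_n(q)` is a direct product of `a` cyclic groups of order `m`. -/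
theorem result {F : Type*} [Field F] [Fintype F] {q : ℕ} (hq : Fintype.card F = q) (n : ℕ)
    (r : ℕ) [Fact r.Prime] (hrn : n < r) (hrq : ¬ r ∣ q) (P : Sylow r (Matrix.SpecialLinearGroup (Fin n) F)) :
    Nonempty (↥(P : Subgroup (Matrix.SpecialLinearGroup (Fin n) F)) ≃*
      (Fin ((Finset.Icc 2 n).filter (fun i => orderOf (q : ZMod r) ∣ i)).card →
        Multiplicative (ZMod (r ^ padicValNat r ((Polynomial.cyclotomic (orderOf (q : ZMod r)) ℤ).eval (q : ℤ)).natAbs)))) := by
  classical
  have hr : r.Prime := Fact.out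
  have hq2 : 2 ≤ q := hq ▸ Fintype.one_lt_card
  have hdpos : 0 < orderOf (q : ZMod r) := orderOf_pos hrq
  have hv' := padicValNat_cyclotomic hq2 hrq
  have hT := padicValNat_card_GL hq2 hrq n hrn
  have hone := dvd_pow_sub_one_iff (r := r) (q := q) (by omega) 1
  obtain ⟨d, hd⟩ : ∃ d, d = orderOf (q : ZMod r) := ⟨_, rfl⟩
  rw [← hd] at hdpos hv' hT hone ⊢
  obtain ⟨v, hv⟩ : ∃ v, v = padicValNat r ((Polynomial.cyclotomic d ℤ).eval (q : ℤ)).natAbs :=
    ⟨_, rfl⟩
  rw [← hv] at hv' ⊢
  rw [hv'] at hT
  have : NeZero (r ^ v) := ⟨pow_ne_zero _ hr.ne_zero⟩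
  have hZ : Nat.card (Multiplicative (ZMod (r ^ v))) = r ^ v := Nat.card_zmod _
  rcases Nat.eq_zero_or_pos n with hn0 | hnpos
  · subst hn0
    have hc : ((Finset.Icc 2 0).filter (fun i => d ∣ i)).card = 0 := by simp
    rw [hc]
    have : Subsingleton (Matrix.SpecialLinearGroup (Fin 0) F) :=
      ⟨fun a b => Subtype.ext (Subsingleton.elim _ _)⟩
    apply sylow_equiv_of_injective P
      (1 : (Fin 0 → Multiplicative (ZMod (r ^ v))) →* Matrix.SpecialLinearGroup (Fin 0) F)
    · intro a b _
      exact Subsingleton.elim a b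
    · rw [Nat.card_of_subsingleton (1 : Matrix.SpecialLinearGroup (Fin 0) F),
        Nat.factorization_one, Finsupp.zero_apply, pow_zero]
      exact Nat.card_of_subsingleton (1 : Fin 0 → Multiplicative (ZMod (r ^ v)))
  · have hN := Cfsg.Agent.Helper5.card_SL_mul hq n hnpos
    have hNpos : Nat.card (Matrix.SpecialLinearGroup (Fin n) F) ≠ 0 := Nat.card_pos.ne'
    have hq1 : q - 1 ≠ 0 := by omega
    have hsum : padicValNat r (Nat.card (Matrix.SpecialLinearGroup (Fin n) F)) +
        padicValNat r (q - 1) = n / d * v := by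
      rw [← padicValNat.mul hNpos hq1, hN, hT]
    have hfac : (Nat.card (Matrix.SpecialLinearGroup (Fin n) F)).factorization r =
        padicValNat r (Nat.card (Matrix.SpecialLinearGroup (Fin n) F)) :=
      Nat.factorization_def _ hr
    by_cases hd1 : d = 1
    · have hq1v : padicValNat r (q - 1) = v := by rw [← hv', hd1, pow_one]
      obtain ⟨k, rfl⟩ : ∃ k, n = k + 1 := ⟨n - 1, by omega⟩
      have hc : ((Finset.Icc 2 (k + 1)).filter (fun i => d ∣ i)).card = k := by
        rw [hd1, card_filter_Icc_two_one]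
        omega
      rw [hc]
      have hm : r ^ v ∣ Nat.card Fˣ := by
        rw [Nat.card_units, Nat.card_eq_fintype_card, hq, ← hq1v]
        exact pow_padicValNat_dvd
      obtain ⟨ι, hι⟩ := exists_zmod_hom (G := Fˣ) hm
      obtain ⟨Ψ, hΨ⟩ := exists_diag_SL (F := F) k
      apply sylow_equiv_of_injective P (Ψ.comp (ι.compLeft (Fin k)))
        (hΨ.comp (fun x y hxy => funext fun i => hι (congrFun hxy i)))
      rw [Nat.card_fun, Nat.card_eq_fintype_card (α := Fin k), Fintype.card_fin, hZ, ← pow_mul,
        hfac]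
      congr 1
      rw [hd1, Nat.div_one, hq1v, add_mul, one_mul] at hsum
      have h2 : padicValNat r (Nat.card (Matrix.SpecialLinearGroup (Fin (k + 1)) F)) = k * v := by
        omega
      rw [h2, mul_comm]
    · have hd2 : 2 ≤ d := by omega
      have hnd : ¬ r ∣ q - 1 := by
        intro h
        have h1 : r ∣ q ^ 1 - 1 := by rwa [pow_one]
        have h2 := Nat.le_of_dvd one_pos (hone.mp h1)
        omega
      have hq1v : padicValNat r (q - 1) = 0 := padicValNat.eq_zero_of_not_dvd hnd
      rw [card_filter_Icc_two n d hd2]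
      have hchar : CharP F (ringChar F) := ringChar.charP F
      have hprime : Fact (ringChar F).Prime := ⟨CharP.char_is_prime F (ringChar F)⟩
      have hne : NeZero d := ⟨hdpos.ne'⟩
      have hfr : Module.finrank F (FiniteField.Extension F (ringChar F) d) = d :=
        FiniteField.finrank_extension F (ringChar F) d
      have hcardE : Nat.card (FiniteField.Extension F (ringChar F) d)ˣ = q ^ d - 1 := by
        rw [Nat.card_units, FiniteField.natCard_extension, Nat.card_eq_fintype_card, hq]
      have hm : r ^ v ∣ Nat.card (FiniteField.Extension F (ringChar F) d)ˣ := by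
        rw [hcardE, ← hv']
        exact pow_padicValNat_dvd
      obtain ⟨ι, hι⟩ := exists_zmod_hom (G := (FiniteField.Extension F (ringChar F) d)ˣ) hm
      obtain ⟨φ, hφ⟩ := exists_torusHom (F := F) (FiniteField.Extension F (ringChar F) d)
        (a := n / d) (n := n) (by rw [hfr]; exact Nat.div_mul_le_self n d)
      obtain ⟨Φ, hΦdef⟩ : ∃ Φ : (Fin (n / d) → Multiplicative (ZMod (r ^ v))) →* GL (Fin n) F,
          Φ = φ.comp (ι.compLeft (Fin (n / d))) := ⟨_, rfl⟩
      have hΦ : Function.Injective Φ := by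
        rw [hΦdef]
        exact hφ.comp (fun x y hxy => funext fun i => hι (congrFun hxy i))
      have hcardA : Nat.card (Fin (n / d) → Multiplicative (ZMod (r ^ v))) = (r ^ v) ^ (n / d) := by
        rw [Nat.card_fun, Nat.card_eq_fintype_card (α := Fin (n / d)), Fintype.card_fin, hZ]
      have hcop : Nat.Coprime (Nat.card (Fin (n / d) → Multiplicative (ZMod (r ^ v))))
          (Nat.card Fˣ) := by
        rw [hcardA, Nat.card_units, Nat.card_eq_fintype_card, hq]
        exact Nat.Coprime.pow_left _ (Nat.Coprime.pow_left _ ((Nat.Prime.coprime_iff_not_dvd hr).2 hnd))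
      obtain ⟨Ψ, hΨ⟩ := exists_lift_SL Φ hΦ
        (fun a => hom_eq_one_of_coprime hcop (Matrix.GeneralLinearGroup.det.comp Φ) a)
      apply sylow_equiv_of_injective P Ψ hΨ
      rw [hcardA, ← pow_mul, hfac]
      congr 1
      rw [hq1v, add_zero] at hsum
      rw [hsum, mul_comm]

end Cfsg.Agent.S2379
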