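import Cfsg.Statements.S2380
import Cfsg.Agent.Lib.Helper40.SylowGLNum
import Cfsg.Agent.Lib.Helper40.SylowGLTorus

set_option autoImplicit false
open scoped MatrixGroups
open Cfsg

namespace Cfsg.Agent.S2380

open Cfsg.Agent.Helper40.SylGL

/-- Sylow subgroups of `GL_n(q)` for large primes. Let `F` be a field with `q` elements and `r` a prime with `r > n` and `r ∤ q`. Let `d` be the multiplicative order of `q` modulo `r` and `m` the `r`-part of the value at `q` of the `d`-th cyclotomic polynomial. Then every Sylow `r`-subgroup of `GL_n(q)` is a direct product of `⌊n/d⌋` cyclic groups of order `m` (the degrees of the Weyl group being `1, …, n`). -/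
theorem result {F : Type*} [Field F] [Fintype F] {q : ℕ} (hq : Fintype.card F = q) (n : ℕ)
    (r : ℕ) [Fact r.Prime] (hrn : n < r) (hrq : ¬ r ∣ q) (P : Sylow r (GL (Fin n) F)) :
    Nonempty (↥(P : Subgroup (GL (Fin n) F)) ≃*
      (Fin (n / orderOf (q : ZMod r)) →
        Multiplicative (ZMod (r ^ padicValNat r ((Polynomial.cyclotomic (orderOf (q : ZMod r)) ℤ).eval (q : ℤ)).natAbs)))) := by
  classical
  have hr : r.Prime := Fact.out
  have hq2 : 2 ≤ q := hq ▸ Fintype.one_lt_card
  have hdpos : 0 < orderOf (q : ZMod r) := orderOf_pos hrq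
  have hv' := padicValNat_cyclotomic hq2 hrq
  obtain ⟨d, hd⟩ : ∃ d, d = orderOf (q : ZMod r) := ⟨_, rfl⟩
  rw [← hd] at hdpos hv' ⊢
  obtain ⟨v, hv⟩ : ∃ v, v = padicValNat r ((Polynomial.cyclotomic d ℤ).eval (q : ℤ)).natAbs :=
    ⟨_, rfl⟩
  rw [← hv] at hv' ⊢
  have hchar : CharP F (ringChar F) := ringChar.charP F
  have hprime : Fact (ringChar F).Prime := ⟨CharP.char_is_prime F (ringChar F)⟩
  have hne : NeZero d := ⟨hdpos.ne'⟩
  have hfr : Module.finrank F (FiniteField.Extension F (ringChar F) d) = d :=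
    FiniteField.finrank_extension F (ringChar F) d
  have hcardE : Nat.card (FiniteField.Extension F (ringChar F) d)ˣ = q ^ d - 1 := by
    rw [Nat.card_units, FiniteField.natCard_extension, Nat.card_eq_fintype_card, hq]
  have hm : r ^ v ∣ Nat.card (FiniteField.Extension F (ringChar F) d)ˣ := by
    rw [hcardE, ← hv']
    exact pow_padicValNat_dvd
  obtain ⟨ι, hι⟩ := exists_zmod_hom (G := (FiniteField.Extension F (ringChar F) d)ˣ) hm
  obtain ⟨φ, hφ⟩ := exists_torusHom (F := F) (FiniteField.Extension F (ringChar F) d)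
    (a := n / d) (n := n) (by rw [hfr]; exact Nat.div_mul_le_self n d)
  obtain ⟨Φ, hΦdef⟩ : ∃ Φ : (Fin (n / d) → Multiplicative (ZMod (r ^ v))) →* GL (Fin n) F,
      Φ = φ.comp (ι.compLeft (Fin (n / d))) := ⟨_, rfl⟩
  have hΦ : Function.Injective Φ := by
    rw [hΦdef]
    exact hφ.comp (fun x y hxy => funext fun i => hι (congrFun hxy i))
  have hcardQ : Nat.card Φ.range = r ^ (Nat.card (GL (Fin n) F)).factorization r := by
    rw [Nat.card_congr (MonoidHom.ofInjective hΦ).symm.toEquiv, Nat.card_fun,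
      Nat.card_eq_fintype_card (α := Fin (n / d)), Fintype.card_fin]
    have h1 : Nat.card (Multiplicative (ZMod (r ^ v))) = r ^ v := Nat.card_zmod _
    rw [h1, ← pow_mul]
    congr 1
    rw [Nat.factorization_def _ hr, Matrix.card_GL_field, hq, padicValNat_card_GL hq2 hrq n hrn,
      ← hd, hv']
    ring
  exact ⟨(Sylow.equiv P (Sylow.ofCard Φ.range hcardQ)).trans
    ((MulEquiv.subgroupCongr (Sylow.coe_ofCard Φ.range hcardQ)).trans
      (MonoidHom.ofInjective hΦ).symm)⟩

end Cfsg.Agent.S2380
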