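import Cfsg.Statements.S2381
import Cfsg.Agent.Lib.Helper40.SylowSpNum
import Cfsg.Agent.Lib.Helper40.SylowSpHoms
import Cfsg.Agent.Lib.Helper40.SylowTransfer
import Cfsg.Agent.Lib.Lead.SpCard

set_option autoImplicit false
open scoped MatrixGroups
open Cfsg

namespace Cfsg.Agent.S2381

open Cfsg.Agent.Helper40.SylGL

/-- Sylow subgroups of `Sp_{2n}(q)` for large primes. Let `F` be a field with `q` elements and `r` an odd prime with `r > n` and `r ∤ q` (so `r` does not divide the order `2^n n!` of the Weyl group). Let `d` be the multiplicative order of `q` modulo `r`, `a` the number of `i` with `1 ≤ i ≤ n` and `d ∣ 2i` (the degrees being `2, 4, …, 2n`), and `m` the `r`-part of the value at `q` of the `d`-th cyclotomic polynomial. Then every Sylow `r`-subgroup of the symplectic group `Sp_{2n}(q)` is a direct product of `a` cyclic groups of order `m`. -/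
theorem result {F : Type*} [Field F] [Fintype F] {q : ℕ} (hq : Fintype.card F = q) (n : ℕ)
    (r : ℕ) [Fact r.Prime] (hr2 : r ≠ 2) (hrn : n < r) (hrq : ¬ r ∣ q) (P : Sylow r ↥(Matrix.symplecticGroup (Fin n) F)) :
    Nonempty (↥(P : Subgroup ↥(Matrix.symplecticGroup (Fin n) F)) ≃*
      (Fin ((Finset.Icc 1 n).filter (fun i => orderOf (q : ZMod r) ∣ 2 * i)).card →
        Multiplicative (ZMod (r ^ padicValNat r ((Polynomial.cyclotomic (orderOf (q : ZMod r)) ℤ).eval (q : ℤ)).natAbs)))) := by
  classical
  have hr : r.Prime := Fact.out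
  have hq2 : 2 ≤ q := hq ▸ Fintype.one_lt_card
  have hdpos : 0 < orderOf (q : ZMod r) := orderOf_pos hrq
  have hvSp : (Nat.card ↥(Matrix.symplecticGroup (Fin n) F)).factorization r =
      ((Finset.Icc 1 n).filter (fun i => orderOf (q : ZMod r) ∣ 2 * i)).card *
        padicValNat r (q ^ orderOf (q : ZMod r) - 1) := by
    rw [Nat.factorization_def _ hr, Cfsg.Agent.Lead.card_symplecticGroup,
      Nat.card_eq_fintype_card, hq, padicValNat_card_Sp hr2 hq2 hrq n hrn]
  rw [← padicValNat_cyclotomic hq2 hrq]
  rcases Nat.even_or_odd (orderOf (q : ZMod r)) with he | ho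
  · obtain ⟨e, he⟩ := he
    have hepos : 0 < e := by omega
    have ha : ((Finset.Icc 1 n).filter (fun i => orderOf (q : ZMod r) ∣ 2 * i)).card =
        (n + n) / orderOf (q : ZMod r) := by
      rw [he, ← two_mul]
      exact card_filter_even n e
    have hlt : (n + n) / orderOf (q : ZMod r) < r := by
      have h1 : (n + n) / orderOf (q : ZMod r) = n / e := by
        rw [he, ← two_mul, ← two_mul, Nat.mul_div_mul_left _ _ (by norm_num : 0 < 2)]
      have h2 : n / e ≤ n := Nat.div_le_self n e
      omega
    have hvGL : (Nat.card (GL (Fin (n + n)) F)).factorization r =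
        ((n + n) / orderOf (q : ZMod r)) * padicValNat r (q ^ orderOf (q : ZMod r) - 1) := by
      rw [Nat.factorization_def _ hr, Matrix.card_GL_field, hq,
        padicValNat_card_GL' hr2 hq2 hrq (n + n) hlt]
    rw [ha] at hvSp ⊢
    obtain ⟨P', ⟨eP⟩⟩ := exists_sylow_equiv_of_injective spToGL spToGL_injective
      (hvSp.trans hvGL.symm) P
    obtain ⟨e2⟩ := sylow_GL_equiv hr2 hq (n + n) hrq hlt P'
    exact ⟨eP.trans e2⟩
  · have ha : ((Finset.Icc 1 n).filter (fun i => orderOf (q : ZMod r) ∣ 2 * i)).card =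
        n / orderOf (q : ZMod r) := card_filter_odd n _ ho
    have hlt : n / orderOf (q : ZMod r) < r := by
      have h2 : n / orderOf (q : ZMod r) ≤ n := Nat.div_le_self n _
      omega
    have hvGL : (Nat.card (GL (Fin n) F)).factorization r =
        (n / orderOf (q : ZMod r)) * padicValNat r (q ^ orderOf (q : ZMod r) - 1) := by
      rw [Nat.factorization_def _ hr, Matrix.card_GL_field, hq,
        padicValNat_card_GL' hr2 hq2 hrq n hlt]
    rw [ha] at hvSp ⊢
    obtain ⟨e1⟩ := sylow_equiv_of_injective leviHom leviHom_injective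
      (hvGL.trans hvSp.symm) (default : Sylow r (GL (Fin n) F)) P
    obtain ⟨e2⟩ := sylow_GL_equiv hr2 hq n hrq hlt (default : Sylow r (GL (Fin n) F))
    exact ⟨e1.trans e2⟩

end Cfsg.Agent.S2381
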