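import Cfsg.Statements.S2388
import Cfsg.Agent.Lib.Helper40.SSMatrix

set_option autoImplicit false
open Cfsg

namespace Cfsg.Agent.S2388

open Cfsg.Agent.Helper40.SS

/-- matrix form: two matrices of determinant one killed by `X^N - 1` (`N` invertible) with the
same characteristic polynomial are conjugate by a matrix of determinant one -/
theorem exists_sl_conj {F : Type*} [Field F] [Finite F] {n : ℕ} {N : ℕ} (hN : (N : F) ≠ 0)
    (A B : Matrix (Fin n) (Fin n) F) (hA : A ^ N = 1) (hB : B ^ N = 1)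
    (hc : A.charpoly = B.charpoly) :
    ∃ Z : Matrix (Fin n) (Fin n) F, Z.det = 1 ∧ Z * A = B * Z := by
  have hP := squarefree_X_pow_sub_one (F := F) hN
  obtain ⟨X, hXu, hX⟩ := exists_conj_matrix hP A B (aeval_X_pow_sub_one A hA)
    (aeval_X_pow_sub_one B hB) hc
  rcases Nat.eq_zero_or_pos n with rfl | hn
  · exact ⟨1, by simp, Subsingleton.elim _ _⟩
  · have : Nonempty (Fin n) := ⟨⟨0, hn⟩⟩
    obtain ⟨Y, hY, hdet⟩ := exists_commute_matrix hP A (aeval_X_pow_sub_one A hA) (X.det)⁻¹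
    refine ⟨X * Y, ?_, ?_⟩
    · rw [Matrix.det_mul, hdet, mul_inv_cancel₀ hXu.ne_zero]
    · rw [Matrix.mul_assoc, hY, ← Matrix.mul_assoc, hX, Matrix.mul_assoc]

/-- In `SL_n(q)`, `q` a power of the prime `p`, two elements of order prime to `p` with the same characteristic polynomial are conjugate in `SL_n(q)` (not merely in `GL_n`). -/
theorem result {F : Type*} [Field F] [Fintype F] (p : ℕ) [Fact p.Prime] [CharP F p] (n : ℕ)
    (g h : Matrix.SpecialLinearGroup (Fin n) F) (hg : (orderOf g).Coprime p) (hh : (orderOf h).Coprime p)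
    (hc : (g : Matrix (Fin n) (Fin n) F).charpoly = (h : Matrix (Fin n) (Fin n) F).charpoly) : IsConj g h := by
  set N := orderOf g * orderOf h with hNdef
  have hNp : N.Coprime p := Nat.Coprime.mul_left hg hh
  have hN : (N : F) ≠ 0 := by
    intro h0
    have hdvd : p ∣ N := (CharP.cast_eq_zero_iff F p N).mp h0
    have : p ∣ 1 := by
      have := Nat.dvd_gcd hdvd (dvd_refl p)
      rwa [hNp] at this
    exact (Fact.out : p.Prime).one_lt.ne' (Nat.dvd_one.mp this)
  have hgN : g ^ N = 1 := by rw [hNdef, pow_mul, pow_orderOf_eq_one, one_pow]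
  have hhN : h ^ N = 1 := by rw [hNdef, mul_comm, pow_mul, pow_orderOf_eq_one, one_pow]
  have hA : (g : Matrix (Fin n) (Fin n) F) ^ N = 1 := by
    rw [← Matrix.SpecialLinearGroup.coe_pow, hgN, Matrix.SpecialLinearGroup.coe_one]
  have hB : (h : Matrix (Fin n) (Fin n) F) ^ N = 1 := by
    rw [← Matrix.SpecialLinearGroup.coe_pow, hhN, Matrix.SpecialLinearGroup.coe_one]
  obtain ⟨Z, hZdet, hZ⟩ := exists_sl_conj hN _ _ hA hB hc
  rw [isConj_iff]
  let z : Matrix.SpecialLinearGroup (Fin n) F := ⟨Z, hZdet⟩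
  refine ⟨z, ?_⟩
  rw [mul_inv_eq_iff_eq_mul]
  apply Subtype.ext
  rw [Matrix.SpecialLinearGroup.coe_mul, Matrix.SpecialLinearGroup.coe_mul]
  exact hZ

end Cfsg.Agent.S2388
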