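import Cfsg.Statements.S2384
import Cfsg.Agent.Lib.Helper40.SSClasses
import Cfsg.Agent.S2388

set_option autoImplicit false
open Cfsg

namespace Cfsg.Agent.S2384

open Cfsg.Agent.Helper40.SS Polynomial

/-- a chosen representative of a semisimple class -/
noncomputable def rep {F : Type*} [Field F] (p : ℕ) (n : ℕ)
    (c : {c : ConjClasses (Matrix.SpecialLinearGroup (Fin n) F) //
      ∃ g : Matrix.SpecialLinearGroup (Fin n) F, ConjClasses.mk g = c ∧ (orderOf g).Coprime p}) :
    Matrix.SpecialLinearGroup (Fin n) F := Classical.choose c.2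

theorem rep_spec {F : Type*} [Field F] (p : ℕ) (n : ℕ)
    (c : {c : ConjClasses (Matrix.SpecialLinearGroup (Fin n) F) //
      ∃ g : Matrix.SpecialLinearGroup (Fin n) F, ConjClasses.mk g = c ∧ (orderOf g).Coprime p}) :
    ConjClasses.mk (rep p n c) = c.1 ∧ (orderOf (rep p n c)).Coprime p :=
  Classical.choose_spec c.2

theorem charpoly_eq_of_isConj {F : Type*} [Field F] {n : ℕ}
    {g h : Matrix.SpecialLinearGroup (Fin n) F} (hconj : IsConj g h) :
    (g : Matrix (Fin n) (Fin n) F).charpoly = (h : Matrix (Fin n) (Fin n) F).charpoly := by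
  obtain ⟨x, hx⟩ := isConj_iff.mp hconj
  rw [← hx, Matrix.SpecialLinearGroup.coe_mul, Matrix.SpecialLinearGroup.coe_mul,
    Matrix.charpoly_mul_comm, ← Matrix.mul_assoc, ← Matrix.SpecialLinearGroup.coe_mul,
    inv_mul_cancel, Matrix.SpecialLinearGroup.coe_one, Matrix.one_mul]

/-- the bijection between semisimple classes of `SL_n` and monic polynomials of degree `n` with
constant term `(-1)^n` -/
theorem card_classes_eq {F : Type*} [Field F] [Fintype F] (p : ℕ) [Fact p.Prime] [CharP F p]
    (n : ℕ) :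
    Nat.card {c : ConjClasses (Matrix.SpecialLinearGroup (Fin n) F) //
      ∃ g : Matrix.SpecialLinearGroup (Fin n) F, ConjClasses.mk g = c ∧ (orderOf g).Coprime p} =
    Nat.card {f : {f : F[X] // f.Monic ∧ f.natDegree = n} // f.1.coeff 0 ∈ ({(-1) ^ n} : Set F)} := by
  classical
  let Φ : {c : ConjClasses (Matrix.SpecialLinearGroup (Fin n) F) //
      ∃ g : Matrix.SpecialLinearGroup (Fin n) F, ConjClasses.mk g = c ∧ (orderOf g).Coprime p} →
      {f : {f : F[X] // f.Monic ∧ f.natDegree = n} // f.1.coeff 0 ∈ ({(-1) ^ n} : Set F)} :=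
    fun c => ⟨⟨(rep p n c : Matrix (Fin n) (Fin n) F).charpoly,
      Matrix.charpoly_monic _, by simp⟩, coeff_zero_charpoly_of_det_one _ (rep p n c).2⟩
  have hΦ : Function.Bijective Φ := by
    constructor
    · intro c₁ c₂ h
      have hc : (rep p n c₁ : Matrix (Fin n) (Fin n) F).charpoly =
          (rep p n c₂ : Matrix (Fin n) (Fin n) F).charpoly :=
        congrArg (fun f => f.1.1) h
      obtain ⟨h1, h1'⟩ := rep_spec p n c₁
      obtain ⟨h2, h2'⟩ := rep_spec p n c₂
      have hconj := Cfsg.Agent.S2388.result p n _ _ h1' h2' hc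
      apply Subtype.ext
      rw [← h1, ← h2]
      exact ConjClasses.mk_eq_mk_iff_isConj.mpr hconj
    · rintro ⟨⟨f, hm, hd⟩, h0⟩
      have h0' : f.coeff 0 = (-1) ^ n := h0
      have hne : f.coeff 0 ≠ 0 := by
        rw [h0']
        exact pow_ne_zero _ (neg_ne_zero.mpr one_ne_zero)
      obtain ⟨A, N, hN, hA, hc⟩ := exists_matrix_of_charpoly f hm hd hne
      have hdet : A.det = 1 := det_of_coeff_zero_charpoly A (hc ▸ h0')
      obtain ⟨g, hgA⟩ : ∃ g : Matrix.SpecialLinearGroup (Fin n) F,
          (g : Matrix (Fin n) (Fin n) F) = A := ⟨⟨A, hdet⟩, rfl⟩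
      have hg : g ^ N = 1 := by
        apply Subtype.ext
        rw [Matrix.SpecialLinearGroup.coe_pow, Matrix.SpecialLinearGroup.coe_one, hgA]
        exact hA
      have hcop : (orderOf g).Coprime p :=
        Nat.Coprime.coprime_dvd_left (orderOf_dvd_of_pow_eq_one hg) (coprime_of_natCast_ne_zero p hN)
      refine ⟨⟨ConjClasses.mk g, g, rfl, hcop⟩, ?_⟩
      apply Subtype.ext
      apply Subtype.ext
      change (rep p n ⟨ConjClasses.mk g, g, rfl, hcop⟩ : Matrix (Fin n) (Fin n) F).charpoly = f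
      rw [← hc, ← hgA]
      obtain ⟨h1, -⟩ := rep_spec p n ⟨ConjClasses.mk g, g, rfl, hcop⟩
      exact charpoly_eq_of_isConj (ConjClasses.mk_eq_mk_iff_isConj.mp h1)
  exact Nat.card_congr (Equiv.ofBijective Φ hΦ)

/-- In `SL_n(q)`, `q` a power of the prime `p`, the number of conjugacy classes of elements of order prime to `p` (the semisimple classes) is `q^(n-1)`. -/
theorem result {F : Type*} [Field F] [Fintype F] {q : ℕ} (hq : Fintype.card F = q) (p : ℕ) [Fact p.Prime] [CharP F p] (n : ℕ) (hn : 1 ≤ n) :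
    Nat.card {c : ConjClasses (Matrix.SpecialLinearGroup (Fin n) F) //
      ∃ g : Matrix.SpecialLinearGroup (Fin n) F, ConjClasses.mk g = c ∧ (orderOf g).Coprime p} = q ^ (n - 1) := by
  rw [card_classes_eq p n, card_monic_coeff_zero hn, Nat.card_eq_fintype_card (α := F), hq]
  simp

end Cfsg.Agent.S2384
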