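import Cfsg.Statements.S2385
import Cfsg.Agent.Lib.Helper40.SpSS

set_option autoImplicit false
open Cfsg

namespace Cfsg.Agent.S2385

open Cfsg.Agent.Helper40 Cfsg.Agent.Helper40.Iso Polynomial

/-- a chosen representative of a semisimple class -/
noncomputable def rep {F : Type*} [Field F] (p : ℕ) (n : ℕ)
    (c : {c : ConjClasses ↥(Matrix.symplecticGroup (Fin n) F) //
      ∃ g : ↥(Matrix.symplecticGroup (Fin n) F), ConjClasses.mk g = c ∧ (orderOf g).Coprime p}) :
    ↥(Matrix.symplecticGroup (Fin n) F) := Classical.choose c.2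

theorem rep_spec {F : Type*} [Field F] (p : ℕ) (n : ℕ)
    (c : {c : ConjClasses ↥(Matrix.symplecticGroup (Fin n) F) //
      ∃ g : ↥(Matrix.symplecticGroup (Fin n) F), ConjClasses.mk g = c ∧ (orderOf g).Coprime p}) :
    ConjClasses.mk (rep p n c) = c.1 ∧ (orderOf (rep p n c)).Coprime p :=
  Classical.choose_spec c.2

/-- conjugate symplectic matrices have the same characteristic polynomial -/
theorem charpoly_eq_of_isConj {F : Type*} [Field F] (n : ℕ)
    (g h : ↥(Matrix.symplecticGroup (Fin n) F)) (hconj : IsConj g h) :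
    (g : Matrix (Fin n ⊕ Fin n) (Fin n ⊕ Fin n) F).charpoly =
      (h : Matrix (Fin n ⊕ Fin n) (Fin n ⊕ Fin n) F).charpoly := by
  obtain ⟨x, hx⟩ := isConj_iff.mp hconj
  have h1 : (x : Matrix (Fin n ⊕ Fin n) (Fin n ⊕ Fin n) F) * g =
      (h : Matrix (Fin n ⊕ Fin n) (Fin n ⊕ Fin n) F) * x := by
    have := congrArg (fun y : ↥(Matrix.symplecticGroup (Fin n) F) =>
      (y : Matrix (Fin n ⊕ Fin n) (Fin n ⊕ Fin n) F)) (mul_inv_eq_iff_eq_mul.mp hx)
    exact this
  have h2 : (x⁻¹ : ↥(Matrix.symplecticGroup (Fin n) F)).1 * x.1 = 1 := by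
    have := congrArg (fun y : ↥(Matrix.symplecticGroup (Fin n) F) =>
      (y : Matrix (Fin n ⊕ Fin n) (Fin n ⊕ Fin n) F)) (inv_mul_cancel x)
    exact this
  have h3 : (g : Matrix (Fin n ⊕ Fin n) (Fin n ⊕ Fin n) F) =
      (x⁻¹ : ↥(Matrix.symplecticGroup (Fin n) F)).1 * (h.1 * x.1) := by
    rw [← h1, ← Matrix.mul_assoc, h2, Matrix.one_mul]
  have h4 : x.1 * (x⁻¹ : ↥(Matrix.symplecticGroup (Fin n) F)).1 = 1 := by
    have := congrArg (fun y : ↥(Matrix.symplecticGroup (Fin n) F) =>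
      (y : Matrix (Fin n ⊕ Fin n) (Fin n ⊕ Fin n) F)) (mul_inv_cancel x)
    exact this
  rw [h3, Matrix.charpoly_mul_comm, Matrix.mul_assoc, h4, Matrix.mul_one]

/-- the bijection between semisimple classes of `Sp_{2n}` and monic palindromic polynomials of
degree `2n` -/
theorem card_classes_eq {F : Type*} [Field F] [Fintype F] (p : ℕ) [Fact p.Prime] [CharP F p]
    (n : ℕ) :
    Nat.card {c : ConjClasses ↥(Matrix.symplecticGroup (Fin n) F) //
      ∃ g : ↥(Matrix.symplecticGroup (Fin n) F), ConjClasses.mk g = c ∧ (orderOf g).Coprime p} =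
    Nat.card {f : F[X] // f.Monic ∧ f.natDegree = 2 * n ∧ f.reverse = f} := by
  classical
  let Φ : {c : ConjClasses ↥(Matrix.symplecticGroup (Fin n) F) //
      ∃ g : ↥(Matrix.symplecticGroup (Fin n) F), ConjClasses.mk g = c ∧ (orderOf g).Coprime p} →
      {f : F[X] // f.Monic ∧ f.natDegree = 2 * n ∧ f.reverse = f} :=
    fun c => ⟨(rep p n c : Matrix (Fin n ⊕ Fin n) (Fin n ⊕ Fin n) F).charpoly,
      Matrix.charpoly_monic _, by
        rw [Matrix.charpoly_natDegree_eq_dim, Fintype.card_sum, Fintype.card_fin, two_mul],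
      charpoly_reverse_of_mem_sp n _ (rep p n c).2⟩
  have hΦ : Function.Bijective Φ := by
    constructor
    · intro c₁ c₂ h
      have hc : (rep p n c₁ : Matrix (Fin n ⊕ Fin n) (Fin n ⊕ Fin n) F).charpoly =
          (rep p n c₂ : Matrix (Fin n ⊕ Fin n) (Fin n ⊕ Fin n) F).charpoly :=
        congrArg (fun f => f.1) h
      obtain ⟨h1, h1'⟩ := rep_spec p n c₁
      obtain ⟨h2, h2'⟩ := rep_spec p n c₂
      have hconj := Cfsg.Agent.S2389.result p n _ _ h1' h2' hc
      apply Subtype.ext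
      rw [← h1, ← h2]
      exact ConjClasses.mk_eq_mk_iff_isConj.mpr hconj
    · rintro ⟨f, hm, hd, hrev⟩
      obtain ⟨g, N, hN, hNF, hg, hc⟩ := exists_sp_of_charpoly n f hm hd hrev
      have hcop : (orderOf g).Coprime p :=
        Nat.Coprime.coprime_dvd_left (orderOf_dvd_of_pow_eq_one hg)
          (SS.coprime_of_natCast_ne_zero p hNF)
      refine ⟨⟨ConjClasses.mk g, g, rfl, hcop⟩, ?_⟩
      apply Subtype.ext
      change (rep p n ⟨ConjClasses.mk g, g, rfl, hcop⟩ :
        Matrix (Fin n ⊕ Fin n) (Fin n ⊕ Fin n) F).charpoly = f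
      rw [← hc]
      obtain ⟨h1, -⟩ := rep_spec p n ⟨ConjClasses.mk g, g, rfl, hcop⟩
      have hconj : IsConj (rep p n ⟨ConjClasses.mk g, g, rfl, hcop⟩) g :=
        ConjClasses.mk_eq_mk_iff_isConj.mp h1
      exact charpoly_eq_of_isConj n _ _ hconj
  exact Nat.card_congr (Equiv.ofBijective Φ hΦ)

/-- In the symplectic group `Sp_{2n}(q)`, `q` a power of the prime `p`, the number of conjugacy classes of elements of order prime to `p` is `q^n`. -/
theorem result {F : Type*} [Field F] [Fintype F] {q : ℕ} (hq : Fintype.card F = q) (p : ℕ) [Fact p.Prime] [CharP F p] (n : ℕ) :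
    Nat.card {c : ConjClasses ↥(Matrix.symplecticGroup (Fin n) F) //
      ∃ g : ↥(Matrix.symplecticGroup (Fin n) F), ConjClasses.mk g = c ∧ (orderOf g).Coprime p} = q ^ n := by
  rw [card_classes_eq p n, card_palindromic n, Nat.card_eq_fintype_card, hq]

end Cfsg.Agent.S2385
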