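import Cfsg.Statements.S2386
import Cfsg.Agent.Lib.Helper40.SUSS

set_option autoImplicit false
open Cfsg

namespace Cfsg.Agent.S2386

open Cfsg.Agent.Helper40 Cfsg.Agent.Helper40.Iso Polynomial

/-- a chosen representative of a semisimple class -/
noncomputable def rep {F : Type*} [Field F] (q : ℕ) (p : ℕ) (n : ℕ)
    (c : {c : ConjClasses ↥(Cfsg.SU n F q) //
      ∃ g : ↥(Cfsg.SU n F q), ConjClasses.mk g = c ∧ (orderOf g).Coprime p}) :
    ↥(Cfsg.SU n F q) := Classical.choose c.2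

theorem rep_spec {F : Type*} [Field F] (q : ℕ) (p : ℕ) (n : ℕ)
    (c : {c : ConjClasses ↥(Cfsg.SU n F q) //
      ∃ g : ↥(Cfsg.SU n F q), ConjClasses.mk g = c ∧ (orderOf g).Coprime p}) :
    ConjClasses.mk (rep q p n c) = c.1 ∧ (orderOf (rep q p n c)).Coprime p :=
  Classical.choose_spec c.2

/-- conjugate elements of `SU_n` have the same characteristic polynomial -/
theorem charpoly_eq_of_isConj {F : Type*} [Field F] (q : ℕ) (n : ℕ)
    (g h : ↥(Cfsg.SU n F q)) (hconj : IsConj g h) :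
    ((g : Matrix.SpecialLinearGroup (Fin n) F) : Matrix (Fin n) (Fin n) F).charpoly =
      ((h : Matrix.SpecialLinearGroup (Fin n) F) : Matrix (Fin n) (Fin n) F).charpoly := by
  obtain ⟨x, hx⟩ := isConj_iff.mp hconj
  have key : ∀ y z : ↥(Cfsg.SU n F q),
      (((y * z : ↥(Cfsg.SU n F q)) : Matrix.SpecialLinearGroup (Fin n) F) :
        Matrix (Fin n) (Fin n) F) =
      ((y : Matrix.SpecialLinearGroup (Fin n) F) : Matrix (Fin n) (Fin n) F) *
      ((z : Matrix.SpecialLinearGroup (Fin n) F) : Matrix (Fin n) (Fin n) F) := by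
    intro y z
    rw [Subgroup.coe_mul, Matrix.SpecialLinearGroup.coe_mul]
  have h1 : ((x : Matrix.SpecialLinearGroup (Fin n) F) : Matrix (Fin n) (Fin n) F) *
      ((g : Matrix.SpecialLinearGroup (Fin n) F) : Matrix (Fin n) (Fin n) F) =
      ((h : Matrix.SpecialLinearGroup (Fin n) F) : Matrix (Fin n) (Fin n) F) *
      ((x : Matrix.SpecialLinearGroup (Fin n) F) : Matrix (Fin n) (Fin n) F) := by
    rw [← key, ← key, mul_inv_eq_iff_eq_mul.mp hx]
  have h2 : ((x⁻¹ : ↥(Cfsg.SU n F q)) : Matrix.SpecialLinearGroup (Fin n) F).1 *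
      ((x : Matrix.SpecialLinearGroup (Fin n) F) : Matrix (Fin n) (Fin n) F) = 1 := by
    rw [← key, inv_mul_cancel]
    rfl
  have h4 : ((x : Matrix.SpecialLinearGroup (Fin n) F) : Matrix (Fin n) (Fin n) F) *
      ((x⁻¹ : ↥(Cfsg.SU n F q)) : Matrix.SpecialLinearGroup (Fin n) F).1 = 1 := by
    rw [← key, mul_inv_cancel]
    rfl
  have h3 : ((g : Matrix.SpecialLinearGroup (Fin n) F) : Matrix (Fin n) (Fin n) F) =
      ((x⁻¹ : ↥(Cfsg.SU n F q)) : Matrix.SpecialLinearGroup (Fin n) F).1 *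
      (((h : Matrix.SpecialLinearGroup (Fin n) F) : Matrix (Fin n) (Fin n) F) *
        ((x : Matrix.SpecialLinearGroup (Fin n) F) : Matrix (Fin n) (Fin n) F)) := by
    rw [← h1, ← Matrix.mul_assoc, h2, Matrix.one_mul]
  rw [h3, Matrix.charpoly_mul_comm, Matrix.mul_assoc, h4, Matrix.mul_one]

/-- the bijection between semisimple classes of `SU_n` and monic self-dual polynomials of
degree `n` with constant term `(-1)^n` -/
theorem card_classes_eq {F : Type*} [Field F] [Fintype F] {q : ℕ} (hF : Fintype.card F = q ^ 2)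
    (p : ℕ) [Fact p.Prime] [CharP F p] (n : ℕ) (τ : F →+* F) (hτq : ∀ x, τ x = x ^ q)
    (hτ : ∀ x, τ (τ x) = x) (hτne : ∃ c, τ c ≠ c) :
    Nat.card {c : ConjClasses ↥(Cfsg.SU n F q) //
      ∃ g : ↥(Cfsg.SU n F q), ConjClasses.mk g = c ∧ (orderOf g).Coprime p} =
    Nat.card {f : F[X] // f.Monic ∧ f.natDegree = n ∧ dualPoly τ f = f ∧
      f.coeff 0 = (-1) ^ n} := by
  classical
  have hq2 := Cfsg.Agent.S2390.two_le_q hF
  have hq0 : q ≠ 0 := by omega
  let Φ : {c : ConjClasses ↥(Cfsg.SU n F q) //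
      ∃ g : ↥(Cfsg.SU n F q), ConjClasses.mk g = c ∧ (orderOf g).Coprime p} →
      {f : F[X] // f.Monic ∧ f.natDegree = n ∧ dualPoly τ f = f ∧ f.coeff 0 = (-1) ^ n} :=
    fun c => ⟨((rep q p n c : Matrix.SpecialLinearGroup (Fin n) F) :
        Matrix (Fin n) (Fin n) F).charpoly,
      Matrix.charpoly_monic _, by
        rw [Matrix.charpoly_natDegree_eq_dim, Fintype.card_fin],
      charpoly_selfdual_of_unitary n _ (transpose_mul_map_eq_one n hτq hq0 _
        ((Cfsg.Agent.S2390.mem_SU_iff n _).mp (rep q p n c).2)),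
      SS.coeff_zero_charpoly_of_det_one _ (rep q p n c).1.2⟩
  have hΦ : Function.Bijective Φ := by
    constructor
    · intro c₁ c₂ h
      have hc : ((rep q p n c₁ : Matrix.SpecialLinearGroup (Fin n) F) :
          Matrix (Fin n) (Fin n) F).charpoly =
          ((rep q p n c₂ : Matrix.SpecialLinearGroup (Fin n) F) :
          Matrix (Fin n) (Fin n) F).charpoly :=
        congrArg (fun f => f.1) h
      obtain ⟨h1, h1'⟩ := rep_spec q p n c₁
      obtain ⟨h2, h2'⟩ := rep_spec q p n c₂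
      have hconj := Cfsg.Agent.S2390.result hF p n _ _ h1' h2' hc
      apply Subtype.ext
      rw [← h1, ← h2]
      exact ConjClasses.mk_eq_mk_iff_isConj.mpr hconj
    · rintro ⟨f, hm, hd, hsd, h0⟩
      obtain ⟨g, N, hN, hNF, hg, hc⟩ := exists_su_of_charpoly n hτq hτ hτne hq0 f hm hd hsd h0
      have hcop : (orderOf g).Coprime p :=
        Nat.Coprime.coprime_dvd_left (orderOf_dvd_of_pow_eq_one hg)
          (SS.coprime_of_natCast_ne_zero p hNF)
      refine ⟨⟨ConjClasses.mk g, g, rfl, hcop⟩, ?_⟩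
      apply Subtype.ext
      change ((rep q p n ⟨ConjClasses.mk g, g, rfl, hcop⟩ : Matrix.SpecialLinearGroup (Fin n) F) :
        Matrix (Fin n) (Fin n) F).charpoly = f
      rw [← hc]
      obtain ⟨h1, -⟩ := rep_spec q p n ⟨ConjClasses.mk g, g, rfl, hcop⟩
      have hconj : IsConj (rep q p n ⟨ConjClasses.mk g, g, rfl, hcop⟩) g :=
        ConjClasses.mk_eq_mk_iff_isConj.mp h1
      exact charpoly_eq_of_isConj q n _ _ hconj
  exact Nat.card_congr (Equiv.ofBijective Φ hΦ)

/-- In the special unitary group `SU_n(q)` (matrices of determinant one over the field with `q²` elements preserving the standard Hermitian form), `q` a power of the prime `p`, the number of conjugacy classes of elements of order prime to `p` is `q^(n-1)`. -/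
theorem result {F : Type*} [Field F] [Fintype F] {q : ℕ} (hF : Fintype.card F = q ^ 2) (p : ℕ) [Fact p.Prime] [CharP F p] (n : ℕ) (hn : 1 ≤ n) :
    Nat.card {c : ConjClasses ↥(Cfsg.SU n F q) // ∃ g : ↥(Cfsg.SU n F q), ConjClasses.mk g = c ∧ (orderOf g).Coprime p} = q ^ (n - 1) := by
  obtain ⟨τ, hτq, hτ, hτne⟩ := Cfsg.Agent.S2390.exists_frob hF p
  obtain ⟨m, rfl⟩ : ∃ m, n = m + 1 := ⟨n - 1, by omega⟩
  rw [card_classes_eq hF p (m + 1) τ hτq hτ hτne, Nat.add_sub_cancel]
  exact card_SDPoly_unitary (by rw [Nat.card_eq_fintype_card, hF]) hτ hτne m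

end Cfsg.Agent.S2386
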