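import Cfsg.Statements.S2387
import Cfsg.Agent.Lib.Helper40.SSClasses

set_option autoImplicit false
open scoped MatrixGroups
open Cfsg

namespace Cfsg.Agent.S2387

open Cfsg.Agent.Helper40.SS Polynomial

/-- a chosen representative of a semisimple class -/
noncomputable def rep {F : Type*} [Field F] (p : ℕ) (n : ℕ)
    (c : {c : ConjClasses (GL (Fin n) F) // ∃ g : GL (Fin n) F, ConjClasses.mk g = c ∧ (orderOf g).Coprime p}) :
    GL (Fin n) F := Classical.choose c.2

theorem rep_spec {F : Type*} [Field F] (p : ℕ) (n : ℕ)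
    (c : {c : ConjClasses (GL (Fin n) F) // ∃ g : GL (Fin n) F, ConjClasses.mk g = c ∧ (orderOf g).Coprime p}) :
    ConjClasses.mk (rep p n c) = c.1 ∧ (orderOf (rep p n c)).Coprime p :=
  Classical.choose_spec c.2

/-- the bijection between semisimple classes of `GL_n` and monic polynomials of degree `n` with
nonzero constant term -/
theorem card_classes_eq {F : Type*} [Field F] [Fintype F] (p : ℕ) [Fact p.Prime] [CharP F p]
    (n : ℕ) :
    Nat.card {c : ConjClasses (GL (Fin n) F) // ∃ g : GL (Fin n) F, ConjClasses.mk g = c ∧ (orderOf g).Coprime p} =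
    Nat.card {f : {f : F[X] // f.Monic ∧ f.natDegree = n} // f.1.coeff 0 ∈ {x : F | x ≠ 0}} := by
  classical
  have hdet : ∀ g : GL (Fin n) F, (g : Matrix (Fin n) (Fin n) F).det ≠ 0 := fun g =>
    ((Matrix.isUnit_iff_isUnit_det _).mp g.isUnit).ne_zero
  let Φ : {c : ConjClasses (GL (Fin n) F) // ∃ g : GL (Fin n) F,
      ConjClasses.mk g = c ∧ (orderOf g).Coprime p} →
      {f : {f : F[X] // f.Monic ∧ f.natDegree = n} // f.1.coeff 0 ∈ {x : F | x ≠ 0}} :=
    fun c => ⟨⟨(rep p n c : Matrix (Fin n) (Fin n) F).charpoly,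
      Matrix.charpoly_monic _, by simp⟩, coeff_zero_charpoly_ne_zero _ (hdet _)⟩
  have hΦ : Function.Bijective Φ := by
    constructor
    · intro c₁ c₂ h
      have hc : (rep p n c₁ : Matrix (Fin n) (Fin n) F).charpoly =
          (rep p n c₂ : Matrix (Fin n) (Fin n) F).charpoly :=
        congrArg (fun f => f.1.1) h
      obtain ⟨h1, h1'⟩ := rep_spec p n c₁
      obtain ⟨h2, h2'⟩ := rep_spec p n c₂
      have hN : ((orderOf (rep p n c₁) * orderOf (rep p n c₂) : ℕ) : F) ≠ 0 :=
        natCast_ne_zero_of_coprime p (Nat.Coprime.mul_left h1' h2')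
      have hconj := isConj_GL _ _ hN (by rw [pow_mul, pow_orderOf_eq_one, one_pow])
        (by rw [mul_comm, pow_mul, pow_orderOf_eq_one, one_pow]) hc
      apply Subtype.ext
      rw [← h1, ← h2]
      exact ConjClasses.mk_eq_mk_iff_isConj.mpr hconj
    · rintro ⟨⟨f, hm, hd⟩, h0⟩
      obtain ⟨g, N, hN, hg, hc⟩ := exists_GL_of_charpoly f hm hd h0
      have hcop : (orderOf g).Coprime p :=
        Nat.Coprime.coprime_dvd_left (orderOf_dvd_of_pow_eq_one hg) (coprime_of_natCast_ne_zero p hN)
      refine ⟨⟨ConjClasses.mk g, g, rfl, hcop⟩, ?_⟩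
      apply Subtype.ext
      apply Subtype.ext
      change (rep p n ⟨ConjClasses.mk g, g, rfl, hcop⟩ : Matrix (Fin n) (Fin n) F).charpoly = f
      rw [← hc]
      obtain ⟨h1, -⟩ := rep_spec p n ⟨ConjClasses.mk g, g, rfl, hcop⟩
      have hconj : IsConj (rep p n ⟨ConjClasses.mk g, g, rfl, hcop⟩) g :=
        ConjClasses.mk_eq_mk_iff_isConj.mp h1
      obtain ⟨x, hx⟩ := isConj_iff.mp hconj
      have h3 := congrArg (fun y : GL (Fin n) F => (y : Matrix (Fin n) (Fin n) F).charpoly) hx
      simp only [Units.val_mul, Matrix.coe_units_inv, Matrix.charpoly_units_conj] at h3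
      exact h3
  exact Nat.card_congr (Equiv.ofBijective Φ hΦ)

/-- In `GL_n(q)` with `n ≥ 1`, `q` a power of the prime `p`, the number of conjugacy classes of elements of order prime to `p` (diagonalisable over the algebraic closure; determined by the characteristic polynomial) is `(q - 1) q^(n-1)`. -/
theorem result {F : Type*} [Field F] [Fintype F] {q : ℕ} (hq : Fintype.card F = q) (p : ℕ) [Fact p.Prime] [CharP F p] (n : ℕ) (hn : 1 ≤ n) :
    Nat.card {c : ConjClasses (GL (Fin n) F) // ∃ g : GL (Fin n) F, ConjClasses.mk g = c ∧ (orderOf g).Coprime p} = (q - 1) * q ^ (n - 1) := by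
  rw [card_classes_eq p n, card_monic_coeff_zero hn, Nat.card_eq_fintype_card (α := F), hq]
  congr 1
  have e : ({x : F | x ≠ 0} : Set F) ≃ Fˣ := unitsEquivNeZero.symm
  rw [Nat.card_congr e, Nat.card_units, Nat.card_eq_fintype_card, hq]

end Cfsg.Agent.S2387
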