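import Cfsg.Statements.S2389
import Cfsg.Agent.Lib.Helper40.IsoMain
import Cfsg.Agent.Lib.Helper40.SSClasses

set_option autoImplicit false
open Cfsg

namespace Cfsg.Agent.S2389

open Cfsg.Agent.Helper40 Cfsg.Agent.Helper40.Iso Polynomial Matrix

variable {F : Type*} [Field F]

theorem dot_mulVec_eq (n : ℕ) (A : Matrix (Fin n ⊕ Fin n) (Fin n ⊕ Fin n) F)
    (u w : Fin n ⊕ Fin n → F) : (A *ᵥ u) ⬝ᵥ w = u ⬝ᵥ (Aᵀ *ᵥ w) := by
  rw [Matrix.dotProduct_mulVec, Matrix.vecMul_transpose]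

theorem alt_J (n : ℕ) (u : Fin n ⊕ Fin n → F) : u ⬝ᵥ (Matrix.J (Fin n) F *ᵥ u) = 0 := by
  rw [Matrix.J, Matrix.fromBlocks_mulVec, dotProduct, Fintype.sum_sum_type]
  simp only [Sum.elim_inl, Sum.elim_inr, Matrix.zero_mulVec, Matrix.neg_mulVec, Matrix.one_mulVec,
    zero_add, add_zero, Pi.neg_apply, Function.comp_apply]
  rw [← Finset.sum_add_distrib]
  apply Finset.sum_eq_zero
  intro i _
  ring

/-- the standard symplectic form -/
def stdForm (n : ℕ) (F : Type*) [Field F] :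
    SForm (RingHom.id F) (-1 : F) (Fin n ⊕ Fin n → F) where
  B u v := u ⬝ᵥ (Matrix.J (Fin n) F *ᵥ v)
  add_left u v w := add_dotProduct u v _
  smul_left c u v := smul_dotProduct c u _
  add_right u v w := by rw [Matrix.mulVec_add, dotProduct_add]
  smul_right c u v := by rw [Matrix.mulVec_smul, dotProduct_smul, RingHom.id_apply, smul_eq_mul]
  symm u v := by
    rw [RingHom.id_apply, dotProduct_comm, dot_mulVec_eq, Matrix.J_transpose, Matrix.neg_mulVec,
      dotProduct_neg, neg_one_mul]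

theorem stdForm_B (n : ℕ) (u v : Fin n ⊕ Fin n → F) :
    (stdForm n F).B u v = u ⬝ᵥ (Matrix.J (Fin n) F *ᵥ v) := rfl

theorem stdForm_nondeg (n : ℕ) : (stdForm n F).Nondeg := by
  intro u hu
  funext i
  have := hu ((-Matrix.J (Fin n) F) *ᵥ Pi.single i 1)
  rw [stdForm_B, Matrix.mulVec_mulVec, mul_neg, Matrix.J_squared, neg_neg, Matrix.one_mulVec,
    dotProduct_single_one] at this
  exact this

theorem stdForm_isIsom (n : ℕ) (A : Matrix (Fin n ⊕ Fin n) (Fin n ⊕ Fin n) F)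
    (hA : A ∈ Matrix.symplecticGroup (Fin n) F) : IsIsom (stdForm n F) (Matrix.toLin' A) := by
  intro u v
  rw [stdForm_B, stdForm_B, Matrix.toLin'_apply, Matrix.toLin'_apply, dot_mulVec_eq,
    Matrix.mulVec_mulVec, Matrix.mulVec_mulVec, SymplecticGroup.mem_iff'.mp hA]

theorem toLin'_pow' {ι : Type*} [Fintype ι] [DecidableEq ι] (A : Matrix ι ι F) (k : ℕ) :
    (Matrix.toLin' A) ^ k = Matrix.toLin' (A ^ k) := by
  have : Matrix.toLin' A = (Matrix.toLinAlgEquiv' : Matrix ι ι F ≃ₐ[F] _) A := rfl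
  rw [this, ← map_pow]
  rfl

theorem matrix_eq_of_forms {ι : Type*} [Fintype ι] [DecidableEq ι] (X Y : Matrix ι ι F)
    (h : ∀ u v : ι → F, u ⬝ᵥ (X *ᵥ v) = u ⬝ᵥ (Y *ᵥ v)) : X = Y := by
  ext i j
  have := h (Pi.single i 1) (Pi.single j 1)
  simpa using this

/-- In the symplectic group `Sp_{2n}(q)`, `q` a power of the prime `p`, two elements of order prime to `p` with the same characteristic polynomial are conjugate in `Sp_{2n}(q)`. -/
theorem result {F : Type*} [Field F] [Fintype F] (p : ℕ) [Fact p.Prime] [CharP F p] (n : ℕ)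
    (g h : ↥(Matrix.symplecticGroup (Fin n) F)) (hg : (orderOf g).Coprime p) (hh : (orderOf h).Coprime p)
    (hc : (g : Matrix (Fin n ⊕ Fin n) (Fin n ⊕ Fin n) F).charpoly = (h : Matrix (Fin n ⊕ Fin n) (Fin n ⊕ Fin n) F).charpoly) :
    IsConj g h := by
  classical
  set N := orderOf g * orderOf h with hNdef
  have hN : 0 < N := Nat.mul_pos (orderOf_pos g) (orderOf_pos h)
  have hcop : N.Coprime p := Nat.Coprime.mul_left hg hh
  have hNF : (N : F) ≠ 0 := SS.natCast_ne_zero_of_coprime p hcop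
  have hsq := SS.squarefree_X_pow_sub_one (F := F) hNF
  have hgN : g ^ N = 1 := by rw [hNdef, pow_mul, pow_orderOf_eq_one, one_pow]
  have hhN : h ^ N = 1 := by rw [hNdef, mul_comm, pow_mul, pow_orderOf_eq_one, one_pow]
  have hA : (g : Matrix (Fin n ⊕ Fin n) (Fin n ⊕ Fin n) F) ^ N = 1 := by
    rw [← SubmonoidClass.coe_pow, hgN]
    rfl
  have hB : (h : Matrix (Fin n ⊕ Fin n) (Fin n ⊕ Fin n) F) ^ N = 1 := by
    rw [← SubmonoidClass.coe_pow, hhN]
    rfl
  obtain ⟨e, he, hform⟩ := isoEquiv_of_charpoly_eq (τ := RingHom.id F) (ε := (-1 : F))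
    (fun _ => rfl) hN hsq (stdForm n F) (stdForm n F)
    (Matrix.toLin' (g : Matrix (Fin n ⊕ Fin n) (Fin n ⊕ Fin n) F))
    (Matrix.toLin' (h : Matrix (Fin n ⊕ Fin n) (Fin n ⊕ Fin n) F))
    (stdForm_nondeg n) (stdForm_nondeg n) (stdForm_isIsom n _ g.2) (stdForm_isIsom n _ h.2)
    (by rw [toLin'_pow', hA, Matrix.toLin'_one]; rfl)
    (by rw [toLin'_pow', hB, Matrix.toLin'_one]; rfl)
    (fun _ => ⟨rfl, alt_J n, alt_J n⟩)
    (by rw [SS.charpoly_toLin'_eq, SS.charpoly_toLin'_eq, hc])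
  set M := LinearMap.toMatrix' e.toLinearMap with hM
  have hMv : ∀ v, M *ᵥ v = e v := by
    intro v
    rw [hM, ← Matrix.toLin'_apply, Matrix.toLin'_toMatrix']
    rfl
  have hMsp : M ∈ Matrix.symplecticGroup (Fin n) F := by
    rw [SymplecticGroup.mem_iff']
    apply matrix_eq_of_forms
    intro u v
    have := hform u v
    rw [stdForm_B, stdForm_B, ← hMv, ← hMv, dot_mulVec_eq, Matrix.mulVec_mulVec,
      Matrix.mulVec_mulVec] at this
    exact this
  have hconj : M * (g : Matrix (Fin n ⊕ Fin n) (Fin n ⊕ Fin n) F) =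
      (h : Matrix (Fin n ⊕ Fin n) (Fin n ⊕ Fin n) F) * M := by
    have h1 : e.toLinearMap ∘ₗ Matrix.toLin' (g : Matrix (Fin n ⊕ Fin n) (Fin n ⊕ Fin n) F) =
        Matrix.toLin' (h : Matrix (Fin n ⊕ Fin n) (Fin n ⊕ Fin n) F) ∘ₗ e.toLinearMap := by
      apply LinearMap.ext
      intro v
      exact he v
    have h2 := congrArg LinearMap.toMatrix' h1
    rwa [LinearMap.toMatrix'_comp, LinearMap.toMatrix'_comp, LinearMap.toMatrix'_toLin',
      LinearMap.toMatrix'_toLin'] at h2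
  rw [isConj_iff]
  refine ⟨⟨M, hMsp⟩, ?_⟩
  rw [mul_inv_eq_iff_eq_mul]
  apply Subtype.ext
  exact hconj

end Cfsg.Agent.S2389
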