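import Cfsg.Statements.S2390
import Cfsg.Agent.Lib.Helper40.IsoCent
import Cfsg.Agent.Lib.Helper40.SSClasses

set_option autoImplicit false
open Cfsg

namespace Cfsg.Agent.S2390

open Cfsg.Agent.Helper40 Cfsg.Agent.Helper40.Iso Polynomial Matrix

variable {F : Type*} [Field F] {q : ℕ}

theorem two_le_q [Fintype F] (hF : Fintype.card F = q ^ 2) : 2 ≤ q := by
  by_contra hlt
  push Not at hlt
  have h1 : 1 < Fintype.card F := Fintype.one_lt_card
  interval_cases q <;> omega

/-- the Frobenius `x ↦ x ^ q` as a ring homomorphism -/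
theorem exists_frob [Fintype F] (hF : Fintype.card F = q ^ 2) (p : ℕ) [Fact p.Prime] [CharP F p] :
    ∃ τ : F →+* F, (∀ x, τ x = x ^ q) ∧ (∀ x, τ (τ x) = x) ∧ ∃ c, τ c ≠ c := by
  classical
  obtain ⟨m, hp, hm⟩ := FiniteField.card F p
  have hq2 : q ∣ p ^ (m : ℕ) := by
    rw [← hm, hF]
    exact Dvd.intro_left (q ^ 1) (by ring)
  obtain ⟨k, -, hk⟩ := (Nat.dvd_prime_pow hp).mp hq2
  refine ⟨iterateFrobenius F p k, fun x => by rw [iterateFrobenius_def, hk], fun x => ?_, ?_⟩
  · rw [iterateFrobenius_def, iterateFrobenius_def, ← hk, ← pow_mul, ← sq, ← hF,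
      FiniteField.pow_card]
  · obtain ⟨γ, hγ⟩ := IsCyclic.exists_generator (α := Fˣ)
    refine ⟨(γ : F), ?_⟩
    rw [iterateFrobenius_def, ← hk]
    intro hfix
    have h2q := two_le_q hF
    have h1 : γ ^ (q - 1) = 1 := by
      apply Units.ext
      rw [Units.val_pow_eq_pow_val, Units.val_one]
      have h3 : (γ : F) ^ (q - 1) * (γ : F) = 1 * (γ : F) := by
        rw [← pow_succ, Nat.sub_add_cancel (by omega), hfix, one_mul]
      exact mul_right_cancel₀ γ.ne_zero h3
    have h4 : orderOf γ = Nat.card Fˣ := orderOf_eq_card_of_forall_mem_zpowers hγ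
    rw [Nat.card_eq_fintype_card, Fintype.card_units, hF] at h4
    have h5 := orderOf_dvd_of_pow_eq_one h1
    rw [h4] at h5
    have h6 := Nat.le_of_dvd (by omega) h5
    have h7 : q ^ 2 = q * q := sq q
    have h8 : 2 * q ≤ q * q := Nat.mul_le_mul_right q h2q
    rw [h7] at h6
    generalize q * q = Q at h6 h8
    omega

variable (n : ℕ) {τ : F →+* F}

/-- the standard Hermitian form -/
def stdForm (hτq : ∀ x, τ x = x ^ q) (hτ : ∀ x, τ (τ x) = x) :
    SForm τ (1 : F) (Fin n → F) where
  B u v := Cfsg.hermForm n F q u v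
  add_left u v w := by
    simp only [Cfsg.hermForm, Pi.add_apply, add_mul, Finset.sum_add_distrib]
  smul_left c u v := by
    simp only [Cfsg.hermForm, Pi.smul_apply, smul_eq_mul, Finset.mul_sum, mul_assoc]
  add_right u v w := by
    simp only [Cfsg.hermForm, Pi.add_apply, ← hτq, map_add, mul_add, Finset.sum_add_distrib]
  smul_right c u v := by
    simp only [Cfsg.hermForm, Pi.smul_apply, smul_eq_mul, ← hτq, map_mul, Finset.mul_sum]
    apply Finset.sum_congr rfl
    intro i _
    ring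
  symm u v := by
    simp only [Cfsg.hermForm, one_mul, map_sum, map_mul, ← hτq, hτ]
    apply Finset.sum_congr rfl
    intro i _
    ring

theorem stdForm_B (hτq : ∀ x, τ x = x ^ q) (hτ : ∀ x, τ (τ x) = x) (u v : Fin n → F) :
    (stdForm n hτq hτ).B u v = Cfsg.hermForm n F q u v := rfl

theorem hermForm_single (hq : q ≠ 0) (u : Fin n → F) (i : Fin n) :
    Cfsg.hermForm n F q u (Pi.single i 1) = u i := by
  classical
  rw [Cfsg.hermForm, Finset.sum_eq_single i]
  · simp
  · intro j _ hji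
    rw [Pi.single_eq_of_ne hji, zero_pow hq, mul_zero]
  · intro h
    exact absurd (Finset.mem_univ i) h

theorem stdForm_nondeg (hτq : ∀ x, τ x = x ^ q) (hτ : ∀ x, τ (τ x) = x) (hq : q ≠ 0) :
    (stdForm n hτq hτ).Nondeg := by
  intro u hu
  funext i
  have := hu (Pi.single i 1)
  rw [stdForm_B, hermForm_single n hq] at this
  exact this

theorem toLin'_pow' {ι : Type*} [Fintype ι] [DecidableEq ι] (A : Matrix ι ι F) (k : ℕ) :
    (Matrix.toLin' A) ^ k = Matrix.toLin' (A ^ k) := by
  have : Matrix.toLin' A = (Matrix.toLinAlgEquiv' : Matrix ι ι F ≃ₐ[F] _) A := rfl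
  rw [this, ← map_pow]
  rfl

theorem mem_SU_iff (S : Matrix.SpecialLinearGroup (Fin n) F) :
    S ∈ Cfsg.SU n F q ↔ ∀ u v, Cfsg.hermForm n F q ((S : Matrix (Fin n) (Fin n) F) *ᵥ u)
      ((S : Matrix (Fin n) (Fin n) F) *ᵥ v) = Cfsg.hermForm n F q u v := Iff.rfl

/-- a matrix preserving the Hermitian form has determinant of norm one -/
theorem det_norm_one (hτq : ∀ x, τ x = x ^ q) (hq : q ≠ 0) (M : Matrix (Fin n) (Fin n) F)
    (hM : ∀ u v, Cfsg.hermForm n F q (M *ᵥ u) (M *ᵥ v) = Cfsg.hermForm n F q u v) :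
    M.det * τ M.det = 1 := by
  classical
  have hmat : Mᵀ * M.map τ = 1 := by
    ext i j
    have := hM (Pi.single i 1) (Pi.single j 1)
    rw [hermForm_single n hq, Cfsg.hermForm] at this
    rw [Matrix.mul_apply, Matrix.one_apply]
    simp only [Matrix.transpose_apply, Matrix.map_apply, hτq]
    simp only [Matrix.mulVec_single_one, Matrix.col_apply] at this
    rw [this, Pi.single_apply]
    simp only [eq_comm]
  have hdet := congrArg Matrix.det hmat
  rw [Matrix.det_mul, Matrix.det_transpose, Matrix.det_one, ← RingHom.mapMatrix_apply,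
    ← RingHom.map_det] at hdet
  exact hdet

/-- In the special unitary group `SU_n(q)` (inside `SL_n` over the field with `q²` elements), `q` a power of the prime `p`, two elements of order prime to `p` with the same characteristic polynomial are conjugate in `SU_n(q)`. -/
theorem result {F : Type*} [Field F] [Fintype F] {q : ℕ} (hF : Fintype.card F = q ^ 2) (p : ℕ) [Fact p.Prime] [CharP F p] (n : ℕ)
    (g h : ↥(Cfsg.SU n F q)) (hg : (orderOf g).Coprime p) (hh : (orderOf h).Coprime p)
    (hc : ((g : Matrix.SpecialLinearGroup (Fin n) F) : Matrix (Fin n) (Fin n) F).charpoly =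
      ((h : Matrix.SpecialLinearGroup (Fin n) F) : Matrix (Fin n) (Fin n) F).charpoly) : IsConj g h := by
  classical
  rcases Nat.eq_zero_or_pos n with hn0 | hnpos
  · subst hn0
    have : g = h := by
      apply Subtype.ext
      apply Subtype.ext
      exact Subsingleton.elim _ _
    rw [this]
  have hq2 := two_le_q hF
  have hq0 : q ≠ 0 := by omega
  obtain ⟨τ, hτq, hτ, hτne⟩ := exists_frob hF p
  set A : Matrix (Fin n) (Fin n) F := ((g : Matrix.SpecialLinearGroup (Fin n) F) :
    Matrix (Fin n) (Fin n) F) with hAdef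
  set B : Matrix (Fin n) (Fin n) F := ((h : Matrix.SpecialLinearGroup (Fin n) F) :
    Matrix (Fin n) (Fin n) F) with hBdef
  set N := orderOf g * orderOf h with hNdef
  have hN : 0 < N := Nat.mul_pos (orderOf_pos g) (orderOf_pos h)
  have hcop : N.Coprime p := Nat.Coprime.mul_left hg hh
  have hNF : (N : F) ≠ 0 := SS.natCast_ne_zero_of_coprime p hcop
  have hsq := SS.squarefree_X_pow_sub_one (F := F) hNF
  have hgN : g ^ N = 1 := by rw [hNdef, pow_mul, pow_orderOf_eq_one, one_pow]
  have hhN : h ^ N = 1 := by rw [hNdef, mul_comm, pow_mul, pow_orderOf_eq_one, one_pow]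
  have hA : A ^ N = 1 := by
    rw [hAdef, ← Matrix.SpecialLinearGroup.coe_pow, ← Subgroup.coe_pow, hgN]
    rfl
  have hB : B ^ N = 1 := by
    rw [hBdef, ← Matrix.SpecialLinearGroup.coe_pow, ← Subgroup.coe_pow, hhN]
    rfl
  have hAiso : IsIsom (stdForm n hτq hτ) (Matrix.toLin' A) := by
    intro u v
    rw [stdForm_B, stdForm_B, Matrix.toLin'_apply, Matrix.toLin'_apply]
    exact (mem_SU_iff n _).mp g.2 u v
  have hBiso : IsIsom (stdForm n hτq hτ) (Matrix.toLin' B) := by
    intro u v
    rw [stdForm_B, stdForm_B, Matrix.toLin'_apply, Matrix.toLin'_apply]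
    exact (mem_SU_iff n _).mp h.2 u v
  have hnd := stdForm_nondeg (τ := τ) n hτq hτ hq0
  have hApow : (Matrix.toLin' A) ^ N = 1 := by rw [toLin'_pow', hA, Matrix.toLin'_one]; rfl
  have hBpow : (Matrix.toLin' B) ^ N = 1 := by rw [toLin'_pow', hB, Matrix.toLin'_one]; rfl
  obtain ⟨e, he, hform⟩ := isoEquiv_of_charpoly_eq (τ := τ) (ε := (1 : F))
    hτ hN hsq (stdForm n hτq hτ) (stdForm n hτq hτ) (Matrix.toLin' A) (Matrix.toLin' B)
    hnd hnd hAiso hBiso hApow hBpow
    (fun hid => by
      obtain ⟨c, hc⟩ := hτne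
      exact absurd (hid c) hc)
    (by rw [SS.charpoly_toLin'_eq, SS.charpoly_toLin'_eq, hc])
  -- the determinant of `e` has norm one
  have hMe : ∀ v, (LinearMap.toMatrix' e.toLinearMap) *ᵥ v = e v := by
    intro v
    rw [← Matrix.toLin'_apply, Matrix.toLin'_toMatrix']
    rfl
  have hl₀ : LinearMap.det e.toLinearMap * τ (LinearMap.det e.toLinearMap) = 1 := by
    rw [← LinearMap.det_toMatrix']
    apply det_norm_one n hτq hq0
    intro u v
    rw [hMe, hMe]
    exact hform u v
  set l₀ := LinearMap.det e.toLinearMap with hl₀def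
  have hl₀ne : l₀ ≠ 0 := by
    intro h0
    rw [h0, zero_mul] at hl₀
    exact zero_ne_one hl₀
  have hl : l₀⁻¹ * τ l₀⁻¹ = 1 := by
    rw [map_inv₀, ← mul_inv, hl₀, inv_one]
  have : Nontrivial (Fin n → F) := by
    have : Nonempty (Fin n) := ⟨⟨0, hnpos⟩⟩
    infer_instance
  obtain ⟨c, hcg, hcform, hcdet⟩ := isoDet_of_norm_one hτ hτne hN hsq hnd hBiso hBpow l₀⁻¹ hl
  -- the corrected conjugating map
  let e' : (Fin n → F) ≃ₗ[F] (Fin n → F) := e ≪≫ₗ c
  have he' : ∀ v, e' (Matrix.toLin' A v) = Matrix.toLin' B (e' v) := by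
    intro v
    change c (e (Matrix.toLin' A v)) = Matrix.toLin' B (c (e v))
    rw [he, hcg]
  have hform' : ∀ u v, Cfsg.hermForm n F q (e' u) (e' v) = Cfsg.hermForm n F q u v := by
    intro u v
    have h1 := hcform (e u) (e v)
    have h2 := hform u v
    rw [stdForm_B] at h1 h2
    rw [stdForm_B] at h1 h2
    exact h1.trans h2
  set M := LinearMap.toMatrix' e'.toLinearMap with hM
  have hMv : ∀ v, M *ᵥ v = e' v := by
    intro v
    rw [hM, ← Matrix.toLin'_apply, Matrix.toLin'_toMatrix']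
    rfl
  have hMdet : M.det = 1 := by
    rw [hM, LinearMap.det_toMatrix']
    have : e'.toLinearMap = c.toLinearMap ∘ₗ e.toLinearMap := by
      apply LinearMap.ext
      intro v
      rfl
    rw [this, LinearMap.det_comp, hcdet, ← hl₀def, inv_mul_cancel₀ hl₀ne]
  let S : Matrix.SpecialLinearGroup (Fin n) F := ⟨M, hMdet⟩
  have hS : S ∈ Cfsg.SU n F q := by
    rw [mem_SU_iff]
    intro u v
    change Cfsg.hermForm n F q (M *ᵥ u) (M *ᵥ v) = _
    rw [hMv, hMv]
    exact hform' u v
  have hconj : M * A = B * M := by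
    have h1 : e'.toLinearMap ∘ₗ Matrix.toLin' A = Matrix.toLin' B ∘ₗ e'.toLinearMap := by
      apply LinearMap.ext
      intro v
      exact he' v
    have h2 := congrArg LinearMap.toMatrix' h1
    rwa [LinearMap.toMatrix'_comp, LinearMap.toMatrix'_comp, LinearMap.toMatrix'_toLin',
      LinearMap.toMatrix'_toLin'] at h2
  rw [isConj_iff]
  refine ⟨⟨S, hS⟩, ?_⟩
  rw [mul_inv_eq_iff_eq_mul]
  apply Subtype.ext
  apply Subtype.ext
  exact hconj

end Cfsg.Agent.S2390
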