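import Cfsg.Statements.S2391
import Mathlib

set_option autoImplicit false
open Cfsg

namespace Cfsg.Agent.S2391

variable {F : Type*} [Field F] {n : ℕ}

/-- the ascending fixed point series -/
noncomputable def W (U : Subgroup (Matrix.SpecialLinearGroup (Fin n) F)) : ℕ → Submodule F (Fin n → F)
  | 0 => ⊥
  | (i+1) => ⨅ u : U, (W U i).comap
      (Matrix.mulVecLin ((u : Matrix.SpecialLinearGroup (Fin n) F) : Matrix (Fin n) (Fin n) F) - LinearMap.id)

theorem mem_W_succ (U : Subgroup (Matrix.SpecialLinearGroup (Fin n) F)) (i : ℕ) (v : Fin n → F) :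
    v ∈ W U (i+1) ↔ ∀ u ∈ U, (u : Matrix (Fin n) (Fin n) F).mulVec v - v ∈ W U i := by
  simp only [W, Submodule.mem_iInf, Submodule.mem_comap, LinearMap.sub_apply, Matrix.mulVecLin_apply,
    LinearMap.id_apply, Subtype.forall]

theorem W_mono (U : Subgroup (Matrix.SpecialLinearGroup (Fin n) F)) (i : ℕ) : W U i ≤ W U (i+1) := by
  induction i with
  | zero => simp [W]
  | succ i ih =>
    intro v hv
    rw [mem_W_succ] at hv ⊢
    intro u hu
    exact ih (hv u hu)

theorem W_map_le (U : Subgroup (Matrix.SpecialLinearGroup (Fin n) F))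
    (g : Matrix.SpecialLinearGroup (Fin n) F)
    (hg : g ∈ Subgroup.normalizer (U : Set (Matrix.SpecialLinearGroup (Fin n) F))) (i : ℕ) :
    (W U i).map (Matrix.mulVecLin (g : Matrix (Fin n) (Fin n) F)) ≤ W U i := by
  induction i with
  | zero => simp [W]
  | succ i ih =>
    rintro _ ⟨v, hv, rfl⟩
    rw [SetLike.mem_coe, mem_W_succ] at hv
    rw [mem_W_succ]
    intro u hu
    have hginv : g⁻¹ ∈ Subgroup.normalizer (U : Set (Matrix.SpecialLinearGroup (Fin n) F)) :=
      inv_mem hg
    have hu' : g⁻¹ * u * g ∈ U := by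
      have := (Subgroup.mem_normalizer_iff.mp hginv u).mp hu
      simpa using this
    have key := hv _ hu'
    have : (u : Matrix (Fin n) (Fin n) F).mulVec (Matrix.mulVecLin (g : Matrix (Fin n) (Fin n) F) v)
        - Matrix.mulVecLin (g : Matrix (Fin n) (Fin n) F) v
        = Matrix.mulVecLin (g : Matrix (Fin n) (Fin n) F)
          (((g⁻¹ * u * g : Matrix.SpecialLinearGroup (Fin n) F) : Matrix (Fin n) (Fin n) F).mulVec v - v) := by
      have hgrp : u * g = g * (g⁻¹ * u * g) := by group
      have hmat : (u : Matrix (Fin n) (Fin n) F) * (g : Matrix (Fin n) (Fin n) F)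
          = (g : Matrix (Fin n) (Fin n) F) *
            ((g⁻¹ * u * g : Matrix.SpecialLinearGroup (Fin n) F) : Matrix (Fin n) (Fin n) F) := by
        rw [← Matrix.SpecialLinearGroup.coe_mul, ← Matrix.SpecialLinearGroup.coe_mul, ← hgrp]
      simp only [Matrix.mulVecLin_apply, Matrix.mulVec_sub, Matrix.mulVec_mulVec]
      rw [hmat]
    rw [this]
    exact ih ⟨_, key, rfl⟩

theorem W_map_eq (U : Subgroup (Matrix.SpecialLinearGroup (Fin n) F))
    (g : Matrix.SpecialLinearGroup (Fin n) F)
    (hg : g ∈ Subgroup.normalizer (U : Set (Matrix.SpecialLinearGroup (Fin n) F))) (i : ℕ) :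
    (W U i).map (Matrix.mulVecLin (g : Matrix (Fin n) (Fin n) F)) = W U i := by
  apply le_antisymm (W_map_le U g hg i)
  intro v hv
  have hginv : g⁻¹ ∈ Subgroup.normalizer (U : Set (Matrix.SpecialLinearGroup (Fin n) F)) :=
    inv_mem hg
  refine ⟨Matrix.mulVecLin ((g⁻¹ : Matrix.SpecialLinearGroup (Fin n) F) : Matrix (Fin n) (Fin n) F) v,
    W_map_le U g⁻¹ hginv i ⟨v, hv, rfl⟩, ?_⟩
  simp only [Matrix.mulVecLin_apply, Matrix.mulVec_mulVec]
  rw [← Matrix.SpecialLinearGroup.coe_mul, mul_inv_cancel]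
  simp

theorem W_le_comap (U : Subgroup (Matrix.SpecialLinearGroup (Fin n) F)) (i : ℕ) (u : U) :
    W U i ≤ (W U i).comap (Matrix.mulVecLin ((u : Matrix.SpecialLinearGroup (Fin n) F) : Matrix (Fin n) (Fin n) F)) := by
  rw [← Submodule.map_le_iff_le_comap]
  exact W_map_le U u (Subgroup.le_normalizer u.2) i

/-- action on the quotient -/
@[reducible]
noncomputable def quotAction (U : Subgroup (Matrix.SpecialLinearGroup (Fin n) F)) (i : ℕ) :
    MulAction U ((Fin n → F) ⧸ W U i) where
  smul u q := (W U i).mapQ (W U i)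
    (Matrix.mulVecLin ((u : Matrix.SpecialLinearGroup (Fin n) F) : Matrix (Fin n) (Fin n) F)) (W_le_comap U i u) q
  one_smul q := by
    induction q using Submodule.Quotient.induction_on with
    | H v =>
      change (W U i).mapQ (W U i) _ _ (Submodule.Quotient.mk v) = _
      simp
  mul_smul a b q := by
    induction q using Submodule.Quotient.induction_on with
    | H v =>
      change (W U i).mapQ (W U i) _ _ (Submodule.Quotient.mk v) =
        (W U i).mapQ (W U i) _ _ ((W U i).mapQ (W U i) _ _ (Submodule.Quotient.mk v))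
      simp [Matrix.mulVec_mulVec]

theorem W_lt [Fintype F] (p : ℕ) [Fact p.Prime] [CharP F p]
    (U : Subgroup (Matrix.SpecialLinearGroup (Fin n) F)) (hU : IsPGroup p ↥U) (i : ℕ)
    (hi : W U i ≠ ⊤) : W U i < W U (i+1) := by
  refine lt_of_le_of_ne (W_mono U i) ?_
  intro heq
  let _inst := quotAction U i
  have hsmul : ∀ (u : U) (v : Fin n → F), u • (Submodule.Quotient.mk v : (Fin n → F) ⧸ W U i) =
      Submodule.Quotient.mk ((u : Matrix (Fin n) (Fin n) F).mulVec v) := by
    intro u v
    change (W U i).mapQ (W U i) _ _ (Submodule.Quotient.mk v) = _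
    simp
  have : Finite ((Fin n → F) ⧸ W U i) := inferInstance
  -- nontrivial quotient
  obtain ⟨v0, hv0⟩ : ∃ v : Fin n → F, v ∉ W U i := by
    by_contra hcon
    push Not at hcon
    exact hi (eq_top_iff.mpr fun v _ => hcon v)
  have hdvd : p ∣ Nat.card ((Fin n → F) ⧸ W U i) := by
    have hx : (Submodule.Quotient.mk v0 : (Fin n → F) ⧸ W U i) ≠ 0 := by
      rwa [Ne, Submodule.Quotient.mk_eq_zero]
    have hp : p • (Submodule.Quotient.mk v0 : (Fin n → F) ⧸ W U i) = 0 := by
      rw [← Nat.cast_smul_eq_nsmul F, CharP.cast_eq_zero, zero_smul]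
    have := addOrderOf_eq_prime hp hx
    rw [← this]
    exact addOrderOf_dvd_natCard _
  have h0 : (0 : (Fin n → F) ⧸ W U i) ∈ MulAction.fixedPoints U ((Fin n → F) ⧸ W U i) := by
    intro u
    have := hsmul u 0
    simpa using this
  obtain ⟨b, hb, hb0⟩ := hU.exists_fixed_point_of_prime_dvd_card_of_fixed_point _ hdvd h0
  induction b using Submodule.Quotient.induction_on with
  | H v =>
    have hv : v ∉ W U i := by
      intro hv
      apply hb0
      rw [eq_comm, Submodule.Quotient.mk_eq_zero]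
      exact hv
    apply hv
    rw [heq, mem_W_succ]
    intro u hu
    have := hb ⟨u, hu⟩
    rw [hsmul, Submodule.Quotient.eq] at this
    exact this

theorem exists_top [Fintype F] (p : ℕ) [Fact p.Prime] [CharP F p]
    (U : Subgroup (Matrix.SpecialLinearGroup (Fin n) F)) (hU : IsPGroup p ↥U) :
    ∃ m, W U m = ⊤ := by
  have key : ∀ i, W U i = ⊤ ∨ i ≤ Module.finrank F (W U i) := by
    intro i
    induction i with
    | zero => right; exact Nat.zero_le _
    | succ i ih =>
      rcases ih with h | h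
      · left
        exact top_le_iff.mp (h ▸ W_mono U i)
      · by_cases htop : W U i = ⊤
        · left
          exact top_le_iff.mp (htop ▸ W_mono U i)
        · right
          have := Submodule.finrank_lt_finrank_of_lt (W_lt p U hU i htop)
          omega
  rcases key (n+1) with h | h
  · exact ⟨_, h⟩
  · exfalso
    have := Submodule.finrank_le (W U (n+1))
    simp at this
    omega

theorem result {F : Type*} [Field F] [Fintype F] (p : ℕ) [Fact p.Prime] [CharP F p] (n : ℕ)
    (U : Subgroup (Matrix.SpecialLinearGroup (Fin n) F)) (hU : IsPGroup p ↥U) (hne : U ≠ ⊥) :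
    ∃ (k : ℕ) (V : Fin (k + 2) → Submodule F (Fin n → F)), 1 ≤ k ∧ StrictMono V ∧ V 0 = ⊥ ∧ V (Fin.last (k + 1)) = ⊤ ∧
      (∀ g ∈ Subgroup.normalizer (U : Set (Matrix.SpecialLinearGroup (Fin n) F)), ∀ i, (V i).map (Matrix.mulVecLin (g : Matrix (Fin n) (Fin n) F)) = V i) ∧
      (∀ u ∈ U, ∀ i : Fin (k + 1), ∀ v ∈ V i.succ, (u : Matrix (Fin n) (Fin n) F).mulVec v - v ∈ V (Fin.castSucc i)) := by
  classical
  have hex := exists_top p U hU
  -- n ≥ 1
  have hn : n ≠ 0 := by
    rintro rfl
    apply hne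
    rw [Subgroup.eq_bot_iff_forall]
    intro x _
    exact Subsingleton.elim _ _
  have : NeZero n := ⟨hn⟩
  have h0 : W U 0 ≠ ⊤ := by
    simp only [W]
    exact bot_ne_top
  have h1 : W U 1 ≠ ⊤ := by
    intro h
    apply hne
    rw [Subgroup.eq_bot_iff_forall]
    intro u hu
    ext i j
    have hv : (Pi.single j 1 : Fin n → F) ∈ W U 1 := h ▸ Submodule.mem_top
    rw [mem_W_succ] at hv
    have := hv u hu
    simp only [W, Submodule.mem_bot, sub_eq_zero] at this
    have := congrFun this i
    simpa [Matrix.one_apply, Pi.single_apply] using this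
  set m := Nat.find hex with hm
  have hmtop : W U m = ⊤ := Nat.find_spec hex
  have hmmin : ∀ j < m, W U j ≠ ⊤ := fun j hj => Nat.find_min hex hj
  have hm2 : 2 ≤ m := by
    by_contra hlt
    push Not at hlt
    interval_cases m
    · exact h0 hmtop
    · exact h1 hmtop
  obtain ⟨k, hk⟩ : ∃ k, m = k + 1 := ⟨m - 1, by omega⟩
  refine ⟨k, fun i => W U i.val, by omega, ?_, ?_, ?_, ?_, ?_⟩
  · rw [Fin.strictMono_iff_lt_succ]
    intro i
    simp only [Fin.val_castSucc, Fin.val_succ]
    apply W_lt p U hU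
    apply hmmin
    have := i.2
    omega
  · simp [W]
  · simp only [Fin.val_last]
    rw [← hk]; exact hmtop
  · intro g hg i
    exact W_map_eq U g hg _
  · intro u hu i v hv
    simp only [Fin.val_succ] at hv
    simp only [Fin.val_castSucc]
    exact (mem_W_succ U _ v).mp hv u hu

end Cfsg.Agent.S2391
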