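import Cfsg.Statements.S2392
import Mathlib
import Cfsg.Agent.Lib.Helper40.LSCore

set_option autoImplicit false
open scoped MatrixGroups
open Cfsg

namespace Cfsg.Agent.S2392

open Matrix Cfsg.Agent.Helper40

variable {F : Type*} [Field F]

/-- the rank one unipotent element `1 + a bᵀ` -/
def tv {ι : Type*} [Fintype ι] [DecidableEq ι] (a b : ι → F) (h : b ⬝ᵥ a = 0) :
    Matrix.SpecialLinearGroup ι F :=
  ⟨1 + vecMulVec a b, by
    rw [vecMulVec_eq Unit, det_one_add_replicateCol_mul_replicateRow, h, add_zero]⟩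

theorem tv_coe {ι : Type*} [Fintype ι] [DecidableEq ι] (a b : ι → F) (h : b ⬝ᵥ a = 0) :
    ((tv a b h : Matrix.SpecialLinearGroup ι F) : Matrix ι ι F) = 1 + vecMulVec a b := rfl

theorem tv_mul {ι : Type*} [Fintype ι] [DecidableEq ι] (a a' b : ι → F) (h : b ⬝ᵥ a = 0)
    (h' : b ⬝ᵥ a' = 0) (h'' : b ⬝ᵥ (a + a') = 0) : tv a b h * tv a' b h' = tv (a + a') b h'' := by
  apply Subtype.ext
  rw [Matrix.SpecialLinearGroup.coe_mul, tv_coe, tv_coe, tv_coe, mul_add, add_mul, add_mul, one_mul,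
    one_mul, mul_one, vecMulVec_mul_vecMulVec, h', zero_smul, vecMulVec_zero, add_vecMulVec]
  abel

theorem tv_conj {ι : Type*} [Fintype ι] [DecidableEq ι] (z φ u w : ι → F) (hφz : φ ⬝ᵥ z = 0)
    (hwu : w ⬝ᵥ u = 0) (hwz : w ⬝ᵥ z = 0) (h' : w ⬝ᵥ (u + (φ ⬝ᵥ u) • z) = 0) :
    tv z φ hφz * tv u w hwu * (tv z φ hφz)⁻¹ = tv (u + (φ ⬝ᵥ u) • z) w h' := by
  rw [mul_inv_eq_iff_eq_mul]
  apply Subtype.ext
  rw [Matrix.SpecialLinearGroup.coe_mul, Matrix.SpecialLinearGroup.coe_mul, tv_coe, tv_coe, tv_coe,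
    mul_add, add_mul, add_mul, one_mul, one_mul, mul_one, mul_add, add_mul, add_mul, one_mul,
    one_mul, mul_one, vecMulVec_mul_vecMulVec, vecMulVec_mul_vecMulVec, hwz, zero_smul,
    vecMulVec_zero, add_vecMulVec, vecMulVec_smul, smul_vecMulVec]
  abel

/-- extension by zero at index `0` -/
def ext0 {m : ℕ} (u : Fin m → F) : Fin (m + 1) → F := Fin.cons 0 u

theorem ext0_dot {m : ℕ} (u v : Fin m → F) : ext0 u ⬝ᵥ ext0 v = u ⬝ᵥ v := by
  simp [ext0, dotProduct, Fin.sum_univ_succ]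

theorem e0_dot {m : ℕ} (u : Fin m → F) : (Pi.single 0 1 : Fin (m + 1) → F) ⬝ᵥ ext0 u = 0 := by
  rw [single_dotProduct]; simp [ext0]

theorem ext0_add {m : ℕ} (u v : Fin m → F) : ext0 (u + v) = ext0 u + ext0 v := by
  ext i
  refine Fin.cases ?_ (fun j => ?_) i <;> simp [ext0]

theorem ext0_smul {m : ℕ} (c : F) (u : Fin m → F) : ext0 (c • u) = c • ext0 u := by
  ext i
  refine Fin.cases ?_ (fun j => ?_) i <;> simp [ext0]

theorem ext0_zero {m : ℕ} : ext0 (0 : Fin m → F) = 0 := by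
  ext i
  refine Fin.cases ?_ (fun j => ?_) i <;> simp [ext0]

/-- the abelian unipotent subgroup -/
def A {m : ℕ} (u : Fin m → F) : Matrix.SpecialLinearGroup (Fin (m + 1)) F :=
  tv (ext0 u) (Pi.single 0 1) (e0_dot u)

theorem A_zero {m : ℕ} : A (0 : Fin m → F) = 1 := by
  apply Subtype.ext
  rw [A, tv_coe, ext0_zero, zero_vecMulVec, add_zero]
  rfl

theorem A_add {m : ℕ} (u v : Fin m → F) : A (u + v) = A u * A v := by
  rw [A, A, A, tv_mul _ _ _ (e0_dot u) (e0_dot v) (by rw [← ext0_add]; exact e0_dot _)]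
  congr 1
  exact ext0_add u v

theorem A_conj {m : ℕ} (z φ : Fin m → F) (hφz : φ ⬝ᵥ z = 0) :
    ∃ g : Matrix.SpecialLinearGroup (Fin (m + 1)) F, ∀ u, g * A u * g⁻¹ = A (u + (φ ⬝ᵥ u) • z) := by
  refine ⟨tv (ext0 z) (ext0 φ) (by rw [ext0_dot]; exact hφz), fun u => ?_⟩
  rw [A, tv_conj (ext0 z) (ext0 φ) (ext0 u) (Pi.single 0 1) _ (e0_dot u) (e0_dot z)
    (by rw [ext0_dot, ← ext0_smul, ← ext0_add]; exact e0_dot _), A]
  congr 1
  rw [ext0_dot, ext0_add, ext0_smul]

theorem A_not_center {m : ℕ} (u : Fin m → F) (hu : u ≠ 0) :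
    A u ∉ Subgroup.center (Matrix.SpecialLinearGroup (Fin (m + 1)) F) := by
  intro hc
  rw [Matrix.SpecialLinearGroup.mem_center_iff] at hc
  obtain ⟨r, -, hr⟩ := hc
  apply hu
  ext i
  have := congrFun (congrFun hr i.succ) 0
  rw [A, tv_coe] at this
  simp [ext0, vecMulVec_apply, Fin.succ_ne_zero] at this
  simpa using this.symm

theorem natCast_card_ne_zero [Fintype F] {K : Type*} [Field K] (hK : ringChar K ≠ ringChar F) :
    (Fintype.card F : K) ≠ 0 := by
  have : CharP F (ringChar F) := ringChar.charP F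
  have hp : (ringChar F).Prime := CharP.char_is_prime F _
  have : Fact (ringChar F).Prime := ⟨hp⟩
  obtain ⟨a, -, ha⟩ := FiniteField.card F (ringChar F)
  rw [ha, Nat.cast_pow]
  apply pow_ne_zero
  intro h0
  have hdvd := ringChar.dvd h0
  rcases (Nat.dvd_prime hp).mp hdvd with h1 | h1
  · exact CharP.ringChar_ne_one h1
  · exact hK h1

/-- A lower bound for representations in cross characteristic: for `n ≥ 3` and a field `F` with `q` elements, every homomorphism from `SL_n(F)` to `GL_d(K)`, `K` a field of characteristic different from that of `F`, whose kernel is central has `d ≥ q^(n-1) - 1`. -/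
theorem result {F : Type*} [Field F] [Fintype F] {q : ℕ} (hq : Fintype.card F = q) (n : ℕ) (hn : 3 ≤ n)
    {K : Type*} [Field K] (hK : ringChar K ≠ ringChar F) {d : ℕ}
    (ρ : Matrix.SpecialLinearGroup (Fin n) F →* GL (Fin d) K) (hker : ρ.ker ≤ Subgroup.center (Matrix.SpecialLinearGroup (Fin n) F)) :
    q ^ (n - 1) - 1 ≤ d := by
  obtain ⟨m, rfl⟩ : ∃ m, n = m + 1 := ⟨n - 1, by omega⟩
  have hm : 2 ≤ m := by omega
  subst hq
  rw [Nat.add_sub_cancel]
  let P := AddChar.FiniteField.primitiveChar F K hK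
  let K' := CyclotomicField P.n K
  have hq' : (Fintype.card F : K') ≠ 0 := by
    have h0 := natCast_card_ne_zero (F := F) hK
    intro h
    apply h0
    apply (algebraMap K K').injective
    rw [map_natCast, map_zero]
    exact h
  let Φ : Matrix.SpecialLinearGroup (Fin (m + 1)) F →* Matrix (Fin d) (Fin d) K' :=
    ((algebraMap K K').mapMatrix : Matrix (Fin d) (Fin d) K →+* Matrix (Fin d) (Fin d) K').toMonoidHom.comp
      ((Units.coeHom _).comp ρ)
  have hΦ : ∀ g, Φ g = 1 → g ∈ ρ.ker := by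
    intro g hg
    rw [MonoidHom.mem_ker]
    apply Units.ext
    have h1 : ((ρ g : GL (Fin d) K) : Matrix (Fin d) (Fin d) K).map (algebraMap K K')
        = (1 : Matrix (Fin d) (Fin d) K).map (algebraMap K K') := by
      rw [Matrix.map_one _ (map_zero _) (map_one _)]
      exact hg
    exact Matrix.map_injective (algebraMap K K').injective h1
  refine LS.card_le (ψ := P.char) (Φ := Φ) (A := A) hm P.prim hq' A_zero A_add A_conj ?_
  have hne : (Pi.single ⟨0, by omega⟩ 1 : Fin m → F) ≠ 0 := by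
    intro h
    have := congrFun h ⟨0, by omega⟩
    simp at this
  refine ⟨Pi.single ⟨0, by omega⟩ 1, fun h => ?_⟩
  exact A_not_center _ hne (hker (hΦ _ h))

end Cfsg.Agent.S2392
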