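import Cfsg.Statements.S2393
import Mathlib
import Cfsg.Agent.Lib.Helper40.LSCore2
import Cfsg.Agent.Lib.Helper40.SylowTwo

set_option autoImplicit false
open scoped MatrixGroups
open Cfsg

namespace Cfsg.Agent.S2393

open Matrix Cfsg.Agent.Helper40

variable {F : Type*} [Field F] {k : ℕ}

/-- the first basis vector -/
def e0 : Fin (k + 1) → F := Pi.single 0 1

theorem e0_dot (u : Fin (k + 1) → F) : (e0 : Fin (k + 1) → F) ⬝ᵥ u = u 0 := by
  rw [e0, single_dotProduct, one_mul]

theorem dot_e0 (u : Fin (k + 1) → F) : u ⬝ᵥ (e0 : Fin (k + 1) → F) = u 0 := by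
  rw [e0, dotProduct_single, mul_one]

theorem vv_mul (a b c d : Fin (k + 1) → F) :
    vecMulVec a b * vecMulVec c d = (b ⬝ᵥ c) • vecMulVec a d := by
  rw [vecMulVec_mul_vecMulVec, vecMulVec_smul]

/-- the rank one idempotent -/
def P : Matrix (Fin (k + 1)) (Fin (k + 1)) F := vecMulVec e0 e0

/-- symmetric matrix with first row and column `u` -/
def Smat (u : Fin (k + 1) → F) : Matrix (Fin (k + 1)) (Fin (k + 1)) F :=
  vecMulVec e0 u + vecMulVec u e0 - u 0 • P

theorem Smat_transpose (u : Fin (k + 1) → F) : (Smat u)ᵀ = Smat u := by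
  ext i j
  simp only [Smat, P, Matrix.transpose_apply, Matrix.add_apply, Matrix.sub_apply, Matrix.smul_apply, vecMulVec_apply, smul_eq_mul]
  ring

theorem Smat_add (u v : Fin (k + 1) → F) : Smat (u + v) = Smat u + Smat v := by
  ext i j
  simp only [Smat, P, Matrix.add_apply, Matrix.sub_apply, Matrix.smul_apply, vecMulVec_apply, smul_eq_mul, Pi.add_apply]
  ring

theorem Smat_smul (a : F) (u : Fin (k + 1) → F) : Smat (a • u) = a • Smat u := by
  ext i j
  simp only [Smat, P, Matrix.add_apply, Matrix.sub_apply, Matrix.smul_apply, vecMulVec_apply, smul_eq_mul, Pi.smul_apply]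
  ring

theorem Smat_zero : Smat (0 : Fin (k + 1) → F) = 0 := by
  ext i j
  simp [Smat, P, vecMulVec_apply]

theorem Smat_e0 : Smat (e0 : Fin (k + 1) → F) = P := by
  ext i j
  simp only [Smat, P, Matrix.add_apply, Matrix.sub_apply, Matrix.smul_apply, vecMulVec_apply, smul_eq_mul]
  simp [e0]

theorem P_mul_P : (P : Matrix (Fin (k + 1)) (Fin (k + 1)) F) * P = P := by
  rw [P, vv_mul, e0_dot]; simp [e0]

theorem P_mul_Smat (u : Fin (k + 1) → F) : P * Smat u = vecMulVec e0 u := by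
  rw [Smat, P, mul_sub, mul_add, Matrix.mul_smul, vv_mul, vv_mul, vv_mul, e0_dot, e0_dot]
  simp only [e0, Pi.single_eq_same, one_smul]
  abel

theorem Smat_mul_P (u : Fin (k + 1) → F) : Smat u * P = vecMulVec u e0 := by
  rw [Smat, P, sub_mul, add_mul, Matrix.smul_mul, vv_mul, vv_mul, vv_mul, e0_dot, dot_e0]
  simp only [e0, Pi.single_eq_same, one_smul]
  abel

/-- Siegel unipotent element -/
def siegel (S : Matrix (Fin (k + 1)) (Fin (k + 1)) F) (hS : Sᵀ = S) :
    Matrix.symplecticGroup (Fin (k + 1)) F :=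
  ⟨fromBlocks 1 S 0 1, by rw [SymplecticGroup.fromBlocks_mem_iff]; simp [hS]⟩

/-- Levi element -/
def levi (g h : Matrix (Fin (k + 1)) (Fin (k + 1)) F) (hgh : gᵀ * h = 1) :
    Matrix.symplecticGroup (Fin (k + 1)) F :=
  ⟨fromBlocks g 0 0 h, by rw [SymplecticGroup.fromBlocks_mem_iff]; simp [hgh]⟩

theorem levi_conj (g h S S' : Matrix (Fin (k + 1)) (Fin (k + 1)) F) (hgh : gᵀ * h = 1) (hS : Sᵀ = S)
    (hS' : S'ᵀ = S') (hrel : g * S = S' * h) :
    levi g h hgh * siegel S hS * (levi g h hgh)⁻¹ = siegel S' hS' := by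
  rw [mul_inv_eq_iff_eq_mul]
  apply Subtype.ext
  rw [Submonoid.coe_mul, Submonoid.coe_mul]
  simp only [levi, siegel, fromBlocks_multiply]
  simp [hrel]

/-- the abelian subgroup -/
def A (u : Fin (k + 1) → F) : Matrix.symplecticGroup (Fin (k + 1)) F :=
  siegel (Smat u) (Smat_transpose u)

theorem A_zero : A (0 : Fin (k + 1) → F) = 1 := by
  apply Subtype.ext
  simp [A, siegel, Smat_zero, fromBlocks_one]

theorem A_add (u v : Fin (k + 1) → F) : A (u + v) = A u * A v := by
  apply Subtype.ext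
  rw [Submonoid.coe_mul]
  simp only [A, siegel, fromBlocks_multiply, Smat_add]
  simp [add_comm]

theorem A_not_center (u : Fin (k + 1) → F) (hu : u 0 ≠ 0) :
    A u ∉ Subgroup.center (Matrix.symplecticGroup (Fin (k + 1)) F) := by
  intro hc
  rw [Subgroup.mem_center_iff] at hc
  have h1 := congrArg Subtype.val (hc (SymplecticGroup.symJ (Fin (k + 1)) F))
  rw [Submonoid.coe_mul, Submonoid.coe_mul, SymplecticGroup.coe_J] at h1
  simp only [A, siegel, Matrix.J, fromBlocks_multiply] at h1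
  have h2 := (fromBlocks_inj.mp h1).1
  simp only [mul_zero, mul_one, zero_add, zero_mul] at h2
  apply hu
  have h3 := congrFun (congrFun h2 0) 0
  simp [Smat, P, vecMulVec_apply, e0] at h3
  exact h3.symm

/-- shifting conjugators -/
theorem A_conj_shift (c : Fin (k + 1) → F) (hc : c 0 = 0) :
    ∃ g : Matrix.symplecticGroup (Fin (k + 1)) F,
      ∀ u, g * A u * g⁻¹ = A (u + (((2 : F) • c) ⬝ᵥ u) • e0) := by
  have hce : c ⬝ᵥ (e0 : Fin (k + 1) → F) = 0 := by rw [dot_e0, hc]
  have hec : (e0 : Fin (k + 1) → F) ⬝ᵥ c = 0 := by rw [e0_dot, hc]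
  have hgh : (1 + vecMulVec e0 c : Matrix (Fin (k + 1)) (Fin (k + 1)) F)ᵀ * (1 - vecMulVec c (e0 : Fin (k + 1) → F)) = 1 := by
    have ht : (vecMulVec (e0 : Fin (k + 1) → F) c)ᵀ = vecMulVec c e0 := by
      ext i j; simp [vecMulVec_apply, mul_comm]
    rw [transpose_add, transpose_one, ht, add_mul, one_mul, mul_sub, mul_one, vv_mul, hec, zero_smul]
    abel
  refine ⟨levi _ _ hgh, fun u => ?_⟩
  rw [A, levi_conj _ _ _ (Smat (u + (((2 : F) • c) ⬝ᵥ u) • e0)) hgh _ (Smat_transpose _), A]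
  rw [Smat_add, Smat_smul, Smat_e0]
  have h1 : vecMulVec (e0 : Fin (k + 1) → F) c * Smat u = (c ⬝ᵥ u) • P := by
    rw [Smat, P, mul_sub, mul_add, Matrix.mul_smul, vv_mul, vv_mul, vv_mul, hce]
    simp
  have h2 : Smat u * vecMulVec c (e0 : Fin (k + 1) → F) = (c ⬝ᵥ u) • P := by
    rw [Smat, P, sub_mul, add_mul, Matrix.smul_mul, vv_mul, vv_mul, vv_mul, hec, dotProduct_comm u c]
    simp
  have h3 : (P : Matrix (Fin (k + 1)) (Fin (k + 1)) F) * vecMulVec c (e0 : Fin (k + 1) → F) = 0 := by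
    rw [P, vv_mul, hec, zero_smul]
  rw [add_mul, one_mul, h1, mul_sub, mul_one, add_mul, Matrix.smul_mul, h2, h3, smul_dotProduct]
  simp only [smul_eq_mul, smul_zero, sub_zero]
  module

/-- the torus action on vectors -/
def torusEquiv (a : F) (ha : a ≠ 0) : (Fin (k + 1) → F) ≃ (Fin (k + 1) → F) where
  toFun u := a • u + ((a ^ 2 - a) * u 0) • e0
  invFun u := a⁻¹ • u + ((a⁻¹ ^ 2 - a⁻¹) * u 0) • e0
  left_inv u := by
    ext i
    refine Fin.cases ?_ (fun j => ?_) i
    · simp [e0]; field_simp; ring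
    · simp [e0, Fin.succ_ne_zero, ha]
  right_inv u := by
    ext i
    refine Fin.cases ?_ (fun j => ?_) i
    · simp [e0]; field_simp; ring
    · simp [e0, Fin.succ_ne_zero, ha]

theorem A_conj_torus (a : F) (ha : a ≠ 0) :
    ∃ g : Matrix.symplecticGroup (Fin (k + 1)) F, ∀ u, g * A u * g⁻¹ = A (torusEquiv a ha u) := by
  have hPt : (P : Matrix (Fin (k + 1)) (Fin (k + 1)) F)ᵀ = P := by
    ext i j; simp [P, vecMulVec_apply, mul_comm]
  have hgh : (1 + (a - 1) • P : Matrix (Fin (k + 1)) (Fin (k + 1)) F)ᵀ * (1 + (a⁻¹ - 1) • P) = 1 := by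
    rw [transpose_add, transpose_one, transpose_smul, hPt, add_mul, one_mul, mul_add, mul_one,
      Matrix.smul_mul, Matrix.mul_smul, P_mul_P]
    have : (a - 1) + (a⁻¹ - 1) + (a - 1) * (a⁻¹ - 1) = 0 := by field_simp; ring
    have e : (1 : Matrix (Fin (k + 1)) (Fin (k + 1)) F) + (a⁻¹ - 1) • P + ((a - 1) • P + (a - 1) • (a⁻¹ - 1) • P)
        = 1 + ((a - 1) + (a⁻¹ - 1) + (a - 1) * (a⁻¹ - 1)) • P := by module
    rw [e, this, zero_smul, add_zero]
  refine ⟨levi _ _ hgh, fun u => ?_⟩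
  rw [A, levi_conj _ _ _ (Smat (torusEquiv a ha u)) hgh _ (Smat_transpose _), A]
  change (1 + (a - 1) • P) * Smat u = Smat (a • u + ((a ^ 2 - a) * u 0) • e0) * (1 + (a⁻¹ - 1) • P)
  rw [Smat_add, Smat_smul, Smat_smul, Smat_e0]
  simp only [add_mul, mul_add, one_mul, mul_one, Matrix.smul_mul, Matrix.mul_smul, P_mul_Smat,
    Smat_mul_P, P_mul_P]
  rw [Smat]
  match_scalars <;> field_simp <;> ring

theorem torus_dual (a : F) (ha : a ≠ 0) (y u : Fin (k + 1) → F) :
    (fun i => if i = 0 then y 0 / a ^ 2 else y i / a) ⬝ᵥ torusEquiv a ha u = y ⬝ᵥ u := by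
  unfold dotProduct
  apply Finset.sum_congr rfl
  intro i _
  refine Fin.cases ?_ (fun j => ?_) i
  · simp [torusEquiv, e0]; field_simp; ring
  · simp [torusEquiv, e0, Fin.succ_ne_zero]; field_simp

theorem natCast_card_ne_zero [Fintype F] {K : Type*} [Field K] (hK : ringChar K ≠ ringChar F) :
    (Fintype.card F : K) ≠ 0 := by
  have : CharP F (ringChar F) := ringChar.charP F
  have hp : (ringChar F).Prime := CharP.char_is_prime F _
  have : Fact (ringChar F).Prime := ⟨hp⟩
  obtain ⟨a, -, ha⟩ := FiniteField.card F (ringChar F)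
  rw [ha, Nat.cast_pow]
  apply pow_ne_zero
  intro h0
  have hdvd := ringChar.dvd h0
  rcases (Nat.dvd_prime hp).mp hdvd with h1 | h1
  · exact CharP.ringChar_ne_one h1
  · exact hK h1

theorem card_units_le_two_mul [Fintype F] (h2 : (2 : F) ≠ 0) (l : F) (hl : l ≠ 0) :
    Fintype.card F - 1 ≤ 2 * Nat.card {t : F // ∃ a : F, a ≠ 0 ∧ t * a ^ 2 = l} := by
  classical
  let f : Fˣ → {t : F // ∃ a : F, a ≠ 0 ∧ t * a ^ 2 = l} := fun a =>
    ⟨l / (a : F) ^ 2, ⟨(a : F), a.ne_zero, by field_simp⟩⟩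
  have hfib : ∀ a : Fˣ, Nat.card {x : Fˣ // f x = f a} ≤ 2 := by
    intro a
    have hsq : ∀ x : {x : Fˣ // f x = f a}, (x.1 : F) = a ∨ (x.1 : F) = -a := by
      intro x
      have h1 := congrArg Subtype.val x.2
      simp only [f] at h1
      have hx0 : (x.1 : F) ≠ 0 := x.1.ne_zero
      have ha0 : (a : F) ≠ 0 := a.ne_zero
      have h3 : (x.1 : F) ^ 2 = (a : F) ^ 2 := by
        have h4 := (div_eq_div_iff (pow_ne_zero 2 hx0) (pow_ne_zero 2 ha0)).mp h1
        exact (mul_left_cancel₀ hl h4).symm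
      exact sq_eq_sq_iff_eq_or_eq_neg.mp h3
    have : Nat.card {x : Fˣ // f x = f a} ≤ Nat.card Bool := by
      apply Nat.card_le_card_of_injective (fun x : {x : Fˣ // f x = f a} => decide ((x.1 : F) = a))
      intro x y hxy
      simp only [decide_eq_decide] at hxy
      apply Subtype.ext
      apply Units.ext
      rcases hsq x with hx | hx
      · rw [hx, (hxy.mp hx)]
      · rcases hsq y with hy | hy
        · rw [hy, hxy.mpr hy]
        · rw [hx, hy]
    simpa using this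
  have := card_le_mul_of_fiber_le f 2 hfib
  rw [Nat.card_units, Nat.card_eq_fintype_card] at this
  exact this

/-- A lower bound for representations in cross characteristic: for `n ≥ 2` and a field `F` with `q` elements, `q` odd, every homomorphism from the symplectic group `Sp_{2n}(F)` to `GL_d(K)`, `K` a field of characteristic different from that of `F`, whose kernel is central has `d ≥ q^(n-1)(q-1)/2`. -/
theorem result {F : Type*} [Field F] [Fintype F] {q : ℕ} (hq : Fintype.card F = q) (hodd : Odd q) (n : ℕ) (hn : 2 ≤ n)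
    {K : Type*} [Field K] (hK : ringChar K ≠ ringChar F) {d : ℕ}
    (ρ : ↥(Matrix.symplecticGroup (Fin n) F) →* GL (Fin d) K) (hker : ρ.ker ≤ Subgroup.center ↥(Matrix.symplecticGroup (Fin n) F)) :
    q ^ (n - 1) * (q - 1) / 2 ≤ d := by
  classical
  obtain ⟨k, rfl⟩ : ∃ k, n = k + 1 := ⟨n - 1, by omega⟩
  subst hq
  rw [Nat.add_sub_cancel]
  have h2 : (2 : F) ≠ 0 := by
    have hF : ringChar F ≠ 2 := by
      intro h
      have := FiniteField.even_card_of_char_two h
      rcases hodd with ⟨r, hr⟩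
      omega
    exact Ring.two_ne_zero hF
  let P := AddChar.FiniteField.primitiveChar F K hK
  let K' := CyclotomicField P.n K
  have hq' : (Fintype.card F : K') ≠ 0 := by
    have h0 := natCast_card_ne_zero (F := F) hK
    intro h
    apply h0
    apply (algebraMap K K').injective
    rw [map_natCast, map_zero]
    exact h
  let Φ : ↥(Matrix.symplecticGroup (Fin (k + 1)) F) →* Matrix (Fin d) (Fin d) K' :=
    ((algebraMap K K').mapMatrix : Matrix (Fin d) (Fin d) K →+* Matrix (Fin d) (Fin d) K').toMonoidHom.comp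
      ((Units.coeHom _).comp ρ)
  have hΦ : ∀ g, Φ g = 1 → g ∈ ρ.ker := by
    intro g hg
    rw [MonoidHom.mem_ker]
    apply Units.ext
    have h1 : ((ρ g : GL (Fin d) K) : Matrix (Fin d) (Fin d) K).map (algebraMap K K')
        = (1 : Matrix (Fin d) (Fin d) K).map (algebraMap K K') := by
      rw [Matrix.map_one _ (map_zero _) (map_one _)]
      exact hg
    exact Matrix.map_injective (algebraMap K K').injective h1
  have hstart : Φ (A (e0 : Fin (k + 1) → F)) ≠ 1 := fun h =>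
    A_not_center e0 (by simp [e0]) (hker (hΦ _ h))
  obtain ⟨y₁, hy₁, hy₁0⟩ := LS.exists_E_ne_zero_of (ψ := P.char) (Φ := Φ) (A := A) P.prim hq' A_zero A_add
    e0 hstart
  rw [dot_e0] at hy₁0
  have hreach : ∀ a : F, a ≠ 0 → ∀ y : Fin (k + 1) → F, y 0 * a ^ 2 = y₁ 0 →
      LS.E P.char Φ A y ≠ 0 := by
    intro a ha y hy
    obtain ⟨g, hg⟩ := A_conj_torus (k := k) a ha
    have s1 := LS.E_ne_zero_of_conj' (ψ := P.char) (Φ := Φ) (torusEquiv a ha) y₁ _
      (torus_dual a ha y₁) g hg hy₁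
    set y' : Fin (k + 1) → F := (fun i => if i = 0 then y₁ 0 / a ^ 2 else y₁ i / a) with hy'
    have hy'0 : y' 0 = y 0 := by
      simp only [hy', if_true]
      field_simp
      linear_combination -hy
    have hy0 : y 0 ≠ 0 := by
      intro h
      rw [h, zero_mul] at hy
      exact hy₁0 hy.symm
    let c : Fin (k + 1) → F := (1 / (2 * y 0)) • (y' - y)
    have hc0 : c 0 = 0 := by simp [c, hy'0]
    obtain ⟨g₂, hg₂⟩ := A_conj_shift c hc0
    have hφz : ((2 : F) • c) ⬝ᵥ (e0 : Fin (k + 1) → F) = 0 := by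
      rw [dot_e0]; simp [hc0]
    have s2 := LS.E_ne_zero_of_conj (ψ := P.char) (Φ := Φ) e0 ((2 : F) • c) hφz g₂ hg₂ y' s1
    have e : y' - (y' ⬝ᵥ (e0 : Fin (k + 1) → F)) • ((2 : F) • c) = y := by
      rw [dot_e0, hy'0]
      ext i
      simp only [c, Pi.sub_apply, Pi.smul_apply, smul_eq_mul]
      field_simp
      ring
    rwa [e] at s2
  let S : Finset (Fin (k + 1) → F) :=
    Finset.univ.filter (fun y => ∃ a : F, a ≠ 0 ∧ y 0 * a ^ 2 = y₁ 0)
  have hS : ∀ y ∈ S, LS.E P.char Φ A y ≠ 0 := by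
    intro y hy
    obtain ⟨a, ha, hya⟩ := (Finset.mem_filter.mp hy).2
    exact hreach a ha y hya
  have hSd := LS.card_le_of_ne_zero (ψ := P.char) (Φ := Φ) P.prim hq' A_add S hS
  -- counting
  have hcount : Nat.card {t : F // ∃ a : F, a ≠ 0 ∧ t * a ^ 2 = y₁ 0} * Fintype.card F ^ k ≤ S.card := by
    have hinj : Function.Injective (fun p : {t : F // ∃ a : F, a ≠ 0 ∧ t * a ^ 2 = y₁ 0} × (Fin k → F) =>
        (⟨Fin.cons p.1.1 p.2, by
          rw [Finset.mem_filter]
          exact ⟨Finset.mem_univ _, by simpa using p.1.2⟩⟩ : {y // y ∈ S})) := by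
      rintro ⟨t, v⟩ ⟨t', v'⟩ h
      have h1 := congrArg Subtype.val h
      simp only at h1
      have h2 := Fin.cons_injective2 h1
      exact Prod.ext (Subtype.ext h2.1) h2.2
    have := Nat.card_le_card_of_injective _ hinj
    rw [Nat.card_prod, Nat.card_eq_fintype_card (α := Fin k → F), Fintype.card_fun, Fintype.card_fin,
      Nat.card_eq_fintype_card (α := {y // y ∈ S}), Fintype.card_coe] at this
    exact this
  have hΛ := card_units_le_two_mul h2 (y₁ 0) hy₁0
  apply Nat.div_le_of_le_mul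
  calc Fintype.card F ^ k * (Fintype.card F - 1)
      ≤ Fintype.card F ^ k * (2 * Nat.card {t : F // ∃ a : F, a ≠ 0 ∧ t * a ^ 2 = y₁ 0}) :=
        Nat.mul_le_mul_left _ hΛ
    _ = 2 * (Nat.card {t : F // ∃ a : F, a ≠ 0 ∧ t * a ^ 2 = y₁ 0} * Fintype.card F ^ k) := by ring
    _ ≤ 2 * S.card := Nat.mul_le_mul_left _ hcount
    _ ≤ 2 * d := Nat.mul_le_mul_left _ hSd

end Cfsg.Agent.S2393
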