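import Cfsg.Statements.S2394
import Cfsg.Agent.Lib.Lead.SpCard
import Cfsg.Agent.Lib.Helper41.Zsigmondy

set_option autoImplicit false
open scoped MatrixGroups
open Cfsg

namespace Cfsg.Agent.S2394

/-- A prime `r` not dividing `q` that divides `|GL_d(q)|` divides `q ^ j - 1` for some `1 ≤ j ≤ d`. -/
theorem exists_dvd_of_dvd_card_GL (q d r : ℕ) (hr : r.Prime) (hrq : ¬ r ∣ q)
    (h : r ∣ ∏ i : Fin d, (q ^ d - q ^ (i : ℕ))) : ∃ j, 0 < j ∧ j ≤ d ∧ r ∣ q ^ j - 1 := by
  obtain ⟨i, -, hi⟩ := (Prime.dvd_finsetProd_iff hr.prime _).mp h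
  have hid : (i : ℕ) < d := i.2
  have e : q ^ d - q ^ (i : ℕ) = q ^ (i : ℕ) * (q ^ (d - i) - 1) := by
    rw [Nat.mul_sub, mul_one, ← pow_add]
    congr 2
    omega
  rw [e] at hi
  rcases (Nat.Prime.dvd_mul hr).mp hi with h1 | h1
  · exact absurd (hr.dvd_of_dvd_pow h1) hrq
  · exact ⟨d - i, by omega, by omega, h1⟩

/-- The smallest degree of a faithful representation of the symplectic group `Sp_{2n}(q)` over its own field `F_q` is `2n`: every injective homomorphism from `Sp_{2n}(F)` to `GL_d(F)`, `F` the field with `q` elements, has `d ≥ 2n`. -/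
theorem result {F : Type*} [Field F] [Fintype F] (n : ℕ) {d : ℕ}
    (ρ : ↥(Matrix.symplecticGroup (Fin n) F) →* GL (Fin d) F) (hρ : Function.Injective ρ) : 2 * n ≤ d := by
  by_contra hlt
  push Not at hlt
  have hn : 1 ≤ n := by omega
  obtain ⟨q, hqdef⟩ : ∃ q, q = Fintype.card F := ⟨_, rfl⟩
  have hq1 : 1 < q := hqdef ▸ (Fintype.one_lt_card : 1 < Fintype.card F)
  have hdvd : Nat.card ↥(Matrix.symplecticGroup (Fin n) F) ∣ Nat.card (GL (Fin d) F) :=
    Subgroup.card_dvd_of_injective ρ hρ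
  have hSp := Cfsg.Agent.Lead.card_symplecticGroup (F := F) n
  rw [Nat.card_eq_fintype_card (α := F), ← hqdef] at hSp
  have hGL : Nat.card (GL (Fin d) F) = ∏ i : Fin d, (q ^ d - q ^ (i : ℕ)) := by
    rw [hqdef]; exact Matrix.card_GL_field (𝔽 := F) (n := d)
  rw [hSp, hGL] at hdvd
  -- the factor q^(2n) - 1 divides |Sp|
  have hfac : q ^ (2 * n) - 1 ∣ q ^ (n ^ 2) * ∏ i ∈ Finset.range n, (q ^ (2 * (i + 1)) - 1) := by
    apply Dvd.dvd.mul_left
    have : q ^ (2 * n) - 1 = q ^ (2 * ((n - 1) + 1)) - 1 := by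
      congr 3; omega
    rw [this]
    exact Finset.dvd_prod_of_mem (fun i => q ^ (2 * (i + 1)) - 1) (Finset.mem_range.mpr (by omega))
  have hGLpos : 0 < ∏ i : Fin d, (q ^ d - q ^ (i : ℕ)) := by
    apply Finset.prod_pos
    intro i _
    have : q ^ (i : ℕ) < q ^ d := Nat.pow_lt_pow_right hq1 i.2
    omega
  by_cases hn1 : n = 1
  · -- n = 1: order comparison
    subst hn1
    have hle := Nat.le_of_dvd hGLpos hdvd
    have hd : d = 0 ∨ d = 1 := by omega
    rcases hd with rfl | rfl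
    · simp at hle
      have h1 : 2 ≤ q ^ 2 - 1 := by
        have : 4 ≤ q ^ 2 := by nlinarith
        omega
      have h2 : q * 2 ≤ q * (q ^ 2 - 1) := Nat.mul_le_mul_left q h1
      omega
    · simp at hle
      have h1 : 2 ≤ q ^ 2 - 1 := by
        have : 4 ≤ q ^ 2 := by nlinarith
        omega
      have h2 : q * 2 ≤ q * (q ^ 2 - 1) := Nat.mul_le_mul_left q h1
      omega
  by_cases h6 : q = 2 ∧ n = 3
  · obtain ⟨rfl, rfl⟩ := h6
    -- Sp_6(2): 3^4 divides the order but not |GL_d(2)| for d ≤ 5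
    have hd : d ≤ 5 := by omega
    interval_cases d <;> simp [Finset.prod_range_succ, Fin.prod_univ_succ] at hdvd
  · obtain ⟨r, hr, hr1, hr2⟩ := Cfsg.Agent.Helper41.zsigmondy q (2 * n) hq1 (by omega)
      (fun h => h6 ⟨h.1, by omega⟩) (fun h => by omega)
    have hrq : ¬ r ∣ q := by
      intro h
      have h1 : r ∣ q ^ (2 * n) := dvd_pow h (by omega)
      have h2 : 1 ≤ q ^ (2 * n) := Nat.one_le_pow _ _ (by omega)
      have h3 : r ∣ 1 := by
        have := (Nat.dvd_sub h1 hr1)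
        rwa [Nat.sub_sub_self h2] at this
      exact hr.one_lt.ne' (Nat.dvd_one.mp h3)
    obtain ⟨j, hj0, hjd, hj⟩ := exists_dvd_of_dvd_card_GL q d r hr hrq ((hr1.trans hfac).trans hdvd)
    exact hr2 j hj0 (by omega) hj

end Cfsg.Agent.S2394
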