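import Cfsg.Statements.S2403
import Cfsg.Agent.Lib.Helper5.SL

set_option autoImplicit false
open Cfsg

namespace Cfsg.Agent.S2403

open Matrix

variable {K : Type*} [Field K]

/-- elements of a field with at most three elements -/
theorem elts_small [Fintype K] (hK : Fintype.card K ≤ 3) (c : K) : c = 0 ∨ c = 1 ∨ c = -1 := by
  have h2 : 2 ≤ Fintype.card K := Fintype.one_lt_card
  have hc := FiniteField.pow_card c
  have : Fintype.card K = 2 ∨ Fintype.card K = 3 := by omega
  rcases this with h | h
  · rw [h] at hc
    have : c * (c - 1) = 0 := by ring_nf; rw [hc]; ring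
    rcases mul_eq_zero.mp this with h0 | h1
    · exact Or.inl h0
    · exact Or.inr (Or.inl (sub_eq_zero.mp h1))
  · rw [h] at hc
    have : c * ((c - 1) * (c + 1)) = 0 := by ring_nf; rw [hc]; ring
    rcases mul_eq_zero.mp this with h0 | h1
    · exact Or.inl h0
    · rcases mul_eq_zero.mp h1 with h1 | h1
      · exact Or.inr (Or.inl (sub_eq_zero.mp h1))
      · exact Or.inr (Or.inr (eq_neg_of_add_eq_zero_left h1))

/-- the sign attached to row `r` of the monomial matrix -/
def eps (n : ℕ) (r : Fin (n + 1)) : K := if r.val = n then (-1) ^ n else 1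

theorem eps_mul_self (n : ℕ) (r : Fin (n + 1)) : (eps n r : K) * eps n r = 1 := by
  unfold eps
  split_ifs
  · rw [← mul_pow]; simp
  · simp

/-- the monomial matrix -/
def wMat (n : ℕ) : Matrix (Fin (n + 1)) (Fin (n + 1)) K :=
  Matrix.of (fun i j => if j.val = i.val + 1 then 1 else if i.val = n ∧ j.val = 0 then (-1) ^ n else 0)

theorem wMat_apply (n : ℕ) (r s : Fin (n + 1)) :
    (wMat n : Matrix _ _ K) r s = if s = r + 1 then eps n r else 0 := by
  unfold wMat eps
  simp only [Matrix.of_apply]
  by_cases hr : r.val = n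
  · have hr' : r = Fin.last n := Fin.ext hr
    have h1 : ¬ s.val = r.val + 1 := by have := s.isLt; omega
    have h2 : r + 1 = 0 := by rw [hr']; exact Fin.last_add_one n
    rw [if_neg h1, h2, if_pos hr]
    by_cases hs : s = 0
    · rw [if_pos hs, if_pos ⟨hr, by rw [hs]; rfl⟩]
    · rw [if_neg hs, if_neg]
      rintro ⟨-, h⟩
      exact hs (Fin.ext h)
  · have hr' : r ≠ Fin.last n := fun h => hr (by rw [h]; rfl)
    have h1 : (r + 1).val = r.val + 1 := by rw [Fin.val_add_one, if_neg hr']
    rw [if_neg hr]
    by_cases hs : s = r + 1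
    · rw [if_pos hs, if_pos (by rw [hs, h1])]
    · rw [if_neg hs, if_neg, if_neg]
      · rintro ⟨h, -⟩; exact hr h
      · intro h; exact hs (Fin.ext (by rw [h1, h]))

theorem wMat_mul_single (n : ℕ) (i b : Fin (n + 1)) (c : K) :
    (wMat n : Matrix _ _ K) * Matrix.single (i + 1) b c = Matrix.single i b (eps n i * c) := by
  ext r s
  by_cases hs : s = b
  · subst hs
    rw [Matrix.mul_single_apply_same, wMat_apply]
    by_cases hr : r = i
    · subst hr
      simp
    · have : ¬ (i + 1 = r + 1) := fun h => hr (add_right_cancel h).symm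
      rw [if_neg this, Matrix.single_apply_of_ne (h := by tauto)]
      simp
  · rw [Matrix.mul_single_apply_of_ne (hbj := hs), Matrix.single_apply_of_ne (h := by tauto)]

theorem single_mul_wMat (n : ℕ) (a j : Fin (n + 1)) (c : K) :
    Matrix.single a j c * (wMat n : Matrix _ _ K) = Matrix.single a (j + 1) (c * eps n j) := by
  ext r s
  by_cases hr : r = a
  · subst hr
    rw [Matrix.single_mul_apply_same, wMat_apply]
    by_cases hs : s = j + 1
    · subst hs
      simp
    · rw [if_neg hs, Matrix.single_apply_of_ne (h := by tauto)]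
      simp
  · rw [Matrix.single_mul_apply_of_ne (h := hr), Matrix.single_apply_of_ne (h := by tauto)]

/-- the conjugation formula -/
theorem wMat_mul_transvection (n : ℕ) (i j : Fin (n + 1)) (c : K) :
    (wMat n : Matrix _ _ K) * Matrix.transvection (i + 1) (j + 1) c =
      Matrix.transvection i j (eps n i * eps n j * c) * wMat n := by
  unfold Matrix.transvection
  rw [Matrix.mul_add, Matrix.add_mul, Matrix.mul_one, Matrix.one_mul, wMat_mul_single,
    single_mul_wMat]
  congr 2
  calc eps n i * c = eps n i * c * (eps n j * eps n j) := by rw [eps_mul_self, mul_one]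
    _ = eps n i * eps n j * c * eps n j := by ring

section main

variable [Fintype K] {n : ℕ}

/-- all transvections in position `(i, j)` lie in `H` -/
def T (H : Subgroup (SpecialLinearGroup (Fin (n + 1)) K)) (i j : Fin (n + 1)) : Prop :=
  ∀ (hij : i ≠ j) (c : K), SpecialLinearGroup.transvection hij c ∈ H

theorem T_of_one (hK : Fintype.card K ≤ 3) (H : Subgroup (SpecialLinearGroup (Fin (n + 1)) K))
    {i j : Fin (n + 1)} (hij : i ≠ j) (h1 : SpecialLinearGroup.transvection hij (1 : K) ∈ H) :
    T H i j := by
  intro hij' c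
  rcases elts_small hK c with rfl | rfl | rfl
  · rw [SpecialLinearGroup.transvection_coeff_zero]
    exact H.one_mem
  · exact h1
  · rw [← SpecialLinearGroup.transvection_inv]
    exact H.inv_mem h1

omit [Fintype K] in
theorem T_succ (H : Subgroup (SpecialLinearGroup (Fin (n + 1)) K))
    (w : SpecialLinearGroup (Fin (n + 1)) K) (hwH : w ∈ H)
    (hw : (w : Matrix (Fin (n + 1)) (Fin (n + 1)) K) = wMat n) {i j : Fin (n + 1)}
    (hT : T H i j) : T H (i + 1) (j + 1) := by
  intro hij' c
  have hij : i ≠ j := fun h => hij' (by rw [h])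
  have key : w * SpecialLinearGroup.transvection hij' c =
      SpecialLinearGroup.transvection hij (eps n i * eps n j * c) * w := by
    have h3 := wMat_mul_transvection (K := K) n i j c
    rw [← hw] at h3
    exact Subtype.ext h3
  have h2 : SpecialLinearGroup.transvection hij' c =
      w⁻¹ * SpecialLinearGroup.transvection hij (eps n i * eps n j * c) * w := by
    rw [mul_assoc, ← key, inv_mul_cancel_left]
  rw [h2]
  exact H.mul_mem (H.mul_mem (H.inv_mem hwH) (hT hij _)) hwH

omit [Fintype K] in
theorem T_trans (H : Subgroup (SpecialLinearGroup (Fin (n + 1)) K)) {i j k : Fin (n + 1)}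
    (h1 : T H i k) (h2 : T H k j) (hik : i ≠ k) (hkj : k ≠ j) : T H i j := by
  intro hij c
  rw [Cfsg.Agent.Helper5.transvection_eq_commutator hij hik hkj c, commutatorElement_def]
  exact H.mul_mem (H.mul_mem (H.mul_mem (h1 hik c) (h2 hkj 1)) (H.inv_mem (h1 hik c)))
    (H.inv_mem (h2 hkj 1))

omit [Fintype K] in
theorem T_step (H : Subgroup (SpecialLinearGroup (Fin (n + 1)) K))
    (w : SpecialLinearGroup (Fin (n + 1)) K) (hwH : w ∈ H)
    (hw : (w : Matrix (Fin (n + 1)) (Fin (n + 1)) K) = wMat n)
    (h01 : T H (0 : Fin (n + 1)) 1) (k : Fin (n + 1)) :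
    T H k (k + 1) := by
  induction k using Fin.induction with
  | zero =>
    simpa using h01
  | succ k ih =>
    have := T_succ H w hwH hw ih
    rwa [Fin.coeSucc_eq_succ] at this

omit [Fintype K] in
theorem T_all (hn : 1 ≤ n) (H : Subgroup (SpecialLinearGroup (Fin (n + 1)) K))
    (hstep : ∀ i : Fin (n + 1), T H i (i + 1)) :
    ∀ (d : ℕ) (i j : Fin (n + 1)), (j - i).val = d + 1 → T H i j := by
  have h10 : (1 : Fin (n + 1)) ≠ 0 := by
    intro h
    have := congrArg Fin.val h
    rw [Fin.val_one', Fin.val_zero] at this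
    have h2 : 1 % (n + 1) = 1 := Nat.mod_eq_of_lt (by omega)
    omega
  intro d
  induction d with
  | zero =>
    intro i j h
    have h1 : j - i = 1 := by
      apply Fin.ext
      rw [h, Fin.val_one']
      exact (Nat.mod_eq_of_lt (by omega)).symm
    have : j = i + 1 := by rw [← h1]; abel
    rw [this]
    exact hstep i
  | succ d ih =>
    intro i j h
    have hne : j - i ≠ 0 := by
      intro h0
      rw [h0] at h
      simp at h
    have h1 : (j - (i + 1)).val = d + 1 := by
      have e : j - (i + 1) = (j - i) - 1 := by abel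
      rw [e, Fin.val_sub_one_of_ne_zero hne, h]
      rfl
    have hik : i ≠ i + 1 := by
      intro h2
      apply h10
      have : i + 1 = i + 0 := by rw [add_zero]; exact h2.symm
      exact add_left_cancel this
    have hkj : i + 1 ≠ j := by
      intro h2
      rw [← h2] at h1
      simp at h1
    exact T_trans H (hstep i) (ih (i + 1) j h1) hik hkj

end main

/-- Explicit two-element generation of `PSL_{n+1}(K)` over the fields with two or three elements: with `x = 1 + E₁₂` and `w` the monomial matrix with entries `1` in positions `(i, i+1)` and `(−1)^n` in position `(n+1, 1)`, the elements `x` and `w` generate `SL_{n+1}(K)` modulo its centre. -/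
theorem result {K : Type*} [Field K] [Fintype K] (hK : Fintype.card K ≤ 3) (n : ℕ) (hn : 1 ≤ n)
    (x w : Matrix.SpecialLinearGroup (Fin (n + 1)) K)
    (hx : (x : Matrix (Fin (n + 1)) (Fin (n + 1)) K) = Matrix.transvection (0 : Fin (n + 1)) (1 : Fin (n + 1)) 1)
    (hw : (w : Matrix (Fin (n + 1)) (Fin (n + 1)) K) =
      Matrix.of (fun i j => if j.val = i.val + 1 then 1 else if i.val = n ∧ j.val = 0 then (-1) ^ n else 0)) :
    Subgroup.closure ({x, w} : Set (Matrix.SpecialLinearGroup (Fin (n + 1)) K)) ⊔
      Subgroup.center (Matrix.SpecialLinearGroup (Fin (n + 1)) K) = ⊤ := by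
  set H := Subgroup.closure ({x, w} : Set (Matrix.SpecialLinearGroup (Fin (n + 1)) K)) with hH
  have hxH : x ∈ H := Subgroup.subset_closure (by simp)
  have hwH : w ∈ H := Subgroup.subset_closure (by simp)
  have h01 : (0 : Fin (n + 1)) ≠ 1 := by
    intro h
    have := congrArg Fin.val h
    rw [Fin.val_one', Fin.val_zero] at this
    have h2 : 1 % (n + 1) = 1 := Nat.mod_eq_of_lt (by omega)
    omega
  have hx' : x = SpecialLinearGroup.transvection h01 (1 : K) := Subtype.ext hx
  have hT01 : T H (0 : Fin (n + 1)) 1 := T_of_one hK H h01 (hx' ▸ hxH)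
  have hstep := T_step H w hwH hw hT01
  have hall := T_all hn H hstep
  have htop : H = ⊤ := by
    rw [eq_top_iff]
    intro A _
    have : Nontrivial (Fin (n + 1)) := ⟨⟨0, 1, h01⟩⟩
    refine Cfsg.Agent.Helper5.transvection_induction (fun A => A ∈ H) ?_ ?_ A
    · intro i j hij c
      have hne : (j - i).val ≠ 0 := by
        intro h0
        apply hij
        have : j - i = 0 := Fin.ext h0
        exact (sub_eq_zero.mp this).symm
      obtain ⟨d, hd⟩ := Nat.exists_eq_succ_of_ne_zero hne
      exact hall d i j hd hij c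
    · intro A B hA hB
      exact H.mul_mem hA hB
  rw [htop, top_sup_eq]

end Cfsg.Agent.S2403
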