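import Cfsg.Statements.S2402
import Cfsg.Agent.S2403

set_option autoImplicit false
open Cfsg

namespace Cfsg.Agent.S2402

open Matrix Cfsg.Agent.S2403

variable {K : Type*} [Field K]

/-- every element of a finite field is a sum of two squares -/
theorem exists_sq_add_sq [Fintype K] (r : K) : ∃ a b : K, a ^ 2 + b ^ 2 = r := by
  classical
  by_cases hodd : Fintype.card K % 2 = 1
  · obtain ⟨a, b, hab⟩ : ∃ a b, (Polynomial.X ^ 2 : Polynomial K).eval a +
        (Polynomial.X ^ 2 - Polynomial.C r : Polynomial K).eval b = 0 :=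
      FiniteField.exists_root_sum_quadratic (Polynomial.degree_X_pow 2)
        (Polynomial.degree_X_pow_sub_C (by decide) _) hodd
    refine ⟨a, b, ?_⟩
    rw [← sub_eq_zero]
    simpa only [Polynomial.eval_C, Polynomial.eval_X, Polynomial.eval_pow, Polynomial.eval_sub,
      ← add_sub_assoc] using hab
  · have h2 : ringChar K = 2 := FiniteField.even_card_iff_char_two.mpr (by omega)
    obtain ⟨s, hs⟩ := FiniteField.isSquare_of_char_two h2 r
    exact ⟨s, 0, by rw [hs]; ring⟩

section matrices

variable {n : ℕ}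

theorem wMat_mul_diagonal (v : Fin (n + 1) → K) :
    (wMat n : Matrix _ _ K) * Matrix.diagonal v = Matrix.diagonal (fun r => v (r + 1)) * wMat n := by
  ext r s
  rw [Matrix.mul_diagonal, Matrix.diagonal_mul, wMat_apply]
  by_cases hs : s = r + 1
  · rw [if_pos hs, hs, mul_comm]
  · rw [if_neg hs, zero_mul, mul_zero]

theorem diagonal_mul_transvection (v : Fin (n + 1) → K) (i j : Fin (n + 1)) (c : K)
    (hj : v j ≠ 0) :
    Matrix.diagonal v * Matrix.transvection i j c =
      Matrix.transvection i j (v i * c * (v j)⁻¹) * Matrix.diagonal v := by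
  unfold Matrix.transvection
  rw [Matrix.mul_add, Matrix.add_mul, Matrix.mul_one, Matrix.one_mul]
  congr 1
  ext r s
  rw [Matrix.diagonal_mul, Matrix.mul_diagonal]
  by_cases h : i = r ∧ j = s
  · obtain ⟨rfl, rfl⟩ := h
    rw [Matrix.single_apply_same, Matrix.single_apply_same]
    field_simp
  · rw [Matrix.single_apply_of_ne (h := h), Matrix.single_apply_of_ne (h := h), mul_zero, zero_mul]

end matrices

section group

variable {n : ℕ}

/-- diagonal elements of `SL` -/
def dg (v : Fin (n + 1) → K) (hv : ∏ i, v i = 1) : SpecialLinearGroup (Fin (n + 1)) K :=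
  ⟨Matrix.diagonal v, by rw [Matrix.det_diagonal]; exact hv⟩

theorem dg_comm (v v' : Fin (n + 1) → K) (hv : ∏ i, v i = 1) (hv' : ∏ i, v' i = 1) :
    dg v hv * dg v' hv' = dg v' hv' * dg v hv := by
  apply Subtype.ext
  change Matrix.diagonal v * Matrix.diagonal v' = Matrix.diagonal v' * Matrix.diagonal v
  rw [Matrix.diagonal_mul_diagonal, Matrix.diagonal_mul_diagonal]
  congr 1
  ext i
  exact mul_comm _ _

theorem dg_mul_tv (v : Fin (n + 1) → K) (hv : ∏ i, v i = 1) {i j : Fin (n + 1)} (hij : i ≠ j)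
    (c : K) (hj : v j ≠ 0) :
    dg v hv * SpecialLinearGroup.transvection hij c =
      SpecialLinearGroup.transvection hij (v i * c * (v j)⁻¹) * dg v hv :=
  Subtype.ext (diagonal_mul_transvection v i j c hj)

theorem w_mul_dg (w : SpecialLinearGroup (Fin (n + 1)) K)
    (hw : (w : Matrix (Fin (n + 1)) (Fin (n + 1)) K) = wMat n) (v : Fin (n + 1) → K)
    (hv : ∏ i, v i = 1) (hv' : ∏ r, v (r + 1) = 1) :
    w * dg v hv = dg (fun r => v (r + 1)) hv' * w := by
  have h3 := wMat_mul_diagonal (K := K) v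
  rw [← hw] at h3
  exact Subtype.ext h3

theorem key_tv_mem (H : Subgroup (SpecialLinearGroup (Fin (n + 1)) K))
    (h x w : SpecialLinearGroup (Fin (n + 1)) K) (v : Fin (n + 1) → K) (hv0 : ∀ i, v i ≠ 0)
    (hprod : ∏ i, v i = 1) (hh : h = dg v hprod) (h01 : (0 : Fin (n + 1)) ≠ 1)
    (hx : x = SpecialLinearGroup.transvection h01 1)
    (hw : (w : Matrix (Fin (n + 1)) (Fin (n + 1)) K) = wMat n)
    (hhH : h ∈ H) (hyH : x * w ∈ H) :
    SpecialLinearGroup.transvection h01 ((v 0 * (v 1)⁻¹ - 1) * (v 1 * (v (1 + 1))⁻¹ - 1)) ∈ H := by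
  have hprodu : ∏ i, (v i)⁻¹ = 1 := by rw [Finset.prod_inv_distrib, hprod, inv_one]
  have hhinv : h⁻¹ = dg (fun i => (v i)⁻¹) hprodu := by
    apply inv_eq_of_mul_eq_one_right
    rw [hh]
    apply Subtype.ext
    change Matrix.diagonal v * Matrix.diagonal (fun i => (v i)⁻¹) = 1
    rw [Matrix.diagonal_mul_diagonal]
    have : (fun i => v i * (v i)⁻¹) = fun _ => (1 : K) := by
      ext i
      exact mul_inv_cancel₀ (hv0 i)
    rw [this, Matrix.diagonal_one]
  have hprodu' : ∏ r, (v (r + 1))⁻¹ = 1 := by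
    rw [← hprodu]
    exact Equiv.prod_comp (Equiv.addRight (1 : Fin (n + 1))) (fun i => (v i)⁻¹)
  obtain ⟨H', hH'⟩ : ∃ H', H' = dg (fun r => (v (r + 1))⁻¹) hprodu' := ⟨_, rfl⟩
  have e1 : w * h⁻¹ = H' * w := by
    rw [hhinv, hH']
    exact w_mul_dg w hw _ hprodu hprodu'
  obtain ⟨α, hα⟩ : ∃ α, α = v 1 * (v (1 + 1))⁻¹ := ⟨_, rfl⟩
  have e2 : x * H' = H' * SpecialLinearGroup.transvection h01 α := by
    rw [hx, hH', dg_mul_tv _ _ h01 α (inv_ne_zero (hv0 _))]
    congr 2
    rw [hα, zero_add, inv_inv]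
    have := hv0 1
    have := hv0 (1 + 1)
    field_simp
  have e3 : H' * h = h * H' := by
    rw [hh, hH']
    exact dg_comm _ _ _ _
  have e4 : ∀ a, h * SpecialLinearGroup.transvection h01 a =
      SpecialLinearGroup.transvection h01 (v 0 * a * (v 1)⁻¹) * h := by
    intro a
    rw [hh]
    exact dg_mul_tv v hprod h01 a (hv0 1)
  obtain ⟨c₁, hc₁⟩ : ∃ c₁, c₁ = h * (x * w) * h⁻¹ * (x * w)⁻¹ := ⟨_, rfl⟩
  have hc₁H : c₁ ∈ H := by
    rw [hc₁]
    exact H.mul_mem (H.mul_mem (H.mul_mem hhH hyH) (H.inv_mem hhH)) (H.inv_mem hyH)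
  have hc1 : c₁ = h * H' * SpecialLinearGroup.transvection h01 (α - 1) := by
    have h1 : c₁ = h * x * (w * h⁻¹) * w⁻¹ * x⁻¹ := by rw [hc₁]; group
    have h2 : h * x * (H' * w) * w⁻¹ * x⁻¹ = h * (x * H') * x⁻¹ := by group
    rw [h1, e1, h2, e2, hx, SpecialLinearGroup.transvection_inv, sub_eq_add_neg,
      SpecialLinearGroup.transvection_add]
    group
  obtain ⟨a, ha⟩ : ∃ a, a = α - 1 := ⟨_, rfl⟩
  obtain ⟨b, hb⟩ : ∃ b, b = (v 0 * (v 1)⁻¹ - 1) * a := ⟨_, rfl⟩
  rw [← ha] at hc1
  have hab : SpecialLinearGroup.transvection h01 a * SpecialLinearGroup.transvection h01 b =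
      SpecialLinearGroup.transvection h01 (v 0 * a * (v 1)⁻¹) := by
    rw [← SpecialLinearGroup.transvection_add]
    congr 1
    rw [hb]
    ring
  have hc2 : h * c₁ = c₁ * SpecialLinearGroup.transvection h01 b * h := by
    rw [hc1]
    calc h * (h * H' * SpecialLinearGroup.transvection h01 a)
        = h * (h * H') * SpecialLinearGroup.transvection h01 a := by group
      _ = h * (H' * h) * SpecialLinearGroup.transvection h01 a := by rw [e3]
      _ = h * H' * (h * SpecialLinearGroup.transvection h01 a) := by group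
      _ = h * H' * (SpecialLinearGroup.transvection h01 (v 0 * a * (v 1)⁻¹) * h) := by rw [e4]
      _ = h * H' * (SpecialLinearGroup.transvection h01 a *
            SpecialLinearGroup.transvection h01 b * h) := by rw [hab]
      _ = h * H' * SpecialLinearGroup.transvection h01 a *
            SpecialLinearGroup.transvection h01 b * h := by group
  have hfin : SpecialLinearGroup.transvection h01 b = c₁⁻¹ * h * c₁ * h⁻¹ := by
    have h3 : c₁⁻¹ * h * c₁ * h⁻¹ = c₁⁻¹ * (h * c₁) * h⁻¹ := by group
    rw [h3, hc2]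
    group
  rw [← hα, ← ha, ← hb, hfin]
  exact H.mul_mem (H.mul_mem (H.mul_mem (H.inv_mem hc₁H) hhH) hc₁H) (H.inv_mem hhH)

/-- once one nontrivial transvection in position `(0, 1)` lies in `H` and `H` is closed under
scaling the parameter by `k²`, all of them do -/
theorem all_tv_mem [Fintype K] (H : Subgroup (SpecialLinearGroup (Fin (n + 1)) K))
    (h01 : (0 : Fin (n + 1)) ≠ 1) (k : Kˣ) (hk : ∀ u : Kˣ, u ∈ Subgroup.zpowers k)
    (hconj : ∀ a : K, SpecialLinearGroup.transvection h01 a ∈ H →
      SpecialLinearGroup.transvection h01 ((k : K) ^ 2 * a) ∈ H)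
    (b : K) (hb0 : b ≠ 0) (hb : SpecialLinearGroup.transvection h01 b ∈ H) (c : K) :
    SpecialLinearGroup.transvection h01 c ∈ H := by
  -- closure under multiplication by squares
  have hpow : ∀ (j : ℕ) (a : K), SpecialLinearGroup.transvection h01 a ∈ H →
      SpecialLinearGroup.transvection h01 (((k : K) ^ j) ^ 2 * a) ∈ H := by
    intro j
    induction j with
    | zero => intro a ha; simpa using ha
    | succ j ih =>
      intro a ha
      have := hconj _ (ih a ha)
      have e : (k : K) ^ 2 * (((k : K) ^ j) ^ 2 * a) = ((k : K) ^ (j + 1)) ^ 2 * a := by ring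
      rwa [e] at this
  have hsq : ∀ (s a : K), SpecialLinearGroup.transvection h01 a ∈ H →
      SpecialLinearGroup.transvection h01 (s ^ 2 * a) ∈ H := by
    intro s a ha
    by_cases hs : s = 0
    · rw [hs]
      simp only [ne_eq, OfNat.ofNat_ne_zero, not_false_eq_true, zero_pow, zero_mul,
        SpecialLinearGroup.transvection_coeff_zero]
      exact H.one_mem
    · have hmem : Units.mk0 s hs ∈ Submonoid.powers k := by
        rw [mem_powers_iff_mem_zpowers]
        exact hk _
      obtain ⟨j, hj⟩ := hmem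
      have hs' : s = (k : K) ^ j := by
        have := congrArg Units.val hj
        rw [Units.val_pow_eq_pow_val, Units.val_mk0] at this
        exact this.symm
      rw [hs']
      exact hpow j a ha
  obtain ⟨s₁, s₂, hs⟩ := exists_sq_add_sq (c / b)
  have hc : c = s₁ ^ 2 * b + s₂ ^ 2 * b := by
    rw [← add_mul, hs]
    field_simp
  rw [hc, SpecialLinearGroup.transvection_add]
  exact H.mul_mem (hsq s₁ b hb) (hsq s₂ b hb)

end group

theorem sq_ne_one [Fintype K] (hK : 3 < Fintype.card K) (k : Kˣ)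
    (hk : ∀ u : Kˣ, u ∈ Subgroup.zpowers k) : (k : K) ^ 2 ≠ 1 := by
  intro h
  have h1 : k ^ 2 = 1 := by
    apply Units.ext
    rw [Units.val_pow_eq_pow_val, h, Units.val_one]
  have h2 : orderOf k ∣ 2 := orderOf_dvd_of_pow_eq_one h1
  have h3 : orderOf k = Nat.card Kˣ := orderOf_eq_card_of_forall_mem_zpowers hk
  rw [Nat.card_units, Nat.card_eq_fintype_card] at h3
  have h4 : orderOf k ≤ 2 := Nat.le_of_dvd (by norm_num) h2
  omega

/-- Explicit two-element generation of `PSL_{n+1}(K)` for a finite field `K` with more than three elements: let `k` generate the multiplicative group of `K`, `h = diag(k, k⁻¹, 1, …, 1)`, `x = 1 + E₁₂` (the elementary transvection) and `w` the monomial matrix with entries `1` in positions `(i, i+1)` and `(−1)^n` in position `(n+1, 1)`. Then `h` and `x·w` generate `SL_{n+1}(K)` modulo its centre: the subgroup they generate together with the centre is everything. -/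
theorem result {K : Type*} [Field K] [Fintype K] (hK : 3 < Fintype.card K) (n : ℕ) (hn : 1 ≤ n)
    (k : Kˣ) (hk : ∀ u : Kˣ, u ∈ Subgroup.zpowers k)
    (h x w : Matrix.SpecialLinearGroup (Fin (n + 1)) K)
    (hh : (h : Matrix (Fin (n + 1)) (Fin (n + 1)) K) =
      Matrix.diagonal (fun i => if i.val = 0 then (k : K) else if i.val = 1 then ((k⁻¹ : Kˣ) : K) else 1))
    (hx : (x : Matrix (Fin (n + 1)) (Fin (n + 1)) K) = Matrix.transvection (0 : Fin (n + 1)) (1 : Fin (n + 1)) 1)
    (hw : (w : Matrix (Fin (n + 1)) (Fin (n + 1)) K) =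
      Matrix.of (fun i j => if j.val = i.val + 1 then 1 else if i.val = n ∧ j.val = 0 then (-1) ^ n else 0)) :
    Subgroup.closure ({h, x * w} : Set (Matrix.SpecialLinearGroup (Fin (n + 1)) K)) ⊔
      Subgroup.center (Matrix.SpecialLinearGroup (Fin (n + 1)) K) = ⊤ := by
  set H := Subgroup.closure ({h, x * w} : Set (Matrix.SpecialLinearGroup (Fin (n + 1)) K)) with hH
  have hhH : h ∈ H := Subgroup.subset_closure (by simp)
  have hyH : x * w ∈ H := Subgroup.subset_closure (by simp)
  have h01 : (0 : Fin (n + 1)) ≠ 1 := by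
    intro h
    have := congrArg Fin.val h
    rw [Fin.val_one', Fin.val_zero] at this
    have h2 : 1 % (n + 1) = 1 := Nat.mod_eq_of_lt (by omega)
    omega
  have hx' : x = SpecialLinearGroup.transvection h01 (1 : K) := Subtype.ext hx
  have hk0 : (k : K) ≠ 0 := k.ne_zero
  have hk2 := sq_ne_one hK k hk
  have hk1 : (k : K) ≠ 1 := by
    intro h1
    apply hk2
    rw [h1, one_pow]
  obtain ⟨v, hv⟩ : ∃ v : Fin (n + 1) → K, v = (fun i : Fin (n + 1) => if i.val = 0 then (k : K)
      else if i.val = 1 then ((k⁻¹ : Kˣ) : K) else 1) := ⟨_, rfl⟩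
  rw [← hv] at hh
  have hv0 : ∀ i, v i ≠ 0 := by
    intro i
    rw [hv]
    simp only
    split_ifs
    · exact hk0
    · exact (k⁻¹).ne_zero
    · exact one_ne_zero
  have hprod : ∏ i, v i = 1 := by
    have := h.2
    rwa [hh, Matrix.det_diagonal] at this
  have hhdg : h = dg v hprod := Subtype.ext hh
  have hval1 : (1 : Fin (n + 1)).val = 1 := by
    rw [Fin.val_one']
    exact Nat.mod_eq_of_lt (by omega)
  have hvz : v 0 = (k : K) := by rw [hv]; simp
  have hvo : v 1 = (k : K)⁻¹ := by
    rw [hv]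
    simp only [hval1, one_ne_zero, if_false, if_true]
    exact Units.val_inv_eq_inv_val k
  have hkey := key_tv_mem H h x w v hv0 hprod hhdg h01 hx' hw hhH hyH
  have hb0 : (v 0 * (v 1)⁻¹ - 1) * (v 1 * (v (1 + 1))⁻¹ - 1) ≠ 0 := by
    apply mul_ne_zero
    · rw [hvz, hvo, inv_inv, ← pow_two]
      exact sub_ne_zero.mpr hk2
    · rw [sub_ne_zero]
      intro h1
      have h2 : v 1 = v (1 + 1) := by
        have := hv0 (1 + 1)
        field_simp at h1
        exact h1
      rw [hvo] at h2
      by_cases hn1 : n = 1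
      · subst hn1
        have : ((1 : Fin 2) + 1) = 0 := by decide
        rw [this, hvz] at h2
        apply hk2
        field_simp at h2
        exact h2.symm
      · have hval2 : ((1 : Fin (n + 1)) + 1).val = 2 := by
          rw [Fin.val_add, hval1]
          exact Nat.mod_eq_of_lt (by omega)
        have hv2 : v (1 + 1) = 1 := by
          rw [hv]
          simp [hval2]
        rw [hv2] at h2
        apply hk1
        rw [← inv_inv (k : K), h2, inv_one]
  have hconj : ∀ a : K, SpecialLinearGroup.transvection h01 a ∈ H →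
      SpecialLinearGroup.transvection h01 ((k : K) ^ 2 * a) ∈ H := by
    intro a ha
    have e4 := dg_mul_tv v hprod h01 a (hv0 1)
    rw [← hhdg] at e4
    have e5 : SpecialLinearGroup.transvection h01 ((k : K) ^ 2 * a) =
        h * SpecialLinearGroup.transvection h01 a * h⁻¹ := by
      rw [e4, mul_inv_cancel_right]
      congr 1
      rw [hvz, hvo, inv_inv]
      ring
    rw [e5]
    exact H.mul_mem (H.mul_mem hhH ha) (H.inv_mem hhH)
  have hall01 := all_tv_mem H h01 k hk hconj _ hb0 hkey
  have hxH : x ∈ H := by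
    rw [hx']
    exact hall01 1
  have hwH : w ∈ H := by
    have : w = x⁻¹ * (x * w) := by group
    rw [this]
    exact H.mul_mem (H.inv_mem hxH) hyH
  have hT01 : T H (0 : Fin (n + 1)) 1 := fun _ c => hall01 c
  have hstep := T_step H w hwH hw hT01
  have hall := T_all hn H hstep
  have htop : H = ⊤ := by
    rw [eq_top_iff]
    intro A _
    have : Nontrivial (Fin (n + 1)) := ⟨⟨0, 1, h01⟩⟩
    refine Cfsg.Agent.Helper5.transvection_induction (fun A => A ∈ H) ?_ ?_ A
    · intro i j hij c
      have hne : (j - i).val ≠ 0 := by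
        intro h0
        apply hij
        have : j - i = 0 := Fin.ext h0
        exact (sub_eq_zero.mp this).symm
      obtain ⟨d, hd⟩ := Nat.exists_eq_succ_of_ne_zero hne
      exact hall d i j hd hij c
    · intro A B hA hB
      exact H.mul_mem hA hB
  rw [htop, top_sup_eq]

end Cfsg.Agent.S2402
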