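import Cfsg.Statements.S2408
import Cfsg.Agent.Lib.Helper6.RF4T
import Cfsg.Agent.Lib.Helper36.F4SuzZS

set_option autoImplicit false
open Cfsg

namespace Cfsg.Agent.S2408

/-- The large Ree group ²F₄(2^(2m+1)) with `m ≥ 1` is generated by two of its elements. -/
theorem result {K : Type*} [Field K] [Fintype K] {m : ℕ} (hm : 1 ≤ m) (hK : Fintype.card K = 2 ^ (2 * m + 1)) :
    ∃ a b : ↥(Cfsg.Lie.twistedF4 K (2 ^ m)), Subgroup.closure ({a, b} : Set ↥(Cfsg.Lie.twistedF4 K (2 ^ m))) = ⊤ := by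
  classical
  have : Fact (Nat.Prime 2) := ⟨by norm_num⟩
  have : CharP K 2 := charP_of_card_eq_prime_pow hK
  have FD := Cfsg.Agent.Helper15.Ree4.fieldData_of_card hK
  obtain ⟨tbl, hT⟩ := Cfsg.Agent.Helper18.torusData_all Cfsg.Lie.chevF4 (by simp)
  obtain ⟨ζ, hζ⟩ := IsCyclic.exists_generator (α := Kˣ)
  -- the field has more than four elements
  have hK4 : ∀ a b c d : K, ∃ x : K, x ≠ a ∧ x ≠ b ∧ x ≠ c ∧ x ≠ d := by
    intro a b c d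
    by_contra hcon0
    have hcon : ∀ x : K, x ≠ a → x ≠ b → x ≠ c → x = d := fun x h1 h2 h3 => by
      by_contra h4
      exact hcon0 ⟨x, h1, h2, h3, h4⟩
    have hsub : (Finset.univ : Finset K) ⊆ {a, b, c, d} := by
      intro x _
      simp only [Finset.mem_insert, Finset.mem_singleton]
      by_cases h1 : x = a
      · exact Or.inl h1
      by_cases h2 : x = b
      · exact Or.inr (Or.inl h2)
      by_cases h3 : x = c
      · exact Or.inr (Or.inr (Or.inl h3))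
      exact Or.inr (Or.inr (Or.inr (hcon x h1 h2 h3)))
    have hc := Finset.card_le_card hsub
    rw [Finset.card_univ, hK] at hc
    have h4 : ({a, b, c, d} : Finset K).card ≤ 4 := Finset.card_le_four
    have h8 : 2 ^ 3 ≤ 2 ^ (2 * m + 1) := Nat.pow_le_pow_right (by norm_num) (by omega)
    omega
  -- every non-zero element is a power of `ζ`
  have hgen : ∀ c : K, c ≠ 0 → ∃ k : ℕ, c = (ζ : K) ^ k := by
    intro c hc
    have h1 := hζ (Units.mk0 c hc)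
    rw [← mem_powers_iff_mem_zpowers] at h1
    obtain ⟨k, hk⟩ := (Submonoid.mem_powers_iff _ _).mp h1
    refine ⟨k, ?_⟩
    rw [← Units.val_pow_eq_pow_val, hk]
    rfl
  -- the order of the torus element
  have hN : (Cfsg.Agent.Helper36.F4ZS.zS (2 ^ m) ζ : GL Cfsg.Lie.chevF4.Idx K) ^ (2 ^ (2 * m + 1) - 1) = 1 := by
    have h1 : ∀ x : Kˣ, x ^ (2 ^ (2 * m + 1) - 1) = 1 := by
      intro x
      have h2 := pow_card_eq_one (x := x)
      rwa [Fintype.card_units, hK] at h2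
    unfold Cfsg.Agent.Helper36.F4ZS.zS
    rw [← map_pow]
    have h3 : (Cfsg.Agent.Helper59.F4Suz.cLS (2 ^ m) (ζ ^ 2 * (ζ ^ 2 ^ m) ^ 2) (ζ ^ 3 * (ζ ^ 2 ^ m) ^ 4)) ^
        (2 ^ (2 * m + 1) - 1) = 1 := funext fun i => h1 _
    rw [h3, map_one]
  have hN4 : (2 ^ (2 * m + 1) - 1) % 4 = 3 := by
    obtain ⟨k, rfl⟩ : ∃ k, m = k + 1 := ⟨m - 1, by omega⟩
    have h1 : 2 ^ (2 * (k + 1) + 1) = 8 * 4 ^ k := by
      rw [show 2 * (k + 1) + 1 = 2 * k + 3 by ring, pow_add, pow_mul]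
      norm_num
      ring
    rw [h1]
    have h2 : 0 < 4 ^ k := by positivity
    omega
  -- the two generators
  have hzmem : (Cfsg.Agent.Helper36.F4ZS.zS (2 ^ m) ζ : GL Cfsg.Lie.chevF4.Idx K) ∈
      Cfsg.Lie.twistedF4 K (2 ^ m) := Cfsg.Agent.Helper36.F4ZS.zS_mem FD hT ζ
  have hQ1mem : (Cfsg.Agent.Helper6.RF4T.Q1 : GL Cfsg.Lie.chevF4.Idx K) ∈ Cfsg.Lie.twistedF4 K (2 ^ m) := by
    rw [← Cfsg.Agent.Helper6.RF4T.Q_one_zero FD]
    exact FD.Q_mem _ _ _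
  have hnmem : (Cfsg.Agent.Helper6.RF4.nA * Cfsg.Agent.Helper6.RF4.nB : GL Cfsg.Lie.chevF4.Idx K) ∈
      Cfsg.Lie.twistedF4 K (2 ^ m) :=
    mul_mem (Cfsg.Agent.Helper6.RF4.nA_mem_twisted FD) (Cfsg.Agent.Helper6.RF4.nB_mem_twisted FD)
  refine ⟨⟨_, mul_mem hzmem hQ1mem⟩, ⟨_, hnmem⟩, ?_⟩
  rw [eq_top_iff]
  rintro ⟨g, hg⟩ -
  have key := Cfsg.Agent.Helper6.RF4T.twisted_le FD hK4
    (Cfsg.Agent.Helper36.F4ZS.zS (2 ^ m) ζ) (ζ : K) hgen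
    (fun t => (Cfsg.Agent.Helper36.F4ZS.zS_conj FD hT ζ t).1)
    (fun t => (Cfsg.Agent.Helper36.F4ZS.zS_conj FD hT ζ t).2.1)
    (fun t => (Cfsg.Agent.Helper36.F4ZS.zS_conj FD hT ζ t).2.2.1)
    (fun t => (Cfsg.Agent.Helper36.F4ZS.zS_conj FD hT ζ t).2.2.2.1)
    (fun t => (Cfsg.Agent.Helper36.F4ZS.zS_conj FD hT ζ t).2.2.2.2.1)
    (fun t => (Cfsg.Agent.Helper36.F4ZS.zS_conj FD hT ζ t).2.2.2.2.2)
    (2 ^ (2 * m + 1) - 1) hN hN4
    ((Subgroup.closure ({⟨_, mul_mem hzmem hQ1mem⟩, ⟨_, hnmem⟩} :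
      Set ↥(Cfsg.Lie.twistedF4 K (2 ^ m)))).map (Cfsg.Lie.twistedF4 K (2 ^ m)).subtype)
    (Subgroup.mem_map.mpr ⟨⟨_, mul_mem hzmem hQ1mem⟩, Subgroup.subset_closure (by simp), rfl⟩)
    (Subgroup.mem_map.mpr ⟨⟨_, hnmem⟩, Subgroup.subset_closure (by simp), rfl⟩)
  obtain ⟨g', hg', hgg'⟩ := Subgroup.mem_map.mp (key hg)
  have h1 : g' = ⟨g, hg⟩ := Subtype.ext hgg'
  rw [← h1]
  exact hg'

end Cfsg.Agent.S2408
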