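import Cfsg.Statements.S2416
-- import your own Cfsg.Agent.* helpers here
import Mathlib
import Cfsg.Agent.Lib.Helper36.ChevCommData

set_option autoImplicit false
open scoped MatrixGroups
open Cfsg

namespace Cfsg.Agent.S2416

open Cfsg.Lie Cfsg.Agent.S1043 Cfsg.Agent.Helper18 Cfsg.Agent.Helper36.ChevComm
  Cfsg.Agent.Helper36.ChevCommData

theorem two_ne {K : Type*} [Field K] (h : ringChar K ≠ 2) : (((2 : ℤ)) : K) ≠ 0 := by
  have := Ring.two_ne_zero h
  exact_mod_cast this

theorem three_ne {K : Type*} [Field K] (h : ringChar K ≠ 3) : (((3 : ℤ)) : K) ≠ 0 := by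
  intro h0
  have h1 : ((3 : ℕ) : K) = 0 := by exact_mod_cast h0
  have h2 := (ringChar.spec K 3).mp h1
  rcases (Nat.dvd_prime Nat.prime_three).mp h2 with h3 | h3
  · exact CharP.ringChar_ne_one h3
  · exact h h3

/-- the case of one root length -/
theorem simply_laced {K : Type*} [Field K] (D : ChevalleyDatum) (hG : Good D)
    (tbl : List (List (List ℕ))) (htbl : TblOK D tbl) (i : ℕ) (hi : i < D.rank) :
    D.group K ≤ D.monomialSubgroup K ⊔ D.rootSubgroup K (D.simple i) := by
  have hB := bnFacts_all D hG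
  apply group_le_of_reach D hG _
    (nGL_mem_normalizer_of_le D hG _ le_sup_left)
  intro k hk
  refine ⟨D.simple i, hB.hsimp i hi, ?_, _, htbl i hi k hk⟩
  intro t
  exact Subgroup.mem_sup_right (Subgroup.subset_closure ⟨t, rfl⟩)

/-- A Chevalley group of type G₂, B₂, D₄, F₄, E₆, E₇ or E₈ over a finite field lies in (indeed equals) the subgroup generated by its monomial subgroup `N` and a single fundamental root subgroup `X_p`, where `p` is a short fundamental root if there are two root lengths (any fundamental root otherwise), provided the characteristic is not 2 for types B₂, F₄ and not 3 for type G₂ (and the field has more than two elements for B₂, G₂). -/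
theorem result {K : Type*} [Field K] [Finite K] (D : Cfsg.Lie.ChevalleyDatum) (hD : D ∈ [Cfsg.Lie.chevG2, Cfsg.Lie.chevB2, Cfsg.Lie.chevD4, Cfsg.Lie.chevF4, Cfsg.Lie.chevE6, Cfsg.Lie.chevE7, Cfsg.Lie.chevE8])
    (hK : D ∈ [Cfsg.Lie.chevB2, Cfsg.Lie.chevG2] → ∃ x : K, x ≠ 0 ∧ x ≠ 1)
    (h2 : D ∈ [Cfsg.Lie.chevB2, Cfsg.Lie.chevF4] → ringChar K ≠ 2) (h3 : D = Cfsg.Lie.chevG2 → ringChar K ≠ 3)
    (i : ℕ) (hi : i < D.rank) (hshort : D.isLong (D.simple i) = false) :
    D.group K ≤ D.monomialSubgroup K ⊔ D.rootSubgroup K (D.simple i) := by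
  have hG : Good D := hD
  have hB := bnFacts_all D hG
  have hnorm := nGL_mem_normalizer_of_le (F := K) D hG
    (D.monomialSubgroup K ⊔ D.rootSubgroup K (D.simple i)) le_sup_left
  have hXi : ∀ t : K, xU D hG (D.simple i) t ∈
      D.monomialSubgroup K ⊔ D.rootSubgroup K (D.simple i) :=
    fun t => Subgroup.mem_sup_right (Subgroup.subset_closure ⟨t, rfl⟩)
  simp only [List.mem_cons, List.not_mem_nil, or_false] at hD
  rcases hD with rfl | rfl | rfl | rfl | rfl | rfl | rfl
  · -- G2
    have h30 : (((3 : ℤ)) : K) ≠ 0 := three_ne (h3 rfl)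
    have hi' : i < 2 := hi
    interval_cases i
    · apply group_le_of_reach chevG2 hG _ hnorm
      intro k hk
      have hk' : k < 2 := hk
      interval_cases k
      · exact ⟨chevG2.simple 0, by decide, hXi, [], by decide⟩
      · refine ⟨10, by decide, ?_, _, wordG2b⟩
        refine xU_mem_of_comm chevG2 hG _ 7 9 10 3 commG2 h30 hXi ?_
        exact xU_mem_of_word chevG2 hG _ hnorm _ 9 (by decide) _ wordG2a hXi
    · exact absurd hshort (by decide)
  · -- B2
    have h20 : (((2 : ℤ)) : K) ≠ 0 := two_ne (h2 (by simp))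
    have hi' : i < 2 := hi
    interval_cases i
    · apply group_le_of_reach chevB2 hG _ hnorm
      intro k hk
      have hk' : k < 2 := hk
      interval_cases k
      · exact ⟨chevB2.simple 0, by decide, hXi, [], by decide⟩
      · refine ⟨7, by decide, ?_, _, wordB2l⟩
        refine xU_mem_of_comm chevB2 hG _ 5 6 7 2 commB2 h20 hXi ?_
        exact xU_mem_of_word chevB2 hG _ hnorm _ 6 (by decide) _ wordB2a hXi
    · exact absurd hshort (by decide)
  · exact simply_laced chevD4 hG tblD4 tblOK_D4 i hi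
  · -- F4
    have h20 : (((2 : ℤ)) : K) ≠ 0 := two_ne (h2 (by simp))
    have hi' : i < 4 := hi
    interval_cases i
    · have hX3 : ∀ t : K, xU chevF4 hG 3 t ∈ _ :=
        xU_mem_of_word chevF4 hG _ hnorm _ 3 (by decide) _ wordsF4a.1 hXi
      have hX27 : ∀ t : K, xU chevF4 hG 27 t ∈ _ :=
        xU_mem_of_word chevF4 hG _ hnorm _ 27 (by decide) _ wordsF4a.2.1 hXi
      have hX4 : ∀ t : K, xU chevF4 hG 4 t ∈ _ :=
        xU_mem_of_comm chevF4 hG _ 3 27 4 2 commF4 h20 hX3 hX27
      apply group_le_of_reach chevF4 hG _ hnorm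
      intro k hk
      have hk' : k < 4 := hk
      interval_cases k
      · exact ⟨chevF4.simple 0, by decide, hXi, [], by decide⟩
      · exact ⟨27, by decide, hX27, [], by decide⟩
      · exact ⟨4, by decide, hX4, _, wordsF4b.1⟩
      · exact ⟨4, by decide, hX4, _, wordsF4b.2⟩
    · have hX3 : ∀ t : K, xU chevF4 hG 3 t ∈ _ :=
        xU_mem_of_word chevF4 hG _ hnorm _ 3 (by decide) _ wordsF4a.2.2.1 hXi
      have hX33 : ∀ t : K, xU chevF4 hG 33 t ∈ _ :=
        xU_mem_of_word chevF4 hG _ hnorm _ 33 (by decide) _ wordsF4a.2.2.2 hXi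
      have hX4 : ∀ t : K, xU chevF4 hG 4 t ∈ _ :=
        xU_mem_of_comm chevF4 hG _ 3 27 4 2 commF4 h20 hX3 hXi
      apply group_le_of_reach chevF4 hG _ hnorm
      intro k hk
      have hk' : k < 4 := hk
      interval_cases k
      · exact ⟨33, by decide, hX33, [], by decide⟩
      · exact ⟨chevF4.simple 1, by decide, hXi, [], by decide⟩
      · exact ⟨4, by decide, hX4, _, wordsF4b.1⟩
      · exact ⟨4, by decide, hX4, _, wordsF4b.2⟩
    · exact absurd hshort (by decide)
    · exact absurd hshort (by decide)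
  · exact simply_laced chevE6 hG tblE6 tblOK_E6 i hi
  · exact simply_laced chevE7 hG tblE7 tblOK_E7 i hi
  · exact simply_laced chevE8 hG tblE8 tblOK_E8 i hi

end Cfsg.Agent.S2416
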