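import Cfsg.Statements.S2417
-- import your own Cfsg.Agent.* helpers here
import Mathlib
import Cfsg.Agent.Lib.Helper36.ChevOrbitML

set_option autoImplicit false
open scoped MatrixGroups
open Cfsg

namespace Cfsg.Agent.S2417

/-- In the characteristics with an exceptional graph symmetry — type B₂ or F₄ in characteristic 2 (field of more than two elements for B₂) and type G₂ in characteristic 3 — the Chevalley group lies in the subgroup generated by its monomial subgroup `N` and the two fundamental root subgroups `X_a`, `X_b` of a short root `a` and a long root `b` joined in the Dynkin diagram. -/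
theorem result {K : Type*} [Field K] [Finite K] (e : Cfsg.Lie.ChevalleyDatum × ℕ)
    (he : e ∈ [(Cfsg.Lie.chevB2, 2), (Cfsg.Lie.chevF4, 2), (Cfsg.Lie.chevG2, 3)]) [CharP K e.2]
    (hK : e.1 = Cfsg.Lie.chevB2 → ∃ x : K, x ≠ 0 ∧ x ≠ 1)
    (i j : ℕ) (hi : i < e.1.rank) (hj : j < e.1.rank) (hshort : e.1.isLong (e.1.simple i) = false)
    (hlong : e.1.isLong (e.1.simple j) = true) (hbond : e.1.bonds i j ≠ 0) :
    e.1.group K ≤ e.1.monomialSubgroup K ⊔ e.1.rootSubgroup K (e.1.simple i) ⊔ e.1.rootSubgroup K (e.1.simple j) := by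
  obtain ⟨D, c⟩ := e
  have hcases : D = Cfsg.Lie.chevB2 ∨ D = Cfsg.Lie.chevF4 ∨ D = Cfsg.Lie.chevG2 := by
    simp only [List.mem_cons, Prod.mk.injEq, List.mem_nil_iff, or_false] at he
    rcases he with ⟨h, -⟩ | ⟨h, -⟩ | ⟨h, -⟩
    · exact Or.inl h
    · exact Or.inr (Or.inl h)
    · exact Or.inr (Or.inr h)
  have hD : Cfsg.Agent.S1043.Good D := by
    rcases hcases with rfl | rfl | rfl <;> simp [Cfsg.Agent.S1043.Good]
  have horb : Cfsg.Agent.Helper36.ChevOrbitML.OrbitML D := by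
    rcases hcases with rfl | rfl | rfl
    · exact Cfsg.Agent.Helper36.ChevOrbitML.orbitML_B2
    · exact Cfsg.Agent.Helper36.ChevOrbitML.orbitML_F4
    · exact Cfsg.Agent.Helper36.ChevOrbitML.orbitML_G2
  show D.group K ≤ D.monomialSubgroup K ⊔ D.rootSubgroup K (D.simple i) ⊔ D.rootSubgroup K (D.simple j)
  have hXi : ∀ t : K, Cfsg.Agent.S1043.xU D hD (D.simple i) t ∈
      D.monomialSubgroup K ⊔ D.rootSubgroup K (D.simple i) ⊔ D.rootSubgroup K (D.simple j) :=
    fun t => Subgroup.mem_sup_left (Subgroup.mem_sup_right (Subgroup.subset_closure ⟨t, rfl⟩))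
  have hXj : ∀ t : K, Cfsg.Agent.S1043.xU D hD (D.simple j) t ∈
      D.monomialSubgroup K ⊔ D.rootSubgroup K (D.simple i) ⊔ D.rootSubgroup K (D.simple j) :=
    fun t => Subgroup.mem_sup_right (Subgroup.subset_closure ⟨t, rfl⟩)
  apply Cfsg.Agent.Helper36.ChevGen.group_le_of_orbit D hD _ (le_sup_of_le_left le_sup_left)
  intro k hk
  obtain ⟨a, -, b, -, h | h⟩ := horb i hi j hj hshort hlong hbond k hk
  · exact ⟨i, hi, hXi, _, Cfsg.Agent.Helper36.ChevOrbitML.wd_lt D a b, h⟩
  · exact ⟨j, hj, hXj, _, Cfsg.Agent.Helper36.ChevOrbitML.wd_lt D a b, h⟩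

end Cfsg.Agent.S2417
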