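-- Statement S2425: values of the Steinberg character of `GL_n(q)` at `p`-regular elements.
-- Proof: St(x) = alternating count of x-stable chains of subspaces (Hessenberg permutations +
-- parabolic fixed points) = (-1)^n μ(⊥,⊤) of the lattice of x-invariant subspaces (P. Hall),
-- and μ is computed by Weisner's theorem + counting invariant complements (Maschke).
import Cfsg.Statements.S2425
import Cfsg.Agent.Lib.Helper40.StVal.Main

set_option autoImplicit false
open scoped MatrixGroups
open Cfsg

namespace Cfsg.Agent.S2425

open Cfsg.Agent.Helper40.StVal in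
/-- Values of the Steinberg character of `GL_n(q)` (the partition-indexed character for `ν = (1,…,1)`, of degree `q^(n(n−1)/2)`) at elements of order prime to the characteristic: if the characteristic polynomial of such an element is `∏ f^(m_f)` over distinct monic irreducible `f`, the value is `∏_f (−1)^((deg f − 1) m_f) q^(deg f · m_f (m_f − 1)/2)`. (At elements of order divisible by the characteristic the value is 0; that is not part of this statement.) -/
theorem result {F : Type*} [Field F] [Fintype F] [DecidableEq F] {q : ℕ} (hq : Fintype.card F = q) (p : ℕ) [Fact p.Prime] [CharP F p]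
    {n : ℕ} (x : GL (Fin n) F) (hx : (orderOf x).Coprime p) :
    Cfsg.unipotentCharacterGL n F (fun _ => 1) x =
      ∏ f ∈ (UniqueFactorizationMonoid.normalizedFactors (x : Matrix (Fin n) (Fin n) F).charpoly).toFinset,
        (-1 : ℂ) ^ ((f.natDegree - 1) * (UniqueFactorizationMonoid.normalizedFactors (x : Matrix (Fin n) (Fin n) F).charpoly).count f) *
          (q : ℂ) ^ (f.natDegree * (UniqueFactorizationMonoid.normalizedFactors (x : Matrix (Fin n) (Fin n) F).charpoly).count f *
            ((UniqueFactorizationMonoid.normalizedFactors (x : Matrix (Fin n) (Fin n) F).charpoly).count f - 1) / 2) := by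
  subst hq
  have hinst : (‹DecidableEq F› : DecidableEq F) = fun a b => Classical.propDecidable (a = b) :=
    Subsingleton.elim _ _
  subst hinst
  classical
  rcases Nat.eq_zero_or_pos n with h0 | hpos
  · subst h0
    have hcp : (x : Matrix (Fin 0) (Fin 0) F).charpoly = 1 := by
      apply Polynomial.eq_one_of_monic_natDegree_zero (Matrix.charpoly_monic _)
      rw [Matrix.charpoly_natDegree_eq_dim]
      rfl
    rw [hcp, UniqueFactorizationMonoid.normalizedFactors_one, Multiset.toFinset_zero,
      Finset.prod_empty]
    unfold unipotentCharacterGL
    rw [Fintype.sum_unique, if_pos (fun i => i.elim0)]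
    have hsign : Equiv.Perm.sign (default : Equiv.Perm (Fin 0)) = 1 := by
      have : (default : Equiv.Perm (Fin 0)) = 1 := Subsingleton.elim _ _
      rw [this, Equiv.Perm.sign_one]
    rw [hsign]
    unfold fixedPointCharacter
    have hsub : Subsingleton (GL (Fin 0) F) := ⟨fun a b => Units.ext (Subsingleton.elim _ _)⟩
    have hcard : Nat.card (MulAction.fixedBy (GL (Fin 0) F ⧸ parabolicGL 0 F
        (fun i : Fin 0 => (fun _ => 1) i + i.val - ((default : Equiv.Perm (Fin 0)) i).val)) x) = 1 := by
      have hsubq : Subsingleton (GL (Fin 0) F ⧸ parabolicGL 0 F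
          (fun i : Fin 0 => (fun _ => 1) i + i.val - ((default : Equiv.Perm (Fin 0)) i).val)) := by
        refine ⟨fun a b => ?_⟩
        induction a using QuotientGroup.induction_on with
        | H a =>
        induction b using QuotientGroup.induction_on with
        | H b => rw [Subsingleton.elim a b]
      rw [Nat.card_eq_one_iff_unique]
      exact ⟨⟨fun a b => Subtype.ext (Subsingleton.elim _ _)⟩,
        ⟨⟨QuotientGroup.mk 1, Subsingleton.elim _ _⟩⟩⟩
    rw [hcard]
    simp
  · have key := steinberg_value p hpos x hx
    have hdeg : (x : Matrix (Fin n) (Fin n) F).charpoly.natDegree = n := by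
      rw [Matrix.charpoly_natDegree_eq_dim, Fintype.card_fin]
    have harith := muVal_arith (Fintype.card F) (x : Matrix (Fin n) (Fin n) F).charpoly
      (Matrix.charpoly_monic _)
    rw [hdeg] at harith
    rw [key, harith]

end Cfsg.Agent.S2425
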