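import Cfsg.Statements.S2426
import Cfsg.Agent.Lib.Helper38.SL2PresMain

set_option autoImplicit false
open Cfsg

namespace Cfsg.Agent.S2426

open Cfsg.Agent.Helper38.SL2Pres

/-- the relators of the statement -/
abbrev rels (K : Type*) [Field K] : Set (FreeGroup (Bool × K)) :=
  {g : FreeGroup (Bool × K) | ∃ (b : Bool) (t u : K), g = FreeGroup.of (b, t) * FreeGroup.of (b, u) * (FreeGroup.of (b, t + u))⁻¹} ∪
    {g | ∃ (b : Bool) (t u : K), t ≠ 0 ∧
      g = (FreeGroup.of (b, t) * FreeGroup.of (!b, -t⁻¹) * FreeGroup.of (b, t)) * FreeGroup.of (b, u) *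
            (FreeGroup.of (b, t) * FreeGroup.of (!b, -t⁻¹) * FreeGroup.of (b, t))⁻¹ * (FreeGroup.of (!b, -(t⁻¹ ^ 2 * u)))⁻¹}

/-- images of the generators -/
def gen {K : Type*} [Field K] (p : Bool × K) : Matrix.SpecialLinearGroup (Fin 2) K :=
  match p with
  | (true, t) => xmat t
  | (false, t) => ymat t

theorem gen_rel {K : Type*} [Field K] : ∀ r ∈ rels K, FreeGroup.lift (gen (K := K)) r = 1 := by
  rintro r (⟨b, t, u, rfl⟩ | ⟨b, t, u, ht, rfl⟩)
  · simp only [map_mul, map_inv, FreeGroup.lift_apply_of]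
    cases b
    · change ymat t * ymat u * (ymat (t + u))⁻¹ = 1
      rw [ymat_add, mul_inv_cancel]
    · change xmat t * xmat u * (xmat (t + u))⁻¹ = 1
      rw [xmat_add, mul_inv_cancel]
  · simp only [map_mul, map_inv, FreeGroup.lift_apply_of]
    cases b
    · change (ymat t * xmat (-t⁻¹) * ymat t) * ymat u * (ymat t * xmat (-t⁻¹) * ymat t)⁻¹ *
        (xmat (-(t⁻¹ ^ 2 * u)))⁻¹ = 1
      rw [wmat_conj_y ht, mul_inv_cancel]
    · change (xmat t * ymat (-t⁻¹) * xmat t) * xmat u * (xmat t * ymat (-t⁻¹) * xmat t)⁻¹ *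
        (ymat (-(t⁻¹ ^ 2 * u)))⁻¹ = 1
      rw [wmat_conj_x ht, mul_inv_cancel]

theorem rel_pres {K : Type*} [Field K] :
    Rel (fun t : K => (PresentedGroup.of (true, t) : PresentedGroup (rels K)))
      (fun t : K => (PresentedGroup.of (false, t) : PresentedGroup (rels K))) := by
  refine ⟨?_, ?_, ?_, ?_⟩
  · intro t u
    have := PresentedGroup.one_of_mem (rels := rels K)
      (x := FreeGroup.of (true, t) * FreeGroup.of (true, u) * (FreeGroup.of (true, t + u))⁻¹)
      (Or.inl ⟨true, t, u, rfl⟩)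
    simp only [map_mul, map_inv] at this
    exact mul_inv_eq_one.mp this
  · intro t u
    have := PresentedGroup.one_of_mem (rels := rels K)
      (x := FreeGroup.of (false, t) * FreeGroup.of (false, u) * (FreeGroup.of (false, t + u))⁻¹)
      (Or.inl ⟨false, t, u, rfl⟩)
    simp only [map_mul, map_inv] at this
    exact mul_inv_eq_one.mp this
  · intro t u ht
    have := PresentedGroup.one_of_mem (rels := rels K)
      (x := (FreeGroup.of (true, t) * FreeGroup.of (!true, -t⁻¹) * FreeGroup.of (true, t)) *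
        FreeGroup.of (true, u) *
        (FreeGroup.of (true, t) * FreeGroup.of (!true, -t⁻¹) * FreeGroup.of (true, t))⁻¹ *
        (FreeGroup.of (!true, -(t⁻¹ ^ 2 * u)))⁻¹)
      (Or.inr ⟨true, t, u, ht, rfl⟩)
    simp only [map_mul, map_inv] at this
    exact mul_inv_eq_one.mp this
  · intro t u ht
    have := PresentedGroup.one_of_mem (rels := rels K)
      (x := (FreeGroup.of (false, t) * FreeGroup.of (!false, -t⁻¹) * FreeGroup.of (false, t)) *
        FreeGroup.of (false, u) *
        (FreeGroup.of (false, t) * FreeGroup.of (!false, -t⁻¹) * FreeGroup.of (false, t))⁻¹ *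
        (FreeGroup.of (!false, -(t⁻¹ ^ 2 * u)))⁻¹)
      (Or.inr ⟨false, t, u, ht, rfl⟩)
    simp only [map_mul, map_inv] at this
    exact mul_inv_eq_one.mp this

theorem gen_pres {K : Type*} [Field K] :
    Subgroup.closure
      (Set.range (fun t : K => (PresentedGroup.of (true, t) : PresentedGroup (rels K))) ∪
        Set.range (fun t : K => (PresentedGroup.of (false, t) : PresentedGroup (rels K)))) = ⊤ := by
  rw [eq_top_iff, ← PresentedGroup.closure_range_of]
  apply Subgroup.closure_mono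
  rintro _ ⟨⟨b, t⟩, rfl⟩
  cases b
  · exact Or.inr ⟨t, rfl⟩
  · exact Or.inl ⟨t, rfl⟩

theorem main (K : Type*) [Field K] [Finite K] :
    ∃ e : PresentedGroup (rels K) ≃* Matrix.SpecialLinearGroup (Fin 2) K,
      (∀ t : K, ((e (PresentedGroup.of (true, t)) : Matrix (Fin 2) (Fin 2) K)) = !![1, t; 0, 1]) ∧
      (∀ t : K, ((e (PresentedGroup.of (false, t)) : Matrix (Fin 2) (Fin 2) K)) = !![1, 0; t, 1]) := by
  set π : PresentedGroup (rels K) →* Matrix.SpecialLinearGroup (Fin 2) K :=
    PresentedGroup.toGroup (gen_rel (K := K)) with hπ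
  have hX : ∀ t : K, π (PresentedGroup.of (true, t)) = xmat t := fun t =>
    PresentedGroup.toGroup.of (gen_rel (K := K))
  have hY : ∀ t : K, π (PresentedGroup.of (false, t)) = ymat t := fun t =>
    PresentedGroup.toGroup.of (gen_rel (K := K))
  have hinj : Function.Injective π :=
    injective_of_rel (X := fun t : K => (PresentedGroup.of (true, t) : PresentedGroup (rels K)))
      (Y := fun t : K => (PresentedGroup.of (false, t) : PresentedGroup (rels K)))
      rel_pres gen_pres π hX hY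
  have hsurj : Function.Surjective π := by
    intro A
    have hle : Subgroup.closure
        (Set.range (xmat : K → Matrix.SpecialLinearGroup (Fin 2) K) ∪ Set.range ymat) ≤ π.range := by
      rw [Subgroup.closure_le]
      rintro _ (⟨t, rfl⟩ | ⟨t, rfl⟩)
      · exact ⟨_, hX t⟩
      · exact ⟨_, hY t⟩
    exact hle (mem_closure_elem A)
  have hb : Function.Bijective π := ⟨hinj, hsurj⟩
  refine ⟨MulEquiv.ofBijective π hb, fun t => ?_, fun t => ?_⟩
  · have : (MulEquiv.ofBijective π hb) (PresentedGroup.of (true, t)) = xmat t := hX t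
    rw [this, xmat_coe]
  · have : (MulEquiv.ofBijective π hb) (PresentedGroup.of (false, t)) = ymat t := hY t
    rw [this, ymat_coe]

/-- The rank-one Steinberg presentation of `SL₂` over a finite field `K`: generators `x(t)`, `y(t)` (`t ∈ K`; the two opposite root subgroups) subject to additivity `x(t)x(u) = x(t+u)`, `y(t)y(u) = y(t+u)` and, with `w(t) = x(t) y(−t⁻¹) x(t)` and `w'(t) = y(t) x(−t⁻¹) y(t)` for `t ≠ 0`, the relations `w(t) x(u) w(t)⁻¹ = y(−t⁻² u)` and `w'(t) y(u) w'(t)⁻¹ = x(−t⁻² u)`, present `SL₂(K)`, with `x(t) ↦ (1 t; 0 1)` and `y(t) ↦ (1 0; t 1)`. -/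
theorem result {K : Type*} [Field K] [Finite K] :
    ∃ e : PresentedGroup
        ({g : FreeGroup (Bool × K) | ∃ (b : Bool) (t u : K), g = FreeGroup.of (b, t) * FreeGroup.of (b, u) * (FreeGroup.of (b, t + u))⁻¹} ∪
          {g | ∃ (b : Bool) (t u : K), t ≠ 0 ∧
            g = (FreeGroup.of (b, t) * FreeGroup.of (!b, -t⁻¹) * FreeGroup.of (b, t)) * FreeGroup.of (b, u) *
                  (FreeGroup.of (b, t) * FreeGroup.of (!b, -t⁻¹) * FreeGroup.of (b, t))⁻¹ * (FreeGroup.of (!b, -(t⁻¹ ^ 2 * u)))⁻¹})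
        ≃* Matrix.SpecialLinearGroup (Fin 2) K,
      (∀ t : K, ((e (PresentedGroup.of (true, t)) : Matrix (Fin 2) (Fin 2) K)) = !![1, t; 0, 1]) ∧
      (∀ t : K, ((e (PresentedGroup.of (false, t)) : Matrix (Fin 2) (Fin 2) K)) = !![1, 0; t, 1]) := by
  exact main K

end Cfsg.Agent.S2426
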