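import Cfsg.Statements.S2427
import Cfsg.Agent.Lib.Helper5.SL23
import Cfsg.Agent.S0257

set_option autoImplicit false
open Cfsg

namespace Cfsg.Agent.S2427

open Cfsg.Agent.Helper5

abbrev G := Matrix.SpecialLinearGroup (Fin 2) (ZMod 3)

set_option maxRecDepth 100000 in
lemma F1 : ∀ g h : G, (g * h * g⁻¹ * h⁻¹) ^ 4 = 1 := by decide +kernel

set_option maxRecDepth 100000 in
lemma F2 : ∀ q : G, q ^ 4 = 1 → ∃ g h : G, g * h * g⁻¹ * h⁻¹ = q := by decide +kernel

set_option maxRecDepth 100000 in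
lemma F3 : ∀ a b : G, a ^ 4 = 1 → b ^ 4 = 1 → (a * b) ^ 4 = 1 := by decide +kernel

set_option maxRecDepth 100000 in
lemma F4 : ∀ g q : G, (g ^ 4 = 1 ∧ g ^ 2 ≠ 1 ∧ q ^ 4 = 1 ∧ q ^ 2 ≠ 1) → ∃ x : G, x * g * x⁻¹ = q := by
  decide +kernel

set_option maxRecDepth 100000 in
lemma F5 : ∀ g q : G, (g ^ 4 = 1 ∧ g ^ 2 ≠ 1 ∧ q ^ 2 = 1) → q = 1 ∨ q = g ^ 2 := by decide +kernel

set_option maxRecDepth 100000 in
lemma F6 : ∀ g h : G, g ^ 2 = 1 → h * g = g * h := by decide +kernel

set_option maxRecDepth 100000 in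
lemma F7 : ∀ g c : G, (g ≠ 1 ∧ g ^ 2 = 1 ∧ ∀ h : G, h * c = c * h) → c = 1 ∨ c = g := by decide +kernel

set_option maxRecDepth 100000 in
lemma F8 : ∀ g : G, g ^ 4 ≠ 1 → ∃ x : G, (x * g * x⁻¹ * g⁻¹) ^ 2 ≠ 1 := by decide +kernel

set_option maxRecDepth 100000 in
lemma F9 : ∀ x : QuaternionGroup 2, (qf x) ^ 4 = 1 := by decide +kernel

/-- the elements of order dividing four -/
def Q4 : Subgroup G where
  carrier := {g | g ^ 4 = 1}
  mul_mem' := fun {a b} ha hb => F3 a b ha hb
  one_mem' := one_pow 4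
  inv_mem' := fun {a} ha => by
    show a⁻¹ ^ 4 = 1
    rw [inv_pow, show a ^ 4 = 1 from ha, inv_one]

lemma mem_Q4 (g : G) : g ∈ Q4 ↔ g ^ 4 = 1 := Iff.rfl

lemma comm_eq : commutator G = Q4 := by
  apply le_antisymm
  · rw [commutator_def, Subgroup.commutator_le]
    intro g _ h _
    rw [mem_Q4, commutatorElement_def]
    exact F1 g h
  · intro q hq
    obtain ⟨g, h, rfl⟩ := F2 q hq
    rw [commutator_def, ← commutatorElement_def]
    exact Subgroup.commutator_mem_commutator (Subgroup.mem_top g) (Subgroup.mem_top h)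

lemma range_eq : qHom.range = Q4 := by
  have hle : qHom.range ≤ Q4 := by
    rintro _ ⟨x, rfl⟩
    exact F9 x
  have hfin : Finite G := Nat.finite_of_card_ne_zero (by rw [card_SL23]; norm_num)
  have hQ4 : Nat.card Q4 ∣ 24 := by
    rw [← card_SL23]; exact Subgroup.card_subgroup_dvd_card Q4
  -- Q4 ≠ ⊤ : the index of the commutator subgroup is not 1
  have h8 : 8 ∣ Nat.card Q4 := by
    rw [← qHom_range_card]; exact Subgroup.card_dvd_of_le hle
  have hne : Nat.card Q4 ≠ 24 := by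
    intro h
    have htop : Q4 = ⊤ := (Subgroup.card_eq_iff_eq_top Q4).mp (by rw [h, card_SL23])
    -- an element of order 3
    have hall : ∀ g : G, g ^ 4 = 1 := by
      intro g
      have : g ∈ Q4 := by rw [htop]; trivial
      exact this
    have h3 : ¬ ∀ g : G, g ^ 4 = 1 := by decide +kernel
    exact h3 hall
  have hcard : Nat.card Q4 = 8 := by
    obtain ⟨k, hk⟩ := h8
    rw [hk] at hQ4 hne ⊢
    have hk3 : k ∣ 3 := Nat.dvd_of_mul_dvd_mul_left (by norm_num : 0 < 8) (by simpa using hQ4)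
    rcases (Nat.dvd_prime Nat.prime_three).mp hk3 with rfl | rfl
    · rfl
    · exact absurd rfl hne
  exact Subgroup.eq_of_le_of_card_ge hle (by rw [hcard, qHom_range_card])

lemma card_Q4 : Nat.card Q4 = 8 := by rw [← range_eq, qHom_range_card]

lemma finite_G : Finite G := Nat.finite_of_card_ne_zero (by rw [card_SL23]; norm_num)

/-- normal subgroups -/
lemma normal_cases (N : Subgroup G) (hN : N.Normal) :
    N = ⊥ ∨ N = ⊤ ∨ N = Subgroup.center G ∨ N = Q4 := by
  have _ := finite_G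
  -- if N contains an element of order 4 then Q4 ≤ N
  have hkey : ∀ g : G, g ∈ N → g ^ 4 = 1 → g ^ 2 ≠ 1 → Q4 ≤ N := by
    intro g hg h4 h2 q hq
    by_cases hq2 : q ^ 2 = 1
    · rcases F5 g q ⟨h4, h2, hq2⟩ with rfl | rfl
      · exact one_mem _
      · exact pow_mem hg 2
    · obtain ⟨x, rfl⟩ := F4 g q ⟨h4, h2, hq, hq2⟩
      exact hN.conj_mem g hg x
  by_cases hQ : N ≤ Q4
  · by_cases h4 : ∃ g ∈ N, g ^ 2 ≠ 1
    · obtain ⟨g, hg, h2⟩ := h4
      right; right; right
      exact le_antisymm hQ (hkey g hg (hQ hg) h2)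
    · push Not at h4
      by_cases hbot : N = ⊥
      · left; exact hbot
      · right; right; left
        obtain ⟨g, hg, hg1⟩ := (Subgroup.ne_bot_iff_exists_ne_one).mp hbot |>.imp
          (fun g h => h) |> fun ⟨g, h⟩ => (⟨g.1, g.2, fun e => h (Subtype.ext e)⟩ : ∃ g : G, g ∈ N ∧ g ≠ 1)
        apply le_antisymm
        · intro n hn
          rw [Subgroup.mem_center_iff]
          intro h
          exact F6 n h (h4 n hn)
        · intro c hc
          rw [Subgroup.mem_center_iff] at hc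
          rcases F7 g c ⟨hg1, h4 g hg, hc⟩ with rfl | rfl
          · exact one_mem _
          · exact hg
  · right; left
    obtain ⟨g, hg, hgQ⟩ := SetLike.not_le_iff_exists.mp hQ
    rw [mem_Q4] at hgQ
    obtain ⟨x, hx⟩ := F8 g hgQ
    have hc : x * g * x⁻¹ * g⁻¹ ∈ N := mul_mem (hN.conj_mem g hg x) (inv_mem hg)
    have hQN : Q4 ≤ N := hkey _ hc (F1 x g) hx
    have h8 : 8 ∣ Nat.card N := by rw [← card_Q4]; exact Subgroup.card_dvd_of_le hQN
    have h24 : Nat.card N ∣ 24 := by rw [← card_SL23]; exact Subgroup.card_subgroup_dvd_card N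
    have hne : Nat.card N ≠ 8 := by
      intro h
      have : Q4 = N := Subgroup.eq_of_le_of_card_ge hQN (by rw [h, card_Q4])
      exact hQ (by rw [this])
    obtain ⟨k, hk⟩ := h8
    rw [hk] at h24 hne
    have hk3 : k ∣ 3 := Nat.dvd_of_mul_dvd_mul_left (by norm_num : 0 < 8) (by simpa using h24)
    rcases (Nat.dvd_prime Nat.prime_three).mp hk3 with rfl | rfl
    · exact absurd rfl hne
    · exact (Subgroup.card_eq_iff_eq_top N).mp (by rw [hk, card_SL23])

theorem result :
    Nat.card (Matrix.SpecialLinearGroup (Fin 2) (ZMod 3)) = 24 ∧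
    Nat.card (Subgroup.center (Matrix.SpecialLinearGroup (Fin 2) (ZMod 3))) = 2 ∧
    Nat.card (commutator (Matrix.SpecialLinearGroup (Fin 2) (ZMod 3))) = 8 ∧
    Nonempty (commutator (Matrix.SpecialLinearGroup (Fin 2) (ZMod 3)) ≃* QuaternionGroup 2) ∧
    (∀ P : Sylow 3 (Matrix.SpecialLinearGroup (Fin 2) (ZMod 3)),
      Subgroup.IsComplement' (commutator (Matrix.SpecialLinearGroup (Fin 2) (ZMod 3)))
        (P : Subgroup (Matrix.SpecialLinearGroup (Fin 2) (ZMod 3)))) ∧
    ∀ N : Subgroup (Matrix.SpecialLinearGroup (Fin 2) (ZMod 3)), N.Normal →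
      N = ⊥ ∨ N = ⊤ ∨ N = Subgroup.center (Matrix.SpecialLinearGroup (Fin 2) (ZMod 3)) ∨
        N = commutator (Matrix.SpecialLinearGroup (Fin 2) (ZMod 3)) := by
  have _ := finite_G
  refine ⟨card_SL23, ?_, ?_, ?_, ?_, ?_⟩
  · exact (Cfsg.Agent.S0257.result (F := ZMod 3) (ZMod.card 3)).2
  · rw [comm_eq, card_Q4]
  · rw [comm_eq, ← range_eq]
    exact ⟨(MonoidHom.ofInjective qHom_injective).symm⟩
  · intro P
    have _ : Fact (Nat.Prime 3) := ⟨Nat.prime_three⟩
    have hP3 : Nat.card (P : Subgroup G) = 3 := by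
      obtain ⟨k, hk⟩ := IsPGroup.iff_card.mp P.isPGroup'
      have hidx := P.not_dvd_index
      have hmul := Subgroup.card_mul_index (P : Subgroup G)
      rw [card_SL23, hk] at hmul
      rcases k with _ | _ | k
      · exfalso
        apply hidx
        rw [pow_zero, one_mul] at hmul
        rw [hmul]; norm_num
      · rw [hk]; norm_num
      · exfalso
        have : 9 ∣ 24 := by
          rw [← hmul, pow_succ, pow_succ]
          exact ⟨3 ^ k * (P : Subgroup G).index, by ring⟩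
        norm_num at this
    apply Subgroup.isComplement'_of_coprime
    · rw [comm_eq, card_Q4, hP3, card_SL23]
    · rw [comm_eq, card_Q4, hP3]; norm_num
  · intro N hN
    rw [comm_eq]
    exact normal_cases N hN

end Cfsg.Agent.S2427
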