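import Cfsg.Statements.S2433
import Cfsg.Agent.Lib.Helper40.SL2

set_option autoImplicit false
open Cfsg

namespace Cfsg.Agent.S2433

open Cfsg.Agent.Helper40

variable {F : Type*} [Field F]

theorem extendByZero_apply {G : Type*} [Group G] (H : Subgroup G) (θ : H → ℂ) (y : G) [Decidable (y ∈ H)] :
    Cfsg.extendByZero H θ y = if h : y ∈ H then θ ⟨y, h⟩ else 0 := by
  unfold Cfsg.extendByZero
  split_ifs with h
  · exact Subtype.val_injective.extend_apply θ 0 ⟨y, h⟩
  · apply Function.extend_apply'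
    rintro ⟨a, ha⟩
    exact h (ha ▸ a.2)

theorem ext_borel (α : MulChar F ℂ) [DecidableEq F] (y : Matrix.SpecialLinearGroup (Fin 2) F) :
    Cfsg.extendByZero (borel F) (fun b => α (((b : Matrix.SpecialLinearGroup (Fin 2) F) : Matrix (Fin 2) (Fin 2) F) 0 0)) y
      = if (y : Matrix (Fin 2) (Fin 2) F) 1 0 = 0 then α ((y : Matrix (Fin 2) (Fin 2) F) 0 0) else 0 := by
  classical
  rw [extendByZero_apply]
  by_cases h : (y : Matrix (Fin 2) (Fin 2) F) 1 0 = 0
  · rw [dif_pos ((mem_borel y).mpr h), if_pos h]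
  · rw [dif_neg (fun hh => h ((mem_borel y).mp hh)), if_neg h]

theorem conj_10 (g x : Matrix.SpecialLinearGroup (Fin 2) F) :
    ((x⁻¹ * g * x : Matrix.SpecialLinearGroup (Fin 2) F) : Matrix (Fin 2) (Fin 2) F) 1 0
      = (g : Matrix (Fin 2) (Fin 2) F) 1 0 * (x : Matrix (Fin 2) (Fin 2) F) 0 0 ^ 2
        + ((g : Matrix (Fin 2) (Fin 2) F) 1 1 - (g : Matrix (Fin 2) (Fin 2) F) 0 0) *
          (x : Matrix (Fin 2) (Fin 2) F) 0 0 * (x : Matrix (Fin 2) (Fin 2) F) 1 0
        - (g : Matrix (Fin 2) (Fin 2) F) 0 1 * (x : Matrix (Fin 2) (Fin 2) F) 1 0 ^ 2 := by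
  rw [mul_10, mul_10, mul_11, inv_10, inv_11]
  ring

theorem conj_00 (g x : Matrix.SpecialLinearGroup (Fin 2) F) :
    ((x⁻¹ * g * x : Matrix.SpecialLinearGroup (Fin 2) F) : Matrix (Fin 2) (Fin 2) F) 0 0
      = (g : Matrix (Fin 2) (Fin 2) F) 0 0 * (x : Matrix (Fin 2) (Fin 2) F) 0 0 * (x : Matrix (Fin 2) (Fin 2) F) 1 1
        + (g : Matrix (Fin 2) (Fin 2) F) 0 1 * (x : Matrix (Fin 2) (Fin 2) F) 1 0 * (x : Matrix (Fin 2) (Fin 2) F) 1 1
        - (g : Matrix (Fin 2) (Fin 2) F) 1 0 * (x : Matrix (Fin 2) (Fin 2) F) 0 0 * (x : Matrix (Fin 2) (Fin 2) F) 0 1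
        - (g : Matrix (Fin 2) (Fin 2) F) 1 1 * (x : Matrix (Fin 2) (Fin 2) F) 0 1 * (x : Matrix (Fin 2) (Fin 2) F) 1 0 := by
  rw [mul_00, mul_00, mul_01, inv_00, inv_01]
  ring

/-- the Weyl element -/
def wElt : Matrix.SpecialLinearGroup (Fin 2) F := mk2 0 (-1) 1 0 (by simp)

theorem sum_ind_borel [Fintype F] [DecidableEq F] (c : ℂ) :
    (∑ x : Matrix.SpecialLinearGroup (Fin 2) F, if (x : Matrix (Fin 2) (Fin 2) F) 1 0 = 0 then c else 0)
      = (Nat.card (borel F) : ℂ) * c := by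
  rw [Finset.sum_ite, Finset.sum_const_zero, add_zero, Finset.sum_const, nsmul_eq_mul]
  congr 2
  rw [← Fintype.card_subtype, ← Nat.card_eq_fintype_card]
  exact Nat.card_congr (Equiv.subtypeEquivRight (fun g => (mem_borel g).symm))

theorem sum_ind_borel' [Fintype F] [DecidableEq F] (c : ℂ) :
    (∑ x : Matrix.SpecialLinearGroup (Fin 2) F, if (x : Matrix (Fin 2) (Fin 2) F) 0 0 = 0 then c else 0)
      = (Nat.card (borel F) : ℂ) * c := by
  rw [← sum_ind_borel c]
  rw [← Equiv.sum_comp (Equiv.mulLeft (wElt : Matrix.SpecialLinearGroup (Fin 2) F))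
    (fun y : Matrix.SpecialLinearGroup (Fin 2) F => if (y : Matrix (Fin 2) (Fin 2) F) 1 0 = 0 then c else 0)]
  apply Finset.sum_congr rfl
  intro x _
  have : ((wElt * x : Matrix.SpecialLinearGroup (Fin 2) F) : Matrix (Fin 2) (Fin 2) F) 1 0
      = (x : Matrix (Fin 2) (Fin 2) F) 0 0 := by
    rw [mul_10]; simp [wElt]
  simp only [Equiv.coe_mulLeft, this]

theorem card_borel_ne_zero [Fintype F] : (Nat.card (borel F) : ℂ) ≠ 0 := by
  have : Nat.card (borel F) ≠ 0 := Nat.card_pos.ne'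
  exact_mod_cast this

/-- Let F be a finite field with q elements, q odd, α a multiplicative character of F, and R(α) the function on SL₂ induced from the linear character b ↦ α(b₁₁) of the upper triangular subgroup. Then R(α) takes the value α(a) + α(a⁻¹) at a diagonal element with entries a, a⁻¹, a² ≠ 1; the value 0 at every element with no eigenvector in F²; the value α(ε) at an upper triangular element with both diagonal entries ε and non-zero upper right entry; and the value (q + 1)α(ε) at the scalar element ε (ε = ±1). -/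
theorem result {F : Type*} [Field F] [Fintype F] [DecidableEq F] (hodd : Odd (Fintype.card F)) (α : MulChar F ℂ) (g : Matrix.SpecialLinearGroup (Fin 2) F) :
    ((g : Matrix (Fin 2) (Fin 2) F) 0 1 = 0 → (g : Matrix (Fin 2) (Fin 2) F) 1 0 = 0 → (g : Matrix (Fin 2) (Fin 2) F) 0 0 ^ 2 ≠ 1 →
      (Cfsg.indFun ((Cfsg.upperTriangularGL 2 F).comap Matrix.SpecialLinearGroup.toGL) (fun b => α (((b : Matrix.SpecialLinearGroup (Fin 2) F) : Matrix (Fin 2) (Fin 2) F) 0 0))) g = α ((g : Matrix (Fin 2) (Fin 2) F) 0 0) + α ((g : Matrix (Fin 2) (Fin 2) F) 1 1)) ∧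
    ((∀ (c : F) (v : Fin 2 → F), v ≠ 0 → (g : Matrix (Fin 2) (Fin 2) F).mulVec v ≠ c • v) → (Cfsg.indFun ((Cfsg.upperTriangularGL 2 F).comap Matrix.SpecialLinearGroup.toGL) (fun b => α (((b : Matrix.SpecialLinearGroup (Fin 2) F) : Matrix (Fin 2) (Fin 2) F) 0 0))) g = 0) ∧
    ((g : Matrix (Fin 2) (Fin 2) F) 1 0 = 0 → (g : Matrix (Fin 2) (Fin 2) F) 0 0 = (g : Matrix (Fin 2) (Fin 2) F) 1 1 → (g : Matrix (Fin 2) (Fin 2) F) 0 1 ≠ 0 →
      (Cfsg.indFun ((Cfsg.upperTriangularGL 2 F).comap Matrix.SpecialLinearGroup.toGL) (fun b => α (((b : Matrix.SpecialLinearGroup (Fin 2) F) : Matrix (Fin 2) (Fin 2) F) 0 0))) g = α ((g : Matrix (Fin 2) (Fin 2) F) 0 0)) ∧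
    ((g : Matrix (Fin 2) (Fin 2) F) 0 1 = 0 → (g : Matrix (Fin 2) (Fin 2) F) 1 0 = 0 → (g : Matrix (Fin 2) (Fin 2) F) 0 0 = (g : Matrix (Fin 2) (Fin 2) F) 1 1 →
      (Cfsg.indFun ((Cfsg.upperTriangularGL 2 F).comap Matrix.SpecialLinearGroup.toGL) (fun b => α (((b : Matrix.SpecialLinearGroup (Fin 2) F) : Matrix (Fin 2) (Fin 2) F) 0 0))) g = ((Fintype.card F : ℂ) + 1) * α ((g : Matrix (Fin 2) (Fin 2) F) 0 0)) := by
  classical
  have hB := card_borel_ne_zero (F := F)
  have hind : ∀ g : Matrix.SpecialLinearGroup (Fin 2) F,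
      (Cfsg.indFun ((Cfsg.upperTriangularGL 2 F).comap Matrix.SpecialLinearGroup.toGL) (fun b => α (((b : Matrix.SpecialLinearGroup (Fin 2) F) : Matrix (Fin 2) (Fin 2) F) 0 0))) g
      = (Nat.card (borel F) : ℂ)⁻¹ * ∑ x : Matrix.SpecialLinearGroup (Fin 2) F,
          if ((x⁻¹ * g * x : Matrix.SpecialLinearGroup (Fin 2) F) : Matrix (Fin 2) (Fin 2) F) 1 0 = 0 then
            α (((x⁻¹ * g * x : Matrix.SpecialLinearGroup (Fin 2) F) : Matrix (Fin 2) (Fin 2) F) 0 0) else 0 := by
    intro g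
    unfold Cfsg.indFun
    congr 1
    apply Finset.sum_congr rfl
    intro x _
    exact ext_borel α _
  refine ⟨?_, ?_, ?_, ?_⟩
  · -- diagonal, a^2 ≠ 1
    intro h01 h10 hsq
    rw [hind]
    have hdet := det2 g
    rw [h01, zero_mul, sub_zero] at hdet
    have hne : (g : Matrix (Fin 2) (Fin 2) F) 1 1 - (g : Matrix (Fin 2) (Fin 2) F) 0 0 ≠ 0 := by
      intro h
      apply hsq
      rw [sub_eq_zero] at h
      rw [sq]
      rw [h] at hdet
      exact hdet
    have key : ∀ x : Matrix.SpecialLinearGroup (Fin 2) F,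
        (if ((x⁻¹ * g * x : Matrix.SpecialLinearGroup (Fin 2) F) : Matrix (Fin 2) (Fin 2) F) 1 0 = 0 then
            α (((x⁻¹ * g * x : Matrix.SpecialLinearGroup (Fin 2) F) : Matrix (Fin 2) (Fin 2) F) 0 0) else 0)
        = (if (x : Matrix (Fin 2) (Fin 2) F) 1 0 = 0 then α ((g : Matrix (Fin 2) (Fin 2) F) 0 0) else 0)
          + (if (x : Matrix (Fin 2) (Fin 2) F) 0 0 = 0 then α ((g : Matrix (Fin 2) (Fin 2) F) 1 1) else 0) := by
      intro x
      have hx := det2 x
      rw [conj_10, conj_00, h01, h10]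
      by_cases hc : (x : Matrix (Fin 2) (Fin 2) F) 1 0 = 0
      · have ha : (x : Matrix (Fin 2) (Fin 2) F) 0 0 ≠ 0 := g00_ne_zero_of_g10 x hc
        rw [if_pos hc, if_neg ha, if_pos (by rw [hc]; ring), add_zero]
        congr 1
        rw [hc] at hx ⊢
        linear_combination ((g : Matrix (Fin 2) (Fin 2) F) 0 0) * hx
      · by_cases ha : (x : Matrix (Fin 2) (Fin 2) F) 0 0 = 0
        · rw [if_neg hc, if_pos ha, if_pos (by rw [ha]; ring), zero_add]
          congr 1
          rw [ha] at hx ⊢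
          linear_combination ((g : Matrix (Fin 2) (Fin 2) F) 1 1) * hx
        · rw [if_neg hc, if_neg ha, if_neg, add_zero]
          intro h
          have : ((g : Matrix (Fin 2) (Fin 2) F) 1 1 - (g : Matrix (Fin 2) (Fin 2) F) 0 0) *
              (x : Matrix (Fin 2) (Fin 2) F) 0 0 * (x : Matrix (Fin 2) (Fin 2) F) 1 0 = 0 := by
            linear_combination h
          rcases mul_eq_zero.mp this with h' | h'
          · rcases mul_eq_zero.mp h' with h'' | h''
            · exact hne h''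
            · exact ha h''
          · exact hc h'
    rw [Finset.sum_congr rfl (fun x _ => key x), Finset.sum_add_distrib, sum_ind_borel, sum_ind_borel']
    field_simp
  · -- no eigenvector
    intro hev
    rw [hind]
    rw [Finset.sum_eq_zero, mul_zero]
    intro x _
    rw [if_neg]
    intro h10
    rw [conj_10] at h10
    have hx := det2 x
    apply hev (((x⁻¹ * g * x : Matrix.SpecialLinearGroup (Fin 2) F) : Matrix (Fin 2) (Fin 2) F) 0 0)
      ![(x : Matrix (Fin 2) (Fin 2) F) 0 0, (x : Matrix (Fin 2) (Fin 2) F) 1 0]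
    · intro h
      have h0 := congrFun h 0
      have h1 := congrFun h 1
      simp only [Matrix.cons_val_zero, Matrix.cons_val_one, Pi.zero_apply] at h0 h1
      rw [h0, h1] at hx
      simp at hx
    · rw [conj_00]
      funext i
      fin_cases i
      · simp only [Matrix.mulVec, dotProduct, Fin.sum_univ_two, Fin.zero_eta, Matrix.cons_val_zero,
          Matrix.cons_val_one, Pi.smul_apply, smul_eq_mul]
        linear_combination ((x : Matrix (Fin 2) (Fin 2) F) 0 1) * h10
          - ((g : Matrix (Fin 2) (Fin 2) F) 0 0 * (x : Matrix (Fin 2) (Fin 2) F) 0 0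
            + (g : Matrix (Fin 2) (Fin 2) F) 0 1 * (x : Matrix (Fin 2) (Fin 2) F) 1 0) * hx
      · simp only [Matrix.mulVec, dotProduct, Fin.sum_univ_two, Fin.mk_one, Matrix.cons_val_zero,
          Matrix.cons_val_one, Pi.smul_apply, smul_eq_mul]
        linear_combination ((x : Matrix (Fin 2) (Fin 2) F) 1 1) * h10
          - ((g : Matrix (Fin 2) (Fin 2) F) 1 0 * (x : Matrix (Fin 2) (Fin 2) F) 0 0
            + (g : Matrix (Fin 2) (Fin 2) F) 1 1 * (x : Matrix (Fin 2) (Fin 2) F) 1 0) * hx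
  · -- nontrivial unipotent times sign
    intro h10 heq h01
    rw [hind]
    have key : ∀ x : Matrix.SpecialLinearGroup (Fin 2) F,
        (if ((x⁻¹ * g * x : Matrix.SpecialLinearGroup (Fin 2) F) : Matrix (Fin 2) (Fin 2) F) 1 0 = 0 then
            α (((x⁻¹ * g * x : Matrix.SpecialLinearGroup (Fin 2) F) : Matrix (Fin 2) (Fin 2) F) 0 0) else 0)
        = (if (x : Matrix (Fin 2) (Fin 2) F) 1 0 = 0 then α ((g : Matrix (Fin 2) (Fin 2) F) 0 0) else 0) := by
      intro x
      have hx := det2 x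
      rw [conj_10, conj_00, h10, ← heq]
      by_cases hc : (x : Matrix (Fin 2) (Fin 2) F) 1 0 = 0
      · rw [if_pos hc, if_pos (by rw [hc]; ring)]
        congr 1
        rw [hc] at hx ⊢
        linear_combination ((g : Matrix (Fin 2) (Fin 2) F) 0 0) * hx
      · rw [if_neg hc, if_neg]
        intro h
        have : (g : Matrix (Fin 2) (Fin 2) F) 0 1 * (x : Matrix (Fin 2) (Fin 2) F) 1 0 ^ 2 = 0 := by
          linear_combination -h
        rcases mul_eq_zero.mp this with h' | h'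
        · exact h01 h'
        · exact hc (pow_eq_zero_iff (by norm_num) |>.mp h')
    rw [Finset.sum_congr rfl (fun x _ => key x), sum_ind_borel]
    field_simp
  · -- scalar
    intro h01 h10 heq
    rw [hind]
    have key : ∀ x : Matrix.SpecialLinearGroup (Fin 2) F,
        (if ((x⁻¹ * g * x : Matrix.SpecialLinearGroup (Fin 2) F) : Matrix (Fin 2) (Fin 2) F) 1 0 = 0 then
            α (((x⁻¹ * g * x : Matrix.SpecialLinearGroup (Fin 2) F) : Matrix (Fin 2) (Fin 2) F) 0 0) else 0)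
        = α ((g : Matrix (Fin 2) (Fin 2) F) 0 0) := by
      intro x
      have hx := det2 x
      rw [conj_10, conj_00, h10, h01, ← heq, if_pos (by ring)]
      congr 1
      linear_combination ((g : Matrix (Fin 2) (Fin 2) F) 0 0) * hx
    rw [Finset.sum_congr rfl (fun x _ => key x), Finset.sum_const, nsmul_eq_mul, Finset.card_univ,
      ← Nat.card_eq_fintype_card, card_SL2_eq]
    push_cast
    field_simp

end Cfsg.Agent.S2433
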