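import Cfsg.Statements.S2432
import Cfsg.Agent.Lib.Helper40.SL2
import Cfsg.Agent.S2433

set_option autoImplicit false
open Cfsg

namespace Cfsg.Agent.S2432

open Cfsg.Agent.Helper40
open scoped ComplexConjugate

/-- the double sum transformation behind the Mackey formula -/
theorem double_sum {G : Type*} [Group G] [Fintype G] (f k : G → ℂ) :
    (∑ g : G, (∑ x : G, f (x⁻¹ * g * x)) * conj (∑ y : G, k (y⁻¹ * g * y)))
      = (Fintype.card G : ℂ) * ∑ z : G, ∑ h : G, f h * conj (k (z⁻¹ * h * z)) := by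
  have step1 : ∀ g : G, (∑ x : G, f (x⁻¹ * g * x)) * conj (∑ y : G, k (y⁻¹ * g * y))
      = ∑ x : G, ∑ y : G, f (x⁻¹ * g * x) * conj (k (y⁻¹ * g * y)) := by
    intro g
    rw [map_sum, Finset.sum_mul_sum]
  simp only [step1]
  rw [Finset.sum_comm]
  have step2 : ∀ x : G, (∑ g : G, ∑ y : G, f (x⁻¹ * g * x) * conj (k (y⁻¹ * g * y)))
      = ∑ z : G, ∑ h : G, f h * conj (k (z⁻¹ * h * z)) := by
    intro x
    rw [Finset.sum_comm]
    rw [← Equiv.sum_comp (Equiv.mulLeft x)]
    apply Finset.sum_congr rfl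
    intro z _
    rw [← Equiv.sum_comp (MulAut.conj x).toEquiv]
    apply Finset.sum_congr rfl
    intro h _
    simp only [Equiv.coe_mulLeft, MulEquiv.toEquiv_eq_coe, EquivLike.coe_coe, MulAut.conj_apply]
    congr 2
    · group
    · congr 1; group
  simp only [step2]
  rw [Finset.sum_const, Finset.card_univ, nsmul_eq_mul]

variable {F : Type*} [Field F]

local notation "SL2F" => Matrix.SpecialLinearGroup (Fin 2) F
local notation "M2F" => Matrix (Fin 2) (Fin 2) F

theorem sum_borel_eq [Fintype F] [DecidableEq F] (Φ : SL2F → ℂ) :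
    (∑ h : SL2F, if (h : M2F) 1 0 = 0 then Φ h else 0)
      = ∑ p : Fˣ × F, Φ (mk2 (p.1 : F) p.2 0 ((p.1 : F)⁻¹) (by simp)) := by
  rw [Finset.sum_ite, Finset.sum_const_zero, add_zero]
  rw [Finset.sum_subtype (Finset.univ.filter fun h : SL2F => (h : M2F) 1 0 = 0)
    (p := fun h : SL2F => (h : M2F) 1 0 = 0) (by intro x; simp)]
  exact Fintype.sum_equiv borelEquiv _ _ (fun h => by
    have := borelEquiv.left_inv h
    conv_lhs => rw [← this]
    rfl)

theorem sum_units_eq [Fintype F] [DecidableEq F] (f : F → ℂ) (h0 : f 0 = 0) : ∑ u : Fˣ, f u = ∑ a : F, f a := by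
  classical
  rw [← Finset.sum_erase Finset.univ h0]
  refine Finset.sum_bij (fun u _ => (u : F)) ?_ ?_ ?_ ?_
  · intro u _
    simp
  · intro u _ v _ h
    exact Units.ext h
  · intro a ha
    simp only [Finset.mem_erase, Finset.mem_univ, and_true] at ha
    exact ⟨Units.mk0 a ha, Finset.mem_univ _, rfl⟩
  · intro u _
    rfl

theorem sum_mulChar [Fintype F] [DecidableEq F] (χ : MulChar F ℂ) [Decidable (χ = 1)] :
    ∑ u : Fˣ, χ u = if χ = 1 then ((Fintype.card F : ℂ) - 1) else 0 := by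
  rw [sum_units_eq (fun a => χ a) (MulChar.map_zero χ)]
  split_ifs with h
  · rw [h, MulChar.sum_one_eq_card_units, Fintype.card_units, Nat.cast_sub Fintype.card_pos]
    simp
  · exact MulChar.sum_eq_zero_of_ne_one h

theorem conjm_10 (z : SL2F) (a : Fˣ) (b : F) :
    ((z⁻¹ * (mk2 (a : F) b 0 ((a : F)⁻¹) (by simp)) * z : SL2F) : M2F) 1 0
      = ((a : F)⁻¹ - (a : F)) * (z : M2F) 0 0 * (z : M2F) 1 0 - b * (z : M2F) 1 0 ^ 2 := by
  rw [Cfsg.Agent.S2433.conj_10]
  simp only [mk2_00, mk2_01, mk2_10, mk2_11]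
  ring

theorem conjm_00 (z : SL2F) (a : Fˣ) (b : F) :
    ((z⁻¹ * (mk2 (a : F) b 0 ((a : F)⁻¹) (by simp)) * z : SL2F) : M2F) 0 0
      = (a : F) * (z : M2F) 0 0 * (z : M2F) 1 1 + b * (z : M2F) 1 0 * (z : M2F) 1 1
        - (a : F)⁻¹ * (z : M2F) 0 1 * (z : M2F) 1 0 := by
  rw [Cfsg.Agent.S2433.conj_00]
  simp only [mk2_00, mk2_01, mk2_10, mk2_11]
  ring

theorem fconj_upper [DecidableEq F] (β : MulChar F ℂ) (z : SL2F) (hz10 : (z : M2F) 1 0 = 0) (a : Fˣ) (b : F) :
    (if ((z⁻¹ * (mk2 (a : F) b 0 ((a : F)⁻¹) (by simp)) * z : SL2F) : M2F) 1 0 = 0 then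
      β (((z⁻¹ * (mk2 (a : F) b 0 ((a : F)⁻¹) (by simp)) * z : SL2F) : M2F) 0 0) else 0) = β (a : F) := by
  have hz := det2 z
  have h10 := conjm_10 z a b
  have h00 := conjm_00 z a b
  rw [hz10] at h10 h00 hz
  have h10' : ((z⁻¹ * (mk2 (a : F) b 0 ((a : F)⁻¹) (by simp)) * z : SL2F) : M2F) 1 0 = 0 := by
    rw [h10]; ring
  have h00' : ((z⁻¹ * (mk2 (a : F) b 0 ((a : F)⁻¹) (by simp)) * z : SL2F) : M2F) 0 0 = (a : F) := by
    rw [h00]; linear_combination (a : F) * hz
  rw [if_pos h10', h00']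

theorem fconj_big [DecidableEq F] (β : MulChar F ℂ) (z : SL2F) (hz10 : (z : M2F) 1 0 ≠ 0) (a : Fˣ) (b : F) :
    (if ((z⁻¹ * (mk2 (a : F) b 0 ((a : F)⁻¹) (by simp)) * z : SL2F) : M2F) 1 0 = 0 then
      β (((z⁻¹ * (mk2 (a : F) b 0 ((a : F)⁻¹) (by simp)) * z : SL2F) : M2F) 0 0) else 0)
      = if b = ((a : F)⁻¹ - (a : F)) * (z : M2F) 0 0 / (z : M2F) 1 0 then β ((a : F)⁻¹) else 0 := by
  have hz := det2 z
  have ha := a.ne_zero
  have h10 := conjm_10 z a b
  have h00 := conjm_00 z a b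
  by_cases hb : b = ((a : F)⁻¹ - (a : F)) * (z : M2F) 0 0 / (z : M2F) 1 0
  · have h10' : ((z⁻¹ * (mk2 (a : F) b 0 ((a : F)⁻¹) (by simp)) * z : SL2F) : M2F) 1 0 = 0 := by
      rw [h10, hb]; field_simp; ring
    have h00' : ((z⁻¹ * (mk2 (a : F) b 0 ((a : F)⁻¹) (by simp)) * z : SL2F) : M2F) 0 0 = (a : F)⁻¹ := by
      rw [h00, hb]; field_simp; linear_combination hz
    rw [if_pos h10', if_pos hb, h00']
  · have h10' : ¬ ((z⁻¹ * (mk2 (a : F) b 0 ((a : F)⁻¹) (by simp)) * z : SL2F) : M2F) 1 0 = 0 := by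
      rw [h10]
      intro h
      apply hb
      rw [eq_div_iff hz10]
      apply mul_right_cancel₀ hz10
      linear_combination -h
    rw [if_neg h10', if_neg hb]

/-- Let F be a finite field with q elements, q odd, and for a multiplicative character α of F let R(α) be the function on SL₂ induced from the linear character b ↦ α(b₁₁) of the upper triangular subgroup. For multiplicative characters α, β the inner product of R(α) and R(β) equals the number of true statements among 'α = β' and 'α = β⁻¹' (the Mackey formula for the upper triangular subgroup, whose intersection with a conjugate by the Weyl element is the diagonal subgroup). -/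
theorem result {F : Type*} [Field F] [Fintype F] [DecidableEq F] (hodd : Odd (Fintype.card F))
    (α β : MulChar F ℂ) [Decidable (α = β)] [Decidable (α = β⁻¹)] :
    Cfsg.classInner (Cfsg.indFun ((Cfsg.upperTriangularGL 2 F).comap Matrix.SpecialLinearGroup.toGL) (fun b => α (((b : Matrix.SpecialLinearGroup (Fin 2) F) : Matrix (Fin 2) (Fin 2) F) 0 0))) (Cfsg.indFun ((Cfsg.upperTriangularGL 2 F).comap Matrix.SpecialLinearGroup.toGL) (fun b => β (((b : Matrix.SpecialLinearGroup (Fin 2) F) : Matrix (Fin 2) (Fin 2) F) 0 0))) =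
      (if α = β then 1 else 0) + (if α = β⁻¹ then 1 else 0) := by
  classical
  have hB := Cfsg.Agent.S2433.card_borel_ne_zero (F := F)
  -- abbreviations
  set fα : Matrix.SpecialLinearGroup (Fin 2) F → ℂ := fun y =>
    if (y : Matrix (Fin 2) (Fin 2) F) 1 0 = 0 then α ((y : Matrix (Fin 2) (Fin 2) F) 0 0) else 0 with hfα
  set fβ : Matrix.SpecialLinearGroup (Fin 2) F → ℂ := fun y =>
    if (y : Matrix (Fin 2) (Fin 2) F) 1 0 = 0 then β ((y : Matrix (Fin 2) (Fin 2) F) 0 0) else 0 with hfβ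
  have hindα : ∀ g : Matrix.SpecialLinearGroup (Fin 2) F,
      (Cfsg.indFun ((Cfsg.upperTriangularGL 2 F).comap Matrix.SpecialLinearGroup.toGL) (fun b => α (((b : Matrix.SpecialLinearGroup (Fin 2) F) : Matrix (Fin 2) (Fin 2) F) 0 0))) g
      = (Nat.card (borel F) : ℂ)⁻¹ * ∑ x : Matrix.SpecialLinearGroup (Fin 2) F, fα (x⁻¹ * g * x) := by
    intro g
    unfold Cfsg.indFun
    congr 1
    apply Finset.sum_congr rfl
    intro x _
    exact Cfsg.Agent.S2433.ext_borel α _
  have hindβ : ∀ g : Matrix.SpecialLinearGroup (Fin 2) F,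
      (Cfsg.indFun ((Cfsg.upperTriangularGL 2 F).comap Matrix.SpecialLinearGroup.toGL) (fun b => β (((b : Matrix.SpecialLinearGroup (Fin 2) F) : Matrix (Fin 2) (Fin 2) F) 0 0))) g
      = (Nat.card (borel F) : ℂ)⁻¹ * ∑ x : Matrix.SpecialLinearGroup (Fin 2) F, fβ (x⁻¹ * g * x) := by
    intro g
    unfold Cfsg.indFun
    congr 1
    apply Finset.sum_congr rfl
    intro x _
    exact Cfsg.Agent.S2433.ext_borel β _
  unfold Cfsg.classInner
  simp only [hindα, hindβ]
  have hpull : ∀ g : Matrix.SpecialLinearGroup (Fin 2) F,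
      ((Nat.card (borel F) : ℂ)⁻¹ * ∑ x : Matrix.SpecialLinearGroup (Fin 2) F, fα (x⁻¹ * g * x)) *
        conj ((Nat.card (borel F) : ℂ)⁻¹ * ∑ x : Matrix.SpecialLinearGroup (Fin 2) F, fβ (x⁻¹ * g * x))
      = ((Nat.card (borel F) : ℂ)⁻¹) ^ 2 * ((∑ x : Matrix.SpecialLinearGroup (Fin 2) F, fα (x⁻¹ * g * x)) *
        conj (∑ x : Matrix.SpecialLinearGroup (Fin 2) F, fβ (x⁻¹ * g * x))) := by
    intro g
    rw [map_mul, map_inv₀, Complex.conj_natCast]
    ring
  simp only [hpull]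
  rw [← Finset.mul_sum, double_sum]
  -- now compute the inner sums
  have hq0 : (Fintype.card F : ℂ) ≠ 0 := by
    have : Fintype.card F ≠ 0 := Fintype.card_ne_zero
    exact_mod_cast this
  have hS : ∀ z : Matrix.SpecialLinearGroup (Fin 2) F,
      (∑ h : Matrix.SpecialLinearGroup (Fin 2) F, fα h * conj (fβ (z⁻¹ * h * z)))
      = if (z : Matrix (Fin 2) (Fin 2) F) 1 0 = 0 then
          (Fintype.card F : ℂ) * (if α = β then ((Fintype.card F : ℂ) - 1) else 0)
        else (if α = β⁻¹ then ((Fintype.card F : ℂ) - 1) else 0) := by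
    intro z
    have hz := det2 z
    have hrew : ∀ h : Matrix.SpecialLinearGroup (Fin 2) F, fα h * conj (fβ (z⁻¹ * h * z))
        = if (h : Matrix (Fin 2) (Fin 2) F) 1 0 = 0 then
            α ((h : Matrix (Fin 2) (Fin 2) F) 0 0) * conj (fβ (z⁻¹ * h * z)) else 0 := by
      intro h
      simp only [hfα]
      split_ifs <;> simp
    simp only [hrew]
    rw [sum_borel_eq]
    by_cases hz10 : (z : Matrix (Fin 2) (Fin 2) F) 1 0 = 0
    · -- z upper triangular
      rw [if_pos hz10]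
      have hterm : ∀ p : Fˣ × F,
          α (((mk2 (p.1 : F) p.2 0 ((p.1 : F)⁻¹) (by simp) : Matrix.SpecialLinearGroup (Fin 2) F) : Matrix (Fin 2) (Fin 2) F) 0 0) *
            conj (fβ (z⁻¹ * (mk2 (p.1 : F) p.2 0 ((p.1 : F)⁻¹) (by simp)) * z))
          = (α * β⁻¹) (p.1 : F) := by
        intro p
        simp only [hfβ]
        rw [fconj_upper β z hz10 p.1 p.2, mk2_00, MulChar.mul_apply, ← MulChar.star_apply']
        rfl
      simp only [hterm]
      rw [Fintype.sum_prod_type]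
      simp only [Finset.sum_const, Finset.card_univ, nsmul_eq_mul]
      rw [← Finset.mul_sum, sum_mulChar]
      congr 1
      simp only [mul_inv_eq_one]
    · -- z in the big cell
      rw [if_neg hz10]
      have hterm : ∀ p : Fˣ × F,
          α (((mk2 (p.1 : F) p.2 0 ((p.1 : F)⁻¹) (by simp) : Matrix.SpecialLinearGroup (Fin 2) F) : Matrix (Fin 2) (Fin 2) F) 0 0) *
            conj (fβ (z⁻¹ * (mk2 (p.1 : F) p.2 0 ((p.1 : F)⁻¹) (by simp)) * z))
          = if p.2 = ((p.1 : F)⁻¹ - (p.1 : F)) * (z : Matrix (Fin 2) (Fin 2) F) 0 0 / (z : Matrix (Fin 2) (Fin 2) F) 1 0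
            then (α * β) (p.1 : F) else 0 := by
        intro p
        simp only [hfβ]
        rw [fconj_big β z hz10 p.1 p.2, mk2_00]
        split_ifs with hb
        · rw [MulChar.mul_apply, starRingEnd_apply, MulChar.star_apply', MulChar.inv_apply', inv_inv]
        · simp
      simp only [hterm]
      rw [Fintype.sum_prod_type]
      simp only [Finset.sum_ite_eq', Finset.mem_univ, if_true]
      rw [sum_mulChar]
      simp only [mul_eq_one_iff_eq_inv]
  simp only [hS]
  -- sum over z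
  rw [Finset.sum_ite, Finset.sum_const, Finset.sum_const, nsmul_eq_mul, nsmul_eq_mul]
  have hc1 : ((Finset.univ.filter fun z : Matrix.SpecialLinearGroup (Fin 2) F => (z : Matrix (Fin 2) (Fin 2) F) 1 0 = 0).card : ℂ)
      = (Fintype.card F : ℂ) * ((Fintype.card F : ℂ) - 1) := by
    rw [← Fintype.card_subtype, ← Nat.card_eq_fintype_card, Nat.card_congr borelEquiv, Nat.card_prod,
      Nat.card_units, Nat.card_eq_fintype_card]
    rw [Nat.cast_mul, Nat.cast_sub Fintype.card_pos]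
    push_cast; ring
  have hc2 : ((Finset.univ.filter fun z : Matrix.SpecialLinearGroup (Fin 2) F => ¬ (z : Matrix (Fin 2) (Fin 2) F) 1 0 = 0).card : ℂ)
      = (Fintype.card F : ℂ) ^ 2 * ((Fintype.card F : ℂ) - 1) := by
    rw [← Fintype.card_subtype, ← Nat.card_eq_fintype_card, Nat.card_congr bigCellEquiv, Nat.card_prod,
      Nat.card_prod, Nat.card_units, Nat.card_eq_fintype_card]
    rw [Nat.cast_mul, Nat.cast_mul, Nat.cast_sub Fintype.card_pos]
    push_cast; ring
  rw [hc1, hc2]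
  have hG : (Nat.card (Matrix.SpecialLinearGroup (Fin 2) F) : ℂ)
      = (Fintype.card F : ℂ) * ((Fintype.card F : ℂ) - 1) * ((Fintype.card F : ℂ) + 1) := by
    rw [card_SL2, Nat.cast_mul, Nat.cast_mul, Nat.cast_sub Fintype.card_pos]
    push_cast; ring
  have hBc : (Nat.card (borel F) : ℂ) = (Fintype.card F : ℂ) * ((Fintype.card F : ℂ) - 1) := by
    rw [card_borel, Nat.cast_mul, Nat.cast_sub Fintype.card_pos]
    push_cast; ring
  have hq1 : (Fintype.card F : ℂ) - 1 ≠ 0 := by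
    have h1 : 1 < Fintype.card F := Fintype.one_lt_card
    have : ((Fintype.card F : ℕ) : ℂ) ≠ 1 := by
      have : Fintype.card F ≠ 1 := by omega
      exact_mod_cast this
    exact sub_ne_zero.mpr this
  have hq2 : (Fintype.card F : ℂ) + 1 ≠ 0 := by
    have : ((Fintype.card F + 1 : ℕ) : ℂ) ≠ 0 := Nat.cast_ne_zero.mpr (Nat.succ_ne_zero (Fintype.card F))
    simpa using this
  rw [← Nat.card_eq_fintype_card (α := Matrix.SpecialLinearGroup (Fin 2) F), hG, hBc]
  split_ifs <;> field_simp <;> ring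

end Cfsg.Agent.S2432
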