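import Cfsg.Statements.S2434
import Mathlib
import Cfsg.Agent.Lib.Helper38.SL2CuspCount

set_option autoImplicit false
set_option linter.unusedSectionVars false
open Cfsg

namespace Cfsg.Agent.S2434

open Matrix Cfsg.Agent.Helper38 Cfsg.Agent.Helper81
open Cfsg.Agent.S2305 (dg)
open scoped ComplexConjugate

/-- Let F be a finite field with q elements, q odd, and C a cyclic subgroup of order q + 1 of SL₂ over F (a non-split torus; it contains the centre). For every homomorphism θ from C to the non-zero complex numbers with θ² ≠ 1 there is an irreducible complex character χ of degree q − 1 such that χ(c) = −θ(c) − θ(c)⁻¹ for every non-central c in C, χ(zg) = θ(z)χ(g) for central z in C, χ vanishes at diagonal elements with entry a, a² ≠ 1, and χ takes the value −1 at every upper unitriangular element other than 1. Conversely every irreducible character of degree q − 1 has, for some such θ, the values −θ(c) − θ(c)⁻¹ at the non-central elements c of C (for q ≥ 5 these are exactly the cuspidal characters of degree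 q − 1). -/
theorem result {F : Type*} [Field F] [Fintype F] (hodd : Odd (Fintype.card F))
    (C : Subgroup (Matrix.SpecialLinearGroup (Fin 2) F)) (hC : IsCyclic C) (hcard : Nat.card C = Fintype.card F + 1) :
    (∀ θ : C →* ℂˣ, (∃ c : C, θ c ^ 2 ≠ 1) →
      ∃ χ : Matrix.SpecialLinearGroup (Fin 2) F → ℂ, Cfsg.IsIrrCharacter (Matrix.SpecialLinearGroup (Fin 2) F) χ ∧ χ 1 = (Fintype.card F : ℂ) - 1 ∧
        (∀ c : C, (c : Matrix.SpecialLinearGroup (Fin 2) F) ∉ Subgroup.center (Matrix.SpecialLinearGroup (Fin 2) F) → χ c = -((θ c).val + (θ c)⁻¹.val)) ∧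
        (∀ c : C, (c : Matrix.SpecialLinearGroup (Fin 2) F) ∈ Subgroup.center (Matrix.SpecialLinearGroup (Fin 2) F) → ∀ g : Matrix.SpecialLinearGroup (Fin 2) F, χ ((c : Matrix.SpecialLinearGroup (Fin 2) F) * g) = (θ c).val * χ g) ∧
        (∀ g : Matrix.SpecialLinearGroup (Fin 2) F, (g : Matrix (Fin 2) (Fin 2) F) 0 1 = 0 → (g : Matrix (Fin 2) (Fin 2) F) 1 0 = 0 → (g : Matrix (Fin 2) (Fin 2) F) 0 0 ^ 2 ≠ 1 → χ g = 0) ∧
        (∀ g : Matrix.SpecialLinearGroup (Fin 2) F, (g : Matrix (Fin 2) (Fin 2) F) 1 0 = 0 → (g : Matrix (Fin 2) (Fin 2) F) 0 0 = 1 → (g : Matrix (Fin 2) (Fin 2) F) 1 1 = 1 → (g : Matrix (Fin 2) (Fin 2) F) 0 1 ≠ 0 → χ g = -1)) ∧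
    (∀ χ : Matrix.SpecialLinearGroup (Fin 2) F → ℂ, Cfsg.IsIrrCharacter (Matrix.SpecialLinearGroup (Fin 2) F) χ → χ 1 = (Fintype.card F : ℂ) - 1 →
      ∃ θ : C →* ℂˣ, (∃ c : C, θ c ^ 2 ≠ 1) ∧
        ∀ c : C, (c : Matrix.SpecialLinearGroup (Fin 2) F) ∉ Subgroup.center (Matrix.SpecialLinearGroup (Fin 2) F) → χ c = -((θ c).val + (θ c)⁻¹.val)) := by
  classical
  have : Fintype (N F) := Fintype.ofFinite _
  have hF := card_F_eq (F := F)
  have hT : IsNSTorus C := isNSTorus_of_cyclic hodd C hC hcard
  have hFc : (Fintype.card F : ℂ) - 1 = (Fintype.card Fˣ : ℂ) := by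
    rw [hF]; push_cast; ring
  have hnc : ∀ c : C, (c : Matrix.SpecialLinearGroup (Fin 2) F) ∉
      Subgroup.center (Matrix.SpecialLinearGroup (Fin 2) F) →
      NoEig ((c : Matrix.SpecialLinearGroup (Fin 2) F) : Matrix (Fin 2) (Fin 2) F) := by
    intro c hc
    by_contra h
    exact hc ((hT.mem_center_iff hodd c).mpr h)
  constructor
  · intro θ hθ
    obtain ⟨X, hSC, hirr, hm⟩ := exists_cusp_of_theta hodd hT θ hθ
    have hcl := isClassFunction_of_isCharacter (IsIrrCharacter.isCharacter X.2)
    refine ⟨fun s => (X : GL (Fin 2) F → ℂ) (Matrix.SpecialLinearGroup.toGL s), ?_, ?_, ?_, ?_, ?_, ?_⟩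
    · have h1 := isIrrCharacter_comp_equiv (ι (F := F)) hirr
      have h2 : (fun s : Matrix.SpecialLinearGroup (Fin 2) F =>
          (X : GL (Fin 2) F → ℂ) ((ι s : N F) : GL (Fin 2) F)) =
          fun s : Matrix.SpecialLinearGroup (Fin 2) F =>
            (X : GL (Fin 2) F → ℂ) (Matrix.SpecialLinearGroup.toGL s) := by
        funext s
        rw [ι_coe]
      rw [← h2]
      exact h1
    · simp only [map_one]
      rw [deg_spec, deg_SC X hSC, hFc]
    · intro c hc
      exact hm.2 c (hnc c hc)
    · intro c hc g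
      have hE := (hT.mem_center_iff hodd c).mp hc
      rw [hT.noEig_iff' hodd] at hE
      by_cases h1 : c = 1
      · rw [h1]
        simp
      · have h2 : c = ⟨zS, hT.zS_mem' hodd⟩ := by
          by_contra h2
          exact hE ⟨h1, h2⟩
        simp only
        rw [map_mul]
        nth_rewrite 1 [h2]
        simp only
        rw [toGL_zS, hm.1, ← h2]
    · intro g h01 h10 ha2
      have hdet : (g : Matrix (Fin 2) (Fin 2) F) 0 0 * (g : Matrix (Fin 2) (Fin 2) F) 1 1 = 1 := by
        have := g.det_coe
        rw [Matrix.det_fin_two, h01, zero_mul, sub_zero] at this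
        exact this
      set a : Fˣ := Units.mkOfMulEqOne _ _ hdet with ha
      have ha0 : (a : F) = (g : Matrix (Fin 2) (Fin 2) F) 0 0 := rfl
      have ha1 : ((a⁻¹ : Fˣ) : F) = (g : Matrix (Fin 2) (Fin 2) F) 1 1 := rfl
      have hne : a ≠ a⁻¹ := by
        intro h
        apply ha2
        have h1 : a * a = 1 := by
          nth_rewrite 2 [h]
          exact mul_inv_cancel a
        have h2 := congrArg Units.val h1
        rw [Units.val_mul, Units.val_one, ha0] at h2
        rw [pow_two, h2]
      have hn : (Matrix.SpecialLinearGroup.toGL g : GL (Fin 2) F) = dg a a⁻¹ := by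
        apply Matrix.GeneralLinearGroup.ext
        intro i j
        rw [toGL_coe, dg_coe]
        fin_cases i <;> fin_cases j
        · exact ha0.symm
        · simpa using h01
        · simpa using h10
        · exact ha1.symm
      simp only
      rw [hn]
      exact SC_dg X hSC a a⁻¹ hne
    · intro g h10 h00 h11 h01
      have hn : (Matrix.SpecialLinearGroup.toGL g : GL (Fin 2) F) =
          un ((g : Matrix (Fin 2) (Fin 2) F) 0 1) := by
        apply Matrix.GeneralLinearGroup.ext
        intro i j
        rw [toGL_coe, un_coe]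
        fin_cases i <;> fin_cases j
        · simpa using h00
        · simp
        · simpa using h10
        · simpa using h11
      simp only
      rw [hn, classFun_un hcl _ h01]
      exact un_SC X hSC
  · intro χ hχ hdeg
    obtain ⟨θ, h1, h2⟩ := degree_torus hodd hχ (by rw [hdeg, hFc]) hT
    exact ⟨θ, h1, fun c hc => h2 c (hnc c hc)⟩

end Cfsg.Agent.S2434
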