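import Cfsg.Statements.S2435
import Mathlib
import Cfsg.Agent.Lib.Helper38.SL2HalfVal
import Cfsg.Agent.Lib.Helper38.SL2TorusSum
import Cfsg.Agent.Lib.Helper38.AbelSign

set_option autoImplicit false
set_option linter.unusedSectionVars false
open Cfsg

namespace Cfsg.Agent.S2435

open Matrix Cfsg.Agent.Helper38 Cfsg.Agent.Helper81
open Cfsg.Agent.S2305 (dg)
open Cfsg.Agent.S2322 (fam_of_deg)
open scoped ComplexConjugate

section

variable {F : Type*} [Field F] [Fintype F] [DecidableEq F] [Fintype (N F)]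

local notation "SL2" => Matrix.SpecialLinearGroup (Fin 2) F

/-- the value of a character of degree `(q + 1) / 2` at a split element -/
theorem half_split_value (hodd : Odd (Fintype.card F)) (hq : 5 ≤ Fintype.card F)
    {ψ : N F → ℂ} (hψ : IsIrrCharacter (N F) ψ) (k : ℕ) (hk : 2 * k = Fintype.card Fˣ + 2)
    (hdeg : ψ 1 = (k : ℂ)) (a : Fˣ) (ha : a ≠ a⁻¹) (n : N F)
    (hn : (n : GL (Fin 2) F) = dg a a⁻¹) : ψ n = qc F a := by
  have hF := card_F_eq (F := F)
  obtain ⟨X, hX, hcase⟩ := over_cases hψ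
  rcases hcase with hres | ⟨-, ε, hε, hs, ψ', hψ', hneψ, hsum, t, ht⟩
  · exfalso
    have hX1 : X 1 = (k : ℂ) := by
      have := congrFun hres 1
      simp only [OneMemClass.coe_one] at this
      rw [this, hdeg]
    rcases fam_of_deg hX k hX1 with ⟨h1, -⟩ | ⟨h1, -⟩ | ⟨h1, -⟩ | ⟨h1, -⟩ <;> omega
  · have hc := isClassFunction_of_isCharacter (IsIrrCharacter.isCharacter hψ)
    have hc' := isClassFunction_of_isCharacter (IsIrrCharacter.isCharacter hψ')
    have hswap := conj_swap hodd hε hc hc' hneψ t ht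
    have hψ1 : ψ' 1 = ψ 1 := by
      rw [ht, conjFun_comm' ψ t 1 (by simp)]
    have hXn : ∀ n : N F, X n = ψ n + ψ' n := fun n => congrFun hsum n
    have hX1 : X 1 = ((2 * k : ℕ) : ℂ) := by
      have := hXn 1
      simp only [OneMemClass.coe_one] at this
      rw [this, hψ1, hdeg]
      push_cast
      ring
    have hSP : (⟨X, hX⟩ : IrrCharacter (GL (Fin 2) F)) ∈ SP F := by
      rcases fam_of_deg hX (2 * k) hX1 with ⟨h1, -⟩ | ⟨h1, -⟩ | ⟨-, h2⟩ | ⟨h1, -⟩
      · omega
      · omega
      · exact h2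
      · omega
    unfold SP at hSP
    obtain ⟨x, hx, hx2⟩ := Finset.mem_image.mp hSP
    have hx' : x.1 ≠ x.2 := (Finset.mem_offDiag.mp hx).2.2
    have hXind : X = indFun (upperTriangularGL 2 F) (θ x.1 x.2) := by
      have := congrArg Subtype.val hx2
      rw [irrPS_val x hx'] at this
      exact this.symm
    -- the second parameter is the twist of the first
    have hβ : x.2 = x.1 * ε := by
      have h1 := hs
      rw [hXind, ind_mul_lin, ind_eq_iff] at h1
      rcases h1 with ⟨h2, -⟩ | ⟨h2, -⟩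
      · exfalso
        apply hε.ne_one
        have : x.1 * ε = x.1 * 1 := by rw [h2, mul_one]
        exact mul_left_cancel this
      · exact h2.symm
    -- the value of `X`
    have hXv : X (dg a a⁻¹) = 2 * ε a := by
      rw [hXind, I_diag _ _ a a⁻¹ ha, hβ, MulChar.mul_apply, MulChar.mul_apply]
      have h1 : x.1 (a : F) * x.1 ((a⁻¹ : Fˣ) : F) = 1 := by
        rw [← map_mul, ← Units.val_mul, mul_inv_cancel, Units.val_one, map_one]
      have h2 : ε (a : F) * ε ((a⁻¹ : Fˣ) : F) = 1 := by
        rw [← map_mul, ← Units.val_mul, mul_inv_cancel, Units.val_one, map_one]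
      have h3 : ε (a : F) * ε (a : F) = 1 := by
        rcases quad_cases hε a with h | h <;> rw [h] <;> norm_num
      have h4 : ε ((a⁻¹ : Fˣ) : F) = ε (a : F) := by
        have : ε (a : F) * ε ((a⁻¹ : Fˣ) : F) = ε (a : F) * ε (a : F) := by rw [h2, h3]
        have hne : ε (a : F) ≠ 0 := by
          intro h0
          rw [h0, zero_mul] at h3
          exact zero_ne_one h3
        exact mul_left_cancel₀ hne this
      rw [h4]
      linear_combination (2 * ε (a : F)) * h1
    -- the two constituents agree at the diagonal element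
    obtain ⟨c, hc1⟩ := exists_nonsquare hε
    have hψ' : ψ' n = ψ n := by
      have hl : lin ε (dg c 1) = -1 := by rw [lin_dg, hc1]; simp
      rw [← (hswap (dg c 1) hl).1, conjFun_comm' ψ (dg c 1) n]
      rw [hn]
      apply Matrix.GeneralLinearGroup.ext
      intro i j
      rw [Matrix.GeneralLinearGroup.coe_mul, Matrix.GeneralLinearGroup.coe_mul, dg_coe, dg_coe]
      fin_cases i <;> fin_cases j <;> simp [Matrix.mul_apply, Fin.sum_univ_two, mul_comm]
    have h5 := hXn n
    rw [hn, hXv, hψ'] at h5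
    rw [← quad_eq_qc hodd hε]
    linear_combination -(1 / 2 : ℂ) * h5

/-- the characters of degree `(q - 1) / 2` on a non-split torus -/
theorem half_torus (hodd : Odd (Fintype.card F)) (hq : 5 ≤ Fintype.card F)
    {χ : SL2 → ℂ} (hχ : IsIrrCharacter SL2 χ) (k : ℕ) (hk : 2 * k = Fintype.card Fˣ)
    (hdeg : χ 1 = (k : ℂ)) {T : Subgroup SL2} (hT : IsNSTorus T) :
    ∃ lam : T →* ℂˣ, (∃ c : T, lam c ≠ 1) ∧
      (∀ c : T, ((lam c : ℂˣ) : ℂ) = 1 ∨ ((lam c : ℂˣ) : ℂ) = -1) ∧
      ∀ c : T, NoEig ((c : SL2) : Matrix (Fin 2) (Fin 2) F) → χ c = -((lam c : ℂˣ) : ℂ) := by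
  classical
  have hF := card_F_eq (F := F)
  have hψ : IsIrrCharacter (N F) (fun n => χ (ι.symm n)) := isIrrCharacter_comp_equiv ι.symm hχ
  obtain ⟨ω, hω2, hω, hreal, hG1, hG2⟩ := half_cusp_data hodd hq hψ k hk
    (by simp only [map_one]; exact hdeg)
  have hcl := isClassFunction_of_isCharacter (IsIrrCharacter.isCharacter hχ)
  have hcl2 : IsClassFunction SL2 (fun g => χ g * conj (χ g)) := by
    intro g h
    simp only
    rw [hcl]
  have hk' : (Fintype.card Fˣ : ℂ) = 2 * (k : ℂ) := by
    rw [← hk]; push_cast; ring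
  have hF' : (Fintype.card F : ℂ) = 2 * (k : ℂ) + 1 := by
    rw [hF, ← hk]; push_cast; ring
  have hk0 : (k : ℂ) ≠ 0 := by
    have : k ≠ 0 := by omega
    exact_mod_cast this
  have hk1 : (2 * (k : ℂ) + 1) ≠ 0 := by
    have : 2 * k + 1 ≠ 0 := by omega
    exact_mod_cast this
  -- the sums on the torus
  have hS1 : ∑ c : T, (if NoEig ((c : SL2) : Matrix (Fin 2) (Fin 2) F)
      then χ c * conj (χ c) else 0) = 2 * (k : ℂ) := by
    have h := hT.sum_torus (fun g => χ g * conj (χ g)) hcl2 _ hG1
    rw [hk', hF'] at h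
    have h2 : (2 * (k : ℂ) * (2 * (k : ℂ) + 1)) ≠ 0 := mul_ne_zero (mul_ne_zero two_ne_zero hk0) hk1
    apply mul_left_cancel₀ h2
    rw [h]
    ring
  have hS2 : ∑ c : T, (if NoEig ((c : SL2) : Matrix (Fin 2) (Fin 2) F) then χ c else 0) = 1 + ω := by
    have h := hT.sum_torus χ hcl _ hG2
    rw [hk', hF'] at h
    have h2 : (2 * (k : ℂ) * (2 * (k : ℂ) + 1)) ≠ 0 := mul_ne_zero (mul_ne_zero two_ne_zero hk0) hk1
    apply mul_left_cancel₀ h2
    rw [h]
    ring
  -- the central involution
  set z : T := ⟨zS, hT.zS_mem hodd hq⟩ with hz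
  have hz1 : z ≠ 1 := by
    intro h
    have := congrArg Subtype.val h
    exact zS_ne_one hodd this
  have hz2 : z * z = 1 := by
    apply Subtype.ext
    exact zS_mul_self
  have hiff := hT.noEig_iff hodd hq
  have hcard : Nat.card T = 2 * (k + 1) := by rw [hT.card]; omega
  have hΨ : IsCharacter T (fun c : T => χ c) := isCharacter_restrict T (IsIrrCharacter.isCharacter hχ)
  have hΨz : χ (z : SL2) = ω * (k : ℂ) := by
    have h1 := hω 1
    simp only [mul_one, map_one] at h1
    rw [hdeg] at h1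
    rw [← h1]
    rfl
  have hS1' : ∑ a : T, (if a ≠ 1 ∧ a ≠ z then χ a * conj (χ a) else 0) = 2 * (k : ℂ) := by
    rw [← hS1]
    apply Finset.sum_congr rfl
    intro a _
    by_cases hE : NoEig ((a : SL2) : Matrix (Fin 2) (Fin 2) F)
    · rw [if_pos hE, if_pos ((hiff a).mp hE)]
    · rw [if_neg hE, if_neg (fun h => hE ((hiff a).mpr h))]
  obtain ⟨lam, hlamz, hlam⟩ := abel_sign hT.comm z hz1 hz2 k hcard (fun c : T => χ c) hΨ ω hω2
    (by simp only [OneMemClass.coe_one]; exact hdeg) hΨz hS1'
  have hval : ∀ c : T, NoEig ((c : SL2) : Matrix (Fin 2) (Fin 2) F) → χ c = -((lam c : ℂˣ) : ℂ) := by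
    intro c hE
    obtain ⟨h1, h2⟩ := (hiff c).mp hE
    exact hlam c h1 h2
  -- the values of `lam` are signs
  have hpm : ∀ c : T, ((lam c : ℂˣ) : ℂ) = 1 ∨ ((lam c : ℂˣ) : ℂ) = -1 := by
    intro c
    by_cases h1 : c = 1
    · left; rw [h1, map_one, Units.val_one]
    · by_cases h2 : c = z
      · rw [h2, hlamz]; exact hω2
      · have hE : NoEig ((c : SL2) : Matrix (Fin 2) (Fin 2) F) := (hiff c).mpr ⟨h1, h2⟩
        have hE' : NoEig (((c⁻¹ : T) : SL2) : Matrix (Fin 2) (Fin 2) F) := by
          apply (hiff c⁻¹).mpr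
          constructor
          · intro h
            apply h1
            rw [← inv_inv c, h, inv_one]
          · intro h
            apply h2
            rw [← inv_inv c, h]
            apply inv_eq_of_mul_eq_one_left hz2
        have e1 := hval c hE
        have e2 := hval c⁻¹ hE'
        have e3 : χ ((c⁻¹ : T) : SL2) = conj (χ c) := by
          have := Cfsg.Agent.Helper79.irr_inv ⟨χ, hχ⟩ (c : SL2)
          simpa using this
        have e4 : conj (χ c) = χ c := by
          have := hreal (ι (c : SL2)) (by rw [ι_coe, toGL_coe]; exact hE)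
          simpa using this
        have e5 : ((lam c⁻¹ : ℂˣ) : ℂ) = ((lam c : ℂˣ) : ℂ) := by
          rw [e3, e4, e1] at e2
          linear_combination e2
        have e6 : ((lam c : ℂˣ) : ℂ) * ((lam c : ℂˣ) : ℂ) = 1 := by
          nth_rewrite 2 [← e5]
          rw [← Units.val_mul, ← map_mul, mul_inv_cancel, map_one, Units.val_one]
        have e7 : (((lam c : ℂˣ) : ℂ) - 1) * (((lam c : ℂˣ) : ℂ) + 1) = 0 := by
          linear_combination e6
        rcases mul_eq_zero.mp e7 with h | h
        · left; linear_combination h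
        · right; linear_combination h
  refine ⟨lam, ?_, hpm, hval⟩
  -- `lam` is not trivial
  by_contra hall
  push Not at hall
  have hS2' : ∑ c : T, (if NoEig ((c : SL2) : Matrix (Fin 2) (Fin 2) F) then χ c else 0) =
      ∑ c : T, (if c ≠ 1 ∧ c ≠ z then (-1 : ℂ) else 0) := by
    apply Finset.sum_congr rfl
    intro c _
    by_cases hE : NoEig ((c : SL2) : Matrix (Fin 2) (Fin 2) F)
    · rw [if_pos hE, if_pos ((hiff c).mp hE), hval c hE, hall c, Units.val_one]
    · rw [if_neg hE, if_neg (fun h => hE ((hiff c).mpr h))]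
  have hcount : ∑ c : T, (if c ≠ 1 ∧ c ≠ z then (-1 : ℂ) else 0) = -(2 * (k : ℂ)) := by
    have e : ∀ c : T, (if c ≠ 1 ∧ c ≠ z then (-1 : ℂ) else 0) =
        -1 + (if c = 1 then 1 else 0) + (if c = z then 1 else 0) := by
      intro c
      by_cases h1 : c = 1
      · subst h1
        rw [if_neg (by simp), if_pos rfl, if_neg (Ne.symm hz1)]
        ring
      · by_cases h2 : c = z
        · subst h2
          rw [if_neg (by simp), if_neg h1, if_pos rfl]
          ring
        · rw [if_pos ⟨h1, h2⟩, if_neg h1, if_neg h2]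
          ring
    rw [Finset.sum_congr rfl (fun c _ => e c), Finset.sum_add_distrib, Finset.sum_add_distrib,
      Finset.sum_ite_eq', Finset.sum_ite_eq', if_pos (Finset.mem_univ _), if_pos (Finset.mem_univ _),
      Finset.sum_const, Finset.card_univ, ← Nat.card_eq_fintype_card, hcard]
    simp only [nsmul_eq_mul]
    push_cast
    ring
  rw [hS2', hcount] at hS2
  rcases hω2 with h | h
  · rw [h] at hS2
    have : ((2 * k + 2 : ℕ) : ℂ) = 0 := by push_cast; linear_combination -hS2
    have : 2 * k + 2 = 0 := by exact_mod_cast this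
    omega
  · rw [h] at hS2
    have : ((2 * k : ℕ) : ℂ) = 0 := by push_cast; linear_combination -hS2
    have : 2 * k = 0 := by exact_mod_cast this
    omega

end

/-- a sign character of a cyclic group of even order detects the squares -/
lemma sign_hom_cyclic {A : Type*} [Group A] [Finite A] [IsCyclic A] (m : ℕ) (hm : 0 < m)
    (hcard : Nat.card A = 2 * m) (lam : A →* ℂˣ) (hne : ∃ c : A, lam c ≠ 1)
    (hpm : ∀ c : A, ((lam c : ℂˣ) : ℂ) = 1 ∨ ((lam c : ℂˣ) : ℂ) = -1) (c : A) :
    ((lam c : ℂˣ) : ℂ) = 1 ↔ c ^ m = 1 := by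
  obtain ⟨x, hx⟩ := IsCyclic.exists_monoid_generator (α := A)
  have hx' : ∀ y : A, y ∈ Subgroup.zpowers x := by
    intro y
    obtain ⟨n, hn⟩ := hx y
    exact ⟨n, by simpa using hn⟩
  have hord : orderOf x = 2 * m := by
    rw [orderOf_eq_card_of_forall_mem_zpowers hx', hcard]
  have hlx : ((lam x : ℂˣ) : ℂ) = -1 := by
    rcases hpm x with h | h
    · exfalso
      obtain ⟨c₀, hc₀⟩ := hne
      apply hc₀
      obtain ⟨n, hn⟩ := hx c₀
      simp only at hn
      rw [← hn, map_pow]
      have : lam x = 1 := Units.ext h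
      rw [this, one_pow]
    · exact h
  obtain ⟨j, hj⟩ := hx c
  simp only at hj
  have hpw : (x ^ j) ^ m = 1 ↔ 2 * m ∣ j * m := by
    rw [← pow_mul, ← hord, orderOf_dvd_iff_pow_eq_one]
  rw [← hj, map_pow, Units.val_pow_eq_pow_val, hlx, hpw]
  constructor
  · intro h
    have hev : Even j := by
      by_contra hodd
      rw [Nat.not_even_iff_odd] at hodd
      rw [hodd.neg_one_pow] at h
      norm_num at h
    obtain ⟨r, hr⟩ := hev
    rw [hr]
    exact ⟨r, by ring⟩
  · rintro ⟨r, hr⟩
    have : j = 2 * r := by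
      have h1 : j * m = (2 * r) * m := by rw [hr]; ring
      exact Nat.eq_of_mul_eq_mul_right hm h1
    rw [this, pow_mul]
    norm_num

/-- Let F be a finite field with q elements, q odd and q ≥ 5, and χ an irreducible complex character of SL₂ over F. If χ has degree (q + 1)/2, then at a diagonal element with entry a, a² ≠ 1, χ takes the value 1 when a is a square in F and −1 otherwise. If χ has degree (q − 1)/2, then at an element g with no eigenvector in F² (so g has order dividing q + 1), χ takes the value −1 when g raised to the power (q + 1)/2 is the identity and the value 1 otherwise. -/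
theorem result {F : Type*} [Field F] [Fintype F] (hodd : Odd (Fintype.card F)) (hq : 5 ≤ Fintype.card F)
    (χ : Matrix.SpecialLinearGroup (Fin 2) F → ℂ) (hχ : Cfsg.IsIrrCharacter (Matrix.SpecialLinearGroup (Fin 2) F) χ) (g : Matrix.SpecialLinearGroup (Fin 2) F) :
    (χ 1 = (((Fintype.card F + 1) / 2 : ℕ) : ℂ) → (g : Matrix (Fin 2) (Fin 2) F) 0 1 = 0 → (g : Matrix (Fin 2) (Fin 2) F) 1 0 = 0 → (g : Matrix (Fin 2) (Fin 2) F) 0 0 ^ 2 ≠ 1 →
      (IsSquare ((g : Matrix (Fin 2) (Fin 2) F) 0 0) → χ g = 1) ∧ (¬ IsSquare ((g : Matrix (Fin 2) (Fin 2) F) 0 0) → χ g = -1)) ∧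
    (χ 1 = (((Fintype.card F - 1) / 2 : ℕ) : ℂ) → (∀ (c : F) (v : Fin 2 → F), v ≠ 0 → (g : Matrix (Fin 2) (Fin 2) F).mulVec v ≠ c • v) →
      (((g ^ ((Fintype.card F + 1) / 2)) : Matrix (Fin 2) (Fin 2) F) = 1 → χ g = -1) ∧ (((g ^ ((Fintype.card F + 1) / 2)) : Matrix (Fin 2) (Fin 2) F) ≠ 1 → χ g = 1)) := by
  classical
  have : Fintype (N F) := Fintype.ofFinite _
  have hF := card_F_eq (F := F)
  obtain ⟨m, hm⟩ := hodd
  have hodd : Odd (Fintype.card F) := ⟨m, hm⟩
  have hψ : IsIrrCharacter (N F) (fun n => χ (ι.symm n)) := isIrrCharacter_comp_equiv ι.symm hχ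
  constructor
  · intro hdeg h01 h10 ha2
    have hdet : (g : Matrix (Fin 2) (Fin 2) F) 0 0 * (g : Matrix (Fin 2) (Fin 2) F) 1 1 = 1 := by
      have := g.det_coe
      rw [Matrix.det_fin_two, h01, zero_mul, sub_zero] at this
      exact this
    set a : Fˣ := Units.mkOfMulEqOne _ _ hdet with ha
    have ha0 : (a : F) = (g : Matrix (Fin 2) (Fin 2) F) 0 0 := rfl
    have ha1 : ((a⁻¹ : Fˣ) : F) = (g : Matrix (Fin 2) (Fin 2) F) 1 1 := rfl
    have hne : a ≠ a⁻¹ := by
      intro h
      apply ha2
      have h1 : a * a = 1 := by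
        nth_rewrite 2 [h]
        exact mul_inv_cancel a
      have h2 := congrArg Units.val h1
      rw [Units.val_mul, Units.val_one, ha0] at h2
      rw [pow_two, h2]
    have hn : ((ι g : N F) : GL (Fin 2) F) = dg a a⁻¹ := by
      rw [ι_coe]
      apply Matrix.GeneralLinearGroup.ext
      intro i j
      rw [toGL_coe, dg_coe]
      fin_cases i <;> fin_cases j
      · exact ha0.symm
      · simpa using h01
      · simpa using h10
      · exact ha1.symm
    have hval := half_split_value hodd hq hψ ((Fintype.card F + 1) / 2) (by omega)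
      (by simp only [map_one]; exact hdeg) a hne (ι g) hn
    simp only [MulEquiv.symm_apply_apply] at hval
    rw [qc_apply, ha0] at hval
    have ha00 : (g : Matrix (Fin 2) (Fin 2) F) 0 0 ≠ 0 := by
      rw [← ha0]; exact a.ne_zero
    constructor
    · intro hsq
      rw [hval, (quadraticChar_one_iff_isSquare ha00).mpr hsq]
      simp
    · intro hsq
      rw [hval, quadraticChar_neg_one_iff_not_isSquare.mpr hsq]
      simp
  · intro hdeg hE
    obtain ⟨T, hT⟩ := exists_nsTorus hodd
    obtain ⟨lam, hne, hpm, hval⟩ := half_torus hodd hq hχ ((Fintype.card F - 1) / 2) (by omega)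
      hdeg hT
    obtain ⟨h, hh⟩ := hT.into g hE
    have hEc : NoEig ((h * g * h⁻¹ : Matrix.SpecialLinearGroup (Fin 2) F) : Matrix (Fin 2) (Fin 2) F) :=
      (noEig_conj_SL h g).mpr hE
    have hcl := isClassFunction_of_isCharacter (IsIrrCharacter.isCharacter hχ)
    have hχc : χ (h * g * h⁻¹) = χ g := hcl g h
    have hv := hval ⟨_, hh⟩ hEc
    simp only at hv
    rw [hχc] at hv
    have := hT.cyc
    have hiff := sign_hom_cyclic ((Fintype.card F + 1) / 2) (by omega)
      (by rw [hT.card]; omega) lam hne hpm ⟨_, hh⟩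
    have hpow : (⟨h * g * h⁻¹, hh⟩ : T) ^ ((Fintype.card F + 1) / 2) = 1 ↔
        (g : Matrix (Fin 2) (Fin 2) F) ^ ((Fintype.card F + 1) / 2) = 1 := by
      rw [← Matrix.SpecialLinearGroup.coe_pow]
      constructor
      · intro h1
        have h2 := congrArg Subtype.val h1
        simp only [SubmonoidClass.coe_pow, OneMemClass.coe_one] at h2
        rw [conj_pow] at h2
        have h3 : g ^ ((Fintype.card F + 1) / 2) = 1 := by
          have := congrArg (fun y => h⁻¹ * y * h) h2
          simpa [mul_assoc] using this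
        rw [h3]; rfl
      · intro h1
        have h3 : g ^ ((Fintype.card F + 1) / 2) = 1 := Subtype.ext h1
        apply Subtype.ext
        simp only [SubmonoidClass.coe_pow, OneMemClass.coe_one]
        rw [conj_pow, h3]
        group
    constructor
    · intro h1
      rw [hv, (hiff.mpr (hpow.mpr h1))]
    · intro h1
      rcases hpm ⟨_, hh⟩ with h2 | h2
      · exact absurd (hpow.mp (hiff.mp h2)) h1
      · rw [hv, h2]; ring

end Cfsg.Agent.S2435
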