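import Cfsg.Statements.S2436
import Cfsg.Agent.Lib.Helper40.McKaySL2
import Cfsg.Agent.Lib.Helper40.McKayLHS

set_option autoImplicit false
open Cfsg

namespace Cfsg.Agent.S2436

open Cfsg.Agent.Helper40 Cfsg.Agent.Helper40.McKay

theorem consec (ℓ a : ℕ) (hℓ : ℓ.Prime) (h1 : ℓ ∣ a) (h2 : ℓ ∣ a + 1) : False := by
  have := (Nat.dvd_add_right h1).mp h2
  exact hℓ.one_lt.ne' (Nat.dvd_one.mp this)

theorem consec2 (ℓ a : ℕ) (hℓ : ℓ.Prime) (hℓ2 : ℓ ≠ 2) (h1 : ℓ ∣ a) (h2 : ℓ ∣ a + 2) : False := by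
  have := (Nat.dvd_add_right h1).mp h2
  exact hℓ2 ((Nat.prime_dvd_prime_iff_eq hℓ Nat.prime_two).mp this)

theorem dvd_half (ℓ a : ℕ) (hℓ : ℓ.Prime) (hℓ2 : ℓ ≠ 2) (h : ℓ ∣ 2 * a) : ℓ ∣ a := by
  rcases (Nat.Prime.dvd_mul hℓ).mp h with h | h
  · exact absurd ((Nat.prime_dvd_prime_iff_eq hℓ Nat.prime_two).mp h) hℓ2
  · exact h

/-- Let F be a finite field with q elements, q odd, ℓ any prime and S a Sylow ℓ-subgroup of SL₂ over F with normaliser N. Then SL₂ and N have the same number of irreducible complex characters of degree not divisible by ℓ (the McKay equality holds for SL₂ over F at every prime). -/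
theorem result {F : Type*} [Field F] [Fintype F] (hodd : Odd (Fintype.card F)) (ℓ : ℕ) [Fact ℓ.Prime] (S : Sylow ℓ (Matrix.SpecialLinearGroup (Fin 2) F)) :
    Nat.card {χ : Cfsg.IrrCharacter (Matrix.SpecialLinearGroup (Fin 2) F) // ¬ ℓ ∣ Cfsg.charDegree (χ : Matrix.SpecialLinearGroup (Fin 2) F → ℂ)} =
      Nat.card {ψ : Cfsg.IrrCharacter (Subgroup.normalizer ((S : Subgroup (Matrix.SpecialLinearGroup (Fin 2) F)) : Set (Matrix.SpecialLinearGroup (Fin 2) F))) //
        ¬ ℓ ∣ Cfsg.charDegree (ψ : Subgroup.normalizer ((S : Subgroup (Matrix.SpecialLinearGroup (Fin 2) F)) : Set (Matrix.SpecialLinearGroup (Fin 2) F)) → ℂ)} := by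
  classical
  have hodd0 := hodd
  obtain ⟨m, hm⟩ := hodd
  have hℓ : ℓ.Prime := Fact.out
  have hq1 : 1 < Fintype.card F := Fintype.one_lt_card
  have hm0 : 0 < m := by omega
  have hL := card_lprime_SL2 hodd0 m hm ℓ
  have hn1 : ¬ ℓ ∣ 1 := fun h => hℓ.one_lt.ne' (Nat.dvd_one.mp h)
  by_cases h2 : ℓ = 2
  · subst h2
    rw [rhs_two hodd0 S, hL]
    have a1 : ¬ 2 ∣ 2 * m + 1 := by omega
    have a2 : 2 ∣ 2 * m + 2 := by omega
    have a3 : 2 ∣ 2 * m := by omega
    rw [if_neg hn1, if_neg a1, if_pos a2, if_pos a3]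
    rcases Nat.even_or_odd m with he | ho
    · have b1 : 2 ∣ m := he.two_dvd
      have b2 : ¬ 2 ∣ m + 1 := by omega
      rw [if_pos b1, if_neg b2]
    · have b1 : ¬ 2 ∣ m := by
        obtain ⟨r, hr⟩ := ho
        omega
      have b2 : 2 ∣ m + 1 := by
        obtain ⟨r, hr⟩ := ho
        omega
      rw [if_neg b1, if_pos b2]
  · by_cases hq : ℓ ∣ Fintype.card F
    · -- the defining characteristic
      have hcp : CharP F (ringChar F) := ringChar.charP F
      have hpp : (ringChar F).Prime := CharP.char_is_prime F (ringChar F)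
      obtain ⟨e, _, he⟩ := FiniteField.card F (ringChar F)
      have hℓp : ℓ = ringChar F := by
        rw [he] at hq
        exact (Nat.prime_dvd_prime_iff_eq hℓ hpp).mp (hℓ.dvd_of_dvd_pow hq)
      subst hℓp
      rw [rhs_char hodd0 (ringChar F) S, hL]
      rw [hm] at hq
      have a2 : ¬ ringChar F ∣ m + 1 := by
        intro h
        have : ringChar F ∣ 2 * m + 1 + 1 := by
          have e2 : 2 * m + 1 + 1 = 2 * (m + 1) := by ring
          rw [e2]; exact dvd_mul_of_dvd_right h 2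
        exact consec _ _ hℓ hq this
      have a3 : ¬ ringChar F ∣ 2 * m + 2 := fun h => consec _ _ hℓ hq h
      have a4 : ¬ ringChar F ∣ m := by
        intro h
        exact consec _ _ hℓ (dvd_mul_of_dvd_right h 2) hq
      have a5 : ¬ ringChar F ∣ 2 * m := fun h => consec _ _ hℓ h hq
      rw [if_neg hn1, if_pos hq, if_neg a2, if_neg a3, if_neg a4, if_neg a5]
      omega
    · by_cases h1 : ℓ ∣ Fintype.card F - 1
      · rw [rhs_split hodd0 ℓ h2 S h1, hL]
        have e1 : Fintype.card F - 1 = 2 * m := by omega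
        rw [e1] at h1
        have b4 : ℓ ∣ m := dvd_half ℓ m hℓ h2 h1
        have a1 : ¬ ℓ ∣ 2 * m + 1 := fun h => consec _ _ hℓ h1 h
        have a2 : ¬ ℓ ∣ m + 1 := fun h => consec _ _ hℓ b4 h
        have a3 : ¬ ℓ ∣ 2 * m + 2 := fun h => consec2 _ _ hℓ h2 h1 h
        rw [if_neg hn1, if_neg a1, if_neg a2, if_neg a3, if_pos b4, if_pos h1]
        omega
      · by_cases h3 : ℓ ∣ Fintype.card F + 1
        · rw [rhs_nonsplit hodd0 ℓ h2 S h3, hL]
          have e1 : Fintype.card F + 1 = 2 * (m + 1) := by omega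
          rw [e1] at h3
          have b2 : ℓ ∣ m + 1 := dvd_half ℓ (m + 1) hℓ h2 h3
          have b3 : ℓ ∣ 2 * m + 2 := by
            have e2 : 2 * m + 2 = 2 * (m + 1) := by ring
            rw [e2]; exact h3
          have a1 : ¬ ℓ ∣ 2 * m + 1 := fun h => consec _ _ hℓ h b3
          have a4 : ¬ ℓ ∣ m := fun h => consec _ _ hℓ h b2
          have a5 : ¬ ℓ ∣ 2 * m := fun h => consec2 _ _ hℓ h2 h b3
          rw [if_neg hn1, if_neg a1, if_pos b2, if_pos b3, if_neg a4, if_neg a5]
          omega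
        · -- the Sylow subgroup is trivial
          have hnd : ¬ ℓ ∣ Nat.card (Matrix.SpecialLinearGroup (Fin 2) F) := by
            rw [card_SL2]
            intro h
            rcases (Nat.Prime.dvd_mul hℓ).mp h with h | h
            · rcases (Nat.Prime.dvd_mul hℓ).mp h with h | h
              · exact hq h
              · exact h1 h
            · exact h3 h
          have hcard : Nat.card (S : Subgroup (Matrix.SpecialLinearGroup (Fin 2) F)) = 1 := by
            rw [Sylow.card_eq_multiplicity, Nat.factorization_eq_zero_of_not_dvd hnd, pow_zero]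
          have hbot : (S : Subgroup (Matrix.SpecialLinearGroup (Fin 2) F)) = ⊥ :=
            Subgroup.eq_bot_of_card_eq _ hcard
          have hnorm : (S : Subgroup (Matrix.SpecialLinearGroup (Fin 2) F)).Normal := by
            rw [hbot]; infer_instance
          rw [Subgroup.normalizer_eq_top_iff.mpr hnorm]
          exact (card_lprime_congr Subgroup.topEquiv ℓ).symm

end Cfsg.Agent.S2436
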