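import Cfsg.Statements.S2438
import Mathlib
import Cfsg.Agent.S2324

set_option autoImplicit false
set_option linter.unusedSectionVars false
open Cfsg

namespace Cfsg.Agent.S2438

open Matrix Cfsg.Agent.Helper38 Cfsg.Agent.Helper81
open Cfsg.Agent.Helper3 (fintypeIrr)
open Cfsg.Agent.S2305 (dg e dg00 dg01 dg10 dg11)
open Cfsg.Agent.S2322 (fam_of_deg)

section

variable {F : Type*} [Field F] [Fintype F] [DecidableEq F] [Fintype (N F)]

/-- the upper unitriangular elements of `SL₂` -/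
def uS (c : F) : Matrix.SpecialLinearGroup (Fin 2) F :=
  ⟨!![1, c; 0, 1], by simp [Matrix.det_fin_two]⟩

/-- the upper unitriangular elements of `ker det` -/
noncomputable def uNc (c : F) : N F := ⟨un c, by
  rw [MonoidHom.mem_ker]
  apply Units.ext
  rw [det_coe, un_coe]
  simp⟩

lemma ι_uS (c : F) : (ι (uS c) : N F) = uNc c := by
  apply Subtype.ext
  rw [ι_coe]
  apply Matrix.GeneralLinearGroup.ext
  intro i j
  rw [Matrix.SpecialLinearGroup.coe_GL_coe_matrix]
  change _ = ((un c : GL (Fin 2) F) : Matrix (Fin 2) (Fin 2) F) i j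
  rw [un_coe]
  rfl

lemma uNc_zero : (uNc 0 : N F) = 1 := by
  apply Subtype.ext
  exact un_zero

/-- the sum over the unitriangular subgroup as a sum over the field -/
lemma sum_U_eq (χ : Matrix.SpecialLinearGroup (Fin 2) F → ℂ) :
    (∑ g : Matrix.SpecialLinearGroup (Fin 2) F, if (g : Matrix (Fin 2) (Fin 2) F) 1 0 = 0 ∧
      (g : Matrix (Fin 2) (Fin 2) F) 0 0 = 1 ∧ (g : Matrix (Fin 2) (Fin 2) F) 1 1 = 1 then χ g else 0) =
      ∑ c : F, χ (uS c) := by
  rw [← Finset.sum_filter]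
  symm
  apply Finset.sum_bij (fun c _ => uS c)
  · intro c _
    rw [Finset.mem_filter]
    refine ⟨Finset.mem_univ _, ?_, ?_, ?_⟩ <;> simp [uS]
  · intro c _ c' _ h
    have := congrArg (fun g : Matrix.SpecialLinearGroup (Fin 2) F => (g : Matrix (Fin 2) (Fin 2) F) 0 1) h
    simpa [uS] using this
  · intro g hg
    obtain ⟨-, h10, h00, h11⟩ := Finset.mem_filter.mp hg
    refine ⟨(g : Matrix (Fin 2) (Fin 2) F) 0 1, Finset.mem_univ _, ?_⟩
    apply Subtype.ext
    ext i j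
    fin_cases i <;> fin_cases j <;> simp [uS, h10, h00, h11]
  · intro c _
    rfl

/-- the sum of a character of `ker det` over the unitriangular subgroup -/
theorem sum_U_N (hodd : Odd (Fintype.card F)) {ψ : N F → ℂ} (hψ : IsIrrCharacter (N F) ψ) :
    ∃ X : GL (Fin 2) F → ℂ, ∃ _ : IsIrrCharacter (GL (Fin 2) F) X, ∃ m : ℕ, (m = 1 ∨ m = 2) ∧
      X 1 = (m : ℂ) * ψ 1 ∧
      (m : ℂ) * ∑ c : F, ψ (uNc c) = X 1 + ((Fintype.card F : ℂ) - 1) * X (un 1) := by
  classical
  obtain ⟨X, hX, hcase⟩ := over_cases hψ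
  have hXc : IsClassFunction (GL (Fin 2) F) X :=
    isClassFunction_of_isCharacter (IsIrrCharacter.isCharacter hX)
  refine ⟨X, hX, ?_⟩
  have hsplit : ∀ f : F → ℂ, ∑ c : F, f c = f 0 + ∑ c ∈ Finset.univ.erase (0 : F), f c :=
    fun f => (Finset.add_sum_erase Finset.univ f (Finset.mem_univ (0 : F))).symm
  have hcard : ((Finset.univ.erase (0 : F)).card : ℂ) = (Fintype.card F : ℂ) - 1 := by
    rw [Finset.card_erase_of_mem (Finset.mem_univ _), Finset.card_univ]
    have : 1 ≤ Fintype.card F := Fintype.card_pos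
    push_cast [Nat.cast_sub this]
    ring
  rcases hcase with hres | ⟨-, ε, hε, hs, ψ', hψ', hneψ, hsum, t, ht⟩
  · refine ⟨1, Or.inl rfl, ?_, ?_⟩
    · have := congrFun hres 1
      simp only [OneMemClass.coe_one] at this
      rw [this]; simp
    · have hv : ∀ c : F, ψ (uNc c) = X (un c) := by
        intro c
        have := congrFun hres (uNc c)
        exact this.symm
      simp_rw [hv]
      rw [hsplit, un_zero, Finset.sum_congr rfl (fun c hc => classFun_un hXc c (Finset.ne_of_mem_erase hc)),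
        Finset.sum_const, nsmul_eq_mul, hcard]
      ring
  · have hc := isClassFunction_of_isCharacter (IsIrrCharacter.isCharacter hψ)
    have hc' := isClassFunction_of_isCharacter (IsIrrCharacter.isCharacter hψ')
    have hψ1 : ψ' 1 = ψ 1 := by
      rw [ht, conjFun_comm' ψ t 1 (by simp)]
    have hX1 : X 1 = 2 * ψ 1 := by
      have := congrFun hsum 1
      simp only [OneMemClass.coe_one, Pi.add_apply] at this
      rw [this, hψ1]
      ring
    have hXu : X (un 1) = ψ uN + ψ' uN := by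
      have := congrFun hsum uN
      simp only [Pi.add_apply] at this
      exact this
    refine ⟨2, Or.inr rfl, by rw [hX1]; norm_num, ?_⟩
    have hv : ∀ c : F, c ≠ 0 → ψ (uNc c) =
        (ψ uN + ψ' uN) / 2 + ε c * ((ψ uN - ψ' uN) / 2) := by
      intro c hc0
      have e1 : ψ (uNc c) = conjFun (N F) normal_N ψ (dg (Units.mk0 c hc0) 1) uN := by
        rw [conjFun_apply]
        congr 1
        apply Subtype.ext
        exact un_conj c hc0
      have hlin : lin ε (dg (Units.mk0 c hc0) 1) = ε c := by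
        rw [lin_dg]; simp
      rcases quad_cases hε (Units.mk0 c hc0) with h | h
      · rw [Units.val_mk0] at h
        rw [e1, conjFun_of_lin_one hodd hε hc _ (hlin.trans h), h]
        ring
      · rw [Units.val_mk0] at h
        rw [e1, (conj_swap hodd hε hc hc' hneψ t ht _ (hlin.trans h)).1, h]
        ring
    have hε0 : ε (0 : F) = 0 := MulChar.map_zero ε
    have hεsum : ∑ c ∈ Finset.univ.erase (0 : F), ε c = 0 := by
      have h1 := MulChar.sum_eq_zero_of_ne_one hε.ne_one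
      rw [hsplit, hε0, zero_add] at h1
      exact h1
    rw [hsplit, uNc_zero, Finset.sum_congr rfl (fun c hc => hv c (Finset.ne_of_mem_erase hc)),
      Finset.sum_add_distrib, Finset.sum_const, nsmul_eq_mul, hcard, ← Finset.sum_mul, hεsum,
      hX1, hXu]
    push_cast
    ring

end

/-- Let F be a finite field with q elements, q odd, q ≥ 5, U the upper unitriangular subgroup of SL₂ over F, and χ an irreducible complex character. The sum of the values of χ over U equals 2q, q, 0, q, 0 according as the degree of χ is q + 1, q, q − 1, (q + 1)/2, (q − 1)/2; so among these five degrees the sum vanishes exactly for the degrees q − 1 and (q − 1)/2, i.e. the irreducible characters of those two degrees are the ones whose restriction to U does not contain the trivial character (the cuspidal characters), while those of degree q + 1, q and (q + 1)/2 are not cuspidal. -/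
theorem result {F : Type*} [Field F] [Fintype F] [DecidableEq F] (hodd : Odd (Fintype.card F)) (hq : 5 ≤ Fintype.card F)
    (χ : Matrix.SpecialLinearGroup (Fin 2) F → ℂ) (hχ : Cfsg.IsIrrCharacter (Matrix.SpecialLinearGroup (Fin 2) F) χ) :
    (χ 1 = (Fintype.card F : ℂ) + 1 →
      (∑ g : Matrix.SpecialLinearGroup (Fin 2) F, if (g : Matrix (Fin 2) (Fin 2) F) 1 0 = 0 ∧ (g : Matrix (Fin 2) (Fin 2) F) 0 0 = 1 ∧ (g : Matrix (Fin 2) (Fin 2) F) 1 1 = 1 then χ g else 0) = 2 * (Fintype.card F : ℂ)) ∧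
    (χ 1 = (Fintype.card F : ℂ) →
      (∑ g : Matrix.SpecialLinearGroup (Fin 2) F, if (g : Matrix (Fin 2) (Fin 2) F) 1 0 = 0 ∧ (g : Matrix (Fin 2) (Fin 2) F) 0 0 = 1 ∧ (g : Matrix (Fin 2) (Fin 2) F) 1 1 = 1 then χ g else 0) = (Fintype.card F : ℂ)) ∧
    (χ 1 = (Fintype.card F : ℂ) - 1 →
      (∑ g : Matrix.SpecialLinearGroup (Fin 2) F, if (g : Matrix (Fin 2) (Fin 2) F) 1 0 = 0 ∧ (g : Matrix (Fin 2) (Fin 2) F) 0 0 = 1 ∧ (g : Matrix (Fin 2) (Fin 2) F) 1 1 = 1 then χ g else 0) = 0) ∧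
    (χ 1 = (((Fintype.card F + 1) / 2 : ℕ) : ℂ) →
      (∑ g : Matrix.SpecialLinearGroup (Fin 2) F, if (g : Matrix (Fin 2) (Fin 2) F) 1 0 = 0 ∧ (g : Matrix (Fin 2) (Fin 2) F) 0 0 = 1 ∧ (g : Matrix (Fin 2) (Fin 2) F) 1 1 = 1 then χ g else 0) = (Fintype.card F : ℂ)) ∧
    (χ 1 = (((Fintype.card F - 1) / 2 : ℕ) : ℂ) →
      (∑ g : Matrix.SpecialLinearGroup (Fin 2) F, if (g : Matrix (Fin 2) (Fin 2) F) 1 0 = 0 ∧ (g : Matrix (Fin 2) (Fin 2) F) 0 0 = 1 ∧ (g : Matrix (Fin 2) (Fin 2) F) 1 1 = 1 then χ g else 0) = 0) := by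
  have : Fintype (N F) := Fintype.ofFinite _
  have hF := card_F_eq (F := F)
  have hn : 4 ≤ Fintype.card Fˣ := by omega
  obtain ⟨m, hm⟩ := hodd
  have hodd : Odd (Fintype.card F) := ⟨m, hm⟩
  obtain ⟨ψ, hψ, hχ'⟩ : ∃ ψ : N F → ℂ, IsIrrCharacter (N F) ψ ∧ ∀ s, χ s = ψ (ι s) :=
    ⟨_, isIrrCharacter_comp_equiv ι.symm hχ, fun s => by simp⟩
  have e : ∑ c : F, χ (uS c) = ∑ c : F, ψ (uNc c) :=
    Finset.sum_congr rfl (fun c _ => by rw [hχ' (uS c), ι_uS])
  rw [sum_U_eq, e, hχ' 1, map_one]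
  obtain ⟨X, hX, k, hk, hX1, hsum⟩ := sum_U_N hodd hψ
  obtain ⟨d, -, hd⟩ := irr_one_pos hψ
  have hc := Cfsg.Agent.S2310.un_cases (⟨X, hX⟩ : IrrCharacter (GL (Fin 2) F))
  simp only at hc
  have hXd : X 1 = ((k * d : ℕ) : ℂ) := by rw [hX1, hd]; push_cast; ring
  have hdeg := Cfsg.Agent.S2323.deg_of_eq hX _ hXd
  have hk0 : (k : ℂ) ≠ 0 := by
    rcases hk with rfl | rfl <;> norm_num
  -- a general finishing step
  have fin : ∀ (v s : ℂ), X (un 1) = v → (k : ℂ) * s = (k : ℂ) * (d : ℂ) + ((Fintype.card F : ℂ) - 1) * v →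
      ∑ c : F, ψ (uNc c) = s := by
    intro v s hv hs
    rw [hv, hX1, hd, ← hs] at hsum
    exact mul_left_cancel₀ hk0 hsum
  refine ⟨?_, ?_, ?_, ?_, ?_⟩
  · intro h1
    rw [hd] at h1
    have hd' : d = Fintype.card Fˣ + 2 := by
      have : (d : ℂ) = ((Fintype.card Fˣ + 2 : ℕ) : ℂ) := by rw [h1, hF]; push_cast; ring
      exact_mod_cast this
    rcases hk with rfl | rfl
    · rcases hc with ⟨h3, h4⟩ | ⟨h3, h4⟩ | ⟨h3, h4⟩ | ⟨h3, h4⟩
      · omega
      · omega
      · apply fin 1 _ h4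
        rw [hd', hF]; push_cast; ring
      · omega
    · rcases hc with ⟨h3, h4⟩ | ⟨h3, h4⟩ | ⟨h3, h4⟩ | ⟨h3, h4⟩ <;> omega
  · intro h1
    rw [hd] at h1
    have hd' : d = Fintype.card Fˣ + 1 := by
      have : (d : ℂ) = ((Fintype.card Fˣ + 1 : ℕ) : ℂ) := by rw [h1, hF]
      exact_mod_cast this
    rcases hk with rfl | rfl
    · rcases hc with ⟨h3, h4⟩ | ⟨h3, h4⟩ | ⟨h3, h4⟩ | ⟨h3, h4⟩
      · omega
      · apply fin 0 _ h4
        rw [hd', hF]; push_cast; ring
      · omega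
      · omega
    · rcases hc with ⟨h3, h4⟩ | ⟨h3, h4⟩ | ⟨h3, h4⟩ | ⟨h3, h4⟩ <;> omega
  · intro h1
    rw [hd] at h1
    have hd' : d = Fintype.card Fˣ := by
      have : (d : ℂ) = ((Fintype.card Fˣ : ℕ) : ℂ) := by rw [h1, hF]; push_cast; ring
      exact_mod_cast this
    rcases hk with rfl | rfl
    · rcases hc with ⟨h3, h4⟩ | ⟨h3, h4⟩ | ⟨h3, h4⟩ | ⟨h3, h4⟩
      · omega
      · omega
      · omega
      · apply fin (-1) _ h4
        rw [hd', hF]; push_cast; ring
    · rcases hc with ⟨h3, h4⟩ | ⟨h3, h4⟩ | ⟨h3, h4⟩ | ⟨h3, h4⟩ <;> omega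
  · intro h1
    rw [hd] at h1
    have hd' : d = (Fintype.card F + 1) / 2 := by exact_mod_cast h1
    have hd2 : 2 * d = Fintype.card Fˣ + 2 := by omega
    rcases hk with rfl | rfl
    · rcases hc with ⟨h3, h4⟩ | ⟨h3, h4⟩ | ⟨h3, h4⟩ | ⟨h3, h4⟩ <;> omega
    · rcases hc with ⟨h3, h4⟩ | ⟨h3, h4⟩ | ⟨h3, h4⟩ | ⟨h3, h4⟩
      · omega
      · omega
      · apply fin 1 _ h4
        have : (2 : ℂ) * (d : ℂ) = (Fintype.card Fˣ : ℂ) + 2 := by exact_mod_cast hd2
        rw [hF]; push_cast; linear_combination (-1 : ℂ) * this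
      · omega
  · intro h1
    rw [hd] at h1
    have hd' : d = (Fintype.card F - 1) / 2 := by exact_mod_cast h1
    have hd2 : 2 * d = Fintype.card Fˣ := by omega
    rcases hk with rfl | rfl
    · rcases hc with ⟨h3, h4⟩ | ⟨h3, h4⟩ | ⟨h3, h4⟩ | ⟨h3, h4⟩ <;> omega
    · rcases hc with ⟨h3, h4⟩ | ⟨h3, h4⟩ | ⟨h3, h4⟩ | ⟨h3, h4⟩
      · omega
      · omega
      · omega
      · apply fin (-1) _ h4
        have : (2 : ℂ) * (d : ℂ) = (Fintype.card Fˣ : ℂ) := by exact_mod_cast hd2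
        rw [hF]; push_cast; linear_combination (-1 : ℂ) * this

end Cfsg.Agent.S2438
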