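import Cfsg.Statements.S2439
import Mathlib
import Cfsg.Agent.Lib.Helper38.SL2Blocks

set_option autoImplicit false
set_option linter.unusedSectionVars false
open Cfsg

namespace Cfsg.Agent.S2439

open Matrix Cfsg.Agent.Helper38 Cfsg.Agent.Helper81 Cfsg.Agent.Helper77

/-- Let F be a finite field with q elements of odd characteristic p, and M a maximal ideal of the algebraic integers containing p. Then SL₂ over F has exactly three p-blocks relative to M: the irreducible character of degree q (the Steinberg character) alone; the other irreducible characters taking the same value at −1 as at 1 (the principal block); and the irreducible characters χ with χ(−1) = −χ(1). Every Sylow p-subgroup is a defect group of each of the last two blocks. -/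
theorem result {F : Type*} [Field F] [Fintype F] (p : ℕ) [Fact p.Prime] [CharP F p] (hp : p ≠ 2)
    (M : Ideal Cfsg.AlgInt) (hM : Cfsg.IsPModular p M) :
    (∀ B : Set (Cfsg.IrrCharacter (Matrix.SpecialLinearGroup (Fin 2) F)), Cfsg.IsPBlock M B ↔
      (B = {χ : Cfsg.IrrCharacter (Matrix.SpecialLinearGroup (Fin 2) F) | (χ : Matrix.SpecialLinearGroup (Fin 2) F → ℂ) 1 = (Fintype.card F : ℂ)} ∨
       B = {χ : Cfsg.IrrCharacter (Matrix.SpecialLinearGroup (Fin 2) F) | (χ : Matrix.SpecialLinearGroup (Fin 2) F → ℂ) (-1) = (χ : Matrix.SpecialLinearGroup (Fin 2) F → ℂ) 1 ∧ (χ : Matrix.SpecialLinearGroup (Fin 2) F → ℂ) 1 ≠ (Fintype.card F : ℂ)} ∨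
       B = {χ : Cfsg.IrrCharacter (Matrix.SpecialLinearGroup (Fin 2) F) | (χ : Matrix.SpecialLinearGroup (Fin 2) F → ℂ) (-1) = -(χ : Matrix.SpecialLinearGroup (Fin 2) F → ℂ) 1})) ∧
    Nat.card {B : Set (Cfsg.IrrCharacter (Matrix.SpecialLinearGroup (Fin 2) F)) // Cfsg.IsPBlock M B} = 3 ∧
    ∀ P : Sylow p (Matrix.SpecialLinearGroup (Fin 2) F),
      Cfsg.IsDefectGroup p M {χ : Cfsg.IrrCharacter (Matrix.SpecialLinearGroup (Fin 2) F) | (χ : Matrix.SpecialLinearGroup (Fin 2) F → ℂ) (-1) = (χ : Matrix.SpecialLinearGroup (Fin 2) F → ℂ) 1 ∧ (χ : Matrix.SpecialLinearGroup (Fin 2) F → ℂ) 1 ≠ (Fintype.card F : ℂ)} (P : Subgroup (Matrix.SpecialLinearGroup (Fin 2) F)) ∧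
      Cfsg.IsDefectGroup p M {χ : Cfsg.IrrCharacter (Matrix.SpecialLinearGroup (Fin 2) F) | (χ : Matrix.SpecialLinearGroup (Fin 2) F → ℂ) (-1) = -(χ : Matrix.SpecialLinearGroup (Fin 2) F → ℂ) 1} (P : Subgroup (Matrix.SpecialLinearGroup (Fin 2) F)) := by
  classical
  have : Fintype (N F) := Fintype.ofFinite _
  have hpp : p.Prime := Fact.out
  have hodd : Odd (Fintype.card F) := by
    obtain ⟨n, -, hn⟩ := FiniteField.card F p
    rw [hn]
    exact (hpp.odd_of_ne_two hp).pow
  have h3 := three_le_card hodd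
  have hp1 : 1 < p := hpp.one_lt
  have hnot1 : ¬ p ∣ 1 := fun h => absurd (Nat.le_of_dvd one_pos h) (by omega)
  have hneg : (-1 : Matrix.SpecialLinearGroup (Fin 2) F) = zS := by
    apply coe_injective'
    rw [Matrix.SpecialLinearGroup.coe_neg, Matrix.SpecialLinearGroup.coe_one, zS_coe]
  simp only [hneg]
  have hq0 : (Fintype.card F : ℂ) ≠ 0 := by
    have : Fintype.card F ≠ 0 := by omega
    exact_mod_cast this
  -- the three characters
  have hStirr := stSL_isIrr (F := F) hodd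
  have hStz : stSL (F := F) zS = stSL (F := F) 1 := by
    rw [stSL_one]
    unfold stSL
    rw [toGL_zS2, stein_sc, MulChar.one_apply_coe]
    ring
  have htriv : IsIrrCharacter (Matrix.SpecialLinearGroup (Fin 2) F) (fun _ => (1 : ℂ)) :=
    Cfsg.Agent.Helper3.isIrrCharacter_one
  obtain ⟨χ₁f, hχ₁, hχ₁s⟩ := exists_odd_char (F := F) hodd
  have hχ₁ne : χ₁f 1 ≠ (Fintype.card F : ℂ) := by
    intro h
    have h1 := stSL_unique hχ₁ h
    rw [h1, hStz, stSL_one] at hχ₁s
    apply hq0
    linear_combination (1 / 2 : ℂ) * hχ₁s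
  have htrivne : (1 : ℂ) ≠ (Fintype.card F : ℂ) := by
    intro h
    have : (1 : ℕ) = Fintype.card F := by exact_mod_cast h
    omega
  -- the three sets
  have hASt : {χ : IrrCharacter (Matrix.SpecialLinearGroup (Fin 2) F) |
      (χ : Matrix.SpecialLinearGroup (Fin 2) F → ℂ) 1 = (Fintype.card F : ℂ)} =
      blockOf M (stSL (F := F)) := by
    rw [blockOf_stSL hM hodd]
    ext χ
    simp only [Set.mem_ofPred_eq, Set.mem_singleton_iff]
    constructor
    · intro h
      exact Subtype.ext (stSL_unique χ.2 h)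
    · intro h
      rw [h]
      exact stSL_one
  have hA0 : ∀ χ : IrrCharacter (Matrix.SpecialLinearGroup (Fin 2) F),
      (χ : Matrix.SpecialLinearGroup (Fin 2) F → ℂ) 1 ≠ (Fintype.card F : ℂ) →
      (χ : Matrix.SpecialLinearGroup (Fin 2) F → ℂ) zS =
        (χ : Matrix.SpecialLinearGroup (Fin 2) F → ℂ) 1 →
      {ψ : IrrCharacter (Matrix.SpecialLinearGroup (Fin 2) F) |
        (ψ : Matrix.SpecialLinearGroup (Fin 2) F → ℂ) zS =
          (ψ : Matrix.SpecialLinearGroup (Fin 2) F → ℂ) 1 ∧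
        (ψ : Matrix.SpecialLinearGroup (Fin 2) F → ℂ) 1 ≠ (Fintype.card F : ℂ)} =
      blockOf M (χ : Matrix.SpecialLinearGroup (Fin 2) F → ℂ) := by
    intro χ hne hs
    rw [blockOf_sign hp hM hodd χ hne 1 (Or.inl rfl) (by rw [one_mul]; exact hs)]
    simp only [one_mul]
  have hA1 : ∀ χ : IrrCharacter (Matrix.SpecialLinearGroup (Fin 2) F),
      (χ : Matrix.SpecialLinearGroup (Fin 2) F → ℂ) zS =
        -(χ : Matrix.SpecialLinearGroup (Fin 2) F → ℂ) 1 →
      {ψ : IrrCharacter (Matrix.SpecialLinearGroup (Fin 2) F) |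
        (ψ : Matrix.SpecialLinearGroup (Fin 2) F → ℂ) zS =
          -(ψ : Matrix.SpecialLinearGroup (Fin 2) F → ℂ) 1} =
      blockOf M (χ : Matrix.SpecialLinearGroup (Fin 2) F → ℂ) := by
    intro χ hs
    have hne : (χ : Matrix.SpecialLinearGroup (Fin 2) F → ℂ) 1 ≠ (Fintype.card F : ℂ) := by
      intro h
      have h1 := stSL_unique χ.2 h
      rw [h1, hStz, stSL_one] at hs
      apply hq0
      linear_combination (1 / 2 : ℂ) * hs
    rw [blockOf_sign hp hM hodd χ hne (-1) (Or.inr rfl) (by rw [neg_one_mul]; exact hs)]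
    ext ψ
    simp only [Set.mem_ofPred_eq, neg_one_mul]
    constructor
    · intro h
      refine ⟨h, ?_⟩
      intro h'
      have h1 := stSL_unique ψ.2 h'
      rw [h1, hStz, stSL_one] at h
      apply hq0
      linear_combination (1 / 2 : ℂ) * h
    · exact fun h => h.1
  -- the classification of the blocks
  have hblocks : ∀ B : Set (IrrCharacter (Matrix.SpecialLinearGroup (Fin 2) F)), IsPBlock M B ↔
      (B = {χ : IrrCharacter (Matrix.SpecialLinearGroup (Fin 2) F) |
        (χ : Matrix.SpecialLinearGroup (Fin 2) F → ℂ) 1 = (Fintype.card F : ℂ)} ∨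
       B = {χ : IrrCharacter (Matrix.SpecialLinearGroup (Fin 2) F) |
        (χ : Matrix.SpecialLinearGroup (Fin 2) F → ℂ) zS =
          (χ : Matrix.SpecialLinearGroup (Fin 2) F → ℂ) 1 ∧
        (χ : Matrix.SpecialLinearGroup (Fin 2) F → ℂ) 1 ≠ (Fintype.card F : ℂ)} ∨
       B = {χ : IrrCharacter (Matrix.SpecialLinearGroup (Fin 2) F) |
        (χ : Matrix.SpecialLinearGroup (Fin 2) F → ℂ) zS =
          -(χ : Matrix.SpecialLinearGroup (Fin 2) F → ℂ) 1}) := by
    intro B
    constructor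
    · rintro ⟨χ, rfl⟩
      by_cases hq : (χ : Matrix.SpecialLinearGroup (Fin 2) F → ℂ) 1 = (Fintype.card F : ℂ)
      · left
        rw [hASt, stSL_unique χ.2 hq]
      · obtain ⟨s, hs, hsχ⟩ := SL2_sign χ.2
        rcases hs with rfl | rfl
        · right; left
          rw [one_mul] at hsχ
          exact (hA0 χ hq hsχ).symm
        · right; right
          rw [neg_one_mul] at hsχ
          exact (hA1 χ hsχ).symm
    · rintro (rfl | rfl | rfl)
      · exact ⟨⟨stSL, hStirr⟩, hASt⟩
      · exact ⟨⟨fun _ => 1, htriv⟩, hA0 ⟨fun _ => 1, htriv⟩ htrivne rfl⟩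
      · exact ⟨⟨χ₁f, hχ₁⟩, hA1 ⟨χ₁f, hχ₁⟩ hχ₁s⟩
  refine ⟨hblocks, ?_, ?_⟩
  · -- the number of blocks
    have hcongr : ∀ B : Set (IrrCharacter (Matrix.SpecialLinearGroup (Fin 2) F)), IsPBlock M B ↔
        B ∈ ({{χ : IrrCharacter (Matrix.SpecialLinearGroup (Fin 2) F) |
          (χ : Matrix.SpecialLinearGroup (Fin 2) F → ℂ) 1 = (Fintype.card F : ℂ)},
         {χ : IrrCharacter (Matrix.SpecialLinearGroup (Fin 2) F) |
          (χ : Matrix.SpecialLinearGroup (Fin 2) F → ℂ) zS =
            (χ : Matrix.SpecialLinearGroup (Fin 2) F → ℂ) 1 ∧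
          (χ : Matrix.SpecialLinearGroup (Fin 2) F → ℂ) 1 ≠ (Fintype.card F : ℂ)},
         {χ : IrrCharacter (Matrix.SpecialLinearGroup (Fin 2) F) |
          (χ : Matrix.SpecialLinearGroup (Fin 2) F → ℂ) zS =
            -(χ : Matrix.SpecialLinearGroup (Fin 2) F → ℂ) 1}} :
          Set (Set (IrrCharacter (Matrix.SpecialLinearGroup (Fin 2) F)))) := by
      intro B
      rw [hblocks B]
      simp only [Set.mem_insert_iff, Set.mem_singleton_iff]
    rw [Nat.card_congr (Equiv.subtypeEquivRight hcongr), _root_.Nat.card_coe_set_eq]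
    refine Set.ncard_eq_three.mpr ⟨_, _, _, ?_, ?_, ?_, rfl⟩
    · intro h
      have h1 : (⟨stSL, hStirr⟩ : IrrCharacter (Matrix.SpecialLinearGroup (Fin 2) F)) ∈
          {χ : IrrCharacter (Matrix.SpecialLinearGroup (Fin 2) F) |
            (χ : Matrix.SpecialLinearGroup (Fin 2) F → ℂ) 1 = (Fintype.card F : ℂ)} := stSL_one
      rw [h] at h1
      exact h1.2 stSL_one
    · intro h
      have h1 : (⟨stSL, hStirr⟩ : IrrCharacter (Matrix.SpecialLinearGroup (Fin 2) F)) ∈
          {χ : IrrCharacter (Matrix.SpecialLinearGroup (Fin 2) F) |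
            (χ : Matrix.SpecialLinearGroup (Fin 2) F → ℂ) 1 = (Fintype.card F : ℂ)} := stSL_one
      rw [h] at h1
      have h2 : stSL (F := F) zS = -stSL (F := F) 1 := h1
      rw [hStz, stSL_one] at h2
      apply hq0
      linear_combination (1 / 2 : ℂ) * h2
    · intro h
      have h1 : (⟨fun _ => 1, htriv⟩ : IrrCharacter (Matrix.SpecialLinearGroup (Fin 2) F)) ∈
          {χ : IrrCharacter (Matrix.SpecialLinearGroup (Fin 2) F) |
            (χ : Matrix.SpecialLinearGroup (Fin 2) F → ℂ) zS =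
              (χ : Matrix.SpecialLinearGroup (Fin 2) F → ℂ) 1 ∧
            (χ : Matrix.SpecialLinearGroup (Fin 2) F → ℂ) 1 ≠ (Fintype.card F : ℂ)} :=
        ⟨rfl, htrivne⟩
      rw [h] at h1
      have h2 : (1 : ℂ) = -1 := h1
      norm_num at h2
  · -- the defect groups
    intro P
    constructor
    · apply sylow_isDefectGroup hM ((hblocks _).mpr (Or.inr (Or.inl rfl))) ⟨fun _ => 1, htriv⟩
        ⟨rfl, htrivne⟩ _ P
      rw [charDegree_of_eq _ 1 (by simp)]
      exact hnot1
    · obtain ⟨k, hk1, hk⟩ := SL2_degree_cases p hχ₁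
      apply sylow_isDefectGroup hM ((hblocks _).mpr (Or.inr (Or.inr rfl))) ⟨χ₁f, hχ₁⟩ hχ₁s _ P
      rw [charDegree_of_eq _ k hk1]
      rcases hk with h | h
      · exfalso
        apply hχ₁ne
        rw [hk1, h]
      · exact h

end Cfsg.Agent.S2439
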