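import Cfsg.Statements.S2450
import Cfsg.Agent.Lib.Helper41.SL2Prod

set_option autoImplicit false
open Cfsg

namespace Cfsg.Agent.S2450

open Cfsg.Agent.Helper41 Matrix

/-- The Arad–Herzog conjecture for PSL(2,q): let F be a finite field with q ≥ 4 elements. For any two non-identity elements a, b of PSL(2,F), the set of products of a conjugate of a with a conjugate of b is not a single conjugacy class. -/
theorem result {F : Type*} [Field F] [Fintype F] (h4 : 4 ≤ Fintype.card F)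
    (a b : Matrix.ProjectiveSpecialLinearGroup (Fin 2) F) (ha : a ≠ 1) (hb : b ≠ 1) (c : Matrix.ProjectiveSpecialLinearGroup (Fin 2) F) :
    {g : Matrix.ProjectiveSpecialLinearGroup (Fin 2) F | ∃ u v : Matrix.ProjectiveSpecialLinearGroup (Fin 2) F, g = (u * a * u⁻¹) * (v * b * v⁻¹)} ≠ {g | IsConj c g} := by
  obtain ⟨A, rfl⟩ := psl2_exists_rep a
  obtain ⟨B, rfl⟩ := psl2_exists_rep b
  rw [Ne, psl2_mk_eq_one_iff, not_or] at ha hb
  obtain ⟨U, hU⟩ := exists_conj_lower_left_ne_zero A (sl2_not_scalar_of_ne A ha.1 ha.2)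
  obtain ⟨V, hV⟩ := exists_conj_lower_left_ne_zero B (sl2_not_scalar_of_ne B hb.1 hb.2)
  set A' := U * A * U⁻¹ with hA'
  set B' := V * B * V⁻¹ with hB'
  have hα : (A' : Matrix (Fin 2) (Fin 2) F) 1 0 * (B' : Matrix (Fin 2) (Fin 2) F) 1 0 ≠ 0 :=
    mul_ne_zero hU hV
  obtain ⟨u, hu⟩ := exists_quadratic_sq_ne h4 _
    ((A' : Matrix (Fin 2) (Fin 2) F) 0 0 * (B' : Matrix (Fin 2) (Fin 2) F) 1 0 +
        (A' : Matrix (Fin 2) (Fin 2) F) 1 0 * ((B' : Matrix (Fin 2) (Fin 2) F) 1 1 -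
          (B' : Matrix (Fin 2) (Fin 2) F) 0 0) -
        (A' : Matrix (Fin 2) (Fin 2) F) 1 1 * (B' : Matrix (Fin 2) (Fin 2) F) 1 0)
    ((A' * B' : Matrix.SpecialLinearGroup (Fin 2) F) : Matrix (Fin 2) (Fin 2) F).trace hα
  rw [← trace_mul_conj_upper A' B' u] at hu
  intro hset
  have hg1 : (QuotientGroup.mk (A' * B') : Matrix.ProjectiveSpecialLinearGroup (Fin 2) F) ∈
      {g : Matrix.ProjectiveSpecialLinearGroup (Fin 2) F | ∃ u v : Matrix.ProjectiveSpecialLinearGroup (Fin 2) F, g = (u * QuotientGroup.mk A * u⁻¹) * (v * QuotientGroup.mk B * v⁻¹)} :=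
    ⟨QuotientGroup.mk U, QuotientGroup.mk V, rfl⟩
  have hg2 : (QuotientGroup.mk (A' * (upperSL u * B' * (upperSL u)⁻¹)) : Matrix.ProjectiveSpecialLinearGroup (Fin 2) F) ∈
      {g : Matrix.ProjectiveSpecialLinearGroup (Fin 2) F | ∃ u v : Matrix.ProjectiveSpecialLinearGroup (Fin 2) F, g = (u * QuotientGroup.mk A * u⁻¹) * (v * QuotientGroup.mk B * v⁻¹)} := by
    refine ⟨QuotientGroup.mk U, QuotientGroup.mk (upperSL u * V), ?_⟩
    have : upperSL u * B' * (upperSL u)⁻¹ = (upperSL u * V) * B * (upperSL u * V)⁻¹ := by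
      rw [hB']; group
    rw [this]
    rfl
  rw [hset] at hg1 hg2
  have hconj : IsConj (QuotientGroup.mk (A' * B') : Matrix.ProjectiveSpecialLinearGroup (Fin 2) F)
      (QuotientGroup.mk (A' * (upperSL u * B' * (upperSL u)⁻¹))) :=
    (IsConj.symm hg1).trans hg2
  exact hu (psl2_trace_sq_eq_of_isConj _ _ hconj).symm

end Cfsg.Agent.S2450
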