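import Cfsg.Statements.S2455
import Cfsg.Agent.Lib.Helper41.SL2Factor
import Cfsg.Agent.Lib.Helper41.SL2Spec

set_option autoImplicit false
open Cfsg

namespace Cfsg.Agent.S2455

open Cfsg.Agent.Helper41 Matrix

/-- A strong covering result in the direction of Thompson's conjecture (non-identity elements) for PSL(2,q), q odd: let F be a finite field of odd characteristic p with at least 5 elements and let x ∈ PSL(2,F) have order greater than 2 and not divisible by p (so x is not unipotent). Then every non-identity element of PSL(2,F) is a product of two conjugates of x. -/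
theorem result {F : Type*} [Field F] [Fintype F] (p : ℕ) [Fact p.Prime] [CharP F p] (hp : p ≠ 2) (h5 : 5 ≤ Fintype.card F)
    (x : Matrix.ProjectiveSpecialLinearGroup (Fin 2) F) (hx2 : 2 < orderOf x) (hxp : ¬ p ∣ orderOf x) : ∀ g : Matrix.ProjectiveSpecialLinearGroup (Fin 2) F, g ≠ 1 → ∃ u v : Matrix.ProjectiveSpecialLinearGroup (Fin 2) F, g = (u * x * u⁻¹) * (v * x * v⁻¹) := by
  have hpp : p.Prime := Fact.out
  obtain ⟨X, rfl⟩ := psl2_exists_rep x
  have hXdet : (X : Matrix (Fin 2) (Fin 2) F).det = 1 := X.2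
  -- trace squared is not 4
  have hs4 : (X : Matrix (Fin 2) (Fin 2) F).trace ^ 2 ≠ 4 := by
    intro ht
    have h1 := (psl2_mk_pow_eq_one_iff X p).mpr (unipotent_pow p _ hXdet ht)
    have hdvd := orderOf_dvd_of_pow_eq_one h1
    rcases (Nat.dvd_prime hpp).mp hdvd with h | h
    · omega
    · exact hxp (h ▸ dvd_refl _)
  -- trace is not zero
  have hs0 : (X : Matrix (Fin 2) (Fin 2) F).trace ≠ 0 := by
    intro ht
    have hCH := sq_eq_of_det_one _ hXdet
    rw [ht, zero_smul, zero_sub] at hCH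
    have h1 := (psl2_mk_pow_eq_one_iff X 2).mpr (Or.inr hCH)
    have hdvd := orderOf_dvd_of_pow_eq_one h1
    have := Nat.le_of_dvd (by norm_num) hdvd
    omega
  have h2 : (2 : F) ≠ 0 := by
    intro h2
    have : (p : ℕ) ∣ 2 := (CharP.cast_eq_zero_iff F p 2).mp (by exact_mod_cast h2)
    exact hp ((Nat.prime_dvd_prime_iff_eq hpp Nat.prime_two).mp this)
  intro g hg
  obtain ⟨G, rfl⟩ := psl2_exists_rep g
  have hGdet : (G : Matrix (Fin 2) (Fin 2) F).det = 1 := G.2
  rw [Ne, psl2_mk_eq_one_iff, not_or] at hg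
  have hns := sl2_not_scalar_of_ne G hg.1 hg.2
  obtain ⟨Y, Z, hY, hZ, htY, htZ, hYZ⟩ :=
    exists_factor_odd h2 (G : Matrix (Fin 2) (Fin 2) F).trace _ hs0
  rcases hYZ with hYZ | hYZ
  · obtain ⟨Y', Z', hY', hZ', htY', htZ', hYZ'⟩ := transport_factor (G : Matrix (Fin 2) (Fin 2) F)
      hGdet hns (ε := 1) ⟨Y, Z, hY, hZ, htY, htZ, by rw [hYZ, one_smul]⟩
    exact psl2_eq_mul_conj_of_factor X G hs4 Y' Z' hY' hZ' htY' htZ' (Or.inl (by rw [hYZ', one_smul]))
  · obtain ⟨Y', Z', hY', hZ', htY', htZ', hYZ'⟩ := transport_factor (G : Matrix (Fin 2) (Fin 2) F)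
      hGdet hns (ε := -1) ⟨Y, Z, hY, hZ, htY, htZ, by rw [hYZ, neg_one_smul]⟩
    exact psl2_eq_mul_conj_of_factor X G hs4 Y' Z' hY' hZ' htY' htZ' (Or.inr (by rw [hYZ', neg_one_smul]))

end Cfsg.Agent.S2455
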