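import Cfsg.Statements.S2456
import Cfsg.Agent.Lib.Helper41.SL2Factor
import Cfsg.Agent.Lib.Helper41.SL2Spec

set_option autoImplicit false
open Cfsg

namespace Cfsg.Agent.S2456

open Cfsg.Agent.Helper41 Matrix

/-- A strong covering result in the direction of Thompson's conjecture (non-identity elements) for PSL(2,q), q even: let F be a finite field of characteristic 2 with q ≥ 4 elements and let x ∈ PSL(2,F) have order greater than 2 and not dividing q + 1. Then every non-identity element of PSL(2,F) is a product of two conjugates of x. -/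
theorem result {F : Type*} [Field F] [Fintype F] [CharP F 2] (h4 : 4 ≤ Fintype.card F)
    (x : Matrix.ProjectiveSpecialLinearGroup (Fin 2) F) (hx2 : 2 < orderOf x) (hxq : ¬ orderOf x ∣ Fintype.card F + 1) : ∀ g : Matrix.ProjectiveSpecialLinearGroup (Fin 2) F, g ≠ 1 → ∃ u v : Matrix.ProjectiveSpecialLinearGroup (Fin 2) F, g = (u * x * u⁻¹) * (v * x * v⁻¹) := by
  haveI : Fact (Nat.Prime 2) := ⟨Nat.prime_two⟩
  obtain ⟨X, rfl⟩ := psl2_exists_rep x
  have hXdet : (X : Matrix (Fin 2) (Fin 2) F).det = 1 := X.2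
  have hs0 : (X : Matrix (Fin 2) (Fin 2) F).trace ≠ 0 := by
    intro ht
    have hCH := sq_eq_of_det_one _ hXdet
    rw [ht, zero_smul, zero_sub] at hCH
    have h1 := (psl2_mk_pow_eq_one_iff X 2).mpr (Or.inr hCH)
    have hdvd := orderOf_dvd_of_pow_eq_one h1
    have := Nat.le_of_dvd (by norm_num) hdvd
    omega
  have h4F : (4 : F) = 0 := by
    have h2 : (2 : F) = 0 := CharTwo.two_eq_zero
    have : (4 : F) = 2 * 2 := by norm_num
    rw [this, h2, mul_zero]
  have hs4 : (X : Matrix (Fin 2) (Fin 2) F).trace ^ 2 ≠ 4 := by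
    rw [h4F]
    exact pow_ne_zero 2 hs0
  obtain ⟨w, hw⟩ : ∃ w : F, w ^ 2 - (X : Matrix (Fin 2) (Fin 2) F).trace * w + 1 = 0 := by
    rcases root_or_pow_card_add_one 2 _ hXdet hs4 with h | h
    · exact h
    · exfalso
      apply hxq
      exact orderOf_dvd_of_pow_eq_one ((psl2_mk_pow_eq_one_iff X _).mpr (Or.inl h))
  intro g hg
  obtain ⟨G, rfl⟩ := psl2_exists_rep g
  have hGdet : (G : Matrix (Fin 2) (Fin 2) F).det = 1 := G.2
  rw [Ne, psl2_mk_eq_one_iff, not_or] at hg
  have hns := sl2_not_scalar_of_ne G hg.1 hg.2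
  obtain ⟨Y, Z, hY, hZ, htY, htZ, hYZ⟩ :=
    exists_factor_of_root (G : Matrix (Fin 2) (Fin 2) F).trace _ w hw
  obtain ⟨Y', Z', hY', hZ', htY', htZ', hYZ'⟩ := transport_factor (G : Matrix (Fin 2) (Fin 2) F)
    hGdet hns (ε := 1) ⟨Y, Z, hY, hZ, htY, htZ, by rw [hYZ, one_smul]⟩
  exact psl2_eq_mul_conj_of_factor X G hs4 Y' Z' hY' hZ' htY' htZ' (Or.inl (by rw [hYZ', one_smul]))

end Cfsg.Agent.S2456
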