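import Cfsg.Statements.S2467
import Cfsg.Agent.Lib.Helper41.AltOrders

set_option autoImplicit false
open Cfsg

namespace Cfsg.Agent.S2467

open Cfsg.Agent.Helper41

theorem two_mul_card_le_sum (m : Multiset ℕ) (h2 : ∀ a ∈ m, 2 ≤ a) : 2 * Multiset.card m ≤ m.sum := by
  have := Multiset.card_nsmul_le_sum (s := m) (a := 2) h2
  simpa [mul_comm] using this

/-- Adjacency of 2 and an odd prime in the prime graph of the alternating groups: let r be an odd prime at most n, with n ≥ 4. The alternating group of degree n has an element of order 2r if and only if r + 4 ≤ n. -/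
theorem result (n r : ℕ) (hn : 4 ≤ n) (hr : r.Prime) (hr2 : r ≠ 2) (hrn : r ≤ n) :
    (2 * r ∈ Set.range (orderOf : alternatingGroup (Fin n) → ℕ)) ↔ r + 4 ≤ n := by
  rw [mem_range_orderOf_alt_iff]
  have hr2' := hr.two_le
  have hro : Odd r := hr.odd_of_ne_two hr2
  constructor
  · rintro ⟨m, h2, hsum, heven, hlcm⟩
    obtain ⟨a, ha, hra⟩ := exists_mem_dvd_of_prime_dvd_lcm hr m (hlcm ▸ dvd_mul_left r 2)
    obtain ⟨b, hb, hsb⟩ := exists_mem_dvd_of_prime_dvd_lcm Nat.prime_two m (hlcm ▸ dvd_mul_right 2 r)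
    have ha0 : 0 < a := by have := h2 a ha; omega
    rw [even_sum_add_card_iff] at heven
    have hbE : b ∈ m.filter (fun a => Even a) :=
      Multiset.mem_filter.mpr ⟨hb, even_iff_two_dvd.mpr hsb⟩
    have hsplit : m.sum = (m.filter (fun a => Even a)).sum + (m.filter (fun a => ¬ Even a)).sum := by
      conv_lhs => rw [← Multiset.filter_add_not (fun a => Even a) m]
      rw [Multiset.sum_add]
    have hE2 : ∀ x ∈ m.filter (fun a => Even a), 2 ≤ x := fun x hx => h2 x (Multiset.mem_of_mem_filter hx)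
    have hcardpos : 0 < Multiset.card (m.filter (fun a => Even a)) := Multiset.card_pos_iff_exists_mem.mpr ⟨b, hbE⟩
    have hcard2 : 2 ≤ Multiset.card (m.filter (fun a => Even a)) := by
      obtain ⟨c, hc⟩ := heven
      omega
    by_cases hae : Even a
    · have haE : a ∈ m.filter (fun a => Even a) := Multiset.mem_filter.mpr ⟨ha, hae⟩
      obtain ⟨E', hE'⟩ := Multiset.exists_cons_of_mem haE
      have hcop : Nat.Coprime 2 r := (Nat.coprime_primes Nat.prime_two hr).mpr (Ne.symm hr2)
      have h2ra : 2 * r ∣ a := hcop.mul_dvd_of_dvd_of_dvd (even_iff_two_dvd.mp hae) hra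
      have h1 : 2 * r ≤ a := Nat.le_of_dvd ha0 h2ra
      have hE'2 : ∀ x ∈ E', 2 ≤ x := fun x hx => hE2 x (hE' ▸ Multiset.mem_cons_of_mem hx)
      have h3 := two_mul_card_le_sum E' hE'2
      rw [hE', Multiset.card_cons] at hcard2
      rw [hE', Multiset.sum_cons] at hsplit
      omega
    · have haO : a ∈ m.filter (fun a => ¬ Even a) := Multiset.mem_filter.mpr ⟨ha, hae⟩
      have h1 : a ≤ (m.filter (fun a => ¬ Even a)).sum := Multiset.le_sum_of_mem haO
      have h3 := two_mul_card_le_sum _ hE2
      have h4 : r ≤ a := Nat.le_of_dvd ha0 hra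
      omega
  · intro h
    refine ⟨{r, 2, 2}, ?_, ?_, ?_, ?_⟩
    · intro a ha
      simp only [Multiset.insert_eq_cons, Multiset.mem_cons, Multiset.mem_singleton] at ha
      rcases ha with rfl | rfl | rfl <;> omega
    · simpa using h
    · simp only [Multiset.insert_eq_cons, Multiset.sum_cons, Multiset.sum_singleton,
        Multiset.card_cons, Multiset.card_singleton]
      obtain ⟨x, rfl⟩ := hro
      exact ⟨x + 4, by ring⟩
    · have hcop : Nat.Coprime r 2 := ((Nat.coprime_primes Nat.prime_two hr).mpr (Ne.symm hr2)).symm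
      simp only [Multiset.insert_eq_cons, Multiset.lcm_cons, Multiset.lcm_singleton]
      simp [lcm_eq_nat_lcm, hcop.lcm_eq_mul, mul_comm]

end Cfsg.Agent.S2467
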