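import Cfsg.Statements.S2468
import Mathlib
import Cfsg.Agent.Lib.Helper42.PrimeCent5

set_option autoImplicit false
open Cfsg

namespace Cfsg.Agent.S2468

open Cfsg.Agent.Helper42.PrimeCent

section

variable {F : Type*} [Field F] [Fintype F]

/-- non-adjacency: an element of order `r s` forces `k + l ≤ n` when `k ∤ l` -/
theorem le_of_orderOf (p : ℕ) [Fact p.Prime] [CharP F p] (n : ℕ) (hn : 2 ≤ n)
    (r s : ℕ) (hr : r.Prime) (hs : s.Prime) (hrp : r ≠ p) (hsp : s ≠ p)
    (k l : ℕ) (hk : k = orderOf ((Fintype.card F : ℕ) : ZMod r))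
    (hl : l = orderOf ((Fintype.card F : ℕ) : ZMod s)) (h2k : 2 ≤ k) (hkl : k ≤ l)
    (hndvd : ¬ k ∣ l)
    (x : Matrix.ProjectiveSpecialLinearGroup (Fin n) F) (hx : orderOf x = r * s) :
    k + l ≤ n := by
  have : Fact r.Prime := ⟨hr⟩
  have : Fact s.Prime := ⟨hs⟩
  have hp : p.Prime := Fact.out
  have hq1 : 1 ≤ Fintype.card F := Fintype.card_pos
  -- r, s do not divide q - 1
  have hrq : ¬ r ∣ Fintype.card F - 1 := by
    intro h
    have : r ∣ Fintype.card F ^ 1 - 1 := by simpa using h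
    rw [dvd_pow_sub_one_iff r _ _ hq1, ← hk] at this
    have := Nat.le_of_dvd Nat.one_pos this
    omega
  have hsq : ¬ s ∣ Fintype.card F - 1 := by
    intro h
    have : s ∣ Fintype.card F ^ 1 - 1 := by simpa using h
    rw [dvd_pow_sub_one_iff s _ _ hq1, ← hl] at this
    have := Nat.le_of_dvd Nat.one_pos this
    omega
  obtain ⟨x', rfl⟩ := QuotientGroup.mk_surjective x
  have hn0 : n ≠ 0 := by omega
  -- scalar
  have hx1 : x' ^ (r * s) ∈ Subgroup.center (Matrix.SpecialLinearGroup (Fin n) F) := by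
    rw [← QuotientGroup.eq_one_iff, QuotientGroup.mk_pow, ← hx, pow_orderOf_eq_one]
  obtain ⟨μ, hμn, hμ⟩ := exists_scalar_of_mem_center _ hx1
  rw [Matrix.SpecialLinearGroup.coe_pow] at hμ
  have hμ0 : μ ≠ 0 := by
    rintro rfl
    rw [zero_pow hn0] at hμn
    exact zero_ne_one hμn
  have hroot : ∀ t : ℕ, t.Prime → ¬ t ∣ Fintype.card F - 1 → ∃ ν : F, ν ≠ 0 ∧ ν ^ t = μ := by
    intro t ht htq
    have hcop : (Nat.card Fˣ).Coprime t := by
      rw [Nat.card_units, Nat.card_eq_fintype_card]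
      exact ((Nat.Prime.coprime_iff_not_dvd ht).mpr htq).symm
    obtain ⟨ν, hν⟩ := (powCoprime hcop).surjective (Units.mk0 μ hμ0)
    refine ⟨ν, ν.ne_zero, ?_⟩
    have := congrArg Units.val hν
    simpa using this
  obtain ⟨νr, hνr0, hνr⟩ := hroot r hr hrq
  obtain ⟨νs, hνs0, hνs⟩ := hroot s hs hsq
  set X : Matrix (Fin n) (Fin n) F := x'.val with hX
  set Br : Matrix (Fin n) (Fin n) F := νr⁻¹ • X ^ s with hBr
  set Bs : Matrix (Fin n) (Fin n) F := νs⁻¹ • X ^ r with hBs
  have hBrr : Br ^ r = 1 := by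
    rw [hBr, smul_pow, ← pow_mul, mul_comm s r, hμ, smul_smul, inv_pow, hνr, inv_mul_cancel₀ hμ0,
      one_smul]
  have hBss : Bs ^ s = 1 := by
    rw [hBs, smul_pow, ← pow_mul, hμ, smul_smul, inv_pow, hνs, inv_mul_cancel₀ hμ0, one_smul]
  have hBr1 : Br ≠ 1 := by
    intro h
    have h1 : (x' ^ s).val = νr • (1 : Matrix (Fin n) (Fin n) F) := by
      rw [Matrix.SpecialLinearGroup.coe_pow, ← h, hBr, smul_smul, mul_inv_cancel₀ hνr0, one_smul]
    have h2 := mem_center_of_scalar (x' ^ s) νr h1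
    rw [← QuotientGroup.eq_one_iff, QuotientGroup.mk_pow] at h2
    have h3 := orderOf_dvd_of_pow_eq_one h2
    rw [hx] at h3
    have h4 := Nat.le_of_dvd hs.pos h3
    have := hr.two_le
    nlinarith [hs.pos]
  have hBs1 : Bs ≠ 1 := by
    intro h
    have h1 : (x' ^ r).val = νs • (1 : Matrix (Fin n) (Fin n) F) := by
      rw [Matrix.SpecialLinearGroup.coe_pow, ← h, hBs, smul_smul, mul_inv_cancel₀ hνs0, one_smul]
    have h2 := mem_center_of_scalar (x' ^ r) νs h1
    rw [← QuotientGroup.eq_one_iff, QuotientGroup.mk_pow] at h2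
    have h3 := orderOf_dvd_of_pow_eq_one h2
    rw [hx] at h3
    have h4 := Nat.le_of_dvd hr.pos h3
    have := hs.two_le
    nlinarith [hr.pos]
  have hcomm : Br * Bs = Bs * Br := by
    rw [hBr, hBs, Matrix.smul_mul, Matrix.mul_smul, Matrix.smul_mul, Matrix.mul_smul, ← pow_add,
      ← pow_add, add_comm, smul_comm]
  have hrF : (r : F) ≠ 0 := by
    intro h
    have := (CharP.cast_eq_zero_iff F p r).mp h
    exact hrp ((Nat.prime_dvd_prime_iff_eq hp hr).mp this).symm
  have hsF : (s : F) ≠ 0 := by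
    intro h
    have := (CharP.cast_eq_zero_iff F p s).mp h
    exact hsp ((Nat.prime_dvd_prime_iff_eq hp hs).mp this).symm
  have hone : ∀ M : Matrix (Fin n) (Fin n) F, M ≠ 1 → Matrix.toLin' M ≠ 1 := by
    intro M hM h
    apply hM
    apply Matrix.toLin'.injective
    rw [h, Matrix.toLin'_one]; rfl
  have := core2 (F := F) (V := Fin n → F) r s hrF hsF (Matrix.toLin' Br) (Matrix.toLin' Bs)
    (by rw [← Matrix.toLin'_pow, hBrr, Matrix.toLin'_one]; rfl) (hone Br hBr1)
    (by rw [← Matrix.toLin'_pow, hBss, Matrix.toLin'_one]; rfl) (hone Bs hBs1)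
    (by
      rw [Module.End.mul_eq_comp, Module.End.mul_eq_comp, ← Matrix.toLin'_mul, ← Matrix.toLin'_mul,
        hcomm])
    k l (by rw [Nat.card_eq_fintype_card]; exact hk) (by rw [Nat.card_eq_fintype_card]; exact hl)
    hkl hndvd
  simpa using this

end

/-- Adjacency of two odd primes in the prime graph of PSL(n,q): let F be a finite field of characteristic p with q elements, n ≥ 2 with PSL(n,F) simple, and let r ≠ s be odd primes different from p dividing the order of PSL(n,F). Let k and l be the multiplicative orders of q modulo r and modulo s, and suppose 2 ≤ k ≤ l. Then PSL(n,F) has NO element of order r·s if and only if k + l > n and k does not divide l. -/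
theorem result {F : Type*} [Field F] [Fintype F] (p : ℕ) [Fact p.Prime] [CharP F p] (n : ℕ) (hn : 2 ≤ n) (hsmall : n = 2 → 4 ≤ Fintype.card F)
    (r s : ℕ) (hr : r.Prime) (hs : s.Prime) (hr2 : r ≠ 2) (hs2 : s ≠ 2) (hrp : r ≠ p) (hsp : s ≠ p) (hrs : r ≠ s)
    (hrG : r ∣ Nat.card (Matrix.ProjectiveSpecialLinearGroup (Fin n) F)) (hsG : s ∣ Nat.card (Matrix.ProjectiveSpecialLinearGroup (Fin n) F))
    (k l : ℕ) (hk : k = orderOf ((Fintype.card F : ℕ) : ZMod r)) (hl : l = orderOf ((Fintype.card F : ℕ) : ZMod s))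
    (h2k : 2 ≤ k) (hkl : k ≤ l) :
    (r * s ∉ Set.range (orderOf : Matrix.ProjectiveSpecialLinearGroup (Fin n) F → ℕ)) ↔ (n < k + l ∧ ¬ k ∣ l) := by
  have : Fact r.Prime := ⟨hr⟩
  have : Fact s.Prime := ⟨hs⟩
  have hq1 : 1 ≤ Fintype.card F := Fintype.card_pos
  have hrq : ¬ r ∣ Fintype.card F - 1 := by
    intro h
    have : r ∣ Fintype.card F ^ 1 - 1 := by simpa using h
    rw [dvd_pow_sub_one_iff r _ _ hq1, ← hk] at this
    have := Nat.le_of_dvd Nat.one_pos this
    omega
  have hsq : ¬ s ∣ Fintype.card F - 1 := by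
    intro h
    have : s ∣ Fintype.card F ^ 1 - 1 := by simpa using h
    rw [dvd_pow_sub_one_iff s _ _ hq1, ← hl] at this
    have := Nat.le_of_dvd Nat.one_pos this
    omega
  have hcop : (r * s).Coprime (Fintype.card F - 1) :=
    Nat.Coprime.mul_left ((Nat.Prime.coprime_iff_not_dvd hr).mpr hrq)
      ((Nat.Prime.coprime_iff_not_dvd hs).mpr hsq)
  have hrscop : r.Coprime s := (Nat.coprime_primes hr hs).mpr hrs
  constructor
  · intro hno
    by_contra hcon
    apply hno
    -- construct an element of order r s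
    have hcases : k + l ≤ n ∨ k ∣ l := by
      by_contra h
      push Not at h
      exact hcon ⟨h.1, h.2⟩
    obtain ⟨i, hi1, hin, his⟩ := exists_dvd_pow_sub_one_of_dvd_card_PSL p n (by omega) s hs hsp hsG
    have hln : l ≤ n := by
      rw [dvd_pow_sub_one_iff s _ _ hq1, ← hl] at his
      exact (Nat.le_of_dvd (by omega) his).trans hin
    have hk0 : k ≠ 0 := by omega
    have hl0 : l ≠ 0 := by omega
    have : NeZero k := ⟨hk0⟩
    have : NeZero l := ⟨hl0⟩
    have hrk : r ∣ Nat.card F ^ k - 1 := by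
      rw [Nat.card_eq_fintype_card, dvd_pow_sub_one_iff r _ _ hq1, ← hk]
    have hsl : s ∣ Nat.card F ^ l - 1 := by
      rw [Nat.card_eq_fintype_card, dvd_pow_sub_one_iff s _ _ hq1, ← hl]
    have hg : ∃ g : GL (Fin n) F, orderOf g = r * s := by
      rcases hcases with hsum | hdvd
      · obtain ⟨u1, hu1⟩ := exists_unit_orderOf (F := F) p k r hrk
        obtain ⟨u2, hu2⟩ := exists_unit_orderOf (F := F) p l s hsl
        obtain ⟨g, hg⟩ := exists_GL_orderOf (F := F) (FiniteField.Extension F p k)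
          (FiniteField.Extension F p l) n
          (by rw [FiniteField.finrank_extension, FiniteField.finrank_extension]; exact hsum) u1 u2
        refine ⟨g, ?_⟩
        rw [hg, hu1, hu2, Nat.Coprime.lcm_eq_mul hrscop]
      · have hrl : r ∣ Nat.card F ^ l - 1 := by
          rw [Nat.card_eq_fintype_card, dvd_pow_sub_one_iff r _ _ hq1, ← hk]
          exact hdvd
        have hrsl : r * s ∣ Nat.card F ^ l - 1 := Nat.Coprime.mul_dvd_of_dvd_of_dvd hrscop hrl hsl
        obtain ⟨u1, hu1⟩ := exists_unit_orderOf (F := F) p l (r * s) hrsl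
        obtain ⟨g, hg⟩ := exists_GL_orderOf (F := F) (FiniteField.Extension F p l)
          (Fin 0 → F) n
          (by rw [FiniteField.finrank_extension]; simpa using hln) u1 1
        refine ⟨g, ?_⟩
        rw [hg, hu1, orderOf_one, Nat.lcm_one_right]
    obtain ⟨g, hg⟩ := hg
    obtain ⟨x, hx⟩ := exists_PSL_orderOf g (r * s) hg hcop
    exact ⟨x, hx⟩
  · rintro ⟨hlt, hndvd⟩ ⟨x, hx⟩
    have := le_of_orderOf p n hn r s hr hs hrp hsp k l hk hl h2k hkl hndvd x hx
    omega

end Cfsg.Agent.S2468
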