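import Cfsg.Statements.S2470
import Mathlib
import Cfsg.Agent.Lib.Helper42.PrimeCent5
import Cfsg.Agent.Lib.Helper42.PrimeCent7

set_option autoImplicit false
open Cfsg

namespace Cfsg.Agent.S2470

open Cfsg.Agent.Helper42.PrimeCent

section

variable {F : Type*} [Field F] [Fintype F]

/-- from an element of order `r p` of `PSL_n`: a nontrivial unipotent matrix `A` commuting with a
non-central `y ∈ SL_n` whose `r`-th power is a scalar -/
theorem setup (p : ℕ) [Fact p.Prime] [CharP F p] (n : ℕ) (hn : 2 ≤ n)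
    (r : ℕ) (hr : r.Prime)
    (x : Matrix.ProjectiveSpecialLinearGroup (Fin n) F) (hx : orderOf x = r * p) :
    ∃ (A : Matrix (Fin n) (Fin n) F) (y : Matrix.SpecialLinearGroup (Fin n) F) (μ : F),
      A ^ p = 1 ∧ A ≠ 1 ∧ A * y.val = y.val * A ∧ y.val ^ r = μ • (1 : Matrix (Fin n) (Fin n) F) ∧
      μ ^ n = 1 ∧ y ∉ Subgroup.center (Matrix.SpecialLinearGroup (Fin n) F) := by
  have hp : p.Prime := Fact.out
  obtain ⟨x', rfl⟩ := QuotientGroup.mk_surjective x
  have hn0 : n ≠ 0 := by omega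
  have hx1 : x' ^ (r * p) ∈ Subgroup.center (Matrix.SpecialLinearGroup (Fin n) F) := by
    rw [← QuotientGroup.eq_one_iff, QuotientGroup.mk_pow, ← hx, pow_orderOf_eq_one]
  obtain ⟨μ, hμn, hμ⟩ := exists_scalar_of_mem_center _ hx1
  rw [Matrix.SpecialLinearGroup.coe_pow] at hμ
  have hμ0 : μ ≠ 0 := by
    rintro rfl
    rw [zero_pow hn0] at hμn
    exact zero_ne_one hμn
  obtain ⟨η, hη⟩ : ∃ η : F, η ^ p = μ :=
    (Finite.injective_iff_surjective.mp (frobenius_inj F p)) μ
  have hη0 : η ≠ 0 := by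
    rintro rfl
    rw [zero_pow hp.ne_zero] at hη
    exact hμ0 hη.symm
  set X : Matrix (Fin n) (Fin n) F := x'.val with hX
  refine ⟨η⁻¹ • X ^ r, x' ^ p, μ, ?_, ?_, ?_, ?_, hμn, ?_⟩
  · rw [smul_pow, ← pow_mul, hμ, smul_smul, inv_pow, hη, inv_mul_cancel₀ hμ0, one_smul]
  · intro h
    have h1 : (x' ^ r).val = η • (1 : Matrix (Fin n) (Fin n) F) := by
      rw [Matrix.SpecialLinearGroup.coe_pow, ← h, smul_smul, mul_inv_cancel₀ hη0, one_smul]
    have h2 := mem_center_of_scalar (x' ^ r) η h1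
    rw [← QuotientGroup.eq_one_iff, QuotientGroup.mk_pow] at h2
    have h3 := orderOf_dvd_of_pow_eq_one h2
    rw [hx] at h3
    have h4 := Nat.le_of_dvd hr.pos h3
    have := hp.two_le
    nlinarith [hr.pos]
  · rw [Matrix.SpecialLinearGroup.coe_pow, Matrix.smul_mul, Matrix.mul_smul, ← pow_add, ← pow_add,
      add_comm]
  · rw [Matrix.SpecialLinearGroup.coe_pow, ← pow_mul, mul_comm p r, hμ]
  · intro h2
    rw [← QuotientGroup.eq_one_iff, QuotientGroup.mk_pow] at h2
    have h3 := orderOf_dvd_of_pow_eq_one h2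
    rw [hx] at h3
    have h4 := Nat.le_of_dvd hp.pos h3
    have := hr.two_le
    nlinarith [hp.pos]

/-- no element of order `r p` in `PSL_2` -/
theorem no_two (p : ℕ) [Fact p.Prime] [CharP F p] (r : ℕ) (hr : r.Prime) (hr2 : r ≠ 2)
    (hrp : r ≠ p) (x : Matrix.ProjectiveSpecialLinearGroup (Fin 2) F) (hx : orderOf x = r * p) :
    False := by
  have : Fact r.Prime := ⟨hr⟩
  obtain ⟨A, y, μ, hA, hA1, hAy, hyr, hμ2, hy⟩ := setup p 2 le_rfl r hr x hx
  have hodd : Odd r := hr.odd_of_ne_two hr2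
  obtain ⟨t, ht⟩ := hodd
  have hμr : μ ^ r = μ := by rw [ht, pow_succ, pow_mul, hμ2, one_pow, one_mul]
  have hμμ : μ * μ = 1 := by rw [← sq, hμ2]
  obtain ⟨c, hc⟩ := scalar_of_comm_two p r hrp A (μ • y.val) hA hA1
    (by rw [smul_pow, hyr, smul_smul, hμr, hμμ, one_smul])
    (by rw [Matrix.mul_smul, Matrix.smul_mul, hAy])
  apply hy
  apply mem_center_of_scalar y (μ * c)
  have : y.val = μ • (μ • y.val) := by rw [smul_smul, hμμ, one_smul]
  rw [this, hc, smul_smul]

/-- no element of order `r p` in `PSL_n` when the order of `q` mod `r` exceeds `n - 2` -/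
theorem no_large (p : ℕ) [Fact p.Prime] [CharP F p] (n : ℕ) (hn : 3 ≤ n) (r : ℕ) (hr : r.Prime)
    (hrp : r ≠ p) (k : ℕ) (hk : k = orderOf ((Fintype.card F : ℕ) : ZMod r)) (hkn : n - 2 < k)
    (x : Matrix.ProjectiveSpecialLinearGroup (Fin n) F) (hx : orderOf x = r * p) :
    False := by
  have : Fact r.Prime := ⟨hr⟩
  have hq1 : 1 ≤ Fintype.card F := Fintype.card_pos
  obtain ⟨A, y, μ, hA, hA1, hAy, hyr, hμn, hy⟩ := setup p n (by omega) r hr x hx
  have hn0 : n ≠ 0 := by omega
  have hμ0 : μ ≠ 0 := by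
    rintro rfl
    rw [zero_pow hn0] at hμn
    exact zero_ne_one hμn
  have hrq : ¬ r ∣ Fintype.card F - 1 := by
    intro h
    have : r ∣ Fintype.card F ^ 1 - 1 := by simpa using h
    rw [dvd_pow_sub_one_iff r _ _ hq1, ← hk] at this
    have := Nat.le_of_dvd Nat.one_pos this
    omega
  obtain ⟨ν, hν0, hν⟩ : ∃ ν : F, ν ≠ 0 ∧ ν ^ r = μ := by
    have hcop : (Nat.card Fˣ).Coprime r := by
      rw [Nat.card_units, Nat.card_eq_fintype_card]
      exact ((Nat.Prime.coprime_iff_not_dvd hr).mpr hrq).symm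
    obtain ⟨ν, hν⟩ := (powCoprime hcop).surjective (Units.mk0 μ hμ0)
    refine ⟨ν, ν.ne_zero, ?_⟩
    have := congrArg Units.val hν
    simpa using this
  obtain ⟨j, hj1, hj2, hj3⟩ := core_matrix hn p r hrp A (ν⁻¹ • y.val) hA hA1
    (by rw [smul_pow, hyr, smul_smul, inv_pow, hν, inv_mul_cancel₀ hμ0, one_smul])
    (by
      intro h
      apply hy
      apply mem_center_of_scalar y ν
      rw [← h, smul_smul, mul_inv_cancel₀ hν0, one_smul])
    (by rw [Matrix.mul_smul, Matrix.smul_mul, hAy])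
  rw [dvd_pow_sub_one_iff r _ _ hq1, ← hk] at hj3
  have := Nat.le_of_dvd (by omega) hj3
  omega

/-- no element of order `3 p` in `PSL_3` when `3` divides `q - 1` exactly once -/
theorem no_three (p : ℕ) [Fact p.Prime] [CharP F p] (hp3 : p ≠ 3)
    (h3q : 3 ∣ Fintype.card F - 1) (h9q : ¬ 9 ∣ Fintype.card F - 1)
    (x : Matrix.ProjectiveSpecialLinearGroup (Fin 3) F) (hx : orderOf x = 3 * p) :
    False := by
  obtain ⟨A, y, μ, hA, hA1, hAy, hyr, hμ3, hy⟩ := setup p 3 (by norm_num) 3 Nat.prime_three x hx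
  by_cases hμ1 : μ = 1
  · rw [hμ1, one_smul] at hyr
    obtain ⟨c, hc⟩ := scalar_of_comm_three p hp3 h3q A y.val hA hA1 hyr y.2 hAy
    exact hy (mem_center_of_scalar y c hc)
  · obtain ⟨u, hu0, c, hc⟩ := exists_eigen_three p A y.val hA hA1 hAy
    have h1 : (y.val ^ 3).mulVec u = (c ^ 3) • u := by
      rw [pow_succ, pow_succ, pow_one, ← Matrix.mulVec_mulVec, ← Matrix.mulVec_mulVec, hc,
        Matrix.mulVec_smul, hc, Matrix.mulVec_smul, Matrix.mulVec_smul, hc, smul_smul, smul_smul]
      congr 1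
      ring
    rw [hyr, Matrix.smul_mulVec, Matrix.one_mulVec] at h1
    have hcμ : c ^ 3 = μ := by
      have h2 : (μ - c ^ 3) • u = 0 := by rw [sub_smul, h1, sub_self]
      exact (sub_eq_zero.mp ((smul_eq_zero.mp h2).resolve_right hu0)).symm
    have hc0 : c ≠ 0 := by
      rintro rfl
      rw [zero_pow (by norm_num)] at hcμ
      rw [← hcμ, zero_pow (by norm_num)] at hμ3
      exact zero_ne_one hμ3
    have ho : orderOf (Units.mk0 c hc0) = 3 ^ (1 + 1) := by
      apply orderOf_eq_prime_pow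
      · intro h
        apply hμ1
        have := congrArg Units.val h
        rw [pow_one] at this
        simpa [hcμ] using this
      · apply Units.ext
        rw [Units.val_pow_eq_pow_val, Units.val_mk0, Units.val_one, pow_succ, pow_one, pow_mul, hcμ,
          hμ3]
    apply h9q
    have := orderOf_dvd_natCard (Units.mk0 c hc0)
    rw [ho, Nat.card_units, Nat.card_eq_fintype_card] at this
    exact this

end

/-- Adjacency of an odd prime and the characteristic in the prime graph of PSL(n,q): let F be a finite field of characteristic p with q elements, n ≥ 2 with PSL(n,F) simple, and let r ≠ p be an odd prime dividing the order of PSL(n,F), with k the multiplicative order of q modulo r. Then PSL(n,F) has NO element of order r·p if and only if either k > n − 2, or n = 3, r = 3 and 3 divides q − 1 exactly once. -/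
theorem result {F : Type*} [Field F] [Fintype F] (p : ℕ) [Fact p.Prime] [CharP F p] (n : ℕ) (hn : 2 ≤ n) (hsmall : n = 2 → 4 ≤ Fintype.card F)
    (r : ℕ) (hr : r.Prime) (hr2 : r ≠ 2) (hrp : r ≠ p) (hrG : r ∣ Nat.card (Matrix.ProjectiveSpecialLinearGroup (Fin n) F))
    (k : ℕ) (hk : k = orderOf ((Fintype.card F : ℕ) : ZMod r)) :
    (r * p ∉ Set.range (orderOf : Matrix.ProjectiveSpecialLinearGroup (Fin n) F → ℕ)) ↔
      (n - 2 < k ∨ (n = 3 ∧ r = 3 ∧ 3 ∣ Fintype.card F - 1 ∧ ¬ 9 ∣ Fintype.card F - 1)) := by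
  have : Fact r.Prime := ⟨hr⟩
  have hp : p.Prime := Fact.out
  have hq1 : 1 ≤ Fintype.card F := Fintype.card_pos
  have hq2 : 2 ≤ Fintype.card F := Fintype.one_lt_card
  -- k is positive
  have hk1 : 1 ≤ k := by
    obtain ⟨i, hi1, -, his⟩ := exists_dvd_pow_sub_one_of_dvd_card_PSL p n (by omega) r hr hrp hrG
    rw [dvd_pow_sub_one_iff r _ _ hq1, ← hk] at his
    rcases Nat.eq_zero_or_pos k with h0 | h0
    · rw [h0, zero_dvd_iff] at his
      omega
    · exact h0
  constructor
  · intro hno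
    by_contra hcon
    push Not at hcon
    obtain ⟨hkn, hexc⟩ := hcon
    apply hno
    have hn3 : 3 ≤ n := by omega
    by_cases hrq : r ∣ Fintype.card F - 1
    · obtain ⟨x, hx⟩ := exists_PSL_orderOf_of_dvd_sub_one (F := F) p r hr hrp n hn3 hrq
        (fun h1 h2 => hexc h1 h2 (by rw [← h2]; exact hrq))
      exact ⟨x, hx⟩
    · have hk0 : k ≠ 0 := by omega
      have : NeZero k := ⟨hk0⟩
      have hrk : r ∣ Nat.card F ^ k - 1 := by
        rw [Nat.card_eq_fintype_card, dvd_pow_sub_one_iff r _ _ hq1, ← hk]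
      have hk2 : 2 ≤ k := by
        by_contra hlt
        have hk1' : k = 1 := by omega
        rw [hk1', pow_one, Nat.card_eq_fintype_card] at hrk
        exact hrq hrk
      obtain ⟨u1, hu1⟩ := exists_unit_orderOf (F := F) p k r hrk
      obtain ⟨g, hg⟩ := exists_GL_orderOf_mul_char (F := F) p (FiniteField.Extension F p k) n
        (by rw [FiniteField.finrank_extension]; omega) u1
      have hrpcop : r.Coprime p := (Nat.coprime_primes hr hp).mpr hrp
      rw [hu1, Nat.Coprime.lcm_eq_mul hrpcop] at hg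
      have hpq : ¬ p ∣ Fintype.card F - 1 := by
        intro h
        obtain ⟨f, hf⟩ := FiniteField.card F p
        have h1 : p ∣ Fintype.card F := by
          rw [hf.2]
          exact dvd_pow_self p f.ne_zero
        have h2 : p ∣ 1 := by
          have h3 := Nat.dvd_sub h1 h
          have h4 : Fintype.card F - (Fintype.card F - 1) = 1 := by omega
          rwa [h4] at h3
        exact hp.one_lt.ne' (Nat.dvd_one.mp h2)
      have hcop : (r * p).Coprime (Fintype.card F - 1) :=
        Nat.Coprime.mul_left ((Nat.Prime.coprime_iff_not_dvd hr).mpr hrq)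
          ((Nat.Prime.coprime_iff_not_dvd hp).mpr hpq)
      obtain ⟨x, hx⟩ := exists_PSL_orderOf g (r * p) hg hcop
      exact ⟨x, hx⟩
  · rintro hcases ⟨x, hx⟩
    rcases hcases with hkn | ⟨rfl, rfl, h3q, h9q⟩
    · by_cases hn2 : n = 2
      · subst hn2
        exact no_two p r hr hr2 hrp x hx
      · exact no_large p n (by omega) r hr hrp k hk hkn x hx
    · exact no_three p (Ne.symm hrp) h3q h9q x hx

end Cfsg.Agent.S2470
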