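import Cfsg.Statements.S2471
import Cfsg.Agent.Lib.Helper41.SL2

set_option autoImplicit false
open Cfsg

namespace Cfsg.Agent.S2471

open Cfsg.Agent.Helper41 Matrix

variable {F : Type*} [Field F]

theorem pow_char_of_sq_zero (p : ℕ) [Fact p.Prime] [CharP F p] (hp : p ≠ 2)
    (M : Matrix (Fin 2) (Fin 2) F) (c : Matrix (Fin 2) (Fin 2) F) (hc : c = 1 ∨ c = -1)
    (h : (M - c) ^ 2 = 0) : M ^ p = 1 ∨ M ^ p = -1 := by
  haveI : CharP (Matrix (Fin 2) (Fin 2) F) p := Matrix.charP p
  have hp2 : 2 ≤ p := (Fact.out : p.Prime).two_le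
  have hodd : Odd p := (Fact.out : p.Prime).odd_of_ne_two hp
  have hcomm : Commute M c := by
    rcases hc with rfl | rfl
    · exact Commute.one_right M
    · exact (Commute.one_right M).neg_right
  have h1 : (M - c) ^ p = 0 := by
    obtain ⟨k, hk⟩ := Nat.exists_eq_add_of_le hp2
    rw [hk, pow_add, h, zero_mul]
  rw [sub_pow_char_of_commute p hcomm, sub_eq_zero] at h1
  rcases hc with rfl | rfl
  · left; simpa using h1
  · right; rw [h1, hodd.neg_one_pow]

/-- In PSL(2,q) with q odd, the characteristic p is isolated from 2 in the prime graph: for F a finite field of odd characteristic p with at least 5 elements, PSL(2,F) has no element of order 2p. -/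
theorem result {F : Type*} [Field F] [Fintype F] (p : ℕ) [Fact p.Prime] [CharP F p] (hp : p ≠ 2) (h5 : 5 ≤ Fintype.card F) (g : Matrix.ProjectiveSpecialLinearGroup (Fin 2) F) :
    orderOf g ≠ 2 * p := by
  intro hord
  have hpp : p.Prime := Fact.out
  have hp2 : 2 ≤ p := hpp.two_le
  have hodd : Odd p := hpp.odd_of_ne_two hp
  haveI : CharP (Matrix (Fin 2) (Fin 2) F) p := Matrix.charP p
  obtain ⟨A, rfl⟩ := psl2_exists_rep g
  set M : Matrix (Fin 2) (Fin 2) F := (A : Matrix (Fin 2) (Fin 2) F) with hM
  have hdet : M.det = 1 := A.2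
  have hCH := sq_eq_of_det_one M hdet
  set t := M.trace with ht
  -- it suffices to show the p-th power or the square is trivial
  have key : (M ^ p = 1 ∨ M ^ p = -1) ∨ (M ^ 2 = 1 ∨ M ^ 2 = -1) → False := by
    rintro (h | h)
    · have := (psl2_mk_pow_eq_one_iff A p).mpr h
      have hdvd := orderOf_dvd_of_pow_eq_one this
      rw [hord] at hdvd
      have := Nat.le_of_dvd hpp.pos hdvd
      omega
    · have := (psl2_mk_pow_eq_one_iff A 2).mpr h
      have hdvd := orderOf_dvd_of_pow_eq_one this
      rw [hord] at hdvd
      have := Nat.le_of_dvd (by norm_num) hdvd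
      omega
  apply key
  have h2p : M ^ (2 * p) = 1 ∨ M ^ (2 * p) = -1 := by
    rw [← psl2_mk_pow_eq_one_iff, ← hord]
    exact pow_orderOf_eq_one _
  have h2ne : (2 : F) ≠ 0 := by
    intro h2
    have : (p : ℕ) ∣ 2 := (CharP.cast_eq_zero_iff F p 2).mp (by exact_mod_cast h2)
    have := (Nat.prime_dvd_prime_iff_eq hpp Nat.prime_two).mp this
    exact hp this
  by_cases ht4 : t ^ 2 = 4
  · left
    have : (t - 2) * (t + 2) = 0 := by linear_combination ht4
    rcases mul_eq_zero.mp this with h | h
    · have ht2 : t = 2 := by linear_combination h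
      apply pow_char_of_sq_zero p hp M 1 (Or.inl rfl)
      rw [(Commute.one_right M).sub_sq, hCH, ht2]
      simp only [one_pow, mul_one]
      rw [two_smul, two_mul]
      abel
    · have ht2 : t = -2 := by linear_combination h
      apply pow_char_of_sq_zero p hp M (-1) (Or.inr rfl)
      rw [sub_neg_eq_add, (Commute.one_right M).add_sq, hCH, ht2]
      simp only [one_pow, mul_one, neg_smul]
      rw [two_smul, two_mul]
      abel
  · right
    -- the nilpotent trick
    have hnil : ∀ c : F, (c = 1 ∨ c = -1) → M ^ (2 * p) = c • (1 : Matrix (Fin 2) (Fin 2) F) →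
        IsNilpotent (M ^ 2 - c • (1 : Matrix (Fin 2) (Fin 2) F)) := by
      intro c hc h
      refine ⟨p, ?_⟩
      have hcomm : Commute (M ^ 2) (c • (1 : Matrix (Fin 2) (Fin 2) F)) := by
        apply Commute.smul_right
        exact Commute.one_right _
      rw [sub_pow_char_of_commute p hcomm, ← pow_mul, h, smul_pow, one_pow]
      have : c ^ p = c := by
        rcases hc with rfl | rfl
        · simp
        · exact hodd.neg_one_pow
      rw [this, sub_self]
    rcases h2p with h | h
    · exfalso
      have hn := hnil 1 (Or.inl rfl) (by rw [h, one_smul])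
      have htr := (Matrix.isNilpotent_trace_of_isNilpotent hn).eq_zero
      rw [hCH, one_smul] at htr
      simp only [Matrix.trace_sub, Matrix.trace_smul, Matrix.trace_one, Fintype.card_fin,
        smul_eq_mul] at htr
      apply ht4
      rw [← ht] at htr
      push_cast at htr
      linear_combination htr
    · right
      have hn := hnil (-1) (Or.inr rfl) (by rw [h, neg_one_smul])
      have htr := (Matrix.isNilpotent_trace_of_isNilpotent hn).eq_zero
      rw [hCH, neg_one_smul] at htr
      simp only [Matrix.trace_sub, Matrix.trace_smul, Matrix.trace_one, Fintype.card_fin,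
        smul_eq_mul, Matrix.trace_neg, sub_neg_eq_add, sub_add_cancel] at htr
      rw [← ht] at htr
      have ht0 : t = 0 := by
        have : t * t = 0 := htr
        exact mul_self_eq_zero.mp this
      rw [hCH, ht0, zero_smul, zero_sub]

end Cfsg.Agent.S2471
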