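import Cfsg.Statements.S2475
import Cfsg.Agent.Lib.Helper41.SL2Tori

set_option autoImplicit false
open Cfsg

namespace Cfsg.Agent.S2475

open Cfsg.Agent.Helper41

theorem exists_orderOf_of_dvd {G : Type*} [Group G] (g : G) (m : ℕ) (h0 : orderOf g ≠ 0)
    (hm : m ∣ orderOf g) : ∃ g' : G, orderOf g' = m := by
  obtain ⟨c, hc⟩ := hm
  have hc0 : c ≠ 0 := by rintro rfl; rw [mul_zero] at hc; exact h0 hc
  refine ⟨g ^ c, ?_⟩
  rw [orderOf_pow_of_dvd hc0 ⟨m, by rw [hc, mul_comm]⟩, hc]
  exact Nat.mul_div_cancel _ (Nat.pos_of_ne_zero hc0)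

/-- The set of element orders of PSL(2,q): let F be a finite field of characteristic p with q ≥ 4 elements and d = gcd(2, q − 1). The orders of elements of PSL(2,F) are exactly the divisors of p, of (q − 1)/d and of (q + 1)/d. -/
theorem result {F : Type*} [Field F] [Fintype F] (p : ℕ) [Fact p.Prime] [CharP F p] (h4 : 4 ≤ Fintype.card F) :
    Set.range (orderOf : Matrix.ProjectiveSpecialLinearGroup (Fin 2) F → ℕ) =
      {m : ℕ | m ∣ p ∨ m ∣ (Fintype.card F - 1) / Nat.gcd 2 (Fintype.card F - 1) ∨ m ∣ (Fintype.card F + 1) / Nat.gcd 2 (Fintype.card F - 1)} := by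
  ext m
  simp only [Set.mem_range, Set.mem_setOf_eq]
  constructor
  · rintro ⟨g, rfl⟩
    exact psl2_orderOf_dvd p g
  · obtain ⟨hd12, hdm, hdp⟩ := gcd_two_cases (Fintype.card F) Fintype.card_pos
    have hd2 : Nat.gcd 2 (Fintype.card F - 1) ≤ 2 := by rcases hd12 with h | h <;> omega
    have hd0 : 0 < Nat.gcd 2 (Fintype.card F - 1) := by rcases hd12 with h | h <;> omega
    rintro (h | h | h)
    · obtain ⟨g, hg⟩ := psl2_exists_orderOf_char (F := F) p
      exact exists_orderOf_of_dvd g m (by rw [hg]; exact (Fact.out : p.Prime).ne_zero) (hg ▸ h)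
    · obtain ⟨g, hg⟩ := psl2_exists_orderOf_split (F := F) p
      refine exists_orderOf_of_dvd g m ?_ (hg ▸ h)
      rw [hg]
      have : 0 < (Fintype.card F - 1) / Nat.gcd 2 (Fintype.card F - 1) :=
        Nat.div_pos (by omega) hd0
      omega
    · obtain ⟨g, hg⟩ := psl2_exists_orderOf_nonsplit (F := F) p
      refine exists_orderOf_of_dvd g m ?_ (hg ▸ h)
      rw [hg]
      have : 0 < (Fintype.card F + 1) / Nat.gcd 2 (Fintype.card F - 1) :=
        Nat.div_pos (by omega) hd0
      omega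

end Cfsg.Agent.S2475
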