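import Mathlib
import Cfsg.Statements.S2485

set_option autoImplicit false
set_option linter.unusedSectionVars false
set_option linter.unusedVariables false
set_option linter.style.haveILetI false
open Cfsg
open scoped Pointwise

namespace Cfsg.Agent.S2485

section helpers

open Matrix

variable {q : ℕ} [Fact q.Prime]

local notation "F" => ZMod q
local notation "Mat" => Matrix (Fin 2) (Fin 2) (ZMod q)

/-- The rotation matrix of order four. -/
def A0 (q : ℕ) : Matrix (Fin 2) (Fin 2) (ZMod q) := !![0, -1; 1, 0]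

theorem A0_00 : A0 q 0 0 = 0 := rfl
theorem A0_01 : A0 q 0 1 = -1 := rfl
theorem A0_10 : A0 q 1 0 = 1 := rfl
theorem A0_11 : A0 q 1 1 = 0 := rfl

theorem mat_ext (M N : Mat) (h00 : M 0 0 = N 0 0) (h01 : M 0 1 = N 0 1) (h10 : M 1 0 = N 1 0)
    (h11 : M 1 1 = N 1 1) : M = N := by
  ext i j
  fin_cases i <;> fin_cases j <;> assumption

theorem mul_A0_apply (M : Mat) :
    (M * A0 q) 0 0 = M 0 1 ∧ (M * A0 q) 0 1 = -M 0 0 ∧ (M * A0 q) 1 0 = M 1 1 ∧
      (M * A0 q) 1 1 = -M 1 0 := by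
  simp only [Matrix.mul_apply, Fin.sum_univ_two, A0_00, A0_01, A0_10, A0_11]
  refine ⟨?_, ?_, ?_, ?_⟩ <;> ring

theorem A0_mul_apply (M : Mat) :
    (A0 q * M) 0 0 = -M 1 0 ∧ (A0 q * M) 0 1 = -M 1 1 ∧ (A0 q * M) 1 0 = M 0 0 ∧
      (A0 q * M) 1 1 = M 0 1 := by
  simp only [Matrix.mul_apply, Fin.sum_univ_two, A0_00, A0_01, A0_10, A0_11]
  refine ⟨?_, ?_, ?_, ?_⟩ <;> ring

theorem A0_sq : A0 q * A0 q = -1 := by
  apply mat_ext
  · rw [(mul_A0_apply (A0 q)).1]; simp [A0_01]
  · rw [(mul_A0_apply (A0 q)).2.1]; simp [A0_00]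
  · rw [(mul_A0_apply (A0 q)).2.2.1]; simp [A0_11]
  · rw [(mul_A0_apply (A0 q)).2.2.2]; simp [A0_10]

theorem commute_entries (M : Mat) (h : M * A0 q = A0 q * M) :
    M 0 1 = -M 1 0 ∧ M 1 1 = M 0 0 := by
  have h00 := congrFun (congrFun h 0) 0
  have h01 := congrFun (congrFun h 0) 1
  rw [(mul_A0_apply M).1, (A0_mul_apply M).1] at h00
  rw [(mul_A0_apply M).2.1, (A0_mul_apply M).2.1] at h01
  exact ⟨h00, (neg_injective h01).symm⟩

theorem anticommute_entries (M : Mat) (h : M * A0 q = -(A0 q * M)) :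
    M 0 1 = M 1 0 ∧ M 1 1 = -M 0 0 := by
  have h00 := congrFun (congrFun h 0) 0
  have h01 := congrFun (congrFun h 0) 1
  rw [Matrix.neg_apply, (mul_A0_apply M).1, (A0_mul_apply M).1, neg_neg] at h00
  rw [Matrix.neg_apply, (mul_A0_apply M).2.1, (A0_mul_apply M).2.1, neg_neg] at h01
  exact ⟨h00, h01.symm⟩

theorem anticommute_sq (M : Mat) (h : M * A0 q = -(A0 q * M)) :
    M * M = (M 0 0 * M 0 0 + M 1 0 * M 1 0) • (1 : Mat) := by
  obtain ⟨e1, e2⟩ := anticommute_entries M h
  apply mat_ext <;>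
    simp only [Matrix.mul_apply, Fin.sum_univ_two, Matrix.smul_apply, Matrix.one_apply_eq,
      Matrix.one_apply_ne, ne_eq, one_ne_zero, zero_ne_one, not_false_eq_true, smul_eq_mul,
      Fin.isValue, e1, e2] <;> ring

theorem anticommute_det (M : Mat) (h : M * A0 q = -(A0 q * M)) :
    M.det = -(M 0 0 * M 0 0 + M 1 0 * M 1 0) := by
  obtain ⟨e1, e2⟩ := anticommute_entries M h
  rw [Matrix.det_fin_two, e1, e2]
  ring


theorem sum_sq_eq_zero (hq3 : q % 4 = 3) (a b : F) (h : a * a + b * b = 0) : a = 0 ∧ b = 0 := by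
  by_cases hb : b = 0
  · subst hb
    simp only [mul_zero, add_zero] at h
    exact ⟨mul_self_eq_zero.mp h, rfl⟩
  · exfalso
    have hns : ¬ IsSquare (-1 : F) := by
      rw [ZMod.exists_sq_eq_neg_one_iff]
      simpa using hq3
    apply hns
    refine ⟨a * b⁻¹, ?_⟩
    field_simp
    linear_combination -h

theorem A0_pow_q (hq3 : q % 4 = 3) : A0 q ^ q = -A0 q := by
  obtain ⟨m, hm⟩ : ∃ m, q = 4 * m + 3 := ⟨q / 4, by omega⟩
  have h2 : A0 q ^ 2 = -1 := by rw [pow_two, A0_sq]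
  have h4 : A0 q ^ 4 = 1 := by
    have : A0 q ^ 4 = (A0 q ^ 2) ^ 2 := by rw [← pow_mul]
    rw [this, h2]; simp
  have h3 : A0 q ^ 3 = -A0 q := by
    rw [pow_succ, h2]; simp
  rw [congrArg (fun n => A0 q ^ n) hm]
  rw [pow_add, pow_mul, h4, one_pow, one_mul, h3]

theorem commute_pow (hq3 : q % 4 = 3) (M : Mat) (h : M * A0 q = A0 q * M) :
    M ^ (q + 1) = (M 0 0 * M 0 0 + M 1 0 * M 1 0) • (1 : Mat) := by
  obtain ⟨e1, e2⟩ := commute_entries M h
  have hM : M = (M 0 0) • (1 : Mat) + (M 1 0) • A0 q := by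
    apply mat_ext <;>
      simp only [Matrix.add_apply, Matrix.smul_apply, Matrix.one_apply_eq, Matrix.one_apply_ne,
        ne_eq, one_ne_zero, zero_ne_one, not_false_eq_true, smul_eq_mul, Fin.isValue,
        A0_00, A0_01, A0_10, A0_11, e1, e2] <;> ring
  have hcomm : Commute ((M 0 0) • (1 : Mat)) ((M 1 0) • A0 q) := by
    apply Commute.smul_left
    apply Commute.smul_right
    exact Commute.one_left _
  have hq : M ^ q = (M 0 0) • (1 : Mat) - (M 1 0) • A0 q := by
    conv_lhs => rw [hM]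
    rw [add_pow_char_of_commute q hcomm, smul_pow, smul_pow, one_pow, ZMod.pow_card, ZMod.pow_card,
      A0_pow_q hq3, smul_neg, sub_eq_add_neg]
  rw [pow_succ, hq]
  apply mat_ext <;>
    simp only [Matrix.mul_apply, Fin.sum_univ_two, Matrix.sub_apply, Matrix.smul_apply,
      Matrix.one_apply_eq, Matrix.one_apply_ne, ne_eq, one_ne_zero, zero_ne_one,
      not_false_eq_true, smul_eq_mul, Fin.isValue, A0_00, A0_01, A0_10, A0_11, e1, e2] <;> ring

/-- The normalizer of the non-split torus: matrices commuting or anticommuting with `A0`. -/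
def N0 (q : ℕ) [Fact q.Prime] : Subgroup (GL (Fin 2) (ZMod q)) where
  carrier := {g | g.val * A0 q = A0 q * g.val ∨ g.val * A0 q = -(A0 q * g.val)}
  mul_mem' {g h} hg hh := by
    simp only [Set.mem_ofPred_eq, Units.val_mul] at *
    rcases hg with hg | hg <;> rcases hh with hh | hh
    · left; rw [mul_assoc, hh, ← mul_assoc, hg, mul_assoc]
    · right; rw [mul_assoc, hh, mul_neg, ← mul_assoc, hg, mul_assoc]
    · right; rw [mul_assoc, hh, ← mul_assoc, hg, neg_mul, mul_assoc]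
    · left; rw [mul_assoc, hh, mul_neg, ← mul_assoc, hg, neg_mul, neg_neg, mul_assoc]
  one_mem' := by
    simp only [Set.mem_ofPred_eq, Units.val_one, one_mul, mul_one, true_or]
  inv_mem' {g} hg := by
    simp only [Set.mem_ofPred_eq] at *
    have h1 : (g⁻¹).val * g.val = 1 := by
      rw [← Units.val_mul, inv_mul_cancel, Units.val_one]
    have h2 : g.val * (g⁻¹).val = 1 := by
      rw [← Units.val_mul, mul_inv_cancel, Units.val_one]
    rcases hg with hg | hg
    · left
      calc (g⁻¹).val * A0 q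
          = (g⁻¹).val * (A0 q * g.val) * (g⁻¹).val := by
            rw [mul_assoc, mul_assoc, h2, mul_one]
        _ = (g⁻¹).val * (g.val * A0 q) * (g⁻¹).val := by rw [hg]
        _ = A0 q * (g⁻¹).val := by
            rw [← mul_assoc, h1, one_mul]
    · right
      calc (g⁻¹).val * A0 q
          = (g⁻¹).val * (A0 q * g.val) * (g⁻¹).val := by
            rw [mul_assoc, mul_assoc, h2, mul_one]
        _ = (g⁻¹).val * (-(g.val * A0 q)) * (g⁻¹).val := by
            rw [hg, neg_neg]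
        _ = -(A0 q * (g⁻¹).val) := by
            rw [mul_neg, neg_mul, ← mul_assoc, h1, one_mul]

theorem mem_N0 {g : GL (Fin 2) (ZMod q)} :
    g ∈ N0 q ↔ g.val * A0 q = A0 q * g.val ∨ g.val * A0 q = -(A0 q * g.val) :=
  Iff.rfl

theorem central_of_scalar (g : GL (Fin 2) (ZMod q)) (n : ℕ) (s : F)
    (h : g.val ^ n = s • (1 : Mat)) : g ^ n ∈ Subgroup.center (GL (Fin 2) (ZMod q)) := by
  rw [Subgroup.mem_center_iff]
  intro k
  apply Units.ext
  rw [Units.val_mul, Units.val_mul, Units.val_pow_eq_pow_val, h]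
  rw [mul_smul_comm, smul_mul_assoc, mul_one, one_mul]

theorem pow_mem_center (hq3 : q % 4 = 3) (k : ℕ) (hk : q + 1 = 2 ^ k)
    (g : GL (Fin 2) (ZMod q)) (hg : g ∈ N0 q) :
    g ^ (2 ^ k) ∈ Subgroup.center (GL (Fin 2) (ZMod q)) := by
  rcases hg with hg | hg
  · rw [← hk]
    exact central_of_scalar g (q + 1) _ (commute_pow hq3 _ hg)
  · have hk1 : 1 ≤ k := by
      rcases k with _ | k
      · have := (Fact.out : q.Prime).two_le
        simp at hk; omega
      · omega
    have h2 : g ^ 2 ∈ Subgroup.center (GL (Fin 2) (ZMod q)) := by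
      apply central_of_scalar g 2 _
      rw [pow_two]
      exact anticommute_sq _ hg
    have : g ^ (2 ^ k) = (g ^ 2) ^ (2 ^ (k - 1)) := by
      rw [← pow_mul, ← pow_succ']
      congr 2; omega
    rw [this]
    exact Subgroup.pow_mem _ h2 _


theorem not_center_of_anticommute (hq2 : (2 : F) ≠ 0) (g h : GL (Fin 2) (ZMod q))
    (hgh : g.val * h.val = -(h.val * g.val)) : g ∉ Subgroup.center (GL (Fin 2) (ZMod q)) := by
  intro hc
  rw [Subgroup.mem_center_iff] at hc
  have h1 := congrArg Units.val (hc h)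
  rw [Units.val_mul, Units.val_mul] at h1
  have h2 : (h * g).val + (h * g).val = 0 := by
    rw [Units.val_mul]
    nth_rewrite 1 [h1]
    rw [hgh, neg_add_cancel]
  have h3 : ((h * g)⁻¹).val * ((h * g).val + (h * g).val) = 0 := by rw [h2, mul_zero]
  rw [mul_add, ← Units.val_mul, inv_mul_cancel, Units.val_one] at h3
  have h4 := congrFun (congrFun h3 0) 0
  simp only [Matrix.add_apply, Matrix.one_apply_eq, Matrix.zero_apply] at h4
  apply hq2
  rw [← h4]; ring

/-- `A0` as an invertible matrix. -/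
noncomputable def A0u (q : ℕ) [Fact q.Prime] : GL (Fin 2) (ZMod q) :=
  Matrix.GeneralLinearGroup.mkOfDetNeZero (A0 q) (by
    rw [Matrix.det_fin_two, A0_00, A0_01, A0_10, A0_11]; simp)

theorem A0u_val : (A0u q).val = A0 q := rfl

/-- The reflection. -/
def J0 (q : ℕ) : Matrix (Fin 2) (Fin 2) (ZMod q) := !![1, 0; 0, -1]

noncomputable def J0u (q : ℕ) [Fact q.Prime] : GL (Fin 2) (ZMod q) :=
  Matrix.GeneralLinearGroup.mkOfDetNeZero (J0 q) (by
    rw [Matrix.det_fin_two]; simp [J0])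

theorem J0u_val : (J0u q).val = J0 q := rfl

theorem A0_mul_J0 : A0 q * J0 q = -(J0 q * A0 q) := by
  apply mat_ext <;> simp [A0, J0, Matrix.mul_apply, Fin.sum_univ_two]

theorem conj_mem (y g : GL (Fin 2) (ZMod q))
    (h : g.val * (y.val * A0 q * (y⁻¹).val) = (y.val * A0 q * (y⁻¹).val) * g.val ∨
      g.val * (y.val * A0 q * (y⁻¹).val) = -((y.val * A0 q * (y⁻¹).val) * g.val)) :
    y⁻¹ * g * y ∈ N0 q := by
  have h1 : (y⁻¹).val * y.val = 1 := by rw [← Units.val_mul, inv_mul_cancel, Units.val_one]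
  have h2 : y.val * (y⁻¹).val = 1 := by rw [← Units.val_mul, mul_inv_cancel, Units.val_one]
  rw [mem_N0]
  simp only [Units.val_mul]
  have e1 : (y⁻¹).val * g.val * y.val * A0 q
      = (y⁻¹).val * (g.val * (y.val * A0 q * (y⁻¹).val)) * y.val := by
    simp only [mul_assoc]
    rw [h1, mul_one]
  have e2 : A0 q * ((y⁻¹).val * g.val * y.val)
      = (y⁻¹).val * ((y.val * A0 q * (y⁻¹).val) * g.val) * y.val := by
    simp only [← mul_assoc]
    rw [h1, one_mul]
  rcases h with h | h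
  · left
    rw [e1, e2, h]
  · right
    rw [e1, e2, h]
    simp only [mul_neg, neg_mul]

theorem core (hq3 : q % 4 = 3) (hq2 : (2 : F) ≠ 0) (y : GL (Fin 2) (ZMod q)) :
    ∃ g ∈ N0 q, g ∉ Subgroup.center (GL (Fin 2) (ZMod q)) ∧ y⁻¹ * g * y ∈ N0 q := by
  have h1 : (y⁻¹).val * y.val = 1 := by rw [← Units.val_mul, inv_mul_cancel, Units.val_one]
  have h2 : y.val * (y⁻¹).val = 1 := by rw [← Units.val_mul, mul_inv_cancel, Units.val_one]
  obtain ⟨B, hB⟩ : ∃ B : Mat, B = y.val * A0 q * (y⁻¹).val := ⟨_, rfl⟩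
  have hBB : B * B = -1 := by
    have : B * B = y.val * (A0 q * ((y⁻¹).val * y.val) * A0 q) * (y⁻¹).val := by
      rw [hB]; simp only [mul_assoc]
    rw [this, h1, mul_one, A0_sq, mul_neg, mul_one, neg_mul, h2]
  by_cases hc : A0 q * B = B * A0 q
  · refine ⟨A0u q, Or.inl rfl, ?_, ?_⟩
    · apply not_center_of_anticommute hq2 (A0u q) (J0u q)
      rw [A0u_val, J0u_val]
      exact A0_mul_J0
    · apply conj_mem
      left
      rw [A0u_val, ← hB]
      exact hc
  · obtain ⟨D, hD⟩ : ∃ D : Mat, D = A0 q * B - B * A0 q := ⟨_, rfl⟩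
    have hDA : D * A0 q = -(A0 q * D) := by
      have e1 : D * A0 q = A0 q * B * A0 q + B := by
        rw [hD, sub_mul, mul_assoc B, A0_sq, mul_neg, mul_one, sub_neg_eq_add]
      have e2 : A0 q * D = -B - A0 q * B * A0 q := by
        rw [hD, mul_sub, ← mul_assoc, A0_sq, neg_mul, one_mul, ← mul_assoc]
      rw [e1, e2]; abel
    have hDB : D * B = -(B * D) := by
      have e1 : D * B = -A0 q - B * A0 q * B := by
        rw [hD, sub_mul, mul_assoc (A0 q), hBB, mul_neg, mul_one]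
      have e2 : B * D = B * A0 q * B + A0 q := by
        rw [hD, mul_sub, ← mul_assoc, ← mul_assoc, hBB, neg_mul, one_mul, sub_neg_eq_add]
      rw [e1, e2]; abel
    have hdet : D.det ≠ 0 := by
      rw [anticommute_det D hDA]
      intro h0
      have h0' : D 0 0 * D 0 0 + D 1 0 * D 1 0 = 0 := by
        have := neg_eq_zero.mp h0
        exact this
      obtain ⟨z1, z2⟩ := sum_sq_eq_zero hq3 _ _ h0'
      obtain ⟨e1, e2⟩ := anticommute_entries D hDA
      apply hc
      have hD0 : D = 0 := by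
        apply mat_ext
        · exact z1
        · rw [e1, z2]; rfl
        · exact z2
        · rw [e2, z1]; simp
      rw [hD] at hD0
      exact sub_eq_zero.mp hD0
    set g : GL (Fin 2) (ZMod q) := Matrix.GeneralLinearGroup.mkOfDetNeZero D hdet with hg
    have hgv : g.val = D := rfl
    refine ⟨g, Or.inr (by rw [hgv]; exact hDA), ?_, ?_⟩
    · apply not_center_of_anticommute hq2 g (A0u q)
      rw [hgv, A0u_val]
      exact hDA
    · apply conj_mem
      right
      rw [hgv, ← hB]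
      exact hDB

end helpers

/-- Let q = 2^k − 1 ≥ 7 be a prime and let G = PGL(2,q), the general linear group of degree 2 over the field with q elements modulo its centre. Then any two Sylow 2-subgroups of G have a non-trivial intersection: for a Sylow 2-subgroup H and every x ∈ G, H ∩ H^x ≠ 1. -/
theorem result {q k : ℕ} [Fact q.Prime] (hk : q + 1 = 2 ^ k) (hq : 7 ≤ q)
    (H : Sylow 2 (GL (Fin 2) (ZMod q) ⧸ Subgroup.center (GL (Fin 2) (ZMod q))))
    (x : GL (Fin 2) (ZMod q) ⧸ Subgroup.center (GL (Fin 2) (ZMod q))) :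
    (H : Subgroup (GL (Fin 2) (ZMod q) ⧸ Subgroup.center (GL (Fin 2) (ZMod q)))) ⊓ MulAut.conj x • (H : Subgroup _) ≠ ⊥ := by
  have hq3 : q % 4 = 3 := by
    have hk3 : 3 ≤ k := by
      by_contra hlt
      push Not at hlt
      have : 2 ^ k ≤ 2 ^ 2 := Nat.pow_le_pow_right (by norm_num) (by omega)
      omega
    obtain ⟨j, rfl⟩ : ∃ j, k = j + 3 := ⟨k - 3, by omega⟩
    have : 2 ^ (j + 3) = 8 * 2 ^ j := by ring
    omega
  have hq2 : (2 : ZMod q) ≠ 0 := by
    intro h
    have h' : ((2 : ℕ) : ZMod q) = 0 := by exact_mod_cast h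
    rw [ZMod.natCast_eq_zero_iff] at h'
    have := Nat.le_of_dvd (by norm_num) h'
    omega
  set π := QuotientGroup.mk' (Subgroup.center (GL (Fin 2) (ZMod q))) with hπ
  have hS0 : IsPGroup 2 ((N0 q).map π) := by
    rintro ⟨s, hs⟩
    obtain ⟨g, hg, rfl⟩ := hs
    refine ⟨k, Subtype.ext ?_⟩
    simp only [Subgroup.coe_pow, Subgroup.coe_one]
    rw [← map_pow]
    exact (QuotientGroup.eq_one_iff _).mpr (pow_mem_center hq3 k hk g hg)
  obtain ⟨P, hP⟩ := hS0.exists_le_sylow
  obtain ⟨a, ha⟩ := MulAction.exists_smul_eq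
    (GL (Fin 2) (ZMod q) ⧸ Subgroup.center (GL (Fin 2) (ZMod q))) P H
  obtain ⟨y, hy⟩ := QuotientGroup.mk'_surjective (Subgroup.center (GL (Fin 2) (ZMod q)))
    (a⁻¹ * x * a)
  obtain ⟨g, hg, hgc, hgy⟩ := core hq3 hq2 y
  intro hbot
  have ht1 : a * π g * a⁻¹ ∈ (H : Subgroup _) := by
    rw [← ha, Sylow.coe_subgroup_smul, Subgroup.mem_pointwise_smul_iff_inv_smul_mem]
    simp only [MulAut.smul_def, MulAut.conj_inv_apply]
    apply hP
    have : a⁻¹ * (a * π g * a⁻¹) * a = π g := by group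
    rw [this]
    exact Subgroup.mem_map_of_mem π hg
  have ht2 : a * π g * a⁻¹ ∈ MulAut.conj x • (H : Subgroup _) := by
    rw [Subgroup.mem_pointwise_smul_iff_inv_smul_mem, ← ha, Sylow.coe_subgroup_smul,
      Subgroup.mem_pointwise_smul_iff_inv_smul_mem]
    simp only [MulAut.smul_def, MulAut.conj_inv_apply]
    apply hP
    have : a⁻¹ * (x⁻¹ * (a * π g * a⁻¹) * x) * a = π (y⁻¹ * g * y) := by
      rw [map_mul, map_mul, map_inv, hy]; group
    rw [this]
    exact Subgroup.mem_map_of_mem π hgy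
  have hmem : a * π g * a⁻¹ ∈ (⊥ : Subgroup _) := by
    rw [← hbot]; exact ⟨ht1, ht2⟩
  rw [Subgroup.mem_bot] at hmem
  have h1 : π g = 1 := by
    calc π g = a⁻¹ * (a * π g * a⁻¹) * a := by group
      _ = 1 := by rw [hmem]; group
  exact hgc ((QuotientGroup.eq_one_iff g).mp h1)

end Cfsg.Agent.S2485
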