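import Mathlib
import Cfsg.Statements.S2486
import Cfsg.Agent.Lib.Helper23.GLBigCell

set_option autoImplicit false
open scoped Pointwise
open Cfsg

namespace Cfsg.Agent.S2486

/-- Let n ≥ 4 and let G be a finite group with a normal subgroup N of index 2 isomorphic to SL(n,2) and with trivial centralizer in G (so G is the extension of the simple group L_n(2) by its inverse-transpose automorphism, its full automorphism group). Then any two Sylow 2-subgroups of G have a non-trivial intersection: for a Sylow 2-subgroup H and every x ∈ G, H ∩ H^x ≠ 1. -/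
theorem result {G : Type*} [Group G] [Finite G] {n : ℕ} (hn : 4 ≤ n) (N : Subgroup G) [N.Normal]
    (e : N ≃* Matrix.SpecialLinearGroup (Fin n) (ZMod 2)) (hidx : N.index = 2)
    (hC : Subgroup.centralizer (N : Set G) = ⊥)
    (H : Sylow 2 G) (x : G) :
    (H : Subgroup G) ⊓ MulAut.conj x • (H : Subgroup G) ≠ ⊥ := by
  classical
  let ψ : N →* GL (Fin n) (ZMod 2) :=
    (Matrix.SpecialLinearGroup.toGL).comp e.toMonoidHom
  have hψ : Function.Bijective ψ :=
    Cfsg.Agent.Helper23.GLBigCell.toGL_bijective.comp e.bijective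
  let Φ : N ≃* GL (Fin n) (ZMod 2) := MulEquiv.ofBijective ψ hψ
  let φ : GL (Fin n) (ZMod 2) →* G := N.subtype.comp Φ.symm.toMonoidHom
  have hinj : Function.Injective φ := N.subtype_injective.comp Φ.symm.injective
  have hφN : ∀ y, φ y ∈ N := fun y => (Φ.symm y).2
  have hsurj : ∀ g ∈ N, ∃ y, φ y = g := by
    intro g hg
    refine ⟨Φ ⟨g, hg⟩, ?_⟩
    show ((Φ.symm (Φ ⟨g, hg⟩) : N) : G) = g
    rw [MulEquiv.symm_apply_apply]
  refine Cfsg.Agent.Helper23.GLBigCell.abstract_core N hidx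
    ((upperTriangularGL n (ZMod 2)).map φ) ?_ ?_ ?_ ?_ H x
  · rintro _ ⟨y, _, rfl⟩
    exact hφN y
  · exact Cfsg.Agent.Helper23.GLBigCell.isPGroup_upperTriangular.map φ
  · intro g hg hgu
    obtain ⟨g₀, rfl⟩ := hsurj g hg
    refine Subgroup.mem_map_of_mem φ ?_
    apply Cfsg.Agent.Helper23.GLBigCell.mem_of_conj_mem
    intro u hu
    have h1 := hgu (φ u) (Subgroup.mem_map_of_mem φ hu)
    rw [← map_inv, ← map_mul, ← map_mul] at h1
    exact (Subgroup.mem_map_iff_mem hinj).mp h1
  · intro g hg h hh hgd hhd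
    obtain ⟨g₀, rfl⟩ := hsurj g hg
    obtain ⟨h₀, rfl⟩ := hsurj h hh
    have hgd' : ∀ u ∈ upperTriangularGL n (ZMod 2),
        g₀⁻¹ * u * g₀ ∈ upperTriangularGL n (ZMod 2) → u = 1 := by
      intro u hu hgu
      apply hinj
      rw [map_one]
      apply hgd (φ u) (Subgroup.mem_map_of_mem φ hu)
      rw [← map_inv, ← map_mul, ← map_mul]
      exact Subgroup.mem_map_of_mem φ hgu
    have hhd' : ∀ u ∈ upperTriangularGL n (ZMod 2),
        h₀⁻¹ * u * h₀ ∈ upperTriangularGL n (ZMod 2) → u = 1 := by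
      intro u hu hgu
      apply hinj
      rw [map_one]
      apply hhd (φ u) (Subgroup.mem_map_of_mem φ hu)
      rw [← map_inv, ← map_mul, ← map_mul]
      exact Subgroup.mem_map_of_mem φ hgu
    obtain ⟨c, hc, hcu⟩ := Cfsg.Agent.Helper23.GLBigCell.bigcell g₀ h₀ hgd' hhd'
    refine ⟨φ c, Subgroup.mem_map_of_mem φ hc, ?_⟩
    rintro _ ⟨u, hu, rfl⟩
    obtain ⟨u', hu', he⟩ := hcu u hu
    refine ⟨φ u', Subgroup.mem_map_of_mem φ hu', ?_⟩
    have := congrArg φ he
    simpa only [map_mul, map_inv] using this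

end Cfsg.Agent.S2486
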