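import Mathlib
import Cfsg.Statements.S2488
-- import your own Cfsg.Agent.* helpers here

set_option autoImplicit false
set_option linter.unusedSectionVars false
open scoped Pointwise
open Cfsg

namespace Cfsg.Agent.S2488

open Equiv

/-! ### Facts about `A₆` obtained by evaluation -/

set_option maxRecDepth 100000 in
theorem a6_pow : ∀ σ : Perm (Fin 6), Perm.sign σ = 1 →
    (σ ^ 3 = 1 ∨ σ ^ 4 = 1 ∨ σ ^ 5 = 1) := by
  decide +kernel

set_option maxRecDepth 100000 in
theorem card_pow_three : (Finset.univ.filter (fun σ : Perm (Fin 6) => σ ^ 3 = 1)).card = 81 := by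
  decide +kernel

set_option maxRecDepth 100000 in
theorem card_pow_five : (Finset.univ.filter (fun σ : Perm (Fin 6) => σ ^ 5 = 1)).card = 145 := by
  decide +kernel

/-! ### General lemmas -/

section general
variable {G : Type*} [Group G]

/-- Class size times centralizer order is the group order. -/
theorem card_class_mul_card_centralizer [Finite G] (g : G) :
    Nat.card (ConjClasses.mk g).carrier * Nat.card (Subgroup.centralizer ({g} : Set G)) =
      Nat.card G := by
  rw [Subgroup.nat_card_centralizer_nat_card_stabilizer, ← ConjAct.orbit_eq_carrier_conjClasses,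
    Nat.card_coe_set_eq, ← MulAction.index_stabilizer, mul_comm, Subgroup.card_mul_index]
  exact Nat.card_congr ConjAct.ofConjAct.toEquiv

/-- An involution normalizing a subgroup of even order centralizes a nontrivial element of it. -/
theorem exists_commute_of_even [Finite G] (C : Subgroup G) (z : G) (hz : z * z = 1)
    (hnorm : ∀ c ∈ C, z * c * z⁻¹ ∈ C) (heven : 2 ∣ Nat.card C) :
    ∃ u ∈ C, u ≠ 1 ∧ z * u = u * z := by
  classical
  have : Fintype C := Fintype.ofFinite C
  have hzinv : z⁻¹ = z := inv_eq_of_mul_eq_one_left hz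
  let σ : Equiv.Perm C :=
    { toFun := fun c => ⟨z * c.1 * z⁻¹, hnorm c.1 c.2⟩
      invFun := fun c => ⟨z * c.1 * z⁻¹, hnorm c.1 c.2⟩
      left_inv := fun c => by
        apply Subtype.ext
        show z * (z * c.1 * z⁻¹) * z⁻¹ = c.1
        rw [hzinv]
        calc z * (z * c.1 * z) * z = (z * z) * c.1 * (z * z) := by group
          _ = c.1 := by rw [hz, one_mul, mul_one]
      right_inv := fun c => by
        apply Subtype.ext
        show z * (z * c.1 * z⁻¹) * z⁻¹ = c.1
        rw [hzinv]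
        calc z * (z * c.1 * z) * z = (z * z) * c.1 * (z * z) := by group
          _ = c.1 := by rw [hz, one_mul, mul_one] }
  have hσapply : ∀ c : C, ((σ c : C) : G) = z * c.1 * z⁻¹ := fun c => rfl
  have hσ : σ ^ 2 ^ 1 = 1 := by
    ext c
    rw [pow_one, pow_two, Equiv.Perm.mul_apply, Equiv.Perm.one_apply, hσapply, hσapply, hzinv]
    calc z * (z * c.1 * z) * z = (z * z) * c.1 * (z * z) := by group
      _ = c.1 := by rw [hz, one_mul, mul_one]
  have : Fact (Nat.Prime 2) := ⟨Nat.prime_two⟩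
  have hmod := Equiv.Perm.card_compl_support_modEq hσ
  have hcard : 2 ∣ σ.supportᶜ.card := by
    rw [Nat.card_eq_fintype_card] at heven
    exact Nat.modEq_zero_iff_dvd.1 (hmod.trans (Nat.modEq_zero_iff_dvd.2 heven))
  have h1 : (1 : C) ∈ σ.supportᶜ := by
    rw [Finset.mem_compl, Equiv.Perm.mem_support, not_not]
    apply Subtype.ext
    rw [hσapply]
    simp
  have hlt : 1 < σ.supportᶜ.card := by
    have hpos : 0 < σ.supportᶜ.card := Finset.card_pos.2 ⟨1, h1⟩
    obtain ⟨k, hk⟩ := hcard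
    omega
  obtain ⟨u, hu, hu1⟩ := Finset.exists_mem_ne hlt 1
  rw [Finset.mem_compl, Equiv.Perm.mem_support, not_not] at hu
  refine ⟨u.1, u.2, fun h => hu1 (Subtype.ext h), ?_⟩
  have h2 : z * u.1 * z⁻¹ = u.1 := by rw [← hσapply, hu]
  calc z * u.1 = z * u.1 * z⁻¹ * z := by group
    _ = u.1 * z := by rw [h2]

/-- A normal subgroup of order divisible by `p` in a finite `p`-group contains a nontrivial central
element. -/
theorem exists_central_of_normal {P : Type*} [Group P] [Finite P] {p : ℕ} [Fact p.Prime]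
    (hP : IsPGroup p P) (S : Subgroup P) [S.Normal] (hS : p ∣ Nat.card S) :
    ∃ s ∈ S, s ≠ 1 ∧ ∀ g : P, g * s * g⁻¹ = s := by
  have h1 : (1 : S) ∈ MulAction.fixedPoints (ConjAct P) S := fun g => smul_one g
  obtain ⟨b, hb, hb1⟩ :=
    (hP.of_equiv ConjAct.toConjAct).exists_fixed_point_of_prime_dvd_card_of_fixed_point S hS h1
  refine ⟨b.1, b.2, fun h => hb1 (Subtype.ext h.symm), fun g => ?_⟩
  have := hb (ConjAct.toConjAct g)
  have h2 := congrArg Subtype.val this
  rw [ConjAct.Subgroup.val_conj_smul, ConjAct.smul_def, ConjAct.ofConjAct_toConjAct] at h2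
  exact h2

/-- A nontrivial normal subgroup of a finite `2`-group contains a central involution. -/
theorem exists_central_involution {P : Type*} [Group P] [Finite P]
    (hP : IsPGroup 2 P) (S : Subgroup P) [S.Normal] (hS : 2 ∣ Nat.card S) :
    ∃ z ∈ S, orderOf z = 2 ∧ ∀ g : P, g * z = z * g := by
  have : Fact (Nat.Prime 2) := ⟨Nat.prime_two⟩
  obtain ⟨s, hsS, hs1, hs⟩ := exists_central_of_normal hP S hS
  have hsZ : s ∈ S ⊓ Subgroup.center P := by
    refine ⟨hsS, ?_⟩
    show s ∈ Subgroup.center P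
    rw [Subgroup.mem_center_iff]
    intro g
    have := hs g
    calc g * s = g * s * g⁻¹ * g := by group
      _ = s * g := by rw [this]
  have hnt : Nontrivial (S ⊓ Subgroup.center P : Subgroup P) :=
    ⟨⟨⟨s, hsZ⟩, 1, fun h => hs1 (congrArg Subtype.val h)⟩⟩
  have hZ : IsPGroup 2 (S ⊓ Subgroup.center P : Subgroup P) := hP.to_subgroup _
  obtain ⟨n, hn0, hn⟩ := hZ.nontrivial_iff_card.1 hnt
  have h2 : 2 ∣ Nat.card (S ⊓ Subgroup.center P : Subgroup P) := by
    rw [hn]; exact dvd_pow_self 2 (ne_of_gt hn0)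
  obtain ⟨x, hx⟩ := exists_prime_orderOf_dvd_card' 2 h2
  refine ⟨x.1, x.2.1, ?_, ?_⟩
  · rw [Subgroup.orderOf_coe]; exact hx
  · exact Subgroup.mem_center_iff.1 x.2.2

end general

/-! ### The main argument -/

section main
variable {G : Type*} [Group G] [Finite G] (N : Subgroup G) [N.Normal]
  (e : N ≃* alternatingGroup (Fin 6)) (hidx : N.index = 4)

include e in
theorem card_N : Nat.card N = 360 := by
  rw [Nat.card_congr e.toEquiv, nat_card_alternatingGroup]
  simp [Nat.factorial]

include e hidx in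
theorem card_G : Nat.card G = 1440 := by
  rw [← N.index_mul_card, hidx, card_N N e]

include e in
theorem pow_cases {g : G} (hg : g ∈ N) : g ^ 3 = 1 ∨ g ^ 4 = 1 ∨ g ^ 5 = 1 := by
  have h := a6_pow (e ⟨g, hg⟩ : Perm (Fin 6)) (Perm.mem_alternatingGroup.1 (e ⟨g, hg⟩).2)
  have key : ∀ n : ℕ, ((e ⟨g, hg⟩ : alternatingGroup (Fin 6)) : Perm (Fin 6)) ^ n = 1 →
      g ^ n = 1 := by
    intro n hn
    have h1 : (e ⟨g, hg⟩) ^ n = 1 := Subtype.ext (by simpa using hn)
    rw [← map_pow] at h1
    have h2 : (⟨g, hg⟩ : N) ^ n = 1 := e.injective (by rw [h1, map_one])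
    simpa using congrArg Subtype.val h2
  rcases h with h | h | h
  · exact Or.inl (key 3 h)
  · exact Or.inr (Or.inl (key 4 h))
  · exact Or.inr (Or.inr (key 5 h))

include hidx in
theorem mem_of_pow_odd {g : G} {m : ℕ} (hm : Odd m) (hg : g ^ m = 1) : g ∈ N := by
  have hc : Nat.card (G ⧸ N) = 4 := by rw [← Subgroup.index_eq_card]; exact hidx
  have h4 : (QuotientGroup.mk g : G ⧸ N) ^ 4 = 1 := by
    rw [← hc]; exact pow_card_eq_one'
  have hm' : (QuotientGroup.mk g : G ⧸ N) ^ m = 1 := by
    rw [← QuotientGroup.mk_pow, hg]; rfl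
  have hd : orderOf (QuotientGroup.mk g : G ⧸ N) ∣ Nat.gcd 4 m :=
    Nat.dvd_gcd (orderOf_dvd_of_pow_eq_one h4) (orderOf_dvd_of_pow_eq_one hm')
  have hcop : Nat.gcd 4 m = 1 := by
    have h2 : Nat.Coprime 2 m := Nat.coprime_two_left.2 hm
    exact Nat.Coprime.pow_left 2 h2
  rw [hcop, Nat.dvd_one, orderOf_eq_one_iff] at hd
  exact (QuotientGroup.eq_one_iff g).1 hd

include e in
theorem not_orderOf_mul {a b : G} (ha : a ∈ N) (hb : b ∈ N) (hab : Commute a b) {p q : ℕ}
    (hp : orderOf a = p) (hq : orderOf b = q) (hcop : Nat.Coprime p q)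
    (h3 : ¬ p * q ∣ 3) (h4 : ¬ p * q ∣ 4) (h5 : ¬ p * q ∣ 5) : False := by
  have ho : orderOf (a * b) = p * q := by
    rw [hab.orderOf_mul_eq_mul_orderOf_of_coprime (by rwa [hp, hq]), hp, hq]
  rcases pow_cases N e (N.mul_mem ha hb) with h | h | h
  · exact h3 (ho ▸ orderOf_dvd_of_pow_eq_one h)
  · exact h4 (ho ▸ orderOf_dvd_of_pow_eq_one h)
  · exact h5 (ho ▸ orderOf_dvd_of_pow_eq_one h)

include e hidx in
/-- The centralizer in `G` of an involution of `N` is a `2`-group. -/
theorem isPGroup_centralizer {z : G} (hzN : z ∈ N) (hz : orderOf z = 2) :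
    IsPGroup 2 (Subgroup.centralizer ({z} : Set G)) := by
  have hdvd : Nat.card (Subgroup.centralizer ({z} : Set G)) ∣ 1440 :=
    card_G N e hidx ▸ Subgroup.card_subgroup_dvd_card _
  have hno : ∀ p : ℕ, p.Prime → (p = 3 ∨ p = 5) →
      ¬ p ∣ Nat.card (Subgroup.centralizer ({z} : Set G)) := by
    intro p hp hp35 hpd
    have : Fact p.Prime := ⟨hp⟩
    obtain ⟨u, hu⟩ := exists_prime_orderOf_dvd_card' p hpd
    have hu' : orderOf (u : G) = p := by rw [Subgroup.orderOf_coe]; exact hu
    have huN : (u : G) ∈ N :=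
      mem_of_pow_odd N hidx (m := p) (by rcases hp35 with rfl | rfl <;> decide)
        (hu' ▸ pow_orderOf_eq_one _)
    have hcomm : Commute z (u : G) := by
      have := Subgroup.mem_centralizer_iff.1 u.2 z rfl
      exact this
    rcases hp35 with rfl | rfl
    · exact not_orderOf_mul N e hzN huN hcomm hz hu' (by decide) (by decide) (by decide)
        (by decide)
    · exact not_orderOf_mul N e hzN huN hcomm hz hu' (by decide) (by decide) (by decide)
        (by decide)
  have h3 : Nat.Coprime (Nat.card (Subgroup.centralizer ({z} : Set G))) 3 :=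
    ((Nat.Prime.coprime_iff_not_dvd Nat.prime_three).2 (hno 3 Nat.prime_three (Or.inl rfl))).symm
  have h5 : Nat.Coprime (Nat.card (Subgroup.centralizer ({z} : Set G))) 5 :=
    ((Nat.Prime.coprime_iff_not_dvd Nat.prime_five).2 (hno 5 Nat.prime_five (Or.inr rfl))).symm
  have h45 : Nat.Coprime (Nat.card (Subgroup.centralizer ({z} : Set G))) (3 * (3 * 5)) :=
    Nat.Coprime.mul_right h3 (Nat.Coprime.mul_right h3 h5)
  have h32 : Nat.card (Subgroup.centralizer ({z} : Set G)) ∣ 2 ^ 5 :=
    Nat.Coprime.dvd_of_dvd_mul_right h45 (by norm_num; exact hdvd)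
  obtain ⟨m, -, hm⟩ := (Nat.dvd_prime_pow Nat.prime_two).1 h32
  exact IsPGroup.of_card hm

include e in
/-- The number of solutions of `g ^ p = 1` in `N` is at most that in `Perm (Fin 6)`. -/
theorem card_pow_le (p : ℕ) :
    Nat.card {g : G // g ∈ N ∧ g ^ p = 1} ≤
      (Finset.univ.filter (fun σ : Perm (Fin 6) => σ ^ p = 1)).card := by
  classical
  let f : {g : G // g ∈ N ∧ g ^ p = 1} → {σ : Perm (Fin 6) // σ ^ p = 1} := fun g =>
    ⟨(e ⟨g.1, g.2.1⟩ : Perm (Fin 6)), by
      have h1 : (⟨g.1, g.2.1⟩ : N) ^ p = 1 := Subtype.ext (by simpa using g.2.2)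
      have h2 : (e ⟨g.1, g.2.1⟩) ^ p = 1 := by rw [← map_pow, h1, map_one]
      simpa using congrArg Subtype.val h2⟩
  have hf : Function.Injective f := by
    intro a b hab
    have h1 : (f a).1 = (f b).1 := congrArg Subtype.val hab
    have h1' : (e ⟨a.1, a.2.1⟩ : alternatingGroup (Fin 6)) = e ⟨b.1, b.2.1⟩ := Subtype.ext h1
    have h2 : (⟨a.1, a.2.1⟩ : N) = ⟨b.1, b.2.1⟩ := e.injective h1'
    exact Subtype.ext (congrArg (fun t : N => (t : G)) h2)
  calc Nat.card {g : G // g ∈ N ∧ g ^ p = 1}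
      ≤ Nat.card {σ : Perm (Fin 6) // σ ^ p = 1} := Nat.card_le_card_of_injective f hf
    _ = _ := by rw [Nat.card_eq_fintype_card, Fintype.card_subtype]

include e hidx in
/-- Elements of order `3` or `5` of `N` have centralizers of even order in `G`. -/
theorem even_card_centralizer {y : G} (hyN : y ∈ N) {p q k j b : ℕ} (hp : p.Prime) (hq : q.Prime)
    (hqodd : Odd q)
    (hfac : 1440 = 2 ^ 5 * (p ^ k * q ^ j)) (hcop : Nat.Coprime p q)
    (h3 : ¬ p * q ∣ 3) (h4 : ¬ p * q ∣ 4) (h5 : ¬ p * q ∣ 5)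
    (hb : (Finset.univ.filter (fun σ : Perm (Fin 6) => σ ^ p = 1)).card = b)
    (hlt : b * p ^ k < 1440)
    (hy : orderOf y = p) : 2 ∣ Nat.card (Subgroup.centralizer ({y} : Set G)) := by
  by_contra h2
  have hG := card_G N e hidx
  have hdvd : Nat.card (Subgroup.centralizer ({y} : Set G)) ∣ 1440 :=
    hG ▸ Subgroup.card_subgroup_dvd_card _
  have hc2 : Nat.Coprime (Nat.card (Subgroup.centralizer ({y} : Set G))) (2 ^ 5) :=
    Nat.Coprime.pow_right 5 ((Nat.Prime.coprime_iff_not_dvd Nat.prime_two).2 h2).symm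
  have hd1 : Nat.card (Subgroup.centralizer ({y} : Set G)) ∣ p ^ k * q ^ j := by
    rw [hfac] at hdvd
    exact Nat.Coprime.dvd_of_dvd_mul_left hc2 hdvd
  have hnq : ¬ q ∣ Nat.card (Subgroup.centralizer ({y} : Set G)) := by
    intro hqd
    have : Fact q.Prime := ⟨hq⟩
    obtain ⟨u, hu⟩ := exists_prime_orderOf_dvd_card' q hqd
    have hu' : orderOf (u : G) = q := by rw [Subgroup.orderOf_coe]; exact hu
    have huN : (u : G) ∈ N :=
      mem_of_pow_odd N hidx (m := q) hqodd (hu' ▸ pow_orderOf_eq_one _)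
    have hcomm : Commute y (u : G) := Subgroup.mem_centralizer_iff.1 u.2 y rfl
    exact not_orderOf_mul N e hyN huN hcomm hy hu' hcop h3 h4 h5
  have hcq : Nat.Coprime (Nat.card (Subgroup.centralizer ({y} : Set G))) (q ^ j) :=
    Nat.Coprime.pow_right j ((Nat.Prime.coprime_iff_not_dvd hq).2 hnq).symm
  have hd2 : Nat.card (Subgroup.centralizer ({y} : Set G)) ∣ p ^ k :=
    Nat.Coprime.dvd_of_dvd_mul_right hcq hd1
  have hle : Nat.card (Subgroup.centralizer ({y} : Set G)) ≤ p ^ k :=
    Nat.le_of_dvd (pow_pos hp.pos k) hd2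
  have hclass := card_class_mul_card_centralizer y
  have hsub : (ConjClasses.mk y).carrier ⊆ {g : G | g ∈ N ∧ g ^ p = 1} := by
    intro g hg
    rw [ConjClasses.mem_carrier_iff_mk_eq, ConjClasses.mk_eq_mk_iff_isConj, isConj_comm,
      isConj_iff] at hg
    obtain ⟨c, rfl⟩ := hg
    refine ⟨‹N.Normal›.conj_mem y hyN c, ?_⟩
    rw [conj_pow, ← hy, pow_orderOf_eq_one]
    group
  have hcl : Nat.card (ConjClasses.mk y).carrier ≤ b := by
    calc Nat.card (ConjClasses.mk y).carrier
        ≤ Nat.card {g : G | g ∈ N ∧ g ^ p = 1} := Nat.card_mono (Set.toFinite _) hsub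
      _ ≤ b := hb ▸ card_pow_le N e p
  have : 1440 ≤ b * p ^ k := by
    rw [← hG, ← hclass]
    exact Nat.mul_le_mul hcl hle
  omega

include e hidx in
/-- The main statement. -/
theorem main (_hC : Subgroup.centralizer (N : Set G) = ⊥) (H : Sylow 2 G) (x : G) :
    (H : Subgroup G) ⊓ MulAut.conj x • (H : Subgroup G) ≠ ⊥ := by
  have hG := card_G N e hidx
  have : Fact (Nat.Prime 2) := ⟨Nat.prime_two⟩
  have : Fact (Nat.Prime 3) := ⟨Nat.prime_three⟩
  have : Fact (Nat.Prime 5) := ⟨Nat.prime_five⟩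
  -- Step 1: a central involution `z` of `H` lying in `N`
  have h32 : 2 ^ 5 ∣ Nat.card (H : Subgroup G) :=
    H.pow_dvd_card_of_pow_dvd_card (by rw [hG]; norm_num)
  have hS2 : 2 ∣ Nat.card (N.subgroupOf (H : Subgroup G)) := by
    have hrel : (N.subgroupOf (H : Subgroup G)).index ∣ 4 := by
      have := Subgroup.relIndex_dvd_index_of_normal N (H : Subgroup G)
      rwa [hidx] at this
    have hmul := (N.subgroupOf (H : Subgroup G)).card_mul_index
    obtain ⟨d', hd'⟩ := hrel
    have h4 : 2 ^ 5 ∣ Nat.card (N.subgroupOf (H : Subgroup G)) * 4 := by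
      rw [hd', ← mul_assoc, hmul]; exact Dvd.dvd.mul_right h32 _
    obtain ⟨j, hj⟩ := h4
    exact ⟨4 * j, by omega⟩
  obtain ⟨z0, hz0S, hz0o, hz0c⟩ :=
    exists_central_involution H.isPGroup' (N.subgroupOf (H : Subgroup G)) hS2
  obtain ⟨z, hzH⟩ := z0
  have hzN : z ∈ N := Subgroup.mem_subgroupOf.1 hz0S
  have hzo : orderOf z = 2 := by rw [← hz0o, ← Subgroup.orderOf_coe]
  have hzz : z * z = 1 := by rw [← pow_two, ← hzo]; exact pow_orderOf_eq_one z
  have hz1 : z ≠ 1 := fun h => by rw [h, orderOf_one] at hzo; omega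
  have hzc : ∀ h ∈ (H : Subgroup G), h * z = z * h :=
    fun h hh => congrArg Subtype.val (hz0c ⟨h, hh⟩)
  -- Step 2: the centralizer of `z` is `H`
  have hCH : Subgroup.centralizer ({z} : Set G) = (H : Subgroup G) := by
    apply H.is_maximal' (isPGroup_centralizer N e hidx hzN hzo)
    intro h hh
    rw [Subgroup.mem_centralizer_iff]
    intro w hw
    rw [Set.mem_singleton_iff.1 hw]
    exact (hzc h hh).symm
  have memH : ∀ u : G, z * u = u * z → u ∈ (H : Subgroup G) := by
    intro u hu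
    rw [← hCH, Subgroup.mem_centralizer_iff]
    intro w hw
    rw [Set.mem_singleton_iff.1 hw]
    exact hu
  -- Step 3: the conjugate involution and the conjugate Sylow subgroup
  have memK : ∀ u : G, (x * z * x⁻¹) * u = u * (x * z * x⁻¹) →
      u ∈ MulAut.conj x • (H : Subgroup G) := by
    intro u hu
    rw [Subgroup.mem_pointwise_smul_iff_inv_smul_mem]
    apply memH
    simp only [MulAut.smul_def, MulAut.inv_apply, MulAut.conj_symm_apply]
    calc z * (x⁻¹ * u * x) = x⁻¹ * (x * z * x⁻¹ * u) * x := by group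
      _ = x⁻¹ * (u * (x * z * x⁻¹)) * x := by rw [hu]
      _ = x⁻¹ * u * x * z := by group
  suffices hex : ∃ u : G, u ≠ 1 ∧ z * u = u * z ∧ (x * z * x⁻¹) * u = u * (x * z * x⁻¹) by
    obtain ⟨u, hu1, hu2, hu3⟩ := hex
    intro hbot
    have hmem : u ∈ (H : Subgroup G) ⊓ MulAut.conj x • (H : Subgroup G) :=
      ⟨memH u hu2, memK u hu3⟩
    rw [hbot, Subgroup.mem_bot] at hmem
    exact hu1 hmem
  generalize hz'def : x * z * x⁻¹ = z'
  have hz'N : z' ∈ N := hz'def ▸ ‹N.Normal›.conj_mem z hzN x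
  have hz'z' : z' * z' = 1 := by
    rw [← hz'def]
    calc x * z * x⁻¹ * (x * z * x⁻¹) = x * (z * z) * x⁻¹ := by group
      _ = 1 := by rw [hzz]; group
  have hzinv : z⁻¹ = z := inv_eq_of_mul_eq_one_left hzz
  have hz'inv : z'⁻¹ = z' := inv_eq_of_mul_eq_one_left hz'z'
  have hyN : z * z' ∈ N := N.mul_mem hzN hz'N
  have hyinv : (z * z')⁻¹ = z' * z := by rw [mul_inv_rev, hzinv, hz'inv]
  have hzy : z * (z * z') * z⁻¹ = (z * z')⁻¹ := by
    rw [hyinv, hzinv]
    calc z * (z * z') * z = (z * z) * z' * z := by group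
      _ = z' * z := by rw [hzz, one_mul]
  have hz'y : z' = z * (z * z') := by rw [← mul_assoc, hzz, one_mul]
  -- the case where the centralizer of `y = z z'` has even order
  have odd_case : 2 ∣ Nat.card (Subgroup.centralizer ({z * z'} : Set G)) →
      ∃ u : G, u ≠ 1 ∧ z * u = u * z ∧ z' * u = u * z' := by
    intro heven
    have hnorm : ∀ c ∈ Subgroup.centralizer ({z * z'} : Set G),
        z * c * z⁻¹ ∈ Subgroup.centralizer ({z * z'} : Set G) := by
      intro c hc
      have hc' : Commute (z * z') c := Subgroup.mem_centralizer_iff.1 hc (z * z') rfl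
      have h1 : Commute (z * (z * z') * z⁻¹) (z * c * z⁻¹) := by
        show z * (z * z') * z⁻¹ * (z * c * z⁻¹) = z * c * z⁻¹ * (z * (z * z') * z⁻¹)
        calc z * (z * z') * z⁻¹ * (z * c * z⁻¹) = z * ((z * z') * c) * z⁻¹ := by group
          _ = z * (c * (z * z')) * z⁻¹ := by rw [hc'.eq]
          _ = z * c * z⁻¹ * (z * (z * z') * z⁻¹) := by group
      rw [hzy, Commute.inv_left_iff] at h1
      rw [Subgroup.mem_centralizer_iff]
      intro w hw
      rw [Set.mem_singleton_iff.1 hw]
      exact h1.eq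
    obtain ⟨u, huC, hu1, huz⟩ :=
      exists_commute_of_even (Subgroup.centralizer ({z * z'} : Set G)) z hzz hnorm heven
    refine ⟨u, hu1, huz, ?_⟩
    have huy : (z * z') * u = u * (z * z') := Subgroup.mem_centralizer_iff.1 huC (z * z') rfl
    calc z' * u = z * ((z * z') * u) := by rw [← mul_assoc, ← hz'y]
      _ = z * (u * (z * z')) := by rw [huy]
      _ = (z * u) * (z * z') := by rw [mul_assoc]
      _ = (u * z) * (z * z') := by rw [huz]
      _ = u * z' := by rw [mul_assoc, ← hz'y]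
  rcases pow_cases N e hyN with h3 | h4 | h5
  · by_cases hy1 : z * z' = 1
    · exact ⟨z, hz1, rfl, by rw [hz'y, hy1, mul_one]⟩
    · apply odd_case
      exact even_card_centralizer N e hidx hyN (p := 3) (q := 5) (k := 2) (j := 1) (b := 81)
        Nat.prime_three Nat.prime_five (by decide) (by norm_num) (by norm_num)
        (by decide) (by decide) (by decide) card_pow_three (by norm_num)
        (orderOf_eq_prime h3 hy1)
  · by_cases hy2 : (z * z') ^ 2 = 1
    · have hcomm : z * z' = z' * z := by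
        rw [← hyinv]
        exact (inv_eq_of_mul_eq_one_left (by rw [← pow_two]; exact hy2)).symm
      exact ⟨z', fun h => hz1 (by
        rw [← hz'def] at h
        calc z = x⁻¹ * (x * z * x⁻¹) * x := by group
          _ = 1 := by rw [h]; group), hcomm, rfl⟩
    · have hinv2 : ((z * z') ^ 2)⁻¹ = (z * z') ^ 2 := by
        apply inv_eq_of_mul_eq_one_left
        rw [← pow_add]; exact h4
      have hz2 : z * (z * z') ^ 2 = (z * z') ^ 2 * z := by
        have h1 : z * (z * z') ^ 2 * z⁻¹ = (z * z') ^ 2 := by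
          rw [← conj_pow, hzy, inv_pow, hinv2]
        calc z * (z * z') ^ 2 = z * (z * z') ^ 2 * z⁻¹ * z := by group
          _ = (z * z') ^ 2 * z := by rw [h1]
      refine ⟨(z * z') ^ 2, hy2, hz2, ?_⟩
      have hyy : (z * z') * (z * z') ^ 2 = (z * z') ^ 2 * (z * z') := by
        rw [← pow_succ', ← pow_succ]
      calc z' * (z * z') ^ 2 = z * ((z * z') * (z * z') ^ 2) := by rw [← mul_assoc, ← hz'y]
        _ = z * ((z * z') ^ 2 * (z * z')) := by rw [hyy]
        _ = (z * (z * z') ^ 2) * (z * z') := by rw [mul_assoc]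
        _ = ((z * z') ^ 2 * z) * (z * z') := by rw [hz2]
        _ = (z * z') ^ 2 * z' := by rw [mul_assoc, ← hz'y]
  · by_cases hy1 : z * z' = 1
    · exact ⟨z, hz1, rfl, by rw [hz'y, hy1, mul_one]⟩
    · apply odd_case
      exact even_card_centralizer N e hidx hyN (p := 5) (q := 3) (k := 1) (j := 2) (b := 145)
        Nat.prime_five Nat.prime_three (by decide) (by norm_num) (by norm_num)
        (by decide) (by decide) (by decide) card_pow_five (by norm_num)
        (orderOf_eq_prime h5 hy1)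

end main

/-- Let G be a finite group with a normal subgroup N of index 4 isomorphic to the alternating group of degree 6 and with trivial centralizer in G (so G is the full automorphism group of A₆). Then any two Sylow 2-subgroups of G have a non-trivial intersection: for a Sylow 2-subgroup H and every x ∈ G, H ∩ H^x ≠ 1. -/
theorem result {G : Type*} [Group G] [Finite G] (N : Subgroup G) [N.Normal]
    (e : N ≃* alternatingGroup (Fin 6)) (hidx : N.index = 4)
    (hC : Subgroup.centralizer (N : Set G) = ⊥)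
    (H : Sylow 2 G) (x : G) :
    (H : Subgroup G) ⊓ MulAut.conj x • (H : Subgroup G) ≠ ⊥ :=
  main N e hidx hC H x

end Cfsg.Agent.S2488
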