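import Cfsg.Statements.S2490
import Cfsg.Agent.S0215
import Cfsg.Agent.Lib.Helper83.Ord7920Main
import Cfsg.Agent.Lib.Helper76.Ord7920B
import Cfsg.Agent.Lib.Helper26.Ord7920E

set_option autoImplicit false
open Cfsg

namespace Cfsg.Agent.S2490

open Cfsg.Agent.Helper83.Ord7920
open Cfsg.Agent.Helper76.Ord7920 (conn_one conn_twelve)
open Cfsg.Agent.Helper26.Ord7920 (simple_of_144)

/-- Let G be a finite group of order 7920 = 2⁴·3²·5·11 (the order of the smallest Mathieu group) and suppose its prime graph (vertices the prime divisors of the order, distinct p, q joined when there is an element of order pq) is disconnected: the prime divisors split into two non-empty parts with no element of order pq for p in one part and q in the other. Then G is simple. -/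
theorem result {G : Type*} [Group G] [Finite G] (hord : Nat.card G = 7920)
    (hdisc : (∃ A : Set ℕ, (∃ a ∈ A, a.Prime ∧ a ∣ Nat.card G) ∧ (∃ b ∉ A, b.Prime ∧ b ∣ Nat.card G) ∧
      ∀ a ∈ A, ∀ b ∉ A, a.Prime → b.Prime → a ∣ Nat.card G → b ∣ Nat.card G → ¬ ∃ g : G, orderOf g = a * b)) :
    IsSimpleGroup G := by
  rcases card_sylow_mem hord with h | h | h | h
  · obtain ⟨h22, h33, h5⟩ := conn_one hord h
    exact (false_of_conn hord hdisc h22 h33 h5).elim
  · obtain ⟨h22, h33, h5⟩ := conn_twelve hord h
    exact (false_of_conn hord hdisc h22 h33 h5).elim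
  · exact absurd h (card_sylow_ne_45 hord
      (fun H _ _ S u hu huS hiso => Cfsg.Agent.S0215.result S u hu huS hiso))
  · exact simple_of_144 hord h

end Cfsg.Agent.S2490
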