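import Cfsg.Statements.S2495
import Mathlib
import Cfsg.Agent.Lib.Helper42.PrimeCent4
import Cfsg.Agent.Lib.Helper42.SingerOrd

set_option autoImplicit false
open Cfsg

namespace Cfsg.Agent.S2495

open Module Cfsg.Agent.Helper42.PrimeCent Cfsg.Agent.Helper42.SingerOrd Cfsg.Agent.Helper98.Singer

section

variable {F : Type*} [Field F] [Fintype F]

/-- arithmetic facts about `q^(2m) - 1` -/
lemma arith_facts (q m : ℕ) (hq : 1 ≤ q) :
    q ^ (2 * m) - 1 = (q ^ m + 1) * (∑ i ∈ Finset.range m, q ^ i) * (q - 1) := by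
  have h1 : (∑ i ∈ Finset.range m, q ^ i) * (q - 1) = q ^ m - 1 := geom_sum_mul_of_one_le hq m
  have hQ : 1 ≤ q ^ m := Nat.one_le_pow _ _ hq
  obtain ⟨t, ht⟩ : ∃ t, q ^ m = t + 1 := ⟨q ^ m - 1, by omega⟩
  rw [mul_assoc, h1, mul_comm 2 m, pow_mul, ht]
  have : (t + 1) ^ 2 = (t + 1 + 1) * t + 1 := by ring
  rw [this]
  simp

/-- the key equivalence in the field `K`: `s^j ∈ F` iff `orderOf s ∣ j (q - 1)` -/
lemma exists_algebraMap_pow_iff {K : Type*} [Field K] [Algebra F K] (s : K) (hs0 : s ≠ 0) (j : ℕ) :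
    (∃ c : F, s ^ j = algebraMap F K c) ↔ orderOf s ∣ j * (Fintype.card F - 1) := by
  rw [exists_algebraMap_iff (s ^ j) (pow_ne_zero _ hs0), ← pow_mul, orderOf_dvd_iff_pow_eq_one]

end

/-- Let q be an odd prime power, n ≥ 4 even, and L = PSL(n,q). Then L has an element of order q^(n/2) + 1 if and only if the 2-part of n exceeds the 2-part of q − 1. -/
theorem result {F : Type*} [Field F] [Fintype F] {q : ℕ} (hF : Fintype.card F = q) (hodd : Odd q)
    {n : ℕ} (hn : 4 ≤ n) (heven : Even n) :
    (∃ g : Matrix.ProjectiveSpecialLinearGroup (Fin n) F, orderOf g = q ^ (n / 2) + 1) ↔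
      padicValNat 2 (q - 1) < padicValNat 2 n := by
  classical
  obtain ⟨p, hchar⟩ := CharP.exists F
  have hpp : Fact p.Prime := ⟨CharP.char_is_prime F p⟩
  have hn0 : NeZero n := ⟨by omega⟩
  obtain ⟨m, hm⟩ := heven
  have hnm : n = 2 * m := by omega
  have hm2 : 2 ≤ m := by omega
  have hdiv : n / 2 = m := by omega
  rw [hdiv]
  have hq2 : 2 ≤ q := by rw [← hF]; exact Fintype.one_lt_card
  have hq3 : 3 ≤ q := by
    obtain ⟨t, ht⟩ := hodd
    omega
  have hq1 : 1 ≤ q := by omega
  set N := q ^ m + 1 with hN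
  set S := ∑ i ∈ Finset.range m, q ^ i with hS
  set a := padicValNat 2 (q - 1) with ha
  have hfac : q ^ n - 1 = N * S * (q - 1) := by rw [hnm]; exact arith_facts q m hq1
  have h2a : 2 ^ a ∣ q - 1 := pow_padicValNat_dvd
  have hNeven : Even N := by
    have : Odd (q ^ m) := hodd.pow
    exact this.add_one
  have hNpos : 0 < N := by omega
  have hgcd : Nat.gcd N (q - 1) = 2 := gcd_pow_add_one_sub_one q m hodd
  have hSm : ∀ d, d ∣ q - 1 → (d ∣ S ↔ d ∣ m) := fun d hd =>
    (geom_sum_modEq q m hq1).dvd_iff hd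
  -- reformulate the valuation condition
  have hcond : a < padicValNat 2 n ↔ 2 ^ a ∣ m := by
    have : Fact (Nat.Prime 2) := ⟨Nat.prime_two⟩
    rw [hnm, padicValNat.mul (by norm_num) (by omega), padicValNat_self,
      padicValNat_dvd_iff_le (by omega)]
    omega
  rw [hcond, ← hSm _ h2a]
  -- the field
  set K := FiniteField.Extension F p n with hKdef
  let _ : Fintype K := Fintype.ofFinite K
  have hK : finrank F K = n := FiniteField.finrank_extension F p n
  have hKcard : Nat.card K = q ^ n := by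
    rw [FiniteField.natCard_extension, Nat.card_eq_fintype_card, hF]
  constructor
  · -- an element of order N forces the condition
    rintro ⟨x, hx⟩
    obtain ⟨r, hr⟩ := exists_ppd (F := F) n (by omega) (by
      rintro ⟨-, h2⟩
      rw [hF] at h2
      omega) (by
      rintro ⟨h1, -⟩
      omega)
    have hr' := hr
    rw [hF] at hr
    have hrp := hr.prime
    have hrN : r ∣ N := by
      have h1 := hr.dvd
      rw [hfac, mul_assoc] at h1
      rcases (Nat.Prime.dvd_mul hrp).mp h1 with h2 | h2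
      · exact h2
      · exfalso
        have h3 : S * (q - 1) = q ^ m - 1 := geom_sum_mul_of_one_le hq1 m
        rw [h3] at h2
        exact hr.min m (by omega) (by omega) h2
    have hrq : ¬ r ∣ q - 1 := by
      intro h
      apply hr.min 1 (by omega) (by omega)
      rwa [pow_one]
    obtain ⟨N₁, hN₁⟩ := hrN
    obtain ⟨g, rfl⟩ := QuotientGroup.mk_surjective x
    -- the scalar
    have hx1 : g ^ N ∈ Subgroup.center (Matrix.SpecialLinearGroup (Fin n) F) := by
      rw [← QuotientGroup.eq_one_iff, QuotientGroup.mk_pow, ← hx, pow_orderOf_eq_one]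
    obtain ⟨μ, hμn, hμ⟩ := exists_scalar_of_mem_center _ hx1
    rw [Matrix.SpecialLinearGroup.coe_pow] at hμ
    have hμ0 : μ ≠ 0 := by
      rintro rfl
      rw [zero_pow (by omega)] at hμn
      exact zero_ne_one hμn
    set t := N₁ * (q - 1) with ht
    have hXt : (g.val ^ t) ^ r = 1 := by
      rw [← pow_mul, ht, mul_comm N₁, mul_assoc, mul_comm N₁ r, ← hN₁, mul_comm, pow_mul, hμ,
        smul_pow, one_pow, ← hF, FiniteField.pow_card_sub_one_eq_one μ hμ0, one_smul]
    have hXt1 : g.val ^ t ≠ 1 := by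
      intro h
      have h1 : g ^ t = 1 := by
        apply Subtype.ext
        rw [Matrix.SpecialLinearGroup.coe_pow, h]
        rfl
      have h2 : (QuotientGroup.mk g : Matrix.ProjectiveSpecialLinearGroup (Fin n) F) ^ t = 1 := by
        rw [← QuotientGroup.mk_pow, h1]
        rfl
      have h3 := orderOf_dvd_of_pow_eq_one h2
      rw [hx, hN₁, ht] at h3
      have hN₁0 : 0 < N₁ := by
        rcases Nat.eq_zero_or_pos N₁ with h0 | h0
        · rw [h0, mul_zero] at hN₁
          omega
        · exact h0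
      rw [mul_comm r N₁] at h3
      exact hrq (Nat.dvd_of_mul_dvd_mul_left hN₁0 h3)
    -- transfer to endomorphisms
    set G : Module.End F (Fin n → F) := Matrix.toLin' g.val with hG
    have hGt : (G ^ t) ^ r = 1 := by
      rw [hG, ← Matrix.toLin'_pow, ← Matrix.toLin'_pow, hXt, Matrix.toLin'_one]
      rfl
    have hGt1 : G ^ t ≠ 1 := by
      intro h
      apply hXt1
      apply Matrix.toLin'.injective
      rw [Matrix.toLin'_pow, ← hG, h, Matrix.toLin'_one]
      rfl
    obtain ⟨ψ, s, hψ, hψs, hdet⟩ := exists_field_elt K (V := Fin n → F) (by omega) hK (by simp) hr'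
      G t hGt hGt1
    -- norm
    have hnorm : Algebra.norm F s = 1 := by
      rw [← hdet, hG, LinearMap.det_toLin', g.2]
    have hs0 : s ≠ 0 := by
      rintro rfl
      rw [Algebra.norm_zero] at hnorm
      exact zero_ne_one hnorm
    have hsNS : s ^ (N * S) = 1 := by
      have h1 := FiniteField.algebraMap_norm_eq_pow (K := F) (K' := K) (x := s)
      rw [hnorm, map_one, hKcard, Nat.card_eq_fintype_card, hF, hfac,
        Nat.mul_div_cancel _ (by omega)] at h1
      exact h1.symm
    -- the matrix embedding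
    let φ : K →ₐ[F] Matrix (Fin n) (Fin n) F :=
      (Matrix.toLinAlgEquiv'.symm : _ ≃ₐ[F] Matrix (Fin n) (Fin n) F).toAlgHom.comp ψ
    have hφ : Function.Injective φ := by
      intro x y hxy
      apply hψ
      exact (Matrix.toLinAlgEquiv'.symm : _ ≃ₐ[F] Matrix (Fin n) (Fin n) F).injective hxy
    have hgφ : g.val = φ s := by
      show g.val = Matrix.toLinAlgEquiv'.symm (ψ s)
      rw [hψs, hG]
      exact (Matrix.toLinAlgEquiv'.symm_apply_apply g.val).symm
    have key : ∀ j : ℕ, N ∣ j ↔ orderOf s ∣ j * (q - 1) := by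
      intro j
      rw [← hx, orderOf_dvd_iff_pow_eq_one, mk_pow_eq_one_iff φ hφ g s hgφ j,
        exists_algebraMap_pow_iff s hs0 j, hF]
    exact two_pow_dvd_of_order N S q (orderOf s) a hNeven hNpos
      (orderOf_dvd_of_pow_eq_one hsNS) ((key N).mp dvd_rfl) (fun j hj => (key j).mpr hj) h2a
  · -- construction
    intro h2S
    obtain ⟨S', hS'⟩ := h2S
    have hM : N * 2 ^ a * (q - 1) ∣ Nat.card F ^ n - 1 := by
      rw [Nat.card_eq_fintype_card, hF, hfac, hS']
      exact ⟨S', by ring⟩
    obtain ⟨s', hs'⟩ := exists_unit_orderOf (F := F) p n _ hM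
    obtain ⟨x, hxj⟩ := exists_PSL_of_unit (F := F) (K := K) hK s'
    refine ⟨x, ?_⟩
    -- odd part of q - 1
    obtain ⟨u, hu⟩ := h2a
    have huodd : ¬ 2 ∣ u := by
      intro h2u
      have : Fact (Nat.Prime 2) := ⟨Nat.prime_two⟩
      have h1 : 2 ^ (a + 1) ∣ q - 1 := by
        obtain ⟨u', rfl⟩ := h2u
        exact ⟨u', by rw [hu]; ring⟩
      have := (padicValNat_dvd_iff_le (p := 2) (by omega)).mp h1
      omega
    have hcopNu : Nat.Coprime N u := by
      have h1 : Nat.gcd N u ∣ 2 := by
        rw [← hgcd]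
        exact Nat.dvd_gcd (Nat.gcd_dvd_left _ _) ((Nat.gcd_dvd_right _ _).trans ⟨2 ^ a, by rw [hu]; ring⟩)
      rcases (Nat.dvd_prime Nat.prime_two).mp h1 with h2 | h2
      · exact h2
      · exfalso
        apply huodd
        rw [← h2]
        exact Nat.gcd_dvd_right _ _
    have hs'0 : ((s' : K) ^ (Fintype.card F - 1)) ≠ 0 := pow_ne_zero _ s'.ne_zero
    have hord : orderOf ((s' : K) ^ (Fintype.card F - 1)) = N * 2 ^ a := by
      rw [← Units.val_pow_eq_pow_val, orderOf_units, hF,
        orderOf_pow_of_dvd (by omega) (by rw [hs']; exact dvd_mul_left _ _), hs',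
        Nat.mul_div_cancel _ (by omega)]
    have key : ∀ j : ℕ, x ^ j = 1 ↔ N ∣ j := by
      intro j
      rw [hxj j, exists_algebraMap_pow_iff _ hs'0 j, hord, hF, hu]
      constructor
      · intro h
        have h1 : N * 2 ^ a ∣ (j * u) * 2 ^ a := by
          convert h using 1
          ring
        have h2 := Nat.dvd_of_mul_dvd_mul_right (by positivity) h1
        exact hcopNu.dvd_of_dvd_mul_right h2
      · rintro ⟨j', rfl⟩
        exact ⟨j' * u, by ring⟩
    apply Nat.dvd_antisymm
    · exact orderOf_dvd_of_pow_eq_one ((key N).mpr dvd_rfl)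
    · exact (key _).mp (pow_orderOf_eq_one x)

end Cfsg.Agent.S2495
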