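import Cfsg.Statements.S2504
import Mathlib
import Cfsg.Agent.Lib.Helper42.AbelianPerm

set_option autoImplicit false
open Cfsg

namespace Cfsg.Agent.S2504

open Cfsg.Agent.Helper42

theorem mem_of_realA (n c : ℕ) (h : RealA (Fin n) c) :
    c ∈ {c : ℕ | ∃ A : Subgroup (alternatingGroup (Fin n)), IsMulCommutative A ∧ Nat.card A = c} := by
  obtain ⟨A, hle, hcomm, hcard⟩ := h
  refine ⟨A.subgroupOf (alternatingGroup (Fin n)), ?_, ?_⟩
  · refine ⟨⟨?_⟩⟩
    rintro ⟨a, ha⟩ ⟨b, hb⟩
    apply Subtype.ext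
    apply Subtype.ext
    have := hcomm.is_comm.comm ⟨a.1, ha⟩ ⟨b.1, hb⟩
    have h2 : a.1 * b.1 = b.1 * a.1 := congrArg Subtype.val this
    exact h2
  · rw [Nat.card_congr (Subgroup.subgroupOfEquivOfLe hle).toEquiv, hcard]

theorem upper (n : ℕ) : ∀ c ∈ {c : ℕ | ∃ A : Subgroup (alternatingGroup (Fin n)), IsMulCommutative A ∧ Nat.card A = c},
    c ≤ hA n := by
  rintro c ⟨A, hcomm, rfl⟩
  have h1 : IsMulCommutative (A.map (alternatingGroup (Fin n)).subtype) :=
    Subgroup.map_isMulCommutative A _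
  have h2 : A.map (alternatingGroup (Fin n)).subtype ≤ alternatingGroup (Fin n) := by
    rintro _ ⟨σ, -, rfl⟩
    exact σ.2
  have := card_abelian_even_le _ h1 h2
  rwa [Subgroup.card_map_of_injective (Subgroup.subtype_injective _), Fintype.card_fin] at this

/-- The largest order of an abelian subgroup of the alternating group of degree n is 3^k when n = 3k, 4·3^(k−1) when n = 3k + 1, and 16·3^(k−2) when n = 3k + 2, for every k ≥ 2 (so for all degrees n ≥ 6). -/
theorem result (k : ℕ) (hk : 2 ≤ k) :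
    IsGreatest {c : ℕ | ∃ A : Subgroup (alternatingGroup (Fin (3 * k))), IsMulCommutative A ∧ Nat.card A = c} (3 ^ k) ∧
    IsGreatest {c : ℕ | ∃ A : Subgroup (alternatingGroup (Fin (3 * k + 1))), IsMulCommutative A ∧ Nat.card A = c}
      (4 * 3 ^ (k - 1)) ∧
    IsGreatest {c : ℕ | ∃ A : Subgroup (alternatingGroup (Fin (3 * k + 2))), IsMulCommutative A ∧ Nat.card A = c}
      (16 * 3 ^ (k - 2)) := by
  refine ⟨⟨mem_of_realA _ _ (realA_three_mul k), ?_⟩,
    ⟨mem_of_realA _ _ (realA_three_mul_add_one k (by omega)), ?_⟩,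
    ⟨mem_of_realA _ _ (realA_three_mul_add_two k hk), ?_⟩⟩
  · intro c hc
    have := upper _ c hc
    rwa [hA_three_mul k hk] at this
  · intro c hc
    have := upper _ c hc
    rwa [hA_three_mul_add_one k hk] at this
  · intro c hc
    have := upper _ c hc
    rwa [hA_three_mul_add_two k hk] at this

end Cfsg.Agent.S2504
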