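import Cfsg.Statements.S2506
import Mathlib
import Cfsg.Agent.Lib.Helper42.AbelianPerm
import Cfsg.Agent.Lib.Helper42.AbelianAltConj
import Cfsg.Agent.S2504

set_option autoImplicit false
open scoped Pointwise
open Cfsg

namespace Cfsg.Agent.S2506

open Cfsg.Agent.Helper42 Equiv

theorem realA_hA (n : ℕ) (h3 : 3 ≤ n) (h5 : n ≠ 5) : RealA (Fin n) (hA n) := by
  obtain ⟨k, r, hr, rfl⟩ : ∃ k r, r < 3 ∧ n = 3 * k + r :=
    ⟨n / 3, n % 3, Nat.mod_lt _ (by norm_num), (Nat.div_add_mod n 3).symm⟩
  interval_cases r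
  · by_cases hk : k = 1
    · subst hk
      have := realA_three_mul 1
      simpa [hA] using this
    · have := realA_three_mul k
      rwa [← hA_three_mul k (by omega)] at this
  · by_cases hk : k = 1
    · subst hk
      have := realA_three_mul_add_one 1 le_rfl
      simpa [hA] using this
    · have := realA_three_mul_add_one k (by omega)
      rwa [← hA_three_mul_add_one k (by omega)] at this
  · have hk : 2 ≤ k := by omega
    have := realA_three_mul_add_two k hk
    rwa [← hA_three_mul_add_two k hk] at this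

theorem card_eq_hA (n : ℕ) (h3 : 3 ≤ n) (h5 : n ≠ 5) (A : Subgroup (alternatingGroup (Fin n)))
    (hA' : IsMulCommutative A)
    (hAmax : ∀ C : Subgroup (alternatingGroup (Fin n)), IsMulCommutative C → Nat.card C ≤ Nat.card A) :
    Nat.card A = hA n := by
  apply le_antisymm
  · exact Cfsg.Agent.S2504.upper n _ ⟨A, hA', rfl⟩
  · obtain ⟨C, hC, hCcard⟩ := Cfsg.Agent.S2504.mem_of_realA n _ (realA_hA n h3 h5)
    rw [← hCcard]
    exact hAmax C hC

theorem main_case (n : ℕ) (h3 : 3 ≤ n) (h5 : n ≠ 5)
    (A B : Subgroup (alternatingGroup (Fin n))) (hA' : IsMulCommutative A) (hB' : IsMulCommutative B)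
    (hAcard : Nat.card A = hA n) (hBcard : Nat.card B = hA n) :
    ∃ g : alternatingGroup (Fin n), B = MulAut.conj g • A := by
  have hinj := Subgroup.subtype_injective (alternatingGroup (Fin n))
  have hAm : IsMulCommutative (A.map (alternatingGroup (Fin n)).subtype) :=
    Subgroup.map_isMulCommutative A _
  have hBm : IsMulCommutative (B.map (alternatingGroup (Fin n)).subtype) :=
    Subgroup.map_isMulCommutative B _
  have hAe : A.map (alternatingGroup (Fin n)).subtype ≤ alternatingGroup (Fin n) := by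
    rintro _ ⟨σ, -, rfl⟩
    exact σ.2
  have hBe : B.map (alternatingGroup (Fin n)).subtype ≤ alternatingGroup (Fin n) := by
    rintro _ ⟨σ, -, rfl⟩
    exact σ.2
  have hAc : Nat.card (A.map (alternatingGroup (Fin n)).subtype) = hA (Fintype.card (Fin n)) := by
    rw [Subgroup.card_map_of_injective hinj, Fintype.card_fin, hAcard]
  have hBc : Nat.card (B.map (alternatingGroup (Fin n)).subtype) = hA (Fintype.card (Fin n)) := by
    rw [Subgroup.card_map_of_injective hinj, Fintype.card_fin, hBcard]
  obtain ⟨σ, hsign, hσ⟩ := extremal_conj _ _ hAm hBm hAe hBe hAc hBc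
    (by rw [Fintype.card_fin]; exact h3) (by rw [Fintype.card_fin]; exact h5)
  refine ⟨⟨σ, Perm.mem_alternatingGroup.mpr hsign⟩, ?_⟩
  ext b
  rw [Subgroup.mem_pointwise_smul_iff_inv_smul_mem]
  set g : alternatingGroup (Fin n) := ⟨σ, Perm.mem_alternatingGroup.mpr hsign⟩ with hg
  have hsm : (MulAut.conj g)⁻¹ • b = g⁻¹ * b * g := by
    rw [MulAut.smul_def, MulAut.conj_inv_apply]
  rw [hsm]
  have hval : ((g⁻¹ * b * g : alternatingGroup (Fin n)) : Perm (Fin n)) = σ⁻¹ * (b : Perm (Fin n)) * σ := rfl
  have h1 : ∀ (D : Subgroup (alternatingGroup (Fin n))) (d : alternatingGroup (Fin n)),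
      d ∈ D ↔ (d : Perm (Fin n)) ∈ D.map (alternatingGroup (Fin n)).subtype := by
    intro D d
    constructor
    · intro hd
      exact ⟨d, hd, rfl⟩
    · rintro ⟨d', hd', hdd'⟩
      have : d' = d := hinj hdd'
      rwa [← this]
  rw [h1 B b, h1 A (g⁻¹ * b * g), hval]
  exact hσ _

theorem small_case (n : ℕ) (hn : hA n = 1)
    (A B : Subgroup (alternatingGroup (Fin n))) (hA' : IsMulCommutative A) (hB' : IsMulCommutative B) :
    ∃ g : alternatingGroup (Fin n), B = MulAut.conj g • A := by
  have h1 : Nat.card A ≤ 1 := by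
    rw [← hn]
    exact Cfsg.Agent.S2504.upper n _ ⟨A, hA', rfl⟩
  have h2 : Nat.card B ≤ 1 := by
    rw [← hn]
    exact Cfsg.Agent.S2504.upper n _ ⟨B, hB', rfl⟩
  have hAbot : A = ⊥ := Subgroup.eq_bot_of_card_le A h1
  have hBbot : B = ⊥ := Subgroup.eq_bot_of_card_le B h2
  refine ⟨1, ?_⟩
  rw [hAbot, hBbot, map_one, one_smul]

theorem card_alt_five : Nat.card (alternatingGroup (Fin 5)) = 60 := by
  have h := two_mul_card_alternatingGroup (α := Fin 5)
  rw [Fintype.card_perm, Fintype.card_fin] at h
  rw [Nat.card_eq_fintype_card]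
  have : Nat.factorial 5 = 120 := by decide
  omega

theorem five_case
    (A B : Subgroup (alternatingGroup (Fin 5))) (hA' : IsMulCommutative A) (hB' : IsMulCommutative B)
    (hAmax : ∀ C : Subgroup (alternatingGroup (Fin 5)), IsMulCommutative C → Nat.card C ≤ Nat.card A)
    (hBmax : ∀ C : Subgroup (alternatingGroup (Fin 5)), IsMulCommutative C → Nat.card C ≤ Nat.card B) :
    ∃ g : alternatingGroup (Fin 5), B = MulAut.conj g • A := by
  have : Fact (Nat.Prime 5) := ⟨by norm_num⟩
  -- a subgroup of order 5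
  obtain ⟨x, hx⟩ := exists_prime_orderOf_dvd_card' (G := alternatingGroup (Fin 5)) 5
    (by rw [card_alt_five]; norm_num)
  have hC : Nat.card (Subgroup.zpowers x) = 5 := by rw [Nat.card_zpowers, hx]
  have hAcard : Nat.card A = 5 := by
    apply le_antisymm
    · have := Cfsg.Agent.S2504.upper 5 _ ⟨A, hA', rfl⟩
      simpa [hA] using this
    · have := hAmax (Subgroup.zpowers x) inferInstance
      omega
  have hBcard : Nat.card B = 5 := by
    apply le_antisymm
    · have := Cfsg.Agent.S2504.upper 5 _ ⟨B, hB', rfl⟩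
      simpa [hA] using this
    · have := hBmax (Subgroup.zpowers x) inferInstance
      omega
  -- both are Sylow
  have key : ∀ D : Subgroup (alternatingGroup (Fin 5)), Nat.card D = 5 →
      ∃ P : Sylow 5 (alternatingGroup (Fin 5)), (P : Subgroup (alternatingGroup (Fin 5))) = D := by
    intro D hD
    have hDp : IsPGroup 5 D := IsPGroup.of_card (n := 1) (by rw [hD]; norm_num)
    obtain ⟨P, hP⟩ := hDp.exists_le_sylow
    refine ⟨P, ?_⟩
    obtain ⟨k, hk⟩ := IsPGroup.exists_card_eq P.2
    have hdvd : Nat.card (P : Subgroup (alternatingGroup (Fin 5))) ∣ 60 := by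
      rw [← card_alt_five]
      exact Subgroup.card_subgroup_dvd_card _
    have hk1 : k ≤ 1 := by
      by_contra hcon
      have h2 : 2 ≤ k := by omega
      have : 5 ^ 2 ∣ 60 := (pow_dvd_pow 5 h2).trans (hk ▸ hdvd)
      norm_num at this
    have hle : Nat.card (P : Subgroup (alternatingGroup (Fin 5))) ≤ Nat.card D := by
      rw [hk, hD]
      calc 5 ^ k ≤ 5 ^ 1 := Nat.pow_le_pow_right (by norm_num) hk1
        _ = 5 := by norm_num
    exact (Subgroup.eq_of_le_of_card_ge hP hle).symm
  obtain ⟨P, hP⟩ := key A hAcard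
  obtain ⟨Q, hQ⟩ := key B hBcard
  obtain ⟨g, hg⟩ := MulAction.exists_smul_eq (alternatingGroup (Fin 5)) P Q
  refine ⟨g, ?_⟩
  rw [← hQ, ← hP, ← hg, Sylow.coe_subgroup_smul]

/-- In the alternating group of any degree, any two abelian subgroups of the largest possible order (among abelian subgroups) are conjugate. -/
theorem result (n : ℕ)
    (A B : Subgroup (alternatingGroup (Fin n))) (hA : IsMulCommutative A) (hB : IsMulCommutative B)
    (hAmax : ∀ C : Subgroup (alternatingGroup (Fin n)), IsMulCommutative C → Nat.card C ≤ Nat.card A)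
    (hBmax : ∀ C : Subgroup (alternatingGroup (Fin n)), IsMulCommutative C → Nat.card C ≤ Nat.card B) :
    ∃ g : alternatingGroup (Fin n), B = MulAut.conj g • A := by
  by_cases h3 : 3 ≤ n
  · by_cases h5 : n = 5
    · subst h5
      exact five_case A B hA hB hAmax hBmax
    · exact main_case n h3 h5 A B hA hB (card_eq_hA n h3 h5 A hA hAmax) (card_eq_hA n h3 h5 B hB hBmax)
  · have hn : Cfsg.Agent.Helper42.hA n = 1 := by
      have : n ≤ 2 := by omega
      interval_cases n <;> simp [Cfsg.Agent.Helper42.hA]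
    exact small_case n hn A B hA hB

end Cfsg.Agent.S2506
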