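import Cfsg.Statements.S2507
import Cfsg.Agent.Lib.Helper41.SL2Class

set_option autoImplicit false
open Cfsg

namespace Cfsg.Agent.S2507

open Matrix Cfsg.Agent.Helper41

variable {F : Type*} [Field F] [Fintype F]

theorem ncard_trace_fiber [DecidableEq F] (s : F) :
    Set.ncard {Y : SpecialLinearGroup (Fin 2) F | (Y : Matrix (Fin 2) (Fin 2) F).trace = s} =
      Fintype.card F * (Fintype.card F - 1) +
        Fintype.card F * Fintype.card {a : F // a * (s - a) - 1 = 0} := by
  rw [← card_trace_fiber s, ← Nat.card_coe_set_eq]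
  rfl

theorem class_one : Set.ncard {Y : SpecialLinearGroup (Fin 2) F | IsConj 1 Y} = 1 := by
  have : {Y : SpecialLinearGroup (Fin 2) F | IsConj 1 Y} = {1} := by
    ext Y
    simp only [Set.mem_setOf_eq, Set.mem_singleton_iff]
    rw [isConj_one_right]
  rw [this, Set.ncard_singleton]

theorem class_unipotent (h2 : (2 : F) = 0) (g : SpecialLinearGroup (Fin 2) F) (hg : g ≠ 1)
    (htr : (g : Matrix (Fin 2) (Fin 2) F).trace = 0) :
    Set.ncard {Y : SpecialLinearGroup (Fin 2) F | IsConj g Y} = Fintype.card F ^ 2 - 1 := by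
  classical
  have hset : {Y : SpecialLinearGroup (Fin 2) F | IsConj g Y} =
      {Y : SpecialLinearGroup (Fin 2) F | (Y : Matrix (Fin 2) (Fin 2) F).trace = 0} \ {1} := by
    ext Y
    simp only [Set.mem_setOf_eq, Set.mem_diff, Set.mem_singleton_iff, isConj_iff]
    constructor
    · rintro ⟨c, rfl⟩
      refine ⟨by rw [sl2_trace_conj, htr], ?_⟩
      intro h
      apply hg
      have : c⁻¹ * (c * g * c⁻¹) * c = c⁻¹ * 1 * c := by rw [h]
      simpa [mul_assoc] using this
    · rintro ⟨h0, h1⟩
      exact sl2_exists_conj_char_two h2 g Y hg h1 (by rw [htr, h0])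
  have hmem : (1 : SpecialLinearGroup (Fin 2) F) ∈
      {Y : SpecialLinearGroup (Fin 2) F | (Y : Matrix (Fin 2) (Fin 2) F).trace = 0} := by
    simp only [Set.mem_setOf_eq]
    rw [Matrix.SpecialLinearGroup.coe_one, Matrix.trace_one, Fintype.card_fin]
    exact_mod_cast h2
  rw [hset, Set.ncard_diff_singleton_of_mem hmem, ncard_trace_fiber]
  have hroot : Fintype.card {a : F // a * (0 - a) - 1 = 0} = 1 := by
    rw [Fintype.card_eq_one_iff]
    refine ⟨⟨1, by linear_combination -h2⟩, ?_⟩
    rintro ⟨a, ha⟩
    apply Subtype.ext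
    simp only
    have h1 : (a - 1) ^ 2 = 0 := by linear_combination -ha - a * h2
    exact sub_eq_zero.mp (pow_eq_zero_iff two_ne_zero |>.mp h1)
  rw [hroot]
  have hq : 1 ≤ Fintype.card F := Fintype.card_pos
  obtain ⟨k, hk⟩ : ∃ k, Fintype.card F = k + 1 := ⟨Fintype.card F - 1, by omega⟩
  rw [hk]
  simp only [Nat.add_sub_cancel, mul_one]
  have : (k + 1) ^ 2 = (k + 1) * k + (k + 1) := by ring
  rw [this]

theorem class_semisimple [DecidableEq F] (h2 : (2 : F) = 0) (g : SpecialLinearGroup (Fin 2) F)
    (htr : (g : Matrix (Fin 2) (Fin 2) F).trace ≠ 0) :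
    Set.ncard {Y : SpecialLinearGroup (Fin 2) F | IsConj g Y} =
      Fintype.card F * (Fintype.card F - 1) + Fintype.card F *
        Fintype.card {a : F // a * ((g : Matrix (Fin 2) (Fin 2) F).trace - a) - 1 = 0} := by
  have h4 : (4 : F) = 0 := by
    have : (4 : F) = 2 * 2 := by norm_num
    rw [this, h2, mul_zero]
  have hs : (g : Matrix (Fin 2) (Fin 2) F).trace ^ 2 ≠ 4 := by
    rw [h4]
    exact pow_ne_zero 2 htr
  rw [sl2_conj_class_eq g hs, ncard_trace_fiber]

theorem exists_no_root : ∃ s : F, ∀ a : F, a * (s - a) - 1 ≠ 0 := by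
  classical
  by_contra hcon
  push Not at hcon
  have hsurj : Function.Surjective (fun t : Fˣ => (t : F) + (t : F)⁻¹) := by
    intro s
    obtain ⟨a, ha⟩ := hcon s
    have ha0 : a ≠ 0 := by
      rintro rfl
      simp at ha
    refine ⟨Units.mk0 a ha0, ?_⟩
    simp only [Units.val_mk0]
    field_simp
    linear_combination -ha
  have h1 := Fintype.card_le_of_surjective _ hsurj
  rw [Fintype.card_units] at h1
  have : 0 < Fintype.card F := Fintype.card_pos
  omega

theorem exists_ne_zero_ne_one (h4 : 4 ≤ Fintype.card F) : ∃ t : F, t ≠ 0 ∧ t ≠ 1 := by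
  classical
  by_contra h
  push Not at h
  have hsub : (Finset.univ : Finset F) ⊆ {0, 1} := by
    intro t _
    simp only [Finset.mem_insert, Finset.mem_singleton]
    by_cases ht : t = 0
    · left; exact ht
    · right; exact h t ht
  have h1 := Finset.card_le_card hsub
  have h2 : ({0, 1} : Finset F).card ≤ 2 := Finset.card_le_two
  rw [Finset.card_univ] at h1
  omega

/-- Let F be a finite field with q = 2^f ≥ 4 elements. The conjugacy class sizes of PSL(2,F) are exactly 1, q(q − 1), q² − 1 and q(q + 1). -/
theorem result {F : Type*} [Field F] [Fintype F]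
    (h2 : 2 ∣ Fintype.card F) (h4 : 4 ≤ Fintype.card F) :
    Set.range (fun g : (Matrix.ProjectiveSpecialLinearGroup (Fin 2) F) => (Subgroup.centralizer ({g} : Set (Matrix.ProjectiveSpecialLinearGroup (Fin 2) F))).index) =
      {1, Fintype.card F * (Fintype.card F - 1), Fintype.card F ^ 2 - 1, Fintype.card F * (Fintype.card F + 1)} := by
  classical
  have hchar : ringChar F = 2 :=
    FiniteField.even_card_iff_char_two.mpr (Nat.mod_eq_zero_of_dvd h2)
  have h2F : (2 : F) = 0 := by
    have := ringChar.Nat.cast_ringChar (R := F)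
    rw [hchar] at this
    exact_mod_cast this
  have hq1 : 1 ≤ Fintype.card F := by omega
  have hqq : Fintype.card F * (Fintype.card F - 1) + Fintype.card F * 2 =
      Fintype.card F * (Fintype.card F + 1) := by
    obtain ⟨k, hk⟩ : ∃ k, Fintype.card F = k + 1 := ⟨Fintype.card F - 1, by omega⟩
    rw [hk]
    simp only [Nat.add_sub_cancel]
    ring
  ext n
  simp only [Set.mem_range, Set.mem_insert_iff, Set.mem_singleton_iff]
  constructor
  · rintro ⟨gbar, rfl⟩
    obtain ⟨g, rfl⟩ := QuotientGroup.mk_surjective gbar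
    rw [psl2_index_char_two h2F]
    by_cases hg : g = 1
    · left
      rw [hg]
      exact class_one
    · by_cases htr : (g : Matrix (Fin 2) (Fin 2) F).trace = 0
      · right; right; left
        exact class_unipotent h2F g hg htr
      · rw [class_semisimple h2F g htr]
        have h4F : (4 : F) = 0 := by
          have : (4 : F) = 2 * 2 := by norm_num
          rw [this, h2F, mul_zero]
        have hs : (g : Matrix (Fin 2) (Fin 2) F).trace ^ 2 ≠ 4 := by
          rw [h4F]
          exact pow_ne_zero 2 htr
        rcases card_roots_eq _ hs with h0 | h0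
        · right; left
          rw [h0, mul_zero, add_zero]
        · right; right; right
          rw [h0, hqq]
  · rintro (rfl | rfl | rfl | rfl)
    · refine ⟨QuotientGroup.mk 1, ?_⟩
      rw [psl2_index_char_two h2F]
      exact class_one
    · obtain ⟨s, hs⟩ := exists_no_root (F := F)
      have hs0 : s ≠ 0 := by
        rintro rfl
        apply hs 1
        linear_combination -h2F
      let g : SpecialLinearGroup (Fin 2) F := ⟨!![0, -1; 1, s], by simp [Matrix.det_fin_two]⟩
      have htr : (g : Matrix (Fin 2) (Fin 2) F).trace = s := by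
        simp [g, Matrix.trace_fin_two]
      refine ⟨QuotientGroup.mk g, ?_⟩
      rw [psl2_index_char_two h2F, class_semisimple h2F g (by rw [htr]; exact hs0), htr]
      have h0 : Fintype.card {a : F // a * (s - a) - 1 = 0} = 0 := by
        rw [Fintype.card_eq_zero_iff]
        exact ⟨fun ⟨a, ha⟩ => hs a ha⟩
      rw [h0, mul_zero, add_zero]
    · let g : SpecialLinearGroup (Fin 2) F := ⟨!![1, 1; 0, 1], by simp [Matrix.det_fin_two]⟩
      have htr : (g : Matrix (Fin 2) (Fin 2) F).trace = 0 := by
        simp [g, Matrix.trace_fin_two]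
        linear_combination h2F
      have hg : g ≠ 1 := by
        intro h
        have := congrArg (fun M : SpecialLinearGroup (Fin 2) F => (M : Matrix (Fin 2) (Fin 2) F) 0 1) h
        simp [g] at this
      refine ⟨QuotientGroup.mk g, ?_⟩
      rw [psl2_index_char_two h2F]
      exact class_unipotent h2F g hg htr
    · obtain ⟨t, ht0, ht1⟩ := exists_ne_zero_ne_one h4
      let g : SpecialLinearGroup (Fin 2) F := ⟨!![t, 0; 0, t⁻¹], by
        simp [Matrix.det_fin_two, ht0]⟩
      have htr : (g : Matrix (Fin 2) (Fin 2) F).trace = t + t⁻¹ := by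
        simp [g, Matrix.trace_fin_two]
      have hs0 : t + t⁻¹ ≠ 0 := by
        intro h
        apply ht1
        have h1 : (t - 1) ^ 2 = 0 := by
          have : t * (t + t⁻¹) = 0 := by rw [h, mul_zero]
          rw [mul_add, mul_inv_cancel₀ ht0] at this
          linear_combination this - t * h2F
        exact sub_eq_zero.mp (pow_eq_zero_iff two_ne_zero |>.mp h1)
      refine ⟨QuotientGroup.mk g, ?_⟩
      rw [psl2_index_char_two h2F, class_semisimple h2F g (by rw [htr]; exact hs0), htr]
      have h4F : (4 : F) = 0 := by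
        have : (4 : F) = 2 * 2 := by norm_num
        rw [this, h2F, mul_zero]
      have hs : (t + t⁻¹) ^ 2 ≠ 4 := by
        rw [h4F]
        exact pow_ne_zero 2 hs0
      rcases card_roots_eq _ hs with h0 | h0
      · exfalso
        rw [Fintype.card_eq_zero_iff] at h0
        exact h0.false ⟨t, by field_simp; ring⟩
      · rw [h0, hqq]

end Cfsg.Agent.S2507
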