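import Cfsg.Statements.S2508
import Cfsg.Agent.Lib.Helper41.SL2ClassOdd

set_option autoImplicit false
open Cfsg

namespace Cfsg.Agent.S2508

open Matrix Cfsg.Agent.Helper41

theorem range_eq {F : Type*} [Field F] [Fintype F] [DecidableEq F]
    (h2 : (2 : F) ≠ 0) (h7 : 7 ≤ Fintype.card F) :
    Set.range (fun g : (Matrix.ProjectiveSpecialLinearGroup (Fin 2) F) => (Subgroup.centralizer ({g} : Set (Matrix.ProjectiveSpecialLinearGroup (Fin 2) F))).index) =
      {1, (Fintype.card F ^ 2 - 1) / 2,
        (Fintype.card F * (Fintype.card F - 1) +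
          Fintype.card F * Fintype.card {a : F // a * (0 - a) - 1 = 0}) / 2,
        Fintype.card F * (Fintype.card F - 1), Fintype.card F * (Fintype.card F + 1)} := by
  have hqq : Fintype.card F * (Fintype.card F - 1) + Fintype.card F * 2 =
      Fintype.card F * (Fintype.card F + 1) := by
    obtain ⟨k, hk⟩ : ∃ k, Fintype.card F = k + 1 := ⟨Fintype.card F - 1, by omega⟩
    rw [hk]
    simp only [Nat.add_sub_cancel]
    ring
  have h4 : (4 : F) ≠ 0 := by
    have : (4 : F) = 2 * 2 := by norm_num
    rw [this]; exact mul_ne_zero h2 h2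
  ext n
  simp only [Set.mem_range, Set.mem_insert_iff, Set.mem_singleton_iff]
  constructor
  · rintro ⟨gbar, rfl⟩
    obtain ⟨g, rfl⟩ := QuotientGroup.mk_surjective gbar
    by_cases hsc : (g : Matrix (Fin 2) (Fin 2) F) 0 1 = 0 ∧ (g : Matrix (Fin 2) (Fin 2) F) 1 0 = 0 ∧
        (g : Matrix (Fin 2) (Fin 2) F) 0 0 = (g : Matrix (Fin 2) (Fin 2) F) 1 1
    · left
      exact psl2_index_scalar g (sl2_scalar_eq g hsc)
    · by_cases hs4 : (g : Matrix (Fin 2) (Fin 2) F).trace ^ 2 = 4
      · right; left
        have h := psl2_two_mul_index_unip h2 g hs4 hsc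
        omega
      · by_cases hs0 : (g : Matrix (Fin 2) (Fin 2) F).trace = 0
        · right; right; left
          have h := psl2_two_mul_index_trace_zero h2 g hs0
          omega
        · rw [psl2_index_generic h2 g hs0 hs4]
          rcases card_roots_eq _ hs4 with h0 | h0
          · right; right; right; left
            rw [h0, mul_zero, add_zero]
          · right; right; right; right
            rw [h0, hqq]
  · rintro (rfl | rfl | rfl | rfl | rfl)
    · exact ⟨QuotientGroup.mk 1, psl2_index_scalar 1 (Or.inl (by simp))⟩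
    · refine ⟨QuotientGroup.mk (unipSL 1 1 (by ring)), ?_⟩
      have h := psl2_two_mul_index_unip h2 (unipSL (1 : F) 1 (by ring))
        (by simp [unipSL, Matrix.trace_fin_two]; norm_num) (by simp [unipSL])
      omega
    · let g : SpecialLinearGroup (Fin 2) F := ⟨!![0, -1; 1, 0], by simp [Matrix.det_fin_two]⟩
      have htr : (g : Matrix (Fin 2) (Fin 2) F).trace = 0 := by
        simp [g, Matrix.trace_fin_two]
      refine ⟨QuotientGroup.mk g, ?_⟩
      have h := psl2_two_mul_index_trace_zero h2 g htr
      omega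
    · obtain ⟨s, hs0, hs⟩ := exists_ne_zero_no_root (F := F) (by omega)
      let g : SpecialLinearGroup (Fin 2) F := ⟨!![0, -1; 1, s], by simp [Matrix.det_fin_two]⟩
      have htr : (g : Matrix (Fin 2) (Fin 2) F).trace = s := by
        simp [g, Matrix.trace_fin_two]
      have hs4 : s ^ 2 ≠ 4 := by
        intro h
        have : (s - 2) * (s + 2) = 0 := by linear_combination h
        rcases mul_eq_zero.mp this with h | h
        · apply hs 1
          have : s = 2 := sub_eq_zero.mp h
          rw [this]; ring
        · apply hs (-1)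
          have : s = -2 := eq_neg_of_add_eq_zero_left h
          rw [this]; ring
      refine ⟨QuotientGroup.mk g, ?_⟩
      rw [psl2_index_generic h2 g (by rw [htr]; exact hs0) (by rw [htr]; exact hs4), htr]
      have h0 : Fintype.card {a : F // a * (s - a) - 1 = 0} = 0 := by
        rw [Fintype.card_eq_zero_iff]
        exact ⟨fun ⟨a, ha⟩ => hs a ha⟩
      rw [h0, mul_zero, add_zero]
    · obtain ⟨t, ht0, ht4⟩ := exists_pow_four_ne_one (F := F) (by omega)
      let g : SpecialLinearGroup (Fin 2) F := ⟨!![t, 0; 0, t⁻¹], by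
        simp [Matrix.det_fin_two, ht0]⟩
      have htr : (g : Matrix (Fin 2) (Fin 2) F).trace = t + t⁻¹ := by
        simp [g, Matrix.trace_fin_two]
      have hs0 : t + t⁻¹ ≠ 0 := by
        intro h
        apply ht4
        have h1 : t * (t + t⁻¹) = 0 := by rw [h, mul_zero]
        rw [mul_add, mul_inv_cancel₀ ht0] at h1
        have h3 : t ^ 2 = -1 := by linear_combination h1
        calc t ^ 4 = (t ^ 2) ^ 2 := by ring
          _ = 1 := by rw [h3]; ring
      have hs4 : (t + t⁻¹) ^ 2 ≠ 4 := by
        intro h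
        apply ht4
        have h1 : (t * (t + t⁻¹)) ^ 2 = 4 * t ^ 2 := by rw [mul_pow, h]; ring
        rw [mul_add, mul_inv_cancel₀ ht0] at h1
        have h3 : (t ^ 2 - 1) ^ 2 = 0 := by linear_combination h1
        have h5 : t ^ 2 = 1 := sub_eq_zero.mp (pow_eq_zero_iff two_ne_zero |>.mp h3)
        calc t ^ 4 = (t ^ 2) ^ 2 := by ring
          _ = 1 := by rw [h5]; ring
      refine ⟨QuotientGroup.mk g, ?_⟩
      rw [psl2_index_generic h2 g (by rw [htr]; exact hs0) (by rw [htr]; exact hs4), htr]
      rcases card_roots_eq _ hs4 with h0 | h0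
      · exfalso
        rw [Fintype.card_eq_zero_iff] at h0
        exact h0.false ⟨t, by field_simp; ring⟩
      · rw [h0, hqq]

/-- Let F be a finite field with q elements, q odd and q ≥ 7. If q ≡ 1 (mod 4) the conjugacy class sizes of PSL(2,F) are exactly 1, (q² − 1)/2, q(q + 1)/2, q(q − 1) and q(q + 1); if q ≡ 3 (mod 4) they are exactly 1, (q² − 1)/2, q(q − 1)/2, q(q + 1) and q(q − 1). -/
theorem result {F : Type*} [Field F] [Fintype F]
    (hodd : ¬ 2 ∣ Fintype.card F) (h7 : 7 ≤ Fintype.card F) :
    (Fintype.card F % 4 = 1 →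
      Set.range (fun g : (Matrix.ProjectiveSpecialLinearGroup (Fin 2) F) => (Subgroup.centralizer ({g} : Set (Matrix.ProjectiveSpecialLinearGroup (Fin 2) F))).index) =
        {1, (Fintype.card F ^ 2 - 1) / 2, Fintype.card F * (Fintype.card F + 1) / 2,
          Fintype.card F * (Fintype.card F - 1), Fintype.card F * (Fintype.card F + 1)}) ∧
    (Fintype.card F % 4 = 3 →
      Set.range (fun g : (Matrix.ProjectiveSpecialLinearGroup (Fin 2) F) => (Subgroup.centralizer ({g} : Set (Matrix.ProjectiveSpecialLinearGroup (Fin 2) F))).index) =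
        {1, (Fintype.card F ^ 2 - 1) / 2, Fintype.card F * (Fintype.card F - 1) / 2,
          Fintype.card F * (Fintype.card F + 1), Fintype.card F * (Fintype.card F - 1)}) := by
  classical
  have h2 : (2 : F) ≠ 0 := by
    intro h
    apply hodd
    have hchar : ringChar F = 2 :=
      CharP.ringChar_of_prime_eq_zero Nat.prime_two (by exact_mod_cast h)
    exact Nat.dvd_of_mod_eq_zero (FiniteField.even_card_iff_char_two.mp hchar)
  have h4 : (4 : F) ≠ 0 := by
    have : (4 : F) = 2 * 2 := by norm_num
    rw [this]; exact mul_ne_zero h2 h2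
  have h04 : (0 : F) ^ 2 ≠ 4 := by
    intro h; apply h4; linear_combination -h
  have hqq : Fintype.card F * (Fintype.card F - 1) + Fintype.card F * 2 =
      Fintype.card F * (Fintype.card F + 1) := by
    obtain ⟨k, hk⟩ : ∃ k, Fintype.card F = k + 1 := ⟨Fintype.card F - 1, by omega⟩
    rw [hk]
    simp only [Nat.add_sub_cancel]
    ring
  constructor
  · intro hq
    have hsq : IsSquare (-1 : F) := FiniteField.isSquare_neg_one_iff.mpr (by omega)
    have hr0 : Fintype.card {a : F // a * (0 - a) - 1 = 0} = 2 := by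
      rcases card_roots_eq (0 : F) h04 with h0 | h0
      · exfalso
        obtain ⟨a, ha⟩ := hsq
        rw [Fintype.card_eq_zero_iff] at h0
        exact h0.false ⟨a, by linear_combination ha⟩
      · exact h0
    rw [range_eq h2 h7, hr0, hqq]
  · intro hq
    have hsq : ¬ IsSquare (-1 : F) := fun h => (FiniteField.isSquare_neg_one_iff.mp h) hq
    have hr0 : Fintype.card {a : F // a * (0 - a) - 1 = 0} = 0 := by
      rw [Fintype.card_eq_zero_iff]
      exact ⟨fun ⟨a, ha⟩ => hsq ⟨a, by linear_combination ha⟩⟩
    rw [range_eq h2 h7, hr0, mul_zero, add_zero]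
    ext n
    simp only [Set.mem_insert_iff, Set.mem_singleton_iff]
    tauto

end Cfsg.Agent.S2508
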