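import Cfsg.Statements.S2513
import Mathlib
import Cfsg.Agent.Lib.Helper42.SpecStab
import Cfsg.Agent.Lib.Helper42.GLTwoOrders

set_option autoImplicit false
open Cfsg

namespace Cfsg.Agent.S2513

open Cfsg.Agent.Helper42

/-- Let F be the field with two elements, n ≥ 2, L = PSL(n, F) and k₀ = ⌊(n + 3)/2⌋. Then for every k ≥ k₀ the direct product of k copies of L has the same set of element orders as the direct product of k₀ copies of L. -/
theorem result {F : Type*} [Field F] [Fintype F] (hF : Fintype.card F = 2) (n k : ℕ) (hn : 2 ≤ n) (hk : (n + 3) / 2 ≤ k) :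
    Set.range (orderOf : (Fin k → Matrix.ProjectiveSpecialLinearGroup (Fin n) F) → ℕ) = Set.range (orderOf : (Fin ((n + 3) / 2) → Matrix.ProjectiveSpecialLinearGroup (Fin n) F) → ℕ) := by
  classical
  -- the embedding into endomorphisms
  set Φ : Matrix.ProjectiveSpecialLinearGroup (Fin n) F →* Module.End F (Fin n → F) :=
    (slToEnd F n).comp (pslEquivSL hF n (by omega)).toMonoidHom with hΦ
  have hΦinj : Function.Injective Φ := by
    rw [hΦ]
    exact (slToEnd_injective n).comp (pslEquivSL hF n (by omega)).injective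
  have hΦsurj : ∀ f : Module.End F (Fin n → F), 0 < orderOf f →
      ∃ x : Matrix.ProjectiveSpecialLinearGroup (Fin n) F, orderOf x = orderOf f := by
    intro f hf
    obtain ⟨A, hA⟩ := slToEnd_surj hF n f hf
    refine ⟨(pslEquivSL hF n (by omega)).symm A, ?_⟩
    rw [← orderOf_injective Φ hΦinj]
    have h3 : Φ ((pslEquivSL hF n (by omega)).symm A) = f := by
      rw [hΦ]
      simp [hA]
    rw [h3]
  have hfin : Finite (Matrix.ProjectiveSpecialLinearGroup (Fin n) F) :=
    Finite.of_injective _ (pslEquivSL hF n (by omega)).injective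
  have hrank : Module.finrank F (Fin n → F) = n := Module.finrank_fin_fun F
  obtain ⟨a, hna, fu, hfu⟩ := exists_two_pow_order hF n hn
  -- the buckets
  let I := Option {t : ℕ // t ∈ Finset.Ioc (n / 2) n}
  let N : I → ℕ := fun b => match b with
    | none => 2 ^ a
    | some t => 2 ^ t.1 - 1
  have hcard : (n + 3) / 2 = Fintype.card I := by
    rw [Fintype.card_option, Fintype.card_coe, Nat.card_Ioc]
    omega
  refine spec_stab N ?_ ?_ ((n + 3) / 2) k hcard hk
  · intro b
    match b with
    | none =>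
      obtain ⟨x, hx⟩ := hΦsurj fu (by rw [hfu]; positivity)
      exact ⟨x, by rw [hx, hfu]⟩
    | some t =>
      have ht := Finset.mem_Ioc.mp t.2
      obtain ⟨fs, hfs⟩ := exists_singer hF n t.1 (by omega) ht.2
      have hpos : 0 < 2 ^ t.1 - 1 := by
        have : 2 ^ 1 ≤ 2 ^ t.1 := Nat.pow_le_pow_right (by norm_num) (by omega)
        omega
      obtain ⟨x, hx⟩ := hΦsurj fs (by rw [hfs]; exact hpos)
      exact ⟨x, by rw [hx, hfs]⟩
  · rintro p j hp hj ⟨h, hh⟩
    have hΦh : orderOf (Φ h) = p ^ j := by rw [orderOf_injective Φ hΦinj, hh]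
    by_cases hp2 : p = 2
    · subst hp2
      have h1 := two_pow_order_bound hF (Φ h) j hj hΦh
      rw [hrank] at h1
      have h2 : 2 ^ (j - 1) < 2 ^ a := lt_of_lt_of_le h1 hna
      have h3 : j - 1 < a := (Nat.pow_lt_pow_iff_right (by norm_num)).mp h2
      exact ⟨none, pow_dvd_pow 2 (by omega)⟩
    · obtain ⟨d, hd1, hdn, hdvd⟩ := odd_prime_pow_order_bound hF (Φ h) p j hp hp2 hj hΦh
      rw [hrank] at hdn
      have hq : 1 ≤ n / d := Nat.div_pos hdn (by omega)
      have ht1 : d ≤ d * (n / d) := Nat.le_mul_of_pos_right d hq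
      have ht2 : d * (n / d) + n % d = n := Nat.div_add_mod n d
      have ht3 : n % d < d := Nat.mod_lt n (by omega)
      have hmem : d * (n / d) ∈ Finset.Ioc (n / 2) n := by
        rw [Finset.mem_Ioc]
        constructor <;> omega
      refine ⟨some ⟨d * (n / d), hmem⟩, hdvd.trans ?_⟩
      show 2 ^ d - 1 ∣ 2 ^ (d * (n / d)) - 1
      have := Nat.sub_dvd_pow_sub_pow (2 ^ d) 1 (n / d)
      rwa [one_pow, ← pow_mul] at this

end Cfsg.Agent.S2513
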