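import Cfsg.Statements.S2514
import Mathlib

set_option autoImplicit false
open Cfsg

namespace Cfsg.Agent.S2514

/-- the set of element orders -/
abbrev om (X : Type*) [Group X] : Set ℕ := Set.range (orderOf : X → ℕ)

/-- maximal element orders -/
abbrev mu (X : Type*) [Group X] : Set ℕ :=
  {n : ℕ | n ∈ Set.range (orderOf : X → ℕ) ∧ ∀ m ∈ Set.range (orderOf : X → ℕ), n ∣ m → m = n}

theorem om_dvd_closed {X : Type*} [Group X] [Finite X] {n d : ℕ} (hn : n ∈ om X) (hd : d ∣ n) :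
    d ∈ om X := by
  obtain ⟨x, rfl⟩ := hn
  have hx : orderOf x ≠ 0 := (orderOf_pos x).ne'
  exact ⟨x ^ (orderOf x / d), orderOf_pow_orderOf_div hx hd⟩

theorem om_finite (X : Type*) [Group X] [Finite X] : (om X).Finite := Set.finite_range _

theorem exists_mu_of_om {X : Type*} [Group X] [Finite X] {n : ℕ} (hn : n ∈ om X) :
    ∃ M ∈ mu X, n ∣ M := by
  classical
  have hfin : ({m | m ∈ om X ∧ n ∣ m} : Set ℕ).Finite := (om_finite X).subset (fun m hm => hm.1)
  have hne : ({m | m ∈ om X ∧ n ∣ m} : Set ℕ).Nonempty := ⟨n, hn, dvd_rfl⟩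
  obtain ⟨M, hM, hmax⟩ := hfin.exists_maximal hne
  refine ⟨M, ⟨hM.1, ?_⟩, hM.2⟩
  intro m hm hMm
  have hm' : m ∈ ({m | m ∈ om X ∧ n ∣ m} : Set ℕ) := ⟨hm, hM.2.trans hMm⟩
  obtain ⟨y, rfl⟩ := hm
  have hpos : 0 < orderOf y := orderOf_pos y
  have h1 : M ≤ orderOf y := Nat.le_of_dvd hpos hMm
  have h2 : orderOf y ≤ M := hmax hm' h1
  exact le_antisymm h2 h1

theorem orderOf_eq_of_pow_iff {X Y : Type*} [Monoid X] [Monoid Y] (x : X) (y : Y)
    (h : ∀ N : ℕ, x ^ N = 1 ↔ y ^ N = 1) : orderOf x = orderOf y := by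
  apply Nat.dvd_antisymm
  · rw [orderOf_dvd_iff_pow_eq_one, h, ← orderOf_dvd_iff_pow_eq_one]
  · rw [orderOf_dvd_iff_pow_eq_one, ← h, ← orderOf_dvd_iff_pow_eq_one]

theorem pow_iff_of_orderOf_eq {X Y : Type*} [Monoid X] [Monoid Y] {x : X} {y : Y}
    (h : orderOf x = orderOf y) (N : ℕ) : x ^ N = 1 ↔ y ^ N = 1 := by
  rw [← orderOf_dvd_iff_pow_eq_one, ← orderOf_dvd_iff_pow_eq_one, h]

theorem pi_pow_eq_one {ι X : Type*} [Monoid X] (f : ι → X) (N : ℕ) :
    f ^ N = 1 ↔ ∀ i, f i ^ N = 1 := by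
  constructor
  · intro h i
    have := congrFun h i
    simpa using this
  · intro h
    funext i
    simpa using h i

theorem prod_pow_eq_one {X Y : Type*} [Monoid X] [Monoid Y] (x : X) (y : Y) (N : ℕ) :
    (x, y) ^ N = 1 ↔ x ^ N = 1 ∧ y ^ N = 1 := by
  rw [Prod.ext_iff]
  simp

theorem main {G H : Type*} [Group G] [Finite G] [Group H] [Finite H] (j : ℕ)
    (hsub : mu H ⊆ mu G) (hfew : (mu G \ mu H).ncard < j + 1) :
    Set.range (orderOf : (Fin (j + 1) → G) → ℕ) = Set.range (orderOf : (Fin j → G) × H → ℕ) := by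
  classical
  have homHG : om H ⊆ om G := by
    intro n hn
    obtain ⟨M, hM, hnM⟩ := exists_mu_of_om hn
    exact om_dvd_closed (hsub hM).1 hnM
  apply Set.eq_of_subset_of_subset
  · rintro _ ⟨F, rfl⟩
    -- for each i choose M i
    have hex : ∀ i, ∃ M ∈ mu G, orderOf (F i) ∣ M := fun i => exists_mu_of_om ⟨F i, rfl⟩
    choose M hMmu hMdvd using hex
    by_cases hcase : ∃ i, M i ∈ mu H
    · obtain ⟨i, hi⟩ := hcase
      have : orderOf (F i) ∈ om H := om_dvd_closed hi.1 (hMdvd i)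
      obtain ⟨h, hh⟩ := this
      refine ⟨(i.removeNth F, h), ?_⟩
      apply orderOf_eq_of_pow_iff
      intro N
      rw [prod_pow_eq_one, pi_pow_eq_one, pi_pow_eq_one, Fin.forall_iff_succAbove i]
      rw [pow_iff_of_orderOf_eq hh N]
      simp only [Fin.removeNth]
      tauto
    · push Not at hcase
      have hmaps : ∀ i ∈ (Set.univ : Set (Fin (j + 1))), M i ∈ mu G \ mu H :=
        fun i _ => ⟨hMmu i, hcase i⟩
      have hfinD : (mu G \ mu H).Finite := ((om_finite G).subset (fun m hm => hm.1)).subset Set.sdiff_subset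
      have hcard : (mu G \ mu H).ncard < (Set.univ : Set (Fin (j + 1))).ncard := by
        rw [Set.ncard_univ, Nat.card_eq_fintype_card, Fintype.card_fin]
        exact hfew
      obtain ⟨i₁, -, i₂, -, hne, heq⟩ := Set.exists_ne_map_eq_of_ncard_lt_of_maps_to hcard hmaps hfinD
      have hl : Nat.lcm (orderOf (F i₁)) (orderOf (F i₂)) ∣ M i₁ :=
        Nat.lcm_dvd (hMdvd i₁) (heq ▸ hMdvd i₂)
      obtain ⟨g', hg'⟩ : Nat.lcm (orderOf (F i₁)) (orderOf (F i₂)) ∈ om G :=
        om_dvd_closed (hMmu i₁).1 hl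
      refine ⟨(i₂.removeNth (Function.update F i₁ g'), 1), ?_⟩
      apply orderOf_eq_of_pow_iff
      intro N
      rw [prod_pow_eq_one, pi_pow_eq_one, pi_pow_eq_one, Fin.forall_iff_succAbove i₂]
      simp only [one_pow, and_true, Fin.removeNth]
      have key : g' ^ N = 1 ↔ F i₁ ^ N = 1 ∧ F i₂ ^ N = 1 := by
        rw [← orderOf_dvd_iff_pow_eq_one, hg', Nat.lcm_dvd_iff, orderOf_dvd_iff_pow_eq_one,
          orderOf_dvd_iff_pow_eq_one]
      constructor
      · intro h
        obtain ⟨i', hi'⟩ := Fin.exists_succAbove_eq hne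
        have h1 := h i'
        rw [hi', Function.update_self, key] at h1
        refine ⟨h1.2, fun i => ?_⟩
        by_cases hi : i₂.succAbove i = i₁
        · rw [hi]; exact h1.1
        · have := h i
          rwa [Function.update_of_ne hi] at this
      · rintro ⟨h2, hrest⟩
        intro i
        by_cases hi : i₂.succAbove i = i₁
        · rw [hi, Function.update_self, key]
          exact ⟨hi ▸ hrest i, h2⟩
        · rw [Function.update_of_ne hi]
          exact hrest i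
  · rintro _ ⟨⟨f, h⟩, rfl⟩
    obtain ⟨g, hg⟩ : orderOf h ∈ om G := homHG ⟨h, rfl⟩
    refine ⟨Fin.cons g f, ?_⟩
    apply orderOf_eq_of_pow_iff
    intro N
    rw [prod_pow_eq_one, pi_pow_eq_one, pi_pow_eq_one, Fin.forall_fin_succ]
    simp only [Fin.cons_zero, Fin.cons_succ]
    rw [pow_iff_of_orderOf_eq hg N]
    tauto

/-- For a finite group X write μ(X) for the set of element orders of X that are maximal under divisibility. Let G and H be finite groups and k ≥ 1 such that μ(H) ⊆ μ(G) and μ(G) has fewer than k elements outside μ(H). Then the direct product of k copies of G has the same set of element orders as the direct product of k − 1 copies of G with H. -/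
theorem result {G H : Type*} [Group G] [Finite G] [Group H] [Finite H] (k : ℕ) (hk : 1 ≤ k)
    (hsub : {n : ℕ | n ∈ Set.range (orderOf : H → ℕ) ∧ ∀ m ∈ Set.range (orderOf : H → ℕ), n ∣ m → m = n} ⊆ {n : ℕ | n ∈ Set.range (orderOf : G → ℕ) ∧ ∀ m ∈ Set.range (orderOf : G → ℕ), n ∣ m → m = n})
    (hfew : ({n : ℕ | n ∈ Set.range (orderOf : G → ℕ) ∧ ∀ m ∈ Set.range (orderOf : G → ℕ), n ∣ m → m = n} \ {n : ℕ | n ∈ Set.range (orderOf : H → ℕ) ∧ ∀ m ∈ Set.range (orderOf : H → ℕ), n ∣ m → m = n}).ncard < k) :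
    Set.range (orderOf : (Fin k → G) → ℕ) = Set.range (orderOf : (Fin (k - 1) → G) × H → ℕ) := by
  obtain ⟨j, rfl⟩ : ∃ j, k = j + 1 := ⟨k - 1, by omega⟩
  exact main j hsub hfew

end Cfsg.Agent.S2514
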