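import Cfsg.Statements.S2515
import Cfsg.Agent.Lib.Helper38.ReeTruncMain

set_option autoImplicit false
open Cfsg

namespace Cfsg.Agent.S2515

open Cfsg.Agent.Helper38 Cfsg.Agent.Helper38.ReeTrunc

/-- the maximal element orders, from a covering antichain of realized orders -/
theorem maxOrders_eq {H : Type*} [Group H] (S : Set ℕ) (h1 : ∀ s ∈ S, ∃ x : H, orderOf x = s)
    (h2 : ∀ x : H, ∃ s ∈ S, orderOf x ∣ s) (h3 : ∀ s ∈ S, ∀ s' ∈ S, s ∣ s' → s' = s) :
    {n : ℕ | n ∈ Set.range (orderOf : H → ℕ) ∧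
      ∀ m ∈ Set.range (orderOf : H → ℕ), n ∣ m → m = n} = S := by
  ext n
  constructor
  · rintro ⟨⟨x, rfl⟩, hmax⟩
    obtain ⟨s, hs, hd⟩ := h2 x
    obtain ⟨y, hy⟩ := h1 s hs
    have := hmax s ⟨y, hy⟩ hd
    rw [← this]
    exact hs
  · intro hn
    refine ⟨?_, ?_⟩
    · obtain ⟨x, hx⟩ := h1 n hn
      exact ⟨x, hx⟩
    · rintro m ⟨y, rfl⟩ hdvd
      obtain ⟨s, hs, hd⟩ := h2 y
      have hsn := h3 n hn s hs (hdvd.trans hd)
      rw [hsn] at hd
      exact Nat.dvd_antisymm hd hdvd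

theorem three_pow_mod_four (α : ℕ) (hodd : Odd α) : 3 ^ α % 4 = 3 := by
  obtain ⟨k, rfl⟩ := hodd
  rw [pow_succ, pow_mul, Nat.mul_mod, Nat.pow_mod]
  norm_num

theorem antichain (q : ℕ) (hq4 : q % 4 = 3) (hq3 : q % 3 = 0) (hq : 27 ≤ q) :
    ∀ s ∈ ({6, 9, q - 1, (q + 1) / 2} : Set ℕ), ∀ s' ∈ ({6, 9, q - 1, (q + 1) / 2} : Set ℕ),
      s ∣ s' → s' = s := by
  intro s hs s' hs' hd
  simp only [Set.mem_insert_iff, Set.mem_singleton_iff] at hs hs'
  rcases hs with rfl | rfl | rfl | rfl <;> rcases hs' with rfl | rfl | rfl | rfl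
  · rfl
  · omega
  · omega
  · omega
  · omega
  · rfl
  · omega
  · omega
  · have := Nat.le_of_dvd (by norm_num) hd
    omega
  · have := Nat.le_of_dvd (by norm_num) hd
    omega
  · rfl
  · have := Nat.le_of_dvd (by omega) hd
    omega
  · have := Nat.le_of_dvd (by norm_num) hd
    omega
  · have := Nat.le_of_dvd (by norm_num) hd
    omega
  · obtain ⟨k, hk⟩ := hd
    rcases k with _ | _ | k
    · omega
    · omega
    · have : (q + 1) / 2 * 2 ≤ (q + 1) / 2 * (k + 1 + 1) := Nat.mul_le_mul_left _ (by omega)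
      omega
  · rfl

/-- Let q = 3^α with α ≥ 3 odd. There is a finite group H having a non-trivial normal 3-subgroup and whose element orders maximal under divisibility are exactly 6, 9, q − 1 and (q + 1)/2. -/
theorem result (α : ℕ) (hα : 3 ≤ α) (hodd : Odd α) :
    ∃ (H : Type) (_ : Group H) (_ : Fintype H), (∃ P : Subgroup H, P.Normal ∧ P ≠ ⊥ ∧ IsPGroup 3 ↥P) ∧
      {n : ℕ | n ∈ Set.range (orderOf : H → ℕ) ∧ ∀ m ∈ Set.range (orderOf : H → ℕ), n ∣ m → m = n} = ({6, 9, 3 ^ α - 1, (3 ^ α + 1) / 2} : Set ℕ) := by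
  classical
  let F := GaloisField 3 α
  have : Fintype F := Fintype.ofFinite F
  have hcard : Fintype.card F = 3 ^ α := by
    rw [← Nat.card_eq_fintype_card]
    exact GaloisField.card 3 α (by omega)
  have hq4 : Fintype.card F % 4 = 3 := by
    rw [hcard]
    exact three_pow_mod_four α hodd
  have hq3 : 3 ^ α % 3 = 0 := by
    obtain ⟨k, rfl⟩ : ∃ k, α = k + 1 := ⟨α - 1, by omega⟩
    rw [pow_succ]
    exact Nat.mul_mod_left _ _
  have hq27 : 27 ≤ 3 ^ α := by
    calc 27 = 3 ^ 3 := by norm_num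
      _ ≤ 3 ^ α := Nat.pow_le_pow_right (by norm_num) hα
  have : Finite (Matrix (Fin 2) (Fin 2) F ≃ₗ[F] Matrix (Fin 2) (Fin 2) F) :=
    Finite.of_injective (fun e => (e : Matrix (Fin 2) (Fin 2) F → Matrix (Fin 2) (Fin 2) F))
      DFunLike.coe_injective
  have : Finite (HH F) :=
    Finite.of_injective (fun x : HH F => (x.v, x.a)) (by
      intro x y h
      exact Aff.ext (congrArg Prod.fst h) (congrArg Prod.snd h))
  refine ⟨HH F, inferInstance, Fintype.ofFinite _, exists_normal_three, ?_⟩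
  rw [← hcard]
  apply maxOrders_eq
  · intro s hs
    simp only [Set.mem_insert_iff, Set.mem_singleton_iff] at hs
    rcases hs with rfl | rfl | rfl | rfl
    · exact exists_six
    · exact exists_nine
    · exact exists_sub_one hq4
    · exact exists_add_one_half hq4
  · intro x
    rcases pow_cases hq4 x with h | h | h | h
    · exact ⟨6, by simp, orderOf_dvd_of_pow_eq_one h⟩
    · exact ⟨9, by simp, orderOf_dvd_of_pow_eq_one h⟩
    · exact ⟨Fintype.card F - 1, by simp, orderOf_dvd_of_pow_eq_one h⟩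
    · exact ⟨(Fintype.card F + 1) / 2, by simp, orderOf_dvd_of_pow_eq_one h⟩
  · exact antichain _ hq4 (by rw [hcard]; exact hq3) (by rw [hcard]; exact hq27)

end Cfsg.Agent.S2515
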