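import Cfsg.Statements.S2516
import Mathlib

set_option autoImplicit false
open Cfsg

namespace Cfsg.Agent.S2516

variable {F : Type*} [Field F] {V : Type*} [AddCommGroup V] [Module F V] {G : Type*} [Group G]

/-- the action hom of the statement -/
noncomputable abbrev phi (ρ : Representation F G V) : G →* MulAut (Multiplicative V) :=
  (MulAutMultiplicative V).symm.toMonoidHom.comp
    ((DistribMulAction.toAddAut ((V →ₗ[F] V)ˣ) V).comp ρ.asGroupHom)

theorem phi_apply (ρ : Representation F G V) (g : G) (v : V) :
    phi ρ g (Multiplicative.ofAdd v) = Multiplicative.ofAdd (ρ g v) := rfl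

/-- partial sums -/
noncomputable def S (ρ : Representation F G V) (g : G) (n : ℕ) : V →ₗ[F] V :=
  ∑ i ∈ Finset.range n, (ρ g) ^ i

theorem pow_formula (ρ : Representation F G V) (x : Multiplicative V ⋊[phi ρ] G) (n : ℕ) :
    x ^ n = ⟨Multiplicative.ofAdd (S ρ x.right n (Multiplicative.toAdd x.left)), x.right ^ n⟩ := by
  induction n with
  | zero =>
    apply SemidirectProduct.ext <;> simp [S]
  | succ n ih =>
    rw [pow_succ, ih]
    apply SemidirectProduct.ext
    · rw [SemidirectProduct.mul_left]
      show Multiplicative.ofAdd _ * phi ρ (x.right ^ n) (Multiplicative.ofAdd (Multiplicative.toAdd x.left)) = _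
      rw [phi_apply, ← ofAdd_add]
      congr 1
      simp only [S, Finset.sum_range_succ, LinearMap.add_apply, map_pow]
    · rw [SemidirectProduct.mul_right, pow_succ]

theorem pow_eq_one_iff (ρ : Representation F G V) (x : Multiplicative V ⋊[phi ρ] G) (n : ℕ) :
    x ^ n = 1 ↔ x.right ^ n = 1 ∧ S ρ x.right n (Multiplicative.toAdd x.left) = 0 := by
  rw [pow_formula]
  constructor
  · intro h
    have h1 := congrArg SemidirectProduct.left h
    have h2 := congrArg SemidirectProduct.right h
    simp only [SemidirectProduct.one_left, SemidirectProduct.one_right] at h1 h2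
    exact ⟨h2, by simpa using h1⟩
  · rintro ⟨h1, h2⟩
    apply SemidirectProduct.ext
    · simp [h2]
    · simp [h1]

theorem S_mul (ρ : Representation F G V) (g : G) (k m : ℕ) (hk : g ^ k = 1) :
    S ρ g (k * m) = m • S ρ g k := by
  induction m with
  | zero => simp [S]
  | succ m ih =>
    rw [Nat.mul_succ, succ_nsmul, ← ih]
    unfold S
    rw [Finset.sum_range_add]
    congr 1
    apply Finset.sum_congr rfl
    intro i _
    rw [pow_add, pow_mul, ← map_pow, hk]
    simp

/-- Let F be a field of characteristic p > 0, V a non-zero finite-dimensional F-vector space, G a finite group and ρ a representation of G on V; form the semidirect product V ⋊ G. For g ∈ G of order k, the coset Vg contains an element of order pk if and only if the minimal polynomial of ρ(g) does not divide 1 + X + ⋯ + X^(k−1). -/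
theorem result {F : Type*} [Field F] (p : ℕ) [Fact p.Prime] [CharP F p] {V : Type*} [AddCommGroup V] [Module F V] [FiniteDimensional F V] [Nontrivial V]
    {G : Type*} [Group G] [Finite G] (ρ : Representation F G V) (g : G) :
    (∃ x : Multiplicative V ⋊[(MulAutMultiplicative V).symm.toMonoidHom.comp
        ((DistribMulAction.toAddAut ((V →ₗ[F] V)ˣ) V).comp ρ.asGroupHom)] G,
        x.right = g ∧ orderOf x = p * orderOf g) ↔
      ¬ (minpoly F (ρ g) ∣ ∑ i ∈ Finset.range (orderOf g), (Polynomial.X : Polynomial F) ^ i) := by
  have hp : p.Prime := Fact.out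
  have hk : 0 < orderOf g := orderOf_pos g
  rw [minpoly.dvd_iff]
  have haeval : Polynomial.aeval (ρ g) (∑ i ∈ Finset.range (orderOf g), (Polynomial.X : Polynomial F) ^ i)
      = S ρ g (orderOf g) := by
    simp [S, map_sum]
  rw [haeval]
  -- order of x with right component g
  have key : ∀ x : Multiplicative V ⋊[phi ρ] G, x.right = g →
      (orderOf x = p * orderOf g ↔ S ρ g (orderOf g) (Multiplicative.toAdd x.left) ≠ 0) := by
    intro x hx
    set w := S ρ g (orderOf g) (Multiplicative.toAdd x.left) with hw
    have hdvd : ∀ n, x ^ n = 1 → orderOf g ∣ n := by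
      intro n hn
      rw [pow_eq_one_iff, hx] at hn
      exact orderOf_dvd_of_pow_eq_one hn.1
    have hmul : ∀ m, x ^ (orderOf g * m) = 1 ↔ m • w = 0 := by
      intro m
      rw [pow_eq_one_iff, hx, S_mul ρ g _ m (pow_orderOf_eq_one g)]
      simp [pow_mul, pow_orderOf_eq_one, hw]
    constructor
    · intro hord hw0
      have h1 : x ^ (orderOf g * 1) = 1 := by
        rw [hmul]; simp [hw0]
      rw [mul_one] at h1
      have := orderOf_dvd_of_pow_eq_one h1
      rw [hord] at this
      have h2 := Nat.le_of_dvd hk this
      have : 2 ≤ p := hp.two_le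
      nlinarith
    · intro hw0
      apply Nat.dvd_antisymm
      · apply orderOf_dvd_of_pow_eq_one
        rw [mul_comm, hmul]
        rw [← Nat.cast_smul_eq_nsmul F, CharP.cast_eq_zero, zero_smul]
      · obtain ⟨m, hm⟩ := hdvd _ (pow_orderOf_eq_one x)
        rw [hm, mul_comm]
        apply Nat.mul_dvd_mul_left
        have h1 : x ^ (orderOf g * m) = 1 := by rw [← hm]; exact pow_orderOf_eq_one x
        rw [hmul, ← Nat.cast_smul_eq_nsmul F] at h1
        rcases smul_eq_zero.mp h1 with h | h
        · exact (CharP.cast_eq_zero_iff F p m).mp h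
        · exact absurd h hw0
  constructor
  · rintro ⟨x, hx, hord⟩ h0
    have := (key x hx).mp hord
    rw [h0] at this
    simp at this
  · intro h0
    obtain ⟨v, hv⟩ : ∃ v, S ρ g (orderOf g) v ≠ 0 := by
      by_contra hcon
      push Not at hcon
      exact h0 (LinearMap.ext hcon)
    refine ⟨⟨Multiplicative.ofAdd v, g⟩, rfl, ?_⟩
    exact (key _ rfl).mpr hv

end Cfsg.Agent.S2516
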