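import Cfsg.Statements.S2522
import Mathlib
import Cfsg.Agent.Lib.Helper44.LUDefs
import Cfsg.Agent.Lib.Helper44.LUP3
import Cfsg.Agent.Lib.Helper44.LUF1
import Cfsg.Agent.Lib.Helper44.LUF2
import Cfsg.Agent.Lib.Helper44.LUF3

set_option autoImplicit false
open Cfsg

namespace Cfsg.Agent.S2522

/-- Let K be a field with at least four elements (finite or infinite), n ≥ 3, and J ∈ GL(n, K) the regular unipotent matrix (ones on the diagonal and the superdiagonal, zeros elsewhere). Then every non-scalar g ∈ GL(n, K) with det g = 1 is a product of two GL(n, K)-conjugates of J. -/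
theorem result {K : Type*} [Field K] (hK : 4 ≤ Cardinal.mk K) (n : ℕ) (hn : 3 ≤ n) (J g : GL (Fin n) K)
    (hJ : ∀ i j : Fin n, (J : Matrix (Fin n) (Fin n) K) i j = if i = j then 1 else if j.val = i.val + 1 then 1 else 0)
    (hg : ¬ ∃ c : K, (g : Matrix (Fin n) (Fin n) K) = c • (1 : Matrix (Fin n) (Fin n) K))
    (hdet : (g : Matrix (Fin n) (Fin n) K).det = 1) :
    ∃ x y : GL (Fin n) K, g = (x * J * x⁻¹) * (y * J * y⁻¹) := by
  classical
  obtain ⟨m, rfl⟩ : ∃ m, n = m + 2 := ⟨n - 2, by omega⟩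
  by_cases hG : Cfsg.Agent.Helper44.LU.Good (g : Matrix (Fin (m + 2)) (Fin (m + 2)) K)
  · have hx : (Pi.single 0 1 : Fin (m + 2) → K) ≠ 0 := by
      intro h
      have := congrFun h 0
      simp at this
    obtain ⟨P, L, U, hL, hU, hLU, -, -⟩ :=
      Cfsg.Agent.Helper44.LU.plu_of_good hK m (g : Matrix (Fin (m + 2)) (Fin (m + 2)) K) hdet hG
        (Pi.single 0 1) (Pi.single 0 1) hx hx
    have hdetLU : (L * U).det = 1 := by
      rw [← hLU, Cfsg.Agent.Helper44.LU.conjm, Matrix.det_mul, Matrix.det_mul, hdet, mul_one,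
        ← Matrix.det_mul]
      simp
    have hLd : IsUnit L.det := by
      rw [Matrix.det_mul] at hdetLU
      exact IsUnit.of_mul_eq_one _ hdetLU
    have hUd : IsUnit U.det := by
      rw [Matrix.det_mul, mul_comm] at hdetLU
      exact IsUnit.of_mul_eq_one _ hdetLU
    let Lg : GL (Fin (m + 2)) K := Matrix.GeneralLinearGroup.mk'' L hLd
    let Ug : GL (Fin (m + 2)) K := Matrix.GeneralLinearGroup.mk'' U hUd
    obtain ⟨a, ha⟩ := Cfsg.Agent.Helper44.LU.conj_of_lowReg J Lg hJ (by simpa [Lg] using hL)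
    obtain ⟨b, hb⟩ := Cfsg.Agent.Helper44.LU.conj_of_upReg J Ug hJ (by simpa [Ug] using hU)
    have hg2 : P⁻¹ * g * P = Lg * Ug := by
      apply Units.ext
      simpa [Cfsg.Agent.Helper44.LU.conjm, Lg, Ug] using hLU
    have hg3 : g = P * (Lg * Ug) * P⁻¹ := by
      rw [← hg2]; group
    refine ⟨P * a, P * b, ?_⟩
    rw [hg3, ha, hb]
    group
  · have hg1 : g ≠ 1 := by
      rintro rfl
      exact hg ⟨1, by simp⟩
    have : ∃ w ψ : Fin (m + 2) → K,
        (g : Matrix (Fin (m + 2)) (Fin (m + 2)) K) - 1 = Matrix.vecMulVec w ψ := by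
      by_contra hcon
      apply hG
      refine ⟨fun c hc => hg ⟨c, hc⟩, fun w ψ hw => hcon ⟨w, ψ, hw⟩⟩
    obtain ⟨w, ψ, hw⟩ := this
    exact Cfsg.Agent.Helper44.LU.prod_of_rank_one hn J g hJ hdet hg1 w ψ hw

end Cfsg.Agent.S2522
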