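import Cfsg.Statements.S2531
import Mathlib
-- import your own Cfsg.Agent.* helpers here

set_option autoImplicit false
open Cfsg

namespace Cfsg.Agent.S2531

section gen
variable {F : Type*} [Field F] [Finite F] {V : Type*} [AddCommGroup V] [Module F V] [Finite V]

theorem rep_mem_iff (U : Submodule F V) (v : V) (hv : v ≠ 0) :
    (Projectivization.mk F v hv).rep ∈ U ↔ v ∈ U := by
  obtain ⟨a, ha⟩ := Projectivization.exists_smul_eq_mk_rep F v hv
  rw [← ha]
  exact Submodule.smul_mem_iff' U a

theorem card_proj_cast [Nontrivial V] :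
    ((Nat.card (Projectivization F V) : ℕ) : ZMod (Nat.card F)) = 1 := by
  have h1 := Projectivization.card' F V
  have hq1 : 1 < Nat.card F := Finite.one_lt_card
  have hq : Nat.card F ∣ Nat.card V := by
    haveI : Module.Finite F V := Module.Finite.of_finite
    rw [Module.natCard_eq_pow_finrank (K := F) (V := V)]
    exact dvd_pow_self _ (Module.finrank_pos (R := F) (M := V)).ne'
  have h2 : ((Nat.card V : ℕ) : ZMod (Nat.card F)) = 0 := (ZMod.natCast_eq_zero_iff _ _).mpr hq
  rw [h1] at h2
  have h3 : (((Nat.card F - 1 : ℕ)) : ZMod (Nat.card F)) = -1 := by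
    rw [Nat.cast_sub hq1.le]; simp
  push_cast at h2
  rw [h3] at h2
  linear_combination (-1 : ZMod (Nat.card F)) * h2

theorem card_points_cast (U : Submodule F V) (hU : U ≠ ⊥) :
    ((Nat.card {x : Projectivization F V // x.rep ∈ U} : ℕ) : ZMod (Nat.card F)) = 1 := by
  classical
  let φ : Projectivization F U → Projectivization F V :=
    Projectivization.map U.subtype U.injective_subtype
  have hφ : Function.Injective φ := Projectivization.map_injective _ _
  have hrange : ∀ x : Projectivization F V, x.rep ∈ U ↔ x ∈ Set.range φ := by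
    intro x
    constructor
    · intro hx
      have hne : (⟨x.rep, hx⟩ : U) ≠ 0 := by
        intro h0
        exact x.rep_nonzero (congrArg Subtype.val h0)
      refine ⟨Projectivization.mk F ⟨x.rep, hx⟩ hne, ?_⟩
      show Projectivization.map _ _ _ = x
      rw [Projectivization.map_mk]
      exact x.mk_rep
    · rintro ⟨y, rfl⟩
      induction y using Projectivization.ind with
      | h u hu =>
        show (Projectivization.map _ _ (Projectivization.mk F u hu)).rep ∈ U
        rw [Projectivization.map_mk, rep_mem_iff]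
        exact u.2
  have hcard : Nat.card {x : Projectivization F V // x.rep ∈ U}
      = Nat.card (Projectivization F U) := by
    have e1 : {x : Projectivization F V // x.rep ∈ U} ≃ Set.range φ :=
      Equiv.subtypeEquivRight hrange
    rw [Nat.card_congr e1]
    exact (Nat.card_congr (Equiv.ofInjective φ hφ)).symm
  rw [hcard]
  haveI : Nontrivial U := (Submodule.nontrivial_iff_ne_bot).mpr hU
  exact card_proj_cast

theorem card_filter_cast (U : Submodule F V) (hU : U ≠ ⊥) [Fintype (Projectivization F V)]
    [DecidablePred (fun x : Projectivization F V => x.rep ∈ U)] :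
    (((Finset.univ.filter (fun x : Projectivization F V => x.rep ∈ U)).card : ℕ) :
      ZMod (Nat.card F)) = 1 := by
  rw [← Fintype.card_subtype, ← Nat.card_eq_fintype_card]
  exact card_points_cast U hU

theorem card_proj_cast' [Nontrivial V] [Fintype (Projectivization F V)] :
    ((Fintype.card (Projectivization F V) : ℕ) : ZMod (Nat.card F)) = 1 := by
  rw [← Nat.card_eq_fintype_card]
  exact card_proj_cast

/-- the subspace of vectors `v` with `w v = 0` and `w (f v) = 0`. -/
def Usub {σ : F →+* F} (w : V →ₗ[F] F) (f : V →ₛₗ[σ] V) : Submodule F V where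
  carrier := {v | w v = 0 ∧ w (f v) = 0}
  add_mem' := by
    rintro a b ⟨ha1, ha2⟩ ⟨hb1, hb2⟩
    exact ⟨by rw [map_add, ha1, hb1, add_zero], by rw [map_add, map_add, ha2, hb2, add_zero]⟩
  zero_mem' := ⟨map_zero _, by rw [map_zero, map_zero]⟩
  smul_mem' := by
    rintro c v ⟨h1, h2⟩
    exact ⟨by rw [map_smul, h1, smul_zero], by rw [map_smulₛₗ, map_smul, h2, smul_zero]⟩

theorem mem_Usub {σ : F →+* F} (w : V →ₗ[F] F) (f : V →ₛₗ[σ] V) (v : V) :
    v ∈ Usub w f ↔ w v = 0 ∧ w (f v) = 0 := Iff.rfl

end gen

theorem Usub_ne_bot {F : Type*} [Field F] [Finite F] {n : ℕ} (hn : 3 ≤ n) {σ : F →+* F}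
    (w : (Fin n → F) →ₗ[F] F) (f : (Fin n → F) →ₛₗ[σ] (Fin n → F)) :
    Usub w f ≠ ⊥ := by
  classical
  haveI : Fintype F := Fintype.ofFinite F
  have hcard : Fintype.card (F × F) < Fintype.card (Fin n → F) := by
    rw [Fintype.card_prod, Fintype.card_fun, Fintype.card_fin]
    have h1 : 1 < Fintype.card F := Fintype.one_lt_card
    calc Fintype.card F * Fintype.card F = Fintype.card F ^ 2 := (sq _).symm
      _ < Fintype.card F ^ n := Nat.pow_lt_pow_right h1 (by omega)
  obtain ⟨x, y, hxy, hg⟩ :=
    Fintype.exists_ne_map_eq_of_card_lt (fun v : Fin n → F => (w v, w (f v))) hcard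
  intro hbot
  have hmem : x - y ∈ Usub w f := by
    simp only [Prod.mk.injEq] at hg
    exact ⟨by rw [map_sub, hg.1, sub_self], by rw [map_sub, map_sub, hg.2, sub_self]⟩
  rw [hbot, Submodule.mem_bot, sub_eq_zero] at hmem
  exact hxy hmem

/-- Let `F` be a finite field and `n ≥ 3`. No set of permutations of the points of the projective space of `Fⁿ`, each induced by an invertible semilinear transformation of `Fⁿ` (so a subset of the full projective semilinear group), is sharply 2-transitive on the points: it is impossible that for all pairs of distinct points `(a, b)` and `(c, d)` exactly one member of the set sends `a` to `c` and `b` to `d`. -/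
theorem result {F : Type*} [Field F] [Finite F]
    (n : ℕ) (hn : 3 ≤ n) (S : Set (Equiv.Perm (Projectivization F (Fin n → F))))
    (hS : ∀ s ∈ S, ∃ (σ : F ≃+* F) (f : (Fin n → F) →ₛₗ[(σ : F →+* F)] (Fin n → F)) (hf : Function.Injective f),
      ∀ x, s x = Projectivization.map f hf x) :
    ¬ (∀ a b c d : Projectivization F (Fin n → F), a ≠ b → c ≠ d →
        ∃! s, s ∈ S ∧ s a = c ∧ s b = d) := by
  classical
  intro h2
  haveI : Fintype (Projectivization F (Fin n → F)) := Fintype.ofFinite _
  have hq1 : 1 < Nat.card F := Finite.one_lt_card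
  haveI : Fact (1 < Nat.card F) := ⟨hq1⟩
  let i0 : Fin n := ⟨0, by omega⟩
  let i1 : Fin n := ⟨1, by omega⟩
  have hi01 : i0 ≠ i1 := by
    intro h
    have := congrArg Fin.val h
    simp [i0, i1] at this
  let w : (Fin n → F) →ₗ[F] F := LinearMap.proj i0
  let U0 : Submodule F (Fin n → F) := LinearMap.ker w
  have hv0 : (Pi.single i0 (1:F) : Fin n → F) ≠ 0 := by
    intro h
    have := congrFun h i0
    simp at this
  have hv1 : (Pi.single i1 (1:F) : Fin n → F) ≠ 0 := by
    intro h
    have := congrFun h i1
    simp at this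
  let p : Projectivization F (Fin n → F) := Projectivization.mk F _ hv0
  let b : Projectivization F (Fin n → F) := Projectivization.mk F _ hv1
  have hp : p.rep ∉ U0 := by
    rw [rep_mem_iff]
    simp [U0, w]
  have hb : b.rep ∈ U0 := by
    rw [rep_mem_iff]
    simp [U0, w, Pi.single_apply, hi01]
  have hpb : p ≠ b := by
    intro h
    rw [h] at hp
    exact hp hb
  have hfib : ∀ a b c d : Projectivization F (Fin n → F), a ≠ b → c ≠ d →
      (Finset.univ.filter (fun s : Equiv.Perm (Projectivization F (Fin n → F)) =>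
        s ∈ S ∧ s a = c ∧ s b = d)).card = 1 := by
    intro a b c d hab hcd
    obtain ⟨s0, hs0, huniq⟩ := h2 a b c d hab hcd
    rw [Finset.card_eq_one]
    refine ⟨s0, ?_⟩
    ext s
    simp only [Finset.mem_filter, Finset.mem_univ, true_and, Finset.mem_singleton]
    exact ⟨fun h => huniq s h, fun h => h ▸ hs0⟩
  haveI : Nonempty (Fin n) := ⟨i0⟩
  let H : Finset (Projectivization F (Fin n → F)) := Finset.univ.filter (fun x => x.rep ∈ U0)
  let S' : Finset (Equiv.Perm (Projectivization F (Fin n → F))) :=
    Finset.univ.filter (fun s => s ∈ S ∧ s p = p)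
  have hpH : p ∉ H := by simp [H, hp]
  have hbH : b ∈ H := by simp [H, hb]
  have hHcast : ((H.card : ℕ) : ZMod (Nat.card F)) = 1 := by
    have hU0 : U0 ≠ ⊥ := by
      intro h
      rw [h, Submodule.mem_bot] at hb
      exact b.rep_nonzero hb
    exact card_filter_cast (F := F) U0 hU0
  have hS'card : S'.card = (Finset.univ.erase p).card := by
    rw [Finset.card_eq_sum_card_fiberwise (f := fun s : Equiv.Perm _ => s b)
      (t := Finset.univ.erase p)]
    · rw [Finset.card_eq_sum_ones (Finset.univ.erase p)]
      apply Finset.sum_congr rfl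
      intro y hy
      have hyp : y ≠ p := Finset.ne_of_mem_erase hy
      rw [← hfib p b p y hpb hyp.symm]
      congr 1
      ext s
      simp only [S', Finset.mem_filter, Finset.mem_univ, true_and]
      tauto
    · intro s hs
      simp only [S', Finset.coe_filter, Finset.mem_univ, true_and, Set.mem_ofPred_eq] at hs
      simp only [Finset.coe_erase, Finset.coe_univ, Set.mem_sdiff, Set.mem_univ, true_and,
        Set.mem_singleton_iff]
      intro h
      apply hpb
      apply s.injective
      rw [hs.2, h]
  have hS'cast : ((S'.card : ℕ) : ZMod (Nat.card F)) = 0 := by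
    rw [hS'card, Finset.card_erase_of_mem (Finset.mem_univ p), Finset.card_univ]
    have h1 := card_proj_cast' (F := F) (V := Fin n → F)
    have hpos : 1 ≤ Fintype.card (Projectivization F (Fin n → F)) :=
      Fintype.card_pos_iff.mpr ⟨p⟩
    rw [Nat.cast_sub hpos, h1]
    simp
  have hinner : ∀ s ∈ S', (((H.filter (fun x => s x ∈ H)).card : ℕ) : ZMod (Nat.card F)) = 1 := by
    intro s hs
    simp only [S', Finset.mem_filter, Finset.mem_univ, true_and] at hs
    obtain ⟨σ, f, hf, hsf⟩ := hS s hs.1
    have hU : Usub w f ≠ ⊥ := Usub_ne_bot hn w f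
    have := card_filter_cast (F := F) (Usub w f) hU
    rw [← this]
    congr 2
    ext x
    simp only [H, Finset.mem_filter, Finset.mem_univ, true_and]
    have hne : f x.rep ≠ 0 := by
      intro h0
      exact x.rep_nonzero (hf (h0.trans (map_zero f).symm))
    have hx : s x = Projectivization.mk F (f x.rep) hne := by
      rw [hsf x]
      have := Projectivization.map_mk f hf x.rep x.rep_nonzero
      rw [x.mk_rep] at this
      exact this
    rw [hx, rep_mem_iff, mem_Usub]
    exact Iff.rfl
  have hdc : ∑ s ∈ S', (H.filter (fun x => s x ∈ H)).card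
      = ∑ x ∈ H, (S'.filter (fun s => s x ∈ H)).card :=
    Finset.sum_card_bipartiteAbove_eq_sum_card_bipartiteBelow
      (fun (s : Equiv.Perm (Projectivization F (Fin n → F))) x => s x ∈ H)
  have houter : ∀ x ∈ H, (S'.filter (fun s => s x ∈ H)).card = H.card := by
    intro x hx
    have hxp : p ≠ x := fun h => hpH (h ▸ hx)
    rw [Finset.card_eq_sum_card_fiberwise (f := fun s : Equiv.Perm _ => s x) (t := H)]
    · rw [Finset.card_eq_sum_ones H]
      apply Finset.sum_congr rfl
      intro y hy
      have hyp : p ≠ y := fun h => hpH (h ▸ hy)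
      rw [← hfib p x p y hxp hyp]
      congr 1
      ext s
      simp only [S', Finset.mem_filter, Finset.mem_univ, true_and]
      constructor
      · rintro ⟨⟨⟨h1, h2⟩, _⟩, h3⟩
        exact ⟨h1, h2, h3⟩
      · rintro ⟨h1, h2, h3⟩
        exact ⟨⟨⟨h1, h2⟩, h3 ▸ hy⟩, h3⟩
    · intro s hs
      have hs' := Finset.mem_coe.mp hs
      exact Finset.mem_coe.mpr (Finset.mem_filter.mp hs').2
  have hfinal : ((∑ s ∈ S', (H.filter (fun x => s x ∈ H)).card : ℕ) : ZMod (Nat.card F)) = 0 := by
    rw [Nat.cast_sum, Finset.sum_congr rfl hinner]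
    simp [hS'cast]
  rw [hdc, Finset.sum_congr rfl houter] at hfinal
  simp only [Finset.sum_const, smul_eq_mul, Nat.cast_mul, hHcast, mul_one] at hfinal
  exact one_ne_zero hfinal

end Cfsg.Agent.S2531
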