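import Cfsg.Statements.S2532
import Mathlib

set_option autoImplicit false
open Cfsg

namespace Cfsg.Agent.S2532

open Equiv

section construction

variable {G X ι : Type*} [Group G] [MulAction G X]

/-- the map `(i, gH₀) ↦ g • x i` -/
def embFun (H₀ : Subgroup G) (x : ι → X) (hst : ∀ i, MulAction.stabilizer G (x i) = H₀) :
    ι × (G ⧸ H₀) → X :=
  fun p => Quotient.liftOn' p.2 (fun g => g • x p.1) (by
    intro a b hab
    rw [QuotientGroup.leftRel_apply] at hab
    have h1 : a⁻¹ * b ∈ MulAction.stabilizer G (x p.1) := by rw [hst]; exact hab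
    rw [MulAction.mem_stabilizer_iff] at h1
    calc a • x p.1 = a • ((a⁻¹ * b) • x p.1) := by rw [h1]
      _ = b • x p.1 := by rw [smul_smul, mul_inv_cancel_left])

theorem embFun_mk (H₀ : Subgroup G) (x : ι → X) (hst : ∀ i, MulAction.stabilizer G (x i) = H₀)
    (i : ι) (g : G) : embFun H₀ x hst (i, (g : G ⧸ H₀)) = g • x i := rfl

theorem embFun_injective (H₀ : Subgroup G) (x : ι → X)
    (hst : ∀ i, MulAction.stabilizer G (x i) = H₀)
    (hdist : ∀ i j, x i ∈ MulAction.orbit G (x j) → i = j) :
    Function.Injective (embFun H₀ x hst) := by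
  rintro ⟨i, c⟩ ⟨j, c'⟩ h
  induction c using QuotientGroup.induction_on with
  | H g =>
  induction c' using QuotientGroup.induction_on with
  | H g' =>
  rw [embFun_mk, embFun_mk] at h
  have hij : i = j := by
    apply hdist
    refine ⟨g⁻¹ * g', ?_⟩
    show (g⁻¹ * g') • x j = x i
    rw [mul_smul, ← h, inv_smul_smul]
  subst hij
  have : g⁻¹ * g' ∈ H₀ := by
    rw [← hst i, MulAction.mem_stabilizer_iff, mul_smul, ← h, inv_smul_smul]
  rw [Prod.mk.injEq]
  exact ⟨rfl, QuotientGroup.eq.mpr this⟩

/-- permuting the first factor -/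
def prodHom (ι Q : Type*) : Perm ι →* Perm (ι × Q) where
  toFun σ := Equiv.prodCongr σ (Equiv.refl Q)
  map_one' := by ext ⟨a, b⟩ <;> rfl
  map_mul' σ τ := by ext ⟨a, b⟩ <;> rfl

theorem prodHom_apply (ι Q : Type*) (σ : Perm ι) (i : ι) (c : Q) :
    prodHom ι Q σ (i, c) = (σ i, c) := rfl

theorem prodHom_injective (ι Q : Type*) [Nonempty Q] : Function.Injective (prodHom ι Q) := by
  intro σ τ h
  ext i
  obtain ⟨c⟩ := ‹Nonempty Q›
  have := congrArg (fun e : Perm (ι × Q) => (e (i, c)).1) h
  simpa [prodHom_apply] using this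

theorem exists_hom (H₀ : Subgroup G) (x : ι → X)
    (hst : ∀ i, MulAction.stabilizer G (x i) = H₀)
    (hdist : ∀ i j, x i ∈ MulAction.orbit G (x j) → i = j) :
    ∃ ψ : Perm ι →* Perm X, Function.Injective ψ ∧ ∀ σ (g : G) (y : X), ψ σ (g • y) = g • ψ σ y := by
  let emb : ι × (G ⧸ H₀) ↪ X := ⟨embFun H₀ x hst, embFun_injective H₀ x hst hdist⟩
  refine ⟨(Perm.viaEmbeddingHom emb).comp (prodHom ι (G ⧸ H₀)), ?_, ?_⟩
  · exact (Perm.viaEmbeddingHom_injective emb).comp (prodHom_injective ι (G ⧸ H₀))
  · intro σ g y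
    show Perm.viaEmbedding (prodHom ι (G ⧸ H₀) σ) emb (g • y)
      = g • Perm.viaEmbedding (prodHom ι (G ⧸ H₀) σ) emb y
    by_cases hy : y ∈ Set.range emb
    · obtain ⟨⟨i, c⟩, rfl⟩ := hy
      induction c using QuotientGroup.induction_on with
      | H h =>
      have h1 : g • emb (i, (h : G ⧸ H₀)) = emb (i, ((g * h : G) : G ⧸ H₀)) := by
        show g • embFun H₀ x hst (i, (h : G ⧸ H₀)) = embFun H₀ x hst (i, ((g * h : G) : G ⧸ H₀))
        rw [embFun_mk, embFun_mk, mul_smul]
      rw [h1, Perm.viaEmbedding_apply, Perm.viaEmbedding_apply, prodHom_apply, prodHom_apply]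
      show embFun H₀ x hst (σ i, ((g * h : G) : G ⧸ H₀)) = g • embFun H₀ x hst (σ i, (h : G ⧸ H₀))
      rw [embFun_mk, embFun_mk, mul_smul]
    · have hgy : g • y ∉ Set.range emb := by
        rintro ⟨⟨i, c⟩, hc⟩
        apply hy
        induction c using QuotientGroup.induction_on with
        | H h =>
        refine ⟨(i, ((g⁻¹ * h : G) : G ⧸ H₀)), ?_⟩
        show embFun H₀ x hst (i, ((g⁻¹ * h : G) : G ⧸ H₀)) = y
        have hc' : embFun H₀ x hst (i, (h : G ⧸ H₀)) = g • y := hc
        rw [embFun_mk] at hc' ⊢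
        rw [mul_smul, hc', inv_smul_smul]
      rw [Perm.viaEmbedding_apply_of_notMem _ _ _ hy, Perm.viaEmbedding_apply_of_notMem _ _ _ hgy]

end construction

section pigeon

variable {G X : Type*} [Group G] [MulAction G X] [Finite G] [Fintype X]

theorem exists_points (r : ℕ) (hcard : Nat.card G * r * 2 ^ Nat.card G ≤ Fintype.card X) :
    ∃ (H₀ : Subgroup G) (x : Fin r → X), (∀ i, MulAction.stabilizer G (x i) = H₀) ∧
      ∀ i j, x i ∈ MulAction.orbit G (x j) → i = j := by
  classical
  have : Fintype G := Fintype.ofFinite G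
  have : Fintype (Subgroup G) := Fintype.ofFinite _
  let Ω := MulAction.orbitRel.Quotient G X
  have : Fintype Ω := Fintype.ofFinite _
  set n := Nat.card G with hn
  have hnpos : 0 < n := Nat.card_pos
  have hncard : n = Fintype.card G := Nat.card_eq_fintype_card
  -- Step A
  have hA : Fintype.card X ≤ n * Fintype.card Ω := by
    have h1 := Finset.card_le_mul_card_image (f := fun a : X => (Quotient.mk'' a : Ω))
      (Finset.univ : Finset X) n (by
        intro b hb
        obtain ⟨a₀, -, rfl⟩ := Finset.mem_image.mp hb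
        have hsub : (Finset.univ.filter (fun a : X => (Quotient.mk'' a : Ω) = Quotient.mk'' a₀))
            ⊆ Finset.image (fun g : G => g • a₀) Finset.univ := by
          intro a ha
          rw [Finset.mem_filter] at ha
          have h2 : a ∈ MulAction.orbit G a₀ := by
            have := Quotient.exact' ha.2
            exact this
          obtain ⟨g, rfl⟩ := h2
          exact Finset.mem_image.mpr ⟨g, Finset.mem_univ _, rfl⟩
        calc _ ≤ (Finset.image (fun g : G => g • a₀) Finset.univ).card := Finset.card_le_card hsub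
          _ ≤ (Finset.univ : Finset G).card := Finset.card_image_le
          _ = n := by rw [Finset.card_univ, hncard])
    calc Fintype.card X = (Finset.univ : Finset X).card := Finset.card_univ.symm
      _ ≤ n * (Finset.image (fun a : X => (Quotient.mk'' a : Ω)) Finset.univ).card := h1
      _ ≤ n * Fintype.card Ω := Nat.mul_le_mul_left _ (Finset.card_le_univ _)
  -- Step B
  have hsub : Fintype.card (Subgroup G) ≤ 2 ^ n := by
    have := Fintype.card_le_of_injective (fun K : Subgroup G => (K : Set G)) SetLike.coe_injective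
    rw [Fintype.card_set] at this
    rw [hncard]
    exact this
  have hB : Fintype.card (Subgroup G) * r ≤ Fintype.card Ω := by
    have h1 : n * (r * 2 ^ n) ≤ n * Fintype.card Ω := by
      calc n * (r * 2 ^ n) = n * r * 2 ^ n := by ring
        _ ≤ Fintype.card X := hcard
        _ ≤ _ := hA
    have h2 : r * 2 ^ n ≤ Fintype.card Ω := Nat.le_of_mul_le_mul_left h1 hnpos
    calc Fintype.card (Subgroup G) * r ≤ 2 ^ n * r := Nat.mul_le_mul_right _ hsub
      _ = r * 2 ^ n := by ring
      _ ≤ _ := h2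
  obtain ⟨H₀, hH₀⟩ := Fintype.exists_le_card_fiber_of_mul_le_card
    (fun ω : Ω => MulAction.stabilizer G (Quotient.out ω : X)) hB
  -- Step C
  have hemb : Nonempty (Fin r ↪ {ω : Ω // ω ∈ Finset.univ.filter (fun ω : Ω => MulAction.stabilizer G (Quotient.out ω : X) = H₀)}) := by
    apply Function.Embedding.nonempty_of_card_le
    rw [Fintype.card_fin, Fintype.card_coe]
    exact hH₀
  obtain ⟨j⟩ := hemb
  refine ⟨H₀, fun i => Quotient.out (j i).1, ?_, ?_⟩
  · intro i
    have := (j i).2
    rw [Finset.mem_filter] at this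
    exact this.2
  · intro i k hik
    have h1 : (Quotient.mk'' (Quotient.out (j i).1) : Ω) = Quotient.mk'' (Quotient.out (j k).1) :=
      Quotient.sound' hik
    rw [Quotient.out_eq', Quotient.out_eq'] at h1
    exact j.injective (Subtype.ext h1)

end pigeon

theorem sign_eq_one_of_hom {r : ℕ} {Y : Type*} [Fintype Y] [DecidableEq Y]
    (ψ : Perm (Fin r) →* Perm Y) (σ : Perm (Fin r)) (hσ : σ ∈ alternatingGroup (Fin r)) :
    ψ σ ∈ alternatingGroup Y := by
  have hle : alternatingGroup (Fin r) ≤ ((Perm.sign (α := Y)).comp ψ).ker := by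
    rw [← Equiv.Perm.closure_three_cycles_eq_alternating, Subgroup.closure_le]
    intro τ hτ
    have h3 : τ ^ 3 = 1 := by
      have := (hτ : τ.IsThreeCycle).orderOf
      rw [← this]
      exact pow_orderOf_eq_one τ
    rw [SetLike.mem_coe, MonoidHom.mem_ker]
    set s : ℤˣ := ((Perm.sign (α := Y)).comp ψ) τ with hs
    have hs3 : s ^ 3 = 1 := by
      rw [hs, ← map_pow, h3, map_one]
    have hs2 : s ^ 2 = 1 := Int.units_sq s
    calc s = s ^ 3 * (s ^ 2)⁻¹ := by group
      _ = 1 := by rw [hs3, hs2]; simp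
  have := hle hσ
  rw [MonoidHom.mem_ker] at this
  exact Equiv.Perm.mem_alternatingGroup.mpr this

/-- There is a function `f` of two natural-number arguments such that, whenever `m ≥ f(n, r)`, every subgroup of order `n` of the alternating group of degree `m` centralizes some subgroup of that alternating group isomorphic to the alternating group of degree `r`. -/
theorem result :
    ∃ f : ℕ → ℕ → ℕ, ∀ (m r : ℕ) (H : Subgroup ↥(alternatingGroup (Fin m))), f (Nat.card H) r ≤ m →
      ∃ K : Subgroup ↥(alternatingGroup (Fin m)), Nonempty (↥K ≃* ↥(alternatingGroup (Fin r))) ∧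
        K ≤ Subgroup.centralizer (H : Set ↥(alternatingGroup (Fin m))) := by
  classical
  refine ⟨fun n r => n * r * 2 ^ n, ?_⟩
  intro m r H hf
  have hcard : Nat.card H * r * 2 ^ Nat.card H ≤ Fintype.card (Fin m) := by
    rw [Fintype.card_fin]; exact hf
  obtain ⟨H₀, x, hst, hdist⟩ := exists_points (G := H) (X := Fin m) r hcard
  obtain ⟨ψ, hψinj, hψ⟩ := exists_hom H₀ x hst hdist
  let ψ' : alternatingGroup (Fin r) →* alternatingGroup (Fin m) :=
    (ψ.comp (alternatingGroup (Fin r)).subtype).codRestrict (alternatingGroup (Fin m))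
      (fun σ => sign_eq_one_of_hom ψ σ.1 σ.2)
  have hψ'inj : Function.Injective ψ' := by
    intro a b hab
    have := congrArg (fun z : alternatingGroup (Fin m) => (z : Perm (Fin m))) hab
    exact Subtype.ext (hψinj this)
  refine ⟨ψ'.range, ⟨(MonoidHom.ofInjective hψ'inj).symm⟩, ?_⟩
  rintro _ ⟨σ, rfl⟩
  rw [Subgroup.mem_centralizer_iff]
  intro h hh
  apply Subtype.ext
  apply Equiv.ext
  intro y
  have := hψ σ.1 (⟨h, hh⟩ : H) y
  show (h : Perm (Fin m)) (ψ σ.1 y) = ψ σ.1 ((h : Perm (Fin m)) y)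
  have h2 : ((⟨h, hh⟩ : H) • y : Fin m) = (h : Perm (Fin m)) y := rfl
  have h3 : ((⟨h, hh⟩ : H) • (ψ σ.1 y) : Fin m) = (h : Perm (Fin m)) (ψ σ.1 y) := rfl
  rw [h2, h3] at this
  rw [this]

end Cfsg.Agent.S2532
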