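import Cfsg.Statements.S2533
import Mathlib
import Cfsg.Agent.Lib.Helper42.GenDihedral

set_option autoImplicit false
open Cfsg

namespace Cfsg.Agent.S2533

open Cfsg.Agent.Helper42 Matrix

/-- conjugating an element of order dividing `k` up to a central factor -/
lemma central_pow_eq_one {G : Type*} [Group G] (g A z : G) (hz : z ∈ Subgroup.center G)
    (h : g * A = A * g * z) (k : ℕ) (hA : A ^ k = 1) : z ^ k = 1 := by
  have hc : Commute A z := (Subgroup.mem_center_iff.mp hz) A
  have h1 : g * A * g⁻¹ = A * z := by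
    rw [h, mul_assoc A g z, (Subgroup.mem_center_iff.mp hz) g]
    group
  have h2 : (g * A * g⁻¹) ^ k = 1 := by
    rw [conj_pow, hA]; group
  rw [h1, hc.mul_pow, hA, one_mul] at h2
  exact h2

section

variable (p : ℕ) [Fact p.Prime] (k : ℕ)

local notation "nn" => 2*k+2+1+(2*k+2)

lemma two_ne_zero_zmod (hp : p ≠ 2) : (2 : ZMod p) ≠ 0 := by
  intro h
  have h2 : ((2 : ℕ) : ZMod p) = 0 := by exact_mod_cast h
  rw [ZMod.natCast_eq_zero_iff] at h2
  have := (Nat.prime_dvd_prime_iff_eq (Fact.out : p.Prime) Nat.prime_two).mp h2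
  exact hp this

/-- the three generators -/
def gT : GDih p := ⟨-1, 0⟩
def gA : GDih p := ⟨1, Pi.single 0 1⟩
def gB : GDih p := ⟨1, Pi.single 1 1⟩

lemma gT_sq : (gT p) ^ 2 = 1 := by
  rw [pow_two]
  ext1
  · simp [gT]
  · simp [gT]

lemma pow_v (v : Fin 3 → ZMod p) (j : ℕ) : (⟨1, v⟩ : GDih p) ^ j = ⟨1, j • v⟩ := by
  induction j with
  | zero => simp; rfl
  | succ j ih =>
    rw [pow_succ, ih]
    ext1
    · simp
    · simp [add_smul]

lemma gA_pow : (gA p) ^ p = 1 := by
  unfold gA
  rw [pow_v]
  ext1
  · rfl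
  · simp

lemma gB_pow : (gB p) ^ p = 1 := by
  unfold gB
  rw [pow_v]
  ext1
  · rfl
  · simp

/-- scalar entries -/
lemma scalar_pow_eq_one {n : ℕ} [NeZero n] {R : Type*} [CommRing R]
    (z : Matrix.SpecialLinearGroup (Fin n) R) (r : R) (hr : Matrix.scalar (Fin n) r = z.val)
    (j : ℕ) (hz : z ^ j = 1) : r ^ j = 1 := by
  have h1 : (z ^ j).val = Matrix.scalar (Fin n) (r ^ j) := by
    rw [Matrix.SpecialLinearGroup.coe_pow, ← hr, map_pow]
  rw [hz] at h1
  have := congrFun (congrFun h1 0) 0
  simpa using this.symm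

theorem main (hp : p ≠ 2) :
    Function.Injective ((QuotientGroup.mk' (Subgroup.center (Matrix.SpecialLinearGroup (Fin nn) (ZMod p)))).comp (gdSL p k)) ∧
    Subgroup.centralizer (((QuotientGroup.mk' (Subgroup.center (Matrix.SpecialLinearGroup (Fin nn) (ZMod p)))).comp (gdSL p k)).range : Set (Matrix.ProjectiveSpecialLinearGroup (Fin nn) (ZMod p))) = ⊥ := by
  have h2 := two_ne_zero_zmod p hp
  constructor
  · rw [injective_iff_map_eq_one]
    intro a ha
    rw [MonoidHom.comp_apply, QuotientGroup.mk'_apply, QuotientGroup.eq_one_iff,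
      Matrix.SpecialLinearGroup.mem_center_iff] at ha
    obtain ⟨r, -, hr⟩ := ha
    -- entry (0,0)
    have hval : (gdSL p k a).val = gdMat p k a := rfl
    rw [hval] at hr
    have h00 := congrFun (congrFun hr (finSumFinEquiv (Sum.inl 0))) (finSumFinEquiv (Sum.inl 0))
    simp only [gdMat, Matrix.submatrix_apply, Equiv.symm_apply_apply, blockMat,
      Matrix.fromBlocks_apply₁₁, Matrix.one_apply_eq, Matrix.scalar_apply, Matrix.diagonal_apply_eq] at h00
    have hone : blockMat (2*k+2) (((a.s : ℤ) : ZMod p)) a.v = 1 := by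
      have h3 : gdMat p k a = 1 := by rw [← hr, h00]; simp
      have h4 := congrArg (fun M => M.submatrix finSumFinEquiv finSumFinEquiv) h3
      simpa [gdMat] using h4
    obtain ⟨hs, hv⟩ := blockMat_eq_one (2*k+2) (by omega) _ _ hone
    ext1
    · rcases Int.units_eq_one_or a.s with h | h
      · exact h
      · exfalso
        rw [h] at hs
        apply h2
        have : (-1 : ZMod p) = 1 := by simpa using hs
        linear_combination -this
    · exact hv
  · rw [eq_bot_iff]
    intro x hx
    rw [Subgroup.mem_bot]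
    induction x using QuotientGroup.induction_on with
    | H g =>
    rw [Subgroup.mem_centralizer_iff] at hx
    -- for each a, a central element
    have key : ∀ a : GDih p, ∃ z ∈ Subgroup.center (Matrix.SpecialLinearGroup (Fin nn) (ZMod p)),
        g * gdSL p k a = gdSL p k a * g * z := by
      intro a
      have := hx (((QuotientGroup.mk' _).comp (gdSL p k)) a) ⟨a, rfl⟩
      rw [MonoidHom.comp_apply, QuotientGroup.mk'_apply, ← QuotientGroup.mk_mul, ← QuotientGroup.mk_mul,
        QuotientGroup.eq] at this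
      exact ⟨_, this, by group⟩
    have comm : ∀ a : GDih p, ∀ j : ℕ, a ^ j = 1 → (∀ r : ZMod p, r ^ j = 1 → r ^ (nn) = 1 → r = 1) →
        g * gdSL p k a = gdSL p k a * g := by
      intro a j haj hrj
      obtain ⟨z, hz, hgz⟩ := key a
      have hzj : z ^ j = 1 := central_pow_eq_one g _ z hz hgz j (by rw [← map_pow, haj, map_one])
      obtain ⟨r, hrn, hr⟩ := Matrix.SpecialLinearGroup.mem_center_iff.mp hz
      have hr1 : r = 1 := hrj r (scalar_pow_eq_one z r hr j hzj) (by simpa using hrn)
      have hz1 : z = 1 := by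
        apply Subtype.ext
        rw [← hr, hr1]; simp
      rw [hgz, hz1, mul_one]
    have cT : g * gdSL p k (gT p) = gdSL p k (gT p) * g := by
      apply comm _ 2 (gT_sq p)
      intro r hr2 hrn
      have : r ^ (nn) = r * (r ^ 2) ^ (2 * k + 2) := by ring
      rw [this, hr2, one_pow, mul_one] at hrn
      exact hrn
    have hpp : ∀ r : ZMod p, r ^ p = 1 → r ^ (nn) = 1 → r = 1 := by
      intro r hr _
      rwa [ZMod.pow_card] at hr
    have cA : g * gdSL p k (gA p) = gdSL p k (gA p) * g := comm _ p (gA_pow p) hpp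
    have cB : g * gdSL p k (gB p) = gdSL p k (gB p) * g := comm _ p (gB_pow p) hpp
    -- transfer to the block level
    set g' := g.val.submatrix finSumFinEquiv finSumFinEquiv with hg'
    have hgval : g.val = g'.submatrix finSumFinEquiv.symm finSumFinEquiv.symm := by
      rw [hg']; simp
    have transfer : ∀ a : GDih p, g * gdSL p k a = gdSL p k a * g →
        g' * blockMat (2*k+2) (((a.s : ℤ) : ZMod p)) a.v = blockMat (2*k+2) (((a.s : ℤ) : ZMod p)) a.v * g' := by
      intro a h
      have h1 : g.val * gdMat p k a = gdMat p k a * g.val := congrArg Subtype.val h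
      rw [hgval] at h1
      unfold gdMat at h1
      rw [Matrix.submatrix_mul_equiv, Matrix.submatrix_mul_equiv] at h1
      have h4 := congrArg (fun M => M.submatrix finSumFinEquiv finSumFinEquiv) h1
      simpa using h4
    have bT := transfer _ cT
    have bA := transfer _ cA
    have bB := transfer _ cB
    simp only [gT, gA, gB, Units.val_neg, Units.val_one, Int.cast_neg, Int.cast_one] at bT bA bB
    obtain ⟨c, hc⟩ := brick (2*k+2) h2 g' bT bA bB
    rw [QuotientGroup.eq_one_iff, Matrix.SpecialLinearGroup.mem_center_iff]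
    have hgc : g.val = c • 1 := by
      rw [hgval, hc]
      ext i j
      simp [Matrix.one_apply]
    refine ⟨c, ?_, ?_⟩
    · have := g.prop
      rw [hgc, Matrix.det_smul, Matrix.det_one, mul_one] at this
      exact this
    · rw [hgc, Matrix.smul_one_eq_diagonal]; rfl

end

/-- For every odd prime `p` there is a finite group `H` of order `2p³` which, for infinitely many `n`, embeds in the projective special linear group `PSL(n, p)` as a subgroup with trivial centralizer. -/
theorem result
    (p : ℕ) [Fact p.Prime] (hp : p ≠ 2) :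
    ∃ (H : Type) (_ : Group H) (_ : Finite H), Nat.card H = 2 * p ^ 3 ∧
      ∀ N : ℕ, ∃ n, N ≤ n ∧ ∃ φ : H →* Matrix.ProjectiveSpecialLinearGroup (Fin n) (ZMod p),
        Function.Injective φ ∧ Subgroup.centralizer (φ.range : Set (Matrix.ProjectiveSpecialLinearGroup (Fin n) (ZMod p))) = ⊥ := by
  refine ⟨GDih p, inferInstance, inferInstance, GDih.card_eq p, ?_⟩
  intro N
  refine ⟨2*N+2+1+(2*N+2), by omega, _, main p N hp⟩

end Cfsg.Agent.S2533
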