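-- Statement S2537: Hall {2,3}-subgroups of PSL(2,q), p ≥ 5.
import Cfsg.Statements.S2537
import Cfsg.Agent.Lib.Helper41.Hall23
import Cfsg.Agent.Lib.Helper41.SL2Torus
import Cfsg.Agent.Lib.Helper41.DicksonUse2
import Cfsg.Agent.Lib.Helper41.IcosaPSL2
import Cfsg.Agent.Lib.Helper98.DicksonPrime
import Cfsg.Agent.Lib.Helper98.PSL2Card
import Cfsg.Agent.Lib.Helper52.CoprimeHall
import Cfsg.Agent.S0802
import Cfsg.Agent.S0803

set_option autoImplicit false
open Cfsg

namespace Cfsg.Agent.S2537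

open Cfsg.Agent.Helper41 in
/-- Let `F` be a finite field with `q` elements of characteristic `p ≥ 5`, and `ε = 1` if `q ≡ 1 (mod 4)`, `ε = -1` otherwise. Then `PSL(2, F)` has a Hall `{2, 3}`-subgroup if and only if `3` divides `q − ε`, or the `{2,3}`-part of `q² − 1` is 24, or the `{2,3}`-part of `q² − 1` is 48 (the `{2,3}`-part of `m` being the largest divisor of `m` with no prime factor other than 2 and 3). -/
theorem result {F : Type*} [Field F] [Fintype F] {p : ℕ} [Fact p.Prime] [CharP F p]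
    (hp : 5 ≤ p) (q : ℕ) (hq : Fintype.card F = q) :
    (∃ H : Subgroup (Matrix.ProjectiveSpecialLinearGroup (Fin 2) F), Cfsg.IsPiHall ({2, 3} : Set ℕ) H) ↔
      (3 ∣ q - 1 ∧ q % 4 = 1) ∨ (3 ∣ q + 1 ∧ q % 4 = 3) ∨
        2 ^ (q ^ 2 - 1).factorization 2 * 3 ^ (q ^ 2 - 1).factorization 3 = 24 ∨
        2 ^ (q ^ 2 - 1).factorization 2 * 3 ^ (q ^ 2 - 1).factorization 3 = 48 := by
  classical
  have hpp : p.Prime := Fact.out
  have hp2 : p ≠ 2 := by omega
  have h2F : (2 : F) ≠ 0 := two_ne_zero_of_char p hp2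
  obtain ⟨n, -, hn⟩ := FiniteField.card F p
  have hqn : q = p ^ (n : ℕ) := by rw [← hq, hn]
  have hn1 : 1 ≤ (n : ℕ) := n.pos
  have hq5 : 5 ≤ q := by
    rw [hqn]
    calc 5 ≤ p ^ 1 := by rw [pow_one]; exact hp
      _ ≤ p ^ (n : ℕ) := Nat.pow_le_pow_right (by omega) hn1
  have hq2 : ¬ 2 ∣ q := by
    rw [hqn]
    intro h
    have := (Nat.prime_dvd_prime_iff_eq Nat.prime_two hpp).mp (Nat.prime_two.dvd_of_dvd_pow h)
    omega
  have hq3 : ¬ 3 ∣ q := by
    rw [hqn]
    intro h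
    have := (Nat.prime_dvd_prime_iff_eq Nat.prime_three hpp).mp (Nat.prime_three.dvd_of_dvd_pow h)
    omega
  have hqodd : Odd q := by
    rcases Nat.even_or_odd q with h | h
    · exact absurd (even_iff_two_dvd.mp h) hq2
    · exact h
  have hfin : Finite (Matrix.ProjectiveSpecialLinearGroup (Fin 2) F) := by
    have : Finite (Matrix.SpecialLinearGroup (Fin 2) F) :=
      inferInstanceAs (Finite {A : Matrix (Fin 2) (Fin 2) F // A.det = 1})
    exact inferInstanceAs (Finite (Matrix.SpecialLinearGroup (Fin 2) F ⧸ _))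
  -- `q² - 1`
  obtain ⟨A, hA⟩ : ∃ A, A = q ^ 2 - 1 := ⟨_, rfl⟩
  rw [← hA]
  have hprod : (q - 1) * (q + 1) = A := by
    obtain ⟨j, rfl⟩ : ∃ j, q = j + 1 := ⟨q - 1, by omega⟩
    rw [hA]
    have : (j + 1) ^ 2 = (j + 1 - 1) * (j + 1 + 1) + 1 := by
      simp only [Nat.add_sub_cancel]; ring
    omega
  have hA0 : A ≠ 0 := by
    rw [← hprod]
    have h1 : 0 < q - 1 := by omega
    have h2 : 0 < q + 1 := by omega
    exact (Nat.mul_pos h1 h2).ne'
  have h8 : 2 ^ 3 ∣ A := by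
    have h1 : q ^ 2 % 8 = 1 := by
      rw [Nat.pow_mod]
      have : q % 8 = 1 ∨ q % 8 = 3 ∨ q % 8 = 5 ∨ q % 8 = 7 := by omega
      rcases this with h | h | h | h <;> rw [h]
    rw [hA]
    omega
  have h3A : 3 ^ 1 ∣ A := by
    have h1 : q ^ 2 % 3 = 1 := by
      rw [Nat.pow_mod]
      have : q % 3 = 1 ∨ q % 3 = 2 := by omega
      rcases this with h | h <;> rw [h]
    rw [hA]
    omega
  have hv2 : 3 ≤ A.factorization 2 :=
    (Nat.Prime.pow_dvd_iff_le_factorization Nat.prime_two hA0).mp h8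
  have hv3 : 1 ≤ A.factorization 3 :=
    (Nat.Prime.pow_dvd_iff_le_factorization Nat.prime_three hA0).mp h3A
  obtain ⟨k, hk, hk2, hk3⟩ := exists_two_three_decomp A hA0
  obtain ⟨v2, hv2e⟩ : ∃ v2, v2 = A.factorization 2 := ⟨_, rfl⟩
  obtain ⟨v3, hv3e⟩ : ∃ v3, v3 = A.factorization 3 := ⟨_, rfl⟩
  rw [← hv2e, ← hv3e] at hk ⊢
  rw [← hv2e] at hv2
  rw [← hv3e] at hv3
  obtain ⟨w, rfl⟩ : ∃ w, v2 = w + 2 + 1 := ⟨v2 - 3, by omega⟩
  obtain ⟨v, rfl⟩ : ∃ v, v3 = v + 1 := ⟨v3 - 1, by omega⟩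
  -- the order of `G`
  have hcard : Nat.card (Matrix.ProjectiveSpecialLinearGroup (Fin 2) F) =
      2 ^ (w + 2) * 3 ^ (v + 1) * (k * q) := by
    have h1 := Cfsg.Agent.Helper98.PSL2Card.card_psl2_odd hq hqodd
    rw [← hA, hk] at h1
    have : Nat.card (Matrix.ProjectiveSpecialLinearGroup (Fin 2) F) * 2 =
        (2 ^ (w + 2) * 3 ^ (v + 1) * (k * q)) * 2 := by
      rw [h1]; ring
    exact Nat.eq_of_mul_eq_mul_right (by norm_num) this
  have hkq2 : ¬ 2 ∣ k * q := by
    intro h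
    rcases (Nat.Prime.dvd_mul Nat.prime_two).mp h with h | h
    · exact hk2 h
    · exact hq2 h
  have hkq3 : ¬ 3 ∣ k * q := by
    intro h
    rcases (Nat.Prime.dvd_mul Nat.prime_three).mp h with h | h
    · exact hk3 h
    · exact hq3 h
  have hHall := fun H : Subgroup (Matrix.ProjectiveSpecialLinearGroup (Fin 2) F) =>
    isPiHall_two_three_iff (w + 2) (v + 1) (k * q) hcard hkq2 hkq3 H
  obtain ⟨h, hh⟩ : ∃ h, h = 2 ^ (w + 2) * 3 ^ (v + 1) := ⟨_, rfl⟩
  rw [← hh] at hHall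
  have h12 : 12 ∣ h := ⟨2 ^ w * 3 ^ v, by rw [hh]; ring⟩
  have hsplit : 2 ^ (w + 2 + 1) * 3 ^ (v + 1) = 2 * h := by rw [hh]; ring
  rw [hsplit]
  have hgcd : Nat.gcd 2 (q - 1) = 2 := by
    apply Nat.gcd_eq_left
    obtain ⟨j, hj⟩ := hqodd
    exact ⟨j, by omega⟩
  constructor
  · rintro ⟨H, hH⟩
    rw [hHall] at hH
    have hpH : ¬ p ∣ Nat.card H := by
      rw [hH, hh]
      intro hd
      rcases prime_dvd_two_pow_mul_three_pow hpp hd with h | h <;> omega
    have key : ∀ c : Matrix.ProjectiveSpecialLinearGroup (Fin 2) F, 6 ∣ orderOf c →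
        h ∣ 2 * orderOf c → (3 ∣ q - 1 ∧ q % 4 = 1) ∨ (3 ∣ q + 1 ∧ q % 4 = 3) := by
      intro c h6 hh2
      rcases psl2_orderOf_dvd p c with h1 | h1 | h1
      · exfalso
        have : 2 ∣ p := Dvd.dvd.trans (Dvd.dvd.trans ⟨3, by norm_num⟩ h6) h1
        have := (Nat.prime_dvd_prime_iff_eq Nat.prime_two hpp).mp this
        omega
      · left
        rw [hq, hgcd] at h1
        have h2 : 2 * orderOf c ∣ q - 1 := by
          obtain ⟨j, hj⟩ := h1
          refine ⟨j, ?_⟩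
          have : (q - 1) / 2 * 2 = q - 1 := Nat.div_mul_cancel (by
            obtain ⟨j, hj⟩ := hqodd
            exact ⟨j, by omega⟩)
          rw [← this, hj]; ring
        have h3 : 12 ∣ q - 1 := Dvd.dvd.trans h12 (Dvd.dvd.trans hh2 h2)
        omega
      · right
        rw [hq, hgcd] at h1
        have h2 : 2 * orderOf c ∣ q + 1 := by
          obtain ⟨j, hj⟩ := h1
          refine ⟨j, ?_⟩
          have : (q + 1) / 2 * 2 = q + 1 := Nat.div_mul_cancel (by
            obtain ⟨j, hj⟩ := hqodd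
            exact ⟨j + 1, by omega⟩)
          rw [← this, hj]; ring
        have h3 : 12 ∣ q + 1 := Dvd.dvd.trans h12 (Dvd.dvd.trans hh2 h2)
        omega
    rcases Cfsg.Agent.Helper98.Dickson.dickson_pprime p H hpH with
      hcyc | ⟨m, hm, ⟨e⟩⟩ | ⟨⟨e⟩⟩ | ⟨⟨e⟩⟩ | ⟨⟨e⟩⟩
    · obtain ⟨g, hg⟩ := IsCyclic.exists_generator (α := H)
      have ho : orderOf (g : Matrix.ProjectiveSpecialLinearGroup (Fin 2) F) = h := by
        rw [Subgroup.orderOf_coe, orderOf_eq_card_of_forall_mem_zpowers hg, hH]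
      rcases key g (by rw [ho]; exact Dvd.dvd.trans ⟨2, by norm_num⟩ h12)
        (by rw [ho]; exact Dvd.intro_left 2 rfl) with h | h
      · exact Or.inl h
      · exact Or.inr (Or.inl h)
    · have hc : h = 2 * m := by
        rw [← hH, Nat.card_congr e.toEquiv, DihedralGroup.nat_card]
      have ho : orderOf ((e.symm (DihedralGroup.r 1) : H) :
          Matrix.ProjectiveSpecialLinearGroup (Fin 2) F) = m := by
        rw [Subgroup.orderOf_coe, MulEquiv.orderOf_eq, DihedralGroup.orderOf_r_one]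
      rcases key _ (by rw [ho]; omega) (by rw [ho, hc]) with h | h
      · exact Or.inl h
      · exact Or.inr (Or.inl h)
    · right; right; left
      rw [← hH, Nat.card_congr e.toEquiv, card_alternatingGroup_four]
    · right; right; right
      rw [← hH, Nat.card_congr e.toEquiv, card_perm_four]
    · exfalso
      have h60 : h = 60 := by
        rw [← hH, Nat.card_congr e.toEquiv, card_alternatingGroup_five]
      have : 5 ∣ 2 ^ (w + 2) * 3 ^ (v + 1) := by
        rw [← hh, h60]; norm_num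
      rcases prime_dvd_two_pow_mul_three_pow (by norm_num) this with h | h <;> omega
  · rintro (⟨h3, h4⟩ | ⟨h3, h4⟩ | h24 | h48)
    · -- ε = 1
      have hxy : (q - 1) * (q + 1) = 2 ^ (w + 2 + 1) * 3 ^ (v + 1) * k := by rw [hprod, hk]
      obtain ⟨n', hn', hcop⟩ := exists_hall_factor (q - 1) (q + 1) ((q + 1) / 2) (w + 2 + 1) (v + 1) k
        (by omega) hxy hk2 hk3 (by omega) (by omega) (by omega)
      simp only [Nat.add_sub_cancel] at hn' hcop
      rw [← hh] at hn' hcop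
      obtain ⟨K, hKc, hKs⟩ := psl2_exists_solvable_torus_normalizer p h2F (q - 1) (by omega)
        (Or.inl (by rw [hq]))
      obtain ⟨Q, -, hQ⟩ := Cfsg.Agent.Helper52.hall_exists_internal K hKs h n'
        (by rw [hKc, hn']) hcop
      exact ⟨Q, (hHall Q).mpr hQ⟩
    · -- ε = -1
      have hxy : (q + 1) * (q - 1) = 2 ^ (w + 2 + 1) * 3 ^ (v + 1) * k := by
        rw [mul_comm, hprod, hk]
      obtain ⟨n', hn', hcop⟩ := exists_hall_factor (q + 1) (q - 1) ((q - 1) / 2) (w + 2 + 1) (v + 1) k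
        (by omega) hxy hk2 hk3 (by omega) (by omega) (by omega)
      simp only [Nat.add_sub_cancel] at hn' hcop
      rw [← hh] at hn' hcop
      obtain ⟨K, hKc, hKs⟩ := psl2_exists_solvable_torus_normalizer p h2F (q + 1) (by omega)
        (Or.inr (by rw [hq]))
      obtain ⟨Q, -, hQ⟩ := Cfsg.Agent.Helper52.hall_exists_internal K hKs h n'
        (by rw [hKc, hn']) hcop
      exact ⟨Q, (hHall Q).mpr hQ⟩
    · have hh12 : h = 12 := by omega
      obtain ⟨H, ⟨e⟩⟩ := (Cfsg.Agent.S0802.result p (n : ℕ) (hq.trans hqn)).mpr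
        (fun hc => hp2 hc.1)
      refine ⟨H, (hHall H).mpr ?_⟩
      rw [Nat.card_congr e.toEquiv, card_alternatingGroup_four, hh12]
    · have hh24 : h = 24 := by omega
      have hw : w = 1 := by
        have hwle : w < 3 := by
          by_contra hcon
          have h1 : 2 ^ 3 ≤ 2 ^ w := Nat.pow_le_pow_right (by norm_num) (by omega)
          have h2 : 1 ≤ 3 ^ (v + 1) := Nat.one_le_pow _ _ (by norm_num)
          have h3 : 2 ^ (w + 2) * 3 ^ (v + 1) = 4 * 2 ^ w * 3 ^ (v + 1) := by ring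
          have h4 : 4 * 2 ^ 3 * 1 ≤ 4 * 2 ^ w * 3 ^ (v + 1) :=
            Nat.mul_le_mul (Nat.mul_le_mul_left 4 h1) h2
          rw [hh24] at hh
          omega
        have hvle : v < 3 := by
          by_contra hcon
          have h1 : 3 ^ 3 ≤ 3 ^ v := Nat.pow_le_pow_right (by norm_num) (by omega)
          have h2 : 1 ≤ 2 ^ (w + 2) := Nat.one_le_pow _ _ (by norm_num)
          have h3 : 2 ^ (w + 2) * 3 ^ (v + 1) = 2 ^ (w + 2) * (3 * 3 ^ v) := by ring
          have h4 : 1 * (3 * 3 ^ 3) ≤ 2 ^ (w + 2) * (3 * 3 ^ v) :=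
            Nat.mul_le_mul h2 (Nat.mul_le_mul_left 3 h1)
          rw [hh24] at hh
          omega
        rw [hh24] at hh
        clear hHall hsplit hk hcard h8 hv2 hv3 h12
        interval_cases w <;> interval_cases v <;> first | rfl | (exfalso; norm_num at hh)
      subst hw
      have h16 : 2 ^ 4 ∣ A := by
        rw [hk]
        exact Dvd.dvd.mul_right (Dvd.dvd.mul_right (dvd_refl _) _) _
      have hq16 : q ^ 2 % 16 = 1 := by
        have : 1 ≤ q ^ 2 := Nat.one_le_pow _ _ (by omega)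
        rw [hA] at h16
        omega
      obtain ⟨H, ⟨e⟩⟩ := (Cfsg.Agent.S0803.result hq).mpr hq16
      refine ⟨H, (hHall H).mpr ?_⟩
      rw [Nat.card_congr e.toEquiv, card_perm_four, hh24]

end Cfsg.Agent.S2537
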