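import Cfsg.Statements.S2540
import Mathlib
import Cfsg.Agent.Lib.Helper5.PSL

set_option autoImplicit false
open Cfsg

namespace Cfsg.Agent.S2540

open scoped commutatorElement

section abstract

variable {S : Type*} [Group S]

theorem comm_mul_central_left {a b z : S} (hz : ∀ x, z * x = x * z) : ⁅a * z, b⁆ = ⁅a, b⁆ := by
  rw [commutatorElement_def, commutatorElement_def, mul_inv_rev]
  calc a * z * b * (z⁻¹ * a⁻¹) * b⁻¹ = a * (z * b) * z⁻¹ * a⁻¹ * b⁻¹ := by group
    _ = a * (b * z) * z⁻¹ * a⁻¹ * b⁻¹ := by rw [hz b]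
    _ = a * b * a⁻¹ * b⁻¹ := by group

theorem comm_mul_central_right {a b z : S} (hz : ∀ x, z * x = x * z) : ⁅a, b * z⁆ = ⁅a, b⁆ := by
  rw [commutatorElement_def, commutatorElement_def, mul_inv_rev]
  calc a * (b * z) * a⁻¹ * (z⁻¹ * b⁻¹) = a * b * (z * a⁻¹) * z⁻¹ * b⁻¹ := by group
    _ = a * b * (a⁻¹ * z) * z⁻¹ * b⁻¹ := by rw [hz a⁻¹]
    _ = a * b * a⁻¹ * b⁻¹ := by group

/-- a normal subgroup of a perfect group with simple central quotient is central or everything -/
theorem normal_dichotomy (hperf : commutator S = ⊤) (hsimple : IsSimpleGroup (S ⧸ Subgroup.center S))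
    (N : Subgroup S) [hN : N.Normal] : N ≤ Subgroup.center S ∨ N = ⊤ := by
  have hmapN : (N.map (QuotientGroup.mk' (Subgroup.center S))).Normal :=
    hN.map _ (QuotientGroup.mk'_surjective _)
  rcases hsimple.eq_bot_or_eq_top_of_normal _ hmapN with h | h
  · left
    intro x hx
    have : QuotientGroup.mk' (Subgroup.center S) x ∈ N.map (QuotientGroup.mk' (Subgroup.center S)) :=
      Subgroup.mem_map_of_mem _ hx
    rw [h, Subgroup.mem_bot] at this
    exact (QuotientGroup.eq_one_iff x).mp this
  · right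
    rw [eq_top_iff, ← hperf, commutator_def, Subgroup.commutator_le]
    intro s _ t _
    have hs : QuotientGroup.mk' (Subgroup.center S) s ∈ N.map (QuotientGroup.mk' (Subgroup.center S)) := by
      rw [h]; trivial
    have ht : QuotientGroup.mk' (Subgroup.center S) t ∈ N.map (QuotientGroup.mk' (Subgroup.center S)) := by
      rw [h]; trivial
    obtain ⟨n, hn, hns⟩ := hs
    obtain ⟨n', hn', hnt⟩ := ht
    -- s = n * z, t = n' * z'
    have hz : n⁻¹ * s ∈ Subgroup.center S := by
      have := QuotientGroup.eq.mp hns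
      exact this
    have hz' : n'⁻¹ * t ∈ Subgroup.center S := by
      have := QuotientGroup.eq.mp hnt
      exact this
    set z := n⁻¹ * s with hzdef
    set z' := n'⁻¹ * t with hz'def
    have hs' : s = n * z := by rw [hzdef]; group
    have ht' : t = n' * z' := by rw [hz'def]; group
    have hzc : ∀ x, z * x = x * z := fun x => (Subgroup.mem_center_iff.mp hz x).symm
    have hz'c : ∀ x, z' * x = x * z' := fun x => (Subgroup.mem_center_iff.mp hz' x).symm
    have hcomm : ⁅s, t⁆ = ⁅n, n'⁆ := by
      rw [hs', ht', comm_mul_central_left hzc, comm_mul_central_right hz'c]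
    rw [hcomm]
    exact Subgroup.commutator_mem_commutator hn hn' |> fun h => by
      have hle : ⁅N, N⁆ ≤ N := Subgroup.commutator_le_left N N
      exact hle h


variable {Γ : Type*} [Group Γ]

theorem normalized_dichotomy (hperf : commutator S = ⊤)
    (hsimple : IsSimpleGroup (S ⧸ Subgroup.center S)) (ι : S →* Γ)
    (hnorm : ∀ (γ : Γ) (s : S), ∃ s' : S, γ * ι s * γ⁻¹ = ι s')
    (G : Subgroup Γ) (hG : ∀ s : S, ∀ g ∈ G, ι s * g * (ι s)⁻¹ ∈ G) :
    (∀ g ∈ G, ∀ s : S, g * ι s = ι s * g) ∨ ι.range ≤ G := by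
  have hN : (G.comap ι).Normal := by
    constructor
    intro n hn s
    rw [Subgroup.mem_comap] at hn ⊢
    rw [map_mul, map_mul, map_inv]
    exact hG s _ hn
  rcases normal_dichotomy hperf hsimple (G.comap ι) with h | h
  · left
    intro g hg
    -- for each s there is a central c with g * ι s * g⁻¹ = ι (c * s)
    have hc : ∀ s : S, ∃ c : S, (∀ x, c * x = x * c) ∧ g * ι s * g⁻¹ = ι (c * s) := by
      intro s
      obtain ⟨s', hs'⟩ := hnorm g s
      refine ⟨s' * s⁻¹, ?_, ?_⟩
      · have hmem : s' * s⁻¹ ∈ G.comap ι := by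
          rw [Subgroup.mem_comap, map_mul, map_inv, ← hs']
          have h1 : ι s * g⁻¹ * (ι s)⁻¹ ∈ G := hG s _ (G.inv_mem hg)
          have h2 : g * (ι s * g⁻¹ * (ι s)⁻¹) ∈ G := G.mul_mem hg h1
          convert h2 using 1
          group
        have := h hmem
        intro x
        exact (Subgroup.mem_center_iff.mp this x).symm
      · rw [hs']; congr 1; group
    -- the centralizer of g pulled back contains all commutators
    have hT : commutator S ≤ (Subgroup.centralizer ({g} : Set Γ)).comap ι := by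
      rw [commutator_def, Subgroup.commutator_le]
      intro s _ t _
      rw [Subgroup.mem_comap, Subgroup.mem_centralizer_iff]
      intro y hy
      rw [Set.mem_singleton_iff] at hy
      subst hy
      obtain ⟨c, hcc, hcs⟩ := hc s
      obtain ⟨c', hcc', hct⟩ := hc t
      have h1 : y * ι ⁅s, t⁆ * y⁻¹ = ι ⁅s, t⁆ := by
        calc y * ι ⁅s, t⁆ * y⁻¹ = ⁅y * ι s * y⁻¹, y * ι t * y⁻¹⁆ := by
              rw [map_commutatorElement, commutatorElement_def, commutatorElement_def]; group
          _ = ι ⁅c * s, c' * t⁆ := by rw [hcs, hct, map_commutatorElement]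
          _ = ι ⁅s, t⁆ := by
              congr 1
              rw [show c * s = s * c from hcc s, show c' * t = t * c' from hcc' t,
                comm_mul_central_left hcc, comm_mul_central_right hcc']
      calc y * ι ⁅s, t⁆ = (y * ι ⁅s, t⁆ * y⁻¹) * y := by group
        _ = ι ⁅s, t⁆ * y := by rw [h1]
    intro s
    have hs : s ∈ (Subgroup.centralizer ({g} : Set Γ)).comap ι := by
      apply hT
      rw [hperf]
      trivial
    rw [Subgroup.mem_comap, Subgroup.mem_centralizer_iff] at hs
    exact hs g rfl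
  · right
    rintro _ ⟨s, rfl⟩
    have : s ∈ G.comap ι := by rw [h]; trivial
    exact this

end abstract

open Matrix

theorem exists_sq_ne_one {F : Type*} [Field F] [Fintype F] (hF : 4 ≤ Fintype.card F) :
    ∃ a : F, a ≠ 0 ∧ a ^ 2 ≠ 1 := by
  classical
  obtain ⟨x, hx⟩ : IsCyclic Fˣ := by infer_instance
  refine ⟨x, Units.ne_zero x, fun h ↦ ?_⟩
  have h1 : orderOf x = Fintype.card Fˣ := by
    rw [orderOf_eq_card_of_forall_mem_zpowers hx, Nat.card_eq_fintype_card]
  have h2 : orderOf x ≤ 2 := orderOf_le_of_pow_eq_one zero_lt_two (Units.ext <| by simpa using h)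
  rw [h1, Fintype.card_units] at h2
  omega

theorem SL_normal_in_GL {F : Type*} [Field F] (n : ℕ) (γ : GL (Fin n) F)
    (s : SpecialLinearGroup (Fin n) F) :
    ∃ s' : SpecialLinearGroup (Fin n) F,
      γ * SpecialLinearGroup.toGL s * γ⁻¹ = SpecialLinearGroup.toGL s' := by
  have hdet : ((γ * SpecialLinearGroup.toGL s * γ⁻¹ : GL (Fin n) F) : Matrix (Fin n) (Fin n) F).det = 1 := by
    rw [Units.val_mul, Units.val_mul, Matrix.det_mul, Matrix.det_mul,
      SpecialLinearGroup.coe_GL_coe_matrix, s.2, mul_one, ← Matrix.det_mul, ← Units.val_mul,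
      mul_inv_cancel, Units.val_one, Matrix.det_one]
  refine ⟨⟨_, hdet⟩, ?_⟩
  apply Units.ext
  rfl

/-- Let F be a finite field and n ≥ 1, excluding the case n = 2 with #F ≤ 3. A subgroup of GL_n(F) that is normalized by every element of SL_n(F) either consists of scalar matrices or contains SL_n(F). -/
theorem result {F : Type*} [Field F] [Fintype F] (n : ℕ) (hn : 1 ≤ n) (hex : ¬ (n = 2 ∧ Fintype.card F ≤ 3)) (G : Subgroup (Matrix.GeneralLinearGroup (Fin n) F)) (hG : ∀ s : Matrix.SpecialLinearGroup (Fin n) F, ∀ g ∈ G, (Matrix.SpecialLinearGroup.toGL s) * g * (Matrix.SpecialLinearGroup.toGL s)⁻¹ ∈ G) : (∀ g ∈ G, ∃ c : F, (g : Matrix (Fin n) (Fin n) F) = c • (1 : Matrix (Fin n) (Fin n) F)) ∨ (Matrix.SpecialLinearGroup.toGL : Matrix.SpecialLinearGroup (Fin n) F →* _).range ≤ G := by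
  classical
  by_cases h1 : n = 1
  · subst h1
    left
    intro g _
    refine ⟨(g : Matrix (Fin 1) (Fin 1) F) 0 0, ?_⟩
    ext i j
    have hi : i = 0 := Subsingleton.elim _ _
    have hj : j = 0 := Subsingleton.elim _ _
    subst hi hj
    simp
  · have hperf_simple : commutator (SpecialLinearGroup (Fin n) F) = ⊤ ∧
        IsSimpleGroup (SpecialLinearGroup (Fin n) F ⧸ Subgroup.center (SpecialLinearGroup (Fin n) F)) := by
      by_cases h2 : n = 2
      · subst h2
        have hF : 4 ≤ Fintype.card F := by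
          by_contra hcon
          exact hex ⟨rfl, by omega⟩
        obtain ⟨a, ha, hasq⟩ := exists_sq_ne_one hF
        refine ⟨SL2.commutator_eq_top ha hasq, ?_⟩
        exact Matrix.ProjectiveSpecialLinearGroup.rank_two_simple (by
          rw [Nat.card_eq_fintype_card]; exact hF)
      · have h3 : 3 ≤ Fintype.card (Fin n) := by
          rw [Fintype.card_fin]; omega
        exact ⟨Cfsg.Agent.Helper5.commutator_SL_eq_top h3, Cfsg.Agent.Helper5.psl_isSimpleGroup h3⟩
    obtain ⟨hperf, hsimple⟩ := hperf_simple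
    rcases normalized_dichotomy hperf hsimple (SpecialLinearGroup.toGL : SpecialLinearGroup (Fin n) F →* GL (Fin n) F)
      (SL_normal_in_GL n) G hG with h | h
    · left
      intro g hg
      have hmem : (g : Matrix (Fin n) (Fin n) F) ∈ Set.range (Matrix.scalar (Fin n)) := by
        apply Matrix.mem_range_scalar_of_commute_transvectionStruct
        intro t
        have := h g hg t.toSpecialLinearGroup
        have h2 := congrArg (fun g : GL (Fin n) F => (g : Matrix (Fin n) (Fin n) F)) this
        simp only [Units.val_mul, SpecialLinearGroup.coe_GL_coe_matrix,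
          TransvectionStruct.toSpecialLinearGroup_coe] at h2
        exact h2.symm
      obtain ⟨c, hc⟩ := hmem
      refine ⟨c, ?_⟩
      rw [← hc]
      ext i j
      simp [Matrix.scalar_apply, Matrix.diagonal_apply, Matrix.one_apply]
    · right
      exact h

end Cfsg.Agent.S2540
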