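import Cfsg.Statements.S2541
import Mathlib

set_option autoImplicit false
open Cfsg

namespace Cfsg.Agent.S2541

open Matrix

theorem orderOf_eq_of_pow_iff {X Y : Type*} [Monoid X] [Monoid Y] (x : X) (y : Y)
    (h : ∀ N : ℕ, x ^ N = 1 ↔ y ^ N = 1) : orderOf x = orderOf y := by
  apply Nat.dvd_antisymm
  · rw [orderOf_dvd_iff_pow_eq_one, h, ← orderOf_dvd_iff_pow_eq_one]
  · rw [orderOf_dvd_iff_pow_eq_one, ← h, ← orderOf_dvd_iff_pow_eq_one]

theorem no_order_eight (σ : Equiv.Perm (Fin 6)) : orderOf σ ≠ 8 := by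
  intro h
  have h4 : σ.cycleType.lcm ∣ 4 := by
    apply Multiset.lcm_dvd.mpr
    intro n hn
    have h1 : n ∣ 8 := h ▸ Equiv.Perm.dvd_of_mem_cycleType hn
    have h2 : n ≤ 6 := by
      have := Equiv.Perm.le_card_support_of_mem_cycleType hn
      have h3 : σ.support.card ≤ Fintype.card (Fin 6) := Finset.card_le_univ _
      simp at h3
      omega
    have h3 : n ∈ Nat.divisors 8 := Nat.mem_divisors.mpr ⟨h1, by norm_num⟩
    have h5 : Nat.divisors 8 = {1, 2, 4, 8} := by decide
    rw [h5] at h3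
    simp at h3
    rcases h3 with rfl | rfl | rfl | rfl <;> first | omega | decide
  rw [Equiv.Perm.lcm_cycleType, h] at h4
  omega

/-- diag(u,1) -/
noncomputable def dg {F : Type*} [Field F] (u : Fˣ) : GL (Fin 2) F :=
  ⟨Matrix.diagonal ![(u : F), 1], Matrix.diagonal ![((u⁻¹ : Fˣ) : F), 1], by
    rw [Matrix.diagonal_mul_diagonal]
    ext i j
    fin_cases i <;> fin_cases j <;> simp [Matrix.diagonal, Matrix.one_apply],
   by
    rw [Matrix.diagonal_mul_diagonal]
    ext i j
    fin_cases i <;> fin_cases j <;> simp [Matrix.diagonal, Matrix.one_apply]⟩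

theorem dg_pow {F : Type*} [Field F] (u : Fˣ) (N : ℕ) : dg u ^ N = dg (u ^ N) := by
  apply Units.ext
  rw [Units.val_pow_eq_pow_val]
  show (Matrix.diagonal ![(u : F), 1]) ^ N = Matrix.diagonal ![((u ^ N : Fˣ) : F), 1]
  rw [Matrix.diagonal_pow]
  congr 1
  ext i
  fin_cases i <;> simp

theorem mk_dg_eq_one {F : Type*} [Field F] (u : Fˣ) :
    ProjGenLinGroup.mk (dg u) = (1 : ProjGenLinGroup (Fin 2) F) ↔ u = 1 := by
  constructor
  · intro h
    rw [← ProjGenLinGroup.mk_one, ProjGenLinGroup.mk_eq_mk_iff] at h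
    obtain ⟨v, hv⟩ := h
    have h0 := congrArg (fun g : GL (Fin 2) F => (g : Matrix (Fin 2) (Fin 2) F) 0 0) hv
    have h1 := congrArg (fun g : GL (Fin 2) F => (g : Matrix (Fin 2) (Fin 2) F) 1 1) hv
    simp [dg, Matrix.mul_apply, Fin.sum_univ_two, Matrix.diagonal] at h0 h1
    apply Units.ext
    rw [h1] at h0
    simpa using h0
  · rintro rfl
    have : dg (1 : Fˣ) = 1 := by
      apply Units.ext
      show Matrix.diagonal ![((1 : Fˣ) : F), 1] = 1
      ext i j
      fin_cases i <;> fin_cases j <;> simp [Matrix.diagonal, Matrix.one_apply]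
    rw [this, ProjGenLinGroup.mk_one]

/-- Let F be a field with 9 elements. The symmetric group S_6 is not isomorphic to PGL_2(F) (although both have index-2 subgroups isomorphic to A_6). -/
theorem result {F : Type*} [Field F] [Fintype F] (hF : Fintype.card F = 9) : ¬ Nonempty (Equiv.Perm (Fin 6) ≃* Matrix.ProjGenLinGroup (Fin 2) F) := by
  classical
  rintro ⟨e⟩
  obtain ⟨ζ, hζ⟩ := IsCyclic.exists_generator (α := Fˣ)
  have hord : orderOf ζ = 8 := by
    rw [orderOf_eq_card_of_forall_mem_zpowers hζ, Nat.card_eq_fintype_card, Fintype.card_units, hF]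
  have h8 : orderOf (ProjGenLinGroup.mk (dg ζ) : ProjGenLinGroup (Fin 2) F) = 8 := by
    rw [← hord]
    apply orderOf_eq_of_pow_iff
    intro N
    rw [← map_pow, dg_pow, mk_dg_eq_one]
  have := no_order_eight (e.symm (ProjGenLinGroup.mk (dg ζ)))
  rw [MulEquiv.orderOf_eq] at this
  exact this h8

end Cfsg.Agent.S2541
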