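import Cfsg.Statements.S2542
import Cfsg.Agent.Lib.Helper56.SL25Mat
import Cfsg.Agent.Lib.Helper5.SL23b
import Cfsg.Agent.Lib.Helper5.PSL2Five

set_option autoImplicit false
open Cfsg

namespace Cfsg.Agent.S2542

open Matrix Cfsg.Agent.Helper56

abbrev S11 := SpecialLinearGroup (Fin 2) (ZMod 11)
abbrev S5 := SpecialLinearGroup (Fin 2) (ZMod 5)
abbrev M11 := Matrix (Fin 2) (Fin 2) (ZMod 11)

/-- the enumeration of the subgroup `2.A5` of `SL(2,11)` -/
def e11 : Fin 12 × Fin 10 → S11 := enum X11 Y11 (Y11 * (-1))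

/-- a transvection outside the subgroup -/
def U0 : S11 := ⟨!![1, 1; 0, 1], by rw [det_fin_two_of]; decide⟩

/-- indices of the coset representatives -/
def idx : Fin 10 → Fin 12 × Fin 10 :=
  ![(0, 0), (0, 1), (0, 2), (0, 3), (0, 4), (1, 0), (1, 1), (1, 4), (2, 0), (2, 4)]

/-- representatives of the eleven cosets -/
def g : Fin 11 → S11 := Fin.cons 1 (fun k => e11 (idx k) * U0)

/-- matrix level versions -/
def eM : Fin 12 × Fin 10 → M11 := enum (!![7, 1; 9, 3] : M11) !![3, 0; 0, 4] (!![3, 0; 0, 4] * (-1))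

def gM : Fin 11 → M11 := Fin.cons 1 (fun k => eM (idx k) * !![1, 1; 0, 1])

lemma coe_e11 (ij : Fin 12 × Fin 10) : coeHom _ (e11 ij) = eM ij := by
  rw [e11, enum_map]; rfl

lemma coe_g (k : Fin 11) : coeHom _ (g k) = gM k := by
  refine Fin.cases ?_ (fun k => ?_) k
  · simp [g, gM]
  · simp only [g, gM, Fin.cons_succ, map_mul, coe_e11]
    rfl

set_option maxRecDepth 100000 in
lemma distinctM : ∀ j k : Fin 11, j ≠ k → ∀ ij, gM j * eM ij ≠ gM k := by
  decide +kernel

lemma distinct (j k : Fin 11) (hjk : j ≠ k) (ij : Fin 12 × Fin 10) : g j * e11 ij ≠ g k := by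
  intro h
  apply distinctM j k hjk ij
  have := congrArg (coeHom _) h
  rwa [map_mul, coe_g, coe_g, coe_e11] at this

/-- the subgroup `2.A5` -/
def Hh : Subgroup S11 := φ11.range

lemma e11_mem (ij : Fin 12 × Fin 10) : e11 ij ∈ Hh := by
  refine ⟨enum gx gy (gy * gz) ij, ?_⟩
  rw [enum_map, map_mul]
  simp only [φ11, homOf_gx, homOf_gy, homOf_gz]
  rfl

lemma card_Hh : Nat.card Hh = 120 := by
  rw [← card_P120]
  exact (Nat.card_congr (MonoidHom.ofInjective φ11_injective).toEquiv).symm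

lemma card_S11 : Nat.card S11 = 1320 := by
  have _ : Fact (Nat.Prime 11) := ⟨by norm_num⟩
  rw [Cfsg.Agent.Helper53.card_SL2_succ (F := ZMod 11) 10 (by simp [ZMod.card])]

instance : Finite S11 := Nat.finite_of_card_ne_zero (by rw [card_S11]; norm_num)

lemma index_Hh : Hh.index = 11 := by
  have := Subgroup.index_mul_card Hh
  rw [card_Hh, card_S11] at this
  omega

lemma mem_Hh_iff (v : S11) : v ∈ Hh ↔ ∃ ij, e11 ij = v := by
  constructor
  · intro hv
    let f' : Fin 12 × Fin 10 → Hh := fun ij => ⟨e11 ij, e11_mem ij⟩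
    have hf' : Function.Injective f' := fun a b h => enum11_inj (congrArg Subtype.val h)
    have hbij := hf'.bijective_of_nat_card_le (by rw [card_Hh]; simp)
    obtain ⟨ij, hij⟩ := hbij.2 ⟨v, hv⟩
    exact ⟨ij, congrArg Subtype.val hij⟩
  · rintro ⟨ij, rfl⟩
    exact e11_mem ij

/-- the eleven cosets `g k * Hh` exhaust the group -/
lemma cover (v : S11) : ∃ k : Fin 11, (g k)⁻¹ * v ∈ Hh := by
  let c : Fin 11 → S11 ⧸ Hh := fun k => (g k : S11 ⧸ Hh)
  have hc : Function.Injective c := by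
    intro j k hjk
    by_contra hne
    have h1 : (g j)⁻¹ * g k ∈ Hh := QuotientGroup.eq.1 hjk
    obtain ⟨ij, hij⟩ := (mem_Hh_iff _).1 h1
    apply distinct j k hne ij
    rw [hij]; group
  have hfin : Finite (S11 ⧸ Hh) := inferInstance
  have hbij := hc.bijective_of_nat_card_le (by
    rw [← Subgroup.index_eq_card, index_Hh]; simp)
  obtain ⟨k, hk⟩ := hbij.2 (v : S11 ⧸ Hh)
  exact ⟨k, QuotientGroup.eq.1 hk⟩

/-- every element outside `Hh` lies in the double coset of `U0` -/
lemma dcoset (v : S11) (hv : v ∉ Hh) : ∃ a ∈ Hh, ∃ b ∈ Hh, v = a * U0 * b := by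
  obtain ⟨k, hk⟩ := cover v
  revert hk
  refine Fin.cases ?_ (fun k => ?_) k
  · intro hk
    exfalso
    apply hv
    simpa [g] using hk
  · intro hk
    refine ⟨e11 (idx k), e11_mem _, _, hk, ?_⟩
    simp only [g, Fin.cons_succ]
    group

lemma dc (u v : S11) (hu : u ∉ Hh) (hv : v ∉ Hh) : ∃ h ∈ Hh, v⁻¹ * h * u ∈ Hh := by
  obtain ⟨a, ha, b, hb, rfl⟩ := dcoset u hu
  obtain ⟨c, hc, d, hd, rfl⟩ := dcoset v hv
  refine ⟨c * a⁻¹, Hh.mul_mem hc (Hh.inv_mem ha), ?_⟩
  have : (c * U0 * d)⁻¹ * (c * a⁻¹) * (a * U0 * b) = d⁻¹ * b := by group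
  rw [this]
  exact Hh.mul_mem (Hh.inv_mem hd) hb

/-- a double coset criterion for `2`-transitivity on cosets, through a surjection -/
lemma two_pretrans {S G : Type*} [Group S] [Group G] (f : S →* G) (hf : Function.Surjective f)
    (K : Subgroup S)
    (hdc : ∀ u v : S, u ∉ K → v ∉ K → ∃ h ∈ K, v⁻¹ * h * u ∈ K) :
    MulAction.IsMultiplyPretransitive G (G ⧸ K.map f) 2 := by
  rw [MulAction.is_two_pretransitive_iff]
  intro a b c d hab hcd
  obtain ⟨a', rfl⟩ := QuotientGroup.mk_surjective a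
  obtain ⟨b', rfl⟩ := QuotientGroup.mk_surjective b
  obtain ⟨c', rfl⟩ := QuotientGroup.mk_surjective c
  obtain ⟨d', rfl⟩ := QuotientGroup.mk_surjective d
  obtain ⟨a, rfl⟩ := hf a'
  obtain ⟨b, rfl⟩ := hf b'
  obtain ⟨c, rfl⟩ := hf c'
  obtain ⟨d, rfl⟩ := hf d'
  have hu : a⁻¹ * b ∉ K := by
    intro h
    apply hab
    rw [QuotientGroup.eq]
    exact ⟨a⁻¹ * b, h, by simp⟩
  have hv : c⁻¹ * d ∉ K := by
    intro h
    apply hcd
    rw [QuotientGroup.eq]
    exact ⟨c⁻¹ * d, h, by simp⟩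
  obtain ⟨h, hh, hh2⟩ := hdc _ _ hu hv
  refine ⟨f (c * h * a⁻¹), ?_, ?_⟩
  · rw [MulAction.Quotient.smul_mk, QuotientGroup.eq]
    refine ⟨h⁻¹, K.inv_mem hh, ?_⟩
    simp only [map_mul, map_inv, smul_eq_mul]
    group
  · rw [MulAction.Quotient.smul_mk, QuotientGroup.eq]
    refine ⟨((c⁻¹ * d)⁻¹ * h * (a⁻¹ * b))⁻¹, K.inv_mem hh2, ?_⟩
    simp only [map_mul, map_inv, smul_eq_mul]
    group

/-- the centre of `SL(2,K)` over a field is `{1, -1}` -/
lemma mem_center_SL2 {K : Type*} [Field K] (x : SpecialLinearGroup (Fin 2) K) :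
    x ∈ Subgroup.center (SpecialLinearGroup (Fin 2) K) ↔ x = 1 ∨ x = -1 := by
  rw [Matrix.SpecialLinearGroup.mem_center_iff]
  constructor
  · rintro ⟨r, hr, hx⟩
    rw [Fintype.card_fin] at hr
    rcases sq_eq_one_iff.mp hr with rfl | rfl
    · left
      apply Subtype.ext
      rw [← hx]; simp
    · right
      apply Subtype.ext
      rw [← hx]
      ext i j; fin_cases i <;> fin_cases j <;> simp
  · rintro (rfl | rfl)
    · exact ⟨1, by simp, by simp⟩
    · refine ⟨-1, by simp, ?_⟩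
      ext i j; fin_cases i <;> fin_cases j <;> simp

lemma neg_one_mem_Hh : (-1 : S11) ∈ Hh := ⟨gz, by simp [φ11, homOf_gz]⟩

lemma θ_neg_one : θ (-1) = -1 := by
  have h1 : presEquiv gz = -1 := by
    show φ5 gz = -1
    simp [φ5, homOf_gz]
  have h2 : presEquiv.symm (-1) = gz := by rw [← h1]; simp
  show φ11 (presEquiv.symm (-1)) = -1
  rw [h2]; simp [φ11, homOf_gz]

lemma θ_range : θ.range = Hh := by
  apply le_antisymm
  · rintro _ ⟨x, rfl⟩
    exact ⟨presEquiv.symm x, rfl⟩
  · rintro _ ⟨p, rfl⟩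
    exact ⟨presEquiv p, by show φ11 (presEquiv.symm (presEquiv p)) = φ11 p; simp⟩

section final

variable {F : Type*} [Field F] [Fintype F]

omit [Fintype F] in
lemma slMap_neg_one (e : ZMod 11 ≃+* F) :
    Cfsg.Agent.Helper5.slMapEquiv e (-1 : S11) = -1 := by
  apply Subtype.ext
  ext i j
  change e ((-1 : S11).1 i j) = (-1 : SpecialLinearGroup (Fin 2) F).1 i j
  fin_cases i <;> fin_cases j <;> simp

/-- The alternating group A₅ sits inside PSL₂(11) with index 11, 2-transitively on cosets. -/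
theorem result' (hF : Fintype.card F = 11) : ∃ H : Subgroup (Matrix.ProjectiveSpecialLinearGroup (Fin 2) F), H.index = 11 ∧ Nonempty (H ≃* alternatingGroup (Fin 5)) ∧ MulAction.IsMultiplyPretransitive (Matrix.ProjectiveSpecialLinearGroup (Fin 2) F) ((Matrix.ProjectiveSpecialLinearGroup (Fin 2) F) ⧸ H) 2 := by
  have _ : Fact (Nat.Prime 11) := ⟨by norm_num⟩
  have _ : Fact (Nat.Prime 5) := ⟨by norm_num⟩
  let e : ZMod 11 ≃+* F := ZMod.ringEquivOfPrime F (by norm_num) hF
  let se : S11 ≃* SpecialLinearGroup (Fin 2) F := Cfsg.Agent.Helper5.slMapEquiv e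
  let f : S11 →* Matrix.ProjectiveSpecialLinearGroup (Fin 2) F :=
    (QuotientGroup.mk' (Subgroup.center (SpecialLinearGroup (Fin 2) F))).comp se.toMonoidHom
  have hf : Function.Surjective f :=
    (QuotientGroup.mk'_surjective _).comp se.surjective
  have hker : ∀ x : S11, x ∈ f.ker ↔ x = 1 ∨ x = -1 := by
    intro x
    rw [MonoidHom.mem_ker]
    show (QuotientGroup.mk (se x) : Matrix.ProjectiveSpecialLinearGroup (Fin 2) F) = 1 ↔ _
    rw [QuotientGroup.eq_one_iff, mem_center_SL2]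
    constructor
    · rintro (h | h)
      · left
        exact se.injective (by rw [h, map_one])
      · right
        exact se.injective (by rw [h]; exact (slMap_neg_one e).symm)
    · rintro (rfl | rfl)
      · left; exact map_one se
      · right; exact slMap_neg_one e
  have hkerle : f.ker ≤ Hh := by
    intro x hx
    rcases (hker x).1 hx with rfl | rfl
    · exact Hh.one_mem
    · exact neg_one_mem_Hh
  refine ⟨Hh.map f, ?_, ?_, two_pretrans f hf Hh dc⟩
  · rw [Subgroup.index_map_eq _ hf hkerle, index_Hh]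
  · -- `H ≅ PSL(2,5) ≅ A5`
    let g5 : S5 →* Matrix.ProjectiveSpecialLinearGroup (Fin 2) F := f.comp θ
    have hrange : g5.range = Hh.map f := by
      rw [← θ_range, MonoidHom.map_range]
    have hk5 : g5.ker = Subgroup.center S5 := by
      ext x
      rw [MonoidHom.mem_ker, mem_center_SL2]
      show f (θ x) = 1 ↔ _
      rw [← MonoidHom.mem_ker, hker]
      constructor
      · rintro (h | h)
        · left; exact θ_injective (by rw [h, map_one])
        · right; exact θ_injective (by rw [h, θ_neg_one])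
      · rintro (rfl | rfl)
        · left; exact map_one θ
        · right; exact θ_neg_one
    obtain ⟨ψ⟩ := Cfsg.Agent.Helper5.psl2_card_five_equiv (F := ZMod 5) (by simp [ZMod.card])
    have e1 : Matrix.ProjectiveSpecialLinearGroup (Fin 2) (ZMod 5) ≃* g5.range :=
      (QuotientGroup.quotientMulEquivOfEq hk5.symm).trans (QuotientGroup.quotientKerEquivRange g5)
    exact ⟨((MulEquiv.subgroupCongr hrange).symm.trans e1.symm).trans ψ⟩

end final

theorem result {F : Type*} [Field F] [Fintype F] (hF : Fintype.card F = 11) : ∃ H : Subgroup (Matrix.ProjectiveSpecialLinearGroup (Fin 2) F), H.index = 11 ∧ Nonempty (H ≃* alternatingGroup (Fin 5)) ∧ MulAction.IsMultiplyPretransitive (Matrix.ProjectiveSpecialLinearGroup (Fin 2) F) ((Matrix.ProjectiveSpecialLinearGroup (Fin 2) F) ⧸ H) 2 :=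
  result' hF

end Cfsg.Agent.S2542
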