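import Cfsg.Statements.S2543
import Cfsg.Agent.Lib.Helper56.PSL11Data

set_option autoImplicit false
open scoped Pointwise
open Cfsg

namespace Cfsg.Agent.S2543

open Matrix Cfsg.Agent.Helper56 Cfsg.Agent.S2542 Cfsg.Agent.Helper56.PSL11

/-! ### from matrices to `SL(2,11)` -/

lemma entries (x : S11) : ∃ a b c d : ZMod 11, a * d - b * c = 1 ∧ x.1 = !![a, b; c, d] :=
  ⟨x.1 0 0, x.1 0 1, x.1 1 0, x.1 1 1, by have := x.2; rwa [det_fin_two] at this, eta_fin_two x.1⟩

lemma mem_Hh_of_memH (v : S11) (h : memH v.1) : v ∈ Hh := by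
  obtain ⟨ij, hij⟩ := memH_sound h
  rw [mem_Hh_iff]
  refine ⟨ij, coeHom_injective _ ?_⟩
  rw [coe_e11, hij]; rfl

lemma memH_of_mem (v : S11) (h : v ∈ Hh) : memH v.1 := by
  obtain ⟨ij, rfl⟩ := (mem_Hh_iff v).1 h
  have := coe_e11 ij
  have h2 : (e11 ij).1 = eM ij := this
  rw [h2]
  exact memH_complete ij

def A0s : S11 := ⟨A0m, by rw [A0m, det_fin_two_of]; decide⟩

lemma Dm_mul : Dm * Dm' = 1 := by decide
lemma Dm'_mul : Dm' * Dm = 1 := by decide
lemma det_Dm : Dm.det * Dm'.det = 1 := by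
  rw [Dm, Dm', det_fin_two_of, det_fin_two_of]; decide

/-- the diagonal automorphism -/
def ι : S11 →* S11 where
  toFun m := ⟨Dm * m.1 * Dm', by
    rw [det_mul, det_mul, m.2, mul_one, det_Dm]⟩
  map_one' := Subtype.ext (by simp [Dm_mul])
  map_mul' a b := Subtype.ext (by
    show Dm * (a.1 * b.1) * Dm' = (Dm * a.1 * Dm') * (Dm * b.1 * Dm')
    calc Dm * (a.1 * b.1) * Dm' = Dm * a.1 * 1 * b.1 * Dm' := by simp [Matrix.mul_assoc]
      _ = _ := by rw [← Dm'_mul]; simp only [Matrix.mul_assoc])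

/-- its inverse -/
def ι' : S11 →* S11 where
  toFun m := ⟨Dm' * m.1 * Dm, by
    rw [det_mul, det_mul, m.2, mul_one, mul_comm, det_Dm]⟩
  map_one' := Subtype.ext (by simp [Dm'_mul])
  map_mul' a b := Subtype.ext (by
    show Dm' * (a.1 * b.1) * Dm = (Dm' * a.1 * Dm) * (Dm' * b.1 * Dm)
    calc Dm' * (a.1 * b.1) * Dm = Dm' * a.1 * 1 * b.1 * Dm := by simp [Matrix.mul_assoc]
      _ = _ := by rw [← Dm_mul]; simp only [Matrix.mul_assoc])

lemma ι_ι' (m : S11) : ι (ι' m) = m := Subtype.ext (by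
  show Dm * (Dm' * m.1 * Dm) * Dm' = m.1
  calc Dm * (Dm' * m.1 * Dm) * Dm' = (Dm * Dm') * m.1 * (Dm * Dm') := by
        simp only [Matrix.mul_assoc]
    _ = m.1 := by rw [Dm_mul]; simp)

lemma ι'_ι (m : S11) : ι' (ι m) = m := Subtype.ext (by
  show Dm' * (Dm * m.1 * Dm') * Dm = m.1
  calc Dm' * (Dm * m.1 * Dm') * Dm = (Dm' * Dm) * m.1 * (Dm' * Dm) := by
        simp only [Matrix.mul_assoc]
    _ = m.1 := by rw [Dm'_mul]; simp)

/-- the second subgroup `2.A5` -/
def Kh : Subgroup S11 := Hh.map ι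

lemma mem_Kh_iff (v : S11) : v ∈ Kh ↔ ι' v ∈ Hh := by
  constructor
  · rintro ⟨h, hh, rfl⟩
    rwa [ι'_ι]
  · intro h
    exact ⟨ι' v, h, ι_ι' v⟩

lemma T0 (x : S11) (h : x ^ 2 = 1) : x = 1 ∨ x = -1 := by
  obtain ⟨a, b, c, d, hdet, hx⟩ := entries x
  have h1 : x.1 * x.1 = 1 := by
    have := congrArg Subtype.val h
    simpa [pow_two] using this
  rw [hx] at h1
  rcases D0 a b c d hdet h1 with h2 | h2
  · left; apply Subtype.ext; rw [hx, h2]; rfl
  · right; apply Subtype.ext; rw [hx, h2]; simp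

lemma T1 (x : S11) (h : x ^ 2 = -1) : ∃ g : S11, g * x = A0s * g := by
  obtain ⟨a, b, c, d, hdet, hx⟩ := entries x
  have h1 : x.1 * x.1 = -1 := by
    have := congrArg Subtype.val h
    simpa [pow_two] using this
  rw [hx] at h1
  obtain ⟨p, q, hpq, hg⟩ := D1 a b c d hdet h1
  refine ⟨⟨!![p, q; p * a + q * c, p * b - q * a], by rw [det_fin_two_of]; exact hpq⟩, ?_⟩
  apply Subtype.ext
  show !![p, q; p * a + q * c, p * b - q * a] * x.1 = A0m * !![p, q; p * a + q * c, p * b - q * a]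
  rw [hx]; exact hg

/-- coset representatives -/
def Rs (k : Fin 11) : S11 := ⟨RM k, by rw [det_fin_two]; exact (RM_spec k).2.1⟩
def Rs' (k : Fin 11) : S11 := ⟨RM' k, by rw [det_fin_two]; exact (RM_spec k).2.2⟩

lemma Rs'_mul (k : Fin 11) : Rs' k * Rs k = 1 := Subtype.ext (RM_spec k).1

lemma T2 (y : S11) (h3 : y ^ 3 = 1) (h1 : y ≠ 1)
    (h5 : (A0s * y) ^ 5 = 1 ∨ (A0s * y) ^ 5 = -1) :
    ∃ r r' : S11, r' * r = 1 ∧ ((r' * A0s * r ∈ Hh ∧ r' * y * r ∈ Hh) ∨
      (r' * A0s * r ∈ Kh ∧ r' * y * r ∈ Kh)) := by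
  obtain ⟨a, b, c, d, hdet, hy⟩ := entries y
  have e3 : pw3 y.1 = 1 := by
    have : y.1 ^ 3 = 1 := by simpa using congrArg Subtype.val h3
    rw [pw3, ← this]; simp [pow_succ]
  have e1 : y.1 ≠ 1 := fun h => h1 (Subtype.ext h)
  have e5 : pw5 (A0m * y.1) = 1 ∨ pw5 (A0m * y.1) = -1 := by
    have hc : (A0s * y).1 = A0m * y.1 := rfl
    rcases h5 with h | h
    · left
      have : (A0m * y.1) ^ 5 = 1 := by
        rw [← hc]; simpa using congrArg Subtype.val h
      rw [pw5, ← this]; simp [pow_succ]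
    · right
      have : (A0m * y.1) ^ 5 = -1 := by
        rw [← hc]; simpa using congrArg Subtype.val h
      rw [pw5, ← this]; simp [pow_succ]
  rw [hy] at e3 e1 e5
  obtain ⟨k, hk⟩ := D2 a b c d hdet e3 e1 e5
  rw [← hy] at hk
  rcases hk with ⟨hA, hY⟩ | ⟨hA, hY⟩
  · exact ⟨Rs k, Rs' k, Rs'_mul k, Or.inl ⟨mem_Hh_of_memH (Rs' k * A0s * Rs k) hA,
      mem_Hh_of_memH (Rs' k * y * Rs k) hY⟩⟩
  · have hA' : Rs' k * ι' A0s * Rs k ∈ Hh := mem_Hh_of_memH _ hA
    have hY' : Rs' k * ι' y * Rs k ∈ Hh := mem_Hh_of_memH _ hY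
    refine ⟨ι (Rs k), ι (Rs' k), by rw [← map_mul, Rs'_mul, map_one], Or.inr ⟨?_, ?_⟩⟩
    · rw [mem_Kh_iff]
      simpa only [map_mul, ι'_ι] using hA'
    · rw [mem_Kh_iff]
      simpa only [map_mul, ι'_ι] using hY'

lemma T3 (c : S11) : ¬ (ι' (c * X11 * c⁻¹) ∈ Hh ∧ ι' (c * Y11 * c⁻¹) ∈ Hh) := by
  rintro ⟨h1, h2⟩
  obtain ⟨a, b, c', d, hdet, hc⟩ := entries c
  have hinv : (c⁻¹).1 = !![d, -b; -c', a] := by
    have h0 := Matrix.SpecialLinearGroup.coe_inv c
    rw [show (c : M11) = c.1 from rfl, hc, adjugate_fin_two_of] at h0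
    exact h0
  have m1 := memH_of_mem _ h1
  have m2 := memH_of_mem _ h2
  have e1 : (ι' (c * X11 * c⁻¹)).1 = Dm' * (c.1 * !![7, 1; 9, 3] * (c⁻¹).1) * Dm := rfl
  have e2 : (ι' (c * Y11 * c⁻¹)).1 = Dm' * (c.1 * !![3, 0; 0, 4] * (c⁻¹).1) * Dm := rfl
  rw [e1, hinv, hc] at m1
  rw [e2, hinv, hc] at m2
  exact D3 a b c' d hdet ⟨m1, m2⟩

/-! ### generators of `A5` -/

abbrev A5 := alternatingGroup (Fin 5)

set_option maxRecDepth 100000 in
lemma A5_gens : ∃ a b : A5, a ^ 2 = 1 ∧ b ^ 3 = 1 ∧ (a * b) ^ 5 = 1 ∧ a ≠ 1 ∧ b ≠ 1 ∧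
    a * b ≠ 1 := by
  decide +kernel

lemma card_A5 : Nat.card A5 = 60 := by
  have h := nat_card_alternatingGroup (α := Fin 5)
  rw [Nat.card_eq_fintype_card (α := Fin 5), Fintype.card_fin] at h
  have h5 : (5 : ℕ).factorial = 120 := by decide
  rw [h5] at h
  exact h

lemma closure_eq_top (a b : A5) (ha : a ^ 2 = 1) (hb : b ^ 3 = 1) (hab : (a * b) ^ 5 = 1)
    (ha1 : a ≠ 1) (hb1 : b ≠ 1) (hab1 : a * b ≠ 1) :
    Subgroup.closure ({a, b} : Set A5) = ⊤ := by
  have _ : Fact (Nat.Prime 5) := ⟨by norm_num⟩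
  set M := Subgroup.closure ({a, b} : Set A5) with hM
  have haM : a ∈ M := Subgroup.subset_closure (by simp)
  have hbM : b ∈ M := Subgroup.subset_closure (by simp)
  have habM : a * b ∈ M := M.mul_mem haM hbM
  have o2 : orderOf a = 2 := orderOf_eq_prime ha ha1
  have o3 : orderOf b = 3 := orderOf_eq_prime hb hb1
  have o5 : orderOf (a * b) = 5 := orderOf_eq_prime hab hab1
  have d2 : 2 ∣ Nat.card M := by
    have := Subgroup.orderOf_dvd_natCard M haM
    rwa [o2] at this
  have d3 : 3 ∣ Nat.card M := by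
    have := Subgroup.orderOf_dvd_natCard M hbM
    rwa [o3] at this
  have d5 : 5 ∣ Nat.card M := by
    have := Subgroup.orderOf_dvd_natCard M habM
    rwa [o5] at this
  have hidx := M.card_mul_index
  rw [card_A5] at hidx
  have hi : M.index = 1 ∨ M.index = 2 := by
    obtain ⟨k, hk⟩ : 30 ∣ Nat.card M := by omega
    rw [hk] at hidx
    have : k * M.index = 2 := by nlinarith
    have h2 : M.index ∣ 2 := Dvd.intro_left _ this
    have := (Nat.dvd_prime Nat.prime_two).1 h2
    exact this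
  rcases hi with h | h
  · exact Subgroup.index_eq_one.1 h
  · have hn : M.Normal := Subgroup.normal_of_index_eq_two h
    rcases hn.eq_bot_or_eq_top with h' | h'
    · rw [h'] at d2; simp at d2
    · exact h'

lemma gens_of_iso {G : Type*} [Group G] (L : Subgroup G) (φ : L ≃* A5) :
    ∃ a b : G, a ^ 2 = 1 ∧ b ^ 3 = 1 ∧ (a * b) ^ 5 = 1 ∧ a ≠ 1 ∧ b ≠ 1 ∧
      Subgroup.closure {a, b} = L := by
  obtain ⟨a', b', ha, hb, hab, ha1, hb1, hab1⟩ := A5_gens
  let ψ : A5 →* G := L.subtype.comp φ.symm.toMonoidHom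
  have hψ : Function.Injective ψ := L.subtype_injective.comp φ.symm.injective
  refine ⟨ψ a', ψ b', by rw [← map_pow, ha, map_one], by rw [← map_pow, hb, map_one],
    by rw [← map_mul, ← map_pow, hab, map_one], fun h => ha1 (hψ (by rw [h, map_one])),
    fun h => hb1 (hψ (by rw [h, map_one])), ?_⟩
  have h1 := MonoidHom.map_closure ψ {a', b'}
  rw [closure_eq_top a' b' ha hb hab ha1 hb1 hab1, Set.image_pair] at h1
  rw [← h1, ← MonoidHom.range_eq_map]
  ext x; constructor
  · rintro ⟨y, rfl⟩; exact (φ.symm y).2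
  · intro hx
    exact ⟨φ ⟨x, hx⟩, by simp [ψ]⟩

lemma conj_closure_le {G : Type*} [Group G] (γ a b : G) (M : Subgroup G)
    (ha : γ * a * γ⁻¹ ∈ M) (hb : γ * b * γ⁻¹ ∈ M) :
    MulAut.conj γ • Subgroup.closure {a, b} ≤ M := by
  have hle : Subgroup.closure {a, b} ≤ M.comap (MulAut.conj γ).toMonoidHom := by
    rw [Subgroup.closure_le]
    rintro x (rfl | rfl)
    · exact ha
    · exact hb
  intro x hx
  obtain ⟨s, hs, rfl⟩ := (Subgroup.mem_smul_pointwise_iff_exists _ _ _).1 hx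
  exact hle hs

/-! ### the projective group -/

section final

variable {F : Type*} [Field F] [Fintype F]

/-- the projection `SL(2,11) → PSL(2,F)` -/
noncomputable def fF (hF : Fintype.card F = 11) :
    S11 →* Matrix.ProjectiveSpecialLinearGroup (Fin 2) F :=
  haveI : Fact (Nat.Prime 11) := ⟨by norm_num⟩
  (QuotientGroup.mk' (Subgroup.center (SpecialLinearGroup (Fin 2) F))).comp
    (Cfsg.Agent.Helper5.slMapEquiv (ZMod.ringEquivOfPrime F (by norm_num) hF)).toMonoidHom

lemma fF_surj (hF : Fintype.card F = 11) : Function.Surjective (fF hF) :=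
  (QuotientGroup.mk'_surjective _).comp (MulEquiv.surjective _)

lemma fF_ker (hF : Fintype.card F = 11) (x : S11) : fF hF x = 1 ↔ x = 1 ∨ x = -1 := by
  have _ : Fact (Nat.Prime 11) := ⟨by norm_num⟩
  let e : ZMod 11 ≃+* F := ZMod.ringEquivOfPrime F (by norm_num) hF
  let se : S11 ≃* SpecialLinearGroup (Fin 2) F := Cfsg.Agent.Helper5.slMapEquiv e
  show (QuotientGroup.mk (se x) : Matrix.ProjectiveSpecialLinearGroup (Fin 2) F) = 1 ↔ _
  rw [QuotientGroup.eq_one_iff, mem_center_SL2]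
  constructor
  · rintro (h | h)
    · left
      exact se.injective (by rw [h, map_one])
    · right
      exact se.injective (by rw [h]; exact (slMap_neg_one e).symm)
  · rintro (rfl | rfl)
    · left; exact map_one se
    · right; exact slMap_neg_one e

lemma iso_A5_of_emb (hF : Fintype.card F = 11) (θ' : S5 →* S11) (hinj : Function.Injective θ')
    (hneg : θ' (-1) = -1) : Nonempty ((θ'.range.map (fF hF)) ≃* A5) := by
  have _ : Fact (Nat.Prime 5) := ⟨by norm_num⟩
  let g5 : S5 →* Matrix.ProjectiveSpecialLinearGroup (Fin 2) F := (fF hF).comp θ'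
  have hrange : g5.range = θ'.range.map (fF hF) := by
    rw [MonoidHom.map_range]
  have hk5 : g5.ker = Subgroup.center S5 := by
    ext x
    rw [MonoidHom.mem_ker, mem_center_SL2]
    show fF hF (θ' x) = 1 ↔ _
    rw [fF_ker]
    constructor
    · rintro (h | h)
      · left; exact hinj (by rw [h, map_one])
      · right; exact hinj (by rw [h, hneg])
    · rintro (rfl | rfl)
      · left; exact map_one θ'
      · right; exact hneg
  obtain ⟨ψ⟩ := Cfsg.Agent.Helper5.psl2_card_five_equiv (F := ZMod 5) (by simp [ZMod.card])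
  have e1 : Matrix.ProjectiveSpecialLinearGroup (Fin 2) (ZMod 5) ≃* g5.range :=
    (QuotientGroup.quotientMulEquivOfEq hk5.symm).trans (QuotientGroup.quotientKerEquivRange g5)
  exact ⟨((MulEquiv.subgroupCongr hrange).symm.trans e1.symm).trans ψ⟩

/-- the two representatives -/
noncomputable def HF (hF : Fintype.card F = 11) :
    Subgroup (Matrix.ProjectiveSpecialLinearGroup (Fin 2) F) := Hh.map (fF hF)

noncomputable def KF (hF : Fintype.card F = 11) :
    Subgroup (Matrix.ProjectiveSpecialLinearGroup (Fin 2) F) := Kh.map (fF hF)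

lemma ι_neg_one : ι (-1) = -1 := Subtype.ext (by
  show Dm * (-1 : S11).1 * Dm' = (-1 : S11).1
  have : (-1 : S11).1 = -1 := by simp
  rw [this, Matrix.mul_neg, Matrix.neg_mul, Matrix.mul_one, Dm_mul])

lemma ι_injective : Function.Injective ι := fun a b h => by
  rw [← ι'_ι a, ← ι'_ι b, h]

lemma HF_iso (hF : Fintype.card F = 11) : Nonempty (HF hF ≃* A5) := by
  have := iso_A5_of_emb hF θ θ_injective θ_neg_one
  rwa [θ_range] at this

lemma KF_iso (hF : Fintype.card F = 11) : Nonempty (KF hF ≃* A5) := by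
  have := iso_A5_of_emb hF (ι.comp θ) (ι_injective.comp θ_injective)
    (by rw [MonoidHom.comp_apply, θ_neg_one, ι_neg_one])
  rwa [← MonoidHom.map_range, θ_range] at this

lemma neg_one_mem_Kh : (-1 : S11) ∈ Kh := ⟨-1, neg_one_mem_Hh, ι_neg_one⟩

lemma ker_le_Hh (hF : Fintype.card F = 11) : (fF hF).ker ≤ Hh := by
  intro x hx
  rcases (fF_ker hF x).1 hx with rfl | rfl
  · exact Hh.one_mem
  · exact neg_one_mem_Hh

lemma ker_le_Kh (hF : Fintype.card F = 11) : (fF hF).ker ≤ Kh := by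
  intro x hx
  rcases (fF_ker hF x).1 hx with rfl | rfl
  · exact Kh.one_mem
  · exact neg_one_mem_Kh

lemma card_of_iso {G : Type*} [Group G] (L : Subgroup G) (h : Nonempty (L ≃* A5)) :
    Nat.card L = 60 := by
  obtain ⟨φ⟩ := h
  rw [Nat.card_congr φ.toEquiv, card_A5]

/-- every copy of `A5` is conjugate to one of the two representatives -/
lemma conj_to (hF : Fintype.card F = 11)
    (L : Subgroup (Matrix.ProjectiveSpecialLinearGroup (Fin 2) F)) (hL : Nonempty (L ≃* A5)) :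
    ∃ γ : Matrix.ProjectiveSpecialLinearGroup (Fin 2) F,
      MulAut.conj γ • L = HF hF ∨ MulAut.conj γ • L = KF hF := by
  have hcL := card_of_iso L hL
  obtain ⟨φ⟩ := hL
  obtain ⟨a, b, ha, hb, hab, ha1, hb1, hcl⟩ := gens_of_iso L φ
  obtain ⟨ah, rfl⟩ := fF_surj hF a
  obtain ⟨b₀, rfl⟩ := fF_surj hF b
  have hneg : fF hF (-1) = 1 := (fF_ker hF _).2 (Or.inr rfl)
  have hah : ah ^ 2 = -1 := by
    have : fF hF (ah ^ 2) = 1 := by rw [map_pow, ha]
    rcases (fF_ker hF _).1 this with h | h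
    · exfalso
      rcases T0 ah h with h' | h'
      · apply ha1; rw [h', map_one]
      · apply ha1; rw [h', hneg]
    · exact h
  obtain ⟨bh, hfb, hb3⟩ : ∃ bh : S11, fF hF bh = fF hF b₀ ∧ bh ^ 3 = 1 := by
    have : fF hF (b₀ ^ 3) = 1 := by rw [map_pow, hb]
    rcases (fF_ker hF _).1 this with h | h
    · exact ⟨b₀, rfl, h⟩
    · refine ⟨-b₀, ?_, ?_⟩
      · have : -b₀ = (-1) * b₀ := by simp
        rw [this, map_mul, hneg, one_mul]
      · rw [Odd.neg_pow (by decide), h, neg_neg]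
  have hbh1 : bh ≠ 1 := by
    rintro rfl
    apply hb1
    rw [← hfb, map_one]
  have h5 : (ah * bh) ^ 5 = 1 ∨ (ah * bh) ^ 5 = -1 := by
    apply (fF_ker hF _).1
    rw [map_pow, map_mul, hfb, hab]
  obtain ⟨g₁, hg₁⟩ := T1 ah hah
  have hA : A0s = g₁ * ah * g₁⁻¹ := by rw [hg₁]; group
  obtain ⟨r, r', hrr, hcase⟩ := T2 (g₁ * bh * g₁⁻¹) (by rw [conj_pow, hb3]; group)
    (by
      intro h
      apply hbh1
      have : bh = g₁⁻¹ * (g₁ * bh * g₁⁻¹) * g₁ := by group
      rw [this, h]; group)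
    (by
      have : A0s * (g₁ * bh * g₁⁻¹) = g₁ * (ah * bh) * g₁⁻¹ := by rw [hA]; group
      rw [this, conj_pow]
      rcases h5 with h | h
      · left; rw [h]; group
      · right; rw [h]; simp)
  have hr' : r' = r⁻¹ := eq_inv_of_mul_eq_one_left hrr
  subst hr'
  refine ⟨fF hF (r⁻¹ * g₁), ?_⟩
  have key : ∀ x : S11, fF hF (r⁻¹ * g₁) * fF hF x * (fF hF (r⁻¹ * g₁))⁻¹ =
      fF hF (r⁻¹ * (g₁ * x * g₁⁻¹) * r) := by
    intro x
    rw [← map_inv, ← map_mul, ← map_mul]
    congr 1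
    group
  have hfin : Finite (Matrix.ProjectiveSpecialLinearGroup (Fin 2) F) := inferInstance
  have hcard : Nat.card (MulAut.conj (fF hF (r⁻¹ * g₁)) • L : Subgroup _) = 60 := by
    rw [← Nat.card_congr (Subgroup.equivSMul (MulAut.conj (fF hF (r⁻¹ * g₁))) L).toEquiv, hcL]
  rcases hcase with ⟨h1, h2⟩ | ⟨h1, h2⟩
  · left
    apply Subgroup.eq_of_le_of_card_ge
    · rw [← hcl]
      apply conj_closure_le
      · rw [key, ← hA]; exact ⟨_, h1, rfl⟩
      · rw [← hfb, key]; exact ⟨_, h2, rfl⟩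
    · rw [hcard, card_of_iso _ (HF_iso hF)]
  · right
    apply Subgroup.eq_of_le_of_card_ge
    · rw [← hcl]
      apply conj_closure_le
      · rw [key, ← hA]; exact ⟨_, h1, rfl⟩
      · rw [← hfb, key]; exact ⟨_, h2, rfl⟩
    · rw [hcard, card_of_iso _ (KF_iso hF)]

/-- the two representatives are not conjugate -/
lemma not_conj (hF : Fintype.card F = 11) (γ : Matrix.ProjectiveSpecialLinearGroup (Fin 2) F) :
    MulAut.conj γ • HF hF ≠ KF hF := by
  intro h
  obtain ⟨c, rfl⟩ := fF_surj hF γ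
  have key : ∀ x ∈ Hh, c * x * c⁻¹ ∈ Kh := by
    intro x hx
    have h1 : fF hF (c * x * c⁻¹) ∈ KF hF := by
      rw [← h, map_mul, map_mul, map_inv]
      have e : fF hF c * fF hF x * (fF hF c)⁻¹ = MulAut.conj (fF hF c) • fF hF x := rfl
      rw [e]
      exact Subgroup.smul_mem_pointwise_smul _ _ _ ⟨x, hx, rfl⟩
    have h2 : c * x * c⁻¹ ∈ (Kh.map (fF hF)).comap (fF hF) := h1
    rwa [Subgroup.comap_map_eq_self (ker_le_Kh hF)] at h2
  have hX : X11 ∈ Hh := ⟨gx, by simp [φ11, homOf_gx]⟩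
  have hY : Y11 ∈ Hh := ⟨gy, by simp [φ11, homOf_gy]⟩
  exact T3 c ⟨(mem_Kh_iff _).1 (key _ hX), (mem_Kh_iff _).1 (key _ hY)⟩

lemma ι_surjective : Function.Surjective ι := fun x => ⟨ι' x, ι_ι' x⟩

lemma index_HF (hF : Fintype.card F = 11) : (HF hF).index = 11 := by
  rw [HF, Subgroup.index_map_eq _ (fF_surj hF) (ker_le_Hh hF), index_Hh]

lemma index_KF (hF : Fintype.card F = 11) : (KF hF).index = 11 := by
  rw [KF, Subgroup.index_map_eq _ (fF_surj hF) (ker_le_Kh hF), Kh,
    Subgroup.index_map_eq _ ι_surjective, index_Hh]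
  intro x hx
  have : x = 1 := ι_injective (by rw [MonoidHom.mem_ker.1 hx, map_one])
  rw [this]; exact Hh.one_mem

end final

/-- the number of conjugates of a subgroup of index `11` in a simple group -/
lemma card_orbit {G : Type*} [Group G] [Finite G] [IsSimpleGroup G] (H : Subgroup G)
    (hidx : H.index = 11) (hne : H ≠ ⊥) :
    Set.ncard (Set.range fun g : G => MulAut.conj g • H) = 11 := by
  let _ : MulAction G (Subgroup G) := MulAction.compHom (Subgroup G) (MulAut.conj : G →* MulAut G)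
  have hsmul : ∀ (g : G) (L : Subgroup G), g • L = MulAut.conj g • L := fun _ _ => rfl
  have horb : MulAction.orbit G H = Set.range fun g : G => MulAut.conj g • H := rfl
  rw [← horb, ← MulAction.index_stabilizer]
  have hle : H ≤ MulAction.stabilizer G H := fun h hh => by
    rw [MulAction.mem_stabilizer_iff, hsmul]; exact Subgroup.conj_smul_eq_self_of_mem hh
  have hdvd : (MulAction.stabilizer G H).index ∣ 11 := hidx ▸ Subgroup.index_dvd_of_le hle
  rcases (Nat.dvd_prime (by norm_num)).1 hdvd with h1 | h11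
  · exfalso
    have htop : MulAction.stabilizer G H = ⊤ := Subgroup.index_eq_one.1 h1
    have hn : H.Normal := ⟨fun n hn g => by
      have hg : g ∈ MulAction.stabilizer G H := htop ▸ Subgroup.mem_top g
      rw [MulAction.mem_stabilizer_iff, hsmul] at hg
      have : MulAut.conj g • n ∈ MulAut.conj g • H := Subgroup.smul_mem_pointwise_smul _ _ _ hn
      rw [hg] at this
      exact this⟩
    rcases hn.eq_bot_or_eq_top with h | h
    · exact hne h
    · rw [h, Subgroup.index_top] at hidx; omega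
  · exact h11


/-- Let F be a field with 11 elements. PSL_2(F) has exactly 22 subgroups isomorphic to the alternating group A_5, and they form two conjugacy classes: there are two such subgroups that are not conjugate, and every such subgroup is conjugate to one of these two. -/
theorem result {F : Type*} [Field F] [Fintype F] (hF : Fintype.card F = 11) : Nat.card {H : Subgroup (Matrix.ProjectiveSpecialLinearGroup (Fin 2) F) // Nonempty (H ≃* alternatingGroup (Fin 5))} = 22 ∧ ∃ H K : Subgroup (Matrix.ProjectiveSpecialLinearGroup (Fin 2) F), Nonempty (H ≃* alternatingGroup (Fin 5)) ∧ Nonempty (K ≃* alternatingGroup (Fin 5)) ∧ (∀ g : Matrix.ProjectiveSpecialLinearGroup (Fin 2) F, MulAut.conj g • H ≠ K) ∧ ∀ L : Subgroup (Matrix.ProjectiveSpecialLinearGroup (Fin 2) F), Nonempty (L ≃* alternatingGroup (Fin 5)) → ∃ g : Matrix.ProjectiveSpecialLinearGroup (Fin 2) F, MulAut.conj g • L = H ∨ MulAut.conj g • L = K := by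
  have hfin : Finite (Matrix.ProjectiveSpecialLinearGroup (Fin 2) F) := inferInstance
  have hsimple : IsSimpleGroup (Matrix.ProjectiveSpecialLinearGroup (Fin 2) F) :=
    Matrix.ProjectiveSpecialLinearGroup.rank_two_simple (by
      rw [Nat.card_eq_fintype_card, hF]; norm_num)
  have hH := HF_iso hF
  have hK := KF_iso hF
  have hS : {L : Subgroup (Matrix.ProjectiveSpecialLinearGroup (Fin 2) F) |
      Nonempty (L ≃* alternatingGroup (Fin 5))} =
      Set.range (fun g : Matrix.ProjectiveSpecialLinearGroup (Fin 2) F => MulAut.conj g • HF hF) ∪ Set.range (fun g : Matrix.ProjectiveSpecialLinearGroup (Fin 2) F => MulAut.conj g • KF hF) := by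
    ext L
    constructor
    · intro hL
      obtain ⟨γ, h | h⟩ := conj_to hF L hL
      · left
        exact ⟨γ⁻¹, by
          show MulAut.conj γ⁻¹ • HF hF = L
          rw [← h, smul_smul, ← map_mul, inv_mul_cancel, map_one, one_smul]⟩
      · right
        exact ⟨γ⁻¹, by
          show MulAut.conj γ⁻¹ • KF hF = L
          rw [← h, smul_smul, ← map_mul, inv_mul_cancel, map_one, one_smul]⟩
    · rintro (⟨g, rfl⟩ | ⟨g, rfl⟩)
      · obtain ⟨φ⟩ := hH
        exact ⟨(Subgroup.equivSMul _ _).symm.trans φ⟩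
      · obtain ⟨φ⟩ := hK
        exact ⟨(Subgroup.equivSMul _ _).symm.trans φ⟩
  have hdisj : Disjoint (Set.range (fun g : Matrix.ProjectiveSpecialLinearGroup (Fin 2) F => MulAut.conj g • HF hF))
      (Set.range (fun g : Matrix.ProjectiveSpecialLinearGroup (Fin 2) F => MulAut.conj g • KF hF)) := by
    rw [Set.disjoint_left]
    rintro L ⟨g, rfl⟩ ⟨g', hg'⟩
    apply not_conj hF (g'⁻¹ * g)
    have hg'' : MulAut.conj g' • KF hF = MulAut.conj g • HF hF := hg'
    rw [map_mul, mul_smul, ← hg'', smul_smul, ← map_mul, inv_mul_cancel, map_one, one_smul]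
  have neH : HF hF ≠ ⊥ := by
    intro h
    have := card_of_iso _ hH
    rw [h] at this
    simp at this
  have neK : KF hF ≠ ⊥ := by
    intro h
    have := card_of_iso _ hK
    rw [h] at this
    simp at this
  constructor
  · show Nat.card ({L : Subgroup (Matrix.ProjectiveSpecialLinearGroup (Fin 2) F) |
      Nonempty (L ≃* alternatingGroup (Fin 5))} : Set _) = 22
    rw [Nat.card_coe_set_eq, hS, Set.ncard_union_eq hdisj (Set.toFinite _) (Set.toFinite _),
      card_orbit _ (index_HF hF) neH, card_orbit _ (index_KF hF) neK]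
  · exact ⟨HF hF, KF hF, hH, hK, not_conj hF, conj_to hF⟩

end Cfsg.Agent.S2543
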