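import Cfsg.Statements.S2544
import Cfsg.Agent.Lib.Helper40.UnipSL
import Cfsg.Agent.Lib.Helper79.Inflation
import Cfsg.Agent.Lib.Helper74.DefectZero
import Cfsg.Agent.Lib.Helper53.SL2Card

set_option autoImplicit false
open Cfsg

namespace Cfsg.Agent.S2544

open Cfsg.Agent.S2424 Cfsg.Agent.Helper40.Unip
open scoped MatrixGroups

theorem tri_succ (k : ℕ) : tri (k + 1) = tri k + k := by
  unfold tri
  rw [Finset.sum_range_succ]

theorem qfac_zero (q : ℕ) : qfac q 0 = 1 := by
  unfold qfac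
  simp

theorem qfac_succ (q k : ℕ) : qfac q (k + 1) = qfac q k * qn q (k + 1) := by
  unfold qfac
  rw [Finset.prod_range_succ]

theorem qn_pos (q k : ℕ) : 0 < qn q (k + 1) := by
  unfold qn
  rw [Finset.sum_range_succ', pow_zero]
  omega

theorem qfac_pos (q k : ℕ) : 0 < qfac q k := by
  unfold qfac
  exact Finset.prod_pos (fun j _ => qn_pos q j)

theorem prod_qfac_succ (q n : ℕ) :
    ∏ m ∈ Finset.range n, qfac q (1 + m) = qfac q n * ∏ m ∈ Finset.range n, qfac q m := by
  induction n with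
  | zero => simp [qfac_zero]
  | succ n ih =>
    rw [Finset.prod_range_succ, Finset.prod_range_succ, ih, add_comm 1 n]
    ring

/-- a product over the elements of `Fin n` below `j`, as a product over a range -/
theorem prod_filter_lt {M : Type*} [CommMonoid M] {n : ℕ} (j : Fin n) (g : ℕ → M) :
    ∏ i ∈ Finset.univ.filter (fun i : Fin n => i < j), g i.val =
      ∏ i ∈ Finset.range j.val, g i := by
  rw [Finset.prod_filter]
  have h1 : ∏ i : Fin n, (if i < j then g i.val else 1) =
      ∏ i ∈ Finset.range n, (if i < j.val then g i else 1) :=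
    Fin.prod_univ_eq_prod_range (fun i => if i < j.val then g i else 1) n
  rw [h1, ← Finset.prod_filter]
  congr 1
  ext i
  rw [Finset.mem_filter, Finset.mem_range, Finset.mem_range]
  have := j.isLt
  omega

theorem prod_qn_sub (q j : ℕ) : ∏ i ∈ Finset.range j, qn q (j - i) = qfac q j := by
  have := qfac_split q j j le_rfl
  rw [Nat.sub_self, qfac_zero, one_mul] at this
  exact this.symm

theorem sum_one_add (j : ℕ) : ∑ i ∈ Finset.range j, (1 + i) = tri (j + 1) := by
  unfold tri
  rw [Finset.sum_range_succ']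
  simp only [add_zero]
  apply Finset.sum_congr rfl
  intro i _
  omega

/-- the Vandermonde product of the shifted `q`-integers -/
theorem vandermonde_qn (q n : ℕ) :
    ∏ i : Fin n, ∏ j ∈ Finset.univ.filter (fun j : Fin n => i < j),
        (q ^ (1 + i.val) * qn q (j.val - i.val)) =
      q ^ (∑ j ∈ Finset.range n, tri (j + 1)) * ∏ j ∈ Finset.range n, qfac q j := by
  have hswap : ∏ i : Fin n, ∏ j ∈ Finset.univ.filter (fun j : Fin n => i < j),
        (q ^ (1 + i.val) * qn q (j.val - i.val)) =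
      ∏ j : Fin n, ∏ i ∈ Finset.univ.filter (fun i : Fin n => i < j),
        (q ^ (1 + i.val) * qn q (j.val - i.val)) := by
    apply Finset.prod_comm'
    intro i j
    simp only [Finset.mem_univ, Finset.mem_filter, true_and, and_true]
  rw [hswap]
  have hinner : ∀ j : Fin n, ∏ i ∈ Finset.univ.filter (fun i : Fin n => i < j),
        (q ^ (1 + i.val) * qn q (j.val - i.val)) = q ^ tri (j.val + 1) * qfac q j.val := by
    intro j
    rw [prod_filter_lt j (fun i => q ^ (1 + i) * qn q (j.val - i)), Finset.prod_mul_distrib,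
      Finset.prod_pow_eq_pow_sum, sum_one_add, prod_qn_sub]
  rw [Finset.prod_congr rfl (fun j _ => hinner j),
    Fin.prod_univ_eq_prod_range (fun j => q ^ tri (j + 1) * qfac q j) n,
    Finset.prod_mul_distrib, Finset.prod_pow_eq_pow_sum]

theorem sum_tri_succ (n : ℕ) :
    ∑ j ∈ Finset.range n, tri (j + 1) = n * (n - 1) * (n - 2) / 6 + tri n := by
  have h1 : ∑ j ∈ Finset.range n, tri (j + 1) = ∑ j ∈ Finset.range n, tri j + tri n := by
    rw [Finset.sum_congr rfl (fun j _ => tri_succ j), Finset.sum_add_distrib]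
    rfl
  have h2 := six_mul_sum_tri n
  rw [h1]
  omega

/-- the degree of the Steinberg character of `GL_n(q)` -/
theorem steinberg_degree {F : Type*} [Field F] [Fintype F] (n : ℕ) :
    unipotentCharacterGL n F (fun _ => 1) 1 = ((Fintype.card F ^ tri n : ℕ) : ℂ) := by
  set q := Fintype.card F with hq
  have h := Cfsg.Agent.S2424.result (F := F) (q := q) rfl (fun _ : Fin n => 1)
    (fun _ _ _ => le_rfl) (by simp)
  have hL : ∏ i : Fin n, ∏ j ∈ Finset.range (1 + i.val),
      ((∑ l ∈ Finset.range (j + 1), q ^ l : ℕ) : ℂ) =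
      ((qfac q n * ∏ m ∈ Finset.range n, qfac q m : ℕ) : ℂ) := by
    rw [← prod_qfac_succ, ← Fin.prod_univ_eq_prod_range (fun m => qfac q (1 + m)) n,
      Nat.cast_prod]
    apply Finset.prod_congr rfl
    intro i _
    unfold qfac qn
    rw [Nat.cast_prod]
  have hR1 : ∏ j ∈ Finset.range n, ((∑ l ∈ Finset.range (j + 1), q ^ l : ℕ) : ℂ) =
      ((qfac q n : ℕ) : ℂ) := by
    unfold qfac qn
    rw [Nat.cast_prod]
  have hR2 : ∏ i : Fin n, ∏ j ∈ Finset.univ.filter (fun j : Fin n => i < j),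
      (((∑ l ∈ Finset.range (1 + j.val), q ^ l : ℕ) : ℂ) -
        ((∑ l ∈ Finset.range (1 + i.val), q ^ l : ℕ) : ℂ)) =
      ((q ^ (∑ j ∈ Finset.range n, tri (j + 1)) * ∏ j ∈ Finset.range n, qfac q j : ℕ) : ℂ) := by
    rw [← vandermonde_qn, Nat.cast_prod]
    apply Finset.prod_congr rfl
    intro i _
    rw [Nat.cast_prod]
    apply Finset.prod_congr rfl
    intro j hj
    rw [Finset.mem_filter] at hj
    have hij : i.val < j.val := hj.2
    have hsp := qn_split q (show 1 + i.val ≤ 1 + j.val by omega)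
    have e : 1 + j.val - (1 + i.val) = j.val - i.val := by omega
    rw [e] at hsp
    have hsp' : (∑ l ∈ Finset.range (1 + j.val), q ^ l : ℕ) =
        (∑ l ∈ Finset.range (1 + i.val), q ^ l : ℕ) + q ^ (1 + i.val) * qn q (j.val - i.val) :=
      hsp
    rw [hsp']
    push_cast
    ring
  change unipotentCharacterGL n F (fun _ => 1) 1 * (q : ℂ) ^ (n * (n - 1) * (n - 2) / 6) *
      (∏ i : Fin n, ∏ j ∈ Finset.range (1 + i.val),
        ((∑ l ∈ Finset.range (j + 1), q ^ l : ℕ) : ℂ)) =
    (∏ j ∈ Finset.range n, ((∑ l ∈ Finset.range (j + 1), q ^ l : ℕ) : ℂ)) *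
      ∏ i : Fin n, ∏ j ∈ Finset.univ.filter (fun j : Fin n => i < j),
        (((∑ l ∈ Finset.range (1 + j.val), q ^ l : ℕ) : ℂ) -
          ((∑ l ∈ Finset.range (1 + i.val), q ^ l : ℕ) : ℂ)) at h
  rw [hL, hR1, hR2, sum_tri_succ] at h
  have hq0 : (q : ℂ) ≠ 0 := by
    rw [Nat.cast_ne_zero]
    exact Fintype.card_ne_zero
  have hA : ((qfac q n : ℕ) : ℂ) ≠ 0 := by
    rw [Nat.cast_ne_zero]
    exact (qfac_pos q n).ne'
  have hB : ((∏ m ∈ Finset.range n, qfac q m : ℕ) : ℂ) ≠ 0 := by
    rw [Nat.cast_ne_zero]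
    exact (Finset.prod_pos (fun m _ => qfac_pos q m)).ne'
  have hC : ((q : ℂ) ^ (n * (n - 1) * (n - 2) / 6)) ≠ 0 := pow_ne_zero _ hq0
  push_cast at h ⊢
  rw [pow_add] at h
  have h' : unipotentCharacterGL n F (fun _ => 1) 1 *
      ((q : ℂ) ^ (n * (n - 1) * (n - 2) / 6) *
        (((qfac q n : ℕ) : ℂ) * ∏ m ∈ Finset.range n, ((qfac q m : ℕ) : ℂ))) =
      (q : ℂ) ^ tri n * ((q : ℂ) ^ (n * (n - 1) * (n - 2) / 6) *
        (((qfac q n : ℕ) : ℂ) * ∏ m ∈ Finset.range n, ((qfac q m : ℕ) : ℂ))) := by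
    rw [← mul_assoc, h]
    ring
  have hB' : (∏ m ∈ Finset.range n, ((qfac q m : ℕ) : ℂ)) ≠ 0 := by
    rw [← Nat.cast_prod]
    exact hB
  exact mul_right_cancel₀ (mul_ne_zero hC (mul_ne_zero hA hB')) h'

/-- the order of `GL_n(q)` is `q^(n(n-1)/2)` times a number prime to the characteristic -/
theorem card_GL_factor {F : Type*} [Field F] [Fintype F] (p : ℕ) [Fact p.Prime] [CharP F p]
    (n : ℕ) : ∃ m : ℕ, ¬ p ∣ m ∧ Nat.card (GL (Fin n) F) = Fintype.card F ^ tri n * m := by
  set q := Fintype.card F with hq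
  have hp : p.Prime := Fact.out
  have hpq : p ∣ q := by
    rw [← CharP.cast_eq_zero_iff F p q, hq]
    exact Nat.cast_card_eq_zero F
  refine ⟨∏ i : Fin n, (q ^ (n - i.val) - 1), ?_, ?_⟩
  · intro hdvd
    obtain ⟨i, _, hi⟩ := (Prime.dvd_finsetProd_iff (Nat.Prime.prime hp) _).mp hdvd
    have h1 : p ∣ q ^ (n - i.val) := dvd_pow hpq (by have := i.isLt; omega)
    have h2 : 1 ≤ q ^ (n - i.val) := Nat.one_le_pow _ _ Fintype.card_pos
    have h3 : p ∣ q ^ (n - i.val) - (q ^ (n - i.val) - 1) := Nat.dvd_sub h1 hi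
    have h4 : q ^ (n - i.val) - (q ^ (n - i.val) - 1) = 1 := by omega
    rw [h4] at h3
    exact hp.one_lt.ne' (Nat.dvd_one.mp h3)
  · rw [Matrix.card_GL_field]
    have h1 : ∀ i : Fin n, q ^ n - q ^ i.val = q ^ i.val * (q ^ (n - i.val) - 1) := by
      intro i
      have e : i.val + (n - i.val) = n := by have := i.isLt; omega
      rw [Nat.mul_sub, mul_one, ← pow_add, e]
    rw [Finset.prod_congr rfl (fun i _ => h1 i), Finset.prod_mul_distrib,
      Finset.prod_pow_eq_pow_sum]
    congr 2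
    exact Fin.sum_univ_eq_sum_range (fun i => i) n

/-- Let F be a finite field of characteristic p and consider the projective special linear group PSL_n(F) with n ≥ 2. This group has an irreducible complex character χ whose degree equals the order of a Sylow p-subgroup (namely q^(n(n−1)/2) when #F = q) and whose restriction to any Sylow p-subgroup P is the regular character of P: χ vanishes on the non-identity elements of P. (This is the Steinberg character.) -/
theorem result {F : Type*} [Field F] [Fintype F] (p : ℕ) [Fact p.Prime] [CharP F p] (n : ℕ) (hn : 2 ≤ n) : ∃ χ : Matrix.ProjectiveSpecialLinearGroup (Fin n) F → ℂ, Cfsg.IsIrrCharacter (Matrix.ProjectiveSpecialLinearGroup (Fin n) F) χ ∧ ∀ P : Sylow p (Matrix.ProjectiveSpecialLinearGroup (Fin n) F), χ 1 = Nat.card P ∧ ∀ x : Matrix.ProjectiveSpecialLinearGroup (Fin n) F, x ∈ P → x ≠ 1 → χ x = 0 := by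
  classical
  have hp : p.Prime := Fact.out
  have hn0 : 0 < n := by omega
  have : Fintype (GL (Fin n) F) := Fintype.ofFinite _
  have : Fintype (Matrix.SpecialLinearGroup (Fin n) F) := Fintype.ofFinite _
  have hirr := isIrrCharacter_unipotent_SL (F := F) hn0 (fun _ => 1) (fun _ _ _ => le_rfl)
    (by simp)
  let χ : IrrCharacter (Matrix.SpecialLinearGroup (Fin n) F) := ⟨_, hirr⟩
  have hker : Subgroup.center (Matrix.SpecialLinearGroup (Fin n) F) ≤
      Cfsg.Agent.Helper79.irrKer χ := by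
    intro z hz
    rw [Cfsg.Agent.Helper79.mem_irrKer]
    change unipotentCharacterGL n F (fun _ => 1) (Matrix.SpecialLinearGroup.toGL z) =
      unipotentCharacterGL n F (fun _ => 1) (Matrix.SpecialLinearGroup.toGL 1)
    rw [map_one]
    exact unipotent_center_SL _ z hz
  obtain ⟨ψ, hψ⟩ := Cfsg.Agent.Helper79.exists_deflate
    (Subgroup.center (Matrix.SpecialLinearGroup (Fin n) F)) χ hker
  set q := Fintype.card F with hq
  have hψ1 : (ψ : Matrix.ProjectiveSpecialLinearGroup (Fin n) F → ℂ) 1 =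
      ((q ^ tri n : ℕ) : ℂ) := by
    have h1 : (Cfsg.Agent.Helper79.inflate _ ψ :
        Matrix.SpecialLinearGroup (Fin n) F → ℂ) 1 =
        (χ : Matrix.SpecialLinearGroup (Fin n) F → ℂ) 1 := by rw [hψ]
    rw [Cfsg.Agent.Helper79.inflate_apply, QuotientGroup.mk_one] at h1
    rw [h1]
    change unipotentCharacterGL n F (fun _ => 1) (Matrix.SpecialLinearGroup.toGL 1) = _
    rw [map_one, steinberg_degree]
  have hdeg : charDegree (ψ : Matrix.ProjectiveSpecialLinearGroup (Fin n) F → ℂ) =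
      q ^ tri n := by
    unfold charDegree
    rw [hψ1, Complex.natCast_re, Nat.floor_natCast]
  have hdvd1 : q ^ tri n ∣ Nat.card (Matrix.ProjectiveSpecialLinearGroup (Fin n) F) := by
    rw [← hdeg]
    exact Cfsg.Agent.Helper79.irr_degree_dvd_card ψ
  obtain ⟨m, hpm, hGL⟩ := card_GL_factor (F := F) p n
  have hdvd2 : Nat.card (Matrix.ProjectiveSpecialLinearGroup (Fin n) F) ∣ q ^ tri n * m := by
    rw [← hGL, ← Cfsg.Agent.Helper53.card_SL_mul_card_units' (F := F) n hn0,
      Subgroup.card_eq_card_quotient_mul_card_subgroup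
        (Subgroup.center (Matrix.SpecialLinearGroup (Fin n) F)), mul_assoc]
    exact Dvd.intro _ rfl
  obtain ⟨f, -, hqf⟩ := FiniteField.card F p
  have hG0 : Nat.card (Matrix.ProjectiveSpecialLinearGroup (Fin n) F) ≠ 0 :=
    Nat.card_pos.ne'
  have hfac : (Nat.card (Matrix.ProjectiveSpecialLinearGroup (Fin n) F)).factorization p =
      (f : ℕ) * tri n := by
    apply le_antisymm
    · have h1 : p ^ (Nat.card (Matrix.ProjectiveSpecialLinearGroup (Fin n) F)).factorization p ∣
          q ^ tri n * m := (Nat.ordProj_dvd _ p).trans hdvd2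
      have hcop : Nat.Coprime
          (p ^ (Nat.card (Matrix.ProjectiveSpecialLinearGroup (Fin n) F)).factorization p) m :=
        Nat.Coprime.pow_left _ ((Nat.Prime.coprime_iff_not_dvd hp).mpr hpm)
      have h2 := hcop.dvd_of_dvd_mul_right h1
      rw [hq, hqf, ← pow_mul] at h2
      exact (Nat.pow_dvd_pow_iff_le_right hp.one_lt).mp h2
    · rw [hq, hqf, ← pow_mul] at hdvd1
      exact (Nat.Prime.pow_dvd_iff_le_factorization hp hG0).mp hdvd1
  refine ⟨ψ.1, ψ.2, ?_⟩
  intro P
  have hcard : Nat.card P = q ^ tri n := by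
    rw [P.card_eq_multiplicity, hfac, hq, hqf, ← pow_mul]
  refine ⟨by rw [hψ1, hcard], ?_⟩
  intro x hx hx1
  apply Cfsg.Agent.Helper74.DZ.irr_vanish_of_defect_zero ψ p hp
  · rw [hdeg, hfac, hq, hqf, ← pow_mul]
  · obtain ⟨k, hk⟩ := (IsPGroup.iff_orderOf.mp P.2) ⟨x, hx⟩
    have hord : orderOf x = p ^ k := by
      rw [← hk]
      exact (Subgroup.orderOf_mk x hx).symm
    rw [hord]
    rcases Nat.eq_zero_or_pos k with h0 | h0
    · exfalso
      rw [h0, pow_zero, orderOf_eq_one_iff] at hord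
      exact hx1 hord
    · exact dvd_pow_self p h0.ne'

end Cfsg.Agent.S2544
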