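import Cfsg.Statements.S2551
import Cfsg.Agent.Lib.Helper5.PSL4A8

set_option autoImplicit false
open Cfsg

namespace Cfsg.Agent.S2551

open Matrix

section

variable {F : Type*} [Field F] [Fintype F]

/-- `A7` embeds in `GL_4(2)` -/
lemma exists_A7 (hF : Fintype.card F = 2) :
    ∃ H : Subgroup (Matrix.GeneralLinearGroup (Fin 4) F),
      Nonempty (H ≃* alternatingGroup (Fin 7)) := by
  obtain ⟨e⟩ := Cfsg.Agent.Helper5.psl4_two_equiv_alternating hF
  let f8 : Fin 7 ≃ {i : Fin 8 // i ≠ Fin.last 7} := finSuccAboveEquiv (Fin.last 7)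
  let j : Equiv.Perm (Fin 7) →* Equiv.Perm (Fin 8) := Equiv.Perm.extendDomainHom f8
  have hj : Function.Injective j := Equiv.Perm.extendDomainHom_injective f8
  have hsign : ∀ σ, Equiv.Perm.sign (j σ) = Equiv.Perm.sign σ :=
    fun σ => Equiv.Perm.sign_extendDomain σ f8
  let j' : alternatingGroup (Fin 7) →* alternatingGroup (Fin 8) :=
    (j.comp (Subgroup.subtype _)).codRestrict _ (fun σ => by
      rw [Equiv.Perm.mem_alternatingGroup]
      show Equiv.Perm.sign (j σ.1) = 1
      rw [hsign]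
      exact Equiv.Perm.mem_alternatingGroup.1 σ.2)
  have hj' : Function.Injective j' := by
    intro a b hab
    apply Subtype.ext
    apply hj
    exact congrArg Subtype.val hab
  let φ : alternatingGroup (Fin 7) →* Matrix.GeneralLinearGroup (Fin 4) F :=
    Matrix.SpecialLinearGroup.toGL.comp
      ((Cfsg.Agent.Helper5.sl4EquivPSL4 hF).toMonoidHom.comp (e.symm.toMonoidHom.comp j'))
  have hφ : Function.Injective φ :=
    Matrix.SpecialLinearGroup.toGL_injective.comp
      ((Cfsg.Agent.Helper5.sl4EquivPSL4 hF).injective.comp (e.symm.injective.comp hj'))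
  exact ⟨φ.range, ⟨(MonoidHom.ofInjective hφ).symm⟩⟩

/-! ### the field with two elements -/

lemma zero_or_one (hF : Fintype.card F = 2) (a : F) : a = 0 ∨ a = 1 := by
  classical
  have h : ({0, 1} : Finset F) = Finset.univ := by
    apply Finset.eq_univ_of_card
    rw [Finset.card_pair zero_ne_one, hF]
  have := Finset.mem_univ a
  rw [← h] at this
  simpa using this

lemma one_add_one (hF : Fintype.card F = 2) : (1 : F) + 1 = 0 := by
  rcases zero_or_one hF ((1 : F) + 1) with h | h
  · exact h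
  · exfalso
    have : (1 : F) = 0 := by
      have := congrArg (fun x => x - 1) h
      simp at this
    exact one_ne_zero this

lemma card_GL4 (hF : Fintype.card F = 2) :
    Nat.card (Matrix.GeneralLinearGroup (Fin 4) F) = 20160 := by
  rw [Matrix.card_GL_field, hF, Fin.prod_univ_four]
  rfl

/-- two distinct nonzero vectors are linearly independent -/
lemma linInd (hF : Fintype.card F = 2) (v w : Fin 4 → F) (hv : v ≠ 0) (hw : w ≠ 0)
    (hvw : v ≠ w) : LinearIndependent F ![v, w] := by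
  rw [LinearIndependent.pair_iff]
  intro s t h
  rcases zero_or_one hF s with rfl | rfl <;> rcases zero_or_one hF t with rfl | rfl
  · exact ⟨rfl, rfl⟩
  · exfalso; apply hw; simpa using h
  · exfalso; apply hv; simpa using h
  · exfalso
    apply hvw
    have h2 : v + w = 0 := by simpa using h
    have h3 : w + w = 0 := by
      rw [← two_smul F w]
      have : (2 : F) = 0 := by rw [← one_add_one_eq_two]; exact one_add_one hF
      rw [this, zero_smul]
    have : v + w = w + w := by rw [h2, h3]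
    exact add_right_cancel this

/-- `GL_4(2)` is `2`-transitive on nonzero vectors -/
lemma exists_gl (hF : Fintype.card F = 2) (v w v' w' : Fin 4 → F) (hv : v ≠ 0) (hw : w ≠ 0)
    (hvw : v ≠ w) (hv' : v' ≠ 0) (hw' : w' ≠ 0) (hvw' : v' ≠ w') :
    ∃ g : Matrix.GeneralLinearGroup (Fin 4) F,
      (g : Matrix (Fin 4) (Fin 4) F).mulVec v = v' ∧
        (g : Matrix (Fin 4) (Fin 4) F).mulVec w = w' := by
  have h1 := linInd hF v w hv hw hvw
  have h2 := linInd hF v' w' hv' hw' hvw'
  let b1 := Module.Basis.span h1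
  let b2 := Module.Basis.span h2
  let f := b1.equiv b2 (Equiv.refl _)
  obtain ⟨g, hg⟩ := Submodule.exists_linearEquiv_restrict_eq f
  have hb1 : ∀ i, ((b1 i : Submodule.span F (Set.range ![v, w])) : Fin 4 → F) = ![v, w] i :=
    fun i => Module.Basis.coe_span_apply h1 i
  have hb2 : ∀ i, ((b2 i : Submodule.span F (Set.range ![v', w'])) : Fin 4 → F) = ![v', w'] i :=
    fun i => Module.Basis.coe_span_apply h2 i
  have hgi : ∀ i, g (![v, w] i) = ![v', w'] i := by
    intro i
    rw [← hb1 i, ← hg (b1 i), ← hb2 i]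
    congr 1
    simp [f]
  have hgv : g v = v' := hgi 0
  have hgw : g w = w' := hgi 1
  let M : Matrix (Fin 4) (Fin 4) F := LinearMap.toMatrix' (g : (Fin 4 → F) →ₗ[F] (Fin 4 → F))
  let M' : Matrix (Fin 4) (Fin 4) F :=
    LinearMap.toMatrix' (g.symm : (Fin 4 → F) →ₗ[F] (Fin 4 → F))
  have hMM' : M * M' = 1 := by
    rw [← LinearMap.toMatrix'_comp]
    simp
  have hM'M : M' * M = 1 := by
    rw [← LinearMap.toMatrix'_comp]
    simp
  refine ⟨⟨M, M', hMM', hM'M⟩, ?_, ?_⟩
  · show M.mulVec v = v'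
    rw [LinearMap.toMatrix'_mulVec]; exact hgv
  · show M.mulVec w = w'
    rw [LinearMap.toMatrix'_mulVec]; exact hgw

/-! ### the action on ordered pairs -/

/-- ordered pairs of distinct nonzero vectors -/
def P (F : Type*) [Field F] :=
  {p : (Fin 4 → F) × (Fin 4 → F) // p.1 ≠ 0 ∧ p.2 ≠ 0 ∧ p.1 ≠ p.2}

omit [Fintype F] in
lemma mulVec_inj (g : Matrix.GeneralLinearGroup (Fin 4) F) {v w : Fin 4 → F}
    (h : (g : Matrix (Fin 4) (Fin 4) F).mulVec v = (g : Matrix (Fin 4) (Fin 4) F).mulVec w) :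
    v = w := by
  have := congrArg ((g⁻¹ : Matrix.GeneralLinearGroup (Fin 4) F) : Matrix (Fin 4) (Fin 4) F).mulVec h
  rwa [Matrix.mulVec_mulVec, Matrix.mulVec_mulVec, ← Units.val_mul, inv_mul_cancel, Units.val_one,
    Matrix.one_mulVec, Matrix.one_mulVec] at this

/-- the action -/
def actP (g : Matrix.GeneralLinearGroup (Fin 4) F) (p : P F) : P F :=
  ⟨((g : Matrix (Fin 4) (Fin 4) F).mulVec p.1.1, (g : Matrix (Fin 4) (Fin 4) F).mulVec p.1.2),
    fun h => p.2.1 (mulVec_inj g (v := p.1.1) (w := 0) (h.trans (Matrix.mulVec_zero _).symm)),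
    fun h => p.2.2.1 (mulVec_inj g (v := p.1.2) (w := 0) (h.trans (Matrix.mulVec_zero _).symm)),
    fun h => p.2.2.2 (mulVec_inj g h)⟩

instance : MulAction (Matrix.GeneralLinearGroup (Fin 4) F) (P F) where
  smul := actP
  one_smul p := Subtype.ext (by
    show ((1 : Matrix (Fin 4) (Fin 4) F).mulVec p.1.1, (1 : Matrix (Fin 4) (Fin 4) F).mulVec p.1.2)
      = p.1
    simp)
  mul_smul g h p := Subtype.ext (by
    show (((g * h : Matrix.GeneralLinearGroup (Fin 4) F) : Matrix (Fin 4) (Fin 4) F).mulVec p.1.1,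
      ((g * h : Matrix.GeneralLinearGroup (Fin 4) F) : Matrix (Fin 4) (Fin 4) F).mulVec p.1.2) =
      ((g : Matrix (Fin 4) (Fin 4) F).mulVec ((h : Matrix (Fin 4) (Fin 4) F).mulVec p.1.1),
        (g : Matrix (Fin 4) (Fin 4) F).mulVec ((h : Matrix (Fin 4) (Fin 4) F).mulVec p.1.2))
    rw [Units.val_mul, Matrix.mulVec_mulVec, Matrix.mulVec_mulVec])

omit [Fintype F] in
lemma smul_val (g : Matrix.GeneralLinearGroup (Fin 4) F) (p : P F) :
    (g • p).1 = ((g : Matrix (Fin 4) (Fin 4) F).mulVec p.1.1,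
      (g : Matrix (Fin 4) (Fin 4) F).mulVec p.1.2) := rfl

lemma card_P (hF : Fintype.card F = 2) : Nat.card (P F) = 210 := by
  classical
  unfold P
  rw [Nat.card_eq_fintype_card, Fintype.card_subtype]
  have : (Finset.univ.filter fun p : (Fin 4 → F) × (Fin 4 → F) =>
      p.1 ≠ 0 ∧ p.2 ≠ 0 ∧ p.1 ≠ p.2) = (Finset.univ.erase (0 : Fin 4 → F)).offDiag := by
    ext p
    simp [Finset.mem_offDiag]
  rw [this, Finset.offDiag_card, Finset.card_erase_of_mem (Finset.mem_univ _), Finset.card_univ,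
    Fintype.card_fun, hF]
  rfl

lemma pretrans (hF : Fintype.card F = 2) :
    MulAction.IsPretransitive (Matrix.GeneralLinearGroup (Fin 4) F) (P F) := by
  constructor
  intro p q
  obtain ⟨g, h1, h2⟩ := exists_gl hF p.1.1 p.1.2 q.1.1 q.1.2 p.2.1 p.2.2.1 p.2.2.2 q.2.1 q.2.2.1
    q.2.2.2
  refine ⟨g, Subtype.ext ?_⟩
  rw [smul_val, h1, h2]

lemma card_stab (hF : Fintype.card F = 2) (p : P F) :
    Nat.card (MulAction.stabilizer (Matrix.GeneralLinearGroup (Fin 4) F) p) = 96 := by
  have _ := pretrans hF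
  have h1 := MulAction.index_stabilizer (Matrix.GeneralLinearGroup (Fin 4) F) p
  rw [MulAction.orbit_eq_univ, Set.ncard_univ, card_P hF] at h1
  have h2 := (MulAction.stabilizer (Matrix.GeneralLinearGroup (Fin 4) F) p).card_mul_index
  rw [h1, card_GL4 hF] at h2
  omega

instance : Finite (P F) := by unfold P; infer_instance

/-- swapping the two vectors -/
def swapP (p : P F) : P F := ⟨(p.1.2, p.1.1), p.2.2.1, p.2.1, fun h => p.2.2.2 h.symm⟩

omit [Fintype F] in
lemma swapP_smul (g : Matrix.GeneralLinearGroup (Fin 4) F) (p : P F) :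
    swapP (g • p) = g • swapP p := rfl

omit [Fintype F] in
lemma swapP_swapP (p : P F) : swapP (swapP p) = p := rfl

omit [Fintype F] in
lemma swapP_ne (p : P F) : swapP p ≠ p := by
  intro h
  apply p.2.2.2
  have := congrArg (fun q : P F => q.1.2) h
  exact this

variable (H : Subgroup (Matrix.GeneralLinearGroup (Fin 4) F))

lemma orbit_card (hF : Fintype.card F = 2) (hH : Nat.card H = 2520) (p : P F) :
    Set.ncard (MulAction.orbit H p) = 105 ∨ Set.ncard (MulAction.orbit H p) = 210 := by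
  have h1 := MulAction.index_stabilizer H p
  have h2 := (MulAction.stabilizer H p).card_mul_index
  rw [h1, hH] at h2
  have h3 : Nat.card (MulAction.stabilizer H p) ∣ 96 := by
    rw [← card_stab hF p]
    apply Subgroup.card_dvd_of_injective
      (((H.subtype).comp (MulAction.stabilizer H p).subtype).codRestrict
        (MulAction.stabilizer (Matrix.GeneralLinearGroup (Fin 4) F) p) (fun x => x.2))
    intro x y hxy
    apply Subtype.ext
    apply Subtype.ext
    have := congrArg Subtype.val hxy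
    exact this
  have h4 : Set.ncard (MulAction.orbit H p) ≤ 210 := by
    rw [← card_P hF]; exact Set.ncard_le_card _
  have h5 : Nat.card (MulAction.stabilizer H p) ∣ 2520 := Dvd.intro _ h2
  have h6 : Nat.card (MulAction.stabilizer H p) ∣ 24 := Nat.dvd_gcd h3 h5
  have h7 : Nat.card (MulAction.stabilizer H p) ≤ 24 := Nat.le_of_dvd (by norm_num) h6
  generalize Nat.card (MulAction.stabilizer H p) = c at *
  generalize Set.ncard (MulAction.orbit H p) = s at *
  interval_cases c <;> omega

lemma even_orbit (p : P F) (t : H) (ht : t • p = swapP p) :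
    Even (Set.ncard (MulAction.orbit H p)) := by
  classical
  have hmem : ∀ q ∈ MulAction.orbit H p, swapP q ∈ MulAction.orbit H p := by
    rintro q ⟨h, rfl⟩
    refine ⟨h * t, ?_⟩
    show (h * t) • p = swapP (h • p)
    rw [mul_smul, ht]
    rfl
  have _ : Fintype (MulAction.orbit H p) := Fintype.ofFinite _
  let σ : Function.End (MulAction.orbit H p) := fun q => ⟨swapP q.1, hmem q.1 q.2⟩
  have hσ : σ ^ 2 ^ 1 = 1 := by
    rw [pow_one, pow_two]
    funext q
    rfl
  have _ : Fact (Nat.Prime 2) := ⟨Nat.prime_two⟩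
  have h := Equiv.Perm.card_fixedPoints_modEq (f := σ) (p := 2) (n := 1) hσ
  have hfix : IsEmpty (Function.fixedPoints σ) := by
    constructor
    rintro ⟨q, hq⟩
    have : swapP q.1 = q.1 := congrArg Subtype.val hq
    exact swapP_ne _ this
  simp only [Fintype.card_eq_zero] at h
  have h2 : Set.ncard (MulAction.orbit H p) = Fintype.card (MulAction.orbit H p) := by
    rw [← Nat.card_coe_set_eq, Nat.card_eq_fintype_card]
  rw [h2]
  exact Nat.even_iff.2 h

lemma two_trans (hF : Fintype.card F = 2) (hH : Nat.card H = 2520) (p q : P F) :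
    ∃ h ∈ H, h • p = q := by
  have _ : Fact (Nat.Prime 2) := ⟨Nat.prime_two⟩
  have hfin : Finite H := Nat.finite_of_card_ne_zero (by rw [hH]; norm_num)
  obtain ⟨t, ht⟩ := exists_prime_orderOf_dvd_card' 2 (by rw [hH]; norm_num : 2 ∣ Nat.card H)
  have ht1 : t ≠ 1 := by
    rintro rfl
    simp at ht
  have ht2 : t * t = 1 := by
    rw [← pow_two, ← ht]; exact pow_orderOf_eq_one t
  have hM : ((t : Matrix.GeneralLinearGroup (Fin 4) F) : Matrix (Fin 4) (Fin 4) F) ≠ 1 :=
    fun h => ht1 (Subtype.ext (Units.ext h))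
  obtain ⟨a, ha⟩ : ∃ a : Fin 4 → F,
      ((t : Matrix.GeneralLinearGroup (Fin 4) F) : Matrix (Fin 4) (Fin 4) F).mulVec a ≠ a := by
    by_contra hcon
    push Not at hcon
    apply hM
    apply Matrix.mulVec_injective
    funext a
    rw [hcon a, Matrix.one_mulVec]
  have ha0 : a ≠ 0 := by
    rintro rfl
    exact ha (Matrix.mulVec_zero _)
  let p₀ : P F :=
    ⟨(a, ((t : Matrix.GeneralLinearGroup (Fin 4) F) : Matrix (Fin 4) (Fin 4) F).mulVec a), ha0,
      fun h => ha0 (mulVec_inj (t : Matrix.GeneralLinearGroup (Fin 4) F) (v := a) (w := 0)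
        (h.trans (Matrix.mulVec_zero _).symm)),
      fun h => ha h.symm⟩
  have htp : t • p₀ = swapP p₀ := by
    apply Subtype.ext
    show (((t : Matrix.GeneralLinearGroup (Fin 4) F) : Matrix (Fin 4) (Fin 4) F).mulVec a,
      ((t : Matrix.GeneralLinearGroup (Fin 4) F) : Matrix (Fin 4) (Fin 4) F).mulVec
        (((t : Matrix.GeneralLinearGroup (Fin 4) F) : Matrix (Fin 4) (Fin 4) F).mulVec a)) =
      (((t : Matrix.GeneralLinearGroup (Fin 4) F) : Matrix (Fin 4) (Fin 4) F).mulVec a, a)
    congr 1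
    rw [Matrix.mulVec_mulVec, ← Units.val_mul, ← Subgroup.coe_mul, ht2]
    simp
  have he := even_orbit H p₀ t htp
  have hc := orbit_card H hF hH p₀
  have h210 : Set.ncard (MulAction.orbit H p₀) = 210 := by
    rcases hc with h | h
    · rw [h] at he
      exact absurd he (by decide)
    · exact h
  have huniv : MulAction.orbit H p₀ = Set.univ := by
    rw [Set.eq_univ_iff_ncard, h210, card_P hF]
  obtain ⟨h1, rfl⟩ : p ∈ MulAction.orbit H p₀ := huniv ▸ Set.mem_univ p
  obtain ⟨h2, rfl⟩ : q ∈ MulAction.orbit H p₀ := huniv ▸ Set.mem_univ q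
  refine ⟨((h2 * h1⁻¹ : H) : Matrix.GeneralLinearGroup (Fin 4) F), (h2 * h1⁻¹).2, ?_⟩
  show (h2 * h1⁻¹ : H) • (h1 • p₀) = h2 • p₀
  rw [smul_smul, inv_mul_cancel_right]

end

/-- Let F be the field with 2 elements. GL_4(F) (≅ A_8) has a subgroup isomorphic to the alternating group A_7, and every such subgroup acts 2-transitively on the 15 non-zero vectors of F⁴: any ordered pair of distinct non-zero vectors is carried to any other by some element of the subgroup. -/
theorem result {F : Type*} [Field F] [Fintype F] (hF : Fintype.card F = 2) : (∃ H : Subgroup (Matrix.GeneralLinearGroup (Fin 4) F), Nonempty (H ≃* alternatingGroup (Fin 7))) ∧ ∀ H : Subgroup (Matrix.GeneralLinearGroup (Fin 4) F), Nonempty (H ≃* alternatingGroup (Fin 7)) → ∀ v w v' w' : Fin 4 → F, v ≠ 0 → w ≠ 0 → v ≠ w → v' ≠ 0 → w' ≠ 0 → v' ≠ w' → ∃ g ∈ H, (g : Matrix (Fin 4) (Fin 4) F).mulVec v = v' ∧ (g : Matrix (Fin 4) (Fin 4) F).mulVec w = w' := by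
  refine ⟨exists_A7 hF, ?_⟩
  rintro H ⟨e⟩ v w v' w' hv hw hvw hv' hw' hvw'
  have hH : Nat.card H = 2520 := by
    rw [Nat.card_congr e.toEquiv]
    have h := nat_card_alternatingGroup (α := Fin 7)
    rw [Nat.card_eq_fintype_card (α := Fin 7), Fintype.card_fin] at h
    have h7 : (7 : ℕ).factorial = 5040 := by decide
    rw [h7] at h
    exact h
  obtain ⟨g, hg, hgp⟩ := two_trans H hF hH ⟨(v, w), hv, hw, hvw⟩ ⟨(v', w'), hv', hw', hvw'⟩
  have h1 : ((g : Matrix (Fin 4) (Fin 4) F).mulVec v, (g : Matrix (Fin 4) (Fin 4) F).mulVec w) =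
      (v', w') := congrArg Subtype.val hgp
  exact ⟨g, hg, congrArg Prod.fst h1, congrArg Prod.snd h1⟩

end Cfsg.Agent.S2551
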