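import Cfsg.Statements.S2552
import Mathlib

set_option autoImplicit false
open Cfsg

namespace Cfsg.Agent.S2552

/-- Let F be a finite field and n ≥ 1. For every k, the special linear group SL_n(F) acts transitively on the set of k-dimensional subspaces of F^n: any two subspaces of the same dimension are carried onto each other by some matrix of determinant 1. -/
theorem result {F : Type*} [Field F] [Fintype F] (n : ℕ) (hn : 1 ≤ n) (U₁ U₂ : Submodule F (Fin n → F)) (h : Module.finrank F U₁ = Module.finrank F U₂) : ∃ g : Matrix.SpecialLinearGroup (Fin n) F, U₁.map ((Matrix.SpecialLinearGroup.toLin' g : (Fin n → F) ≃ₗ[F] (Fin n → F)) : (Fin n → F) →ₗ[F] (Fin n → F)) = U₂ := by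
  classical
  by_cases htop : U₂ = ⊤
  · have h1 : U₁ = ⊤ := by
      apply Submodule.eq_top_of_finrank_eq
      rw [h, htop, finrank_top]
    refine ⟨1, ?_⟩
    rw [h1, htop]
    ext y
    simp
  · -- an equivalence carrying U₁ to U₂
    obtain ⟨e, he⟩ := Submodule.exists_linearEquiv_restrict_eq (LinearEquiv.ofFinrankEq U₁ U₂ h)
    have hmap : ∀ y, y ∈ U₂ ↔ ∃ x ∈ U₁, e x = y := by
      intro y
      constructor
      · intro hy
        obtain ⟨x, hx⟩ := (LinearEquiv.ofFinrankEq U₁ U₂ h).surjective ⟨y, hy⟩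
        refine ⟨x, x.2, ?_⟩
        rw [← he x, hx]
      · rintro ⟨x, hx, rfl⟩
        have := he ⟨x, hx⟩
        simp only at this
        rw [← this]
        exact Subtype.mem _
    -- a functional vanishing on U₂
    obtain ⟨w, -, hw⟩ := SetLike.exists_of_lt (lt_top_iff_ne_top.mpr htop)
    obtain ⟨φ, hφw, hφU⟩ := Submodule.exists_le_ker_of_notMem hw
    set d : F := LinearMap.det (e : (Fin n → F) →ₗ[F] (Fin n → F)) with hd
    have hd0 : d ≠ 0 := by
      have := LinearEquiv.isUnit_det' e
      exact this.ne_zero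
    -- the dilation with determinant d⁻¹
    set T : (Fin n → F) →ₗ[F] (Fin n → F) := LinearMap.transvection φ (((d⁻¹ - 1) / φ w) • w) with hT
    have hTdet : LinearMap.det T = d⁻¹ := by
      rw [hT, LinearMap.transvection.det, map_smul, smul_eq_mul, div_mul_cancel₀ _ hφw]
      ring
    have hTU : ∀ u ∈ U₂, T u = u := by
      intro u hu
      have : φ u = 0 := hφU hu
      rw [hT, LinearMap.transvection.apply, this, zero_smul, add_zero]
    set L : (Fin n → F) →ₗ[F] (Fin n → F) := T.comp (e : (Fin n → F) →ₗ[F] (Fin n → F)) with hL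
    have hLdet : LinearMap.det L = 1 := by
      rw [hL, LinearMap.det_comp, hTdet, ← hd, inv_mul_cancel₀ hd0]
    have hdetM : (LinearMap.toMatrix' L).det = 1 := by
      rw [LinearMap.det_toMatrix', hLdet]
    set g : Matrix.SpecialLinearGroup (Fin n) F := ⟨LinearMap.toMatrix' L, hdetM⟩ with hg
    refine ⟨g, ?_⟩
    · ext y
      rw [hmap y]
      simp only [Submodule.mem_map]
      have hcoe : ∀ x, ((Matrix.SpecialLinearGroup.toLin' g : (Fin n → F) ≃ₗ[F] (Fin n → F)) : (Fin n → F) →ₗ[F] (Fin n → F)) x = L x := by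
        intro x
        show (Matrix.SpecialLinearGroup.toLin' g) x = L x
        rw [Matrix.SpecialLinearGroup.toLin'_apply]
        show Matrix.toLin' (LinearMap.toMatrix' L) x = L x
        rw [Matrix.toLin'_toMatrix']
      constructor
      · rintro ⟨x, hx, rfl⟩
        refine ⟨x, hx, ?_⟩
        rw [hcoe, hL, LinearMap.comp_apply]
        have : e x ∈ U₂ := (hmap _).mpr ⟨x, hx, rfl⟩
        rw [← hTU _ this]
        rfl
      · rintro ⟨x, hx, rfl⟩
        refine ⟨x, hx, ?_⟩
        rw [hcoe, hL, LinearMap.comp_apply]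
        have : e x ∈ U₂ := (hmap _).mpr ⟨x, hx, rfl⟩
        exact hTU _ this

end Cfsg.Agent.S2552
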