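import Cfsg.Statements.S2553
import Mathlib
import Cfsg.Agent.Lib.Helper65.A8Sub.Comp
import Cfsg.Agent.Lib.Helper65.A8Sub.Ident
import Cfsg.Agent.Lib.Helper5.PSL4A8

set_option autoImplicit false
open Cfsg

namespace Cfsg.Agent.S2553

open Cfsg.Agent.Helper65.A8Sub in
/-- Let H be a nontrivial subgroup of GL(4,2) (a group isomorphic to the alternating group of degree 8) whose largest normal 2-subgroup and largest normal subgroup of odd order are both trivial. Then H is isomorphic to an alternating group of degree n for some 5 ≤ n ≤ 8, to the symmetric group of degree 5 or 6, or to GL(3,2). -/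
theorem result (H : Subgroup (GL (Fin 4) (ZMod 2))) (hH : H ≠ ⊥) (hO : Cfsg.pPrimeCore 2 ↥H = ⊥) (hO2 : Cfsg.pCore 2 ↥H = ⊥) :
    (∃ n : ℕ, 5 ≤ n ∧ n ≤ 8 ∧ Nonempty (↥H ≃* alternatingGroup (Fin n))) ∨
    Nonempty (↥H ≃* Equiv.Perm (Fin 5)) ∨ Nonempty (↥H ≃* Equiv.Perm (Fin 6)) ∨ Nonempty (↥H ≃* GL (Fin 3) (ZMod 2)) := by
  classical
  haveI : Nontrivial ↥H := (Subgroup.nontrivial_iff_ne_bot H).2 hH
  obtain ⟨e⟩ := Cfsg.Agent.Helper5.sl4_equiv_alternating
  let eG : GL (Fin 4) (ZMod 2) ≃* alternatingGroup (Fin 8) := (slEquivGL (Fin 4)).symm.trans e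
  let ι : ↥H →* Γ := ((alternatingGroup (Fin 8)).subtype.comp eG.toMonoidHom).comp H.subtype
  have hι : Function.Injective ι := by
    intro a b hab
    apply Subtype.ext
    apply eG.injective
    apply Subtype.ext
    exact hab
  have hιA : ∀ x, ι x ∈ A8 := fun x => (eG x.1).2
  obtain ⟨L, hLn, hLs, hLp, hLne, hLc⟩ := exists_simple_normal ι hι hO hO2
  haveI := hLs
  haveI := hLp
  have hKA : ι.range ≤ A8 := by
    rintro _ ⟨x, rfl⟩
    exact hιA x
  haveI hperf : Group.IsPerfect (L.map ι) := Group.IsPerfect.map ι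
  have hLgne : L.map ι ≠ ⊥ := by
    intro hbot
    exact hLne ((Subgroup.map_eq_bot_iff_of_injective L hι).1 hbot)
  have hle : L.map ι ≤ ι.range := Subgroup.map_le_range ι L
  have hnorm : ∀ k ∈ ι.range, ∀ l ∈ L.map ι, k * l * k⁻¹ ∈ L.map ι := by
    rintro _ ⟨x, rfl⟩ _ ⟨l, hl, rfl⟩
    exact ⟨x * l * x⁻¹, hLn.conj_mem l hl x, by simp⟩
  have hcent : ∀ k ∈ ι.range, (∀ l ∈ L.map ι, k * l = l * k) → k = 1 := by
    rintro _ ⟨x, rfl⟩ hx
    have hxc : x ∈ Subgroup.centralizer (L : Set ↥H) := by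
      rw [Subgroup.mem_centralizer_iff]
      intro l hl
      apply hι
      rw [map_mul, map_mul]
      exact (hx (ι l) ⟨l, hl, rfl⟩).symm
    rw [hLc, Subgroup.mem_bot] at hxc
    rw [hxc, map_one]
  obtain ⟨D, hS⟩ := exists_setup ι.range (L.map ι) hLgne hle hnorm hcent
  let eL : L ≃* L.map ι := L.equivMapOfInjective ι hι
  haveI : IsSimpleGroup (L.map ι) := eL.symm.isSimpleGroup
  have hnc : ¬ IsMulCommutative (L.map ι) := by
    intro hc
    haveI : Group.IsSolvable (L.map ι) := Group.isSolvable_of_comm (fun a b => hc.is_comm.comm a b)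
    apply hLgne
    rw [eq_bot_iff]
    intro σ hσ
    have h1 := eq_one_of_perfect_of_solvable (P := L.map ι) ⟨σ, hσ⟩
    rw [Subgroup.mem_bot]
    exact congrArg Subtype.val h1
  have h1344 : Nat.card (L.map ι) ≠ 1344 := by
    intro h
    let eL' : L ≃* L.map H.subtype := L.equivMapOfInjective H.subtype (Subgroup.subtype_injective H)
    haveI : IsSimpleGroup (L.map H.subtype) := eL'.symm.isSimpleGroup
    have hc' : Nat.card (L.map H.subtype) = 1344 := by
      rw [← h]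
      exact Nat.card_congr (eL'.symm.trans eL).toEquiv
    exact no_simple_1344 (L.map H.subtype) hc'
  have hres := hS.classify hKA hnc h1344
  let eK : ↥H ≃* ι.range := MonoidHom.ofInjective hι
  rcases hres with ⟨n, h5, h8, ⟨f⟩⟩ | ⟨⟨f⟩⟩ | ⟨⟨f⟩⟩ | ⟨⟨f⟩⟩
  · exact Or.inl ⟨n, h5, h8, ⟨eK.trans f⟩⟩
  · exact Or.inr (Or.inl ⟨eK.trans f⟩)
  · exact Or.inr (Or.inr (Or.inl ⟨eK.trans f⟩))
  · exact Or.inr (Or.inr (Or.inr ⟨eK.trans f⟩))

end Cfsg.Agent.S2553
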