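import Cfsg.Statements.S2562
import Mathlib

set_option autoImplicit false
open Cfsg

namespace Cfsg.Agent.S2562

open Module

variable {F : Type*} [Field F] {τ : Type*}

/-- hyperbolic part plus an arbitrary tail -/
def Qgen (N : (τ → F) → F) (k : ℕ) (v : (Fin k ⊕ Fin k) ⊕ τ → F) : F :=
  (∑ i : Fin k, v (.inl (.inl i)) * v (.inl (.inr i))) + N (fun t => v (.inr t))

/-- forget the first hyperbolic pair -/
def pmap (F : Type*) [Field F] (τ : Type*) (k : ℕ) :
    ((Fin (k + 1) ⊕ Fin (k + 1)) ⊕ τ → F) →ₗ[F] ((Fin k ⊕ Fin k) ⊕ τ → F) :=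
  LinearMap.funLeft F F (Sum.map (Sum.map Fin.succ Fin.succ) id)

theorem Qgen_succ (N : (τ → F) → F) (k : ℕ) (v : (Fin (k + 1) ⊕ Fin (k + 1)) ⊕ τ → F) :
    Qgen N (k + 1) v = v (.inl (.inl 0)) * v (.inl (.inr 0)) + Qgen N k (pmap F τ k v) := by
  unfold Qgen
  rw [Fin.sum_univ_succ, add_assoc]
  rfl

theorem eq_zero_of_coords (k : ℕ) (v : (Fin (k + 1) ⊕ Fin (k + 1)) ⊕ τ → F)
    (h1 : v (.inl (.inl 0)) = 0) (h2 : v (.inl (.inr 0)) = 0) (h3 : pmap F τ k v = 0) : v = 0 := by
  funext j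
  rcases j with (i | i) | t
  · refine Fin.cases ?_ (fun j => ?_) i
    · exact h1
    · exact congrFun h3 (.inl (.inl j))
  · refine Fin.cases ?_ (fun j => ?_) i
    · exact h2
    · exact congrFun h3 (.inl (.inr j))
  · exact congrFun h3 (.inr t)

theorem eq_smul_of_coords [DecidableEq τ] (k : ℕ) (v : (Fin (k + 1) ⊕ Fin (k + 1)) ⊕ τ → F)
    (h2 : v (.inl (.inr 0)) = 0) (h3 : pmap F τ k v = 0) :
    v = v (.inl (.inl 0)) • Pi.single (.inl (.inl 0)) (1 : F) := by
  have : v - v (.inl (.inl 0)) • Pi.single (.inl (.inl 0)) (1 : F) = 0 := by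
    apply eq_zero_of_coords
    · simp
    · simp [h2]
    · rw [map_sub, h3, map_smul]
      have : pmap F τ k (Pi.single (.inl (.inl 0)) (1 : F)) = 0 := by
        funext j
        rcases j with (i | i) | t <;> simp [pmap, LinearMap.funLeft, Pi.single_apply, Fin.succ_ne_zero]
      rw [this]
      simp
  exact sub_eq_zero.mp this

theorem gen_bound [Finite τ] (N : (τ → F) → F) (c : ℕ)
    (hN : ∀ U : Submodule F (τ → F), (∀ u ∈ U, N u = 0) → finrank F U ≤ c) :
    ∀ k : ℕ, ∀ U : Submodule F ((Fin k ⊕ Fin k) ⊕ τ → F), (∀ u ∈ U, Qgen N k u = 0) →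
      finrank F U ≤ k + c := by
  classical
  intro k
  induction k with
  | zero =>
    intro U hU
    -- restrict to the tail
    let ψ : U →ₗ[F] (τ → F) := (LinearMap.funLeft F F (Sum.inr : τ → (Fin 0 ⊕ Fin 0) ⊕ τ)).comp U.subtype
    have hinj : Function.Injective ψ := by
      rw [← LinearMap.ker_eq_bot, LinearMap.ker_eq_bot']
      intro x hx
      apply Subtype.ext
      funext j
      rcases j with (i | i) | t
      · exact i.elim0
      · exact i.elim0
      · exact congrFun hx t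
    have hts : ∀ u ∈ LinearMap.range ψ, N u = 0 := by
      rintro _ ⟨x, rfl⟩
      have h0 : N (fun t => (x : (Fin 0 ⊕ Fin 0) ⊕ τ → F) (.inr t)) = 0 := by
        simpa [Qgen] using hU x x.2
      exact h0
    have := hN _ hts
    rw [LinearMap.finrank_range_of_inj hinj] at this
    omega
  | succ k ih =>
    intro U hU
    set e : (Fin (k + 1) ⊕ Fin (k + 1)) ⊕ τ → F := Pi.single (.inl (.inl 0)) (1 : F) with he
    let q : ((Fin (k + 1) ⊕ Fin (k + 1)) ⊕ τ → F) →ₗ[F] F := LinearMap.proj (.inl (.inl 0))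
    let r : ((Fin (k + 1) ⊕ Fin (k + 1)) ⊕ τ → F) →ₗ[F] F := LinearMap.proj (.inl (.inr 0))
    -- choose the functional
    obtain ⟨ℓ, hℓ1, hℓ2⟩ : ∃ ℓ : ((Fin (k + 1) ⊕ Fin (k + 1)) ⊕ τ → F) →ₗ[F] F,
        (∀ x ∈ U, ℓ x = 0 → q x * r x = 0) ∧
        (∀ x ∈ U, ℓ x = 0 → pmap F τ k x = 0 → x = 0) := by
      by_cases heU : e ∈ U
      · have hr : ∀ u ∈ U, r u = 0 := by
          intro u hu
          have h1 := hU u hu
          have h2 := hU (u + e) (U.add_mem hu heU)
          rw [Qgen_succ] at h1 h2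
          have h3 : pmap F τ k (u + e) = pmap F τ k u := by
            rw [map_add]
            have : pmap F τ k e = 0 := by
              funext j
              rcases j with (i | i) | t <;> simp [he, pmap, LinearMap.funLeft, Pi.single_apply, Fin.succ_ne_zero]
            rw [this, add_zero]
          rw [h3] at h2
          have h4 : (u + e) (.inl (.inl 0)) = u (.inl (.inl 0)) + 1 := by simp [he]
          have h5 : (u + e) (.inl (.inr 0)) = u (.inl (.inr 0)) := by simp [he]
          rw [h4, h5] at h2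
          show u (.inl (.inr 0)) = 0
          linear_combination h2 - h1
        refine ⟨q, ?_, ?_⟩
        · intro x hx _
          rw [hr x hx, mul_zero]
        · intro x hx hq hp
          exact eq_zero_of_coords k x hq (hr x hx) hp
      · refine ⟨r, ?_, ?_⟩
        · intro x _ hrx
          rw [hrx, mul_zero]
        · intro x hx hrx hp
          have hxe := eq_smul_of_coords k x hrx hp
          by_contra hx0
          have hq0 : x (.inl (.inl 0)) ≠ 0 := by
            intro h0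
            rw [h0, zero_smul] at hxe
            exact hx0 hxe
          apply heU
          have : e = (x (.inl (.inl 0)))⁻¹ • x := by
            rw [he, eq_inv_smul_iff₀ hq0]
            exact hxe.symm
          rw [this]
          exact U.smul_mem _ hx
    let ℓ' : U →ₗ[F] F := ℓ.domRestrict U
    let ψ : LinearMap.ker ℓ' →ₗ[F] ((Fin k ⊕ Fin k) ⊕ τ → F) :=
      (pmap F τ k).comp (U.subtype.comp (LinearMap.ker ℓ').subtype)
    have hinj : Function.Injective ψ := by
      rw [injective_iff_map_eq_zero]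
      intro x hx
      have hxk : ℓ (x : U) = 0 := x.2
      have := hℓ2 (x : U) (x : U).2 hxk hx
      apply Subtype.ext
      apply Subtype.ext
      exact this
    have hts : ∀ u ∈ LinearMap.range ψ, Qgen N k u = 0 := by
      rintro _ ⟨x, rfl⟩
      have hxk : ℓ (x : U) = 0 := x.2
      have h1 := hU (x : U) (x : U).2
      rw [Qgen_succ] at h1
      have h2 := hℓ1 (x : U) (x : U).2 hxk
      have h3 : ((x : U) : (Fin (k + 1) ⊕ Fin (k + 1)) ⊕ τ → F) (.inl (.inl 0)) * ((x : U) : (Fin (k + 1) ⊕ Fin (k + 1)) ⊕ τ → F) (.inl (.inr 0)) = 0 := h2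
      rw [h3, zero_add] at h1
      exact h1
    have h1 := ih _ hts
    rw [LinearMap.finrank_range_of_inj hinj] at h1
    have h2 := LinearMap.finrank_range_add_finrank_ker ℓ'
    have h3 : finrank F (LinearMap.range ℓ') ≤ 1 := by
      have := Submodule.finrank_le (LinearMap.range ℓ')
      simpa using this
    omega


/-- embedding of the x-coordinates (plus type) -/
def iotaP (F : Type*) [Field F] (m : ℕ) : (Fin m → F) →ₗ[F] (Fin m ⊕ Fin m → F) :=
  LinearMap.pi (fun j => Sum.elim (fun i => LinearMap.proj i) (fun _ => 0) j)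

/-- embedding of the x-coordinates (minus type) -/
def iotaM (F : Type*) [Field F] (m : ℕ) : (Fin m → F) →ₗ[F] ((Fin m ⊕ Fin m) ⊕ Fin 2 → F) :=
  LinearMap.pi (fun j => Sum.elim (Sum.elim (fun i => LinearMap.proj i) (fun _ => 0)) (fun _ => 0) j)

theorem iotaP_inj (m : ℕ) : Function.Injective (iotaP F m) := by
  intro a b h
  funext i
  exact congrFun h (.inl i)

theorem iotaM_inj (m : ℕ) : Function.Injective (iotaM F m) := by
  intro a b h
  funext i
  exact congrFun h (.inl (.inl i))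

theorem plus_bound (m : ℕ) (U : Submodule F (Fin m ⊕ Fin m → F))
    (hU : ∀ u ∈ U, Cfsg.quadFormPlus m F u = 0) : finrank F U ≤ m := by
  let E : (Fin m ⊕ Fin m → F) ≃ₗ[F] ((Fin m ⊕ Fin m) ⊕ Fin 0 → F) :=
    LinearEquiv.funCongrLeft F F (Equiv.sumEmpty (Fin m ⊕ Fin m) (Fin 0))
  have h := gen_bound (F := F) (τ := Fin 0) (fun _ => 0) 0 (fun U _ => by
    have := Submodule.finrank_le U
    simpa using this) m (U.map (E : (Fin m ⊕ Fin m → F) →ₗ[F] ((Fin m ⊕ Fin m) ⊕ Fin 0 → F))) (by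
      rintro _ ⟨u, hu, rfl⟩
      have := hU u hu
      unfold Cfsg.quadFormPlus at this
      unfold Qgen
      rw [add_zero]
      exact this)
  rw [LinearEquiv.finrank_map_eq] at h
  simpa using h

theorem aniso : ∀ a b : ZMod 2, a ^ 2 + 1 * a * b + 1 * b ^ 2 = 0 → a = 0 ∧ b = 0 := by decide

theorem minus_bound (k : ℕ) (U : Submodule (ZMod 2) ((Fin k ⊕ Fin k) ⊕ Fin 2 → ZMod 2))
    (hU : ∀ u ∈ U, Cfsg.quadFormMinus k (ZMod 2) 1 1 u = 0) : finrank (ZMod 2) U ≤ k := by
  have h := gen_bound (F := ZMod 2) (τ := Fin 2)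
    (fun z => z 0 ^ 2 + 1 * z 0 * z 1 + 1 * z 1 ^ 2) 0 (fun U hU => by
      have : U = ⊥ := by
        rw [eq_bot_iff]
        intro u hu
        have h1 := aniso (u 0) (u 1) (hU u hu)
        rw [Submodule.mem_bot]
        funext i
        fin_cases i
        · exact h1.1
        · exact h1.2
      rw [this]
      simp) k U (by
        intro u hu
        exact hU u hu)
  simpa using h

/-- Witt indices over the field of two elements, m ≥ 1: for the plus-type form Σ xᵢyᵢ in dimension 2m some m-dimensional subspace is totally singular and no totally singular subspace has larger dimension; for the minus-type form Σ xᵢyᵢ + (z₁² + z₁z₂ + z₂²) in dimension 2m the maximal dimension of a totally singular subspace is m − 1. -/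
theorem result (m : ℕ) (hm : 1 ≤ m) :
    (∃ U : Submodule (ZMod 2) (Fin m ⊕ Fin m → ZMod 2), (∀ u ∈ U, Cfsg.quadFormPlus m (ZMod 2) u = 0) ∧ Module.finrank (ZMod 2) ↥U = m) ∧
    (∀ U : Submodule (ZMod 2) (Fin m ⊕ Fin m → ZMod 2), (∀ u ∈ U, Cfsg.quadFormPlus m (ZMod 2) u = 0) → Module.finrank (ZMod 2) ↥U ≤ m) ∧
    (∃ U : Submodule (ZMod 2) ((Fin (m - 1) ⊕ Fin (m - 1)) ⊕ Fin 2 → ZMod 2), (∀ u ∈ U, Cfsg.quadFormMinus (m - 1) (ZMod 2) 1 1 u = 0) ∧ Module.finrank (ZMod 2) ↥U = m - 1) ∧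
    (∀ U : Submodule (ZMod 2) ((Fin (m - 1) ⊕ Fin (m - 1)) ⊕ Fin 2 → ZMod 2), (∀ u ∈ U, Cfsg.quadFormMinus (m - 1) (ZMod 2) 1 1 u = 0) → Module.finrank (ZMod 2) ↥U ≤ m - 1) := by
  refine ⟨⟨LinearMap.range (iotaP (ZMod 2) m), ?_, ?_⟩, plus_bound m, ⟨LinearMap.range (iotaM (ZMod 2) (m - 1)), ?_, ?_⟩, minus_bound (m - 1)⟩
  · rintro _ ⟨a, rfl⟩
    unfold Cfsg.quadFormPlus
    apply Finset.sum_eq_zero
    intro i _
    simp [iotaP]
  · rw [LinearMap.finrank_range_of_inj (iotaP_inj m)]
    simp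
  · rintro _ ⟨a, rfl⟩
    unfold Cfsg.quadFormMinus
    have : ∑ i : Fin (m - 1), (iotaM (ZMod 2) (m - 1) a) (.inl (.inl i)) * (iotaM (ZMod 2) (m - 1) a) (.inl (.inr i)) = 0 := by
      apply Finset.sum_eq_zero
      intro i _
      simp [iotaM]
    rw [this]
    simp [iotaM]
  · rw [LinearMap.finrank_range_of_inj (iotaM_inj (m - 1))]
    simp

end Cfsg.Agent.S2562
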