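import Cfsg.Statements.S2561
import Mathlib
import Cfsg.Agent.S2562

set_option autoImplicit false
set_option linter.unusedSimpArgs false
open Cfsg

namespace Cfsg.Agent.S2561

abbrev F := ZMod 2

/-- the space of dimension `2k` -/
abbrev V (k : ℕ) := Fin k ⊕ Fin k → F

/-- the space carrying the minus-type form -/
abbrev V' (k : ℕ) := (Fin k ⊕ Fin k) ⊕ Fin 2 → F

/-- the plus-type form -/
abbrev Q0 (k : ℕ) : V k → F := Cfsg.quadFormPlus k F

/-- the minus-type form -/
abbrev Q1 (k : ℕ) : V' k → F := Cfsg.quadFormMinus k F 1 1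

theorem sq_eq (c : F) : c * c = c := by revert c; decide

theorem two_eq_zero' (c : F) : c + c = 0 := by revert c; decide

/-- the polar form -/
def Bf (k : ℕ) (a : V k) : V k →ₗ[F] F where
  toFun v := ∑ i : Fin k, (a (.inl i) * v (.inr i) + a (.inr i) * v (.inl i))
  map_add' u v := by
    rw [← Finset.sum_add_distrib]
    apply Finset.sum_congr rfl
    intro i _
    simp only [Pi.add_apply]
    ring
  map_smul' c v := by
    rw [smul_eq_mul, Finset.mul_sum]
    apply Finset.sum_congr rfl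
    intro i _
    simp only [Pi.smul_apply, smul_eq_mul, RingHom.id_apply]
    ring

theorem Bf_apply (k : ℕ) (a v : V k) :
    Bf k a v = ∑ i : Fin k, (a (.inl i) * v (.inr i) + a (.inr i) * v (.inl i)) := rfl

theorem Bf_comm (k : ℕ) (a v : V k) : Bf k a v = Bf k v a := by
  rw [Bf_apply, Bf_apply]
  apply Finset.sum_congr rfl
  intro i _
  ring

theorem Bf_self (k : ℕ) (a : V k) : Bf k a a = 0 := by
  rw [Bf_apply]
  apply Finset.sum_eq_zero
  intro i _
  rw [mul_comm (a (.inr i))]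
  exact two_eq_zero' _

theorem Bf_add_left (k : ℕ) (a b v : V k) : Bf k (a + b) v = Bf k a v + Bf k b v := by
  rw [Bf_comm, map_add, Bf_comm k v a, Bf_comm k v b]

theorem Bf_smul_left (k : ℕ) (c : F) (a v : V k) : Bf k (c • a) v = c * Bf k a v := by
  rw [Bf_comm, map_smul, smul_eq_mul, Bf_comm]

theorem Q0_add (k : ℕ) (u v : V k) : Q0 k (u + v) = Q0 k u + Q0 k v + Bf k u v := by
  simp only [Q0, Cfsg.quadFormPlus, Bf_apply]
  rw [← Finset.sum_add_distrib, ← Finset.sum_add_distrib]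
  apply Finset.sum_congr rfl
  intro i _
  simp only [Pi.add_apply]
  ring

theorem polar_eq (k : ℕ) (u v : V k) : Q0 k (u + v) - Q0 k u - Q0 k v = Bf k u v := by
  rw [Q0_add]; ring

theorem Q0_smul (k : ℕ) (c : F) (a : V k) : Q0 k (c • a) = c * c * Q0 k a := by
  simp only [Q0, Cfsg.quadFormPlus]
  rw [Finset.mul_sum]
  apply Finset.sum_congr rfl
  intro i _
  simp only [Pi.smul_apply, smul_eq_mul]
  ring

/-- the quadratic forms with the given polarization -/
def qa (k : ℕ) (a : V k) : V k → F := fun v => Q0 k v + Bf k a v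

/-- the polarization condition -/
def Pol (k : ℕ) (q : V k → F) : Prop :=
  ∀ u v : V k, q (u + v) = q u + q v + (Cfsg.quadFormPlus k F (u + v) - Cfsg.quadFormPlus k F u - Cfsg.quadFormPlus k F v)

theorem Pol_iff (k : ℕ) (q : V k → F) : Pol k q ↔ ∀ u v, q (u + v) = q u + q v + Bf k u v := by
  unfold Pol
  constructor
  · intro h u v
    rw [h u v]
    congr 1
    exact polar_eq k u v
  · intro h u v
    rw [h u v]
    congr 1
    exact (polar_eq k u v).symm

theorem Pol_qa (k : ℕ) (a : V k) : Pol k (qa k a) := by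
  rw [Pol_iff]
  intro u v
  simp only [qa]
  rw [Q0_add, map_add]
  ring

theorem Q0_single (k : ℕ) (j : Fin k ⊕ Fin k) : Q0 k (Pi.single j 1) = 0 := by
  simp only [Q0, Cfsg.quadFormPlus]
  apply Finset.sum_eq_zero
  intro i _
  rcases j with j | j <;> simp [Pi.single_apply]

theorem Bf_single (k : ℕ) (a : V k) (j : Fin k ⊕ Fin k) : Bf k a (Pi.single j 1) = a (Sum.swap j) := by
  rw [Bf_apply]
  rcases j with j | j
  · rw [Finset.sum_eq_single j]
    · simp [Pi.single_apply]
    · intro i _ hij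
      simp [Pi.single_apply, hij.symm, hij]
    · simp
  · rw [Finset.sum_eq_single j]
    · simp [Pi.single_apply]
    · intro i _ hij
      simp [Pi.single_apply, hij.symm, hij]
    · simp

/-- every form with the given polarization is some `qa` -/
theorem eq_qa_of_Pol (k : ℕ) (q : V k → F) (hq : Pol k q) :
    q = qa k (fun j => q (Pi.single (Sum.swap j) 1)) := by
  rw [Pol_iff] at hq
  -- the difference is additive
  let lam : V k →+ F := AddMonoidHom.mk' (fun v => q v - Q0 k v) (by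
    intro u v
    rw [hq u v, Q0_add]
    ring)
  let L : V k →ₗ[F] F := AddMonoidHom.toZModLinearMap 2 lam
  funext v
  have h1 : q v = Q0 k v + L v := by
    show q v = Q0 k v + (q v - Q0 k v)
    ring
  rw [h1]
  simp only [qa]
  congr 1
  rw [LinearMap.pi_apply_eq_sum_univ L v, Bf_apply, Fintype.sum_sum_type]
  have hL : ∀ j : Fin k ⊕ Fin k, L (fun j' => if j = j' then 1 else 0) = q (Pi.single j 1) := by
    intro j
    have : (fun j' => if j = j' then (1 : F) else 0) = Pi.single j 1 := by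
      funext j'
      simp [Pi.single_apply, eq_comm]
    rw [this]
    show q (Pi.single j 1) - Q0 k (Pi.single j 1) = _
    rw [Q0_single, sub_zero]
  simp only [hL, smul_eq_mul, Sum.swap_inl, Sum.swap_inr]
  rw [← Finset.sum_add_distrib]
  apply Finset.sum_congr rfl
  intro i _
  ring

theorem qa_injective (k : ℕ) : Function.Injective (qa k) := by
  intro a b hab
  funext j
  have := congrFun hab (Pi.single (Sum.swap j) 1)
  simp only [qa, Q0_single, zero_add, Bf_single, Sum.swap_swap] at this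
  exact this

/-- the parametrisation of forms with the given polarization -/
noncomputable def qaEquiv (k : ℕ) : V k ≃ {q : V k → F // Pol k q} :=
  Equiv.ofBijective (fun a => ⟨qa k a, Pol_qa k a⟩) (by
    constructor
    · intro a b hab
      exact qa_injective k (congrArg Subtype.val hab)
    · rintro ⟨q, hq⟩
      exact ⟨_, Subtype.ext (eq_qa_of_Pol k q hq).symm⟩)


/-! ### singular `a`: plus type -/

/-- the transvection `v ↦ v + B(a,v) a` -/
def Tlin (k : ℕ) (a : V k) : V k →ₗ[F] V k := LinearMap.id + (Bf k a).smulRight a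

theorem Tlin_apply (k : ℕ) (a v : V k) : Tlin k a v = v + Bf k a v • a := rfl

theorem Tlin_invol (k : ℕ) (a : V k) : Function.Involutive (Tlin k a) := by
  intro v
  rw [Tlin_apply, Tlin_apply, map_add, map_smul, Bf_self, smul_zero, add_zero, add_assoc,
    ← add_smul, two_eq_zero', zero_smul, add_zero]

/-- the transvection as an equivalence -/
def Teq (k : ℕ) (a : V k) : V k ≃ₗ[F] V k := LinearEquiv.ofInvolutive (Tlin k a) (Tlin_invol k a)

theorem Teq_apply (k : ℕ) (a v : V k) : Teq k a v = v + Bf k a v • a := rfl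

theorem qa_eq_of_singular (k : ℕ) (a : V k) (ha : Q0 k a = 0) (v : V k) :
    qa k a v = Q0 k (Teq k a v) := by
  rw [Teq_apply, Q0_add, Q0_smul, ha, mul_zero, add_zero, map_smul, smul_eq_mul, Bf_comm k v a,
    sq_eq]
  rfl

/-! ### peeling off a hyperbolic pair -/

/-- `V (k+1) ≃ (F × F) × V k` -/
def peelV (k : ℕ) : V (k + 1) ≃ₗ[F] (F × F) × V k where
  toFun v := ((v (.inl 0), v (.inr 0)), fun j => v (Sum.map Fin.succ Fin.succ j))
  invFun p := Sum.elim (Fin.cons p.1.1 (fun i => p.2 (.inl i))) (Fin.cons p.1.2 (fun i => p.2 (.inr i)))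
  map_add' u v := rfl
  map_smul' c v := rfl
  left_inv v := by
    funext j
    rcases j with i | i
    · refine Fin.cases ?_ (fun i' => ?_) i <;> simp
    · refine Fin.cases ?_ (fun i' => ?_) i <;> simp
  right_inv p := by
    obtain ⟨⟨x, y⟩, w⟩ := p
    refine Prod.ext (Prod.ext ?_ ?_) ?_
    · simp
    · simp
    · funext j
      rcases j with i | i <;> simp

theorem Q0_peel (k : ℕ) (v : V (k + 1)) :
    Q0 (k + 1) v = (peelV k v).1.1 * (peelV k v).1.2 + Q0 k (peelV k v).2 := by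
  simp only [Q0, Cfsg.quadFormPlus]
  rw [Fin.sum_univ_succ]
  rfl

theorem Bf_peel (k : ℕ) (a v : V (k + 1)) :
    Bf (k + 1) a v = ((peelV k a).1.1 * (peelV k v).1.2 + (peelV k a).1.2 * (peelV k v).1.1)
      + Bf k (peelV k a).2 (peelV k v).2 := by
  rw [Bf_apply, Bf_apply, Fin.sum_univ_succ]
  rfl

/-- `V' (k+1) ≃ (F × F) × V' k` -/
def peelV' (k : ℕ) : V' (k + 1) ≃ₗ[F] (F × F) × V' k where
  toFun v := ((v (.inl (.inl 0)), v (.inl (.inr 0))), fun j => v (Sum.map (Sum.map Fin.succ Fin.succ) id j))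
  invFun p := Sum.elim (Sum.elim (Fin.cons p.1.1 (fun i => p.2 (.inl (.inl i))))
    (Fin.cons p.1.2 (fun i => p.2 (.inl (.inr i))))) (fun t => p.2 (.inr t))
  map_add' u v := rfl
  map_smul' c v := rfl
  left_inv v := by
    funext j
    rcases j with (i | i) | t
    · refine Fin.cases ?_ (fun i' => ?_) i <;> simp
    · refine Fin.cases ?_ (fun i' => ?_) i <;> simp
    · simp
  right_inv p := by
    obtain ⟨⟨x, y⟩, w⟩ := p
    refine Prod.ext (Prod.ext ?_ ?_) ?_
    · simp
    · simp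
    · funext j
      rcases j with (i | i) | t <;> simp

theorem Q1_peel (k : ℕ) (w : V' (k + 1)) :
    Q1 (k + 1) w = (peelV' k w).1.1 * (peelV' k w).1.2 + Q1 k (peelV' k w).2 := by
  simp only [Q1, Cfsg.quadFormMinus]
  rw [Fin.sum_univ_succ, add_assoc]
  rfl

/-- `V' k ≃ V k × (Fin 2 → F)` -/
def splitV' (k : ℕ) : V' k ≃ₗ[F] V k × (Fin 2 → F) :=
  LinearEquiv.sumArrowLequivProdArrow (Fin k ⊕ Fin k) (Fin 2) F F

theorem Q1_split (k : ℕ) (w : V' k) :
    Q1 k w = Q0 k (splitV' k w).1 + ((splitV' k w).2 0 ^ 2 + 1 * (splitV' k w).2 0 * (splitV' k w).2 1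
      + 1 * (splitV' k w).2 1 ^ 2) := rfl

/-! ### nonsingular `a`: minus type -/

theorem binary_A : ∀ x y : F, x * y + (1 * y + 1 * x) = x ^ 2 + 1 * x * y + 1 * y ^ 2 := by decide

theorem binary_B : ∀ x y α β : F, α * β = 0 →
    (x + (α * y + β * x) * α) * (y + (α * y + β * x) * β) = x * y + (α * y + β * x) := by decide

/-- transvection of the plane -/
def tplane (α β : F) : (F × F) →ₗ[F] (F × F) where
  toFun p := (p.1 + (α * p.2 + β * p.1) * α, p.2 + (α * p.2 + β * p.1) * β)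
  map_add' p q := by
    ext <;> simp <;> ring
  map_smul' c p := by
    ext <;> simp <;> ring

theorem tplane_invol (α β : F) : Function.Involutive (tplane α β) := by
  rintro ⟨x, y⟩
  revert x y α β
  decide

/-- transvection of the plane as an equivalence -/
def tplaneEq (α β : F) : (F × F) ≃ₗ[F] (F × F) :=
  LinearEquiv.ofInvolutive (tplane α β) (tplane_invol α β)

theorem prod_cases : ∀ α β : F, α * β = 0 ∨ (α = 1 ∧ β = 1) := by decide

theorem minus_of_nonsingular : ∀ (k : ℕ) (a : V (k + 1)), Q0 (k + 1) a = 1 →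
    ∃ g : V (k + 1) ≃ₗ[F] V' k, ∀ v, qa (k + 1) a v = Q1 k (g v) := by
  intro k
  induction k with
  | zero =>
    intro a ha
    rcases prod_cases (peelV 0 a).1.1 (peelV 0 a).1.2 with h0 | ⟨h1, h2⟩
    · exfalso
      rw [Q0_peel, h0] at ha
      simp [Q0, Cfsg.quadFormPlus] at ha
    · -- case A
      have ha' : Q0 0 (peelV 0 a).2 = 0 := by simp [Q0, Cfsg.quadFormPlus]
      refine ⟨(peelV 0).trans ((LinearEquiv.prodComm F (F × F) (V 0)).trans
        (((Teq 0 (peelV 0 a).2).prodCongr (LinearEquiv.finTwoArrow F F).symm).trans (splitV' 0).symm)), ?_⟩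
      intro v
      simp only [qa]
      rw [Q0_peel, Bf_peel, h1, h2, Q1_split]
      simp only [LinearEquiv.trans_apply, LinearEquiv.apply_symm_apply]
      have := qa_eq_of_singular 0 (peelV 0 a).2 ha' (peelV 0 v).2
      simp only [qa] at this
      have hb := binary_A (peelV 0 v).1.1 (peelV 0 v).1.2
      simp only [LinearEquiv.prodComm_apply, LinearEquiv.prodCongr_apply, Prod.swap_prod_mk,
        Prod.fst_swap, Prod.snd_swap, Prod.map_fst, Prod.map_snd]
      rw [← this]
      simp only [LinearEquiv.finTwoArrow_symm_apply, Matrix.cons_val_zero, Matrix.cons_val_one]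
      linear_combination hb
  | succ k ih =>
    intro a ha
    rcases prod_cases (peelV (k + 1) a).1.1 (peelV (k + 1) a).1.2 with h0 | ⟨h1, h2⟩
    · -- case B
      have ha' : Q0 (k + 1) (peelV (k + 1) a).2 = 1 := by
        rw [Q0_peel, h0, zero_add] at ha
        exact ha
      obtain ⟨g', hg'⟩ := ih _ ha'
      refine ⟨(peelV (k + 1)).trans (((tplaneEq (peelV (k + 1) a).1.1 (peelV (k + 1) a).1.2).prodCongr g').trans
        (peelV' k).symm), ?_⟩
      intro v
      simp only [qa]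
      rw [Q0_peel, Bf_peel, Q1_peel]
      simp only [LinearEquiv.trans_apply, LinearEquiv.apply_symm_apply, LinearEquiv.prodCongr_apply,
        Prod.map_fst, Prod.map_snd]
      rw [← hg']
      simp only [qa]
      have hb := binary_B (peelV (k + 1) v).1.1 (peelV (k + 1) v).1.2 (peelV (k + 1) a).1.1
        (peelV (k + 1) a).1.2 h0
      show _ = (tplane _ _ _).1 * (tplane _ _ _).2 + _
      simp only [tplane, LinearMap.coe_mk, AddHom.coe_mk]
      linear_combination -hb
    · -- case A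
      have ha' : Q0 (k + 1) (peelV (k + 1) a).2 = 0 := by
        rw [Q0_peel, h1, h2] at ha
        have : ∀ z : F, 1 * 1 + z = 1 → z = 0 := by decide
        exact this _ ha
      refine ⟨(peelV (k + 1)).trans ((LinearEquiv.prodComm F (F × F) (V (k + 1))).trans
        (((Teq (k + 1) (peelV (k + 1) a).2).prodCongr (LinearEquiv.finTwoArrow F F).symm).trans
          (splitV' (k + 1)).symm)), ?_⟩
      intro v
      simp only [qa]
      rw [Q0_peel, Bf_peel, h1, h2, Q1_split]
      simp only [LinearEquiv.trans_apply, LinearEquiv.apply_symm_apply]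
      have := qa_eq_of_singular (k + 1) (peelV (k + 1) a).2 ha' (peelV (k + 1) v).2
      simp only [qa] at this
      have hb := binary_A (peelV (k + 1) v).1.1 (peelV (k + 1) v).1.2
      simp only [LinearEquiv.prodComm_apply, LinearEquiv.prodCongr_apply, Prod.swap_prod_mk,
        Prod.fst_swap, Prod.snd_swap, Prod.map_fst, Prod.map_snd]
      rw [← this]
      simp only [LinearEquiv.finTwoArrow_symm_apply, Matrix.cons_val_zero, Matrix.cons_val_one]
      linear_combination hb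


/-! ### counting singular vectors -/

theorem card_V (k : ℕ) : Fintype.card (V k) = 4 ^ k := by
  simp only [V, Fintype.card_fun, Fintype.card_sum, Fintype.card_fin, ZMod.card]
  rw [← two_mul, pow_mul]
  norm_num

/-- the number of singular vectors -/
def Z (k : ℕ) : ℕ := Fintype.card {v : V k // Q0 k v = 0}

theorem Z_le (k : ℕ) : Z k ≤ 4 ^ k := by
  rw [← card_V k]
  exact Fintype.card_subtype_le _

theorem card_nonsingular (k : ℕ) : Fintype.card {v : V k // Q0 k v = 1} = 4 ^ k - Z k := by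
  have h1 : Fintype.card {v : V k // Q0 k v = 1} = Fintype.card {v : V k // ¬ Q0 k v = 0} := by
    apply Fintype.card_congr
    apply Equiv.subtypeEquivRight
    intro v
    generalize Q0 k v = c
    revert c
    decide
  rw [h1, Fintype.card_subtype_compl, card_V]
  rfl

theorem Z_succ (k : ℕ) : Z (k + 1) = 2 * Z k + 4 ^ k := by
  have e1 : {v : V (k + 1) // Q0 (k + 1) v = 0} ≃
      {p : (F × F) × V k // p.1.1 * p.1.2 + Q0 k p.2 = 0} :=
    (peelV k).toEquiv.subtypeEquiv (fun v => by rw [Q0_peel]; rfl)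
  have e2 : {p : (F × F) × V k // p.1.1 * p.1.2 + Q0 k p.2 = 0} ≃
      Σ xy : F × F, {v : V k // xy.1 * xy.2 + Q0 k v = 0} :=
    Equiv.subtypeProdEquivSigmaSubtype (fun (xy : F × F) (v : V k) => xy.1 * xy.2 + Q0 k v = 0)
  show Fintype.card {v : V (k + 1) // Q0 (k + 1) v = 0} = 2 * Z k + 4 ^ k
  rw [Fintype.card_congr (e1.trans e2), Fintype.card_sigma, Fintype.sum_prod_type]
  have h0 : ∀ x y : F, x * y = 0 → Fintype.card {v : V k // x * y + Q0 k v = 0} = Z k := by
    intro x y hxy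
    unfold Z
    apply Fintype.card_congr
    apply Equiv.subtypeEquivRight
    intro v
    rw [hxy, zero_add]
  have h1 : Fintype.card {v : V k // (1 : F) * 1 + Q0 k v = 0} = 4 ^ k - Z k := by
    rw [← card_nonsingular]
    apply Fintype.card_congr
    apply Equiv.subtypeEquivRight
    intro v
    generalize Q0 k v = c
    revert c
    decide
  have hZ := Z_le k
  have huniv : (Finset.univ : Finset F) = {0, 1} := by decide
  rw [huniv]
  simp only [Finset.sum_insert, Finset.mem_singleton, zero_ne_one, not_false_eq_true,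
    Finset.sum_singleton]
  rw [h0 0 0 (by simp), h0 0 1 (by simp), h0 1 0 (by simp), h1]
  omega

theorem Z_zero : Z 0 = 1 := by
  unfold Z
  have : ∀ v : V 0, Q0 0 v = 0 := by
    intro v
    simp [Q0, Cfsg.quadFormPlus]
  rw [Fintype.card_subtype, Finset.filter_true_of_mem (fun v _ => this v), Finset.card_univ, card_V]
  rfl

theorem two_mul_Z (k : ℕ) : 2 * Z k = 4 ^ k + 2 ^ k := by
  induction k with
  | zero => rw [Z_zero]; rfl
  | succ k ih =>
    rw [Z_succ, pow_succ, pow_succ]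
    omega

theorem Z_eq (m : ℕ) (hm : 1 ≤ m) : Z m = 2 ^ (2 * m - 1) + 2 ^ (m - 1) := by
  have h := two_mul_Z m
  obtain ⟨j, rfl⟩ : ∃ j, m = j + 1 := ⟨m - 1, by omega⟩
  have h1 : 4 ^ (j + 1) = 2 * 2 ^ (2 * (j + 1) - 1) := by
    rw [show 2 * (j + 1) - 1 = 2 * j + 1 by omega, show (4 : ℕ) = 2 ^ 2 by norm_num, ← pow_mul,
      show 2 * (j + 1) = (2 * j + 1) + 1 by ring, pow_succ]
    ring
  have h2 : 2 ^ (j + 1) = 2 * 2 ^ (j + 1 - 1) := by
    rw [show j + 1 - 1 = j by omega, pow_succ]; ring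
  omega


/-! ### the two types exclude each other -/

theorem excl (j : ℕ) (q : V (j + 1) → F)
    (h1 : ∃ g : V (j + 1) ≃ₗ[F] V (j + 1), ∀ v, q v = Q0 (j + 1) (g v))
    (h2 : ∃ g : V (j + 1) ≃ₗ[F] V' j, ∀ v, q v = Q1 j (g v)) : False := by
  obtain ⟨g₁, hg₁⟩ := h1
  obtain ⟨g₂, hg₂⟩ := h2
  let U : Submodule F (V (j + 1)) := LinearMap.range (Cfsg.Agent.S2562.iotaP F (j + 1))
  have hU : ∀ u ∈ U, Q0 (j + 1) u = 0 := by
    rintro _ ⟨a, rfl⟩
    simp only [Q0, Cfsg.quadFormPlus]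
    apply Finset.sum_eq_zero
    intro i _
    simp [Cfsg.Agent.S2562.iotaP]
  have hUrank : Module.finrank F U = j + 1 := by
    rw [LinearMap.finrank_range_of_inj (Cfsg.Agent.S2562.iotaP_inj (j + 1))]
    simp
  let e : V (j + 1) ≃ₗ[F] V' j := g₁.symm.trans g₂
  have h3 : ∀ w ∈ U.map (e : V (j + 1) →ₗ[F] V' j), Q1 j w = 0 := by
    rintro _ ⟨u, hu, rfl⟩
    show Q1 j (g₂ (g₁.symm u)) = 0
    rw [← hg₂, hg₁, LinearEquiv.apply_symm_apply]
    exact hU u hu
  have h4 := Cfsg.Agent.S2562.minus_bound j _ h3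
  rw [LinearEquiv.finrank_map_eq, hUrank] at h4
  omega

theorem F_cases (c : F) : c = 0 ∨ c = 1 := by revert c; decide

theorem main (j : ℕ) :
    Nat.card {q : V (j + 1) → F // Pol (j + 1) q} = 2 ^ (2 * (j + 1)) ∧
    (∀ q : V (j + 1) → F, Pol (j + 1) q →
      (∃ g : V (j + 1) ≃ₗ[F] V (j + 1), ∀ v, q v = Q0 (j + 1) (g v)) ∨
      (∃ g : V (j + 1) ≃ₗ[F] V' j, ∀ v, q v = Q1 j (g v))) ∧
    Nat.card {q : V (j + 1) → F // Pol (j + 1) q ∧
      ∃ g : V (j + 1) ≃ₗ[F] V (j + 1), ∀ v, q v = Q0 (j + 1) (g v)} = 2 ^ (2 * (j + 1) - 1) + 2 ^ (j + 1 - 1) ∧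
    Nat.card {q : V (j + 1) → F // Pol (j + 1) q ∧
      ∃ g : V (j + 1) ≃ₗ[F] V' j, ∀ v, q v = Q1 j (g v)} = 2 ^ (2 * (j + 1) - 1) - 2 ^ (j + 1 - 1) := by
  have hplus : ∀ a : V (j + 1), Q0 (j + 1) a = 0 →
      ∃ g : V (j + 1) ≃ₗ[F] V (j + 1), ∀ v, qa (j + 1) a v = Q0 (j + 1) (g v) :=
    fun a ha => ⟨Teq (j + 1) a, qa_eq_of_singular (j + 1) a ha⟩
  have hminus := minus_of_nonsingular j
  refine ⟨?_, ?_, ?_, ?_⟩
  · rw [Nat.card_congr (qaEquiv (j + 1)).symm, Nat.card_eq_fintype_card, card_V,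
      show (4 : ℕ) = 2 ^ 2 by norm_num, ← pow_mul]
  · intro q hq
    rw [eq_qa_of_Pol (j + 1) q hq]
    rcases F_cases (Q0 (j + 1) (fun j' => q (Pi.single (Sum.swap j') 1))) with h | h
    · exact Or.inl (hplus _ h)
    · exact Or.inr (hminus _ h)
  · rw [← Z_eq (j + 1) (by omega)]
    unfold Z
    rw [← Nat.card_eq_fintype_card]
    symm
    apply Nat.card_congr
    refine Equiv.ofBijective (fun a => ⟨qa (j + 1) a.1, Pol_qa _ _, hplus a.1 a.2⟩) ⟨?_, ?_⟩
    · intro a b hab
      exact Subtype.ext (qa_injective _ (congrArg Subtype.val hab))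
    · rintro ⟨q, hq, hg⟩
      have hqa := eq_qa_of_Pol (j + 1) q hq
      refine ⟨⟨_, ?_⟩, Subtype.ext hqa.symm⟩
      rcases F_cases (Q0 (j + 1) (fun j' => q (Pi.single (Sum.swap j') 1))) with h | h
      · exact h
      · exfalso
        have := hminus _ h
        rw [← hqa] at this
        exact excl j q hg this
  · have hZ := Z_eq (j + 1) (by omega)
    have h4 : 4 ^ (j + 1) = 2 * 2 ^ (2 * (j + 1) - 1) := by
      rw [show 2 * (j + 1) - 1 = 2 * j + 1 by omega, show (4 : ℕ) = 2 ^ 2 by norm_num, ← pow_mul,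
        show 2 * (j + 1) = (2 * j + 1) + 1 by ring, pow_succ]
      ring
    have hcard : Nat.card {q : V (j + 1) → F // Pol (j + 1) q ∧
        ∃ g : V (j + 1) ≃ₗ[F] V' j, ∀ v, q v = Q1 j (g v)} = 4 ^ (j + 1) - Z (j + 1) := by
      rw [← card_nonsingular, ← Nat.card_eq_fintype_card]
      symm
      apply Nat.card_congr
      refine Equiv.ofBijective (fun a => ⟨qa (j + 1) a.1, Pol_qa _ _, hminus a.1 a.2⟩) ⟨?_, ?_⟩
      · intro a b hab
        exact Subtype.ext (qa_injective _ (congrArg Subtype.val hab))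
      · rintro ⟨q, hq, hg⟩
        have hqa := eq_qa_of_Pol (j + 1) q hq
        refine ⟨⟨_, ?_⟩, Subtype.ext hqa.symm⟩
        rcases F_cases (Q0 (j + 1) (fun j' => q (Pi.single (Sum.swap j') 1))) with h | h
        · exfalso
          have := hplus _ h
          rw [← hqa] at this
          exact excl j q this hg
        · exact h
    rw [hcard, hZ, h4]
    omega

/-- Fix the non-singular alternating form on the 2m-dimensional space over the field of two elements obtained by polarizing the plus-type form Σ xᵢyᵢ (m ≥ 1). The functions q on the space with q(u + v) = q(u) + q(v) + f(u, v) (the quadratic forms polarizing to f) number 2^(2m); each is equivalent under an invertible linear map either to the plus-type form or to the minus-type form Σ xᵢyᵢ + (z₁² + z₁z₂ + z₂²); and those of plus type number 2^(2m−1) + 2^(m−1), those of minus type 2^(2m−1) − 2^(m−1). -/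
theorem result (m : ℕ) (hm : 1 ≤ m) :
    Nat.card {q : (Fin m ⊕ Fin m → ZMod 2) → ZMod 2 // (∀ u v : (Fin m ⊕ Fin m → ZMod 2), q (u + v) = q u + q v + (Cfsg.quadFormPlus m (ZMod 2) (u + v) - Cfsg.quadFormPlus m (ZMod 2) u - Cfsg.quadFormPlus m (ZMod 2) v))} = 2 ^ (2 * m) ∧
    (∀ q : (Fin m ⊕ Fin m → ZMod 2) → ZMod 2, (∀ u v : (Fin m ⊕ Fin m → ZMod 2), q (u + v) = q u + q v + (Cfsg.quadFormPlus m (ZMod 2) (u + v) - Cfsg.quadFormPlus m (ZMod 2) u - Cfsg.quadFormPlus m (ZMod 2) v)) →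
      (∃ g : (Fin m ⊕ Fin m → ZMod 2) ≃ₗ[ZMod 2] (Fin m ⊕ Fin m → ZMod 2), ∀ v, q v = Cfsg.quadFormPlus m (ZMod 2) (g v)) ∨
      (∃ g : (Fin m ⊕ Fin m → ZMod 2) ≃ₗ[ZMod 2] ((Fin (m - 1) ⊕ Fin (m - 1)) ⊕ Fin 2 → ZMod 2), ∀ v, q v = Cfsg.quadFormMinus (m - 1) (ZMod 2) 1 1 (g v))) ∧
    Nat.card {q : (Fin m ⊕ Fin m → ZMod 2) → ZMod 2 // (∀ u v : (Fin m ⊕ Fin m → ZMod 2), q (u + v) = q u + q v + (Cfsg.quadFormPlus m (ZMod 2) (u + v) - Cfsg.quadFormPlus m (ZMod 2) u - Cfsg.quadFormPlus m (ZMod 2) v)) ∧ ∃ g : (Fin m ⊕ Fin m → ZMod 2) ≃ₗ[ZMod 2] (Fin m ⊕ Fin m → ZMod 2), ∀ v, q v = Cfsg.quadFormPlus m (ZMod 2) (g v)} = 2 ^ (2 * m - 1) + 2 ^ (m - 1) ∧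
    Nat.card {q : (Fin m ⊕ Fin m → ZMod 2) → ZMod 2 // (∀ u v : (Fin m ⊕ Fin m → ZMod 2), q (u + v) = q u + q v + (Cfsg.quadFormPlus m (ZMod 2) (u + v) - Cfsg.quadFormPlus m (ZMod 2) u - Cfsg.quadFormPlus m (ZMod 2) v)) ∧ ∃ g : (Fin m ⊕ Fin m → ZMod 2) ≃ₗ[ZMod 2] ((Fin (m - 1) ⊕ Fin (m - 1)) ⊕ Fin 2 → ZMod 2), ∀ v, q v = Cfsg.quadFormMinus (m - 1) (ZMod 2) 1 1 (g v)} = 2 ^ (2 * m - 1) - 2 ^ (m - 1) := by
  obtain ⟨j, rfl⟩ : ∃ j, m = j + 1 := ⟨m - 1, by omega⟩
  exact main j

end Cfsg.Agent.S2561
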