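import Cfsg.Statements.S2564
-- import your own Cfsg.Agent.* helpers here

set_option autoImplicit false
open Cfsg

namespace Cfsg.Agent.S2564

def chi (a : ZMod 2) : ℤ := if a = 0 then 1 else -1

theorem chi_add (a b : ZMod 2) : chi (a + b) = chi a * chi b := by
  revert a b; decide

theorem chi_add_one (a : ZMod 2) : chi (a + 1) = - chi a := by
  revert a; decide

theorem chi_zero : chi 0 = 1 := by decide

theorem zmod2_add_self (a : ZMod 2) : a + a = 0 := by
  revert a; decide

theorem sq_sum {V : Type*} [AddCommGroup V] [Fintype V] [DecidableEq V] (f : V → V → ZMod 2)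
    (q : V → ZMod 2)
    (hf_add_left : ∀ u u' v, f (u + u') v = f u v + f u' v)
    (hf_add_right : ∀ u v v', f u (v + v') = f u v + f u v')
    (hf_self : ∀ u, f u u = 0)
    (hnd : ∀ s, s ≠ 0 → ∃ u, f u s = 1)
    (hq : ∀ u v, q (u + v) = q u + q v + f u v) :
    (∑ v, chi (q v)) ^ 2 = Fintype.card V := by
  have hq0 : q 0 = 0 := by
    have := hq 0 0
    rw [hf_self, add_zero, add_zero] at this
    have h2 := zmod2_add_self (q 0)
    rw [← this] at h2
    exact h2
  have hf0 : ∀ u, f u 0 = 0 := by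
    intro u
    have := hf_add_right u 0 0
    rw [add_zero] at this
    have h2 := zmod2_add_self (f u 0)
    rw [← this] at h2
    exact h2
  have inner : ∀ s : V, ∑ u, chi (f u s) = if s = 0 then (Fintype.card V : ℤ) else 0 := by
    intro s
    split_ifs with hs
    · subst hs
      simp [hf0, chi_zero]
    · obtain ⟨u0, hu0⟩ := hnd s hs
      have h1 : ∑ u, chi (f u s) = ∑ u, chi (f (u + u0) s) :=
        (Equiv.sum_comp (Equiv.addRight u0) (fun u => chi (f u s))).symm
      have h2 : ∑ u, chi (f (u + u0) s) = - ∑ u, chi (f u s) := by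
        rw [← Finset.sum_neg_distrib]
        apply Finset.sum_congr rfl
        intro u _
        rw [hf_add_left, hu0, chi_add_one]
      omega
  calc (∑ v, chi (q v)) ^ 2 = (∑ u, chi (q u)) * (∑ v, chi (q v)) := sq _
    _ = ∑ u, ∑ v, chi (q u) * chi (q v) := Finset.sum_mul_sum _ _ _ _
    _ = ∑ u, ∑ s, chi (q s) * chi (f u s) := by
        apply Finset.sum_congr rfl
        intro u _
        rw [← Equiv.sum_comp (Equiv.addLeft u) (fun v => chi (q u) * chi (q v))]
        apply Finset.sum_congr rfl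
        intro s _
        simp only [Equiv.coe_addLeft]
        rw [← chi_add, ← chi_add, hq u s]
        congr 1
        have := zmod2_add_self (q u)
        linear_combination this
    _ = ∑ s, ∑ u, chi (q s) * chi (f u s) := Finset.sum_comm
    _ = ∑ s, chi (q s) * (if s = 0 then (Fintype.card V : ℤ) else 0) := by
        apply Finset.sum_congr rfl
        intro s _
        rw [← Finset.mul_sum, inner]
    _ = Fintype.card V := by
        simp [hq0, chi_zero]

/-- the explicit polar form of the plus-type form -/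
def pol (m : ℕ) (u v : Fin m ⊕ Fin m → ZMod 2) : ZMod 2 :=
  ∑ i : Fin m, (u (.inl i) * v (.inr i) + v (.inl i) * u (.inr i))

theorem pol_eq (m : ℕ) (u v : Fin m ⊕ Fin m → ZMod 2) :
    Cfsg.quadFormPlus m (ZMod 2) (u + v) - Cfsg.quadFormPlus m (ZMod 2) u
      - Cfsg.quadFormPlus m (ZMod 2) v = pol m u v := by
  unfold Cfsg.quadFormPlus pol
  rw [← Finset.sum_sub_distrib, ← Finset.sum_sub_distrib]
  apply Finset.sum_congr rfl
  intro i _
  simp only [Pi.add_apply]
  ring

theorem pol_add_left (m : ℕ) (u u' v : Fin m ⊕ Fin m → ZMod 2) :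
    pol m (u + u') v = pol m u v + pol m u' v := by
  unfold pol
  rw [← Finset.sum_add_distrib]
  apply Finset.sum_congr rfl
  intro i _
  simp only [Pi.add_apply]
  ring

theorem pol_add_right (m : ℕ) (u v v' : Fin m ⊕ Fin m → ZMod 2) :
    pol m u (v + v') = pol m u v + pol m u v' := by
  unfold pol
  rw [← Finset.sum_add_distrib]
  apply Finset.sum_congr rfl
  intro i _
  simp only [Pi.add_apply]
  ring

theorem pol_self (m : ℕ) (u : Fin m ⊕ Fin m → ZMod 2) : pol m u u = 0 := by
  unfold pol
  apply Finset.sum_eq_zero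
  intro i _
  exact zmod2_add_self _

theorem pol_smul_right (m : ℕ) (c : ZMod 2) (u v : Fin m ⊕ Fin m → ZMod 2) :
    pol m u (c • v) = c * pol m u v := by
  unfold pol
  rw [Finset.mul_sum]
  apply Finset.sum_congr rfl
  intro i _
  simp only [Pi.smul_apply, smul_eq_mul]
  ring

theorem pol_smul_left (m : ℕ) (c : ZMod 2) (u v : Fin m ⊕ Fin m → ZMod 2) :
    pol m (c • u) v = c * pol m u v := by
  unfold pol
  rw [Finset.mul_sum]
  apply Finset.sum_congr rfl
  intro i _
  simp only [Pi.smul_apply, smul_eq_mul]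
  ring

theorem pol_nondeg (m : ℕ) (s : Fin m ⊕ Fin m → ZMod 2) (hs : s ≠ 0) : ∃ u, pol m u s = 1 := by
  have : ∃ k, s k ≠ 0 := by
    by_contra h
    push Not at h
    exact hs (funext h)
  obtain ⟨k, hk⟩ := this
  have hk1 : s k = 1 := by
    revert hk
    generalize s k = a
    revert a; decide
  rcases k with i | i
  · refine ⟨Pi.single (Sum.inr i) 1, ?_⟩
    unfold pol
    rw [Finset.sum_eq_single i]
    · simp [hk1]
    · intro j _ hji
      simp [hji]
    · simp
  · refine ⟨Pi.single (Sum.inl i) 1, ?_⟩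
    unfold pol
    rw [Finset.sum_eq_single i]
    · simp [hk1]
    · intro j _ hji
      simp [hji]
    · simp

theorem result (m : ℕ) (hm : 1 ≤ m) (q : (Fin m ⊕ Fin m → ZMod 2) → ZMod 2) (hq : (∀ u v : (Fin m ⊕ Fin m → ZMod 2), q (u + v) = q u + q v + (Cfsg.quadFormPlus m (ZMod 2) (u + v) - Cfsg.quadFormPlus m (ZMod 2) u - Cfsg.quadFormPlus m (ZMod 2) v))) (w : (Fin m ⊕ Fin m → ZMod 2)) :
    (∀ u v : (Fin m ⊕ Fin m → ZMod 2), (q (u + v) + (Cfsg.quadFormPlus m (ZMod 2) (u + v + w) - Cfsg.quadFormPlus m (ZMod 2) (u + v) - Cfsg.quadFormPlus m (ZMod 2) w)) =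
        (q u + (Cfsg.quadFormPlus m (ZMod 2) (u + w) - Cfsg.quadFormPlus m (ZMod 2) u - Cfsg.quadFormPlus m (ZMod 2) w)) + (q v + (Cfsg.quadFormPlus m (ZMod 2) (v + w) - Cfsg.quadFormPlus m (ZMod 2) v - Cfsg.quadFormPlus m (ZMod 2) w)) +
        (Cfsg.quadFormPlus m (ZMod 2) (u + v) - Cfsg.quadFormPlus m (ZMod 2) u - Cfsg.quadFormPlus m (ZMod 2) v)) ∧
    ((∃ g : (Fin m ⊕ Fin m → ZMod 2) ≃ₗ[ZMod 2] (Fin m ⊕ Fin m → ZMod 2), ∀ v, q v + (Cfsg.quadFormPlus m (ZMod 2) (v + w) - Cfsg.quadFormPlus m (ZMod 2) v - Cfsg.quadFormPlus m (ZMod 2) w) = q (g v)) ↔ q w = 0) := by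
  simp only [pol_eq] at hq ⊢
  have hq0 : q 0 = 0 := by
    have := hq 0 0
    rw [pol_self, add_zero, add_zero] at this
    have h2 := zmod2_add_self (q 0)
    rw [← this] at h2
    exact h2
  refine ⟨?_, ?_, ?_⟩
  · intro u v
    rw [hq u v, pol_add_left]
    ring
  · rintro ⟨g, hg⟩
    by_contra hw
    have hw1 : q w = 1 := by
      revert hw
      generalize q w = a
      revert a; decide
    have hS := sq_sum (pol m) q (pol_add_left m) (pol_add_right m) (pol_self m) (pol_nondeg m) hq
    have h1 : ∑ v, chi (q v) = ∑ v, chi (q (g v)) :=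
      (Equiv.sum_comp g.toEquiv (fun v => chi (q v))).symm
    have h2 : ∑ v, chi (q (g v)) = - ∑ v, chi (q (v + w)) := by
      rw [← Finset.sum_neg_distrib]
      apply Finset.sum_congr rfl
      intro v _
      rw [← hg v, ← chi_add_one, hq v w, hw1]
      congr 1
      have := zmod2_add_self (1 : ZMod 2)
      linear_combination -this
    have h3 : ∑ v, chi (q (v + w)) = ∑ v, chi (q v) :=
      Equiv.sum_comp (Equiv.addRight w) (fun v => chi (q v))
    have h4 : ∑ v, chi (q v) = 0 := by omega
    rw [h4] at hS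
    have : (0 : ℤ) < Fintype.card (Fin m ⊕ Fin m → ZMod 2) := by
      exact_mod_cast Fintype.card_pos
    rw [← hS] at this
    simp at this
  · intro hw
    -- the transvection v ↦ v + pol v w • w
    let T : (Fin m ⊕ Fin m → ZMod 2) →ₗ[ZMod 2] (Fin m ⊕ Fin m → ZMod 2) :=
      { toFun := fun v => v + pol m v w • w
        map_add' := by
          intro a b
          rw [pol_add_left, add_smul]
          abel
        map_smul' := by
          intro c a
          rw [pol_smul_left, RingHom.id_apply, smul_add, mul_smul] }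
    have hT : ∀ v, T v = v + pol m v w • w := fun v => rfl
    have hTT : ∀ v, T (T v) = v := by
      intro v
      rw [hT (T v), hT v, pol_add_left, pol_smul_left, pol_self, mul_zero, add_zero, add_assoc,
        ← add_smul, zmod2_add_self, zero_smul, add_zero]
    refine ⟨LinearEquiv.ofLinear T T (LinearMap.ext hTT) (LinearMap.ext hTT), ?_⟩
    intro v
    show q v + pol m v w = q (T v)
    rw [hT]
    have hc : pol m v w = 0 ∨ pol m v w = 1 := by
      generalize pol m v w = a
      revert a; decide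
    rcases hc with hc | hc
    · rw [hc, zero_smul, add_zero, add_zero]
    · rw [hc, one_smul, hq v w, hw, hc, add_zero]

end Cfsg.Agent.S2564
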