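import Cfsg.Statements.S2566
import Cfsg.Agent.S0287
import Cfsg.Agent.Lib.Helper43.OrthFrame

set_option autoImplicit false
open Cfsg

namespace Cfsg.Agent.S2566

open Matrix Cfsg.Agent.Helper43

/-- the three nonzero vectors of F₂² -/
def vv : Fin 3 → ZMod 2 × ZMod 2 := ![(1, 0), (0, 1), (1, 1)]

/-- `S₃ ≅ GL₂(2)` as matrices -/
def rho (σ : Equiv.Perm (Fin 3)) : Matrix (Fin 2) (Fin 2) (ZMod 2) :=
  !![(vv (σ 0)).1, (vv (σ 1)).1; (vv (σ 0)).2, (vv (σ 1)).2]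

def JJ : Matrix (Fin 2) (Fin 2) (ZMod 2) := !![0, 1; 1, 0]

/-- left multiplication action on 2×2 matrices (with `Q = det`) -/
def LA (σ : Equiv.Perm (Fin 3)) : Matrix (Fin 2 ⊕ Fin 2) (Fin 2 ⊕ Fin 2) (ZMod 2) :=
  fromBlocks ((rho σ 0 0) • 1) ((rho σ 0 1) • JJ) ((rho σ 1 0) • JJ) ((rho σ 1 1) • 1)

/-- right multiplication action -/
def RB (σ : Equiv.Perm (Fin 3)) : Matrix (Fin 2 ⊕ Fin 2) (Fin 2 ⊕ Fin 2) (ZMod 2) :=
  fromBlocks (rho σ) 0 0 (JJ * rho σ * JJ)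

/-- the transpose swap -/
def TT : Matrix (Fin 2 ⊕ Fin 2) (Fin 2 ⊕ Fin 2) (ZMod 2) :=
  fromBlocks !![1, 0; 0, 0] !![0, 0; 0, 1] !![0, 0; 0, 1] !![1, 0; 0, 0]

set_option maxRecDepth 100000 in
theorem LA_mul : ∀ σ τ : Equiv.Perm (Fin 3), LA (σ * τ) = LA σ * LA τ := by decide

set_option maxRecDepth 100000 in
theorem RB_mul : ∀ σ τ : Equiv.Perm (Fin 3), RB (σ * τ) = RB σ * RB τ := by decide

set_option maxRecDepth 100000 in
theorem LA_one : LA 1 = 1 := by decide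

set_option maxRecDepth 100000 in
theorem RB_one : RB 1 = 1 := by decide

set_option maxRecDepth 100000 in
theorem LA_pres : ∀ (σ : Equiv.Perm (Fin 3)) (u : Fin 2 ⊕ Fin 2 → ZMod 2),
    Cfsg.quadFormPlus 2 (ZMod 2) (LA σ *ᵥ u) = Cfsg.quadFormPlus 2 (ZMod 2) u := by decide

set_option maxRecDepth 100000 in
theorem RB_pres : ∀ (σ : Equiv.Perm (Fin 3)) (u : Fin 2 ⊕ Fin 2 → ZMod 2),
    Cfsg.quadFormPlus 2 (ZMod 2) (RB σ *ᵥ u) = Cfsg.quadFormPlus 2 (ZMod 2) u := by decide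

set_option maxRecDepth 100000 in
theorem LA_RB_comm : ∀ σ τ : Equiv.Perm (Fin 3), LA σ * RB τ = RB τ * LA σ := by decide

set_option maxRecDepth 100000 in
theorem LA_eq_RB : ∀ σ τ : Equiv.Perm (Fin 3), LA σ = RB τ → σ = 1 := by decide

set_option maxRecDepth 100000 in
theorem LA_RB_eq_one : ∀ σ τ : Equiv.Perm (Fin 3), LA σ * RB τ = 1 → σ = 1 ∧ τ = 1 := by decide

set_option maxRecDepth 100000 in
theorem LA_inj : ∀ σ τ : Equiv.Perm (Fin 3), LA σ = LA τ → σ = τ := by decide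

set_option maxRecDepth 100000 in
theorem RB_inj : ∀ σ τ : Equiv.Perm (Fin 3), RB σ = RB τ → σ = τ := by decide

set_option maxRecDepth 100000 in
theorem TT_sq : TT * TT = 1 := by decide

set_option maxRecDepth 100000 in
theorem TT_pres : ∀ (u : Fin 2 ⊕ Fin 2 → ZMod 2),
    Cfsg.quadFormPlus 2 (ZMod 2) (TT *ᵥ u) = Cfsg.quadFormPlus 2 (ZMod 2) u := by decide

set_option maxRecDepth 100000 in
theorem TT_conj : ∀ σ : Equiv.Perm (Fin 3), TT * LA σ * TT = RB σ := by decide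

/-- units from a multiplicative family -/
def unitOf (M : Equiv.Perm (Fin 3) → Matrix (Fin 2 ⊕ Fin 2) (Fin 2 ⊕ Fin 2) (ZMod 2))
    (hmul : ∀ σ τ, M (σ * τ) = M σ * M τ) (hone : M 1 = 1) (σ : Equiv.Perm (Fin 3)) :
    GL (Fin 2 ⊕ Fin 2) (ZMod 2) :=
  ⟨M σ, M σ⁻¹, by rw [← hmul, mul_inv_cancel, hone], by rw [← hmul, inv_mul_cancel, hone]⟩

/-- the homomorphism into the isometry group from a multiplicative family of isometries -/
def homOf (M : Equiv.Perm (Fin 3) → Matrix (Fin 2 ⊕ Fin 2) (Fin 2 ⊕ Fin 2) (ZMod 2))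
    (hmul : ∀ σ τ, M (σ * τ) = M σ * M τ) (hone : M 1 = 1)
    (hpres : ∀ σ u, Cfsg.quadFormPlus 2 (ZMod 2) (M σ *ᵥ u) = Cfsg.quadFormPlus 2 (ZMod 2) u) :
    Equiv.Perm (Fin 3) →* ↥(Cfsg.isometryGroup (ZMod 2) (Cfsg.quadFormPlus 2 (ZMod 2))) where
  toFun σ := ⟨unitOf M hmul hone σ, (mem_isometryGroup_iff _ _).2 (hpres σ)⟩
  map_one' := Subtype.ext (Units.ext hone)
  map_mul' σ τ := Subtype.ext (Units.ext (hmul σ τ))

theorem homOf_coe (M : Equiv.Perm (Fin 3) → Matrix (Fin 2 ⊕ Fin 2) (Fin 2 ⊕ Fin 2) (ZMod 2))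
    (hmul : ∀ σ τ, M (σ * τ) = M σ * M τ) (hone : M 1 = 1)
    (hpres : ∀ σ u, Cfsg.quadFormPlus 2 (ZMod 2) (M σ *ᵥ u) = Cfsg.quadFormPlus 2 (ZMod 2) u)
    (σ : Equiv.Perm (Fin 3)) :
    (((homOf M hmul hone hpres σ : ↥(Cfsg.isometryGroup (ZMod 2) (Cfsg.quadFormPlus 2 (ZMod 2)))) :
      GL (Fin 2 ⊕ Fin 2) (ZMod 2)) : Matrix (Fin 2 ⊕ Fin 2) (Fin 2 ⊕ Fin 2) (ZMod 2)) = M σ := rfl

theorem homOf_injective (M : Equiv.Perm (Fin 3) → Matrix (Fin 2 ⊕ Fin 2) (Fin 2 ⊕ Fin 2) (ZMod 2))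
    (hmul : ∀ σ τ, M (σ * τ) = M σ * M τ) (hone : M 1 = 1)
    (hpres : ∀ σ u, Cfsg.quadFormPlus 2 (ZMod 2) (M σ *ᵥ u) = Cfsg.quadFormPlus 2 (ZMod 2) u)
    (hinj : ∀ σ τ, M σ = M τ → σ = τ) : Function.Injective (homOf M hmul hone hpres) := by
  intro σ τ h
  apply hinj
  rw [← homOf_coe M hmul hone hpres σ, ← homOf_coe M hmul hone hpres τ, h]

/-- the left factor -/
noncomputable def fA : Equiv.Perm (Fin 3) →* ↥(Cfsg.isometryGroup (ZMod 2) (Cfsg.quadFormPlus 2 (ZMod 2))) :=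
  homOf LA LA_mul LA_one LA_pres

/-- the right factor -/
noncomputable def fB : Equiv.Perm (Fin 3) →* ↥(Cfsg.isometryGroup (ZMod 2) (Cfsg.quadFormPlus 2 (ZMod 2))) :=
  homOf RB RB_mul RB_one RB_pres

theorem fA_injective : Function.Injective fA := homOf_injective _ _ _ _ LA_inj
theorem fB_injective : Function.Injective fB := homOf_injective _ _ _ _ RB_inj

theorem coe_ext (x y : ↥(Cfsg.isometryGroup (ZMod 2) (Cfsg.quadFormPlus 2 (ZMod 2))))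
    (h : ((x : GL (Fin 2 ⊕ Fin 2) (ZMod 2)) : Matrix (Fin 2 ⊕ Fin 2) (Fin 2 ⊕ Fin 2) (ZMod 2)) =
      ((y : GL (Fin 2 ⊕ Fin 2) (ZMod 2)) : Matrix (Fin 2 ⊕ Fin 2) (Fin 2 ⊕ Fin 2) (ZMod 2))) : x = y :=
  Subtype.ext (Units.ext h)

theorem fA_fB_comm (σ τ : Equiv.Perm (Fin 3)) : Commute (fA σ) (fB τ) := by
  apply coe_ext
  exact LA_RB_comm σ τ

/-- the swap element -/
def gT : ↥(Cfsg.isometryGroup (ZMod 2) (Cfsg.quadFormPlus 2 (ZMod 2))) :=
  ⟨⟨TT, TT, TT_sq, TT_sq⟩, (mem_isometryGroup_iff _ _).2 TT_pres⟩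

theorem card_O4 : Nat.card ↥(Cfsg.isometryGroup (ZMod 2) (Cfsg.quadFormPlus 2 (ZMod 2))) = 72 := by
  have h := Cfsg.Agent.S0287.result (F := ZMod 2) (q := 2) (ZMod.card 2) 2 (by norm_num)
  rw [h]
  decide

/-- The full orthogonal group of the plus-type form x₁y₁ + x₂y₂ in dimension 4 over the field of two elements has order 72 and is isomorphic to the wreath product of the symmetric group of degree 3 by a group of order 2: it has a normal subgroup isomorphic to the direct product of two symmetric groups of degree 3, of index 2, whose two direct factors are interchanged by conjugation by some element. -/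
theorem result :
    Nat.card ↥(Cfsg.isometryGroup (ZMod 2) (Cfsg.quadFormPlus 2 (ZMod 2))) = 72 ∧
    ∃ (A B : Subgroup ↥(Cfsg.isometryGroup (ZMod 2) (Cfsg.quadFormPlus 2 (ZMod 2)))),
      Nonempty (↥A ≃* Equiv.Perm (Fin 3)) ∧ Nonempty (↥B ≃* Equiv.Perm (Fin 3)) ∧ A ⊓ B = ⊥ ∧ (∀ a ∈ A, ∀ b ∈ B, a * b = b * a) ∧
      (A ⊔ B).index = 2 ∧ ∃ g : ↥(Cfsg.isometryGroup (ZMod 2) (Cfsg.quadFormPlus 2 (ZMod 2))), A.map (MulAut.conj g).toMonoidHom = B := by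
  refine ⟨card_O4, fA.range, fB.range, ⟨(MonoidHom.ofInjective fA_injective).symm⟩,
    ⟨(MonoidHom.ofInjective fB_injective).symm⟩, ?_, ?_, ?_, gT, ?_⟩
  · rw [eq_bot_iff]
    rintro x ⟨⟨σ, rfl⟩, ⟨τ, hτ⟩⟩
    have h : LA σ = RB τ := by
      have := congrArg (fun y : ↥(Cfsg.isometryGroup (ZMod 2) (Cfsg.quadFormPlus 2 (ZMod 2))) =>
        ((y : GL (Fin 2 ⊕ Fin 2) (ZMod 2)) : Matrix (Fin 2 ⊕ Fin 2) (Fin 2 ⊕ Fin 2) (ZMod 2))) hτ
      exact this.symm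
    rw [LA_eq_RB σ τ h, map_one]
    exact Subgroup.mem_bot.2 rfl
  · rintro a ⟨σ, rfl⟩ b ⟨τ, rfl⟩
    exact fA_fB_comm σ τ
  · -- index
    have hinj : Function.Injective (MonoidHom.noncommCoprod fA fB fA_fB_comm) := by
      rw [injective_iff_map_eq_one]
      rintro ⟨σ, τ⟩ h
      rw [MonoidHom.noncommCoprod_apply] at h
      have h' : LA σ * RB τ = 1 := by
        have := congrArg (fun y : ↥(Cfsg.isometryGroup (ZMod 2) (Cfsg.quadFormPlus 2 (ZMod 2))) =>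
          ((y : GL (Fin 2 ⊕ Fin 2) (ZMod 2)) : Matrix (Fin 2 ⊕ Fin 2) (Fin 2 ⊕ Fin 2) (ZMod 2))) h
        exact this
      obtain ⟨h1, h2⟩ := LA_RB_eq_one σ τ h'
      rw [h1, h2]
      rfl
    have hrange : (MonoidHom.noncommCoprod fA fB fA_fB_comm).range = fA.range ⊔ fB.range :=
      MonoidHom.noncommCoprod_range fA fB fA_fB_comm
    have hcard : Nat.card ↥(fA.range ⊔ fB.range) = 36 := by
      rw [← hrange, Nat.card_congr (MonoidHom.ofInjective hinj).symm.toEquiv, Nat.card_prod,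
        Nat.card_eq_fintype_card, Fintype.card_perm, Fintype.card_fin]
      rfl
    have h := Subgroup.card_mul_index (fA.range ⊔ fB.range)
    rw [hcard, card_O4] at h
    omega
  · rw [MonoidHom.range_eq_map, Subgroup.map_map, ← MonoidHom.range_eq_map]
    congr 1
    ext σ : 1
    apply coe_ext
    show TT * LA σ * TT = RB σ
    exact TT_conj σ

end Cfsg.Agent.S2566
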