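import Cfsg.Statements.S2567
-- import your own Cfsg.Agent.* helpers here

set_option autoImplicit false
open Cfsg

namespace Cfsg.Agent.S2567

theorem unique_lift {G : Type*} [Group G] (k r : ℕ) (hr : r.Prime) (hcop : Nat.Coprime r k)
    (hk : ∀ z ∈ Subgroup.center G, z ^ k = 1) (x : G ⧸ Subgroup.center G) (hx : orderOf x = r) :
    ∃! g : G, (QuotientGroup.mk g : G ⧸ Subgroup.center G) = x ∧ orderOf g = r := by
  obtain ⟨g0, rfl⟩ := QuotientGroup.mk_surjective x
  have hz0 : g0 ^ r ∈ Subgroup.center G := by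
    rw [← QuotientGroup.eq_one_iff, QuotientGroup.mk_pow, ← hx, pow_orderOf_eq_one]
  have hbez : (1 : ℤ) = r * Nat.gcdA r k + k * Nat.gcdB r k := by
    have := Nat.gcd_eq_gcd_ab r k
    rw [hcop] at this
    exact_mod_cast this
  set z0 := g0 ^ r with hz0def
  set z := (z0⁻¹) ^ (Nat.gcdA r k) with hzdef
  have hzmem : z ∈ Subgroup.center G := Subgroup.zpow_mem _ (Subgroup.inv_mem _ hz0) _
  have hzr : z ^ r = z0⁻¹ := by
    have h1 : (z0⁻¹) ^ (1 : ℤ) = z0⁻¹ := zpow_one _
    rw [hbez, zpow_add, zpow_mul, zpow_mul] at h1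
    have h2 : (z0⁻¹) ^ (k : ℤ) = 1 := by
      rw [zpow_natCast]; exact hk _ (Subgroup.inv_mem _ hz0)
    rw [h2, one_zpow, mul_one, zpow_natCast] at h1
    rw [hzdef, ← zpow_natCast, ← zpow_mul, mul_comm, zpow_mul, zpow_natCast]
    exact h1
  have hxne : (QuotientGroup.mk g0 : G ⧸ Subgroup.center G) ≠ 1 := by
    intro h
    rw [h, orderOf_one] at hx
    exact hr.one_lt.ne hx
  refine ⟨g0 * z, ⟨?_, ?_⟩, ?_⟩
  · rw [QuotientGroup.mk_mul, (QuotientGroup.eq_one_iff z).mpr hzmem, mul_one]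
  · have hcomm : Commute g0 z := ((Subgroup.mem_center_iff.mp hzmem) g0)
    have hpow : (g0 * z) ^ r = 1 := by
      rw [hcomm.mul_pow, hzr, ← hz0def, mul_inv_cancel]
    have hdvd := orderOf_dvd_of_pow_eq_one hpow
    rcases (Nat.dvd_prime hr).mp hdvd with h | h
    · exfalso
      rw [orderOf_eq_one_iff] at h
      apply hxne
      have : (QuotientGroup.mk (g0 * z) : G ⧸ Subgroup.center G) = 1 := by rw [h]; rfl
      rwa [QuotientGroup.mk_mul, (QuotientGroup.eq_one_iff z).mpr hzmem, mul_one] at this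
    · exact h
  · rintro g ⟨hg1, hg2⟩
    -- g = g0 * w with w central
    have hw : g0⁻¹ * g ∈ Subgroup.center G := by
      rw [← QuotientGroup.eq_one_iff, QuotientGroup.mk_mul, QuotientGroup.mk_inv, hg1, inv_mul_cancel]
    set w := g0⁻¹ * g with hwdef
    have hg : g = g0 * w := by rw [hwdef, mul_inv_cancel_left]
    have hcomm : Commute g0 w := ((Subgroup.mem_center_iff.mp hw) g0)
    have hgr : g ^ r = 1 := by rw [← hg2, pow_orderOf_eq_one]
    rw [hg, hcomm.mul_pow, ← hz0def] at hgr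
    -- so w^r = z0⁻¹ = z^r, hence (w z⁻¹)^r = 1
    have hwr : w ^ r = z ^ r := by
      rw [hzr]; exact eq_inv_of_mul_eq_one_right hgr
    have hv : w * z⁻¹ ∈ Subgroup.center G := Subgroup.mul_mem _ hw (Subgroup.inv_mem _ hzmem)
    have hcomm2 : Commute w z⁻¹ := ((Subgroup.mem_center_iff.mp (Subgroup.inv_mem _ hzmem)) w)
    have hvr : (w * z⁻¹) ^ r = 1 := by
      rw [hcomm2.mul_pow, hwr, inv_pow, mul_inv_cancel]
    have hvk : (w * z⁻¹) ^ k = 1 := hk _ hv
    have h1 : orderOf (w * z⁻¹) ∣ Nat.gcd r k :=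
      Nat.dvd_gcd (orderOf_dvd_of_pow_eq_one hvr) (orderOf_dvd_of_pow_eq_one hvk)
    rw [hcop, Nat.dvd_one, orderOf_eq_one_iff] at h1
    rw [hg, mul_inv_eq_one.mp h1]

theorem center_pow_card_sub_one {F : Type*} [Field F] [Fintype F] {n : ℕ}
    (z : GL (Fin n) F) (hz : z ∈ Subgroup.center (GL (Fin n) F)) :
    z ^ (Fintype.card F - 1) = 1 := by
  rw [Matrix.GeneralLinearGroup.center_eq_range_scalar] at hz
  obtain ⟨a, rfl⟩ := hz
  rw [← map_pow]
  have : a ^ (Fintype.card F - 1) = 1 := by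
    classical
    rw [← Fintype.card_units, pow_card_eq_one]
  rw [this, map_one]

/-- Lifting elements of prime order from PGL to GL: let F be a finite field with q elements, r a prime not dividing q − 1, and x an element of order r in GL_n(F) modulo its centre (the scalar matrices). Then x has exactly one preimage in GL_n(F) of order r. -/
theorem result {F : Type*} [Field F] [Fintype F] {q n r : ℕ} (hF : Fintype.card F = q) (hr : r.Prime) (hdiv : ¬ r ∣ q - 1) (x : GL (Fin n) F ⧸ Subgroup.center (GL (Fin n) F)) (hx : orderOf x = r) : ∃! g : GL (Fin n) F, (QuotientGroup.mk g : GL (Fin n) F ⧸ Subgroup.center (GL (Fin n) F)) = x ∧ orderOf g = r := by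
  apply unique_lift (q - 1) r hr ((Nat.Prime.coprime_iff_not_dvd hr).mpr hdiv) _ x hx
  intro z hz
  rw [← hF]
  exact center_pow_card_sub_one z hz

end Cfsg.Agent.S2567
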