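import Cfsg.Statements.S2569
import Mathlib
-- import your own Cfsg.Agent.* helpers here

set_option autoImplicit false
open Cfsg

namespace Cfsg.Agent.S2569

section A
open Polynomial Module

variable {F : Type*} [Field F] [Finite F] {V : Type*} [AddCommGroup V] [Module F V]
  [FiniteDimensional F V]

/-- For a semisimple endomorphism of a nonzero finite-dimensional space over a finite field,
every scalar is the determinant of an endomorphism commuting with it. -/
theorem exists_commute_det [Nontrivial V] (φ : Module.End F V) (hφ : φ.IsSemisimple) (δ : F) :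
    ∃ c : Module.End F V, Commute c φ ∧ LinearMap.det c = δ := by
  classical
  have hss : IsSemisimpleModule F[X] (AEval' φ) := hφ
  have hnt : Nontrivial (AEval' φ) := (AEval'.of φ).symm.toEquiv.nontrivial
  haveI hfinM : Module.Finite F (AEval' φ) := Module.Finite.equiv (AEval'.of φ)
  obtain ⟨W, hW⟩ := IsAtomic.exists_atom (Submodule F[X] (AEval' φ))
  haveI hsimple : IsSimpleModule F[X] W := isSimpleModule_iff_isAtom.mpr hW
  obtain ⟨W', hWW'⟩ := exists_isCompl W
  obtain ⟨I, hI, ⟨e⟩⟩ := isSimpleModule_iff_quot_maximal.mp hsimple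
  letI : Field (F[X] ⧸ I) := Ideal.Quotient.field I
  -- finite-dimensionality
  haveI hfinW : Module.Finite F W :=
    inferInstanceAs (Module.Finite F (W.restrictScalars F))
  haveI hfinW' : Module.Finite F W' :=
    inferInstanceAs (Module.Finite F (W'.restrictScalars F))
  haveI hfinK : Module.Finite F (F[X] ⧸ I) := Module.Finite.equiv (e.restrictScalars F)
  haveI : Finite (F[X] ⧸ I) := Module.finite_of_finite F
  obtain ⟨a, ha⟩ := FiniteField.norm_surjective F (F[X] ⧸ I) δ
  obtain ⟨p, rfl⟩ := Ideal.Quotient.mk_surjective a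
  -- the endomorphism
  let ψW : W →ₗ[F[X]] W := p • LinearMap.id
  let E : (W × W') ≃ₗ[F[X]] AEval' φ := Submodule.prodEquivOfIsCompl W W' hWW'
  let c' : AEval' φ →ₗ[F[X]] AEval' φ :=
    E.toLinearMap ∘ₗ (ψW.prodMap LinearMap.id) ∘ₗ E.symm.toLinearMap
  let c : Module.End F V :=
    (AEval'.of φ).symm.toLinearMap ∘ₗ (c'.restrictScalars F) ∘ₗ (AEval'.of φ).toLinearMap
  refine ⟨c, ?_, ?_⟩
  · -- commutation
    apply LinearMap.ext
    intro v
    change (AEval'.of φ).symm (c' (AEval'.of φ (φ v))) = φ ((AEval'.of φ).symm (c' (AEval'.of φ v)))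
    rw [← AEval'.X_smul_of, map_smul]
    exact AEval.of_symm_X_smul φ _
  · -- determinant
    have h1 : LinearMap.det c = LinearMap.det (c'.restrictScalars F) := by
      have := LinearMap.det_conj (c'.restrictScalars F) (AEval'.of φ).symm
      rw [← this]
      rfl
    have h2 : LinearMap.det (c'.restrictScalars F) =
        LinearMap.det ((ψW.restrictScalars F).prodMap (LinearMap.id : W' →ₗ[F] W')) := by
      have := LinearMap.det_conj ((ψW.restrictScalars F).prodMap (LinearMap.id : W' →ₗ[F] W'))
        (E.restrictScalars F)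
      rw [← this]
      rfl
    have h3 : LinearMap.det (ψW.restrictScalars F) =
        LinearMap.det (Algebra.lmul F (F[X] ⧸ I) (Ideal.Quotient.mk I p)) := by
      have := LinearMap.det_conj (ψW.restrictScalars F) (e.restrictScalars F)
      rw [← this]
      congr 1
      apply LinearMap.ext
      intro k
      change e (p • e.symm k) = Ideal.Quotient.mk I p * k
      rw [map_smul, LinearEquiv.apply_symm_apply]
      rfl
    rw [h1, h2, LinearMap.det_prodMap, LinearMap.det_id, mul_one, h3, ← Algebra.norm_apply, ha]

end A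

section B
open Polynomial Module

variable {F : Type*} [Field F] [Fintype F] {p : ℕ} [Fact p.Prime] [CharP F p] {n : ℕ}

theorem semisimple_of_coprime (x : GL (Fin n) F) (hx : (orderOf x).Coprime p) :
    Module.End.IsSemisimple (Matrix.toLin' (x : Matrix (Fin n) (Fin n) F)) := by
  set m := orderOf x with hm
  have hm0 : 0 < m := orderOf_pos x
  have hmF : ((m : ℕ) : F) ≠ 0 := by
    intro h0
    rw [CharP.cast_eq_zero_iff F p] at h0
    have h1 : p ∣ Nat.gcd m p := Nat.dvd_gcd h0 dvd_rfl
    rw [Nat.Coprime] at hx
    rw [hx] at h1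
    exact (Fact.out : p.Prime).one_lt.ne' (Nat.dvd_one.mp h1)
  have hsep : (X ^ m - C (1 : F)).Separable := separable_X_pow_sub_C (1 : F) hmF one_ne_zero
  apply Module.End.isSemisimple_of_squarefree_aeval_eq_zero hsep.squarefree
  have hpow : (x : Matrix (Fin n) (Fin n) F) ^ m = 1 := by
    rw [← Units.val_pow_eq_pow_val, hm, pow_orderOf_eq_one, Units.val_one]
  rw [map_sub, map_pow, aeval_X, aeval_C, ← Matrix.toLin'_pow, hpow, Matrix.toLin'_one]
  simp only [map_one]
  exact sub_self _

end B

/-- In GL_n over a finite field of characteristic p, the conjugacy class of a semisimple element (an element of order prime to p) under the special linear group is its whole GL-conjugacy class: for every such x and every invertible g there is h of determinant one with h x h⁻¹ = g x g⁻¹. -/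
theorem result {F : Type*} [Field F] [Fintype F] {p : ℕ} [Fact p.Prime] [CharP F p] {n : ℕ} (x g : GL (Fin n) F) (hx : (orderOf x).Coprime p) : ∃ h : GL (Fin n) F, (h : Matrix (Fin n) (Fin n) F).det = 1 ∧ h * x * h⁻¹ = g * x * g⁻¹ := by
  classical
  rcases Nat.eq_zero_or_pos n with hn | hn
  · subst hn
    refine ⟨1, by simp, ?_⟩
    apply Units.ext
    apply Subsingleton.elim
  · have : Nonempty (Fin n) := ⟨⟨0, hn⟩⟩
    have hss := semisimple_of_coprime x hx
    obtain ⟨c, hc, hdet⟩ := exists_commute_det (Matrix.toLin' (x : Matrix (Fin n) (Fin n) F)) hss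
      ((g : Matrix (Fin n) (Fin n) F).det)
    set cM : Matrix (Fin n) (Fin n) F := LinearMap.toMatrix' c with hcM
    have hcdet : cM.det = (g : Matrix (Fin n) (Fin n) F).det := by
      rw [hcM, LinearMap.det_toMatrix', hdet]
    have hg0 : (g : Matrix (Fin n) (Fin n) F).det ≠ 0 := by
      have := (Matrix.isUnit_iff_isUnit_det _).mp g.isUnit
      exact this.ne_zero
    have hcomm : cM * (x : Matrix (Fin n) (Fin n) F) = (x : Matrix (Fin n) (Fin n) F) * cM := by
      have h1 : c * Matrix.toLin' (x : Matrix (Fin n) (Fin n) F)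
          = Matrix.toLin' (x : Matrix (Fin n) (Fin n) F) * c := hc.eq
      have h2 := congrArg LinearMap.toMatrix' h1
      rw [Module.End.mul_eq_comp, Module.End.mul_eq_comp, LinearMap.toMatrix'_comp,
        LinearMap.toMatrix'_comp, LinearMap.toMatrix'_toLin'] at h2
      exact h2
    let cG : GL (Fin n) F := Matrix.GeneralLinearGroup.mkOfDetNeZero cM (by rw [hcdet]; exact hg0)
    have hcG : (cG : Matrix (Fin n) (Fin n) F) = cM := rfl
    have hcommG : cG * x = x * cG := by
      apply Units.ext
      rw [Units.val_mul, Units.val_mul, hcG]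
      exact hcomm
    refine ⟨g * cG⁻¹, ?_, ?_⟩
    · have h1 : Matrix.GeneralLinearGroup.det (g * cG⁻¹) = 1 := by
        rw [map_mul, map_inv]
        have : Matrix.GeneralLinearGroup.det cG = Matrix.GeneralLinearGroup.det g := by
          apply Units.ext
          rw [Matrix.GeneralLinearGroup.val_det_apply, Matrix.GeneralLinearGroup.val_det_apply, hcG,
            hcdet]
        rw [this, mul_inv_cancel]
      have h2 := congrArg Units.val h1
      rwa [Matrix.GeneralLinearGroup.val_det_apply, Units.val_one] at h2
    · have : cG⁻¹ * x * cG = x := by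
        rw [mul_assoc, ← hcommG, ← mul_assoc, inv_mul_cancel, one_mul]
      calc g * cG⁻¹ * x * (g * cG⁻¹)⁻¹ = g * (cG⁻¹ * x * cG) * g⁻¹ := by group
        _ = g * x * g⁻¹ := by rw [this]

end Cfsg.Agent.S2569
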