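import Cfsg.Statements.S2571
import Cfsg.Agent.Lib.Helper43.CyclicNilp

set_option autoImplicit false
open Cfsg

namespace Cfsg.Agent.S2571
open Module Cfsg.Agent.Helper43 in
/-- Centraliser of a regular unipotent element in GL_n(q): if u is an invertible n × n matrix over the field with q elements, n ≥ 1, with (u − 1)^n = 0 and rank(u − 1) = n − 1 (a single unipotent Jordan block), then its centraliser in GL_n(q) has order (q − 1) q^(n−1). -/
theorem result {F : Type*} [Field F] [Fintype F] {q n : ℕ} (hF : Fintype.card F = q) (hn : 1 ≤ n) (u : GL (Fin n) F) (hnil : ((u : Matrix (Fin n) (Fin n) F) - 1) ^ n = 0) (hreg : ((u : Matrix (Fin n) (Fin n) F) - 1).rank = n - 1) : Nat.card ↥(Subgroup.centralizer ({u} : Set (GL (Fin n) F))) = (q - 1) * q ^ (n - 1) := by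
  classical
  let E : Matrix (Fin n) (Fin n) F ≃ₐ[F] Module.End F (Fin n → F) := Matrix.toLinAlgEquiv'
  have hE : ∀ (A : Matrix (Fin n) (Fin n) F) (w : Fin n → F), E A w = A.mulVec w := by
    intro A w
    simp [E]
  let f : Module.End F (Fin n → F) := E ((u : Matrix (Fin n) (Fin n) F) - 1)
  have hfin : finrank F (Fin n → F) = n := by simp
  have hnil' : f ^ finrank F (Fin n → F) = 0 := by
    rw [hfin]
    show (E _) ^ n = 0
    rw [← map_pow, hnil, map_zero]
  have hfmv : f = Matrix.mulVecLin ((u : Matrix (Fin n) (Fin n) F) - 1) := by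
    apply LinearMap.ext
    intro w
    rw [hE]
    rfl
  have hker : finrank F (LinearMap.ker f) ≤ 1 := by
    have h := f.finrank_range_add_finrank_ker
    have h2 : finrank F (LinearMap.range f) = n - 1 := by
      rw [hfmv]; exact hreg
    omega
  obtain ⟨v, hv⟩ := exists_cyclic_vector f (by omega) hnil' hker
  rw [hfin] at hv
  -- commuting with `u` gives commuting with `f`
  have hcomm : ∀ g : GL (Fin n) F, g ∈ Subgroup.centralizer ({u} : Set (GL (Fin n) F)) →
      Commute (E (g : Matrix (Fin n) (Fin n) F)) f := by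
    intro g hg
    rw [Subgroup.mem_centralizer_iff] at hg
    have h1 := hg u rfl
    have h2 : (u : Matrix (Fin n) (Fin n) F) * (g : Matrix (Fin n) (Fin n) F) =
        (g : Matrix (Fin n) (Fin n) F) * (u : Matrix (Fin n) (Fin n) F) := by
      have := congrArg (fun x : GL (Fin n) F => (x : Matrix (Fin n) (Fin n) F)) h1
      simpa using this
    show E _ * E _ = E _ * E _
    rw [← map_mul, ← map_mul, mul_sub, sub_mul, mul_one, one_mul, h2]
  have hbij0 : ∀ g : GL (Fin n) F, Function.Bijective (E (g : Matrix (Fin n) (Fin n) F)) := by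
    intro g
    have h1 : IsUnit (g : Matrix (Fin n) (Fin n) F) := g.isUnit
    have h2 : IsUnit (E (g : Matrix (Fin n) (Fin n) F)) := h1.map E
    exact (Module.End.isUnit_iff _).mp h2
  let φ : ↥(Subgroup.centralizer ({u} : Set (GL (Fin n) F))) →
      {w : Fin n → F // w ∉ LinearMap.ker (f ^ (n - 1))} := fun g =>
    ⟨E ((g : GL (Fin n) F) : Matrix (Fin n) (Fin n) F) v, by
      rw [LinearMap.mem_ker]
      have := (bijective_iff_of_commute f hnil' hker v (by rw [hfin]; exact hv) _
        (hcomm g.1 g.2)).mp (hbij0 g.1)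
      rw [hfin] at this
      exact this⟩
  have hφ : Function.Bijective φ := by
    constructor
    · intro g g' h
      have h1 : E ((g : GL (Fin n) F) : Matrix (Fin n) (Fin n) F) v =
          E ((g' : GL (Fin n) F) : Matrix (Fin n) (Fin n) F) v := congrArg Subtype.val h
      have h2 := eq_of_commute_of_cyclic f hnil' hker v (by rw [hfin]; exact hv) _ _
        (hcomm g.1 g.2) (hcomm g'.1 g'.2) h1
      have h3 := E.injective h2
      exact Subtype.ext (Units.ext h3)
    · rintro ⟨w, hw⟩
      rw [LinearMap.mem_ker] at hw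
      obtain ⟨g0, hg0c, hg0v⟩ := exists_commute_apply_eq f hnil' hker v (by rw [hfin]; exact hv) w
      have hb : Function.Bijective g0 := by
        rw [bijective_iff_of_commute f hnil' hker v (by rw [hfin]; exact hv) g0 hg0c, hg0v, hfin]
        exact hw
      have hu0 : IsUnit g0 := (Module.End.isUnit_iff _).mpr hb
      have hu1 : IsUnit (E.symm g0) := hu0.map E.symm
      have hEs : E (E.symm g0) = g0 := E.apply_symm_apply g0
      have hc1 : E.symm g0 * ((u : Matrix (Fin n) (Fin n) F) - 1) =
          ((u : Matrix (Fin n) (Fin n) F) - 1) * E.symm g0 := by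
        apply E.injective
        rw [map_mul, map_mul, hEs]
        exact hg0c.eq
      have hc2 : (u : Matrix (Fin n) (Fin n) F) * E.symm g0 =
          E.symm g0 * (u : Matrix (Fin n) (Fin n) F) := by
        rw [mul_sub, sub_mul, mul_one, one_mul] at hc1
        exact (sub_left_inj.mp hc1).symm
      refine ⟨⟨hu1.unit, ?_⟩, ?_⟩
      · rw [Subgroup.mem_centralizer_iff]
        intro h hh
        rw [Set.mem_singleton_iff] at hh
        subst hh
        apply Units.ext
        simpa using hc2
      · apply Subtype.ext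
        show E ((hu1.unit : GL (Fin n) F) : Matrix (Fin n) (Fin n) F) v = w
        rw [IsUnit.unit_spec, hEs, hg0v]
  rw [Nat.card_congr (Equiv.ofBijective φ hφ), Nat.card_eq_fintype_card,
    Fintype.card_subtype_compl]
  have hc1 : Fintype.card (Fin n → F) = q ^ n := by
    rw [Fintype.card_fun, hF, Fintype.card_fin]
  have hc2 : Fintype.card {x : Fin n → F // x ∈ LinearMap.ker (f ^ (n - 1))} = q ^ (n - 1) := by
    have h1 := finrank_ker_pow_eq f hnil' hker (n - 1) (by rw [hfin]; omega)
    have h2 := Module.card_eq_pow_finrank (K := F) (V := LinearMap.ker (f ^ (n - 1)))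
    rw [h1, hF] at h2
    exact h2
  rw [hc1, hc2]
  have : q ^ n = q * q ^ (n - 1) := by
    rw [← pow_succ']
    congr 1
    omega
  rw [this, Nat.sub_mul, one_mul]

end Cfsg.Agent.S2571
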