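import Cfsg.Statements.S2572
import Mathlib
import Cfsg.Agent.Lib.Helper42.TransvCent3

set_option autoImplicit false
open Cfsg

namespace Cfsg.Agent.S2572

open Cfsg.Agent.Helper42 Matrix

/-- Centraliser of a transvection in GL_n(q), n ≥ 2: if t − 1 has rank one and square zero, the centraliser of t in GL_n(q) has order q^(2n−3) (q − 1) |GL_(n−2)(q)| (a group of order q^(2n−3) extended by GL_1(q) × GL_(n−2)(q)). -/
theorem result {F : Type*} [Field F] [Fintype F] {q n : ℕ} (hF : Fintype.card F = q) (hn : 2 ≤ n) (t : GL (Fin n) F) (ht : Cfsg.IsTransvection (t : Matrix (Fin n) (Fin n) F)) : Nat.card ↥(Subgroup.centralizer ({t} : Set (GL (Fin n) F))) = q ^ (2 * n - 3) * (q - 1) * ∏ i : Fin (n - 2), (q ^ (n - 2) - q ^ (i : ℕ)) := by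
  obtain ⟨hrank, hsq⟩ := ht
  obtain ⟨u, φ, hu, hφ, hN⟩ := exists_vecMulVec_of_rank_one _ hrank
  have hφu : φ ⬝ᵥ u = 0 := by
    rw [hN, vecMulVec_sq] at hsq
    rcases smul_eq_zero.mp hsq with h | h
    · exact h
    · exact absurd h (Helper42.vecMulVec_ne_zero hu hφ)
  have key := card_centralizer_eq t u φ hN hu hφ hφu
  obtain ⟨m, rfl⟩ : ∃ m, n = m + 2 := ⟨n - 2, by omega⟩
  rw [Matrix.card_GL_field, Fintype.card_fin, hF, glProd_two] at key
  have hq : 2 ≤ q := by rw [← hF]; exact Fintype.one_lt_card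
  have hpos : 0 < (q ^ (m + 2) - 1) * (q ^ (m + 2 - 1) - 1) := by
    apply Nat.mul_pos
    · have : 2 ^ (m+2) ≤ q ^ (m+2) := Nat.pow_le_pow_left hq _
      have : 2 ≤ 2 ^ (m+2) := by
        calc 2 = 2 ^ 1 := by norm_num
          _ ≤ 2 ^ (m+2) := Nat.pow_le_pow_right (by norm_num) (by omega)
      omega
    · have : 2 ^ (m+2-1) ≤ q ^ (m+2-1) := Nat.pow_le_pow_left hq _
      have : 2 ≤ 2 ^ (m+2-1) := by
        calc 2 = 2 ^ 1 := by norm_num
          _ ≤ 2 ^ (m+2-1) := Nat.pow_le_pow_right (by norm_num) (by omega)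
      omega
  apply Nat.eq_of_mul_eq_mul_right hpos
  rw [key]
  show _ = (q ^ (2 * (m + 2) - 3) * (q - 1) * ∏ i : Fin m, (q ^ m - q ^ (i : ℕ))) *
    ((q ^ (m + 2) - 1) * (q ^ (m + 1) - 1))
  ring

end Cfsg.Agent.S2572
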