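import Cfsg.Statements.S2573
import Cfsg.Agent.Lib.Helper43.RegUnip

set_option autoImplicit false
open Cfsg

namespace Cfsg.Agent.S2573

open Module Cfsg.Agent.Helper43

theorem mulVecLin_pow {F : Type*} [Field F] {n : ℕ} (A : Matrix (Fin n) (Fin n) F) (k : ℕ) :
    (Matrix.mulVecLin (A ^ k) : Module.End F (Fin n → F)) = (Matrix.mulVecLin A : Module.End F (Fin n → F)) ^ k := by
  induction k with
  | zero => simp [Module.End.one_eq_id]
  | succ k ih =>
    rw [pow_succ, pow_succ, Matrix.mulVecLin_mul, ih]; rfl

theorem finrank_ker_mulVecLin_le_one {F : Type*} [Field F] {n : ℕ} (A : Matrix (Fin n) (Fin n) F)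
    (hreg : A.rank = n - 1) : finrank F (LinearMap.ker (Matrix.mulVecLin A)) ≤ 1 := by
  have h := (Matrix.mulVecLin A).finrank_range_add_finrank_ker
  have h2 : finrank F (LinearMap.range (Matrix.mulVecLin A)) = n - 1 := hreg
  have h3 : finrank F (Fin n → F) = n := by simp
  omega

/-- The invariant subspaces of a regular unipotent matrix form a chain: over a finite field, if u is an n × n matrix with (u − 1)^n = 0 and rank(u − 1) = n − 1, then every subspace W of F^n with u W ⊆ W is the kernel of (u − 1)^(dim W); so u has at most one invariant subspace of each dimension. -/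
theorem result {F : Type*} [Field F] [Finite F] {n : ℕ} (u : Matrix (Fin n) (Fin n) F) (hnil : (u - 1) ^ n = 0) (hreg : (u - 1).rank = n - 1) (W : Submodule F (Fin n → F)) (hW : ∀ v ∈ W, u.mulVec v ∈ W) : W = LinearMap.ker (Matrix.mulVecLin ((u - 1) ^ Module.finrank F W)) := by
  have h3 : finrank F (Fin n → F) = n := by simp
  have key := invariant_eq_ker_pow (K := F) (V := Fin n → F) (Matrix.mulVecLin (u - 1))
    (by rw [h3, ← mulVecLin_pow, hnil]; simp)
    (finrank_ker_mulVecLin_le_one _ hreg) W
    (by
      intro v hv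
      have : (Matrix.mulVecLin (u - 1)) v = u.mulVec v - v := by
        simp [Matrix.sub_mulVec]
      rw [this]
      exact W.sub_mem (hW v hv) hv)
  rw [mulVecLin_pow]
  exact key

end Cfsg.Agent.S2573
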