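import Cfsg.Statements.S2574
import Cfsg.Agent.Lib.Helper43.RegUnip2

set_option autoImplicit false
open Cfsg

namespace Cfsg.Agent.S2574

open Module Matrix Cfsg.Agent.Helper43

theorem mulVecLin_pow {F : Type*} [Field F] {ι : Type*} [Fintype ι] [DecidableEq ι] (A : Matrix ι ι F) (k : ℕ) :
    (Matrix.mulVecLin (A ^ k) : Module.End F (ι → F)) = (Matrix.mulVecLin A : Module.End F (ι → F)) ^ k := by
  induction k with
  | zero => simp [Module.End.one_eq_id]
  | succ k ih =>
    rw [pow_succ, pow_succ, Matrix.mulVecLin_mul, ih]; rfl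

theorem finrank_ker_mulVecLin_le_one {F : Type*} [Field F] {ι : Type*} [Fintype ι] [DecidableEq ι]
    (A : Matrix ι ι F)
    (hreg : A.rank = Fintype.card ι - 1) : finrank F (LinearMap.ker (Matrix.mulVecLin A)) ≤ 1 := by
  have h := (Matrix.mulVecLin A).finrank_range_add_finrank_ker
  have h2 : finrank F (LinearMap.range (Matrix.mulVecLin A)) = Fintype.card ι - 1 := hreg
  have h3 : finrank F (ι → F) = Fintype.card ι := by simp
  omega

theorem sympForm_mulVec {F : Type*} [Field F] {m : ℕ} (A : Matrix (Fin m ⊕ Fin m) (Fin m ⊕ Fin m) F)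
    (hA : A ∈ Matrix.symplecticGroup (Fin m) F) (x y : Fin m ⊕ Fin m → F) :
    Cfsg.sympForm m F (A.mulVec x) (A.mulVec y) = Cfsg.sympForm m F x y := by
  unfold Cfsg.sympForm
  have h := SymplecticGroup.mem_iff'.mp hA
  have e : A *ᵥ x ⬝ᵥ (J (Fin m) F *ᵥ (A *ᵥ y)) = x ⬝ᵥ ((Aᵀ * J (Fin m) F * A) *ᵥ y) := by
    rw [← Matrix.vecMul_transpose, ← Matrix.dotProduct_mulVec, Matrix.mulVec_mulVec,
      Matrix.mulVec_mulVec, Matrix.mul_assoc]
  rw [e, h]

theorem sympForm_sub_left {F : Type*} [Field F] {m : ℕ} (x x' y : Fin m ⊕ Fin m → F) :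
    Cfsg.sympForm m F (x - x') y = Cfsg.sympForm m F x y - Cfsg.sympForm m F x' y := by
  unfold Cfsg.sympForm
  rw [sub_dotProduct]

theorem sympForm_sub_right {F : Type*} [Field F] {m : ℕ} (x y y' : Fin m ⊕ Fin m → F) :
    Cfsg.sympForm m F x (y - y') = Cfsg.sympForm m F x y - Cfsg.sympForm m F x y' := by
  unfold Cfsg.sympForm
  rw [Matrix.mulVec_sub, dotProduct_sub]

theorem sympForm_zero_right {F : Type*} [Field F] {m : ℕ} (x : Fin m ⊕ Fin m → F) :
    Cfsg.sympForm m F x 0 = 0 := by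
  unfold Cfsg.sympForm
  simp

/-- the key vanishing lemma -/
theorem sympForm_pow_eq_zero {F : Type*} [Field F] {m : ℕ}
    (A : Matrix (Fin m ⊕ Fin m) (Fin m ⊕ Fin m) F)
    (hA : A ∈ Matrix.symplecticGroup (Fin m) F) (k : ℕ) :
    ∀ x y : Fin m ⊕ Fin m → F, ((A - 1) ^ k).mulVec y = 0 →
      Cfsg.sympForm m F (((A - 1) ^ k).mulVec x) y = 0 := by
  induction k with
  | zero =>
    intro x y hy
    simp only [pow_zero, Matrix.one_mulVec] at hy
    rw [hy]; exact sympForm_zero_right _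
  | succ k ih =>
    intro x y hy
    have hcomm : (A - 1) * (A - 1) ^ k = (A - 1) ^ k * (A - 1) := by
      rw [← pow_succ, ← pow_succ']
    have hcommA : A * (A - 1) ^ k = (A - 1) ^ k * A := by
      have : Commute A (A - 1) := (Commute.refl A).sub_right (Commute.one_right A)
      exact (this.pow_right k).eq
    -- write (A-1)^(k+1) x = (A-1) ((A-1)^k x)
    have e1 : ((A - 1) ^ (k + 1)).mulVec x = (A - 1).mulVec (((A - 1) ^ k).mulVec x) := by
      rw [Matrix.mulVec_mulVec, ← pow_succ']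
    set z := ((A - 1) ^ k).mulVec x with hz
    have e2 : (A - 1).mulVec z = A.mulVec z - z := by
      rw [Matrix.sub_mulVec, Matrix.one_mulVec]
    have e3 : Cfsg.sympForm m F (A.mulVec z - z) y
        = - Cfsg.sympForm m F (A.mulVec z) ((A - 1).mulVec y) := by
      have e4 : (A - 1).mulVec y = A.mulVec y - y := by
        rw [Matrix.sub_mulVec, Matrix.one_mulVec]
      rw [e4, sympForm_sub_left, sympForm_sub_right, sympForm_mulVec A hA]
      ring
    rw [e1, e2, e3, neg_eq_zero]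
    have e5 : A.mulVec z = ((A - 1) ^ k).mulVec (A.mulVec x) := by
      rw [hz, Matrix.mulVec_mulVec, Matrix.mulVec_mulVec, hcommA]
    rw [e5]
    apply ih
    rw [Matrix.mulVec_mulVec, ← pow_succ]
    exact hy

theorem result {F : Type*} [Field F] [Finite F] {m : ℕ} (u : Matrix.symplecticGroup (Fin m) F) (hnil : ((u : Matrix (Fin m ⊕ Fin m) (Fin m ⊕ Fin m) F) - 1) ^ (2 * m) = 0) (hreg : ((u : Matrix (Fin m ⊕ Fin m) (Fin m ⊕ Fin m) F) - 1).rank = 2 * m - 1) (W : Submodule F (Fin m ⊕ Fin m → F)) (hW : ∀ v ∈ W, (u : Matrix (Fin m ⊕ Fin m) (Fin m ⊕ Fin m) F).mulVec v ∈ W) (hdim : 2 * Module.finrank F W ≤ 2 * m) : ∀ v ∈ W, ∀ w ∈ W, Cfsg.sympForm m F v w = 0 := by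
  set A : Matrix (Fin m ⊕ Fin m) (Fin m ⊕ Fin m) F := (u : Matrix (Fin m ⊕ Fin m) (Fin m ⊕ Fin m) F) with hAdef
  have hA : A ∈ Matrix.symplecticGroup (Fin m) F := u.2
  have hcard : Fintype.card (Fin m ⊕ Fin m) = 2 * m := by simp; ring
  have h3 : finrank F (Fin m ⊕ Fin m → F) = 2 * m := by
    rw [Module.finrank_fintype_fun_eq_card, hcard]
  set f : Module.End F (Fin m ⊕ Fin m → F) := Matrix.mulVecLin (A - 1) with hf
  have hfnil : f ^ finrank F (Fin m ⊕ Fin m → F) = 0 := by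
    rw [h3, hf, ← mulVecLin_pow, hnil]; simp
  have hfker : finrank F (LinearMap.ker f) ≤ 1 :=
    finrank_ker_mulVecLin_le_one _ (by rw [hcard]; exact hreg)
  have hWf : ∀ v ∈ W, f v ∈ W := by
    intro v hv
    have : f v = A.mulVec v - v := by
      simp [hf, Matrix.sub_mulVec]
    rw [this]
    exact W.sub_mem (hW v hv) hv
  have hWker := invariant_eq_ker_pow f hfnil hfker W hWf
  set d := finrank F W with hd
  have hd2 : d ≤ finrank F (Fin m ⊕ Fin m → F) := Submodule.finrank_le W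
  have hrange := range_pow_eq_ker_pow f hfnil hfker d hd2
  intro v hv w hw
  rw [hWker, ← hrange] at hv
  obtain ⟨x, rfl⟩ := hv
  rw [hWker, LinearMap.mem_ker] at hw
  rw [h3] at *
  have hpow : ∀ k : ℕ, ∀ z, (f ^ k) z = ((A - 1) ^ k).mulVec z := by
    intro k z
    rw [hf, ← mulVecLin_pow]; rfl
  rw [hpow]
  apply sympForm_pow_eq_zero A hA
  rw [← hpow]
  have : 2 * m - d = (2 * m - d - d) + d := by omega
  rw [this, pow_add, Module.End.mul_apply, hw]; simp

end Cfsg.Agent.S2574
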