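import Cfsg.Statements.S2575
import Mathlib

set_option autoImplicit false
open Cfsg

namespace Cfsg.Agent.S2575

open Matrix

theorem prod_ite_lt {F : Type*} [Field F] (n i : ℕ) (hi : i ≤ n) :
    ∏ j : Fin n, (if (j : ℕ) < i then (-1 : F) else 1) = (-1) ^ i := by
  rw [Fin.prod_univ_eq_prod_range (fun j => if j < i then (-1 : F) else 1) n]
  obtain ⟨k, rfl⟩ := Nat.exists_eq_add_of_le hi
  rw [Finset.prod_range_add]
  have h1 : ∏ x ∈ Finset.range i, (if x < i then (-1 : F) else 1) = (-1) ^ i := by
    rw [Finset.prod_congr rfl (g := fun _ => (-1 : F))]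
    · rw [Finset.prod_const, Finset.card_range]
    · intro x hx
      rw [if_pos (Finset.mem_range.mp hx)]
  have h2 : ∏ x ∈ Finset.range k, (if i + x < i then (-1 : F) else 1) = 1 := by
    apply Finset.prod_eq_one
    intro x _
    rw [if_neg (by omega)]
  rw [h1, h2, mul_one]

/-- decomposition of the 2-part -/
theorem two_part (N : ℕ) (hN : N ≠ 0) : ∃ N' : ℕ, Odd N' ∧ N = 2 ^ padicValNat 2 N * N' := by
  obtain ⟨k, m, hm, rfl⟩ := Nat.exists_eq_two_pow_mul_odd hN
  refine ⟨m, hm, ?_⟩
  have hm0 : m ≠ 0 := by rintro rfl; simp at hm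
  have : padicValNat 2 (2 ^ k * m) = k := by
    rw [padicValNat.mul (by positivity) hm0, padicValNat.prime_pow,
      padicValNat.eq_zero_of_not_dvd (by
        intro h; rw [Nat.odd_iff] at hm; omega), add_zero]
  rw [this]

theorem exists_pow_eq_neg_one_iff {F : Type*} [Field F] [Fintype F] (hq : Odd (Fintype.card F))
    (n : ℕ) (hn : 1 ≤ n) :
    (∃ c : F, c ^ n = -1) ↔ padicValNat 2 n < padicValNat 2 (Fintype.card F - 1) := by
  classical
  have hchar : ringChar F ≠ 2 := by
    intro h
    have := FiniteField.even_card_iff_char_two.mp h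
    rcases hq with ⟨t, ht⟩
    omega
  have hneg : (-1 : F) ≠ 1 := by
    intro h
    have h2 : (2 : F) = 0 := by linear_combination (-1 : F) * h
    exact Ring.two_ne_zero hchar h2
  have hcard : 1 < Fintype.card F := Fintype.one_lt_card
  set N := Fintype.card F - 1 with hNdef
  have hN0 : N ≠ 0 := by omega
  obtain ⟨N', hN'odd, hN'⟩ := two_part N hN0
  obtain ⟨n', hn'odd, hn'⟩ := two_part n (by omega)
  set e := padicValNat 2 N with he
  set a := padicValNat 2 n with ha
  constructor
  · rintro ⟨c, hc⟩
    by_contra hlt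
    push Not at hlt
    have hc0 : c ≠ 0 := by
      rintro rfl
      rw [zero_pow (by omega)] at hc
      exact hneg (by rw [← hc]; ring_nf; exact absurd hc (by norm_num))
    have hcN : c ^ N = 1 := FiniteField.pow_card_sub_one_eq_one c hc0
    -- n * N' = N * (2^(a-e) * n')
    have h1 : n * N' = N * (2 ^ (a - e) * n') := by
      rw [hn', hN']
      have : a = e + (a - e) := by omega
      conv_lhs => rw [this, pow_add]
      ring
    have h2 : c ^ (n * N') = 1 := by rw [h1, pow_mul, hcN, one_pow]
    rw [pow_mul, hc, hN'odd.neg_one_pow] at h2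
    exact hneg h2
  · intro hlt
    obtain ⟨g, hg⟩ := IsCyclic.exists_generator (α := Fˣ)
    have hord : orderOf g = N := by
      rw [orderOf_eq_card_of_forall_mem_zpowers hg, Nat.card_eq_fintype_card, Fintype.card_units]
    have hNeven : N = 2 * (N / 2) := by
      have : 2 ∣ N := by
        rw [hN']
        exact Dvd.dvd.mul_right (dvd_pow_self 2 (by omega)) _
      omega
    have hgh : (g : F) ^ (N / 2) = -1 := by
      have h1 : ((g : F) ^ (N / 2)) ^ 2 = 1 := by
        rw [← pow_mul, mul_comm, ← hNeven]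
        exact FiniteField.pow_card_sub_one_eq_one _ g.ne_zero
      rcases sq_eq_one_iff.mp h1 with h | h
      · exfalso
        have h3 : g ^ (N / 2) ≠ 1 := pow_ne_one_of_lt_orderOf (by omega) (by rw [hord]; omega)
        apply h3
        apply Units.ext
        rw [Units.val_pow_eq_pow_val, h, Units.val_one]
      · exact h
    -- N / 2 = 2^a * (2^(e-1-a) * N')
    have hhalf : N / 2 = 2 ^ a * (2 ^ (e - 1 - a) * N') := by
      have h1 : N = 2 * (2 ^ a * (2 ^ (e - 1 - a) * N')) := by
        conv_lhs => rw [hN']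
        have : e = 1 + a + (e - 1 - a) := by omega
        conv_lhs => rw [this, pow_add, pow_add]
        ring
      omega
    refine ⟨((g : F) ^ (2 ^ (e - 1 - a) * N')) , ?_⟩
    rw [hn', ← pow_mul, ← mul_assoc, mul_comm _ (2 ^ a), ← hhalf, pow_mul, hgh, hn'odd.neg_one_pow]

theorem result {F : Type*} [Field F] [Fintype F] {q : ℕ} (hF : Fintype.card F = q) (hq : Odd q) {n : ℕ} (hn : 1 ≤ n) (i : ℕ) (hi : i ≤ n) : (∃ c : F, c ≠ 0 ∧ (c • Matrix.diagonal (fun j : Fin n => if (j : ℕ) < i then (-1 : F) else 1)).det = 1) ↔ (Even i ∨ padicValNat 2 n < padicValNat 2 (q - 1)) := by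
  have hdet : ∀ c : F, (c • Matrix.diagonal (fun j : Fin n => if (j : ℕ) < i then (-1 : F) else 1)).det
      = c ^ n * (-1) ^ i := by
    intro c
    rw [Matrix.det_smul, Matrix.det_diagonal, prod_ite_lt n i hi, Fintype.card_fin]
  simp only [hdet]
  subst hF
  rcases Nat.even_or_odd i with hi2 | hi2
  · constructor
    · intro _; exact Or.inl hi2
    · intro _
      exact ⟨1, one_ne_zero, by rw [one_pow, hi2.neg_one_pow, one_mul]⟩
  · rw [← exists_pow_eq_neg_one_iff hq n hn]
    have hnot : ¬ Even i := Nat.not_even_iff_odd.mpr hi2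
    constructor
    · rintro ⟨c, _, hc⟩
      right
      refine ⟨c, ?_⟩
      rw [hi2.neg_one_pow] at hc
      linear_combination (-1 : F) * hc
    · rintro (h | ⟨c, hc⟩)
      · exact absurd h hnot
      · refine ⟨c, ?_, ?_⟩
        · rintro rfl
          rw [zero_pow (by omega)] at hc
          have : (1 : F) = 0 := by linear_combination hc
          exact one_ne_zero this
        · rw [hc, hi2.neg_one_pow]; ring

end Cfsg.Agent.S2575
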