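import Cfsg.Statements.S2576
import Mathlib

set_option autoImplicit false
open Cfsg

namespace Cfsg.Agent.S2576

open Matrix

/-- decomposition of the 2-part -/
theorem two_part (N : ℕ) (hN : N ≠ 0) : ∃ N' : ℕ, Odd N' ∧ N = 2 ^ padicValNat 2 N * N' := by
  obtain ⟨k, m, hm, rfl⟩ := Nat.exists_eq_two_pow_mul_odd hN
  refine ⟨m, hm, ?_⟩
  have hm0 : m ≠ 0 := by rintro rfl; simp at hm
  have : padicValNat 2 (2 ^ k * m) = k := by
    rw [padicValNat.mul (by positivity) hm0, padicValNat.prime_pow,
      padicValNat.eq_zero_of_not_dvd (by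
        intro h; rw [Nat.odd_iff] at hm; omega), add_zero]
  rw [this]

theorem det_block {F : Type*} [Field F] (m : ℕ) (μ c : F) :
    (c • Matrix.blockDiagonal (fun _ : Fin m => !![(0 : F), 1; μ, 0])).det
      = c ^ (2 * m) * (-μ) ^ m := by
  rw [Matrix.det_smul, Matrix.det_blockDiagonal]
  simp only [Matrix.det_fin_two_of, Finset.prod_const, Finset.card_univ, Fintype.card_fin,
    Fintype.card_prod]
  ring

theorem result {F : Type*} [Field F] [Fintype F] {q : ℕ} (hF : Fintype.card F = q) (hq : Odd q) {m : ℕ} (hm : 1 ≤ m) (μ : F) (hμ : orderOf μ = 2 ^ padicValNat 2 (q - 1)) : (∃ c : F, c ≠ 0 ∧ (c • Matrix.blockDiagonal (fun _ : Fin m => !![(0 : F), 1; μ, 0])).det = 1) ↔ (q % 4 = 3 ∨ padicValNat 2 (q - 1) < padicValNat 2 (2 * m)) := by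
  simp only [det_block]
  subst hF
  have hchar : ringChar F ≠ 2 := by
    intro h
    have := FiniteField.even_card_iff_char_two.mp h
    rcases hq with ⟨t, ht⟩
    omega
  have hneg : (-1 : F) ≠ 1 := by
    intro h
    have h2 : (2 : F) = 0 := by linear_combination (-1 : F) * h
    exact Ring.two_ne_zero hchar h2
  have hcard : 1 < Fintype.card F := Fintype.one_lt_card
  set N := Fintype.card F - 1 with hNdef
  have hN0 : N ≠ 0 := by omega
  obtain ⟨N', hN'odd, hN'⟩ := two_part N hN0
  obtain ⟨m', hm'odd, hm'⟩ := two_part m (by omega)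
  set e := padicValNat 2 N with he
  set a := padicValNat 2 m with ha
  have h2m : padicValNat 2 (2 * m) = a + 1 := by
    rw [padicValNat.mul (by norm_num) (by omega), padicValNat_self, add_comm]
  rw [h2m]
  have he1 : 1 ≤ e := by
    by_contra h
    have : e = 0 := by omega
    rw [this, pow_zero, one_mul] at hN'
    rcases hq with ⟨t, ht⟩
    rcases hN'odd with ⟨s, hs⟩
    omega
  have hμpow : μ ^ (2 ^ e) = 1 := by rw [← hμ]; exact pow_orderOf_eq_one μ
  have hμhalf : μ ^ (2 ^ (e - 1)) = -1 := by
    have h1 : (μ ^ (2 ^ (e - 1))) ^ 2 = 1 := by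
      rw [← pow_mul, ← pow_succ, Nat.sub_add_cancel he1, hμpow]
    rcases sq_eq_one_iff.mp h1 with h | h
    · exfalso
      have h3 : μ ^ (2 ^ (e - 1)) ≠ 1 :=
        pow_ne_one_of_lt_orderOf (by positivity) (by
          rw [hμ]; exact Nat.pow_lt_pow_right (by norm_num) (by omega))
      exact h3 h
    · exact h
  rcases Nat.lt_or_ge e 2 with he2 | he2
  · -- e = 1, q ≡ 3 mod 4
    have he1' : e = 1 := by omega
    have hq3 : Fintype.card F % 4 = 3 := by
      rw [he1', pow_one] at hN'
      rcases hN'odd with ⟨s, hs⟩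
      omega
    have hμ1 : μ = -1 := by
      rw [he1'] at hμhalf
      simpa using hμhalf
    constructor
    · intro _; exact Or.inl hq3
    · intro _
      refine ⟨1, one_ne_zero, ?_⟩
      rw [hμ1]; simp
  · -- e ≥ 2, q ≡ 1 mod 4
    have hq1 : ¬ Fintype.card F % 4 = 3 := by
      have : 4 ∣ N := by
        rw [hN']
        have : e = 2 + (e - 2) := by omega
        rw [this, pow_add]
        exact Dvd.dvd.mul_right (Dvd.dvd.mul_right (by norm_num) _) _
      omega
    have hνhalf : (-μ) ^ (2 ^ (e - 1)) = -1 := by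
      have hev : Even (2 ^ (e - 1)) := by
        have : e - 1 = (e - 2) + 1 := by omega
        rw [this, pow_succ]; exact even_two.mul_left _
      rw [hev.neg_pow, hμhalf]
    constructor
    · rintro ⟨c, hc0, hc⟩
      right
      by_contra hlt
      have hae : a < e := by omega
      have hcN : c ^ N = 1 := FiniteField.pow_card_sub_one_eq_one c hc0
      set K := 2 ^ (e - 1 - a) * N' with hK
      have h1 : 2 * m * K = N * m' := by
        rw [hK]
        conv_lhs => rw [hm']
        conv_rhs => rw [hN']
        have : e = 1 + a + (e - 1 - a) := by omega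
        conv_rhs => rw [this, pow_add, pow_add]
        ring
      have h2 : m * K = 2 ^ (e - 1) * (m' * N') := by
        rw [hK]
        conv_lhs => rw [hm']
        have : e - 1 = a + (e - 1 - a) := by omega
        conv_rhs => rw [this, pow_add]
        ring
      have h3 := congrArg (fun x => x ^ K) hc
      simp only [one_pow, mul_pow] at h3
      rw [← pow_mul, ← pow_mul, h1, h2, pow_mul, hcN, one_pow, one_mul, pow_mul, hνhalf,
        (hm'odd.mul hN'odd).neg_one_pow] at h3
      exact hneg h3
    · rintro (h | h)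
      · exact absurd h hq1
      · have hea : e ≤ a := by omega
        refine ⟨1, one_ne_zero, ?_⟩
        rw [one_pow, one_mul, hm']
        have : a = e + (a - e) := by omega
        rw [this, pow_add, mul_assoc, pow_mul]
        have hev : Even (2 ^ e) := by
          have : e = (e - 1) + 1 := by omega
          rw [this, pow_succ]; exact even_two.mul_left _
        rw [hev.neg_pow, hμpow, one_pow]

end Cfsg.Agent.S2576
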