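import Cfsg.Statements.S2578
import Cfsg.Agent.Lib.Helper43.CyclicNilp2

set_option autoImplicit false
open Cfsg

namespace Cfsg.Agent.S2578
open Module Cfsg.Agent.Helper43

/-- The regular unipotent predicate. -/
def RU {F : Type*} [Field F] {n : ℕ} (A : Matrix (Fin n) (Fin n) F) : Prop :=
  (A - 1) ^ n = 0 ∧ (A - 1).rank = n - 1

/-- matrices as endomorphisms -/
noncomputable abbrev E {F : Type*} [Field F] {n : ℕ} :
    Matrix (Fin n) (Fin n) F ≃ₐ[F] Module.End F (Fin n → F) := Matrix.toLinAlgEquiv'

theorem ru_end {F : Type*} [Field F] {n : ℕ} (A : Matrix (Fin n) (Fin n) F) (hA : RU A) :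
    (E (A - 1)) ^ finrank F (Fin n → F) = 0 ∧ finrank F (LinearMap.ker (E (A - 1))) ≤ 1 := by
  have hfin : finrank F (Fin n → F) = n := by simp
  constructor
  · rw [hfin, ← map_pow, hA.1, map_zero]
  · have hfmv : E (A - 1) = Matrix.mulVecLin (A - 1) := by
      apply LinearMap.ext
      intro w
      simp [E]
    have h := (E (A - 1)).finrank_range_add_finrank_ker
    have h2 : finrank F (LinearMap.range (E (A - 1))) = n - 1 := by
      rw [hfmv]; exact hA.2
    omega

/-- Any two regular unipotent elements are conjugate in GL. -/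
theorem exists_conj {F : Type*} [Field F] {n : ℕ} (hn : 1 ≤ n) (a b : GL (Fin n) F)
    (ha : RU (a : Matrix (Fin n) (Fin n) F)) (hb : RU (b : Matrix (Fin n) (Fin n) F)) :
    ∃ g : GL (Fin n) F, g * a = b * g := by
  have hfin : finrank F (Fin n → F) = n := by simp
  obtain ⟨h1, h2⟩ := ru_end _ ha
  obtain ⟨h3, h4⟩ := ru_end _ hb
  obtain ⟨g, hg⟩ := exists_linearEquiv_conj _ _ (by omega) h1 h2 h3 h4
  have hu0 : IsUnit (g : Module.End F (Fin n → F)) :=
    (Module.End.isUnit_iff _).mpr g.bijective
  have hu1 : IsUnit (E.symm (g : Module.End F (Fin n → F))) := hu0.map E.symm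
  have hEs : E (E.symm (g : Module.End F (Fin n → F))) = (g : Module.End F (Fin n → F)) :=
    E.apply_symm_apply _
  have hc1 : E.symm (g : Module.End F (Fin n → F)) * ((a : Matrix (Fin n) (Fin n) F) - 1) =
      ((b : Matrix (Fin n) (Fin n) F) - 1) * E.symm (g : Module.End F (Fin n → F)) := by
    apply E.injective
    rw [map_mul, map_mul, hEs]
    apply LinearMap.ext
    intro x
    exact hg x
  have hc2 : E.symm (g : Module.End F (Fin n → F)) * (a : Matrix (Fin n) (Fin n) F) =
      (b : Matrix (Fin n) (Fin n) F) * E.symm (g : Module.End F (Fin n → F)) := by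
    rw [mul_sub, sub_mul, mul_one, one_mul] at hc1
    exact sub_left_inj.mp hc1
  refine ⟨hu1.unit, ?_⟩
  apply Units.ext
  simpa using hc2

/-- The determinant of an element centralizing a regular unipotent is an `n`-th power. -/
theorem det_centralizer {F : Type*} [Field F] {n : ℕ} (hn : 1 ≤ n) (a k : GL (Fin n) F)
    (ha : RU (a : Matrix (Fin n) (Fin n) F)) (hk : k * a = a * k) :
    ∃ c : Fˣ, c ^ n = Matrix.GeneralLinearGroup.det k := by
  have hfin : finrank F (Fin n → F) = n := by simp
  obtain ⟨h1, h2⟩ := ru_end _ ha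
  have hk' : (k : Matrix (Fin n) (Fin n) F) * (a : Matrix (Fin n) (Fin n) F) =
      (a : Matrix (Fin n) (Fin n) F) * (k : Matrix (Fin n) (Fin n) F) := by
    have := congrArg (fun x : GL (Fin n) F => (x : Matrix (Fin n) (Fin n) F)) hk
    simpa using this
  have hcomm : Commute (E (k : Matrix (Fin n) (Fin n) F)) (E ((a : Matrix (Fin n) (Fin n) F) - 1)) := by
    show E _ * E _ = E _ * E _
    rw [← map_mul, ← map_mul, mul_sub, sub_mul, mul_one, one_mul, hk']
  obtain ⟨c, hc⟩ := exists_sub_smul_isNilpotent _ (by omega) h1 h2 _ hcomm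
  have hnil : IsNilpotent ((k : Matrix (Fin n) (Fin n) F) - c • (1 : Matrix (Fin n) (Fin n) F)) := by
    have := hc.map E.symm
    simpa using this
  have hdet : (k : Matrix (Fin n) (Fin n) F).det = c ^ n := by
    have := det_smul_one_add_nilpotent c _ hnil
    rw [Fintype.card_fin] at this
    rw [← this]
    congr 1
    abel
  have hdet0 : (k : Matrix (Fin n) (Fin n) F).det ≠ 0 := by
    have : IsUnit (k : Matrix (Fin n) (Fin n) F).det :=
      (Matrix.isUnit_iff_isUnit_det _).mp k.isUnit
    exact this.ne_zero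
  have hc0 : c ≠ 0 := by
    rintro rfl
    rw [zero_pow (by omega)] at hdet
    exact hdet0 hdet
  refine ⟨Units.mk0 c hc0, ?_⟩
  apply Units.ext
  rw [Units.val_pow_eq_pow_val, Units.val_mk0, Matrix.GeneralLinearGroup.val_det_apply, hdet]

/-- Conjugates of regular unipotents are regular unipotent. -/
theorem ru_conj {F : Type*} [Field F] {n : ℕ} (g : GL (Fin n) F) (A : Matrix (Fin n) (Fin n) F)
    (hA : RU A) : RU ((g : Matrix (Fin n) (Fin n) F) * A * ((g⁻¹ : GL (Fin n) F) : Matrix (Fin n) (Fin n) F)) := by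
  have e : (g : Matrix (Fin n) (Fin n) F) * A * ((g⁻¹ : GL (Fin n) F) : Matrix (Fin n) (Fin n) F) - 1 =
      (g : Matrix (Fin n) (Fin n) F) * (A - 1) * ((g⁻¹ : GL (Fin n) F) : Matrix (Fin n) (Fin n) F) := by
    rw [mul_sub, sub_mul, mul_one, Units.mul_inv]
  have hdet : IsUnit (g : Matrix (Fin n) (Fin n) F).det :=
    (Matrix.isUnit_iff_isUnit_det _).mp g.isUnit
  have hdet' : IsUnit ((g⁻¹ : GL (Fin n) F) : Matrix (Fin n) (Fin n) F).det :=
    (Matrix.isUnit_iff_isUnit_det _).mp (g⁻¹).isUnit
  constructor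
  · rw [e, Units.conj_pow, hA.1, mul_zero, zero_mul]
  · rw [e, Matrix.rank_mul_eq_left_of_isUnit_det _ _ hdet',
      Matrix.rank_mul_eq_right_of_isUnit_det _ _ hdet]
    exact hA.2

/-- The shift matrix. -/
def shift (F : Type*) [Field F] (n : ℕ) : Matrix (Fin n) (Fin n) F :=
  Matrix.of fun (i j : Fin n) => if (i : ℕ) = (j : ℕ) + 1 then (1 : F) else 0

theorem shift_pow (F : Type*) [Field F] (n : ℕ) (k : ℕ) :
    (shift F n) ^ k = Matrix.of fun (i j : Fin n) => if (i : ℕ) = (j : ℕ) + k then (1 : F) else 0 := by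
  induction k with
  | zero =>
    ext i j
    simp [Matrix.one_apply, Fin.ext_iff]
  | succ k ih =>
    rw [pow_succ, ih]
    ext i j
    rw [Matrix.mul_apply]
    simp only [Matrix.of_apply, shift]
    by_cases h : (i : ℕ) = (j : ℕ) + (k + 1)
    · rw [if_pos h]
      have hl : (j : ℕ) + 1 < n := by have := i.2; omega
      rw [Finset.sum_eq_single ⟨(j : ℕ) + 1, hl⟩]
      · have : (i : ℕ) = (j : ℕ) + 1 + k := by omega
        simp [this]
      · intro l _ hl'
        have : (l : ℕ) ≠ (j : ℕ) + 1 := fun h' => hl' (Fin.ext h')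
        simp [this]
      · simp
    · rw [if_neg h]
      apply Finset.sum_eq_zero
      intro l _
      by_cases h1 : (l : ℕ) = (j : ℕ) + 1
      · have : ¬ (i : ℕ) = (l : ℕ) + k := by omega
        simp [this]
      · simp [h1]

theorem shift_pow_self (F : Type*) [Field F] (n : ℕ) : (shift F n) ^ n = 0 := by
  rw [shift_pow]
  ext i j
  have : ¬ (i : ℕ) = (j : ℕ) + n := by have := i.2; omega
  simp [this]

theorem shift_mulVec (F : Type*) [Field F] (n : ℕ) (x : Fin n → F) (j : Fin n)
    (hj : (j : ℕ) + 1 < n) : (shift F n).mulVec x ⟨(j : ℕ) + 1, hj⟩ = x j := by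
  rw [Matrix.mulVec, dotProduct, Finset.sum_eq_single j]
  · simp [shift]
  · intro l _ hl
    have : ¬ (j : ℕ) = (l : ℕ) := fun h => hl (Fin.ext h.symm)
    simp [shift, this]
  · simp

theorem shift_ru (F : Type*) [Field F] (n : ℕ) (hn : 1 ≤ n) : RU (1 + shift F n) := by
  have hfin : finrank F (Fin n → F) = n := by simp
  have e : (1 + shift F n) - 1 = shift F n := by abel
  refine ⟨by rw [e]; exact shift_pow_self F n, ?_⟩
  rw [e]
  have h := (Matrix.mulVecLin (shift F n)).finrank_range_add_finrank_ker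
  have hr : (shift F n).rank = finrank F (LinearMap.range (Matrix.mulVecLin (shift F n))) := rfl
  -- kernel has dimension ≤ 1
  have hk1 : finrank F (LinearMap.ker (Matrix.mulVecLin (shift F n))) ≤ 1 := by
    let π : LinearMap.ker (Matrix.mulVecLin (shift F n)) →ₗ[F] F :=
      (LinearMap.proj (⟨n - 1, by omega⟩ : Fin n)) ∘ₗ (LinearMap.ker (Matrix.mulVecLin (shift F n))).subtype
    have hπ : Function.Injective π := by
      rw [← LinearMap.ker_eq_bot, LinearMap.ker_eq_bot']
      rintro ⟨x, hx⟩ hx0
      rw [LinearMap.mem_ker, Matrix.mulVecLin_apply] at hx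
      have hx0' : x ⟨n - 1, by omega⟩ = 0 := hx0
      apply Subtype.ext
      show x = 0
      funext j
      by_cases hj : (j : ℕ) + 1 < n
      · have := shift_mulVec F n x j hj
        rw [hx] at this
        exact this.symm
      · have : j = ⟨n - 1, by omega⟩ := Fin.ext (by have := j.2; simp; omega)
        rw [this]; exact hx0'
    have := LinearMap.finrank_le_finrank_of_injective hπ
    simpa using this
  have hk2 : 1 ≤ finrank F (LinearMap.ker (Matrix.mulVecLin (shift F n))) := by
    by_contra hcon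
    have h0 : finrank F (LinearMap.ker (Matrix.mulVecLin (shift F n))) = 0 := by omega
    have h1 := finrank_ker_pow_le (K := F) (V := Fin n → F) (Matrix.mulVecLin (shift F n)) n
    rw [h0, mul_zero] at h1
    have hpow : (Matrix.mulVecLin (shift F n) : Module.End F (Fin n → F)) ^ n = 0 := by
      have h2 : (E (shift F n)) ^ n = 0 := by
        rw [← map_pow, shift_pow_self, map_zero]
      have h3 : E (shift F n) = Matrix.mulVecLin (shift F n) := by
        apply LinearMap.ext
        intro w
        simp [E]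
      rw [← h3]; exact h2
    rw [hpow, LinearMap.ker_zero, finrank_top, hfin] at h1
    omega
  rw [hr]
  omega

theorem exists_ru (F : Type*) [Field F] (n : ℕ) (hn : 1 ≤ n) :
    ∃ u : Matrix.SpecialLinearGroup (Fin n) F, RU (u : Matrix (Fin n) (Fin n) F) := by
  have hdet : (1 + shift F n).det = 1 := by
    have := det_smul_one_add_nilpotent (1 : F) (shift F n) ⟨n, shift_pow_self F n⟩
    rw [one_smul, one_pow] at this
    exact this
  exact ⟨⟨1 + shift F n, hdet⟩, shift_ru F n hn⟩

/-- Two conjugating elements differ by an `n`-th power in determinant. -/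
theorem det_class_eq {F : Type*} [Field F] {n : ℕ} (hn : 1 ≤ n) (a b g g' : GL (Fin n) F)
    (ha : RU (a : Matrix (Fin n) (Fin n) F)) (hg : g * a = b * g) (hg' : g' * a = b * g') :
    ∃ c : Fˣ, c ^ n = (Matrix.GeneralLinearGroup.det g)⁻¹ * Matrix.GeneralLinearGroup.det g' := by
  have h1 : a * g⁻¹ = g⁻¹ * b := by
    rw [mul_inv_eq_iff_eq_mul, mul_assoc, ← hg, ← mul_assoc, inv_mul_cancel, one_mul]
  have hk : (g⁻¹ * g') * a = a * (g⁻¹ * g') := by
    rw [mul_assoc, hg', ← mul_assoc, ← h1, mul_assoc]
  obtain ⟨c, hc⟩ := det_centralizer hn a _ ha hk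
  exact ⟨c, by rw [hc, map_mul, map_inv]⟩

theorem isConj_of_gl {F : Type*} [Field F] {n : ℕ} (u u' : Matrix.SpecialLinearGroup (Fin n) F)
    (h : GL (Fin n) F) (hdet : Matrix.GeneralLinearGroup.det h = 1)
    (hh : h * Matrix.SpecialLinearGroup.toGL u = Matrix.SpecialLinearGroup.toGL u' * h) :
    IsConj u u' := by
  have hd : (h : Matrix (Fin n) (Fin n) F).det = 1 := by
    have := congrArg Units.val hdet
    simpa using this
  let hS : Matrix.SpecialLinearGroup (Fin n) F := ⟨(h : Matrix (Fin n) (Fin n) F), hd⟩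
  have e : Matrix.SpecialLinearGroup.toGL hS = h := Units.ext rfl
  have h2 : hS * u = u' * hS := by
    apply Matrix.SpecialLinearGroup.toGL_injective
    rw [map_mul, map_mul, e]
    exact hh
  rw [isConj_iff]
  exact ⟨hS, by rw [h2]; group⟩

/-- Regular unipotent classes of SL_n(q): for n ≥ 2 over the field with q elements, the matrices u of determinant one with (u − 1)^n = 0 and rank(u − 1) = n − 1 form a single GL_n(q)-class which splits into exactly gcd(n, q − 1) conjugacy classes of SL_n(q). -/
theorem result {F : Type*} [Field F] [Fintype F] {q : ℕ} (hF : Fintype.card F = q) {n : ℕ} (hn : 2 ≤ n) : Nat.card {C : ConjClasses (Matrix.SpecialLinearGroup (Fin n) F) // ∃ u : Matrix.SpecialLinearGroup (Fin n) F, ConjClasses.mk u = C ∧ ((u : Matrix (Fin n) (Fin n) F) - 1) ^ n = 0 ∧ ((u : Matrix (Fin n) (Fin n) F) - 1).rank = n - 1} = Nat.gcd n (q - 1) := by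
  classical
  have hn1 : 1 ≤ n := by omega
  have : Nonempty (Fin n) := ⟨⟨0, by omega⟩⟩
  obtain ⟨u₀, hu₀⟩ := exists_ru F n hn1
  have hex : ∀ u : Matrix.SpecialLinearGroup (Fin n) F, RU (u : Matrix (Fin n) (Fin n) F) →
      ∃ g : GL (Fin n) F, g * Matrix.SpecialLinearGroup.toGL u₀ =
        Matrix.SpecialLinearGroup.toGL u * g :=
    fun u hu => exists_conj hn1 _ _ hu₀ hu
  let φ : {C : ConjClasses (Matrix.SpecialLinearGroup (Fin n) F) // ∃ u : Matrix.SpecialLinearGroup (Fin n) F, ConjClasses.mk u = C ∧ ((u : Matrix (Fin n) (Fin n) F) - 1) ^ n = 0 ∧ ((u : Matrix (Fin n) (Fin n) F) - 1).rank = n - 1} →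
      Fˣ ⧸ (powMonoidHom n : Fˣ →* Fˣ).range := fun C =>
    QuotientGroup.mk (Matrix.GeneralLinearGroup.det
      (Classical.choose (hex (Classical.choose C.2) (Classical.choose_spec C.2).2)))
  have hkey : ∀ (C : {C : ConjClasses (Matrix.SpecialLinearGroup (Fin n) F) // ∃ u : Matrix.SpecialLinearGroup (Fin n) F, ConjClasses.mk u = C ∧ ((u : Matrix (Fin n) (Fin n) F) - 1) ^ n = 0 ∧ ((u : Matrix (Fin n) (Fin n) F) - 1).rank = n - 1})
      (u : Matrix.SpecialLinearGroup (Fin n) F) (hC : ConjClasses.mk u = C.1) (g : GL (Fin n) F)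
      (hg : g * Matrix.SpecialLinearGroup.toGL u₀ = Matrix.SpecialLinearGroup.toGL u * g),
      φ C = QuotientGroup.mk (Matrix.GeneralLinearGroup.det g) := by
    intro C u hC g hg
    have hu' := Classical.choose_spec C.2
    have hg' := Classical.choose_spec (hex (Classical.choose C.2) (Classical.choose_spec C.2).2)
    have hconj : IsConj u (Classical.choose C.2) :=
      ConjClasses.mk_eq_mk_iff_isConj.mp (hC.trans hu'.1.symm)
    obtain ⟨h, hh⟩ := isConj_iff.mp hconj
    have hh' : h * u = Classical.choose C.2 * h := by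
      rw [← hh]; group
    have h2 : (Matrix.SpecialLinearGroup.toGL h * g) * Matrix.SpecialLinearGroup.toGL u₀ =
        Matrix.SpecialLinearGroup.toGL (Classical.choose C.2) *
          (Matrix.SpecialLinearGroup.toGL h * g) := by
      rw [mul_assoc, hg, ← mul_assoc, ← mul_assoc, ← map_mul, ← map_mul, hh']
    obtain ⟨c, hc⟩ := det_class_eq hn1 _ _ _ _ hu₀ h2 hg'
    show QuotientGroup.mk _ = QuotientGroup.mk _
    symm
    rw [QuotientGroup.eq]
    refine ⟨c, ?_⟩
    rw [powMonoidHom_apply, hc, map_mul, Matrix.SpecialLinearGroup.coeToGL_det, one_mul]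
  have hφ : Function.Bijective φ := by
    constructor
    · intro C C' hCC'
      have hu := Classical.choose_spec C.2
      have hg := Classical.choose_spec (hex (Classical.choose C.2) (Classical.choose_spec C.2).2)
      have hu' := Classical.choose_spec C'.2
      have hg' := Classical.choose_spec (hex (Classical.choose C'.2) (Classical.choose_spec C'.2).2)
      have hq : (QuotientGroup.mk (Matrix.GeneralLinearGroup.det
          (Classical.choose (hex (Classical.choose C.2) (Classical.choose_spec C.2).2))) :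
            Fˣ ⧸ (powMonoidHom n : Fˣ →* Fˣ).range) =
          QuotientGroup.mk (Matrix.GeneralLinearGroup.det
          (Classical.choose (hex (Classical.choose C'.2) (Classical.choose_spec C'.2).2))) := hCC'
      rw [QuotientGroup.eq] at hq
      obtain ⟨c, hc⟩ := hq
      rw [powMonoidHom_apply] at hc
      generalize Classical.choose (hex (Classical.choose C.2) (Classical.choose_spec C.2).2) = g at *
      generalize Classical.choose (hex (Classical.choose C'.2) (Classical.choose_spec C'.2).2) = g' at *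
      generalize Classical.choose C.2 = u at *
      generalize Classical.choose C'.2 = u' at *
      have h1 : Matrix.SpecialLinearGroup.toGL u₀ * g⁻¹ = g⁻¹ * Matrix.SpecialLinearGroup.toGL u := by
        rw [mul_inv_eq_iff_eq_mul, mul_assoc, ← hg, ← mul_assoc, inv_mul_cancel, one_mul]
      have hconj : IsConj u u' := by
        apply isConj_of_gl u u' (g' * Matrix.GeneralLinearGroup.scalar (Fin n) c⁻¹ * g⁻¹)
        · rw [map_mul, map_mul, Matrix.GeneralLinearGroup.det_scalar, Fintype.card_fin, map_inv,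
            inv_pow, hc]
          have key : ∀ x y : Fˣ, x * (y⁻¹ * x)⁻¹ * y⁻¹ = 1 := by
            intro x y
            rw [mul_inv_rev, inv_inv, ← mul_assoc, mul_inv_cancel, one_mul, mul_inv_cancel]
          exact key _ _
        · rw [mul_assoc, ← h1, ← mul_assoc, mul_assoc g',
            Matrix.GeneralLinearGroup.scalar_commute, ← mul_assoc, hg', mul_assoc, mul_assoc,
            mul_assoc]
      apply Subtype.ext
      rw [← hu.1, ← hu'.1]
      exact ConjClasses.mk_eq_mk_iff_isConj.mpr hconj
    · intro x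
      obtain ⟨d, rfl⟩ := QuotientGroup.mk_surjective x
      obtain ⟨g, hg⟩ := Matrix.GeneralLinearGroup.det_surjective (n := Fin n) (R := F) d
      have hUdet : ((g * Matrix.SpecialLinearGroup.toGL u₀ * g⁻¹ : GL (Fin n) F) :
          Matrix (Fin n) (Fin n) F).det = 1 := by
        have h1 : Matrix.GeneralLinearGroup.det (g * Matrix.SpecialLinearGroup.toGL u₀ * g⁻¹) = 1 := by
          rw [map_mul, map_mul, Matrix.SpecialLinearGroup.coeToGL_det, mul_one, map_inv,
            mul_inv_cancel]
        rw [← Matrix.GeneralLinearGroup.val_det_apply, h1, Units.val_one]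
      let u : Matrix.SpecialLinearGroup (Fin n) F :=
        ⟨((g * Matrix.SpecialLinearGroup.toGL u₀ * g⁻¹ : GL (Fin n) F) :
          Matrix (Fin n) (Fin n) F), hUdet⟩
      have hu : Matrix.SpecialLinearGroup.toGL u = g * Matrix.SpecialLinearGroup.toGL u₀ * g⁻¹ :=
        Units.ext rfl
      have hRU : RU (u : Matrix (Fin n) (Fin n) F) := ru_conj g _ hu₀
      refine ⟨⟨ConjClasses.mk u, u, rfl, hRU⟩, ?_⟩
      rw [hkey _ u rfl g (by rw [hu]; group), hg]
  rw [Nat.card_congr (Equiv.ofBijective φ hφ)]
  have h1 : Nat.card (Fˣ ⧸ (powMonoidHom n : Fˣ →* Fˣ).range) =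
      (powMonoidHom n : Fˣ →* Fˣ).range.index := rfl
  rw [h1, IsCyclic.index_powMonoidHom_range, Nat.card_units, Nat.card_eq_fintype_card, hF,
    Nat.gcd_comm]

end Cfsg.Agent.S2578
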