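import Cfsg.Statements.S2579
import Mathlib
import Cfsg.Agent.S2162

set_option autoImplicit false
open Cfsg

namespace Cfsg.Agent.S2579

open Matrix Module

variable {F : Type*} [Field F]

/-- a square-zero endomorphism whose rank is less than half the dimension has centralizing
elements of arbitrary determinant -/
theorem exists_centralizer_any_det {V : Type*} [AddCommGroup V] [Module F V] [FiniteDimensional F V]
    (N : V →ₗ[F] V) (hN : ∀ x, N (N x) = 0)
    (hlt : 2 * finrank F (LinearMap.range N) < finrank F V) (ε : F) :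
    ∃ c : V →ₗ[F] V, (∀ u, c (N u) = N (c u)) ∧ LinearMap.det c = ε := by
  classical
  set ℓ := finrank F (LinearMap.range N) with hℓ
  obtain ⟨w, hw⟩ : ∃ w, finrank F V = ℓ + ((w + 1) + ℓ) := ⟨finrank F V - (ℓ + ℓ) - 1, by omega⟩
  obtain ⟨b, hb1, hb2, hb3⟩ := Cfsg.Agent.S2162.exists_adapted_basis N hN ℓ (w + 1) rfl hw
  set a₀ : Fin ℓ ⊕ (Fin (w + 1) ⊕ Fin ℓ) := Sum.inr (Sum.inl 0) with ha₀
  set s : Fin ℓ ⊕ (Fin (w + 1) ⊕ Fin ℓ) → F := fun a => if a = a₀ then ε else 1 with hs
  set c : V →ₗ[F] V := b.constr F (fun a => s a • b a) with hc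
  have hcb : ∀ a, c (b a) = s a • b a := by
    intro a
    rw [hc, Basis.constr_basis]
  have hs1 : ∀ i, s (Sum.inl i) = 1 := by
    intro i
    simp [hs, ha₀]
  have hs2 : ∀ i, s (Sum.inr (Sum.inr i)) = 1 := by
    intro i
    simp [hs, ha₀]
  refine ⟨c, ?_, ?_⟩
  · have : c ∘ₗ N = N ∘ₗ c := by
      apply b.ext
      rintro (i | j | i)
      · simp only [LinearMap.comp_apply, hcb, hb1, map_smul, hs1, hs2]
      · simp only [LinearMap.comp_apply, hcb, hb2, map_smul, map_zero, smul_zero]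
      · simp only [LinearMap.comp_apply, hcb, hb3, map_smul, map_zero, smul_zero]
    intro u
    exact LinearMap.congr_fun this u
  · rw [← LinearMap.det_toMatrix b]
    have hdiag : LinearMap.toMatrix b b c = Matrix.diagonal s := by
      ext a a'
      rw [LinearMap.toMatrix_apply, hcb, map_smul, b.repr_self, Matrix.diagonal_apply]
      by_cases haa : a = a'
      · subst haa; simp
      · simp [haa]
    rw [hdiag, Matrix.det_diagonal, hs, Finset.prod_ite_eq']
    simp

/-- matrix version -/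
theorem exists_centralizer_matrix {n : ℕ} (N : Matrix (Fin n) (Fin n) F) (hN : N * N = 0)
    (hlt : 2 * N.rank < n) (ε : F) :
    ∃ C : Matrix (Fin n) (Fin n) F, C * N = N * C ∧ C.det = ε := by
  have hN' : ∀ x, Matrix.toLin' N (Matrix.toLin' N x) = 0 := by
    intro x
    rw [← LinearMap.comp_apply, ← Matrix.toLin'_mul, hN]
    simp
  have hlt' : 2 * finrank F (LinearMap.range (Matrix.toLin' N)) < finrank F (Fin n → F) := by
    rw [Module.finrank_fin_fun]
    exact hlt
  obtain ⟨c, hc1, hc2⟩ := exists_centralizer_any_det (Matrix.toLin' N) hN' hlt' ε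
  refine ⟨LinearMap.toMatrix' c, ?_, ?_⟩
  · apply Matrix.toLin'.injective
    rw [Matrix.toLin'_mul, Matrix.toLin'_mul, Matrix.toLin'_toMatrix']
    apply LinearMap.ext
    intro x
    simp only [LinearMap.comp_apply]
    exact hc1 x
  · rw [LinearMap.det_toMatrix', hc2]

/-- In SL_n(F) with n ≥ 3, over a finite field F, any two transvections (matrices t with t − 1 of rank one and square zero) are conjugate by an element of SL_n(F). -/
theorem result {F : Type*} [Field F] [Finite F] {n : ℕ} (hn : 3 ≤ n) (s t : Matrix.SpecialLinearGroup (Fin n) F) (hs : Cfsg.IsTransvection (s : Matrix (Fin n) (Fin n) F)) (ht : Cfsg.IsTransvection (t : Matrix (Fin n) (Fin n) F)) : IsConj s t := by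
  obtain ⟨hs1, hs2⟩ := hs
  obtain ⟨ht1, ht2⟩ := ht
  obtain ⟨G, hGdet, hG⟩ := Cfsg.Agent.S2162.exists_conj_matrix (s : Matrix (Fin n) (Fin n) F)
    (t : Matrix (Fin n) (Fin n) F) hs2 ht2 (by rw [hs1, ht1])
  have hG0 : G.det ≠ 0 := hGdet.ne_zero
  obtain ⟨C, hCN, hCdet⟩ := exists_centralizer_matrix ((s : Matrix (Fin n) (Fin n) F) - 1) hs2
    (by rw [hs1]; omega) (G.det)⁻¹
  have hCA : C * (s : Matrix (Fin n) (Fin n) F) = (s : Matrix (Fin n) (Fin n) F) * C := by
    rw [Matrix.mul_sub, Matrix.sub_mul, Matrix.mul_one, Matrix.one_mul] at hCN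
    exact sub_left_injective hCN
  have hdet : (G * C).det = 1 := by
    rw [Matrix.det_mul, hCdet, mul_inv_cancel₀ hG0]
  let h : Matrix.SpecialLinearGroup (Fin n) F := ⟨G * C, hdet⟩
  apply isConj_iff.mpr
  refine ⟨h, ?_⟩
  rw [mul_inv_eq_iff_eq_mul]
  apply Subtype.ext
  rw [Matrix.SpecialLinearGroup.coe_mul, Matrix.SpecialLinearGroup.coe_mul]
  show G * C * (s : Matrix (Fin n) (Fin n) F) = (t : Matrix (Fin n) (Fin n) F) * (G * C)
  rw [Matrix.mul_assoc, hCA, ← Matrix.mul_assoc, hG, Matrix.mul_assoc]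

end Cfsg.Agent.S2579
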