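import Cfsg.Statements.S2586
import Cfsg.Agent.Lib.Helper43.SimTranspose

set_option autoImplicit false
open Cfsg

namespace Cfsg.Agent.S2586

open Matrix

theorem result {F : Type*} [Field F] [Finite F] {m : ℕ} (A : Matrix.symplecticGroup (Fin m) F) : IsConj (A : Matrix (Fin m ⊕ Fin m) (Fin m ⊕ Fin m) F) ((A⁻¹ : Matrix.symplecticGroup (Fin m) F) : Matrix (Fin m ⊕ Fin m) (Fin m ⊕ Fin m) F) := by
  have h1 := Cfsg.Agent.Helper43.isConj_transpose (A : Matrix (Fin m ⊕ Fin m) (Fin m ⊕ Fin m) F)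
  refine h1.trans ?_
  rw [SymplecticGroup.coe_inv]
  have hJ1 : (-J (Fin m) F) * J (Fin m) F = 1 := by
    rw [neg_mul, J_squared, neg_neg]
  have hJ2 : J (Fin m) F * (-J (Fin m) F) = 1 := by
    rw [mul_neg, J_squared, neg_neg]
  refine ⟨⟨-J (Fin m) F, J (Fin m) F, hJ1, hJ2⟩, ?_⟩
  show -J (Fin m) F * (A : Matrix (Fin m ⊕ Fin m) (Fin m ⊕ Fin m) F)ᵀ
    = -J (Fin m) F * (A : Matrix (Fin m ⊕ Fin m) (Fin m ⊕ Fin m) F)ᵀ * J (Fin m) F * -J (Fin m) F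
  rw [Matrix.mul_assoc (-J (Fin m) F * (A : Matrix (Fin m ⊕ Fin m) (Fin m ⊕ Fin m) F)ᵀ), hJ2,
    Matrix.mul_one]

end Cfsg.Agent.S2586
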