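import Cfsg.Statements.S2597
import Mathlib
import Cfsg.Agent.S2172
import Cfsg.Agent.S2595

set_option autoImplicit false
open Cfsg

namespace Cfsg.Agent.S2597

open Matrix Module Cfsg.Agent.Helper36 Cfsg.Agent.Helper36.TotSing Cfsg.Agent.S2168
  Cfsg.Agent.S0831 Cfsg.Agent.Helper36.PlusOrth

universe u

variable {F : Type u} [Field F] [Fintype F] [CharP F 2] {m : ℕ}

/-! ### the Dickson-type invariant of an involution is the parity of its rank -/

omit [Fintype F] in
theorem uS_fix (S : Matrix (Fin m) (Fin m) F) (hS : IsAltM S) (v : Fin m ⊕ Fin m → F)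
    (hv : v ∈ stdL m F) : actHom m F (uS S hS) v = v := by
  rw [mem_stdL] at hv
  have h0 : v ∘ Sum.inr = (0 : Fin m → F) := by
    funext j
    exact hv j
  unfold uS
  rw [act_mkOM, fromBlocks_mulVec, h0]
  simp only [one_mulVec, mulVec_zero, add_zero, zero_mulVec]
  rw [← h0]
  exact Sum.elim_comp_inl_inr v

omit [Fintype F] in
theorem dnat_uS (S : Matrix (Fin m) (Fin m) F) (hS : IsAltM S) : dnat (uS S hS) = 0 := by
  have h1 : imgL (uS S hS) = stdL m F := by
    unfold imgL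
    ext w
    constructor
    · rintro ⟨v, hv, rfl⟩
      rw [LinearEquiv.coe_coe, uS_fix S hS v hv]
      exact hv
    · intro hw
      exact ⟨w, hw, uS_fix S hS w hw⟩
  unfold dnat
  rw [h1, inf_idem, stdL_mts.1, Nat.sub_self]

theorem dnat_rank (hm : 1 ≤ m) : ∀ (r : ℕ) (t : OPlus m F), t * t = 1 →
    ((t.1 : Matrix (Fin m ⊕ Fin m) (Fin m ⊕ Fin m) F) - 1).rank = r → Even (dnat t + r) := by
  intro r
  induction r using Nat.strong_induction_on with
  | _ r ih =>
    intro t ht hr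
    by_cases halt : ∀ v, Bp m F v (actHom m F t v) = 0
    · have hev := even_rank_of_alt' t ht halt
      rw [hr] at hev
      have hd : Even (dnat t) := by
        by_cases h1 : t = 1
        · rw [h1, dnat_one]
          exact ⟨0, rfl⟩
        · have ho := orderOf_eq_two t ht h1
          obtain ⟨x, hx⟩ := Cfsg.Agent.S2595.exists_rep hm t ho
          obtain ⟨_, h2⟩ := Cfsg.Agent.S2595.invariants_of_conjO _ _ hx
          obtain ⟨j, rfl⟩ := (Cfsg.Agent.S2595.type_rep x).mp (h2.mpr halt)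
          obtain ⟨c, hc⟩ := isConj_iff.mp hx
          have h3 := dnat_conj_cast c (Cfsg.Agent.S2595.rep (F := F) (Sum.inr j))
          rw [hc] at h3
          have h4 : dnat (Cfsg.Agent.S2595.rep (F := F) (m := m) (Sum.inr j)) = 0 :=
            dnat_uS (Cfsg.Agent.S2593.amat F m j + (Cfsg.Agent.S2593.amat F m j)ᵀ)
              (isAlt_sym (Cfsg.Agent.S2593.amat F m j))
          rw [h4] at h3
          apply (ZMod.natCast_eq_zero_iff_even (n := dnat t)).mp
          rw [h3]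
          simp
      exact Even.add hd hev
    · push Not at halt
      obtain ⟨v, hv⟩ := halt
      obtain ⟨a, ha, hsq, hrk⟩ := peel t ht v hv
      have hlt : ((((refl a ha * t).1 : GL (Fin m ⊕ Fin m) F) :
          Matrix (Fin m ⊕ Fin m) (Fin m ⊕ Fin m) F) - 1).rank < r := by omega
      have h1 := ih _ hlt (refl a ha * t) hsq rfl
      have h2 := dnat_mul (refl a ha) t
      rw [dnat_refl] at h2
      obtain ⟨p, hp⟩ := h1
      obtain ⟨q, hq⟩ := h2
      exact ⟨p + q - dnat (refl a ha * t), by omega⟩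

/-- membership of involutions in `Ω⁺`, all dimensions -/
theorem mem_Omega_iff_even_plus (hm : 1 ≤ m) (h : Fintype.card F ≠ 2 ∨ m ≠ 2) (t : OPlus m F)
    (ht : t * t = 1) :
    t ∈ Cfsg.Omega F (Cfsg.quadFormPlus m F) ↔
      Even ((t.1 : Matrix (Fin m ⊕ Fin m) (Fin m ⊕ Fin m) F) - 1).rank := by
  rw [Cfsg.Agent.S2630.mem_Omega_iff_dnat hm h t]
  have h1 := dnat_rank hm _ t ht rfl
  constructor
  · intro h2
    exact (Nat.even_add.mp h1).mp h2
  · intro h2
    exact (Nat.even_add.mp h1).mpr h2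

/-! ### the reflection used to move between the two `Ω`-classes -/

/-- a non-singular vector -/
def a0 (hm : 1 ≤ m) : Fin m ⊕ Fin m → F :=
  Pi.single (Sum.inl (⟨0, hm⟩ : Fin m)) 1 + Pi.single (Sum.inr (⟨0, hm⟩ : Fin m)) 1

omit [Fintype F] [CharP F 2] in
theorem Q_a0 (hm : 1 ≤ m) : Cfsg.quadFormPlus m F (a0 hm) = 1 := by
  unfold a0 Cfsg.quadFormPlus
  rw [Finset.sum_eq_single (⟨0, hm⟩ : Fin m)]
  · simp
  · intro b _ hb
    simp [hb]
  · intro hcon
    exact absurd (Finset.mem_univ _) hcon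

omit [Fintype F] [CharP F 2] in
theorem Q_a0_ne (hm : 1 ≤ m) : Cfsg.quadFormPlus m F (a0 (F := F) hm) ≠ 0 := by
  rw [Q_a0]
  exact one_ne_zero

/-- the reflection -/
noncomputable def r0 (hm : 1 ≤ m) : OPlus m F := refl (a0 hm) (Q_a0_ne hm)

omit [Fintype F] in
theorem r0_sq (hm : 1 ≤ m) : r0 (F := F) hm * r0 hm = 1 := refl_mul_self _ _

omit [Fintype F] in
theorem r0_inv (hm : 1 ≤ m) : (r0 (F := F) hm)⁻¹ = r0 hm :=
  inv_eq_of_mul_eq_one_right (r0_sq hm)

theorem r0_not_mem (hm : 1 ≤ m) (h : Fintype.card F ≠ 2 ∨ m ≠ 2) :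
    r0 (F := F) hm ∉ Cfsg.Omega F (Cfsg.quadFormPlus m F) := by
  rw [Cfsg.Agent.S2630.mem_Omega_iff_dnat hm h]
  unfold r0
  rw [dnat_refl]
  decide

/-- the two conjugating elements of an involution of maximal rank and alternating type to the
same element lie in `Ω` together -/
theorem conj_parity (hm : 1 ≤ m) (h : Fintype.card F ≠ 2 ∨ m ≠ 2) (t : OPlus m F)
    (hr : ((t.1 : Matrix (Fin m ⊕ Fin m) (Fin m ⊕ Fin m) F) - 1).rank = m)
    (halt : ∀ v, Bp m F v (actHom m F t v) = 0) (g₁ g₂ : OPlus m F)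
    (h12 : g₁ * t * g₁⁻¹ = g₂ * t * g₂⁻¹) :
    g₁ ∈ Cfsg.Omega F (Cfsg.quadFormPlus m F) ↔ g₂ ∈ Cfsg.Omega F (Cfsg.quadFormPlus m F) := by
  have hP : ∀ v : Fin m ⊕ Fin m → F, Cfsg.quadFormPlus m F
      (v + (t.1 : Matrix (Fin m ⊕ Fin m) (Fin m ⊕ Fin m) F) *ᵥ v) = 0 := by
    intro v
    rw [← actHom_apply, isQuad_plus.add, Q_act, halt, add_zero]
    exact char_two_add_self _
  have hM := Cfsg.Agent.S2172.Lt_mts t hr hP
  rw [Cfsg.Agent.S2630.mem_Omega_iff_dnat hm h g₁, Cfsg.Agent.S2630.mem_Omega_iff_dnat hm h g₂]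
  have h1 := Cfsg.Agent.S2172.parity_conj g₁ _ hM
  have h2 := Cfsg.Agent.S2172.parity_conj g₂ _ hM
  rw [← Cfsg.Agent.S2172.Lt_conj] at h1 h2
  rw [h12] at h1
  obtain ⟨p, hp⟩ := h1
  obtain ⟨q, hq⟩ := h2
  constructor
  · rintro ⟨c, hc⟩
    exact ⟨q + c - p, by omega⟩
  · rintro ⟨c, hc⟩
    exact ⟨p + c - q, by omega⟩

/-! ### the representatives -/

/-- even-rank indices -/
def base : Fin (m / 2) ⊕ Fin (m / 2) → Fin m ⊕ Fin (m / 2)
  | Sum.inl j => Sum.inl ⟨2 * j.val + 1, by have := j.isLt; omega⟩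
  | Sum.inr j => Sum.inr j

theorem base_injective : Function.Injective (base (m := m)) := by
  intro x y h
  rcases x with j | j <;> rcases y with j' | j'
  · simp only [base, Sum.inl.injEq, Fin.mk.injEq] at h
    congr 1
    exact Fin.ext (by omega)
  · simp [base] at h
  · simp [base] at h
  · simp only [base, Sum.inr.injEq] at h
    rw [h]

theorem even_rk_base (x : Fin (m / 2) ⊕ Fin (m / 2)) : Even (Cfsg.Agent.S2593.rk (base x)) := by
  rcases x with j | j
  · exact ⟨j.val + 1, by simp only [base, Cfsg.Agent.S2593.rk]; omega⟩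
  · exact ⟨j.val + 1, by simp only [base, Cfsg.Agent.S2593.rk]; omega⟩

theorem exists_base (x₀ : Fin m ⊕ Fin (m / 2)) (h : Even (Cfsg.Agent.S2593.rk x₀)) :
    ∃ x, base x = x₀ := by
  rcases x₀ with i | j
  · obtain ⟨r, hr⟩ := h
    simp only [Cfsg.Agent.S2593.rk] at hr
    have hi := i.isLt
    refine ⟨Sum.inl ⟨r - 1, by omega⟩, ?_⟩
    simp only [base]
    congr 1
    exact Fin.ext (by simp only []; omega)
  · exact ⟨Sum.inr j, rfl⟩

/-- the index of the class that splits -/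
def jtop (h2 : 0 < m / 2) : Fin (m / 2) := ⟨m / 2 - 1, by omega⟩

theorem half_pos (hm : 1 ≤ m) (he : Even m) : 0 < m / 2 := by
  obtain ⟨c, hc⟩ := he
  omega

/-- the index type of the classes -/
abbrev J (m : ℕ) : Type := (Fin (m / 2) ⊕ Fin (m / 2)) ⊕ {_z : Unit // Even m}

/-- the `O`-class of a representative -/
def lab (hm : 1 ≤ m) : J m → Fin m ⊕ Fin (m / 2)
  | Sum.inl x => base x
  | Sum.inr z => Sum.inr (jtop (half_pos hm z.2))

/-- the representatives of the `Ω`-classes -/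
noncomputable def repJ (hm : 1 ≤ m) : J m → OPlus m F
  | Sum.inl x => Cfsg.Agent.S2595.rep (base x)
  | Sum.inr z => r0 hm * Cfsg.Agent.S2595.rep (Sum.inr (jtop (half_pos hm z.2))) * (r0 hm)⁻¹

omit [Fintype F] in
theorem conj_lab (hm : 1 ≤ m) (x : J m) :
    ∃ c : OPlus m F, c * Cfsg.Agent.S2595.rep (F := F) (lab hm x) * c⁻¹ = repJ hm x := by
  rcases x with x | z
  · exact ⟨1, by simp [lab, repJ]⟩
  · exact ⟨r0 hm, rfl⟩

omit [Fintype F] in
theorem repJ_sq (hm : 1 ≤ m) (x : J m) : repJ (F := F) hm x * repJ hm x = 1 := by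
  obtain ⟨c, hc⟩ := conj_lab (F := F) hm x
  rw [← hc]
  calc c * Cfsg.Agent.S2595.rep (lab hm x) * c⁻¹ * (c * Cfsg.Agent.S2595.rep (lab hm x) * c⁻¹)
      = c * (Cfsg.Agent.S2595.rep (lab hm x) * Cfsg.Agent.S2595.rep (lab hm x)) * c⁻¹ := by group
    _ = 1 := by rw [Cfsg.Agent.S2595.rep_sq]; group

theorem rank_repJ (hm : 1 ≤ m) (x : J m) :
    (((repJ (F := F) hm x).1 : Matrix (Fin m ⊕ Fin m) (Fin m ⊕ Fin m) F) - 1).rank =
      Cfsg.Agent.S2593.rk (lab hm x) := by
  obtain ⟨c, hc⟩ := conj_lab (F := F) hm x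
  have h1 := (Cfsg.Agent.S2595.invariants_of_conjO _ _ (isConj_iff.mpr ⟨c, hc⟩)).1
  rw [← h1, Cfsg.Agent.S2595.rank_rep]

theorem even_rk_lab (hm : 1 ≤ m) (x : J m) : Even (Cfsg.Agent.S2593.rk (lab hm x)) := by
  rcases x with x | z
  · exact even_rk_base x
  · exact ⟨m / 2 - 1 + 1, by simp only [lab, jtop, Cfsg.Agent.S2593.rk]; omega⟩

theorem repJ_mem (hm : 1 ≤ m) (h : Fintype.card F ≠ 2 ∨ m ≠ 2) (x : J m) :
    repJ (F := F) hm x ∈ Cfsg.Omega F (Cfsg.quadFormPlus m F) := by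
  rw [mem_Omega_iff_even_plus hm h _ (repJ_sq hm x), rank_repJ]
  exact even_rk_lab hm x

theorem repJ_order (hm : 1 ≤ m) (x : J m) : orderOf (repJ (F := F) hm x) = 2 := by
  apply orderOf_eq_two _ (repJ_sq hm x)
  intro h1
  have h2 := rank_repJ (F := F) hm x
  rw [h1] at h2
  have h3 : (((1 : OPlus m F).1 : Matrix (Fin m ⊕ Fin m) (Fin m ⊕ Fin m) F) - 1).rank = 0 := by
    simp
  rw [h3] at h2
  rcases x with x | z
  · rcases x with j | j <;> simp [lab, base, Cfsg.Agent.S2593.rk] at h2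
  · simp [lab, Cfsg.Agent.S2593.rk] at h2

omit [Fintype F] in
/-- the top alternating representative has maximal rank -/
theorem rank_top (hm : 1 ≤ m) (he : Even m) :
    (((Cfsg.Agent.S2595.rep (F := F) (Sum.inr (jtop (half_pos hm he)))).1 :
      Matrix (Fin m ⊕ Fin m) (Fin m ⊕ Fin m) F) - 1).rank = m := by
  rw [Cfsg.Agent.S2595.rank_rep]
  obtain ⟨c, hc⟩ := he
  simp only [Cfsg.Agent.S2593.rk, jtop]
  omega

omit [Fintype F] in
theorem alt_top (j : Fin (m / 2)) :
    ∀ v, Bp m F v (actHom m F (Cfsg.Agent.S2595.rep (F := F) (Sum.inr j)) v) = 0 :=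
  (Cfsg.Agent.S2595.type_rep (Sum.inr j)).mpr ⟨j, rfl⟩

/-! ### the count -/

theorem repJ_injective (hm : 1 ≤ m) (h : Fintype.card F ≠ 2 ∨ m ≠ 2) (x y : J m)
    (g : OPlus m F) (hg : g ∈ Cfsg.Omega F (Cfsg.quadFormPlus m F))
    (hconj : g * repJ (F := F) hm x * g⁻¹ = repJ hm y) : x = y := by
  obtain ⟨cx, hcx⟩ := conj_lab (F := F) hm x
  obtain ⟨cy, hcy⟩ := conj_lab (F := F) hm y
  have hO : IsConj (Cfsg.Agent.S2595.rep (F := F) (lab hm x))
      (Cfsg.Agent.S2595.rep (lab hm y)) := by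
    apply isConj_iff.mpr
    refine ⟨cy⁻¹ * g * cx, ?_⟩
    have : cy⁻¹ * g * cx * Cfsg.Agent.S2595.rep (lab hm x) * (cy⁻¹ * g * cx)⁻¹ =
        cy⁻¹ * (g * (cx * Cfsg.Agent.S2595.rep (lab hm x) * cx⁻¹) * g⁻¹) * cy := by group
    rw [this, hcx, hconj, ← hcy]
    group
  have hlab := Cfsg.Agent.S2595.rep_injective _ _ hO
  rcases x with x | z <;> rcases y with y | z'
  · simp only [lab] at hlab
    rw [base_injective hlab]
  · -- `x` is the top alternating index
    exfalso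
    simp only [lab] at hlab
    have hz := z'.2
    simp only [repJ] at hconj
    rw [hlab] at hconj
    have h12 : g * Cfsg.Agent.S2595.rep (F := F) (Sum.inr (jtop (half_pos hm hz))) * g⁻¹ =
        r0 hm * Cfsg.Agent.S2595.rep (Sum.inr (jtop (half_pos hm hz))) * (r0 hm)⁻¹ := hconj
    have := (conj_parity hm h _ (rank_top hm hz) (alt_top _) g (r0 hm) h12).mp hg
    exact r0_not_mem hm h this
  · exfalso
    simp only [lab] at hlab
    have hz := z.2
    simp only [repJ] at hconj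
    rw [← hlab] at hconj
    have h12 : (g * r0 hm) * Cfsg.Agent.S2595.rep (F := F) (Sum.inr (jtop (half_pos hm hz))) *
        (g * r0 hm)⁻¹ =
        1 * Cfsg.Agent.S2595.rep (Sum.inr (jtop (half_pos hm hz))) * 1⁻¹ := by
      rw [one_mul, inv_one, mul_one]
      conv_rhs => rw [← hconj]
      group
    have h3 := (conj_parity hm h _ (rank_top hm hz) (alt_top _) (g * r0 hm) 1 h12).mpr
      (Subgroup.one_mem _)
    have h4 : r0 (F := F) hm = g⁻¹ * (g * r0 hm) := by group
    apply r0_not_mem (F := F) hm h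
    rw [h4]
    exact Subgroup.mul_mem _ (Subgroup.inv_mem _ hg) h3
  · congr 1
    exact Subtype.ext (Subsingleton.elim _ _)

theorem exists_repJ (hm : 1 ≤ m) (h : Fintype.card F ≠ 2 ∨ m ≠ 2) (t : OPlus m F)
    (ht : orderOf t = 2) (htO : t ∈ Cfsg.Omega F (Cfsg.quadFormPlus m F)) :
    ∃ (x : J m) (g : OPlus m F), g ∈ Cfsg.Omega F (Cfsg.quadFormPlus m F) ∧
      g * repJ hm x * g⁻¹ = t := by
  have htt : t * t = 1 := by
    have := pow_orderOf_eq_one t
    rw [ht, pow_two] at this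
    exact this
  have hQ := isQuad_plus (F := F) (m := m)
  have hnd := Bp_nondeg (F := F) (m := m)
  have hcount := count_ne_plus (F := F) (m := m) hm
  have hcard : Fintype.card (Fin m ⊕ Fin m) = 2 * m := by
    simp only [Fintype.card_sum, Fintype.card_fin]
    omega
  have hexc : Fintype.card F ≠ 2 ∨ Fintype.card (Fin m ⊕ Fin m) ≠ 4 := by
    rcases h with h | h
    · left; exact h
    · right
      rw [hcard]
      omega
  obtain ⟨x₀, hx₀⟩ := Cfsg.Agent.S2595.exists_rep hm t ht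
  have heven : Even (Cfsg.Agent.S2593.rk x₀) := by
    have h1 := (Cfsg.Agent.S2595.invariants_of_conjO _ _ hx₀).1
    rw [Cfsg.Agent.S2595.rank_rep] at h1
    rw [h1]
    exact (mem_Omega_iff_even_plus hm h t htt).mp htO
  obtain ⟨x, hx⟩ := exists_base x₀ heven
  rcases Cfsg.Agent.S2172.fixed_nonsingular_or hQ hnd hcard (Cfsg.Agent.S2595.rep (F := F) x₀)
    (Cfsg.Agent.S2595.rep_sq x₀) with ⟨a, hta, ha⟩ | ⟨hr, hs0⟩
  · obtain ⟨g, hgO, hg⟩ := Cfsg.Agent.S2173.no_split hQ hnd hcount hexc _ t a ha hta hx₀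
    refine ⟨Sum.inl x, g, hgO, ?_⟩
    simp only [repJ]
    rw [hx]
    exact hg
  · -- the class that splits
    have halt : ∀ v, Bp m F v (actHom m F (Cfsg.Agent.S2595.rep (F := F) x₀) v) = 0 := by
      intro v
      have h1 := hs0 v
      rw [QuadInv.vsub_eq_add, hQ.add] at h1
      have h2 : Cfsg.quadFormPlus m F (QuadInv.actHom (Cfsg.quadFormPlus m F)
          (Cfsg.Agent.S2595.rep (F := F) x₀) v) = Cfsg.quadFormPlus m F v :=
        QuadInv.Q_act _ v
      rw [h2, char_two_add_self, zero_add, hQ.symm] at h1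
      exact h1
    obtain ⟨j, hj⟩ := (Cfsg.Agent.S2595.type_rep x₀).mp halt
    rw [Cfsg.Agent.S2595.rank_rep, hj] at hr
    simp only [Cfsg.Agent.S2593.rk] at hr
    have he : Even m := ⟨j.val + 1, by omega⟩
    have hjtop : j = jtop (half_pos hm he) := by
      apply Fin.ext
      simp only [jtop]
      omega
    obtain ⟨g, hg⟩ := isConj_iff.mp hx₀
    rw [hj, hjtop] at hg
    rcases OmegaChar2.mem_or_mul_refl_mem hQ hnd hcount hexc (a0 hm) (Q_a0_ne hm) g with
      hgO | hgO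
    · refine ⟨Sum.inl (Sum.inr (jtop (half_pos hm he))), g, hgO, ?_⟩
      simp only [repJ, base]
      exact hg
    · rw [Cfsg.Agent.S2630.refl_eq] at hgO
      refine ⟨Sum.inr ⟨(), he⟩, g * r0 hm, hgO, ?_⟩
      simp only [repJ]
      rw [← hg, r0_inv]
      have hrr := r0_sq (F := F) hm
      calc g * r0 hm * (r0 hm * Cfsg.Agent.S2595.rep (Sum.inr (jtop (half_pos hm he))) * r0 hm) *
            (g * r0 hm)⁻¹
          = g * (r0 hm * r0 hm) * Cfsg.Agent.S2595.rep (Sum.inr (jtop (half_pos hm he))) *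
            (r0 hm * (r0 hm)⁻¹) * g⁻¹ := by group
        _ = g * Cfsg.Agent.S2595.rep (Sum.inr (jtop (half_pos hm he))) * g⁻¹ := by
            rw [hrr, mul_inv_cancel, mul_one, mul_one]

theorem card_J (m : ℕ) : Fintype.card (J m) = 2 * (m / 2) + (if Even m then 1 else 0) := by
  rw [Fintype.card_sum, Fintype.card_sum, Fintype.card_fin, two_mul]
  congr 1
  by_cases he : Even m
  · rw [if_pos he, Fintype.card_eq_one_iff]
    exact ⟨⟨(), he⟩, fun y => Subtype.ext rfl⟩
  · rw [if_neg he, Fintype.card_eq_zero_iff]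
    exact ⟨fun y => he y.2⟩

/-- Number of conjugacy classes of involutions in Ω⁺_2m(F) (the commutator subgroup of the orthogonal group of Σ x_i y_i) over a finite field F of characteristic two, m ≥ 1, excluding the case m = 2 over the field of two elements: the involutions of Ω are those with s = rank(t − 1) even, giving two O-classes for each even s with 2 ≤ s ≤ m, each of which is a single Ω-class except that for m even the class with s = m and v ↦ f(v, tv) identically zero splits in two; in all 2⌊m/2⌋ + 1 classes if m is even and 2⌊m/2⌋ if m is odd. -/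
theorem result {F : Type*} [Field F] [Fintype F] [CharP F 2] {m : ℕ} (hm : 1 ≤ m) (h : Fintype.card F ≠ 2 ∨ m ≠ 2) : Nat.card {C : ConjClasses ↥(Cfsg.Omega F (Cfsg.quadFormPlus m F)) // ∃ g : ↥(Cfsg.Omega F (Cfsg.quadFormPlus m F)), ConjClasses.mk g = C ∧ orderOf g = 2} = 2 * (m / 2) + (if Even m then 1 else 0) := by
  let Φ : J m → {C : ConjClasses ↥(Cfsg.Omega F (Cfsg.quadFormPlus m F)) //
      ∃ g : ↥(Cfsg.Omega F (Cfsg.quadFormPlus m F)), ConjClasses.mk g = C ∧ orderOf g = 2} :=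
    fun x => ⟨ConjClasses.mk ⟨repJ hm x, repJ_mem hm h x⟩, ⟨repJ hm x, repJ_mem hm h x⟩, rfl, by
      rw [Subgroup.orderOf_mk]
      exact repJ_order hm x⟩
  have hbij : Function.Bijective Φ := by
    constructor
    · intro x y hxy
      have h1 : ConjClasses.mk (⟨repJ hm x, repJ_mem hm h x⟩ :
          ↥(Cfsg.Omega F (Cfsg.quadFormPlus m F))) =
          ConjClasses.mk ⟨repJ hm y, repJ_mem hm h y⟩ := congrArg Subtype.val hxy
      obtain ⟨g, hg⟩ := isConj_iff.mp (ConjClasses.mk_eq_mk_iff_isConj.mp h1)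
      have h2 : g.1 * repJ (F := F) hm x * g.1⁻¹ = repJ hm y := by
        have := congrArg Subtype.val hg
        simpa using this
      exact repJ_injective hm h x y g.1 g.2 h2
    · rintro ⟨C, u, rfl, hu⟩
      have hu2 : orderOf (u.1 : OPlus m F) = 2 := by
        rw [Subgroup.orderOf_coe]
        exact hu
      obtain ⟨x, g, hgO, hg⟩ := exists_repJ hm h u.1 hu2 u.2
      refine ⟨x, ?_⟩
      apply Subtype.ext
      apply ConjClasses.mk_eq_mk_iff_isConj.mpr
      apply isConj_iff.mpr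
      refine ⟨⟨g, hgO⟩, ?_⟩
      apply Subtype.ext
      exact hg
  rw [← Nat.card_congr (Equiv.ofBijective Φ hbij), Nat.card_eq_fintype_card, card_J]

end Cfsg.Agent.S2597
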