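import Cfsg.Statements.S2598
import Mathlib
import Cfsg.Agent.S2596
import Cfsg.Agent.Lib.Helper36.OmegaChar2

set_option autoImplicit false
open Cfsg

namespace Cfsg.Agent.S2598

open Matrix Module Cfsg.Agent.Helper36 Cfsg.Agent.Helper36.QuadInv Cfsg.Agent.S2170
  Cfsg.Agent.S2171 Cfsg.Agent.Helper36.OmegaChar2 Cfsg.Agent.Helper36.InvConj

universe u

variable {F : Type u} [Field F] [Fintype F] [CharP F 2] {k : ℕ}

omit [Fintype F] in
/-- two singular orthogonal vectors of a minus-type space are linearly dependent when the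
space has dimension four -/
theorem dependent_of_singular (c d : F)
    (hcd : ∀ z₁ z₂ : F, z₁ ^ 2 + c * z₁ * z₂ + d * z₂ ^ 2 = 0 → z₁ = 0 ∧ z₂ = 0) (hc : c ≠ 0)
    (hk : Fintype.card ((Fin k ⊕ Fin k) ⊕ Fin 2) = 4)
    (x y : (Fin k ⊕ Fin k) ⊕ Fin 2 → F) (hx : Cfsg.quadFormMinus k F c d x = 0)
    (hy : Cfsg.quadFormMinus k F c d y = 0) (hxy : Bm k F c x y = 0) :
    ∃ α β : F, (α ≠ 0 ∨ β ≠ 0) ∧ α • x + β • y = 0 := by
  have hQ := isQuad_minus (F := F) (k := k) c d
  by_contra hcon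
  have hli : LinearIndependent F ![x, y] := by
    rw [LinearIndependent.pair_iff]
    intro s t hst
    by_contra h2
    apply hcon
    refine ⟨s, t, ?_, hst⟩
    by_contra h3
    push Not at h3
    exact h2 h3
  have hfr := finrank_span_eq_card hli
  rw [Fintype.card_fin] at hfr
  have hU : ∀ u ∈ Submodule.span F (Set.range ![x, y]), Cfsg.quadFormMinus k F c d u = 0 := by
    intro u hu
    have hr : Set.range ![x, y] = {x, y} := by
      ext z
      simp only [Set.mem_range, Fin.exists_fin_two, Set.mem_insert_iff, Set.mem_singleton_iff,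
        Matrix.cons_val_zero, Matrix.cons_val_one]
      constructor
      · rintro (h | h)
        · left; exact h.symm
        · right; exact h.symm
      · rintro (h | h)
        · left; exact h.symm
        · right; exact h.symm
    rw [hr, Submodule.mem_span_pair] at hu
    obtain ⟨a, b, rfl⟩ := hu
    rw [hQ.add, hQ.smul, hQ.smul, hx, hy, map_smul, map_smul, LinearMap.smul_apply, hxy]
    simp
  have := Cfsg.Agent.S2171.noTS (F := F) (k := k) c d hcd hc _ hU
  rw [hfr, hk] at this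
  omega

/-- the minus-type orthogonal group is generated by reflections, with no exception -/
theorem hasCD_minus (c d : F)
    (hcd : ∀ z₁ z₂ : F, z₁ ^ 2 + c * z₁ * z₂ + d * z₂ ^ 2 = 0 → z₁ = 0 ∧ z₂ = 0) (hc : c ≠ 0) :
    HasCD (Cfsg.quadFormMinus k F c d) := by
  have hQ := isQuad_minus (F := F) (k := k) c d
  have hnd := Bm_nondeg (F := F) (k := k) c hc
  by_cases hexc : Fintype.card F ≠ 2 ∨ Fintype.card ((Fin k ⊕ Fin k) ⊕ Fin 2) ≠ 4
  · exact hasCD_of_exc hQ hnd hexc
  · push Not at hexc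
    apply hasCD_of_mid hQ hnd
    apply CDMinus.hasMid_of_noPlane (toQF hQ) CharTwo.two_eq_zero (nondeg_toQF hQ hnd) hexc.1
    intro x y hx hy hxy
    rw [polar_toQF] at hxy
    exact dependent_of_singular c d hcd hc hexc.2 x y hx hy hxy

/-- membership of involutions in `Ω⁻`, all dimensions -/
theorem mem_Omega_iff_even_minus (c d : F)
    (hcd : ∀ z₁ z₂ : F, z₁ ^ 2 + c * z₁ * z₂ + d * z₂ ^ 2 = 0 → z₁ = 0 ∧ z₂ = 0) (hc0 : c ≠ 0)
    (t : OG F (Cfsg.quadFormMinus k F c d)) (htt : t * t = 1) :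
    t ∈ Cfsg.Omega F (Cfsg.quadFormMinus k F c d) ↔
      Even ((t.1 : Matrix ((Fin k ⊕ Fin k) ⊕ Fin 2) ((Fin k ⊕ Fin k) ⊕ Fin 2) F) - 1).rank := by
  have hQ := isQuad_minus (F := F) (k := k) c d
  have hnd := Bm_nondeg (F := F) (k := k) c hc0
  have hcount := Cfsg.Agent.S2596.count_ne_minus' (F := F) (k := k) c d hcd
  have hno := noTS (F := F) (k := k) c d hcd hc0
  obtain ⟨a₀, ha₀⟩ : ∃ a₀ : (Fin k ⊕ Fin k) ⊕ Fin 2 → F, a₀ = Cfsg.Agent.S2596.u0 k F := ⟨_, rfl⟩
  have h₀ : Cfsg.quadFormMinus k F c d a₀ ≠ 0 := by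
    rw [ha₀]
    exact Cfsg.Agent.S2596.Q_u0_ne c d
  have hQt := isQF_t (F := F) (k := k) c d
  have hndt := Bt_nondeg (F := F) (k := k) c d hc0
  have hLt := Lt_mts (F := F) (k := k) c d
  have hδ : deltaG hQt hndt finrank_t hLt (eps k c d) (eps_Q c d) (refl hQ a₀ h₀) =
      Multiplicative.ofAdd 1 := by
    rw [deltaG_apply]
    congr 1
    have h1 := dnatG_refl hQt hndt finrank_t hLt (eps k c d) (refl hQ a₀ h₀)
      (refl_mul_self hQ a₀ h₀) ((a₀, 0) : ((Fin k ⊕ Fin k) ⊕ Fin 2 → F) × (Fin 2 → F))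
      (by
        show Cfsg.quadFormMinus k F c d a₀ + Rb c d 0 ≠ 0
        simpa [Rb] using h₀)
      (by
        intro x
        have hq : Qt k F c d ((a₀, 0) : ((Fin k ⊕ Fin k) ⊕ Fin 2 → F) × (Fin 2 → F)) =
            Cfsg.quadFormMinus k F c d a₀ := by
          show Cfsg.quadFormMinus k F c d a₀ + Rb c d 0 = _
          simp [Rb]
        have hb : Bt k F c ((a₀, 0) : ((Fin k ⊕ Fin k) ⊕ Fin 2 → F) × (Fin 2 → F)) x =
            Bm k F c a₀ x.1 := by
          rw [Bt_apply]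
          simp
        rw [eps_apply, act_refl, hq, hb]
        apply Prod.ext
        · simp
        · simp)
    rw [h1]
    simp
  exact mem_Omega_iff_even hQ hnd hcount hno a₀ h₀ _ hδ t htt

/-- no class of involutions splits -/
theorem no_split_minus (c d : F)
    (hcd : ∀ z₁ z₂ : F, z₁ ^ 2 + c * z₁ * z₂ + d * z₂ ^ 2 = 0 → z₁ = 0 ∧ z₂ = 0) (hc0 : c ≠ 0)
    (t s : OG F (Cfsg.quadFormMinus k F c d)) (htt : t * t = 1) (hconj : IsConj t s) :
    ∃ g ∈ Cfsg.Omega F (Cfsg.quadFormMinus k F c d), g * t * g⁻¹ = s := by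
  have hQ := isQuad_minus (F := F) (k := k) c d
  have hnd := Bm_nondeg (F := F) (k := k) c hc0
  have hcount := Cfsg.Agent.S2596.count_ne_minus' (F := F) (k := k) c d hcd
  have hno := noTS (F := F) (k := k) c d hcd hc0
  obtain ⟨a, hta, ha⟩ := exists_fixed_nonsingular hno t htt
  obtain ⟨g, hg⟩ := isConj_iff.mp hconj
  rcases mem_or_mul_refl_mem' hQ hnd hcount (hasCD_minus c d hcd hc0) a ha g with h | h
  · exact ⟨g, h, hg⟩
  · refine ⟨g * refl hQ a ha, h, ?_⟩
    have hcomm := refl_comm hQ t a ha hta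
    have hrr := refl_mul_self hQ a ha
    have hinv : (refl hQ a ha)⁻¹ = refl hQ a ha := inv_eq_of_mul_eq_one_right hrr
    rw [_root_.mul_inv_rev, hinv, ← hg]
    calc g * refl hQ a ha * t * (refl hQ a ha * g⁻¹)
        = g * (refl hQ a ha * t) * refl hQ a ha * g⁻¹ := by group
      _ = g * (t * refl hQ a ha) * refl hQ a ha * g⁻¹ := by rw [hcomm]
      _ = g * t * (refl hQ a ha * refl hQ a ha) * g⁻¹ := by group
      _ = g * t * g⁻¹ := by rw [hrr, mul_one]

/-! ### the count -/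

/-- the indices of even rank -/
def idx : Fin ((k + 1) / 2) ⊕ Fin (k / 2) → Fin (k + 1) ⊕ Fin (k / 2)
  | Sum.inl j => Sum.inl ⟨2 * j.val + 1, by have := j.isLt; omega⟩
  | Sum.inr j => Sum.inr j

theorem idx_injective : Function.Injective (idx (k := k)) := by
  intro x y h
  rcases x with j | j <;> rcases y with j' | j'
  · simp only [idx, Sum.inl.injEq, Fin.mk.injEq] at h
    congr 1
    exact Fin.ext (by omega)
  · simp [idx] at h
  · simp [idx] at h
  · simp only [idx, Sum.inr.injEq] at h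
    rw [h]

theorem even_rk_idx (x : Fin ((k + 1) / 2) ⊕ Fin (k / 2)) :
    Even (Cfsg.Agent.S2596.rk (idx x)) := by
  rcases x with j | j
  · exact ⟨j.val + 1, by simp only [idx, Cfsg.Agent.S2596.rk]; omega⟩
  · exact ⟨j.val + 1, by simp only [idx, Cfsg.Agent.S2596.rk]; omega⟩

theorem exists_idx (x₀ : Fin (k + 1) ⊕ Fin (k / 2)) (h : Even (Cfsg.Agent.S2596.rk x₀)) :
    ∃ x, idx x = x₀ := by
  rcases x₀ with i | j
  · obtain ⟨r, hr⟩ := h
    simp only [Cfsg.Agent.S2596.rk] at hr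
    have hi := i.isLt
    refine ⟨Sum.inl ⟨r - 1, by omega⟩, ?_⟩
    simp only [idx]
    congr 1
    exact Fin.ext (by simp only []; omega)
  · exact ⟨Sum.inr j, rfl⟩

theorem main (c d : F)
    (hcd : ∀ z₁ z₂ : F, z₁ ^ 2 + c * z₁ * z₂ + d * z₂ ^ 2 = 0 → z₁ = 0 ∧ z₂ = 0) :
    Nat.card {C : ConjClasses ↥(Cfsg.Omega F (Cfsg.quadFormMinus k F c d)) //
      ∃ g : ↥(Cfsg.Omega F (Cfsg.quadFormMinus k F c d)),
        ConjClasses.mk g = C ∧ orderOf g = 2} = (k + 1) / 2 + k / 2 := by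
  have hc0 : c ≠ 0 := by
    intro hc0
    obtain ⟨y, hy⟩ := exists_sqrt_char_two d
    have := hcd y 1 (by
      rw [hc0, ← hy]
      have h2 := char_two_add_self (y * y)
      linear_combination h2)
    exact one_ne_zero this.2
  have hQ := isQuad_minus (F := F) (k := k) c d
  have hmem : ∀ x : Fin ((k + 1) / 2) ⊕ Fin (k / 2),
      Cfsg.Agent.S2596.rep c d (idx x) ∈ Cfsg.Omega F (Cfsg.quadFormMinus k F c d) := by
    intro x
    rw [mem_Omega_iff_even_minus c d hcd hc0 _ (Cfsg.Agent.S2596.rep_sq c d hc0 _),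
      Cfsg.Agent.S2596.rank_rep c d hc0]
    exact even_rk_idx x
  let Φ : Fin ((k + 1) / 2) ⊕ Fin (k / 2) →
      {C : ConjClasses ↥(Cfsg.Omega F (Cfsg.quadFormMinus k F c d)) //
        ∃ g : ↥(Cfsg.Omega F (Cfsg.quadFormMinus k F c d)),
          ConjClasses.mk g = C ∧ orderOf g = 2} :=
    fun x => ⟨ConjClasses.mk ⟨Cfsg.Agent.S2596.rep c d (idx x), hmem x⟩,
      ⟨Cfsg.Agent.S2596.rep c d (idx x), hmem x⟩, rfl, by
        rw [Subgroup.orderOf_mk]
        exact Cfsg.Agent.S2596.rep_order c d hc0 _⟩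
  have hbij : Function.Bijective Φ := by
    constructor
    · intro x y hxy
      have h1 : ConjClasses.mk (⟨Cfsg.Agent.S2596.rep c d (idx x), hmem x⟩ :
          ↥(Cfsg.Omega F (Cfsg.quadFormMinus k F c d))) =
          ConjClasses.mk ⟨Cfsg.Agent.S2596.rep c d (idx y), hmem y⟩ := congrArg Subtype.val hxy
      obtain ⟨g, hg⟩ := isConj_iff.mp (ConjClasses.mk_eq_mk_iff_isConj.mp h1)
      have h2 : IsConj (Cfsg.Agent.S2596.rep (F := F) c d (idx x))
          (Cfsg.Agent.S2596.rep c d (idx y)) := by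
        apply isConj_iff.mpr
        refine ⟨g.1, ?_⟩
        have := congrArg Subtype.val hg
        simpa using this
      exact idx_injective (Cfsg.Agent.S2596.rep_injective c d hc0 _ _ h2)
    · rintro ⟨C, u, rfl, hu⟩
      have hu2 : orderOf (u.1 : OG F (Cfsg.quadFormMinus k F c d)) = 2 := by
        rw [Subgroup.orderOf_coe]
        exact hu
      have huu : u.1 * u.1 = 1 := by
        have h := pow_orderOf_eq_one u.1
        rw [hu2, pow_two] at h
        exact h
      obtain ⟨x₀, hx₀⟩ := Cfsg.Agent.S2596.exists_rep c d hcd hc0 u.1 hu2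
      have heven : Even (Cfsg.Agent.S2596.rk x₀) := by
        have h1 := (invariants_of_conj hQ _ _ hx₀).1
        rw [Cfsg.Agent.S2596.rank_rep c d hc0] at h1
        rw [h1]
        exact (mem_Omega_iff_even_minus c d hcd hc0 u.1 huu).mp u.2
      obtain ⟨x, hx⟩ := exists_idx x₀ heven
      refine ⟨x, ?_⟩
      apply Subtype.ext
      apply ConjClasses.mk_eq_mk_iff_isConj.mpr
      rw [← hx] at hx₀
      obtain ⟨g, hgO, hg⟩ := no_split_minus c d hcd hc0 _ _
        (Cfsg.Agent.S2596.rep_sq c d hc0 _) hx₀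
      apply isConj_iff.mpr
      refine ⟨⟨g, hgO⟩, ?_⟩
      apply Subtype.ext
      exact hg
  rw [← Nat.card_congr (Equiv.ofBijective Φ hbij), Nat.card_eq_fintype_card, Fintype.card_sum,
    Fintype.card_fin, Fintype.card_fin]

/-- Number of conjugacy classes of involutions in Ω⁻_2m(F) (the commutator subgroup of the orthogonal group of an elliptic quadratic form, Σ_(i<m−1) x_i y_i plus an anisotropic binary form) over a finite field F of characteristic two, m ≥ 1: the involutions of Ω are those with s = rank(t − 1) even, one O-class for each even s with 2 ≤ s ≤ m on which v ↦ f(v, tv) is not identically zero and one for each even s with 2 ≤ s < m on which it is zero (f the polar form; in characteristic 2, f(v, tv) = Q(v + tv)), none of which splits in Ω; in all ⌊m/2⌋ + ⌊(m − 1)/2⌋. -/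
theorem result {F : Type*} [Field F] [Fintype F] [CharP F 2] {m : ℕ} (hm : 1 ≤ m) (a b : F) (hab : ∀ z₁ z₂ : F, z₁ ^ 2 + a * z₁ * z₂ + b * z₂ ^ 2 = 0 → z₁ = 0 ∧ z₂ = 0) : Nat.card {C : ConjClasses ↥(Cfsg.Omega F (Cfsg.quadFormMinus (m - 1) F a b)) // ∃ g : ↥(Cfsg.Omega F (Cfsg.quadFormMinus (m - 1) F a b)), ConjClasses.mk g = C ∧ orderOf g = 2} = m / 2 + (m - 1) / 2 := by
  have h := main (F := F) (k := m - 1) a b hab
  rw [h]
  have : m - 1 + 1 = m := by omega
  rw [this]

end Cfsg.Agent.S2598
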