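import Cfsg.Statements.S2599
-- import your own Cfsg.Agent.* helpers here

set_option autoImplicit false
open Cfsg

namespace Cfsg.Agent.S2599

open Module Matrix

theorem result {F : Type*} [Field F] [Fintype F] {p : ℕ} [Fact p.Prime] [CharP F p] {n : ℕ} (Q : QuadraticForm F (Fin n → F)) (hQ : (QuadraticMap.polarBilin Q).Nondegenerate) (x : ↥(Cfsg.isometryGroup F ⇑Q)) (hx : (orderOf x).Coprime p) (U : Submodule F (Fin n → F)) (hU0 : U ≠ ⊥) (hUx : ∀ u ∈ U, ((x : Matrix.GeneralLinearGroup (Fin n) F) : Matrix (Fin n) (Fin n) F).mulVec u ∈ U) (hirr : ∀ W : Submodule F (Fin n → F), W ≤ U → (∀ w ∈ W, ((x : Matrix.GeneralLinearGroup (Fin n) F) : Matrix (Fin n) (Fin n) F).mulVec w ∈ W) → W = ⊥ ∨ W = U) : U ⊓ LinearMap.BilinForm.orthogonal (QuadraticMap.polarBilin Q) U = ⊥ ∨ (∀ u ∈ U, Q u = 0) ∨ (p = 2 ∧ Module.finrank F U = 1 ∧ (∃ u ∈ U, Q u ≠ 0) ∧ ∀ u ∈ U, ((x : Matrix.GeneralLinearGroup (Fin n) F) : Matrix (Fin n) (Fin n) F).mulVec u = u) := by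
  set X : Matrix (Fin n) (Fin n) F := ((x : Matrix.GeneralLinearGroup (Fin n) F) : Matrix (Fin n) (Fin n) F) with hX
  -- X preserves Q
  have hXQ : ∀ v, Q (X.mulVec v) = Q v := fun v => x.2 v v
  have hXpolar : ∀ u v, QuadraticMap.polar Q (X.mulVec u) (X.mulVec v) = QuadraticMap.polar Q u v := by
    intro u v
    unfold QuadraticMap.polar
    rw [← Matrix.mulVec_add, hXQ, hXQ, hXQ]
  -- finite order
  have hk : 0 < orderOf x := orderOf_pos x
  have hXk : X ^ orderOf x = 1 := by
    have h1 : X ^ orderOf x = (((x ^ orderOf x : ↥(Cfsg.isometryGroup F ⇑Q)) : Matrix.GeneralLinearGroup (Fin n) F) : Matrix (Fin n) (Fin n) F) := by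
      rw [Subgroup.coe_pow, Units.val_pow_eq_pow_val]
    rw [h1, pow_orderOf_eq_one]; rfl
  have hUpow : ∀ j : ℕ, ∀ u ∈ U, (X ^ j).mulVec u ∈ U := by
    intro j
    induction j with
    | zero => intro u hu; simpa using hu
    | succ j ih =>
      intro u hu
      rw [pow_succ', ← Matrix.mulVec_mulVec]
      exact hUx _ (ih u hu)
  -- every u in U is X u' with u' in U
  have hsurj : ∀ u ∈ U, ∃ u' ∈ U, X.mulVec u' = u := by
    intro u hu
    refine ⟨(X ^ (orderOf x - 1)).mulVec u, hUpow _ u hu, ?_⟩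
    rw [Matrix.mulVec_mulVec, ← pow_succ']
    have : orderOf x - 1 + 1 = orderOf x := by omega
    rw [this, hXk, Matrix.one_mulVec]
  -- the radical
  have hR := hirr (U ⊓ LinearMap.BilinForm.orthogonal (QuadraticMap.polarBilin Q) U) inf_le_left (by
    intro w hw
    rw [Submodule.mem_inf] at hw ⊢
    refine ⟨hUx w hw.1, ?_⟩
    rw [LinearMap.BilinForm.mem_orthogonal_iff]
    intro u hu
    obtain ⟨u', hu', rfl⟩ := hsurj u hu
    rw [QuadraticMap.polarBilin_apply_apply, hXpolar]
    have := (LinearMap.BilinForm.mem_orthogonal_iff.mp hw.2) u' hu'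
    rwa [QuadraticMap.polarBilin_apply_apply] at this)
  rcases hR with hR | hR
  · left; exact hR
  right
  -- polar vanishes on U
  have hpol : ∀ u ∈ U, ∀ v ∈ U, QuadraticMap.polar Q u v = 0 := by
    intro u hu v hv
    have hv' : v ∈ U ⊓ LinearMap.BilinForm.orthogonal (QuadraticMap.polarBilin Q) U := by
      rw [hR]; exact hv
    have := (LinearMap.BilinForm.mem_orthogonal_iff.mp (Submodule.mem_inf.mp hv').2) u hu
    rwa [QuadraticMap.polarBilin_apply_apply] at this
  have hadd : ∀ u ∈ U, ∀ v ∈ U, Q (u + v) = Q u + Q v := by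
    intro u hu v hv
    have := hpol u hu v hv
    unfold QuadraticMap.polar at this
    linear_combination this
  -- kernel of Q on U
  let K : Submodule F (Fin n → F) :=
    { carrier := {u | u ∈ U ∧ Q u = 0}
      add_mem' := by
        rintro a b ⟨ha, ha0⟩ ⟨hb, hb0⟩
        exact ⟨U.add_mem ha hb, by rw [hadd a ha b hb, ha0, hb0, add_zero]⟩
      zero_mem' := ⟨U.zero_mem, by simp⟩
      smul_mem' := by
        rintro c a ⟨ha, ha0⟩
        exact ⟨U.smul_mem c ha, by rw [QuadraticMap.map_smul, ha0]; simp⟩ }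
  have hKmem : ∀ u, u ∈ K ↔ (u ∈ U ∧ Q u = 0) := fun u => Iff.rfl
  have hK := hirr K (fun u hu => hu.1) (by
    intro w hw
    exact ⟨hUx w hw.1, by rw [hXQ]; exact hw.2⟩)
  rcases hK with hK | hK
  swap
  · left
    intro u hu
    have : u ∈ K := by rw [hK]; exact hu
    exact this.2
  right
  have hK0 : ∀ u ∈ U, Q u = 0 → u = 0 := by
    intro u hu h0
    have : u ∈ K := ⟨hu, h0⟩
    rw [hK] at this
    simpa using this
  -- p = 2
  have hp2 : p = 2 := by
    by_contra hne
    have h2 : (2 : F) ≠ 0 := by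
      intro h
      have : ((2 : ℕ) : F) = 0 := by exact_mod_cast h
      rw [CharP.cast_eq_zero_iff F p] at this
      have hp : p.Prime := Fact.out
      exact hne ((Nat.prime_dvd_prime_iff_eq hp Nat.prime_two).mp this)
    apply hU0
    rw [Submodule.eq_bot_iff]
    intro u hu
    apply hK0 u hu
    have h1 := hpol u hu u hu
    rw [QuadraticMap.polar_self, nsmul_eq_mul] at h1
    rcases mul_eq_zero.mp h1 with h | h
    · exact absurd h h2
    · exact h
  have h2F : (2 : F) = 0 := by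
    have : ((2 : ℕ) : F) = 0 := by
      rw [CharP.cast_eq_zero_iff F p, hp2]
    exact_mod_cast this
  have hchar2 : CharP F 2 := hp2 ▸ (inferInstance : CharP F p)
  have hneg : ∀ u, Q (-u) = Q u := fun u => QuadraticMap.map_neg Q u
  have hsub : ∀ u ∈ U, ∀ v ∈ U, Q (u - v) = Q u + Q v := by
    intro u hu v hv
    rw [sub_eq_add_neg, hadd u hu (-v) (U.neg_mem hv), hneg]
  refine ⟨hp2, ?_, ?_, ?_⟩
  · -- finrank = 1
    obtain ⟨u0, hu0, hu0ne⟩ := (Submodule.ne_bot_iff U).mp hU0
    have hQu0 : Q u0 ≠ 0 := fun h => hu0ne (hK0 u0 hu0 h)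
    have hspan : U = Submodule.span F {u0} := by
      apply le_antisymm
      · intro v hv
        obtain ⟨c, hc⟩ := FiniteField.isSquare_of_char_two (F := F) (CharP.ringChar_of_prime_eq_zero Nat.prime_two h2F) (Q v / Q u0)
        rw [Submodule.mem_span_singleton]
        refine ⟨c, ?_⟩
        have hmem : v - c • u0 ∈ U := U.sub_mem hv (U.smul_mem c hu0)
        have : Q (v - c • u0) = 0 := by
          rw [hsub v hv _ (U.smul_mem c hu0), QuadraticMap.map_smul, smul_eq_mul, ← hc]
          field_simp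
          linear_combination (Q v) * h2F
        have := hK0 _ hmem this
        exact (sub_eq_zero.mp this).symm
      · rw [Submodule.span_singleton_le_iff_mem]; exact hu0
    rw [hspan]
    exact finrank_span_singleton hu0ne
  · obtain ⟨u0, hu0, hu0ne⟩ := (Submodule.ne_bot_iff U).mp hU0
    exact ⟨u0, hu0, fun h => hu0ne (hK0 u0 hu0 h)⟩
  · intro u hu
    have hmem : X.mulVec u - u ∈ U := U.sub_mem (hUx u hu) hu
    have : Q (X.mulVec u - u) = 0 := by
      rw [hsub _ (hUx u hu) u hu, hXQ]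
      linear_combination (Q u) * h2F
    exact sub_eq_zero.mp (hK0 _ hmem this)

end Cfsg.Agent.S2599
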