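import Cfsg.Statements.S2606
import Mathlib
import Cfsg.Agent.S2696
import Cfsg.Agent.Lib.Helper13.OMinOddC
import Cfsg.Agent.Lib.Helper13.OMinOddCM

set_option autoImplicit false
open Cfsg

namespace Cfsg.Agent.S2606

/-- Outer automorphism group of PΩ⁻_2m(q), m ≥ 4, q = p^f odd: it is dihedral of order 8 times cyclic of order f when q ≡ 3 (mod 4) and m is odd, and otherwise the direct product of a group of order 2 with a cyclic group of order 2f. -/
theorem result {F : Type*} [Field F] [Fintype F] {p f m : ℕ} [Fact p.Prime] (hf : 1 ≤ f) (hF : Fintype.card F = p ^ f) (hp : p ≠ 2) (hm : 4 ≤ m) (a b : F) (hab : ∀ z₁ z₂ : F, z₁ ^ 2 + a * z₁ * z₂ + b * z₂ ^ 2 = 0 → z₁ = 0 ∧ z₂ = 0) : if p ^ f % 4 = 3 ∧ Odd m then Nonempty (Cfsg.Out (Cfsg.POmega F (Cfsg.quadFormMinus (m - 1) F a b)) ≃* DihedralGroup 4 × Multiplicative (ZMod f)) else Nonempty (Cfsg.Out (Cfsg.POmega F (Cfsg.quadFormMinus (m - 1) F a b)) ≃* Multiplicative (ZMod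 2 × ZMod (2 * f))) := by
  have hm' : 3 ≤ m - 1 := by omega
  have hiff : Odd m ↔ Even (m - 1) := by
    obtain ⟨n, rfl⟩ : ∃ n, m = n + 1 := ⟨m - 1, by omega⟩
    rw [Nat.add_sub_cancel, Nat.odd_add_one, Nat.not_odd_iff_even]
  have key := Cfsg.Agent.Helper13.OMinOddC.out_minus_odd hf hF hp hm' a b hab
    (Cfsg.Agent.S2696.result hm' a b hab)
    (fun L₀ M hL₀ hM =>
      haveI : CharP F p := charP_of_card_eq_prime_pow hF
      Cfsg.Agent.Helper13.OMinOddCM.comm_mem_psoAut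
        (Cfsg.Agent.Helper43.stdMinus F (m - 1) a b)
        (Cfsg.Agent.Helper43.stdMinus_nondegenerate (F := F) (m - 1) (a := a) (b := b) hab)
        hp m (by simp; omega) L₀ M hL₀ hM)
  by_cases h : p ^ f % 4 = 3 ∧ Odd m
  · rw [if_pos h]
    have h' : p ^ f % 4 = 3 ∧ Even (m - 1) := ⟨h.1, hiff.1 h.2⟩
    rw [if_pos h'] at key
    exact key
  · rw [if_neg h]
    have h' : ¬ (p ^ f % 4 = 3 ∧ Even (m - 1)) := fun h'' => h ⟨h''.1, hiff.2 h''.2⟩
    rw [if_neg h'] at key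
    exact key

end Cfsg.Agent.S2606
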