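import Cfsg.Statements.S2610
import Cfsg.Agent.Lib.Helper43.SpinorDiag
import Cfsg.Agent.Lib.Helper43.OrthOdd

set_option autoImplicit false
open Cfsg

namespace Cfsg.Agent.S2610

open Cfsg.Agent.Helper43 QuadraticMap Matrix Module

theorem exists_orth_basis_fin {F : Type*} [Field F] (h2 : (2 : F) ≠ 0) {n : ℕ}
    (Q : QuadraticForm F (Fin n → F)) (hQ : (polarBilin Q).Nondegenerate) :
    ∃ w : Basis (Fin n) F (Fin n → F), (∀ a b, a ≠ b → polar Q (w a) (w b) = 0) ∧
      (∀ a, Q (w a) ≠ 0) := by
  have : Invertible (2 : F) := invertibleOfNonzero h2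
  obtain ⟨v, hv⟩ := LinearMap.BilinForm.exists_orthogonal_basis
    (B := polarBilin Q) (LinearMap.BilinForm.isSymm_iff.1 (polarBilin_isSymm Q))
  have hfr : finrank F (Fin n → F) = n := by simp
  let e : Fin (finrank F (Fin n → F)) ≃ Fin n := finCongr hfr
  refine ⟨v.reindex e, ?_, ?_⟩
  · intro a b hab
    rw [Basis.reindex_apply, Basis.reindex_apply]
    have := hv (fun h => hab (e.symm.injective h) : e.symm a ≠ e.symm b)
    exact this
  · intro a
    rw [Basis.reindex_apply]
    have := LinearMap.IsOrthoᵢ.not_isOrtho_basis_self_of_separatingLeft hv hQ.1 (e.symm a)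
    rw [polarBilin_apply_apply, polar_self] at this
    intro h0
    apply this
    rw [h0]
    simp

/-- For a quadratic form Q on F^n with non-degenerate polar form, F finite of odd order and n ≥ 2 even, the isometry −1 lies in Ω (the commutator subgroup of the orthogonal group) if and only if the discriminant of Q (the determinant of the Gram matrix of its polar form) is a square. -/
theorem result {F : Type*} [Field F] [Fintype F] (h2 : (2 : F) ≠ 0) {n : ℕ} (hn : 2 ≤ n) (he : Even n) (Q : QuadraticForm F (Fin n → F)) (hQ : (QuadraticMap.polarBilin Q).Nondegenerate) : (∃ g : ↥(Cfsg.isometryGroup F ⇑Q), g ∈ Cfsg.Omega F ⇑Q ∧ ((g : Matrix.GeneralLinearGroup (Fin n) F) : Matrix (Fin n) (Fin n) F) = -1) ↔ IsSquare (Matrix.of (fun i j : Fin n => QuadraticMap.polar ⇑Q (Pi.single i 1) (Pi.single j 1))).det := by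
  obtain ⟨w, horth, hw⟩ := exists_orth_basis_fin h2 Q hQ
  have hpol : ∀ (b : Fin n) (x : Fin n → F), polar Q (w b) x = w.repr x b * (2 * Q (w b)) := by
    intro b x
    have hx := w.sum_repr x
    conv_lhs => rw [← hx]
    rw [← polarBilin_apply_apply, map_sum, Finset.sum_eq_single b]
    · rw [map_smul, polarBilin_apply_apply, polar_self]
      simp
    · intro a _ hab
      rw [map_smul, polarBilin_apply_apply, horth b a hab.symm, smul_zero]
    · intro h
      exact absurd (Finset.mem_univ _) h
  have key := exists_mem_Omega_iff_of_orthogonal_family Q h2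
    (by rw [Fintype.card_fin]; exact hn) hQ (fun a => w a) hw horth (-1)
    (by
      intro x
      have hx := w.sum_repr x
      have : ∑ a, ((Q (w a))⁻¹ * polar Q (w a) x) • w a = (2 : F) • x := by
        conv_rhs => rw [← hx]
        rw [Finset.smul_sum]
        apply Finset.sum_congr rfl
        intro a _
        rw [hpol, smul_smul]
        congr 1
        have := hw a
        field_simp
      rw [this, Matrix.neg_mulVec, Matrix.one_mulVec, two_smul]
      abel)
  rw [key, Fintype.card_fin, and_iff_right he]
  -- Gram determinants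
  have hgram := gram_det_family Q (fun a => w a)
  have hdiag : (Matrix.of fun a a' => polar Q (w a) (w a')) =
      Matrix.diagonal (fun a => 2 * Q (w a)) := by
    ext a a'
    by_cases h : a = a'
    · subst h
      rw [Matrix.of_apply, Matrix.diagonal_apply_eq, polar_self]
      simp
    · rw [Matrix.of_apply, Matrix.diagonal_apply_ne _ h, horth a a' h]
  rw [hdiag, Matrix.det_diagonal, Finset.prod_mul_distrib, Finset.prod_const, Finset.card_univ,
    Fintype.card_fin] at hgram
  have hdet : (Matrix.of (fun a => w a)).det ≠ 0 := by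
    have hli : LinearIndependent F (fun k => (Matrix.of (fun a => w a)) k) := w.linearIndependent
    have := (Matrix.linearIndependent_rows_iff_isUnit (A := Matrix.of (fun a => w a))).mp hli
    exact ((Matrix.isUnit_iff_isUnit_det _).mp this).ne_zero
  obtain ⟨l, hl⟩ := he
  have h2l : (2 : F) ^ l ≠ 0 := pow_ne_zero _ h2
  rw [← isSquare_sq_mul_iff ((2 : F) ^ l) _ h2l,
    ← isSquare_sq_mul_iff (Matrix.of (fun a => w a)).det
      (Matrix.of (fun i j : Fin n => QuadraticMap.polar ⇑Q (Pi.single i 1) (Pi.single j 1))).det hdet]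
  have e1 : (2 : F) ^ l * 2 ^ l = 2 ^ n := by rw [← pow_add, ← hl]
  rw [e1, hgram, pow_two]

end Cfsg.Agent.S2610
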