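import Cfsg.Statements.S2612
import Mathlib
import Cfsg.Agent.Lib.Helper36.PlusOrth

set_option autoImplicit false
open Cfsg

namespace Cfsg.Agent.S2612

open Matrix Module Cfsg.Agent.Helper36 Cfsg.Agent.Helper36.TotSing Cfsg.Agent.Helper36.PlusOrth
open Cfsg.Agent.S0831
open scoped commutatorElement

universe u

variable {F : Type u} [Field F] {m : ℕ}

/-- the isometry `v ↦ v ∘ σ` for an involutive map `σ` of the index set -/
noncomputable def permO (σ : Fin m ⊕ Fin m → Fin m ⊕ Fin m) (hσ : ∀ a, σ (σ a) = a)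
    (hQ : ∀ v : Fin m ⊕ Fin m → F, Cfsg.quadFormPlus m F (v ∘ σ) = Cfsg.quadFormPlus m F v) :
    OPlus m F :=
  mkO (LinearEquiv.ofInvolutive (LinearMap.funLeft F F σ) (fun v => by
    funext a
    simp only [LinearMap.funLeft_apply, hσ]))
    (fun v => hQ v)

theorem act_permO (σ : Fin m ⊕ Fin m → Fin m ⊕ Fin m) (hσ : ∀ a, σ (σ a) = a)
    (hQ : ∀ v : Fin m ⊕ Fin m → F, Cfsg.quadFormPlus m F (v ∘ σ) = Cfsg.quadFormPlus m F v)
    (v : Fin m ⊕ Fin m → F) : actHom m F (permO σ hσ hQ) v = v ∘ σ := by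
  unfold permO
  exact LinearEquiv.congr_fun (actHom_mkO _ _) v

theorem permO_mul_self (σ : Fin m ⊕ Fin m → Fin m ⊕ Fin m) (hσ : ∀ a, σ (σ a) = a)
    (hQ : ∀ v : Fin m ⊕ Fin m → F, Cfsg.quadFormPlus m F (v ∘ σ) = Cfsg.quadFormPlus m F v) :
    permO σ hσ hQ * permO σ hσ hQ = 1 := by
  apply act_ext
  intro v
  rw [act_mul, act_one, act_permO, act_permO]
  funext a
  simp only [Function.comp_apply, hσ]

/-- swap the first `h` hyperbolic pairs -/
def sigR (m h : ℕ) : Fin m ⊕ Fin m → Fin m ⊕ Fin m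
  | Sum.inl i => if i.val < h then Sum.inr i else Sum.inl i
  | Sum.inr i => if i.val < h then Sum.inl i else Sum.inr i

/-- reverse the order of the hyperbolic pairs -/
def sigP (m : ℕ) : Fin m ⊕ Fin m → Fin m ⊕ Fin m := Sum.map Fin.rev Fin.rev

theorem sigR_invol (h : ℕ) (a : Fin m ⊕ Fin m) : sigR m h (sigR m h a) = a := by
  rcases a with i | i
  · by_cases hi : i.val < h <;> simp [sigR, hi]
  · by_cases hi : i.val < h <;> simp [sigR, hi]

theorem sigP_invol (a : Fin m ⊕ Fin m) : sigP m (sigP m a) = a := by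
  rcases a with i | i <;> simp [sigP]

theorem swap_invol (a : Fin m ⊕ Fin m) : Sum.swap (Sum.swap a) = a := Sum.swap_swap a

theorem sigR_Q (h : ℕ) (v : Fin m ⊕ Fin m → F) :
    Cfsg.quadFormPlus m F (v ∘ sigR m h) = Cfsg.quadFormPlus m F v := by
  unfold Cfsg.quadFormPlus
  apply Finset.sum_congr rfl
  intro i _
  by_cases hi : i.val < h
  · simp [sigR, hi, mul_comm]
  · simp [sigR, hi]

theorem sigP_Q (v : Fin m ⊕ Fin m → F) :
    Cfsg.quadFormPlus m F (v ∘ sigP m) = Cfsg.quadFormPlus m F v := by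
  unfold Cfsg.quadFormPlus
  have : ∀ i : Fin m, (v ∘ sigP m) (Sum.inl i) * (v ∘ sigP m) (Sum.inr i) =
      (fun j => v (Sum.inl j) * v (Sum.inr j)) (Fin.revPerm i) := by
    intro i
    simp [sigP]
  rw [Finset.sum_congr rfl (fun i _ => this i)]
  exact Equiv.sum_comp Fin.revPerm (fun j => v (Sum.inl j) * v (Sum.inr j))

theorem swap_Q (v : Fin m ⊕ Fin m → F) :
    Cfsg.quadFormPlus m F (v ∘ Sum.swap) = Cfsg.quadFormPlus m F v := by
  unfold Cfsg.quadFormPlus
  apply Finset.sum_congr rfl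
  intro i _
  simp [mul_comm]

/-- the key identity of index maps -/
theorem sig_comm (h : ℕ) (hm : m = h + h) (a : Fin m ⊕ Fin m) :
    sigP m (sigR m h (sigP m (sigR m h a))) = Sum.swap a := by
  rcases a with i | i
  · have hi' := i.isLt
    by_cases hi : i.val < h
    · have h2 : ¬ (m - (i.val + 1) < h) := by omega
      simp [sigR, sigP, hi, h2]
    · have h2 : m - (i.val + 1) < h := by omega
      simp [sigR, sigP, hi, h2]
  · have hi' := i.isLt
    by_cases hi : i.val < h
    · have h2 : ¬ (m - (i.val + 1) < h) := by omega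
      simp [sigR, sigP, hi, h2]
    · have h2 : m - (i.val + 1) < h := by omega
      simp [sigR, sigP, hi, h2]

/-- For the hyperbolic quadratic form Σ x_i y_i on F^(2m) (F finite, m ≥ 1, excluding m = 2 over the field of two elements), Ω⁺_2m(F) (the commutator subgroup of the orthogonal group) contains an element interchanging the two complementary maximal totally singular subspaces {y = 0} and {x = 0} if and only if m is even (dimension divisible by 4). -/
theorem result {F : Type*} [Field F] [Fintype F] {m : ℕ} (hm : 1 ≤ m) (h : Fintype.card F ≠ 2 ∨ m ≠ 2) : (∃ g : ↥(Cfsg.isometryGroup F (Cfsg.quadFormPlus m F)), g ∈ Cfsg.Omega F (Cfsg.quadFormPlus m F) ∧ (∀ v : Fin m ⊕ Fin m → F, (∀ i, v (Sum.inr i) = 0) → ∀ i, (((g : Matrix.GeneralLinearGroup (Fin m ⊕ Fin m) F) : Matrix (Fin m ⊕ Fin m) (Fin m ⊕ Fin m) F).mulVec v) (Sum.inl i) = 0) ∧ (∀ v : Fin m ⊕ Fin m → F, (∀ i, v (Sum.inl i) = 0) → ∀ i, (((g : Matrix.GeneralLinearGroup (Fin m ⊕ Fin m) F) : Matrix (Fin m ⊕ Fin m) (Fin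 m ⊕ Fin m) F).mulVec v) (Sum.inr i) = 0)) ↔ Even m := by
  constructor
  · rintro ⟨g, hg, h1, _⟩
    have heven := dnat_even_of_mem g hg
    have hbot : stdL m F ⊓ imgL g = ⊥ := by
      rw [eq_bot_iff]
      rintro x ⟨hxL, hxg⟩
      obtain ⟨v, hv, rfl⟩ := hxg
      rw [Submodule.mem_bot]
      have hv' := (mem_stdL v).mp hv
      have hx' := (mem_stdL _).mp hxL
      funext a
      rcases a with i | i
      · exact h1 v hv' i
      · exact hx' i
    unfold dnat at heven
    rw [hbot, finrank_bot, Nat.sub_zero] at heven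
    exact heven
  · rintro ⟨h', hh'⟩
    let r : OPlus m F := permO (sigR m h') (sigR_invol h') (sigR_Q h')
    let p : OPlus m F := permO (sigP m) sigP_invol sigP_Q
    let w : OPlus m F := permO Sum.swap swap_invol swap_Q
    have hr : r * r = 1 := permO_mul_self _ _ _
    have hp : p * p = 1 := permO_mul_self _ _ _
    have hw : w = ⁅r, p⁆ := by
      rw [commutatorElement_def, inv_eq_of_mul_eq_one_right hr, inv_eq_of_mul_eq_one_right hp]
      apply act_ext
      intro v
      rw [act_mul, act_mul, act_mul]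
      simp only [w, r, p, act_permO]
      funext a
      simp only [Function.comp_apply]
      rw [sig_comm h' hh' a]
    refine ⟨w, ?_, ?_, ?_⟩
    · rw [hw]
      exact Subgroup.commutator_mem_commutator (Subgroup.mem_top _) (Subgroup.mem_top _)
    · intro v hv i
      have : ((w.1 : Matrix (Fin m ⊕ Fin m) (Fin m ⊕ Fin m) F).mulVec v) = v ∘ Sum.swap := by
        rw [← actHom_apply]
        exact act_permO _ _ _ v
      rw [this]
      exact hv i
    · intro v hv i
      have : ((w.1 : Matrix (Fin m ⊕ Fin m) (Fin m ⊕ Fin m) F).mulVec v) = v ∘ Sum.swap := by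
        rw [← actHom_apply]
        exact act_permO _ _ _ v
      rw [this]
      exact hv i

end Cfsg.Agent.S2612
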