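import Cfsg.Statements.S2614
import Cfsg.Agent.Lib.Helper43.SpinorDiag
import Cfsg.Agent.Lib.Helper43.OrthOdd
import Cfsg.Agent.S2613

set_option autoImplicit false
open Cfsg

namespace Cfsg.Agent.S2614

open Cfsg.Agent.Helper43 QuadraticMap Matrix

theorem polar_odd_single_e {F : Type*} [Field F] (m : ℕ) (j : Fin m)
    (x : Unit ⊕ (Fin m ⊕ Fin m) → F) :
    polar (stdOdd F m) (Pi.single (Sum.inr (Sum.inl j)) 1) x = x (Sum.inr (Sum.inr j)) := by
  rw [polar_stdOdd]
  simp [Pi.single_apply]

theorem polar_odd_single_f {F : Type*} [Field F] (m : ℕ) (j : Fin m)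
    (x : Unit ⊕ (Fin m ⊕ Fin m) → F) :
    polar (stdOdd F m) (Pi.single (Sum.inr (Sum.inr j)) 1) x = x (Sum.inr (Sum.inl j)) := by
  rw [polar_stdOdd]
  simp [Pi.single_apply]

/-- For the form x_0² + Σ x_j y_j on F^(2m+1), F finite with q elements, q odd, and 1 ≤ i ≤ m: the involution of determinant one negating the first i hyperbolic pairs (and fixing x_0 and the other pairs) lies in Ω_(2m+1)(q) (commutator subgroup of the orthogonal group) if and only if q^i ≡ 1 (mod 4); its (−1)-eigenspace is a hyperbolic 2i-space. -/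
theorem result {F : Type*} [Field F] [Fintype F] {q : ℕ} (hF : Fintype.card F = q) (hq : Odd q) {m : ℕ} (i : ℕ) (hi : 1 ≤ i) (him : i ≤ m) : (∃ g : ↥(Cfsg.isometryGroup F (Cfsg.quadFormOdd m F)), g ∈ Cfsg.Omega F (Cfsg.quadFormOdd m F) ∧ ((g : Matrix.GeneralLinearGroup (Unit ⊕ (Fin m ⊕ Fin m)) F) : Matrix (Unit ⊕ (Fin m ⊕ Fin m)) (Unit ⊕ (Fin m ⊕ Fin m)) F) = Matrix.diagonal (fun k : Unit ⊕ (Fin m ⊕ Fin m) => if (Sum.elim (fun _ : Unit => i) (Sum.elim (fun j : Fin m => (j : ℕ)) (fun j : Fin m => (j : ℕ))) k) < i then (-1 : F) else 1)) ↔ q ^ i % 4 = 1 := by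
  have h2 : (2 : F) ≠ 0 := two_ne_zero_of_odd_card hF hq
  have hcard : 2 ≤ Fintype.card (Unit ⊕ (Fin m ⊕ Fin m)) := by
    rw [Fintype.card_sum, Fintype.card_sum, Fintype.card_fin, Fintype.card_unit]
    omega
  have hfam := Cfsg.Agent.S2613.isHypFamily_comp (stdOdd_isHypFamily F m) (Fin.castLE him)
    (Fin.castLE_injective him)
  have key := exists_mem_Omega_iff_of_hypFamily (stdOdd F m) h2 hcard (stdOdd_nondegenerate F m h2)
    hfam (Matrix.diagonal (fun k : Unit ⊕ (Fin m ⊕ Fin m) => if (Sum.elim (fun _ : Unit => i) (Sum.elim (fun j : Fin m => (j : ℕ)) (fun j : Fin m => (j : ℕ))) k) < i then (-1 : F) else 1))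
    (by
      intro x
      apply diagonal_mulVec_eq_of_pairs (stdOdd F m)
        (fun j : Fin i => (Sum.inr (Sum.inl (Fin.castLE him j)) : Unit ⊕ (Fin m ⊕ Fin m)))
        (fun j : Fin i => (Sum.inr (Sum.inr (Fin.castLE him j)) : Unit ⊕ (Fin m ⊕ Fin m)))
      · intro a b h
        exact Fin.castLE_injective him (Sum.inl_injective (Sum.inr_injective h))
      · intro a b h
        exact Fin.castLE_injective him (Sum.inr_injective (Sum.inr_injective h))
      · intro a b h
        exact Sum.inl_ne_inr (Sum.inr_injective h)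
      · intro j x
        exact polar_odd_single_e m _ x
      · intro j x
        exact polar_odd_single_f m _ x
      · intro j
        exact if_pos j.2
      · intro j
        exact if_pos j.2
      · intro k h1 h2'
        rcases k with u | l | l
        · exact if_neg (lt_irrefl i)
        · apply if_neg
          intro hl
          exact h1 ⟨l, hl⟩ rfl
        · apply if_neg
          intro hl
          exact h2' ⟨l, hl⟩ rfl)
  rw [← isSquare_neg_one_pow_iff_card hF hq i, ← coe_stdOdd F m]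
  exact key

end Cfsg.Agent.S2614
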