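import Cfsg.Statements.S2616
import Cfsg.Agent.Lib.Helper43.QuadWitt

set_option autoImplicit false
open Cfsg

namespace Cfsg.Agent.S2616

open Module QuadraticMap Cfsg.Agent.Helper43

theorem result {F V : Type*} [Field F] [Finite F] [AddCommGroup V] [Module F V] [FiniteDimensional F V] {m : ℕ} (hm : 1 ≤ m) (hV : Module.finrank F V = 2 * m) (Q : QuadraticForm F V) (hQ : (QuadraticMap.polarBilin Q).Nondegenerate) : (∃ b : Module.Basis (Fin m ⊕ Fin m) F V, (∀ i, Q (b (Sum.inl i)) = 0 ∧ Q (b (Sum.inr i)) = 0) ∧ (∀ i j, QuadraticMap.polar ⇑Q (b (Sum.inl i)) (b (Sum.inr j)) = if i = j then 1 else 0) ∧ (∀ i j, QuadraticMap.polar ⇑Q (b (Sum.inl i)) (b (Sum.inl j)) = 0 ∧ QuadraticMap.polar ⇑Q (b (Sum.inr i)) (b (Sum.inr j)) = 0)) ∨ (∃ (b : Module.Basis ((Fin (m - 1) ⊕ Fin (m - 1)) ⊕ Fin 2) F V) (ζ : F), (∀ t : F, t ^ 2 + t + ζ ≠ 0) ∧ (∀ i, Q (b (Sum.inl (Sum.inl i))) = 0 ∧ Q (b (Sum.inl (Sum.inr i))) = 0) ∧ (∀ i j, QuadraticMap.polar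 ⇑Q (b (Sum.inl (Sum.inl i))) (b (Sum.inl (Sum.inr j))) = if i = j then 1 else 0) ∧ (∀ i j, QuadraticMap.polar ⇑Q (b (Sum.inl (Sum.inl i))) (b (Sum.inl (Sum.inl j))) = 0 ∧ QuadraticMap.polar ⇑Q (b (Sum.inl (Sum.inr i))) (b (Sum.inl (Sum.inr j))) = 0) ∧ (∀ i (k : Fin 2), QuadraticMap.polar ⇑Q (b (Sum.inl (Sum.inl i))) (b (Sum.inr k)) = 0 ∧ QuadraticMap.polar ⇑Q (b (Sum.inl (Sum.inr i))) (b (Sum.inr k)) = 0) ∧ Q (b (Sum.inr 0)) = 1 ∧ QuadraticMap.polar ⇑Q (b (Sum.inr 0)) (b (Sum.inr 1)) = 1 ∧ Q (b (Sum.inr 1)) = ζ) := by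
  obtain ⟨k, e, f, hfam, haniso, hWnd, hdim, hle2, hdisj⟩ := witt_decomp_finite Q hQ
  set W := LinearMap.BilinForm.orthogonal (polarBilin Q) (hypSpan (F := F) e f) with hW
  have hcases : (finrank F W = 0 ∧ k = m) ∨ (finrank F W = 2 ∧ k = m - 1) := by omega
  rcases hcases with ⟨hW0, hk⟩ | ⟨hW2, hk⟩
  · left
    subst hk
    have hcard : Fintype.card (Fin k ⊕ Fin k) = finrank F V := by
      rw [hV]; simp; ring
    have : Nonempty (Fin k ⊕ Fin k) := ⟨Sum.inl ⟨0, by omega⟩⟩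
    refine ⟨basisOfLinearIndependentOfCardEqFinrank hfam.linearIndependent hcard, ?_⟩
    rw [coe_basisOfLinearIndependentOfCardEqFinrank]
    simp only [Sum.elim_inl, Sum.elim_inr]
    exact ⟨fun i => ⟨hfam.qe i, hfam.qf i⟩, hfam.ef, fun i j => ⟨hfam.ee i j, hfam.ff i j⟩⟩
  · right
    subst hk
    -- x in W with Q x = 1
    obtain ⟨⟨x, hxW⟩, hQx⟩ := exists_eq_one (qrestrict Q W) hWnd (by omega)
    have hQx' : Q x = 1 := hQx
    have hx0 : (⟨x, hxW⟩ : W) ≠ 0 := by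
      intro h
      rw [h] at hQx
      simp at hQx
    obtain ⟨⟨y, hyW⟩, hxy, hind⟩ := exists_indep_partner (qrestrict Q W) hWnd (by omega)
      ⟨x, hxW⟩ hx0
    have hxy' : polar Q x y = 1 := hxy
    have hind' : ∀ a : F, a • x ≠ y := by
      intro a ha
      exact hind a (Subtype.ext ha)
    have hx0' : x ≠ 0 := fun h => hx0 (Subtype.ext h)
    have hxorth := (mem_orthogonal_hypSpan_iff Q e f x).mp hxW
    have hyorth := (mem_orthogonal_hypSpan_iff Q e f y).mp hyW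
    have hli2 : LinearIndependent F ![x, y] := (LinearIndependent.pair_iff' hx0').mpr hind'
    have hli : LinearIndependent F (Sum.elim (Sum.elim e f) ![x, y]) := by
      apply LinearIndependent.sum_type hfam.linearIndependent hli2
      have h1 : Submodule.span F (Set.range ![x, y]) ≤ W := by
        rw [Submodule.span_le]
        rintro _ ⟨i, rfl⟩
        fin_cases i
        · exact hxW
        · exact hyW
      exact hdisj.mono le_rfl h1
    have hcard : Fintype.card ((Fin (m - 1) ⊕ Fin (m - 1)) ⊕ Fin 2) = finrank F V := by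
      rw [hV]; simp; omega
    refine ⟨basisOfLinearIndependentOfCardEqFinrank hli hcard, Q y, ?_⟩
    rw [coe_basisOfLinearIndependentOfCardEqFinrank]
    simp only [Sum.elim_inl, Sum.elim_inr]
    refine ⟨?_, fun i => ⟨hfam.qe i, hfam.qf i⟩, hfam.ef, fun i j => ⟨hfam.ee i j, hfam.ff i j⟩,
      ?_, ?_, ?_, ?_⟩
    · intro t
      have h1 : Q (t • x + y) = t ^ 2 + t + Q y := by
        rw [map_add_eq, QuadraticMap.map_smul, polar_smul_left, hQx', hxy']
        simp only [smul_eq_mul, mul_one]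
        ring
      rw [← h1]
      apply haniso _ (W.add_mem (W.smul_mem t hxW) hyW)
      intro h0
      apply hind' (-t)
      rw [neg_smul]
      exact (eq_neg_of_add_eq_zero_right h0).symm ▸ (by simp)
    · intro i j
      fin_cases j
      · exact ⟨hxorth.1 i, hxorth.2 i⟩
      · exact ⟨hyorth.1 i, hyorth.2 i⟩
    · simpa using hQx'
    · simpa using hxy'
    · simp

end Cfsg.Agent.S2616
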