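import Cfsg.Statements.S2617
import Cfsg.Agent.Lib.Helper43.DotOrth

set_option autoImplicit false
open Cfsg

namespace Cfsg.Agent.S2617

open Module Matrix Cfsg.Agent.Helper43

theorem aniso {F : Type*} [Field F] (ζ : F) (hζ : ∀ t : F, t ^ 2 + t + ζ ≠ 0) (z0 z1 : F)
    (h : z0 ^ 2 + 1 * z0 * z1 + ζ * z1 ^ 2 = 0) : z0 = 0 ∧ z1 = 0 := by
  by_cases h1 : z1 = 0
  · subst h1
    have : z0 ^ 2 = 0 := by linear_combination h
    exact ⟨pow_eq_zero_iff (by norm_num) |>.mp this, rfl⟩
  · exfalso
    apply hζ (z0 / z1)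
    field_simp
    linear_combination h

theorem result {F : Type*} [Field F] [Finite F] {m : ℕ} (hm : 1 ≤ m) (ζ : F) (hζ : ∀ t : F, t ^ 2 + t + ζ ≠ 0) (g : (Fin m ⊕ Fin m → F) ≃ₗ[F] ((Fin (m - 1) ⊕ Fin (m - 1)) ⊕ Fin 2 → F)) : ¬ (∀ v : Fin m ⊕ Fin m → F, Cfsg.quadFormMinus (m - 1) F 1 ζ (g v) = Cfsg.quadFormPlus m F v) := by
  intro hg
  -- embedding of the totally singular subspace
  let j : (Fin m → F) →ₗ[F] (Fin m ⊕ Fin m → F) :=
    { toFun := fun a => Sum.elim a 0
      map_add' := by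
        intro a b
        ext (i | i) <;> simp
      map_smul' := by
        intro c a
        ext (i | i) <;> simp }
  have hj : Function.Injective j := by
    intro a b hab
    ext i
    have := congrFun hab (Sum.inl i)
    simpa [j] using this
  let h : (Fin m → F) →ₗ[F] ((Fin (m - 1) ⊕ Fin (m - 1)) ⊕ Fin 2 → F) := g.toLinearMap ∘ₗ j
  have hinj : Function.Injective h := g.injective.comp hj
  have hQ : ∀ a, Cfsg.quadFormMinus (m - 1) F 1 ζ (h a) = 0 := by
    intro a
    show Cfsg.quadFormMinus (m - 1) F 1 ζ (g (j a)) = 0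
    rw [hg]
    unfold Cfsg.quadFormPlus
    apply Finset.sum_eq_zero
    intro i _
    simp [j]
  let π' : (Fin m → F) →ₗ[F] (Fin (m - 1) → F) :=
    { toFun := fun a i => h a (Sum.inl (Sum.inr i))
      map_add' := by intro a b; ext i; simp
      map_smul' := by intro c a; ext i; simp }
  let ξ' : (Fin m → F) →ₗ[F] (Fin (m - 1) → F) :=
    { toFun := fun a i => h a (Sum.inl (Sum.inl i))
      map_add' := by intro a b; ext i; simp
      map_smul' := by intro c a; ext i; simp }
  set K := LinearMap.ker π' with hK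
  have hKy : ∀ a ∈ K, ∀ i, h a (Sum.inl (Sum.inr i)) = 0 := by
    intro a ha i
    have : π' a = 0 := ha
    exact congrFun this i
  have hKz : ∀ a ∈ K, h a (Sum.inr 0) = 0 ∧ h a (Sum.inr 1) = 0 := by
    intro a ha
    have h1 := hQ a
    unfold Cfsg.quadFormMinus at h1
    have h2 : ∑ i : Fin (m - 1), h a (Sum.inl (Sum.inl i)) * h a (Sum.inl (Sum.inr i)) = 0 := by
      apply Finset.sum_eq_zero
      intro i _
      rw [hKy a ha i, mul_zero]
    rw [h2, zero_add] at h1
    exact aniso ζ hζ _ _ h1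
  -- ξ' is injective on K
  have hξinj : Function.Injective (ξ'.domRestrict K) := by
    rw [← LinearMap.ker_eq_bot, LinearMap.ker_eq_bot']
    rintro ⟨a, ha⟩ h0
    apply Subtype.ext
    apply hinj
    show h a = h 0
    rw [map_zero]
    ext (((i | i)) | i)
    · exact congrFun h0 i
    · exact hKy a ha i
    · fin_cases i
      · exact (hKz a ha).1
      · exact (hKz a ha).2
  set S := LinearMap.range (ξ'.domRestrict K) with hS
  set T := LinearMap.range π' with hT
  have hSdim : finrank F S = finrank F K := LinearMap.finrank_range_of_inj hξinj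
  have hTdim : finrank F T + finrank F K = m := by
    have := π'.finrank_range_add_finrank_ker
    rw [Module.finrank_fintype_fun_eq_card, Fintype.card_fin] at this
    exact this
  have horth : ∀ s ∈ S, ∀ t ∈ T, s ⬝ᵥ t = 0 := by
    rintro _ ⟨⟨a, ha⟩, rfl⟩ _ ⟨a', rfl⟩
    have h1 := hQ (a + a')
    have h2 := hQ a'
    rw [map_add] at h1
    unfold Cfsg.quadFormMinus at h1 h2
    simp only [Pi.add_apply, hKy a ha, (hKz a ha).1, (hKz a ha).2, zero_add] at h1
    show ∑ i, h a (Sum.inl (Sum.inl i)) * h a' (Sum.inl (Sum.inr i)) = 0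
    have h3 : ∑ i : Fin (m - 1), (h a (Sum.inl (Sum.inl i)) + h a' (Sum.inl (Sum.inl i))) *
        h a' (Sum.inl (Sum.inr i)) = ∑ i, h a (Sum.inl (Sum.inl i)) * h a' (Sum.inl (Sum.inr i))
        + ∑ i, h a' (Sum.inl (Sum.inl i)) * h a' (Sum.inl (Sum.inr i)) := by
      rw [← Finset.sum_add_distrib]
      apply Finset.sum_congr rfl
      intro i _
      ring
    rw [h3] at h1
    linear_combination h1 - h2
  have := finrank_add_le_of_dotProduct_eq_zero S T horth
  rw [Fintype.card_fin] at this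
  omega

end Cfsg.Agent.S2617
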