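import Cfsg.Statements.S2618
import Cfsg.Agent.Lib.Helper43.QuadWitt

set_option autoImplicit false
open Cfsg

namespace Cfsg.Agent.S2618

open Module QuadraticMap Cfsg.Agent.Helper43

theorem result {F V : Type*} [Field F] [Finite F] [AddCommGroup V] [Module F V] [FiniteDimensional F V] {m : ℕ} (hV : Module.finrank F V = 2 * m + 1) (Q : QuadraticForm F V) (hQ : (QuadraticMap.polarBilin Q).Nondegenerate) : ∃ b : Module.Basis (Unit ⊕ (Fin m ⊕ Fin m)) F V, Q (b (Sum.inl ())) ≠ 0 ∧ (∀ i, QuadraticMap.polar ⇑Q (b (Sum.inl ())) (b (Sum.inr (Sum.inl i))) = 0 ∧ QuadraticMap.polar ⇑Q (b (Sum.inl ())) (b (Sum.inr (Sum.inr i))) = 0) ∧ (∀ i, Q (b (Sum.inr (Sum.inl i))) = 0 ∧ Q (b (Sum.inr (Sum.inr i))) = 0) ∧ (∀ i j, QuadraticMap.polar ⇑Q (b (Sum.inr (Sum.inl i))) (b (Sum.inr (Sum.inr j))) = if i = j then 1 else 0) ∧ (∀ i j, QuadraticMap.polar ⇑Q (b (Sum.inr (Sum.inl i))) (b (Sum.inr (Sum.inl j))) = 0 ∧ QuadraticMap.polar ⇑Q (b (Sum.inr (Sum.inr i)))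 (b (Sum.inr (Sum.inr j))) = 0) := by
  obtain ⟨k, e, f, hfam, haniso, hWnd, hdim, hle2, hdisj⟩ := witt_decomp_finite Q hQ
  set W := LinearMap.BilinForm.orthogonal (polarBilin Q) (hypSpan (F := F) e f) with hW
  have hk : k = m := by omega
  subst hk
  have hW1 : finrank F W = 1 := by omega
  obtain ⟨x, hxW, hx0⟩ := exists_ne_zero_of_finrank_pos W (by omega)
  have hQx : Q x ≠ 0 := haniso x hxW hx0
  have hxorth := (mem_orthogonal_hypSpan_iff Q e f x).mp hxW
  -- the family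
  have hli : LinearIndependent F (Sum.elim (fun _ : Unit => x) (Sum.elim e f)) := by
    apply LinearIndependent.sum_type
    · rw [linearIndependent_unique_iff]; exact hx0
    · exact hfam.linearIndependent
    · have h1 : Submodule.span F (Set.range (fun _ : Unit => x)) ≤ W := by
        rw [Submodule.span_le]
        rintro _ ⟨_, rfl⟩
        exact hxW
      exact (hdisj.symm).mono h1 le_rfl
  have hcard : Fintype.card (Unit ⊕ (Fin k ⊕ Fin k)) = finrank F V := by
    rw [hV]; simp; ring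
  refine ⟨basisOfLinearIndependentOfCardEqFinrank hli hcard, ?_⟩
  rw [coe_basisOfLinearIndependentOfCardEqFinrank]
  simp only [Sum.elim_inl, Sum.elim_inr]
  refine ⟨hQx, ?_, ?_, ?_, ?_⟩
  · intro i
    exact ⟨by rw [polar_comm]; exact hxorth.1 i, by rw [polar_comm]; exact hxorth.2 i⟩
  · intro i
    exact ⟨hfam.qe i, hfam.qf i⟩
  · intro i j
    exact hfam.ef i j
  · intro i j
    exact ⟨hfam.ee i j, hfam.ff i j⟩

end Cfsg.Agent.S2618
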