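import Cfsg.Statements.S2619
import Mathlib

set_option autoImplicit false
open Cfsg

namespace Cfsg.Agent.S2619

open Module

theorem char_two_add_self {F : Type*} [Field F] [CharP F 2] (x : F) : x + x = 0 :=
  CharTwo.add_self_eq_zero x

theorem result {F V ι : Type*} [Field F] [Finite F] [CharP F 2] [AddCommGroup V] [Module F V] [Fintype ι] (b : Module.Basis ι F V) (B : LinearMap.BilinForm F V) (hB : B.IsAlt) (c : ι → F) : ∃! Q : QuadraticForm F V, QuadraticMap.polarBilin Q = B ∧ ∀ i, Q (b i) = c i := by
  classical
  let e : ι ≃ Fin (Fintype.card ι) := Fintype.equivFin ι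
  let M : Matrix ι ι F := fun i j => if e i < e j then B (b i) (b j) else if i = j then c i else 0
  let B' : LinearMap.BilinForm F V := Matrix.toBilin b M
  have hB'basis : ∀ i j, B' (b i) (b j) = M i j := by
    intro i j
    have := LinearMap.BilinForm.toMatrix_toBilin b M
    have h2 := congrFun (congrFun this i) j
    rwa [LinearMap.BilinForm.toMatrix_apply] at h2
  have hsymm : ∀ x y, B x y = B y x := by
    intro x y
    have := hB.neg_eq x y
    rw [← this]
    exact (CharTwo.neg_eq (B x y)).symm
  have hQ0a : QuadraticMap.polarBilin (LinearMap.BilinMap.toQuadraticMap B') = B := by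
    apply LinearMap.BilinForm.ext_basis b
    intro i j
    rw [QuadraticMap.polarBilin_apply_apply, LinearMap.BilinMap.polar_toQuadraticMap, hB'basis,
      hB'basis]
    simp only [M]
    rcases lt_trichotomy (e i) (e j) with h | h | h
    · rw [if_pos h, if_neg (not_lt.mpr h.le), if_neg (by rintro rfl; exact lt_irrefl _ h), add_zero]
    · have hij : i = j := e.injective h
      subst hij
      rw [if_neg (lt_irrefl _), if_pos rfl, hB.self_eq_zero]
      exact char_two_add_self _
    · rw [if_neg (not_lt.mpr h.le), if_neg (by rintro rfl; exact lt_irrefl _ h), if_pos h, zero_add]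
      exact (hsymm _ _).symm
  have hQ0b : ∀ i, (LinearMap.BilinMap.toQuadraticMap B') (b i) = c i := by
    intro i
    rw [LinearMap.BilinMap.toQuadraticMap_apply, hB'basis]
    simp only [M]
    rw [if_neg (lt_irrefl _)]
    simp
  refine ⟨LinearMap.BilinMap.toQuadraticMap B', ⟨hQ0a, hQ0b⟩, ?_⟩
  rintro Q ⟨hQ1, hQ2⟩
  -- uniqueness
  have key : ∀ (Q1 : QuadraticForm F V), QuadraticMap.polarBilin Q1 = B → (∀ i, Q1 (b i) = c i) →
      ∀ (a : ι → F) (s : Finset ι), Q1 (∑ i ∈ s, a i • b i)
        = Q (∑ i ∈ s, a i • b i) := by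
    intro Q1 h1 h2 a s
    induction s using Finset.induction_on with
    | empty => simp
    | insert j s hj ih =>
      rw [Finset.sum_insert hj]
      have hp1 : ∀ x y, Q1 (x + y) = Q1 x + Q1 y + B x y := by
        intro x y
        rw [← h1, QuadraticMap.polarBilin_apply_apply, QuadraticMap.polar]
        ring
      have hp : ∀ x y, Q (x + y) = Q x + Q y + B x y := by
        intro x y
        rw [← hQ1, QuadraticMap.polarBilin_apply_apply, QuadraticMap.polar]
        ring
      rw [hp1, hp, ih, QuadraticMap.map_smul, QuadraticMap.map_smul, h2, hQ2]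
  ext x
  have hx : x = ∑ i, (b.repr x i) • b i := (b.sum_repr x).symm
  rw [hx]
  exact (key _ hQ0a hQ0b _ _).symm

end Cfsg.Agent.S2619
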