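import Cfsg.Statements.S2620
import Cfsg.Agent.Lib.Helper43.GramDet

set_option autoImplicit false
open Cfsg

namespace Cfsg.Agent.S2620

open Module Matrix Cfsg.Agent.Helper43

theorem polar_plus_eq {F : Type*} [Field F] (m : ℕ) (u v : Fin m ⊕ Fin m → F) :
    QuadraticMap.polar (Cfsg.quadFormPlus m F) u v
      = u ⬝ᵥ ((Matrix.fromBlocks (0 : Matrix (Fin m) (Fin m) F) (1 : Matrix (Fin m) (Fin m) F)
      (1 : Matrix (Fin m) (Fin m) F) (0 : Matrix (Fin m) (Fin m) F)) *ᵥ v) := by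
  unfold QuadraticMap.polar Cfsg.quadFormPlus
  rw [Matrix.fromBlocks_mulVec]
  simp only [dotProduct, Fintype.sum_sum_type, Sum.elim_inl, Sum.elim_inr, Matrix.zero_mulVec,
    Matrix.one_mulVec, zero_add, add_zero, Pi.add_apply, Function.comp_apply]
  rw [← Finset.sum_sub_distrib, ← Finset.sum_sub_distrib, ← Finset.sum_add_distrib]
  apply Finset.sum_congr rfl
  intro i _
  ring

theorem result {F : Type*} [Field F] [Fintype F] {q : ℕ} (hF : Fintype.card F = q) (hq : Odd q) {m : ℕ} (hm : 1 ≤ m) {ι : Type*} [Fintype ι] [DecidableEq ι] (b : Module.Basis ι F (Fin m ⊕ Fin m → F)) : IsSquare (Matrix.of (fun i j : ι => QuadraticMap.polar (Cfsg.quadFormPlus m F) (b i) (b j))).det ↔ Even (m * (q - 1) / 2) := by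
  simp only [polar_plus_eq]
  obtain ⟨d, hd, hdet⟩ := gram_det_eq (Matrix.fromBlocks (0 : Matrix (Fin m) (Fin m) F)
    (1 : Matrix (Fin m) (Fin m) F) (1 : Matrix (Fin m) (Fin m) F) (0 : Matrix (Fin m) (Fin m) F)) b
  rw [hdet, isSquare_sq_mul_iff d _ hd, det_swap_blocks, isSquare_neg_one_pow_iff,
    FiniteField.isSquare_neg_one_iff, hF, even_mul_half_iff m q hq]

end Cfsg.Agent.S2620
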