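import Cfsg.Statements.S2621
import Cfsg.Agent.Lib.Helper43.GramDet

set_option autoImplicit false
open Cfsg

namespace Cfsg.Agent.S2621

open Module Matrix Cfsg.Agent.Helper43

/-- Gram matrix of the minus-type form in the standard basis -/
def gram0 {F : Type*} [Field F] (k : ℕ) (a c : F) :
    Matrix ((Fin k ⊕ Fin k) ⊕ Fin 2) ((Fin k ⊕ Fin k) ⊕ Fin 2) F :=
  Matrix.fromBlocks
    (Matrix.fromBlocks (0 : Matrix (Fin k) (Fin k) F) (1 : Matrix (Fin k) (Fin k) F)
      (1 : Matrix (Fin k) (Fin k) F) (0 : Matrix (Fin k) (Fin k) F))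
    (0 : Matrix (Fin k ⊕ Fin k) (Fin 2) F) (0 : Matrix (Fin 2) (Fin k ⊕ Fin k) F)
    !![2, a; a, 2 * c]

theorem polar_minus_eq {F : Type*} [Field F] (k : ℕ) (a c : F)
    (u v : (Fin k ⊕ Fin k) ⊕ Fin 2 → F) :
    QuadraticMap.polar (Cfsg.quadFormMinus k F a c) u v = u ⬝ᵥ (gram0 k a c *ᵥ v) := by
  unfold QuadraticMap.polar Cfsg.quadFormMinus gram0
  rw [Matrix.fromBlocks_mulVec, Matrix.fromBlocks_mulVec]
  simp only [dotProduct, Fintype.sum_sum_type, Sum.elim_inl, Sum.elim_inr, Matrix.zero_mulVec,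
    Matrix.one_mulVec, zero_add, add_zero, Pi.add_apply, Function.comp_apply, Fin.sum_univ_two,
    Matrix.mulVec, Matrix.of_apply, Matrix.cons_val', Matrix.cons_val_zero, Matrix.cons_val_one,
    Matrix.cons_val_fin_one]
  have h1 : ∑ x : Fin k, (u (Sum.inl (Sum.inl x)) + v (Sum.inl (Sum.inl x))) *
      (u (Sum.inl (Sum.inr x)) + v (Sum.inl (Sum.inr x)))
      = ∑ x : Fin k, u (Sum.inl (Sum.inl x)) * u (Sum.inl (Sum.inr x)) +
        ∑ x : Fin k, v (Sum.inl (Sum.inl x)) * v (Sum.inl (Sum.inr x)) +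
        ∑ x : Fin k, u (Sum.inl (Sum.inl x)) * v (Sum.inl (Sum.inr x)) +
        ∑ x : Fin k, u (Sum.inl (Sum.inr x)) * v (Sum.inl (Sum.inl x)) := by
    simp only [← Finset.sum_add_distrib]
    apply Finset.sum_congr rfl
    intro i _
    ring
  linear_combination h1

theorem det_gram0 {F : Type*} [Field F] (k : ℕ) (a c : F) :
    (gram0 k a c).det = (-1) ^ k * (4 * c - a ^ 2) := by
  unfold gram0
  rw [Matrix.det_fromBlocks_zero₁₂, det_swap_blocks, Matrix.det_fin_two_of]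
  ring

theorem isSquare_mul_nonsquare {F : Type*} [Field F] [Fintype F] (hF : ringChar F ≠ 2)
    (x n : F) (hx : x ≠ 0) (hn : ¬ IsSquare n) : IsSquare (x * n) ↔ ¬ IsSquare x := by
  classical
  have hn0 : n ≠ 0 := by
    rintro rfl
    exact hn ⟨0, by ring⟩
  have hxn : x * n ≠ 0 := mul_ne_zero hx hn0
  rw [← quadraticChar_one_iff_isSquare hxn, ← quadraticChar_neg_one_iff_not_isSquare (F := F) (a := x),
    map_mul, (quadraticChar_neg_one_iff_not_isSquare (F := F) (a := n)).mpr hn]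
  constructor
  · intro h; linarith
  · intro h; rw [h]; norm_num

theorem result {F : Type*} [Field F] [Fintype F] {q : ℕ} (hF : Fintype.card F = q) (hq : Odd q) {m : ℕ} (hm : 1 ≤ m) (a c : F) (hac : ∀ z₁ z₂ : F, z₁ ^ 2 + a * z₁ * z₂ + c * z₂ ^ 2 = 0 → z₁ = 0 ∧ z₂ = 0) {ι : Type*} [Fintype ι] [DecidableEq ι] (b : Module.Basis ι F ((Fin (m - 1) ⊕ Fin (m - 1)) ⊕ Fin 2 → F)) : IsSquare (Matrix.of (fun i j : ι => QuadraticMap.polar (Cfsg.quadFormMinus (m - 1) F a c) (b i) (b j))).det ↔ ¬ Even (m * (q - 1) / 2) := by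
  simp only [polar_minus_eq]
  obtain ⟨d, hd, hdet⟩ := gram_det_eq (gram0 (m - 1) a c) b
  have hchar : ringChar F ≠ 2 := by
    intro h
    have := FiniteField.even_card_iff_char_two.mp h
    rw [hF] at this
    rcases hq with ⟨t, rfl⟩
    omega
  have h2 : (2 : F) ≠ 0 := Ring.two_ne_zero hchar
  -- the discriminant is a nonsquare
  have hns : ¬ IsSquare (a ^ 2 - 4 * c) := by
    rintro ⟨s, hs⟩
    have := hac ((-a + s) / 2) 1 (by
      field_simp
      linear_combination (-1 : F) * hs)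
    exact one_ne_zero this.2
  have hrew : (-1 : F) ^ (m - 1) * (4 * c - a ^ 2) = (-1) ^ m * (a ^ 2 - 4 * c) := by
    have : m = (m - 1) + 1 := by omega
    conv_rhs => rw [this, pow_succ]
    ring
  rw [hdet, isSquare_sq_mul_iff d _ hd, det_gram0, hrew,
    isSquare_mul_nonsquare hchar _ _ (pow_ne_zero _ (by norm_num)) hns, isSquare_neg_one_pow_iff,
    FiniteField.isSquare_neg_one_iff, hF, even_mul_half_iff m q hq]

end Cfsg.Agent.S2621
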