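import Cfsg.Statements.S2624
import Mathlib
import Cfsg.Agent.S2616

set_option autoImplicit false
open Cfsg

namespace Cfsg.Agent.S2624

section Aux
open QuadraticMap
variable {F V : Type*} [Field F] [AddCommGroup V] [Module F V]

theorem map_add_eq' (Q : QuadraticForm F V) (x y : V) : Q (x + y) = Q x + Q y + polar Q x y := by
  unfold polar; ring

/-- A quadratic form is determined by its values and polar values on a basis. -/
theorem quad_ext_basis {ι : Type*} (b : Module.Basis ι F V) (Q₁ Q₂ : QuadraticForm F V)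
    (h1 : ∀ i, Q₁ (b i) = Q₂ (b i))
    (h2 : ∀ i j, polar Q₁ (b i) (b j) = polar Q₂ (b i) (b j)) : Q₁ = Q₂ := by
  have hB : polarBilin Q₁ = polarBilin Q₂ := by
    apply b.ext
    intro i
    apply b.ext
    intro j
    rw [polarBilin_apply_apply, polarBilin_apply_apply, h2]
  have hpol : ∀ x y, polar Q₁ x y = polar Q₂ x y := by
    intro x y
    have := congrArg (fun B : LinearMap.BilinForm F V => B x y) hB
    simpa only [polarBilin_apply_apply] using this
  let S : Submodule F V :=
    { carrier := {v | Q₁ v = Q₂ v}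
      zero_mem' := by
        show Q₁ 0 = Q₂ 0
        rw [QuadraticMap.map_zero, QuadraticMap.map_zero]
      add_mem' := by
        intro x y hx hy
        show Q₁ (x + y) = Q₂ (x + y)
        rw [map_add_eq', map_add_eq', hpol, show Q₁ x = Q₂ x from hx, show Q₁ y = Q₂ y from hy]
      smul_mem' := by
        intro a x hx
        show Q₁ (a • x) = Q₂ (a • x)
        rw [QuadraticMap.map_smul, QuadraticMap.map_smul, show Q₁ x = Q₂ x from hx] }
  have hS : S = ⊤ := by
    rw [eq_top_iff, ← b.span_eq, Submodule.span_le]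
    rintro _ ⟨i, rfl⟩
    exact h1 i
  ext v
  have hv : v ∈ S := by rw [hS]; trivial
  exact hv

theorem sim_of_basis [FiniteDimensional F V] {ι : Type*} (b : Module.Basis ι F V)
    (Q : QuadraticForm F V) (hQ : (polarBilin Q).Nondegenerate) (c : F) (hc : c ≠ 0) (w : ι → V)
    (h1 : ∀ i, Q (w i) = c * Q (b i))
    (h2 : ∀ i j, polar Q (w i) (w j) = c * polar Q (b i) (b j)) :
    ∃ g : V ≃ₗ[F] V, ∀ v, Q (g v) = c * Q v := by
  let g₀ : V →ₗ[F] V := b.constr F w
  have hg₀ : ∀ i, g₀ (b i) = w i := b.constr_basis F w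
  have heq : Q.comp g₀ = c • Q := by
    apply quad_ext_basis b
    · intro i
      rw [QuadraticMap.comp_apply, hg₀, h1, smul_apply, smul_eq_mul]
    · intro i j
      have e1 : polar (Q.comp g₀) (b i) (b j) = polar Q (g₀ (b i)) (g₀ (b j)) := by
        unfold polar
        rw [QuadraticMap.comp_apply, QuadraticMap.comp_apply, QuadraticMap.comp_apply, map_add]
      have e2 : polar (c • Q) (b i) (b j) = c * polar Q (b i) (b j) := by
        unfold polar
        rw [smul_apply, smul_apply, smul_apply]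
        simp only [smul_eq_mul]
        ring
      rw [e1, e2, hg₀, hg₀, h2]
  have hsim : ∀ v, Q (g₀ v) = c * Q v := by
    intro v
    have := congrArg (fun q : QuadraticForm F V => q v) heq
    simpa only [QuadraticMap.comp_apply, smul_apply, smul_eq_mul] using this
  have hpolsim : ∀ u v, polar Q (g₀ u) (g₀ v) = c * polar Q u v := by
    intro u v
    unfold polar
    rw [← map_add, hsim, hsim, hsim]
    ring
  have hinj : Function.Injective g₀ := by
    rw [← LinearMap.ker_eq_bot, LinearMap.ker_eq_bot']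
    intro v hv
    apply hQ.1 v
    intro u
    rw [polarBilin_apply_apply]
    have := hpolsim v u
    rw [hv, polar_zero_left] at this
    exact (mul_eq_zero.mp this.symm).resolve_left hc
  exact ⟨LinearEquiv.ofInjectiveEndo g₀ hinj, fun v => hsim v⟩


/-- The anisotropic binary form `α² + αβ + ζβ²` over a finite field represents every scalar. -/
theorem exists_binary_rep {F : Type*} [Field F] [Finite F] (ζ : F) (hζ : ∀ t : F, t ^ 2 + t + ζ ≠ 0)
    (c : F) : ∃ α β : F, α ^ 2 + α * β + ζ * β ^ 2 = c := by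
  by_cases h2 : (2 : F) = 0
  · have hchar : ringChar F = 2 := by
      have : CharP F 2 := CharTwo.of_one_ne_zero_of_two_eq_zero one_ne_zero h2
      exact ringChar.eq F 2
    obtain ⟨s, hs⟩ := FiniteField.isSquare_of_char_two hchar c
    exact ⟨s, 0, by rw [hs]; ring⟩
  · have h4 : (4 : F) ≠ 0 := by
      have : (4 : F) = 2 * 2 := by norm_num
      rw [this]
      exact mul_ne_zero h2 h2
    have hδ : ζ - 1 / 4 ≠ 0 := by
      intro h
      apply hζ (-1 / 2)
      have hz : ζ = 1 / 4 := by linear_combination h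
      rw [hz]
      field_simp
      ring
    obtain ⟨s, t, hst⟩ := Cfsg.Agent.Helper43.exists_sq_add_sq_add h2 1 (ζ - 1 / 4) (-c)
      one_ne_zero hδ
    refine ⟨s - t / 2, t, ?_⟩
    have : (s - t / 2) ^ 2 + (s - t / 2) * t + ζ * t ^ 2 = s ^ 2 + (ζ - 1 / 4) * t ^ 2 := by
      field_simp
      ring
    rw [this]
    linear_combination hst

end Aux

section Plane
open QuadraticMap
variable {F V : Type*} [Field F] [AddCommGroup V] [Module F V]

theorem q_comb (Q : QuadraticForm F V) (x y : V) (a b : F) :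
    Q (a • x + b • y) = a * a * Q x + b * b * Q y + a * b * polar Q x y := by
  rw [map_add_eq', QuadraticMap.map_smul, QuadraticMap.map_smul, polar_smul_left, polar_smul_right]
  simp only [smul_eq_mul]
  ring

theorem polar_comb (Q : QuadraticForm F V) (x y : V) (a b a' b' : F) :
    polar Q (a • x + b • y) (a' • x + b' • y)
      = a * a' * (2 * Q x) + (a * b' + b * a') * polar Q x y + b * b' * (2 * Q y) := by
  rw [polar_add_left, polar_add_right, polar_add_right, polar_smul_left, polar_smul_left,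
    polar_smul_left, polar_smul_left, polar_smul_right, polar_smul_right, polar_smul_right,
    polar_smul_right, polar_self, polar_self, polar_comm Q y x]
  simp only [smul_eq_mul, nsmul_eq_mul, Nat.cast_ofNat]
  ring

end Plane

section Main
open QuadraticMap
variable {F V : Type*} [Field F] [AddCommGroup V] [Module F V]

theorem sim_hyp [FiniteDimensional F V] {m : ℕ} (Q : QuadraticForm F V)
    (hQ : (polarBilin Q).Nondegenerate) (c : F) (hc : c ≠ 0)
    (b : Module.Basis (Fin m ⊕ Fin m) F V)
    (hq : ∀ i, Q (b (Sum.inl i)) = 0 ∧ Q (b (Sum.inr i)) = 0)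
    (hee : ∀ i j, polar ⇑Q (b (Sum.inl i)) (b (Sum.inl j)) = 0 ∧
      polar ⇑Q (b (Sum.inr i)) (b (Sum.inr j)) = 0) :
    ∃ g : V ≃ₗ[F] V, ∀ v, Q (g v) = c * Q v := by
  apply sim_of_basis b Q hQ c hc
    (Sum.elim (fun i => c • b (Sum.inl i)) (fun i => b (Sum.inr i)))
  · rintro (i | i)
    · simp only [Sum.elim_inl]
      rw [QuadraticMap.map_smul, (hq i).1, smul_zero, mul_zero]
    · simp only [Sum.elim_inr]
      rw [(hq i).2, mul_zero]
  · rintro (i | i) (j | j)
    · simp only [Sum.elim_inl]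
      rw [polar_smul_left, polar_smul_right, (hee i j).1, smul_zero, smul_zero, mul_zero]
    · simp only [Sum.elim_inl, Sum.elim_inr]
      rw [polar_smul_left, smul_eq_mul]
    · simp only [Sum.elim_inl, Sum.elim_inr]
      rw [polar_smul_right, smul_eq_mul]
    · simp only [Sum.elim_inr]
      rw [(hee i j).2, mul_zero]

theorem sim_ell [FiniteDimensional F V] [Finite F] {k : ℕ} (Q : QuadraticForm F V)
    (hQ : (polarBilin Q).Nondegenerate) (c : F) (hc : c ≠ 0)
    (b : Module.Basis ((Fin k ⊕ Fin k) ⊕ Fin 2) F V) (ζ : F)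
    (hζ : ∀ t : F, t ^ 2 + t + ζ ≠ 0)
    (hq : ∀ i, Q (b (Sum.inl (Sum.inl i))) = 0 ∧ Q (b (Sum.inl (Sum.inr i))) = 0)
    (hee : ∀ i j, polar ⇑Q (b (Sum.inl (Sum.inl i))) (b (Sum.inl (Sum.inl j))) = 0 ∧
      polar ⇑Q (b (Sum.inl (Sum.inr i))) (b (Sum.inl (Sum.inr j))) = 0)
    (hex : ∀ i (l : Fin 2), polar ⇑Q (b (Sum.inl (Sum.inl i))) (b (Sum.inr l)) = 0 ∧
      polar ⇑Q (b (Sum.inl (Sum.inr i))) (b (Sum.inr l)) = 0)
    (hx : Q (b (Sum.inr 0)) = 1) (hxy : polar ⇑Q (b (Sum.inr 0)) (b (Sum.inr 1)) = 1)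
    (hy : Q (b (Sum.inr 1)) = ζ) :
    ∃ g : V ≃ₗ[F] V, ∀ v, Q (g v) = c * Q v := by
  obtain ⟨α, β, hαβ⟩ := exists_binary_rep ζ hζ c
  set x := b (Sum.inr 0) with hxdef
  set y := b (Sum.inr 1) with hydef
  have hw0 : Q (α • x + β • y) = c := by
    rw [q_comb, hx, hy, hxy]
    linear_combination hαβ
  have hw1 : Q ((-(β * ζ)) • x + (α + β) • y) = c * ζ := by
    rw [q_comb, hx, hy, hxy, ← hαβ]
    ring
  have hw01 : polar Q (α • x + β • y) ((-(β * ζ)) • x + (α + β) • y) = c := by
    rw [polar_comb, hx, hy, hxy, ← hαβ]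
    ring
  have hex0 : ∀ i, polar Q (b (Sum.inl (Sum.inl i))) x = 0 ∧ polar Q (b (Sum.inl (Sum.inr i))) x = 0 :=
    fun i => hex i 0
  have hex1 : ∀ i, polar Q (b (Sum.inl (Sum.inl i))) y = 0 ∧ polar Q (b (Sum.inl (Sum.inr i))) y = 0 :=
    fun i => hex i 1
  -- polar of hyperbolic vectors against combos of x,y
  have hzero : ∀ (u : V) (a a' : F), polar Q u x = 0 → polar Q u y = 0 →
      polar Q u (a • x + a' • y) = 0 := by
    intro u a a' h1 h2
    rw [polar_add_right, polar_smul_right, polar_smul_right, h1, h2, smul_zero, smul_zero, add_zero]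
  apply sim_of_basis b Q hQ c hc
    (Sum.elim (Sum.elim (fun i => c • b (Sum.inl (Sum.inl i))) (fun i => b (Sum.inl (Sum.inr i))))
      (fun l : Fin 2 => if l = 0 then α • x + β • y else (-(β * ζ)) • x + (α + β) • y))
  · rintro ((i | i) | l)
    · simp only [Sum.elim_inl]
      rw [QuadraticMap.map_smul, (hq i).1, smul_zero, mul_zero]
    · simp only [Sum.elim_inl, Sum.elim_inr]
      rw [(hq i).2, mul_zero]
    · simp only [Sum.elim_inr]
      fin_cases l
      · simp only [Fin.zero_eta, if_true]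
        rw [hw0, ← hxdef, hx, mul_one]
      · simp only [Fin.mk_one, Fin.isValue, one_ne_zero, if_false]
        rw [hw1, ← hydef, hy]
  · rintro ((i | i) | l) ((j | j) | l')
    · simp only [Sum.elim_inl]
      rw [polar_smul_left, polar_smul_right, (hee i j).1, smul_zero, smul_zero, mul_zero]
    · simp only [Sum.elim_inl, Sum.elim_inr]
      rw [polar_smul_left, smul_eq_mul]
    · simp only [Sum.elim_inl, Sum.elim_inr]
      rw [(hex i l').1, mul_zero, polar_smul_left]
      split_ifs
      · rw [hzero _ _ _ (hex0 i).1 (hex1 i).1, smul_zero]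
      · rw [hzero _ _ _ (hex0 i).1 (hex1 i).1, smul_zero]
    · simp only [Sum.elim_inl, Sum.elim_inr]
      rw [polar_smul_right, smul_eq_mul]
    · simp only [Sum.elim_inl, Sum.elim_inr]
      rw [(hee i j).2, mul_zero]
    · simp only [Sum.elim_inl, Sum.elim_inr]
      rw [(hex i l').2, mul_zero]
      split_ifs
      · rw [hzero _ _ _ (hex0 i).2 (hex1 i).2]
      · rw [hzero _ _ _ (hex0 i).2 (hex1 i).2]
    · simp only [Sum.elim_inl, Sum.elim_inr]
      rw [polar_comm Q (b (Sum.inr l)), (hex j l).1, mul_zero, polar_comm, polar_smul_left]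
      split_ifs
      · rw [hzero _ _ _ (hex0 j).1 (hex1 j).1, smul_zero]
      · rw [hzero _ _ _ (hex0 j).1 (hex1 j).1, smul_zero]
    · simp only [Sum.elim_inl, Sum.elim_inr]
      rw [polar_comm Q (b (Sum.inr l)), (hex j l).2, mul_zero, polar_comm]
      split_ifs
      · rw [hzero _ _ _ (hex0 j).2 (hex1 j).2]
      · rw [hzero _ _ _ (hex0 j).2 (hex1 j).2]
    · simp only [Sum.elim_inr]
      fin_cases l <;> fin_cases l'
      · simp only [Fin.zero_eta, if_true]
        rw [polar_self, hw0, ← hxdef, polar_self, hx]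
        simp only [nsmul_eq_mul, Nat.cast_ofNat]
        ring
      · simp only [Fin.zero_eta, Fin.mk_one, Fin.isValue, one_ne_zero, if_true, if_false]
        rw [hw01, ← hxdef, ← hydef, hxy, mul_one]
      · simp only [Fin.zero_eta, Fin.mk_one, Fin.isValue, one_ne_zero, if_true, if_false]
        rw [polar_comm, hw01, ← hxdef, ← hydef, polar_comm, hxy, mul_one]
      · simp only [Fin.mk_one, Fin.isValue, one_ne_zero, if_false]
        rw [polar_self, hw1, ← hydef, polar_self, hy]
        simp only [nsmul_eq_mul, Nat.cast_ofNat]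
        ring

end Main


theorem main {F : Type*} [Field F] [Fintype F] {n : ℕ} (hn : 2 ≤ n) (he : Even n)
    (Q : QuadraticForm F (Fin n → F)) (hQ : (QuadraticMap.polarBilin Q).Nondegenerate) (c : F)
    (hc : c ≠ 0) : ∃ g : (Fin n → F) ≃ₗ[F] (Fin n → F), ∀ v, Q (g v) = c * Q v := by
  obtain ⟨m, hm⟩ := he
  have hm1 : 1 ≤ m := by omega
  have hV : Module.finrank F (Fin n → F) = 2 * m := by
    rw [Module.finrank_fin_fun]
    omega
  rcases Cfsg.Agent.S2616.result hm1 hV Q hQ with
    ⟨b, hq, -, hee⟩ | ⟨b, ζ, hζ, hq, -, hee, hex, hx, hxy, hy⟩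
  · exact sim_hyp Q hQ c hc b hq hee
  · exact sim_ell Q hQ c hc b ζ hζ hq hee hex hx hxy hy


/-- For a quadratic form Q on F^n with non-degenerate polar form, F finite and n ≥ 2 even, every non-zero scalar c is the multiplier of some similarity: there is an invertible linear map g with Q(g v) = c·Q(v) for all v. -/
theorem result {F : Type*} [Field F] [Fintype F] {n : ℕ} (hn : 2 ≤ n) (he : Even n) (Q : QuadraticForm F (Fin n → F)) (hQ : (QuadraticMap.polarBilin Q).Nondegenerate) (c : F) (hc : c ≠ 0) : ∃ g : (Fin n → F) ≃ₗ[F] (Fin n → F), ∀ v, Q (g v) = c * Q v := by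
  exact main hn he Q hQ c hc

end Cfsg.Agent.S2624
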