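import Cfsg.Statements.S2625
-- import your own Cfsg.Agent.* helpers here

set_option autoImplicit false
open Cfsg

namespace Cfsg.Agent.S2625

/-- For a quadratic form Q on F^n with non-degenerate polar form, F finite and n odd (so |F| is odd), the multiplier of any similarity is a square: if g is an invertible linear map with Q(g v) = c·Q(v) for all v then c is a square. -/
theorem result {F : Type*} [Field F] [Fintype F] {n : ℕ} (hn : Odd n) (Q : QuadraticForm F (Fin n → F)) (hQ : (QuadraticMap.polarBilin Q).Nondegenerate) (g : (Fin n → F) ≃ₗ[F] (Fin n → F)) (c : F) (hg : ∀ v, Q (g v) = c * Q v) : IsSquare c := by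
  classical
  by_cases hc : c = 0
  · exact ⟨0, by simp [hc]⟩
  set b := Pi.basisFun F (Fin n) with hb
  set B := QuadraticMap.polarBilin Q with hB
  have hcomp : B.compl₁₂ (g : (Fin n → F) →ₗ[F] (Fin n → F)) (g : (Fin n → F) →ₗ[F] (Fin n → F)) = c • B := by
    refine LinearMap.ext fun u => LinearMap.ext fun v => ?_
    simp only [LinearMap.compl₁₂_apply, LinearMap.smul_apply, hB, QuadraticMap.polarBilin_apply_apply,
      QuadraticMap.polar, LinearEquiv.coe_coe, smul_eq_mul]
    rw [← map_add, hg, hg, hg]
    ring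
  have hdet : (LinearMap.toMatrix₂ b b B).det ≠ 0 := (LinearMap.nondegenerate_iff_det_ne_zero b).mp hQ
  have hmat := congrArg (LinearMap.toMatrix₂ b b) hcomp
  rw [LinearMap.toMatrix₂_compl₁₂ b b] at hmat
  have hmat' : LinearMap.toMatrix₂ b b (c • B) = c • LinearMap.toMatrix₂ b b B := by
    exact map_smul _ _ _
  rw [hmat'] at hmat
  have hd := congrArg Matrix.det hmat
  rw [Matrix.det_mul, Matrix.det_mul, Matrix.det_transpose, Matrix.det_smul, Fintype.card_fin] at hd
  set d := (LinearMap.toMatrix b b (g : (Fin n → F) →ₗ[F] (Fin n → F))).det with hd'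
  have h2 : d * d = c ^ n := by
    have : (d * d - c ^ n) * (LinearMap.toMatrix₂ b b B).det = 0 := by
      rw [sub_mul]; rw [sub_eq_zero]; rw [← hd]; ring
    rcases mul_eq_zero.mp this with h | h
    · exact sub_eq_zero.mp h
    · exact absurd h hdet
  obtain ⟨k, hk⟩ := hn
  refine ⟨d / c ^ k, ?_⟩
  have hck : c ^ k ≠ 0 := pow_ne_zero _ hc
  field_simp
  rw [← pow_two] at h2
  rw [h2, hk]; ring

end Cfsg.Agent.S2625
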