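import Cfsg.Statements.S2626
-- import your own Cfsg.Agent.* helpers here

set_option autoImplicit false
open Cfsg

namespace Cfsg.Agent.S2626


open scoped Matrix

section
variable {F : Type*} [Field F] {k l : ℕ}

/-- Block-diagonal embedding of `GL_k × GL_l` into `GL_(k+l)`. -/
def blockGL : GL (Fin k) F × GL (Fin l) F →* GL (Fin k ⊕ Fin l) F where
  toFun p :=
    { val := Matrix.fromBlocks (p.1 : Matrix (Fin k) (Fin k) F) 0 0 (p.2 : Matrix (Fin l) (Fin l) F)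
      inv := Matrix.fromBlocks ((p.1⁻¹ : GL (Fin k) F) : Matrix (Fin k) (Fin k) F) 0 0
        ((p.2⁻¹ : GL (Fin l) F) : Matrix (Fin l) (Fin l) F)
      val_inv := by
        rw [Matrix.fromBlocks_multiply]
        simp [Matrix.fromBlocks_one]
      inv_val := by
        rw [Matrix.fromBlocks_multiply]
        simp [Matrix.fromBlocks_one] }
  map_one' := by
    apply Units.ext
    simp [Matrix.fromBlocks_one]
  map_mul' p q := by
    apply Units.ext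
    simp [Matrix.fromBlocks_multiply]

theorem blockGL_val (p : GL (Fin k) F × GL (Fin l) F) :
    ((blockGL p : GL (Fin k ⊕ Fin l) F) : Matrix (Fin k ⊕ Fin l) (Fin k ⊕ Fin l) F) =
      Matrix.fromBlocks (p.1 : Matrix (Fin k) (Fin k) F) 0 0 (p.2 : Matrix (Fin l) (Fin l) F) := rfl

theorem mem_iso {ι : Type} [Fintype ι] [DecidableEq ι] (Q : (ι → F) → F) (g : GL ι F) :
    g ∈ Cfsg.isometryGroup F Q ↔ ∀ u, Q ((g : Matrix ι ι F) *ᵥ u) = Q u := by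
  constructor
  · intro h u
    exact h u u
  · intro h u _
    exact h u

variable (Q₁ : (Fin k → F) → F) (Q₂ : (Fin l → F) → F)

theorem blockGL_mem (p : GL (Fin k) F × GL (Fin l) F)
    (h1 : p.1 ∈ Cfsg.isometryGroup F Q₁) (h2 : p.2 ∈ Cfsg.isometryGroup F Q₂) :
    blockGL p ∈ Cfsg.isometryGroup F
      (fun v : Fin k ⊕ Fin l → F => Q₁ (v ∘ Sum.inl) + Q₂ (v ∘ Sum.inr)) := by
  rw [mem_iso] at h1 h2 ⊢
  intro u
  rw [blockGL_val, Matrix.fromBlocks_mulVec]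
  simp only [Matrix.zero_mulVec, add_zero, zero_add]
  have e1 : (Sum.elim ((p.1 : Matrix (Fin k) (Fin k) F) *ᵥ (u ∘ Sum.inl))
      ((p.2 : Matrix (Fin l) (Fin l) F) *ᵥ (u ∘ Sum.inr))) ∘ Sum.inl
      = (p.1 : Matrix (Fin k) (Fin k) F) *ᵥ (u ∘ Sum.inl) := by
    ext i; simp
  have e2 : (Sum.elim ((p.1 : Matrix (Fin k) (Fin k) F) *ᵥ (u ∘ Sum.inl))
      ((p.2 : Matrix (Fin l) (Fin l) F) *ᵥ (u ∘ Sum.inr))) ∘ Sum.inr
      = (p.2 : Matrix (Fin l) (Fin l) F) *ᵥ (u ∘ Sum.inr) := by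
    ext i; simp
  rw [e1, e2, h1, h2]

/-- Block-diagonal embedding of `O(Q₁) × O(Q₂)` into `O(Q₁ ⊕ Q₂)`. -/
def blockIso : ↥(Cfsg.isometryGroup F Q₁) × ↥(Cfsg.isometryGroup F Q₂) →*
    ↥(Cfsg.isometryGroup F (fun v : Fin k ⊕ Fin l → F => Q₁ (v ∘ Sum.inl) + Q₂ (v ∘ Sum.inr))) where
  toFun p := ⟨blockGL (p.1.1, p.2.1), blockGL_mem Q₁ Q₂ _ p.1.2 p.2.2⟩
  map_one' := by
    apply Subtype.ext
    exact blockGL.map_one
  map_mul' p q := by
    apply Subtype.ext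
    exact blockGL.map_mul (p.1.1, p.2.1) (q.1.1, q.2.1)

theorem map_mem_commutator {G H : Type*} [Group G] [Group H] (f : G →* H) (g : G)
    (hg : g ∈ commutator G) : f g ∈ commutator H := by
  have h1 : f g ∈ (commutator G).map f := Subgroup.mem_map_of_mem f hg
  rw [commutator_def, Subgroup.map_commutator] at h1
  exact Subgroup.commutator_mono le_top le_top h1

end

/-- Ω of an orthogonal direct sum contains the product of the Ω's: for quadratic forms Q₁ on F^k and Q₂ on F^l with non-degenerate polar forms (F finite) and Q = Q₁ ⊕ Q₂ on F^(k+l), if g₁ lies in Ω(Q₁) and g₂ in Ω(Q₂) (commutator subgroups of the orthogonal groups) then the block-diagonal isometry diag(g₁, g₂) lies in Ω(Q). -/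
theorem result {F : Type*} [Field F] [Fintype F] {k l : ℕ} (Q₁ : QuadraticForm F (Fin k → F)) (Q₂ : QuadraticForm F (Fin l → F)) (h₁ : (QuadraticMap.polarBilin Q₁).Nondegenerate) (h₂ : (QuadraticMap.polarBilin Q₂).Nondegenerate) (g₁ : ↥(Cfsg.isometryGroup F ⇑Q₁)) (g₂ : ↥(Cfsg.isometryGroup F ⇑Q₂)) (hg₁ : g₁ ∈ Cfsg.Omega F ⇑Q₁) (hg₂ : g₂ ∈ Cfsg.Omega F ⇑Q₂) : ∃ g : ↥(Cfsg.isometryGroup F (fun v : Fin k ⊕ Fin l → F => Q₁ (v ∘ Sum.inl) + Q₂ (v ∘ Sum.inr))), g ∈ Cfsg.Omega F (fun v : Fin k ⊕ Fin l → F => Q₁ (v ∘ Sum.inl) + Q₂ (v ∘ Sum.inr)) ∧ ((g : Matrix.GeneralLinearGroup (Fin k ⊕ Fin l) F) : Matrix (Fin k ⊕ Fin l) (Fin k ⊕ Fin l) F) = Matrix.fromBlocks ((g₁ : Matrix.GeneralLinearGroup (Fin k) F) : Matrix (Fin k) (Fin k) F) 0 0 ((g₂ : Matrix.GeneralLinearGroup (Fin l) F) : Matrix (Fin l) (Fin l) F) := by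
  refine ⟨blockIso (⇑Q₁) (⇑Q₂) (g₁, 1) * blockIso (⇑Q₁) (⇑Q₂) (1, g₂), ?_, ?_⟩
  · apply Subgroup.mul_mem
    · exact map_mem_commutator ((blockIso (⇑Q₁) (⇑Q₂)).comp (MonoidHom.inl _ _)) g₁ hg₁
    · exact map_mem_commutator ((blockIso (⇑Q₁) (⇑Q₂)).comp (MonoidHom.inr _ _)) g₂ hg₂
  · rw [← map_mul]
    simp only [Prod.mk_mul_mk, mul_one, one_mul]
    rfl

end Cfsg.Agent.S2626
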