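import Cfsg.Statements.S2627
-- import your own Cfsg.Agent.* helpers here
import Mathlib
import Cfsg.Agent.Lib.Helper13.QuadMat
import Cfsg.Agent.Lib.Helper43.SpinorNorm
import Cfsg.Agent.Lib.Helper44.CartanDieudonne
import Cfsg.Agent.Lib.Helper44.CDChar2
import Cfsg.Agent.Lib.Helper44.ReflParity
import Cfsg.Agent.S0792
import Cfsg.Agent.S0786
import Cfsg.Agent.S2635
import Cfsg.Agent.S0789
import Cfsg.Agent.S0787
import Cfsg.Agent.S2626

set_option autoImplicit false
open Cfsg

namespace Cfsg.Agent.S2627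

section aux

open Matrix QuadraticMap Cfsg.Agent.Helper44 Cfsg.Agent.Helper13 Cfsg.Agent.Helper43
  Cfsg.Agent.S0792 Cfsg.Agent.S0786 Cfsg.Agent.S2635

variable {F : Type*} [Field F] {k l : ℕ}

/-- The orthogonal direct sum as a quadratic form. -/
noncomputable def QS (Q₁ : QuadraticForm F (Fin k → F)) (Q₂ : QuadraticForm F (Fin l → F)) :
    QuadraticForm F (Fin k ⊕ Fin l → F) :=
  Q₁.comp (LinearMap.funLeft F F Sum.inl) + Q₂.comp (LinearMap.funLeft F F Sum.inr)

theorem coe_QS (Q₁ : QuadraticForm F (Fin k → F)) (Q₂ : QuadraticForm F (Fin l → F)) :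
    ⇑(QS Q₁ Q₂) = fun v : Fin k ⊕ Fin l → F => Q₁ (v ∘ Sum.inl) + Q₂ (v ∘ Sum.inr) := rfl

theorem QS_apply (Q₁ : QuadraticForm F (Fin k → F)) (Q₂ : QuadraticForm F (Fin l → F))
    (v : Fin k ⊕ Fin l → F) : QS Q₁ Q₂ v = Q₁ (v ∘ Sum.inl) + Q₂ (v ∘ Sum.inr) := rfl

theorem polar_QS (Q₁ : QuadraticForm F (Fin k → F)) (Q₂ : QuadraticForm F (Fin l → F))
    (x y : Fin k ⊕ Fin l → F) :
    polar (QS Q₁ Q₂) x y =
      polar Q₁ (x ∘ Sum.inl) (y ∘ Sum.inl) + polar Q₂ (x ∘ Sum.inr) (y ∘ Sum.inr) := by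
  unfold polar
  rw [QS_apply, QS_apply, QS_apply]
  have e1 : (x + y) ∘ Sum.inl = x ∘ Sum.inl + y ∘ (Sum.inl : Fin k → Fin k ⊕ Fin l) := rfl
  have e2 : (x + y) ∘ Sum.inr = x ∘ Sum.inr + y ∘ (Sum.inr : Fin l → Fin k ⊕ Fin l) := rfl
  rw [e1, e2]
  ring

theorem QS_nondegenerate (Q₁ : QuadraticForm F (Fin k → F)) (Q₂ : QuadraticForm F (Fin l → F))
    (h₁ : (polarBilin Q₁).Nondegenerate) (h₂ : (polarBilin Q₂).Nondegenerate) :
    (polarBilin (QS Q₁ Q₂)).Nondegenerate := by
  rw [(polarBilin_isRefl _).nondegenerate_iff_separatingLeft]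
  intro v hv
  have hl : v ∘ Sum.inl = 0 := by
    apply h₁.1
    intro y
    have := hv (Sum.elim y 0)
    rw [polarBilin_apply_apply, polar_QS, Sum.elim_comp_inl, Sum.elim_comp_inr] at this
    rw [polarBilin_apply_apply]
    simpa using this
  have hr : v ∘ Sum.inr = 0 := by
    apply h₂.1
    intro y
    have := hv (Sum.elim 0 y)
    rw [polarBilin_apply_apply, polar_QS, Sum.elim_comp_inl, Sum.elim_comp_inr] at this
    rw [polarBilin_apply_apply]
    simpa using this
  funext i
  rcases i with i | i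
  · exact congrFun hl i
  · exact congrFun hr i

theorem refl_block (Q₁ : QuadraticForm F (Fin k → F)) (Q₂ : QuadraticForm F (Fin l → F))
    (v : Fin k → F) :
    Cfsg.reflectionMatrix (⇑(QS Q₁ Q₂)) (Sum.elim v 0) =
      Matrix.fromBlocks (Cfsg.reflectionMatrix (⇑Q₁) v) 0 0 1 := by
  apply matrix_ext_mulVec
  intro x
  rw [reflectionMatrix_mulVec, Matrix.fromBlocks_mulVec, polar_QS, QS_apply, Sum.elim_comp_inl,
    Sum.elim_comp_inr, reflectionMatrix_mulVec]
  funext i
  rcases i with i | i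
  · simp
  · simp

theorem list_block (Q₁ : QuadraticForm F (Fin k → F)) (Q₂ : QuadraticForm F (Fin l → F))
    (L : List (Fin k → F)) :
    ((L.map (fun v : Fin k → F => (Sum.elim v 0 : Fin k ⊕ Fin l → F))).map
      (Cfsg.reflectionMatrix (⇑(QS Q₁ Q₂)))).prod =
      Matrix.fromBlocks (L.map (Cfsg.reflectionMatrix (⇑Q₁))).prod 0 0 1 := by
  induction L with
  | nil => simp [Matrix.fromBlocks_one]
  | cons v L ih =>
    rw [List.map_cons, List.map_cons, List.prod_cons, ih, refl_block, List.map_cons,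
      List.prod_cons, Matrix.fromBlocks_multiply]
    simp

end aux

section char2

open Matrix QuadraticMap Cfsg.Agent.Helper44 Cfsg.Agent.Helper13
  Cfsg.Agent.S0792 Cfsg.Agent.S0786 Cfsg.Agent.S2635

variable {F : Type*} [Field F] [Fintype F] {ι : Type} [Fintype ι] [DecidableEq ι]

/-- Characteristic two: `Ω` is the group of products of an even number of reflections
(general index type, no lower bound on the dimension). -/
theorem omega_eq_Rplus (h2 : (2 : F) = 0) (Q : QuadraticForm F (ι → F))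
    (hQ : (polarBilin Q).Nondegenerate) (hexc : Fintype.card F ≠ 2 ∨ Fintype.card ι ≠ 4) :
    Cfsg.Omega F (⇑Q) = S0789.Rplus Q := by
  apply le_antisymm
  · show commutator ↥(Cfsg.isometryGroup F ⇑Q) ≤ _
    rw [commutator_def, Subgroup.commutator_le]
    intro a _ b _
    obtain ⟨la, hla, hMa⟩ := S0786.matrix_cd_all Q hQ hexc
      ((a : Matrix.GeneralLinearGroup ι F) : Matrix ι ι F) (fun u => a.2 u u)
    obtain ⟨lb, hlb, hMb⟩ := S0786.matrix_cd_all Q hQ hexc
      ((b : Matrix.GeneralLinearGroup ι F) : Matrix ι ι F) (fun u => b.2 u u)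
    obtain ⟨a', ha'⟩ := exists_G_of_list Q la.reverse (fun w hw => hla w (List.mem_reverse.mp hw))
    obtain ⟨b', hb'⟩ := exists_G_of_list Q lb.reverse (fun w hw => hlb w (List.mem_reverse.mp hw))
    have hainv : a⁻¹ = a' := by
      apply inv_eq_of_mul_eq_one_right
      apply Subtype.ext
      apply Units.ext
      rw [Subgroup.coe_mul, Units.val_mul, hMa, ha', list_prod_mul_reverse Q la hla]
      rfl
    have hbinv : b⁻¹ = b' := by
      apply inv_eq_of_mul_eq_one_right
      apply Subtype.ext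
      apply Units.ext
      rw [Subgroup.coe_mul, Units.val_mul, hMb, hb', list_prod_mul_reverse Q lb hlb]
      rfl
    apply S0792.mem_closure_of_even Q (la.length + lb.length)
      (la ++ (lb ++ (la.reverse ++ lb.reverse)))
    · simp only [List.length_append, List.length_reverse]
      ring
    · intro w hw
      simp only [List.mem_append, List.mem_reverse] at hw
      rcases hw with hw | hw | hw | hw
      · exact hla w hw
      · exact hlb w hw
      · exact hla w hw
      · exact hlb w hw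
    · rw [commutatorElement_def, hainv, hbinv, Subgroup.coe_mul, Subgroup.coe_mul,
        Subgroup.coe_mul, Units.val_mul, Units.val_mul, Units.val_mul, hMa, hMb, ha', hb',
        List.map_append, List.map_append, List.map_append, List.prod_append, List.prod_append,
        List.prod_append, mul_assoc, mul_assoc]
  · unfold S0789.Rplus
    rw [Subgroup.closure_le]
    rintro g ⟨u, v, hu, hv, hg⟩
    have : g = S0792.reflG Q u hu * S0792.reflG Q v hv := by
      apply Subtype.ext
      apply Units.ext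
      rw [hg]
      rfl
    rw [this]
    exact pair_mem_commutator h2 Q hQ hexc u v hu hv

end char2

/-- For an orthogonal direct sum Q = Q₁ ⊕ Q₂ of quadratic forms with non-degenerate polar forms over a finite field, an isometry g₁ of Q₁ extended by the identity on the second summand lies in Ω(Q) (the commutator subgroup of the orthogonal group of Q) if and only if g₁ lies in Ω(Q₁). (Excluded: the field of two elements when the first summand or the whole space has dimension 4, where the commutator subgroup of O⁺₄(2) is smaller than the group usually called Ω.) -/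
theorem result {F : Type*} [Field F] [Fintype F] {k l : ℕ} (h : Fintype.card F ≠ 2 ∨ (k ≠ 4 ∧ k + l ≠ 4)) (Q₁ : QuadraticForm F (Fin k → F)) (Q₂ : QuadraticForm F (Fin l → F)) (h₁ : (QuadraticMap.polarBilin Q₁).Nondegenerate) (h₂ : (QuadraticMap.polarBilin Q₂).Nondegenerate) (g₁ : ↥(Cfsg.isometryGroup F ⇑Q₁)) : (∃ g : ↥(Cfsg.isometryGroup F (fun v : Fin k ⊕ Fin l → F => Q₁ (v ∘ Sum.inl) + Q₂ (v ∘ Sum.inr))), g ∈ Cfsg.Omega F (fun v : Fin k ⊕ Fin l → F => Q₁ (v ∘ Sum.inl) + Q₂ (v ∘ Sum.inr)) ∧ ((g : Matrix.GeneralLinearGroup (Fin k ⊕ Fin l) F) : Matrix (Fin k ⊕ Fin l) (Fin k ⊕ Fin l) F) = Matrix.fromBlocks ((g₁ : Matrix.GeneralLinearGroup (Fin k) F) : Matrix (Fin k) (Fin k) F) 0 0 1) ↔ g₁ ∈ Cfsg.Omega F ⇑Q₁ := by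
  classical
  have hexc₁ : Fintype.card F ≠ 2 ∨ Fintype.card (Fin k) ≠ 4 := by
    rw [Fintype.card_fin]
    rcases h with h | h
    · exact Or.inl h
    · exact Or.inr h.1
  have hexcS : Fintype.card F ≠ 2 ∨ Fintype.card (Fin k ⊕ Fin l) ≠ 4 := by
    rw [Fintype.card_sum, Fintype.card_fin, Fintype.card_fin]
    rcases h with h | h
    · exact Or.inl h
    · exact Or.inr h.2
  have hS := QS_nondegenerate Q₁ Q₂ h₁ h₂
  constructor
  · rintro ⟨g, hgΩ, hgM⟩
    change ↥(Cfsg.isometryGroup F ⇑(QS Q₁ Q₂)) at g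
    change g ∈ Cfsg.Omega F ⇑(QS Q₁ Q₂) at hgΩ
    obtain ⟨L, hL, hML⟩ := S0786.matrix_cd_all Q₁ h₁ hexc₁
      ((g₁ : Matrix.GeneralLinearGroup (Fin k) F) : Matrix (Fin k) (Fin k) F)
      (fun u => g₁.2 u u)
    -- the corresponding list for the sum
    have hL' : ∀ w ∈ L.map (fun v : Fin k → F => (Sum.elim v 0 : Fin k ⊕ Fin l → F)),
        QS Q₁ Q₂ w ≠ 0 := by
      intro w hw
      obtain ⟨v, hv, rfl⟩ := List.mem_map.mp hw
      rw [QS_apply, Sum.elim_comp_inl, Sum.elim_comp_inr, map_zero, add_zero]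
      exact hL v hv
    have hgM' : ((g : Matrix.GeneralLinearGroup (Fin k ⊕ Fin l) F) :
        Matrix (Fin k ⊕ Fin l) (Fin k ⊕ Fin l) F) =
        ((L.map (fun v : Fin k → F => (Sum.elim v 0 : Fin k ⊕ Fin l → F))).map
          (Cfsg.reflectionMatrix (⇑(QS Q₁ Q₂)))).prod := by
      rw [list_block, ← hML]
      exact hgM
    by_cases h2 : (2 : F) = 0
    · -- characteristic two: parity
      rw [omega_eq_Rplus h2 (QS Q₁ Q₂) hS hexcS,
        S0789.mem_Rplus_iff (QS Q₁ Q₂) hS g _ hL' hgM', List.length_map] at hgΩ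
      rw [omega_eq_Rplus h2 Q₁ h₁ hexc₁, S0789.mem_Rplus_iff Q₁ h₁ g₁ L hL hML]
      exact hgΩ
    · by_cases hk : 2 ≤ k
      · -- spinor norm criterion on both sides
        have c1 := (Helper43.mem_Omega_iff_of_list (QS Q₁ Q₂) h2
          (by rw [Fintype.card_sum, Fintype.card_fin, Fintype.card_fin]; omega) hS g _ hL'
          hgM').mp hgΩ
        rw [Helper43.mem_Omega_iff_of_list Q₁ h2 (by rw [Fintype.card_fin]; exact hk) h₁ g₁ L hL
          hML]
        rw [List.length_map, List.map_map] at c1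
        refine ⟨c1.1, ?_⟩
        have e : (L.map ((fun v => QS Q₁ Q₂ v) ∘
            (fun v : Fin k → F => (Sum.elim v 0 : Fin k ⊕ Fin l → F)))) =
            L.map (fun v => Q₁ v) := by
          apply List.map_congr_left
          intro v _
          rw [Function.comp_apply, QS_apply, Sum.elim_comp_inl, Sum.elim_comp_inr, map_zero,
            add_zero]
        rw [e] at c1
        exact c1.2
      · -- k ≤ 1: determinant
        have hdet := (S0787.mem_SO_iff (QS Q₁ Q₂) g).mp (S0787.Omega_le_SO (QS Q₁ Q₂) hgΩ)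
        rw [hgM, Matrix.det_fromBlocks_zero₂₁, Matrix.det_one, mul_one] at hdet
        have hg1 : g₁ = 1 := by
          apply Subtype.ext
          apply Units.ext
          have hk' : k = 0 ∨ k = 1 := by omega
          rcases hk' with rfl | rfl
          · exact Subsingleton.elim _ _
          · rw [Matrix.det_fin_one] at hdet
            ext i j
            fin_cases i
            fin_cases j
            simpa using hdet
        rw [hg1]
        exact Subgroup.one_mem _
  · intro hg₁
    obtain ⟨g, hg, hM⟩ := S2626.result Q₁ Q₂ h₁ h₂ g₁ 1 hg₁ (Subgroup.one_mem _)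
    refine ⟨g, hg, ?_⟩
    rw [hM]
    simp

end Cfsg.Agent.S2627
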