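import Cfsg.Statements.S2632
-- import your own Cfsg.Agent.* helpers here
import Mathlib
import Cfsg.Agent.Lib.Helper36.OmegaTrans
import Cfsg.Agent.S0795

set_option autoImplicit false
open Cfsg

namespace Cfsg.Agent.S2632

open Matrix Module QuadraticMap Cfsg.Agent.Helper36.QuadInv Cfsg.Agent.Helper36.OmegaTrans
  Cfsg.Agent.Helper43

/-- for a nondegenerate subspace `W` of a space of dimension at least three, every nonzero value
is taken by `Q` at a vector whose reflection stabilises `W` -/
theorem exists_stab_refl {F : Type*} [Field F] [Fintype F] {n : ℕ} (hn : 3 ≤ n)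
    (Q : QuadraticForm F (Fin n → F)) (hQ : (QuadraticMap.polarBilin Q).Nondegenerate)
    (W : Submodule F (Fin n → F))
    (hW : W ⊓ LinearMap.BilinForm.orthogonal (QuadraticMap.polarBilin Q) W = ⊥) (m : F)
    (hm : m ≠ 0) : ∃ (y : Fin n → F) (hy : Q y ≠ 0), Q y = m ∧ Stab Q W (reflIso Q hy) := by
  have hdisj : Disjoint W (LinearMap.BilinForm.orthogonal (polarBilin Q) W) := disjoint_iff.mpr hW
  have hrefl := polarBilin_isRefl Q
  by_cases hdim : finrank F W + 2 ≤ n
  · obtain ⟨y, hy1, hy2⟩ := Cfsg.Agent.S0795.exists_perp_value Q hQ W hdisj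
      (by rw [Fintype.card_fin]; exact hdim) m hm
    have hy : Q y ≠ 0 := by rw [hy2]; exact hm
    refine ⟨y, hy, hy2, stab_refl_of_perp Q W hy ?_⟩
    intro x hx
    rw [polar_comm]
    exact hy1 x hx
  · set H := LinearMap.BilinForm.orthogonal (polarBilin Q) W with hH
    have hHH : LinearMap.BilinForm.orthogonal (polarBilin Q) H = W :=
      LinearMap.BilinForm.orthogonal_orthogonal hQ hrefl W
    have hfr : finrank F H = finrank F (Fin n → F) - finrank F W :=
      LinearMap.BilinForm.finrank_orthogonal hQ W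
    rw [Module.finrank_fintype_fun_eq_card, Fintype.card_fin] at hfr
    obtain ⟨y, hy1, hy2⟩ := Cfsg.Agent.S0795.exists_perp_value Q hQ H
      (by rw [hHH]; exact hdisj.symm) (by rw [Fintype.card_fin]; omega) m hm
    have hy : Q y ≠ 0 := by rw [hy2]; exact hm
    refine ⟨y, hy, hy2, stab_refl_of_mem Q W hy ?_⟩
    rw [← hHH]
    intro x hx
    show polarBilin Q x y = 0
    rw [polarBilin_apply_apply]
    exact hy1 x hx

/-- Ω is transitive on non-degenerate subspaces of each isometry type: for a quadratic form Q on F^n, n ≥ 3, with non-degenerate polar form (F finite; excluding dimension 4 over the field of two elements), if U and W are subspaces on which the polar form is non-degenerate and there is a Q-preserving linear isomorphism U → W, then some element of Ω (the commutator subgroup of the orthogonal group) carries U to W. (In dimension 2 this fails: Ω can be {±1}, which fixes every line.) -/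
theorem result {F : Type*} [Field F] [Fintype F] {n : ℕ} (hn : 3 ≤ n) (h : Fintype.card F ≠ 2 ∨ n ≠ 4) (Q : QuadraticForm F (Fin n → F)) (hQ : (QuadraticMap.polarBilin Q).Nondegenerate) (U W : Submodule F (Fin n → F)) (hU : U ⊓ LinearMap.BilinForm.orthogonal (QuadraticMap.polarBilin Q) U = ⊥) (hW : W ⊓ LinearMap.BilinForm.orthogonal (QuadraticMap.polarBilin Q) W = ⊥) (e : U ≃ₗ[F] W) (he : ∀ u : U, Q (e u : Fin n → F) = Q (u : Fin n → F)) : ∃ g : ↥(Cfsg.isometryGroup F ⇑Q), g ∈ Cfsg.Omega F ⇑Q ∧ U.map (Matrix.mulVecLin ((g : Matrix.GeneralLinearGroup (Fin n) F) : Matrix (Fin n) (Fin n) F)) = W := by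
  classical
  obtain ⟨g₀, hg₀⟩ := exists_iso_map_eq Q hQ U W e he
  have hfin : ∀ s : OG F ⇑Q, Stab Q W s → s * g₀ ∈ Cfsg.Omega F ⇑Q →
      ∃ g : ↥(Cfsg.isometryGroup F ⇑Q), g ∈ Cfsg.Omega F ⇑Q ∧
        U.map (Matrix.mulVecLin ((g : Matrix.GeneralLinearGroup (Fin n) F) :
          Matrix (Fin n) (Fin n) F)) = W := by
    intro s hs hmem
    refine ⟨s * g₀, hmem, ?_⟩
    rw [map_mul_eq, hg₀]
    exact hs
  obtain ⟨a, ha, ha1, hsa⟩ := exists_stab_refl hn Q hQ W hW 1 one_ne_zero
  by_cases h2 : (2 : F) = 0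
  · -- characteristic two
    have : CharP F 2 := CharTwo.of_one_ne_zero_of_two_eq_zero one_ne_zero h2
    obtain ⟨s, hs, hmem⟩ := adjust_even (by omega) Q hQ h (Stab Q W) (stab_one Q W) ha hsa g₀
    exact hfin s hs hmem
  · -- odd characteristic
    have hchar : ringChar F ≠ 2 := by
      intro hc
      apply h2
      have h3 := ringChar.Nat.cast_ringChar (R := F)
      rw [hc] at h3
      exact_mod_cast h3
    obtain ⟨lam, hlam⟩ := FiniteField.exists_nonsquare hchar
    have hlam0 : lam ≠ 0 := by
      rintro rfl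
      exact hlam ⟨0, by ring⟩
    obtain ⟨c, hc, hc1, hsc⟩ := exists_stab_refl hn Q hQ W hW lam hlam0
    obtain ⟨s, hs, hmem⟩ := adjust_odd Q h2 hQ (Stab Q W) (stab_one Q W)
      (fun g h hg hh => stab_mul Q W g h hg hh) ha ha hc hsa
      (stab_mul Q W _ _ hsa hsc) (by
        rw [ha1, hc1, one_mul]
        exact hlam) g₀
    exact hfin s hs hmem

end Cfsg.Agent.S2632
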