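import Cfsg.Statements.S2633
-- import your own Cfsg.Agent.* helpers here
import Mathlib
import Cfsg.Agent.Lib.Helper36.OmegaTrans

set_option autoImplicit false
open Cfsg

namespace Cfsg.Agent.S2633

open Matrix Module QuadraticMap Cfsg.Agent.Helper36.QuadInv Cfsg.Agent.Helper36.OmegaTrans
  Cfsg.Agent.Helper43

/-- a totally singular subspace of less than half the dimension has a non-singular vector in
its orthogonal -/
theorem exists_nonsingular_perp {F : Type*} [Field F] {n : ℕ} (Q : QuadraticForm F (Fin n → F))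
    (hQ : (QuadraticMap.polarBilin Q).Nondegenerate) (W : Submodule F (Fin n → F)) {k : ℕ}
    (hk : 2 * k < n) (hW : Module.finrank F W = k) (hW0 : ∀ w ∈ W, Q w = 0) :
    ∃ a, Q a ≠ 0 ∧ ∀ x ∈ W, polar Q a x = 0 := by
  by_contra hcon
  push Not at hcon
  set T := LinearMap.BilinForm.orthogonal (polarBilin Q) W with hT
  have hdim : finrank F T = finrank F (Fin n → F) - finrank F W :=
    LinearMap.BilinForm.finrank_orthogonal hQ W
  rw [Module.finrank_fintype_fun_eq_card, Fintype.card_fin, hW] at hdim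
  have hTs : ∀ a ∈ T, Q a = 0 := by
    intro a haT
    by_contra hne
    obtain ⟨x, hxW, hx⟩ := hcon a hne
    apply hx
    have : polarBilin Q x a = 0 := haT x hxW
    rw [polarBilin_apply_apply] at this
    rw [polar_comm]
    exact this
  have hle : T ≤ LinearMap.BilinForm.orthogonal (polarBilin Q) T := by
    intro x hx y hy
    show polarBilin Q y x = 0
    rw [polarBilin_apply_apply]
    exact polar_zero_of_ts Q T hTs hy hx
  have h1 := Submodule.finrank_mono hle
  have h2 : finrank F (LinearMap.BilinForm.orthogonal (polarBilin Q) T) =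
      finrank F (Fin n → F) - finrank F T := LinearMap.BilinForm.finrank_orthogonal hQ T
  rw [Module.finrank_fintype_fun_eq_card, Fintype.card_fin] at h2
  omega

/-- Ω is transitive on totally singular subspaces of each dimension less than half the dimension: for a quadratic form Q on F^n with non-degenerate polar form (F finite; excluding dimension 4 over the field of two elements), if U and W are subspaces of the same dimension k with 2k < n on which Q vanishes, then some element of Ω (the commutator subgroup of the orthogonal group) carries U to W. -/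
theorem result {F : Type*} [Field F] [Fintype F] {n : ℕ} (h : Fintype.card F ≠ 2 ∨ n ≠ 4) (Q : QuadraticForm F (Fin n → F)) (hQ : (QuadraticMap.polarBilin Q).Nondegenerate) (U W : Submodule F (Fin n → F)) {k : ℕ} (hk : 2 * k < n) (hU : Module.finrank F U = k) (hW : Module.finrank F W = k) (hU0 : ∀ u ∈ U, Q u = 0) (hW0 : ∀ w ∈ W, Q w = 0) : ∃ g : ↥(Cfsg.isometryGroup F ⇑Q), g ∈ Cfsg.Omega F ⇑Q ∧ U.map (Matrix.mulVecLin ((g : Matrix.GeneralLinearGroup (Fin n) F) : Matrix (Fin n) (Fin n) F)) = W := by
  classical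
  -- the trivial case `k = 0`
  by_cases hk0 : k = 0
  · subst hk0
    have hUb : U = ⊥ := Submodule.finrank_eq_zero.mp hU
    have hWb : W = ⊥ := Submodule.finrank_eq_zero.mp hW
    refine ⟨1, Subgroup.one_mem _, ?_⟩
    rw [hUb, hWb, Submodule.map_bot]
  have hk1 : 1 ≤ k := Nat.one_le_iff_ne_zero.mpr hk0
  -- Witt
  have e : U ≃ₗ[F] W := LinearEquiv.ofFinrankEq U W (hU.trans hW.symm)
  obtain ⟨g₀, hg₀⟩ := exists_iso_map_eq Q hQ U W e (fun u => by
    rw [hW0 _ (e u).2, hU0 _ u.2])
  -- a non-singular vector orthogonal to `W`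
  obtain ⟨a, ha, haW⟩ := exists_nonsingular_perp Q hQ W hk hW hW0
  have hfin : ∀ s : OG F ⇑Q, Stab Q W s → s * g₀ ∈ Cfsg.Omega F ⇑Q →
      ∃ g : ↥(Cfsg.isometryGroup F ⇑Q), g ∈ Cfsg.Omega F ⇑Q ∧
        U.map (Matrix.mulVecLin ((g : Matrix.GeneralLinearGroup (Fin n) F) :
          Matrix (Fin n) (Fin n) F)) = W := by
    intro s hs hmem
    refine ⟨s * g₀, hmem, ?_⟩
    rw [map_mul_eq, hg₀]
    exact hs
  by_cases h2 : (2 : F) = 0
  · -- characteristic two
    have : CharP F 2 := CharTwo.of_one_ne_zero_of_two_eq_zero one_ne_zero h2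
    obtain ⟨s, hs, hmem⟩ := adjust_even (by omega) Q hQ h (Stab Q W) (stab_one Q W) ha
      (stab_refl_of_perp Q W ha haW) g₀
    exact hfin s hs hmem
  · -- odd characteristic
    have hpos : 0 < Module.finrank F W := by omega
    obtain ⟨w, hwW, hw0⟩ := Cfsg.Agent.Helper43.exists_ne_zero_of_finrank_pos W hpos
    obtain ⟨w', hw', hp⟩ := Cfsg.Agent.Helper43.exists_hyperbolic_partner Q hQ w hw0 (hW0 w hwW)
    have hchar : ringChar F ≠ 2 := by
      intro hc
      apply h2
      have h3 := ringChar.Nat.cast_ringChar (R := F)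
      rw [hc] at h3
      exact_mod_cast h3
    obtain ⟨lam, hlam⟩ := FiniteField.exists_nonsquare hchar
    have hlam0 : lam ≠ 0 := by
      rintro rfl
      exact hlam ⟨0, by ring⟩
    have hQb : Q (w - lam • w') = -lam := Q_hyp Q (hW0 w hwW) hw' hp lam
    have hQc : Q (w - (1 : F) • w') = -1 := Q_hyp Q (hW0 w hwW) hw' hp 1
    have hb : Q (w - lam • w') ≠ 0 := by rw [hQb]; exact neg_ne_zero.mpr hlam0
    have hc : Q (w - (1 : F) • w') ≠ 0 := by rw [hQc]; exact neg_ne_zero.mpr one_ne_zero
    obtain ⟨s, hs, hmem⟩ := adjust_odd Q h2 hQ (Stab Q W) (stab_one Q W)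
      (fun g h hg hh => stab_mul Q W g h hg hh) ha hb hc (stab_refl_of_perp Q W ha haW)
      (stab_hyp Q W hW0 hwW hw' hp hlam0 hb hc) (by
        rw [hQb, hQc]
        simpa using hlam) g₀
    exact hfin s hs hmem

end Cfsg.Agent.S2633
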