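import Cfsg.Statements.S2634
-- import your own Cfsg.Agent.* helpers here
import Mathlib
import Cfsg.Agent.Lib.Helper13.QuadMat
import Cfsg.Agent.Lib.Helper44.CartanDieudonne
import Cfsg.Agent.Lib.Helper44.CDChar2
import Cfsg.Agent.S0792
import Cfsg.Agent.S0786
import Cfsg.Agent.S2635

set_option autoImplicit false
open Cfsg

namespace Cfsg.Agent.S2634

/-- Over a finite field of characteristic two, Ω (the commutator subgroup of the orthogonal group of a quadratic form Q on F^n with non-degenerate polar form; excluding dimension 4 over the field of two elements) acts transitively on the non-singular 1-spaces: for u, v with Q(u) ≠ 0 and Q(v) ≠ 0 some element of Ω carries the line through u to the line through v. -/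
theorem result {F : Type*} [Field F] [Fintype F] [CharP F 2] {n : ℕ} (h : Fintype.card F ≠ 2 ∨ n ≠ 4) (Q : QuadraticForm F (Fin n → F)) (hQ : (QuadraticMap.polarBilin Q).Nondegenerate) (u v : Fin n → F) (hu : Q u ≠ 0) (hv : Q v ≠ 0) : ∃ g : ↥(Cfsg.isometryGroup F ⇑Q), g ∈ Cfsg.Omega F ⇑Q ∧ (F ∙ ((g : Matrix.GeneralLinearGroup (Fin n) F) : Matrix (Fin n) (Fin n) F).mulVec u) = F ∙ v := by
  have h2 : (2 : F) = 0 := CharTwo.two_eq_zero
  have hexc : Fintype.card F ≠ 2 ∨ Fintype.card (Fin n) ≠ 4 := by rw [Fintype.card_fin]; exact h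
  -- the closure of pairs of reflections lies in Ω
  have hle : Subgroup.closure {g : ↥(Cfsg.isometryGroup F ⇑Q) | ∃ u v : Fin n → F, Q u ≠ 0 ∧
      Q v ≠ 0 ∧ ((g : Matrix.GeneralLinearGroup (Fin n) F) : Matrix (Fin n) (Fin n) F) =
        Cfsg.reflectionMatrix ⇑Q u * Cfsg.reflectionMatrix ⇑Q v} ≤ Cfsg.Omega F ⇑Q := by
    rw [Subgroup.closure_le]
    rintro g ⟨u, v, hu, hv, hg⟩
    have : g = S0792.reflG Q u hu * S0792.reflG Q v hv := by
      apply Subtype.ext
      apply Units.ext
      rw [hg]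
      rfl
    rw [this]
    exact S2635.pair_mem_commutator h2 Q hQ hexc u v hu hv
  -- rescale v to have the norm of u
  obtain ⟨c, hc⟩ : ∃ c : F, Q u / Q v = c * c :=
    FiniteField.isSquare_of_char_two (ringChar.eq F 2) _
  have hc0 : c ≠ 0 := by
    rintro rfl
    rw [mul_zero] at hc
    exact (div_ne_zero hu hv) hc
  have hQcv : Q u = Q (c • v) := by
    rw [QuadraticMap.map_smul, smul_eq_mul, ← hc]
    field_simp
  obtain ⟨l, hl, hlu⟩ := Helper44.refl_trans Q h2 hQ
    (by rw [Module.finrank_fintype_fun_eq_card]; exact hexc) u (c • v) hu hQcv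
  -- an even list doing the same up to sign
  obtain ⟨l', hl', k, hk, c', hc', hl'u⟩ : ∃ l' : List (Fin n → F), (∀ z ∈ l', Q z ≠ 0) ∧
      ∃ k, l'.length = 2 * k ∧ ∃ c' : F, c' ≠ 0 ∧ Helper44.reflProd Q l' u = c' • v := by
    rcases Nat.even_or_odd l.length with he | ho
    · obtain ⟨k, hk⟩ := he
      exact ⟨l, hl, k, by omega, c, hc0, hlu⟩
    · obtain ⟨k, hk⟩ := ho
      refine ⟨l ++ [u], ?_, k + 1, ?_, -c, neg_ne_zero.mpr hc0, ?_⟩
      · intro z hz
        rcases List.mem_append.mp hz with hz | hz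
        · exact hl z hz
        · rw [List.mem_singleton] at hz
          rw [hz]; exact hu
      · rw [List.length_append, List.length_singleton]; omega
      · rw [Helper44.reflProd_append, Module.End.mul_apply, Helper44.reflProd_cons,
          Helper44.reflProd_nil, mul_one, Helper44.reflLin_self Q u hu, map_neg, hlu, neg_smul]
  obtain ⟨ρ, hρ⟩ := S2635.exists_G_of_list Q l' hl'
  refine ⟨ρ, hle (S0792.mem_closure_of_even Q k l' hk hl' ρ hρ), ?_⟩
  rw [hρ, S2635.list_prod_mulVec, hl'u]
  exact Submodule.span_singleton_smul_eq (IsUnit.mk0 c' hc') v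

end Cfsg.Agent.S2634
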