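import Cfsg.Statements.S2636
import Mathlib
-- import your own Cfsg.Agent.* helpers here

set_option autoImplicit false
open Cfsg

namespace Cfsg.Agent.S2636


section A
variable {F : Type*} [Field F] [Fintype F] (σ : F ≃+* F)

/-- the fixed field of `σ` -/
noncomputable abbrev fixF : Subfield F := FixedPoints.subfield (Subgroup.zpowers σ) F

theorem mem_fixF (x : F) : x ∈ fixF σ ↔ σ x = x := by
  constructor
  · intro h
    exact h ⟨σ, Subgroup.mem_zpowers σ⟩
  · intro h g
    obtain ⟨g, hg⟩ := g
    obtain ⟨k, rfl⟩ := Subgroup.mem_zpowers_iff.mp hg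
    change (σ ^ k) x = x
    have h1 : ∀ m : ℕ, (σ ^ m) x = x := by
      intro m
      induction m with
      | zero => simp
      | succ m ih => rw [pow_succ, RingAut.mul_apply, h, ih]
    have h2 : ∀ m : ℕ, (σ ^ m)⁻¹ x = x := by
      intro m
      have := h1 m
      conv_lhs => rw [← this]
      rw [← RingAut.mul_apply, inv_mul_cancel, RingAut.one_apply]
    rcases Int.eq_nat_or_neg k with ⟨m, rfl | rfl⟩
    · simpa using h1 m
    · simpa using h2 m

theorem card_fixF {q₀ r : ℕ} (hr : r.Prime) (hF : Fintype.card F = q₀ ^ r) (hσ : orderOf σ = r) :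
    Nat.card (fixF σ) = q₀ := by
  classical
  have : Finite (F ≃+* F) := Finite.of_injective (fun e => (e : F → F)) DFunLike.coe_injective
  have : Fintype (Subgroup.zpowers σ) := Fintype.ofFinite _
  have : Fintype (fixF σ) := Fintype.ofFinite _
  have h1 : Module.finrank (fixF σ) F = r := by
    rw [FixedPoints.finrank_eq_card (Subgroup.zpowers σ) F, ← Nat.card_eq_fintype_card,
      Nat.card_zpowers, hσ]
  have h2 : Fintype.card F = Fintype.card (fixF σ) ^ Module.finrank (fixF σ) F :=
    Module.card_eq_pow_finrank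
  rw [h1, hF] at h2
  rw [Nat.card_eq_fintype_card]
  exact (Nat.pow_left_injective hr.ne_zero h2).symm

end A

section B
variable {F : Type*} [Field F] (F₀ : Subfield F) (n : ℕ)

/-- scalar matrices as a hom `Fˣ →* GL_n(F)` -/
def scalarGL : Fˣ →* GL (Fin n) F := Units.map (Matrix.scalar (Fin n)).toMonoidHom

theorem scalarGL_val (d : Fˣ) :
    ((scalarGL n d : GL (Fin n) F) : Matrix (Fin n) (Fin n) F) = Matrix.scalar (Fin n) (d : F) := rfl

/-- `(d, h) ↦ d • h` -/
def Psi : Fˣ × GL (Fin n) F₀ →* GL (Fin n) F where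
  toFun p := scalarGL n p.1 * Matrix.GeneralLinearGroup.map F₀.subtype p.2
  map_one' := by simp
  map_mul' p q := by
    simp only [Prod.fst_mul, Prod.snd_mul, map_mul]
    have hc : Commute (scalarGL n q.1) (Matrix.GeneralLinearGroup.map F₀.subtype p.2) := by
      apply Units.ext
      rw [Units.val_mul, Units.val_mul, scalarGL_val]
      exact (Matrix.scalar_commute _ (fun r' => Commute.all _ r') _).eq
    calc scalarGL n p.1 * scalarGL n q.1 * (Matrix.GeneralLinearGroup.map F₀.subtype p.2 *
          Matrix.GeneralLinearGroup.map F₀.subtype q.2)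
        = scalarGL n p.1 * (scalarGL n q.1 * Matrix.GeneralLinearGroup.map F₀.subtype p.2) *
          Matrix.GeneralLinearGroup.map F₀.subtype q.2 := by group
      _ = scalarGL n p.1 * (Matrix.GeneralLinearGroup.map F₀.subtype p.2 * scalarGL n q.1) *
          Matrix.GeneralLinearGroup.map F₀.subtype q.2 := by rw [hc.eq]
      _ = _ := by group

theorem Psi_apply (p : Fˣ × GL (Fin n) F₀) (i j : Fin n) :
    ((Psi F₀ n p : GL (Fin n) F) : Matrix (Fin n) (Fin n) F) i j = (p.1 : F) * ((p.2 i j : F₀) : F) := by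
  change ((scalarGL n p.1 * Matrix.GeneralLinearGroup.map F₀.subtype p.2 : GL (Fin n) F) :
    Matrix (Fin n) (Fin n) F) i j = _
  rw [Units.val_mul, scalarGL_val, Matrix.scalar_apply, Matrix.diagonal_mul]
  rfl

end B


section C
variable {F : Type*} [Field F] [Fintype F] (σ : F ≃+* F) (n : ℕ)

theorem mem_range_Psi (hn : 1 ≤ n) (g : GL (Fin n) F) :
    g ∈ (Psi (fixF σ) n).range ↔
      ∃ c : F, c ≠ 0 ∧ (g : Matrix (Fin n) (Fin n) F).map σ = c • (g : Matrix (Fin n) (Fin n) F) := by
  constructor
  · rintro ⟨p, rfl⟩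
    refine ⟨σ (p.1 : F) / (p.1 : F), div_ne_zero ((map_ne_zero σ).mpr p.1.ne_zero) p.1.ne_zero, ?_⟩
    ext i j
    rw [Matrix.map_apply, Matrix.smul_apply, Psi_apply, map_mul, smul_eq_mul]
    have h1 : σ ((p.2 i j : fixF σ) : F) = ((p.2 i j : fixF σ) : F) := (mem_fixF σ _).mp (p.2 i j).2
    rw [h1]
    field_simp
  · rintro ⟨c, hc, hg⟩
    -- a nonzero entry
    have hex : ∃ i j, (g : Matrix (Fin n) (Fin n) F) i j ≠ 0 := by
      by_contra hcon
      simp only [not_exists, not_not] at hcon
      have h0 : (g : Matrix (Fin n) (Fin n) F) = 0 := by ext i j; exact hcon i j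
      have h1 : (g : Matrix (Fin n) (Fin n) F) * ((g⁻¹ : GL (Fin n) F) : Matrix (Fin n) (Fin n) F) = 1 := by
        rw [← Units.val_mul, mul_inv_cancel, Units.val_one]
      rw [h0, zero_mul] at h1
      have := congrFun (congrFun h1 ⟨0, hn⟩) ⟨0, hn⟩
      simp at this
    obtain ⟨i₀, j₀, hd⟩ := hex
    set d : F := (g : Matrix (Fin n) (Fin n) F) i₀ j₀ with hddef
    have hσd : σ d = c * d := by
      have := congrFun (congrFun hg i₀) j₀
      rwa [Matrix.map_apply, Matrix.smul_apply, smul_eq_mul] at this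
    -- entries of d⁻¹ g are fixed
    have hfix : ∀ i j, d⁻¹ * (g : Matrix (Fin n) (Fin n) F) i j ∈ fixF σ := by
      intro i j
      rw [mem_fixF, map_mul, map_inv₀, hσd]
      have := congrFun (congrFun hg i) j
      rw [Matrix.map_apply, Matrix.smul_apply, smul_eq_mul] at this
      rw [this]
      field_simp
    set h' : Matrix (Fin n) (Fin n) (fixF σ) := Matrix.of fun i j => ⟨_, hfix i j⟩ with hh'
    have hmap : h'.map (fixF σ).subtype = d⁻¹ • (g : Matrix (Fin n) (Fin n) F) := by
      ext i j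
      simp [hh']
    have hdet : IsUnit h'.det := by
      rw [isUnit_iff_ne_zero]
      intro h0
      have h1 : (h'.map (fixF σ).subtype).det = 0 := by
        rw [← RingHom.mapMatrix_apply, ← RingHom.map_det, h0, map_zero]
      rw [hmap, Matrix.det_smul] at h1
      have h2 : (g : Matrix (Fin n) (Fin n) F).det ≠ 0 := by
        have := (Matrix.isUnit_iff_isUnit_det _).mp g.isUnit
        exact this.ne_zero
      rcases mul_eq_zero.mp h1 with h3 | h3
      · exact (pow_ne_zero _ (inv_ne_zero hd)) h3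
      · exact h2 h3
    refine ⟨(Units.mk0 d hd, Matrix.GeneralLinearGroup.mk'' h' hdet), ?_⟩
    apply Units.ext
    ext i j
    rw [Psi_apply]
    simp only [Units.val_mk0]
    have : ((Matrix.GeneralLinearGroup.mk'' h' hdet : GL (Fin n) (fixF σ)) i j : fixF σ) = h' i j := rfl
    rw [this, hh']
    simp only [Matrix.of_apply]
    field_simp

end C

section D
variable {F : Type*} [Field F] (F₀ : Subfield F) (n : ℕ)

/-- `e ↦ (e⁻¹, e • 1)` -/
def theta : (F₀)ˣ →* Fˣ × GL (Fin n) F₀ :=
  MonoidHom.prod ((Units.map (F₀.subtype : F₀ →* F)).comp (MonoidHom.id _)⁻¹) (scalarGL n)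

theorem theta_fst (e : (F₀)ˣ) : ((theta F₀ n e).1 : F) = ((e : F₀) : F)⁻¹ := by
  simp [theta]

theorem theta_snd (e : (F₀)ˣ) (i j : Fin n) :
    ((theta F₀ n e).2 i j : F₀) = if i = j then (e : F₀) else 0 := by
  change ((scalarGL n e : GL (Fin n) F₀) : Matrix (Fin n) (Fin n) F₀) i j = _
  rw [scalarGL_val, Matrix.scalar_apply, Matrix.diagonal_apply]

theorem theta_injective (hn : 1 ≤ n) : Function.Injective (theta F₀ n) := by
  intro e e' h
  have h1 := congrArg (fun p : Fˣ × GL (Fin n) F₀ => (p.2 ⟨0, hn⟩ ⟨0, hn⟩ : F₀)) h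
  simp only [theta_snd, if_true] at h1
  exact Units.ext h1

theorem ker_Psi (hn : 1 ≤ n) : (Psi F₀ n).ker = (theta F₀ n).range := by
  ext p
  rw [MonoidHom.mem_ker, MonoidHom.mem_range]
  constructor
  · intro hp
    have hp' : ∀ i j, (p.1 : F) * ((p.2 i j : F₀) : F) = if i = j then 1 else 0 := by
      intro i j
      rw [← Psi_apply, hp]
      simp [Matrix.one_apply]
    have h00 := hp' ⟨0, hn⟩ ⟨0, hn⟩
    rw [if_pos rfl] at h00
    have he0 : (p.2 ⟨0, hn⟩ ⟨0, hn⟩ : F₀) ≠ 0 := by
      intro h0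
      rw [h0] at h00
      simp at h00
    refine ⟨Units.mk0 _ he0, ?_⟩
    apply Prod.ext
    · apply Units.ext
      rw [theta_fst]
      simp only [Units.val_mk0]
      exact (eq_inv_of_mul_eq_one_left h00).symm
    · apply Units.ext
      ext i j
      have key : ((theta F₀ n (Units.mk0 _ he0)).2 i j : F₀) = (p.2 i j : F₀) := by
        rw [theta_snd]
        simp only [Units.val_mk0]
        have hd : (p.1 : F) ≠ 0 := p.1.ne_zero
        by_cases hij : i = j
        · subst hij
          rw [if_pos rfl]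
          have h1 := hp' i i
          rw [if_pos rfl] at h1
          apply Subtype.ext
          apply mul_left_cancel₀ hd
          rw [h00, h1]
        · rw [if_neg hij]
          have h1 := hp' i j
          rw [if_neg hij] at h1
          rcases mul_eq_zero.mp h1 with h2 | h2
          · exact absurd h2 hd
          · apply Subtype.ext
            simpa using h2.symm
      exact congrArg Subtype.val key
  · rintro ⟨e, rfl⟩
    apply Units.ext
    ext i j
    rw [Psi_apply, theta_fst, theta_snd]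
    have he : ((e : F₀) : F) ≠ 0 := by
      intro h
      exact e.ne_zero (Subtype.ext h)
    by_cases hij : i = j
    · subst hij
      simp [he]
    · simp [hij, Matrix.one_apply]

end D

section E
variable {F : Type*} [Field F] [Fintype F]

theorem card_S {q₀ r n : ℕ} (hr : r.Prime) (hn : 1 ≤ n) (hF : Fintype.card F = q₀ ^ r)
    (σ : F ≃+* F) (hσ : orderOf σ = r) :
    Nat.card {g : GL (Fin n) F // ∃ c : F, c ≠ 0 ∧
      (g : Matrix (Fin n) (Fin n) F).map σ = c • (g : Matrix (Fin n) (Fin n) F)} * (q₀ - 1) =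
    (q₀ ^ r - 1) * ∏ i : Fin n, (q₀ ^ n - q₀ ^ (i : ℕ)) := by
  classical
  have hcard0 := card_fixF σ hr hF hσ
  have : Fintype (fixF σ) := Fintype.ofFinite _
  have e1 : Nat.card {g : GL (Fin n) F // ∃ c : F, c ≠ 0 ∧
      (g : Matrix (Fin n) (Fin n) F).map σ = c • (g : Matrix (Fin n) (Fin n) F)} =
      Nat.card (Psi (fixF σ) n).range :=
    Nat.card_congr (Equiv.subtypeEquivRight (fun g => (mem_range_Psi σ n hn g).symm))
  have e2 : Nat.card (Psi (fixF σ) n).ker = q₀ - 1 := by
    rw [ker_Psi (fixF σ) n hn,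
      ← Nat.card_congr (MonoidHom.ofInjective (theta_injective (fixF σ) n hn)).toEquiv,
      Nat.card_units, hcard0]
  have e3 : Nat.card (Fˣ × GL (Fin n) (fixF σ)) =
      Nat.card (Psi (fixF σ) n).range * Nat.card (Psi (fixF σ) n).ker := by
    rw [Subgroup.card_eq_card_quotient_mul_card_subgroup (Psi (fixF σ) n).ker,
      Nat.card_congr (QuotientGroup.quotientKerEquivRange (Psi (fixF σ) n)).toEquiv]
  rw [e1, ← e2, ← e3, Nat.card_prod, Nat.card_units, Nat.card_eq_fintype_card, hF,
    Matrix.card_GL_field, ← Nat.card_eq_fintype_card, hcard0]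

end E


/-- Centraliser of a field automorphism in PGL_n: let F be the field with q = q₀^r elements, σ a field automorphism of F of prime order r (so its fixed field has q₀ elements) and n ≥ 1. The invertible matrices g whose entrywise image under σ is a scalar multiple of g — those whose coset modulo scalars is fixed by σ — number (q − 1)/(q₀ − 1) · |GL_n(q₀)|; equivalently the centraliser in PGL_n(q) of the induced automorphism has the order of PGL_n(q₀). -/
theorem result {F : Type*} [Field F] [Fintype F] {q₀ r n : ℕ} (hr : r.Prime) (hn : 1 ≤ n) (hF : Fintype.card F = q₀ ^ r) (σ : F ≃+* F) (hσ : orderOf σ = r) : Nat.card {g : GL (Fin n) F // ∃ c : F, c ≠ 0 ∧ (g : Matrix (Fin n) (Fin n) F).map σ = c • (g : Matrix (Fin n) (Fin n) F)} = (q₀ ^ r - 1) / (q₀ - 1) * ∏ i : Fin n, (q₀ ^ n - q₀ ^ (i : ℕ)) := by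
  have hS := card_S hr hn hF σ hσ
  have hq0 : 2 ≤ q₀ := by
    by_contra hlt
    have h1 : 1 < Fintype.card F := Fintype.one_lt_card
    rw [hF] at h1
    interval_cases q₀
    · rw [zero_pow hr.ne_zero] at h1; omega
    · rw [one_pow] at h1; omega
  have hdvd : q₀ - 1 ∣ q₀ ^ r - 1 := Nat.sub_one_dvd_pow_sub_one q₀ r
  have hpos : 0 < q₀ - 1 := by omega
  apply Nat.eq_of_mul_eq_mul_right hpos
  rw [hS, mul_assoc, mul_comm _ (q₀ - 1), ← mul_assoc, Nat.div_mul_cancel hdvd]

end Cfsg.Agent.S2636
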