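import Cfsg.Statements.S2637
import Mathlib
import Cfsg.Agent.Lib.Lead.UnitaryGroupCard
import Cfsg.Agent.Lib.Helper13.SympGeom

set_option autoImplicit false
open Cfsg

namespace Cfsg.Agent.S2637

section FieldK
open Polynomial
variable {F : Type*} [Field F]

/-- the cyclotomic polynomial `X² + X + 1` -/
noncomputable def P3 (F : Type*) [Field F] : F[X] := X ^ 2 + X + 1

theorem P3_natDegree : (P3 F).natDegree = 2 := by
  unfold P3
  compute_degree!

theorem P3_monic : (P3 F).Monic := by
  unfold P3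
  monicity!

theorem P3_ne_zero : P3 F ≠ 0 := P3_monic.ne_zero

theorem three_ne_zero_of_mod [Fintype F] {q : ℕ} (hF : Fintype.card F = q) (hq : q % 3 = 2) :
    (3 : F) ≠ 0 := by
  intro h3
  obtain ⟨p, hp⟩ := CharP.exists F
  have := hp
  have : Fact p.Prime := ⟨CharP.char_is_prime F p⟩
  have h1 : (p : ℕ) ∣ 3 := by
    have : ((3 : ℕ) : F) = 0 := by exact_mod_cast h3
    exact (CharP.cast_eq_zero_iff F p 3).mp this
  have hp3 : p = 3 := (Nat.prime_dvd_prime_iff_eq (Fact.out) Nat.prime_three).mp h1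
  obtain ⟨n, hn⟩ := FiniteField.card F p
  rw [hF] at hn
  have : 3 ∣ q := by
    rw [hn.2, hp3]
    exact dvd_pow_self 3 n.ne_zero
  omega

theorem no_root [Fintype F] {q : ℕ} (hF : Fintype.card F = q) (hq : q % 3 = 2) (t : F) :
    t ^ 2 + t + 1 ≠ 0 := by
  intro ht
  have h3 := three_ne_zero_of_mod hF hq
  have ht3 : t ^ 3 = 1 := by linear_combination (t - 1) * ht
  have ht1 : t ≠ 1 := by
    rintro rfl
    apply h3
    linear_combination ht
  have ht0 : t ≠ 0 := by
    rintro rfl
    simp at ht3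
  have hord : orderOf t = 3 := orderOf_eq_prime ht3 ht1
  have hdvd : 3 ∣ q - 1 := by
    rw [← hord, ← hF]
    exact orderOf_dvd_of_pow_eq_one (FiniteField.pow_card_sub_one_eq_one t ht0)
  have hq1 : 1 ≤ q := by omega
  omega

theorem P3_irreducible [Fintype F] {q : ℕ} (hF : Fintype.card F = q) (hq : q % 3 = 2) :
    Irreducible (P3 F) := by
  have hdeg : (P3 F).natDegree ∈ Finset.Icc 1 3 := by
    rw [P3_natDegree]
    decide
  rw [Polynomial.irreducible_iff_roots_eq_zero_of_degree_le_three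
    (by rw [P3_natDegree]) (by rw [P3_natDegree]; norm_num)]
  rw [Multiset.eq_zero_iff_forall_notMem]
  intro t ht
  rw [mem_roots P3_ne_zero, IsRoot.def] at ht
  unfold P3 at ht
  simp only [eval_add, eval_pow, eval_X, eval_one] at ht
  exact no_root hF hq t ht

end FieldK

section KProps
open Polynomial
variable {F : Type*} [Field F] [hirr : Fact (Irreducible (P3 F))]

/-- the quadratic extension `F(θ)`, `θ² + θ + 1 = 0` -/
abbrev KK (F : Type*) [Field F] : Type _ := AdjoinRoot (P3 F)

/-- the primitive cube root of unity in `KK F` -/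
noncomputable def th (F : Type*) [Field F] : KK F := AdjoinRoot.root (P3 F)

theorem th_rel : (th F) ^ 2 + th F + 1 = 0 := by
  have h := AdjoinRoot.mk_self (f := P3 F)
  unfold P3 at h
  rw [map_add, map_add, map_pow, AdjoinRoot.mk_X, map_one] at h
  exact h

theorem th_sq : (th F) ^ 2 = -1 - th F := by
  linear_combination th_rel (F := F)

theorem th_cube : (th F) ^ 3 = 1 := by
  linear_combination (th F - 1) * th_rel (F := F)

theorem th_pow (q : ℕ) (hq : q % 3 = 2) : (th F) ^ q = (th F) ^ 2 := by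
  have : q = 3 * (q / 3) + 2 := by omega
  rw [this, pow_add, pow_mul, th_cube, one_pow, one_mul]

/-- elements of `KK F` in coordinates -/
noncomputable def kmk (a b : F) : KK F := AdjoinRoot.of (P3 F) a + AdjoinRoot.of (P3 F) b * th F

theorem kmk_eq_zero (a b : F) (h : kmk a b = 0) : a = 0 ∧ b = 0 := by
  unfold kmk th at h
  rw [← AdjoinRoot.mk_C, ← AdjoinRoot.mk_C, ← AdjoinRoot.mk_X, ← map_mul, ← map_add,
    AdjoinRoot.mk_eq_zero] at h
  have hdeg : (C a + C b * X : F[X]).natDegree < (P3 F).natDegree := by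
    rw [P3_natDegree]
    have : (C a + C b * X : F[X]).natDegree ≤ 1 := by compute_degree
    omega
  have h0 : (C a + C b * X : F[X]) = 0 := by
    by_contra hne
    have := natDegree_le_of_dvd h hne
    omega
  have ha := congrArg (fun p : F[X] => p.coeff 0) h0
  have hb := congrArg (fun p : F[X] => p.coeff 1) h0
  simp at ha hb
  exact ⟨ha, hb⟩

theorem kmk_inj (a b a' b' : F) (h : kmk a b = kmk a' b') : a = a' ∧ b = b' := by
  have h0 : kmk (a - a') (b - b') = 0 := by
    unfold kmk at h ⊢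
    rw [map_sub, map_sub]
    linear_combination h
  obtain ⟨h1, h2⟩ := kmk_eq_zero _ _ h0
  exact ⟨sub_eq_zero.mp h1, sub_eq_zero.mp h2⟩

theorem of_eq_algebraMap (a : F) : AdjoinRoot.of (P3 F) a = algebraMap F (KK F) a := rfl

theorem finrank_KK : Module.finrank F (KK F) = 2 := by
  rw [(AdjoinRoot.powerBasis P3_ne_zero).finrank, AdjoinRoot.powerBasis_dim, P3_natDegree]

noncomputable instance instFintypeKK [Fintype F] : Fintype (KK F) :=
  haveI : Module.Finite F (KK F) := (AdjoinRoot.powerBasis P3_ne_zero).finite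
  haveI : Finite (KK F) := Module.finite_of_finite F
  Fintype.ofFinite _

theorem card_KK [Fintype F] [Fintype (KK F)] {q : ℕ} (hF : Fintype.card F = q) :
    Fintype.card (KK F) = q ^ 2 := by
  have : Module.Finite F (KK F) := (AdjoinRoot.powerBasis P3_ne_zero).finite
  rw [Module.card_eq_pow_finrank (K := F) (V := KK F), finrank_KK, hF]

/-- the `q`-th power of an element in coordinates -/
theorem kmk_pow [Fintype F] {q : ℕ} (hF : Fintype.card F = q) (hq : q % 3 = 2) (a b : F) :
    (kmk a b) ^ q = kmk (a - b) (-b) := by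
  have h1 : ∀ z : KK F, z ^ q = FiniteField.frobeniusAlgHom F (KK F) z := by
    intro z
    rw [← hF]
    rfl
  rw [h1]
  unfold kmk
  rw [map_add, map_mul, of_eq_algebraMap, of_eq_algebraMap, AlgHom.commutes, AlgHom.commutes,
    ← h1, th_pow q hq, th_sq, ← of_eq_algebraMap, ← of_eq_algebraMap, map_sub, map_neg]
  ring

end KProps

section KSurj
open Polynomial
variable {F : Type*} [Field F] [hirr : Fact (Irreducible (P3 F))]

theorem kmk_surj (z : KK F) : ∃ a b : F, z = kmk a b := by
  obtain ⟨g, rfl⟩ := AdjoinRoot.mk_surjective z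
  have hmod : AdjoinRoot.mk (P3 F) g = AdjoinRoot.mk (P3 F) (g %ₘ P3 F) := by
    rw [AdjoinRoot.mk_eq_mk]
    refine ⟨g /ₘ P3 F, ?_⟩
    have := modByMonic_add_div g (P3 F)
    linear_combination (-1 : F[X]) * this
  have hdeg : (g %ₘ P3 F).natDegree ≤ 1 := by
    have h1 := natDegree_modByMonic_lt g P3_monic (by
      intro h
      have := P3_natDegree (F := F)
      rw [h, natDegree_one] at this
      omega)
    rw [P3_natDegree] at h1
    omega
  have hr := eq_X_add_C_of_natDegree_le_one hdeg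
  refine ⟨(g %ₘ P3 F).coeff 0, (g %ₘ P3 F).coeff 1, ?_⟩
  rw [hmod]
  conv_lhs => rw [hr]
  unfold kmk th
  rw [map_add, map_mul, AdjoinRoot.mk_C, AdjoinRoot.mk_C, AdjoinRoot.mk_X, add_comm]

theorem kmk_add (a b a' b' : F) : (kmk (a + a') (b + b') : KK F) = kmk a b + kmk a' b' := by
  unfold kmk
  rw [map_add, map_add]
  ring

theorem kmk_smul (c a b : F) : (kmk (c * a) (c * b) : KK F) = AdjoinRoot.of (P3 F) c * kmk a b := by
  unfold kmk
  rw [map_mul, map_mul]
  ring

theorem th_mul_kmk (a b : F) : th F * kmk a b = kmk (-b) (a - b) := by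
  unfold kmk
  rw [map_neg, map_sub]
  linear_combination (AdjoinRoot.of (P3 F) b) * th_rel (F := F)

end KSurj

section ModuleK
open Polynomial Matrix Cfsg.Agent.Helper13
variable {F : Type*} [Field F] [hirr : Fact (Irreducible (P3 F))] {m : ℕ}

/-- the relation `X² + X + 1 = 0` for a matrix -/
def QuadRel (M : Matrix (Fin m ⊕ Fin m) (Fin m ⊕ Fin m) F) : Prop := M * M + M + 1 = 0

theorem aeval_P3 {M : Matrix (Fin m ⊕ Fin m) (Fin m ⊕ Fin m) F} (hX : QuadRel M) :
    aeval M (P3 F) = 0 := by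
  unfold P3
  rw [map_add, map_add, map_pow, aeval_X, map_one, pow_two]
  exact hX

/-- evaluation `K → Matrix`, `θ ↦ X` -/
noncomputable def evK {M : Matrix (Fin m ⊕ Fin m) (Fin m ⊕ Fin m) F} (hX : QuadRel M) :
    KK F →ₐ[F] Matrix (Fin m ⊕ Fin m) (Fin m ⊕ Fin m) F :=
  Ideal.Quotient.liftₐ (Ideal.span {P3 F}) (aeval M) (by
    intro a ha
    rw [Ideal.mem_span_singleton] at ha
    obtain ⟨c, rfl⟩ := ha
    rw [map_mul, aeval_P3 hX, zero_mul])

theorem evK_th {M : Matrix (Fin m ⊕ Fin m) (Fin m ⊕ Fin m) F} (hX : QuadRel M) :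
    evK hX (th F) = M := by
  show aeval M (X : F[X]) = _
  rw [aeval_X]

theorem evK_kmk {M : Matrix (Fin m ⊕ Fin m) (Fin m ⊕ Fin m) F} (hX : QuadRel M) (a b : F) :
    evK hX (kmk a b) = a • (1 : Matrix (Fin m ⊕ Fin m) (Fin m ⊕ Fin m) F) + b • M := by
  unfold kmk
  rw [map_add, map_mul, evK_th, of_eq_algebraMap, of_eq_algebraMap, AlgHom.commutes,
    AlgHom.commutes, Algebra.algebraMap_eq_smul_one, Algebra.algebraMap_eq_smul_one, smul_mul_assoc,
    one_mul]

/-- `F^(2m)` with the `K`-module structure defined by `X` -/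
def VK {M : Matrix (Fin m ⊕ Fin m) (Fin m ⊕ Fin m) F} (_hX : QuadRel M) : Type _ :=
  Fin m ⊕ Fin m → F

instance {M : Matrix (Fin m ⊕ Fin m) (Fin m ⊕ Fin m) F} (hX : QuadRel M) :
    AddCommGroup (VK hX) := inferInstanceAs (AddCommGroup (Fin m ⊕ Fin m → F))

instance {M : Matrix (Fin m ⊕ Fin m) (Fin m ⊕ Fin m) F} (hX : QuadRel M) :
    Module F (VK hX) := inferInstanceAs (Module F (Fin m ⊕ Fin m → F))

noncomputable instance instModuleK {M : Matrix (Fin m ⊕ Fin m) (Fin m ⊕ Fin m) F}
    (hX : QuadRel M) : Module (KK F) (VK hX) :=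
  Module.compHom (Fin m ⊕ Fin m → F)
    ((Matrix.toLinAlgEquiv' : Matrix (Fin m ⊕ Fin m) (Fin m ⊕ Fin m) F ≃ₐ[F] _).toAlgHom.toRingHom.comp
      (evK hX).toRingHom)

/-- forget the `K`-structure -/
def unK {M : Matrix (Fin m ⊕ Fin m) (Fin m ⊕ Fin m) F} {hX : QuadRel M} (v : VK hX) :
    Fin m ⊕ Fin m → F := v

/-- view a vector in the `K`-space -/
def toK {M : Matrix (Fin m ⊕ Fin m) (Fin m ⊕ Fin m) F} (hX : QuadRel M) (v : Fin m ⊕ Fin m → F) :
    VK hX := v

@[simp] theorem unK_toK {M : Matrix (Fin m ⊕ Fin m) (Fin m ⊕ Fin m) F} (hX : QuadRel M)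
    (v : Fin m ⊕ Fin m → F) : unK (toK hX v) = v := rfl

@[simp] theorem toK_unK {M : Matrix (Fin m ⊕ Fin m) (Fin m ⊕ Fin m) F} {hX : QuadRel M}
    (v : VK hX) : toK hX (unK v) = v := rfl

theorem unK_injective {M : Matrix (Fin m ⊕ Fin m) (Fin m ⊕ Fin m) F} {hX : QuadRel M} :
    Function.Injective (unK (hX := hX)) := fun _ _ h => h

theorem unK_add {M : Matrix (Fin m ⊕ Fin m) (Fin m ⊕ Fin m) F} {hX : QuadRel M} (u v : VK hX) :
    unK (u + v) = unK u + unK v := rfl

theorem unK_zero {M : Matrix (Fin m ⊕ Fin m) (Fin m ⊕ Fin m) F} {hX : QuadRel M} :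
    unK (0 : VK hX) = 0 := rfl

theorem unK_smulF {M : Matrix (Fin m ⊕ Fin m) (Fin m ⊕ Fin m) F} {hX : QuadRel M} (c : F)
    (v : VK hX) : unK (c • v) = c • unK v := rfl

theorem unK_smul {M : Matrix (Fin m ⊕ Fin m) (Fin m ⊕ Fin m) F} {hX : QuadRel M}
    (a : KK F) (v : VK hX) : unK (a • v) = (evK hX a) *ᵥ (unK v) := rfl

theorem unK_th_smul {M : Matrix (Fin m ⊕ Fin m) (Fin m ⊕ Fin m) F} {hX : QuadRel M}
    (v : VK hX) : unK (th F • v) = M *ᵥ (unK v) := by
  rw [unK_smul, evK_th]

theorem unK_kmk_smul {M : Matrix (Fin m ⊕ Fin m) (Fin m ⊕ Fin m) F} {hX : QuadRel M}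
    (a b : F) (v : VK hX) : unK (kmk a b • v) = a • unK v + b • (M *ᵥ unK v) := by
  rw [unK_smul, evK_kmk, Matrix.add_mulVec, Matrix.smul_mulVec, Matrix.smul_mulVec,
    Matrix.one_mulVec]

instance {M : Matrix (Fin m ⊕ Fin m) (Fin m ⊕ Fin m) F} (hX : QuadRel M) :
    IsScalarTower F (KK F) (VK hX) := by
  refine ⟨fun c a v => ?_⟩
  apply unK_injective
  rw [unK_smul, unK_smulF, unK_smul, map_smul, Matrix.smul_mulVec]

end ModuleK

section Herm
open Polynomial Matrix Cfsg.Agent.Helper13 Cfsg.Agent.Lead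
variable {F : Type*} [Field F] [hirr : Fact (Irreducible (P3 F))] {m : ℕ}
variable (x : Matrix.symplecticGroup (Fin m) F) (hX : QuadRel x.val)

include hX in
theorem M_sq_mulVec (u : Fin m ⊕ Fin m → F) :
    x.val *ᵥ (x.val *ᵥ u) = -u - x.val *ᵥ u := by
  have h := congrArg (fun A : Matrix (Fin m ⊕ Fin m) (Fin m ⊕ Fin m) F => A *ᵥ u) hX
  simp only [Matrix.add_mulVec, Matrix.one_mulVec, Matrix.zero_mulVec, ← Matrix.mulVec_mulVec] at h
  rw [eq_sub_iff_add_eq, eq_neg_iff_add_eq_zero]
  exact h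

theorem omega_inv (u v : Fin m ⊕ Fin m → F) :
    Cfsg.sympForm m F (x.val *ᵥ u) (x.val *ᵥ v) = Cfsg.sympForm m F u v :=
  sympForm_mulVec x.2 u v

include hX in
theorem omega_M_left (u v : Fin m ⊕ Fin m → F) :
    Cfsg.sympForm m F (x.val *ᵥ u) v = - Cfsg.sympForm m F u (v + x.val *ᵥ v) := by
  rw [← omega_inv x (x.val *ᵥ u) v, M_sq_mulVec x hX, sympForm_sub_left, sympForm_neg_left,
    omega_inv, sympForm_add_right]
  ring

/-- the Hermitian form attached to `x` -/
noncomputable def Hf (u v : VK hX) : KK F :=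
  kmk (Cfsg.sympForm m F (unK v) (unK u + x.val *ᵥ unK u)) (Cfsg.sympForm m F (unK v) (unK u))

theorem Hf_add_left (u u' v : VK hX) : Hf x hX (u + u') v = Hf x hX u v + Hf x hX u' v := by
  unfold Hf
  rw [← kmk_add, unK_add, Matrix.mulVec_add, sympForm_add_right, sympForm_add_right,
    sympForm_add_right, sympForm_add_right, sympForm_add_right]
  congr 1
  ring

theorem Hf_smulF_left (c : F) (u v : VK hX) :
    Hf x hX (c • u) v = AdjoinRoot.of (P3 F) c * Hf x hX u v := by
  unfold Hf
  rw [← kmk_smul, unK_smulF, Matrix.mulVec_smul, sympForm_add_right, sympForm_smul_right,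
    sympForm_smul_right, sympForm_add_right]
  congr 1
  ring

theorem Hf_th_left (u v : VK hX) : Hf x hX (th F • u) v = th F * Hf x hX u v := by
  unfold Hf
  rw [th_mul_kmk, unK_th_smul, M_sq_mulVec x hX, sympForm_add_right, sympForm_add_right,
    sympForm_sub_right, sympForm_neg_right]
  congr 1 <;> ring

theorem Hf_smul_left (a : KK F) (u v : VK hX) : Hf x hX (a • u) v = a * Hf x hX u v := by
  obtain ⟨α, β, rfl⟩ := kmk_surj a
  have h1 : (kmk α β : KK F) • u = α • u + β • (th F • u) := by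
    apply unK_injective
    rw [unK_kmk_smul, unK_add, unK_smulF, unK_smulF, unK_th_smul]
  rw [h1, Hf_add_left, Hf_smulF_left, Hf_smulF_left, Hf_th_left]
  unfold kmk
  ring

theorem Hf_conj [Fintype F] {q : ℕ} (hF : Fintype.card F = q) (hq : q % 3 = 2) (u v : VK hX) :
    Hf x hX v u = (Hf x hX u v) ^ q := by
  unfold Hf
  rw [kmk_pow hF hq]
  congr 1
  · have e1 : Cfsg.sympForm m F (unK v) (unK u + x.val *ᵥ unK u) - Cfsg.sympForm m F (unK v) (unK u)
        = Cfsg.sympForm m F (unK v) (x.val *ᵥ unK u) := by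
      rw [sympForm_add_right]
      ring
    rw [e1, sympForm_swap (unK v), omega_M_left x hX, neg_neg]
  · rw [sympForm_swap]

/-- the Hermitian form as a `HermForm` -/
noncomputable def hermK [Fintype F] {q : ℕ} (hF : Fintype.card F = q) (hq : q % 3 = 2) :
    HermForm (KK F) q (VK hX) where
  toFun := Hf x hX
  add_left := Hf_add_left x hX
  smul_left := Hf_smul_left x hX
  conj := Hf_conj x hX hF hq

theorem hermK_apply [Fintype F] {q : ℕ} (hF : Fintype.card F = q) (hq : q % 3 = 2) (u v : VK hX) :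
    hermK x hX hF hq u v = Hf x hX u v := rfl

theorem hermK_nondeg [Fintype F] {q : ℕ} (hF : Fintype.card F = q) (hq : q % 3 = 2) :
    (hermK x hX hF hq).Nondeg := by
  intro u hu
  by_contra hne
  have hne' : unK u ≠ 0 := hne
  obtain ⟨w, hw⟩ := exists_partner hne'
  have h1 := hu (toK hX w)
  rw [hermK_apply] at h1
  unfold Hf at h1
  have h2 := (kmk_eq_zero _ _ h1).2
  rw [unK_toK, hw] at h2
  exact one_ne_zero h2

end Herm

section OrthoGeneral
open Cfsg.Agent.Lead
variable {K : Type*} [Field K] [Fintype K] {q : ℕ} {V : Type*} [AddCommGroup V] [Module K V]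

theorem ortho_expand (hK : Fintype.card K = q ^ 2) (B : HermForm K q V) {n : ℕ} (b : Fin n → V)
    (hb : IsOrthoFam B n b) (a c : Fin n → K) :
    B (∑ i, a i • b i) (∑ j, c j • b j) = ∑ i, a i * (c i) ^ q := by
  classical
  rw [HermForm.sum_left]
  apply Finset.sum_congr rfl
  intro i _
  rw [HermForm.sum_right _ hK]
  congr 1
  rw [Finset.sum_eq_single i]
  · rw [hb i i, if_pos rfl, mul_one]
  · intro j _ hj
    rw [hb i j, if_neg (Ne.symm hj), mul_zero]
  · intro h
    exact absurd (Finset.mem_univ i) h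

theorem ortho_linearIndependent (B : HermForm K q V) {n : ℕ} (b : Fin n → V)
    (hb : IsOrthoFam B n b) : LinearIndependent K b := by
  classical
  rw [Fintype.linearIndependent_iff]
  intro a ha j
  have h1 : B (∑ i, a i • b i) (b j) = a j := by
    rw [HermForm.sum_left, Finset.sum_eq_single j]
    · rw [hb j j, if_pos rfl, mul_one]
    · intro i _ hi
      rw [hb i j, if_neg hi, mul_zero]
    · intro h
      exact absurd (Finset.mem_univ j) h
  rw [ha, HermForm.zero_left] at h1
  exact h1.symm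

/-- an orthonormal family of full size, as a basis -/
noncomputable def orthoBasis [FiniteDimensional K V] (B : HermForm K q V) {n : ℕ} (b : Fin n → V)
    (hb : IsOrthoFam B n b) (hn : Module.finrank K V = n) : Module.Basis (Fin n) K V :=
  basisOfLinearIndependentOfCardEqFinrank' b (ortho_linearIndependent B b hb)
    (by rw [Fintype.card_fin, hn])

theorem orthoBasis_apply [FiniteDimensional K V] (B : HermForm K q V) {n : ℕ} (b : Fin n → V)
    (hb : IsOrthoFam B n b) (hn : Module.finrank K V = n) (i : Fin n) :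
    orthoBasis B b hb hn i = b i := by
  unfold orthoBasis
  rw [coe_basisOfLinearIndependentOfCardEqFinrank']

/-- the linear map carrying one orthonormal basis to another orthonormal family is an isometry -/
theorem constr_isometry [FiniteDimensional K V] (hK : Fintype.card K = q ^ 2) (B : HermForm K q V)
    {n : ℕ} (b b' : Fin n → V) (hb : IsOrthoFam B n b) (hb' : IsOrthoFam B n b')
    (hn : Module.finrank K V = n) (u v : V) :
    B ((orthoBasis B b hb hn).constr K b' u) ((orthoBasis B b hb hn).constr K b' v) = B u v := by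
  set bb := orthoBasis B b hb hn with hbb
  have hu : u = ∑ i, bb.repr u i • b i := by
    conv_lhs => rw [← bb.sum_repr u]
    apply Finset.sum_congr rfl
    intro i _
    rw [hbb, orthoBasis_apply]
  have hv : v = ∑ i, bb.repr v i • b i := by
    conv_lhs => rw [← bb.sum_repr v]
    apply Finset.sum_congr rfl
    intro i _
    rw [hbb, orthoBasis_apply]
  have hTu : ∀ w : V, bb.constr K b' w = ∑ i, bb.repr w i • b' i := by
    intro w
    rw [Module.Basis.constr_apply_fintype]
    apply Finset.sum_congr rfl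
    intro i _
    rw [Module.Basis.equivFun_apply]
  rw [hTu u, hTu v, ortho_expand hK B b' hb']
  conv_rhs => rw [hu, hv, ortho_expand hK B b hb]

end OrthoGeneral

section Count
open Polynomial Matrix Cfsg.Agent.Helper13 Cfsg.Agent.Lead
variable {F : Type*} [Field F] [Fintype F] [hirr : Fact (Irreducible (P3 F))] {m : ℕ} {q : ℕ}
variable (x : Matrix.symplecticGroup (Fin m) F) (hX : QuadRel x.val)

instance instFinF : Module.Finite F (VK hX) :=
  inferInstanceAs (Module.Finite F (Fin m ⊕ Fin m → F))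

instance instFinK : FiniteDimensional (KK F) (VK hX) :=
  Module.Finite.of_restrictScalars_finite F (KK F) (VK hX)

theorem finrank_VK : Module.finrank (KK F) (VK hX) = m := by
  have h1 := Module.finrank_mul_finrank F (KK F) (VK hX)
  have h2 : Module.finrank F (VK hX) = 2 * m := by
    show Module.finrank F (Fin m ⊕ Fin m → F) = 2 * m
    rw [Module.finrank_fintype_fun_eq_card, Fintype.card_sum, Fintype.card_fin]
    ring
  rw [finrank_KK, h2] at h1
  omega

/-- a matrix commuting with `x` as a `K`-linear map -/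
noncomputable def gK (A : Matrix (Fin m ⊕ Fin m) (Fin m ⊕ Fin m) F) (hA : A * x.val = x.val * A) :
    VK hX →ₗ[KK F] VK hX where
  toFun v := toK hX (A *ᵥ unK v)
  map_add' u v := by
    apply unK_injective
    rw [unK_toK, unK_add, unK_add, unK_toK, unK_toK, Matrix.mulVec_add]
  map_smul' a v := by
    obtain ⟨α, β, rfl⟩ := kmk_surj a
    apply unK_injective
    simp only [RingHom.id_apply]
    rw [unK_toK, unK_kmk_smul, unK_kmk_smul, unK_toK, Matrix.mulVec_add, Matrix.mulVec_smul,
      Matrix.mulVec_smul, Matrix.mulVec_mulVec, Matrix.mulVec_mulVec, hA]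

theorem gK_apply (A : Matrix (Fin m ⊕ Fin m) (Fin m ⊕ Fin m) F) (hA : A * x.val = x.val * A)
    (v : VK hX) : unK (gK x hX A hA v) = A *ᵥ unK v := rfl

theorem gK_isometry (g : Matrix.symplecticGroup (Fin m) F) (hg : g.val * x.val = x.val * g.val)
    (u v : VK hX) : Hf x hX (gK x hX g.val hg u) (gK x hX g.val hg v) = Hf x hX u v := by
  unfold Hf
  rw [gK_apply, gK_apply, Matrix.mulVec_mulVec, ← hg, ← Matrix.mulVec_mulVec, ← Matrix.mulVec_add,
    sympForm_mulVec g.2, sympForm_mulVec g.2]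

/-- `unK` as an `F`-linear map -/
def unKₗ : VK hX →ₗ[F] (Fin m ⊕ Fin m → F) where
  toFun := unK
  map_add' _ _ := rfl
  map_smul' _ _ := rfl

/-- `toK` as an `F`-linear map -/
def toKₗ : (Fin m ⊕ Fin m → F) →ₗ[F] VK hX where
  toFun := toK hX
  map_add' _ _ := rfl
  map_smul' _ _ := rfl

/-- the matrix of a `K`-linear map -/
noncomputable def matOf (T : VK hX →ₗ[KK F] VK hX) : Matrix (Fin m ⊕ Fin m) (Fin m ⊕ Fin m) F :=
  LinearMap.toMatrix' ((unKₗ x hX).comp ((T.restrictScalars F).comp (toKₗ x hX)))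

theorem matOf_mulVec (T : VK hX →ₗ[KK F] VK hX) (v : Fin m ⊕ Fin m → F) :
    matOf x hX T *ᵥ v = unK (T (toK hX v)) := by
  unfold matOf
  rw [LinearMap.toMatrix'_mulVec]
  rfl

theorem matOf_comm (T : VK hX →ₗ[KK F] VK hX) : matOf x hX T * x.val = x.val * matOf x hX T := by
  rw [Matrix.ext_iff_mulVec]
  intro v
  rw [← Matrix.mulVec_mulVec, ← Matrix.mulVec_mulVec, matOf_mulVec, matOf_mulVec]
  have h1 : toK hX (x.val *ᵥ v) = th F • toK hX v := by
    apply unK_injective
    rw [unK_th_smul, unK_toK, unK_toK]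
  rw [h1, map_smul, unK_th_smul]

end Count

section Final
open Polynomial Matrix Cfsg.Agent.Helper13 Cfsg.Agent.Lead
variable {F : Type*} [Field F] [Fintype F] [hirr : Fact (Irreducible (P3 F))] {m : ℕ} {q : ℕ}
variable (x : Matrix.symplecticGroup (Fin m) F) (hX : QuadRel x.val)
variable (hF : Fintype.card F = q) (hq : q % 3 = 2)

theorem sympForm_mulVec_eq' (A : Matrix (Fin m ⊕ Fin m) (Fin m ⊕ Fin m) F)
    (u v : Fin m ⊕ Fin m → F) :
    Cfsg.sympForm m F (A *ᵥ u) (A *ᵥ v) = u ⬝ᵥ ((Aᵀ * Matrix.J (Fin m) F * A) *ᵥ v) := by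
  unfold Cfsg.sympForm
  rw [← Matrix.mulVec_mulVec, ← Matrix.mulVec_mulVec, dotProduct_comm, Matrix.dotProduct_mulVec,
    dotProduct_comm, Matrix.mulVec_transpose]

theorem mem_symplectic_of_preserves' (A : Matrix (Fin m ⊕ Fin m) (Fin m ⊕ Fin m) F)
    (h : ∀ u v, Cfsg.sympForm m F (A *ᵥ u) (A *ᵥ v) = Cfsg.sympForm m F u v) :
    A ∈ Matrix.symplecticGroup (Fin m) F := by
  rw [SymplecticGroup.mem_iff']
  ext i j
  have := h (Pi.single i 1) (Pi.single j 1)
  rw [sympForm_mulVec_eq'] at this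
  unfold Cfsg.sympForm at this
  simpa only [Matrix.mulVec_single_one, single_one_dotProduct, Matrix.col_apply] using this

theorem cent_comm (g : Subgroup.centralizer ({x} : Set (Matrix.symplecticGroup (Fin m) F))) :
    g.val.val * x.val = x.val * g.val.val := by
  have h := Subgroup.mem_centralizer_singleton_iff.mp g.2
  have h2 := congrArg (fun A : Matrix.symplecticGroup (Fin m) F => A.val) h
  simp only [Submonoid.coe_mul] at h2
  exact h2

/-- the map from the centraliser to orthonormal families -/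
noncomputable def Psi (b₀ : Fin m → VK hX)
    (hb₀ : IsOrthoFam (hermK x hX hF hq) m b₀)
    (g : Subgroup.centralizer ({x} : Set (Matrix.symplecticGroup (Fin m) F))) :
    {b : Fin m → VK hX // IsOrthoFam (hermK x hX hF hq) m b} :=
  ⟨fun i => gK x hX g.val.val (cent_comm x g) (b₀ i), fun i j => by
    rw [hermK_apply, gK_isometry x hX g.val (cent_comm x g), ← hermK_apply x hX hF hq]
    exact hb₀ i j⟩

theorem Psi_bijective (b₀ : Fin m → VK hX) (hb₀ : IsOrthoFam (hermK x hX hF hq) m b₀) :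
    Function.Bijective (Psi x hX hF hq b₀ hb₀) := by
  have hK : Fintype.card (KK F) = q ^ 2 := card_KK hF
  have hn := finrank_VK x hX
  set bb := orthoBasis (hermK x hX hF hq) b₀ hb₀ hn with hbb
  constructor
  · intro g g' hgg'
    have h1 : gK x hX g.val.val (cent_comm x g) = gK x hX g'.val.val (cent_comm x g') := by
      apply bb.ext
      intro i
      rw [hbb, orthoBasis_apply]
      exact congrFun (congrArg Subtype.val hgg') i
    apply Subtype.ext
    apply Subtype.ext
    rw [Matrix.ext_iff_mulVec]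
    intro v
    have h2 := congrArg (fun T : VK hX →ₗ[KK F] VK hX => unK (T (toK hX v))) h1
    simpa only [gK_apply, unK_toK] using h2
  · rintro ⟨b', hb'⟩
    set T := bb.constr (KK F) b' with hT
    have hiso : ∀ u v : VK hX, Hf x hX (T u) (T v) = Hf x hX u v := by
      intro u v
      have := constr_isometry hK (hermK x hX hF hq) b₀ b' hb₀ hb' hn u v
      rwa [hermK_apply, hermK_apply] at this
    have hSp : matOf x hX T ∈ Matrix.symplecticGroup (Fin m) F := by
      apply mem_symplectic_of_preserves'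
      intro u v
      have h1 := hiso (toK hX v) (toK hX u)
      unfold Hf at h1
      have h2 := (kmk_inj _ _ _ _ h1).2
      rw [matOf_mulVec, matOf_mulVec]
      rw [unK_toK, unK_toK] at h2
      exact h2
    have hcomm := matOf_comm x hX T
    let g0 : Matrix.symplecticGroup (Fin m) F := ⟨matOf x hX T, hSp⟩
    have hcent : g0 ∈ Subgroup.centralizer ({x} : Set (Matrix.symplecticGroup (Fin m) F)) := by
      rw [Subgroup.mem_centralizer_singleton_iff]
      apply Subtype.ext
      simp only [Submonoid.coe_mul]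
      exact hcomm
    refine ⟨⟨g0, hcent⟩, ?_⟩
    apply Subtype.ext
    funext i
    apply unK_injective
    show unK (gK x hX (matOf x hX T) _ (b₀ i)) = unK (b' i)
    rw [gK_apply, matOf_mulVec, toK_unK, hT]
    have : bb i = b₀ i := by rw [hbb, orthoBasis_apply]
    rw [← this, Module.Basis.constr_basis]

end Final

section Main
open Polynomial Matrix Cfsg.Agent.Helper13 Cfsg.Agent.Lead

theorem formula_pos {q : ℕ} (hq : 2 ≤ q) (m : ℕ) :
    0 < q ^ (m * (m - 1) / 2) *
      ∏ i ∈ Finset.range m, (if Even i then q ^ (i + 1) + 1 else q ^ (i + 1) - 1) := by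
  apply Nat.mul_pos (Nat.pow_pos (by omega))
  apply Finset.prod_pos
  intro i _
  split_ifs
  · omega
  · have : 1 < q ^ (i + 1) := Nat.one_lt_pow (by omega) (by omega)
    omega

theorem formula_cast {q : ℕ} (hq : 2 ≤ q) (m : ℕ) :
    ((q ^ (m * (m - 1) / 2) *
      ∏ i ∈ Finset.range m, (if Even i then q ^ (i + 1) + 1 else q ^ (i + 1) - 1) : ℕ) : ℤ)
      = (q : ℤ) ^ (m * (m - 1) / 2) *
        ∏ i : Fin m, ((q : ℤ) ^ ((i : ℕ) + 1) - (-1) ^ ((i : ℕ) + 1)) := by
  rw [Nat.cast_mul, Nat.cast_pow, Finset.prod_range, Nat.cast_prod]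
  congr 1
  apply Finset.prod_congr rfl
  intro i _
  have h1 : 1 ≤ q ^ ((i : ℕ) + 1) := Nat.one_le_pow _ _ (by omega)
  by_cases hi : Even (i : ℕ)
  · rw [if_pos hi]
    have hodd : Odd ((i : ℕ) + 1) := hi.add_one
    rw [hodd.neg_one_pow]
    push_cast
    ring
  · rw [if_neg hi]
    have heven : Even ((i : ℕ) + 1) := by
      rw [Nat.even_add_one]
      exact hi
    rw [heven.neg_one_pow, Nat.cast_sub h1]
    push_cast
    ring

theorem main {F : Type*} [Field F] [Fintype F] {q : ℕ} (hF : Fintype.card F = q) (hq : q % 3 = 2)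
    {m : ℕ} (x : Matrix.symplecticGroup (Fin m) F) (hx3 : x ^ 3 = 1)
    (hfpf : IsUnit ((x : Matrix (Fin m ⊕ Fin m) (Fin m ⊕ Fin m) F) - 1)) :
    (Nat.card ↥(Subgroup.centralizer ({x} : Set ↥(Matrix.symplecticGroup (Fin m) F))) : ℤ)
      = (q : ℤ) ^ (m * (m - 1) / 2) *
        ∏ i : Fin m, ((q : ℤ) ^ ((i : ℕ) + 1) - (-1) ^ ((i : ℕ) + 1)) := by
  have hirr : Fact (Irreducible (P3 F)) := ⟨P3_irreducible hF hq⟩
  have hq2 : 2 ≤ q := by
    have := Fintype.one_lt_card (α := F)
    omega
  have hX : QuadRel x.val := by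
    unfold QuadRel
    have h3 : x.val ^ 3 = 1 := by
      have h := congrArg (fun A : Matrix.symplecticGroup (Fin m) F => A.val) hx3
      simp only [pow_succ, pow_zero, one_mul] at h
      rw [pow_succ, pow_succ, pow_one]
      exact h
    have h4 : (x.val - 1) * (x.val * x.val + x.val + 1) = 0 := by
      have : (x.val - 1) * (x.val * x.val + x.val + 1) = x.val ^ 3 - 1 := by noncomm_ring
      rw [this, h3, sub_self]
    exact (hfpf.mul_right_eq_zero).mp h4
  have hK : Fintype.card (KK F) = q ^ 2 := card_KK hF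
  have hn := finrank_VK x hX
  have hcount := card_orthoFam hK m (VK hX) (hermK x hX hF hq) (hermK_nondeg x hX hF hq) hn
  rw [prod_hermCount_one hK m] at hcount
  have hpos := formula_pos hq2 m
  rw [← hcount] at hpos
  obtain ⟨⟨b₀, hb₀⟩⟩ := (Nat.card_pos_iff.mp hpos).1
  have hcard := Nat.card_congr (Equiv.ofBijective _ (Psi_bijective x hX hF hq b₀ hb₀))
  rw [hcard, hcount, formula_cast hq2 m]

end Main


/-- Centraliser of a fixed-point-free element of order three in Sp_2m(q) when q ≡ 2 (mod 3): if x ∈ Sp_2m(F) (|F| = q, m ≥ 1) satisfies x³ = 1 and x − 1 is invertible, then its centraliser in Sp_2m(F) has the order of the unitary group GU_m(q), namely q^(m(m−1)/2) Π_(i=1)^m (q^i − (−1)^i) (x lies in the centre of a subgroup GU_m(q) of Sp_2m(q)). -/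
theorem result {F : Type*} [Field F] [Fintype F] {q : ℕ} (hF : Fintype.card F = q) (hq : q % 3 = 2) {m : ℕ} (hm : 1 ≤ m) (x : Matrix.symplecticGroup (Fin m) F) (hx3 : x ^ 3 = 1) (hfpf : IsUnit ((x : Matrix (Fin m ⊕ Fin m) (Fin m ⊕ Fin m) F) - 1)) : (Nat.card ↥(Subgroup.centralizer ({x} : Set ↥(Matrix.symplecticGroup (Fin m) F))) : ℤ) = (q : ℤ) ^ (m * (m - 1) / 2) * ∏ i : Fin m, ((q : ℤ) ^ ((i : ℕ) + 1) - (-1) ^ ((i : ℕ) + 1)) := by
  exact main hF hq x hx3 hfpf

end Cfsg.Agent.S2637
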