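import Cfsg.Statements.S2638
import Mathlib
-- import your own Cfsg.Agent.* helpers here

set_option autoImplicit false
open Cfsg

namespace Cfsg.Agent.S2638


section Aux
open Polynomial

section Minpoly
variable {F : Type*} [Field F] [Fintype F] {p q : ℕ} [Fact p.Prime] [CharP F p]

theorem minpoly_irreducible (hF : Fintype.card F = q) {n r : ℕ} (hn : 1 ≤ n) (hr : r.Prime)
    (hrp : r ≠ p) (hi : orderOf (q : ZMod r) = n) (M : Matrix (Fin n) (Fin n) F)
    (hM : M ^ r = 1) (hM1 : M ≠ 1) :
    Irreducible (minpoly F M) ∧ (minpoly F M).natDegree = n := by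
  classical
  haveI : Fact r.Prime := ⟨hr⟩
  obtain ⟨f, hf⟩ := FiniteField.card F p
  have hK : Fintype.card F = p ^ (f : ℕ) := hf.2
  have hcop : p.Coprime r := (Nat.coprime_primes Fact.out hr).mpr (Ne.symm hrp)
  set μ := minpoly F M with hμ
  have hint : IsIntegral F M := Matrix.isIntegral M
  have hμ0 : μ ≠ 0 := minpoly.ne_zero hint
  have hdvd : μ ∣ cyclotomic r F * (X - 1) := by
    rw [cyclotomic_prime_mul_X_sub_one]
    apply minpoly.dvd
    simp [hM]
  have hdeg_le : μ.natDegree ≤ n := by
    have h1 := Matrix.minpoly_dvd_charpoly M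
    have h2 := natDegree_le_of_dvd h1 (Matrix.charpoly_monic M).ne_zero
    rw [Matrix.charpoly_natDegree_eq_dim, Fintype.card_fin] at h2
    exact h2
  -- gcd with cyclotomic is not a unit
  have hnotunit : ¬ IsUnit (gcd μ (cyclotomic r F)) := by
    intro hu
    have hcop' : IsCoprime μ (cyclotomic r F) := (gcd_isUnit_iff _ _).mp hu
    have h1 : μ ∣ X - 1 := hcop'.dvd_of_dvd_mul_left hdvd
    have h2 : aeval M (X - 1 : F[X]) = 0 := by
      obtain ⟨c, hc⟩ := h1
      rw [hc, map_mul, minpoly.aeval, zero_mul]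
    apply hM1
    simpa [sub_eq_zero] using h2
  obtain ⟨P, hPirr, hPdvd⟩ := WfDvdMonoid.exists_irreducible_factor hnotunit
    (by
      intro h0
      rw [gcd_eq_zero_iff] at h0
      exact hμ0 h0.1)
  have hPμ : P ∣ μ := hPdvd.trans (gcd_dvd_left _ _)
  have hPc : P ∣ cyclotomic r F := hPdvd.trans (gcd_dvd_right _ _)
  have hPdeg : P.natDegree = n := by
    rw [natDegree_of_dvd_cyclotomic_of_irreducible hK hcop hPc hPirr, ← hi, ← orderOf_units]
    congr 1
    rw [ZMod.coe_unitOfCoprime, ← hK, hF]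
  have hassoc : Associated P μ := associated_of_dvd_of_natDegree_le hPμ hμ0 (by rw [hPdeg]; exact hdeg_le)
  refine ⟨hassoc.irreducible hPirr, ?_⟩
  have := natDegree_le_of_dvd hPμ hμ0
  omega

end Minpoly

section Main
variable {F : Type*} [Field F] {n : ℕ}

/-- evaluation hom from `AdjoinRoot (minpoly F M)` to matrices. -/
noncomputable def evM (M : Matrix (Fin n) (Fin n) F) :
    AdjoinRoot (minpoly F M) →ₐ[F] Matrix (Fin n) (Fin n) F :=
  Ideal.Quotient.liftₐ (Ideal.span {minpoly F M}) (aeval M) (by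
    intro a ha
    rw [Ideal.mem_span_singleton] at ha
    obtain ⟨c, rfl⟩ := ha
    rw [map_mul, minpoly.aeval, zero_mul])

theorem evM_mk (M : Matrix (Fin n) (Fin n) F) (g : F[X]) :
    evM M (AdjoinRoot.mk _ g) = aeval M g := rfl

theorem commute_evM (M c : Matrix (Fin n) (Fin n) F) (hc : Commute c M) (a : AdjoinRoot (minpoly F M)) :
    Commute c (evM M a) := by
  obtain ⟨g, rfl⟩ := AdjoinRoot.mk_surjective a
  rw [evM_mk, aeval_eq_sum_range]
  apply Commute.sum_right
  intro i _
  exact (hc.pow_right i).smul_right _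


theorem exists_evM_eq (hn : 1 ≤ n) (M : Matrix (Fin n) (Fin n) F)
    (hirr : Irreducible (minpoly F M)) (hdeg : (minpoly F M).natDegree = n)
    (c : Matrix (Fin n) (Fin n) F) (hc : Commute c M) : ∃ a, evM M a = c := by
  classical
  have : Fact (Irreducible (minpoly F M)) := ⟨hirr⟩
  have : NeZero n := ⟨by omega⟩
  have hμ0 : minpoly F M ≠ 0 := hirr.ne_zero
  have hfr : Module.finrank F (AdjoinRoot (minpoly F M)) = n := by
    rw [(AdjoinRoot.powerBasis hμ0).finrank, AdjoinRoot.powerBasis_dim, hdeg]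
  have : Module.Finite F (AdjoinRoot (minpoly F M)) := (AdjoinRoot.powerBasis hμ0).finite
  let v : Fin n → F := Pi.single 0 1
  have hv : v ≠ 0 := by
    intro h
    have := congrFun h 0
    simp [v] at this
  let φ : AdjoinRoot (minpoly F M) →ₗ[F] (Fin n → F) :=
    { toFun := fun a => (evM M a).mulVec v
      map_add' := by intro a b; rw [map_add, Matrix.add_mulVec]
      map_smul' := by intro k a; rw [map_smul, Matrix.smul_mulVec]; rfl }
  have hφ : ∀ a, φ a = (evM M a).mulVec v := fun _ => rfl
  have hinj : Function.Injective φ := by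
    rw [← LinearMap.ker_eq_bot, LinearMap.ker_eq_bot']
    intro a ha
    by_contra ha0
    apply hv
    have h1 : evM M a⁻¹ * evM M a = 1 := by rw [← map_mul, inv_mul_cancel₀ ha0, map_one]
    calc v = (1 : Matrix _ _ F).mulVec v := (Matrix.one_mulVec v).symm
      _ = (evM M a⁻¹ * evM M a).mulVec v := by rw [h1]
      _ = (evM M a⁻¹).mulVec ((evM M a).mulVec v) := (Matrix.mulVec_mulVec ..).symm
      _ = 0 := by rw [← hφ, ha, Matrix.mulVec_zero]
  have hsurj : Function.Surjective φ := by
    apply (LinearMap.injective_iff_surjective_of_finrank_eq_finrank ?_).mp hinj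
    rw [hfr, Module.finrank_fin_fun]
  obtain ⟨a, ha⟩ := hsurj (c.mulVec v)
  refine ⟨a, ?_⟩
  rw [Matrix.ext_iff_mulVec]
  intro w
  obtain ⟨b, rfl⟩ := hsurj w
  rw [hφ, Matrix.mulVec_mulVec, Matrix.mulVec_mulVec, ← map_mul, mul_comm a b, map_mul,
    (commute_evM M c hc b).eq, ← Matrix.mulVec_mulVec, ← Matrix.mulVec_mulVec, ← hφ a, ha]


theorem evM_root (M : Matrix (Fin n) (Fin n) F) : evM M (AdjoinRoot.root _) = M := by
  rw [AdjoinRoot.root, evM_mk, aeval_X]

theorem main {F : Type*} [Field F] [Fintype F] {p q : ℕ} [Fact p.Prime] [CharP F p]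
    (hF : Fintype.card F = q) {n r : ℕ} (hn : 1 ≤ n) (hr : r.Prime) (hrp : r ≠ p)
    (hi : orderOf (q : ZMod r) = n) (x : GL (Fin n) F) (hx : orderOf x = r) :
    IsCyclic ↥(Subgroup.centralizer ({x} : Set (GL (Fin n) F))) ∧
      Nat.card ↥(Subgroup.centralizer ({x} : Set (GL (Fin n) F))) = q ^ n - 1 := by
  classical
  have hn' : NeZero n := ⟨by omega⟩
  have hxr : x ^ r = 1 := hx ▸ pow_orderOf_eq_one x
  have hx1 : x ≠ 1 := by
    intro h
    rw [h, orderOf_one] at hx
    exact hr.ne_one hx.symm
  obtain ⟨M, hM⟩ : ∃ M : Matrix (Fin n) (Fin n) F, M = (x : Matrix (Fin n) (Fin n) F) := ⟨_, rfl⟩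
  have hMr : M ^ r = 1 := by rw [hM, ← Units.val_pow_eq_pow_val, hxr, Units.val_one]
  have hM1 : M ≠ 1 := fun h => hx1 (Units.ext (by rw [← hM, h, Units.val_one]))
  obtain ⟨hirr, hdeg⟩ := minpoly_irreducible hF hn hr hrp hi M hMr hM1
  have : Fact (Irreducible (minpoly F M)) := ⟨hirr⟩
  have hμ0 : minpoly F M ≠ 0 := hirr.ne_zero
  have hfr : Module.finrank F (AdjoinRoot (minpoly F M)) = n := by
    rw [(AdjoinRoot.powerBasis hμ0).finrank, AdjoinRoot.powerBasis_dim, hdeg]
  have : Module.Finite F (AdjoinRoot (minpoly F M)) := (AdjoinRoot.powerBasis hμ0).finite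
  have hfinL : Finite (AdjoinRoot (minpoly F M)) := Module.finite_of_finite F
  let f : (AdjoinRoot (minpoly F M))ˣ →* GL (Fin n) F := Units.map (evM M).toMonoidHom
  have hf : ∀ a, ((f a : GL (Fin n) F) : Matrix (Fin n) (Fin n) F) = evM M (a : AdjoinRoot (minpoly F M)) :=
    fun _ => rfl
  have hfinj : Function.Injective f := Units.map_injective (evM M).toRingHom.injective
  have hrange : f.range = Subgroup.centralizer {x} := by
    ext c
    rw [Subgroup.mem_centralizer_singleton_iff]
    constructor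
    · rintro ⟨a, rfl⟩
      apply Units.ext
      rw [Units.val_mul, Units.val_mul, hf, ← hM]
      have h1 : evM M (a : AdjoinRoot (minpoly F M)) * M
          = evM M ((a : AdjoinRoot (minpoly F M)) * AdjoinRoot.root _) := by
        rw [map_mul, evM_root]
      have h2 : M * evM M (a : AdjoinRoot (minpoly F M))
          = evM M (AdjoinRoot.root _ * (a : AdjoinRoot (minpoly F M))) := by
        rw [map_mul, evM_root]
      rw [h1, h2, mul_comm]
    · intro h
      have hc : Commute (c : Matrix (Fin n) (Fin n) F) M := by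
        have := congrArg (fun u : GL (Fin n) F => (u : Matrix (Fin n) (Fin n) F)) h
        simp only [Units.val_mul] at this
        rw [hM]
        exact this
      obtain ⟨a, ha⟩ := exists_evM_eq hn M hirr hdeg c hc
      have ha0 : a ≠ 0 := by
        rintro rfl
        rw [map_zero] at ha
        have h1 : (c : Matrix (Fin n) (Fin n) F) * ((c⁻¹ : GL (Fin n) F) : Matrix (Fin n) (Fin n) F) = 1 := by
          rw [← Units.val_mul, mul_inv_cancel, Units.val_one]
        rw [← ha, zero_mul] at h1
        exact zero_ne_one h1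
      exact ⟨Units.mk0 a ha0, Units.ext ha⟩
  have e : (AdjoinRoot (minpoly F M))ˣ ≃* Subgroup.centralizer ({x} : Set (GL (Fin n) F)) :=
    (MonoidHom.ofInjective hfinj).trans (MulEquiv.subgroupCongr hrange)
  constructor
  · exact isCyclic_of_surjective e e.surjective
  · rw [← Nat.card_congr e.toEquiv, Nat.card_units, Module.natCard_eq_pow_finrank (K := F), hfr,
      Nat.card_eq_fintype_card, hF]

end Main
end Aux



/-- If an element x of GL_n(q), n ≥ 1, has prime order r and the multiplicative order of q modulo r is n (r is a primitive prime divisor of q^n − 1, so x acts irreducibly), then the centraliser of x in GL_n(q) is cyclic of order q^n − 1 (the multiplicative group of the field with q^n elements, a Singer cycle). -/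
theorem result {F : Type*} [Field F] [Fintype F] {p q : ℕ} [Fact p.Prime] [CharP F p] (hF : Fintype.card F = q) {n r : ℕ} (hn : 1 ≤ n) (hr : r.Prime) (hrp : r ≠ p) (hi : orderOf (q : ZMod r) = n) (x : GL (Fin n) F) (hx : orderOf x = r) : IsCyclic ↥(Subgroup.centralizer ({x} : Set (GL (Fin n) F))) ∧ Nat.card ↥(Subgroup.centralizer ({x} : Set (GL (Fin n) F))) = q ^ n - 1 := by
  exact main hF hn hr hrp hi x hx

end Cfsg.Agent.S2638
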