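import Cfsg.Statements.S2639
import Mathlib
import Cfsg.Agent.Lib.Helper44.QuadExt
import Cfsg.Agent.Lib.Helper44.QuadTrace
-- import your own Cfsg.Agent.* helpers here

set_option autoImplicit false
open Cfsg

namespace Cfsg.Agent.S2639

open Matrix Cfsg.Agent.Helper44

section
variable {K F : Type*} [Field K] [Fintype K] [Field F] [Fintype F] [Algebra F K]

theorem sympForm_eq {l : Type*} [Fintype l] [DecidableEq l] {R : Type*} [CommRing R]
    (w w' : l ⊕ l → R) :
    w ⬝ᵥ (Matrix.J l R *ᵥ w') =
      ∑ i : l, (w (Sum.inr i) * w' (Sum.inl i) - w (Sum.inl i) * w' (Sum.inr i)) := by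
  rw [dotProduct, Fintype.sum_sum_type, Matrix.J, Matrix.fromBlocks_mulVec]
  simp only [Sum.elim_inl, Sum.elim_inr, Matrix.zero_mulVec, zero_add, add_zero, Matrix.neg_mulVec,
    Matrix.one_mulVec, Pi.neg_apply, Function.comp_apply]
  rw [← Finset.sum_add_distrib]
  apply Finset.sum_congr rfl
  intro i _
  ring

theorem trace_algebraMap_mul (c : F) (z : K) :
    Algebra.trace F K (algebraMap F K c * z) = c * Algebra.trace F K z := by
  rw [← Algebra.smul_def, map_smul, smul_eq_mul]

/-- the key per-coordinate identity -/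
theorem coord_identity (hfr : Module.finrank F K = 2) (ε θ : K)
    (hε : Algebra.trace F K ε = 0) (hθ : Algebra.trace F K (ε * θ) = 1) (x y x' y' : F) :
    Algebra.trace F K (ε * (x • (1 : K) + y • θ) * (x' • (1 : K) + y' • θ) ^ (Fintype.card F))
      = y * x' - x * y' := by
  set σ := FiniteField.frobeniusAlgHom F K with hσ
  have hσa : ∀ z : K, z ^ (Fintype.card F) = σ z := fun z => rfl
  have h1 : Algebra.trace F K (ε * σ θ) = -1 := by
    rw [← trace_frob hfr rfl, hσa, map_mul]
    have e1 : σ ε = -ε := by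
      rw [← hσa]; exact frob_eq_neg_of_trace_eq_zero hfr rfl ε hε
    have e2 : σ (σ θ) = θ := by
      rw [← hσa, ← hσa]; exact frob_frob hfr rfl θ
    rw [e1, e2, neg_mul, map_neg, hθ]
  have h2 : Algebra.trace F K (ε * θ * σ θ) = 0 := by
    have e3 : θ * σ θ = algebraMap F K (Algebra.norm F θ) := by
      rw [algebraMap_norm hfr rfl, hσa]
    rw [mul_assoc, e3, mul_comm, trace_algebraMap_mul, hε, mul_zero]
  rw [hσa, map_add, map_smul, map_smul, map_one]
  simp only [Algebra.smul_def, mul_one]
  have expand : ε * (algebraMap F K x + algebraMap F K y * θ) *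
      (algebraMap F K x' + algebraMap F K y' * σ θ) =
      algebraMap F K (x * x') * ε + algebraMap F K (x * y') * (ε * σ θ) +
      algebraMap F K (y * x') * (ε * θ) + algebraMap F K (y * y') * (ε * θ * σ θ) := by
    simp only [map_mul]; ring
  rw [expand, map_add, map_add, map_add, trace_algebraMap_mul, trace_algebraMap_mul,
    trace_algebraMap_mul, trace_algebraMap_mul, hε, h1, hθ, h2]
  ring

/-- `w ↦ (w (inl i) + w (inr i) θ)_i` -/
noncomputable def Psi (θ : K) (m : ℕ) : (Fin m ⊕ Fin m → F) →ₗ[F] (Fin m → K) where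
  toFun w i := w (Sum.inl i) • (1 : K) + w (Sum.inr i) • θ
  map_add' w w' := by
    funext i
    simp only [Pi.add_apply, add_smul]
    abel
  map_smul' c w := by
    funext i
    simp only [Pi.smul_apply, smul_eq_mul, RingHom.id_apply, mul_smul, smul_add]

theorem Psi_apply (θ : K) (m : ℕ) (w : Fin m ⊕ Fin m → F) (i : Fin m) :
    Psi θ m w i = w (Sum.inl i) • (1 : K) + w (Sum.inr i) • θ := rfl

theorem herm_Psi (hfr : Module.finrank F K = 2) (ε θ : K)
    (hε : Algebra.trace F K ε = 0) (hθ : Algebra.trace F K (ε * θ) = 1) (m : ℕ)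
    (w w' : Fin m ⊕ Fin m → F) :
    Algebra.trace F K (ε * Cfsg.hermForm m K (Fintype.card F) (Psi θ m w) (Psi θ m w')) =
      w ⬝ᵥ (Matrix.J (Fin m) F *ᵥ w') := by
  rw [sympForm_eq, Cfsg.hermForm, Finset.mul_sum, map_sum]
  apply Finset.sum_congr rfl
  intro i _
  rw [Psi_apply, Psi_apply, ← mul_assoc, coord_identity hfr ε θ hε hθ]

theorem Psi_injective (hfr : Module.finrank F K = 2) (ε θ : K)
    (hε : Algebra.trace F K ε = 0) (hθ : Algebra.trace F K (ε * θ) = 1) (m : ℕ) :
    Function.Injective (Psi (F := F) θ m) := by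
  rw [injective_iff_map_eq_zero]
  intro w hw
  have h0 : ∀ i, w (Sum.inl i) • (1 : K) + w (Sum.inr i) • θ = 0 := by
    intro i
    rw [← Psi_apply, hw]; rfl
  funext j
  rcases j with i | i
  · have := coord_identity hfr ε θ hε hθ (w (Sum.inl i)) (w (Sum.inr i)) 0 1
    rw [h0 i] at this
    simpa using this.symm
  · have := coord_identity hfr ε θ hε hθ (w (Sum.inl i)) (w (Sum.inr i)) 1 0
    rw [h0 i] at this
    simpa using this.symm

end

/-- The unitary group embeds in the symplectic group of twice the dimension over the subfield: for a field K with q² elements and a field F with q elements (isomorphic to the subfield of K of order q), there is an injective homomorphism GU_m(q) → Sp_2m(F). -/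
theorem result {K F : Type*} [Field K] [Fintype K] [Field F] [Fintype F] {q : ℕ} (hK : Fintype.card K = q ^ 2) (hF : Fintype.card F = q) (m : ℕ) : ∃ φ : ↥(Cfsg.GU m K q) →* ↥(Matrix.symplecticGroup (Fin m) F), Function.Injective φ := by
  classical
  obtain ⟨alg, hfr⟩ := exists_algebra_of_card hK hF
  letI := alg
  subst hF
  haveI : FiniteDimensional F K := Module.finite_of_finrank_pos (by omega)
  obtain ⟨ε, hε0, hε⟩ := exists_trace_zero (F := F) (K := K) hfr
  obtain ⟨θ, hθ⟩ := exists_trace_eq_one (F := F) hfr ε hε0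
  have hdim : Module.finrank F (Fin m ⊕ Fin m → F) = Module.finrank F (Fin m → K) := by
    rw [Module.finrank_fintype_fun_eq_card, Module.finrank_pi_fintype]
    simp [hfr]; ring
  let E := LinearMap.linearEquivOfInjective (Psi (F := F) θ m) (Psi_injective hfr ε θ hε hθ m) hdim
  have hE : ∀ w, E w = Psi θ m w := fun w => rfl
  let M := restrictHom E.symm
  have hmem : ∀ g : ↥(Cfsg.GU m K (Fintype.card F)),
      (M.comp ((Units.coeHom _).comp (Cfsg.GU m K (Fintype.card F)).subtype)) g ∈
        Matrix.symplecticGroup (Fin m) F := by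
    intro g
    rw [sp_mem_iff_form]
    intro w w'
    have hg : ∀ u v : Fin m → K, Cfsg.hermForm m K (Fintype.card F)
        (((g : GL (Fin m) K) : Matrix (Fin m) (Fin m) K) *ᵥ u)
        (((g : GL (Fin m) K) : Matrix (Fin m) (Fin m) K) *ᵥ v) =
        Cfsg.hermForm m K (Fintype.card F) u v := g.2
    change (M ((g : GL (Fin m) K) : Matrix (Fin m) (Fin m) K) *ᵥ w) ⬝ᵥ
      (Matrix.J (Fin m) F *ᵥ (M ((g : GL (Fin m) K) : Matrix (Fin m) (Fin m) K) *ᵥ w')) = _
    rw [restrictHom_mulVec', restrictHom_mulVec', ← herm_Psi hfr ε θ hε hθ, ← hE, ← hE,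
      LinearEquiv.symm_symm, LinearEquiv.apply_symm_apply, LinearEquiv.apply_symm_apply, hg,
      hE, hE, herm_Psi hfr ε θ hε hθ]
  refine ⟨(M.comp ((Units.coeHom _).comp (Cfsg.GU m K (Fintype.card F)).subtype)).codRestrict _ hmem, ?_⟩
  intro g h hgh
  apply Subtype.ext
  apply Units.ext
  apply restrictHom_injective E.symm
  exact congrArg Subtype.val hgh

end Cfsg.Agent.S2639
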