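import Cfsg.Statements.S2640
import Mathlib
import Cfsg.Agent.Lib.Helper44.QuadExt
import Cfsg.Agent.Lib.Helper44.QuadTrace
import Cfsg.Agent.Lib.Helper44.HypBlock
-- import your own Cfsg.Agent.* helpers here

set_option autoImplicit false
open Cfsg

namespace Cfsg.Agent.S2640

open Matrix Cfsg.Agent.Helper44

section
variable {K F : Type*} [Field K] [Fintype K] [Field F] [Fintype F] [Algebra F K]

/-- sum of norms of the coordinates -/
noncomputable def normSum (m : ℕ) (u : Fin m → K) : F := ∑ k, Algebra.norm F (u k)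

theorem herm_self (hfr : Module.finrank F K = 2) (m : ℕ) (u : Fin m → K) :
    Cfsg.hermForm m K (Fintype.card F) u u = algebraMap F K (normSum m u) := by
  rw [Cfsg.hermForm, normSum, map_sum]
  apply Finset.sum_congr rfl
  intro k _
  rw [algebraMap_norm hfr rfl]

/-- generic injectivity from a hyperbolic quadratic form -/
theorem inj_of_plus {V : Type*} [AddCommGroup V] [Module F V] (m : ℕ)
    (Ψ : (Fin m ⊕ Fin m → F) →ₗ[F] V) (N : V → F)
    (h : ∀ w, N (Ψ w) = Cfsg.quadFormPlus m F w) : Function.Injective Ψ := by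
  classical
  rw [injective_iff_map_eq_zero]
  intro w hw
  have key : ∀ w' : Fin m ⊕ Fin m → F, Cfsg.quadFormPlus m F (w + w') = Cfsg.quadFormPlus m F w' := by
    intro w'
    rw [← h, ← h, map_add, hw, zero_add]
  funext x
  rcases x with i | i
  · have h1 := key (Pi.single (Sum.inr i) 1)
    have h0 := key 0
    simp only [Cfsg.quadFormPlus, Pi.add_apply, Pi.zero_apply, add_zero, mul_zero,
      Finset.sum_const_zero] at h0
    simp only [Cfsg.quadFormPlus, Pi.add_apply, Pi.single_apply, Sum.inr.injEq, reduceCtorEq,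
      if_false, add_zero, zero_mul, Finset.sum_const_zero, mul_add, Finset.sum_add_distrib,
      mul_ite, mul_one, mul_zero, Finset.sum_ite_eq', Finset.mem_univ, if_true, h0, zero_add] at h1
    exact h1
  · have h1 := key (Pi.single (Sum.inl i) 1)
    have h0 := key 0
    simp only [Cfsg.quadFormPlus, Pi.add_apply, Pi.zero_apply, add_zero, mul_zero,
      Finset.sum_const_zero] at h0
    simp only [Cfsg.quadFormPlus, Pi.add_apply, Pi.single_apply, Sum.inl.injEq, reduceCtorEq,
      if_false, add_zero, mul_zero, Finset.sum_const_zero, add_mul, Finset.sum_add_distrib,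
      ite_mul, one_mul, zero_mul, Finset.sum_ite_eq', Finset.mem_univ, if_true, h0, zero_add] at h1
    exact h1

/-- glue `m'` hyperbolic blocks -/
noncomputable def PsiBlocks {m' m : ℕ} (e : Fin m' × Fin 2 ≃ Fin m)
    (T : (Fin 2 ⊕ Fin 2 → F) →ₗ[F] (Fin 2 → K)) : (Fin m ⊕ Fin m → F) →ₗ[F] (Fin m → K) :=
  LinearMap.pi fun k => (LinearMap.proj (e.symm k).2) ∘ₗ T ∘ₗ
    (LinearMap.funLeft F F (Sum.map (fun s => e ((e.symm k).1, s)) (fun s => e ((e.symm k).1, s))))

theorem PsiBlocks_apply {m' m : ℕ} (e : Fin m' × Fin 2 ≃ Fin m)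
    (T : (Fin 2 ⊕ Fin 2 → F) →ₗ[F] (Fin 2 → K)) (w : Fin m ⊕ Fin m → F) (j : Fin m') (s : Fin 2) :
    PsiBlocks e T w (e (j, s)) =
      T (w ∘ (Sum.map (fun s => e (j, s)) (fun s => e (j, s)))) s := by
  simp only [PsiBlocks, LinearMap.pi_apply, LinearMap.coe_comp, Function.comp_apply,
    LinearMap.proj_apply, Equiv.symm_apply_apply]
  rfl

theorem PsiBlocks_form {m' m : ℕ} (e : Fin m' × Fin 2 ≃ Fin m)
    (T : (Fin 2 ⊕ Fin 2 → F) →ₗ[F] (Fin 2 → K))
    (hT : ∀ w, Algebra.norm F (T w 0) + Algebra.norm F (T w 1) =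
        w (Sum.inl 0) * w (Sum.inr 0) + w (Sum.inl 1) * w (Sum.inr 1))
    (w : Fin m ⊕ Fin m → F) :
    normSum m (PsiBlocks e T w) = Cfsg.quadFormPlus m F w := by
  rw [normSum, Cfsg.quadFormPlus, ← Equiv.sum_comp e, ← Equiv.sum_comp e (fun k => w (Sum.inl k) * w (Sum.inr k)),
    Fintype.sum_prod_type, Fintype.sum_prod_type]
  apply Finset.sum_congr rfl
  intro j _
  rw [Fin.sum_univ_two, Fin.sum_univ_two, PsiBlocks_apply, PsiBlocks_apply, hT]
  rfl

end

/-- For m even, the unitary group GU_m(q) (over the field with q² elements) embeds in the orthogonal group O⁺_2m(q) of the hyperbolic form Σ x_i y_i over the field with q elements (there is an injective homomorphism). -/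
theorem result {K F : Type*} [Field K] [Fintype K] [Field F] [Fintype F] {q : ℕ} (hK : Fintype.card K = q ^ 2) (hF : Fintype.card F = q) (m : ℕ) (hm : Even m) : ∃ φ : ↥(Cfsg.GU m K q) →* ↥(Cfsg.isometryGroup F (Cfsg.quadFormPlus m F)), Function.Injective φ := by
  classical
  obtain ⟨alg, hfr⟩ := exists_algebra_of_card hK hF
  letI := alg
  subst hF
  haveI : FiniteDimensional F K := Module.finite_of_finrank_pos (by omega)
  obtain ⟨m', hm'⟩ := hm
  obtain ⟨T, hT⟩ := hyp_block (F := F) (K := K) hfr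
  let e : Fin m' × Fin 2 ≃ Fin m := finProdFinEquiv.trans (finCongr (by omega))
  let Ψ := PsiBlocks (F := F) (K := K) e T
  have hΨ : ∀ w, normSum m (Ψ w) = Cfsg.quadFormPlus m F w := PsiBlocks_form e T hT
  have hdim : Module.finrank F (Fin m ⊕ Fin m → F) = Module.finrank F (Fin m → K) := by
    rw [Module.finrank_fintype_fun_eq_card, Module.finrank_pi_fintype]
    simp [hfr]; ring
  let E := LinearMap.linearEquivOfInjective Ψ (inj_of_plus m Ψ (normSum m) hΨ) hdim
  have hE : ∀ w, E w = Ψ w := fun w => rfl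
  let M := Units.map (restrictHom E.symm)
  have hmem : ∀ g : ↥(Cfsg.GU m K (Fintype.card F)),
      (M.comp (Cfsg.GU m K (Fintype.card F)).subtype) g ∈
        Cfsg.isometryGroup F (Cfsg.quadFormPlus m F) := by
    intro g w _
    have hg : ∀ u v : Fin m → K, Cfsg.hermForm m K (Fintype.card F)
        (((g : GL (Fin m) K) : Matrix (Fin m) (Fin m) K) *ᵥ u)
        (((g : GL (Fin m) K) : Matrix (Fin m) (Fin m) K) *ᵥ v) =
        Cfsg.hermForm m K (Fintype.card F) u v := g.2
    change Cfsg.quadFormPlus m F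
      (restrictHom E.symm ((g : GL (Fin m) K) : Matrix (Fin m) (Fin m) K) *ᵥ w) =
        Cfsg.quadFormPlus m F w
    rw [restrictHom_mulVec', ← hΨ, ← hΨ, ← hE, ← hE, LinearEquiv.symm_symm,
      LinearEquiv.apply_symm_apply]
    apply (algebraMap F K).injective
    rw [← herm_self hfr, ← herm_self hfr, hg]
  refine ⟨(M.comp (Cfsg.GU m K (Fintype.card F)).subtype).codRestrict _ hmem, ?_⟩
  intro g h hgh
  apply Subtype.ext
  apply Units.ext
  apply restrictHom_injective E.symm
  have h1 := congrArg Subtype.val hgh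
  exact congrArg Units.val h1

end Cfsg.Agent.S2640
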