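import Cfsg.Statements.S2641
import Mathlib
import Cfsg.Agent.Lib.Helper44.QuadExt
import Cfsg.Agent.Lib.Helper44.QuadTrace
import Cfsg.Agent.Lib.Helper44.HypBlock
import Cfsg.Agent.Lib.Helper44.EllBlock
import Cfsg.Agent.S2640
-- import your own Cfsg.Agent.* helpers here

set_option autoImplicit false
open Cfsg

namespace Cfsg.Agent.S2641

open Matrix Cfsg.Agent.Helper44 Cfsg.Agent.S2640

section
variable {K F : Type*} [Field K] [Fintype K] [Field F] [Fintype F] [Algebra F K]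

/-- hyperbolic blocks on the first `n` coordinates, the elliptic block on the last one -/
noncomputable def PsiMinus' {m' n : ℕ} (e : Fin m' × Fin 2 ≃ Fin n)
    (T : (Fin 2 ⊕ Fin 2 → F) →ₗ[F] (Fin 2 → K)) (θ : K) :
    ((Fin n ⊕ Fin n) ⊕ Fin 2 → F) →ₗ[F] (Fin n ⊕ Fin 1 → K) :=
  LinearMap.pi fun x => Sum.elim
    (fun k => (LinearMap.proj k) ∘ₗ (PsiBlocks (F := F) (K := K) e T) ∘ₗ (LinearMap.funLeft F F Sum.inl))
    (fun _ => (LinearMap.proj (Sum.inr 0)).smulRight (1 : K) -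
      (LinearMap.proj (Sum.inr 1)).smulRight θ) x

theorem PsiMinus'_inl {m' n : ℕ} (e : Fin m' × Fin 2 ≃ Fin n)
    (T : (Fin 2 ⊕ Fin 2 → F) →ₗ[F] (Fin 2 → K)) (θ : K) (w : (Fin n ⊕ Fin n) ⊕ Fin 2 → F) (k : Fin n) :
    PsiMinus' e T θ w (Sum.inl k) = PsiBlocks e T (w ∘ Sum.inl) k := rfl

theorem PsiMinus'_inr {m' n : ℕ} (e : Fin m' × Fin 2 ≃ Fin n)
    (T : (Fin 2 ⊕ Fin 2 → F) →ₗ[F] (Fin 2 → K)) (θ : K) (w : (Fin n ⊕ Fin n) ⊕ Fin 2 → F) (k : Fin 1) :
    PsiMinus' e T θ w (Sum.inr k) = w (Sum.inr 0) • (1 : K) - w (Sum.inr 1) • θ := rfl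

end

/-- For m odd, the unitary group GU_m(q) (over the field with q² elements) embeds in the orthogonal group O⁻_2m(q) of an elliptic form (Σ_(i<m−1) x_i y_i plus an anisotropic binary form) over the field with q elements (there is an injective homomorphism). -/
theorem result {K F : Type*} [Field K] [Fintype K] [Field F] [Fintype F] {q : ℕ} (hK : Fintype.card K = q ^ 2) (hF : Fintype.card F = q) (m : ℕ) (hm : Odd m) (a b : F) (hab : ∀ z₁ z₂ : F, z₁ ^ 2 + a * z₁ * z₂ + b * z₂ ^ 2 = 0 → z₁ = 0 ∧ z₂ = 0) : ∃ φ : ↥(Cfsg.GU m K q) →* ↥(Cfsg.isometryGroup F (Cfsg.quadFormMinus (m - 1) F a b)), Function.Injective φ := by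
  classical
  obtain ⟨alg, hfr⟩ := exists_algebra_of_card hK hF
  letI := alg
  subst hF
  haveI : FiniteDimensional F K := Module.finite_of_finrank_pos (by omega)
  obtain ⟨m', hm'⟩ := hm
  obtain ⟨T, hT⟩ := hyp_block (F := F) (K := K) hfr
  obtain ⟨θ, hθ⟩ := exists_root_quadratic (F := F) (K := K) hfr a b hab
  have hn : m - 1 = m' * 2 := by omega
  have hm1 : m - 1 + 1 = m := by omega
  let e : Fin m' × Fin 2 ≃ Fin (m - 1) := finProdFinEquiv.trans (finCongr hn.symm)
  let e' : Fin m ≃ Fin (m - 1) ⊕ Fin 1 := (finCongr hm1.symm).trans finSumFinEquiv.symm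
  let Ψ' := PsiMinus' (F := F) (K := K) e T θ
  let Ψ : ((Fin (m - 1) ⊕ Fin (m - 1)) ⊕ Fin 2 → F) →ₗ[F] (Fin m → K) :=
    ((LinearEquiv.funCongrLeft F K e') : (Fin (m - 1) ⊕ Fin 1 → K) →ₗ[F] (Fin m → K)) ∘ₗ Ψ'
  have hΨapp : ∀ w k, Ψ w k = Ψ' w (e' k) := fun w k => rfl
  have hΨ : ∀ w, normSum m (Ψ w) = Cfsg.quadFormMinus (m - 1) F a b w := by
    intro w
    rw [normSum]
    simp only [hΨapp]
    rw [Equiv.sum_comp e' (fun x => Algebra.norm F (Ψ' w x)), Fintype.sum_sum_type]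
    simp only [Ψ', PsiMinus'_inl, PsiMinus'_inr]
    rw [Finset.sum_const, Finset.card_univ, Fintype.card_fin, one_smul,
      norm_ell hfr a b hab θ hθ]
    have := PsiBlocks_form (F := F) (K := K) e T hT (w ∘ Sum.inl)
    rw [normSum] at this
    rw [this]
    rfl
  have hinj : Function.Injective Ψ := by
    rw [injective_iff_map_eq_zero]
    intro w hw
    have hw' : ∀ x, Ψ' w x = 0 := by
      intro x
      have := congrFun hw (e'.symm x)
      rw [hΨapp, Equiv.apply_symm_apply] at this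
      exact this
    have h1 : w ∘ Sum.inl = 0 := by
      apply inj_of_plus (m - 1) (PsiBlocks (F := F) (K := K) e T) (normSum (m - 1))
        (PsiBlocks_form e T hT)
      rw [map_zero]
      funext k
      exact hw' (Sum.inl k)
    have h2 : w (Sum.inr 0) • (1 : K) - w (Sum.inr 1) • θ = 0 := hw' (Sum.inr 0)
    have h3 := norm_ell hfr a b hab θ hθ (w (Sum.inr 0)) (w (Sum.inr 1))
    rw [h2, Algebra.norm_zero] at h3
    have h4 := hab _ _ h3.symm
    funext x
    rcases x with x | x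
    · exact congrFun h1 x
    · fin_cases x
      · exact h4.1
      · exact h4.2
  have hdim : Module.finrank F ((Fin (m - 1) ⊕ Fin (m - 1)) ⊕ Fin 2 → F) =
      Module.finrank F (Fin m → K) := by
    rw [Module.finrank_fintype_fun_eq_card, Module.finrank_pi_fintype]
    simp [hfr]; omega
  let E := LinearMap.linearEquivOfInjective Ψ hinj hdim
  have hE : ∀ w, E w = Ψ w := fun w => rfl
  let M := Units.map (restrictHom E.symm)
  have hmem : ∀ g : ↥(Cfsg.GU m K (Fintype.card F)),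
      (M.comp (Cfsg.GU m K (Fintype.card F)).subtype) g ∈
        Cfsg.isometryGroup F (Cfsg.quadFormMinus (m - 1) F a b) := by
    intro g w _
    have hg : ∀ u v : Fin m → K, Cfsg.hermForm m K (Fintype.card F)
        (((g : GL (Fin m) K) : Matrix (Fin m) (Fin m) K) *ᵥ u)
        (((g : GL (Fin m) K) : Matrix (Fin m) (Fin m) K) *ᵥ v) =
        Cfsg.hermForm m K (Fintype.card F) u v := g.2
    change Cfsg.quadFormMinus (m - 1) F a b
      (restrictHom E.symm ((g : GL (Fin m) K) : Matrix (Fin m) (Fin m) K) *ᵥ w) =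
        Cfsg.quadFormMinus (m - 1) F a b w
    rw [restrictHom_mulVec', ← hΨ, ← hΨ, ← hE, ← hE, LinearEquiv.symm_symm,
      LinearEquiv.apply_symm_apply]
    apply (algebraMap F K).injective
    rw [← herm_self hfr, ← herm_self hfr, hg]
  refine ⟨(M.comp (Cfsg.GU m K (Fintype.card F)).subtype).codRestrict _ hmem, ?_⟩
  intro g h hgh
  apply Subtype.ext
  apply Units.ext
  apply restrictHom_injective E.symm
  have h1 := congrArg Subtype.val hgh
  exact congrArg Units.val h1

end Cfsg.Agent.S2641
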