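import Cfsg.Statements.S2644
import Mathlib
import Cfsg.Agent.Lib.Helper44.UnitaryTv
-- import your own Cfsg.Agent.* helpers here

set_option autoImplicit false
open Cfsg

namespace Cfsg.Agent.S2644

section Main
open Matrix Cfsg.Agent.Lead Cfsg.Agent.Helper19 Cfsg.Agent.Helper44

theorem su_matrix_preserves {K : Type*} [Field K] {q n : ℕ} (s : ↥(Cfsg.SU n K q))
    (x y : Fin n → K) :
    Cfsg.hermForm n K q (((s : GL (Fin n) K) : Matrix (Fin n) (Fin n) K) *ᵥ x)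
      (((s : GL (Fin n) K) : Matrix (Fin n) (Fin n) K) *ᵥ y) = Cfsg.hermForm n K q x y :=
  s.2 x y

theorem main {K : Type*} [Field K] [Fintype K] {q m : ℕ} (hK : Fintype.card K = q ^ 2)
    (s t : ↥(Cfsg.SU (m + 1 + 2) K q))
    (hs : Cfsg.IsTransvection
      (((s : GL (Fin (m + 1 + 2)) K) : Matrix (Fin (m + 1 + 2)) (Fin (m + 1 + 2)) K)))
    (ht : Cfsg.IsTransvection
      (((t : GL (Fin (m + 1 + 2)) K) : Matrix (Fin (m + 1 + 2)) (Fin (m + 1 + 2)) K))) :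
    IsConj s t := by
  have hq : q ≠ 0 := by have := herm_two_le hK; omega
  obtain ⟨S, hS⟩ : ∃ S : Matrix (Fin (m + 1 + 2)) (Fin (m + 1 + 2)) K,
      S = ((s : GL (Fin (m + 1 + 2)) K) : Matrix (Fin (m + 1 + 2)) (Fin (m + 1 + 2)) K) := ⟨_, rfl⟩
  obtain ⟨T, hT⟩ : ∃ T : Matrix (Fin (m + 1 + 2)) (Fin (m + 1 + 2)) K,
      T = ((t : GL (Fin (m + 1 + 2)) K) : Matrix (Fin (m + 1 + 2)) (Fin (m + 1 + 2)) K) := ⟨_, rfl⟩
  rw [← hS] at hs
  rw [← hT] at ht
  have hSiso : ∀ x y, Cfsg.hermForm (m + 1 + 2) K q (S *ᵥ x) (S *ᵥ y)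
      = Cfsg.hermForm (m + 1 + 2) K q x y := by
    rw [hS]; exact su_matrix_preserves s
  have hTiso : ∀ x y, Cfsg.hermForm (m + 1 + 2) K q (T *ᵥ x) (T *ᵥ y)
      = Cfsg.hermForm (m + 1 + 2) K q x y := by
    rw [hT]; exact su_matrix_preserves t
  obtain ⟨u, a, hu, huu, ha0, ha, hSx⟩ := unitary_tv_structure hK S hSiso hs.1 hs.2
  obtain ⟨w, b, hw, hww, hb0, hb, hTx⟩ := unitary_tv_structure hK T hTiso ht.1 ht.2
  have haq : a ^ q = -a := by linear_combination ha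
  have hbq : b ^ q = -b := by linear_combination hb
  have hr0 : b / a ≠ 0 := div_ne_zero hb0 ha0
  have hrq : (b / a) ^ q = b / a := by
    rw [div_pow, haq, hbq, neg_div_neg_eq]
  obtain ⟨c, hc⟩ := exists_norm_eq' hK hr0 hrq
  have hc0 : c ≠ 0 := by
    intro h0
    rw [h0, zero_pow (by omega)] at hc
    exact hr0 hc.symm
  have hcw : c • w ≠ 0 := smul_ne_zero hc0 hw
  have hcww : Cfsg.hermForm (m + 1 + 2) K q (c • w) (c • w) = 0 := by
    rw [hH_smul_left hK, hH_smul_right hK, hww, mul_zero, mul_zero]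
  obtain ⟨G, hG, hGdet, hGu⟩ := exists_SU_map hK u (c • w) hu huu hcw hcww
  have hGiso := (mem_GU_iff G).mp hG
  -- the key matrix identity
  have hw_eq : w = c⁻¹ • ((G : Matrix (Fin (m + 1 + 2)) (Fin (m + 1 + 2)) K) *ᵥ u) := by
    rw [hGu, smul_smul, inv_mul_cancel₀ hc0, one_smul]
  have hkey : (G : Matrix (Fin (m + 1 + 2)) (Fin (m + 1 + 2)) K) * S
      = T * (G : Matrix (Fin (m + 1 + 2)) (Fin (m + 1 + 2)) K) := by
    apply Matrix.toLin'.injective
    apply LinearMap.ext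
    intro x
    rw [Matrix.toLin'_apply, Matrix.toLin'_apply, ← Matrix.mulVec_mulVec, ← Matrix.mulVec_mulVec,
      hSx, hTx, Matrix.mulVec_add, Matrix.mulVec_smul, hGu]
    congr 1
    have h1 : Cfsg.hermForm (m + 1 + 2) K q
        ((G : Matrix (Fin (m + 1 + 2)) (Fin (m + 1 + 2)) K) *ᵥ x) w
        = (c⁻¹) ^ q * Cfsg.hermForm (m + 1 + 2) K q x u := by
      rw [hw_eq, hH_smul_right hK, hGiso]
    rw [h1, smul_smul]
    congr 1
    have hcq : c * c ^ q = b / a := by rw [← hc, pow_succ']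
    have hcq0 : c ^ q ≠ 0 := pow_ne_zero _ hc0
    rw [inv_pow]
    field_simp
    have : b = a * (c * c ^ q) := by rw [hcq]; field_simp
    rw [this]
    ring
  -- build the conjugating element
  let gSL : Matrix.SpecialLinearGroup (Fin (m + 1 + 2)) K :=
    ⟨(G : Matrix (Fin (m + 1 + 2)) (Fin (m + 1 + 2)) K), hGdet⟩
  have hgmem : gSL ∈ Cfsg.SU (m + 1 + 2) K q := by
    intro x y
    exact hGiso x y
  let g : ↥(Cfsg.SU (m + 1 + 2) K q) := ⟨gSL, hgmem⟩
  rw [isConj_iff]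
  refine ⟨g, ?_⟩
  rw [mul_inv_eq_iff_eq_mul]
  apply Subtype.ext
  apply Subtype.ext
  change (G : Matrix (Fin (m + 1 + 2)) (Fin (m + 1 + 2)) K) *
      ((s : Matrix.SpecialLinearGroup (Fin (m + 1 + 2)) K) :
        Matrix (Fin (m + 1 + 2)) (Fin (m + 1 + 2)) K)
    = ((t : Matrix.SpecialLinearGroup (Fin (m + 1 + 2)) K) :
        Matrix (Fin (m + 1 + 2)) (Fin (m + 1 + 2)) K) *
      (G : Matrix (Fin (m + 1 + 2)) (Fin (m + 1 + 2)) K)
  have e1 : ((s : Matrix.SpecialLinearGroup (Fin (m + 1 + 2)) K) :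
        Matrix (Fin (m + 1 + 2)) (Fin (m + 1 + 2)) K) = S := by rw [hS]; rfl
  have e2 : ((t : Matrix.SpecialLinearGroup (Fin (m + 1 + 2)) K) :
        Matrix (Fin (m + 1 + 2)) (Fin (m + 1 + 2)) K) = T := by rw [hT]; rfl
  rw [e1, e2]
  exact hkey

end Main

/-- In the special unitary group SU_n(q) with n ≥ 3 (isometries of Σ u_i v_i^q of determinant one over the field with q² elements), any two transvections (elements t with t − 1 of rank one and square zero) are conjugate. -/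
theorem result {K : Type*} [Field K] [Fintype K] {q n : ℕ} (hK : Fintype.card K = q ^ 2) (hn : 3 ≤ n) (s t : ↥(Cfsg.SU n K q)) (hs : Cfsg.IsTransvection (((s : GL (Fin n) K) : Matrix (Fin n) (Fin n) K))) (ht : Cfsg.IsTransvection (((t : GL (Fin n) K) : Matrix (Fin n) (Fin n) K))) : IsConj s t := by
  obtain ⟨m, rfl⟩ : ∃ m, n = m + 1 + 2 := ⟨n - 3, by omega⟩
  exact main hK s t hs ht

end Cfsg.Agent.S2644
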