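import Cfsg.Statements.S2645
import Mathlib
import Cfsg.Agent.Lib.Helper44.SpTransfer
import Cfsg.Agent.S2589

set_option autoImplicit false
set_option linter.unusedSectionVars false
open Cfsg

namespace Cfsg.Agent.S2645

open Polynomial Module
open Cfsg.Agent.Helper42.SemiConj Cfsg.Agent.Helper44.StarInv Cfsg.Agent.Helper44.SpBlocks

universe u

section trans

variable {α : Type*} [DecidableEq α]

lemma exists_transversal (S : Finset α) (s : α → α) (hs : ∀ a ∈ S, s a ∈ S)
    (hss : ∀ a ∈ S, s (s a) = a) (hne : ∀ a ∈ S, s a ≠ a) :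
    ∃ T : Finset α, T ⊆ S ∧ ∀ a ∈ S, (a ∈ T ↔ s a ∉ T) := by
  classical
  let key : α → ℕ := fun a => if h : a ∈ S then ((S.equivFin ⟨a, h⟩ : Fin S.card) : ℕ) else 0
  have hkey : ∀ a ∈ S, ∀ b ∈ S, key a = key b → a = b := by
    intro a ha b hb hab
    simp only [key, dif_pos ha, dif_pos hb] at hab
    have := S.equivFin.injective (Fin.ext hab)
    exact congrArg Subtype.val this
  refine ⟨S.filter (fun a => key a < key (s a)), Finset.filter_subset _ _, ?_⟩
  intro a ha
  simp only [Finset.mem_filter, ha, hs a ha, true_and, hss a ha]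
  have : key a ≠ key (s a) := fun h => hne a ha (hkey a ha (s a) (hs a ha) h).symm
  omega

lemma sum_transversal (S T : Finset α) (s : α → α) (hs : ∀ a ∈ S, s a ∈ S)
    (hss : ∀ a ∈ S, s (s a) = a) (hT : T ⊆ S) (hT2 : ∀ a ∈ S, (a ∈ T ↔ s a ∉ T))
    (g : α → ℕ) : ∑ a ∈ S, g a = ∑ a ∈ T, (g a + g (s a)) := by
  rw [Finset.sum_add_distrib, ← Finset.sum_sdiff hT, add_comm]
  congr 1
  symm
  apply Finset.sum_nbij' s s
  · intro a ha
    rw [Finset.mem_sdiff]
    exact ⟨hs a (hT ha), fun h => ((hT2 a (hT ha)).mp ha) h⟩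
  · intro a ha
    rw [Finset.mem_sdiff] at ha
    have h1 := hT2 (s a) (hs a ha.1)
    rw [hss a ha.1] at h1
    by_contra hcon
    exact hcon (h1.mpr ha.2)
  · intro a ha
    exact hss a (hT ha)
  · intro a ha
    rw [Finset.mem_sdiff] at ha
    exact hss a ha.1
  · intro a _
    rfl

lemma card_transversal (S T : Finset α) (s : α → α) (hs : ∀ a ∈ S, s a ∈ S)
    (hss : ∀ a ∈ S, s (s a) = a) (hT : T ⊆ S) (hT2 : ∀ a ∈ S, (a ∈ T ↔ s a ∉ T)) :
    S.card = 2 * T.card := by
  have := sum_transversal S T s hs hss hT hT2 (fun _ => 1)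
  simp only [Finset.sum_const, smul_eq_mul, mul_one] at this
  omega

end trans

section exist

variable {F : Type u} [Field F] [Fintype F] {p : ℕ} [Fact p.Prime] [CharP F p]

theorem spReal_of_symm (r : ℕ) (hr : r.Prime) (hr2 : r ≠ 2) (hrp : r ≠ p) (mm : F[X] → ℕ)
    (hsym : ∀ f ∈ cycFactors F r, mm (star r f) = mm f)
    (hev : Even (∑ f ∈ powFactors F r, f.natDegree * mm f)) :
    SpReal (powFactors F r) r (fun f => f.natDegree * mm f) := by
  classical
  set i := orderOf ((Fintype.card F : ℕ) : ZMod r) with hi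
  have hdeg : ∀ f ∈ cycFactors F r, f.natDegree = i := fun f hf => cyc_natDegree r hr hrp f hf
  have hx0deg : (X - 1 : F[X]).natDegree = 1 := by
    have h1 : (X - 1 : F[X]) = X - C 1 := by rw [map_one]
    rw [h1, natDegree_X_sub_C]
  have hx0 := X_sub_one_notMem_cyc (F := F) r hr hrp
  have hpowdef : powFactors F r = insert (X - 1 : F[X]) (cycFactors F r) := by
    unfold powFactors
    congr
  have hsplit : ∑ f ∈ powFactors F r, f.natDegree * mm f =
      mm (X - 1) + ∑ f ∈ cycFactors F r, i * mm f := by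
    rw [hpowdef, Finset.sum_insert hx0, hx0deg, one_mul]
    congr 1
    apply Finset.sum_congr rfl
    intro f hf
    rw [hdeg f hf]
  have hpair : SpReal (powFactors F r) r (fun h => (if h = (X - 1 : F[X]) then 1 else 0) +
      (if h = (X - 1 : F[X]) then 1 else 0)) := by
    have := spReal_pair r hr hrp (X - 1 : F[X]) (X_sub_one_mem_pow r)
    rw [star_X_sub_one, hx0deg] at this
    exact this
  rcases Nat.even_or_odd i with hie | hio
  · have hself : ∀ f ∈ cycFactors F r, star r f = f :=
      fun f hf => star_eq_self_of_even r hr hrp f hf hie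
    have hmev : Even (mm (X - 1)) := by
      rw [hsplit, ← Finset.mul_sum] at hev
      have h1 : Even (i * ∑ f ∈ cycFactors F r, mm f) := hie.mul_right _
      exact (Nat.even_add.mp hev).mpr h1
    obtain ⟨c, hc⟩ := hmev
    have h1 := spReal_nsmul _ r _ hpair c
    have h2 := spReal_sum (powFactors F r) r (cycFactors F r)
      (fun f h => mm f * (if h = f then f.natDegree else 0))
      (fun f hf => spReal_nsmul _ r _ (spReal_self r hr hr2 hrp f hf (hself f hf)) (mm f))
    apply spReal_congr _ r _ _ _ (spReal_add _ r _ _ h1 h2)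
    intro h hh
    rw [hpowdef] at hh
    rcases Finset.mem_insert.mp hh with hx | hcy
    · rw [hx, if_pos rfl, hx0deg, hc, one_mul]
      rw [Finset.sum_eq_zero]
      · ring
      · intro f hf
        have : (X - 1 : F[X]) ≠ f := fun h' => hx0 (h' ▸ hf)
        rw [if_neg this, mul_zero]
    · have hne : h ≠ (X - 1 : F[X]) := fun h' => hx0 (h' ▸ hcy)
      rw [if_neg hne, add_zero, mul_zero, zero_add]
      rw [Finset.sum_eq_single h]
      · rw [if_pos rfl, mul_comm]
      · intro f _ hfh
        rw [if_neg (Ne.symm hfh), mul_zero]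
      · intro hn
        exact absurd hcy hn
  · obtain ⟨T, hTs, hT2⟩ := exists_transversal (cycFactors F r) (star r)
      (star_mem_cyc r hr hrp)
      (fun f hf => star_star r hr hrp f (mem_pow_of_mem_cyc r f hf))
      (fun f hf => star_ne_self_of_odd r hr hr2 hrp f hf hio)
    have hmev : Even (mm (X - 1)) := by
      rw [hsplit, sum_transversal (cycFactors F r) T (star r) (star_mem_cyc r hr hrp)
        (fun f hf => star_star r hr hrp f (mem_pow_of_mem_cyc r f hf)) hTs hT2
        (fun f => i * mm f)] at hev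
      have h1 : ∑ a ∈ T, (i * mm a + i * mm (star r a)) = 2 * ∑ a ∈ T, i * mm a := by
        rw [Finset.mul_sum]
        apply Finset.sum_congr rfl
        intro a ha
        rw [hsym a (hTs ha)]; ring
      rw [h1] at hev
      exact (Nat.even_add.mp hev).mpr (even_two_mul _)
    obtain ⟨c, hc⟩ := hmev
    have h1 := spReal_nsmul _ r _ hpair c
    have h2 := spReal_sum (powFactors F r) r T
      (fun f h => mm f * ((if h = f then f.natDegree else 0) +
        (if h = star r f then f.natDegree else 0)))
      (fun f hf => spReal_nsmul _ r _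
        (spReal_pair r hr hrp f (mem_pow_of_mem_cyc r f (hTs hf))) (mm f))
    apply spReal_congr _ r _ _ _ (spReal_add _ r _ _ h1 h2)
    intro h hh
    rw [hpowdef] at hh
    rcases Finset.mem_insert.mp hh with hx | hcy
    · rw [hx, if_pos rfl, hx0deg, hc, one_mul]
      rw [Finset.sum_eq_zero]
      · ring
      · intro f hf
        have h1 : (X - 1 : F[X]) ≠ f := fun h' => hx0 (h' ▸ (hTs hf))
        have h2 : (X - 1 : F[X]) ≠ star r f :=
          fun h' => hx0 (h' ▸ (star_mem_cyc r hr hrp f (hTs hf)))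
        rw [if_neg h1, if_neg h2, add_zero, mul_zero]
    · have hne : h ≠ (X - 1 : F[X]) := fun h' => hx0 (h' ▸ hcy)
      rw [if_neg hne, add_zero, mul_zero, zero_add]
      have hss := star_star r hr hrp h (mem_pow_of_mem_cyc r h hcy)
      by_cases hT : h ∈ T
      · have hsT : star r h ∉ T := (hT2 h hcy).mp hT
        rw [Finset.sum_eq_single h]
        · have h3 : h ≠ star r h := fun h' => by rw [← h'] at hsT; exact hsT hT
          rw [if_pos rfl, if_neg h3, add_zero, mul_comm]
        · intro f hf hfh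
          have h3 : h ≠ star r f := by
            intro h'
            apply hsT
            rw [h', star_star r hr hrp f (mem_pow_of_mem_cyc r f (hTs hf))]
            exact hf
          rw [if_neg (Ne.symm hfh), if_neg h3, add_zero, mul_zero]
        · intro hn
          exact absurd hT hn
      · have hsT : star r h ∈ T := by
          by_contra hcon
          exact hT ((hT2 h hcy).mpr hcon)
        rw [Finset.sum_eq_single (star r h)]
        · have h3 : h ≠ star r h := fun h' => by rw [← h'] at hsT; exact hT hsT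
          rw [if_neg h3, hss, if_pos rfl, zero_add, hsym h hcy,
            natDegree_star r hr hrp h (mem_pow_of_mem_cyc r h hcy), mul_comm]
        · intro f hf hfh
          have h3 : h ≠ f := fun h' => hT (h' ▸ hf)
          have h4 : h ≠ star r f := by
            intro h'
            apply hfh
            rw [h', star_star r hr hrp f (mem_pow_of_mem_cyc r f (hTs hf))]
          rw [if_neg h3, if_neg h4, add_zero, mul_zero]
        · intro hn
          exact absurd hsT hn

end exist

section classes

variable {F : Type u} [Field F] [Fintype F] {p : ℕ} [Fact p.Prime] [CharP F p]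

/-- the symmetric multiplicity functions of total dimension `2m` -/
def MS (F : Type u) [Field F] [Fintype F] (m r : ℕ) : Type u :=
  {mm : ↥(powFactors F r) → ℕ // (∑ f : ↥(powFactors F r), f.1.natDegree * mm f = 2 * m) ∧
    ∀ f g : ↥(powFactors F r), g.1 = star r f.1 → mm g = mm f}

theorem card_classes_pow (m r : ℕ) (hr : r.Prime) (hr2 : r ≠ 2) (hrp : r ≠ p) :
    Nat.card {C : ConjClasses ↥(Matrix.symplecticGroup (Fin m) F) //
      ∃ g : Matrix.symplecticGroup (Fin m) F, ConjClasses.mk g = C ∧ g ^ r = 1} =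
      Nat.card (MS F m r) := by
  classical
  set S := powFactors F r with hS
  have hirr := powFactors_irr (F := F) r
  have hcop := powFactors_coprime (F := F) r hr hrp
  have hlift : ∀ C : {C : ConjClasses ↥(Matrix.symplecticGroup (Fin m) F) //
      ∃ g : Matrix.symplecticGroup (Fin m) F, ConjClasses.mk g = C ∧ g ^ r = 1},
      ∃ g : Matrix.symplecticGroup (Fin m) F, ConjClasses.mk g = C.1 ∧ g ^ r = 1 := fun C => C.2
  choose rep hrep1 hrep2 using hlift
  have hval : ∀ g : Matrix.symplecticGroup (Fin m) F, g ^ r = 1 →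
      (g : Matrix (Fin m ⊕ Fin m) (Fin m ⊕ Fin m) F) ^ r = 1 := by
    intro g hg
    have := congrArg Subtype.val hg
    rw [SubmonoidClass.coe_pow] at this
    exact this
  have hkill : ∀ g : Matrix.symplecticGroup (Fin m) F, g ^ r = 1 →
      aeval (g : Matrix (Fin m ⊕ Fin m) (Fin m ⊕ Fin m) F) (∏ f ∈ S, f) = 0 := by
    intro g hg
    rw [hS, powFactors_prod r hr hrp, map_sub, map_pow, aeval_X, map_one, hval g hg, sub_self]
  have hdegpos : ∀ f ∈ S, 0 < f.natDegree := fun f hf =>
    Polynomial.natDegree_pos_iff_degree_pos.mpr (Polynomial.degree_pos_of_irreducible (hirr f hf))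
  have hsum : ∀ g : Matrix.symplecticGroup (Fin m) F, g ^ r = 1 →
      ∑ f : ↥S, f.1.natDegree *
        (kdi (g : Matrix (Fin m ⊕ Fin m) (Fin m ⊕ Fin m) F) f.1 / f.1.natDegree) = 2 * m := by
    intro g hg
    have h1 := sum_kdi S hcop (g : Matrix (Fin m ⊕ Fin m) (Fin m ⊕ Fin m) F) (hkill g hg)
    rw [← Finset.sum_coe_sort S] at h1
    have h2 : Fintype.card (Fin m ⊕ Fin m) = 2 * m := by
      rw [Fintype.card_sum, Fintype.card_fin]; ring
    rw [h2] at h1
    refine Eq.trans ?_ h1
    apply Finset.sum_congr rfl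
    intro f _
    exact Nat.mul_div_cancel' (natDegree_dvd_kdi _ f.1 (hirr f.1 f.2))
  have hsymm : ∀ g : Matrix.symplecticGroup (Fin m) F, g ^ r = 1 → ∀ f h : ↥S, h.1 = star r f.1 →
      kdi (g : Matrix (Fin m ⊕ Fin m) (Fin m ⊕ Fin m) F) h.1 / h.1.natDegree =
        kdi (g : Matrix (Fin m ⊕ Fin m) (Fin m ⊕ Fin m) F) f.1 / f.1.natDegree := by
    intro g hg f h hfh
    rw [hfh, kdi_star_sp m r hr hrp g hg f.1 f.2, natDegree_star r hr hrp f.1 f.2]
  have hbij : Function.Bijective (fun C => (⟨fun f : ↥S =>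
      kdi ((rep C : Matrix.symplecticGroup (Fin m) F) :
        Matrix (Fin m ⊕ Fin m) (Fin m ⊕ Fin m) F) f.1 / f.1.natDegree,
      hsum (rep C) (hrep2 C), hsymm (rep C) (hrep2 C)⟩ : MS F m r)) := by
    constructor
    · intro C C' h
      have h1 : ∀ f ∈ S, kdi ((rep C : Matrix.symplecticGroup (Fin m) F) :
          Matrix (Fin m ⊕ Fin m) (Fin m ⊕ Fin m) F) f =
          kdi ((rep C' : Matrix.symplecticGroup (Fin m) F) :
          Matrix (Fin m ⊕ Fin m) (Fin m ⊕ Fin m) F) f := by
        intro f hf
        have h2 := congrFun (congrArg Subtype.val h) ⟨f, hf⟩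
        simp only at h2
        rw [← Nat.mul_div_cancel' (natDegree_dvd_kdi (rep C).val f (hirr f hf)),
          ← Nat.mul_div_cancel' (natDegree_dvd_kdi (rep C').val f (hirr f hf)), h2]
      have hc := isConj_of_kdi_eq S hirr hcop _ _ (hkill _ (hrep2 C)) (hkill _ (hrep2 C')) h1
      have hord : (orderOf (rep C)).Coprime p := by
        have hd : orderOf (rep C) ∣ r := orderOf_dvd_of_pow_eq_one (hrep2 C)
        have hcp : r.Coprime p := (Nat.coprime_primes hr (Fact.out : p.Prime)).mpr hrp
        exact Nat.Coprime.coprime_dvd_left hd hcp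
      have hc' : IsConj (rep C) (rep C') := (Cfsg.Agent.S2589.result (rep C) (rep C') hord).mpr hc
      apply Subtype.ext
      rw [← hrep1 C, ← hrep1 C']
      exact ConjClasses.mk_eq_mk_iff_isConj.mpr hc'
    · rintro ⟨mm, hm1, hm2⟩
      let mm' : F[X] → ℕ := fun f => if h : f ∈ S then mm ⟨f, h⟩ else 0
      have hmm' : ∀ f : ↥S, mm' f.1 = mm f := by
        intro f
        simp only [mm', f.2, dite_true]
        rfl
      have hsum' : ∑ f ∈ S, f.natDegree * mm' f = 2 * m := by
        rw [← hm1, ← Finset.sum_coe_sort S]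
        apply Finset.sum_congr rfl
        intro f _
        rw [hmm']
      have hsym' : ∀ f ∈ cycFactors F r, mm' (star r f) = mm' f := by
        intro f hf
        have hfS : f ∈ S := mem_pow_of_mem_cyc r f hf
        have hsS : star r f ∈ S := star_mem r hr hrp f hfS
        have := hm2 ⟨f, hfS⟩ ⟨star r f, hsS⟩ rfl
        rw [← hmm' ⟨star r f, hsS⟩, ← hmm' ⟨f, hfS⟩] at this
        exact this
      have hreal := spReal_of_symm r hr hr2 hrp mm' hsym' (by rw [hsum']; exact even_two_mul m)
      obtain ⟨A, hAr, hAk⟩ := exists_sp_of_real m r hr hrp _ hreal hsum'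
      refine ⟨⟨ConjClasses.mk A, A, rfl, hAr⟩, ?_⟩
      apply Subtype.ext
      funext f
      show kdi ((rep _ : Matrix.symplecticGroup (Fin m) F) :
        Matrix (Fin m ⊕ Fin m) (Fin m ⊕ Fin m) F) f.1 / f.1.natDegree = mm f
      have hc : IsConj (rep ⟨ConjClasses.mk A, A, rfl, hAr⟩) A :=
        ConjClasses.mk_eq_mk_iff_isConj.mp (hrep1 _)
      have hord : (orderOf (rep ⟨ConjClasses.mk A, A, rfl, hAr⟩)).Coprime p := by
        have hd : orderOf (rep ⟨ConjClasses.mk A, A, rfl, hAr⟩) ∣ r :=
          orderOf_dvd_of_pow_eq_one (hrep2 _)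
        have hcp : r.Coprime p := (Nat.coprime_primes hr (Fact.out : p.Prime)).mpr hrp
        exact Nat.Coprime.coprime_dvd_left hd hcp
      have hcm := (Cfsg.Agent.S2589.result _ A hord).mp hc
      rw [kdi_eq_of_isConj _ _ hcm, hAk f.1 f.2, Nat.mul_div_cancel_left _ (hdegpos f.1 f.2), hmm']
  exact Nat.card_eq_of_bijective _ hbij

end classes

section count

variable {F : Type u} [Field F] [Fintype F] {p : ℕ} [Fact p.Prime] [CharP F p]

/-- extension by zero of a function on a finset -/
noncomputable def extend (S : Finset F[X]) (mm : ↥S → ℕ) : F[X] → ℕ := by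
  classical
  exact fun f => if h : f ∈ S then mm ⟨f, h⟩ else 0

lemma extend_apply (S : Finset F[X]) (mm : ↥S → ℕ) (f : ↥S) : extend S mm f.1 = mm f := by
  classical
  unfold extend
  simp only [f.2, dite_true]

lemma extend_mem (S : Finset F[X]) (mm : ↥S → ℕ) (f : F[X]) (hf : f ∈ S) :
    extend S mm f = mm ⟨f, hf⟩ := extend_apply S mm ⟨f, hf⟩

lemma sum_extend (S : Finset F[X]) (mm : ↥S → ℕ) (w : F[X] → ℕ) :
    ∑ f : ↥S, w f.1 * mm f = ∑ f ∈ S, w f * extend S mm f := by
  rw [← Finset.sum_coe_sort S]
  apply Finset.sum_congr rfl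
  intro f _
  rw [extend_apply]

lemma x0deg : (X - 1 : F[X]).natDegree = 1 := by
  have h1 : (X - 1 : F[X]) = X - C 1 := by rw [map_one]
  rw [h1, natDegree_X_sub_C]

open Classical in
lemma powdef (r : ℕ) : powFactors F r = insert (X - 1 : F[X]) (cycFactors F r) := by
  unfold powFactors
  congr

theorem card_MS_even (m r i t : ℕ) (hr : r.Prime) (hrp : r ≠ p)
    (hi : i = orderOf ((Fintype.card F : ℕ) : ZMod r)) (ht : t * i = r - 1) (hev : Even i) :
    Nat.card (MS F m r) = (2 * m / i + t).choose t := by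
  classical
  have hipos : 0 < i := by
    rcases Nat.eq_zero_or_pos i with h | h
    · rw [h, mul_zero] at ht
      have := hr.two_le
      omega
    · exact h
  have hcard : (cycFactors F r).card = t := by
    have h1 := cyc_card (F := F) r hr hrp
    rw [← hi, ← ht] at h1
    exact Nat.eq_of_mul_eq_mul_right hipos h1
  have hstar : ∀ f ∈ powFactors F r, star r f = f := by
    intro f hf
    rw [powdef] at hf
    rcases Finset.mem_insert.mp hf with h | h
    · rw [h]; exact star_X_sub_one r
    · exact star_eq_self_of_even r hr hrp f h (hi ▸ hev)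
  have e : MS F m r ≃ {mm : ↥(powFactors F r) → ℕ //
      ∑ f : ↥(powFactors F r), f.1.natDegree * mm f = 2 * m} :=
    Equiv.subtypeEquivRight (fun mm => ⟨fun h => h.1, fun h => ⟨h, fun f g hg => by
      have : g = f := Subtype.ext (hg.trans (hstar f.1 f.2))
      rw [this]⟩⟩)
  rw [Nat.card_congr e]
  have h3 := card_weighted (X - 1 : F[X]) (cycFactors F r) (X_sub_one_notMem_cyc r hr hrp)
    Polynomial.natDegree x0deg i hipos
    (fun f hf => by rw [cyc_natDegree r hr hrp f hf, hi]) (2 * m)
  rw [hcard] at h3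
  rw [← h3]
  rfl

theorem card_MS_odd (m r i t : ℕ) (hr : r.Prime) (hr2 : r ≠ 2) (hrp : r ≠ p)
    (hi : i = orderOf ((Fintype.card F : ℕ) : ZMod r)) (ht : t * i = r - 1) (hodd : Odd i) :
    Nat.card (MS F m r) = (m / i + t / 2).choose (t / 2) := by
  classical
  have hipos : 0 < i := hodd.pos
  have hcard : (cycFactors F r).card = t := by
    have h1 := cyc_card (F := F) r hr hrp
    rw [← hi, ← ht] at h1
    exact Nat.eq_of_mul_eq_mul_right hipos h1
  have hdeg : ∀ f ∈ cycFactors F r, f.natDegree = i :=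
    fun f hf => by rw [cyc_natDegree r hr hrp f hf, hi]
  have hx0 := X_sub_one_notMem_cyc (F := F) r hr hrp
  have hsm := star_mem_cyc (F := F) r hr hrp
  have hss : ∀ f ∈ cycFactors F r, star r (star r f) = f :=
    fun f hf => star_star r hr hrp f (mem_pow_of_mem_cyc r f hf)
  obtain ⟨T, hTs, hT2⟩ := exists_transversal (cycFactors F r) (star r) hsm hss
    (fun f hf => star_ne_self_of_odd r hr hr2 hrp f hf (hi ▸ hodd))
  have hcardT : T.card = t / 2 := by
    have := card_transversal (cycFactors F r) T (star r) hsm hss hTs hT2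
    rw [hcard] at this
    omega
  have hx0T : (X - 1 : F[X]) ∉ T := fun h => hx0 (hTs h)
  set S := powFactors F r with hS
  set S' := insert (X - 1 : F[X]) T with hS'
  have hsub : S' ⊆ S := by
    rw [hS, powdef, hS']
    exact Finset.insert_subset_insert _ hTs
  let w : F[X] → ℕ := fun f => if f = X - 1 then 1 else 2 * i
  have hw0 : w (X - 1) = 1 := by simp only [w, if_true]
  have hwT : ∀ f ∈ T, w f = 2 * i := by
    intro f hf
    have : f ≠ X - 1 := fun h => hx0T (h ▸ hf)
    simp only [w, if_neg this]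
  have h3 := card_weighted (X - 1 : F[X]) T hx0T w hw0 (2 * i) (by omega) hwT (2 * m)
  have hdiv : 2 * m / (2 * i) = m / i := Nat.mul_div_mul_left m i (by norm_num)
  rw [hdiv, hcardT] at h3
  rw [← h3]
  -- the key identity
  have hident : ∀ mm' : F[X] → ℕ, (∀ f ∈ cycFactors F r, mm' (star r f) = mm' f) →
      ∑ f ∈ S, f.natDegree * mm' f = ∑ f ∈ S', w f * mm' f := by
    intro mm' hsym
    rw [hS, powdef, Finset.sum_insert hx0, hS', Finset.sum_insert hx0T, x0deg, hw0]
    congr 1
    rw [sum_transversal (cycFactors F r) T (star r) hsm hss hTs hT2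
      (fun f => f.natDegree * mm' f)]
    apply Finset.sum_congr rfl
    intro f hf
    rw [hwT f hf, hdeg f (hTs hf), hdeg _ (hsm f (hTs hf)), hsym f (hTs hf)]
    ring
  have hmemS : ∀ f ∈ S, f = X - 1 ∨ f ∈ cycFactors F r := by
    intro f hf
    rw [hS, powdef] at hf
    exact Finset.mem_insert.mp hf
  have hmemS' : ∀ f, f ∈ S' ↔ f = X - 1 ∨ f ∈ T := by
    intro f
    rw [hS']
    exact Finset.mem_insert
  have hsymOf : ∀ mm : ↥S → ℕ, (∀ f g : ↥S, g.1 = star r f.1 → mm g = mm f) →
      ∀ f ∈ cycFactors F r, extend S mm (star r f) = extend S mm f := by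
    intro mm hm2 f hf
    have hfS : f ∈ S := mem_pow_of_mem_cyc r f hf
    have hsS : star r f ∈ S := star_mem r hr hrp f hfS
    rw [extend_mem S mm _ hsS, extend_mem S mm _ hfS]
    exact hm2 ⟨f, hfS⟩ ⟨star r f, hsS⟩ rfl
  have hbij : Function.Bijective (fun mm : MS F m r =>
      (⟨fun f : ↥S' => mm.1 ⟨f.1, hsub f.2⟩, by
        have h1 := mm.2.1
        have h2 := hsymOf mm.1 mm.2.2
        rw [sum_extend S mm.1 Polynomial.natDegree, hident _ h2] at h1
        refine Eq.trans ?_ h1
        rw [← Finset.sum_coe_sort S']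
        apply Finset.sum_congr rfl
        intro f _
        rw [extend_mem S mm.1 f.1 (hsub f.2)]⟩ :
        {mm₀ : ↥S' → ℕ // ∑ f : ↥S', w f.1 * mm₀ f = 2 * m})) := by
    constructor
    · intro mm mm'' h
      have hres : ∀ f : F[X], ∀ hf : f ∈ S', mm.1 ⟨f, hsub hf⟩ = mm''.1 ⟨f, hsub hf⟩ := by
        intro f hf
        exact congrFun (congrArg Subtype.val h) ⟨f, hf⟩
      apply Subtype.ext
      funext f
      by_cases hf' : f.1 ∈ S'
      · exact hres f.1 hf'
      · have hfc : f.1 ∈ cycFactors F r := by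
          rcases hmemS f.1 f.2 with h1 | h1
          · exact absurd ((hmemS' f.1).mpr (Or.inl h1)) hf'
          · exact h1
        have hfT : f.1 ∉ T := fun h1 => hf' ((hmemS' f.1).mpr (Or.inr h1))
        have hsT : star r f.1 ∈ T := by
          by_contra hcon
          exact hfT ((hT2 f.1 hfc).mpr hcon)
        have hsS' : star r f.1 ∈ S' := (hmemS' _).mpr (Or.inr hsT)
        have e1 := mm.2.2 f ⟨star r f.1, hsub hsS'⟩ rfl
        have e2 := mm''.2.2 f ⟨star r f.1, hsub hsS'⟩ rfl
        rw [← e1, ← e2]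
        exact hres _ hsS'
    · rintro ⟨mm₀, h0⟩
      let e0 := extend S' mm₀
      let mm : ↥S → ℕ := fun f => if f.1 ∈ S' then e0 f.1 else e0 (star r f.1)
      have hmm_in : ∀ f : ↥S, f.1 ∈ S' → mm f = e0 f.1 := by
        intro f hf
        simp only [mm, if_pos hf]
      have hmm_out : ∀ f : ↥S, f.1 ∉ S' → mm f = e0 (star r f.1) := by
        intro f hf
        simp only [mm, if_neg hf]
      have hm2 : ∀ f g : ↥S, g.1 = star r f.1 → mm g = mm f := by
        intro f g hg
        rcases hmemS f.1 f.2 with h1 | h1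
        · have hg1 : g.1 = X - 1 := by rw [hg, h1]; exact star_X_sub_one r
          have : g = f := Subtype.ext (hg1.trans h1.symm)
          rw [this]
        · by_cases hfT : f.1 ∈ T
          · have hgT : g.1 ∉ T := by rw [hg]; exact (hT2 f.1 h1).mp hfT
            have hgc : g.1 ∈ cycFactors F r := by rw [hg]; exact hsm f.1 h1
            have hg' : g.1 ∉ S' := by
              rw [hmemS']
              rintro (h2 | h2)
              · exact hx0 (h2 ▸ hgc)
              · exact hgT h2
            rw [hmm_out g hg', hmm_in f ((hmemS' _).mpr (Or.inr hfT)), hg, hss f.1 h1]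
          · have hsT : star r f.1 ∈ T := by
              by_contra hcon
              exact hfT ((hT2 f.1 h1).mpr hcon)
            have hf' : f.1 ∉ S' := by
              rw [hmemS']
              rintro (h2 | h2)
              · exact hx0 (h2 ▸ h1)
              · exact hfT h2
            have hg' : g.1 ∈ S' := by rw [hg]; exact (hmemS' _).mpr (Or.inr hsT)
            rw [hmm_in g hg', hmm_out f hf', hg]
      have hm1 : ∑ f : ↥S, f.1.natDegree * mm f = 2 * m := by
        rw [sum_extend S mm Polynomial.natDegree, hident _ (hsymOf mm hm2), ← h0,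
          ← Finset.sum_coe_sort S']
        apply Finset.sum_congr rfl
        intro f _
        rw [extend_mem S mm f.1 (hsub f.2), hmm_in ⟨f.1, hsub f.2⟩ f.2]
        show w f.1 * extend S' mm₀ f.1 = _
        rw [extend_apply]
      refine ⟨⟨mm, hm1, hm2⟩, ?_⟩
      apply Subtype.ext
      funext f
      show mm ⟨f.1, hsub f.2⟩ = mm₀ f
      rw [hmm_in ⟨f.1, hsub f.2⟩ f.2]
      show extend S' mm₀ f.1 = _
      rw [extend_apply]
  exact Nat.card_eq_of_bijective _ hbij

end count

/-- Number of conjugacy classes of elements of odd prime order r, r different from the characteristic, in the symplectic group Sp_2m(q): let i be the multiplicative order of q modulo r and t = (r − 1)/i. If i is odd the eigenvalue orbits pair off (Λ ≠ Λ⁻¹) and the classes correspond to the non-zero (t/2)-tuples (a_j) with 2i Σ a_j ≤ 2m, giving C(⌊m/i⌋ + t/2, t/2) − 1 classes; if i is even (Λ = Λ⁻¹) they correspond to the non-zero t-tuples with i Σ a_j ≤ 2m, giving C(⌊2m/i⌋ + t, t) − 1 classes. -/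
theorem result {F : Type*} [Field F] [Fintype F] {p q : ℕ} [Fact p.Prime] [CharP F p] (hF : Fintype.card F = q) (m r i t : ℕ) (hr : r.Prime) (hr2 : r ≠ 2) (hrp : r ≠ p) (hi : i = orderOf (q : ZMod r)) (ht : t * i = r - 1) : Nat.card {C : ConjClasses ↥(Matrix.symplecticGroup (Fin m) F) // ∃ g : Matrix.symplecticGroup (Fin m) F, ConjClasses.mk g = C ∧ orderOf g = r} = if Odd i then Nat.choose (m / i + t / 2) (t / 2) - 1 else Nat.choose (2 * m / i + t) t - 1 := by
  subst hF
  have h1 := card_classes_orderOf (G := Matrix.symplecticGroup (Fin m) F) r hr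
  have h2 := card_classes_pow (F := F) m r hr hr2 hrp
  rw [h2] at h1
  split_ifs with hodd
  · rw [card_MS_odd m r i t hr hr2 hrp hi ht hodd] at h1
    omega
  · rw [card_MS_even m r i t hr hrp hi ht (Nat.not_odd_iff_even.mp hodd)] at h1
    omega

end Cfsg.Agent.S2645
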