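import Cfsg.Statements.S2646
import Mathlib
import Cfsg.Agent.Lib.Helper43.JordanCent
import Cfsg.Agent.Lib.Lead.UnitaryGroupCard
import Cfsg.Agent.Lib.Helper44.GUCg

set_option autoImplicit false
open Cfsg

namespace Cfsg.Agent.S2646

/-- Order of the centraliser in the general unitary group GU_n(q) of a unipotent element of given Jordan type: if u ∈ GU_n(q) (isometries of Σ u_i v_i^q over the field with q² elements) is similar to the unipotent matrix with a_i Jordan blocks of size i (all sizes at least 1), then its centraliser in GU_n(q) has order q^γ · Π_i |GU_(a_i)(q)| with γ = 2 Σ_(i<j) i a_i a_j + Σ_i (i − 1) a_i², the same exponent as in GL_n(q), where |GU_a(q)| = q^(a(a−1)/2) Π_(k=1)^a (q^k − (−1)^k). -/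
theorem result {K : Type*} [Field K] [Fintype K] {q n t : ℕ} (hK : Fintype.card K = q ^ 2) (d : Fin t → ℕ) (hd : ∀ k, 1 ≤ d k) (e : ((k : Fin t) × Fin (d k)) ≃ Fin n) (u : ↥(Cfsg.GU n K q)) (hu : IsConj (Matrix.reindex e e (Cfsg.jordanTypeMatrix d K)) ((u : GL (Fin n) K) : Matrix (Fin n) (Fin n) K)) : (Nat.card ↥(Subgroup.centralizer ({u} : Set ↥(Cfsg.GU n K q))) : ℤ) = (q : ℤ) ^ (2 * (∑ i ∈ Finset.range (Finset.univ.sup d + 1), ∑ j ∈ Finset.range (Finset.univ.sup d + 1), if i < j then i * (Finset.univ.filter (fun k : Fin t => d k = i)).card * (Finset.univ.filter (fun k : Fin t => d k = j)).card else 0) + ∑ i ∈ Finset.range (Finset.univ.sup d + 1), (i - 1) * (Finset.univ.filter (fun k : Fin t => d k = i)).card ^ 2) * ∏ i ∈ Finset.range (Finset.univ.sup d + 1), ((q : ℤ) ^ ((Finset.univ.filter (fun k : Fin t => d k = i)).card * ((Finset.univ.filter (fun k : Fin t => d k = i)).card - 1) / 2) * ∏ j : Fin (Finset.univ.filter (fun k : Fin t => d k = i)).card, ((q : ℤ) ^ ((j : ℕ) + 1)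 - (-1) ^ ((j : ℕ) + 1))) := by
  classical
  have hmain := Cfsg.Agent.Helper44.GUC.card_centralizer_GU hK d hd e u hu
  have hKc : ∀ i : Fin (Finset.univ.sup d + 1),
      Fintype.card {k // Cfsg.Agent.Helper43.JC.dF d k = i} =
        (Finset.univ.filter (fun k : Fin t => d k = i)).card := by
    intro i
    rw [Fintype.card_subtype]
    congr 1
    ext k
    simp [Cfsg.Agent.Helper43.JC.dF, Fin.ext_iff]
  have h0 : (Finset.univ.filter (fun k : Fin t => d k = 0)).card = 0 := by
    rw [Finset.card_eq_zero, Finset.filter_eq_empty_iff]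
    intro k _ hk
    have := hd k
    omega
  have hpos : Fintype.card (Cfsg.Agent.Helper43.JC.Pos d) =
      ∑ j ∈ Finset.range (Finset.univ.sup d + 1),
        (Finset.univ.filter (fun k : Fin t => d k = j)).card *
          ∑ i ∈ Finset.range (Finset.univ.sup d + 1),
            (Finset.univ.filter (fun k : Fin t => d k = i)).card * min i j := by
    have h1 : Fintype.card (Cfsg.Agent.Helper43.JC.Pos d) =
        ∑ l : Fin t, ∑ k : Fin t, min (d k) (d l) := by
      simp [Cfsg.Agent.Helper43.JC.Pos, Fintype.card_sigma]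
    rw [h1, Cfsg.Agent.Helper43.JC.sum_fiber d (fun j => ∑ k : Fin t, min (d k) j)]
    apply Finset.sum_congr rfl
    intro j _
    rw [Cfsg.Agent.Helper43.JC.sum_fiber d (fun i => min i j)]
  have hsq : ∑ i : Fin (Finset.univ.sup d + 1),
      Fintype.card {k // Cfsg.Agent.Helper43.JC.dF d k = i} ^ 2 =
      ∑ i ∈ Finset.range (Finset.univ.sup d + 1),
        (Finset.univ.filter (fun k : Fin t => d k = i)).card ^ 2 := by
    rw [← Fin.sum_univ_eq_sum_range
      (fun i => (Finset.univ.filter (fun k : Fin t => d k = i)).card ^ 2) (Finset.univ.sup d + 1)]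
    apply Finset.sum_congr rfl
    intro i _
    rw [hKc i]
  have hr : Fintype.card (Cfsg.Agent.Helper43.JC.Pos d) -
      ∑ i : Fin (Finset.univ.sup d + 1),
        Fintype.card {k // Cfsg.Agent.Helper43.JC.dF d k = i} ^ 2 =
      2 * (∑ i ∈ Finset.range (Finset.univ.sup d + 1), ∑ j ∈ Finset.range (Finset.univ.sup d + 1), if i < j then i * (Finset.univ.filter (fun k : Fin t => d k = i)).card * (Finset.univ.filter (fun k : Fin t => d k = j)).card else 0) + ∑ i ∈ Finset.range (Finset.univ.sup d + 1), (i - 1) * (Finset.univ.filter (fun k : Fin t => d k = i)).card ^ 2 := by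
    rw [hsq, hpos, Cfsg.Agent.Helper43.JC.arith_key
      (fun i => (Finset.univ.filter (fun k : Fin t => d k = i)).card) _ h0, Nat.add_sub_cancel]
  have hq1 : 1 ≤ q := Nat.one_le_iff_ne_zero.2 (Cfsg.Agent.Helper43.UnitaryConj.q_ne_zero hK)
  have hcast : ∀ j : ℕ, (((if Even j then q ^ (j + 1) + 1 else q ^ (j + 1) - 1 : ℕ)) : ℤ) =
      (q : ℤ) ^ (j + 1) - (-1) ^ (j + 1) := by
    intro j
    split_ifs with h
    · rw [pow_succ (-1 : ℤ), h.neg_one_pow]
      push_cast
      ring
    · have h' : Odd j := Nat.not_even_iff_odd.1 h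
      rw [pow_succ (-1 : ℤ), h'.neg_one_pow]
      have h1 : 1 ≤ q ^ (j + 1) := Nat.one_le_pow _ _ hq1
      push_cast [Nat.cast_sub h1]
      ring
  rw [hmain, hr]
  push_cast
  congr 1
  rw [← Fin.prod_univ_eq_prod_range (fun i => ((q : ℤ) ^ ((Finset.univ.filter (fun k : Fin t => d k = i)).card * ((Finset.univ.filter (fun k : Fin t => d k = i)).card - 1) / 2) * ∏ j : Fin (Finset.univ.filter (fun k : Fin t => d k = i)).card, ((q : ℤ) ^ ((j : ℕ) + 1) - (-1) ^ ((j : ℕ) + 1)))) (Finset.univ.sup d + 1)]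
  apply Finset.prod_congr rfl
  intro i _
  rw [hKc i, Cfsg.Agent.Lead.card_GU hK, Nat.cast_mul, Nat.cast_pow, Nat.cast_prod]
  congr 1
  rw [← Fin.prod_univ_eq_prod_range (fun j => (((if Even j then q ^ (j + 1) + 1 else q ^ (j + 1) - 1 : ℕ)) : ℤ))]
  apply Finset.prod_congr rfl
  intro j _
  exact hcast j

end Cfsg.Agent.S2646
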