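import Cfsg.Statements.S2648
import Cfsg.Agent.Lib.Helper40.SylowSpHoms
import Cfsg.Agent.Lib.Helper57.GLSylowH
import Cfsg.Agent.Lib.Helper57.GLSylowC
import Cfsg.Agent.Lib.Helper57.SpSylowB
import Cfsg.Agent.Lib.Helper57.SpSylowC
-- import your own Cfsg.Agent.* helpers here

set_option autoImplicit false
open Cfsg

namespace Cfsg.Agent.S2648

open Cfsg.Agent.Helper40.SylGL Cfsg.Agent.Helper57

/-- Let q be odd, F a field with q elements and n ≥ 1. A Sylow 2-subgroup R of the symplectic group Sp_{2n}(F) has derived length exactly k + 1, where 2^k ≤ 2n < 2^{k+1}: the (k+1)-st term of its derived series is trivial and the k-th is not. -/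
theorem result {F : Type*} [Field F] [Fintype F] [DecidableEq F] (q : ℕ) (hF : Fintype.card F = q) (hq : Odd q) (n : ℕ) (hn : 1 ≤ n) (R : Sylow 2 ↥(Matrix.symplecticGroup (Fin n) F)) : derivedSeries ↥(R : Subgroup ↥(Matrix.symplecticGroup (Fin n) F)) (Nat.log 2 (2 * n) + 1) = ⊥ ∧ derivedSeries ↥(R : Subgroup ↥(Matrix.symplecticGroup (Fin n) F)) (Nat.log 2 (2 * n)) ≠ ⊥ := by
  classical
  have hodd : Odd (Fintype.card F) := hF ▸ hq
  have hlog : Nat.log 2 (2 * n) = Nat.log 2 n + 1 := by
    rw [mul_comm]
    exact Nat.log_mul_base (by norm_num) (by omega)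
  constructor
  · have hRp : IsPGroup 2 (R : Subgroup ↥(Matrix.symplecticGroup (Fin n) F)) := R.isPGroup'
    have hP : IsPGroup 2 ((R : Subgroup ↥(Matrix.symplecticGroup (Fin n) F)).map
        (spToGL (F := F) (n := n))) := hRp.map _
    have h := gl_two_subgroup_der hodd (n + n) (by omega) _ hP
    rw [two_mul]
    exact derivedSeries_eq_bot_of_injective
      ((R : Subgroup ↥(Matrix.symplecticGroup (Fin n) F)).equivMapOfInjective spToGL
        spToGL_injective).toMonoidHom
      ((R : Subgroup ↥(Matrix.symplecticGroup (Fin n) F)).equivMapOfInjective spToGL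
        spToGL_injective).injective _ h
  · rw [hlog]
    obtain ⟨D, hD2, hDder⟩ := exists_quaternion_subgroup hodd
    obtain ⟨X, _, ι, _, _, Ψ, hfin, hX2, hΨ, hne, hcard, hder⟩ :=
      exists_wr_witness D hD2 hDder (Nat.log 2 n)
    have hcardle : Fintype.card ι ≤ Fintype.card (Fin n) := by
      rw [hcard, Fintype.card_fin]
      exact Nat.pow_log_le_self 2 (by omega)
    obtain ⟨e⟩ := Function.Embedding.nonempty_of_card_le hcardle
    exact der_ne_bot_of_embed R hX2
      (spMono.comp ((wrBase D.subtype).comp ((wrExtend D e).comp Ψ)))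
      (spMono_injective.comp ((wrBase_injective _ D.subtype_injective).comp
        ((wrExtend_injective D e).comp hΨ))) _ hder

end Cfsg.Agent.S2648
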