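import Cfsg.Statements.S2665
import Mathlib
-- import your own Cfsg.Agent.* helpers here

set_option autoImplicit false
open scoped MatrixGroups
open Cfsg

namespace Cfsg.Agent.S2665


open Polynomial

section Poly
variable {K : Type*} [Field K] (σ : K →+* K) (q : ℕ)

/-- coefficients of the fixed vector -/
def ycoef (c : ℕ → K) (t : K) : ℕ → K
  | 0 => c 0 * σ t
  | (i+1) => σ (ycoef c t i) + c (i+1) * σ t

/-- the same as polynomials in `t` -/
noncomputable def Ypoly (c : ℕ → K) : ℕ → K[X]
  | 0 => C (c 0) * X ^ q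
  | (i+1) => expand K q ((Ypoly c i).map σ) + C (c (i+1)) * X ^ q

variable {σ q} (hσ : ∀ x, σ x = x ^ q)

include hσ in
theorem Ypoly_eval (c : ℕ → K) (t : K) (i : ℕ) : (Ypoly σ q c i).eval t = ycoef σ c t i := by
  induction i with
  | zero => simp [Ypoly, ycoef, hσ]
  | succ n ih =>
    simp only [Ypoly, ycoef, eval_add, expand_eval, eval_mul, eval_C, eval_pow, eval_X]
    rw [← hσ t, eval_map, eval₂_at_apply, ih]

theorem Ypoly_coeff_zero (hq : 2 ≤ q) (c : ℕ → K) (i : ℕ) : (Ypoly σ q c i).coeff 0 = 0 := by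
  have hq0 : q ≠ 0 := by omega
  induction i with
  | zero => simp [Ypoly, coeff_C_mul, coeff_X_pow, hq0.symm]
  | succ n ih =>
    simp only [Ypoly, coeff_add, coeff_C_mul, coeff_X_pow]
    rw [coeff_expand (by omega)]
    simp [ih, hq0.symm]

theorem Ypoly_coeff_one (hq : 2 ≤ q) (c : ℕ → K) (i : ℕ) : (Ypoly σ q c i).coeff 1 = 0 := by
  have hq1 : q ≠ 1 := by omega
  induction i with
  | zero => simp [Ypoly, coeff_C_mul, coeff_X_pow, hq1.symm]
  | succ n ih =>
    simp only [Ypoly, coeff_add, coeff_C_mul, coeff_X_pow]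
    rw [coeff_expand (by omega)]
    have : ¬ q ∣ 1 := by
      intro h; have := Nat.le_of_dvd one_pos h; omega
    simp [this, hq1.symm]

theorem Ypoly_natDegree (hq : 2 ≤ q) (c : ℕ → K) (hc0 : c 0 ≠ 0) (i : ℕ) :
    (Ypoly σ q c i).natDegree = q ^ (i + 1) := by
  induction i with
  | zero => simp [Ypoly, natDegree_C_mul_X_pow _ _ hc0]
  | succ n ih =>
    simp only [Ypoly]
    have h1 : (expand K q ((Ypoly σ q c n).map σ)).natDegree = q ^ (n + 2) := by
      rw [natDegree_expand, natDegree_map_eq_of_injective σ.injective, ih]; ring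
    have h2 : (C (c (n+1)) * X ^ q : K[X]).natDegree ≤ q := natDegree_C_mul_X_pow_le _ _
    have h3 : q < q ^ (n + 2) := by
      calc q = q ^ 1 := (pow_one q).symm
        _ < q ^ (n + 2) := Nat.pow_lt_pow_right (by omega) (by omega)
    rw [natDegree_add_eq_left_of_natDegree_lt (by omega), h1]

include hσ in
theorem exists_root [IsAlgClosed K] (hq : 2 ≤ q) (c : ℕ → K) (hc0 : c 0 ≠ 0) (m : ℕ) :
    ∃ t : K, t ≠ 0 ∧ ycoef σ c t m = t := by
  set P : K[X] := Ypoly σ q c m - X with hP
  have hP0 : P.coeff 0 = 0 := by simp [hP, Ypoly_coeff_zero hq]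
  have hP1 : P.coeff 1 = -1 := by simp [hP, Ypoly_coeff_one hq]
  have hdeg : P.natDegree = q ^ (m + 1) := by
    have h3 : 1 < q ^ (m + 1) := Nat.one_lt_pow (by omega) (by omega)
    rw [hP, natDegree_sub_eq_left_of_natDegree_lt, Ypoly_natDegree hq c hc0]
    rw [Ypoly_natDegree hq c hc0, natDegree_X]; exact h3
  have hdiv : P = divX P * X := by
    have := divX_mul_X_add P
    rw [hP0, C_0, add_zero] at this
    exact this.symm
  have hR0 : (divX P).coeff 0 = -1 := by rw [coeff_divX, zero_add, hP1]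
  have hRdeg : (divX P).degree ≠ 0 := by
    have h3 : 1 < q ^ (m + 1) := Nat.one_lt_pow (by omega) (by omega)
    have : (divX P).natDegree = q ^ (m + 1) - 1 := by rw [natDegree_divX_eq_natDegree_tsub_one, hdeg]
    intro h
    have h4 : (divX P).natDegree = 0 := natDegree_eq_zero_iff_degree_le_zero.mpr h.le
    omega
  obtain ⟨t, ht⟩ := IsAlgClosed.exists_root (divX P) hRdeg
  refine ⟨t, ?_, ?_⟩
  · rintro rfl
    rw [IsRoot.def, ← coeff_zero_eq_eval_zero, hR0] at ht
    simp at ht
  · have : P.eval t = 0 := by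
      rw [hdiv, eval_mul, ht.eq_zero, zero_mul]
    rw [hP, eval_sub, eval_X, Ypoly_eval hσ, sub_eq_zero] at this
    exact this

end Poly

section Semilinear
variable {K : Type*} [Field K] {σ : K →+* K} {q : ℕ}
variable {V : Type*} [AddCommGroup V] [Module K V]

theorem fixed_of_cyclic [IsAlgClosed K] (hσ : ∀ x, σ x = x ^ q) (hq : 2 ≤ q)
    (φ : V →ₛₗ[σ] V) (s : ℕ → V) (hs : ∀ i, φ (s i) = s (i+1)) (m : ℕ) (c : ℕ → K)
    (hc0 : c 0 ≠ 0)
    (hrel : s (m+1) = ∑ i ∈ Finset.range (m+1), c i • s i)
    (hind : LinearIndependent K (fun i : Fin (m+1) => s i)) :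
    ∃ v : V, v ≠ 0 ∧ φ v = v := by
  obtain ⟨t, ht0, ht⟩ := exists_root hσ hq c hc0 m
  set y := ycoef σ c t with hy
  refine ⟨∑ i ∈ Finset.range (m+1), y i • s i, ?_, ?_⟩
  · intro h0
    rw [Finset.sum_range] at h0
    have := (Fintype.linearIndependent_iff.mp hind) (fun i : Fin (m+1) => y i) h0 (Fin.last m)
    simp only [Fin.val_last] at this
    rw [ht] at this
    exact ht0 this
  · rw [map_sum]
    simp only [map_smulₛₗ, hs]
    rw [Finset.sum_range_succ, ht, hrel, Finset.sum_range_succ' (fun i => y i • s i),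
      Finset.sum_range_succ' (fun i => c i • s i), smul_add, Finset.smul_sum]
    have hy0 : y 0 = c 0 * σ t := rfl
    have hyS : ∀ i, y (i+1) = σ (y i) + c (i+1) * σ t := fun i => rfl
    rw [hy0]
    simp only [hyS, add_smul, Finset.sum_add_distrib, smul_add, smul_smul]
    rw [mul_comm (σ t) (c 0)]
    have : ∀ i, σ t * c (i+1) = c (i+1) * σ t := fun i => mul_comm _ _
    simp only [this]
    abel

theorem exists_fixed [IsAlgClosed K] [FiniteDimensional K V] [Nontrivial V]
    (hσ : ∀ x, σ x = x ^ q) (hq : 2 ≤ q) (hsurj : Function.Surjective σ)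
    (φ : V →ₛₗ[σ] V) (hφ : Function.Injective φ) :
    ∃ v : V, v ≠ 0 ∧ φ v = v := by
  classical
  obtain ⟨w, hw⟩ := exists_ne (0 : V)
  set s : ℕ → V := fun i => φ^[i] w with hsdef
  have hs : ∀ i, φ (s i) = s (i+1) := fun i => by
    simp only [hsdef, Function.iterate_succ_apply']
  have hsne : ∀ i, s i ≠ 0 := by
    intro i
    induction i with
    | zero => simpa [hsdef] using hw
    | succ n ih =>
      rw [← hs n]
      intro h
      exact ih (hφ (by rw [h, map_zero]))
  have hex : ∃ m, ¬ LinearIndependent K (fun i : Fin (m+1) => s i) := by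
    refine ⟨Module.finrank K V, fun h => ?_⟩
    have := h.fintype_card_le_finrank
    simp at this
  have hmin := fun m => Nat.find_min hex (m := m)
  have hspec := Nat.find_spec hex
  obtain ⟨m, hm⟩ : ∃ m, Nat.find hex = m + 1 := by
    apply Nat.exists_eq_succ_of_ne_zero
    intro h0
    rw [h0] at hspec
    have hspec0 : ¬ LinearIndependent K (fun i : Fin 1 => s i) := hspec
    exact hspec0 (linearIndependent_unique_iff.mpr (hsne _))
  rw [hm] at hspec
  have hind : LinearIndependent K (fun i : Fin (m+1) => s i) := by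
    by_contra h
    exact hmin m (by omega) h
  -- s (m+1) in the span
  have hmem : s (m+1) ∈ Submodule.span K (Set.range (fun i : Fin (m+1) => s i)) := by
    by_contra hnot
    apply hspec
    rw [linearIndependent_fin_succ']
    have hinit : (Fin.init fun i : Fin (m + 1 + 1) => s i) = fun i : Fin (m+1) => s i := by
      funext i; simp [Fin.init]
    rw [hinit]
    refine ⟨hind, ?_⟩
    simpa using hnot
  obtain ⟨c, hc⟩ := (Submodule.mem_span_range_iff_exists_fun K).mp hmem
  set c' : ℕ → K := fun i => if h : i < m + 1 then c ⟨i, h⟩ else 0 with hc'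
  have hrel : s (m+1) = ∑ i ∈ Finset.range (m+1), c' i • s i := by
    rw [Finset.sum_range, ← hc]
    apply Finset.sum_congr rfl
    intro i _
    have : c' i = c i := by simp only [hc']; rw [dif_pos i.2]
    rw [this]
  have hc0 : c' 0 ≠ 0 := by
    intro h0
    rw [Finset.sum_range_succ', h0, zero_smul, add_zero] at hrel
    choose b hb using fun i => hsurj (c' (i+1))
    have h1 : φ (s m) = φ (∑ i ∈ Finset.range m, b i • s i) := by
      rw [hs, hrel, map_sum]
      apply Finset.sum_congr rfl
      intro i _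
      rw [map_smulₛₗ, hb, hs]
    have h2 := hφ h1
    have h3 := (linearIndependent_fin_succ'.mp hind).2
    apply h3
    have : s ((Fin.last m : Fin (m+1)) : ℕ) = s m := by simp
    rw [this, h2]
    apply Submodule.sum_mem
    intro i hi
    apply Submodule.smul_mem
    apply Submodule.subset_span
    exact ⟨⟨i, Finset.mem_range.mp hi⟩, by simp [Fin.init]⟩
  exact fixed_of_cyclic hσ hq φ s hs m c' hc0 hrel hind

theorem artin_schreier [IsAlgClosed K] (hσ : ∀ x, σ x = x ^ q) (hq : 2 ≤ q) (a : K) :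
    ∃ t : K, σ t - t = a := by
  have hdeg : (X ^ q - (X + C a) : K[X]).degree ≠ 0 := by
    have h1 : (X + C a : K[X]).degree < (X ^ q : K[X]).degree := by
      rw [degree_X_pow, degree_X_add_C]
      exact_mod_cast (by omega : 1 < q)
    rw [degree_sub_eq_left_of_degree_lt h1, degree_X_pow]
    intro h
    have h' : (q : WithBot ℕ) = ((0 : ℕ) : WithBot ℕ) := h
    have h'' : q = 0 := WithBot.coe_injective h'
    omega
  obtain ⟨t, ht⟩ := IsAlgClosed.exists_root _ hdeg
  refine ⟨t, ?_⟩
  rw [IsRoot.def] at ht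
  simp only [eval_sub, eval_pow, eval_X, eval_add, eval_C] at ht
  rw [hσ]
  linear_combination ht

theorem span_fixed_eq_top [IsAlgClosed K] [FiniteDimensional K V]
    (hσ : ∀ x, σ x = x ^ q) (hq : 2 ≤ q) (hsurj : Function.Surjective σ)
    (φ : V →ₛₗ[σ] V) (hφ : Function.Injective φ) :
    Submodule.span K {v : V | φ v = v} = ⊤ := by
  set W := Submodule.span K {v : V | φ v = v} with hWdef
  by_contra hne
  have hW1 : W ≤ W.comap φ := by
    rw [hWdef, Submodule.span_le]
    intro u hu
    have hu' : φ u = u := hu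
    change φ u ∈ W
    rw [hu']
    exact Submodule.subset_span hu
  have hW2' : ∀ u ∈ W, ∀ a : K, ∃ w ∈ W, φ w = a • u := by
    intro u hu
    induction hu using Submodule.span_induction with
    | mem u hu =>
      intro a
      obtain ⟨b, hb⟩ := hsurj a
      have hu' : φ u = u := hu
      exact ⟨b • u, W.smul_mem _ (Submodule.subset_span hu), by rw [map_smulₛₗ, hb, hu']⟩
    | zero => intro a; exact ⟨0, W.zero_mem, by simp⟩
    | add x y _ _ hx hy =>
      intro a
      obtain ⟨w1, hw1, h1⟩ := hx a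
      obtain ⟨w2, hw2, h2⟩ := hy a
      exact ⟨w1 + w2, W.add_mem hw1 hw2, by rw [map_add, h1, h2, smul_add]⟩
    | smul b x _ hx =>
      intro a
      obtain ⟨w1, hw1, h1⟩ := hx (a * b)
      exact ⟨w1, hw1, by rw [h1, mul_smul]⟩
  have hAS' : ∀ u ∈ W, ∀ a : K, ∃ w ∈ W, φ w - w = a • u := by
    intro u hu
    induction hu using Submodule.span_induction with
    | mem u hu =>
      intro a
      obtain ⟨t, ht⟩ := artin_schreier hσ hq a
      have hu' : φ u = u := hu
      exact ⟨t • u, W.smul_mem _ (Submodule.subset_span hu), by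
        rw [map_smulₛₗ, hu', ← sub_smul, ht]⟩
    | zero => intro a; exact ⟨0, W.zero_mem, by simp⟩
    | add x y _ _ hx hy =>
      intro a
      obtain ⟨w1, hw1, h1⟩ := hx a
      obtain ⟨w2, hw2, h2⟩ := hy a
      exact ⟨w1 + w2, W.add_mem hw1 hw2, by rw [map_add, smul_add, ← h1, ← h2]; abel⟩
    | smul b x _ hx =>
      intro a
      obtain ⟨w1, hw1, h1⟩ := hx (a * b)
      exact ⟨w1, hw1, by rw [h1, mul_smul]⟩
  set φq := W.mapQ W φ hW1 with hφq
  have hinj : Function.Injective φq := by
    rw [injective_iff_map_eq_zero]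
    intro x hx
    obtain ⟨v, rfl⟩ := Submodule.Quotient.mk_surjective W x
    rw [hφq, Submodule.mapQ_apply, Submodule.Quotient.mk_eq_zero] at hx
    obtain ⟨w, hwW, hw⟩ := hW2' _ hx 1
    rw [one_smul] at hw
    have := hφ hw
    rw [Submodule.Quotient.mk_eq_zero, ← this]
    exact hwW
  have : Nontrivial (V ⧸ W) := Submodule.Quotient.nontrivial_iff.mpr hne
  obtain ⟨vq, hvq0, hvq⟩ := exists_fixed hσ hq hsurj φq hinj
  obtain ⟨v, rfl⟩ := Submodule.Quotient.mk_surjective W vq
  have h1 : φ v - v ∈ W := by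
    rw [hφq, Submodule.mapQ_apply, Submodule.Quotient.eq] at hvq
    exact hvq
  obtain ⟨w, hwW, hw⟩ := hAS' _ (W.neg_mem h1) 1
  rw [one_smul] at hw
  have hfix : φ (v + w) = v + w := by
    rw [map_add]
    have : φ w = w + -(φ v - v) := by rw [← hw]; abel
    rw [this]; abel
  have hvw : v + w ∈ W := Submodule.subset_span hfix
  have hv : v ∈ W := by
    have := W.sub_mem hvw hwW
    simpa using this
  exact hvq0 ((Submodule.Quotient.mk_eq_zero W).mpr hv)

end Semilinear


section Final
open Matrix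
variable {K : Type*} [Field K]

/-- the semilinear map `v ↦ g (σ v)` -/
def phi (σ : K →+* K) {n : ℕ} (g : Matrix (Fin n) (Fin n) K) : (Fin n → K) →ₛₗ[σ] (Fin n → K) where
  toFun v := g *ᵥ (fun i => σ (v i))
  map_add' u v := by
    rw [← Matrix.mulVec_add]
    congr 1
    funext i
    simp
  map_smul' c v := by
    rw [← Matrix.mulVec_smul]
    congr 1
    funext i
    simp

theorem phi_apply (σ : K →+* K) {n : ℕ} (g : Matrix (Fin n) (Fin n) K) (v : Fin n → K) :
    phi σ g v = g *ᵥ (fun i => σ (v i)) := rfl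

theorem phi_injective (σ : K →+* K) {n : ℕ} (g : GL (Fin n) K) :
    Function.Injective (phi σ (g : Matrix (Fin n) (Fin n) K)) := by
  intro u v h
  rw [phi_apply, phi_apply] at h
  have h2 := congrArg (fun w => ((g⁻¹ : GL (Fin n) K) : Matrix (Fin n) (Fin n) K) *ᵥ w) h
  simp only [Matrix.mulVec_mulVec] at h2
  have h3 : ((g⁻¹ : GL (Fin n) K) : Matrix (Fin n) (Fin n) K) * (g : Matrix (Fin n) (Fin n) K) = 1 := by
    rw [← Units.val_mul, inv_mul_cancel, Units.val_one]
  rw [h3, Matrix.one_mulVec, Matrix.one_mulVec] at h2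
  funext i
  exact σ.injective (congrFun h2 i)

end Final

/-- The Lang–Steinberg Theorem for the general linear group. Let `K` be an algebraically closed field of prime characteristic `p`, let `q = p^f` with `f ≥ 1`, and let `σ` be the endomorphism of GL_n(K) raising every matrix entry to the `q`-th power. Then every element `g` of GL_n(K) can be written `g = x · σ(x)⁻¹` for some `x` in GL_n(K): the map `x ↦ x σ(x)⁻¹` is surjective. -/
theorem result {K : Type*} [Field K] [IsAlgClosed K] (p : ℕ) [Fact p.Prime] [CharP K p]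
    (f : ℕ) (hf : 1 ≤ f) (n : ℕ) (g : GL (Fin n) K) :
    ∃ x : GL (Fin n) K, g = x * (Matrix.GeneralLinearGroup.map (iterateFrobenius K p f) x)⁻¹ := by
  classical
  set σ : K →+* K := iterateFrobenius K p f with hσdef
  set q : ℕ := p ^ f with hqdef
  have hp : 2 ≤ p := (Fact.out : p.Prime).two_le
  have hq : 2 ≤ q := by
    calc 2 ≤ p := hp
      _ = p ^ 1 := (pow_one p).symm
      _ ≤ p ^ f := Nat.pow_le_pow_right (by omega) hf
  have hσ : ∀ x, σ x = x ^ q := fun x => iterateFrobenius_def (R := K) p f x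
  have hsurj : Function.Surjective σ := by
    intro a
    obtain ⟨z, hz⟩ := IsAlgClosed.exists_pow_nat_eq a (n := q) (by omega)
    exact ⟨z, by rw [hσ, hz]⟩
  set φ := phi σ (g : Matrix (Fin n) (Fin n) K) with hφdef
  have hφinj : Function.Injective φ := phi_injective σ g
  have htop := span_fixed_eq_top hσ hq hsurj φ hφinj
  obtain ⟨b, hbs, hbspan, hbli⟩ := exists_linearIndependent K {v : Fin n → K | φ v = v}
  have hbtop : ⊤ ≤ Submodule.span K (Set.range (Subtype.val : b → (Fin n → K))) := by
    rw [Subtype.range_coe, hbspan, htop]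
  set B := Module.Basis.mk hbli hbtop with hB
  haveI : Fintype b := FiniteDimensional.fintypeBasisIndex B
  have hcard : Fintype.card b = n := by
    rw [← Module.finrank_eq_card_basis B, Module.finrank_fin_fun]
  set e : b ≃ Fin n := Fintype.equivFinOfCardEq hcard with he
  set B' := B.reindex e with hB'
  have hfix : ∀ j, φ (B' j) = B' j := by
    intro j
    have : B' j = ((e.symm j : b) : Fin n → K) := by
      rw [hB', Module.Basis.reindex_apply, hB, Module.Basis.mk_apply]
    rw [this]
    exact hbs (e.symm j).2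
  set M : Matrix (Fin n) (Fin n) K := (Pi.basisFun K (Fin n)).toMatrix B' with hM
  have hMij : ∀ i j, M i j = B' j i := by
    intro i j
    rw [hM, Module.Basis.toMatrix_apply, Pi.basisFun_repr]
  haveI : Invertible M := (Pi.basisFun K (Fin n)).invertibleToMatrix B'
  refine ⟨unitOfInvertible M, ?_⟩
  rw [eq_mul_inv_iff_mul_eq]
  apply Units.ext
  rw [Units.val_mul]
  ext i j
  have h1 := congrFun (hfix j) i
  rw [hφdef, phi_apply] at h1
  rw [Matrix.mul_apply, val_unitOfInvertible, hMij, ← h1]
  simp only [Matrix.mulVec, dotProduct]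
  apply Finset.sum_congr rfl
  intro k _
  rw [Matrix.GeneralLinearGroup.map_apply, ← hMij]
  rfl

end Cfsg.Agent.S2665
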