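import Cfsg.Statements.S2666
-- import your own Cfsg.Agent.* helpers here

set_option autoImplicit false
open Cfsg

namespace Cfsg.Agent.S2666


theorem pow_fix {X : Type*} [Group X] (σ : MulAut X) (h : X) (hh : σ h = h) (e : ℕ) :
    (σ ^ e) h = h := by
  induction e with
  | zero => simp
  | succ n ih => rw [pow_succ, MulAut.mul_apply, hh, ih]

theorem norm_eq {X : Type*} [Group X] (σ : MulAut X) (a : X) (d : ℕ) :
    ((List.range d).map (fun i => (σ ^ i) (a * (σ a)⁻¹))).prod = a * ((σ ^ d) a)⁻¹ := by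
  induction d with
  | zero => simp
  | succ n ih =>
    rw [List.range_succ, List.map_append, List.prod_append, ih]
    simp only [List.map_cons, List.map_nil, List.prod_cons, List.prod_nil, mul_one, map_mul, map_inv]
    have : (σ ^ n) (σ a) = (σ ^ (n + 1)) a := by
      rw [pow_succ, MulAut.mul_apply]
    rw [this]; group

theorem comm_pow {X : Type*} [Group X] (σ : MulAut X) (e : ℕ) (a : X) :
    σ ((σ ^ e) a) = (σ ^ e) (σ a) := by
  rw [← MulAut.mul_apply, ← MulAut.mul_apply, ← pow_succ, ← pow_succ']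

theorem x_fix {X : Type*} [Group X] (σ : MulAut X) (e : ℕ) (a : X)
    (hg : (σ ^ e) (a * (σ a)⁻¹) = a * (σ a)⁻¹) : σ (((σ ^ e) a)⁻¹ * a) = ((σ ^ e) a)⁻¹ * a := by
  have hcomm := comm_pow σ e a
  simp only [map_mul, map_inv] at hg ⊢
  rw [hcomm]
  have h1 : (σ ^ e) (σ a) = σ a * a⁻¹ * (σ ^ e) a := by
    have : ((σ ^ e) (σ a))⁻¹ = ((σ ^ e) a)⁻¹ * (a * (σ a)⁻¹) := by
      rw [← hg]; group
    calc (σ ^ e) (σ a) = (((σ ^ e) (σ a))⁻¹)⁻¹ := by group
      _ = (((σ ^ e) a)⁻¹ * (a * (σ a)⁻¹))⁻¹ := by rw [this]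
      _ = σ a * a⁻¹ * (σ ^ e) a := by group
  rw [h1]; group

/-- Shintani descent, in an abstract form. Let `σ` be an automorphism of a group `X` such that the maps `a ↦ a·σ(a)⁻¹` and `a ↦ a·σᵉ(a)⁻¹` are surjective on `X` (the Lang–Steinberg property, which holds when `X` is a connected algebraic group and `σ` a Steinberg endomorphism), where `e ≥ 1`. Write `G` for the subgroup of fixed points of `σᵉ` and `H` for the subgroup of fixed points of `σ`. The `G`-conjugacy classes in the coset `G σ` of the semidirect product of `G` by `σ` correspond to the orbits of `G` on itself under twisted conjugation `g ↦ k g σ(k)⁻¹`, and the `e`-th power of `g σ` has `G`-part the norm `g σ(g) ⋯ σ^(e-1)(g)`. For `g` in `G` and any `a` with `g = a σ(a)⁻¹`, put `x = σᵉ(a)⁻¹ a`. Then: (1) `x` lies in `H`, and `a⁻¹ · (g σ(g) ⋯ σ^(e-1)(g)) · a = x`; (2) for `g, g'` in `G` with such elements `a, b` and `x, x'`, the elements `g, g'` are twisted-conjugate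 under `G` if and only if `x, x'` are conjugate in `H`; (3) every element of `H` arises as such an `x`. So `g ↦ x` induces a well-defined bijection from the twisted `G`-classes of `G` onto the conjugacy classes of `H` (the Shintani map). -/
theorem result {X : Type*} [Group X] (σ : MulAut X) (e : ℕ) (he : 1 ≤ e)
    (hL : ∀ g : X, ∃ a : X, g = a * (σ a)⁻¹) (hLe : ∀ g : X, ∃ a : X, g = a * ((σ ^ e) a)⁻¹) :
    (∀ g ∈ (MulEquiv.toMonoidHom (σ ^ e)).eqLocus (MonoidHom.id X), ∀ a : X, g = a * (σ a)⁻¹ →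
        ((σ ^ e) a)⁻¹ * a ∈ (MulEquiv.toMonoidHom σ).eqLocus (MonoidHom.id X) ∧
          a⁻¹ * ((List.range e).map (fun i => (σ ^ i) g)).prod * a = ((σ ^ e) a)⁻¹ * a) ∧
    (∀ g ∈ (MulEquiv.toMonoidHom (σ ^ e)).eqLocus (MonoidHom.id X), ∀ g' ∈ (MulEquiv.toMonoidHom (σ ^ e)).eqLocus (MonoidHom.id X), ∀ a b : X,
        g = a * (σ a)⁻¹ → g' = b * (σ b)⁻¹ →
          ((∃ k ∈ (MulEquiv.toMonoidHom (σ ^ e)).eqLocus (MonoidHom.id X), g' = k * g * (σ k)⁻¹) ↔
            (∃ h ∈ (MulEquiv.toMonoidHom σ).eqLocus (MonoidHom.id X), ((σ ^ e) b)⁻¹ * b = h * (((σ ^ e) a)⁻¹ * a) * h⁻¹))) ∧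
    (∀ x ∈ (MulEquiv.toMonoidHom σ).eqLocus (MonoidHom.id X), ∃ g ∈ (MulEquiv.toMonoidHom (σ ^ e)).eqLocus (MonoidHom.id X), ∃ a : X,
        g = a * (σ a)⁻¹ ∧ ((σ ^ e) a)⁻¹ * a = x) := by
  have mem1 : ∀ (τ : MulAut X) (y : X), y ∈ (MulEquiv.toMonoidHom τ).eqLocus (MonoidHom.id X) ↔ τ y = y :=
    fun τ y => Iff.rfl
  simp only [mem1]
  refine ⟨?_, ?_, ?_⟩
  · intro g hg a ha
    subst ha
    refine ⟨x_fix σ e a hg, ?_⟩
    rw [norm_eq]; group
  · intro g hg g' hg' a b ha hb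
    subst ha hb
    have hxa := x_fix σ e a hg
    have hxb := x_fix σ e b hg'
    constructor
    · rintro ⟨k, hk, hkg⟩
      -- h' = (k a)⁻¹ b is σ-fixed
      have hfix : σ ((k * a)⁻¹ * b) = (k * a)⁻¹ * b := by
        simp only [map_mul, map_inv, mul_inv_rev]
        have h1 : σ b = σ k * σ a * (a⁻¹ * k⁻¹ * b) := by
          calc σ b = (b * (σ b)⁻¹)⁻¹ * b := by group
            _ = (k * (a * (σ a)⁻¹) * (σ k)⁻¹)⁻¹ * b := by rw [hkg]
            _ = σ k * σ a * (a⁻¹ * k⁻¹ * b) := by group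
        rw [h1]; group
      refine ⟨((k * a)⁻¹ * b)⁻¹, ?_, ?_⟩
      · rw [map_inv, hfix]
      · have hfe := pow_fix σ _ hfix e
        have hb' : b = k * a * ((k * a)⁻¹ * b) := by group
        obtain ⟨h', hh'⟩ : ∃ h', h' = (k * a)⁻¹ * b := ⟨_, rfl⟩
        rw [← hh'] at hfe hb' ⊢
        rw [hb']
        simp only [map_mul, map_inv, hfe, hk]
        group
    · rintro ⟨h, hh, hx⟩
      have hhe := pow_fix σ _ hh e
      refine ⟨b * h * a⁻¹, ?_, ?_⟩
      · simp only [map_mul, map_inv, hhe]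
        have : (σ ^ e) b = b * h * a⁻¹ * (σ ^ e) a * h⁻¹ := by
          have h2 : ((σ ^ e) b)⁻¹ = h * (((σ ^ e) a)⁻¹ * a) * h⁻¹ * b⁻¹ := by
            rw [← hx]; group
          calc (σ ^ e) b = (((σ ^ e) b)⁻¹)⁻¹ := by group
            _ = (h * (((σ ^ e) a)⁻¹ * a) * h⁻¹ * b⁻¹)⁻¹ := by rw [h2]
            _ = b * h * a⁻¹ * (σ ^ e) a * h⁻¹ := by group
        rw [this]; group
      · simp only [map_mul, map_inv, hh]
        group
  · intro x hx
    obtain ⟨a', ha'⟩ := hLe x⁻¹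
    have hxe := pow_fix σ _ hx e
    have hx' : x = (σ ^ e) a' * a'⁻¹ := by
      calc x = (x⁻¹)⁻¹ := by group
        _ = (a' * ((σ ^ e) a')⁻¹)⁻¹ := by rw [ha']
        _ = (σ ^ e) a' * a'⁻¹ := by group
    have hea : (σ ^ e) a' = x * a' := by rw [hx']; group
    refine ⟨a'⁻¹ * (σ a'⁻¹)⁻¹, ?_, a'⁻¹, rfl, ?_⟩
    · simp only [map_mul, map_inv, inv_inv]
      rw [← comm_pow, hea, map_mul, hx]; group
    · simp only [map_inv, inv_inv]
      rw [hx']

end Cfsg.Agent.S2666
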