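import Cfsg.Statements.S2669
-- import your own Cfsg.Agent.* helpers here

set_option autoImplicit false
open Cfsg

namespace Cfsg.Agent.S2669


theorem pow_fix {X : Type*} [Group X] (σ : MulAut X) (h : X) (hh : σ h = h) (e : ℕ) :
    (σ ^ e) h = h := by
  induction e with
  | zero => simp
  | succ n ih => rw [pow_succ, MulAut.mul_apply, hh, ih]

theorem pow_mem {X : Type*} [Group X] (σ : MulAut X) (Y : Subgroup X) (hY : ∀ y : X, y ∈ Y ↔ σ y ∈ Y)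
    (e : ℕ) (y : X) (hy : y ∈ Y) : (σ ^ e) y ∈ Y := by
  induction e with
  | zero => simpa using hy
  | succ n ih => rw [pow_succ', MulAut.mul_apply]; exact (hY _).mp ih

theorem memA {X : Type*} [Group X] (σ : MulAut X) (a k y : X)
    (hfix : σ (a⁻¹ * k * y) = a⁻¹ * k * y) :
    k⁻¹ * (a * (σ a)⁻¹) * σ k = y * (σ y)⁻¹ := by
  simp only [map_mul, map_inv] at hfix
  have : σ k = σ a * (a⁻¹ * k * y) * (σ y)⁻¹ := by rw [← hfix]; group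
  rw [this]; group

theorem fixT {X : Type*} [Group X] (σ : MulAut X) (a k y : X)
    (h : k⁻¹ * (a * (σ a)⁻¹) * σ k = y * (σ y)⁻¹) : σ (a⁻¹ * k * y) = a⁻¹ * k * y := by
  simp only [map_mul, map_inv]
  have : σ k = σ a * a⁻¹ * k * (y * (σ y)⁻¹) := by rw [← h]; group
  rw [this]; group

theorem lang_eq {X : Type*} [Group X] (σ : MulAut X) (u v : X)
    (h : u * (σ u)⁻¹ = v * (σ v)⁻¹) : σ (u⁻¹ * v) = u⁻¹ * v := by
  simp only [map_mul, map_inv]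
  have : (σ u)⁻¹ = u⁻¹ * (v * (σ v)⁻¹) := by rw [← h]; group
  rw [this]; group

/-- The set of triples, encoded as pairs `(k, y)` with `h = a⁻¹ k y`. -/
def T {X : Type*} [Group X] (σ : MulAut X) (e : ℕ) (Y : Subgroup X) (a : X) : Type _ :=
  {p : X × X // (σ ^ e) p.1 = p.1 ∧ p.2 ∈ Y ∧ σ (a⁻¹ * p.1 * p.2) = a⁻¹ * p.1 * p.2}

section
variable {X : Type*} [Group X] (σ : MulAut X) (e : ℕ) (Y : Subgroup X)
  (hY : ∀ y : X, y ∈ Y ↔ σ y ∈ Y)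
  (hYL : ∀ y ∈ Y, ∃ a ∈ Y, y = a * (σ a)⁻¹) (hYLe : ∀ y ∈ Y, ∃ a ∈ Y, y = a * ((σ ^ e) a)⁻¹)
  (a : X)

include hY hYL in
theorem card_T_left :
    Nat.card (T σ e Y a) =
    Nat.card {k : ↥((MulEquiv.toMonoidHom (σ ^ e)).eqLocus (MonoidHom.id X)) // (k : X)⁻¹ * (a * (σ a)⁻¹) * σ k ∈ Y} *
        Nat.card ↥(Y ⊓ (MulEquiv.toMonoidHom σ).eqLocus (MonoidHom.id X)) := by
  classical
  rw [← Nat.card_prod]
  apply Nat.card_congr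
  have hch : ∀ k : {k : ↥((MulEquiv.toMonoidHom (σ ^ e)).eqLocus (MonoidHom.id X)) // (k : X)⁻¹ * (a * (σ a)⁻¹) * σ k ∈ Y},
      ∃ y ∈ Y, ((k : ↥((MulEquiv.toMonoidHom (σ ^ e)).eqLocus (MonoidHom.id X))) : X)⁻¹ * (a * (σ a)⁻¹) * σ (k : ↥((MulEquiv.toMonoidHom (σ ^ e)).eqLocus (MonoidHom.id X))) = y * (σ y)⁻¹ :=
    fun k => hYL _ k.2
  choose yk hykY hyk using hch
  have hA : ∀ p : T σ e Y a, (p.1.1)⁻¹ * (a * (σ a)⁻¹) * σ p.1.1 ∈ Y := by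
    intro p
    rw [memA σ a p.1.1 p.1.2 p.2.2.2]
    exact Y.mul_mem p.2.2.1 (Y.inv_mem ((hY _).mp p.2.2.1))
  refine
  { toFun := fun p => (⟨⟨p.1.1, p.2.1⟩, hA p⟩, ⟨(yk ⟨⟨p.1.1, p.2.1⟩, hA p⟩)⁻¹ * p.1.2, ?_⟩)
    invFun := fun q => ⟨(q.1.1.1, yk q.1 * q.2.1), ?_⟩
    left_inv := ?_
    right_inv := ?_ }
  · refine ⟨Y.mul_mem (Y.inv_mem (hykY _)) p.2.2.1, ?_⟩
    change σ _ = _
    apply lang_eq
    rw [← hyk]
    exact memA σ a p.1.1 p.1.2 p.2.2.2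
  · refine ⟨q.1.1.2, Y.mul_mem (hykY _) q.2.2.1, ?_⟩
    have h1 := fixT σ a _ _ (hyk q.1)
    have h2 : σ q.2.1 = q.2.1 := q.2.2.2
    change σ (a⁻¹ * (q.1.1 : X) * (yk q.1 * q.2.1)) = a⁻¹ * (q.1.1 : X) * (yk q.1 * q.2.1)
    rw [← mul_assoc, map_mul, h1, h2]
  · intro p
    apply Subtype.ext
    apply Prod.ext
    · rfl
    · simp
  · intro q
    apply Prod.ext
    · rfl
    · apply Subtype.ext
      exact inv_mul_cancel_left (yk q.1) _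

theorem memB {X : Type*} [Group X] (τ : MulAut X) (a k y : X) (hk : τ k = k)
    (hfix : τ (a⁻¹ * k * y) = a⁻¹ * k * y) :
    (a⁻¹ * k * y)⁻¹ * ((τ a)⁻¹ * a) * (a⁻¹ * k * y) = (τ y)⁻¹ * y := by
  simp only [map_mul, map_inv, hk] at hfix
  have : (τ a)⁻¹ = a⁻¹ * k * y * (τ y)⁻¹ * k⁻¹ := by rw [← hfix]; group
  rw [this]; group

theorem lang_eq' {X : Type*} [Group X] (τ : MulAut X) (u v : X)
    (h : (τ u)⁻¹ * u = (τ v)⁻¹ * v) : τ (u * v⁻¹) = u * v⁻¹ := by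
  simp only [map_mul, map_inv]
  have : τ u = u * v⁻¹ * τ v := by
    calc τ u = (((τ u)⁻¹ * u) * u⁻¹)⁻¹ := by group
      _ = (((τ v)⁻¹ * v) * u⁻¹)⁻¹ := by rw [h]
      _ = u * v⁻¹ * τ v := by group
  rw [this]; group

theorem fixK {X : Type*} [Group X] (τ : MulAut X) (a h z y : X) (hh : τ h = h) (hz : τ z = z)
    (hy : h⁻¹ * ((τ a)⁻¹ * a) * h = (τ y)⁻¹ * y) :
    τ (a * h * (z * y)⁻¹) = a * h * (z * y)⁻¹ := by
  simp only [map_mul, map_inv, mul_inv_rev, hh, hz]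
  have : (τ y)⁻¹ = h⁻¹ * ((τ a)⁻¹ * a) * h * y⁻¹ := by rw [hy]; group
  rw [this]; group

include hY hYLe in
theorem card_T_right :
    Nat.card (T σ e Y a) =
    Nat.card {h : ↥((MulEquiv.toMonoidHom σ).eqLocus (MonoidHom.id X)) // (h : X)⁻¹ * (((σ ^ e) a)⁻¹ * a) * h ∈ Y} *
        Nat.card ↥(Y ⊓ (MulEquiv.toMonoidHom (σ ^ e)).eqLocus (MonoidHom.id X)) := by
  classical
  rw [← Nat.card_prod]
  apply Nat.card_congr
  have hch : ∀ h : {h : ↥((MulEquiv.toMonoidHom σ).eqLocus (MonoidHom.id X)) // (h : X)⁻¹ * (((σ ^ e) a)⁻¹ * a) * h ∈ Y},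
      ∃ y ∈ Y, ((h : ↥((MulEquiv.toMonoidHom σ).eqLocus (MonoidHom.id X))) : X)⁻¹ * (((σ ^ e) a)⁻¹ * a) * (h : ↥((MulEquiv.toMonoidHom σ).eqLocus (MonoidHom.id X))) = ((σ ^ e) y)⁻¹ * y := by
    intro h
    obtain ⟨b, hbY, hb⟩ := hYLe _ (Y.inv_mem h.2)
    refine ⟨b⁻¹, Y.inv_mem hbY, ?_⟩
    rw [map_inv, inv_inv, ← inv_inv (_ * _ * _), hb]
    group
  choose yh hyhY hyh using hch
  have hB : ∀ p : T σ e Y a, (a⁻¹ * p.1.1 * p.1.2)⁻¹ * (((σ ^ e) a)⁻¹ * a) * (a⁻¹ * p.1.1 * p.1.2) ∈ Y := by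
    intro p
    rw [memB (σ ^ e) a p.1.1 p.1.2 p.2.1 (pow_fix σ _ p.2.2.2 e)]
    exact Y.mul_mem (Y.inv_mem (pow_mem σ Y hY e _ p.2.2.1)) p.2.2.1
  refine
  { toFun := fun p => (⟨⟨a⁻¹ * p.1.1 * p.1.2, p.2.2.2⟩, hB p⟩,
      ⟨p.1.2 * (yh ⟨⟨a⁻¹ * p.1.1 * p.1.2, p.2.2.2⟩, hB p⟩)⁻¹, ?_⟩)
    invFun := fun q => ⟨(a * q.1.1.1 * (q.2.1 * yh q.1)⁻¹, q.2.1 * yh q.1), ?_⟩
    left_inv := ?_
    right_inv := ?_ }
  · refine ⟨Y.mul_mem p.2.2.1 (Y.inv_mem (hyhY _)), ?_⟩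
    change (σ ^ e) _ = _
    apply lang_eq'
    rw [← hyh]
    exact (memB (σ ^ e) a p.1.1 p.1.2 p.2.1 (pow_fix σ _ p.2.2.2 e)).symm
  · refine ⟨?_, Y.mul_mem q.2.2.1 (hyhY _), ?_⟩
    · exact fixK (σ ^ e) a _ _ _ (pow_fix σ _ q.1.1.2 e) q.2.2.2 (hyh q.1)
    · have : a⁻¹ * (a * (q.1.1.1 : X) * (q.2.1 * yh q.1)⁻¹) * (q.2.1 * yh q.1) = q.1.1.1 := by group
      change σ (a⁻¹ * (a * (q.1.1.1 : X) * (q.2.1 * yh q.1)⁻¹) * (q.2.1 * yh q.1)) = a⁻¹ * (a * (q.1.1.1 : X) * (q.2.1 * yh q.1)⁻¹) * (q.2.1 * yh q.1)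
      rw [this]
      exact q.1.1.2
  · intro p
    apply Subtype.ext
    apply Prod.ext
    · change a * (a⁻¹ * p.1.1 * p.1.2) * (p.1.2 * (yh _)⁻¹ * yh _)⁻¹ = p.1.1
      group
    · change p.1.2 * (yh _)⁻¹ * yh _ = p.1.2
      group
  · intro q
    have hq : (⟨⟨a⁻¹ * (a * (q.1.1.1 : X) * (q.2.1 * yh q.1)⁻¹) * (q.2.1 * yh q.1), by
        have : a⁻¹ * (a * (q.1.1.1 : X) * (q.2.1 * yh q.1)⁻¹) * (q.2.1 * yh q.1) = q.1.1.1 := by group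
        rw [this]; exact q.1.1.2⟩, by
        have : a⁻¹ * (a * (q.1.1.1 : X) * (q.2.1 * yh q.1)⁻¹) * (q.2.1 * yh q.1) = q.1.1.1 := by group
        simp only [this]; exact q.1.2⟩ :
        {h : ↥((MulEquiv.toMonoidHom σ).eqLocus (MonoidHom.id X)) // (h : X)⁻¹ * (((σ ^ e) a)⁻¹ * a) * h ∈ Y}) = q.1 := by
      apply Subtype.ext; apply Subtype.ext
      change a⁻¹ * (a * (q.1.1.1 : X) * (q.2.1 * yh q.1)⁻¹) * (q.2.1 * yh q.1) = q.1.1.1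
      group
    apply Prod.ext
    · exact hq
    · apply Subtype.ext
      change q.2.1 * yh q.1 * (yh _)⁻¹ = q.2.1
      rw [hq]
      group

end

/-- Shintani descent preserves numbers of fixed points on coset spaces (abstract form). Let `σ` be an automorphism of a group `X` and `e ≥ 1`; write `G` for the fixed points of `σᵉ` and `H` for the fixed points of `σ`, and assume `G` is finite. Let `Y` be a `σ`-stable subgroup of `X` on which the maps `a ↦ a σ(a)⁻¹` and `a ↦ a σᵉ(a)⁻¹` are surjective (as for a closed connected `σ`-stable subgroup of an algebraic group). Let `g ∈ G`, let `a ∈ X` satisfy `g = a σ(a)⁻¹` and put `x = σᵉ(a)⁻¹ a` (the Shintani image, an element of `H`). The element `g σ` of the semidirect product acts on the cosets of `Y ∩ G` in `G` by `k (Y ∩ G) ↦ g σ(k) (Y ∩ G)`, fixing that coset exactly when `k⁻¹ g σ(k) ∈ Y`; and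 `x` fixes the coset `h (Y ∩ H)` of `H` exactly when `h⁻¹ x h ∈ Y`. Then the two numbers of fixed cosets agree; in cross-multiplied form, `#{k ∈ G : k⁻¹ g σ(k) ∈ Y} · |Y ∩ H| = #{h ∈ H : h⁻¹ x h ∈ Y} · |Y ∩ G|`. -/
theorem result {X : Type*} [Group X] (σ : MulAut X) (e : ℕ) (he : 1 ≤ e)
    [Finite ↥((MulEquiv.toMonoidHom (σ ^ e)).eqLocus (MonoidHom.id X))]
    (Y : Subgroup X) (hY : ∀ y : X, y ∈ Y ↔ σ y ∈ Y)
    (hYL : ∀ y ∈ Y, ∃ a ∈ Y, y = a * (σ a)⁻¹) (hYLe : ∀ y ∈ Y, ∃ a ∈ Y, y = a * ((σ ^ e) a)⁻¹)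
    (g : X) (hg : g ∈ (MulEquiv.toMonoidHom (σ ^ e)).eqLocus (MonoidHom.id X)) (a : X) (ha : g = a * (σ a)⁻¹) :
    Nat.card {k : ↥((MulEquiv.toMonoidHom (σ ^ e)).eqLocus (MonoidHom.id X)) // (k : X)⁻¹ * g * σ k ∈ Y} *
        Nat.card ↥(Y ⊓ (MulEquiv.toMonoidHom σ).eqLocus (MonoidHom.id X)) =
      Nat.card {h : ↥((MulEquiv.toMonoidHom σ).eqLocus (MonoidHom.id X)) // (h : X)⁻¹ * (((σ ^ e) a)⁻¹ * a) * h ∈ Y} *
        Nat.card ↥(Y ⊓ (MulEquiv.toMonoidHom (σ ^ e)).eqLocus (MonoidHom.id X)) := by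
  subst ha
  rw [← card_T_left σ e Y hY hYL a, ← card_T_right σ e Y hY hYLe a]

end Cfsg.Agent.S2669
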