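import Cfsg.Statements.S2671
import Mathlib
import Cfsg.Agent.Lib.Helper44.TwInv
import Cfsg.Agent.Lib.Helper44.CountInv
import Cfsg.Agent.S2587
import Cfsg.Agent.S2588

set_option autoImplicit false
set_option linter.unusedSectionVars false
open Cfsg

namespace Cfsg.Agent.S2671

open Polynomial Module Matrix
open Cfsg.Agent.Helper42.SemiConj Cfsg.Agent.Helper44.StarInv Cfsg.Agent.Helper44.TwInv
open Cfsg.Agent.Helper44.CountInv

universe u

section classes

variable {K : Type u} [Field K] [Fintype K] {p : ℕ} [Fact p.Prime] [CharP K p]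

/-- the `tw`-symmetric multiplicity functions of total dimension `n` -/
def MU (σ : K →+* K) (n r : ℕ) : Type u :=
  {mm : ↥(powFactors K r) → ℕ // (∑ f : ↥(powFactors K r), f.1.natDegree * mm f = n) ∧
    ∀ f g : ↥(powFactors K r), g.1 = tw σ r f.1 → mm g = mm f}

theorem card_classes_pow_GU (q : ℕ) (hK : Fintype.card K = q ^ 2) (σ : K →+* K)
    (hσq : ∀ x, σ x = x ^ q) (hσ : Function.Bijective σ) (hσσ : ∀ x, σ (σ x) = x)
    (n r : ℕ) (hr : r.Prime) (hrp : r ≠ p) :
    Nat.card {C : ConjClasses ↥(Cfsg.GU n K q) //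
      ∃ g : ↥(Cfsg.GU n K q), ConjClasses.mk g = C ∧ g ^ r = 1} = Nat.card (MU σ n r) := by
  classical
  set S := powFactors K r with hS
  have hirr := powFactors_irr (F := K) r
  have hcop := powFactors_coprime (F := K) r hr hrp
  have hfun : (fun x : K => x ^ q) = ⇑σ := by funext x; exact (hσq x).symm
  have hlift : ∀ C : {C : ConjClasses ↥(Cfsg.GU n K q) //
      ∃ g : ↥(Cfsg.GU n K q), ConjClasses.mk g = C ∧ g ^ r = 1},
      ∃ g : ↥(Cfsg.GU n K q), ConjClasses.mk g = C.1 ∧ g ^ r = 1 := fun C => C.2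
  choose rep hrep1 hrep2 using hlift
  have hvalGL : ∀ g : ↥(Cfsg.GU n K q), g ^ r = 1 → (g : GL (Fin n) K) ^ r = 1 := by
    intro g hg
    have := congrArg Subtype.val hg
    rw [Subgroup.coe_pow] at this
    exact this
  have hval : ∀ g : ↥(Cfsg.GU n K q), g ^ r = 1 →
      ((g : GL (Fin n) K) : Matrix (Fin n) (Fin n) K) ^ r = 1 := by
    intro g hg
    have := congrArg Units.val (hvalGL g hg)
    rw [Units.val_pow_eq_pow_val, Units.val_one] at this
    exact this
  have hkill : ∀ g : ↥(Cfsg.GU n K q), g ^ r = 1 →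
      aeval ((g : GL (Fin n) K) : Matrix (Fin n) (Fin n) K) (∏ f ∈ S, f) = 0 := by
    intro g hg
    rw [hS, powFactors_prod r hr hrp, map_sub, map_pow, aeval_X, map_one, hval g hg, sub_self]
  have hdegpos : ∀ f ∈ S, 0 < f.natDegree := fun f hf =>
    Polynomial.natDegree_pos_iff_degree_pos.mpr (Polynomial.degree_pos_of_irreducible (hirr f hf))
  have hsum : ∀ g : ↥(Cfsg.GU n K q), g ^ r = 1 →
      ∑ f : ↥S, f.1.natDegree *
        (kd ((g : GL (Fin n) K) : Matrix (Fin n) (Fin n) K) f.1 / f.1.natDegree) = n := by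
    intro g hg
    have h1 := sum_kd S hcop ((g : GL (Fin n) K) : Matrix (Fin n) (Fin n) K) (hkill g hg)
    rw [← Finset.sum_coe_sort S] at h1
    refine Eq.trans ?_ h1
    apply Finset.sum_congr rfl
    intro f _
    exact Nat.mul_div_cancel' (natDegree_dvd_kd _ f.1 (hirr f.1 f.2))
  have hsymm0 : ∀ g : ↥(Cfsg.GU n K q), g ^ r = 1 → ∀ h ∈ S,
      kd ((g : GL (Fin n) K) : Matrix (Fin n) (Fin n) K) (tw σ r h) =
        kd ((g : GL (Fin n) K) : Matrix (Fin n) (Fin n) K) h := by
    intro g hg
    have h1 : ∃ B : ↥(Cfsg.GU n K q), IsConj (g : GL (Fin n) K) (B : GL (Fin n) K) :=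
      ⟨g, IsConj.refl _⟩
    have h2 := (Cfsg.Agent.S2588.result hK (g : GL (Fin n) K)).mp h1
    rw [hfun] at h2
    exact (isConj_twist_iff σ hσ hσσ r hr hrp _ (hval g hg)).mp h2
  have hsymm : ∀ g : ↥(Cfsg.GU n K q), g ^ r = 1 → ∀ f h : ↥S, h.1 = tw σ r f.1 →
      kd ((g : GL (Fin n) K) : Matrix (Fin n) (Fin n) K) h.1 / h.1.natDegree =
        kd ((g : GL (Fin n) K) : Matrix (Fin n) (Fin n) K) f.1 / f.1.natDegree := by
    intro g hg f h hfh
    rw [hfh, hsymm0 g hg f.1 f.2, natDegree_tw σ r hr hrp f.1 f.2]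
  have hbij : Function.Bijective (fun C => (⟨fun f : ↥S =>
      kd (((rep C : ↥(Cfsg.GU n K q)) : GL (Fin n) K) : Matrix (Fin n) (Fin n) K) f.1 /
        f.1.natDegree, hsum (rep C) (hrep2 C), hsymm (rep C) (hrep2 C)⟩ : MU σ n r)) := by
    constructor
    · intro C C' h
      have h1 : ∀ f ∈ S,
          kd (((rep C : ↥(Cfsg.GU n K q)) : GL (Fin n) K) : Matrix (Fin n) (Fin n) K) f =
          kd (((rep C' : ↥(Cfsg.GU n K q)) : GL (Fin n) K) : Matrix (Fin n) (Fin n) K) f := by
        intro f hf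
        have h2 := congrFun (congrArg Subtype.val h) ⟨f, hf⟩
        simp only at h2
        rw [← Nat.mul_div_cancel' (natDegree_dvd_kd _ f (hirr f hf)),
          ← Nat.mul_div_cancel' (natDegree_dvd_kd
            (((rep C' : ↥(Cfsg.GU n K q)) : GL (Fin n) K) : Matrix (Fin n) (Fin n) K) f
            (hirr f hf)), h2]
      obtain ⟨P, hPc⟩ := exists_GL_conj_of_kd_eq S hirr hcop _ _ (hkill _ (hrep2 C))
        (hkill _ (hrep2 C')) h1
      have hc : IsConj ((rep C : ↥(Cfsg.GU n K q)) : GL (Fin n) K)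
          ((rep C' : ↥(Cfsg.GU n K q)) : GL (Fin n) K) := isConj_of_GL_conj _ _ P hPc
      have hc' : IsConj (rep C) (rep C') := (Cfsg.Agent.S2587.result hK (rep C) (rep C')).mpr hc
      apply Subtype.ext
      rw [← hrep1 C, ← hrep1 C']
      exact ConjClasses.mk_eq_mk_iff_isConj.mpr hc'
    · rintro ⟨mm, hm1, hm2⟩
      let mm' : K[X] → ℕ := fun f => if h : f ∈ S then mm ⟨f, h⟩ else 0
      have hmm' : ∀ f : ↥S, mm' f.1 = mm f := by
        intro f
        simp only [mm', f.2, dite_true]
        rfl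
      have hsum' : ∑ f ∈ S, f.natDegree * mm' f = n := by
        rw [← hm1, ← Finset.sum_coe_sort S]
        apply Finset.sum_congr rfl
        intro f _
        rw [hmm']
      have hsym' : ∀ f ∈ S, mm' (tw σ r f) = mm' f := by
        intro f hfS
        have hsS : tw σ r f ∈ S := tw_mem σ hσ r hr hrp f hfS
        have := hm2 ⟨f, hfS⟩ ⟨tw σ r f, hsS⟩ rfl
        rw [← hmm' ⟨tw σ r f, hsS⟩, ← hmm' ⟨f, hfS⟩] at this
        exact this
      obtain ⟨A, hA0, hAk⟩ := exists_matrix_of_kd (n := n) S hirr hcop mm' hsum'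
      have hAr : A ^ r = 1 := by
        rw [hS, powFactors_prod r hr hrp, aeval_pow_sub_one, sub_eq_zero] at hA0
        exact hA0
      let g0 := glOfPow A r hr.pos hAr
      have hg0 : g0 ^ r = 1 := by
        rw [pow_eq_one_iff_aeval, aeval_pow_sub_one, sub_eq_zero]; exact hAr
      have hconj : IsConj A (((A.map σ)ᵀ)⁻¹) := by
        rw [isConj_twist_iff σ hσ hσσ r hr hrp A hAr]
        intro h hh
        show kd A (tw σ r h) = kd A h
        rw [hAk _ (tw_mem σ hσ r hr hrp h hh), hAk h hh, natDegree_tw σ r hr hrp h hh,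
          hsym' h hh]
      obtain ⟨B, hB⟩ := (Cfsg.Agent.S2588.result hK g0).mpr (by rw [hfun]; exact hconj)
      have hBr : B ^ r = 1 := by
        apply Subtype.ext
        rw [Subgroup.coe_pow, Subgroup.coe_one]
        obtain ⟨c, hc⟩ := isConj_iff.mp hB
        rw [← hc, conj_pow, hg0, mul_one, mul_inv_cancel]
      refine ⟨⟨ConjClasses.mk B, B, rfl, hBr⟩, ?_⟩
      apply Subtype.ext
      funext f
      show kd (((rep _ : ↥(Cfsg.GU n K q)) : GL (Fin n) K) : Matrix (Fin n) (Fin n) K) f.1 /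
        f.1.natDegree = mm f
      have hc : IsConj (rep ⟨ConjClasses.mk B, B, rfl, hBr⟩) B :=
        ConjClasses.mk_eq_mk_iff_isConj.mp (hrep1 _)
      have hcGL := (Cfsg.Agent.S2587.result hK _ B).mp hc
      rw [kd_eq_of_isConj _ _ hcGL, ← kd_eq_of_isConj _ _ hB]
      show kd A f.1 / f.1.natDegree = mm f
      rw [hAk f.1 f.2, Nat.mul_div_cancel_left _ (hdegpos f.1 f.2), hmm']
  exact Nat.card_eq_of_bijective _ hbij

end classes

section final

variable {K : Type u} [Field K] [Fintype K] {p : ℕ} [Fact p.Prime] [CharP K p]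

open Classical in
lemma powdef (r : ℕ) : powFactors K r = insert (X - 1 : K[X]) (cycFactors K r) := by
  unfold powFactors
  congr

lemma x0deg : (X - 1 : K[X]).natDegree = 1 := by
  have h1 : (X - 1 : K[X]) = X - C 1 := by rw [map_one]
  rw [h1, natDegree_X_sub_C]

open Classical in
theorem card_MU (a n r i b s : ℕ) (hK : Fintype.card K = (p ^ a) ^ 2) (hr : r.Prime)
    (hr2 : r ≠ 2) (hrp : r ≠ p) (hi : i = orderOf ((p ^ a : ℕ) : ZMod r))
    (hb : b = if Odd i then i else i / 2) (hs : s * b = r - 1) :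
    Nat.card (MU (iterateFrobenius K p a) n r) =
      if i % 4 = 2 then Nat.choose (2 * n / i + s) s else
        Nat.choose (n / (2 * b) + s / 2) (s / 2) := by
  have hσ := frob_bij (K := K) (p := p) a
  have hσσ := frob_sq (K := K) a hK
  have hbpos : 0 < b := by
    rcases Nat.eq_zero_or_pos b with h | h
    · rw [h, mul_zero] at hs
      have := hr.two_le
      omega
    · exact h
  have hb' : orderOf ((Fintype.card K : ℕ) : ZMod r) = b := by
    rw [hK, Nat.cast_pow, orderOf_pow' _ (by norm_num : (2 : ℕ) ≠ 0), ← hi, hb]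
    split_ifs with hodd
    · have : Nat.gcd i 2 = 1 := Nat.coprime_two_right.mpr hodd
      rw [this, Nat.div_one]
    · have hev : Even i := Nat.not_odd_iff_even.mp hodd
      have : Nat.gcd i 2 = 2 := Nat.gcd_eq_right (even_iff_two_dvd.mp hev)
      rw [this]
  have hcard : (cycFactors K r).card = s := by
    have h1 := cyc_card (F := K) r hr hrp
    rw [hb', ← hs] at h1
    exact Nat.eq_of_mul_eq_mul_right hbpos h1
  have hdeg : ∀ f ∈ cycFactors K r, f.natDegree = b :=
    fun f hf => by rw [cyc_natDegree r hr hrp f hf, hb']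
  have hx0 := X_sub_one_notMem_cyc (F := K) r hr hrp
  split_ifs with h4
  · have hfix : ∀ f ∈ cycFactors K r, tw (iterateFrobenius K p a) r f = f :=
      fun f hf => tw_eq_self_of_mod4 a r hK hr hrp f hf (by rw [← hi]; exact h4)
    have key : ∀ S : Finset K[X], S = insert (X - 1 : K[X]) (cycFactors K r) →
        Nat.card {mm : ↥S → ℕ // (∑ f : ↥S, f.1.natDegree * mm f = n) ∧
          ∀ f g : ↥S, g.1 = tw (iterateFrobenius K p a) r f.1 → mm g = mm f} =
          (n / b + (cycFactors K r).card).choose (cycFactors K r).card := by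
      intro S hS
      subst hS
      exact card_symm_fixed (X - 1 : K[X]) (cycFactors K r) hx0
        (tw (iterateFrobenius K p a) r) (tw_X_sub_one _ r) hfix Polynomial.natDegree x0deg b
        hbpos hdeg n
    have h5 := key (powFactors K r) (powdef r)
    rw [hcard] at h5
    have hib : i = 2 * b := by
      have hev : ¬ Odd i := by
        intro h
        obtain ⟨k, hk⟩ := h
        omega
      rw [if_neg hev] at hb
      omega
    have h6 : 2 * n / i = n / b := by
      rw [hib]; exact Nat.mul_div_mul_left n b (by norm_num)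
    rw [h6]
    exact h5
  · have hne : ∀ f ∈ cycFactors K r, tw (iterateFrobenius K p a) r f ≠ f :=
      fun f hf h => h4 (by rw [hi]; exact mod4_of_tw_eq_self a r hK hr hr2 hrp f hf h)
    have key : ∀ S : Finset K[X], S = insert (X - 1 : K[X]) (cycFactors K r) →
        Nat.card {mm : ↥S → ℕ // (∑ f : ↥S, f.1.natDegree * mm f = n) ∧
          ∀ f g : ↥S, g.1 = tw (iterateFrobenius K p a) r f.1 → mm g = mm f} =
          (n / (2 * b) + (cycFactors K r).card / 2).choose ((cycFactors K r).card / 2) := by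
      intro S hS
      subst hS
      exact card_symm_free (X - 1 : K[X]) (cycFactors K r) hx0
        (tw (iterateFrobenius K p a) r) (tw_X_sub_one _ r)
        (tw_mem_cyc _ hσ hσσ r hr hrp)
        (fun f hf => tw_tw _ hσ hσσ r hr hrp f (mem_pow_of_mem_cyc r f hf)) hne
        Polynomial.natDegree x0deg b hbpos hdeg n
    have h5 := key (powFactors K r) (powdef r)
    rw [hcard] at h5
    exact h5

end final

/-- Number of conjugacy classes of elements of odd prime order r in the general unitary group GU_n(q), for r not dividing q(q + 1): let i be the multiplicative order of q modulo r, b = i if i is odd and b = i/2 if i is even, and s = (r − 1)/b. If i ≢ 2 (mod 4) the eigenvalue orbits pair off into dual pairs of totally isotropic blocks and there are C(⌊n/(2b)⌋ + s/2, s/2) − 1 classes; if i ≡ 2 (mod 4) each orbit gives a non-degenerate block of dimension i/2 and there are C(⌊2n/i⌋ + s, s) − 1 classes. -/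
theorem result {K : Type*} [Field K] [Fintype K] {p q n r i b s : ℕ} [Fact p.Prime] [CharP K p] (hK : Fintype.card K = q ^ 2) (hr : r.Prime) (hr2 : r ≠ 2) (hrp : r ≠ p) (hi : i = orderOf (q : ZMod r)) (hi2 : i ≠ 2) (hb : b = if Odd i then i else i / 2) (hs : s * b = r - 1) : Nat.card {C : ConjClasses ↥(Cfsg.GU n K q) // ∃ g : ↥(Cfsg.GU n K q), ConjClasses.mk g = C ∧ orderOf g = r} = if i % 4 = 2 then Nat.choose (2 * n / i + s) s - 1 else Nat.choose (n / (2 * b) + s / 2) (s / 2) - 1 := by
  classical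
  have hp : p.Prime := Fact.out
  obtain ⟨k, _, hk⟩ := FiniteField.card K p
  have hdvd : q ∣ p ^ (k : ℕ) := by
    rw [← hk, hK, pow_two]
    exact Dvd.intro _ rfl
  obtain ⟨a, _, ha⟩ := (Nat.dvd_prime_pow hp).1 hdvd
  subst ha
  have hσq : ∀ x : K, iterateFrobenius K p a x = x ^ (p ^ a) := fun x => iterateFrobenius_def p a x
  have h1 := card_classes_orderOf (G := ↥(Cfsg.GU n K (p ^ a))) r hr
  have h2 := card_classes_pow_GU (p ^ a) hK (iterateFrobenius K p a) hσq (frob_bij a)
    (frob_sq a hK) n r hr hrp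
  rw [h2, card_MU a n r i b s hK hr hr2 hrp hi hb hs] at h1
  split_ifs with h4
  · rw [if_pos h4] at h1
    omega
  · rw [if_neg h4] at h1
    omega

end Cfsg.Agent.S2671
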