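import Cfsg.Statements.S2672
import Mathlib
import Cfsg.Agent.Lib.Helper44.PGUg

set_option autoImplicit false
open Cfsg

namespace Cfsg.Agent.S2672

/-- Number of conjugacy classes of elements of odd prime order r in PGU_n(q) = GU_n(q)/scalars (n ≥ 3) when r divides q + 1: as in the linear case with q − 1 replaced by q + 1, the classes correspond to the rotation orbits on r-tuples of eigenvalue multiplicities summing to n with every entry < n, plus r − 1 further classes when r divides n; in all (C(n+r−1, r−1) − r − [r ∣ n])/r + r·[r ∣ n]. -/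
theorem result {K : Type*} [Field K] [Fintype K] {q n r : ℕ} (hK : Fintype.card K = q ^ 2) (hn : 3 ≤ n) (hr : r.Prime) (hr2 : r ≠ 2) (hrq : r ∣ q + 1) : Nat.card {C : ConjClasses (↥(Cfsg.GU n K q) ⧸ Subgroup.center ↥(Cfsg.GU n K q)) // ∃ g : ↥(Cfsg.GU n K q) ⧸ Subgroup.center ↥(Cfsg.GU n K q), ConjClasses.mk g = C ∧ orderOf g = r} = (Nat.choose (n + r - 1) (r - 1) - r - (if r ∣ n then 1 else 0)) / r + r * (if r ∣ n then 1 else 0) := by
  classical
  obtain ⟨p, hp⟩ := CharP.exists K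
  have hpp : Fact p.Prime := ⟨CharP.char_is_prime K p⟩
  have hpr : p.Prime := hpp.out
  obtain ⟨k, _, hk⟩ := FiniteField.card K p
  have hdvd : q ∣ p ^ (k : ℕ) := by
    rw [← hk, hK, pow_two]
    exact Dvd.intro _ rfl
  obtain ⟨a, _, ha⟩ := (Nat.dvd_prime_pow hpr).1 hdvd
  subst ha
  have ha1 : 1 ≤ a := by
    rcases Nat.eq_zero_or_pos a with h0 | h0
    · subst h0
      have := Fintype.one_lt_card (α := K)
      rw [hK] at this
      norm_num at this
    · exact h0
  have hrp : r ≠ p := by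
    rintro rfl
    have h1 : r ∣ r ^ a := dvd_pow_self r (by omega)
    have h2 : r ∣ 1 := (Nat.dvd_add_right h1).mp hrq
    exact hr.one_lt.ne' (Nat.dvd_one.mp h2)
  have h1 := Cfsg.Agent.Helper44.PGU.card_split_classes (G := ↥(Cfsg.GU n K (p ^ a))) r hr
  have h2 := Cfsg.Agent.Helper44.PGU.card_classesA (K := K) (p := p) (n := n) a r hK (by omega) hr
    hr2 hrp hrq
  have h3 := Cfsg.Agent.Helper44.PGU.card_classesB (K := K) (p := p) (n := n) a r hK (by omega) hr
    hr2 hrq
  have hc : r + 1 ≤ (n + r - 1).choose (r - 1) := by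
    have hr3 := hr.two_le
    have h4 : (r + 1).choose (r - 1) ≤ (n + r - 1).choose (r - 1) :=
      Nat.choose_le_choose _ (by omega)
    have h5 : (r + 1).choose (r - 1) = (r + 1).choose 2 := by
      have := Nat.choose_symm (n := r + 1) (k := 2) (by omega)
      rw [← this]
      congr 1
    have h6 : (r + 1).choose 2 = r.choose 1 + r.choose 2 := Nat.choose_succ_succ' r 1
    have h7 : 0 < r.choose 2 := Nat.choose_pos hr3
    rw [Nat.choose_one_right] at h6
    omega
  generalize Nat.card {C : ConjClasses (↥(Cfsg.GU n K (p ^ a)) ⧸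
    Subgroup.center ↥(Cfsg.GU n K (p ^ a))) // ∃ g : ↥(Cfsg.GU n K (p ^ a)) ⧸
    Subgroup.center ↥(Cfsg.GU n K (p ^ a)), ConjClasses.mk g = C ∧ orderOf g = r} = T at h1 ⊢
  generalize Nat.card {C : ConjClasses (↥(Cfsg.GU n K (p ^ a)) ⧸
    Subgroup.center ↥(Cfsg.GU n K (p ^ a))) // ∃ g : ↥(Cfsg.GU n K (p ^ a)),
    ConjClasses.mk (g : ↥(Cfsg.GU n K (p ^ a)) ⧸ Subgroup.center ↥(Cfsg.GU n K (p ^ a))) = C ∧
    g ^ r = 1} = Aa at h1 h2
  generalize Nat.card {C : ConjClasses (↥(Cfsg.GU n K (p ^ a)) ⧸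
    Subgroup.center ↥(Cfsg.GU n K (p ^ a))) // Cfsg.Agent.Helper44.PGU.ExtraClass r C} = D
    at h1 h3
  generalize (n + r - 1).choose (r - 1) = c at h2 hc ⊢
  have hr3 := hr.two_le
  by_cases hrn : r ∣ n
  · rw [if_pos hrn] at h2 h3 ⊢
    rw [mul_one] at h2 h3 ⊢
    have hA2 : 2 ≤ Aa := by
      by_contra hlt
      have h4 : Aa * r ≤ 1 * r := Nat.mul_le_mul_right r (by omega)
      omega
    obtain ⟨k', rfl⟩ : ∃ k', Aa = k' + 2 := ⟨Aa - 2, by omega⟩
    have h5 : c - r - 1 = k' * r := by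
      have h6 : (k' + 2) * r = k' * r + 2 * r := by ring
      rw [h6] at h2
      generalize k' * r = X at h2 ⊢
      omega
    rw [h5, Nat.mul_div_cancel _ hr.pos]
    omega
  · rw [if_neg hrn] at h2 h3 ⊢
    rw [mul_zero, add_zero] at h2
    rw [mul_zero] at h3
    rw [mul_zero, add_zero, Nat.sub_zero]
    have hA1 : 1 ≤ Aa := by
      by_contra hlt
      have h4 : Aa = 0 := by omega
      rw [h4, zero_mul] at h2
      omega
    obtain ⟨k', rfl⟩ : ∃ k', Aa = k' + 1 := ⟨Aa - 1, by omega⟩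
    have h5 : c - r = k' * r := by
      have h6 : (k' + 1) * r = k' * r + r := by ring
      rw [h6] at h2
      generalize k' * r = X at h2 ⊢
      omega
    rw [h5, Nat.mul_div_cancel _ hr.pos]
    omega

end Cfsg.Agent.S2672
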