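import Cfsg.Statements.S2673
import Mathlib
import Cfsg.Agent.Lib.Helper44.OOddEx

set_option autoImplicit false
open Cfsg

namespace Cfsg.Agent.S2673

/-- Number of conjugacy classes of elements of odd prime order r ≠ p in the orthogonal group O_(2m+1)(q) of x_0² + Σ x_j y_j, q odd: with i the multiplicative order of q mod r and t = (r − 1)/i, there are C(⌊m/i⌋ + t/2, t/2) − 1 classes if i is odd (dual pairs of totally singular i-blocks) and C(⌊(2m+1)/i⌋ + t, t) − 1 if i is even (elliptic i-blocks). -/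
theorem result {F : Type*} [Field F] [Fintype F] {p q : ℕ} [Fact p.Prime] [CharP F p] (hF : Fintype.card F = q) (hq : Odd q) (m r i t : ℕ) (hr : r.Prime) (hr2 : r ≠ 2) (hrp : r ≠ p) (hi : i = orderOf (q : ZMod r)) (ht : t * i = r - 1) : Nat.card {C : ConjClasses ↥(Cfsg.isometryGroup F (Cfsg.quadFormOdd m F)) // ∃ g : ↥(Cfsg.isometryGroup F (Cfsg.quadFormOdd m F)), ConjClasses.mk g = C ∧ orderOf g = r} = if Odd i then Nat.choose (m / i + t / 2) (t / 2) - 1 else Nat.choose ((2 * m + 1) / i + t) t - 1 := by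
  subst hF
  have h2 : (2 : F) ≠ 0 := by
    intro h
    have h' : ((2 : ℕ) : F) = 0 := by exact_mod_cast h
    rw [CharP.cast_eq_zero_iff F p 2] at h'
    have hp2 : p = 2 := (Nat.prime_dvd_prime_iff_eq Fact.out Nat.prime_two).1 h'
    obtain ⟨n, _, hn⟩ := FiniteField.card F p
    rw [hn, hp2] at hq
    exact (Nat.not_even_iff_odd.2 hq) (Nat.even_pow.2 ⟨even_two, n.ne_zero⟩)
  have hcard : Fintype.card (Unit ⊕ (Fin m ⊕ Fin m)) = 2 * m + 1 := by
    simp only [Fintype.card_sum, Fintype.card_fin, Fintype.card_unit]; omega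
  have key := Cfsg.Agent.Helper44.OBlocks.card_classes_odd (F := F) (p := p)
    (Cfsg.quadFormOdd m F) (Cfsg.Agent.Helper43.stdOdd F m)
    (Cfsg.Agent.Helper43.coe_stdOdd F m) (Cfsg.Agent.Helper43.stdOdd_nondegenerate F m h2)
    (2 * m + 1) hcard r i t hr hr2 hrp
    (fun mm hsym hsum => Cfsg.Agent.Helper44.OBlocks.exists_Oodd_mm h2 r hr hr2 hrp m mm hsym hsum)
    hi ht
  have hip := Cfsg.Agent.Helper44.OBlocks.ipos r i t hr ht
  unfold Cfsg.Agent.Helper44.OBlocks.total at key
  by_cases hodd : Odd i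
  · simp only [if_pos hodd] at key ⊢
    rw [← Nat.div_div_eq_div_mul, show (2 * m + 1) / 2 = m by omega] at key
    omega
  · simp only [if_neg hodd] at key ⊢
    omega

end Cfsg.Agent.S2673
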