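import Cfsg.Statements.S2675
import Mathlib
import Cfsg.Agent.Lib.Helper44.OMain
import Cfsg.Agent.Lib.Helper43.OrthMinus

set_option autoImplicit false
open Cfsg

namespace Cfsg.Agent.S2675

/-- Number of conjugacy classes of elements of odd prime order r ≠ p in the orthogonal group O⁻_2m(q) of an elliptic form Σ_(j<m−1) x_j y_j + z₁² + a z₁z₂ + c z₂² (binary part anisotropic, m ≥ 1): with i the multiplicative order of q mod r and t = (r − 1)/i — if i is odd, C(⌊m/i⌋ + t/2, t/2) − 1 minus, when i divides m, the C(m/i + t/2 − 1, t/2 − 1) tuples filling the whole space (dual pairs of totally singular blocks fill a hyperbolic space); if i is even, C(⌊2m/i⌋ + t, t) − 1 minus, when i divides 2m with even quotient, the C(2m/i + t − 1, t − 1) tuples filling the whole space with an even number of elliptic blocks. -/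
theorem result {F : Type*} [Field F] [Fintype F] {p q : ℕ} [Fact p.Prime] [CharP F p] (hF : Fintype.card F = q) (m r i t : ℕ) (hm : 1 ≤ m) (a c : F) (hac : ∀ z₁ z₂ : F, z₁ ^ 2 + a * z₁ * z₂ + c * z₂ ^ 2 = 0 → z₁ = 0 ∧ z₂ = 0) (hr : r.Prime) (hr2 : r ≠ 2) (hrp : r ≠ p) (hi : i = orderOf (q : ZMod r)) (ht : t * i = r - 1) : Nat.card {C : ConjClasses ↥(Cfsg.isometryGroup F (Cfsg.quadFormMinus (m - 1) F a c)) // ∃ g : ↥(Cfsg.isometryGroup F (Cfsg.quadFormMinus (m - 1) F a c)), ConjClasses.mk g = C ∧ orderOf g = r} = if Odd i then Nat.choose (m / i + t / 2) (t / 2) - 1 - (if i ∣ m then Nat.choose (m / i + t / 2 - 1) (t / 2 - 1) else 0) else Nat.choose (2 * m / i + t) t - 1 - (if i ∣ 2 * m ∧ Even (2 * m / i) then Nat.choose (2 * m / i + t - 1) (t - 1) else 0) := by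
  subst hF
  have hm1 : m - 1 + 1 = m := by omega
  have hcard : Fintype.card ((Fin (m - 1) ⊕ Fin (m - 1)) ⊕ Fin 2) = 2 * m := by
    simp only [Fintype.card_sum, Fintype.card_fin]; omega
  have hT : Cfsg.Agent.Helper44.QF.HasType (Cfsg.quadFormMinus (m - 1) F a c) m (-1) := by
    have := Cfsg.Agent.Helper44.QF.hasType_minus (m - 1) a c hac
    rwa [hm1] at this
  have key := Cfsg.Agent.Helper44.OBlocks.card_classes_typed (F := F) (p := p)
    (Cfsg.quadFormMinus (m - 1) F a c) (Cfsg.Agent.Helper43.stdMinus F (m - 1) a c)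
    (Cfsg.Agent.Helper43.coe_stdMinus F (m - 1) a c)
    (Cfsg.Agent.Helper43.stdMinus_nondegenerate (m - 1) hac) m hcard hm (-1)
    (Or.inr rfl) hT r i t hr hr2 hrp
    (fun d h => Cfsg.Agent.Helper44.OBlocks.exists_Ominus r hr d m a c hac h) hi ht
  have hip := Cfsg.Agent.Helper44.OBlocks.ipos r i t hr ht
  unfold Cfsg.Agent.Helper44.OBlocks.total Cfsg.Agent.Helper44.OBlocks.badCount
    Cfsg.Agent.Helper44.OBlocks.zeroCount Cfsg.Agent.Helper44.OBlocks.sgn at key
  by_cases hodd : Odd i
  · have hne : ¬ Even i := by rwa [Nat.not_even_iff_odd]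
    have hs : (if Even i ∧ Odd (2 * m / i) then (-1 : ℤ) else 1) = 1 := if_neg (fun h => hne h.1)
    rw [hs, if_neg (show ¬ ((1 : ℤ) = -1) by norm_num)] at key
    simp only [if_pos hodd, if_true] at key ⊢
    rw [Nat.mul_div_mul_left _ _ (by norm_num : 0 < 2)] at key
    by_cases hd : i ∣ m
    · rw [if_pos hd]
      rw [if_pos (Nat.mul_dvd_mul_left 2 hd)] at key
      omega
    · rw [if_neg hd]
      rw [if_neg (fun h => hd ((Nat.mul_dvd_mul_iff_left (by norm_num : 0 < 2)).1 h))] at key
      omega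
  · have he : Even i := by rwa [Nat.not_odd_iff_even] at hodd
    simp only [if_neg hodd] at key ⊢
    by_cases h2 : Odd (2 * m / i)
    · have hs : (if Even i ∧ Odd (2 * m / i) then (-1 : ℤ) else 1) = -1 := if_pos ⟨he, h2⟩
      have h2' : ¬ Even (2 * m / i) := by rwa [Nat.not_even_iff_odd]
      rw [hs] at key
      simp only [if_true] at key
      rw [if_neg (fun h => h2' h.2)]
      omega
    · have hs : (if Even i ∧ Odd (2 * m / i) then (-1 : ℤ) else 1) = 1 := if_neg (fun h => h2 h.2)
      have h2' : Even (2 * m / i) := by rwa [Nat.not_odd_iff_even] at h2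
      rw [hs, if_neg (show ¬ ((1 : ℤ) = -1) by norm_num)] at key
      by_cases hd : i ∣ 2 * m
      · rw [if_pos ⟨hd, h2'⟩]
        rw [if_pos hd] at key
        omega
      · rw [if_neg (fun h => hd h.1)]
        rw [if_neg hd] at key
        omega

end Cfsg.Agent.S2675
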