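import Cfsg.Statements.S2677
import Mathlib
import Cfsg.Agent.S2636
import Cfsg.Agent.Lib.Lead.UnitaryGroupCard
-- import your own Cfsg.Agent.* helpers here

set_option autoImplicit false
open Cfsg

namespace Cfsg.Agent.S2677

section G
open Cfsg.Agent.Lead Cfsg.Agent.Helper19
variable {F : Type*} [Field F] [Fintype F] {q : ℕ} {n : ℕ}

/-- Gram entries of the columns of `A` for the form `Σ u_k v_k^q`. -/
def gram (q : ℕ) (A : Matrix (Fin n) (Fin n) F) (i j : Fin n) : F := ∑ k, A k i * (A k j) ^ q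

theorem mem_GU_iff_gram (hF : Fintype.card F = q ^ 2) (g : GL (Fin n) F) :
    g ∈ Cfsg.GU n F q ↔
      ∀ i j, gram q (g : Matrix (Fin n) (Fin n) F) i j = if i = j then 1 else 0 := by
  have hq : q ≠ 0 := by have := herm_two_le hF; omega
  constructor
  · intro hg i j
    have h := (mem_GU_iff g).mp hg (Pi.single i 1) (Pi.single j 1)
    rw [hermForm_single_single hq, Matrix.mulVec_single_one, Matrix.mulVec_single_one] at h
    rw [← h]
    rfl
  · intro h
    let x : Fin n → Fin n → F := fun i k => (g : Matrix (Fin n) (Fin n) F) k i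
    have hx : IsOrthoFam (stdHerm hF n) n x := fun i j => h i j
    have hcol : colMat x = (g : Matrix (Fin n) (Fin n) F) := by
      ext a b
      rfl
    rw [mem_GU_iff]
    intro u v
    have := colMat_preserves hF x hx u v
    rwa [hcol] at this

theorem gram_self_pow (hF : Fintype.card F = q ^ 2) (A : Matrix (Fin n) (Fin n) F) (i : Fin n) :
    (gram q A i i) ^ q = gram q A i i := by
  have h := (stdHerm hF n).conj (fun k => A k i) (fun k => A k i)
  exact h.symm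

theorem exists_norm_eq (hF : Fintype.card F = q ^ 2) {y : F} (hy0 : y ≠ 0) (hy : y ^ q = y) :
    ∃ x : F, x ^ (q + 1) = y := by
  classical
  have h := (herm_sandwich hF).2 y (mem_hermFixed.mpr ⟨hy0, hy⟩)
  have hpos : 0 < (Finset.univ.filter (fun x : F => x ^ (q + 1) = y)).card := by
    rw [h]; omega
  obtain ⟨x, hx⟩ := Finset.card_pos.mp hpos
  exact ⟨x, (Finset.mem_filter.mp hx).2⟩

end G

section H
open Cfsg.Agent.Lead Cfsg.Agent.Helper19 Cfsg.Agent.S2636
variable {K : Type*} [Field K] [Fintype K] (K₀ : Subfield K) [Fintype K₀] {q q₀ n : ℕ}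

theorem gram_Psi (hpow : ∀ x : K₀, (x : K) ^ q = (x : K) ^ q₀) (p : Kˣ × GL (Fin n) K₀)
    (i j : Fin n) :
    gram q ((Psi K₀ n p : GL (Fin n) K) : Matrix (Fin n) (Fin n) K) i j =
      (p.1 : K) ^ (q + 1) *
        ((gram q₀ ((p.2 : GL (Fin n) K₀) : Matrix (Fin n) (Fin n) K₀) i j : K₀) : K) := by
  unfold gram
  rw [AddSubmonoidClass.coe_finsetSum, Finset.mul_sum]
  apply Finset.sum_congr rfl
  intro k _
  rw [Psi_apply, Psi_apply, mul_pow, hpow]
  push_cast
  ring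

/-- the group of elements of norm one -/
def U (K : Type*) [Field K] (q : ℕ) : Subgroup Kˣ := (powMonoidHom (q + 1)).ker

theorem mem_U (d : Kˣ) : d ∈ U K q ↔ (d : K) ^ (q + 1) = 1 := by
  rw [U, MonoidHom.mem_ker, powMonoidHom_apply, Units.ext_iff, Units.val_pow_eq_pow_val,
    Units.val_one]

theorem card_U (hK : Fintype.card K = q ^ 2) : Nat.card (U K q) = q + 1 := by
  rw [← card_norm_one_units hK]
  apply Nat.card_congr
  apply Equiv.subtypeEquivRight
  intro d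
  rw [U, MonoidHom.mem_ker, powMonoidHom_apply]

/-- the map `(d, h) ↦ d • h` on `U × GU_n(K₀)` -/
def phi (q q₀ n : ℕ) : ((U K q).prod (Cfsg.GU n K₀ q₀)) →* GL (Fin n) K :=
  (Psi K₀ n).comp (Subgroup.subtype _)

theorem phi_apply (p : ((U K q).prod (Cfsg.GU n K₀ q₀))) :
    phi K₀ q q₀ n p = Psi K₀ n p.1 := rfl

theorem scalar_mem_GU (hK₀ : Fintype.card K₀ = q₀ ^ 2) (e : (K₀)ˣ) (he : (e : K₀) ^ (q₀ + 1) = 1) :
    scalarGL n e ∈ Cfsg.GU n K₀ q₀ := by
  apply diag_mem_GU (fun _ => (e : K₀)) (fun _ => he)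
  rw [scalarGL_val]
  rfl

theorem theta_mem (hK₀ : Fintype.card K₀ = q₀ ^ 2) (hpow : ∀ x : K₀, (x : K) ^ q = (x : K) ^ q₀)
    (e : (K₀)ˣ) (he : (e : K₀) ^ (q₀ + 1) = 1) :
    theta K₀ n e ∈ (U K q).prod (Cfsg.GU n K₀ q₀) := by
  rw [Subgroup.mem_prod]
  constructor
  · rw [mem_U, theta_fst, inv_pow, pow_succ, hpow, ← pow_succ]
    have : ((e : K₀) : K) ^ (q₀ + 1) = (((e : K₀) ^ (q₀ + 1) : K₀) : K) := by push_cast; rfl
    rw [this, he]
    simp
  · exact scalar_mem_GU K₀ hK₀ e he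

end H

section I
open Cfsg.Agent.Lead Cfsg.Agent.Helper19 Cfsg.Agent.S2636
variable {K : Type*} [Field K] [Fintype K] (σ : K ≃+* K) [Fintype (fixF σ)] {q q₀ n : ℕ}

theorem mem_range_phi (hn : 1 ≤ n) (hK : Fintype.card K = q ^ 2)
    (hK₀ : Fintype.card (fixF σ) = q₀ ^ 2)
    (hpow : ∀ x : fixF σ, (x : K) ^ q = (x : K) ^ q₀) (g : GL (Fin n) K) :
    g ∈ (phi (fixF σ) q q₀ n).range ↔
      g ∈ Cfsg.GU n K q ∧ ∃ c : K, c ≠ 0 ∧
        (g : Matrix (Fin n) (Fin n) K).map σ = c • (g : Matrix (Fin n) (Fin n) K) := by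
  constructor
  · rintro ⟨⟨p, hp⟩, rfl⟩
    rw [Subgroup.mem_prod] at hp
    rw [phi_apply]
    refine ⟨?_, (mem_range_Psi σ n hn _).mp ⟨p, rfl⟩⟩
    rw [mem_GU_iff_gram hK]
    intro i j
    rw [gram_Psi (fixF σ) hpow, (mem_U _).mp hp.1, (mem_GU_iff_gram hK₀ p.2).mp hp.2 i j, one_mul]
    split_ifs <;> simp
  · rintro ⟨hg, c, hc, hgc⟩
    obtain ⟨p, rfl⟩ := (mem_range_Psi σ n hn g).mpr ⟨c, hc, hgc⟩
    have hgram := (mem_GU_iff_gram hK _).mp hg
    simp only [gram_Psi (fixF σ) hpow] at hgram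
    set lam : K := (p.1 : K) ^ (q + 1) with hlam
    set i0 : Fin n := ⟨0, hn⟩ with hi0
    set μ : fixF σ := gram q₀ ((p.2 : GL (Fin n) (fixF σ)) : Matrix (Fin n) (Fin n) (fixF σ)) i0 i0
      with hμ
    have h00 : lam * (μ : K) = 1 := by
      have := hgram i0 i0
      rwa [if_pos rfl] at this
    have hμ0 : μ ≠ 0 := by
      intro h0
      rw [h0] at h00
      simp at h00
    have hlam0 : lam ≠ 0 := by
      intro h0
      rw [h0] at h00
      simp at h00
    have hμq : μ ^ q₀ = μ := gram_self_pow hK₀ _ i0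
    obtain ⟨e₀, he₀⟩ := exists_norm_eq hK₀ hμ0 hμq
    have he₀0 : e₀ ≠ 0 := by
      intro h0
      rw [h0, zero_pow (by omega)] at he₀
      exact hμ0 he₀.symm
    -- all Gram entries
    have hG : ∀ i j, gram q₀ ((p.2 : GL (Fin n) (fixF σ)) : Matrix (Fin n) (Fin n) (fixF σ)) i j
        = if i = j then μ else 0 := by
      intro i j
      have h1 := hgram i j
      apply Subtype.ext
      apply mul_left_cancel₀ hlam0
      rw [h1]
      split_ifs
      · rw [h00]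
      · simp
    set e : (fixF σ)ˣ := Units.mk0 e₀ he₀0 with he
    set p' : Kˣ × GL (Fin n) (fixF σ) := theta (fixF σ) n e⁻¹ * p with hp'
    have hPsi : Psi (fixF σ) n p' = Psi (fixF σ) n p := by
      rw [hp', map_mul]
      have : theta (fixF σ) n e⁻¹ ∈ (Psi (fixF σ) n).ker := by
        rw [ker_Psi (fixF σ) n hn]
        exact ⟨_, rfl⟩
      rw [MonoidHom.mem_ker.mp this, one_mul]
    have hmem : p' ∈ (U K q).prod (Cfsg.GU n (fixF σ) q₀) := by
      rw [Subgroup.mem_prod]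
      constructor
      · rw [mem_U, hp', Prod.fst_mul, Units.val_mul, theta_fst, mul_pow, ← hlam]
        have h1 : (((e⁻¹ : (fixF σ)ˣ) : fixF σ) : K)⁻¹ = ((e₀ : fixF σ) : K) := by
          rw [he, Units.val_inv_eq_inv_val, Units.val_mk0]
          push_cast
          rw [inv_inv]
        rw [h1, pow_succ, hpow, ← pow_succ]
        have h2 : ((e₀ : fixF σ) : K) ^ (q₀ + 1) = ((e₀ ^ (q₀ + 1) : fixF σ) : K) := by
          push_cast; rfl
        rw [h2, he₀, mul_comm, h00]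
      · rw [mem_GU_iff_gram hK₀]
        intro i j
        have hent : ∀ a b, ((p'.2 : GL (Fin n) (fixF σ)) : Matrix (Fin n) (Fin n) (fixF σ)) a b
            = e₀⁻¹ * ((p.2 : GL (Fin n) (fixF σ)) : Matrix (Fin n) (Fin n) (fixF σ)) a b := by
          intro a b
          rw [hp', Prod.snd_mul, Units.val_mul]
          change (((scalarGL n e⁻¹ : GL (Fin n) (fixF σ)) : Matrix (Fin n) (Fin n) (fixF σ)) *
            ((p.2 : GL (Fin n) (fixF σ)) : Matrix (Fin n) (Fin n) (fixF σ))) a b = _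
          rw [scalarGL_val, Matrix.scalar_apply, Matrix.diagonal_mul, he,
            Units.val_inv_eq_inv_val, Units.val_mk0]
        have hgr : gram q₀ ((p'.2 : GL (Fin n) (fixF σ)) : Matrix (Fin n) (Fin n) (fixF σ)) i j
            = (e₀⁻¹) ^ (q₀ + 1) *
              gram q₀ ((p.2 : GL (Fin n) (fixF σ)) : Matrix (Fin n) (Fin n) (fixF σ)) i j := by
          unfold gram
          rw [Finset.mul_sum]
          apply Finset.sum_congr rfl
          intro k _
          rw [hent, hent]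
          ring
        rw [hgr, hG, inv_pow, he₀]
        split_ifs
        · exact inv_mul_cancel₀ hμ0
        · simp
    exact ⟨⟨p', hmem⟩, hPsi⟩

theorem card_ker_phi (hn : 1 ≤ n)
    (hK₀ : Fintype.card (fixF σ) = q₀ ^ 2)
    (hpow : ∀ x : fixF σ, (x : K) ^ q = (x : K) ^ q₀) :
    Nat.card (phi (fixF σ) q q₀ n).ker = q₀ + 1 := by
  rw [← card_norm_one_units hK₀]
  symm
  let f : {l : (fixF σ)ˣ // l ^ (q₀ + 1) = 1} → (phi (fixF σ) q q₀ n).ker := fun l =>
    ⟨⟨theta (fixF σ) n l.1, theta_mem (fixF σ) hK₀ hpow l.1 (by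
        have := congrArg Units.val l.2
        rwa [Units.val_pow_eq_pow_val] at this)⟩, by
      rw [MonoidHom.mem_ker, phi_apply]
      have : theta (fixF σ) n l.1 ∈ (Psi (fixF σ) n).ker := by
        rw [ker_Psi (fixF σ) n hn]
        exact ⟨_, rfl⟩
      exact MonoidHom.mem_ker.mp this⟩
  apply Nat.card_congr (Equiv.ofBijective f ⟨?_, ?_⟩)
  · intro l l' h
    apply Subtype.ext
    apply theta_injective (fixF σ) n hn
    exact congrArg (fun z : (phi (fixF σ) q q₀ n).ker => (z.1.1 : Kˣ × GL (Fin n) (fixF σ))) h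
  · rintro ⟨⟨p, hp⟩, hker⟩
    rw [MonoidHom.mem_ker, phi_apply] at hker
    have hk : p ∈ (Psi (fixF σ) n).ker := MonoidHom.mem_ker.mpr hker
    rw [ker_Psi (fixF σ) n hn] at hk
    obtain ⟨e, rfl⟩ := hk
    rw [Subgroup.mem_prod] at hp
    have h1 := (mem_U _).mp hp.1
    rw [theta_fst, inv_pow, inv_eq_one, pow_succ, hpow, ← pow_succ] at h1
    have h2 : (e : fixF σ) ^ (q₀ + 1) = 1 := by
      apply Subtype.ext
      push_cast
      exact h1
    refine ⟨⟨e, ?_⟩, rfl⟩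
    apply Units.ext
    rw [Units.val_pow_eq_pow_val]
    exact h2

end I

section J
open Cfsg.Agent.Lead Cfsg.Agent.Helper19 Cfsg.Agent.S2636

theorem formula_cast {q : ℕ} (hq : 2 ≤ q) (m : ℕ) :
    ((q ^ (m * (m - 1) / 2) *
      ∏ i ∈ Finset.range m, (if Even i then q ^ (i + 1) + 1 else q ^ (i + 1) - 1) : ℕ) : ℤ)
      = (q : ℤ) ^ (m * (m - 1) / 2) *
        ∏ i : Fin m, ((q : ℤ) ^ ((i : ℕ) + 1) - (-1) ^ ((i : ℕ) + 1)) := by
  rw [Nat.cast_mul, Nat.cast_pow, Finset.prod_range, Nat.cast_prod]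
  congr 1
  apply Finset.prod_congr rfl
  intro i _
  have h1 : 1 ≤ q ^ ((i : ℕ) + 1) := Nat.one_le_pow _ _ (by omega)
  by_cases hi : Even (i : ℕ)
  · rw [if_pos hi]
    have hodd : Odd ((i : ℕ) + 1) := hi.add_one
    rw [hodd.neg_one_pow]
    push_cast
    ring
  · rw [if_neg hi]
    have heven : Even ((i : ℕ) + 1) := by
      rw [Nat.even_add_one]
      exact hi
    rw [heven.neg_one_pow, Nat.cast_sub h1]
    push_cast
    ring

theorem pow_q_eq {K : Type*} [Field K] (K₀ : Subfield K) [Fintype K₀] {q₀ r : ℕ}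
    (hK₀ : Fintype.card K₀ = q₀ ^ 2) (hr : Odd r) (x : K₀) :
    (x : K) ^ (q₀ ^ r) = (x : K) ^ q₀ := by
  obtain ⟨k, rfl⟩ := hr
  have h1 : x ^ ((q₀ ^ 2) ^ k) = x := by
    rw [← hK₀]
    exact FiniteField.pow_card_pow k x
  have h2 : q₀ ^ (2 * k + 1) = (q₀ ^ 2) ^ k * q₀ := by
    rw [pow_succ, pow_mul]
  rw [h2, pow_mul]
  have h3 : ((x : K)) ^ ((q₀ ^ 2) ^ k) = ((x ^ ((q₀ ^ 2) ^ k) : K₀) : K) := by push_cast; rfl
  rw [h3, h1]

theorem main {K : Type*} [Field K] [Fintype K] {q₀ q r n : ℕ} (hr : r.Prime) (hr2 : r ≠ 2)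
    (hn : 1 ≤ n) (hq : q = q₀ ^ r) (hK : Fintype.card K = q ^ 2) (σ : K ≃+* K)
    (hσ : orderOf σ = r) :
    (Nat.card {g : ↥(Cfsg.GU n K q) // ∃ c : K, c ≠ 0 ∧
      ((g : GL (Fin n) K) : Matrix (Fin n) (Fin n) K).map σ =
        c • ((g : GL (Fin n) K) : Matrix (Fin n) (Fin n) K)} : ℤ) =
      ((q + 1) / (q₀ + 1) : ℕ) * ((q₀ : ℤ) ^ (n * (n - 1) / 2) *
        ∏ i : Fin n, ((q₀ : ℤ) ^ ((i : ℕ) + 1) - (-1) ^ ((i : ℕ) + 1))) := by
  classical
  have hodd : Odd r := hr.odd_of_ne_two hr2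
  have hK' : Fintype.card K = (q₀ ^ 2) ^ r := by
    rw [hK, hq, ← pow_mul, ← pow_mul, mul_comm]
  have hcard0 := card_fixF σ hr hK' hσ
  have : Fintype (fixF σ) := Fintype.ofFinite _
  have hK₀ : Fintype.card (fixF σ) = q₀ ^ 2 := by
    rw [← Nat.card_eq_fintype_card, hcard0]
  have hq₀ : 2 ≤ q₀ := herm_two_le hK₀
  have hpow : ∀ x : fixF σ, (x : K) ^ q = (x : K) ^ q₀ := by
    intro x
    rw [hq]
    exact pow_q_eq (fixF σ) hK₀ hodd x
  have e1 : Nat.card {g : ↥(Cfsg.GU n K q) // ∃ c : K, c ≠ 0 ∧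
      ((g : GL (Fin n) K) : Matrix (Fin n) (Fin n) K).map σ =
        c • ((g : GL (Fin n) K) : Matrix (Fin n) (Fin n) K)} =
      Nat.card (phi (fixF σ) q q₀ n).range := by
    apply Nat.card_congr
    refine (Equiv.subtypeSubtypeEquivSubtypeInter (fun g : GL (Fin n) K => g ∈ Cfsg.GU n K q)
      (fun g : GL (Fin n) K => ∃ c : K, c ≠ 0 ∧
        (g : Matrix (Fin n) (Fin n) K).map σ = c • (g : Matrix (Fin n) (Fin n) K))).trans ?_
    exact Equiv.subtypeEquivRight (fun g => (mem_range_phi σ hn hK hK₀ hpow g).symm)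
  have e2 := card_ker_phi σ (q := q) hn hK₀ hpow
  have e3 : Nat.card ((U K q).prod (Cfsg.GU n (fixF σ) q₀)) =
      Nat.card (phi (fixF σ) q q₀ n).range * Nat.card (phi (fixF σ) q q₀ n).ker := by
    rw [Subgroup.card_eq_card_quotient_mul_card_subgroup (phi (fixF σ) q q₀ n).ker,
      Nat.card_congr (QuotientGroup.quotientKerEquivRange (phi (fixF σ) q q₀ n)).toEquiv]
  have e4 : Nat.card ((U K q).prod (Cfsg.GU n (fixF σ) q₀)) =
      (q + 1) * Nat.card (Cfsg.GU n (fixF σ) q₀) := by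
    rw [Nat.card_congr (Subgroup.prodEquiv (U K q) (Cfsg.GU n (fixF σ) q₀)).toEquiv, Nat.card_prod,
      card_U hK]
  have hdvd : q₀ + 1 ∣ q + 1 := by
    rw [hq]
    have := Odd.nat_add_dvd_pow_add_pow q₀ 1 hodd
    rwa [one_pow] at this
  have hmain : Nat.card (phi (fixF σ) q q₀ n).range =
      (q + 1) / (q₀ + 1) * Nat.card (Cfsg.GU n (fixF σ) q₀) := by
    apply Nat.eq_of_mul_eq_mul_right (show 0 < q₀ + 1 by omega)
    rw [← e2, ← e3, e4, e2, mul_assoc, mul_comm _ (q₀ + 1), ← mul_assoc, Nat.div_mul_cancel hdvd]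
  rw [e1, hmain, card_GU hK₀ n, Nat.cast_mul, formula_cast hq₀ n]

end J

/-- Centraliser of a field automorphism of odd prime order in PGU_n(q): let q = q₀^r with r an odd prime, K the field with q² elements and σ a field automorphism of K of order r (fixed field of order q₀²). The elements g of GU_n(q) whose entrywise image under σ is a scalar multiple of g — those whose coset modulo the q + 1 unitary scalars is fixed by σ — number (q + 1)/(q₀ + 1) · |GU_n(q₀)|; equivalently the centraliser in PGU_n(q) of the induced automorphism has the order of PGU_n(q₀). -/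
theorem result {K : Type*} [Field K] [Fintype K] {q₀ q r n : ℕ} (hr : r.Prime) (hr2 : r ≠ 2) (hn : 1 ≤ n) (hq : q = q₀ ^ r) (hK : Fintype.card K = q ^ 2) (σ : K ≃+* K) (hσ : orderOf σ = r) : (Nat.card {g : ↥(Cfsg.GU n K q) // ∃ c : K, c ≠ 0 ∧ ((g : GL (Fin n) K) : Matrix (Fin n) (Fin n) K).map σ = c • ((g : GL (Fin n) K) : Matrix (Fin n) (Fin n) K)} : ℤ) = ((q + 1) / (q₀ + 1) : ℕ) * ((q₀ : ℤ) ^ (n * (n - 1) / 2) * ∏ i : Fin n, ((q₀ : ℤ) ^ ((i : ℕ) + 1) - (-1) ^ ((i : ℕ) + 1))) := by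
  exact main hr hr2 hn hq hK σ hσ

end Cfsg.Agent.S2677
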