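import Cfsg.Statements.S2678
import Mathlib
import Cfsg.Agent.Lib.Helper44.QuadExt
-- import your own Cfsg.Agent.* helpers here

set_option autoImplicit false
open Cfsg

namespace Cfsg.Agent.S2678


open Matrix

section Form
variable {l : Type*} [Fintype l] [DecidableEq l] {R : Type*} [CommRing R]

theorem sympForm_eq (w w' : l ⊕ l → R) :
    w ⬝ᵥ (Matrix.J l R *ᵥ w') = ∑ i : l, (w (Sum.inr i) * w' (Sum.inl i) - w (Sum.inl i) * w' (Sum.inr i)) := by
  rw [dotProduct, Fintype.sum_sum_type, Matrix.J, Matrix.fromBlocks_mulVec]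
  simp only [Sum.elim_inl, Sum.elim_inr, Matrix.zero_mulVec, zero_add, add_zero, Matrix.neg_mulVec,
    Matrix.one_mulVec, Pi.neg_apply, Function.comp_apply]
  rw [← Finset.sum_add_distrib]
  apply Finset.sum_congr rfl
  intro i _
  ring

end Form

section Phi
variable {K F : Type*} [Field K] [Field F] [Algebra F K] [FiniteDimensional F K]
  [Algebra.IsSeparable F K]
variable (b : Module.Basis (Fin 2) F K) (a : ℕ)

/-- the trace-dual basis -/
noncomputable def bd : Module.Basis (Fin 2) F K :=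
  (Algebra.traceForm F K).dualBasis (traceForm_nondegenerate F K) b

theorem trace_mul_eq (x y : K) :
    ∑ s : Fin 2, b.repr x s * (bd b).repr y s = Algebra.trace F K (x * y) := by
  have h1 : ∀ s, (bd b).repr y s = Algebra.trace F K (y * b s) := by
    intro s
    rw [bd, LinearMap.BilinForm.dualBasis_repr_apply, Algebra.traceForm_apply]
  simp only [h1]
  conv_rhs => rw [← b.sum_repr x, Finset.sum_mul, map_sum]
  apply Finset.sum_congr rfl
  intro s _
  rw [smul_mul_assoc, map_smul, smul_eq_mul, mul_comm y]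

/-- the index bookkeeping -/
def idx : (Fin (2 * a) ⊕ Fin (2 * a)) ≃ (Fin a ⊕ Fin a) × Fin 2 where
  toFun := Sum.elim (fun k => (Sum.inl (finProdFinEquiv.symm k).2, (finProdFinEquiv.symm k).1))
    (fun k => (Sum.inr (finProdFinEquiv.symm k).2, (finProdFinEquiv.symm k).1))
  invFun p := Sum.elim (fun i => Sum.inl (finProdFinEquiv (p.2, i)))
    (fun i => Sum.inr (finProdFinEquiv (p.2, i))) p.1
  left_inv := by
    rintro (k | k) <;>
    simp only [Sum.elim_inl, Sum.elim_inr, Prod.mk.eta, Equiv.apply_symm_apply]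
  right_inv := by
    rintro ⟨(i | i), s⟩ <;>
    simp only [Sum.elim_inl, Sum.elim_inr, Equiv.symm_apply_apply]

/-- the `F`-linear coordinates on `K^(2a)` -/
noncomputable def Phi : ((Fin a ⊕ Fin a) → K) ≃ₗ[F] ((Fin (2 * a) ⊕ Fin (2 * a)) → F) :=
  ((LinearEquiv.piCongrRight (fun x : Fin a ⊕ Fin a =>
      (Sum.elim (fun _ => b.equivFun) (fun _ => (bd b).equivFun) x : K ≃ₗ[F] (Fin 2 → F)))).trans
    (LinearEquiv.curry F F (Fin a ⊕ Fin a) (Fin 2)).symm).trans
    (LinearEquiv.funCongrLeft F F (idx a))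

theorem Phi_inl (u : (Fin a ⊕ Fin a) → K) (s : Fin 2) (i : Fin a) :
    Phi b a u (Sum.inl (finProdFinEquiv (s, i))) = b.repr (u (Sum.inl i)) s := by
  have h : idx a (Sum.inl (finProdFinEquiv (s, i))) = (Sum.inl i, s) := by
    simp only [idx, Equiv.coe_fn_mk, Sum.elim_inl, Equiv.symm_apply_apply]
  change (Sum.elim (fun _ => b.equivFun) (fun _ => (bd b).equivFun)
    (idx a (Sum.inl (finProdFinEquiv (s, i)))).1 : K ≃ₗ[F] (Fin 2 → F))
      (u (idx a (Sum.inl (finProdFinEquiv (s, i)))).1) (idx a (Sum.inl (finProdFinEquiv (s, i)))).2 = _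
  rw [h]
  rfl

theorem Phi_inr (u : (Fin a ⊕ Fin a) → K) (s : Fin 2) (i : Fin a) :
    Phi b a u (Sum.inr (finProdFinEquiv (s, i))) = (bd b).repr (u (Sum.inr i)) s := by
  have h : idx a (Sum.inr (finProdFinEquiv (s, i))) = (Sum.inr i, s) := by
    simp only [idx, Equiv.coe_fn_mk, Sum.elim_inr, Equiv.symm_apply_apply]
  change (Sum.elim (fun _ => b.equivFun) (fun _ => (bd b).equivFun)
    (idx a (Sum.inr (finProdFinEquiv (s, i)))).1 : K ≃ₗ[F] (Fin 2 → F))
      (u (idx a (Sum.inr (finProdFinEquiv (s, i)))).1) (idx a (Sum.inr (finProdFinEquiv (s, i)))).2 = _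
  rw [h]
  rfl

theorem Phi_form (u v : (Fin a ⊕ Fin a) → K) :
    (Phi b a u) ⬝ᵥ (Matrix.J (Fin (2 * a)) F *ᵥ (Phi b a v)) =
      Algebra.trace F K (u ⬝ᵥ (Matrix.J (Fin a) K *ᵥ v)) := by
  rw [sympForm_eq, sympForm_eq, map_sum]
  rw [← Equiv.sum_comp (finProdFinEquiv : Fin 2 × Fin a ≃ Fin (2 * a)), Fintype.sum_prod_type,
    Finset.sum_comm]
  apply Finset.sum_congr rfl
  intro i _
  simp only [Phi_inl, Phi_inr]
  rw [Finset.sum_sub_distrib, map_sub, mul_comm (u (Sum.inr i)) (v (Sum.inl i)),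
    ← trace_mul_eq b, ← trace_mul_eq b]
  congr 1
  apply Finset.sum_congr rfl
  intro s _
  ring

end Phi


/-- Field-extension embedding of symplectic groups: for a field K with q² elements and a field F with q elements there is an injective homomorphism Sp_2a(K) → Sp_4a(F). -/
theorem result {K F : Type*} [Field K] [Fintype K] [Field F] [Fintype F] {q : ℕ} (hK : Fintype.card K = q ^ 2) (hF : Fintype.card F = q) (a : ℕ) : ∃ φ : ↥(Matrix.symplecticGroup (Fin a) K) →* ↥(Matrix.symplecticGroup (Fin (2 * a)) F), Function.Injective φ := by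
  classical
  obtain ⟨alg, h2⟩ := Cfsg.Agent.Helper44.exists_algebra_of_card hK hF
  letI := alg
  haveI : FiniteDimensional F K := Module.finite_of_finrank_pos (by omega)
  let b := Module.finBasisOfFinrankEq F K h2
  let M := Cfsg.Agent.Helper44.restrictHom (Phi b a)
  have hmem : ∀ g : ↥(Matrix.symplecticGroup (Fin a) K),
      (M.comp (Matrix.symplecticGroup (Fin a) K).subtype) g ∈ Matrix.symplecticGroup (Fin (2 * a)) F := by
    intro g
    rw [Cfsg.Agent.Helper44.sp_mem_iff_form]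
    intro w w'
    have hg := (Cfsg.Agent.Helper44.sp_mem_iff_form g.1).mp g.2
    change (M g.1 *ᵥ w) ⬝ᵥ (Matrix.J (Fin (2 * a)) F *ᵥ (M g.1 *ᵥ w')) = _
    rw [Cfsg.Agent.Helper44.restrictHom_mulVec', Cfsg.Agent.Helper44.restrictHom_mulVec', Phi_form, hg,
      ← Phi_form, LinearEquiv.apply_symm_apply, LinearEquiv.apply_symm_apply]
  refine ⟨(M.comp (Matrix.symplecticGroup (Fin a) K).subtype).codRestrict _ hmem, ?_⟩
  intro g h hgh
  apply Subtype.ext
  apply Cfsg.Agent.Helper44.restrictHom_injective (Phi b a)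
  exact congrArg Subtype.val hgh

end Cfsg.Agent.S2678
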