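import Cfsg.Statements.S2679
import Mathlib
import Cfsg.Agent.Lib.Helper44.QuadExt
import Cfsg.Agent.Lib.Helper44.QuadTrace
import Cfsg.Agent.Lib.Helper44.HypBlock
import Cfsg.Agent.Lib.Helper44.EllBlock
-- import your own Cfsg.Agent.* helpers here

set_option autoImplicit false
open Cfsg

namespace Cfsg.Agent.S2679


open Matrix Cfsg.Agent.Helper44

section Combo
variable {R : Type*} [Field R]

theorem qm_combo (n : ℕ) (a c : R) (x y : (Fin n ⊕ Fin n) ⊕ Fin 2 → R) (s t : R) :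
    Cfsg.quadFormMinus n R a c (s • x + t • y) =
      s ^ 2 * Cfsg.quadFormMinus n R a c x + t ^ 2 * Cfsg.quadFormMinus n R a c y +
        s * t * (Cfsg.quadFormMinus n R a c (x + y) - Cfsg.quadFormMinus n R a c x -
          Cfsg.quadFormMinus n R a c y) := by
  simp only [Cfsg.quadFormMinus, Pi.add_apply, Pi.smul_apply, smul_eq_mul]
  have h : ∀ i : Fin n, (s * x (Sum.inl (Sum.inl i)) + t * y (Sum.inl (Sum.inl i))) *
      (s * x (Sum.inl (Sum.inr i)) + t * y (Sum.inl (Sum.inr i))) =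
      s ^ 2 * (x (Sum.inl (Sum.inl i)) * x (Sum.inl (Sum.inr i))) +
      t ^ 2 * (y (Sum.inl (Sum.inl i)) * y (Sum.inl (Sum.inr i))) +
      s * t * ((x (Sum.inl (Sum.inl i)) + y (Sum.inl (Sum.inl i))) *
        (x (Sum.inl (Sum.inr i)) + y (Sum.inl (Sum.inr i))) -
        x (Sum.inl (Sum.inl i)) * x (Sum.inl (Sum.inr i)) -
        y (Sum.inl (Sum.inl i)) * y (Sum.inl (Sum.inr i))) := by
    intro i; ring
  simp only [h, Finset.sum_add_distrib, ← Finset.mul_sum, Finset.sum_sub_distrib]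
  ring

end Combo

section BaseChange
variable {K F : Type*} [Field K] [Field F] [Algebra F K]

theorem qm_map (n : ℕ) (a c : F) (u : (Fin n ⊕ Fin n) ⊕ Fin 2 → F) :
    Cfsg.quadFormMinus n K (algebraMap F K a) (algebraMap F K c) (fun k => algebraMap F K (u k)) =
      algebraMap F K (Cfsg.quadFormMinus n F a c u) := by
  simp only [Cfsg.quadFormMinus, map_add, map_sum, map_mul, map_pow]

theorem baseChange_preserves [FiniteDimensional F K] (hfr : Module.finrank F K = 2) (n : ℕ) (a c : F)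
    (g : Matrix ((Fin n ⊕ Fin n) ⊕ Fin 2) ((Fin n ⊕ Fin n) ⊕ Fin 2) F)
    (hg : ∀ u, Cfsg.quadFormMinus n F a c (g *ᵥ u) = Cfsg.quadFormMinus n F a c u)
    (v : (Fin n ⊕ Fin n) ⊕ Fin 2 → K) :
    Cfsg.quadFormMinus n K (algebraMap F K a) (algebraMap F K c) (g.map (algebraMap F K) *ᵥ v) =
      Cfsg.quadFormMinus n K (algebraMap F K a) (algebraMap F K c) v := by
  let b := Module.finBasisOfFinrankEq F K hfr
  set v₀ : (Fin n ⊕ Fin n) ⊕ Fin 2 → F := fun k => b.repr (v k) 0 with hv₀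
  set v₁ : (Fin n ⊕ Fin n) ⊕ Fin 2 → F := fun k => b.repr (v k) 1 with hv₁
  set emb : ((Fin n ⊕ Fin n) ⊕ Fin 2 → F) → ((Fin n ⊕ Fin n) ⊕ Fin 2 → K) :=
    fun u k => algebraMap F K (u k) with hemb
  have hv : v = b 0 • emb v₀ + b 1 • emb v₁ := by
    funext k
    have h2 := b.sum_repr (v k)
    rw [Fin.sum_univ_two] at h2
    simp only [Algebra.smul_def] at h2
    simp only [Pi.add_apply, Pi.smul_apply, smul_eq_mul, hemb, hv₀, hv₁]
    conv_lhs => rw [← h2]
    ring
  have hemb_add : ∀ u u', emb u + emb u' = emb (u + u') := by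
    intro u u'; funext k; simp [hemb]
  have hgemb : ∀ u, g.map (algebraMap F K) *ᵥ emb u = emb (g *ᵥ u) := by
    intro u
    funext k
    exact (RingHom.map_mulVec (algebraMap F K) g u k).symm
  have hQ : ∀ u, Cfsg.quadFormMinus n K (algebraMap F K a) (algebraMap F K c) (emb u) =
      algebraMap F K (Cfsg.quadFormMinus n F a c u) := fun u => qm_map n a c u
  rw [hv, Matrix.mulVec_add, Matrix.mulVec_smul, Matrix.mulVec_smul, hgemb, hgemb, qm_combo, qm_combo,
    hemb_add, hemb_add, hQ, hQ, hQ, hQ, hQ, hQ, ← Matrix.mulVec_add, hg, hg, hg]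

end BaseChange


section Roots
variable {K F : Type*} [Field K] [Fintype K] [Field F] [Fintype F] [Algebra F K]

theorem roots_rel (hfr : Module.finrank F K = 2) (a b : F)
    (hab : ∀ z₁ z₂ : F, z₁ ^ 2 + a * z₁ * z₂ + b * z₂ ^ 2 = 0 → z₁ = 0 ∧ z₂ = 0)
    (θ : K) (hθ : θ ^ 2 + algebraMap F K a * θ + algebraMap F K b = 0) :
    frobKF F K θ ≠ θ ∧ θ + frobKF F K θ = -algebraMap F K a ∧
      θ * frobKF F K θ = algebraMap F K b := by
  set σ := frobKF F K with hσ
  have hne : σ θ ≠ θ := by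
    intro h
    obtain ⟨t, ht⟩ := mem_range_of_frob_eq hfr θ h
    rw [← ht, ← map_pow, ← map_mul, ← map_add, ← map_add] at hθ
    have h0 := (map_eq_zero _).mp hθ
    have := hab t 1 (by rw [← h0]; ring)
    exact one_ne_zero this.2
  have hθ' : (σ θ) ^ 2 + algebraMap F K a * σ θ + algebraMap F K b = 0 := by
    have := congrArg σ hθ
    simpa using this
  have hsum : θ + σ θ = -algebraMap F K a := by
    have h1 : (θ - σ θ) * (θ + σ θ + algebraMap F K a) = 0 := by
      linear_combination hθ - hθ'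
    rcases mul_eq_zero.mp h1 with h2 | h2
    · exact absurd (sub_eq_zero.mp h2).symm hne
    · linear_combination h2
  have hprod : θ * σ θ = algebraMap F K b := by
    linear_combination θ * hsum - hθ
  exact ⟨hne, hsum, hprod⟩

end Roots

section PhiDef
variable {K : Type*} [Field K]

/-- coordinates turning the elliptic form (split over `K`) into the hyperbolic one -/
noncomputable def Phi {m : ℕ} (e' : Fin m ≃ Fin (m - 1) ⊕ Fin 1) (θ θ' : K) :
    ((Fin (m - 1) ⊕ Fin (m - 1)) ⊕ Fin 2 → K) →ₗ[K] (Fin m ⊕ Fin m → K) :=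
  LinearMap.pi fun x => Sum.elim
    (fun k => Sum.elim (fun i => LinearMap.proj (Sum.inl (Sum.inl i)))
      (fun _ => LinearMap.proj (Sum.inr 0) - θ • LinearMap.proj (Sum.inr 1)) (e' k))
    (fun k => Sum.elim (fun i => LinearMap.proj (Sum.inl (Sum.inr i)))
      (fun _ => LinearMap.proj (Sum.inr 0) - θ' • LinearMap.proj (Sum.inr 1)) (e' k)) x

theorem Phi_inl {m : ℕ} (e' : Fin m ≃ Fin (m - 1) ⊕ Fin 1) (θ θ' : K)
    (v : (Fin (m - 1) ⊕ Fin (m - 1)) ⊕ Fin 2 → K) (k : Fin m) :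
    Phi e' θ θ' v (Sum.inl k) = Sum.elim (fun i => v (Sum.inl (Sum.inl i)))
      (fun _ => v (Sum.inr 0) - θ * v (Sum.inr 1)) (e' k) := by
  simp only [Phi, LinearMap.pi_apply, Sum.elim_inl]
  cases h : e' k <;> simp

theorem Phi_inr {m : ℕ} (e' : Fin m ≃ Fin (m - 1) ⊕ Fin 1) (θ θ' : K)
    (v : (Fin (m - 1) ⊕ Fin (m - 1)) ⊕ Fin 2 → K) (k : Fin m) :
    Phi e' θ θ' v (Sum.inr k) = Sum.elim (fun i => v (Sum.inl (Sum.inr i)))
      (fun _ => v (Sum.inr 0) - θ' * v (Sum.inr 1)) (e' k) := by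
  simp only [Phi, LinearMap.pi_apply, Sum.elim_inr]
  cases h : e' k <;> simp

theorem Phi_form {m : ℕ} (e' : Fin m ≃ Fin (m - 1) ⊕ Fin 1) (θ θ' a c : K)
    (hsum : θ + θ' = -a) (hprod : θ * θ' = c)
    (v : (Fin (m - 1) ⊕ Fin (m - 1)) ⊕ Fin 2 → K) :
    Cfsg.quadFormPlus m K (Phi e' θ θ' v) = Cfsg.quadFormMinus (m - 1) K a c v := by
  rw [Cfsg.quadFormPlus, Cfsg.quadFormMinus, ← Equiv.sum_comp e'.symm, Fintype.sum_sum_type]
  simp only [Phi_inl, Phi_inr, Equiv.apply_symm_apply, Sum.elim_inl, Sum.elim_inr]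
  rw [Finset.sum_const, Finset.card_univ, Fintype.card_fin, one_smul]
  congr 1
  linear_combination (-(v (Sum.inr 0) * v (Sum.inr 1))) * hsum + (v (Sum.inr 1)) ^ 2 * hprod

theorem Phi_injective {m : ℕ} (e' : Fin m ≃ Fin (m - 1) ⊕ Fin 1) (θ θ' : K) (hne : θ' ≠ θ) :
    Function.Injective (Phi e' θ θ') := by
  rw [injective_iff_map_eq_zero]
  intro v hv
  have hl : ∀ x : Fin (m - 1) ⊕ Fin 1, Sum.elim (fun i => v (Sum.inl (Sum.inl i)))
      (fun _ => v (Sum.inr 0) - θ * v (Sum.inr 1)) x = 0 := by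
    intro x
    have := congrFun hv (Sum.inl (e'.symm x))
    rw [Phi_inl, Equiv.apply_symm_apply] at this
    exact this
  have hr : ∀ x : Fin (m - 1) ⊕ Fin 1, Sum.elim (fun i => v (Sum.inl (Sum.inr i)))
      (fun _ => v (Sum.inr 0) - θ' * v (Sum.inr 1)) x = 0 := by
    intro x
    have := congrFun hv (Sum.inr (e'.symm x))
    rw [Phi_inr, Equiv.apply_symm_apply] at this
    exact this
  have h1 : v (Sum.inr 0) - θ * v (Sum.inr 1) = 0 := hl (Sum.inr 0)
  have h2 : v (Sum.inr 0) - θ' * v (Sum.inr 1) = 0 := hr (Sum.inr 0)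
  have h3 : (θ' - θ) * v (Sum.inr 1) = 0 := by linear_combination h1 - h2
  have h4 : v (Sum.inr 1) = 0 := by
    rcases mul_eq_zero.mp h3 with h | h
    · exact absurd (sub_eq_zero.mp h) hne
    · exact h
  have h5 : v (Sum.inr 0) = 0 := by rw [h4, mul_zero, sub_zero] at h1; exact h1
  funext x
  rcases x with (i | i) | s
  · exact hl (Sum.inl i)
  · exact hr (Sum.inl i)
  · fin_cases s
    · exact h5
    · exact h4

end PhiDef

/-- An elliptic orthogonal group embeds in the hyperbolic orthogonal group of the same dimension over the quadratic extension: for a field F with q elements and a field K with q² elements there is an injective homomorphism from O⁻_2m(F) (isometries of Σ_(j<m−1) x_j y_j + z₁² + a z₁z₂ + c z₂², binary part anisotropic) to O⁺_2m(K) (isometries of Σ_(j<m) x_j y_j over K). -/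
theorem result {F K : Type*} [Field F] [Fintype F] [Field K] [Fintype K] {q : ℕ} (hF : Fintype.card F = q) (hK : Fintype.card K = q ^ 2) {m : ℕ} (hm : 1 ≤ m) (a c : F) (hac : ∀ z₁ z₂ : F, z₁ ^ 2 + a * z₁ * z₂ + c * z₂ ^ 2 = 0 → z₁ = 0 ∧ z₂ = 0) : ∃ φ : ↥(Cfsg.isometryGroup F (Cfsg.quadFormMinus (m - 1) F a c)) →* ↥(Cfsg.isometryGroup K (Cfsg.quadFormPlus m K)), Function.Injective φ := by
  classical
  obtain ⟨alg, hfr⟩ := exists_algebra_of_card hK hF
  letI := alg
  subst hF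
  haveI : FiniteDimensional F K := Module.finite_of_finrank_pos (by omega)
  obtain ⟨θ, hθ⟩ := exists_root_quadratic (F := F) (K := K) hfr a c hac
  obtain ⟨hne, hsum, hprod⟩ := roots_rel hfr a c hac θ hθ
  have hm1 : m - 1 + 1 = m := by omega
  let e' : Fin m ≃ Fin (m - 1) ⊕ Fin 1 := (finCongr hm1.symm).trans finSumFinEquiv.symm
  let Φ := Phi e' θ (frobKF F K θ)
  have hΦ : ∀ v, Cfsg.quadFormPlus m K (Φ v) =
      Cfsg.quadFormMinus (m - 1) K (algebraMap F K a) (algebraMap F K c) v :=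
    Phi_form e' θ (frobKF F K θ) _ _ hsum hprod
  have hdim : Module.finrank K ((Fin (m - 1) ⊕ Fin (m - 1)) ⊕ Fin 2 → K) =
      Module.finrank K (Fin m ⊕ Fin m → K) := by
    rw [Module.finrank_fintype_fun_eq_card, Module.finrank_fintype_fun_eq_card]
    simp; omega
  let E := LinearMap.linearEquivOfInjective Φ (Phi_injective e' θ _ hne) hdim
  have hE : ∀ v, E v = Φ v := fun v => rfl
  let M : GL ((Fin (m - 1) ⊕ Fin (m - 1)) ⊕ Fin 2) F →* GL (Fin m ⊕ Fin m) K :=
    (Units.map (restrictHom E)).comp (Matrix.GeneralLinearGroup.map (algebraMap F K))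
  have hMval : ∀ g : GL ((Fin (m - 1) ⊕ Fin (m - 1)) ⊕ Fin 2) F,
      ((M g : GL (Fin m ⊕ Fin m) K) : Matrix (Fin m ⊕ Fin m) (Fin m ⊕ Fin m) K) =
        restrictHom E ((g : Matrix _ _ F).map (algebraMap F K)) := fun g => rfl
  have hmem : ∀ g : ↥(Cfsg.isometryGroup F (Cfsg.quadFormMinus (m - 1) F a c)),
      (M.comp (Cfsg.isometryGroup F (Cfsg.quadFormMinus (m - 1) F a c)).subtype) g ∈
        Cfsg.isometryGroup K (Cfsg.quadFormPlus m K) := by
    intro g w _
    have hg : ∀ u : (Fin (m - 1) ⊕ Fin (m - 1)) ⊕ Fin 2 → F, Cfsg.quadFormMinus (m - 1) F a c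
        (((g : GL ((Fin (m - 1) ⊕ Fin (m - 1)) ⊕ Fin 2) F) :
          Matrix ((Fin (m - 1) ⊕ Fin (m - 1)) ⊕ Fin 2) ((Fin (m - 1) ⊕ Fin (m - 1)) ⊕ Fin 2) F) *ᵥ u) =
          Cfsg.quadFormMinus (m - 1) F a c u :=
      fun u => g.2 u u
    show Cfsg.quadFormPlus m K
      (((M (g : GL ((Fin (m - 1) ⊕ Fin (m - 1)) ⊕ Fin 2) F) : GL (Fin m ⊕ Fin m) K) :
        Matrix (Fin m ⊕ Fin m) (Fin m ⊕ Fin m) K) *ᵥ w) = Cfsg.quadFormPlus m K w
    rw [hMval, restrictHom_mulVec', hE, hΦ, baseChange_preserves hfr (m - 1) a c _ hg, ← hΦ, ← hE,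
      LinearEquiv.apply_symm_apply]
  refine ⟨(M.comp (Cfsg.isometryGroup F (Cfsg.quadFormMinus (m - 1) F a c)).subtype).codRestrict _ hmem, ?_⟩
  intro g h hgh
  apply Subtype.ext
  apply Units.ext
  have h1 := congrArg Subtype.val hgh
  have h2 := congrArg Units.val h1
  have h3 := restrictHom_injective E h2
  exact Matrix.map_injective (algebraMap F K).injective h3

end Cfsg.Agent.S2679
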