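import Cfsg.Statements.S2680
-- import your own Cfsg.Agent.* helpers here
import Mathlib
import Cfsg.Agent.Lib.Helper36.InvCentSp

set_option autoImplicit false
open Cfsg

namespace Cfsg.Agent.S2680

open Matrix Cfsg.Agent.Helper36.InvCentSp

/-- the order of the symplectic group in the shape of the statements -/
theorem card_sp' {F : Type*} [Field F] [Fintype F] {q : ℕ} (hF : Fintype.card F = q) (j : ℕ) :
    Nat.card ↥(Matrix.symplecticGroup (Fin j) F) =
      q ^ (j ^ 2) * ∏ i : Fin j, (q ^ (2 * ((i : ℕ) + 1)) - 1) := by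
  rw [Cfsg.Agent.Lead.card_symplecticGroup j, Nat.card_eq_fintype_card (α := F), hF,
    Fin.prod_univ_eq_prod_range (fun i => q ^ (2 * (i + 1)) - 1) j]

theorem exp_arith_b (j k : ℕ) :
    2 * (2 * j + 1 + k) * (2 * j + 1) - (3 * (2 * j + 1) ^ 2 - (2 * j + 1)) / 2 =
      (k + k) * (1 + (j + j)) + (1 + (j + j) + 1).choose 2 := by
  have h1 : 3 * (2 * j + 1) ^ 2 - (2 * j + 1) = 2 * ((2 * j + 1) * (3 * j + 1)) := by
    have h2 : 3 * (2 * j + 1) ^ 2 = 2 * ((2 * j + 1) * (3 * j + 1)) + (2 * j + 1) := by ring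
    omega
  have h3 : (1 + (j + j) + 1).choose 2 = (j + 1) * (2 * j + 1) := by
    rw [Nat.choose_two_right]
    have : (1 + (j + j) + 1) * (1 + (j + j) + 1 - 1) = 2 * ((j + 1) * (2 * j + 1)) := by
      have : 1 + (j + j) + 1 - 1 = 2 * j + 1 := by omega
      rw [this]
      ring
    rw [this, Nat.mul_div_cancel_left _ (by norm_num : 0 < 2)]
  rw [h1, Nat.mul_div_cancel_left _ (by norm_num : 0 < 2), h3]
  have h5 : 2 * (2 * j + 1 + k) * (2 * j + 1) =
      (k + k) * (1 + (j + j)) + (j + 1) * (2 * j + 1) + (2 * j + 1) * (3 * j + 1) := by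
    ring
  omega

/-- Centraliser order of an involution t of Sp_2m(q), q even, with s = rank(t − 1) odd (type b_s): |C(t)| = q^(2ms − (3s² − s)/2) · |Sp_(s−1)(q)| · |Sp_(2m−2s)(q)|, where |Sp_2k(q)| = q^(k²) Π_(i=1)^k (q^(2i) − 1). -/
theorem result {F : Type*} [Field F] [Fintype F] [CharP F 2] {q : ℕ} (hF : Fintype.card F = q) {m s : ℕ} (t : Matrix.symplecticGroup (Fin m) F) (ht : t ^ 2 = 1) (hs : ((t : Matrix (Fin m ⊕ Fin m) (Fin m ⊕ Fin m) F) - 1).rank = s) (hodd : Odd s) : Nat.card ↥(Subgroup.centralizer ({t} : Set ↥(Matrix.symplecticGroup (Fin m) F))) = q ^ (2 * m * s - (3 * s ^ 2 - s) / 2) * ((q : ℕ) ^ (((s - 1) / 2) ^ 2) * ∏ i : Fin ((s - 1) / 2), (q ^ (2 * ((i : ℕ) + 1)) - 1)) * ((q : ℕ) ^ ((m - s) ^ 2) * ∏ i : Fin (m - s), (q ^ (2 * ((i : ℕ) + 1)) - 1)) := by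
  classical
  have htt : (t : Matrix (Fin m ⊕ Fin m) (Fin m ⊕ Fin m) F) * t.1 = 1 := by
    have := congrArg Subtype.val ht
    rwa [pow_two] at this
  have hsm : s ≤ m := by
    rw [← hs]
    exact Cfsg.Agent.S2593.rank_le_of_sq t.1 htt
  obtain ⟨j, hj⟩ := hodd
  obtain ⟨k, hk⟩ : ∃ k, m = s + k := ⟨m - s, by omega⟩
  have hcard : Fintype.card (Fin m) = Fintype.card ((Unit ⊕ (Fin j ⊕ Fin j)) ⊕ Fin k) := by
    simp only [Fintype.card_sum, Fintype.card_fin, Fintype.card_unit]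
    omega
  have e : Fin m ≃ (Unit ⊕ (Fin j ⊕ Fin j)) ⊕ Fin k := Fintype.equivOfCardEq hcard
  have hnalt : ¬ ∀ v : Fin m ⊕ Fin m → F, Cfsg.sympForm m F v
      ((t : Matrix (Fin m ⊕ Fin m) (Fin m ⊕ Fin m) F) *ᵥ v) = 0 := by
    intro halt
    have h1 := Cfsg.Agent.S2166.even_rank_of_alt t.1 t.2 htt halt
    rw [hs, hj] at h1
    exact (Nat.not_even_iff_odd.mpr ⟨j, rfl⟩) h1
  have hmain := card_centralizer_of_data e (betaB j F) (betaB j F)
    (betaB_symm j) (betaB_mul_self j) t ht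
    (by rw [hs]; simp only [Fintype.card_sum, Fintype.card_fin, Fintype.card_unit]; omega)
    (iff_of_false hnalt (betaB_nonalt j))
  rw [hmain, card_O_betaB j, card_sp' hF j, card_sp' hF k, hF]
  simp only [Fintype.card_sum, Fintype.card_fin, Fintype.card_unit]
  have hms : m - s = k := by omega
  have hs2 : (s - 1) / 2 = j := by omega
  rw [hms, hs2, hk, hj, exp_arith_b j k]
  rw [pow_add]
  ring

end Cfsg.Agent.S2680
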